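import Mathlib
import Cfsg.Prelude.Def_Characters

set_option autoImplicit false

namespace Cfsg.Agent.helper12

open scoped ComplexConjugate

variable {G : Type*} [Group G]

theorem extendByZero_of_mem' (H : Subgroup G) (θ : H → ℂ) (g : G) (hg : g ∈ H) :
    Cfsg.extendByZero H θ g = θ ⟨g, hg⟩ := by
  unfold Cfsg.extendByZero
  exact Subtype.val_injective.extend_apply θ 0 ⟨g, hg⟩

theorem extendByZero_of_not_mem' (H : Subgroup G) (θ : H → ℂ) (g : G) (hg : g ∉ H) :
    Cfsg.extendByZero H θ g = 0 := by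
  unfold Cfsg.extendByZero
  rw [Function.extend_apply']
  · rfl
  · rintro ⟨a, ha⟩
    exact hg (ha ▸ a.2)

/-- the extension by zero of an `H`-class function is invariant under `H`-conjugation -/
theorem extendByZero_conj (H : Subgroup G) (θ : H → ℂ) (hθ : ∀ h y : H, θ (h⁻¹ * y * h) = θ y)
    (h : H) (y : G) : Cfsg.extendByZero H θ ((h : G)⁻¹ * y * h) = Cfsg.extendByZero H θ y := by
  by_cases hy : y ∈ H
  · have h1 : (h : G)⁻¹ * y * h ∈ H := H.mul_mem (H.mul_mem (H.inv_mem h.2) hy) h.2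
    rw [extendByZero_of_mem' H θ _ h1, extendByZero_of_mem' H θ _ hy]
    exact hθ h ⟨y, hy⟩
  · have h1 : (h : G)⁻¹ * y * h ∉ H := by
      intro hc
      apply hy
      have : y = (h : G) * ((h : G)⁻¹ * y * h) * (h : G)⁻¹ := by group
      rw [this]
      exact H.mul_mem (H.mul_mem h.2 hc) (H.inv_mem h.2)
    rw [extendByZero_of_not_mem' H θ _ h1, extendByZero_of_not_mem' H θ _ hy]

/-- the induced function as a sum over coset representatives -/
theorem indFun_eq_sum_reps [Fintype G] (H : Subgroup G) (θ : H → ℂ)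
    (hθ : ∀ h y : H, θ (h⁻¹ * y * h) = θ y) {ι : Type*} [Fintype ι] (r : ι → G)
    (hr : Function.Bijective (fun p : ι × H => r p.1 * (p.2 : G))) (g : G) :
    Cfsg.indFun H θ g = ∑ i, Cfsg.extendByZero H θ ((r i)⁻¹ * g * r i) := by
  classical
  have : Fintype H := Fintype.ofFinite H
  unfold Cfsg.indFun
  rw [← (Equiv.ofBijective _ hr).sum_comp, Fintype.sum_prod_type]
  simp only [Equiv.ofBijective_apply]
  have h1 : ∀ i : ι, ∑ h : H, Cfsg.extendByZero H θ ((r i * (h : G))⁻¹ * g * (r i * (h : G)))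
      = (Nat.card H : ℂ) * Cfsg.extendByZero H θ ((r i)⁻¹ * g * r i) := by
    intro i
    have h2 : ∀ h : H, Cfsg.extendByZero H θ ((r i * (h : G))⁻¹ * g * (r i * (h : G)))
        = Cfsg.extendByZero H θ ((r i)⁻¹ * g * r i) := by
      intro h
      rw [← extendByZero_conj H θ hθ h ((r i)⁻¹ * g * r i)]
      congr 1
      group
    rw [Finset.sum_congr rfl (fun h _ => h2 h), Finset.sum_const, Finset.card_univ, nsmul_eq_mul,
      Nat.card_eq_fintype_card]
  rw [Finset.sum_congr rfl (fun i _ => h1 i), ← Finset.mul_sum, ← mul_assoc, inv_mul_cancel₀, one_mul]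
  have : 0 < Nat.card H := Nat.card_pos
  exact_mod_cast this.ne'

/-- induced functions are class functions -/
theorem indFun_isClassFunction [Fintype G] (H : Subgroup G) (θ : H → ℂ) :
    Cfsg.IsClassFunction G (Cfsg.indFun H θ) := by
  intro g y
  unfold Cfsg.indFun
  congr 1
  refine (Fintype.sum_equiv (Equiv.mulLeft y) _ _ (fun x => ?_)).symm
  simp only [Equiv.coe_mulLeft]
  congr 1
  group

/-- Frobenius reciprocity, at the level of functions -/
theorem classInner_indFun [Fintype G] (H : Subgroup G) (θ : H → ℂ) (ψ : G → ℂ)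
    (hψ : Cfsg.IsClassFunction G ψ) :
    Cfsg.classInner (Cfsg.indFun H θ) ψ
      = (Nat.card H : ℂ)⁻¹ * ∑ g : G, Cfsg.extendByZero H θ g * conj (ψ g) := by
  unfold Cfsg.classInner Cfsg.indFun
  have h1 : ∑ g : G, ((Nat.card H : ℂ)⁻¹ * ∑ x : G, Cfsg.extendByZero H θ (x⁻¹ * g * x)) * conj (ψ g)
      = (Nat.card H : ℂ)⁻¹ * ∑ x : G, ∑ g : G, Cfsg.extendByZero H θ (x⁻¹ * g * x) * conj (ψ g) := by
    rw [Finset.sum_comm, Finset.mul_sum]
    apply Finset.sum_congr rfl
    intro g _
    rw [mul_assoc, Finset.sum_mul]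
  have h2 : ∀ x : G, ∑ g : G, Cfsg.extendByZero H θ (x⁻¹ * g * x) * conj (ψ g)
      = ∑ g : G, Cfsg.extendByZero H θ g * conj (ψ g) := by
    intro x
    refine (Fintype.sum_equiv (MulAut.conj x).toEquiv _ _ (fun g => ?_)).symm
    simp only [MulEquiv.toEquiv_eq_coe, EquivLike.coe_coe, MulAut.conj_apply]
    rw [hψ g x]
    congr 2
    group
  rw [h1, Finset.sum_congr rfl (fun x _ => h2 x), Finset.sum_const, Finset.card_univ, nsmul_eq_mul,
    Nat.card_eq_fintype_card (α := G)]
  have : (Fintype.card G : ℂ) ≠ 0 := by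
    have : 0 < Fintype.card G := Fintype.card_pos
    exact_mod_cast this.ne'
  field_simp

end Cfsg.Agent.helper12
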