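import Cfsg.Agent.Lib_helper24_CharWed

set_option autoImplicit false

namespace Cfsg.Agent.helper24

open scoped ComplexConjugate

universe u
variable {G : Type u} [Group G]

theorem isClassFunction_iff_isConj {f : G → ℂ} :
    IsClassFunction G f ↔ ∀ a b : G, IsConj a b → f a = f b := by
  constructor
  · intro hf a b hab
    obtain ⟨c, hc⟩ := isConj_iff.mp hab
    rw [← hc, hf a c]
  · intro h g x
    exact (h g (x * g * x⁻¹) (isConj_iff.mpr ⟨x, rfl⟩)).symm

theorem isClassFunction_zero : IsClassFunction G (0 : G → ℂ) := fun _ _ => rfl

theorem isClassFunction_add {f₁ f₂ : G → ℂ} (h₁ : IsClassFunction G f₁)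
    (h₂ : IsClassFunction G f₂) : IsClassFunction G (f₁ + f₂) := fun g x => by
  simp [h₁ g x, h₂ g x]

theorem isClassFunction_sub {f₁ f₂ : G → ℂ} (h₁ : IsClassFunction G f₁)
    (h₂ : IsClassFunction G f₂) : IsClassFunction G (f₁ - f₂) := fun g x => by
  simp [h₁ g x, h₂ g x]

theorem isClassFunction_smul (c : ℂ) {f : G → ℂ} (h : IsClassFunction G f) :
    IsClassFunction G (c • f) := fun g x => by
  simp [h g x]

theorem isClassFunction_sum {ι : Type*} (s : Finset ι) {f : ι → G → ℂ}
    (h : ∀ i ∈ s, IsClassFunction G (f i)) : IsClassFunction G (∑ i ∈ s, f i) := fun g x => by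
  simp only [Finset.sum_apply]
  exact Finset.sum_congr rfl (fun i hi => h i hi g x)

theorem isClassFunction_comp_mk (φ : ConjClasses G → ℂ) :
    IsClassFunction G (φ ∘ ConjClasses.mk) := by
  rw [isClassFunction_iff_isConj]
  intro a b hab
  simp only [Function.comp_apply]
  rw [ConjClasses.mk_eq_mk_iff_isConj.mpr hab]

theorem exists_lift_classFunction {f : G → ℂ} (hf : IsClassFunction G f) :
    ∃ φ : ConjClasses G → ℂ, ∀ g, φ (ConjClasses.mk g) = f g :=
  ⟨fun K => Quotient.liftOn K f (fun a b hab => isClassFunction_iff_isConj.mp hf a b hab),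
    fun _ => rfl⟩

/-- Expansion of a class function in terms of the irreducible characters. -/
theorem classFunction_expansion [Fintype G] [Fintype (IrrCharacter G)] {f : G → ℂ}
    (hf : IsClassFunction G f) :
    f = ∑ χ : IrrCharacter G, classInner f (χ : G → ℂ) • (χ : G → ℂ) := by
  classical
  have h0 : f - ∑ χ : IrrCharacter G, classInner f (χ : G → ℂ) • (χ : G → ℂ) = 0 := by
    apply irr_complete
    · apply isClassFunction_sub hf
      apply isClassFunction_sum
      intro χ _
      exact isClassFunction_smul _ (char_isClassFunction (irr_isCharacter χ.2))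
    · intro ψ
      rw [classInner_sub_left, classInner_sum_left, Finset.sum_eq_single ψ]
      · rw [classInner_smul_left, irr_classInner_self ψ.2, mul_one, sub_self]
      · intro χ _ hχ
        rw [classInner_smul_left, irr_classInner_ne χ.2 ψ.2 (fun h => hχ (Subtype.ext h)), mul_zero]
      · intro h; exact absurd (Finset.mem_univ ψ) h
  exact sub_eq_zero.mp h0

/-- The number of irreducible characters equals the number of conjugacy classes. -/
theorem card_irr_eq_card_conjClasses [Finite G] :
    Nat.card (IrrCharacter G) = Nat.card (ConjClasses G) := by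
  classical
  have := Fintype.ofFinite G
  have := Fintype.ofFinite (IrrCharacter G)
  have := Fintype.ofFinite (ConjClasses G)
  rw [Nat.card_eq_fintype_card, Nat.card_eq_fintype_card]
  apply le_antisymm
  · -- lifts of the irreducible characters are linearly independent
    choose φ hφ using fun χ : IrrCharacter G =>
      exists_lift_classFunction (char_isClassFunction (irr_isCharacter χ.2))
    have hli : LinearIndependent ℂ φ := by
      rw [linearIndependent_iff']
      intro s c hc χ hχ
      have h2 : ∑ ψ ∈ s, c ψ • (ψ : G → ℂ) = 0 := by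
        funext g
        have := congrFun hc (ConjClasses.mk g)
        simpa [hφ] using this
      exact (linearIndependent_iff'.mp (irr_linearIndependent (G := G))) s c h2 χ hχ
    have := hli.fintype_card_le_finrank
    simpa using this
  · let Ψ : (ConjClasses G → ℂ) →ₗ[ℂ] (IrrCharacter G → ℂ) :=
      { toFun := fun φ χ => classInner (φ ∘ ConjClasses.mk) (χ : G → ℂ)
        map_add' := fun a b => by
          funext χ
          have : (a + b) ∘ ConjClasses.mk = a ∘ ConjClasses.mk + b ∘ (ConjClasses.mk : G → _) := rfl
          simp only [this, classInner_add_left, Pi.add_apply]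
        map_smul' := fun c a => by
          funext χ
          have : (c • a) ∘ ConjClasses.mk = c • (a ∘ (ConjClasses.mk : G → _)) := rfl
          simp only [this, classInner_smul_left, Pi.smul_apply, smul_eq_mul, RingHom.id_apply] }
    have hinj : Function.Injective Ψ := by
      rw [← LinearMap.ker_eq_bot, LinearMap.ker_eq_bot']
      intro φ hφ
      have h1 : φ ∘ ConjClasses.mk = (0 : G → ℂ) := by
        apply irr_complete (isClassFunction_comp_mk φ)
        intro χ
        exact congrFun hφ χ
      funext K
      obtain ⟨g, rfl⟩ := ConjClasses.mk_surjective K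
      exact congrFun h1 g
    have := LinearMap.finrank_le_finrank_of_injective hinj
    simpa using this

/-- The size of the conjugacy class of `g` is the index of its centralizer. -/
theorem card_conj_eq_index (g : G) :
    Nat.card {x : G // IsConj x g} = (Subgroup.centralizer ({g} : Set G)).index := by
  have h1 : (Subgroup.centralizer ({g} : Set G)).index =
      (MulAction.stabilizer (ConjAct G) g).index := by
    rw [Subgroup.centralizer_eq_comap_stabilizer]
    exact Subgroup.index_comap_of_surjective (MulAction.stabilizer (ConjAct G) g)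
      (f := (ConjAct.toConjAct (G := G)).toMonoidHom) (ConjAct.toConjAct (G := G)).surjective
  rw [h1, MulAction.index_stabilizer, ← Nat.card_coe_set_eq]
  apply Nat.card_congr
  exact Equiv.subtypeEquivRight (fun x => by rw [ConjAct.mem_orbit_conjAct])

theorem card_conj_mul_card_centralizer [Finite G] (g : G) :
    Nat.card {x : G // IsConj x g} * Nat.card (Subgroup.centralizer ({g} : Set G)) = Nat.card G := by
  rw [card_conj_eq_index, mul_comm, Subgroup.card_mul_index]

open scoped Classical in
theorem sum_indicator_conj [Fintype G] {f : G → ℂ} (hf : IsClassFunction G f) (h : G) :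
    ∑ g : G, (if IsConj g h then f g else 0) = (Nat.card {x : G // IsConj x h} : ℂ) * f h := by
  classical
  rw [← Finset.sum_filter]
  have : ∀ g ∈ Finset.univ.filter (fun g : G => IsConj g h), f g = f h := by
    intro g hg
    exact isClassFunction_iff_isConj.mp hf g h (Finset.mem_filter.mp hg).2
  rw [Finset.sum_congr rfl this, Finset.sum_const, nsmul_eq_mul]
  congr 2
  rw [Nat.card_eq_fintype_card, Fintype.card_subtype]

open scoped Classical in
/-- Column orthogonality (second orthogonality relation). -/
theorem irr_column_orthogonality [Finite G] [Fintype (IrrCharacter G)] (g h : G) :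
    ∑ χ : IrrCharacter G, (χ : G → ℂ) g * conj ((χ : G → ℂ) h) =
      if IsConj g h then (Nat.card (Subgroup.centralizer ({h} : Set G)) : ℂ) else 0 := by
  classical
  have := Fintype.ofFinite G
  set δ : G → ℂ := fun x => if IsConj x h then 1 else 0 with hδ
  have hδcf : IsClassFunction G δ := by
    rw [isClassFunction_iff_isConj]
    intro a b hab
    simp only [hδ]
    by_cases hb : IsConj b h
    · rw [if_pos hb, if_pos (hab.trans hb)]
    · rw [if_neg hb, if_neg (fun ha => hb (hab.symm.trans ha))]
  have hinner : ∀ χ : IrrCharacter G, classInner δ (χ : G → ℂ) =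
      (Nat.card G : ℂ)⁻¹ * ((Nat.card {x : G // IsConj x h} : ℂ) * conj ((χ : G → ℂ) h)) := by
    intro χ
    rw [classInner]
    congr 1
    have hcf : IsClassFunction G (fun x => conj ((χ : G → ℂ) x)) := by
      intro a b
      simp only
      rw [char_isClassFunction (irr_isCharacter χ.2) a b]
    rw [← sum_indicator_conj hcf h]
    refine Finset.sum_congr rfl (fun x _ => ?_)
    simp only [hδ]
    split_ifs <;> simp
  have hexp := congrFun (classFunction_expansion hδcf) g
  simp only [Finset.sum_apply, Pi.smul_apply, smul_eq_mul, hinner] at hexp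
  have hG : (Nat.card G : ℂ) ≠ 0 := by exact_mod_cast Nat.card_pos.ne'
  have hK : (Nat.card {x : G // IsConj x h} : ℂ) ≠ 0 := by
    have : 0 < Nat.card {x : G // IsConj x h} := by
      have : Nonempty {x : G // IsConj x h} := ⟨⟨h, IsConj.refl h⟩⟩
      exact Nat.card_pos
    exact_mod_cast this.ne'
  have hcard := card_conj_mul_card_centralizer h
  have hcard' : (Nat.card {x : G // IsConj x h} : ℂ) * (Nat.card (Subgroup.centralizer ({h} : Set G)) : ℂ)
      = (Nat.card G : ℂ) := by exact_mod_cast hcard
  have hsum : ∑ χ : IrrCharacter G, (χ : G → ℂ) g * conj ((χ : G → ℂ) h) =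
      (Nat.card (Subgroup.centralizer ({h} : Set G)) : ℂ) * δ g := by
    rw [hexp, Finset.mul_sum]
    refine Finset.sum_congr rfl (fun χ _ => ?_)
    have : (Nat.card (Subgroup.centralizer ({h} : Set G)) : ℂ) =
        (Nat.card G : ℂ) / (Nat.card {x : G // IsConj x h} : ℂ) := by
      rw [eq_div_iff hK, mul_comm, hcard']
    rw [this]
    field_simp
  rw [hsum]
  simp only [hδ]
  split_ifs <;> simp


end Cfsg.Agent.helper24
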