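import Mathlib
import Cfsg.Agent.Lib_helper24_CharCount
import Cfsg.Agent.Lib_helper12_IndFun

set_option autoImplicit false

namespace Cfsg.Agent.helper12

open Cfsg
open scoped ComplexConjugate

universe u
variable {G : Type u} [Group G]

/-- the character of any finite-dimensional complex representation is a character -/
theorem isCharacter_of_rep {V : Type*} [AddCommGroup V] [Module ℂ V] [FiniteDimensional ℂ V]
    (ρ : Representation ℂ G V) : IsCharacter G ρ.character := by
  let n := Module.finrank ℂ V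
  let e : V ≃ₗ[ℂ] (Fin n → ℂ) := (Module.finBasis ℂ V).equivFun
  let ρ' : Representation ℂ G (Fin n → ℂ) :=
    { toFun := fun g => e.conj (ρ g)
      map_one' := by
        rw [map_one]
        exact LinearEquiv.conj_id e
      map_mul' := fun g h => by
        rw [map_mul]
        exact (LinearEquiv.conj_comp e _ _) }
  refine ⟨n, ρ', ?_⟩
  have φ : ρ.Equiv ρ' := Representation.Equiv.mk e (fun g => by
    ext v
    simp [ρ', LinearEquiv.conj_apply])
  exact (Representation.char_iso φ).symm

theorem isCharacter_zero : IsCharacter G (0 : G → ℂ) := by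
  refine ⟨0, 1, ?_⟩
  funext g
  simp [Representation.character]

theorem isCharacter_add {χ ψ : G → ℂ} (hχ : IsCharacter G χ) (hψ : IsCharacter G ψ) :
    IsCharacter G (χ + ψ) := by
  obtain ⟨n, ρ, rfl⟩ := hχ
  obtain ⟨m, σ, rfl⟩ := hψ
  have := isCharacter_of_rep (ρ.prod σ)
  convert this using 1
  funext g
  simp only [Representation.character, Pi.add_apply]
  have : (ρ.prod σ) g = (ρ g).prodMap (σ g) := rfl
  rw [this, LinearMap.trace_prodMap']

theorem isCharacter_nsmul (n : ℕ) {χ : G → ℂ} (hχ : IsCharacter G χ) : IsCharacter G (n • χ) := by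
  induction n with
  | zero => rw [zero_smul]; exact isCharacter_zero
  | succ k ih => rw [succ_nsmul]; exact isCharacter_add ih hχ

theorem isCharacter_sum {ι : Type*} (s : Finset ι) (f : ι → G → ℂ) (h : ∀ i ∈ s, IsCharacter G (f i)) :
    IsCharacter G (∑ i ∈ s, f i) := by
  classical
  induction s using Finset.induction_on with
  | empty => rw [Finset.sum_empty]; exact isCharacter_zero
  | insert a s ha ih =>
    rw [Finset.sum_insert ha]
    exact isCharacter_add (h a (Finset.mem_insert_self a s)) (ih (fun i hi => h i (Finset.mem_insert_of_mem hi)))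

theorem isCharacter_restrict (H : Subgroup G) {χ : G → ℂ} (hχ : IsCharacter G χ) :
    IsCharacter H (fun h => χ (h : G)) := by
  obtain ⟨n, ρ, rfl⟩ := hχ
  exact ⟨n, ρ.comp H.subtype, rfl⟩

/-- a multiplicative map to ℂ is a (linear) character -/
theorem isCharacter_of_monoidHom (f : G →* ℂ) : IsCharacter G f := by
  let ρ : Representation ℂ G (Fin 1 → ℂ) :=
    { toFun := fun g => f g • LinearMap.id
      map_one' := by
        rw [map_one, one_smul]
        rfl
      map_mul' := fun g h => by
        rw [map_mul]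
        ext v
        simp [mul_assoc]
        ring }
  refine ⟨1, ρ, ?_⟩
  funext g
  simp [Representation.character, ρ]

/-- the inner product of two characters is a natural number -/
theorem classInner_char_nat [Fintype G] {χ ψ : G → ℂ} (hχ : IsCharacter G χ) (hψ : IsCharacter G ψ) :
    ∃ n : ℕ, classInner χ ψ = n := by
  obtain ⟨n, ρ, rfl⟩ := hχ
  obtain ⟨m, σ, rfl⟩ := hψ
  have hinv : Invertible (Nat.card G : ℂ) := invertibleOfNonzero (by
    have : 0 < Nat.card G := Nat.card_pos
    exact_mod_cast this.ne')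
  refine ⟨Module.finrank ℂ (Representation.IntertwiningMap σ ρ), ?_⟩
  rw [← Representation.card_inv_mul_sum_char_mul_char_eq_finrank]
  simp only [classInner, helper24.rep_char_inv]

/-- a class function all of whose inner products with irreducible characters are natural numbers is a character -/
theorem isCharacter_of_classInner_nat [Fintype G] {f : G → ℂ} (hf : IsClassFunction G f)
    (h : ∀ ψ : IrrCharacter G, ∃ n : ℕ, classInner f (ψ : G → ℂ) = n) : IsCharacter G f := by
  classical
  have : Fintype (IrrCharacter G) := Fintype.ofFinite _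
  choose n hn using h
  rw [helper24.classFunction_expansion hf]
  apply isCharacter_sum
  intro ψ _
  rw [hn ψ, Nat.cast_smul_eq_nsmul]
  exact isCharacter_nsmul _ (helper24.irr_isCharacter ψ.2)

theorem sum_extendByZero_mul [Fintype G] (H : Subgroup G) [Fintype H] (θ : H → ℂ) (c : G → ℂ) :
    ∑ g : G, extendByZero H θ g * c g = ∑ h : H, θ h * c h := by
  classical
  have h1 : ∑ g : G, extendByZero H θ g * c g
      = ∑ g ∈ Finset.univ.filter (fun g => g ∈ H), extendByZero H θ g * c g := by
    symm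
    apply Finset.sum_subset (Finset.filter_subset _ _)
    intro g _ hg
    rw [Finset.mem_filter] at hg
    push Not at hg
    rw [extendByZero_of_not_mem' H θ g (hg (Finset.mem_univ g)), zero_mul]
  rw [h1, Finset.sum_subtype (p := fun g => g ∈ H) _ (fun x => by simp)]
  apply Finset.sum_congr rfl
  intro h _
  rw [extendByZero_of_mem' H θ _ h.2]

/-- Frobenius reciprocity in terms of the restricted function -/
theorem classInner_indFun_eq_restrict [Fintype G] (H : Subgroup G) [Fintype H] (θ : H → ℂ) (ψ : G → ℂ)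
    (hψ : IsClassFunction G ψ) :
    classInner (indFun H θ) ψ = classInner θ (fun h : H => ψ (h : G)) := by
  rw [classInner_indFun H θ ψ hψ, sum_extendByZero_mul]
  rfl

/-- the function induced from a character is a character -/
theorem isCharacter_indFun [Fintype G] (H : Subgroup G) {θ : H → ℂ} (hθ : IsCharacter H θ) :
    IsCharacter G (indFun H θ) := by
  classical
  have : Fintype H := Fintype.ofFinite _
  apply isCharacter_of_classInner_nat (indFun_isClassFunction H θ)
  intro ψ
  rw [classInner_indFun_eq_restrict H θ _ (helper24.char_isClassFunction (helper24.irr_isCharacter ψ.2))]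
  exact classInner_char_nat hθ (isCharacter_restrict H (helper24.irr_isCharacter ψ.2))

/-- decomposition of a character into irreducibles with natural multiplicities -/
theorem char_decomp [Fintype G] [Fintype (IrrCharacter G)] {χ : G → ℂ} (hχ : IsCharacter G χ) :
    ∃ n : IrrCharacter G → ℕ, (χ = ∑ ψ : IrrCharacter G, (n ψ : ℂ) • (ψ : G → ℂ)) ∧
      (∀ ψ : IrrCharacter G, classInner χ (ψ : G → ℂ) = n ψ) ∧
      classInner χ χ = ((∑ ψ : IrrCharacter G, n ψ ^ 2 : ℕ) : ℂ) := by
  classical
  choose n hn using fun ψ : IrrCharacter G => classInner_char_nat hχ (helper24.irr_isCharacter ψ.2)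
  have hexp : χ = ∑ ψ : IrrCharacter G, (n ψ : ℂ) • (ψ : G → ℂ) := by
    conv_lhs => rw [helper24.classFunction_expansion (helper24.char_isClassFunction hχ)]
    apply Finset.sum_congr rfl
    intro ψ _
    rw [hn ψ]
  refine ⟨n, hexp, hn, ?_⟩
  conv_lhs => arg 1; rw [hexp]
  rw [helper24.classInner_sum_left, Nat.cast_sum]
  apply Finset.sum_congr rfl
  intro ψ _
  rw [helper24.classInner_smul_left, ← helper24.classInner_conj_symm, hn ψ, Complex.conj_natCast]
  push_cast
  ring

/-- a character of norm one is irreducible -/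
theorem isIrrCharacter_of_classInner_self [Fintype G] {χ : G → ℂ} (hχ : IsCharacter G χ)
    (h1 : classInner χ χ = 1) : IsIrrCharacter G χ := by
  classical
  have : Fintype (IrrCharacter G) := Fintype.ofFinite _
  obtain ⟨n, hexp, hn, hnorm⟩ := char_decomp hχ
  rw [h1] at hnorm
  have hsum : ∑ ψ : IrrCharacter G, n ψ ^ 2 = 1 := by exact_mod_cast hnorm.symm
  have hex : ∃ ψ0, n ψ0 ≠ 0 := by
    by_contra hcon
    push Not at hcon
    simp [hcon] at hsum
  obtain ⟨ψ0, h0⟩ := hex
  have hsplit := Finset.add_sum_erase Finset.univ (fun ψ => n ψ ^ 2) (Finset.mem_univ ψ0)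
  rw [hsum] at hsplit
  have hpos : 1 ≤ n ψ0 ^ 2 := Nat.one_le_pow _ _ (Nat.pos_of_ne_zero h0)
  have hrest : ∑ ψ ∈ Finset.univ.erase ψ0, n ψ ^ 2 = 0 := by omega
  have h01 : n ψ0 ^ 2 = 1 := by omega
  have h01' : n ψ0 = 1 := by
    rcases Nat.pow_eq_one.mp h01 with h | h
    · exact h
    · omega
  have hzero : ∀ ψ, ψ ≠ ψ0 → n ψ = 0 := by
    intro ψ hψ
    have := (Finset.sum_eq_zero_iff.mp hrest) ψ (Finset.mem_erase.mpr ⟨hψ, Finset.mem_univ ψ⟩)
    exact pow_eq_zero_iff (two_ne_zero) |>.mp this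
  have : χ = (ψ0 : G → ℂ) := by
    rw [hexp, Finset.sum_eq_single ψ0]
    · rw [h01', Nat.cast_one, one_smul]
    · intro ψ _ hψ
      rw [hzero ψ hψ, Nat.cast_zero, zero_smul]
    · intro h; exact absurd (Finset.mem_univ ψ0) h
  rw [this]
  exact ψ0.2

/-- a character of norm two is a sum of two distinct irreducible characters -/
theorem exists_irr_add_of_classInner_self_eq_two [Fintype G] {χ : G → ℂ} (hχ : IsCharacter G χ)
    (h2 : classInner χ χ = 2) :
    ∃ χ₁ χ₂ : G → ℂ, IsIrrCharacter G χ₁ ∧ IsIrrCharacter G χ₂ ∧ χ₁ ≠ χ₂ ∧ χ = χ₁ + χ₂ := by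
  classical
  have : Fintype (IrrCharacter G) := Fintype.ofFinite _
  obtain ⟨n, hexp, hn, hnorm⟩ := char_decomp hχ
  rw [h2] at hnorm
  have hsum : ∑ ψ : IrrCharacter G, n ψ ^ 2 = 2 := by exact_mod_cast hnorm.symm
  have hex : ∃ ψ0, n ψ0 ≠ 0 := by
    by_contra hcon
    push Not at hcon
    simp [hcon] at hsum
  obtain ⟨ψ0, h0⟩ := hex
  have hsplit := Finset.add_sum_erase Finset.univ (fun ψ => n ψ ^ 2) (Finset.mem_univ ψ0)
  rw [hsum] at hsplit
  have h01' : n ψ0 = 1 := by
    have hlt : n ψ0 < 2 := by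
      by_contra hge
      push Not at hge
      have : 4 ≤ n ψ0 ^ 2 := by nlinarith
      omega
    omega
  have hrest : ∑ ψ ∈ Finset.univ.erase ψ0, n ψ ^ 2 = 1 := by
    rw [h01'] at hsplit; omega
  have hex1 : ∃ ψ1 ∈ Finset.univ.erase ψ0, n ψ1 ≠ 0 := by
    by_contra hcon
    push Not at hcon
    rw [Finset.sum_eq_zero (fun ψ hψ => by rw [hcon ψ hψ]; rfl)] at hrest
    omega
  obtain ⟨ψ1, hψ1, h1⟩ := hex1
  have hsplit1 := Finset.add_sum_erase (Finset.univ.erase ψ0) (fun ψ => n ψ ^ 2) hψ1
  rw [hrest] at hsplit1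
  have hpos : 1 ≤ n ψ1 ^ 2 := Nat.one_le_pow _ _ (Nat.pos_of_ne_zero h1)
  have hrest1 : ∑ ψ ∈ (Finset.univ.erase ψ0).erase ψ1, n ψ ^ 2 = 0 := by omega
  have h11 : n ψ1 ^ 2 = 1 := by omega
  have h11' : n ψ1 = 1 := by
    rcases Nat.pow_eq_one.mp h11 with h | h
    · exact h
    · omega
  have hne : ψ1 ≠ ψ0 := (Finset.mem_erase.mp hψ1).1
  have hzero : ∀ ψ, ψ ≠ ψ0 → ψ ≠ ψ1 → n ψ = 0 := by
    intro ψ hψ hψ'
    have := (Finset.sum_eq_zero_iff.mp hrest1) ψ
      (Finset.mem_erase.mpr ⟨hψ', Finset.mem_erase.mpr ⟨hψ, Finset.mem_univ ψ⟩⟩)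
    exact pow_eq_zero_iff (two_ne_zero) |>.mp this
  refine ⟨ψ0, ψ1, ψ0.2, ψ1.2, fun h => hne (Subtype.ext h.symm), ?_⟩
  rw [hexp, ← Finset.add_sum_erase Finset.univ _ (Finset.mem_univ ψ0),
    ← Finset.add_sum_erase (Finset.univ.erase ψ0) _ hψ1, Finset.sum_eq_zero, add_zero, h01', h11',
    Nat.cast_one, one_smul, one_smul]
  intro ψ hψ
  rw [Finset.mem_erase, Finset.mem_erase] at hψ
  rw [hzero ψ hψ.2.1 hψ.1, Nat.cast_zero, zero_smul]

end Cfsg.Agent.helper12
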