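import Cfsg.Agent.Lib_helper24_CharQuot

set_option autoImplicit false

namespace Cfsg.Agent.helper24

open scoped ComplexConjugate

universe u v
variable {G : Type u} [Group G]

/-- The kernel of a character, as a subgroup. -/
noncomputable def charKer [Finite G] {χ : G → ℂ} (h : IsCharacter G χ) : Subgroup G :=
  (char_exists_ker h).choose

instance charKer_normal [Finite G] {χ : G → ℂ} (h : IsCharacter G χ) : (charKer h).Normal :=
  (char_exists_ker h).choose_spec.1

theorem mem_charKer [Finite G] {χ : G → ℂ} (h : IsCharacter G χ) (g : G) :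
    g ∈ charKer h ↔ χ g = χ 1 :=
  (char_exists_ker h).choose_spec.2 g

theorem card_charKer [Finite G] {χ : G → ℂ} (h : IsCharacter G χ) :
    Nat.card {g : G // χ g = χ 1} = Nat.card (charKer h) := by
  apply Nat.card_congr
  exact Equiv.subtypeEquivRight (fun g => (mem_charKer h g).symm)

/-- The codegree of a class function, as written in the statements. -/
noncomputable def codeg (χ : G → ℂ) : ℕ :=
  Nat.card G / (Nat.card {g : G // χ g = χ 1} * charDegree χ)

theorem codeg_def (χ : G → ℂ) :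
    codeg χ = Nat.card G / (Nat.card {g : G // χ g = χ 1} * charDegree χ) := rfl

/-- `|ker χ| * χ(1)` divides `|G|`. -/
theorem irr_ker_mul_degree_dvd_card [Finite G] {χ : G → ℂ} (hχ : IsIrrCharacter G χ) :
    Nat.card {g : G // χ g = χ 1} * charDegree χ ∣ Nat.card G := by
  have hc := irr_isCharacter hχ
  rw [card_charKer hc]
  obtain ⟨ψ, hψ, hχψ⟩ := irr_deflation (charKer hc) hχ (fun n hn => (mem_charKer hc n).mp hn)
  have h1 : charDegree ψ ∣ Nat.card (G ⧸ charKer hc) := irr_degree_dvd_card hψ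
  have h2 : charDegree χ = charDegree ψ := by
    simp only [charDegree, hχψ, Function.comp_apply]
    rfl
  rw [h2, Subgroup.card_eq_card_quotient_mul_card_subgroup (charKer hc), mul_comm]
  exact Nat.mul_dvd_mul_right h1 _

theorem codeg_dvd_card [Finite G] {χ : G → ℂ} (hχ : IsIrrCharacter G χ) :
    codeg χ ∣ Nat.card G :=
  Nat.div_dvd_of_dvd (irr_ker_mul_degree_dvd_card hχ)

theorem codeg_mul [Finite G] {χ : G → ℂ} (hχ : IsIrrCharacter G χ) :
    codeg χ * (Nat.card {g : G // χ g = χ 1} * charDegree χ) = Nat.card G :=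
  Nat.div_mul_cancel (irr_ker_mul_degree_dvd_card hχ)

/-- The kernel of an inflated function. -/
theorem card_ker_inflation [Finite G] (N : Subgroup G) [N.Normal] {ψ : G ⧸ N → ℂ}
    (hψ : IsCharacter (G ⧸ N) ψ) :
    Nat.card {g : G // (ψ ∘ (QuotientGroup.mk : G → G ⧸ N)) g = (ψ ∘ (QuotientGroup.mk : G → G ⧸ N)) 1}
      = Nat.card N * Nat.card {q : G ⧸ N // ψ q = ψ 1} := by
  rw [card_charKer hψ]
  have h1 : Nat.card {g : G // (ψ ∘ (QuotientGroup.mk : G → G ⧸ N)) g =
      (ψ ∘ (QuotientGroup.mk : G → G ⧸ N)) 1} =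
      Nat.card ((charKer hψ).comap (QuotientGroup.mk' N)) := by
    apply Nat.card_congr
    refine Equiv.subtypeEquivRight (fun g => ?_)
    rw [Subgroup.mem_comap, mem_charKer]
    rfl
  rw [h1]
  have h2 : ((charKer hψ).comap (QuotientGroup.mk' N)).index = (charKer hψ).index :=
    Subgroup.index_comap_of_surjective _ (QuotientGroup.mk'_surjective N)
  have h3 := Subgroup.card_mul_index ((charKer hψ).comap (QuotientGroup.mk' N))
  have h4 := Subgroup.card_mul_index (charKer hψ)
  have h5 := Subgroup.card_eq_card_quotient_mul_card_subgroup N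
  rw [h2] at h3
  have hpos : 0 < (charKer hψ).index := Nat.pos_of_ne_zero (Subgroup.index_ne_zero_of_finite)
  apply Nat.eq_of_mul_eq_mul_right hpos
  rw [h3, h5, ← h4]
  ring

/-- The codegree is invariant under inflation. -/
theorem codeg_inflation [Finite G] (N : Subgroup G) [N.Normal] {ψ : G ⧸ N → ℂ}
    (hψ : IsCharacter (G ⧸ N) ψ) :
    codeg (ψ ∘ (QuotientGroup.mk : G → G ⧸ N)) = codeg ψ := by
  rw [codeg_def, codeg_def, card_ker_inflation N hψ,
    Subgroup.card_eq_card_quotient_mul_card_subgroup N]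
  have h2 : charDegree (ψ ∘ (QuotientGroup.mk : G → G ⧸ N)) = charDegree ψ := by
    simp only [charDegree, Function.comp_apply]
    rfl
  rw [h2, mul_comm (Nat.card (G ⧸ N)), mul_assoc]
  exact Nat.mul_div_mul_left _ _ Nat.card_pos

/-- A faithful function has codegree `|G| / χ(1)`. -/
theorem codeg_faithful [Finite G] {χ : G → ℂ} (hf : ∀ g, χ g = χ 1 → g = 1) :
    codeg χ = Nat.card G / charDegree χ := by
  rw [codeg_def]
  have : Nat.card {g : G // χ g = χ 1} = 1 := by
    rw [Nat.card_eq_one_iff_unique]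
    refine ⟨⟨fun a b => Subtype.ext ?_⟩, ⟨⟨1, rfl⟩⟩⟩
    rw [hf a.1 a.2, hf b.1 b.2]
  rw [this, one_mul]

end Cfsg.Agent.helper24
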