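import Cfsg.Agent.Lib_helper24_CharCount

set_option autoImplicit false

namespace Cfsg.Agent.helper24

open scoped ComplexConjugate

universe u
variable {G : Type u} [Group G]

/-- A central class element acts on a Wedderburn component as a scalar (the central character). -/
theorem wed_classElt [Fintype G] {n : ℕ} {d : Fin n → ℕ}
    (e : MonoidAlgebra ℂ G ≃ₐ[ℂ] (Π i, Matrix (Fin (d i)) (Fin (d i)) ℂ))
    (hd : ∀ i, d i ≠ 0) {f : G → ℂ} (hf : IsClassFunction G f) (i : Fin n) :
    e (classElt f) i =
      ((∑ g : G, f g * (wedRep e i).character g⁻¹) / (d i : ℂ)) • (1 : Matrix (Fin (d i)) (Fin (d i)) ℂ) := by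
  classical
  have hcomm : ∀ A : Matrix (Fin (d i)) (Fin (d i)) ℂ, Commute A (e (classElt f) i) := by
    intro A
    have h1 := classElt_comm hf (e.symm (Pi.single i A))
    have h2 := congrArg (fun y => e y i) h1
    simp only [map_mul, AlgEquiv.apply_symm_apply, Pi.mul_apply, Pi.single_eq_same] at h2
    exact h2.symm
  obtain ⟨c, hc⟩ := Matrix.mem_range_scalar_iff_commute_single'.mpr (fun a b => hcomm _)
  have htr : (e (classElt f) i).trace = ∑ g : G, f g * (wedRep e i).character g⁻¹ := by
    simp only [classElt, map_sum, map_smul, Finset.sum_apply, Pi.smul_apply, Matrix.trace_sum,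
      Matrix.trace_smul, wedRep_character, smul_eq_mul]
  rw [← htr, ← hc]
  simp only [Matrix.scalar_apply, Matrix.trace_diagonal, Finset.sum_const, Finset.card_univ,
    Fintype.card_fin, nsmul_eq_mul]
  have hdi : (d i : ℂ) ≠ 0 := by exact_mod_cast hd i
  rw [mul_div_cancel_left₀ _ hdi]
  ext a b
  simp [Matrix.diagonal_apply, Matrix.one_apply]

theorem classElt_mul_coeff [Fintype G] (f₁ f₂ : G → ℂ) (z : G) :
    (classElt f₁ * classElt f₂).coeff z⁻¹ = ∑ g : G, f₁ g * f₂ (z * g⁻¹) := by
  classical
  have h1 : classElt f₁ * classElt f₂ =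
      ∑ g : G, ∑ h : G, (f₁ g * f₂ h) • MonoidAlgebra.of ℂ G (g⁻¹ * h⁻¹) := by
    rw [classElt, classElt, Finset.sum_mul_sum]
    refine Finset.sum_congr rfl (fun g _ => Finset.sum_congr rfl (fun h _ => ?_))
    rw [smul_mul_smul_comm, ← map_mul]
  rw [h1]
  simp only [MonoidAlgebra.coeff_sum, MonoidAlgebra.coeff_smul, Finsupp.finsetSum_apply,
    Finsupp.smul_apply, MonoidAlgebra.of_apply, MonoidAlgebra.coeff_single, Finsupp.single_apply,
    smul_eq_mul]
  refine Finset.sum_congr rfl (fun g _ => ?_)
  rw [Finset.sum_eq_single (z * g⁻¹)]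
  · simp
  · intro h _ hh
    have : ¬ (g⁻¹ * h⁻¹ = z⁻¹) := by
      intro heq
      apply hh
      have h2 : (g⁻¹ * h⁻¹)⁻¹ = z := by rw [heq, inv_inv]
      rw [mul_inv_rev, inv_inv, inv_inv] at h2
      rw [← h2]; simp
    rw [if_neg this, mul_zero]
  · intro h; exact absurd (Finset.mem_univ _) h

/-- Generalized orthogonality relation. -/
theorem irr_generalized_orthogonality [Fintype G] {χ ψ : G → ℂ} (hχ : IsIrrCharacter G χ)
    (hψ : IsIrrCharacter G ψ) (z : G) :
    ∑ g : G, χ g * ψ (z * g⁻¹) = if χ = ψ then (Nat.card G : ℂ) / χ 1 * χ z else 0 := by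
  classical
  obtain ⟨n, d, hd, ⟨e⟩⟩ := exists_wed (G := G)
  obtain ⟨i, rfl⟩ := irr_eq_wed e hd hχ
  obtain ⟨j, rfl⟩ := irr_eq_wed e hd hψ
  have hcfi := char_isClassFunction (irr_isCharacter (wedRep_isIrr e hd i))
  have hcfj := char_isClassFunction (irr_isCharacter (wedRep_isIrr e hd j))
  have hG : (Nat.card G : ℂ) ≠ 0 := by exact_mod_cast Nat.card_pos.ne'
  -- scalars
  have hsc : ∀ a b : Fin n, ∑ g : G, (wedRep e a).character g * (wedRep e b).character g⁻¹ =
      if (wedRep e a).character = (wedRep e b).character then (Nat.card G : ℂ) else 0 := by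
    intro a b
    have h1 := irr_classInner (wedRep_isIrr e hd a) (wedRep_isIrr e hd b)
    rw [classInner_eq_sum_inv _ (irr_isCharacter (wedRep_isIrr e hd b))] at h1
    split_ifs at h1 ⊢ with hab
    · field_simp at h1; rw [h1]
    · rcases mul_eq_zero.mp h1 with h2 | h2
      · exact absurd (inv_eq_zero.mp h2) hG
      · exact h2
  rw [← classElt_mul_coeff]
  by_cases hij : (wedRep e i).character = (wedRep e j).character
  · have hij' : i = j := wed_injective e hd hij
    subst hij'
    rw [if_pos rfl]
    have key : classElt (wedRep e i).character * classElt (wedRep e i).character =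
        ((Nat.card G : ℂ) / (d i : ℂ)) • classElt (wedRep e i).character := by
      apply e.injective
      funext k
      simp only [map_mul, Pi.mul_apply, map_smul, Pi.smul_apply, wed_classElt e hd hcfi k, hsc]
      by_cases hik : (wedRep e i).character = (wedRep e k).character
      · have : i = k := wed_injective e hd hik
        subst this
        simp only [if_true]
        rw [smul_mul_smul_comm, mul_one, smul_smul]
      · simp [hik]
    rw [key, MonoidAlgebra.coeff_smul, Finsupp.smul_apply, classElt_apply, wedRep_char_one, smul_eq_mul]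
  · rw [if_neg hij]
    have key : classElt (wedRep e i).character * classElt (wedRep e j).character = 0 := by
      apply e.injective
      funext k
      simp only [map_mul, Pi.mul_apply, map_zero, Pi.zero_apply, wed_classElt e hd hcfi k,
        wed_classElt e hd hcfj k, hsc]
      by_cases hik : (wedRep e i).character = (wedRep e k).character
      · have hjk : ¬ (wedRep e j).character = (wedRep e k).character := fun h => hij (hik.trans h.symm)
        simp [hjk]
      · simp [hik]
    rw [key]
    rfl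


open scoped Classical in
/-- The number of elements conjugating `a` to `b`. -/
theorem card_conjugators [Finite G] (a b : G) :
    Nat.card {y : G // y * a * y⁻¹ = b} =
      if IsConj a b then Nat.card (Subgroup.centralizer ({a} : Set G)) else 0 := by
  classical
  split_ifs with hab
  · obtain ⟨y₀, hy₀⟩ := isConj_iff.mp hab
    apply Nat.card_congr
    refine ⟨fun y => ⟨y₀⁻¹ * y.1, ?_⟩, fun c => ⟨y₀ * c.1, ?_⟩, ?_, ?_⟩
    · rw [Subgroup.mem_centralizer_iff]
      intro h hh
      rw [Set.mem_singleton_iff] at hh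
      subst hh
      have h1 := y.2
      have : y₀⁻¹ * y.1 * h * (y₀⁻¹ * y.1)⁻¹ = h := by
        rw [mul_inv_rev, inv_inv]
        calc y₀⁻¹ * y.1 * h * (y.1⁻¹ * y₀) = y₀⁻¹ * (y.1 * h * y.1⁻¹) * y₀ := by group
          _ = y₀⁻¹ * (y₀ * h * y₀⁻¹) * y₀ := by rw [h1, hy₀]
          _ = h := by group
      calc h * (y₀⁻¹ * y.1) = (y₀⁻¹ * y.1 * h * (y₀⁻¹ * y.1)⁻¹) * (y₀⁻¹ * y.1) := by rw [this]
        _ = y₀⁻¹ * y.1 * h := by group
    · have hc := c.2
      rw [Subgroup.mem_centralizer_iff] at hc
      have h1 := hc a (Set.mem_singleton a)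
      calc y₀ * c.1 * a * (y₀ * c.1)⁻¹ = y₀ * (c.1 * a) * c.1⁻¹ * y₀⁻¹ := by group
        _ = y₀ * (a * c.1) * c.1⁻¹ * y₀⁻¹ := by rw [h1]
        _ = y₀ * a * y₀⁻¹ := by group
        _ = b := hy₀
    · intro y; ext; simp
    · intro c; ext; simp
  · rw [Nat.card_eq_zero]
    left
    refine ⟨fun y => hab (isConj_iff.mpr ⟨y.1, y.2⟩)⟩

theorem card_conjugators_eq_sum [Finite G] [Fintype (IrrCharacter G)] (a b : G) :
    (Nat.card {y : G // y * a * y⁻¹ = b} : ℂ) =
      ∑ χ : IrrCharacter G, (χ : G → ℂ) b * conj ((χ : G → ℂ) a) := by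
  classical
  rw [irr_column_orthogonality, card_conjugators]
  by_cases hab : IsConj a b
  · rw [if_pos hab, if_pos hab.symm]
  · rw [if_neg hab, if_neg (fun h => hab h.symm)]
    simp


end Cfsg.Agent.helper24
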