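import Cfsg.Agent.Lib_helper24_CharKer

set_option autoImplicit false

namespace Cfsg.Agent.helper24

open scoped ComplexConjugate

universe u v
variable {G : Type u} [Group G]

/-- Central characters take algebraic-integer values on integral central elements. -/
theorem irr_central_isIntegral [Fintype G] {χ : G → ℂ} (hχ : IsIrrCharacter G χ) (f : G → ℤ)
    (hf : IsClassFunction G (fun g => (f g : ℂ))) :
    IsIntegral ℤ ((∑ g : G, (f g : ℂ) * χ g⁻¹) / χ 1) := by
  classical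
  obtain ⟨n, d, hd, ⟨e⟩⟩ := exists_wed (G := G)
  obtain ⟨i, rfl⟩ := irr_eq_wed e hd hχ
  set zZ : MonoidAlgebra ℤ G := ∑ g : G, f g • MonoidAlgebra.of ℤ G g⁻¹ with hzZ
  have hint : IsIntegral ℤ zZ := IsIntegral.of_finite ℤ zZ
  let φ : MonoidAlgebra ℤ G →+* MonoidAlgebra ℂ G := MonoidAlgebra.mapRingHom G (Int.castRingHom ℂ)
  have hφ : φ zZ = classElt (fun g => (f g : ℂ)) := by
    simp only [hzZ, classElt, map_sum, φ]
    refine Finset.sum_congr rfl (fun g _ => ?_)
    rw [MonoidAlgebra.of_apply, MonoidAlgebra.of_apply]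
    have h1 : f g • MonoidAlgebra.single g⁻¹ (1:ℤ) = MonoidAlgebra.single g⁻¹ (f g) := by
      rw [MonoidAlgebra.smul_single, smul_eq_mul, mul_one]
    have h2 : (f g : ℂ) • MonoidAlgebra.single g⁻¹ (1:ℂ) = MonoidAlgebra.single g⁻¹ (f g : ℂ) := by
      rw [MonoidAlgebra.smul_single, smul_eq_mul, mul_one]
    rw [h1, h2, MonoidAlgebra.mapRingHom_single]
    simp
  let Φ : MonoidAlgebra ℤ G →+* Matrix (Fin (d i)) (Fin (d i)) ℂ :=
    (Pi.evalRingHom (fun i => Matrix (Fin (d i)) (Fin (d i)) ℂ) i).comp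
      ((e : MonoidAlgebra ℂ G →+* _).comp φ)
  have hΦ : Φ zZ = ((∑ g : G, (f g : ℂ) * (wedRep e i).character g⁻¹) / (d i : ℂ)) •
      (1 : Matrix (Fin (d i)) (Fin (d i)) ℂ) := by
    show e (φ zZ) i = _
    rw [hφ, wed_classElt e hd hf i]
  have hint2 : IsIntegral ℤ (Φ zZ) := IsIntegral.map Φ.toIntAlgHom hint
  rw [hΦ, ← Algebra.algebraMap_eq_smul_one] at hint2
  have : Nonempty (Fin (d i)) := ⟨⟨0, Nat.pos_of_ne_zero (hd i)⟩⟩
  rw [isIntegral_algebraMap_iff (algebraMap ℂ (Matrix (Fin (d i)) (Fin (d i)) ℂ)).injective] at hint2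
  rw [wedRep_char_one]
  exact hint2

/-- A rational number (given as a quotient of naturals) that is an algebraic integer in `ℂ`
gives a divisibility. -/
theorem dvd_of_isIntegral_div {a b : ℕ} (hb : b ≠ 0) (h : IsIntegral ℤ ((a : ℂ) / (b : ℂ))) :
    b ∣ a := by
  have h1 : ((a : ℂ) / (b : ℂ)) = algebraMap ℚ ℂ ((a : ℚ) / (b : ℚ)) := by
    simp
  rw [h1, isIntegral_algebraMap_iff (algebraMap ℚ ℂ).injective] at h
  obtain ⟨y, hy⟩ := IsIntegrallyClosed.isIntegral_iff.mp h
  have hbq : (b : ℚ) ≠ 0 := by exact_mod_cast hb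
  have h2 : (y : ℚ) * b = a := by
    have : (algebraMap ℤ ℚ y) = (y : ℚ) := rfl
    rw [this] at hy
    rw [hy, div_mul_cancel₀ _ hbq]
  have h3 : y * (b : ℤ) = (a : ℤ) := by exact_mod_cast h2
  have h4 : (b : ℤ) ∣ (a : ℤ) := ⟨y, by rw [← h3, mul_comm]⟩
  exact_mod_cast h4

/-- The degree of an irreducible character divides the group order. -/
theorem irr_degree_dvd_card [Finite G] {χ : G → ℂ} (hχ : IsIrrCharacter G χ) :
    charDegree χ ∣ Nat.card G := by
  classical
  have := Fintype.ofFinite G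
  obtain ⟨d, hd0, hd⟩ := irr_apply_one hχ
  rw [charDegree_natCast χ d hd]
  apply dvd_of_isIntegral_div hd0.ne'
  have hχc := irr_isCharacter hχ
  have hcf := isClassFunction_iff_isConj.mp (char_isClassFunction hχc)
  -- `|G| = ∑ g, χ g * χ g⁻¹`
  have hsum : (Nat.card G : ℂ) = ∑ g : G, χ g * χ g⁻¹ := by
    have h1 := irr_classInner_self hχ
    rw [classInner_eq_sum_inv χ hχc] at h1
    have hG : (Nat.card G : ℂ) ≠ 0 := by exact_mod_cast Nat.card_pos.ne'
    field_simp at h1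
    exact h1.symm
  -- group the sum by conjugacy classes
  have hfib : (Nat.card G : ℂ) / (d : ℂ) =
      ∑ K : ConjClasses G, ∑ g ∈ Finset.univ.filter (fun g : G => ConjClasses.mk g = K),
        χ g * χ g⁻¹ / (d : ℂ) := by
    rw [hsum, Finset.sum_div]
    exact (Finset.sum_fiberwise Finset.univ ConjClasses.mk (fun g => χ g * χ g⁻¹ / (d:ℂ))).symm
  rw [hfib]
  apply IsIntegral.sum
  intro K _
  obtain ⟨k, rfl⟩ := ConjClasses.mk_surjective K
  -- on the class of `k`
  have hterm : ∑ g ∈ Finset.univ.filter (fun g : G => ConjClasses.mk g = ConjClasses.mk k),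
      χ g * χ g⁻¹ / (d : ℂ) =
      χ k * ((∑ g : G, (((if IsConj g k then (1:ℤ) else 0 : ℤ)) : ℂ) * χ g⁻¹) / χ 1) := by
    rw [hd, Finset.sum_div, Finset.mul_sum, Finset.sum_filter]
    refine Finset.sum_congr rfl (fun g _ => ?_)
    by_cases hgk : IsConj g k
    · rw [if_pos (ConjClasses.mk_eq_mk_iff_isConj.mpr hgk), if_pos hgk, hcf g k hgk]
      simp; ring
    · rw [if_neg (fun h => hgk (ConjClasses.mk_eq_mk_iff_isConj.mp h)), if_neg hgk]
      simp
  rw [hterm]
  apply IsIntegral.mul (char_isIntegral hχc k)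
  apply irr_central_isIntegral hχ (fun g => if IsConj g k then (1:ℤ) else 0)
  rw [isClassFunction_iff_isConj]
  intro a b hab
  have : IsConj a k ↔ IsConj b k := ⟨fun h => hab.symm.trans h, fun h => hab.trans h⟩
  simp only [this]

end Cfsg.Agent.helper24
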