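import Cfsg.Agent.Lib_helper24_CharNormal

set_option autoImplicit false

namespace Cfsg.Agent.helper24

open scoped ComplexConjugate
open Polynomial

universe u v
variable {G : Type u} [Group G]

theorem multiset_all_eq_one_of_sum (s : Multiset ℂ) (h1 : ∀ μ ∈ s, ‖μ‖ = 1)
    (hsum : s.sum = (s.card : ℂ)) : ∀ μ ∈ s, μ = 1 := by
  have key : ∀ t : Multiset ℂ, (∀ μ ∈ t, ‖μ‖ = 1) → (t.sum.re = t.card → ∀ μ ∈ t, μ = 1) ∧
      t.sum.re ≤ t.card := by
    intro t
    induction t using Multiset.induction_on with
    | empty => intro _; simp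
    | cons a t ih =>
      intro ht
      have hta : ‖a‖ = 1 := ht a (Multiset.mem_cons_self a t)
      have htt : ∀ μ ∈ t, ‖μ‖ = 1 := fun μ hμ => ht μ (Multiset.mem_cons_of_mem hμ)
      obtain ⟨ih1, ih2⟩ := ih htt
      have hare : a.re ≤ 1 := (Complex.re_le_norm a).trans hta.le
      simp only [Multiset.sum_cons, Complex.add_re, Multiset.card_cons, Nat.cast_add, Nat.cast_one]
      refine ⟨?_, by linarith⟩
      intro heq
      have ha1 : a.re = 1 := by linarith
      have ht1 : t.sum.re = t.card := by linarith
      intro μ hμ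
      rcases Multiset.mem_cons.mp hμ with rfl | hμt
      · apply Complex.ext
        · simpa using ha1
        · have h2 := Complex.sq_norm μ
          rw [Complex.normSq_apply, hta, ha1] at h2
          have : μ.im * μ.im = 0 := by linarith
          simpa using mul_self_eq_zero.mp this
      · exact ih1 ht1 μ hμt
  have h2 := (key s h1).1
  apply h2
  rw [hsum]
  simp

/-- An element acts trivially exactly when the character takes the value of the degree there. -/
theorem rep_char_eq_degree_iff [Finite G] {n : ℕ} (ρ : Representation ℂ G (Fin n → ℂ)) (g : G) :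
    ρ.character g = n ↔ ρ g = 1 := by
  constructor
  · intro hg
    have hpos : 0 < orderOf g := orderOf_pos g
    -- all roots of the characteristic polynomial are 1
    have hroots : ∀ μ ∈ (repMatrix ρ g).charpoly.roots, μ = 1 := by
      apply multiset_all_eq_one_of_sum
      · intro μ hμ
        apply Complex.norm_eq_one_of_pow_eq_one _ hpos.ne'
        apply root_pow_eq_one_of_matrix_pow_eq_one (repMatrix ρ g) _ hμ
        rw [← map_pow, pow_orderOf_eq_one, map_one]
      · rw [← Matrix.trace_eq_sum_roots_charpoly, repMatrix_trace, hg,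
          IsAlgClosed.card_roots_eq_natDegree, Matrix.charpoly_natDegree_eq_dim, Fintype.card_fin]
    -- semisimplicity
    have hss : Module.End.IsSemisimple (ρ g) := by
      apply Module.End.isSemisimple_of_squarefree_aeval_eq_zero
        (p := (X ^ orderOf g - 1 : ℂ[X]))
      · apply Polynomial.Separable.squarefree
        exact Polynomial.separable_X_pow_sub_C 1 (by exact_mod_cast hpos.ne') one_ne_zero
      · simp only [map_sub, map_pow, aeval_X, map_one]
        rw [← map_pow, pow_orderOf_eq_one, map_one, sub_self]
    have htop := hss.iSup_eigenspace_eq_top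
    have h1 : Module.End.eigenspace (ρ g) 1 = ⊤ := by
      rw [← htop]
      apply le_antisymm
      · exact le_iSup (fun μ => Module.End.eigenspace (ρ g) μ) 1
      · apply iSup_le
        intro μ
        by_cases hμ : μ = 1
        · rw [hμ]
        · have : Module.End.eigenspace (ρ g) μ = ⊥ := by
            by_contra hne
            have hev : Module.End.HasEigenvalue (ρ g) μ := hne
            rw [Module.End.hasEigenvalue_iff_isRoot_charpoly] at hev
            apply hμ
            apply hroots
            rw [mem_roots']
            refine ⟨?_, ?_⟩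
            · exact (Matrix.charpoly_monic _).ne_zero
            · have : (ρ g).charpoly = (repMatrix ρ g).charpoly := by
                rw [← LinearMap.charpoly_toMatrix (ρ g) (Pi.basisFun ℂ (Fin n))]
                rfl
              rw [← this]; exact hev
          rw [this]; exact bot_le
    apply LinearMap.ext
    intro v
    have : v ∈ Module.End.eigenspace (ρ g) 1 := by rw [h1]; trivial
    rw [Module.End.mem_eigenspace_iff] at this
    simpa using this
  · intro h
    rw [Representation.character, h]
    simp

/-- Irreducibility only depends on the set of operators. -/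
theorem irreducible_of_range_le {H : Type v} [Group H] {V : Type*} [AddCommGroup V] [Module ℂ V]
    (ρ : Representation ℂ G V) (σ : Representation ℂ H V) (hrange : ∀ k : H, ∃ g : G, ρ g = σ k)
    (hσ : σ.IsIrreducible) : ρ.IsIrreducible := by
  have hnt : Nontrivial V := by
    by_contra hV
    rw [not_nontrivial_iff_subsingleton] at hV
    obtain ⟨a, b, hab⟩ := hσ.toNontrivial
    apply hab
    apply Subrepresentation.toSubmodule_injective
    apply Subsingleton.elim
  refine { exists_pair_ne := ?_, eq_bot_or_eq_top := ?_ }
  · refine ⟨⊥, ⊤, ?_⟩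
    intro h
    have h2 : (⊥ : Subrepresentation ρ).toSubmodule = (⊤ : Subrepresentation ρ).toSubmodule := by
      rw [h]
    exact bot_ne_top (α := Submodule ℂ V) h2
  · intro W
    let W' : Subrepresentation σ :=
      { toSubmodule := W.toSubmodule
        apply_mem_toSubmodule := by
          intro k v hv
          obtain ⟨g, hg⟩ := hrange k
          rw [← hg]
          exact W.apply_mem_toSubmodule g hv }
    rcases hσ.eq_bot_or_eq_top W' with h | h
    · left
      apply Subrepresentation.toSubmodule_injective
      exact congrArg (fun X : Subrepresentation σ => X.toSubmodule) h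
    · right
      apply Subrepresentation.toSubmodule_injective
      exact congrArg (fun X : Subrepresentation σ => X.toSubmodule) h

/-- The kernel of a character as a normal subgroup. -/
theorem char_exists_ker [Finite G] {χ : G → ℂ} (h : IsCharacter G χ) :
    ∃ K : Subgroup G, K.Normal ∧ ∀ g, g ∈ K ↔ χ g = χ 1 := by
  obtain ⟨n, ρ, rfl⟩ := h
  refine ⟨MonoidHom.ker ρ, MonoidHom.normal_ker ρ, fun g => ?_⟩
  rw [MonoidHom.mem_ker, ← rep_char_eq_degree_iff]
  simp

/-- Inflation of an irreducible character of a quotient is irreducible. -/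
theorem irr_inflation (N : Subgroup G) [N.Normal] {ψ : G ⧸ N → ℂ} (hψ : IsIrrCharacter (G ⧸ N) ψ) :
    IsIrrCharacter G (ψ ∘ (QuotientGroup.mk : G → G ⧸ N)) := by
  obtain ⟨n, ρ, hρ, rfl⟩ := hψ
  refine ⟨n, ρ.comp (QuotientGroup.mk' N), ?_, rfl⟩
  apply irreducible_of_range_le _ ρ _ hρ
  intro k
  obtain ⟨g, rfl⟩ := QuotientGroup.mk_surjective k
  exact ⟨g, rfl⟩

theorem char_inflation (N : Subgroup G) [N.Normal] {ψ : G ⧸ N → ℂ} (hψ : IsCharacter (G ⧸ N) ψ) :
    IsCharacter G (ψ ∘ (QuotientGroup.mk : G → G ⧸ N)) := by
  obtain ⟨n, ρ, rfl⟩ := hψ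
  exact ⟨n, ρ.comp (QuotientGroup.mk' N), rfl⟩

/-- An irreducible character with `N` in its kernel is inflated from `G ⧸ N`. -/
theorem irr_deflation [Finite G] (N : Subgroup G) [N.Normal] {χ : G → ℂ} (hχ : IsIrrCharacter G χ)
    (hN : ∀ n ∈ N, χ n = χ 1) :
    ∃ ψ : G ⧸ N → ℂ, IsIrrCharacter (G ⧸ N) ψ ∧ χ = ψ ∘ (QuotientGroup.mk : G → G ⧸ N) := by
  obtain ⟨n, ρ, hρ, rfl⟩ := hχ
  have hker : N ≤ MonoidHom.ker ρ := by
    intro x hx
    rw [MonoidHom.mem_ker, ← rep_char_eq_degree_iff]
    have := hN x hx
    simpa using this
  -- need a group-valued hom for `QuotientGroup.lift`; use the units of the endomorphism ring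
  let ρu : G →* (Module.End ℂ (Fin n → ℂ))ˣ := ρ.toHomUnits
  have hker' : N ≤ MonoidHom.ker ρu := by
    intro x hx
    rw [MonoidHom.mem_ker]
    apply Units.ext
    have := hker hx
    rw [MonoidHom.mem_ker] at this
    simpa [ρu] using this
  let σ : Representation ℂ (G ⧸ N) (Fin n → ℂ) :=
    (Units.coeHom _).comp (QuotientGroup.lift N ρu hker')
  have hσ : ∀ g : G, σ (QuotientGroup.mk g) = ρ g := by
    intro g
    simp [σ, ρu]
  refine ⟨σ.character, ⟨n, σ, ?_, rfl⟩, ?_⟩
  · apply irreducible_of_range_le _ ρ _ hρ
    intro g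
    exact ⟨QuotientGroup.mk g, hσ g⟩
  · funext g
    simp only [Function.comp_apply, Representation.character, hσ]

end Cfsg.Agent.helper24
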