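import Cfsg.Agent.Lib_helper24_CharValues

set_option autoImplicit false

namespace Cfsg.Agent.helper24

open scoped ComplexConjugate

universe u
variable {G : Type u} [Group G]

theorem of_mul_classElt_coeff_trace [Fintype G] {n : ℕ} {d : Fin n → ℕ}
    (e : MonoidAlgebra ℂ G ≃ₐ[ℂ] (Π i, Matrix (Fin (d i)) (Fin (d i)) ℂ)) (i : Fin n)
    (f : G → ℂ) (g : G) :
    (e (MonoidAlgebra.of ℂ G g * classElt f) i).trace =
      ∑ h : G, f h * (wedRep e i).character (g * h⁻¹) := by
  simp only [classElt, Finset.mul_sum, mul_smul_comm, ← map_mul, map_sum, map_smul,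
    Finset.sum_apply, Pi.smul_apply, Matrix.trace_sum, Matrix.trace_smul, smul_eq_mul,
    wedRep_character]

/-- Multiplicativity of central characters: for a class function `f` and an irreducible `χ`,
`∑ h, f h * χ (g * h⁻¹) = (∑ h, f h * χ h⁻¹) / χ 1 * χ g`. -/
theorem irr_central_mul [Fintype G] {χ : G → ℂ} (hχ : IsIrrCharacter G χ) {f : G → ℂ}
    (hf : IsClassFunction G f) (g : G) :
    ∑ h : G, f h * χ (g * h⁻¹) = (∑ h : G, f h * χ h⁻¹) / χ 1 * χ g := by
  obtain ⟨n, d, hd, ⟨e⟩⟩ := exists_wed (G := G)
  obtain ⟨i, rfl⟩ := irr_eq_wed e hd hχ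
  rw [← of_mul_classElt_coeff_trace, map_mul, Pi.mul_apply, wed_classElt e hd hf i, wedRep_char_one,
    mul_smul_comm, mul_one, Matrix.trace_smul, smul_eq_mul, wedRep_character]

theorem isClassFunction_indicator_normal (N : Subgroup G) [N.Normal] [DecidablePred (· ∈ N)] :
    IsClassFunction G (fun h => if h ∈ N then (1 : ℂ) else 0) := by
  intro g x
  have : x * g * x⁻¹ ∈ N ↔ g ∈ N := by
    constructor
    · intro h
      have := Subgroup.Normal.conj_mem inferInstance _ h x⁻¹
      simpa [mul_assoc] using this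
    · intro h
      exact Subgroup.Normal.conj_mem inferInstance _ h x
  simp only [this]

/-- The sum of an irreducible character over the translates of a normal subgroup. -/
theorem irr_sum_coset [Fintype G] {χ : G → ℂ} (hχ : IsIrrCharacter G χ) (N : Subgroup G) [N.Normal]
    [DecidablePred (· ∈ N)] (g : G) :
    ∑ h : G, (if h ∈ N then χ (g * h) else 0) =
      (∑ h : G, (if h ∈ N then χ h else 0)) / χ 1 * χ g := by
  have h1 := irr_central_mul hχ (isClassFunction_indicator_normal N) g
  have e1 : ∑ h : G, (if h ∈ N then (1:ℂ) else 0) * χ (g * h⁻¹) =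
      ∑ h : G, (if h ∈ N then χ (g * h) else 0) := by
    refine Fintype.sum_equiv (Equiv.inv G) _ _ (fun h => ?_)
    simp only [Equiv.inv_apply, inv_mem_iff]
    split_ifs <;> simp
  have e2 : ∑ h : G, (if h ∈ N then (1:ℂ) else 0) * χ h⁻¹ =
      ∑ h : G, (if h ∈ N then χ h else 0) := by
    refine Fintype.sum_equiv (Equiv.inv G) _ _ (fun h => ?_)
    simp only [Equiv.inv_apply, inv_mem_iff]
    split_ifs <;> simp
  rw [e1, e2] at h1
  exact h1

/-- For an irreducible character and a normal subgroup `N`: either the sums of `χ` over all cosets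
of `N` vanish, or `N` is contained in the kernel of `χ`. -/
theorem irr_normal_dichotomy [Fintype G] {χ : G → ℂ} (hχ : IsIrrCharacter G χ) (N : Subgroup G)
    [N.Normal] [DecidablePred (· ∈ N)] :
    (∀ g : G, ∑ h : G, (if h ∈ N then χ (g * h) else 0) = 0) ∨ (∀ n ∈ N, χ n = χ 1) := by
  classical
  set s : ℂ := ∑ h : G, (if h ∈ N then χ h else 0) with hs
  set ω : ℂ := s / χ 1 with hω
  have hχ1 := irr_apply_one_ne_zero hχ
  have hA : ∀ g : G, ∑ h : G, (if h ∈ N then χ (g * h) else 0) = ω * χ g := fun g =>
    irr_sum_coset hχ N g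
  -- double sum
  have hdouble : ∑ m : G, (if m ∈ N then ∑ h : G, (if h ∈ N then χ (m * h) else 0) else 0) =
      (Nat.card N : ℂ) * s := by
    have : ∀ m : G, m ∈ N → ∑ h : G, (if h ∈ N then χ (m * h) else 0) = s := by
      intro m hm
      rw [hs]
      refine Fintype.sum_equiv (Equiv.mulLeft m) _ _ (fun h => ?_)
      simp only [Equiv.coe_mulLeft]
      have : m * h ∈ N ↔ h ∈ N := Subgroup.mul_mem_cancel_left N hm
      simp only [this]
    have h2 : ∑ m : G, (if m ∈ N then ∑ h : G, (if h ∈ N then χ (m * h) else 0) else 0) =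
        ∑ m : G, (if m ∈ N then s else 0) := by
      refine Finset.sum_congr rfl (fun m _ => ?_)
      split_ifs with hm
      · exact this m hm
      · rfl
    rw [h2, ← Finset.sum_filter, Finset.sum_const, nsmul_eq_mul]
    congr 2
    rw [Nat.card_eq_fintype_card, Fintype.card_subtype]
  have hdouble2 : ∑ m : G, (if m ∈ N then ∑ h : G, (if h ∈ N then χ (m * h) else 0) else 0) =
      ω * s := by
    simp_rw [hA]
    rw [hs, Finset.mul_sum]
    refine Finset.sum_congr rfl (fun m _ => ?_)
    split_ifs <;> simp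
  have hquad : ω * s = (Nat.card N : ℂ) * s := by rw [← hdouble2, hdouble]
  by_cases hs0 : s = 0
  · left
    intro g
    rw [hA, hω, hs0, zero_div, zero_mul]
  · right
    have hωN : ω = (Nat.card N : ℂ) := mul_right_cancel₀ hs0 hquad
    have hsN : s = (Nat.card N : ℂ) * χ 1 := by
      rw [← hωN, hω, div_mul_cancel₀ _ hχ1]
    -- now equality in the triangle inequality
    obtain ⟨d, hd0, hd⟩ := irr_apply_one hχ
    have hre : ∀ h : G, (χ h).re ≤ d := by
      intro h
      have h1 := char_norm_le (irr_isCharacter hχ) h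
      rw [hd] at h1
      simp only [Complex.norm_natCast] at h1
      exact (Complex.re_le_norm _).trans h1
    have hsum_re : ∑ h : G, (if h ∈ N then ((d:ℝ) - (χ h).re) else 0) = 0 := by
      have h1 : ∑ h : G, (if h ∈ N then ((d:ℝ) - (χ h).re) else 0) =
          (Nat.card N : ℝ) * d - s.re := by
        rw [hs, Complex.re_sum]
        have : ∑ h : G, (if h ∈ N then (d:ℝ) else 0) = (Nat.card N : ℝ) * d := by
          rw [← Finset.sum_filter, Finset.sum_const, nsmul_eq_mul]
          congr 2
          rw [Nat.card_eq_fintype_card, Fintype.card_subtype]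
        rw [← this, ← Finset.sum_sub_distrib]
        refine Finset.sum_congr rfl (fun h _ => ?_)
        split_ifs <;> simp
      rw [h1, hsN, hd]
      simp
    have hnn : ∀ h ∈ Finset.univ, 0 ≤ (if h ∈ N then ((d:ℝ) - (χ h).re) else 0) := by
      intro h _
      split_ifs
      · linarith [hre h]
      · exact le_rfl
    have hall := (Finset.sum_eq_zero_iff_of_nonneg hnn).mp hsum_re
    intro n hn
    have h1 := hall n (Finset.mem_univ n)
    rw [if_pos hn] at h1
    have hre_eq : (χ n).re = d := by linarith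
    have hnorm := char_norm_le (irr_isCharacter hχ) n
    rw [hd] at hnorm ⊢
    simp only [Complex.norm_natCast] at hnorm
    -- |z| ≤ d and re z = d implies z = d
    apply Complex.ext
    · simpa using hre_eq
    · have h2 : (χ n).re ^ 2 + (χ n).im ^ 2 ≤ (d:ℝ) ^ 2 := by
        have := Complex.sq_norm (χ n)
        rw [Complex.normSq_apply] at this
        nlinarith [norm_nonneg (χ n)]
      rw [hre_eq] at h2
      have : (χ n).im ^ 2 ≤ 0 := by linarith
      have : (χ n).im = 0 := by nlinarith [sq_nonneg (χ n).im]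
      simpa using this

end Cfsg.Agent.helper24
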