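import Cfsg.Agent.Lib_helper24_CharBasic

set_option autoImplicit false

namespace Cfsg.Agent.helper24

open scoped ComplexConjugate

universe u
variable {G : Type u} [Group G]

/-- Row orthogonality for irreducible representations on coordinate spaces. -/
theorem rep_classInner [Fintype G] {n m : ℕ} (ρ : Representation ℂ G (Fin n → ℂ))
    (σ : Representation ℂ G (Fin m → ℂ)) [hρ : ρ.IsIrreducible] [hσ : σ.IsIrreducible] :
    classInner ρ.character σ.character = if ρ.character = σ.character then 1 else 0 := by
  classical
  have hinv : Invertible (Nat.card G : ℂ) := invertibleOfNonzero (by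
    have : 0 < Nat.card G := Nat.card_pos
    exact_mod_cast this.ne')
  have key : ∀ {a b : ℕ} (α : Representation ℂ G (Fin a → ℂ)) (β : Representation ℂ G (Fin b → ℂ))
      [α.IsIrreducible] [β.IsIrreducible],
      classInner α.character β.character = if Nonempty (Representation.Equiv β α) then 1 else 0 := by
    intro a b α β _ _
    have := Representation.char_orthonormal α β
    rw [classInner]
    simp_rw [← rep_char_inv]
    simpa using this
  rw [key ρ σ]
  by_cases h : Nonempty (Representation.Equiv σ ρ)
  · obtain ⟨φ⟩ := h
    have := Representation.char_iso φ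
    simp [this, Nonempty.intro φ]
  · have hne : ρ.character ≠ σ.character := by
      intro heq
      have h1 := key ρ ρ
      rw [if_pos ⟨Representation.Equiv.refl ρ⟩] at h1
      have h2 := key ρ σ
      rw [if_neg h, ← heq, h1] at h2
      exact one_ne_zero h2
    simp [h, hne]

theorem irr_classInner [Fintype G] {χ ψ : G → ℂ} (hχ : IsIrrCharacter G χ)
    (hψ : IsIrrCharacter G ψ) : classInner χ ψ = if χ = ψ then 1 else 0 := by
  obtain ⟨n, ρ, hρ, rfl⟩ := hχ
  obtain ⟨m, σ, hσ, rfl⟩ := hψ
  exact rep_classInner ρ σ

theorem irr_classInner_self [Fintype G] {χ : G → ℂ} (hχ : IsIrrCharacter G χ) :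
    classInner χ χ = 1 := by
  rw [irr_classInner hχ hχ, if_pos rfl]

theorem irr_classInner_ne [Fintype G] {χ ψ : G → ℂ} (hχ : IsIrrCharacter G χ)
    (hψ : IsIrrCharacter G ψ) (h : χ ≠ ψ) : classInner χ ψ = 0 := by
  rw [irr_classInner hχ hψ, if_neg h]


/-! ### Sesquilinearity of `classInner` -/

theorem classInner_add_left [Fintype G] (f₁ f₂ ψ : G → ℂ) :
    classInner (f₁ + f₂) ψ = classInner f₁ ψ + classInner f₂ ψ := by
  simp [classInner, add_mul, Finset.sum_add_distrib, mul_add]

theorem classInner_sub_left [Fintype G] (f₁ f₂ ψ : G → ℂ) :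
    classInner (f₁ - f₂) ψ = classInner f₁ ψ - classInner f₂ ψ := by
  simp [classInner, sub_mul, Finset.sum_sub_distrib, mul_sub]

theorem classInner_smul_left [Fintype G] (c : ℂ) (f ψ : G → ℂ) :
    classInner (c • f) ψ = c * classInner f ψ := by
  simp only [classInner, Pi.smul_apply, smul_eq_mul, Finset.mul_sum]
  refine Finset.sum_congr rfl (fun g _ => ?_)
  ring

theorem classInner_zero_left [Fintype G] (ψ : G → ℂ) : classInner (0 : G → ℂ) ψ = 0 := by
  simp [classInner]

theorem classInner_sum_left [Fintype G] {ι : Type*} (s : Finset ι) (f : ι → G → ℂ) (ψ : G → ℂ) :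
    classInner (∑ i ∈ s, f i) ψ = ∑ i ∈ s, classInner (f i) ψ := by
  classical
  induction s using Finset.induction_on with
  | empty => simp [classInner_zero_left]
  | insert a s ha ih => rw [Finset.sum_insert ha, Finset.sum_insert ha, classInner_add_left, ih]

theorem classInner_conj_symm [Fintype G] (f ψ : G → ℂ) :
    conj (classInner f ψ) = classInner ψ f := by
  simp only [classInner, map_mul, map_inv₀, map_natCast, map_sum, Complex.conj_conj]
  congr 1
  refine Finset.sum_congr rfl (fun g _ => ?_)
  ring

/-- The irreducible characters are linearly independent functions. -/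
theorem irr_linearIndependent [Finite G] :
    LinearIndependent ℂ (fun χ : IrrCharacter G => (χ : G → ℂ)) := by
  classical
  have := Fintype.ofFinite G
  rw [linearIndependent_iff']
  intro s c hc χ hχ
  have h1 := congrArg (fun f => classInner f (χ : G → ℂ)) hc
  simp only [classInner_sum_left, classInner_smul_left, classInner_zero_left] at h1
  rw [Finset.sum_eq_single χ] at h1
  · rw [irr_classInner_self χ.2, mul_one] at h1
    exact h1
  · intro ψ _ hψ
    rw [irr_classInner_ne ψ.2 χ.2 (fun h => hψ (Subtype.ext h)), mul_zero]
  · intro h; exact absurd hχ h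

instance irr_finite [Finite G] : Finite (IrrCharacter G) := by
  have := Fintype.ofFinite G
  exact (irr_linearIndependent (G := G)).finite

end Cfsg.Agent.helper24
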