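import Cfsg.Agent.Lib_helper24_CharIntegral

set_option autoImplicit false

namespace Cfsg.Agent.helper24

open scoped ComplexConjugate

universe u v
variable {G : Type u} [Group G]

/-- Irreducible characters of `G ⧸ N` correspond to irreducible characters of `G` with `N` in the
kernel. -/
noncomputable def inflEquiv [Finite G] (N : Subgroup G) [N.Normal] :
    IrrCharacter (G ⧸ N) ≃ {χ : IrrCharacter G // ∀ n ∈ N, (χ : G → ℂ) n = (χ : G → ℂ) 1} :=
  Equiv.ofBijective
    (fun ψ => ⟨⟨(ψ : G ⧸ N → ℂ) ∘ (QuotientGroup.mk : G → G ⧸ N), irr_inflation N ψ.2⟩, by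
      intro n hn
      simp only [Function.comp_apply]
      rw [(QuotientGroup.eq_one_iff n).mpr hn]
      rfl⟩)
    (by
      constructor
      · intro ψ₁ ψ₂ h
        apply Subtype.ext
        funext q
        obtain ⟨g, rfl⟩ := QuotientGroup.mk_surjective q
        have := congrArg (fun x => (x.1 : G → ℂ) g) h
        simpa using this
      · intro χ
        obtain ⟨ψ, hψ, hχψ⟩ := irr_deflation N χ.1.2 χ.2
        refine ⟨⟨ψ, hψ⟩, ?_⟩
        apply Subtype.ext
        apply Subtype.ext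
        exact hχψ.symm)

theorem inflEquiv_apply [Finite G] (N : Subgroup G) [N.Normal] (ψ : IrrCharacter (G ⧸ N)) (g : G) :
    ((inflEquiv N ψ).1 : G → ℂ) g = (ψ : G ⧸ N → ℂ) (QuotientGroup.mk g) := rfl

theorem inflEquiv_degree [Finite G] (N : Subgroup G) [N.Normal] (ψ : IrrCharacter (G ⧸ N)) :
    charDegree ((inflEquiv N ψ).1 : G → ℂ) = charDegree (ψ : G ⧸ N → ℂ) := by
  simp only [charDegree, inflEquiv_apply]
  rfl

/-- Sum of squares of the degrees of the irreducible characters with `N` in the kernel. -/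
theorem sum_degree_sq_ker [Finite G] [Fintype (IrrCharacter G)] (N : Subgroup G) [N.Normal]
    [DecidablePred (fun χ : IrrCharacter G => ∀ n ∈ N, (χ : G → ℂ) n = (χ : G → ℂ) 1)] :
    ∑ χ ∈ Finset.univ.filter (fun χ : IrrCharacter G => ∀ n ∈ N, (χ : G → ℂ) n = (χ : G → ℂ) 1),
      charDegree (χ : G → ℂ) ^ 2 = N.index := by
  classical
  have := Fintype.ofFinite (IrrCharacter (G ⧸ N))
  have h1 : ∑ ψ : IrrCharacter (G ⧸ N), charDegree (ψ : G ⧸ N → ℂ) ^ 2 = Nat.card (G ⧸ N) :=
    sum_irr_degree_sq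
  rw [Subgroup.index, ← h1, Finset.sum_subtype (p := fun χ : IrrCharacter G =>
      ∀ n ∈ N, (χ : G → ℂ) n = (χ : G → ℂ) 1) _ (fun χ => by simp)]
  symm
  refine Fintype.sum_equiv (inflEquiv N) _ _ (fun ψ => ?_)
  rw [inflEquiv_degree]

end Cfsg.Agent.helper24
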