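import Cfsg.Agent.Lib_helper24_CharConv

set_option autoImplicit false

namespace Cfsg.Agent.helper24

open scoped ComplexConjugate
open Polynomial

universe u
variable {G : Type u} [Group G]

/-- Roots of the characteristic polynomial of a matrix of finite order are roots of unity. -/
theorem root_pow_eq_one_of_matrix_pow_eq_one {n : ℕ} (A : Matrix (Fin n) (Fin n) ℂ) {m : ℕ}
    (hA : A ^ m = 1) {μ : ℂ} (hμ : μ ∈ A.charpoly.roots) : μ ^ m = 1 := by
  have hroot : IsRoot A.charpoly μ := (mem_roots'.mp hμ).2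
  have hspec : μ ∈ spectrum ℂ A := Matrix.mem_spectrum_iff_isRoot_charpoly.mpr hroot
  have h1 := spectrum.subset_polynomial_aeval A (X ^ m : ℂ[X]) ⟨μ, hspec, rfl⟩
  simp only [eval_pow, eval_X, map_pow, aeval_X, hA] at h1
  rcases Nat.eq_zero_or_pos n with hn | hn
  · subst hn
    exfalso
    have : A.charpoly = 1 := Matrix.charpoly_isEmpty
    rw [this] at hμ
    simp at hμ
  · have : Nonempty (Fin n) := ⟨⟨0, hn⟩⟩
    rw [spectrum.one_eq] at h1
    exact h1

/-- Character values are sums of `n` roots of unity. -/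
theorem rep_char_eq_sum_roots [Finite G] {n : ℕ} (ρ : Representation ℂ G (Fin n → ℂ)) (g : G) :
    ∃ s : Multiset ℂ, s.card = n ∧ (∀ μ ∈ s, μ ^ orderOf g = 1) ∧ ρ.character g = s.sum := by
  refine ⟨(repMatrix ρ g).charpoly.roots, ?_, ?_, ?_⟩
  · rw [IsAlgClosed.card_roots_eq_natDegree, Matrix.charpoly_natDegree_eq_dim, Fintype.card_fin]
  · intro μ hμ
    apply root_pow_eq_one_of_matrix_pow_eq_one (repMatrix ρ g) _ hμ
    rw [← map_pow, pow_orderOf_eq_one, map_one]
  · rw [← repMatrix_trace, Matrix.trace_eq_sum_roots_charpoly]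

theorem rep_char_norm_le [Finite G] {n : ℕ} (ρ : Representation ℂ G (Fin n → ℂ)) (g : G) :
    ‖ρ.character g‖ ≤ n := by
  obtain ⟨s, hcard, hs, hsum⟩ := rep_char_eq_sum_roots ρ g
  rw [hsum]
  have hpos : 0 < orderOf g := orderOf_pos g
  calc ‖s.sum‖ ≤ (s.map (fun μ => ‖μ‖)).sum := norm_multiset_sum_le s
    _ = (s.map (fun _ => (1:ℝ))).sum := by
        congr 1
        apply Multiset.map_congr rfl
        intro μ hμ
        exact Complex.norm_eq_one_of_pow_eq_one (hs μ hμ) hpos.ne'
    _ = n := by simp [hcard]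

theorem char_norm_le [Finite G] {χ : G → ℂ} (hχ : IsCharacter G χ) (g : G) :
    ‖χ g‖ ≤ ‖χ 1‖ := by
  obtain ⟨n, ρ, rfl⟩ := hχ
  have h1 : ρ.character 1 = n := by simp
  rw [h1]
  simpa using rep_char_norm_le ρ g

theorem char_isIntegral [Finite G] {χ : G → ℂ} (hχ : IsCharacter G χ) (g : G) :
    IsIntegral ℤ (χ g) := by
  obtain ⟨n, ρ, rfl⟩ := hχ
  obtain ⟨s, hcard, hs, hsum⟩ := rep_char_eq_sum_roots ρ g
  rw [hsum]
  apply IsIntegral.multiset_sum
  intro μ hμ
  exact IsIntegral.of_pow (orderOf_pos g) (by rw [hs μ hμ]; exact isIntegral_one)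

/-- A representation on a one-dimensional coordinate space is irreducible. -/
theorem rep_irreducible_of_dim_one (ρ : Representation ℂ G (Fin 1 → ℂ)) : ρ.IsIrreducible := by
  have hsimp : IsSimpleOrder (Submodule ℂ (Fin 1 → ℂ)) :=
    is_simple_module_of_finrank_eq_one (K := ℂ) (A := ℂ) (by simp)
  refine { exists_pair_ne := ?_, eq_bot_or_eq_top := ?_ }
  · refine ⟨⊥, ⊤, ?_⟩
    intro h
    have h2 : (⊥ : Subrepresentation ρ).toSubmodule = (⊤ : Subrepresentation ρ).toSubmodule := by
      rw [h]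
    exact bot_ne_top (α := Submodule ℂ (Fin 1 → ℂ)) h2
  · intro W
    rcases eq_bot_or_eq_top W.toSubmodule with h | h
    · left; exact Subrepresentation.toSubmodule_injective h
    · right; exact Subrepresentation.toSubmodule_injective h

/-- The principal character is irreducible. -/
theorem isIrrCharacter_one : IsIrrCharacter G (fun _ : G => (1 : ℂ)) := by
  refine ⟨1, Representation.trivial ℂ G (Fin 1 → ℂ), rep_irreducible_of_dim_one _, ?_⟩
  funext g
  simp [Representation.character, Representation.trivial]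

/-- The principal character as an element of `IrrCharacter G`. -/
noncomputable def irrOne (G : Type u) [Group G] : IrrCharacter G := ⟨fun _ => 1, isIrrCharacter_one⟩

end Cfsg.Agent.helper24
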