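import Cfsg.Agent.Lib_helper24_CharOrth

set_option autoImplicit false

namespace Cfsg.Agent.helper24

open scoped ComplexConjugate

universe u
variable {G : Type u} [Group G]

/-- The `i`-th Wedderburn component as an algebra hom to endomorphisms. -/
noncomputable def wedAlgHom {n : ℕ} {d : Fin n → ℕ}
    (e : MonoidAlgebra ℂ G ≃ₐ[ℂ] (Π i, Matrix (Fin (d i)) (Fin (d i)) ℂ)) (i : Fin n) :
    MonoidAlgebra ℂ G →ₐ[ℂ] Module.End ℂ (Fin (d i) → ℂ) :=
  (Matrix.toLinAlgEquiv' : Matrix (Fin (d i)) (Fin (d i)) ℂ ≃ₐ[ℂ] _).toAlgHom.comp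
    ((Pi.evalAlgHom ℂ (fun i => Matrix (Fin (d i)) (Fin (d i)) ℂ) i).comp e.toAlgHom)

theorem wedAlgHom_apply {n : ℕ} {d : Fin n → ℕ}
    (e : MonoidAlgebra ℂ G ≃ₐ[ℂ] (Π i, Matrix (Fin (d i)) (Fin (d i)) ℂ)) (i : Fin n)
    (x : MonoidAlgebra ℂ G) : wedAlgHom e i x = Matrix.toLin' (e x i) := rfl

/-- The `i`-th Wedderburn component as a representation. -/
noncomputable def wedRep {n : ℕ} {d : Fin n → ℕ}
    (e : MonoidAlgebra ℂ G ≃ₐ[ℂ] (Π i, Matrix (Fin (d i)) (Fin (d i)) ℂ)) (i : Fin n) :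
    Representation ℂ G (Fin (d i) → ℂ) :=
  ((wedAlgHom e i : MonoidAlgebra ℂ G →* Module.End ℂ (Fin (d i) → ℂ))).comp (MonoidAlgebra.of ℂ G)

theorem wedRep_apply {n : ℕ} {d : Fin n → ℕ}
    (e : MonoidAlgebra ℂ G ≃ₐ[ℂ] (Π i, Matrix (Fin (d i)) (Fin (d i)) ℂ)) (i : Fin n) (g : G) :
    wedRep e i g = Matrix.toLin' (e (MonoidAlgebra.of ℂ G g) i) := rfl

theorem wedRep_asAlgebraHom {n : ℕ} {d : Fin n → ℕ}
    (e : MonoidAlgebra ℂ G ≃ₐ[ℂ] (Π i, Matrix (Fin (d i)) (Fin (d i)) ℂ)) (i : Fin n) :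
    (wedRep e i).asAlgebraHom = wedAlgHom e i :=
  (MonoidAlgebra.lift ℂ (Module.End ℂ (Fin (d i) → ℂ)) G).apply_symm_apply (wedAlgHom e i)

theorem wedRep_character {n : ℕ} {d : Fin n → ℕ}
    (e : MonoidAlgebra ℂ G ≃ₐ[ℂ] (Π i, Matrix (Fin (d i)) (Fin (d i)) ℂ)) (i : Fin n) (g : G) :
    (wedRep e i).character g = (e (MonoidAlgebra.of ℂ G g) i).trace := by
  rw [← repMatrix_trace]
  simp [repMatrix, wedRep_apply]


theorem subrep_asAlgebraHom_mem {V : Type*} [AddCommGroup V] [Module ℂ V]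
    {ρ : Representation ℂ G V} (W : Subrepresentation ρ) (x : MonoidAlgebra ℂ G) {w : V}
    (hw : w ∈ W.toSubmodule) : ρ.asAlgebraHom x w ∈ W.toSubmodule := by
  induction x using MonoidAlgebra.induction_linear with
  | zero => simp
  | add a b ha hb => simpa [map_add] using W.toSubmodule.add_mem ha hb
  | single g a =>
    rw [Representation.asAlgebraHom_single]
    exact W.toSubmodule.smul_mem a (W.apply_mem_toSubmodule g hw)

theorem wedRep_irreducible {n : ℕ} {d : Fin n → ℕ}
    (e : MonoidAlgebra ℂ G ≃ₐ[ℂ] (Π i, Matrix (Fin (d i)) (Fin (d i)) ℂ)) (i : Fin n)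
    (hd : d i ≠ 0) : (wedRep e i).IsIrreducible := by
  classical
  have hmat : ∀ (W : Subrepresentation (wedRep e i)) (A : Matrix (Fin (d i)) (Fin (d i)) ℂ)
      {w : Fin (d i) → ℂ}, w ∈ W.toSubmodule → A.mulVec w ∈ W.toSubmodule := by
    intro W A w hw
    have h1 := subrep_asAlgebraHom_mem W (e.symm (Pi.single i A)) hw
    rw [wedRep_asAlgebraHom, wedAlgHom_apply] at h1
    simpa using h1
  refine { exists_pair_ne := ?_, eq_bot_or_eq_top := ?_ }
  · refine ⟨⊥, ⊤, ?_⟩
    intro h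
    have h2 : (⊥ : Subrepresentation (wedRep e i)).toSubmodule = (⊤ : Subrepresentation (wedRep e i)).toSubmodule := by rw [h]
    have h3 : (fun _ => (1:ℂ)) ∈ (⊤ : Subrepresentation (wedRep e i)).toSubmodule := Submodule.mem_top
    rw [← h2] at h3
    have h4 : (fun _ : Fin (d i) => (1:ℂ)) = 0 := (Submodule.mem_bot ℂ).mp h3
    have := congrFun h4 ⟨0, Nat.pos_of_ne_zero hd⟩
    simp at this
  · intro W
    by_cases hW : W.toSubmodule = ⊥
    · left
      apply Subrepresentation.toSubmodule_injective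
      exact hW
    · right
      apply Subrepresentation.toSubmodule_injective
      show W.toSubmodule = ⊤
      obtain ⟨w, hwW, hw0⟩ := Submodule.exists_mem_ne_zero_of_ne_bot hW
      obtain ⟨j, hj⟩ : ∃ j, w j ≠ 0 := by
        by_contra hcon
        simp only [not_exists, not_not] at hcon
        exact hw0 (funext hcon)
      rw [Submodule.eq_top_iff']
      intro v
      have := hmat W (Matrix.vecMulVec v (Pi.single j (w j)⁻¹)) hwW
      rw [Matrix.vecMulVec_mulVec] at this
      simpa [dotProduct, Pi.single_apply, hj] using this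


/-- The group-algebra element attached to a function `f`: the sum of `f g • g⁻¹`. -/
noncomputable def classElt [Fintype G] (f : G → ℂ) : MonoidAlgebra ℂ G :=
  ∑ g : G, f g • MonoidAlgebra.of ℂ G g⁻¹

theorem classElt_apply [Fintype G] (f : G → ℂ) (h : G) : (classElt f).coeff h⁻¹ = f h := by
  classical
  simp [classElt, MonoidAlgebra.coeff_sum, Finsupp.finsetSum_apply, MonoidAlgebra.of_apply,
    Finsupp.single_apply]

theorem classElt_comm_of [Fintype G] {f : G → ℂ} (hf : IsClassFunction G f) (h : G) :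
    classElt f * MonoidAlgebra.of ℂ G h = MonoidAlgebra.of ℂ G h * classElt f := by
  simp only [classElt, Finset.sum_mul, Finset.mul_sum, smul_mul_assoc, mul_smul_comm, ← map_mul]
  refine Fintype.sum_equiv (MulAut.conj h⁻¹).toEquiv _ _ (fun g => ?_)
  have := hf g h⁻¹
  simp only [inv_inv] at this
  simp [this]

theorem classElt_comm [Fintype G] {f : G → ℂ} (hf : IsClassFunction G f) (x : MonoidAlgebra ℂ G) :
    classElt f * x = x * classElt f := by
  induction x using MonoidAlgebra.induction_linear with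
  | zero => simp
  | add a b ha hb => rw [mul_add, add_mul, ha, hb]
  | single g a =>
    have : MonoidAlgebra.single g a = a • MonoidAlgebra.of ℂ G g := by
      simp [MonoidAlgebra.of_apply]
    rw [this, mul_smul_comm, smul_mul_assoc, classElt_comm_of hf]

theorem wed_complete [Fintype G] {n : ℕ} {d : Fin n → ℕ}
    (e : MonoidAlgebra ℂ G ≃ₐ[ℂ] (Π i, Matrix (Fin (d i)) (Fin (d i)) ℂ))
    (hd : ∀ i, d i ≠ 0) {f : G → ℂ} (hf : IsClassFunction G f)
    (h : ∀ i, ∑ g : G, f g * (wedRep e i).character g⁻¹ = 0) : f = 0 := by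
  classical
  have hz : e (classElt f) = 0 := by
    funext i
    have hcomm : ∀ A : Matrix (Fin (d i)) (Fin (d i)) ℂ, Commute A (e (classElt f) i) := by
      intro A
      have h1 := classElt_comm hf (e.symm (Pi.single i A))
      have h2 := congrArg (fun y => e y i) h1
      simp only [map_mul, AlgEquiv.apply_symm_apply, Pi.mul_apply, Pi.single_eq_same] at h2
      exact h2.symm
    obtain ⟨c, hc⟩ := Matrix.mem_range_scalar_iff_commute_single'.mpr (fun a b => hcomm _)
    have htr : (e (classElt f) i).trace = ∑ g : G, f g * (wedRep e i).character g⁻¹ := by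
      simp only [classElt, map_sum, map_smul, Finset.sum_apply, Pi.smul_apply, Matrix.trace_sum,
        Matrix.trace_smul, wedRep_character, smul_eq_mul]
    rw [h i, ← hc] at htr
    simp only [Matrix.scalar_apply, Matrix.trace_diagonal, Finset.sum_const, Finset.card_univ,
      Fintype.card_fin, nsmul_eq_mul] at htr
    have hc0 : c = 0 := by
      rcases mul_eq_zero.mp htr with h0 | h0
      · exact absurd (by exact_mod_cast h0) (hd i)
      · exact h0
    rw [← hc, hc0]
    simp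
  have hz' : classElt f = 0 := by
    have := congrArg e.symm hz
    simpa using this
  funext g
  rw [← classElt_apply f g, hz']
  rfl


theorem wed_trace_eq [Fintype G] {n : ℕ} {d : Fin n → ℕ}
    (e : MonoidAlgebra ℂ G ≃ₐ[ℂ] (Π i, Matrix (Fin (d i)) (Fin (d i)) ℂ)) (i : Fin n)
    (x : MonoidAlgebra ℂ G) :
    (e x i).trace = ∑ g : G, x.coeff g * (wedRep e i).character g := by
  classical
  induction x using MonoidAlgebra.induction_linear with
  | zero => simp
  | add a b ha hb =>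
    simp only [map_add, Pi.add_apply, Matrix.trace_add, ha, hb, MonoidAlgebra.coeff_add,
      Finsupp.add_apply, add_mul, Finset.sum_add_distrib]
  | single g a =>
    have : MonoidAlgebra.single g a = a • MonoidAlgebra.of ℂ G g := by
      simp [MonoidAlgebra.of_apply]
    rw [this]
    simp only [map_smul, Pi.smul_apply, Matrix.trace_smul, smul_eq_mul, wedRep_character,
      MonoidAlgebra.coeff_smul, MonoidAlgebra.of_apply, MonoidAlgebra.coeff_single,
      Finsupp.smul_apply, Finsupp.single_apply]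
    simp

theorem wed_injective [Fintype G] {n : ℕ} {d : Fin n → ℕ}
    (e : MonoidAlgebra ℂ G ≃ₐ[ℂ] (Π i, Matrix (Fin (d i)) (Fin (d i)) ℂ))
    (hd : ∀ i, d i ≠ 0) : Function.Injective (fun i => (wedRep e i).character) := by
  classical
  intro i j hij
  by_contra hne
  simp only at hij
  have h1 := wed_trace_eq e i (e.symm (Pi.single i 1))
  have h2 := wed_trace_eq e j (e.symm (Pi.single i 1))
  rw [hij, ← h2] at h1
  simp only [AlgEquiv.apply_symm_apply, Pi.single_eq_same, Matrix.trace_one, Fintype.card_fin] at h1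
  rw [Pi.single_eq_of_ne (Ne.symm hne)] at h1
  simp only [Matrix.trace_zero] at h1
  exact hd i (by exact_mod_cast h1)

theorem wed_sum_sq [Finite G] {n : ℕ} {d : Fin n → ℕ}
    (e : MonoidAlgebra ℂ G ≃ₐ[ℂ] (Π i, Matrix (Fin (d i)) (Fin (d i)) ℂ)) :
    ∑ i, d i ^ 2 = Nat.card G := by
  have := Fintype.ofFinite G
  have h1 := e.toLinearEquiv.finrank_eq
  rw [Module.finrank_pi_fintype] at h1
  simp only [Module.finrank_matrix, Fintype.card_fin, Module.finrank_self, mul_one] at h1
  have h2 : Module.finrank ℂ (MonoidAlgebra ℂ G) = Nat.card G := by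
    rw [(MonoidAlgebra.coeffLinearEquiv (R := ℂ) (M := G) (S := ℂ)).finrank_eq]
    simp [Nat.card_eq_fintype_card]
  rw [← h2, h1]
  exact Finset.sum_congr rfl (fun i _ => by ring)

theorem exists_wed [Finite G] : ∃ (n : ℕ) (d : Fin n → ℕ), (∀ i, d i ≠ 0) ∧
    Nonempty (MonoidAlgebra ℂ G ≃ₐ[ℂ] (Π i, Matrix (Fin (d i)) (Fin (d i)) ℂ)) := by
  have : NeZero (Nat.card G : ℂ) := ⟨by exact_mod_cast Nat.card_pos.ne'⟩
  obtain ⟨n, d, hd, ⟨e⟩⟩ :=
    IsSemisimpleRing.exists_algEquiv_pi_matrix_of_isAlgClosed ℂ (MonoidAlgebra ℂ G)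
  exact ⟨n, d, fun i => (hd i).ne, ⟨e⟩⟩

theorem wedRep_isIrr {n : ℕ} {d : Fin n → ℕ}
    (e : MonoidAlgebra ℂ G ≃ₐ[ℂ] (Π i, Matrix (Fin (d i)) (Fin (d i)) ℂ))
    (hd : ∀ i, d i ≠ 0) (i : Fin n) : IsIrrCharacter G (wedRep e i).character :=
  ⟨d i, wedRep e i, wedRep_irreducible e i (hd i), rfl⟩

theorem wedRep_char_one {n : ℕ} {d : Fin n → ℕ}
    (e : MonoidAlgebra ℂ G ≃ₐ[ℂ] (Π i, Matrix (Fin (d i)) (Fin (d i)) ℂ)) (i : Fin n) :
    (wedRep e i).character 1 = d i := by
  simp

theorem classInner_eq_sum_inv [Fintype G] (f : G → ℂ) {χ : G → ℂ} (hχ : IsCharacter G χ) :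
    classInner f χ = (Nat.card G : ℂ)⁻¹ * ∑ g : G, f g * χ g⁻¹ := by
  simp only [classInner, char_inv hχ]

/-- Completeness: a class function orthogonal to all irreducible characters vanishes. -/
theorem irr_complete [Fintype G] {f : G → ℂ} (hf : IsClassFunction G f)
    (h : ∀ χ : IrrCharacter G, classInner f (χ : G → ℂ) = 0) : f = 0 := by
  obtain ⟨n, d, hd, ⟨e⟩⟩ := exists_wed (G := G)
  apply wed_complete e hd hf
  intro i
  have h1 := h ⟨_, wedRep_isIrr e hd i⟩
  rw [classInner_eq_sum_inv f (irr_isCharacter (wedRep_isIrr e hd i))] at h1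
  have hG : (Nat.card G : ℂ) ≠ 0 := by exact_mod_cast Nat.card_pos.ne'
  rcases mul_eq_zero.mp h1 with h2 | h2
  · exact absurd (inv_eq_zero.mp h2) hG
  · exact h2

/-- Every irreducible character is the character of a Wedderburn component. -/
theorem irr_eq_wed [Finite G] {n : ℕ} {d : Fin n → ℕ}
    (e : MonoidAlgebra ℂ G ≃ₐ[ℂ] (Π i, Matrix (Fin (d i)) (Fin (d i)) ℂ))
    (hd : ∀ i, d i ≠ 0) {χ : G → ℂ} (hχ : IsIrrCharacter G χ) :
    ∃ i, (wedRep e i).character = χ := by
  have := Fintype.ofFinite G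
  by_contra hcon
  simp only [not_exists] at hcon
  have : χ = 0 := by
    apply wed_complete e hd (char_isClassFunction (irr_isCharacter hχ))
    intro i
    have h1 := irr_classInner_ne hχ (wedRep_isIrr e hd i) (fun h => hcon i h.symm)
    rw [classInner_eq_sum_inv χ (irr_isCharacter (wedRep_isIrr e hd i))] at h1
    have hG : (Nat.card G : ℂ) ≠ 0 := by exact_mod_cast Nat.card_pos.ne'
    rcases mul_eq_zero.mp h1 with h2 | h2
    · exact absurd (inv_eq_zero.mp h2) hG
    · exact h2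
  exact irr_apply_one_ne_zero hχ (by rw [this]; rfl)

/-- The bijection between Wedderburn components and irreducible characters. -/
noncomputable def wedEquiv [Finite G] {n : ℕ} {d : Fin n → ℕ}
    (e : MonoidAlgebra ℂ G ≃ₐ[ℂ] (Π i, Matrix (Fin (d i)) (Fin (d i)) ℂ))
    (hd : ∀ i, d i ≠ 0) : Fin n ≃ IrrCharacter G :=
  Equiv.ofBijective (fun i => ⟨(wedRep e i).character, wedRep_isIrr e hd i⟩) (by
    have := Fintype.ofFinite G
    constructor
    · intro i j hij
      exact wed_injective e hd (congrArg Subtype.val hij)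
    · intro χ
      obtain ⟨i, hi⟩ := irr_eq_wed e hd χ.2
      exact ⟨i, Subtype.ext hi⟩)

theorem wedEquiv_apply [Finite G] {n : ℕ} {d : Fin n → ℕ}
    (e : MonoidAlgebra ℂ G ≃ₐ[ℂ] (Π i, Matrix (Fin (d i)) (Fin (d i)) ℂ))
    (hd : ∀ i, d i ≠ 0) (i : Fin n) :
    ((wedEquiv e hd i : IrrCharacter G) : G → ℂ) = (wedRep e i).character := rfl

/-- Sum of squares of the degrees of the irreducible characters is the group order. -/
theorem sum_irr_degree_sq [Finite G] [Fintype (IrrCharacter G)] :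
    ∑ χ : IrrCharacter G, charDegree (χ : G → ℂ) ^ 2 = Nat.card G := by
  obtain ⟨n, d, hd, ⟨e⟩⟩ := exists_wed (G := G)
  rw [← wed_sum_sq e]
  symm
  refine Fintype.sum_equiv (wedEquiv e hd) _ _ (fun i => ?_)
  rw [wedEquiv_apply, charDegree_natCast _ (d i) (wedRep_char_one e i)]

theorem finsum_irr_degree_sq [Finite G] :
    ∑ᶠ χ : IrrCharacter G, charDegree (χ : G → ℂ) ^ 2 = Nat.card G := by
  have := Fintype.ofFinite (IrrCharacter G)
  rw [finsum_eq_sum_of_fintype, sum_irr_degree_sq]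


end Cfsg.Agent.helper24
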