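import Cfsg.Agent.Lib_helper24_CharBasic
import Cfsg.Agent.Lib_helper24_CharOrth
import Cfsg.Agent.Lib_helper24_CharWed
import Cfsg.Agent.Lib_helper24_CharCount
import Cfsg.Agent.Lib_helper24_CharConv
import Cfsg.Agent.Lib_helper24_CharValues
import Cfsg.Agent.Lib_helper24_CharNormal
import Cfsg.Agent.Lib_helper24_CharKer
import Cfsg.Agent.Lib_helper24_CharIntegral
import Cfsg.Agent.Lib_helper24_CharQuot
import Cfsg.Agent.Lib_helper24_CharCod
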