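import Mathlib
import Cfsg.Prelude.Def_Characters

set_option autoImplicit false

namespace Cfsg.Agent.helper5

open scoped ComplexConjugate

/-- The fibre of `x ↦ x⁻¹ g x` over a conjugate of `g` is in bijection with the centralizer. -/
theorem card_conj_fiber {G : Type*} [Group G] (g y : G) (h : IsConj g y) :
    Nat.card {x : G // x⁻¹ * g * x = y} = Nat.card (Subgroup.centralizer ({g} : Set G)) := by
  obtain ⟨k, hk⟩ := isConj_iff.mp h
  -- k * g * k⁻¹ = y
  subst hk
  refine Nat.card_congr
    { toFun := fun x => ⟨x.1 * k, ?_⟩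
      invFun := fun c => ⟨c.1 * k⁻¹, ?_⟩
      left_inv := fun x => by apply Subtype.ext; simp
      right_inv := fun c => by apply Subtype.ext; simp }
  · rw [Subgroup.mem_centralizer_iff]
    intro z hz
    rw [Set.mem_singleton_iff] at hz
    subst hz
    have := x.2
    -- x⁻¹ z x = k z k⁻¹
    calc z * (x.1 * k) = x.1 * (x.1⁻¹ * z * x.1) * k := by group
      _ = x.1 * (k * z * k⁻¹) * k := by rw [this]
      _ = x.1 * k * z := by group
  · have hc := Subgroup.mem_centralizer_iff.mp c.2 g (Set.mem_singleton g)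
    -- g * c = c * g
    calc (c.1 * k⁻¹)⁻¹ * g * (c.1 * k⁻¹) = k * (c.1⁻¹ * (g * c.1)) * k⁻¹ := by group
      _ = k * (c.1⁻¹ * (c.1 * g)) * k⁻¹ := by rw [hc]
      _ = k * g * k⁻¹ := by group

theorem card_conj_fiber_of_not {G : Type*} [Group G] (g y : G) (h : ¬ IsConj g y) :
    Nat.card {x : G // x⁻¹ * g * x = y} = 0 := by
  have : IsEmpty {x : G // x⁻¹ * g * x = y} := by
    constructor
    rintro ⟨x, hx⟩
    exact h (isConj_iff.mpr ⟨x⁻¹, by simpa using hx⟩)
  simp

/-- Summing `f (x⁻¹ g x)` over the group. -/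
theorem sum_conj_eq {G : Type*} [Group G] [Fintype G] [DecidableEq G] (g : G) (f : G → ℂ)
    [DecidablePred (IsConj g)] :
    ∑ x : G, f (x⁻¹ * g * x) =
      (Nat.card (Subgroup.centralizer ({g} : Set G)) : ℂ) *
        ∑ y : G, if IsConj g y then f y else 0 := by
  classical
  have h1 : ∑ x : G, f (x⁻¹ * g * x) =
      ∑ y : G, ∑ x ∈ Finset.univ.filter (fun x : G => x⁻¹ * g * x = y), f y := by
    rw [← Finset.sum_fiberwise (s := Finset.univ) (g := fun x : G => x⁻¹ * g * x)
      (f := fun x => f (x⁻¹ * g * x))]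
    apply Finset.sum_congr rfl
    intro y _
    apply Finset.sum_congr rfl
    intro x hx
    rw [(Finset.mem_filter.mp hx).2]
  rw [h1, Finset.mul_sum]
  apply Finset.sum_congr rfl
  intro y _
  rw [Finset.sum_const, nsmul_eq_mul]
  have hcard : (Finset.univ.filter (fun x : G => x⁻¹ * g * x = y)).card =
      Nat.card {x : G // x⁻¹ * g * x = y} := by
    rw [Nat.card_eq_fintype_card, Fintype.card_subtype]
  rw [hcard]
  by_cases hy : IsConj g y
  · rw [card_conj_fiber g y hy, if_pos hy]
  · rw [card_conj_fiber_of_not g y hy, if_neg hy]; simp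

theorem extendByZero_coe {G : Type*} [Group G] (H : Subgroup G) (θ : H → ℂ) (h : H) :
    extendByZero H θ (h : G) = θ h := by
  unfold extendByZero
  exact Subtype.val_injective.extend_apply θ 0 h

theorem extendByZero_of_not_mem {G : Type*} [Group G] (H : Subgroup G) (θ : H → ℂ) (g : G)
    (hg : g ∉ H) : extendByZero H θ g = 0 := by
  unfold extendByZero
  rw [Function.extend_apply']
  · rfl
  · rintro ⟨a, ha⟩
    exact hg (ha ▸ a.2)

theorem extendByZero_of_mem {G : Type*} [Group G] (H : Subgroup G) (θ : H → ℂ) (g : G)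
    (hg : g ∈ H) : extendByZero H θ g = θ ⟨g, hg⟩ :=
  extendByZero_coe H θ ⟨g, hg⟩

/-- A sum over `G` of an extension by zero is a sum over `H`. -/
theorem sum_extendByZero {G : Type*} [Group G] [Fintype G] (H : Subgroup G) [Fintype H]
    (θ : H → ℂ) (P : G → Prop) [DecidablePred P] :
    (∑ y : G, if P y then extendByZero H θ y else 0) = ∑ h : H, if P (h : G) then θ h else 0 := by
  classical
  have h2 : (∑ y : G, if P y then extendByZero H θ y else 0) =
      ∑ y ∈ Finset.univ.filter (fun y : G => y ∈ H), if P y then extendByZero H θ y else 0 := by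
    symm
    apply Finset.sum_subset (Finset.subset_univ _)
    intro y _ hy
    have : y ∉ H := by simpa using hy
    rw [extendByZero_of_not_mem H θ y this]; simp
  rw [h2]
  rw [Finset.sum_subtype (Finset.univ.filter (fun y : G => y ∈ H)) (p := fun y => y ∈ H)
    (by intro y; simp) (fun y => if P y then extendByZero H θ y else 0)]
  apply Finset.sum_congr rfl
  intro h _
  rw [extendByZero_coe]

/-- The induced function, as a sum over the subgroup. -/
theorem indFun_apply {G : Type*} [Group G] [Fintype G] (H : Subgroup G) [Fintype H] (θ : H → ℂ)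
    (g : G) [DecidablePred (IsConj g)] :
    indFun H θ g = (Nat.card H : ℂ)⁻¹ * ((Nat.card (Subgroup.centralizer ({g} : Set G)) : ℂ) *
      ∑ h : H, if IsConj g (h : G) then θ h else 0) := by
  classical
  unfold indFun
  rw [sum_conj_eq g (extendByZero H θ), sum_extendByZero]

theorem card_centralizer_mul_index {G : Type*} [Group G] (g : G) :
    Nat.card (Subgroup.centralizer ({g} : Set G)) * (Subgroup.centralizer ({g} : Set G)).index
      = Nat.card G :=
  Subgroup.card_mul_index _

end Cfsg.Agent.helper5
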