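import Mathlib
import Cfsg.Prelude.Def_Characters
import Cfsg.Agent.Lib_helper5_Ind
import Cfsg.Agent.Lib_helper24_CharOrth

set_option autoImplicit false

/-!
Induction of class functions (shared library, helper8): right-linearity of `classInner`,
`indFun` is a class function, Frobenius reciprocity, twisting an irreducible character by a
group isomorphism, induction from a normal subgroup.
-/

namespace Cfsg.Agent.helper8

open scoped ComplexConjugate
open Cfsg.Agent.helper24 Cfsg.Agent.helper5

universe u
variable {G : Type u} [Group G]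

theorem classInner_smul_right [Fintype G] (c : ℂ) (f ψ : G → ℂ) :
    classInner f (c • ψ) = conj c * classInner f ψ := by
  rw [← classInner_conj_symm, classInner_smul_left, map_mul, classInner_conj_symm]

theorem classInner_sub_right [Fintype G] (f ψ₁ ψ₂ : G → ℂ) :
    classInner f (ψ₁ - ψ₂) = classInner f ψ₁ - classInner f ψ₂ := by
  rw [← classInner_conj_symm, classInner_sub_left, map_sub, classInner_conj_symm,
    classInner_conj_symm]

theorem classInner_add_right [Fintype G] (f ψ₁ ψ₂ : G → ℂ) :
    classInner f (ψ₁ + ψ₂) = classInner f ψ₁ + classInner f ψ₂ := by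
  rw [← classInner_conj_symm, classInner_add_left, map_add, classInner_conj_symm,
    classInner_conj_symm]

theorem classInner_zero_right [Fintype G] (f : G → ℂ) : classInner f (0 : G → ℂ) = 0 := by
  rw [← classInner_conj_symm, classInner_zero_left, map_zero]

theorem classInner_sum_right [Fintype G] {ι : Type*} (s : Finset ι) (f : G → ℂ)
    (ψ : ι → G → ℂ) : classInner f (∑ i ∈ s, ψ i) = ∑ i ∈ s, classInner f (ψ i) := by
  rw [← classInner_conj_symm, classInner_sum_left, map_sum]
  apply Finset.sum_congr rfl
  intro i _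
  rw [classInner_conj_symm]

/-- The induced function is a class function. -/
theorem indFun_isClassFunction [Fintype G] (H : Subgroup G) (θ : H → ℂ) :
    IsClassFunction G (indFun H θ) := by
  intro g k
  show (Nat.card H : ℂ)⁻¹ * ∑ x : G, extendByZero H θ (x⁻¹ * (k * g * k⁻¹) * x)
    = (Nat.card H : ℂ)⁻¹ * ∑ x : G, extendByZero H θ (x⁻¹ * g * x)
  congr 1
  apply Fintype.sum_equiv (Equiv.mulLeft k⁻¹)
  intro x
  congr 1
  simp only [Equiv.coe_mulLeft]
  group

theorem sum_extendByZero_mul [Fintype G] (H : Subgroup G) [Fintype H] (θ : H → ℂ) (F : G → ℂ) :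
    ∑ z : G, extendByZero H θ z * F z = ∑ h : H, θ h * F h := by
  classical
  have h2 : (∑ z : G, extendByZero H θ z * F z) =
      ∑ z ∈ Finset.univ.filter (fun y : G => y ∈ H), extendByZero H θ z * F z := by
    symm
    apply Finset.sum_subset (Finset.subset_univ _)
    intro y _ hy
    have : y ∉ H := by simpa using hy
    rw [extendByZero_of_not_mem H θ y this, zero_mul]
  rw [h2, Finset.sum_subtype (Finset.univ.filter (fun y : G => y ∈ H)) (p := fun y => y ∈ H)
    (by intro y; simp) (fun y => extendByZero H θ y * F y)]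
  apply Finset.sum_congr rfl
  intro h _
  rw [extendByZero_coe]

/-- Frobenius reciprocity for `indFun` against a class function. -/
theorem frobenius [Fintype G] (H : Subgroup G) [Fintype H] (θ : H → ℂ) (F : G → ℂ)
    (hF : IsClassFunction G F) :
    classInner (indFun H θ) F = classInner θ (fun h : H => F h) := by
  have key : ∀ x : G, ∑ y : G, extendByZero H θ (x⁻¹ * y * x) * conj (F y)
      = ∑ h : H, θ h * conj (F h) := by
    intro x
    rw [← sum_extendByZero_mul H θ (fun z => conj (F z))]
    apply Fintype.sum_equiv (MulAut.conj x⁻¹).toEquiv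
    intro y
    have e : F (x⁻¹ * y * x) = F y := by
      have := hF y x⁻¹
      rwa [inv_inv] at this
    simp only [MulEquiv.toEquiv_eq_coe, EquivLike.coe_coe, MulAut.conj_apply, inv_inv]
    rw [e]
  have hterm : ∀ y : G, indFun H θ y * conj (F y)
      = (Nat.card H : ℂ)⁻¹ * ∑ x : G, extendByZero H θ (x⁻¹ * y * x) * conj (F y) := by
    intro y
    show ((Nat.card H : ℂ)⁻¹ * ∑ x : G, extendByZero H θ (x⁻¹ * y * x)) * conj (F y) = _
    rw [mul_assoc, Finset.sum_mul]
  unfold classInner
  simp_rw [hterm]
  rw [← Finset.mul_sum, Finset.sum_comm]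
  simp_rw [key]
  rw [Finset.sum_const, Finset.card_univ, nsmul_eq_mul, Nat.card_eq_fintype_card]
  have hG : (Fintype.card G : ℂ) ≠ 0 := by
    exact_mod_cast Fintype.card_ne_zero
  field_simp

/-- Pulling an irreducible representation back along a surjective homomorphism keeps it
irreducible. -/
theorem isIrreducible_comp_surjective {K H : Type*} [Group K] [Group H] {V : Type*}
    [AddCommGroup V] [Module ℂ V] (ρ : Representation ℂ H V) (f : K →* H)
    (hf : Function.Surjective f) [hρ : ρ.IsIrreducible] :
    Representation.IsIrreducible (MonoidHom.comp ρ f : Representation ℂ K V) := by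
  let e : Subrepresentation (MonoidHom.comp ρ f : Representation ℂ K V) ≃o
      Subrepresentation ρ :=
    { toFun := fun σ => ⟨σ.toSubmodule, fun g v hv => by
          obtain ⟨k, rfl⟩ := hf g
          exact σ.apply_mem_toSubmodule k hv⟩
      invFun := fun τ => ⟨τ.toSubmodule, fun k v hv => τ.apply_mem_toSubmodule (f k) hv⟩
      left_inv := fun σ => rfl
      right_inv := fun τ => rfl
      map_rel_iff' := Iff.rfl }
  exact (OrderIso.isSimpleOrder_iff e).mpr hρ

/-- Twisting an irreducible character by a group isomorphism gives an irreducible character. -/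
theorem isIrrCharacter_comp_mulEquiv {K H : Type*} [Group K] [Group H] (f : K ≃* H) {χ : H → ℂ}
    (hχ : IsIrrCharacter H χ) : IsIrrCharacter K (fun k => χ (f k)) := by
  obtain ⟨n, ρ, hρ, rfl⟩ := hχ
  haveI := hρ
  exact ⟨n, (MonoidHom.comp ρ f.toMonoidHom : Representation ℂ K (Fin n → ℂ)),
    isIrreducible_comp_surjective ρ f.toMonoidHom f.surjective, rfl⟩

/-- Twisting a character by a group homomorphism gives a character. -/
theorem isCharacter_comp_monoidHom {K H : Type*} [Group K] [Group H] (f : K →* H) {χ : H → ℂ}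
    (hχ : IsCharacter H χ) : IsCharacter K (fun k => χ (f k)) := by
  obtain ⟨n, ρ, rfl⟩ := hχ
  exact ⟨n, (MonoidHom.comp ρ f : Representation ℂ K (Fin n → ℂ)), rfl⟩

/-- The conjugate `h ↦ θ (g h g⁻¹)` of a function on a normal subgroup. -/
def conjFunN (H : Subgroup G) [hN : H.Normal] (g : G) (θ : H → ℂ) : H → ℂ :=
  fun h : H => θ ⟨g * h * g⁻¹, hN.conj_mem h h.2 g⟩

theorem conjFunN_apply (H : Subgroup G) [hN : H.Normal] (g : G) (θ : H → ℂ) (h : H) :
    conjFunN H g θ h = θ ⟨g * h * g⁻¹, hN.conj_mem h h.2 g⟩ := rfl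

theorem isIrrCharacter_conjFunN (H : Subgroup G) [hN : H.Normal] (g : G) {θ : H → ℂ}
    (hθ : IsIrrCharacter H θ) : IsIrrCharacter H (conjFunN H g θ) := by
  have h1 := isIrrCharacter_comp_mulEquiv (MulAut.conjNormal g : H ≃* H) hθ
  have e : conjFunN H g θ = fun h => θ ((MulAut.conjNormal g : H ≃* H) h) := by
    funext h
    rw [conjFunN_apply]
    congr 1
  rw [e]; exact h1

/-- For `H` normal, `extendByZero` commutes with conjugation. -/
theorem extendByZero_conj (H : Subgroup G) [hN : H.Normal] (g : G) (θ : H → ℂ) (z : G) :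
    extendByZero H θ (g * z * g⁻¹) = extendByZero H (conjFunN H g θ) z := by
  by_cases hz : z ∈ H
  · rw [extendByZero_of_mem H _ z hz, extendByZero_of_mem H θ _ (hN.conj_mem z hz g)]
    rfl
  · rw [extendByZero_of_not_mem H _ z hz, extendByZero_of_not_mem]
    intro h
    apply hz
    have := hN.conj_mem _ h g⁻¹
    have e : g⁻¹ * (g * z * g⁻¹) * g⁻¹⁻¹ = z := by group
    rwa [e] at this

/-- Induction from a normal subgroup, evaluated inside the subgroup. -/
theorem indFun_coe_normal [Fintype G] (H : Subgroup G) [hN : H.Normal] (θ : H → ℂ) (h : H) :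
    indFun H θ (h : G) = (Nat.card H : ℂ)⁻¹ * ∑ x : G, conjFunN H x⁻¹ θ h := by
  show (Nat.card H : ℂ)⁻¹ * ∑ x : G, extendByZero H θ (x⁻¹ * (h : G) * x) = _
  congr 1
  apply Finset.sum_congr rfl
  intro x _
  have e : x⁻¹ * (h : G) * x = x⁻¹ * (h : G) * x⁻¹⁻¹ := by rw [inv_inv]
  rw [e, extendByZero_conj, extendByZero_coe]

/-- Induction from a normal subgroup vanishes outside the subgroup. -/
theorem indFun_of_not_mem_normal [Fintype G] (H : Subgroup G) [hN : H.Normal] (θ : H → ℂ) (g : G)
    (hg : g ∉ H) : indFun H θ g = 0 := by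
  show (Nat.card H : ℂ)⁻¹ * ∑ x : G, extendByZero H θ (x⁻¹ * g * x) = 0
  rw [Finset.sum_eq_zero, mul_zero]
  intro x _
  apply extendByZero_of_not_mem
  intro h
  apply hg
  have := hN.conj_mem _ h x
  have e : x * (x⁻¹ * g * x) * x⁻¹ = g := by group
  rwa [e] at this

/-- Restriction to `H` of the function induced from the normal subgroup `H`. -/
theorem indFun_restrict_normal [Fintype G] (H : Subgroup G) [hN : H.Normal] (θ : H → ℂ) :
    (fun h : H => indFun H θ (h : G)) = (Nat.card H : ℂ)⁻¹ • ∑ x : G, conjFunN H x⁻¹ θ := by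
  funext h
  rw [indFun_coe_normal, Pi.smul_apply, Finset.sum_apply, smul_eq_mul]

end Cfsg.Agent.helper8
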