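import Mathlib
import Cfsg.Agent.Lib_helper24_Char
import Cfsg.Agent.Lib_helper12_CharOps
import Cfsg.Agent.Lib_helper8_Ind

set_option autoImplicit false
set_option linter.unusedSectionVars false
set_option linter.unusedVariables false
set_option linter.style.longLine false
set_option linter.style.haveILetI false

/-!
Products of characters; characters of a direct product (helper1).
-/

namespace Cfsg.Agent.helper1

open Cfsg
open scoped ComplexConjugate

/-- The pointwise product of two characters is a character (tensor product). -/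
theorem isCharacter_mul {G : Type*} [Group G] {χ ψ : G → ℂ} (hχ : IsCharacter G χ)
    (hψ : IsCharacter G ψ) : IsCharacter G (χ * ψ) := by
  obtain ⟨n, ρ, rfl⟩ := hχ
  obtain ⟨m, σ, rfl⟩ := hψ
  have h := Cfsg.Agent.helper12.isCharacter_of_rep (Representation.tprod ρ σ)
  rw [Representation.char_tensor] at h
  exact h

/-- The external product of two functions. -/
def extProd {G H : Type*} (φ : G → ℂ) (ψ : H → ℂ) : G × H → ℂ := fun x => φ x.1 * ψ x.2

theorem isCharacter_extProd {G H : Type*} [Group G] [Group H] {φ : G → ℂ} {ψ : H → ℂ}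
    (hφ : IsCharacter G φ) (hψ : IsCharacter H ψ) : IsCharacter (G × H) (extProd φ ψ) := by
  have h1 := Cfsg.Agent.helper8.isCharacter_comp_monoidHom (MonoidHom.fst G H) hφ
  have h2 := Cfsg.Agent.helper8.isCharacter_comp_monoidHom (MonoidHom.snd G H) hψ
  exact isCharacter_mul h1 h2

theorem classInner_extProd {G H : Type*} [Group G] [Group H] [Fintype G] [Fintype H]
    (φ φ' : G → ℂ) (ψ ψ' : H → ℂ) :
    classInner (extProd φ ψ) (extProd φ' ψ') = classInner φ φ' * classInner ψ ψ' := by
  unfold classInner extProd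
  rw [Fintype.sum_prod_type, Nat.card_prod]
  have : ∀ x : G, ∑ y : H, φ (x, y).1 * ψ (x, y).2 * conj (φ' (x, y).1 * ψ' (x, y).2)
      = (φ x * conj (φ' x)) * ∑ y : H, ψ y * conj (ψ' y) := by
    intro x
    rw [Finset.mul_sum]
    apply Finset.sum_congr rfl
    intro y _
    rw [map_mul]
    ring
  rw [Finset.sum_congr rfl (fun x _ => this x), ← Finset.sum_mul]
  push_cast
  rw [mul_inv]
  ring

theorem isIrrCharacter_extProd {G H : Type*} [Group G] [Group H] [Finite G] [Finite H]
    {φ : G → ℂ} {ψ : H → ℂ}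
    (hφ : IsIrrCharacter G φ) (hψ : IsIrrCharacter H ψ) :
    IsIrrCharacter (G × H) (extProd φ ψ) := by
  classical
  haveI := Fintype.ofFinite G
  haveI := Fintype.ofFinite H
  apply Cfsg.Agent.helper12.isIrrCharacter_of_classInner_self
    (isCharacter_extProd (Cfsg.Agent.helper24.irr_isCharacter hφ)
      (Cfsg.Agent.helper24.irr_isCharacter hψ))
  rw [classInner_extProd, Cfsg.Agent.helper24.irr_classInner_self hφ,
    Cfsg.Agent.helper24.irr_classInner_self hψ, one_mul]

/-- The external product map on irreducible characters. -/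
noncomputable def irrProd {G H : Type*} [Group G] [Group H] [Finite G] [Finite H]
    (x : IrrCharacter G × IrrCharacter H) : IrrCharacter (G × H) :=
  ⟨extProd (x.1 : G → ℂ) (x.2 : H → ℂ), isIrrCharacter_extProd x.1.2 x.2.2⟩

theorem irrProd_injective {G H : Type*} [Group G] [Group H] [Finite G] [Finite H] :
    Function.Injective (irrProd (G := G) (H := H)) := by
  classical
  haveI := Fintype.ofFinite G
  haveI := Fintype.ofFinite H
  intro x y hxy
  have h1 : extProd (x.1 : G → ℂ) (x.2 : H → ℂ) = extProd (y.1 : G → ℂ) (y.2 : H → ℂ) :=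
    congrArg Subtype.val hxy
  have h2 : classInner (extProd (x.1 : G → ℂ) (x.2 : H → ℂ)) (extProd (y.1 : G → ℂ) (y.2 : H → ℂ))
      = 1 := by
    rw [← h1, classInner_extProd, Cfsg.Agent.helper24.irr_classInner_self x.1.2,
      Cfsg.Agent.helper24.irr_classInner_self x.2.2, one_mul]
  rw [classInner_extProd, Cfsg.Agent.helper24.irr_classInner x.1.2 y.1.2,
    Cfsg.Agent.helper24.irr_classInner x.2.2 y.2.2] at h2
  by_cases ha : (x.1 : G → ℂ) = (y.1 : G → ℂ)
  · by_cases hb : (x.2 : H → ℂ) = (y.2 : H → ℂ)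
    · exact Prod.ext (Subtype.ext ha) (Subtype.ext hb)
    · rw [if_neg hb, mul_zero] at h2
      exact absurd h2 zero_ne_one
  · rw [if_neg ha, zero_mul] at h2
    exact absurd h2 zero_ne_one

theorem charDegree_irrProd {G H : Type*} [Group G] [Group H] [Finite G] [Finite H]
    (x : IrrCharacter G × IrrCharacter H) :
    charDegree (irrProd x : G × H → ℂ) = charDegree (x.1 : G → ℂ) * charDegree (x.2 : H → ℂ) := by
  apply Cfsg.Agent.helper24.charDegree_natCast
  show extProd (x.1 : G → ℂ) (x.2 : H → ℂ) 1 = _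
  unfold extProd
  rw [Prod.fst_one, Prod.snd_one,
    ← Cfsg.Agent.helper24.char_charDegree_cast (Cfsg.Agent.helper24.irr_isCharacter x.1.2),
    ← Cfsg.Agent.helper24.char_charDegree_cast (Cfsg.Agent.helper24.irr_isCharacter x.2.2)]
  push_cast
  rfl

theorem irrProd_surjective {G H : Type*} [Group G] [Group H] [Finite G] [Finite H] :
    Function.Surjective (irrProd (G := G) (H := H)) := by
  classical
  haveI := Fintype.ofFinite G
  haveI := Fintype.ofFinite H
  haveI := Fintype.ofFinite (IrrCharacter G)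
  haveI := Fintype.ofFinite (IrrCharacter H)
  haveI := Fintype.ofFinite (IrrCharacter (G × H))
  intro θ
  by_contra hθ
  push Not at hθ
  have hGH := Cfsg.Agent.helper24.sum_irr_degree_sq (G := G × H)
  have hG := Cfsg.Agent.helper24.sum_irr_degree_sq (G := G)
  have hH := Cfsg.Agent.helper24.sum_irr_degree_sq (G := H)
  set T : Finset (IrrCharacter (G × H)) := Finset.univ.image (irrProd (G := G) (H := H)) with hT
  have hθT : θ ∉ T := by
    intro h
    obtain ⟨x, _, hx⟩ := Finset.mem_image.mp h
    exact hθ x hx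
  have hsumT : ∑ χ ∈ T, charDegree (χ : G × H → ℂ) ^ 2 = Nat.card G * Nat.card H := by
    rw [hT, Finset.sum_image (fun x _ y _ h => irrProd_injective h), Fintype.sum_prod_type]
    simp_rw [charDegree_irrProd, mul_pow]
    rw [← hG, ← hH, Finset.sum_mul_sum]
  have hlt : ∑ χ ∈ T, charDegree (χ : G × H → ℂ) ^ 2 <
      ∑ χ : IrrCharacter (G × H), charDegree (χ : G × H → ℂ) ^ 2 := by
    have hsub : insert θ T ⊆ Finset.univ := Finset.subset_univ _
    calc ∑ χ ∈ T, charDegree (χ : G × H → ℂ) ^ 2
        < charDegree (θ : G × H → ℂ) ^ 2 + ∑ χ ∈ T, charDegree (χ : G × H → ℂ) ^ 2 := by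
          have := Cfsg.Agent.helper24.irr_charDegree_pos θ.2
          have : 0 < charDegree (θ : G × H → ℂ) ^ 2 := by positivity
          omega
      _ = ∑ χ ∈ insert θ T, charDegree (χ : G × H → ℂ) ^ 2 := by
          rw [Finset.sum_insert hθT]
      _ ≤ ∑ χ : IrrCharacter (G × H), charDegree (χ : G × H → ℂ) ^ 2 :=
          Finset.sum_le_sum_of_subset hsub
  rw [hsumT, hGH, Nat.card_prod] at hlt
  exact lt_irrefl _ hlt

end Cfsg.Agent.helper1
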