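import Mathlib
import Cfsg.Prelude.Def_Characters

set_option autoImplicit false

namespace Cfsg.Agent.helper23

open Representation

/-- The character of a representation on a one-dimensional coordinate space is multiplicative. -/
theorem character_mul_of_dim_one {G : Type*} [Group G] (ρ : Representation ℂ G (Fin 1 → ℂ))
    (g h : G) : ρ.character (g * h) = ρ.character g * ρ.character h := by
  unfold Representation.character
  rw [map_mul]
  simp only [LinearMap.trace_eq_matrix_trace ℂ (Pi.basisFun ℂ (Fin 1)), Matrix.trace_fin_one,
    LinearMap.toMatrix_mul, Matrix.mul_apply, Fin.sum_univ_one]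

/-- A character of degree one is multiplicative. -/
theorem linear_char_mul {G : Type*} [Group G] {χ : G → ℂ} (hχ : Cfsg.IsCharacter G χ)
    (h1 : χ 1 = 1) (g h : G) : χ (g * h) = χ g * χ h := by
  obtain ⟨n, ρ, rfl⟩ := hχ
  rw [Representation.char_one, Module.finrank_fin_fun] at h1
  have hn : n = 1 := by exact_mod_cast h1
  subst hn
  exact character_mul_of_dim_one ρ g h

/-- A character of degree one is trivial on the commutator subgroup. -/
theorem linear_char_mul_commutator {G : Type*} [Group G] {χ : G → ℂ}
    (hχ : Cfsg.IsCharacter G χ) (h1 : χ 1 = 1) (g c : G) (hc : c ∈ commutator G) :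
    χ (g * c) = χ g := by
  let f : G →* ℂ :=
    { toFun := χ
      map_one' := h1
      map_mul' := linear_char_mul hχ h1 }
  have hker : commutator G ≤ f.toHomUnits.ker := Abelianization.commutator_subset_ker _
  have h2 : f.toHomUnits c = 1 := hker hc
  have h3 : χ c = 1 := by
    have := congrArg Units.val h2
    simpa [f] using this
  rw [linear_char_mul hχ h1, h3, mul_one]

end Cfsg.Agent.helper23
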