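import Mathlib
import Cfsg.Prelude.Def_Characters
import Cfsg.Agent.Lib_helper23_Linear
import Cfsg.Agent.Lib_helper24_CharValues

set_option autoImplicit false

namespace Cfsg.Agent.helper23

open Cfsg.Agent.helper24

section
variable {G : Type*} [Group G]

/-- A homomorphism to `ℂˣ` gives an irreducible character. -/
theorem isIrrCharacter_of_hom (lam : G →* ℂˣ) :
    Cfsg.IsIrrCharacter G (fun g => ((lam g : ℂˣ) : ℂ)) := by
  let ρ : Representation ℂ G (Fin 1 → ℂ) :=
    { toFun := fun g => ((lam g : ℂˣ) : ℂ) • LinearMap.id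
      map_one' := by
        rw [map_one, Units.val_one, one_smul]
        rfl
      map_mul' := fun g h => by
        rw [map_mul, Units.val_mul]
        ext v
        simp [mul_assoc]
        ring }
  refine ⟨1, ρ, rep_irreducible_of_dim_one ρ, ?_⟩
  funext g
  simp [Representation.character, ρ]

/-- The irreducible character attached to a homomorphism to `ℂˣ`. -/
noncomputable def linIrr (lam : G →* ℂˣ) : Cfsg.IrrCharacter G :=
  ⟨fun g => ((lam g : ℂˣ) : ℂ), isIrrCharacter_of_hom lam⟩

theorem linIrr_apply (lam : G →* ℂˣ) (g : G) : (linIrr lam : G → ℂ) g = ((lam g : ℂˣ) : ℂ) := rfl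

theorem linIrr_injective : Function.Injective (linIrr : (G →* ℂˣ) → Cfsg.IrrCharacter G) := by
  intro a b hab
  ext g
  have := congrFun (congrArg Subtype.val hab) g
  exact this

/-- A character of degree one comes from a homomorphism to `ℂˣ`. -/
theorem exists_hom_of_linear {χ : G → ℂ} (hχ : Cfsg.IsCharacter G χ) (h1 : χ 1 = 1) :
    ∃ lam : G →* ℂˣ, ∀ g, χ g = ((lam g : ℂˣ) : ℂ) := by
  let f : G →* ℂ :=
    { toFun := χ
      map_one' := h1
      map_mul' := linear_char_mul hχ h1 }
  refine ⟨f.toHomUnits, ?_⟩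
  intro g
  rfl

/-- A non-perfect finite group has a nontrivial homomorphism to `ℂˣ`. -/
theorem exists_nontrivial_hom [Finite G] (h : commutator G ≠ ⊤) : ∃ lam : G →* ℂˣ, lam ≠ 1 := by
  obtain ⟨g, hg⟩ : ∃ g : G, g ∉ commutator G := by
    by_contra hcon
    push Not at hcon
    exact h (eq_top_iff.mpr (fun x _ => hcon x))
  have ha : (Abelianization.of g : Abelianization G) ≠ 1 := by
    intro h1
    exact hg ((QuotientGroup.eq_one_iff g).mp h1)
  haveI : NeZero ((Monoid.exponent (Abelianization G) : ℕ) : ℂ) :=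
    ⟨by exact_mod_cast Monoid.exponent_ne_zero_of_finite⟩
  obtain ⟨φ, hφ⟩ :=
    CommGroup.exists_apply_ne_one_of_hasEnoughRootsOfUnity (Abelianization G) ℂ ha
  refine ⟨φ.comp Abelianization.of, ?_⟩
  intro h1
  apply hφ
  have := congrArg (fun ψ : G →* ℂˣ => ψ g) h1
  simpa using this

end

end Cfsg.Agent.helper23
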