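import Cfsg.Agent.Lib_helper24_Gagola2
import Cfsg.Agent.Lib_helper8_Ind

set_option autoImplicit false
open Cfsg

namespace Cfsg.Agent.helper24

open scoped ComplexConjugate
open Cfsg.Agent.helper8

universe u
variable {G : Type u} [Group G]

/-- Irreducible characters of a finite commutative group are linear. -/
theorem irr_degree_eq_one_of_comm {A : Type u} [Group A] [Finite A] (hA : ∀ a b : A, a * b = b * a)
    (μ : IrrCharacter A) : charDegree (μ : A → ℂ) = 1 := by
  classical
  have := Fintype.ofFinite A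
  have := Fintype.ofFinite (IrrCharacter A)
  have hbij : Function.Bijective (ConjClasses.mk : A → ConjClasses A) := by
    refine ⟨?_, ConjClasses.mk_surjective⟩
    intro a b hab
    rw [ConjClasses.mk_eq_mk_iff_isConj] at hab
    obtain ⟨c, hc⟩ := isConj_iff.mp hab
    rw [← hc, hA c a, mul_inv_cancel_right]
  have hcard : Nat.card (IrrCharacter A) = Nat.card A := by
    rw [card_irr_eq_card_conjClasses]
    exact (Nat.card_congr (Equiv.ofBijective _ hbij)).symm
  have hsum : ∑ χ : IrrCharacter A, charDegree (χ : A → ℂ) ^ 2 = Nat.card A := sum_irr_degree_sq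
  have hsum1 : ∑ _χ : IrrCharacter A, 1 = Nat.card A := by
    rw [Finset.sum_const, Finset.card_univ, smul_eq_mul, mul_one, ← Nat.card_eq_fintype_card, hcard]
  have hle : ∀ χ ∈ (Finset.univ : Finset (IrrCharacter A)), 1 ≤ charDegree (χ : A → ℂ) ^ 2 := by
    intro χ _
    exact Nat.one_le_pow _ _ (irr_charDegree_pos χ.2)
  have h := (Finset.sum_eq_sum_iff_of_le hle).mp (hsum1.trans hsum.symm) μ (Finset.mem_univ _)
  have h2 : charDegree (μ : A → ℂ) ^ 2 = 1 ^ 2 := by rw [← h]; norm_num
  exact Nat.pow_left_injective (by norm_num : 2 ≠ 0) h2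

theorem conjFunN_mul (N : Subgroup G) [hN : N.Normal] (g₁ g₂ : G) (θ : N → ℂ) :
    conjFunN N (g₁ * g₂) θ = conjFunN N g₂ (conjFunN N g₁ θ) := by
  funext h
  simp only [conjFunN_apply]
  congr 1
  apply Subtype.ext
  simp only
  group

theorem conjFunN_one (N : Subgroup G) [hN : N.Normal] (θ : N → ℂ) : conjFunN N 1 θ = θ := by
  funext h
  simp only [conjFunN_apply]
  congr 1
  apply Subtype.ext
  simp

/-- The inertia subgroup of a function on a normal subgroup. -/
def inertia (N : Subgroup G) [hN : N.Normal] (θ : N → ℂ) : Subgroup G where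
  carrier := {g | conjFunN N g θ = θ}
  mul_mem' := by
    intro a b ha hb
    simp only [Set.mem_ofPred_eq] at ha hb ⊢
    rw [conjFunN_mul, ha, hb]
  one_mem' := conjFunN_one N θ
  inv_mem' := by
    intro a ha
    simp only [Set.mem_ofPred_eq] at ha ⊢
    have h1 : conjFunN N (a * a⁻¹) θ = conjFunN N a⁻¹ (conjFunN N a θ) := conjFunN_mul N a a⁻¹ θ
    rw [ha, mul_inv_cancel, conjFunN_one] at h1
    exact h1.symm

theorem mem_inertia (N : Subgroup G) [hN : N.Normal] (θ : N → ℂ) (g : G) :
    g ∈ inertia N θ ↔ conjFunN N g θ = θ := Iff.rfl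

/-- `|I_G(θ)| = |N| ⟨(θ^G)_N, θ⟩` for irreducible `θ`. -/
theorem card_inertia [Fintype G] (N : Subgroup G) [hN : N.Normal] [Fintype N] {θ : N → ℂ}
    (hθ : IsIrrCharacter N θ) :
    (Nat.card (inertia N θ) : ℂ) = ∑ n : N, indFun N θ (n : G) * conj (θ n) := by
  classical
  have hNne : (Nat.card N : ℂ) ≠ 0 := by
    have : 0 < Nat.card N := Nat.card_pos
    exact_mod_cast this.ne'
  have h1 : (Nat.card (inertia N θ) : ℂ) = ∑ g : G, classInner (conjFunN N g θ) θ := by
    rw [Nat.card_eq_fintype_card, Fintype.card_subtype, Finset.card_filter]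
    push_cast
    apply Finset.sum_congr rfl
    intro g _
    rw [irr_classInner (isIrrCharacter_conjFunN N g hθ) hθ]
    simp only [mem_inertia]
  rw [h1]
  simp only [classInner]
  rw [← Finset.mul_sum, Finset.sum_comm]
  have h2 : ∀ n : N, indFun N θ (n : G) = (Nat.card N : ℂ)⁻¹ * ∑ g : G, conjFunN N g θ n := by
    intro n
    rw [indFun_coe_normal]
    congr 1
    exact Fintype.sum_equiv (Equiv.inv G) _ _ (fun x => rfl)
  simp only [h2]
  rw [Finset.mul_sum]
  apply Finset.sum_congr rfl
  intro n _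
  rw [mul_assoc, Finset.sum_mul]

/-- In Gagola's situation the inertia group of a nontrivial character of `N` has order
`|G| / (|N| - 1)`. -/
theorem gagola_inertia_card [Finite G] (hG : 2 < Nat.card G) (χ : IrrCharacter G)
    (N : Subgroup G) [hNn : N.Normal]
    (hN : ∀ g : G, g ∈ N ↔ (χ : G → ℂ) g ≠ 0)
    (x : G) (hx1 : x ≠ 1)
    (hsupp : ∀ g, (χ : G → ℂ) g ≠ 0 ↔ (g = 1 ∨ IsConj g x))
    (hcardN : Nat.card {y : G // IsConj y x} + 1 = Nat.card N)
    (μ : IrrCharacter N) (hμ1 : (μ : N → ℂ) 1 = 1) (hμ : (μ : N → ℂ) ≠ (fun _ => (1 : ℂ))) :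
    Nat.card {y : G // IsConj y x} * Nat.card (inertia N (μ : N → ℂ)) = Nat.card G := by
  classical
  have := Fintype.ofFinite G
  have := Fintype.ofFinite N
  have := Fintype.ofFinite (IrrCharacter G)
  obtain ⟨hxne, hker, hone⟩ := gagola_core hG χ x hx1 hsupp
  obtain ⟨hB, hval⟩ := gagola_values hG χ x hx1 hsupp
  set cn : ℕ := Nat.card {y : G // IsConj y x} with hcn
  set c : ℂ := (cn : ℂ) with hc
  set d : ℂ := ((charDegree (χ : G → ℂ) : ℕ) : ℂ) with hd
  set t : ℂ := (χ : G → ℂ) x with ht
  have hχ1 : (χ : G → ℂ) 1 = d := (char_charDegree_cast (irr_isCharacter χ.2)).symm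
  rw [hχ1] at hB
  have hcf : ∀ (ψ : IrrCharacter G) (a b : G), IsConj a b → (ψ : G → ℂ) a = (ψ : G → ℂ) b :=
    fun ψ => isClassFunction_iff_isConj.mp (char_isClassFunction (irr_isCharacter ψ.2))
  have hcn0 : cn ≠ 0 := by
    intro h
    have : Nat.card {y : G // IsConj y x} = 0 := h
    rw [Nat.card_eq_zero] at this
    rcases this with h1 | h1
    · exact h1.false ⟨x, IsConj.refl x⟩
    · exact h1.false
  have hc0 : c ≠ 0 := by
    rw [hc]
    exact_mod_cast hcn0
  have htreal : conj t = t := by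
    have h1 : c * conj t = c * t := by
      have h2 : conj (d + c * t) = 0 := by rw [hB, map_zero]
      rw [map_add, map_mul, hd, hc, Complex.conj_natCast, Complex.conj_natCast] at h2
      rw [hc]
      linear_combination h2 - hB
    exact mul_left_cancel₀ hc0 h1
  -- values of χ on N
  have hχN : ∀ n : N, (χ : G → ℂ) n = if n = 1 then d else t := by
    intro n
    split_ifs with hn
    · rw [hn]
      exact hχ1
    · have h1 : (χ : G → ℂ) n ≠ 0 := (hN n).mp n.2
      have h2 : IsConj (n : G) x := ((hsupp n).mp h1).resolve_left (fun h => hn (Subtype.ext h))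
      exact hcf χ n x h2
  have hχNreal : ∀ n : N, conj ((χ : G → ℂ) n) = (χ : G → ℂ) n := by
    intro n
    rw [hχN]
    split_ifs
    · rw [hd, Complex.conj_natCast]
    · exact htreal
  -- μ is orthogonal to the trivial character
  have hμsum : ∑ n : N, (μ : N → ℂ) n = 0 := by
    have h1 := irr_classInner_ne μ.2 (isIrrCharacter_one (G := N)) hμ
    rw [classInner] at h1
    have hNne : (Nat.card N : ℂ) ≠ 0 := by
      have : 0 < Nat.card N := Nat.card_pos
      exact_mod_cast this.ne'
    rcases mul_eq_zero.mp h1 with h2 | h2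
    · exact absurd (inv_eq_zero.mp h2) hNne
    · simpa using h2
  -- S
  have hS : ∑ n : N, (μ : N → ℂ) n * conj ((χ : G → ℂ) n) = d - t := by
    have h1 : ∀ n : N, (μ : N → ℂ) n * conj ((χ : G → ℂ) n) =
        (μ : N → ℂ) n * t + (if n = 1 then (μ : N → ℂ) 1 * (d - t) else 0) := by
      intro n
      rw [hχNreal, hχN]
      split_ifs with hn
      · rw [hn]; ring
      · ring
    rw [Finset.sum_congr rfl (fun n _ => h1 n), Finset.sum_add_distrib, ← Finset.sum_mul, hμsum,
      Finset.sum_ite_eq' Finset.univ (1 : N), if_pos (Finset.mem_univ _), hμ1]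
    ring
  -- the induced function restricted to N
  have hind : ∀ n : N, indFun N (μ : N → ℂ) (n : G) =
      classInner (μ : N → ℂ) (fun h : N => (χ : G → ℂ) h) * (χ : G → ℂ) n := by
    intro n
    have hexp := classFunction_expansion (indFun_isClassFunction N (μ : N → ℂ))
    have h1 := congrFun hexp (n : G)
    rw [Finset.sum_apply, Finset.sum_eq_single χ] at h1
    · rw [h1, Pi.smul_apply, smul_eq_mul,
        frobenius N (μ : N → ℂ) _ (char_isClassFunction (irr_isCharacter χ.2))]
    · intro ψ _ hψ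
      rw [Pi.smul_apply, frobenius N (μ : N → ℂ) _ (char_isClassFunction (irr_isCharacter ψ.2))]
      have h2 : (fun h : N => (ψ : G → ℂ) h) = (ψ : G → ℂ) 1 • (fun _ : N => (1 : ℂ)) := by
        funext h
        simp only [Pi.smul_apply, smul_eq_mul, mul_one]
        by_cases hh : (h : G) = 1
        · rw [hh]
        · have h3 : IsConj (h : G) x := ((hsupp h).mp ((hN h).mp h.2)).resolve_left hh
          rw [hcf ψ h x h3]
          exact hker ψ hψ
      rw [h2, classInner_smul_right, irr_classInner_ne μ.2 (isIrrCharacter_one (G := N)) hμ,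
        mul_zero, zero_smul]
    · intro h
      exact absurd (Finset.mem_univ _) h
  have hNc : (Nat.card N : ℂ) = c + 1 := by
    rw [← hcardN, hc]
    push_cast
    ring
  have hNne : (Nat.card N : ℂ) ≠ 0 := by
    have : 0 < Nat.card N := Nat.card_pos
    exact_mod_cast this.ne'
  have ha : classInner (μ : N → ℂ) (fun h : N => (χ : G → ℂ) h) = (Nat.card N : ℂ)⁻¹ * (d - t) := by
    rw [classInner, hS]
  have hI : (Nat.card (inertia N (μ : N → ℂ)) : ℂ) = (Nat.card N : ℂ)⁻¹ * (d - t) * (d - t) := by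
    rw [card_inertia N μ.2, Finset.sum_congr rfl (fun n _ => by rw [hind n]), ha]
    have h2 : ∀ n : N, (χ : G → ℂ) n * conj ((μ : N → ℂ) n) =
        conj ((μ : N → ℂ) n * conj ((χ : G → ℂ) n)) := by
      intro n
      rw [map_mul, Complex.conj_conj, mul_comm]
    simp only [mul_assoc]
    rw [← Finset.mul_sum, ← Finset.mul_sum, Finset.sum_congr rfl (fun n _ => h2 n), ← map_sum, hS,
      map_sub, htreal, hd, Complex.conj_natCast]
  -- final arithmetic
  have hval' : c * (Nat.card G : ℂ) = d ^ 2 * (c + 1) := by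
    rw [hc, hd]
    exact_mod_cast hval
  have hcdt : c * (d - t) = d * (c + 1) := by linear_combination -hB
  have hfin : c * (Nat.card (inertia N (μ : N → ℂ)) : ℂ) = (Nat.card G : ℂ) := by
    have hc1 : c + 1 ≠ 0 := by rw [← hNc]; exact hNne
    have h3 : c * c * ((Nat.card (inertia N (μ : N → ℂ)) : ℂ) * (c + 1)) =
        c * (Nat.card G : ℂ) * (c + 1) := by
      rw [hI, hNc, hval']
      field_simp
      linear_combination (c * (d - t) + d * (c + 1)) * hcdt
    have h4 : c * (c + 1) ≠ 0 := mul_ne_zero hc0 hc1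
    apply mul_left_cancel₀ h4
    linear_combination h3
  rw [hc] at hfin
  exact_mod_cast hfin

end Cfsg.Agent.helper24
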