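import Mathlib
import Cfsg.Agent.Lib_helper24_Char
import Cfsg.Agent.Lib_helper24_Inertia
import Cfsg.Agent.Lib_helper23_LinChar
import Cfsg.Agent.Lib_helper1_ProdChar

set_option autoImplicit false

/-!
Central characters, linear characters and the commutator subgroup (shared library, helper24).

* `irr_central_apply` : `χ (g * z) = χ z / χ 1 * χ g` for central `z`;
* `sum_ker_column` : `∑_{N ≤ ker χ} χ g * conj (χ 1) = [g ∈ N] * [G : N]`;
* `degree_one_of_commutator_le_ker`, `commutator_le_ker_of_degree_one`;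
* `isIrrCharacter_hom_mul` : a linear character times an irreducible character is irreducible.
-/

universe u

namespace Cfsg.Agent.helper24

open Cfsg
open scoped ComplexConjugate
open Cfsg.Agent.helper12 Cfsg.Agent.helper23

variable {G : Type u} [Group G]

theorem irr_central_apply [Finite G] {χ : G → ℂ} (hχ : IsIrrCharacter G χ) (z : G)
    (hz : z ∈ Subgroup.center G) (g : G) : χ (g * z) = χ z / χ 1 * χ g := by
  classical
  have := Fintype.ofFinite G
  have hf : IsClassFunction G (fun h => if h = z⁻¹ then (1 : ℂ) else 0) := by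
    intro a b
    have hz' : z⁻¹ ∈ Subgroup.center G := Subgroup.inv_mem _ hz
    have : b * a * b⁻¹ = z⁻¹ ↔ a = z⁻¹ := by
      constructor
      · intro h
        have h1 : a = b⁻¹ * z⁻¹ * b := by rw [← h]; group
        rw [h1, Subgroup.mem_center_iff.1 hz' b⁻¹]
        group
      · intro h
        rw [h, Subgroup.mem_center_iff.1 hz' b]
        group
    simp only [this]
  have h1 := irr_central_mul hχ hf g
  simp only [ite_mul, one_mul, zero_mul, Finset.sum_ite_eq', Finset.mem_univ, if_true,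
    inv_inv] at h1
  exact h1

theorem sum_ker_column [Finite G] [Fintype (IrrCharacter G)] (N : Subgroup G) [N.Normal]
    [DecidablePred (fun χ : IrrCharacter G => ∀ n ∈ N, (χ : G → ℂ) n = (χ : G → ℂ) 1)]
    [DecidablePred (· ∈ N)] (g : G) :
    ∑ χ ∈ Finset.univ.filter (fun χ : IrrCharacter G => ∀ n ∈ N, (χ : G → ℂ) n = (χ : G → ℂ) 1),
      (χ : G → ℂ) g * conj ((χ : G → ℂ) 1) = if g ∈ N then (N.index : ℂ) else 0 := by
  classical
  have := Fintype.ofFinite (IrrCharacter (G ⧸ N))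
  have h1 := irr_column_orthogonality (QuotientGroup.mk g : G ⧸ N) (1 : G ⧸ N)
  rw [Finset.sum_subtype (p := fun χ : IrrCharacter G =>
      ∀ n ∈ N, (χ : G → ℂ) n = (χ : G → ℂ) 1) _ (fun χ => by simp)]
  have h2 : ∑ ψ : IrrCharacter (G ⧸ N), (ψ : G ⧸ N → ℂ) (QuotientGroup.mk g) *
      conj ((ψ : G ⧸ N → ℂ) 1) =
      ∑ χ : {χ : IrrCharacter G // ∀ n ∈ N, (χ : G → ℂ) n = (χ : G → ℂ) 1},
        (χ.1 : G → ℂ) g * conj ((χ.1 : G → ℂ) 1) := by
    refine Fintype.sum_equiv (inflEquiv N) _ _ (fun ψ => ?_)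
    rw [inflEquiv_apply, inflEquiv_apply]
    rfl
  rw [← h2, h1]
  have hcent : Nat.card (Subgroup.centralizer ({1} : Set (G ⧸ N))) = N.index := by
    have : Subgroup.centralizer ({1} : Set (G ⧸ N)) = ⊤ := by
      rw [eq_top_iff]
      intro x _
      rw [Subgroup.mem_centralizer_iff]
      intro h hh
      rw [Set.mem_singleton_iff] at hh
      rw [hh, one_mul, mul_one]
    rw [this, Subgroup.card_top, Subgroup.index_eq_card]
  rw [hcent]
  have hiff : IsConj (QuotientGroup.mk g : G ⧸ N) 1 ↔ g ∈ N := by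
    rw [isConj_one_left, QuotientGroup.eq_one_iff]
  by_cases hg : g ∈ N
  · rw [if_pos hg, if_pos (hiff.2 hg)]
  · rw [if_neg hg, if_neg (fun h => hg (hiff.1 h))]

theorem degree_one_of_commutator_le_ker [Finite G] (χ : IrrCharacter G)
    (h : ∀ n ∈ commutator G, (χ : G → ℂ) n = (χ : G → ℂ) 1) : (χ : G → ℂ) 1 = 1 := by
  set ψ := (inflEquiv (commutator G)).symm ⟨χ, h⟩ with hψ
  have h1 : inflEquiv (commutator G) ψ = ⟨χ, h⟩ := by rw [hψ, Equiv.apply_symm_apply]
  have h2 := inflEquiv_degree (commutator G) ψ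
  rw [h1] at h2
  have h3 : charDegree (ψ : G ⧸ commutator G → ℂ) = 1 := by
    apply irr_degree_eq_one_of_comm
    intro a b
    exact mul_comm (G := Abelianization G) a b
  rw [← char_charDegree_cast (irr_isCharacter χ.2)]
  have h4 : charDegree ((⟨χ, h⟩ : {χ : IrrCharacter G //
      ∀ n ∈ commutator G, (χ : G → ℂ) n = (χ : G → ℂ) 1}).1 : G → ℂ) = 1 := by
    rw [h2, h3]
  rw [h4, Nat.cast_one]

theorem commutator_le_ker_of_degree_one (χ : IrrCharacter G) (h1 : (χ : G → ℂ) 1 = 1) :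
    ∀ n ∈ commutator G, (χ : G → ℂ) n = (χ : G → ℂ) 1 := by
  obtain ⟨lam, hlam⟩ := exists_hom_of_linear (irr_isCharacter χ.2) h1
  intro n hn
  have h2 : n ∈ lam.ker := Abelianization.commutator_subset_ker lam hn
  rw [hlam n, hlam 1, MonoidHom.mem_ker.1 h2, map_one]

theorem hom_mul_conj [Finite G] (lam : G →* ℂˣ) (g : G) :
    ((lam g : ℂˣ) : ℂ) * conj ((lam g : ℂˣ) : ℂ) = 1 := by
  have h1 : ((lam g : ℂˣ) : ℂ) ^ Nat.card G = 1 := by
    rw [← Units.val_pow_eq_pow_val, ← map_pow, pow_card_eq_one', map_one, Units.val_one]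
  have h2 : ‖((lam g : ℂˣ) : ℂ)‖ = 1 :=
    Complex.norm_eq_one_of_pow_eq_one h1 Nat.card_pos.ne'
  rw [Complex.mul_conj, Complex.normSq_eq_norm_sq, h2]
  simp

theorem isIrrCharacter_hom_mul [Finite G] (lam : G →* ℂˣ) {ψ : G → ℂ} (hψ : IsIrrCharacter G ψ) :
    IsIrrCharacter G (fun g => ((lam g : ℂˣ) : ℂ) * ψ g) := by
  classical
  have := Fintype.ofFinite G
  have hc : IsCharacter G (fun g => ((lam g : ℂˣ) : ℂ) * ψ g) :=
    Cfsg.Agent.helper1.isCharacter_mul (irr_isCharacter (isIrrCharacter_of_hom lam))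
      (irr_isCharacter hψ)
  apply isIrrCharacter_of_classInner_self hc
  rw [← irr_classInner_self hψ]
  unfold classInner
  congr 1
  refine Finset.sum_congr rfl (fun g _ => ?_)
  rw [map_mul]
  have := hom_mul_conj lam g
  calc ((lam g : ℂˣ) : ℂ) * ψ g * (conj ((lam g : ℂˣ) : ℂ) * conj (ψ g))
      = (((lam g : ℂˣ) : ℂ) * conj ((lam g : ℂˣ) : ℂ)) * (ψ g * conj (ψ g)) := by ring
    _ = ψ g * conj (ψ g) := by rw [this, one_mul]

end Cfsg.Agent.helper24
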