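import Mathlib
import Cfsg.Agent.Lib_helper12_CharOps
import Cfsg.Agent.Lib_helper8_Ind
import Cfsg.Agent.Lib_helper24_CharCentral

set_option autoImplicit false

/-!
Brauer–Suzuki exceptional characters, abstract part (helper12): a linear character `μ` of a
subgroup `L`, inverted by an element `t₀` normalizing `L`, whose support is controlled by
`L ∪ L t₀`, induces `1 - μ` to a generalized character of norm 3.
-/

namespace Cfsg.Agent.helper12

open Cfsg
open scoped ComplexConjugate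

universe u

section ExcAbstract

variable {G : Type u} [Group G] [Fintype G] (L : Subgroup G) (μ : L →* ℂˣ) (t₀ : G)

/-- the function `1 - μ` on `L` -/
noncomputable def bsF : L → ℂ := fun l => 1 - ((μ l : ℂˣ) : ℂ)

/-- the induced class function -/
noncomputable def bsTheta : G → ℂ := indFun L (bsF L μ)

/-- hypotheses of the abstract exceptional character lemma -/
structure BsHyp : Prop where
  t_not_mem : t₀ ∉ L
  t_norm : ∀ l : G, l ∈ L → t₀ * l * t₀⁻¹ ∈ L
  t_inv : ∀ (l : L) (h : t₀ * (l : G) * t₀⁻¹ ∈ L), μ ⟨t₀ * (l : G) * t₀⁻¹, h⟩ = (μ l)⁻¹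
  sq_ne : ∃ l : L, (μ l) ^ 2 ≠ 1
  ctl : ∀ (l : L) (x : G) (h : x⁻¹ * (l : G) * x ∈ L), μ l ≠ 1 → μ ⟨x⁻¹ * (l : G) * x, h⟩ ≠ 1 →
    x ∈ L ∨ t₀ * x ∈ L

variable {L μ t₀}

theorem bs_card_filter_mem [DecidablePred fun x : G => x ∈ L] :
    (Finset.univ.filter (fun x : G => x ∈ L)).card = Nat.card L := by
  rw [Nat.card_eq_fintype_card, Fintype.card_subtype]

theorem bs_card_filter_mul_mem (t : G) [DecidablePred fun x : G => t * x ∈ L] :
    (Finset.univ.filter (fun x : G => t * x ∈ L)).card = Nat.card L := by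
  classical
  rw [← bs_card_filter_mem (L := L)]
  apply Finset.card_bij (fun x _ => t * x)
  · intro x hx
    simpa using hx
  · intro x _ y _ hxy
    exact mul_left_cancel hxy
  · intro y hy
    refine ⟨t⁻¹ * y, ?_, by group⟩
    simp only [Finset.mem_filter, Finset.mem_univ, true_and] at hy ⊢
    simpa using hy

theorem bs_card_ne_zero : (Nat.card L : ℂ) ≠ 0 := by
  have : 0 < Nat.card L := Nat.card_pos
  exact_mod_cast this.ne'

theorem bs_pointwise (h : BsHyp L μ t₀) (l : L) (hl : μ l ≠ 1) (x : G) [Decidable (x ∈ L)]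
    [Decidable (t₀ * x ∈ L)] :
    extendByZero L (bsF L μ) (x⁻¹ * (l : G) * x) =
      (if x ∈ L then (1 - ((μ l : ℂˣ) : ℂ)) else 0) +
        (if t₀ * x ∈ L then (1 - (((μ l)⁻¹ : ℂˣ) : ℂ)) else 0) := by
  by_cases hx : x ∈ L
  · have hx2 : ¬ t₀ * x ∈ L := fun h2 => h.t_not_mem (by simpa using L.mul_mem h2 (L.inv_mem hx))
    rw [if_pos hx, if_neg hx2, add_zero]
    have hmem : x⁻¹ * (l : G) * x ∈ L := L.mul_mem (L.mul_mem (L.inv_mem hx) l.2) hx
    rw [extendByZero_of_mem' L _ _ hmem]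
    unfold bsF
    have e : (⟨x⁻¹ * (l : G) * x, hmem⟩ : L) = (⟨x, hx⟩ : L)⁻¹ * l * ⟨x, hx⟩ := by
      ext; simp
    rw [e, map_mul, map_mul, map_inv, mul_comm, ← mul_assoc, mul_inv_cancel, one_mul]
  · by_cases hx2 : t₀ * x ∈ L
    · rw [if_neg hx, if_pos hx2, zero_add]
      have h1 : t₀ * (l : G) * t₀⁻¹ ∈ L := h.t_norm _ l.2
      have e0 : x⁻¹ * (l : G) * x = (t₀ * x)⁻¹ * (t₀ * (l : G) * t₀⁻¹) * (t₀ * x) := by group
      have hmem : x⁻¹ * (l : G) * x ∈ L := by
        rw [e0]; exact L.mul_mem (L.mul_mem (L.inv_mem hx2) h1) hx2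
      rw [extendByZero_of_mem' L _ _ hmem]
      unfold bsF
      have e : (⟨x⁻¹ * (l : G) * x, hmem⟩ : L) =
          (⟨t₀ * x, hx2⟩ : L)⁻¹ * ⟨t₀ * (l : G) * t₀⁻¹, h1⟩ * ⟨t₀ * x, hx2⟩ := by
        ext; simp only [Subgroup.coe_mul, Subgroup.coe_inv]; exact e0
      rw [e, map_mul, map_mul, map_inv, h.t_inv l h1, mul_comm, ← mul_assoc, mul_inv_cancel,
        one_mul]
    · rw [if_neg hx, if_neg hx2, add_zero]
      by_cases hmem : x⁻¹ * (l : G) * x ∈ L
      · rw [extendByZero_of_mem' L _ _ hmem]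
        unfold bsF
        by_contra hne
        have h3 : μ ⟨x⁻¹ * (l : G) * x, hmem⟩ ≠ 1 := by
          intro h1; apply hne; rw [h1]; simp
        rcases h.ctl l x hmem hl h3 with h4 | h4
        · exact hx h4
        · exact hx2 h4
      · exact extendByZero_of_not_mem' L _ _ hmem

/-- the values of `θ` on the support of `1 - μ` -/
theorem bs_value (h : BsHyp L μ t₀) (l : L) (hl : μ l ≠ 1) :
    bsTheta L μ (l : G) = 2 - ((μ l : ℂˣ) : ℂ) - (((μ l)⁻¹ : ℂˣ) : ℂ) := by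
  classical
  unfold bsTheta indFun
  simp_rw [bs_pointwise h l hl]
  rw [Finset.sum_add_distrib, ← Finset.sum_filter, ← Finset.sum_filter, Finset.sum_const,
    Finset.sum_const, bs_card_filter_mem, bs_card_filter_mul_mem, nsmul_eq_mul, nsmul_eq_mul]
  have hL := bs_card_ne_zero (L := L)
  field_simp
  ring

theorem bs_conj_mu [Fintype L] (l : L) : conj ((μ l : ℂˣ) : ℂ) = (((μ l)⁻¹ : ℂˣ) : ℂ) := by
  have h1 := helper24.hom_mul_conj μ l
  have h2 : ((μ l : ℂˣ) : ℂ) ≠ 0 := Units.ne_zero _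
  rw [Units.val_inv_eq_inv_val]
  field_simp
  rw [mul_comm]
  exact h1

theorem bs_sum_hom_eq_zero [Fintype L] (ν : L →* ℂˣ) (hν : ν ≠ 1) :
    ∑ l : L, ((ν l : ℂˣ) : ℂ) = 0 := by
  classical
  have h := sum_hom_units_eq_zero ((Units.coeHom ℂ).comp ν) (by
    intro h1
    apply hν
    ext l
    have := DFunLike.congr_fun h1 l
    simpa using this)
  simpa using h

end ExcAbstract

end Cfsg.Agent.helper12
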