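import Mathlib
import Cfsg.Agent.Lib_helper12_BS1

set_option autoImplicit false

/-!
Brauer–Suzuki exceptional characters, abstract part II (helper12): norm, multiplicity of the
trivial character, value at one, support and decomposition.
-/

namespace Cfsg.Agent.helper12

open Cfsg
open scoped ComplexConjugate

universe u

section ExcAbstract2

variable {G : Type u} [Group G] [Fintype G] {L : Subgroup G} {μ : L →* ℂˣ} {t₀ : G}

theorem bs_indFun_sub (H : Subgroup G) (θ₁ θ₂ : H → ℂ) :
    indFun H (fun h => θ₁ h - θ₂ h) = indFun H θ₁ - indFun H θ₂ := by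
  funext g
  unfold indFun
  rw [Pi.sub_apply, ← mul_sub, ← Finset.sum_sub_distrib]
  congr 1
  apply Finset.sum_congr rfl
  intro x _
  by_cases hx : x⁻¹ * g * x ∈ H
  · rw [extendByZero_of_mem' H _ _ hx, extendByZero_of_mem' H _ _ hx,
      extendByZero_of_mem' H _ _ hx]
  · rw [extendByZero_of_not_mem' H _ _ hx, extendByZero_of_not_mem' H _ _ hx,
      extendByZero_of_not_mem' H _ _ hx, sub_zero]

theorem bs_mu_ne_one (h : BsHyp L μ t₀) : μ ≠ 1 := by
  obtain ⟨l, hl⟩ := h.sq_ne
  intro h1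
  apply hl
  rw [h1]
  simp

theorem bs_mu_sq_ne_one (h : BsHyp L μ t₀) : μ ^ 2 ≠ 1 := by
  obtain ⟨l, hl⟩ := h.sq_ne
  intro h1
  apply hl
  have := DFunLike.congr_fun h1 l
  simpa using this

theorem bs_norm (h : BsHyp L μ t₀) : classInner (bsTheta L μ) (bsTheta L μ) = 3 := by
  classical
  haveI : Fintype L := Fintype.ofFinite L
  unfold bsTheta
  rw [classInner_indFun_eq_restrict L _ _ (indFun_isClassFunction L _)]
  unfold classInner
  have hterm : ∀ l : L, bsF L μ l * conj (indFun L (bsF L μ) (l : G)) =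
      3 - 3 * ((μ l : ℂˣ) : ℂ) - (((μ⁻¹) l : ℂˣ) : ℂ) + (((μ ^ 2) l : ℂˣ) : ℂ) := by
    intro l
    have hab : ((μ l : ℂˣ) : ℂ) * (((μ l)⁻¹ : ℂˣ) : ℂ) = 1 := by
      rw [← Units.val_mul, mul_inv_cancel, Units.val_one]
    rw [MonoidHom.inv_apply, MonoidHom.pow_apply, Units.val_pow_eq_pow_val]
    by_cases hl : μ l = 1
    · unfold bsF
      rw [hl]
      simp
    · have hv := bs_value h l hl
      unfold bsTheta at hv
      rw [hv, map_sub, map_sub, bs_conj_mu l]
      have h2 : conj (((μ l)⁻¹ : ℂˣ) : ℂ) = ((μ l : ℂˣ) : ℂ) := by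
        rw [← map_inv, bs_conj_mu l⁻¹, map_inv, inv_inv]
      rw [h2]
      unfold bsF
      simp only [map_ofNat]
      linear_combination hab
  simp_rw [hterm]
  rw [Finset.sum_add_distrib, Finset.sum_sub_distrib, Finset.sum_sub_distrib, ← Finset.mul_sum,
    bs_sum_hom_eq_zero μ (bs_mu_ne_one h), bs_sum_hom_eq_zero (μ⁻¹) (by
      intro h1
      apply bs_mu_ne_one h
      ext l
      have := DFunLike.congr_fun h1 l
      simpa using this),
    bs_sum_hom_eq_zero (μ ^ 2) (bs_mu_sq_ne_one h), Finset.sum_const, Finset.card_univ,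
    ← Nat.card_eq_fintype_card]
  have hL := bs_card_ne_zero (L := L)
  simp only [nsmul_eq_mul, mul_zero, sub_zero, add_zero]
  field_simp

theorem bs_inner_one (h : BsHyp L μ t₀) :
    classInner (bsTheta L μ) (fun _ : G => (1 : ℂ)) = 1 := by
  classical
  haveI : Fintype L := Fintype.ofFinite L
  unfold bsTheta
  rw [classInner_indFun_eq_restrict L _ _ (fun _ _ => rfl)]
  unfold classInner bsF
  simp only [map_one, mul_one]
  rw [Finset.sum_sub_distrib, bs_sum_hom_eq_zero μ (bs_mu_ne_one h), Finset.sum_const,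
    Finset.card_univ, ← Nat.card_eq_fintype_card]
  have hL := bs_card_ne_zero (L := L)
  simp only [nsmul_eq_mul, mul_one, sub_zero]
  field_simp

theorem bs_at_one : bsTheta L μ 1 = 0 := by
  unfold bsTheta indFun
  have : ∀ x : G, extendByZero L (bsF L μ) (x⁻¹ * 1 * x) = 0 := by
    intro x
    have e : x⁻¹ * 1 * x = 1 := by group
    rw [e, extendByZero_of_mem' L _ _ L.one_mem]
    unfold bsF
    have : (⟨1, L.one_mem⟩ : L) = 1 := rfl
    rw [this, map_one]
    simp
  simp_rw [this]
  simp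

theorem bs_support (g : G) (hg : bsTheta L μ g ≠ 0) :
    ∃ (x : G) (hx : x⁻¹ * g * x ∈ L), μ ⟨x⁻¹ * g * x, hx⟩ ≠ 1 := by
  by_contra hcon
  push Not at hcon
  apply hg
  unfold bsTheta indFun
  have : ∀ x : G, extendByZero L (bsF L μ) (x⁻¹ * g * x) = 0 := by
    intro x
    by_cases hx : x⁻¹ * g * x ∈ L
    · rw [extendByZero_of_mem' L _ _ hx]
      unfold bsF
      rw [hcon x hx]
      simp
    · exact extendByZero_of_not_mem' L _ _ hx
  simp_rw [this]
  simp

theorem bs_eq_sub :
    bsTheta L μ = indFun L (fun _ : L => (1 : ℂ)) - indFun L (fun l : L => ((μ l : ℂˣ) : ℂ)) := by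
  unfold bsTheta bsF
  exact bs_indFun_sub L _ _

theorem bs_isCharacter_one : IsCharacter G (indFun L (fun _ : L => (1 : ℂ))) :=
  isCharacter_indFun L (helper24.irr_isCharacter helper24.isIrrCharacter_one)

theorem bs_isCharacter_mu : IsCharacter G (indFun L (fun l : L => ((μ l : ℂˣ) : ℂ))) :=
  isCharacter_indFun L (isCharacter_of_monoidHom ((Units.coeHom ℂ).comp μ))

end ExcAbstract2

end Cfsg.Agent.helper12
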