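import Mathlib
import Cfsg.Agent.Lib_helper12_BS2

set_option autoImplicit false

/-!
Brauer–Suzuki exceptional characters (helper12): a difference of two characters of norm 3,
containing the trivial character once and vanishing at 1, is `1 - χ₁ + χ₂`.
-/

namespace Cfsg.Agent.helper12

open Cfsg
open scoped ComplexConjugate

universe u

section Decomp

variable {G : Type u} [Group G] [Fintype G]

theorem bs_int_sq_eq_one {x : ℤ} (h0 : x ≠ 0) (h2 : x ^ 2 ≤ 2) : x = 1 ∨ x = -1 := by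
  have h1 : -1 ≤ x := by nlinarith
  have h3 : x ≤ 1 := by nlinarith
  interval_cases x
  · right; rfl
  · exact absurd rfl h0
  · left; rfl

theorem bs_decomp {α β : G → ℂ} (hα : IsCharacter G α) (hβ : IsCharacter G β)
    (h3 : classInner (α - β) (α - β) = 3)
    (h1 : classInner (α - β) (fun _ : G => (1 : ℂ)) = 1)
    (h0 : α 1 = β 1) :
    ∃ χ₁ χ₂ : G → ℂ, IsIrrCharacter G χ₁ ∧ IsIrrCharacter G χ₂ ∧ χ₁ ≠ (fun _ => 1) ∧
      χ₂ ≠ (fun _ => 1) ∧ χ₁ 1 = χ₂ 1 + 1 ∧ ∀ g, α g - β g = 1 - χ₁ g + χ₂ g := by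
  classical
  haveI : Fintype (IrrCharacter G) := Fintype.ofFinite _
  obtain ⟨n, hαe, hαn, -⟩ := char_decomp hα
  obtain ⟨m, hβe, hβn, -⟩ := char_decomp hβ
  set a : IrrCharacter G → ℤ := fun ψ => (n ψ : ℤ) - m ψ with ha
  have hθ : α - β = ∑ ψ : IrrCharacter G, ((a ψ : ℤ) : ℂ) • (ψ : G → ℂ) := by
    conv_lhs => rw [hαe, hβe]
    rw [← Finset.sum_sub_distrib]
    apply Finset.sum_congr rfl
    intro ψ _
    simp only [ha]
    push_cast
    rw [sub_smul]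
  have hin : ∀ ψ : IrrCharacter G, classInner (α - β) (ψ : G → ℂ) = ((a ψ : ℤ) : ℂ) := by
    intro ψ
    rw [helper24.classInner_sub_left, hαn, hβn]
    simp only [ha]
    push_cast
    ring
  have hnorm : ∑ ψ : IrrCharacter G, (a ψ) ^ 2 = 3 := by
    have : classInner (α - β) (α - β) = ((∑ ψ : IrrCharacter G, (a ψ) ^ 2 : ℤ) : ℂ) := by
      conv_lhs => arg 2; rw [hθ]
      rw [helper8.classInner_sum_right]
      push_cast
      apply Finset.sum_congr rfl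
      intro ψ _
      rw [helper8.classInner_smul_right, hin ψ, map_intCast]
      ring
    rw [this] at h3
    exact_mod_cast h3
  let one : IrrCharacter G := ⟨fun _ => 1, helper24.isIrrCharacter_one⟩
  have ha1 : a one = 1 := by
    have h5 := hin one
    have h6 : ((one : IrrCharacter G) : G → ℂ) = fun _ => 1 := rfl
    rw [h6, h1] at h5
    exact_mod_cast h5.symm
  have hnn : ∀ s : Finset (IrrCharacter G), 0 ≤ ∑ ψ ∈ s, (a ψ) ^ 2 :=
    fun s => Finset.sum_nonneg (fun ψ _ => sq_nonneg _)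
  have hs1 := Finset.add_sum_erase Finset.univ (fun ψ => (a ψ) ^ 2) (Finset.mem_univ one)
  simp only [hnorm, ha1] at hs1
  have hrest : ∑ ψ ∈ Finset.univ.erase one, (a ψ) ^ 2 = 2 := by linarith
  have hex1 : ∃ ψ₁ ∈ Finset.univ.erase one, a ψ₁ ≠ 0 := by
    by_contra hcon
    push Not at hcon
    have : ∑ ψ ∈ Finset.univ.erase one, (a ψ) ^ 2 = 0 :=
      Finset.sum_eq_zero (fun ψ hψ => by rw [hcon ψ hψ]; ring)
    omega
  obtain ⟨ψ₁, hψ₁mem, hψ₁⟩ := hex1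
  have hs2 := Finset.add_sum_erase (Finset.univ.erase one) (fun ψ => (a ψ) ^ 2) hψ₁mem
  simp only [hrest] at hs2
  have hsq1 : a ψ₁ = 1 ∨ a ψ₁ = -1 := by
    apply bs_int_sq_eq_one hψ₁
    have := hnn ((Finset.univ.erase one).erase ψ₁)
    linarith
  have hsq1' : (a ψ₁) ^ 2 = 1 := by
    rcases hsq1 with h | h <;> rw [h] <;> norm_num
  have hrest2 : ∑ ψ ∈ (Finset.univ.erase one).erase ψ₁, (a ψ) ^ 2 = 1 := by linarith
  have hex2 : ∃ ψ₂ ∈ (Finset.univ.erase one).erase ψ₁, a ψ₂ ≠ 0 := by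
    by_contra hcon
    push Not at hcon
    have : ∑ ψ ∈ (Finset.univ.erase one).erase ψ₁, (a ψ) ^ 2 = 0 :=
      Finset.sum_eq_zero (fun ψ hψ => by rw [hcon ψ hψ]; ring)
    omega
  obtain ⟨ψ₂, hψ₂mem, hψ₂⟩ := hex2
  have hs3 := Finset.add_sum_erase ((Finset.univ.erase one).erase ψ₁) (fun ψ => (a ψ) ^ 2) hψ₂mem
  simp only [hrest2] at hs3
  have hsq2 : a ψ₂ = 1 ∨ a ψ₂ = -1 := by
    apply bs_int_sq_eq_one hψ₂
    have := hnn (((Finset.univ.erase one).erase ψ₁).erase ψ₂)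
    linarith
  have hsq2' : (a ψ₂) ^ 2 = 1 := by
    rcases hsq2 with h | h <;> rw [h] <;> norm_num
  have hrest3 : ∑ ψ ∈ ((Finset.univ.erase one).erase ψ₁).erase ψ₂, (a ψ) ^ 2 = 0 := by linarith
  have hzero : ∀ ψ ∈ ((Finset.univ.erase one).erase ψ₁).erase ψ₂, a ψ = 0 := by
    intro ψ hψ
    have := (Finset.sum_eq_zero_iff_of_nonneg (fun ψ _ => sq_nonneg (a ψ))).mp hrest3 ψ hψ
    exact pow_eq_zero_iff (two_ne_zero) |>.mp this
  -- the expansion
  have hexp : α - β = (fun _ : G => (1 : ℂ)) + ((a ψ₁ : ℤ) : ℂ) • (ψ₁ : G → ℂ) +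
      ((a ψ₂ : ℤ) : ℂ) • (ψ₂ : G → ℂ) := by
    rw [hθ, ← Finset.add_sum_erase Finset.univ _ (Finset.mem_univ one),
      ← Finset.add_sum_erase (Finset.univ.erase one) _ hψ₁mem,
      ← Finset.add_sum_erase ((Finset.univ.erase one).erase ψ₁) _ hψ₂mem,
      Finset.sum_eq_zero (s := ((Finset.univ.erase one).erase ψ₁).erase ψ₂)
        (fun ψ hψ => by rw [hzero ψ hψ]; simp), ha1]
    funext g
    simp only [Pi.add_apply, Pi.smul_apply, Int.cast_one, one_smul, smul_eq_mul, add_zero]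
    rw [add_assoc]
  have hne1 : (ψ₁ : G → ℂ) ≠ fun _ => 1 := by
    intro h
    have : ψ₁ = one := Subtype.ext h
    exact (Finset.mem_erase.mp hψ₁mem).1 this
  have hne2 : (ψ₂ : G → ℂ) ≠ fun _ => 1 := by
    intro h
    have : ψ₂ = one := Subtype.ext h
    exact (Finset.mem_erase.mp (Finset.mem_erase.mp hψ₂mem).2).1 this
  have hd1 := helper24.char_charDegree_cast (helper24.irr_isCharacter ψ₁.2)
  have hd2 := helper24.char_charDegree_cast (helper24.irr_isCharacter ψ₂.2)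
  have hp1 := helper24.irr_charDegree_pos ψ₁.2
  have hp2 := helper24.irr_charDegree_pos ψ₂.2
  have hat1 : (1 : ℂ) + ((a ψ₁ : ℤ) : ℂ) * (charDegree (ψ₁ : G → ℂ) : ℂ) +
      ((a ψ₂ : ℤ) : ℂ) * (charDegree (ψ₂ : G → ℂ) : ℂ) = 0 := by
    have := congrFun hexp 1
    simp only [Pi.sub_apply, Pi.add_apply, Pi.smul_apply, smul_eq_mul] at this
    rw [h0, sub_self] at this
    rw [hd1, hd2]
    exact this.symm
  have hat1' : (1 : ℤ) + a ψ₁ * (charDegree (ψ₁ : G → ℂ) : ℤ) +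
      a ψ₂ * (charDegree (ψ₂ : G → ℂ) : ℤ) = 0 := by
    exact_mod_cast hat1
  have hpt : ∀ g : G, α g - β g = 1 + ((a ψ₁ : ℤ) : ℂ) * (ψ₁ : G → ℂ) g +
      ((a ψ₂ : ℤ) : ℂ) * (ψ₂ : G → ℂ) g := by
    intro g
    have := congrFun hexp g
    simpa only [Pi.sub_apply, Pi.add_apply, Pi.smul_apply, smul_eq_mul] using this
  rcases hsq1 with h1a | h1a <;> rcases hsq2 with h2a | h2a
  · rw [h1a, h2a] at hat1'
    omega
  · -- a₁ = 1, a₂ = -1 : χ₁ = ψ₂, χ₂ = ψ₁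
    refine ⟨ψ₂, ψ₁, ψ₂.2, ψ₁.2, hne2, hne1, ?_, ?_⟩
    · rw [h1a, h2a] at hat1'
      rw [← hd1, ← hd2]
      have : (charDegree (ψ₂ : G → ℂ) : ℤ) = charDegree (ψ₁ : G → ℂ) + 1 := by omega
      exact_mod_cast this
    · intro g
      rw [hpt g, h1a, h2a]
      push_cast
      ring
  · refine ⟨ψ₁, ψ₂, ψ₁.2, ψ₂.2, hne1, hne2, ?_, ?_⟩
    · rw [h1a, h2a] at hat1'
      rw [← hd1, ← hd2]
      have : (charDegree (ψ₁ : G → ℂ) : ℤ) = charDegree (ψ₂ : G → ℂ) + 1 := by omega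
      exact_mod_cast this
    · intro g
      rw [hpt g, h1a, h2a]
      push_cast
      ring
  · rw [h1a, h2a] at hat1'
    omega

end Decomp

end Cfsg.Agent.helper12
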