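import Mathlib

set_option autoImplicit false

/-!
Generalized quaternion Sylow 2-subgroups, abstract data and elementary consequences (helper12).
-/

namespace Cfsg.Agent.helper12

universe u

section QuatData

variable {G : Type u} [Group G]

/-- abstract data of a generalized quaternion Sylow 2-subgroup of order `2^(n+4)` -/
structure QuatData (P : Sylow 2 G) (c t : G) (n : ℕ) : Prop where
  c_mem : c ∈ P
  t_mem : t ∈ P
  order_c : orderOf c = 2 ^ (n + 3)
  conj : t * c * t⁻¹ = c⁻¹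
  cover : ∀ x ∈ P, x ∈ Subgroup.zpowers c ∨ x * t⁻¹ ∈ Subgroup.zpowers c
  sq : ∀ y ∈ Subgroup.zpowers c, (y * t) ^ 2 = c ^ (2 ^ (n + 2))
  card : Nat.card P = 2 ^ (n + 4)

variable {P : Sylow 2 G} {c t : G} {n : ℕ}

theorem qd_conj_mem (hq : QuatData P c t n) {y : G} (hy : y ∈ Subgroup.zpowers c) :
    t * y * t⁻¹ = y⁻¹ := by
  obtain ⟨i, rfl⟩ := Subgroup.mem_zpowers_iff.mp hy
  rw [← conj_zpow, hq.conj, inv_zpow]

theorem qd_conj_mem' (hq : QuatData P c t n) {y : G} (hy : y ∈ Subgroup.zpowers c) :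
    t⁻¹ * y * t = y⁻¹ := by
  have h := qd_conj_mem hq (Subgroup.inv_mem _ hy)
  rw [inv_inv] at h
  have : t⁻¹ * y * t = t⁻¹ * (t * y⁻¹ * t⁻¹) * t := by rw [h]
  rw [this]
  group

theorem qd_c_sq_ne (hq : QuatData P c t n) : c ^ 2 ≠ 1 := by
  intro h
  have := orderOf_dvd_of_pow_eq_one h
  rw [hq.order_c] at this
  have h2 : 2 ^ (n + 3) ≤ 2 := Nat.le_of_dvd (by norm_num) this
  have h3 : 8 ≤ 2 ^ (n + 3) := by
    have : 2 ^ 3 ≤ 2 ^ (n + 3) := Nat.pow_le_pow_right (by norm_num) (by omega)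
    simpa using this
  omega

theorem qd_c_ne_inv (hq : QuatData P c t n) : c ≠ c⁻¹ := by
  intro h
  apply qd_c_sq_ne hq
  rw [pow_two]
  nth_rewrite 2 [h]
  exact mul_inv_cancel c

theorem qd_t_not_mem (hq : QuatData P c t n) : t ∉ Subgroup.zpowers c := by
  intro ht
  apply qd_c_ne_inv hq
  have hcomm : t * c = c * t := by
    obtain ⟨i, rfl⟩ := Subgroup.mem_zpowers_iff.mp ht
    exact ((Commute.refl c).zpow_left i).eq
  have := hq.conj
  rw [hcomm, mul_assoc, mul_inv_cancel, mul_one] at this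
  exact this

/-- the element of order 4 -/
def qdD (c : G) (n : ℕ) : G := c ^ (2 ^ (n + 1))

/-- the involution -/
def qdZ (c : G) (n : ℕ) : G := c ^ (2 ^ (n + 2))

theorem qd_order_d (hq : QuatData P c t n) : orderOf (qdD c n) = 4 := by
  unfold qdD
  rw [orderOf_pow_of_dvd (by positivity) (by rw [hq.order_c]; exact pow_dvd_pow 2 (by omega)),
    hq.order_c]
  have : 2 ^ (n + 3) = 4 * 2 ^ (n + 1) := by ring
  rw [this, Nat.mul_div_cancel _ (by positivity)]

theorem qd_order_z (hq : QuatData P c t n) : orderOf (qdZ c n) = 2 := by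
  unfold qdZ
  rw [orderOf_pow_of_dvd (by positivity) (by rw [hq.order_c]; exact pow_dvd_pow 2 (by omega)),
    hq.order_c]
  have : 2 ^ (n + 3) = 2 * 2 ^ (n + 2) := by ring
  rw [this, Nat.mul_div_cancel _ (by positivity)]

theorem qd_d_sq (c : G) (n : ℕ) : (qdD c n) ^ 2 = qdZ c n := by
  unfold qdD qdZ
  rw [← pow_mul]
  congr 1

theorem qd_z_ne_one (hq : QuatData P c t n) : qdZ c n ≠ 1 := by
  intro h
  have := qd_order_z hq
  rw [h, orderOf_one] at this
  omega

theorem qd_d_mem (c : G) (n : ℕ) : qdD c n ∈ Subgroup.zpowers c :=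
  Subgroup.pow_mem _ (Subgroup.mem_zpowers c) _

theorem qd_z_mem (c : G) (n : ℕ) : qdZ c n ∈ Subgroup.zpowers c :=
  Subgroup.pow_mem _ (Subgroup.mem_zpowers c) _

theorem qd_zpowers_le (hq : QuatData P c t n) : Subgroup.zpowers c ≤ (P : Subgroup G) := by
  rw [Subgroup.zpowers_le]
  exact hq.c_mem

/-- an element of `⟨c⟩` of order two is `z` -/
theorem qd_invol_in_C (hq : QuatData P c t n) {x : G} (hx : x ∈ Subgroup.zpowers c)
    (h2 : orderOf x = 2) : x = qdZ c n := by
  classical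
  have hfin : IsOfFinOrder c := by
    rw [← orderOf_pos_iff, hq.order_c]; positivity
  rw [hfin.mem_zpowers_iff_mem_range_orderOf] at hx
  obtain ⟨k, hk, rfl⟩ := Finset.mem_image.mp hx
  rw [Finset.mem_range, hq.order_c] at hk
  have h1 : (c ^ k) ^ 2 = 1 := by
    rw [← h2]; exact pow_orderOf_eq_one _
  rw [← pow_mul] at h1
  have h3 := orderOf_dvd_of_pow_eq_one h1
  rw [hq.order_c] at h3
  obtain ⟨j, hj⟩ := h3
  have hpow : 2 ^ (n + 3) = 2 * 2 ^ (n + 2) := by ring
  have hj2 : j = 0 ∨ j = 1 := by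
    rcases j with _ | _ | j
    · left; rfl
    · right; rfl
    · exfalso
      have : k * 2 ≥ 2 ^ (n + 3) * 2 := by
        rw [hj]; nlinarith
      omega
  rcases hj2 with rfl | rfl
  · have : k = 0 := by omega
    subst this
    rw [pow_zero, orderOf_one] at h2
    omega
  · have : k = 2 ^ (n + 2) := by
      rw [hpow] at hj; omega
    subst this
    rfl

/-- the unique involution of `P` -/
theorem qd_invol_unique (hq : QuatData P c t n) {x : G} (hx : x ∈ P) (h2 : orderOf x = 2) :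
    x = qdZ c n := by
  rcases hq.cover x hx with h | h
  · exact qd_invol_in_C hq h h2
  · exfalso
    have h1 := hq.sq _ h
    rw [inv_mul_cancel_right] at h1
    have h3 : x ^ 2 = 1 := by rw [← h2]; exact pow_orderOf_eq_one _
    rw [h3] at h1
    exact qd_z_ne_one hq h1.symm

/-- central elements of `P` have order at most two -/
theorem qd_center_sq (hq : QuatData P c t n) {x : G} (hx : x ∈ P) (hc : x * c = c * x)
    (ht : x * t = t * x) : x ^ 2 = 1 := by
  rcases hq.cover x hx with h | h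
  · have h1 := qd_conj_mem hq h
    have h2 : t * x * t⁻¹ = x := by rw [← ht, mul_assoc, mul_inv_cancel, mul_one]
    rw [h2] at h1
    rw [pow_two]
    nth_rewrite 2 [h1]
    exact mul_inv_cancel x
  · exfalso
    apply qd_c_ne_inv hq
    -- x = y t with y ∈ C
    set y := x * t⁻¹ with hy
    have hx' : x = y * t := by rw [hy, inv_mul_cancel_right]
    have hyc : y * c = c * y := by
      obtain ⟨i, hi⟩ := Subgroup.mem_zpowers_iff.mp h
      rw [← hi]
      exact ((Commute.refl c).zpow_left i).eq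
    have h1 : x * c * x⁻¹ = c⁻¹ := by
      rw [hx', mul_inv_rev]
      have : y * t * c * (t⁻¹ * y⁻¹) = y * (t * c * t⁻¹) * y⁻¹ := by group
      rw [this, hq.conj]
      have hyc' : y * c⁻¹ = c⁻¹ * y := by
        have h5 : Commute y c := hyc
        exact h5.inv_right.eq
      rw [hyc', mul_assoc, mul_inv_cancel, mul_one]
    have h2 : x * c * x⁻¹ = c := by rw [hc, mul_assoc, mul_inv_cancel, mul_one]
    rw [h2] at h1
    exact h1

end QuatData

section SylowConj

open Pointwise

variable {G : Type u} [Group G] [Finite G]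

theorem bs_pgroup_conj_into_sylow (P : Sylow 2 G) (K : Subgroup G) (hK : IsPGroup 2 K) :
    ∃ g : G, ∀ x ∈ K, g * x * g⁻¹ ∈ P := by
  obtain ⟨Q, hQ⟩ := hK.exists_le_sylow
  obtain ⟨g, hg⟩ := MulAction.exists_smul_eq G Q P
  refine ⟨g, fun x hx => ?_⟩
  have h1 : MulAut.conj g • x ∈ MulAut.conj g • (Q : Subgroup G) :=
    Subgroup.smul_mem_pointwise_smul x _ _ (hQ hx)
  rw [← Sylow.pointwise_smul_def, ← Sylow.smul_def, hg] at h1
  have h2 : g * x * g⁻¹ ∈ (P : Subgroup G) := by simpa [MulAut.smul_def] using h1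
  exact h2

theorem bs_two_elt_conj_into_sylow (P : Sylow 2 G) (x : G) (k : ℕ) (hx : orderOf x = 2 ^ k) :
    ∃ g : G, g * x * g⁻¹ ∈ P := by
  have hK : IsPGroup 2 (Subgroup.zpowers x) := by
    apply IsPGroup.of_card (n := k)
    rw [Nat.card_zpowers, hx]
  obtain ⟨g, hg⟩ := bs_pgroup_conj_into_sylow P _ hK
  exact ⟨g, hg x (Subgroup.mem_zpowers x)⟩

theorem bs_klein_pgroup {x u : G} (hx : x ^ 2 = 1) (hu : u ^ 2 = 1) (hc : x * u = u * x) :
    IsPGroup 2 (Subgroup.closure ({x, u} : Set G)) := by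
  have hcomm : ∀ a ∈ ({x, u} : Set G), ∀ b ∈ ({x, u} : Set G), a * b = b * a := by
    intro a ha b hb
    rcases ha with rfl | rfl <;> rcases hb with rfl | rfl
    · rfl
    · exact hc
    · exact hc.symm
    · rfl
  have hcm : ∀ a b : Subgroup.closure ({x, u} : Set G), a * b = b * a :=
    fun a b => (Subgroup.isMulCommutative_closure hcomm).is_comm.comm a b
  have key : ∀ g : Subgroup.closure ({x, u} : Set G), g ^ 2 = 1 := by
    rintro ⟨g, hg⟩
    induction hg using Subgroup.closure_induction with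
    | mem a ha =>
      rcases ha with rfl | rfl
      · ext; simpa using hx
      · ext; simpa using hu
    | one => ext; simp
    | mul a b ha hb iha ihb =>
      have : (⟨a * b, Subgroup.mul_mem _ ha hb⟩ : Subgroup.closure ({x, u} : Set G)) =
          ⟨a, ha⟩ * ⟨b, hb⟩ := rfl
      rw [this, Commute.mul_pow (hcm _ _), iha, ihb, one_mul]
    | inv a ha iha =>
      have : (⟨a⁻¹, Subgroup.inv_mem _ ha⟩ : Subgroup.closure ({x, u} : Set G)) =
          (⟨a, ha⟩)⁻¹ := rfl
      rw [this, inv_pow, iha, inv_one]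
  intro g
  exact ⟨1, by rw [pow_one]; exact key g⟩

end SylowConj

end Cfsg.Agent.helper12
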