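import Mathlib
import Cfsg.Agent.Lib_helper12_BS4

set_option autoImplicit false

/-!
Generalized quaternion Sylow 2-subgroups (helper12): involutions, elements of order four in
cyclic groups, the centralizer `L` of the element `d` of order four and its Sylow 2-subgroup.
-/

namespace Cfsg.Agent.helper12

universe u

section Invol

variable {G : Type u} [Group G] [Finite G] {P : Sylow 2 G} {c t : G} {n : ℕ}

theorem bs_orderOf_conj (g x : G) : orderOf (g * x * g⁻¹) = orderOf x := by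
  have := (MulAut.conj g).orderOf_eq x
  simpa [MulAut.conj_apply] using this

theorem qd_invol_conj (hq : QuatData P c t n) {x : G} (hx : orderOf x = 2) :
    ∃ g : G, g * x * g⁻¹ = qdZ c n := by
  obtain ⟨g, hg⟩ := bs_two_elt_conj_into_sylow P x 1 (by simpa using hx)
  exact ⟨g, qd_invol_unique hq hg (by rw [bs_orderOf_conj, hx])⟩

theorem qd_no_klein (hq : QuatData P c t n) {x u : G} (hx : orderOf x = 2) (hu : orderOf u = 2)
    (hc : x * u = u * x) : x = u := by
  have hx2 : x ^ 2 = 1 := by rw [← hx]; exact pow_orderOf_eq_one x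
  have hu2 : u ^ 2 = 1 := by rw [← hu]; exact pow_orderOf_eq_one u
  obtain ⟨g, hg⟩ := bs_pgroup_conj_into_sylow P _ (bs_klein_pgroup hx2 hu2 hc)
  have h1 := qd_invol_unique hq (hg x (Subgroup.subset_closure (by simp)))
    (by rw [bs_orderOf_conj, hx])
  have h2 := qd_invol_unique hq (hg u (Subgroup.subset_closure (by simp)))
    (by rw [bs_orderOf_conj, hu])
  have h3 := h1.trans h2.symm
  exact mul_left_cancel (mul_right_cancel h3)

theorem qd_prod_invol_odd (hq : QuatData P c t n) {x y : G} (hx : orderOf x = 2)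
    (hy : orderOf y = 2) : Odd (orderOf (x * y)) := by
  by_contra hodd
  rw [Nat.not_odd_iff_even] at hodd
  obtain ⟨k, hk⟩ := hodd
  have hwpos : 0 < orderOf (x * y) := orderOf_pos _
  have hk0 : 0 < k := by omega
  have hx2 : x ^ 2 = 1 := by rw [← hx]; exact pow_orderOf_eq_one x
  have hy2 : y ^ 2 = 1 := by rw [← hy]; exact pow_orderOf_eq_one y
  have hxinv : x⁻¹ = x := by
    rw [inv_eq_iff_mul_eq_one, ← pow_two]; exact hx2
  have hyinv : y⁻¹ = y := by
    rw [inv_eq_iff_mul_eq_one, ← pow_two]; exact hy2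
  obtain ⟨w, hw⟩ : ∃ w, w = x * y := ⟨_, rfl⟩
  rw [← hw] at hk hwpos
  obtain ⟨u, hu⟩ : ∃ u, u = w ^ k := ⟨_, rfl⟩
  have hou : orderOf u = 2 := by
    rw [hu, orderOf_pow_of_dvd hk0.ne' ⟨2, by omega⟩, hk]
    have : k + k = 2 * k := by ring
    rw [this, Nat.mul_div_cancel _ hk0]
  have hconj : x * w * x⁻¹ = w⁻¹ := by
    rw [hw, mul_inv_rev, hxinv, hyinv]
    have : x * (x * y) * x = x ^ 2 * y * x := by rw [pow_two]; group
    rw [this, hx2, one_mul]
  have hcu : x * u * x⁻¹ = u⁻¹ := by rw [hu, ← conj_pow, hconj, inv_pow]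
  have hu2 : u ^ 2 = 1 := by rw [← hou]; exact pow_orderOf_eq_one u
  have huinv : u⁻¹ = u := by
    rw [inv_eq_iff_mul_eq_one, ← pow_two]; exact hu2
  have hcomm : x * u = u * x := by
    rw [huinv] at hcu
    have : x * u = (x * u * x⁻¹) * x := by group
    rw [this, hcu]
  have hxu : x = u := qd_no_klein hq hx hou hcomm
  have hxw : x * w = w * x := by
    rw [hxu, hu]
    exact ((Commute.refl w).pow_left k).eq
  have hww : w = w⁻¹ := by
    rw [← hconj, hxw, mul_assoc, mul_inv_cancel, mul_one]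
  have hw2 : w ^ 2 = 1 := by
    rw [pow_two]
    nth_rewrite 2 [hww]
    exact mul_inv_cancel w
  have hdvd := orderOf_dvd_of_pow_eq_one hw2
  have hk1 : k = 1 := by
    have := Nat.le_of_dvd (by norm_num) hdvd
    omega
  rw [hk1, pow_one] at hu
  have hy1 : y = 1 := by
    have h5 : x * y = x * 1 := by rw [mul_one, ← hw, ← hu, ← hxu]
    exact mul_left_cancel h5
  rw [hy1, orderOf_one] at hy
  omega

theorem bs_order_four_in_cyclic {y u v : G} (hu : u ∈ Subgroup.zpowers y)
    (hv : v ∈ Subgroup.zpowers y) (ou : orderOf u = 4) (ov : orderOf v = 4) :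
    v = u ∨ v = u⁻¹ := by
  classical
  haveI : Fintype (Subgroup.zpowers y) := Fintype.ofFinite _
  set u' : Subgroup.zpowers y := ⟨u, hu⟩ with hu'
  set v' : Subgroup.zpowers y := ⟨v, hv⟩ with hv'
  have ou' : orderOf u' = 4 := by rw [← Subgroup.orderOf_coe]; exact ou
  have ov' : orderOf v' = 4 := by rw [← Subgroup.orderOf_coe]; exact ov
  have hcard := IsCyclic.card_pow_eq_one_le (α := Subgroup.zpowers y) (n := 4) (by norm_num)
  set S := Finset.univ.filter (fun a : Subgroup.zpowers y => a ^ 4 = 1) with hS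
  set T₀ := (Finset.range 4).image (fun i => u' ^ i) with hT₀
  have hT₀card : T₀.card = 4 := by
    rw [hT₀, Finset.card_image_of_injOn, Finset.card_range]
    intro i hi j hj hij
    apply pow_injOn_Iio_orderOf (x := u')
    · rw [ou']; simpa using hi
    · rw [ou']; simpa using hj
    · exact hij
  have hsub : T₀ ⊆ S := by
    intro a ha
    obtain ⟨i, -, rfl⟩ := Finset.mem_image.mp ha
    rw [hS, Finset.mem_filter]
    refine ⟨Finset.mem_univ _, ?_⟩
    rw [← pow_mul, mul_comm, pow_mul, ← ou', pow_orderOf_eq_one, one_pow]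
  have heq : T₀ = S := Finset.eq_of_subset_of_card_le hsub (by rw [hT₀card]; exact hcard)
  have hvS : v' ∈ S := by
    rw [hS, Finset.mem_filter]
    exact ⟨Finset.mem_univ _, by rw [← ov', pow_orderOf_eq_one]⟩
  rw [← heq, hT₀] at hvS
  obtain ⟨i, hi, hiv⟩ := Finset.mem_image.mp hvS
  have hiv' : u ^ i = v := by
    have := congrArg Subtype.val hiv
    simpa using this
  rw [Finset.mem_range] at hi
  have hu4 : u ^ 4 = 1 := by rw [← ou]; exact pow_orderOf_eq_one u
  interval_cases i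
  · exfalso
    rw [pow_zero] at hiv'
    rw [← hiv', orderOf_one] at ov
    omega
  · left; rw [← hiv', pow_one]
  · exfalso
    have : v ^ 2 = 1 := by rw [← hiv', ← pow_mul]; exact hu4
    have := orderOf_dvd_of_pow_eq_one this
    rw [ov] at this
    omega
  · right
    rw [← hiv', eq_inv_iff_mul_eq_one, ← pow_succ]
    exact hu4

theorem bs_sq_mem_zpowers_pow {c : G} {m : ℕ} (hc : orderOf c = 2 ^ m) {i : ℕ} (hi : ¬ 4 ∣ i) :
    c ^ 2 ∈ Subgroup.zpowers (c ^ i) := by
  rcases Nat.even_or_odd i with he | ho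
  · obtain ⟨j, rfl⟩ := he
    have hj : Odd j := by
      by_contra h
      rw [Nat.not_odd_iff_even] at h
      obtain ⟨k, rfl⟩ := h
      exact hi ⟨k, by ring⟩
    have hcop : j.Coprime (orderOf (c ^ 2)) := by
      have hd : orderOf (c ^ 2) ∣ 2 ^ m := by rw [← hc]; exact orderOf_pow_dvd 2
      obtain ⟨k, -, hk⟩ := (Nat.dvd_prime_pow Nat.prime_two).mp hd
      rw [hk]
      exact Nat.Coprime.pow_right k (Nat.coprime_two_right.mpr hj)
    obtain ⟨e, he⟩ := exists_pow_eq_self_of_coprime hcop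
    have : c ^ 2 = (c ^ (j + j)) ^ e := by
      rw [← he, ← pow_mul, ← pow_mul, ← pow_mul]
      congr 1
      ring
    rw [this]
    exact Subgroup.pow_mem _ (Subgroup.mem_zpowers _) _
  · have hcop : i.Coprime (orderOf c) := by
      rw [hc]
      exact Nat.Coprime.pow_right m (Nat.coprime_two_right.mpr ho)
    obtain ⟨e, he⟩ := exists_pow_eq_self_of_coprime hcop
    have : c ^ 2 = (c ^ i) ^ (e * 2) := by rw [pow_mul, he]
    rw [this]
    exact Subgroup.pow_mem _ (Subgroup.mem_zpowers _) _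

theorem qd_d_mem_zpowers_pow (hq : QuatData P c t n) {i : ℕ} (hi : ¬ 4 ∣ i) :
    qdD c n ∈ Subgroup.zpowers (c ^ i) := by
  have h1 := bs_sq_mem_zpowers_pow hq.order_c hi
  have : qdD c n = (c ^ 2) ^ (2 ^ n) := by
    unfold qdD
    rw [← pow_mul]
    congr 1
    ring
  rw [this]
  exact Subgroup.pow_mem _ h1 _

end Invol

section SylowL

variable {G : Type u} [Group G] [Finite G] {P : Sylow 2 G} {c t : G} {n : ℕ}

/-- the centralizer of `d` -/
def qdL (c : G) (n : ℕ) : Subgroup G := Subgroup.centralizer ({qdD c n} : Set G)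

omit [Finite G] in
theorem qd_mem_L {x : G} : x ∈ qdL c n ↔ qdD c n * x = x * qdD c n := by
  unfold qdL
  rw [Subgroup.mem_centralizer_iff]
  simp

omit [Finite G] in
theorem qd_C_le_L : Subgroup.zpowers c ≤ qdL c n := by
  rw [Subgroup.zpowers_le, qd_mem_L]
  unfold qdD
  exact ((Commute.refl c).pow_left _).eq

omit [Finite G] in
theorem qd_t_conj_d (hq : QuatData P c t n) : t * qdD c n * t⁻¹ = (qdD c n)⁻¹ :=
  qd_conj_mem hq (qd_d_mem c n)

omit [Finite G] in
theorem qd_d_ne_inv (hq : QuatData P c t n) : qdD c n ≠ (qdD c n)⁻¹ := by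
  intro h
  apply qd_z_ne_one hq
  rw [← qd_d_sq, pow_two]
  nth_rewrite 2 [h]
  exact mul_inv_cancel _

omit [Finite G] in
theorem qd_t_not_mem_L (hq : QuatData P c t n) : t ∉ qdL c n := by
  intro h
  rw [qd_mem_L] at h
  apply qd_d_ne_inv hq
  rw [← qd_t_conj_d hq, ← h, mul_assoc, mul_inv_cancel, mul_one]

omit [Finite G] in
theorem qd_t_norm_L (hq : QuatData P c t n) (l : G) (hl : l ∈ qdL c n) :
    t * l * t⁻¹ ∈ qdL c n := by
  rw [qd_mem_L] at hl ⊢
  have h1 : t⁻¹ * qdD c n * t = (qdD c n)⁻¹ := qd_conj_mem' hq (qd_d_mem c n)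
  have hl' : (qdD c n)⁻¹ * l = l * (qdD c n)⁻¹ := by
    have h5 : Commute (qdD c n) l := hl
    exact h5.inv_left.eq
  calc qdD c n * (t * l * t⁻¹) = t * ((t⁻¹ * qdD c n * t) * l) * t⁻¹ := by group
    _ = t * (l * (t⁻¹ * qdD c n * t)) * t⁻¹ := by rw [h1, hl']
    _ = t * l * t⁻¹ * qdD c n := by group

theorem qd_sylow_L (hq : QuatData P c t n) :
    ∃ T : Sylow 2 (qdL c n), (T : Subgroup (qdL c n)) = (Subgroup.zpowers c).subgroupOf (qdL c n) := by
  have hcardC' : Nat.card ((Subgroup.zpowers c).subgroupOf (qdL c n)) = 2 ^ (n + 3) := by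
    rw [Nat.card_congr (Subgroup.subgroupOfEquivOfLe (qd_C_le_L (c := c) (n := n))).toEquiv,
      Nat.card_zpowers, hq.order_c]
  have hC' : IsPGroup 2 ((Subgroup.zpowers c).subgroupOf (qdL c n)) := IsPGroup.of_card hcardC'
  obtain ⟨T, hT⟩ := hC'.exists_le_sylow
  refine ⟨T, ?_⟩
  symm
  apply Subgroup.eq_of_le_of_card_ge hT
  obtain ⟨k, hk⟩ := T.2.exists_card_eq
  have hT' : IsPGroup 2 ((T : Subgroup (qdL c n)).map (qdL c n).subtype) := T.2.map _
  obtain ⟨g, hg⟩ := bs_pgroup_conj_into_sylow P _ hT'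
  let f : ↥(T : Subgroup (qdL c n)) → ↥(P : Subgroup G) := fun x =>
    ⟨g * ((x : qdL c n) : G) * g⁻¹, hg _ (Subgroup.mem_map_of_mem _ x.2)⟩
  have hf : Function.Injective f := by
    intro x y hxy
    have h1 : g * ((x : qdL c n) : G) * g⁻¹ = g * ((y : qdL c n) : G) * g⁻¹ :=
      congrArg Subtype.val hxy
    have h2 := mul_left_cancel (mul_right_cancel h1)
    exact Subtype.ext (Subtype.ext h2)
  have hle : Nat.card (T : Subgroup (qdL c n)) ≤ Nat.card (P : Subgroup G) :=
    Nat.card_le_card_of_injective f hf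
  rw [hq.card] at hle
  by_contra hlt
  push Not at hlt
  have hk' : k = n + 4 := by
    rw [hk, hcardC'] at hlt
    rw [hk] at hle
    have h1 : n + 3 < k := (Nat.pow_lt_pow_iff_right (by norm_num)).mp hlt
    have h2 : k ≤ n + 4 := (Nat.pow_le_pow_iff_right (by norm_num)).mp hle
    omega
  have hbij : Function.Bijective f := by
    rw [Nat.bijective_iff_injective_and_card]
    exact ⟨hf, by rw [hk, hk', hq.card]⟩
  have hdT : (⟨qdD c n, qd_C_le_L (qd_d_mem c n)⟩ : qdL c n) ∈ (T : Subgroup (qdL c n)) :=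
    hT (Subgroup.mem_subgroupOf.mpr (qd_d_mem c n))
  have hd'P : g * qdD c n * g⁻¹ ∈ P := hg _ ⟨_, hdT, rfl⟩
  have hcomm : ∀ p ∈ P, (g * qdD c n * g⁻¹) * p = p * (g * qdD c n * g⁻¹) := by
    intro p hp
    obtain ⟨x, hx⟩ := hbij.2 ⟨p, hp⟩
    have hpx : p = g * ((x : qdL c n) : G) * g⁻¹ := (congrArg Subtype.val hx).symm
    have hxd : qdD c n * ((x : qdL c n) : G) = ((x : qdL c n) : G) * qdD c n :=
      qd_mem_L.mp (x : qdL c n).2
    rw [hpx]
    calc g * qdD c n * g⁻¹ * (g * ((x : qdL c n) : G) * g⁻¹)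
        = g * (qdD c n * ((x : qdL c n) : G)) * g⁻¹ := by group
      _ = g * (((x : qdL c n) : G) * qdD c n) * g⁻¹ := by rw [hxd]
      _ = g * ((x : qdL c n) : G) * g⁻¹ * (g * qdD c n * g⁻¹) := by group
  have h5 := qd_center_sq hq hd'P (hcomm c hq.c_mem) (hcomm t hq.t_mem)
  rw [conj_pow, conj_eq_one_iff, qd_d_sq] at h5
  exact qd_z_ne_one hq h5

end SylowL

end Cfsg.Agent.helper12
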