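import Mathlib
import Cfsg.Agent.Lib_helper12_BS4

set_option autoImplicit false

/-!
A linear character of order four on a finite group with cyclic Sylow 2-subgroup `⟨c⟩`
(helper12), via Burnside's transfer.
-/

namespace Cfsg.Agent.helper12

universe u

/-- the unit `i` of `ℂ` -/
noncomputable def bsI : ℂˣ := Units.mk0 Complex.I Complex.I_ne_zero

theorem bsI_pow_four : bsI ^ 4 = 1 := by
  ext
  simp [bsI, Units.val_pow_eq_pow_val, Complex.I_pow_four]

theorem bsI_sq_ne : bsI ^ 2 ≠ 1 := by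
  intro h
  have := congrArg Units.val h
  simp [bsI, Units.val_pow_eq_pow_val] at this
  have h2 : (-1 : ℂ) = 1 := this
  norm_num at h2

theorem bsI_order : orderOf bsI = 4 := by
  have := orderOf_eq_prime_pow (p := 2) (n := 1) (x := bsI) (by simpa using bsI_sq_ne)
    (by simpa using bsI_pow_four)
  simpa using this

theorem bsI_pow_eq_one_iff (k : ℕ) : bsI ^ k = 1 ↔ 4 ∣ k := by
  rw [← bsI_order]
  exact (orderOf_dvd_iff_pow_eq_one).symm

/-- the properties of the transfer character -/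
structure TransferChar {L : Type u} [Group L] (c : L) (μ : L →* ℂˣ) : Prop where
  pow_four : ∀ l, μ l ^ 4 = 1
  apply_pow : ∀ i : ℕ, μ (c ^ i) = 1 ↔ 4 ∣ i
  sq_ne : (μ c) ^ 2 ≠ 1
  conj_two_part : ∀ l, μ l ≠ 1 → ∃ (k : L) (i b : ℕ), ¬ 4 ∣ i ∧ k * l ^ b * k⁻¹ = c ^ i
  unique : ∀ ν : L →* ℂˣ, (∀ l, ν l ^ 4 = 1) → (∀ x ∈ Subgroup.zpowers c, ν x = 1) → ν = 1

section Transfer

variable {L : Type u} [Group L] [Finite L]

theorem bs_exists_transferChar (c : L) (m : ℕ) (hc : orderOf c = 2 ^ (m + 2))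
    (T : Sylow 2 L) (hT : (T : Subgroup L) = Subgroup.zpowers c) :
    ∃ μ : L →* ℂˣ, TransferChar c μ := by
  classical
  have hcyc : IsCyclic (T : Subgroup L) := by
    rw [hT]; infer_instance
  have h2dvd : 2 ∣ Nat.card L := by
    have h1 : orderOf c ∣ Nat.card L := orderOf_dvd_natCard c
    rw [hc] at h1
    exact (dvd_pow_self 2 (by omega)).trans h1
  have hp : (Nat.card L).minFac = 2 := (Nat.minFac_eq_two_iff _).mpr h2dvd
  have hNC := IsCyclic.normalizer_le_centralizer hp (P := T) hcyc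
  let V : L →* (T : Subgroup L) := MonoidHom.transferSylow T hNC
  have hcT : c ∈ (T : Subgroup L) := by rw [hT]; exact Subgroup.mem_zpowers c
  let cT : (T : Subgroup L) := ⟨c, hcT⟩
  have hgen : ∀ x : (T : Subgroup L), x ∈ Subgroup.zpowers cT := by
    intro x
    have hx : (x : L) ∈ Subgroup.zpowers c := by rw [← hT]; exact x.2
    obtain ⟨k, hk⟩ := Subgroup.mem_zpowers_iff.mp hx
    rw [Subgroup.mem_zpowers_iff]
    refine ⟨k, ?_⟩
    ext
    simpa [cT] using hk
  have hocT : orderOf cT = 2 ^ (m + 2) := by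
    rw [← hc, ← Subgroup.orderOf_coe]
  have hιdvd : orderOf bsI ∣ orderOf cT := by
    rw [bsI_order, hocT]
    exact ⟨2 ^ m, by ring⟩
  let lam : (T : Subgroup L) →* ℂˣ := monoidHomOfForallMemZpowers hgen hιdvd
  have hlam : lam cT = bsI := monoidHomOfForallMemZpowers_apply_gen hgen hιdvd
  let μ : L →* ℂˣ := lam.comp V
  set j := (T : Subgroup L).index with hj
  have hjodd : Odd j := by
    rw [← Nat.not_even_iff_odd, even_iff_two_dvd]
    exact T.not_dvd_index
  have hlam4 : ∀ x : (T : Subgroup L), lam x ^ 4 = 1 := by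
    intro x
    obtain ⟨k, hk⟩ := Subgroup.mem_zpowers_iff.mp (hgen x)
    rw [← hk, map_zpow, hlam, ← zpow_natCast, ← zpow_mul, mul_comm, zpow_mul, zpow_natCast,
      bsI_pow_four, one_zpow]
  have hμ4 : ∀ l, μ l ^ 4 = 1 := fun l => hlam4 (V l)
  have hVpow : ∀ i : ℕ, V (c ^ i) = cT ^ (i * j) := by
    intro i
    have hmem : c ^ i ∈ (T : Subgroup L) := Subgroup.pow_mem _ hcT i
    have := MonoidHom.transferSylow_eq_pow T hNC (c ^ i) hmem
    ext
    rw [show V (c ^ i) = MonoidHom.transferSylow T hNC (c ^ i) from rfl, this]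
    simp [cT, pow_mul]
    rw [hj]
  have hμpow : ∀ i : ℕ, μ (c ^ i) = bsI ^ (i * j) := by
    intro i
    show lam (V (c ^ i)) = _
    rw [hVpow, map_pow, hlam]
  have hcop : Nat.Coprime 4 j := by
    have : Nat.Coprime 2 j := (Nat.coprime_two_left).mpr hjodd
    exact Nat.Coprime.pow_left 2 this
  have happly : ∀ i : ℕ, μ (c ^ i) = 1 ↔ 4 ∣ i := by
    intro i
    rw [hμpow, bsI_pow_eq_one_iff]
    constructor
    · intro h
      exact hcop.dvd_of_dvd_mul_right h
    · intro h
      exact h.mul_right j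
  refine ⟨μ, hμ4, happly, ?_, ?_, ?_⟩
  · -- sq_ne
    intro h
    have h1 : μ (c ^ 2) = 1 := by rw [map_pow]; exact h
    have := (happly 2).mp h1
    omega
  · -- conj_two_part
    intro l hl
    have ho : orderOf l ≠ 0 := (orderOf_pos l).ne'
    obtain ⟨a, b, hb, hab⟩ := Nat.exists_eq_two_pow_mul_odd ho
    have hb0 : b ≠ 0 := by
      rintro rfl
      simp at hb
    have hord : orderOf (l ^ b) = 2 ^ a := by
      rw [orderOf_pow_of_dvd hb0 ⟨2 ^ a, by rw [hab]; ring⟩, hab, Nat.mul_div_cancel _ (by omega)]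
    obtain ⟨k, hk⟩ := bs_two_elt_conj_into_sylow T (l ^ b) a hord
    have hk' : k * l ^ b * k⁻¹ ∈ Subgroup.zpowers c := by rw [← hT]; exact hk
    rw [← mem_powers_iff_mem_zpowers, Submonoid.mem_powers_iff] at hk'
    obtain ⟨i, hi⟩ := hk'
    refine ⟨k, i, b, ?_, hi.symm⟩
    intro h4
    have h1 : μ (c ^ i) = 1 := (happly i).mpr h4
    rw [hi, map_mul, map_mul, map_inv, mul_comm, ← mul_assoc, inv_mul_cancel, one_mul,
      map_pow] at h1
    have h2 := pow_gcd_eq_one.mpr ⟨h1, hμ4 l⟩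
    have h3 : Nat.gcd b 4 = 1 := by
      have : Nat.Coprime b 2 := Nat.coprime_two_right.mpr hb
      exact Nat.Coprime.pow_right 2 this
    rw [h3, pow_one] at h2
    exact hl h2
  · -- unique
    intro ν hν4 hνc
    have hcomp := MonoidHom.ker_transferSylow_isComplement' T hNC
    have hodd : ¬ 2 ∣ Nat.card (MonoidHom.transferSylow T hNC).ker :=
      MonoidHom.not_dvd_card_ker_transferSylow T hNC
    ext1 l
    obtain ⟨⟨k, x⟩, hkx, -⟩ := (Subgroup.isComplement'_def.mp hcomp).existsUnique l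
    simp only at hkx
    rw [← hkx, map_mul]
    have hx1 : ν (x : L) = 1 := hνc _ (by rw [← hT]; exact x.2)
    rw [hx1, mul_one, MonoidHom.one_apply]
    have hko : orderOf (k : L) ∣ Nat.card (MonoidHom.transferSylow T hNC).ker := by
      rw [Subgroup.orderOf_coe]
      exact orderOf_dvd_natCard k
    have h1 : ν (k : L) ^ orderOf (k : L) = 1 := by
      rw [← map_pow, pow_orderOf_eq_one, map_one]
    have h2 := pow_gcd_eq_one.mpr ⟨h1, hν4 (k : L)⟩
    have h3 : Nat.gcd (orderOf (k : L)) 4 = 1 := by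
      have hodd' : Odd (orderOf (k : L)) := by
        rw [← Nat.not_even_iff_odd, even_iff_two_dvd]
        intro h
        exact hodd (h.trans hko)
      have : Nat.Coprime (orderOf (k : L)) 2 := Nat.coprime_two_right.mpr hodd'
      exact Nat.Coprime.pow_right 2 this
    rw [h3, pow_one] at h2
    exact h2

end Transfer

end Cfsg.Agent.helper12
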