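import Mathlib
import Cfsg.Agent.Lib_helper12_BS3
import Cfsg.Agent.Lib_helper12_BS5
import Cfsg.Agent.Lib_helper12_BS6

set_option autoImplicit false

/-!
Brauer–Suzuki for generalized quaternion Sylow 2-subgroups of order at least 16 (helper12):
the exceptional characters `χ₁, χ₂` with `1 - χ₁ + χ₂` vanishing off elements of order
divisible by four.
-/

namespace Cfsg.Agent.helper12

open Cfsg
open scoped ComplexConjugate

universe u

section Apply

variable {G : Type u} [Group G] [Fintype G] {P : Sylow 2 G} {c t : G} {n : ℕ}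

/-- `c` as an element of `L` -/
def qdCL (c : G) (n : ℕ) : qdL c n := ⟨c, qd_C_le_L (Subgroup.mem_zpowers c)⟩

omit [Fintype G] in
theorem qd_subgroupOf_eq :
    (Subgroup.zpowers c).subgroupOf (qdL c n) = Subgroup.zpowers (qdCL c n) := by
  ext x
  rw [Subgroup.mem_subgroupOf, Subgroup.mem_zpowers_iff, Subgroup.mem_zpowers_iff]
  constructor
  · rintro ⟨k, hk⟩
    exact ⟨k, Subtype.ext (by simpa [qdCL] using hk)⟩
  · rintro ⟨k, hk⟩
    refine ⟨k, ?_⟩
    have := congrArg Subtype.val hk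
    simpa [qdCL] using this

theorem qd_exists_mu (hq : QuatData P c t n) :
    ∃ μ : qdL c n →* ℂˣ, TransferChar (qdCL c n) μ := by
  obtain ⟨T, hT⟩ := qd_sylow_L hq
  rw [qd_subgroupOf_eq] at hT
  apply bs_exists_transferChar (qdCL c n) (n + 1) _ T hT
  rw [← Subgroup.orderOf_coe]
  exact hq.order_c

theorem qd_d_mem_zpowers_of_mu_ne (hq : QuatData P c t n) {μ : qdL c n →* ℂˣ}
    (hμ : TransferChar (qdCL c n) μ) (l : qdL c n) (hl : μ l ≠ 1) :
    qdD c n ∈ Subgroup.zpowers (l : G) := by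
  obtain ⟨k, i, b, hi, hk⟩ := hμ.conj_two_part l hl
  have h1 := qd_d_mem_zpowers_pow hq hi
  obtain ⟨e, he⟩ := Subgroup.mem_zpowers_iff.mp h1
  have hk' : (k : G) * (l : G) ^ b * (k : G)⁻¹ = c ^ i := by
    have := congrArg Subtype.val hk
    simpa [qdCL] using this
  have h2 : qdD c n = (k : G) * ((l : G) ^ b) ^ e * (k : G)⁻¹ := by
    rw [← he, ← hk', conj_zpow]
  have hkd : qdD c n * (k : G) = (k : G) * qdD c n := qd_mem_L.mp k.2
  have h3 : ((l : G) ^ b) ^ e = qdD c n := by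
    have : ((l : G) ^ b) ^ e = (k : G)⁻¹ * qdD c n * (k : G) := by rw [h2]; group
    rw [this, mul_assoc, hkd, ← mul_assoc, inv_mul_cancel, one_mul]
  rw [← h3]
  exact Subgroup.zpow_mem _ (Subgroup.pow_mem _ (Subgroup.mem_zpowers _) _) _

theorem qd_bsHyp (hq : QuatData P c t n) {μ : qdL c n →* ℂˣ}
    (hμ : TransferChar (qdCL c n) μ) : BsHyp (qdL c n) μ t := by
  refine ⟨qd_t_not_mem_L hq, qd_t_norm_L hq, ?_, ⟨qdCL c n, hμ.sq_ne⟩, ?_⟩
  · intro l h
    let σ : qdL c n →* qdL c n :=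
      { toFun := fun x => ⟨t * (x : G) * t⁻¹, qd_t_norm_L hq _ x.2⟩
        map_one' := by ext; simp
        map_mul' := by
          intro a b
          ext
          simp only [Subgroup.coe_mul]
          group }
    let ν : qdL c n →* ℂˣ := (μ.comp σ) * μ
    have hν : ν = 1 := by
      apply hμ.unique
      · intro x
        show (μ (σ x) * μ x) ^ 4 = 1
        rw [mul_pow, hμ.pow_four, hμ.pow_four, one_mul]
      · intro x hx
        show μ (σ x) * μ x = 1
        have hxG : (x : G) ∈ Subgroup.zpowers c := by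
          obtain ⟨k, hk⟩ := Subgroup.mem_zpowers_iff.mp hx
          rw [← hk]
          simp only [qdCL, Subgroup.coe_zpow]
          exact Subgroup.zpow_mem _ (Subgroup.mem_zpowers c) k
        have : σ x = x⁻¹ := by
          ext
          show t * (x : G) * t⁻¹ = ((x⁻¹ : qdL c n) : G)
          rw [Subgroup.coe_inv]
          exact qd_conj_mem hq hxG
        rw [this, map_inv, inv_mul_cancel]
    have h2 : μ (σ l) * μ l = 1 := DFunLike.congr_fun hν l
    have h3 : (⟨t * (l : G) * t⁻¹, h⟩ : qdL c n) = σ l := rfl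
    rw [h3]
    exact eq_inv_of_mul_eq_one_left h2
  · intro l x h hl hl'
    have hd1 := qd_d_mem_zpowers_of_mu_ne hq hμ l hl
    have hd2 := qd_d_mem_zpowers_of_mu_ne hq hμ ⟨_, h⟩ hl'
    have hd3 : x⁻¹ * qdD c n * x ∈ Subgroup.zpowers (x⁻¹ * (l : G) * x) := by
      obtain ⟨e, he⟩ := Subgroup.mem_zpowers_iff.mp hd1
      rw [← he]
      have h5 : x⁻¹ * (l : G) ^ e * x = (x⁻¹ * (l : G) * x) ^ e := by
        have := conj_zpow (a := x⁻¹) (b := (l : G)) (i := e)
        rw [inv_inv] at this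
        exact this.symm
      rw [h5]
      exact Subgroup.zpow_mem _ (Subgroup.mem_zpowers _) _
    have ho : orderOf (x⁻¹ * qdD c n * x) = 4 := by
      have := bs_orderOf_conj x⁻¹ (qdD c n)
      rw [inv_inv] at this
      rw [this, qd_order_d hq]
    rcases bs_order_four_in_cyclic hd2 hd3 (qd_order_d hq) ho with h5 | h5
    · left
      rw [qd_mem_L]
      calc qdD c n * x = x * (x⁻¹ * qdD c n * x) := by group
        _ = x * qdD c n := by rw [h5]
    · right
      rw [qd_mem_L]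
      have h6 : t⁻¹ * qdD c n * t = (qdD c n)⁻¹ := qd_conj_mem' hq (qd_d_mem c n)
      have h7 : x⁻¹ * (qdD c n)⁻¹ * x = qdD c n := by
        have h8 : x⁻¹ * (qdD c n)⁻¹ * x = (x⁻¹ * qdD c n * x)⁻¹ := by group
        rw [h8, h5, inv_inv]
      calc qdD c n * (t * x) = t * (t⁻¹ * qdD c n * t) * x := by group
        _ = t * (qdD c n)⁻¹ * x := by rw [h6]
        _ = t * x * (x⁻¹ * (qdD c n)⁻¹ * x) := by group
        _ = t * x * qdD c n := by rw [h7]

theorem bs_two_or_four {a b : ℂ} (hab : a * b = 1) (ha4 : a ^ 4 = 1) (ha1 : a ≠ 1) :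
    2 - a - b = 2 ∨ 2 - a - b = 4 := by
  have h1 : (a - 1) * ((a + 1) * (a ^ 2 + 1)) = 0 := by
    have : (a - 1) * ((a + 1) * (a ^ 2 + 1)) = a ^ 4 - 1 := by ring
    rw [this, ha4, sub_self]
  rcases mul_eq_zero.mp h1 with h | h
  · exact absurd (sub_eq_zero.mp h) ha1
  · rcases mul_eq_zero.mp h with h | h
    · right
      have ha : a = -1 := by linear_combination h
      have hb : b = -1 := by
        rw [ha] at hab
        linear_combination -hab
      rw [ha, hb]
      norm_num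
    · left
      have hb : b = -a := by
        linear_combination b * h - a * hab
      rw [hb]
      ring

/-- the exceptional characters -/
theorem qd_package (hq : QuatData P c t n) :
    ∃ χ₁ χ₂ : G → ℂ, IsIrrCharacter G χ₁ ∧ IsIrrCharacter G χ₂ ∧ χ₁ ≠ (fun _ => 1) ∧
      χ₂ ≠ (fun _ => 1) ∧ χ₁ 1 = χ₂ 1 + 1 ∧ (∀ g : G, ¬ 4 ∣ orderOf g → χ₁ g - χ₂ g = 1) ∧
      (∀ i : ℕ, ¬ 4 ∣ i → (1 - χ₁ (c ^ i) + χ₂ (c ^ i) = 2 ∨ 1 - χ₁ (c ^ i) + χ₂ (c ^ i) = 4)) := by
  obtain ⟨μ, hμ⟩ := qd_exists_mu hq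
  have hH := qd_bsHyp hq hμ
  have h3 := bs_norm hH
  have h1 := bs_inner_one hH
  have h0 := bs_at_one (L := qdL c n) (μ := μ)
  rw [bs_eq_sub] at h3 h1 h0
  obtain ⟨χ₁, χ₂, hχ₁, hχ₂, hne1, hne2, hdeg, hval⟩ :=
    bs_decomp bs_isCharacter_one bs_isCharacter_mu h3 h1 (sub_eq_zero.mp h0)
  have hθ : ∀ g : G, bsTheta (qdL c n) μ g = 1 - χ₁ g + χ₂ g := by
    intro g
    have e := congrFun (bs_eq_sub (L := qdL c n) (μ := μ)) g
    rw [Pi.sub_apply] at e
    rw [e, hval g]
  refine ⟨χ₁, χ₂, hχ₁, hχ₂, hne1, hne2, hdeg, ?_, ?_⟩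
  · intro g hg
    have hz : bsTheta (qdL c n) μ g = 0 := by
      by_contra hne
      obtain ⟨x, hx, hμx⟩ := bs_support g hne
      have hd := qd_d_mem_zpowers_of_mu_ne hq hμ ⟨_, hx⟩ hμx
      have h5 := orderOf_dvd_of_mem_zpowers hd
      rw [qd_order_d hq] at h5
      have ho : orderOf (x⁻¹ * g * x) = orderOf g := by
        have := bs_orderOf_conj x⁻¹ g
        rwa [inv_inv] at this
      rw [show ((⟨x⁻¹ * g * x, hx⟩ : qdL c n) : G) = x⁻¹ * g * x from rfl, ho] at h5
      exact hg h5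
    have := hθ g
    rw [hz] at this
    linear_combination this
  · intro i hi
    have hl : μ ((qdCL c n) ^ i) ≠ 1 := fun h => hi ((hμ.apply_pow i).mp h)
    have hv := bs_value hH ((qdCL c n) ^ i) hl
    have hcoe : (((qdCL c n) ^ i : qdL c n) : G) = c ^ i := by simp [qdCL]
    rw [hcoe, hθ] at hv
    rw [hv]
    apply bs_two_or_four
    · rw [← Units.val_mul, mul_inv_cancel, Units.val_one]
    · rw [← Units.val_pow_eq_pow_val, hμ.pow_four, Units.val_one]
    · intro h
      apply hl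
      exact Units.ext h

end Apply

end Cfsg.Agent.helper12
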