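import Mathlib
import Cfsg.Agent.Lib_helper12_BS7

set_option autoImplicit false

/-!
Quaternion data from an isomorphism of the Sylow 2-subgroup with `QuaternionGroup (2^(n+2))`,
and the Brauer–Suzuki exceptional characters statement (helper12).
-/

namespace Cfsg.Agent.helper12

open Cfsg
open QuaternionGroup

universe u

theorem quatData_of_equiv {G : Type u} [Group G] (S : Sylow 2 G) (n : ℕ)
    (e : (S : Subgroup G) ≃* QuaternionGroup (2 ^ (n + 2))) :
    ∃ c t : G, QuatData S c t n := by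
  let cS : (S : Subgroup G) := e.symm (a 1)
  let tS : (S : Subgroup G) := e.symm (xa 0)
  have hoc : orderOf cS = 2 ^ (n + 3) := by
    rw [MulEquiv.orderOf_eq, orderOf_a_one]
    ring
  have hconjS : tS * cS * tS⁻¹ = cS⁻¹ := by
    rw [mul_inv_eq_iff_eq_mul, eq_inv_mul_iff_mul_eq]
    show e.symm (a 1) * (e.symm (xa 0) * e.symm (a 1)) = e.symm (xa 0)
    rw [← map_mul, ← map_mul]
    congr 1
    simp
  have hpowS : ∀ k : ℕ, cS ^ k = e.symm (a (k : ZMod (2 * 2 ^ (n + 2)))) := by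
    intro k
    show (e.symm (a 1)) ^ k = _
    rw [← map_pow, a_one_pow]
  have hfin : IsOfFinOrder (cS : G) := by
    rw [← orderOf_pos_iff, Subgroup.orderOf_coe, hoc]
    positivity
  refine ⟨(cS : G), (tS : G), cS.2, tS.2, by rw [Subgroup.orderOf_coe, hoc], ?_, ?_, ?_, ?_⟩
  · have := congrArg Subtype.val hconjS
    simpa using this
  · intro x hx
    rcases hq : e ⟨x, hx⟩ with i | i
    · left
      have h1 : (⟨x, hx⟩ : (S : Subgroup G)) = cS ^ (i.val) := by
        rw [hpowS, ZMod.natCast_zmod_val, ← hq, MulEquiv.symm_apply_apply]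
      have h2 : x = (cS : G) ^ (i.val) := by
        have := congrArg Subtype.val h1
        simpa using this
      rw [h2]
      exact Subgroup.pow_mem _ (Subgroup.mem_zpowers _) _
    · right
      have h0 : xa i * (xa 0 : QuaternionGroup (2 ^ (n + 2)))⁻¹ = a (-i) := by
        rw [mul_inv_eq_iff_eq_mul]
        simp
      have h1 : (⟨x, hx⟩ : (S : Subgroup G)) * tS⁻¹ = cS ^ ((-i).val) := by
        rw [hpowS, ZMod.natCast_zmod_val, ← h0, map_mul, map_inv, ← hq, MulEquiv.symm_apply_apply]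
      have h2 : x * (tS : G)⁻¹ = (cS : G) ^ ((-i).val) := by
        have := congrArg Subtype.val h1
        simpa using this
      rw [h2]
      exact Subgroup.pow_mem _ (Subgroup.mem_zpowers _) _
  · intro y hy
    rw [← hfin.mem_powers_iff_mem_zpowers, Submonoid.mem_powers_iff] at hy
    obtain ⟨k, rfl⟩ := hy
    have h1 : (cS ^ k * tS) ^ 2 = cS ^ (2 ^ (n + 2)) := by
      rw [hpowS, hpowS]
      show (e.symm (a (k : ZMod (2 * 2 ^ (n + 2)))) * e.symm (xa 0)) ^ 2 = _
      rw [← map_mul, ← map_pow]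
      congr 1
      rw [a_mul_xa, xa_sq]
    have := congrArg Subtype.val h1
    simpa using this
  · rw [Nat.card_congr e.toEquiv, Nat.card_eq_fintype_card, QuaternionGroup.card]
    ring

/-- S0844 -/
theorem bs_exceptional {G : Type u} [Group G] [Fintype G] (S : Sylow 2 G) (n : ℕ)
    (e : (S : Subgroup G) ≃* QuaternionGroup (2 ^ (n + 2))) :
    ∃ χ₁ χ₂ : G → ℂ, Cfsg.IsIrrCharacter G χ₁ ∧ Cfsg.IsIrrCharacter G χ₂ ∧ χ₁ ≠ (fun _ => 1) ∧
      χ₂ ≠ (fun _ => 1) ∧ χ₁ 1 = χ₂ 1 + 1 ∧ ∀ g : G, ¬ 4 ∣ orderOf g → χ₁ g - χ₂ g = 1 := by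
  obtain ⟨c, t, hq⟩ := quatData_of_equiv S n e
  obtain ⟨χ₁, χ₂, h1, h2, h3, h4, h5, h6, -⟩ := qd_package hq
  exact ⟨χ₁, χ₂, h1, h2, h3, h4, h5, h6⟩

end Cfsg.Agent.helper12
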