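import Mathlib
import Cfsg.Prelude.Def_Characters
import Cfsg.Prelude.Def_Blocks

set_option autoImplicit false

namespace Cfsg.Agent.helper23

open Polynomial

/-- If a multiset of complex numbers, each a `p^j`-th root of unity, sums to zero, then `p` divides
its cardinality. -/
theorem prime_dvd_card_of_sum_roots_of_unity_eq_zero (p j : ℕ) [hp : Fact p.Prime] (s : Multiset ℂ)
    (hs : ∀ μ ∈ s, μ ^ (p ^ j) = 1) (hsum : s.sum = 0) : p ∣ Multiset.card s := by
  classical
  have hpos : 0 < p ^ j := pow_pos hp.out.pos j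
  let ζ : ℂ := Complex.exp (2 * Real.pi * Complex.I / ((p ^ j : ℕ) : ℂ))
  have hζ : IsPrimitiveRoot ζ (p ^ j) := Complex.isPrimitiveRoot_exp _ hpos.ne'
  have hex : ∀ μ : ℂ, ∃ a : ℕ, μ ^ (p ^ j) = 1 → ζ ^ a = μ := by
    intro μ
    by_cases h : μ ^ (p ^ j) = 1
    · obtain ⟨a, _, ha⟩ := hζ.eq_pow_of_pow_eq_one h
      exact ⟨a, fun _ => ha⟩
    · exact ⟨0, fun h' => absurd h' h⟩
  choose a ha using hex
  let F : ℤ[X] := (s.map (fun μ => (X : ℤ[X]) ^ a μ)).sum
  have hF0 : aeval ζ F = 0 := by
    simp only [F, map_multiset_sum, Multiset.map_map, Function.comp, map_pow, aeval_X]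
    rw [← hsum]
    congr 1
    conv_rhs => rw [← Multiset.map_id s]
    apply Multiset.map_congr rfl
    intro μ hμ
    exact ha μ (hs μ hμ)
  have hF1 : F.eval 1 = (Multiset.card s : ℤ) := by
    simp only [F]
    rw [← Polynomial.coe_evalRingHom, map_multiset_sum, Multiset.map_map]
    simp
  have hint : IsIntegral ℤ ζ := hζ.isIntegral hpos
  have hdvd : cyclotomic (p ^ j) ℤ ∣ F := by
    rw [cyclotomic_eq_minpoly hζ hpos]
    exact minpoly.isIntegrallyClosed_dvd hint hF0
  rcases Nat.eq_zero_or_pos j with hj | hj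
  · subst hj
    have h1 : ∀ μ ∈ s, μ = 1 := by
      intro μ hμ
      simpa using hs μ hμ
    have : s.sum = (Multiset.card s : ℂ) := by
      rw [Multiset.eq_replicate_card.mpr h1]
      simp
    rw [this] at hsum
    have : Multiset.card s = 0 := by exact_mod_cast hsum
    rw [this]
    exact dvd_zero p
  · obtain ⟨k, hk⟩ : ∃ k, j = k + 1 := ⟨j - 1, by omega⟩
    subst hk
    have h2 : (cyclotomic (p ^ (k + 1)) ℤ).eval 1 = p := eval_one_cyclotomic_prime_pow k
    have h3 : (cyclotomic (p ^ (k + 1)) ℤ).eval 1 ∣ F.eval 1 := eval_dvd hdvd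
    rw [h2, hF1] at h3
    exact_mod_cast h3

/-- The value of the character of a representation on `Fin n → ℂ` at an element `g` with
`g ^ m = 1` is the sum of a multiset of `n` complex `m`-th roots of unity (the eigenvalues). -/
theorem character_eq_sum_roots_of_unity {G : Type*} [Group G] (n : ℕ)
    (ρ : Representation ℂ G (Fin n → ℂ)) (g : G) (m : ℕ) (hm : g ^ m = 1) :
    ∃ s : Multiset ℂ, Multiset.card s = n ∧ (∀ μ ∈ s, μ ^ m = 1) ∧ ρ.character g = s.sum := by
  have hsplit : (ρ g).charpoly.Splits := IsAlgClosed.splits _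
  refine ⟨(ρ g).charpoly.roots, ?_, ?_, ?_⟩
  · rw [Polynomial.splits_iff_card_roots.mp hsplit, LinearMap.charpoly_natDegree,
      Module.finrank_fin_fun]
  · intro μ hμ
    have hroot : (ρ g).charpoly.IsRoot μ := (Polynomial.mem_roots'.mp hμ).2
    have hev : Module.End.HasEigenvalue (ρ g) μ :=
      (Module.End.hasEigenvalue_iff_isRoot_charpoly (ρ g) μ).mpr hroot
    obtain ⟨v, hv⟩ := hev.exists_hasEigenvector
    have h1 : ((ρ g) ^ m) v = μ ^ m • v := hv.pow_apply m
    have h2 : (ρ g) ^ m = 1 := by rw [← map_pow, hm, map_one]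
    rw [h2, Module.End.one_apply] at h1
    have h3 : (μ ^ m - 1) • v = 0 := by rw [sub_smul, one_smul, ← h1, sub_self]
    rcases smul_eq_zero.mp h3 with h | h
    · exact sub_eq_zero.mp h
    · exact absurd h hv.2
  · exact Module.End.trace_eq_sum_roots_charpoly_of_splits hsplit

/-- The degree of the character of a representation on `Fin n → ℂ` is `n`. -/
theorem charDegree_character {G : Type*} [Group G] (n : ℕ)
    (ρ : Representation ℂ G (Fin n → ℂ)) : Cfsg.charDegree ρ.character = n := by
  unfold Cfsg.charDegree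
  rw [Representation.char_one, Module.finrank_fin_fun]
  simp

end Cfsg.Agent.helper23
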