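import Mathlib
import Cfsg.Prelude.Def_Characters
import Cfsg.Agent.Lib_helper23_Eigen

set_option autoImplicit false

namespace Cfsg.Agent.helper23

open Representation

/-- Values of characters of finite groups are algebraic integers. -/
theorem character_isIntegral {G : Type*} [Group G] [Finite G] {n : ℕ}
    (ρ : Representation ℂ G (Fin n → ℂ)) (g : G) : IsIntegral ℤ (ρ.character g) := by
  have hm : g ^ (Nat.card G) = 1 := pow_card_eq_one'
  obtain ⟨s, _, hs, hsum⟩ := character_eq_sum_roots_of_unity n ρ g (Nat.card G) hm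
  rw [hsum]
  apply IsIntegral.multiset_sum
  intro μ hμ
  apply IsIntegral.of_pow (Nat.card_pos (α := G))
  rw [hs μ hμ]
  exact isIntegral_one

theorem char_isIntegral {G : Type*} [Group G] [Finite G] {χ : G → ℂ}
    (hχ : Cfsg.IsCharacter G χ) (g : G) : IsIntegral ℤ (χ g) := by
  obtain ⟨n, ρ, rfl⟩ := hχ
  exact character_isIntegral ρ g

theorem irr_isIntegral {G : Type*} [Group G] [Finite G] (χ : Cfsg.IrrCharacter G) (g : G) :
    IsIntegral ℤ ((χ : G → ℂ) g) := by
  obtain ⟨n, ρ, _, hχ⟩ := χ.2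
  rw [← hχ]
  exact character_isIntegral ρ g

/-- If an integer `a` equals `b * T` in `ℂ` with `T` an algebraic integer and `b ≠ 0`, then
`b ∣ a`. -/
theorem int_dvd_of_eq_mul_isIntegral (a b : ℤ) (hb : b ≠ 0) (T : ℂ) (hT : IsIntegral ℤ T)
    (h : (a : ℂ) = b * T) : b ∣ a := by
  have hb' : (b : ℂ) ≠ 0 := by exact_mod_cast hb
  have hTq : T = ((a / b : ℚ) : ℂ) := by
    push_cast
    field_simp
    rw [h]; ring
  rw [hTq] at hT
  have hT' : IsIntegral ℤ (a / b : ℚ) :=
    (isIntegral_algebraMap_iff (algebraMap ℚ ℂ).injective).mp hT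
  obtain ⟨k, hk⟩ := IsIntegrallyClosed.isIntegral_iff.mp hT'
  refine ⟨k, ?_⟩
  have hbq : (b : ℚ) ≠ 0 := by exact_mod_cast hb
  have : (a : ℚ) = b * k := by
    have hk' : (k : ℚ) = a / b := hk
    rw [hk']; field_simp
  exact_mod_cast this

end Cfsg.Agent.helper23
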