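import Mathlib
import Cfsg.Prelude.Def_Characters

set_option autoImplicit false

namespace Cfsg.Agent.helper23

open Representation

/-- Schur's lemma over `ℂ`: an endomorphism commuting with an irreducible representation is a
scalar. -/
theorem schur_scalar {G : Type*} [Group G] {n : ℕ} (ρ : Representation ℂ G (Fin n → ℂ))
    (hρ : ρ.IsIrreducible) (T : (Fin n → ℂ) →ₗ[ℂ] (Fin n → ℂ))
    (hT : ∀ g, T ∘ₗ ρ g = ρ g ∘ₗ T) : ∃ c : ℂ, T = c • LinearMap.id := by
  have := hρ
  let f : IntertwiningMap ρ ρ := ⟨T, hT⟩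
  obtain ⟨c, hc⟩ :=
    (IsIrreducible.algebraMap_intertwiningMap_bijective_of_isAlgClosed (ρ := ρ)).2 f
  refine ⟨c, ?_⟩
  have : f.toLinearMap = (algebraMap ℂ (IntertwiningMap ρ ρ) c).toLinearMap := by rw [hc]
  rw [IntertwiningMap.algebraMap_apply] at this
  rw [IntertwiningMap.toLinearMap_smul] at this
  exact this

/-- The underlying space of an irreducible representation is nontrivial. -/
theorem pos_of_irreducible {G : Type*} [Group G] {n : ℕ}
    (ρ : Representation ℂ G (Fin n → ℂ)) (hρ : ρ.IsIrreducible) : 0 < n := by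
  have := hρ
  by_contra h
  have hn : n = 0 := by omega
  subst hn
  obtain ⟨a, b, hab⟩ := (inferInstance : Nontrivial (Subrepresentation ρ))
  apply hab
  ext v
  have hv : v = 0 := Subsingleton.elim _ _
  rw [hv]
  exact ⟨fun _ => zero_mem _, fun _ => zero_mem _⟩

theorem smul_id_injective {n : ℕ} (hn : 0 < n) {c c' : ℂ}
    (h : c • (LinearMap.id : (Fin n → ℂ) →ₗ[ℂ] (Fin n → ℂ)) = c' • LinearMap.id) : c = c' := by
  have := congrArg (fun T : (Fin n → ℂ) →ₗ[ℂ] (Fin n → ℂ) => T (fun _ => 1) ⟨0, hn⟩) h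
  simpa using this

section
variable {G : Type*} [Group G] {n : ℕ} (ρ : Representation ℂ G (Fin n → ℂ))

theorem scalar_mul {a b : G} {ca cb : ℂ} (ha : ρ a = ca • LinearMap.id)
    (hb : ρ b = cb • LinearMap.id) : ρ (a * b) = (ca * cb) • LinearMap.id := by
  rw [map_mul, ha, hb]
  ext v i
  simp [mul_smul]
  ring

theorem scalar_one : ρ 1 = (1 : ℂ) • LinearMap.id := by
  rw [map_one, one_smul]; rfl

theorem scalar_pow {a : G} {c : ℂ} (ha : ρ a = c • LinearMap.id) (k : ℕ) :
    ρ (a ^ k) = (c ^ k) • LinearMap.id := by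
  induction k with
  | zero => simpa using scalar_one ρ
  | succ k ih =>
    rw [pow_succ, pow_succ]
    exact scalar_mul ρ ih ha

theorem scalar_pow_eq_one (hn : 0 < n) {a : G} {c : ℂ} (ha : ρ a = c • LinearMap.id) (k : ℕ)
    (hk : a ^ k = 1) : c ^ k = 1 := by
  have h1 := scalar_pow ρ ha k
  rw [hk, scalar_one ρ] at h1
  exact (smul_id_injective hn h1).symm

theorem char_of_scalar {z : G} {c : ℂ} (hz : ρ z = c • LinearMap.id) :
    ρ.character z = c * n := by
  unfold Representation.character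
  rw [hz, map_smul, LinearMap.trace_id, Module.finrank_fin_fun]
  simp

theorem char_mul_scalar {z : G} {c : ℂ} (hz : ρ z = c • LinearMap.id) (g : G) :
    ρ.character (g * z) = c * ρ.character g := by
  unfold Representation.character
  rw [map_mul, hz]
  have : ρ g * (c • LinearMap.id) = c • ρ g := by
    ext v i
    simp
  rw [this, map_smul, smul_eq_mul]

/-- An element commuting with everything acts as a scalar in an irreducible representation. -/
theorem exists_scalar_of_commute (hρ : ρ.IsIrreducible) (z : G) (hz : ∀ g, g * z = z * g) :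
    ∃ c : ℂ, ρ z = c • LinearMap.id := by
  apply schur_scalar ρ hρ
  intro g
  rw [← Module.End.mul_eq_comp, ← Module.End.mul_eq_comp, ← map_mul, ← map_mul, hz g]

end

/-- A multiplicative complex function on a finite group that is not identically `1` has sum `0`. -/
theorem sum_eq_zero_of_mul_of_ne_one {N : Type*} [Group N] [Fintype N] (θ : N → ℂ)
    (hmul : ∀ a b, θ (a * b) = θ a * θ b) (n₀ : N) (h0 : θ n₀ ≠ 1) : ∑ n : N, θ n = 0 := by
  have h1 : ∑ n : N, θ n = ∑ n : N, θ (n₀ * n) :=
    (Fintype.sum_equiv (Equiv.mulLeft n₀) _ _ (fun _ => rfl)).symm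
  have h2 : ∑ n : N, θ (n₀ * n) = θ n₀ * ∑ n : N, θ n := by
    rw [Finset.mul_sum]
    exact Finset.sum_congr rfl (fun n _ => hmul n₀ n)
  have h3 : (1 - θ n₀) * ∑ n : N, θ n = 0 := by
    rw [sub_mul, one_mul, ← h2, ← h1, sub_self]
  rcases mul_eq_zero.mp h3 with h | h
  · exact absurd (sub_eq_zero.mp h).symm h0
  · exact h

end Cfsg.Agent.helper23
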