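import Mathlib
import Cfsg.Prelude.Def_Blocks
import Cfsg.Agent.Lib_helper23_Schur
import Cfsg.Agent.Lib_helper23_Integral
import Cfsg.Agent.Lib_helper24_Char

set_option autoImplicit false

namespace Cfsg.Agent.helper23

open Representation
open scoped ComplexConjugate Classical

section
variable {G : Type*} [Group G] [Fintype G] {n : ℕ} (ρ : Representation ℂ G (Fin n → ℂ))

/-- The finset of conjugates of `x`. -/
noncomputable def conjFinset (x : G) : Finset G := Finset.univ.filter (fun k : G => IsConj x k)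

theorem mem_conjFinset {x k : G} : k ∈ conjFinset x ↔ IsConj x k := by
  simp [conjFinset]

theorem conj_mem_conjFinset {x k : G} (g : G) : k ∈ conjFinset x ↔ g * k * g⁻¹ ∈ conjFinset x := by
  rw [mem_conjFinset, mem_conjFinset]
  constructor
  · intro h
    exact h.trans (isConj_iff.mpr ⟨g, rfl⟩)
  · intro h
    exact h.trans (isConj_iff.mpr ⟨g, rfl⟩).symm

theorem card_conjFinset (x : G) :
    (conjFinset x).card = (Subgroup.centralizer ({x} : Set G)).index := by
  rw [← Cfsg.Agent.helper24.card_conj_eq_index x, Nat.card_eq_fintype_card, Fintype.card_subtype]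
  unfold conjFinset
  congr 1
  ext k
  simp only [Finset.mem_filter, Finset.mem_univ, true_and]
  exact isConj_comm

theorem character_of_mem_conjFinset {x k : G} (h : k ∈ conjFinset x) :
    ρ.character k = ρ.character x := by
  obtain ⟨c, hc⟩ := isConj_iff.mp (mem_conjFinset.mp h)
  rw [← hc]
  exact Representation.char_conj ρ x c

/-- The class-sum operator of an irreducible representation is a scalar. -/
theorem class_sum_op_scalar (hρ : ρ.IsIrreducible) (x : G) :
    ∑ k ∈ conjFinset x, ρ k =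
      (((conjFinset x).card : ℂ) * ρ.character x / n) •
        (LinearMap.id : (Fin n → ℂ) →ₗ[ℂ] (Fin n → ℂ)) := by
  have hn : 0 < n := pos_of_irreducible ρ hρ
  have hn' : (n : ℂ) ≠ 0 := by exact_mod_cast hn.ne'
  obtain ⟨c, hc⟩ := schur_scalar ρ hρ (∑ k ∈ conjFinset x, ρ k) (by
    intro g
    rw [← Module.End.mul_eq_comp, ← Module.End.mul_eq_comp, Finset.sum_mul, Finset.mul_sum]
    symm
    apply Finset.sum_equiv (MulAut.conj g).toEquiv
    · intro k
      simp only [MulEquiv.toEquiv_eq_coe, EquivLike.coe_coe, MulAut.conj_apply]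
      exact conj_mem_conjFinset g
    · intro k _
      simp only [MulEquiv.toEquiv_eq_coe, EquivLike.coe_coe, MulAut.conj_apply]
      rw [← map_mul, ← map_mul]
      congr 1
      group)
  rw [hc]
  congr 1
  have htr := congrArg (LinearMap.trace ℂ (Fin n → ℂ)) hc
  rw [map_sum, map_smul, LinearMap.trace_id, Module.finrank_fin_fun] at htr
  have h2 : ∀ k ∈ conjFinset x, LinearMap.trace ℂ (Fin n → ℂ) (ρ k) = ρ.character x := by
    intro k hk
    exact character_of_mem_conjFinset ρ hk
  rw [Finset.sum_congr rfl h2, Finset.sum_const, smul_eq_mul, nsmul_eq_mul] at htr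
  field_simp
  rw [htr]

/-- The central character value `|K| χ(x) / χ(1)` is an algebraic integer. -/
theorem class_sum_isIntegral (hρ : ρ.IsIrreducible) (x : G) :
    IsIntegral ℤ (((conjFinset x).card : ℂ) * ρ.character x / n) := by
  have hn : 0 < n := pos_of_irreducible ρ hρ
  set c : ℂ := ((conjFinset x).card : ℂ) * ρ.character x / n with hc
  let X : MonoidAlgebra ℤ G := ∑ k ∈ conjFinset x, MonoidAlgebra.of ℤ G k
  have hX : IsIntegral ℤ X := IsIntegral.of_finite ℤ X
  let φ : MonoidAlgebra ℤ G →ₐ[ℤ] Module.End ℂ (Fin n → ℂ) :=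
    MonoidAlgebra.lift ℤ (Module.End ℂ (Fin n → ℂ)) G ρ
  have hφ : φ X = ∑ k ∈ conjFinset x, ρ k := by
    simp only [X, map_sum]
    apply Finset.sum_congr rfl
    intro k _
    exact MonoidAlgebra.lift_of ρ k
  have h1 : IsIntegral ℤ (φ X) := hX.map φ
  rw [hφ, class_sum_op_scalar ρ hρ x, ← hc] at h1
  have h2 : c • (LinearMap.id : (Fin n → ℂ) →ₗ[ℂ] (Fin n → ℂ)) =
      algebraMap ℂ (Module.End ℂ (Fin n → ℂ)) c := by
    rw [Algebra.algebraMap_eq_smul_one]
    rfl
  rw [h2] at h1
  refine (isIntegral_algebraMap_iff ?_).mp h1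
  intro a b hab
  apply smul_id_injective hn
  have ha : a • (LinearMap.id : (Fin n → ℂ) →ₗ[ℂ] (Fin n → ℂ)) =
      algebraMap ℂ (Module.End ℂ (Fin n → ℂ)) a := by
    rw [Algebra.algebraMap_eq_smul_one]; rfl
  have hb : b • (LinearMap.id : (Fin n → ℂ) →ₗ[ℂ] (Fin n → ℂ)) =
      algebraMap ℂ (Module.End ℂ (Fin n → ℂ)) b := by
    rw [Algebra.algebraMap_eq_smul_one]; rfl
  rw [ha, hb, hab]

end

/-- The central character of an irreducible character takes algebraic integer values. -/
theorem irr_centralChar_isIntegral {G : Type*} [Group G] [Finite G] (χ : Cfsg.IrrCharacter G)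
    (g : G) : IsIntegral ℤ (Cfsg.centralChar (χ : G → ℂ) g) := by
  have := Fintype.ofFinite G
  obtain ⟨n, ρ, hρ, hχ⟩ := χ.2
  have h := class_sum_isIntegral ρ hρ g
  unfold Cfsg.centralChar
  rw [← hχ, Representation.char_one, Module.finrank_fin_fun, ← card_conjFinset]
  exact h

/-- The value of the central character as an element of `Cfsg.AlgInt`. -/
noncomputable def centralCharInt {G : Type*} [Group G] [Finite G] (χ : Cfsg.IrrCharacter G)
    (g : G) : Cfsg.AlgInt := ⟨Cfsg.centralChar (χ : G → ℂ) g, irr_centralChar_isIntegral χ g⟩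

theorem centralChar_mul_degree {G : Type*} [Group G] [Finite G] (χ : Cfsg.IrrCharacter G) (g : G) :
    (χ : G → ℂ) 1 * Cfsg.centralChar (χ : G → ℂ) g =
      ((Subgroup.centralizer ({g} : Set G)).index : ℂ) * (χ : G → ℂ) g := by
  have h1 : (χ : G → ℂ) 1 ≠ 0 := Cfsg.Agent.helper24.irr_apply_one_ne_zero χ.2
  unfold Cfsg.centralChar
  field_simp

/-- `|G| = χ(1) · Σ_{classes} ω_χ(K) conj χ(g_K)`, with the sum an algebraic integer. -/
theorem irr_card_eq_degree_mul {G : Type*} [Group G] [Finite G] (χ : Cfsg.IrrCharacter G) :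
    ∃ T : ℂ, IsIntegral ℤ T ∧ (Nat.card G : ℂ) = (χ : G → ℂ) 1 * T := by
  have := Fintype.ofFinite G
  have hcf : ∀ x k : G, IsConj x k → (χ : G → ℂ) k = (χ : G → ℂ) x := by
    intro x k h
    exact (Cfsg.Agent.helper24.isClassFunction_iff_isConj.mp
      (Cfsg.Agent.helper24.char_isClassFunction (Cfsg.Agent.helper24.irr_isCharacter χ.2)) x k h).symm
  have hinner := Cfsg.Agent.helper24.irr_classInner_self χ.2
  unfold Cfsg.classInner at hinner
  have hG : (Nat.card G : ℂ) ≠ 0 := by exact_mod_cast Nat.card_pos.ne'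
  have hsum : ∑ g : G, (χ : G → ℂ) g * conj ((χ : G → ℂ) g) = (Nat.card G : ℂ) := by
    field_simp at hinner
    exact hinner
  -- group by conjugacy classes
  have hfib := Finset.sum_fiberwise (s := (Finset.univ : Finset G))
    (g := (ConjClasses.mk : G → ConjClasses G))
    (f := fun g => (χ : G → ℂ) g * conj ((χ : G → ℂ) g))
  refine ⟨∑ C : ConjClasses G, Cfsg.centralChar (χ : G → ℂ) (Quotient.out C) *
    conj ((χ : G → ℂ) (Quotient.out C)), ?_, ?_⟩
  · apply IsIntegral.sum
    intro C _
    apply IsIntegral.mul (irr_centralChar_isIntegral χ _)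
    have h2 := irr_isIntegral χ (Quotient.out C)
    have h3 : conj ((χ : G → ℂ) (Quotient.out C)) = (χ : G → ℂ) (Quotient.out C)⁻¹ := by
      rw [Cfsg.Agent.helper24.char_inv (Cfsg.Agent.helper24.irr_isCharacter χ.2)]
    rw [h3]
    exact irr_isIntegral χ _
  · rw [← hsum, ← hfib, Finset.mul_sum]
    apply Finset.sum_congr rfl
    intro C _
    obtain ⟨x, hx⟩ : ∃ x : G, x = Quotient.out C := ⟨_, rfl⟩
    rw [← hx]
    have hC : ConjClasses.mk x = C := by rw [hx]; exact Quotient.out_eq C
    have hfilter : Finset.univ.filter (fun g : G => ConjClasses.mk g = C) =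
        conjFinset x := by
      ext g
      simp only [Finset.mem_filter, Finset.mem_univ, true_and, mem_conjFinset]
      rw [← ConjClasses.mk_eq_mk_iff_isConj, hC]
      exact eq_comm
    rw [hfilter]
    have h4 : ∀ g ∈ conjFinset x, (χ : G → ℂ) g * conj ((χ : G → ℂ) g) =
        (χ : G → ℂ) x * conj ((χ : G → ℂ) x) := by
      intro g hg
      rw [hcf _ g (mem_conjFinset.mp hg)]
    rw [Finset.sum_congr rfl h4, Finset.sum_const, nsmul_eq_mul]
    have h5 := centralChar_mul_degree χ x
    rw [← card_conjFinset] at h5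
    rw [← mul_assoc ((χ : G → ℂ) 1), h5]
    ring

/-- The degree of an irreducible character divides the group order. -/
theorem irr_degree_dvd_card {G : Type*} [Group G] [Finite G] (χ : Cfsg.IrrCharacter G) :
    Cfsg.charDegree (χ : G → ℂ) ∣ Nat.card G := by
  obtain ⟨T, hT, h⟩ := irr_card_eq_degree_mul χ
  have hd : ((Cfsg.charDegree (χ : G → ℂ) : ℕ) : ℂ) = (χ : G → ℂ) 1 :=
    Cfsg.Agent.helper24.char_charDegree_cast (Cfsg.Agent.helper24.irr_isCharacter χ.2)
  have hpos := Cfsg.Agent.helper24.irr_charDegree_pos χ.2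
  have := int_dvd_of_eq_mul_isIntegral (Nat.card G : ℤ) (Cfsg.charDegree (χ : G → ℂ) : ℤ)
    (by exact_mod_cast hpos.ne') T hT (by
      rw [Int.cast_natCast, Int.cast_natCast, hd]
      exact h)
  exact Int.natCast_dvd_natCast.mp this

end Cfsg.Agent.helper23
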