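import Mathlib
import Cfsg.Agent.Lib_helper12_BS8
import Cfsg.Agent.Lib_helper23_Central
import Cfsg.Agent.Lib_helper24_CharCod
import Cfsg.Agent.Lib_helper24_CharValues

set_option autoImplicit false

/-!
Brauer–Suzuki (helper12): the involution lies in the kernel of the exceptional character `χ₁`;
a normal subgroup of even order with non-abelian quotient.
-/

namespace Cfsg.Agent.helper12

open Cfsg
open scoped ComplexConjugate

universe u

section ClassSum

variable {G : Type u} [Group G] [Fintype G]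

theorem bs_class_sum_sq {χ : G → ℂ} (hχ : IsIrrCharacter G χ) (z : G) :
    ∑ x ∈ helper23.conjFinset z, ∑ y ∈ helper23.conjFinset z, χ (x * y) =
      (((helper23.conjFinset z).card : ℂ) * χ z) ^ 2 / χ 1 := by
  obtain ⟨n, ρ, hρ, rfl⟩ := hχ
  have hn : 0 < n := helper23.pos_of_irreducible ρ hρ
  have hn' : (n : ℂ) ≠ 0 := by exact_mod_cast hn.ne'
  have h1 := helper23.class_sum_op_scalar ρ hρ z
  have h3 : (∑ x ∈ helper23.conjFinset z, ρ x) * (∑ y ∈ helper23.conjFinset z, ρ y) =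
      ∑ x ∈ helper23.conjFinset z, ∑ y ∈ helper23.conjFinset z, ρ (x * y) := by
    rw [Finset.sum_mul]
    apply Finset.sum_congr rfl
    intro x _
    rw [Finset.mul_sum]
    apply Finset.sum_congr rfl
    intro y _
    rw [map_mul]
  have h2 : (∑ x ∈ helper23.conjFinset z, ρ x) * (∑ y ∈ helper23.conjFinset z, ρ y) =
      ((((helper23.conjFinset z).card : ℂ) * ρ.character z / n) ^ 2) •
        (LinearMap.id : (Fin n → ℂ) →ₗ[ℂ] (Fin n → ℂ)) := by
    rw [h1]
    ext v
    simp [pow_two, mul_smul]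
  have h4 := congrArg (LinearMap.trace ℂ (Fin n → ℂ)) (h3.symm.trans h2)
  rw [map_sum] at h4
  simp_rw [map_sum] at h4
  rw [map_smul, LinearMap.trace_id, Module.finrank_fin_fun] at h4
  have hone : ρ.character 1 = n := by simp
  have h5 : ∑ x ∈ helper23.conjFinset z, ∑ y ∈ helper23.conjFinset z, ρ.character (x * y) =
      ∑ x ∈ helper23.conjFinset z, ∑ y ∈ helper23.conjFinset z,
        LinearMap.trace ℂ (Fin n → ℂ) (ρ (x * y)) := rfl
  rw [h5, h4, hone, smul_eq_mul]
  field_simp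

end ClassSum

section Kernel

variable {G : Type u} [Group G] [Fintype G] {P : Sylow 2 G} {c t : G} {n : ℕ}

theorem qd_z_mem_ker (hq : QuatData P c t n) {χ₁ χ₂ : G → ℂ} (h1 : IsIrrCharacter G χ₁)
    (h2 : IsIrrCharacter G χ₂) (hdeg : χ₁ 1 = χ₂ 1 + 1)
    (hval : ∀ g : G, ¬ 4 ∣ orderOf g → χ₁ g - χ₂ g = 1) : χ₁ (qdZ c n) = χ₁ 1 := by
  have hoz := qd_order_z hq
  have hK : ∀ x ∈ helper23.conjFinset (qdZ c n), orderOf x = 2 := by
    intro x hx
    obtain ⟨g, hg⟩ := isConj_iff.mp (helper23.mem_conjFinset.mp hx)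
    rw [← hg, bs_orderOf_conj, hoz]
  have hsum : ∑ x ∈ helper23.conjFinset (qdZ c n), ∑ y ∈ helper23.conjFinset (qdZ c n),
      (χ₁ (x * y) - χ₂ (x * y)) = ((helper23.conjFinset (qdZ c n)).card : ℂ) ^ 2 := by
    have : ∀ x ∈ helper23.conjFinset (qdZ c n), ∑ y ∈ helper23.conjFinset (qdZ c n),
        (χ₁ (x * y) - χ₂ (x * y)) = ((helper23.conjFinset (qdZ c n)).card : ℂ) := by
      intro x hx
      rw [Finset.sum_congr rfl (fun y hy => hval (x * y) (by
        have hodd := qd_prod_invol_odd hq (hK x hx) (hK y hy)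
        intro h4
        have : 2 ∣ orderOf (x * y) := (by norm_num : 2 ∣ 4).trans h4
        exact (Nat.not_even_iff_odd.mpr hodd) (even_iff_two_dvd.mpr this)))]
      simp
    rw [Finset.sum_congr rfl this]
    simp [pow_two]
  simp_rw [Finset.sum_sub_distrib] at hsum
  rw [bs_class_sum_sq h1, bs_class_sum_sq h2] at hsum
  have hzK : qdZ c n ∈ helper23.conjFinset (qdZ c n) := helper23.mem_conjFinset.mpr (IsConj.refl _)
  have hKne : ((helper23.conjFinset (qdZ c n)).card : ℂ) ≠ 0 := by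
    have : 0 < (helper23.conjFinset (qdZ c n)).card := Finset.card_pos.mpr ⟨_, hzK⟩
    exact_mod_cast this.ne'
  have hd2 := helper24.char_charDegree_cast (helper24.irr_isCharacter h2)
  have hp2 := helper24.irr_charDegree_pos h2
  have ha : χ₂ 1 ≠ 0 := by
    rw [← hd2]
    exact_mod_cast hp2.ne'
  have ha1 : χ₂ 1 + 1 ≠ 0 := by
    rw [← hd2]
    have : ((charDegree χ₂ + 1 : ℕ) : ℂ) ≠ 0 :=
      Nat.cast_ne_zero.mpr (Nat.succ_ne_zero (charDegree χ₂))
    simpa using this
  have hz1 : χ₁ (qdZ c n) = χ₂ (qdZ c n) + 1 := by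
    have := hval (qdZ c n) (by rw [hoz]; norm_num)
    linear_combination this
  rw [hz1, hdeg, div_sub_div _ _ ha1 ha, div_eq_iff (mul_ne_zero ha1 ha)] at hsum
  have hfin : ((helper23.conjFinset (qdZ c n)).card : ℂ) ^ 2 * (χ₂ 1 - χ₂ (qdZ c n)) ^ 2 = 0 := by
    linear_combination -hsum
  rcases mul_eq_zero.mp hfin with h | h
  · exact absurd ((pow_eq_zero_iff (two_ne_zero)).mp h) hKne
  · have h5 : χ₂ 1 - χ₂ (qdZ c n) = 0 := (pow_eq_zero_iff (two_ne_zero)).mp h
    rw [hz1, hdeg]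
    linear_combination -h5

theorem qd_pow_not_mem_ker {χ₁ χ₂ : G → ℂ} (h2 : IsIrrCharacter G χ₂)
    (hdeg : χ₁ 1 = χ₂ 1 + 1) {x : G}
    (h7 : 1 - χ₁ x + χ₂ x = 2 ∨ 1 - χ₁ x + χ₂ x = 4) : χ₁ x ≠ χ₁ 1 := by
  intro hk
  have hnorm := helper24.char_norm_le (helper24.irr_isCharacter h2) x
  have hd2 := helper24.char_charDegree_cast (helper24.irr_isCharacter h2)
  rw [← hd2, Complex.norm_natCast] at hnorm
  rcases h7 with h | h
  · have hx : χ₂ x = ((charDegree χ₂ + 2 : ℕ) : ℂ) := by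
      push_cast
      rw [hd2]
      linear_combination h + hk + hdeg
    rw [hx, Complex.norm_natCast] at hnorm
    have : ((charDegree χ₂ + 2 : ℕ) : ℝ) ≤ (charDegree χ₂ : ℝ) := hnorm
    have : charDegree χ₂ + 2 ≤ charDegree χ₂ := by exact_mod_cast this
    omega
  · have hx : χ₂ x = ((charDegree χ₂ + 4 : ℕ) : ℂ) := by
      push_cast
      rw [hd2]
      linear_combination h + hk + hdeg
    rw [hx, Complex.norm_natCast] at hnorm
    have : ((charDegree χ₂ + 4 : ℕ) : ℝ) ≤ (charDegree χ₂ : ℝ) := hnorm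
    have : charDegree χ₂ + 4 ≤ charDegree χ₂ := by exact_mod_cast this
    omega

end Kernel

/-- S0845 -/
theorem bs_normal_even {G : Type u} [Group G] [Finite G] (S : Sylow 2 G) (n : ℕ)
    (e : (S : Subgroup G) ≃* QuaternionGroup (2 ^ (n + 2))) :
    ∃ M : Subgroup G, M.Normal ∧ Even (Nat.card M) ∧ ¬ commutator G ≤ M := by
  classical
  haveI : Fintype G := Fintype.ofFinite G
  obtain ⟨c, t, hq⟩ := quatData_of_equiv S n e
  obtain ⟨χ₁, χ₂, h1, h2, h3, h4, h5, h6, h7⟩ := qd_package hq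
  have hz := qd_z_mem_ker hq h1 h2 h5 h6
  refine ⟨helper24.charKer (helper24.irr_isCharacter h1), inferInstance, ?_, ?_⟩
  · have hzM : qdZ c n ∈ helper24.charKer (helper24.irr_isCharacter h1) :=
      (helper24.mem_charKer _ _).mpr hz
    have h8 := orderOf_dvd_natCard
      (⟨qdZ c n, hzM⟩ : helper24.charKer (helper24.irr_isCharacter h1))
    rw [← Subgroup.orderOf_coe] at h8
    simp only at h8
    rw [qd_order_z hq] at h8
    exact even_iff_two_dvd.mpr h8
  · intro hle
    have h9 : χ₁ 1 = 1 := helper24.degree_one_of_commutator_le_ker ⟨χ₁, h1⟩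
      (fun g hg => (helper24.mem_charKer _ g).mp (hle hg))
    have hd2 := helper24.char_charDegree_cast (helper24.irr_isCharacter h2)
    have hp2 := helper24.irr_charDegree_pos h2
    rw [h5, ← hd2] at h9
    have : ((charDegree χ₂ + 1 : ℕ) : ℂ) = ((1 : ℕ) : ℂ) := by
      push_cast
      exact h9
    have := Nat.cast_injective this
    omega

end Cfsg.Agent.helper12
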