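import Mathlib
import Cfsg.Agent.Lib_helper12_BS9

set_option autoImplicit false

/-!
Brauer–Suzuki (helper12): structure of a normal subgroup `M` containing the involution `z` but no
`c^i` with `4 ∤ i`: cyclic Sylow 2-subgroups, normal 2-complement.
-/

namespace Cfsg.Agent.helper12

open Cfsg

universe u

section QuatKer

variable {G : Type u} [Group G] [Finite G] {P : Sylow 2 G} {c t : G} {n : ℕ}

/-- a normal subgroup containing `z` and no `c^i`, `4 ∤ i` -/
structure QuatKer (c : G) (n : ℕ) (M : Subgroup G) : Prop where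
  normal : M.Normal
  z_mem : qdZ c n ∈ M
  pow_not_mem : ∀ i : ℕ, ¬ 4 ∣ i → c ^ i ∉ M

omit [Finite G] in
theorem qd_conj_c_of_coset (hq : QuatData P c t n) {x : G} (h : x * t⁻¹ ∈ Subgroup.zpowers c) :
    x * c * x⁻¹ = c⁻¹ := by
  obtain ⟨y, hy⟩ : ∃ y, y = x * t⁻¹ := ⟨_, rfl⟩
  have hx' : x = y * t := by rw [hy, inv_mul_cancel_right]
  rw [← hy] at h
  have hyc : Commute y c := by
    obtain ⟨i, hi⟩ := Subgroup.mem_zpowers_iff.mp h
    rw [← hi]
    exact (Commute.refl c).zpow_left i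
  rw [hx', mul_inv_rev]
  have : y * t * c * (t⁻¹ * y⁻¹) = y * (t * c * t⁻¹) * y⁻¹ := by group
  rw [this, hq.conj, hyc.inv_right.eq, mul_assoc, mul_inv_cancel, mul_one]

omit [Finite G] in
theorem qk_inf_le (hq : QuatData P c t n) {M : Subgroup G} (hM : QuatKer c n M) {x : G}
    (hxM : x ∈ M) (hxP : x ∈ P) : x ∈ Subgroup.zpowers c := by
  rcases hq.cover x hxP with h | h
  · exact h
  · exfalso
    have h1 := qd_conj_c_of_coset hq h
    haveI := hM.normal
    have h2 : c * x⁻¹ * c⁻¹ ∈ M := hM.normal.conj_mem _ (M.inv_mem hxM) c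
    have h3 : x * (c * x⁻¹ * c⁻¹) ∈ M := M.mul_mem hxM h2
    have h4 : x * (c * x⁻¹ * c⁻¹) = c⁻¹ * c⁻¹ := by
      have : x * (c * x⁻¹ * c⁻¹) = (x * c * x⁻¹) * c⁻¹ := by group
      rw [this, h1]
    rw [h4] at h3
    have h5 : c ^ 2 ∈ M := by
      have := M.inv_mem h3
      rw [mul_inv_rev, inv_inv] at this
      rw [pow_two]
      exact this
    exact hM.pow_not_mem 2 (by norm_num) h5

theorem bs_isCyclic_of_two {H : Type*} [Group H] (w : H) (h : ∀ q : H, q = 1 ∨ q = w) :
    IsCyclic H := by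
  refine ⟨⟨w, fun q => ?_⟩⟩
  rcases h q with rfl | rfl
  · exact ⟨0, by simp⟩
  · exact ⟨1, by simp⟩

/-- structure of `M` -/
theorem qk_structure (hq : QuatData P c t n) {M : Subgroup G} (hM : QuatKer c n M) :
    ∃ K' J : Subgroup G, K'.Normal ∧ Odd (Nat.card K') ∧ K' ≤ M ∧
      (∃ k : ℕ, Nat.card M = Nat.card K' * 2 ^ k) ∧
      (∀ u : G, orderOf u = 2 → u ∈ J) ∧ (∀ x ∈ J, x ^ 2 ∈ K') := by
  classical
  haveI := hM.normal
  -- the involution in M
  let zM : M := ⟨qdZ c n, hM.z_mem⟩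
  have hozM : orderOf zM = 2 := by
    rw [← Subgroup.orderOf_coe]; exact qd_order_z hq
  have hzMpg : IsPGroup 2 (Subgroup.zpowers zM) := by
    apply IsPGroup.of_card (n := 1)
    rw [Nat.card_zpowers, hozM, pow_one]
  obtain ⟨S₀, hS₀⟩ := hzMpg.exists_le_sylow
  have hzS : zM ∈ (S₀ : Subgroup M) := hS₀ (Subgroup.mem_zpowers zM)
  -- S₀ embeds into ⟨c⟩
  have hS₀' : IsPGroup 2 ((S₀ : Subgroup M).map M.subtype) := S₀.2.map _
  obtain ⟨g, hg⟩ := bs_pgroup_conj_into_sylow P _ hS₀'
  have hgC : ∀ x : (S₀ : Subgroup M), g * ((x : M) : G) * g⁻¹ ∈ Subgroup.zpowers c := by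
    intro x
    apply qk_inf_le hq hM
    · exact hM.normal.conj_mem _ (x : M).2 g
    · exact hg _ (Subgroup.mem_map_of_mem _ x.2)
  let f : (S₀ : Subgroup M) →* Subgroup.zpowers c :=
    { toFun := fun x => ⟨g * ((x : M) : G) * g⁻¹, hgC x⟩
      map_one' := by ext; simp
      map_mul' := by
        intro a b
        ext
        simp only [Subgroup.coe_mul]
        group }
  have hf : Function.Injective f := by
    intro x y hxy
    have h1 : g * ((x : M) : G) * g⁻¹ = g * ((y : M) : G) * g⁻¹ :=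
      congrArg Subtype.val hxy
    exact Subtype.ext (Subtype.ext (mul_left_cancel (mul_right_cancel h1)))
  have hcyc : IsCyclic (S₀ : Subgroup M) := isCyclic_of_injective f hf
  have h2dvd : 2 ∣ Nat.card M := by
    have := orderOf_dvd_natCard zM
    rwa [hozM] at this
  have hp : (Nat.card M).minFac = 2 := (Nat.minFac_eq_two_iff _).mpr h2dvd
  have hNC := IsCyclic.normalizer_le_centralizer hp (P := S₀) hcyc
  have hcomp := MonoidHom.ker_transferSylow_isComplement' S₀ hNC
  have hodd : ¬ 2 ∣ Nat.card (MonoidHom.transferSylow S₀ hNC).ker :=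
    MonoidHom.not_dvd_card_ker_transferSylow S₀ hNC
  obtain ⟨V, hV⟩ : ∃ V : M →* (S₀ : Subgroup M), V = MonoidHom.transferSylow S₀ hNC := ⟨_, rfl⟩
  rw [← hV] at hcomp hodd
  -- the kernel consists of the elements of odd order
  have hker_odd : ∀ m : M, m ∈ V.ker → Odd (orderOf m) := by
    intro m hm
    have h1 : orderOf (⟨m, hm⟩ : V.ker) ∣ Nat.card V.ker := orderOf_dvd_natCard _
    rw [← Subgroup.orderOf_coe] at h1
    rw [← Nat.not_even_iff_odd, even_iff_two_dvd]
    intro h
    exact hodd (h.trans h1)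
  have hodd_ker : ∀ m : M, Odd (orderOf m) → m ∈ V.ker := by
    intro m hm
    rw [MonoidHom.mem_ker]
    have h1 : orderOf (V m) ∣ orderOf m := orderOf_map_dvd V m
    obtain ⟨k, hk⟩ := (IsPGroup.iff_orderOf.mp S₀.2) (V m)
    have h2 : Nat.Coprime (orderOf m) (2 ^ k) :=
      Nat.Coprime.pow_right k (Nat.coprime_two_right.mpr hm)
    rw [← hk] at h2
    have h3 : orderOf (V m) = 1 := Nat.Coprime.eq_one_of_dvd h2.symm h1
    exact orderOf_eq_one_iff.mp h3
  -- the normal 2-complement, as a subgroup of G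
  have hK'normal : (V.ker.map M.subtype).Normal := by
    constructor
    intro x hx g'
    obtain ⟨m, hm, rfl⟩ := hx
    have hmem : g' * (m : G) * g'⁻¹ ∈ M := hM.normal.conj_mem _ m.2 g'
    refine ⟨⟨_, hmem⟩, ?_, rfl⟩
    apply hodd_ker
    have h1 : orderOf (⟨g' * (m : G) * g'⁻¹, hmem⟩ : M) = orderOf m := by
      rw [← Subgroup.orderOf_coe, ← Subgroup.orderOf_coe]
      exact bs_orderOf_conj g' _
    rw [h1]
    exact hker_odd m hm
  have hK'card : Nat.card (V.ker.map M.subtype) = Nat.card V.ker :=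
    Subgroup.card_map_of_injective M.subtype_injective
  have hK'odd : Odd (Nat.card (V.ker.map M.subtype)) := by
    rw [hK'card, ← Nat.not_even_iff_odd, even_iff_two_dvd]
    exact hodd
  obtain ⟨k, hk⟩ := S₀.2.exists_card_eq
  have hcardM : Nat.card M = Nat.card (V.ker.map M.subtype) * 2 ^ k := by
    rw [hK'card, ← hk]
    exact hcomp.card_mul.symm
  -- the subgroup J
  let zS : (S₀ : Subgroup M) := ⟨zM, hzS⟩
  have hozS : orderOf zS = 2 := by
    rw [← Subgroup.orderOf_coe]; exact hozM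
  have hzS2 : zS ^ 2 = 1 := by
    have := pow_orderOf_eq_one zS
    rwa [hozS] at this
  have hzS1 : zS ≠ 1 := by
    intro h
    rw [h, orderOf_one] at hozS
    omega
  refine ⟨V.ker.map M.subtype, ((Subgroup.zpowers zS).comap V).map M.subtype, hK'normal, hK'odd,
    Subgroup.map_subtype_le _, ⟨k, hcardM⟩, ?_, ?_⟩
  · intro u hu
    obtain ⟨g', hg'⟩ := qd_invol_conj hq hu
    have huM : u ∈ M := by
      have h1 : u = g'⁻¹ * qdZ c n * g'⁻¹⁻¹ := by rw [← hg']; group
      rw [h1]
      exact hM.normal.conj_mem _ hM.z_mem g'⁻¹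
    refine ⟨⟨u, huM⟩, ?_, rfl⟩
    show V ⟨u, huM⟩ ∈ Subgroup.zpowers zS
    have hom : orderOf (⟨u, huM⟩ : M) = 2 := by
      rw [← Subgroup.orderOf_coe]; exact hu
    have hV2 : (V ⟨u, huM⟩) ^ 2 = 1 := by
      have := pow_orderOf_eq_one (⟨u, huM⟩ : M)
      rw [hom] at this
      rw [← map_pow, this, map_one]
    have hV1 : V ⟨u, huM⟩ ≠ 1 := by
      intro h
      have := hker_odd _ (MonoidHom.mem_ker.mpr h)
      rw [hom] at this
      exact absurd this (by decide)
    suffices h : V ⟨u, huM⟩ = zS by rw [h]; exact Subgroup.mem_zpowers zS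
    by_contra hne
    haveI : Fintype (S₀ : Subgroup M) := Fintype.ofFinite _
    have hcard := IsCyclic.card_pow_eq_one_le (α := (S₀ : Subgroup M)) (n := 2) (by norm_num)
    have hsub : ({1, zS, V ⟨u, huM⟩} : Finset (S₀ : Subgroup M)) ⊆
        Finset.univ.filter (fun a : (S₀ : Subgroup M) => a ^ 2 = 1) := by
      intro a ha
      simp only [Finset.mem_insert, Finset.mem_singleton] at ha
      simp only [Finset.mem_filter, Finset.mem_univ, true_and]
      rcases ha with rfl | rfl | rfl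
      · exact one_pow 2
      · exact hzS2
      · exact hV2
    have hc3 : ({1, zS, V ⟨u, huM⟩} : Finset (S₀ : Subgroup M)).card = 3 := by
      rw [Finset.card_insert_of_notMem, Finset.card_insert_of_notMem, Finset.card_singleton]
      · simp only [Finset.mem_singleton]
        exact fun h => hne h.symm
      · simp only [Finset.mem_insert, Finset.mem_singleton, not_or]
        exact ⟨fun h => hzS1 h.symm, fun h => hV1 h.symm⟩
    have := Finset.card_le_card hsub
    rw [hc3] at this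
    omega
  · intro x hx
    obtain ⟨m, hm, rfl⟩ := hx
    have hm' : V m ∈ Subgroup.zpowers zS := hm
    obtain ⟨j, hj⟩ := Subgroup.mem_zpowers_iff.mp hm'
    have h1 : V (m ^ 2) = 1 := by
      rw [map_pow, ← hj, ← zpow_natCast, ← zpow_mul, mul_comm, zpow_mul, zpow_natCast, hzS2,
        one_zpow]
    refine ⟨m ^ 2, MonoidHom.mem_ker.mpr h1, ?_⟩
    simp

end QuatKer

end Cfsg.Agent.helper12
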