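import Mathlib
import Cfsg.Agent.Lib_helper12_BS10

set_option autoImplicit false

/-!
Brauer–Suzuki for generalized quaternion Sylow 2-subgroups of order at least 16 (helper12):
the centre of `G` when `O(G) = 1`, and the Sylow 2-subgroups of the subgroup generated by the
involutions.
-/

namespace Cfsg.Agent.helper12

open Cfsg

universe u

theorem qk_of_package {G : Type u} [Group G] [Fintype G] {P : Sylow 2 G} {c t : G} {n : ℕ}
    (hq : QuatData P c t n) {χ₁ χ₂ : G → ℂ} (h1 : IsIrrCharacter G χ₁)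
    (h2 : IsIrrCharacter G χ₂) (hdeg : χ₁ 1 = χ₂ 1 + 1)
    (hval : ∀ g : G, ¬ 4 ∣ orderOf g → χ₁ g - χ₂ g = 1)
    (h7 : ∀ i : ℕ, ¬ 4 ∣ i → (1 - χ₁ (c ^ i) + χ₂ (c ^ i) = 2 ∨ 1 - χ₁ (c ^ i) + χ₂ (c ^ i) = 4)) :
    QuatKer c n (helper24.charKer (helper24.irr_isCharacter h1)) :=
  ⟨inferInstance, (helper24.mem_charKer _ _).mpr (qd_z_mem_ker hq h1 h2 hdeg hval),
    fun i hi hmem => qd_pow_not_mem_ker h2 hdeg (h7 i hi) ((helper24.mem_charKer _ _).mp hmem)⟩

/-- existence of a `QuatKer` subgroup -/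
theorem bs_exists_quatKer {G : Type u} [Group G] [Finite G] (S : Sylow 2 G) (n : ℕ)
    (e : (S : Subgroup G) ≃* QuaternionGroup (2 ^ (n + 2))) :
    ∃ (c t : G) (M : Subgroup G), QuatData S c t n ∧ QuatKer c n M := by
  classical
  haveI : Fintype G := Fintype.ofFinite G
  obtain ⟨c, t, hq⟩ := quatData_of_equiv S n e
  obtain ⟨χ₁, χ₂, h1, h2, h3, h4, h5, h6, h7⟩ := qd_package hq
  exact ⟨c, t, _, hq, qk_of_package hq h1 h2 h5 h6 h7⟩

/-- S0847 -/
theorem bs_center_card {G : Type u} [Group G] [Finite G] (S : Sylow 2 G) (n : ℕ)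
    (e : (S : Subgroup G) ≃* QuaternionGroup (2 ^ (n + 2)))
    (hO : ∀ N : Subgroup G, N.Normal → Odd (Nat.card N) → N = ⊥) :
    Nat.card (Subgroup.center G) = 2 := by
  classical
  obtain ⟨c, t, M, hq, hM⟩ := bs_exists_quatKer S n e
  obtain ⟨K', J, hK'n, hK'odd, hK'M, ⟨k, hcard⟩, -, -⟩ := qk_structure hq hM
  have hK'bot := hO K' hK'n hK'odd
  rw [hK'bot, Subgroup.card_bot, one_mul] at hcard
  have hMpg : IsPGroup 2 M := IsPGroup.of_card hcard
  obtain ⟨g, hg⟩ := bs_pgroup_conj_into_sylow S M hMpg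
  have hMP : ∀ x ∈ M, x ∈ S := by
    intro x hx
    have h8 : g⁻¹ * x * g⁻¹⁻¹ ∈ M := hM.normal.conj_mem _ hx g⁻¹
    have h9 := hg _ h8
    have : g * (g⁻¹ * x * g⁻¹⁻¹) * g⁻¹ = x := by group
    rwa [this] at h9
  have hzc : qdZ c n ∈ Subgroup.center G := by
    rw [Subgroup.mem_center_iff]
    intro g'
    have h8 : g' * qdZ c n * g'⁻¹ ∈ M := hM.normal.conj_mem _ hM.z_mem g'
    have h9 := qd_invol_unique hq (hMP _ h8) (by rw [bs_orderOf_conj, qd_order_z hq])
    calc g' * qdZ c n = (g' * qdZ c n * g'⁻¹) * g' := by group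
      _ = qdZ c n * g' := by rw [h9]
  have hall : ∀ y ∈ Subgroup.center G, y = 1 ∨ y = qdZ c n := by
    intro y hy
    have hycomm : ∀ g' : G, g' * y = y * g' := fun g' => Subgroup.mem_center_iff.mp hy g'
    have ho : orderOf y ≠ 0 := (orderOf_pos y).ne'
    obtain ⟨a, b, hb, hab⟩ := Nat.exists_eq_two_pow_mul_odd ho
    have hord : orderOf (y ^ (2 ^ a)) = b := by
      rw [orderOf_pow_of_dvd (by positivity) ⟨b, hab⟩, hab, Nat.mul_div_cancel_left _ (by positivity)]
    have hN₀n : (Subgroup.zpowers (y ^ (2 ^ a))).Normal := by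
      constructor
      intro x hx g'
      have h1 : g' * x * g'⁻¹ = x := by
        obtain ⟨j, rfl⟩ := Subgroup.mem_zpowers_iff.mp hx
        have hc : g' * ((y ^ (2 ^ a)) ^ j) = ((y ^ (2 ^ a)) ^ j) * g' := by
          have h2 : Commute g' y := hycomm g'
          exact ((h2.pow_right _).zpow_right _).eq
        rw [hc, mul_assoc, mul_inv_cancel, mul_one]
      rw [h1]
      exact hx
    have hN₀ := hO _ hN₀n (by rw [Nat.card_zpowers, hord]; exact hb)
    have hy1 : y ^ (2 ^ a) = 1 := by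
      have h1 : y ^ (2 ^ a) ∈ Subgroup.zpowers (y ^ (2 ^ a)) := Subgroup.mem_zpowers _
      rw [hN₀] at h1
      exact Subgroup.mem_bot.mp h1
    have hdvd : orderOf y ∣ 2 ^ a := orderOf_dvd_of_pow_eq_one hy1
    obtain ⟨a', -, ha'⟩ := (Nat.dvd_prime_pow Nat.prime_two).mp hdvd
    obtain ⟨g', hg'⟩ := bs_two_elt_conj_into_sylow S y a' ha'
    have hyS : y ∈ S := by
      have h1 : g' * y * g'⁻¹ = y := by rw [hycomm g', mul_assoc, mul_inv_cancel, mul_one]
      rwa [h1] at hg'
    have hy2 := qd_center_sq hq hyS (hycomm c).symm (hycomm t).symm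
    by_cases hy0 : y = 1
    · left; exact hy0
    · right
      exact qd_invol_unique hq hyS (orderOf_eq_prime hy2 hy0)
  rw [Nat.card_eq_two_iff]
  refine ⟨1, ⟨qdZ c n, hzc⟩, ?_, ?_⟩
  · intro h
    have := congrArg Subtype.val h
    exact qd_z_ne_one hq this.symm
  · ext y
    simp only [Set.mem_insert_iff, Set.mem_singleton_iff, Set.mem_univ, iff_true]
    rcases hall y.1 y.2 with h | h
    · left; exact Subtype.ext h
    · right; exact Subtype.ext h

/-- S0846 -/
theorem bs_involution_closure_cyclic {G : Type u} [Group G] [Finite G] (S : Sylow 2 G) (n : ℕ)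
    (e : (S : Subgroup G) ≃* QuaternionGroup (2 ^ (n + 2)))
    (Q : Sylow 2 ↥(Subgroup.closure {g : G | orderOf g = 2})) : IsCyclic Q := by
  classical
  obtain ⟨c, t, M, hq, hM⟩ := bs_exists_quatKer S n e
  obtain ⟨K', J, hK'n, hK'odd, hK'M, -, hJ1, hJ2⟩ := qk_structure hq hM
  have hIJ : Subgroup.closure {g : G | orderOf g = 2} ≤ J :=
    (Subgroup.closure_le J).mpr (fun u hu => hJ1 u hu)
  have hsq : ∀ q : Q, ((q : Subgroup.closure {g : G | orderOf g = 2}) : G) ^ 2 = 1 := by
    intro q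
    obtain ⟨k, hk⟩ := (IsPGroup.iff_orderOf.mp Q.2) q
    have hoq : orderOf ((q : Subgroup.closure {g : G | orderOf g = 2}) : G) = 2 ^ k := by
      rw [Subgroup.orderOf_coe, ← hk]
      exact (Subgroup.orderOf_coe q)
    have hx2 : ((q : Subgroup.closure {g : G | orderOf g = 2}) : G) ^ 2 ∈ K' :=
      hJ2 _ (hIJ (q : Subgroup.closure {g : G | orderOf g = 2}).2)
    have h1 : orderOf (((q : Subgroup.closure {g : G | orderOf g = 2}) : G) ^ 2) ∣ Nat.card K' := by
      have := orderOf_dvd_natCard (⟨_, hx2⟩ : K')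
      rwa [← Subgroup.orderOf_coe] at this
    have h2 : orderOf (((q : Subgroup.closure {g : G | orderOf g = 2}) : G) ^ 2) ∣ 2 ^ k := by
      rw [← hoq]
      exact orderOf_pow_dvd 2
    have h3 : Nat.Coprime (Nat.card K') (2 ^ k) :=
      Nat.Coprime.pow_right k (Nat.coprime_two_right.mpr hK'odd)
    exact orderOf_eq_one_iff.mp (Nat.eq_one_of_dvd_coprimes h3 h1 h2)
  have hQ' : IsPGroup 2 ((Q : Subgroup (Subgroup.closure {g : G | orderOf g = 2})).map
      (Subgroup.closure {g : G | orderOf g = 2}).subtype) := Q.2.map _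
  obtain ⟨g, hg⟩ := bs_pgroup_conj_into_sylow S _ hQ'
  have hall : ∀ q : Q, ((q : Subgroup.closure {g : G | orderOf g = 2}) : G) = 1 ∨
      ((q : Subgroup.closure {g : G | orderOf g = 2}) : G) = g⁻¹ * qdZ c n * g := by
    intro q
    have hmem := hg _ (Subgroup.mem_map_of_mem
      (Subgroup.closure {g : G | orderOf g = 2}).subtype q.2)
    by_cases h1 : ((q : Subgroup.closure {g : G | orderOf g = 2}) : G) = 1
    · left; exact h1
    · right
      have ho : orderOf ((q : Subgroup.closure {g : G | orderOf g = 2}) : G) = 2 :=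
        orderOf_eq_prime (hsq q) h1
      have h5 := qd_invol_unique hq hmem (by
        rw [Subgroup.coe_subtype, bs_orderOf_conj, ho])
      rw [← h5, Subgroup.coe_subtype]
      group
  by_cases hex : ∃ q₀ : Q,
      ((q₀ : Subgroup.closure {g : G | orderOf g = 2}) : G) = g⁻¹ * qdZ c n * g
  · obtain ⟨q₀, hq₀⟩ := hex
    apply bs_isCyclic_of_two q₀
    intro q
    rcases hall q with h | h
    · left; exact Subtype.ext (Subtype.ext h)
    · right; exact Subtype.ext (Subtype.ext (h.trans hq₀.symm))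
  · push Not at hex
    apply bs_isCyclic_of_two (1 : Q)
    intro q
    rcases hall q with h | h
    · left; exact Subtype.ext (Subtype.ext h)
    · exact absurd h (hex q)

end Cfsg.Agent.helper12
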