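import Mathlib

set_option autoImplicit false

/-!
Brauer–Suzuki for `Q₈` (helper12): the arithmetic rigidity lemma.
-/

namespace Cfsg.Agent.helper12

/-- the quadratic form of the two-minus case -/
def q8E (d₂ d₃ r₂ r₃ : ℤ) : ℤ :=
  d₂ * (d₂ - 1) * r₃ ^ 2 + d₃ * (d₃ - 1) * r₂ ^ 2 - 2 * d₂ * d₃ * r₂ * r₃

theorem q8_mod4_a : ∀ x y : ZMod 4,
    (3 + 2 * x) * ((3 + 2 * x) - 1) * y ^ 2 + (3 + 2 * y) * ((3 + 2 * y) - 1) * x ^ 2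
      - 2 * (3 + 2 * x) * (3 + 2 * y) * x * y = 0 →
    (x = 0 ∨ x = 2) ∧ (y = 0 ∨ y = 2) := by decide

theorem q8_mod4_b : ∀ x y : ZMod 4,
    3 * (3 - 1) * y ^ 2 + 3 * (3 - 1) * x ^ 2 - 2 * 3 * 3 * x * y = 0 →
    (x = 0 ∨ x = 2) ∧ (y = 0 ∨ y = 2) := by decide

theorem q8_even_of_cast {r : ℕ} (h : (r : ZMod 4) = 0 ∨ (r : ZMod 4) = 2) : ∃ s : ℕ, r = 2 * s := by
  rcases h with h | h
  · have h1 := (ZMod.natCast_eq_zero_iff r 4).mp h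
    obtain ⟨k, hk⟩ := h1
    exact ⟨2 * k, by omega⟩
  · have h0 : 2 ≤ r ∨ r < 2 := le_or_gt 2 r
    rcases h0 with h0 | h0
    · obtain ⟨t, ht⟩ : ∃ t, r = t + 2 := ⟨r - 2, by omega⟩
      have h1 : ((t : ℕ) : ZMod 4) = 0 := by
        have : ((t + 2 : ℕ) : ZMod 4) = 2 := by rw [← ht]; exact h
        push_cast at this
        exact add_eq_right.mp this
      obtain ⟨k, hk⟩ := (ZMod.natCast_eq_zero_iff t 4).mp h1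
      exact ⟨2 * k + 1, by omega⟩
    · interval_cases r
      · exact ⟨0, rfl⟩
      · exfalso; revert h; decide

theorem q8_two_mul_even (s : ℕ) : (2 : ZMod 4) * ((2 * s : ℕ) : ZMod 4) = 0 := by
  push_cast
  have : (2 : ZMod 4) * (2 * (s : ZMod 4)) = 4 * (s : ZMod 4) := by ring
  rw [this]
  have h4 : (4 : ZMod 4) = 0 := by decide
  rw [h4, zero_mul]

theorem q8_descent (d₂ d₃ : ℤ) (h2 : (d₂ : ZMod 4) = 3) (h3 : (d₃ : ZMod 4) = 3) :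
    ∀ n r₂ r₃ : ℕ, r₂ + r₃ ≤ n → q8E d₂ d₃ r₂ r₃ = 0 → r₂ = 0 ∧ r₃ = 0 := by
  intro n
  induction n with
  | zero =>
    intro r₂ r₃ h _
    omega
  | succ n ih =>
    intro r₂ r₃ h hE
    have hc := congrArg (Int.cast : ℤ → ZMod 4) hE
    unfold q8E at hc
    push_cast at hc
    rw [h2, h3] at hc
    obtain ⟨hx, hy⟩ := q8_mod4_b _ _ hc
    obtain ⟨s₂, hs₂⟩ := q8_even_of_cast hx
    obtain ⟨s₃, hs₃⟩ := q8_even_of_cast hy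
    have hE' : q8E d₂ d₃ s₂ s₃ = 0 := by
      have : q8E d₂ d₃ r₂ r₃ = 4 * q8E d₂ d₃ s₂ s₃ := by
        unfold q8E
        rw [hs₂, hs₃]
        push_cast
        ring
      rw [this] at hE
      omega
    have := ih s₂ s₃ (by omega) hE'
    omega

theorem q8_L (d₂ d₃ : ℤ) (r₂ r₃ : ℕ) (h2 : (d₂ : ZMod 4) = 3 + 2 * (r₂ : ZMod 4))
    (h3 : (d₃ : ZMod 4) = 3 + 2 * (r₃ : ZMod 4)) (hE : q8E d₂ d₃ r₂ r₃ = 0) :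
    r₂ = 0 ∧ r₃ = 0 := by
  have hc := congrArg (Int.cast : ℤ → ZMod 4) hE
  unfold q8E at hc
  push_cast at hc
  rw [h2, h3] at hc
  obtain ⟨hx, hy⟩ := q8_mod4_a _ _ hc
  obtain ⟨s₂, hs₂⟩ := q8_even_of_cast hx
  obtain ⟨s₃, hs₃⟩ := q8_even_of_cast hy
  have h2' : (d₂ : ZMod 4) = 3 := by
    rw [h2, hs₂, q8_two_mul_even, add_zero]
  have h3' : (d₃ : ZMod 4) = 3 := by
    rw [h3, hs₃, q8_two_mul_even, add_zero]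
  exact q8_descent d₂ d₃ h2' h3' (r₂ + r₃) r₂ r₃ le_rfl hE

/-- one minus sign -/
theorem q8_arith_one_minus (d₁ d₂ d₃ a₁ a₂ a₃ : ℤ) (hd₁ : 0 < d₁) (hd₂ : 0 < d₂)
    (H1 : 1 + d₁ + d₂ - d₃ = 0) (H2 : 1 + a₁ + a₂ - a₃ = 0)
    (H3 : d₁ * d₂ * d₃ + a₁ ^ 2 * d₂ * d₃ + a₂ ^ 2 * d₁ * d₃ - a₃ ^ 2 * d₁ * d₂ = 0) :
    a₁ = d₁ ∧ a₂ = d₂ ∧ a₃ = d₃ := by
  have hd₃ : d₃ = 1 + d₁ + d₂ := by linarith
  have ha₃ : a₃ = 1 + a₁ + a₂ := by linarith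
  subst hd₃ ha₃
  have key : d₂ * (d₁ - a₁) ^ 2 + d₁ * (d₂ - a₂) ^ 2 + (a₁ * d₂ - a₂ * d₁) ^ 2 = 0 := by
    linear_combination H3
  have h1 : 0 ≤ d₂ * (d₁ - a₁) ^ 2 := by positivity
  have h2 : 0 ≤ d₁ * (d₂ - a₂) ^ 2 := by positivity
  have h3 : 0 ≤ (a₁ * d₂ - a₂ * d₁) ^ 2 := by positivity
  have e1 : d₂ * (d₁ - a₁) ^ 2 = 0 := by linarith
  have e2 : d₁ * (d₂ - a₂) ^ 2 = 0 := by linarith
  have f1 : a₁ = d₁ := by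
    rcases mul_eq_zero.mp e1 with h | h
    · omega
    · have := pow_eq_zero_iff (two_ne_zero) |>.mp h
      linarith
  have f2 : a₂ = d₂ := by
    rcases mul_eq_zero.mp e2 with h | h
    · omega
    · have := pow_eq_zero_iff (two_ne_zero) |>.mp h
      linarith
  refine ⟨f1, f2, ?_⟩
  rw [f1, f2]

/-- two minus signs -/
theorem q8_arith_two_minus (d₁ d₂ d₃ a₁ a₂ a₃ : ℤ)
    (hle₂ : a₂ ≤ d₂) (hle₃ : a₃ ≤ d₃)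
    (H1 : 1 + d₁ - d₂ - d₃ = 0) (H2 : 1 + a₁ - a₂ - a₃ = 0)
    (H3 : d₁ * d₂ * d₃ + a₁ ^ 2 * d₂ * d₃ - a₂ ^ 2 * d₁ * d₃ - a₃ ^ 2 * d₁ * d₂ = 0)
    (C8₂ : (8 : ℤ) ∣ d₂ + a₂ + 2) (C8₃ : (8 : ℤ) ∣ d₃ + a₃ + 2)
    (C4₂ : (4 : ℤ) ∣ d₂ - a₂) (C4₃ : (4 : ℤ) ∣ d₃ - a₃) :
    a₁ = d₁ ∧ a₂ = d₂ ∧ a₃ = d₃ := by
  obtain ⟨k₂, hk₂⟩ := C4₂
  obtain ⟨k₃, hk₃⟩ := C4₃
  have hk₂0 : 0 ≤ k₂ := by omega
  have hk₃0 : 0 ≤ k₃ := by omega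
  obtain ⟨r₂, hr₂⟩ := Int.eq_ofNat_of_zero_le hk₂0
  obtain ⟨r₃, hr₃⟩ := Int.eq_ofNat_of_zero_le hk₃0
  have ha₂ : a₂ = d₂ - 4 * r₂ := by rw [← hr₂]; linarith
  have ha₃ : a₃ = d₃ - 4 * r₃ := by rw [← hr₃]; linarith
  have hd₁ : d₁ = d₂ + d₃ - 1 := by linarith
  have ha₁ : a₁ = d₂ + d₃ - 1 - 4 * (r₂ + r₃) := by linarith
  have hE : q8E d₂ d₃ r₂ r₃ = 0 := by
    have h16 : -16 * q8E d₂ d₃ r₂ r₃ = 0 := by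
      unfold q8E
      rw [ha₁, ha₂, ha₃, hd₁] at H3
      linear_combination H3
    omega
  have hm₂ : (d₂ : ZMod 4) = 3 + 2 * (r₂ : ZMod 4) := by
    obtain ⟨j, hj⟩ := C8₂
    have h1 : d₂ = 4 * j + 2 * r₂ - 1 := by rw [ha₂] at hj; linarith
    rw [h1]
    push_cast
    have h4 : (4 : ZMod 4) = 0 := by decide
    rw [h4, zero_mul, zero_add]
    have h31 : (3 : ZMod 4) = -1 := by decide
    rw [h31]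
    ring
  have hm₃ : (d₃ : ZMod 4) = 3 + 2 * (r₃ : ZMod 4) := by
    obtain ⟨j, hj⟩ := C8₃
    have h1 : d₃ = 4 * j + 2 * r₃ - 1 := by rw [ha₃] at hj; linarith
    rw [h1]
    push_cast
    have h4 : (4 : ZMod 4) = 0 := by decide
    rw [h4, zero_mul, zero_add]
    have h31 : (3 : ZMod 4) = -1 := by decide
    rw [h31]
    ring
  obtain ⟨h20, h30⟩ := q8_L d₂ d₃ r₂ r₃ hm₂ hm₃ hE
  subst h20 h30
  refine ⟨?_, ?_, ?_⟩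
  · rw [ha₁, hd₁]; simp
  · rw [ha₂]; simp
  · rw [ha₃]; simp

/-- the arithmetic rigidity lemma -/
theorem q8_arith (e₁ e₂ e₃ d₁ d₂ d₃ a₁ a₂ a₃ : ℤ)
    (he₁ : e₁ = 1 ∨ e₁ = -1) (he₂ : e₂ = 1 ∨ e₂ = -1) (he₃ : e₃ = 1 ∨ e₃ = -1)
    (hd₁ : 0 < d₁) (hd₂ : 0 < d₂) (hd₃ : 0 < d₃)
    (hle₁ : a₁ ≤ d₁) (hle₂ : a₂ ≤ d₂) (hle₃ : a₃ ≤ d₃)
    (H1 : 1 + e₁ * d₁ + e₂ * d₂ + e₃ * d₃ = 0) (H2 : 1 + e₁ * a₁ + e₂ * a₂ + e₃ * a₃ = 0)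
    (H3 : d₁ * d₂ * d₃ + e₁ * a₁ ^ 2 * d₂ * d₃ + e₂ * a₂ ^ 2 * d₁ * d₃
      + e₃ * a₃ ^ 2 * d₁ * d₂ = 0)
    (C8₁ : (8 : ℤ) ∣ d₁ + a₁ - 2 * e₁) (C8₂ : (8 : ℤ) ∣ d₂ + a₂ - 2 * e₂)
    (C8₃ : (8 : ℤ) ∣ d₃ + a₃ - 2 * e₃)
    (C4₁ : (4 : ℤ) ∣ d₁ - a₁) (C4₂ : (4 : ℤ) ∣ d₂ - a₂) (C4₃ : (4 : ℤ) ∣ d₃ - a₃) :
    a₁ = d₁ ∧ a₂ = d₂ ∧ a₃ = d₃ := by
  rcases he₁ with rfl | rfl <;> rcases he₂ with rfl | rfl <;> rcases he₃ with rfl | rfl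
  · exfalso; linarith
  · exact q8_arith_one_minus d₁ d₂ d₃ a₁ a₂ a₃ hd₁ hd₂ (by linarith) (by linarith)
      (by linear_combination H3)
  · obtain ⟨h1, h3, h2⟩ := q8_arith_one_minus d₁ d₃ d₂ a₁ a₃ a₂ hd₁ hd₃ (by linarith)
      (by linarith) (by linear_combination H3)
    exact ⟨h1, h2, h3⟩
  · exact q8_arith_two_minus d₁ d₂ d₃ a₁ a₂ a₃ hle₂ hle₃ (by linarith) (by linarith)
      (by linear_combination H3) (by simpa using C8₂) (by simpa using C8₃) C4₂ C4₃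
  · obtain ⟨h2, h3, h1⟩ := q8_arith_one_minus d₂ d₃ d₁ a₂ a₃ a₁ hd₂ hd₃ (by linarith)
      (by linarith) (by linear_combination H3)
    exact ⟨h1, h2, h3⟩
  · obtain ⟨h2, h1, h3⟩ := q8_arith_two_minus d₂ d₁ d₃ a₂ a₁ a₃ hle₁ hle₃ (by linarith)
      (by linarith) (by linear_combination H3) (by simpa using C8₁) (by simpa using C8₃) C4₁ C4₃
    exact ⟨h1, h2, h3⟩
  · obtain ⟨h3, h1, h2⟩ := q8_arith_two_minus d₃ d₁ d₂ a₃ a₁ a₂ hle₁ hle₂ (by linarith)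
      (by linarith) (by linear_combination H3) (by simpa using C8₁) (by simpa using C8₂) C4₁ C4₂
    exact ⟨h1, h2, h3⟩
  · exfalso; linarith

end Cfsg.Agent.helper12
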