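import Mathlib

set_option autoImplicit false

/-!
Brauer–Suzuki for `Q₈` (helper12): elementary facts on the quaternion group of order 8, and
their transfer to a subgroup isomorphic to it.
-/

namespace Cfsg.Agent.helper12

open QuaternionGroup

universe u

theorem q8f_invol : ∀ g : QuaternionGroup 2, g ^ 2 = 1 → g = 1 ∨ g = a 2 := by decide

theorem q8f_sq : ∀ g : QuaternionGroup 2, g ^ 2 = 1 ∨ g ^ 2 = a 2 := by decide

theorem q8f_cent : ∀ g h : QuaternionGroup 2, g ^ 2 ≠ 1 → g * h = h * g →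
    h = 1 ∨ h = g ∨ h = g ^ 2 ∨ h = g ^ 3 := by decide

theorem q8f_inv : ∀ g : QuaternionGroup 2, ∃ h : QuaternionGroup 2, h * g * h⁻¹ = g⁻¹ := by decide

theorem q8f_center : ∀ g : QuaternionGroup 2, (∀ h : QuaternionGroup 2, h * g = g * h) →
    g = 1 ∨ g = a 2 := by decide

theorem q8f_z_central : ∀ h : QuaternionGroup 2, h * a 2 = a 2 * h := by decide

theorem q8f_w_sq : (a 1 : QuaternionGroup 2) ^ 2 = a 2 := by decide

theorem q8f_z_ne : (a 2 : QuaternionGroup 2) ≠ 1 := by decide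

theorem q8f_z_sq : (a 2 : QuaternionGroup 2) ^ 2 = 1 := by decide

theorem q8f_univ : (Finset.univ : Finset (QuaternionGroup 2)) =
    {a 0, a 1, a 2, a 3, xa 0, xa 1, xa 2, xa 3} := by decide

theorem q8f_sum {A : Type*} [AddCommMonoid A] (f : QuaternionGroup 2 → A) :
    ∑ q, f q = f (a 0) + (f (a 1) + (f (a 2) + (f (a 3) + (f (xa 0) + (f (xa 1) +
      (f (xa 2) + f (xa 3))))))) := by
  rw [q8f_univ]
  rw [Finset.sum_insert (by decide), Finset.sum_insert (by decide), Finset.sum_insert (by decide),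
    Finset.sum_insert (by decide), Finset.sum_insert (by decide), Finset.sum_insert (by decide),
    Finset.sum_insert (by decide), Finset.sum_singleton]

theorem q8f_sq_ne : (a 1 : QuaternionGroup 2) ^ 2 ≠ 1 ∧ (a 3 : QuaternionGroup 2) ^ 2 ≠ 1 ∧
    (xa 0 : QuaternionGroup 2) ^ 2 ≠ 1 ∧ (xa 1 : QuaternionGroup 2) ^ 2 ≠ 1 ∧
    (xa 2 : QuaternionGroup 2) ^ 2 ≠ 1 ∧ (xa 3 : QuaternionGroup 2) ^ 2 ≠ 1 := by decide

theorem q8f_a0 : (a 0 : QuaternionGroup 2) = 1 := rfl

/-- the data of a quaternion subgroup of order 8 -/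
structure Q8Data {G : Type u} [Group G] (S : Subgroup G) (w z : G) : Prop where
  w_mem : w ∈ S
  w_sq : w ^ 2 = z
  z_ne : z ≠ 1
  z_sq : z ^ 2 = 1
  invol : ∀ x ∈ S, x ^ 2 = 1 → x = 1 ∨ x = z
  sq : ∀ x ∈ S, x ^ 2 = 1 ∨ x ^ 2 = z
  cent : ∀ x ∈ S, ∀ y ∈ S, x ^ 2 ≠ 1 → x * y = y * x → y = 1 ∨ y = x ∨ y = x ^ 2 ∨ y = x ^ 3
  inv_conj : ∀ x ∈ S, ∃ h ∈ S, h * x * h⁻¹ = x⁻¹
  center : ∀ x ∈ S, (∀ h ∈ S, h * x = x * h) → x = 1 ∨ x = z
  z_central : ∀ h ∈ S, h * z = z * h
  sum : ∀ [Fintype S] (f : G → ℂ) (b : ℂ), (∀ x ∈ S, x ^ 2 ≠ 1 → f x = b) →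
    ∑ s : S, f (s : G) = f 1 + f z + 6 * b
  card : Nat.card S = 8

theorem q8Data_of_equiv {G : Type u} [Group G] (S : Subgroup G) (e : S ≃* QuaternionGroup 2) :
    ∃ w z : G, Q8Data S w z := by
  have hval : ∀ x : G, ∀ hx : x ∈ S, ((e.symm (e ⟨x, hx⟩) : S) : G) = x := by
    intro x hx
    rw [e.symm_apply_apply]
  have hsq : ∀ q : QuaternionGroup 2, ((e.symm q : S) : G) ^ 2 = ((e.symm (q ^ 2) : S) : G) := by
    intro q
    rw [map_pow]
    rfl
  have hone : ((e.symm 1 : S) : G) = 1 := by rw [map_one]; rfl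
  have hinj : ∀ q : QuaternionGroup 2, ((e.symm q : S) : G) = 1 → q = 1 := by
    intro q hq
    have : e.symm q = 1 := Subtype.ext hq
    exact (MulEquiv.map_eq_one_iff e.symm).mp this
  have hinj2 : ∀ q r : QuaternionGroup 2, ((e.symm q : S) : G) = ((e.symm r : S) : G) → q = r := by
    intro q r hq
    exact e.symm.injective (Subtype.ext hq)
  refine ⟨((e.symm (a 1) : S) : G), ((e.symm (a 2) : S) : G), ?_⟩
  refine
    { w_mem := (e.symm (a 1)).2
      w_sq := by rw [hsq, q8f_w_sq]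
      z_ne := fun h => q8f_z_ne (hinj _ h)
      z_sq := by rw [hsq, q8f_z_sq, hone]
      invol := ?_
      sq := ?_
      cent := ?_
      inv_conj := ?_
      center := ?_
      z_central := ?_
      sum := ?_
      card := ?_ }
  · intro x hx h2
    have h3 : (e ⟨x, hx⟩) ^ 2 = 1 := by
      rw [← map_pow]
      have : (⟨x, hx⟩ : S) ^ 2 = 1 := Subtype.ext h2
      rw [this, map_one]
    rcases q8f_invol _ h3 with h | h
    · left
      rw [← hval x hx, h, hone]
    · right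
      rw [← hval x hx, h]
  · intro x hx
    rcases q8f_sq (e ⟨x, hx⟩) with h | h
    · left
      rw [← hval x hx, hsq, h, hone]
    · right
      rw [← hval x hx, hsq, h]
  · intro x hx y hy h2 hc
    have h3 : (e ⟨x, hx⟩) ^ 2 ≠ 1 := by
      intro h
      apply h2
      rw [← hval x hx, hsq, h, hone]
    have h4 : e ⟨x, hx⟩ * e ⟨y, hy⟩ = e ⟨y, hy⟩ * e ⟨x, hx⟩ := by
      rw [← map_mul, ← map_mul]
      congr 1
      exact Subtype.ext hc
    have hpow : ∀ k : ℕ, ((e.symm ((e ⟨x, hx⟩) ^ k) : S) : G) = x ^ k := by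
      intro k
      rw [map_pow, e.symm_apply_apply]
      rfl
    rcases q8f_cent _ _ h3 h4 with h | h | h | h
    · left
      rw [← hval y hy, h, hone]
    · right; left
      rw [← hval y hy, h, hval x hx]
    · right; right; left
      rw [← hval y hy, h, hpow]
    · right; right; right
      rw [← hval y hy, h, hpow]
  · intro x hx
    obtain ⟨h, hh⟩ := q8f_inv (e ⟨x, hx⟩)
    refine ⟨((e.symm h : S) : G), (e.symm h).2, ?_⟩
    have h1 : e.symm h * ⟨x, hx⟩ * (e.symm h)⁻¹ = (⟨x, hx⟩ : S)⁻¹ := by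
      apply e.injective
      rw [map_mul, map_mul, map_inv, map_inv, e.apply_symm_apply]
      exact hh
    exact congrArg Subtype.val h1
  · intro x hx hc
    have h1 : ∀ h : QuaternionGroup 2, h * e ⟨x, hx⟩ = e ⟨x, hx⟩ * h := by
      intro h
      have h2 := hc ((e.symm h : S) : G) (e.symm h).2
      have h3 : e.symm h * ⟨x, hx⟩ = ⟨x, hx⟩ * e.symm h := Subtype.ext h2
      have h4 := congrArg e h3
      rwa [map_mul, map_mul, e.apply_symm_apply] at h4
    rcases q8f_center _ h1 with h | h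
    · left
      rw [← hval x hx, h, hone]
    · right
      rw [← hval x hx, h]
  · intro h hh
    have h1 := q8f_z_central (e ⟨h, hh⟩)
    have h2 : (⟨h, hh⟩ : S) * e.symm (a 2) = e.symm (a 2) * ⟨h, hh⟩ := by
      apply e.injective
      rw [map_mul, map_mul, e.apply_symm_apply]
      exact h1
    exact congrArg Subtype.val h2
  · intro _ f b hb
    have h1 : ∑ s : S, f (s : G) = ∑ q : QuaternionGroup 2, f ((e.symm q : S) : G) :=
      (Equiv.sum_comp e.symm.toEquiv (fun s : S => f (s : G))).symm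
    rw [h1, q8f_sum]
    have hb' : ∀ q : QuaternionGroup 2, q ^ 2 ≠ 1 → f ((e.symm q : S) : G) = b := by
      intro q hq
      apply hb _ (e.symm q).2
      rw [hsq]
      intro h
      exact hq (hinj _ h)
    obtain ⟨n1, n2, n3, n4, n5, n6⟩ := q8f_sq_ne
    rw [hb' _ n1, hb' _ n2, hb' _ n3, hb' _ n4, hb' _ n5, hb' _ n6, q8f_a0, hone]
    ring
  · rw [Nat.card_congr e.toEquiv, Nat.card_eq_fintype_card, QuaternionGroup.card]

end Cfsg.Agent.helper12
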