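import Mathlib
import Cfsg.Agent.Lib_helper12_Q8a
import Cfsg.Agent.Lib_helper12_BS10

set_option autoImplicit false

/-!
Brauer–Suzuki for `Q₈` (helper12): group theory in `G`.
-/

namespace Cfsg.Agent.helper12

open Cfsg

universe u

section Q8Group

variable {G : Type u} [Group G] [Finite G] {S : Sylow 2 G} {w z : G}

omit [Finite G] in
theorem q8_order_z (hq : Q8Data (S : Subgroup G) w z) : orderOf z = 2 :=
  orderOf_eq_prime hq.z_sq hq.z_ne

omit [Finite G] in
theorem q8_order_four (hq : Q8Data (S : Subgroup G) w z) {x : G} (hx : x ∈ S) (h2 : x ^ 2 ≠ 1) :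
    orderOf x = 4 := by
  haveI : Fact (Nat.Prime 2) := ⟨Nat.prime_two⟩
  have h4 : x ^ 4 = 1 := by
    rcases hq.sq x hx with h | h
    · exact absurd h h2
    · have : x ^ 4 = (x ^ 2) ^ 2 := by rw [← pow_mul]
      rw [this, h, hq.z_sq]
  have := orderOf_eq_prime_pow (x := x) (p := 2) (n := 1) (by simpa using h2) (by simpa using h4)
  simpa using this

omit [Finite G] in
theorem q8_w_sq_ne (hq : Q8Data (S : Subgroup G) w z) : w ^ 2 ≠ 1 := by
  rw [hq.w_sq]; exact hq.z_ne

omit [Finite G] in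
theorem q8_order_w (hq : Q8Data (S : Subgroup G) w z) : orderOf w = 4 :=
  q8_order_four hq hq.w_mem (q8_w_sq_ne hq)

omit [Finite G] in
theorem q8_z_mem (hq : Q8Data (S : Subgroup G) w z) : z ∈ S := by
  rw [← hq.w_sq]
  exact Subgroup.pow_mem _ hq.w_mem 2

omit [Finite G] in
theorem q8_invol_unique (hq : Q8Data (S : Subgroup G) w z) {x : G} (hx : x ∈ S)
    (h2 : orderOf x = 2) : x = z := by
  have hx2 : x ^ 2 = 1 := by rw [← h2]; exact pow_orderOf_eq_one x
  rcases hq.invol x hx hx2 with h | h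
  · rw [h, orderOf_one] at h2; omega
  · exact h

theorem q8_invol_conj (hq : Q8Data (S : Subgroup G) w z) {x : G} (hx : orderOf x = 2) :
    ∃ g : G, g * x * g⁻¹ = z := by
  obtain ⟨g, hg⟩ := bs_two_elt_conj_into_sylow S x 1 (by simpa using hx)
  exact ⟨g, q8_invol_unique hq hg (by rw [bs_orderOf_conj, hx])⟩

theorem q8_no_klein (hq : Q8Data (S : Subgroup G) w z) {x u : G} (hx : orderOf x = 2)
    (hu : orderOf u = 2) (hc : x * u = u * x) : x = u := by
  have hx2 : x ^ 2 = 1 := by rw [← hx]; exact pow_orderOf_eq_one x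
  have hu2 : u ^ 2 = 1 := by rw [← hu]; exact pow_orderOf_eq_one u
  obtain ⟨g, hg⟩ := bs_pgroup_conj_into_sylow S _ (bs_klein_pgroup hx2 hu2 hc)
  have h1 := q8_invol_unique hq (hg x (Subgroup.subset_closure (by simp)))
    (by rw [bs_orderOf_conj, hx])
  have h2 := q8_invol_unique hq (hg u (Subgroup.subset_closure (by simp)))
    (by rw [bs_orderOf_conj, hu])
  have h3 := h1.trans h2.symm
  exact mul_left_cancel (mul_right_cancel h3)

theorem q8_prod_invol_odd (hq : Q8Data (S : Subgroup G) w z) {x y : G} (hx : orderOf x = 2)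
    (hy : orderOf y = 2) : Odd (orderOf (x * y)) := by
  by_contra hodd
  rw [Nat.not_odd_iff_even] at hodd
  obtain ⟨k, hk⟩ := hodd
  have hwpos : 0 < orderOf (x * y) := orderOf_pos _
  have hk0 : 0 < k := by omega
  have hx2 : x ^ 2 = 1 := by rw [← hx]; exact pow_orderOf_eq_one x
  have hy2 : y ^ 2 = 1 := by rw [← hy]; exact pow_orderOf_eq_one y
  have hxinv : x⁻¹ = x := by
    rw [inv_eq_iff_mul_eq_one, ← pow_two]; exact hx2
  have hyinv : y⁻¹ = y := by
    rw [inv_eq_iff_mul_eq_one, ← pow_two]; exact hy2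
  obtain ⟨v, hv⟩ : ∃ v, v = x * y := ⟨_, rfl⟩
  rw [← hv] at hk hwpos
  obtain ⟨u, hu⟩ : ∃ u, u = v ^ k := ⟨_, rfl⟩
  have hou : orderOf u = 2 := by
    rw [hu, orderOf_pow_of_dvd hk0.ne' ⟨2, by omega⟩, hk]
    have : k + k = 2 * k := by ring
    rw [this, Nat.mul_div_cancel _ hk0]
  have hconj : x * v * x⁻¹ = v⁻¹ := by
    rw [hv, mul_inv_rev, hxinv, hyinv]
    have : x * (x * y) * x = x ^ 2 * y * x := by rw [pow_two]; group
    rw [this, hx2, one_mul]
  have hcu : x * u * x⁻¹ = u⁻¹ := by rw [hu, ← conj_pow, hconj, inv_pow]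
  have hu2 : u ^ 2 = 1 := by rw [← hou]; exact pow_orderOf_eq_one u
  have huinv : u⁻¹ = u := by
    rw [inv_eq_iff_mul_eq_one, ← pow_two]; exact hu2
  have hcomm : x * u = u * x := by
    rw [huinv] at hcu
    have : x * u = (x * u * x⁻¹) * x := by group
    rw [this, hcu]
  have hxu : x = u := q8_no_klein hq hx hou hcomm
  have hxw : x * v = v * x := by
    rw [hxu, hu]
    exact ((Commute.refl v).pow_left k).eq
  have hww : v = v⁻¹ := by
    rw [← hconj, hxw, mul_assoc, mul_inv_cancel, mul_one]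
  have hw2 : v ^ 2 = 1 := by
    rw [pow_two]
    nth_rewrite 2 [hww]
    exact mul_inv_cancel v
  have hdvd := orderOf_dvd_of_pow_eq_one hw2
  have hk1 : k = 1 := by
    have := Nat.le_of_dvd (by norm_num) hdvd
    omega
  rw [hk1, pow_one] at hu
  have hy1 : y = 1 := by
    have h5 : x * y = x * 1 := by rw [mul_one, ← hv, ← hu, ← hxu]
    exact mul_left_cancel h5
  rw [hy1, orderOf_one] at hy
  omega

/-- the fusion hypothesis of the hard case -/
def Q8Fused (S : Sylow 2 G) : Prop :=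
  ∀ x ∈ S, ∀ y ∈ S, x ^ 2 ≠ 1 → y ^ 2 ≠ 1 → ∃ g : G, g * x * g⁻¹ = y

theorem q8_order_four_conj (hq : Q8Data (S : Subgroup G) w z) (hF : Q8Fused S) {v : G}
    (hv : orderOf v = 4) : ∃ g : G, g * v * g⁻¹ = w := by
  obtain ⟨g, hg⟩ := bs_two_elt_conj_into_sylow S v 2 (by simpa using hv)
  have h2 : (g * v * g⁻¹) ^ 2 ≠ 1 := by
    intro h
    have := orderOf_dvd_of_pow_eq_one h
    rw [bs_orderOf_conj, hv] at this
    omega
  obtain ⟨g', hg'⟩ := hF _ hg _ hq.w_mem h2 (q8_w_sq_ne hq)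
  refine ⟨g' * g, ?_⟩
  rw [← hg']
  group

/-- a normal subgroup meeting `S` in at most `{1, z}` -/
theorem q8_small_sylow_normal (hq : Q8Data (S : Subgroup G) w z) {M : Subgroup G}
    (hMn : M.Normal) (hzM : z ∈ M) (hS : ∀ x ∈ M, x ∈ S → x = 1 ∨ x = z) :
    ∃ K' : Subgroup G, K'.Normal ∧ Odd (Nat.card K') ∧
      (∃ k : ℕ, Nat.card M = Nat.card K' * 2 ^ k) := by
  classical
  let zM : M := ⟨z, hzM⟩
  have hozM : orderOf zM = 2 := by
    rw [← Subgroup.orderOf_coe]; exact q8_order_z hq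
  have hzMpg : IsPGroup 2 (Subgroup.zpowers zM) := by
    apply IsPGroup.of_card (n := 1)
    rw [Nat.card_zpowers, hozM, pow_one]
  obtain ⟨S₀, hS₀⟩ := hzMpg.exists_le_sylow
  have hzS : zM ∈ (S₀ : Subgroup M) := hS₀ (Subgroup.mem_zpowers zM)
  have hS₀' : IsPGroup 2 ((S₀ : Subgroup M).map M.subtype) := S₀.2.map _
  obtain ⟨g, hg⟩ := bs_pgroup_conj_into_sylow S _ hS₀'
  have hgC : ∀ x : (S₀ : Subgroup M), g * ((x : M) : G) * g⁻¹ = 1 ∨
      g * ((x : M) : G) * g⁻¹ = z := by
    intro x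
    apply hS
    · exact hMn.conj_mem _ (x : M).2 g
    · exact hg _ (Subgroup.mem_map_of_mem _ x.2)
  have hgz : g * z * g⁻¹ = z := by
    rcases hgC ⟨zM, hzS⟩ with h | h
    · exfalso
      have h1 : z = 1 := by
        have h2 : g * z * g⁻¹ = 1 := h
        have : z = g⁻¹ * (g * z * g⁻¹) * g := by group
        rw [this, h2]; group
      exact hq.z_ne h1
    · exact h
  let zS : (S₀ : Subgroup M) := ⟨zM, hzS⟩
  have hall : ∀ q : (S₀ : Subgroup M), q = 1 ∨ q = zS := by
    intro q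
    rcases hgC q with h | h
    · left
      have h1 : ((q : M) : G) = 1 := by
        have : ((q : M) : G) = g⁻¹ * (g * ((q : M) : G) * g⁻¹) * g := by group
        rw [this, h]; group
      exact Subtype.ext (Subtype.ext h1)
    · right
      have h1 : ((q : M) : G) = z := by
        have h2 : g * ((q : M) : G) * g⁻¹ = g * z * g⁻¹ := by rw [h, hgz]
        exact mul_left_cancel (mul_right_cancel h2)
      exact Subtype.ext (Subtype.ext h1)
  have hcyc : IsCyclic (S₀ : Subgroup M) := bs_isCyclic_of_two zS hall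
  have h2dvd : 2 ∣ Nat.card M := by
    have := orderOf_dvd_natCard zM
    rwa [hozM] at this
  have hp : (Nat.card M).minFac = 2 := (Nat.minFac_eq_two_iff _).mpr h2dvd
  have hNC := IsCyclic.normalizer_le_centralizer hp (P := S₀) hcyc
  have hcomp := MonoidHom.ker_transferSylow_isComplement' S₀ hNC
  have hodd : ¬ 2 ∣ Nat.card (MonoidHom.transferSylow S₀ hNC).ker :=
    MonoidHom.not_dvd_card_ker_transferSylow S₀ hNC
  obtain ⟨V, hV⟩ : ∃ V : M →* (S₀ : Subgroup M), V = MonoidHom.transferSylow S₀ hNC := ⟨_, rfl⟩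
  rw [← hV] at hcomp hodd
  have hker_odd : ∀ m : M, m ∈ V.ker → Odd (orderOf m) := by
    intro m hm
    have h1 : orderOf (⟨m, hm⟩ : V.ker) ∣ Nat.card V.ker := orderOf_dvd_natCard _
    rw [← Subgroup.orderOf_coe] at h1
    rw [← Nat.not_even_iff_odd, even_iff_two_dvd]
    intro h
    exact hodd (h.trans h1)
  have hodd_ker : ∀ m : M, Odd (orderOf m) → m ∈ V.ker := by
    intro m hm
    rw [MonoidHom.mem_ker]
    have h1 : orderOf (V m) ∣ orderOf m := orderOf_map_dvd V m
    obtain ⟨k, hk⟩ := (IsPGroup.iff_orderOf.mp S₀.2) (V m)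
    have h2 : Nat.Coprime (orderOf m) (2 ^ k) :=
      Nat.Coprime.pow_right k (Nat.coprime_two_right.mpr hm)
    rw [← hk] at h2
    have h3 : orderOf (V m) = 1 := Nat.Coprime.eq_one_of_dvd h2.symm h1
    exact orderOf_eq_one_iff.mp h3
  have hK'normal : (V.ker.map M.subtype).Normal := by
    constructor
    intro x hx g'
    obtain ⟨m, hm, rfl⟩ := hx
    have hmem : g' * (m : G) * g'⁻¹ ∈ M := hMn.conj_mem _ m.2 g'
    refine ⟨⟨_, hmem⟩, ?_, rfl⟩
    apply hodd_ker
    have h1 : orderOf (⟨g' * (m : G) * g'⁻¹, hmem⟩ : M) = orderOf m := by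
      rw [← Subgroup.orderOf_coe, ← Subgroup.orderOf_coe]
      exact bs_orderOf_conj g' _
    rw [h1]
    exact hker_odd m hm
  have hK'card : Nat.card (V.ker.map M.subtype) = Nat.card V.ker :=
    Subgroup.card_map_of_injective M.subtype_injective
  have hK'odd : Odd (Nat.card (V.ker.map M.subtype)) := by
    rw [hK'card, ← Nat.not_even_iff_odd, even_iff_two_dvd]
    exact hodd
  obtain ⟨k, hk⟩ := S₀.2.exists_card_eq
  have hcardM : Nat.card M = Nat.card (V.ker.map M.subtype) * 2 ^ k := by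
    rw [hK'card, ← hk]
    exact hcomp.card_mul.symm
  exact ⟨V.ker.map M.subtype, hK'normal, hK'odd, k, hcardM⟩

/-- a normal subgroup containing `z` but not `w` forces `z` to be central -/
theorem q8_z_central_of_kernel (hq : Q8Data (S : Subgroup G) w z) (hF : Q8Fused S)
    (hO : ∀ N : Subgroup G, N.Normal → Odd (Nat.card N) → N = ⊥) {M : Subgroup G}
    (hMn : M.Normal) (hzM : z ∈ M) (hwM : w ∉ M) : z ∈ Subgroup.center G := by
  have hS : ∀ x ∈ M, x ∈ S → x = 1 ∨ x = z := by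
    intro x hxM hxS
    by_cases h2 : x ^ 2 = 1
    · exact hq.invol x hxS h2
    · exfalso
      obtain ⟨g, hg⟩ := hF x hxS w hq.w_mem h2 (q8_w_sq_ne hq)
      apply hwM
      rw [← hg]
      exact hMn.conj_mem _ hxM g
  obtain ⟨K', hK'n, hK'odd, k, hcard⟩ := q8_small_sylow_normal hq hMn hzM hS
  have hK'bot := hO K' hK'n hK'odd
  rw [hK'bot, Subgroup.card_bot, one_mul] at hcard
  have hMpg : IsPGroup 2 M := IsPGroup.of_card hcard
  obtain ⟨g, hg⟩ := bs_pgroup_conj_into_sylow S M hMpg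
  have hMP : ∀ x ∈ M, x ∈ S := by
    intro x hx
    have h8 : g⁻¹ * x * g⁻¹⁻¹ ∈ M := hMn.conj_mem _ hx g⁻¹
    have h9 := hg _ h8
    have : g * (g⁻¹ * x * g⁻¹⁻¹) * g⁻¹ = x := by group
    rwa [this] at h9
  rw [Subgroup.mem_center_iff]
  intro g'
  have h8 : g' * z * g'⁻¹ ∈ M := hMn.conj_mem _ hzM g'
  have h9 := q8_invol_unique hq (hMP _ h8) (by rw [bs_orderOf_conj, q8_order_z hq])
  calc g' * z = (g' * z * g'⁻¹) * g' := by group
    _ = z * g' := by rw [h9]

/-- the easy case: a normal complement -/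
theorem q8_z_central_of_complement (hq : Q8Data (S : Subgroup G) w z)
    (hO : ∀ N : Subgroup G, N.Normal → Odd (Nat.card N) → N = ⊥) {N : Subgroup G}
    (hN : N.Normal) (hc : Subgroup.IsComplement' N (S : Subgroup G)) :
    z ∈ Subgroup.center G := by
  haveI : Fact (Nat.Prime 2) := ⟨Nat.prime_two⟩
  have h1 : (S : Subgroup G).index = Nat.card N := hc.index_eq_card
  have h2 : ¬ 2 ∣ (S : Subgroup G).index := S.not_dvd_index
  have hodd : Odd (Nat.card N) := by
    rw [← h1, ← Nat.not_even_iff_odd, even_iff_two_dvd]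
    exact h2
  have hbot := hO N hN hodd
  have hcard := hc.card_mul
  rw [hbot, Subgroup.card_bot, one_mul] at hcard
  have htop : (S : Subgroup G) = ⊤ := (Subgroup.card_eq_iff_eq_top _).mp hcard
  rw [Subgroup.mem_center_iff]
  intro g
  exact hq.z_central g (by rw [htop]; exact Subgroup.mem_top g)

/-- the centre has order 2 once `z` is central -/
theorem q8_center_card (hq : Q8Data (S : Subgroup G) w z)
    (hO : ∀ N : Subgroup G, N.Normal → Odd (Nat.card N) → N = ⊥)
    (hzc : z ∈ Subgroup.center G) : Nat.card (Subgroup.center G) = 2 := by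
  classical
  have hall : ∀ y ∈ Subgroup.center G, y = 1 ∨ y = z := by
    intro y hy
    have hycomm : ∀ g' : G, g' * y = y * g' := fun g' => Subgroup.mem_center_iff.mp hy g'
    have ho : orderOf y ≠ 0 := (orderOf_pos y).ne'
    obtain ⟨a, b, hb, hab⟩ := Nat.exists_eq_two_pow_mul_odd ho
    have hord : orderOf (y ^ (2 ^ a)) = b := by
      rw [orderOf_pow_of_dvd (by positivity) ⟨b, hab⟩, hab, Nat.mul_div_cancel_left _ (by positivity)]
    have hN₀n : (Subgroup.zpowers (y ^ (2 ^ a))).Normal := by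
      constructor
      intro x hx g'
      have h1 : g' * x * g'⁻¹ = x := by
        obtain ⟨j, rfl⟩ := Subgroup.mem_zpowers_iff.mp hx
        have hc : g' * ((y ^ (2 ^ a)) ^ j) = ((y ^ (2 ^ a)) ^ j) * g' := by
          have h2 : Commute g' y := hycomm g'
          exact ((h2.pow_right _).zpow_right _).eq
        rw [hc, mul_assoc, mul_inv_cancel, mul_one]
      rw [h1]
      exact hx
    have hN₀ := hO _ hN₀n (by rw [Nat.card_zpowers, hord]; exact hb)
    have hy1 : y ^ (2 ^ a) = 1 := by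
      have h1 : y ^ (2 ^ a) ∈ Subgroup.zpowers (y ^ (2 ^ a)) := Subgroup.mem_zpowers _
      rw [hN₀] at h1
      exact Subgroup.mem_bot.mp h1
    have hdvd : orderOf y ∣ 2 ^ a := orderOf_dvd_of_pow_eq_one hy1
    obtain ⟨a', -, ha'⟩ := (Nat.dvd_prime_pow Nat.prime_two).mp hdvd
    obtain ⟨g', hg'⟩ := bs_two_elt_conj_into_sylow S y a' ha'
    have hyS : y ∈ S := by
      have h1 : g' * y * g'⁻¹ = y := by rw [hycomm g', mul_assoc, mul_inv_cancel, mul_one]
      rwa [h1] at hg'
    exact hq.center y hyS (fun h _ => hycomm h)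
  rw [Nat.card_eq_two_iff]
  refine ⟨1, ⟨z, hzc⟩, ?_, ?_⟩
  · intro h
    have := congrArg Subtype.val h
    exact hq.z_ne this.symm
  · ext y
    simp only [Set.mem_insert_iff, Set.mem_singleton_iff, Set.mem_univ, iff_true]
    rcases hall y.1 y.2 with h | h
    · left; exact Subtype.ext h
    · right; exact Subtype.ext h

end Q8Group

end Cfsg.Agent.helper12
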