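import Mathlib

set_option autoImplicit false

namespace Cfsg.Agent.helper6.AutIdx

/-- A free action of a group `A` on `β` forces `|A| ∣ |β|`. -/
theorem card_dvd_of_free {A β : Type*} [Group A] [MulAction A β]
    (h : ∀ b : β, MulAction.stabilizer A b = ⊥) : Nat.card A ∣ Nat.card β := by
  have e := MulAction.selfEquivOrbitsQuotientProd (G := A) (X := β) h
  rw [Nat.card_congr e, Nat.card_prod]
  exact dvd_mul_left _ _

/-- The action of automorphisms on non-identity elements. -/
def toPermNe (T : Type*) [Group T] : MulAut T →* Equiv.Perm {t : T // t ≠ 1} where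
  toFun f := f.toEquiv.subtypeEquiv (fun t => by simp)
  map_one' := by ext; rfl
  map_mul' f g := by ext; rfl

theorem toPermNe_injective (T : Type*) [Group T] : Function.Injective (toPermNe T) := by
  intro f g h
  ext t
  by_cases ht : t = 1
  · simp [ht]
  · have := congrArg (fun σ : Equiv.Perm {t : T // t ≠ 1} => ((σ ⟨t, ht⟩ : {t : T // t ≠ 1}) : T)) h
    simpa [toPermNe] using this

theorem card_ne_one (T : Type*) [Group T] [Finite T] :
    Nat.card {t : T // t ≠ 1} = Nat.card T - 1 := by
  classical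
  have := Fintype.ofFinite T
  rw [Nat.card_eq_fintype_card, Nat.card_eq_fintype_card]
  rw [Fintype.card_subtype_compl (fun t : T => t = 1), Fintype.card_subtype_eq]

theorem card_mulAut_dvd_factorial (T : Type*) [Group T] [Finite T] :
    Nat.card (MulAut T) ∣ (Nat.card T - 1).factorial := by
  have h := Subgroup.card_dvd_of_injective (toPermNe T) (toPermNe_injective T)
  rwa [Nat.card_perm, card_ne_one] at h

theorem card_mulAut_klein_dvd (T : Type*) [Group T] [IsKleinFour T] :
    Nat.card (MulAut T) ∣ 6 := by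
  have : Finite T := Nat.finite_of_card_ne_zero (by rw [IsKleinFour.card_four]; norm_num)
  have h := card_mulAut_dvd_factorial T
  rw [IsKleinFour.card_four (G := T)] at h
  exact h

/-- The set of non-commuting ordered pairs of the quaternion group of order 8. -/
abbrev NC : Type := {p : QuaternionGroup 2 × QuaternionGroup 2 // p.1 * p.2 ≠ p.2 * p.1}

instance : MulAction (MulAut (QuaternionGroup 2)) NC where
  smul f p := ⟨(f p.1.1, f p.1.2), fun h => p.2 (f.injective (by
    rw [map_mul, map_mul]; exact h))⟩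
  one_smul p := rfl
  mul_smul f g p := rfl

theorem smul_NC_fst (f : MulAut (QuaternionGroup 2)) (p : NC) : (f • p).1.1 = f p.1.1 := rfl
theorem smul_NC_snd (f : MulAut (QuaternionGroup 2)) (p : NC) : (f • p).1.2 = f p.1.2 := rfl

theorem q8_gen : ∀ u v g : QuaternionGroup 2, u * v ≠ v * u →
    g = 1 ∨ g = u ^ 2 ∨ g = u ∨ g = u ^ 3 ∨ g = v ∨ g = v ^ 3 ∨ g = u * v ∨ g = v * u := by
  decide

theorem card_NC : Nat.card NC = 24 := by
  rw [Nat.card_eq_fintype_card]
  decide

theorem card_mulAut_Q8_dvd : Nat.card (MulAut (QuaternionGroup 2)) ∣ 24 := by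
  rw [← card_NC]
  apply card_dvd_of_free
  intro p
  rw [Subgroup.eq_bot_iff_forall]
  intro f hf
  rw [MulAction.mem_stabilizer_iff] at hf
  have hu : f p.1.1 = p.1.1 := by rw [← smul_NC_fst, hf]
  have hv : f p.1.2 = p.1.2 := by rw [← smul_NC_snd, hf]
  ext g
  rcases q8_gen p.1.1 p.1.2 g p.2 with h | h | h | h | h | h | h | h <;>
    rw [h] <;> simp [map_pow, hu, hv]

theorem card_mulAut_q8_dvd {Q : Type*} [Group Q] (e : Q ≃* QuaternionGroup 2) :
    Nat.card (MulAut Q) ∣ 24 := by
  rw [Nat.card_congr (MulAut.congr e).toEquiv]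
  exact card_mulAut_Q8_dvd

theorem card_center_Q8 : Nat.card (Subgroup.center (QuaternionGroup 2)) = 2 := by
  rw [Nat.card_eq_fintype_card]
  decide

theorem card_center_q8 {Q : Type*} [Group Q] (e : Q ≃* QuaternionGroup 2) :
    Nat.card (Subgroup.center Q) = 2 := by
  rw [Nat.card_congr (Subgroup.centerCongr e).toEquiv]
  exact card_center_Q8

/-- A normal subgroup of odd index contains every 2-element. -/
theorem mem_of_odd_index {N : Type*} [Group N] [Finite N] (K : Subgroup N) [K.Normal]
    (hK : Odd K.index) (s : N) (k : ℕ) (hs : s ^ (2 ^ k) = 1) : s ∈ K := by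
  rw [← QuotientGroup.eq_one_iff]
  have h1 : ((s : N ⧸ K)) ^ (2 ^ k) = 1 := by
    rw [← QuotientGroup.mk_pow, hs]; rfl
  have h2 : ((s : N ⧸ K)) ^ K.index = 1 := by
    rw [Subgroup.index_eq_card]; exact pow_card_eq_one'
  have h3 : orderOf (s : N ⧸ K) ∣ Nat.gcd (2 ^ k) K.index :=
    Nat.dvd_gcd (orderOf_dvd_of_pow_eq_one h1) (orderOf_dvd_of_pow_eq_one h2)
  have h4 : Nat.gcd (2 ^ k) K.index = 1 := by
    apply Nat.Coprime.pow_left
    exact Nat.coprime_two_left.mpr hK
  rw [h4, Nat.dvd_one, orderOf_eq_one_iff] at h3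
  exact h3

/-- The index of the centralizer in the normalizer divides the order of the automorphism group. -/
theorem relIndex_dvd_card_mulAut {G : Type*} [Group G] (H : Subgroup G) :
    (Subgroup.centralizer (H : Set G)).relIndex (Subgroup.normalizer (H : Set G))
      ∣ Nat.card (MulAut H) := by
  have key := Subgroup.card_dvd_of_injective _
    (QuotientGroup.kerLift_injective H.normalizerMonoidHom)
  rwa [Subgroup.normalizerMonoidHom_ker, ← Subgroup.index, ← Subgroup.relIndex] at key

theorem eq_two_or_six {n : ℕ} (h6 : n ∣ 6) (he : ¬ Odd n) : n = 2 ∨ n = 6 := by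
  have hle : n ≤ 6 := Nat.le_of_dvd (by norm_num) h6
  interval_cases n <;> simp_all (config := {decide := true})

end Cfsg.Agent.helper6.AutIdx
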