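import Mathlib

set_option autoImplicit false
set_option linter.unusedSectionVars false
set_option linter.unusedVariables false

namespace Cfsg.Agent.helper6.TwoPow

/-- `c * k = 0` in `ZMod (c*d)` iff `k` is a multiple of `d`. -/
theorem mul_eq_zero_iff {N : ℕ} [NeZero N] (c d : ℕ) (hcd : c * d = N) (k : ZMod N) :
    (c : ZMod N) * k = 0 ↔ ∃ j : ZMod N, k = (d : ZMod N) * j := by
  have hN : N ≠ 0 := NeZero.ne N
  have hc : 0 < c := by
    rcases Nat.eq_zero_or_pos c with h | h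
    · subst h; simp at hcd; exact absurd hcd.symm hN
    · exact h
  constructor
  · intro h
    have h1 : ((c * k.val : ℕ) : ZMod N) = 0 := by
      push_cast; rw [ZMod.natCast_zmod_val]; exact h
    rw [ZMod.natCast_eq_zero_iff] at h1
    have h1' : c * d ∣ c * k.val := hcd ▸ h1
    have h2 : d ∣ k.val := Nat.dvd_of_mul_dvd_mul_left hc h1'
    obtain ⟨j, hj⟩ := h2
    refine ⟨(j : ZMod N), ?_⟩
    rw [← ZMod.natCast_zmod_val k, hj]; push_cast; rfl
  · rintro ⟨j, rfl⟩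
    rw [← mul_assoc, ← Nat.cast_mul, hcd, ZMod.natCast_self, zero_mul]

variable {n : ℕ}

/-- The parity homomorphism. -/
def par (n : ℕ) (hn : 1 ≤ n) : ZMod (2 ^ n) →+* ZMod 2 :=
  ZMod.castHom (dvd_pow_self 2 (by omega)) (ZMod 2)

theorem zmod2_cases (a : ZMod 2) : a = 0 ∨ a = 1 := by
  revert a; decide

theorem par_two_mul (hn : 1 ≤ n) (j : ZMod (2 ^ n)) : par n hn (2 * j) = 0 := by
  rw [map_mul, map_ofNat]
  have : (2 : ZMod 2) = 0 := by decide
  rw [this, zero_mul]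

theorem par_eq_zero_iff (hn : 1 ≤ n) (k : ZMod (2 ^ n)) :
    par n hn k = 0 ↔ ∃ j : ZMod (2 ^ n), k = 2 * j := by
  constructor
  · intro h
    have h1 : ((k.val : ℕ) : ZMod 2) = 0 := by
      have : par n hn ((k.val : ℕ) : ZMod (2 ^ n)) = ((k.val : ℕ) : ZMod 2) := map_natCast _ _
      rw [← this, ZMod.natCast_zmod_val]; exact h
    rw [ZMod.natCast_eq_zero_iff] at h1
    obtain ⟨j, hj⟩ := h1
    refine ⟨(j : ZMod (2 ^ n)), ?_⟩
    rw [← ZMod.natCast_zmod_val k, hj]; push_cast; rfl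
  · rintro ⟨j, rfl⟩
    exact par_two_mul hn j

theorem par_eq_one_iff (hn : 1 ≤ n) (k : ZMod (2 ^ n)) :
    par n hn k = 1 ↔ ∃ j : ZMod (2 ^ n), k = 2 * j + 1 := by
  constructor
  · intro h
    have h1 : par n hn (k - 1) = 0 := by rw [map_sub, h, map_one, sub_self]
    obtain ⟨j, hj⟩ := (par_eq_zero_iff hn _).mp h1
    exact ⟨j, by rw [← hj]; ring⟩
  · rintro ⟨j, rfl⟩
    rw [map_add, par_two_mul, map_one, zero_add]

theorem even_or_odd (hn : 1 ≤ n) (k : ZMod (2 ^ n)) :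
    (∃ j : ZMod (2 ^ n), k = 2 * j) ∨ (∃ j : ZMod (2 ^ n), k = 2 * j + 1) := by
  rcases zmod2_cases (par n hn k) with h | h
  · exact Or.inl ((par_eq_zero_iff hn k).mp h)
  · exact Or.inr ((par_eq_one_iff hn k).mp h)

/-- Half of the modulus. -/
def half (n : ℕ) : ZMod (2 ^ n) := ((2 ^ (n - 1) : ℕ) : ZMod (2 ^ n))

theorem two_mul_half (hn : 1 ≤ n) : (2 : ZMod (2 ^ n)) * half n = 0 := by
  unfold half
  have : (2 : ZMod (2 ^ n)) * ((2 ^ (n - 1) : ℕ) : ZMod (2 ^ n)) = ((2 ^ n : ℕ) : ZMod (2 ^ n)) := by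
    obtain ⟨k, rfl⟩ : ∃ k, n = k + 1 := ⟨n - 1, by omega⟩
    simp only [Nat.add_sub_cancel]; push_cast; ring
  rw [this, ZMod.natCast_self]

theorem half_ne_zero (hn : 1 ≤ n) : half n ≠ 0 := by
  unfold half
  rw [Ne, ZMod.natCast_eq_zero_iff]
  intro h
  have h1 := Nat.le_of_dvd (by positivity) h
  have h2 : 2 ^ (n - 1) < 2 ^ n := Nat.pow_lt_pow_right (by norm_num) (by omega)
  omega

theorem half_mul_two_mul (hn : 1 ≤ n) (j : ZMod (2 ^ n)) : half n * (2 * j) = 0 := by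
  rw [← mul_assoc, mul_comm (half n) 2, two_mul_half hn, zero_mul]

theorem half_mul_of_par_zero (hn : 1 ≤ n) {k : ZMod (2 ^ n)} (h : par n hn k = 0) :
    half n * k = 0 := by
  obtain ⟨j, rfl⟩ := (par_eq_zero_iff hn k).mp h
  exact half_mul_two_mul hn j

theorem half_mul_of_par_one (hn : 1 ≤ n) {k : ZMod (2 ^ n)} (h : par n hn k = 1) :
    half n * k = half n := by
  obtain ⟨j, rfl⟩ := (par_eq_one_iff hn k).mp h
  rw [mul_add, half_mul_two_mul hn, mul_one, zero_add]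

theorem half_mul_eq_zero_iff (hn : 1 ≤ n) (k : ZMod (2 ^ n)) :
    half n * k = 0 ↔ par n hn k = 0 := by
  constructor
  · intro h
    rcases zmod2_cases (par n hn k) with h1 | h1
    · exact h1
    · rw [half_mul_of_par_one hn h1] at h; exact absurd h (half_ne_zero hn)
  · exact half_mul_of_par_zero hn

theorem two_mul_eq_zero_iff (hn : 1 ≤ n) (k : ZMod (2 ^ n)) :
    2 * k = 0 ↔ k = 0 ∨ k = half n := by
  constructor
  · intro h
    have h1 := (mul_eq_zero_iff (N := 2 ^ n) 2 (2 ^ (n - 1)) (by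
      obtain ⟨k, rfl⟩ : ∃ k, n = k + 1 := ⟨n - 1, by omega⟩
      simp only [Nat.add_sub_cancel]; ring) k).mp (by exact_mod_cast h)
    obtain ⟨j, rfl⟩ := h1
    change half n * j = 0 ∨ half n * j = half n
    rcases zmod2_cases (par n hn j) with h2 | h2
    · exact Or.inl (half_mul_of_par_zero hn h2)
    · exact Or.inr (half_mul_of_par_one hn h2)
  · rintro (rfl | rfl)
    · rw [mul_zero]
    · exact two_mul_half hn

theorem par_half (hn : 2 ≤ n) : par n (by omega) (half n) = 0 := by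
  rw [par_eq_zero_iff]
  refine ⟨((2 ^ (n - 2) : ℕ) : ZMod (2 ^ n)), ?_⟩
  unfold half
  obtain ⟨k, rfl⟩ : ∃ k, n = k + 2 := ⟨n - 2, by omega⟩
  have : k + 2 - 1 = k + 1 := by omega
  rw [this]; simp only [Nat.add_sub_cancel]; push_cast; ring

/-- Odd elements are units. -/
theorem exists_inv_of_par_one (hn : 1 ≤ n) {k : ZMod (2 ^ n)} (h : par n hn k = 1) :
    ∃ k' : ZMod (2 ^ n), k * k' = 1 := by
  have hco : Nat.Coprime k.val (2 ^ n) := by
    apply Nat.Coprime.pow_right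
    rw [Nat.coprime_two_right, Nat.odd_iff]
    have h1 : ((k.val : ℕ) : ZMod 2) = 1 := by
      have : par n hn ((k.val : ℕ) : ZMod (2 ^ n)) = ((k.val : ℕ) : ZMod 2) := map_natCast _ _
      rw [← this, ZMod.natCast_zmod_val]; exact h
    have h2 : ((k.val : ℕ) : ZMod 2) = ((1 : ℕ) : ZMod 2) := by rw [h1]; rfl
    rw [ZMod.natCast_eq_natCast_iff] at h2
    exact h2
  have hu := (ZMod.isUnit_iff_coprime k.val (2 ^ n)).mpr hco
  rw [ZMod.natCast_zmod_val] at hu
  obtain ⟨u, rfl⟩ := hu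
  exact ⟨((u⁻¹ : (ZMod (2 ^ n))ˣ) : ZMod (2 ^ n)), by rw [← Units.val_mul, mul_inv_cancel, Units.val_one]⟩

end Cfsg.Agent.helper6.TwoPow
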