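import Mathlib

set_option autoImplicit false
set_option linter.unusedSectionVars false
set_option linter.unusedVariables false

namespace Cfsg.Agent.helper6.ZExp

variable {S : Type*} [Group S]

/-- Powers of `x` indexed by `ZMod N`. -/
def E (N : ℕ) (x : S) (i : ZMod N) : S := x ^ i.val

variable {N : ℕ} [NeZero N] {x : S}

theorem pow_eq_E (hx : orderOf x = N) (a : ℕ) : x ^ a = E N x (a : ZMod N) := by
  unfold E
  rw [pow_eq_pow_iff_modEq, hx, ZMod.val_natCast]
  exact (Nat.mod_modEq _ _).symm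

theorem E_eq_pow (i : ZMod N) : E N x i = x ^ i.val := rfl

theorem E_zero : E N x 0 = 1 := by
  unfold E; rw [ZMod.val_zero, pow_zero]

theorem E_add (hx : orderOf x = N) (i j : ZMod N) : E N x (i + j) = E N x i * E N x j := by
  have h1 : E N x i * E N x j = x ^ (i.val + j.val) := by unfold E; rw [pow_add]
  rw [h1, pow_eq_E hx]
  congr 1
  push_cast
  rw [ZMod.natCast_zmod_val, ZMod.natCast_zmod_val]

theorem E_mul_E (hx : orderOf x = N) (i j : ZMod N) : E N x i * E N x j = E N x (i + j) :=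
  (E_add hx i j).symm

theorem E_neg (hx : orderOf x = N) (i : ZMod N) : E N x (-i) = (E N x i)⁻¹ := by
  rw [eq_inv_iff_mul_eq_one, E_mul_E hx, neg_add_cancel, E_zero]

theorem E_inv (hx : orderOf x = N) (i : ZMod N) : (E N x i)⁻¹ = E N x (-i) := (E_neg hx i).symm

theorem E_sub (hx : orderOf x = N) (i j : ZMod N) : E N x (i - j) = E N x i * (E N x j)⁻¹ := by
  rw [sub_eq_add_neg, E_add hx, E_neg hx]

theorem E_natCast (hx : orderOf x = N) (a : ℕ) : E N x (a : ZMod N) = x ^ a := (pow_eq_E hx a).symm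

theorem E_one (hx : orderOf x = N) : E N x 1 = x := by
  have := E_natCast hx 1
  rwa [Nat.cast_one, pow_one] at this

theorem E_pow (hx : orderOf x = N) (i : ZMod N) (k : ℕ) : E N x i ^ k = E N x (i * k) := by
  induction k with
  | zero => rw [pow_zero, Nat.cast_zero, mul_zero, E_zero]
  | succ k ih => rw [pow_succ, ih, E_mul_E hx]; congr 1; push_cast; ring

theorem E_injective (hx : orderOf x = N) : Function.Injective (E N x) := by
  intro i j hij
  unfold E at hij
  rw [pow_eq_pow_iff_modEq, hx] at hij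
  have := (ZMod.natCast_eq_natCast_iff _ _ _).mpr hij
  rwa [ZMod.natCast_zmod_val, ZMod.natCast_zmod_val] at this

theorem E_inj (hx : orderOf x = N) {i j : ZMod N} : E N x i = E N x j ↔ i = j :=
  (E_injective hx).eq_iff

theorem E_eq_one_iff (hx : orderOf x = N) {i : ZMod N} : E N x i = 1 ↔ i = 0 := by
  rw [← E_zero (N := N) (x := x), E_inj hx]

theorem E_mem_zpowers (i : ZMod N) : E N x i ∈ Subgroup.zpowers x :=
  Subgroup.npow_mem_zpowers x _

theorem mem_zpowers_iff (hx : orderOf x = N) {g : S} :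
    g ∈ Subgroup.zpowers x ↔ ∃ i : ZMod N, g = E N x i := by
  constructor
  · intro hg
    have hfin : IsOfFinOrder x := by
      rw [← orderOf_pos_iff, hx]; exact Nat.pos_of_ne_zero (NeZero.ne N)
    rw [← hfin.mem_powers_iff_mem_zpowers, Submonoid.mem_powers_iff] at hg
    obtain ⟨a, ha⟩ := hg
    exact ⟨a, by rw [← ha, pow_eq_E hx]⟩
  · rintro ⟨i, rfl⟩
    exact E_mem_zpowers i

theorem E_comm (hx : orderOf x = N) (i j : ZMod N) : E N x i * E N x j = E N x j * E N x i := by
  rw [E_mul_E hx, E_mul_E hx, add_comm]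

/-- Conjugation acts on powers. -/
theorem conj_E (hx : orderOf x = N) {y : S} {k : ℕ} (hxy : y * x * y⁻¹ = x ^ k) (i : ZMod N) :
    y * E N x i * y⁻¹ = E N x ((k : ZMod N) * i) := by
  have h1 : y * E N x i * y⁻¹ = (x ^ k) ^ i.val := by
    unfold E; rw [← conj_pow, hxy]
  rw [h1, ← pow_mul, pow_eq_E hx]
  congr 1
  push_cast
  rw [ZMod.natCast_zmod_val]

theorem conj_E' (hx : orderOf x = N) {y : S} {k : ZMod N} (hxy : y * x * y⁻¹ = E N x k)
    (i : ZMod N) : y * E N x i * y⁻¹ = E N x (k * i) := by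
  have hxy' : y * x * y⁻¹ = x ^ k.val := hxy
  have := conj_E hx hxy' i
  rwa [ZMod.natCast_zmod_val] at this

theorem E_commute (hx : orderOf x = N) {M : ℕ} [NeZero M] {y : S} (hc : x * y = y * x)
    (i : ZMod N) (j : ZMod M) : E N x i * E M y j = E M y j * E N x i := by
  unfold E
  exact ((Commute.pow_pow (show Commute x y from hc) _ _)).eq

theorem orderOf_E_dvd (hx : orderOf x = N) (i : ZMod N) : orderOf (E N x i) ∣ N := by
  rw [orderOf_dvd_iff_pow_eq_one, E_pow hx, ZMod.natCast_self, mul_zero, E_zero]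

end Cfsg.Agent.helper6.ZExp
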