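import Mathlib
import Cfsg.Prelude.Def_CaseTheorems
import Cfsg.Agent.Lib_helper6_ZExp
import Cfsg.Agent.Lib_helper6_TwoPow

set_option autoImplicit false
set_option linter.unusedSectionVars false
set_option linter.unusedVariables false

namespace Cfsg.Agent.helper6.QD

open Cfsg.Agent.helper6.ZExp Cfsg.Agent.helper6.TwoPow

/-- The data of a quasi-dihedral group. -/
structure Data (S : Type*) [Group S] where
  n : ℕ
  hn : 3 ≤ n
  card : Nat.card S = 2 ^ (n + 1)
  x : S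
  y : S
  hx : orderOf x = 2 ^ n
  hy : orderOf y = 2
  hxy : y * x * y⁻¹ = x ^ (2 ^ (n - 1) - 1)

variable {S : Type*} [Group S]

theorem nonempty_data (h : Cfsg.IsQuasiDihedral S) : Nonempty (Data S) := by
  obtain ⟨n, hn, hc, x, y, hx, hy, hxy⟩ := h
  exact ⟨⟨n, hn, hc, x, y, hx, hy, hxy⟩⟩

theorem cast_pow_succ (n a b : ℕ) (hab : a = b + 1) :
    ((2 ^ a : ℕ) : ZMod (2 ^ n)) = 2 * ((2 ^ b : ℕ) : ZMod (2 ^ n)) := by
  subst hab; push_cast; ring

namespace Data

variable (D : Data S)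

/-- the exponent ring -/
abbrev Z : Type := ZMod (2 ^ D.n)

def h : D.Z := half D.n
def q : D.Z := ((2 ^ (D.n - 2) : ℕ) : ZMod (2 ^ D.n))
def p : D.Z := ((2 ^ (D.n - 3) : ℕ) : ZMod (2 ^ D.n))
def m : D.Z := D.h - 1
def e (i : D.Z) : S := E (2 ^ D.n) D.x i
def b (i : D.Z) : S := D.e i * D.y
def par : D.Z →+* ZMod 2 := TwoPow.par D.n (le_trans (by norm_num) D.hn)

theorem hn1 : 1 ≤ D.n := le_trans (by norm_num) D.hn

theorem h_eq : D.h = 2 * D.q := by
  have := D.hn
  exact cast_pow_succ D.n (D.n - 1) (D.n - 2) (by omega)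

theorem q_eq : D.q = 2 * D.p := by
  have := D.hn
  exact cast_pow_succ D.n (D.n - 2) (D.n - 3) (by omega)

theorem two_h : 2 * D.h = 0 := two_mul_half D.hn1

theorem p8 : 8 * D.p = 0 := by
  have := D.two_h
  rw [D.h_eq, D.q_eq] at this
  linear_combination this

theorem m_eq : D.m = D.h - 1 := rfl

theorem h_ne : D.h ≠ 0 := half_ne_zero D.hn1

theorem hh : D.h * D.h = 0 := by
  linear_combination (D.h + 4 * D.p) * D.h_eq + 2 * (D.h + 4 * D.p) * D.q_eq + (2 * D.p) * D.p8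

theorem hq : D.h * D.q = 0 := by
  linear_combination (D.p) * D.p8 + (D.q) * D.h_eq + (2 * D.q + 4 * D.p) * D.q_eq

theorem qqq : D.q * D.q * D.q = 0 := by
  linear_combination (D.p * D.p) * D.p8 + (D.q * D.q + 2 * D.p * D.q + 4 * D.p * D.p) * D.q_eq

theorem mm : D.m * D.m = 1 := by
  rw [D.m_eq]
  linear_combination D.hh - D.two_h

theorem unit_q : (1 - D.q) * (1 + D.q + D.q * D.q) = 1 := by
  linear_combination - D.qqq

theorem two_sub_h : 2 - D.h = 2 * (1 - D.q) := by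
  rw [D.h_eq]; ring

theorem par_h : D.par D.h = 0 := by
  unfold par; rw [D.h_eq]; exact par_two_mul _ _

theorem par_q : D.par D.q = 0 := by
  unfold par; rw [D.q_eq]; exact par_two_mul _ _

theorem par_m : D.par D.m = 1 := by
  rw [D.m_eq, map_sub, D.par_h, map_one]; decide

theorem par_cases (i : D.Z) : D.par i = 0 ∨ D.par i = 1 := zmod2_cases _

theorem par_two_mul (j : D.Z) : D.par (2 * j) = 0 := TwoPow.par_two_mul _ j

theorem par_eq_zero_iff (k : D.Z) : D.par k = 0 ↔ ∃ j : D.Z, k = 2 * j :=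
  TwoPow.par_eq_zero_iff _ k

theorem par_eq_one_iff (k : D.Z) : D.par k = 1 ↔ ∃ j : D.Z, k = 2 * j + 1 :=
  TwoPow.par_eq_one_iff _ k

theorem h_mul_even {k : D.Z} (hk : D.par k = 0) : D.h * k = 0 :=
  half_mul_of_par_zero D.hn1 hk

theorem h_mul_odd {k : D.Z} (hk : D.par k = 1) : D.h * k = D.h :=
  half_mul_of_par_one D.hn1 hk

theorem two_mul_eq_zero_iff (k : D.Z) : 2 * k = 0 ↔ k = 0 ∨ k = D.h :=
  TwoPow.two_mul_eq_zero_iff D.hn1 k

theorem exists_inv_of_odd {k : D.Z} (hk : D.par k = 1) : ∃ k' : D.Z, k * k' = 1 :=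
  exists_inv_of_par_one D.hn1 hk

/-- solving `k * (2 - h) = 2 * j`. -/
theorem exists_mul_two_sub_h (j : D.Z) : ∃ k : D.Z, k * (2 - D.h) = 2 * j :=
  ⟨j * (1 + D.q + D.q * D.q), by rw [D.two_sub_h]; linear_combination (2 * j) * D.unit_q⟩

theorem mul_two_sub_h_eq_zero_iff (k : D.Z) : k * (2 - D.h) = 0 ↔ 2 * k = 0 := by
  constructor
  · intro hk
    rw [D.two_sub_h] at hk
    linear_combination (1 + D.q + D.q * D.q) * hk - (2 * k) * D.unit_q
  · intro hk
    rw [D.two_sub_h]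
    linear_combination (1 - D.q) * hk

/-! ### group elements -/

theorem yy : D.y * D.y = 1 := by
  rw [← pow_two, ← D.hy]; exact pow_orderOf_eq_one _

theorem y_inv : D.y⁻¹ = D.y := inv_eq_of_mul_eq_one_right D.yy

theorem y_ne_one : D.y ≠ 1 := by
  intro h
  have := D.hy
  rw [h, orderOf_one] at this
  omega

theorem m_cast : ((2 ^ (D.n - 1) - 1 : ℕ) : ZMod (2 ^ D.n)) = D.m := by
  rw [Nat.cast_sub (Nat.one_le_two_pow), Nat.cast_one]
  rfl

theorem conj_e (i : D.Z) : D.y * D.e i * D.y⁻¹ = D.e (D.m * i) := by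
  have := conj_E D.hx D.hxy i
  rw [D.m_cast] at this
  exact this

theorem y_e (i : D.Z) : D.y * D.e i = D.e (D.m * i) * D.y := by
  rw [← D.conj_e, inv_mul_cancel_right]

theorem e_zero : D.e 0 = 1 := E_zero

theorem e_one : D.e 1 = D.x := E_one D.hx

theorem b_zero : D.b 0 = D.y := by unfold b; rw [D.e_zero, one_mul]

theorem e_e (i j : D.Z) : D.e i * D.e j = D.e (i + j) := E_mul_E D.hx i j

theorem e_b (i j : D.Z) : D.e i * D.b j = D.b (i + j) := by
  unfold b; rw [← mul_assoc, D.e_e]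

theorem b_e (i j : D.Z) : D.b i * D.e j = D.b (i + D.m * j) := by
  unfold b; rw [mul_assoc, D.y_e, ← mul_assoc, D.e_e]

theorem b_b (i j : D.Z) : D.b i * D.b j = D.e (i + D.m * j) := by
  unfold b
  rw [mul_assoc, ← mul_assoc D.y, D.y_e, mul_assoc, D.yy, mul_one, D.e_e]

theorem e_inv (i : D.Z) : (D.e i)⁻¹ = D.e (-i) := E_inv D.hx i

theorem e_inj {i j : D.Z} : D.e i = D.e j ↔ i = j := E_inj D.hx

theorem e_eq_one_iff {i : D.Z} : D.e i = 1 ↔ i = 0 := E_eq_one_iff D.hx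

theorem b_inv (i : D.Z) : (D.b i)⁻¹ = D.b (-(D.m * i)) := by
  rw [inv_eq_iff_eq_inv, eq_inv_iff_mul_eq_one, D.b_b, D.e_eq_one_iff]
  linear_combination (-i) * D.mm

theorem b_inj {i j : D.Z} : D.b i = D.b j ↔ i = j := by
  unfold b; rw [mul_left_inj, D.e_inj]

theorem e_pow (i : D.Z) (k : ℕ) : D.e i ^ k = D.e (i * k) := E_pow D.hx i k

theorem e_mem (i : D.Z) : D.e i ∈ Subgroup.zpowers D.x := E_mem_zpowers i

theorem mem_zpowers_iff {g : S} : g ∈ Subgroup.zpowers D.x ↔ ∃ i : D.Z, g = D.e i :=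
  ZExp.mem_zpowers_iff D.hx

theorem h_ne_two : D.h ≠ 2 := by
  intro hh2
  have h1 : 2 * (D.q - 1) = 0 := by rw [D.h_eq] at hh2; linear_combination hh2
  rcases (D.two_mul_eq_zero_iff _).mp h1 with h2 | h2
  · have := congrArg D.par h2
    rw [map_sub, D.par_q, map_one, map_zero] at this
    revert this; decide
  · have := congrArg D.par h2
    rw [map_sub, D.par_q, map_one, D.par_h] at this
    revert this; decide

theorem m_ne_one : D.m ≠ 1 := by
  intro h1
  apply D.h_ne_two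
  rw [D.m_eq] at h1
  linear_combination h1

theorem y_not_mem : D.y ∉ Subgroup.zpowers D.x := by
  intro hmem
  obtain ⟨i, hi⟩ := D.mem_zpowers_iff.mp hmem
  have h1 := D.y_e 1
  rw [hi, D.e_e, D.e_e, D.e_inj] at h1
  apply D.m_ne_one
  linear_combination -h1

theorem b_ne_e (i j : D.Z) : D.b i ≠ D.e j := by
  intro hij
  apply D.y_not_mem
  have : D.y = D.e (j - i) := by
    unfold b at hij
    rw [sub_eq_add_neg, add_comm, ← D.e_e, ← D.e_inv, ← hij, inv_mul_cancel_left]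
  rw [this]; exact D.e_mem _

variable [Finite S]

theorem index_zpowers : (Subgroup.zpowers D.x).index = 2 := by
  have h1 := (Subgroup.zpowers D.x).card_mul_index
  rw [Nat.card_zpowers, D.hx, D.card, pow_succ] at h1
  exact Nat.eq_of_mul_eq_mul_left (by positivity) h1

/-- the normal form -/
theorem cases (g : S) : (∃ i : D.Z, g = D.e i) ∨ (∃ i : D.Z, g = D.b i) := by
  by_cases hg : g ∈ Subgroup.zpowers D.x
  · exact Or.inl (D.mem_zpowers_iff.mp hg)
  · right
    have : g * D.y ∈ Subgroup.zpowers D.x := by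
      rw [Subgroup.mul_mem_iff_of_index_two D.index_zpowers]
      exact ⟨fun h => absurd h hg, fun h => absurd h D.y_not_mem⟩
    obtain ⟨i, hi⟩ := D.mem_zpowers_iff.mp this
    refine ⟨i, ?_⟩
    unfold b
    rw [← hi, mul_assoc, D.yy, mul_one]

end Data

end Cfsg.Agent.helper6.QD
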