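import Mathlib
import Cfsg.Agent.Lib_helper6_QD

set_option autoImplicit false
set_option linter.unusedSectionVars false
set_option linter.unusedVariables false
set_option linter.style.haveILetI false

namespace Cfsg.Agent.helper6.QD

open Cfsg.Agent.helper6.ZExp Cfsg.Agent.helper6.TwoPow

variable {S : Type*} [Group S]

namespace Data

variable (D : Data S)

theorem one_add_m : 1 + D.m = D.h := by rw [D.m_eq]; ring

theorem sq_e (i : D.Z) : D.e i ^ 2 = D.e (2 * i) := by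
  rw [D.e_pow]; congr 1; push_cast; ring

theorem sq_b (i : D.Z) : D.b i ^ 2 = D.e (D.h * i) := by
  rw [pow_two, D.b_b]; congr 1
  rw [← D.one_add_m]; ring

theorem b_ne_one (i : D.Z) : D.b i ≠ 1 := by
  rw [← D.e_zero]; exact D.b_ne_e i 0

theorem e_ne_b (i j : D.Z) : D.e i ≠ D.b j := fun h => D.b_ne_e j i h.symm

theorem neg_q : -D.q = D.q + D.h := by
  linear_combination D.h_eq - D.two_h

theorem two_q_ne : 2 * D.q ≠ 0 := by rw [← D.h_eq]; exact D.h_ne

theorem q_ne : D.q ≠ 0 := by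
  intro h; apply D.two_q_ne; rw [h, mul_zero]

theorem four_q : 4 * D.q = 0 := by linear_combination (-2 : D.Z) * D.h_eq + D.two_h

theorem h_mul_eq_zero_iff (k : D.Z) : D.h * k = 0 ↔ D.par k = 0 :=
  half_mul_eq_zero_iff D.hn1 k

theorem four_mul_eq_zero_iff (k : D.Z) :
    4 * k = 0 ↔ k = 0 ∨ k = D.h ∨ k = D.q ∨ k = -D.q := by
  constructor
  · intro hk
    have h1 : 2 * (2 * k) = 0 := by linear_combination hk
    rcases (D.two_mul_eq_zero_iff _).mp h1 with h2 | h2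
    · rcases (D.two_mul_eq_zero_iff _).mp h2 with h3 | h3
      · exact Or.inl h3
      · exact Or.inr (Or.inl h3)
    · have h3 : 2 * (k - D.q) = 0 := by linear_combination h2 + D.h_eq
      rcases (D.two_mul_eq_zero_iff _).mp h3 with h4 | h4
      · exact Or.inr (Or.inr (Or.inl (by linear_combination h4)))
      · exact Or.inr (Or.inr (Or.inr (by rw [D.neg_q]; linear_combination h4)))
  · rintro (rfl | rfl | rfl | rfl)
    · ring
    · linear_combination 2 * D.two_h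
    · exact D.four_q
    · linear_combination (-1 : D.Z) * D.four_q

theorem orderOf_eq_two_iff' {t : S} : orderOf t = 2 ↔ t ^ 2 = 1 ∧ t ≠ 1 := by
  haveI : Fact (Nat.Prime 2) := ⟨Nat.prime_two⟩
  exact orderOf_eq_prime_iff

theorem orderOf_eq_four_iff' {t : S} : orderOf t = 4 ↔ t ^ 4 = 1 ∧ t ^ 2 ≠ 1 := by
  haveI : Fact (Nat.Prime 2) := ⟨Nat.prime_two⟩
  constructor
  · intro h
    refine ⟨by rw [← h]; exact pow_orderOf_eq_one t, ?_⟩
    apply pow_ne_one_of_lt_orderOf (by norm_num)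
    rw [h]; norm_num
  · rintro ⟨h4, h2⟩
    have := orderOf_eq_prime_pow (x := t) (p := 2) (n := 1) (by simpa using h2) (by simpa using h4)
    simpa using this

theorem orderOf_e_eq_two_iff (i : D.Z) : orderOf (D.e i) = 2 ↔ i = D.h := by
  rw [orderOf_eq_two_iff', D.sq_e, D.e_eq_one_iff, Ne, D.e_eq_one_iff, D.two_mul_eq_zero_iff]
  constructor
  · rintro ⟨h1 | h1, h2⟩
    · exact absurd h1 h2
    · exact h1
  · intro h1
    exact ⟨Or.inr h1, by rw [h1]; exact D.h_ne⟩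

theorem orderOf_b_eq_two_iff (i : D.Z) : orderOf (D.b i) = 2 ↔ D.par i = 0 := by
  rw [orderOf_eq_two_iff', D.sq_b, D.e_eq_one_iff, D.h_mul_eq_zero_iff]
  exact ⟨fun h => h.1, fun h => ⟨h, D.b_ne_one i⟩⟩

theorem orderOf_e_eq_four_iff (i : D.Z) : orderOf (D.e i) = 4 ↔ i = D.q ∨ i = -D.q := by
  rw [orderOf_eq_four_iff', D.sq_e, D.e_pow, D.e_eq_one_iff, Ne, D.e_eq_one_iff]
  have h4 : i * ((4 : ℕ) : D.Z) = 4 * i := by push_cast; ring
  rw [h4, D.four_mul_eq_zero_iff]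
  constructor
  · rintro ⟨h1 | h1 | h1 | h1, h2⟩
    · exact absurd (by rw [h1, mul_zero]) h2
    · exact absurd (by rw [h1]; exact D.two_h) h2
    · exact Or.inl h1
    · exact Or.inr h1
  · rintro (h1 | h1)
    · exact ⟨Or.inr (Or.inr (Or.inl h1)), by rw [h1]; exact D.two_q_ne⟩
    · refine ⟨Or.inr (Or.inr (Or.inr h1)), ?_⟩
      rw [h1]; intro h2; apply D.two_q_ne; linear_combination (-1 : D.Z) * h2

theorem orderOf_b_eq_four_iff (i : D.Z) : orderOf (D.b i) = 4 ↔ D.par i = 1 := by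
  rw [orderOf_eq_four_iff']
  have h4 : D.b i ^ 4 = 1 := by
    have : D.b i ^ 4 = (D.b i ^ 2) ^ 2 := by rw [← pow_mul]
    rw [this, D.sq_b, D.sq_e, D.e_eq_one_iff]
    linear_combination i * D.two_h
  rw [D.sq_b, Ne, D.e_eq_one_iff, D.h_mul_eq_zero_iff]
  constructor
  · rintro ⟨_, h2⟩
    rcases D.par_cases i with h | h
    · exact absurd h h2
    · exact h
  · intro h
    exact ⟨h4, by rw [h]; decide⟩

/-! ### conjugation formulas -/

theorem conj_e_b (k i : D.Z) : D.e k * D.b i * (D.e k)⁻¹ = D.b (i + k * (2 - D.h)) := by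
  rw [D.e_inv, D.e_b, D.b_e, D.b_inj, D.m_eq]; ring

theorem conj_b_b (k i : D.Z) :
    D.b k * D.b i * (D.b k)⁻¹ = D.b (D.m * i + k * (2 - D.h)) := by
  rw [D.b_inv, D.b_b, D.e_b, D.b_inj, D.m_eq]; ring

theorem conj_e_e (k i : D.Z) : D.e k * D.e i * (D.e k)⁻¹ = D.e i := by
  rw [D.e_inv, D.e_e, D.e_e, D.e_inj]; ring

theorem conj_b_e (k i : D.Z) : D.b k * D.e i * (D.b k)⁻¹ = D.e (D.m * i) := by
  rw [D.b_inv, D.b_e, D.b_b, D.e_inj]
  linear_combination (-k) * D.mm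

theorem m_mul_h : D.m * D.h = D.h := by
  rw [D.m_eq]; linear_combination D.hh - D.two_h

theorem m_mul_q : D.m * D.q = -D.q := by
  rw [D.m_eq]; linear_combination D.hq

theorem m_mul_even {i : D.Z} (hi : D.par i = 0) : D.m * i = -i := by
  rw [D.m_eq]; linear_combination D.h_mul_even hi

theorem m_mul_odd {i : D.Z} (hi : D.par i = 1) : D.m * i = D.h - i := by
  rw [D.m_eq]; linear_combination D.h_mul_odd hi

/-- `e h` is central. -/
theorem e_h_comm (g : S) [Finite S] : D.e D.h * g = g * D.e D.h := by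
  rcases D.cases g with ⟨i, rfl⟩ | ⟨i, rfl⟩
  · rw [D.e_e, D.e_e, add_comm]
  · rw [D.e_b, D.b_e, D.m_mul_h, add_comm]

theorem isConj_b_of_par_eq {i j : D.Z} (hij : D.par i = D.par j) : IsConj (D.b i) (D.b j) := by
  have h1 : D.par (j - i) = 0 := by rw [map_sub, hij, sub_self]
  obtain ⟨c, hc⟩ := (D.par_eq_zero_iff _).mp h1
  obtain ⟨k, hk⟩ := D.exists_mul_two_sub_h c
  rw [isConj_iff]
  refine ⟨D.e k, ?_⟩
  rw [D.conj_e_b, D.b_inj, hk, ← hc]; ring

theorem isConj_e_q : IsConj (D.e D.q) (D.e (-D.q)) := by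
  rw [isConj_iff]
  refine ⟨D.y, ?_⟩
  rw [D.conj_e, D.m_mul_q]

theorem not_isConj_e_b [Finite S] (i j : D.Z) : ¬ IsConj (D.e i) (D.b j) := by
  rw [isConj_iff]
  rintro ⟨g, hg⟩
  rcases D.cases g with ⟨k, rfl⟩ | ⟨k, rfl⟩
  · rw [D.conj_e_e] at hg; exact D.e_ne_b _ _ hg
  · rw [D.conj_b_e] at hg; exact D.e_ne_b _ _ hg

end Data

end Cfsg.Agent.helper6.QD
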