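import Mathlib
import Cfsg.Agent.Lib_helper6_QD2

set_option autoImplicit false
set_option linter.unusedSectionVars false
set_option linter.unusedVariables false
set_option linter.style.haveILetI false

namespace Cfsg.Agent.helper6.QD

open Cfsg.Agent.helper6.ZExp Cfsg.Agent.helper6.TwoPow

variable {S : Type*} [Group S]

/-- conjugating a centralizer -/
theorem map_conj_centralizer (s a : S) :
    (Subgroup.centralizer ({a} : Set S)).map (MulAut.conj s).toMonoidHom
      = Subgroup.centralizer ({s * a * s⁻¹} : Set S) := by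
  ext g
  simp only [Subgroup.mem_map, Subgroup.mem_centralizer_iff, Set.mem_singleton_iff, forall_eq,
    MulEquiv.coe_toMonoidHom, MulAut.conj_apply]
  constructor
  · rintro ⟨c, hc, rfl⟩
    calc s * a * s⁻¹ * (s * c * s⁻¹) = s * (a * c) * s⁻¹ := by group
      _ = s * (c * a) * s⁻¹ := by rw [hc]
      _ = s * c * s⁻¹ * (s * a * s⁻¹) := by group
  · intro hg
    refine ⟨s⁻¹ * g * s, ?_, by group⟩
    calc a * (s⁻¹ * g * s) = s⁻¹ * (s * a * s⁻¹ * g) * s := by group
      _ = s⁻¹ * (g * (s * a * s⁻¹)) * s := by rw [hg]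
      _ = s⁻¹ * g * s * a := by group

theorem mem_normalizer_of_map_conj (H : Subgroup S) (s : S)
    (h : H.map (MulAut.conj s).toMonoidHom = H) : s ∈ Subgroup.normalizer (H : Set S) := by
  rw [Subgroup.mem_normalizer_iff]
  intro g
  constructor
  · intro hg; rw [← h]; exact ⟨g, hg, rfl⟩
  · intro hg
    rw [← h] at hg
    obtain ⟨c, hc, hcg⟩ := hg
    have : c = g := by simpa using hcg
    rw [← this]; exact hc

namespace Data

variable (D : Data S)

theorem comm_b_b_iff (i j : D.Z) : D.b i * D.b j = D.b j * D.b i ↔ j = i ∨ j = i + D.h := by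
  rw [D.b_b, D.b_b, D.e_inj]
  have h1 : i + D.m * j = j + D.m * i ↔ (j - i) * (2 - D.h) = 0 := by
    rw [D.m_eq]
    constructor
    · intro h; linear_combination (-1 : D.Z) * h
    · intro h; linear_combination (-1 : D.Z) * h
  rw [h1, D.mul_two_sub_h_eq_zero_iff, D.two_mul_eq_zero_iff]
  constructor
  · rintro (h | h)
    · left; linear_combination h
    · right; linear_combination h
  · rintro (h | h)
    · left; linear_combination h
    · right; linear_combination h

theorem comm_e_b_iff (k i : D.Z) : D.e k * D.b i = D.b i * D.e k ↔ k = 0 ∨ k = D.h := by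
  rw [D.e_b, D.b_e, D.b_inj]
  have h1 : k + i = i + D.m * k ↔ k * (2 - D.h) = 0 := by
    rw [D.m_eq]
    constructor
    · intro h; linear_combination h
    · intro h; linear_combination h
  rw [h1, D.mul_two_sub_h_eq_zero_iff, D.two_mul_eq_zero_iff]

theorem e_h_b (i : D.Z) : D.e D.h * D.b i = D.b (i + D.h) := by
  rw [D.e_b, add_comm]

variable [Finite S]

theorem comm_b_iff (i : D.Z) (g : S) :
    g * D.b i = D.b i * g ↔ g = 1 ∨ g = D.e D.h ∨ g = D.b i ∨ g = D.b (i + D.h) := by
  rcases D.cases g with ⟨k, rfl⟩ | ⟨k, rfl⟩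
  · rw [D.comm_e_b_iff]
    constructor
    · rintro (h | h)
      · left; rw [h, D.e_zero]
      · right; left; rw [h]
    · rintro (h | h | h | h)
      · left; exact D.e_eq_one_iff.mp h
      · right; exact D.e_inj.mp h
      · exact absurd h (D.e_ne_b _ _)
      · exact absurd h (D.e_ne_b _ _)
  · rw [eq_comm, D.comm_b_b_iff]
    constructor
    · rintro (h | h)
      · right; right; left; rw [h]
      · right; right; right; rw [h]
    · rintro (h | h | h | h)
      · exact absurd h (D.b_ne_one _)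
      · exact absurd h (D.b_ne_e _ _)
      · left; exact D.b_inj.mp h
      · right; exact D.b_inj.mp h

/-- The centralizer of `b i`. -/
def V (i : D.Z) : Subgroup S := Subgroup.centralizer ({D.b i} : Set S)

theorem mem_V_iff (i : D.Z) (g : S) : g ∈ D.V i ↔ g * D.b i = D.b i * g := by
  unfold V
  rw [Subgroup.mem_centralizer_iff]
  simp only [Set.mem_singleton_iff, forall_eq]
  exact eq_comm

theorem mem_V_iff' (i : D.Z) (g : S) :
    g ∈ D.V i ↔ g = 1 ∨ g = D.e D.h ∨ g = D.b i ∨ g = D.b (i + D.h) := by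
  rw [D.mem_V_iff, D.comm_b_iff]

theorem card_V_le (i : D.Z) : Nat.card (D.V i) ≤ 4 := by
  classical
  have h1 : ((D.V i : Subgroup S) : Set S) ⊆
      (({1, D.e D.h, D.b i, D.b (i + D.h)} : Finset S) : Set S) := by
    intro g hg
    have := (D.mem_V_iff' i g).mp hg
    simp only [Finset.coe_insert, Finset.coe_singleton, Set.mem_insert_iff, Set.mem_singleton_iff]
    exact this
  have h2 := Set.ncard_le_ncard h1 (Finset.finite_toSet _)
  rw [Set.ncard_coe_finset] at h2
  have h3 : Nat.card (D.V i) = ((D.V i : Subgroup S) : Set S).ncard := Nat.card_coe_set_eq _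
  rw [h3]
  exact h2.trans Finset.card_le_four

/-- Every Klein four-subgroup is some `V i` with `i` even. -/
theorem klein_eq_V (T : Subgroup S) (hT : IsKleinFour T) :
    ∃ i : D.Z, D.par i = 0 ∧ T = D.V i := by
  have hsq : ∀ t ∈ T, t * t = 1 := by
    intro t ht
    have := IsKleinFour.mul_self (⟨t, ht⟩ : T)
    exact congrArg Subtype.val this
  have hcomm : ∀ s ∈ T, ∀ t ∈ T, s * t = t * s := by
    intro s hs t ht
    have := IsKleinFour.isMulCommutative (G := T)
    exact congrArg Subtype.val (mul_comm' (⟨s, hs⟩ : T) ⟨t, ht⟩)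
  have hex : ∃ i : D.Z, D.b i ∈ T := by
    by_contra hno
    push Not at hno
    have hle : T ≤ Subgroup.zpowers (D.e D.h) := by
      intro t ht
      rcases D.cases t with ⟨k, rfl⟩ | ⟨k, rfl⟩
      · have h1 := hsq _ ht
        rw [D.e_e, D.e_eq_one_iff] at h1
        have h2 : 2 * k = 0 := by linear_combination h1
        rcases (D.two_mul_eq_zero_iff k).mp h2 with h3 | h3
        · rw [h3, D.e_zero]; exact one_mem _
        · rw [h3]; exact Subgroup.mem_zpowers _
      · exact absurd ht (hno k)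
    have h1 := Subgroup.card_le_of_le hle
    rw [Nat.card_zpowers, (D.orderOf_e_eq_two_iff _).mpr rfl, IsKleinFour.card_four] at h1
    omega
  obtain ⟨i, hi⟩ := hex
  have hpar : D.par i = 0 := by
    have h1 := hsq _ hi
    rw [← pow_two, D.sq_b, D.e_eq_one_iff, D.h_mul_eq_zero_iff] at h1
    exact h1
  refine ⟨i, hpar, ?_⟩
  have hle : T ≤ D.V i := by
    intro t ht
    rw [D.mem_V_iff]
    exact hcomm t ht _ hi
  apply Subgroup.eq_of_le_of_card_ge hle
  rw [IsKleinFour.card_four (G := T)]
  exact D.card_V_le i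

theorem b_mem_V (i : D.Z) : D.b i ∈ D.V i := by
  rw [D.mem_V_iff]

theorem e_h_mem_V (i : D.Z) : D.e D.h ∈ D.V i := by
  rw [D.mem_V_iff']; right; left; rfl

theorem map_conj_V (s : S) (i j : D.Z) (h : s * D.b i * s⁻¹ = D.b j) :
    (D.V i).map (MulAut.conj s).toMonoidHom = D.V j := by
  unfold V
  rw [map_conj_centralizer, h]

include D in
theorem klein_conj (T₁ T₂ : Subgroup S) (h₁ : IsKleinFour T₁) (h₂ : IsKleinFour T₂) :
    ∃ s : S, T₁.map (MulAut.conj s).toMonoidHom = T₂ := by
  obtain ⟨i, hi, rfl⟩ := D.klein_eq_V T₁ h₁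
  obtain ⟨j, hj, rfl⟩ := D.klein_eq_V T₂ h₂
  obtain ⟨s, hs⟩ := isConj_iff.mp (D.isConj_b_of_par_eq (i := i) (j := j) (by rw [hi, hj]))
  exact ⟨s, D.map_conj_V s i j hs⟩

include D in
theorem klein_centralizer (T : Subgroup S) (hT : IsKleinFour T) :
    Subgroup.centralizer (T : Set S) = T := by
  have hcomm : ∀ s ∈ T, ∀ t ∈ T, s * t = t * s := by
    intro s hs t ht
    have := IsKleinFour.isMulCommutative (G := T)
    exact congrArg Subtype.val (mul_comm' (⟨s, hs⟩ : T) ⟨t, ht⟩)
  obtain ⟨i, hi, hTi⟩ := D.klein_eq_V T hT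
  apply le_antisymm
  · intro g hg
    rw [hTi, D.mem_V_iff]
    rw [Subgroup.mem_centralizer_iff] at hg
    exact (hg (D.b i) (by rw [hTi]; exact D.b_mem_V i)).symm
  · intro g hg
    rw [Subgroup.mem_centralizer_iff]
    intro t ht
    exact hcomm t ht g hg

theorem q_ne_h : D.q ≠ D.h := by
  intro h
  apply D.q_ne
  linear_combination (-1 : D.Z) * D.h_eq - h

include D in
theorem klein_relIndex (T : Subgroup S) (hT : IsKleinFour T) :
    T.relIndex (Subgroup.normalizer (T : Set S)) = 2 := by
  obtain ⟨i, hi, hTi⟩ := D.klein_eq_V T hT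
  subst hTi
  have hconj : D.e D.q * D.b i * (D.e D.q)⁻¹ = D.b (i + D.h) := by
    rw [D.conj_e_b, D.b_inj]
    linear_combination (-1 : D.Z) * D.h_eq - D.hq
  have ha : D.e D.q ∈ Subgroup.normalizer ((D.V i : Subgroup S) : Set S) := by
    have h1 : (D.V i).map (MulAut.conj (D.e D.q)).toMonoidHom = D.V i := by
      rw [D.map_conj_V _ i (i + D.h) hconj]
      ext g
      rw [D.mem_V_iff', D.mem_V_iff']
      have : i + D.h + D.h = i := by linear_combination D.two_h
      rw [this]
      tauto
    exact mem_normalizer_of_map_conj _ _ h1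
  have ha' : D.e D.q ∉ D.V i := by
    rw [D.mem_V_iff, D.comm_e_b_iff]
    rintro (h | h)
    · exact D.q_ne h
    · exact D.q_ne_h h
  unfold Subgroup.relIndex
  rw [Subgroup.index_eq_two_iff]
  refine ⟨⟨D.e D.q, ha⟩, ?_⟩
  rintro ⟨g, hg⟩
  simp only [Subgroup.mem_subgroupOf, Subgroup.coe_mul]
  have hgb : g * D.b i * g⁻¹ ∈ D.V i := (Subgroup.mem_normalizer_iff.mp hg _).mp (D.b_mem_V i)
  rw [D.mem_V_iff'] at hgb
  have hcj : IsConj (D.b i) (g * D.b i * g⁻¹) := isConj_iff.mpr ⟨g, rfl⟩
  rcases hgb with h | h | h | h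
  · exfalso
    have : D.b i = 1 := by
      have h2 := congrArg (fun t => g⁻¹ * t * g) h
      simp only [mul_one, inv_mul_cancel] at h2
      rw [← h2]; group
    exact D.b_ne_one _ this
  · exfalso
    rw [h] at hcj
    exact D.not_isConj_e_b _ _ hcj.symm
  · -- g centralizes b i
    have hgV : g ∈ D.V i := by
      rw [D.mem_V_iff]
      calc g * D.b i = (g * D.b i * g⁻¹) * g := by group
        _ = D.b i * g := by rw [h]
    right
    refine ⟨hgV, ?_⟩
    intro hga
    apply ha'
    have := (D.V i).mul_mem ((D.V i).inv_mem hgV) hga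
    rwa [inv_mul_cancel_left] at this
  · left
    constructor
    · rw [D.mem_V_iff]
      have h2 : g * D.e D.q * D.b i * (g * D.e D.q)⁻¹ = D.b i := by
        calc g * D.e D.q * D.b i * (g * D.e D.q)⁻¹
            = g * (D.e D.q * D.b i * (D.e D.q)⁻¹) * g⁻¹ := by group
          _ = g * (D.e D.h * D.b i) * g⁻¹ := by rw [hconj, D.e_h_b]
          _ = D.e D.h * (g * D.b i * g⁻¹) := by
              rw [← mul_assoc, ← D.e_h_comm g]; group
          _ = D.b i := by
              rw [h, D.e_h_b, D.b_inj]; linear_combination D.two_h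
      calc g * D.e D.q * D.b i = (g * D.e D.q * D.b i * (g * D.e D.q)⁻¹) * (g * D.e D.q) := by
            group
        _ = D.b i * (g * D.e D.q) := by rw [h2]
    · intro hgV
      rw [D.mem_V_iff] at hgV
      have : g * D.b i * g⁻¹ = D.b i := by rw [hgV]; group
      rw [this, D.b_inj] at h
      apply D.h_ne
      linear_combination -h

end Data

end Cfsg.Agent.helper6.QD
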