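import Mathlib
import Cfsg.Agent.Lib_helper6_QD3

set_option autoImplicit false
set_option linter.unusedSectionVars false
set_option linter.unusedVariables false
set_option linter.style.haveILetI false

namespace Cfsg.Agent.helper6.QD

open Cfsg.Agent.helper6.ZExp Cfsg.Agent.helper6.TwoPow

variable {S : Type*} [Group S]

/-- Facts about a subgroup isomorphic to the quaternion group of order 8. -/
structure Q8Facts (Q : Subgroup S) : Prop where
  pow4 : ∀ g ∈ Q, g ^ 4 = 1
  central : ∀ g ∈ Q, g ^ 2 = 1 → ∀ t ∈ Q, g * t = t * g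
  gens : ∃ u ∈ Q, ∃ v ∈ Q, u ^ 2 ≠ 1 ∧ v ^ 2 ≠ 1 ∧ (u * v) ^ 2 ≠ 1 ∧ u * v ≠ v * u
  card : Nat.card Q = 8

theorem q8Facts_of_equiv (Q : Subgroup S) (e : Q ≃* QuaternionGroup 2) : Q8Facts Q := by
  have h1 : ∀ g : QuaternionGroup 2, g ^ 4 = 1 := by decide
  have h2 : ∀ g : QuaternionGroup 2, g ^ 2 = 1 → ∀ t : QuaternionGroup 2, g * t = t * g := by
    decide
  have h3 : (QuaternionGroup.a 1 : QuaternionGroup 2) ^ 2 ≠ 1 ∧
      (QuaternionGroup.xa 0 : QuaternionGroup 2) ^ 2 ≠ 1 ∧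
      ((QuaternionGroup.a 1 : QuaternionGroup 2) * QuaternionGroup.xa 0) ^ 2 ≠ 1 ∧
      (QuaternionGroup.a 1 : QuaternionGroup 2) * QuaternionGroup.xa 0 ≠
        QuaternionGroup.xa 0 * QuaternionGroup.a 1 := by decide
  refine ⟨?_, ?_, ?_, ?_⟩
  · intro g hg
    have := h1 (e ⟨g, hg⟩)
    rw [← map_pow, MulEquiv.map_eq_one_iff] at this
    exact congrArg Subtype.val this
  · intro g hg hg2 t ht
    have hg2' : (e ⟨g, hg⟩) ^ 2 = 1 := by
      rw [← map_pow, MulEquiv.map_eq_one_iff]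
      exact Subtype.ext hg2
    have := h2 _ hg2' (e ⟨t, ht⟩)
    rw [← map_mul, ← map_mul] at this
    exact congrArg Subtype.val (e.injective this)
  · obtain ⟨ha, hb, hc, hd⟩ := h3
    refine ⟨(e.symm (QuaternionGroup.a 1) : S), Subtype.prop _,
      (e.symm (QuaternionGroup.xa 0) : S), Subtype.prop _, ?_, ?_, ?_, ?_⟩
    · intro h
      apply ha
      have : (e.symm (QuaternionGroup.a 1)) ^ 2 = 1 := Subtype.ext h
      rw [← map_pow, MulEquiv.map_eq_one_iff] at this
      exact this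
    · intro h
      apply hb
      have : (e.symm (QuaternionGroup.xa 0)) ^ 2 = 1 := Subtype.ext h
      rw [← map_pow, MulEquiv.map_eq_one_iff] at this
      exact this
    · intro h
      apply hc
      have : (e.symm (QuaternionGroup.a 1) * e.symm (QuaternionGroup.xa 0)) ^ 2 = 1 :=
        Subtype.ext h
      rw [← map_mul, ← map_pow, MulEquiv.map_eq_one_iff] at this
      exact this
    · intro h
      apply hd
      have : e.symm (QuaternionGroup.a 1) * e.symm (QuaternionGroup.xa 0) =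
          e.symm (QuaternionGroup.xa 0) * e.symm (QuaternionGroup.a 1) := Subtype.ext h
      rw [← map_mul, ← map_mul] at this
      exact e.symm.injective this
  · rw [Nat.card_congr e.toEquiv, Nat.card_eq_fintype_card, QuaternionGroup.card]

namespace Data

variable (D : Data S)

/-- `Q` is the quaternion subgroup attached to the odd index `i`. -/
structure IsQd (Q : Subgroup S) (i : D.Z) : Prop where
  odd : D.par i = 1
  e_mem : ∀ k : D.Z, D.e k ∈ Q ↔ 4 * k = 0
  b_mem : ∀ k : D.Z, D.b k ∈ Q ↔ 4 * (k - i) = 0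

theorem e_pow_four (k : D.Z) : D.e k ^ 4 = D.e (4 * k) := by
  rw [D.e_pow]; congr 1; push_cast; ring

variable [Finite S]

theorem exists_isQd (Q : Subgroup S) (hQ : Q8Facts Q) : ∃ i : D.Z, D.IsQd Q i := by
  obtain ⟨u, hu, v, hv, hu2, hv2, huv2, hnc⟩ := hQ.gens
  -- an element of order 4 in A
  have hA : ∀ k : D.Z, D.e k ∈ Q → D.e k ^ 2 ≠ 1 → D.e D.q ∈ Q := by
    intro k hk hk2
    have h4 := hQ.pow4 _ hk
    rw [D.e_pow_four, D.e_eq_one_iff, D.four_mul_eq_zero_iff] at h4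
    rw [D.sq_e, Ne, D.e_eq_one_iff] at hk2
    rcases h4 with h | h | h | h
    · exact absurd (by rw [h, mul_zero]) hk2
    · exact absurd (by rw [h]; exact D.two_h) hk2
    · rwa [h] at hk
    · have := Q.inv_mem hk
      rwa [D.e_inv, h, neg_neg] at this
  have hq : D.e D.q ∈ Q := by
    rcases D.cases u with ⟨k, rfl⟩ | ⟨k, rfl⟩
    · exact hA k hu hu2
    · rcases D.cases v with ⟨l, rfl⟩ | ⟨l, rfl⟩
      · exact hA l hv hv2
      · have huv := Q.mul_mem hu hv
        rw [D.b_b] at huv huv2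
        exact hA _ huv huv2
  -- an element outside A
  have hB : ∃ i : D.Z, D.b i ∈ Q := by
    rcases D.cases u with ⟨k, rfl⟩ | ⟨k, rfl⟩
    · rcases D.cases v with ⟨l, rfl⟩ | ⟨l, rfl⟩
      · exfalso; apply hnc; rw [D.e_e, D.e_e, add_comm]
      · exact ⟨l, hv⟩
    · exact ⟨k, hu⟩
  obtain ⟨i, hi⟩ := hB
  have hodd : D.par i = 1 := by
    rcases D.par_cases i with h | h
    · exfalso
      have h2 : D.b i ^ 2 = 1 := by rw [D.sq_b, D.h_mul_even h, D.e_zero]
      have hle : Q ≤ D.V i := by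
        intro t ht
        rw [D.mem_V_iff]
        exact (hQ.central _ hi h2 t ht).symm
      have := Subgroup.card_le_of_le hle
      rw [hQ.card] at this
      have := D.card_V_le i
      omega
    · exact h
  refine ⟨i, hodd, ?_, ?_⟩
  · intro k
    constructor
    · intro hk
      have := hQ.pow4 _ hk
      rwa [D.e_pow_four, D.e_eq_one_iff] at this
    · intro hk
      rcases (D.four_mul_eq_zero_iff k).mp hk with h | h | h | h
      · rw [h, D.e_zero]; exact one_mem _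
      · have := Q.mul_mem hq hq
        rw [D.e_e] at this
        rw [h, D.h_eq, two_mul]; exact this
      · rw [h]; exact hq
      · rw [h, ← D.e_inv]; exact Q.inv_mem hq
  · intro k
    have key : D.b k * (D.b i)⁻¹ = D.e (k - i) := by
      rw [D.b_inv, D.b_b, D.e_inj]
      linear_combination (-i) * D.mm
    constructor
    · intro hk
      have h1 := Q.mul_mem hk (Q.inv_mem hi)
      rw [key] at h1
      have := hQ.pow4 _ h1
      rwa [D.e_pow_four, D.e_eq_one_iff] at this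
    · intro hk
      have h1 : D.e (k - i) ∈ Q := by
        rcases (D.four_mul_eq_zero_iff _).mp hk with h | h | h | h
        · rw [h, D.e_zero]; exact one_mem _
        · have := Q.mul_mem hq hq
          rw [D.e_e] at this
          rw [h, D.h_eq, two_mul]; exact this
        · rw [h]; exact hq
        · rw [h, ← D.e_inv]; exact Q.inv_mem hq
      have h2 := Q.mul_mem h1 hi
      rw [D.e_b] at h2
      have : k - i + i = k := by ring
      rwa [this] at h2

theorem IsQd.mem_iff {Q : Subgroup S} {i : D.Z} (hQ : D.IsQd Q i) (g : S) :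
    g ∈ Q ↔ (∃ k, 4 * k = 0 ∧ g = D.e k) ∨ (∃ k, 4 * (k - i) = 0 ∧ g = D.b k) := by
  constructor
  · intro hg
    rcases D.cases g with ⟨k, rfl⟩ | ⟨k, rfl⟩
    · exact Or.inl ⟨k, (hQ.e_mem k).mp hg, rfl⟩
    · exact Or.inr ⟨k, (hQ.b_mem k).mp hg, rfl⟩
  · rintro (⟨k, hk, rfl⟩ | ⟨k, hk, rfl⟩)
    · exact (hQ.e_mem k).mpr hk
    · exact (hQ.b_mem k).mpr hk

/-- conjugation by `e c` moves `Qd i` to `Qd (i + c (2 - h))`. -/
theorem IsQd.conj_e_mem {Q₁ Q₂ : Subgroup S} {i₁ i₂ : D.Z} (h₁ : D.IsQd Q₁ i₁) (h₂ : D.IsQd Q₂ i₂)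
    (c : D.Z) (hc : 4 * (i₁ + c * (2 - D.h) - i₂) = 0) (g : S) (hg : g ∈ Q₁) :
    D.e c * g * (D.e c)⁻¹ ∈ Q₂ := by
  rcases (h₁.mem_iff D g).mp hg with ⟨k, hk, rfl⟩ | ⟨k, hk, rfl⟩
  · rw [D.conj_e_e]; exact (h₂.e_mem k).mpr hk
  · rw [D.conj_e_b, h₂.b_mem]
    linear_combination hk + hc

theorem map_conj_eq_of_forall {Q₁ Q₂ : Subgroup S} (s : S) (h1 : ∀ g ∈ Q₁, s * g * s⁻¹ ∈ Q₂)
    (h2 : ∀ g ∈ Q₂, s⁻¹ * g * s⁻¹⁻¹ ∈ Q₁) : Q₁.map (MulAut.conj s).toMonoidHom = Q₂ := by
  ext g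
  simp only [Subgroup.mem_map, MulEquiv.coe_toMonoidHom, MulAut.conj_apply]
  constructor
  · rintro ⟨c, hc, rfl⟩; exact h1 c hc
  · intro hg
    exact ⟨s⁻¹ * g * s⁻¹⁻¹, h2 g hg, by group⟩

include D in
theorem q8_conj (Q₁ Q₂ : Subgroup S) (h₁ : Q8Facts Q₁) (h₂ : Q8Facts Q₂) :
    ∃ s : S, Q₁.map (MulAut.conj s).toMonoidHom = Q₂ := by
  obtain ⟨i₁, hi₁⟩ := D.exists_isQd Q₁ h₁
  obtain ⟨i₂, hi₂⟩ := D.exists_isQd Q₂ h₂
  have hpar : D.par (i₂ - i₁) = 0 := by rw [map_sub, hi₁.odd, hi₂.odd, sub_self]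
  obtain ⟨j, hj⟩ := (D.par_eq_zero_iff _).mp hpar
  obtain ⟨c, hc⟩ := D.exists_mul_two_sub_h j
  refine ⟨D.e c, map_conj_eq_of_forall _ ?_ ?_⟩
  · intro g hg
    apply hi₁.conj_e_mem D hi₂ c _ g hg
    rw [hc, ← hj]; ring
  · intro g hg
    rw [D.e_inv]
    apply hi₂.conj_e_mem D hi₁ (-c) _ g hg
    have : -c * (2 - D.h) = -(2 * j) := by rw [← hc]; ring
    rw [this, ← hj]; ring

theorem IsQd.centralizer_le {Q : Subgroup S} {i : D.Z} (hQ : D.IsQd Q i) (g : S)
    (hg : g ∈ Subgroup.centralizer (Q : Set S)) : g = 1 ∨ g = D.e D.h := by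
  rw [Subgroup.mem_centralizer_iff] at hg
  have hb : D.b i ∈ Q := (hQ.b_mem i).mpr (by rw [sub_self, mul_zero])
  have hq : D.e D.q ∈ Q := (hQ.e_mem _).mpr D.four_q
  have h1 := (hg _ hb).symm
  have h2 := (hg _ hq).symm
  rcases (D.comm_b_iff i g).mp h1 with h | h | h | h
  · exact Or.inl h
  · exact Or.inr h
  · exfalso
    rw [h, D.b_e, D.e_b, D.b_inj, D.m_mul_q] at h2
    apply D.two_q_ne
    linear_combination (-1 : D.Z) * h2
  · exfalso
    rw [h, D.b_e, D.e_b, D.b_inj, D.m_mul_q] at h2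
    apply D.two_q_ne
    linear_combination (-1 : D.Z) * h2

include D in
theorem q8_centralizer (Q : Subgroup S) (h : Q8Facts Q) :
    Subgroup.centralizer (Q : Set S) = (Subgroup.center Q).map Q.subtype := by
  obtain ⟨i, hi⟩ := D.exists_isQd Q h
  have hhQ : D.e D.h ∈ Q := (hi.e_mem _).mpr (by linear_combination 2 * D.two_h)
  ext g
  constructor
  · intro hg
    have hgQ : g ∈ Q := by
      rcases hi.centralizer_le D g hg with h | h
      · rw [h]; exact one_mem _
      · rw [h]; exact hhQ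
    refine ⟨⟨g, hgQ⟩, ?_, rfl⟩
    rw [SetLike.mem_coe, Subgroup.mem_center_iff]
    rintro ⟨t, ht⟩
    apply Subtype.ext
    rw [Subgroup.mem_centralizer_iff] at hg
    exact hg t ht
  · rintro ⟨⟨c, hc⟩, hcz, rfl⟩
    rw [SetLike.mem_coe, Subgroup.mem_center_iff] at hcz
    rw [Subgroup.mem_centralizer_iff]
    intro t ht
    exact congrArg Subtype.val (hcz ⟨t, ht⟩)

theorem four_p : 4 * D.p = D.h := by rw [D.h_eq, D.q_eq]; ring

theorem eight_mul_cases (k : D.Z) (hk : 8 * k = 0) : 4 * k = 0 ∨ 4 * k = D.h := by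
  have : 2 * (4 * k) = 0 := by linear_combination hk
  exact (D.two_mul_eq_zero_iff _).mp this

theorem four_mul_two_sub_h (k : D.Z) (hk : 4 * (k * (2 - D.h)) = 0) : 8 * k = 0 := by
  have h1 : (4 * k) * (2 - D.h) = 0 := by linear_combination hk
  have h2 := (D.mul_two_sub_h_eq_zero_iff _).mp h1
  linear_combination h2

include D in
theorem q8_relIndex (Q : Subgroup S) (h : Q8Facts Q) :
    Q.relIndex (Subgroup.normalizer (Q : Set S)) = 2 := by
  obtain ⟨i, hi⟩ := D.exists_isQd Q h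
  have hp2 : 4 * (D.p * (2 - D.h)) = 0 := by
    linear_combination (2 - D.h) * D.four_p + D.two_h - D.hh
  have ha : D.e D.p ∈ Subgroup.normalizer (Q : Set S) := by
    apply mem_normalizer_of_map_conj
    apply map_conj_eq_of_forall
    · intro g hg
      apply hi.conj_e_mem D hi D.p _ g hg
      linear_combination hp2
    · intro g hg
      rw [D.e_inv]
      apply hi.conj_e_mem D hi (-D.p) _ g hg
      linear_combination (-1 : D.Z) * hp2
  unfold Subgroup.relIndex
  rw [Subgroup.index_eq_two_iff]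
  refine ⟨⟨D.e D.p, ha⟩, ?_⟩
  rintro ⟨g, hg⟩
  simp only [Subgroup.mem_subgroupOf, Subgroup.coe_mul]
  have hb : D.b i ∈ Q := (hi.b_mem i).mpr (by rw [sub_self, mul_zero])
  have hgb : g * D.b i * g⁻¹ ∈ Q := (Subgroup.mem_normalizer_iff.mp hg _).mp hb
  rcases D.cases g with ⟨k, rfl⟩ | ⟨k, rfl⟩
  · rw [D.conj_e_b, hi.b_mem] at hgb
    have h8 : 8 * k = 0 := by
      apply D.four_mul_two_sub_h
      linear_combination hgb
    rw [D.e_e, hi.e_mem, hi.e_mem]
    have h4 : 4 * (k + D.p) = 4 * k + D.h := by rw [← D.four_p]; ring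
    rw [h4]
    rcases D.eight_mul_cases k h8 with h | h
    · right
      refine ⟨h, ?_⟩
      rw [h, zero_add]; exact D.h_ne
    · left
      refine ⟨?_, ?_⟩
      · rw [h]; linear_combination D.two_h
      · rw [h]; exact D.h_ne
  · rw [D.conj_b_b, hi.b_mem] at hgb
    have h8 : 8 * (k - i) = 0 := by
      apply D.four_mul_two_sub_h
      rw [D.m_eq] at hgb
      linear_combination hgb
    rw [D.b_e, hi.b_mem, hi.b_mem]
    have h4 : 4 * (k + D.m * D.p - i) = 4 * (k - i) + D.h := by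
      rw [D.m_eq]
      linear_combination (D.h - 1) * D.four_p + D.hh - D.two_h
    rw [h4]
    rcases D.eight_mul_cases _ h8 with h | h
    · right
      refine ⟨h, ?_⟩
      rw [h, zero_add]; exact D.h_ne
    · left
      refine ⟨?_, ?_⟩
      · rw [h]; linear_combination D.two_h
      · rw [h]; exact D.h_ne

end Data

end Cfsg.Agent.helper6.QD
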