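import Cfsg.Statements.S1203
import Mathlib
import Cfsg.Agent.S1190
import Cfsg.Agent.S1191
import Cfsg.Agent.Lib_helper6_AutIdx
-- import your own Cfsg.Agent.* helpers here

set_option autoImplicit false
open Cfsg

namespace Cfsg.Agent.S1203


open Cfsg.Agent.helper6.AutIdx

/-- Transport of an element of `N_S(H ⊓ S)` to `N_G(H)` for `H ≤ S`. -/
theorem coe_mem_normalizer {G : Type*} [Group G] [Finite G] (S H : Subgroup G)
    (s' : S) (hs' : s' ∈ Subgroup.normalizer ((H.subgroupOf S : Subgroup S) : Set S))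
    (hHS : H ≤ S) : (s' : G) ∈ Subgroup.normalizer (H : Set G) := by
  apply Subgroup.mem_normalizer_fintype
  intro n hn
  have h1 := (Subgroup.mem_normalizer_iff.mp hs' ⟨n, hHS hn⟩).mp
    (by rw [Subgroup.mem_subgroupOf]; exact hn)
  rw [Subgroup.mem_subgroupOf] at h1
  exact h1

theorem coe_mem_centralizer {G : Type*} [Group G] (S H : Subgroup G)
    (c : G) (hcS : c ∈ S) (hc : c ∈ Subgroup.centralizer (H : Set G)) :
    (⟨c, hcS⟩ : S) ∈ Subgroup.centralizer ((H.subgroupOf S : Subgroup S) : Set S) := by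
  rw [Subgroup.mem_centralizer_iff]
  intro h hh
  apply Subtype.ext
  rw [Subgroup.mem_centralizer_iff] at hc
  exact hc (h : G) (by rwa [SetLike.mem_coe, Subgroup.mem_subgroupOf] at hh)

theorem exists_pow_two {G : Type*} [Group G] (S : Sylow 2 G) (s' : (S : Subgroup G)) :
    ∃ k : ℕ, (s' : G) ^ (2 ^ k) = 1 := by
  obtain ⟨k, hk⟩ := S.2 s'
  exact ⟨k, by rw [← Subgroup.coe_pow, hk]; rfl⟩

theorem klein_part {G : Type*} [Group G] [Finite G] (S : Sylow 2 G)
    (hS : Cfsg.IsQuasiDihedral (S : Subgroup G)) (T : Subgroup G) (hT : IsKleinFour T)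
    (hTS : T ≤ S) :
    (Subgroup.centralizer (T : Set G)).relIndex (Subgroup.normalizer (T : Set G)) = 2 ∨
    (Subgroup.centralizer (T : Set G)).relIndex (Subgroup.normalizer (T : Set G)) = 6 := by
  obtain ⟨-, hK⟩ := Cfsg.Agent.S1190.result hS
  have e' : T.subgroupOf (S : Subgroup G) ≃* T := Subgroup.subgroupOfEquivOfLe hTS
  have hT' : IsKleinFour (T.subgroupOf (S : Subgroup G)) :=
    ⟨by rw [Nat.card_congr e'.toEquiv]; exact hT.card_four,
     by rw [Monoid.exponent_eq_of_mulEquiv e']; exact hT.exponent_two⟩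
  obtain ⟨hc, hr⟩ := hK _ hT'
  have hnle : ¬ (Subgroup.normalizer ((T.subgroupOf (S : Subgroup G) : Subgroup S) : Set S)
      ≤ T.subgroupOf (S : Subgroup G)) := by
    intro hle
    rw [← Subgroup.relIndex_eq_one, hr] at hle
    exact absurd hle (by norm_num)
  obtain ⟨s', hs'N, hs'T⟩ := SetLike.not_le_iff_exists.mp hnle
  have hsN : (s' : G) ∈ Subgroup.normalizer (T : Set G) :=
    coe_mem_normalizer (S : Subgroup G) T s' hs'N hTS
  have hsC : (s' : G) ∉ Subgroup.centralizer (T : Set G) := by
    intro h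
    have := coe_mem_centralizer (S : Subgroup G) T (s' : G) s'.2 h
    rw [hc] at this
    exact hs'T this
  apply eq_two_or_six
  · exact (relIndex_dvd_card_mulAut T).trans (card_mulAut_klein_dvd T)
  · intro hodd
    have hker := Subgroup.normalizerMonoidHom_ker (H := T)
    have hnorm : ((Subgroup.centralizer (T : Set G)).subgroupOf
        (Subgroup.normalizer (T : Set G))).Normal := by
      rw [← hker]; infer_instance
    obtain ⟨k, hk⟩ := exists_pow_two S s'
    have := mem_of_odd_index ((Subgroup.centralizer (T : Set G)).subgroupOf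
        (Subgroup.normalizer (T : Set G))) hodd ⟨(s' : G), hsN⟩ k (by
          apply Subtype.ext; rw [Subgroup.coe_pow]; exact hk)
    rw [Subgroup.mem_subgroupOf] at this
    exact hsC this


theorem ker_comp_inclusion {G : Type*} [Group G] (Q : Subgroup G) :
    (Q.normalizerMonoidHom.comp (Subgroup.inclusion (Subgroup.le_normalizer (H := Q)))).ker
      = Subgroup.center Q := by
  ext x
  rw [MonoidHom.mem_ker, Subgroup.mem_center_iff]
  constructor
  · intro h g
    have h1 := congrArg (fun f : MulAut Q => ((f g : Q) : G)) h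
    simp only [MonoidHom.comp_apply, Subgroup.normalizerMonoidHom_apply_apply_coe,
      Subgroup.coe_inclusion, MulAut.one_apply] at h1
    apply Subtype.ext
    rw [Subgroup.coe_mul, Subgroup.coe_mul]
    conv_lhs => rw [← h1]
    group
  · intro h
    ext g
    simp only [MonoidHom.comp_apply, Subgroup.normalizerMonoidHom_apply_apply_coe,
      Subgroup.coe_inclusion, MulAut.one_apply]
    have h2 := congrArg (Subtype.val) (h g)
    rw [Subgroup.coe_mul, Subgroup.coe_mul] at h2
    rw [← h2]
    group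

theorem card_map_q8 {G : Type*} [Group G] [Finite G] (Q : Subgroup G)
    (eQ : Q ≃* QuaternionGroup 2) :
    Nat.card ((Q.subgroupOf (Subgroup.normalizer (Q : Set G))).map Q.normalizerMonoidHom) = 4 := by
  have h1 : (Q.subgroupOf (Subgroup.normalizer (Q : Set G))).map Q.normalizerMonoidHom
      = (Q.normalizerMonoidHom.comp
          (Subgroup.inclusion (Subgroup.le_normalizer (H := Q)))).range := by
    rw [← MonoidHom.map_range, Subgroup.inclusion_range]
  rw [h1, ← Subgroup.index_ker, ker_comp_inclusion]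
  have h2 := Subgroup.card_mul_index (Subgroup.center Q)
  have h8 : Nat.card (QuaternionGroup 2) = 8 := by
    rw [Nat.card_eq_fintype_card, QuaternionGroup.card]
  rw [card_center_q8 eQ, Nat.card_congr eQ.toEquiv, h8] at h2
  omega

theorem quat_part {G : Type*} [Group G] [Finite G] (S : Sylow 2 G)
    (hS : Cfsg.IsQuasiDihedral (S : Subgroup G)) (Q : Subgroup G) (hQS : Q ≤ S)
    (eQ : Q ≃* QuaternionGroup 2) :
    (Q ⊔ Subgroup.centralizer (Q : Set G)).relIndex (Subgroup.normalizer (Q : Set G)) = 2 ∨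
    (Q ⊔ Subgroup.centralizer (Q : Set G)).relIndex (Subgroup.normalizer (Q : Set G)) = 6 := by
  obtain ⟨-, hQ8⟩ := Cfsg.Agent.S1191.result hS
  have e' : Q.subgroupOf (S : Subgroup G) ≃* Q := Subgroup.subgroupOfEquivOfLe hQS
  obtain ⟨hc, hr⟩ := hQ8 _ ⟨e'.trans eQ⟩
  have hnle : ¬ (Subgroup.normalizer ((Q.subgroupOf (S : Subgroup G) : Subgroup S) : Set S)
      ≤ Q.subgroupOf (S : Subgroup G)) := by
    intro hle
    rw [← Subgroup.relIndex_eq_one, hr] at hle
    exact absurd hle (by norm_num)
  obtain ⟨s', hs'N, hs'Q⟩ := SetLike.not_le_iff_exists.mp hnle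
  have hsN : (s' : G) ∈ Subgroup.normalizer (Q : Set G) :=
    coe_mem_normalizer (S : Subgroup G) Q s' hs'N hQS
  have hker := Subgroup.normalizerMonoidHom_ker (H := Q)
  have hQN : Q ≤ Subgroup.normalizer (Q : Set G) := Subgroup.le_normalizer
  have hCN : Subgroup.centralizer (Q : Set G) ≤ Subgroup.normalizer (Q : Set G) :=
    Subgroup.centralizer_le_normalizer _
  have hsup := Subgroup.subgroupOf_sup hQN hCN
  have hK : (Q ⊔ Subgroup.centralizer (Q : Set G)).subgroupOf (Subgroup.normalizer (Q : Set G))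
      = Subgroup.comap Q.normalizerMonoidHom (Subgroup.map Q.normalizerMonoidHom
          (Q.subgroupOf (Subgroup.normalizer (Q : Set G)))) := by
    rw [Subgroup.comap_map_eq, hker, hsup]
  have hnormal : ((Q ⊔ Subgroup.centralizer (Q : Set G)).subgroupOf
      (Subgroup.normalizer (Q : Set G))).Normal := by
    rw [hsup]
    have : ((Subgroup.centralizer (Q : Set G)).subgroupOf
        (Subgroup.normalizer (Q : Set G))).Normal := by
      rw [← hker]; infer_instance
    infer_instance
  unfold Subgroup.relIndex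
  apply eq_two_or_six
  · rw [hK, Subgroup.index_comap]
    have h1 : (Q.subgroupOf (Subgroup.normalizer (Q : Set G))).map Q.normalizerMonoidHom
        ≤ Q.normalizerMonoidHom.range := Subgroup.map_le_range _ _
    have h2 := Subgroup.relIndex_mul_index h1
    have h3 := Subgroup.card_mul_index
      ((Q.subgroupOf (Subgroup.normalizer (Q : Set G))).map Q.normalizerMonoidHom)
    rw [card_map_q8 Q eQ] at h3
    have h5 := card_mulAut_q8_dvd eQ
    rw [← h3] at h5
    have h6 : ((Q.subgroupOf (Subgroup.normalizer (Q : Set G))).map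
        Q.normalizerMonoidHom).index ∣ 6 :=
      Nat.dvd_of_mul_dvd_mul_left (by norm_num : 0 < 4) h5
    exact (Dvd.intro _ h2).trans h6
  · intro hodd
    obtain ⟨k, hk⟩ := exists_pow_two S s'
    have hmem := mem_of_odd_index ((Q ⊔ Subgroup.centralizer (Q : Set G)).subgroupOf
        (Subgroup.normalizer (Q : Set G))) hodd ⟨(s' : G), hsN⟩ k (by
          apply Subtype.ext; rw [Subgroup.coe_pow]; exact hk)
    rw [hK, Subgroup.mem_comap, Subgroup.mem_map] at hmem
    obtain ⟨q, hq, hqs⟩ := hmem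
    have hcker : q⁻¹ * ⟨(s' : G), hsN⟩ ∈ Q.normalizerMonoidHom.ker := by
      rw [MonoidHom.mem_ker, map_mul, map_inv, hqs, inv_mul_cancel]
    rw [hker, Subgroup.mem_subgroupOf] at hcker
    rw [Subgroup.mem_subgroupOf] at hq
    have hcS : ((q⁻¹ * ⟨(s' : G), hsN⟩ : Subgroup.normalizer (Q : Set G)) : G)
        ∈ (S : Subgroup G) := by
      rw [Subgroup.coe_mul, Subgroup.coe_inv]
      exact Subgroup.mul_mem _ (Subgroup.inv_mem _ (hQS hq)) s'.2
    have h7 := coe_mem_centralizer (S : Subgroup G) Q _ hcS hcker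
    rw [hc] at h7
    obtain ⟨z, -, hz⟩ := h7
    have h8 : ((q⁻¹ * ⟨(s' : G), hsN⟩ : Subgroup.normalizer (Q : Set G)) : G) ∈ Q := by
      have h9 := congrArg (Subtype.val) hz
      simp only [Subgroup.subtype_apply] at h9
      rw [← h9]
      have := z.2
      rwa [Subgroup.mem_subgroupOf] at this
    apply hs'Q
    rw [Subgroup.mem_subgroupOf]
    have h10 : (s' : G) = (q : G) *
        ((q⁻¹ * ⟨(s' : G), hsN⟩ : Subgroup.normalizer (Q : Set G)) : G) := by
      rw [Subgroup.coe_mul, Subgroup.coe_inv]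
      group
    rw [h10]
    exact Subgroup.mul_mem _ hq h8

/-- Let G be a finite group with quasi-dihedral Sylow 2-subgroup S, T a Klein four-subgroup of S and Q a quaternion subgroup of order 8 of S. Then |N_G(T) : C_G(T)| ∈ {2, 6} and |N_G(Q) : Q C_G(Q)| ∈ {2, 6}. -/
theorem result {G : Type*} [Group G] [Finite G] (S : Sylow 2 G) (hS : Cfsg.IsQuasiDihedral (S : Subgroup G)) (T : Subgroup G) (hT : IsKleinFour T) (hTS : T ≤ S) (Q : Subgroup G) (hQS : Q ≤ S) (eQ : Q ≃* QuaternionGroup 2) : ((Subgroup.centralizer (T : Set G)).relIndex (Subgroup.normalizer (T : Set G)) = 2 ∨ (Subgroup.centralizer (T : Set G)).relIndex (Subgroup.normalizer (T : Set G)) = 6) ∧ ((Q ⊔ Subgroup.centralizer (Q : Set G)).relIndex (Subgroup.normalizer (Q : Set G)) = 2 ∨ (Q ⊔ Subgroup.centralizer (Q : Set G)).relIndex (Subgroup.normalizer (Q : Set G)) = 6) := by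
  exact ⟨klein_part S hS T hT hTS, quat_part S hS Q hQS eQ⟩

end Cfsg.Agent.S1203
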