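import Mathlib
import Cfsg.Agent.Lib_helper6_AutIdx
import Cfsg.Agent.S1203

set_option autoImplicit false

namespace Cfsg.Agent.helper6.AutIdx

instance finite_mulAut (T : Type*) [Group T] [Finite T] : Finite (MulAut T) :=
  Finite.of_injective (fun f : MulAut T => (f : T → T)) (fun _ _ h => DFunLike.coe_injective h)

/-- Sylow: a 2-element is conjugate into a given Sylow 2-subgroup. -/
theorem exists_conj_mem_sylow {G : Type*} [Group G] [Finite G] (S : Sylow 2 G) (t : G) (k : ℕ)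
    (ht : t ^ (2 ^ k) = 1) : ∃ g : G, g * t * g⁻¹ ∈ (S : Subgroup G) := by
  have hp : IsPGroup 2 (Subgroup.zpowers t) := by
    obtain ⟨j, -, hj⟩ := (Nat.dvd_prime_pow Nat.prime_two).mp (orderOf_dvd_of_pow_eq_one ht)
    exact IsPGroup.of_card (n := j) (by rw [Nat.card_zpowers, hj])
  obtain ⟨P, hP⟩ := hp.exists_le_sylow
  obtain ⟨g, hg⟩ := MulAction.exists_smul_eq G P S
  refine ⟨g, ?_⟩
  have h1 : t ∈ (P : Subgroup G) := hP (Subgroup.mem_zpowers t)
  rw [← hg, Sylow.coe_subgroup_smul]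
  have h2 := Subgroup.smul_mem_pointwise_smul t (MulAut.conj g) (P : Subgroup G) h1
  rwa [MulAut.smul_def, MulAut.conj_apply] at h2

/-- If `N_G(T)/C_G(T)` has order 6 for a Klein four-group `T`, then `N_G(T)` is transitive on the
involutions of `T`. -/
theorem klein_fusion {G : Type*} [Group G] [Finite G] (T : Subgroup G) (hT : IsKleinFour T)
    (h6 : (Subgroup.centralizer (T : Set G)).relIndex (Subgroup.normalizer (T : Set G)) = 6)
    (t₁ t₂ : G) (h₁ : t₁ ∈ T) (h₂ : t₂ ∈ T) (h₁' : t₁ ≠ 1) (h₂' : t₂ ≠ 1) :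
    ∃ g ∈ Subgroup.normalizer (T : Set G), g * t₁ * g⁻¹ = t₂ := by
  classical
  have hker := Subgroup.normalizerMonoidHom_ker (H := T)
  have hr : Nat.card T.normalizerMonoidHom.range = 6 := by
    rw [← Subgroup.index_ker, hker]; exact h6
  have hd1 : Nat.card T.normalizerMonoidHom.range ∣ Nat.card (MulAut T) :=
    Subgroup.card_subgroup_dvd_card _
  have hd2 := card_mulAut_klein_dvd T
  have hc : Nat.card (MulAut T) = 6 := Nat.dvd_antisymm hd2 (hr ▸ hd1)
  have htop : T.normalizerMonoidHom.range = ⊤ :=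
    Subgroup.eq_top_of_card_eq _ (by rw [hr, hc])
  have hone1 : (1 : T) ≠ ⟨t₁, h₁⟩ := fun h => h₁' (congrArg Subtype.val h).symm
  have hone2 : (1 : T) ≠ ⟨t₂, h₂⟩ := fun h => h₂' (congrArg Subtype.val h).symm
  let f : MulAut T := IsKleinFour.mulEquiv (Equiv.swap (⟨t₁, h₁⟩ : T) ⟨t₂, h₂⟩)
    (Equiv.swap_apply_of_ne_of_ne hone1 hone2)
  have hf : f ⟨t₁, h₁⟩ = ⟨t₂, h₂⟩ := Equiv.swap_apply_left _ _
  have hfr : f ∈ T.normalizerMonoidHom.range := by rw [htop]; trivial
  obtain ⟨g, hg⟩ := hfr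
  refine ⟨(g : G), g.2, ?_⟩
  have h3 := congrArg (fun φ : MulAut T => ((φ ⟨t₁, h₁⟩ : T) : G)) hg
  simp only [Subgroup.normalizerMonoidHom_apply_apply_coe] at h3
  rw [h3, hf]

/-- A free action of a group on a set of the same cardinality is transitive. -/
theorem exists_smul_eq_of_free {A β : Type*} [Group A] [MulAction A β] [Finite β]
    (h : ∀ b : β, MulAction.stabilizer A b = ⊥) (hc : Nat.card A = Nat.card β) (hpos : Nat.card β ≠ 0)
    (p p' : β) : ∃ f : A, f • p = p' := by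
  have e := MulAction.selfEquivOrbitsQuotientProd (G := A) (X := β) h
  have h1 : Nat.card β = Nat.card (Quotient (MulAction.orbitRel A β)) * Nat.card A := by
    rw [Nat.card_congr e, Nat.card_prod]
  have h2 : Nat.card (Quotient (MulAction.orbitRel A β)) = 1 := by
    rw [hc] at h1
    have h3 : Nat.card (Quotient (MulAction.orbitRel A β)) * Nat.card β = 1 * Nat.card β := by
      rw [one_mul]; exact h1.symm
    exact Nat.eq_of_mul_eq_mul_right (Nat.pos_of_ne_zero hpos) h3
  have h4 : Subsingleton (Quotient (MulAction.orbitRel A β)) :=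
    (Nat.card_eq_one_iff_unique.mp h2).1
  have h5 : (Quotient.mk'' p' : Quotient (MulAction.orbitRel A β)) = Quotient.mk'' p :=
    Subsingleton.elim _ _
  have h6 := Quotient.exact' h5
  rw [MulAction.orbitRel_apply, MulAction.mem_orbit_iff] at h6
  exact h6

theorem q8_partner : ∀ u : QuaternionGroup 2, u ^ 2 ≠ 1 → ∃ v, u * v ≠ v * u := by decide

theorem free_NC (p : NC) : MulAction.stabilizer (MulAut (QuaternionGroup 2)) p = ⊥ := by
  rw [Subgroup.eq_bot_iff_forall]
  intro f hf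
  rw [MulAction.mem_stabilizer_iff] at hf
  have hu : f p.1.1 = p.1.1 := by rw [← smul_NC_fst, hf]
  have hv : f p.1.2 = p.1.2 := by rw [← smul_NC_snd, hf]
  ext g
  rcases q8_gen p.1.1 p.1.2 g p.2 with h | h | h | h | h | h | h | h <;>
    rw [h] <;> simp [map_pow, hu, hv]

/-- If `|Aut(Q₈)| = 24` then it is transitive on elements of order 4. -/
theorem exists_aut_Q8 (hcard : Nat.card (MulAut (QuaternionGroup 2)) = 24)
    (u w : QuaternionGroup 2) (hu : u ^ 2 ≠ 1) (hw : w ^ 2 ≠ 1) :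
    ∃ f : MulAut (QuaternionGroup 2), f u = w := by
  obtain ⟨v, hv⟩ := q8_partner u hu
  obtain ⟨v', hv'⟩ := q8_partner w hw
  obtain ⟨f, hf⟩ := exists_smul_eq_of_free free_NC (by rw [hcard, card_NC])
    (by rw [card_NC]; norm_num) (⟨(u, v), hv⟩ : NC) ⟨(w, v'), hv'⟩
  refine ⟨f, ?_⟩
  have := congrArg (fun p : NC => p.1.1) hf
  simpa [smul_NC_fst] using this

theorem exists_aut_q8 {Q : Type*} [Group Q] (eQ : Q ≃* QuaternionGroup 2)
    (hcard : Nat.card (MulAut Q) = 24) (u w : Q) (hu : u ^ 2 ≠ 1) (hw : w ^ 2 ≠ 1) :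
    ∃ f : MulAut Q, f u = w := by
  have hc : Nat.card (MulAut (QuaternionGroup 2)) = 24 := by
    rw [← Nat.card_congr (MulAut.congr eQ).toEquiv]; exact hcard
  have hu' : (eQ u) ^ 2 ≠ 1 := by
    rw [← map_pow]; intro h; exact hu (eQ.injective (by rw [h, map_one]))
  have hw' : (eQ w) ^ 2 ≠ 1 := by
    rw [← map_pow]; intro h; exact hw (eQ.injective (by rw [h, map_one]))
  obtain ⟨f, hf⟩ := exists_aut_Q8 hc (eQ u) (eQ w) hu' hw'
  refine ⟨(MulAut.congr eQ).symm f, ?_⟩
  apply eQ.injective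
  rw [← hf]
  simp [MulAut.congr]

/-- If `|N_G(Q) : Q C_G(Q)| = 6` for `Q ≅ Q₈`, then `N_G(Q)` is transitive on the elements of
order 4 of `Q`. -/
theorem q8_fusion {G : Type*} [Group G] [Finite G] (Q : Subgroup G) (eQ : Q ≃* QuaternionGroup 2)
    (h6 : (Q ⊔ Subgroup.centralizer (Q : Set G)).relIndex (Subgroup.normalizer (Q : Set G)) = 6)
    (u w : G) (hu : u ∈ Q) (hw : w ∈ Q) (hu4 : u ^ 2 ≠ 1) (hw4 : w ^ 2 ≠ 1) :
    ∃ g ∈ Subgroup.normalizer (Q : Set G), g * u * g⁻¹ = w := by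
  have hker := Subgroup.normalizerMonoidHom_ker (H := Q)
  have hQN : Q ≤ Subgroup.normalizer (Q : Set G) := Subgroup.le_normalizer
  have hCN : Subgroup.centralizer (Q : Set G) ≤ Subgroup.normalizer (Q : Set G) :=
    Subgroup.centralizer_le_normalizer _
  have hsup := Subgroup.subgroupOf_sup hQN hCN
  have hK : (Q ⊔ Subgroup.centralizer (Q : Set G)).subgroupOf (Subgroup.normalizer (Q : Set G))
      = Subgroup.comap Q.normalizerMonoidHom (Subgroup.map Q.normalizerMonoidHom
          (Q.subgroupOf (Subgroup.normalizer (Q : Set G)))) := by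
    rw [Subgroup.comap_map_eq, hker, hsup]
  unfold Subgroup.relIndex at h6
  rw [hK, Subgroup.index_comap] at h6
  have h1 : (Q.subgroupOf (Subgroup.normalizer (Q : Set G))).map Q.normalizerMonoidHom
      ≤ Q.normalizerMonoidHom.range := Subgroup.map_le_range _ _
  have h2 := Subgroup.relIndex_mul_index h1
  have h3 := Subgroup.card_mul_index
    ((Q.subgroupOf (Subgroup.normalizer (Q : Set G))).map Q.normalizerMonoidHom)
  rw [Cfsg.Agent.S1203.card_map_q8 Q eQ] at h3
  have h4 := Subgroup.card_mul_index Q.normalizerMonoidHom.range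
  have h5 := card_mulAut_q8_dvd eQ
  rw [h6] at h2
  have hr : Nat.card Q.normalizerMonoidHom.range = 24 := by
    have hpos : 0 < Nat.card (MulAut Q) := Nat.card_pos
    have hle : Nat.card (MulAut Q) ≤ 24 := Nat.le_of_dvd (by norm_num) h5
    have hrpos : 0 < Q.normalizerMonoidHom.range.index := by
      rcases Nat.eq_zero_or_pos Q.normalizerMonoidHom.range.index with h0 | h0
      · rw [h0, mul_zero] at h4; omega
      · exact h0
    have h7 : 4 * (6 * Q.normalizerMonoidHom.range.index) = Nat.card (MulAut Q) := by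
      rw [h2]; exact h3
    have h8 : Q.normalizerMonoidHom.range.index = 1 := by nlinarith
    rw [h8, mul_one] at h4
    rw [h8, mul_one] at h7
    omega
  have hc : Nat.card (MulAut Q) = 24 :=
    Nat.dvd_antisymm h5 (hr ▸ Subgroup.card_subgroup_dvd_card _)
  have htop : Q.normalizerMonoidHom.range = ⊤ :=
    Subgroup.eq_top_of_card_eq _ (by rw [hr, hc])
  have hu' : (⟨u, hu⟩ : Q) ^ 2 ≠ 1 := fun h => hu4 (by
    have := congrArg Subtype.val h; simpa using this)
  have hw' : (⟨w, hw⟩ : Q) ^ 2 ≠ 1 := fun h => hw4 (by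
    have := congrArg Subtype.val h; simpa using this)
  obtain ⟨f, hf⟩ := exists_aut_q8 eQ hc ⟨u, hu⟩ ⟨w, hw⟩ hu' hw'
  have hfr : f ∈ Q.normalizerMonoidHom.range := by rw [htop]; trivial
  obtain ⟨g, hg⟩ := hfr
  refine ⟨(g : G), g.2, ?_⟩
  have h9 := congrArg (fun φ : MulAut Q => ((φ ⟨u, hu⟩ : Q) : G)) hg
  simp only [Subgroup.normalizerMonoidHom_apply_apply_coe] at h9
  rw [h9, hf]

end Cfsg.Agent.helper6.AutIdx
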