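import Mathlib
import Cfsg.Statements.S2530

set_option autoImplicit false
open Cfsg

namespace Cfsg.Agent.S2530

/-- Coxeter relations of type `A` for the first `n` members of a family indexed by `ℕ`. -/
structure IsCoxA {G : Type*} [Group G] (s : ℕ → G) (n : ℕ) : Prop where
  sq : ∀ i, i < n → s i * s i = 1
  braid : ∀ i, i + 1 < n → s i * s (i + 1) * s i = s (i + 1) * s i * s (i + 1)
  comm : ∀ i j, i + 2 ≤ j → j < n → s i * s j = s j * s i

section
variable {G : Type*} [Group G] (s : ℕ → G)

/-- coset representatives `d j = s 0 * s 1 * ⋯ * s (j-1)` -/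
def d : ℕ → G
  | 0 => 1
  | j + 1 => d j * s j

theorem d_zero : d s 0 = 1 := rfl
theorem d_succ (j : ℕ) : d s (j + 1) = d s j * s j := rfl

variable {s} {n : ℕ} (h : IsCoxA s n)
include h

theorem comm_d (j : ℕ) : ∀ i, j < i → i < n → s i * d s j = d s j * s i := by
  induction j with
  | zero => intro i _ _; simp [d_zero]
  | succ j ih =>
    intro i hji hin
    rw [d_succ, ← mul_assoc, ih i (by omega) hin, mul_assoc, ← h.comm j i (by omega) hin,
      mul_assoc]

theorem braid_d (j : ℕ) (hj : j ≤ n) : ∀ i, i + 1 < j → d s j * s i = s (i + 1) * d s j := by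
  induction j with
  | zero => intro i hi; omega
  | succ j ih =>
    intro i hi
    rcases Nat.lt_or_ge (i + 1) j with hlt | hge
    · rw [d_succ, mul_assoc, ← h.comm i j (by omega) (by omega), ← mul_assoc, ih (by omega) i hlt,
        mul_assoc]
    · have hij : j = i + 1 := by omega
      subst hij
      rw [d_succ, d_succ, mul_assoc, mul_assoc]
      have hb : s i * (s (i + 1) * s i) = s (i + 1) * s i * s (i + 1) := by
        rw [← mul_assoc]; exact h.braid i (by omega)
      rw [hb, ← mul_assoc, ← mul_assoc, ← comm_d h i (i + 1) (by omega) (by omega)]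
      simp only [mul_assoc]

end

/-- the main counting bound -/
theorem card_le (n : ℕ) : ∀ {G : Type*} [Group G] (s : ℕ → G), IsCoxA s n →
    Finite (Subgroup.closure (s '' {i | i < n})) ∧
      Nat.card (Subgroup.closure (s '' {i | i < n})) ≤ (n + 1).factorial := by
  induction n with
  | zero =>
    intro G _ s _
    have : (s '' {i | i < 0}) = ∅ := by simp
    rw [this, Subgroup.closure_empty]
    exact ⟨inferInstance, by simp⟩
  | succ n ih =>
    intro G _ s h
    set t : ℕ → G := fun i => s (i + 1) with ht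
    have hT : IsCoxA t n :=
      { sq := fun i hi => h.sq (i + 1) (by omega)
        braid := fun i hi => h.braid (i + 1) (by omega)
        comm := fun i j hij hj => h.comm (i + 1) (j + 1) (by omega) (by omega) }
    obtain ⟨hHfin, hHcard⟩ := ih t hT
    set H := Subgroup.closure (t '' {i | i < n}) with hH
    have htH : ∀ i, i < n → s (i + 1) ∈ H := fun i hi =>
      Subgroup.subset_closure ⟨i, hi, rfl⟩
    let S : Set G := {g | ∃ j, j ≤ n + 1 ∧ ∃ u ∈ H, g = u * d s j}
    have hS : ∀ i, i < n + 1 → ∀ g ∈ S, g * s i ∈ S := by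
      rintro i hi g ⟨j, hj, u, hu, rfl⟩
      rcases lt_trichotomy i j with hij | hij | hij
      · rcases Nat.lt_or_ge (i + 1) j with hlt | hge
        · refine ⟨j, hj, u * s (i + 1), H.mul_mem hu (htH i (by omega)), ?_⟩
          rw [mul_assoc, braid_d h j hj i hlt, mul_assoc]
        · have hji : j = i + 1 := by omega
          subst hji
          refine ⟨i, by omega, u, hu, ?_⟩
          rw [d_succ, mul_assoc, mul_assoc, h.sq i hi, mul_one]
      · subst hij
        exact ⟨i + 1, by omega, u, hu, by rw [d_succ, mul_assoc]⟩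
      · obtain ⟨i', rfl⟩ : ∃ i', i = i' + 1 := ⟨i - 1, by omega⟩
        refine ⟨j, hj, u * s (i' + 1), H.mul_mem hu (htH i' (by omega)), ?_⟩
        rw [mul_assoc, ← comm_d h j (i' + 1) hij hi, mul_assoc]
    have hinv : ∀ i, i < n + 1 → (s i)⁻¹ = s i := fun i hi =>
      inv_eq_of_mul_eq_one_right (h.sq i hi)
    set K := Subgroup.closure (s '' {i | i < n + 1}) with hK
    have hall : ∀ g ∈ K, (∀ x ∈ S, x * g ∈ S) ∧ (∀ x ∈ S, x * g⁻¹ ∈ S) := by
      intro g hg
      induction hg using Subgroup.closure_induction with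
      | mem w hw =>
        obtain ⟨i, hi, rfl⟩ := hw
        refine ⟨hS i hi, ?_⟩
        rw [hinv i hi]
        exact hS i hi
      | one => simp
      | mul a b _ _ iha ihb =>
        refine ⟨fun x hx => ?_, fun x hx => ?_⟩
        · rw [← mul_assoc]; exact ihb.1 _ (iha.1 _ hx)
        · rw [mul_inv_rev, ← mul_assoc]; exact iha.2 _ (ihb.2 _ hx)
      | inv a _ iha =>
        refine ⟨iha.2, ?_⟩
        rw [inv_inv]; exact iha.1
    have h1S : (1 : G) ∈ S := ⟨0, by omega, 1, H.one_mem, by rw [d_zero, mul_one]⟩
    have hKS : ∀ g ∈ K, g ∈ S := by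
      intro g hg
      have := (hall g hg).1 1 h1S
      rwa [one_mul] at this
    -- injection of K into Fin (n+2) × H
    choose jf hjf uf huf hguf using hKS
    let f : K → Fin (n + 2) × H := fun g =>
      (⟨jf g.1 g.2, by have := hjf g.1 g.2; omega⟩, ⟨uf g.1 g.2, huf g.1 g.2⟩)
    have hf : Function.Injective f := by
      intro a b hab
      apply Subtype.ext
      rw [hguf a.1 a.2, hguf b.1 b.2]
      have h1 : jf a.1 a.2 = jf b.1 b.2 := by
        have := congrArg (fun q => (q.1 : ℕ)) hab
        exact this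
      have h2 : uf a.1 a.2 = uf b.1 b.2 := by
        have := congrArg (fun q => (q.2 : G)) hab
        exact this
      rw [h1, h2]
    have hfinT : Finite (Fin (n + 2) × H) := inferInstance
    refine ⟨Finite.of_injective f hf, ?_⟩
    calc Nat.card K ≤ Nat.card (Fin (n + 2) × H) := Nat.card_le_card_of_injective f hf
      _ = (n + 2) * Nat.card H := by rw [Nat.card_prod, Nat.card_fin]
      _ ≤ (n + 2) * (n + 1).factorial := Nat.mul_le_mul_left _ hHcard
      _ = (n + 1 + 1).factorial := by rw [Nat.factorial_succ (n + 1)]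

theorem braid_of_pow {G : Type*} [Group G] {a b : G} (ha : a * a = 1) (hb : b * b = 1)
    (h3 : (a * b) ^ 3 = 1) : a * b * a = b * a * b := by
  have hai : a⁻¹ = a := inv_eq_of_mul_eq_one_right ha
  have hbi : b⁻¹ = b := inv_eq_of_mul_eq_one_right hb
  have h : a * b * a * (b * a * b) = 1 := by
    rw [← h3]; simp [pow_succ, mul_assoc]
  have := eq_inv_of_mul_eq_one_left h
  rw [this, mul_inv_rev, mul_inv_rev, hai, hbi, mul_assoc]

theorem comm_of_pow {G : Type*} [Group G] {a b : G} (ha : a * a = 1) (hb : b * b = 1)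
    (h2 : (a * b) ^ 2 = 1) : a * b = b * a := by
  have hai : a⁻¹ = a := inv_eq_of_mul_eq_one_right ha
  have hbi : b⁻¹ = b := inv_eq_of_mul_eq_one_right hb
  have h : a * b * (a * b) = 1 := by
    rw [← h2]; simp [pow_succ, mul_assoc]
  have := eq_inv_of_mul_eq_one_left h
  rw [this, mul_inv_rev, hai, hbi]

theorem A_adj (n : ℕ) (i j : Fin n) (hij : (i : ℕ) + 1 = j) : CoxeterMatrix.A n i j = 3 := by
  show (CoxeterMatrix.A n).M i j = 3
  have hne : i ≠ j := by
    intro h; rw [h] at hij; omega
  simp [CoxeterMatrix.A, hne, hij]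

theorem A_far (n : ℕ) (i j : Fin n) (hij : (i : ℕ) + 2 ≤ j) : CoxeterMatrix.A n i j = 2 := by
  show (CoxeterMatrix.A n).M i j = 2
  have hne : i ≠ j := by
    intro h; rw [h] at hij; omega
  have h1 : ¬ ((j : ℕ) + 1 = i) := by omega
  have h2 : ¬ ((i : ℕ) + 1 = j) := by omega
  simp [CoxeterMatrix.A, hne, h1, h2]

theorem liftable (n : ℕ) :
    (CoxeterMatrix.A n).IsLiftable (fun i : Fin n => Equiv.swap i.castSucc i.succ) := by
  intro i j
  show (Equiv.swap i.castSucc i.succ * Equiv.swap j.castSucc j.succ) ^ (CoxeterMatrix.A n).M i j = 1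
  by_cases hij : i = j
  · subst hij
    simp [CoxeterMatrix.A]
  by_cases h1 : (j : ℕ) + 1 = i
  · have hM : (CoxeterMatrix.A n).M i j = 3 := by simp [CoxeterMatrix.A, hij, h1]
    rw [hM]
    have e : i.castSucc = j.succ := by ext; simp [h1]
    rw [e]
    have h3 : (Equiv.swap j.succ i.succ * Equiv.swap j.succ j.castSucc).IsThreeCycle := by
      apply Equiv.Perm.isThreeCycle_swap_mul_swap_same
      · intro h; have := congrArg Fin.val h; simp at this; omega
      · intro h; have := congrArg Fin.val h; simp at this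
      · intro h; have := congrArg Fin.val h; simp at this; omega
    rw [Equiv.swap_comm j.castSucc j.succ]
    rw [← h3.orderOf]
    exact pow_orderOf_eq_one _
  by_cases h2 : (i : ℕ) + 1 = j
  · have hM : (CoxeterMatrix.A n).M i j = 3 := by simp [CoxeterMatrix.A, hij, h2]
    rw [hM]
    have e : j.castSucc = i.succ := by ext; simp [h2]
    rw [e]
    have h3 : (Equiv.swap i.succ i.castSucc * Equiv.swap i.succ j.succ).IsThreeCycle := by
      apply Equiv.Perm.isThreeCycle_swap_mul_swap_same
      · intro h; have := congrArg Fin.val h; simp at this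
      · intro h; have := congrArg Fin.val h; simp at this; omega
      · intro h; have := congrArg Fin.val h; simp at this; omega
    rw [Equiv.swap_comm i.castSucc i.succ]
    rw [← h3.orderOf]
    exact pow_orderOf_eq_one _
  · have hM : (CoxeterMatrix.A n).M i j = 2 := by simp [CoxeterMatrix.A, hij, h1, h2]
    rw [hM]
    have hne : (i : ℕ) ≠ j := fun h => hij (Fin.ext h)
    have n1 : i.castSucc ≠ i.succ := by
      intro h; have := congrArg Fin.val h; simp at this
    have n2 : i.castSucc ≠ j.castSucc := by
      intro h; have := congrArg Fin.val h; simp at this; omega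
    have n3 : i.castSucc ≠ j.succ := by
      intro h; have := congrArg Fin.val h; simp at this; omega
    have n4 : i.succ ≠ j.castSucc := by
      intro h; have := congrArg Fin.val h; simp at this; omega
    have n5 : i.succ ≠ j.succ := by
      intro h; have := congrArg Fin.val h; simp at this; omega
    have n6 : j.castSucc ≠ j.succ := by
      intro h; have := congrArg Fin.val h; simp at this
    have hd : Equiv.Perm.Disjoint (Equiv.swap i.castSucc i.succ) (Equiv.swap j.castSucc j.succ) := by
      apply Equiv.Perm.disjoint_swap_swap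
      simp [n1, n2, n3, n4, n5, n6]
    have hc := hd.commute.eq
    rw [pow_two, mul_assoc, ← mul_assoc (Equiv.swap j.castSucc j.succ), ← hc, mul_assoc,
      Equiv.swap_mul_self, mul_one, Equiv.swap_mul_self]

/-- The Coxeter presentation of the symmetric group. -/
theorem result (n : ℕ) :
    ∃ cs : CoxeterSystem (CoxeterMatrix.A n) (Equiv.Perm (Fin (n + 1))), ∀ i : Fin n, cs.simple i = Equiv.swap i.castSucc i.succ := by
  classical
  let cs0 : CoxeterSystem (CoxeterMatrix.A n) (CoxeterMatrix.A n).Group :=
    (CoxeterMatrix.A n).toCoxeterSystem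
  let s : ℕ → (CoxeterMatrix.A n).Group := fun i => if h : i < n then cs0.simple ⟨i, h⟩ else 1
  have hs : ∀ (i : ℕ) (h : i < n), s i = cs0.simple ⟨i, h⟩ := fun i h => dif_pos h
  have hcox : IsCoxA s n :=
    { sq := fun i hi => by rw [hs i hi]; exact cs0.simple_mul_simple_self _
      braid := fun i hi => by
        rw [hs i (by omega), hs (i + 1) hi]
        apply braid_of_pow (cs0.simple_mul_simple_self _) (cs0.simple_mul_simple_self _)
        have := cs0.simple_mul_simple_pow ⟨i, by omega⟩ ⟨i + 1, hi⟩
        rw [A_adj n ⟨i, by omega⟩ ⟨i + 1, hi⟩ rfl] at this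
        exact this
      comm := fun i j hij hj => by
        rw [hs i (by omega), hs j hj]
        apply comm_of_pow (cs0.simple_mul_simple_self _) (cs0.simple_mul_simple_self _)
        have := cs0.simple_mul_simple_pow ⟨i, by omega⟩ ⟨j, hj⟩
        rw [A_far n ⟨i, by omega⟩ ⟨j, hj⟩ hij] at this
        exact this }
  obtain ⟨hfin, hcard⟩ := card_le n s hcox
  have htop : Subgroup.closure (s '' {i | i < n}) = ⊤ := by
    rw [eq_top_iff, ← cs0.subgroup_closure_range_simple]
    apply Subgroup.closure_mono
    rintro _ ⟨i, rfl⟩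
    exact ⟨i.1, i.2, hs i.1 i.2⟩
  rw [htop] at hfin hcard
  have hfinG : Finite (CoxeterMatrix.A n).Group :=
    Finite.of_equiv _ (Subgroup.topEquiv (G := (CoxeterMatrix.A n).Group)).toEquiv
  rw [Subgroup.card_top] at hcard
  let φ : (CoxeterMatrix.A n).Group →* Equiv.Perm (Fin (n + 1)) := cs0.lift ⟨_, liftable n⟩
  have hφ : ∀ i : Fin n, φ (cs0.simple i) = Equiv.swap i.castSucc i.succ := fun i =>
    cs0.lift_apply_simple (liftable n) i
  have hsurj : Function.Surjective φ := by
    rw [← MonoidHom.range_eq_top, eq_top_iff]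
    intro g _
    have hg : g ∈ Submonoid.closure
        (Set.range fun i : Fin n => Equiv.swap i.castSucc i.succ) := by
      rw [Equiv.Perm.mclosure_swap_castSucc_succ]; trivial
    have hle : Submonoid.closure (Set.range fun i : Fin n => Equiv.swap i.castSucc i.succ) ≤
        φ.range.toSubmonoid := by
      rw [Submonoid.closure_le]
      rintro _ ⟨i, rfl⟩
      exact ⟨cs0.simple i, hφ i⟩
    exact hle hg
  have hbij : Function.Bijective φ := by
    apply hsurj.bijective_of_nat_card_le
    rw [Nat.card_eq_fintype_card (α := Equiv.Perm (Fin (n + 1))), Fintype.card_perm,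
      Fintype.card_fin]
    exact hcard
  refine ⟨⟨(MulEquiv.ofBijective φ hbij).symm⟩, ?_⟩
  intro i
  exact hφ i

end Cfsg.Agent.S2530
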