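import Mathlib
import Cfsg.Statements.S3335
import Cfsg.Agent.S2530

set_option autoImplicit false
open Cfsg

namespace Cfsg.Agent.S3335

open Cfsg.Agent.S2530 (IsCoxA)

/-- Carmichael relations for the first `m` members of a family indexed by `ℕ`. -/
structure IsCarm {E : Type*} [Group E] (x : ℕ → E) (m : ℕ) : Prop where
  cube0 : 0 < m → x 0 ^ 3 = 1
  sq : ∀ i, 1 ≤ i → i < m → x i ^ 2 = 1
  adj : ∀ i, i + 1 < m → (x i * x (i + 1)) ^ 3 = 1
  far : ∀ i j, i + 2 ≤ j → j < m → (x i * x j) ^ 2 = 1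

section carm
variable {E : Type*} [Group E] {x : ℕ → E} {m : ℕ} (h : IsCarm x m)
include h

theorem IsCarm.sq' (i : ℕ) (h1 : 1 ≤ i) (hi : i < m) : x i * x i = 1 := by
  rw [← pow_two]; exact h.sq i h1 hi

theorem IsCarm.inv0 (hm : 0 < m) : (x 0)⁻¹ = x 0 * x 0 := by
  have h3 := h.cube0 hm
  rw [pow_succ, pow_two] at h3
  exact inv_eq_of_mul_eq_one_left h3

theorem IsCarm.invk (i : ℕ) (h1 : 1 ≤ i) (hi : i < m) : (x i)⁻¹ = x i :=
  inv_eq_of_mul_eq_one_right (h.sq' i h1 hi)

theorem IsCarm.fark (i j : ℕ) (h1 : 1 ≤ i) (hij : i + 2 ≤ j) (hj : j < m) :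
    x i * x j = x j * x i :=
  S2530.comm_of_pow (h.sq' i h1 (by omega)) (h.sq' j (by omega) hj) (h.far i j hij hj)

theorem IsCarm.adjk (i : ℕ) (h1 : 1 ≤ i) (hi : i + 1 < m) :
    x i * x (i + 1) * x i = x (i + 1) * x i * x (i + 1) :=
  S2530.braid_of_pow (h.sq' i h1 (by omega)) (h.sq' (i + 1) (by omega) hi) (h.adj i hi)

theorem IsCarm.far0 (j : ℕ) (hj2 : 2 ≤ j) (hj : j < m) : x j * x 0 = (x 0)⁻¹ * x j := by
  have h1 : x 0 * x j * (x 0 * x j) = 1 := by
    rw [← pow_two]; exact h.far 0 j (by omega) hj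
  have h2 : (x 0)⁻¹ = x j * x 0 * x j := by
    apply inv_eq_of_mul_eq_one_right
    rw [← h1]; group
  calc x j * x 0 = x j * x 0 * (x j * x j) := by rw [h.sq' j (by omega) hj, mul_one]
    _ = x j * x 0 * x j * x j := by group
    _ = (x 0)⁻¹ * x j := by rw [← h2]

theorem IsCarm.adj0 (hm : 1 < m) : (x 0)⁻¹ * x 1 * (x 0)⁻¹ = x 1 * x 0 * x 1 := by
  have h3 : x 0 * x 1 * (x 0 * x 1) * (x 0 * x 1) = 1 := by
    have h4 := h.adj 0 hm
    rw [pow_succ, pow_two] at h4
    exact h4
  have e1 : x 0 * x 1 * (x 0 * x 1) = (x 0 * x 1)⁻¹ := mul_eq_one_iff_eq_inv.1 h3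
  have e2 : x 1 * x 0 * x 1 = (x 0)⁻¹ * ((x 0 * x 1) * (x 0 * x 1)) := by group
  rw [e2, e1, mul_inv_rev, h.invk 1 le_rfl hm, mul_assoc]

theorem IsCarm.map {F : Type*} [Group F] (f : E →* F) : IsCarm (fun i => f (x i)) m where
  cube0 := fun hm => by rw [← map_pow, h.cube0 hm, map_one]
  sq := fun i h1 hi => by rw [← map_pow, h.sq i h1 hi, map_one]
  adj := fun i hi => by rw [← map_mul, ← map_pow, h.adj i hi, map_one]
  far := fun i j hij hj => by rw [← map_mul, ← map_pow, h.far i j hij hj, map_one]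

end carm

/-! ### From Carmichael relations plus an inverting involution to Coxeter relations -/

/-- `s 0 = T`, `s (k+1) = T * x k`. -/
def sOf {E : Type*} [Mul E] (T : E) (x : ℕ → E) : ℕ → E
  | 0 => T
  | (k + 1) => T * x k

theorem braid_T {E : Type*} [Group E] (T a b a' : E) (hT : T * T = 1) (ha : T * a * T = a')
    (hb : T * b * T = b) (key : a' * b * a' = b * a * b) :
    T * a * (T * b) * (T * a) = T * b * (T * a) * (T * b) := by
  have hTi : T⁻¹ = T := inv_eq_of_mul_eq_one_right hT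
  have hTb : T * b = b * T := by
    calc T * b = T * b * T * T⁻¹ := by group
      _ = b * T := by rw [hb, hTi]
  have hTa : T * a = a' * T := by
    calc T * a = T * a * T * T⁻¹ := by group
      _ = a' * T := by rw [ha, hTi]
  have hTa' : T * a' = a * T := by
    rw [← ha]
    calc T * (T * a * T) = (T * T) * a * T := by group
      _ = a * T := by rw [hT, one_mul]
  have hL : T * a * (T * b) * (T * a) = (a' * b * a') * T := by
    calc T * a * (T * b) * (T * a) = a' * T * (b * T) * (a' * T) := by rw [hTa, hTb]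
      _ = a' * (T * b) * (T * a') * T := by group
      _ = a' * (b * T) * (a * T) * T := by rw [hTb, hTa']
      _ = a' * b * (T * a) * (T * T) := by group
      _ = a' * b * (a' * T) * 1 := by rw [hTa, hT]
      _ = (a' * b * a') * T := by group
  have hR : T * b * (T * a) * (T * b) = (b * a * b) * T := by
    calc T * b * (T * a) * (T * b) = b * T * (a' * T) * (b * T) := by rw [hTa, hTb]
      _ = b * (T * a') * (T * b) * T := by group
      _ = b * (a * T) * (b * T) * T := by rw [hTb, hTa']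
      _ = b * a * (T * b) * (T * T) := by group
      _ = b * a * (b * T) * 1 := by rw [hTb, hT]
      _ = (b * a * b) * T := by group
  rw [hL, hR, key]

theorem comm_T {E : Type*} [Group E] (T a b a' : E) (ha : T * a * T = a')
    (hb : T * b * T = b) (key : a' * b = b * a) : T * a * (T * b) = T * b * (T * a) := by
  calc T * a * (T * b) = (T * a * T) * b := by group
    _ = a' * b := by rw [ha]
    _ = b * a := key
    _ = (T * b * T) * a := by rw [hb]
    _ = T * b * (T * a) := by group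

theorem coxOfCarm {E : Type*} [Group E] (T : E) (x : ℕ → E) (m : ℕ) (h : IsCarm x m)
    (hT : T * T = 1) (hc0 : 0 < m → T * x 0 * T = (x 0)⁻¹)
    (hck : ∀ k, 1 ≤ k → k < m → T * x k * T = x k) : IsCoxA (sOf T x) (m + 1) where
  sq := by
    intro i hi
    cases i with
    | zero => exact hT
    | succ k =>
      show T * x k * (T * x k) = 1
      have e : T * x k * (T * x k) = (T * x k * T) * x k := by group
      rw [e]
      rcases Nat.eq_zero_or_pos k with rfl | hk
      · rw [hc0 (by omega), inv_mul_cancel]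
      · rw [hck k hk (by omega)]; exact h.sq' k hk (by omega)
  braid := by
    intro i hi
    cases i with
    | zero =>
      show T * (T * x 0) * T = T * x 0 * T * (T * x 0)
      have hm : 0 < m := by omega
      have e1 : T * (T * x 0) * T = (T * T) * x 0 * T := by group
      have e2 : T * x 0 * T * (T * x 0) = T * x 0 * (T * T) * x 0 := by group
      rw [e1, e2, hT, one_mul, mul_one]
      have h3 : T * (x 0 * x 0) = x 0 * T := by
        rw [← h.inv0 hm, ← hc0 hm]
        calc T * (T * x 0 * T) = (T * T) * x 0 * T := by group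
          _ = x 0 * T := by rw [hT, one_mul]
      rw [← h3, mul_assoc]
    | succ k =>
      show T * x k * (T * x (k + 1)) * (T * x k) = T * x (k + 1) * (T * x k) * (T * x (k + 1))
      rcases Nat.eq_zero_or_pos k with rfl | hk
      · exact braid_T T (x 0) (x 1) (x 0)⁻¹ hT (hc0 (by omega)) (hck 1 le_rfl (by omega))
          (h.adj0 (by omega))
      · exact braid_T T (x k) (x (k + 1)) (x k) hT (hck k hk (by omega))
          (hck (k + 1) (by omega) (by omega)) (h.adjk k hk (by omega))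
  comm := by
    intro i j hij hj
    obtain ⟨j', rfl⟩ : ∃ j', j = j' + 1 := ⟨j - 1, by omega⟩
    cases i with
    | zero =>
      show T * (T * x j') = T * x j' * T
      rw [hck j' (by omega) (by omega), ← mul_assoc, hT, one_mul]
    | succ k =>
      show T * x k * (T * x j') = T * x j' * (T * x k)
      rcases Nat.eq_zero_or_pos k with rfl | hk
      · exact comm_T T (x 0) (x j') (x 0)⁻¹ (hc0 (by omega)) (hck j' (by omega) (by omega))
          (h.far0 j' (by omega) (by omega)).symm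
      · exact comm_T T (x k) (x j') (x k) (hck k hk (by omega))
          (hck j' (by omega) (by omega)) (h.fark k j' hk (by omega) (by omega))

/-! ### From Coxeter relations to Carmichael relations -/

theorem pow3_of_braid {E : Type*} [Group E] {a b : E} (ha : a * a = 1) (hb : b * b = 1)
    (hbr : a * b * a = b * a * b) : (a * b) ^ 3 = 1 := by
  calc (a * b) ^ 3 = (a * b * a) * (b * a * b) := by rw [pow_succ, pow_two]; group
    _ = (b * a * b) * (b * a * b) := by rw [hbr]
    _ = b * a * (b * b) * a * b := by group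
    _ = b * (a * a) * b := by rw [hb]; group
    _ = 1 := by rw [ha, mul_one, hb]

theorem pow2_of_comm {E : Type*} [Group E] {a b : E} (ha : a * a = 1) (hb : b * b = 1)
    (hc : a * b = b * a) : (a * b) ^ 2 = 1 := by
  calc (a * b) ^ 2 = a * (b * a) * b := by rw [pow_two]; group
    _ = a * (a * b) * b := by rw [hc]
    _ = (a * a) * (b * b) := by group
    _ = 1 := by rw [ha, hb, one_mul]

theorem carmOfCox {E : Type*} [Group E] (t : ℕ → E) (k : ℕ) (h : IsCoxA t (k + 1)) :
    IsCarm (fun i => t 0 * t (i + 1)) k where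
  cube0 := by
    intro hk
    exact pow3_of_braid (h.sq 0 (by omega)) (h.sq 1 (by omega)) (h.braid 0 (by omega))
  sq := by
    intro i h1 hi
    exact pow2_of_comm (h.sq 0 (by omega)) (h.sq (i + 1) (by omega))
      (h.comm 0 (i + 1) (by omega) (by omega))
  adj := by
    intro i hi
    have h0 : t 0 * t 0 = 1 := h.sq 0 (by omega)
    have h0i : (t 0)⁻¹ = t 0 := inv_eq_of_mul_eq_one_right h0
    rcases Nat.eq_zero_or_pos i with rfl | hpos
    · -- t0 t1 t0 t2 = t0 (t1 t2) t0⁻¹
      have hc : t 0 * t 2 = t 2 * t 0 := h.comm 0 2 (by omega) (by omega)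
      have e : t 0 * t (0 + 1) * (t 0 * t (0 + 1 + 1)) = t 0 * (t 1 * t 2) * (t 0)⁻¹ := by
        show t 0 * t 1 * (t 0 * t 2) = t 0 * (t 1 * t 2) * (t 0)⁻¹
        rw [hc, h0i]; group
      rw [e, conj_pow,
        pow3_of_braid (h.sq 1 (by omega)) (h.sq 2 (by omega)) (h.braid 1 (by omega))]
      group
    · have hc : t 0 * t (i + 1) = t (i + 1) * t 0 := h.comm 0 (i + 1) (by omega) (by omega)
      have e : t 0 * t (i + 1) * (t 0 * t (i + 1 + 1)) = t (i + 1) * t (i + 1 + 1) := by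
        rw [hc]
        calc t (i + 1) * t 0 * (t 0 * t (i + 1 + 1)) = t (i + 1) * (t 0 * t 0) * t (i + 1 + 1) := by
              group
          _ = t (i + 1) * t (i + 1 + 1) := by rw [h0, mul_one]
      rw [e]
      exact pow3_of_braid (h.sq (i + 1) (by omega)) (h.sq (i + 1 + 1) (by omega))
        (h.braid (i + 1) (by omega))
  far := by
    intro i j hij hj
    have h0 : t 0 * t 0 = 1 := h.sq 0 (by omega)
    have h0i : (t 0)⁻¹ = t 0 := inv_eq_of_mul_eq_one_right h0
    rcases Nat.eq_zero_or_pos i with rfl | hpos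
    · have hc : t 0 * t (j + 1) = t (j + 1) * t 0 := h.comm 0 (j + 1) (by omega) (by omega)
      have e : t 0 * t (0 + 1) * (t 0 * t (j + 1)) = t 0 * (t 1 * t (j + 1)) * (t 0)⁻¹ := by
        show t 0 * t 1 * (t 0 * t (j + 1)) = t 0 * (t 1 * t (j + 1)) * (t 0)⁻¹
        rw [hc, h0i]; group
      rw [e, conj_pow,
        pow2_of_comm (h.sq 1 (by omega)) (h.sq (j + 1) (by omega))
          (h.comm 1 (j + 1) (by omega) (by omega))]
      group
    · have hc : t 0 * t (i + 1) = t (i + 1) * t 0 := h.comm 0 (i + 1) (by omega) (by omega)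
      have e : t 0 * t (i + 1) * (t 0 * t (j + 1)) = t (i + 1) * t (j + 1) := by
        rw [hc]
        calc t (i + 1) * t 0 * (t 0 * t (j + 1)) = t (i + 1) * (t 0 * t 0) * t (j + 1) := by
              group
          _ = t (i + 1) * t (j + 1) := by rw [h0, mul_one]
      rw [e]
      exact pow2_of_comm (h.sq (i + 1) (by omega)) (h.sq (j + 1) (by omega))
        (h.comm (i + 1) (j + 1) (by omega) (by omega))

/-! ### The presented group -/

/-- the relators, for `k` generators. -/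
def rels (k : ℕ) : Set (FreeGroup (Fin k)) :=
  {g : FreeGroup (Fin k) | ∃ i : Fin k, i.val = 0 ∧ g = FreeGroup.of i ^ 3} ∪
   {g | ∃ i : Fin k, 1 ≤ i.val ∧ g = FreeGroup.of i ^ 2} ∪
   {g | ∃ i j : Fin k, j.val = i.val + 1 ∧ g = (FreeGroup.of i * FreeGroup.of j) ^ 3} ∪
   {g | ∃ i j : Fin k, i.val + 1 < j.val ∧ g = (FreeGroup.of i * FreeGroup.of j) ^ 2}

abbrev Gp (k : ℕ) := PresentedGroup (rels k)

noncomputable def gx (k : ℕ) : ℕ → Gp k :=
  fun i => if h : i < k then PresentedGroup.of ⟨i, h⟩ else 1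

theorem gx_of (k i : ℕ) (h : i < k) : gx k i = PresentedGroup.of ⟨i, h⟩ := dif_pos h

theorem gx_carm (k : ℕ) : IsCarm (gx k) k where
  cube0 := by
    intro hk
    rw [gx_of k 0 hk]
    have h1 : PresentedGroup.mk (rels k) (FreeGroup.of ⟨0, hk⟩ ^ 3) = 1 :=
      PresentedGroup.one_of_mem (Or.inl (Or.inl (Or.inl ⟨⟨0, hk⟩, rfl, rfl⟩)))
    rwa [map_pow] at h1
  sq := by
    intro i h1 hi
    rw [gx_of k i hi]
    have h2 : PresentedGroup.mk (rels k) (FreeGroup.of ⟨i, hi⟩ ^ 2) = 1 :=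
      PresentedGroup.one_of_mem (Or.inl (Or.inl (Or.inr ⟨⟨i, hi⟩, h1, rfl⟩)))
    rwa [map_pow] at h2
  adj := by
    intro i hi
    rw [gx_of k i (by omega), gx_of k (i + 1) hi]
    have h2 : PresentedGroup.mk (rels k)
        ((FreeGroup.of ⟨i, by omega⟩ * FreeGroup.of ⟨i + 1, hi⟩) ^ 3) = 1 :=
      PresentedGroup.one_of_mem (Or.inl (Or.inr ⟨⟨i, by omega⟩, ⟨i + 1, hi⟩, rfl, rfl⟩))
    rwa [map_pow, map_mul] at h2
  far := by
    intro i j hij hj
    rw [gx_of k i (by omega), gx_of k j hj]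
    have h2 : PresentedGroup.mk (rels k)
        ((FreeGroup.of ⟨i, by omega⟩ * FreeGroup.of ⟨j, hj⟩) ^ 2) = 1 :=
      PresentedGroup.one_of_mem (Or.inr ⟨⟨i, by omega⟩, ⟨j, hj⟩, by show i + 1 < j; omega, rfl⟩)
    rwa [map_pow, map_mul] at h2

theorem lift_rels {H : Type*} [Group H] (k : ℕ) (y : ℕ → H) (hy : IsCarm y k) :
    ∀ r ∈ rels k, FreeGroup.lift (fun i : Fin k => y i.val) r = 1 := by
  rintro r (((⟨i, hi, rfl⟩ | ⟨i, hi, rfl⟩) | ⟨i, j, hij, rfl⟩) | ⟨i, j, hij, rfl⟩)
  · rw [map_pow, FreeGroup.lift_apply_of, hi]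
    exact hy.cube0 (by have := i.2; omega)
  · rw [map_pow, FreeGroup.lift_apply_of]
    exact hy.sq i.val hi i.2
  · rw [map_pow, map_mul, FreeGroup.lift_apply_of, FreeGroup.lift_apply_of, hij]
    exact hy.adj i.val (by have := j.2; omega)
  · rw [map_pow, map_mul, FreeGroup.lift_apply_of, FreeGroup.lift_apply_of]
    exact hy.far i.val j.val (by omega) j.2

noncomputable def liftHom {H : Type*} [Group H] (k : ℕ) (y : ℕ → H) (hy : IsCarm y k) :
    Gp k →* H :=
  PresentedGroup.toGroup (lift_rels k y hy)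

theorem liftHom_gx {H : Type*} [Group H] (k : ℕ) (y : ℕ → H) (hy : IsCarm y k) (i : ℕ)
    (hi : i < k) : liftHom k y hy (gx k i) = y i := by
  rw [gx_of k i hi]
  exact PresentedGroup.toGroup.of (lift_rels k y hy)

/-! ### The inverting automorphism -/

noncomputable def yθ (k : ℕ) : ℕ → Gp k
  | 0 => (gx k 0)⁻¹
  | (i + 1) => gx k (i + 1)

theorem yθ_carm (k : ℕ) : IsCarm (yθ k) k where
  cube0 := by
    intro hk
    show ((gx k 0)⁻¹) ^ 3 = 1
    rw [inv_pow, (gx_carm k).cube0 hk, inv_one]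
  sq := by
    intro i h1 hi
    obtain ⟨i', rfl⟩ : ∃ i', i = i' + 1 := ⟨i - 1, by omega⟩
    exact (gx_carm k).sq (i' + 1) h1 hi
  adj := by
    intro i hi
    rcases Nat.eq_zero_or_pos i with rfl | hpos
    · show ((gx k 0)⁻¹ * gx k 1) ^ 3 = 1
      have h1 := (gx_carm k).adj0 (by omega)
      have hb := (gx_carm k).sq' 1 le_rfl (by omega)
      calc ((gx k 0)⁻¹ * gx k 1) ^ 3
          = ((gx k 0)⁻¹ * gx k 1 * (gx k 0)⁻¹) * gx k 1 * ((gx k 0)⁻¹ * gx k 1) := by
            rw [pow_succ, pow_two]; group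
        _ = (gx k 1 * gx k 0 * gx k 1) * gx k 1 * ((gx k 0)⁻¹ * gx k 1) := by rw [h1]
        _ = gx k 1 * gx k 0 * (gx k 1 * gx k 1) * ((gx k 0)⁻¹ * gx k 1) := by group
        _ = gx k 1 * gx k 0 * 1 * ((gx k 0)⁻¹ * gx k 1) := by rw [hb]
        _ = gx k 1 * gx k 1 := by group
        _ = 1 := hb
    · obtain ⟨i', rfl⟩ : ∃ i', i = i' + 1 := ⟨i - 1, by omega⟩
      exact (gx_carm k).adj (i' + 1) hi
  far := by
    intro i j hij hj
    obtain ⟨j', rfl⟩ : ∃ j', j = j' + 1 := ⟨j - 1, by omega⟩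
    rcases Nat.eq_zero_or_pos i with rfl | hpos
    · show ((gx k 0)⁻¹ * gx k (j' + 1)) ^ 2 = 1
      have h1 := (gx_carm k).far0 (j' + 1) (by omega) hj
      have hb := (gx_carm k).sq' (j' + 1) (by omega) hj
      calc ((gx k 0)⁻¹ * gx k (j' + 1)) ^ 2
          = ((gx k 0)⁻¹ * gx k (j' + 1)) * ((gx k 0)⁻¹ * gx k (j' + 1)) := pow_two _
        _ = (gx k (j' + 1) * gx k 0) * ((gx k 0)⁻¹ * gx k (j' + 1)) := by rw [h1]
        _ = gx k (j' + 1) * gx k (j' + 1) := by group
        _ = 1 := hb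
    · obtain ⟨i', rfl⟩ : ∃ i', i = i' + 1 := ⟨i - 1, by omega⟩
      exact (gx_carm k).far (i' + 1) (j' + 1) hij hj

noncomputable def θ (k : ℕ) : Gp k →* Gp k := liftHom k (yθ k) (yθ_carm k)

theorem θ_gx0 (k : ℕ) (hk : 0 < k) : θ k (gx k 0) = (gx k 0)⁻¹ :=
  liftHom_gx k (yθ k) (yθ_carm k) 0 hk

theorem θ_gxs (k i : ℕ) (hi : i + 1 < k) : θ k (gx k (i + 1)) = gx k (i + 1) :=
  liftHom_gx k (yθ k) (yθ_carm k) (i + 1) hi

theorem θθ (k : ℕ) (g : Gp k) : θ k (θ k g) = g := by
  have h : (θ k).comp (θ k) = MonoidHom.id (Gp k) := by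
    apply PresentedGroup.ext
    intro i
    obtain ⟨i, hi⟩ := i
    rw [← gx_of k i hi]
    show θ k (θ k (gx k i)) = gx k i
    cases i with
    | zero => rw [θ_gx0 k hi, map_inv, θ_gx0 k hi, inv_inv]
    | succ i' => rw [θ_gxs k i' hi, θ_gxs k i' hi]
  exact DFunLike.congr_fun h g

noncomputable def θAut (k : ℕ) : MulAut (Gp k) :=
  { toFun := θ k
    invFun := θ k
    left_inv := fun g => θθ k g
    right_inv := fun g => θθ k g
    map_mul' := map_mul (θ k) }

theorem θAut_apply (k : ℕ) (g : Gp k) : θAut k g = θ k g := rfl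

theorem θAut_sq (k : ℕ) : θAut k * θAut k = 1 := by
  ext g
  rw [MulAut.mul_apply, MulAut.one_apply, θAut_apply, θAut_apply, θθ]

theorem neg_one_ne_one : (-1 : ℤˣ) ≠ 1 := by decide

noncomputable def φ (k : ℕ) : ℤˣ →* MulAut (Gp k) where
  toFun u := if u = 1 then 1 else θAut k
  map_one' := by simp
  map_mul' := by
    intro a b
    rcases Int.units_eq_one_or a with rfl | rfl <;> rcases Int.units_eq_one_or b with rfl | rfl
    · simp
    · simp
    · simp
    · simp [θAut_sq]

theorem φ_neg_one (k : ℕ) : φ k (-1) = θAut k := by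
  show (if (-1 : ℤˣ) = 1 then 1 else θAut k) = θAut k
  rw [if_neg neg_one_ne_one]

abbrev Ek (k : ℕ) := Gp k ⋊[φ k] ℤˣ

noncomputable def TT (k : ℕ) : Ek k := SemidirectProduct.inr (-1)

noncomputable def XX (k : ℕ) : ℕ → Ek k := fun i => SemidirectProduct.inl (gx k i)

theorem TT_sq (k : ℕ) : TT k * TT k = 1 := by
  unfold TT
  rw [← map_mul]
  have : (-1 : ℤˣ) * (-1) = 1 := by decide
  rw [this, map_one]

theorem TT_conj (k : ℕ) (g : Gp k) :
    TT k * SemidirectProduct.inl g * TT k = SemidirectProduct.inl (θ k g) := by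
  have h := SemidirectProduct.inl_aut (φ := φ k) (-1) g
  rw [φ_neg_one, θAut_apply] at h
  have hi : ((-1 : ℤˣ))⁻¹ = -1 := by decide
  rw [hi] at h
  exact h.symm

theorem XX_carm (k : ℕ) : IsCarm (XX k) k :=
  (gx_carm k).map (SemidirectProduct.inl : Gp k →* Ek k)

theorem sE_cox (k : ℕ) : IsCoxA (sOf (TT k) (XX k)) (k + 1) := by
  apply coxOfCarm (TT k) (XX k) k (XX_carm k) (TT_sq k)
  · intro hk
    show TT k * SemidirectProduct.inl (gx k 0) * TT k = (SemidirectProduct.inl (gx k 0))⁻¹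
    rw [TT_conj, θ_gx0 k hk, map_inv]
  · intro i h1 hi
    obtain ⟨i', rfl⟩ : ∃ i', i = i' + 1 := ⟨i - 1, by omega⟩
    show TT k * SemidirectProduct.inl (gx k (i' + 1)) * TT k = SemidirectProduct.inl (gx k (i' + 1))
    rw [TT_conj, θ_gxs k i' hi]

theorem closure_sE (k : ℕ) :
    Subgroup.closure ((sOf (TT k) (XX k)) '' {i | i < k + 1}) = ⊤ := by
  set K := Subgroup.closure ((sOf (TT k) (XX k)) '' {i | i < k + 1}) with hK
  have hT : TT k ∈ K := Subgroup.subset_closure ⟨0, by simp, rfl⟩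
  have hX : ∀ i, i < k → XX k i ∈ K := by
    intro i hi
    have h1 : TT k * XX k i ∈ K := Subgroup.subset_closure ⟨i + 1, by simpa using hi, rfl⟩
    have e : XX k i = (TT k)⁻¹ * (TT k * XX k i) := by group
    rw [e]
    exact K.mul_mem (K.inv_mem hT) h1
  have hinl : ∀ g : Gp k, (SemidirectProduct.inl g : Ek k) ∈ K := by
    intro g
    have := PresentedGroup.generated_by (rels k)
      (K.comap (SemidirectProduct.inl : Gp k →* Ek k)) (fun j => by
        rw [Subgroup.mem_comap]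
        have := hX j.val j.2
        rw [XX, gx_of k j.val j.2] at this
        exact this) g
    exact this
  have hinr : ∀ u : ℤˣ, (SemidirectProduct.inr u : Ek k) ∈ K := by
    intro u
    rcases Int.units_eq_one_or u with rfl | rfl
    · rw [map_one]; exact K.one_mem
    · exact hT
  rw [eq_top_iff]
  intro e _
  rw [← SemidirectProduct.inl_left_mul_inr_right e]
  exact K.mul_mem (hinl _) (hinr _)

theorem card_Gp (k : ℕ) : Finite (Gp k) ∧ Nat.card (Gp k) * 2 ≤ (k + 2).factorial := by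
  obtain ⟨hfin, hcard⟩ := S2530.card_le (k + 1) (sOf (TT k) (XX k)) (sE_cox k)
  rw [closure_sE k] at hfin hcard
  have hfinE : Finite (Ek k) :=
    Finite.of_equiv _ (Subgroup.topEquiv (G := Ek k)).toEquiv
  rw [Subgroup.card_top] at hcard
  have hfinG : Finite (Gp k) :=
    Finite.of_injective _ (SemidirectProduct.inl_injective (φ := φ k))
  refine ⟨hfinG, ?_⟩
  have h2 : Nat.card (Ek k) = Nat.card (Gp k) * Nat.card ℤˣ := SemidirectProduct.card
  have h3 : Nat.card ℤˣ = 2 := by
    rw [Nat.card_eq_fintype_card]; rfl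
  rw [h2, h3] at hcard
  exact hcard

/-! ### The map to the alternating group -/

noncomputable def tt (k : ℕ) : ℕ → Equiv.Perm (Fin (k + 2)) :=
  fun i => if h : i < k + 1 then
    Equiv.swap (⟨i, h⟩ : Fin (k + 1)).castSucc (⟨i, h⟩ : Fin (k + 1)).succ else 1

theorem tt_of (k i : ℕ) (h : i < k + 1) :
    tt k i = Equiv.swap (⟨i, h⟩ : Fin (k + 1)).castSucc (⟨i, h⟩ : Fin (k + 1)).succ := dif_pos h

theorem tt_cox (k : ℕ) : IsCoxA (tt k) (k + 1) where
  sq := fun i hi => by rw [tt_of k i hi]; exact Equiv.swap_mul_self _ _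
  braid := fun i hi => by
    rw [tt_of k i (by omega), tt_of k (i + 1) hi]
    apply S2530.braid_of_pow (Equiv.swap_mul_self _ _) (Equiv.swap_mul_self _ _)
    have h1 := S2530.liftable (k + 1) ⟨i, by omega⟩ ⟨i + 1, hi⟩
    rw [S2530.A_adj (k + 1) ⟨i, by omega⟩ ⟨i + 1, hi⟩ rfl] at h1
    exact h1
  comm := fun i j hij hj => by
    rw [tt_of k i (by omega), tt_of k j hj]
    apply S2530.comm_of_pow (Equiv.swap_mul_self _ _) (Equiv.swap_mul_self _ _)
    have h1 := S2530.liftable (k + 1) ⟨i, by omega⟩ ⟨j, hj⟩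
    rw [S2530.A_far (k + 1) ⟨i, by omega⟩ ⟨j, hj⟩ hij] at h1
    exact h1

theorem sign_tt (k i : ℕ) (h : i < k + 1) : Equiv.Perm.sign (tt k i) = -1 := by
  rw [tt_of k i h]
  apply Equiv.Perm.sign_swap
  intro he
  have := congrArg Fin.val he
  simp at this

noncomputable def rr (k : ℕ) : ℕ → Equiv.Perm (Fin (k + 2)) := fun i => tt k 0 * tt k (i + 1)

theorem rr_carm (k : ℕ) : IsCarm (rr k) k := carmOfCox (tt k) k (tt_cox k)

noncomputable def FF (k : ℕ) : Gp k →* Equiv.Perm (Fin (k + 2)) := liftHom k (rr k) (rr_carm k)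

theorem FF_gx (k i : ℕ) (hi : i < k) : FF k (gx k i) = rr k i := liftHom_gx k (rr k) (rr_carm k) i hi

theorem FF_mem (k : ℕ) (g : Gp k) : FF k g ∈ alternatingGroup (Fin (k + 2)) := by
  have := PresentedGroup.generated_by (rels k)
    ((alternatingGroup (Fin (k + 2))).comap (FF k)) (fun j => by
      rw [Subgroup.mem_comap, ← gx_of k j.val j.2, FF_gx k j.val j.2, Equiv.Perm.mem_alternatingGroup]
      show Equiv.Perm.sign (tt k 0 * tt k (j.val + 1)) = 1
      rw [map_mul, sign_tt k 0 (by omega), sign_tt k (j.val + 1) (by have := j.2; omega)]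
      decide) g
  exact this

theorem tt_sq (k i : ℕ) (h : i < k + 1) : tt k i * tt k i = 1 := (tt_cox k).sq i h

theorem tt_inv (k i : ℕ) (h : i < k + 1) : (tt k i)⁻¹ = tt k i :=
  inv_eq_of_mul_eq_one_right (tt_sq k i h)

theorem range_FF (k : ℕ) (σ : Equiv.Perm (Fin (k + 2))) (hσ : Equiv.Perm.sign σ = 1) :
    σ ∈ (FF k).range := by
  set K := (FF k).range with hK
  have h0 : ∀ i, i < k + 1 → tt k 0 * tt k i ∈ K := by
    intro i hi
    cases i with
    | zero => rw [tt_sq k 0 (by omega)]; exact K.one_mem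
    | succ i' => exact ⟨gx k i', FF_gx k i' (by omega)⟩
  have h1 : ∀ i, i < k + 1 → tt k i * tt k 0 ∈ K := by
    intro i hi
    have e : tt k i * tt k 0 = (tt k 0 * tt k i)⁻¹ := by
      rw [mul_inv_rev, tt_inv k i hi, tt_inv k 0 (by omega)]
    rw [e]; exact K.inv_mem (h0 i hi)
  have key : ∀ τ : Equiv.Perm (Fin (k + 2)),
      τ ∈ Submonoid.closure (Set.range fun i : Fin (k + 1) => Equiv.swap i.castSucc i.succ) →
      (Equiv.Perm.sign τ = 1 → τ ∈ K) ∧ (Equiv.Perm.sign τ = -1 → tt k 0 * τ ∈ K) := by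
    intro τ hτ
    induction hτ using Submonoid.closure_induction_left with
    | one =>
      refine ⟨fun _ => K.one_mem, fun h => ?_⟩
      rw [map_one] at h
      exact absurd h.symm neg_one_ne_one
    | mul_left x hx y hy ih =>
      obtain ⟨i, rfl⟩ := hx
      have hxi : Equiv.swap i.castSucc i.succ = tt k i.val := (tt_of k i.val i.2).symm
      beta_reduce
      rw [hxi]
      have hs : Equiv.Perm.sign (tt k i.val * y) = - Equiv.Perm.sign y := by
        rw [map_mul, sign_tt k i.val i.2, neg_one_mul]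
      refine ⟨fun h => ?_, fun h => ?_⟩
      · rw [hs] at h
        have hy1 : Equiv.Perm.sign y = -1 := by rw [← neg_neg (Equiv.Perm.sign y), h]
        have h2 := ih.2 hy1
        have e : tt k i.val * y = (tt k i.val * tt k 0) * (tt k 0 * y) := by
          calc tt k i.val * y = tt k i.val * (tt k 0 * tt k 0) * y := by
                rw [tt_sq k 0 (by omega), mul_one]
            _ = (tt k i.val * tt k 0) * (tt k 0 * y) := by group
        rw [e]; exact K.mul_mem (h1 i.val i.2) h2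
      · rw [hs] at h
        have hy1 : Equiv.Perm.sign y = 1 := by
          have := congrArg Neg.neg h
          rwa [neg_neg, neg_neg] at this
        have h2 := ih.1 hy1
        rw [← mul_assoc]
        exact K.mul_mem (h0 i.val i.2) h2
  have hmem : σ ∈ Submonoid.closure
      (Set.range fun i : Fin (k + 1) => Equiv.swap i.castSucc i.succ) := by
    rw [Equiv.Perm.mclosure_swap_castSucc_succ]; trivial
  exact (key σ hmem).1 hσ

theorem main (k : ℕ) : Nonempty (Gp k ≃* alternatingGroup (Fin (k + 2))) := by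
  obtain ⟨hfin, hcard⟩ := card_Gp k
  let F : Gp k →* alternatingGroup (Fin (k + 2)) :=
    (FF k).codRestrict (alternatingGroup (Fin (k + 2))) (FF_mem k)
  have hsurj : Function.Surjective F := by
    rintro ⟨σ, hσ⟩
    obtain ⟨g, hg⟩ := range_FF k σ (Equiv.Perm.mem_alternatingGroup.1 hσ)
    exact ⟨g, Subtype.ext hg⟩
  have hA : Nat.card (alternatingGroup (Fin (k + 2))) * 2 = (k + 2).factorial := by
    have h1 := two_mul_nat_card_alternatingGroup (α := Fin (k + 2))
    rw [Nat.card_perm, Nat.card_eq_fintype_card (α := Fin (k + 2)), Fintype.card_fin] at h1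
    omega
  have hbij : Function.Bijective F := by
    apply hsurj.bijective_of_nat_card_le
    omega
  exact ⟨MulEquiv.ofBijective F hbij⟩

theorem result (n : ℕ) (hn : 3 ≤ n) :
    Nonempty (PresentedGroup
      ({g : FreeGroup (Fin (n - 2)) | ∃ i : Fin (n - 2), i.val = 0 ∧ g = FreeGroup.of i ^ 3} ∪
       {g | ∃ i : Fin (n - 2), 1 ≤ i.val ∧ g = FreeGroup.of i ^ 2} ∪
       {g | ∃ i j : Fin (n - 2), j.val = i.val + 1 ∧ g = (FreeGroup.of i * FreeGroup.of j) ^ 3} ∪
       {g | ∃ i j : Fin (n - 2), i.val + 1 < j.val ∧ g = (FreeGroup.of i * FreeGroup.of j) ^ 2})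
      ≃* alternatingGroup (Fin n)) := by
  obtain ⟨m, rfl⟩ : ∃ m, n = m + 3 := ⟨n - 3, by omega⟩
  exact main (m + 1)

end Cfsg.Agent.S3335
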