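import Mathlib
import Cfsg.Agent.S3335
import Cfsg.Agent.S2530

set_option autoImplicit false

/-!
# Embedding `A₄` and `S₄` into a group from generators and relations

* `exists_injective_A4` : `x₀³ = x₁² = (x₀x₁)³ = 1`, `x₁ ≠ 1` give an injective `A₄ →* G`
  (via helper17's Carmichael presentation).
* `exists_injective_S4` : involutions `r₁ r₂ r₃` with `(r₁r₂)³ = (r₂r₃)³ = (r₁r₃)² = 1`,
  `r₁r₃ ≠ 1` give an injective `S₄ →* G` (via the Coxeter presentation).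
-/

namespace Cfsg.Agent.helper11.A4S4

set_option maxRecDepth 100000 in
theorem a4_normal_aux : ∀ g t : alternatingGroup (Fin 4), g ≠ 1 → t ^ 2 = 1 → t = 1 ∨
    ∃ h k : alternatingGroup (Fin 4), t = k * g * k⁻¹ ∨ t = k * (g⁻¹ * (h * g * h⁻¹)) * k⁻¹ := by
  decide +kernel

theorem a4_injective {G : Type*} [Group G] (ψ : alternatingGroup (Fin 4) →* G)
    (t : alternatingGroup (Fin 4)) (ht : t ^ 2 = 1) (hψ : ψ t ≠ 1) : Function.Injective ψ := by
  rw [← MonoidHom.ker_eq_bot_iff]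
  rcases Subgroup.bot_or_exists_ne_one ψ.ker with h | ⟨g, hg, hg1⟩
  · exact h
  · exfalso
    apply hψ
    have ht1 : t ≠ 1 := by
      rintro rfl
      exact hψ (map_one ψ)
    have hg' : ψ g = 1 := hg
    rcases a4_normal_aux g t hg1 ht with h1 | ⟨h, k, h2 | h2⟩
    · exact absurd h1 ht1
    · rw [h2]; simp [hg']
    · rw [h2]; simp [hg']

theorem exists_injective_A4 {G : Type*} [Group G] (x₀ x₁ : G) (h0 : x₀ ^ 3 = 1) (h1 : x₁ ^ 2 = 1)
    (h01 : (x₀ * x₁) ^ 3 = 1) (hne : x₁ ≠ 1) :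
    ∃ ψ : alternatingGroup (Fin 4) →* G, Function.Injective ψ := by
  obtain ⟨e⟩ := Cfsg.Agent.S3335.result 4 (by norm_num)
  let f : Fin (4 - 2) → G := ![x₀, x₁]
  have hf0 : ∀ i : Fin (4 - 2), i.val = 0 → f i = x₀ := by
    intro i hi
    have : i = (0 : Fin 2) := Fin.ext hi
    rw [this]; rfl
  have hf1 : ∀ i : Fin (4 - 2), 1 ≤ i.val → f i = x₁ := by
    intro i hi
    have : i = (1 : Fin 2) := Fin.ext (show i.val = 1 by have := i.2; omega)
    rw [this]; rfl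
  have hrel : ∀ r ∈ ({g : FreeGroup (Fin (4 - 2)) | ∃ i : Fin (4 - 2), i.val = 0 ∧ g = FreeGroup.of i ^ 3} ∪
       {g | ∃ i : Fin (4 - 2), 1 ≤ i.val ∧ g = FreeGroup.of i ^ 2} ∪
       {g | ∃ i j : Fin (4 - 2), j.val = i.val + 1 ∧ g = (FreeGroup.of i * FreeGroup.of j) ^ 3} ∪
       {g | ∃ i j : Fin (4 - 2), i.val + 1 < j.val ∧ g = (FreeGroup.of i * FreeGroup.of j) ^ 2}),
      FreeGroup.lift f r = 1 := by
    rintro r (((⟨i, hi, rfl⟩ | ⟨i, hi, rfl⟩) | ⟨i, j, hij, rfl⟩) | ⟨i, j, hij, rfl⟩)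
    · rw [map_pow, FreeGroup.lift_apply_of, hf0 i hi, h0]
    · rw [map_pow, FreeGroup.lift_apply_of, hf1 i hi, h1]
    · have hi : i.val = 0 := by have := j.2; omega
      have hj : 1 ≤ j.val := by omega
      rw [map_pow, map_mul, FreeGroup.lift_apply_of, FreeGroup.lift_apply_of, hf0 i hi, hf1 j hj,
        h01]
    · exfalso
      have := j.2
      omega
  let φ := PresentedGroup.toGroup hrel
  let ψ : alternatingGroup (Fin 4) →* G := φ.comp e.symm.toMonoidHom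
  let i1 : Fin (4 - 2) := (1 : Fin 2)
  have hψ1 : ψ (e (PresentedGroup.of i1)) = x₁ := by
    show φ (e.symm (e (PresentedGroup.of i1))) = x₁
    rw [MulEquiv.symm_apply_apply, PresentedGroup.toGroup.of]
    rfl
  have ht : (e (PresentedGroup.of i1)) ^ 2 = 1 := by
    rw [← map_pow, EmbeddingLike.map_eq_one_iff]
    show (PresentedGroup.mk _ (FreeGroup.of i1)) ^ 2 = 1
    rw [← map_pow]
    apply PresentedGroup.one_of_mem
    left; left; right
    exact ⟨i1, le_refl 1, rfl⟩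
  exact ⟨ψ, a4_injective ψ _ ht (by rw [hψ1]; exact hne)⟩

set_option maxRecDepth 100000 in
theorem s4_normal_aux : ∀ g : Equiv.Perm (Fin 4), g ≠ 1 → ∃ h k : Equiv.Perm (Fin 4),
    Equiv.swap 0 1 * Equiv.swap 2 3 = k * g * k⁻¹ ∨
      Equiv.swap 0 1 * Equiv.swap 2 3 = k * (g⁻¹ * (h * g * h⁻¹)) * k⁻¹ := by
  decide +kernel

theorem s4_injective {G : Type*} [Group G] (ψ : Equiv.Perm (Fin 4) →* G)
    (hψ : ψ (Equiv.swap 0 1 * Equiv.swap 2 3) ≠ 1) : Function.Injective ψ := by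
  rw [← MonoidHom.ker_eq_bot_iff]
  rcases Subgroup.bot_or_exists_ne_one ψ.ker with h | ⟨g, hg, hg1⟩
  · exact h
  · exfalso
    apply hψ
    have hg' : ψ g = 1 := hg
    rcases s4_normal_aux g hg1 with ⟨h, k, h2 | h2⟩
    · rw [h2]; simp [hg']
    · rw [h2]; simp [hg']

theorem exists_injective_S4 {G : Type*} [Group G] (r₁ r₂ r₃ : G) (h1 : r₁ ^ 2 = 1)
    (h2 : r₂ ^ 2 = 1) (h3 : r₃ ^ 2 = 1) (h12 : (r₁ * r₂) ^ 3 = 1) (h23 : (r₂ * r₃) ^ 3 = 1)
    (h13 : (r₁ * r₃) ^ 2 = 1) (hne : r₁ * r₃ ≠ 1) :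
    ∃ ψ : Equiv.Perm (Fin 4) →* G, Function.Injective ψ := by
  obtain ⟨cs, hcs⟩ := Cfsg.Agent.S2530.result 3
  have hinv : ∀ r : G, r ^ 2 = 1 → r⁻¹ = r := by
    intro r hr
    rw [inv_eq_iff_mul_eq_one, ← sq, hr]
  have hrev : ∀ (a b : G) (n : ℕ), a ^ 2 = 1 → b ^ 2 = 1 → (a * b) ^ n = 1 → (b * a) ^ n = 1 := by
    intro a b n ha hb hab
    have : b * a = (a * b)⁻¹ := by rw [mul_inv_rev, hinv a ha, hinv b hb]
    rw [this, inv_pow, hab, inv_one]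
  let f : Fin 3 → G := ![r₁, r₂, r₃]
  have key : ∀ i j : Fin 3, CoxeterMatrix.A 3 i j
      = (![![1, 3, 2], ![3, 1, 3], ![2, 3, 1]] : Fin 3 → Fin 3 → ℕ) i j := by
    intro i j
    fin_cases i <;> fin_cases j <;> rfl
  have hf : (CoxeterMatrix.A 3).IsLiftable f := by
    intro i j
    rw [key]
    fin_cases i <;> fin_cases j
    · show (r₁ * r₁) ^ 1 = 1
      rw [pow_one, ← sq, h1]
    · exact h12
    · exact h13
    · exact hrev _ _ _ h1 h2 h12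
    · show (r₂ * r₂) ^ 1 = 1
      rw [pow_one, ← sq, h2]
    · exact h23
    · exact hrev _ _ _ h1 h3 h13
    · exact hrev _ _ _ h2 h3 h23
    · show (r₃ * r₃) ^ 1 = 1
      rw [pow_one, ← sq, h3]
  let ψ : Equiv.Perm (Fin 4) →* G := cs.lift ⟨f, hf⟩
  have hs0 : cs.simple 0 = Equiv.swap (0 : Fin 4) 1 := hcs 0
  have hs2 : cs.simple 2 = Equiv.swap (2 : Fin 4) 3 := hcs 2
  have hψ : ψ (Equiv.swap 0 1 * Equiv.swap 2 3) = r₁ * r₃ := by
    rw [← hs0, ← hs2, map_mul]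
    show cs.lift ⟨f, hf⟩ (cs.simple 0) * cs.lift ⟨f, hf⟩ (cs.simple 2) = _
    rw [cs.lift_apply_simple hf, cs.lift_apply_simple hf]
    rfl
  exact ⟨ψ, s4_injective ψ (by rw [hψ]; exact hne)⟩

end Cfsg.Agent.helper11.A4S4
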