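import Mathlib

set_option autoImplicit false

/-!
# Recognising dihedral groups

`dihHom x y` : if `x ^ n = 1`, `y ^ 2 = 1`, `y x y⁻¹ = x⁻¹` there is a homomorphism
`DihedralGroup n →* G` with `r 1 ↦ x`, `sr 0 ↦ y`; it is injective as soon as `orderOf x = n`
and `y ∉ zpowers x`.
-/

namespace Cfsg.Agent.helper11.DihPres

open DihedralGroup

variable {G : Type*} [Group G] {n : ℕ} [NeZero n]

/-- powers of `x` indexed by `ZMod n` -/
def e (x : G) (i : ZMod n) : G := x ^ i.val

section

variable {x y : G} (hx : x ^ n = 1)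

include hx

theorem e_add (i j : ZMod n) : e x (i + j) = e x i * e x j := by
  unfold e
  rw [ZMod.val_add, ← pow_eq_pow_mod _ hx, pow_add]

omit hx in
theorem e_zero' : e x (0 : ZMod n) = 1 := by
  unfold e
  rw [ZMod.val_zero, pow_zero]

theorem e_neg (i : ZMod n) : e x (-i) = (e x i)⁻¹ := by
  apply eq_inv_of_mul_eq_one_left
  rw [← e_add hx, neg_add_cancel, e_zero']

theorem e_natCast (k : ℕ) : e x ((k : ℕ) : ZMod n) = x ^ k := by
  unfold e
  rw [ZMod.val_natCast, ← pow_eq_pow_mod _ hx]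

omit hx in
theorem conj_e (hxy : y * x * y⁻¹ = x⁻¹) (i : ZMod n) :
    y * e x i * y⁻¹ = (e x i)⁻¹ := by
  unfold e
  rw [← conj_pow, hxy, inv_pow]

theorem e_mul_y (hxy : y * x * y⁻¹ = x⁻¹) (i : ZMod n) :
    e x i * y = y * e x (-i) := by
  have h := conj_e (n := n) hxy (-i)
  rw [e_neg hx, inv_inv] at h
  rw [e_neg hx]
  exact (mul_inv_eq_iff_eq_mul.mp h).symm

/-- the underlying function -/
def dihFun (x y : G) : DihedralGroup n → G
  | r i => e x i
  | sr i => y * e x i

theorem dihFun_mul (hy : y * y = 1) (hxy : y * x * y⁻¹ = x⁻¹)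
    (u v : DihedralGroup n) : dihFun x y (u * v) = dihFun x y u * dihFun x y v := by
  rcases u with i | i <;> rcases v with j | j
  · rw [r_mul_r]
    simp only [dihFun]
    exact e_add hx i j
  · rw [r_mul_sr]
    simp only [dihFun]
    rw [← mul_assoc, e_mul_y hx hxy, mul_assoc, ← e_add hx, neg_add_eq_sub]
  · rw [sr_mul_r]
    simp only [dihFun]
    rw [e_add hx, mul_assoc]
  · rw [sr_mul_sr]
    simp only [dihFun]
    rw [mul_assoc, ← mul_assoc (e x i), e_mul_y hx hxy, ← mul_assoc, ← mul_assoc, hy, one_mul,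
      ← e_add hx, neg_add_eq_sub]

/-- the homomorphism from the dihedral group -/
def dihHom (x y : G) (hx : x ^ n = 1) (hy : y * y = 1) (hxy : y * x * y⁻¹ = x⁻¹) :
    DihedralGroup n →* G :=
  MonoidHom.mk' (dihFun x y) (dihFun_mul hx hy hxy)

theorem dihHom_r (hy : y * y = 1) (hxy : y * x * y⁻¹ = x⁻¹) (i : ZMod n) :
    dihHom x y hx hy hxy (r i) = x ^ i.val := rfl

theorem dihHom_sr (hy : y * y = 1) (hxy : y * x * y⁻¹ = x⁻¹) (i : ZMod n) :
    dihHom x y hx hy hxy (sr i) = y * x ^ i.val := rfl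

theorem dihHom_injective (hord : orderOf x = n) (hy : y * y = 1)
    (hxy : y * x * y⁻¹ = x⁻¹) (hyx : y ∉ Subgroup.zpowers x) :
    Function.Injective (dihHom x y hx hy hxy) := by
  rw [injective_iff_map_eq_one]
  intro u hu
  change dihFun x y u = 1 at hu
  rcases u with i | i
  · simp only [dihFun, e] at hu
    have h1 := orderOf_dvd_of_pow_eq_one hu
    rw [hord] at h1
    have h2 : i.val < n := ZMod.val_lt i
    have h3 : i.val = 0 := Nat.eq_zero_of_dvd_of_lt h1 h2
    rw [ZMod.val_eq_zero] at h3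
    rw [h3, r_zero]
  · exfalso
    simp only [dihFun] at hu
    have hyx' : y = (e x i)⁻¹ := eq_inv_of_mul_eq_one_left hu
    apply hyx
    rw [hyx']
    unfold e
    exact Subgroup.inv_mem _ (Subgroup.pow_mem _ (Subgroup.mem_zpowers x) _)

end

end Cfsg.Agent.helper11.DihPres
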