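import Mathlib

set_option autoImplicit false

namespace Cfsg.Agent.helper19

open DihedralGroup

/-- The index of an element of the dihedral group. -/
def dIdx {n : ℕ} : DihedralGroup n → ZMod n
  | r i => i
  | sr i => i

/-- The subgroup of elements whose index is killed by a ring hom (a dihedral subgroup). -/
def dSub {n d : ℕ} (c : ZMod n →+* ZMod d) : Subgroup (DihedralGroup n) where
  carrier := {x | c (dIdx x) = 0}
  one_mem' := by
    show c (dIdx (1 : DihedralGroup n)) = 0
    rw [one_def]; simp [dIdx]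
  mul_mem' := by
    intro x y hx hy
    cases x with
    | r i =>
      cases y with
      | r j =>
        have hx' : c i = 0 := hx
        have hy' : c j = 0 := hy
        show c (dIdx (r i * r j)) = 0
        rw [r_mul_r]; simp [dIdx, hx', hy']
      | sr j =>
        have hx' : c i = 0 := hx
        have hy' : c j = 0 := hy
        show c (dIdx (r i * sr j)) = 0
        rw [r_mul_sr]; simp [dIdx, hx', hy']
    | sr i =>
      cases y with
      | r j =>
        have hx' : c i = 0 := hx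
        have hy' : c j = 0 := hy
        show c (dIdx (sr i * r j)) = 0
        rw [sr_mul_r]; simp [dIdx, hx', hy']
      | sr j =>
        have hx' : c i = 0 := hx
        have hy' : c j = 0 := hy
        show c (dIdx (sr i * sr j)) = 0
        rw [sr_mul_sr]; simp [dIdx, hx', hy']
  inv_mem' := by
    intro x hx
    cases x with
    | r i =>
      have hx' : c i = 0 := hx
      show c (dIdx ((r i)⁻¹)) = 0
      rw [inv_r]; simp [dIdx, hx']
    | sr i =>
      have hx' : c i = 0 := hx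
      show c (dIdx ((sr i)⁻¹)) = 0
      rw [inv_sr]; simp [dIdx, hx']

theorem r_mem_dSub {n d : ℕ} (c : ZMod n →+* ZMod d) (i : ZMod n) :
    r i ∈ dSub c ↔ c i = 0 := Iff.rfl

theorem sr_mem_dSub {n d : ℕ} (c : ZMod n →+* ZMod d) (i : ZMod n) :
    sr i ∈ dSub c ↔ c i = 0 := Iff.rfl

/-- Necessity: if `n` is even and not a power of two, some non-cyclic subgroup of `D_n` is not
self-centralizing. -/
theorem dihedral_not_selfcent (n : ℕ) (hn : 3 ≤ n) (h1 : ¬ Odd n) (h2 : ¬ ∃ k : ℕ, n = 2 ^ k) :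
    ∃ H : Subgroup (DihedralGroup n), ¬ IsCyclic ↥H ∧
      ¬ Subgroup.centralizer (H : Set (DihedralGroup n)) ≤ H := by
  have hn0 : n ≠ 0 := by omega
  obtain ⟨k, m, hm, hnkm⟩ := Nat.exists_eq_two_pow_mul_odd hn0
  have hk : k ≠ 0 := by
    intro h0
    rw [h0, pow_zero, one_mul] at hnkm
    exact h1 (hnkm ▸ hm)
  have hm1 : m ≠ 1 := by
    intro h
    exact h2 ⟨k, by rw [hnkm, h, mul_one]⟩
  obtain ⟨k', rfl⟩ : ∃ k', k = k' + 1 := ⟨k - 1, by omega⟩
  have hhalf_eq : n / 2 = 2 ^ k' * m := by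
    rw [hnkm, pow_succ, mul_assoc, mul_comm 2 m, ← mul_assoc]
    exact Nat.mul_div_cancel _ (by norm_num)
  have hdn : 2 ^ (k' + 1) ∣ n := ⟨m, hnkm⟩
  have : NeZero n := ⟨hn0⟩
  let c : ZMod n →+* ZMod (2 ^ (k' + 1)) := ZMod.castHom hdn (ZMod (2 ^ (k' + 1)))
  refine ⟨dSub c, ?_, ?_⟩
  · intro hcyc
    have h3 : sr (0 : ZMod n) ∈ dSub c := by rw [sr_mem_dSub]; simp
    have h4 : r (((2 ^ (k' + 1) : ℕ)) : ZMod n) ∈ dSub c := by
      rw [r_mem_dSub, map_natCast]; simp
    have hcomm : IsMulCommutative ↥(dSub c) := IsCyclic.isMulCommutative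
    have h5 := mul_comm' (⟨sr 0, h3⟩ : ↥(dSub c)) ⟨r (((2 ^ (k' + 1) : ℕ)) : ZMod n), h4⟩
    have h6 : sr (0 : ZMod n) * r (((2 ^ (k' + 1) : ℕ)) : ZMod n) =
        r (((2 ^ (k' + 1) : ℕ)) : ZMod n) * sr 0 := congrArg Subtype.val h5
    rw [sr_mul_r, r_mul_sr] at h6
    have h7 : (0 : ZMod n) + (((2 ^ (k' + 1) : ℕ)) : ZMod n) =
        0 - (((2 ^ (k' + 1) : ℕ)) : ZMod n) := by
      injection h6
    have h8 : ((2 * 2 ^ (k' + 1) : ℕ) : ZMod n) = 0 := by
      rw [zero_add, zero_sub] at h7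
      have : (((2 ^ (k' + 1) : ℕ)) : ZMod n) + (((2 ^ (k' + 1) : ℕ)) : ZMod n) = 0 := by
        nth_rewrite 1 [h7]
        exact neg_add_cancel _
      rw [two_mul, Nat.cast_add]; exact this
    rw [ZMod.natCast_eq_zero_iff] at h8
    rw [hnkm] at h8
    have h9 : m ∣ 2 := by
      have : 2 ^ (k' + 1) * m ∣ 2 ^ (k' + 1) * 2 := by rw [mul_comm _ 2]; exact h8
      exact (Nat.mul_dvd_mul_iff_left (by positivity)).1 this
    have h10 : m = 1 ∨ m = 2 := (Nat.dvd_prime Nat.prime_two).1 h9
    rcases h10 with h | h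
    · exact hm1 h
    · rw [h] at hm; exact absurd hm (by decide)
  · intro hle
    have hhalf : ((n / 2 : ℕ) : ZMod n) + ((n / 2 : ℕ) : ZMod n) = 0 := by
      have he : n / 2 + n / 2 = n := by
        have : n % 2 = 0 := Nat.not_odd_iff.1 h1 
        omega
      rw [← Nat.cast_add, he, ZMod.natCast_self]
    have hz : r ((n / 2 : ℕ) : ZMod n) ∈ Subgroup.centralizer ((dSub c : Subgroup _) : Set _) := by
      rw [Subgroup.mem_centralizer_iff]
      intro y _
      cases y with
      | r j => rw [r_mul_r, r_mul_r, add_comm]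
      | sr j =>
        rw [sr_mul_r, r_mul_sr]
        congr 1
        have : ((n / 2 : ℕ) : ZMod n) = -((n / 2 : ℕ) : ZMod n) := eq_neg_of_add_eq_zero_left hhalf
        rw [sub_eq_add_neg, ← this]
    have h3 := hle hz
    rw [r_mem_dSub, map_natCast, ZMod.natCast_eq_zero_iff, hhalf_eq, pow_succ] at h3
    have h4 : 2 ∣ m := (Nat.mul_dvd_mul_iff_left (by positivity)).1 h3
    exact (Nat.not_even_iff_odd.2 hm) (even_iff_two_dvd.2 h4)

theorem exists_sr_mem_of_not_isCyclic {n : ℕ} (H : Subgroup (DihedralGroup n))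
    (hH : ¬ IsCyclic ↥H) : ∃ j, sr j ∈ H := by
  by_contra hno
  push Not at hno
  apply hH
  have hle : H ≤ Subgroup.zpowers (r (1 : ZMod n)) := by
    intro x hx
    cases x with
    | r i =>
      exact Subgroup.mem_zpowers_iff.2 ⟨(i.cast : ℤ), by rw [r_one_zpow, ZMod.intCast_zmod_cast]⟩
    | sr i => exact absurd hx (hno i)
  exact Subgroup.isCyclic_of_le hle

theorem zmod_add_self_odd {n : ℕ} (hn : Odd n) (c : ZMod n) (hc : c + c = 0) : c = 0 := by
  have hn0 : n ≠ 0 := by
    rintro rfl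
    exact absurd hn (by decide)
  have : NeZero n := ⟨hn0⟩
  have h1 : ((c.val + c.val : ℕ) : ZMod n) = 0 := by
    rw [Nat.cast_add, ZMod.natCast_zmod_val]; exact hc
  rw [ZMod.natCast_eq_zero_iff, ← two_mul] at h1
  have hcop : Nat.Coprime n 2 := Nat.coprime_two_right.2 hn
  have h2 : n ∣ c.val := Nat.Coprime.dvd_of_dvd_mul_left hcop h1
  have h3 : c.val = 0 := Nat.eq_zero_of_dvd_of_lt h2 (ZMod.val_lt c)
  exact (ZMod.val_eq_zero c).1 h3

theorem zmod_add_self_two_pow {k : ℕ} (c : ZMod (2 ^ (k + 1))) (hc : c + c = 0) :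
    c = 0 ∨ c = ((2 ^ k : ℕ) : ZMod (2 ^ (k + 1))) := by
  have : NeZero (2 ^ (k + 1)) := ⟨by positivity⟩
  have h1 : ((c.val + c.val : ℕ) : ZMod (2 ^ (k + 1))) = 0 := by
    rw [Nat.cast_add, ZMod.natCast_zmod_val]; exact hc
  rw [ZMod.natCast_eq_zero_iff, ← two_mul] at h1
  have h1' : 2 * 2 ^ k ∣ 2 * c.val := by
    have : 2 * 2 ^ k = 2 ^ (k + 1) := by rw [pow_succ, mul_comm]
    rw [this]; exact h1
  have h2 : 2 ^ k ∣ c.val := (Nat.mul_dvd_mul_iff_left (by norm_num)).1 h1'
  have h3 : c.val < 2 ^ (k + 1) := ZMod.val_lt c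
  obtain ⟨t, ht⟩ := h2
  have h4 : t < 2 := by
    by_contra hge
    push Not at hge
    have : 2 ^ k * 2 ≤ 2 ^ k * t := Nat.mul_le_mul_left _ hge
    have h3' : c.val < 2 ^ k * 2 := by rw [← pow_succ]; exact h3
    omega
  interval_cases t
  · left
    rw [mul_zero] at ht
    exact (ZMod.val_eq_zero c).1 ht
  · right
    rw [mul_one] at ht
    rw [← ht, ZMod.natCast_zmod_val]

/-- In `D_{2^(k+1)}`, a subgroup containing a nontrivial rotation contains the central
involution. -/
theorem r_half_mem {k : ℕ} (H : Subgroup (DihedralGroup (2 ^ (k + 1)))) (a : ZMod (2 ^ (k + 1)))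
    (ha : a ≠ 0) (haH : r a ∈ H) : r (((2 ^ k : ℕ)) : ZMod (2 ^ (k + 1))) ∈ H := by
  have : NeZero (2 ^ (k + 1)) := ⟨by positivity⟩
  have hne : r a ≠ (1 : DihedralGroup (2 ^ (k + 1))) := by
    rw [one_def]
    intro h
    apply ha
    injection h
  have ho : orderOf (r a) ∣ 2 ^ (k + 1) := by
    rw [orderOf_r]
    exact Nat.div_dvd_of_dvd (Nat.gcd_dvd_left _ _)
  obtain ⟨m, hm, hom⟩ := (Nat.dvd_prime_pow Nat.prime_two).1 ho
  have hm0 : m ≠ 0 := by
    rintro rfl
    rw [pow_zero, orderOf_eq_one_iff] at hom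
    exact hne hom
  obtain ⟨m', rfl⟩ : ∃ m', m = m' + 1 := ⟨m - 1, by omega⟩
  have hzH : (r a) ^ (2 ^ m') ∈ H := H.pow_mem haH _
  have hz1 : (r a) ^ (2 ^ m') ≠ 1 := by
    apply pow_ne_one_of_lt_orderOf (by positivity)
    rw [hom, pow_succ]
    have : 0 < 2 ^ m' := by positivity
    omega
  have hz2 : ((r a) ^ (2 ^ m')) ^ 2 = 1 := by
    rw [← pow_mul, ← pow_succ, ← hom]
    exact pow_orderOf_eq_one _
  rw [r_pow] at hzH hz1 hz2
  set c : ZMod (2 ^ (k + 1)) := a * ((2 ^ m' : ℕ) : ZMod (2 ^ (k + 1))) with hc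
  have hcc : c + c = 0 := by
    rw [pow_two, r_mul_r, one_def] at hz2
    injection hz2
  have hc0 : c ≠ 0 := by
    intro h
    apply hz1
    rw [h, r_zero]
  rcases zmod_add_self_two_pow c hcc with h | h
  · exact absurd h hc0
  · rw [← h]; exact hzH

/-- Sufficiency: rotations of order at most two lie in every non-cyclic subgroup. -/
theorem r_mem_of_add_self {n : ℕ} (h : Odd n ∨ ∃ k : ℕ, n = 2 ^ k)
    (H : Subgroup (DihedralGroup n)) (hH : ¬ IsCyclic ↥H) (c : ZMod n) (hc : c + c = 0) :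
    r c ∈ H := by
  rcases h with h | ⟨k, rfl⟩
  · rw [zmod_add_self_odd h c hc, r_zero]; exact H.one_mem
  · rcases Nat.eq_zero_or_pos k with rfl | hk
    · -- n = 1
      have hss : Subsingleton (ZMod (2 ^ 0)) := by rw [pow_zero]; infer_instance
      have : c = 0 := Subsingleton.elim _ _
      rw [this, r_zero]; exact H.one_mem
    · obtain ⟨k', rfl⟩ : ∃ k', k = k' + 1 := ⟨k - 1, by omega⟩
      rcases zmod_add_self_two_pow c hc with h0 | h1
      · rw [h0, r_zero]; exact H.one_mem
      · rw [h1]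
        obtain ⟨j, hj⟩ := exists_sr_mem_of_not_isCyclic H hH
        -- H is not contained in zpowers (sr j)
        have hnle : ¬ H ≤ Subgroup.zpowers (sr j) := fun hle => hH (Subgroup.isCyclic_of_le hle)
        obtain ⟨y, hyH, hyn⟩ := SetLike.not_le_iff_exists.1 hnle
        cases y with
        | r a =>
          refine r_half_mem H a ?_ hyH
          rintro rfl
          apply hyn
          rw [r_zero]; exact Subgroup.one_mem _
        | sr b =>
          have hbj : b - j ≠ 0 := by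
            intro hb
            apply hyn
            rw [sub_eq_zero.1 hb]
            exact Subgroup.mem_zpowers _
          refine r_half_mem H (b - j) hbj ?_
          rw [← sr_mul_sr]
          exact H.mul_mem hj hyH

theorem dihedral_selfcent {n : ℕ} (h : Odd n ∨ ∃ k : ℕ, n = 2 ^ k)
    (H : Subgroup (DihedralGroup n)) (hH : ¬ IsCyclic ↥H) :
    Subgroup.centralizer (H : Set (DihedralGroup n)) ≤ H := by
  intro x hx
  obtain ⟨j, hj⟩ := exists_sr_mem_of_not_isCyclic H hH
  have hcomm := (Subgroup.mem_centralizer_iff.1 hx) (sr j) hj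
  cases x with
  | r i =>
    rw [sr_mul_r, r_mul_sr] at hcomm
    have h1 : j + i = j - i := by injection hcomm
    have h2 : i + i = 0 := by
      have : i = -i := by
        have := add_left_cancel (a := j) (b := i) (c := -i) (by rw [h1, sub_eq_add_neg])
        exact this
      nth_rewrite 2 [this]
      exact add_neg_cancel i
    exact r_mem_of_add_self h H hH i h2
  | sr i =>
    rw [sr_mul_sr, sr_mul_sr] at hcomm
    have h1 : i - j = j - i := by injection hcomm
    have h2 : (j - i) + (j - i) = 0 := by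
      nth_rewrite 1 [← h1]
      abel
    have h3 := r_mem_of_add_self h H hH (j - i) h2
    have h4 : sr i = sr j * r (j - i) := by
      rw [sr_mul_r]
      congr 1
      have : j - i = -(j - i) := eq_neg_of_add_eq_zero_left h2
      calc i = j - (j - i) := by abel
        _ = j + (j - i) := by rw [sub_eq_add_neg, ← this]
    rw [h4]
    exact H.mul_mem hj h3

end Cfsg.Agent.helper19
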