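import Cfsg.Agent.Lib_helper25_ChainStab

set_option autoImplicit false
set_option linter.style.haveILetI false
set_option linter.unusedVariables false
set_option maxHeartbeats 1000000

namespace Cfsg.Agent.helper25

section General

variable {G : Type*} [Group G]

/-- the elements of an abelian subgroup killed by `2 ^ i`. -/
def omegaSub (C : Subgroup G) (hC : ∀ a ∈ C, ∀ b ∈ C, a * b = b * a) (i : ℕ) : Subgroup G where
  carrier := {x | x ∈ C ∧ x ^ (2 ^ i) = 1}
  one_mem' := ⟨C.one_mem, one_pow _⟩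
  mul_mem' := fun {a b} ha hb => ⟨C.mul_mem ha.1 hb.1, by
    rw [(show Commute a b from hC a ha.1 b hb.1).mul_pow, ha.2, hb.2, one_mul]⟩
  inv_mem' := fun {a} ha => ⟨C.inv_mem ha.1, by rw [inv_pow, ha.2, inv_one]⟩

theorem mem_omegaSub (C : Subgroup G) (hC : ∀ a ∈ C, ∀ b ∈ C, a * b = b * a) (i : ℕ) (x : G) :
    x ∈ omegaSub C hC i ↔ x ∈ C ∧ x ^ (2 ^ i) = 1 := Iff.rfl

/-- a finite `2`-group with a characteristic abelian subgroup of index two having at most one
involution has a `2`-group of automorphisms. -/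
theorem isPGroup_mulAut_of_cyclic_index_two [Finite G] (hG : IsPGroup 2 G) (C : Subgroup G)
    (hC : ∀ a ∈ C, ∀ b ∈ C, a * b = b * a)
    (hinv : ∀ a ∈ C, ∀ b ∈ C, a ^ 2 = 1 → b ^ 2 = 1 → a ≠ 1 → b ≠ 1 → a = b)
    (hidx : C.index = 2) (hchar : ∀ α : MulAut G, ∀ x ∈ C, α x ∈ C) :
    IsPGroup 2 (MulAut G) := by
  haveI : Fact (Nat.Prime 2) := ⟨Nat.prime_two⟩
  obtain ⟨N, hN⟩ := IsPGroup.iff_card.mp hG
  intro α
  have hmono : Monotone (fun i : ℕ => if i ≤ N then omegaSub C hC i else ⊤) := by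
    apply monotone_nat_of_le_succ
    intro i
    show (if i ≤ N then omegaSub C hC i else ⊤) ≤ (if i + 1 ≤ N then omegaSub C hC (i + 1) else ⊤)
    by_cases h1 : i + 1 ≤ N
    · rw [if_pos h1, if_pos (by omega)]
      intro x hx
      refine ⟨hx.1, ?_⟩
      rw [pow_succ, pow_mul, hx.2, one_pow]
    · rw [if_neg h1]; exact le_top
  have hα : IsChainStab (fun i : ℕ => if i ≤ N then omegaSub C hC i else ⊤) α := by
    intro i x hx
    show x⁻¹ * α x ∈ (if i ≤ N then omegaSub C hC i else ⊤)
    have hx' : x ∈ (if i + 1 ≤ N then omegaSub C hC (i + 1) else ⊤) := hx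
    by_cases h0 : i ≤ N
    · rw [if_pos h0]
      by_cases h1 : i + 1 ≤ N
      · rw [if_pos h1] at hx'
        obtain ⟨hxC, hxp⟩ := hx'
        have hαxC : α x ∈ C := hchar α x hxC
        refine ⟨C.mul_mem (C.inv_mem hxC) hαxC, ?_⟩
        rw [(show Commute x⁻¹ (α x) from hC _ (C.inv_mem hxC) _ hαxC).mul_pow, inv_pow, ← map_pow]
        have hyC : x ^ 2 ^ i ∈ C := C.pow_mem hxC _
        have hy2 : (x ^ 2 ^ i) ^ 2 = 1 := by rw [← pow_mul, ← pow_succ]; exact hxp
        by_cases hy1 : x ^ 2 ^ i = 1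
        · rw [hy1, map_one, inv_one, one_mul]
        · have hαy1 : α (x ^ 2 ^ i) ≠ 1 := fun h => hy1 (by
            have := α.injective (h.trans (map_one α).symm); exact this)
          have hαy2 : (α (x ^ 2 ^ i)) ^ 2 = 1 := by rw [← map_pow, hy2, map_one]
          have := hinv _ (hchar α _ hyC) _ hyC hαy2 hy2 hαy1 hy1
          rw [this, inv_mul_cancel]
      · have hiN : i = N := by omega
        refine ⟨?_, ?_⟩
        · rw [Subgroup.mul_mem_iff_of_index_two hidx]
          constructor
          · intro h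
            have h2 : x ∈ C := by simpa using C.inv_mem h
            exact hchar α x h2
          · intro h
            have h2 := hchar α⁻¹ _ h
            rw [MulAut.inv_apply_self] at h2
            exact C.inv_mem h2
        · rw [hiN, ← hN]; exact pow_card_eq_one'
    · rw [if_neg h0]; exact Subgroup.mem_top _
  have h0 : ∃ k, ∀ x ∈ (fun i : ℕ => if i ≤ N then omegaSub C hC i else ⊤) 0,
      (α ^ (2 ^ k)) x = x := by
    refine ⟨0, fun x hx => ?_⟩
    have hx' : x ∈ (if 0 ≤ N then omegaSub C hC 0 else ⊤) := hx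
    rw [if_pos (Nat.zero_le N)] at hx'
    have h1 : x = 1 := by simpa using hx'.2
    rw [h1, map_one]
  have htop : (fun i : ℕ => if i ≤ N then omegaSub C hC i else ⊤) (N + 1) = ⊤ := by
    show (if N + 1 ≤ N then omegaSub C hC (N + 1) else ⊤) = ⊤
    rw [if_neg (by omega)]
  exact hα.exists_pow_eq_one hG hmono h0 htop

theorem zpowers_comm (g : G) : ∀ a ∈ Subgroup.zpowers g, ∀ b ∈ Subgroup.zpowers g,
    a * b = b * a := by
  rintro _ ⟨i, rfl⟩ _ ⟨j, rfl⟩
  exact zpow_mul_comm g i j

theorem zpowers_unique_involution [Finite G] (g : G) : ∀ a ∈ Subgroup.zpowers g,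
    ∀ b ∈ Subgroup.zpowers g, a ^ 2 = 1 → b ^ 2 = 1 → a ≠ 1 → b ≠ 1 → a = b := by
  classical
  intro a ha b hb ha2 hb2 ha1 hb1
  by_contra hab
  haveI : Fintype (Subgroup.zpowers g) := Fintype.ofFinite _
  have hle := IsCyclic.card_pow_eq_one_le (α := Subgroup.zpowers g) (n := 2) (by norm_num)
  have hsub : ({1, ⟨a, ha⟩, ⟨b, hb⟩} : Finset (Subgroup.zpowers g)) ⊆
      Finset.univ.filter (fun x : Subgroup.zpowers g => x ^ 2 = 1) := by
    intro x hx
    simp only [Finset.mem_insert, Finset.mem_singleton] at hx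
    simp only [Finset.mem_filter, Finset.mem_univ, true_and]
    rcases hx with rfl | rfl | rfl
    · exact one_pow _
    · exact Subtype.ext ha2
    · exact Subtype.ext hb2
  have hcard : ({1, ⟨a, ha⟩, ⟨b, hb⟩} : Finset (Subgroup.zpowers g)).card = 3 := by
    rw [Finset.card_insert_of_notMem, Finset.card_insert_of_notMem, Finset.card_singleton]
    · simp only [Finset.mem_singleton]
      intro h; exact hab (congrArg Subtype.val h)
    · simp only [Finset.mem_insert, Finset.mem_singleton, not_or]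
      exact ⟨fun h => ha1 (congrArg Subtype.val h).symm, fun h => hb1 (congrArg Subtype.val h).symm⟩
  have := Finset.card_le_card hsub
  omega

end General

section Shapes

/-- dihedral `2`-groups of order at least `8` have a `2`-group of automorphisms. -/
theorem isPGroup_mulAut_dihedral (k : ℕ) (hk : 2 ≤ k) :
    IsPGroup 2 (MulAut (DihedralGroup (2 ^ k))) := by
  haveI : NeZero (2 ^ k) := ⟨by positivity⟩
  have hm : 3 ≤ 2 ^ k := by
    calc 3 ≤ 2 ^ 2 := by norm_num
      _ ≤ 2 ^ k := Nat.pow_le_pow_right (by norm_num) hk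
  have hG : IsPGroup 2 (DihedralGroup (2 ^ k)) := by
    apply IsPGroup.of_card (n := k + 1)
    rw [DihedralGroup.nat_card, pow_succ, mul_comm]
  apply isPGroup_mulAut_of_cyclic_index_two hG
    (Subgroup.zpowers (DihedralGroup.r 1 : DihedralGroup (2 ^ k)))
    (zpowers_comm _) (zpowers_unique_involution _)
  · have h1 := Subgroup.index_mul_card
      (Subgroup.zpowers (DihedralGroup.r 1 : DihedralGroup (2 ^ k)))
    rw [Nat.card_zpowers, DihedralGroup.orderOf_r_one, DihedralGroup.nat_card] at h1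
    exact Nat.eq_of_mul_eq_mul_right (by positivity) h1
  · intro α x hx
    obtain ⟨i, rfl⟩ := hx
    rw [map_zpow]
    apply Subgroup.zpow_mem
    have hord : orderOf (α (DihedralGroup.r 1 : DihedralGroup (2 ^ k))) = 2 ^ k := by
      rw [MulEquiv.orderOf_eq, DihedralGroup.orderOf_r_one]
    rcases h : α (DihedralGroup.r 1 : DihedralGroup (2 ^ k)) with j | j
    · refine ⟨(j.val : ℤ), ?_⟩
      show (DihedralGroup.r 1 : DihedralGroup (2 ^ k)) ^ (j.val : ℤ) = DihedralGroup.r j
      rw [DihedralGroup.r_one_zpow]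
      congr 1
      simp
    · rw [h, DihedralGroup.orderOf_sr] at hord
      omega

/-- generalized quaternion groups of order at least `16` have a `2`-group of automorphisms. -/
theorem isPGroup_mulAut_quaternion (k : ℕ) (hk : 2 ≤ k) :
    IsPGroup 2 (MulAut (QuaternionGroup (2 ^ k))) := by
  haveI : NeZero (2 ^ k) := ⟨by positivity⟩
  have hm : 4 ≤ 2 ^ k := by
    calc 4 = 2 ^ 2 := by norm_num
      _ ≤ 2 ^ k := Nat.pow_le_pow_right (by norm_num) hk
  have hcard : Nat.card (QuaternionGroup (2 ^ k)) = 4 * 2 ^ k := by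
    rw [Nat.card_eq_fintype_card, QuaternionGroup.card]
  have hG : IsPGroup 2 (QuaternionGroup (2 ^ k)) := by
    apply IsPGroup.of_card (n := k + 2)
    rw [hcard, pow_add]; ring
  apply isPGroup_mulAut_of_cyclic_index_two hG
    (Subgroup.zpowers (QuaternionGroup.a 1 : QuaternionGroup (2 ^ k)))
    (zpowers_comm _) (zpowers_unique_involution _)
  · have h1 := Subgroup.index_mul_card
      (Subgroup.zpowers (QuaternionGroup.a 1 : QuaternionGroup (2 ^ k)))
    rw [Nat.card_zpowers, QuaternionGroup.orderOf_a_one, hcard] at h1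
    have h2 : (Subgroup.zpowers (QuaternionGroup.a 1 : QuaternionGroup (2 ^ k))).index *
        (2 * 2 ^ k) = 2 * (2 * 2 ^ k) := by rw [h1]; ring
    exact Nat.eq_of_mul_eq_mul_right (by positivity) h2
  · intro α x hx
    obtain ⟨i, rfl⟩ := hx
    rw [map_zpow]
    apply Subgroup.zpow_mem
    have hord : orderOf (α (QuaternionGroup.a 1 : QuaternionGroup (2 ^ k))) = 2 * 2 ^ k := by
      rw [MulEquiv.orderOf_eq, QuaternionGroup.orderOf_a_one]
    rcases h : α (QuaternionGroup.a 1 : QuaternionGroup (2 ^ k)) with j | j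
    · refine ⟨(j.val : ℤ), ?_⟩
      show (QuaternionGroup.a 1 : QuaternionGroup (2 ^ k)) ^ (j.val : ℤ) = QuaternionGroup.a j
      rw [zpow_natCast, QuaternionGroup.a_one_pow]
      congr 1
      simp
    · rw [h, QuaternionGroup.orderOf_xa] at hord
      omega

end Shapes

end Cfsg.Agent.helper25
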