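import Mathlib.GroupTheory.Sylow

set_option autoImplicit false
open Pointwise

namespace Cfsg.Agent.helper10

theorem mem_map_conj_iff {G : Type*} [Group G] (K : Subgroup G) (g x : G) :
    x ∈ K.map (MulAut.conj g).toMonoidHom ↔ g⁻¹ * x * g ∈ K := by
  constructor
  · rintro ⟨y, hy, rfl⟩
    have hy' : y ∈ K := hy
    simpa [MulAut.conj_apply, mul_assoc] using hy'
  · intro h
    exact ⟨g⁻¹ * x * g, h, by simp [MulAut.conj_apply, mul_assoc]⟩

theorem conj_mem_map_conj {G : Type*} [Group G] (K : Subgroup G) (g y : G) (hy : y ∈ K) :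
    g * y * g⁻¹ ∈ K.map (MulAut.conj g).toMonoidHom :=
  ⟨y, hy, by simp [MulAut.conj_apply]⟩

/-- Two Sylow subgroups of `G` contained in a subgroup `H` are conjugate by an element of `H`. -/
theorem sylow_conj_in_subgroup {G : Type*} [Group G] [Finite G] {p : ℕ} [Fact p.Prime]
    (P Q : Sylow p G) (H : Subgroup G)
    (hP : (P : Subgroup G) ≤ H) (hQ : (Q : Subgroup G) ≤ H) :
    ∃ h ∈ H, (Q : Subgroup G).map (MulAut.conj h).toMonoidHom = P := by
  obtain ⟨n, hn⟩ := MulAction.exists_smul_eq H (Q.subtype hQ) (P.subtype hP)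
  refine ⟨n, n.2, ?_⟩
  have h1 : ((n • Q.subtype hQ : Sylow p H) : Subgroup H) = (P.subtype hP : Sylow p H) := by rw [hn]
  rw [Sylow.coe_subgroup_smul, Sylow.coe_subtype, Sylow.coe_subtype] at h1
  ext x
  constructor
  · rintro ⟨y, hy, rfl⟩
    have : (⟨(n : G) * y * (n : G)⁻¹, H.mul_mem (H.mul_mem n.2 (hQ hy)) (H.inv_mem n.2)⟩ : H) ∈
        (P : Subgroup G).subgroupOf H := by
      rw [← h1]
      rw [Subgroup.mem_pointwise_smul_iff_inv_smul_mem]
      simp only [MulAut.smul_def, Subgroup.mem_subgroupOf]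
      have hy' : y ∈ (Q : Subgroup G) := hy
      simpa [MulAut.conj_apply, mul_assoc] using hy'
    simpa [Subgroup.mem_subgroupOf] using this
  · intro hx
    have hxH : x ∈ H := hP hx
    have : (⟨x, hxH⟩ : H) ∈ MulAut.conj n • (Q : Subgroup G).subgroupOf H := by
      rw [h1]; simpa [Subgroup.mem_subgroupOf] using hx
    rw [Subgroup.mem_pointwise_smul_iff_inv_smul_mem] at this
    simp only [MulAut.smul_def, Subgroup.mem_subgroupOf] at this
    refine ⟨(n : G)⁻¹ * x * n, ?_, ?_⟩
    · have h2 : (n : G)⁻¹ * (x * n) ∈ (Q : Subgroup G) := by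
        simpa [MulAut.conj_apply, mul_assoc] using this
      rw [mul_assoc]; exact h2
    · simp [MulAut.conj_apply, mul_assoc]

/-- A `p`-subgroup `R` of `G` contained in a subgroup `H` which contains the Sylow subgroup `P`
is conjugate into `P` by an element of `H`. -/
theorem pgroup_conj_into_sylow_in_subgroup {G : Type*} [Group G] [Finite G] {p : ℕ} [Fact p.Prime]
    (P : Sylow p G) (H : Subgroup G) (hP : (P : Subgroup G) ≤ H)
    (R : Subgroup G) (hR : IsPGroup p R) (hRH : R ≤ H) :
    ∃ h ∈ H, R.map (MulAut.conj h).toMonoidHom ≤ P := by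
  have hR' : IsPGroup p (R.subgroupOf H) := hR.comap_subtype
  obtain ⟨Q, hQ⟩ := hR'.exists_le_sylow
  obtain ⟨n, hn⟩ := MulAction.exists_smul_eq H Q (P.subtype hP)
  refine ⟨n, n.2, ?_⟩
  have h1 : ((n • Q : Sylow p H) : Subgroup H) = (P.subtype hP : Sylow p H) := by rw [hn]
  rw [Sylow.coe_subgroup_smul, Sylow.coe_subtype] at h1
  rintro x ⟨y, hy, rfl⟩
  have hyR : y ∈ R := hy
  have hyH : y ∈ H := hRH hyR
  have hyQ : (⟨y, hyH⟩ : H) ∈ (Q : Subgroup H) := hQ (by simpa [Subgroup.mem_subgroupOf] using hyR)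
  have : n * (⟨y, hyH⟩ : H) * n⁻¹ ∈ (P : Subgroup G).subgroupOf H := by
    rw [← h1, Subgroup.mem_pointwise_smul_iff_inv_smul_mem]
    simpa [MulAut.smul_def, MulAut.conj_apply, mul_assoc] using hyQ
  simpa [Subgroup.mem_subgroupOf, MulAut.conj_apply] using this

/-- An element `x` of `H` lying in some `p`-subgroup is conjugate into a Sylow subgroup `P ≤ H` by an
element of `H`. -/
theorem pelement_conj_into_sylow_in_subgroup {G : Type*} [Group G] [Finite G] {p : ℕ} [Fact p.Prime]
    (P : Sylow p G) (H : Subgroup G) (hP : (P : Subgroup G) ≤ H)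
    (R : Subgroup G) (hR : IsPGroup p R) (x : G) (hxR : x ∈ R) (hxH : x ∈ H) :
    ∃ h ∈ H, h * x * h⁻¹ ∈ (P : Subgroup G) := by
  have hz : IsPGroup p (Subgroup.zpowers x) :=
    hR.to_le (by rw [Subgroup.zpowers_le]; exact hxR)
  obtain ⟨h, hh, hle⟩ := pgroup_conj_into_sylow_in_subgroup P H hP (Subgroup.zpowers x) hz
    (by rw [Subgroup.zpowers_le]; exact hxH)
  exact ⟨h, hh, hle (conj_mem_map_conj _ h x (Subgroup.mem_zpowers x))⟩

theorem mem_normalizer_iff_map_conj {G : Type*} [Group G] (K : Subgroup G) (g : G) :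
    g ∈ Subgroup.normalizer (K : Set G) ↔ K.map (MulAut.conj g).toMonoidHom = K := by
  rw [MulEquiv.toMonoidHom_eq_coe]
  exact Subgroup.mem_normalizer_iff_map_conj_eq

theorem map_conj_mul {G : Type*} [Group G] (K : Subgroup G) (g h : G) :
    K.map (MulAut.conj (g * h)).toMonoidHom =
      (K.map (MulAut.conj h).toMonoidHom).map (MulAut.conj g).toMonoidHom := by
  rw [Subgroup.map_map]
  congr 1
  ext x
  simp [MulAut.conj_apply, mul_assoc]

theorem sylow_smul_eq_map_conj {G : Type*} [Group G] {p : ℕ} (P : Sylow p G) (g : G) :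
    ((g • P : Sylow p G) : Subgroup G) = (P : Subgroup G).map (MulAut.conj g).toMonoidHom := by
  ext x
  rw [Sylow.coe_subgroup_smul, Subgroup.mem_pointwise_smul_iff_inv_smul_mem, mem_map_conj_iff]
  simp [MulAut.smul_def, MulAut.conj_apply, mul_assoc]

theorem pgroup_conj_into_sylow {G : Type*} [Group G] [Finite G] {p : ℕ} [Fact p.Prime]
    (P : Sylow p G) (R : Subgroup G) (hR : IsPGroup p R) :
    ∃ g : G, R.map (MulAut.conj g).toMonoidHom ≤ P := by
  obtain ⟨h, -, hh⟩ := pgroup_conj_into_sylow_in_subgroup P ⊤ le_top R hR le_top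
  exact ⟨h, hh⟩

theorem map_conj_le_iff {G : Type*} [Group G] (K L : Subgroup G) (g : G) :
    K.map (MulAut.conj g).toMonoidHom ≤ L ↔ K ≤ L.map (MulAut.conj g⁻¹).toMonoidHom := by
  constructor
  · intro h x hx
    rw [mem_map_conj_iff, inv_inv]
    exact h (conj_mem_map_conj K g x hx)
  · intro h x hx
    rw [mem_map_conj_iff] at hx
    have := h hx
    rw [mem_map_conj_iff, inv_inv] at this
    have h2 : g * (g⁻¹ * x * g) * g⁻¹ = x := by group
    rw [h2] at this
    exact this

theorem map_conj_one {G : Type*} [Group G] (K : Subgroup G) :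
    K.map (MulAut.conj (1 : G)).toMonoidHom = K := by
  ext x
  rw [mem_map_conj_iff]
  simp

theorem map_conj_inv_map_conj {G : Type*} [Group G] (K : Subgroup G) (g : G) :
    (K.map (MulAut.conj g).toMonoidHom).map (MulAut.conj g⁻¹).toMonoidHom = K := by
  rw [← map_conj_mul, inv_mul_cancel, map_conj_one]

theorem map_conj_map_conj_inv {G : Type*} [Group G] (K : Subgroup G) (g : G) :
    (K.map (MulAut.conj g⁻¹).toMonoidHom).map (MulAut.conj g).toMonoidHom = K := by
  rw [← map_conj_mul, mul_inv_cancel, map_conj_one]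

/-- The normalizer of a conjugate is the conjugate of the normalizer. -/
theorem normalizer_map_conj {G : Type*} [Group G] (K : Subgroup G) (g : G) :
    Subgroup.normalizer ((K.map (MulAut.conj g).toMonoidHom : Subgroup G) : Set G) =
      (Subgroup.normalizer (K : Set G)).map (MulAut.conj g).toMonoidHom := by
  ext x
  rw [mem_map_conj_iff, mem_normalizer_iff_map_conj, mem_normalizer_iff_map_conj, ← map_conj_mul]
  constructor
  · intro h
    have h3 : K.map (MulAut.conj (g⁻¹ * x * g)).toMonoidHom =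
        (K.map (MulAut.conj (x * g)).toMonoidHom).map (MulAut.conj g⁻¹).toMonoidHom := by
      rw [← map_conj_mul]
      have h2 : g⁻¹ * (x * g) = g⁻¹ * x * g := by group
      rw [h2]
    rw [h3, h, map_conj_inv_map_conj]
  · intro h
    have h2 : x * g = g * (g⁻¹ * x * g) := by group
    rw [h2, map_conj_mul, h]

end Cfsg.Agent.helper10
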