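import Mathlib.GroupTheory.Sylow
import Cfsg.Prelude.Def_Transfer

set_option autoImplicit false

namespace Cfsg.Agent.helper10

theorem closure_normal_of_conj_invariant {G : Type*} [Group G] (s : Set G)
    (hs : ∀ x ∈ s, ∀ g : G, g * x * g⁻¹ ∈ s) : (Subgroup.closure s).Normal := by
  refine ⟨fun x hx g => ?_⟩
  have h1 : (Subgroup.closure s).map (MulAut.conj g).toMonoidHom ≤ Subgroup.closure s := by
    rw [MonoidHom.map_closure, Subgroup.closure_le]
    rintro _ ⟨y, hy, rfl⟩
    exact Subgroup.subset_closure (by simpa [MulAut.conj_apply] using hs y hy g)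
  exact h1 ⟨x, hx, by simp [MulAut.conj_apply]⟩

theorem pResidual_normal (p : ℕ) (G : Type*) [Group G] : (Cfsg.pResidual p G).Normal := by
  unfold Cfsg.pResidual
  apply closure_normal_of_conj_invariant
  intro x hx g
  have : orderOf (g * x * g⁻¹) = orderOf x := by
    have := orderOf_injective (MulAut.conj g).toMonoidHom (MulAut.conj g).injective x
    simpa [MulAut.conj_apply] using this
  show Nat.Coprime (orderOf (g * x * g⁻¹)) p
  rw [this]; exact hx

theorem pow_mem_pResidual {G : Type*} [Group G] [Finite G] (p : ℕ) [hp : Fact p.Prime] (g : G) :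
    g ^ (p ^ (orderOf g).factorization p) ∈ Cfsg.pResidual p G := by
  apply Subgroup.subset_closure
  show Nat.Coprime (orderOf (g ^ (p ^ (orderOf g).factorization p))) p
  have hpos : 0 < orderOf g := orderOf_pos g
  rw [orderOf_pow' g (pow_ne_zero _ hp.out.ne_zero),
    Nat.gcd_eq_right (Nat.ordProj_dvd (orderOf g) p)]
  exact (Nat.coprime_ordCompl hp.out hpos.ne').symm

theorem quotient_pResidual_isPGroup {G : Type*} [Group G] [Finite G] (p : ℕ) [hp : Fact p.Prime]
    [hn : (Cfsg.pResidual p G).Normal] : IsPGroup p (G ⧸ Cfsg.pResidual p G) := by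
  intro x
  induction x using QuotientGroup.induction_on with
  | H g =>
    refine ⟨(orderOf g).factorization p, ?_⟩
    rw [← QuotientGroup.mk_pow, QuotientGroup.eq_one_iff]
    exact pow_mem_pResidual p g

theorem pResidual_sup_sylow_eq_top {G : Type*} [Group G] [Finite G] (p : ℕ) [hp : Fact p.Prime]
    (S : Sylow p G) : Cfsg.pResidual p G ⊔ (S : Subgroup G) = ⊤ := by
  haveI := pResidual_normal p G
  rw [← Subgroup.index_eq_one]
  have h1 : (Cfsg.pResidual p G ⊔ (S : Subgroup G)).index ∣ (Cfsg.pResidual p G).index :=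
    Subgroup.index_dvd_of_le le_sup_left
  have h2 : (Cfsg.pResidual p G ⊔ (S : Subgroup G)).index ∣ (S : Subgroup G).index :=
    Subgroup.index_dvd_of_le le_sup_right
  obtain ⟨k, hk⟩ := (IsPGroup.iff_card.mp (quotient_pResidual_isPGroup (G := G) p))
  rw [← Subgroup.index_eq_card] at hk
  rw [hk] at h1
  obtain ⟨j, -, hj⟩ := (Nat.dvd_prime_pow hp.out).mp h1
  rw [hj] at h2 ⊢
  cases j with
  | zero => simp
  | succ j =>
    exfalso
    apply S.not_dvd_index
    exact dvd_trans (dvd_pow_self p (Nat.succ_ne_zero j)) h2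

theorem exists_mul_of_pResidual_sylow {G : Type*} [Group G] [Finite G] (p : ℕ) [hp : Fact p.Prime]
    (S : Sylow p G) (g : G) : ∃ s ∈ (S : Subgroup G), ∃ k ∈ Cfsg.pResidual p G, g = s * k := by
  haveI := pResidual_normal p G
  have hg : g ∈ (((S : Subgroup G) ⊔ Cfsg.pResidual p G : Subgroup G) : Set G) := by
    rw [sup_comm, pResidual_sup_sylow_eq_top]; trivial
  rw [Subgroup.mul_normal, Set.mem_mul] at hg
  obtain ⟨s, hs, k, hk, rfl⟩ := hg
  exact ⟨s, hs, k, hk, rfl⟩

theorem isComplement'_pResidual_of_coprime {G : Type*} [Group G] [Finite G] (p : ℕ)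
    [hp : Fact p.Prime] (S : Sylow p G) (h : (Nat.card (Cfsg.pResidual p G)).Coprime p) :
    (Cfsg.pResidual p G).IsComplement' (S : Subgroup G) := by
  have hn := pResidual_normal p G
  apply Subgroup.isComplement'_of_disjoint_and_mul_eq_univ
  · apply Subgroup.disjoint_of_coprime_natCard
    obtain ⟨k, hk⟩ := IsPGroup.iff_card.mp S.isPGroup'
    rw [hk]
    exact Nat.Coprime.pow_right k h
  · rw [← Subgroup.normal_mul, pResidual_sup_sylow_eq_top]
    rfl

theorem hasNormalPComplement_of_pResidual_coprime {G : Type*} [Group G] [Finite G] (p : ℕ)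
    [hp : Fact p.Prime] (h : (Nat.card (Cfsg.pResidual p G)).Coprime p) :
    Cfsg.HasNormalPComplement p G := by
  obtain ⟨S⟩ : Nonempty (Sylow p G) := inferInstance
  exact ⟨S, Cfsg.pResidual p G, pResidual_normal p G, isComplement'_pResidual_of_coprime p S h⟩

end Cfsg.Agent.helper10
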