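import Cfsg.Statements.S2014
import Cfsg.Agent.Lib_helper10_Sylow
import Cfsg.Agent.Lib_helper10_PResidual

set_option autoImplicit false
open Cfsg

namespace Cfsg.Agent.S2014

open Cfsg.Agent.helper10

/-- Let P be a Sylow p-subgroup of a finite group G and A, C ≤ P subgroups conjugate in G, with C extremal: N_P(C) is a Sylow p-subgroup of N_G(C). Then there is g with gAg⁻¹ = C and g N_P(A) g⁻¹ ≤ N_P(C); moreover, given any h with hAh⁻¹ = C, g can be chosen so that h g⁻¹ lies in O^p(N_G(C)), the subgroup of N_G(C) generated by its elements of order prime to p. -/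
theorem result {G : Type*} [Group G] [Finite G] (p : ℕ) [Fact p.Prime] (P : Sylow p G) (A C : Subgroup G) (hA : A ≤ P) (hC : C ≤ P) (hext : ¬ p ∣ ((P : Subgroup G) ⊓ Subgroup.normalizer ((C : Subgroup G) : Set G)).relIndex (Subgroup.normalizer ((C : Subgroup G) : Set G))) (h : G) (hh : A.map (MulAut.conj h).toMonoidHom = C) : ∃ g : G, A.map (MulAut.conj g).toMonoidHom = C ∧ ((P : Subgroup G) ⊓ Subgroup.normalizer ((A : Subgroup G) : Set G)).map (MulAut.conj g).toMonoidHom ≤ (P : Subgroup G) ⊓ Subgroup.normalizer ((C : Subgroup G) : Set G) ∧ h * g⁻¹ ∈ (Cfsg.pResidual p ↥(Subgroup.normalizer ((C : Subgroup G) : Set G))).map (Subgroup.normalizer ((C : Subgroup G) : Set G)).subtype := by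
  set N := Subgroup.normalizer (C : Set G) with hNdef
  have hSp : IsPGroup p (((P : Subgroup G) ⊓ N).subgroupOf N) :=
    (P.isPGroup'.to_le inf_le_left).comap_subtype
  have hSi : ¬ p ∣ (((P : Subgroup G) ⊓ N).subgroupOf N).index := hext
  let S' : Sylow p N := hSp.toSylow hSi
  set R := ((P : Subgroup G) ⊓ Subgroup.normalizer (A : Set G)).map (MulAut.conj h).toMonoidHom with hRdef
  have hRN : R ≤ N := by
    rw [hNdef, ← hh, normalizer_map_conj]
    exact Subgroup.map_mono inf_le_right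
  have hRp : IsPGroup p R := (P.isPGroup'.to_le inf_le_left).map _
  have hR'p : IsPGroup p (R.subgroupOf N) := hRp.comap_subtype
  obtain ⟨n, hn⟩ := pgroup_conj_into_sylow S' (R.subgroupOf N) hR'p
  obtain ⟨s, hs, k, hk, hnsk⟩ := exists_mul_of_pResidual_sylow p S' n
  have hsPN : (s : G) ∈ (P : Subgroup G) ⊓ N := by
    have : s ∈ ((P : Subgroup G) ⊓ N).subgroupOf N := hs
    exact Subgroup.mem_subgroupOf.mp this
  have hkey : ∀ r ∈ R, (k : G) * r * (k : G)⁻¹ ∈ (P : Subgroup G) ⊓ N := by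
    intro r hr
    have hrN : r ∈ N := hRN hr
    have h1 : n * ⟨r, hrN⟩ * n⁻¹ ∈ (S' : Subgroup N) :=
      hn (conj_mem_map_conj _ n ⟨r, hrN⟩ (by simpa [Subgroup.mem_subgroupOf] using hr))
    have h2 : ((n * ⟨r, hrN⟩ * n⁻¹ : N) : G) ∈ (P : Subgroup G) ⊓ N := by
      have : n * ⟨r, hrN⟩ * n⁻¹ ∈ ((P : Subgroup G) ⊓ N).subgroupOf N := h1
      exact Subgroup.mem_subgroupOf.mp this
    have h3 : ((n * ⟨r, hrN⟩ * n⁻¹ : N) : G) = (s : G) * ((k : G) * r * (k : G)⁻¹) * (s : G)⁻¹ := by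
      rw [hnsk]; push_cast; group
    rw [h3] at h2
    have h4 := ((P : Subgroup G) ⊓ N).mul_mem (((P : Subgroup G) ⊓ N).mul_mem
      (((P : Subgroup G) ⊓ N).inv_mem hsPN) h2) hsPN
    have h5 : (s : G)⁻¹ * ((s : G) * ((k : G) * r * (k : G)⁻¹) * (s : G)⁻¹) * (s : G) =
        (k : G) * r * (k : G)⁻¹ := by group
    rw [h5] at h4
    exact h4
  have hkN : (k : G) ∈ Subgroup.normalizer (C : Set G) := k.2
  refine ⟨(k : G) * h, ?_, ?_, ?_⟩
  · rw [map_conj_mul, hh]
    exact (mem_normalizer_iff_map_conj C k).mp hkN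
  · rw [map_conj_mul]
    rintro x ⟨r, hr, rfl⟩
    have := hkey r hr
    simpa [MulAut.conj_apply] using this
  · refine ⟨k⁻¹, (Cfsg.pResidual p N).inv_mem hk, ?_⟩
    simp

end Cfsg.Agent.S2014
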