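import Cfsg.Agent.Lib_helper10_ConjFamily
import Cfsg.Agent.S2014

set_option autoImplicit false
open Cfsg

namespace Cfsg.Agent.helper10

variable {G : Type*} [Group G]

/-- Normalizers grow in `p`-groups, relative form. -/
theorem lt_inf_normalizer_of_lt [Finite G] {p : ℕ} [Fact p.Prime] {S T : Subgroup G} (hS : IsPGroup p S)
    (hlt : T < S) : T < S ⊓ Subgroup.normalizer (T : Set G) := by
  have hle : T ≤ S := hlt.le
  haveI : Group.IsNilpotent S := hS.isNilpotent
  have hnc : NormalizerCondition S := normalizerCondition_of_isNilpotent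
  have h1 : T.subgroupOf S < ⊤ := by
    rw [lt_top_iff_ne_top, Ne, Subgroup.subgroupOf_eq_top]
    exact not_le_of_gt hlt
  have h2 := hnc _ h1
  rw [← Subgroup.subgroupOf_normalizer_eq hle] at h2
  refine lt_of_le_of_ne (le_inf hle Subgroup.le_normalizer) ?_
  intro heq
  apply h2.ne
  ext ⟨x, hx⟩
  simp only [Subgroup.mem_subgroupOf]
  constructor
  · intro h; exact Subgroup.le_normalizer h
  · intro h
    have : x ∈ S ⊓ Subgroup.normalizer (T : Set G) := ⟨hx, h⟩
    rw [← heq] at this
    exact this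

theorem card_map_conj [Finite G] (T : Subgroup G) (g : G) :
    Nat.card (T.map (MulAut.conj g).toMonoidHom) = Nat.card T :=
  Subgroup.card_map_of_injective (MulAut.conj g).injective

/-- The Alperin–Goldschmidt conjugation-family theorem, in chain form. -/
theorem alperin_chain [Finite G] {p : ℕ} [Fact p.Prime] (S : Sylow p G) (𝓕 : Set (Subgroup G))
    (h𝓕 : ∀ U ∈ 𝓕, U ≤ (S : Subgroup G))
    (h : ∀ T : Subgroup G, T ≤ (S : Subgroup G) → ∃ U ∈ 𝓕, (∃ g : G, T.map (MulAut.conj g).toMonoidHom = U) ∧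
      ¬ p ∣ ((S : Subgroup G) ⊓ Subgroup.normalizer ((U : Subgroup G) : Set G)).relIndex
        (Subgroup.normalizer ((U : Subgroup G) : Set G))) :
    ∀ (m : ℕ) (T : Subgroup G) (g : G), Nat.card (S : Subgroup G) - Nat.card T = m → T ≤ (S : Subgroup G) →
      rconj (T : Set G) g ⊆ (S : Subgroup G) → IsChain 𝓕 (T : Set G) g := by
  intro m
  induction m using Nat.strong_induction_on with
  | _ m IH =>
    -- Claim K'
    have K' : ∀ (T U : Subgroup G), Nat.card (S : Subgroup G) - Nat.card T = m → T ≤ (S : Subgroup G) →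
        U ∈ 𝓕 → (∃ g : G, T.map (MulAut.conj g).toMonoidHom = U) →
        ¬ p ∣ ((S : Subgroup G) ⊓ Subgroup.normalizer ((U : Subgroup G) : Set G)).relIndex
          (Subgroup.normalizer ((U : Subgroup G) : Set G)) →
        ∃ k : G, rconj (T : Set G) k = U ∧ IsChain 𝓕 (T : Set G) k := by
      intro T U hm hTS hU ⟨g₀, hg₀⟩ hext
      by_cases hTeq : T = S
      · -- then U = S
        have hUS : U = (S : Subgroup G) := by
          apply Subgroup.eq_of_le_of_card_ge (h𝓕 U hU)
          rw [← hg₀, card_map_conj, hTeq]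
        refine ⟨g₀⁻¹, ?_, ?_⟩
        · rw [rconj_coe, inv_inv, hg₀]
        · have hn : g₀⁻¹ ∈ Subgroup.normalizer ((S : Subgroup G) : Set G) := by
            apply Subgroup.inv_mem
            rw [mem_normalizer_iff_map_conj, ← hTeq, hg₀, hUS, hTeq]
          rw [hTeq]
          exact isChain_single (hUS ▸ hU) hn (le_refl _)
      · have hlt : T < (S : Subgroup G) := lt_of_le_of_ne hTS hTeq
        have hlt' := lt_inf_normalizer_of_lt S.isPGroup' hlt
        obtain ⟨g₁, hg₁a, hg₁b, -⟩ := Cfsg.Agent.S2014.result p S T U hTS (h𝓕 U hU) hext g₀ hg₀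
        set Tstar := (S : Subgroup G) ⊓ Subgroup.normalizer (T : Set G) with hTstar
        have hcard : Nat.card T < Nat.card Tstar := by
          have h4 : ((T : Subgroup G) : Set G) ⊂ ((Tstar : Subgroup G) : Set G) :=
            SetLike.coe_ssubset_coe.mpr hlt'
          have h5 := Set.ncard_lt_ncard h4 (Set.toFinite _)
          rwa [← Nat.card_coe_set_eq, ← Nat.card_coe_set_eq] at h5
        have hcard2 : Nat.card Tstar ≤ Nat.card (S : Subgroup G) := Subgroup.card_le_of_le inf_le_left
        have hfull := IH (Nat.card (S : Subgroup G) - Nat.card Tstar) (by omega) Tstar g₁⁻¹ rfl inf_le_left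
          (by
            rw [rconj_coe, inv_inv]
            exact SetLike.coe_subset_coe.mpr (hg₁b.trans inf_le_left))
        refine ⟨g₁⁻¹, ?_, isChain_mono (SetLike.coe_subset_coe.mpr hlt'.le) hfull⟩
        rw [rconj_coe, inv_inv, hg₁a]
    intro T g hm hTS hTg
    obtain ⟨U, hU, ⟨g₀, hg₀⟩, hext⟩ := h T hTS
    set T' := T.map (MulAut.conj g⁻¹).toMonoidHom with hT'
    have hT'coe : (T' : Set G) = rconj (T : Set G) g := (rconj_coe T g).symm
    have hT'S : T' ≤ (S : Subgroup G) := by
      rw [← SetLike.coe_subset_coe, hT'coe]; exact hTg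
    have hm' : Nat.card (S : Subgroup G) - Nat.card T' = m := by
      rw [hT', card_map_conj]; exact hm
    obtain ⟨k, hk1, hk2⟩ := K' T U hm hTS hU ⟨g₀, hg₀⟩ hext
    obtain ⟨k', hk'1, hk'2⟩ := K' T' U hm' hT'S hU ⟨g₀ * g, by
      rw [map_conj_mul, hT', map_conj_map_conj_inv, hg₀]⟩ hext
    -- y = k⁻¹ g k' normalizes U
    have hy : rconj (U : Set G) (k⁻¹ * g * k') = U := by
      rw [← hk1, rconj_rconj]
      have : k * (k⁻¹ * g * k') = g * k' := by group
      rw [this, ← rconj_rconj, ← hT'coe, hk'1, hk1]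
    have hyN := mem_normalizer_of_rconj_eq U _ hy
    have c1 : IsChain 𝓕 (rconj (T : Set G) k) (k⁻¹ * g * k') := by
      rw [hk1]; exact isChain_single hU hyN (le_refl _)
    have c2 := isChain_trans hk2 c1
    have c3 : IsChain 𝓕 (rconj (T : Set G) (k * (k⁻¹ * g * k'))) k'⁻¹ := by
      have : k * (k⁻¹ * g * k') = g * k' := by group
      rw [this, ← rconj_rconj, ← hT'coe]
      exact isChain_symm hk'2
    have c4 := isChain_trans c2 c3
    have : k * (k⁻¹ * g * k') * k'⁻¹ = g := by group
    rw [this] at c4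
    exact c4

/-- The Alperin–Goldschmidt conjugation-family theorem. -/
theorem alperin_conjugationFamily [Finite G] {p : ℕ} [Fact p.Prime] (S : Sylow p G) (𝓕 : Set (Subgroup G))
    (h𝓕 : ∀ U ∈ 𝓕, U ≤ (S : Subgroup G))
    (h : ∀ T : Subgroup G, T ≤ (S : Subgroup G) → ∃ U ∈ 𝓕, (∃ g : G, T.map (MulAut.conj g).toMonoidHom = U) ∧
      ¬ p ∣ ((S : Subgroup G) ⊓ Subgroup.normalizer ((U : Subgroup G) : Set G)).relIndex
        (Subgroup.normalizer ((U : Subgroup G) : Set G))) :
    Cfsg.IsConjugationFamily 𝓕 (S : Subgroup G) := by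
  refine ⟨h𝓕, ?_⟩
  intro A g _ hAS hAg
  apply isChain_to_fin
  have h1 : Subgroup.closure A ≤ (S : Subgroup G) := (Subgroup.closure_le _).mpr hAS
  have h2 : rconj ((Subgroup.closure A : Subgroup G) : Set G) g ⊆ (S : Subgroup G) := by
    rw [rconj_coe, SetLike.coe_subset_coe, MonoidHom.map_closure, Subgroup.closure_le]
    rintro _ ⟨a, ha, rfl⟩
    apply hAg
    exact ⟨a, ha, by simp [MulAut.conj_apply]⟩
  exact isChain_mono Subgroup.subset_closure
    (alperin_chain S 𝓕 h𝓕 h _ (Subgroup.closure A) g rfl h1 h2)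

end Cfsg.Agent.helper10
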