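import Cfsg.Prelude.Def_ConjugacyFunctors
import Cfsg.Agent.Lib_helper10_Sylow

set_option autoImplicit false
open Cfsg

namespace Cfsg.Agent.helper10

variable {G : Type*} [Group G]

local notation:max K "^[" g "]" => Subgroup.map (MulEquiv.toMonoidHom (MulAut.conj g)) K

theorem map_conj_eq_self_of_mem (K : Subgroup G) (x : G) (hx : x ∈ K) : K^[x] = K :=
  (mem_normalizer_iff_map_conj K x).mp (Subgroup.le_normalizer hx)

theorem map_conj_inf (H K : Subgroup G) (g : G) : (H ⊓ K)^[g] = H^[g] ⊓ K^[g] :=
  Subgroup.map_inf H K _ (MulAut.conj g).injective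

theorem relIndex_map_conj (H K : Subgroup G) (g : G) : (H^[g]).relIndex (K^[g]) = H.relIndex K :=
  Subgroup.relIndex_map_map_of_injective H K (MulAut.conj g).injective

/-- A `p`-group `B` between `A` and `N`, where `A` has index prime to `p` in `N`, is contained in `A`. -/
theorem le_of_pgroup_of_relIndex {p : ℕ} [hp : Fact p.Prime] [Finite G] (A B N : Subgroup G)
    (hAB : A ≤ B) (hBN : B ≤ N) (hB : IsPGroup p B) (hA : ¬ p ∣ A.relIndex N) : B ≤ A := by
  rw [← Subgroup.relIndex_eq_one]
  have h1 : A.relIndex B * B.relIndex N = A.relIndex N := Subgroup.relIndex_mul_relIndex A B N hAB hBN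
  have h2 : A.relIndex B ∣ Nat.card B := Subgroup.relIndex_dvd_card A B
  obtain ⟨k, hk⟩ := IsPGroup.iff_card.mp hB
  rw [hk] at h2
  obtain ⟨j, -, hj⟩ := (Nat.dvd_prime_pow hp.out).mp h2
  cases j with
  | zero => simpa using hj
  | succ j =>
    exfalso
    apply hA
    rw [← h1, hj]
    exact dvd_mul_of_dvd_left (dvd_pow_self p (Nat.succ_ne_zero j)) _

/-- The `S`-normalizers of the terms of the tower. -/
def towerNS (W : Subgroup G → Subgroup G) (S T : Subgroup G) (i : ℕ) : Subgroup G :=
  S ⊓ Subgroup.normalizer ((Cfsg.functorTower W S T i : Subgroup G) : Set G)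

theorem functorTower_succ (W : Subgroup G → Subgroup G) (S T : Subgroup G) (i : ℕ) :
    Cfsg.functorTower W S T (i + 1) = W (towerNS W S T i) := rfl

theorem functorTower_le {p : ℕ} {W : Subgroup G → Subgroup G} (hW : Cfsg.IsConjugacyFunctor p W)
    {S T : Subgroup G} (hS : IsPGroup p S) (hT : T ≤ S) : ∀ i, Cfsg.functorTower W S T i ≤ S
  | 0 => hT
  | i + 1 => by
    rw [functorTower_succ]
    exact (hW (towerNS W S T i) (hS.to_le inf_le_left)).1.trans inf_le_left

theorem towerNS_mono {p : ℕ} {W : Subgroup G → Subgroup G} (hW : Cfsg.IsConjugacyFunctor p W)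
    {S T : Subgroup G} (hS : IsPGroup p S) (i : ℕ) : towerNS W S T i ≤ towerNS W S T (i + 1) := by
  intro x hx
  refine Subgroup.mem_inf.mpr ⟨(Subgroup.mem_inf.mp hx).1, ?_⟩
  rw [functorTower_succ, mem_normalizer_iff_map_conj]
  rw [← (hW (towerNS W S T i) (hS.to_le inf_le_left)).2.2 x, map_conj_eq_self_of_mem _ x hx]

theorem towerNS_mono' {p : ℕ} {W : Subgroup G → Subgroup G} (hW : Cfsg.IsConjugacyFunctor p W)
    {S T : Subgroup G} (hS : IsPGroup p S) : Monotone (towerNS W S T) :=
  monotone_nat_of_le_succ (towerNS_mono hW hS)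

theorem towerNS_stable_succ (W : Subgroup G → Subgroup G) (S T : Subgroup G) (i : ℕ)
    (h : towerNS W S T i = towerNS W S T (i + 1)) :
    towerNS W S T (i + 1) = towerNS W S T (i + 2) := by
  have h1 : Cfsg.functorTower W S T (i + 2) = Cfsg.functorTower W S T (i + 1) := by
    rw [functorTower_succ, functorTower_succ, ← h]
  unfold towerNS
  rw [h1]

theorem towerNS_stable (W : Subgroup G → Subgroup G) (S T : Subgroup G) (j : ℕ)
    (h : towerNS W S T j = towerNS W S T (j + 1)) :
    ∀ k, towerNS W S T (j + k) = towerNS W S T (j + k + 1) := by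
  intro k
  induction k with
  | zero => exact h
  | succ k ih => exact towerNS_stable_succ W S T (j + k) ih

theorem towerNS_stable' (W : Subgroup G → Subgroup G) (S T : Subgroup G) (j : ℕ)
    (h : towerNS W S T j = towerNS W S T (j + 1)) :
    ∀ k, towerNS W S T (j + k) = towerNS W S T j := by
  intro k
  induction k with
  | zero => rfl
  | succ k ih => rw [← ih]; exact (towerNS_stable W S T j h k).symm

theorem functorTower_stable (W : Subgroup G → Subgroup G) (S T : Subgroup G) (j : ℕ)
    (h : towerNS W S T j = towerNS W S T (j + 1)) :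
    ∀ k, j + 1 ≤ k → Cfsg.functorTower W S T k = Cfsg.functorTower W S T (j + 1) := by
  intro k hk
  obtain ⟨m, rfl⟩ : ∃ m, k = j + m + 1 := ⟨k - (j + 1), by omega⟩
  rw [functorTower_succ, functorTower_succ, towerNS_stable' W S T j h m]

theorem exists_towerNS_stable [Finite G] {p : ℕ} {W : Subgroup G → Subgroup G}
    (hW : Cfsg.IsConjugacyFunctor p W) {S T : Subgroup G} (hS : IsPGroup p S) :
    ∃ j, j ≤ Nat.card S ∧ towerNS W S T j = towerNS W S T (j + 1) := by
  by_contra hcon
  push Not at hcon
  have key : ∀ i, i ≤ Nat.card S → i + 1 ≤ Nat.card (towerNS W S T i) := by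
    intro i
    induction i with
    | zero => intro _; exact Nat.card_pos
    | succ i ih =>
      intro hi
      have h1 := ih (by omega)
      have h2 : towerNS W S T i < towerNS W S T (i + 1) :=
        lt_of_le_of_ne (towerNS_mono hW hS i) (hcon i (by omega))
      have h3 : Nat.card (towerNS W S T i) < Nat.card (towerNS W S T (i + 1)) := by
        have h4 : ((towerNS W S T i : Subgroup G) : Set G) ⊂ ((towerNS W S T (i + 1) : Subgroup G) : Set G) :=
          SetLike.coe_ssubset_coe.mpr h2
        have h5 := Set.ncard_lt_ncard h4 (Set.toFinite _)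
        rwa [← Nat.card_coe_set_eq, ← Nat.card_coe_set_eq] at h5
      omega
  have h1 := key (Nat.card S) le_rfl
  have h2 : Nat.card (towerNS W S T (Nat.card S)) ≤ Nat.card S :=
    Subgroup.card_le_of_le inf_le_left
  omega

/-- Lemma A: for a `p`-subgroup `V` normalizing `U`, some conjugation takes `V` into the Sylow subgroup
`S` and makes `N_S(U^g)` of index prime to `p` in `N_G(U^g)`. -/
theorem exists_extremal_conj [Finite G] {p : ℕ} [Fact p.Prime] (S : Sylow p G) (U V : Subgroup G)
    (hV : IsPGroup p V) (hVU : V ≤ Subgroup.normalizer (U : Set G)) :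
    ∃ g : G, V^[g] ≤ (S : Subgroup G) ∧
      ¬ p ∣ ((S : Subgroup G) ⊓ Subgroup.normalizer ((U^[g] : Subgroup G) : Set G)).relIndex
        (Subgroup.normalizer ((U^[g] : Subgroup G) : Set G)) := by
  set N := Subgroup.normalizer (U : Set G) with hN
  have hV' : IsPGroup p (V.subgroupOf N) := hV.comap_subtype
  obtain ⟨R', hR'⟩ := hV'.exists_le_sylow
  set R := (R' : Subgroup N).map N.subtype with hR
  have hRp : IsPGroup p R := R'.isPGroup'.map _
  have hRN : R ≤ N := by
    rintro _ ⟨y, -, rfl⟩; exact y.2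
  have hVR : V ≤ R := by
    intro v hv
    exact ⟨⟨v, hVU hv⟩, hR' (by simpa [Subgroup.mem_subgroupOf] using hv), rfl⟩
  have hRi : ¬ p ∣ R.relIndex N := by
    have h1 : R.relIndex N = (R' : Subgroup N).index := by
      have h2 := Subgroup.relIndex_map_map_of_injective (R' : Subgroup N) ⊤ (Subgroup.subtype_injective N)
      rw [Subgroup.relIndex_top_right, ← MonoidHom.range_eq_map, Subgroup.range_subtype] at h2
      exact h2
    rw [h1]; exact R'.not_dvd_index
  obtain ⟨g, hg⟩ := pgroup_conj_into_sylow S R hRp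
  refine ⟨g, (Subgroup.map_mono hVR).trans hg, ?_⟩
  rw [normalizer_map_conj]
  have h3 : R^[g] ≤ (S : Subgroup G) ⊓ N^[g] := le_inf hg (Subgroup.map_mono hRN)
  have h4 : ((S : Subgroup G) ⊓ N^[g]).relIndex (N^[g]) ∣ (R^[g]).relIndex (N^[g]) :=
    Subgroup.relIndex_dvd_of_le_left _ h3
  rw [relIndex_map_conj] at h4
  exact fun h => hRi (dvd_trans h h4)

/-- Well-placedness up to level `n`. -/
def WellPlacedUpTo (p : ℕ) (W : Subgroup G → Subgroup G) (S T : Subgroup G) (n : ℕ) : Prop :=
  T ≤ S ∧ ∀ i, i ≤ n → ¬ p ∣ (towerNS W S T i).relIndex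
      (Subgroup.normalizer ((Cfsg.functorTower W S T i : Subgroup G) : Set G))

theorem le_towerNS_zero (W : Subgroup G → Subgroup G) (S T : Subgroup G) (hT : T ≤ S) :
    T ≤ towerNS W S T 0 :=
  le_inf hT Subgroup.le_normalizer

/-- Compatibility of the tower with a conjugation that keeps `towerNS n` inside `S`. -/
theorem tower_conj_compat [Finite G] {p : ℕ} [Fact p.Prime] {W : Subgroup G → Subgroup G}
    (hW : Cfsg.IsConjugacyFunctor p W) {S T : Subgroup G} (hS : IsPGroup p S) (n : ℕ)
    (hWP : WellPlacedUpTo p W S T n) (g : G) (hg : (towerNS W S T n)^[g] ≤ S) :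
    ∀ i, i ≤ n → (Cfsg.functorTower W S (T^[g]) i = (Cfsg.functorTower W S T i)^[g] ∧
      towerNS W S (T^[g]) i = (towerNS W S T i)^[g] ∧
      Cfsg.functorTower W S (T^[g]) (i + 1) = (Cfsg.functorTower W S T (i + 1))^[g]) := by
  have step : ∀ i, i ≤ n → Cfsg.functorTower W S (T^[g]) i = (Cfsg.functorTower W S T i)^[g] →
      (towerNS W S (T^[g]) i = (towerNS W S T i)^[g] ∧
      Cfsg.functorTower W S (T^[g]) (i + 1) = (Cfsg.functorTower W S T (i + 1))^[g]) := by
    intro i hi h1
    have hNSg : (towerNS W S T i)^[g] ≤ S :=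
      (Subgroup.map_mono (towerNS_mono' hW hS hi)).trans hg
    have h2 : towerNS W S (T^[g]) i = (towerNS W S T i)^[g] := by
      apply le_antisymm
      · -- the left side is a p-group containing the right side, which has p'-index
        apply le_of_pgroup_of_relIndex (p := p) _ _
          (Subgroup.normalizer ((Cfsg.functorTower W S (T^[g]) i : Subgroup G) : Set G))
        · unfold towerNS
          rw [h1, normalizer_map_conj]
          exact le_inf hNSg (Subgroup.map_mono inf_le_right)
        · exact inf_le_right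
        · exact hS.to_le inf_le_left
        · rw [h1, normalizer_map_conj, relIndex_map_conj]
          exact hWP.2 i hi
      · unfold towerNS
        rw [h1, normalizer_map_conj]
        exact le_inf hNSg (Subgroup.map_mono inf_le_right)
    refine ⟨h2, ?_⟩
    rw [functorTower_succ, functorTower_succ, h2]
    exact (hW _ (hS.to_le inf_le_left)).2.2 g
  intro i
  induction i with
  | zero =>
    intro hi
    have h1 : Cfsg.functorTower W S (T^[g]) 0 = (Cfsg.functorTower W S T 0)^[g] := rfl
    exact ⟨h1, step 0 hi h1⟩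
  | succ i ih =>
    intro hi
    have h1 := (ih (by omega)).2.2
    exact ⟨h1, step (i + 1) hi h1⟩

theorem exists_wellPlacedUpTo [Finite G] {p : ℕ} [Fact p.Prime] (S : Sylow p G)
    {W : Subgroup G → Subgroup G} (hW : Cfsg.IsConjugacyFunctor p W) (n : ℕ) :
    ∀ T : Subgroup G, T ≤ (S : Subgroup G) → ∃ g : G, WellPlacedUpTo p W (S : Subgroup G) (T^[g]) n := by
  induction n with
  | zero =>
    intro T hT
    obtain ⟨g, hg1, hg2⟩ := exists_extremal_conj S T T (S.isPGroup'.to_le hT) Subgroup.le_normalizer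
    refine ⟨g, hg1, ?_⟩
    intro i hi
    obtain rfl : i = 0 := by omega
    exact hg2
  | succ n ih =>
    intro T hT
    obtain ⟨g₁, hg₁⟩ := ih T hT
    set T₁ := T^[g₁] with hT₁
    have hS := S.isPGroup'
    obtain ⟨g₂, hg₂a, hg₂b⟩ := exists_extremal_conj S (Cfsg.functorTower W (S : Subgroup G) T₁ (n + 1))
      (towerNS W (S : Subgroup G) T₁ (n + 1)) (hS.to_le inf_le_left) inf_le_right
    have hcompat := tower_conj_compat hW hS n hg₁ g₂
      ((Subgroup.map_mono (towerNS_mono hW hS n)).trans hg₂a)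
    refine ⟨g₂ * g₁, ?_, ?_⟩
    · rw [map_conj_mul]
      have h1 : T₁ ≤ towerNS W (S : Subgroup G) T₁ (n + 1) :=
        (le_towerNS_zero W _ T₁ hg₁.1).trans (towerNS_mono' hW hS (Nat.zero_le _))
      exact (Subgroup.map_mono h1).trans hg₂a
    · intro i hi
      rw [map_conj_mul]
      rcases Nat.lt_or_ge i (n + 1) with h | h
      · obtain ⟨h1, h2, -⟩ := hcompat i (by omega)
        rw [h1, h2, normalizer_map_conj, relIndex_map_conj]
        exact hg₁.2 i (by omega)
      · obtain rfl : i = n + 1 := by omega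
        obtain ⟨-, -, h3⟩ := hcompat n le_rfl
        unfold towerNS
        rw [h3]
        exact hg₂b

theorem isWellPlaced_of_upTo [Finite G] {p : ℕ} [Fact p.Prime] {S T : Subgroup G} (hS : IsPGroup p S)
    {W : Subgroup G → Subgroup G} (hW : Cfsg.IsConjugacyFunctor p W)
    (h : WellPlacedUpTo p W S T (Nat.card S + 1)) : Cfsg.IsWellPlaced p W S T := by
  refine ⟨h.1, ?_⟩
  obtain ⟨j, hj, hst⟩ := exists_towerNS_stable (T := T) hW hS
  intro i
  rcases Nat.lt_or_ge i (j + 1) with hi | hi
  · exact h.2 i (by omega)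
  · rw [functorTower_stable W S T j hst i hi]
    exact h.2 (j + 1) (by omega)

theorem exists_isWellPlaced_conj [Finite G] {p : ℕ} [Fact p.Prime] (S : Sylow p G)
    {W : Subgroup G → Subgroup G} (hW : Cfsg.IsConjugacyFunctor p W) (T : Subgroup G)
    (hT : T ≤ (S : Subgroup G)) : ∃ g : G, Cfsg.IsWellPlaced p W (S : Subgroup G) (T^[g]) := by
  obtain ⟨g, hg⟩ := exists_wellPlacedUpTo S hW (Nat.card (S : Subgroup G) + 1) T hT
  exact ⟨g, isWellPlaced_of_upTo S.isPGroup' hW hg⟩

end Cfsg.Agent.helper10
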