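import Mathlib
import Cfsg.Prelude.Def_ConjugacyFunctors
import Cfsg.Agent.Lib_helper10_Alperin
import Cfsg.Agent.Lib_helper10_WellPlaced

set_option autoImplicit false
open Cfsg

namespace Cfsg.Agent.helper10

variable {G : Type*} [Group G]

/-- A `p`-subgroup of `H` is `H`-conjugate into a given relative Sylow `p`-subgroup of `H`. -/
theorem pgroup_conj_into_relSylow [Finite G] {p : ℕ} [Fact p.Prime] (H T₁ T₂ : Subgroup G)
    (h₁H : T₁ ≤ H) (h₁p : IsPGroup p T₁) (h₂p : IsPGroup p T₂)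
    (h₂i : ¬ p ∣ T₂.relIndex H) :
    ∃ n ∈ H, T₁.map (MulAut.conj n).toMonoidHom ≤ T₂ := by
  have h₂p' : IsPGroup p (T₂.subgroupOf H) := h₂p.comap_subtype
  have h₁p' : IsPGroup p (T₁.subgroupOf H) := h₁p.comap_subtype
  obtain ⟨P₂, hP₂⟩ : ∃ P₂ : Sylow p H, (P₂ : Subgroup H) = T₂.subgroupOf H :=
    ⟨h₂p'.toSylow h₂i, IsPGroup.toSylow_coe h₂p' h₂i⟩
  obtain ⟨Q, hQ⟩ := h₁p'.exists_le_sylow
  obtain ⟨n, hn⟩ := MulAction.exists_smul_eq H Q P₂
  refine ⟨n, n.2, ?_⟩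
  have h1 : ((n • Q : Sylow p H) : Subgroup H) = (P₂ : Subgroup H) := by rw [hn]
  rw [Sylow.coe_subgroup_smul, hP₂] at h1
  rintro x ⟨y, hy, rfl⟩
  have hyR : y ∈ T₁ := hy
  have hyH : y ∈ H := h₁H hyR
  have hyQ : (⟨y, hyH⟩ : H) ∈ (Q : Subgroup H) :=
    hQ (by simpa [Subgroup.mem_subgroupOf] using hyR)
  have : n * (⟨y, hyH⟩ : H) * n⁻¹ ∈ T₂.subgroupOf H := by
    rw [← h1, Subgroup.mem_pointwise_smul_iff_inv_smul_mem]
    simpa [MulAut.smul_def, MulAut.conj_apply, mul_assoc] using hyQ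
  simpa [Subgroup.mem_subgroupOf, MulAut.conj_apply] using this

/-- Two relative Sylow `p`-subgroups of `H` are conjugate in `H`. -/
theorem relSylow_conj [Finite G] {p : ℕ} [Fact p.Prime] (H T₁ T₂ : Subgroup G)
    (h₁H : T₁ ≤ H) (h₁p : IsPGroup p T₁) (h₁i : ¬ p ∣ T₁.relIndex H)
    (h₂H : T₂ ≤ H) (h₂p : IsPGroup p T₂) (h₂i : ¬ p ∣ T₂.relIndex H) :
    ∃ n ∈ H, T₁.map (MulAut.conj n).toMonoidHom = T₂ := by
  obtain ⟨n, hn, hle⟩ := pgroup_conj_into_relSylow H T₁ T₂ h₁H h₁p h₂p h₂i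
  obtain ⟨m, hm, hle'⟩ := pgroup_conj_into_relSylow H T₂ T₁ h₂H h₂p h₁p h₁i
  refine ⟨n, hn, Subgroup.eq_of_le_of_card_ge hle ?_⟩
  rw [card_map_conj]
  have := Subgroup.card_le_of_le hle'
  rwa [card_map_conj] at this

/-- Control of strong fusion in `H` does not depend on the chosen relative Sylow subgroup. -/
theorem control_transfer [Finite G] {p : ℕ} [Fact p.Prime] {W : Subgroup G → Subgroup G}
    (hW : Cfsg.IsConjugacyFunctor p W) {H : Subgroup G}
    (hc : Cfsg.ControlsStrongFusionIn p W H) (T₂ : Subgroup G) (hT₂H : T₂ ≤ H)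
    (hT₂p : IsPGroup p T₂) (hT₂i : ¬ p ∣ T₂.relIndex H)
    (A : Set G) (h : G) (hh : h ∈ H) (hA : A ⊆ T₂) (hAh : (fun a => h * a * h⁻¹) '' A ⊆ T₂) :
    ∃ x ∈ H ⊓ Subgroup.normalizer ((W T₂ : Subgroup G) : Set G),
      ∀ a ∈ A, x * a * x⁻¹ = h * a * h⁻¹ := by
  obtain ⟨T₁, hT₁H, hT₁p, hT₁i, hctl⟩ := hc
  obtain ⟨n, hn, hnT⟩ := relSylow_conj H T₁ T₂ hT₁H hT₁p hT₁i hT₂H hT₂p hT₂i
  have hmem : ∀ t, t ∈ T₂ ↔ n⁻¹ * t * n ∈ T₁ := fun t => by rw [← hnT, mem_map_conj_iff]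
  obtain ⟨x', hx', hx'A⟩ := hctl ((fun a => n⁻¹ * a * n) '' A) (n⁻¹ * h * n)
    (H.mul_mem (H.mul_mem (H.inv_mem hn) hh) hn)
    (by rintro _ ⟨a, ha, rfl⟩; exact (hmem a).mp (hA ha))
    (by
      rintro _ ⟨_, ⟨a, ha, rfl⟩, rfl⟩
      have h1 : h * a * h⁻¹ ∈ T₂ := hAh ⟨a, ha, rfl⟩
      have h2 := (hmem _).mp h1
      have e : (n⁻¹ * h * n) * (n⁻¹ * a * n) * (n⁻¹ * h * n)⁻¹ = n⁻¹ * (h * a * h⁻¹) * n := by
        group
      show (n⁻¹ * h * n) * (n⁻¹ * a * n) * (n⁻¹ * h * n)⁻¹ ∈ T₁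
      rw [e]; exact h2)
  refine ⟨n * x' * n⁻¹, ?_, ?_⟩
  · refine Subgroup.mem_inf.mpr
      ⟨H.mul_mem (H.mul_mem hn (Subgroup.mem_inf.mp hx').1) (H.inv_mem hn), ?_⟩
    rw [← hnT, (hW T₁ hT₁p).2.2 n, normalizer_map_conj]
    exact conj_mem_map_conj _ n x' (Subgroup.mem_inf.mp hx').2
  · intro a ha
    have h3 := hx'A (n⁻¹ * a * n) ⟨a, ha, rfl⟩
    calc n * x' * n⁻¹ * a * (n * x' * n⁻¹)⁻¹
        = n * (x' * (n⁻¹ * a * n) * x'⁻¹) * n⁻¹ := by group
      _ = n * ((n⁻¹ * h * n) * (n⁻¹ * a * n) * (n⁻¹ * h * n)⁻¹) * n⁻¹ := by rw [h3]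
      _ = h * a * h⁻¹ := by group

theorem functorTower_shift (W : Subgroup G → Subgroup G) (S T : Subgroup G) (i j : ℕ) :
    Cfsg.functorTower W S (Cfsg.functorTower W S T i) j = Cfsg.functorTower W S T (i + j) := by
  induction j with
  | zero => rfl
  | succ j ih =>
    show W (S ⊓ Subgroup.normalizer
        ((Cfsg.functorTower W S (Cfsg.functorTower W S T i) j : Subgroup G) : Set G)) =
      W (S ⊓ Subgroup.normalizer ((Cfsg.functorTower W S T (i + j) : Subgroup G) : Set G))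
    rw [ih]

theorem wellPlaced_shift {p : ℕ} {W : Subgroup G → Subgroup G}
    (hW : Cfsg.IsConjugacyFunctor p W) {S T : Subgroup G} (hS : IsPGroup p S)
    (h : Cfsg.IsWellPlaced p W S T) (i : ℕ) :
    Cfsg.IsWellPlaced p W S (Cfsg.functorTower W S T i) := by
  refine ⟨functorTower_le hW hS h.1 i, fun j => ?_⟩
  rw [functorTower_shift]
  exact h.2 (i + j)

theorem le_towerNS (p : ℕ) {W : Subgroup G → Subgroup G}
    (hW : Cfsg.IsConjugacyFunctor p W) {S T : Subgroup G} (hS : IsPGroup p S) (hT : T ≤ S) (i : ℕ) :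
    T ≤ towerNS W S T i :=
  (le_towerNS_zero W S T hT).trans (towerNS_mono' hW hS (Nat.zero_le i))

theorem functorTower_ne_bot {p : ℕ} {W : Subgroup G → Subgroup G}
    (hW : Cfsg.IsConjugacyFunctor p W) {S T : Subgroup G} (hS : IsPGroup p S) (hT : T ≤ S)
    (hT1 : T ≠ ⊥) : ∀ i, Cfsg.functorTower W S T i ≠ ⊥
  | 0 => hT1
  | i + 1 => by
    rw [functorTower_succ]
    apply (hW (towerNS W S T i) (hS.to_le inf_le_left)).2.1
    intro hbot
    apply hT1
    have h1 : T ≤ towerNS W S T i := le_towerNS p hW hS hT i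
    rw [hbot] at h1
    exact le_bot_iff.mp h1

/-- When the tower of normalizers is stable at `j`, it has reached `S`. -/
theorem towerNS_eq_of_stable [Finite G] {p : ℕ} [Fact p.Prime] {W : Subgroup G → Subgroup G}
    (hW : Cfsg.IsConjugacyFunctor p W) {S T : Subgroup G} (hS : IsPGroup p S) (j : ℕ)
    (hj : towerNS W S T j = towerNS W S T (j + 1)) : towerNS W S T j = S := by
  by_contra hne
  have hlt : towerNS W S T j < S := lt_of_le_of_ne inf_le_left hne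
  have h1 := lt_inf_normalizer_of_lt hS hlt
  have h2 : S ⊓ Subgroup.normalizer ((towerNS W S T j : Subgroup G) : Set G) ≤
      towerNS W S T (j + 1) := by
    intro g hg
    obtain ⟨hgS, hgN⟩ := Subgroup.mem_inf.mp hg
    refine Subgroup.mem_inf.mpr ⟨hgS, ?_⟩
    rw [functorTower_succ, mem_normalizer_iff_map_conj,
      ← (hW (towerNS W S T j) (hS.to_le inf_le_left)).2.2 g,
      (mem_normalizer_iff_map_conj _ g).mp hgN]
  rw [← hj] at h2
  exact absurd (lt_of_lt_of_le h1 h2) (lt_irrefl _)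

/-- Climbing the tower: an element of `N(T)` can be replaced, as far as its action on `T` goes, by
an element normalizing any later term of the tower, when strong fusion is controlled locally. -/
theorem climb [Finite G] {p : ℕ} [Fact p.Prime] (S : Sylow p G) {W : Subgroup G → Subgroup G}
    (hW : Cfsg.IsConjugacyFunctor p W)
    (hloc : ∀ T : Subgroup G, T ≠ ⊥ → Cfsg.IsWellPlaced p W (S : Subgroup G) T →
      Cfsg.ControlsStrongFusionIn p W (Subgroup.normalizer (T : Set G)))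
    (T : Subgroup G) (hT1 : T ≠ ⊥) (hwp : Cfsg.IsWellPlaced p W (S : Subgroup G) T) (h : G)
    (hh : h ∈ Subgroup.normalizer (T : Set G)) :
    ∀ i : ℕ, ∃ x ∈ Subgroup.normalizer
        ((Cfsg.functorTower W (S : Subgroup G) T (i + 1) : Subgroup G) : Set G),
      ∀ t ∈ T, x * t * x⁻¹ = h * t * h⁻¹ := by
  have hS : IsPGroup p (S : Subgroup G) := S.isPGroup'
  have hconjT : ∀ t ∈ T, h * t * h⁻¹ ∈ T := fun t ht =>
    (Subgroup.mem_normalizer_iff.mp hh t).mp ht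
  have step : ∀ (i : ℕ) (y : G),
      y ∈ Subgroup.normalizer ((Cfsg.functorTower W (S : Subgroup G) T i : Subgroup G) : Set G) →
      (∀ t ∈ T, y * t * y⁻¹ = h * t * h⁻¹) →
      ∃ x ∈ Subgroup.normalizer
          ((Cfsg.functorTower W (S : Subgroup G) T (i + 1) : Subgroup G) : Set G),
        ∀ t ∈ T, x * t * x⁻¹ = h * t * h⁻¹ := by
    intro i y hy hyT
    have hwp' := wellPlaced_shift hW hS hwp i
    have hne := functorTower_ne_bot hW hS hwp.1 hT1 i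
    have hc := hloc _ hne hwp'
    have hTi : T ≤ towerNS W (S : Subgroup G) T i := le_towerNS p hW hS hwp.1 i
    obtain ⟨x, hx, hxA⟩ := control_transfer hW hc (towerNS W (S : Subgroup G) T i)
      (by unfold towerNS; exact inf_le_right) (hS.to_le (by unfold towerNS; exact inf_le_left))
      (hwp.2 i) (T : Set G) y hy (by exact_mod_cast hTi) (by
        rintro _ ⟨t, ht, rfl⟩
        show y * t * y⁻¹ ∈ towerNS W (S : Subgroup G) T i
        rw [hyT t ht]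
        exact hTi (hconjT t ht))
    refine ⟨x, ?_, fun t ht => (hxA t ht).trans (hyT t ht)⟩
    rw [functorTower_succ]
    exact (Subgroup.mem_inf.mp hx).2
  intro i
  induction i with
  | zero => exact step 0 h hh (fun t _ => rfl)
  | succ i ih =>
    obtain ⟨y, hy, hyT⟩ := ih
    exact step (i + 1) y hy hyT

/-- Under local control, elements of the normalizer of a well-placed subgroup act on it like
elements of `N(W S)`. -/
theorem wellPlaced_control [Finite G] {p : ℕ} [Fact p.Prime] (S : Sylow p G)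
    {W : Subgroup G → Subgroup G} (hW : Cfsg.IsConjugacyFunctor p W)
    (hloc : ∀ T : Subgroup G, T ≠ ⊥ → Cfsg.IsWellPlaced p W (S : Subgroup G) T →
      Cfsg.ControlsStrongFusionIn p W (Subgroup.normalizer (T : Set G)))
    (T : Subgroup G) (hwp : Cfsg.IsWellPlaced p W (S : Subgroup G) T) (x : G)
    (hx : x ∈ Subgroup.normalizer (T : Set G)) :
    ∃ y ∈ Subgroup.normalizer ((W (S : Subgroup G) : Subgroup G) : Set G),
      ∀ t ∈ T, y * t * y⁻¹ = x * t * x⁻¹ := by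
  have hS : IsPGroup p (S : Subgroup G) := S.isPGroup'
  by_cases hT1 : T = ⊥
  · refine ⟨1, Subgroup.one_mem _, fun t ht => ?_⟩
    rw [hT1, Subgroup.mem_bot] at ht
    rw [ht]; group
  · obtain ⟨j, -, hj⟩ := exists_towerNS_stable hW (S := (S : Subgroup G)) (T := T) hS
    have hjS := towerNS_eq_of_stable hW hS j hj
    obtain ⟨y, hy, hyT⟩ := climb S hW hloc T hT1 hwp x hx j
    rw [functorTower_succ, hjS] at hy
    exact ⟨y, hy, hyT⟩

/-- Composition of local control along a chain. -/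
theorem chain_control {𝓕 : Set (Subgroup G)} {N : Subgroup G}
    (key : ∀ T ∈ 𝓕, ∀ x ∈ Subgroup.normalizer (T : Set G),
      ∃ y ∈ N, ∀ t ∈ T, y * t * y⁻¹ = x * t * x⁻¹) :
    ∀ (l : List (Subgroup G × G)) (B : Set G),
      (∀ q ∈ l, q.1 ∈ 𝓕 ∧ q.2 ∈ Subgroup.normalizer ((q.1 : Subgroup G) : Set G)) →
      ChainCond B l →
      ∃ y ∈ N, ∀ b ∈ B, y⁻¹ * b * y =
        ((l.map Prod.snd).prod)⁻¹ * b * (l.map Prod.snd).prod := by
  intro l
  induction l with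
  | nil => intro B _ _; exact ⟨1, N.one_mem, fun b _ => by simp⟩
  | cons q l ih =>
    intro B hq hB
    obtain ⟨hBq, hB'⟩ := hB
    have hq1 := hq q (List.mem_cons_self)
    obtain ⟨y₁, hy₁, hy₁T⟩ := key q.1 hq1.1 q.2⁻¹ (Subgroup.inv_mem _ hq1.2)
    obtain ⟨y₂, hy₂, hy₂B⟩ := ih (rconj B q.2)
      (fun q' hq' => hq q' (List.mem_cons_of_mem _ hq')) hB'
    refine ⟨y₁⁻¹ * y₂, N.mul_mem (N.inv_mem hy₁) hy₂, ?_⟩
    intro b hb
    have h1 := hy₁T b (hBq hb)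
    have hb' : q.2⁻¹ * b * q.2 ∈ rconj B q.2 := ⟨b, hb, rfl⟩
    have h2 := hy₂B _ hb'
    simp only [List.map_cons, List.prod_cons]
    calc (y₁⁻¹ * y₂)⁻¹ * b * (y₁⁻¹ * y₂) = y₂⁻¹ * (y₁ * b * y₁⁻¹) * y₂ := by group
      _ = y₂⁻¹ * (q.2⁻¹ * b * q.2) * y₂ := by rw [h1, inv_inv]
      _ = ((l.map Prod.snd).prod)⁻¹ * (q.2⁻¹ * b * q.2) * (l.map Prod.snd).prod := h2
      _ = (q.2 * (l.map Prod.snd).prod)⁻¹ * b * (q.2 * (l.map Prod.snd).prod) := by group

end Cfsg.Agent.helper10
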