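import Mathlib
import Cfsg.Prelude.Def_ConjugacyFunctors
import Cfsg.Agent.Lib_helper10_Control

set_option autoImplicit false
open Cfsg

namespace Cfsg.Agent.helper10

variable {G : Type*} [Group G]

/-- Left conjugate of a set. -/
def lconj (g : G) (A : Set G) : Set G := (fun a => g * a * g⁻¹) '' A

theorem lconj_one (A : Set G) : lconj 1 A = A := by simp [lconj]

theorem lconj_lconj (g h : G) (A : Set G) : lconj g (lconj h A) = lconj (g * h) A := by
  unfold lconj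
  rw [Set.image_image]
  apply Set.image_congr
  intro a _
  group

theorem lconj_mono {A B : Set G} (h : A ⊆ B) (g : G) : lconj g A ⊆ lconj g B := Set.image_mono h

theorem mem_lconj {g : G} {A : Set G} {a : G} (ha : a ∈ A) : g * a * g⁻¹ ∈ lconj g A :=
  ⟨a, ha, rfl⟩

theorem lconj_congr {g h : G} {A : Set G} (hgh : ∀ a ∈ A, g * a * g⁻¹ = h * a * h⁻¹) :
    lconj g A = lconj h A := Set.image_congr hgh

theorem lconj_coe (g : G) (K : Subgroup G) :
    lconj g (K : Set G) = ((K.map (MulAut.conj g).toMonoidHom : Subgroup G) : Set G) := by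
  rw [Subgroup.coe_map]; rfl

theorem lconj_inv_eq_rconj (x : G) (B : Set G) : lconj x⁻¹ B = rconj B x := by
  unfold lconj rconj
  apply Set.image_congr
  intro a _
  rw [inv_inv]

/-- Step-by-step reachability: `c` is a product of elements of `N`, every partial product
conjugating `A` into `S`. -/
inductive Reach (N : Set G) (S : Set G) (A : Set G) : G → Prop
  | refl : A ⊆ S → Reach N S A 1
  | step (g d : G) : Reach N S A g → d ∈ N → lconj (d * g) A ⊆ S → Reach N S A (d * g)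

theorem Reach.subset {N S A : Set G} {c : G} (h : Reach N S A c) : lconj c A ⊆ S := by
  cases h with
  | refl hA => rw [lconj_one]; exact hA
  | step g d _ _ hS => exact hS

theorem Reach.mono {N S A A' : Set G} (hA : A' ⊆ A) {c : G} (h : Reach N S A c) :
    Reach N S A' c := by
  induction h with
  | refl h0 => exact Reach.refl (hA.trans h0)
  | step g d _ hd hS ih => exact Reach.step g d ih hd ((lconj_mono hA _).trans hS)

theorem Reach.single {N S A : Set G} {d : G} (hA : A ⊆ S) (hd : d ∈ N) (hdA : lconj d A ⊆ S) :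
    Reach N S A d := by
  have := Reach.step 1 d (Reach.refl hA) hd (by rwa [mul_one])
  rwa [mul_one] at this

theorem Reach.trans {N S A : Set G} {c c' : G} (h : Reach N S A c)
    (h' : Reach N S (lconj c A) c') : Reach N S A (c' * c) := by
  induction h' with
  | refl _ => rw [one_mul]; exact h
  | step g d _ hd hS ih =>
    rw [mul_assoc]
    apply Reach.step _ _ ih hd
    rw [← mul_assoc, ← lconj_lconj]; exact hS

theorem Reach.symm {N S A : Set G} (hN : ∀ d ∈ N, d⁻¹ ∈ N) {c : G} (h : Reach N S A c) :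
    Reach N S (lconj c A) c⁻¹ := by
  induction h with
  | refl hA => rw [lconj_one, inv_one]; exact Reach.refl hA
  | step g d hg hd hS ih =>
    have h1 : Reach N S (lconj (d * g) A) d⁻¹ := by
      apply Reach.single hS (hN d hd)
      rw [lconj_lconj, inv_mul_cancel_left]
      exact hg.subset
    have h2 : Reach N S (lconj d⁻¹ (lconj (d * g) A)) g⁻¹ := by
      rw [lconj_lconj, inv_mul_cancel_left]; exact ih
    have := h1.trans h2
    rwa [← mul_inv_rev] at this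

theorem Reach.conj {N N' S S' A : Set G} (n : G) (hN : ∀ d ∈ N, n * d * n⁻¹ ∈ N')
    (hS : ∀ s ∈ S, n * s * n⁻¹ ∈ S') {c : G} (h : Reach N S A c) :
    Reach N' S' (lconj n A) (n * c * n⁻¹) := by
  induction h with
  | refl hA =>
    rw [mul_one, mul_inv_cancel]; apply Reach.refl
    rintro _ ⟨a, ha, rfl⟩; exact hS a (hA ha)
  | step g d hg hd hSg ih =>
    have e : n * (d * g) * n⁻¹ = (n * d * n⁻¹) * (n * g * n⁻¹) := by group
    rw [e]
    apply Reach.step _ _ ih (hN d hd)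
    rw [← e, lconj_lconj]
    have e2 : n * (d * g) * n⁻¹ * n = n * (d * g) := by group
    rw [e2, ← lconj_lconj]
    rintro _ ⟨s, hs, rfl⟩; exact hS s (hSg hs)

/-- The indexed form of a chain. -/
def FinChain (N S A : Set G) (c : G) : Prop :=
  ∃ (n : ℕ) (f : Fin (n + 1) → G), f 0 = 1 ∧ (∀ i : Fin n, f i.succ * (f i.castSucc)⁻¹ ∈ N) ∧
    (∀ i : Fin (n + 1), lconj (f i) A ⊆ S) ∧ f (Fin.last n) = c

theorem Reach.toFin {N S A : Set G} {c : G} (h : Reach N S A c) : FinChain N S A c := by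
  induction h with
  | refl hA =>
    exact ⟨0, fun _ => 1, rfl, fun i => i.elim0, fun _ => by rw [lconj_one]; exact hA, rfl⟩
  | step g d _ hd hS ih =>
    obtain ⟨n, f, h0, hstep, hin, hlast⟩ := ih
    refine ⟨n + 1, Fin.snoc (α := fun _ => G) f (d * g), ?_, ?_, ?_, ?_⟩
    · have e : (0 : Fin (n + 2)) = Fin.castSucc (0 : Fin (n + 1)) := rfl
      rw [e, Fin.snoc_castSucc]; exact h0
    · intro i
      refine Fin.lastCases ?_ (fun j => ?_) i
      · rw [Fin.succ_last, Fin.snoc_last, Fin.snoc_castSucc, hlast]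
        simpa using hd
      · rw [Fin.succ_castSucc, Fin.snoc_castSucc, Fin.snoc_castSucc]
        exact hstep j
    · intro i
      refine Fin.lastCases ?_ (fun j => ?_) i
      · rw [Fin.snoc_last]; exact hS
      · rw [Fin.snoc_castSucc]; exact hin j
    · rw [Fin.snoc_last]

theorem Reach.ofFin {N S A : Set G} : ∀ (n : ℕ) (f : Fin (n + 1) → G), f 0 = 1 →
    (∀ i : Fin n, f i.succ * (f i.castSucc)⁻¹ ∈ N) →
    (∀ i : Fin (n + 1), lconj (f i) A ⊆ S) → Reach N S A (f (Fin.last n)) := by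
  intro n
  induction n with
  | zero =>
    intro f h0 _ hin
    have e : f (Fin.last 0) = 1 := h0
    rw [e]
    have h1 := hin 0
    rw [h0, lconj_one] at h1
    exact Reach.refl h1
  | succ n ih =>
    intro f h0 hstep hin
    have h1 := ih (fun i => f i.castSucc) (by simpa using h0) (fun i => by
        have h := hstep i.castSucc
        rwa [Fin.succ_castSucc] at h)
      (fun i => hin i.castSucc)
    have h2 := hstep (Fin.last n)
    have h3 := Reach.step _ _ h1 h2 (by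
      rw [inv_mul_cancel_right]
      exact hin _)
    rw [inv_mul_cancel_right, Fin.succ_last] at h3
    exact h3

/-- `h` acts on `A` like some reachable element. -/
def Rel (N S : Set G) (A : Set G) (h : G) : Prop :=
  ∃ c, Reach N S A c ∧ ∀ a ∈ A, c * a * c⁻¹ = h * a * h⁻¹

theorem Rel.of_reach {N S A : Set G} {c : G} (h : Reach N S A c) : Rel N S A c :=
  ⟨c, h, fun _ _ => rfl⟩

theorem Rel.mono {N S A A' : Set G} {h : G} (hA : A' ⊆ A) : Rel N S A h → Rel N S A' h :=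
  fun ⟨c, hc, hag⟩ => ⟨c, hc.mono hA, fun a ha => hag a (hA ha)⟩

theorem Rel.congr {N S A : Set G} {h h' : G} (hgh : ∀ a ∈ A, h * a * h⁻¹ = h' * a * h'⁻¹) :
    Rel N S A h → Rel N S A h' :=
  fun ⟨c, hc, hag⟩ => ⟨c, hc, fun a ha => (hag a ha).trans (hgh a ha)⟩

theorem Rel.trans {N S A : Set G} {h h' : G} :
    Rel N S A h → Rel N S (lconj h A) h' → Rel N S A (h' * h) := by
  rintro ⟨c, hc, hag⟩ ⟨c', hc', hag'⟩
  have e : lconj c A = lconj h A := lconj_congr hag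
  refine ⟨c' * c, hc.trans (by rw [e]; exact hc'), ?_⟩
  intro a ha
  have h1 := hag a ha
  have h2 := hag' (h * a * h⁻¹) (mem_lconj ha)
  calc c' * c * a * (c' * c)⁻¹ = c' * (c * a * c⁻¹) * c'⁻¹ := by group
    _ = c' * (h * a * h⁻¹) * c'⁻¹ := by rw [h1]
    _ = h' * (h * a * h⁻¹) * h'⁻¹ := h2
    _ = h' * h * a * (h' * h)⁻¹ := by group

theorem Rel.symm {N S A : Set G} (hN : ∀ d ∈ N, d⁻¹ ∈ N) {h : G} :
    Rel N S A h → Rel N S (lconj h A) h⁻¹ := by
  rintro ⟨c, hc, hag⟩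
  have e : lconj c A = lconj h A := lconj_congr hag
  refine ⟨c⁻¹, by rw [← e]; exact hc.symm hN, ?_⟩
  rintro _ ⟨a, ha, rfl⟩
  have h1 : c⁻¹ * (h * a * h⁻¹) * c⁻¹⁻¹ = a := by rw [← hag a ha]; group
  have h2 : h⁻¹ * (h * a * h⁻¹) * h⁻¹⁻¹ = a := by group
  show c⁻¹ * (h * a * h⁻¹) * c⁻¹⁻¹ = h⁻¹ * (h * a * h⁻¹) * h⁻¹⁻¹
  rw [h1, h2]

theorem Rel.bot {N S : Set G} {A : Set G} (hS : (1 : G) ∈ S) (hA : ∀ a ∈ A, a = 1) (h : G) :
    Rel N S A h := by
  refine ⟨1, Reach.refl (fun a ha => by rw [hA a ha]; exact hS), fun a ha => ?_⟩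
  rw [hA a ha]; group

/-- Passing from chains inside a local situation to the global relation. -/
theorem reach_local_to_global {Nl Sl Ng Sg : Set G} (hS : Sl ⊆ Sg)
    (hstep : ∀ d ∈ Nl, ∀ B : Set G, B ⊆ Sl → lconj d B ⊆ Sl → Rel Ng Sg B d)
    {A : Set G} {c : G} (h : Reach Nl Sl A c) : Rel Ng Sg A c := by
  induction h with
  | refl hA => exact Rel.of_reach (Reach.refl (hA.trans hS))
  | step g d hg hd hSl ih =>
    have h1 := hstep d hd (lconj g A) hg.subset (by rw [lconj_lconj]; exact hSl)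
    exact ih.trans h1

/-- The steps allowed by a family of functors, relative to `H` and its Sylow subgroup `T`. -/
def Nglob (𝓦 : Set (Subgroup G → Subgroup G)) (H T : Subgroup G) : Set G :=
  {d | ∃ W ∈ 𝓦, d ∈ H ⊓ Subgroup.normalizer ((W T : Subgroup G) : Set G)}

theorem Nglob_inv (𝓦 : Set (Subgroup G → Subgroup G)) (H T : Subgroup G) :
    ∀ d ∈ Nglob 𝓦 H T, d⁻¹ ∈ Nglob 𝓦 H T := by
  rintro d ⟨W, hW, hd⟩
  exact ⟨W, hW, Subgroup.inv_mem _ hd⟩

/-- Family control of strong fusion, transferred to an arbitrary relative Sylow subgroup. -/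
theorem family_control_transfer [Finite G] {p : ℕ} [Fact p.Prime]
    {𝓦 : Set (Subgroup G → Subgroup G)} (h𝓦 : ∀ W ∈ 𝓦, Cfsg.IsConjugacyFunctor p W)
    {H : Subgroup G} (hc : Cfsg.FamilyControlsStrongFusionIn p 𝓦 H) (T₂ : Subgroup G)
    (hT₂H : T₂ ≤ H) (hT₂p : IsPGroup p T₂) (hT₂i : ¬ p ∣ T₂.relIndex H)
    (A : Set G) (h : G) (hh : h ∈ H) (hA : A ⊆ T₂) (hAh : lconj h A ⊆ T₂) :
    Rel (Nglob 𝓦 H T₂) T₂ A h := by
  obtain ⟨T₁, hT₁H, hT₁p, hT₁i, hctl⟩ := hc
  obtain ⟨n, hn, hnT⟩ := relSylow_conj H T₁ T₂ hT₁H hT₁p hT₁i hT₂H hT₂p hT₂i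
  have hmem : ∀ t, t ∈ T₂ ↔ n⁻¹ * t * n ∈ T₁ := fun t => by rw [← hnT, mem_map_conj_iff]
  obtain ⟨m, f, h0, hstep, hin, hag⟩ := hctl (lconj n⁻¹ A) (n⁻¹ * h * n)
    (H.mul_mem (H.mul_mem (H.inv_mem hn) hh) hn)
    (by
      rintro _ ⟨a, ha, rfl⟩
      have := (hmem a).mp (hA ha)
      rwa [inv_inv])
    (by
      rintro _ ⟨_, ⟨a, ha, rfl⟩, rfl⟩
      have h1 : h * a * h⁻¹ ∈ T₂ := hAh ⟨a, ha, rfl⟩
      have h2 := (hmem _).mp h1
      have e : (n⁻¹ * h * n) * (n⁻¹ * a * n⁻¹⁻¹) * (n⁻¹ * h * n)⁻¹ = n⁻¹ * (h * a * h⁻¹) * n := by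
        group
      show (n⁻¹ * h * n) * (n⁻¹ * a * n⁻¹⁻¹) * (n⁻¹ * h * n)⁻¹ ∈ T₁
      rw [e]; exact h2)
  have hreach : Reach (Nglob 𝓦 H T₁) (T₁ : Set G) (lconj n⁻¹ A) (f (Fin.last m)) :=
    Reach.ofFin m f h0 hstep hin
  have hreach2 := hreach.conj (N' := Nglob 𝓦 H T₂) (S' := (T₂ : Set G)) n
    (by
      rintro d ⟨W, hW, hd⟩
      refine ⟨W, hW, Subgroup.mem_inf.mpr
        ⟨H.mul_mem (H.mul_mem hn (Subgroup.mem_inf.mp hd).1) (H.inv_mem hn), ?_⟩⟩
      rw [← hnT, (h𝓦 W hW T₁ hT₁p).2.2 n, normalizer_map_conj]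
      exact conj_mem_map_conj _ n d (Subgroup.mem_inf.mp hd).2)
    (by
      intro s hs
      rw [← hnT]
      exact conj_mem_map_conj _ n s hs)
  rw [lconj_lconj, mul_inv_cancel, lconj_one] at hreach2
  refine ⟨_, hreach2, ?_⟩
  intro a ha
  have h3 := hag (n⁻¹ * a * n⁻¹⁻¹) ⟨a, ha, rfl⟩
  calc n * f (Fin.last m) * n⁻¹ * a * (n * f (Fin.last m) * n⁻¹)⁻¹
      = n * (f (Fin.last m) * (n⁻¹ * a * n⁻¹⁻¹) * (f (Fin.last m))⁻¹) * n⁻¹ := by group
    _ = n * ((n⁻¹ * h * n) * (n⁻¹ * a * n⁻¹⁻¹) * (n⁻¹ * h * n)⁻¹) * n⁻¹ := by rw [h3]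
    _ = h * a * h⁻¹ := by group

/-- Every member of a chain contains a conjugate of the starting set. -/
theorem chainCond_conj_subset : ∀ (l : List (Subgroup G × G)) (B : Set G), ChainCond B l →
    ∀ q ∈ l, ∃ x : G, rconj B x ⊆ q.1 := by
  intro l
  induction l with
  | nil => intro B _ q hq; simp at hq
  | cons q₀ l ih =>
    intro B hB q hq
    obtain ⟨h1, h2⟩ := hB
    rcases List.mem_cons.mp hq with rfl | hq'
    · exact ⟨1, by rw [rconj_one]; exact h1⟩
    · obtain ⟨x, hx⟩ := ih (rconj B q₀.2) h2 q hq'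
      exact ⟨q₀.2 * x, by rw [← rconj_rconj]; exact hx⟩

theorem chain_rel {N S₀ : Set G} {𝓕' : Set (Subgroup G)} (h𝓕 : ∀ U ∈ 𝓕', (U : Set G) ⊆ S₀)
    (key : ∀ U ∈ 𝓕', ∀ x ∈ Subgroup.normalizer (U : Set G), Rel N S₀ (U : Set G) x) :
    ∀ (l : List (Subgroup G × G)) (B : Set G), B ⊆ S₀ →
      (∀ q ∈ l, q.1 ∈ 𝓕' ∧ q.2 ∈ Subgroup.normalizer ((q.1 : Subgroup G) : Set G)) →
      ChainCond B l → Rel N S₀ B ((l.map Prod.snd).prod)⁻¹ := by
  intro l
  induction l with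
  | nil =>
    intro B hB _ _
    simp only [List.map_nil, List.prod_nil, inv_one]
    exact Rel.of_reach (Reach.refl hB)
  | cons q l ih =>
    intro B hB hq hc
    obtain ⟨hBq, hc'⟩ := hc
    have hq1 := hq q List.mem_cons_self
    have h1 : Rel N S₀ B q.2⁻¹ :=
      (key q.1 hq1.1 q.2⁻¹ (Subgroup.inv_mem _ hq1.2)).mono hBq
    have e : lconj q.2⁻¹ B = rconj B q.2 := lconj_inv_eq_rconj _ _
    have hB' : rconj B q.2 ⊆ S₀ := by
      calc rconj B q.2 ⊆ rconj (q.1 : Set G) q.2 := rconj_mono hBq _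
        _ = q.1 := rconj_eq_self_of_mem_normalizer _ _ hq1.2
        _ ⊆ S₀ := h𝓕 q.1 hq1.1
    have h2 := ih (rconj B q.2) hB' (fun q' hq' => hq q' (List.mem_cons_of_mem _ hq')) hc'
    rw [← e] at h2
    have h3 := h1.trans h2
    simp only [List.map_cons, List.prod_cons, mul_inv_rev]
    exact h3

theorem card_lt_card_of_lt [Finite G] {H K : Subgroup G} (h : H < K) : Nat.card H < Nat.card K := by
  by_contra hcon
  push Not at hcon
  exact h.ne (Subgroup.eq_of_le_of_card_ge h.le hcon)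

end Cfsg.Agent.helper10
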