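import Mathlib
import Cfsg.Prelude.Def_ConjugacyFunctors
import Cfsg.Prelude.Def_Solvable
import Cfsg.Agent.Lib_helper10_Reach

set_option autoImplicit false

/-!
# Induced functors, control in sections: transport lemmas
-/

namespace Cfsg.Agent.helper10

universe u

section induced

variable {X Y : Type u} [Group X] [Group Y]

/-- The functor induced by an isomorphism-invariant `p`-group functor commutes with homomorphisms
that are injective on the `p`-subgroup in question. -/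
theorem induced_map_of_injOn {p : ℕ} (W : ∀ (Q : Type u) [Group Q], Subgroup Q)
    (hW : Cfsg.IsCharPFunctor.{u} p W) (f : X →* Y) (P : Subgroup X) [Finite P]
    (hP : IsPGroup p P) (hinj : ∀ x ∈ P, f x = 1 → x = 1) :
    Cfsg.inducedFunctor W (P.map f) = (Cfsg.inducedFunctor W P).map f := by
  have hbij : Function.Bijective (f.subgroupMap P) := by
    refine ⟨?_, f.subgroupMap_surjective P⟩
    rw [injective_iff_map_eq_one]
    intro x hx
    have h1 : f (x : X) = 1 := by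
      have := congrArg Subtype.val hx
      simpa using this
    exact Subtype.ext (hinj x x.2 h1)
  let φ : P ≃* (P.map f) := MulEquiv.ofBijective (f.subgroupMap P) hbij
  have h1 := hW.2 P (P.map f) hP φ
  unfold Cfsg.inducedFunctor
  rw [← h1, Subgroup.map_map, Subgroup.map_map]
  congr 1

/-- The induced functor is a conjugacy functor. -/
theorem induced_isConjugacyFunctor [Finite X] {p : ℕ} (W : ∀ (Q : Type u) [Group Q], Subgroup Q)
    (hW : Cfsg.IsCharPFunctor.{u} p W) :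
    Cfsg.IsConjugacyFunctor p (Cfsg.inducedFunctor (G := X) W) := by
  intro P hP
  refine ⟨?_, ?_, ?_⟩
  · unfold Cfsg.inducedFunctor
    exact Subgroup.map_subtype_le _
  · intro hne
    have hnt : Nontrivial P := (Subgroup.nontrivial_iff_ne_bot P).mpr hne
    have h1 := hW.1 P hP hnt
    unfold Cfsg.inducedFunctor
    intro h2
    apply h1
    exact (Subgroup.map_eq_bot_iff_of_injective _ P.subtype_injective).mp h2
  · intro g
    exact induced_map_of_injOn W hW (MulAut.conj g).toMonoidHom P hP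
      (fun x _ hx => by
        have : (MulAut.conj g) x = 1 := hx
        simpa using this)

end induced

end Cfsg.Agent.helper10

namespace Cfsg.Agent.helper10

universe u

section ctl

variable {X Y : Type u} [Group X] [Group Y]

/-- The family of conjugacy functors on `X` induced by a set of functors. -/
def fam (𝓦 : Set (∀ (Q : Type u) [Group Q], Subgroup Q)) (X : Type u) [Group X] :
    Set (Subgroup X → Subgroup X) :=
  (fun W => Cfsg.inducedFunctor (G := X) W) '' 𝓦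

theorem fam_conj [Finite X] {p : ℕ} {𝓦 : Set (∀ (Q : Type u) [Group Q], Subgroup Q)}
    (h𝓦 : ∀ W ∈ 𝓦, Cfsg.IsCharPFunctor.{u} p W) :
    ∀ W' ∈ fam 𝓦 X, Cfsg.IsConjugacyFunctor p W' := by
  rintro _ ⟨W, hW, rfl⟩
  exact induced_isConjugacyFunctor W (h𝓦 W hW)

/-- Control of strong fusion in `X`. -/
def Ctl (p : ℕ) (𝓦 : Set (∀ (Q : Type u) [Group Q], Subgroup Q)) (X : Type u) [Group X] : Prop :=
  Cfsg.FamilyControlsStrongFusionIn p (fam 𝓦 X) ⊤

/-- Control of strong fusion in `X` at a given subgroup `S`. -/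
def CtlAt (𝓦 : Set (∀ (Q : Type u) [Group Q], Subgroup Q)) (X : Type u) [Group X]
    (S : Subgroup X) : Prop :=
  ∀ (A : Set X) (h : X), A ⊆ (S : Set X) → lconj h A ⊆ (S : Set X) →
    Rel (Nglob (fam 𝓦 X) ⊤ S) (S : Set X) A h

/-- From the relational form to the indexed form. -/
theorem fcsf_of_rel {p : ℕ} (𝓦' : Set (Subgroup X → Subgroup X)) (H T : Subgroup X)
    (hTH : T ≤ H) (hTp : IsPGroup p T) (hTi : ¬ p ∣ T.relIndex H)
    (h : ∀ (A : Set X) (x : X), x ∈ H → A ⊆ (T : Set X) → lconj x A ⊆ (T : Set X) →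
      Rel (Nglob 𝓦' H T) (T : Set X) A x) :
    Cfsg.FamilyControlsStrongFusionIn p 𝓦' H := by
  refine ⟨T, hTH, hTp, hTi, ?_⟩
  intro A x hx hA hxA
  obtain ⟨c, hc, hag⟩ := h A x hx hA hxA
  obtain ⟨n, f, h0, hstep, hin, hlast⟩ := hc.toFin
  refine ⟨n, f, h0, ?_, ?_, ?_⟩
  · intro i; exact hstep i
  · intro i; exact hin i
  · intro a ha; rw [hlast]; exact hag a ha

theorem ctl_of_ctlAt [Finite X] {p : ℕ} [Fact p.Prime]
    {𝓦 : Set (∀ (Q : Type u) [Group Q], Subgroup Q)} (S : Sylow p X)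
    (h : CtlAt 𝓦 X (S : Subgroup X)) : Ctl p 𝓦 X := by
  apply fcsf_of_rel (fam 𝓦 X) ⊤ (S : Subgroup X) le_top S.isPGroup'
    (by rw [Subgroup.relIndex_top_right]; exact S.not_dvd_index)
  intro A x _ hA hxA
  exact h A x hA hxA

theorem ctlAt_of_ctl [Finite X] {p : ℕ} [Fact p.Prime]
    {𝓦 : Set (∀ (Q : Type u) [Group Q], Subgroup Q)}
    (h𝓦 : ∀ W ∈ 𝓦, Cfsg.IsCharPFunctor.{u} p W) (S : Sylow p X)
    (h : Ctl p 𝓦 X) : CtlAt 𝓦 X (S : Subgroup X) := by
  intro A x hA hxA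
  exact family_control_transfer (fam_conj h𝓦) h (S : Subgroup X) le_top S.isPGroup'
    (by rw [Subgroup.relIndex_top_right]; exact S.not_dvd_index) A x (Subgroup.mem_top x) hA hxA

/-! ### Mapping chains along homomorphisms -/

theorem image_lconj (f : X →* Y) (g : X) (A : Set X) :
    f '' (lconj g A) = lconj (f g) (f '' A) := by
  ext y
  constructor
  · rintro ⟨_, ⟨a, ha, rfl⟩, rfl⟩
    exact ⟨f a, ⟨a, ha, rfl⟩, by simp⟩
  · rintro ⟨_, ⟨a, ha, rfl⟩, rfl⟩
    exact ⟨g * a * g⁻¹, ⟨a, ha, rfl⟩, by simp⟩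

theorem Reach.map (f : X →* Y) {N S A : Set X} {c : X} (h : Reach N S A c) :
    Reach (f '' N) (f '' S) (f '' A) (f c) := by
  induction h with
  | refl hA =>
    rw [map_one]
    exact Reach.refl (Set.image_mono hA)
  | step g d _ hd hS ih =>
    rw [map_mul]
    refine Reach.step _ _ ih ⟨d, hd, rfl⟩ ?_
    rw [← map_mul, ← image_lconj]
    exact Set.image_mono hS

theorem Reach.mono' {N N' S S' A : Set X} (hN : N ⊆ N') (hS : S ⊆ S') {c : X}
    (h : Reach N S A c) : Reach N' S' A c := by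
  induction h with
  | refl hA => exact Reach.refl (hA.trans hS)
  | step g d _ hd hSg ih => exact Reach.step g d ih (hN hd) (hSg.trans hS)

theorem Rel.mono' {N N' S S' A : Set X} (hN : N ⊆ N') (hS : S ⊆ S') {h : X} :
    Rel N S A h → Rel N' S' A h :=
  fun ⟨c, hc, hag⟩ => ⟨c, hc.mono' hN hS, hag⟩

end ctl

end Cfsg.Agent.helper10

namespace Cfsg.Agent.helper10

universe u

section transport

variable {X Y : Type u} [Group X] [Group Y]

/-- Control in `X` gives control in the image of an injective homomorphism `X →* Y`, with respect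
to the functors induced on `Y`. -/
theorem fcsf_map_injective [Finite X] {p : ℕ} {𝓦 : Set (∀ (Q : Type u) [Group Q], Subgroup Q)}
    (h𝓦 : ∀ W ∈ 𝓦, Cfsg.IsCharPFunctor.{u} p W) (f : X →* Y) (hf : Function.Injective f)
    (hX : Ctl p 𝓦 X) : Cfsg.FamilyControlsStrongFusionIn p (fam 𝓦 Y) f.range := by
  obtain ⟨T₀, -, hT₀p, hT₀i, hctl⟩ := hX
  have hinjT : ∀ x ∈ T₀, f x = 1 → x = 1 := fun x _ hx => hf (by rw [hx, map_one])
  refine ⟨T₀.map f, Subgroup.map_le_range f T₀, hT₀p.map f, ?_, ?_⟩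
  · have h1 := Subgroup.relIndex_map_map_of_injective T₀ ⊤ hf
    rw [← MonoidHom.range_eq_map] at h1
    rw [h1]
    exact hT₀i
  · intro A h hh hA hAh
    obtain ⟨h', rfl⟩ := hh
    have hA'T : f ⁻¹' A ⊆ (T₀ : Set X) := by
      intro a' ha'
      obtain ⟨t, ht, hta⟩ := hA ha'
      rw [← hf hta]; exact ht
    have hA'h : (fun a => h' * a * h'⁻¹) '' (f ⁻¹' A) ⊆ (T₀ : Set X) := by
      rintro _ ⟨a', ha', rfl⟩
      have h1 : f h' * f a' * (f h')⁻¹ ∈ ((T₀.map f : Subgroup Y) : Set Y) := hAh ⟨f a', ha', rfl⟩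
      obtain ⟨t, ht, hta⟩ := h1
      have h2 : t = h' * a' * h'⁻¹ := hf (by rw [hta]; simp)
      show h' * a' * h'⁻¹ ∈ (T₀ : Set X)
      rw [← h2]; exact ht
    obtain ⟨n, c', h0, hstep, hin, hlast⟩ := hctl (f ⁻¹' A) h' (Subgroup.mem_top _) hA'T hA'h
    have hAimg : ∀ a ∈ A, ∃ a' ∈ f ⁻¹' A, f a' = a := by
      intro a ha
      obtain ⟨t, _, hta⟩ := hA ha
      exact ⟨t, by show f t ∈ A; rw [hta]; exact ha, hta⟩
    refine ⟨n, fun i => f (c' i), by show f (c' 0) = 1; rw [h0, map_one], ?_, ?_, ?_⟩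
    · intro i
      obtain ⟨_, ⟨W, hW, rfl⟩, hmem⟩ := hstep i
      refine ⟨Cfsg.inducedFunctor (G := Y) W, ⟨W, hW, rfl⟩, ?_⟩
      haveI : Finite T₀ := inferInstance
      rw [induced_map_of_injOn W (h𝓦 W hW) f T₀ hT₀p hinjT]
      refine Subgroup.mem_inf.2 ⟨⟨c' i.succ * (c' i.castSucc)⁻¹, by simp⟩, ?_⟩
      apply Subgroup.le_normalizer_map f
      exact ⟨c' i.succ * (c' i.castSucc)⁻¹, (Subgroup.mem_inf.1 hmem).2, by simp⟩
    · intro i
      rintro _ ⟨a, ha, rfl⟩
      obtain ⟨a', ha', rfl⟩ := hAimg a ha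
      refine ⟨c' i * a' * (c' i)⁻¹, hin i ⟨a', ha', rfl⟩, by simp⟩
    · intro a ha
      obtain ⟨a', ha', rfl⟩ := hAimg a ha
      have := hlast a' ha'
      have h2 := congrArg f this
      simpa using h2

/-- Control is invariant under isomorphism. -/
theorem ctl_iso [Finite X] {p : ℕ} {𝓦 : Set (∀ (Q : Type u) [Group Q], Subgroup Q)}
    (h𝓦 : ∀ W ∈ 𝓦, Cfsg.IsCharPFunctor.{u} p W) (e : X ≃* Y) (hX : Ctl p 𝓦 X) : Ctl p 𝓦 Y := by
  have h1 := fcsf_map_injective h𝓦 e.toMonoidHom e.injective hX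
  have h2 : e.toMonoidHom.range = ⊤ := MonoidHom.range_eq_top.2 e.surjective
  rw [h2] at h1
  exact h1

/-- Control in a subgroup `H` (as a group) gives control in `H` with respect to the ambient
functors. -/
theorem fcsf_subgroup [Finite X] {p : ℕ} {𝓦 : Set (∀ (Q : Type u) [Group Q], Subgroup Q)}
    (h𝓦 : ∀ W ∈ 𝓦, Cfsg.IsCharPFunctor.{u} p W) (H : Subgroup X) (hH : Ctl p 𝓦 H) :
    Cfsg.FamilyControlsStrongFusionIn p (fam 𝓦 X) H := by
  have h1 := fcsf_map_injective h𝓦 H.subtype H.subtype_injective hH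
  rw [Subgroup.range_subtype] at h1
  exact h1

/-- (F1) If `S ≤ H` and `H` (as a group) has control, then elements of `H` act on subsets of `S`
as chains in `X`. -/
theorem rel_of_ctl_subgroup [Finite X] {p : ℕ} [Fact p.Prime]
    {𝓦 : Set (∀ (Q : Type u) [Group Q], Subgroup Q)}
    (h𝓦 : ∀ W ∈ 𝓦, Cfsg.IsCharPFunctor.{u} p W) (S : Sylow p X) (H : Subgroup X)
    (hSH : (S : Subgroup X) ≤ H) (hH : Ctl p 𝓦 H) (h : X) (hh : h ∈ H) (A : Set X)
    (hA : A ⊆ ((S : Subgroup X) : Set X)) (hAh : lconj h A ⊆ ((S : Subgroup X) : Set X)) :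
    Rel (Nglob (fam 𝓦 X) ⊤ (S : Subgroup X)) ((S : Subgroup X) : Set X) A h := by
  have h1 := fcsf_subgroup h𝓦 H hH
  have hidx : ¬ p ∣ (S : Subgroup X).relIndex H := by
    intro hdvd
    exact S.not_dvd_index ((Subgroup.relIndex_mul_index hSH) ▸ Dvd.dvd.mul_right hdvd _)
  have h2 := family_control_transfer (fam_conj h𝓦) h1 (S : Subgroup X) hSH S.isPGroup' hidx
    A h hh hA hAh
  refine h2.mono' ?_ subset_rfl
  rintro d ⟨W, hW, hd⟩
  exact ⟨W, hW, Subgroup.mem_inf.2 ⟨Subgroup.mem_top _, (Subgroup.mem_inf.1 hd).2⟩⟩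

end transport

end Cfsg.Agent.helper10
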