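import Mathlib
import Cfsg.Prelude.Def_Solvable

set_option autoImplicit false
set_option linter.style.haveILetI false
set_option linter.unusedSectionVars false

namespace Cfsg.Agent.helper1

open Cfsg

section
variable {G : Type*} [Group G]

theorem pCore_normal (p : ℕ) : (pCore p G).Normal :=
  Subgroup.sSup_normal _ (fun _ h => h.1)

theorem pCore_isPGroup (p : ℕ) : IsPGroup p (pCore p G) :=
  Sylow.sSup_of_normal _ (fun _ h => h.2) (fun _ h => h.1)

theorem le_pCore {p : ℕ} {N : Subgroup G} (hN : N.Normal) (h : IsPGroup p N) : N ≤ pCore p G :=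
  le_sSup ⟨hN, h⟩

theorem pCore_le_sylow {p : ℕ} (P : Sylow p G) : pCore p G ≤ P :=
  haveI := pCore_normal (G := G) p
  IsPGroup.le_sylow_of_normal (pCore_isPGroup p) P

theorem iInf_sylow_normal (p : ℕ) : (⨅ P : Sylow p G, (P : Subgroup G)).Normal := by
  constructor
  intro x hx g
  rw [Subgroup.mem_iInf] at hx ⊢
  intro P
  have := hx (g⁻¹ • P)
  rw [Sylow.coe_subgroup_smul, Subgroup.mem_pointwise_smul_iff_inv_smul_mem] at this
  simpa using this

theorem iInf_sylow_isPGroup (p : ℕ) : IsPGroup p (⨅ P : Sylow p G, (P : Subgroup G) : Subgroup G) := by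
  obtain ⟨P⟩ := (inferInstance : Nonempty (Sylow p G))
  exact P.isPGroup'.to_le (iInf_le _ P)

theorem pCore_eq_iInf_sylow (p : ℕ) : pCore p G = ⨅ P : Sylow p G, (P : Subgroup G) := by
  apply le_antisymm
  · exact le_iInf (fun P => pCore_le_sylow P)
  · exact le_pCore (iInf_sylow_normal p) (iInf_sylow_isPGroup p)

end

section Finite
variable {G : Type*} [Group G] [Finite G]

/-- order of a join of two normal subgroups divides the product of the orders -/
theorem card_sup_dvd_mul (A B : Subgroup G) [A.Normal] :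
    Nat.card (A ⊔ B : Subgroup G) ∣ Nat.card A * Nat.card B := by
  have h1 : A.relIndex (A ⊔ B) = A.relIndex B := Subgroup.relIndex_sup_left B A
  have h2 : Nat.card (A ⊔ B : Subgroup G) = Nat.card A * A.relIndex (A ⊔ B) := by
    have := Subgroup.relIndex_mul_relIndex ⊥ A (A ⊔ B) bot_le le_sup_left
    rw [Subgroup.relIndex_bot_left, Subgroup.relIndex_bot_left] at this
    exact this.symm
  rw [h2, h1]
  exact Nat.mul_dvd_mul_left _ (Subgroup.relIndex_dvd_card A B)

theorem coprime_card_sup {n : ℕ} (A B : Subgroup G) [A.Normal]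
    (hA : (Nat.card A).Coprime n) (hB : (Nat.card B).Coprime n) :
    (Nat.card (A ⊔ B : Subgroup G)).Coprime n :=
  Nat.Coprime.coprime_dvd_left (card_sup_dvd_mul A B) (Nat.Coprime.mul_left hA hB)

theorem supClosed_normal_coprime (n : ℕ) :
    SupClosed {N : Subgroup G | N.Normal ∧ (Nat.card N).Coprime n} := by
  intro A hA B hB
  haveI := hA.1
  haveI := hB.1
  exact ⟨inferInstance, coprime_card_sup A B hA.2 hB.2⟩

theorem sSup_normal_coprime_mem (n : ℕ) (t : Set (Subgroup G))
    (ht : t ⊆ {N : Subgroup G | N.Normal ∧ (Nat.card N).Coprime n}) :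
    sSup t ∈ {N : Subgroup G | N.Normal ∧ (Nat.card N).Coprime n} := by
  apply (supClosed_normal_coprime n).sSup_mem (Set.toFinite t) _ ht
  refine ⟨inferInstance, ?_⟩
  simp

theorem pPrimeCore_normal (p : ℕ) : (pPrimeCore p G).Normal :=
  Subgroup.sSup_normal _ (fun _ h => h.1)

theorem pPrimeCore_coprime (p : ℕ) : (Nat.card (pPrimeCore p G)).Coprime p :=
  (sSup_normal_coprime_mem p _ (le_refl _)).2

theorem le_pPrimeCore {p : ℕ} {N : Subgroup G} (hN : N.Normal) (h : (Nat.card N).Coprime p) :
    N ≤ pPrimeCore p G :=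
  le_sSup ⟨hN, h⟩

/-- a subgroup containing a Sylow `p`-subgroup for every prime `p` is everything -/
theorem eq_top_of_forall_sylow_le (S : Subgroup G)
    (h : ∀ (p : ℕ) [Fact p.Prime], ∃ P : Sylow p G, (P : Subgroup G) ≤ S) : S = ⊤ := by
  apply Subgroup.eq_top_of_le_card
  apply Nat.le_of_dvd Nat.card_pos
  rw [← Nat.factorization_prime_le_iff_dvd Nat.card_pos.ne' Nat.card_pos.ne']
  intro p hp
  haveI : Fact p.Prime := ⟨hp⟩
  obtain ⟨P, hP⟩ := h p
  have h1 : Nat.card P = p ^ (Nat.card G).factorization p := P.card_eq_multiplicity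
  have h2 : Nat.card P ∣ Nat.card S := Subgroup.card_dvd_of_le hP
  rw [h1] at h2
  exact (hp.pow_dvd_iff_le_factorization Nat.card_pos.ne').mp h2

theorem fitting_normal : (fittingSubgroup G).Normal :=
  Subgroup.sSup_normal _ (fun _ h => h.1)

theorem le_fitting {N : Subgroup G} (hN : N.Normal) (h : Group.IsNilpotent N) :
    N ≤ fittingSubgroup G :=
  le_sSup ⟨hN, h⟩

theorem pCore_le_fitting (p : ℕ) [Fact p.Prime] : pCore p G ≤ fittingSubgroup G :=
  le_fitting (pCore_normal p) (pCore_isPGroup p).isNilpotent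

/-- a normal nilpotent subgroup lies in the join of the `p`-cores -/
theorem le_iSup_pCore_of_nilpotent {N : Subgroup G} (hN : N.Normal) (h : Group.IsNilpotent N) :
    N ≤ ⨆ p : Nat.Primes, pCore (p : ℕ) G := by
  have key : (⨆ p : Nat.Primes, pCore (p : ℕ) G).subgroupOf N = ⊤ := by
    apply eq_top_of_forall_sylow_le
    intro p hp
    obtain ⟨P⟩ := (inferInstance : Nonempty (Sylow p N))
    refine ⟨P, ?_⟩
    haveI : (P : Subgroup N).Normal := inferInstance
    haveI : (P : Subgroup N).Characteristic := Sylow.characteristic_of_normal P inferInstance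
    have hn : ((P : Subgroup N).map N.subtype).Normal := ConjAct.normal_of_characteristic_of_normal
    have hp' : IsPGroup p ((P : Subgroup N).map N.subtype) := P.isPGroup'.map _
    have h1 : (P : Subgroup N).map N.subtype ≤ pCore p G := le_pCore hn hp'
    have h2 : pCore p G ≤ ⨆ p : Nat.Primes, pCore (p : ℕ) G :=
      le_iSup (fun q : Nat.Primes => pCore (q : ℕ) G) ⟨p, hp.out⟩
    intro x hx
    rw [Subgroup.mem_subgroupOf]
    exact h2 (h1 (Subgroup.mem_map_of_mem _ hx))
  intro x hx
  have : (⟨x, hx⟩ : N) ∈ (⨆ p : Nat.Primes, pCore (p : ℕ) G).subgroupOf N := by rw [key]; trivial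
  exact this

theorem fitting_eq_iSup_pCore : fittingSubgroup G = ⨆ p : Nat.Primes, pCore (p : ℕ) G := by
  apply le_antisymm
  · apply sSup_le
    intro N hN
    exact le_iSup_pCore_of_nilpotent hN.1 hN.2
  · apply iSup_le
    intro p
    haveI : Fact (p : ℕ).Prime := ⟨p.2⟩
    exact pCore_le_fitting p

theorem coprime_card_of_isPGroup_ne {p q : ℕ} (hp : p.Prime) (hq : q.Prime) (hne : q ≠ p)
    {H : Subgroup G} (hH : IsPGroup q H) : (Nat.card H).Coprime p := by
  haveI : Fact q.Prime := ⟨hq⟩
  obtain ⟨k, hk⟩ := hH.exists_card_eq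
  rw [hk]
  exact Nat.Coprime.pow_left k ((Nat.coprime_primes hq hp).mpr hne)

/-- in the join of the `p`-cores, the `p`-core has index prime to `p` -/
theorem not_dvd_relIndex_pCore (p : ℕ) [hp : Fact p.Prime] :
    ¬ p ∣ (pCore p G).relIndex (⨆ q : Nat.Primes, pCore (q : ℕ) G) := by
  set t : Set (Subgroup G) := {N | ∃ q : Nat.Primes, (q : ℕ) ≠ p ∧ N = pCore (q : ℕ) G} with ht
  have hK := sSup_normal_coprime_mem p t (by
    rintro N ⟨q, hq, rfl⟩
    exact ⟨pCore_normal _, coprime_card_of_isPGroup_ne hp.out q.2 hq (pCore_isPGroup _)⟩)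
  set K := sSup t with hKdef
  haveI : (pCore p G).Normal := pCore_normal p
  have hF : (⨆ q : Nat.Primes, pCore (q : ℕ) G) = pCore p G ⊔ K := by
    apply le_antisymm
    · apply iSup_le
      intro q
      by_cases hq : (q : ℕ) = p
      · rw [hq]; exact le_sup_left
      · exact le_sup_of_le_right (le_sSup ⟨q, hq, rfl⟩)
    · apply sup_le
      · exact le_iSup (fun q : Nat.Primes => pCore (q : ℕ) G) ⟨p, hp.out⟩
      · apply sSup_le
        rintro N ⟨q, _, rfl⟩
        exact le_iSup (fun q : Nat.Primes => pCore (q : ℕ) G) q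
  rw [hF, Subgroup.relIndex_sup_left]
  intro hdvd
  have h1 : p ∣ Nat.card K := hdvd.trans (Subgroup.relIndex_dvd_card _ _)
  have h2 := hK.2
  have := Nat.eq_one_of_dvd_coprimes h2 h1 (dvd_refl p)
  exact hp.out.one_lt.ne' this

theorem fitting_isNilpotent : Group.IsNilpotent (fittingSubgroup G) := by
  set F := fittingSubgroup G with hF
  have hFeq : F = ⨆ q : Nat.Primes, pCore (q : ℕ) G := fitting_eq_iSup_pCore
  apply ((Group.isNilpotent_of_finite_tfae (G := F)).out 0 3 rfl rfl).mpr
  intro p hp Q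
  haveI : Fact p.Prime := hp
  haveI : (pCore p G).Normal := pCore_normal p
  have hR : IsPGroup p ((pCore p G).subgroupOf F) := by
    have := (pCore_isPGroup (G := G) p).comap_subtype (K := F)
    exact this
  have hidx : ¬ p ∣ ((pCore p G).subgroupOf F).index := by
    have := not_dvd_relIndex_pCore (G := G) p
    rw [← hFeq] at this
    exact this
  set R' : Sylow p F := hR.toSylow hidx with hR'
  haveI : (R' : Subgroup F).Normal := by
    change ((pCore p G).subgroupOf F).Normal
    infer_instance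
  obtain ⟨g, hg⟩ := MulAction.exists_smul_eq F R' Q
  rw [Sylow.smul_eq_of_normal] at hg
  rw [← hg]
  infer_instance

end Finite

end Cfsg.Agent.helper1
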