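import Mathlib
import Cfsg.Agent.Lib_helper10_Sec1
import Cfsg.Agent.Lib_helper1_Core

set_option autoImplicit false

/-!
# Sections: the hypothesis of Glauberman's section theorem and its inheritance
-/

namespace Cfsg.Agent.helper10

universe u

section hyp

variable {X Y : Type u} [Group X] [Group Y]

/-- `C_X(O_p(X)) ≤ O_p(X)`. -/
def Constrained (p : ℕ) (X : Type u) [Group X] : Prop :=
  Subgroup.centralizer ((Cfsg.pCore p X : Subgroup X) : Set X) ≤ Cfsg.pCore p X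

/-- The hypothesis: control in all constrained sections of `X`. -/
def Hyp (p : ℕ) (𝓦 : Set (∀ (Q : Type u) [Group Q], Subgroup Q)) (X : Type u) [Group X] : Prop :=
  ∀ (K : Subgroup X) (Y : Type u) [Group Y] (f : K →* Y), Function.Surjective f →
    Constrained p Y → Ctl p 𝓦 Y

theorem pCore_map_equiv (p : ℕ) (e : X ≃* Y) :
    (Cfsg.pCore p X).map e.toMonoidHom = Cfsg.pCore p Y := by
  apply le_antisymm
  · apply Cfsg.Agent.helper1.le_pCore
    · haveI := Cfsg.Agent.helper1.pCore_normal (G := X) p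
      exact Subgroup.Normal.map inferInstance _ e.surjective
    · exact (Cfsg.Agent.helper1.pCore_isPGroup p).map _
  · have h1 : (Cfsg.pCore p Y).map e.symm.toMonoidHom ≤ Cfsg.pCore p X := by
      apply Cfsg.Agent.helper1.le_pCore
      · haveI := Cfsg.Agent.helper1.pCore_normal (G := Y) p
        exact Subgroup.Normal.map inferInstance _ e.symm.surjective
      · exact (Cfsg.Agent.helper1.pCore_isPGroup p).map _
    intro y hy
    refine ⟨e.symm y, h1 ⟨y, hy, rfl⟩, ?_⟩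
    simp

theorem constrained_iso {p : ℕ} (e : X ≃* Y) (h : Constrained p X) : Constrained p Y := by
  intro y hy
  rw [← pCore_map_equiv p e]
  refine ⟨e.symm y, h ?_, by simp⟩
  rw [Subgroup.mem_centralizer_iff]
  intro x hx
  have h1 : e x ∈ Cfsg.pCore p Y := by
    rw [← pCore_map_equiv p e]; exact ⟨x, hx, rfl⟩
  have h2 := (Subgroup.mem_centralizer_iff.mp hy) (e x) h1
  apply e.injective
  rw [map_mul, map_mul, MulEquiv.apply_symm_apply]
  exact h2

theorem hyp_subgroup {p : ℕ} {𝓦 : Set (∀ (Q : Type u) [Group Q], Subgroup Q)} (H : Subgroup X)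
    (h : Hyp p 𝓦 X) : Hyp p 𝓦 H := by
  intro K' Y _ f hf hY
  let e : K' ≃* (K'.map H.subtype) := K'.equivMapOfInjective H.subtype H.subtype_injective
  exact h (K'.map H.subtype) Y (f.comp e.symm.toMonoidHom)
    (hf.comp e.symm.surjective) hY

theorem hyp_quotient {p : ℕ} {𝓦 : Set (∀ (Q : Type u) [Group Q], Subgroup Q)} (N : Subgroup X)
    [N.Normal] (h : Hyp p 𝓦 X) : Hyp p 𝓦 (X ⧸ N) := by
  intro K' Y _ f hf hY
  let K : Subgroup X := K'.comap (QuotientGroup.mk' N)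
  let g : K →* K' := ((QuotientGroup.mk' N).comp K.subtype).codRestrict K' (fun x => x.2)
  have hg : Function.Surjective g := by
    rintro ⟨y, hy⟩
    obtain ⟨x, rfl⟩ := QuotientGroup.mk'_surjective N y
    exact ⟨⟨x, hy⟩, rfl⟩
  exact h K Y (f.comp g) (hf.comp hg) hY

theorem hyp_top {p : ℕ} {𝓦 : Set (∀ (Q : Type u) [Group Q], Subgroup Q)}
    (h : Hyp p 𝓦 X) (hX : Constrained p X) : Ctl p 𝓦 X :=
  h ⊤ X (⊤ : Subgroup X).subtype (fun x => ⟨⟨x, Subgroup.mem_top x⟩, rfl⟩) hX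

end hyp

end Cfsg.Agent.helper10

namespace Cfsg.Agent.helper10

universe u

section lifting

variable {X Y : Type u} [Group X] [Group Y]

/-- Lifting a chain through a surjective homomorphism. -/
theorem Reach.lift (π : X →* Y) (hπ : Function.Surjective π) {N S : Set Y} {A : Set X} {c' : Y}
    (h : Reach N S (π '' A) c') : ∃ c : X, π c = c' ∧ Reach (π ⁻¹' N) (π ⁻¹' S) A c := by
  induction h with
  | refl hA =>
    refine ⟨1, map_one π, Reach.refl ?_⟩
    intro a ha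
    exact hA ⟨a, ha, rfl⟩
  | step g' d' _ hd hS ih =>
    obtain ⟨g, hg, hgr⟩ := ih
    obtain ⟨d, rfl⟩ := hπ d'
    refine ⟨d * g, by rw [map_mul, hg], Reach.step g d hgr hd ?_⟩
    rintro _ ⟨a, ha, rfl⟩
    apply hS
    refine ⟨π a, ⟨a, ha, rfl⟩, ?_⟩
    simp [hg]

/-- The factorization lemma: if `h = m * c` with `m ∈ H₂`, `c ∈ H₁`, both containing the Sylow
subgroup `S`, the factorization can be corrected so that the intermediate set lies in `S`. -/
theorem exists_factor_sylow [Finite X] {p : ℕ} [Fact p.Prime] (S : Sylow p X) (H₁ H₂ : Subgroup X)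
    (hS₁ : (S : Subgroup X) ≤ H₁) (hS₂ : (S : Subgroup X) ≤ H₂) (m c : X) (hm : m ∈ H₂)
    (hc : c ∈ H₁) (A : Set X) (hA : A ⊆ ((S : Subgroup X) : Set X))
    (hAh : lconj (m * c) A ⊆ ((S : Subgroup X) : Set X)) :
    ∃ m' ∈ H₂, ∃ c' ∈ H₁, m * c = m' * c' ∧ lconj c' A ⊆ ((S : Subgroup X) : Set X) := by
  -- the subgroup generated by `c A c⁻¹` lies in `H₁ ⊓ H₂`
  have hB : Subgroup.closure (lconj c A) ≤ H₁ ⊓ H₂ := by
    rw [Subgroup.closure_le]
    rintro _ ⟨a, ha, rfl⟩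
    refine Subgroup.mem_inf.2 ⟨H₁.mul_mem (H₁.mul_mem hc (hS₁ (hA ha))) (H₁.inv_mem hc), ?_⟩
    have h1 : m * c * a * (m * c)⁻¹ ∈ (S : Subgroup X) := hAh ⟨a, ha, rfl⟩
    have h2 : c * a * c⁻¹ = m⁻¹ * (m * c * a * (m * c)⁻¹) * m := by group
    show c * a * c⁻¹ ∈ H₂
    rw [h2]
    exact H₂.mul_mem (H₂.mul_mem (H₂.inv_mem hm) (hS₂ h1)) hm
  have hBp : IsPGroup p (Subgroup.closure (lconj c A)) := by
    have h1 : Subgroup.closure (lconj c A) ≤ (S : Subgroup X).map (MulAut.conj c).toMonoidHom := by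
      rw [Subgroup.closure_le]
      rintro _ ⟨a, ha, rfl⟩
      exact ⟨a, hA ha, by simp [MulAut.conj_apply]⟩
    exact (S.isPGroup'.map _).to_le h1
  have hidx : ¬ p ∣ (S : Subgroup X).relIndex (H₁ ⊓ H₂) := by
    intro hdvd
    exact S.not_dvd_index ((Subgroup.relIndex_mul_index (le_inf hS₁ hS₂)) ▸
      Dvd.dvd.mul_right hdvd _)
  obtain ⟨n, hn, hnB⟩ := pgroup_conj_into_relSylow (H₁ ⊓ H₂) _ (S : Subgroup X) hB hBp
    S.isPGroup' hidx
  refine ⟨m * n⁻¹, H₂.mul_mem hm (H₂.inv_mem (Subgroup.mem_inf.1 hn).2), n * c,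
    H₁.mul_mem (Subgroup.mem_inf.1 hn).1 hc, by group, ?_⟩
  rintro _ ⟨a, ha, rfl⟩
  apply hnB
  refine ⟨c * a * c⁻¹, Subgroup.subset_closure ⟨a, ha, rfl⟩, ?_⟩
  simp [MulAut.conj_apply, mul_assoc]

end lifting

end Cfsg.Agent.helper10
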