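import Mathlib

set_option autoImplicit false

namespace Cfsg.Agent.helper19

/-- For `N` normal, `|N : P ⊓ N| = |P ⊔ N : P|`. -/
theorem relIndex_inf_normal {G : Type*} [Group G] [Finite G] (P N : Subgroup G) [N.Normal] :
    (P ⊓ N).relIndex N = P.relIndex (P ⊔ N) := by
  have h1 : Nat.card ↥(P ⊓ N) * (P ⊓ N).relIndex P = Nat.card P := by
    rw [← Subgroup.relIndex_bot_left, Subgroup.relIndex_mul_relIndex _ _ _ bot_le inf_le_left,
      Subgroup.relIndex_bot_left]
  have h2 : Nat.card ↥(P ⊓ N) * (P ⊓ N).relIndex N = Nat.card N := by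
    rw [← Subgroup.relIndex_bot_left, Subgroup.relIndex_mul_relIndex _ _ _ bot_le inf_le_right,
      Subgroup.relIndex_bot_left]
  have h3 : Nat.card N * N.relIndex (P ⊔ N) = Nat.card ↥(P ⊔ N) := by
    rw [← Subgroup.relIndex_bot_left, Subgroup.relIndex_mul_relIndex _ _ _ bot_le le_sup_right,
      Subgroup.relIndex_bot_left]
  have h4 : Nat.card P * P.relIndex (P ⊔ N) = Nat.card ↥(P ⊔ N) := by
    rw [← Subgroup.relIndex_bot_left, Subgroup.relIndex_mul_relIndex _ _ _ bot_le le_sup_left,
      Subgroup.relIndex_bot_left]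
  have h5 : N.relIndex (P ⊔ N) = (P ⊓ N).relIndex P := by
    rw [Subgroup.relIndex_sup_right, ← Subgroup.inf_relIndex_right, inf_comm]
  rw [h5] at h3
  have hpos1 : 0 < Nat.card ↥(P ⊓ N) := Nat.card_pos
  have hpos2 : 0 < (P ⊓ N).relIndex P := by
    rcases Nat.eq_zero_or_pos ((P ⊓ N).relIndex P) with h | h
    · rw [h, mul_zero] at h1
      exact absurd h1.symm (Nat.card_pos (α := P)).ne'
    · exact h
  have key : Nat.card ↥(P ⊓ N) * (P ⊓ N).relIndex P * (P ⊓ N).relIndex N =
      Nat.card ↥(P ⊓ N) * (P ⊓ N).relIndex P * P.relIndex (P ⊔ N) := by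
    calc Nat.card ↥(P ⊓ N) * (P ⊓ N).relIndex P * (P ⊓ N).relIndex N
        = (Nat.card ↥(P ⊓ N) * (P ⊓ N).relIndex N) * (P ⊓ N).relIndex P := by ring
      _ = Nat.card ↥(P ⊔ N) := by rw [h2, h3]
      _ = Nat.card ↥(P ⊓ N) * (P ⊓ N).relIndex P * P.relIndex (P ⊔ N) := by rw [h1, h4]
  exact Nat.eq_of_mul_eq_mul_left (Nat.mul_pos hpos1 hpos2) key

/-- The intersection of a Sylow `p`-subgroup with a normal subgroup `N` has index prime to `p`
in `N`. -/
theorem sylow_inf_normal_not_dvd {G : Type*} [Group G] [Finite G] {p : ℕ} [Fact p.Prime]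
    (P : Sylow p G) (N : Subgroup G) [N.Normal] :
    ¬ p ∣ ((P : Subgroup G) ⊓ N).relIndex N := by
  rw [relIndex_inf_normal]
  intro h
  exact P.not_dvd_index (h.trans (Subgroup.relIndex_dvd_index_of_le le_sup_left))

/-- Frattini argument for the intersection of a Sylow subgroup with a normal subgroup. -/
theorem frattini_inf {G : Type*} [Group G] [Finite G] {p : ℕ} [Fact p.Prime]
    (P : Sylow p G) (N : Subgroup G) [N.Normal] :
    Subgroup.normalizer (((P : Subgroup G) ⊓ N : Subgroup G) : Set G) ⊔ N = ⊤ := by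
  have hp : IsPGroup p ↥(((P : Subgroup G) ⊓ N).subgroupOf N) :=
    IsPGroup.comap_subtype (P.isPGroup'.to_inf_left)
  have hidx : ¬ p ∣ (((P : Subgroup G) ⊓ N).subgroupOf N).index :=
    sylow_inf_normal_not_dvd P N
  have h := Sylow.normalizer_sup_eq_top (hp.toSylow hidx)
  rw [IsPGroup.toSylow_coe, Subgroup.map_subgroupOf_eq_of_le inf_le_right] at h
  exact h

/-- A nonabelian simple group is not a `p`-group. -/
theorem not_isPGroup_of_simple_nonabelian {T : Type*} [Group T] [Finite T] [IsSimpleGroup T]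
    (hna : ¬ IsMulCommutative T) (p : ℕ) [Fact p.Prime] : ¬ IsPGroup p T := by
  intro hT
  have hnt : Nontrivial T := IsSimpleGroup.toNontrivial
  have hc : Nontrivial (Subgroup.center T) := hT.center_nontrivial
  have hcn : (Subgroup.center T).Normal := inferInstance
  rcases hcn.eq_bot_or_eq_top with h | h
  · rw [Subgroup.nontrivial_iff_ne_bot] at hc
    exact hc h
  · apply hna
    rw [isMulCommutative_iff]
    intro a b
    have : b ∈ Subgroup.center T := by rw [h]; trivial
    exact (Subgroup.mem_center_iff.mp this a)
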