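import Mathlib
import Cfsg.Agent.Lib_helper10_Sec2
import Cfsg.Agent.Lib_helper19_Sylow

set_option autoImplicit false

/-!
# Lifting control of strong fusion through a normal `p'`-subgroup
-/

namespace Cfsg.Agent.helper10

universe u

section lift

variable {X : Type u} [Group X] [Finite X] {p : ℕ} [hp : Fact p.Prime]

local notation:max K "^[" g "]" => Subgroup.map (MulEquiv.toMonoidHom (MulAut.conj g)) K

/-- A subgroup has `p'`-index in its product with a normal `p'`-subgroup. -/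
theorem not_dvd_relIndex_sup_coprime (V D : Subgroup X) [D.Normal]
    (hD : (Nat.card D).Coprime p) : ¬ p ∣ V.relIndex (V ⊔ D) := by
  rw [← Cfsg.Agent.helper19.relIndex_inf_normal V D]
  intro h
  have h1 : p ∣ Nat.card D := h.trans (Subgroup.relIndex_dvd_card _ _)
  have h2 : p ∣ Nat.gcd (Nat.card D) p := Nat.dvd_gcd h1 dvd_rfl
  rw [hD] at h2
  exact hp.out.one_lt.ne' (Nat.dvd_one.mp h2)

/-- If `V^g ≤ V` then `g` normalizes `V`. -/
theorem mem_normalizer_of_map_conj_le (V : Subgroup X) (g : X) (h : V^[g] ≤ V) :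
    g ∈ Subgroup.normalizer (V : Set X) := by
  rw [mem_normalizer_iff_map_conj]
  apply Subgroup.eq_of_le_of_card_ge h
  rw [card_map_conj]

/-- A `p`-group meets a `p'`-group trivially. -/
theorem eq_one_of_mem_of_coprime (S D : Subgroup X) (hS : IsPGroup p S)
    (hD : (Nat.card D).Coprime p) (x : X) (hxS : x ∈ S) (hxD : x ∈ D) : x = 1 := by
  obtain ⟨k, hk⟩ := hS ⟨x, hxS⟩
  have h1 : orderOf x ∣ p ^ k := by
    apply orderOf_dvd_of_pow_eq_one
    have := congrArg Subtype.val hk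
    simpa using this
  have h2 : orderOf x ∣ Nat.card D := Subgroup.orderOf_dvd_natCard D hxD
  have h3 : Nat.Coprime (p ^ k) (Nat.card D) := (Nat.Coprime.pow_right k hD).symm
  have h4 : orderOf x ∣ Nat.gcd (p ^ k) (Nat.card D) := Nat.dvd_gcd h1 h2
  rw [h3] at h4
  exact orderOf_eq_one_iff.mp (Nat.dvd_one.mp h4)

/-- The correction step: an element normalizing `V·D` and carrying `B ⊆ S` into `S·D` can be
corrected modulo `D` to an element of `N(V)` carrying `B` into `S`. -/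
theorem correct_step (S : Sylow p X) (D : Subgroup X) [D.Normal] (hD : (Nat.card D).Coprime p)
    (V : Subgroup X) (hVS : V ≤ (S : Subgroup X))
    (hSV : (S : Subgroup X) ≤ Subgroup.normalizer (V : Set X))
    (e : X) (he : e ∈ Subgroup.normalizer ((V ⊔ D : Subgroup X) : Set X))
    (B : Set X) (hB : B ⊆ ((S : Subgroup X) : Set X))
    (heB : lconj e B ⊆ (((S : Subgroup X) ⊔ D : Subgroup X) : Set X)) :
    ∃ d ∈ Subgroup.normalizer (V : Set X), d * e⁻¹ ∈ D ∧
      lconj d B ⊆ ((S : Subgroup X) : Set X) := by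
  have hVp : IsPGroup p V := S.isPGroup'.to_le hVS
  -- Step 1: correct `e` into `N(V)`
  have h1 : V^[e] ≤ V ⊔ D := by
    have h2 : (V ⊔ D)^[e] = V ⊔ D := (mem_normalizer_iff_map_conj _ e).1 he
    rw [← h2]
    exact Subgroup.map_mono le_sup_left
  obtain ⟨n, hn, hnV⟩ := pgroup_conj_into_relSylow (V ⊔ D) (V^[e]) V h1 (hVp.map _) hVp
    (not_dvd_relIndex_sup_coprime V D hD)
  obtain ⟨v, hv, m, hm, rfl⟩ := (Subgroup.mem_sup_of_normal_right).1 hn
  have hme : m * e ∈ Subgroup.normalizer (V : Set X) := by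
    apply mem_normalizer_of_map_conj_le
    rw [map_conj_mul]
    have h3 : ((V^[e])^[m])^[v] ≤ V := by rw [← map_conj_mul]; exact hnV
    rw [map_conj_le_iff] at h3
    refine h3.trans ?_
    rw [(mem_normalizer_iff_map_conj V v⁻¹).1 (Subgroup.inv_mem _ (Subgroup.le_normalizer hv))]
  -- Step 2: correct into `S`
  obtain ⟨N₁, hN₁⟩ : ∃ N₁ : Subgroup X, N₁ = Subgroup.normalizer (V : Set X) := ⟨_, rfl⟩
  rw [← hN₁] at hme hSV
  obtain ⟨H, hH⟩ : ∃ H : Subgroup X, H = ((S : Subgroup X) ⊔ D) ⊓ N₁ := ⟨_, rfl⟩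
  have hSH : (S : Subgroup X) ≤ H := by rw [hH]; exact le_inf le_sup_left hSV
  have hidx : ¬ p ∣ (S : Subgroup X).relIndex H := by
    intro hdvd
    apply not_dvd_relIndex_sup_coprime (S : Subgroup X) D hD
    rw [← Subgroup.relIndex_mul_relIndex (S : Subgroup X) H ((S : Subgroup X) ⊔ D) hSH
      (by rw [hH]; exact inf_le_left)]
    exact Dvd.dvd.mul_right hdvd _
  have hB₁ : Subgroup.closure (lconj (m * e) B) ≤ H := by
    rw [Subgroup.closure_le, hH]
    rintro _ ⟨b, hb, rfl⟩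
    refine Subgroup.mem_inf.2 ⟨?_, ?_⟩
    · have h4 : e * b * e⁻¹ ∈ (S : Subgroup X) ⊔ D := heB ⟨b, hb, rfl⟩
      have h5 : m * e * b * (m * e)⁻¹ = m * (e * b * e⁻¹) * m⁻¹ := by group
      show m * e * b * (m * e)⁻¹ ∈ (S : Subgroup X) ⊔ D
      rw [h5]
      exact Subgroup.mul_mem _ (Subgroup.mul_mem _ (Subgroup.mem_sup_right hm) h4)
        (Subgroup.inv_mem _ (Subgroup.mem_sup_right hm))
    · exact N₁.mul_mem (N₁.mul_mem hme (hSV (hB hb))) (N₁.inv_mem hme)
  have hB₁p : IsPGroup p (Subgroup.closure (lconj (m * e) B)) := by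
    have h4 : Subgroup.closure (lconj (m * e) B) ≤ (S : Subgroup X)^[m * e] := by
      rw [Subgroup.closure_le]
      rintro _ ⟨b, hb, rfl⟩
      exact ⟨b, hB hb, by simp [MulAut.conj_apply, mul_assoc]⟩
    exact (S.isPGroup'.map _).to_le h4
  obtain ⟨n₂, hn₂, hn₂B⟩ := pgroup_conj_into_relSylow H _ (S : Subgroup X) hB₁ hB₁p
    S.isPGroup' hidx
  rw [hH] at hn₂
  obtain ⟨hn₂SD, hn₂N⟩ := Subgroup.mem_inf.1 hn₂
  obtain ⟨s, hs, m₂, hm₂, rfl⟩ := (Subgroup.mem_sup_of_normal_right).1 hn₂SD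
  have hm₂N : m₂ ∈ N₁ := by
    have : m₂ = s⁻¹ * (s * m₂) := by group
    rw [this]
    exact N₁.mul_mem (N₁.inv_mem (hSV hs)) hn₂N
  refine ⟨m₂ * (m * e), hN₁ ▸ N₁.mul_mem hm₂N hme, ?_, ?_⟩
  · have : m₂ * (m * e) * e⁻¹ = m₂ * m := by group
    rw [this]
    exact D.mul_mem hm₂ hm
  · rintro _ ⟨b, hb, rfl⟩
    have h6 : (s * m₂) * (m * e * b * (m * e)⁻¹) * (s * m₂)⁻¹ ∈ (S : Subgroup X) := by
      apply hn₂B
      exact ⟨m * e * b * (m * e)⁻¹, Subgroup.subset_closure ⟨b, hb, rfl⟩,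
        by simp [MulAut.conj_apply, mul_assoc]⟩
    have h7 : m₂ * (m * e) * b * (m₂ * (m * e))⁻¹ =
        s⁻¹ * ((s * m₂) * (m * e * b * (m * e)⁻¹) * (s * m₂)⁻¹) * s := by group
    show m₂ * (m * e) * b * (m₂ * (m * e))⁻¹ ∈ (S : Subgroup X)
    rw [h7]
    exact Subgroup.mul_mem _ (Subgroup.mul_mem _ (Subgroup.inv_mem _ hs) h6) hs

end lift

end Cfsg.Agent.helper10

namespace Cfsg.Agent.helper10

universe u

section lift2

variable {X : Type u} [Group X] [Finite X] {p : ℕ} [hp : Fact p.Prime]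

local notation:max K "^[" g "]" => Subgroup.map (MulEquiv.toMonoidHom (MulAut.conj g)) K

/-- A Sylow subgroup normalizes the value of a conjugacy functor on it. -/
theorem sylow_le_normalizer_functor (W' : Subgroup X → Subgroup X)
    (hW' : Cfsg.IsConjugacyFunctor p W') (S : Subgroup X) (hS : IsPGroup p S) :
    S ≤ Subgroup.normalizer ((W' S : Subgroup X) : Set X) := by
  intro s hs
  rw [mem_normalizer_iff_map_conj, ← (hW' S hS).2.2 s,
    (mem_normalizer_iff_map_conj S s).1 (Subgroup.le_normalizer hs)]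

/-- Lifting control through a normal `p'`-subgroup. -/
theorem ctlAt_lift_coprime {𝓦 : Set (∀ (Q : Type u) [Group Q], Subgroup Q)}
    (h𝓦 : ∀ W ∈ 𝓦, Cfsg.IsCharPFunctor.{u} p W) (S : Sylow p X) (D : Subgroup X) [D.Normal]
    (hD : (Nat.card D).Coprime p)
    (hq : CtlAt 𝓦 (X ⧸ D) ((S : Subgroup X).map (QuotientGroup.mk' D))) :
    CtlAt 𝓦 X (S : Subgroup X) := by
  intro A h hA hAh
  have hsurj : Function.Surjective (QuotientGroup.mk' D) := QuotientGroup.mk'_surjective D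
  have hinjS : ∀ x ∈ (S : Subgroup X), (QuotientGroup.mk' D) x = 1 → x = 1 := by
    intro x hx hx1
    have hxD : x ∈ D := by
      rw [← QuotientGroup.ker_mk' D]; exact hx1
    exact eq_one_of_mem_of_coprime (S : Subgroup X) D S.isPGroup' hD x hx hxD
  have hpre : ∀ x : X, (QuotientGroup.mk' D) x ∈ (S : Subgroup X).map (QuotientGroup.mk' D) ↔
      x ∈ (S : Subgroup X) ⊔ D := by
    intro x
    rw [← Subgroup.mem_comap, Subgroup.comap_map_eq, QuotientGroup.ker_mk']
  have hAq : (QuotientGroup.mk' D) '' A ⊆ (((S : Subgroup X).map (QuotientGroup.mk' D) : Subgroup (X ⧸ D)) : Set (X ⧸ D)) := by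
    rintro _ ⟨a, ha, rfl⟩
    exact ⟨a, hA ha, rfl⟩
  have hAhq : lconj ((QuotientGroup.mk' D) h) ((QuotientGroup.mk' D) '' A) ⊆
      (((S : Subgroup X).map (QuotientGroup.mk' D) : Subgroup (X ⧸ D)) : Set (X ⧸ D)) := by
    rw [← image_lconj]
    rintro _ ⟨a, ha, rfl⟩
    exact ⟨a, hAh ha, rfl⟩
  obtain ⟨cb, hcb, hag⟩ := hq _ _ hAq hAhq
  obtain ⟨c₀, hc₀, hreach₀⟩ := Reach.lift (QuotientGroup.mk' D) hsurj hcb
  -- the correction
  have key : ∀ {c : X}, Reach ((QuotientGroup.mk' D) ⁻¹' (Nglob (fam 𝓦 (X ⧸ D)) ⊤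
        ((S : Subgroup X).map (QuotientGroup.mk' D))))
      ((QuotientGroup.mk' D) ⁻¹' ((((S : Subgroup X).map (QuotientGroup.mk' D) :
        Subgroup (X ⧸ D)) : Set (X ⧸ D)))) A c →
      ∃ c' : X, c' * c⁻¹ ∈ D ∧
        Reach (Nglob (fam 𝓦 X) ⊤ (S : Subgroup X)) ((S : Subgroup X) : Set X) A c' := by
    intro c hc
    induction hc with
    | refl _ => exact ⟨1, by simp, Reach.refl hA⟩
    | step g d _ hd hS ih =>
      obtain ⟨g', hg'D, hg'⟩ := ih
      obtain ⟨_, ⟨W, hW, rfl⟩, hdmem⟩ := hd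
      have hdN : (QuotientGroup.mk' D) d ∈ Subgroup.normalizer ((Cfsg.inducedFunctor W
          ((S : Subgroup X).map (QuotientGroup.mk' D)) : Subgroup (X ⧸ D)) : Set (X ⧸ D)) :=
        (Subgroup.mem_inf.1 hdmem).2
      rw [induced_map_of_injOn W (h𝓦 W hW) (QuotientGroup.mk' D) (S : Subgroup X) S.isPGroup'
        hinjS] at hdN
      have hconjF := induced_isConjugacyFunctor (X := X) W (h𝓦 W hW)
      have hVS : Cfsg.inducedFunctor W (S : Subgroup X) ≤ (S : Subgroup X) :=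
        (hconjF _ S.isPGroup').1
      have hSV := sylow_le_normalizer_functor _ hconjF (S : Subgroup X) S.isPGroup'
      -- the element `e`
      have hgg' : g * g'⁻¹ ∈ D := by
        have : g * g'⁻¹ = (g' * g⁻¹)⁻¹ := by group
        rw [this]; exact D.inv_mem hg'D
      have hπe : (QuotientGroup.mk' D) (d * g * g'⁻¹) = (QuotientGroup.mk' D) d := by
        have h1 : d * g * g'⁻¹ = d * (g * g'⁻¹) := by group
        rw [h1, map_mul]
        have h2 : (QuotientGroup.mk' D) (g * g'⁻¹) = 1 := by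
          have : g * g'⁻¹ ∈ (QuotientGroup.mk' D).ker := by rw [QuotientGroup.ker_mk']; exact hgg'
          exact this
        rw [h2, mul_one]
      have he : d * g * g'⁻¹ ∈ Subgroup.normalizer
          (((Cfsg.inducedFunctor W (S : Subgroup X)) ⊔ D : Subgroup X) : Set X) := by
        have h1 : d * g * g'⁻¹ ∈ (Subgroup.normalizer ((((Cfsg.inducedFunctor W
            (S : Subgroup X)).map (QuotientGroup.mk' D) : Subgroup (X ⧸ D))) : Set (X ⧸ D))).comap
            (QuotientGroup.mk' D) := by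
          rw [Subgroup.mem_comap, hπe]; exact hdN
        have h2 := Subgroup.le_normalizer_comap (QuotientGroup.mk' D) h1
        rw [Subgroup.comap_map_eq, QuotientGroup.ker_mk'] at h2
        exact h2
      have heB : lconj (d * g * g'⁻¹) (lconj g' A) ⊆
          (((S : Subgroup X) ⊔ D : Subgroup X) : Set X) := by
        rw [lconj_lconj]
        have h1 : d * g * g'⁻¹ * g' = d * g := by group
        rw [h1]
        intro x hx
        have := hS hx
        exact (hpre x).1 this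
      obtain ⟨d', hd'N, hd'D, hd'B⟩ := correct_step S D hD _ hVS hSV _ he _ hg'.subset heB
      refine ⟨d' * g', ?_, Reach.step g' d' hg'
        ⟨_, ⟨W, hW, rfl⟩, Subgroup.mem_inf.2 ⟨Subgroup.mem_top _, hd'N⟩⟩ ?_⟩
      · have h1 : d' * g' * (d * g)⁻¹ = d' * (d * g * g'⁻¹)⁻¹ := by group
        rw [h1]; exact hd'D
      · rw [← lconj_lconj]; exact hd'B
  obtain ⟨c', hc'D, hc'⟩ := key hreach₀
  refine ⟨c', hc', ?_⟩
  intro a ha
  have h1 : c' * a * c'⁻¹ ∈ (S : Subgroup X) := hc'.subset ⟨a, ha, rfl⟩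
  have h2 : h * a * h⁻¹ ∈ (S : Subgroup X) := hAh ⟨a, ha, rfl⟩
  have hπc : (QuotientGroup.mk' D) c' = (QuotientGroup.mk' D) c₀ := by
    have : c' = (c' * c₀⁻¹) * c₀ := by group
    rw [this, map_mul]
    have h3 : (QuotientGroup.mk' D) (c' * c₀⁻¹) = 1 := by
      have : c' * c₀⁻¹ ∈ (QuotientGroup.mk' D).ker := by rw [QuotientGroup.ker_mk']; exact hc'D
      exact this
    rw [h3, one_mul]
  have h3 : (QuotientGroup.mk' D) ((c' * a * c'⁻¹) * (h * a * h⁻¹)⁻¹) = 1 := by
    have h4 := hag ((QuotientGroup.mk' D) a) ⟨a, ha, rfl⟩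
    rw [← hc₀, ← hπc] at h4
    simp only [map_mul, map_inv] at h4 ⊢
    rw [h4]
    group
  have h5 := hinjS _ (Subgroup.mul_mem _ h1 (Subgroup.inv_mem _ h2)) h3
  exact mul_inv_eq_one.mp h5

end lift2

end Cfsg.Agent.helper10
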