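import Mathlib
import Cfsg.Prelude.Def_Transfer
import Cfsg.Agent.Lib_helper10_Control
import Cfsg.Agent.Lib_helper10_PResidual

set_option autoImplicit false

namespace Cfsg.Agent.lead

open Cfsg.Agent.helper10
open scoped commutatorElement

universe u

/-- Frobenius' condition: elements of order prime to `p` normalizing a `p`-subgroup centralize it. -/
def FrobCond (p : ℕ) (G : Type*) [Group G] : Prop :=
  ∀ Q : Subgroup G, IsPGroup p Q → ∀ g ∈ Subgroup.normalizer (Q : Set G),
    Nat.Coprime (orderOf g) p → g ∈ Subgroup.centralizer (Q : Set G)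

theorem FrobCond.subgroup {G : Type*} [Group G] {p : ℕ} (h : FrobCond p G) (H : Subgroup G) :
    FrobCond p H := by
  intro Q hQ g hg hcop
  have hQ' : IsPGroup p (Q.map H.subtype) := hQ.map _
  rw [Subgroup.mem_normalizer_iff] at hg
  have hg' : (g : G) ∈ Subgroup.normalizer ((Q.map H.subtype : Subgroup G) : Set G) := by
    rw [Subgroup.mem_normalizer_iff]
    intro x
    constructor
    · rintro ⟨y, hy, rfl⟩
      exact ⟨g * y * g⁻¹, (hg y).mp hy, by simp⟩
    · rintro ⟨y, hy, hyx⟩
      have hy' : g⁻¹ * y * g ∈ Q := by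
        rw [hg (g⁻¹ * y * g)]
        have : g * (g⁻¹ * y * g) * g⁻¹ = y := by group
        rw [this]; exact hy
      refine ⟨g⁻¹ * y * g, hy', ?_⟩
      simp only [Subgroup.subtype_apply, Subgroup.coe_mul, Subgroup.coe_inv] at hyx ⊢
      rw [hyx]; group
  have hc := h (Q.map H.subtype) hQ' (g : G) hg' (by rwa [Subgroup.orderOf_coe])
  rw [Subgroup.mem_centralizer_iff] at hc ⊢
  intro y hy
  apply Subtype.ext
  simp only [Subgroup.coe_mul]
  exact hc (y : G) ⟨y, hy, rfl⟩

/-- A power of `g` by the `p`-part of its order has order prime to `p`. -/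
theorem exists_pow_coprime_order {G : Type*} [Group G] [Finite G] {p : ℕ} [hp : Fact p.Prime] (g : G) :
    ∃ k : ℕ, Nat.Coprime (orderOf (g ^ p ^ k)) p := by
  have hgpos : orderOf g ≠ 0 := (orderOf_pos g).ne'
  obtain ⟨k, m, hm, hgm⟩ := Nat.exists_eq_pow_mul_and_not_dvd hgpos p hp.out.ne_one
  refine ⟨k, ?_⟩
  have h1 : (g ^ p ^ k) ^ m = 1 := by
    rw [← pow_mul, ← hgm]; exact pow_orderOf_eq_one g
  have h2 : orderOf (g ^ p ^ k) ∣ m := orderOf_dvd_of_pow_eq_one h1
  have h3 : Nat.Coprime m p := by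
    rw [Nat.coprime_comm, hp.out.coprime_iff_not_dvd]; exact hm
  exact Nat.Coprime.coprime_dvd_left h2 h3

/-- Every subgroup of a Sylow subgroup `P` has a conjugate `U ≤ P` with `N_P(U)` Sylow in `N_G(U)`. -/
theorem exists_tame_conj {G : Type*} [Group G] [Finite G] {p : ℕ} [Fact p.Prime] (P : Sylow p G)
    (T : Subgroup G) (hT : T ≤ (P : Subgroup G)) :
    ∃ g : G, T.map (MulAut.conj g).toMonoidHom ≤ (P : Subgroup G) ∧
      ¬ p ∣ ((P : Subgroup G) ⊓ Subgroup.normalizer
        ((T.map (MulAut.conj g).toMonoidHom : Subgroup G) : Set G)).relIndex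
        (Subgroup.normalizer ((T.map (MulAut.conj g).toMonoidHom : Subgroup G) : Set G)) := by
  set N := Subgroup.normalizer (T : Set G) with hN
  have hTp : IsPGroup p T := P.isPGroup'.to_le hT
  have hT' : IsPGroup p (T.subgroupOf N) := hTp.comap_subtype
  obtain ⟨R, hR⟩ := hT'.exists_le_sylow
  set R' := (R : Subgroup N).map N.subtype with hR'
  have hR'p : IsPGroup p R' := R.isPGroup'.map _
  obtain ⟨g, hg⟩ := pgroup_conj_into_sylow P R' hR'p
  have hTR' : T ≤ R' := by
    intro t ht
    have htN : t ∈ N := Subgroup.le_normalizer ht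
    have : (⟨t, htN⟩ : N) ∈ (R : Subgroup N) := hR (by
      rw [Subgroup.mem_subgroupOf]; exact ht)
    exact ⟨⟨t, htN⟩, this, rfl⟩
  have hR'N : R' ≤ N := Subgroup.map_subtype_le _
  refine ⟨g, (Subgroup.map_mono hTR').trans hg, ?_⟩
  rw [normalizer_map_conj]
  have h1 : R'.map (MulAut.conj g).toMonoidHom ≤ (P : Subgroup G) ⊓ N.map (MulAut.conj g).toMonoidHom :=
    le_inf hg (Subgroup.map_mono hR'N)
  have h2 : ((P : Subgroup G) ⊓ N.map (MulAut.conj g).toMonoidHom).relIndex
      (N.map (MulAut.conj g).toMonoidHom) ∣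
      (R'.map (MulAut.conj g).toMonoidHom).relIndex (N.map (MulAut.conj g).toMonoidHom) :=
    Subgroup.relIndex_dvd_of_le_left _ h1
  have h3 : (R'.map (MulAut.conj g).toMonoidHom).relIndex (N.map (MulAut.conj g).toMonoidHom)
      = R'.relIndex N :=
    Subgroup.relIndex_map_map_of_injective R' N (MulAut.conj g).injective
  have h4 : R'.relIndex N = (R : Subgroup N).index := by
    rw [Subgroup.relIndex, hR']
    congr 1
    exact Subgroup.comap_map_eq_self_of_injective N.subtype_injective _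
  intro hp
  exact R.not_dvd_index (h4 ▸ h3 ▸ (dvd_trans hp h2))

/-- Under Frobenius' condition, the action of `N_G(U)` on a tame `U ≤ P` is induced by `P`. -/
theorem frob_local_control {G : Type*} [Group G] [Finite G] {p : ℕ} [hp : Fact p.Prime]
    (hF : FrobCond p G) (P : Sylow p G) (U : Subgroup G) (hU : U ≤ (P : Subgroup G))
    (htame : ¬ p ∣ ((P : Subgroup G) ⊓ Subgroup.normalizer (U : Set G)).relIndex
      (Subgroup.normalizer (U : Set G)))
    (x : G) (hx : x ∈ Subgroup.normalizer (U : Set G)) :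
    ∃ y ∈ (P : Subgroup G), ∀ t ∈ U, y * t * y⁻¹ = x * t * x⁻¹ := by
  set N := Subgroup.normalizer (U : Set G) with hN
  have hUp : IsPGroup p U := P.isPGroup'.to_le hU
  let f : N →* MulAut U := U.normalizerMonoidHom
  have hrange : IsPGroup p f.range := by
    rintro ⟨φ, n, rfl⟩
    obtain ⟨k, hk⟩ := exists_pow_coprime_order (p := p) (n : G)
    refine ⟨k, ?_⟩
    apply Subtype.ext
    simp only [Subgroup.coe_pow, Subgroup.coe_one]
    rw [← map_pow]
    have hmem : (n ^ p ^ k : N) ∈ f.ker := by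
      rw [Subgroup.normalizerMonoidHom_ker, Subgroup.mem_subgroupOf]
      simp only [Subgroup.coe_pow]
      exact hF U hUp _ (Subgroup.pow_mem _ n.2 _) hk
    exact hmem
  obtain ⟨j, hj⟩ := IsPGroup.iff_card.mp hrange
  set Q : Subgroup N := ((P : Subgroup G) ⊓ N).subgroupOf N with hQ
  have hQidx : ¬ p ∣ Q.index := htame
  have hmap : Q.map f.rangeRestrict = ⊤ := by
    rw [← Subgroup.index_eq_one]
    have h1 : (Q.map f.rangeRestrict).index ∣ Q.index :=
      Subgroup.index_map_dvd Q f.rangeRestrict_surjective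
    have h2 : (Q.map f.rangeRestrict).index ∣ p ^ j := by
      rw [← hj]; exact Subgroup.index_dvd_card _
    obtain ⟨i, hi, hi'⟩ := (Nat.dvd_prime_pow hp.out).mp h2
    rcases Nat.eq_zero_or_pos i with h0 | h0
    · rw [hi', h0, pow_zero]
    · exfalso
      apply hQidx
      refine dvd_trans ?_ h1
      rw [hi']
      exact dvd_pow_self p h0.ne'
  have hxm : f.rangeRestrict ⟨x, hx⟩ ∈ Q.map f.rangeRestrict := by
    rw [hmap]; exact Subgroup.mem_top _
  obtain ⟨y, hyQ, hy⟩ := hxm
  have hyP : (y : G) ∈ (P : Subgroup G) := by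
    have hyQ' : y ∈ ((P : Subgroup G) ⊓ N).subgroupOf N := hyQ
    rw [Subgroup.mem_subgroupOf] at hyQ'
    exact hyQ'.1
  refine ⟨(y : G), hyP, ?_⟩
  intro t ht
  have h1 : f y = f ⟨x, hx⟩ := by
    have := congrArg Subtype.val hy
    simpa using this
  have h2 : ((f y ⟨t, ht⟩ : U) : G) = ((f ⟨x, hx⟩ ⟨t, ht⟩ : U) : G) := by rw [h1]
  rw [Subgroup.normalizerMonoidHom_apply_apply_coe,
    Subgroup.normalizerMonoidHom_apply_apply_coe] at h2
  exact h2

/-- Under Frobenius' condition, a Sylow `p`-subgroup controls its own fusion. -/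
theorem frob_control_fusion {G : Type*} [Group G] [Finite G] {p : ℕ} [hp : Fact p.Prime]
    (hF : FrobCond p G) (P : Sylow p G) (x : G) (hx : x ∈ (P : Subgroup G)) (g : G)
    (hgx : g * x * g⁻¹ ∈ (P : Subgroup G)) :
    ∃ u ∈ (P : Subgroup G), u * x * u⁻¹ = g * x * g⁻¹ := by
  set 𝓕 : Set (Subgroup G) := {U | U ≤ (P : Subgroup G) ∧
    ¬ p ∣ ((P : Subgroup G) ⊓ Subgroup.normalizer (U : Set G)).relIndex
      (Subgroup.normalizer (U : Set G))} with h𝓕def
  have hchain := alperin_chain P 𝓕 (fun U hU => hU.1) (fun T hT => by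
    obtain ⟨g, hg1, hg2⟩ := exists_tame_conj P T hT
    exact ⟨_, ⟨hg1, hg2⟩, ⟨g, rfl⟩, hg2⟩)
  have h1 : Subgroup.zpowers x ≤ (P : Subgroup G) := by
    rw [Subgroup.zpowers_le]; exact hx
  have h2 : rconj ((Subgroup.zpowers x : Subgroup G) : Set G) g⁻¹ ⊆ (P : Subgroup G) := by
    rw [rconj_coe, SetLike.coe_subset_coe, inv_inv, MonoidHom.map_zpowers, Subgroup.zpowers_le]
    simpa [MulAut.conj_apply] using hgx
  obtain ⟨l, hl1, hl2, hl3⟩ := hchain _ (Subgroup.zpowers x) g⁻¹ rfl h1 h2
  obtain ⟨y, hy, hyB⟩ := chain_control (𝓕 := 𝓕) (N := (P : Subgroup G))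
    (fun T hT z hz => frob_local_control hF P T hT.1 hT.2 z hz) l _ hl2 hl3
  refine ⟨y⁻¹, Subgroup.inv_mem _ hy, ?_⟩
  have h3 := hyB x (Subgroup.mem_zpowers x)
  rw [hl1, inv_inv] at h3
  rw [inv_inv]
  exact h3

/-- If `P ≠ 1` controls its own fusion, some element of `P` lies outside the derived subgroup. -/
theorem exists_mem_sylow_not_mem_commutator {G : Type*} [Group G] [Finite G] {p : ℕ}
    [hp : Fact p.Prime] (P : Sylow p G) (hP : (P : Subgroup G) ≠ ⊥)
    (hctrl : ∀ x ∈ (P : Subgroup G), ∀ g : G, g * x * g⁻¹ ∈ (P : Subgroup G) →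
      ∃ u ∈ (P : Subgroup G), u * x * u⁻¹ = g * x * g⁻¹) :
    ∃ x ∈ (P : Subgroup G), x ∉ commutator G := by
  have hfoc : Subgroup.focalSubgroup (P : Subgroup G) ≤ ⁅(P : Subgroup G), (P : Subgroup G)⁆ := by
    rw [Subgroup.focalSubgroup_def, Subgroup.closure_le]
    rintro g ⟨hgP, x, hx, u, rfl⟩
    have h1 : u * x * u⁻¹ ∈ (P : Subgroup G) := by
      have h2 : (x⁻¹ * ⁅x, u⁆)⁻¹ ∈ (P : Subgroup G) :=
        Subgroup.inv_mem _ (Subgroup.mul_mem _ (Subgroup.inv_mem _ hx) hgP)
      have h3 : (x⁻¹ * ⁅x, u⁆)⁻¹ = u * x * u⁻¹ := by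
        rw [commutatorElement_def]; group
      rwa [h3] at h2
    obtain ⟨n, hn, hnx⟩ := hctrl x hx u h1
    have h4 : ⁅x, u⁆ = ⁅x, n⁆ := by
      rw [commutatorElement_def, commutatorElement_def]
      calc x * u * x⁻¹ * u⁻¹ = x * (u * x * u⁻¹)⁻¹ := by group
        _ = x * (n * x * n⁻¹)⁻¹ := by rw [hnx]
        _ = x * n * x⁻¹ * n⁻¹ := by group
    rw [SetLike.mem_coe, h4]
    exact Subgroup.commutator_mem_commutator hx hn
  haveI : Nontrivial (P : Subgroup G) := (Subgroup.nontrivial_iff_ne_bot _).mpr hP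
  haveI : Group.IsNilpotent (P : Subgroup G) := P.isPGroup'.isNilpotent
  have hlt : commutator (P : Subgroup G) < ⊤ :=
    Group.IsSolvable.commutator_lt_top_of_nontrivial (P : Subgroup G)
  obtain ⟨x, -, hx⟩ := SetLike.exists_of_lt hlt
  refine ⟨(x : G), x.2, ?_⟩
  intro hxc
  have h1 : (x : G) ∈ commutator G ⊓ (P : Subgroup G) := Subgroup.mem_inf.mpr ⟨hxc, x.2⟩
  rw [Subgroup.commutator_inf_eq_focalSubgroup] at h1
  have h2 := hfoc h1
  rw [← Subgroup.map_subtype_commutator] at h2
  obtain ⟨y, hy, hyx⟩ := h2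
  have : y = x := Subtype.ext hyx
  rw [this] at hy
  exact hx hy

/-- The elements of order prime to `p` in a commutative group. -/
def primeToSubgroup (p : ℕ) (A : Type*) [CommGroup A] : Subgroup A where
  carrier := {a | Nat.Coprime (orderOf a) p}
  one_mem' := by simp
  mul_mem' := by
    intro a b ha hb
    have h1 : orderOf (a * b) ∣ Nat.lcm (orderOf a) (orderOf b) :=
      (Commute.all a b).orderOf_mul_dvd_lcm
    have h2 : Nat.Coprime (Nat.lcm (orderOf a) (orderOf b)) p :=
      Nat.Coprime.coprime_dvd_left (Nat.lcm_dvd_mul _ _) (Nat.Coprime.mul_left ha hb)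
    exact Nat.Coprime.coprime_dvd_left h1 h2
  inv_mem' := by
    intro a ha
    show Nat.Coprime (orderOf a⁻¹) p
    rw [orderOf_inv]; exact ha

/-- Frobenius: under Frobenius' condition, `O^p(G)` has order prime to `p`. -/
theorem frob_pResidual_coprime (p : ℕ) [hp : Fact p.Prime] :
    ∀ (n : ℕ) (G : Type u) [Group G] [Finite G], Nat.card G = n → FrobCond p G →
      Nat.Coprime (Nat.card (Cfsg.pResidual p G)) p := by
  intro n
  induction n using Nat.strong_induction_on with
  | _ n ih =>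
  intro G _ _ hn hF
  let P : Sylow p G := default
  by_cases hP : (P : Subgroup G) = ⊥
  · have h1 : ¬ p ∣ Nat.card G := by
      have := P.not_dvd_index
      rwa [hP, Subgroup.index_bot] at this
    have h2 : Nat.Coprime (Nat.card G) p := by
      rw [Nat.coprime_comm, hp.out.coprime_iff_not_dvd]; exact h1
    exact Nat.Coprime.coprime_dvd_left (Subgroup.card_subgroup_dvd_card _) h2
  · obtain ⟨x, hxP, hxc⟩ := exists_mem_sylow_not_mem_commutator P hP
      (fun x hx g hg => frob_control_fusion hF P x hx g hg)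
    set A : Subgroup G := (primeToSubgroup p (Abelianization G)).comap Abelianization.of with hA
    have hall : ∀ g : G, Nat.Coprime (orderOf g) p → g ∈ A := by
      intro g hg
      show Nat.Coprime (orderOf (Abelianization.of g)) p
      exact Nat.Coprime.coprime_dvd_left (orderOf_map_dvd _ g) hg
    have hxA : x ∉ A := by
      intro hxA
      have h1 : Nat.Coprime (orderOf (Abelianization.of x)) p := hxA
      have h2 : orderOf (Abelianization.of x) ∣ orderOf x := orderOf_map_dvd _ x
      obtain ⟨k, hk⟩ := P.isPGroup' ⟨x, hxP⟩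
      have h3 : orderOf x ∣ p ^ k := by
        apply orderOf_dvd_of_pow_eq_one
        have := congrArg Subtype.val hk
        simpa using this
      obtain ⟨i, -, hi⟩ := (Nat.dvd_prime_pow hp.out).mp (h2.trans h3)
      rw [hi] at h1
      rcases Nat.eq_zero_or_pos i with h0 | h0
      · rw [h0, pow_zero, orderOf_eq_one_iff] at hi
        apply hxc
        have : x ∈ (Abelianization.of : G →* Abelianization G).ker := hi
        rwa [Abelianization.ker_of] at this
      · have : p ∣ Nat.gcd (p ^ i) p := Nat.dvd_gcd (dvd_pow_self p h0.ne') dvd_rfl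
        rw [Nat.Coprime] at h1
        rw [h1] at this
        exact hp.out.one_lt.ne' (Nat.dvd_one.mp this)
    have hlt : Nat.card A < n := by
      rw [← hn]
      apply lt_of_le_of_ne (Subgroup.card_le_card_group A)
      intro h
      exact hxA ((Subgroup.eq_top_of_card_eq A h) ▸ Subgroup.mem_top x)
    have hIH := ih (Nat.card A) hlt A rfl (hF.subgroup A)
    have hmap : (Cfsg.pResidual p A).map A.subtype = Cfsg.pResidual p G := by
      unfold Cfsg.pResidual
      rw [MonoidHom.map_closure]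
      congr 1
      ext g
      constructor
      · rintro ⟨a, ha, rfl⟩
        show Nat.Coprime (orderOf (a : G)) p
        rw [Subgroup.orderOf_coe]; exact ha
      · intro hg
        refine ⟨⟨g, hall g hg⟩, ?_, rfl⟩
        show Nat.Coprime (orderOf (⟨g, hall g hg⟩ : A)) p
        rw [← Subgroup.orderOf_coe]; exact hg
    rw [← hmap, Subgroup.card_map_of_injective A.subtype_injective]
    exact hIH

end Cfsg.Agent.lead
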