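import Mathlib

set_option autoImplicit false
open Pointwise
open scoped commutatorElement

namespace Cfsg.Agent.lead

variable {G : Type*} [Group G]

theorem mem_smul_sylow {p : ℕ} (g x : G) (P : Sylow p G) :
    x ∈ ((g • P : Sylow p G) : Subgroup G) ↔ g⁻¹ * x * g ∈ (P : Subgroup G) := by
  rw [Sylow.coe_subgroup_smul, Subgroup.mem_pointwise_smul_iff_inv_smul_mem]
  simp [MulAut.smul_def, mul_assoc]

theorem orderOf_conj' (g u : G) : orderOf (g * u * g⁻¹) = orderOf u := by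
  have := (MulAut.conj g).orderOf_eq u
  rwa [MulAut.conj_apply] at this

/-- Two Sylow subgroups of `G` inside a subgroup `K` are conjugate by an element of `K`. -/
theorem exists_conj_in [Finite G] {p : ℕ} [Fact p.Prime] (P R : Sylow p G) (K : Subgroup G)
    (hP : (P : Subgroup G) ≤ K) (hR : (R : Subgroup G) ≤ K) :
    ∃ n ∈ K, n • P = R := by
  obtain ⟨n, hn⟩ := MulAction.exists_smul_eq K (P.subtype hP) (R.subtype hR)
  refine ⟨(n : G), n.2, ?_⟩
  rw [Sylow.smul_subtype hP n] at hn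
  exact Sylow.subtype_injective hn

/-- A `p`-subgroup of `K` is conjugate, by an element of `K`, into a given Sylow subgroup of `G`
that lies in `K`. -/
theorem exists_conj_le_sylow [Finite G] {p : ℕ} [Fact p.Prime] (P : Sylow p G)
    (K : Subgroup G) (hPK : (P : Subgroup G) ≤ K) (Q : Subgroup G) (hQ : IsPGroup p Q)
    (hQK : Q ≤ K) : ∃ m ∈ K, ∀ q ∈ Q, m * q * m⁻¹ ∈ (P : Subgroup G) := by
  have hQ' : IsPGroup p (Q.subgroupOf K) := hQ.comap_subtype
  obtain ⟨Q₁, hQ₁⟩ := hQ'.exists_le_sylow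
  obtain ⟨m, hm⟩ := MulAction.exists_smul_eq K Q₁ (P.subtype hPK)
  refine ⟨m, m.2, fun q hq => ?_⟩
  have h1 : (⟨q, hQK hq⟩ : K) ∈ (Q₁ : Subgroup K) :=
    hQ₁ (by simpa [Subgroup.mem_subgroupOf] using hq)
  have h2 : m * ⟨q, hQK hq⟩ * m⁻¹ ∈ ((m • Q₁ : Sylow p K) : Subgroup K) := by
    rw [mem_smul_sylow]
    have : m⁻¹ * (m * ⟨q, hQK hq⟩ * m⁻¹) * m = ⟨q, hQK hq⟩ := by group
    rw [this]; exact h1
  rw [hm, Sylow.coe_subtype, Subgroup.mem_subgroupOf] at h2
  simpa using h2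

/-- A `p`-element is conjugate into any given Sylow `p`-subgroup. -/
theorem exists_conj_mem_sylow [Finite G] {p : ℕ} [Fact p.Prime] (P : Sylow p G) (u : G)
    (hu : ∃ k : ℕ, orderOf u = p ^ k) : ∃ g : G, g * u * g⁻¹ ∈ (P : Subgroup G) := by
  obtain ⟨k, hk⟩ := hu
  have hpu : IsPGroup p (Subgroup.zpowers u) := by
    apply IsPGroup.of_card (n := k)
    rw [Nat.card_zpowers, hk]
  obtain ⟨R, hR⟩ := hpu.exists_le_sylow
  obtain ⟨g, hg⟩ := MulAction.exists_smul_eq G R P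
  refine ⟨g, ?_⟩
  rw [← hg, mem_smul_sylow]
  have : g⁻¹ * (g * u * g⁻¹) * g = u := by group
  rw [this]
  exact hR (Subgroup.mem_zpowers u)

/-- Commutativity of a Sylow subgroup, in elementwise form. -/
theorem sylow_comm {p : ℕ} (P : Sylow p G) (hP : IsMulCommutative P) :
    ∀ a ∈ (P : Subgroup G), ∀ b ∈ (P : Subgroup G), a * b = b * a := by
  intro a ha b hb
  have := hP.is_comm.comm (⟨a, ha⟩ : P) ⟨b, hb⟩
  exact congrArg Subtype.val this

/-- Burnside's fusion lemma: in an abelian Sylow subgroup, fusion is controlled by the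
normaliser. -/
theorem burnside_fusion [Finite G] {p : ℕ} [Fact p.Prime] (P : Sylow p G)
    (comm : ∀ a ∈ (P : Subgroup G), ∀ b ∈ (P : Subgroup G), a * b = b * a)
    (c : G) (hcP : c ∈ (P : Subgroup G)) (g : G) (hy : g⁻¹ * c * g ∈ (P : Subgroup G)) :
    ∃ n ∈ Subgroup.normalizer ((P : Subgroup G) : Set G), n * c * n⁻¹ = g⁻¹ * c * g := by
  set y := g⁻¹ * c * g with hydef
  have h1 : (P : Subgroup G) ≤ Subgroup.centralizer ({y} : Set G) := by
    intro a ha
    rw [Subgroup.mem_centralizer_singleton_iff]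
    exact comm a ha y hy
  have h2 : ((g⁻¹ • P : Sylow p G) : Subgroup G) ≤ Subgroup.centralizer ({y} : Set G) := by
    intro a ha
    rw [mem_smul_sylow, inv_inv] at ha
    have h := comm _ ha _ hcP
    rw [Subgroup.mem_centralizer_singleton_iff, hydef]
    calc a * (g⁻¹ * c * g) = g⁻¹ * ((g * a * g⁻¹) * c) * g := by group
      _ = g⁻¹ * (c * (g * a * g⁻¹)) * g := by rw [h]
      _ = g⁻¹ * c * g * a := by group
  obtain ⟨z, hz, hzP⟩ := exists_conj_in (g⁻¹ • P) P _ h2 h1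
  rw [← mul_smul] at hzP
  have hn : z * g⁻¹ ∈ Subgroup.normalizer ((P : Subgroup G) : Set G) :=
    Sylow.smul_eq_iff_mem_normalizer.mp hzP
  rw [Subgroup.mem_centralizer_singleton_iff] at hz
  refine ⟨z * g⁻¹, hn, ?_⟩
  calc z * g⁻¹ * c * (z * g⁻¹)⁻¹ = z * (g⁻¹ * c * g) * z⁻¹ := by group
    _ = z * y * z⁻¹ := by rw [hydef]
    _ = y * z * z⁻¹ := by rw [hz]
    _ = y := by group

/-- Left-handed form of Burnside's fusion lemma. -/
theorem burnside_fusion' [Finite G] {p : ℕ} [Fact p.Prime] (P : Sylow p G)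
    (comm : ∀ a ∈ (P : Subgroup G), ∀ b ∈ (P : Subgroup G), a * b = b * a)
    (c : G) (hcP : c ∈ (P : Subgroup G)) (u : G) (hy : u * c * u⁻¹ ∈ (P : Subgroup G)) :
    ∃ n ∈ Subgroup.normalizer ((P : Subgroup G) : Set G), n * c * n⁻¹ = u * c * u⁻¹ := by
  have := burnside_fusion P comm c hcP u⁻¹ (by simpa using hy)
  simpa using this

/-- For an abelian Sylow subgroup, the focal subgroup is the commutator with the normaliser. -/
theorem focal_eq_commutator_normalizer [Finite G] {p : ℕ} [Fact p.Prime] (P : Sylow p G)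
    (comm : ∀ a ∈ (P : Subgroup G), ∀ b ∈ (P : Subgroup G), a * b = b * a) :
    Subgroup.focalSubgroup (P : Subgroup G)
      = ⁅(P : Subgroup G), Subgroup.normalizer ((P : Subgroup G) : Set G)⁆ := by
  apply le_antisymm
  · rw [Subgroup.focalSubgroup_def, Subgroup.closure_le]
    rintro g ⟨hgP, x, hx, u, rfl⟩
    have h1 : u * x * u⁻¹ ∈ (P : Subgroup G) := by
      have h2 : (x⁻¹ * ⁅x, u⁆)⁻¹ ∈ (P : Subgroup G) :=
        Subgroup.inv_mem _ (Subgroup.mul_mem _ (Subgroup.inv_mem _ hx) hgP)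
      have h3 : (x⁻¹ * ⁅x, u⁆)⁻¹ = u * x * u⁻¹ := by
        rw [commutatorElement_def]; group
      rwa [h3] at h2
    obtain ⟨n, hn, hnx⟩ := burnside_fusion' P comm x hx u h1
    have h4 : ⁅x, u⁆ = ⁅x, n⁆ := by
      rw [commutatorElement_def, commutatorElement_def]
      calc x * u * x⁻¹ * u⁻¹ = x * (u * x * u⁻¹)⁻¹ := by group
        _ = x * (n * x * n⁻¹)⁻¹ := by rw [hnx]
        _ = x * n * x⁻¹ * n⁻¹ := by group
    rw [SetLike.mem_coe, h4]
    exact Subgroup.commutator_mem_commutator hx hn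
  · rw [Subgroup.commutator_le]
    intro x hx n hn
    apply Subgroup.subset_closure
    refine ⟨?_, x, hx, n, rfl⟩
    have h1 : n * x⁻¹ * n⁻¹ ∈ (P : Subgroup G) :=
      (Subgroup.mem_normalizer_iff.mp hn x⁻¹).mp (Subgroup.inv_mem _ hx)
    have h2 : ⁅x, n⁆ = x * (n * x⁻¹ * n⁻¹) := by
      rw [commutatorElement_def]; group
    rw [h2]
    exact Subgroup.mul_mem _ hx h1

end Cfsg.Agent.lead
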