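import Mathlib
import Cfsg.Statements.S0071
import Cfsg.Agent.Lib_lead_Frobenius
import Cfsg.Agent.Lib_lead_Fusion
import Cfsg.Agent.S0086

set_option autoImplicit false
open Cfsg

namespace Cfsg.Agent.S0071

open Cfsg.Agent.lead Cfsg.Agent.helper10
open scoped commutatorElement

/-- A group with a normal `p`-complement satisfies Frobenius' condition. -/
theorem frobCond_of_complement {G : Type*} [Group G] [Finite G] {p : ℕ} [hp : Fact p.Prime]
    (P : Sylow p G) (N : Subgroup G) (hN : N.Normal) (hNP : N.IsComplement' (P : Subgroup G)) :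
    FrobCond p G := by
  intro Q hQ g hg hcop
  haveI := hN
  have hgN : g ∈ N := (Cfsg.Agent.S0086.result P N hNP g).mpr hcop
  have hNcard : Nat.card N = (P : Subgroup G).index := (hNP.index_eq_card).symm
  rw [Subgroup.mem_centralizer_iff]
  intro x hx
  have h1 : g * x * g⁻¹ ∈ Q := (Subgroup.mem_normalizer_iff.mp hg x).mp hx
  have hcQ : g * x * g⁻¹ * x⁻¹ ∈ Q := Q.mul_mem h1 (Q.inv_mem hx)
  have hcN : g * x * g⁻¹ * x⁻¹ ∈ N := by
    have h2 : x * g⁻¹ * x⁻¹ ∈ N := hN.conj_mem _ (N.inv_mem hgN) x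
    have : g * x * g⁻¹ * x⁻¹ = g * (x * g⁻¹ * x⁻¹) := by group
    rw [this]; exact N.mul_mem hgN h2
  have hc1 : g * x * g⁻¹ * x⁻¹ = 1 := by
    set c := g * x * g⁻¹ * x⁻¹ with hc
    obtain ⟨k, hk⟩ := hQ ⟨c, hcQ⟩
    have h3 : orderOf c ∣ p ^ k := by
      apply orderOf_dvd_of_pow_eq_one
      have := congrArg Subtype.val hk
      simpa using this
    have h4 : orderOf c ∣ Nat.card N := by
      have := orderOf_dvd_natCard (⟨c, hcN⟩ : N)
      rwa [Subgroup.orderOf_mk] at this
    have h5 : Nat.Coprime (p ^ k) (Nat.card N) := by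
      apply Nat.Coprime.pow_left
      rw [hNcard, hp.out.coprime_iff_not_dvd]
      exact P.not_dvd_index
    have h6 : orderOf c ∣ Nat.gcd (p ^ k) (Nat.card N) := Nat.dvd_gcd h3 h4
    rw [h5] at h6
    exact orderOf_eq_one_iff.mp (Nat.dvd_one.mp h6)
  calc x * g = (g * x * g⁻¹ * x⁻¹)⁻¹ * (g * x) := by group
    _ = g * x := by rw [hc1]; group

theorem frobCond_of_hasNormalPComplement {G : Type*} [Group G] [Finite G] {p : ℕ} [hp : Fact p.Prime]
    (h : Cfsg.HasNormalPComplement p G) : FrobCond p G := by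
  obtain ⟨P, N, hN, hNP⟩ := h
  exact frobCond_of_complement P N hN hNP

theorem complement_of_frobCond {G : Type*} [Group G] [Finite G] {p : ℕ} [hp : Fact p.Prime]
    (hF : FrobCond p G) (P : Sylow p G) :
    (Cfsg.pResidual p G).Normal ∧ (Cfsg.pResidual p G).IsComplement' (P : Subgroup G) :=
  ⟨pResidual_normal p G,
    isComplement'_pResidual_of_coprime p P (frob_pResidual_coprime p _ G rfl hF)⟩

/-- Frobenius' condition, tested on subgroups of a fixed Sylow subgroup. -/
theorem frobCond_of_sylow {G : Type*} [Group G] [Finite G] {p : ℕ} [hp : Fact p.Prime]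
    (P : Sylow p G)
    (h : ∀ Q : Subgroup G, Q ≤ (P : Subgroup G) → ∀ g ∈ Subgroup.normalizer (Q : Set G),
      Nat.Coprime (orderOf g) p → g ∈ Subgroup.centralizer (Q : Set G)) : FrobCond p G := by
  intro Q hQ g hg hcop
  obtain ⟨a, ha⟩ := pgroup_conj_into_sylow P Q hQ
  have hg' : a * g * a⁻¹ ∈ Subgroup.normalizer
      ((Q.map (MulAut.conj a).toMonoidHom : Subgroup G) : Set G) := by
    rw [normalizer_map_conj]
    exact conj_mem_map_conj _ a g hg
  have hc := h _ ha _ hg' (by rwa [orderOf_conj'])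
  rw [Subgroup.mem_centralizer_iff] at hc ⊢
  intro x hx
  have h1 := hc (a * x * a⁻¹) (conj_mem_map_conj Q a x hx)
  have h2 : a * (x * g) * a⁻¹ = a * (g * x) * a⁻¹ := by
    calc a * (x * g) * a⁻¹ = (a * x * a⁻¹) * (a * g * a⁻¹) := by group
      _ = (a * g * a⁻¹) * (a * x * a⁻¹) := h1
      _ = a * (g * x) * a⁻¹ := by group
  exact mul_left_cancel (mul_right_cancel h2)

/-- The Frobenius normal p-complement Theorem states that a Sylow p-subgroup has a normal complement exactly when, for each of its subgroups Q, every element of the normalizer of Q of order prime to p centralizes Q. -/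
theorem result {G : Type*} [Group G] [Finite G] {p : ℕ} [Fact p.Prime] (P : Sylow p G) : (∃ N : Subgroup G, N.Normal ∧ N.IsComplement' (P : Subgroup G)) ↔ ∀ Q : Subgroup G, Q ≤ (P : Subgroup G) → ∀ g ∈ Subgroup.normalizer (Q : Set G), Nat.Coprime (orderOf g) p → g ∈ Subgroup.centralizer (Q : Set G) := by
  constructor
  · rintro ⟨N, hN, hNP⟩ Q hQ g hg hcop
    exact frobCond_of_complement P N hN hNP Q (P.isPGroup'.to_le hQ) g hg hcop
  · intro h
    have hF := frobCond_of_sylow P h
    exact ⟨_, (complement_of_frobCond hF P).1, (complement_of_frobCond hF P).2⟩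

end Cfsg.Agent.S0071
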