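import Mathlib
import Cfsg.Prelude.Def_Transfer
import Cfsg.Agent.S0071
import Cfsg.Agent.Lib_helper10_Sec3

set_option autoImplicit false

/-!
# Closure properties of groups with a normal `p`-complement
-/

namespace Cfsg.Agent.helper10

open Cfsg.Agent.lead

section npc

variable {X : Type*} [Group X] [Finite X] {p : ℕ} [hp : Fact p.Prime]

theorem frobCond_of_npc (h : Cfsg.HasNormalPComplement p X) : FrobCond p X :=
  Cfsg.Agent.S0071.frobCond_of_hasNormalPComplement h

theorem npc_of_frobCond (h : FrobCond p X) : Cfsg.HasNormalPComplement p X := by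
  obtain ⟨S⟩ : Nonempty (Sylow p X) := inferInstance
  exact ⟨S, _, (Cfsg.Agent.S0071.complement_of_frobCond h S).1,
    (Cfsg.Agent.S0071.complement_of_frobCond h S).2⟩

theorem npc_subgroup (H : Subgroup X) (h : Cfsg.HasNormalPComplement p X) :
    Cfsg.HasNormalPComplement p H :=
  npc_of_frobCond ((frobCond_of_npc h).subgroup H)

/-- The order of a normal `p`-complement is prime to `p`. -/
theorem card_coprime_of_isComplement' (S : Sylow p X) (K : Subgroup X)
    (hKS : K.IsComplement' (S : Subgroup X)) : (Nat.card K).Coprime p := by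
  rw [← hKS.index_eq_card, Nat.coprime_comm, hp.out.coprime_iff_not_dvd]
  exact S.not_dvd_index

theorem npc_of_surjective {Y : Type*} [Group Y] (f : X →* Y) (hf : Function.Surjective f)
    (h : Cfsg.HasNormalPComplement p X) : Cfsg.HasNormalPComplement p Y := by
  haveI : Finite Y := Finite.of_surjective f hf
  obtain ⟨S, K, hKn, hKS⟩ := h
  refine ⟨S.mapSurjective hf, K.map f, Subgroup.Normal.map hKn f hf, ?_⟩
  apply Subgroup.isComplement'_of_disjoint_and_mul_eq_univ
  · apply Subgroup.disjoint_of_coprime_natCard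
    obtain ⟨k, hk⟩ := IsPGroup.iff_card.mp (S.mapSurjective hf).isPGroup'
    rw [hk]
    apply Nat.Coprime.pow_right
    exact Nat.Coprime.coprime_dvd_left (Subgroup.card_map_dvd K f)
      (card_coprime_of_isComplement' S K hKS)
  · rw [Set.eq_univ_iff_forall]
    intro y
    obtain ⟨x, rfl⟩ := hf y
    have hx : x ∈ K ⊔ (S : Subgroup X) := by rw [hKS.sup_eq_top]; exact Subgroup.mem_top x
    haveI := hKn
    obtain ⟨k, hk, s, hs, rfl⟩ := (Subgroup.mem_sup_of_normal_left).1 hx
    exact ⟨f k, ⟨k, hk, rfl⟩, f s, ⟨s, hs, rfl⟩, (map_mul f k s).symm⟩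

theorem npc_of_injective {Z : Type*} [Group Z] (f : Z →* X) (hf : Function.Injective f)
    (h : Cfsg.HasNormalPComplement p X) : Cfsg.HasNormalPComplement p Z := by
  have h1 := npc_subgroup f.range h
  let e : Z ≃* f.range := MonoidHom.ofInjective hf
  exact npc_of_surjective e.symm.toMonoidHom e.symm.surjective h1

/-- Lifting a normal `p`-complement through a normal `p'`-subgroup. -/
theorem npc_of_quotient_coprime (D : Subgroup X) [D.Normal] (hD : (Nat.card D).Coprime p)
    (h : Cfsg.HasNormalPComplement p (X ⧸ D)) : Cfsg.HasNormalPComplement p X := by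
  obtain ⟨S⟩ : Nonempty (Sylow p X) := inferInstance
  have hF := frobCond_of_npc h
  obtain ⟨N, hN, hNS⟩ := (Cfsg.Agent.S0071.result S).mpr (by
    intro Q hQ g hg hcop
    have hQp : IsPGroup p Q := S.isPGroup'.to_le hQ
    have h1 : (QuotientGroup.mk' D) g ∈ Subgroup.normalizer
        (((Q.map (QuotientGroup.mk' D) : Subgroup (X ⧸ D))) : Set (X ⧸ D)) :=
      Subgroup.le_normalizer_map (QuotientGroup.mk' D) ⟨g, hg, rfl⟩
    have h2 := hF (Q.map (QuotientGroup.mk' D)) (hQp.map _) _ h1
      (Nat.Coprime.coprime_dvd_left (orderOf_map_dvd _ g) hcop)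
    rw [Subgroup.mem_centralizer_iff]
    intro q hq
    have h3 := (Subgroup.mem_centralizer_iff.mp h2) ((QuotientGroup.mk' D) q) ⟨q, hq, rfl⟩
    have h4 : g * q * g⁻¹ * q⁻¹ ∈ D := by
      rw [← QuotientGroup.ker_mk' D, MonoidHom.mem_ker]
      simp only [map_mul, map_inv]
      rw [← h3]; group
    have h5 : g * q * g⁻¹ * q⁻¹ ∈ Q :=
      Q.mul_mem ((Subgroup.mem_normalizer_iff.mp hg q).mp hq) (Q.inv_mem hq)
    have h6 := eq_one_of_mem_of_coprime Q D hQp hD _ h5 h4
    calc q * g = (g * q * g⁻¹ * q⁻¹)⁻¹ * (g * q) := by group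
      _ = g * q := by rw [h6]; group)
  exact ⟨S, N, hN, hNS⟩

theorem npc_of_isPGroup (h : IsPGroup p X) : Cfsg.HasNormalPComplement p X := by
  obtain ⟨S⟩ : Nonempty (Sylow p X) := inferInstance
  have hS : (S : Subgroup X) = ⊤ := by
    have := S.is_maximal' (Q := ⊤) (by
      intro x
      obtain ⟨k, hk⟩ := h (x : X)
      exact ⟨k, Subtype.ext hk⟩) le_top
    exact this.symm
  refine ⟨S, ⊥, Subgroup.normal_bot, ?_⟩
  rw [hS]
  exact Subgroup.isComplement'_bot_top

theorem npc_of_not_dvd (h : ¬ p ∣ Nat.card X) : Cfsg.HasNormalPComplement p X := by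
  obtain ⟨S⟩ : Nonempty (Sylow p X) := inferInstance
  have hS : (S : Subgroup X) = ⊥ := by
    rw [← Subgroup.card_eq_one]
    obtain ⟨k, hk⟩ := IsPGroup.iff_card.mp S.isPGroup'
    rcases Nat.eq_zero_or_pos k with h0 | h0
    · rw [hk, h0, pow_zero]
    · exfalso
      apply h
      have h1 : p ∣ Nat.card (S : Subgroup X) := by rw [hk]; exact dvd_pow_self p h0.ne'
      exact h1.trans (Subgroup.card_subgroup_dvd_card _)
  refine ⟨S, ⊤, Subgroup.normal_top, ?_⟩
  rw [hS]
  exact Subgroup.isComplement'_top_bot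

end npc

end Cfsg.Agent.helper10
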