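import Mathlib
import Cfsg.Agent.Lib_helper6_TwoPow

set_option autoImplicit false

namespace Cfsg.Agent.helper6.Dih

open DihedralGroup
open Cfsg.Agent.helper6.TwoPow

variable {k : ℕ}

/-- The central involution of the dihedral group of order `2 ^ (k + 1)`. -/
def zD (k : ℕ) : DihedralGroup (2 ^ k) := r (half k)

theorem neg_half (hk : 1 ≤ k) : -half k = half k := by
  have h := two_mul_half hk
  linear_combination (-1 : ZMod (2 ^ k)) * h

theorem zD_mul_self (hk : 1 ≤ k) : zD k * zD k = 1 := by
  unfold zD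
  rw [r_mul_r, ← two_mul, two_mul_half hk, r_zero]

theorem zD_ne_one (hk : 1 ≤ k) : zD k ≠ 1 := by
  unfold zD
  rw [one_def]
  intro h
  exact half_ne_zero hk (r.inj h)

theorem zD_comm (hk : 1 ≤ k) (g : DihedralGroup (2 ^ k)) : zD k * g = g * zD k := by
  unfold zD
  cases g with
  | r i => rw [r_mul_r, r_mul_r, add_comm]
  | sr i => rw [r_mul_sr, sr_mul_r, sub_eq_add_neg, neg_half hk]

theorem invol_cases (hk : 1 ≤ k) (g : DihedralGroup (2 ^ k)) (hg : g * g = 1) (hg1 : g ≠ 1) :
    g = zD k ∨ ∃ i, g = sr i := by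
  cases g with
  | r i =>
    left
    rw [r_mul_r, one_def] at hg
    have h2 : 2 * i = 0 := by rw [two_mul]; exact r.inj hg
    rcases (two_mul_eq_zero_iff hk i).mp h2 with h | h
    · exact absurd (by rw [h, r_zero]) hg1
    · rw [h]; rfl
  | sr i => exact Or.inr ⟨i, rfl⟩

theorem conj_sr (i j : ZMod (2 ^ k)) : r j * sr i * (r j)⁻¹ = sr (i - 2 * j) := by
  rw [inv_r, r_mul_sr, sr_mul_r]
  congr 1
  ring

theorem conj_r (i j : ZMod (2 ^ k)) : r j * r i * (r j)⁻¹ = r i := by
  rw [inv_r, r_mul_r, r_mul_r]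
  congr 1
  ring

theorem sr_conj_of_par_zero (hk : 1 ≤ k) (i : ZMod (2 ^ k)) (h : par k hk i = 0) :
    ∃ g : DihedralGroup (2 ^ k), g * sr 0 * g⁻¹ = sr i := by
  obtain ⟨j, rfl⟩ := (par_eq_zero_iff hk i).mp h
  refine ⟨r (-j), ?_⟩
  rw [conj_sr]
  congr 1
  ring

theorem sr_conj_of_par_one (hk : 1 ≤ k) (i : ZMod (2 ^ k)) (h : par k hk i = 1) :
    ∃ g : DihedralGroup (2 ^ k), g * sr 1 * g⁻¹ = sr i := by
  obtain ⟨j, rfl⟩ := (par_eq_one_iff hk i).mp h
  refine ⟨r (-j), ?_⟩
  rw [conj_sr]
  congr 1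
  ring

theorem sr_mul_zD (i : ZMod (2 ^ k)) : sr i * zD k = sr (i + half k) := by
  unfold zD
  rw [sr_mul_r]

/-- A quarter turn. -/
def quarter (k : ℕ) : ZMod (2 ^ k) := ((2 ^ (k - 2) : ℕ) : ZMod (2 ^ k))

theorem two_mul_quarter (hk : 2 ≤ k) : 2 * quarter k = half k := by
  unfold quarter half
  obtain ⟨j, rfl⟩ : ∃ j, k = j + 2 := ⟨k - 2, by omega⟩
  have h1 : j + 2 - 2 = j := by omega
  have h2 : j + 2 - 1 = j + 1 := by omega
  rw [h1, h2]
  push_cast
  ring

/-- A rotation swapping `sr i` and `sr i * z`. -/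
theorem exists_swap (hk : 2 ≤ k) (i : ZMod (2 ^ k)) :
    ∃ g : DihedralGroup (2 ^ k), g * sr i * g⁻¹ = sr i * zD k ∧ g * zD k * g⁻¹ = zD k := by
  refine ⟨r (quarter k), ?_, ?_⟩
  · rw [conj_sr, sr_mul_zD, two_mul_quarter hk, sub_eq_add_neg, neg_half (by omega)]
  · unfold zD
    rw [conj_r]

/-- The homomorphisms onto a group of order two. -/
def chi (hk : 1 ≤ k) (ε δ : ZMod 2) : DihedralGroup (2 ^ k) →* Multiplicative (ZMod 2) where
  toFun g := match g with
    | r i => Multiplicative.ofAdd (ε * par k hk i)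
    | sr i => Multiplicative.ofAdd (ε * par k hk i + δ)
  map_one' := by
    rw [one_def]
    simp
  map_mul' a b := by
    cases a with
    | r i =>
      cases b with
      | r j =>
        simp only [r_mul_r, map_add]
        rw [← ofAdd_add]
        congr 1
        ring
      | sr j =>
        simp only [r_mul_sr, map_sub]
        rw [← ofAdd_add]
        congr 1
        generalize par k hk i = a
        generalize par k hk j = b
        revert a b ε δ
        decide
    | sr i =>
      cases b with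
      | r j =>
        simp only [sr_mul_r, map_add]
        rw [← ofAdd_add]
        congr 1
        ring
      | sr j =>
        simp only [sr_mul_sr, map_sub]
        rw [← ofAdd_add]
        congr 1
        generalize par k hk i = a
        generalize par k hk j = b
        revert a b ε δ
        decide

theorem chi_r (hk : 1 ≤ k) (ε δ : ZMod 2) (i : ZMod (2 ^ k)) :
    chi hk ε δ (r i) = Multiplicative.ofAdd (ε * par k hk i) := rfl

theorem chi_sr (hk : 1 ≤ k) (ε δ : ZMod 2) (i : ZMod (2 ^ k)) :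
    chi hk ε δ (sr i) = Multiplicative.ofAdd (ε * par k hk i + δ) := rfl

theorem chi_zD (hk : 2 ≤ k) (ε δ : ZMod 2) : chi (by omega) ε δ (zD k) = 1 := by
  unfold zD
  rw [chi_r, par_half hk, mul_zero]
  rfl

theorem chi_conj (hk : 1 ≤ k) (ε δ : ZMod 2) (g x : DihedralGroup (2 ^ k)) :
    chi hk ε δ (g * x * g⁻¹) = chi hk ε δ x := by
  rw [map_mul, map_mul, map_inv, mul_comm, inv_mul_cancel_left]

theorem index_ker_chi (hk : 1 ≤ k) (ε δ : ZMod 2) (h : ε ≠ 0 ∨ δ ≠ 0) :
    (chi hk ε δ).ker.index = 2 := by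
  rw [Subgroup.index_ker]
  have hsurj : Function.Surjective (chi hk ε δ) := by
    have hex : ∃ g, chi hk ε δ g = Multiplicative.ofAdd (1 : ZMod 2) := by
      by_cases hδ : δ = 0
      · have hε : ε = 1 := by
          rcases zmod2_cases ε with h1 | h1
          · exact absurd h1 (h.resolve_right (not_not.mpr hδ))
          · exact h1
        refine ⟨r 1, ?_⟩
        rw [chi_r, map_one, hε, mul_one]
      · have hδ1 : δ = 1 := (zmod2_cases δ).resolve_left hδ
        refine ⟨sr 0, ?_⟩
        rw [chi_sr, map_zero, mul_zero, zero_add, hδ1]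
    obtain ⟨g, hg⟩ := hex
    intro y
    rcases zmod2_cases (Multiplicative.toAdd y) with h0 | h1
    · exact ⟨1, by rw [map_one]; exact (congrArg Multiplicative.ofAdd h0).symm⟩
    · exact ⟨g, by rw [hg]; exact (congrArg Multiplicative.ofAdd h1).symm⟩
  rw [MonoidHom.range_eq_top.mpr hsurj]
  simp [Nat.card_eq_fintype_card]

/-- `sr 0` and `sr 1` generate. -/
theorem closure_sr (H : Subgroup (DihedralGroup (2 ^ k))) (h0 : sr 0 ∈ H)
    (h1 : sr 1 ∈ H) : H = ⊤ := by
  rw [eq_top_iff]
  intro g _
  have hr1 : (r 1 : DihedralGroup (2 ^ k)) ∈ H := by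
    have := H.mul_mem h0 h1
    rwa [sr_mul_sr, sub_zero] at this
  have hr : ∀ i : ZMod (2 ^ k), (r i : DihedralGroup (2 ^ k)) ∈ H := by
    intro i
    have := H.pow_mem hr1 i.val
    rwa [r_one_pow, ZMod.natCast_zmod_val] at this
  cases g with
  | r i => exact hr i
  | sr i =>
    have := H.mul_mem h0 (hr i)
    rwa [sr_mul_r, zero_add] at this

/-- Every Klein four-subgroup contains the central involution (order at least 8). -/
theorem zD_mem_of_klein (hk : 2 ≤ k) (U : Subgroup (DihedralGroup (2 ^ k)))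
    (hU : ∀ u ∈ U, u * u = 1)
    (hcard : Nat.card U = 4) : zD k ∈ U := by
  have hk1 : 1 ≤ k := by omega
  by_contra hz
  -- all nonidentity elements are reflections; two distinct ones multiply to the centre
  have hrefl : ∀ u ∈ U, u ≠ 1 → ∃ i, u = sr i := by
    intro u hu hu1
    rcases invol_cases hk1 u (hU u hu) hu1 with h | h
    · exact absurd (h ▸ hu) hz
    · exact h
  -- pick two distinct nonidentity elements
  have h2 : ∃ u ∈ U, ∃ v ∈ U, u ≠ 1 ∧ v ≠ 1 ∧ u ≠ v := by
    by_contra hcon
    push Not at hcon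
    -- then U has at most 2 elements
    have hle : Nat.card U ≤ 2 := by
      by_cases hex : ∃ u ∈ U, u ≠ 1
      · obtain ⟨u, hu, hu1⟩ := hex
        have hsub : ∀ x : U, x = 1 ∨ x = ⟨u, hu⟩ := by
          intro x
          by_cases hx1 : (x : DihedralGroup (2 ^ k)) = 1
          · exact Or.inl (Subtype.ext hx1)
          · exact Or.inr (Subtype.ext (hcon u hu x x.2 hu1 hx1).symm)
        have : Finite U := Nat.finite_of_card_ne_zero (by omega)
        have hfin := Fintype.ofFinite U
        rw [Nat.card_eq_fintype_card]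
        classical
        calc Fintype.card U = (Finset.univ : Finset U).card := rfl
          _ ≤ ({1, ⟨u, hu⟩} : Finset U).card := by
            apply Finset.card_le_card
            intro x _
            rcases hsub x with h | h
            · rw [h]; exact Finset.mem_insert_self _ _
            · rw [h]; exact Finset.mem_insert_of_mem (Finset.mem_singleton_self _)
          _ ≤ 2 := Finset.card_le_two
      · push Not at hex
        have : Subsingleton U := ⟨fun x y => Subtype.ext ((hex x x.2).trans (hex y y.2).symm)⟩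
        have hfin : Finite U := Nat.finite_of_card_ne_zero (by omega)
        have := Finite.card_le_one_iff_subsingleton.mpr this
        omega
    omega
  obtain ⟨u, hu, v, hv, hu1, hv1, huv⟩ := h2
  obtain ⟨i, rfl⟩ := hrefl u hu hu1
  obtain ⟨j, rfl⟩ := hrefl v hv hv1
  have hprod : sr i * sr j ∈ U := U.mul_mem hu hv
  rw [sr_mul_sr] at hprod
  have hne : (r (j - i) : DihedralGroup (2 ^ k)) ≠ 1 := by
    rw [one_def]
    intro h
    have := r.inj h
    apply huv
    rw [sub_eq_zero.mp this]
  rcases invol_cases hk1 _ (hU _ hprod) hne with h | ⟨l, h⟩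
  · exact hz (h ▸ hprod)
  · exact absurd h (by simp)

end Cfsg.Agent.helper6.Dih
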