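import Mathlib
import Cfsg.Statements.S0111

set_option autoImplicit false
open Pointwise
open Cfsg

namespace Cfsg.Agent.S0111

open Classical in
/-- The sign homomorphism attached to a subgroup of index two. -/
noncomputable def signHom {H : Type*} [Group H] (K : Subgroup H) (hK : K.index = 2) : H →* ℤˣ where
  toFun x := if x ∈ K then 1 else -1
  map_one' := by simp [K.one_mem]
  map_mul' x y := by
    have := Subgroup.mul_mem_iff_of_index_two hK (a := x) (b := y)
    by_cases hx : x ∈ K <;> by_cases hy : y ∈ K <;> simp [hx, hy, this]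

open Classical in
theorem signHom_apply {H : Type*} [Group H] (K : Subgroup H) (hK : K.index = 2) (x : H) :
    signHom K hK x = if x ∈ K then 1 else -1 := rfl

theorem result {G : Type*} [Group G] [Finite G] (P : Sylow 2 G) (Q : Subgroup G) (hQP : Q ≤ (P : Subgroup G)) (hQi : Q.relIndex (P : Subgroup G) = 2) (u : G) (hu : orderOf u = 2) (huP : u ∈ (P : Subgroup G)) (huQ : u ∉ Q) : (∃ M : Subgroup G, M.Normal ∧ M.index = 2 ∧ u ∉ M) ∨ ∃ g : G, g * u * g⁻¹ ∈ Q := by
  classical
  by_cases hconj : ∃ g : G, g * u * g⁻¹ ∈ Q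
  · exact Or.inr hconj
  left
  have hconj' : ∀ g : G, g * u * g⁻¹ ∉ Q := not_exists.mp hconj
  have hK : (Q.subgroupOf (P : Subgroup G)).index = 2 := hQi
  set ϕ : (P : Subgroup G) →* ℤˣ := signHom (Q.subgroupOf (P : Subgroup G)) hK with hϕ
  have hval : ∀ (x : G) (hx : x ∈ (P : Subgroup G)),
      ϕ ⟨x, hx⟩ = if x ∈ Q then 1 else -1 := by
    intro x hx
    rw [hϕ, signHom_apply]
    simp [Subgroup.mem_subgroupOf]
  have hu2 : u ^ 2 = 1 := by rw [← hu]; exact pow_orderOf_eq_one u
  have hTu : MonoidHom.transfer ϕ u = -1 := by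
    haveI : Fintype (Quotient (MulAction.orbitRel (Subgroup.zpowers u) (G ⧸ (P : Subgroup G)))) :=
      Fintype.ofFinite _
    rw [MonoidHom.transfer_eq_prod_quotient_orbitRel_zpowers_quot]
    have hterm : ∀ q : Quotient (MulAction.orbitRel (Subgroup.zpowers u) (G ⧸ (P : Subgroup G))),
        ϕ ⟨q.out.out⁻¹ * u ^ Function.minimalPeriod (u • ·) q.out * q.out.out,
            QuotientGroup.out_conj_pow_minimalPeriod_mem (P : Subgroup G) u q.out⟩
          = (-1) ^ Function.minimalPeriod (u • ·) q.out := by
      intro q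
      rw [hval]
      have hper : Function.IsPeriodicPt (u • ·) 2 q.out := by
        show (u • ·)^[2] q.out = q.out
        simp only [Function.iterate_succ, Function.iterate_zero, Function.comp_apply, id_eq]
        rw [← mul_smul, ← pow_two, hu2, one_smul]
      have hdvd : Function.minimalPeriod (u • ·) q.out ∣ 2 := hper.minimalPeriod_dvd
      obtain h | h := (Nat.dvd_prime Nat.prime_two).mp hdvd
      · rw [h, pow_one, pow_one]
        have := hconj' (q.out.out⁻¹)
        rw [inv_inv] at this
        rw [if_neg this]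
      · rw [h, hu2]
        simp [Q.one_mem]
    rw [Finset.prod_congr rfl (fun q _ => hterm q), Finset.prod_pow_eq_pow_sum,
      ← Subgroup.index_eq_sum_minimalPeriod]
    have hodd : Odd (P : Subgroup G).index := by
      rw [← Nat.not_even_iff_odd, even_iff_two_dvd]
      exact P.not_dvd_index
    exact hodd.neg_one_pow
  refine ⟨(MonoidHom.transfer ϕ).ker, MonoidHom.normal_ker _, ?_, ?_⟩
  · rw [Subgroup.index_ker]
    have hr : (MonoidHom.transfer ϕ).range = ⊤ := by
      rw [eq_top_iff]
      intro x _
      rcases Int.units_eq_one_or x with rfl | rfl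
      · exact Subgroup.one_mem _
      · exact ⟨u, hTu⟩
    rw [hr, Subgroup.card_top, Nat.card_eq_fintype_card, Fintype.card_units_int]
  · rw [MonoidHom.mem_ker, hTu]
    decide

end Cfsg.Agent.S0111
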