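import Mathlib
import Cfsg.Agent.Lib_helper6_Dih
import Cfsg.Agent.Lib_helper6_AutIdx2
import Cfsg.Agent.S0111

set_option autoImplicit false

namespace Cfsg.Agent.helper6.DihSyl

open DihedralGroup
open Cfsg.Agent.helper6.TwoPow
open Cfsg.Agent.helper6.Dih

variable {G : Type*} [Group G] {P : Sylow 2 G} {k : ℕ}

/-- Transport an element of the dihedral group to `G`. -/
def toG (e : ↥(P : Subgroup G) ≃* DihedralGroup (2 ^ k)) (d : DihedralGroup (2 ^ k)) : G :=
  ((e.symm d : ↥(P : Subgroup G)) : G)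

section basic
variable (e : ↥(P : Subgroup G) ≃* DihedralGroup (2 ^ k))

theorem toG_mem (d : DihedralGroup (2 ^ k)) : toG e d ∈ (P : Subgroup G) := (e.symm d).2

theorem toG_mul (d d' : DihedralGroup (2 ^ k)) : toG e (d * d') = toG e d * toG e d' := by
  unfold toG
  rw [map_mul]
  rfl

theorem toG_one : toG e 1 = 1 := by
  unfold toG
  rw [map_one]
  rfl

theorem toG_inv (d : DihedralGroup (2 ^ k)) : toG e d⁻¹ = (toG e d)⁻¹ := by
  unfold toG
  rw [map_inv]
  rfl

theorem toG_injective : Function.Injective (toG e) := by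
  intro d d' h
  exact e.symm.injective (Subtype.ext h)

theorem toG_apply {x : G} (hx : x ∈ (P : Subgroup G)) : toG e (e ⟨x, hx⟩) = x := by
  unfold toG
  rw [MulEquiv.symm_apply_apply]

theorem exists_of_mem {x : G} (hx : x ∈ (P : Subgroup G)) : ∃ d, x = toG e d :=
  ⟨e ⟨x, hx⟩, (toG_apply e hx).symm⟩

theorem orderOf_toG (d : DihedralGroup (2 ^ k)) : orderOf (toG e d) = orderOf d := by
  unfold toG
  rw [Subgroup.orderOf_coe, MulEquiv.orderOf_eq]

theorem toG_conj (g d : DihedralGroup (2 ^ k)) :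
    toG e (g * d * g⁻¹) = toG e g * toG e d * (toG e g)⁻¹ := by
  rw [toG_mul, toG_mul, toG_inv]

/-- The central involution, in `G`. -/
def zG : G := toG e (zD k)

theorem orderOf_zG (hk : 1 ≤ k) : orderOf (zG e) = 2 := by
  unfold zG
  rw [orderOf_toG]
  apply orderOf_eq_prime
  · rw [pow_two]; exact zD_mul_self hk
  · exact zD_ne_one hk

theorem orderOf_sr' (i : ZMod (2 ^ k)) : orderOf (toG e (sr i)) = 2 := by
  rw [orderOf_toG, orderOf_sr]

/-- Involutions of `P`. -/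
theorem invol_cases_G (hk : 1 ≤ k) {t : G} (ht : t ∈ (P : Subgroup G)) (h2 : orderOf t = 2) :
    t = zG e ∨ ∃ i, t = toG e (sr i) := by
  obtain ⟨d, rfl⟩ := exists_of_mem e ht
  rw [orderOf_toG] at h2
  have hd : d * d = 1 := by
    have := pow_orderOf_eq_one d
    rwa [h2, pow_two] at this
  have hd1 : d ≠ 1 := by
    intro h; rw [h, orderOf_one] at h2; omega
  rcases invol_cases hk d hd hd1 with h | ⟨i, h⟩
  · left; rw [h]; rfl
  · right; exact ⟨i, by rw [h]⟩

theorem sr_isConj (hk : 1 ≤ k) (i : ZMod (2 ^ k)) :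
    (par k hk i = 0 → ∃ g ∈ (P : Subgroup G), g * toG e (sr 0) * g⁻¹ = toG e (sr i)) ∧
    (par k hk i = 1 → ∃ g ∈ (P : Subgroup G), g * toG e (sr 1) * g⁻¹ = toG e (sr i)) := by
  constructor
  · intro h
    obtain ⟨g, hg⟩ := sr_conj_of_par_zero hk i h
    exact ⟨toG e g, toG_mem e g, by rw [← toG_conj, hg]⟩
  · intro h
    obtain ⟨g, hg⟩ := sr_conj_of_par_one hk i h
    exact ⟨toG e g, toG_mem e g, by rw [← toG_conj, hg]⟩

/-- A subgroup containing the two standard reflections contains `P`. -/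
theorem le_of_mem (H : Subgroup G) (h0 : toG e (sr 0) ∈ H) (h1 : toG e (sr 1) ∈ H) :
    (P : Subgroup G) ≤ H := by
  have := closure_sr ((H.subgroupOf (P : Subgroup G)).map e.toMonoidHom)
    ⟨e.symm (sr 0), h0, by simp⟩ ⟨e.symm (sr 1), h1, by simp⟩
  intro x hx
  have hx' : e ⟨x, hx⟩ ∈ (H.subgroupOf (P : Subgroup G)).map e.toMonoidHom := by
    rw [this]; exact Subgroup.mem_top _
  obtain ⟨y, hy, hye⟩ := hx'
  have : y = ⟨x, hx⟩ := e.injective hye
  rw [this] at hy
  exact hy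

end basic

section fin
variable [Finite G] (e : ↥(P : Subgroup G) ≃* DihedralGroup (2 ^ k))

/-- Every involution of `G` is conjugate to one of the three standard involutions of `P`. -/
theorem invol_conj (hk : 1 ≤ k) (t : G) (ht : orderOf t = 2) :
    IsConj t (zG e) ∨ IsConj t (toG e (sr 0)) ∨ IsConj t (toG e (sr 1)) := by
  obtain ⟨g, hg⟩ := AutIdx.exists_conj_mem_sylow P t 1 (by rw [pow_one, ← ht]; exact pow_orderOf_eq_one t)
  have h2 : orderOf (g * t * g⁻¹) = 2 := by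
    rw [← ht]
    have := orderOf_injective (MulAut.conj g : G →* G) (MulAut.conj g).injective t
    simpa [MulAut.conj_apply] using this
  have hconj : IsConj t (g * t * g⁻¹) := isConj_iff.mpr ⟨g, rfl⟩
  rcases invol_cases_G e hk hg h2 with h | ⟨i, h⟩
  · left; rw [← h]; exact hconj
  · rcases zmod2_cases (par k hk i) with hp | hp
    · right; left
      obtain ⟨c, -, hc⟩ := (sr_isConj e hk i).1 hp
      have h3 : IsConj (toG e (sr 0)) (toG e (sr i)) := isConj_iff.mpr ⟨c, hc⟩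
      rw [h] at hconj
      exact hconj.trans h3.symm
    · right; right
      obtain ⟨c, -, hc⟩ := (sr_isConj e hk i).2 hp
      have h3 : IsConj (toG e (sr 1)) (toG e (sr i)) := isConj_iff.mpr ⟨c, hc⟩
      rw [h] at hconj
      exact hconj.trans h3.symm

/-- The index-two subgroup of `P` cut out by `chi`. -/
def Qsub (hk : 1 ≤ k) (ε δ : ZMod 2) : Subgroup G :=
  ((chi hk ε δ).ker.comap e.toMonoidHom).map (P : Subgroup G).subtype

omit [Finite G] in
theorem mem_Qsub (hk : 1 ≤ k) (ε δ : ZMod 2) (x : G) :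
    x ∈ Qsub e hk ε δ ↔ ∃ hx : x ∈ (P : Subgroup G), chi hk ε δ (e ⟨x, hx⟩) = 1 := by
  unfold Qsub
  constructor
  · rintro ⟨y, hy, rfl⟩
    exact ⟨y.2, hy⟩
  · rintro ⟨hx, h⟩
    exact ⟨⟨x, hx⟩, h, rfl⟩

omit [Finite G] in
theorem Qsub_le (hk : 1 ≤ k) (ε δ : ZMod 2) : Qsub e hk ε δ ≤ (P : Subgroup G) := by
  intro x hx
  obtain ⟨hx', -⟩ := (mem_Qsub e hk ε δ x).mp hx
  exact hx'

theorem relIndex_Qsub (hk : 1 ≤ k) (ε δ : ZMod 2) (h : ε ≠ 0 ∨ δ ≠ 0) :
    (Qsub e hk ε δ).relIndex (P : Subgroup G) = 2 := by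
  unfold Qsub Subgroup.relIndex
  show ((((chi hk ε δ).ker.comap e.toMonoidHom).map (P : Subgroup G).subtype).comap
    (P : Subgroup G).subtype).index = 2
  rw [Subgroup.comap_map_eq_self_of_injective (Subgroup.subtype_injective _)]
  exact (Subgroup.index_comap_of_surjective _ e.surjective).trans (index_ker_chi hk ε δ h)

/-- Thompson transfer for the dihedral Sylow subgroup. -/
theorem exists_index_two (hk : 1 ≤ k) (ε δ : ZMod 2) (h : ε ≠ 0 ∨ δ ≠ 0) (u : G)
    (huP : u ∈ (P : Subgroup G)) (hu : orderOf u = 2) (hχ : chi hk ε δ (e ⟨u, huP⟩) ≠ 1)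
    (hnc : ∀ t (ht : t ∈ (P : Subgroup G)), orderOf t = 2 → chi hk ε δ (e ⟨t, ht⟩) = 1 →
      ¬ IsConj u t) :
    ∃ M : Subgroup G, M.Normal ∧ M.index = 2 ∧ u ∉ M := by
  have huQ : u ∉ Qsub e hk ε δ := by
    intro hmem
    obtain ⟨hx, h1⟩ := (mem_Qsub e hk ε δ u).mp hmem
    exact hχ h1
  rcases Cfsg.Agent.S0111.result P (Qsub e hk ε δ) (Qsub_le e hk ε δ) (relIndex_Qsub e hk ε δ h) u hu
    huP huQ with hM | ⟨g, hg⟩
  · exact hM
  · exfalso
    obtain ⟨hx, h1⟩ := (mem_Qsub e hk ε δ _).mp hg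
    have h2 : orderOf (g * u * g⁻¹) = 2 := by
      rw [← hu]
      have := orderOf_injective (MulAut.conj g : G →* G) (MulAut.conj g).injective u
      simpa [MulAut.conj_apply] using this
    exact hnc _ hx h2 h1 (isConj_iff.mpr ⟨g, rfl⟩)

end fin

end Cfsg.Agent.helper6.DihSyl
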