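import Mathlib

set_option autoImplicit false
set_option linter.unusedSectionVars false
set_option linter.unusedVariables false
set_option linter.style.haveILetI false

namespace Cfsg.Agent.helper6.Klein

variable {S : Type*} [Group S]

/-- The four-group generated by two commuting involutions. -/
def four (a c : S) (ha : a * a = 1) (hc : c * c = 1) (hac : a * c = c * a) : Subgroup S where
  carrier := {g | g = 1 ∨ g = a ∨ g = c ∨ g = a * c}
  one_mem' := Or.inl rfl
  mul_mem' := by
    have h1 : a * (a * c) = c := by rw [← mul_assoc, ha, one_mul]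
    have h2 : c * (a * c) = a := by rw [← mul_assoc, ← hac, mul_assoc, hc, mul_one]
    have h3 : a * c * a = c := by rw [mul_assoc, ← hac, h1]
    have h4 : a * c * c = a := by rw [mul_assoc, hc, mul_one]
    have h5 : a * c * (a * c) = 1 := by rw [mul_assoc, h2, ha]
    rintro _ _ (rfl | rfl | rfl | rfl) (rfl | rfl | rfl | rfl)
    · left; rw [one_mul]
    · right; left; rw [one_mul]
    · right; right; left; rw [one_mul]
    · right; right; right; rw [one_mul]
    · right; left; rw [mul_one]
    · left; exact ha
    · right; right; right; rfl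
    · right; right; left; exact h1
    · right; right; left; rw [mul_one]
    · right; right; right; exact hac.symm
    · left; exact hc
    · right; left; exact h2
    · right; right; right; rw [mul_one]
    · right; right; left; exact h3
    · right; left; exact h4
    · left; exact h5
  inv_mem' := by
    have ha' : a⁻¹ = a := inv_eq_of_mul_eq_one_right ha
    have hc' : c⁻¹ = c := inv_eq_of_mul_eq_one_right hc
    rintro _ (rfl | rfl | rfl | rfl)
    · left; exact inv_one
    · right; left; exact ha'
    · right; right; left; exact hc'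
    · right; right; right; rw [mul_inv_rev, ha', hc', hac]

theorem mem_four {a c : S} {ha : a * a = 1} {hc : c * c = 1} {hac : a * c = c * a} (g : S) :
    g ∈ four a c ha hc hac ↔ g = 1 ∨ g = a ∨ g = c ∨ g = a * c := Iff.rfl

theorem isKleinFour_four {a c : S} (ha : a * a = 1) (hc : c * c = 1) (hac : a * c = c * a)
    (ha1 : a ≠ 1) (hc1 : c ≠ 1) (hne : a ≠ c) : IsKleinFour (four a c ha hc hac) := by
  classical
  have hsq : ∀ g ∈ four a c ha hc hac, g * g = 1 := by
    rintro g (rfl | rfl | rfl | rfl)
    · rw [one_mul]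
    · exact ha
    · exact hc
    · rw [mul_assoc, ← mul_assoc c, ← hac, mul_assoc, hc, mul_one, ha]
  have hac1 : a * c ≠ 1 := by
    intro h
    apply hne
    have : a = c⁻¹ := eq_inv_of_mul_eq_one_left h
    rw [this]; exact inv_eq_of_mul_eq_one_right hc
  have haca : a * c ≠ a := by
    intro h; apply hc1
    have := mul_left_cancel (a := a) (b := c) (c := 1) (by rw [h, mul_one])
    exact this
  have hacc : a * c ≠ c := by
    intro h; apply ha1
    have := mul_right_cancel (a := a) (b := c) (c := 1) (by rw [h, one_mul])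
    exact this
  have hset : ((four a c ha hc hac : Subgroup S) : Set S) = (({1, a, c, a * c} : Finset S) : Set S) := by
    ext g
    simp only [Finset.coe_insert, Finset.coe_singleton, Set.mem_insert_iff,
      Set.mem_singleton_iff]
    exact Iff.rfl
  have hcard : Nat.card (four a c ha hc hac) = 4 := by
    have h1 : Nat.card (four a c ha hc hac) = ((four a c ha hc hac : Subgroup S) : Set S).ncard :=
      Nat.card_coe_set_eq _
    rw [h1, hset, Set.ncard_coe_finset]
    rw [Finset.card_insert_of_notMem, Finset.card_insert_of_notMem, Finset.card_insert_of_notMem,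
      Finset.card_singleton]
    · simp only [Finset.mem_singleton]; exact fun h => hacc h.symm
    · simp only [Finset.mem_insert, Finset.mem_singleton]
      rintro (h | h)
      · exact hne h
      · exact haca h.symm
    · simp only [Finset.mem_insert, Finset.mem_singleton]
      rintro (h | h | h)
      · exact ha1 h.symm
      · exact hc1 h.symm
      · exact hac1 h.symm
  refine ⟨hcard, ?_⟩
  haveI : Nontrivial (four a c ha hc hac) := by
    refine ⟨⟨1, ⟨a, Or.inr (Or.inl rfl)⟩, ?_⟩⟩
    intro h
    exact ha1 (congrArg Subtype.val h).symm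
  rw [Monoid.exponent_eq_prime_iff Nat.prime_two]
  rintro ⟨g, hg⟩ hg1
  haveI : Fact (Nat.Prime 2) := ⟨Nat.prime_two⟩
  rw [orderOf_eq_prime_iff]
  refine ⟨?_, hg1⟩
  apply Subtype.ext
  rw [pow_two]
  exact hsq g hg

theorem sq_of_klein {T : Subgroup S} (hT : IsKleinFour T) : ∀ t ∈ T, t * t = 1 := by
  intro t ht
  have := IsKleinFour.mul_self (⟨t, ht⟩ : T)
  exact congrArg Subtype.val this

theorem comm_of_klein {T : Subgroup S} (hT : IsKleinFour T) :
    ∀ s ∈ T, ∀ t ∈ T, s * t = t * s := by
  intro s hs t ht
  have := IsKleinFour.isMulCommutative (G := T)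
  exact congrArg Subtype.val (mul_comm' (⟨s, hs⟩ : T) ⟨t, ht⟩)

theorem eq_of_le_klein {T T' : Subgroup S} (hT : IsKleinFour T) (hT' : IsKleinFour T')
    (hle : T ≤ T') : T = T' := by
  haveI : Finite T' := Nat.finite_of_card_ne_zero (by rw [IsKleinFour.card_four]; norm_num)
  apply Subgroup.eq_of_le_of_card_ge hle
  rw [IsKleinFour.card_four (G := T), IsKleinFour.card_four (G := T')]

theorem map_conj_eq_of_forall {Q₁ Q₂ : Subgroup S} (s : S) (h1 : ∀ g ∈ Q₁, s * g * s⁻¹ ∈ Q₂)
    (h2 : ∀ g ∈ Q₂, s⁻¹ * g * s⁻¹⁻¹ ∈ Q₁) : Q₁.map (MulAut.conj s).toMonoidHom = Q₂ := by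
  ext g
  simp only [Subgroup.mem_map, MulEquiv.coe_toMonoidHom, MulAut.conj_apply]
  constructor
  · rintro ⟨c, hc, rfl⟩; exact h1 c hc
  · intro hg
    exact ⟨s⁻¹ * g * s⁻¹⁻¹, h2 g hg, by group⟩

end Cfsg.Agent.helper6.Klein
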