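import Mathlib
import Cfsg.Agent.Lib_helper6_DihSyl
import Cfsg.Agent.Lib_helper6_Klein

set_option autoImplicit false

namespace Cfsg.Agent.helper6.DihSyl

open DihedralGroup
open Cfsg.Agent.helper6.TwoPow
open Cfsg.Agent.helper6.Dih

variable {G : Type*} [Group G] {P : Sylow 2 G} {k : ℕ}
variable (e : ↥(P : Subgroup G) ≃* DihedralGroup (2 ^ k))

theorem toG_pow (d : DihedralGroup (2 ^ k)) (n : ℕ) : toG e (d ^ n) = toG e d ^ n := by
  unfold toG
  rw [map_pow]
  rfl

theorem zG_eq_pow : zG e = (toG e (sr 0) * toG e (sr 1)) ^ (2 ^ (k - 1)) := by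
  rw [← toG_mul, sr_mul_sr, sub_zero, ← toG_pow, r_one_pow]
  rfl

theorem zG_comm (hk : 1 ≤ k) {x : G} (hx : x ∈ (P : Subgroup G)) : zG e * x = x * zG e := by
  obtain ⟨d, rfl⟩ := exists_of_mem e hx
  unfold zG
  rw [← toG_mul, ← toG_mul, zD_comm hk]

/-- The central involution lies in every normal subgroup with commutative quotient. -/
theorem zG_mem_of_comm (hk : 2 ≤ k) (N : Subgroup G) [N.Normal]
    (hcomm : ∀ x y : G ⧸ N, x * y = y * x) : zG e ∈ N := by
  rw [zG_eq_pow]
  have h1 : 2 ^ (k - 1) = 2 * 2 ^ (k - 2) := by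
    rw [← pow_succ']
    congr 1
    omega
  rw [h1, pow_mul]
  apply Subgroup.pow_mem
  rw [← QuotientGroup.eq_one_iff]
  have ha : ((toG e (sr 0) : G) : G ⧸ N) ^ 2 = 1 := by
    rw [← QuotientGroup.mk_pow, pow_two, ← toG_mul, sr_mul_self, toG_one]
    rfl
  have hb : ((toG e (sr 1) : G) : G ⧸ N) ^ 2 = 1 := by
    rw [← QuotientGroup.mk_pow, pow_two, ← toG_mul, sr_mul_self, toG_one]
    rfl
  have hc : Commute ((toG e (sr 0) : G) : G ⧸ N) ((toG e (sr 1) : G) : G ⧸ N) := hcomm _ _
  rw [QuotientGroup.mk_pow, QuotientGroup.mk_mul, hc.mul_pow, ha, hb, one_mul]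

/-- The structure of the Klein four-subgroups of `P`. -/
theorem klein_structure [Finite G] (hk : 2 ≤ k) (U : Subgroup G) (hUP : U ≤ (P : Subgroup G))
    (hU : IsKleinFour U) :
    zG e ∈ U ∧ ∃ i, toG e (sr i) ∈ U ∧
      ∀ x ∈ U, x = 1 ∨ x = zG e ∨ x = toG e (sr i) ∨ x = toG e (sr i) * zG e := by
  have hk1 : 1 ≤ k := by omega
  -- transport U to the dihedral group
  obtain ⟨U', hU'⟩ : ∃ U' : Subgroup (DihedralGroup (2 ^ k)),
      U' = (U.subgroupOf (P : Subgroup G)).map e.toMonoidHom := ⟨_, rfl⟩
  have hmem : ∀ d, d ∈ U' ↔ toG e d ∈ U := by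
    intro d
    rw [hU']
    constructor
    · rintro ⟨y, hy, rfl⟩
      have : toG e (e.toMonoidHom y) = (y : G) := by
        unfold toG
        exact congrArg Subtype.val (e.symm_apply_apply y)
      rw [this]
      exact hy
    · intro h
      exact ⟨e.symm d, h, e.apply_symm_apply d⟩
  have hcardU' : Nat.card U' = 4 := by
    rw [hU', ← hU.card_four]
    have e1 : ↥((U.subgroupOf (P : Subgroup G)).map e.toMonoidHom) ≃ ↥(U.subgroupOf (P : Subgroup G)) :=
      ((U.subgroupOf (P : Subgroup G)).equivMapOfInjective e.toMonoidHom e.injective).symm.toEquiv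
    rw [Nat.card_congr e1]
    exact Nat.card_congr (Subgroup.subgroupOfEquivOfLe hUP).toEquiv
  have hsqU' : ∀ u ∈ U', u * u = 1 := by
    intro u hu
    have h1 := Klein.sq_of_klein hU (toG e u) ((hmem u).mp hu)
    rw [← toG_mul, ← toG_one e] at h1
    exact toG_injective e h1
  have hz : zD k ∈ U' := zD_mem_of_klein hk U' hsqU' hcardU'
  have hzU : zG e ∈ U := (hmem _).mp hz
  refine ⟨hzU, ?_⟩
  -- an element other than 1, z
  have hex : ∃ u ∈ U', u ≠ 1 ∧ u ≠ zD k := by
    by_contra hcon
    push Not at hcon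
    have hle : Nat.card U' ≤ 2 := by
      have hsub : ∀ x : U', x = 1 ∨ x = ⟨zD k, hz⟩ := by
        intro x
        by_cases hx1 : (x : DihedralGroup (2 ^ k)) = 1
        · exact Or.inl (Subtype.ext hx1)
        · exact Or.inr (Subtype.ext (hcon x x.2 hx1))
      have hfin : Finite U' := Nat.finite_of_card_ne_zero (by omega)
      have hft := Fintype.ofFinite U'
      rw [Nat.card_eq_fintype_card]
      classical
      calc Fintype.card U' = (Finset.univ : Finset U').card := rfl
        _ ≤ ({1, ⟨zD k, hz⟩} : Finset U').card := by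
          apply Finset.card_le_card
          intro x _
          rcases hsub x with h | h
          · rw [h]; exact Finset.mem_insert_self _ _
          · rw [h]; exact Finset.mem_insert_of_mem (Finset.mem_singleton_self _)
        _ ≤ 2 := Finset.card_le_two
    omega
  obtain ⟨u, hu, hu1, huz⟩ := hex
  rcases invol_cases hk1 u (hsqU' u hu) hu1 with h | ⟨i, rfl⟩
  · exact absurd h huz
  refine ⟨i, (hmem _).mp hu, ?_⟩
  -- the four elements 1, z, sr i, sr i * z exhaust U'
  have hfour : ∀ x ∈ U', x = 1 ∨ x = zD k ∨ x = sr i ∨ x = sr i * zD k := by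
    have huz' : sr i * zD k ∈ U' := U'.mul_mem hu hz
    have hfin : Finite U' := Nat.finite_of_card_ne_zero (by omega)
    have hft := Fintype.ofFinite U'
    classical
    let T : Finset U' := {1, ⟨zD k, hz⟩, ⟨sr i, hu⟩, ⟨sr i * zD k, huz'⟩}
    have hTcard : T.card = 4 := by
      have h1z : (1 : U') ≠ ⟨zD k, hz⟩ := by
        intro h; exact zD_ne_one hk1 (congrArg Subtype.val h).symm
      have h1s : (1 : U') ≠ ⟨sr i, hu⟩ := by
        intro h; exact hu1 (congrArg Subtype.val h).symm
      have h1sz : (1 : U') ≠ ⟨sr i * zD k, huz'⟩ := by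
        intro h
        have h' : (1 : DihedralGroup (2 ^ k)) = sr i * zD k := congrArg Subtype.val h
        rw [sr_mul_zD, one_def] at h'
        cases h'
      have hzs : (⟨zD k, hz⟩ : U') ≠ ⟨sr i, hu⟩ := by
        intro h; exact huz (congrArg Subtype.val h).symm
      have hzsz : (⟨zD k, hz⟩ : U') ≠ ⟨sr i * zD k, huz'⟩ := by
        intro h
        have h' : zD k = sr i * zD k := congrArg Subtype.val h
        rw [sr_mul_zD] at h'
        unfold zD at h'
        exact absurd h' (by simp)
      have hssz : (⟨sr i, hu⟩ : U') ≠ ⟨sr i * zD k, huz'⟩ := by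
        intro h
        have h' : sr i = sr i * zD k := congrArg Subtype.val h
        have h2 : zD k = 1 := by
          have h3 : sr i * 1 = sr i * zD k := by rw [mul_one]; exact h'
          exact (mul_left_cancel h3).symm
        exact zD_ne_one hk1 h2
      simp only [T]
      rw [Finset.card_insert_of_notMem, Finset.card_insert_of_notMem,
        Finset.card_insert_of_notMem, Finset.card_singleton]
      · simp only [Finset.mem_singleton]; exact hssz
      · simp only [Finset.mem_insert, Finset.mem_singleton, not_or]; exact ⟨hzs, hzsz⟩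
      · simp only [Finset.mem_insert, Finset.mem_singleton, not_or]; exact ⟨h1z, h1s, h1sz⟩
    have hTuniv : T = Finset.univ := by
      apply Finset.eq_univ_of_card
      rw [hTcard, ← Nat.card_eq_fintype_card, hcardU']
    intro x hx
    have hxT : (⟨x, hx⟩ : U') ∈ T := by rw [hTuniv]; exact Finset.mem_univ _
    simp only [T, Finset.mem_insert, Finset.mem_singleton] at hxT
    rcases hxT with h | h | h | h
    · left; exact congrArg Subtype.val h
    · right; left; exact congrArg Subtype.val h
    · right; right; left; exact congrArg Subtype.val h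
    · right; right; right; exact congrArg Subtype.val h
  intro x hx
  obtain ⟨d, rfl⟩ := exists_of_mem e (hUP hx)
  rcases hfour d ((hmem d).mpr hx) with h | h | h | h
  · left; rw [h, toG_one]
  · right; left; rw [h]; rfl
  · right; right; left; rw [h]
  · right; right; right; rw [h, toG_mul]; rfl

end Cfsg.Agent.helper6.DihSyl
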