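import Mathlib
import Cfsg.Agent.Lib_helper6_DihSyl2
import Cfsg.Agent.Lib_helper10_NPC
import Cfsg.Agent.Lib_lead_Frobenius

set_option autoImplicit false

namespace Cfsg.Agent.helper6.DihSyl

open DihedralGroup
open Cfsg.Agent.helper6.TwoPow
open Cfsg.Agent.helper6.Dih

set_option linter.unusedSectionVars false

variable {G : Type*} [Group G] [Finite G] {P : Sylow 2 G} {k : ℕ}
variable (e : ↥(P : Subgroup G) ≃* DihedralGroup (2 ^ k))

/-- If neither standard reflection is fused to the central involution, no reflection is. -/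
theorem not_conj_z_sr (hk : 1 ≤ k) (hA : ¬ IsConj (toG e (sr 0)) (zG e))
    (hB : ¬ IsConj (toG e (sr 1)) (zG e)) (j : ZMod (2 ^ k)) :
    ¬ IsConj (zG e) (toG e (sr j)) := by
  intro h
  rcases zmod2_cases (par k hk j) with hp | hp
  · obtain ⟨c, -, hc⟩ := (sr_isConj e hk j).1 hp
    have h3 : IsConj (toG e (sr 0)) (toG e (sr j)) := isConj_iff.mpr ⟨c, hc⟩
    exact hA (h3.trans h.symm)
  · obtain ⟨c, -, hc⟩ := (sr_isConj e hk j).2 hp
    have h3 : IsConj (toG e (sr 1)) (toG e (sr j)) := isConj_iff.mpr ⟨c, hc⟩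
    exact hB (h3.trans h.symm)

theorem zG_ne_one (hk : 1 ≤ k) : zG e ≠ 1 := by
  intro h
  have := orderOf_zG e hk
  rw [h, orderOf_one] at this
  omega

theorem sr_ne_one (i : ZMod (2 ^ k)) : toG e (sr i) ≠ 1 := by
  intro h
  have := orderOf_sr' e i
  rw [h, orderOf_one] at this
  omega

theorem sr_ne_zG (i : ZMod (2 ^ k)) : toG e (sr i) ≠ zG e := by
  intro h
  have := toG_injective e h
  unfold zD at this
  cases this

/-- The normalizer of a Klein four-subgroup when there is no fusion with the centre. -/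
theorem normalizer_klein (hk : 2 ≤ k) (hA : ¬ IsConj (toG e (sr 0)) (zG e))
    (hB : ¬ IsConj (toG e (sr 1)) (zG e)) (U : Subgroup G) (hUP : U ≤ (P : Subgroup G))
    (hU : IsKleinFour U) :
    Subgroup.normalizer (U : Set G) =
      Subgroup.centralizer (U : Set G) ⊔ ((P : Subgroup G) ⊓ Subgroup.normalizer (U : Set G)) := by
  have hk1 : 1 ≤ k := by omega
  obtain ⟨hzU, i, htU, hall⟩ := klein_structure e hk U hUP hU
  apply le_antisymm
  · intro g hg
    have hgN := hg
    rw [Subgroup.mem_normalizer_iff] at hg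
    -- g fixes z
    have hgz : g * zG e * g⁻¹ = zG e := by
      have h1 : g * zG e * g⁻¹ ∈ U := (hg _).mp hzU
      have hconj : IsConj (zG e) (g * zG e * g⁻¹) := isConj_iff.mpr ⟨g, rfl⟩
      rcases hall _ h1 with h | h | h | h
      · exfalso
        have : zG e = 1 := by
          have h2 : g * zG e * g⁻¹ = g * 1 * g⁻¹ := by rw [h]; group
          exact mul_left_cancel (mul_right_cancel h2)
        exact zG_ne_one e hk1 this
      · exact h
      · exfalso; rw [h] at hconj; exact not_conj_z_sr e hk1 hA hB i hconj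
      · exfalso
        rw [h] at hconj
        have h5 : toG e (sr i) * zG e = toG e (sr (i + half k)) := by
          unfold zG; rw [← toG_mul, sr_mul_zD]
        rw [h5] at hconj
        exact not_conj_z_sr e hk1 hA hB _ hconj
    have hgt : g * toG e (sr i) * g⁻¹ ∈ U := (hg _).mp htU
    -- centralizing criterion
    have hcent : ∀ c : G, c * zG e * c⁻¹ = zG e → c * toG e (sr i) * c⁻¹ = toG e (sr i) →
        c ∈ Subgroup.centralizer (U : Set G) := by
      intro c hcz hct
      rw [Subgroup.mem_centralizer_iff]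
      intro x hx
      have hz' : zG e * c = c * zG e := by
        have : c * zG e = (c * zG e * c⁻¹) * c := by group
        rw [this, hcz]
      have ht' : toG e (sr i) * c = c * toG e (sr i) := by
        have : c * toG e (sr i) = (c * toG e (sr i) * c⁻¹) * c := by group
        rw [this, hct]
      rcases hall x hx with h | h | h | h
      · rw [h, one_mul, mul_one]
      · rw [h]; exact hz'
      · rw [h]; exact ht'
      · rw [h, mul_assoc, hz', ← mul_assoc, ht', mul_assoc]
    rcases hall _ hgt with h | h | h | h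
    · exfalso
      have : toG e (sr i) = 1 := by
        have h2 : g * toG e (sr i) * g⁻¹ = g * 1 * g⁻¹ := by rw [h]; group
        exact mul_left_cancel (mul_right_cancel h2)
      exact sr_ne_one e i this
    · exfalso
      have : toG e (sr i) = zG e := by
        have h2 : g * toG e (sr i) * g⁻¹ = g * zG e * g⁻¹ := by rw [h, hgz]
        exact mul_left_cancel (mul_right_cancel h2)
      exact sr_ne_zG e i this
    · exact Subgroup.mem_sup_left (hcent g hgz h)
    · -- use the swapping rotation
      obtain ⟨w', hw1, hw2⟩ := exists_swap hk i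
      obtain ⟨w, hwdef⟩ : ∃ w, w = toG e w' := ⟨_, rfl⟩
      have hwP : w ∈ (P : Subgroup G) := by rw [hwdef]; exact toG_mem e w'
      have hwt : w * toG e (sr i) * w⁻¹ = toG e (sr i) * zG e := by
        rw [hwdef, ← toG_conj, hw1, toG_mul]; rfl
      have hwz : w * zG e * w⁻¹ = zG e := by
        rw [hwdef]; unfold zG; rw [← toG_conj, hw2]
      have hc : w⁻¹ * g ∈ Subgroup.centralizer (U : Set G) := by
        apply hcent
        · have : w⁻¹ * g * zG e * (w⁻¹ * g)⁻¹ = w⁻¹ * (g * zG e * g⁻¹) * w := by group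
          rw [this, hgz]
          have : w⁻¹ * zG e * w = w⁻¹ * (w * zG e * w⁻¹) * w := by rw [hwz]
          rw [this]; group
        · have : w⁻¹ * g * toG e (sr i) * (w⁻¹ * g)⁻¹ = w⁻¹ * (g * toG e (sr i) * g⁻¹) * w := by
            group
          rw [this, h, ← hwt]; group
      have hwN : w ∈ Subgroup.normalizer (U : Set G) := by
        have h1 : w = g * (w⁻¹ * g)⁻¹ := by group
        rw [h1]
        exact Subgroup.mul_mem _ hgN
          (Subgroup.inv_mem _ (Subgroup.centralizer_le_normalizer _ hc))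
      have h1 : g = w * (w⁻¹ * g) := by group
      rw [h1]
      exact Subgroup.mul_mem _ (Subgroup.mem_sup_right ⟨hwP, hwN⟩) (Subgroup.mem_sup_left hc)
  · exact sup_le (Subgroup.centralizer_le_normalizer _) inf_le_right

/-- The two standard reflections are not conjugate inside `P`. -/
theorem not_conj_in_P (hk : 1 ≤ k) (p : G) (hp : p ∈ (P : Subgroup G)) :
    p * toG e (sr 0) * p⁻¹ ≠ toG e (sr 1) := by
  intro h
  obtain ⟨d, rfl⟩ := exists_of_mem e hp
  rw [← toG_conj] at h
  have h1 := toG_injective e h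
  have h2 := congrArg (chi hk 1 0) h1
  rw [chi_conj, chi_sr, chi_sr, map_zero, map_one] at h2
  revert h2
  decide

/-- With a normal 2-complement the two standard reflections are not fused. -/
theorem not_conj_of_npc (hk : 1 ≤ k) (h : Cfsg.HasNormalPComplement 2 G) :
    ¬ IsConj (toG e (sr 0)) (toG e (sr 1)) := by
  have : Fact (Nat.Prime 2) := ⟨Nat.prime_two⟩
  intro hc
  obtain ⟨g, hg⟩ := isConj_iff.mp hc
  have hF := Cfsg.Agent.helper10.frobCond_of_npc h
  obtain ⟨u, hu, hux⟩ := Cfsg.Agent.lead.frob_control_fusion hF P (toG e (sr 0)) (toG_mem e _) g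
    (by rw [hg]; exact toG_mem e _)
  rw [hg] at hux
  exact not_conj_in_P e hk u hu hux

/-- No normal subgroup of index four when one reflection is fused to the centre. -/
theorem no_index_four (hk : 2 ≤ k) (u v : G)
    (huv : ∀ H : Subgroup G, u ∈ H → v ∈ H → (P : Subgroup G) ≤ H)
    (hu : u * u = 1) (hv : IsConj v (zG e)) (N : Subgroup G) [N.Normal] : N.index ≠ 4 := by
  have : Fact (Nat.Prime 2) := ⟨Nat.prime_two⟩
  intro h4
  have hcomm : ∀ x y : G ⧸ N, x * y = y * x := by
    have hc : IsMulCommutative (G ⧸ N) :=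
      IsPGroup.isMulCommutative_of_card_eq_prime_sq (p := 2) (by
        rw [← Subgroup.index_eq_card, h4]; norm_num)
    intro x y
    exact mul_comm' x y
  have hzN : zG e ∈ N := zG_mem_of_comm e hk N hcomm
  have hvN : v ∈ N := by
    obtain ⟨c, hc⟩ := isConj_iff.mp hv.symm
    rw [← hc]
    exact Subgroup.Normal.conj_mem inferInstance _ hzN c
  -- H = N ⊔ ⟨u⟩
  obtain ⟨H, hH⟩ : ∃ H : Subgroup G, H = Subgroup.zpowers u ⊔ N := ⟨_, rfl⟩
  have hNH : N ≤ H := by rw [hH]; exact le_sup_right
  have hPH : (P : Subgroup G) ≤ H :=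
    huv H (by rw [hH]; exact Subgroup.mem_sup_left (Subgroup.mem_zpowers u)) (hNH hvN)
  have hrel : N.relIndex H ∣ 2 := by
    rw [hH, Subgroup.relIndex_sup_right]
    have h1 : N.relIndex (Subgroup.zpowers u) ∣ Nat.card (Subgroup.zpowers u) :=
      Subgroup.index_dvd_card _
    have h2 : Nat.card (Subgroup.zpowers u) ∣ 2 := by
      rw [Nat.card_zpowers]
      apply orderOf_dvd_of_pow_eq_one
      rw [pow_two]; exact hu
    exact h1.trans h2
  have hmul : N.relIndex H * H.index = 4 := by
    rw [Subgroup.relIndex_mul_index hNH, h4]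
  have hodd : ¬ 2 ∣ H.index := by
    intro h2
    exact P.not_dvd_index (h2.trans (Subgroup.index_dvd_of_le hPH))
  have hle : N.relIndex H ≤ 2 := Nat.le_of_dvd (by norm_num) hrel
  have hpos : 0 < N.relIndex H := Nat.pos_of_dvd_of_pos hrel (by norm_num)
  interval_cases hr : N.relIndex H
  · rw [one_mul] at hmul
    rw [hmul] at hodd
    exact hodd (by norm_num)
  · have : H.index = 2 := by omega
    rw [this] at hodd
    exact hodd (dvd_refl 2)

end Cfsg.Agent.helper6.DihSyl
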