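import Mathlib
import Cfsg.Agent.Lib_helper6_DihSyl3
import Cfsg.Agent.Lib_helper10_Sylow
import Cfsg.Prelude.Def_TwoFusion

set_option autoImplicit false

namespace Cfsg.Agent.helper6.DihSyl

open DihedralGroup Cfsg.Agent.helper6.Dih Cfsg.Agent.helper6.TwoPow

/-- An automorphism of order 3 of a Klein four-group is transitive on non-identity elements. -/
theorem klein_aut3 {V : Type*} [Group V] [IsKleinFour V] (f : MulAut V)
    (h3 : ∀ c, f (f (f c)) = c) (hf : f ≠ 1) (x y : V) (hx : x ≠ 1) (hy : y ≠ 1) :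
    y = x ∨ y = f x ∨ y = f (f x) := by
  have hfix : ∀ b : V, b ≠ 1 → f b ≠ b := by
    intro b hb hfb
    apply hf
    ext c
    show f c = c
    by_cases hc1 : c = 1
    · rw [hc1, map_one]
    by_cases hcb : c = b
    · rw [hcb, hfb]
    by_contra hfc
    have hfc1 : f c ≠ 1 := fun h => hc1 (f.injective (h.trans (map_one f).symm))
    have hfcb : f c ≠ b := fun h => hcb (f.injective (h.trans hfb.symm))
    have h := IsKleinFour.eq_mul_of_ne_all hb hc1 (Ne.symm hcb) hfc1 hfcb hfc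
    have h1 : f (b * c) = c := by
      rw [map_mul, hfb, h, ← mul_assoc, IsKleinFour.mul_self, one_mul]
    have h2 := h3 c
    rw [h, h1] at h2
    exact hfc h2
  have hfx1 : f x ≠ 1 := fun h => hx (f.injective (h.trans (map_one f).symm))
  have hfxx : f x ≠ x := hfix x hx
  by_cases hyx : y = x
  · exact Or.inl hyx
  by_cases hyfx : y = f x
  · exact Or.inr (Or.inl hyfx)
  right; right
  have h1 := IsKleinFour.eq_mul_of_ne_all hx hfx1 (Ne.symm hfxx) hy hyx hyfx
  have hffx1 : f (f x) ≠ 1 := fun h => hfx1 (f.injective (h.trans (map_one f).symm))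
  have hffx2 : f (f x) ≠ x := by
    intro h
    have := h3 x
    rw [h] at this
    exact hfxx this
  have hffx3 : f (f x) ≠ f x := hfix (f x) hfx1
  have h2 := IsKleinFour.eq_mul_of_ne_all hx hfx1 (Ne.symm hfxx) hffx1 hffx2 hffx3
  rw [h1, h2]

/-- If `N_G(T)/C_G(T)` has order 3 for a Klein four-group `T`, then `N_G(T)` is transitive on the
involutions of `T`. -/
theorem klein_fusion3 {G : Type*} [Group G] [Finite G] (T : Subgroup G) (hT : IsKleinFour T)
    (h3 : (Subgroup.centralizer (T : Set G)).relIndex (Subgroup.normalizer (T : Set G)) = 3)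
    (t₁ t₂ : G) (h₁ : t₁ ∈ T) (h₂ : t₂ ∈ T) (h₁' : t₁ ≠ 1) (h₂' : t₂ ≠ 1) :
    ∃ g ∈ Subgroup.normalizer (T : Set G), g * t₁ * g⁻¹ = t₂ := by
  classical
  have hker := Subgroup.normalizerMonoidHom_ker (H := T)
  have hr : Nat.card T.normalizerMonoidHom.range = 3 := by
    rw [← Subgroup.index_ker, hker]; exact h3
  have hnt : T.normalizerMonoidHom.range ≠ ⊥ := by
    intro h
    rw [h, Subgroup.card_bot] at hr
    omega
  obtain ⟨f, hfR, hf1⟩ := (Subgroup.ne_bot_iff_exists_ne_one.mp hnt).imp (fun f hf => hf)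
    |> fun ⟨f, hf⟩ => (⟨(f : MulAut T), f.2, fun h => hf (Subtype.ext h)⟩ :
        ∃ f : MulAut T, f ∈ T.normalizerMonoidHom.range ∧ f ≠ 1)
  have hf3 : f ^ 3 = 1 := by
    have h := Subgroup.orderOf_dvd_natCard _ hfR
    rw [hr] at h
    exact orderOf_dvd_iff_pow_eq_one.mp h
  have hf3' : ∀ c, f (f (f c)) = c := by
    intro c
    have := congrArg (fun φ : MulAut T => φ c) hf3
    simpa [pow_succ, MulAut.mul_apply] using this
  have hx1 : (⟨t₁, h₁⟩ : T) ≠ 1 := fun h => h₁' (congrArg Subtype.val h)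
  have hx2 : (⟨t₂, h₂⟩ : T) ≠ 1 := fun h => h₂' (congrArg Subtype.val h)
  have key : ∃ φ ∈ T.normalizerMonoidHom.range, φ (⟨t₁, h₁⟩ : T) = ⟨t₂, h₂⟩ := by
    rcases klein_aut3 f hf3' hf1 _ _ hx1 hx2 with h | h | h
    · exact ⟨1, Subgroup.one_mem _, h.symm⟩
    · exact ⟨f, hfR, h.symm⟩
    · exact ⟨f * f, Subgroup.mul_mem _ hfR hfR, h.symm⟩
  obtain ⟨φ, ⟨g, hg⟩, hφ⟩ := key
  refine ⟨(g : G), g.2, ?_⟩
  have h9 := congrArg (fun ψ : MulAut T => ((ψ ⟨t₁, h₁⟩ : T) : G)) hg
  simp only [Subgroup.normalizerMonoidHom_apply_apply_coe] at h9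
  rw [h9, hφ]

variable {G : Type*} [Group G] [Finite G] {P : Sylow 2 G} {k : ℕ}
variable (e : ↥(P : Subgroup G) ≃* DihedralGroup (2 ^ k))

omit [Finite G] in
theorem orderOf_conj' (g t : G) : orderOf (g * t * g⁻¹) = orderOf t := by
  have := orderOf_injective (MulAut.conj g : G →* G) (MulAut.conj g).injective t
  simpa [MulAut.conj_apply] using this

/-- An involution of `P` conjugate to the central involution is the central involution, when
there is no fusion. -/
theorem eq_zG_of_conj (hk : 1 ≤ k) (hA : ¬ IsConj (toG e (sr 0)) (zG e))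
    (hB : ¬ IsConj (toG e (sr 1)) (zG e)) (t : G) (ht : t ∈ (P : Subgroup G))
    (hc : IsConj (zG e) t) : t = zG e := by
  have h2 : orderOf t = 2 := by
    obtain ⟨c, hc'⟩ := isConj_iff.mp hc
    rw [← hc', orderOf_conj', orderOf_zG e hk]
  rcases invol_cases_G e hk ht h2 with h | ⟨i, h⟩
  · exact h
  · exfalso
    rw [h] at hc
    exact not_conj_z_sr e hk hA hB i hc

/-- Without fusion the central involution is isolated. -/
theorem z_isolated (hk : 1 ≤ k) (hA : ¬ IsConj (toG e (sr 0)) (zG e))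
    (hB : ¬ IsConj (toG e (sr 1)) (zG e)) : Cfsg.IsIsolatedInvolution (zG e) := by
  have : Fact (Nat.Prime 2) := ⟨Nat.prime_two⟩
  refine ⟨orderOf_zG e hk, ?_⟩
  intro g hcomm
  by_contra hne
  have hzz : zG e * zG e = 1 := by
    rw [← pow_two, ← orderOf_zG e hk]; exact pow_orderOf_eq_one _
  have htt : (g * zG e * g⁻¹) * (g * zG e * g⁻¹) = 1 := by
    have : (g * zG e * g⁻¹) * (g * zG e * g⁻¹) = g * (zG e * zG e) * g⁻¹ := by group
    rw [this, hzz]; group
  have ht1 : g * zG e * g⁻¹ ≠ 1 := by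
    intro h
    have := orderOf_conj' g (zG e)
    rw [h, orderOf_one, orderOf_zG e hk] at this
    omega
  have hQ := Klein.isKleinFour_four hzz htt hcomm.eq (zG_ne_one e hk) ht1 (Ne.symm hne)
  have hQ2 : IsPGroup 2 (Klein.four (zG e) (g * zG e * g⁻¹) hzz htt hcomm.eq) :=
    IsPGroup.of_card (n := 2) (by rw [hQ.card_four]; norm_num)
  obtain ⟨h, hh⟩ := Cfsg.Agent.helper10.pgroup_conj_into_sylow P _ hQ2
  have h1 : h * zG e * h⁻¹ ∈ (P : Subgroup G) :=
    hh (Cfsg.Agent.helper10.conj_mem_map_conj _ h _ (Or.inr (Or.inl rfl)))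
  have h2 : h * (g * zG e * g⁻¹) * h⁻¹ ∈ (P : Subgroup G) :=
    hh (Cfsg.Agent.helper10.conj_mem_map_conj _ h _ (Or.inr (Or.inr (Or.inl rfl))))
  have h3 := eq_zG_of_conj e hk hA hB _ h1 (isConj_iff.mpr ⟨h, rfl⟩)
  have h4 := eq_zG_of_conj e hk hA hB _ h2 (isConj_iff.mpr ⟨h * g, by group⟩)
  apply hne
  have h5 : h * (g * zG e * g⁻¹) * h⁻¹ = h * zG e * h⁻¹ := h4.trans h3.symm
  exact mul_left_cancel (mul_right_cancel h5)

/-- No subgroup of index 2 and no isolated involution forces both reflections to fuse with the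
central involution. -/
theorem fusion_of_simple (hk1 : 1 ≤ k) (h2 : ∀ H : Subgroup G, H.index ≠ 2)
    (hiso : ∀ y : G, ¬ Cfsg.IsIsolatedInvolution y) :
    IsConj (toG e (sr 0)) (zG e) ∧ IsConj (toG e (sr 1)) (zG e) := by
  have heT : ∀ d, e ⟨toG e d, toG_mem e d⟩ = d := fun d => e.apply_symm_apply d
  by_cases hA : IsConj (toG e (sr 0)) (zG e) <;> by_cases hB : IsConj (toG e (sr 1)) (zG e)
  · exact ⟨hA, hB⟩
  · exfalso
    obtain ⟨M, -, hM2, -⟩ := exists_index_two e hk1 1 0 (Or.inl one_ne_zero) (toG e (sr 1))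
      (toG_mem e _) (orderOf_sr' e 1)
      (by
        rw [heT, chi_sr, map_one]
        decide)
      (by
        intro t ht ht2 hχ hbt
        rcases invol_cases_G e hk1 ht ht2 with h | ⟨i, h⟩
        · rw [h] at hbt; exact hB hbt
        · have : (⟨t, ht⟩ : ↥(P : Subgroup G)) = ⟨toG e (sr i), toG_mem e _⟩ := Subtype.ext h
          rw [this, heT, chi_sr, one_mul, add_zero] at hχ
          have hp : par k hk1 i = 0 := hχ
          obtain ⟨c, -, hc⟩ := (sr_isConj e hk1 i).1 hp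
          have h3 : IsConj (toG e (sr 0)) t := by rw [h]; exact isConj_iff.mpr ⟨c, hc⟩
          exact hB ((hbt.trans h3.symm).trans hA))
    exact h2 M hM2
  · exfalso
    obtain ⟨M, -, hM2, -⟩ := exists_index_two e hk1 1 1 (Or.inl one_ne_zero) (toG e (sr 0))
      (toG_mem e _) (orderOf_sr' e 0)
      (by
        rw [heT, chi_sr, map_zero]
        decide)
      (by
        intro t ht ht2 hχ hat
        rcases invol_cases_G e hk1 ht ht2 with h | ⟨i, h⟩
        · rw [h] at hat; exact hA hat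
        · have : (⟨t, ht⟩ : ↥(P : Subgroup G)) = ⟨toG e (sr i), toG_mem e _⟩ := Subtype.ext h
          rw [this, heT, chi_sr, one_mul] at hχ
          have hp : par k hk1 i = 1 := by
            have h0 : par k hk1 i + 1 = 0 := hχ
            rcases zmod2_cases (par k hk1 i) with h5 | h5
            · rw [h5] at h0; exact absurd h0 (by decide)
            · exact h5
          obtain ⟨c, -, hc⟩ := (sr_isConj e hk1 i).2 hp
          have h3 : IsConj (toG e (sr 1)) t := by rw [h]; exact isConj_iff.mpr ⟨c, hc⟩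
          exact hA ((hat.trans h3.symm).trans hB))
    exact h2 M hM2
  · exfalso
    exact hiso _ (z_isolated e hk1 hA hB)

/-- Full fusion excludes subgroups of index 2. -/
theorem no_index_two_of_fusion (hA : IsConj (toG e (sr 0)) (zG e))
    (hB : IsConj (toG e (sr 1)) (zG e)) (N : Subgroup G) : N.index ≠ 2 := by
  intro hN2
  have hN : N.Normal := Subgroup.normal_of_index_eq_two hN2
  obtain ⟨ca, hca⟩ := isConj_iff.mp hA
  obtain ⟨cb, hcb⟩ := isConj_iff.mp hB
  by_cases hz : zG e ∈ N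
  · have haN : toG e (sr 0) ∈ N := by
      have : toG e (sr 0) = ca⁻¹ * zG e * ca⁻¹⁻¹ := by rw [← hca]; group
      rw [this]; exact hN.conj_mem _ hz _
    have hbN : toG e (sr 1) ∈ N := by
      have : toG e (sr 1) = cb⁻¹ * zG e * cb⁻¹⁻¹ := by rw [← hcb]; group
      rw [this]; exact hN.conj_mem _ hz _
    have := Subgroup.index_dvd_of_le (le_of_mem e N haN hbN)
    rw [hN2] at this
    exact P.not_dvd_index this
  · have haN : toG e (sr 0) ∉ N := fun h => hz (hca ▸ hN.conj_mem _ h ca)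
    have hbN : toG e (sr 1) ∉ N := fun h => hz (hcb ▸ hN.conj_mem _ h cb)
    have hab : toG e (sr 0) * toG e (sr 1) ∈ N := by
      rw [Subgroup.mul_mem_iff_of_index_two hN2]
      exact ⟨fun h => absurd h haN, fun h => absurd h hbN⟩
    apply hz
    rw [zG_eq_pow]
    exact Subgroup.pow_mem _ hab _

/-- Full fusion makes all involutions conjugate. -/
theorem all_conj_of_fusion (hk1 : 1 ≤ k) (hA : IsConj (toG e (sr 0)) (zG e))
    (hB : IsConj (toG e (sr 1)) (zG e)) (x : G) (hx : orderOf x = 2) : IsConj x (zG e) := by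
  rcases invol_conj e hk1 x hx with h | h | h
  · exact h
  · exact h.trans hA
  · exact h.trans hB

/-- Full fusion excludes isolated involutions. -/
theorem no_isolated_of_fusion (hk1 : 1 ≤ k) (hA : IsConj (toG e (sr 0)) (zG e))
    (hB : IsConj (toG e (sr 1)) (zG e)) (y : G) : ¬ Cfsg.IsIsolatedInvolution y := by
  rintro ⟨hy2, hy⟩
  have hyz := all_conj_of_fusion e hk1 hA hB y hy2
  obtain ⟨c, hc⟩ := isConj_iff.mp hyz.symm
  obtain ⟨g, hg⟩ := isConj_iff.mp hA.symm
  -- `y = c z c⁻¹`, `a = g z g⁻¹`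
  have h1 : (c * g * c⁻¹) * y * (c * g * c⁻¹)⁻¹ = c * toG e (sr 0) * c⁻¹ := by
    rw [← hc, ← hg]; group
  have hcomm : Commute y ((c * g * c⁻¹) * y * (c * g * c⁻¹)⁻¹) := by
    rw [h1, ← hc]
    show c * zG e * c⁻¹ * (c * toG e (sr 0) * c⁻¹) = c * toG e (sr 0) * c⁻¹ * (c * zG e * c⁻¹)
    have h2 : zG e * toG e (sr 0) = toG e (sr 0) * zG e := zG_comm e hk1 (toG_mem e _)
    have h3 : c * zG e * c⁻¹ * (c * toG e (sr 0) * c⁻¹) = c * (zG e * toG e (sr 0)) * c⁻¹ := by
      group
    rw [h3, h2]; group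
  have h4 := hy _ hcomm
  rw [h1, ← hc] at h4
  exact sr_ne_zG e 0 (mul_left_cancel (mul_right_cancel h4))

/-- The normalizer condition on Klein four-subgroups forces fusion. -/
theorem fusion_of_relIndex (hk1 : 1 ≤ k)
    (h : ∀ U : Subgroup G, U ≤ (P : Subgroup G) → IsKleinFour U →
      (Subgroup.centralizer (U : Set G)).relIndex (Subgroup.normalizer (U : Set G)) = 3 ∨
      (Subgroup.centralizer (U : Set G)).relIndex (Subgroup.normalizer (U : Set G)) = 6) :
    IsConj (toG e (sr 0)) (zG e) ∧ IsConj (toG e (sr 1)) (zG e) := by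
  have hzz : zG e * zG e = 1 := by
    rw [← pow_two, ← orderOf_zG e hk1]; exact pow_orderOf_eq_one _
  have key : ∀ i, IsConj (toG e (sr i)) (zG e) := by
    intro i
    have hii : toG e (sr i) * toG e (sr i) = 1 := by
      rw [← toG_mul, sr_mul_self, toG_one]
    have hcomm : zG e * toG e (sr i) = toG e (sr i) * zG e := zG_comm e hk1 (toG_mem e _)
    have hU := Klein.isKleinFour_four hzz hii hcomm (zG_ne_one e hk1) (sr_ne_one e i)
      (Ne.symm (sr_ne_zG e i))
    have hUP : Klein.four (zG e) (toG e (sr i)) hzz hii hcomm ≤ (P : Subgroup G) := by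
      rintro x (rfl | rfl | rfl | rfl)
      · exact Subgroup.one_mem _
      · exact toG_mem e _
      · exact toG_mem e _
      · exact Subgroup.mul_mem _ (toG_mem e _) (toG_mem e _)
    have hz : zG e ∈ Klein.four (zG e) (toG e (sr i)) hzz hii hcomm := Or.inr (Or.inl rfl)
    have hs : toG e (sr i) ∈ Klein.four (zG e) (toG e (sr i)) hzz hii hcomm :=
      Or.inr (Or.inr (Or.inl rfl))
    rcases h _ hUP hU with h3 | h6
    · obtain ⟨g, -, hg⟩ := klein_fusion3 _ hU h3 _ _ hs hz (sr_ne_one e i) (zG_ne_one e hk1)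
      exact isConj_iff.mpr ⟨g, hg⟩
    · obtain ⟨g, -, hg⟩ := AutIdx.klein_fusion _ hU h6 _ _ hs hz (sr_ne_one e i) (zG_ne_one e hk1)
      exact isConj_iff.mpr ⟨g, hg⟩
  exact ⟨key 0, key 1⟩

end Cfsg.Agent.helper6.DihSyl
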