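import Mathlib
import Cfsg.Agent.Lib_helper6_AutIdx2
import Cfsg.Agent.Lib_helper6_DihSyl4
import Cfsg.Agent.Lib_helper11_DihPres
import Cfsg.Agent.Lib_helper19_Dihedral
import Cfsg.Agent.Lib_helper25_AutTwo
import Cfsg.Agent.Lib_helper11_A4S4

set_option autoImplicit false
set_option linter.unusedSectionVars false

namespace Cfsg.Agent.helper6.CycDih

/-- The automorphism group of a cyclic 2-group is a 2-group. -/
theorem isPGroup_mulAut_of_cyclic {S : Type*} [Group S] [Finite S] (hS : IsPGroup 2 S)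
    [IsCyclic S] : IsPGroup 2 (MulAut S) := by
  have : Fact (Nat.Prime 2) := ⟨Nat.prime_two⟩
  obtain ⟨a, ha⟩ := IsPGroup.iff_card.mp hS
  apply IsPGroup.of_equiv _ (IsCyclic.mulAutMulEquiv S).symm
  rw [ha]
  have : NeZero (2 ^ a) := ⟨by positivity⟩
  apply IsPGroup.of_card (n := a - 1)
  rw [Nat.card_eq_fintype_card, ZMod.card_units_eq_totient]
  rcases a with _ | a
  · simp
  · rw [Nat.totient_prime_pow Nat.prime_two (Nat.succ_pos a)]; simp

variable {H : Type*} [Group H] [Finite H]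

/-- If the automorphism group of a normal abelian Sylow 2-subgroup is a 2-group, the Sylow
subgroup is central. -/
theorem conj_trivial (S : Sylow 2 H) [hn : (S : Subgroup H).Normal]
    (hA : IsPGroup 2 (MulAut (S : Subgroup H)))
    (hab : ∀ a b : (S : Subgroup H), a * b = b * a) (x : H) (s : H) (hs : s ∈ (S : Subgroup H)) :
    x * s * x⁻¹ = s := by
  have : Fact (Nat.Prime 2) := ⟨Nat.prime_two⟩
  obtain ⟨φ, hφ⟩ : ∃ φ : H →* MulAut (S : Subgroup H), φ = MulAut.conjNormal := ⟨_, rfl⟩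
  have hker : ∀ t ∈ (S : Subgroup H), φ t = 1 := by
    intro t ht
    ext u
    rw [hφ]
    simp only [MulAut.conjNormal_apply, MulAut.one_apply]
    have := congrArg Subtype.val (hab ⟨t, ht⟩ u)
    simp only [Subgroup.coe_mul] at this
    rw [this, mul_inv_cancel_right]
  have hidx : x ^ (S : Subgroup H).index ∈ (S : Subgroup H) := by
    rw [← QuotientGroup.eq_one_iff, QuotientGroup.mk_pow, Subgroup.index_eq_card]
    exact pow_card_eq_one'
  have h1 : (φ x) ^ (S : Subgroup H).index = 1 := by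
    rw [← map_pow]; exact hker _ hidx
  obtain ⟨k, hk⟩ := hA (φ x)
  have h2 : orderOf (φ x) ∣ Nat.gcd ((S : Subgroup H).index) (2 ^ k) :=
    Nat.dvd_gcd (orderOf_dvd_of_pow_eq_one h1) (orderOf_dvd_of_pow_eq_one hk)
  have h3 : Nat.gcd ((S : Subgroup H).index) (2 ^ k) = 1 := by
    apply Nat.Coprime.pow_right
    rw [Nat.coprime_comm, Nat.Prime.coprime_iff_not_dvd Nat.prime_two]
    exact S.not_dvd_index
  rw [h3, Nat.dvd_one, orderOf_eq_one_iff] at h2
  have h4 := congrArg (fun ψ : MulAut (S : Subgroup H) => ((ψ ⟨s, hs⟩ : (S : Subgroup H)) : H)) h2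
  rw [hφ] at h4
  simpa [MulAut.conjNormal_apply] using h4

/-- A group with a normal cyclic Sylow 2-subgroup and cyclic quotient is cyclic. -/
theorem isCyclic_of_cyclic_sylow (S : Sylow 2 H) [hn : (S : Subgroup H).Normal]
    (hq : IsCyclic (H ⧸ (S : Subgroup H))) (hS : IsCyclic (S : Subgroup H)) : IsCyclic H := by
  have : Fact (Nat.Prime 2) := ⟨Nat.prime_two⟩
  have hA := isPGroup_mulAut_of_cyclic (S := (S : Subgroup H)) S.isPGroup'
  have hab : ∀ a b : (S : Subgroup H), a * b = b * a := by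
    intro a b
    obtain ⟨g, hg⟩ := IsCyclic.exists_generator (α := (S : Subgroup H))
    obtain ⟨i, rfl⟩ := hg a
    obtain ⟨j, rfl⟩ := hg b
    exact zpow_mul_comm g i j
  have hcent : (S : Subgroup H) ≤ Subgroup.center H := by
    intro s hs
    rw [Subgroup.mem_center_iff]
    intro x
    have := conj_trivial S hA hab x s hs
    calc x * s = x * s * x⁻¹ * x := by group
      _ = s * x := by rw [this]
  have hcomm : ∀ a b : H, a * b = b * a :=
    ((QuotientGroup.mk' (S : Subgroup H)).isMulCommutative_of_isCyclic_of_ker_le_center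
      (by rw [QuotientGroup.ker_mk']; exact hcent)).is_comm.comm
  -- generators
  obtain ⟨s, hs⟩ := IsCyclic.exists_generator (α := (S : Subgroup H))
  obtain ⟨q, hq'⟩ := IsCyclic.exists_generator (α := H ⧸ (S : Subgroup H))
  obtain ⟨t, rfl⟩ := QuotientGroup.mk_surjective q
  have hos : orderOf (s : H) = Nat.card (S : Subgroup H) := by
    rw [Subgroup.orderOf_coe]
    exact orderOf_eq_card_of_forall_mem_zpowers hs
  have hoq : orderOf (t : H ⧸ (S : Subgroup H)) = (S : Subgroup H).index := by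
    rw [Subgroup.index_eq_card]
    exact orderOf_eq_card_of_forall_mem_zpowers hq'
  have hdvd : (S : Subgroup H).index ∣ orderOf t := by
    rw [← hoq]
    exact orderOf_map_dvd (QuotientGroup.mk' (S : Subgroup H)) t
  obtain ⟨c, hc⟩ := hdvd
  have hidx0 : (S : Subgroup H).index ≠ 0 := Subgroup.index_ne_zero_of_finite
  have hc0 : c ≠ 0 := by
    rintro rfl
    rw [mul_zero] at hc
    exact (orderOf_pos t).ne' hc
  have hot' : orderOf (t ^ c) = (S : Subgroup H).index := by
    rw [orderOf_pow_of_dvd hc0 ⟨_, by rw [hc, mul_comm]⟩, hc, Nat.mul_div_cancel _ (Nat.pos_of_ne_zero hc0)]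
  apply isCyclic_of_orderOf_eq_card ((s : H) * t ^ c)
  rw [(show Commute (s : H) (t ^ c) from hcomm _ _).orderOf_mul_eq_mul_orderOf_of_coprime
    (by rw [hos, hot']; exact S.card_coprime_index), hos, hot']
  exact Subgroup.card_mul_index _

open DihedralGroup in
/-- Subgroups of a dihedral 2-group are cyclic or dihedral. -/
theorem subgroup_dihedral (n : ℕ) (T : Subgroup (DihedralGroup (2 ^ n))) :
    IsCyclic T ∨ ∃ j, 1 ≤ j ∧ Nonempty (T ≃* DihedralGroup (2 ^ j)) := by
  classical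
  have : NeZero (2 ^ n) := ⟨by positivity⟩
  have : Fact (Nat.Prime 2) := ⟨Nat.prime_two⟩
  by_cases hT : IsCyclic T
  · exact Or.inl hT
  right
  obtain ⟨b, hb⟩ := Cfsg.Agent.helper19.exists_sr_mem_of_not_isCyclic T hT
  have hRcyc : IsCyclic ↥(T ⊓ Subgroup.zpowers (r (1 : ZMod (2 ^ n)))) :=
    Subgroup.isCyclic_of_le inf_le_right
  obtain ⟨⟨x, hxT, hxR⟩, hgen⟩ :=
    IsCyclic.exists_generator (α := ↥(T ⊓ Subgroup.zpowers (r (1 : ZMod (2 ^ n)))))
  obtain ⟨a, rfl⟩ : ∃ a, x = r a := by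
    obtain ⟨z, rfl⟩ := Subgroup.mem_zpowers_iff.mp hxR
    exact ⟨_, r_one_zpow z⟩
  have hrot : ∀ i, r i ∈ T → r i ∈ Subgroup.zpowers (r a) := by
    intro i hi
    have hmem : r i ∈ T ⊓ Subgroup.zpowers (r (1 : ZMod (2 ^ n))) :=
      ⟨hi, Subgroup.mem_zpowers_iff.2 ⟨(i.cast : ℤ), by rw [r_one_zpow, ZMod.intCast_zmod_cast]⟩⟩
    obtain ⟨z, hz⟩ := hgen ⟨r i, hmem⟩
    refine ⟨z, ?_⟩
    have := congrArg Subtype.val hz
    simpa using this
  obtain ⟨j, hj⟩ : ∃ j, orderOf (r a) = 2 ^ j := by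
    have h1 : orderOf (r a) ∣ Nat.card (DihedralGroup (2 ^ n)) := orderOf_dvd_natCard _
    rw [DihedralGroup.nat_card, ← pow_succ'] at h1
    obtain ⟨j, -, hj⟩ := (Nat.dvd_prime_pow Nat.prime_two).mp h1
    exact ⟨j, hj⟩
  have hx : (r a) ^ (2 ^ j) = 1 := by rw [← hj]; exact pow_orderOf_eq_one _
  have hy : sr b * sr b = (1 : DihedralGroup (2 ^ n)) := sr_mul_self b
  have hxy : sr b * r a * (sr b)⁻¹ = (r a)⁻¹ := by
    rw [inv_sr, sr_mul_r, sr_mul_sr, inv_r]; congr 1; ring
  have hyx : sr b ∉ Subgroup.zpowers (r a) := by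
    rintro ⟨z, hz⟩
    simp only [r_zpow] at hz
    cases hz
  have : NeZero (2 ^ j) := ⟨by positivity⟩
  obtain ⟨ψ, hψ⟩ : ∃ ψ : DihedralGroup (2 ^ j) →* DihedralGroup (2 ^ n),
      ψ = Cfsg.Agent.helper11.DihPres.dihHom (n := 2 ^ j) (r a) (sr b) hx hy hxy := ⟨_, rfl⟩
  have hψr : ∀ i, ψ (r i) = (r a) ^ i.val := by
    intro i; rw [hψ]; rfl
  have hψsr : ∀ i, ψ (sr i) = sr b * (r a) ^ i.val := by
    intro i; rw [hψ]; rfl
  have hinj : Function.Injective ψ := by
    rw [hψ]
    exact Cfsg.Agent.helper11.DihPres.dihHom_injective hx hj hy hxy hyx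
  have hxr : r a ∈ ψ.range :=
    ⟨r 1, by rw [hψr, ZMod.val_one_eq_one_mod, ← hj, pow_mod_orderOf, pow_one]⟩
  have hbr : sr b ∈ ψ.range := ⟨sr 0, by rw [hψsr, ZMod.val_zero, pow_zero, mul_one]⟩
  have hrange : ψ.range = T := by
    apply le_antisymm
    · rintro _ ⟨u, rfl⟩
      rcases u with i | i
      · rw [hψr]; exact T.pow_mem hxT _
      · rw [hψsr]; exact T.mul_mem hb (T.pow_mem hxT _)
    · intro g hg
      rcases g with i | i
      · exact (Subgroup.zpowers_le.mpr hxr) (hrot i hg)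
      · have h1 : sr b * sr i ∈ T := T.mul_mem hb hg
        rw [sr_mul_sr] at h1
        have h2 : r (i - b) ∈ ψ.range := (Subgroup.zpowers_le.mpr hxr) (hrot _ h1)
        have h3 : sr i = sr b * r (i - b) := by rw [sr_mul_r]; congr 1; ring
        rw [h3]
        exact Subgroup.mul_mem _ hbr h2
  have eT : T ≃* DihedralGroup (2 ^ j) :=
    (MulEquiv.subgroupCongr hrange.symm).trans (MonoidHom.ofInjective hinj).symm
  refine ⟨j, ?_, ⟨eT⟩⟩
  by_contra hj0
  have hj0' : j = 0 := by omega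
  apply hT
  apply isCyclic_of_prime_card (p := 2)
  rw [Nat.card_congr eT.toEquiv, DihedralGroup.nat_card, hj0']
  norm_num

/-- Elements of odd order act trivially on a normal subgroup whose automorphism group is a
2-group. -/
theorem centralizes_of_odd (S : Subgroup H) [hn : S.Normal] (hA : IsPGroup 2 (MulAut S))
    (x : H) (hx : Odd (orderOf x)) (s : H) (hs : s ∈ S) : x * s * x⁻¹ = s := by
  obtain ⟨k, hk⟩ := hA (MulAut.conjNormal (H := S) x)
  have h1 : orderOf (MulAut.conjNormal (H := S) x) ∣ orderOf x := orderOf_map_dvd _ x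
  have h2 : orderOf (MulAut.conjNormal (H := S) x) ∣ 2 ^ k := orderOf_dvd_of_pow_eq_one hk
  have h3 : Nat.Coprime (orderOf x) (2 ^ k) := by
    apply Nat.Coprime.pow_right
    rw [Nat.coprime_comm, Nat.Prime.coprime_iff_not_dvd Nat.prime_two]
    intro h
    exact (Nat.not_even_iff_odd.mpr hx) (even_iff_two_dvd.mpr h)
  have h4 : orderOf (MulAut.conjNormal (H := S) x) ∣ 1 := by
    rw [← h3]; exact Nat.dvd_gcd h1 h2
  rw [Nat.dvd_one, orderOf_eq_one_iff] at h4
  have h5 := congrArg (fun ψ : MulAut S => ((ψ ⟨s, hs⟩ : S) : H)) h4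
  simpa [MulAut.conjNormal_apply] using h5

/-- A normal dihedral Sylow 2-subgroup of order at least 8 whose centralizer has no elements of
odd order is the whole group. -/
theorem eq_top_of_dihedral_sylow (S : Sylow 2 H) [hn : (S : Subgroup H).Normal] (j : ℕ)
    (hj : 2 ≤ j) (eS : (S : Subgroup H) ≃* DihedralGroup (2 ^ j))
    (hC : ∀ x : H, Odd (orderOf x) → (∀ s ∈ (S : Subgroup H), x * s = s * x) → x = 1) :
    (S : Subgroup H) = ⊤ := by
  have : Fact (Nat.Prime 2) := ⟨Nat.prime_two⟩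
  have hA : IsPGroup 2 (MulAut (S : Subgroup H)) :=
    (Cfsg.Agent.helper25.isPGroup_mulAut_dihedral j hj).of_equiv (MulAut.congr eS).symm
  by_contra hne
  have hidx : (S : Subgroup H).index ≠ 1 := fun h => hne (Subgroup.index_eq_one.mp h)
  obtain ⟨q, hq, hqd⟩ := Nat.exists_prime_and_dvd hidx
  have hq2 : q ≠ 2 := by
    rintro rfl
    exact S.not_dvd_index hqd
  have : Fact q.Prime := ⟨hq⟩
  obtain ⟨x, hx⟩ := exists_prime_orderOf_dvd_card' (G := H) q
    (hqd.trans (Subgroup.index_dvd_card _))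
  have hodd : Odd (orderOf x) := by rw [hx]; exact hq.odd_of_ne_two hq2
  have h1 := hC x hodd (by
    intro s hs
    have := centralizes_of_odd (S : Subgroup H) hA x hodd s hs
    calc x * s = x * s * x⁻¹ * x := by group
      _ = s * x := by rw [this])
  rw [h1, orderOf_one] at hx
  exact hq.one_lt.ne hx

theorem card_A4 : Nat.card (alternatingGroup (Fin 4)) = 12 := by
  rw [Nat.card_eq_fintype_card]
  decide

/-- A normal Klein four Sylow 2-subgroup whose centralizer has no elements of odd order: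
the group is the Klein four-group or the alternating group of degree 4. -/
theorem klein_sylow_cases (S : Sylow 2 H) [hn : (S : Subgroup H).Normal]
    (hK : IsKleinFour (S : Subgroup H))
    (hC : ∀ x : H, Odd (orderOf x) → (∀ s ∈ (S : Subgroup H), x * s = s * x) → x = 1) :
    (S : Subgroup H) = ⊤ ∨ Nonempty (H ≃* alternatingGroup (Fin 4)) := by
  classical
  have : Fact (Nat.Prime 2) := ⟨Nat.prime_two⟩
  have hcomm := Klein.comm_of_klein hK
  have hsq := Klein.sq_of_klein hK
  have hoddidx : Odd (S : Subgroup H).index := by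
    rw [← Nat.not_even_iff_odd, even_iff_two_dvd]
    exact S.not_dvd_index
  obtain ⟨φ, hφ⟩ : ∃ φ : H →* MulAut (S : Subgroup H), φ = MulAut.conjNormal := ⟨_, rfl⟩
  have hφc : ∀ x : H, φ x = 1 ↔ ∀ s ∈ (S : Subgroup H), x * s = s * x := by
    intro x
    constructor
    · intro h s hs
      have h5 := congrArg (fun ψ : MulAut (S : Subgroup H) => ((ψ ⟨s, hs⟩ : (S : Subgroup H)) : H)) h
      rw [hφ] at h5
      simp only [MulAut.conjNormal_apply, MulAut.one_apply] at h5
      calc x * s = x * s * x⁻¹ * x := by group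
        _ = s * x := by rw [h5]
    · intro h
      ext u
      rw [hφ]
      simp only [MulAut.conjNormal_apply, MulAut.one_apply]
      rw [h _ u.2, mul_inv_cancel_right]
  have hker : φ.ker = (S : Subgroup H) := by
    apply le_antisymm
    · intro x hx
      rw [MonoidHom.mem_ker, hφc] at hx
      obtain ⟨k, m, hm, hkm⟩ := Nat.exists_eq_two_pow_mul_odd (orderOf_pos x).ne'
      have h1 : orderOf (x ^ (2 ^ k)) = m := by
        rw [orderOf_pow_of_dvd (by positivity) ⟨m, hkm⟩, hkm,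
          Nat.mul_div_cancel_left _ (by positivity)]
      have h2 : x ^ (2 ^ k) = 1 := by
        apply hC _ (by rw [h1]; exact hm)
        intro s hs
        exact (Commute.pow_left (hx s hs) _).eq
      exact AutIdx.mem_of_odd_index (S : Subgroup H) hoddidx x k h2
    · intro x hx
      rw [MonoidHom.mem_ker, hφc]
      intro s hs
      exact hcomm x hx s hs
  have hidx : (S : Subgroup H).index = 1 ∨ (S : Subgroup H).index = 3 := by
    have h1 : (S : Subgroup H).index ∣ 6 := by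
      rw [← hker, Subgroup.index_ker]
      exact (Subgroup.card_subgroup_dvd_card _).trans (AutIdx.card_mulAut_klein_dvd _)
    have hle : (S : Subgroup H).index ≤ 6 := Nat.le_of_dvd (by norm_num) h1
    obtain ⟨c, hc⟩ := hoddidx
    interval_cases h : (S : Subgroup H).index <;> omega
  rcases hidx with h1 | h3
  · exact Or.inl (Subgroup.index_eq_one.mp h1)
  right
  have hcard : Nat.card H = 12 := by
    rw [← Subgroup.card_mul_index (S : Subgroup H), hK.card_four, h3]
  have : Fact (Nat.Prime 3) := ⟨Nat.prime_three⟩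
  obtain ⟨x₀, hx₀⟩ := exists_prime_orderOf_dvd_card' (G := H) 3 (by rw [hcard]; norm_num)
  have hx₀3 : x₀ ^ 3 = 1 := by rw [← hx₀]; exact pow_orderOf_eq_one _
  have hx₀S : x₀ ∉ (S : Subgroup H) := by
    intro h
    have := Subgroup.orderOf_dvd_natCard _ h
    rw [hx₀, hK.card_four] at this
    omega
  have hf1 : φ x₀ ≠ 1 := by
    intro h
    apply hx₀S
    rw [← hker]; exact h
  have hf3 : ∀ c, φ x₀ (φ x₀ (φ x₀ c)) = c := by
    intro c
    have h1 : φ x₀ ^ 3 = 1 := by rw [← map_pow, hx₀3, map_one]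
    have := congrArg (fun ψ : MulAut (S : Subgroup H) => ψ c) h1
    simpa [pow_succ, MulAut.mul_apply] using this
  -- two distinct non-identity elements
  obtain ⟨u, v, hu, hv, huv⟩ : ∃ u v : (S : Subgroup H), u ≠ 1 ∧ v ≠ 1 ∧ u ≠ v := by
    have : Finite (S : Subgroup H) := inferInstance
    have h2 : 2 < Nat.card (S : Subgroup H) := by rw [hK.card_four]; norm_num
    have := Fintype.ofFinite (S : Subgroup H)
    rw [Nat.card_eq_fintype_card, Fintype.two_lt_card_iff] at h2
    obtain ⟨a, b, c, hab, hac, hbc⟩ := h2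
    by_cases ha : a = 1
    · exact ⟨b, c, fun h => hab (ha.trans h.symm), fun h => hac (ha.trans h.symm), hbc⟩
    · by_cases hb : b = 1
      · exact ⟨a, c, ha, fun h => hbc (hb.trans h.symm), hac⟩
      · exact ⟨a, b, ha, hb, hab⟩
  have hw : u * φ x₀ u * φ x₀ (φ x₀ u) = 1 := by
    by_contra hw
    have hfw : φ x₀ (u * φ x₀ u * φ x₀ (φ x₀ u)) = u * φ x₀ u * φ x₀ (φ x₀ u) := by
      rw [map_mul, map_mul, hf3]
      have hc' : ∀ a b : (S : Subgroup H), a * b = b * a := fun a b =>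
        Subtype.ext (hcomm a a.2 b b.2)
      rw [hc' (φ x₀ u * φ x₀ (φ x₀ u)) u, mul_assoc]
    have key : ∀ y : (S : Subgroup H), y ≠ 1 → y = u * φ x₀ u * φ x₀ (φ x₀ u) := by
      intro y hy
      rcases DihSyl.klein_aut3 (φ x₀) hf3 hf1 _ y hw hy with h | h | h
      · exact h
      · rw [h, hfw]
      · rw [h, hfw, hfw]
    exact huv ((key u hu).trans (key v hv).symm)
  have hw' := congrArg (fun y : (S : Subgroup H) => (y : H)) hw
  rw [hφ] at hw'
  simp only [Subgroup.coe_mul, MulAut.conjNormal_apply, Subgroup.coe_one] at hw'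
  have hu1 : (u : H) ≠ 1 := fun h => hu (Subtype.ext h)
  have hu2 : (u : H) ^ 2 = 1 := by rw [pow_two]; exact hsq _ u.2
  have h01 : (x₀ * (u : H)) ^ 3 = 1 := by
    have hx₀3' : x₀ * x₀ * x₀ = 1 := by rw [← hx₀3, pow_succ, pow_two]
    have h4 : (x₀ * (u : H)) ^ 3
        = (x₀ * u * x₀⁻¹) * (x₀ * (x₀ * u * x₀⁻¹) * x₀⁻¹) * (x₀ * x₀ * x₀) * u := by
      rw [pow_succ, pow_two]
      group
    rw [h4, hx₀3', mul_one]
    have h5 : (x₀ * (u : H) * x₀⁻¹) * (x₀ * (x₀ * u * x₀⁻¹) * x₀⁻¹) * u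
        = (u : H)⁻¹ * ((u : H) * (x₀ * u * x₀⁻¹) * (x₀ * (x₀ * u * x₀⁻¹) * x₀⁻¹)) * u := by group
    rw [h5, hw']; group
  obtain ⟨ψ, hψ⟩ := Cfsg.Agent.helper11.A4S4.exists_injective_A4 x₀ (u : H) hx₀3 hu2 h01 hu1
  have hbij : Function.Bijective ψ :=
    (Nat.bijective_iff_injective_and_card ψ).mpr ⟨hψ, by rw [card_A4, hcard]⟩
  exact ⟨(MulEquiv.ofBijective ψ hbij).symm⟩

end Cfsg.Agent.helper6.CycDih
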