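import Mathlib
import Cfsg.Agent.Lib_helper6_AutIdx2
import Cfsg.Agent.Lib_helper6_CycDih

set_option autoImplicit false
set_option linter.unusedSectionVars false

namespace Cfsg.Agent.helper6.Q8Aut

open QuaternionGroup

/-- The candidate endomorphism of `Q₈` determined by the images of the generators. -/
def F (p q : QuaternionGroup 2) : QuaternionGroup 2 → QuaternionGroup 2
  | a i => p ^ i.val
  | xa i => q * p ^ i.val

theorem F_key : ∀ p q : QuaternionGroup 2,
    (∀ g h, F p q (g * h) = F p q g * F p q h) →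
    (∀ g, F p q (F p q (F p q g)) = g) → (∃ g, F p q g ≠ g) →
    ∀ u v : QuaternionGroup 2, u ^ 2 ≠ 1 → v ^ 2 ≠ 1 →
      (v = u ∨ v = u⁻¹ ∨ v = F p q u ∨ v = (F p q u)⁻¹ ∨ v = F p q (F p q u) ∨
        v = (F p q (F p q u))⁻¹) := by
  decide

theorem aut_eq_F (f : MulAut (QuaternionGroup 2)) (g : QuaternionGroup 2) :
    f g = F (f (a 1)) (f (xa 0)) g := by
  rcases g with i | i
  · show f (a i) = f (a 1) ^ i.val
    rw [← map_pow, a_one_pow, ZMod.natCast_zmod_val]
  · show f (xa i) = f (xa 0) * f (a 1) ^ i.val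
    rw [← map_pow, ← map_mul, a_one_pow, ZMod.natCast_zmod_val, xa_mul_a, zero_add]

theorem odd_dvd_24 (d : ℕ) (h24 : d ∣ 24) (hodd : Odd d) : d ∣ 3 := by
  have hle : d ≤ 24 := Nat.le_of_dvd (by norm_num) h24
  interval_cases d <;> simp_all (config := {decide := true})

/-- A non-trivial automorphism of odd order of `Q₈` permutes the three cyclic subgroups of
order 4 transitively. -/
theorem aut_trans (f : MulAut (QuaternionGroup 2)) (n : ℕ) (hn : Odd n) (hfn : f ^ n = 1)
    (hf : f ≠ 1) (u v : QuaternionGroup 2) (hu : u ^ 2 ≠ 1) (hv : v ^ 2 ≠ 1) :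
    v = u ∨ v = u⁻¹ ∨ v = f u ∨ v = (f u)⁻¹ ∨ v = f (f u) ∨ v = (f (f u))⁻¹ := by
  have h3 : f ^ 3 = 1 := by
    apply orderOf_dvd_iff_pow_eq_one.mp
    have h1 : orderOf f ∣ 24 :=
      (orderOf_dvd_natCard f).trans AutIdx.card_mulAut_Q8_dvd
    have h2 : orderOf f ∣ n := orderOf_dvd_of_pow_eq_one hfn
    exact odd_dvd_24 _ h1 (hn.of_dvd_nat h2)
  have hF : ∀ g, f g = F (f (a 1)) (f (xa 0)) g := aut_eq_F f
  have key := F_key (f (a 1)) (f (xa 0))
    (by intro g h; rw [← hF, ← hF, ← hF, map_mul])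
    (by
      intro g
      rw [← hF, ← hF, ← hF]
      have := congrArg (fun φ : MulAut (QuaternionGroup 2) => φ g) h3
      simpa [pow_succ, MulAut.mul_apply] using this)
    (by
      by_contra hall
      push Not at hall
      apply hf
      ext g
      rw [hF, hall]; rfl)
    u v hu hv
  rw [← hF, ← hF] at key
  exact key

/-- The same for any group isomorphic to `Q₈`. -/
theorem aut_trans' {T : Type*} [Group T] (e : T ≃* QuaternionGroup 2) (f : MulAut T) (n : ℕ)
    (hn : Odd n) (hfn : f ^ n = 1) (hf : f ≠ 1) (u v : T) (hu : u ^ 2 ≠ 1) (hv : v ^ 2 ≠ 1) :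
    v = u ∨ v = u⁻¹ ∨ v = f u ∨ v = (f u)⁻¹ ∨ v = f (f u) ∨ v = (f (f u))⁻¹ := by
  have hfn' : (MulAut.congr e f) ^ n = 1 := by rw [← map_pow, hfn, map_one]
  have hf' : MulAut.congr e f ≠ 1 := by
    intro h
    apply hf
    have := (MulAut.congr e).injective (h.trans (map_one (MulAut.congr e)).symm)
    exact this
  have hu' : (e u) ^ 2 ≠ 1 := by
    rw [← map_pow]; intro h; exact hu (e.injective (h.trans (map_one e).symm))
  have hv' : (e v) ^ 2 ≠ 1 := by
    rw [← map_pow]; intro h; exact hv (e.injective (h.trans (map_one e).symm))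
  have key := aut_trans (MulAut.congr e f) n hn hfn' hf' (e u) (e v) hu' hv'
  have hc : ∀ t, MulAut.congr e f (e t) = e (f t) := by
    intro t
    simp [MulAut.congr]
  rw [hc, hc] at key
  rcases key with h | h | h | h | h | h
  · exact Or.inl (e.injective h)
  · exact Or.inr (Or.inl (e.injective (by rw [h, map_inv])))
  · exact Or.inr (Or.inr (Or.inl (e.injective h)))
  · exact Or.inr (Or.inr (Or.inr (Or.inl (e.injective (by rw [h, map_inv])))))
  · exact Or.inr (Or.inr (Or.inr (Or.inr (Or.inl (e.injective h)))))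
  · exact Or.inr (Or.inr (Or.inr (Or.inr (Or.inr (e.injective (by rw [h, map_inv]))))))

theorem q8_pow_four : ∀ g : QuaternionGroup 2, g ^ 4 = 1 := by decide

theorem q8_invol : ∀ g : QuaternionGroup 2, g ^ 2 = 1 → g = 1 ∨ g = a 2 := by decide

section structure_facts

variable {T : Type*} [Group T] (e : T ≃* QuaternionGroup 2)

include e in
theorem pow_four (t : T) : t ^ 4 = 1 := by
  apply e.injective
  rw [map_pow, map_one]
  exact q8_pow_four _

include e in
theorem invol_cases (t : T) (ht : t ^ 2 = 1) : t = 1 ∨ t = e.symm (a 2) := by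
  have h1 : (e t) ^ 2 = 1 := by rw [← map_pow, ht, map_one]
  rcases q8_invol _ h1 with h | h
  · left; exact e.injective (h.trans (map_one e).symm)
  · right; rw [← h, e.symm_apply_apply]

include e in
/-- A subgroup of order 4 contains an element of order 4. -/
theorem exists_order_four (Q : Subgroup T) (h4 : Nat.card Q = 4) :
    ∃ u ∈ Q, u ^ 2 ≠ 1 ∧ orderOf u = 4 := by
  by_contra hno
  push Not at hno
  have hall : ∀ u ∈ Q, u ^ 2 = 1 := by
    intro u hu
    by_contra h2
    apply hno u hu h2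
    have := orderOf_eq_prime_pow (p := 2) (n := 1) (x := u) (by rwa [pow_one])
      (by norm_num; exact pow_four e u)
    simpa using this
  have hsub : (Q : Set T) ⊆ {1, e.symm (a 2)} := by
    intro u hu
    rcases invol_cases e u (hall u hu) with h | h
    · left; exact h
    · right; exact h
  have h1 : Nat.card Q ≤ 2 := by
    have h0 : Nat.card Q = (Q : Set T).ncard := Nat.card_coe_set_eq _
    rw [h0]
    calc (Q : Set T).ncard ≤ ({1, e.symm (a 2)} : Set T).ncard :=
          Set.ncard_le_ncard hsub (Set.toFinite _)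
      _ ≤ ({e.symm (a 2)} : Set T).ncard + 1 := Set.ncard_insert_le _ _
      _ = 2 := by rw [Set.ncard_singleton]
  omega

include e in
/-- Subgroups of order dividing 4 are cyclic. -/
theorem isCyclic_of_card_dvd (Q : Subgroup T) (hQ : Nat.card Q ∣ 4) : IsCyclic Q := by
  have : Fact (Nat.Prime 2) := ⟨Nat.prime_two⟩
  have hT : Finite T := Finite.of_injective e e.injective
  have hle : Nat.card Q ≤ 4 := Nat.le_of_dvd (by norm_num) hQ
  have hpos : 0 < Nat.card Q := Nat.card_pos
  have h3 : Nat.card Q ≠ 3 := by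
    intro h; rw [h] at hQ; omega
  have hc : Nat.card Q = 1 ∨ Nat.card Q = 2 ∨ Nat.card Q = 4 := by omega
  rcases hc with h | h | h
  · have : Subsingleton Q := (Nat.card_eq_one_iff_unique.mp h).1
    infer_instance
  · exact isCyclic_of_prime_card (p := 2) h
  · obtain ⟨u, hu, -, hu4⟩ := exists_order_four e Q h
    apply isCyclic_of_orderOf_eq_card (⟨u, hu⟩ : Q)
    rw [Subgroup.orderOf_mk, hu4, h]

end structure_facts

/-- An element of odd order normalizing a subgroup with a 2-group of automorphisms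
centralizes it. -/
theorem mem_centralizer_of_odd {G : Type*} [Group G] (Q : Subgroup G)
    (hA : IsPGroup 2 (MulAut Q)) (g : G) (hg : g ∈ Subgroup.normalizer (Q : Set G))
    (hodd : Odd (orderOf g)) : g ∈ Subgroup.centralizer (Q : Set G) := by
  obtain ⟨k, hk⟩ := hA (Q.normalizerMonoidHom ⟨g, hg⟩)
  have h1 : orderOf (Q.normalizerMonoidHom ⟨g, hg⟩) ∣ orderOf g := by
    have := orderOf_map_dvd Q.normalizerMonoidHom (⟨g, hg⟩ : Subgroup.normalizer (Q : Set G))
    rwa [Subgroup.orderOf_mk] at this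
  have h2 : orderOf (Q.normalizerMonoidHom ⟨g, hg⟩) ∣ 2 ^ k := orderOf_dvd_of_pow_eq_one hk
  have h3 : Nat.Coprime (orderOf g) (2 ^ k) := by
    apply Nat.Coprime.pow_right
    rw [Nat.coprime_comm, Nat.Prime.coprime_iff_not_dvd Nat.prime_two]
    intro h
    exact (Nat.not_even_iff_odd.mpr hodd) (even_iff_two_dvd.mpr h)
  have h4 : orderOf (Q.normalizerMonoidHom ⟨g, hg⟩) ∣ 1 := by
    rw [← h3]; exact Nat.dvd_gcd h1 h2
  rw [Nat.dvd_one, orderOf_eq_one_iff] at h4
  have h5 : (⟨g, hg⟩ : Subgroup.normalizer (Q : Set G)) ∈ Q.normalizerMonoidHom.ker := h4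
  rw [Subgroup.normalizerMonoidHom_ker, Subgroup.mem_subgroupOf] at h5
  exact h5

section main

variable {G : Type*} [Group G] [Finite G] (S : Sylow 2 G)
  (e : (S : Subgroup G) ≃* QuaternionGroup 2)

include e in
/-- A subgroup of order 4 of `S` is generated by an element of order 4. -/
theorem eq_zpowers (A : Subgroup G) (hA : A ≤ S) (hA4 : Nat.card A = 4) :
    ∃ u : (S : Subgroup G), u ^ 2 ≠ 1 ∧ A = Subgroup.zpowers (u : G) := by
  have hc : Nat.card (A.subgroupOf (S : Subgroup G)) = 4 := by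
    rw [Nat.card_congr (Subgroup.subgroupOfEquivOfLe hA).toEquiv, hA4]
  obtain ⟨u, hu, hu2, hu4⟩ := exists_order_four e _ hc
  refine ⟨u, hu2, ?_⟩
  symm
  apply Subgroup.eq_of_le_of_card_ge
  · rw [Subgroup.zpowers_le]
    exact Subgroup.mem_subgroupOf.mp hu
  · rw [hA4, Nat.card_zpowers, Subgroup.orderOf_coe, hu4]

include e in
/-- If some element of odd order normalizes but does not centralize a subgroup of `S ≅ Q₈`,
then any two subgroups of order 4 of `S` are conjugate in `N(S)`. -/
theorem q8_sylow_conj (Q : Subgroup G) (hQ : Q ≤ S) (g : G)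
    (hg : g ∈ Subgroup.normalizer (Q : Set G)) (hodd : Odd (orderOf g))
    (hgc : g ∉ Subgroup.centralizer (Q : Set G))
    (A B : Subgroup G) (hA : A ≤ S) (hB : B ≤ S) (hA4 : Nat.card A = 4) (hB4 : Nat.card B = 4) :
    ∃ n ∈ Subgroup.normalizer ((S : Subgroup G) : Set G),
      B = A.map (MulAut.conj n).toMonoidHom := by
  have : Fact (Nat.Prime 2) := ⟨Nat.prime_two⟩
  have hS8 : Nat.card (S : Subgroup G) = 8 := by
    rw [Nat.card_congr e.toEquiv, Nat.card_eq_fintype_card, QuaternionGroup.card]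
  -- `Q = S`
  have hQS : Q = (S : Subgroup G) := by
    by_contra hne
    apply hgc
    have hQ2 : IsPGroup 2 Q := S.isPGroup'.to_le hQ
    have hcard : Nat.card Q ∣ 4 := by
      obtain ⟨k, hk⟩ := IsPGroup.iff_card.mp hQ2
      have hd : Nat.card Q ∣ 8 := hS8 ▸ Subgroup.card_dvd_of_le hQ
      have hne8 : Nat.card Q ≠ 8 := by
        intro h8
        exact hne (Subgroup.eq_of_le_of_card_ge hQ (by rw [hS8, h8]))
      rw [hk] at hd hne8 ⊢
      have hk3 : k ≤ 3 := by
        by_contra hk3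
        push Not at hk3
        have : 2 ^ 4 ≤ 2 ^ k := Nat.pow_le_pow_right (by norm_num) hk3
        have := Nat.le_of_dvd (by norm_num) hd
        omega
      have hk2 : k ≤ 2 := by
        rcases Nat.lt_or_ge k 3 with h | h
        · omega
        · exfalso; apply hne8
          have : k = 3 := by omega
          rw [this]; norm_num
      exact (Nat.pow_dvd_pow 2 hk2)
    have hcyc1 : IsCyclic (Q.subgroupOf (S : Subgroup G)) :=
      isCyclic_of_card_dvd e _ (by
        rw [Nat.card_congr (Subgroup.subgroupOfEquivOfLe hQ).toEquiv]; exact hcard)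
    have hcyc : IsCyclic Q :=
      isCyclic_of_surjective (Subgroup.subgroupOfEquivOfLe hQ)
        (Subgroup.subgroupOfEquivOfLe hQ).surjective
    exact mem_centralizer_of_odd Q (CycDih.isPGroup_mulAut_of_cyclic hQ2) g hg hodd
  subst hQS
  -- the automorphism
  obtain ⟨φ, hφ⟩ : ∃ φ : MulAut (S : Subgroup G),
      φ = (S : Subgroup G).normalizerMonoidHom ⟨g, hg⟩ := ⟨_, rfl⟩
  have hφ1 : φ ≠ 1 := by
    intro h
    apply hgc
    have h5 : (⟨g, hg⟩ : Subgroup.normalizer ((S : Subgroup G) : Set G))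
        ∈ (S : Subgroup G).normalizerMonoidHom.ker := by
      rw [MonoidHom.mem_ker, ← hφ, h]
    rw [Subgroup.normalizerMonoidHom_ker, Subgroup.mem_subgroupOf] at h5
    exact h5
  have hφn : φ ^ orderOf g = 1 := by
    rw [hφ, ← map_pow]
    have : (⟨g, hg⟩ : Subgroup.normalizer ((S : Subgroup G) : Set G)) ^ orderOf g = 1 := by
      apply Subtype.ext
      simp [pow_orderOf_eq_one]
    rw [this, map_one]
  have hφc : ∀ t : (S : Subgroup G), ((φ t : (S : Subgroup G)) : G) = g * t * g⁻¹ := by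
    intro t
    rw [hφ]
    exact Subgroup.normalizerMonoidHom_apply_apply_coe _ _ _
  obtain ⟨u, hu2, hAu⟩ := eq_zpowers S e A hA hA4
  obtain ⟨v, hv2, hBv⟩ := eq_zpowers S e B hB hB4
  have hgg : g * g ∈ Subgroup.normalizer ((S : Subgroup G) : Set G) := Subgroup.mul_mem _ hg hg
  -- general step
  have step : ∀ n : G, ((v : G) = n * u * n⁻¹ ∨ (v : G) = (n * u * n⁻¹)⁻¹) →
      B = A.map (MulAut.conj n).toMonoidHom := by
    intro n hn
    rw [hAu, hBv, MonoidHom.map_zpowers]
    simp only [MulEquiv.coe_toMonoidHom, MulAut.conj_apply]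
    rcases hn with h | h
    · rw [h]
    · rw [h, Subgroup.zpowers_inv]
  rcases aut_trans' e φ (orderOf g) hodd hφn hφ1 u v hu2 hv2 with h | h | h | h | h | h
  · refine ⟨1, Subgroup.one_mem _, step 1 (Or.inl ?_)⟩
    rw [h]; group
  · refine ⟨1, Subgroup.one_mem _, step 1 (Or.inr ?_)⟩
    rw [h]; simp
  · refine ⟨g, hg, step g (Or.inl ?_)⟩
    rw [h, hφc]
  · refine ⟨g, hg, step g (Or.inr ?_)⟩
    rw [h, Subgroup.coe_inv, hφc]
  · refine ⟨g * g, hgg, step (g * g) (Or.inl ?_)⟩
    rw [h, hφc, hφc]; group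
  · refine ⟨g * g, hgg, step (g * g) (Or.inr ?_)⟩
    rw [h, Subgroup.coe_inv, hφc, hφc]; group

end main

end Cfsg.Agent.helper6.Q8Aut
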