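import Mathlib
import Cfsg.Agent.Lib_helper12_Q8b
import Cfsg.Agent.S0950

set_option autoImplicit false

/-!
Brauer–Suzuki for `Q₈` (helper12): the dichotomy (normal complement or fusion of the elements of
order 4) and the centralizer of an element of order 4.
-/

namespace Cfsg.Agent.helper12

open Cfsg

universe u

section Q8Group2

variable {G : Type u} [Group G] [Finite G] {S : Sylow 2 G} {w z : G}

omit [Finite G] in
theorem q8_card_zpowers (hq : Q8Data (S : Subgroup G) w z) {x : G} (hx : x ∈ S)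
    (h2 : x ^ 2 ≠ 1) : Nat.card (Subgroup.zpowers x) = 4 := by
  rw [Nat.card_zpowers, q8_order_four hq hx h2]

/-- the dichotomy -/
theorem q8_dichotomy (hq : Q8Data (S : Subgroup G) w z)
    (e : (S : Subgroup G) ≃* QuaternionGroup 2) :
    (∃ N : Subgroup G, N.Normal ∧ Subgroup.IsComplement' N (S : Subgroup G)) ∨ Q8Fused S := by
  by_cases hc : ∃ N : Subgroup G, N.Normal ∧ Subgroup.IsComplement' N (S : Subgroup G)
  · left; exact hc
  · right
    have hnc : ∀ N : Subgroup G, N.Normal → ¬ Subgroup.IsComplement' N (S : Subgroup G) :=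
      fun N hN h => hc ⟨N, hN, h⟩
    intro x hx y hy hx2 hy2
    have hAle : Subgroup.zpowers x ≤ (S : Subgroup G) := (Subgroup.zpowers_le).mpr hx
    have hBle : Subgroup.zpowers y ≤ (S : Subgroup G) := (Subgroup.zpowers_le).mpr hy
    obtain ⟨n, hn, hB⟩ := Cfsg.Agent.S0950.result S e hnc (Subgroup.zpowers x)
      (Subgroup.zpowers y) hAle hBle (q8_card_zpowers hq hx hx2) (q8_card_zpowers hq hy hy2)
    have hx'S : n * x * n⁻¹ ∈ (S : Subgroup G) := (Subgroup.mem_normalizer_iff.mp hn x).mp hx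
    have hx'mem : n * x * n⁻¹ ∈ Subgroup.zpowers y := by
      rw [hB]
      exact ⟨x, Subgroup.mem_zpowers x, by simp [MulAut.conj_apply]⟩
    have hcomm : y * (n * x * n⁻¹) = (n * x * n⁻¹) * y := by
      obtain ⟨k, hk⟩ := Subgroup.mem_zpowers_iff.mp hx'mem
      rw [← hk]
      exact ((Commute.refl y).zpow_right k).eq
    have hx'2 : (n * x * n⁻¹) ^ 2 ≠ 1 := by
      intro h
      have h1 := orderOf_dvd_of_pow_eq_one h
      rw [bs_orderOf_conj, q8_order_four hq hx hx2] at h1
      omega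
    have hy4 : y ^ 4 = 1 := by
      have := pow_orderOf_eq_one y
      rwa [q8_order_four hq hy hy2] at this
    rcases hq.cent y hy _ hx'S hy2 hcomm with h | h | h | h
    · exfalso; apply hx'2; rw [h, one_pow]
    · exact ⟨n, h⟩
    · exfalso; apply hx'2; rw [h, ← pow_mul]; exact hy4
    · obtain ⟨t, ht, hty⟩ := hq.inv_conj y hy
      refine ⟨t⁻¹ * n, ?_⟩
      have h3 : y ^ 3 = y⁻¹ := by
        rw [eq_inv_iff_mul_eq_one, ← pow_succ]; exact hy4
      have h4 : (t⁻¹ * n) * x * (t⁻¹ * n)⁻¹ = t⁻¹ * (n * x * n⁻¹) * t := by group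
      rw [h4, h, h3, ← hty]
      group

/-- the centralizer of `w` has a cyclic Sylow 2-subgroup of order 4 and a normal 2-complement -/
theorem q8_cent_w (hq : Q8Data (S : Subgroup G) w z) :
    (Nat.card (Subgroup.centralizer ({w} : Set G))).factorization 2 = 2 ∧
    ∃ k : ℕ, (pPrimeCore 2 (Subgroup.centralizer ({w} : Set G))).index = 2 ^ k := by
  classical
  haveI : Fact (Nat.Prime 2) := ⟨Nat.prime_two⟩
  obtain ⟨C, hC⟩ : ∃ C : Subgroup G, C = Subgroup.centralizer ({w} : Set G) := ⟨_, rfl⟩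
  rw [← hC]
  have hmemC : ∀ x : G, x ∈ C ↔ w * x = x * w := by
    intro x
    rw [hC, Subgroup.mem_centralizer_iff]
    constructor
    · intro h; exact h w rfl
    · intro h y hy
      rw [Set.mem_singleton_iff.mp hy]; exact h
  have hwC : w ∈ C := (hmemC w).mpr rfl
  let wC : C := ⟨w, hwC⟩
  have howC : orderOf wC = 4 := by
    rw [← Subgroup.orderOf_coe]; exact q8_order_w hq
  have hpg : IsPGroup 2 (Subgroup.zpowers wC) := by
    apply IsPGroup.of_card (n := 2)
    rw [Nat.card_zpowers, howC]; norm_num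
  obtain ⟨T, hT⟩ := hpg.exists_le_sylow
  have hwT : wC ∈ (T : Subgroup C) := hT (Subgroup.mem_zpowers wC)
  have hT' : IsPGroup 2 ((T : Subgroup C).map C.subtype) := T.2.map _
  obtain ⟨g, hg⟩ := bs_pgroup_conj_into_sylow S _ hT'
  have hw'S : g * w * g⁻¹ ∈ (S : Subgroup G) := hg _ ⟨wC, hwT, rfl⟩
  have hw'2 : (g * w * g⁻¹) ^ 2 ≠ 1 := by
    intro h
    have h1 := orderOf_dvd_of_pow_eq_one h
    rw [bs_orderOf_conj, q8_order_w hq] at h1
    omega
  have hTle : ∀ t : C, t ∈ (T : Subgroup C) → t ∈ Subgroup.zpowers wC := by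
    intro t ht
    have htS : g * (t : G) * g⁻¹ ∈ (S : Subgroup G) := hg _ ⟨t, ht, rfl⟩
    have htw : w * (t : G) = (t : G) * w := (hmemC _).mp t.2
    have hcomm : (g * w * g⁻¹) * (g * (t : G) * g⁻¹) = (g * (t : G) * g⁻¹) * (g * w * g⁻¹) := by
      have e1 : (g * w * g⁻¹) * (g * (t : G) * g⁻¹) = g * (w * (t : G)) * g⁻¹ := by group
      have e2 : (g * (t : G) * g⁻¹) * (g * w * g⁻¹) = g * ((t : G) * w) * g⁻¹ := by group
      rw [e1, e2, htw]
    have hpow : ∀ k : ℕ, (g * w * g⁻¹) ^ k = g * w ^ k * g⁻¹ := fun k => conj_pow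
    have hfin : ∀ k : ℕ, g * (t : G) * g⁻¹ = g * w ^ k * g⁻¹ → t ∈ Subgroup.zpowers wC := by
      intro k hk
      have h1 : (t : G) = w ^ k := mul_left_cancel (mul_right_cancel hk)
      have h2 : t = wC ^ k := Subtype.ext (by rw [h1]; rfl)
      rw [h2]
      exact Subgroup.pow_mem _ (Subgroup.mem_zpowers wC) k
    rcases hq.cent _ hw'S _ htS hw'2 hcomm with h | h | h | h
    · apply hfin 0; rw [h]; simp
    · apply hfin 1; rw [h]; simp
    · apply hfin 2; rw [h, hpow]
    · apply hfin 3; rw [h, hpow]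
  have hTeq : (T : Subgroup C) = Subgroup.zpowers wC := le_antisymm hTle hT
  have hcardT : Nat.card (T : Subgroup C) = 4 := by
    rw [hTeq, Nat.card_zpowers, howC]
  have hfac : (Nat.card C).factorization 2 = 2 := by
    have h1 := T.card_eq_multiplicity
    rw [hcardT] at h1
    have h2 : (2 : ℕ) ^ 2 = 2 ^ (Nat.card C).factorization 2 := by rw [← h1]; norm_num
    exact (Nat.pow_right_injective (le_refl 2) h2).symm
  refine ⟨hfac, ?_⟩
  have hcyc : IsCyclic (T : Subgroup C) := by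
    refine ⟨⟨⟨wC, hwT⟩, fun t => ?_⟩⟩
    obtain ⟨k, hk⟩ := Subgroup.mem_zpowers_iff.mp (hTle t.1 t.2)
    refine ⟨k, ?_⟩
    apply Subtype.ext
    rw [← hk]
    rfl
  have h2dvd : 2 ∣ Nat.card C := by
    have := orderOf_dvd_natCard wC
    rw [howC] at this
    exact (by norm_num : 2 ∣ 4).trans this
  have hp : (Nat.card C).minFac = 2 := (Nat.minFac_eq_two_iff _).mpr h2dvd
  have hNC := IsCyclic.normalizer_le_centralizer hp (P := T) hcyc
  have hcomp := MonoidHom.ker_transferSylow_isComplement' T hNC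
  have hodd : ¬ 2 ∣ Nat.card (MonoidHom.transferSylow T hNC).ker :=
    MonoidHom.not_dvd_card_ker_transferSylow T hNC
  have hle : (MonoidHom.transferSylow T hNC).ker ≤ pPrimeCore 2 C := by
    apply le_sSup
    refine ⟨inferInstance, ?_⟩
    exact ((Nat.Prime.coprime_iff_not_dvd Nat.prime_two).mpr hodd).symm
  have hidx : (MonoidHom.transferSylow T hNC).ker.index = 4 := by
    rw [hcomp.symm.index_eq_card, hcardT]
  have hdvd : (pPrimeCore 2 C).index ∣ 2 ^ 2 := by
    have := Subgroup.index_dvd_of_le hle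
    rw [hidx] at this
    exact this
  obtain ⟨k, -, hk⟩ := (Nat.dvd_prime_pow Nat.prime_two).mp hdvd
  exact ⟨k, hk⟩

end Q8Group2

end Cfsg.Agent.helper12
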