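import Mathlib
import Cfsg.Agent.Lib_helper12_Q8c
import Cfsg.Agent.Lib_helper12_CharOps

set_option autoImplicit false

/-!
Brauer–Suzuki for `Q₈` (helper12): values of characters on the Sylow 2-subgroup in the fused case.
-/

namespace Cfsg.Agent.helper12

open Cfsg

open scoped ComplexConjugate

universe u

theorem q8_sum_zpowers_four {G : Type u} [Group G] (w : G) (hw : orderOf w = 4)
    [Fintype (Subgroup.zpowers w)] (F : Subgroup.zpowers w → ℂ) :
    ∑ s, F s = F 1 + F ⟨w, Subgroup.mem_zpowers w⟩ + F (⟨w, Subgroup.mem_zpowers w⟩ ^ 2)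
      + F (⟨w, Subgroup.mem_zpowers w⟩ ^ 3) := by
  have hfin : IsOfFinOrder w := orderOf_pos_iff.mp (by rw [hw]; norm_num)
  have h1 : ∑ s : Subgroup.zpowers w, F s = ∑ i : Fin (orderOf w), F (finEquivZPowers hfin i) :=
    (Equiv.sum_comp (finEquivZPowers hfin) F).symm
  have h2 : ∑ i : Fin (orderOf w), F (finEquivZPowers hfin i) =
      ∑ i : Fin (orderOf w), F ((⟨w, Subgroup.mem_zpowers w⟩ : Subgroup.zpowers w) ^ (i : ℕ)) := by
    apply Finset.sum_congr rfl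
    intro i _
    congr 1
  have h3 : ∑ i : Fin (orderOf w), F ((⟨w, Subgroup.mem_zpowers w⟩ : Subgroup.zpowers w) ^ (i : ℕ))
      = ∑ i ∈ Finset.range (orderOf w),
        F ((⟨w, Subgroup.mem_zpowers w⟩ : Subgroup.zpowers w) ^ i) :=
    Fin.sum_univ_eq_sum_range
      (fun i => F ((⟨w, Subgroup.mem_zpowers w⟩ : Subgroup.zpowers w) ^ i)) (orderOf w)
  rw [h1, h2, h3, hw, Finset.sum_range_succ, Finset.sum_range_succ, Finset.sum_range_succ,
    Finset.sum_range_one, pow_zero, pow_one]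

section Q8Char

variable {G : Type u} [Group G] [Finite G] {S : Sylow 2 G} {w z : G}

/-- a class function takes the same value on all elements of order 4 of `S` -/
theorem q8_fused_value (hq : Q8Data (S : Subgroup G) w z) (hF : Q8Fused S) {χ : G → ℂ}
    (hχ : IsCharacter G χ) {x : G} (hx : x ∈ S) (h2 : x ^ 2 ≠ 1) : χ x = χ w := by
  obtain ⟨g, hg⟩ := hF x hx w hq.w_mem h2 (q8_w_sq_ne hq)
  rw [← hg]
  exact (helper24.char_isClassFunction hχ x g).symm

theorem q8_char_values (hq : Q8Data (S : Subgroup G) w z) (hF : Q8Fused S) {χ : G → ℂ}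
    (hχ : IsCharacter G χ) :
    ∃ N₁ N₂ N₃ : ℕ, χ 1 + χ z + 6 * χ w = 8 * (N₁ : ℂ) ∧ χ 1 + χ z + 2 * χ w = 4 * (N₂ : ℂ) ∧
      χ 1 - χ z = 4 * (N₃ : ℂ) := by
  classical
  have how := q8_order_w hq
  have hw4 : w ^ 4 = 1 := by rw [← how]; exact pow_orderOf_eq_one w
  -- restriction to S
  letI : Fintype (S : Subgroup G) := Fintype.ofFinite _
  obtain ⟨N₁, hN₁⟩ := classInner_char_nat (isCharacter_restrict (S : Subgroup G) hχ)
    (isCharacter_of_monoidHom (1 : (S : Subgroup G) →* ℂ))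
  have hsumS := hq.sum χ (χ w) (fun x hx h2 => q8_fused_value hq hF hχ hx h2)
  have e1 : χ 1 + χ z + 6 * χ w = 8 * (N₁ : ℂ) := by
    rw [← hN₁]
    unfold classInner
    have hc : (Nat.card (S : Subgroup G) : ℂ) = 8 := by rw [hq.card]; norm_num
    rw [hc]
    simp only [MonoidHom.one_apply, map_one, mul_one]
    rw [hsumS]
    ring
  -- restriction to ⟨w⟩
  letI : Fintype (Subgroup.zpowers w) := Fintype.ofFinite _
  have hcH : (Nat.card (Subgroup.zpowers w) : ℂ) = 4 := by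
    rw [Nat.card_zpowers, how]; norm_num
  have hw2 : χ (w ^ 2) = χ z := by rw [hq.w_sq]
  have hw3 : χ (w ^ 3) = χ w := by
    apply q8_fused_value hq hF hχ (Subgroup.pow_mem _ hq.w_mem 3)
    intro h
    have h6 : w ^ 6 = 1 := by rw [← h, ← pow_mul]
    have h2 : w ^ 2 = 1 := by
      have : w ^ 6 = w ^ 4 * w ^ 2 := by rw [← pow_add]
      rw [this, hw4, one_mul] at h6
      exact h6
    exact q8_w_sq_ne hq h2
  obtain ⟨N₂, hN₂⟩ := classInner_char_nat (isCharacter_restrict (Subgroup.zpowers w) hχ)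
    (isCharacter_of_monoidHom (1 : (Subgroup.zpowers w) →* ℂ))
  have e2 : χ 1 + χ z + 2 * χ w = 4 * (N₂ : ℂ) := by
    rw [← hN₂]
    unfold classInner
    rw [hcH, q8_sum_zpowers_four w how]
    simp only [MonoidHom.one_apply, map_one, mul_one, Subgroup.coe_one, Subgroup.coe_pow]
    rw [hw2, hw3]
    ring
  -- the faithful linear character of ⟨w⟩
  obtain ⟨gw, hgw⟩ : ∃ gw : Subgroup.zpowers w, gw = ⟨w, Subgroup.mem_zpowers w⟩ := ⟨_, rfl⟩
  have hgwG : (gw : G) = w := by rw [hgw]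
  have hgen : ∀ x : Subgroup.zpowers w, x ∈ Subgroup.zpowers gw := by
    intro x
    obtain ⟨k, hk⟩ := Subgroup.mem_zpowers_iff.mp x.2
    rw [Subgroup.mem_zpowers_iff]
    refine ⟨k, ?_⟩
    ext
    simpa [hgwG] using hk
  have hogw : orderOf gw = 4 := by
    rw [← how, ← Subgroup.orderOf_coe, hgwG]
  have hιdvd : orderOf bsI ∣ orderOf gw := by rw [bsI_order, hogw]
  let lam : Subgroup.zpowers w →* ℂˣ := monoidHomOfForallMemZpowers hgen hιdvd
  have hlam : lam gw = bsI := monoidHomOfForallMemZpowers_apply_gen hgen hιdvd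
  let f : Subgroup.zpowers w →* ℂ := (Units.coeHom ℂ).comp lam
  have hf1 : f gw = Complex.I := by
    show ((lam gw : ℂˣ) : ℂ) = Complex.I
    rw [hlam]; rfl
  have hfk : ∀ k : ℕ, f (gw ^ k) = Complex.I ^ k := by
    intro k
    rw [map_pow, hf1]
  obtain ⟨N₃, hN₃⟩ := classInner_char_nat (isCharacter_restrict (Subgroup.zpowers w) hχ)
    (isCharacter_of_monoidHom f)
  have e3 : χ 1 - χ z = 4 * (N₃ : ℂ) := by
    rw [← hN₃]
    unfold classInner
    rw [hcH, q8_sum_zpowers_four w how, ← hgw]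
    have hg2 : f (gw ^ 2) = -1 := by rw [hfk, Complex.I_sq]
    have hg3 : f (gw ^ 3) = -Complex.I := by
      rw [hfk]
      have : Complex.I ^ 3 = Complex.I ^ 2 * Complex.I := by ring
      rw [this, Complex.I_sq]; ring
    beta_reduce
    rw [map_one, hf1, hg2, hg3]
    simp only [Subgroup.coe_one, Subgroup.coe_pow, map_one, map_neg, Complex.conj_I, hgwG]
    rw [hw2, hw3]
    ring
  exact ⟨N₁, N₂, N₃, e1, e2, e3⟩

/-- integrality and congruences of the values -/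
theorem q8_char_int (hq : Q8Data (S : Subgroup G) w z) (hF : Q8Fused S) {χ : G → ℂ}
    (hχ : IsCharacter G χ) :
    ∃ bI aI : ℤ, χ w = (bI : ℂ) ∧ χ z = (aI : ℂ) ∧
      (8 : ℤ) ∣ (charDegree χ : ℤ) + aI - 2 * bI ∧ (4 : ℤ) ∣ (charDegree χ : ℤ) - aI ∧
      aI ≤ (charDegree χ : ℤ) := by
  obtain ⟨N₁, N₂, N₃, e1, e2, e3⟩ := q8_char_values hq hF hχ
  have hd := helper24.char_charDegree_cast hχ
  have hb' : χ w = 2 * (N₁ : ℂ) - N₂ := by
    linear_combination (1 / 4 : ℂ) * e1 - (1 / 4 : ℂ) * e2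
  have ha' : χ z = 2 * (N₂ : ℂ) - (2 * (N₁ : ℂ) - N₂) - 2 * N₃ := by
    linear_combination (1 / 2 : ℂ) * e2 - (1 / 2 : ℂ) * e3 - hb'
  have hd' : (charDegree χ : ℂ) = 2 * (N₂ : ℂ) + 2 * N₃ - (2 * (N₁ : ℂ) - N₂) := by
    rw [hd]
    linear_combination (1 / 2 : ℂ) * e2 + (1 / 2 : ℂ) * e3 - hb'
  have hb : χ w = ((2 * (N₁ : ℤ) - N₂ : ℤ) : ℂ) := by
    push_cast
    exact hb'
  have ha : χ z = ((2 * (N₂ : ℤ) - (2 * (N₁ : ℤ) - N₂) - 2 * N₃ : ℤ) : ℂ) := by
    push_cast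
    exact ha'
  have hdI : (charDegree χ : ℤ) = 2 * (N₂ : ℤ) + 2 * N₃ - (2 * (N₁ : ℤ) - N₂) := by
    have h1 : ((charDegree χ : ℤ) : ℂ) = ((2 * (N₂ : ℤ) + 2 * N₃ - (2 * (N₁ : ℤ) - N₂) : ℤ) : ℂ) := by
      push_cast
      exact hd'
    exact_mod_cast h1
  refine ⟨2 * (N₁ : ℤ) - N₂, 2 * (N₂ : ℤ) - (2 * (N₁ : ℤ) - N₂) - 2 * N₃, hb, ha, ?_, ?_, ?_⟩
  · rw [hdI]
    exact ⟨(N₂ : ℤ) - N₁, by ring⟩
  · rw [hdI]
    exact ⟨(N₃ : ℤ), by ring⟩
  · rw [hdI]
    have : (0 : ℤ) ≤ N₃ := Int.natCast_nonneg N₃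
    linarith

end Q8Char

end Cfsg.Agent.helper12
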