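import Mathlib
import Cfsg.Prelude.Def_Characters
import Cfsg.Agent.Lib_helper23_Schur

set_option autoImplicit false

namespace Cfsg.Agent.helper23

open Representation

section
variable {G : Type*} [Group G] [Fintype G] {n : ℕ} (ρ : Representation ℂ G (Fin n → ℂ))

/-- The class-sum operator `∑ g, ρ (g x g⁻¹)` of an irreducible representation is the scalar
`|G| χ(x) / n`. -/
theorem class_sum_scalar (hρ : ρ.IsIrreducible) (x : G) :
    ∑ g : G, ρ (g * x * g⁻¹) =
      ((Nat.card G : ℂ) * ρ.character x / n) • (LinearMap.id : (Fin n → ℂ) →ₗ[ℂ] (Fin n → ℂ)) := by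
  have hn : 0 < n := pos_of_irreducible ρ hρ
  have hn' : (n : ℂ) ≠ 0 := by exact_mod_cast hn.ne'
  obtain ⟨c, hc⟩ := schur_scalar ρ hρ (∑ g : G, ρ (g * x * g⁻¹)) (by
    intro k
    rw [← Module.End.mul_eq_comp, ← Module.End.mul_eq_comp, Finset.sum_mul, Finset.mul_sum]
    apply Fintype.sum_equiv (Equiv.mulLeft k⁻¹)
    intro g
    rw [← map_mul, ← map_mul]
    congr 1
    simp only [Equiv.coe_mulLeft]
    group)
  rw [hc]
  congr 1
  have htr := congrArg (LinearMap.trace ℂ (Fin n → ℂ)) hc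
  rw [map_sum, map_smul, LinearMap.trace_id, Module.finrank_fin_fun] at htr
  have h2 : ∀ g : G, LinearMap.trace ℂ (Fin n → ℂ) (ρ (g * x * g⁻¹)) = ρ.character x := by
    intro g
    exact Representation.char_conj ρ x g
  simp_rw [h2] at htr
  rw [Finset.sum_const, Finset.card_univ, smul_eq_mul, nsmul_eq_mul, Fintype.card_eq_nat_card]
    at htr
  field_simp
  rw [htr]

/-- Generalized orthogonality relation in class-sum form. -/
theorem sum_char_conj_mul (hρ : ρ.IsIrreducible) (x w : G) :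
    ∑ g : G, ρ.character (g * x * g⁻¹ * w) =
      (Nat.card G : ℂ) * ρ.character x * ρ.character w / n := by
  have h := class_sum_scalar ρ hρ x
  have h2 := congrArg (fun T => LinearMap.trace ℂ (Fin n → ℂ) (T * ρ w)) h
  simp only [Finset.sum_mul, map_sum] at h2
  have h3 : ∀ g : G, LinearMap.trace ℂ (Fin n → ℂ) (ρ (g * x * g⁻¹) * ρ w) =
      ρ.character (g * x * g⁻¹ * w) := by
    intro g
    have h5 : ρ (g * x * g⁻¹ * w) = ρ (g * x * g⁻¹) * ρ w := map_mul ρ _ _
    unfold Representation.character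
    rw [h5]
  simp_rw [h3] at h2
  rw [h2]
  have h4 : ((Nat.card G : ℂ) * ρ.character x / n) • (LinearMap.id : (Fin n → ℂ) →ₗ[ℂ] (Fin n → ℂ))
      * ρ w = ((Nat.card G : ℂ) * ρ.character x / n) • ρ w := by
    ext v i
    simp
  rw [h4, map_smul, smul_eq_mul]
  unfold Representation.character
  ring

end

/-- Generalized orthogonality for irreducible characters:
`∑ g, χ (g x g⁻¹ w) = |G| χ(x) χ(w) / χ(1)`. -/
theorem irr_sum_conj_mul {G : Type*} [Group G] [Fintype G] (χ : Cfsg.IrrCharacter G) (x w : G) :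
    ∑ g : G, (χ : G → ℂ) (g * x * g⁻¹ * w) =
      (Nat.card G : ℂ) * (χ : G → ℂ) x * (χ : G → ℂ) w / (χ : G → ℂ) 1 := by
  obtain ⟨n, ρ, hρ, hχ⟩ := χ.2
  rw [← hχ, sum_char_conj_mul ρ hρ x w, Representation.char_one, Module.finrank_fin_fun]

end Cfsg.Agent.helper23
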