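import Mathlib

set_option autoImplicit false

namespace Cfsg.Agent.helper5

open scoped Pointwise

/-- Membership in a conjugate Sylow subgroup. -/
theorem mem_smul_sylow_iff {G : Type*} [Group G] {p : ℕ} (g x : G) (P : Sylow p G) :
    x ∈ ((g • P : Sylow p G) : Subgroup G) ↔ g⁻¹ * x * g ∈ (P : Subgroup G) := by
  rw [Sylow.smul_def]
  show x ∈ MulAut.conj g • (P : Subgroup G) ↔ _
  rw [Subgroup.mem_pointwise_smul_iff_inv_smul_mem]
  simp [MulAut.smul_def]

/-- Sylow's theorem inside a subgroup `N`: a `p`-subgroup of `N` is conjugate under `N` into any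
Sylow `p`-subgroup of `G` contained in `N`. -/
theorem exists_conj_le_of_le {G : Type*} [Group G] [Finite G] (p : ℕ) [Fact p.Prime]
    (N : Subgroup G) (P : Sylow p G) (hPN : (P : Subgroup G) ≤ N) (H : Subgroup G)
    (hH : IsPGroup p H) (hHN : H ≤ N) :
    ∃ n ∈ N, ∀ x ∈ H, n⁻¹ * x * n ∈ (P : Subgroup G) := by
  have hT : IsPGroup p (H.subgroupOf N) := hH.comap_subtype
  obtain ⟨Q', hQ'⟩ := hT.exists_le_sylow
  obtain ⟨n, hn⟩ := MulAction.exists_smul_eq N (P.subtype hPN) Q'
  refine ⟨n, n.2, ?_⟩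
  intro x hx
  have h1 : (⟨x, hHN hx⟩ : N) ∈ H.subgroupOf N := by
    rw [Subgroup.mem_subgroupOf]; exact hx
  have h2 := hQ' h1
  rw [← hn] at h2
  have h3 := (mem_smul_sylow_iff n (⟨x, hHN hx⟩ : N) (P.subtype hPN)).mp h2
  rw [Sylow.coe_subtype, Subgroup.mem_subgroupOf] at h3
  simpa using h3

/-- Cardinality of `K.subgroupOf C` is that of `K ⊓ C`. -/
theorem card_subgroupOf_eq_card_inf {G : Type*} [Group G] (K C : Subgroup G) :
    Nat.card (K.subgroupOf C) = Nat.card (K ⊓ C : Subgroup G) := by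
  rw [← Subgroup.inf_subgroupOf_right K C]
  exact Nat.card_congr (Subgroup.subgroupOfEquivOfLe inf_le_right).toEquiv

theorem card_subgroupOf_of_le {G : Type*} [Group G] {K C : Subgroup G} (h : K ≤ C) :
    Nat.card (K.subgroupOf C) = Nat.card K :=
  Nat.card_congr (Subgroup.subgroupOfEquivOfLe h).toEquiv

/-- Sylow's theorem inside a subgroup `C`, with the Sylow subgroup given by its cardinality. -/
theorem exists_conj_le_of_card {G : Type*} [Group G] [Finite G] (p : ℕ) [Fact p.Prime]
    (C P₁ : Subgroup G) (hP₁C : P₁ ≤ C)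
    (hcard : Nat.card P₁ = p ^ (Nat.card C).factorization p) (H : Subgroup G)
    (hH : IsPGroup p H) (hHC : H ≤ C) :
    ∃ z ∈ C, ∀ x ∈ H, z⁻¹ * x * z ∈ P₁ := by
  have hT : IsPGroup p (H.subgroupOf C) := hH.comap_subtype
  obtain ⟨Q', hQ'⟩ := hT.exists_le_sylow
  let S₁ : Sylow p C := Sylow.ofCard (P₁.subgroupOf C) (by rw [card_subgroupOf_of_le hP₁C, hcard])
  obtain ⟨n, hn⟩ := MulAction.exists_smul_eq C S₁ Q'
  refine ⟨n, n.2, ?_⟩
  intro x hx
  have h1 : (⟨x, hHC hx⟩ : C) ∈ H.subgroupOf C := by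
    rw [Subgroup.mem_subgroupOf]; exact hx
  have h2 := hQ' h1
  rw [← hn] at h2
  have h3 := (mem_smul_sylow_iff n (⟨x, hHC hx⟩ : C) S₁).mp h2
  have h4 : (n⁻¹ * (⟨x, hHC hx⟩ : C) * n) ∈ P₁.subgroupOf C := h3
  rw [Subgroup.mem_subgroupOf] at h4
  simpa using h4

/-- Centralizers of conjugate elements have the same cardinality. -/
theorem card_centralizer_conj {G : Type*} [Group G] (g k : G) :
    Nat.card (Subgroup.centralizer ({k * g * k⁻¹} : Set G)) =
      Nat.card (Subgroup.centralizer ({g} : Set G)) := by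
  refine Nat.card_congr
    { toFun := fun x => ⟨k⁻¹ * x.1 * k, ?_⟩
      invFun := fun x => ⟨k * x.1 * k⁻¹, ?_⟩
      left_inv := fun x => by apply Subtype.ext; simp [mul_assoc]
      right_inv := fun x => by apply Subtype.ext; simp [mul_assoc] }
  · have hx := Subgroup.mem_centralizer_iff.mp x.2 (k * g * k⁻¹) (Set.mem_singleton _)
    rw [Subgroup.mem_centralizer_iff]
    intro z hz
    rw [Set.mem_singleton_iff] at hz
    subst hz
    calc z * (k⁻¹ * x.1 * k) = k⁻¹ * ((k * z * k⁻¹) * x.1) * k := by group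
      _ = k⁻¹ * (x.1 * (k * z * k⁻¹)) * k := by rw [hx]
      _ = k⁻¹ * x.1 * k * z := by group
  · have hx := Subgroup.mem_centralizer_iff.mp x.2 g (Set.mem_singleton _)
    rw [Subgroup.mem_centralizer_iff]
    intro z hz
    rw [Set.mem_singleton_iff] at hz
    subst hz
    calc k * g * k⁻¹ * (k * x.1 * k⁻¹) = k * (g * x.1) * k⁻¹ := by group
      _ = k * (x.1 * g) * k⁻¹ := by rw [hx]
      _ = k * x.1 * k⁻¹ * (k * g * k⁻¹) := by group

theorem card_centralizer_of_isConj {G : Type*} [Group G] {g c : G} (h : IsConj g c) :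
    Nat.card (Subgroup.centralizer ({c} : Set G)) =
      Nat.card (Subgroup.centralizer ({g} : Set G)) := by
  obtain ⟨k, rfl⟩ := isConj_iff.mp h
  exact card_centralizer_conj g k

/-- A `p`-subgroup `P` of `C` which has Sylow order in `C ⊓ N(P)` has Sylow order in `C`. -/
theorem card_eq_of_sylow_in_normalizer {G : Type*} [Group G] [Finite G] (p : ℕ) [Fact p.Prime]
    (C P : Subgroup G) (hPC : P ≤ C)
    (hcard : Nat.card P =
      p ^ (Nat.card (C ⊓ Subgroup.normalizer (P : Set G) : Subgroup G)).factorization p) :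
    Nat.card P = p ^ (Nat.card C).factorization p := by
  have hp : p.Prime := Fact.out
  set n := (Nat.card (C ⊓ Subgroup.normalizer (P : Set G) : Subgroup G)).factorization p with hn
  have hH : Nat.card (P.subgroupOf C) = p ^ n := by rw [card_subgroupOf_of_le hPC, hcard]
  have key := Sylow.card_normalizer_modEq_card hH
  have hnorm : Nat.card (Subgroup.normalizer ((P.subgroupOf C : Subgroup C) : Set C)) =
      Nat.card (C ⊓ Subgroup.normalizer (P : Set G) : Subgroup G) := by
    rw [← Subgroup.subgroupOf_normalizer_eq hPC, card_subgroupOf_eq_card_inf, inf_comm]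
  rw [hnorm] at key
  have hCpos : Nat.card C ≠ 0 := Nat.card_pos.ne'
  have hMpos : Nat.card (C ⊓ Subgroup.normalizer (P : Set G) : Subgroup G) ≠ 0 := Nat.card_pos.ne'
  have h1 : ¬ p ^ (n + 1) ∣ Nat.card (C ⊓ Subgroup.normalizer (P : Set G) : Subgroup G) := by
    rw [hp.pow_dvd_iff_le_factorization hMpos]; omega
  have h2 : ¬ p ^ (n + 1) ∣ Nat.card C := by
    intro h
    apply h1
    exact (Nat.modEq_zero_iff_dvd).mp (key.trans ((Nat.modEq_zero_iff_dvd).mpr h))
  have h3 : p ^ n ∣ Nat.card C := by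
    rw [← hcard]; exact Subgroup.card_dvd_of_le hPC
  have h4 : (Nat.card C).factorization p = n := by
    apply le_antisymm
    · by_contra hlt
      push Not at hlt
      exact h2 ((hp.pow_dvd_iff_le_factorization hCpos).mpr hlt)
    · exact (hp.pow_dvd_iff_le_factorization hCpos).mp h3
  rw [hcard, h4]

/-- Normalizers grow in `p`-groups. -/
theorem exists_mem_normalizer_not_mem {G : Type*} [Group G] [Finite G] (p : ℕ) [Fact p.Prime]
    (P D : Subgroup G) (hP : IsPGroup p P) (hDP : D < P) :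
    ∃ x ∈ P, x ∉ D ∧ x ∈ Subgroup.normalizer (D : Set G) := by
  have : Group.IsNilpotent P := hP.isNilpotent
  have nc := Group.normalizerCondition_of_isNilpotent (G := P)
  have hlt : D.subgroupOf P < ⊤ := by
    rw [lt_top_iff_ne_top]
    intro h
    rw [Subgroup.subgroupOf_eq_top] at h
    exact (not_le_of_gt hDP) h
  have h1 := nc _ hlt
  rw [← Subgroup.subgroupOf_normalizer_eq hDP.le] at h1
  obtain ⟨x, hx, hx'⟩ := SetLike.exists_of_lt h1
  exact ⟨x, x.2, hx', hx⟩

/-- A normal `p`-subgroup lies in every Sylow `p`-subgroup. -/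
theorem normal_le_sylow {G : Type*} [Group G] (p : ℕ) [Fact p.Prime] (D : Subgroup G) [D.Normal]
    (hD : IsPGroup p D) (S : Sylow p G) : D ≤ S := by
  have h1 : IsPGroup p (D ⊔ (S : Subgroup G) : Subgroup G) := hD.to_sup_of_normal_left S.isPGroup'
  have h2 := S.is_maximal' h1 le_sup_right
  rw [← h2]; exact le_sup_left

/-- Strict inclusion of finite subgroups gives strict inequality of cardinalities. -/
theorem card_lt_of_lt {G : Type*} [Group G] [Finite G] {H K : Subgroup G} (h : H < K) :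
    Nat.card H < Nat.card K := by
  by_contra hcon
  push Not at hcon
  have := Subgroup.eq_of_le_of_card_ge h.le hcon
  exact h.ne this

/-- A `p`-subgroup has order at most the Sylow order. -/
theorem card_le_sylow_card {G : Type*} [Group G] [Finite G] (p : ℕ) [Fact p.Prime] (H : Subgroup G)
    (hH : IsPGroup p H) (S : Sylow p G) : Nat.card H ≤ Nat.card S := by
  obtain ⟨Q, hQ⟩ := hH.exists_le_sylow
  calc Nat.card H ≤ Nat.card Q := Subgroup.card_le_of_le hQ
    _ = Nat.card S := by rw [Q.card_eq_multiplicity, S.card_eq_multiplicity]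

end Cfsg.Agent.helper5
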