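import Mathlib
import Cfsg.Prelude.Def_Blocks
import Cfsg.Agent.Lib_helper23_Integral
import Cfsg.Agent.Lib_helper5_Sylow

set_option autoImplicit false

namespace Cfsg.Agent.helper23

/-- A natural number prime to `p` does not lie in a `p`-modular maximal ideal. -/
theorem natCast_not_mem_of_not_dvd {p : ℕ} {M : Ideal Cfsg.AlgInt} (hM : Cfsg.IsPModular p M)
    (d : ℕ) (hd : ¬ p ∣ d) : (d : Cfsg.AlgInt) ∉ M := by
  intro hmem
  obtain ⟨hp, hmax, hpM⟩ := hM
  have hcop : Nat.Coprime d p := Nat.Coprime.symm ((Nat.Prime.coprime_iff_not_dvd hp).mpr hd)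
  have hb := Int.gcd_eq_gcd_ab (d : ℤ) (p : ℤ)
  rw [Int.gcd_natCast_natCast, Nat.Coprime.gcd_eq_one hcop] at hb
  have h1 : (1 : Cfsg.AlgInt) =
      (d : Cfsg.AlgInt) * ((Int.gcdA (d : ℤ) (p : ℤ) : ℤ) : Cfsg.AlgInt) +
      (p : Cfsg.AlgInt) * ((Int.gcdB (d : ℤ) (p : ℤ) : ℤ) : Cfsg.AlgInt) := by
    have h2 : ((1 : ℤ) : Cfsg.AlgInt) = (((d : ℤ) * Int.gcdA (d : ℤ) (p : ℤ) +
        (p : ℤ) * Int.gcdB (d : ℤ) (p : ℤ) : ℤ) : Cfsg.AlgInt) := by
      rw [← hb]; simp
    push_cast at h2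
    exact h2
  have h3 : (1 : Cfsg.AlgInt) ∈ M := by
    rw [h1]
    exact M.add_mem (M.mul_mem_right _ hmem) (M.mul_mem_right _ hpM)
  exact hmax.ne_top ((Ideal.eq_top_iff_one M).mpr h3)

/-- A multiple of `p` by an algebraic integer lies in `M`. -/
theorem natCast_mul_mem {p : ℕ} {M : Ideal Cfsg.AlgInt} (hM : Cfsg.IsPModular p M)
    (n : ℕ) (hn : p ∣ n) (x : Cfsg.AlgInt) : (n : Cfsg.AlgInt) * x ∈ M := by
  obtain ⟨k, rfl⟩ := hn
  rw [Nat.cast_mul, mul_assoc]
  exact M.mul_mem_right _ hM.2.2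

/-- If a Sylow `p`-subgroup `P` has `C_G(P) ≤ N` with `N` normal, then the class size of any
element outside `N` is divisible by `p`. -/
theorem dvd_index_centralizer_of_not_mem {G : Type*} [Group G] [Finite G] (p : ℕ) [Fact p.Prime]
    (P : Sylow p G) (N : Subgroup G) [N.Normal]
    (hC : Subgroup.centralizer ((P : Subgroup G) : Set G) ≤ N) (g : G) (hg : g ∉ N) :
    p ∣ (Subgroup.centralizer ({g} : Set G)).index := by
  by_contra hnd
  have hpp : p.Prime := Fact.out
  obtain ⟨S⟩ : Nonempty (Sylow p (Subgroup.centralizer ({g} : Set G))) := inferInstance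
  have hidx0 : (Subgroup.centralizer ({g} : Set G)).index ≠ 0 := Subgroup.index_ne_zero_of_finite
  have hcardS : Nat.card ((S : Subgroup (Subgroup.centralizer ({g} : Set G))).map
      (Subgroup.centralizer ({g} : Set G)).subtype) = p ^ (Nat.card G).factorization p := by
    rw [Subgroup.card_map_of_injective (Subgroup.centralizer ({g} : Set G)).subtype_injective,
      Sylow.card_eq_multiplicity S]
    congr 1
    have h1 : Nat.card (Subgroup.centralizer ({g} : Set G)) *
        (Subgroup.centralizer ({g} : Set G)).index = Nat.card G := Subgroup.card_mul_index _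
    rw [← h1, Nat.factorization_mul Nat.card_pos.ne' hidx0, Finsupp.add_apply,
      Nat.factorization_eq_zero_of_not_dvd hnd, add_zero]
  obtain ⟨k, hk⟩ := MulAction.exists_smul_eq G P (Sylow.ofCard _ hcardS)
  have h2 : ∀ x ∈ (P : Subgroup G), k * x * k⁻¹ ∈ Subgroup.centralizer ({g} : Set G) := by
    intro x hx
    have h5 : k * x * k⁻¹ ∈ ((k • P : Sylow p G) : Subgroup G) := by
      rw [Cfsg.Agent.helper5.mem_smul_sylow_iff]
      have : k⁻¹ * (k * x * k⁻¹) * k = x := by group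
      rw [this]; exact hx
    rw [hk, Sylow.coe_ofCard] at h5
    obtain ⟨c, _, hc⟩ := h5
    rw [← hc]; exact c.2
  have h3 : k⁻¹ * g * k ∈ Subgroup.centralizer ((P : Subgroup G) : Set G) := by
    rw [Subgroup.mem_centralizer_iff]
    intro x hx
    have hx' := Subgroup.mem_centralizer_iff.mp (h2 x hx) g (Set.mem_singleton g)
    calc x * (k⁻¹ * g * k) = k⁻¹ * ((k * x * k⁻¹) * g) * k := by group
      _ = k⁻¹ * (g * (k * x * k⁻¹)) * k := by rw [hx']
      _ = k⁻¹ * g * k * x := by group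
  have h4 : k⁻¹ * g * k ∈ N := hC h3
  apply hg
  have h6 := (inferInstance : N.Normal).conj_mem _ h4 k
  have h7 : k * (k⁻¹ * g * k) * k⁻¹ = g := by group
  rw [h7] at h6
  exact h6

end Cfsg.Agent.helper23
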