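import Mathlib
import Cfsg.Prelude.Def_Blocks
import Cfsg.Agent.Lib_helper23_Block

set_option autoImplicit false

namespace Cfsg.Agent.helper24

open Cfsg

section LocalIdeal

variable {M : Ideal AlgInt}

/-- a complex number which is (the value of) an element of the ideal `M` -/
def MemIdeal (M : Ideal AlgInt) (w : ℂ) : Prop := ∃ z : AlgInt, z ∈ M ∧ (z : ℂ) = w

theorem MemIdeal.add {z w : ℂ} (hz : MemIdeal M z) (hw : MemIdeal M w) : MemIdeal M (z + w) := by
  obtain ⟨a, ha, rfl⟩ := hz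
  obtain ⟨b, hb, rfl⟩ := hw
  exact ⟨a + b, M.add_mem ha hb, by push_cast; rfl⟩

theorem MemIdeal.neg {z : ℂ} (hz : MemIdeal M z) : MemIdeal M (-z) := by
  obtain ⟨a, ha, rfl⟩ := hz
  exact ⟨-a, M.neg_mem ha, by push_cast; rfl⟩

theorem MemIdeal.sub {z w : ℂ} (hz : MemIdeal M z) (hw : MemIdeal M w) : MemIdeal M (z - w) := by
  rw [sub_eq_add_neg]
  exact hz.add hw.neg

theorem memIdeal_zero : MemIdeal M 0 := ⟨0, M.zero_mem, by simp⟩

theorem MemIdeal.mul_integral {z : ℂ} (hz : MemIdeal M z) {c : ℂ} (hc : IsIntegral ℤ c) :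
    MemIdeal M (c * z) := by
  obtain ⟨a, ha, rfl⟩ := hz
  exact ⟨(⟨c, hc⟩ : AlgInt) * a, M.mul_mem_left _ ha, by push_cast; rfl⟩

theorem MemIdeal.sum {ι : Type*} (s : Finset ι) (f : ι → ℂ) (h : ∀ i ∈ s, MemIdeal M (f i)) :
    MemIdeal M (∑ i ∈ s, f i) := by
  classical
  induction s using Finset.induction_on with
  | empty => rw [Finset.sum_empty]; exact memIdeal_zero
  | insert a s ha ih =>
    rw [Finset.sum_insert ha]
    exact (h a (Finset.mem_insert_self a s)).add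
      (ih (fun i hi => h i (Finset.mem_insert_of_mem hi)))

theorem MemIdeal.memLocalIdeal (hM : M ≠ ⊤) {z : ℂ} (hz : MemIdeal M z) : MemLocalIdeal M z := by
  obtain ⟨a, ha, rfl⟩ := hz
  exact ⟨a, 1, ha, fun h => hM ((Ideal.eq_top_iff_one M).2 h), by simp⟩

theorem coe_ne_zero_of_not_mem {b : AlgInt} (hb : b ∉ M) : (b : ℂ) ≠ 0 := by
  intro h
  apply hb
  have : b = 0 := by
    apply Subtype.ext
    exact h
  rw [this]
  exact M.zero_mem

theorem memLocalIdeal_add [hMp : M.IsPrime] {z w : ℂ} (hz : MemLocalIdeal M z)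
    (hw : MemLocalIdeal M w) : MemLocalIdeal M (z + w) := by
  obtain ⟨a₁, b₁, ha₁, hb₁, rfl⟩ := hz
  obtain ⟨a₂, b₂, ha₂, hb₂, rfl⟩ := hw
  refine ⟨a₁ * b₂ + a₂ * b₁, b₁ * b₂,
    M.add_mem (M.mul_mem_right _ ha₁) (M.mul_mem_right _ ha₂), ?_, ?_⟩
  · intro h
    rcases hMp.mem_or_mem h with h | h
    · exact hb₁ h
    · exact hb₂ h
  · have h1 := coe_ne_zero_of_not_mem hb₁
    have h2 := coe_ne_zero_of_not_mem hb₂
    push_cast
    field_simp

theorem memLocalIdeal_neg {z : ℂ} (hz : MemLocalIdeal M z) : MemLocalIdeal M (-z) := by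
  obtain ⟨a, b, ha, hb, rfl⟩ := hz
  refine ⟨-a, b, M.neg_mem ha, hb, ?_⟩
  push_cast
  ring

theorem memLocalIdeal_sub [hMp : M.IsPrime] {z w : ℂ} (hz : MemLocalIdeal M z)
    (hw : MemLocalIdeal M w) : MemLocalIdeal M (z - w) := by
  rw [sub_eq_add_neg]
  exact memLocalIdeal_add hz (memLocalIdeal_neg hw)

theorem memLocalIdeal_mul_integral {z : ℂ} (hz : MemLocalIdeal M z) {c : ℂ}
    (hc : IsIntegral ℤ c) : MemLocalIdeal M (c * z) := by
  obtain ⟨a, b, ha, hb, rfl⟩ := hz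
  refine ⟨(⟨c, hc⟩ : AlgInt) * a, b, M.mul_mem_left _ ha, hb, ?_⟩
  push_cast
  ring

theorem memLocalIdeal_zero (hM : M ≠ ⊤) : MemLocalIdeal M 0 :=
  (memIdeal_zero (M := M)).memLocalIdeal hM

theorem memLocalIdeal_sum [hMp : M.IsPrime] {ι : Type*} (s : Finset ι) (f : ι → ℂ)
    (h : ∀ i ∈ s, MemLocalIdeal M (f i)) : MemLocalIdeal M (∑ i ∈ s, f i) := by
  classical
  induction s using Finset.induction_on with
  | empty => rw [Finset.sum_empty]; exact memLocalIdeal_zero hMp.ne_top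
  | insert a s ha ih =>
    rw [Finset.sum_insert ha]
    exact memLocalIdeal_add (h a (Finset.mem_insert_self a s))
      (ih (fun i hi => h i (Finset.mem_insert_of_mem hi)))

/-- an algebraic integer in the local ideal lies in `M` -/
theorem mem_of_memLocalIdeal [hMp : M.IsPrime] {z : AlgInt}
    (hz : MemLocalIdeal M (z : ℂ)) : z ∈ M := by
  obtain ⟨a, b, ha, hb, hab⟩ := hz
  have h1 := coe_ne_zero_of_not_mem hb
  have h2 : a = z * b := by
    apply Subtype.ext
    push_cast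
    rw [← hab]
    field_simp
  rw [h2] at ha
  rcases hMp.mem_or_mem ha with h | h
  · exact h
  · exact absurd h hb

/-- a natural number prime to `p` is not in the local ideal -/
theorem natCast_not_memLocalIdeal {p : ℕ} (hM : IsPModular p M) {n : ℕ} (hn : ¬ p ∣ n) :
    ¬ MemLocalIdeal M (n : ℂ) := by
  intro h
  have : M.IsPrime := hM.2.1.isPrime
  have h1 : MemLocalIdeal M (((n : AlgInt) : AlgInt) : ℂ) := by
    have : (((n : AlgInt) : AlgInt) : ℂ) = (n : ℂ) := by push_cast; rfl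
    rw [this]; exact h
  exact helper23.natCast_not_mem_of_not_dvd hM n hn (mem_of_memLocalIdeal h1)

/-- `p`-power roots of unity are congruent to `1` -/
theorem memIdeal_sub_one_of_pow {p : ℕ} (hM : IsPModular p M) {ε : ℂ} {j : ℕ}
    (h : ε ^ (p ^ j) = 1) : MemIdeal M (ε - 1) := by
  obtain ⟨hp, hmax, hpM⟩ := hM
  have : Fact p.Prime := ⟨hp⟩
  have : M.IsPrime := hmax.isPrime
  have hpos : 0 < p ^ j := pow_pos hp.pos j
  have hint : IsIntegral ℤ ε := by
    refine ⟨Polynomial.X ^ (p ^ j) - 1, Polynomial.monic_X_pow_sub_C 1 hpos.ne', ?_⟩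
    simp [h]
  set e : AlgInt := ⟨ε, hint⟩ with he
  have he1 : e ^ (p ^ j) = 1 := by
    apply Subtype.ext
    push_cast
    exact h
  have : CharP (AlgInt ⧸ M) p := by
    rw [CharP.charP_iff_prime_eq_zero hp]
    have : ((p : AlgInt ⧸ M)) = Ideal.Quotient.mk M (p : AlgInt) := by simp
    rw [this, Ideal.Quotient.eq_zero_iff_mem]
    exact hpM
  have h2 : (Ideal.Quotient.mk M (e - 1)) ^ (p ^ j) = 0 := by
    rw [map_sub, map_one, sub_pow_char_pow, ← map_pow, he1, map_one, one_pow, sub_self]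
  have h3 : Ideal.Quotient.mk M (e - 1) = 0 := pow_eq_zero_iff (hpos.ne') |>.1 h2
  rw [Ideal.Quotient.eq_zero_iff_mem] at h3
  exact ⟨e - 1, h3, by push_cast; rfl⟩

end LocalIdeal

end Cfsg.Agent.helper24
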