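import Mathlib
import Cfsg.Agent.Lib_helper24_LocalIdeal

set_option autoImplicit false

namespace Cfsg.Agent.helper24

open Cfsg

section LocalRing

variable {M : Ideal AlgInt}

theorem memLocalRing_of_integral (hM : M ≠ ⊤) {c : ℂ} (hc : IsIntegral ℤ c) : MemLocalRing M c :=
  ⟨⟨c, hc⟩, 1, fun h => hM ((Ideal.eq_top_iff_one M).2 h), by simp⟩

theorem memLocalRing_zero (hM : M ≠ ⊤) : MemLocalRing M 0 :=
  memLocalRing_of_integral hM isIntegral_zero

theorem memLocalRing_one (hM : M ≠ ⊤) : MemLocalRing M 1 :=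
  memLocalRing_of_integral hM isIntegral_one

theorem memLocalRing_of_memLocalIdeal {z : ℂ} (hz : MemLocalIdeal M z) : MemLocalRing M z := by
  obtain ⟨a, b, -, hb, h⟩ := hz
  exact ⟨a, b, hb, h⟩

theorem memLocalRing_add [hMp : M.IsPrime] {z w : ℂ} (hz : MemLocalRing M z)
    (hw : MemLocalRing M w) : MemLocalRing M (z + w) := by
  obtain ⟨a₁, b₁, hb₁, rfl⟩ := hz
  obtain ⟨a₂, b₂, hb₂, rfl⟩ := hw
  refine ⟨a₁ * b₂ + a₂ * b₁, b₁ * b₂, ?_, ?_⟩
  · intro h
    rcases hMp.mem_or_mem h with h | h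
    · exact hb₁ h
    · exact hb₂ h
  · have h1 := coe_ne_zero_of_not_mem hb₁
    have h2 := coe_ne_zero_of_not_mem hb₂
    push_cast
    field_simp

theorem memLocalRing_mul [hMp : M.IsPrime] {z w : ℂ} (hz : MemLocalRing M z)
    (hw : MemLocalRing M w) : MemLocalRing M (z * w) := by
  obtain ⟨a₁, b₁, hb₁, rfl⟩ := hz
  obtain ⟨a₂, b₂, hb₂, rfl⟩ := hw
  refine ⟨a₁ * a₂, b₁ * b₂, ?_, ?_⟩
  · intro h
    rcases hMp.mem_or_mem h with h | h
    · exact hb₁ h
    · exact hb₂ h
  · have h1 := coe_ne_zero_of_not_mem hb₁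
    have h2 := coe_ne_zero_of_not_mem hb₂
    push_cast
    field_simp

theorem memLocalRing_neg {z : ℂ} (hz : MemLocalRing M z) : MemLocalRing M (-z) := by
  obtain ⟨a, b, hb, rfl⟩ := hz
  refine ⟨-a, b, hb, ?_⟩
  push_cast
  ring

theorem memLocalRing_sub [hMp : M.IsPrime] {z w : ℂ} (hz : MemLocalRing M z)
    (hw : MemLocalRing M w) : MemLocalRing M (z - w) := by
  rw [sub_eq_add_neg]
  exact memLocalRing_add hz (memLocalRing_neg hw)

theorem memLocalRing_sum [hMp : M.IsPrime] {ι : Type*} (s : Finset ι) (f : ι → ℂ)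
    (h : ∀ i ∈ s, MemLocalRing M (f i)) : MemLocalRing M (∑ i ∈ s, f i) := by
  classical
  induction s using Finset.induction_on with
  | empty => rw [Finset.sum_empty]; exact memLocalRing_zero hMp.ne_top
  | insert a s ha ih =>
    rw [Finset.sum_insert ha]
    exact memLocalRing_add (h a (Finset.mem_insert_self a s))
      (ih (fun i hi => h i (Finset.mem_insert_of_mem hi)))

theorem memLocalIdeal_mul_left [hMp : M.IsPrime] {c z : ℂ} (hc : MemLocalRing M c)
    (hz : MemLocalIdeal M z) : MemLocalIdeal M (c * z) := by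
  obtain ⟨a₁, b₁, hb₁, rfl⟩ := hc
  obtain ⟨a₂, b₂, ha₂, hb₂, rfl⟩ := hz
  refine ⟨a₁ * a₂, b₁ * b₂, M.mul_mem_left _ ha₂, ?_, ?_⟩
  · intro h
    rcases hMp.mem_or_mem h with h | h
    · exact hb₁ h
    · exact hb₂ h
  · have h1 := coe_ne_zero_of_not_mem hb₁
    have h2 := coe_ne_zero_of_not_mem hb₂
    push_cast
    field_simp

theorem not_memLocalIdeal_one [hMp : M.IsPrime] : ¬ MemLocalIdeal M 1 := by
  intro h
  have h1 : MemLocalIdeal M (((1 : AlgInt) : AlgInt) : ℂ) := by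
    simpa using h
  exact hMp.ne_top ((Ideal.eq_top_iff_one M).2 (mem_of_memLocalIdeal h1))

/-- the local ideal is prime in the local ring -/
theorem not_memLocalIdeal_mul [hMp : M.IsPrime] {x y : ℂ} (hx : MemLocalRing M x)
    (hy : MemLocalRing M y) (hx' : ¬ MemLocalIdeal M x) (hy' : ¬ MemLocalIdeal M y) :
    ¬ MemLocalIdeal M (x * y) := by
  obtain ⟨a₁, b₁, hb₁, rfl⟩ := hx
  obtain ⟨a₂, b₂, hb₂, rfl⟩ := hy
  have ha₁ : a₁ ∉ M := fun h => hx' ⟨a₁, b₁, h, hb₁, rfl⟩
  have ha₂ : a₂ ∉ M := fun h => hy' ⟨a₂, b₂, h, hb₂, rfl⟩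
  intro h
  obtain ⟨a, b, ha, hb, hab⟩ := h
  have h1 := coe_ne_zero_of_not_mem hb₁
  have h2 := coe_ne_zero_of_not_mem hb₂
  have h3 := coe_ne_zero_of_not_mem hb
  have h4 : a₁ * a₂ * b = a * (b₁ * b₂) := by
    apply Subtype.ext
    push_cast
    field_simp at hab
    linear_combination -hab
  have h5 : a₁ * a₂ * b ∈ M := by rw [h4]; exact M.mul_mem_right _ ha
  rcases hMp.mem_or_mem h5 with h6 | h6
  · rcases hMp.mem_or_mem h6 with h7 | h7
    · exact ha₁ h7
    · exact ha₂ h7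
  · exact hb h6

/-- units of the local ring -/
theorem memLocalRing_inv {x : ℂ} (hx : MemLocalRing M x) (hx' : ¬ MemLocalIdeal M x) :
    MemLocalRing M x⁻¹ := by
  obtain ⟨a, b, hb, rfl⟩ := hx
  have ha : a ∉ M := fun h => hx' ⟨a, b, h, hb, rfl⟩
  refine ⟨b, a, ha, ?_⟩
  rw [inv_div]

theorem memLocalRing_prod [hMp : M.IsPrime] {ι : Type*} (s : Finset ι) (f : ι → ℂ)
    (h : ∀ i ∈ s, MemLocalRing M (f i)) : MemLocalRing M (∏ i ∈ s, f i) := by
  classical
  induction s using Finset.induction_on with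
  | empty => rw [Finset.prod_empty]; exact memLocalRing_one hMp.ne_top
  | insert a s ha ih =>
    rw [Finset.prod_insert ha]
    exact memLocalRing_mul (h a (Finset.mem_insert_self a s))
      (ih (fun i hi => h i (Finset.mem_insert_of_mem hi)))

theorem not_memLocalIdeal_prod [hMp : M.IsPrime] {ι : Type*} (s : Finset ι) (f : ι → ℂ)
    (h : ∀ i ∈ s, MemLocalRing M (f i)) (h' : ∀ i ∈ s, ¬ MemLocalIdeal M (f i)) :
    ¬ MemLocalIdeal M (∏ i ∈ s, f i) := by
  classical
  induction s using Finset.induction_on with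
  | empty => rw [Finset.prod_empty]; exact not_memLocalIdeal_one
  | insert a s ha ih =>
    rw [Finset.prod_insert ha]
    exact not_memLocalIdeal_mul (h a (Finset.mem_insert_self a s))
      (memLocalRing_prod s f (fun i hi => h i (Finset.mem_insert_of_mem hi)))
      (h' a (Finset.mem_insert_self a s))
      (ih (fun i hi => h i (Finset.mem_insert_of_mem hi))
        (fun i hi => h' i (Finset.mem_insert_of_mem hi)))

end LocalRing

end Cfsg.Agent.helper24
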