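import Mathlib
import Cfsg.Agent.Lib_helper24_LocalRing
import Cfsg.Agent.Lib_helper24_CharNormal
import Cfsg.Agent.Lib_helper24_CharCount
import Cfsg.Agent.Lib_helper23_Central

set_option autoImplicit false

namespace Cfsg.Agent.helper24

open Cfsg
open scoped ComplexConjugate

universe u

section Conv

variable {G : Type u} [Group G] [Fintype G]

/-- the value of the central character of `χ` on the central element with coefficients `u` -/
noncomputable def omegaFn (χ : G → ℂ) (u : G → ℂ) : ℂ := (∑ h : G, u h * χ h) / χ 1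

/-- convolution (multiplication in the group algebra) -/
noncomputable def cconv (u v : G → ℂ) : G → ℂ := fun g => ∑ x : G, u x * v (x⁻¹ * g)

theorem cconv_isClassFunction {u v : G → ℂ} (hu : IsClassFunction G u) (hv : IsClassFunction G v) :
    IsClassFunction G (cconv u v) := by
  intro g k
  unfold cconv
  rw [← Fintype.sum_equiv (MulAut.conj k).toEquiv
    (fun x : G => u (k * x * k⁻¹) * v ((k * x * k⁻¹)⁻¹ * (k * g * k⁻¹)))
    (fun x : G => u x * v (x⁻¹ * (k * g * k⁻¹))) (fun x => by simp [MulAut.conj_apply])]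
  refine Finset.sum_congr rfl (fun x _ => ?_)
  rw [hu x k]
  have h1 : (k * x * k⁻¹)⁻¹ * (k * g * k⁻¹) = k * (x⁻¹ * g) * k⁻¹ := by group
  rw [h1, hv (x⁻¹ * g) k]

theorem sum_mul_char_shift {χ : G → ℂ} (hχ : IsIrrCharacter G χ) {v : G → ℂ}
    (hv : IsClassFunction G v) (x : G) :
    ∑ y : G, v y * χ (x * y) = omegaFn χ v * χ x := by
  have hf : IsClassFunction G (fun h => v h⁻¹) := by
    intro g k
    show v (k * g * k⁻¹)⁻¹ = v g⁻¹
    have : (k * g * k⁻¹)⁻¹ = k * g⁻¹ * k⁻¹ := by group
    rw [this, hv g⁻¹ k]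
  have h1 := irr_central_mul hχ hf x
  have h2 : ∑ h : G, (fun h => v h⁻¹) h * χ (x * h⁻¹) = ∑ y : G, v y * χ (x * y) := by
    apply Fintype.sum_equiv (Equiv.inv G)
    intro h
    simp
  have h3 : ∑ h : G, (fun h => v h⁻¹) h * χ h⁻¹ = ∑ y : G, v y * χ y := by
    apply Fintype.sum_equiv (Equiv.inv G)
    intro h
    simp
  rw [h2, h3] at h1
  rw [h1]
  rfl

theorem omegaFn_cconv {χ : G → ℂ} (hχ : IsIrrCharacter G χ) (u : G → ℂ) {v : G → ℂ}
    (hv : IsClassFunction G v) : omegaFn χ (cconv u v) = omegaFn χ u * omegaFn χ v := by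
  have h1 : ∑ g : G, cconv u v g * χ g = ∑ x : G, u x * (omegaFn χ v * χ x) := by
    unfold cconv
    simp_rw [Finset.sum_mul]
    rw [Finset.sum_comm]
    refine Finset.sum_congr rfl (fun x _ => ?_)
    rw [← sum_mul_char_shift hχ hv x, Finset.mul_sum]
    rw [← Fintype.sum_equiv (Equiv.mulLeft x) (fun y : G => u x * v (x⁻¹ * (x * y)) * χ (x * y))
      (fun g : G => u x * v (x⁻¹ * g) * χ g) (fun y => rfl)]
    refine Finset.sum_congr rfl (fun y _ => ?_)
    rw [inv_mul_cancel_left]
    ring
  unfold omegaFn at *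
  rw [h1]
  have h2 : ∑ x : G, u x * ((∑ h : G, v h * χ h) / χ 1 * χ x) =
      (∑ h : G, v h * χ h) / χ 1 * ∑ x : G, u x * χ x := by
    rw [Finset.mul_sum]
    refine Finset.sum_congr rfl (fun x _ => ?_)
    ring
  rw [h2]
  ring

theorem omegaFn_add (χ u v : G → ℂ) : omegaFn χ (u + v) = omegaFn χ u + omegaFn χ v := by
  unfold omegaFn
  simp only [Pi.add_apply, add_mul, Finset.sum_add_distrib, add_div]

theorem omegaFn_neg (χ u : G → ℂ) : omegaFn χ (-u) = -omegaFn χ u := by
  unfold omegaFn
  simp only [Pi.neg_apply, neg_mul, Finset.sum_neg_distrib, neg_div]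

theorem omegaFn_zero (χ : G → ℂ) : omegaFn χ (0 : G → ℂ) = 0 := by
  unfold omegaFn
  simp

theorem omegaFn_smul (χ : G → ℂ) (c : ℂ) (u : G → ℂ) : omegaFn χ (c • u) = c * omegaFn χ u := by
  unfold omegaFn
  simp only [Pi.smul_apply, smul_eq_mul]
  rw [← mul_div_assoc, Finset.mul_sum]
  congr 1
  refine Finset.sum_congr rfl (fun x _ => ?_)
  ring

open Classical in
/-- the identity element -/
noncomputable def deltaOne (G : Type u) [Group G] : G → ℂ := fun g => if g = 1 then 1 else 0

theorem deltaOne_isClassFunction : IsClassFunction G (deltaOne G) := by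
  classical
  intro g k
  unfold deltaOne
  have : k * g * k⁻¹ = 1 ↔ g = 1 := by
    constructor
    · intro h
      have h1 : g = k⁻¹ * (k * g * k⁻¹) * k := by group
      rw [h1, h]; group
    · intro h; rw [h]; group
  simp only [this]

theorem omegaFn_deltaOne {χ : G → ℂ} (hχ : χ 1 ≠ 0) : omegaFn χ (deltaOne G) = 1 := by
  classical
  unfold omegaFn deltaOne
  simp only [ite_mul, one_mul, zero_mul, Finset.sum_ite_eq', Finset.mem_univ, if_true]
  exact div_self hχ

open Classical in
/-- the class sum of `g` -/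
noncomputable def classInd (g : G) : G → ℂ := fun x => if IsConj g x then 1 else 0

theorem classInd_isClassFunction (g : G) : IsClassFunction G (classInd g) := by
  classical
  intro x k
  unfold classInd
  have : IsConj g (k * x * k⁻¹) ↔ IsConj g x := by
    have h1 : IsConj x (k * x * k⁻¹) := isConj_iff.2 ⟨k, rfl⟩
    constructor
    · intro h; exact h.trans h1.symm
    · intro h; exact h.trans h1
  simp only [this]

theorem omegaFn_classInd {χ : G → ℂ} (hχ : IsCharacter G χ) (g : G) :
    omegaFn χ (classInd g) = centralChar χ g := by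
  classical
  unfold omegaFn classInd centralChar
  congr 1
  simp only [ite_mul, one_mul, zero_mul]
  rw [← Finset.sum_filter]
  have h1 : ∀ x ∈ Finset.univ.filter (fun x : G => IsConj g x), χ x = χ g := by
    intro x hx
    rw [Finset.mem_filter] at hx
    exact (isClassFunction_iff_isConj.mp (char_isClassFunction hχ) g x hx.2).symm
  rw [Finset.sum_congr rfl h1, Finset.sum_const, nsmul_eq_mul]
  congr 2
  exact helper23.card_conjFinset g

/-- a class function is determined by its central character values -/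
theorem classFunction_eq_sum_omega [Fintype (IrrCharacter G)] {u : G → ℂ}
    (hu : IsClassFunction G u) (g : G) :
    u g = (Nat.card G : ℂ)⁻¹ * ∑ χ : IrrCharacter G,
      (χ : G → ℂ) 1 * omegaFn (χ : G → ℂ) u * conj ((χ : G → ℂ) g) := by
  classical
  have h1 : ∀ χ : IrrCharacter G, (χ : G → ℂ) 1 * omegaFn (χ : G → ℂ) u * conj ((χ : G → ℂ) g) =
      ∑ h : G, u h * ((χ : G → ℂ) h * conj ((χ : G → ℂ) g)) := by
    intro χ
    unfold omegaFn
    rw [mul_div_cancel₀ _ (irr_apply_one_ne_zero χ.2), Finset.sum_mul]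
    refine Finset.sum_congr rfl (fun h _ => ?_)
    ring
  rw [Finset.sum_congr rfl (fun χ _ => h1 χ), Finset.sum_comm]
  have h2 : ∀ h : G, ∑ χ : IrrCharacter G, u h * ((χ : G → ℂ) h * conj ((χ : G → ℂ) g)) =
      if IsConj h g then u g * (Nat.card (Subgroup.centralizer ({g} : Set G)) : ℂ) else 0 := by
    intro h
    rw [← Finset.mul_sum, irr_column_orthogonality h g]
    by_cases hc : IsConj h g
    · rw [if_pos hc, if_pos hc, isClassFunction_iff_isConj.mp hu h g hc]
    · rw [if_neg hc, if_neg hc, mul_zero]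
  rw [Finset.sum_congr rfl (fun h _ => h2 h), ← Finset.sum_filter, Finset.sum_const, nsmul_eq_mul]
  have h3 : (Finset.univ.filter (fun h : G => IsConj h g)).card =
      (Subgroup.centralizer ({g} : Set G)).index := by
    rw [← helper23.card_conjFinset g]
    unfold helper23.conjFinset
    congr 1
    ext k
    simp only [Finset.mem_filter, Finset.mem_univ, true_and]
    exact isConj_comm
  rw [h3]
  have h4 : ((Subgroup.centralizer ({g} : Set G)).index : ℂ) *
      (Nat.card (Subgroup.centralizer ({g} : Set G)) : ℂ) = (Nat.card G : ℂ) := by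
    rw [← Nat.cast_mul, mul_comm, Subgroup.card_mul_index]
  have hG : (Nat.card G : ℂ) ≠ 0 := by exact_mod_cast Nat.card_pos.ne'
  rw [show ((Subgroup.centralizer ({g} : Set G)).index : ℂ) *
    (u g * (Nat.card (Subgroup.centralizer ({g} : Set G)) : ℂ)) =
    u g * (((Subgroup.centralizer ({g} : Set G)).index : ℂ) *
      (Nat.card (Subgroup.centralizer ({g} : Set G)) : ℂ)) by ring, h4]
  field_simp

/-- two class functions with the same central character values are equal -/
theorem classFunction_ext_omega {u v : G → ℂ} (hu : IsClassFunction G u)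
    (hv : IsClassFunction G v)
    (h : ∀ χ : IrrCharacter G, omegaFn (χ : G → ℂ) u = omegaFn (χ : G → ℂ) v) : u = v := by
  classical
  have := Fintype.ofFinite (IrrCharacter G)
  funext g
  rw [classFunction_eq_sum_omega hu g, classFunction_eq_sum_omega hv g]
  congr 1
  refine Finset.sum_congr rfl (fun χ _ => ?_)
  rw [h χ]

end Conv

end Cfsg.Agent.helper24
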