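import Mathlib
import Cfsg.Agent.Lib_helper24_BlockIdem

set_option autoImplicit false

namespace Cfsg.Agent.helper24

open Cfsg
open scoped ComplexConjugate

universe u

section Good

variable {G : Type u} [Group G] [Fintype G]

/-- the vectors of central character values of central elements with local coefficients -/
def goodSubring (G : Type u) [Group G] [Fintype G] (M : Ideal AlgInt) [hMp : M.IsPrime] :
    Subring (IrrCharacter G → ℂ) where
  carrier := {v | ∃ u : G → ℂ, IsClassFunction G u ∧ (∀ g, MemLocalRing M (u g)) ∧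
    ∀ χ : IrrCharacter G, omegaFn (χ : G → ℂ) u = v χ}
  mul_mem' := by
    rintro v w ⟨u₁, hu₁, hl₁, ho₁⟩ ⟨u₂, hu₂, hl₂, ho₂⟩
    refine ⟨cconv u₁ u₂, cconv_isClassFunction hu₁ hu₂, ?_, ?_⟩
    · intro g
      unfold cconv
      exact memLocalRing_sum _ _ (fun x _ => memLocalRing_mul (hl₁ x) (hl₂ _))
    · intro χ
      rw [omegaFn_cconv χ.2 u₁ hu₂, ho₁, ho₂]
      rfl
  one_mem' := by
    classical
    refine ⟨deltaOne G, deltaOne_isClassFunction, ?_, ?_⟩
    · intro g
      unfold deltaOne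
      split_ifs
      · exact memLocalRing_one hMp.ne_top
      · exact memLocalRing_zero hMp.ne_top
    · intro χ
      rw [omegaFn_deltaOne (irr_apply_one_ne_zero χ.2)]
      rfl
  add_mem' := by
    rintro v w ⟨u₁, hu₁, hl₁, ho₁⟩ ⟨u₂, hu₂, hl₂, ho₂⟩
    refine ⟨u₁ + u₂, ?_, ?_, ?_⟩
    · intro g k
      show u₁ (k * g * k⁻¹) + u₂ (k * g * k⁻¹) = u₁ g + u₂ g
      rw [hu₁ g k, hu₂ g k]
    · intro g
      exact memLocalRing_add (hl₁ g) (hl₂ g)
    · intro χ
      rw [omegaFn_add, ho₁, ho₂]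
      rfl
  zero_mem' := by
    refine ⟨0, fun _ _ => rfl, fun _ => memLocalRing_zero hMp.ne_top, ?_⟩
    intro χ
    rw [omegaFn_zero]
    rfl
  neg_mem' := by
    rintro v ⟨u₁, hu₁, hl₁, ho₁⟩
    refine ⟨-u₁, ?_, ?_, ?_⟩
    · intro g k
      show -u₁ (k * g * k⁻¹) = -u₁ g
      rw [hu₁ g k]
    · intro g
      exact memLocalRing_neg (hl₁ g)
    · intro χ
      rw [omegaFn_neg, ho₁]
      rfl

variable {M : Ideal AlgInt} [hMp : M.IsPrime]

theorem const_mem_goodSubring {c : ℂ} (hc : MemLocalRing M c) :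
    (fun _ : IrrCharacter G => c) ∈ goodSubring G M := by
  classical
  refine ⟨c • deltaOne G, ?_, ?_, ?_⟩
  · intro g k
    show c * deltaOne G (k * g * k⁻¹) = c * deltaOne G g
    rw [deltaOne_isClassFunction g k]
  · intro g
    show MemLocalRing M (c * deltaOne G g)
    unfold deltaOne
    split_ifs
    · rw [mul_one]; exact hc
    · rw [mul_zero]; exact memLocalRing_zero hMp.ne_top
  · intro χ
    rw [omegaFn_smul, omegaFn_deltaOne (irr_apply_one_ne_zero χ.2), mul_one]

theorem centralChar_mem_goodSubring (g : G) :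
    (fun χ : IrrCharacter G => centralChar (χ : G → ℂ) g) ∈ goodSubring G M := by
  classical
  refine ⟨classInd g, classInd_isClassFunction g, ?_, ?_⟩
  · intro x
    unfold classInd
    split_ifs
    · exact memLocalRing_one hMp.ne_top
    · exact memLocalRing_zero hMp.ne_top
  · intro χ
    exact omegaFn_classInd (irr_isCharacter χ.2) g

end Good

section Osima

variable {G : Type u} [Group G] [Fintype G]

theorem centralChar_memLocalRing {M : Ideal AlgInt} (hM : M ≠ ⊤) (χ : IrrCharacter G) (g : G) :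
    MemLocalRing M (centralChar (χ : G → ℂ) g) :=
  memLocalRing_of_integral hM (helper23.irr_centralChar_isIntegral χ g)

open Classical in
/-- the block idempotent as a vector -/
theorem blockIndicator_mem_goodSubring {M : Ideal AlgInt} [hMp : M.IsPrime]
    (χ₀ : IrrCharacter G) :
    (fun χ : IrrCharacter G => if χ ∈ blockOf M (χ₀ : G → ℂ) then (1 : ℂ) else 0) ∈
      goodSubring G M := by
  have := Fintype.ofFinite (IrrCharacter G)
  set B : Set (IrrCharacter G) := blockOf M (χ₀ : G → ℂ) with hB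
  have hMtop : M ≠ ⊤ := hMp.ne_top
  -- separating classes
  have hsep : ∀ ψ : IrrCharacter G, ∃ g : G, ψ ∉ B →
      ¬ MemLocalIdeal M (centralChar (χ₀ : G → ℂ) g - centralChar (ψ : G → ℂ) g) := by
    intro ψ
    by_cases hψ : ψ ∈ B
    · exact ⟨1, fun h => absurd hψ h⟩
    · have : ¬ SameBlock M (χ₀ : G → ℂ) (ψ : G → ℂ) := hψ
      unfold SameBlock at this
      push Not at this
      obtain ⟨g, hg⟩ := this
      exact ⟨g, fun _ => hg⟩
  choose gs hgs using hsep
  set Bc : Finset (IrrCharacter G) := Finset.univ.filter (fun ψ => ψ ∉ B) with hBc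
  set Bf : Finset (IrrCharacter G) := Finset.univ.filter (fun ψ => ψ ∈ B) with hBf
  set v : IrrCharacter G → ℂ := ∏ ψ ∈ Bc, ((fun χ : IrrCharacter G => centralChar (χ : G → ℂ) (gs ψ)) -
    (fun _ : IrrCharacter G => centralChar (ψ : G → ℂ) (gs ψ))) with hv
  have hvmem : v ∈ goodSubring G M := by
    apply Subring.prod_mem
    intro ψ _
    exact Subring.sub_mem _ (centralChar_mem_goodSubring (gs ψ))
      (const_mem_goodSubring (centralChar_memLocalRing hMtop ψ (gs ψ)))
  have hvapply : ∀ χ : IrrCharacter G, v χ = ∏ ψ ∈ Bc,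
      (centralChar (χ : G → ℂ) (gs ψ) - centralChar (ψ : G → ℂ) (gs ψ)) := by
    intro χ
    rw [hv, Finset.prod_apply]
    rfl
  have hv0 : ∀ ψ : IrrCharacter G, ψ ∉ B → v ψ = 0 := by
    intro ψ hψ
    rw [hvapply]
    apply Finset.prod_eq_zero (i := ψ)
    · rw [hBc, Finset.mem_filter]; exact ⟨Finset.mem_univ _, hψ⟩
    · rw [sub_self]
  have hvring : ∀ χ : IrrCharacter G, MemLocalRing M (v χ) := by
    intro χ
    rw [hvapply]
    apply memLocalRing_prod
    intro ψ _
    exact memLocalRing_sub (centralChar_memLocalRing hMtop χ _) (centralChar_memLocalRing hMtop ψ _)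
  have hvunit : ∀ χ : IrrCharacter G, χ ∈ B → ¬ MemLocalIdeal M (v χ) := by
    intro χ hχ
    rw [hvapply]
    apply not_memLocalIdeal_prod
    · intro ψ _
      exact memLocalRing_sub (centralChar_memLocalRing hMtop χ _)
        (centralChar_memLocalRing hMtop ψ _)
    · intro ψ hψ h
      rw [hBc, Finset.mem_filter] at hψ
      apply hgs ψ hψ.2
      have h1 : SameBlock M (χ₀ : G → ℂ) (χ : G → ℂ) := hχ
      have h2 := h1 (gs ψ)
      have h3 : centralChar (χ₀ : G → ℂ) (gs ψ) - centralChar (ψ : G → ℂ) (gs ψ) =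
          (centralChar (χ₀ : G → ℂ) (gs ψ) - centralChar (χ : G → ℂ) (gs ψ)) +
          (centralChar (χ : G → ℂ) (gs ψ) - centralChar (ψ : G → ℂ) (gs ψ)) := by ring
      rw [h3]
      exact memLocalIdeal_add h2 h
  set w : IrrCharacter G → ℂ := 1 - ∏ χ ∈ Bf, (1 - (fun _ : IrrCharacter G => (v χ)⁻¹) * v) with hw
  have hwmem : w ∈ goodSubring G M := by
    apply Subring.sub_mem _ (Subring.one_mem _)
    apply Subring.prod_mem
    intro χ hχ
    rw [hBf, Finset.mem_filter] at hχ
    apply Subring.sub_mem _ (Subring.one_mem _)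
    apply Subring.mul_mem _ _ hvmem
    exact const_mem_goodSubring (memLocalRing_inv (hvring χ) (hvunit χ hχ.2))
  convert hwmem using 1
  funext i
  rw [hw, Pi.sub_apply, Finset.prod_apply, Pi.one_apply]
  by_cases hi : i ∈ B
  · rw [if_pos hi]
    have : ∏ χ ∈ Bf, (1 - (fun _ : IrrCharacter G => (v χ)⁻¹) * v) i = 0 := by
      apply Finset.prod_eq_zero (i := i)
      · rw [hBf, Finset.mem_filter]; exact ⟨Finset.mem_univ _, hi⟩
      · show 1 - (v i)⁻¹ * v i = 0
        have hne : v i ≠ 0 := by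
          intro h0
          apply hvunit i hi
          rw [h0]
          exact memLocalIdeal_zero hMtop
        rw [inv_mul_cancel₀ hne, sub_self]
    rw [this, sub_zero]
  · rw [if_neg hi]
    have : ∏ χ ∈ Bf, (1 - (fun _ : IrrCharacter G => (v χ)⁻¹) * v) i = 1 := by
      apply Finset.prod_eq_one
      intro χ _
      show 1 - (v χ)⁻¹ * v i = 1
      rw [hv0 i hi, mul_zero, sub_zero]
    rw [this, sub_self]

open Classical in
/-- **Osima's theorem**: the block idempotent has local coefficients; moreover it is a class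
function and an idempotent for the convolution -/
theorem blockCoeff_props {M : Ideal AlgInt} [hMp : M.IsPrime] (χ₀ : IrrCharacter G) :
    IsClassFunction G (blockCoeff (blockOf M (χ₀ : G → ℂ))) ∧
    (∀ g, MemLocalRing M (blockCoeff (blockOf M (χ₀ : G → ℂ)) g)) ∧
    (∀ χ : IrrCharacter G, omegaFn (χ : G → ℂ) (blockCoeff (blockOf M (χ₀ : G → ℂ))) =
      if χ ∈ blockOf M (χ₀ : G → ℂ) then (1 : ℂ) else 0) ∧
    cconv (blockCoeff (blockOf M (χ₀ : G → ℂ))) (blockCoeff (blockOf M (χ₀ : G → ℂ))) =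
      blockCoeff (blockOf M (χ₀ : G → ℂ)) := by
  have := Fintype.ofFinite (IrrCharacter G)
  obtain ⟨u, hu, hl, ho'⟩ := blockIndicator_mem_goodSubring (M := M) χ₀
  have ho : ∀ χ : IrrCharacter G, omegaFn (χ : G → ℂ) u =
      if χ ∈ blockOf M (χ₀ : G → ℂ) then (1 : ℂ) else 0 := ho'
  have hueq : u = blockCoeff (blockOf M (χ₀ : G → ℂ)) := by
    funext g
    rw [classFunction_eq_sum_omega hu g]
    unfold blockCoeff
    congr 1
    rw [finsum_mem_eq_finite_toFinset_sum _ (Set.toFinite _)]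
    rw [← Finset.sum_filter_add_sum_filter_not Finset.univ
      (fun χ : IrrCharacter G => χ ∈ blockOf M (χ₀ : G → ℂ))]
    have h0 : ∑ χ ∈ Finset.univ.filter (fun χ : IrrCharacter G => ¬ χ ∈ blockOf M (χ₀ : G → ℂ)),
        (χ : G → ℂ) 1 * omegaFn (χ : G → ℂ) u * conj ((χ : G → ℂ) g) = 0 := by
      apply Finset.sum_eq_zero
      intro χ hχ
      rw [Finset.mem_filter] at hχ
      rw [ho χ, if_neg hχ.2, mul_zero, zero_mul]
    rw [h0, add_zero]
    apply Finset.sum_congr
    · ext χ
      simp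
    · intro χ hχ
      rw [Set.Finite.mem_toFinset] at hχ
      rw [ho χ, if_pos hχ, mul_one]
  rw [← hueq]
  refine ⟨hu, hl, ho, ?_⟩
  apply classFunction_ext_omega (cconv_isClassFunction hu hu) hu
  intro χ
  rw [omegaFn_cconv χ.2 u hu, ho χ]
  split_ifs <;> simp

end Osima

end Cfsg.Agent.helper24
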