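import Mathlib
import Cfsg.Agent.Lib_helper24_Osima

set_option autoImplicit false

namespace Cfsg.Agent.helper24

open Cfsg
open scoped ComplexConjugate

universe u

section ClassSums

variable {G : Type u} [Group G] [Fintype G]

open Classical in
/-- summing a class function over the group, class by class -/
theorem sum_classFunction_eq {F : G → ℂ} (hF : IsClassFunction G F) :
    ∑ g : G, F g = ∑ C : ConjClasses G,
      ((Subgroup.centralizer ({Quotient.out C} : Set G)).index : ℂ) * F (Quotient.out C) := by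
  classical
  have hfib := Finset.sum_fiberwise (s := (Finset.univ : Finset G))
    (g := (ConjClasses.mk : G → ConjClasses G)) (f := F)
  rw [← hfib]
  refine Finset.sum_congr rfl (fun C _ => ?_)
  obtain ⟨x, hx⟩ : ∃ x : G, x = Quotient.out C := ⟨_, rfl⟩
  rw [← hx]
  have hC : ConjClasses.mk x = C := by rw [hx]; exact Quotient.out_eq C
  have hfilter : Finset.univ.filter (fun g : G => ConjClasses.mk g = C) = helper23.conjFinset x := by
    ext g
    simp only [Finset.mem_filter, Finset.mem_univ, true_and, helper23.mem_conjFinset]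
    rw [← ConjClasses.mk_eq_mk_iff_isConj, hC]
    exact eq_comm
  rw [hfilter]
  have h4 : ∀ g ∈ helper23.conjFinset x, F g = F x := by
    intro g hg
    exact (isClassFunction_iff_isConj.mp hF x g (helper23.mem_conjFinset.mp hg)).symm
  rw [Finset.sum_congr rfl h4, Finset.sum_const, nsmul_eq_mul, helper23.card_conjFinset]

open Classical in
/-- the central character value of a central element, class by class -/
theorem omegaFn_eq_sum_classes {χ : G → ℂ} (hχ : IsCharacter G χ) {u : G → ℂ}
    (hu : IsClassFunction G u) :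
    omegaFn χ u = ∑ C : ConjClasses G, u (Quotient.out C) * centralChar χ (Quotient.out C) := by
  unfold omegaFn
  have hF : IsClassFunction G (fun h => u h * χ h) := by
    intro g k
    show u (k * g * k⁻¹) * χ (k * g * k⁻¹) = u g * χ g
    rw [hu g k, char_isClassFunction hχ g k]
  rw [sum_classFunction_eq hF, Finset.sum_div]
  refine Finset.sum_congr rfl (fun C _ => ?_)
  unfold centralChar
  ring

open Classical in
/-- central elements with local coefficients cannot separate characters of the same block -/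
theorem omegaFn_sub_memLocalIdeal {M : Ideal AlgInt} [hMp : M.IsPrime] {χ ψ : IrrCharacter G}
    (h : SameBlock M (χ : G → ℂ) (ψ : G → ℂ)) {u : G → ℂ} (hu : IsClassFunction G u)
    (hl : ∀ g, MemLocalRing M (u g)) :
    MemLocalIdeal M (omegaFn (χ : G → ℂ) u - omegaFn (ψ : G → ℂ) u) := by
  rw [omegaFn_eq_sum_classes (irr_isCharacter χ.2) hu,
    omegaFn_eq_sum_classes (irr_isCharacter ψ.2) hu, ← Finset.sum_sub_distrib]
  apply memLocalIdeal_sum
  intro C _
  rw [← mul_sub]
  exact memLocalIdeal_mul_left (hl _) (h _)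

open Classical in
theorem blockCoeff_eq_sum [Fintype (IrrCharacter G)] (A : Set (IrrCharacter G)) (g : G) :
    blockCoeff A g = (Nat.card G : ℂ)⁻¹ * ∑ χ ∈ Finset.univ.filter (fun χ => χ ∈ A),
      (χ : G → ℂ) 1 * conj ((χ : G → ℂ) g) := by
  unfold blockCoeff
  congr 1
  rw [finsum_mem_eq_finite_toFinset_sum _ (Set.toFinite _)]
  apply Finset.sum_congr
  · ext χ
    simp
  · intro _ _
    rfl

theorem blockCoeff_isClassFunction (A : Set (IrrCharacter G)) :
    IsClassFunction G (blockCoeff A) := by
  classical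
  have := Fintype.ofFinite (IrrCharacter G)
  intro g k
  rw [blockCoeff_eq_sum, blockCoeff_eq_sum]
  congr 1
  refine Finset.sum_congr rfl (fun χ _ => ?_)
  rw [char_isClassFunction (irr_isCharacter χ.2) g k]

open Classical in
/-- the central character values of the sum of the idempotents of a set of characters -/
theorem omegaFn_blockCoeff (A : Set (IrrCharacter G)) (ψ : IrrCharacter G) :
    omegaFn (ψ : G → ℂ) (blockCoeff A) = if ψ ∈ A then (1 : ℂ) else 0 := by
  have := Fintype.ofFinite (IrrCharacter G)
  unfold omegaFn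
  have h1 : ∑ h : G, blockCoeff A h * (ψ : G → ℂ) h =
      ∑ χ ∈ Finset.univ.filter (fun χ => χ ∈ A), (χ : G → ℂ) 1 *
        classInner (ψ : G → ℂ) (χ : G → ℂ) := by
    simp_rw [blockCoeff_eq_sum A, Finset.mul_sum, Finset.sum_mul]
    rw [Finset.sum_comm]
    refine Finset.sum_congr rfl (fun χ _ => ?_)
    unfold classInner
    rw [Finset.mul_sum, Finset.mul_sum]
    refine Finset.sum_congr rfl (fun h _ => ?_)
    ring
  rw [h1]
  have h2 : ∀ χ ∈ Finset.univ.filter (fun χ : IrrCharacter G => χ ∈ A),
      (χ : G → ℂ) 1 * classInner (ψ : G → ℂ) (χ : G → ℂ) =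
      if χ = ψ then (ψ : G → ℂ) 1 else 0 := by
    intro χ _
    rw [irr_classInner ψ.2 χ.2]
    by_cases hc : χ = ψ
    · subst hc
      rw [if_pos rfl, if_pos rfl, mul_one]
    · have : (ψ : G → ℂ) ≠ (χ : G → ℂ) := fun h => hc (Subtype.ext h.symm)
      rw [if_neg this, if_neg hc, mul_zero]
  rw [Finset.sum_congr rfl h2, Finset.sum_ite_eq']
  by_cases hψ : ψ ∈ A
  · rw [if_pos hψ, if_pos (by simpa using hψ)]
    exact div_self (irr_apply_one_ne_zero ψ.2)
  · rw [if_neg hψ, if_neg (by simpa using hψ), zero_div]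

end ClassSums

section Results

variable {G : Type u} [Group G] [Fintype G]

/-- a set of characters whose idempotent has local coefficients is a union of blocks -/
theorem block_subset_of_local (p : ℕ) (M : Ideal AlgInt) (hM : IsPModular p M)
    (A : Set (IrrCharacter G)) (hA : ∀ g : G, MemLocalRing M (blockCoeff A g))
    (χ : IrrCharacter G) (hχ : χ ∈ A) : blockOf M (χ : G → ℂ) ⊆ A := by
  classical
  have : M.IsPrime := hM.2.1.isPrime
  intro ψ hψ
  by_contra hψA
  have h1 := omegaFn_sub_memLocalIdeal (M := M) (show SameBlock M (χ : G → ℂ) (ψ : G → ℂ) from hψ)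
    (blockCoeff_isClassFunction A) hA
  rw [omegaFn_blockCoeff, omegaFn_blockCoeff, if_pos hχ, if_neg hψA, sub_zero] at h1
  exact not_memLocalIdeal_one h1

theorem sameBlock_refl (M : Ideal AlgInt) (hM : M ≠ ⊤) (χ : G → ℂ) : SameBlock M χ χ := by
  intro g
  rw [sub_self]
  exact memLocalIdeal_zero hM

theorem sameBlock_symm {M : Ideal AlgInt} {χ ψ : G → ℂ} (h : SameBlock M χ ψ) :
    SameBlock M ψ χ := by
  intro g
  have := memLocalIdeal_neg (h g)
  rwa [neg_sub] at this

theorem sameBlock_trans {M : Ideal AlgInt} [M.IsPrime] {χ ψ φ : G → ℂ} (h1 : SameBlock M χ ψ)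
    (h2 : SameBlock M ψ φ) : SameBlock M χ φ := by
  intro g
  have := memLocalIdeal_add (h1 g) (h2 g)
  have e : centralChar χ g - centralChar ψ g + (centralChar ψ g - centralChar φ g) =
      centralChar χ g - centralChar φ g := by ring
  rwa [e] at this

/-- every block has a defect class -/
theorem exists_defectClass (p : ℕ) (M : Ideal AlgInt) (hM : IsPModular p M)
    (B : Set (IrrCharacter G)) (hB : IsPBlock M B) : ∃ g : G, IsDefectClass M B g := by
  classical
  have hMp : M.IsPrime := hM.2.1.isPrime
  have hMtop : M ≠ ⊤ := hMp.ne_top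
  obtain ⟨χ₀, rfl⟩ := hB
  obtain ⟨hcf, hl, ho, -⟩ := blockCoeff_props (M := M) χ₀
  have hχ₀ : χ₀ ∈ blockOf M (χ₀ : G → ℂ) := sameBlock_refl M hMtop _
  have h1 := ho χ₀
  rw [if_pos hχ₀, omegaFn_eq_sum_classes (irr_isCharacter χ₀.2) hcf] at h1
  by_contra hno
  push Not at hno
  apply not_memLocalIdeal_one (M := M)
  rw [← h1]
  apply memLocalIdeal_sum
  intro C _
  set g := Quotient.out C with hg
  by_contra hprod
  apply hno g
  have hω : MemLocalRing M (centralChar (χ₀ : G → ℂ) g) := centralChar_memLocalRing hMtop χ₀ g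
  refine ⟨hl g, ?_, ?_⟩
  · intro h
    apply hprod
    rw [mul_comm]
    exact memLocalIdeal_mul_left hω h
  · intro χ hχ h
    apply hprod
    have h2 : SameBlock M (χ₀ : G → ℂ) (χ : G → ℂ) := hχ
    have h3 := memLocalIdeal_add (h2 g) h
    rw [sub_add_cancel] at h3
    exact memLocalIdeal_mul_left (hl g) h3

end Results

end Cfsg.Agent.helper24
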