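import Mathlib
import Cfsg.Agent.Lib_helper24_BlockBasic
import Cfsg.Agent.Lib_helper23_ClassSum

set_option autoImplicit false

namespace Cfsg.Agent.helper24

open Cfsg
open scoped ComplexConjugate

universe u

section MatrixTrick

variable {n : Type*} [Fintype n] [DecidableEq n] {M : Ideal AlgInt} [hMp : M.IsPrime]

theorem memLocalRing_of_sub_memLocalIdeal {z c : ℂ} (hc : MemLocalRing M c)
    (h : MemLocalIdeal M (z - c)) : MemLocalRing M z := by
  have : z = (z - c) + c := by ring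
  rw [this]
  exact memLocalRing_add (memLocalRing_of_memLocalIdeal h) hc

theorem prod_sub_one_memLocalIdeal (s : Finset n) (f : n → ℂ)
    (h : ∀ i ∈ s, MemLocalIdeal M (f i - 1)) : MemLocalIdeal M (∏ i ∈ s, f i - 1) := by
  classical
  induction s using Finset.induction_on with
  | empty =>
    rw [Finset.prod_empty, sub_self]
    exact memLocalIdeal_zero hMp.ne_top
  | insert a s ha ih =>
    rw [Finset.prod_insert ha]
    have h1 : f a * ∏ i ∈ s, f i - 1 = (∏ i ∈ s, f i) * (f a - 1) + (∏ i ∈ s, f i - 1) := by ring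
    rw [h1]
    apply memLocalIdeal_add
    · apply memLocalIdeal_mul_left
      · apply memLocalRing_prod
        intro i hi
        exact memLocalRing_of_sub_memLocalIdeal (memLocalRing_one hMp.ne_top)
          (h i (Finset.mem_insert_of_mem hi))
      · exact h a (Finset.mem_insert_self a s)
    · exact ih (fun i hi => h i (Finset.mem_insert_of_mem hi))

/-- a matrix congruent to the identity has determinant congruent to one -/
theorem det_sub_one_memLocalIdeal (w : Matrix n n ℂ)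
    (hw : ∀ i j, MemLocalIdeal M (w i j - (1 : Matrix n n ℂ) i j)) :
    MemLocalIdeal M (w.det - 1) := by
  have hR : ∀ i j, MemLocalRing M (w i j) := by
    intro i j
    refine memLocalRing_of_sub_memLocalIdeal ?_ (hw i j)
    rw [Matrix.one_apply]
    split_ifs
    · exact memLocalRing_one hMp.ne_top
    · exact memLocalRing_zero hMp.ne_top
  have hmain : w.det - 1 = (∏ i, w i i - 1) +
      ∑ σ ∈ (Finset.univ.erase (1 : Equiv.Perm n)), Equiv.Perm.sign σ • ∏ i, w (σ i) i := by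
    rw [Matrix.det_apply, ← Finset.add_sum_erase Finset.univ _ (Finset.mem_univ (1 : Equiv.Perm n))]
    simp only [Equiv.Perm.sign_one, one_smul, Equiv.Perm.one_apply]
    ring
  rw [hmain]
  apply memLocalIdeal_add
  · apply prod_sub_one_memLocalIdeal
    intro i _
    have := hw i i
    rwa [Matrix.one_apply_eq] at this
  · apply memLocalIdeal_sum
    intro σ hσ
    have hσ1 : σ ≠ 1 := Finset.ne_of_mem_erase hσ
    obtain ⟨i, hi⟩ : ∃ i, σ i ≠ i := by
      by_contra hcon
      push Not at hcon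
      exact hσ1 (Equiv.ext hcon)
    have hprod : MemLocalIdeal M (∏ j, w (σ j) j) := by
      rw [← Finset.mul_prod_erase Finset.univ _ (Finset.mem_univ i), mul_comm]
      apply memLocalIdeal_mul_left
      · apply memLocalRing_prod
        intro j _
        exact hR _ _
      · have := hw (σ i) i
        rwa [Matrix.one_apply_ne hi, sub_zero] at this
    rcases Int.units_eq_one_or (Equiv.Perm.sign σ) with h | h
    · rw [h, one_smul]; exact hprod
    · rw [h, Units.neg_smul, one_smul]; exact memLocalIdeal_neg hprod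

/-- two idempotent matrices with local entries, congruent modulo the local ideal and commuting with
a matrix `P`, have the same trace against `P` -/
theorem trace_eq_of_idempotents_congr (L L' P : Matrix n n ℂ) (hL : L * L = L)
    (hL' : L' * L' = L') (hPL : P * L = L * P) (hPL' : P * L' = L' * P)
    (hR : ∀ i j, MemLocalRing M (L i j)) (hE : ∀ i j, MemLocalIdeal M (L' i j - L i j)) :
    (P * L').trace = (P * L).trace := by
  obtain ⟨w, hw⟩ : ∃ w : Matrix n n ℂ, w = L * L' + (1 - L) * (1 - L') := ⟨_, rfl⟩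
  have ha : L * (1 - L) = 0 := by rw [mul_sub, mul_one, hL, sub_self]
  have hb : (1 - L') * L' = 0 := by rw [sub_mul, one_mul, hL', sub_self]
  have h1 : L * w = L * L' := by
    rw [hw, mul_add, ← mul_assoc, hL, ← mul_assoc, ha, zero_mul, add_zero]
  have h2 : w * L' = L * L' := by
    rw [hw, add_mul, mul_assoc, hL', mul_assoc, hb, mul_zero, add_zero]
  have h3 : P * w = w * P := by
    have e1 : P * (L * L') = L * L' * P := by
      rw [← mul_assoc, hPL, mul_assoc, hPL', ← mul_assoc]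
    have a1 : P * (1 - L) = (1 - L) * P := by rw [mul_sub, sub_mul, mul_one, one_mul, hPL]
    have a2 : P * (1 - L') = (1 - L') * P := by rw [mul_sub, sub_mul, mul_one, one_mul, hPL']
    have e2 : P * ((1 - L) * (1 - L')) = (1 - L) * (1 - L') * P := by
      rw [← mul_assoc, a1, mul_assoc, a2, ← mul_assoc]
    rw [hw, mul_add, add_mul, e1, e2]
  have h4 : ∀ i j, MemLocalIdeal M (w i j - (1 : Matrix n n ℂ) i j) := by
    intro i j
    have hw' : w - 1 = (L * (L' - L) + L * (L' - L)) - (L' - L) := by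
      have : L * (L' - L) = L * L' - L := by rw [mul_sub, hL]
      rw [this, hw]
      noncomm_ring
    have h5 : w i j - (1 : Matrix n n ℂ) i j = (w - 1) i j := rfl
    have h6 : MemLocalIdeal M ((L * (L' - L)) i j) := by
      rw [Matrix.mul_apply]
      apply memLocalIdeal_sum
      intro k _
      rw [Matrix.sub_apply]
      exact memLocalIdeal_mul_left (hR i k) (hE k j)
    rw [h5, hw', Matrix.sub_apply, Matrix.add_apply]
    apply memLocalIdeal_sub
    · exact memLocalIdeal_add h6 h6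
    · rw [Matrix.sub_apply]; exact hE i j
  have hdet : w.det ≠ 0 := by
    intro h0
    have h7 := det_sub_one_memLocalIdeal (M := M) w h4
    rw [h0, zero_sub] at h7
    have h8 := memLocalIdeal_neg h7
    rw [neg_neg] at h8
    exact not_memLocalIdeal_one h8
  have hunit : IsUnit w.det := isUnit_iff_ne_zero.mpr hdet
  have h5 : w⁻¹ * w = 1 := Matrix.nonsing_inv_mul w hunit
  have h6 : w * w⁻¹ = 1 := Matrix.mul_nonsing_inv w hunit
  calc (P * L').trace = (w⁻¹ * w * (P * L')).trace := by rw [h5, one_mul]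
    _ = (w⁻¹ * (P * L * w)).trace := by
        congr 1
        rw [mul_assoc w⁻¹ w, ← mul_assoc w P, ← h3, mul_assoc P w, h2, ← h1, ← mul_assoc P L w]
    _ = (P * L * w * w⁻¹).trace := by rw [Matrix.trace_mul_comm]
    _ = (P * L).trace := by rw [mul_assoc (P * L), h6, mul_one]

end MatrixTrick

section Twist

variable {G : Type u} [Group G]

/-- a function on `G` which is multiplied by `ζ` along a permutation, given that `ζ` is trivial on
the exponents of all stabilisers -/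
theorem exists_twist (σ : Equiv.Perm G) (ζ : ℂ) (hζ0 : ζ ≠ 0)
    (h : ∀ (g : G) (k : ℤ), (σ ^ k) g = g → ζ ^ k = 1) :
    ∃ τ : G → ℂ, (∀ g, ∃ k : ℤ, τ g = ζ ^ k) ∧ ∀ g, τ (σ g) = ζ * τ g := by
  classical
  let s : Setoid G := Equiv.Perm.SameCycle.setoid σ
  let rep : G → G := fun g => (Quotient.mk s g).out
  have hrep : ∀ g, σ.SameCycle (rep g) g := fun g => Quotient.mk_out (s := s) g
  choose n hn using hrep
  refine ⟨fun g => ζ ^ n g, fun g => ⟨n g, rfl⟩, ?_⟩
  intro g
  have hr : rep (σ g) = rep g := by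
    show (Quotient.mk s (σ g)).out = (Quotient.mk s g).out
    congr 1
    apply Quotient.sound
    exact ⟨-1, by simp⟩
  have h1 : (σ ^ (n (σ g))) (rep g) = σ g := by rw [← hr]; exact hn (σ g)
  have h2 : (σ ^ (1 + n g)) (rep g) = σ g := by
    rw [zpow_one_add, Equiv.Perm.mul_apply, hn g]
  have h3 : (σ ^ (-(1 + n g) + n (σ g))) (rep g) = rep g := by
    rw [zpow_add, Equiv.Perm.mul_apply, h1, zpow_neg, Equiv.Perm.inv_eq_iff_eq, h2]
  have h4 := h (rep g) _ h3
  have hne : ζ * ζ ^ n g ≠ 0 := mul_ne_zero hζ0 (zpow_ne_zero _ hζ0)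
  rw [zpow_add₀ hζ0, zpow_neg, zpow_add₀ hζ0, zpow_one, inv_mul_eq_one₀ hne] at h4
  exact h4.symm

/-- the stabilisers of the two-sided action of a `p`-regular and a `p`-singular element have
exponents divisible by `p` -/
theorem zpow_fix_dvd {p : ℕ} (hp : p.Prime) (x y g : G) (hx : ¬ p ∣ orderOf x)
    (hy : p ∣ orderOf y) (k : ℤ) (hk : x ^ k * g * (y⁻¹) ^ k = g) : (p : ℤ) ∣ k := by
  have h1 : y ^ k = g⁻¹ * x ^ k * g := by
    have : x ^ k * g = g * y ^ k := by
      calc x ^ k * g = x ^ k * g * (y⁻¹) ^ k * y ^ k := by rw [inv_zpow, inv_mul_cancel_right]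
        _ = g * y ^ k := by rw [hk]
    rw [mul_assoc, this, inv_mul_cancel_left]
  have h2 : (y ^ k) ^ (orderOf x) = 1 := by
    rw [h1]
    have : g⁻¹ * x ^ k * g = (MulAut.conj g⁻¹) (x ^ k) := by simp
    rw [this, ← map_pow, ← zpow_natCast, ← zpow_mul, mul_comm, zpow_mul, zpow_natCast,
      pow_orderOf_eq_one, one_zpow, map_one]
  have h3 : y ^ (k * (orderOf x : ℤ)) = 1 := by rw [zpow_mul, zpow_natCast]; exact h2
  have h4 : (orderOf y : ℤ) ∣ k * (orderOf x : ℤ) := orderOf_dvd_iff_zpow_eq_one.mpr h3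
  have h5 : (p : ℤ) ∣ k * (orderOf x : ℤ) := dvd_trans (Int.natCast_dvd_natCast.mpr hy) h4
  rcases (Nat.prime_iff_prime_int.mp hp).dvd_or_dvd h5 with h6 | h6
  · exact h6
  · exact absurd (Int.natCast_dvd_natCast.mp h6) hx

end Twist

section GroupMatrices

variable {G : Type u} [Group G]

/-- the permutation `g ↦ x * g * y⁻¹` -/
def twoSided (x y : G) : Equiv.Perm G where
  toFun g := x * g * y⁻¹
  invFun g := x⁻¹ * g * y
  left_inv g := by group
  right_inv g := by group

theorem twoSided_zpow_apply (x y g : G) (k : ℤ) :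
    (twoSided x y ^ k) g = x ^ k * g * (y⁻¹) ^ k := by
  have h : twoSided x y = Equiv.mulLeft x * Equiv.mulRight y⁻¹ := by
    ext g; simp [twoSided, mul_assoc]
  have hc : Commute (Equiv.mulLeft x) (Equiv.mulRight y⁻¹) := by
    show Equiv.mulLeft x * Equiv.mulRight y⁻¹ = Equiv.mulRight y⁻¹ * Equiv.mulLeft x
    ext g; simp [mul_assoc]
  rw [h, hc.mul_zpow, Equiv.zpow_mulLeft, Equiv.zpow_mulRight]
  simp [mul_assoc]

variable [Fintype G] [DecidableEq G]

theorem sum_twisted_eq_zero {M : Ideal AlgInt} [hMp : M.IsPrime] {a : G → ℂ}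
    (hcf : IsClassFunction G a) (hloc : ∀ g, MemLocalRing M (a g)) (hidem : cconv a a = a)
    (x y : G) (τ : G → ℂ) (ζ : ℂ) (hζ : ζ ≠ 1) (hζ0 : ζ ≠ 0) (hτ0 : ∀ g, τ g ≠ 0)
    (hτ : ∀ g, τ (x * g * y⁻¹) = ζ * τ g)
    (hτJ : ∀ g h, MemLocalIdeal M (τ g * (τ h)⁻¹ - 1)) :
    ∑ g : G, a (x * g * y⁻¹ * g⁻¹) = 0 := by
  have key : ∀ g h : G, ∑ k : G, a (g * k⁻¹) * a (k * h⁻¹) = a (g * h⁻¹) := by
    intro g h
    have h1 := congrFun hidem (g * h⁻¹)
    unfold cconv at h1
    rw [← h1]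
    apply Fintype.sum_equiv ((Equiv.inv G).trans (Equiv.mulLeft g))
    intro k
    simp only [Equiv.trans_apply, Equiv.inv_apply, Equiv.coe_mulLeft]
    congr 2
    group
  obtain ⟨σ, hσ⟩ : ∃ σ : Equiv.Perm G, σ = twoSided x y := ⟨_, rfl⟩
  have hσa : ∀ g, σ g = x * g * y⁻¹ := fun g => by rw [hσ]; rfl
  have hσs : ∀ g, σ.symm g = x⁻¹ * g * y := fun g => by rw [hσ]; rfl
  have hτs : ∀ g, τ (σ.symm g) = ζ⁻¹ * τ g := by
    intro g
    have := hτ (σ.symm g)
    rw [← hσa, Equiv.apply_symm_apply] at this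
    rw [this, inv_mul_cancel_left₀ hζ0]
  have hcomm : ∀ g h : G, a (σ g * h⁻¹) = a (g * (σ.symm h)⁻¹) := by
    intro g h
    rw [hσa, hσs]
    have e1 : x * g * y⁻¹ * h⁻¹ = x * (g * y⁻¹ * h⁻¹ * x) * x⁻¹ := by group
    have e2 : g * (x⁻¹ * h * y)⁻¹ = g * y⁻¹ * h⁻¹ * x := by group
    rw [e1, hcf, e2]
  obtain ⟨L, hLdef⟩ : ∃ L : Matrix G G ℂ, L = Matrix.of fun g h => a (g * h⁻¹) := ⟨_, rfl⟩
  obtain ⟨L', hL'def⟩ : ∃ L' : Matrix G G ℂ,
    L' = Matrix.of fun g h => τ g * a (g * h⁻¹) * (τ h)⁻¹ := ⟨_, rfl⟩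
  obtain ⟨P, hPdef⟩ : ∃ P : Matrix G G ℂ, P = σ.toPEquiv.toMatrix := ⟨_, rfl⟩
  have hLa : ∀ g h, L g h = a (g * h⁻¹) := fun g h => by rw [hLdef]; rfl
  have hL'a : ∀ g h, L' g h = τ g * a (g * h⁻¹) * (τ h)⁻¹ := fun g h => by rw [hL'def]; rfl
  have hL : L * L = L := by
    ext g h
    rw [Matrix.mul_apply]
    simp only [hLa]
    exact key g h
  have hL' : L' * L' = L' := by
    ext g h
    rw [Matrix.mul_apply]
    simp only [hL'a]
    rw [← key g h, Finset.mul_sum, Finset.sum_mul]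
    refine Finset.sum_congr rfl (fun k _ => ?_)
    have := hτ0 k
    field_simp
  have hPL : P * L = L * P := by
    rw [hPdef, PEquiv.toMatrix_toPEquiv_mul, PEquiv.mul_toMatrix_toPEquiv]
    ext g h
    simp only [Matrix.submatrix_apply, id_eq, hLa]
    exact hcomm g h
  have hPL' : P * L' = L' * P := by
    rw [hPdef, PEquiv.toMatrix_toPEquiv_mul, PEquiv.mul_toMatrix_toPEquiv]
    ext g h
    simp only [Matrix.submatrix_apply, id_eq, hL'a]
    rw [hcomm g h, hτs, hσa, hτ]
    have := hτ0 h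
    field_simp
  have htr : (P * L).trace = ∑ g : G, a (x * g * y⁻¹ * g⁻¹) := by
    rw [hPdef, PEquiv.toMatrix_toPEquiv_mul, Matrix.trace]
    refine Finset.sum_congr rfl (fun g _ => ?_)
    simp only [Matrix.diag_apply, Matrix.submatrix_apply, id_eq, hLa, hσa]
  have htr' : (P * L').trace = ζ * ∑ g : G, a (x * g * y⁻¹ * g⁻¹) := by
    rw [hPdef, PEquiv.toMatrix_toPEquiv_mul, Matrix.trace, Finset.mul_sum]
    refine Finset.sum_congr rfl (fun g _ => ?_)
    simp only [Matrix.diag_apply, Matrix.submatrix_apply, id_eq, hL'a, hσa]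
    rw [hτ]
    have := hτ0 g
    field_simp
  have hR : ∀ i j, MemLocalRing M (L i j) := fun i j => by rw [hLa]; exact hloc _
  have hE : ∀ i j, MemLocalIdeal M (L' i j - L i j) := by
    intro g h
    rw [hLa, hL'a]
    have : τ g * a (g * h⁻¹) * (τ h)⁻¹ - a (g * h⁻¹) =
        a (g * h⁻¹) * (τ g * (τ h)⁻¹ - 1) := by ring
    rw [this]
    exact memLocalIdeal_mul_left (hloc _) (hτJ g h)
  have hfin := trace_eq_of_idempotents_congr (M := M) L L' P hL hL' hPL hPL' hR hE
  rw [htr, htr'] at hfin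
  have h9 : (ζ - 1) * ∑ g : G, a (x * g * y⁻¹ * g⁻¹) = 0 := by linear_combination hfin
  rcases mul_eq_zero.mp h9 with h | h
  · exact absurd (sub_eq_zero.mp h) hζ
  · exact h

/-- a central idempotent with local coefficients has vanishing "two-sided trace" at a pair of a
`p`-regular and a `p`-singular element -/
theorem sum_conjugation_eq_zero {p : ℕ} {M : Ideal AlgInt} (hM : IsPModular p M) {a : G → ℂ}
    (hcf : IsClassFunction G a) (hloc : ∀ g, MemLocalRing M (a g)) (hidem : cconv a a = a)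
    (x y : G) (hx : ¬ p ∣ orderOf x) (hy : p ∣ orderOf y) :
    ∑ g : G, a (x * g * y⁻¹ * g⁻¹) = 0 := by
  have hp : p.Prime := hM.1
  have hMp : M.IsPrime := hM.2.1.isPrime
  obtain ⟨ζ, hζ⟩ : ∃ ζ : ℂ, IsPrimitiveRoot ζ p := ⟨_, Complex.isPrimitiveRoot_exp p hp.ne_zero⟩
  have hζ0 : ζ ≠ 0 := hζ.ne_zero hp.ne_zero
  have hζ1 : ζ ≠ 1 := hζ.ne_one hp.one_lt
  have hζp : ζ ^ p = 1 := hζ.pow_eq_one
  have hstab : ∀ (g : G) (k : ℤ), (twoSided x y ^ k) g = g → ζ ^ k = 1 := by
    intro g k hk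
    rw [twoSided_zpow_apply] at hk
    obtain ⟨j, rfl⟩ := zpow_fix_dvd hp x y g hx hy k hk
    rw [zpow_mul, zpow_natCast, hζp, one_zpow]
  obtain ⟨τ, hτk, hτσ⟩ := exists_twist (twoSided x y) ζ hζ0 hstab
  have hτ0 : ∀ g, τ g ≠ 0 := by
    intro g
    obtain ⟨k, hk⟩ := hτk g
    rw [hk]
    exact zpow_ne_zero _ hζ0
  have hτJ : ∀ g h, MemLocalIdeal M (τ g * (τ h)⁻¹ - 1) := by
    intro g h
    obtain ⟨k, hk⟩ := hτk g
    obtain ⟨k', hk'⟩ := hτk h
    apply MemIdeal.memLocalIdeal hMp.ne_top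
    apply memIdeal_sub_one_of_pow hM (j := 1)
    rw [hk, hk', pow_one, ← zpow_neg, ← zpow_add₀ hζ0, ← zpow_natCast, ← zpow_mul, mul_comm,
      zpow_mul, zpow_natCast, hζp, one_zpow]
  exact sum_twisted_eq_zero hcf hloc hidem x y τ ζ hζ1 hζ0 hτ0 (fun g => hτσ g) hτJ

/-- **weak block orthogonality** -/
theorem weak_block_orthogonality (p : ℕ) (M : Ideal AlgInt) (hM : IsPModular p M)
    (B : Set (IrrCharacter G)) (hB : IsPBlock M B) (x y : G) (hx : ¬ p ∣ orderOf x)
    (hy : p ∣ orderOf y) : ∑ᶠ χ ∈ B, (χ : G → ℂ) x * conj ((χ : G → ℂ) y) = 0 := by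
  classical
  have hMp : M.IsPrime := hM.2.1.isPrime
  have := Fintype.ofFinite (IrrCharacter G)
  obtain ⟨χ₀, rfl⟩ := hB
  obtain ⟨hcf, hl, -, hidem⟩ := blockCoeff_props (M := M) χ₀
  have h0 := sum_conjugation_eq_zero hM hcf hl hidem x y hx hy
  obtain ⟨B, hBdef⟩ : ∃ B : Set (IrrCharacter G), B = blockOf M (χ₀ : G → ℂ) := ⟨_, rfl⟩
  rw [← hBdef] at h0 ⊢
  have h1 : ∑ g : G, blockCoeff B (x * g * y⁻¹ * g⁻¹) =
      ∑ χ ∈ Finset.univ.filter (fun χ => χ ∈ B), (χ : G → ℂ) y * conj ((χ : G → ℂ) x) := by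
    simp_rw [blockCoeff_eq_sum B]
    rw [← Finset.mul_sum, Finset.sum_comm, Finset.mul_sum]
    refine Finset.sum_congr rfl (fun χ _ => ?_)
    rw [← Finset.mul_sum, ← map_sum]
    have h2 : ∑ g : G, (χ : G → ℂ) (x * g * y⁻¹ * g⁻¹) =
        (Nat.card G : ℂ) * (χ : G → ℂ) y⁻¹ * (χ : G → ℂ) x / (χ : G → ℂ) 1 := by
      rw [← helper23.irr_sum_conj_mul χ y⁻¹ x]
      refine Finset.sum_congr rfl (fun g _ => ?_)
      have e : x * g * y⁻¹ * g⁻¹ = x * (g * y⁻¹ * g⁻¹ * x) * x⁻¹ := by group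
      rw [e, char_isClassFunction (irr_isCharacter χ.2)]
    rw [h2, char_inv (irr_isCharacter χ.2)]
    have hd : conj ((χ : G → ℂ) 1) = (χ : G → ℂ) 1 := by
      rw [← char_charDegree_cast (irr_isCharacter χ.2)]
      exact Complex.conj_natCast _
    have hne := irr_apply_one_ne_zero χ.2
    have hG : (Nat.card G : ℂ) ≠ 0 := by exact_mod_cast Nat.card_pos.ne'
    rw [map_div₀, map_mul, map_mul, Complex.conj_conj, hd, Complex.conj_natCast]
    field_simp
  rw [h1] at h0
  rw [finsum_mem_eq_finite_toFinset_sum _ (Set.toFinite _)]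
  have h3 : (Set.toFinite B).toFinset = Finset.univ.filter (fun χ => χ ∈ B) := by
    ext χ
    simp
  rw [h3]
  have h4 := congrArg conj h0
  rw [map_sum, map_zero] at h4
  rw [← h4]
  refine Finset.sum_congr rfl (fun χ _ => ?_)
  rw [map_mul, Complex.conj_conj, mul_comm]

end GroupMatrices

end Cfsg.Agent.helper24
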