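import Mathlib
import Cfsg.Prelude.Def_Characters

set_option autoImplicit false
set_option linter.style.haveILetI false
set_option linter.unusedSectionVars false

namespace Cfsg.Agent.helper1

open Representation

section
variable {G : Type*} [Monoid G] {V W : Type*} [AddCommGroup V] [Module ℂ V]
  [AddCommGroup W] [Module ℂ W]

/-- transport of a representation along a linear equivalence -/
noncomputable def repConj (ρ : Representation ℂ G V) (e : V ≃ₗ[ℂ] W) : Representation ℂ G W :=
  (e.conjRingEquiv : Module.End ℂ V →* Module.End ℂ W).comp ρ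

theorem repConj_apply (ρ : Representation ℂ G V) (e : V ≃ₗ[ℂ] W) (g : G) :
    repConj ρ e g = e.toLinearMap ∘ₗ ρ g ∘ₗ e.symm.toLinearMap := by
  ext w
  simp [repConj]

/-- the canonical equivalence with the transported representation -/
noncomputable def repConjEquiv (ρ : Representation ℂ G V) (e : V ≃ₗ[ℂ] W) :
    ρ.Equiv (repConj ρ e) :=
  Representation.Equiv.mk e (by
    intro g
    ext v
    simp [repConj_apply])

theorem repConj_eq_id_iff (ρ : Representation ℂ G V) (e : V ≃ₗ[ℂ] W) (g : G) :
    repConj ρ e g = LinearMap.id ↔ ρ g = LinearMap.id := by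
  rw [repConj_apply]
  constructor
  · intro h
    ext v
    have := congrArg (fun f => e.symm (f (e v))) h
    simpa using this
  · intro h
    ext w
    simp [h]

theorem repConj_eq_smul_id_iff (ρ : Representation ℂ G V) (e : V ≃ₗ[ℂ] W) (g : G) (ω : ℂ) :
    repConj ρ e g = ω • LinearMap.id ↔ ρ g = ω • LinearMap.id := by
  rw [repConj_apply]
  constructor
  · intro h
    ext v
    have := congrArg (fun f => e.symm (f (e v))) h
    simpa using this
  · intro h
    ext w
    simp [h]

/-- Irreducibility is preserved under equivalence. -/
theorem isIrreducible_of_equiv {ρ : Representation ℂ G V} {σ : Representation ℂ G W}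
    (φ : ρ.Equiv σ) (h : ρ.IsIrreducible) : σ.IsIrreducible := by
  have hVnt : Nontrivial V := by
    by_contra hV
    rw [not_nontrivial_iff_subsingleton] at hV
    obtain ⟨a, b, hab⟩ := h.toNontrivial
    apply hab
    apply Subrepresentation.toSubmodule_injective
    apply Subsingleton.elim
  have hWnt : Nontrivial W := φ.toLinearEquiv.toEquiv.symm.nontrivial
  refine { exists_pair_ne := ?_, eq_bot_or_eq_top := ?_ }
  · refine ⟨⊥, ⊤, ?_⟩
    intro h'
    have h2 : (⊥ : Subrepresentation σ).toSubmodule = (⊤ : Subrepresentation σ).toSubmodule := by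
      rw [h']
    exact bot_ne_top (α := Submodule ℂ W) h2
  · intro U
    let U' : Subrepresentation ρ :=
      { toSubmodule := U.toSubmodule.comap φ.toLinearMap
        apply_mem_toSubmodule := by
          intro g v hv
          rw [Submodule.mem_comap] at hv ⊢
          have := IntertwiningMap.isIntertwining ρ σ φ.toIntertwiningMap g v
          change φ (ρ g v) ∈ U.toSubmodule
          have h3 : φ (ρ g v) = σ g (φ v) := this
          rw [h3]
          exact U.apply_mem_toSubmodule g hv }
    rcases h.eq_bot_or_eq_top U' with h' | h'
    · left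
      apply Subrepresentation.toSubmodule_injective
      change U.toSubmodule = ⊥
      rw [eq_bot_iff]
      intro w hw
      have : φ.symm w ∈ U'.toSubmodule := by
        change φ.symm w ∈ U.toSubmodule.comap φ.toLinearMap
        rw [Submodule.mem_comap]
        change φ (φ.symm w) ∈ U.toSubmodule
        rw [φ.apply_symm_apply]; exact hw
      rw [h'] at this
      have h4 : φ.symm w = 0 := this
      have : w = φ (φ.symm w) := (φ.apply_symm_apply w).symm
      rw [this, h4]
      simp
    · right
      apply Subrepresentation.toSubmodule_injective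
      change U.toSubmodule = ⊤
      rw [eq_top_iff]
      intro w _
      have : φ.symm w ∈ U'.toSubmodule := by rw [h']; trivial
      have h5 : φ (φ.symm w) ∈ U.toSubmodule := this
      rwa [φ.apply_symm_apply] at h5

end

section
variable {G : Type*} [Monoid G] {V : Type*} [AddCommGroup V] [Module ℂ V] [FiniteDimensional ℂ V]

/-- the standard coordinatisation of a finite-dimensional space -/
noncomputable def finEquiv (V : Type*) [AddCommGroup V] [Module ℂ V] [FiniteDimensional ℂ V] :
    V ≃ₗ[ℂ] (Fin (Module.finrank ℂ V) → ℂ) :=
  (Module.finBasis ℂ V).equivFun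

/-- the coordinate version of a representation -/
noncomputable def finRep (ρ : Representation ℂ G V) :
    Representation ℂ G (Fin (Module.finrank ℂ V) → ℂ) :=
  repConj ρ (finEquiv V)

noncomputable def finRepEquiv (ρ : Representation ℂ G V) : ρ.Equiv (finRep ρ) :=
  repConjEquiv ρ (finEquiv V)

theorem finRep_character (ρ : Representation ℂ G V) : (finRep ρ).character = ρ.character :=
  (char_iso (finRepEquiv ρ)).symm

theorem finRep_isIrreducible (ρ : Representation ℂ G V) (h : ρ.IsIrreducible) :
    (finRep ρ).IsIrreducible :=
  isIrreducible_of_equiv (finRepEquiv ρ) h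

theorem isCharacter_character {G : Type*} [Group G] (ρ : Representation ℂ G V) :
    Cfsg.IsCharacter G ρ.character :=
  ⟨_, finRep ρ, finRep_character ρ⟩

theorem isIrrCharacter_character {G : Type*} [Group G] (ρ : Representation ℂ G V)
    (h : ρ.IsIrreducible) : Cfsg.IsIrrCharacter G ρ.character :=
  ⟨_, finRep ρ, finRep_isIrreducible ρ h, finRep_character ρ⟩

theorem finRep_eq_id_iff (ρ : Representation ℂ G V) (g : G) :
    finRep ρ g = LinearMap.id ↔ ρ g = LinearMap.id :=
  repConj_eq_id_iff ρ _ g

theorem finRep_eq_smul_id_iff (ρ : Representation ℂ G V) (g : G) (ω : ℂ) :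
    finRep ρ g = ω • LinearMap.id ↔ ρ g = ω • LinearMap.id :=
  repConj_eq_smul_id_iff ρ _ g ω

end

end Cfsg.Agent.helper1
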