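import Mathlib
import Cfsg.Agent.Lib_helper12_CharOps
import Cfsg.Agent.Lib_helper23_Schur

set_option autoImplicit false

namespace Cfsg.Agent.helper12

open Cfsg
open scoped ComplexConjugate

universe u
variable {G : Type u} [Group G]

/-- irreducible characters are preserved by group isomorphisms -/
theorem isIrrCharacter_comp_mulEquiv {H K : Type u} [Group H] [Group K] [Finite H] (φ : H ≃* K)
    {ψ : K → ℂ} (hψ : IsIrrCharacter K ψ) : IsIrrCharacter H (fun h => ψ (φ h)) := by
  classical
  have : Fintype H := Fintype.ofFinite _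
  have : Finite K := Finite.of_equiv H φ.toEquiv
  have : Fintype K := Fintype.ofFinite _
  have hchar : IsCharacter H (fun h => ψ (φ h)) := by
    obtain ⟨n, ρ, rfl⟩ := helper24.irr_isCharacter hψ
    exact ⟨n, ρ.comp φ.toMonoidHom, rfl⟩
  apply isIrrCharacter_of_classInner_self hchar
  have h1 := helper24.irr_classInner_self hψ
  unfold classInner at h1 ⊢
  rw [Nat.card_congr φ.toEquiv, ← h1]
  congr 1
  exact Fintype.sum_equiv φ.toEquiv _ _ (fun h => rfl)

/-- every irreducible character of a subgroup lies under an irreducible character of the group -/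
theorem exists_irr_over [Fintype G] (N : Subgroup G) [Fintype N] {ψ : N → ℂ} (hψ : IsIrrCharacter N ψ) :
    ∃ X : G → ℂ, IsIrrCharacter G X ∧ classInner (fun n : N => X n) ψ ≠ 0 := by
  classical
  have : Fintype (IrrCharacter G) := Fintype.ofFinite _
  have hind := isCharacter_indFun N (helper24.irr_isCharacter hψ)
  obtain ⟨n, hexp, hn, _⟩ := char_decomp hind
  by_contra hcon
  push Not at hcon
  have hzero : ∀ X : IrrCharacter G, n X = 0 := by
    intro X
    have h1 := hn X
    rw [classInner_indFun_eq_restrict N ψ _ (helper24.char_isClassFunction (helper24.irr_isCharacter X.2))] at h1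
    have h2 := hcon X X.2
    rw [← helper24.classInner_conj_symm, h2, map_zero] at h1
    exact_mod_cast h1.symm
  have h0 : indFun N ψ = 0 := by
    rw [hexp]
    apply Finset.sum_eq_zero
    intro X _
    rw [hzero X, Nat.cast_zero, zero_smul]
  have h1 := helper24.irr_classInner_self hψ
  have h2 := classInner_indFun_eq_restrict N ψ (indFun N ψ) (indFun_isClassFunction N ψ)
  rw [h0] at h2
  -- ⟨ψ, 0⟩ = 0 but also (Ind ψ)(1) ≠ 0
  have h3 : indFun N ψ 1 ≠ 0 := by
    unfold indFun
    have hx : ∀ x : G, extendByZero N ψ (x⁻¹ * 1 * x) = ψ 1 := by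
      intro x
      have : x⁻¹ * 1 * x = ((1 : N) : G) := by simp
      rw [this, extendByZero_of_mem' N ψ _ (1 : N).2]
    rw [Finset.sum_congr rfl (fun x _ => hx x), Finset.sum_const, Finset.card_univ, nsmul_eq_mul]
    apply mul_ne_zero
    · apply inv_ne_zero
      exact_mod_cast Nat.card_pos.ne'
    · apply mul_ne_zero
      · exact_mod_cast Fintype.card_ne_zero
      · exact helper24.irr_apply_one_ne_zero hψ
  rw [h0] at h3
  exact h3 rfl

/-- values on a normal subgroup of the function induced from it -/
theorem indFun_normal_apply [Fintype G] (N : Subgroup G) [N.Normal] (ψ : N → ℂ) (n : N) :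
    indFun N ψ n = (Nat.card N : ℂ)⁻¹ * ∑ x : G, ψ (MulAut.conjNormal x n) := by
  unfold indFun
  congr 1
  refine Fintype.sum_equiv (Equiv.inv G) _ _ (fun x => ?_)
  have hmem : x⁻¹ * (n : G) * x ∈ N := by
    have := (MulAut.conjNormal x⁻¹ n).2
    rwa [MulAut.conjNormal_apply, inv_inv] at this
  rw [extendByZero_of_mem' N ψ _ hmem]
  congr 1
  apply Subtype.ext
  simp [MulAut.conjNormal_apply]

/-- Clifford: two irreducible constituents of the restriction of an irreducible character to a normal
subgroup are conjugate -/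
theorem clifford_conj [Fintype G] (N : Subgroup G) [N.Normal] [Fintype N] {X : G → ℂ} (hX : IsIrrCharacter G X)
    {ψ₁ ψ₂ : N → ℂ} (h1 : IsIrrCharacter N ψ₁) (h2 : IsIrrCharacter N ψ₂)
    (c1 : classInner (fun n : N => X n) ψ₁ ≠ 0) (c2 : classInner (fun n : N => X n) ψ₂ ≠ 0) :
    ∃ x : G, ψ₂ = fun n => ψ₁ (MulAut.conjNormal x n) := by
  classical
  have : Fintype (IrrCharacter G) := Fintype.ofFinite _
  by_contra hcon
  push Not at hcon
  -- the restriction of Ind ψ₁ to N is orthogonal to ψ₂
  have hres : classInner (fun n : N => indFun N ψ₁ n) ψ₂ = 0 := by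
    have e : (fun n : N => indFun N ψ₁ n) = (Nat.card N : ℂ)⁻¹ • ∑ x : G, (fun n : N => ψ₁ (MulAut.conjNormal x n)) := by
      funext n
      rw [indFun_normal_apply, Pi.smul_apply, Finset.sum_apply, smul_eq_mul]
    rw [e, helper24.classInner_smul_left, helper24.classInner_sum_left, Finset.sum_eq_zero, mul_zero]
    intro x _
    rw [helper24.irr_classInner (isIrrCharacter_comp_mulEquiv (MulAut.conjNormal x) h1) h2, if_neg]
    exact fun h => hcon x h.symm
  -- but X is a constituent of Ind ψ₁
  have hind := isCharacter_indFun N (helper24.irr_isCharacter h1)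
  obtain ⟨n, hexp, hn, _⟩ := char_decomp hind
  have hnX : n ⟨X, hX⟩ ≠ 0 := by
    have e1 := hn ⟨X, hX⟩
    rw [classInner_indFun_eq_restrict N ψ₁ _ (helper24.char_isClassFunction (helper24.irr_isCharacter hX))] at e1
    intro h0
    rw [h0, Nat.cast_zero, ← helper24.classInner_conj_symm] at e1
    exact c1 ((map_eq_zero _).mp e1)
  -- inner products of restrictions with ψ₂ are natural numbers
  choose k hk using fun Y : IrrCharacter G =>
    classInner_char_nat (isCharacter_restrict N (helper24.irr_isCharacter Y.2)) (helper24.irr_isCharacter h2)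
  have hkX : k ⟨X, hX⟩ ≠ 0 := by
    intro h0
    have := hk ⟨X, hX⟩
    rw [h0, Nat.cast_zero] at this
    exact c2 this
  have e2 : (fun m : N => indFun N ψ₁ m) = ∑ Y : IrrCharacter G, (n Y : ℂ) • (fun m : N => (Y : G → ℂ) m) := by
    funext m
    rw [hexp]
    simp [Finset.sum_apply]
  rw [e2, helper24.classInner_sum_left] at hres
  simp only [helper24.classInner_smul_left, hk] at hres
  have hres' : ∑ Y : IrrCharacter G, n Y * k Y = 0 := by exact_mod_cast hres
  have := (Finset.sum_eq_zero_iff.mp hres') ⟨X, hX⟩ (Finset.mem_univ _)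
  rcases Nat.mul_eq_zero.mp this with h | h
  · exact hnX h
  · exact hkX h

/-- transport of the inner product along a group isomorphism -/
theorem classInner_comp_mulEquiv {H K : Type*} [Group H] [Group K] [Fintype H] [Fintype K] (φ : H ≃* K)
    (f g : K → ℂ) : classInner (fun h => f (φ h)) (fun h => g (φ h)) = classInner f g := by
  unfold classInner
  rw [Nat.card_congr φ.toEquiv]
  congr 1
  exact Fintype.sum_equiv φ.toEquiv _ _ (fun h => rfl)

section hom
variable {N : Type u} [Group N] (ι : N →* G) (hι : Function.Injective ι)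

include hι in
/-- every irreducible character of `N` lies under an irreducible character of `G` -/
theorem exists_irr_over_hom [Fintype G] [Fintype N] {ψ : N → ℂ} (hψ : IsIrrCharacter N ψ) :
    ∃ X : G → ℂ, IsIrrCharacter G X ∧ classInner (fun n : N => X (ι n)) ψ ≠ 0 := by
  classical
  let e : N ≃* ι.range := MonoidHom.ofInjective hι
  have : Fintype ι.range := Fintype.ofFinite _
  have hψ' : IsIrrCharacter ι.range (fun r => ψ (e.symm r)) := isIrrCharacter_comp_mulEquiv e.symm hψ
  obtain ⟨X, hX, hne⟩ := exists_irr_over ι.range hψ'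
  refine ⟨X, hX, ?_⟩
  rw [← classInner_comp_mulEquiv e] at hne
  have e1 : (fun n : N => X (ι n)) = fun h => X ((e h : ι.range) : G) := rfl
  have e2 : ψ = fun h => ψ (e.symm (e h)) := by
    funext n
    rw [MulEquiv.symm_apply_apply]
  rw [e1, e2]
  exact hne

include hι in
/-- Clifford's theorem for an injective homomorphism with normal range -/
theorem clifford_conj_hom [Fintype G] [Fintype N] [ι.range.Normal] {X : G → ℂ} (hX : IsIrrCharacter G X)
    {ψ₁ ψ₂ : N → ℂ} (h1 : IsIrrCharacter N ψ₁) (h2 : IsIrrCharacter N ψ₂)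
    (c1 : classInner (fun n : N => X (ι n)) ψ₁ ≠ 0) (c2 : classInner (fun n : N => X (ι n)) ψ₂ ≠ 0) :
    ∃ x : G, ∀ g h : N, ι h = x * ι g * x⁻¹ → ψ₂ h = ψ₁ g := by
  classical
  let e : N ≃* ι.range := MonoidHom.ofInjective hι
  have : Fintype ι.range := Fintype.ofFinite _
  have h1' : IsIrrCharacter ι.range (fun r => ψ₁ (e.symm r)) := isIrrCharacter_comp_mulEquiv e.symm h1
  have h2' : IsIrrCharacter ι.range (fun r => ψ₂ (e.symm r)) := isIrrCharacter_comp_mulEquiv e.symm h2
  have key : ∀ ψ : N → ℂ, classInner (fun r : ι.range => X r) (fun r => ψ (e.symm r))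
      = classInner (fun n : N => X (ι n)) ψ := by
    intro ψ
    rw [← classInner_comp_mulEquiv e]
    have e2 : ψ = fun h => ψ (e.symm (e h)) := by
      funext n
      rw [MulEquiv.symm_apply_apply]
    conv_rhs => rw [e2]
    rfl
  obtain ⟨x, hx⟩ := clifford_conj ι.range hX h1' h2' (by rw [key]; exact c1) (by rw [key]; exact c2)
  refine ⟨x⁻¹, ?_⟩
  intro g h hgh
  have h3 := congrFun hx (e h)
  simp only [MulEquiv.symm_apply_apply] at h3
  rw [h3]
  congr 1
  apply hι
  have : ι (e.symm (MulAut.conjNormal x (e h))) = ((MulAut.conjNormal x (e h) : ι.range) : G) := by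
    have := e.apply_symm_apply (MulAut.conjNormal x (e h))
    exact congrArg Subtype.val this
  rw [this, MulAut.conjNormal_apply]
  have he : ((e h : ι.range) : G) = ι h := rfl
  rw [he, hgh]
  group

end hom

end Cfsg.Agent.helper12
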