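import Mathlib
import Cfsg.Prelude.Def_Characters
import Cfsg.Agent.Lib_helper8_Ind
import Cfsg.Agent.Lib_helper12_CharOps
import Cfsg.Agent.Lib_helper24_Char

set_option autoImplicit false

namespace Cfsg.Agent.helper5

open Cfsg Cfsg.Agent.helper8 Cfsg.Agent.helper12 Cfsg.Agent.helper24
open scoped ComplexConjugate

variable {G : Type*} [Group G]

/-- Restriction of a function to a subgroup. -/
def res (N : Subgroup G) (F : G → ℂ) : N → ℂ := fun n => F n

theorem res_apply (N : Subgroup G) (F : G → ℂ) (n : N) : res N F n = F n := rfl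

theorem res_add (N : Subgroup G) (F₁ F₂ : G → ℂ) : res N (F₁ + F₂) = res N F₁ + res N F₂ := rfl

theorem res_smul (N : Subgroup G) (c : ℂ) (F : G → ℂ) : res N (c • F) = c • res N F := rfl

theorem res_sum (N : Subgroup G) {ι : Type*} (s : Finset ι) (F : ι → G → ℂ) :
    res N (∑ i ∈ s, F i) = ∑ i ∈ s, res N (F i) := by
  funext n
  simp [res, Finset.sum_apply]

theorem isCharacter_res (N : Subgroup G) {χ : G → ℂ} (hχ : IsCharacter G χ) :
    IsCharacter N (res N χ) := isCharacter_restrict N hχ

/-- The inner product of a restricted class function with a conjugate of `θ`. -/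
theorem classInner_res_conjFunN [Fintype G] (N : Subgroup G) [hN : N.Normal] [Fintype N]
    (F : G → ℂ) (hF : IsClassFunction G F) (g : G) (θ : N → ℂ) :
    classInner (res N F) (conjFunN N g θ) = classInner (res N F) θ := by
  unfold classInner
  congr 1
  let e : N ≃ N := (MulAut.conjNormal g : N ≃* N).toEquiv
  have he : ∀ n : N, ((e n : N) : G) = g * n * g⁻¹ := fun n => rfl
  rw [← Equiv.sum_comp e (fun m => res N F m * conj (θ m))]
  apply Finset.sum_congr rfl
  intro n _
  have h1 : res N F (e n) = res N F n := by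
    rw [res_apply, res_apply, he]
    exact hF n g
  rw [h1]
  rfl

/-- The restriction of an induced function from a normal subgroup, paired with `φ`. -/
theorem classInner_res_indFun [Fintype G] (N : Subgroup G) [hN : N.Normal] [Fintype N]
    (θ φ : N → ℂ) :
    classInner (res N (indFun N θ)) φ =
      (Nat.card N : ℂ)⁻¹ * ∑ x : G, classInner (conjFunN N x⁻¹ θ) φ := by
  have h := indFun_restrict_normal N θ
  have h' : res N (indFun N θ) = (Nat.card N : ℂ)⁻¹ • ∑ x : G, conjFunN N x⁻¹ θ := h
  rw [h', classInner_smul_left, classInner_sum_left]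

/-- Frobenius reciprocity in the form used here. -/
theorem classInner_indFun_irr [Fintype G] (N : Subgroup G) [Fintype N] (θ : N → ℂ) {χ : G → ℂ}
    (hχ : IsCharacter G χ) :
    classInner (indFun N θ) χ = classInner θ (res N χ) :=
  classInner_indFun_eq_restrict N θ χ (char_isClassFunction hχ)

/-- **Clifford**: the irreducible constituents of the restriction of an irreducible character to a
normal subgroup are conjugate. -/
theorem clifford_conj [Fintype G] (N : Subgroup G) [hN : N.Normal] [Fintype N] {χ : G → ℂ}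
    (hχ : IsIrrCharacter G χ) {θ φ : N → ℂ} (hθ : IsIrrCharacter N θ) (hφ : IsIrrCharacter N φ)
    (h1 : classInner (res N χ) θ ≠ 0) (h2 : classInner (res N χ) φ ≠ 0) :
    ∃ g : G, φ = conjFunN N g θ := by
  classical
  haveI : Fintype (IrrCharacter G) := Fintype.ofFinite _
  by_contra hcon
  push Not at hcon
  have hzero : classInner (res N (indFun N θ)) φ = 0 := by
    rw [classInner_res_indFun, Finset.sum_eq_zero, mul_zero]
    intro x _
    exact irr_classInner_ne (isIrrCharacter_conjFunN N x⁻¹ hθ) hφ (fun h => hcon x⁻¹ h.symm)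
  have hind : IsCharacter G (indFun N θ) := isCharacter_indFun N (irr_isCharacter hθ)
  obtain ⟨a, hexp, ha, _⟩ := char_decomp hind
  have hm : ∀ ψ : IrrCharacter G, ∃ m : ℕ, classInner (res N (ψ : G → ℂ)) φ = m := fun ψ =>
    classInner_char_nat (isCharacter_res N (irr_isCharacter ψ.2)) (irr_isCharacter hφ)
  choose m hm using hm
  have hsum : classInner (res N (indFun N θ)) φ =
      ((∑ ψ : IrrCharacter G, a ψ * m ψ : ℕ) : ℂ) := by
    conv_lhs => rw [hexp]
    rw [res_sum, classInner_sum_left, Nat.cast_sum]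
    apply Finset.sum_congr rfl
    intro ψ _
    rw [res_smul, classInner_smul_left, hm ψ]
    push_cast
    rfl
  rw [hsum] at hzero
  have hzero' : ∑ ψ : IrrCharacter G, a ψ * m ψ = 0 := by exact_mod_cast hzero
  have hterm := (Finset.sum_eq_zero_iff.mp hzero') ⟨χ, hχ⟩ (Finset.mem_univ _)
  have haχ : a ⟨χ, hχ⟩ ≠ 0 := by
    intro h0
    have := ha ⟨χ, hχ⟩
    rw [h0, classInner_indFun_irr N θ (irr_isCharacter hχ)] at this
    apply h1
    rw [← classInner_conj_symm, this]
    simp
  have hmχ : m ⟨χ, hχ⟩ ≠ 0 := by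
    intro h0
    have := hm ⟨χ, hχ⟩
    rw [h0] at this
    apply h2
    simpa using this
  rcases Nat.mul_eq_zero.mp hterm with h | h
  · exact haχ h
  · exact hmχ h

/-- **Clifford**, invariant case: if `θ` is `G`-invariant, the restriction is a multiple of `θ`. -/
theorem clifford_invariant [Fintype G] (N : Subgroup G) [hN : N.Normal] [Fintype N] {χ : G → ℂ}
    (hχ : IsIrrCharacter G χ) {θ : N → ℂ} (hθ : IsIrrCharacter N θ)
    (hinv : ∀ g : G, conjFunN N g θ = θ) (h1 : classInner (res N χ) θ ≠ 0) :
    ∃ e : ℕ, res N χ = (e : ℂ) • θ ∧ classInner (res N χ) θ = e ∧ e ≠ 0 := by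
  classical
  haveI : Fintype (IrrCharacter N) := Fintype.ofFinite _
  obtain ⟨n, hexp, hn, _⟩ := char_decomp (isCharacter_res N (irr_isCharacter hχ))
  refine ⟨n ⟨θ, hθ⟩, ?_, hn ⟨θ, hθ⟩, ?_⟩
  · conv_lhs => rw [hexp]
    rw [Finset.sum_eq_single ⟨θ, hθ⟩]
    · intro φ _ hφ
      have : n φ = 0 := by
        by_contra h0
        have h2 : classInner (res N χ) (φ : N → ℂ) ≠ 0 := by
          rw [hn φ]
          exact_mod_cast h0
        obtain ⟨g, hg⟩ := clifford_conj N hχ hθ φ.2 h1 h2
        rw [hinv g] at hg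
        exact hφ (Subtype.ext hg)
      rw [this]
      simp
    · intro h
      exact absurd (Finset.mem_univ _) h
  · intro h0
    apply h1
    rw [hn ⟨θ, hθ⟩, h0]
    simp

/-- The degree of an induced function. -/
theorem indFun_one [Fintype G] (N : Subgroup G) (θ : N → ℂ) :
    indFun N θ 1 = (N.index : ℂ) * θ 1 := by
  unfold indFun
  have : ∀ x : G, extendByZero N θ (x⁻¹ * 1 * x) = θ 1 := by
    intro x
    have h1 : x⁻¹ * 1 * x = ((1 : N) : G) := by simp
    rw [h1, helper5.extendByZero_coe]
  rw [Finset.sum_congr rfl (fun x _ => this x), Finset.sum_const, Finset.card_univ, nsmul_eq_mul,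
    ← Nat.card_eq_fintype_card, ← Subgroup.card_mul_index N]
  have hN0 : (Nat.card N : ℂ) ≠ 0 := by exact_mod_cast (Nat.card_pos (α := N)).ne'
  push_cast
  field_simp

end Cfsg.Agent.helper5

namespace Cfsg.Agent.helper5

open Cfsg Cfsg.Agent.helper8 Cfsg.Agent.helper12 Cfsg.Agent.helper24
open scoped ComplexConjugate

variable {G : Type*} [Group G]

/-- Restriction of the function induced from an invariant function on a normal subgroup. -/
theorem res_indFun_of_invariant [Fintype G] (N : Subgroup G) [hN : N.Normal] [Fintype N]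
    (θ : N → ℂ) (hinv : ∀ g : G, conjFunN N g θ = θ) :
    res N (indFun N θ) = (N.index : ℂ) • θ := by
  have h : res N (indFun N θ) = (Nat.card N : ℂ)⁻¹ • ∑ x : G, conjFunN N x⁻¹ θ :=
    indFun_restrict_normal N θ
  rw [h, Finset.sum_congr rfl (fun x _ => hinv x⁻¹), Finset.sum_const, Finset.card_univ,
    ← Nat.card_eq_fintype_card, ← Subgroup.card_mul_index N]
  have hN0 : (Nat.card N : ℂ) ≠ 0 := by exact_mod_cast (Nat.card_pos (α := N)).ne'
  rw [← Nat.cast_smul_eq_nsmul ℂ, smul_smul]
  congr 1
  push_cast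
  field_simp

/-- Norm of the function induced from an invariant irreducible character. -/
theorem classInner_indFun_self_of_invariant [Fintype G] (N : Subgroup G) [hN : N.Normal]
    [Fintype N] {θ : N → ℂ} (hθ : IsIrrCharacter N θ) (hinv : ∀ g : G, conjFunN N g θ = θ) :
    classInner (indFun N θ) (indFun N θ) = (N.index : ℂ) := by
  have h1 := classInner_indFun_eq_restrict N θ (indFun N θ)
    (Cfsg.Agent.helper8.indFun_isClassFunction N θ)
  have h2 : (fun h : N => indFun N θ (h : G)) = (N.index : ℂ) • θ :=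
    res_indFun_of_invariant N θ hinv
  rw [h1, h2, classInner_smul_right, irr_classInner_self hθ, Complex.conj_natCast, mul_one]

end Cfsg.Agent.helper5
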