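import Mathlib
import Cfsg.Agent.Lib_helper5_Clifford
import Cfsg.Agent.Lib_helper12_Clifford
import Cfsg.Agent.Lib_helper24_Char

set_option autoImplicit false
set_option linter.unusedSectionVars false
set_option linter.unusedVariables false

/-!
Clifford correspondence (helper22), on top of helper5/helper8/helper12.

* `conjIrrAction` : `G` acts on `IrrCharacter N` for `N` normal, `inertia N θ` its stabilizer;
* `degree_ge_orbit` : `χ(1) ≥ [G : T] * [χ_N, θ] * θ(1)`;
* `clifford_degree` : there is `ψ ∈ Irr(T)` under `χ`, with `ψ_N = k θ` and `χ(1) = [G : T] ψ(1)`.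
-/

namespace Cfsg.Agent.helper22

open Cfsg
open scoped ComplexConjugate

universe u

section Action
variable {G : Type u} [Group G] (N : Subgroup G) [hN : N.Normal]

theorem conjFunN_conjFunN (g g' : G) (θ : N → ℂ) :
    helper8.conjFunN N g (helper8.conjFunN N g' θ) = helper8.conjFunN N (g' * g) θ := by
  funext h
  simp only [helper8.conjFunN_apply]
  congr 1
  apply Subtype.ext
  simp [mul_assoc]

theorem conjFunN_one (θ : N → ℂ) : helper8.conjFunN N 1 θ = θ := by
  funext h
  simp [helper8.conjFunN_apply]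

/-- the conjugation action of `G` on the irreducible characters of a normal subgroup -/
noncomputable instance conjIrrAction : MulAction G (IrrCharacter N) where
  smul g μ := ⟨helper8.conjFunN N g⁻¹ (μ : N → ℂ), helper8.isIrrCharacter_conjFunN N g⁻¹ μ.2⟩
  one_smul μ := by
    apply Subtype.ext
    show helper8.conjFunN N (1 : G)⁻¹ (μ : N → ℂ) = μ
    rw [inv_one, conjFunN_one]
  mul_smul g g' μ := by
    apply Subtype.ext
    show helper8.conjFunN N (g * g')⁻¹ (μ : N → ℂ) =
      helper8.conjFunN N g⁻¹ (helper8.conjFunN N g'⁻¹ (μ : N → ℂ))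
    rw [conjFunN_conjFunN, _root_.mul_inv_rev]

theorem conjIrr_smul_coe (g : G) (μ : IrrCharacter N) :
    ((g • μ : IrrCharacter N) : N → ℂ) = helper8.conjFunN N g⁻¹ (μ : N → ℂ) := rfl

/-- the inertia subgroup of an irreducible character of a normal subgroup -/
noncomputable def inertia (θ : IrrCharacter N) : Subgroup G := MulAction.stabilizer G θ

theorem mem_inertia {θ : IrrCharacter N} {g : G} :
    g ∈ inertia N θ ↔ helper8.conjFunN N g (θ : N → ℂ) = θ := by
  constructor
  · intro h
    have h1 : g⁻¹ ∈ inertia N θ := (inertia N θ).inv_mem h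
    have h2 : g⁻¹ • θ = θ := MulAction.mem_stabilizer_iff.mp h1
    have h3 := congrArg Subtype.val h2
    rw [conjIrr_smul_coe, inv_inv] at h3
    exact h3
  · intro h
    have h1 : g⁻¹ ∈ inertia N θ := by
      apply MulAction.mem_stabilizer_iff.mpr
      apply Subtype.ext
      rw [conjIrr_smul_coe, inv_inv]
      exact h
    have := (inertia N θ).inv_mem h1
    rwa [inv_inv] at this

theorem le_inertia (θ : IrrCharacter N) : N ≤ inertia N θ := by
  intro n hn
  rw [mem_inertia]
  funext h
  rw [helper8.conjFunN_apply]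
  have := helper24.char_isClassFunction (helper24.irr_isCharacter θ.2) h ⟨n, hn⟩
  exact this

end Action

section Degree
variable {G : Type u} [Group G] [Fintype G] (N : Subgroup G) [hN : N.Normal] [Fintype N]

theorem charDegree_conjFunN (g : G) (μ : N → ℂ) :
    charDegree (helper8.conjFunN N g μ) = charDegree μ := by
  unfold charDegree
  rw [helper8.conjFunN_apply]
  congr 3
  apply Subtype.ext
  simp

/-- the degree of `χ` is at least `[G : T] * [χ_N, θ] * θ(1)` -/
theorem degree_ge_orbit {χ : G → ℂ} (hχ : IsIrrCharacter G χ) (θ : IrrCharacter N) (e : ℕ)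
    (he : classInner (helper5.res N χ) (θ : N → ℂ) = e) :
    (inertia N θ).index * e * charDegree (θ : N → ℂ) ≤ charDegree χ := by
  classical
  haveI : Fintype (IrrCharacter N) := Fintype.ofFinite _
  obtain ⟨n, hexp, hn, -⟩ :=
    helper12.char_decomp (helper5.isCharacter_res N (helper24.irr_isCharacter hχ))
  have hdeg : charDegree χ = ∑ μ : IrrCharacter N, n μ * charDegree (μ : N → ℂ) := by
    have h1 : (χ 1 : ℂ) = ∑ μ : IrrCharacter N, (n μ : ℂ) * (μ : N → ℂ) 1 := by
      have := congrFun hexp 1
      rw [helper5.res_apply] at this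
      rw [show ((1 : N) : G) = 1 from rfl] at this
      rw [this, Finset.sum_apply]
      rfl
    have h2 : ((charDegree χ : ℕ) : ℂ) =
        ((∑ μ : IrrCharacter N, n μ * charDegree (μ : N → ℂ) : ℕ) : ℂ) := by
      rw [helper24.char_charDegree_cast (helper24.irr_isCharacter hχ), h1]
      push_cast
      refine Finset.sum_congr rfl (fun μ _ => ?_)
      rw [helper24.char_charDegree_cast (helper24.irr_isCharacter μ.2)]
    exact_mod_cast h2
  have hfin : (MulAction.orbit G θ).Finite := Set.toFinite _
  have hterm : ∀ μ ∈ hfin.toFinset, n μ * charDegree (μ : N → ℂ) =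
      e * charDegree (θ : N → ℂ) := by
    intro μ hμ
    rw [Set.Finite.mem_toFinset] at hμ
    obtain ⟨g, rfl⟩ := hμ
    have h1 : (n (g • θ) : ℂ) = e := by
      rw [← hn, ← he]
      exact helper5.classInner_res_conjFunN N χ
        (helper24.char_isClassFunction (helper24.irr_isCharacter hχ)) g⁻¹ (θ : N → ℂ)
    have h2 : n (g • θ) = e := by exact_mod_cast h1
    rw [h2]
    congr 1
    exact charDegree_conjFunN N g⁻¹ (θ : N → ℂ)
  calc (inertia N θ).index * e * charDegree (θ : N → ℂ)
      = hfin.toFinset.card * (e * charDegree (θ : N → ℂ)) := by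
        rw [inertia, MulAction.index_stabilizer, Set.ncard_eq_toFinset_card _ hfin, mul_assoc]
    _ = ∑ μ ∈ hfin.toFinset, n μ * charDegree (μ : N → ℂ) := by
        rw [Finset.sum_congr rfl hterm, Finset.sum_const, smul_eq_mul]
    _ ≤ ∑ μ : IrrCharacter N, n μ * charDegree (μ : N → ℂ) :=
        Finset.sum_le_sum_of_subset (Finset.subset_univ _)
    _ = charDegree χ := hdeg.symm

end Degree

section Correspondence
variable {G : Type u} [Group G] [Fintype G] (N : Subgroup G) [hN : N.Normal] [Fintype N]

/-- **Clifford correspondence, degree form.** For `χ ∈ Irr(G)` over `θ ∈ Irr(N)` with inertia group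
`T`, there is `ψ ∈ Irr(T)` under `χ` with `ψ_N = k θ` and `χ(1) = [G : T] ψ(1)`. -/
theorem clifford_degree {χ : G → ℂ} (hχ : IsIrrCharacter G χ) (θ : IrrCharacter N)
    (h1 : classInner (helper5.res N χ) (θ : N → ℂ) ≠ 0)
    (T : Subgroup G) [Fintype T] (hT : T = inertia N θ) :
    ∃ ψ : T → ℂ, IsIrrCharacter T ψ ∧
      classInner (helper5.res T χ) ψ ≠ 0 ∧
      (∃ k : ℕ, k ≠ 0 ∧ ∀ a : N.subgroupOf T,
        ψ (a : T) = (k : ℂ) * (θ : N → ℂ) ⟨((a : T) : G), a.2⟩) ∧
      charDegree χ = T.index * charDegree ψ := by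
  classical
  haveI : Fintype (IrrCharacter T) := Fintype.ofFinite _
  have hNT : N ≤ T := by rw [hT]; exact le_inertia N θ
  obtain ⟨N', hN'⟩ : ∃ N' : Subgroup T, N' = N.subgroupOf T := ⟨_, rfl⟩
  haveI : N'.Normal := by rw [hN']; exact Subgroup.normal_subgroupOf
  haveI : Fintype N' := Fintype.ofFinite _
  subst hN'
  let ε : N.subgroupOf T ≃* N := Subgroup.subgroupOfEquivOfLe hNT
  obtain ⟨θ', hθ'⟩ : ∃ θ' : N.subgroupOf T → ℂ, θ' = fun a => (θ : N → ℂ) (ε a) := ⟨_, rfl⟩
  have hθ'irr : IsIrrCharacter (N.subgroupOf T) θ' := by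
    rw [hθ']
    exact helper12.isIrrCharacter_comp_mulEquiv ε θ.2
  have hinv : ∀ t : T, helper8.conjFunN (N.subgroupOf T) t θ' = θ' := by
    intro t
    funext a
    rw [helper8.conjFunN_apply]
    have ht : helper8.conjFunN N (t : G) (θ : N → ℂ) = θ := by
      apply (mem_inertia N).mp
      rw [← hT]
      exact t.2
    have h2 := congrFun ht (ε a)
    rw [helper8.conjFunN_apply] at h2
    rw [hθ']
    show (θ : N → ℂ) (ε _) = (θ : N → ℂ) (ε a)
    rw [← h2]
    congr 1
  obtain ⟨m, hmexp, hm, -⟩ :=
    helper12.char_decomp (helper5.isCharacter_res T (helper24.irr_isCharacter hχ))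
  choose k hk using fun ψ : IrrCharacter T =>
    helper12.classInner_char_nat
      (helper5.isCharacter_res (N.subgroupOf T) (helper24.irr_isCharacter ψ.2))
      (helper24.irr_isCharacter hθ'irr)
  obtain ⟨e, he⟩ := helper12.classInner_char_nat
    (helper5.isCharacter_res N (helper24.irr_isCharacter hχ)) (helper24.irr_isCharacter θ.2)
  have he0 : e ≠ 0 := by
    intro h
    apply h1
    rw [he, h]
    simp
  have hsum : e = ∑ ψ : IrrCharacter T, m ψ * k ψ := by
    have h2 : classInner (helper5.res (N.subgroupOf T) (helper5.res T χ)) θ' =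
        classInner (helper5.res N χ) (θ : N → ℂ) := by
      rw [hθ']
      exact helper12.classInner_comp_mulEquiv ε (helper5.res N χ) (θ : N → ℂ)
    have h3 : helper5.res (N.subgroupOf T) (helper5.res T χ) =
        ∑ ψ : IrrCharacter T, (m ψ : ℂ) • helper5.res (N.subgroupOf T) (ψ : T → ℂ) := by
      rw [hmexp, helper5.res_sum]
      rfl
    rw [h3, helper24.classInner_sum_left] at h2
    simp only [helper24.classInner_smul_left, hk] at h2
    rw [he] at h2
    exact_mod_cast h2.symm
  obtain ⟨ψ, hψm, hψk⟩ : ∃ ψ : IrrCharacter T, m ψ ≠ 0 ∧ k ψ ≠ 0 := by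
    by_contra hcon
    push Not at hcon
    apply he0
    rw [hsum]
    apply Finset.sum_eq_zero
    intro ψ _
    by_cases h : m ψ = 0
    · rw [h, zero_mul]
    · rw [hcon ψ h, mul_zero]
  have hek : k ψ ≤ e := by
    rw [hsum]
    calc k ψ ≤ m ψ * k ψ := Nat.le_mul_of_pos_left _ (Nat.pos_of_ne_zero hψm)
      _ ≤ ∑ ψ' : IrrCharacter T, m ψ' * k ψ' :=
        Finset.single_le_sum (f := fun ψ' => m ψ' * k ψ') (fun _ _ => Nat.zero_le _)
          (Finset.mem_univ ψ)
  obtain ⟨k', hres, hk', hk'0⟩ := helper5.clifford_invariant (N.subgroupOf T) ψ.2 hθ'irr hinv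
    (by rw [hk ψ]; exact_mod_cast hψk)
  have hkk : k' = k ψ := by
    have := hk ψ
    rw [hk'] at this
    exact_mod_cast this
  have hdegψ : charDegree (ψ : T → ℂ) = k' * charDegree (θ : N → ℂ) := by
    have h2 := congrFun hres 1
    rw [helper5.res_apply, Pi.smul_apply, smul_eq_mul] at h2
    have h3 : θ' 1 = (θ : N → ℂ) 1 := by
      rw [hθ']
      show (θ : N → ℂ) (ε 1) = _
      rw [map_one]
    rw [h3, show ((1 : N.subgroupOf T) : T) = 1 from rfl] at h2
    have h4 : ((charDegree (ψ : T → ℂ) : ℕ) : ℂ) = ((k' * charDegree (θ : N → ℂ) : ℕ) : ℂ) := by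
      rw [helper24.char_charDegree_cast (helper24.irr_isCharacter ψ.2), h2]
      push_cast
      rw [helper24.char_charDegree_cast (helper24.irr_isCharacter θ.2)]
    exact_mod_cast h4
  have hge : T.index * charDegree (ψ : T → ℂ) ≤ charDegree χ := by
    have h2 := degree_ge_orbit N hχ θ e he
    rw [← hT] at h2
    calc T.index * charDegree (ψ : T → ℂ) = T.index * (k' * charDegree (θ : N → ℂ)) := by
          rw [hdegψ]
      _ ≤ T.index * (e * charDegree (θ : N → ℂ)) := by
          apply Nat.mul_le_mul_left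
          apply Nat.mul_le_mul_right
          rw [hkk]
          exact hek
      _ = T.index * e * charDegree (θ : N → ℂ) := by ring
      _ ≤ charDegree χ := h2
  have hle : charDegree χ ≤ T.index * charDegree (ψ : T → ℂ) := by
    haveI : Fintype (IrrCharacter G) := Fintype.ofFinite _
    have hind := helper12.isCharacter_indFun T (helper24.irr_isCharacter ψ.2)
    obtain ⟨n', hexp', hn', -⟩ := helper12.char_decomp hind
    have hχn : n' ⟨χ, hχ⟩ ≠ 0 := by
      intro h0
      have h2 := hn' ⟨χ, hχ⟩
      rw [h0, Nat.cast_zero, helper5.classInner_indFun_irr T _ (helper24.irr_isCharacter hχ)] at h2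
      have h3 : classInner (helper5.res T χ) (ψ : T → ℂ) = 0 := by
        rw [← helper24.classInner_conj_symm, h2, map_zero]
      rw [hm ψ] at h3
      exact hψm (by exact_mod_cast h3)
    have hdeg : T.index * charDegree (ψ : T → ℂ) =
        ∑ Y : IrrCharacter G, n' Y * charDegree (Y : G → ℂ) := by
      have h2 : (indFun T (ψ : T → ℂ)) 1 = ∑ Y : IrrCharacter G, (n' Y : ℂ) * (Y : G → ℂ) 1 := by
        have := congrFun hexp' 1
        rw [this, Finset.sum_apply]
        rfl
      have h3 : ((T.index * charDegree (ψ : T → ℂ) : ℕ) : ℂ) =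
          ((∑ Y : IrrCharacter G, n' Y * charDegree (Y : G → ℂ) : ℕ) : ℂ) := by
        push_cast
        rw [helper24.char_charDegree_cast (helper24.irr_isCharacter ψ.2), ← helper5.indFun_one, h2]
        refine Finset.sum_congr rfl (fun Y _ => ?_)
        rw [helper24.char_charDegree_cast (helper24.irr_isCharacter Y.2)]
      exact_mod_cast h3
    rw [hdeg]
    calc charDegree χ ≤ n' ⟨χ, hχ⟩ * charDegree χ :=
          Nat.le_mul_of_pos_left _ (Nat.pos_of_ne_zero hχn)
      _ ≤ _ := Finset.single_le_sum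
          (f := fun Y : IrrCharacter G => n' Y * charDegree (Y : G → ℂ))
          (fun _ _ => Nat.zero_le _) (Finset.mem_univ (⟨χ, hχ⟩ : IrrCharacter G))
  refine ⟨ψ, ψ.2, ?_, ⟨k', hk'0, ?_⟩, le_antisymm hle hge⟩
  · rw [hm ψ]
    exact_mod_cast hψm
  · intro a
    have := congrFun hres a
    rw [helper5.res_apply, Pi.smul_apply, smul_eq_mul, hθ'] at this
    exact this

end Correspondence

end Cfsg.Agent.helper22
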