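import Mathlib
import Cfsg.Prelude.Def_Characters
import Cfsg.Agent.Lib_helper8_Ind
import Cfsg.Agent.Lib_helper12_CharOps

set_option autoImplicit false

/-!
Clifford correspondence (shared library, helper8): linearity of `indFun`, induction in stages,
the norm of a character induced from a normal subgroup, and the Clifford correspondence.
-/

namespace Cfsg.Agent.helper8

open scoped ComplexConjugate
open Cfsg.Agent.helper24 Cfsg.Agent.helper5

universe u
variable {G : Type u} [Group G]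

theorem extendByZero_add (H : Subgroup G) (θ₁ θ₂ : H → ℂ) (g : G) :
    extendByZero H (θ₁ + θ₂) g = extendByZero H θ₁ g + extendByZero H θ₂ g := by
  by_cases hg : g ∈ H
  · rw [extendByZero_of_mem H _ g hg, extendByZero_of_mem H _ g hg,
      extendByZero_of_mem H _ g hg, Pi.add_apply]
  · rw [extendByZero_of_not_mem H _ g hg, extendByZero_of_not_mem H _ g hg,
      extendByZero_of_not_mem H _ g hg, add_zero]

theorem extendByZero_smul (H : Subgroup G) (c : ℂ) (θ : H → ℂ) (g : G) :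
    extendByZero H (c • θ) g = c * extendByZero H θ g := by
  by_cases hg : g ∈ H
  · rw [extendByZero_of_mem H _ g hg, extendByZero_of_mem H _ g hg, Pi.smul_apply, smul_eq_mul]
  · rw [extendByZero_of_not_mem H _ g hg, extendByZero_of_not_mem H _ g hg, mul_zero]

theorem indFun_add [Fintype G] (H : Subgroup G) (θ₁ θ₂ : H → ℂ) :
    indFun H (θ₁ + θ₂) = indFun H θ₁ + indFun H θ₂ := by
  funext g
  show (Nat.card H : ℂ)⁻¹ * ∑ x : G, extendByZero H (θ₁ + θ₂) (x⁻¹ * g * x)
    = (Nat.card H : ℂ)⁻¹ * ∑ x : G, extendByZero H θ₁ (x⁻¹ * g * x)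
      + (Nat.card H : ℂ)⁻¹ * ∑ x : G, extendByZero H θ₂ (x⁻¹ * g * x)
  rw [← mul_add, ← Finset.sum_add_distrib]
  congr 1
  apply Finset.sum_congr rfl
  intro x _
  rw [extendByZero_add]

theorem indFun_smul [Fintype G] (H : Subgroup G) (c : ℂ) (θ : H → ℂ) :
    indFun H (c • θ) = c • indFun H θ := by
  funext g
  show (Nat.card H : ℂ)⁻¹ * ∑ x : G, extendByZero H (c • θ) (x⁻¹ * g * x)
    = c * ((Nat.card H : ℂ)⁻¹ * ∑ x : G, extendByZero H θ (x⁻¹ * g * x))
  have hx : ∀ x : G, extendByZero H (c • θ) (x⁻¹ * g * x)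
      = c * extendByZero H θ (x⁻¹ * g * x) := fun x => extendByZero_smul H c θ _
  rw [Finset.sum_congr rfl (fun x _ => hx x), ← Finset.mul_sum]
  ring

/-- `indFun` as a linear map. -/
noncomputable def indFunLin [Fintype G] (H : Subgroup G) : (H → ℂ) →ₗ[ℂ] (G → ℂ) where
  toFun := indFun H
  map_add' := indFun_add H
  map_smul' := fun c θ => by
    rw [indFun_smul, RingHom.id_apply]

theorem indFunLin_apply [Fintype G] (H : Subgroup G) (θ : H → ℂ) : indFunLin H θ = indFun H θ :=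
  rfl

theorem indFun_sum [Fintype G] (H : Subgroup G) {ι : Type*} (s : Finset ι) (f : ι → H → ℂ) :
    indFun H (∑ i ∈ s, f i) = ∑ i ∈ s, indFun H (f i) := by
  have := map_sum (indFunLin H) f s
  simpa only [indFunLin_apply] using this

theorem indFun_one_eq [Fintype G] (H : Subgroup G) (θ : H → ℂ) :
    indFun H θ 1 = (Nat.card H : ℂ)⁻¹ * ((Nat.card G : ℂ) * θ 1) := by
  show (Nat.card H : ℂ)⁻¹ * ∑ x : G, extendByZero H θ (x⁻¹ * 1 * x) = _
  congr 1
  have hx : ∀ x : G, extendByZero H θ (x⁻¹ * 1 * x) = θ 1 := by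
    intro x
    have : x⁻¹ * 1 * x = ((1 : H) : G) := by simp
    rw [this, extendByZero_coe]
  rw [Finset.sum_congr rfl (fun x _ => hx x), Finset.sum_const, Finset.card_univ, nsmul_eq_mul,
    Nat.card_eq_fintype_card]

/-- Extension by zero of a function on `H.subgroupOf T`, evaluated on `T`. -/
theorem extendByZero_subgroupOf (H T : Subgroup G) (θ : H → ℂ) (z : T) :
    extendByZero (H.subgroupOf T)
      (fun x => θ ⟨((x : T) : G), Subgroup.mem_subgroupOf.mp x.2⟩) z
      = extendByZero H θ (z : G) := by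
  by_cases hz : (z : G) ∈ H
  · have hz' : z ∈ H.subgroupOf T := Subgroup.mem_subgroupOf.mpr hz
    rw [extendByZero_of_mem _ _ z hz', extendByZero_of_mem H θ _ hz]
  · have hz' : z ∉ H.subgroupOf T := fun h => hz (Subgroup.mem_subgroupOf.mp h)
    rw [extendByZero_of_not_mem _ _ z hz', extendByZero_of_not_mem H θ _ hz]

/-- Induction in stages. -/
theorem indFun_trans [Fintype G] (H T : Subgroup G) [Fintype T] (hHT : H ≤ T) (θ : H → ℂ) :
    indFun T (indFun (H.subgroupOf T)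
      (fun x => θ ⟨((x : T) : G), Subgroup.mem_subgroupOf.mp x.2⟩)) = indFun H θ := by
  have hcard : Nat.card (H.subgroupOf T) = Nat.card H :=
    Nat.card_congr (Subgroup.subgroupOfEquivOfLe hHT).toEquiv
  have hT0 : (Nat.card T : ℂ) ≠ 0 := by exact_mod_cast (Nat.card_pos (α := T)).ne'
  -- step A
  have hA : ∀ y : G, extendByZero T (indFun (H.subgroupOf T)
      (fun x => θ ⟨((x : T) : G), Subgroup.mem_subgroupOf.mp x.2⟩)) y
      = (Nat.card H : ℂ)⁻¹ * ∑ t : T, extendByZero H θ ((t : G)⁻¹ * y * t) := by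
    intro y
    by_cases hy : y ∈ T
    · rw [extendByZero_of_mem T _ y hy]
      show (Nat.card (H.subgroupOf T) : ℂ)⁻¹ * ∑ t : T, extendByZero (H.subgroupOf T)
        (fun x => θ ⟨((x : T) : G), Subgroup.mem_subgroupOf.mp x.2⟩) (t⁻¹ * ⟨y, hy⟩ * t) = _
      rw [hcard]
      congr 1
      apply Finset.sum_congr rfl
      intro t _
      rw [extendByZero_subgroupOf]
      rfl
    · rw [extendByZero_of_not_mem T _ y hy, Finset.sum_eq_zero, mul_zero]
      intro t _
      apply extendByZero_of_not_mem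
      intro h
      apply hy
      have h1 : (t : G)⁻¹ * y * t ∈ T := hHT h
      have h2 := T.mul_mem (T.mul_mem t.2 h1) (T.inv_mem t.2)
      have e : (t : G) * ((t : G)⁻¹ * y * t) * (t : G)⁻¹ = y := by group
      rwa [e] at h2
  funext g
  show (Nat.card T : ℂ)⁻¹ * ∑ x : G, extendByZero T (indFun (H.subgroupOf T)
      (fun x => θ ⟨((x : T) : G), Subgroup.mem_subgroupOf.mp x.2⟩)) (x⁻¹ * g * x)
    = (Nat.card H : ℂ)⁻¹ * ∑ x : G, extendByZero H θ (x⁻¹ * g * x)
  simp_rw [hA]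
  rw [← Finset.mul_sum, Finset.sum_comm]
  have hB : ∀ t : T, ∑ x : G, extendByZero H θ ((t : G)⁻¹ * (x⁻¹ * g * x) * t)
      = ∑ x : G, extendByZero H θ (x⁻¹ * g * x) := by
    intro t
    apply Fintype.sum_equiv (Equiv.mulRight (t : G))
    intro x
    congr 1
    simp only [Equiv.coe_mulRight]
    group
  rw [Finset.sum_congr rfl (fun t _ => hB t), Finset.sum_const, Finset.card_univ, nsmul_eq_mul,
    ← Nat.card_eq_fintype_card]
  field_simp

theorem card_filter_mem_subgroup [Fintype G] (K : Subgroup G) [DecidablePred (· ∈ K)] :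
    (Finset.univ.filter (· ∈ K)).card = Nat.card K := by
  letI : Fintype K := Fintype.ofFinite K
  rw [Nat.card_eq_fintype_card, Fintype.card_of_subtype (Finset.univ.filter (· ∈ K)) (by simp)]

open Classical in
/-- Norm of the function induced from an irreducible character of a normal subgroup. -/
theorem norm_indFun_normal [Fintype G] (H : Subgroup G) [hN : H.Normal] [Fintype H] {θ : H → ℂ}
    (hθ : IsIrrCharacter H θ) :
    classInner (indFun H θ) (indFun H θ)
      = (Nat.card H : ℂ)⁻¹ * ∑ x : G, (if conjFunN H x θ = θ then (1 : ℂ) else 0) := by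
  rw [frobenius H θ (indFun H θ) (Cfsg.Agent.helper8.indFun_isClassFunction H θ),
    indFun_restrict_normal, classInner_smul_right, classInner_sum_right, map_inv₀, map_natCast]
  congr 1
  apply Fintype.sum_equiv (Equiv.inv G)
  intro x
  rw [irr_classInner hθ (isIrrCharacter_conjFunN H x⁻¹ hθ)]
  simp only [Equiv.inv_apply]
  by_cases h : conjFunN H x⁻¹ θ = θ
  · rw [if_pos h.symm, if_pos h]
  · rw [if_neg (fun h' => h h'.symm), if_neg h]

/-- Norm of the function induced from an irreducible character of a normal subgroup, in terms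
of the inertia group. -/
theorem norm_indFun_inertia [Fintype G] (H T : Subgroup G) [hN : H.Normal] [Fintype H] {θ : H → ℂ}
    (hθ : IsIrrCharacter H θ) (hT : ∀ g : G, g ∈ T ↔ conjFunN H g θ = θ) :
    classInner (indFun H θ) (indFun H θ) = (Nat.card H : ℂ)⁻¹ * (Nat.card T : ℂ) := by
  classical
  rw [norm_indFun_normal H hθ]
  congr 1
  have hx : ∀ x : G, (if conjFunN H x θ = θ then (1 : ℂ) else 0) = if x ∈ T then 1 else 0 := by
    intro x
    by_cases hx : x ∈ T
    · rw [if_pos hx, if_pos ((hT x).mp hx)]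
    · rw [if_neg hx, if_neg (fun h => hx ((hT x).mpr h))]
  rw [Finset.sum_congr rfl (fun x _ => hx x), Finset.sum_boole, card_filter_mem_subgroup]

/-- A character not vanishing at `1` has norm at least one. -/
theorem one_le_norm_of_char [Fintype G] {χ : G → ℂ} (hχ : IsCharacter G χ) (h1 : χ 1 ≠ 0) (a : ℕ)
    (ha : classInner χ χ = a) : 1 ≤ a := by
  classical
  haveI : Fintype (IrrCharacter G) := Fintype.ofFinite _
  obtain ⟨m, hexp, hm, hnorm⟩ := helper12.char_decomp hχ
  by_contra hlt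
  have ha0 : a = 0 := by omega
  rw [ha, ha0] at hnorm
  have hsum : (∑ Ψ : IrrCharacter G, m Ψ ^ 2) = 0 := by exact_mod_cast hnorm.symm
  have hm0 : ∀ Ψ, m Ψ = 0 := by
    intro Ψ
    have := (Finset.sum_eq_zero_iff.mp hsum) Ψ (Finset.mem_univ _)
    exact (pow_eq_zero_iff two_ne_zero).mp this
  apply h1
  rw [hexp, Finset.sum_apply]
  apply Finset.sum_eq_zero
  intro Ψ _
  rw [hm0 Ψ]
  simp

/-- Clifford correspondence: for `θ` an irreducible character of the normal subgroup `H` with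
inertia group `T`, induction to `G` maps the irreducible characters of `T` lying over `θ`
injectively to irreducible characters of `G`. -/
theorem clifford_corr [Fintype G] (H T : Subgroup G) [hN : H.Normal] [Fintype T] (θ : H → ℂ)
    (hθ : IsIrrCharacter H θ) (hT : ∀ g : G, g ∈ T ↔ conjFunN H g θ = θ) (hHT : H ≤ T)
    (ψ ψ' : T → ℂ) (hψ : IsIrrCharacter T ψ) (hψ' : IsIrrCharacter T ψ')
    (hc : classInner (indFun (H.subgroupOf T)
      (fun x : H.subgroupOf T => θ ⟨((x : T) : G), Subgroup.mem_subgroupOf.mp x.2⟩)) ψ ≠ 0)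
    (hc' : classInner (indFun (H.subgroupOf T)
      (fun x : H.subgroupOf T => θ ⟨((x : T) : G), Subgroup.mem_subgroupOf.mp x.2⟩)) ψ' ≠ 0) :
    classInner (indFun T ψ) (indFun T ψ') = if ψ = ψ' then 1 else 0 := by
  classical
  haveI : Fintype H := Fintype.ofFinite H
  haveI : Fintype (H.subgroupOf T) := Fintype.ofFinite _
  haveI : Fintype (IrrCharacter T) := Fintype.ofFinite _
  have hcard : Nat.card (H.subgroupOf T) = Nat.card H :=
    Nat.card_congr (Subgroup.subgroupOfEquivOfLe hHT).toEquiv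
  have hT0 : (Nat.card T : ℂ) ≠ 0 := by exact_mod_cast (Nat.card_pos (α := T)).ne'
  have hG0 : (Nat.card G : ℂ) ≠ 0 := by exact_mod_cast (Nat.card_pos (α := G)).ne'
  have hθ' : IsIrrCharacter (H.subgroupOf T)
      (fun x : H.subgroupOf T => θ ⟨((x : T) : G), Subgroup.mem_subgroupOf.mp x.2⟩) :=
    Cfsg.Agent.helper8.isIrrCharacter_comp_mulEquiv (Subgroup.subgroupOfEquivOfLe hHT) hθ
  have hTT : ∀ t : T, t ∈ (⊤ : Subgroup T) ↔ conjFunN (H.subgroupOf T) t
      (fun x : H.subgroupOf T => θ ⟨((x : T) : G), Subgroup.mem_subgroupOf.mp x.2⟩)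
      = (fun x : H.subgroupOf T => θ ⟨((x : T) : G), Subgroup.mem_subgroupOf.mp x.2⟩) := by
    intro t
    constructor
    · intro _
      funext x
      have := congr_fun ((hT t).mp t.2) ⟨((x : T) : G), Subgroup.mem_subgroupOf.mp x.2⟩
      exact this
    · intro _; exact Subgroup.mem_top t
  have hnormT := norm_indFun_inertia (H.subgroupOf T) ⊤ hθ' hTT
  rw [Subgroup.card_top, hcard] at hnormT
  have hnormG := norm_indFun_inertia H T hθ hT
  obtain ⟨D, hDdef⟩ : ∃ D : T → ℂ, D = indFun (H.subgroupOf T)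
      (fun x : H.subgroupOf T => θ ⟨((x : T) : G), Subgroup.mem_subgroupOf.mp x.2⟩) := ⟨_, rfl⟩
  rw [← hDdef] at hc hc' hnormT
  have hD : IsCharacter T D := by
    rw [hDdef]; exact helper12.isCharacter_indFun _ (irr_isCharacter hθ')
  obtain ⟨n, hexp, hn, hnorm⟩ := helper12.char_decomp hD
  have hexpG : indFun H θ = ∑ Ψ : IrrCharacter T, (n Ψ : ℂ) • indFun T (Ψ : T → ℂ) := by
    rw [← indFun_trans H T hHT θ, ← hDdef]
    conv_lhs => rw [hexp]
    rw [indFun_sum]
    apply Finset.sum_congr rfl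
    intro Ψ _
    rw [indFun_smul]
  choose a ha using fun Ψ Ψ' : IrrCharacter T => helper12.classInner_char_nat
    (helper12.isCharacter_indFun T (irr_isCharacter Ψ.2))
    (helper12.isCharacter_indFun T (irr_isCharacter Ψ'.2))
  have ha1 : ∀ Ψ : IrrCharacter T, 1 ≤ a Ψ Ψ := by
    intro Ψ
    apply one_le_norm_of_char (helper12.isCharacter_indFun T (irr_isCharacter Ψ.2)) _ _ (ha Ψ Ψ)
    rw [indFun_one_eq]
    exact mul_ne_zero (inv_ne_zero hT0) (mul_ne_zero hG0 (irr_apply_one_ne_zero Ψ.2))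
  have hexpand : classInner (indFun H θ) (indFun H θ)
      = ((∑ Ψ : IrrCharacter T, ∑ Ψ' : IrrCharacter T, n Ψ * n Ψ' * a Ψ Ψ' : ℕ) : ℂ) := by
    conv_lhs => rw [hexpG]
    rw [classInner_sum_left]
    push_cast
    apply Finset.sum_congr rfl
    intro Ψ _
    rw [classInner_smul_left, classInner_sum_right, Finset.mul_sum]
    apply Finset.sum_congr rfl
    intro Ψ' _
    rw [classInner_smul_right, map_natCast, ha]
    ring
  have hnat : ∑ Ψ : IrrCharacter T, ∑ Ψ' : IrrCharacter T, n Ψ * n Ψ' * a Ψ Ψ'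
      = ∑ Ψ : IrrCharacter T, n Ψ ^ 2 := by
    have : ((∑ Ψ : IrrCharacter T, ∑ Ψ' : IrrCharacter T, n Ψ * n Ψ' * a Ψ Ψ' : ℕ) : ℂ)
        = ((∑ Ψ : IrrCharacter T, n Ψ ^ 2 : ℕ) : ℂ) := by
      rw [← hexpand, ← hnorm, hnormG, hnormT]
    exact_mod_cast this
  have hle : ∀ p ∈ (Finset.univ : Finset (IrrCharacter T × IrrCharacter T)),
      (if p.1 = p.2 then n p.1 ^ 2 else 0) ≤ n p.1 * n p.2 * a p.1 p.2 := by
    rintro ⟨Ψ, Ψ'⟩ _
    by_cases h : Ψ = Ψ'
    · subst h
      rw [if_pos rfl]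
      calc n Ψ ^ 2 = n Ψ * n Ψ * 1 := by ring
        _ ≤ n Ψ * n Ψ * a Ψ Ψ := Nat.mul_le_mul_left _ (ha1 Ψ)
    · rw [if_neg h]; exact Nat.zero_le _
  have hsumeq : ∑ p : IrrCharacter T × IrrCharacter T, (if p.1 = p.2 then n p.1 ^ 2 else 0)
      = ∑ p : IrrCharacter T × IrrCharacter T, n p.1 * n p.2 * a p.1 p.2 := by
    rw [Fintype.sum_prod_type, Fintype.sum_prod_type, hnat]
    apply Finset.sum_congr rfl
    intro Ψ _
    simp
  have hpt := (Finset.sum_eq_sum_iff_of_le hle).mp hsumeq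
  have hnψ : n ⟨ψ, hψ⟩ ≠ 0 := by
    intro h0
    apply hc
    have := hn ⟨ψ, hψ⟩
    rw [h0, Nat.cast_zero] at this
    exact this
  have hnψ' : n ⟨ψ', hψ'⟩ ≠ 0 := by
    intro h0
    apply hc'
    have := hn ⟨ψ', hψ'⟩
    rw [h0, Nat.cast_zero] at this
    exact this
  by_cases h : ψ = ψ'
  · subst h
    rw [if_pos rfl]
    have h2 := hpt (⟨ψ, hψ⟩, ⟨ψ, hψ⟩) (Finset.mem_univ _)
    rw [if_pos rfl] at h2
    have ha' : a ⟨ψ, hψ⟩ ⟨ψ, hψ⟩ = 1 := by
      have hpos : 0 < n ⟨ψ, hψ⟩ * n ⟨ψ, hψ⟩ :=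
        Nat.mul_pos (Nat.pos_of_ne_zero hnψ) (Nat.pos_of_ne_zero hnψ)
      apply Nat.eq_of_mul_eq_mul_left hpos
      rw [mul_one, ← h2, sq]
    have h3 := ha ⟨ψ, hψ⟩ ⟨ψ, hψ⟩
    rw [ha', Nat.cast_one] at h3
    exact h3
  · rw [if_neg h]
    have hne : (⟨ψ, hψ⟩ : IrrCharacter T) ≠ ⟨ψ', hψ'⟩ := fun e => h (congrArg Subtype.val e)
    have h2 := hpt (⟨ψ, hψ⟩, ⟨ψ', hψ'⟩) (Finset.mem_univ _)
    rw [if_neg hne] at h2
    have ha' : a ⟨ψ, hψ⟩ ⟨ψ', hψ'⟩ = 0 := by
      rcases Nat.mul_eq_zero.mp h2.symm with h1 | h1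
      · rcases Nat.mul_eq_zero.mp h1 with h4 | h4
        · exact absurd h4 hnψ
        · exact absurd h4 hnψ'
      · exact h1
    have h3 := ha ⟨ψ, hψ⟩ ⟨ψ', hψ'⟩
    rw [ha', Nat.cast_zero] at h3
    exact h3

end Cfsg.Agent.helper8
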