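import Mathlib
import Cfsg.Agent.Lib_helper22_Clifford
import Cfsg.Agent.Lib_helper24_Char
import Cfsg.Agent.Lib_helper24_CharKer
import Cfsg.Agent.Lib_helper1_ProdChar
import Cfsg.Agent.Lib_helper5_Ind
import Cfsg.Agent.Lib_helper8_Clifford

set_option autoImplicit false
set_option linter.unusedSectionVars false
set_option linter.unusedVariables false

/-!
Gallagher's theorem (helper22).

For `N ⊲ G` and `χ ∈ Irr(G)` with `χ_N = ϑ` irreducible, the characters `β χ` (`β ∈ Irr(G/N)`,
inflated) are irreducible, pairwise distinct, and are all the irreducible characters of `G` lying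
over `ϑ`.

* `infl N β` : inflation of a function on `G ⧸ N`;
* `indFun_res_mul` : `(χ_N ψ)^G = χ ψ^G`;
* `indFun_one_normal`, `sum_degree_mul_infl` : `(1_N)^G = ∑ β(1) β`;
* `indFun_res_eq_sum` : `(χ_N)^G = ∑ β(1) β χ`;
* `gallagher`.
-/

namespace Cfsg.Agent.helper22

open Cfsg
open scoped ComplexConjugate

universe u

section Gallagher
variable {G : Type u} [Group G] [Fintype G] (N : Subgroup G) [hN : N.Normal] [Fintype N]

/-- inflation of a function on the quotient -/
def infl (β : G ⧸ N → ℂ) : G → ℂ := β ∘ (QuotientGroup.mk : G → G ⧸ N)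

theorem infl_apply (β : G ⧸ N → ℂ) (g : G) : infl N β g = β (g : G ⧸ N) := rfl

theorem indFun_res_mul {χ : G → ℂ} (hχ : IsClassFunction G χ) (ψ : N → ℂ) :
    indFun N (fun n : N => χ n * ψ n) = χ * indFun N ψ := by
  funext g
  show (Nat.card N : ℂ)⁻¹ * ∑ x : G, extendByZero N (fun n : N => χ n * ψ n) (x⁻¹ * g * x) =
    χ g * ((Nat.card N : ℂ)⁻¹ * ∑ x : G, extendByZero N ψ (x⁻¹ * g * x))
  rw [mul_left_comm]
  congr 1
  rw [Finset.mul_sum]
  apply Finset.sum_congr rfl
  intro x _
  by_cases h : x⁻¹ * g * x ∈ N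
  · rw [helper5.extendByZero_of_mem _ _ _ h, helper5.extendByZero_of_mem _ _ _ h]
    have := hχ g x⁻¹
    rw [inv_inv] at this
    show χ (x⁻¹ * g * x) * _ = _
    rw [this]
  · rw [helper5.extendByZero_of_not_mem _ _ _ h, helper5.extendByZero_of_not_mem _ _ _ h, mul_zero]

open scoped Classical in
theorem indFun_one_normal (g : G) :
    indFun N (fun _ : N => (1 : ℂ)) g = if g ∈ N then (N.index : ℂ) else 0 := by
  split_ifs with h
  · have h1 := congrFun (helper5.res_indFun_of_invariant N (fun _ : N => (1 : ℂ))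
      (fun g => by funext n; rfl)) ⟨g, h⟩
    rw [helper5.res_apply, Pi.smul_apply, smul_eq_mul, mul_one] at h1
    exact h1
  · exact helper8.indFun_of_not_mem_normal N _ g h

open scoped Classical in
theorem sum_degree_mul_infl [Fintype (IrrCharacter (G ⧸ N))] (g : G) :
    ∑ β : IrrCharacter (G ⧸ N), (β : G ⧸ N → ℂ) 1 * (β : G ⧸ N → ℂ) (g : G ⧸ N) =
      if g ∈ N then (N.index : ℂ) else 0 := by
  have h1 := helper24.irr_column_orthogonality (G := G ⧸ N) (g : G ⧸ N) 1
  have h2 : ∀ β : IrrCharacter (G ⧸ N), conj ((β : G ⧸ N → ℂ) 1) = (β : G ⧸ N → ℂ) 1 := by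
    intro β
    rw [← helper24.char_charDegree_cast (helper24.irr_isCharacter β.2), Complex.conj_natCast]
  rw [Finset.sum_congr rfl (fun β _ => by rw [h2 β, mul_comm])] at h1
  rw [h1]
  have h3 : IsConj (g : G ⧸ N) 1 ↔ g ∈ N := by
    rw [isConj_one_left, QuotientGroup.eq_one_iff]
  by_cases h : g ∈ N
  · rw [if_pos h, if_pos (h3.mpr h)]
    have h4 : Subgroup.centralizer ({(1 : G ⧸ N)} : Set (G ⧸ N)) = ⊤ := by
      rw [eq_top_iff]
      intro x _
      rw [Subgroup.mem_centralizer_iff]
      intro y hy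
      rw [Set.mem_singleton_iff.mp hy, mul_one, one_mul]
    rw [h4, Subgroup.card_top, Subgroup.index_eq_card]
  · rw [if_neg h, if_neg (fun h' => h (h3.mp h'))]

theorem indFun_res_eq_sum [Fintype (IrrCharacter (G ⧸ N))] {χ : G → ℂ}
    (hχ : IsClassFunction G χ) :
    indFun N (helper5.res N χ) =
      ∑ β : IrrCharacter (G ⧸ N), ((β : G ⧸ N → ℂ) 1) • (infl N (β : G ⧸ N → ℂ) * χ) := by
  classical
  have h1 : helper5.res N χ = fun n : N => χ n * (fun _ : N => (1 : ℂ)) n := by
    funext n
    rw [mul_one]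
    rfl
  rw [h1, indFun_res_mul N hχ]
  funext g
  rw [Pi.mul_apply, indFun_one_normal, ← sum_degree_mul_infl N g, Finset.sum_apply, Finset.mul_sum]
  apply Finset.sum_congr rfl
  intro β _
  rw [Pi.smul_apply, Pi.mul_apply, infl_apply, smul_eq_mul]
  ring

/-- **Gallagher's theorem.** -/
theorem gallagher [Fintype (IrrCharacter (G ⧸ N))] {χ : G → ℂ} (hχ : IsIrrCharacter G χ)
    (hϑ : IsIrrCharacter N (helper5.res N χ)) :
    (∀ β : IrrCharacter (G ⧸ N), IsIrrCharacter G (infl N (β : G ⧸ N → ℂ) * χ)) ∧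
    (∀ β β' : IrrCharacter (G ⧸ N),
      infl N (β : G ⧸ N → ℂ) * χ = infl N (β' : G ⧸ N → ℂ) * χ → β = β') ∧
    (∀ ψ : G → ℂ, IsIrrCharacter G ψ →
      classInner (helper5.res N ψ) (helper5.res N χ) ≠ 0 →
        ∃ β : IrrCharacter (G ⧸ N), ψ = infl N (β : G ⧸ N → ℂ) * χ) := by
  classical
  have hχc : IsCharacter G χ := helper24.irr_isCharacter hχ
  have hχcf : IsClassFunction G χ := helper24.char_isClassFunction hχc
  -- the characters `β χ`
  have hψc : ∀ β : IrrCharacter (G ⧸ N), IsCharacter G (infl N (β : G ⧸ N → ℂ) * χ) := fun β =>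
    helper1.isCharacter_mul (helper24.char_inflation N (helper24.irr_isCharacter β.2)) hχc
  have hnat : ∀ β β' : IrrCharacter (G ⧸ N), ∃ a : ℕ,
      classInner (infl N (β : G ⧸ N → ℂ) * χ) (infl N (β' : G ⧸ N → ℂ) * χ) = a :=
    fun β β' => helper12.classInner_char_nat (hψc β) (hψc β')
  choose a ha using hnat
  obtain ⟨d, hd⟩ : ∃ d : IrrCharacter (G ⧸ N) → ℕ, ∀ β, d β = charDegree (β : G ⧸ N → ℂ) :=
    ⟨_, fun _ => rfl⟩
  have hdpos : ∀ β, 0 < d β := fun β => hd β ▸ helper24.irr_charDegree_pos β.2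
  have hdval : ∀ β : IrrCharacter (G ⧸ N), (β : G ⧸ N → ℂ) 1 = (d β : ℂ) := fun β => by
    rw [hd β, helper24.char_charDegree_cast (helper24.irr_isCharacter β.2)]
  have hdiag : ∀ β, 1 ≤ a β β := by
    intro β
    apply helper8.one_le_norm_of_char (hψc β) _ (a β β) (ha β β)
    rw [Pi.mul_apply, infl_apply]
    apply mul_ne_zero
    · rw [show ((1 : G) : G ⧸ N) = 1 from rfl, hdval β]
      exact_mod_cast (hdpos β).ne'
    · rw [← helper24.char_charDegree_cast hχc]
      exact_mod_cast (helper24.irr_charDegree_pos hχ).ne'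
  -- the norm of the induced character
  have hinvϑ : ∀ g : G, helper8.conjFunN N g (helper5.res N χ) = helper5.res N χ := by
    intro g
    funext n
    rw [helper8.conjFunN_apply, helper5.res_apply, helper5.res_apply]
    exact hχcf n g
  have hnorm := helper5.classInner_indFun_self_of_invariant N hϑ hinvϑ
  have hexp := indFun_res_eq_sum N hχcf
  have hsum : ∑ β : IrrCharacter (G ⧸ N), ∑ β' : IrrCharacter (G ⧸ N),
      d β * d β' * a β β' = ∑ β : IrrCharacter (G ⧸ N), d β ^ 2 := by
    have h1 : ((∑ β : IrrCharacter (G ⧸ N), ∑ β' : IrrCharacter (G ⧸ N),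
        d β * d β' * a β β' : ℕ) : ℂ) = (N.index : ℂ) := by
      rw [← hnorm]
      conv_rhs => rw [hexp]
      rw [helper24.classInner_sum_left]
      push_cast
      apply Finset.sum_congr rfl
      intro β _
      rw [helper24.classInner_smul_left, helper8.classInner_sum_right, Finset.mul_sum]
      apply Finset.sum_congr rfl
      intro β' _
      rw [helper8.classInner_smul_right, ha β β', hdval β, hdval β', Complex.conj_natCast]
      ring
    have h2 : ∑ β : IrrCharacter (G ⧸ N), d β ^ 2 = N.index := by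
      have := helper24.sum_irr_degree_sq (G := G ⧸ N)
      rw [Subgroup.index_eq_card, ← this]
      apply Finset.sum_congr rfl
      intro β _
      rw [hd β]
    rw [h2]
    exact_mod_cast h1
  have hrow_le : ∀ β : IrrCharacter (G ⧸ N), d β ^ 2 ≤ ∑ β' : IrrCharacter (G ⧸ N),
      d β * d β' * a β β' := by
    intro β
    calc d β ^ 2 ≤ d β * d β * a β β := by
          rw [pow_two]
          exact Nat.le_mul_of_pos_right _ (hdiag β)
      _ ≤ _ := Finset.single_le_sum (f := fun β' => d β * d β' * a β β')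
          (fun _ _ => Nat.zero_le _) (Finset.mem_univ β)
  have hrow : ∀ β : IrrCharacter (G ⧸ N), ∑ β' : IrrCharacter (G ⧸ N),
      d β * d β' * a β β' = d β ^ 2 := by
    intro β
    have := (Finset.sum_eq_sum_iff_of_le (fun β _ => hrow_le β)).mp hsum.symm β (Finset.mem_univ β)
    exact this.symm
  have hdiag1 : ∀ β, a β β = 1 := by
    intro β
    have h1 : d β * d β * a β β ≤ d β ^ 2 := by
      rw [← hrow β]
      exact Finset.single_le_sum (f := fun β' => d β * d β' * a β β')
        (fun _ _ => Nat.zero_le _) (Finset.mem_univ β)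
    have h2 : a β β ≤ 1 := by
      by_contra hlt
      push Not at hlt
      have h3 : d β * d β * 2 ≤ d β * d β * a β β := Nat.mul_le_mul_left _ hlt
      have h4 : 0 < d β * d β := Nat.mul_pos (hdpos β) (hdpos β)
      rw [pow_two] at h1
      omega
    have := hdiag β
    omega
  have hoff : ∀ β β', β ≠ β' → a β β' = 0 := by
    intro β β' hne
    have h1 : d β * d β * a β β + d β * d β' * a β β' ≤ d β ^ 2 := by
      rw [← hrow β]
      have h3 := Finset.sum_le_sum_of_subset (f := fun β'' => d β * d β'' * a β β'')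
        (Finset.subset_univ ({β, β'} : Finset (IrrCharacter (G ⧸ N))))
      rw [Finset.sum_pair hne] at h3
      exact h3
    rw [hdiag1 β, mul_one, pow_two] at h1
    have h2 : d β * d β' * a β β' = 0 := by omega
    rcases Nat.mul_eq_zero.mp h2 with h | h
    · exfalso
      have := Nat.mul_pos (hdpos β) (hdpos β')
      omega
    · exact h
  have hirr : ∀ β : IrrCharacter (G ⧸ N), IsIrrCharacter G (infl N (β : G ⧸ N → ℂ) * χ) := by
    intro β
    apply helper12.isIrrCharacter_of_classInner_self (hψc β)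
    rw [ha β β, hdiag1 β, Nat.cast_one]
  refine ⟨hirr, ?_, ?_⟩
  · intro β β' heq
    by_contra hne
    have h1 := ha β β'
    rw [← heq, ha β β, hdiag1 β, hoff β β' hne] at h1
    norm_num at h1
  · intro ψ hψ hψϑ
    have h1 : classInner (indFun N (helper5.res N χ)) ψ ≠ 0 := by
      rw [helper5.classInner_indFun_irr N _ (helper24.irr_isCharacter hψ),
        ← helper24.classInner_conj_symm]
      intro h
      apply hψϑ
      have := congrArg conj h
      rw [Complex.conj_conj, map_zero] at this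
      exact this
    rw [hexp, helper24.classInner_sum_left] at h1
    obtain ⟨β, -, hβ⟩ := Finset.exists_ne_zero_of_sum_ne_zero h1
    rw [helper24.classInner_smul_left] at hβ
    have h2 : classInner (infl N (β : G ⧸ N → ℂ) * χ) ψ ≠ 0 := right_ne_zero_of_mul hβ
    refine ⟨β, ?_⟩
    by_contra hne
    exact h2 (helper24.irr_classInner_ne (hirr β) hψ (fun h => hne h.symm))

/-- inflation is injective -/
theorem infl_injective : Function.Injective (infl N) := by
  intro β β' h
  funext q
  obtain ⟨g, rfl⟩ := QuotientGroup.mk_surjective q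
  exact congrFun h g

/-- A class function of `G` which is constant on the cosets of `N` is a linear combination of
inflated irreducible characters of `G ⧸ N`. -/
theorem expansion_of_coset_invariant [Fintype (IrrCharacter (G ⧸ N))] {F : G → ℂ}
    (hF : IsClassFunction G F) (hinv : ∀ (n : N) (g : G), F ((n : G) * g) = F g) :
    F = ∑ β : IrrCharacter (G ⧸ N),
      classInner F (infl N (β : G ⧸ N → ℂ)) • infl N (β : G ⧸ N → ℂ) := by
  classical
  -- descend to the quotient
  obtain ⟨Fq, hFq⟩ : ∃ Fq : G ⧸ N → ℂ, ∀ g : G, Fq (g : G ⧸ N) = F g := by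
    refine ⟨fun q => F q.out, fun g => ?_⟩
    obtain ⟨h, hh⟩ := QuotientGroup.mk_out_eq_mul N g
    show F (Quotient.out (g : G ⧸ N)) = F g
    rw [hh]
    have h1 : g * (h : G) = ((⟨g * h * g⁻¹, hN.conj_mem _ h.2 g⟩ : N) : G) * g := by
      show g * (h : G) = g * h * g⁻¹ * g
      group
    rw [h1, hinv]
  have hFqc : IsClassFunction (G ⧸ N) Fq := by
    intro q x
    obtain ⟨g, rfl⟩ := QuotientGroup.mk_surjective q
    obtain ⟨y, rfl⟩ := QuotientGroup.mk_surjective x
    have : ((y : G ⧸ N) * (g : G ⧸ N) * (y : G ⧸ N)⁻¹) = ((y * g * y⁻¹ : G) : G ⧸ N) := rfl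
    rw [this, hFq, hFq]
    exact hF g y
  have hexp := helper24.classFunction_expansion hFqc
  have hF1 : F = ∑ β : IrrCharacter (G ⧸ N),
      classInner Fq (β : G ⧸ N → ℂ) • infl N (β : G ⧸ N → ℂ) := by
    funext g
    rw [← hFq g]
    conv_lhs => rw [hexp]
    rw [Finset.sum_apply, Finset.sum_apply]
    rfl
  have hcoef : ∀ β' : IrrCharacter (G ⧸ N),
      classInner F (infl N (β' : G ⧸ N → ℂ)) = classInner Fq (β' : G ⧸ N → ℂ) := by
    intro β'
    conv_lhs => rw [hF1]
    rw [helper24.classInner_sum_left, Finset.sum_eq_single β']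
    · have h1 : classInner (infl N (β' : G ⧸ N → ℂ)) (infl N (β' : G ⧸ N → ℂ)) = 1 :=
        helper24.irr_classInner_self (helper24.irr_inflation N β'.2)
      rw [helper24.classInner_smul_left, h1, mul_one]
    · intro β _ hne
      have h1 : classInner (infl N (β : G ⧸ N → ℂ)) (infl N (β' : G ⧸ N → ℂ)) = 0 :=
        helper24.irr_classInner_ne (helper24.irr_inflation N β.2)
          (helper24.irr_inflation N β'.2) (fun h => hne (Subtype.ext (infl_injective N h)))
      rw [helper24.classInner_smul_left, h1, mul_zero]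
    · intro h
      exact absurd (Finset.mem_univ β') h
  conv_lhs => rw [hF1]
  apply Finset.sum_congr rfl
  intro β _
  rw [hcoef β]

end Gallagher

end Cfsg.Agent.helper22
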