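import Mathlib
import Cfsg.Agent.Lib_helper23_Schur
import Cfsg.Agent.Lib_helper24_Char

set_option autoImplicit false
set_option linter.unusedSectionVars false
set_option linter.unusedVariables false

/-!
Frobenius–Schur indicator (shared library, helper22).

For an irreducible representation `ρ` of a finite group `G` on `Fin n → ℂ`, with matrices
`X g = repMatrix ρ g` and character `χ`:
* `sum_coeff` : Schur orthogonality of matrix coefficients;
* `fs_transpose` : every invariant bilinear form `M` (`(X g)ᵀ * M * X g = M`) has `Mᵀ = ν • M`,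
  `ν = |G|⁻¹ ∑ χ (g * g)`;
* `fs_of_real`, `fs_of_not_real` : `ν = ±1` if `χ` is real-valued, `ν = 0` otherwise;
* `sum_fsInd_mul_degree` : `∑_χ ν(χ) χ(1) = #{s | s * s = 1}`.
-/

namespace Cfsg.Agent.helper22

open Cfsg
open scoped ComplexConjugate
open Matrix

theorem mul_single_mul_apply {n : ℕ} (A C : Matrix (Fin n) (Fin n) ℂ) (j a i b : Fin n) :
    (A * Matrix.single j a (1 : ℂ) * C) i b = A i j * C a b := by
  rw [Matrix.mul_assoc, Matrix.mul_apply, Finset.sum_eq_single j]
  · rw [Matrix.single_mul_apply_same, one_mul]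
  · intro k _ hk
    rw [Matrix.single_mul_apply_of_ne (1 : ℂ) j a k b hk C, mul_zero]
  · intro h; exact absurd (Finset.mem_univ _) h

section Rep
variable {G : Type*} [Group G] [Fintype G] {n : ℕ} (ρ : Representation ℂ G (Fin n → ℂ))

local notation "X" => helper24.repMatrix ρ

theorem rho_eq_toLin' (g : G) : ρ g = Matrix.toLin' (X g) := by
  show ρ g = Matrix.toLin' (LinearMap.toMatrix' (ρ g))
  rw [Matrix.toLin'_toMatrix']

theorem X_mul_inv (g : G) : X g * X g⁻¹ = 1 := by
  rw [← map_mul, mul_inv_cancel, map_one]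

theorem X_inv_mul (g : G) : X g⁻¹ * X g = 1 := by
  rw [← map_mul, inv_mul_cancel, map_one]

/-- Schur's lemma in matrix form. -/
theorem mat_schur (hρ : ρ.IsIrreducible) (A : Matrix (Fin n) (Fin n) ℂ)
    (hA : ∀ g, A * X g = X g * A) : ∃ c : ℂ, A = c • (1 : Matrix (Fin n) (Fin n) ℂ) := by
  obtain ⟨c, hc⟩ := helper23.schur_scalar ρ hρ (Matrix.toLin' A) (fun g => by
    rw [rho_eq_toLin' ρ g, ← Matrix.toLin'_mul, ← Matrix.toLin'_mul, hA g])
  refine ⟨c, ?_⟩
  have := congrArg LinearMap.toMatrix' hc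
  simpa using this

theorem n_ne_zero (hρ : ρ.IsIrreducible) : (n : ℂ) ≠ 0 := by
  have := helper23.pos_of_irreducible ρ hρ
  exact_mod_cast this.ne'

theorem card_ne_zero : (Fintype.card G : ℂ) ≠ 0 := by
  have : 0 < Fintype.card G := Fintype.card_pos
  exact_mod_cast this.ne'

/-- `∑ X(g) B X(g⁻¹)` is the scalar `|G| tr(B) / n`. -/
theorem sum_conj_eq (hρ : ρ.IsIrreducible) (B : Matrix (Fin n) (Fin n) ℂ) :
    ∑ g : G, X g * B * X g⁻¹ =
      ((Fintype.card G : ℂ) * B.trace / n) • (1 : Matrix (Fin n) (Fin n) ℂ) := by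
  have hcomm : ∀ h, (∑ g : G, X g * B * X g⁻¹) * X h = X h * ∑ g : G, X g * B * X g⁻¹ := by
    intro h
    rw [Finset.sum_mul, Finset.mul_sum]
    symm
    apply Fintype.sum_equiv (Equiv.mulLeft h)
    intro g
    rw [Equiv.coe_mulLeft, _root_.mul_inv_rev, map_mul, map_mul]
    simp only [Matrix.mul_assoc]
    rw [X_inv_mul, Matrix.mul_one]
  obtain ⟨c, hc⟩ := mat_schur ρ hρ _ hcomm
  have htr : (∑ g : G, X g * B * X g⁻¹).trace = (Fintype.card G : ℂ) * B.trace := by
    rw [Matrix.trace_sum]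
    have : ∀ g : G, (X g * B * X g⁻¹).trace = B.trace := by
      intro g
      rw [Matrix.trace_mul_cycle, X_inv_mul, Matrix.one_mul]
    rw [Finset.sum_congr rfl (fun g _ => this g), Finset.sum_const, Finset.card_univ,
      nsmul_eq_mul]
  rw [hc, Matrix.trace_smul, Matrix.trace_one, Fintype.card_fin, smul_eq_mul] at htr
  have hn := n_ne_zero ρ hρ
  have hceq : c = (Fintype.card G : ℂ) * B.trace / n := by
    rw [eq_div_iff hn]; exact htr
  rw [hc, hceq]

/-- Schur orthogonality of matrix coefficients. -/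
theorem sum_coeff (hρ : ρ.IsIrreducible) (i j a b : Fin n) :
    ∑ g : G, X g i j * X g⁻¹ a b =
      if i = b ∧ j = a then (Fintype.card G : ℂ) / n else 0 := by
  have h := sum_conj_eq ρ hρ (Matrix.single j a (1 : ℂ))
  have h2 := congrFun (congrFun h i) b
  rw [Matrix.sum_apply] at h2
  simp only [mul_single_mul_apply] at h2
  rw [h2, Matrix.smul_apply, Matrix.one_apply, smul_eq_mul]
  by_cases hja : j = a
  · subst hja
    rw [Matrix.trace_single_eq_same]
    by_cases hib : i = b
    · simp [hib]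
    · simp [hib]
  · rw [Matrix.trace_single_eq_of_ne _ _ _ hja]
    simp [hja]

/-- the sum of `χ (g * g)` -/
noncomputable def sqSum : ℂ := ∑ g : G, ρ.character (g * g)

/-- `∑ X(g)²` is the scalar `(∑ χ(g²)) / n`. -/
theorem sum_sq_eq (hρ : ρ.IsIrreducible) :
    ∑ g : G, X g * X g = (sqSum ρ / n) • (1 : Matrix (Fin n) (Fin n) ℂ) := by
  have hcomm : ∀ h, (∑ g : G, X g * X g) * X h = X h * ∑ g : G, X g * X g := by
    intro h
    rw [Finset.sum_mul, Finset.mul_sum]
    symm
    apply Fintype.sum_equiv (MulAut.conj h).toEquiv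
    intro g
    have e : (MulAut.conj h).toEquiv g = h * g * h⁻¹ := rfl
    rw [e, ← map_mul, ← map_mul, ← map_mul, ← map_mul]
    congr 1
    group
  obtain ⟨c, hc⟩ := mat_schur ρ hρ _ hcomm
  have htr : (∑ g : G, X g * X g).trace = sqSum ρ := by
    rw [Matrix.trace_sum, sqSum]
    refine Finset.sum_congr rfl (fun g _ => ?_)
    rw [← map_mul, helper24.repMatrix_trace]
  rw [hc, Matrix.trace_smul, Matrix.trace_one, Fintype.card_fin, smul_eq_mul] at htr
  have hn := n_ne_zero ρ hρ
  have hceq : c = sqSum ρ / n := by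
    rw [eq_div_iff hn]; exact htr
  rw [hc, hceq]

/-- `∑ X(g)ᵀ M X(g⁻¹) = (|G|/n) Mᵀ`. -/
theorem sum_transpose_conj (hρ : ρ.IsIrreducible) (M : Matrix (Fin n) (Fin n) ℂ) :
    ∑ g : G, (X g)ᵀ * M * X g⁻¹ = ((Fintype.card G : ℂ) / n) • Mᵀ := by
  ext k l
  rw [Matrix.sum_apply, Matrix.smul_apply, Matrix.transpose_apply, smul_eq_mul]
  have h1 : ∀ g : G, ((X g)ᵀ * M * X g⁻¹) k l =
      ∑ b : Fin n, ∑ a : Fin n, M a b * (X g a k * X g⁻¹ b l) := by
    intro g
    rw [Matrix.mul_apply]
    refine Finset.sum_congr rfl (fun b _ => ?_)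
    rw [Matrix.mul_apply, Finset.sum_mul]
    refine Finset.sum_congr rfl (fun a _ => ?_)
    rw [Matrix.transpose_apply]; ring
  rw [Finset.sum_congr rfl (fun g _ => h1 g)]
  rw [Finset.sum_comm]
  have h2 : ∀ b : Fin n, ∑ g : G, ∑ a : Fin n, M a b * (X g a k * X g⁻¹ b l) =
      ∑ a : Fin n, M a b * (if a = l ∧ k = b then (Fintype.card G : ℂ) / n else 0) := by
    intro b
    rw [Finset.sum_comm]
    refine Finset.sum_congr rfl (fun a _ => ?_)
    rw [← Finset.mul_sum, sum_coeff ρ hρ a k b l]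
  rw [Finset.sum_congr rfl (fun b _ => h2 b)]
  rw [Finset.sum_eq_single k]
  · rw [Finset.sum_eq_single l]
    · rw [if_pos ⟨rfl, rfl⟩]; ring
    · intro a _ ha
      rw [if_neg (fun h => ha h.1), mul_zero]
    · intro h; exact absurd (Finset.mem_univ _) h
  · intro b _ hb
    apply Finset.sum_eq_zero
    intro a _
    rw [if_neg (fun h => hb h.2.symm), mul_zero]
  · intro h; exact absurd (Finset.mem_univ _) h

/-- an invariant bilinear form intertwines `X g` and `(X g⁻¹)ᵀ` -/
theorem invariant_mul (M : Matrix (Fin n) (Fin n) ℂ) (hM : ∀ g, (X g)ᵀ * M * X g = M) (g : G) :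
    M * X g = (X g⁻¹)ᵀ * M := by
  have h1 : (X g⁻¹)ᵀ * (X g)ᵀ = 1 := by
    rw [← Matrix.transpose_mul, X_mul_inv, Matrix.transpose_one]
  calc M * X g = ((X g⁻¹)ᵀ * (X g)ᵀ) * (M * X g) := by rw [h1, Matrix.one_mul]
    _ = (X g⁻¹)ᵀ * ((X g)ᵀ * M * X g) := by simp only [Matrix.mul_assoc]
    _ = (X g⁻¹)ᵀ * M := by rw [hM g]

/-- **Frobenius–Schur**: an invariant bilinear form is symmetric or alternating according to the
indicator. -/
theorem fs_transpose_aux (hρ : ρ.IsIrreducible) (M : Matrix (Fin n) (Fin n) ℂ)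
    (hM : ∀ g, (X g)ᵀ * M * X g = M) :
    (sqSum ρ) • M = (Fintype.card G : ℂ) • Mᵀ := by
  have h1 : M * ∑ g : G, X g * X g = ∑ g : G, (X g)ᵀ * M * X g⁻¹ := by
    rw [Finset.mul_sum]
    have : ∀ g : G, M * (X g * X g) = (X g⁻¹)ᵀ * M * X g := by
      intro g
      rw [← Matrix.mul_assoc, invariant_mul ρ M hM g]
    rw [Finset.sum_congr rfl (fun g _ => this g)]
    apply Fintype.sum_equiv (Equiv.inv G)
    intro g
    rw [Equiv.inv_apply, inv_inv]
  rw [sum_sq_eq ρ hρ, sum_transpose_conj ρ hρ] at h1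
  have hn := n_ne_zero ρ hρ
  rw [Matrix.mul_smul, Matrix.mul_one] at h1
  have h2 := congrArg (fun A : Matrix (Fin n) (Fin n) ℂ => (n : ℂ) • A) h1
  simp only [smul_smul] at h2
  rw [mul_div_cancel₀ _ hn, mul_div_cancel₀ _ hn] at h2
  exact h2

/-- the averaged bilinear form -/
noncomputable def avg (A : Matrix (Fin n) (Fin n) ℂ) : Matrix (Fin n) (Fin n) ℂ :=
  ∑ g : G, (X g)ᵀ * A * X g

theorem avg_invariant (A : Matrix (Fin n) (Fin n) ℂ) (h : G) :
    (X h)ᵀ * avg ρ A * X h = avg ρ A := by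
  unfold avg
  rw [Finset.mul_sum, Finset.sum_mul]
  apply Fintype.sum_equiv (Equiv.mulRight h)
  intro g
  rw [Equiv.coe_mulRight, map_mul, Matrix.transpose_mul]
  simp only [Matrix.mul_assoc]

theorem avg_single_apply (i j k l : Fin n) :
    avg ρ (Matrix.single i j (1 : ℂ)) k l = ∑ g : G, X g i k * X g j l := by
  unfold avg
  rw [Matrix.sum_apply]
  refine Finset.sum_congr rfl (fun g _ => ?_)
  rw [mul_single_mul_apply, Matrix.transpose_apply]

/-- if there is no nonzero invariant form, the indicator vanishes -/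
theorem sqSum_eq_zero_of_forall (h0 : ∀ M : Matrix (Fin n) (Fin n) ℂ,
    (∀ g, (X g)ᵀ * M * X g = M) → M = 0) : sqSum ρ = 0 := by
  have h1 : ∀ i j : Fin n, ∑ g : G, X g i j * X g j i = 0 := by
    intro i j
    rw [← avg_single_apply ρ i j j i, h0 _ (avg_invariant ρ _)]
    rfl
  unfold sqSum
  have h2 : ∀ g : G, ρ.character (g * g) = ∑ i : Fin n, ∑ j : Fin n, X g i j * X g j i := by
    intro g
    rw [← helper24.repMatrix_trace, map_mul, Matrix.trace]
    refine Finset.sum_congr rfl (fun i _ => ?_)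
    rw [Matrix.diag_apply, Matrix.mul_apply]
  rw [Finset.sum_congr rfl (fun g _ => h2 g), Finset.sum_comm]
  apply Finset.sum_eq_zero
  intro i _
  rw [Finset.sum_comm]
  apply Finset.sum_eq_zero
  intro j _
  exact h1 i j

/-- a real-valued irreducible character has a nonzero invariant form -/
theorem exists_invariant_of_real (hρ : ρ.IsIrreducible)
    (hreal : ∀ g : G, (ρ.character g).im = 0) :
    ∃ M : Matrix (Fin n) (Fin n) ℂ, M ≠ 0 ∧ ∀ g, (X g)ᵀ * M * X g = M := by
  by_contra hcon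
  push Not at hcon
  have h0 : ∀ i j : Fin n, avg ρ (Matrix.single i j (1 : ℂ)) = 0 := by
    intro i j
    by_contra hne
    obtain ⟨g, hg⟩ := hcon _ hne
    exact hg (avg_invariant ρ _ g)
  have h1 : ∑ g : G, ρ.character g * ρ.character g = 0 := by
    have h2 : ∀ g : G, ρ.character g * ρ.character g =
        ∑ i : Fin n, ∑ j : Fin n, X g i i * X g j j := by
      intro g
      rw [← helper24.repMatrix_trace, Matrix.trace, Finset.sum_mul_sum]
      rfl
    rw [Finset.sum_congr rfl (fun g _ => h2 g), Finset.sum_comm]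
    apply Finset.sum_eq_zero
    intro i _
    rw [Finset.sum_comm]
    apply Finset.sum_eq_zero
    intro j _
    rw [← avg_single_apply ρ i j i j, h0 i j]
    rfl
  have hirr : IsIrrCharacter G ρ.character := ⟨n, ρ, hρ, rfl⟩
  have h3 := helper24.irr_classInner_self hirr
  unfold classInner at h3
  have h4 : ∀ g : G, ρ.character g * conj (ρ.character g) = ρ.character g * ρ.character g := by
    intro g
    rw [Complex.conj_eq_iff_im.2 (hreal g)]
  rw [Finset.sum_congr rfl (fun g _ => h4 g), h1, mul_zero] at h3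
  exact zero_ne_one h3

/-- a nonzero invariant form is nondegenerate -/
theorem isUnit_of_invariant (hρ : ρ.IsIrreducible) (M : Matrix (Fin n) (Fin n) ℂ) (hM0 : M ≠ 0)
    (hM : ∀ g, (X g)ᵀ * M * X g = M) : IsUnit M := by
  have := hρ
  let K : Subrepresentation ρ :=
    { toSubmodule := LinearMap.ker (Matrix.toLin' M)
      apply_mem_toSubmodule := by
        intro g v hv
        rw [LinearMap.mem_ker] at hv ⊢
        rw [rho_eq_toLin' ρ g, ← LinearMap.comp_apply, ← Matrix.toLin'_mul,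
          invariant_mul ρ M hM g, Matrix.toLin'_mul, LinearMap.comp_apply, hv, map_zero] }
  rcases eq_bot_or_eq_top K with h | h
  · rw [← Matrix.mulVec_injective_iff_isUnit]
    have hker : LinearMap.ker (Matrix.toLin' M) = ⊥ := by
      have := congrArg Subrepresentation.toSubmodule h
      exact this
    have hinj := LinearMap.ker_eq_bot.1 hker
    intro v w hvw
    apply hinj
    rw [Matrix.toLin'_apply, Matrix.toLin'_apply]
    exact hvw
  · exfalso
    apply hM0
    have hker : LinearMap.ker (Matrix.toLin' M) = ⊤ := by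
      have := congrArg Subrepresentation.toSubmodule h
      exact this
    have h0 : Matrix.toLin' M = 0 := LinearMap.ker_eq_top.1 hker
    have := congrArg LinearMap.toMatrix' h0
    simpa using this

/-- a nonzero invariant form forces the character to be real-valued -/
theorem real_of_invariant (hρ : ρ.IsIrreducible) (M : Matrix (Fin n) (Fin n) ℂ) (hM0 : M ≠ 0)
    (hM : ∀ g, (X g)ᵀ * M * X g = M) (g : G) : (ρ.character g).im = 0 := by
  obtain ⟨U, hU⟩ := isUnit_of_invariant ρ hρ M hM0 hM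
  have h1 := invariant_mul ρ M hM g
  have h2 : (X g⁻¹)ᵀ = (U : Matrix (Fin n) (Fin n) ℂ) * X g * (↑U⁻¹ : Matrix (Fin n) (Fin n) ℂ) := by
    rw [hU, h1, Matrix.mul_assoc, ← hU, Units.mul_inv, Matrix.mul_one]
  have h3 : ρ.character g⁻¹ = ρ.character g := by
    rw [← helper24.repMatrix_trace, ← helper24.repMatrix_trace, ← Matrix.trace_transpose, h2,
      Matrix.trace_units_conj]
  rw [helper24.rep_char_inv] at h3
  exact Complex.conj_eq_iff_im.1 h3

/-- the Frobenius–Schur indicator of (the character of) `ρ` -/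
noncomputable def fsRep : ℂ := (Nat.card G : ℂ)⁻¹ * ∑ s : G, ρ.character (s * s)

theorem fsRep_eq : fsRep ρ = (Fintype.card G : ℂ)⁻¹ * sqSum ρ := by
  unfold fsRep sqSum
  rw [Nat.card_eq_fintype_card]

/-- **Frobenius–Schur**: `Mᵀ = ν M` for every invariant bilinear form `M`. -/
theorem fs_transpose (hρ : ρ.IsIrreducible) (M : Matrix (Fin n) (Fin n) ℂ)
    (hM : ∀ g, (X g)ᵀ * M * X g = M) : Mᵀ = fsRep ρ • M := by
  have h := fs_transpose_aux ρ hρ M hM
  have hc := card_ne_zero (G := G)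
  rw [fsRep_eq, ← smul_smul, h, smul_smul, inv_mul_cancel₀ hc, one_smul]

theorem fs_of_real (hρ : ρ.IsIrreducible) (hreal : ∀ g : G, (ρ.character g).im = 0) :
    fsRep ρ = 1 ∨ fsRep ρ = -1 := by
  obtain ⟨M, hM0, hM⟩ := exists_invariant_of_real ρ hρ hreal
  have h1 := fs_transpose ρ hρ M hM
  have h2 : M = (fsRep ρ * fsRep ρ) • M := by
    have := congrArg Matrix.transpose h1
    rw [Matrix.transpose_transpose, Matrix.transpose_smul, h1, smul_smul] at this
    exact this
  have h3 : fsRep ρ * fsRep ρ = 1 := by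
    by_contra hne
    apply hM0
    have h4 : (1 - fsRep ρ * fsRep ρ) • M = 0 := by
      rw [sub_smul, one_smul, ← h2, sub_self]
    rcases smul_eq_zero.1 h4 with h5 | h5
    · exact absurd (sub_eq_zero.1 h5).symm hne
    · exact h5
  exact mul_self_eq_one_iff.1 h3

theorem fs_of_not_real (hρ : ρ.IsIrreducible) (hreal : ¬ ∀ g : G, (ρ.character g).im = 0) :
    fsRep ρ = 0 := by
  rw [fsRep_eq, sqSum_eq_zero_of_forall ρ, mul_zero]
  intro M hM
  by_contra hM0
  exact hreal (real_of_invariant ρ hρ M hM0 hM)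

end Rep

section Char
variable {G : Type*} [Group G] [Fintype G]

/-- Frobenius–Schur indicator of a complex function on `G` -/
noncomputable def fsInd (χ : G → ℂ) : ℂ := (Nat.card G : ℂ)⁻¹ * ∑ s : G, χ (s * s)

theorem fsInd_of_real {χ : G → ℂ} (hχ : IsIrrCharacter G χ) (hreal : ∀ g, (χ g).im = 0) :
    fsInd χ = 1 ∨ fsInd χ = -1 := by
  obtain ⟨n, ρ, hρ, rfl⟩ := hχ
  exact fs_of_real ρ hρ hreal

theorem fsInd_of_not_real {χ : G → ℂ} (hχ : IsIrrCharacter G χ)
    (hreal : ¬ ∀ g, (χ g).im = 0) : fsInd χ = 0 := by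
  obtain ⟨n, ρ, hρ, rfl⟩ := hχ
  exact fs_of_not_real ρ hρ hreal

theorem fsInd_cases {χ : G → ℂ} (hχ : IsIrrCharacter G χ) :
    fsInd χ = 0 ∨ fsInd χ = 1 ∨ fsInd χ = -1 := by
  by_cases hreal : ∀ g, (χ g).im = 0
  · exact Or.inr (fsInd_of_real hχ hreal)
  · exact Or.inl (fsInd_of_not_real hχ hreal)

theorem fsInd_ne_zero_iff {χ : G → ℂ} (hχ : IsIrrCharacter G χ) :
    fsInd χ ≠ 0 ↔ ∀ g, (χ g).im = 0 := by
  constructor
  · intro h
    by_contra hreal
    exact h (fsInd_of_not_real hχ hreal)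
  · intro hreal
    rcases fsInd_of_real hχ hreal with h | h <;> rw [h] <;> norm_num

/-- `∑_χ ν(χ) χ(1)` is the number of solutions of `s² = 1`. -/
theorem sum_fsInd_mul_degree [Fintype (IrrCharacter G)] :
    ∑ χ : IrrCharacter G, fsInd (χ : G → ℂ) * (χ : G → ℂ) 1 =
      (Nat.card {s : G // s * s = 1} : ℂ) := by
  classical
  have hG : (Nat.card G : ℂ) ≠ 0 := by exact_mod_cast Nat.card_pos.ne'
  have hcol : ∀ s : G, ∑ χ : IrrCharacter G, (χ : G → ℂ) (s * s) * (χ : G → ℂ) 1 =
      if s * s = 1 then (Nat.card G : ℂ) else 0 := by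
    intro s
    have h := helper24.irr_column_orthogonality (s * s) (1 : G)
    have hconj : ∀ χ : IrrCharacter G, conj ((χ : G → ℂ) 1) = (χ : G → ℂ) 1 := by
      intro χ
      obtain ⟨m, hm⟩ := helper24.char_apply_one (helper24.irr_isCharacter χ.2)
      rw [hm, Complex.conj_natCast]
    simp only [hconj] at h
    rw [h]
    have hcent : Nat.card (Subgroup.centralizer ({1} : Set G)) = Nat.card G := by
      have : Subgroup.centralizer ({1} : Set G) = ⊤ := by
        rw [eq_top_iff]
        intro x _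
        rw [Subgroup.mem_centralizer_iff]
        intro h hh
        rw [Set.mem_singleton_iff] at hh
        rw [hh, one_mul, mul_one]
      rw [this, Subgroup.card_top]
    rw [hcent]
    by_cases hs : s * s = 1
    · rw [if_pos hs, if_pos (by rw [hs])]
    · rw [if_neg hs, if_neg (fun h => hs (isConj_one_left.1 h))]
  have hcard : Nat.card {s : G // s * s = 1} =
      (Finset.univ.filter (fun s : G => s * s = 1)).card := by
    rw [Nat.card_eq_fintype_card, Fintype.card_subtype]
  unfold fsInd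
  calc ∑ χ : IrrCharacter G, ((Nat.card G : ℂ)⁻¹ * ∑ s : G, (χ : G → ℂ) (s * s)) * (χ : G → ℂ) 1
      = (Nat.card G : ℂ)⁻¹ * ∑ s : G, ∑ χ : IrrCharacter G,
          (χ : G → ℂ) (s * s) * (χ : G → ℂ) 1 := by
        rw [Finset.sum_comm, Finset.mul_sum]
        refine Finset.sum_congr rfl (fun χ _ => ?_)
        rw [mul_assoc, Finset.sum_mul]
    _ = (Nat.card G : ℂ)⁻¹ * ∑ s : G, (if s * s = 1 then (Nat.card G : ℂ) else 0) := by
        rw [Finset.sum_congr rfl (fun s _ => hcol s)]
    _ = (Nat.card {s : G // s * s = 1} : ℂ) := by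
        rw [← Finset.sum_filter, Finset.sum_const, nsmul_eq_mul, hcard]
        field_simp

end Char

section Real
variable {G : Type*} [Group G] [Fintype G]

local notation "X" => helper24.repMatrix

/-- `∑ χ(g)²` in terms of the averaged forms -/
theorem sum_char_sq_eq {n : ℕ} (ρ : Representation ℂ G (Fin n → ℂ)) :
    ∑ g : G, ρ.character g * ρ.character g =
      ∑ i : Fin n, ∑ j : Fin n, avg ρ (Matrix.single i j (1 : ℂ)) i j := by
  have h2 : ∀ g : G, ρ.character g * ρ.character g =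
      ∑ i : Fin n, ∑ j : Fin n, X ρ g i i * X ρ g j j := by
    intro g
    rw [← helper24.repMatrix_trace, Matrix.trace, Finset.sum_mul_sum]
    rfl
  rw [Finset.sum_congr rfl (fun g _ => h2 g), Finset.sum_comm]
  refine Finset.sum_congr rfl (fun i _ => ?_)
  rw [Finset.sum_comm]
  refine Finset.sum_congr rfl (fun j _ => ?_)
  rw [avg_single_apply ρ i j i j]

theorem sum_char_sq_eq_zero_of_not_real {n : ℕ} (ρ : Representation ℂ G (Fin n → ℂ))
    (hρ : ρ.IsIrreducible) (hreal : ¬ ∀ g : G, (ρ.character g).im = 0) :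
    ∑ g : G, ρ.character g * ρ.character g = 0 := by
  rw [sum_char_sq_eq]
  apply Finset.sum_eq_zero
  intro i _
  apply Finset.sum_eq_zero
  intro j _
  have h0 : avg ρ (Matrix.single i j (1 : ℂ)) = 0 := by
    by_contra hM0
    exact hreal (real_of_invariant ρ hρ _ hM0 (avg_invariant ρ _))
  rw [h0]
  rfl

/-- `|G|⁻¹ ∑ χ(x)²`: equal to `1` for real-valued irreducible `χ` and `0` otherwise -/
noncomputable def realInd (χ : G → ℂ) : ℂ := (Nat.card G : ℂ)⁻¹ * ∑ x : G, χ x * χ x

theorem realInd_of_real {χ : G → ℂ} (hχ : IsIrrCharacter G χ) (hreal : ∀ g, (χ g).im = 0) :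
    realInd χ = 1 := by
  have h3 := helper24.irr_classInner_self hχ
  unfold classInner at h3
  unfold realInd
  rw [← h3]
  congr 1
  refine Finset.sum_congr rfl (fun g _ => ?_)
  rw [Complex.conj_eq_iff_im.2 (hreal g)]

theorem realInd_of_not_real {χ : G → ℂ} (hχ : IsIrrCharacter G χ)
    (hreal : ¬ ∀ g, (χ g).im = 0) : realInd χ = 0 := by
  obtain ⟨n, ρ, hρ, rfl⟩ := hχ
  unfold realInd
  rw [sum_char_sq_eq_zero_of_not_real ρ hρ hreal, mul_zero]

/-- the number of real-valued irreducible characters, as a weighted count of real elements -/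
theorem sum_realInd [Fintype (IrrCharacter G)] [DecidableRel (IsConj : G → G → Prop)] :
    ∑ χ : IrrCharacter G, realInd (χ : G → ℂ) =
      (Nat.card G : ℂ)⁻¹ * ∑ x : G, (if IsConj x x⁻¹ then
        (Nat.card (Subgroup.centralizer ({x⁻¹} : Set G)) : ℂ) else 0) := by
  unfold realInd
  rw [← Finset.mul_sum, Finset.sum_comm]
  congr 1
  refine Finset.sum_congr rfl (fun x _ => ?_)
  have h := helper24.irr_column_orthogonality x x⁻¹
  have hconj : ∀ χ : IrrCharacter G, conj ((χ : G → ℂ) x⁻¹) = (χ : G → ℂ) x := by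
    intro χ
    rw [helper24.char_inv (helper24.irr_isCharacter χ.2), Complex.conj_conj]
  simp only [hconj] at h
  rw [h]
  by_cases hx : IsConj x x⁻¹
  · rw [if_pos hx, if_pos hx]
  · rw [if_neg hx, if_neg hx]

end Real

end Cfsg.Agent.helper22
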