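import Mathlib
import Cfsg.Agent.Lib_helper23_Schur
import Cfsg.Agent.Lib_helper24_Char

set_option autoImplicit false
set_option linter.unusedSectionVars false
set_option linter.unusedVariables false

/-!
Linear characters as homomorphisms `G →* ℂˣ`, twisting irreducible characters by them
(shared library, helper22).

* `twistRep φ ρ`, `twistRep_irreducible`, `twist_isIrr`, `hom_isIrrCharacter`;
* `twistAction` : `MulAction (G →* ℂˣ) (IrrCharacter G)`;
* `card_stabilizer_le` : the stabilizer of `χ` has at most `χ(1)²` elements;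
* `card_hom_eq_index` : `Nat.card (G →* ℂˣ) = (commutator G).index`.
-/

namespace Cfsg.Agent.helper22

open Cfsg
open scoped ComplexConjugate

section Lin
variable {G : Type*} [Group G]

/-- twist of a representation by a linear character -/
noncomputable def twistRep {n : ℕ} (φ : G →* ℂˣ) (ρ : Representation ℂ G (Fin n → ℂ)) :
    Representation ℂ G (Fin n → ℂ) where
  toFun g := ((φ g : ℂˣ) : ℂ) • ρ g
  map_one' := by simp
  map_mul' g h := by
    rw [map_mul, map_mul, Units.val_mul, smul_mul_smul_comm]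

theorem twistRep_apply {n : ℕ} (φ : G →* ℂˣ) (ρ : Representation ℂ G (Fin n → ℂ)) (g : G) :
    twistRep φ ρ g = ((φ g : ℂˣ) : ℂ) • ρ g := rfl

theorem twistRep_character {n : ℕ} (φ : G →* ℂˣ) (ρ : Representation ℂ G (Fin n → ℂ)) (g : G) :
    (twistRep φ ρ).character g = ((φ g : ℂˣ) : ℂ) * ρ.character g := by
  unfold Representation.character
  rw [twistRep_apply, map_smul, smul_eq_mul]

theorem twistRep_irreducible {n : ℕ} (φ : G →* ℂˣ) (ρ : Representation ℂ G (Fin n → ℂ))
    (hρ : ρ.IsIrreducible) : (twistRep φ ρ).IsIrreducible := by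
  let e : Subrepresentation ρ ≃o Subrepresentation (twistRep φ ρ) :=
    { toFun := fun W => ⟨W.toSubmodule, fun g v hv => by
          show ((φ g : ℂˣ) : ℂ) • ρ g v ∈ W.toSubmodule
          exact W.toSubmodule.smul_mem _ (W.apply_mem_toSubmodule g hv)⟩
      invFun := fun W => ⟨W.toSubmodule, fun g v hv => by
          have h1 : ((φ g : ℂˣ) : ℂ) • ρ g v ∈ W.toSubmodule := W.apply_mem_toSubmodule g hv
          have h2 := W.toSubmodule.smul_mem ((((φ g)⁻¹ : ℂˣ) : ℂˣ) : ℂ) h1
          rwa [smul_smul, ← Units.val_mul, inv_mul_cancel, Units.val_one, one_smul] at h2⟩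
      left_inv := fun W => rfl
      right_inv := fun W => rfl
      map_rel_iff' := Iff.rfl }
  exact (OrderIso.isSimpleOrder_iff e).1 hρ

/-- the twist of an irreducible character by a linear character is irreducible -/
theorem twist_isIrr (φ : G →* ℂˣ) {χ : G → ℂ} (hχ : IsIrrCharacter G χ) :
    IsIrrCharacter G (fun g => ((φ g : ℂˣ) : ℂ) * χ g) := by
  obtain ⟨n, ρ, hρ, rfl⟩ := hχ
  exact ⟨n, twistRep φ ρ, twistRep_irreducible φ ρ hρ, funext (twistRep_character φ ρ)⟩

/-- a homomorphism `G →* ℂˣ` is an irreducible character -/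
theorem hom_isIrrCharacter (φ : G →* ℂˣ) : IsIrrCharacter G (fun g => ((φ g : ℂˣ) : ℂ)) := by
  have := twist_isIrr φ (helper24.isIrrCharacter_one (G := G))
  simpa using this

/-- the action of linear characters on irreducible characters by multiplication -/
noncomputable instance twistAction : MulAction (G →* ℂˣ) (IrrCharacter G) where
  smul φ χ := ⟨fun g => ((φ g : ℂˣ) : ℂ) * (χ : G → ℂ) g, twist_isIrr φ χ.2⟩
  one_smul χ := by
    apply Subtype.ext
    funext g
    show (((1 : G →* ℂˣ) g : ℂˣ) : ℂ) * _ = _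
    simp
  mul_smul φ ψ χ := by
    apply Subtype.ext
    funext g
    show ((((φ * ψ) g : ℂˣ)) : ℂ) * _ = ((φ g : ℂˣ) : ℂ) * (((ψ g : ℂˣ) : ℂ) * _)
    simp [mul_assoc]

theorem twist_apply (φ : G →* ℂˣ) (χ : IrrCharacter G) (g : G) :
    ((φ • χ : IrrCharacter G) : G → ℂ) g = ((φ g : ℂˣ) : ℂ) * (χ : G → ℂ) g := rfl

theorem twist_degree (φ : G →* ℂˣ) (χ : IrrCharacter G) :
    charDegree ((φ • χ : IrrCharacter G) : G → ℂ) = charDegree (χ : G → ℂ) := by
  unfold charDegree
  rw [twist_apply, map_one]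
  simp

/-- the stabilizer of `χ` under twisting has at most `χ(1)²` elements -/
theorem card_stabilizer_le [Finite G] (χ : IrrCharacter G) :
    Nat.card (MulAction.stabilizer (G →* ℂˣ) χ) ≤ (charDegree (χ : G → ℂ)) ^ 2 := by
  classical
  haveI : Fintype G := Fintype.ofFinite G
  set H := MulAction.stabilizer (G →* ℂˣ) χ with hH
  haveI : Fintype H := Fintype.ofFinite H
  have hfix : ∀ φ : H, ∀ x, (((φ : G →* ℂˣ) x : ℂˣ) : ℂ) * (χ : G → ℂ) x = (χ : G → ℂ) x := by
    intro φ x
    have h1 : ((φ : G →* ℂˣ) • χ : IrrCharacter G) = χ := φ.2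
    have h2 := congrArg (fun ψ : IrrCharacter G => (ψ : G → ℂ) x) h1
    simpa [twist_apply] using h2
  set K : Finset G := Finset.univ.filter (fun x => ∀ φ : H, (φ : G →* ℂˣ) x = 1) with hK
  have hvanish : ∀ x, x ∉ K → (χ : G → ℂ) x = 0 := by
    intro x hx
    simp only [hK, Finset.mem_filter, Finset.mem_univ, true_and, not_forall] at hx
    obtain ⟨φ, hφ⟩ := hx
    have h1 := hfix φ x
    have h2 : ((((φ : G →* ℂˣ) x : ℂˣ) : ℂ) - 1) * (χ : G → ℂ) x = 0 := by
      rw [sub_mul, h1, one_mul, sub_self]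
    rcases mul_eq_zero.mp h2 with h | h
    · exfalso
      apply hφ
      exact Units.ext (sub_eq_zero.mp h)
    · exact h
  -- the double sum, first way
  have hD1 : ∑ x : G, ∑ φ : H, (((φ : G →* ℂˣ) x : ℂˣ) : ℂ) = (Nat.card G : ℂ) := by
    rw [Finset.sum_comm, ← Finset.add_sum_erase _ _ (Finset.mem_univ (1 : H))]
    have h1 : ∑ x : G, ((((1 : H) : G →* ℂˣ) x : ℂˣ) : ℂ) = Nat.card G := by
      simp [Nat.card_eq_fintype_card]
    have h2 : ∀ φ ∈ Finset.univ.erase (1 : H), ∑ x : G, (((φ : G →* ℂˣ) x : ℂˣ) : ℂ) = 0 := by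
      intro φ hφ
      have hne : φ ≠ 1 := Finset.ne_of_mem_erase hφ
      have : ∃ g, (φ : G →* ℂˣ) g ≠ 1 := by
        by_contra hcon
        push Not at hcon
        apply hne
        apply Subtype.ext
        ext g
        simp [hcon g]
      obtain ⟨g, hg⟩ := this
      apply helper23.sum_eq_zero_of_mul_of_ne_one (fun x => (((φ : G →* ℂˣ) x : ℂˣ) : ℂ))
        (fun a b => by simp) g
      intro h
      apply hg
      exact Units.ext h
    rw [h1, Finset.sum_eq_zero h2, add_zero]
  -- the double sum, second way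
  have hD2 : ∑ x : G, ∑ φ : H, (((φ : G →* ℂˣ) x : ℂˣ) : ℂ) = (Nat.card H : ℂ) * K.card := by
    have h1 : ∀ x : G, ∑ φ : H, (((φ : G →* ℂˣ) x : ℂˣ) : ℂ) =
        if x ∈ K then (Nat.card H : ℂ) else 0 := by
      intro x
      by_cases hx : x ∈ K
      · rw [if_pos hx]
        simp only [hK, Finset.mem_filter, Finset.mem_univ, true_and] at hx
        have : ∀ φ ∈ (Finset.univ : Finset H), (((φ : G →* ℂˣ) x : ℂˣ) : ℂ) = 1 := by
          intro φ _
          rw [hx φ]; rfl
        rw [Finset.sum_congr rfl this]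
        simp [Nat.card_eq_fintype_card]
      · rw [if_neg hx]
        simp only [hK, Finset.mem_filter, Finset.mem_univ, true_and, not_forall] at hx
        obtain ⟨φ₀, hφ₀⟩ := hx
        apply helper23.sum_eq_zero_of_mul_of_ne_one (fun φ : H => (((φ : G →* ℂˣ) x : ℂˣ) : ℂ))
          (fun a b => by simp) φ₀
        intro h
        apply hφ₀
        exact Units.ext h
    rw [Finset.sum_congr rfl (fun x _ => h1 x), Finset.sum_ite_mem, Finset.univ_inter,
      Finset.sum_const, nsmul_eq_mul, mul_comm]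
  have hHK : Nat.card H * K.card = Nat.card G := by
    have : ((Nat.card H * K.card : ℕ) : ℂ) = (Nat.card G : ℂ) := by
      push_cast
      rw [← hD2, hD1]
    exact_mod_cast this
  -- norm computation
  have hnorm : ∑ x : G, Complex.normSq ((χ : G → ℂ) x) = (Nat.card G : ℝ) := by
    have h1 := helper24.irr_classInner_self χ.2
    unfold classInner at h1
    have hGC : (Nat.card G : ℂ) ≠ 0 := by
      have : 0 < Nat.card G := Nat.card_pos
      exact_mod_cast this.ne'
    have h2 : ∑ g : G, (χ : G → ℂ) g * conj ((χ : G → ℂ) g) = (Nat.card G : ℂ) := by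
      field_simp at h1
      exact h1
    have h3 : ((∑ x : G, Complex.normSq ((χ : G → ℂ) x) : ℝ) : ℂ) = ((Nat.card G : ℝ) : ℂ) := by
      push_cast
      rw [← h2]
      refine Finset.sum_congr rfl (fun x _ => ?_)
      rw [Complex.mul_conj]
    exact_mod_cast h3
  set n := charDegree (χ : G → ℂ) with hn
  have hbound : ∀ x : G, Complex.normSq ((χ : G → ℂ) x) ≤ if x ∈ K then ((n : ℝ)) ^ 2 else 0 := by
    intro x
    by_cases hx : x ∈ K
    · rw [if_pos hx]
      have h1 := helper24.char_norm_le (helper24.irr_isCharacter χ.2) x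
      rw [← helper24.char_charDegree_cast (helper24.irr_isCharacter χ.2)] at h1
      rw [Complex.normSq_eq_norm_sq]
      have h2 : ‖((charDegree (χ : G → ℂ) : ℕ) : ℂ)‖ = (n : ℝ) := by
        rw [Complex.norm_natCast]
      rw [h2] at h1
      exact pow_le_pow_left₀ (norm_nonneg _) h1 2
    · rw [if_neg hx, hvanish x hx]
      simp
  have hle : (Nat.card G : ℝ) ≤ K.card * (n : ℝ) ^ 2 := by
    rw [← hnorm]
    calc ∑ x : G, Complex.normSq ((χ : G → ℂ) x)
        ≤ ∑ x : G, (if x ∈ K then ((n : ℝ)) ^ 2 else 0) := Finset.sum_le_sum (fun x _ => hbound x)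
      _ = K.card * (n : ℝ) ^ 2 := by
        rw [Finset.sum_ite_mem, Finset.univ_inter, Finset.sum_const, nsmul_eq_mul]
  have hle' : Nat.card H * K.card ≤ K.card * n ^ 2 := by
    rw [hHK]
    exact_mod_cast hle
  have hKpos : 0 < K.card := by
    apply Finset.card_pos.mpr
    refine ⟨1, ?_⟩
    simp [hK]
  rw [mul_comm] at hle'
  exact Nat.le_of_mul_le_mul_left hle' hKpos

/-- `Nat.card (G →* ℂˣ)` is the index of the commutator subgroup -/
theorem card_hom_eq_index [Finite G] : Nat.card (G →* ℂˣ) = (commutator G).index := by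
  have hne : Monoid.exponent (Abelianization G) ≠ 0 := Monoid.exponent_ne_zero_of_finite
  haveI : NeZero ((Monoid.exponent (Abelianization G) : ℕ) : ℂ) := ⟨by exact_mod_cast hne⟩
  rw [Nat.card_congr (Abelianization.lift (G := G) (A := ℂˣ)),
    CommGroup.card_monoidHom_of_hasEnoughRootsOfUnity, Subgroup.index_eq_card]
  rfl

end Lin

/-- fixed point congruence for a `p`-subgroup acting on an invariant finset -/
theorem card_filter_fixed_modEq {Γ α : Type*} [Group Γ] [MulAction Γ α] (p : ℕ)
    [Fact p.Prime] (H : Subgroup Γ) (hH : IsPGroup p H) (S : Finset α)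
    (hS : ∀ h ∈ H, ∀ s ∈ S, h • s ∈ S) [DecidablePred (fun s : α => ∀ h ∈ H, h • s = s)] :
    S.card ≡ (S.filter (fun s => ∀ h ∈ H, h • s = s)).card [MOD p] := by
  classical
  let M : SubMulAction H α :=
    { carrier := (S : Set α)
      smul_mem' := fun h s hs => by
        rw [Subgroup.smul_def]
        exact hS h.1 h.2 s hs }
  have : Finite M := by
    show Finite ((S : Set α))
    exact Finset.finite_toSet S |>.to_subtype
  have h1 := hH.card_modEq_card_fixedPoints M
  have h2 : Nat.card M = S.card := by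
    have : Nat.card M = Nat.card (S : Set α) := rfl
    rw [this, Nat.card_coe_set_eq, Set.ncard_coe_finset]
  have h3 : Nat.card (MulAction.fixedPoints H M) =
      (S.filter (fun s => ∀ h ∈ H, h • s = s)).card := by
    rw [← Nat.card_eq_finsetCard]
    refine Nat.card_congr
      { toFun := fun m => ⟨m.1.1, ?_⟩
        invFun := fun s => ⟨⟨s.1, ?_⟩, ?_⟩
        left_inv := fun m => rfl
        right_inv := fun s => rfl }
    · rw [Finset.mem_filter]
      refine ⟨m.1.2, fun h hh => ?_⟩
      have := m.2 ⟨h, hh⟩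
      have h4 := congrArg Subtype.val this
      exact h4
    · exact (Finset.mem_filter.mp s.2).1
    · intro h
      apply Subtype.ext
      show (h : Γ) • s.1 = s.1
      exact (Finset.mem_filter.mp s.2).2 h.1 h.2
  rw [h2, h3] at h1
  exact h1

/-- the sign homomorphism attached to a subgroup of index two -/
noncomputable def homOfIndexTwo {G : Type*} [Group G] (K : Subgroup G) (hK : K.index = 2) :
    G →* ℂˣ where
  toFun g := open Classical in if g ∈ K then 1 else -1
  map_one' := by simp [K.one_mem]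
  map_mul' a b := by
    have := Subgroup.mul_mem_iff_of_index_two hK (a := a) (b := b)
    by_cases ha : a ∈ K <;> by_cases hb : b ∈ K <;> simp [ha, hb, this]

theorem homOfIndexTwo_of_mem {G : Type*} [Group G] (K : Subgroup G) (hK : K.index = 2) {g : G}
    (hg : g ∈ K) : homOfIndexTwo K hK g = 1 := by
  classical
  show (if g ∈ K then (1 : ℂˣ) else -1) = 1
  rw [if_pos hg]

theorem homOfIndexTwo_of_notMem {G : Type*} [Group G] (K : Subgroup G) (hK : K.index = 2) {g : G}
    (hg : g ∉ K) : homOfIndexTwo K hK g = -1 := by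
  classical
  show (if g ∈ K then (1 : ℂˣ) else -1) = -1
  rw [if_neg hg]

theorem homOfIndexTwo_sq {G : Type*} [Group G] (K : Subgroup G) (hK : K.index = 2) :
    homOfIndexTwo K hK ^ 2 = 1 := by
  ext g
  by_cases hg : g ∈ K
  · simp [homOfIndexTwo_of_mem K hK hg]
  · simp [homOfIndexTwo_of_notMem K hK hg]

theorem homOfIndexTwo_eq_one_iff {G : Type*} [Group G] (K : Subgroup G) (hK : K.index = 2)
    (g : G) : homOfIndexTwo K hK g = 1 ↔ g ∈ K := by
  by_cases hg : g ∈ K
  · simp [homOfIndexTwo_of_mem K hK hg, hg]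
  · rw [homOfIndexTwo_of_notMem K hK hg]
    constructor
    · intro h
      exfalso
      have h1 := congrArg Units.val h
      norm_num at h1
    · intro h
      exact absurd h hg

end Cfsg.Agent.helper22
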