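import Cfsg.Statements.S0147
import Mathlib
import Cfsg.Agent.Lib_helper12_IndFun

set_option autoImplicit false
set_option linter.style.haveILetI false
set_option linter.unusedVariables false
open Cfsg

namespace Cfsg.Agent.S0147

/-- Transitivity of induction: inducing from H to K and then from K to G is the same as inducing from H to G. -/
theorem result {G : Type*} [Group G] [Fintype G] (H K : Subgroup G) [Fintype K] (hHK : H ≤ K) (θ : H → ℂ) : Cfsg.indFun K (Cfsg.indFun (H.subgroupOf K) (fun x => θ ⟨(x : K), Subgroup.mem_subgroupOf.mp x.2⟩)) = Cfsg.indFun H θ := by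
  classical
  funext g
  set θ' : (H.subgroupOf K) → ℂ := fun x => θ ⟨(x : K), Subgroup.mem_subgroupOf.mp x.2⟩ with hθ'
  set E : G → ℂ := extendByZero H θ with hE
  have hcardH' : Nat.card (H.subgroupOf K) = Nat.card H := by
    have e : (H.subgroupOf K) ≃* H := Subgroup.subgroupOfEquivOfLe hHK
    exact Nat.card_congr e.toEquiv
  have hKne : (Nat.card K : ℂ) ≠ 0 := by
    have : Nat.card K ≠ 0 := Nat.card_pos.ne'
    exact_mod_cast this
  -- the extension for the small pair agrees with E
  have hext : ∀ k : K, extendByZero (H.subgroupOf K) θ' k = E (k : G) := by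
    intro k
    by_cases hk : (k : G) ∈ H
    · have hk' : k ∈ H.subgroupOf K := Subgroup.mem_subgroupOf.mpr hk
      rw [Cfsg.Agent.helper12.extendByZero_of_mem' _ _ k hk', hE,
        Cfsg.Agent.helper12.extendByZero_of_mem' _ _ (k : G) hk]
    · have hk' : k ∉ H.subgroupOf K := fun h => hk (Subgroup.mem_subgroupOf.mp h)
      rw [Cfsg.Agent.helper12.extendByZero_of_not_mem' _ _ k hk', hE,
        Cfsg.Agent.helper12.extendByZero_of_not_mem' _ _ (k : G) hk]
  -- formula for the extension of the inner induced function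
  have hF : ∀ z : G, extendByZero K (indFun (H.subgroupOf K) θ') z
      = (Nat.card H : ℂ)⁻¹ * ∑ y : K, E ((y : G)⁻¹ * z * y) := by
    intro z
    by_cases hz : z ∈ K
    · rw [Cfsg.Agent.helper12.extendByZero_of_mem' _ _ z hz]
      unfold indFun
      rw [hcardH']
      congr 1
      apply Finset.sum_congr rfl
      intro y _
      rw [hext]
      rfl
    · rw [Cfsg.Agent.helper12.extendByZero_of_not_mem' _ _ z hz]
      symm
      rw [Finset.sum_eq_zero, mul_zero]
      intro y _
      rw [hE]
      apply Cfsg.Agent.helper12.extendByZero_of_not_mem'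
      intro hmem
      apply hz
      have h1 : (y : G)⁻¹ * z * y ∈ K := hHK hmem
      have : z = (y : G) * ((y : G)⁻¹ * z * y) * (y : G)⁻¹ := by group
      rw [this]
      exact K.mul_mem (K.mul_mem y.2 h1) (K.inv_mem y.2)
  have hshift : ∀ y : K, ∑ x : G, E ((y : G)⁻¹ * (x⁻¹ * g * x) * y) = ∑ x : G, E (x⁻¹ * g * x) := by
    intro y
    apply Fintype.sum_equiv (Equiv.mulRight (y : G))
    intro x
    simp only [Equiv.coe_mulRight]
    congr 1
    group
  show (Nat.card K : ℂ)⁻¹ * ∑ x : G, extendByZero K (indFun (H.subgroupOf K) θ') (x⁻¹ * g * x)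
    = (Nat.card H : ℂ)⁻¹ * ∑ x : G, E (x⁻¹ * g * x)
  simp_rw [hF]
  rw [← Finset.mul_sum, Finset.sum_comm]
  simp_rw [hshift]
  rw [Finset.sum_const, Finset.card_univ, nsmul_eq_mul, Nat.card_eq_fintype_card (α := K)]
  field_simp

end Cfsg.Agent.S0147
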