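import Mathlib
import Cfsg.Agent.Lib_helper22_Clifford
import Cfsg.Agent.Lib_helper22_LinChar
import Cfsg.Agent.Lib_helper22_FS
import Cfsg.Agent.Lib_helper23_LinChar
import Cfsg.Agent.Lib_helper24_CharKer
import Cfsg.Agent.Lib_helper5_Ind
import Cfsg.Agent.S0147

set_option autoImplicit false
set_option linter.unusedSectionVars false
set_option linter.unusedVariables false

/-!
Monomial characters (helper22).

* `indFun_eq_of_degree` : an irreducible `χ` of `G` lying over a character `ψ` of `T` with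
  `χ(1) = [G : T] ψ(1)` is induced from `ψ`;
* `indFun_congr_subgroup`, `indFun_top`, `indFun_map_subtype` (induction in stages, for a subgroup
  of a subgroup);
* `commSubgroup ρ` : the elements acting by matrices commuting with the whole image;
* `exists_comm_normal` : for a nilpotent group and an irreducible representation of degree `≥ 2`,
  a normal subgroup with commutative image containing a non-scalar element;
* `inertia_ne_top_of_comm` : for such a subgroup the inertia group of a constituent is proper;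
* `nilpotent_monomial` : every irreducible character of a nilpotent group is monomial.
-/

namespace Cfsg.Agent.helper22

open Cfsg
open scoped ComplexConjugate
open scoped commutatorElement

universe u

section IndDegree
variable {G : Type u} [Group G] [Fintype G]

/-- An irreducible character lying over `ψ` with the degree of `ψ^G` equals `ψ^G`. -/
theorem indFun_eq_of_degree (T : Subgroup G) [Fintype T] {χ : G → ℂ} (hχ : IsIrrCharacter G χ)
    {ψ : T → ℂ} (hψ : IsCharacter T ψ) (h1 : classInner (helper5.res T χ) ψ ≠ 0)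
    (hdeg : charDegree χ = T.index * charDegree ψ) : indFun T ψ = χ := by
  classical
  haveI : Fintype (IrrCharacter G) := Fintype.ofFinite _
  have hind := helper12.isCharacter_indFun T hψ
  obtain ⟨n', hexp', hn', -⟩ := helper12.char_decomp hind
  have hχn : n' ⟨χ, hχ⟩ ≠ 0 := by
    intro h0
    have h2 := hn' ⟨χ, hχ⟩
    rw [h0, Nat.cast_zero, helper5.classInner_indFun_irr T _ (helper24.irr_isCharacter hχ)] at h2
    apply h1
    rw [← helper24.classInner_conj_symm, h2, map_zero]
  have hdeg' : T.index * charDegree ψ =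
      ∑ Y : IrrCharacter G, n' Y * charDegree (Y : G → ℂ) := by
    have h2 : (indFun T ψ) 1 = ∑ Y : IrrCharacter G, (n' Y : ℂ) * (Y : G → ℂ) 1 := by
      have := congrFun hexp' 1
      rw [this, Finset.sum_apply]
      rfl
    have h3 : ((T.index * charDegree ψ : ℕ) : ℂ) =
        ((∑ Y : IrrCharacter G, n' Y * charDegree (Y : G → ℂ) : ℕ) : ℂ) := by
      push_cast
      rw [helper24.char_charDegree_cast hψ, ← helper5.indFun_one, h2]
      refine Finset.sum_congr rfl (fun Y _ => ?_)
      rw [helper24.char_charDegree_cast (helper24.irr_isCharacter Y.2)]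
    exact_mod_cast h3
  have hpos : 0 < charDegree χ := helper24.irr_charDegree_pos hχ
  have hsplit : ∑ Y : IrrCharacter G, n' Y * charDegree (Y : G → ℂ) =
      n' ⟨χ, hχ⟩ * charDegree χ +
        ∑ Y ∈ Finset.univ.erase (⟨χ, hχ⟩ : IrrCharacter G), n' Y * charDegree (Y : G → ℂ) :=
    (Finset.add_sum_erase Finset.univ (fun Y : IrrCharacter G => n' Y * charDegree (Y : G → ℂ))
      (Finset.mem_univ _)).symm
  have hge : charDegree χ ≤ n' ⟨χ, hχ⟩ * charDegree χ :=
    Nat.le_mul_of_pos_left _ (Nat.pos_of_ne_zero hχn)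
  have hrest : ∑ Y ∈ Finset.univ.erase (⟨χ, hχ⟩ : IrrCharacter G),
      n' Y * charDegree (Y : G → ℂ) = 0 := by omega
  have hone : n' ⟨χ, hχ⟩ = 1 := by
    have h2 : n' ⟨χ, hχ⟩ * charDegree χ = 1 * charDegree χ := by omega
    exact Nat.eq_of_mul_eq_mul_right hpos h2
  rw [hexp', Finset.sum_eq_single (⟨χ, hχ⟩ : IrrCharacter G)]
  · rw [hone, Nat.cast_one, one_smul]
  · intro Y _ hY
    have h2 := (Finset.sum_eq_zero_iff.mp hrest) Y (Finset.mem_erase.mpr ⟨hY, Finset.mem_univ _⟩)
    have h3 : n' Y = 0 := by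
      rcases Nat.mul_eq_zero.mp h2 with h | h
      · exact h
      · exact absurd h (helper24.irr_charDegree_pos Y.2).ne'
    rw [h3, Nat.cast_zero, zero_smul]
  · intro h
    exact absurd (Finset.mem_univ _) h

theorem indFun_congr_subgroup {H₁ H₂ : Subgroup G} (h : H₁ = H₂) (f₁ : H₁ → ℂ) (f₂ : H₂ → ℂ)
    (hf : ∀ (x : G) (h1 : x ∈ H₁) (h2 : x ∈ H₂), f₁ ⟨x, h1⟩ = f₂ ⟨x, h2⟩) :
    indFun H₁ f₁ = indFun H₂ f₂ := by
  subst h
  congr 1
  funext x
  exact hf x.1 x.2 x.2

theorem indFun_top {χ : G → ℂ} (hχ : IsClassFunction G χ) :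
    indFun (⊤ : Subgroup G) (fun h => χ (h : G)) = χ := by
  funext g
  unfold indFun
  have h1 : ∀ x : G, extendByZero (⊤ : Subgroup G) (fun h => χ (h : G)) (x⁻¹ * g * x) = χ g := by
    intro x
    rw [helper5.extendByZero_of_mem _ _ _ (Subgroup.mem_top _)]
    have := hχ g x⁻¹
    rw [inv_inv] at this
    exact this
  rw [Finset.sum_congr rfl (fun x _ => h1 x), Finset.sum_const, Finset.card_univ, nsmul_eq_mul,
    Subgroup.card_top, Nat.card_eq_fintype_card, ← mul_assoc, inv_mul_cancel₀, one_mul]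
  have : 0 < Fintype.card G := Fintype.card_pos
  exact_mod_cast this.ne'

/-- induction in stages, for a subgroup of a subgroup -/
theorem indFun_map_subtype (T : Subgroup G) [Fintype T] (H' : Subgroup T) (lam' : H' →* ℂˣ) :
    ∃ (H : Subgroup G) (lam : H →* ℂˣ),
      indFun T (indFun H' (fun h => ((lam' h : ℂˣ) : ℂ))) = indFun H (fun h => ((lam h : ℂˣ) : ℂ)) := by
  let e : H' ≃* H'.map T.subtype := H'.equivMapOfInjective T.subtype T.subtype_injective
  refine ⟨H'.map T.subtype, lam'.comp e.symm.toMonoidHom, ?_⟩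
  have hle : H'.map T.subtype ≤ T := Subgroup.map_subtype_le H'
  rw [← Cfsg.Agent.S0147.result (H'.map T.subtype) T hle]
  congr 1
  apply indFun_congr_subgroup
  · show H' = (H'.map T.subtype).comap T.subtype
    rw [Subgroup.comap_map_eq_self_of_injective T.subtype_injective]
  · intro x h1 h2
    show ((lam' ⟨x, h1⟩ : ℂˣ) : ℂ) = ((lam' (e.symm _) : ℂˣ) : ℂ)
    congr 2
    apply e.injective
    rw [MulEquiv.apply_symm_apply]
    apply Subtype.ext
    rfl

end IndDegree

section Comm
variable {G : Type u} [Group G] [Fintype G] {n : ℕ} (ρ : Representation ℂ G (Fin n → ℂ))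

local notation "X" => helper24.repMatrix ρ

/-- the elements acting by matrices commuting with the images of the elements of `S` -/
def commWith (S : Set G) : Subgroup G where
  carrier := {g | ∀ h ∈ S, X g * X h = X h * X g}
  one_mem' := by
    intro h _
    rw [map_one, Matrix.one_mul, Matrix.mul_one]
  mul_mem' := by
    intro a b ha hb h hh
    rw [map_mul, Matrix.mul_assoc, hb h hh, ← Matrix.mul_assoc, ha h hh, Matrix.mul_assoc]
  inv_mem' := by
    intro a ha h hh
    calc X a⁻¹ * X h = X a⁻¹ * X h * (X a * X a⁻¹) := by rw [X_mul_inv, Matrix.mul_one]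
      _ = X a⁻¹ * (X h * X a) * X a⁻¹ := by simp only [Matrix.mul_assoc]
      _ = X a⁻¹ * (X a * X h) * X a⁻¹ := by rw [ha h hh]
      _ = (X a⁻¹ * X a) * X h * X a⁻¹ := by simp only [Matrix.mul_assoc]
      _ = X h * X a⁻¹ := by rw [X_inv_mul, Matrix.one_mul]

theorem mem_commWith {S : Set G} {g : G} :
    g ∈ commWith ρ S ↔ ∀ h ∈ S, X g * X h = X h * X g := Iff.rfl

/-- the elements acting by matrices commuting with the whole image -/
def commSubgroup : Subgroup G := commWith ρ Set.univ

theorem mem_commSubgroup {g : G} : g ∈ commSubgroup ρ ↔ ∀ h, X g * X h = X h * X g :=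
  ⟨fun h y => h y (Set.mem_univ y), fun h y _ => h y⟩

instance commSubgroup_normal : (commSubgroup ρ).Normal := by
  constructor
  intro g hg x
  rw [mem_commSubgroup] at hg ⊢
  intro h
  have h1 : X (x * g * x⁻¹) = X g := by
    rw [map_mul, map_mul, ← hg x, Matrix.mul_assoc, X_mul_inv, Matrix.mul_one]
  rw [h1]
  exact hg h

theorem commSubgroup_ne_top (hρ : ρ.IsIrreducible) (hn : 2 ≤ n) : commSubgroup ρ ≠ ⊤ := by
  intro htop
  have hall : ∀ g h : G, X g * X h = X h * X g := by
    intro g h
    have : g ∈ commSubgroup ρ := by rw [htop]; trivial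
    exact (mem_commSubgroup ρ).mp this h
  have hscal : ∀ g : G, ∃ c : ℂ, X g = c • (1 : Matrix (Fin n) (Fin n) ℂ) :=
    fun g => mat_schur ρ hρ (X g) (fun h => hall g h)
  obtain ⟨c, hc⟩ := mat_schur ρ hρ (Matrix.single (⟨0, by omega⟩ : Fin n) ⟨1, by omega⟩ (1 : ℂ))
    (fun g => by
      obtain ⟨d, hd⟩ := hscal g
      rw [hd, Matrix.mul_smul, Matrix.smul_mul, Matrix.mul_one, Matrix.one_mul])
  have h6 := congrFun (congrFun hc ⟨0, by omega⟩) ⟨1, by omega⟩
  rw [Matrix.single_apply_same, Matrix.smul_apply, Matrix.one_apply_ne (by simp [Fin.ext_iff])]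
    at h6
  simp at h6

/-- For a nilpotent group and an irreducible representation of degree at least two there is a
normal subgroup with commutative image containing an element outside `commSubgroup ρ`. -/
theorem exists_comm_normal [Group.IsNilpotent G] (hρ : ρ.IsIrreducible) (hn : 2 ≤ n) :
    ∃ A : Subgroup G, A.Normal ∧ (∀ a ∈ A, ∀ b ∈ A, X a * X b = X b * X a) ∧
      ∃ x ∈ A, x ∉ commSubgroup ρ := by
  classical
  obtain ⟨Z, hZ⟩ : ∃ Z : Subgroup G, Z = commSubgroup ρ := ⟨_, rfl⟩
  haveI hZn : Z.Normal := by rw [hZ]; infer_instance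
  have hZtop : Z ≠ ⊤ := by rw [hZ]; exact commSubgroup_ne_top ρ hρ hn
  -- a step of the upper central series leaving `Z`
  obtain ⟨N, hN⟩ := Group.IsNilpotent.nilpotent G
  have hex : ∃ i, ¬ Subgroup.upperCentralSeries G i ≤ Z := by
    refine ⟨N, ?_⟩
    rw [hN]
    intro h
    exact hZtop (top_le_iff.mp h)
  let i := Nat.find hex
  have hi : ¬ Subgroup.upperCentralSeries G i ≤ Z := Nat.find_spec hex
  have hi0 : i ≠ 0 := by
    intro h0
    apply hi
    rw [h0, Subgroup.upperCentralSeries_zero]
    exact bot_le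
  obtain ⟨j, hj⟩ := Nat.exists_eq_succ_of_ne_zero hi0
  have hjle : Subgroup.upperCentralSeries G j ≤ Z := by
    by_contra h
    have := Nat.find_min' hex h
    omega
  obtain ⟨x, hxi, hxZ⟩ := SetLike.not_le_iff_exists.mp hi
  rw [hj] at hxi
  have hxc : ∀ y : G, ⁅x, y⁆ ∈ Z := fun y =>
    hjle (Subgroup.mem_upperCentralSeries_succ_iff.mp hxi y)
  -- the subgroup `A = Z ⊔ ⟨x⟩`
  obtain ⟨A, hA⟩ : ∃ A : Subgroup G, A = Z ⊔ Subgroup.zpowers x := ⟨_, rfl⟩
  have hZA : Z ≤ A := by rw [hA]; exact le_sup_left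
  have hxA : x ∈ A := by
    rw [hA]
    exact (le_sup_right : Subgroup.zpowers x ≤ _) (Subgroup.mem_zpowers x)
  have hAn : A.Normal := by
    constructor
    intro a ha g
    have hle : A.map (MulAut.conj g).toMonoidHom ≤ A := by
      rw [hA, Subgroup.map_sup, ← hA]
      apply sup_le
      · rintro _ ⟨z, hz, rfl⟩
        apply hZA
        exact hZn.conj_mem z hz g
      · rw [MonoidHom.map_zpowers, Subgroup.zpowers_le]
        show g * x * g⁻¹ ∈ A
        have h1 : g * x * g⁻¹ = (⁅x, g⁆)⁻¹ * x := by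
          rw [commutatorElement_def]
          group
        rw [h1]
        exact A.mul_mem (A.inv_mem (hZA (hxc g))) hxA
    exact hle ⟨a, ha, rfl⟩
  -- the image of `A` is commutative
  have hZall : ∀ z ∈ Z, ∀ h : G, X z * X h = X h * X z := by
    intro z hz h
    rw [hZ] at hz
    exact (mem_commSubgroup ρ).mp hz h
  have hcx : ∀ a ∈ A, X a * X x = X x * X a := by
    have hle : A ≤ commWith ρ {x} := by
      rw [hA]
      apply sup_le
      · intro z hz h hh
        exact hZall z hz h
      · rw [Subgroup.zpowers_le]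
        intro h hh
        rw [Set.mem_singleton_iff.mp hh]
    intro a ha
    exact hle ha x rfl
  refine ⟨A, hAn, ?_, x, hxA, by rw [← hZ]; exact hxZ⟩
  intro a ha b hb
  have hle : A ≤ commWith ρ {a} := by
    rw [hA]
    apply sup_le
    · intro z hz h hh
      exact hZall z hz h
    · rw [Subgroup.zpowers_le]
      intro h hh
      rw [Set.mem_singleton_iff.mp hh]
      exact (hcx a ha).symm
  exact (hle hb a rfl).symm

end Comm

section Main
variable {G : Type u} [Group G] [Fintype G] {n : ℕ} (ρ : Representation ℂ G (Fin n → ℂ))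

local notation "X" => helper24.repMatrix ρ

/-- the restriction of a nonzero-degree character to a subgroup has an irreducible constituent -/
theorem exists_constituent_res (hρ : ρ.IsIrreducible) (A : Subgroup G) [Fintype A] :
    ∃ θ : IrrCharacter A, classInner (helper5.res A ρ.character) (θ : A → ℂ) ≠ 0 := by
  classical
  haveI : Fintype (IrrCharacter A) := Fintype.ofFinite _
  have hn : 0 < n := helper23.pos_of_irreducible ρ hρ
  have hχ : IsIrrCharacter G ρ.character := ⟨n, ρ, hρ, rfl⟩
  by_contra hcon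
  push Not at hcon
  obtain ⟨c, hexp, hc, -⟩ :=
    helper12.char_decomp (helper5.isCharacter_res A (helper24.irr_isCharacter hχ))
  have h0 : helper5.res A ρ.character = 0 := by
    rw [hexp]
    apply Finset.sum_eq_zero
    intro μ _
    have := hc μ
    rw [hcon μ] at this
    rw [← this, zero_smul]
  have h1 := congrFun h0 1
  rw [helper5.res_apply, show ((1 : A) : G) = 1 from rfl, Representation.char_one,
    Module.finrank_fin_fun] at h1
  have : (n : ℂ) = 0 := h1
  have : n = 0 := by exact_mod_cast this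
  omega

/-- If the image of the normal subgroup `A` is commutative but contains a matrix not commuting
with the whole image, the inertia group of a constituent of `χ_A` is proper. -/
theorem inertia_ne_top_of_comm (hρ : ρ.IsIrreducible) (A : Subgroup G) [hAn : A.Normal] [Fintype A]
    (hcomm : ∀ a ∈ A, ∀ b ∈ A, X a * X b = X b * X a) (x : G) (hxA : x ∈ A)
    (hx : x ∉ commSubgroup ρ) (θ : IrrCharacter A)
    (hθ : classInner (helper5.res A ρ.character) (θ : A → ℂ) ≠ 0) : inertia A θ ≠ ⊤ := by
  classical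
  intro htop
  have hχ : IsIrrCharacter G ρ.character := ⟨n, ρ, hρ, rfl⟩
  have hinv : ∀ g : G, helper8.conjFunN A g (θ : A → ℂ) = θ := by
    intro g
    apply (mem_inertia A).mp
    rw [htop]; trivial
  obtain ⟨k, hres, -, hk0⟩ := helper5.clifford_invariant A hχ θ.2 hinv hθ
  have hkC : (k : ℂ) ≠ 0 := by exact_mod_cast hk0
  obtain ⟨d, σ, hσ, hσθ⟩ := θ.2
  have hd : 0 < d := helper23.pos_of_irreducible σ hσ
  have hkd : (n : ℂ) = k * d := by
    have h1 := congrFun hres 1
    rw [helper5.res_apply, Pi.smul_apply, smul_eq_mul, ← hσθ, Representation.char_one,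
      Module.finrank_fin_fun, show ((1 : A) : G) = 1 from rfl, Representation.char_one,
      Module.finrank_fin_fun] at h1
    exact h1
  -- `σ` has commutative image
  have hσcomm : ∀ a b : A, helper24.repMatrix σ a * helper24.repMatrix σ b =
      helper24.repMatrix σ b * helper24.repMatrix σ a := by
    intro a b
    have h2 : X ((⁅a, b⁆ : A) : G) = 1 := by
      have h3 : ((⁅a, b⁆ : A) : G) = (a : G) * b * (a : G)⁻¹ * (b : G)⁻¹ := by
        simp [commutatorElement_def]
      rw [h3, map_mul, map_mul, map_mul, hcomm a a.2 b b.2, Matrix.mul_assoc (X (b : G)),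
        X_mul_inv, Matrix.mul_one, X_mul_inv]
    have h1 : ρ.character ((⁅a, b⁆ : A) : G) = n := by
      rw [← helper24.repMatrix_trace, h2, Matrix.trace_one, Fintype.card_fin]
    have h3 : σ.character ⁅a, b⁆ = d := by
      have h4 := congrFun hres ⁅a, b⁆
      rw [helper5.res_apply, h1, Pi.smul_apply, smul_eq_mul, ← hσθ, hkd] at h4
      exact (mul_left_cancel₀ hkC h4).symm
    have h5 : σ ⁅a, b⁆ = 1 := (helper24.rep_char_eq_degree_iff σ _).mp h3
    have h6 : helper24.repMatrix σ ⁅a, b⁆ = 1 := by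
      show LinearMap.toMatrix' (σ ⁅a, b⁆) = 1
      rw [h5]
      exact LinearMap.toMatrix'_one
    rw [commutatorElement_def, map_mul, map_mul, map_mul] at h6
    calc helper24.repMatrix σ a * helper24.repMatrix σ b
        = helper24.repMatrix σ a * helper24.repMatrix σ b *
            ((helper24.repMatrix σ a⁻¹ * helper24.repMatrix σ b⁻¹) *
              (helper24.repMatrix σ b * helper24.repMatrix σ a)) := by
          have h7 : (helper24.repMatrix σ a⁻¹ * helper24.repMatrix σ b⁻¹) *
              (helper24.repMatrix σ b * helper24.repMatrix σ a) = 1 := by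
            rw [Matrix.mul_assoc, ← Matrix.mul_assoc (helper24.repMatrix σ b⁻¹), X_inv_mul,
              Matrix.one_mul, X_inv_mul]
          rw [h7, Matrix.mul_one]
      _ = (helper24.repMatrix σ a * helper24.repMatrix σ b * helper24.repMatrix σ a⁻¹ *
            helper24.repMatrix σ b⁻¹) * (helper24.repMatrix σ b * helper24.repMatrix σ a) := by
          simp only [Matrix.mul_assoc]
      _ = helper24.repMatrix σ b * helper24.repMatrix σ a := by rw [h6, Matrix.one_mul]
  -- hence `θ` is linear
  have hd1 : d = 1 := by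
    by_contra hne
    have hd2 : 2 ≤ d := by omega
    apply commSubgroup_ne_top σ hσ hd2
    rw [eq_top_iff]
    intro a _
    exact (mem_commSubgroup σ).mpr (fun h => hσcomm a h)
  have hθ1 : (θ : A → ℂ) 1 = 1 := by
    rw [← hσθ, Representation.char_one, Module.finrank_fin_fun, hd1, Nat.cast_one]
  obtain ⟨φ, hφ⟩ := helper23.exists_hom_of_linear (helper24.irr_isCharacter θ.2) hθ1
  have hkn : (k : ℂ) = n := by rw [hkd, hd1, Nat.cast_one, mul_one]
  -- `x` acts as a scalar
  let σ' : Representation ℂ A (Fin n → ℂ) := twistRep φ⁻¹ (ρ.comp A.subtype)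
  have hσ' : σ'.character ⟨x, hxA⟩ = n := by
    rw [twistRep_character]
    have h1 : Representation.character (ρ.comp A.subtype) ⟨x, hxA⟩ = ρ.character x := rfl
    have h2 := congrFun hres ⟨x, hxA⟩
    rw [helper5.res_apply, Pi.smul_apply, smul_eq_mul, hφ, hkn] at h2
    rw [h1]
    change ρ.character x = _ at h2
    rw [h2]
    have h3 : ((φ⁻¹ ⟨x, hxA⟩ : ℂˣ) : ℂ) * ((n : ℂ) * ((φ ⟨x, hxA⟩ : ℂˣ) : ℂ)) =
        (n : ℂ) * (((φ⁻¹ ⟨x, hxA⟩ * φ ⟨x, hxA⟩ : ℂˣ)) : ℂ) := by
      rw [Units.val_mul]; ring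
    rw [h3]
    have h4 : φ⁻¹ ⟨x, hxA⟩ * φ ⟨x, hxA⟩ = 1 := by
      rw [MonoidHom.inv_apply]
      exact inv_mul_cancel _
    rw [h4, Units.val_one, mul_one]
  have hσ1 : σ' ⟨x, hxA⟩ = 1 := (helper24.rep_char_eq_degree_iff σ' ⟨x, hxA⟩).mp hσ'
  have hσ2 : σ' ⟨x, hxA⟩ = ((φ⁻¹ ⟨x, hxA⟩ : ℂˣ) : ℂ) • ρ x := twistRep_apply _ _ _
  have h4 : ρ x = ((φ ⟨x, hxA⟩ : ℂˣ) : ℂ) • (1 : (Fin n → ℂ) →ₗ[ℂ] (Fin n → ℂ)) := by
    have h5 : ((φ ⟨x, hxA⟩ : ℂˣ) : ℂ) • (((φ⁻¹ ⟨x, hxA⟩ : ℂˣ) : ℂ) • ρ x) = ρ x := by
      rw [smul_smul, ← Units.val_mul, MonoidHom.inv_apply, mul_inv_cancel, Units.val_one,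
        one_smul]
    rw [← h5, ← hσ2, hσ1]
  have hXx : X x = ((φ ⟨x, hxA⟩ : ℂˣ) : ℂ) • (1 : Matrix (Fin n) (Fin n) ℂ) := by
    show LinearMap.toMatrix' (ρ x) = _
    rw [h4, map_smul]
    congr 1
    exact LinearMap.toMatrix'_one
  apply hx
  rw [mem_commSubgroup]
  intro h
  rw [hXx, Matrix.smul_mul, Matrix.mul_smul, Matrix.one_mul, Matrix.mul_one]

end Main

/-- **Nilpotent groups are M-groups.** -/
theorem nilpotent_monomial : ∀ (N : ℕ) (G : Type u) [Group G] [Fintype G] [Group.IsNilpotent G],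
    Nat.card G = N → ∀ χ : G → ℂ, IsIrrCharacter G χ →
      ∃ (H : Subgroup G) (lam : H →* ℂˣ), χ = indFun H (fun h => ((lam h : ℂˣ) : ℂ)) := by
  intro N
  induction N using Nat.strong_induction_on with
  | _ N ih =>
    intro G _ _ _ hcard χ hχ
    classical
    obtain ⟨n, ρ, hρ, hρχ⟩ := hχ
    subst hρχ
    have hχ : IsIrrCharacter G ρ.character := ⟨n, ρ, hρ, rfl⟩
    have hn0 : 0 < n := helper23.pos_of_irreducible ρ hρ
    by_cases hn : n ≤ 1
    · have hn1 : n = 1 := by omega
      have h1 : ρ.character 1 = 1 := by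
        rw [Representation.char_one, Module.finrank_fin_fun, hn1, Nat.cast_one]
      obtain ⟨φ, hφ⟩ := helper23.exists_hom_of_linear (helper24.irr_isCharacter hχ) h1
      refine ⟨⊤, φ.comp (⊤ : Subgroup G).subtype, ?_⟩
      have h2 := indFun_top (helper24.char_isClassFunction (helper24.irr_isCharacter hχ))
      conv_lhs => rw [← h2]
      congr 1
      funext h
      exact hφ h
    · push Not at hn
      obtain ⟨A, hAn, hcomm, x, hxA, hx⟩ := exists_comm_normal ρ hρ (by omega)
      haveI := hAn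
      haveI : Fintype A := Fintype.ofFinite _
      obtain ⟨θ, hθ⟩ := exists_constituent_res ρ hρ A
      have hT := inertia_ne_top_of_comm ρ hρ A hcomm x hxA hx θ hθ
      obtain ⟨T, hTdef⟩ : ∃ T : Subgroup G, T = inertia A θ := ⟨_, rfl⟩
      haveI : Fintype T := Fintype.ofFinite _
      obtain ⟨ψ, hψ, hψχ, -, hdeg⟩ := clifford_degree A hχ θ hθ T hTdef
      have hind := indFun_eq_of_degree T hχ (helper24.irr_isCharacter hψ) hψχ hdeg
      have hlt : Nat.card T < N := by
        rw [← hcard, ← Subgroup.card_mul_index T]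
        have h1 : T.index ≠ 1 := by
          rw [Ne, Subgroup.index_eq_one, hTdef]
          exact hT
        have h2 : T.index ≠ 0 := Subgroup.index_ne_zero_of_finite
        have h3 : 0 < Nat.card T := Nat.card_pos
        have h4 : 2 ≤ T.index := by omega
        nlinarith
      obtain ⟨H', lam', hlam'⟩ := ih (Nat.card T) hlt T rfl ψ hψ
      obtain ⟨H, lam, hH⟩ := indFun_map_subtype T H' lam'
      exact ⟨H, lam, by rw [← hH, ← hlam', hind]⟩

end Cfsg.Agent.helper22
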