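import Mathlib
import Cfsg.Agent.Lib_helper22_FS

set_option autoImplicit false
set_option linter.unusedSectionVars false
set_option linter.unusedVariables false

/-!
Real representations and the Frobenius–Schur indicator (helper22).

* `exists_equiv_of_char_eq` : a representation with the same character as an irreducible one is
  equivalent to it (matrix form);
* `fs_of_real_rep` : a character afforded by a real representation has indicator `1`;
* `exists_real_rep` : an irreducible representation with indicator `1` is equivalent to a real one.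
-/

namespace Cfsg.Agent.helper22

open Cfsg
open scoped ComplexConjugate
open Matrix

section Equiv
variable {G : Type*} [Group G] [Fintype G] {n : ℕ}

/-- a representation with the same character as an irreducible representation is equivalent to it -/
theorem exists_equiv_of_char_eq (ρ σ : Representation ℂ G (Fin n → ℂ)) (hρ : ρ.IsIrreducible)
    (h : σ.character = ρ.character) :
    ∃ P : Matrix (Fin n) (Fin n) ℂ, IsUnit P ∧
      ∀ g, P * helper24.repMatrix ρ g = helper24.repMatrix σ g * P := by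
  classical
  have := hρ
  have hGC : (Nat.card G : ℂ) ≠ 0 := by
    have : 0 < Nat.card G := Nat.card_pos
    exact_mod_cast this.ne'
  haveI hinv : Invertible (Nat.card G : ℂ) := invertibleOfNonzero hGC
  have h1 := Representation.card_inv_mul_sum_char_mul_char_eq_finrank ρ σ
  have h2 : (Nat.card G : ℂ)⁻¹ * ∑ g : G, σ.character g * ρ.character g⁻¹ = 1 := by
    have h3 := helper24.irr_classInner_self (G := G) (χ := ρ.character) ⟨n, ρ, hρ, rfl⟩
    unfold classInner at h3
    rw [← h3]
    congr 1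
    refine Finset.sum_congr rfl (fun g _ => ?_)
    rw [h, helper24.rep_char_inv]
  rw [h2] at h1
  have hfin : Module.finrank ℂ (ρ.IntertwiningMap σ) = 1 := by exact_mod_cast h1.symm
  have hpos : 0 < Module.finrank ℂ (ρ.IntertwiningMap σ) := by omega
  haveI : Module.Finite ℂ (ρ.IntertwiningMap σ) := Module.finite_of_finrank_pos hpos
  obtain ⟨f, hf⟩ := Module.finrank_pos_iff_exists_ne_zero.mp hpos
  -- the kernel of `f` is a subrepresentation
  let K : Subrepresentation ρ :=
    { toSubmodule := LinearMap.ker f.toLinearMap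
      apply_mem_toSubmodule := by
        intro g v hv
        rw [LinearMap.mem_ker] at hv ⊢
        have h5 := LinearMap.congr_fun (f.isIntertwining' g) v
        rw [LinearMap.comp_apply, LinearMap.comp_apply] at h5
        rw [h5, hv, map_zero] }
  have hK : K = ⊥ := by
    rcases eq_bot_or_eq_top K with hK | hK
    · exact hK
    · exfalso
      apply hf
      apply Representation.IntertwiningMap.ext
      apply LinearMap.ext
      intro v
      have hv : v ∈ K.toSubmodule := by rw [hK]; trivial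
      exact hv
  have hinj : Function.Injective f.toLinearMap := by
    rw [← LinearMap.ker_eq_bot]
    have := congrArg Subrepresentation.toSubmodule hK
    exact this
  refine ⟨LinearMap.toMatrix' f.toLinearMap, ?_, ?_⟩
  · rw [← Matrix.mulVec_injective_iff_isUnit]
    intro v w hvw
    apply hinj
    rw [← Matrix.toLin'_toMatrix' f.toLinearMap]
    exact hvw
  · intro g
    show LinearMap.toMatrix' f.toLinearMap * LinearMap.toMatrix' (ρ g) =
      LinearMap.toMatrix' (σ g) * LinearMap.toMatrix' f.toLinearMap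
    rw [← LinearMap.toMatrix'_comp, ← LinearMap.toMatrix'_comp, f.isIntertwining']

end Equiv

section RealToFS
variable {G : Type*} [Group G] [Fintype G]

/-- complexification of a real matrix representation -/
noncomputable def complexify {n : ℕ} (ρR : Representation ℝ G (Fin n → ℝ)) :
    Representation ℂ G (Fin n → ℂ) where
  toFun g := Matrix.toLin' (Complex.ofRealHom.mapMatrix (LinearMap.toMatrix' (ρR g)))
  map_one' := by
    rw [map_one]
    have : LinearMap.toMatrix' (1 : (Fin n → ℝ) →ₗ[ℝ] (Fin n → ℝ)) = 1 := LinearMap.toMatrix'_one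
    rw [this, map_one, Matrix.toLin'_one]
    rfl
  map_mul' g h := by
    rw [map_mul]
    have : LinearMap.toMatrix' (ρR g * ρR h) =
        LinearMap.toMatrix' (ρR g) * LinearMap.toMatrix' (ρR h) := LinearMap.toMatrix'_mul _ _
    rw [this, map_mul, Matrix.toLin'_mul]
    rfl

theorem repMatrix_complexify {n : ℕ} (ρR : Representation ℝ G (Fin n → ℝ)) (g : G) :
    helper24.repMatrix (complexify ρR) g =
      Complex.ofRealHom.mapMatrix (LinearMap.toMatrix' (ρR g)) := by
  show LinearMap.toMatrix' (Matrix.toLin' _) = _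
  rw [LinearMap.toMatrix'_toLin']

theorem complexify_character {n : ℕ} (ρR : Representation ℝ G (Fin n → ℝ)) (g : G) :
    (complexify ρR).character g = ((LinearMap.trace ℝ (Fin n → ℝ) (ρR g) : ℝ) : ℂ) := by
  rw [← helper24.repMatrix_trace, repMatrix_complexify,
    LinearMap.trace_eq_matrix_trace ℝ (Pi.basisFun ℝ (Fin n)), LinearMap.toMatrix_eq_toMatrix']
  rw [RingHom.mapMatrix_apply]
  unfold Matrix.trace
  simp

/-- a character afforded by a real representation has Frobenius–Schur indicator `1` -/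
theorem fs_of_real_rep {n : ℕ} (ρR : Representation ℝ G (Fin n → ℝ)) {χ : G → ℂ}
    (hχ : IsIrrCharacter G χ)
    (h : ∀ g, ((LinearMap.trace ℝ (Fin n → ℝ) (ρR g) : ℝ) : ℂ) = χ g) :
    fsInd χ = 1 := by
  classical
  obtain ⟨m, ρ', hirr, hχ'⟩ := hχ
  have hσχ : (complexify ρR).character = χ :=
    funext (fun g => by rw [complexify_character, h])
  have hmn : m = n := by
    have h1 : χ 1 = m := by rw [← hχ', Representation.char_one, Module.finrank_fin_fun]
    have h2 : χ 1 = n := by rw [← hσχ, Representation.char_one, Module.finrank_fin_fun]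
    rw [h1] at h2
    exact_mod_cast h2
  subst hmn
  obtain ⟨P, hPu, hP⟩ := exists_equiv_of_char_eq ρ' (complexify ρR) hirr (by rw [hσχ, hχ'])
  set M : Matrix (Fin m) (Fin m) ℂ :=
    ∑ g : G, (helper24.repMatrix (complexify ρR) g)ᵀ * helper24.repMatrix (complexify ρR) g with hM
  have hMinv : ∀ h, (helper24.repMatrix (complexify ρR) h)ᵀ * M *
      helper24.repMatrix (complexify ρR) h = M := by
    intro h
    rw [hM, Finset.mul_sum, Finset.sum_mul]
    refine Fintype.sum_equiv (Equiv.mulRight h) _ _ (fun g => ?_)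
    simp only [Equiv.coe_mulRight, map_mul, Matrix.transpose_mul]
    simp only [Matrix.mul_assoc]
  have hMsymm : Mᵀ = M := by
    rw [hM, Matrix.transpose_sum]
    refine Finset.sum_congr rfl (fun g _ => ?_)
    rw [Matrix.transpose_mul, Matrix.transpose_transpose]
  have hm : 0 < m := helper23.pos_of_irreducible ρ' hirr
  have hM0 : M ≠ 0 := by
    set i₀ : Fin m := ⟨0, hm⟩ with hi₀
    have hentry : M i₀ i₀ =
        ((∑ g : G, ∑ k : Fin m, (LinearMap.toMatrix' (ρR g) k i₀) ^ 2 : ℝ) : ℂ) := by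
      rw [hM, Matrix.sum_apply]
      push_cast
      refine Finset.sum_congr rfl (fun g _ => ?_)
      rw [Matrix.mul_apply]
      refine Finset.sum_congr rfl (fun k _ => ?_)
      rw [Matrix.transpose_apply, repMatrix_complexify, RingHom.mapMatrix_apply, Matrix.map_apply]
      simp [pow_two]
    have hge : (1 : ℝ) ≤ ∑ g : G, ∑ k : Fin m, (LinearMap.toMatrix' (ρR g) k i₀) ^ 2 := by
      have h1 : ∑ k : Fin m, (LinearMap.toMatrix' (ρR 1) k i₀) ^ 2 = 1 := by
        rw [map_one]
        have : LinearMap.toMatrix' (1 : (Fin m → ℝ) →ₗ[ℝ] (Fin m → ℝ)) = 1 :=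
          LinearMap.toMatrix'_one
        rw [this]
        simp [Matrix.one_apply]
      calc (1 : ℝ) = _ := h1.symm
        _ ≤ _ := Finset.single_le_sum
          (f := fun g => ∑ k : Fin m, (LinearMap.toMatrix' (ρR g) k i₀) ^ 2)
          (fun g _ => Finset.sum_nonneg (fun k _ => sq_nonneg _)) (Finset.mem_univ 1)
    intro h0
    rw [h0] at hentry
    have h2 : (0 : ℝ) = ∑ g : G, ∑ k : Fin m, (LinearMap.toMatrix' (ρR g) k i₀) ^ 2 := by
      have : ((0 : ℝ) : ℂ) = ((∑ g : G, ∑ k : Fin m,
          (LinearMap.toMatrix' (ρR g) k i₀) ^ 2 : ℝ) : ℂ) := by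
        rw [← hentry]; simp
      exact_mod_cast this
    linarith
  have hM'inv : ∀ g, (helper24.repMatrix ρ' g)ᵀ * (Pᵀ * M * P) * helper24.repMatrix ρ' g =
      Pᵀ * M * P := by
    intro g
    calc (helper24.repMatrix ρ' g)ᵀ * (Pᵀ * M * P) * helper24.repMatrix ρ' g
        = (P * helper24.repMatrix ρ' g)ᵀ * M * (P * helper24.repMatrix ρ' g) := by
          rw [Matrix.transpose_mul]; simp only [Matrix.mul_assoc]
      _ = (helper24.repMatrix (complexify ρR) g * P)ᵀ * M *
            (helper24.repMatrix (complexify ρR) g * P) := by rw [hP g]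
      _ = Pᵀ * ((helper24.repMatrix (complexify ρR) g)ᵀ * M *
            helper24.repMatrix (complexify ρR) g) * P := by
          rw [Matrix.transpose_mul]; simp only [Matrix.mul_assoc]
      _ = Pᵀ * M * P := by rw [hMinv g]
  have hfs := fs_transpose ρ' hirr (Pᵀ * M * P) hM'inv
  have hM'symm : (Pᵀ * M * P)ᵀ = Pᵀ * M * P := by
    rw [Matrix.transpose_mul, Matrix.transpose_mul, Matrix.transpose_transpose, hMsymm,
      Matrix.mul_assoc]
  have hM'0 : Pᵀ * M * P ≠ 0 := by
    intro h0
    apply hM0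
    obtain ⟨U, hU⟩ := hPu
    have : M = (↑U⁻¹ : Matrix (Fin m) (Fin m) ℂ)ᵀ * (Pᵀ * M * P) *
        (↑U⁻¹ : Matrix (Fin m) (Fin m) ℂ) := by
      rw [← hU]
      simp only [Matrix.mul_assoc]
      rw [Units.mul_inv, Matrix.mul_one, ← Matrix.mul_assoc, ← Matrix.transpose_mul,
        Units.mul_inv, Matrix.transpose_one, Matrix.one_mul]
    rw [this, h0]
    simp
  rw [hM'symm] at hfs
  have hν : fsRep ρ' = 1 := by
    by_contra hne
    apply hM'0
    have : (1 - fsRep ρ') • (Pᵀ * M * P) = 0 := by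
      rw [sub_smul, one_smul, ← hfs, sub_self]
    rcases smul_eq_zero.mp this with h | h
    · exact absurd (sub_eq_zero.mp h).symm hne
    · exact h
  unfold fsInd
  rw [← hχ']
  exact hν

end RealToFS

section FSToReal
variable {G : Type*} [Group G] [Fintype G] {n : ℕ} (ρ : Representation ℂ G (Fin n → ℂ))

local notation "X" => helper24.repMatrix ρ

/-- entrywise complex conjugation of matrices, as a ring homomorphism -/
noncomputable abbrev cj {n : ℕ} : Matrix (Fin n) (Fin n) ℂ →+* Matrix (Fin n) (Fin n) ℂ :=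
  (starRingEnd ℂ).mapMatrix

theorem cj_cj {n : ℕ} (B : Matrix (Fin n) (Fin n) ℂ) : cj (cj B) = B := by
  ext i j
  simp [cj]

theorem cj_transpose {n : ℕ} (B : Matrix (Fin n) (Fin n) ℂ) : cj Bᵀ = Bᴴ := by
  ext i j
  simp [cj, Matrix.conjTranspose_apply]

theorem cj_smul {n : ℕ} (c : ℂ) (B : Matrix (Fin n) (Fin n) ℂ) :
    cj (c • B) = (starRingEnd ℂ c) • cj B := by
  ext i j
  simp [cj]

theorem exists_symm_invariant (hρ : ρ.IsIrreducible) (hν : fsRep ρ = 1) :
    ∃ M : Matrix (Fin n) (Fin n) ℂ, IsUnit M ∧ Mᵀ = M ∧ ∀ g, (X g)ᵀ * M * X g = M := by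
  have hreal : ∀ g : G, (ρ.character g).im = 0 := by
    by_contra hcon
    have := fs_of_not_real ρ hρ hcon
    rw [hν] at this
    exact one_ne_zero this
  obtain ⟨M, hM0, hM⟩ := exists_invariant_of_real ρ hρ hreal
  refine ⟨M, isUnit_of_invariant ρ hρ M hM0 hM, ?_, hM⟩
  have := fs_transpose ρ hρ M hM
  rw [hν, one_smul] at this
  exact this

open scoped ComplexOrder in
theorem posDef_sum_conjTranspose_mul : (∑ g : G, (X g)ᴴ * X g).PosDef := by
  classical
  rw [← Finset.add_sum_erase _ _ (Finset.mem_univ (1 : G))]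
  apply Matrix.PosDef.add_posSemidef
  · rw [map_one, Matrix.conjTranspose_one, Matrix.one_mul]
    exact Matrix.PosDef.one
  · apply Matrix.posSemidef_sum
    intro g _
    exact Matrix.posSemidef_conjTranspose_mul_self _

theorem sum_conjTranspose_mul_invariant (h : G) :
    (X h)ᴴ * (∑ g : G, (X g)ᴴ * X g) * X h = ∑ g : G, (X g)ᴴ * X g := by
  rw [Finset.mul_sum, Finset.sum_mul]
  refine Fintype.sum_equiv (Equiv.mulRight h) _ _ (fun g => ?_)
  simp only [Equiv.coe_mulRight, map_mul, Matrix.conjTranspose_mul]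
  simp only [Matrix.mul_assoc]

open scoped ComplexOrder in
/-- for indicator `1` there is an intertwiner `A` between `X` and its conjugate with `A Ā = 1` -/
theorem exists_intertwiner (hρ : ρ.IsIrreducible) (hν : fsRep ρ = 1) :
    ∃ A : Matrix (Fin n) (Fin n) ℂ, (∀ g, X g * A = A * cj (X g)) ∧ A * cj A = 1 := by
  classical
  obtain ⟨M, hMu, hMs, hM⟩ := exists_symm_invariant ρ hρ hν
  obtain ⟨H, hH⟩ : ∃ H, H = ∑ g : G, (X g)ᴴ * X g := ⟨_, rfl⟩
  have hHpd : H.PosDef := by rw [hH]; exact posDef_sum_conjTranspose_mul ρ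
  have hHinv : ∀ h, (X h)ᴴ * H * X h = H := by
    intro h; rw [hH]; exact sum_conjTranspose_mul_invariant ρ h
  have hHu : IsUnit H := hHpd.isUnit
  have hHdet : IsUnit H.det := (Matrix.isUnit_iff_isUnit_det _).mp hHu
  obtain ⟨A₀, hA₀⟩ : ∃ A₀, A₀ = H⁻¹ * cj M := ⟨_, rfl⟩
  have hHA : H * A₀ = cj M := by rw [hA₀, Matrix.mul_nonsing_inv_cancel_left _ _ hHdet]
  have hcjM : ∀ g, (X g)ᴴ * cj M * cj (X g) = cj M := by
    intro g
    have := congrArg cj (hM g)
    rw [map_mul, map_mul, cj_transpose] at this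
    exact this
  have hHX : ∀ g, H * X g = (X g⁻¹)ᴴ * H := by
    intro g
    have h1 := hHinv g⁻¹
    calc H * X g = ((X g⁻¹)ᴴ * H * X g⁻¹) * X g := by rw [h1]
      _ = (X g⁻¹)ᴴ * H := by rw [Matrix.mul_assoc, X_inv_mul, Matrix.mul_one]
  have hMX : ∀ g, (X g⁻¹)ᴴ * cj M = cj M * cj (X g) := by
    intro g
    have h1 := hcjM g⁻¹
    calc (X g⁻¹)ᴴ * cj M = (X g⁻¹)ᴴ * cj M * (cj (X g⁻¹) * cj (X g)) := by
          rw [← map_mul, X_inv_mul, map_one, Matrix.mul_one]
      _ = cj M * cj (X g) := by rw [← Matrix.mul_assoc, h1]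
  have hXA : ∀ g, X g * A₀ = A₀ * cj (X g) := by
    intro g
    have h1 : H * (X g * A₀) = H * (A₀ * cj (X g)) := by
      rw [← Matrix.mul_assoc, hHX, Matrix.mul_assoc, hHA, hMX, ← Matrix.mul_assoc H, hHA]
    have h2 := congrArg (fun B => H⁻¹ * B) h1
    simp only [Matrix.nonsing_inv_mul_cancel_left _ _ hHdet] at h2
    exact h2
  have hcjXA : ∀ g, cj (X g) * cj A₀ = cj A₀ * X g := by
    intro g
    have := congrArg cj (hXA g)
    rw [map_mul, map_mul, cj_cj] at this
    exact this
  obtain ⟨c, hc⟩ := mat_schur ρ hρ (A₀ * cj A₀) (fun g => by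
    rw [Matrix.mul_assoc, ← hcjXA, ← Matrix.mul_assoc, ← hXA, Matrix.mul_assoc])
  -- positivity of `c`
  have hcjMH : cj M = Mᴴ := by rw [← cj_transpose, hMs]
  have hcjH : cj H = Hᵀ := by
    have h1 : Hᴴ = H := hHpd.isHermitian
    rw [← cj_transpose] at h1
    have h2 := congrArg cj h1
    rw [cj_cj] at h2
    exact h2.symm
  have hHTdet : IsUnit (Hᵀ).det := by rw [Matrix.det_transpose]; exact hHdet
  have hcjA : cj A₀ = (Hᵀ)⁻¹ * M := by
    have h1 := congrArg cj hHA
    rw [map_mul, cj_cj, hcjH] at h1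
    have h2 := congrArg (fun B => (Hᵀ)⁻¹ * B) h1
    simp only [Matrix.nonsing_inv_mul_cancel_left _ _ hHTdet] at h2
    exact h2
  have hcH : c • H = Mᴴ * (Hᵀ)⁻¹ * M := by
    have h1 : H * (A₀ * cj A₀) = cj M * cj A₀ := by rw [← Matrix.mul_assoc, hHA]
    rw [hc, Matrix.mul_smul, Matrix.mul_one, hcjMH, hcjA, ← Matrix.mul_assoc] at h1
    exact h1
  have hMinj : Function.Injective M.mulVec := Matrix.mulVec_injective_iff_isUnit.mpr hMu
  have hpd2 : (c • H).PosDef := by
    rw [hcH]
    exact hHpd.transpose.inv.conjTranspose_mul_mul_same hMinj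
  have hn : 0 < n := helper23.pos_of_irreducible ρ hρ
  have hd1 : 0 < H ⟨0, hn⟩ ⟨0, hn⟩ := hHpd.diag_pos
  have hd2 : 0 < (c • H) ⟨0, hn⟩ ⟨0, hn⟩ := hpd2.diag_pos
  rw [Matrix.smul_apply, smul_eq_mul] at hd2
  rw [Complex.lt_def] at hd1 hd2
  simp only [Complex.zero_re, Complex.zero_im, Complex.mul_re, Complex.mul_im] at hd1 hd2
  obtain ⟨ha, ha'⟩ := hd1
  obtain ⟨hb, hb'⟩ := hd2
  rw [← ha', mul_zero, sub_zero] at hb
  rw [← ha', mul_zero, zero_add] at hb'
  have hcim : c.im = 0 := by
    rcases mul_eq_zero.mp hb'.symm with h | h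
    · exact h
    · exfalso; linarith
  have hcre : 0 < c.re := by
    by_contra hcon
    push Not at hcon
    have : c.re * (H ⟨0, hn⟩ ⟨0, hn⟩).re ≤ 0 := mul_nonpos_of_nonpos_of_nonneg hcon ha.le
    linarith
  set r : ℝ := Real.sqrt c.re with hr
  have hrpos : 0 < r := Real.sqrt_pos.mpr hcre
  have hrr : r * r = c.re := Real.mul_self_sqrt hcre.le
  have hcC : c = (r : ℂ) * (r : ℂ) := by
    apply Complex.ext
    · simp [hrr]
    · simp [hcim]
  have hrC : (r : ℂ) ≠ 0 := by exact_mod_cast hrpos.ne'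
  refine ⟨(r : ℂ)⁻¹ • A₀, ?_, ?_⟩
  · intro g
    rw [Matrix.mul_smul, Matrix.smul_mul, hXA]
  · rw [cj_smul, Matrix.smul_mul, Matrix.mul_smul, smul_smul, hc, smul_smul, map_inv₀,
      Complex.conj_ofReal, hcC]
    have : (r : ℂ)⁻¹ * (r : ℂ)⁻¹ * ((r : ℂ) * (r : ℂ)) = 1 := by
      field_simp
    rw [this, one_smul]

/-- Hilbert 90 for `GL_n(ℂ)` over `ℝ` -/
theorem hilbert90 {n : ℕ} (A : Matrix (Fin n) (Fin n) ℂ) (hA : A * cj A = 1) :
    ∃ S : Matrix (Fin n) (Fin n) ℂ, IsUnit S ∧ A * cj S = S := by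
  classical
  obtain ⟨q, hq⟩ : ∃ q, q = (-A).charpoly := ⟨_, rfl⟩
  have hq0 : q ≠ 0 := by rw [hq]; exact (Matrix.charpoly_monic _).ne_zero
  let lam : ℝ → ℂ := fun s => 1 + (s : ℂ) * Complex.I
  let lamb : ℝ → ℂ := fun s => 1 - (s : ℂ) * Complex.I
  have hlamb0 : ∀ s, lamb s ≠ 0 := by
    intro s h
    have := congrArg Complex.re h
    simp [lamb] at this
  have hconj : ∀ s, (starRingEnd ℂ) (lam s) = lamb s := by
    intro s
    simp [lam, lamb, sub_eq_add_neg]
  have hconj' : ∀ s, (starRingEnd ℂ) (lamb s) = lam s := by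
    intro s
    simp [lam, lamb, sub_eq_add_neg]
  obtain ⟨s, hs⟩ : ∃ s : ℝ, q.eval (lam s / lamb s) ≠ 0 := by
    by_contra hcon
    push Not at hcon
    have hinj : Function.Injective (fun s : ℝ => lam s / lamb s) := by
      intro s t hst
      simp only at hst
      rw [div_eq_div_iff (hlamb0 s) (hlamb0 t)] at hst
      have := congrArg Complex.im hst
      simp [lam, lamb] at this
      linarith
    let f : ℝ → {z : ℂ // z ∈ q.roots.toFinset} := fun s =>
      ⟨lam s / lamb s, by
        rw [Multiset.mem_toFinset, Polynomial.mem_roots hq0]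
        exact hcon s⟩
    apply not_injective_infinite_finite f
    intro s t hst
    exact hinj (congrArg Subtype.val hst)
  refine ⟨lam s • 1 + lamb s • A, ?_, ?_⟩
  · rw [Matrix.isUnit_iff_isUnit_det]
    have h1 : lam s • (1 : Matrix (Fin n) (Fin n) ℂ) + lamb s • A =
        lamb s • (Matrix.scalar (Fin n) (lam s / lamb s) - (-A)) := by
      rw [sub_neg_eq_add, smul_add]
      congr 1
      ext i j
      by_cases hij : i = j
      · subst hij
        simp
        field_simp [hlamb0 s]
      · simp [hij]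
    rw [h1, Matrix.det_smul, ← Matrix.eval_charpoly, ← hq]
    exact isUnit_iff_ne_zero.mpr (mul_ne_zero (pow_ne_zero _ (hlamb0 s)) hs)
  · rw [map_add, cj_smul, cj_smul, map_one, hconj, hconj', Matrix.mul_add, Matrix.mul_smul,
      Matrix.mul_smul, Matrix.mul_one, hA, add_comm]

/-- an irreducible representation with Frobenius–Schur indicator `1` is equivalent to a real
representation -/
theorem exists_real_rep (hρ : ρ.IsIrreducible) (hν : fsRep ρ = 1) :
    ∃ ρR : Representation ℝ G (Fin n → ℝ),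
      ∀ g, ((LinearMap.trace ℝ (Fin n → ℝ) (ρR g) : ℝ) : ℂ) = ρ.character g := by
  classical
  obtain ⟨A, hXA, hAA⟩ := exists_intertwiner ρ hρ hν
  obtain ⟨S, hSu, hAS⟩ := hilbert90 A hAA
  have hSdet : IsUnit S.det := (Matrix.isUnit_iff_isUnit_det _).mp hSu
  obtain ⟨Y, hY⟩ : ∃ Y : G → Matrix (Fin n) (Fin n) ℂ, Y = fun g => S⁻¹ * X g * S := ⟨_, rfl⟩
  have hY1 : Y 1 = 1 := by
    rw [hY]
    simp only [map_one, Matrix.mul_one]
    exact Matrix.nonsing_inv_mul _ hSdet
  have hYmul : ∀ g h, Y (g * h) = Y g * Y h := by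
    intro g h
    rw [hY]
    simp only [map_mul]
    rw [Matrix.mul_assoc (S⁻¹ * X g) S, Matrix.mul_assoc S⁻¹ (X h) S,
      Matrix.mul_nonsing_inv_cancel_left _ _ hSdet]
    simp only [Matrix.mul_assoc]
  have hYreal : ∀ g, cj (Y g) = Y g := by
    intro g
    have hW : A * cj (X g * S) = X g * S := by
      rw [map_mul, ← Matrix.mul_assoc, ← hXA, Matrix.mul_assoc, hAS]
    have hSY : S * Y g = X g * S := by
      rw [hY]
      simp only
      rw [← Matrix.mul_assoc, ← Matrix.mul_assoc, Matrix.mul_nonsing_inv _ hSdet, Matrix.one_mul]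
    have h1 : S * cj (Y g) = S * Y g := by
      have h2 := congrArg cj hSY
      rw [map_mul] at h2
      calc S * cj (Y g) = A * cj S * cj (Y g) := by rw [hAS]
        _ = A * cj (X g * S) := by rw [Matrix.mul_assoc, h2]
        _ = X g * S := hW
        _ = S * Y g := hSY.symm
    have h3 := congrArg (fun B => S⁻¹ * B) h1
    simp only [Matrix.nonsing_inv_mul_cancel_left _ _ hSdet] at h3
    exact h3
  obtain ⟨Z, hZ⟩ : ∃ Z : G → Matrix (Fin n) (Fin n) ℝ, Z = fun g => (Y g).map Complex.re :=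
    ⟨_, rfl⟩
  have hZY : ∀ g, Complex.ofRealHom.mapMatrix (Z g) = Y g := by
    intro g
    ext i j
    rw [hZ]
    simp only [RingHom.mapMatrix_apply, Matrix.map_apply, Complex.ofRealHom_eq_coe]
    have := congrFun (congrFun (hYreal g) i) j
    simp only [cj, RingHom.mapMatrix_apply, Matrix.map_apply] at this
    exact Complex.conj_eq_iff_re.mp this
  have hinj : Function.Injective
      (Complex.ofRealHom.mapMatrix : Matrix (Fin n) (Fin n) ℝ → Matrix (Fin n) (Fin n) ℂ) := by
    intro B C hBC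
    ext i j
    have := congrFun (congrFun hBC i) j
    simpa using this
  have hZ1 : Z 1 = 1 := hinj (by rw [hZY, hY1, map_one])
  have hZmul : ∀ g h, Z (g * h) = Z g * Z h :=
    fun g h => hinj (by rw [hZY, hYmul, map_mul, hZY, hZY])
  refine ⟨{ toFun := fun g => Matrix.toLin' (Z g)
            map_one' := by rw [hZ1, Matrix.toLin'_one]; rfl
            map_mul' := fun g h => by rw [hZmul, Matrix.toLin'_mul]; rfl }, ?_⟩
  intro g
  show ((LinearMap.trace ℝ (Fin n → ℝ) (Matrix.toLin' (Z g)) : ℝ) : ℂ) = ρ.character g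
  rw [LinearMap.trace_eq_matrix_trace ℝ (Pi.basisFun ℝ (Fin n)), LinearMap.toMatrix_eq_toMatrix',
    LinearMap.toMatrix'_toLin']
  have h1 : (((Z g).trace : ℝ) : ℂ) = (Complex.ofRealHom.mapMatrix (Z g)).trace := by
    rw [RingHom.mapMatrix_apply]
    unfold Matrix.trace
    simp
  rw [h1, hZY, ← helper24.repMatrix_trace, hY]
  simp only
  rw [Matrix.trace_mul_comm, ← Matrix.mul_assoc, Matrix.mul_nonsing_inv _ hSdet, Matrix.one_mul]

end FSToReal

end Cfsg.Agent.helper22
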