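import Mathlib
import Cfsg.Prelude.Def_CharExt
import Cfsg.Agent.Lib_helper22_RealRep
import Cfsg.Agent.Lib_helper22_LinChar
import Cfsg.Agent.Lib_helper5_Clifford

set_option autoImplicit false
set_option linter.unusedSectionVars false
set_option linter.unusedVariables false

/-!
Determinantal characters of irreducible characters (helper22).

* `detHom ρ` : the determinant of a representation as a homomorphism to `ℂˣ`;
* `detChar_eq_of_irr` : for an irreducible character `χ`, `detChar χ` is the determinant of any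
  representation affording `χ`;
* `detChar_twist` : `det (φ χ) = φ ^ χ(1) det χ`;
* `detChar_res` : restriction to a subgroup on which `χ` stays irreducible.
-/

namespace Cfsg.Agent.helper22

open Cfsg

universe u

section Det
variable {G : Type u} [Group G]

/-- the determinant of a representation as a homomorphism to `ℂˣ` -/
noncomputable def detHom {n : ℕ} (ρ : Representation ℂ G (Fin n → ℂ)) : G →* ℂˣ :=
  ((LinearMap.det : ((Fin n → ℂ) →ₗ[ℂ] (Fin n → ℂ)) →* ℂ).comp ρ).toHomUnits

theorem detHom_apply {n : ℕ} (ρ : Representation ℂ G (Fin n → ℂ)) (g : G) :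
    ((detHom ρ g : ℂˣ) : ℂ) = LinearMap.det (ρ g) := rfl

theorem rep_dim_eq {n m : ℕ} (ρ : Representation ℂ G (Fin n → ℂ))
    (σ : Representation ℂ G (Fin m → ℂ)) (h : σ.character = ρ.character) : m = n := by
  have h1 := congrFun h 1
  rw [Representation.char_one, Representation.char_one, Module.finrank_fin_fun,
    Module.finrank_fin_fun] at h1
  exact_mod_cast h1

variable [Fintype G]

/-- for an irreducible character, `detChar` is the determinant of any representation affording it -/
theorem detChar_eq_of_irr {χ : G → ℂ} (hχ : IsIrrCharacter G χ) {m : ℕ}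
    (σ : Representation ℂ G (Fin m → ℂ)) (hσ : σ.character = χ) (g : G) :
    detChar χ g = LinearMap.det (σ g) := by
  have hc : IsCharacter G χ := helper24.irr_isCharacter hχ
  obtain ⟨n, ρ, hρ, hρχ⟩ := hχ
  have key : ∀ (k : ℕ) (τ : Representation ℂ G (Fin k → ℂ)), τ.character = χ →
      LinearMap.det (τ g) = LinearMap.det (ρ g) := by
    intro k τ hτ
    have hk : k = n := rep_dim_eq ρ τ (hτ.trans hρχ.symm)
    subst hk
    obtain ⟨P, hP, hPg⟩ := exists_equiv_of_char_eq ρ τ hρ (hτ.trans hρχ.symm)
    have h1 := congrArg Matrix.det (hPg g)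
    rw [Matrix.det_mul, Matrix.det_mul] at h1
    have hdP : P.det ≠ 0 := ((Matrix.isUnit_iff_isUnit_det _).mp hP).ne_zero
    have h2 : (helper24.repMatrix ρ g).det = (helper24.repMatrix τ g).det := by
      apply mul_left_cancel₀ hdP
      rw [h1, mul_comm]
    have h3 : ∀ τ' : Representation ℂ G (Fin k → ℂ),
        (helper24.repMatrix τ' g).det = LinearMap.det (τ' g) := by
      intro τ'
      show (LinearMap.toMatrix' (τ' g)).det = _
      rw [LinearMap.det_toMatrix']
    rw [← h3 τ, ← h3 ρ, h2]
  have hdef : detChar χ g =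
      LinearMap.det ((Classical.choose (Classical.choose_spec hc)) g) := by
    unfold detChar
    rw [dif_pos hc]
  rw [hdef, key _ _ (Classical.choose_spec (Classical.choose_spec hc)), key m σ hσ]

/-- `detChar` of an irreducible character is a linear character -/
theorem exists_detHom {χ : G → ℂ} (hχ : IsIrrCharacter G χ) :
    ∃ D : G →* ℂˣ, ∀ g, detChar χ g = ((D g : ℂˣ) : ℂ) := by
  obtain ⟨n, ρ, hρ, hρχ⟩ := id hχ
  exact ⟨detHom ρ, fun g => detChar_eq_of_irr hχ ρ hρχ g⟩

/-- `det (φ χ) = φ ^ χ(1) det χ` -/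
theorem detChar_twist (φ : G →* ℂˣ) {χ : G → ℂ} (hχ : IsIrrCharacter G χ) (d : ℕ)
    (hd : χ 1 = d) (g : G) :
    detChar (fun g => ((φ g : ℂˣ) : ℂ) * χ g) g = ((φ g : ℂˣ) : ℂ) ^ d * detChar χ g := by
  obtain ⟨n, ρ, hρ, hρχ⟩ := id hχ
  have hn : n = d := by
    have h1 := congrFun hρχ 1
    rw [Representation.char_one, Module.finrank_fin_fun, hd] at h1
    exact_mod_cast h1
  have h1 : (twistRep φ ρ).character = fun g => ((φ g : ℂˣ) : ℂ) * χ g := by
    funext x
    rw [twistRep_character, hρχ]
  rw [detChar_eq_of_irr (twist_isIrr φ hχ) (twistRep φ ρ) h1, detChar_eq_of_irr hχ ρ hρχ,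
    twistRep_apply, LinearMap.det_smul, Module.finrank_fin_fun]
  subst hn
  rfl

/-- restriction to a subgroup on which the character stays irreducible -/
theorem detChar_res (N : Subgroup G) [Fintype N] {χ : G → ℂ} (hχ : IsIrrCharacter G χ)
    (hχN : IsIrrCharacter N (helper5.res N χ)) (n : N) :
    detChar (helper5.res N χ) n = detChar χ (n : G) := by
  obtain ⟨k, ρ, hρ, hρχ⟩ := id hχ
  obtain ⟨σ, hσ⟩ : ∃ σ : Representation ℂ N (Fin k → ℂ), σ = ρ.comp N.subtype := ⟨_, rfl⟩
  have h1 : σ.character = helper5.res N χ := by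
    funext x
    rw [← hρχ, hσ]
    rfl
  rw [detChar_eq_of_irr hχN σ h1, detChar_eq_of_irr hχ ρ hρχ, hσ]
  rfl

end Det

end Cfsg.Agent.helper22
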