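import Mathlib
import Cfsg.Prelude.Def_Local

set_option autoImplicit false
open Cfsg
open scoped commutatorElement Pointwise

namespace Cfsg.Agent.helper7

/-- Commutators ignore central factors. -/
theorem comm_mul_central {H : Type*} [Group H] (n n' z z' : H) (hz : z ∈ Subgroup.center H)
    (hz' : z' ∈ Subgroup.center H) : ⁅n * z, n' * z'⁆ = ⁅n, n'⁆ := by
  have hz1 : ∀ g, g * z = z * g := Subgroup.mem_center_iff.1 hz
  have hz2 : ∀ g, g * z' = z' * g := Subgroup.mem_center_iff.1 hz'
  rw [commutatorElement_def, commutatorElement_def]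
  have e1 : (n * z)⁻¹ = n⁻¹ * z⁻¹ := by
    rw [mul_inv_rev]
    calc z⁻¹ * n⁻¹ = (n * z)⁻¹ := by group
      _ = (z * n)⁻¹ := by rw [hz1 n]
      _ = n⁻¹ * z⁻¹ := by group
  have e2 : (n' * z')⁻¹ = n'⁻¹ * z'⁻¹ := by
    rw [mul_inv_rev]
    calc z'⁻¹ * n'⁻¹ = (n' * z')⁻¹ := by group
      _ = (z' * n')⁻¹ := by rw [hz2 n']
      _ = n'⁻¹ * z'⁻¹ := by group
  rw [e1, e2]
  calc n * z * (n' * z') * (n⁻¹ * z⁻¹) * (n'⁻¹ * z'⁻¹)
      = n * (z * (n' * z' * n⁻¹)) * z⁻¹ * n'⁻¹ * z'⁻¹ := by group
    _ = n * ((n' * z' * n⁻¹) * z) * z⁻¹ * n'⁻¹ * z'⁻¹ := by rw [hz1 (n' * z' * n⁻¹)]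
    _ = n * n' * (z' * (n⁻¹ * n'⁻¹)) * z'⁻¹ := by group
    _ = n * n' * ((n⁻¹ * n'⁻¹) * z') * z'⁻¹ := by rw [hz2 (n⁻¹ * n'⁻¹)]
    _ = n * n' * n⁻¹ * n'⁻¹ := by group

/-- For a normal subgroup `N`, the commutator subgroup of `N Z(H)` lies in `[N, N]`. -/
theorem commutator_sup_center_le {H : Type*} [Group H] (N : Subgroup H) [N.Normal] :
    ⁅N ⊔ Subgroup.center H, N ⊔ Subgroup.center H⁆ ≤ ⁅N, N⁆ := by
  rw [Subgroup.commutator_le]
  intro a ha b hb
  have ha' : a ∈ (N : Set H) * (Subgroup.center H : Set H) := by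
    rw [← Subgroup.mul_normal]; exact ha
  have hb' : b ∈ (N : Set H) * (Subgroup.center H : Set H) := by
    rw [← Subgroup.mul_normal]; exact hb
  obtain ⟨n, hn, z, hz, rfl⟩ := Set.mem_mul.1 ha'
  obtain ⟨n', hn', z', hz', rfl⟩ := Set.mem_mul.1 hb'
  rw [comm_mul_central n n' z z' hz hz']
  exact Subgroup.commutator_mem_commutator hn hn'

/-- Characterisation of quasisimple groups without quotient groups. -/
theorem qs_iff (H : Type*) [Group H] :
    Cfsg.IsQuasisimple H ↔ commutator H = ⊤ ∧ Nontrivial H ∧
      ∀ N : Subgroup H, N.Normal → N = ⊤ ∨ N ≤ Subgroup.center H := by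
  constructor
  · rintro ⟨hperf, hsimp⟩
    refine ⟨hperf.commutator_eq_top, ?_, ?_⟩
    · have : Nontrivial (H ⧸ Subgroup.center H) := hsimp.toNontrivial
      exact (QuotientGroup.mk'_surjective (Subgroup.center H)).nontrivial
    · intro N hN
      have hNn : (N.map (QuotientGroup.mk' (Subgroup.center H))).Normal :=
        hN.map _ (QuotientGroup.mk'_surjective _)
      rcases hNn.eq_bot_or_eq_top with h | h
      · right
        rw [Subgroup.map_eq_bot_iff, QuotientGroup.ker_mk'] at h
        exact h
      · left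
        have h2 : N ⊔ Subgroup.center H = ⊤ := by
          have := Subgroup.comap_map_eq (QuotientGroup.mk' (Subgroup.center H)) N
          rw [h, Subgroup.comap_top, QuotientGroup.ker_mk'] at this
          exact this.symm
        rw [eq_top_iff, ← hperf.commutator_eq_top, commutator_def, Subgroup.commutator_le]
        intro a _ b _
        have ha : a ∈ (N : Set H) * (Subgroup.center H : Set H) := by
          rw [← Subgroup.mul_normal, h2]; trivial
        have hb : b ∈ (N : Set H) * (Subgroup.center H : Set H) := by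
          rw [← Subgroup.mul_normal, h2]; trivial
        obtain ⟨n, hn, z, hz, rfl⟩ := Set.mem_mul.1 ha
        obtain ⟨n', hn', z', hz', rfl⟩ := Set.mem_mul.1 hb
        have e : ⁅n * z, n' * z'⁆ = ⁅n, n'⁆ := comm_mul_central n n' z z' hz hz'
        rw [e]
        exact Subgroup.commutator_mem_commutator hn hn' |> fun h => by
          have hle : ⁅N, N⁆ ≤ N := Subgroup.commutator_le_left N N
          exact hle h
  · rintro ⟨hperf, hnt, hN⟩
    refine ⟨⟨hperf⟩, ?_⟩
    have hZ : Subgroup.center H ≠ ⊤ := by
      intro hZ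
      -- H commutative and perfect, so trivial
      have hc : ∀ a b : H, a * b = b * a := by
        intro a b
        have : a ∈ Subgroup.center H := by rw [hZ]; trivial
        exact ((Subgroup.mem_center_iff.1 this) b).symm
      have : commutator H = ⊥ := by
        rw [commutator_def, Subgroup.commutator_eq_bot_iff_le_centralizer]
        intro a _
        rw [Subgroup.mem_centralizer_iff]
        intro b _
        exact hc b a
      rw [this] at hperf
      obtain ⟨x, y, hxy⟩ := hnt
      have hx : x ∈ (⊥ : Subgroup H) := by rw [hperf]; trivial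
      have hy : y ∈ (⊥ : Subgroup H) := by rw [hperf]; trivial
      rw [Subgroup.mem_bot] at hx hy
      exact hxy (hx.trans hy.symm)
    have : Nontrivial (H ⧸ Subgroup.center H) := by
      rw [QuotientGroup.nontrivial_iff]; exact hZ
    refine ⟨?_⟩
    intro M hM
    have hMn : (M.comap (QuotientGroup.mk' (Subgroup.center H))).Normal := hM.comap _
    rcases hN _ hMn with h | h
    · right
      rw [← Subgroup.map_comap_eq_self_of_surjective (QuotientGroup.mk'_surjective _) M, h,
        Subgroup.map_top_of_surjective _ (QuotientGroup.mk'_surjective _)]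
    · left
      rw [← Subgroup.map_comap_eq_self_of_surjective (QuotientGroup.mk'_surjective _) M]
      rw [Subgroup.map_eq_bot_iff, QuotientGroup.ker_mk']
      exact h

/-- Quasisimplicity is invariant under isomorphism. -/
theorem qs_of_equiv {H H' : Type*} [Group H] [Group H'] (e : H ≃* H')
    (h : Cfsg.IsQuasisimple H) : Cfsg.IsQuasisimple H' := by
  rw [qs_iff] at h ⊢
  obtain ⟨hperf, hnt, hN⟩ := h
  refine ⟨?_, e.symm.toEquiv.nontrivial, ?_⟩
  · have := Subgroup.map_commutator (⊤ : Subgroup H) ⊤ e.toMonoidHom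
    rw [commutator_def] at hperf ⊢
    have htop : Subgroup.map e.toMonoidHom ⊤ = ⊤ :=
      Subgroup.map_top_of_surjective _ e.surjective
    rw [hperf, htop] at this
    exact this.symm
  · intro N' hN'
    have hn : (N'.comap e.toMonoidHom).Normal := hN'.comap _
    rcases hN _ hn with h | h
    · left
      rw [← Subgroup.map_comap_eq_self_of_surjective (f := e.toMonoidHom) e.surjective N', h]
      exact Subgroup.map_top_of_surjective _ e.surjective
    · right
      intro x' hx'
      rw [Subgroup.mem_center_iff]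
      intro g'
      have hx : e.symm x' ∈ N'.comap e.toMonoidHom := by
        rw [Subgroup.mem_comap]; simpa using hx'
      have := (Subgroup.mem_center_iff.1 (h hx)) (e.symm g')
      have := congrArg e this
      simpa using this

/-- Internal characterisation of quasisimplicity of a subgroup. -/
theorem qs_sub_iff {G : Type*} [Group G] (K : Subgroup G) :
    Cfsg.IsQuasisimple ↥K ↔ ⁅K, K⁆ = K ∧ K ≠ ⊥ ∧
      ∀ N : Subgroup G, N ≤ K → K ≤ Subgroup.normalizer (N : Set G) →
        N = K ∨ N ≤ Subgroup.centralizer (K : Set G) := by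
  rw [qs_iff]
  constructor
  · rintro ⟨hperf, hnt, hN⟩
    refine ⟨?_, (Subgroup.nontrivial_iff_ne_bot K).1 hnt, ?_⟩
    · exact Subgroup.isPerfect_iff.1 ⟨hperf⟩
    · intro N hNK hnorm
      have hn : (N.subgroupOf K).Normal := (Subgroup.normal_subgroupOf_iff_le_normalizer hNK).2 hnorm
      rcases hN _ hn with h | h
      · left
        rw [Subgroup.subgroupOf_eq_top] at h
        exact le_antisymm hNK h
      · right
        intro x hx
        rw [Subgroup.mem_centralizer_iff]
        intro k hk
        have hx' : (⟨x, hNK hx⟩ : K) ∈ N.subgroupOf K := by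
          rw [Subgroup.mem_subgroupOf]; exact hx
        have := (Subgroup.mem_center_iff.1 (h hx')) ⟨k, hk⟩
        exact congrArg Subtype.val this
  · rintro ⟨hperf, hne, hN⟩
    refine ⟨?_, (Subgroup.nontrivial_iff_ne_bot K).2 hne, ?_⟩
    · exact (Subgroup.isPerfect_iff.2 hperf).commutator_eq_top
    · intro N' hN'
      have hle : N'.map K.subtype ≤ K := Subgroup.map_subtype_le N'
      have hnorm : K ≤ Subgroup.normalizer ((N'.map K.subtype : Subgroup G) : Set G) := by
        rw [Subgroup.le_normalizer_iff]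
        rintro k hk _ ⟨n, hn, rfl⟩
        refine ⟨⟨k, hk⟩ * n * ⟨k, hk⟩⁻¹, hN'.conj_mem n hn ⟨k, hk⟩, ?_⟩
        simp
      rcases hN _ hle hnorm with h | h
      · left
        rw [eq_top_iff]
        intro x _
        have : (x : G) ∈ N'.map K.subtype := by rw [h]; exact x.2
        obtain ⟨y, hy, hyx⟩ := this
        have : y = x := Subtype.ext hyx
        rw [← this]; exact hy
      · right
        intro x hx
        rw [Subgroup.mem_center_iff]
        intro g
        have hx' : (x : G) ∈ N'.map K.subtype := ⟨x, hx, rfl⟩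
        have := (Subgroup.mem_centralizer_iff.1 (h hx')) g g.2
        exact Subtype.ext this

end Cfsg.Agent.helper7
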