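import Mathlib
import Cfsg.Agent.Lib_helper7_QS

set_option autoImplicit false
open Cfsg
open scoped commutatorElement Pointwise

namespace Cfsg.Agent.helper7

variable {G : Type*} [Group G]

/-- Conjugate of a subgroup, in the form used by the statements. -/
abbrev cj (g : G) (H : Subgroup G) : Subgroup G := H.map (MulAut.conj g).toMonoidHom

theorem mem_cj {g x : G} {H : Subgroup G} : x ∈ cj g H ↔ g⁻¹ * x * g ∈ H := by
  constructor
  · rintro ⟨y, hy, rfl⟩
    simp only [MulEquiv.coe_toMonoidHom, MulAut.conj_apply]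
    have : g⁻¹ * (g * y * g⁻¹) * g = y := by group
    rw [this]; exact hy
  · intro h
    refine ⟨g⁻¹ * x * g, h, ?_⟩
    simp only [MulEquiv.coe_toMonoidHom, MulAut.conj_apply]
    group

theorem cj_mem_cj {g x : G} {H : Subgroup G} (hx : x ∈ H) : g * x * g⁻¹ ∈ cj g H :=
  ⟨x, hx, by simp [MulAut.conj_apply]⟩

theorem cj_one (H : Subgroup G) : cj 1 H = H := by
  ext x; rw [mem_cj]; simp

theorem cj_cj (g h : G) (H : Subgroup G) : cj g (cj h H) = cj (g * h) H := by
  ext x
  rw [mem_cj, mem_cj, mem_cj]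
  have : h⁻¹ * (g⁻¹ * x * g) * h = (g * h)⁻¹ * x * (g * h) := by group
  rw [this]

theorem cj_inv_cj (g : G) (H : Subgroup G) : cj g⁻¹ (cj g H) = H := by
  rw [cj_cj]; simp [cj_one]

theorem cj_cj_inv (g : G) (H : Subgroup G) : cj g (cj g⁻¹ H) = H := by
  rw [cj_cj]; simp [cj_one]

theorem cj_mono {g : G} {H K : Subgroup G} (h : H ≤ K) : cj g H ≤ cj g K := Subgroup.map_mono h

theorem cj_le_iff {g : G} {H K : Subgroup G} : cj g H ≤ K ↔ H ≤ cj g⁻¹ K := by
  constructor
  · intro h
    have := cj_mono (g := g⁻¹) h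
    rwa [cj_inv_cj] at this
  · intro h
    have := cj_mono (g := g) h
    rwa [cj_cj_inv] at this

theorem cj_eq_of_mem_normalizer {g : G} {H : Subgroup G}
    (hg : g ∈ Subgroup.normalizer (H : Set G)) : cj g H = H := by
  ext x
  rw [mem_cj]
  have hg' : g⁻¹ ∈ Subgroup.normalizer (H : Set G) := Subgroup.inv_mem _ hg
  rw [Subgroup.mem_normalizer_iff] at hg'
  have := hg' x
  rw [inv_inv] at this
  exact this.symm

theorem mem_normalizer_of_cj_eq {g : G} {H : Subgroup G} (h : cj g H = H) :
    g ∈ Subgroup.normalizer (H : Set G) := by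
  rw [Subgroup.mem_normalizer_iff]
  intro x
  constructor
  · intro hx
    rw [← h]; exact cj_mem_cj hx
  · intro hx
    rw [← h, mem_cj] at hx
    have : g⁻¹ * (g * x * g⁻¹) * g = x := by group
    rwa [this] at hx

theorem cj_inf (g : G) (H K : Subgroup G) : cj g (H ⊓ K) = cj g H ⊓ cj g K := by
  ext x
  simp only [Subgroup.mem_inf, mem_cj]

theorem cj_normalizer (g : G) (H : Subgroup G) :
    cj g (Subgroup.normalizer (H : Set G)) = Subgroup.normalizer ((cj g H : Subgroup G) : Set G) := by
  ext x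
  rw [mem_cj, Subgroup.mem_normalizer_iff, Subgroup.mem_normalizer_iff]
  constructor
  · intro h y
    rw [mem_cj, mem_cj]
    have := h (g⁻¹ * y * g)
    rw [this]
    have e : g⁻¹ * x * g * (g⁻¹ * y * g) * (g⁻¹ * x * g)⁻¹ = g⁻¹ * (x * y * x⁻¹) * g := by group
    rw [e]
  · intro h y
    have := h (g * y * g⁻¹)
    rw [mem_cj, mem_cj] at this
    have e1 : g⁻¹ * (g * y * g⁻¹) * g = y := by group
    have e2 : g⁻¹ * (x * (g * y * g⁻¹) * x⁻¹) * g = g⁻¹ * x * g * y * (g⁻¹ * x * g)⁻¹ := by group
    rw [e1, e2] at this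
    exact this

theorem cj_centralizer (g : G) (H : Subgroup G) :
    cj g (Subgroup.centralizer (H : Set G)) = Subgroup.centralizer ((cj g H : Subgroup G) : Set G) := by
  ext x
  rw [mem_cj, Subgroup.mem_centralizer_iff, Subgroup.mem_centralizer_iff]
  constructor
  · intro h y hy
    have hy' : g⁻¹ * y * g ∈ H := mem_cj.1 hy
    have := h _ hy'
    calc y * x = g * ((g⁻¹ * y * g) * (g⁻¹ * x * g)) * g⁻¹ := by group
      _ = g * ((g⁻¹ * x * g) * (g⁻¹ * y * g)) * g⁻¹ := by rw [this]
      _ = x * y := by group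
  · intro h y hy
    have := h _ (cj_mem_cj (g := g) hy)
    calc y * (g⁻¹ * x * g) = g⁻¹ * ((g * y * g⁻¹) * x) * g := by group
      _ = g⁻¹ * (x * (g * y * g⁻¹)) * g := by rw [this]
      _ = g⁻¹ * x * g * y := by group

theorem cj_commutator (g : G) (H K : Subgroup G) : cj g ⁅H, K⁆ = ⁅cj g H, cj g K⁆ :=
  Subgroup.map_commutator H K _

theorem card_cj (g : G) (H : Subgroup G) : Nat.card (cj g H) = Nat.card H := by
  have e : ↥H ≃ ↥(cj g H) :=
    (H.equivMapOfInjective (MulAut.conj g).toMonoidHom (MulAut.conj g).injective).toEquiv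
  exact (Nat.card_congr e).symm

theorem cj_bot (g : G) : cj g (⊥ : Subgroup G) = ⊥ := Subgroup.map_bot _

theorem cj_eq_bot_iff {g : G} {H : Subgroup G} : cj g H = ⊥ ↔ H = ⊥ := by
  constructor
  · intro h
    have := congrArg (cj g⁻¹) h
    rwa [cj_inv_cj, cj_bot] at this
  · rintro rfl; exact cj_bot g

/-- `SN H K`: the subgroup `H` is subnormal in the subgroup `K`. -/
inductive SN : Subgroup G → Subgroup G → Prop
  | refl (K : Subgroup G) : SN K K
  | step (H K M : Subgroup G) : H ≤ K → K ≤ Subgroup.normalizer (H : Set G) → SN K M → SN H M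

theorem SN.le {H K : Subgroup G} (h : SN H K) : H ≤ K := by
  induction h with
  | refl K => exact le_rfl
  | step H K M hHK _ _ ih => exact hHK.trans ih

theorem SN.of_normal {H K : Subgroup G} (hHK : H ≤ K) (hn : K ≤ Subgroup.normalizer (H : Set G)) :
    SN H K := SN.step H K K hHK hn (SN.refl K)

theorem SN.trans {H K M : Subgroup G} (h1 : SN H K) (h2 : SN K M) : SN H M := by
  induction h1 with
  | refl K => exact h2
  | step H K' M' hHK hn _ ih => exact SN.step H K' M hHK hn (ih h2)

theorem SN.inf_right {H K : Subgroup G} (h : SN H K) (X : Subgroup G) : SN (H ⊓ X) (K ⊓ X) := by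
  induction h with
  | refl K => exact SN.refl _
  | step H K' M hHK hn _ ih =>
    refine SN.step (H ⊓ X) (K' ⊓ X) (M ⊓ X) (inf_le_inf_right X hHK) ?_ ih
    rw [Subgroup.le_normalizer_iff]
    intro k hk y hy
    rw [Subgroup.le_normalizer_iff] at hn
    exact ⟨hn k hk.1 y hy.1, Subgroup.mul_mem _ (Subgroup.mul_mem _ hk.2 hy.2) (Subgroup.inv_mem _ hk.2)⟩

theorem SN.of_le {H K X : Subgroup G} (h : SN H K) (hHX : H ≤ X) (hXK : X ≤ K) : SN H X := by
  have := h.inf_right X
  rwa [inf_eq_left.2 hHX, inf_eq_right.2 hXK] at this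

theorem SN.inf {H H' K : Subgroup G} (h : SN H K) (h' : SN H' K) : SN (H ⊓ H') K := by
  have h1 : SN (H ⊓ H') (K ⊓ H') := h.inf_right H'
  rw [inf_eq_right.2 h'.le] at h1
  exact h1.trans h'

theorem SN.conj {H K : Subgroup G} (h : SN H K) (g : G) : SN (cj g H) (cj g K) := by
  induction h with
  | refl K => exact SN.refl _
  | step H K' M hHK hn _ ih =>
    refine SN.step _ (cj g K') _ (cj_mono hHK) ?_ ih
    rw [← cj_normalizer]
    exact cj_mono hn

/-- A proper subnormal subgroup lies in a proper normal subgroup. -/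
theorem SN.exists_normal {H K : Subgroup G} (h : SN H K) (hne : H ≠ K) :
    ∃ N : Subgroup G, H ≤ N ∧ N ≤ K ∧ K ≤ Subgroup.normalizer (N : Set G) ∧ N ≠ K := by
  induction h with
  | refl K => exact absurd rfl hne
  | step H K' M hHK hn hK'M ih =>
    by_cases hK' : K' = M
    · subst hK'
      exact ⟨H, le_rfl, hHK, hn, hne⟩
    · obtain ⟨N, h1, h2, h3, h4⟩ := ih hK'
      exact ⟨N, hHK.trans h1, h2, h3, h4⟩

/-- Bridge to Mathlib's `IsSubnormal` for subgroups of the whole group. -/
theorem sn_top_iff {H : Subgroup G} : SN H ⊤ ↔ H.IsSubnormal := by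
  constructor
  · intro h
    generalize hK : (⊤ : Subgroup G) = K at h
    induction h with
    | refl K => rw [← hK]; exact Subgroup.IsSubnormal.top
    | step H K' M hHK hn _ ih =>
      exact Subgroup.IsSubnormal.step H K' hHK (ih hK)
        ((Subgroup.normal_subgroupOf_iff_le_normalizer hHK).2 hn)
  · intro h
    induction h with
    | top => exact SN.refl _
    | step H K hHK _ hN ih =>
      exact SN.step H K ⊤ hHK ((Subgroup.normal_subgroupOf_iff_le_normalizer hHK).1 hN) ih

/-- Subnormality in a subgroup `K`, for subgroups of the type `↥K`. -/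
theorem sn_map_subtype {K : Subgroup G} {H' : Subgroup ↥K} (h : H'.IsSubnormal) :
    SN (H'.map K.subtype) K := by
  induction h with
  | top =>
    have : (⊤ : Subgroup ↥K).map K.subtype = K := by
      rw [← MonoidHom.range_eq_map, Subgroup.range_subtype]
    rw [this]; exact SN.refl K
  | step H' K' hle _ hN ih =>
    refine SN.step _ (K'.map K.subtype) K (Subgroup.map_mono hle) ?_ ih
    rw [Subgroup.normal_subgroupOf_iff_le_normalizer hle] at hN
    exact (Subgroup.map_mono hN).trans (Subgroup.le_normalizer_map _)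

theorem sn_comap_subtype {H K : Subgroup G} (h : SN H K) : (H.subgroupOf K).IsSubnormal := by
  induction h with
  | refl K => rw [Subgroup.subgroupOf_self]; exact Subgroup.IsSubnormal.top
  | step H K' M hHK hn hK'M ih =>
    refine Subgroup.IsSubnormal.step (H.subgroupOf M) (K'.subgroupOf M) ?_ ih ?_
    · intro x hx
      rw [Subgroup.mem_subgroupOf] at hx ⊢
      exact hHK hx
    · have hle : H.subgroupOf M ≤ K'.subgroupOf M := by
        intro x hx
        rw [Subgroup.mem_subgroupOf] at hx ⊢
        exact hHK hx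
      rw [Subgroup.normal_subgroupOf_iff_le_normalizer hle, Subgroup.le_normalizer_iff]
      intro k hk y hy
      rw [Subgroup.mem_subgroupOf] at hk hy ⊢
      rw [Subgroup.le_normalizer_iff] at hn
      exact hn _ hk _ hy

theorem sn_iff {H K : Subgroup G} : SN H K ↔ H ≤ K ∧ (H.subgroupOf K).IsSubnormal := by
  constructor
  · intro h; exact ⟨h.le, sn_comap_subtype h⟩
  · rintro ⟨hle, h⟩
    have := sn_map_subtype h
    rwa [Subgroup.map_subgroupOf_eq_of_le hle] at this

theorem sn_iff' {K : Subgroup G} {H' : Subgroup ↥K} : H'.IsSubnormal ↔ SN (H'.map K.subtype) K := by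
  constructor
  · exact sn_map_subtype
  · intro h
    have := sn_comap_subtype h
    have e : (H'.map K.subtype).subgroupOf K = H' := by
      ext x
      rw [Subgroup.mem_subgroupOf]
      constructor
      · rintro ⟨y, hy, hyx⟩
        have : y = x := Subtype.ext hyx
        rw [← this]; exact hy
      · intro hx; exact ⟨x, hx, rfl⟩
    rwa [e] at this

end Cfsg.Agent.helper7
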