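import Mathlib
import Cfsg.Agent.Lib_helper7_SN

set_option autoImplicit false
open Cfsg
open scoped commutatorElement Pointwise

namespace Cfsg.Agent.helper7

variable {G : Type*} [Group G]

/-- Internal form of quasisimplicity of a subgroup. -/
def QS (L : Subgroup G) : Prop :=
  ⁅L, L⁆ = L ∧ L ≠ ⊥ ∧ ∀ N : Subgroup G, N ≤ L → L ≤ Subgroup.normalizer (N : Set G) →
    N = L ∨ N ≤ Subgroup.centralizer (L : Set G)

theorem qs_iff_QS (L : Subgroup G) : Cfsg.IsQuasisimple ↥L ↔ QS L := qs_sub_iff L

theorem comm_eq_bot_of_le_centralizer {H K : Subgroup G}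
    (h : H ≤ Subgroup.centralizer (K : Set G)) : ⁅K, H⁆ = ⊥ := by
  rw [Subgroup.commutator_comm]
  exact Subgroup.commutator_eq_bot_iff_le_centralizer.2 h

theorem le_centralizer_of_comm_eq_bot {H K : Subgroup G} (h : ⁅K, H⁆ = ⊥) :
    H ≤ Subgroup.centralizer (K : Set G) := by
  rw [Subgroup.commutator_comm] at h
  exact Subgroup.commutator_eq_bot_iff_le_centralizer.1 h

theorem QS.sn_cases {L H : Subgroup G} (hqs : QS L) (h : SN H L) :
    H = L ∨ H ≤ Subgroup.centralizer (L : Set G) := by
  induction h with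
  | refl K => left; rfl
  | step H K' M hHK hn _ ih =>
    rcases ih hqs with rfl | h
    · exact hqs.2.2 H hHK hn
    · right; exact hHK.trans h

theorem QS.not_abelian {L : Subgroup G} (hqs : QS L) : ¬ L ≤ Subgroup.centralizer (L : Set G) := by
  intro h
  have := comm_eq_bot_of_le_centralizer h
  rw [hqs.1] at this
  exact hqs.2.1 this

theorem QS.conj {L : Subgroup G} (hqs : QS L) (g : G) : QS (cj g L) := by
  obtain ⟨h1, h2, h3⟩ := hqs
  refine ⟨?_, ?_, ?_⟩
  · rw [← cj_commutator, h1]
  · intro h; exact h2 (cj_eq_bot_iff.1 h)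
  · intro N hN hn
    have hN' : cj g⁻¹ N ≤ L := by
      have := cj_mono (g := g⁻¹) hN
      rwa [cj_inv_cj] at this
    have hn' : L ≤ Subgroup.normalizer ((cj g⁻¹ N : Subgroup G) : Set G) := by
      rw [← cj_normalizer]
      have := cj_mono (g := g⁻¹) hn
      rwa [cj_inv_cj] at this
    rcases h3 _ hN' hn' with h | h
    · left
      have := congrArg (cj g) h
      rwa [cj_cj_inv] at this
    · right
      have := cj_mono (g := g) h
      rwa [cj_cj_inv, cj_centralizer] at this

/-- A perfect nontrivial subgroup is not contained in a solvable one. -/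
theorem QS.not_le_solvable {L H : Subgroup G} (hqs : QS L) (hs : Group.IsSolvable ↥H) :
    ¬ L ≤ H := by
  intro hle
  have hLs : Group.IsSolvable ↥L := by
    have : Group.IsSolvable ↥(L.subgroupOf H) := inferInstance
    exact solvable_of_solvable_injective (f := Subgroup.inclusion hle)
      (Subgroup.inclusion_injective hle)
  have hp : Group.IsPerfect ↥L := Subgroup.isPerfect_iff.2 hqs.1
  have hnt : Nontrivial ↥L := (Subgroup.nontrivial_iff_ne_bot L).2 hqs.2.1
  exact Group.IsPerfect.not_isSolvable ↥L hLs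

theorem card_lt_of_lt [Finite G] {X K : Subgroup G} (hle : X ≤ K) (hne : X ≠ K) :
    Nat.card X < Nat.card K := by
  rcases lt_or_ge (Nat.card X) (Nat.card K) with h | h
  · exact h
  · exact absurd (Subgroup.eq_of_le_of_card_ge hle h) hne

theorem comm_le_of_normal {L H X : Subgroup G} (hL : L ≤ X)
    (hn : H ≤ Subgroup.normalizer (X : Set G)) : ⁅L, H⁆ ≤ X := by
  rw [Subgroup.commutator_le]
  intro l hl h hh
  rw [commutatorElement_def]
  have h1 : h * l⁻¹ * h⁻¹ ∈ X := by
    rw [Subgroup.le_normalizer_iff] at hn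
    exact hn h hh _ (X.inv_mem (hL hl))
  have : l * h * l⁻¹ * h⁻¹ = l * (h * l⁻¹ * h⁻¹) := by group
  rw [this]
  exact X.mul_mem (hL hl) h1

/-- A component of `K` is contained in, or commutes with, each subnormal subgroup of `K`. -/
theorem comp_le_or_comm_aux [Finite G] : ∀ (n : ℕ) (K L H : Subgroup G), Nat.card K = n →
    SN L K → QS L → SN H K → L ≤ H ∨ ⁅L, H⁆ = ⊥ := by
  intro n
  induction n using Nat.strong_induction_on with
  | _ n ih =>
  intro K L H hn hL hqs hH
  by_cases hLK : L = K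
  · subst hLK
    rcases hqs.sn_cases hH with h | h
    · left; rw [h]
    · right; exact comm_eq_bot_of_le_centralizer h
  by_cases hHK : H = K
  · left; rw [hHK]; exact hL.le
  obtain ⟨X, hLX, hXK, hXn, hXne⟩ := hL.exists_normal hLK
  obtain ⟨Y, hHY, hYK, hYn, hYne⟩ := hH.exists_normal hHK
  have hXcard : Nat.card X < n := hn ▸ card_lt_of_lt hXK hXne
  have hYcard : Nat.card Y < n := hn ▸ card_lt_of_lt hYK hYne
  by_cases hLY : L ≤ Y
  · exact ih (Nat.card Y) hYcard Y L H rfl (hL.of_le hLY hYK) hqs (hH.of_le hHY hYK)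
  · have hXY : SN (X ⊓ Y) X := by
      refine SN.of_normal inf_le_left ?_
      intro x hx
      have h1 := hXn (hXK hx)
      have h2 := hYn (hXK hx)
      exact Subgroup.inf_normalizer_le_normalizer_inf ⟨h1, h2⟩
    have h1 := ih (Nat.card X) hXcard X L (X ⊓ Y) rfl (hL.of_le hLX hXK) hqs hXY
    rcases h1 with h1 | h1
    · exact absurd (h1.trans inf_le_right) hLY
    · right
      have h2 : ⁅L, H⁆ ≤ X ⊓ Y := by
        apply le_inf
        · exact comm_le_of_normal hLX ((hHY.trans hYK).trans hXn)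
        · rw [Subgroup.commutator_comm]
          exact comm_le_of_normal hHY ((hLX.trans hXK).trans hYn)
      have h3 : ⁅⁅L, H⁆, L⁆ = ⊥ := by
        rw [eq_bot_iff]
        calc ⁅⁅L, H⁆, L⁆ ≤ ⁅X ⊓ Y, L⁆ := Subgroup.commutator_mono h2 le_rfl
          _ = ⁅L, X ⊓ Y⁆ := Subgroup.commutator_comm _ _
          _ = ⊥ := h1
      have h4 : ⁅⁅H, L⁆, L⁆ = ⊥ := by rw [Subgroup.commutator_comm H L]; exact h3
      have h5 : ⁅⁅L, L⁆, H⁆ = ⊥ := Subgroup.commutator_commutator_eq_bot_of_rotate h3 h4
      rw [hqs.1] at h5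
      exact h5

theorem comp_le_or_comm [Finite G] {K L H : Subgroup G} (hL : SN L K) (hqs : QS L) (hH : SN H K) :
    L ≤ H ∨ ⁅L, H⁆ = ⊥ :=
  comp_le_or_comm_aux (Nat.card K) K L H rfl hL hqs hH

/-- `Comp L K`: `L` is a component of `K`. -/
def Comp (L K : Subgroup G) : Prop := SN L K ∧ QS L

theorem Comp.conj {L K : Subgroup G} (h : Comp L K) (g : G) : Comp (cj g L) (cj g K) :=
  ⟨h.1.conj g, h.2.conj g⟩

/-- Distinct components commute. -/
theorem Comp.comm_of_ne [Finite G] {L L' K : Subgroup G} (h : Comp L K) (h' : Comp L' K)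
    (hne : L ≠ L') : ⁅L, L'⁆ = ⊥ := by
  rcases comp_le_or_comm h.1 h.2 h'.1 with h1 | h1
  · rcases h'.2.sn_cases (h.1.of_le h1 h'.1.le) with h2 | h2
    · exact absurd h2 hne
    · exfalso
      apply h.2.not_abelian
      intro x hx
      have := h2 hx
      rw [Subgroup.mem_centralizer_iff] at this ⊢
      intro y hy
      exact this y (h1 hy)
  · exact h1

/-- A component commutes with every solvable subnormal subgroup. -/
theorem Comp.comm_solvable [Finite G] {L K N : Subgroup G} (h : Comp L K) (hN : SN N K)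
    (hs : Group.IsSolvable ↥N) : ⁅L, N⁆ = ⊥ := by
  rcases comp_le_or_comm h.1 h.2 hN with h1 | h1
  · exact absurd h1 (h.2.not_le_solvable hs)
  · exact h1

/-- The layer of a subgroup `K`, as a subgroup of `G`. -/
def layerOf (K : Subgroup G) : Subgroup G := sSup {L | Comp L K}

theorem comp_le_layerOf {L K : Subgroup G} (h : Comp L K) : L ≤ layerOf K := le_sSup h

theorem layerOf_le (K : Subgroup G) : layerOf K ≤ K := sSup_le fun _ h => h.1.le

theorem cj_sSup (g : G) (S : Set (Subgroup G)) : cj g (sSup S) = sSup ((cj g) '' S) := by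
  unfold cj
  rw [sSup_eq_iSup', Subgroup.map_iSup, sSup_image']

theorem cj_layerOf (g : G) (K : Subgroup G) : cj g (layerOf K) = layerOf (cj g K) := by
  unfold layerOf
  rw [cj_sSup]
  congr 1
  ext L
  constructor
  · rintro ⟨L₀, hL₀, rfl⟩
    exact hL₀.conj g
  · intro hL
    refine ⟨cj g⁻¹ L, ?_, cj_cj_inv g L⟩
    have := hL.conj g⁻¹
    rwa [cj_inv_cj] at this

theorem normalizer_le_normalizer_layerOf (K : Subgroup G) :
    Subgroup.normalizer (K : Set G) ≤ Subgroup.normalizer ((layerOf K : Subgroup G) : Set G) := by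
  intro g hg
  apply mem_normalizer_of_cj_eq
  rw [cj_layerOf, cj_eq_of_mem_normalizer hg]

theorem layerOf_normal (K : Subgroup G) :
    K ≤ Subgroup.normalizer ((layerOf K : Subgroup G) : Set G) :=
  Subgroup.le_normalizer.trans (normalizer_le_normalizer_layerOf K)

/-- Every component is normal in the layer. -/
theorem Comp.layerOf_le_normalizer [Finite G] {L K : Subgroup G} (h : Comp L K) :
    layerOf K ≤ Subgroup.normalizer (L : Set G) := by
  apply sSup_le
  intro L' hL'
  by_cases hne : L' = L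
  · rw [hne]; exact Subgroup.le_normalizer
  · have hc : ⁅L', L⁆ = ⊥ := hL'.comm_of_ne h hne
    have : L' ≤ Subgroup.centralizer (L : Set G) :=
      Subgroup.commutator_eq_bot_iff_le_centralizer.1 hc
    exact this.trans (Subgroup.centralizer_le_normalizer _)

theorem layerOf_sn (K : Subgroup G) : SN (layerOf K) K :=
  SN.of_normal (layerOf_le K) (layerOf_normal K)

theorem Comp.of_le {L K X : Subgroup G} (h : Comp L K) (hLX : L ≤ X) (hXK : X ≤ K) : Comp L X :=
  ⟨h.1.of_le hLX hXK, h.2⟩

theorem Comp.trans {L K M : Subgroup G} (h : Comp L K) (hK : SN K M) : Comp L M :=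
  ⟨h.1.trans hK, h.2⟩

/-! ### Bridges to the definitions of the statements -/

theorem isComponent_iff {L : Subgroup G} : Cfsg.IsComponent L ↔ Comp L ⊤ := by
  unfold Cfsg.IsComponent Comp
  rw [sn_top_iff, qs_iff_QS]

theorem isComponent_sub_iff {K : Subgroup G} {L' : Subgroup ↥K} :
    Cfsg.IsComponent L' ↔ Comp (L'.map K.subtype) K := by
  unfold Cfsg.IsComponent Comp
  rw [sn_iff', ← qs_iff_QS]
  have e : ↥L' ≃* ↥(L'.map K.subtype) := L'.equivMapOfInjective K.subtype K.subtype_injective
  constructor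
  · rintro ⟨h1, h2⟩; exact ⟨h1, qs_of_equiv e h2⟩
  · rintro ⟨h1, h2⟩; exact ⟨h1, qs_of_equiv e.symm h2⟩

theorem layer_eq_layerOf : Cfsg.layer G = layerOf (⊤ : Subgroup G) := by
  unfold Cfsg.layer layerOf
  congr 1
  ext L
  exact isComponent_iff

theorem map_layer_eq_layerOf (K : Subgroup G) :
    (Cfsg.layer ↥K).map K.subtype = layerOf K := by
  unfold Cfsg.layer layerOf
  rw [sSup_eq_iSup', Subgroup.map_iSup]
  apply le_antisymm
  · apply iSup_le
    rintro ⟨L', hL'⟩
    exact le_sSup (isComponent_sub_iff.1 hL')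
  · apply sSup_le
    intro L hL
    have hLK : L ≤ K := hL.1.le
    have e : (L.subgroupOf K).map K.subtype = L := Subgroup.map_subgroupOf_eq_of_le hLK
    have hc : Cfsg.IsComponent (L.subgroupOf K) := by
      rw [isComponent_sub_iff, e]; exact hL
    calc L = (L.subgroupOf K).map K.subtype := e.symm
      _ ≤ _ := le_iSup (fun L' : {L' : Subgroup ↥K // Cfsg.IsComponent L'} =>
          (L' : Subgroup ↥K).map K.subtype) ⟨L.subgroupOf K, hc⟩

end Cfsg.Agent.helper7
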