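import Mathlib
import Cfsg.Agent.Lib_helper7_Comp

set_option autoImplicit false
open Cfsg
open scoped commutatorElement Pointwise

namespace Cfsg.Agent.helper7

variable {G : Type*} [Group G]

/-! ### Products of a subgroup with a subgroup normalizing it -/

/-- The product set `N₁ N₂` as a subgroup, when `N₂` normalizes `N₁`. -/
def mulSub (N₁ N₂ : Subgroup G) (h : N₂ ≤ Subgroup.normalizer (N₁ : Set G)) : Subgroup G where
  carrier := {x | ∃ a ∈ N₁, ∃ b ∈ N₂, x = a * b}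
  one_mem' := ⟨1, N₁.one_mem, 1, N₂.one_mem, by simp⟩
  mul_mem' := by
    rintro _ _ ⟨a, ha, b, hb, rfl⟩ ⟨a', ha', b', hb', rfl⟩
    rw [Subgroup.le_normalizer_iff] at h
    refine ⟨a * (b * a' * b⁻¹), N₁.mul_mem ha (h b hb a' ha'), b * b', N₂.mul_mem hb hb', by group⟩
  inv_mem' := by
    rintro _ ⟨a, ha, b, hb, rfl⟩
    rw [Subgroup.le_normalizer_iff] at h
    refine ⟨b⁻¹ * a⁻¹ * b⁻¹⁻¹, h b⁻¹ (N₂.inv_mem hb) a⁻¹ (N₁.inv_mem ha), b⁻¹, N₂.inv_mem hb, by group⟩

theorem mem_sup_of_normalizer {N₁ N₂ : Subgroup G} (h : N₂ ≤ Subgroup.normalizer (N₁ : Set G))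
    {x : G} (hx : x ∈ N₁ ⊔ N₂) : ∃ a ∈ N₁, ∃ b ∈ N₂, x = a * b := by
  have hle : N₁ ⊔ N₂ ≤ mulSub N₁ N₂ h := by
    apply sup_le
    · intro a ha; exact ⟨a, ha, 1, N₂.one_mem, by simp⟩
    · intro b hb; exact ⟨1, N₁.one_mem, b, hb, by simp⟩
  exact hle hx

/-! ### `π`-subgroups -/

/-- `H` is a `π`-group: all prime divisors of orders of elements of `H` lie in `π`. -/
def PiGrp (π : Set ℕ) (H : Subgroup G) : Prop :=
  ∀ x ∈ H, ∀ q : ℕ, q.Prime → q ∣ orderOf x → q ∈ π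

theorem PiGrp.mono {π : Set ℕ} {H K : Subgroup G} (h : PiGrp π K) (hle : H ≤ K) : PiGrp π H :=
  fun x hx => h x (hle hx)

theorem PiGrp.bot (π : Set ℕ) : PiGrp π (⊥ : Subgroup G) := by
  intro x hx q hq hdvd
  rw [Subgroup.mem_bot] at hx
  subst hx
  rw [orderOf_one] at hdvd
  exact absurd (Nat.dvd_one.1 hdvd) hq.ne_one

theorem PiGrp.conj {π : Set ℕ} {H : Subgroup G} (h : PiGrp π H) (g : G) : PiGrp π (cj g H) := by
  rintro _ ⟨y, hy, rfl⟩ q hq hdvd
  apply h y hy q hq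
  have : orderOf ((MulAut.conj g).toMonoidHom y) = orderOf y :=
    orderOf_injective _ (MulAut.conj g).injective y
  rwa [this] at hdvd

theorem piGrp_iff_card [Finite G] {π : Set ℕ} {H : Subgroup G} :
    PiGrp π H ↔ ∀ q : ℕ, q.Prime → q ∣ Nat.card H → q ∈ π := by
  constructor
  · intro h q hq hdvd
    haveI : Fact q.Prime := ⟨hq⟩
    obtain ⟨x, hx⟩ := exists_prime_orderOf_dvd_card' (G := H) q hdvd
    have hx' : orderOf (x : G) = q := by rw [Subgroup.orderOf_coe]; exact hx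
    exact h x x.2 q hq (by rw [hx'])
  · intro h x hx q hq hdvd
    exact h q hq (hdvd.trans (H.orderOf_dvd_natCard hx))

theorem pow_mul_normalizer {N₁ N₂ : Subgroup G} (h : N₂ ≤ Subgroup.normalizer (N₁ : Set G))
    {a b : G} (ha : a ∈ N₁) (hb : b ∈ N₂) (n : ℕ) : ∃ c ∈ N₁, (a * b) ^ n = c * b ^ n := by
  induction n with
  | zero => exact ⟨1, N₁.one_mem, by simp⟩
  | succ n ih =>
    obtain ⟨c, hc, e⟩ := ih
    rw [Subgroup.le_normalizer_iff] at h
    refine ⟨c * (b ^ n * a * (b ^ n)⁻¹), N₁.mul_mem hc (h _ (N₂.pow_mem hb n) a ha), ?_⟩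
    rw [pow_succ, e, pow_succ]
    group

theorem PiGrp.sup {π : Set ℕ} {N₁ N₂ : Subgroup G} (h₁ : PiGrp π N₁) (h₂ : PiGrp π N₂)
    (h : N₂ ≤ Subgroup.normalizer (N₁ : Set G)) : PiGrp π (N₁ ⊔ N₂) := by
  intro x hx q hq hdvd
  obtain ⟨a, ha, b, hb, rfl⟩ := mem_sup_of_normalizer h hx
  obtain ⟨c, hc, e⟩ := pow_mul_normalizer h ha hb (orderOf b)
  rw [pow_orderOf_eq_one, mul_one] at e
  have h3 : (a * b) ^ (orderOf b * orderOf c) = 1 := by
    rw [pow_mul, e, pow_orderOf_eq_one]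
  have h4 : orderOf (a * b) ∣ orderOf b * orderOf c := orderOf_dvd_of_pow_eq_one h3
  rcases (hq.dvd_mul).1 (hdvd.trans h4) with h5 | h5
  · exact h₂ b hb q hq h5
  · exact h₁ c hc q hq h5

/-! ### Radicals -/

/-- The `P`-radical of a subgroup `K`: the join of the normal subgroups of `K` satisfying `P`. -/
def radOf (P : Subgroup G → Prop) (K : Subgroup G) : Subgroup G :=
  sSup {N | N ≤ K ∧ K ≤ Subgroup.normalizer (N : Set G) ∧ P N}

theorem radOf_le (P : Subgroup G → Prop) (K : Subgroup G) : radOf P K ≤ K :=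
  sSup_le fun _ h => h.1

theorem le_radOf {P : Subgroup G → Prop} {N K : Subgroup G} (h1 : N ≤ K)
    (h2 : K ≤ Subgroup.normalizer (N : Set G)) (h3 : P N) : N ≤ radOf P K :=
  le_sSup ⟨h1, h2, h3⟩

theorem cj_radOf {P : Subgroup G → Prop} (hP : ∀ g N, P N → P (cj g N)) (g : G) (K : Subgroup G) :
    cj g (radOf P K) = radOf P (cj g K) := by
  unfold radOf
  rw [cj_sSup]
  congr 1
  ext N
  constructor
  · rintro ⟨N₀, ⟨h1, h2, h3⟩, rfl⟩
    refine ⟨cj_mono h1, ?_, hP g _ h3⟩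
    rw [← cj_normalizer]; exact cj_mono h2
  · rintro ⟨h1, h2, h3⟩
    refine ⟨cj g⁻¹ N, ⟨?_, ?_, hP _ _ h3⟩, cj_cj_inv g N⟩
    · have := cj_mono (g := g⁻¹) h1
      rwa [cj_inv_cj] at this
    · rw [← cj_normalizer]
      have := cj_mono (g := g⁻¹) h2
      rwa [cj_inv_cj] at this

theorem normalizer_le_normalizer_radOf {P : Subgroup G → Prop} (hP : ∀ g N, P N → P (cj g N))
    (K : Subgroup G) :
    Subgroup.normalizer (K : Set G) ≤ Subgroup.normalizer ((radOf P K : Subgroup G) : Set G) := by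
  intro g hg
  apply mem_normalizer_of_cj_eq
  rw [cj_radOf hP, cj_eq_of_mem_normalizer hg]

theorem radOf_normal {P : Subgroup G → Prop} (hP : ∀ g N, P N → P (cj g N)) (K : Subgroup G) :
    K ≤ Subgroup.normalizer ((radOf P K : Subgroup G) : Set G) :=
  Subgroup.le_normalizer.trans (normalizer_le_normalizer_radOf hP K)

/-- The radical itself has the property, for properties closed under normal products. -/
theorem radOf_prop [Finite G] {P : Subgroup G → Prop} (hbot : P ⊥)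
    (hsup : ∀ N₁ N₂ : Subgroup G, P N₁ → P N₂ → N₂ ≤ Subgroup.normalizer (N₁ : Set G) → P (N₁ ⊔ N₂))
    (K : Subgroup G) : P (radOf P K) := by
  have hfin : Set.Finite {N : Subgroup G | N ≤ K ∧ K ≤ Subgroup.normalizer (N : Set G) ∧ P N} :=
    Set.toFinite _
  have key : ∀ T : Set (Subgroup G), T.Finite →
      T ⊆ {N | N ≤ K ∧ K ≤ Subgroup.normalizer (N : Set G) ∧ P N} → P (sSup T) ∧ sSup T ≤ K := by
    intro T hT
    induction T, hT using Set.Finite.induction_on with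
    | empty => intro _; rw [sSup_empty]; exact ⟨hbot, bot_le⟩
    | insert _ _ ih =>
      rename_i a T' _ _
      intro hsub
      have ha := hsub (Set.mem_insert a T')
      obtain ⟨h1, h2⟩ := ih (fun x hx => hsub (Set.mem_insert_of_mem a hx))
      rw [sSup_insert]
      exact ⟨hsup a (sSup T') ha.2.2 h1 (h2.trans ha.2.1), sup_le ha.1 h2⟩
  exact (key _ hfin le_rfl).1

/-- Radicals of subnormal subgroups lie in the radical. -/
theorem radOf_le_of_sn [Finite G] {P : Subgroup G → Prop} (hP : ∀ g N, P N → P (cj g N))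
    (hbot : P ⊥)
    (hsup : ∀ N₁ N₂ : Subgroup G, P N₁ → P N₂ → N₂ ≤ Subgroup.normalizer (N₁ : Set G) → P (N₁ ⊔ N₂))
    {H K : Subgroup G} (h : SN H K) : radOf P H ≤ radOf P K := by
  induction h with
  | refl K => exact le_rfl
  | step H K' M hHK hn _ ih =>
    refine le_trans ?_ ih
    apply le_radOf ((radOf_le P H).trans hHK)
    · exact hn.trans (normalizer_le_normalizer_radOf hP H)
    · exact radOf_prop hbot hsup H

/-- A subnormal subgroup with the property lies in the radical. -/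
theorem le_radOf_of_sn [Finite G] {P : Subgroup G → Prop} (hP : ∀ g N, P N → P (cj g N))
    (hbot : P ⊥)
    (hsup : ∀ N₁ N₂ : Subgroup G, P N₁ → P N₂ → N₂ ≤ Subgroup.normalizer (N₁ : Set G) → P (N₁ ⊔ N₂))
    {H K : Subgroup G} (h : SN H K) (hH : P H) : H ≤ radOf P K :=
  (le_radOf le_rfl Subgroup.le_normalizer hH).trans (radOf_le_of_sn hP hbot hsup h)

theorem radOf_inf_le [Finite G] {P : Subgroup G → Prop}
    (hmono : ∀ N₁ N₂ : Subgroup G, N₁ ≤ N₂ → P N₂ → P N₁)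
    (hP : ∀ g N, P N → P (cj g N)) (hbot : P ⊥)
    (hsup : ∀ N₁ N₂ : Subgroup G, P N₁ → P N₂ → N₂ ≤ Subgroup.normalizer (N₁ : Set G) → P (N₁ ⊔ N₂))
    {H K : Subgroup G} (h : SN H K) : radOf P K ⊓ H ≤ radOf P H := by
  induction h with
  | refl K => exact inf_le_left
  | step H K' M hHK hn _ ih =>
    have h1 : radOf P M ⊓ H ≤ radOf P K' ⊓ H := by
      apply le_inf _ inf_le_right
      exact le_trans (le_inf inf_le_left (inf_le_right.trans hHK)) ih
    refine h1.trans ?_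
    apply le_radOf inf_le_right
    · intro x hx
      have hx1 : x ∈ Subgroup.normalizer ((radOf P K' : Subgroup G) : Set G) :=
        radOf_normal hP K' (hHK hx)
      have hx2 : x ∈ Subgroup.normalizer (H : Set G) := Subgroup.le_normalizer hx
      exact Subgroup.inf_normalizer_le_normalizer_inf ⟨hx1, hx2⟩
    · exact hmono _ _ inf_le_left (radOf_prop hbot hsup K')

/-! ### The `π`-core -/

/-- `O_π(K)` as a subgroup of `G`. -/
def piCoreIn (π : Set ℕ) (K : Subgroup G) : Subgroup G := radOf (PiGrp π) K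

theorem piCoreIn_piGrp [Finite G] (π : Set ℕ) (K : Subgroup G) : PiGrp π (piCoreIn π K) :=
  radOf_prop (PiGrp.bot π) (fun _ _ h1 h2 h => h1.sup h2 h) K

theorem le_piCoreIn_of_sn [Finite G] {π : Set ℕ} {H K : Subgroup G} (h : SN H K)
    (hH : PiGrp π H) : H ≤ piCoreIn π K :=
  le_radOf_of_sn (fun g _ h => h.conj g) (PiGrp.bot π) (fun _ _ h1 h2 h => h1.sup h2 h) h hH

theorem piCoreIn_le_of_sn [Finite G] {π : Set ℕ} {H K : Subgroup G} (h : SN H K) :
    piCoreIn π H ≤ piCoreIn π K :=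
  radOf_le_of_sn (fun g _ h => h.conj g) (PiGrp.bot π) (fun _ _ h1 h2 h => h1.sup h2 h) h

theorem piCoreIn_inf_le [Finite G] {π : Set ℕ} {H K : Subgroup G} (h : SN H K) :
    piCoreIn π K ⊓ H ≤ piCoreIn π H :=
  radOf_inf_le (fun _ _ hle h => h.mono hle) (fun g _ h => h.conj g) (PiGrp.bot π)
    (fun _ _ h1 h2 h => h1.sup h2 h) h

theorem piCoreIn_normal (π : Set ℕ) (K : Subgroup G) :
    K ≤ Subgroup.normalizer ((piCoreIn π K : Subgroup G) : Set G) :=
  radOf_normal (fun g _ h => h.conj g) K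

theorem piCoreIn_le (π : Set ℕ) (K : Subgroup G) : piCoreIn π K ≤ K := radOf_le _ K

end Cfsg.Agent.helper7
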