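import Mathlib
import Cfsg.Agent.Lib_helper7_Cores

set_option autoImplicit false
open Cfsg
open scoped commutatorElement Pointwise

namespace Cfsg.Agent.helper7

variable {G : Type*} [Group G]

/-! ### Bridging radicals of subgroup types -/

theorem map_sSup_normal_eq_radOf (K : Subgroup G) (Q : Subgroup ↥K → Prop) (P : Subgroup G → Prop)
    (hPQ : ∀ N' : Subgroup ↥K, Q N' ↔ P (N'.map K.subtype)) :
    (sSup {N' : Subgroup ↥K | N'.Normal ∧ Q N'}).map K.subtype = radOf P K := by
  unfold radOf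
  rw [sSup_eq_iSup', Subgroup.map_iSup]
  apply le_antisymm
  · apply iSup_le
    rintro ⟨N', hN', hQ⟩
    apply le_sSup
    refine ⟨Subgroup.map_subtype_le N', ?_, (hPQ N').1 hQ⟩
    rw [Subgroup.le_normalizer_iff]
    rintro k hk _ ⟨n, hn, rfl⟩
    exact ⟨⟨k, hk⟩ * n * ⟨k, hk⟩⁻¹, hN'.conj_mem n hn ⟨k, hk⟩, by simp⟩
  · apply sSup_le
    rintro N ⟨h1, h2, h3⟩
    have e : (N.subgroupOf K).map K.subtype = N := Subgroup.map_subgroupOf_eq_of_le h1
    have hn : (N.subgroupOf K).Normal := (Subgroup.normal_subgroupOf_iff_le_normalizer h1).2 h2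
    have hq : Q (N.subgroupOf K) := by rw [hPQ, e]; exact h3
    calc N = (N.subgroupOf K).map K.subtype := e.symm
      _ ≤ _ := le_iSup (fun N' : {N' : Subgroup ↥K // N'.Normal ∧ Q N'} =>
          (N' : Subgroup ↥K).map K.subtype) ⟨N.subgroupOf K, hn, hq⟩

theorem sSup_normal_eq_radOf (P : Subgroup G → Prop) :
    sSup {N : Subgroup G | N.Normal ∧ P N} = radOf P ⊤ := by
  unfold radOf
  congr 1
  ext N
  constructor
  · rintro ⟨h1, h2⟩
    refine ⟨le_top, ?_, h2⟩
    rw [Subgroup.normalizer_eq_top_iff.2 h1]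
  · rintro ⟨_, h2, h3⟩
    exact ⟨Subgroup.normalizer_eq_top_iff.1 (top_le_iff.1 h2), h3⟩

/-! ### `p`-groups and `p'`-groups as `π`-groups -/

theorem isPGroup_iff_piGrp [Finite G] {p : ℕ} (hp : p.Prime) {H : Subgroup G} :
    IsPGroup p ↥H ↔ PiGrp {p} H := by
  constructor
  · intro h x hx q hq hdvd
    obtain ⟨k, hk⟩ := h ⟨x, hx⟩
    have h1 : orderOf (⟨x, hx⟩ : H) ∣ p ^ k := orderOf_dvd_of_pow_eq_one hk
    rw [← Subgroup.orderOf_coe] at h1
    have h2 : q ∣ p ^ k := hdvd.trans h1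
    have h3 : q ∣ p := hq.dvd_of_dvd_pow h2
    exact (Nat.prime_dvd_prime_iff_eq hq hp).1 h3
  · intro h x
    have hpos : orderOf (x : G) ≠ 0 := (orderOf_pos (x : G)).ne'
    have := Nat.eq_prime_pow_of_unique_prime_dvd hpos (p := p)
      (fun {d} hd hdvd => h x x.2 d hd hdvd)
    refine ⟨(orderOf (x : G)).primeFactorsList.length, ?_⟩
    apply Subtype.ext
    rw [Subgroup.coe_pow, Subgroup.coe_one, ← this]
    exact pow_orderOf_eq_one _

theorem coprime_card_iff_piGrp [Finite G] {p : ℕ} (hp : p.Prime) {H : Subgroup G} :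
    (Nat.card H).Coprime p ↔ PiGrp {q | q ≠ p} H := by
  rw [piGrp_iff_card]
  constructor
  · intro h q hq hdvd hqp
    subst hqp
    have := Nat.Coprime.eq_one_of_dvd h.symm hdvd
    exact hq.ne_one this
  · intro h
    rw [Nat.coprime_comm, Nat.Prime.coprime_iff_not_dvd hp]
    intro hdvd
    exact h p hp hdvd rfl

theorem card_map_subtype {K : Subgroup G} (N' : Subgroup ↥K) :
    Nat.card ↥(N'.map K.subtype) = Nat.card ↥N' :=
  (Nat.card_congr (N'.equivMapOfInjective K.subtype K.subtype_injective).toEquiv).symm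

theorem isPGroup_map_subtype_iff {p : ℕ} {K : Subgroup G} (N' : Subgroup ↥K) :
    IsPGroup p ↥(N'.map K.subtype) ↔ IsPGroup p ↥N' := by
  have e := N'.equivMapOfInjective K.subtype K.subtype_injective
  exact ⟨fun h => h.of_equiv e.symm, fun h => h.of_equiv e⟩

theorem map_pCore_eq [Finite G] {p : ℕ} (hp : p.Prime) (K : Subgroup G) :
    (Cfsg.pCore p ↥K).map K.subtype = piCoreIn {p} K := by
  unfold Cfsg.pCore piCoreIn
  apply map_sSup_normal_eq_radOf
  intro N'
  rw [← isPGroup_iff_piGrp hp, isPGroup_map_subtype_iff]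

theorem pCore_eq [Finite G] {p : ℕ} (hp : p.Prime) : Cfsg.pCore p G = piCoreIn {p} ⊤ := by
  unfold Cfsg.pCore piCoreIn
  rw [← sSup_normal_eq_radOf]
  congr 1
  ext N
  rw [Set.mem_ofPred_eq, Set.mem_ofPred_eq, isPGroup_iff_piGrp hp]

theorem map_pPrimeCore_eq [Finite G] {p : ℕ} (hp : p.Prime) (K : Subgroup G) :
    (Cfsg.pPrimeCore p ↥K).map K.subtype = piCoreIn {q | q ≠ p} K := by
  unfold Cfsg.pPrimeCore piCoreIn
  apply map_sSup_normal_eq_radOf
  intro N'
  rw [← coprime_card_iff_piGrp hp, card_map_subtype]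

theorem pPrimeCore_eq [Finite G] {p : ℕ} (hp : p.Prime) :
    Cfsg.pPrimeCore p G = piCoreIn {q | q ≠ p} ⊤ := by
  unfold Cfsg.pPrimeCore piCoreIn
  rw [← sSup_normal_eq_radOf]
  congr 1
  ext N
  rw [Set.mem_ofPred_eq, Set.mem_ofPred_eq, coprime_card_iff_piGrp hp]

/-! ### Sylow subgroups generate a finite group -/

theorem iSup_sylow_eq_top (H : Type*) [Group H] [Finite H] :
    (⨆ p : {p : ℕ // p.Prime}, ⨆ P : Sylow p.1 H, (P : Subgroup H)) = ⊤ := by
  set M : Subgroup H := ⨆ p : {p : ℕ // p.Prime}, ⨆ P : Sylow p.1 H, (P : Subgroup H) with hM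
  apply Subgroup.eq_top_of_card_eq
  apply Nat.dvd_antisymm (Subgroup.card_subgroup_dvd_card M)
  rw [Nat.dvd_iff_prime_pow_dvd_dvd]
  intro p k hp hpk
  haveI : Fact p.Prime := ⟨hp⟩
  obtain ⟨P⟩ := (Sylow.nonempty : Nonempty (Sylow p H))
  have h1 : (P : Subgroup H) ≤ M := by
    rw [hM]
    exact le_trans (le_iSup (fun P : Sylow p H => (P : Subgroup H)) P)
      (le_iSup (fun p : {p : ℕ // p.Prime} => ⨆ P : Sylow p.1 H, (P : Subgroup H)) ⟨p, hp⟩)
  have h2 : Nat.card (P : Subgroup H) ∣ Nat.card M := Subgroup.card_dvd_of_le h1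
  have h3 : Nat.card (P : Subgroup H) = p ^ (Nat.card H).factorization p := P.card_eq_multiplicity
  have h4 : k ≤ (Nat.card H).factorization p :=
    (hp.pow_dvd_iff_le_factorization Nat.card_pos.ne').1 hpk
  exact (pow_dvd_pow p h4).trans (h3 ▸ h2)

/-! ### The Fitting subgroup -/

/-- `F(K)` as a subgroup of `G`. -/
def fitOf (K : Subgroup G) : Subgroup G := radOf (fun N => Group.IsNilpotent ↥N) K

theorem nilpotent_conj {N : Subgroup G} (h : Group.IsNilpotent ↥N) (g : G) :
    Group.IsNilpotent ↥(cj g N) := by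
  have e : ↥N ≃* ↥(cj g N) :=
    N.equivMapOfInjective (MulAut.conj g).toMonoidHom (MulAut.conj g).injective
  exact Group.nilpotent_of_mulEquiv e

theorem fitOf_le (K : Subgroup G) : fitOf K ≤ K := radOf_le _ K

theorem fitOf_normal (K : Subgroup G) :
    K ≤ Subgroup.normalizer ((fitOf K : Subgroup G) : Set G) :=
  radOf_normal (fun g _ h => nilpotent_conj h g) K

theorem normalizer_le_normalizer_fitOf (K : Subgroup G) :
    Subgroup.normalizer (K : Set G) ≤ Subgroup.normalizer ((fitOf K : Subgroup G) : Set G) :=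
  normalizer_le_normalizer_radOf (fun g _ h => nilpotent_conj h g) K

theorem piCoreIn_le_fitOf [Finite G] {p : ℕ} (hp : p.Prime) (K : Subgroup G) :
    piCoreIn {p} K ≤ fitOf K := by
  haveI : Fact p.Prime := ⟨hp⟩
  apply le_radOf (piCoreIn_le _ K) (piCoreIn_normal _ K)
  exact ((isPGroup_iff_piGrp hp).2 (piCoreIn_piGrp {p} K)).isNilpotent

/-- A nilpotent subnormal subgroup lies in the join of the `O_p`. -/
theorem nilpotent_sn_le_iSup [Finite G] {H K : Subgroup G} (h : SN H K)
    (hH : Group.IsNilpotent ↥H) : H ≤ ⨆ p : {p : ℕ // p.Prime}, piCoreIn {p.1} K := by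
  have h1 : H = (⊤ : Subgroup ↥H).map H.subtype := by
    rw [← MonoidHom.range_eq_map, Subgroup.range_subtype]
  rw [h1, ← iSup_sylow_eq_top ↥H, Subgroup.map_iSup]
  apply iSup_le
  rintro ⟨p, hp⟩
  haveI : Fact p.Prime := ⟨hp⟩
  rw [Subgroup.map_iSup]
  apply iSup_le
  intro P
  have hPn : (P : Subgroup ↥H).Normal := inferInstance
  have h2 : SN ((P : Subgroup ↥H).map H.subtype) H := by
    apply SN.of_normal (Subgroup.map_subtype_le _)
    rw [Subgroup.le_normalizer_iff]
    rintro k hk _ ⟨n, hn, rfl⟩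
    exact ⟨⟨k, hk⟩ * n * ⟨k, hk⟩⁻¹, hPn.conj_mem n hn ⟨k, hk⟩, by simp⟩
  have h3 : PiGrp {p} ((P : Subgroup ↥H).map H.subtype) := by
    rw [← isPGroup_iff_piGrp hp, isPGroup_map_subtype_iff]
    exact P.2
  exact le_trans (le_piCoreIn_of_sn (h2.trans h) h3)
    (le_iSup (fun p : {p : ℕ // p.Prime} => piCoreIn {p.1} K) ⟨p, hp⟩)

/-- (F1) A nilpotent subnormal subgroup lies in the Fitting subgroup. -/
theorem nilpotent_sn_le_fitOf [Finite G] {H K : Subgroup G} (h : SN H K)
    (hH : Group.IsNilpotent ↥H) : H ≤ fitOf K := by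
  refine (nilpotent_sn_le_iSup h hH).trans ?_
  apply iSup_le
  rintro ⟨p, hp⟩
  exact piCoreIn_le_fitOf hp K

theorem fitOf_eq_iSup [Finite G] (K : Subgroup G) :
    fitOf K = ⨆ p : {p : ℕ // p.Prime}, piCoreIn {p.1} K := by
  apply le_antisymm
  · apply sSup_le
    rintro N ⟨h1, h2, h3⟩
    exact nilpotent_sn_le_iSup (SN.of_normal h1 h2) h3
  · apply iSup_le
    rintro ⟨p, hp⟩
    exact piCoreIn_le_fitOf hp K

theorem piGrp_inf_eq_bot {π π' : Set ℕ} (hdisj : ∀ q, q ∈ π → q ∈ π' → False) {A B : Subgroup G}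
    [Finite G] (hA : PiGrp π A) (hB : PiGrp π' B) : A ⊓ B = ⊥ := by
  rw [eq_bot_iff]
  intro x hx
  rw [Subgroup.mem_bot]
  by_contra hne
  have h1 : orderOf x ≠ 1 := fun h => hne (orderOf_eq_one_iff.1 h)
  obtain ⟨q, hq, hdvd⟩ := Nat.exists_prime_and_dvd h1
  exact hdisj q (hA x hx.1 q hq hdvd) (hB x hx.2 q hq hdvd)

/-- (F2) The Fitting subgroup is nilpotent. -/
theorem fitOf_nilpotent [Finite G] (K : Subgroup G) : Group.IsNilpotent ↥(fitOf K) := by
  classical
  let ι := {p : ℕ // p.Prime ∧ p ∣ Nat.card G}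
  haveI : Finite ι := by
    have : Set.Finite {p : ℕ | p.Prime ∧ p ∣ Nat.card G} := by
      apply Set.Finite.subset (Set.finite_Iic (Nat.card G))
      intro p hp
      exact Nat.le_of_dvd Nat.card_pos hp.2
    exact this.to_subtype
  haveI : Fintype ι := Fintype.ofFinite ι
  let H : ι → Subgroup G := fun p => piCoreIn {p.1} K
  have hcomm : Pairwise fun i j : ι => ∀ x y : G, x ∈ H i → y ∈ H j → Commute x y := by
    intro i j hij x y hx hy
    have hne : i.1 ≠ j.1 := fun h => hij (Subtype.ext h)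
    have h1 : ⁅H i, H j⁆ ≤ H i ⊓ H j := by
      apply le_inf
      · exact comm_le_of_normal le_rfl ((piCoreIn_le _ K).trans (piCoreIn_normal _ K))
      · rw [Subgroup.commutator_comm]
        exact comm_le_of_normal le_rfl ((piCoreIn_le _ K).trans (piCoreIn_normal _ K))
    have h2 : H i ⊓ H j = ⊥ :=
      piGrp_inf_eq_bot (π := {i.1}) (π' := {j.1})
        (fun q hq hq' => hne (by
          rw [Set.mem_singleton_iff] at hq hq'
          rw [← hq, ← hq']))
        (piCoreIn_piGrp _ K) (piCoreIn_piGrp _ K)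
    rw [h2, le_bot_iff] at h1
    have h3 : ⁅x, y⁆ = 1 := by
      have := Subgroup.commutator_mem_commutator hx hy
      rw [h1, Subgroup.mem_bot] at this
      exact this
    rw [commutatorElement_def] at h3
    show x * y = y * x
    calc x * y = (x * y * x⁻¹ * y⁻¹) * y * x := by group
      _ = y * x := by rw [h3]; group
  have hnil : ∀ i : ι, Group.IsNilpotent ↥(H i) := by
    intro i
    haveI : Fact i.1.Prime := ⟨i.2.1⟩
    exact ((isPGroup_iff_piGrp i.2.1).2 (piCoreIn_piGrp {i.1} K)).isNilpotent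
  haveI : Group.IsNilpotent (∀ i : ι, ↥(H i)) := Group.isNilpotent_pi
  have hrange : (Subgroup.noncommPiCoprod hcomm).range = fitOf K := by
    rw [Subgroup.noncommPiCoprod_range, fitOf_eq_iSup]
    apply le_antisymm
    · apply iSup_le
      intro i
      exact le_iSup (fun p : {p : ℕ // p.Prime} => piCoreIn {p.1} K) ⟨i.1, i.2.1⟩
    · apply iSup_le
      rintro ⟨p, hp⟩
      by_cases hdvd : p ∣ Nat.card G
      · exact le_iSup H ⟨p, hp, hdvd⟩
      · have : piCoreIn {p} K = ⊥ := by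
          rw [eq_bot_iff]
          intro x hx
          rw [Subgroup.mem_bot]
          by_contra hne
          have h1 : orderOf x ≠ 1 := fun h => hne (orderOf_eq_one_iff.1 h)
          obtain ⟨q, hq, hqdvd⟩ := Nat.exists_prime_and_dvd h1
          have := piCoreIn_piGrp {p} K x hx q hq hqdvd
          rw [Set.mem_singleton_iff] at this
          subst this
          exact hdvd (hqdvd.trans (orderOf_dvd_natCard x))
        rw [this]; exact bot_le
  have h5 : Group.IsNilpotent ↥(Subgroup.noncommPiCoprod hcomm).range :=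
    nilpotent_of_surjective (Subgroup.noncommPiCoprod hcomm).rangeRestrict
      (Subgroup.noncommPiCoprod hcomm).rangeRestrict_surjective
  rw [hrange] at h5
  exact h5

theorem map_fittingSubgroup_eq (K : Subgroup G) :
    (Cfsg.fittingSubgroup ↥K).map K.subtype = fitOf K := by
  unfold Cfsg.fittingSubgroup fitOf
  apply map_sSup_normal_eq_radOf
  intro N'
  have e := N'.equivMapOfInjective K.subtype K.subtype_injective
  exact ⟨fun h => Group.nilpotent_of_mulEquiv e, fun h => Group.nilpotent_of_mulEquiv e.symm⟩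

theorem fittingSubgroup_eq : Cfsg.fittingSubgroup G = fitOf (⊤ : Subgroup G) := by
  unfold Cfsg.fittingSubgroup fitOf
  rw [← sSup_normal_eq_radOf]

end Cfsg.Agent.helper7
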