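import Mathlib
import Cfsg.Prelude.Def_CaseTheorems
import Cfsg.Agent.Lib_helper7_Fitting
import Cfsg.Agent.Lib_helper1_Core

set_option autoImplicit false

/-! `O_{p'}(G / O_{p'}(G)) = 1`, and centres of subnormal subgroups of groups with `O_{p'} = 1`. -/

namespace Cfsg.Agent.helper9

open Cfsg

variable {G : Type*} [Group G] [Finite G]

/-- `O_{p'}(G / O_{p'}(G)) = 1`. -/
theorem pPrimeCore_quotient_eq_bot (p : ℕ) :
    pPrimeCore p (G ⧸ pPrimeCore p G) = ⊥ := by
  rw [eq_bot_iff]
  apply sSup_le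
  rintro N ⟨hN, hcop⟩
  have hO : (Nat.card (pPrimeCore p G)).Coprime p := helper1.pPrimeCore_coprime p
  have hN' : (N.comap (QuotientGroup.mk' (pPrimeCore p G))).Normal := hN.comap _
  have hON' : pPrimeCore p G ≤ N.comap (QuotientGroup.mk' (pPrimeCore p G)) := by
    intro x hx
    rw [Subgroup.mem_comap]
    have : (QuotientGroup.mk' (pPrimeCore p G)) x = 1 := (QuotientGroup.eq_one_iff x).mpr hx
    rw [this]; exact N.one_mem
  have hrel : (pPrimeCore p G).relIndex (N.comap (QuotientGroup.mk' (pPrimeCore p G))) =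
      Nat.card N := by
    have h1 : ((⊥ : Subgroup (G ⧸ pPrimeCore p G)).comap
        (QuotientGroup.mk' (pPrimeCore p G))).relIndex
        (N.comap (QuotientGroup.mk' (pPrimeCore p G))) = Nat.card N := by
      rw [Subgroup.relIndex_comap, Subgroup.relIndex_bot_left,
        Subgroup.map_comap_eq_self_of_surjective (QuotientGroup.mk'_surjective _)]
    rwa [MonoidHom.comap_bot, QuotientGroup.ker_mk'] at h1
  have hcard : Nat.card (N.comap (QuotientGroup.mk' (pPrimeCore p G))) =
      Nat.card (pPrimeCore p G) * Nat.card N := by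
    have h2 := Subgroup.relIndex_mul_relIndex ⊥ (pPrimeCore p G)
      (N.comap (QuotientGroup.mk' (pPrimeCore p G))) bot_le hON'
    rw [Subgroup.relIndex_bot_left, Subgroup.relIndex_bot_left, hrel] at h2
    exact h2.symm
  have hle : N.comap (QuotientGroup.mk' (pPrimeCore p G)) ≤ pPrimeCore p G :=
    helper1.le_pPrimeCore hN' (by rw [hcard]; exact Nat.Coprime.mul_left hO hcop)
  intro x hx
  obtain ⟨y, rfl⟩ := QuotientGroup.mk'_surjective (pPrimeCore p G) x
  rw [Subgroup.mem_bot]
  exact (QuotientGroup.eq_one_iff y).mpr (hle hx)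

/-- In a group with `O_{p'}(G) = 1`, the centre of a subnormal subgroup is a `p`-group. -/
theorem isPGroup_center_of_isSubnormal {p : ℕ} (hp : p.Prime) (hcore : pPrimeCore p G = ⊥)
    (K : Subgroup G) (hK : K.IsSubnormal) : IsPGroup p (Subgroup.center K) := by
  intro z
  -- order of z
  obtain ⟨a, m, hm, hord⟩ := Nat.exists_eq_pow_mul_and_not_dvd
    (orderOf_pos ((z : K) : G)).ne' p hp.ne_one
  refine ⟨a, ?_⟩
  -- w = z ^ (p ^ a) has order m
  have hw : orderOf (((z : K) : G) ^ (p ^ a)) = m := by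
    rw [orderOf_pow_of_dvd (pow_ne_zero _ hp.ne_zero) (by rw [hord]; exact dvd_mul_right _ _), hord,
      Nat.mul_div_cancel_left _ (pow_pos hp.pos _)]
  -- W = ⟨w⟩ is subnormal
  have hwK : ((z : K) : G) ^ (p ^ a) ∈ K := K.pow_mem (z : K).2 _
  have hWK : Subgroup.zpowers (((z : K) : G) ^ (p ^ a)) ≤ K := by
    rw [Subgroup.zpowers_le]; exact hwK
  have hcomm : ∀ k ∈ K, k * (((z : K) : G) ^ (p ^ a)) = (((z : K) : G) ^ (p ^ a)) * k := by
    intro k hk
    have h1 := Subgroup.mem_center_iff.mp z.2 ⟨k, hk⟩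
    have h2 : k * ((z : K) : G) = ((z : K) : G) * k := congrArg Subtype.val h1
    exact ((Commute.pow_right (show Commute k ((z : K) : G) from h2)) _).eq
  have hnorm : K ≤ Subgroup.normalizer
      ((Subgroup.zpowers (((z : K) : G) ^ (p ^ a)) : Subgroup G) : Set G) := by
    intro k hk
    apply Subgroup.centralizer_le_normalizer
    rw [Subgroup.mem_centralizer_iff]
    intro h hh
    obtain ⟨i, rfl⟩ := Subgroup.mem_zpowers_iff.mp hh
    exact ((Commute.zpow_left (show Commute (((z : K) : G) ^ (p ^ a)) k from (hcomm k hk).symm)) i).eq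
  have hsn : helper7.SN (Subgroup.zpowers (((z : K) : G) ^ (p ^ a))) ⊤ :=
    (helper7.SN.of_normal hWK hnorm).trans (helper7.sn_top_iff.mpr hK)
  have hpi : helper7.PiGrp {q | q ≠ p} (Subgroup.zpowers (((z : K) : G) ^ (p ^ a))) := by
    rw [← helper7.coprime_card_iff_piGrp hp, Nat.card_zpowers, hw]
    exact ((Nat.Prime.coprime_iff_not_dvd hp).mpr hm).symm
  have hle := helper7.le_piCoreIn_of_sn hsn hpi
  rw [← helper7.pPrimeCore_eq hp, hcore] at hle
  have h1 : ((z : K) : G) ^ (p ^ a) = 1 := by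
    have := hle (Subgroup.mem_zpowers _)
    rwa [Subgroup.mem_bot] at this
  apply Subtype.ext
  apply Subtype.ext
  simpa using h1

/-- The centre of a component of `G / O_{p'}(G)` is a `p`-group. -/
theorem isPGroup_center_of_isComponent_quotient {p : ℕ} (hp : p.Prime)
    (K : Subgroup (G ⧸ pPrimeCore p G)) (hK : Cfsg.IsComponent K) :
    IsPGroup p (Subgroup.center K) :=
  isPGroup_center_of_isSubnormal hp (pPrimeCore_quotient_eq_bot p) K hK.1

end Cfsg.Agent.helper9
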