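import Mathlib
import Cfsg.Prelude.Def_Local
import Cfsg.Agent.Lib_helper1_Core
import Cfsg.Agent.Lib_helper9_Cores

set_option autoImplicit false
open Cfsg

namespace Cfsg.Agent.helper23

section PSolv
variable {G : Type*} [Group G]

/-- Inductive form of `p`-solvability: the normal subgroups reachable from `⊥` by steps whose
relative index is a power of `p` or prime to `p`. -/
inductive PSReach (p : ℕ) : Subgroup G → Prop
  | bot : PSReach p ⊥
  | step (K L : Subgroup G) : PSReach p K → K ≤ L → L.Normal →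
      ((∃ m : ℕ, K.relIndex L = p ^ m) ∨ (K.relIndex L).Coprime p) → PSReach p L

theorem PSReach.normal {p : ℕ} {K : Subgroup G} (h : PSReach p K) : K.Normal := by
  cases h with
  | bot => exact Subgroup.normal_bot
  | step K L _ _ hn _ => exact hn

theorem psreach_of_isPSolvable {p : ℕ} (h : Cfsg.IsPSolvable p G) :
    PSReach p (⊤ : Subgroup G) := by
  obtain ⟨n, H, h0, hlast, hmono, hnorm, hstep⟩ := h
  have key : ∀ i : Fin (n + 1), PSReach p (H i) := by
    intro i
    induction i using Fin.induction with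
    | zero => rw [h0]; exact PSReach.bot
    | succ i ih =>
      exact PSReach.step _ _ ih (Fin.monotone_iff_le_succ.1 hmono i) (hnorm _) (hstep i)
  rw [← hlast]
  exact key _

theorem exists_chain_of_psreach {p : ℕ} {N : Subgroup G} (h : PSReach p N) :
    ∃ (n : ℕ) (H : Fin (n + 1) → Subgroup G),
      H 0 = ⊥ ∧ H (Fin.last n) = N ∧ Monotone H ∧ (∀ i, (H i).Normal) ∧
        ∀ i : Fin n, (∃ m : ℕ, (H i.castSucc).relIndex (H i.succ) = p ^ m) ∨
          ((H i.castSucc).relIndex (H i.succ)).Coprime p := by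
  induction h with
  | bot =>
    exact ⟨0, fun _ => ⊥, rfl, rfl, fun _ _ _ => le_rfl, fun _ => Subgroup.normal_bot,
      fun i => i.elim0⟩
  | step K L _ hKL hn hfac ih =>
    obtain ⟨n, F, h0, hl, hmono, hnm, hst⟩ := ih
    refine ⟨n + 1, Fin.snoc (α := fun _ => Subgroup G) F L, ?_, ?_, ?_, ?_, ?_⟩
    · have : (0 : Fin (n + 2)) = Fin.castSucc (0 : Fin (n + 1)) := rfl
      rw [this, Fin.snoc_castSucc]
      exact h0
    · exact Fin.snoc_last (α := fun _ => Subgroup G) _ _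
    · rw [Fin.monotone_iff_le_succ]
      intro i
      refine Fin.lastCases ?_ (fun j => ?_) i
      · rw [Fin.succ_last, Fin.snoc_last (α := fun _ => Subgroup G),
          Fin.snoc_castSucc (α := fun _ => Subgroup G), hl]
        exact hKL
      · rw [Fin.succ_castSucc, Fin.snoc_castSucc (α := fun _ => Subgroup G),
          Fin.snoc_castSucc (α := fun _ => Subgroup G)]
        exact Fin.monotone_iff_le_succ.1 hmono j
    · intro i
      refine Fin.lastCases ?_ (fun j => ?_) i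
      · rw [Fin.snoc_last (α := fun _ => Subgroup G)]; exact hn
      · rw [Fin.snoc_castSucc (α := fun _ => Subgroup G)]; exact hnm j
    · intro i
      refine Fin.lastCases ?_ (fun j => ?_) i
      · rw [Fin.succ_last, Fin.snoc_last (α := fun _ => Subgroup G),
          Fin.snoc_castSucc (α := fun _ => Subgroup G), hl]
        exact hfac
      · rw [Fin.succ_castSucc, Fin.snoc_castSucc (α := fun _ => Subgroup G),
          Fin.snoc_castSucc (α := fun _ => Subgroup G)]
        exact hst j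

theorem isPSolvable_iff_psreach {p : ℕ} : Cfsg.IsPSolvable p G ↔ PSReach p (⊤ : Subgroup G) :=
  ⟨psreach_of_isPSolvable, fun h => exists_chain_of_psreach h⟩

theorem relIndex_map_dvd {G' : Type*} [Group G'] (f : G →* G') {K L : Subgroup G} (hK : K.Normal)
    (hKL : K ≤ L) : (K.map f).relIndex (L.map f) ∣ K.relIndex L := by
  rw [Subgroup.relIndex_map_map]
  haveI := hK
  haveI : (K ⊔ f.ker).Normal := inferInstance
  have e : L ⊔ f.ker = L ⊔ (K ⊔ f.ker) := by
    rw [← sup_assoc, sup_eq_left.2 hKL]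
  rw [e, Subgroup.relIndex_sup_right]
  exact Subgroup.relIndex_dvd_of_le_left L le_sup_left

theorem PSReach.map {p : ℕ} (hp : p.Prime) {G' : Type*} [Group G'] (f : G →* G')
    (hf : Function.Surjective f) {N : Subgroup G} (h : PSReach p N) : PSReach p (N.map f) := by
  induction h with
  | bot => rw [Subgroup.map_bot]; exact PSReach.bot
  | step K L hK hKL hn hfac ih =>
    refine PSReach.step _ _ ih (Subgroup.map_mono hKL) (hn.map f hf) ?_
    have hd := relIndex_map_dvd f hK.normal hKL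
    rcases hfac with ⟨m, hm⟩ | hc
    · left
      rw [hm] at hd
      obtain ⟨k, _, hk⟩ := (Nat.dvd_prime_pow hp).1 hd
      exact ⟨k, hk⟩
    · right
      exact Nat.Coprime.coprime_dvd_left hd hc

theorem isPSolvable_of_surjective {p : ℕ} (hp : p.Prime) {G' : Type*} [Group G'] (f : G →* G')
    (hf : Function.Surjective f) (h : Cfsg.IsPSolvable p G) : Cfsg.IsPSolvable p G' := by
  rw [isPSolvable_iff_psreach] at h ⊢
  have h1 := h.map hp f hf
  rwa [← MonoidHom.range_eq_map, MonoidHom.range_eq_top.2 hf] at h1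

theorem relIndex_inf_dvd {K L D : Subgroup G} (hK : K.Normal) (hKL : K ≤ L) :
    (K ⊓ D).relIndex (L ⊓ D) ∣ K.relIndex L := by
  have e1 : (K ⊓ D).relIndex (L ⊓ D) = K.relIndex (L ⊓ D) := by
    rw [← Subgroup.inf_relIndex_right (K ⊓ D) (L ⊓ D), ← Subgroup.inf_relIndex_right K (L ⊓ D)]
    congr 1
    ext x
    simp only [Subgroup.mem_inf]
    tauto
  rw [e1]
  haveI := hK
  rw [← Subgroup.relIndex_sup_right (L ⊓ D) K]
  have h1 : K ≤ (L ⊓ D) ⊔ K := le_sup_right
  have h2 : (L ⊓ D) ⊔ K ≤ L := sup_le inf_le_left hKL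
  exact Dvd.intro _ (Subgroup.relIndex_mul_relIndex K _ L h1 h2)

/-- If `O_{p'}(G) = 1`, a normal subgroup `L` with a central normal `p`-subgroup `L₀` of index
prime to `p` equals `L₀`. -/
theorem central_sylow_split [Finite G] {p : ℕ} [hp : Fact p.Prime]
    (hO : Cfsg.pPrimeCore p G = ⊥)
    {L L₀ : Subgroup G} (hL : L.Normal) (hL₀ : L₀.Normal) (hle : L₀ ≤ L) (hpg : IsPGroup p L₀)
    (hcent : ∀ a ∈ L₀, ∀ b ∈ L, a * b = b * a) (hcop : (L₀.relIndex L).Coprime p) : L ≤ L₀ := by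
  haveI hNn : (L₀.subgroupOf L).Normal := hL₀.subgroupOf L
  have hNcard : Nat.card (L₀.subgroupOf L) = Nat.card L₀ :=
    Nat.card_congr (Subgroup.subgroupOfEquivOfLe hle).toEquiv
  have hNidx : (L₀.subgroupOf L).index = L₀.relIndex L := rfl
  obtain ⟨k, hk⟩ := IsPGroup.iff_card.1 hpg
  have hcop' : (Nat.card (L₀.subgroupOf L)).Coprime (L₀.subgroupOf L).index := by
    rw [hNcard, hk, hNidx]
    exact Nat.Coprime.pow_left k hcop.symm
  obtain ⟨K', hK'⟩ := Subgroup.exists_right_complement'_of_coprime hcop'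
  have hcardK' : Nat.card K' = (L₀.subgroupOf L).index := by
    have h1 := hK'.card_mul_card
    have h2 := (L₀.subgroupOf L).card_mul_index
    exact Nat.eq_of_mul_eq_mul_left Nat.card_pos (h1.trans h2.symm)
  have hK'cop : (Nat.card K').Coprime p := by rw [hcardK', hNidx]; exact hcop
  have hKcL : K'.map L.subtype ≤ L := Subgroup.map_subtype_le K'
  have hKccard : Nat.card (K'.map L.subtype) = Nat.card K' := Subgroup.card_subtype L K'
  -- `p'`-elements of `L` lie in the complement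
  have hi : ∀ x ∈ L, (orderOf x).Coprime p → x ∈ K'.map L.subtype := by
    intro x hx hox
    obtain ⟨⟨⟨⟨a, haL⟩, haN⟩, ⟨⟨b, hbL⟩, hbK⟩⟩, hnk⟩ := hK'.2 (⟨x, hx⟩ : L)
    have hab : a * b = x := congrArg Subtype.val hnk
    have haL₀ : a ∈ L₀ := haN
    have hbKc : b ∈ K'.map L.subtype := ⟨⟨b, hbL⟩, hbK, rfl⟩
    have hcomm : Commute a b := hcent a haL₀ b hbL
    have hb : (orderOf b).Coprime p :=
      Nat.Coprime.coprime_dvd_left (hKccard ▸ (K'.map L.subtype).orderOf_dvd_natCard hbKc) hK'cop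
    have ha1 : a ^ (orderOf x * orderOf b) = 1 := by
      have hax : a = x * b⁻¹ := by rw [← hab]; group
      have hxb : Commute x b⁻¹ := by
        rw [← hab]
        exact (hcomm.mul_left (Commute.refl b)).inv_right
      have e1 : x ^ (orderOf x * orderOf b) = 1 := by rw [pow_mul, pow_orderOf_eq_one, one_pow]
      have e2 : b⁻¹ ^ (orderOf x * orderOf b) = 1 := by
        rw [mul_comm, pow_mul, inv_pow, pow_orderOf_eq_one, inv_one, one_pow]
      rw [hax, hxb.mul_pow, e1, e2, one_mul]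
    obtain ⟨j, hj⟩ := hpg ⟨a, haL₀⟩
    have ha2 : a ^ (p ^ j) = 1 := by simpa using congrArg Subtype.val hj
    have hcop2 : Nat.Coprime (orderOf x * orderOf b) (p ^ j) :=
      Nat.Coprime.pow_right j (Nat.Coprime.mul_left hox hb)
    have ha : a = 1 := by
      have h1 : orderOf a ∣ orderOf x * orderOf b := orderOf_dvd_of_pow_eq_one ha1
      have h2 : orderOf a ∣ p ^ j := orderOf_dvd_of_pow_eq_one ha2
      have h3 : orderOf a ∣ 1 := by
        have h4 := Nat.dvd_gcd h1 h2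
        rwa [Nat.Coprime.gcd_eq_one hcop2] at h4
      exact orderOf_eq_one_iff.1 (Nat.dvd_one.1 h3)
    have hxb : x = b := by rw [← hab, ha, one_mul]
    rw [hxb]
    exact hbKc
  have hKcn : (K'.map L.subtype).Normal := by
    constructor
    intro x hx g
    apply hi
    · exact hL.conj_mem x (hKcL hx) g
    · have e : orderOf (g * x * g⁻¹) = orderOf x :=
        orderOf_injective (MulAut.conj g).toMonoidHom (MulAut.conj g).injective x
      rw [e]
      exact Nat.Coprime.coprime_dvd_left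
        (hKccard ▸ (K'.map L.subtype).orderOf_dvd_natCard hx) hK'cop
  have hKcbot : K'.map L.subtype = ⊥ := by
    have h1 := helper1.le_pPrimeCore hKcn (by rw [hKccard]; exact hK'cop)
    rwa [hO, le_bot_iff] at h1
  intro y hy
  obtain ⟨⟨⟨⟨a, haL⟩, haN⟩, ⟨⟨b, hbL⟩, hbK⟩⟩, hnk⟩ := hK'.2 (⟨y, hy⟩ : L)
  have hab : a * b = y := congrArg Subtype.val hnk
  have hbKc : b ∈ K'.map L.subtype := ⟨⟨b, hbL⟩, hbK, rfl⟩
  rw [hKcbot, Subgroup.mem_bot] at hbKc
  rw [← hab, hbKc, mul_one]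
  exact haN

/-- Hall–Higman Lemma 1.2.3: in a `p`-solvable group with `O_{p'}(G) = 1`,
`C_G(O_p(G)) ≤ O_p(G)`. -/
theorem hall_higman_123 [Finite G] {p : ℕ} [hp : Fact p.Prime] (hps : PSReach p (⊤ : Subgroup G))
    (hO : Cfsg.pPrimeCore p G = ⊥) :
    Subgroup.centralizer ((Cfsg.pCore p G : Subgroup G) : Set G) ≤ Cfsg.pCore p G := by
  haveI hVn : (Cfsg.pCore p G).Normal := helper1.pCore_normal p
  obtain ⟨D, hD⟩ : ∃ D : Subgroup G, D = Subgroup.centralizer ((Cfsg.pCore p G : Subgroup G) : Set G) :=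
    ⟨_, rfl⟩
  rw [← hD]
  have hDn : D.Normal := by rw [hD]; exact Subgroup.normal_centralizer
  have hDc : ∀ b ∈ D, ∀ a ∈ Cfsg.pCore p G, a * b = b * a := by
    intro b hb a ha
    rw [hD, Subgroup.mem_centralizer_iff] at hb
    exact hb a ha
  have key : ∀ X : Subgroup G, PSReach p X → X ⊓ D ≤ Cfsg.pCore p G := by
    intro X hX
    induction hX with
    | bot => rw [bot_inf_eq]; exact bot_le
    | step K L hK hKL hLn hfac ih =>
      have hKn := hK.normal
      have hL'n : (L ⊓ D).Normal := @Subgroup.normal_inf_normal _ _ L D hLn hDn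
      have hL₀n : (K ⊓ D).Normal := @Subgroup.normal_inf_normal _ _ K D hKn hDn
      have hle : K ⊓ D ≤ L ⊓ D := inf_le_inf_right _ hKL
      have hd := relIndex_inf_dvd (D := D) hKn hKL
      have hpg : IsPGroup p (K ⊓ D : Subgroup G) := (helper1.pCore_isPGroup p).to_le ih
      rcases hfac with ⟨m, hm⟩ | hc
      · rw [hm] at hd
        obtain ⟨j, _, hj⟩ := (Nat.dvd_prime_pow hp.out).1 hd
        obtain ⟨k, hk⟩ := IsPGroup.iff_card.1 hpg
        have hcard : Nat.card (L ⊓ D : Subgroup G) = p ^ (k + j) := by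
          have h1 := Subgroup.relIndex_mul_relIndex ⊥ (K ⊓ D) (L ⊓ D) bot_le hle
          rw [Subgroup.relIndex_bot_left, Subgroup.relIndex_bot_left, hk, hj] at h1
          rw [← h1, pow_add]
        exact helper1.le_pCore hL'n (IsPGroup.of_card hcard)
      · have hcop : ((K ⊓ D).relIndex (L ⊓ D)).Coprime p := Nat.Coprime.coprime_dvd_left hd hc
        have h1 : L ⊓ D ≤ K ⊓ D := by
          refine central_sylow_split hO hL'n hL₀n hle hpg ?_ hcop
          intro a ha b hb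
          exact hDc b (Subgroup.mem_inf.1 hb).2 a (ih ha)
        exact h1.trans ih
  have h2 := key ⊤ hps
  rwa [top_inf_eq] at h2

theorem mem_of_pow_eq_one_of_coprime_index {K : Subgroup G} [K.Normal] {x : G} {a : ℕ}
    (hx : x ^ a = 1) (hcop : a.Coprime K.index) : x ∈ K := by
  have h1 : x ^ K.index ∈ K := Subgroup.pow_index_mem K x
  have hb : (1 : ℤ) = (a : ℤ) * Nat.gcdA a K.index + (K.index : ℤ) * Nat.gcdB a K.index := by
    rw [← Nat.gcd_eq_gcd_ab, Nat.Coprime.gcd_eq_one hcop, Nat.cast_one]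
  have h2 : x = (x ^ K.index) ^ (Nat.gcdB a K.index) := by
    conv_lhs =>
      rw [← zpow_one x, hb, zpow_add, zpow_mul, zpow_mul, zpow_natCast, zpow_natCast, hx, one_zpow,
        one_mul]
  rw [h2]
  exact K.zpow_mem h1 _

theorem sylow_le_of_not_dvd_index [Finite G] {q : ℕ} [hq : Fact q.Prime] {K : Subgroup G} [K.Normal]
    (h : ¬ q ∣ K.index) (Q : Sylow q G) : (Q : Subgroup G) ≤ K := by
  intro x hx
  obtain ⟨k, hk⟩ := Q.2 ⟨x, hx⟩
  have hx' : x ^ (q ^ k) = 1 := by simpa using congrArg Subtype.val hk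
  apply mem_of_pow_eq_one_of_coprime_index hx'
  exact Nat.Coprime.pow_left k ((Nat.Prime.coprime_iff_not_dvd hq.out).2 h)

theorem index_dvd_card_of_sup_eq_top [Finite G] (H K : Subgroup G) [K.Normal] (h : H ⊔ K = ⊤) :
    H.index ∣ Nat.card K := by
  have h1 : K.relIndex H = K.index := by
    rw [← Subgroup.relIndex_sup_right H K, h, Subgroup.relIndex_top_right]
  have h2 : Nat.card (K ⊓ H : Subgroup G) * K.relIndex H = Nat.card H := by
    have h0 := Subgroup.relIndex_mul_relIndex ⊥ (K ⊓ H) H bot_le inf_le_right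
    rwa [Subgroup.relIndex_bot_left, Subgroup.relIndex_bot_left, Subgroup.inf_relIndex_right] at h0
  have h3 : H.index * Nat.card H = Nat.card G := H.index_mul_card
  have h4 : K.index * Nat.card K = Nat.card G := K.index_mul_card
  have h5 : K.index * (H.index * Nat.card (K ⊓ H : Subgroup G)) = K.index * Nat.card K := by
    rw [h4, ← h3, ← h2, h1]; ring
  have h6 : H.index * Nat.card (K ⊓ H : Subgroup G) = Nat.card K :=
    Nat.eq_of_mul_eq_mul_left (Nat.pos_of_ne_zero Subgroup.index_ne_zero_of_finite) h5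
  exact Dvd.intro _ h6

/-- If `q ∤ |G : O_{p'}(G)|` then some Sylow `p`-subgroup normalizes some Sylow `q`-subgroup. -/
theorem exists_sylow_normalizes_of_not_dvd [Finite G] {p q : ℕ} [hp : Fact p.Prime] [hq : Fact q.Prime]
    (h : ¬ q ∣ (Cfsg.pPrimeCore p G).index) :
    ∃ (P : Sylow p G) (Q : Sylow q G),
      (P : Subgroup G) ≤ Subgroup.normalizer ((Q : Subgroup G) : Set G) := by
  haveI : (Cfsg.pPrimeCore p G).Normal := helper1.pPrimeCore_normal p
  obtain ⟨P⟩ : Nonempty (Sylow p G) := Sylow.nonempty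
  obtain ⟨Q₀⟩ : Nonempty (Sylow q G) := Sylow.nonempty
  have hQ₀K : (Q₀ : Subgroup G) ≤ Cfsg.pPrimeCore p G := sylow_le_of_not_dvd_index h Q₀
  have hfr : Subgroup.normalizer ((Q₀ : Subgroup G) : Set G) ⊔ Cfsg.pPrimeCore p G = ⊤ :=
    Sylow.normalizer_sup_eq_top' Q₀ hQ₀K
  have hdvd : Nat.card (Sylow q G) ∣ Nat.card (Cfsg.pPrimeCore p G) := by
    rw [Sylow.card_eq_index_normalizer Q₀]
    exact index_dvd_card_of_sup_eq_top _ _ hfr
  have hnd : ¬ p ∣ Nat.card (Sylow q G) := by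
    intro h0
    have h1 : p ∣ Nat.card (Cfsg.pPrimeCore p G) := h0.trans hdvd
    have h2 := helper1.pPrimeCore_coprime (G := G) p
    exact (Nat.Prime.coprime_iff_not_dvd hp.out).1 h2.symm h1
  obtain ⟨Q, hQ⟩ := P.2.nonempty_fixed_point_of_prime_not_dvd_card (Sylow q G) hnd
  refine ⟨P, Q, fun g hg => ?_⟩
  rw [MulAction.mem_fixedPoints] at hQ
  have h3 := hQ ⟨g, hg⟩
  rw [Subgroup.smul_def] at h3
  exact Sylow.smul_eq_iff_mem_normalizer.1 h3

/-- In a `p`-solvable group, if a Sylow `p`-subgroup normalizes a Sylow `q`-subgroup (`q ≠ p`)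
then `q ∤ |G : O_{p'}(G)|`. -/
theorem not_dvd_index_of_normalizes [Finite G] {p q : ℕ} [hp : Fact p.Prime] [hq : Fact q.Prime]
    (hpq : p ≠ q) (hsolv : Cfsg.IsPSolvable p G) (P : Sylow p G) (Q : Sylow q G)
    (h : (P : Subgroup G) ≤ Subgroup.normalizer ((Q : Subgroup G) : Set G)) :
    ¬ q ∣ (Cfsg.pPrimeCore p G).index := by
  haveI hKn : (Cfsg.pPrimeCore p G).Normal := helper1.pPrimeCore_normal p
  have hπ : Function.Surjective (QuotientGroup.mk' (Cfsg.pPrimeCore p G)) :=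
    QuotientGroup.mk'_surjective _
  have hps' : PSReach p (⊤ : Subgroup (G ⧸ Cfsg.pPrimeCore p G)) := by
    have h1 := (psreach_of_isPSolvable hsolv).map hp.out _ hπ
    rwa [← MonoidHom.range_eq_map, MonoidHom.range_eq_top.2 hπ] at h1
  have hO' : Cfsg.pPrimeCore p (G ⧸ Cfsg.pPrimeCore p G) = ⊥ :=
    helper9.pPrimeCore_quotient_eq_bot p
  have hHH := hall_higman_123 hps' hO'
  have hP' : ((P.mapSurjective hπ : Sylow p (G ⧸ Cfsg.pPrimeCore p G)) : Subgroup (G ⧸ Cfsg.pPrimeCore p G)) =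
      (P : Subgroup G).map (QuotientGroup.mk' (Cfsg.pPrimeCore p G)) := Sylow.coe_mapSurjective hπ P
  have hQ' : ((Q.mapSurjective hπ : Sylow q (G ⧸ Cfsg.pPrimeCore p G)) : Subgroup (G ⧸ Cfsg.pPrimeCore p G)) =
      (Q : Subgroup G).map (QuotientGroup.mk' (Cfsg.pPrimeCore p G)) := Sylow.coe_mapSurjective hπ Q
  have hVP : Cfsg.pCore p (G ⧸ Cfsg.pPrimeCore p G) ≤
      ((P.mapSurjective hπ : Sylow p (G ⧸ Cfsg.pPrimeCore p G)) : Subgroup (G ⧸ Cfsg.pPrimeCore p G)) :=
    helper1.pCore_le_sylow _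
  have hVn : (Cfsg.pCore p (G ⧸ Cfsg.pPrimeCore p G)).Normal := helper1.pCore_normal p
  have hdisj : Cfsg.pCore p (G ⧸ Cfsg.pPrimeCore p G) ⊓
      ((Q.mapSurjective hπ : Sylow q (G ⧸ Cfsg.pPrimeCore p G)) : Subgroup (G ⧸ Cfsg.pPrimeCore p G)) = ⊥ :=
    (IsPGroup.disjoint_of_ne p q hpq _ _ (helper1.pCore_isPGroup p)
      (Q.mapSurjective hπ).2).eq_bot
  have hQcent : ((Q.mapSurjective hπ : Sylow q (G ⧸ Cfsg.pPrimeCore p G)) : Subgroup (G ⧸ Cfsg.pPrimeCore p G)) ≤
      Subgroup.centralizer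
        ((Cfsg.pCore p (G ⧸ Cfsg.pPrimeCore p G) : Subgroup (G ⧸ Cfsg.pPrimeCore p G)) :
          Set (G ⧸ Cfsg.pPrimeCore p G)) := by
    intro x hx
    rw [Subgroup.mem_centralizer_iff]
    intro v hv
    have hvP := hVP hv
    rw [hP'] at hvP
    obtain ⟨g, hg, hgv⟩ := hvP
    rw [hQ'] at hx
    obtain ⟨y, hy, hyx⟩ := hx
    have hgN := h hg
    rw [Subgroup.mem_normalizer_iff] at hgN
    have h1 : g * y * g⁻¹ ∈ (Q : Subgroup G) := (hgN y).1 hy
    have hc : v * x * v⁻¹ * x⁻¹ ∈ Cfsg.pCore p (G ⧸ Cfsg.pPrimeCore p G) ⊓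
        ((Q.mapSurjective hπ : Sylow q (G ⧸ Cfsg.pPrimeCore p G)) : Subgroup (G ⧸ Cfsg.pPrimeCore p G)) := by
      refine Subgroup.mem_inf.2 ⟨?_, ?_⟩
      · have h2 : x * v⁻¹ * x⁻¹ ∈ Cfsg.pCore p (G ⧸ Cfsg.pPrimeCore p G) :=
          hVn.conj_mem _ (Subgroup.inv_mem _ hv) _
        have e : v * x * v⁻¹ * x⁻¹ = v * (x * v⁻¹ * x⁻¹) := by group
        rw [e]; exact Subgroup.mul_mem _ hv h2
      · rw [hQ']
        refine ⟨g * y * g⁻¹ * y⁻¹, Subgroup.mul_mem _ h1 (Subgroup.inv_mem _ hy), ?_⟩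
        rw [map_mul, map_mul, map_mul, map_inv, map_inv, hgv, hyx]
    rw [hdisj, Subgroup.mem_bot] at hc
    have e : v * x = (v * x * v⁻¹ * x⁻¹) * (x * v) := by group
    rw [e, hc, one_mul]
  have hQbot : ((Q.mapSurjective hπ : Sylow q (G ⧸ Cfsg.pPrimeCore p G)) : Subgroup (G ⧸ Cfsg.pPrimeCore p G)) = ⊥ := by
    rw [eq_bot_iff, ← hdisj]
    exact le_inf (hQcent.trans hHH) le_rfl
  intro hdvd
  rw [Subgroup.index_eq_card] at hdvd
  exact (Q.mapSurjective hπ).ne_bot_of_dvd_card hdvd hQbot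

end PSolv

end Cfsg.Agent.helper23
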