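import Mathlib
import Cfsg.Agent.Lib_helper23_PSolv

set_option autoImplicit false
open Cfsg

namespace Cfsg.Agent.helper23

section PSolv2
variable {G : Type*} [Group G]

theorem upperPSeries_succ_of_even (p : ℕ) (n : ℕ) (hn : Even n) :
    (upperPSeries p G (n + 1)).1 =
      (pPrimeCore p (G ⧸ (upperPSeries p G n).1)).comap (QuotientGroup.mk' _) := by
  rw [upperPSeries, if_pos hn]

theorem upperPSeries_succ_of_not_even (p : ℕ) (n : ℕ) (hn : ¬ Even n) :
    (upperPSeries p G (n + 1)).1 =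
      (pCore p (G ⧸ (upperPSeries p G n).1)).comap (QuotientGroup.mk' _) := by
  rw [upperPSeries, if_neg hn]

theorem le_comap_mk' (N : Subgroup G) [N.Normal] (X' : Subgroup (G ⧸ N)) :
    N ≤ X'.comap (QuotientGroup.mk' N) := by
  intro x hx
  rw [Subgroup.mem_comap]
  have h1 : QuotientGroup.mk' N x = 1 := (QuotientGroup.eq_one_iff x).2 hx
  rw [h1]
  exact Subgroup.one_mem _

/-- If `M/N = O_{p'}(G/N)` then `O_{p'}(G/M) = 1`. -/
theorem pPrimeCore_quotient_comap_eq_bot [Finite G] (p : ℕ) (N : Subgroup G) [N.Normal]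
    (M : Subgroup G) [M.Normal]
    (hM : M = (pPrimeCore p (G ⧸ N)).comap (QuotientGroup.mk' N)) :
    pPrimeCore p (G ⧸ M) = ⊥ := by
  rw [eq_bot_iff]
  apply sSup_le
  rintro X' ⟨hX'n, hX'c⟩
  have hNM : N ≤ M := by rw [hM]; exact le_comap_mk' N _
  obtain ⟨X, hX⟩ : ∃ X : Subgroup G, X = X'.comap (QuotientGroup.mk' M) := ⟨_, rfl⟩
  have hXn : X.Normal := by rw [hX]; exact hX'n.comap _
  have hMX : M ≤ X := by rw [hX]; exact le_comap_mk' M _
  have c1 : M.relIndex X = Nat.card X' := by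
    have h1 := Subgroup.relIndex_ker (QuotientGroup.mk' M) (K := X)
    rw [QuotientGroup.ker_mk'] at h1
    rw [h1, hX, Subgroup.map_comap_eq_self_of_surjective (QuotientGroup.mk'_surjective _)]
  have c2 : N.relIndex M = Nat.card (pPrimeCore p (G ⧸ N)) := by
    have h1 := Subgroup.relIndex_ker (QuotientGroup.mk' N) (K := M)
    rw [QuotientGroup.ker_mk'] at h1
    rw [h1, hM, Subgroup.map_comap_eq_self_of_surjective (QuotientGroup.mk'_surjective _)]
  have c3 : N.relIndex X = Nat.card (X.map (QuotientGroup.mk' N)) := by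
    have h1 := Subgroup.relIndex_ker (QuotientGroup.mk' N) (K := X)
    rwa [QuotientGroup.ker_mk'] at h1
  have c4 := Subgroup.relIndex_mul_relIndex N M X hNM hMX
  have hYc : (Nat.card (X.map (QuotientGroup.mk' N))).Coprime p := by
    rw [← c3, ← c4, c1, c2]
    exact Nat.Coprime.mul_left (helper1.pPrimeCore_coprime p) hX'c
  have hYn : (X.map (QuotientGroup.mk' N)).Normal := hXn.map _ (QuotientGroup.mk'_surjective _)
  have hY : X.map (QuotientGroup.mk' N) ≤ pPrimeCore p (G ⧸ N) := helper1.le_pPrimeCore hYn hYc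
  have hXM : X ≤ M := by
    rw [hM]
    intro x hx
    rw [Subgroup.mem_comap]
    exact hY ⟨x, hx, rfl⟩
  intro y hy
  obtain ⟨x, rfl⟩ := QuotientGroup.mk'_surjective M y
  rw [Subgroup.mem_bot]
  have hxX : x ∈ X := by rw [hX]; exact hy
  exact (QuotientGroup.eq_one_iff x).2 (hXM hxX)

/-- `G / N` inherits `PSReach p ⊤`. -/
theorem psreach_top_quotient {p : ℕ} (hp : p.Prime) (h : Cfsg.IsPSolvable p G) (N : Subgroup G)
    [N.Normal] : PSReach p (⊤ : Subgroup (G ⧸ N)) := by
  have h1 := (psreach_of_isPSolvable h).map hp (QuotientGroup.mk' N) (QuotientGroup.mk'_surjective _)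
  rwa [← MonoidHom.range_eq_map, MonoidHom.range_eq_top.2 (QuotientGroup.mk'_surjective _)] at h1

end PSolv2

end Cfsg.Agent.helper23
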