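import Mathlib
import Cfsg.Agent.Lib_helper23_PSolv2

set_option autoImplicit false
open Cfsg

universe u

namespace Cfsg.Agent.helper23

section PSolv3

theorem PSReach.comap {G : Type*} [Group G] {p : ℕ} {G' : Type*} [Group G'] (f : G →* G')
    (hf : Function.Surjective f)
    (hker : PSReach p f.ker) {N' : Subgroup G'} (h : PSReach p N') : PSReach p (N'.comap f) := by
  induction h with
  | bot => rw [MonoidHom.comap_bot]; exact hker
  | step K' L' hK' hKL hn hfac ih =>
    refine PSReach.step _ _ ih (Subgroup.comap_mono hKL) (hn.comap f) ?_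
    have e : (K'.comap f).relIndex (L'.comap f) = K'.relIndex L' := by
      rw [Subgroup.relIndex_comap, Subgroup.map_comap_eq_self_of_surjective hf]
    rw [e]; exact hfac

/-- A nontrivial finite solvable group has a nontrivial `O_q` for some prime `q`. -/
theorem exists_pCore_ne_bot_of_solvable (G : Type*) [Group G] [Finite G] [hs : Group.IsSolvable G]
    [Nontrivial G] : ∃ q : Nat.Primes, Cfsg.pCore (q : ℕ) G ≠ ⊥ := by
  classical
  obtain ⟨n0, hn0⟩ := hs.solvable
  -- minimal n with derivedSeries = ⊥
  have hex : ∃ n, derivedSeries G n = ⊥ := ⟨n0, hn0⟩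
  obtain ⟨n, hn, hmin⟩ : ∃ n, derivedSeries G n = ⊥ ∧ ∀ m < n, derivedSeries G m ≠ ⊥ :=
    ⟨Nat.find hex, Nat.find_spec hex, fun m hm => Nat.find_min hex hm⟩
  have hn_ne : n ≠ 0 := by
    rintro rfl
    rw [derivedSeries_zero] at hn
    exact top_ne_bot hn
  obtain ⟨k, rfl⟩ := Nat.exists_eq_succ_of_ne_zero hn_ne
  have hAne : derivedSeries G k ≠ ⊥ := hmin k (Nat.lt_succ_self k)
  have hAn : (derivedSeries G k).Normal := derivedSeries_normal G k
  rw [derivedSeries_succ, Subgroup.commutator_eq_bot_iff_le_centralizer] at hn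
  -- the group `derivedSeries G k` is commutative hence nilpotent
  have hcomm : ∀ a b : derivedSeries G k, a * b = b * a := by
    intro a b
    apply Subtype.ext
    have h1 := hn a.2
    rw [Subgroup.mem_centralizer_iff] at h1
    exact (h1 b b.2).symm
  have hnil : Group.IsNilpotent (derivedSeries G k) := by
    letI : CommGroup (derivedSeries G k) :=
      { (inferInstance : Group (derivedSeries G k)) with mul_comm := hcomm }
    exact CommGroup.isNilpotent
  have hle : derivedSeries G k ≤ Cfsg.fittingSubgroup G := helper1.le_fitting hAn hnil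
  by_contra hall
  push Not at hall
  apply hAne
  rw [eq_bot_iff]
  refine hle.trans ?_
  rw [helper1.fitting_eq_iSup_pCore]
  apply iSup_le
  intro q
  rw [hall q]

theorem exists_normal_p_or_p' (G : Type*) [Group G] [Finite G] [Group.IsSolvable G]
    [Nontrivial G] (p : ℕ) [hp : Fact p.Prime] :
    ∃ N : Subgroup G, N.Normal ∧ N ≠ ⊥ ∧
      ((∃ m : ℕ, Nat.card N = p ^ m) ∨ (Nat.card N).Coprime p) := by
  obtain ⟨q, hq⟩ := exists_pCore_ne_bot_of_solvable G
  haveI : Fact (q : ℕ).Prime := ⟨q.2⟩
  refine ⟨Cfsg.pCore (q : ℕ) G, helper1.pCore_normal _, hq, ?_⟩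
  obtain ⟨m, hm⟩ := IsPGroup.iff_card.1 (helper1.pCore_isPGroup (G := G) (q : ℕ))
  by_cases hqp : (q : ℕ) = p
  · left
    exact ⟨m, by rw [hm, hqp]⟩
  · right
    rw [hm]
    exact Nat.Coprime.pow_left m ((Nat.coprime_primes q.2 hp.out).2 hqp)

/-- A finite solvable group is `p`-solvable (in `PSReach` form). -/
theorem psreach_top_of_solvable (p : ℕ) [hp : Fact p.Prime] :
    ∀ (n : ℕ) (G : Type u) [Group G] [Finite G] [Group.IsSolvable G], Nat.card G = n →
      PSReach p (⊤ : Subgroup G) := by
  intro n
  induction n using Nat.strong_induction_on with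
  | _ n ih =>
    intro G _ _ _ hn
    by_cases hG : Subsingleton G
    · have h0 : (⊤ : Subgroup G) = ⊥ := Subsingleton.elim _ _
      rw [h0]; exact PSReach.bot
    · haveI : Nontrivial G := not_subsingleton_iff_nontrivial.1 hG
      obtain ⟨N, hNn, hNne, hN⟩ := exists_normal_p_or_p' G p
      haveI := hNn
      have hN1 : PSReach p N :=
        PSReach.step ⊥ N PSReach.bot bot_le hNn (by rw [Subgroup.relIndex_bot_left]; exact hN)
      have hlt : Nat.card (G ⧸ N) < n := by
        rw [← hn, ← Subgroup.index_eq_card, ← N.index_mul_card]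
        have h1 : 1 < Nat.card N := N.one_lt_card_iff_ne_bot.2 hNne
        have hpos : 0 < N.index := Nat.pos_of_ne_zero Subgroup.index_ne_zero_of_finite
        nlinarith
      have h1 := ih _ hlt (G ⧸ N) rfl
      have h2 := PSReach.comap (QuotientGroup.mk' N) (QuotientGroup.mk'_surjective N)
        (by rw [QuotientGroup.ker_mk']; exact hN1) h1
      rwa [Subgroup.comap_top] at h2

theorem isPSolvable_of_solvable (p : ℕ) [hp : Fact p.Prime] (G : Type u) [Group G] [Finite G]
    [Group.IsSolvable G] : Cfsg.IsPSolvable p G :=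
  isPSolvable_iff_psreach.2 (psreach_top_of_solvable p _ G rfl)

end PSolv3

end Cfsg.Agent.helper23
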