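import Mathlib

set_option autoImplicit false

namespace Cfsg.Agent.helper3

open scoped Pointwise

theorem mem_conj_smul_iff {G : Type*} [Group G] (g x : G) (H : Subgroup G) :
    x ∈ MulAut.conj g • H ↔ g⁻¹ * x * g ∈ H := by
  rw [Subgroup.mem_pointwise_smul_iff_inv_smul_mem, MulAut.smul_def, MulAut.conj_inv_apply]

theorem conj_mem_conj_smul {G : Type*} [Group G] (g x : G) (H : Subgroup G) (hx : x ∈ H) :
    g * x * g⁻¹ ∈ MulAut.conj g • H := by
  rw [mem_conj_smul_iff]
  have : g⁻¹ * (g * x * g⁻¹) * g = x := by group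
  rw [this]; exact hx

theorem conj_smul_eq_map {G : Type*} [Group G] (g : G) (H : Subgroup G) :
    MulAut.conj g • H = H.map (MulAut.conj g).toMonoidHom := by
  ext x
  rw [mem_conj_smul_iff, Subgroup.mem_map]
  constructor
  · intro h
    refine ⟨g⁻¹ * x * g, h, ?_⟩
    simp [MulAut.conj_apply]
    group
  · rintro ⟨y, hy, rfl⟩
    simp [MulAut.conj_apply]
    have : g⁻¹ * (g * y * g⁻¹) * g = y := by group
    rw [this]; exact hy

theorem conj_smul_eq_self_iff {G : Type*} [Group G] (g : G) (H : Subgroup G) :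
    MulAut.conj g • H = H ↔ g ∈ Subgroup.normalizer (H : Set G) := by
  rw [Subgroup.mem_normalizer_iff_map_conj_eq, conj_smul_eq_map]
  rfl

theorem card_conj_smul {G : Type*} [Group G] (g : G) (H : Subgroup G) :
    Nat.card (MulAut.conj g • H : Subgroup G) = Nat.card H :=
  (Nat.card_congr (Subgroup.equivSMul (MulAut.conj g) H).toEquiv).symm

/-- If `B ≤ K` is normal in `K` and `k ∈ K` then conjugation by `k` fixes `B`. -/
theorem conj_smul_eq_of_normal_subgroupOf {G : Type*} [Group G] {B K : Subgroup G} (hB : B ≤ K)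
    (hBn : (B.subgroupOf K).Normal) {k : G} (hk : k ∈ K) : MulAut.conj k • B = B := by
  have key : ∀ k ∈ K, MulAut.conj k • B ≤ B := by
    intro k hk x hx
    rw [mem_conj_smul_iff] at hx
    have h1 : (⟨k⁻¹ * x * k, hB hx⟩ : K) ∈ B.subgroupOf K := by
      rw [Subgroup.mem_subgroupOf]; exact hx
    have h2 := hBn.conj_mem _ h1 ⟨k, hk⟩
    rw [Subgroup.mem_subgroupOf] at h2
    have : ((⟨k, hk⟩ * ⟨k⁻¹ * x * k, hB hx⟩ * (⟨k, hk⟩ : K)⁻¹ : K) : G) = x := by
      simp only [Subgroup.coe_mul, Subgroup.coe_inv]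
      group
    rwa [this] at h2
  apply le_antisymm (key k hk)
  have h3 := key k⁻¹ (K.inv_mem hk)
  intro x hx
  rw [mem_conj_smul_iff]
  have h4 : k⁻¹ * x * k ∈ MulAut.conj k⁻¹ • B := by
    have := conj_mem_conj_smul k⁻¹ x B hx
    simpa using this
  exact h3 h4

end Cfsg.Agent.helper3
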