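import Mathlib
import Cfsg.Agent.Lib_helper22_FS
import Cfsg.Statements.S0167

set_option autoImplicit false
set_option linter.unusedSectionVars false
set_option linter.unusedVariables false
open Cfsg
open scoped ComplexConjugate

namespace Cfsg.Agent.S0167

open Cfsg.Agent.helper22

section Rep
variable {G : Type*} [Group G] [Fintype G] {n : ℕ} (ρ : Representation ℂ G (Fin n → ℂ))

local notation "X" => helper24.repMatrix ρ

theorem sum_char_inv_smul (hρ : ρ.IsIrreducible) :
    ∑ a : G, ρ.character a⁻¹ • X a =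
      ((Fintype.card G : ℂ) / n) • (1 : Matrix (Fin n) (Fin n) ℂ) := by
  ext i j
  rw [Matrix.sum_apply]
  simp only [Matrix.smul_apply, smul_eq_mul]
  have h1 : ∀ a : G, ρ.character a⁻¹ * X a i j = ∑ k, X a i j * X a⁻¹ k k := by
    intro a
    rw [← helper24.repMatrix_trace, Matrix.trace, Finset.sum_mul]
    refine Finset.sum_congr rfl (fun k _ => ?_)
    rw [Matrix.diag_apply, mul_comm]
  rw [Finset.sum_congr rfl (fun a _ => h1 a), Finset.sum_comm]
  simp only [sum_coeff ρ hρ]
  rw [Matrix.one_apply]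
  by_cases hij : i = j
  · subst hij
    simp
  · rw [if_neg hij, mul_zero]
    apply Finset.sum_eq_zero
    intro k _
    rw [if_neg]
    rintro ⟨rfl, rfl⟩
    exact hij rfl

theorem sum_commutator_mat (hρ : ρ.IsIrreducible) :
    ∑ a : G, ∑ b : G, X (a * b * a⁻¹ * b⁻¹) =
      (((Fintype.card G : ℂ) / n) ^ 2) • (1 : Matrix (Fin n) (Fin n) ℂ) := by
  have h1 : ∀ a : G, ∑ b : G, X (a * b * a⁻¹ * b⁻¹) =
      ((Fintype.card G : ℂ) / n) • (ρ.character a⁻¹ • X a) := by
    intro a
    have h3 := sum_conj_eq ρ hρ (X a⁻¹)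
    have h2 : ∀ b : G, X (a * b * a⁻¹ * b⁻¹) = X a * (X b * X a⁻¹ * X b⁻¹) := by
      intro b
      simp only [map_mul, Matrix.mul_assoc]
    rw [Finset.sum_congr rfl (fun b _ => h2 b), ← Finset.mul_sum, h3, helper24.repMatrix_trace,
      Matrix.mul_smul, Matrix.mul_one, smul_smul]
    congr 1
    ring
  rw [Finset.sum_congr rfl (fun a _ => h1 a), ← Finset.smul_sum, sum_char_inv_smul ρ hρ, smul_smul,
    pow_two]

theorem sum_char_mul_commutator (hρ : ρ.IsIrreducible) (h : G) :
    ∑ a : G, ∑ b : G, ρ.character (h * (a * b * a⁻¹ * b⁻¹)) =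
      ρ.character h * ((Fintype.card G : ℂ) / n) ^ 2 := by
  have h1 : ∀ a b : G, ρ.character (h * (a * b * a⁻¹ * b⁻¹)) =
      (X h * X (a * b * a⁻¹ * b⁻¹)).trace := by
    intro a b
    rw [← map_mul, helper24.repMatrix_trace]
  simp only [h1]
  simp only [← Matrix.trace_sum, ← Finset.mul_sum]
  rw [sum_commutator_mat ρ hρ, Matrix.mul_smul, Matrix.mul_one, Matrix.trace_smul,
    helper24.repMatrix_trace, smul_eq_mul, mul_comm]

end Rep

theorem count_eq {G : Type*} [Group G] [Fintype G] [Fintype (IrrCharacter G)] [DecidableEq G]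
    (g : G) :
    (∑ a : G, ∑ b : G, (if a * b * a⁻¹ * b⁻¹ = g then (1 : ℂ) else 0)) =
      (Fintype.card G : ℂ) * ∑ χ : IrrCharacter G, (χ : G → ℂ) g⁻¹ / (χ : G → ℂ) 1 := by
  classical
  have hGC : (Fintype.card G : ℂ) ≠ 0 := by
    have : 0 < Fintype.card G := Fintype.card_pos
    exact_mod_cast this.ne'
  have hdelta : ∀ x : G, (if x = g then (1 : ℂ) else 0) =
      (Fintype.card G : ℂ)⁻¹ * ∑ χ : IrrCharacter G, (χ : G → ℂ) (g⁻¹ * x) * (χ : G → ℂ) 1 := by
    intro x
    have h1 := helper24.irr_column_orthogonality (G := G) (g⁻¹ * x) 1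
    have h2 : ∀ χ : IrrCharacter G, conj ((χ : G → ℂ) 1) = (χ : G → ℂ) 1 := by
      intro χ
      rw [← helper24.char_charDegree_cast (helper24.irr_isCharacter χ.2), Complex.conj_natCast]
    simp only [h2] at h1
    rw [h1]
    by_cases hx : x = g
    · subst hx
      rw [if_pos rfl, inv_mul_cancel, if_pos (IsConj.refl 1)]
      have : Subgroup.centralizer ({1} : Set G) = ⊤ := by
        rw [eq_top_iff]
        intro y _
        rw [Subgroup.mem_centralizer_iff]
        intro h hh
        rw [Set.mem_singleton_iff] at hh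
        rw [hh, one_mul, mul_one]
      rw [this, Subgroup.card_top, Nat.card_eq_fintype_card, inv_mul_cancel₀ hGC]
    · rw [if_neg hx, if_neg, mul_zero]
      intro hc
      rw [isConj_one_left] at hc
      apply hx
      exact (inv_mul_eq_one.mp hc).symm
  have hper : ∀ χ : IrrCharacter G,
      ∑ a : G, ∑ b : G, (χ : G → ℂ) (g⁻¹ * (a * b * a⁻¹ * b⁻¹)) * (χ : G → ℂ) 1 =
        (Fintype.card G : ℂ) * ((Fintype.card G : ℂ) * ((χ : G → ℂ) g⁻¹ / (χ : G → ℂ) 1)) := by
    intro χ
    obtain ⟨n, ρ, hρ, hχ⟩ := χ.2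
    have hn : (n : ℂ) ≠ 0 := n_ne_zero ρ hρ
    have h1 : (χ : G → ℂ) 1 = n := by
      rw [← hχ, Representation.char_one, Module.finrank_fin_fun]
    simp only [← Finset.sum_mul]
    rw [← hχ] at h1 ⊢
    rw [sum_char_mul_commutator ρ hρ, h1]
    field_simp
  simp only [hdelta]
  simp only [← Finset.mul_sum]
  rw [Finset.sum_congr rfl (fun a _ => Finset.sum_comm), Finset.sum_comm,
    Finset.sum_congr rfl (fun χ _ => hper χ), ← Finset.mul_sum, ← Finset.mul_sum, ← mul_assoc,
    inv_mul_cancel₀ hGC, one_mul]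

theorem result {G : Type*} [Group G] [Finite G] (g : G) : (∃ a b : G, g = a * b * a⁻¹ * b⁻¹) ↔ ∑ᶠ χ : Cfsg.IrrCharacter G, (χ : G → ℂ) g / (χ : G → ℂ) 1 ≠ 0 := by
  classical
  haveI : Fintype G := Fintype.ofFinite G
  haveI : Fintype (IrrCharacter G) := Fintype.ofFinite _
  rw [finsum_eq_sum_of_fintype]
  have hGC : (Fintype.card G : ℂ) ≠ 0 := by
    have : 0 < Fintype.card G := Fintype.card_pos
    exact_mod_cast this.ne'
  have hkey := count_eq g
  -- the count as a cardinality
  have hcard : (∑ a : G, ∑ b : G, (if a * b * a⁻¹ * b⁻¹ = g then (1 : ℂ) else 0)) =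
      ((Finset.univ.filter (fun p : G × G => p.1 * p.2 * p.1⁻¹ * p.2⁻¹ = g)).card : ℂ) := by
    rw [← Finset.sum_product', Finset.univ_product_univ, Finset.sum_boole]
  -- conjugate sum
  have hconj : conj (∑ χ : IrrCharacter G, (χ : G → ℂ) g / (χ : G → ℂ) 1) =
      ∑ χ : IrrCharacter G, (χ : G → ℂ) g⁻¹ / (χ : G → ℂ) 1 := by
    rw [map_sum]
    refine Finset.sum_congr rfl (fun χ _ => ?_)
    rw [map_div₀, helper24.char_inv (helper24.irr_isCharacter χ.2)]
    congr 1
    rw [← helper24.char_charDegree_cast (helper24.irr_isCharacter χ.2), Complex.conj_natCast]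
  constructor
  · rintro ⟨a, b, hab⟩
    intro h0
    have h1 : ∑ χ : IrrCharacter G, (χ : G → ℂ) g⁻¹ / (χ : G → ℂ) 1 = 0 := by
      rw [← hconj, h0, map_zero]
    rw [h1, mul_zero, hcard] at hkey
    have h2 : (Finset.univ.filter (fun p : G × G => p.1 * p.2 * p.1⁻¹ * p.2⁻¹ = g)).card = 0 := by
      exact_mod_cast hkey
    rw [Finset.card_eq_zero] at h2
    have h3 : (a, b) ∈ Finset.univ.filter (fun p : G × G => p.1 * p.2 * p.1⁻¹ * p.2⁻¹ = g) := by
      rw [Finset.mem_filter]
      exact ⟨Finset.mem_univ _, hab.symm⟩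
    rw [h2] at h3
    exact absurd h3 (Finset.notMem_empty _)
  · intro hne
    by_contra hcon
    push Not at hcon
    apply hne
    have h2 : Finset.univ.filter (fun p : G × G => p.1 * p.2 * p.1⁻¹ * p.2⁻¹ = g) = ∅ := by
      rw [Finset.filter_eq_empty_iff]
      intro p _ hp
      exact hcon p.1 p.2 hp.symm
    rw [hcard, h2, Finset.card_empty, Nat.cast_zero] at hkey
    have h3 : ∑ χ : IrrCharacter G, (χ : G → ℂ) g⁻¹ / (χ : G → ℂ) 1 = 0 := by
      rcases mul_eq_zero.mp hkey.symm with h | h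
      · exact absurd h hGC
      · exact h
    rw [← hconj] at h3
    have := congrArg conj h3
    rw [Complex.conj_conj, map_zero] at this
    exact this

end Cfsg.Agent.S0167
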