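import Mathlib
import Cfsg.Agent.Lib_helper22_FS
import Cfsg.Agent.Lib_helper24_CharIntegral
import Cfsg.Agent.S0167

set_option autoImplicit false
set_option linter.unusedSectionVars false
set_option linter.unusedVariables false

/-!
`degree_dvd_index_of_scalar` (helper22): the degree of an irreducible representation divides the
index of any subgroup whose elements act by scalars (generalises `χ(1) ∣ [G : Z(G)]`).
-/

namespace Cfsg.Agent.helper22

open Cfsg
open scoped ComplexConjugate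

section Rep
variable {G : Type*} [Group G] [Fintype G] {n : ℕ} (ρ : Representation ℂ G (Fin n → ℂ))

local notation "X" => helper24.repMatrix ρ

/-- the degree of an irreducible coordinate representation divides the index of any subgroup acting
by scalars -/
theorem degree_dvd_index_of_scalar (hρ : ρ.IsIrreducible) (Z : Subgroup G)
    (hscal : ∀ z ∈ Z, ∃ c : ℂ, X z = c • (1 : Matrix (Fin n) (Fin n) ℂ)) : n ∣ Z.index := by
  classical
  obtain ⟨m, hm⟩ : ∃ m : ℕ, m = Fintype.card G := ⟨_, rfl⟩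
  have hm0 : m ≠ 0 := by rw [hm]; exact Fintype.card_ne_zero
  haveI : NeZero m := ⟨hm0⟩
  have hn : 0 < n := helper23.pos_of_irreducible ρ hρ
  obtain ⟨ζ, hζ⟩ : ∃ ζ : ℂ, ζ = Complex.exp (2 * Real.pi * Complex.I / m) := ⟨_, rfl⟩
  have hprim : IsPrimitiveRoot ζ m := by rw [hζ]; exact Complex.isPrimitiveRoot_exp m hm0
  have hζm : ζ ^ m = 1 := hprim.pow_eq_one
  -- the ℤ-span of the matrices ζ^i X(g)
  obtain ⟨gens, hgens⟩ : ∃ gens : Set (Matrix (Fin n) (Fin n) ℂ),
      gens = Set.range (fun p : Fin m × G => ζ ^ (p.1 : ℕ) • X p.2) := ⟨_, rfl⟩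
  have hgens_fin : gens.Finite := by rw [hgens]; exact Set.finite_range _
  obtain ⟨S', hS'⟩ : ∃ S' : Submodule ℤ (Matrix (Fin n) (Fin n) ℂ),
      S' = Submodule.span ℤ gens := ⟨_, rfl⟩
  have hgen_mem : ∀ (i : ℕ) (g : G), ζ ^ i • X g ∈ gens := by
    intro i g
    rw [hgens]
    refine ⟨(⟨i % m, Nat.mod_lt _ (Nat.pos_of_ne_zero hm0)⟩, g), ?_⟩
    simp only
    rw [← pow_eq_pow_mod i hζm]
  have hmem_gen : ∀ (i : ℕ) (g : G), ζ ^ i • X g ∈ S' := by
    intro i g
    rw [hS']
    exact Submodule.subset_span (hgen_mem i g)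
  have hone : (1 : Matrix (Fin n) (Fin n) ℂ) ∈ S' := by
    have := hmem_gen 0 1
    rwa [pow_zero, one_smul, map_one] at this
  have hmul : ∀ x y, x ∈ S' → y ∈ S' → x * y ∈ S' := by
    intro x y hx hy
    have h1 : x * y ∈ S' * S' := Submodule.mul_mem_mul hx hy
    rw [hS', Submodule.span_mul_span] at h1
    rw [hS']
    refine Submodule.span_mono ?_ h1
    intro c hc
    rw [Set.mem_mul] at hc
    obtain ⟨a, ha, b, hb, rfl⟩ := hc
    rw [hgens] at ha hb
    obtain ⟨⟨i, g⟩, rfl⟩ := ha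
    obtain ⟨⟨j, h⟩, rfl⟩ := hb
    simp only
    rw [smul_mul_smul_comm, ← pow_add, ← map_mul]
    exact hgen_mem _ _
  have hchar_mem : ∀ g h : G, ρ.character g • X h ∈ S' := by
    intro g h
    obtain ⟨s, -, hs, hsum⟩ := helper24.rep_char_eq_sum_roots ρ g
    rw [hsum, Multiset.sum_smul]
    apply multiset_sum_mem
    intro a ha
    obtain ⟨μ, hμ, rfl⟩ := Multiset.mem_map.mp ha
    have hμm : μ ^ m = 1 := by
      obtain ⟨k, hk⟩ : orderOf g ∣ m := by rw [hm]; exact orderOf_dvd_card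
      rw [hk, pow_mul, hs μ hμ, one_pow]
    obtain ⟨i, _, hi⟩ := hprim.eq_pow_of_pow_eq_one hμm
    rw [← hi]
    exact hmem_gen i h
  obtain ⟨f, hf⟩ : ∃ f : G → Matrix (Fin n) (Fin n) ℂ, f = fun g => ρ.character g⁻¹ • X g :=
    ⟨_, rfl⟩
  have hfinv : ∀ g z, z ∈ Z → f (g * z) = f g := by
    intro g z hz
    obtain ⟨c, hc⟩ := hscal z hz
    obtain ⟨c', hc'⟩ := hscal z⁻¹ (Z.inv_mem hz)
    have hcc : c' * c = 1 := by
      have h1 := X_inv_mul ρ z
      rw [hc, hc', smul_mul_smul_comm, Matrix.one_mul] at h1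
      have h2 := congrFun (congrFun h1 ⟨0, hn⟩) ⟨0, hn⟩
      simpa using h2
    rw [hf]
    simp only
    rw [_root_.mul_inv_rev, ← helper24.repMatrix_trace, map_mul, map_mul, hc, hc',
      Matrix.smul_mul, Matrix.one_mul, Matrix.trace_smul, Matrix.mul_smul, Matrix.mul_one,
      smul_smul, helper24.repMatrix_trace, smul_eq_mul]
    congr 1
    rw [mul_comm c', mul_assoc, hcc, mul_one]
  have hsum : ∑ g : G, f g = ((m : ℂ) / n) • (1 : Matrix (Fin n) (Fin n) ℂ) := by
    rw [hf, hm]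
    exact Cfsg.Agent.S0167.sum_char_inv_smul ρ hρ
  haveI : Fintype (G ⧸ Z) := Fintype.ofFinite _
  have hfiber : ∀ q : G ⧸ Z, ∑ g ∈ Finset.univ.filter (fun g : G => (g : G ⧸ Z) = q), f g =
      (Nat.card Z : ℂ) • f q.out := by
    intro q
    have hconst : ∀ g ∈ Finset.univ.filter (fun g : G => (g : G ⧸ Z) = q), f g = f q.out := by
      intro g hg
      rw [Finset.mem_filter] at hg
      have h1 : (q.out : G ⧸ Z) = (g : G ⧸ Z) := by rw [hg.2]; exact QuotientGroup.out_eq' q
      rw [QuotientGroup.eq] at h1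
      have := hfinv q.out _ h1
      rw [mul_inv_cancel_left] at this
      exact this
    rw [Finset.sum_congr rfl hconst, Finset.sum_const]
    have hcard : (Finset.univ.filter (fun g : G => (g : G ⧸ Z) = q)).card = Nat.card Z := by
      rw [Nat.card_eq_fintype_card, ← Finset.card_univ (α := Z)]
      symm
      refine Finset.card_bij (fun z _ => q.out * (z : G)) ?_ ?_ ?_
      · intro z _
        rw [Finset.mem_filter]
        refine ⟨Finset.mem_univ _, ?_⟩
        rw [QuotientGroup.mk_mul_of_mem _ z.2, QuotientGroup.out_eq']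
      · intro a _ b _ hab
        exact Subtype.ext (mul_left_cancel hab)
      · intro g hg
        rw [Finset.mem_filter] at hg
        have h1 : (q.out : G ⧸ Z) = (g : G ⧸ Z) := by rw [hg.2]; exact QuotientGroup.out_eq' q
        rw [QuotientGroup.eq] at h1
        exact ⟨⟨_, h1⟩, Finset.mem_univ _, mul_inv_cancel_left _ _⟩
    rw [hcard, ← Nat.cast_smul_eq_nsmul ℂ]
  obtain ⟨E, hE⟩ : ∃ E : Matrix (Fin n) (Fin n) ℂ, E = ∑ q : G ⧸ Z, f q.out := ⟨_, rfl⟩
  have hEsum : (Nat.card Z : ℂ) • E = ((m : ℂ) / n) • (1 : Matrix (Fin n) (Fin n) ℂ) := by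
    rw [← hsum, ← Finset.sum_fiberwise Finset.univ (fun g : G => (g : G ⧸ Z)) f, hE,
      Finset.smul_sum]
    exact Finset.sum_congr rfl (fun q _ => (hfiber q).symm)
  have hZpos : (Nat.card Z : ℂ) ≠ 0 := by
    have : 0 < Nat.card Z := Nat.card_pos
    exact_mod_cast this.ne'
  have hnC : (n : ℂ) ≠ 0 := by exact_mod_cast hn.ne'
  have hidx : (m : ℂ) = (Nat.card Z : ℂ) * (Z.index : ℂ) := by
    have := Z.card_mul_index
    rw [Nat.card_eq_fintype_card (α := G), ← hm] at this
    rw [← this]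
    push_cast
    ring
  have hEval : E = ((Z.index : ℂ) / n) • (1 : Matrix (Fin n) (Fin n) ℂ) := by
    have h1 : E = (Nat.card Z : ℂ)⁻¹ • ((Nat.card Z : ℂ) • E) := by
      rw [smul_smul, inv_mul_cancel₀ hZpos, one_smul]
    rw [h1, hEsum, smul_smul, hidx]
    congr 1
    field_simp
  have hEmem : E ∈ S' := by
    rw [hE]
    apply Submodule.sum_mem
    intro q _
    rw [hf]
    exact hchar_mem _ _
  have hint : IsIntegral ℤ E :=
    IsIntegral.of_mem_of_fg (Submodule.toSubalgebra S' hone hmul)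
      (by
        show S'.FG
        rw [hS']
        exact Submodule.fg_span hgens_fin) E hEmem
  haveI : Nonempty (Fin n) := ⟨⟨0, hn⟩⟩
  have hE2 : E = algebraMap ℂ (Matrix (Fin n) (Fin n) ℂ) ((Z.index : ℂ) / n) := by
    rw [hEval, Algebra.algebraMap_eq_smul_one]
  rw [hE2, isIntegral_algebraMap_iff (algebraMap ℂ (Matrix (Fin n) (Fin n) ℂ)).injective] at hint
  exact helper24.dvd_of_isIntegral_div hn.ne' hint

end Rep

end Cfsg.Agent.helper22
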