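import Cfsg.Statements.S0187
import Mathlib
import Cfsg.Agent.Lib_helper24_Char

set_option autoImplicit false
set_option linter.style.haveILetI false
set_option linter.unusedVariables false
open Cfsg

namespace Cfsg.Agent.S0187

/-- A finite group is commutative if and only if every irreducible complex character has degree 1. -/
theorem result {G : Type*} [Group G] [Finite G] : (∀ a b : G, a * b = b * a) ↔ ∀ χ : Cfsg.IrrCharacter G, (χ : G → ℂ) 1 = 1 := by
  classical
  constructor
  · intro hcomm χ
    obtain ⟨f, n, ρ, hirr, rfl⟩ := χ
    haveI : IsMulCommutative G := ⟨⟨fun a b => hcomm a b⟩⟩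
    have h1 : Module.finrank ℂ (Fin n → ℂ) = 1 :=
      Representation.IsIrreducible.finrank_eq_one_of_isMulCommutative ρ
    have hn : n = 1 := by simpa using h1
    subst hn
    simp
  · intro hdeg
    haveI := Fintype.ofFinite G
    haveI := Fintype.ofFinite (IrrCharacter G)
    haveI := Fintype.ofFinite (ConjClasses G)
    have hsum := Cfsg.Agent.helper24.sum_irr_degree_sq (G := G)
    have hone : ∀ χ : IrrCharacter G, charDegree (χ : G → ℂ) = 1 := by
      intro χ
      exact Cfsg.Agent.helper24.charDegree_natCast _ 1 (by simpa using hdeg χ)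
    have hcard : Nat.card (IrrCharacter G) = Nat.card G := by
      rw [← hsum]
      simp [hone, Nat.card_eq_fintype_card]
    have hcc : Nat.card (ConjClasses G) = Nat.card G := by
      rw [← Cfsg.Agent.helper24.card_irr_eq_card_conjClasses, hcard]
    have hinj : Function.Injective (ConjClasses.mk : G → ConjClasses G) := by
      have hsurj : Function.Surjective (ConjClasses.mk : G → ConjClasses G) :=
        ConjClasses.mk_surjective
      rw [Nat.card_eq_fintype_card, Nat.card_eq_fintype_card] at hcc
      exact ((Fintype.bijective_iff_surjective_and_card _).mpr ⟨hsurj, hcc.symm⟩).1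
    intro a b
    have : ConjClasses.mk (a * b) = ConjClasses.mk (b * a) := by
      rw [ConjClasses.mk_eq_mk_iff_isConj]
      exact ⟨⟨b, b⁻¹, by simp, by simp⟩, by simp [SemiconjBy, mul_assoc]⟩
    exact hinj this

end Cfsg.Agent.S0187
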