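import Mathlib
import Cfsg.Agent.Lib_helper22_Clifford
import Cfsg.Agent.Lib_helper22_DegreeIndex
import Cfsg.Agent.Lib_helper22_LinChar
import Cfsg.Agent.Lib_helper23_LinChar
import Cfsg.Agent.Lib_helper24_CharKer
import Cfsg.Agent.Lib_helper1_RepBridge
import Cfsg.Agent.S0187
import Cfsg.Statements.S0169

set_option autoImplicit false
set_option linter.unusedSectionVars false
set_option linter.unusedVariables false
open Cfsg
open scoped ComplexConjugate

namespace Cfsg.Agent.S0169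

open Cfsg.Agent.helper22

universe u

/-- Itô's theorem, coordinate form -/
theorem ito_coord {G : Type u} [Group G] [Fintype G] {n : ℕ} (ρ : Representation ℂ G (Fin n → ℂ))
    (hρ : ρ.IsIrreducible) (A : Subgroup G) [hAn : A.Normal]
    (hA : ∀ a ∈ A, ∀ b ∈ A, a * b = b * a) : n ∣ A.index := by
  classical
  haveI : Fintype A := Fintype.ofFinite _
  haveI : Fintype (IrrCharacter A) := Fintype.ofFinite _
  have hn : 0 < n := helper23.pos_of_irreducible ρ hρ
  have hχ : IsIrrCharacter G ρ.character := ⟨n, ρ, hρ, rfl⟩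
  have hdegχ : charDegree ρ.character = n := by
    apply helper24.charDegree_natCast
    rw [Representation.char_one, Module.finrank_fin_fun]
  -- a constituent of the restriction
  obtain ⟨θ, hθ⟩ : ∃ θ : IrrCharacter A,
      classInner (helper5.res A ρ.character) (θ : A → ℂ) ≠ 0 := by
    by_contra hcon
    push Not at hcon
    obtain ⟨c, hexp, hc, -⟩ :=
      helper12.char_decomp (helper5.isCharacter_res A (helper24.irr_isCharacter hχ))
    have h0 : helper5.res A ρ.character = 0 := by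
      rw [hexp]
      apply Finset.sum_eq_zero
      intro μ _
      have := hc μ
      rw [hcon μ] at this
      rw [← this, zero_smul]
    have h1 := congrFun h0 1
    rw [helper5.res_apply, show ((1 : A) : G) = 1 from rfl, Representation.char_one,
      Module.finrank_fin_fun] at h1
    have : (n : ℂ) = 0 := h1
    have : n = 0 := by exact_mod_cast this
    omega
  -- θ is linear
  have hθ1 : (θ : A → ℂ) 1 = 1 :=
    (Cfsg.Agent.S0187.result (G := A)).mp (fun a b => Subtype.ext (hA a a.2 b b.2)) θ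
  obtain ⟨φ, hφ⟩ := helper23.exists_hom_of_linear (helper24.irr_isCharacter θ.2) hθ1
  -- Clifford correspondence
  obtain ⟨T, hT⟩ : ∃ T : Subgroup G, T = inertia A θ := ⟨_, rfl⟩
  haveI : Fintype T := Fintype.ofFinite _
  have hAT : A ≤ T := by rw [hT]; exact le_inertia A θ
  obtain ⟨ψ, hψ, -, ⟨k, hk0, hψA⟩, hdeg⟩ := clifford_degree A hχ θ hθ T hT
  obtain ⟨m, ρψ, hρψ, rfl⟩ := hψ
  have hdegψ : charDegree ρψ.character = m := by
    apply helper24.charDegree_natCast
    rw [Representation.char_one, Module.finrank_fin_fun]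
  rw [hdegχ, hdegψ] at hdeg
  -- k = m
  have hkm : (k : ℂ) = m := by
    have h1 := hψA 1
    change ρψ.character (1 : T) = (k : ℂ) * (θ : A → ℂ) (1 : A) at h1
    rw [Representation.char_one, Module.finrank_fin_fun, hθ1, mul_one] at h1
    exact h1.symm
  -- `A` acts by scalars
  have hscal : ∀ z ∈ A.subgroupOf T, ∃ c : ℂ,
      helper24.repMatrix ρψ z = c • (1 : Matrix (Fin m) (Fin m) ℂ) := by
    intro z hz
    let ε : A.subgroupOf T →* A := (Subgroup.subgroupOfEquivOfLe hAT).toMonoidHom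
    let φ' : A.subgroupOf T →* ℂˣ := φ.comp ε
    let σ : Representation ℂ (A.subgroupOf T) (Fin m → ℂ) :=
      twistRep φ'⁻¹ (ρψ.comp (A.subgroupOf T).subtype)
    have hσ : σ.character ⟨z, hz⟩ = m := by
      rw [twistRep_character]
      have h1 : Representation.character (ρψ.comp (A.subgroupOf T).subtype) ⟨z, hz⟩ =
          ρψ.character z := rfl
      rw [h1, hψA ⟨z, hz⟩, hkm, hφ]
      have h2 : ((φ'⁻¹ ⟨z, hz⟩ : ℂˣ) : ℂ) * ((m : ℂ) * ((φ ⟨(z : G), hz⟩ : ℂˣ) : ℂ)) =
          (m : ℂ) * (((φ'⁻¹ ⟨z, hz⟩ * φ ⟨(z : G), hz⟩ : ℂˣ)) : ℂ) := by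
        rw [Units.val_mul]; ring
      rw [h2]
      have h3 : φ'⁻¹ ⟨z, hz⟩ * φ ⟨(z : G), hz⟩ = 1 := by
        rw [MonoidHom.inv_apply]
        exact inv_mul_cancel _
      rw [h3, Units.val_one, mul_one]
    have hσ1 : σ ⟨z, hz⟩ = 1 := (helper24.rep_char_eq_degree_iff σ ⟨z, hz⟩).mp hσ
    have hσ2 : σ ⟨z, hz⟩ = ((φ'⁻¹ ⟨z, hz⟩ : ℂˣ) : ℂ) • ρψ z := twistRep_apply _ _ _
    refine ⟨((φ' ⟨z, hz⟩ : ℂˣ) : ℂ), ?_⟩
    have h4 : ρψ z = ((φ' ⟨z, hz⟩ : ℂˣ) : ℂ) • (1 : (Fin m → ℂ) →ₗ[ℂ] (Fin m → ℂ)) := by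
      have h5 : ((φ' ⟨z, hz⟩ : ℂˣ) : ℂ) • (((φ'⁻¹ ⟨z, hz⟩ : ℂˣ) : ℂ) • ρψ z) = ρψ z := by
        rw [smul_smul, ← Units.val_mul, MonoidHom.inv_apply, mul_inv_cancel, Units.val_one,
          one_smul]
      rw [← h5, ← hσ2, hσ1]
    show LinearMap.toMatrix' (ρψ z) = _
    rw [h4, map_smul]
    congr 1
    exact LinearMap.toMatrix'_one
  have hdvd : m ∣ (A.subgroupOf T).index :=
    degree_dvd_index_of_scalar ρψ hρψ (A.subgroupOf T) hscal
  rw [hdeg, ← Subgroup.relIndex_mul_index hAT, mul_comm]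
  exact Nat.mul_dvd_mul hdvd (dvd_refl _)

theorem result {G : Type*} [Group G] [Finite G] {V : Type*} [AddCommGroup V] [Module ℂ V] [FiniteDimensional ℂ V] (ρ : Representation ℂ G V) [ρ.IsIrreducible] (H : Subgroup G) [H.Normal] (hH : ∀ a ∈ H, ∀ b ∈ H, a * b = b * a) : Module.finrank ℂ V ∣ H.index := by
  classical
  haveI : Fintype G := Fintype.ofFinite G
  exact ito_coord (helper1.finRep ρ) (helper1.finRep_isIrreducible ρ inferInstance) H hH

end Cfsg.Agent.S0169
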