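import Cfsg.Agent.Lib_helper22_Clifford
import Cfsg.Agent.Lib_helper23_PSolv3
import Cfsg.Agent.Lib_helper3_Basic
import Cfsg.Agent.S0187
import Cfsg.Agent.S0169

set_option autoImplicit false

namespace Cfsg.Agent.helper24

open Cfsg Cfsg.Agent.helper12 Cfsg.Agent.helper22
open scoped ComplexConjugate

universe u

/-- a finite group is not the union of the conjugates of a proper subgroup -/
theorem union_conj_eq_top {X : Type*} [Group X] [Finite X] (H : Subgroup X)
    (h : ∀ x : X, ∃ y : X, y * x * y⁻¹ ∈ H) : H = ⊤ := by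
  classical
  have := Fintype.ofFinite X
  have hB := MulAction.sum_card_fixedBy_eq_card_orbits_mul_card_group X (X ⧸ H)
  have hone : Fintype.card (Quotient (MulAction.orbitRel X (X ⧸ H))) = 1 := by
    have hsub : Subsingleton (MulAction.orbitRel.Quotient X (X ⧸ H)) :=
      (MulAction.pretransitive_iff_subsingleton_quotient X (X ⧸ H)).1 inferInstance
    have hsub' : Subsingleton (Quotient (MulAction.orbitRel X (X ⧸ H))) := hsub
    have hle : Fintype.card (Quotient (MulAction.orbitRel X (X ⧸ H))) ≤ 1 :=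
      Fintype.card_le_one_iff_subsingleton.2 hsub'
    have hpos : 0 < Fintype.card (Quotient (MulAction.orbitRel X (X ⧸ H))) :=
      Fintype.card_pos_iff.2 ⟨Quotient.mk _ ((1 : X) : X ⧸ H)⟩
    omega
  rw [hone, one_mul] at hB
  have hfix : ∀ x : X, 1 ≤ Fintype.card (MulAction.fixedBy (X ⧸ H) x) := by
    intro x
    obtain ⟨y, hy⟩ := h x
    apply Fintype.card_pos_iff.2
    refine ⟨⟨((y⁻¹ : X) : X ⧸ H), ?_⟩⟩
    rw [MulAction.mem_fixedBy]
    show ((x * y⁻¹ : X) : X ⧸ H) = ((y⁻¹ : X) : X ⧸ H)
    rw [QuotientGroup.eq]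
    have : (x * y⁻¹)⁻¹ * y⁻¹ = (y * x * y⁻¹)⁻¹ := by group
    rw [this]
    exact H.inv_mem hy
  have hfix1 : Fintype.card (MulAction.fixedBy (X ⧸ H) (1 : X)) = H.index := by
    rw [Subgroup.index, Nat.card_eq_fintype_card]
    apply Fintype.card_congr
    exact (Equiv.subtypeUnivEquiv (fun q => by rw [MulAction.mem_fixedBy, one_smul]))
  have hsplit := Finset.add_sum_erase Finset.univ
    (fun x : X => Fintype.card (MulAction.fixedBy (X ⧸ H) x)) (Finset.mem_univ (1 : X))
  have hrest : (Finset.univ.erase (1 : X)).card ≤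
      ∑ x ∈ Finset.univ.erase (1 : X), Fintype.card (MulAction.fixedBy (X ⧸ H) x) := by
    calc (Finset.univ.erase (1 : X)).card = ∑ x ∈ Finset.univ.erase (1 : X), 1 := by simp
      _ ≤ _ := Finset.sum_le_sum (fun x _ => hfix x)
  have hcard : (Finset.univ.erase (1 : X)).card = Fintype.card X - 1 := by
    rw [Finset.card_erase_of_mem (Finset.mem_univ _), Finset.card_univ]
  have hpos : 0 < Fintype.card X := Fintype.card_pos
  have hidx : H.index ≤ 1 := by
    have e1 : Fintype.card (MulAction.fixedBy (X ⧸ H) (1 : X)) +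
        ∑ x ∈ Finset.univ.erase (1 : X), Fintype.card (MulAction.fixedBy (X ⧸ H) x) =
        Fintype.card X := hsplit.trans hB
    rw [hfix1] at e1
    omega
  have hidx0 : H.index ≠ 0 := Subgroup.index_ne_zero_of_finite
  exact Subgroup.index_eq_one.1 (by omega)

section Cliff
variable {G : Type u} [Group G] [Fintype G] (N : Subgroup G) [hN : N.Normal] [Fintype N]

/-- Clifford: the index of the inertia group times the degree of `θ` divides the degree of `χ`. -/
theorem inertia_index_mul_degree_dvd {χ : G → ℂ} (hχ : IsIrrCharacter G χ) (θ : IrrCharacter N)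
    (h1 : classInner (fun n : N => χ n) (θ : N → ℂ) ≠ 0) :
    (inertia N θ).index * charDegree (θ : N → ℂ) ∣ charDegree χ := by
  classical
  have := Fintype.ofFinite (inertia N θ)
  obtain ⟨ψ, hψ, -, ⟨k, hk0, hk⟩, hdeg⟩ := clifford_degree N hχ θ h1 (inertia N θ) rfl
  have hψ1 : ψ 1 = (k : ℂ) * (θ : N → ℂ) 1 := by
    have h2 := hk 1
    have h3 : (⟨(((1 : N.subgroupOf (inertia N θ)) : inertia N θ) : G),
        (1 : N.subgroupOf (inertia N θ)).2⟩ : N) = 1 := Subtype.ext rfl
    rw [h3] at h2
    exact h2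
  have hdψ : charDegree ψ = k * charDegree (θ : N → ℂ) := by
    apply charDegree_natCast
    rw [hψ1, ← char_charDegree_cast (irr_isCharacter θ.2)]
    push_cast; ring
  rw [hdeg, hdψ]
  exact ⟨k, by ring⟩

/-- irreducible characters of a normal subgroup have degrees dividing degrees of `G` -/
theorem exists_irr_degree_dvd (θ : IrrCharacter N) :
    ∃ χ : IrrCharacter G, charDegree (θ : N → ℂ) ∣ charDegree (χ : G → ℂ) := by
  obtain ⟨X, hX, hc⟩ := exists_irr_over N θ.2
  refine ⟨⟨X, hX⟩, ?_⟩
  exact (Dvd.intro_left _ rfl).trans (inertia_index_mul_degree_dvd N hX θ hc)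

/-- if every irreducible character of `N` is invariant, conjugation by `G` preserves the
conjugacy classes of `N` -/
theorem isConj_of_invariant
    (hinv : ∀ (θ : IrrCharacter N) (g : G), helper8.conjFunN N g (θ : N → ℂ) = θ)
    (g : G) (n : N) : IsConj n (⟨g * n * g⁻¹, hN.conj_mem n n.2 g⟩ : N) := by
  classical
  have := Fintype.ofFinite (IrrCharacter N)
  set f : N → ℂ := fun m => if IsConj n m then 1 else 0 with hf
  have hfc : IsClassFunction N f := by
    intro m y
    show (if IsConj n (y * m * y⁻¹) then (1 : ℂ) else 0) = if IsConj n m then 1 else 0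
    have : IsConj n (y * m * y⁻¹) ↔ IsConj n m := by
      constructor
      · intro h
        exact h.trans (isConj_iff.2 ⟨y⁻¹, by group⟩)
      · intro h
        exact h.trans (isConj_iff.2 ⟨y, rfl⟩)
    simp only [this]
  have hexp := classFunction_expansion hfc
  have h1 : f ⟨g * n * g⁻¹, hN.conj_mem n n.2 g⟩ = f n := by
    rw [hexp]
    simp only [Finset.sum_apply, Pi.smul_apply]
    refine Finset.sum_congr rfl (fun θ _ => ?_)
    congr 1
    have := congrFun (hinv θ g) n
    rw [helper8.conjFunN_apply] at this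
    exact this
  have h2 : f n = 1 := by
    show (if IsConj n n then (1 : ℂ) else 0) = 1
    rw [if_pos (IsConj.refl n)]
  rw [h2] at h1
  by_contra hcon
  have h3 : f ⟨g * n * g⁻¹, hN.conj_mem n n.2 g⟩ = 0 := by
    show (if IsConj n _ then (1 : ℂ) else 0) = 0
    rw [if_neg hcon]
  rw [h3] at h1
  exact zero_ne_one h1

end Cliff

section FixedPoints

/-- a `p`-group `P` acting by conjugation on the classes of a normal `p'`-subgroup `N`, all of
which it stabilizes, centralizes a conjugate of every element of `N` -/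
theorem exists_conj_centralized {M : Type u} [Group M] [Finite M] {p : ℕ} [Fact p.Prime]
    (N : Subgroup M) [hN : N.Normal] (hcop : (Nat.card N).Coprime p) (P : Subgroup M)
    (hP : IsPGroup p P)
    (hconj : ∀ (g : M) (n : N), IsConj n (⟨g * n * g⁻¹, hN.conj_mem n n.2 g⟩ : N)) (n : N) :
    ∃ m : N, ∀ x ∈ P, x * ((m * n * m⁻¹ : N) : M) = ((m * n * m⁻¹ : N) : M) * x := by
  classical
  have hpp : p.Prime := Fact.out
  let K := {m' : N // IsConj n m'}
  let act : MulAction P K :=
    { smul := fun x k => ⟨⟨(x : M) * (k.1 : M) * (x : M)⁻¹, hN.conj_mem k.1 k.1.2 x⟩,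
        k.2.trans (hconj x k.1)⟩
      one_smul := fun k => Subtype.ext (Subtype.ext (by
        show ((1 : P) : M) * (k.1 : M) * ((1 : P) : M)⁻¹ = (k.1 : M)
        simp))
      mul_smul := fun x y k => Subtype.ext (Subtype.ext (by
        show ((x * y : P) : M) * (k.1 : M) * ((x * y : P) : M)⁻¹ =
          (x : M) * ((y : M) * (k.1 : M) * (y : M)⁻¹) * (x : M)⁻¹
        rw [Subgroup.coe_mul]
        group)) }
  have hKcard : Nat.card K ∣ Nat.card N := by
    have hset : {m' : N | IsConj n m'} = MulAction.orbit (ConjAct N) n := by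
      ext m'
      rw [ConjAct.mem_orbit_conjAct]
      exact ⟨fun h => h.symm, fun h => h.symm⟩
    have h1 : Nat.card K = (MulAction.orbit (ConjAct N) n).ncard := by
      rw [← hset]
      exact Nat.card_coe_set_eq _
    rw [h1, ← MulAction.index_stabilizer]
    have h2 := Subgroup.index_dvd_card (MulAction.stabilizer (ConjAct N) n)
    have h3 : Nat.card (ConjAct N) = Nat.card N := Nat.card_congr ConjAct.ofConjAct.toEquiv
    rw [h3] at h2
    exact h2
  have hnd : ¬ p ∣ Nat.card K := by
    intro h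
    have h2 : p ∣ Nat.card N := h.trans hKcard
    have h3 := Nat.Coprime.eq_one_of_dvd hcop.symm h2
    exact hpp.one_lt.ne' h3
  obtain ⟨k₀, hk₀⟩ := hP.nonempty_fixed_point_of_prime_not_dvd_card K hnd
  obtain ⟨m, hm⟩ := isConj_iff.1 k₀.2
  refine ⟨m, fun x hx => ?_⟩
  have h1 := hk₀ ⟨x, hx⟩
  have h2 : (⟨x, hx⟩ : P) • k₀ = k₀ := h1
  have h3 : x * (k₀.1 : M) * x⁻¹ = (k₀.1 : M) := by
    have := congrArg (fun k : K => ((k.1 : N) : M)) h2
    exact this
  rw [hm]
  calc x * (k₀.1 : M) = x * (k₀.1 : M) * x⁻¹ * x := by group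
    _ = (k₀.1 : M) * x := by rw [h3]

/-- **Key step**: if `N` is a normal `p'`-subgroup of `p`-power index in `M` and all
irreducible characters of `M` have degree prime to `p`, the Sylow `p`-subgroups of `M` are
normal. -/
theorem sylow_normal_of_pprime_normal {M : Type u} [Group M] [Finite M] {p : ℕ} [Fact p.Prime]
    (N : Subgroup M) [hN : N.Normal] (hcop : (Nat.card N).Coprime p)
    (hidx : ∃ a : ℕ, N.index = p ^ a)
    (hdeg : ∀ ψ : IrrCharacter M, ¬ p ∣ charDegree (ψ : M → ℂ)) (P : Sylow p M) :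
    (P : Subgroup M).Normal := by
  classical
  have hpp : p.Prime := Fact.out
  have := Fintype.ofFinite M
  have := Fintype.ofFinite N
  obtain ⟨a, ha⟩ := hidx
  -- every irreducible character of N is invariant
  have hinv : ∀ (θ : IrrCharacter N) (g : M), helper8.conjFunN N g (θ : N → ℂ) = θ := by
    intro θ g
    obtain ⟨X, hX, hc⟩ := exists_irr_over N θ.2
    have h1 := inertia_index_mul_degree_dvd N hX θ hc
    have h2 : (inertia N θ).index ∣ charDegree X := (Dvd.intro _ rfl).trans h1
    have h3 : (inertia N θ).index ∣ p ^ a := by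
      rw [← ha]; exact Subgroup.index_dvd_of_le (le_inertia N θ)
    obtain ⟨b, -, hb⟩ := (Nat.dvd_prime_pow hpp).1 h3
    have hb0 : b = 0 := by
      by_contra hne
      have : p ∣ (inertia N θ).index := by
        rw [hb]; exact dvd_pow_self p hne
      exact hdeg ⟨X, hX⟩ (this.trans h2)
    rw [hb0, pow_zero] at hb
    have htop : inertia N θ = ⊤ := Subgroup.index_eq_one.1 hb
    have hg : g ∈ inertia N θ := by rw [htop]; exact Subgroup.mem_top g
    exact (mem_inertia N).1 hg
  have hconj := isConj_of_invariant N hinv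
  -- N centralizes P
  have hcent : N ≤ Subgroup.centralizer ((P : Subgroup M) : Set M) := by
    have htop : (Subgroup.centralizer ((P : Subgroup M) : Set M)).subgroupOf N = ⊤ := by
      apply union_conj_eq_top
      intro n
      obtain ⟨m, hm⟩ := exists_conj_centralized N hcop (P : Subgroup M) P.2 hconj n
      refine ⟨m, ?_⟩
      rw [Subgroup.mem_subgroupOf, Subgroup.mem_centralizer_iff]
      intro x hx
      exact hm x hx
    intro n hn
    have : (⟨n, hn⟩ : N) ∈ (Subgroup.centralizer ((P : Subgroup M) : Set M)).subgroupOf N := by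
      rw [htop]; exact Subgroup.mem_top _
    exact Subgroup.mem_subgroupOf.1 this
  -- N ⊔ P = ⊤
  have hsup : N ⊔ (P : Subgroup M) = ⊤ := by
    have h1 : (N ⊔ (P : Subgroup M)).index ∣ p ^ a := by
      rw [← ha]; exact Subgroup.index_dvd_of_le le_sup_left
    have h2 : (N ⊔ (P : Subgroup M)).index ∣ (P : Subgroup M).index :=
      Subgroup.index_dvd_of_le le_sup_right
    obtain ⟨b, -, hb⟩ := (Nat.dvd_prime_pow hpp).1 h1
    have hb0 : b = 0 := by
      by_contra hne
      have : p ∣ (N ⊔ (P : Subgroup M)).index := by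
        rw [hb]; exact dvd_pow_self p hne
      exact P.not_dvd_index (this.trans h2)
    rw [hb0, pow_zero] at hb
    exact Subgroup.index_eq_one.1 hb
  rw [← Subgroup.normalizer_eq_top_iff, eq_top_iff, ← hsup]
  apply sup_le
  · exact hcent.trans (Subgroup.centralizer_le_normalizer _)
  · exact Subgroup.le_normalizer

end FixedPoints

section Main

open Cfsg.Agent.helper23
open scoped Pointwise

theorem exists_normal_of_psreach {G : Type u} [Group G] {p : ℕ} {L : Subgroup G}
    (h : PSReach p L) (hL : L ≠ ⊥) :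
    ∃ N : Subgroup G, N.Normal ∧ N ≠ ⊥ ∧
      ((∃ m : ℕ, Nat.card N = p ^ m) ∨ (Nat.card N).Coprime p) := by
  induction h with
  | bot => exact absurd rfl hL
  | step K L hK hKL hn hfac ih =>
    by_cases hKb : K = ⊥
    · refine ⟨L, hn, hL, ?_⟩
      rw [hKb, Subgroup.relIndex_bot_left] at hfac
      exact hfac
    · exact ih hKb

/-- a normal `p`-subgroup is commutative if all irreducible character degrees of `G` are prime
to `p` -/
theorem comm_of_normal_pgroup {G : Type u} [Group G] [Finite G] {p : ℕ} [Fact p.Prime]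
    (hdeg : ∀ χ : IrrCharacter G, ¬ p ∣ charDegree (χ : G → ℂ)) (P : Subgroup G) [P.Normal]
    (hP : IsPGroup p P) : ∀ a b : P, a * b = b * a := by
  classical
  have hpp : p.Prime := Fact.out
  have := Fintype.ofFinite G
  have := Fintype.ofFinite P
  rw [Cfsg.Agent.S0187.result]
  intro θ
  obtain ⟨χ, hχ⟩ := exists_irr_degree_dvd P θ
  have h1 : charDegree (θ : P → ℂ) ∣ Nat.card P := irr_degree_dvd_card θ.2
  obtain ⟨k, hk⟩ := (IsPGroup.iff_card.1 hP)
  rw [hk] at h1
  obtain ⟨b, -, hb⟩ := (Nat.dvd_prime_pow hpp).1 h1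
  have hb0 : b = 0 := by
    by_contra hne
    have : p ∣ charDegree (θ : P → ℂ) := by rw [hb]; exact dvd_pow_self p hne
    exact hdeg χ (this.trans hχ)
  rw [hb0, pow_zero] at hb
  rw [← char_charDegree_cast (irr_isCharacter θ.2), hb]
  simp

/-- **Itô–Michler for `p`-solvable groups**: if all irreducible character degrees are prime to
`p`, the Sylow `p`-subgroups are normal. -/
theorem sylow_normal_of_degrees (p : ℕ) [hp : Fact p.Prime] :
    ∀ (n : ℕ) (G : Type u) [Group G] [Finite G], Nat.card G = n → IsPSolvable p G →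
      (∀ χ : IrrCharacter G, ¬ p ∣ charDegree (χ : G → ℂ)) →
      ∀ P : Sylow p G, (P : Subgroup G).Normal := by
  intro n
  induction n using Nat.strong_induction_on with
  | _ n ih =>
  intro G _ _ hcard hsolv hdeg P
  classical
  have hpp : p.Prime := hp.out
  by_cases htop : (⊤ : Subgroup G) = ⊥
  · have : (P : Subgroup G) = ⊥ := le_bot_iff.1 (htop ▸ le_top)
    rw [this]; exact Subgroup.normal_bot
  obtain ⟨N, hNn, hNb, hN⟩ := exists_normal_of_psreach (psreach_of_isPSolvable hsolv) htop
  haveI := hNn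
  -- the quotient
  have hcardQ : Nat.card (G ⧸ N) < n := by
    rw [← hcard, ← Subgroup.index_eq_card, ← N.card_mul_index]
    have h1 : 1 < Nat.card N := (Subgroup.one_lt_card_iff_ne_bot N).2 hNb
    have h2 : 0 < N.index := Nat.pos_of_ne_zero Subgroup.index_ne_zero_of_finite
    nlinarith
  have hsolvQ : IsPSolvable p (G ⧸ N) :=
    isPSolvable_of_surjective hpp (QuotientGroup.mk' N) (QuotientGroup.mk'_surjective N) hsolv
  have hdegQ : ∀ ψ : IrrCharacter (G ⧸ N), ¬ p ∣ charDegree (ψ : G ⧸ N → ℂ) := by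
    intro ψ
    exact hdeg ⟨(ψ : G ⧸ N → ℂ) ∘ (QuotientGroup.mk : G → G ⧸ N), irr_inflation N ψ.2⟩
  have hQn : ((P.mapSurjective (QuotientGroup.mk'_surjective N) : Sylow p (G ⧸ N)) :
      Subgroup (G ⧸ N)).Normal :=
    ih _ hcardQ (G ⧸ N) rfl hsolvQ hdegQ _
  rw [Sylow.coe_mapSurjective] at hQn
  have hMn : (((P : Subgroup G).map (QuotientGroup.mk' N)).comap (QuotientGroup.mk' N)).Normal :=
    hQn.comap _
  rw [Subgroup.comap_map_eq, QuotientGroup.ker_mk'] at hMn
  rcases hN with ⟨m, hm⟩ | hcop
  · -- N is a p-group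
    have hle : N ≤ (P : Subgroup G) := (IsPGroup.of_card hm).le_sylow_of_normal P
    rw [sup_eq_left.2 hle] at hMn
    exact hMn
  · -- N is a p'-group
    set M : Subgroup G := (P : Subgroup G) ⊔ N with hM
    haveI := hMn
    have hPM : (P : Subgroup G) ≤ M := le_sup_left
    have hNM : N ≤ M := le_sup_right
    haveI : (N.subgroupOf M).Normal := Subgroup.normal_subgroupOf
    have hcop' : (Nat.card (N.subgroupOf M)).Coprime p := by
      rw [Nat.card_congr (Subgroup.subgroupOfEquivOfLe hNM).toEquiv]; exact hcop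
    have hidx' : ∃ a : ℕ, (N.subgroupOf M).index = p ^ a := by
      have h1 : (N.subgroupOf M).index = N.relIndex (P : Subgroup G) := by
        show N.relIndex M = _
        rw [hM, sup_comm, Subgroup.relIndex_sup_left]
      have h2 : N.relIndex (P : Subgroup G) ∣ Nat.card (P : Subgroup G) :=
        Subgroup.index_dvd_card _
      obtain ⟨k, hk⟩ := (IsPGroup.iff_card.1 P.2)
      rw [hk] at h2
      obtain ⟨b, -, hb⟩ := (Nat.dvd_prime_pow hpp).1 h2
      exact ⟨b, h1.trans hb⟩
    have hdegM : ∀ ψ : IrrCharacter M, ¬ p ∣ charDegree (ψ : M → ℂ) := by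
      intro ψ hdvd
      have := Fintype.ofFinite G
      have := Fintype.ofFinite M
      obtain ⟨χ, hχ⟩ := exists_irr_degree_dvd M ψ
      exact hdeg χ (hdvd.trans hχ)
    have hP'n := sylow_normal_of_pprime_normal (N.subgroupOf M) hcop' hidx' hdegM (P.subtype hPM)
    rw [Sylow.coe_subtype] at hP'n
    -- uniqueness of the Sylow subgroup of M
    haveI : ((P.subtype hPM : Sylow p M) : Subgroup M).Normal := by
      rw [Sylow.coe_subtype]; exact hP'n
    have huniq : ∀ Q : Sylow p M, Q = P.subtype hPM := by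
      intro Q
      have : Subsingleton (Sylow p M) := (Sylow.unique_of_normal (P.subtype hPM) inferInstance).instSubsingleton
      exact Subsingleton.elim _ _
    constructor
    intro x hx g
    -- the conjugate Sylow subgroup g • P lies in M
    have hQM : ((g • P : Sylow p G) : Subgroup G) ≤ M := by
      intro y hy
      rw [Sylow.coe_subgroup_smul, Cfsg.Agent.helper3.mem_conj_smul_iff] at hy
      have h1 : g⁻¹ * y * g ∈ M := hPM hy
      have h2 := hMn.conj_mem _ h1 g
      have h3 : g * (g⁻¹ * y * g) * g⁻¹ = y := by group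
      rw [h3] at h2
      exact h2
    have heq := huniq ((g • P : Sylow p G).subtype hQM)
    have hmem : g * x * g⁻¹ ∈ ((g • P : Sylow p G) : Subgroup G) := by
      rw [Sylow.coe_subgroup_smul]
      exact Cfsg.Agent.helper3.conj_mem_conj_smul g x _ hx
    have h4 : (⟨g * x * g⁻¹, hQM hmem⟩ : M) ∈
        (((g • P : Sylow p G).subtype hQM : Sylow p M) : Subgroup M) := by
      rw [Sylow.coe_subtype, Subgroup.mem_subgroupOf]
      exact hmem
    rw [heq, Sylow.coe_subtype, Subgroup.mem_subgroupOf] at h4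
    exact h4

end Main

end Cfsg.Agent.helper24

namespace Cfsg.Agent.helper24

universe u

open Cfsg

/-- **Itô**: an irreducible character degree divides the index of a normal abelian subgroup. -/
theorem ito_degree_dvd_index {G : Type u} [Group G] [Finite G] (A : Subgroup G) [A.Normal]
    (hA : ∀ a ∈ A, ∀ b ∈ A, a * b = b * a) (χ : IrrCharacter G) :
    charDegree (χ : G → ℂ) ∣ A.index := by
  classical
  have := Fintype.ofFinite G
  obtain ⟨n, ρ, hρ, hχ⟩ := χ.2
  have hdeg : charDegree (χ : G → ℂ) = n := by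
    apply charDegree_natCast
    rw [← hχ, Representation.char_one, Module.finrank_fin_fun]
  rw [hdeg]
  exact Cfsg.Agent.S0169.ito_coord ρ hρ A hA

/-- **Itô–Michler, `p`-solvable case**: a Sylow `p`-subgroup is normal and abelian iff all
irreducible character degrees are prime to `p`. -/
theorem ito_michler_psolvable {G : Type u} [Group G] [Finite G] (p : ℕ) [Fact p.Prime]
    (hsolv : IsPSolvable p G) (P : Sylow p G) :
    ((P : Subgroup G).Normal ∧ ∀ a ∈ (P : Subgroup G), ∀ b ∈ (P : Subgroup G), a * b = b * a) ↔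
      ∀ χ : IrrCharacter G, ¬ p ∣ charDegree (χ : G → ℂ) := by
  constructor
  · rintro ⟨hn, hab⟩ χ hdvd
    have := hn
    exact P.not_dvd_index (hdvd.trans (ito_degree_dvd_index (P : Subgroup G) hab χ))
  · intro hdeg
    have hn : (P : Subgroup G).Normal := sylow_normal_of_degrees p _ G rfl hsolv hdeg P
    refine ⟨hn, ?_⟩
    have := hn
    intro a ha b hb
    have h := comm_of_normal_pgroup hdeg (P : Subgroup G) P.2 ⟨a, ha⟩ ⟨b, hb⟩
    exact congrArg Subtype.val h

end Cfsg.Agent.helper24
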