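import Mathlib
import Cfsg.Agent.Lib_helper24_ItoMichler
import Cfsg.Agent.Lib_helper24_CharCount
import Cfsg.Agent.Lib_helper24_CharCentral
import Cfsg.Agent.Lib_helper22_Det
import Cfsg.Agent.Lib_helper8_Clifford

set_option autoImplicit false

namespace Cfsg.Agent.helper24

open Cfsg Cfsg.Agent.helper12 Cfsg.Agent.helper22 Cfsg.Agent.helper23
open scoped ComplexConjugate
open scoped commutatorElement

universe u

section PSolvSub

variable {G : Type*} [Group G]

/-- `PSReach` restricts to subgroups. -/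
theorem psreach_subgroupOf {p : ℕ} (hp : p.Prime) (H : Subgroup G) {N : Subgroup G}
    (h : PSReach p N) : PSReach p (N.subgroupOf H) := by
  induction h with
  | bot => rw [Subgroup.bot_subgroupOf]; exact PSReach.bot
  | step K L hK hKL hn hfac ih =>
    have hKn : K.Normal := hK.normal
    refine PSReach.step _ _ ih (Subgroup.subgroupOf_mono H hKL) ?_ ?_
    · exact Subgroup.normal_subgroupOf
    · have e1 : (K.subgroupOf H).relIndex (L.subgroupOf H) = (K ⊓ H).relIndex (L ⊓ H) := by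
        show (K.comap H.subtype).relIndex (L.subgroupOf H) = _
        rw [Subgroup.relIndex_comap, Subgroup.subgroupOf_map_subtype,
          ← Subgroup.inf_relIndex_right K (L ⊓ H), ← Subgroup.inf_relIndex_right (K ⊓ H) (L ⊓ H)]
        congr 1
        ext x
        simp only [Subgroup.mem_inf]
        constructor
        · rintro ⟨h1, h2, h3⟩; exact ⟨⟨h1, h3⟩, h2, h3⟩
        · rintro ⟨⟨h1, h3⟩, h2, -⟩; exact ⟨h1, h2, h3⟩
      have hd : (K.subgroupOf H).relIndex (L.subgroupOf H) ∣ K.relIndex L := by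
        rw [e1]; exact relIndex_inf_dvd hKn hKL
      rcases hfac with ⟨m, hm⟩ | hcop
      · left
        rw [hm] at hd
        obtain ⟨j, -, hj⟩ := (Nat.dvd_prime_pow hp).1 hd
        exact ⟨j, hj⟩
      · right
        exact Nat.Coprime.coprime_dvd_left hd hcop

/-- subgroups of `p`-solvable groups are `p`-solvable -/
theorem isPSolvable_subgroup {p : ℕ} (hp : p.Prime) (h : IsPSolvable p G) (H : Subgroup G) :
    IsPSolvable p H := by
  rw [isPSolvable_iff_psreach] at h ⊢
  have := psreach_subgroupOf hp H h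
  rwa [Subgroup.top_subgroupOf] at this

end PSolvSub

section CharLemmas

variable {G : Type u} [Group G]

/-- a constituent of a character `Φ` has every `x` with `Φ x = Φ 1` in its kernel -/
theorem constituent_ker [Fintype G] {Φ : G → ℂ} (hΦ : IsCharacter G Φ) {ξ : G → ℂ}
    (hξ : IsIrrCharacter G ξ) (hc : classInner Φ ξ ≠ 0) {x : G} (hx : Φ x = Φ 1) : ξ x = ξ 1 := by
  classical
  have := Fintype.ofFinite (IrrCharacter G)
  obtain ⟨n, hexp, hn, -⟩ := char_decomp hΦ
  have hval : ∀ g : G, Φ g = ∑ ψ : IrrCharacter G, (n ψ : ℂ) * (ψ : G → ℂ) g := by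
    intro g
    conv_lhs => rw [hexp]
    simp [Finset.sum_apply]
  have hre : ∀ ψ : IrrCharacter G, 0 ≤ ((ψ : G → ℂ) 1 - (ψ : G → ℂ) x).re := by
    intro ψ
    obtain ⟨d, hd⟩ := char_apply_one (irr_isCharacter ψ.2)
    have h1 := char_norm_le (irr_isCharacter ψ.2) x
    rw [hd] at h1 ⊢
    have h2 : ((ψ : G → ℂ) x).re ≤ ‖(ψ : G → ℂ) x‖ := Complex.re_le_norm _
    simp only [Complex.norm_natCast] at h1
    simp only [Complex.sub_re, Complex.natCast_re]
    linarith
  have hsum : ∑ ψ : IrrCharacter G, (n ψ : ℝ) * ((ψ : G → ℂ) 1 - (ψ : G → ℂ) x).re = 0 := by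
    have h1 : Φ 1 - Φ x = 0 := by rw [hx]; ring
    rw [hval 1, hval x, ← Finset.sum_sub_distrib] at h1
    have h2 := congrArg Complex.re h1
    rw [Complex.re_sum] at h2
    rw [← h2.trans Complex.zero_re]
    refine Finset.sum_congr rfl (fun ψ _ => ?_)
    rw [← mul_sub]
    have : ((n ψ : ℂ) * ((ψ : G → ℂ) 1 - (ψ : G → ℂ) x)).re =
        (n ψ : ℝ) * ((ψ : G → ℂ) 1 - (ψ : G → ℂ) x).re := by
      rw [show ((n ψ : ℕ) : ℂ) = (((n ψ : ℕ) : ℝ) : ℂ) by push_cast; rfl, Complex.re_ofReal_mul]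
    rw [this]
  have hzero := (Finset.sum_eq_zero_iff_of_nonneg (fun ψ _ =>
    mul_nonneg (Nat.cast_nonneg _) (hre ψ))).1 hsum ⟨ξ, hξ⟩ (Finset.mem_univ _)
  have hnξ : (n ⟨ξ, hξ⟩ : ℝ) ≠ 0 := by
    intro h0
    have h0' : n ⟨ξ, hξ⟩ = 0 := by exact_mod_cast h0
    apply hc
    have := hn ⟨ξ, hξ⟩
    rw [h0'] at this
    simpa using this
  have hre0 : (ξ 1 - ξ x).re = 0 := by
    rcases mul_eq_zero.1 hzero with h | h
    · exact absurd h hnξ
    · exact h
  obtain ⟨d, hd⟩ := char_apply_one (irr_isCharacter hξ)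
  have h1 := char_norm_le (irr_isCharacter hξ) x
  rw [hd] at h1 hre0 ⊢
  simp only [Complex.norm_natCast] at h1
  simp only [Complex.sub_re, Complex.natCast_re] at hre0
  have hre1 : (ξ x).re = d := by linarith
  have him : (ξ x).im = 0 := by
    have h2 : ‖ξ x‖ ^ 2 = (ξ x).re ^ 2 + (ξ x).im ^ 2 := by
      rw [Complex.sq_norm, Complex.normSq_apply]; ring
    have h3 : ‖ξ x‖ ^ 2 ≤ (d : ℝ) ^ 2 := by
      apply pow_le_pow_left₀ (norm_nonneg _) h1
    rw [h2, hre1] at h3
    have : (ξ x).im ^ 2 ≤ 0 := by linarith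
    exact pow_eq_zero_iff (two_ne_zero) |>.1 (le_antisymm this (sq_nonneg _))
  apply Complex.ext
  · rw [hre1]; simp
  · rw [him]; simp

/-- a nontrivial element is outside the kernel of some irreducible character -/
theorem exists_irr_apply_ne [Finite G] {x : G} (hx : x ≠ 1) :
    ∃ χ : IrrCharacter G, (χ : G → ℂ) x ≠ (χ : G → ℂ) 1 := by
  classical
  have := Fintype.ofFinite (IrrCharacter G)
  by_contra hcon
  have hall : ∀ χ : IrrCharacter G, (χ : G → ℂ) x = (χ : G → ℂ) 1 := by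
    intro χ
    by_contra h
    exact hcon ⟨χ, h⟩
  have h1 := irr_column_orthogonality (G := G) x 1
  have h2 := irr_column_orthogonality (G := G) 1 1
  rw [if_neg (by rw [isConj_one_left]; exact hx)] at h1
  rw [if_pos (IsConj.refl 1)] at h2
  have h3 : ∑ χ : IrrCharacter G, (χ : G → ℂ) x * conj ((χ : G → ℂ) 1) =
      ∑ χ : IrrCharacter G, (χ : G → ℂ) 1 * conj ((χ : G → ℂ) 1) :=
    Finset.sum_congr rfl (fun χ _ => by rw [hall χ])
  rw [h1, h2] at h3
  have hpos : 0 < Nat.card (Subgroup.centralizer ({1} : Set G)) := Nat.card_pos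
  have : (Nat.card (Subgroup.centralizer ({1} : Set G)) : ℂ) ≠ 0 := by
    exact_mod_cast hpos.ne'
  exact this h3.symm

/-- determinant trick: if `ψ ∈ Irr(T)` restricts to `A` as `ψ(1)φ` with `φ` linear and `ψ(1)`
prime to `|A|`, then `φ` extends to a linear character of `T` -/
theorem exists_linear_extension {T : Type u} [Group T] [Finite T] (A : Subgroup T) (φ : A →* ℂˣ)
    {ψ : T → ℂ} (hψ : IsIrrCharacter T ψ) (d : ℕ) (hd : ψ 1 = d)
    (hres : ∀ a : A, ψ a = d * ((φ a : ℂˣ) : ℂ)) (hcop : d.Coprime (Nat.card A)) :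
    ∃ μ : T →* ℂˣ, ∀ a : A, μ a = φ a := by
  classical
  obtain ⟨n, ρ, hρ, hρψ⟩ := hψ
  have hnd : n = d := by
    have h1 : ρ.character 1 = n := by
      rw [Representation.char_one, Module.finrank_fin_fun]
    rw [hρψ, hd] at h1
    exact_mod_cast h1.symm
  subst hnd
  -- `A` acts by scalars
  have hscal : ∀ a : A, ρ (a : T) = ((φ a : ℂˣ) : ℂ) • (1 : (Fin n → ℂ) →ₗ[ℂ] (Fin n → ℂ)) := by
    intro a
    let σ : Representation ℂ A (Fin n → ℂ) := twistRep φ⁻¹ (ρ.comp A.subtype)
    have hσ : σ.character a = n := by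
      rw [twistRep_character]
      have h1 : Representation.character (ρ.comp A.subtype) a = ρ.character (a : T) := rfl
      rw [h1, hρψ, hres a, MonoidHom.inv_apply, Units.val_inv_eq_inv_val]
      have hne : ((φ a : ℂˣ) : ℂ) ≠ 0 := Units.ne_zero _
      field_simp
    have hσ1 : σ a = 1 := (rep_char_eq_degree_iff σ a).mp hσ
    have hσ2 : σ a = ((φ⁻¹ a : ℂˣ) : ℂ) • ρ (a : T) := twistRep_apply _ _ _
    have h5 : ((φ a : ℂˣ) : ℂ) • (((φ⁻¹ a : ℂˣ) : ℂ) • ρ (a : T)) = ρ (a : T) := by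
      rw [smul_smul, ← Units.val_mul, MonoidHom.inv_apply, mul_inv_cancel, Units.val_one,
        one_smul]
    rw [← h5, ← hσ2, hσ1]
  have hdet : ∀ a : A, detHom ρ (a : T) = φ a ^ n := by
    intro a
    apply Units.ext
    rw [detHom_apply, hscal a, LinearMap.det_smul, Module.finrank_fin_fun,
      show (1 : (Fin n → ℂ) →ₗ[ℂ] (Fin n → ℂ)) = LinearMap.id from rfl, LinearMap.det_id,
      mul_one, Units.val_pow_eq_pow_val]
  have hpow : ∀ a : A, φ a ^ Nat.card A = 1 := by
    intro a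
    rw [← map_pow, pow_card_eq_one', map_one]
  by_cases hm : Nat.card A = 1
  · refine ⟨1, fun a => ?_⟩
    have : Subsingleton A := (Nat.card_eq_one_iff_unique.1 hm).1
    have ha : a = 1 := Subsingleton.elim _ _
    rw [ha]; simp
  · have hm1 : 1 < Nat.card A := by
      have : 0 < Nat.card A := Nat.card_pos
      omega
    obtain ⟨u, -, hu⟩ := Nat.exists_mul_mod_eq_one_of_coprime hcop hm1
    refine ⟨(detHom ρ) ^ u, fun a => ?_⟩
    rw [MonoidHom.pow_apply, hdet a, ← pow_mul, pow_eq_pow_mod _ (hpow a), hu, pow_one]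

end CharLemmas

section RelIto

variable {G : Type u} [Group G]

/-- **relative Itô–Michler over a normal abelian `p`-subgroup** (`p`-solvable case): if every
irreducible character of `G` not containing `A` in its kernel has degree prime to `p`, then the
Sylow `p`-subgroups of `G` are abelian modulo `A`. -/
theorem comm_mem_of_pprime_over [Finite G] (p : ℕ) [Fact p.Prime] (hsolv : IsPSolvable p G)
    (A : Subgroup G) [hAn : A.Normal] (hAp : IsPGroup p A)
    (hAc : ∀ a ∈ A, ∀ b ∈ A, a * b = b * a) (hAne : A ≠ ⊥)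
    (H : ∀ χ : IrrCharacter G, (∃ x ∈ A, (χ : G → ℂ) x ≠ (χ : G → ℂ) 1) →
      ¬ p ∣ charDegree (χ : G → ℂ))
    (Q : Subgroup G) (hQ : IsPGroup p Q) (hQi : ¬ p ∣ Q.index) :
    ∀ a ∈ Q, ∀ b ∈ Q, ⁅a, b⁆ ∈ A := by
  classical
  have hpp : p.Prime := Fact.out
  have := Fintype.ofFinite G
  have := Fintype.ofFinite A
  have := Fintype.ofFinite (IrrCharacter A)
  -- a nontrivial element of `A`
  obtain ⟨x, hxA, hx1⟩ : ∃ x ∈ A, x ≠ 1 := by
    by_contra hcon
    apply hAne
    rw [eq_bot_iff]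
    intro y hy
    rw [Subgroup.mem_bot]
    by_contra hy1
    exact hcon ⟨y, hy, hy1⟩
  obtain ⟨χ, hχx⟩ := exists_irr_apply_ne hx1
  -- a constituent of the restriction not containing `x` in its kernel
  obtain ⟨θ, hθc, hθx⟩ : ∃ θ : IrrCharacter A, classInner (helper5.res A (χ : G → ℂ))
      (θ : A → ℂ) ≠ 0 ∧ (θ : A → ℂ) ⟨x, hxA⟩ ≠ (θ : A → ℂ) 1 := by
    by_contra hcon
    obtain ⟨n, hexp, hn, -⟩ :=
      char_decomp (helper5.isCharacter_res A (irr_isCharacter χ.2))
    apply hχx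
    have hval : ∀ a : A, (χ : G → ℂ) a = ∑ θ : IrrCharacter A, (n θ : ℂ) * (θ : A → ℂ) a := by
      intro a
      have h1 : helper5.res A (χ : G → ℂ) a = (χ : G → ℂ) a := rfl
      rw [← h1, hexp]
      simp [Finset.sum_apply]
    have h2 := hval ⟨x, hxA⟩
    have h3 := hval 1
    rw [show ((⟨x, hxA⟩ : A) : G) = x from rfl] at h2
    rw [show ((1 : A) : G) = 1 from rfl] at h3
    rw [h2, h3]
    refine Finset.sum_congr rfl (fun θ _ => ?_)
    by_cases h0 : n θ = 0
    · rw [h0]; simp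
    · have hne : classInner (helper5.res A (χ : G → ℂ)) (θ : A → ℂ) ≠ 0 := by
        rw [hn θ]; exact_mod_cast h0
      by_contra hne2
      apply hcon
      refine ⟨θ, hne, fun h => hne2 ?_⟩
      rw [h]
  -- the inertia group and the Clifford correspondent
  obtain ⟨T, hT⟩ : ∃ T : Subgroup G, T = helper22.inertia A θ := ⟨_, rfl⟩
  have := Fintype.ofFinite T
  have hAT : A ≤ T := by rw [hT]; exact le_inertia A θ
  obtain ⟨ψ, hψ, -, ⟨k, hk0, hψA⟩, hdeg⟩ := clifford_degree A χ.2 θ hθc T hT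
  have hpχ : ¬ p ∣ charDegree (χ : G → ℂ) := H χ ⟨x, hxA, hχx⟩
  have hpT : ¬ p ∣ T.index := fun h => hpχ (by rw [hdeg]; exact Dvd.dvd.mul_right h _)
  have hpψ : ¬ p ∣ charDegree ψ := fun h => hpχ (by rw [hdeg]; exact Dvd.dvd.mul_left h _)
  -- `θ` is linear
  have hθ1 : (θ : A → ℂ) 1 = 1 :=
    (Cfsg.Agent.S0187.result (G := A)).mp (fun a b => Subtype.ext (hAc a a.2 b b.2)) θ
  obtain ⟨φ, hφ⟩ := exists_hom_of_linear (irr_isCharacter θ.2) hθ1
  have hφx : φ ⟨x, hxA⟩ ≠ 1 := by
    intro h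
    apply hθx
    rw [hφ, hθ1, h, Units.val_one]
  -- the normal subgroup `A` inside `T`
  have hA'n : (A.subgroupOf T).Normal := Subgroup.normal_subgroupOf
  have := Fintype.ofFinite (A.subgroupOf T)
  let ε : A.subgroupOf T ≃* A := Subgroup.subgroupOfEquivOfLe hAT
  let φ' : A.subgroupOf T →* ℂˣ := φ.comp ε.toMonoidHom
  have hφ' : ∀ a : A.subgroupOf T, φ' a = φ ⟨((a : T) : G), Subgroup.mem_subgroupOf.mp a.2⟩ :=
    fun a => rfl
  obtain ⟨d, hd⟩ : ∃ d : ℕ, d = charDegree ψ := ⟨_, rfl⟩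
  have hψ1 : ψ 1 = d := by rw [hd, char_charDegree_cast (irr_isCharacter hψ)]
  have hkd : (k : ℂ) = d := by
    have h1 : ψ 1 = (k : ℂ) * (θ : A → ℂ) 1 := hψA 1
    rw [hψ1, hθ1, mul_one] at h1
    exact h1.symm
  have hres : ∀ a : A.subgroupOf T, ψ (a : T) = (d : ℂ) * ((φ' a : ℂˣ) : ℂ) := by
    intro a
    rw [hψA a, hkd, hφ, hφ' a]
  have hcardA' : Nat.card (A.subgroupOf T) = Nat.card A := Nat.card_congr ε.toEquiv
  have hcop : d.Coprime (Nat.card (A.subgroupOf T)) := by
    rw [hcardA']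
    obtain ⟨j, hj⟩ := IsPGroup.iff_card.1 hAp
    rw [hj]
    apply Nat.Coprime.pow_right
    rw [hd]
    exact ((Nat.Prime.coprime_iff_not_dvd hpp).2 hpψ).symm
  obtain ⟨μ, hμ⟩ := exists_linear_extension (A.subgroupOf T) φ' hψ d hψ1 hres hcop
  -- the inertia condition in `conjFunN` form
  have hTmem : ∀ g : G, g ∈ T ↔ helper8.conjFunN A g (θ : A → ℂ) = (θ : A → ℂ) := by
    intro g
    rw [hT]
    exact helper22.mem_inertia A
  -- the character `θ` on `A ⊓ T`
  let θ' : A.subgroupOf T → ℂ :=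
    fun a => (θ : A → ℂ) ⟨((a : T) : G), Subgroup.mem_subgroupOf.mp a.2⟩
  have hθ'irr : IsIrrCharacter (A.subgroupOf T) θ' :=
    helper8.isIrrCharacter_comp_mulEquiv (Subgroup.subgroupOfEquivOfLe hAT) θ.2
  -- Gallagher: all irreducible characters of `T ⧸ A` have `p'`-degree
  have hβ : ∀ β : IrrCharacter (T ⧸ A.subgroupOf T), ¬ p ∣ charDegree (β : T ⧸ A.subgroupOf T → ℂ) := by
    intro β
    obtain ⟨b, hb⟩ : ∃ b : ℕ, b = charDegree (β : T ⧸ A.subgroupOf T → ℂ) := ⟨_, rfl⟩
    have hβ1 : (β : T ⧸ A.subgroupOf T → ℂ) 1 = b := by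
      rw [hb, char_charDegree_cast (irr_isCharacter β.2)]
    have hb0 : (b : ℂ) ≠ 0 := by
      rw [← hβ1]; exact irr_apply_one_ne_zero β.2
    let ξ : T → ℂ := fun t => ((μ t : ℂˣ) : ℂ) *
      ((β : T ⧸ A.subgroupOf T → ℂ) ∘ (QuotientGroup.mk : T → T ⧸ A.subgroupOf T)) t
    have hξ : IsIrrCharacter T ξ := isIrrCharacter_hom_mul μ (irr_inflation _ β.2)
    have hξA : ∀ a : A.subgroupOf T, ξ (a : T) = (b : ℂ) * θ' a := by
      intro a
      show ((μ (a : T) : ℂˣ) : ℂ) * (β : T ⧸ A.subgroupOf T → ℂ) (QuotientGroup.mk (a : T)) = _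
      rw [(QuotientGroup.eq_one_iff (a : T)).2 a.2, hβ1, hμ a, hφ' a, ← hφ, mul_comm]
    have hξ1 : ξ 1 = b := by
      show ((μ 1 : ℂˣ) : ℂ) * (β : T ⧸ A.subgroupOf T → ℂ) (QuotientGroup.mk (1 : T)) = _
      rw [map_one, Units.val_one, one_mul, QuotientGroup.mk_one, hβ1]
    have hover : classInner (indFun (A.subgroupOf T) θ') ξ ≠ 0 := by
      rw [classInner_indFun_eq_restrict _ _ _ (char_isClassFunction (irr_isCharacter hξ))]
      have h1 : (fun a : A.subgroupOf T => ξ (a : T)) = (b : ℂ) • θ' := by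
        funext a; rw [hξA a]; rfl
      rw [h1, ← classInner_conj_symm, classInner_smul_left, irr_classInner_self hθ'irr, mul_one]
      simpa using hb0
    have hcorr := helper8.clifford_corr A T (θ : A → ℂ) θ.2 hTmem hAT ξ ξ hξ hξ hover hover
    rw [if_pos rfl] at hcorr
    have hXirr : IsIrrCharacter G (indFun T ξ) :=
      isIrrCharacter_of_classInner_self (isCharacter_indFun T (irr_isCharacter hξ)) hcorr
    have hXdeg : charDegree (indFun T ξ) = T.index * b := by
      apply charDegree_natCast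
      rw [helper5.indFun_one, hξ1]
      push_cast; ring
    -- `A` is not in the kernel of the induced character
    have hXne : ∃ y ∈ A, (indFun T ξ) y ≠ (indFun T ξ) 1 := by
      refine ⟨x, hxA, fun hcon => ?_⟩
      have hc : classInner (helper5.res T (indFun T ξ)) ξ ≠ 0 := by
        have h1 := classInner_indFun_eq_restrict T ξ (indFun T ξ)
          (char_isClassFunction (irr_isCharacter hXirr))
        rw [hcorr] at h1
        have h2 : classInner ξ (helper5.res T (indFun T ξ)) = 1 := h1.symm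
        rw [← classInner_conj_symm, h2]
        simp
      have hk := constituent_ker (helper5.isCharacter_res T (irr_isCharacter hXirr)) hξ hc
        (x := ⟨x, hAT hxA⟩) hcon
      have h3 := hξA ⟨⟨x, hAT hxA⟩, Subgroup.mem_subgroupOf.mpr hxA⟩
      have h4 : ξ ⟨x, hAT hxA⟩ = (b : ℂ) * (θ : A → ℂ) ⟨x, hxA⟩ := h3
      rw [hk, hξ1] at h4
      apply hθx
      rw [hθ1]
      have h5 : (b : ℂ) * 1 = (b : ℂ) * (θ : A → ℂ) ⟨x, hxA⟩ := by rw [mul_one]; exact h4
      exact (mul_left_cancel₀ hb0 h5).symm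
    have h6 := H ⟨indFun T ξ, hXirr⟩ hXne
    rw [← hb]
    intro hpb
    apply h6
    show p ∣ charDegree (indFun T ξ)
    rw [hXdeg]
    exact Dvd.dvd.mul_left hpb _
  -- Itô–Michler in `T ⧸ A`
  have hsolvT : IsPSolvable p T := isPSolvable_subgroup hpp hsolv T
  have hsolvQ : IsPSolvable p (T ⧸ A.subgroupOf T) :=
    isPSolvable_of_surjective hpp (QuotientGroup.mk' (A.subgroupOf T))
      (QuotientGroup.mk'_surjective _) hsolvT
  obtain ⟨Q₀⟩ : Nonempty (Sylow p T) := inferInstance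
  have hab := ((ito_michler_psolvable p hsolvQ
    (Q₀.mapSurjective (QuotientGroup.mk'_surjective (A.subgroupOf T)))).2 hβ).2
  have hcomm₀ : ∀ a ∈ (Q₀ : Subgroup T), ∀ b ∈ (Q₀ : Subgroup T), ⁅(a : G), (b : G)⁆ ∈ A := by
    intro a ha b hb
    have h1 := hab (QuotientGroup.mk' (A.subgroupOf T) a)
      (by rw [Sylow.coe_mapSurjective]; exact Subgroup.mem_map_of_mem _ ha)
      (QuotientGroup.mk' (A.subgroupOf T) b)
      (by rw [Sylow.coe_mapSurjective]; exact Subgroup.mem_map_of_mem _ hb)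
    have h2 : QuotientGroup.mk' (A.subgroupOf T) ⁅a, b⁆ = 1 := by
      rw [map_commutatorElement, commutatorElement_eq_one_iff_mul_comm]
      exact h1
    have h3 : ⁅a, b⁆ ∈ A.subgroupOf T := (QuotientGroup.eq_one_iff _).1 h2
    exact Subgroup.mem_subgroupOf.mp h3
  -- the image of `Q₀` in `G` is a Sylow subgroup of `G`
  have hQ₁p : IsPGroup p ((Q₀ : Subgroup T).map T.subtype) := Q₀.2.map _
  have hQ₁i : ¬ p ∣ ((Q₀ : Subgroup T).map T.subtype).index := by
    rw [Subgroup.index_map_subtype]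
    intro h
    rcases (Nat.Prime.dvd_mul hpp).1 h with h | h
    · exact Q₀.not_dvd_index h
    · exact hpT h
  obtain ⟨g, hg⟩ := MulAction.exists_smul_eq G (hQ₁p.toSylow hQ₁i) (hQ.toSylow hQi)
  have hmemQ : ∀ a ∈ Q, ∃ a₀ ∈ (Q₀ : Subgroup T), g⁻¹ * a * g = (a₀ : G) := by
    intro a ha
    have h1 : a ∈ ((hQ.toSylow hQi : Sylow p G) : Subgroup G) := by
      rw [IsPGroup.toSylow_coe]; exact ha
    rw [← hg, Sylow.coe_subgroup_smul, Cfsg.Agent.helper3.mem_conj_smul_iff,
      IsPGroup.toSylow_coe] at h1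
    obtain ⟨a₀, ha₀, ha₀'⟩ := Subgroup.mem_map.1 h1
    exact ⟨a₀, ha₀, ha₀'.symm⟩
  intro a ha b hb
  obtain ⟨a₀, ha₀, hae⟩ := hmemQ a ha
  obtain ⟨b₀, hb₀, hbe⟩ := hmemQ b hb
  have h1 := hcomm₀ a₀ ha₀ b₀ hb₀
  rw [← hae, ← hbe] at h1
  have h2 := hAn.conj_mem _ h1 g
  have h3 : g * ⁅g⁻¹ * a * g, g⁻¹ * b * g⁆ * g⁻¹ = ⁅a, b⁆ := by
    simp only [commutatorElement_def]; group
  rw [h3] at h2
  exact h2

end RelIto

section DL

/-- the number of irreducible characters of degree divisible by `p` -/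
noncomputable def pSingCount (p : ℕ) (G : Type u) [Group G] : ℕ :=
  Nat.card {χ : IrrCharacter G // p ∣ charDegree (χ : G → ℂ)}

variable {G : Type u} [Group G]

theorem charDegree_inflation (N : Subgroup G) [N.Normal] (β : G ⧸ N → ℂ) :
    charDegree (β ∘ (QuotientGroup.mk : G → G ⧸ N)) = charDegree β := by
  simp [charDegree]

/-- inflation of `p`-singular characters from a quotient -/
noncomputable def inflSing (p : ℕ) (N : Subgroup G) [N.Normal] :
    {β : IrrCharacter (G ⧸ N) // p ∣ charDegree (β : G ⧸ N → ℂ)} →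
      {χ : IrrCharacter G // p ∣ charDegree (χ : G → ℂ)} :=
  fun β => ⟨⟨(β.1 : G ⧸ N → ℂ) ∘ (QuotientGroup.mk : G → G ⧸ N), irr_inflation N β.1.2⟩, by
    show p ∣ charDegree ((β.1 : G ⧸ N → ℂ) ∘ (QuotientGroup.mk : G → G ⧸ N))
    rw [charDegree_inflation]; exact β.2⟩

theorem inflSing_injective (p : ℕ) (N : Subgroup G) [N.Normal] :
    Function.Injective (inflSing p N) := by
  intro β β' h
  have h1 : (β.1 : G ⧸ N → ℂ) ∘ (QuotientGroup.mk : G → G ⧸ N) =
      (β'.1 : G ⧸ N → ℂ) ∘ (QuotientGroup.mk : G → G ⧸ N) := by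
    have := congrArg (fun χ : {χ : IrrCharacter G // p ∣ charDegree (χ : G → ℂ)} =>
      (χ.1 : G → ℂ)) h
    exact this
  apply Subtype.ext
  apply Subtype.ext
  funext q
  obtain ⟨g, rfl⟩ := QuotientGroup.mk_surjective q
  exact congrFun h1 g

theorem pSingCount_quotient_le [Finite G] (p : ℕ) (N : Subgroup G) [N.Normal] :
    pSingCount p (G ⧸ N) ≤ pSingCount p G :=
  Nat.card_le_card_of_injective _ (inflSing_injective p N)

theorem pSingCount_quotient_lt [Finite G] (p : ℕ) (N : Subgroup G) [N.Normal]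
    (χ₀ : IrrCharacter G) (hp : p ∣ charDegree (χ₀ : G → ℂ))
    (hne : ∃ x ∈ N, (χ₀ : G → ℂ) x ≠ (χ₀ : G → ℂ) 1) :
    pSingCount p (G ⧸ N) < pSingCount p G := by
  classical
  have := Fintype.ofFinite {β : IrrCharacter (G ⧸ N) // p ∣ charDegree (β : G ⧸ N → ℂ)}
  have := Fintype.ofFinite {χ : IrrCharacter G // p ∣ charDegree (χ : G → ℂ)}
  unfold pSingCount
  rw [Nat.card_eq_fintype_card, Nat.card_eq_fintype_card]
  apply Fintype.card_lt_of_injective_of_notMem (inflSing p N) (inflSing_injective p N)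
    (b := ⟨χ₀, hp⟩)
  rintro ⟨β, hβ⟩
  obtain ⟨x, hxN, hx⟩ := hne
  apply hx
  have h1 : (χ₀ : G → ℂ) = (β.1 : G ⧸ N → ℂ) ∘ (QuotientGroup.mk : G → G ⧸ N) := by
    have := congrArg (fun χ : {χ : IrrCharacter G // p ∣ charDegree (χ : G → ℂ)} =>
      (χ.1 : G → ℂ)) hβ
    exact this.symm
  rw [h1]
  show (β.1 : G ⧸ N → ℂ) (QuotientGroup.mk x) = (β.1 : G ⧸ N → ℂ) (QuotientGroup.mk 1)
  rw [(QuotientGroup.eq_one_iff x).2 hxN, QuotientGroup.mk_one]

/-- if the derived series of the image of `Q` in `G ⧸ N` dies at step `k`, the `k`-th term of the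
derived series of `Q` lies in `N` -/
theorem derivedSeries_mem_of_quotient (N : Subgroup G) [N.Normal] (Q : Subgroup G) (k : ℕ)
    (h : derivedSeries ↥(Q.map (QuotientGroup.mk' N)) k = ⊥) :
    ∀ y ∈ derivedSeries ↥Q k, (y : G) ∈ N := by
  intro y hy
  have h1 := map_derivedSeries_le_derivedSeries ((QuotientGroup.mk' N).subgroupMap Q) k
  rw [h] at h1
  have h2 : (QuotientGroup.mk' N).subgroupMap Q y = 1 := by
    have := h1 (Subgroup.mem_map_of_mem _ hy)
    rwa [Subgroup.mem_bot] at this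
  have h3 := congrArg Subtype.val h2
  have h4 : QuotientGroup.mk' N (y : G) = 1 := h3
  exact (QuotientGroup.eq_one_iff _).1 h4

/-- if the `k`-th term of the derived series of `Q` lies in a commutative subgroup, the next term
is trivial -/
theorem derivedSeries_succ_eq_bot_of_mem (A : Subgroup G) (hAc : ∀ a ∈ A, ∀ b ∈ A, a * b = b * a)
    (Q : Subgroup G) (k : ℕ) (h : ∀ y ∈ derivedSeries ↥Q k, (y : G) ∈ A) :
    derivedSeries ↥Q (k + 1) = ⊥ := by
  rw [derivedSeries_succ, eq_bot_iff, Subgroup.commutator_le]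
  intro a ha b hb
  rw [Subgroup.mem_bot, commutatorElement_eq_one_iff_mul_comm]
  exact Subtype.ext (hAc _ (h a ha) _ (h b hb))

/-- **Derived length of a Sylow `p`-subgroup of a `p`-solvable group** is at most one more than
the number of irreducible characters of degree divisible by `p`. -/
theorem derivedSeries_sylow_bound (p : ℕ) [hp : Fact p.Prime] :
    ∀ (n : ℕ) (G : Type u) [Group G] [Finite G], Nat.card G = n → IsPSolvable p G →
      ∀ Q : Subgroup G, IsPGroup p Q → ¬ p ∣ Q.index →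
        derivedSeries ↥Q (pSingCount p G + 1) = ⊥ := by
  intro n
  induction n using Nat.strong_induction_on with
  | _ n ih =>
  intro G _ _ hcard hsolv Q hQ hQi
  classical
  have hpp : p.Prime := hp.out
  by_cases htop : (⊤ : Subgroup G) = ⊥
  · rw [eq_bot_iff]
    intro y _
    rw [Subgroup.mem_bot]
    apply Subtype.ext
    have : (y : G) ∈ (⊤ : Subgroup G) := Subgroup.mem_top _
    rw [htop, Subgroup.mem_bot] at this
    exact this
  obtain ⟨N, hNn, hNb, hN⟩ := exists_normal_of_psreach (psreach_of_isPSolvable hsolv) htop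
  -- the induction hypothesis for quotients
  have hquot : ∀ (M : Subgroup G) [M.Normal], M ≠ ⊥ →
      derivedSeries ↥(Q.map (QuotientGroup.mk' M)) (pSingCount p (G ⧸ M) + 1) = ⊥ := by
    intro M _ hMb
    have hcardQ : Nat.card (G ⧸ M) < n := by
      rw [← hcard, ← Subgroup.index_eq_card, ← M.card_mul_index]
      have h1 : 1 < Nat.card M := (Subgroup.one_lt_card_iff_ne_bot M).2 hMb
      have h2 : 0 < M.index := Nat.pos_of_ne_zero Subgroup.index_ne_zero_of_finite
      nlinarith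
    have hsolvQ : IsPSolvable p (G ⧸ M) :=
      isPSolvable_of_surjective hpp (QuotientGroup.mk' M) (QuotientGroup.mk'_surjective M) hsolv
    exact ih _ hcardQ (G ⧸ M) rfl hsolvQ _ (hQ.map _)
      (fun h => hQi (h.trans (Q.index_map_dvd (QuotientGroup.mk'_surjective M))))
  rcases hN with ⟨m, hm⟩ | hcop
  · -- `N` is a `p`-group; pass to its centre
    have := hNn
    have hNp : IsPGroup p N := IsPGroup.of_card hm
    obtain ⟨A, hA⟩ : ∃ A : Subgroup G, A = (Subgroup.center N).map N.subtype := ⟨_, rfl⟩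
    have hAn : A.Normal := by rw [hA]; infer_instance
    have hAN : A ≤ N := by rw [hA]; exact Subgroup.map_subtype_le _
    have hAp : IsPGroup p A := hNp.to_le hAN
    have hAc : ∀ a ∈ A, ∀ b ∈ A, a * b = b * a := by
      intro a ha b hb
      rw [hA] at ha hb
      obtain ⟨a₀, ha₀, rfl⟩ := Subgroup.mem_map.1 ha
      obtain ⟨b₀, hb₀, rfl⟩ := Subgroup.mem_map.1 hb
      have := Subgroup.mem_center_iff.1 hb₀ a₀
      exact congrArg Subtype.val this
    have hAne : A ≠ ⊥ := by
      have : Nontrivial N := (Subgroup.nontrivial_iff_ne_bot N).2 hNb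
      have hnt : Nontrivial (Subgroup.center N) := hNp.center_nontrivial
      obtain ⟨z, hz⟩ := exists_ne (1 : Subgroup.center N)
      intro hbot
      have hzA : ((z : N) : G) ∈ A := by
        rw [hA]; exact Subgroup.mem_map_of_mem _ z.2
      rw [hbot, Subgroup.mem_bot] at hzA
      apply hz
      apply Subtype.ext
      apply Subtype.ext
      exact hzA
    by_cases hB1 : ∃ χ₀ : IrrCharacter G, p ∣ charDegree (χ₀ : G → ℂ) ∧
        ∃ x ∈ A, (χ₀ : G → ℂ) x ≠ (χ₀ : G → ℂ) 1
    · obtain ⟨χ₀, hpχ, hne⟩ := hB1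
      have hlt := pSingCount_quotient_lt p A χ₀ hpχ hne
      have h1 := hquot A hAne
      have h2 : derivedSeries ↥(Q.map (QuotientGroup.mk' A)) (pSingCount p G) = ⊥ :=
        eq_bot_iff.2 (le_trans (derivedSeries_antitone _ hlt) h1.le)
      exact derivedSeries_succ_eq_bot_of_mem A hAc Q _
        (derivedSeries_mem_of_quotient A Q _ h2)
    · have H : ∀ χ : IrrCharacter G, (∃ x ∈ A, (χ : G → ℂ) x ≠ (χ : G → ℂ) 1) →
          ¬ p ∣ charDegree (χ : G → ℂ) := fun χ hx hpχ => hB1 ⟨χ, hpχ, hx⟩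
      have hcm := comm_mem_of_pprime_over p hsolv A hAp hAc hAne H Q hQ hQi
      have h1 : ∀ y ∈ derivedSeries ↥Q 1, (y : G) ∈ A := by
        have hle : derivedSeries ↥Q 1 ≤ A.subgroupOf Q := by
          rw [derivedSeries_succ, derivedSeries_zero, Subgroup.commutator_le]
          intro a _ b _
          rw [Subgroup.mem_subgroupOf]
          have : ((⁅a, b⁆ : Q) : G) = ⁅(a : G), (b : G)⁆ := map_commutatorElement Q.subtype a b
          rw [this]
          exact hcm a a.2 b b.2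
        intro y hy
        exact Subgroup.mem_subgroupOf.mp (hle hy)
      have h2 : derivedSeries ↥Q 2 = ⊥ := derivedSeries_succ_eq_bot_of_mem A hAc Q 1 h1
      by_cases ha : pSingCount p G = 0
      · have hdeg : ∀ χ : IrrCharacter G, ¬ p ∣ charDegree (χ : G → ℂ) := by
          intro χ hpχ
          have hfin : Finite {χ : IrrCharacter G // p ∣ charDegree (χ : G → ℂ)} := inferInstance
          have hemp : IsEmpty {χ : IrrCharacter G // p ∣ charDegree (χ : G → ℂ)} := by
            rcases Nat.card_eq_zero.1 ha with h | h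
            · exact h
            · exact absurd hfin (not_finite_iff_infinite.2 h)
          exact hemp.false ⟨χ, hpχ⟩
        have hab := ((ito_michler_psolvable p hsolv (hQ.toSylow hQi)).2 hdeg).2
        rw [ha]
        apply derivedSeries_succ_eq_bot_of_mem Q _ Q 0 (fun y _ => y.2)
        intro a haQ b hbQ
        exact hab a (by rw [IsPGroup.toSylow_coe]; exact haQ) b
          (by rw [IsPGroup.toSylow_coe]; exact hbQ)
      · have hge : 2 ≤ pSingCount p G + 1 := by omega
        exact eq_bot_iff.2 (le_trans (derivedSeries_antitone _ hge) h2.le)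
  · -- `N` is a `p'`-group
    have := hNn
    have h1 := hquot N hNb
    have h2 : derivedSeries ↥(Q.map (QuotientGroup.mk' N)) (pSingCount p G + 1) = ⊥ :=
      eq_bot_iff.2 (le_trans (derivedSeries_antitone _
        (Nat.add_le_add_right (pSingCount_quotient_le p N) 1)) h1.le)
    have h3 := derivedSeries_mem_of_quotient N Q _ h2
    rw [eq_bot_iff]
    intro y hy
    rw [Subgroup.mem_bot]
    have hyN : (y : G) ∈ N := h3 y hy
    obtain ⟨k, hk⟩ := hQ y
    have hk' : (y : G) ^ p ^ k = 1 := by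
      have := congrArg Subtype.val hk
      simpa using this
    have hN' : (y : G) ^ Nat.card N = 1 := by
      have h5 : (⟨(y : G), hyN⟩ : N) ^ Nat.card N = 1 := pow_card_eq_one'
      have h6 := congrArg Subtype.val h5
      rw [Subgroup.coe_pow] at h6
      exact h6
    have ho : orderOf (y : G) = 1 :=
      Nat.eq_one_of_dvd_coprimes (Nat.Coprime.pow_left k hcop.symm)
        (orderOf_dvd_of_pow_eq_one hk') (orderOf_dvd_of_pow_eq_one hN')
    apply Subtype.ext
    exact orderOf_eq_one_iff.1 ho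

end DL

end Cfsg.Agent.helper24
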