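import Mathlib
import Cfsg.Prelude.Def_Characters
import Cfsg.Agent.Lib_helper5_Ind

set_option autoImplicit false

namespace Cfsg.Agent.helper5

/-- The conjugate subgroup `z K z⁻¹`. -/
def cj {G : Type*} [Group G] (z : G) (K : Subgroup G) : Subgroup G :=
  K.comap (MulAut.conj z⁻¹).toMonoidHom

theorem mem_cj {G : Type*} [Group G] (z y : G) (K : Subgroup G) :
    y ∈ cj z K ↔ z⁻¹ * y * z ∈ K := by
  unfold cj
  rw [Subgroup.mem_comap]
  simp

/-- The number of `x` with `x⁻¹ g x ∈ H`. -/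
noncomputable def conjCount {G : Type*} [Group G] (H : Subgroup G) (g : G) : ℕ :=
  Nat.card {x : G // x⁻¹ * g * x ∈ H}

theorem indFun_one_apply {G : Type*} [Group G] [Fintype G] (H : Subgroup G) (g : G) :
    Cfsg.indFun H (fun _ => (1 : ℂ)) g = (Nat.card H : ℂ)⁻¹ * (conjCount H g : ℂ) := by
  classical
  unfold Cfsg.indFun conjCount
  congr 1
  rw [Nat.card_eq_fintype_card, Fintype.card_subtype, Finset.card_filter]
  push_cast
  apply Finset.sum_congr rfl
  intro x _
  by_cases h : x⁻¹ * g * x ∈ H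
  · rw [if_pos h, extendByZero_of_mem _ _ _ h]
  · rw [if_neg h, extendByZero_of_not_mem _ _ _ h]

theorem card_cj {G : Type*} [Group G] (z : G) (K : Subgroup G) :
    Nat.card (cj z K) = Nat.card K := by
  refine Nat.card_congr
    { toFun := fun y => ⟨z⁻¹ * y.1 * z, (mem_cj z y.1 K).mp y.2⟩
      invFun := fun k => ⟨z * k.1 * z⁻¹, by rw [mem_cj]; convert k.2 using 1; group⟩
      left_inv := fun y => by apply Subtype.ext; simp only []; group
      right_inv := fun k => by apply Subtype.ext; simp only []; group }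

theorem conjCount_cj {G : Type*} [Group G] (h : G) (U : Subgroup G) (g : G) :
    conjCount (cj h U) g = conjCount U g := by
  unfold conjCount
  refine Nat.card_congr
    { toFun := fun x => ⟨x.1 * h, by
        have := (mem_cj h _ U).mp x.2
        convert this using 1; group⟩
      invFun := fun x => ⟨x.1 * h⁻¹, by
        rw [mem_cj]
        convert x.2 using 1; group⟩
      left_inv := fun x => by apply Subtype.ext; simp
      right_inv := fun x => by apply Subtype.ext; simp }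

theorem indFun_one_cj {G : Type*} [Group G] [Fintype G] (h : G) (U : Subgroup G) (g : G) :
    Cfsg.indFun (cj h U) (fun _ => (1 : ℂ)) g = Cfsg.indFun U (fun _ => (1 : ℂ)) g := by
  rw [indFun_one_apply, indFun_one_apply, card_cj, conjCount_cj]

/-- Product of conjugator counts. -/
theorem conjCount_mul {G : Type*} [Group G] [Fintype G] (H K : Subgroup G) (g : G) :
    conjCount H g * conjCount K g = ∑ z : G, conjCount (H ⊓ cj z K) g := by
  unfold conjCount
  rw [← Nat.card_prod, ← Nat.card_sigma]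
  refine Nat.card_congr
    { toFun := fun p => ⟨p.1.1⁻¹ * p.2.1, ⟨p.1.1, by
        refine Subgroup.mem_inf.mpr ⟨p.1.2, ?_⟩
        rw [mem_cj]
        convert p.2.2 using 1; group⟩⟩
      invFun := fun s => (⟨s.2.1, (Subgroup.mem_inf.mp s.2.2).1⟩, ⟨s.2.1 * s.1, by
        have := (mem_cj _ _ K).mp (Subgroup.mem_inf.mp s.2.2).2
        convert this using 1; group⟩)
      left_inv := fun p => by
        apply Prod.ext
        · rfl
        · apply Subtype.ext; simp
      right_inv := fun s => by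
        apply Sigma.subtype_ext
        · simp
        · rfl }

theorem inf_cj_mul {G : Type*} [Group G] (H K : Subgroup G) (h k z : G) (hh : h ∈ H) (hk : k ∈ K) :
    H ⊓ cj (h * z * k) K = cj h (H ⊓ cj z K) := by
  ext y
  simp only [Subgroup.mem_inf, mem_cj]
  constructor
  · rintro ⟨h1, h2⟩
    refine ⟨H.mul_mem (H.mul_mem (H.inv_mem hh) h1) hh, ?_⟩
    have : z⁻¹ * (h⁻¹ * y * h) * z = k * ((h * z * k)⁻¹ * y * (h * z * k)) * k⁻¹ := by group
    rw [this]
    exact K.mul_mem (K.mul_mem hk h2) (K.inv_mem hk)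
  · rintro ⟨h1, h2⟩
    constructor
    · have : y = h * (h⁻¹ * y * h) * h⁻¹ := by group
      rw [this]
      exact H.mul_mem (H.mul_mem hh h1) (H.inv_mem hh)
    · have : (h * z * k)⁻¹ * y * (h * z * k) = k⁻¹ * (z⁻¹ * (h⁻¹ * y * h) * z) * k := by group
      rw [this]
      exact K.mul_mem (K.mul_mem (K.inv_mem hk) h2) hk

/-- The number of pairs `(h, k)` with `h z₀ k = z`. -/
theorem card_pairs_of_mem {G : Type*} [Group G] (H K : Subgroup G) (z₀ z : G)
    (hz : ∃ h ∈ H, ∃ k ∈ K, z = h * z₀ * k) :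
    Nat.card {p : H × K // (p.1 : G) * z₀ * (p.2 : G) = z} = Nat.card ↥(H ⊓ cj z K) := by
  obtain ⟨h₀, hh₀, k₀, hk₀, hz0⟩ := hz
  have hk₀' : z₀⁻¹ * h₀⁻¹ * z = k₀ := by rw [hz0]; group
  symm
  refine Nat.card_congr
    { toFun := fun u => ⟨(⟨u.1 * h₀, H.mul_mem (Subgroup.mem_inf.mp u.2).1 hh₀⟩,
          ⟨z₀⁻¹ * h₀⁻¹ * (u.1 : G)⁻¹ * z, by
            have e : z₀⁻¹ * h₀⁻¹ * (u.1 : G)⁻¹ * z =
                (z₀⁻¹ * h₀⁻¹ * z) * (z⁻¹ * (u.1 : G)⁻¹ * z) := by group
            rw [e, hk₀']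
            apply K.mul_mem hk₀
            exact (mem_cj _ _ K).mp (Subgroup.mem_inf.mp (Subgroup.inv_mem _ u.2)).2⟩), by
          simp only []
          group⟩
      invFun := fun p => ⟨(p.1.1 : G) * h₀⁻¹, by
          obtain ⟨⟨⟨a, ha⟩, ⟨b, hb⟩⟩, hp⟩ := p
          simp only [] at hp ⊢
          refine Subgroup.mem_inf.mpr ⟨H.mul_mem ha (H.inv_mem hh₀), ?_⟩
          rw [mem_cj]
          have e1 : a = z * b⁻¹ * z₀⁻¹ := by
            rw [← hp]; group
          have e : z⁻¹ * (a * h₀⁻¹) * z = b⁻¹ * (z₀⁻¹ * h₀⁻¹ * z) := by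
            rw [e1]; group
          rw [e, hk₀']
          exact K.mul_mem (K.inv_mem hb) hk₀⟩
      left_inv := fun u => by apply Subtype.ext; simp
      right_inv := fun p => by
        apply Subtype.ext
        apply Prod.ext
        · apply Subtype.ext; simp
        · apply Subtype.ext
          obtain ⟨⟨⟨a, ha⟩, ⟨b, hb⟩⟩, hp⟩ := p
          simp only [] at hp ⊢
          rw [← hp]
          group }

theorem card_pairs_of_not_mem {G : Type*} [Group G] (H K : Subgroup G) (z₀ z : G)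
    (hz : ¬ ∃ h ∈ H, ∃ k ∈ K, z = h * z₀ * k) :
    Nat.card {p : H × K // (p.1 : G) * z₀ * (p.2 : G) = z} = 0 := by
  have : IsEmpty {p : H × K // (p.1 : G) * z₀ * (p.2 : G) = z} := by
    constructor
    rintro ⟨p, hp⟩
    exact hz ⟨p.1, p.1.2, p.2, p.2.2, hp.symm⟩
  simp

/-- Sum of `|H ∩ zKz⁻¹|` over a double coset is `|H| |K|`. -/
theorem sum_card_inf_cj {G : Type*} [Group G] [Fintype G] (H K : Subgroup G) (z₀ : G)
    [DecidablePred fun z : G => ∃ h ∈ H, ∃ k ∈ K, z = h * z₀ * k] :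
    ∑ z ∈ Finset.univ.filter (fun z : G => ∃ h ∈ H, ∃ k ∈ K, z = h * z₀ * k),
      Nat.card ↥(H ⊓ cj z K) = Nat.card H * Nat.card K := by
  classical
  have h1 : ∑ z ∈ Finset.univ.filter (fun z : G => ∃ h ∈ H, ∃ k ∈ K, z = h * z₀ * k),
      Nat.card ↥(H ⊓ cj z K) =
      ∑ z : G, Nat.card {p : H × K // (p.1 : G) * z₀ * (p.2 : G) = z} := by
    rw [Finset.sum_filter]
    apply Finset.sum_congr rfl
    intro z _
    by_cases hz : ∃ h ∈ H, ∃ k ∈ K, z = h * z₀ * k
    · rw [if_pos hz, card_pairs_of_mem H K z₀ z hz]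
    · rw [if_neg hz, card_pairs_of_not_mem H K z₀ z hz]
  rw [h1, ← Nat.card_prod, ← Nat.card_sigma]
  exact Nat.card_congr (Equiv.sigmaFiberEquiv (fun p : H × K => (p.1 : G) * z₀ * (p.2 : G)))

end Cfsg.Agent.helper5
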