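import Mathlib
import Cfsg.Prelude.Def_Characters
import Cfsg.Agent.Lib_helper5_Perm

set_option autoImplicit false

namespace Cfsg.Agent.helper5

/-- `H` has a cyclic normal subgroup of order prime to `p` and `p`-power index. -/
def IsQE {G : Type*} [Group G] (p : ℕ) (H : Subgroup G) : Prop :=
  ∃ C : Subgroup G, C ≤ H ∧ H ≤ Subgroup.normalizer (C : Set G) ∧ IsCyclic C ∧
    Nat.Coprime (Nat.card C) p ∧ ∃ k : ℕ, C.relIndex H = p ^ k

theorem IsQE.of_le {G : Type*} [Group G] [Finite G] {p : ℕ} (hp : p.Prime) {H U : Subgroup G}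
    (hH : IsQE p H) (hUH : U ≤ H) : IsQE p U := by
  obtain ⟨C, hCH, hHN, hcyc, hcop, k, hk⟩ := hH
  refine ⟨C ⊓ U, inf_le_right, ?_, ?_, ?_, ?_⟩
  · refine le_trans ?_ Subgroup.inf_normalizer_le_normalizer_inf
    exact le_inf (hUH.trans hHN) Subgroup.le_normalizer
  · exact Subgroup.isCyclic_of_le (H' := C) inf_le_left
  · exact Nat.Coprime.coprime_dvd_left (Subgroup.card_dvd_of_le inf_le_left) hcop
  · rw [Subgroup.inf_relIndex_right]
    haveI : (C.subgroupOf H).Normal := Subgroup.normal_subgroupOf_of_le_normalizer hHN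
    have h1 := Subgroup.relIndex_dvd_index_of_normal (C.subgroupOf H) (U.subgroupOf H)
    rw [Subgroup.relIndex_subgroupOf hUH] at h1
    have h2 : (C.subgroupOf H).index = p ^ k := hk
    rw [h2] at h1
    obtain ⟨k', _, hk'⟩ := (Nat.dvd_prime_pow hp).mp h1
    exact ⟨k', hk'⟩

/-- The number of fixed points of `g` on `G ⧸ H`. -/
noncomputable def piN {G : Type*} [Group G] (H : Subgroup G) (g : G) : ℕ :=
  Nat.card (MulAction.fixedBy (G ⧸ H) g)

theorem conjCount_eq_card_mul_piN {G : Type*} [Group G] [Finite G] (H : Subgroup G) (g : G) :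
    conjCount H g = Nat.card H * piN H g := by
  unfold conjCount piN
  rw [← Nat.card_prod,
    ← Nat.card_congr (QuotientGroup.preimageMkEquivSubgroupProdSet H (MulAction.fixedBy (G ⧸ H) g))]
  have key : ∀ y : G, y⁻¹ * g * y ∈ H ↔ (QuotientGroup.mk y : G ⧸ H) ∈ MulAction.fixedBy (G ⧸ H) g := by
    intro y
    rw [MulAction.mem_fixedBy]
    change _ ↔ (QuotientGroup.mk (g * y) : G ⧸ H) = QuotientGroup.mk y
    rw [QuotientGroup.eq]
    constructor
    · intro h
      have := H.inv_mem h
      convert this using 1; group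
    · intro h
      have := H.inv_mem h
      convert this using 1; group
  exact Nat.card_congr (Equiv.subtypeEquivRight key)

theorem indFun_one_eq_piN {G : Type*} [Group G] [Fintype G] (H : Subgroup G) (g : G) :
    Cfsg.indFun H (fun _ => (1 : ℂ)) g = (piN H g : ℂ) := by
  rw [indFun_one_apply, conjCount_eq_card_mul_piN]
  have hH : (Nat.card H : ℂ) ≠ 0 := by exact_mod_cast (Nat.card_pos (α := H)).ne'
  push_cast
  rw [← mul_assoc, inv_mul_cancel₀ hH, one_mul]

end Cfsg.Agent.helper5
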