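import Cfsg.Statements.S0869
import Mathlib
-- import your own Cfsg.Agent.* helpers here

set_option autoImplicit false
open Cfsg

namespace Cfsg.Agent.S0869

theorem prod_aux {S : Type*} (R : AddSubgroup (S → ℤ)) (hmul : ∀ f ∈ R, ∀ g ∈ R, f * g ∈ R)
    (F : S → (S → ℤ)) (hF : ∀ x, F x ∈ R) (T : Finset S) :
    ∃ g ∈ R, ∏ x ∈ T, (1 - F x) = 1 - g := by
  classical
  induction T using Finset.induction_on with
  | empty => exact ⟨0, R.zero_mem, by simp⟩
  | insert a T ha ih =>
    obtain ⟨g, hg, hprod⟩ := ih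
    refine ⟨F a + g - F a * g, ?_, ?_⟩
    · exact R.sub_mem (R.add_mem (hF a) hg) (hmul _ (hF a) _ hg)
    · rw [Finset.prod_insert ha, hprod]; ring

theorem result {S : Type*} [Finite S] [Nonempty S] (R : AddSubgroup (S → ℤ)) (hmul : ∀ f ∈ R, ∀ g ∈ R, f * g ∈ R) (h1 : (1 : S → ℤ) ∉ R) : ∃ (x : S) (p : ℕ), p.Prime ∧ ∀ f ∈ R, (p : ℤ) ∣ f x := by
  classical
  have := Fintype.ofFinite S
  by_contra hcon
  push Not at hcon
  -- for every x there is f ∈ R with f x = 1
  have key : ∀ x : S, ∃ f ∈ R, f x = 1 := by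
    intro x
    -- the image of evaluation at x is an additive subgroup of ℤ
    let I : AddSubgroup ℤ := R.map (Pi.evalAddMonoidHom (fun _ : S => ℤ) x)
    obtain ⟨d, hd⟩ : ∃ d : ℤ, I = AddSubgroup.zmultiples d := by
      obtain ⟨d, hd⟩ := Int.subgroup_cyclic I
      exact ⟨d, by rw [hd]; exact (AddSubgroup.zmultiples_eq_closure d).symm⟩
    have hmemI : ∀ f ∈ R, d ∣ f x := by
      intro f hf
      have : f x ∈ I := ⟨f, hf, rfl⟩
      rw [hd] at this
      exact Int.mem_zmultiples_iff.mp this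
    by_cases hd1 : d.natAbs = 1
    · have hdI : d ∈ I := by rw [hd]; exact AddSubgroup.mem_zmultiples d
      obtain ⟨f, hf, hfx⟩ := hdI
      have hfx' : f x = d := hfx
      rcases Int.natAbs_eq d with h | h
      · refine ⟨f, hf, ?_⟩
        rw [hfx', h, hd1]; rfl
      · refine ⟨-f, R.neg_mem hf, ?_⟩
        simp only [Pi.neg_apply]
        rw [hfx', h, hd1]; simp
    · exfalso
      obtain ⟨p, hp, hpd⟩ := Nat.exists_prime_and_dvd hd1
      obtain ⟨f, hf, hfp⟩ := hcon x p hp
      apply hfp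
      have h2 : (p : ℤ) ∣ d := Int.natCast_dvd.mpr hpd
      exact dvd_trans h2 (hmemI f hf)
  choose F hFR hFx using key
  obtain ⟨g, hg, hprod⟩ := prod_aux R hmul F hFR Finset.univ
  have hzero : ∏ x : S, (1 - F x) = 0 := by
    funext y
    rw [Finset.prod_apply]
    apply Finset.prod_eq_zero (Finset.mem_univ y)
    simp [hFx y]
  rw [hzero] at hprod
  have : g = 1 := by
    have := sub_eq_zero.mp hprod.symm
    exact this.symm
  exact h1 (this ▸ hg)

end Cfsg.Agent.S0869
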