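import Mathlib
import Cfsg.Statements.S0870
import Cfsg.Agent.Lib_helper5_Perm

set_option autoImplicit false
open Cfsg

namespace Cfsg.Agent.S0870

open Cfsg.Agent.helper5

theorem conjCount_eq {G : Type*} [Group G] [Fintype G] (U : Subgroup G) (g : G) :
    (conjCount U g : ℂ) = (Nat.card U : ℂ) * Cfsg.indFun U (fun _ => (1 : ℂ)) g := by
  have hU : (Nat.card U : ℂ) ≠ 0 := by exact_mod_cast (Nat.card_pos (α := U)).ne'
  rw [indFun_one_apply, ← mul_assoc, mul_inv_cancel₀ hU, one_mul]

/-- For subgroups H and K of a finite group G, the pointwise product of the functions induced from the constant function 1 on H and on K is a sum, over subgroups U of H with natural-number coefficients, of the functions induced from the constant function 1 on U. -/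
theorem result {G : Type*} [Group G] [Fintype G] (H K : Subgroup G) : ∃ a : Subgroup G → ℕ, (∀ U, a U ≠ 0 → U ≤ H) ∧ Cfsg.indFun H (fun _ => 1) * Cfsg.indFun K (fun _ => 1) = ∑ U : Subgroup G, (a U : ℂ) • Cfsg.indFun U (fun _ => 1) := by
  classical
  let Q := DoubleCoset.Quotient (H : Set G) (K : Set G)
  haveI : Finite Q := Quotient.finite _
  haveI : Fintype Q := Fintype.ofFinite Q
  let Uq : Q → Subgroup G := fun q => H ⊓ cj q.out K
  refine ⟨fun U => (Finset.univ.filter (fun q : Q => Uq q = U)).card, ?_, ?_⟩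
  · intro U hU
    obtain ⟨q, hq⟩ := Finset.card_pos.mp (Nat.pos_of_ne_zero hU)
    rw [← (Finset.mem_filter.mp hq).2]
    exact inf_le_left
  · funext g
    rw [Pi.mul_apply, Finset.sum_apply]
    simp only [Pi.smul_apply, smul_eq_mul]
    have hR : ∑ U : Subgroup G, ((Finset.univ.filter (fun q : Q => Uq q = U)).card : ℂ) *
        Cfsg.indFun U (fun _ => (1 : ℂ)) g = ∑ q : Q, Cfsg.indFun (Uq q) (fun _ => (1 : ℂ)) g := by
      rw [← Finset.sum_fiberwise (s := Finset.univ) (g := Uq)
        (f := fun q => Cfsg.indFun (Uq q) (fun _ => (1 : ℂ)) g)]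
      apply Finset.sum_congr rfl
      intro U _
      rw [Finset.sum_congr rfl (fun q hq => by rw [(Finset.mem_filter.mp hq).2]),
        Finset.sum_const, nsmul_eq_mul]
    rw [hR]
    have hH : (Nat.card H : ℂ) ≠ 0 := by exact_mod_cast (Nat.card_pos (α := H)).ne'
    have hK : (Nat.card K : ℂ) ≠ 0 := by exact_mod_cast (Nat.card_pos (α := K)).ne'
    have hL : Cfsg.indFun H (fun _ => (1 : ℂ)) g * Cfsg.indFun K (fun _ => (1 : ℂ)) g =
        ((Nat.card H : ℂ) * (Nat.card K : ℂ))⁻¹ *
          ∑ z : G, (conjCount (H ⊓ cj z K) g : ℂ) := by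
      rw [indFun_one_apply, indFun_one_apply]
      have := conjCount_mul H K g
      have h2 : ((conjCount H g : ℂ) * (conjCount K g : ℂ)) =
          ∑ z : G, (conjCount (H ⊓ cj z K) g : ℂ) := by exact_mod_cast this
      rw [← h2, mul_inv]
      ring
    rw [hL]
    -- group by double cosets
    have hS : ∑ z : G, (conjCount (H ⊓ cj z K) g : ℂ) =
        ∑ q : Q, ((Nat.card H : ℂ) * (Nat.card K : ℂ)) *
          Cfsg.indFun (Uq q) (fun _ => (1 : ℂ)) g := by
      rw [← Finset.sum_fiberwise (s := Finset.univ) (g := fun z : G => (DoubleCoset.mk H K z : Q))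
        (f := fun z => (conjCount (H ⊓ cj z K) g : ℂ))]
      apply Finset.sum_congr rfl
      intro q _
      have hfilt : (Finset.univ.filter (fun z : G => (DoubleCoset.mk H K z : Q) = q)) =
          Finset.univ.filter (fun z : G => ∃ h ∈ H, ∃ k ∈ K, z = h * q.out * k) := by
        apply Finset.filter_congr
        intro z _
        rw [← DoubleCoset.eq H K q.out z, DoubleCoset.out_eq']
        exact eq_comm
      rw [hfilt]
      have hterm : ∀ z ∈ Finset.univ.filter (fun z : G => ∃ h ∈ H, ∃ k ∈ K, z = h * q.out * k),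
          (conjCount (H ⊓ cj z K) g : ℂ) =
            (Nat.card ↥(H ⊓ cj z K) : ℂ) * Cfsg.indFun (Uq q) (fun _ => (1 : ℂ)) g := by
        intro z hz
        obtain ⟨h, hh, k, hk, rfl⟩ := (Finset.mem_filter.mp hz).2
        rw [conjCount_eq, inf_cj_mul H K h k q.out hh hk, indFun_one_cj]
      rw [Finset.sum_congr rfl hterm, ← Finset.sum_mul]
      congr 1
      have := sum_card_inf_cj H K q.out
      exact_mod_cast this
    rw [hS, ← Finset.mul_sum, ← mul_assoc, inv_mul_cancel₀ (mul_ne_zero hH hK), one_mul]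

end Cfsg.Agent.S0870
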