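import Mathlib
import Cfsg.Prelude.Def_Characters
import Cfsg.Agent.Lib_helper5_Perm

set_option autoImplicit false

namespace Cfsg.Agent.helper5

/-- A `p`-subgroup of `N` lies in a `p`-subgroup of `N` of index prime to `p` in `N`. -/
theorem exists_sylow_in_subgroup {G : Type*} [Group G] [Finite G] (p : ℕ) [Fact p.Prime]
    (N K : Subgroup G) (hKN : K ≤ N) (hK : IsPGroup p K) :
    ∃ P : Subgroup G, K ≤ P ∧ P ≤ N ∧ IsPGroup p P ∧ ¬ p ∣ P.relIndex N := by
  have hK' : IsPGroup p (K.subgroupOf N) := hK.comap_subtype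
  obtain ⟨Q, hQ⟩ := hK'.exists_le_sylow
  refine ⟨Q.1.map N.subtype, ?_, Subgroup.map_subtype_le _, Q.2.map N.subtype, ?_⟩
  · rw [← Subgroup.map_subgroupOf_eq_of_le hKN]
    exact Subgroup.map_mono hQ
  · have : (Q.1.map N.subtype).relIndex N = Q.1.index := by
      change ((Q.1.map N.subtype).comap N.subtype).index = _
      rw [Subgroup.comap_map_eq_self_of_injective (Subgroup.subtype_injective _)]
    rw [this]
    exact Q.not_dvd_index

/-- Second isomorphism theorem, index form. -/
theorem relIndex_sup_of_le_normalizer {G : Type*} [Group G] (P C : Subgroup G)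
    (hLE : P ≤ Subgroup.normalizer (C : Set G)) : C.relIndex (P ⊔ C) = C.relIndex P := by
  letI := Subgroup.normal_subgroupOf_of_le_normalizer hLE
  letI := Subgroup.normal_subgroupOf_sup_of_le_normalizer hLE
  exact Nat.card_congr (QuotientGroup.quotientInfEquivProdNormalizerQuotient P C hLE).toEquiv.symm

/-- In a group `H` with a normal subgroup `C` of `p`-power index, the elements of order prime to
`p` lie in `C`. -/
theorem mem_of_coprime_orderOf {G : Type*} [Group G] (p k : ℕ) (C H : Subgroup G)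
    (hHN : H ≤ Subgroup.normalizer (C : Set G)) (hidx : C.relIndex H = p ^ k)
    (h : G) (hh : h ∈ H) (hcop : Nat.Coprime (orderOf h) p) : h ∈ C := by
  haveI : (C.subgroupOf H).Normal := Subgroup.normal_subgroupOf_of_le_normalizer hHN
  have h1 := Subgroup.pow_index_mem (C.subgroupOf H) (⟨h, hh⟩ : H)
  have h2 : (C.subgroupOf H).index = p ^ k := hidx
  rw [h2, Subgroup.mem_subgroupOf] at h1
  have h3 : h ^ (p ^ k) ∈ C := by simpa using h1
  have hc : Nat.Coprime (p ^ k) (orderOf h) := (Nat.Coprime.pow_right k hcop).symm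
  obtain ⟨s, hs⟩ := exists_pow_eq_self_of_coprime hc
  rw [← hs]
  exact C.pow_mem h3 s

/-- Fixed points of a cyclic group on a coset space. -/
theorem mk_mem_fixedPoints_zpowers {N : Type*} [Group N] (H : Subgroup N) (t y : N) :
    (QuotientGroup.mk y : N ⧸ H) ∈ MulAction.fixedPoints (Subgroup.zpowers t) (N ⧸ H) ↔
      y⁻¹ * t * y ∈ H := by
  rw [MulAction.mem_fixedPoints]
  constructor
  · intro h
    have h1 : (QuotientGroup.mk (t * y) : N ⧸ H) = QuotientGroup.mk y :=
      h ⟨t, Subgroup.mem_zpowers t⟩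
    rw [QuotientGroup.eq] at h1
    have h2 := H.inv_mem h1
    convert h2 using 1
    group
  · intro h a
    obtain ⟨j, hj⟩ := Subgroup.mem_zpowers_iff.mp a.2
    change (QuotientGroup.mk ((a : N) * y) : N ⧸ H) = QuotientGroup.mk y
    rw [QuotientGroup.eq]
    rw [← hj]
    have h2 : (y⁻¹ * t * y) ^ (-j) ∈ H := H.zpow_mem h _
    convert h2 using 1
    have := conj_zpow (i := -j) (a := y⁻¹) (b := t)
    rw [inv_inv] at this
    rw [this, zpow_neg]
    group

/-- The counting lemma: conjugators of `x` into `H`, all lying in `N`, counted via the fixed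
points of a `p`-element `t` on `N / H`. -/
theorem conjCount_eq_card_mul {G : Type*} [Group G] [Finite G] (p : ℕ) [Fact p.Prime]
    (N H : Subgroup G) (hHN : H ≤ N) (x t : G) (ht : t ∈ N)
    (htp : IsPGroup p (Subgroup.zpowers t))
    (hN : ∀ y : G, y⁻¹ * x * y ∈ H → y ∈ N)
    (hiff : ∀ y ∈ N, (y⁻¹ * x * y ∈ H ↔ y⁻¹ * t * y ∈ H))
    (hidx : ¬ p ∣ H.relIndex N) :
    ∃ n : ℕ, conjCount H x = Nat.card H * n ∧ ¬ p ∣ n := by
  classical
  let H' : Subgroup N := H.subgroupOf N
  let t' : N := ⟨t, ht⟩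
  have htp' : IsPGroup p (Subgroup.zpowers t') := by
    obtain ⟨e, he⟩ := (IsPGroup.iff_card (p := p)).mp htp
    apply IsPGroup.of_card (n := e)
    rw [Nat.card_zpowers] at he ⊢
    rw [Subgroup.orderOf_mk]
    exact he
  let F : Set (N ⧸ H') := MulAction.fixedPoints (Subgroup.zpowers t') (N ⧸ H')
  have hmod := htp'.card_modEq_card_fixedPoints (N ⧸ H')
  have hcardQ : Nat.card (N ⧸ H') = H.relIndex N := (Subgroup.index_eq_card H').symm
  refine ⟨Nat.card F, ?_, ?_⟩
  · have h1 : Nat.card (QuotientGroup.mk ⁻¹' F : Set N) = Nat.card H' * Nat.card F := by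
      rw [Nat.card_congr (QuotientGroup.preimageMkEquivSubgroupProdSet H' F), Nat.card_prod]
    have h2 : Nat.card H' = Nat.card H := by
      exact Nat.card_congr (Subgroup.subgroupOfEquivOfLe hHN).toEquiv
    rw [← h2, ← h1]
    unfold conjCount
    refine Nat.card_congr
      { toFun := fun y => ⟨⟨y.1, hN y.1 y.2⟩, by
          rw [Set.mem_preimage]
          change (QuotientGroup.mk _ : N ⧸ H') ∈ MulAction.fixedPoints _ _
          rw [mk_mem_fixedPoints_zpowers, Subgroup.mem_subgroupOf]
          exact (hiff y.1 (hN y.1 y.2)).mp y.2⟩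
        invFun := fun z => ⟨z.1.1, by
          have hz := z.2
          rw [Set.mem_preimage] at hz
          change (QuotientGroup.mk _ : N ⧸ H') ∈ MulAction.fixedPoints _ _ at hz
          rw [mk_mem_fixedPoints_zpowers, Subgroup.mem_subgroupOf] at hz
          exact (hiff z.1.1 z.1.2).mpr hz⟩
        left_inv := fun y => rfl
        right_inv := fun z => rfl }
  · intro hdvd
    apply hidx
    rw [← hcardQ]
    exact (Nat.modEq_zero_iff_dvd.mp (hmod.trans (Nat.modEq_zero_iff_dvd.mpr hdvd)))

end Cfsg.Agent.helper5
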