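import Mathlib
import Cfsg.Statements.S0871
import Cfsg.Agent.Lib_helper5_QuasiElem

set_option autoImplicit false
open Cfsg

namespace Cfsg.Agent.S0871

open Cfsg.Agent.helper5

/-- Let x be an element of the finite group G and p a prime. Then there is a subgroup H having a cyclic normal subgroup C of order prime to p and p-power index in H, such that the value at x of the function induced from the constant function 1 on H is a natural number not divisible by p. -/
theorem result {G : Type*} [Group G] [Fintype G] (x : G) (p : ℕ) (hp : p.Prime) : ∃ H : Subgroup G, (∃ C : Subgroup G, C ≤ H ∧ H ≤ Subgroup.normalizer (C : Set G) ∧ IsCyclic C ∧ Nat.Coprime (Nat.card C) p ∧ ∃ k : ℕ, C.relIndex H = p ^ k) ∧ ∃ n : ℕ, Cfsg.indFun H (fun _ => 1) x = (n : ℂ) ∧ ¬ p ∣ n := by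
  classical
  haveI : Fact p.Prime := ⟨hp⟩
  obtain ⟨e, m, hm, hn⟩ := Nat.exists_eq_pow_mul_and_not_dvd (orderOf_pos x).ne' p hp.ne_one
  have hpe : p ^ e ≠ 0 := pow_ne_zero _ hp.ne_zero
  have hm0 : m ≠ 0 := by
    rintro rfl
    exact hm (dvd_zero p)
  set c : G := x ^ (p ^ e) with hc
  set t : G := x ^ m with ht
  have hoc : orderOf c = m := by
    rw [hc, orderOf_pow_of_dvd hpe ⟨m, hn⟩, hn, Nat.mul_div_cancel_left _ (Nat.pos_of_ne_zero hpe)]
  have hot : orderOf t = p ^ e := by
    rw [ht, orderOf_pow_of_dvd hm0 ⟨p ^ e, by rw [hn, mul_comm]⟩, hn,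
      Nat.mul_div_cancel _ (Nat.pos_of_ne_zero hm0)]
  have hcopm : Nat.Coprime m p := ((Nat.Prime.coprime_iff_not_dvd hp).mpr hm).symm
  let C : Subgroup G := Subgroup.zpowers c
  have hCcard : Nat.card C = m := by rw [Nat.card_zpowers, hoc]
  let N : Subgroup G := Subgroup.normalizer (C : Set G)
  -- x normalizes C
  have hxN : x ∈ N := by
    apply Subgroup.centralizer_le_normalizer
    rw [Subgroup.mem_centralizer_iff]
    intro z hz
    obtain ⟨j, rfl⟩ := Subgroup.mem_zpowers_iff.mp hz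
    exact ((Commute.refl x).pow_right _).zpow_right j |>.symm.eq
  have htN : t ∈ N := N.pow_mem hxN m
  have htp : IsPGroup p (Subgroup.zpowers t) := by
    apply IsPGroup.of_card (n := e)
    rw [Nat.card_zpowers, hot]
  obtain ⟨P, hP0, hPN, hPp, hPidx⟩ := exists_sylow_in_subgroup p N (Subgroup.zpowers t)
    ((Subgroup.zpowers_le).mpr htN) htp
  let H : Subgroup G := P ⊔ C
  have hCH : C ≤ H := le_sup_right
  have hPH : P ≤ H := le_sup_left
  have hHN : H ≤ N := sup_le hPN Subgroup.le_normalizer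
  -- the index
  have hrel : ∃ k : ℕ, C.relIndex H = p ^ k := by
    have h1 : C.relIndex H = C.relIndex P := relIndex_sup_of_le_normalizer P C hPN
    obtain ⟨a, ha⟩ := (IsPGroup.iff_card (p := p)).mp hPp
    have h2 : C.relIndex P ∣ p ^ a := ha ▸ Subgroup.relIndex_dvd_card C P
    obtain ⟨k, _, hk⟩ := (Nat.dvd_prime_pow hp).mp h2
    exact ⟨k, h1.trans hk⟩
  obtain ⟨k, hk⟩ := hrel
  -- x = c^A * t^B
  have hbez : ∃ A B : ℤ, x = c ^ A * t ^ B := by
    have hg : Nat.gcd (p ^ e) m = 1 := (Nat.Coprime.pow_left e hcopm.symm)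
    have := Nat.gcd_eq_gcd_ab (p ^ e) m
    rw [hg] at this
    refine ⟨Nat.gcdA (p ^ e) m, Nat.gcdB (p ^ e) m, ?_⟩
    rw [hc, ht, ← zpow_natCast x (p ^ e), ← zpow_natCast x m, ← zpow_mul, ← zpow_mul, ← zpow_add,
      ← this]
    simp
  obtain ⟨A, B, hAB⟩ := hbez
  have htH : t ∈ H := hPH (hP0 (Subgroup.mem_zpowers t))
  have hcC : c ∈ C := Subgroup.mem_zpowers c
  -- conjugators lie in N
  have hN : ∀ y : G, y⁻¹ * x * y ∈ H → y ∈ N := by
    intro y hy
    have hc' : y⁻¹ * c * y ∈ H := by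
      have := H.pow_mem hy (p ^ e)
      have h2 := conj_pow (i := p ^ e) (a := y⁻¹) (b := x)
      rw [inv_inv] at h2
      rw [h2] at this
      exact this
    have hord : orderOf (y⁻¹ * c * y) = m := by
      have := (MulAut.conj y⁻¹).orderOf_eq c
      rw [MulAut.conj_apply, inv_inv] at this
      rw [this, hoc]
    have hc'C : y⁻¹ * c * y ∈ C :=
      mem_of_coprime_orderOf p k C H hHN hk _ hc' (by rw [hord]; exact hcopm)
    have hyinv : y⁻¹ ∈ N := by
      apply Subgroup.mem_normalizer_fintype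
      intro z hz
      obtain ⟨j, rfl⟩ := Subgroup.mem_zpowers_iff.mp hz
      have h2 := conj_zpow (i := j) (a := y⁻¹) (b := c)
      rw [← h2]
      rw [inv_inv]
      exact C.zpow_mem hc'C j
    have := N.inv_mem hyinv
    rwa [inv_inv] at this
  have hiff : ∀ y ∈ N, (y⁻¹ * x * y ∈ H ↔ y⁻¹ * t * y ∈ H) := by
    intro y hy
    constructor
    · intro h
      have := H.pow_mem h m
      have h2 := conj_pow (i := m) (a := y⁻¹) (b := x)
      rw [inv_inv] at h2
      rwa [h2] at this
    · intro h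
      have h1 : y⁻¹ * c ^ A * y ∈ H := by
        apply hCH
        exact (Subgroup.mem_normalizer_iff''.mp hy _).mp (C.zpow_mem hcC A)
      have h2 : y⁻¹ * t ^ B * y ∈ H := by
        have := H.zpow_mem h B
        have h3 := conj_zpow (i := B) (a := y⁻¹) (b := t)
        rw [inv_inv] at h3
        rwa [h3] at this
      have : y⁻¹ * x * y = (y⁻¹ * c ^ A * y) * (y⁻¹ * t ^ B * y) := by
        rw [hAB]; group
      rw [this]
      exact H.mul_mem h1 h2
  have hHidx : ¬ p ∣ H.relIndex N := fun h =>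
    hPidx (h.trans (Subgroup.relIndex_dvd_of_le_left N hPH))
  obtain ⟨n, hn1, hn2⟩ := conjCount_eq_card_mul p N H hHN x t htN htp hN hiff hHidx
  refine ⟨H, ⟨C, hCH, hHN, ?_, ?_, k, hk⟩, n, ?_, hn2⟩
  · infer_instance
  · rw [hCcard]; exact hcopm
  · rw [indFun_one_apply, hn1]
    have hH : (Nat.card H : ℂ) ≠ 0 := by exact_mod_cast (Nat.card_pos (α := H)).ne'
    push_cast
    rw [← mul_assoc, inv_mul_cancel₀ hH, one_mul]

end Cfsg.Agent.S0871
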