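import Mathlib
import Cfsg.Statements.S0872
import Cfsg.Agent.Lib_helper5_QE
import Cfsg.Agent.S0869
import Cfsg.Agent.S0870
import Cfsg.Agent.S0871

set_option autoImplicit false
open Cfsg

namespace Cfsg.Agent.S0872

open Cfsg.Agent.helper5

/-- The integer-valued permutation character. -/
noncomputable def piZ {G : Type*} [Group G] (H : Subgroup G) : G → ℤ := fun g => (piN H g : ℤ)

theorem piZ_cast {G : Type*} [Group G] [Fintype G] (H : Subgroup G) (g : G) :
    ((piZ H g : ℤ) : ℂ) = Cfsg.indFun H (fun _ => (1 : ℂ)) g := by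
  rw [indFun_one_eq_piN]
  simp [piZ]

/-- The `ℤ`-module of combinations of permutation characters of quasi-elementary subgroups. -/
noncomputable def V {G : Type*} [Group G] [Fintype G] (p : ℕ) : Submodule ℤ (G → ℤ) where
  carrier := {f | ∃ a : Subgroup G → ℤ, (∀ H, a H ≠ 0 → IsQE p H) ∧
    f = ∑ H : Subgroup G, a H • piZ H}
  add_mem' := by
    rintro f f' ⟨a, ha, rfl⟩ ⟨a', ha', rfl⟩
    refine ⟨a + a', ?_, ?_⟩
    · intro H hH
      by_cases h : a H = 0
      · apply ha'
        intro h'
        apply hH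
        simp [h, h']
      · exact ha H h
    · rw [← Finset.sum_add_distrib]
      apply Finset.sum_congr rfl
      intro H _
      rw [Pi.add_apply, add_smul]
  zero_mem' := ⟨0, by simp, by simp⟩
  smul_mem' := by
    rintro z f ⟨a, ha, rfl⟩
    refine ⟨z • a, ?_, ?_⟩
    · intro H hH
      apply ha
      intro h
      apply hH
      simp [h]
    · rw [Finset.smul_sum]
      apply Finset.sum_congr rfl
      intro H _
      rw [Pi.smul_apply, smul_assoc]

theorem piZ_mem_V {G : Type*} [Group G] [Fintype G] (p : ℕ) (H : Subgroup G) (hH : IsQE p H) :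
    piZ H ∈ V (G := G) p := by
  classical
  refine ⟨fun K => if K = H then 1 else 0, ?_, ?_⟩
  · intro K hK
    by_cases h : K = H
    · rw [h]; exact hH
    · simp [h] at hK
  · simp

theorem piZ_mul_mem_V {G : Type*} [Group G] [Fintype G] (p : ℕ) (hp : p.Prime)
    (H K : Subgroup G) (hH : IsQE p H) : piZ H * piZ K ∈ V (G := G) p := by
  obtain ⟨a, ha, hprod⟩ := Cfsg.Agent.S0870.result H K
  have : piZ H * piZ K = ∑ U : Subgroup G, (a U : ℤ) • piZ U := by
    funext g
    have h := congrFun hprod g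
    rw [Pi.mul_apply, Finset.sum_apply] at h
    simp only [Pi.smul_apply, smul_eq_mul] at h
    rw [← piZ_cast, ← piZ_cast] at h
    rw [Finset.sum_congr rfl (fun U _ => by rw [← piZ_cast])] at h
    rw [Pi.mul_apply, Finset.sum_apply]
    simp only [Pi.smul_apply, smul_eq_mul]
    have h2 : ((piZ H g * piZ K g : ℤ) : ℂ) = ((∑ U : Subgroup G, (a U : ℤ) * piZ U g : ℤ) : ℂ) := by
      push_cast
      exact h
    exact_mod_cast h2
  rw [this]
  apply Submodule.sum_mem
  intro U _
  by_cases hU : a U = 0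
  · rw [hU]
    simp
  · apply Submodule.smul_mem
    exact piZ_mem_V p U (hH.of_le hp (ha U hU))

/-- For a finite group G and a prime p there are an integer m not divisible by p and a ℤ-linear combination of functions induced from the constant function 1 on subgroups H, each having a cyclic normal subgroup of order prime to p and p-power index in H, that equals the constant function m. -/
theorem result {G : Type*} [Group G] [Fintype G] (p : ℕ) (hp : p.Prime) : ∃ (m : ℤ) (a : Subgroup G → ℤ), ¬ (p : ℤ) ∣ m ∧ (∀ H, a H ≠ 0 → (∃ C : Subgroup G, C ≤ H ∧ H ≤ Subgroup.normalizer (C : Set G) ∧ IsCyclic C ∧ Nat.Coprime (Nat.card C) p ∧ ∃ k : ℕ, C.relIndex H = p ^ k)) ∧ (fun _ : G => (m : ℂ)) = ∑ H : Subgroup G, (a H : ℂ) • Cfsg.indFun H (fun _ => 1) := by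
  classical
  let Pc : G → ℤ := fun _ => (p : ℤ)
  let M : Submodule ℤ (G → ℤ) := V p ⊔ Submodule.span ℤ {Pc}
  let R : AddSubgroup (G → ℤ) := M.toAddSubgroup
  have hVmul : ∀ f ∈ V (G := G) p, ∀ f' ∈ V (G := G) p, f * f' ∈ V (G := G) p := by
    rintro f ⟨a, ha, rfl⟩ f' ⟨a', ha', rfl⟩
    rw [Finset.sum_mul]
    apply Submodule.sum_mem
    intro H _
    rw [Finset.mul_sum]
    apply Submodule.sum_mem
    intro K _
    by_cases hH : a H = 0
    · rw [hH]
      simp
    · have := piZ_mul_mem_V p hp H K (ha H hH)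
      have e : a H • piZ H * a' K • piZ K = (a H * a' K) • (piZ H * piZ K) := by
        rw [smul_mul_smul_comm]
      rw [e]
      exact Submodule.smul_mem _ _ this
  have hPV : ∀ f ∈ V (G := G) p, Pc * f ∈ V (G := G) p := by
    intro f hf
    have : Pc * f = (p : ℤ) • f := by
      funext g
      simp [Pc]
    rw [this]
    exact Submodule.smul_mem _ _ hf
  have hmul : ∀ f ∈ R, ∀ g ∈ R, f * g ∈ R := by
    intro f hf f' hf'
    obtain ⟨v, hv, w, hw, rfl⟩ := Submodule.mem_sup.mp hf
    obtain ⟨v', hv', w', hw', rfl⟩ := Submodule.mem_sup.mp hf'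
    obtain ⟨z, rfl⟩ := Submodule.mem_span_singleton.mp hw
    obtain ⟨z', rfl⟩ := Submodule.mem_span_singleton.mp hw'
    apply Submodule.mem_sup.mpr
    refine ⟨v * v' + z' • (Pc * v) + z • (Pc * v'), ?_, (z * z' * p) • Pc, ?_, ?_⟩
    · exact Submodule.add_mem _ (Submodule.add_mem _ (hVmul v hv v' hv')
        (Submodule.smul_mem _ _ (hPV v hv))) (Submodule.smul_mem _ _ (hPV v' hv'))
    · exact Submodule.smul_mem _ _ (Submodule.mem_span_singleton_self _)
    · funext g
      simp only [Pi.add_apply, Pi.mul_apply, Pi.smul_apply, smul_eq_mul, Pc]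
      ring
  have h1 : (1 : G → ℤ) ∈ R := by
    by_contra h1
    obtain ⟨x, q, hq, hdiv⟩ := Cfsg.Agent.S0869.result R hmul h1
    have hPc : Pc ∈ R := Submodule.mem_sup_right (Submodule.mem_span_singleton_self _)
    have hqp : (q : ℤ) ∣ (p : ℤ) := hdiv Pc hPc
    have hqp' : q = p := (Nat.prime_dvd_prime_iff_eq hq hp).mp (Int.natCast_dvd_natCast.mp hqp)
    subst hqp'
    obtain ⟨H, hHQE, n, hn, hpn⟩ := Cfsg.Agent.S0871.result x q hp
    have hmem : piZ H ∈ R := Submodule.mem_sup_left (piZ_mem_V q H hHQE)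
    have hd := hdiv _ hmem
    have : piZ H x = (n : ℤ) := by
      have h2 := piZ_cast H x
      rw [hn] at h2
      exact_mod_cast h2
    rw [this] at hd
    exact hpn (Int.natCast_dvd_natCast.mp hd)
  obtain ⟨v, hv, w, hw, hsum⟩ := Submodule.mem_sup.mp h1
  obtain ⟨z, rfl⟩ := Submodule.mem_span_singleton.mp hw
  obtain ⟨a, ha, rfl⟩ := hv
  refine ⟨1 - z * p, a, ?_, ha, ?_⟩
  · intro hd
    have h2 : (p : ℤ) ∣ z * p := dvd_mul_left _ _
    have h3 : (p : ℤ) ∣ 1 := by
      have := dvd_add hd h2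
      simpa using this
    have h4 : p ∣ 1 := by exact_mod_cast h3
    exact hp.one_lt.ne' (Nat.dvd_one.mp h4)
  · funext g
    have hg := congrFun hsum g
    rw [Pi.add_apply, Finset.sum_apply] at hg
    simp only [Pi.smul_apply, smul_eq_mul, Pi.one_apply, Pc] at hg
    rw [Finset.sum_apply]
    simp only [Pi.smul_apply, smul_eq_mul]
    rw [Finset.sum_congr rfl (fun H _ => by rw [← piZ_cast])]
    have h5 : (1 - z * (p : ℤ)) = ∑ H : Subgroup G, a H * piZ H g := by
      rw [← hg]; ring
    rw [h5]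
    push_cast
    rfl

end Cfsg.Agent.S0872
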