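import Mathlib
import Cfsg.Statements.S0873
import Cfsg.Agent.Lib_helper23_Linear

set_option autoImplicit false
open Cfsg

namespace Cfsg.Agent.S0873

/-- Core: a multiplicative function on a normal subgroup `C` of order prime to `p`, invariant under
conjugation by a `p`-subgroup `P` and trivial on `C_C(P)`, is trivial. -/
theorem core {G : Type*} [Group G] [Finite G] (p : ℕ) [Fact p.Prime] (C P : Subgroup G)
    (hC : C.Normal) (hP : IsPGroup p P) (hcop : Nat.Coprime (Nat.card C) p) (f : C →* ℂ)
    (hinv : ∀ (g : G) (c : C), f ⟨g * c * g⁻¹, hC.conj_mem (c : G) c.2 g⟩ = f c)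
    (hker : ∀ c : C, (c : G) ∈ Subgroup.centralizer (P : Set G) → f c = 1) (c : C) :
    f c = 1 := by
  classical
  -- the fibre
  let F := {c' : C // f c' = f c}
  let K : Subgroup C := f.toHomUnits.ker
  have hK : ∀ k : C, k ∈ K ↔ f k = 1 := by
    intro k
    rw [MonoidHom.mem_ker, Units.ext_iff, MonoidHom.coe_toHomUnits, Units.val_one]
  have hfinv : f c⁻¹ * f c = 1 := by rw [← map_mul, inv_mul_cancel, map_one]
  have hcard : Nat.card F = Nat.card K := by
    refine Nat.card_congr
      { toFun := fun c' => ⟨c⁻¹ * c'.1, ?_⟩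
        invFun := fun k => ⟨c * k.1, ?_⟩
        left_inv := fun c' => by apply Subtype.ext; simp
        right_inv := fun k => by apply Subtype.ext; simp }
    · rw [hK, map_mul, c'.2, hfinv]
    · have := (hK k.1).mp k.2
      rw [map_mul, this, mul_one]
  have hnd : ¬ p ∣ Nat.card F := by
    rw [hcard]
    intro hdvd
    have h1 : p ∣ Nat.card C := hdvd.trans (Subgroup.card_subgroup_dvd_card K)
    have := Nat.Coprime.eq_one_of_dvd hcop.symm h1
    exact (Fact.out : p.Prime).one_lt.ne' this
  -- the action of P on F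
  letI : MulAction P F :=
    { smul := fun x c' => ⟨⟨(x : G) * c'.1 * (x : G)⁻¹, hC.conj_mem _ c'.1.2 _⟩, by
        rw [hinv]; exact c'.2⟩
      one_smul := fun c' => by
        apply Subtype.ext; apply Subtype.ext
        change ((1 : P) : G) * c'.1 * ((1 : P) : G)⁻¹ = c'.1
        simp
      mul_smul := fun x y c' => by
        apply Subtype.ext; apply Subtype.ext
        change ((x * y : P) : G) * c'.1 * ((x * y : P) : G)⁻¹ =
          (x : G) * ((y : G) * c'.1 * (y : G)⁻¹) * (x : G)⁻¹
        rw [Subgroup.coe_mul]; group }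
  obtain ⟨c0, hc0⟩ := hP.nonempty_fixed_point_of_prime_not_dvd_card F hnd
  rw [← c0.2]
  apply hker
  rw [Subgroup.mem_centralizer_iff]
  intro x hx
  have := hc0 ⟨x, hx⟩
  have h2 : x * (c0.1 : G) * x⁻¹ = (c0.1 : G) := by
    have h3 := congrArg (fun z : F => ((z.1 : C) : G)) this
    exact h3
  calc x * (c0.1 : G) = x * (c0.1 : G) * x⁻¹ * x := by group
    _ = (c0.1 : G) * x := by rw [h2]

/-- Let C be a normal subgroup of the finite group G of order prime to p and P a p-subgroup with C ⊔ P = G. Let λ be a character of C of degree 1 invariant under conjugation by G and equal to 1 at every element of C centralized by P. Then λ is identically 1. -/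
theorem result {G : Type*} [Group G] [Finite G] (p : ℕ) [Fact p.Prime] (C P : Subgroup G) [hC : C.Normal] (hP : IsPGroup p P) (hcop : Nat.Coprime (Nat.card C) p) (hCP : C ⊔ P = ⊤) (lam : C → ℂ) (hlam : Cfsg.IsCharacter C lam ∧ lam 1 = 1) (hinv : ∀ (g : G) (c : C), lam ⟨g * c * g⁻¹, hC.conj_mem (c : G) c.2 g⟩ = lam c) (hker : ∀ c : C, (c : G) ∈ Subgroup.centralizer (P : Set G) → lam c = 1) : lam = fun _ => 1 := by
  funext c
  let f : C →* ℂ :=
    { toFun := lam
      map_one' := hlam.2
      map_mul' := Cfsg.Agent.helper23.linear_char_mul hlam.1 hlam.2 }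
  exact core p C P hC hP hcop f hinv hker c

end Cfsg.Agent.S0873
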