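import Cfsg.Statements.S4798
import Cfsg.Agent.Lib_helper5_Clifford

set_option autoImplicit false
open Cfsg
open Cfsg.Agent.helper24 Cfsg.Agent.helper12 Cfsg.Agent.helper5
open scoped ComplexConjugate

namespace Cfsg.Agent.S4798

/-- the degree of a character is the sum of the degrees of its constituents -/
theorem degree_decomp {G : Type*} [Group G] [Fintype G] [Fintype (IrrCharacter G)] {ψ : G → ℂ}
    (n : IrrCharacter G → ℕ) (h : ψ = ∑ φ : IrrCharacter G, (n φ : ℂ) • (φ : G → ℂ)) :
    ψ 1 = ((∑ φ : IrrCharacter G, n φ * charDegree (φ : G → ℂ) : ℕ) : ℂ) := by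
  conv_lhs => rw [h]
  rw [Finset.sum_apply, Nat.cast_sum]
  apply Finset.sum_congr rfl
  intro φ _
  rw [Pi.smul_apply, smul_eq_mul, Nat.cast_mul, char_charDegree_cast (irr_isCharacter φ.2)]

/-- a character containing `χ` has degree at least that of `χ`; equality forces equality -/
theorem degree_le_of_constituent {G : Type*} [Group G] [Fintype G] {ψ : G → ℂ}
    (hψ : IsCharacter G ψ) (χ : IrrCharacter G) (hin : classInner ψ (χ : G → ℂ) ≠ 0) :
    ∃ d : ℕ, ψ 1 = d ∧ charDegree (χ : G → ℂ) ≤ d ∧ (d = charDegree (χ : G → ℂ) → ψ = χ) := by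
  classical
  have := Fintype.ofFinite (IrrCharacter G)
  obtain ⟨n, hexp, hn, -⟩ := char_decomp hψ
  have hdeg := degree_decomp n hexp
  refine ⟨_, hdeg, ?_, ?_⟩
  · have hnχ : n χ ≠ 0 := by
      intro h0
      apply hin
      rw [hn χ, h0]; simp
    calc charDegree (χ : G → ℂ) ≤ n χ * charDegree (χ : G → ℂ) :=
          Nat.le_mul_of_pos_left _ (Nat.pos_of_ne_zero hnχ)
      _ ≤ _ := Finset.single_le_sum (f := fun φ : IrrCharacter G => n φ * charDegree (φ : G → ℂ))
          (fun _ _ => Nat.zero_le _) (Finset.mem_univ χ)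
  · intro hd
    have hnχ : n χ ≠ 0 := by
      intro h0
      apply hin
      rw [hn χ, h0]; simp
    have hsplit := Finset.add_sum_erase Finset.univ
      (fun φ : IrrCharacter G => n φ * charDegree (φ : G → ℂ)) (Finset.mem_univ χ)
    have hpos : 0 < charDegree (χ : G → ℂ) := irr_charDegree_pos χ.2
    have h1 : n χ * charDegree (χ : G → ℂ) ≥ charDegree (χ : G → ℂ) :=
      Nat.le_mul_of_pos_left _ (Nat.pos_of_ne_zero hnχ)
    have hsplit' : n χ * charDegree (χ : G → ℂ) +
        ∑ φ ∈ Finset.univ.erase χ, n φ * charDegree (φ : G → ℂ) =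
        ∑ φ : IrrCharacter G, n φ * charDegree (φ : G → ℂ) := hsplit
    have hrest : ∑ φ ∈ Finset.univ.erase χ, n φ * charDegree (φ : G → ℂ) = 0 := by
      omega
    have hnχ1 : n χ = 1 := by
      have h2 : n χ * charDegree (χ : G → ℂ) = charDegree (χ : G → ℂ) := by
        omega
      have h3 : n χ * charDegree (χ : G → ℂ) = 1 * charDegree (χ : G → ℂ) := by rw [h2, one_mul]
      exact Nat.eq_of_mul_eq_mul_right hpos h3
    have hzero : ∀ φ : IrrCharacter G, φ ≠ χ → n φ = 0 := by
      intro φ hφ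
      have h2 := (Finset.sum_eq_zero_iff.1 hrest) φ (Finset.mem_erase.2 ⟨hφ, Finset.mem_univ φ⟩)
      have hposφ : 0 < charDegree (φ : G → ℂ) := irr_charDegree_pos φ.2
      rcases Nat.mul_eq_zero.1 h2 with h | h
      · exact h
      · omega
    rw [hexp]
    rw [Finset.sum_eq_single χ]
    · rw [hnχ1]; simp
    · intro φ _ hφ
      rw [hzero φ hφ]; simp
    · intro h; exact absurd (Finset.mem_univ χ) h

/-- Let p be a prime and χ a faithful irreducible complex character of the finite group G (χ(g) = χ(1) only for g = 1), so that its codegree is #G / χ(1). Then #G / χ(1) is a power of p if and only if χ is induced from a character of a Sylow p-subgroup of G. -/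
theorem result {G : Type*} [Group G] [Fintype G] (p : ℕ) [Fact p.Prime] (χ : Cfsg.IrrCharacter G) (hfaith : ∀ g : G, (χ : G → ℂ) g = (χ : G → ℂ) 1 → g = 1) : (∃ k : ℕ, Nat.card G = p ^ k * Cfsg.charDegree (χ : G → ℂ)) ↔ ∃ (P : Sylow p G) (θ : ↥(P : Subgroup G) → ℂ), Cfsg.IsCharacter ↥(P : Subgroup G) θ ∧ (χ : G → ℂ) = Cfsg.indFun (P : Subgroup G) θ := by
  classical
  have hpp : p.Prime := Fact.out
  have hχcl : IsClassFunction G (χ : G → ℂ) := char_isClassFunction (irr_isCharacter χ.2)
  set d := charDegree (χ : G → ℂ) with hd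
  have hdpos : 0 < d := irr_charDegree_pos χ.2
  constructor
  · rintro ⟨k, hk⟩
    obtain ⟨P⟩ : Nonempty (Sylow p G) := inferInstance
    have := Fintype.ofFinite (P : Subgroup G)
    have := Fintype.ofFinite (IrrCharacter (P : Subgroup G))
    set r := (P : Subgroup G).index with hr
    have hrp : ¬ p ∣ r := P.not_dvd_index
    have hcop : Nat.Coprime r p := ((Nat.Prime.coprime_iff_not_dvd hpp).2 hrp).symm
    obtain ⟨s, hs⟩ := (IsPGroup.iff_card.1 P.isPGroup')
    have hGr : Nat.card G = r * p ^ s := by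
      rw [← hs, hr, mul_comm]; exact ((P : Subgroup G).card_mul_index).symm
    -- p^k ∣ p^s
    have hks : p ^ k ∣ p ^ s := by
      have h1 : p ^ k ∣ r * p ^ s := by rw [← hGr, hk]; exact dvd_mul_right _ _
      exact (Nat.Coprime.dvd_mul_left (Nat.Coprime.pow_left k hcop.symm)).1 h1
    have hkle : k ≤ s := (Nat.pow_dvd_pow_iff_le_right hpp.one_lt).1 hks
    set a := s - k with ha
    have hdra : d = r * p ^ a := by
      have h1 : p ^ k * d = p ^ k * (r * p ^ a) := by
        rw [← hk, hGr]
        have : p ^ s = p ^ k * p ^ a := by rw [← pow_add]; congr 1; omega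
        rw [this]; ring
      exact Nat.eq_of_mul_eq_mul_left (pow_pos hpp.pos k) h1
    -- restriction
    have hres : IsCharacter (P : Subgroup G) (fun h : (P : Subgroup G) => (χ : G → ℂ) h) :=
      isCharacter_restrict _ (irr_isCharacter χ.2)
    obtain ⟨m, hmexp, hm, -⟩ := char_decomp hres
    have hdegres := degree_decomp m hmexp
    have hdsum : d = ∑ φ : IrrCharacter (P : Subgroup G), m φ * charDegree (φ : ↥(P : Subgroup G) → ℂ) := by
      have h1 : ((d : ℕ) : ℂ) = (χ : G → ℂ) 1 := char_charDegree_cast (irr_isCharacter χ.2)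
      have h2 : (χ : G → ℂ) ((1 : (P : Subgroup G)) : G) = (χ : G → ℂ) 1 := rfl
      have h3 : ((d : ℕ) : ℂ) = _ := (h1.trans h2.symm).trans hdegres
      exact_mod_cast h3
    -- each constituent has large degree
    have hconst : ∀ φ : IrrCharacter (P : Subgroup G), m φ ≠ 0 →
        ∃ b : ℕ, charDegree (φ : ↥(P : Subgroup G) → ℂ) = p ^ b ∧ a ≤ b ∧
          (b = a → (χ : G → ℂ) = indFun (P : Subgroup G) (φ : ↥(P : Subgroup G) → ℂ)) := by
      intro φ hφ
      have hind : IsCharacter G (indFun (P : Subgroup G) (φ : ↥(P : Subgroup G) → ℂ)) :=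
        isCharacter_indFun _ (irr_isCharacter φ.2)
      have hin : classInner (indFun (P : Subgroup G) (φ : ↥(P : Subgroup G) → ℂ)) (χ : G → ℂ) ≠ 0 := by
        rw [classInner_indFun_eq_restrict _ _ _ hχcl, ← classInner_conj_symm, hm φ]
        simpa using hφ
      obtain ⟨D, hD1, hD2, hD3⟩ := degree_le_of_constituent hind χ hin
      have hdvd : charDegree (φ : ↥(P : Subgroup G) → ℂ) ∣ p ^ s := by
        rw [← hs]; exact irr_degree_dvd_card φ.2
      obtain ⟨b, hbs, hb⟩ := (Nat.dvd_prime_pow hpp).1 hdvd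
      have hDeq : D = r * p ^ b := by
        have h1 : (D : ℂ) = ((r * p ^ b : ℕ) : ℂ) := by
          rw [← hD1, indFun_one, ← char_charDegree_cast (irr_isCharacter φ.2), hb]
          push_cast; ring
        exact_mod_cast h1
      refine ⟨b, hb, ?_, ?_⟩
      · by_contra hlt
        have hlt' : b < a := by omega
        have h1 : p ^ b < p ^ a := Nat.pow_lt_pow_right hpp.one_lt hlt'
        have hrpos : 0 < r := Nat.pos_of_ne_zero (fun h => hrp (by rw [h]; exact dvd_zero p))
        have h2 : r * p ^ b < r * p ^ a := Nat.mul_lt_mul_of_pos_left h1 hrpos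
        rw [← hd, hdra, hDeq] at hD2
        omega
      · intro hba
        have : D = charDegree (χ : G → ℂ) := by rw [hDeq, hba, ← hd, hdra]
        exact (hD3 this).symm
    -- some constituent has degree exactly p^a
    by_contra hno
    have hall : ∀ φ : IrrCharacter (P : Subgroup G),
        p ^ (a + 1) ∣ m φ * charDegree (φ : ↥(P : Subgroup G) → ℂ) := by
      intro φ
      by_cases hφ : m φ = 0
      · rw [hφ, zero_mul]; exact dvd_zero _
      · obtain ⟨b, hb, hab, hfin⟩ := hconst φ hφ
        have hne : b ≠ a := by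
          intro hba
          exact hno ⟨P, (φ : ↥(P : Subgroup G) → ℂ), irr_isCharacter φ.2, hfin hba⟩
        have : a + 1 ≤ b := by omega
        rw [hb]
        exact Dvd.dvd.mul_left (pow_dvd_pow p this) _
    have hdvd : p ^ (a + 1) ∣ d := by
      rw [hdsum]; exact Finset.dvd_sum (fun φ _ => hall φ)
    rw [hdra, pow_succ] at hdvd
    have h2 : p ∣ r := by
      have h3 : p ^ a * p ∣ p ^ a * r := by rw [mul_comm (p ^ a) r]; exact hdvd
      exact Nat.dvd_of_mul_dvd_mul_left (pow_pos hpp.pos a) h3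
    exact hrp h2
  · rintro ⟨P, θ, hθ, hχθ⟩
    have := Fintype.ofFinite (P : Subgroup G)
    have := Fintype.ofFinite (IrrCharacter (P : Subgroup G))
    set r := (P : Subgroup G).index with hr
    obtain ⟨s, hs⟩ := (IsPGroup.iff_card.1 P.isPGroup')
    have hGr : Nat.card G = r * p ^ s := by
      rw [← hs, hr, mul_comm]; exact ((P : Subgroup G).card_mul_index).symm
    obtain ⟨m, hmexp, hm, -⟩ := char_decomp hθ
    have hdegθ := degree_decomp m hmexp
    -- d = r * Σ m φ d φ
    have hdsum : d = r * ∑ φ : IrrCharacter (P : Subgroup G), m φ * charDegree (φ : ↥(P : Subgroup G) → ℂ) := by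
      have h1 : ((d : ℕ) : ℂ) = (χ : G → ℂ) 1 := char_charDegree_cast (irr_isCharacter χ.2)
      rw [hχθ, indFun_one, hdegθ] at h1
      exact_mod_cast h1
    -- [χ, χ] = 1 gives a constituent φ with [Ind φ, χ] ≠ 0 and m φ ≠ 0
    have h1 : classInner θ (fun h : (P : Subgroup G) => (χ : G → ℂ) h) = 1 := by
      rw [← classInner_indFun_eq_restrict _ _ _ hχcl, ← hχθ]
      exact irr_classInner_self χ.2
    have hex : ∃ φ : IrrCharacter (P : Subgroup G), m φ ≠ 0 ∧
        classInner (φ : ↥(P : Subgroup G) → ℂ) (fun h : (P : Subgroup G) => (χ : G → ℂ) h) ≠ 0 := by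
      by_contra hne
      have hzero : classInner θ (fun h : (P : Subgroup G) => (χ : G → ℂ) h) = 0 := by
        conv_lhs => arg 1; rw [hmexp]
        rw [classInner_sum_left]
        apply Finset.sum_eq_zero
        intro φ _
        rw [classInner_smul_left]
        by_cases hφ : m φ = 0
        · rw [hφ]; simp
        · have : classInner (φ : ↥(P : Subgroup G) → ℂ) (fun h : (P : Subgroup G) => (χ : G → ℂ) h) = 0 := by
            by_contra h0
            exact hne ⟨φ, hφ, h0⟩
          rw [this, mul_zero]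
      rw [hzero] at h1
      exact zero_ne_one h1
    obtain ⟨φ, hmφ, hφχ⟩ := hex
    have hind : IsCharacter G (indFun (P : Subgroup G) (φ : ↥(P : Subgroup G) → ℂ)) :=
      isCharacter_indFun _ (irr_isCharacter φ.2)
    have hin : classInner (indFun (P : Subgroup G) (φ : ↥(P : Subgroup G) → ℂ)) (χ : G → ℂ) ≠ 0 := by
      rw [classInner_indFun_eq_restrict _ _ _ hχcl]; exact hφχ
    obtain ⟨D, hD1, hD2, -⟩ := degree_le_of_constituent hind χ hin
    have hdvd : charDegree (φ : ↥(P : Subgroup G) → ℂ) ∣ p ^ s := by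
      rw [← hs]; exact irr_degree_dvd_card φ.2
    obtain ⟨b, hbs, hb⟩ := (Nat.dvd_prime_pow hpp).1 hdvd
    have hDeq : D = r * p ^ b := by
      have h1 : (D : ℂ) = ((r * p ^ b : ℕ) : ℂ) := by
        rw [← hD1, indFun_one, ← char_charDegree_cast (irr_isCharacter φ.2), hb]
        push_cast; ring
      exact_mod_cast h1
    -- d ≥ r * m φ * d φ ≥ r * p^b ≥ d
    have hge : r * p ^ b ≤ d := by
      rw [hdsum]
      apply Nat.mul_le_mul_left
      calc p ^ b = charDegree (φ : ↥(P : Subgroup G) → ℂ) := hb.symm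
        _ ≤ m φ * charDegree (φ : ↥(P : Subgroup G) → ℂ) :=
            Nat.le_mul_of_pos_left _ (Nat.pos_of_ne_zero hmφ)
        _ ≤ _ := Finset.single_le_sum
            (f := fun φ : IrrCharacter (P : Subgroup G) => m φ * charDegree (φ : ↥(P : Subgroup G) → ℂ))
            (fun _ _ => Nat.zero_le _) (Finset.mem_univ φ)
    have hdeq : d = r * p ^ b := by
      rw [← hd, hDeq] at hD2; omega
    refine ⟨s - b, ?_⟩
    rw [hGr, hdeq]
    have : p ^ s = p ^ (s - b) * p ^ b := by rw [← pow_add]; congr 1; omega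
    rw [this]; ring

end Cfsg.Agent.S4798
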