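import Mathlib
import Cfsg.Agent.Lib_helper24_DLBound
import Cfsg.Agent.Lib_helper22_Gallagher
import Cfsg.Agent.Lib_helper1_ProdChar
import Cfsg.Agent.S0872
import Cfsg.Agent.S0873
import Cfsg.Agent.S4798
import Cfsg.Agent.Lib_helper22_MGroup
import Cfsg.Agent.Lib_helper12_Clifford

set_option autoImplicit false

namespace Cfsg.Agent.helper24

open Cfsg Cfsg.Agent.helper12
open scoped ComplexConjugate

universe u

section Basics

/-- characters transport along group isomorphisms -/
theorem isCharacter_comp_mulEquiv' {K H : Type*} [Group K] [Group H] (f : K ≃* H) {χ : H → ℂ}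
    (hχ : IsCharacter H χ) : IsCharacter K (fun k => χ (f k)) := by
  obtain ⟨n, ρ, rfl⟩ := hχ
  exact ⟨n, (MonoidHom.comp ρ f.toMonoidHom : Representation ℂ K (Fin n → ℂ)), rfl⟩

/-- elementary groups transport along group isomorphisms -/
theorem isElementary_of_mulEquiv {p : ℕ} {E E' : Type*} [Group E] [Group E'] (e : E ≃* E')
    (h : IsElementary p E) : IsElementary p E' := by
  obtain ⟨x, hxc, hxo, k, hk⟩ := h
  refine ⟨e x, ?_, ?_, k, ?_⟩
  · rw [Subgroup.mem_center_iff] at hxc ⊢
    intro g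
    obtain ⟨g', rfl⟩ := e.surjective g
    rw [← map_mul, ← map_mul, hxc g']
  · rw [MulEquiv.orderOf_eq]; exact hxo
  · rw [← hk]
    have h1 : Subgroup.zpowers (e x) = (Subgroup.zpowers x).map e.toMonoidHom := by
      rw [MonoidHom.map_zpowers]; rfl
    rw [h1]
    exact Subgroup.index_map_equiv _ e

variable {G : Type u} [Group G] [Fintype G]

theorem indFun_congr_subgroup {E₁ E₂ : Subgroup G} (h : E₁ = E₂) (f₁ : E₁ → ℂ) (f₂ : E₂ → ℂ)
    (hf : ∀ (x : G) (h1 : x ∈ E₁) (h2 : x ∈ E₂), f₁ ⟨x, h1⟩ = f₂ ⟨x, h2⟩) :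
    indFun E₁ f₁ = indFun E₂ f₂ := by
  subst h
  congr 1
  funext x
  exact hf x.1 x.2 x.2

/-- the additive group generated by the characters induced from `p`-elementary subgroups -/
noncomputable def BSpan (p : ℕ) (G : Type u) [Group G] [Fintype G] : AddSubgroup (G → ℂ) :=
  AddSubgroup.closure {F | ∃ (E : Subgroup G) (φ : E → ℂ),
    IsElementary p E ∧ IsCharacter E φ ∧ F = indFun E φ}

theorem bspan_gen {p : ℕ} (E : Subgroup G) (φ : E → ℂ) (hE : IsElementary p E)
    (hφ : IsCharacter E φ) : indFun E φ ∈ BSpan p G :=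
  AddSubgroup.subset_closure ⟨E, φ, hE, hφ, rfl⟩

theorem indFun_zero' (T : Subgroup G) : indFun T (0 : T → ℂ) = 0 := by
  have := helper8.indFun_smul T (0 : ℂ) (0 : T → ℂ)
  rw [zero_smul, zero_smul] at this
  exact this

theorem indFun_neg' (T : Subgroup G) (f : T → ℂ) : indFun T (-f) = -indFun T f := by
  have := helper8.indFun_smul T (-1 : ℂ) f
  rw [neg_one_smul, neg_one_smul] at this
  exact this

/-- transitivity: inducing a member of the span of a subgroup gives a member of the span -/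
theorem bspan_indFun {p : ℕ} (T : Subgroup G) [Fintype T] {f : T → ℂ} (hf : f ∈ BSpan p T) :
    indFun T f ∈ BSpan p G := by
  unfold BSpan at hf
  induction hf using AddSubgroup.closure_induction with
  | mem F hF =>
    obtain ⟨E', φ, hE, hφ, rfl⟩ := hF
    obtain ⟨H, hH⟩ : ∃ H : Subgroup G, H = E'.map T.subtype := ⟨_, rfl⟩
    have hHT : H ≤ T := by rw [hH]; exact Subgroup.map_subtype_le _
    have hsub : H.subgroupOf T = E' := by
      rw [hH]
      exact Subgroup.comap_map_eq_self_of_injective T.subtype_injective E'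
    let e : E' ≃* (E'.map T.subtype) :=
      Subgroup.equivMapOfInjective E' T.subtype T.subtype_injective
    subst hH
    let θ : (E'.map T.subtype) → ℂ := fun h => φ (e.symm h)
    have hθ : IsCharacter (E'.map T.subtype) θ := isCharacter_comp_mulEquiv' e.symm hφ
    have hEl : IsElementary p (E'.map T.subtype) := isElementary_of_mulEquiv e hE
    have h1 := helper8.indFun_trans (E'.map T.subtype) T hHT θ
    have h2 : indFun ((E'.map T.subtype).subgroupOf T)
        (fun x => θ ⟨((x : T) : G), Subgroup.mem_subgroupOf.mp x.2⟩) = indFun E' φ := by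
      apply indFun_congr_subgroup hsub
      intro x hx1 hx2
      show φ (e.symm ⟨(x : G), _⟩) = φ ⟨x, hx2⟩
      congr 1
      rw [MulEquiv.symm_apply_eq]
      apply Subtype.ext
      rfl
    rw [h2] at h1
    rw [h1]
    exact bspan_gen _ θ hEl hθ
  | zero => rw [indFun_zero']; exact AddSubgroup.zero_mem _
  | add f₁ f₂ _ _ h₁ h₂ => rw [helper8.indFun_add]; exact AddSubgroup.add_mem _ h₁ h₂
  | neg f₁ _ h₁ => rw [indFun_neg']; exact AddSubgroup.neg_mem _ h₁

/-- `(χ_E ψ)^G = χ ψ^G` for an arbitrary subgroup `E` -/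
theorem indFun_res_mul' (E : Subgroup G) {χ : G → ℂ} (hχ : IsClassFunction G χ) (ψ : E → ℂ) :
    indFun E (fun n : E => χ n * ψ n) = χ * indFun E ψ := by
  funext g
  show (Nat.card E : ℂ)⁻¹ * ∑ x : G, extendByZero E (fun n : E => χ n * ψ n) (x⁻¹ * g * x) =
    χ g * ((Nat.card E : ℂ)⁻¹ * ∑ x : G, extendByZero E ψ (x⁻¹ * g * x))
  rw [mul_left_comm]
  congr 1
  rw [Finset.mul_sum]
  apply Finset.sum_congr rfl
  intro x _
  by_cases h : x⁻¹ * g * x ∈ E
  · rw [helper5.extendByZero_of_mem _ _ _ h, helper5.extendByZero_of_mem _ _ _ h]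
    have := hχ g x⁻¹
    rw [inv_inv] at this
    show χ (x⁻¹ * g * x) * _ = _
    rw [this]
  · rw [helper5.extendByZero_of_not_mem _ _ _ h, helper5.extendByZero_of_not_mem _ _ _ h, mul_zero]

/-- the span is closed under multiplication by characters -/
theorem bspan_mul_char {p : ℕ} {χ : G → ℂ} (hχ : IsCharacter G χ) {f : G → ℂ}
    (hf : f ∈ BSpan p G) : χ * f ∈ BSpan p G := by
  unfold BSpan at hf
  induction hf using AddSubgroup.closure_induction with
  | mem F hF =>
    obtain ⟨E, φ, hE, hφ, rfl⟩ := hF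
    rw [← indFun_res_mul' E (char_isClassFunction hχ) φ]
    apply bspan_gen _ _ hE
    exact helper1.isCharacter_mul (isCharacter_restrict E hχ) hφ
  | zero => rw [mul_zero]; exact AddSubgroup.zero_mem _
  | add f₁ f₂ _ _ h₁ h₂ => rw [mul_add]; exact AddSubgroup.add_mem _ h₁ h₂
  | neg f₁ _ h₁ => rw [mul_neg]; exact AddSubgroup.neg_mem _ h₁

end Basics

section QuasiElementary

theorem index_dvd_card_of_sup_eq_top' {G : Type*} [Group G] [Finite G] (H K : Subgroup G)
    [hH : H.Normal] (h : H ⊔ K = ⊤) : H.index ∣ Nat.card K := by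
  rw [Subgroup.index_eq_card]
  apply Subgroup.card_dvd_of_surjective ((QuotientGroup.mk' H).comp K.subtype)
  intro q
  obtain ⟨g, rfl⟩ := QuotientGroup.mk_surjective q
  have hg : g ∈ H ⊔ K := by rw [h]; exact Subgroup.mem_top g
  have hset : g ∈ (↑(H ⊔ K) : Set G) := hg
  rw [Subgroup.normal_mul] at hset
  obtain ⟨a, ha, b, hb, rfl⟩ := Set.mem_mul.1 hset
  refine ⟨⟨b, hb⟩, ?_⟩
  show (QuotientGroup.mk b : G ⧸ H) = QuotientGroup.mk (a * b)
  rw [QuotientGroup.mk_mul, (QuotientGroup.eq_one_iff a).2 ha, one_mul]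

variable {G : Type u} [Group G] [Fintype G]

/-- in a `p`-quasi-elementary group `G = C P`, the subgroup `C_C(P) P` is `p`-elementary -/
theorem isElementary_centralizer_sup (p : ℕ) [Fact p.Prime] (C : Subgroup G)
    (hCcyc : IsCyclic C) (hCcop : (Nat.card C).Coprime p) (P : Sylow p G) :
    IsElementary p ↥((C ⊓ Subgroup.centralizer ((P : Subgroup G) : Set G)) ⊔ (P : Subgroup G)) := by
  classical
  have hpp : p.Prime := Fact.out
  set Z : Subgroup G := C ⊓ Subgroup.centralizer ((P : Subgroup G) : Set G) with hZ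
  set E : Subgroup G := Z ⊔ (P : Subgroup G) with hE
  have hZc : IsCyclic Z := by
    haveI := hCcyc
    exact Subgroup.isCyclic_of_le (H' := C) inf_le_left
  obtain ⟨z, hz⟩ := IsCyclic.exists_generator (α := Z)
  have hzZ : (z : G) ∈ Z := z.2
  have hzpow : ∀ y ∈ Z, ∃ k : ℤ, (z : G) ^ k = y := by
    intro y hy
    obtain ⟨k, hk⟩ := Subgroup.mem_zpowers_iff.1 (hz ⟨y, hy⟩)
    refine ⟨k, ?_⟩
    have := congrArg Subtype.val hk
    simpa using this
  -- `z` commutes with everything in `E`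
  have hcomm : ∀ g ∈ E, g * (z : G) = (z : G) * g := by
    have hle : E ≤ Subgroup.centralizer ({(z : G)} : Set G) := by
      rw [hE]
      apply sup_le
      · intro y hy
        rw [Subgroup.mem_centralizer_iff]
        intro w hw
        rw [Set.mem_singleton_iff] at hw
        rw [hw]
        obtain ⟨k, rfl⟩ := hzpow y hy
        exact (Commute.self_zpow (z : G) k).eq
      · intro y hy
        rw [Subgroup.mem_centralizer_iff]
        intro w hw
        rw [Set.mem_singleton_iff] at hw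
        rw [hw]
        have h1 : (z : G) ∈ Subgroup.centralizer ((P : Subgroup G) : Set G) := hzZ.2
        exact (Subgroup.mem_centralizer_iff.1 h1 y hy).symm
    intro g hg
    have := Subgroup.mem_centralizer_iff.1 (hle hg) (z : G) (Set.mem_singleton _)
    exact this.symm
  set x' : E := ⟨(z : G), (le_sup_left : Z ≤ E) hzZ⟩ with hx'
  have hx'c : x' ∈ Subgroup.center E := by
    rw [Subgroup.mem_center_iff]
    intro g
    apply Subtype.ext
    exact hcomm g g.2
  refine ⟨x', hx'c, ?_, ?_⟩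
  · -- order
    have h1 : orderOf x' = orderOf (z : G) := by
      rw [← Subgroup.orderOf_coe]
    rw [h1]
    have hzC : (z : G) ∈ C := hzZ.1
    have h2 : orderOf (z : G) ∣ Nat.card C := by
      have := orderOf_dvd_natCard (⟨(z : G), hzC⟩ : C)
      rwa [← Subgroup.orderOf_coe] at this
    exact Nat.Coprime.coprime_dvd_left h2 hCcop
  · -- index
    have hnorm : (Subgroup.zpowers x').Normal := by
      constructor
      intro n hn g
      have hnc : n ∈ Subgroup.center E := by
        obtain ⟨k, rfl⟩ := Subgroup.mem_zpowers_iff.1 hn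
        exact Subgroup.zpow_mem _ hx'c k
      have : g * n * g⁻¹ = n := by
        rw [Subgroup.mem_center_iff.1 hnc g]; group
      rw [this]; exact hn
    have hsup : Subgroup.zpowers x' ⊔ ((P : Subgroup G).subgroupOf E) = ⊤ := by
      have h1 : (Z ⊔ (P : Subgroup G)).subgroupOf E = ⊤ := by
        rw [← hE]; exact Subgroup.subgroupOf_self E
      rw [Subgroup.subgroupOf_sup (le_sup_left : Z ≤ E) (le_sup_right : (P : Subgroup G) ≤ E)] at h1
      have h2 : Z.subgroupOf E ≤ Subgroup.zpowers x' := by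
        intro y hy
        obtain ⟨k, hk⟩ := hzpow (y : G) (Subgroup.mem_subgroupOf.mp hy)
        rw [Subgroup.mem_zpowers_iff]
        refine ⟨k, ?_⟩
        apply Subtype.ext
        rw [Subgroup.coe_zpow]
        exact hk
      rw [eq_top_iff, ← h1]
      exact sup_le_sup_right h2 _
    have hdvd := @index_dvd_card_of_sup_eq_top' E _ _ (Subgroup.zpowers x')
      ((P : Subgroup G).subgroupOf E) hnorm hsup
    have hcardP : Nat.card ((P : Subgroup G).subgroupOf E) = Nat.card (P : Subgroup G) :=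
      Nat.card_congr (Subgroup.subgroupOfEquivOfLe (le_sup_right : (P : Subgroup G) ≤ E)).toEquiv
    obtain ⟨a, ha⟩ := IsPGroup.iff_card.1 P.2
    rw [hcardP, ha] at hdvd
    obtain ⟨j, -, hj⟩ := (Nat.dvd_prime_pow hpp).1 hdvd
    exact ⟨j, hj⟩

/-- if a character of `B` contains the trivial character, so does its restriction to a subgroup -/
theorem classInner_res_one_ne_zero {B : Type u} [Group B] [Fintype B] (A : Subgroup B) [Fintype A]
    {Φ : B → ℂ} (hΦ : IsCharacter B Φ) (h : classInner Φ (fun _ => (1 : ℂ)) ≠ 0) :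
    classInner (fun a : A => Φ a) (fun _ => (1 : ℂ)) ≠ 0 := by
  classical
  have := Fintype.ofFinite (IrrCharacter B)
  obtain ⟨n, hexp, hn, -⟩ := char_decomp hΦ
  set μ₀ : IrrCharacter B := ⟨fun _ => (1 : ℂ), isIrrCharacter_one⟩ with hμ₀
  have hn0 : n μ₀ ≠ 0 := by
    intro h0
    apply h
    have := hn μ₀
    rw [h0] at this
    simpa using this
  have hone : IsCharacter A (fun _ : A => (1 : ℂ)) := irr_isCharacter isIrrCharacter_one
  choose k hk using fun μ : IrrCharacter B =>
    classInner_char_nat (isCharacter_restrict A (irr_isCharacter μ.2)) hone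
  have hres : (fun a : A => Φ a) = ∑ μ : IrrCharacter B, (n μ : ℂ) • (fun a : A => (μ : B → ℂ) a) := by
    funext a
    conv_lhs => rw [hexp]
    simp [Finset.sum_apply]
  rw [hres, classInner_sum_left]
  have h1 : ∀ μ : IrrCharacter B, classInner ((n μ : ℂ) • (fun a : A => (μ : B → ℂ) a))
      (fun _ => (1 : ℂ)) = ((n μ * k μ : ℕ) : ℂ) := by
    intro μ
    rw [classInner_smul_left, hk μ]; push_cast; ring
  rw [Finset.sum_congr rfl (fun μ _ => h1 μ), ← Nat.cast_sum]
  have hk0 : k μ₀ = 1 := by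
    have h2 := hk μ₀
    have h3 : classInner (fun a : A => (μ₀ : B → ℂ) a) (fun _ => (1 : ℂ)) = 1 :=
      irr_classInner_self (G := A) isIrrCharacter_one
    rw [h3] at h2
    exact_mod_cast h2.symm
  have hpos : 0 < ∑ μ : IrrCharacter B, n μ * k μ := by
    apply Nat.lt_of_lt_of_le _ (Finset.single_le_sum (f := fun μ => n μ * k μ)
      (fun _ _ => Nat.zero_le _) (Finset.mem_univ μ₀))
    rw [hk0, mul_one]
    exact Nat.pos_of_ne_zero hn0
  exact_mod_cast hpos.ne'

variable {G : Type u} [Group G] [Fintype G]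

/-- version for nested subgroups of an ambient group -/
theorem classInner_res_one_ne_zero_of_le {A B : Subgroup G} [Fintype A] [Fintype B] (hAB : A ≤ B)
    {Φ : G → ℂ} (hΦ : IsCharacter G Φ)
    (h : classInner (fun b : B => Φ b) (fun _ => (1 : ℂ)) ≠ 0) :
    classInner (fun a : A => Φ a) (fun _ => (1 : ℂ)) ≠ 0 := by
  classical
  have := Fintype.ofFinite (A.subgroupOf B)
  have h1 := classInner_res_one_ne_zero (A.subgroupOf B) (isCharacter_restrict B hΦ) h
  have h2 := classInner_comp_mulEquiv (Subgroup.subgroupOfEquivOfLe hAB)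
    (fun a : A => Φ a) (fun _ => (1 : ℂ))
  rw [← h2]
  exact h1

/-- a sum over `G = C P` (with `C ∩ P = 1`) of a function constant on `C`-cosets -/
theorem sum_of_complement (C P : Subgroup G) [Fintype C] [Fintype P]
    (hcompl : Subgroup.IsComplement' C P) (f : G → ℂ)
    (hf : ∀ c ∈ C, ∀ y : G, f (c * y) = f y) :
    ∑ g : G, f g = (Nat.card C : ℂ) * ∑ y : P, f y := by
  classical
  let e : C × P ≃ G := Equiv.ofBijective _ hcompl
  rw [← Fintype.sum_equiv e (fun x : C × P => f (e x)) f (fun x => rfl), Fintype.sum_prod_type]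
  have h1 : ∀ c : C, ∑ y : P, f (e (c, y)) = ∑ y : P, f y := by
    intro c
    refine Finset.sum_congr rfl (fun y _ => ?_)
    show f ((c : G) * (y : G)) = f y
    exact hf c c.2 y
  rw [Finset.sum_congr rfl (fun c _ => h1 c), Finset.sum_const, Finset.card_univ,
    Nat.card_eq_fintype_card, nsmul_eq_mul]

open Cfsg.Agent.helper22 in
/-- in a `p`-quasi-elementary group every nonprincipal constituent of `(1_E)^G`, `E = C_C(P) P`,
is induced from a proper subgroup -/
theorem qe_constituent_induced (p : ℕ) [Fact p.Prime] (C : Subgroup G) [hCn : C.Normal]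
    (hCcyc : IsCyclic C) (hCcop : (Nat.card C).Coprime p) (hCidx : ∃ k : ℕ, C.index = p ^ k)
    (P : Sylow p G) (χ : IrrCharacter G)
    (hin : classInner (indFun ((C ⊓ Subgroup.centralizer ((P : Subgroup G) : Set G)) ⊔
      (P : Subgroup G)) (fun _ => (1 : ℂ))) (χ : G → ℂ) ≠ 0)
    (hne : (χ : G → ℂ) ≠ fun _ => 1) :
    ∃ (T : Subgroup G) (ψ : T → ℂ), T ≠ ⊤ ∧ IsIrrCharacter T ψ ∧ (χ : G → ℂ) = indFun T ψ := by
  classical
  have hpp : p.Prime := Fact.out
  set Z : Subgroup G := C ⊓ Subgroup.centralizer ((P : Subgroup G) : Set G) with hZ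
  set E : Subgroup G := Z ⊔ (P : Subgroup G) with hE
  have := Fintype.ofFinite C
  have := Fintype.ofFinite Z
  have := Fintype.ofFinite E
  have := Fintype.ofFinite (P : Subgroup G)
  have hχc : IsCharacter G (χ : G → ℂ) := irr_isCharacter χ.2
  -- Frobenius reciprocity
  have hE1 : classInner (fun e : E => (χ : G → ℂ) e) (fun _ => (1 : ℂ)) ≠ 0 := by
    have h1 := classInner_indFun_eq_restrict E (fun _ => (1 : ℂ)) (χ : G → ℂ)
      (char_isClassFunction hχc)
    rw [h1] at hin
    rw [← classInner_conj_symm]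
    intro h0
    exact hin ((map_eq_zero _).1 h0)
  have hZ1 : classInner (fun z : Z => (χ : G → ℂ) z) (fun _ => (1 : ℂ)) ≠ 0 :=
    classInner_res_one_ne_zero_of_le (le_sup_left : Z ≤ E) hχc hE1
  have hP1 : classInner (fun y : (P : Subgroup G) => (χ : G → ℂ) y) (fun _ => (1 : ℂ)) ≠ 0 :=
    classInner_res_one_ne_zero_of_le (le_sup_right : (P : Subgroup G) ≤ E) hχc hE1
  obtain ⟨n, ρ, hρ, hχρ⟩ := χ.2
  obtain ⟨θ, hθ⟩ := exists_constituent_res ρ hρ C
  rw [hχρ] at hθ
  obtain ⟨T, hT⟩ : ∃ T : Subgroup G, T = helper22.inertia C θ := ⟨_, rfl⟩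
  have := Fintype.ofFinite T
  by_cases hTtop : T = ⊤
  · exfalso
    have hinv : ∀ g : G, helper8.conjFunN C g (θ : C → ℂ) = (θ : C → ℂ) := by
      intro g
      apply (helper22.mem_inertia C).1
      rw [← hT, hTtop]; exact Subgroup.mem_top g
    obtain ⟨e, hres, -, he0⟩ := helper5.clifford_invariant C χ.2 θ.2 hinv hθ
    have hχC : ∀ c : C, (χ : G → ℂ) c = (e : ℂ) * (θ : C → ℂ) c := by
      intro c
      have := congrFun hres c
      rw [helper5.res_apply] at this
      rw [this]; rfl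
    -- `θ` is linear
    have hCcomm : ∀ a b : C, a * b = b * a := by
      haveI := hCcyc
      obtain ⟨g, hg⟩ := IsCyclic.exists_generator (α := C)
      intro a b
      obtain ⟨i, rfl⟩ := Subgroup.mem_zpowers_iff.1 (hg a)
      obtain ⟨j, rfl⟩ := Subgroup.mem_zpowers_iff.1 (hg b)
      rw [← zpow_add, ← zpow_add, add_comm]
    have hθ1 : (θ : C → ℂ) 1 = 1 := (Cfsg.Agent.S0187.result (G := C)).mp hCcomm θ
    obtain ⟨φ, hφ⟩ := helper23.exists_hom_of_linear (irr_isCharacter θ.2) hθ1
    -- `θ` is trivial on `Z`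
    have hZC : Z ≤ C := inf_le_left
    have hsumZ : ∑ z : Z, ((φ ⟨(z : G), hZC z.2⟩ : ℂˣ) : ℂ) ≠ 0 := by
      intro h0
      apply hZ1
      unfold classInner
      have : ∑ g : Z, (χ : G → ℂ) g * conj (1 : ℂ) =
          (e : ℂ) * ∑ z : Z, ((φ ⟨(z : G), hZC z.2⟩ : ℂˣ) : ℂ) := by
        rw [Finset.mul_sum]
        refine Finset.sum_congr rfl (fun z _ => ?_)
        rw [map_one, mul_one]
        have := hχC ⟨(z : G), hZC z.2⟩
        rw [hφ] at this
        exact this
      rw [this, h0, mul_zero, mul_zero]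
    have hθZ : ∀ z : Z, φ ⟨(z : G), hZC z.2⟩ = 1 := by
      intro z₀
      have h1 : ((φ ⟨(z₀ : G), hZC z₀.2⟩ : ℂˣ) : ℂ) * ∑ z : Z, ((φ ⟨(z : G), hZC z.2⟩ : ℂˣ) : ℂ) =
          ∑ z : Z, ((φ ⟨(z : G), hZC z.2⟩ : ℂˣ) : ℂ) := by
        rw [Finset.mul_sum]
        rw [← Fintype.sum_equiv (Equiv.mulLeft z₀)
          (fun z : Z => ((φ ⟨((z₀ * z : Z) : G), hZC (z₀ * z).2⟩ : ℂˣ) : ℂ))
          (fun z : Z => ((φ ⟨(z : G), hZC z.2⟩ : ℂˣ) : ℂ)) (fun z => rfl)]
        refine Finset.sum_congr rfl (fun z _ => ?_)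
        rw [← Units.val_mul, ← map_mul]
        rfl
      have h2 : (((φ ⟨(z₀ : G), hZC z₀.2⟩ : ℂˣ) : ℂ) - 1) *
          ∑ z : Z, ((φ ⟨(z : G), hZC z.2⟩ : ℂˣ) : ℂ) = 0 := by
        rw [sub_mul, h1, one_mul, sub_self]
      rcases mul_eq_zero.1 h2 with h | h
      · apply Units.ext
        rw [Units.val_one]
        exact sub_eq_zero.1 h
      · exact absurd h hsumZ
    -- apply the invariant-character lemma
    have hCP : C ⊔ (P : Subgroup G) = ⊤ := by
      obtain ⟨k, hk⟩ := hCidx
      have h1 : (C ⊔ (P : Subgroup G)).index ∣ C.index := Subgroup.index_dvd_of_le le_sup_left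
      have h2 : (C ⊔ (P : Subgroup G)).index ∣ (P : Subgroup G).index :=
        Subgroup.index_dvd_of_le le_sup_right
      rw [hk] at h1
      obtain ⟨j, -, hj⟩ := (Nat.dvd_prime_pow hpp).1 h1
      have hj0 : j = 0 := by
        by_contra hj0
        have : p ∣ (C ⊔ (P : Subgroup G)).index := by rw [hj]; exact dvd_pow_self p hj0
        exact P.not_dvd_index (this.trans h2)
      rw [hj0, pow_zero] at hj
      exact Subgroup.index_eq_one.1 hj
    have hlam : (θ : C → ℂ) = fun _ => 1 := by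
      apply Cfsg.Agent.S0873.result p C (P : Subgroup G) P.2 hCcop hCP (θ : C → ℂ)
        ⟨irr_isCharacter θ.2, hθ1⟩
      · intro g c
        have := congrFun (hinv g) c
        rw [helper8.conjFunN_apply] at this
        exact this
      · intro c hc
        have hcZ : (c : G) ∈ Z := ⟨c.2, hc⟩
        have := hθZ ⟨(c : G), hcZ⟩
        rw [hφ c]
        have h2 : (⟨((⟨(c : G), hcZ⟩ : Z) : G), hZC hcZ⟩ : C) = c := Subtype.ext rfl
        rw [h2] at this
        rw [this, Units.val_one]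
    -- so `C` is in the kernel of `χ`
    have hkerC : ∀ c ∈ C, (χ : G → ℂ) c = (χ : G → ℂ) 1 := by
      intro c hc
      have h1 := hχC ⟨c, hc⟩
      have h2 := hχC 1
      rw [hlam] at h1 h2
      rw [show ((⟨c, hc⟩ : C) : G) = c from rfl] at h1
      rw [show ((1 : C) : G) = 1 from rfl] at h2
      rw [h1, h2]
    have hρC : ∀ c ∈ C, ρ c = 1 := by
      intro c hc
      apply (rep_char_eq_degree_iff ρ c).1
      rw [hχρ, hkerC c hc, ← hχρ, Representation.char_one, Module.finrank_fin_fun]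
    have hcoset : ∀ c ∈ C, ∀ y : G, (χ : G → ℂ) (c * y) = (χ : G → ℂ) y := by
      intro c hc y
      rw [← hχρ]
      show LinearMap.trace ℂ _ (ρ (c * y)) = LinearMap.trace ℂ _ (ρ y)
      rw [map_mul, hρC c hc, one_mul]
    -- the sum over `G`
    have hdisj : Disjoint C (P : Subgroup G) := by
      rw [disjoint_iff]
      apply Subgroup.inf_eq_bot_of_coprime
      obtain ⟨a, ha⟩ := IsPGroup.iff_card.1 P.2
      rw [ha]
      exact Nat.Coprime.pow_right a hCcop
    have hcompl : Subgroup.IsComplement' C (P : Subgroup G) := by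
      apply Subgroup.isComplement'_of_disjoint_and_mul_eq_univ hdisj
      rw [← Subgroup.normal_mul, hCP]
      rfl
    have hsumG := sum_of_complement C (P : Subgroup G) hcompl (χ : G → ℂ) hcoset
    have hPsum : ∑ y : (P : Subgroup G), (χ : G → ℂ) y ≠ 0 := by
      intro h0
      apply hP1
      unfold classInner
      have : ∑ g : (P : Subgroup G), (χ : G → ℂ) g * conj (1 : ℂ) =
          ∑ y : (P : Subgroup G), (χ : G → ℂ) y := by
        refine Finset.sum_congr rfl (fun y _ => ?_)
        rw [map_one, mul_one]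
      rw [this, h0, mul_zero]
    have hinner : classInner (χ : G → ℂ) (fun _ => (1 : ℂ)) ≠ 0 := by
      unfold classInner
      have : ∑ g : G, (χ : G → ℂ) g * conj (1 : ℂ) = ∑ g : G, (χ : G → ℂ) g := by
        refine Finset.sum_congr rfl (fun y _ => ?_)
        rw [map_one, mul_one]
      rw [this, hsumG]
      apply mul_ne_zero
      · apply inv_ne_zero
        exact_mod_cast (Nat.card_pos (α := G)).ne'
      · apply mul_ne_zero _ hPsum
        exact_mod_cast (Nat.card_pos (α := C)).ne'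
    apply hne
    by_contra hne'
    exact hinner (irr_classInner_ne χ.2 isIrrCharacter_one hne')
  · obtain ⟨ψ, hψ, hχψ, -, hdeg⟩ := clifford_degree C χ.2 θ hθ T hT
    exact ⟨T, ψ, hTtop, hψ, (indFun_eq_of_degree T χ.2 (irr_isCharacter hψ) hχψ hdeg).symm⟩

end QuasiElementary

section LocalTheorem

variable {G : Type u} [Group G] [Fintype G]

theorem bspan_zsmul_cast {p : ℕ} {f : G → ℂ} (hf : f ∈ BSpan p G) (z : ℤ) :
    (z : ℂ) • f ∈ BSpan p G := by
  rw [Int.cast_smul_eq_zsmul]
  exact AddSubgroup.zsmul_mem _ hf z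

theorem not_prime_dvd_one {p : ℕ} (hp : p.Prime) : ¬ (p : ℤ) ∣ 1 := by
  intro h1
  have h2 : p ∣ 1 := by exact_mod_cast h1
  exact hp.one_lt.ne' (Nat.dvd_one.1 h2)

theorem not_prime_dvd_mul {p : ℕ} (hp : p.Prime) {a b : ℤ} (ha : ¬ (p : ℤ) ∣ a)
    (hb : ¬ (p : ℤ) ∣ b) : ¬ (p : ℤ) ∣ a * b := by
  intro hd
  rcases (Nat.prime_iff_prime_int.1 hp).dvd_or_dvd hd with h | h
  · exact ha h
  · exact hb h

/-- a common multiplier prime to `p` -/
theorem bspan_common_multiple {p : ℕ} (hp : p.Prime) {ι : Type*} (s : Finset ι) (f : ι → G → ℂ)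
    (h : ∀ i ∈ s, ∃ m : ℤ, ¬ (p : ℤ) ∣ m ∧ (m : ℂ) • f i ∈ BSpan p G) :
    ∃ M : ℤ, ¬ (p : ℤ) ∣ M ∧ ∀ i ∈ s, (M : ℂ) • f i ∈ BSpan p G := by
  classical
  induction s using Finset.induction_on with
  | empty =>
    exact ⟨1, not_prime_dvd_one hp, fun i hi => absurd hi (Finset.notMem_empty i)⟩
  | insert a s ha ih =>
    obtain ⟨M, hM, hMs⟩ := ih (fun i hi => h i (Finset.mem_insert_of_mem hi))
    obtain ⟨m, hm, hma⟩ := h a (Finset.mem_insert_self a s)
    refine ⟨M * m, not_prime_dvd_mul hp hM hm, ?_⟩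
    intro i hi
    rcases Finset.mem_insert.1 hi with rfl | hi
    · have := bspan_zsmul_cast hma M
      rw [smul_smul, ← Int.cast_mul] at this
      exact this
    · have := bspan_zsmul_cast (hMs i hi) m
      rw [smul_smul, ← Int.cast_mul, mul_comm] at this
      exact this

theorem card_lt_of_ne_top (T : Subgroup G) (hT : T ≠ ⊤) : Nat.card T < Nat.card G := by
  apply lt_of_le_of_ne (Subgroup.card_le_card_group T)
  intro h
  exact hT (Subgroup.eq_top_of_card_eq T h)

/-- the quasi-elementary case of the local theorem -/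
theorem bspan_qe (p : ℕ) [Fact p.Prime] (C : Subgroup G) [hCn : C.Normal]
    (hCcyc : IsCyclic C) (hCcop : (Nat.card C).Coprime p) (hCidx : ∃ k : ℕ, C.index = p ^ k)
    (ih : ∀ T : Subgroup G, T ≠ ⊤ → ∃ m : ℤ, ¬ (p : ℤ) ∣ m ∧
      (fun _ : T => (m : ℂ)) ∈ @BSpan p T _ (Fintype.ofFinite T)) :
    ∃ m : ℤ, ¬ (p : ℤ) ∣ m ∧ (fun _ : G => (m : ℂ)) ∈ BSpan p G := by
  classical
  have hpp : p.Prime := Fact.out
  have := Fintype.ofFinite (IrrCharacter G)
  obtain ⟨P⟩ : Nonempty (Sylow p G) := inferInstance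
  set E : Subgroup G := (C ⊓ Subgroup.centralizer ((P : Subgroup G) : Set G)) ⊔ (P : Subgroup G)
    with hE
  have := Fintype.ofFinite E
  have hEel : IsElementary p E := isElementary_centralizer_sup p C hCcyc hCcop P
  have hone : IsCharacter E (fun _ : E => (1 : ℂ)) := irr_isCharacter isIrrCharacter_one
  set π : G → ℂ := indFun E (fun _ => (1 : ℂ)) with hπ
  have hπmem : π ∈ BSpan p G := bspan_gen E _ hEel hone
  have hπc : IsCharacter G π := isCharacter_indFun E hone
  obtain ⟨n, hexp, hn, -⟩ := char_decomp hπc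
  set χ₀ : IrrCharacter G := ⟨fun _ => (1 : ℂ), isIrrCharacter_one⟩ with hχ₀
  -- multiplicity of the trivial character
  have hn0 : n χ₀ = 1 := by
    have h1 := hn χ₀
    have h2 := classInner_indFun_eq_restrict E (fun _ => (1 : ℂ)) (χ₀ : G → ℂ)
      (char_isClassFunction (irr_isCharacter χ₀.2))
    rw [← hπ] at h2
    rw [h2] at h1
    have h3 : classInner (fun _ : E => (1 : ℂ)) (fun h : E => (χ₀ : G → ℂ) h) = 1 :=
      irr_classInner_self (G := E) isIrrCharacter_one
    rw [h3] at h1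
    exact_mod_cast h1.symm
  -- the other constituents
  have hother : ∀ χ ∈ (Finset.univ.erase χ₀ : Finset (IrrCharacter G)),
      ∃ m : ℤ, ¬ (p : ℤ) ∣ m ∧ (m : ℂ) • ((n χ : ℂ) • (χ : G → ℂ)) ∈ BSpan p G := by
    intro χ hχ
    have hχne : χ ≠ χ₀ := (Finset.mem_erase.1 hχ).1
    by_cases hnχ : n χ = 0
    · refine ⟨1, not_prime_dvd_one hpp, ?_⟩
      rw [hnχ, Nat.cast_zero, zero_smul, smul_zero]
      exact AddSubgroup.zero_mem _
    · have hin : classInner π (χ : G → ℂ) ≠ 0 := by
        rw [hn χ]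
        exact_mod_cast hnχ
      have hne : (χ : G → ℂ) ≠ fun _ => 1 := by
        intro h
        apply hχne
        apply Subtype.ext
        exact h
      obtain ⟨T, ψ, hT, hψ, hχψ⟩ := qe_constituent_induced p C hCcyc hCcop hCidx P χ hin hne
      obtain ⟨m, hm, hmem⟩ := ih T hT
      refine ⟨m, hm, ?_⟩
      have h1 := @bspan_mul_char T _ (Fintype.ofFinite T) p ψ (irr_isCharacter hψ) _ hmem
      have h2 := @bspan_indFun G _ _ p T (Fintype.ofFinite T) _ h1
      have h3 : (ψ * fun _ : T => (m : ℂ)) = (m : ℂ) • ψ := by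
        funext t
        simp [mul_comm]
      rw [h3, helper8.indFun_smul, ← hχψ] at h2
      have h4 := bspan_zsmul_cast h2 (n χ : ℤ)
      rw [smul_comm]
      exact_mod_cast h4
  obtain ⟨M, hM, hMmem⟩ := bspan_common_multiple hpp _ (fun χ : IrrCharacter G =>
    (n χ : ℂ) • (χ : G → ℂ)) hother
  refine ⟨M, hM, ?_⟩
  have h1 : (M : ℂ) • π ∈ BSpan p G := bspan_zsmul_cast hπmem M
  have h2 : (fun _ : G => (M : ℂ)) = (M : ℂ) • π -
      ∑ χ ∈ (Finset.univ.erase χ₀ : Finset (IrrCharacter G)),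
        (M : ℂ) • ((n χ : ℂ) • (χ : G → ℂ)) := by
    rw [← Finset.smul_sum, ← smul_sub]
    have h3 : π - ∑ χ ∈ (Finset.univ.erase χ₀ : Finset (IrrCharacter G)),
        (n χ : ℂ) • (χ : G → ℂ) = fun _ => (1 : ℂ) := by
      rw [sub_eq_iff_eq_add]
      conv_lhs => rw [hexp]
      rw [← Finset.add_sum_erase _ _ (Finset.mem_univ χ₀), hn0, Nat.cast_one, one_smul]
    rw [h3]
    funext g
    simp
  rw [h2]
  exact AddSubgroup.sub_mem _ h1 (AddSubgroup.sum_mem _ hMmem)

/-- **Brauer's local induction theorem**, in span form -/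
theorem bspan_local (p : ℕ) [Fact p.Prime] : ∀ (n : ℕ) (G : Type u) [Group G] [Fintype G],
    Nat.card G = n → ∃ m : ℤ, ¬ (p : ℤ) ∣ m ∧ (fun _ : G => (m : ℂ)) ∈ BSpan p G := by
  intro n
  induction n using Nat.strong_induction_on with
  | _ n ih =>
    intro G _ _ hcard
    classical
    have hpp : p.Prime := Fact.out
    have ihT : ∀ T : Subgroup G, T ≠ ⊤ → ∃ m : ℤ, ¬ (p : ℤ) ∣ m ∧
        (fun _ : T => (m : ℂ)) ∈ @BSpan p T _ (Fintype.ofFinite T) := by
      intro T hT
      have hlt : Nat.card T < n := by rw [← hcard]; exact card_lt_of_ne_top T hT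
      exact @ih (Nat.card T) hlt T _ (Fintype.ofFinite T) rfl
    obtain ⟨m₀, a, hm₀, ha, hsum⟩ := Cfsg.Agent.S0872.result (G := G) p hpp
    have key : ∀ H ∈ (Finset.univ : Finset (Subgroup G)), ∃ m : ℤ, ¬ (p : ℤ) ∣ m ∧
        (m : ℂ) • ((a H : ℂ) • indFun H (fun _ => (1 : ℂ))) ∈ BSpan p G := by
      intro H _
      by_cases haH : a H = 0
      · refine ⟨1, not_prime_dvd_one hpp, ?_⟩
        rw [haH, Int.cast_zero, zero_smul, smul_zero]
        exact AddSubgroup.zero_mem _
      · obtain ⟨C, hCH, hHN, hCcyc, hCcop, k, hk⟩ := ha H haH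
        have hgoal : ∃ m : ℤ, ¬ (p : ℤ) ∣ m ∧
            (m : ℂ) • indFun H (fun _ => (1 : ℂ)) ∈ BSpan p G := by
          by_cases hH : H = ⊤
          · subst hH
            have hCn : C.Normal := by
              rw [← Subgroup.normalizer_eq_top_iff]
              exact top_le_iff.1 hHN
            rw [Subgroup.relIndex_top_right] at hk
            obtain ⟨m, hm, hmem⟩ := bspan_qe p C hCcyc hCcop ⟨k, hk⟩ ihT
            refine ⟨m, hm, ?_⟩
            have h1 : indFun (⊤ : Subgroup G) (fun _ => (1 : ℂ)) = fun _ => (1 : ℂ) :=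
              helper22.indFun_top (χ := fun _ => (1 : ℂ)) (fun _ _ => rfl)
            rw [h1]
            have h2 : ((m : ℂ) • fun _ : G => (1 : ℂ)) = fun _ : G => (m : ℂ) := by
              funext g
              simp
            rw [h2]
            exact hmem
          · obtain ⟨m, hm, hmem⟩ := ihT H hH
            refine ⟨m, hm, ?_⟩
            have h1 := @bspan_indFun G _ _ p H (Fintype.ofFinite H) _ hmem
            have h2 : (fun _ : H => (m : ℂ)) = (m : ℂ) • fun _ : H => (1 : ℂ) := by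
              funext g
              simp
            rw [h2, helper8.indFun_smul] at h1
            exact h1
        obtain ⟨m, hm, hmem⟩ := hgoal
        refine ⟨m, hm, ?_⟩
        have := bspan_zsmul_cast hmem (a H)
        rw [smul_comm]
        exact this
    obtain ⟨M, hM, hMmem⟩ := bspan_common_multiple hpp _ (fun H : Subgroup G =>
      (a H : ℂ) • indFun H (fun _ => (1 : ℂ))) key
    refine ⟨M * m₀, not_prime_dvd_mul hpp hM hm₀, ?_⟩
    have h1 : (fun _ : G => ((M * m₀ : ℤ) : ℂ)) = (M : ℂ) • fun _ : G => (m₀ : ℂ) := by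
      funext g
      simp
    rw [h1, hsum, Finset.smul_sum]
    exact AddSubgroup.sum_mem _ hMmem

/-- list form of membership in the span -/
theorem bspan_list {p : ℕ} {F : G → ℂ} (hF : F ∈ BSpan p G) :
    ∃ l : List ((E : Subgroup G) × ((E → ℂ) × ℤ)),
      (∀ t ∈ l, IsElementary p t.1 ∧ IsCharacter t.1 t.2.1) ∧
      F = (l.map fun t => (t.2.2 : ℂ) • indFun t.1 t.2.1).sum := by
  unfold BSpan at hF
  induction hF using AddSubgroup.closure_induction with
  | mem F hF =>
    obtain ⟨E, φ, hE, hφ, rfl⟩ := hF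
    refine ⟨[⟨E, (φ, 1)⟩], ?_, ?_⟩
    · intro t ht
      rw [List.mem_singleton] at ht
      subst ht
      exact ⟨hE, hφ⟩
    · simp
  | zero => exact ⟨[], by simp, by simp⟩
  | add f₁ f₂ _ _ h₁ h₂ =>
    obtain ⟨l₁, hl₁, rfl⟩ := h₁
    obtain ⟨l₂, hl₂, rfl⟩ := h₂
    refine ⟨l₁ ++ l₂, ?_, ?_⟩
    · intro t ht
      rcases List.mem_append.1 ht with h | h
      · exact hl₁ t h
      · exact hl₂ t h
    · rw [List.map_append, List.sum_append]
  | neg f₁ hx h₁ =>
    obtain ⟨l, hl, rfl⟩ := h₁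
    refine ⟨l.map (fun t => ⟨t.1, (t.2.1, -t.2.2)⟩), ?_, ?_⟩
    · intro t ht
      obtain ⟨t', ht', rfl⟩ := List.mem_map.1 ht
      exact hl t' ht'
    · rw [List.map_map]
      clear hl hx
      induction l with
      | nil => simp
      | cons t l ih =>
        rw [List.map_cons, List.map_cons, List.sum_cons, List.sum_cons, neg_add, ih]
        congr 1
        simp

end LocalTheorem

end Cfsg.Agent.helper24
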