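import Mathlib
import Cfsg.Agent.Lib_helper24_Brauer

set_option autoImplicit false

namespace Cfsg.Agent.helper24

open Cfsg Cfsg.Agent.helper12
open scoped ComplexConjugate

universe u

section Global

variable {G : Type u} [Group G] [Fintype G]

/-- the additive group generated by the characters induced from elementary subgroups -/
noncomputable def GSpan (G : Type u) [Group G] [Fintype G] : AddSubgroup (G → ℂ) :=
  AddSubgroup.closure {F | ∃ (p : ℕ) (E : Subgroup G) (φ : E → ℂ),
    p.Prime ∧ IsElementary p E ∧ IsCharacter E φ ∧ F = indFun E φ}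

theorem bspan_le_gspan {p : ℕ} (hp : p.Prime) : BSpan p G ≤ GSpan G := by
  unfold BSpan GSpan
  apply AddSubgroup.closure_mono
  rintro F ⟨E, φ, hE, hφ, rfl⟩
  exact ⟨p, E, φ, hp, hE, hφ, rfl⟩

/-- the integers `n` whose constant function lies in the global span -/
noncomputable def constIdeal (G : Type u) [Group G] [Fintype G] : AddSubgroup ℤ where
  carrier := {n | (fun _ : G => (n : ℂ)) ∈ GSpan G}
  zero_mem' := by
    show (fun _ : G => ((0 : ℤ) : ℂ)) ∈ GSpan G
    have : (fun _ : G => ((0 : ℤ) : ℂ)) = 0 := by funext g; simp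
    rw [this]
    exact AddSubgroup.zero_mem _
  add_mem' := by
    intro a b ha hb
    show (fun _ : G => ((a + b : ℤ) : ℂ)) ∈ GSpan G
    have : (fun _ : G => ((a + b : ℤ) : ℂ)) = (fun _ : G => (a : ℂ)) + fun _ : G => (b : ℂ) := by
      funext g; simp
    rw [this]
    exact AddSubgroup.add_mem _ ha hb
  neg_mem' := by
    intro a ha
    show (fun _ : G => ((-a : ℤ) : ℂ)) ∈ GSpan G
    have : (fun _ : G => ((-a : ℤ) : ℂ)) = -(fun _ : G => (a : ℂ)) := by
      funext g; simp
    rw [this]
    exact AddSubgroup.neg_mem _ ha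

theorem mem_constIdeal {n : ℤ} : n ∈ constIdeal G ↔ (fun _ : G => (n : ℂ)) ∈ GSpan G := Iff.rfl

/-- **Brauer's induction theorem** for the trivial character -/
theorem one_mem_gspan : (fun _ : G => (1 : ℂ)) ∈ GSpan G := by
  classical
  let I : Ideal ℤ := AddSubgroup.toIntSubmodule (constIdeal G)
  have hI : ∀ n : ℤ, n ∈ I ↔ n ∈ constIdeal G := fun n => Iff.rfl
  obtain ⟨d, hd⟩ := (IsPrincipalIdealRing.principal I).principal
  have hmem : ∀ n : ℤ, n ∈ constIdeal G ↔ d ∣ n := by
    intro n
    rw [← hI, hd]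
    exact Ideal.mem_span_singleton
  have hd1 : d.natAbs = 1 := by
    by_contra hne
    obtain ⟨q, hq, hqd⟩ := Nat.exists_prime_and_dvd hne
    haveI : Fact q.Prime := ⟨hq⟩
    obtain ⟨m, hm, hmem'⟩ := bspan_local q (Nat.card G) G rfl
    have h1 : m ∈ constIdeal G := bspan_le_gspan hq hmem'
    have h2 : d ∣ m := (hmem m).1 h1
    have h3 : (q : ℤ) ∣ d := Int.natCast_dvd.2 hqd
    exact hm (h3.trans h2)
  have h1 : (1 : ℤ) ∈ constIdeal G := by
    rw [hmem]
    exact (Int.isUnit_iff_natAbs_eq.2 hd1).dvd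
  have h2 := mem_constIdeal.1 h1
  simpa using h2

/-- the global span is closed under multiplication by characters -/
theorem gspan_mul_char {χ : G → ℂ} (hχ : IsCharacter G χ) {f : G → ℂ}
    (hf : f ∈ GSpan G) : χ * f ∈ GSpan G := by
  unfold GSpan at hf
  induction hf using AddSubgroup.closure_induction with
  | mem F hF =>
    obtain ⟨p, E, φ, hp, hE, hφ, rfl⟩ := hF
    rw [← indFun_res_mul' E (char_isClassFunction hχ) φ]
    apply AddSubgroup.subset_closure
    exact ⟨p, E, _, hp, hE, helper1.isCharacter_mul (isCharacter_restrict E hχ) hφ, rfl⟩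
  | zero => rw [mul_zero]; exact AddSubgroup.zero_mem _
  | add f₁ f₂ _ _ h₁ h₂ => rw [mul_add]; exact AddSubgroup.add_mem _ h₁ h₂
  | neg f₁ _ h₁ => rw [mul_neg]; exact AddSubgroup.neg_mem _ h₁

/-- every character lies in the global span -/
theorem char_mem_gspan {χ : G → ℂ} (hχ : IsCharacter G χ) : χ ∈ GSpan G := by
  have := gspan_mul_char hχ (one_mem_gspan (G := G))
  have h : (χ * fun _ : G => (1 : ℂ)) = χ := by
    funext g
    simp
  rw [h] at this
  exact this

/-- the generalized characters form an additive group -/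
def GenChar (G : Type u) [Group G] : AddSubgroup (G → ℂ) where
  carrier := {θ | IsGeneralizedCharacter G θ}
  zero_mem' := ⟨fun _ => 1, fun _ => 1, irr_isCharacter isIrrCharacter_one,
    irr_isCharacter isIrrCharacter_one, (sub_self _).symm⟩
  add_mem' := by
    rintro _ _ ⟨χ₁, ψ₁, h1, h2, rfl⟩ ⟨χ₂, ψ₂, h3, h4, rfl⟩
    exact ⟨χ₁ + χ₂, ψ₁ + ψ₂, isCharacter_add h1 h3, isCharacter_add h2 h4, by abel⟩
  neg_mem' := by
    rintro _ ⟨χ, ψ, h1, h2, rfl⟩
    exact ⟨ψ, χ, h2, h1, by abel⟩

/-- **Brauer's characterization of characters** -/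
theorem brauer_characterization (θ : G → ℂ) (hθ : IsClassFunction G θ)
    (hE : ∀ (E : Subgroup G) (p : ℕ), p.Prime → IsElementary p E →
      IsGeneralizedCharacter E (fun e : E => θ e)) : IsGeneralizedCharacter G θ := by
  classical
  have key : ∀ F ∈ GSpan G, θ * F ∈ GenChar G := by
    intro F hF
    unfold GSpan at hF
    induction hF using AddSubgroup.closure_induction with
    | mem F hF =>
      obtain ⟨p, E, φ, hp, hEl, hφ, rfl⟩ := hF
      rw [← indFun_res_mul' E hθ φ]
      obtain ⟨α, β, hα, hβ, hαβ⟩ := hE E p hp hEl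
      have h1 : (fun n : E => θ n * φ n) = α * φ + -(β * φ) := by
        funext e
        have := congrFun hαβ e
        simp only [Pi.add_apply, Pi.mul_apply, Pi.neg_apply, Pi.sub_apply] at this ⊢
        rw [this]
        ring
      rw [h1, helper8.indFun_add, indFun_neg', ← sub_eq_add_neg]
      exact ⟨_, _, isCharacter_indFun E (helper1.isCharacter_mul hα hφ),
        isCharacter_indFun E (helper1.isCharacter_mul hβ hφ), rfl⟩
    | zero => rw [mul_zero]; exact AddSubgroup.zero_mem _
    | add f₁ f₂ _ _ h₁ h₂ => rw [mul_add]; exact AddSubgroup.add_mem _ h₁ h₂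
    | neg f₁ _ h₁ => rw [mul_neg]; exact AddSubgroup.neg_mem _ h₁
  have := key _ (one_mem_gspan (G := G))
  have h : (θ * fun _ : G => (1 : ℂ)) = θ := by
    funext g
    simp
  rw [h] at this
  exact this

end Global

end Cfsg.Agent.helper24
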