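import Mathlib
import Cfsg.Agent.Lib_helper24_BrauerGlobal

set_option autoImplicit false

namespace Cfsg.Agent.helper24

open Cfsg Cfsg.Agent.helper12
open scoped ComplexConjugate

universe u

section Elementary

/-- subgroups of elementary groups are elementary -/
theorem isElementary_subgroup {p : ℕ} (hp : p.Prime) {E : Type*} [Group E] [Finite E]
    (H : Subgroup E) (h : IsElementary p E) : IsElementary p H := by
  obtain ⟨x, hxc, hxo, k, hk⟩ := h
  have hle : Subgroup.zpowers x ≤ Subgroup.center E := by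
    rw [Subgroup.zpowers_le]; exact hxc
  have hnorm : (Subgroup.zpowers x).Normal := by
    constructor
    intro n hn g
    have : g * n * g⁻¹ = n := by
      rw [Subgroup.mem_center_iff.1 (hle hn) g]; group
    rw [this]; exact hn
  set K : Subgroup H := (Subgroup.zpowers x).subgroupOf H with hK
  have hKc : IsCyclic K := by
    have h1 : K = (Subgroup.zpowers x ⊓ H).subgroupOf H := by
      rw [hK, Subgroup.inf_subgroupOf_right]
    have h2 : IsCyclic ↥(Subgroup.zpowers x ⊓ H) :=
      Subgroup.isCyclic_of_le (H' := Subgroup.zpowers x) inf_le_left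
    rw [h1]
    exact isCyclic_of_surjective (Subgroup.subgroupOfEquivOfLe
      (inf_le_right : Subgroup.zpowers x ⊓ H ≤ H)).symm
      (Subgroup.subgroupOfEquivOfLe (inf_le_right : Subgroup.zpowers x ⊓ H ≤ H)).symm.surjective
  obtain ⟨y, hy⟩ := IsCyclic.exists_generator (α := K)
  have hyx : ((y : H) : E) ∈ Subgroup.zpowers x := Subgroup.mem_subgroupOf.1 y.2
  have hzp : Subgroup.zpowers (y : H) = K := by
    apply le_antisymm
    · rw [Subgroup.zpowers_le]; exact y.2
    · intro z hz
      obtain ⟨n, hn⟩ := Subgroup.mem_zpowers_iff.1 (hy ⟨z, hz⟩)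
      rw [Subgroup.mem_zpowers_iff]
      refine ⟨n, ?_⟩
      have := congrArg Subtype.val hn
      simpa using this
  refine ⟨(y : H), ?_, ?_, ?_⟩
  · rw [Subgroup.mem_center_iff]
    intro g
    apply Subtype.ext
    exact Subgroup.mem_center_iff.1 (hle hyx) (g : E)
  · have h1 : orderOf (y : H) = orderOf ((y : H) : E) := by
      rw [← Subgroup.orderOf_coe]
    rw [h1]
    exact Nat.Coprime.coprime_dvd_left (orderOf_dvd_of_mem_zpowers hyx) hxo
  · rw [hzp]
    have h1 : K.index = (Subgroup.zpowers x).relIndex H := rfl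
    have h2 : (Subgroup.zpowers x).relIndex H ∣ (Subgroup.zpowers x).index :=
      Subgroup.relIndex_dvd_index_of_normal _ _
    rw [hk, ← h1] at h2
    obtain ⟨j, -, hj⟩ := (Nat.dvd_prime_pow hp).1 h2
    exact ⟨j, hj⟩

/-- elementary groups are nilpotent -/
theorem isNilpotent_of_isElementary {p : ℕ} (hp : p.Prime) {E : Type*} [Group E] [Finite E]
    (h : IsElementary p E) : Group.IsNilpotent E := by
  obtain ⟨x, hxc, hxo, k, hk⟩ := h
  haveI : Fact p.Prime := ⟨hp⟩
  have hle : Subgroup.zpowers x ≤ Subgroup.center E := by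
    rw [Subgroup.zpowers_le]; exact hxc
  haveI hnorm : (Subgroup.zpowers x).Normal := by
    constructor
    intro n hn g
    have : g * n * g⁻¹ = n := by
      rw [Subgroup.mem_center_iff.1 (hle hn) g]; group
    rw [this]; exact hn
  have hP : IsPGroup p (E ⧸ Subgroup.zpowers x) :=
    IsPGroup.of_card (n := k) (by rw [← Subgroup.index_eq_card]; exact hk)
  haveI := hP.isNilpotent
  apply Subgroup.isNilpotent_of_ker_le_center (QuotientGroup.mk' (Subgroup.zpowers x))
  rw [QuotientGroup.ker_mk']
  exact hle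

end Elementary

section Linear

variable {G : Type u} [Group G] [Fintype G]

/-- induction in stages for a subgroup of a subgroup -/
theorem indFun_indFun_map (T : Subgroup G) [Fintype T] (E' : Subgroup T) (φ : E' → ℂ) :
    indFun T (indFun E' φ) = indFun (E'.map T.subtype)
      (fun h => φ ((Subgroup.equivMapOfInjective E' T.subtype T.subtype_injective).symm h)) := by
  have hHT : E'.map T.subtype ≤ T := Subgroup.map_subtype_le _
  have hsub : (E'.map T.subtype).subgroupOf T = E' :=
    Subgroup.comap_map_eq_self_of_injective T.subtype_injective E'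
  let e : E' ≃* (E'.map T.subtype) :=
    Subgroup.equivMapOfInjective E' T.subtype T.subtype_injective
  let θ : (E'.map T.subtype) → ℂ := fun h => φ (e.symm h)
  have h1 := helper8.indFun_trans (E'.map T.subtype) T hHT θ
  have h2 : indFun ((E'.map T.subtype).subgroupOf T)
      (fun x => θ ⟨((x : T) : G), Subgroup.mem_subgroupOf.mp x.2⟩) = indFun E' φ := by
    apply indFun_congr_subgroup hsub
    intro x hx1 hx2
    show φ (e.symm ⟨(x : G), _⟩) = φ ⟨x, hx2⟩
    congr 1
    rw [MulEquiv.symm_apply_eq]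
    apply Subtype.ext
    rfl
  rw [h2] at h1
  exact h1

/-- the additive group generated by the functions induced from linear characters of elementary
subgroups -/
noncomputable def LSpan (G : Type u) [Group G] [Fintype G] : AddSubgroup (G → ℂ) :=
  AddSubgroup.closure {F | ∃ (p : ℕ) (E : Subgroup G) (lam : E →* ℂˣ),
    p.Prime ∧ IsElementary p E ∧ F = indFun E (fun e => ((lam e : ℂˣ) : ℂ))}

theorem gspan_le_lspan : GSpan G ≤ LSpan G := by
  classical
  unfold GSpan
  rw [AddSubgroup.closure_le]
  rintro F ⟨p, E, φ, hp, hE, hφ, rfl⟩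
  show indFun E φ ∈ LSpan G
  have := Fintype.ofFinite E
  have := Fintype.ofFinite (IrrCharacter E)
  haveI hnil : Group.IsNilpotent E := isNilpotent_of_isElementary hp hE
  obtain ⟨n, hexp, -, -⟩ := char_decomp hφ
  rw [hexp, helper8.indFun_sum]
  apply AddSubgroup.sum_mem
  intro μ _
  rw [helper8.indFun_smul]
  obtain ⟨H, lam, hμ⟩ := helper22.nilpotent_monomial (Nat.card E) E rfl (μ : E → ℂ) μ.2
  have h1 : indFun E (μ : E → ℂ) ∈ LSpan G := by
    rw [hμ, indFun_indFun_map E H]
    apply AddSubgroup.subset_closure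
    refine ⟨p, H.map E.subtype, lam.comp
      (Subgroup.equivMapOfInjective H E.subtype E.subtype_injective).symm.toMonoidHom, hp, ?_, rfl⟩
    exact isElementary_of_mulEquiv (Subgroup.equivMapOfInjective H E.subtype E.subtype_injective)
      (isElementary_subgroup hp H hE)
  have h2 := AddSubgroup.nsmul_mem _ h1 (n μ)
  rw [← Nat.cast_smul_eq_nsmul ℂ] at h2
  exact h2

/-- list form of membership in the linear span -/
theorem lspan_list {F : G → ℂ} (hF : F ∈ LSpan G) :
    ∃ l : List ((E : Subgroup G) × ((E →* ℂˣ) × ℤ)),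
      (∀ t ∈ l, ∃ p : ℕ, p.Prime ∧ IsElementary p t.1) ∧
      F = (l.map fun t => (t.2.2 : ℂ) • indFun t.1 (fun e => ((t.2.1 e : ℂˣ) : ℂ))).sum := by
  unfold LSpan at hF
  induction hF using AddSubgroup.closure_induction with
  | mem F hF =>
    obtain ⟨p, E, lam, hp, hE, rfl⟩ := hF
    refine ⟨[⟨E, (lam, 1)⟩], ?_, ?_⟩
    · intro t ht
      rw [List.mem_singleton] at ht
      subst ht
      exact ⟨p, hp, hE⟩
    · simp
  | zero => exact ⟨[], by simp, by simp⟩
  | add f₁ f₂ _ _ h₁ h₂ =>
    obtain ⟨l₁, hl₁, rfl⟩ := h₁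
    obtain ⟨l₂, hl₂, rfl⟩ := h₂
    refine ⟨l₁ ++ l₂, ?_, ?_⟩
    · intro t ht
      rcases List.mem_append.1 ht with h | h
      · exact hl₁ t h
      · exact hl₂ t h
    · rw [List.map_append, List.sum_append]
  | neg f₁ hx h₁ =>
    obtain ⟨l, hl, rfl⟩ := h₁
    refine ⟨l.map (fun t => ⟨t.1, (t.2.1, -t.2.2)⟩), ?_, ?_⟩
    · intro t ht
      obtain ⟨t', ht', rfl⟩ := List.mem_map.1 ht
      exact hl t' ht'
    · rw [List.map_map]
      clear hl hx
      induction l with
      | nil => simp
      | cons t l ih =>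
        rw [List.map_cons, List.map_cons, List.sum_cons, List.sum_cons, neg_add, ih]
        congr 1
        simp

/-- **Brauer's induction theorem** -/
theorem brauer_induction {χ : G → ℂ} (hχ : IsCharacter G χ) :
    ∃ l : List ((E : Subgroup G) × ((E →* ℂˣ) × ℤ)),
      (∀ t ∈ l, ∃ p : ℕ, p.Prime ∧ IsElementary p t.1) ∧
      χ = (l.map fun t => (t.2.2 : ℂ) • indFun t.1 (fun e => ((t.2.1 e : ℂˣ) : ℂ))).sum :=
  lspan_list (gspan_le_lspan (char_mem_gspan hχ))

end Linear

end Cfsg.Agent.helper24
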