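import Mathlib
import Cfsg.Agent.Lib_helper24_BrauerLinear

set_option autoImplicit false

namespace Cfsg.Agent.helper24

open Cfsg Cfsg.Agent.helper12
open scoped ComplexConjugate

universe u

section PRegular

variable {E : Type*} [Group E] [Finite E]

/-- in a finite nilpotent group the `p`-regular elements centralize the Sylow `p`-subgroup -/
theorem commute_of_pregular_nilpotent {p : ℕ} [Fact p.Prime] [Group.IsNilpotent E]
    (P : Sylow p E) {x : E} (hx : ¬ p ∣ orderOf x) {y : E} (hy : y ∈ (P : Subgroup E)) :
    Commute x y := by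
  classical
  have hpp : p.Prime := Fact.out
  have hPn : (P : Subgroup E).Normal := inferInstance
  set C : Subgroup E := Subgroup.centralizer ((P : Subgroup E) : Set E) with hC
  have hCn : C.Normal := by
    rw [hC]
    infer_instance
  -- the index of `C` is a power of `p`
  have hidx : ∃ j : ℕ, C.index = p ^ j := by
    refine ⟨_, Nat.eq_prime_pow_of_unique_prime_dvd (Subgroup.index_ne_zero_of_finite) ?_⟩
    intro r hr hrd
    by_contra hne
    haveI : Fact r.Prime := ⟨hr⟩
    obtain ⟨R⟩ : Nonempty (Sylow r E) := inferInstance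
    have hRn : (R : Subgroup E).Normal := inferInstance
    have hdis : Disjoint (R : Subgroup E) (P : Subgroup E) :=
      IsPGroup.disjoint_of_ne r p hne _ _ R.2 P.2
    have hRC : (R : Subgroup E) ≤ C := by
      intro z hz
      rw [hC, Subgroup.mem_centralizer_iff]
      intro w hw
      exact (Subgroup.commute_of_normal_of_disjoint _ _ hRn hPn hdis z w hz hw).eq.symm
    have h1 : C.index ∣ (R : Subgroup E).index := Subgroup.index_dvd_of_le hRC
    exact R.not_dvd_index (hrd.trans h1)
  obtain ⟨j, hj⟩ := hidx
  have hpow : x ^ (p ^ j) ∈ C := by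
    rw [← hj]
    exact Subgroup.pow_index_mem C x
  -- `x` is a power of `x ^ (p ^ j)`
  have hcop : (p ^ j).Coprime (orderOf x) :=
    Nat.Coprime.pow_left j ((Nat.Prime.coprime_iff_not_dvd hpp).2 hx)
  have hxC : x ∈ C := by
    by_cases h1 : orderOf x = 1
    · rw [orderOf_eq_one_iff] at h1
      rw [h1]; exact C.one_mem
    · have hpos : 0 < orderOf x := orderOf_pos x
      have hlt : 1 < orderOf x := by omega
      obtain ⟨u, -, hu⟩ := Nat.exists_mul_mod_eq_one_of_coprime hcop hlt
      have h2 : x = (x ^ (p ^ j)) ^ u := by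
        rw [← pow_mul, ← pow_mod_orderOf, hu, pow_one]
      rw [h2]
      exact C.pow_mem hpow u
  exact (Subgroup.mem_centralizer_iff.1 hxC y hy).symm

/-- in a finite nilpotent group the `p`-regular elements form a normal subgroup of index `|E|_p` -/
theorem exists_pregular_subgroup (p : ℕ) [Fact p.Prime] [Group.IsNilpotent E] :
    ∃ Q : Subgroup E, Q.Normal ∧ (∀ e : E, e ∈ Q ↔ ¬ p ∣ orderOf e) ∧
      Q.index = p ^ (Nat.card E).factorization p := by
  classical
  have hpp : p.Prime := Fact.out
  obtain ⟨P⟩ : Nonempty (Sylow p E) := inferInstance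
  have hPn : (P : Subgroup E).Normal := inferInstance
  have hcop : (Nat.card (P : Subgroup E)).Coprime (P : Subgroup E).index := P.card_coprime_index
  obtain ⟨Q, hQ⟩ := Subgroup.exists_left_complement'_of_coprime hcop
  have hcardQ : (P : Subgroup E).index = Nat.card Q := hQ.index_eq_card
  have hmem : ∀ e : E, e ∈ Q ↔ ¬ p ∣ orderOf e := by
    intro e
    constructor
    · intro he hd
      have h1 : orderOf e ∣ Nat.card Q := Subgroup.orderOf_dvd_natCard Q he
      rw [← hcardQ] at h1
      exact P.not_dvd_index (hd.trans h1)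
    · intro he
      obtain ⟨⟨q, y⟩, hqy, -⟩ := Subgroup.isComplement_iff_existsUnique.1 hQ e
      have hqy' : (q : E) * (y : E) = e := hqy
      have hq : ¬ p ∣ orderOf (q : E) := by
        intro hd
        have h1 : orderOf (q : E) ∣ Nat.card Q := Subgroup.orderOf_dvd_natCard Q q.2
        rw [← hcardQ] at h1
        exact P.not_dvd_index (hd.trans h1)
      have hcomm : Commute (q : E) (y : E) := commute_of_pregular_nilpotent P hq y.2
      obtain ⟨k, hk⟩ := (IsPGroup.iff_orderOf.1 P.2) y
      have hk' : orderOf (y : E) = p ^ k := by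
        rw [← hk, Subgroup.orderOf_coe]
      have hco : (orderOf (q : E)).Coprime (orderOf (y : E)) := by
        rw [hk']
        exact Nat.Coprime.pow_right k ((Nat.Prime.coprime_iff_not_dvd hpp).2 hq).symm
      have hord := hcomm.orderOf_mul_eq_mul_orderOf_of_coprime hco
      rw [hqy'] at hord
      have hk0 : k = 0 := by
        by_contra hk0
        apply he
        rw [hord, hk']
        exact Dvd.dvd.mul_left (dvd_pow_self p hk0) _
      rw [hk0, pow_zero, orderOf_eq_one_iff] at hk'
      rw [← hqy', hk', mul_one]
      exact q.2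
  refine ⟨Q, ?_, hmem, ?_⟩
  · constructor
    intro n hn g
    rw [hmem] at hn ⊢
    have h1 : orderOf (g * n * g⁻¹) = orderOf n := by
      have := (MulAut.conj g).orderOf_eq n
      rwa [MulAut.conj_apply] at this
    rw [h1]
    exact hn
  · rw [hQ.symm.index_eq_card]
    exact P.card_eq_multiplicity

end PRegular

section IndNormal

variable {G : Type u} [Group G] [Fintype G]

/-- the trivial character induced from a normal subgroup -/
theorem indFun_one_of_normal (Q : Subgroup G) [hQ : Q.Normal] [DecidablePred (· ∈ Q)] (g : G) :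
    indFun Q (fun _ => (1 : ℂ)) g = if g ∈ Q then (Q.index : ℂ) else 0 := by
  classical
  unfold indFun
  have hcardQ : (Nat.card Q : ℂ) ≠ 0 := by exact_mod_cast (Nat.card_pos (α := Q)).ne'
  by_cases hg : g ∈ Q
  · rw [if_pos hg]
    have h1 : ∀ x : G, extendByZero Q (fun _ => (1 : ℂ)) (x⁻¹ * g * x) = 1 := by
      intro x
      have hmem : x⁻¹ * g * x ∈ Q := by
        have := hQ.conj_mem g hg x⁻¹
        rwa [inv_inv] at this
      rw [helper5.extendByZero_of_mem _ _ _ hmem]
    rw [Finset.sum_congr rfl (fun x _ => h1 x), Finset.sum_const, Finset.card_univ, nsmul_eq_mul,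
      mul_one, ← Nat.card_eq_fintype_card, ← Subgroup.card_mul_index Q]
    push_cast
    field_simp
  · rw [if_neg hg]
    have h1 : ∀ x : G, extendByZero Q (fun _ => (1 : ℂ)) (x⁻¹ * g * x) = 0 := by
      intro x
      have hmem : x⁻¹ * g * x ∉ Q := by
        intro h
        apply hg
        have := hQ.conj_mem _ h x
        have h2 : x * (x⁻¹ * g * x) * x⁻¹ = g := by group
        rwa [h2] at this
      rw [helper5.extendByZero_of_not_mem _ _ _ hmem]
    rw [Finset.sum_congr rfl (fun x _ => h1 x), Finset.sum_const_zero, mul_zero]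

end IndNormal

section RegularPart

variable {G : Type u} [Group G] [Fintype G]

/-- the restriction to a nilpotent subgroup of `p^a χ` cut down to the `p`-regular elements
is a character -/
theorem isCharacter_pregular_cut (p : ℕ) [Fact p.Prime] {χ : G → ℂ} (hχ : IsCharacter G χ)
    (E : Subgroup G) [Group.IsNilpotent E] :
    IsCharacter E (fun e : E => if p ∣ orderOf (e : G) then 0 else
      ((p ^ (Nat.card G).factorization p : ℕ) : ℂ) * χ e) := by
  classical
  have hpp : p.Prime := Fact.out
  have := Fintype.ofFinite E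
  obtain ⟨Q, hQn, hQmem, hQidx⟩ := exists_pregular_subgroup (E := E) p
  have := Fintype.ofFinite Q
  have hone : IsCharacter Q (fun _ : Q => (1 : ℂ)) := irr_isCharacter isIrrCharacter_one
  have hb : (Nat.card E).factorization p ≤ (Nat.card G).factorization p := by
    have hdvd : Nat.card E ∣ Nat.card G := Subgroup.card_subgroup_dvd_card E
    exact (Nat.factorization_le_iff_dvd Nat.card_pos.ne' Nat.card_pos.ne').2 hdvd p
  obtain ⟨c, hc⟩ := Nat.exists_eq_add_of_le hb
  have hchar : IsCharacter E ((p ^ c) • ((fun e : E => χ e) * indFun Q (fun _ => (1 : ℂ)))) :=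
    isCharacter_nsmul _ (helper1.isCharacter_mul (isCharacter_restrict E hχ)
      (isCharacter_indFun Q hone))
  convert hchar using 1
  funext e
  rw [Pi.smul_apply, Pi.mul_apply, indFun_one_of_normal Q e, hQidx]
  have horder : orderOf (e : G) = orderOf e := Subgroup.orderOf_coe e
  by_cases hd : p ∣ orderOf (e : G)
  · rw [if_pos hd, if_neg, mul_zero, smul_zero]
    rw [hQmem, ← horder]
    exact fun h => h hd
  · rw [if_neg hd, if_pos]
    · rw [hc, pow_add, nsmul_eq_mul]
      push_cast
      ring
    · rw [hQmem, ← horder]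
      exact hd

/-- `p^a χ` cut down to the `p`-regular elements is a generalized character -/
theorem isGeneralizedCharacter_pregular_cut (p : ℕ) [Fact p.Prime] {χ : G → ℂ}
    (hχ : IsCharacter G χ) :
    IsGeneralizedCharacter G (fun x : G => if p ∣ orderOf x then 0 else
      ((p ^ (Nat.card G).factorization p : ℕ) : ℂ) * χ x) := by
  classical
  apply brauer_characterization
  · intro g h
    have h1 : orderOf (h * g * h⁻¹) = orderOf g := by
      have := (MulAut.conj h).orderOf_eq g
      rwa [MulAut.conj_apply] at this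
    show (if p ∣ orderOf (h * g * h⁻¹) then (0 : ℂ) else _ * χ (h * g * h⁻¹)) = _
    rw [h1, char_isClassFunction hχ g h]
  · intro E q hq hE
    have := Fintype.ofFinite E
    have : Group.IsNilpotent E := isNilpotent_of_isElementary hq hE
    refine ⟨_, 0, isCharacter_pregular_cut p hχ E, isCharacter_zero, ?_⟩
    rw [sub_zero]

end RegularPart

end Cfsg.Agent.helper24
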