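import Mathlib
import Cfsg.Agent.Lib_helper24_PRegular
import Cfsg.Agent.Lib_helper23_Central
import Cfsg.Agent.Lib_helper1_RepBridge

set_option autoImplicit false

namespace Cfsg.Agent.helper24

open Cfsg Cfsg.Agent.helper12
open scoped ComplexConjugate

universe u

section WeightedSum

variable {G : Type u} [Group G] [Fintype G]

/-- the sum of `χ(g) conj χ(g)` over a union of conjugacy classes is `χ(1)` times an algebraic
integer -/
theorem irr_sum_over_classes (χ : IrrCharacter G) (S : Finset G)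
    (hS : ∀ x k : G, IsConj x k → (x ∈ S ↔ k ∈ S)) :
    ∃ T : ℂ, IsIntegral ℤ T ∧
      ∑ g ∈ S, (χ : G → ℂ) g * conj ((χ : G → ℂ) g) = (χ : G → ℂ) 1 * T := by
  classical
  have hcf : ∀ x k : G, IsConj x k → (χ : G → ℂ) k = (χ : G → ℂ) x := by
    intro x k h
    exact (isClassFunction_iff_isConj.mp (char_isClassFunction (irr_isCharacter χ.2)) x k h).symm
  have hfib := Finset.sum_fiberwise (s := S)
    (g := (ConjClasses.mk : G → ConjClasses G))
    (f := fun g => (χ : G → ℂ) g * conj ((χ : G → ℂ) g))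
  refine ⟨∑ C : ConjClasses G, if Quotient.out C ∈ S then
    Cfsg.centralChar (χ : G → ℂ) (Quotient.out C) * conj ((χ : G → ℂ) (Quotient.out C)) else 0,
    ?_, ?_⟩
  · apply IsIntegral.sum
    intro C _
    split_ifs
    · apply IsIntegral.mul (helper23.irr_centralChar_isIntegral χ _)
      have h3 : conj ((χ : G → ℂ) (Quotient.out C)) = (χ : G → ℂ) (Quotient.out C)⁻¹ := by
        rw [char_inv (irr_isCharacter χ.2)]
      rw [h3]
      exact helper23.irr_isIntegral χ _
    · exact isIntegral_zero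
  · rw [← hfib, Finset.mul_sum]
    apply Finset.sum_congr rfl
    intro C _
    obtain ⟨x, hx⟩ : ∃ x : G, x = Quotient.out C := ⟨_, rfl⟩
    rw [← hx]
    have hC : ConjClasses.mk x = C := by rw [hx]; exact Quotient.out_eq C
    by_cases hxS : x ∈ S
    · rw [if_pos hxS]
      have hfilter : S.filter (fun g : G => ConjClasses.mk g = C) = helper23.conjFinset x := by
        ext g
        simp only [Finset.mem_filter, helper23.mem_conjFinset]
        rw [← ConjClasses.mk_eq_mk_iff_isConj, hC]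
        constructor
        · rintro ⟨-, h⟩; exact h.symm
        · intro h
          refine ⟨?_, h.symm⟩
          have hconj : IsConj x g := by
            rw [← ConjClasses.mk_eq_mk_iff_isConj, hC]; exact h
          exact (hS x g hconj).1 hxS
      rw [hfilter]
      have h4 : ∀ g ∈ helper23.conjFinset x, (χ : G → ℂ) g * conj ((χ : G → ℂ) g) =
          (χ : G → ℂ) x * conj ((χ : G → ℂ) x) := by
        intro g hg
        rw [hcf _ g (helper23.mem_conjFinset.mp hg)]
      rw [Finset.sum_congr rfl h4, Finset.sum_const, nsmul_eq_mul]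
      have h5 := helper23.centralChar_mul_degree χ x
      rw [← helper23.card_conjFinset] at h5
      rw [← mul_assoc ((χ : G → ℂ) 1), h5]
      ring
    · rw [if_neg hxS, mul_zero]
      apply Finset.sum_eq_zero
      intro g hg
      exfalso
      rw [Finset.mem_filter] at hg
      have hconj : IsConj x g := by
        rw [← ConjClasses.mk_eq_mk_iff_isConj, hC]; exact hg.2.symm
      exact hxS ((hS x g hconj).2 hg.1)

end WeightedSum

section DefectZero

variable {G : Type u} [Group G] [Fintype G]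

/-- an irreducible character of `p`-defect zero vanishes on the `p`-singular elements -/
theorem defect_zero_vanish (p : ℕ) [Fact p.Prime] (χ : IrrCharacter G)
    (hdeg : p ^ (Nat.card G).factorization p ∣ charDegree (χ : G → ℂ)) (x : G)
    (hx : p ∣ orderOf x) : (χ : G → ℂ) x = 0 := by
  classical
  have hpp : p.Prime := Fact.out
  have hχc : IsCharacter G (χ : G → ℂ) := irr_isCharacter χ.2
  set a : ℕ := (Nat.card G).factorization p with ha
  set d : ℕ := charDegree (χ : G → ℂ) with hd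
  have hdcast : ((d : ℕ) : ℂ) = (χ : G → ℂ) 1 := char_charDegree_cast hχc
  have hdpos : 0 < d := irr_charDegree_pos χ.2
  -- the generalized character `θ`
  set θ : G → ℂ := fun x : G => if p ∣ orderOf x then 0 else
    ((p ^ (Nat.card G).factorization p : ℕ) : ℂ) * (χ : G → ℂ) x with hθ
  obtain ⟨α, β, hα, hβ, hαβ⟩ := isGeneralizedCharacter_pregular_cut p hχc
  obtain ⟨nα, hnα⟩ := classInner_char_nat hα hχc
  obtain ⟨nβ, hnβ⟩ := classInner_char_nat hβ hχc
  set z : ℤ := (nα : ℤ) - (nβ : ℤ) with hz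
  have hzθ : classInner θ (χ : G → ℂ) = (z : ℂ) := by
    rw [hθ, hαβ, classInner_sub_left, hnα, hnβ, hz]
    push_cast
    ring
  -- the two partial sums
  set S₁ : Finset G := Finset.univ.filter (fun g : G => ¬ p ∣ orderOf g) with hS₁
  set S₂ : Finset G := Finset.univ.filter (fun g : G => p ∣ orderOf g) with hS₂
  set r₁ : ℝ := ∑ g ∈ S₁, Complex.normSq ((χ : G → ℂ) g) with hr₁
  set r₂ : ℝ := ∑ g ∈ S₂, Complex.normSq ((χ : G → ℂ) g) with hr₂
  have hcardpos : (0 : ℝ) < (Nat.card G : ℝ) := by exact_mod_cast Nat.card_pos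
  have hsum12 : r₂ + r₁ = (Nat.card G : ℝ) := by
    rw [hr₁, hr₂, hS₁, hS₂, Finset.sum_filter_add_sum_filter_not]
    have hinner := irr_classInner_self χ.2
    unfold classInner at hinner
    have hG : (Nat.card G : ℂ) ≠ 0 := by exact_mod_cast Nat.card_pos.ne'
    have h1 : ∑ g : G, (χ : G → ℂ) g * conj ((χ : G → ℂ) g) = (Nat.card G : ℂ) := by
      field_simp at hinner
      exact hinner
    have h2 : ((∑ g : G, Complex.normSq ((χ : G → ℂ) g) : ℝ) : ℂ) = ((Nat.card G : ℝ) : ℂ) := by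
      push_cast
      rw [← h1]
      refine Finset.sum_congr rfl (fun g _ => ?_)
      rw [Complex.mul_conj]
    exact_mod_cast h2
  -- `|G| z = p^a r₁`
  have hS₁c : ∑ g ∈ S₁, (χ : G → ℂ) g * conj ((χ : G → ℂ) g) = ((r₁ : ℝ) : ℂ) := by
    rw [hr₁]
    push_cast
    refine Finset.sum_congr rfl (fun g _ => ?_)
    rw [Complex.mul_conj]
  have hzr : (Nat.card G : ℂ) * (z : ℂ) = ((p ^ a : ℕ) : ℂ) * ((r₁ : ℝ) : ℂ) := by
    rw [← hzθ, ← hS₁c]
    unfold classInner
    have hG : (Nat.card G : ℂ) ≠ 0 := by exact_mod_cast Nat.card_pos.ne'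
    rw [← mul_assoc, mul_inv_cancel₀ hG, one_mul, hS₁, Finset.sum_filter, Finset.mul_sum]
    refine Finset.sum_congr rfl (fun g _ => ?_)
    by_cases hg : p ∣ orderOf g
    · rw [if_neg (not_not.2 hg), hθ]
      simp only [if_pos hg, zero_mul, mul_zero]
    · rw [if_pos hg, hθ]
      simp only [if_neg hg]
      ring
  have hzr' : (Nat.card G : ℝ) * (z : ℝ) = ((p ^ a : ℕ) : ℝ) * r₁ := by
    have : (((Nat.card G : ℝ) * (z : ℝ) : ℝ) : ℂ) = ((((p ^ a : ℕ) : ℝ) * r₁ : ℝ) : ℂ) := by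
      push_cast
      push_cast at hzr
      exact hzr
    exact_mod_cast this
  -- divisibility
  have hS₁inv : ∀ x k : G, IsConj x k → (x ∈ S₁ ↔ k ∈ S₁) := by
    intro x k hxk
    obtain ⟨c, hc⟩ := isConj_iff.mp hxk
    have h1 : orderOf k = orderOf x := by
      have := (MulAut.conj c).orderOf_eq x
      rw [MulAut.conj_apply, hc] at this
      exact this
    simp only [hS₁, Finset.mem_filter, Finset.mem_univ, true_and, h1]
  obtain ⟨T, hT, hTeq⟩ := irr_sum_over_classes χ S₁ hS₁inv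
  have hdvd1 : ((p ^ a * d : ℕ) : ℤ) ∣ (Nat.card G : ℤ) * z := by
    apply helper23.int_dvd_of_eq_mul_isIntegral _ _ _ T hT
    · push_cast
      rw [hzr, hS₁c.symm, hTeq, ← hdcast]
      push_cast
      ring
    · have : 0 < p ^ a * d := Nat.mul_pos (pow_pos hpp.pos a) hdpos
      exact_mod_cast this.ne'
  obtain ⟨d', hd'⟩ := hdeg
  have hcardeq : Nat.card G = p ^ a * (Nat.card G / p ^ a) :=
    (Nat.ordProj_mul_ordCompl_eq_self (Nat.card G) p).symm
  have hnd : ¬ p ∣ Nat.card G / p ^ a := Nat.not_dvd_ordCompl hpp Nat.card_pos.ne'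
  set g' : ℕ := Nat.card G / p ^ a with hg'
  have hdvd2 : ((p ^ a : ℕ) : ℤ) ∣ z := by
    have h1 : ((p ^ a : ℕ) : ℤ) * (((p ^ a : ℕ) : ℤ) * (d' : ℤ)) ∣
        ((p ^ a : ℕ) : ℤ) * ((g' : ℤ) * z) := by
      have h2 : ((p ^ a * d : ℕ) : ℤ) = ((p ^ a : ℕ) : ℤ) * (((p ^ a : ℕ) : ℤ) * (d' : ℤ)) := by
        rw [hd']
        push_cast
        ring
      have h3 : (Nat.card G : ℤ) * z = ((p ^ a : ℕ) : ℤ) * ((g' : ℤ) * z) := by
        conv_lhs => rw [hcardeq]
        push_cast
        ring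
      rw [← h2, ← h3]
      exact hdvd1
    have hpa0 : ((p ^ a : ℕ) : ℤ) ≠ 0 := by
      have : 0 < p ^ a := pow_pos hpp.pos a
      exact_mod_cast this.ne'
    have h4 : ((p ^ a : ℕ) : ℤ) * (d' : ℤ) ∣ (g' : ℤ) * z := (mul_dvd_mul_iff_left hpa0).1 h1
    have h5 : ((p ^ a : ℕ) : ℤ) ∣ (g' : ℤ) * z := (Dvd.intro _ rfl).trans h4
    have hcop : IsCoprime ((p ^ a : ℕ) : ℤ) (g' : ℤ) := by
      have : Nat.Coprime (p ^ a) g' :=
        Nat.Coprime.pow_left a ((Nat.Prime.coprime_iff_not_dvd hpp).2 hnd)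
      exact Nat.isCoprime_iff_coprime.2 this
    exact hcop.dvd_of_dvd_mul_left h5
  -- bounds
  have hr₂nn : 0 ≤ r₂ := Finset.sum_nonneg (fun g _ => Complex.normSq_nonneg _)
  have hr₁pos : 0 < r₁ := by
    have h1 : (1 : G) ∈ S₁ := by
      simp only [hS₁, Finset.mem_filter, Finset.mem_univ, true_and, orderOf_one]
      exact fun h => hpp.one_lt.ne' (Nat.dvd_one.1 h)
    have h2 : 0 < Complex.normSq ((χ : G → ℂ) 1) :=
      Complex.normSq_pos.2 (irr_apply_one_ne_zero χ.2)
    exact lt_of_lt_of_le h2 (Finset.single_le_sum (f := fun g => Complex.normSq ((χ : G → ℂ) g))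
      (fun g _ => Complex.normSq_nonneg _) h1)
  have hpa : (0 : ℝ) < ((p ^ a : ℕ) : ℝ) := by exact_mod_cast pow_pos hpp.pos a
  have hzpos : 0 < z := by
    have h1 : (0 : ℝ) < (Nat.card G : ℝ) * (z : ℝ) := by rw [hzr']; exact mul_pos hpa hr₁pos
    have h2 : (0 : ℝ) < (z : ℝ) := by
      by_contra hneg
      push Not at hneg
      have := mul_nonpos_of_nonneg_of_nonpos hcardpos.le hneg
      linarith
    exact_mod_cast h2
  have hzle : z ≤ ((p ^ a : ℕ) : ℤ) := by
    have h1 : (Nat.card G : ℝ) * (z : ℝ) ≤ (Nat.card G : ℝ) * ((p ^ a : ℕ) : ℝ) := by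
      rw [hzr', mul_comm (Nat.card G : ℝ)]
      apply mul_le_mul_of_nonneg_left _ hpa.le
      linarith
    have h2 : (z : ℝ) ≤ ((p ^ a : ℕ) : ℝ) := le_of_mul_le_mul_left h1 hcardpos
    exact_mod_cast h2
  have hzeq : z = ((p ^ a : ℕ) : ℤ) := by
    have h1 : ((p ^ a : ℕ) : ℤ) ≤ z := Int.le_of_dvd hzpos hdvd2
    exact le_antisymm hzle h1
  -- conclusion
  have hr₁eq : r₁ = (Nat.card G : ℝ) := by
    have h1 : (Nat.card G : ℝ) * ((p ^ a : ℕ) : ℝ) = ((p ^ a : ℕ) : ℝ) * r₁ := by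
      rw [← hzr', hzeq]
      push_cast
      ring
    have h2 : ((p ^ a : ℕ) : ℝ) * (Nat.card G : ℝ) = ((p ^ a : ℕ) : ℝ) * r₁ := by
      rw [← h1]; ring
    exact (mul_left_cancel₀ hpa.ne' h2).symm
  have hr₂eq : r₂ = 0 := by linarith
  have hxS₂ : x ∈ S₂ := by
    simp only [hS₂, Finset.mem_filter, Finset.mem_univ, true_and]
    exact hx
  have hzero := (Finset.sum_eq_zero_iff_of_nonneg
    (fun g _ => Complex.normSq_nonneg ((χ : G → ℂ) g))).1 hr₂eq x hxS₂
  exact Complex.normSq_eq_zero.1 hzero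

end DefectZero

end Cfsg.Agent.helper24
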