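import Mathlib
import Cfsg.Agent.Lib_helper24_Char
import Cfsg.Agent.Lib_helper12_CharOps

set_option autoImplicit false
set_option linter.unusedSectionVars false
set_option linter.unusedVariables false
set_option linter.style.longLine false

/-!
Complex conjugate of a character (helper1): it is a character (dual representation), irreducible
if the original is; the induced involution `irrConj` of `IrrCharacter G`.
-/

namespace Cfsg.Agent.helper1

open Cfsg
open scoped ComplexConjugate

universe u
variable {G : Type u} [Group G]

/-- The complex conjugate of a character is a character (of the dual representation). -/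
theorem isCharacter_conj [Finite G] {χ : G → ℂ} (hχ : IsCharacter G χ) :
    IsCharacter G (fun g => conj (χ g)) := by
  have hχ' := hχ
  obtain ⟨n, ρ, rfl⟩ := hχ
  have h := Cfsg.Agent.helper12.isCharacter_of_rep ρ.dual
  have : ρ.dual.character = fun g => conj (ρ.character g) := by
    funext g
    rw [Representation.char_dual, Cfsg.Agent.helper24.char_inv hχ' g]
  rw [this] at h
  exact h

theorem classInner_conj_conj [Fintype G] (φ ψ : G → ℂ) :
    classInner (fun g => conj (φ g)) (fun g => conj (ψ g)) = conj (classInner φ ψ) := by
  unfold classInner
  rw [map_mul, map_inv₀, Complex.conj_natCast, map_sum]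
  congr 1
  apply Finset.sum_congr rfl
  intro g _
  rw [map_mul]

/-- The complex conjugate of an irreducible character is irreducible. -/
theorem isIrrCharacter_conj [Finite G] {χ : G → ℂ} (hχ : IsIrrCharacter G χ) :
    IsIrrCharacter G (fun g => conj (χ g)) := by
  classical
  haveI := Fintype.ofFinite G
  apply Cfsg.Agent.helper12.isIrrCharacter_of_classInner_self
    (isCharacter_conj (Cfsg.Agent.helper24.irr_isCharacter hχ))
  rw [classInner_conj_conj, Cfsg.Agent.helper24.irr_classInner_self hχ, map_one]

/-- Complex conjugation on irreducible characters. -/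
noncomputable def irrConj [Finite G] (χ : IrrCharacter G) : IrrCharacter G :=
  ⟨fun g => conj ((χ : G → ℂ) g), isIrrCharacter_conj χ.2⟩

@[simp] theorem irrConj_apply [Finite G] (χ : IrrCharacter G) (g : G) :
    (irrConj χ : G → ℂ) g = conj ((χ : G → ℂ) g) := rfl

@[simp] theorem irrConj_irrConj [Finite G] (χ : IrrCharacter G) : irrConj (irrConj χ) = χ := by
  apply Subtype.ext
  funext g
  simp

theorem irrConj_eq_self_iff [Finite G] (χ : IrrCharacter G) :
    irrConj χ = χ ↔ ∀ g : G, ((χ : G → ℂ) g).im = 0 := by
  constructor
  · intro h g
    have : conj ((χ : G → ℂ) g) = (χ : G → ℂ) g := by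
      have := congrArg (fun ψ : IrrCharacter G => (ψ : G → ℂ) g) h
      simpa using this
    exact Complex.conj_eq_iff_im.mp this
  · intro h
    apply Subtype.ext
    funext g
    exact Complex.conj_eq_iff_im.mpr (h g)

theorem charDegree_irrConj [Finite G] (χ : IrrCharacter G) :
    charDegree (irrConj χ : G → ℂ) = charDegree (χ : G → ℂ) := by
  unfold charDegree
  simp

end Cfsg.Agent.helper1
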