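import Mathlib
import Cfsg.Agent.Lib_helper24_PRegular
import Cfsg.Agent.Lib_helper1_ConjChar
import Cfsg.Agent.Lib_helper23_Integral

set_option autoImplicit false

namespace Cfsg.Agent.helper24

open Cfsg Cfsg.Agent.helper12
open scoped ComplexConjugate

universe u

section RComb

variable {G : Type u} [Group G] [Fintype G]

/-- class functions which are combinations of the irreducible characters with algebraic integer
coefficients -/
def IsRComb (G : Type u) [Group G] [Fintype G] (f : G → ℂ) : Prop :=
  IsClassFunction G f ∧ ∀ χ : IrrCharacter G, IsIntegral ℤ (classInner f (χ : G → ℂ))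

theorem isIntegral_natCast_complex (n : ℕ) : IsIntegral ℤ (n : ℂ) := by
  have := isIntegral_algebraMap (R := ℤ) (A := ℂ) (x := (n : ℤ))
  simpa using this

theorem isIntegral_intCast_complex (n : ℤ) : IsIntegral ℤ (n : ℂ) := by
  have := isIntegral_algebraMap (R := ℤ) (A := ℂ) (x := n)
  simpa using this

theorem IsRComb.inner_char {f : G → ℂ} (hf : IsRComb G f) {ξ : G → ℂ} (hξ : IsCharacter G ξ) :
    IsIntegral ℤ (classInner f ξ) := by
  classical
  have := Fintype.ofFinite (IrrCharacter G)
  obtain ⟨n, hexp, -, -⟩ := char_decomp hξ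
  rw [hexp, helper8.classInner_sum_right]
  apply IsIntegral.sum
  intro ψ _
  rw [helper8.classInner_smul_right, map_natCast]
  exact (isIntegral_natCast_complex _).mul (hf.2 ψ)

theorem isRComb_of_char {ξ : G → ℂ} (hξ : IsCharacter G ξ) : IsRComb G ξ := by
  refine ⟨char_isClassFunction hξ, fun χ => ?_⟩
  obtain ⟨n, hn⟩ := classInner_char_nat hξ (irr_isCharacter χ.2)
  rw [hn]
  exact isIntegral_natCast_complex n

theorem isRComb_smul {c : ℂ} (hc : IsIntegral ℤ c) {f : G → ℂ} (hf : IsRComb G f) :
    IsRComb G (c • f) := by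
  refine ⟨?_, fun χ => ?_⟩
  · intro g h
    show c * f (h * g * h⁻¹) = c * f g
    rw [hf.1 g h]
  · rw [classInner_smul_left]
    exact hc.mul (hf.2 χ)

theorem isRComb_sum {ι : Type*} (s : Finset ι) (f : ι → G → ℂ) (hf : ∀ i ∈ s, IsRComb G (f i)) :
    IsRComb G (∑ i ∈ s, f i) := by
  refine ⟨?_, fun χ => ?_⟩
  · intro g h
    rw [Finset.sum_apply, Finset.sum_apply]
    exact Finset.sum_congr rfl (fun i hi => (hf i hi).1 g h)
  · rw [classInner_sum_left]
    exact IsIntegral.sum _ (fun i hi => (hf i hi).2 χ)

/-- coefficients of an `R`-combination -/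
theorem IsRComb.exists_coeff {f : G → ℂ} (hf : IsRComb G f) :
    ∃ c : IrrCharacter G → ℂ, (∀ χ, c χ ∈ AlgInt) ∧
      f = ∑ᶠ χ : IrrCharacter G, c χ • (χ : G → ℂ) := by
  classical
  have := Fintype.ofFinite (IrrCharacter G)
  refine ⟨fun χ => classInner f (χ : G → ℂ), fun χ => hf.2 χ, ?_⟩
  rw [finsum_eq_sum_of_fintype]
  exact classFunction_expansion hf.1

/-- **Brauer's characterization**, with algebraic integer coefficients -/
theorem isRComb_of_elementary (θ : G → ℂ) (hθ : IsClassFunction G θ)
    (hE : ∀ (E : Subgroup G) (p : ℕ) [Fintype E], p.Prime → IsElementary p E →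
      IsRComb E (fun e : E => θ e)) : IsRComb G θ := by
  classical
  refine ⟨hθ, fun χ => ?_⟩
  have hχc : IsCharacter G (χ : G → ℂ) := irr_isCharacter χ.2
  have key : ∀ F ∈ GSpan G, IsIntegral ℤ (classInner (θ * F) (χ : G → ℂ)) := by
    intro F hF
    unfold GSpan at hF
    induction hF using AddSubgroup.closure_induction with
    | mem F hF =>
      obtain ⟨p, E, φ, hp, hEl, hφ, rfl⟩ := hF
      have := Fintype.ofFinite E
      rw [← indFun_res_mul' E hθ φ,
        classInner_indFun_eq_restrict E _ _ (char_isClassFunction hχc)]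
      have h1 : classInner (fun n : E => θ n * φ n) (fun e : E => (χ : G → ℂ) e) =
          classInner (fun e : E => θ e) (fun e : E => conj (φ e) * (χ : G → ℂ) e) := by
        unfold classInner
        congr 1
        apply Finset.sum_congr rfl
        intro e _
        rw [map_mul, Complex.conj_conj]
        ring
      rw [h1]
      apply (hE E p hp hEl).inner_char
      exact helper1.isCharacter_mul (helper1.isCharacter_conj hφ) (isCharacter_restrict E hχc)
    | zero => rw [mul_zero, classInner_zero_left]; exact isIntegral_zero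
    | add f₁ f₂ _ _ h₁ h₂ => rw [mul_add, classInner_add_left]; exact h₁.add h₂
    | neg f₁ _ h₁ =>
      have h2 : θ * -f₁ = (-1 : ℂ) • (θ * f₁) := by
        funext g
        simp
      rw [h2, classInner_smul_left]
      exact (isIntegral_one.neg).mul h₁
  have := key _ (one_mem_gspan (G := G))
  have h : (θ * fun _ : G => (1 : ℂ)) = θ := by
    funext g
    simp
  rw [h] at this
  exact this

theorem isCharacter_comp_monoidHom {K H : Type*} [Group K] [Group H] (f : K →* H) {χ : H → ℂ}
    (hχ : IsCharacter H χ) : IsCharacter K (fun k => χ (f k)) := by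
  obtain ⟨n, ρ, rfl⟩ := hχ
  exact ⟨n, (MonoidHom.comp ρ f : Representation ℂ K (Fin n → ℂ)), rfl⟩

end RComb

end Cfsg.Agent.helper24
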