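import Mathlib
import Cfsg.Agent.Lib_helper12_CharOps
import Cfsg.Agent.Lib_helper8_Ind

set_option autoImplicit false

/-!
Generalized (virtual) characters (shared library, helper8): integer decomposition into
irreducibles, norms, norm one means plus or minus an irreducible character, norm two means
a signed sum of two distinct irreducible characters.
-/

namespace Cfsg.Agent.helper8

open scoped ComplexConjugate
open Cfsg.Agent.helper24 Cfsg.Agent.helper12

universe u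
variable {G : Type u} [Group G]

/-- Inner product of two expansions in irreducible characters. -/
theorem classInner_expansion [Fintype G] [Fintype (IrrCharacter G)] (a b : IrrCharacter G → ℂ) :
    classInner (∑ ψ : IrrCharacter G, a ψ • (ψ : G → ℂ)) (∑ ψ : IrrCharacter G, b ψ • (ψ : G → ℂ))
      = ∑ ψ : IrrCharacter G, a ψ * conj (b ψ) := by
  classical
  rw [classInner_sum_left]
  apply Finset.sum_congr rfl
  intro ψ _
  rw [classInner_smul_left, classInner_sum_right]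
  congr 1
  rw [Finset.sum_eq_single ψ]
  · rw [classInner_smul_right, irr_classInner_self ψ.2, mul_one]
  · intro φ _ hne
    rw [classInner_smul_right, irr_classInner_ne ψ.2 φ.2, mul_zero]
    intro h
    exact hne (Subtype.ext h).symm
  · intro h; exact absurd (Finset.mem_univ ψ) h

/-- Integer coefficients of a generalized character. -/
theorem virt_decomp [Fintype G] [Fintype (IrrCharacter G)] {θ : G → ℂ}
    (hθ : IsGeneralizedCharacter G θ) :
    ∃ c : IrrCharacter G → ℤ, θ = ∑ ψ : IrrCharacter G, (c ψ : ℂ) • (ψ : G → ℂ) ∧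
      (∀ ψ : IrrCharacter G, classInner θ (ψ : G → ℂ) = c ψ) := by
  obtain ⟨χ₁, χ₂, h₁, h₂, rfl⟩ := hθ
  obtain ⟨n₁, e₁, i₁, -⟩ := char_decomp h₁
  obtain ⟨n₂, e₂, i₂, -⟩ := char_decomp h₂
  refine ⟨fun ψ => (n₁ ψ : ℤ) - n₂ ψ, ?_, ?_⟩
  · have : χ₁ - χ₂ = (∑ ψ : IrrCharacter G, (n₁ ψ : ℂ) • (ψ : G → ℂ))
        - ∑ ψ : IrrCharacter G, (n₂ ψ : ℂ) • (ψ : G → ℂ) := by rw [← e₁, ← e₂]
    rw [this, ← Finset.sum_sub_distrib]
    apply Finset.sum_congr rfl
    intro ψ _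
    push_cast
    rw [sub_smul]
  · intro ψ
    rw [classInner_sub_left, i₁, i₂]
    push_cast
    ring

/-- The norm of an integer combination of irreducibles. -/
theorem virt_norm [Fintype G] [Fintype (IrrCharacter G)] {θ : G → ℂ} (c : IrrCharacter G → ℤ)
    (hθ : θ = ∑ ψ : IrrCharacter G, (c ψ : ℂ) • (ψ : G → ℂ)) :
    classInner θ θ = ((∑ ψ : IrrCharacter G, c ψ ^ 2 : ℤ) : ℂ) := by
  rw [hθ, classInner_expansion]
  push_cast
  apply Finset.sum_congr rfl
  intro ψ _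
  rw [map_intCast]
  ring

/-- Inner product of two integer combinations of irreducibles. -/
theorem virt_inner [Fintype G] [Fintype (IrrCharacter G)] {θ θ' : G → ℂ}
    (c c' : IrrCharacter G → ℤ)
    (hθ : θ = ∑ ψ : IrrCharacter G, (c ψ : ℂ) • (ψ : G → ℂ))
    (hθ' : θ' = ∑ ψ : IrrCharacter G, (c' ψ : ℂ) • (ψ : G → ℂ)) :
    classInner θ θ' = ((∑ ψ : IrrCharacter G, c ψ * c' ψ : ℤ) : ℂ) := by
  rw [hθ, hθ', classInner_expansion]
  push_cast
  apply Finset.sum_congr rfl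
  intro ψ _
  rw [map_intCast]

/-- The inner product of two generalized characters is an integer. -/
theorem virt_inner_int [Fintype G] {θ θ' : G → ℂ} (hθ : IsGeneralizedCharacter G θ)
    (hθ' : IsGeneralizedCharacter G θ') : ∃ k : ℤ, classInner θ θ' = k := by
  classical
  haveI : Fintype (IrrCharacter G) := Fintype.ofFinite _
  obtain ⟨c, hexp, -⟩ := virt_decomp hθ
  obtain ⟨c', hexp', -⟩ := virt_decomp hθ'
  exact ⟨_, virt_inner c c' hexp hexp'⟩

theorem int_sq_sum_one {ι : Type*} [Fintype ι] [DecidableEq ι] (c : ι → ℤ)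
    (h : ∑ i, c i ^ 2 = 1) : ∃ i₀, (c i₀ = 1 ∨ c i₀ = -1) ∧ ∀ i, i ≠ i₀ → c i = 0 := by
  have hex : ∃ i₀, c i₀ ≠ 0 := by
    by_contra hne
    push Not at hne
    simp [hne] at h
  obtain ⟨i₀, hi₀⟩ := hex
  have hsplit := Finset.add_sum_erase Finset.univ (fun i => c i ^ 2) (Finset.mem_univ i₀)
  have hnn : 0 ≤ ∑ i ∈ Finset.univ.erase i₀, c i ^ 2 := Finset.sum_nonneg (fun i _ => sq_nonneg _)
  have h1 : 1 ≤ c i₀ ^ 2 := by
    have : 0 < c i₀ ^ 2 := by positivity
    linarith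
  have hrest : ∑ i ∈ Finset.univ.erase i₀, c i ^ 2 = 0 := by linarith
  have hsq : c i₀ ^ 2 = 1 := by linarith
  refine ⟨i₀, ?_, ?_⟩
  · have h2 : (c i₀ - 1) * (c i₀ + 1) = 0 := by linear_combination hsq
    rcases mul_eq_zero.mp h2 with h | h
    · left; linarith
    · right; linarith
  · intro i hi
    have := (Finset.sum_eq_zero_iff_of_nonneg (fun i _ => sq_nonneg (c i))).mp hrest i
      (Finset.mem_erase.mpr ⟨hi, Finset.mem_univ i⟩)
    exact pow_eq_zero_iff (two_ne_zero) |>.mp this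

theorem int_sq_sum_two {ι : Type*} [Fintype ι] [DecidableEq ι] (c : ι → ℤ)
    (h : ∑ i, c i ^ 2 = 2) : ∃ i₀ i₁, i₀ ≠ i₁ ∧ (c i₀ = 1 ∨ c i₀ = -1) ∧ (c i₁ = 1 ∨ c i₁ = -1) ∧
      ∀ i, i ≠ i₀ → i ≠ i₁ → c i = 0 := by
  have hex : ∃ i₀, c i₀ ≠ 0 := by
    by_contra hne
    push Not at hne
    simp [hne] at h
  obtain ⟨i₀, hi₀⟩ := hex
  have hsplit := Finset.add_sum_erase Finset.univ (fun i => c i ^ 2) (Finset.mem_univ i₀)
  have hnn : 0 ≤ ∑ i ∈ Finset.univ.erase i₀, c i ^ 2 := Finset.sum_nonneg (fun i _ => sq_nonneg _)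
  have h1 : 1 ≤ c i₀ ^ 2 := by
    have : 0 < c i₀ ^ 2 := by positivity
    linarith
  have hne4 : c i₀ ^ 2 ≠ 2 := by
    intro h2
    have hb1 : -1 ≤ c i₀ := by nlinarith
    have hb2 : c i₀ ≤ 1 := by nlinarith
    have h3 : c i₀ = -1 ∨ c i₀ = 0 ∨ c i₀ = 1 := by omega
    rcases h3 with h | h | h <;> rw [h] at h2 <;> norm_num at h2
  have hle : c i₀ ^ 2 ≤ 2 := by linarith
  have hsq : c i₀ ^ 2 = 1 := by omega
  have hrest : ∑ i ∈ Finset.univ.erase i₀, c i ^ 2 = 1 := by linarith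
  -- apply the previous lemma on the subtype
  have hex1 : ∃ i₁, i₁ ≠ i₀ ∧ c i₁ ≠ 0 := by
    by_contra hne
    push Not at hne
    have : ∑ i ∈ Finset.univ.erase i₀, c i ^ 2 = 0 := by
      apply Finset.sum_eq_zero
      intro i hi
      rw [hne i (Finset.mem_erase.mp hi).1]
      norm_num
    linarith
  obtain ⟨i₁, hi₁ne, hi₁⟩ := hex1
  have hmem : i₁ ∈ Finset.univ.erase i₀ := Finset.mem_erase.mpr ⟨hi₁ne, Finset.mem_univ _⟩
  have hsplit2 := Finset.add_sum_erase (Finset.univ.erase i₀) (fun i => c i ^ 2) hmem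
  have hnn2 : 0 ≤ ∑ i ∈ (Finset.univ.erase i₀).erase i₁, c i ^ 2 :=
    Finset.sum_nonneg (fun i _ => sq_nonneg _)
  have h1b : 1 ≤ c i₁ ^ 2 := by
    have : 0 < c i₁ ^ 2 := by positivity
    linarith
  have hsq1 : c i₁ ^ 2 = 1 := by linarith
  have hrest2 : ∑ i ∈ (Finset.univ.erase i₀).erase i₁, c i ^ 2 = 0 := by linarith
  refine ⟨i₀, i₁, hi₁ne.symm, ?_, ?_, ?_⟩
  · have h2 : (c i₀ - 1) * (c i₀ + 1) = 0 := by linear_combination hsq
    rcases mul_eq_zero.mp h2 with h | h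
    · left; linarith
    · right; linarith
  · have h2 : (c i₁ - 1) * (c i₁ + 1) = 0 := by linear_combination hsq1
    rcases mul_eq_zero.mp h2 with h | h
    · left; linarith
    · right; linarith
  · intro i hi0 hi1
    have := (Finset.sum_eq_zero_iff_of_nonneg (fun i _ => sq_nonneg (c i))).mp hrest2 i
      (Finset.mem_erase.mpr ⟨hi1, Finset.mem_erase.mpr ⟨hi0, Finset.mem_univ i⟩⟩)
    exact pow_eq_zero_iff (two_ne_zero) |>.mp this

/-- A generalized character of norm one is an irreducible character or the negative of one. -/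
theorem virt_norm_one [Fintype G] {θ : G → ℂ} (hθ : IsGeneralizedCharacter G θ)
    (h1 : classInner θ θ = 1) : IsIrrCharacter G θ ∨ IsIrrCharacter G (-θ) := by
  classical
  haveI : Fintype (IrrCharacter G) := Fintype.ofFinite _
  obtain ⟨c, hexp, -⟩ := virt_decomp hθ
  have hnorm := virt_norm c hexp
  rw [h1] at hnorm
  have hsum : ∑ ψ, c ψ ^ 2 = 1 := by exact_mod_cast hnorm.symm
  obtain ⟨ψ₀, hψ₀, hrest⟩ := int_sq_sum_one c hsum
  have hθeq : θ = (c ψ₀ : ℂ) • (ψ₀ : G → ℂ) := by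
    rw [hexp]
    apply Finset.sum_eq_single ψ₀
    · intro ψ _ hne
      rw [hrest ψ hne]
      simp
    · intro h; exact absurd (Finset.mem_univ _) h
  rcases hψ₀ with h | h
  · left
    rw [hθeq, h]
    simpa using ψ₀.2
  · right
    rw [hθeq, h]
    simpa using ψ₀.2

/-- A generalized character of norm two is a signed sum of two distinct irreducible characters. -/
theorem virt_norm_two [Fintype G] {θ : G → ℂ} (hθ : IsGeneralizedCharacter G θ)
    (h2 : classInner θ θ = 2) :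
    ∃ (e₀ e₁ : ℂ) (ψ₀ ψ₁ : G → ℂ), (e₀ = 1 ∨ e₀ = -1) ∧ (e₁ = 1 ∨ e₁ = -1) ∧
      IsIrrCharacter G ψ₀ ∧ IsIrrCharacter G ψ₁ ∧ ψ₀ ≠ ψ₁ ∧ θ = e₀ • ψ₀ + e₁ • ψ₁ := by
  classical
  haveI : Fintype (IrrCharacter G) := Fintype.ofFinite _
  obtain ⟨c, hexp, -⟩ := virt_decomp hθ
  have hnorm := virt_norm c hexp
  rw [h2] at hnorm
  have hsum : ∑ ψ, c ψ ^ 2 = 2 := by exact_mod_cast hnorm.symm
  obtain ⟨ψ₀, ψ₁, hne, h₀, h₁, hrest⟩ := int_sq_sum_two c hsum
  refine ⟨(c ψ₀ : ℂ), (c ψ₁ : ℂ), ψ₀, ψ₁, ?_, ?_, ψ₀.2, ψ₁.2, ?_, ?_⟩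
  · rcases h₀ with h | h
    · left; rw [h]; norm_num
    · right; rw [h]; norm_num
  · rcases h₁ with h | h
    · left; rw [h]; norm_num
    · right; rw [h]; norm_num
  · intro h; exact hne (Subtype.ext h)
  · rw [hexp]
    rw [← Finset.add_sum_erase Finset.univ _ (Finset.mem_univ ψ₀)]
    congr 1
    have hmem : ψ₁ ∈ Finset.univ.erase ψ₀ := Finset.mem_erase.mpr ⟨hne.symm, Finset.mem_univ _⟩
    rw [← Finset.add_sum_erase _ _ hmem, Finset.sum_eq_zero, add_zero]
    intro ψ hψ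
    have hψ1 := (Finset.mem_erase.mp hψ).1
    have hψ0 := (Finset.mem_erase.mp (Finset.mem_erase.mp hψ).2).1
    rw [hrest ψ hψ0 hψ1]
    simp

end Cfsg.Agent.helper8
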