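import Mathlib
import Cfsg.Agent.Lib_helper8_Virtual
import Cfsg.Prelude.Def_OddOrderChar

set_option autoImplicit false

/-!
Coherence toolbox (shared library, helper8): closure properties of generalized characters,
positivity of the norm, a Bessel identity for integer coefficients, conjugate functions.
-/

namespace Cfsg.Agent.helper8.Coh

open Cfsg Cfsg.Agent.helper24 Cfsg.Agent.helper12 Cfsg.Agent.helper8
open scoped ComplexConjugate

universe u
variable {G : Type u} [Group G]

theorem gc_of_char {χ : G → ℂ} (h : IsCharacter G χ) : IsGeneralizedCharacter G χ :=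
  ⟨χ, 0, h, isCharacter_zero, by simp⟩

theorem gc_zero : IsGeneralizedCharacter G (0 : G → ℂ) := gc_of_char isCharacter_zero

theorem gc_add {a b : G → ℂ} (ha : IsGeneralizedCharacter G a) (hb : IsGeneralizedCharacter G b) :
    IsGeneralizedCharacter G (a + b) := by
  obtain ⟨χ₁, ψ₁, h1, h2, rfl⟩ := ha
  obtain ⟨χ₂, ψ₂, h3, h4, rfl⟩ := hb
  exact ⟨χ₁ + χ₂, ψ₁ + ψ₂, isCharacter_add h1 h3, isCharacter_add h2 h4, by abel⟩

theorem gc_neg {a : G → ℂ} (ha : IsGeneralizedCharacter G a) : IsGeneralizedCharacter G (-a) := by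
  obtain ⟨χ₁, ψ₁, h1, h2, rfl⟩ := ha
  exact ⟨ψ₁, χ₁, h2, h1, by abel⟩

theorem gc_sub {a b : G → ℂ} (ha : IsGeneralizedCharacter G a) (hb : IsGeneralizedCharacter G b) :
    IsGeneralizedCharacter G (a - b) := by
  rw [sub_eq_add_neg]
  exact gc_add ha (gc_neg hb)

theorem gc_nsmul (n : ℕ) {a : G → ℂ} (ha : IsGeneralizedCharacter G a) :
    IsGeneralizedCharacter G (n • a) := by
  induction n with
  | zero => simpa using gc_zero
  | succ k ih =>
    rw [succ_nsmul]
    exact gc_add ih ha

theorem gc_zsmul (n : ℤ) {a : G → ℂ} (ha : IsGeneralizedCharacter G a) :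
    IsGeneralizedCharacter G (n • a) := by
  obtain ⟨k, rfl | rfl⟩ := n.eq_nat_or_neg
  · rw [natCast_zsmul]
    exact gc_nsmul k ha
  · rw [neg_smul, natCast_zsmul]
    exact gc_neg (gc_nsmul k ha)

theorem gc_intCast_smul (n : ℤ) {a : G → ℂ} (ha : IsGeneralizedCharacter G a) :
    IsGeneralizedCharacter G ((n : ℂ) • a) := by
  rw [Int.cast_smul_eq_zsmul]
  exact gc_zsmul n ha

theorem gc_sum {ι : Type*} (s : Finset ι) (f : ι → G → ℂ)
    (h : ∀ i ∈ s, IsGeneralizedCharacter G (f i)) : IsGeneralizedCharacter G (∑ i ∈ s, f i) := by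
  classical
  induction s using Finset.induction_on with
  | empty => simpa using gc_zero
  | insert a s ha ih =>
    rw [Finset.sum_insert ha]
    exact gc_add (h a (Finset.mem_insert_self _ _))
      (ih (fun i hi => h i (Finset.mem_insert_of_mem hi)))

theorem conjFun_conjFun {X : Type*} (f : X → ℂ) : conjFun (conjFun f) = f := by
  funext x
  simp [conjFun]

theorem conjFun_injective {X : Type*} {f g : X → ℂ} (h : conjFun f = conjFun g) : f = g := by
  rw [← conjFun_conjFun f, h, conjFun_conjFun]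

theorem classInner_conjFun [Fintype G] (f g : G → ℂ) :
    classInner (conjFun f) (conjFun g) = conj (classInner f g) := by
  simp only [classInner, conjFun, map_mul, map_inv₀, map_natCast, map_sum]

/-- The norm of a function is a nonnegative real, zero only for the zero function. -/
theorem classInner_self_real [Fintype G] (f : G → ℂ) :
    ∃ r : ℝ, 0 ≤ r ∧ classInner f f = (r : ℂ) ∧ (r = 0 → f = 0) := by
  refine ⟨(Nat.card G : ℝ)⁻¹ * ∑ g : G, Complex.normSq (f g), ?_, ?_, ?_⟩
  · exact mul_nonneg (inv_nonneg.mpr (Nat.cast_nonneg _))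
      (Finset.sum_nonneg (fun g _ => Complex.normSq_nonneg (f g)))
  · unfold classInner
    push_cast
    congr 1
    apply Finset.sum_congr rfl
    intro g _
    exact Complex.mul_conj (f g)
  · intro h
    have hc : (Nat.card G : ℝ)⁻¹ ≠ 0 := by
      have : 0 < Nat.card G := Nat.card_pos
      have h2 : (Nat.card G : ℝ) ≠ 0 := by exact_mod_cast this.ne'
      exact inv_ne_zero h2
    rcases mul_eq_zero.mp h with h | h
    · exact absurd h hc
    · have h4 := (Finset.sum_eq_zero_iff_of_nonneg
        (fun g _ => Complex.normSq_nonneg (f g))).mp h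
      funext g
      exact Complex.normSq_eq_zero.mp (h4 g (Finset.mem_univ g))

theorem classInner_self_eq_zero [Fintype G] {f : G → ℂ} (h : classInner f f = 0) : f = 0 := by
  obtain ⟨r, _, h2, h3⟩ := classInner_self_real f
  rw [h2] at h
  exact h3 (by exact_mod_cast h)

theorem classInner_zsmul_left [Fintype G] (n : ℤ) (f ψ : G → ℂ) :
    classInner (n • f) ψ = (n : ℂ) * classInner f ψ := by
  rw [← Int.cast_smul_eq_zsmul ℂ, classInner_smul_left]

theorem classInner_zsmul_right [Fintype G] (n : ℤ) (f ψ : G → ℂ) :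
    classInner f (n • ψ) = (n : ℂ) * classInner f ψ := by
  rw [← Int.cast_smul_eq_zsmul ℂ, classInner_smul_right, map_intCast]

theorem classInner_neg_left [Fintype G] (f ψ : G → ℂ) :
    classInner (-f) ψ = - classInner f ψ := by
  have := classInner_sub_left 0 f ψ
  rw [zero_sub, classInner_zero_left, zero_sub] at this
  exact this

theorem classInner_neg_right [Fintype G] (f ψ : G → ℂ) :
    classInner f (-ψ) = - classInner f ψ := by
  have := classInner_sub_right f 0 ψ
  rw [zero_sub, classInner_zero_right, zero_sub] at this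
  exact this

/-- Inner product against a combination of a finite family, on the right. -/
theorem classInner_comb_right [Fintype G] (R : Finset (G → ℂ)) (c : (G → ℂ) → ℂ) (f : G → ℂ) :
    classInner f (∑ α ∈ R, c α • α) = ∑ α ∈ R, conj (c α) * classInner f α := by
  rw [classInner_sum_right]
  apply Finset.sum_congr rfl
  intro α _
  rw [classInner_smul_right]

theorem classInner_comb_left [Fintype G] (R : Finset (G → ℂ)) (c : (G → ℂ) → ℂ) (f : G → ℂ) :
    classInner (∑ α ∈ R, c α • α) f = ∑ α ∈ R, c α * classInner α f := by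
  rw [classInner_sum_left]
  apply Finset.sum_congr rfl
  intro α _
  rw [classInner_smul_left]

/-- Inner product of two combinations over an orthonormal family. -/
theorem classInner_comb_comb [Fintype G] (R : Finset (G → ℂ))
    (h1 : ∀ α ∈ R, classInner α α = 1)
    (h0 : ∀ α ∈ R, ∀ β ∈ R, α ≠ β → classInner α β = 0) (c d : (G → ℂ) → ℂ) :
    classInner (∑ α ∈ R, c α • α) (∑ α ∈ R, d α • α) = ∑ α ∈ R, c α * conj (d α) := by
  rw [classInner_comb_left]
  apply Finset.sum_congr rfl
  intro α hα
  rw [classInner_comb_right, Finset.sum_eq_single α]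
  · rw [h1 α hα, mul_one]
  · intro β hβ hne
    rw [h0 α hα β hβ (Ne.symm hne), mul_zero]
  · intro h
    exact absurd hα h

/-- Bessel identity with integer coefficients. -/
theorem bessel [Fintype G] (R : Finset (G → ℂ))
    (h1 : ∀ α ∈ R, classInner α α = 1)
    (h0 : ∀ α ∈ R, ∀ β ∈ R, α ≠ β → classInner α β = 0)
    (γ : G → ℂ) (x : (G → ℂ) → ℤ) (hx : ∀ α ∈ R, classInner γ α = x α) :
    classInner (γ - ∑ α ∈ R, (x α : ℂ) • α) (γ - ∑ α ∈ R, (x α : ℂ) • α)
      = classInner γ γ - ((∑ α ∈ R, x α ^ 2 : ℤ) : ℂ) := by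
  have e1 : classInner γ (∑ α ∈ R, (x α : ℂ) • α) = ((∑ α ∈ R, x α ^ 2 : ℤ) : ℂ) := by
    rw [classInner_comb_right]
    push_cast
    apply Finset.sum_congr rfl
    intro α hα
    rw [hx α hα, map_intCast]
    ring
  have e2 : classInner (∑ α ∈ R, (x α : ℂ) • α) γ = ((∑ α ∈ R, x α ^ 2 : ℤ) : ℂ) := by
    rw [← classInner_conj_symm, e1, map_intCast]
  have e3 : classInner (∑ α ∈ R, (x α : ℂ) • α) (∑ α ∈ R, (x α : ℂ) • α)
      = ((∑ α ∈ R, x α ^ 2 : ℤ) : ℂ) := by
    rw [classInner_comb_comb R h1 h0]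
    push_cast
    apply Finset.sum_congr rfl
    intro α _
    rw [map_intCast]
    ring
  rw [classInner_sub_left, classInner_sub_right, classInner_sub_right, e1, e2, e3]
  ring

/-- The integer inequality behind subcoherence. -/
theorem int_key {ι : Type*} (s t : Finset ι) (x y : ι → ℤ)
    (h : 0 ≤ (∑ i ∈ s, x i) - (∑ i ∈ t, y i) - (∑ i ∈ s, x i ^ 2) - (∑ i ∈ t, y i ^ 2)) :
    (∀ i ∈ s, x i = 0 ∨ x i = 1) ∧ (∀ i ∈ t, y i = 0 ∨ y i = -1) ∧
      (∑ i ∈ s, x i) - (∑ i ∈ t, y i) - (∑ i ∈ s, x i ^ 2) - (∑ i ∈ t, y i ^ 2) = 0 := by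
  have hx : ∀ i ∈ s, 0 ≤ x i ^ 2 - x i := fun i _ => by nlinarith [Int.le_self_sq (x i)]
  have hy : ∀ i ∈ t, 0 ≤ y i ^ 2 + y i := fun i _ => by
    have := Int.le_self_sq (-y i)
    rw [neg_sq] at this
    linarith
  have hA := Finset.sum_nonneg hx
  have hB := Finset.sum_nonneg hy
  rw [Finset.sum_sub_distrib] at hA
  rw [Finset.sum_add_distrib] at hB
  have hA0 : ∑ i ∈ s, (x i ^ 2 - x i) = 0 := by
    rw [Finset.sum_sub_distrib]
    linarith
  have hB0 : ∑ i ∈ t, (y i ^ 2 + y i) = 0 := by
    rw [Finset.sum_add_distrib]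
    linarith
  refine ⟨?_, ?_, by linarith⟩
  · intro i hi
    have := (Finset.sum_eq_zero_iff_of_nonneg hx).mp hA0 i hi
    have h2 : x i * (x i - 1) = 0 := by ring_nf; ring_nf at this; linarith
    rcases mul_eq_zero.mp h2 with h3 | h3
    · exact Or.inl h3
    · exact Or.inr (by linarith)
  · intro i hi
    have := (Finset.sum_eq_zero_iff_of_nonneg hy).mp hB0 i hi
    have h2 : y i * (y i + 1) = 0 := by ring_nf; ring_nf at this; linarith
    rcases mul_eq_zero.mp h2 with h3 | h3
    · exact Or.inl h3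
    · exact Or.inr (by linarith)

/-- Bilinear expansion with integer multiples. -/
theorem inner_expand [Fintype G] (a b : ℤ) (u v f g : G → ℂ) :
    classInner (a • u + f) (b • v + g) = (a : ℂ) * b * classInner u v + a * classInner u g
      + b * classInner f v + classInner f g := by
  rw [classInner_add_left, classInner_add_right, classInner_add_right, classInner_zsmul_left,
    classInner_zsmul_left, classInner_zsmul_right, classInner_zsmul_right]
  ring

end Cfsg.Agent.helper8.Coh
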