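import Mathlib
import Cfsg.Agent.Lib_helper24_DefectZero
import Cfsg.Agent.Lib_helper24_RBrauer
import Cfsg.Agent.Lib_helper8_Coh

set_option autoImplicit false

namespace Cfsg.Agent.helper24

open Cfsg Cfsg.Agent.helper12
open scoped ComplexConjugate

universe u

section IntInner

variable {G : Type u} [Group G] [Fintype G]

/-- a class function with integer inner products is a generalized character -/
theorem isGeneralizedCharacter_of_int_inner {f : G → ℂ} (hf : IsClassFunction G f)
    (h : ∀ ψ : IrrCharacter G, ∃ z : ℤ, classInner f (ψ : G → ℂ) = z) :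
    IsGeneralizedCharacter G f := by
  classical
  have := Fintype.ofFinite (IrrCharacter G)
  choose z hz using h
  rw [classFunction_expansion hf]
  apply helper8.Coh.gc_sum
  intro ψ _
  rw [hz ψ]
  exact helper8.Coh.gc_intCast_smul (z ψ) (helper8.Coh.gc_of_char (irr_isCharacter ψ.2))

end IntInner

section CutValue

variable {G : Type u} [Group G] [Fintype G]

/-- the key integrality: `p^(a-b) χ(e) / p^s` is an algebraic integer when `p^s ∣ |C_G(e)|` -/
theorem isIntegral_cut_value (p : ℕ) [Fact p.Prime] (χ : IrrCharacter G) (e : G) (s : ℕ)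
    (hs : p ^ s ∣ Nat.card (Subgroup.centralizer ({e} : Set G))) :
    IsIntegral ℤ (((p ^ ((Nat.card G).factorization p -
      (charDegree (χ : G → ℂ)).factorization p) : ℕ) : ℂ) * (χ : G → ℂ) e / ((p ^ s : ℕ) : ℂ)) := by
  classical
  have hpp : p.Prime := Fact.out
  set a : ℕ := (Nat.card G).factorization p with ha
  set d : ℕ := charDegree (χ : G → ℂ) with hd
  set b : ℕ := d.factorization p with hb
  have hχc : IsCharacter G (χ : G → ℂ) := irr_isCharacter χ.2
  have hdcast : ((d : ℕ) : ℂ) = (χ : G → ℂ) 1 := char_charDegree_cast hχc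
  have hdpos : 0 < d := irr_charDegree_pos χ.2
  have hddvd : d ∣ Nat.card G := helper23.irr_degree_dvd_card χ
  have hba : b ≤ a := (Nat.factorization_le_iff_dvd hdpos.ne' Nat.card_pos.ne').2 hddvd p
  set d' : ℕ := d / p ^ b with hd'
  have hdeq : d = p ^ b * d' := (Nat.ordProj_mul_ordCompl_eq_self d p).symm
  set g' : ℕ := Nat.card G / p ^ a with hg'
  have hGeq : Nat.card G = p ^ a * g' := (Nat.ordProj_mul_ordCompl_eq_self (Nat.card G) p).symm
  have hg'p : ¬ p ∣ g' := Nat.not_dvd_ordCompl hpp Nat.card_pos.ne'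
  set c₀ : ℕ := (Subgroup.centralizer ({e} : Set G)).index with hc₀
  obtain ⟨t, ht⟩ := hs
  have hprod : p ^ s * t * c₀ = p ^ a * g' := by
    rw [← ht, ← hGeq, hc₀]
    exact Subgroup.card_mul_index _
  have hω : IsIntegral ℤ (centralChar (χ : G → ℂ) e) := helper23.irr_centralChar_isIntegral χ e
  set y : ℂ := ((p ^ (a - b) : ℕ) : ℂ) * (χ : G → ℂ) e / ((p ^ s : ℕ) : ℂ) with hy
  have hpsne : ((p ^ s : ℕ) : ℂ) ≠ 0 := by
    exact_mod_cast (pow_pos hpp.pos s).ne'
  have hpbne : ((p ^ b : ℕ) : ℂ) ≠ 0 := by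
    exact_mod_cast (pow_pos hpp.pos b).ne'
  have hd'ne : ((d' : ℕ) : ℂ) ≠ 0 := by
    have : 0 < d' := Nat.ordCompl_pos p hdpos.ne'
    exact_mod_cast this.ne'
  -- `g' y` is an algebraic integer
  have h1 : (g' : ℂ) * y = ((t * d' : ℕ) : ℂ) * centralChar (χ : G → ℂ) e := by
    unfold centralChar
    rw [← hdcast, ← hc₀, hy]
    have e1 : ((d : ℕ) : ℂ) = ((p ^ b : ℕ) : ℂ) * (d' : ℂ) := by
      conv_lhs => rw [hdeq]
      push_cast
      ring
    rw [e1]
    have e2 : ((p ^ s : ℕ) : ℂ) * (t : ℂ) * (c₀ : ℂ) = ((p ^ a : ℕ) : ℂ) * (g' : ℂ) := by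
      exact_mod_cast hprod
    have e3 : ((p ^ a : ℕ) : ℂ) = ((p ^ (a - b) : ℕ) : ℂ) * ((p ^ b : ℕ) : ℂ) := by
      rw [← Nat.cast_mul, ← pow_add, Nat.sub_add_cancel hba]
    rw [e3] at e2
    field_simp
    push_cast
    push_cast at e2
    linear_combination ((χ : G → ℂ) e) * (d' : ℂ) * e2.symm
  have h2 : IsIntegral ℤ ((g' : ℂ) * y) := by
    rw [h1]
    exact (isIntegral_natCast_complex _).mul hω
  have h3 : IsIntegral ℤ (((p ^ s : ℕ) : ℂ) * y) := by
    have : ((p ^ s : ℕ) : ℂ) * y = ((p ^ (a - b) : ℕ) : ℂ) * (χ : G → ℂ) e := by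
      rw [hy]; field_simp
    rw [this]
    exact (isIntegral_natCast_complex _).mul (helper23.irr_isIntegral χ e)
  -- Bezout
  have hcop : IsCoprime (g' : ℤ) ((p ^ s : ℕ) : ℤ) := by
    have : Nat.Coprime g' (p ^ s) :=
      (Nat.Coprime.pow_left s ((Nat.Prime.coprime_iff_not_dvd hpp).2 hg'p)).symm
    exact Nat.isCoprime_iff_coprime.2 this
  obtain ⟨u, w, huw⟩ := hcop
  clear_value y
  have h4 : y = (u : ℂ) * ((g' : ℂ) * y) + (w : ℂ) * (((p ^ s : ℕ) : ℂ) * y) := by
    have : (u : ℂ) * (g' : ℂ) + (w : ℂ) * ((p ^ s : ℕ) : ℂ) = 1 := by exact_mod_cast huw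
    linear_combination (-y) * this
  rw [h4]
  exact ((isIntegral_intCast_complex u).mul h2).add ((isIntegral_intCast_complex w).mul h3)

end CutValue

section Local

variable {G : Type u} [Group G] [Fintype G]

/-- on a nilpotent subgroup the `p`-regular cut of `p^(a-b) χ` is a generalized character -/
theorem isGeneralizedCharacter_height_cut_nilpotent (p : ℕ) [Fact p.Prime] (χ : IrrCharacter G)
    (E : Subgroup G) [Fintype E] [Group.IsNilpotent E] :
    IsGeneralizedCharacter E (fun e : E => if p ∣ orderOf (e : G) then (0 : ℂ) else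
      ((p ^ ((Nat.card G).factorization p - (charDegree (χ : G → ℂ)).factorization p) : ℕ) : ℂ) *
        (χ : G → ℂ) e) := by
  classical
  have hpp : p.Prime := Fact.out
  have hχc : IsCharacter G (χ : G → ℂ) := irr_isCharacter χ.2
  set c : ℕ := (Nat.card G).factorization p - (charDegree (χ : G → ℂ)).factorization p with hc
  set s : ℕ := (Nat.card E).factorization p with hs
  obtain ⟨Q, hQn, hQmem, hQidx⟩ := exists_pregular_subgroup (E := E) p
  have := Fintype.ofFinite Q
  obtain ⟨P⟩ : Nonempty (Sylow p E) := inferInstance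
  have hPcard : Nat.card (P : Subgroup E) = p ^ s := P.card_eq_multiplicity
  have horder : ∀ e : E, orderOf (e : G) = orderOf e := fun e => Subgroup.orderOf_coe e
  set θ : E → ℂ := fun e : E => if p ∣ orderOf (e : G) then (0 : ℂ) else
      ((p ^ c : ℕ) : ℂ) * (χ : G → ℂ) e with hθ
  have hθQ : ∀ e : E, θ e = if e ∈ Q then ((p ^ c : ℕ) : ℂ) * (χ : G → ℂ) e else 0 := by
    intro e
    by_cases hd : p ∣ orderOf (e : G)
    · have : e ∉ Q := by rw [hQmem, ← horder]; exact fun h => h hd
      simp only [hθ, if_pos hd, if_neg this]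
    · have : e ∈ Q := by rw [hQmem, ← horder]; exact hd
      simp only [hθ, if_neg hd, if_pos this]
  -- class function
  have hθcf : IsClassFunction E θ := by
    intro e h
    have h1 : orderOf (((h * e * h⁻¹ : E)) : G) = orderOf (e : G) := by
      rw [horder, horder]
      have := (MulAut.conj h).orderOf_eq e
      rwa [MulAut.conj_apply] at this
    have h2 : (χ : G → ℂ) ((h * e * h⁻¹ : E) : G) = (χ : G → ℂ) (e : G) := by
      have := char_isClassFunction hχc (e : G) (h : G)
      rw [← this]
      rfl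
    simp only [hθ, h1, h2]
  apply isGeneralizedCharacter_of_int_inner hθcf
  intro ψ
  set r : ℂ := classInner θ (ψ : E → ℂ) with hr
  -- `p^s r` is a natural number
  have hone : IsCharacter Q (fun _ : Q => (1 : ℂ)) := irr_isCharacter isIrrCharacter_one
  have hΞ : IsCharacter E ((p ^ c) • ((fun e : E => (χ : G → ℂ) e) * indFun Q (fun _ => (1 : ℂ)))) :=
    isCharacter_nsmul _ (helper1.isCharacter_mul (isCharacter_restrict E hχc)
      (isCharacter_indFun Q hone))
  have hΞeq : ((p ^ c) • ((fun e : E => (χ : G → ℂ) e) * indFun Q (fun _ => (1 : ℂ)))) =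
      ((p ^ s : ℕ) : ℂ) • θ := by
    funext e
    rw [Pi.smul_apply, Pi.mul_apply, indFun_one_of_normal Q e, hQidx, Pi.smul_apply, hθQ e]
    by_cases he : e ∈ Q
    · rw [if_pos he, if_pos he, nsmul_eq_mul, smul_eq_mul]
      push_cast
      ring
    · rw [if_neg he, if_neg he, mul_zero, smul_zero, smul_zero]
  obtain ⟨N, hN⟩ := classInner_char_nat hΞ (irr_isCharacter ψ.2)
  rw [hΞeq, classInner_smul_left] at hN
  -- `|Q| r` is an algebraic integer
  have hEcard : Nat.card E = Nat.card Q * p ^ s := by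
    rw [← hQidx]; exact (Subgroup.card_mul_index Q).symm
  have hQne : (Nat.card Q : ℂ) ≠ 0 := by exact_mod_cast (Nat.card_pos (α := Q)).ne'
  have hpsne : ((p ^ s : ℕ) : ℂ) ≠ 0 := by exact_mod_cast (pow_pos hpp.pos s).ne'
  have hT : IsIntegral ℤ ((Nat.card Q : ℂ) * r) := by
    have h1 : (Nat.card Q : ℂ) * r = ∑ e : E, (if e ∈ Q then
        ((p ^ c : ℕ) : ℂ) * (χ : G → ℂ) e / ((p ^ s : ℕ) : ℂ) else 0) * conj ((ψ : E → ℂ) e) := by
      rw [hr]
      unfold classInner
      rw [hEcard, ← mul_assoc, Finset.mul_sum]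
      refine Finset.sum_congr rfl (fun e _ => ?_)
      rw [hθQ e]
      by_cases he : e ∈ Q
      · rw [if_pos he, if_pos he]
        push_cast
        field_simp
      · rw [if_neg he, if_neg he]
        simp
    rw [h1]
    apply IsIntegral.sum
    intro e _
    apply IsIntegral.mul
    · split_ifs with he
      · apply isIntegral_cut_value p χ (e : G) s
        -- `P` centralizes `e`
        have hle : (P : Subgroup E).map E.subtype ≤ Subgroup.centralizer ({(e : G)} : Set G) := by
          rintro _ ⟨y, hy, rfl⟩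
          rw [Subgroup.mem_centralizer_iff]
          intro w hw
          rw [Set.mem_singleton_iff] at hw
          rw [hw]
          have hcomm := commute_of_pregular_nilpotent P ((hQmem e).1 he) hy
          have := congrArg (Subtype.val) hcomm.eq
          simpa using this
        have h2 := Subgroup.card_dvd_of_le hle
        rw [Subgroup.card_map_of_injective E.subtype_injective, hPcard] at h2
        exact h2
      · exact isIntegral_zero
    · have h3 : conj ((ψ : E → ℂ) e) = (ψ : E → ℂ) e⁻¹ := by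
        rw [char_inv (irr_isCharacter ψ.2)]
      rw [h3]
      exact helper23.irr_isIntegral ψ _
  -- combine
  have hdvd : ((p ^ s : ℕ) : ℤ) ∣ (Nat.card Q : ℤ) * (N : ℤ) := by
    apply helper23.int_dvd_of_eq_mul_isIntegral _ _ _ _ hT
    · push_cast
      push_cast at hN
      rw [← hN]
      ring
    · exact_mod_cast (pow_pos hpp.pos s).ne'
  have hQcop : IsCoprime ((p ^ s : ℕ) : ℤ) (Nat.card Q : ℤ) := by
    have h1 : ¬ p ∣ Nat.card Q := by
      intro hd
      obtain ⟨q, hq⟩ := exists_prime_orderOf_dvd_card' p hd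
      have := (hQmem (q : E)).1 q.2
      rw [Subgroup.orderOf_coe, hq] at this
      exact this dvd_rfl
    have : Nat.Coprime (p ^ s) (Nat.card Q) :=
      Nat.Coprime.pow_left s ((Nat.Prime.coprime_iff_not_dvd hpp).2 h1)
    exact Nat.isCoprime_iff_coprime.2 this
  obtain ⟨N', hN'⟩ := hQcop.dvd_of_dvd_mul_left hdvd
  refine ⟨N', ?_⟩
  have h5 : ((p ^ s : ℕ) : ℂ) * r = ((p ^ s : ℕ) : ℂ) * (N' : ℂ) := by
    rw [hN]
    have : ((N : ℤ) : ℂ) = (((p ^ s : ℕ) : ℤ) : ℂ) * (N' : ℂ) := by
      rw [hN']; push_cast; ring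
    push_cast at this
    push_cast
    exact this
  exact mul_left_cancel₀ hpsne h5

end Local

section Global

variable {G : Type u} [Group G] [Fintype G]

/-- `p^(a-b) χ` cut down to the `p`-regular elements is a generalized character -/
theorem isGeneralizedCharacter_height_cut (p : ℕ) [Fact p.Prime] (χ : IrrCharacter G) :
    IsGeneralizedCharacter G (fun x : G => if p ∣ orderOf x then (0 : ℂ) else
      ((p ^ ((Nat.card G).factorization p - (charDegree (χ : G → ℂ)).factorization p) : ℕ) : ℂ) *
        (χ : G → ℂ) x) := by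
  classical
  have hχc : IsCharacter G (χ : G → ℂ) := irr_isCharacter χ.2
  apply brauer_characterization
  · intro g h
    have h1 : orderOf (h * g * h⁻¹) = orderOf g := by
      have := (MulAut.conj h).orderOf_eq g
      rwa [MulAut.conj_apply] at this
    show (if p ∣ orderOf (h * g * h⁻¹) then (0 : ℂ) else _ * (χ : G → ℂ) (h * g * h⁻¹)) = _
    rw [h1, char_isClassFunction hχc g h]
  · intro E q hq hE
    have := Fintype.ofFinite E
    have : Group.IsNilpotent E := isNilpotent_of_isElementary hq hE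
    exact isGeneralizedCharacter_height_cut_nilpotent p χ E

/-- a generalized character vanishing on the `p`-singular elements has degree divisible by the
order of a Sylow `p`-subgroup -/
theorem dvd_degree_of_vanish_psingular (p : ℕ) [Fact p.Prime] {θ : G → ℂ}
    (hθ : IsGeneralizedCharacter G θ) (hvan : ∀ x : G, p ∣ orderOf x → θ x = 0) :
    ∃ z : ℤ, θ 1 = ((p ^ (Nat.card G).factorization p : ℕ) : ℂ) * (z : ℂ) := by
  classical
  have hpp : p.Prime := Fact.out
  obtain ⟨P⟩ : Nonempty (Sylow p G) := inferInstance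
  have := Fintype.ofFinite (P : Subgroup G)
  have hPcard : Nat.card (P : Subgroup G) = p ^ (Nat.card G).factorization p :=
    P.card_eq_multiplicity
  obtain ⟨α, β, hα, hβ, rfl⟩ := hθ
  have hone : IsCharacter (P : Subgroup G) (fun _ : (P : Subgroup G) => (1 : ℂ)) :=
    irr_isCharacter isIrrCharacter_one
  obtain ⟨nα, hnα⟩ := classInner_char_nat (isCharacter_restrict (P : Subgroup G) hα) hone
  obtain ⟨nβ, hnβ⟩ := classInner_char_nat (isCharacter_restrict (P : Subgroup G) hβ) hone
  refine ⟨(nα : ℤ) - (nβ : ℤ), ?_⟩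
  have h1 : classInner (fun y : (P : Subgroup G) => (α - β) (y : G)) (fun _ => (1 : ℂ)) =
      ((nα : ℤ) - (nβ : ℤ) : ℤ) := by
    have : (fun y : (P : Subgroup G) => (α - β) (y : G)) =
        (fun y : (P : Subgroup G) => α y) - (fun y : (P : Subgroup G) => β y) := rfl
    rw [this, classInner_sub_left, hnα, hnβ]
    push_cast
    ring
  have h2 : classInner (fun y : (P : Subgroup G) => (α - β) (y : G)) (fun _ => (1 : ℂ)) =
      (Nat.card (P : Subgroup G) : ℂ)⁻¹ * (α - β) 1 := by
    unfold classInner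
    congr 1
    rw [Finset.sum_eq_single (1 : (P : Subgroup G))]
    · simp
    · intro y _ hy
      have hy1 : p ∣ orderOf (y : G) := by
        obtain ⟨k, hk⟩ := (IsPGroup.iff_orderOf.1 P.2) y
        rw [Subgroup.orderOf_coe, hk]
        have hk0 : k ≠ 0 := by
          intro h0
          rw [h0, pow_zero, orderOf_eq_one_iff] at hk
          exact hy hk
        exact dvd_pow_self p hk0
      have hz : (α - β) (y : G) = 0 := hvan _ hy1
      beta_reduce
      rw [hz, zero_mul]
    · intro h
      exact absurd (Finset.mem_univ _) h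
  rw [h2, hPcard] at h1
  have hne : ((p ^ (Nat.card G).factorization p : ℕ) : ℂ) ≠ 0 := by
    exact_mod_cast (pow_pos hpp.pos _).ne'
  rw [← h1]
  field_simp

end Global

end Cfsg.Agent.helper24
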