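import Mathlib
import Cfsg.Agent.Lib_helper24_BlockOrth
import Cfsg.Agent.Lib_helper24_HeightCut
import Cfsg.Agent.Lib_helper24_PRegular

set_option autoImplicit false

namespace Cfsg.Agent.helper24

open Cfsg
open scoped ComplexConjugate

universe u

section

variable {G : Type u} [Group G] [Fintype G]

open Classical in
/-- finset form of weak block orthogonality -/
theorem weak_block_orthogonality_finset [Fintype (IrrCharacter G)] (p : ℕ) (M : Ideal AlgInt)
    (hM : IsPModular p M) (χ₀ : IrrCharacter G) (x y : G) (hx : ¬ p ∣ orderOf x)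
    (hy : p ∣ orderOf y) :
    ∑ φ ∈ Finset.univ.filter (fun φ : IrrCharacter G => φ ∈ blockOf M (χ₀ : G → ℂ)),
      (φ : G → ℂ) x * conj ((φ : G → ℂ) y) = 0 := by
  have h := weak_block_orthogonality p M hM _ ⟨χ₀, rfl⟩ x y hx hy
  rw [finsum_mem_eq_finite_toFinset_sum _ (Set.toFinite _)] at h
  have h3 : (Set.toFinite (blockOf M (χ₀ : G → ℂ))).toFinset =
      Finset.univ.filter (fun φ => φ ∈ blockOf M (χ₀ : G → ℂ)) := by
    ext φ
    simp
  rwa [h3] at h

open Classical in
/-- characters in different blocks are orthogonal on the `p`-regular elements -/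
theorem pregular_orthogonality (p : ℕ) (M : Ideal AlgInt) (hM : IsPModular p M)
    (χ ψ : IrrCharacter G) (h : ¬ SameBlock M (χ : G → ℂ) (ψ : G → ℂ)) :
    ∑ x ∈ Finset.univ.filter (fun x : G => ¬ p ∣ orderOf x),
      (χ : G → ℂ) x * conj ((ψ : G → ℂ) x) = 0 := by
  have := Fintype.ofFinite (IrrCharacter G)
  have hMp : M.IsPrime := hM.2.1.isPrime
  have hG : (Nat.card G : ℂ) ≠ 0 := by exact_mod_cast Nat.card_pos.ne'
  obtain ⟨R, hR⟩ : ∃ R : Finset G, R = Finset.univ.filter (fun x : G => ¬ p ∣ orderOf x) :=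
    ⟨_, rfl⟩
  obtain ⟨Bf, hBf⟩ : ∃ Bf : Finset (IrrCharacter G),
    Bf = Finset.univ.filter (fun φ => φ ∈ blockOf M (χ : G → ℂ)) := ⟨_, rfl⟩
  rw [← hR]
  have hχB : χ ∈ Bf := by
    rw [hBf, Finset.mem_filter]
    exact ⟨Finset.mem_univ _, sameBlock_refl M hMp.ne_top _⟩
  have hψB : ∀ φ ∈ Bf, (ψ : G → ℂ) ≠ (φ : G → ℂ) := by
    intro φ hφ heq
    rw [hBf, Finset.mem_filter] at hφ
    apply h
    have : ψ = φ := Subtype.ext heq
    rw [this]
    exact hφ.2
  obtain ⟨c, hc⟩ : ∃ c : IrrCharacter G → ℂ,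
    ∀ φ : IrrCharacter G, c φ = ∑ y ∈ R, conj ((φ : G → ℂ) y) * (ψ : G → ℂ) y :=
    ⟨fun φ : IrrCharacter G => ∑ y ∈ R, conj ((φ : G → ℂ) y) * (ψ : G → ℂ) y, fun _ => rfl⟩
  have hK : ∀ x ∈ R, ∀ y ∉ R, ∑ φ ∈ Bf, (φ : G → ℂ) x * conj ((φ : G → ℂ) y) = 0 := by
    intro x hx y hy
    rw [hR, Finset.mem_filter] at hx
    have hy' : p ∣ orderOf y := by
      by_contra hcon
      exact hy (by rw [hR, Finset.mem_filter]; exact ⟨Finset.mem_univ _, hcon⟩)
    rw [hBf]
    exact weak_block_orthogonality_finset p M hM χ x y hx.2 hy'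
  have claim1 : ∀ x ∈ R, ∑ φ ∈ Bf, c φ * (φ : G → ℂ) x = 0 := by
    intro x hx
    have e1 : ∑ φ ∈ Bf, c φ * (φ : G → ℂ) x =
        ∑ y ∈ R, (ψ : G → ℂ) y * ∑ φ ∈ Bf, (φ : G → ℂ) x * conj ((φ : G → ℂ) y) := by
      simp only [hc, Finset.sum_mul, Finset.mul_sum]
      rw [Finset.sum_comm]
      refine Finset.sum_congr rfl (fun y _ => Finset.sum_congr rfl (fun φ _ => ?_))
      ring
    have e2 : ∑ y ∈ R, (ψ : G → ℂ) y * ∑ φ ∈ Bf, (φ : G → ℂ) x * conj ((φ : G → ℂ) y) =
        ∑ y : G, (ψ : G → ℂ) y * ∑ φ ∈ Bf, (φ : G → ℂ) x * conj ((φ : G → ℂ) y) := by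
      apply Finset.sum_subset (Finset.subset_univ _)
      intro y _ hy
      rw [hK x hx y hy, mul_zero]
    have e3 : ∑ y : G, (ψ : G → ℂ) y * ∑ φ ∈ Bf, (φ : G → ℂ) x * conj ((φ : G → ℂ) y) =
        ∑ φ ∈ Bf, (φ : G → ℂ) x * ((Nat.card G : ℂ) * classInner (ψ : G → ℂ) (φ : G → ℂ)) := by
      simp only [Finset.mul_sum]
      rw [Finset.sum_comm]
      refine Finset.sum_congr rfl (fun φ _ => ?_)
      unfold classInner
      rw [← mul_assoc (Nat.card G : ℂ), mul_inv_cancel₀ hG, one_mul, Finset.mul_sum]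
      refine Finset.sum_congr rfl (fun y _ => ?_)
      ring
    rw [e1, e2, e3]
    apply Finset.sum_eq_zero
    intro φ hφ
    rw [irr_classInner_ne ψ.2 φ.2 (hψB φ hφ), mul_zero, mul_zero]
  have claim2 : ∑ φ ∈ Bf, c φ * conj (c φ) = 0 := by
    have e1 : ∀ φ, conj (c φ) = ∑ x ∈ R, (φ : G → ℂ) x * conj ((ψ : G → ℂ) x) := by
      intro φ
      simp only [hc, map_sum, map_mul, Complex.conj_conj]
    simp only [e1, Finset.mul_sum]
    rw [Finset.sum_comm]
    apply Finset.sum_eq_zero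
    intro x hx
    have h1 := claim1 x hx
    calc ∑ φ ∈ Bf, c φ * ((φ : G → ℂ) x * conj ((ψ : G → ℂ) x))
        = (∑ φ ∈ Bf, c φ * (φ : G → ℂ) x) * conj ((ψ : G → ℂ) x) := by
          rw [Finset.sum_mul]
          refine Finset.sum_congr rfl (fun φ _ => ?_)
          ring
      _ = 0 := by rw [h1, zero_mul]
  have h5 : ∀ φ ∈ Bf, c φ * conj (c φ) = ((Complex.normSq (c φ) : ℝ) : ℂ) :=
    fun φ _ => Complex.mul_conj (c φ)
  rw [Finset.sum_congr rfl h5, ← Complex.ofReal_sum, Complex.ofReal_eq_zero] at claim2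
  have h6 := (Finset.sum_eq_zero_iff_of_nonneg
    (fun φ _ => Complex.normSq_nonneg (c φ))).mp claim2 χ hχB
  have h7 : c χ = 0 := Complex.normSq_eq_zero.mp h6
  have h8 := congrArg conj h7
  simp only [hc, map_sum, map_mul, Complex.conj_conj, map_zero] at h8
  exact h8

/-- finsum form -/
theorem pregular_orthogonality_finsum (p : ℕ) (M : Ideal AlgInt) (hM : IsPModular p M)
    (χ ψ : IrrCharacter G) (h : ¬ SameBlock M (χ : G → ℂ) (ψ : G → ℂ)) :
    ∑ᶠ x ∈ {x : G | ¬ p ∣ orderOf x}, (χ : G → ℂ) x * conj ((ψ : G → ℂ) x) = 0 := by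
  classical
  rw [finsum_mem_eq_finite_toFinset_sum _ (Set.toFinite _)]
  have h3 : (Set.toFinite {x : G | ¬ p ∣ orderOf x}).toFinset =
      Finset.univ.filter (fun x : G => ¬ p ∣ orderOf x) := by
    ext x
    simp
  rw [h3]
  exact pregular_orthogonality p M hM χ ψ h

/-- the `p`-regular cut of a character of a block is an integer combination of the block -/
theorem pregular_cut_in_block (p : ℕ) [Fact p.Prime] (M : Ideal AlgInt) (hM : IsPModular p M)
    (B : Set (IrrCharacter G)) (hB : IsPBlock M B) (χ : IrrCharacter G) (hχ : χ ∈ B) :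
    ∃ a : IrrCharacter G → ℤ, (∀ ψ, ψ ∉ B → a ψ = 0) ∧
      (fun x : G => if p ∣ orderOf x then (0 : ℂ)
        else ((p ^ (Nat.card G).factorization p : ℕ) : ℂ) * (χ : G → ℂ) x) =
      fun x => ∑ᶠ ψ : IrrCharacter G, (a ψ : ℂ) * (ψ : G → ℂ) x := by
  classical
  have := Fintype.ofFinite (IrrCharacter G)
  have hMp : M.IsPrime := hM.2.1.isPrime
  obtain ⟨χ₀, rfl⟩ := hB
  obtain ⟨θ, hθdef⟩ : ∃ θ : G → ℂ, θ = fun x : G => if p ∣ orderOf x then (0 : ℂ)
        else ((p ^ (Nat.card G).factorization p : ℕ) : ℂ) * (χ : G → ℂ) x := ⟨_, rfl⟩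
  rw [← hθdef]
  have hθ : IsGeneralizedCharacter G θ := by
    rw [hθdef]
    exact isGeneralizedCharacter_pregular_cut p (irr_isCharacter χ.2)
  obtain ⟨α, β, hα, hβ, hθeq⟩ := hθ
  have hcf : IsClassFunction G θ := by
    rw [hθeq]
    exact isClassFunction_sub (char_isClassFunction hα) (char_isClassFunction hβ)
  have hint : ∀ ψ : IrrCharacter G, ∃ z : ℤ, classInner θ (ψ : G → ℂ) = z := by
    intro ψ
    obtain ⟨n1, h1⟩ := helper12.classInner_char_nat hα (irr_isCharacter ψ.2)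
    obtain ⟨n2, h2⟩ := helper12.classInner_char_nat hβ (irr_isCharacter ψ.2)
    refine ⟨(n1 : ℤ) - n2, ?_⟩
    rw [hθeq, classInner_sub_left, h1, h2]
    push_cast
    ring
  choose a ha using hint
  refine ⟨a, ?_, ?_⟩
  · intro ψ hψ
    have hnb : ¬ SameBlock M (χ : G → ℂ) (ψ : G → ℂ) := by
      intro hs
      exact hψ (sameBlock_trans (show SameBlock M (χ₀ : G → ℂ) (χ : G → ℂ) from hχ) hs)
    have h1 := pregular_orthogonality p M hM χ ψ hnb
    have h2 : classInner θ (ψ : G → ℂ) = 0 := by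
      unfold classInner
      have h3 : ∑ g : G, θ g * conj ((ψ : G → ℂ) g) =
          ((p ^ (Nat.card G).factorization p : ℕ) : ℂ) *
          ∑ x ∈ Finset.univ.filter (fun x : G => ¬ p ∣ orderOf x),
            (χ : G → ℂ) x * conj ((ψ : G → ℂ) x) := by
        rw [Finset.mul_sum, Finset.sum_filter]
        refine Finset.sum_congr rfl (fun g _ => ?_)
        rw [hθdef]
        by_cases hg : p ∣ orderOf g
        · simp [hg]
        · simp only [hg, if_false, not_false_eq_true, if_true]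
          ring
      rw [h3, h1, mul_zero, mul_zero]
    rw [ha ψ] at h2
    exact_mod_cast h2
  · have h1 := classFunction_expansion hcf
    funext x
    rw [finsum_eq_sum_of_fintype]
    have h2 := congrFun h1 x
    rw [Finset.sum_apply] at h2
    rw [h2]
    refine Finset.sum_congr rfl (fun ψ _ => ?_)
    rw [Pi.smul_apply, smul_eq_mul, ha ψ]

/-- a character has defect zero iff its block is a singleton -/
theorem defect_zero_iff_singleton (p : ℕ) [Fact p.Prime] (M : Ideal AlgInt)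
    (hM : IsPModular p M) (χ : IrrCharacter G) :
    ¬ p ∣ Nat.card G / charDegree (χ : G → ℂ) ↔ blockOf M (χ : G → ℂ) = {χ} := by
  classical
  have hp : p.Prime := Fact.out
  have hMp : M.IsPrime := hM.2.1.isPrime
  have hd := helper23.irr_degree_dvd_card χ
  have hdpos : 0 < charDegree (χ : G → ℂ) := irr_charDegree_pos χ.2
  have hcast := char_charDegree_cast (irr_isCharacter χ.2)
  obtain ⟨m, hm⟩ := hd
  have hdiv : Nat.card G / charDegree (χ : G → ℂ) = m := by
    rw [hm]
    exact Nat.mul_div_cancel_left m hdpos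
  have hm0 : m ≠ 0 := by
    rintro rfl
    rw [mul_zero] at hm
    exact Nat.card_pos.ne' hm
  rw [hdiv]
  constructor
  · intro hpm
    apply Set.Subset.antisymm
    · apply block_subset_of_local p M hM {χ} _ χ rfl
      intro g
      unfold blockCoeff
      rw [finsum_mem_singleton]
      have e : (Nat.card G : ℂ)⁻¹ * ((χ : G → ℂ) 1 * conj ((χ : G → ℂ) g)) =
          (m : ℂ)⁻¹ * (χ : G → ℂ) g⁻¹ := by
        rw [char_inv (irr_isCharacter χ.2), ← hcast, hm]
        push_cast
        have h1 : ((charDegree (χ : G → ℂ) : ℕ) : ℂ) ≠ 0 := by exact_mod_cast hdpos.ne'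
        have h2 : (m : ℂ) ≠ 0 := by exact_mod_cast hm0
        field_simp
      rw [e]
      apply memLocalRing_mul
      · exact memLocalRing_inv
          (memLocalRing_of_integral hMp.ne_top (isIntegral_natCast_complex m))
          (natCast_not_memLocalIdeal hM hpm)
      · exact memLocalRing_of_integral hMp.ne_top (helper23.irr_isIntegral χ g⁻¹)
    · intro φ hφ
      rw [Set.mem_singleton_iff] at hφ
      rw [hφ]
      exact sameBlock_refl M hMp.ne_top _
  · intro hB hpm
    have hvan : ∀ y : G, p ∣ orderOf y → (χ : G → ℂ) y = 0 := by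
      intro y hy
      have h1 := weak_block_orthogonality p M hM _ ⟨χ, rfl⟩ 1 y
        (by rw [orderOf_one]; exact fun h => hp.ne_one (Nat.dvd_one.mp h)) hy
      rw [hB, finsum_mem_singleton] at h1
      rcases mul_eq_zero.mp h1 with h2 | h2
      · exact absurd h2 (irr_apply_one_ne_zero χ.2)
      · exact (map_eq_zero _).mp h2
    obtain ⟨z, hz⟩ := dvd_degree_of_vanish_psingular p
      (helper8.Coh.gc_of_char (irr_isCharacter χ.2)) hvan
    rw [← hcast] at hz
    have hz' : ((charDegree (χ : G → ℂ) : ℕ) : ℤ) =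
        ((p ^ (Nat.card G).factorization p : ℕ) : ℤ) * z := by exact_mod_cast hz
    have hdvd : p ^ (Nat.card G).factorization p ∣ charDegree (χ : G → ℂ) := by
      apply Int.natCast_dvd_natCast.mp
      exact ⟨z, hz'⟩
    have h3 : p ^ ((Nat.card G).factorization p + 1) ∣ Nat.card G := by
      rw [pow_succ]
      have h4 := Nat.mul_dvd_mul hdvd hpm
      rwa [← hm] at h4
    exact Nat.pow_succ_factorization_not_dvd Nat.card_pos.ne' hp h3

end

end Cfsg.Agent.helper24
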