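import Mathlib
import Cfsg.Agent.Lib_helper24_RBrauer

set_option autoImplicit false

namespace Cfsg.Agent.helper24

open Cfsg Cfsg.Agent.helper12
open scoped ComplexConjugate

universe u

section Nilpotent

variable {E : Type*} [Group E] [Finite E]

/-- the elements of order prime to `n` in a finite nilpotent group form a normal subgroup -/
theorem exists_coprime_subgroup [Group.IsNilpotent E] (n : ℕ) :
    ∃ A : Subgroup E, A.Normal ∧ ∀ e : E, e ∈ A ↔ (orderOf e).Coprime n := by
  classical
  have hmul : ∀ x y : E, (orderOf x).Coprime n → (orderOf y).Coprime n →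
      (orderOf (x * y)).Coprime n := by
    intro x y hx hy
    apply Nat.coprime_of_dvd
    intro p hp hpxy hpn
    haveI : Fact p.Prime := ⟨hp⟩
    obtain ⟨Q, -, hQ, -⟩ := exists_pregular_subgroup (E := E) p
    have hxQ : x ∈ Q := by
      rw [hQ]
      intro h
      exact (Nat.Prime.coprime_iff_not_dvd hp).1 (Nat.Coprime.coprime_dvd_left h hx) hpn
    have hyQ : y ∈ Q := by
      rw [hQ]
      intro h
      exact (Nat.Prime.coprime_iff_not_dvd hp).1 (Nat.Coprime.coprime_dvd_left h hy) hpn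
    exact (hQ (x * y)).1 (Q.mul_mem hxQ hyQ) hpxy
  refine ⟨{ carrier := {e | (orderOf e).Coprime n}
            mul_mem' := fun {x y} hx hy => hmul x y hx hy
            one_mem' := by simp
            inv_mem' := fun {x} hx => by
              show (orderOf x⁻¹).Coprime n
              rw [orderOf_inv]; exact hx }, ?_, fun e => Iff.rfl⟩
  constructor
  intro x hx g
  show (orderOf (g * x * g⁻¹)).Coprime n
  have h1 : orderOf (g * x * g⁻¹) = orderOf x := by
    have := (MulAut.conj g).orderOf_eq x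
    rwa [MulAut.conj_apply] at this
  rw [h1]
  exact hx

/-- in a finite nilpotent group of order dividing `m n` (coprime), the `k`-th power map with
`k ≡ 0 (mod m)`, `k ≡ 1 (mod n)` is multiplicative -/
theorem pow_mul_of_nilpotent [Group.IsNilpotent E] {m n k : ℕ} (hcop : m.Coprime n)
    (hcard : Nat.card E ∣ m * n) (hkm : m ∣ k) (hkn : k ≡ 1 [MOD n]) (x y : E) :
    (x * y) ^ k = x ^ k * y ^ k := by
  classical
  obtain ⟨A, hAn, hA⟩ := exists_coprime_subgroup (E := E) n
  obtain ⟨B, hBn, hB⟩ := exists_coprime_subgroup (E := E) m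
  have hord : ∀ e : E, orderOf e ∣ m * n := fun e => (orderOf_dvd_natCard e).trans hcard
  -- elements of `A` have order dividing `m`, elements of `B` order dividing `n`
  have hAm : ∀ e ∈ A, e ^ k = 1 := by
    intro e he
    have h1 : orderOf e ∣ m :=
      Nat.Coprime.dvd_of_dvd_mul_right ((hA e).1 he) (hord e)
    exact orderOf_dvd_iff_pow_eq_one.1 (h1.trans hkm)
  have hBn' : ∀ e ∈ B, e ^ k = e := by
    intro e he
    have h1 : orderOf e ∣ n :=
      Nat.Coprime.dvd_of_dvd_mul_left ((hB e).1 he) (hord e)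
    have h2 : k ≡ 1 [MOD orderOf e] := Nat.ModEq.of_dvd h1 hkn
    have h3 := (pow_eq_pow_iff_modEq (x := e) (n := k) (m := 1)).2 h2
    rw [h3, pow_one]
  -- the two parts of an element
  have hb : ∀ e : E, e ^ k ∈ B := by
    intro e
    rw [hB]
    have h1 : (e ^ k) ^ n = 1 := by
      rw [← pow_mul]
      apply orderOf_dvd_iff_pow_eq_one.1
      exact (hord e).trans (Nat.mul_dvd_mul_right hkm n)
    have h2 : orderOf (e ^ k) ∣ n := orderOf_dvd_of_pow_eq_one h1
    exact Nat.Coprime.coprime_dvd_left h2 hcop.symm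
  have ha : ∀ e : E, e * (e ^ k)⁻¹ ∈ A := by
    intro e
    rw [hA]
    have h0 : e * (e ^ k)⁻¹ = e ^ ((1 : ℤ) - (k : ℤ)) := by
      rw [zpow_sub, zpow_one, zpow_natCast]
    have h1 : (e * (e ^ k)⁻¹) ^ m = 1 := by
      rw [h0, ← zpow_natCast, ← zpow_mul]
      apply orderOf_dvd_iff_zpow_eq_one.1
      have h2 : (n : ℤ) ∣ (k : ℤ) - 1 := by
        have := (Nat.modEq_iff_dvd.1 hkn.symm)
        simpa using this
      obtain ⟨t, ht⟩ := h2
      have h3 : ((1 : ℤ) - (k : ℤ)) * (m : ℤ) = ((m * n : ℕ) : ℤ) * (-t) := by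
        have : (1 : ℤ) - (k : ℤ) = -((n : ℤ) * t) := by rw [← ht]; ring
        rw [this]
        push_cast
        ring
      rw [h3]
      exact Dvd.dvd.mul_right (Int.natCast_dvd_natCast.2 (hord e)) _
    have h2 : orderOf (e * (e ^ k)⁻¹) ∣ m := orderOf_dvd_of_pow_eq_one h1
    exact Nat.Coprime.coprime_dvd_left h2 hcop
  have hdisj : Disjoint A B := by
    rw [Subgroup.disjoint_def]
    intro e heA heB
    have h1 : (orderOf e).Coprime (m * n) := Nat.Coprime.mul_right ((hB e).1 heB) ((hA e).1 heA)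
    have h2 : orderOf e = 1 := Nat.Coprime.eq_one_of_dvd h1 (hord e)
    exact orderOf_eq_one_iff.1 h2
  have hcomm : ∀ a ∈ A, ∀ b ∈ B, Commute a b := fun a ha' b hb' =>
    Subgroup.commute_of_normal_of_disjoint A B hAn hBn hdisj a b ha' hb'
  set ax := x * (x ^ k)⁻¹ with hax
  set ay := y * (y ^ k)⁻¹ with hay
  have hx : x = ax * x ^ k := by rw [hax]; group
  have hy : y = ay * y ^ k := by rw [hay]; group
  have h1 : x * y = (ax * ay) * (x ^ k * y ^ k) := by
    conv_lhs => rw [hx, hy]
    have := (hcomm ay (ha y) (x ^ k) (hb x)).eq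
    calc ax * x ^ k * (ay * y ^ k) = ax * (x ^ k * ay) * y ^ k := by group
      _ = ax * (ay * x ^ k) * y ^ k := by rw [this]
      _ = ax * ay * (x ^ k * y ^ k) := by group
  have h2 : Commute (ax * ay) (x ^ k * y ^ k) :=
    hcomm _ (A.mul_mem (ha x) (ha y)) _ (B.mul_mem (hb x) (hb y))
  rw [h1, h2.mul_pow, hAm _ (A.mul_mem (ha x) (ha y)), one_mul,
    hBn' _ (B.mul_mem (hb x) (hb y))]

end Nilpotent

end Cfsg.Agent.helper24
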