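import Mathlib
import Cfsg.Agent.Lib_helper24_CoprimeParts

set_option autoImplicit false

namespace Cfsg.Agent.helper24

open Cfsg Cfsg.Agent.helper12
open scoped ComplexConjugate

universe u

section Parts

variable {G : Type*} [Group G]

theorem pow_part_pow {m n k : ℕ} (hkm : m ∣ k) {e : G} (he : orderOf e ∣ m * n) :
    (e ^ k) ^ n = 1 := by
  rw [← pow_mul]
  apply orderOf_dvd_iff_pow_eq_one.1
  exact he.trans (Nat.mul_dvd_mul_right hkm n)

theorem div_part_pow {m n k : ℕ} (hkn : k ≡ 1 [MOD n]) {e : G} (he : orderOf e ∣ m * n) :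
    (e * (e ^ k)⁻¹) ^ m = 1 := by
  have h0 : e * (e ^ k)⁻¹ = e ^ ((1 : ℤ) - (k : ℤ)) := by
    rw [zpow_sub, zpow_one, zpow_natCast]
  rw [h0, ← zpow_natCast, ← zpow_mul]
  apply orderOf_dvd_iff_zpow_eq_one.1
  have h2 : (n : ℤ) ∣ (k : ℤ) - 1 := by
    have := (Nat.modEq_iff_dvd.1 hkn.symm)
    simpa using this
  obtain ⟨t, ht⟩ := h2
  have h3 : ((1 : ℤ) - (k : ℤ)) * (m : ℤ) = ((m * n : ℕ) : ℤ) * (-t) := by
    have : (1 : ℤ) - (k : ℤ) = -((n : ℤ) * t) := by rw [← ht]; ring
    rw [this]
    push_cast
    ring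
  rw [h3]
  exact Dvd.dvd.mul_right (Int.natCast_dvd_natCast.2 he) _

/-- the `n`-part of `x` is `x ^ k` -/
theorem npart_iff [Finite G] {m n k : ℕ} (hmn : Nat.card G = m * n) (hcop : m.Coprime n)
    (hkm : m ∣ k) (hkn : k ≡ 1 [MOD n]) (g x : G) :
    (∃ v : G, IsConj v g ∧ (∃ u : G, x = u * v ∧ Commute u v ∧ Nat.Coprime (orderOf u) n ∧
      Nat.Coprime (orderOf v) m)) ↔ IsConj (x ^ k) g := by
  have hord : ∀ e : G, orderOf e ∣ m * n := fun e => hmn ▸ orderOf_dvd_natCard e
  constructor
  · rintro ⟨v, hvg, u, rfl, hcomm, hu, hv⟩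
    have h1 : orderOf u ∣ m := Nat.Coprime.dvd_of_dvd_mul_right hu (hord u)
    have h2 : orderOf v ∣ n := Nat.Coprime.dvd_of_dvd_mul_left hv (hord v)
    have h3 : u ^ k = 1 := orderOf_dvd_iff_pow_eq_one.1 (h1.trans hkm)
    have h4 : v ^ k = v := by
      have h5 : k ≡ 1 [MOD orderOf v] := Nat.ModEq.of_dvd h2 hkn
      have h6 := (pow_eq_pow_iff_modEq (x := v) (n := k) (m := 1)).2 h5
      rw [h6, pow_one]
    rw [hcomm.mul_pow, h3, one_mul, h4]
    exact hvg
  · intro h
    refine ⟨x ^ k, h, x * (x ^ k)⁻¹, by group, ?_, ?_, ?_⟩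
    · have h1 : Commute x (x ^ k) := (Commute.refl x).pow_right k
      exact h1.mul_left (Commute.refl (x ^ k)).inv_left
    · have h2 : orderOf (x * (x ^ k)⁻¹) ∣ m :=
        orderOf_dvd_of_pow_eq_one (div_part_pow hkn (hord x))
      exact Nat.Coprime.coprime_dvd_left h2 hcop
    · have h2 : orderOf (x ^ k) ∣ n := orderOf_dvd_of_pow_eq_one (pow_part_pow hkm (hord x))
      exact Nat.Coprime.coprime_dvd_left h2 hcop.symm

end Parts

section SectionFunction

variable {G : Type u} [Group G] [Fintype G]

open Classical in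
/-- the indicator function (times `n`) of the elements whose `n`-part is conjugate to `g` is a
combination of irreducible characters with algebraic integer coefficients -/
theorem section_fn_isRComb (m n : ℕ) (hmn : Nat.card G = m * n) (hcop : m.Coprime n) (g : G)
    (k : ℕ) (hkm : m ∣ k) (hkn : k ≡ 1 [MOD n]) :
    IsRComb G (fun x : G => if IsConj (x ^ k) g then (n : ℂ) else 0) := by
  apply isRComb_of_elementary
  · intro x h
    have h1 : (h * x * h⁻¹) ^ k = h * x ^ k * h⁻¹ := conj_pow
    have h2 : IsConj (h * x ^ k * h⁻¹) g ↔ IsConj (x ^ k) g := by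
      constructor
      · intro hc
        exact (isConj_iff.2 ⟨h, rfl⟩ : IsConj (x ^ k) (h * x ^ k * h⁻¹)).trans hc
      · intro hc
        exact (isConj_iff.2 ⟨h, rfl⟩ : IsConj (x ^ k) (h * x ^ k * h⁻¹)).symm.trans hc
    show (if IsConj ((h * x * h⁻¹) ^ k) g then (n : ℂ) else 0) =
      if IsConj (x ^ k) g then (n : ℂ) else 0
    rw [h1]
    by_cases hc : IsConj (x ^ k) g
    · rw [if_pos hc, if_pos (h2.2 hc)]
    · rw [if_neg hc, if_neg (fun h' => hc (h2.1 h'))]
  · intro E q _ hq hE
    have hnil : Group.IsNilpotent E := isNilpotent_of_isElementary hq hE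
    have hcardE : Nat.card E ∣ m * n := hmn ▸ Subgroup.card_subgroup_dvd_card E
    obtain ⟨B, hBn, hB⟩ := exists_coprime_subgroup (E := E) m
    have := Fintype.ofFinite B
    have := Fintype.ofFinite (IrrCharacter B)
    have hordE : ∀ e : E, orderOf e ∣ m * n := fun e => (orderOf_dvd_natCard e).trans hcardE
    have hb : ∀ e : E, e ^ k ∈ B := by
      intro e
      rw [hB]
      have h2 : orderOf (e ^ k) ∣ n := orderOf_dvd_of_pow_eq_one (pow_part_pow hkm (hordE e))
      exact Nat.Coprime.coprime_dvd_left h2 hcop.symm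
    let π : E →* B := MonoidHom.mk' (fun e => ⟨e ^ k, hb e⟩) (fun x y => Subtype.ext
      (pow_mul_of_nilpotent hcop hcardE hkm hkn x y))
    -- the order of `B` divides `n`
    have hBcard : Nat.card B ∣ n := by
      have h1 : Nat.card B ∣ m * n := (Subgroup.card_subgroup_dvd_card B).trans hcardE
      have h2 : (Nat.card B).Coprime m := by
        apply Nat.coprime_of_dvd
        intro p hp hpB hpm
        have : Fact p.Prime := ⟨hp⟩
        obtain ⟨b, hb'⟩ := exists_prime_orderOf_dvd_card' p hpB
        have h3 : (orderOf (b : E)).Coprime m := (hB b).1 b.2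
        rw [Subgroup.orderOf_coe, hb'] at h3
        exact (Nat.Prime.coprime_iff_not_dvd hp).1 h3 hpm
      exact Nat.Coprime.dvd_of_dvd_mul_left h2 h1
    obtain ⟨q', hq'⟩ := hBcard
    set ζ : B → ℂ := fun b => if IsConj (((b : E) : G)) g then (n : ℂ) else 0 with hζ
    have hζcf : IsClassFunction B ζ := by
      intro b h
      have h2 : IsConj ((((h * b * h⁻¹ : B) : E) : G)) g ↔ IsConj (((b : E) : G)) g := by
        have h3 : ((((h * b * h⁻¹ : B) : E) : G)) = ((h : E) : G) * ((b : E) : G) * ((h : E) : G)⁻¹ := by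
          simp
        rw [h3]
        constructor
        · intro hc
          exact (isConj_iff.2 ⟨_, rfl⟩ : IsConj (((b : E) : G))
            (((h : E) : G) * ((b : E) : G) * ((h : E) : G)⁻¹)).trans hc
        · intro hc
          exact (isConj_iff.2 ⟨_, rfl⟩ : IsConj (((b : E) : G))
            (((h : E) : G) * ((b : E) : G) * ((h : E) : G)⁻¹)).symm.trans hc
      show (if IsConj ((((h * b * h⁻¹ : B) : E) : G)) g then (n : ℂ) else 0) = _
      by_cases hc : IsConj (((b : E) : G)) g
      · rw [if_pos (h2.2 hc)]; simp only [hζ, if_pos hc]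
      · rw [if_neg (fun h' => hc (h2.1 h'))]; simp only [hζ, if_neg hc]
    have hexp := classFunction_expansion hζcf
    have heq : (fun e : E => if IsConj (((e : G)) ^ k) g then (n : ℂ) else 0) =
        ∑ φ : IrrCharacter B, classInner ζ (φ : B → ℂ) • (fun e : E => (φ : B → ℂ) (π e)) := by
      funext e
      have h1 : ζ (π e) = ∑ φ : IrrCharacter B, classInner ζ (φ : B → ℂ) * (φ : B → ℂ) (π e) := by
        conv_lhs => rw [hexp]
        simp [Finset.sum_apply]
      rw [Finset.sum_apply]
      simp only [Pi.smul_apply, smul_eq_mul]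
      rw [← h1]
      rfl
    rw [heq]
    apply isRComb_sum
    intro φ _
    apply isRComb_smul
    · -- integrality of the coefficient
      have h1 : classInner ζ (φ : B → ℂ) =
          ∑ b : B, (if IsConj (((b : E) : G)) g then (q' : ℂ) else 0) * conj ((φ : B → ℂ) b) := by
        unfold classInner
        rw [Finset.mul_sum]
        apply Finset.sum_congr rfl
        intro b _
        have hBne : (Nat.card B : ℂ) ≠ 0 := by exact_mod_cast (Nat.card_pos (α := B)).ne'
        by_cases hc : IsConj (((b : E) : G)) g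
        · simp only [hζ, if_pos hc]
          rw [hq']
          push_cast
          field_simp
        · simp only [hζ, if_neg hc, zero_mul, mul_zero]
      rw [h1]
      apply IsIntegral.sum
      intro b _
      apply IsIntegral.mul
      · split_ifs
        · exact isIntegral_natCast_complex q'
        · exact isIntegral_zero
      · have h3 : conj ((φ : B → ℂ) b) = (φ : B → ℂ) b⁻¹ := by
          rw [char_inv (irr_isCharacter φ.2)]
        rw [h3]
        exact helper23.irr_isIntegral φ _
    · exact isRComb_of_char (isCharacter_comp_monoidHom π (irr_isCharacter φ.2))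

end SectionFunction

end Cfsg.Agent.helper24
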