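import Mathlib
import Cfsg.Agent.Lib_helper24_BlockOrth2
import Cfsg.Agent.Lib_helper24_SectionFn

set_option autoImplicit false

namespace Cfsg.Agent.helper24

open Cfsg
open scoped ComplexConjugate

universe u

section PParts

variable {G : Type u} [Group G]

/-- every element of a finite group has a `p`-part -/
theorem exists_isPPart [Finite G] (p : ℕ) [Fact p.Prime] (g : G) : ∃ z : G, IsPPart p g z := by
  have hp : p.Prime := Fact.out
  obtain ⟨a, ha⟩ : ∃ a : ℕ, a = (Nat.card G).factorization p := ⟨_, rfl⟩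
  have hdvd : p ^ a ∣ Nat.card G := by rw [ha]; exact Nat.ordProj_dvd _ _
  obtain ⟨m, hm⟩ := hdvd
  have hmn : Nat.card G = m * p ^ a := by rw [hm, mul_comm]
  have hpm : ¬ p ∣ m := by
    intro h
    have h1 : p ^ (a + 1) ∣ Nat.card G := by
      rw [hm, pow_succ]
      exact Nat.mul_dvd_mul_left _ h
    rw [ha] at h1
    exact Nat.pow_succ_factorization_not_dvd Nat.card_pos.ne' hp h1
  have hcop : Nat.Coprime m (p ^ a) :=
    Nat.Coprime.pow_right a ((Nat.Prime.coprime_iff_not_dvd hp).mpr hpm).symm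
  have hpa1 : 1 < p ^ a ∨ p ^ a = 1 := by
    rcases Nat.eq_zero_or_pos a with h | h
    · right; rw [h, pow_zero]
    · left; exact Nat.one_lt_pow h.ne' hp.one_lt
  obtain ⟨k, hkm, hkn⟩ : ∃ k : ℕ, m ∣ k ∧ k ≡ 1 [MOD p ^ a] := by
    rcases hpa1 with h | h
    · obtain ⟨j, -, hj⟩ := Nat.exists_mul_mod_eq_one_of_coprime hcop h
      refine ⟨m * j, Dvd.intro _ rfl, ?_⟩
      show m * j % p ^ a = 1 % p ^ a
      rw [hj, Nat.mod_eq_of_lt h]
    · exact ⟨m, dvd_rfl, by rw [h]; exact Nat.modEq_one⟩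
  have hord : orderOf g ∣ m * p ^ a := hmn ▸ orderOf_dvd_natCard g
  refine ⟨g ^ k, g * (g ^ k)⁻¹, ?_, ?_, ?_, ?_⟩
  · have h1 : Commute (g ^ k) g := (Commute.refl g).pow_left k
    rw [← mul_assoc, h1.eq, mul_inv_cancel_right]
  · have h1 : Commute (g ^ k) g := (Commute.refl g).pow_left k
    exact h1.mul_right (Commute.refl (g ^ k)).inv_right
  · have h2 : orderOf (g ^ k) ∣ p ^ a := orderOf_dvd_of_pow_eq_one (pow_part_pow hkm hord)
    obtain ⟨j, _, hj⟩ := (Nat.dvd_prime_pow hp).1 h2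
    exact ⟨j, hj⟩
  · intro h
    have h2 : orderOf (g * (g ^ k)⁻¹) ∣ m := orderOf_dvd_of_pow_eq_one (div_part_pow hkn hord)
    exact hpm (h.trans h2)

/-- if the `p`-parts of `g` and `h` are not conjugate, the stabilisers of the two-sided action of
the pair `(g, h)` have exponents divisible by `p` -/
theorem ppart_zpow_fix_dvd {p : ℕ} (hp : p.Prime) {g h x y : G} (hgx : IsPPart p g x)
    (hhy : IsPPart p h y) (hxy : ¬ IsConj x y) (c : G) (i : ℤ)
    (hi : g ^ i * c * (h⁻¹) ^ i = c) : (p : ℤ) ∣ i := by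
  by_contra hpi
  obtain ⟨y₁, hg, hc1, ⟨k1, hk1⟩, hy1⟩ := hgx
  obtain ⟨y₂, hh, hc2, ⟨k2, hk2⟩, hy2⟩ := hhy
  have h1 : g ^ i = c * h ^ i * c⁻¹ := by
    have : g ^ i * c = c * h ^ i := by
      calc g ^ i * c = g ^ i * c * (h⁻¹) ^ i * h ^ i := by rw [inv_zpow, inv_mul_cancel_right]
        _ = c * h ^ i := by rw [hi]
    rw [← this, mul_inv_cancel_right]
  obtain ⟨q, hq⟩ : ∃ q : ℤ, q = (orderOf y₁ : ℤ) * (orderOf y₂ : ℤ) := ⟨_, rfl⟩
  have hy1q : y₁ ^ (i * q) = 1 := by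
    rw [hq, mul_comm (orderOf y₁ : ℤ), ← mul_assoc, zpow_mul, zpow_natCast (y₁ ^ (i * (orderOf y₂ : ℤ)))]
    rw [← zpow_natCast, ← zpow_mul, mul_comm, zpow_mul, zpow_natCast, pow_orderOf_eq_one, one_zpow]
  have hy2q : y₂ ^ (i * q) = 1 := by
    rw [hq, ← mul_assoc, zpow_mul, zpow_natCast (y₂ ^ (i * (orderOf y₁ : ℤ)))]
    rw [← zpow_natCast, ← zpow_mul, mul_comm, zpow_mul, zpow_natCast, pow_orderOf_eq_one, one_zpow]
  have hgq : g ^ (i * q) = x ^ (i * q) := by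
    rw [← hg, hc1.mul_zpow, hy1q, mul_one]
  have hhq : h ^ (i * q) = y ^ (i * q) := by
    rw [← hh, hc2.mul_zpow, hy2q, mul_one]
  have h2 : x ^ (i * q) = c * y ^ (i * q) * c⁻¹ := by
    rw [← hgq, ← hhq, zpow_mul, h1, conj_zpow, ← zpow_mul]
  -- Bezout
  have hpZ : Prime (p : ℤ) := Nat.prime_iff_prime_int.mp hp
  have hne : ¬ (p : ℤ) ∣ i * q := by
    intro hd
    rcases hpZ.dvd_or_dvd hd with h3 | h3
    · exact hpi h3
    · rw [hq] at h3
      rcases hpZ.dvd_or_dvd h3 with h4 | h4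
      · exact hy1 (Int.natCast_dvd_natCast.mp h4)
      · exact hy2 (Int.natCast_dvd_natCast.mp h4)
  have hcop : IsCoprime (i * q) ((p : ℤ) ^ (k1 + k2)) :=
    ((hpZ.coprime_iff_not_dvd.mpr hne).symm).pow_right
  obtain ⟨a, b, hab⟩ := hcop
  have hxp : x ^ ((p : ℤ) ^ (k1 + k2)) = 1 := by
    have : ((p : ℤ) ^ (k1 + k2)) = ((p ^ (k1 + k2) : ℕ) : ℤ) := by push_cast; rfl
    rw [this, zpow_natCast, pow_add, pow_mul, ← hk1, pow_orderOf_eq_one, one_pow]
  have hyp : y ^ ((p : ℤ) ^ (k1 + k2)) = 1 := by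
    have : ((p : ℤ) ^ (k1 + k2)) = ((p ^ (k1 + k2) : ℕ) : ℤ) := by push_cast; rfl
    rw [this, zpow_natCast, pow_add, mul_comm, pow_mul, ← hk2, pow_orderOf_eq_one, one_pow]
  have hx1 : x = (x ^ (i * q)) ^ a := by
    have h5 : x ^ (a * (i * q)) * x ^ (b * (p : ℤ) ^ (k1 + k2)) = x := by
      rw [← zpow_add, hab, zpow_one]
    have e1 : x ^ (a * (i * q)) = (x ^ (i * q)) ^ a := by rw [mul_comm, zpow_mul]
    have e2 : x ^ (b * (p : ℤ) ^ (k1 + k2)) = 1 := by rw [mul_comm, zpow_mul, hxp, one_zpow]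
    rw [e1, e2, mul_one] at h5
    exact h5.symm
  have hy1' : y = (y ^ (i * q)) ^ a := by
    have h5 : y ^ (a * (i * q)) * y ^ (b * (p : ℤ) ^ (k1 + k2)) = y := by
      rw [← zpow_add, hab, zpow_one]
    have e1 : y ^ (a * (i * q)) = (y ^ (i * q)) ^ a := by rw [mul_comm, zpow_mul]
    have e2 : y ^ (b * (p : ℤ) ^ (k1 + k2)) = 1 := by rw [mul_comm, zpow_mul, hyp, one_zpow]
    rw [e1, e2, mul_one] at h5
    exact h5.symm
  apply hxy
  have h3 : x = c * y * c⁻¹ := by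
    rw [hx1, h2, conj_zpow, ← hy1']
  rw [isConj_comm, isConj_iff]
  exact ⟨c, h3.symm⟩

end PParts

section General

variable {G : Type u} [Group G] [Fintype G]

/-- general form of `sum_conjugation_eq_zero`: only the divisibility of the exponents of the
stabilisers is used -/
theorem sum_conjugation_eq_zero_of_stab {p : ℕ} {M : Ideal AlgInt} (hM : IsPModular p M)
    {a : G → ℂ} (hcf : IsClassFunction G a) (hloc : ∀ g, MemLocalRing M (a g))
    (hidem : cconv a a = a) (x y : G)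
    (hst : ∀ (g : G) (k : ℤ), x ^ k * g * (y⁻¹) ^ k = g → (p : ℤ) ∣ k) :
    ∑ g : G, a (x * g * y⁻¹ * g⁻¹) = 0 := by
  classical
  have hp : p.Prime := hM.1
  have hMp : M.IsPrime := hM.2.1.isPrime
  obtain ⟨ζ, hζ⟩ : ∃ ζ : ℂ, IsPrimitiveRoot ζ p := ⟨_, Complex.isPrimitiveRoot_exp p hp.ne_zero⟩
  have hζ0 : ζ ≠ 0 := hζ.ne_zero hp.ne_zero
  have hζ1 : ζ ≠ 1 := hζ.ne_one hp.one_lt
  have hζp : ζ ^ p = 1 := hζ.pow_eq_one
  have hstab : ∀ (g : G) (k : ℤ), (twoSided x y ^ k) g = g → ζ ^ k = 1 := by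
    intro g k hk
    rw [twoSided_zpow_apply] at hk
    obtain ⟨j, rfl⟩ := hst g k hk
    rw [zpow_mul, zpow_natCast, hζp, one_zpow]
  obtain ⟨τ, hτk, hτσ⟩ := exists_twist (twoSided x y) ζ hζ0 hstab
  have hτ0 : ∀ g, τ g ≠ 0 := by
    intro g
    obtain ⟨k, hk⟩ := hτk g
    rw [hk]
    exact zpow_ne_zero _ hζ0
  have hτJ : ∀ g h, MemLocalIdeal M (τ g * (τ h)⁻¹ - 1) := by
    intro g h
    obtain ⟨k, hk⟩ := hτk g
    obtain ⟨k', hk'⟩ := hτk h
    apply MemIdeal.memLocalIdeal hMp.ne_top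
    apply memIdeal_sub_one_of_pow hM (j := 1)
    rw [hk, hk', pow_one, ← zpow_neg, ← zpow_add₀ hζ0, ← zpow_natCast, ← zpow_mul, mul_comm,
      zpow_mul, zpow_natCast, hζp, one_zpow]
  exact sum_twisted_eq_zero hcf hloc hidem x y τ ζ hζ1 hζ0 hτ0 (fun g => hτσ g) hτJ

open Classical in
/-- the two-sided trace of the block idempotent -/
theorem blockCoeff_conj_sum [Fintype (IrrCharacter G)] (B : Set (IrrCharacter G)) (x y : G) :
    ∑ g : G, blockCoeff B (x * g * y⁻¹ * g⁻¹) =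
      ∑ χ ∈ Finset.univ.filter (fun χ => χ ∈ B), (χ : G → ℂ) y * conj ((χ : G → ℂ) x) := by
  simp_rw [blockCoeff_eq_sum B]
  rw [← Finset.mul_sum, Finset.sum_comm, Finset.mul_sum]
  refine Finset.sum_congr rfl (fun χ _ => ?_)
  rw [← Finset.mul_sum, ← map_sum]
  have h2 : ∑ g : G, (χ : G → ℂ) (x * g * y⁻¹ * g⁻¹) =
      (Nat.card G : ℂ) * (χ : G → ℂ) y⁻¹ * (χ : G → ℂ) x / (χ : G → ℂ) 1 := by
    rw [← helper23.irr_sum_conj_mul χ y⁻¹ x]
    refine Finset.sum_congr rfl (fun g _ => ?_)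
    have e : x * g * y⁻¹ * g⁻¹ = x * (g * y⁻¹ * g⁻¹ * x) * x⁻¹ := by group
    rw [e, char_isClassFunction (irr_isCharacter χ.2)]
  rw [h2, char_inv (irr_isCharacter χ.2)]
  have hd : conj ((χ : G → ℂ) 1) = (χ : G → ℂ) 1 := by
    rw [← char_charDegree_cast (irr_isCharacter χ.2)]
    exact Complex.conj_natCast _
  have hne := irr_apply_one_ne_zero χ.2
  have hG : (Nat.card G : ℂ) ≠ 0 := by exact_mod_cast Nat.card_pos.ne'
  rw [map_div₀, map_mul, map_mul, Complex.conj_conj, hd, Complex.conj_natCast]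
  field_simp

open Classical in
/-- **block orthogonality** (finset form) -/
theorem block_orthogonality_finset [Fintype (IrrCharacter G)] (p : ℕ) (M : Ideal AlgInt)
    (hM : IsPModular p M) (χ₀ : IrrCharacter G) {g h x y : G} (hgx : IsPPart p g x)
    (hhy : IsPPart p h y) (hxy : ¬ IsConj x y) :
    ∑ χ ∈ Finset.univ.filter (fun χ : IrrCharacter G => χ ∈ blockOf M (χ₀ : G → ℂ)),
      (χ : G → ℂ) g * conj ((χ : G → ℂ) h) = 0 := by
  have hMp : M.IsPrime := hM.2.1.isPrime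
  obtain ⟨hcf, hl, -, hidem⟩ := blockCoeff_props (M := M) χ₀
  have hyx : ¬ IsConj y x := fun h => hxy h.symm
  have h0 := sum_conjugation_eq_zero_of_stab hM hcf hl hidem h g
    (fun c i hi => ppart_zpow_fix_dvd hM.1 hhy hgx hyx c i hi)
  rw [blockCoeff_conj_sum] at h0
  exact h0

end General

section Final

variable {G : Type u} [Group G] [Finite G]

/-- **block orthogonality** -/
theorem block_orthogonality (p : ℕ) (M : Ideal AlgInt) (hM : IsPModular p M) {g h x y : G}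
    (hgx : IsPPart p g x) (hhy : IsPPart p h y) (hxy : ¬ IsConj x y)
    (B : Set (IrrCharacter G)) (hB : IsPBlock M B) :
    ∑ᶠ χ ∈ B, (χ : G → ℂ) g * (χ : G → ℂ) h⁻¹ = 0 := by
  classical
  letI := Fintype.ofFinite G
  have := Fintype.ofFinite (IrrCharacter G)
  obtain ⟨χ₀, rfl⟩ := hB
  rw [finsum_mem_eq_finite_toFinset_sum _ (Set.toFinite _)]
  have h3 : (Set.toFinite (blockOf M (χ₀ : G → ℂ))).toFinset =
      Finset.univ.filter (fun φ => φ ∈ blockOf M (χ₀ : G → ℂ)) := by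
    ext φ
    simp
  rw [h3, ← block_orthogonality_finset p M hM χ₀ hgx hhy hxy]
  refine Finset.sum_congr rfl (fun χ _ => ?_)
  rw [char_inv (irr_isCharacter χ.2)]

/-- the block part of a class function vanishing on a `p`-section vanishes on that section -/
theorem blockPart_vanish (p : ℕ) [Fact p.Prime] (M : Ideal AlgInt) (hM : IsPModular p M)
    (ϑ : G → ℂ) (x : G)
    (hvan : ∀ u z : G, IsPPart p u z → IsConj x z → ϑ u = 0)
    (B : Set (IrrCharacter G)) (hB : IsPBlock M B) (u z : G) (huz : IsPPart p u z)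
    (hxz : IsConj x z) : blockPart B ϑ u = 0 := by
  classical
  letI := Fintype.ofFinite G
  have := Fintype.ofFinite (IrrCharacter G)
  obtain ⟨χ₀, rfl⟩ := hB
  show ∑ᶠ χ ∈ blockOf M (χ₀ : G → ℂ), classInner ϑ (χ : G → ℂ) * (χ : G → ℂ) u = 0
  rw [finsum_mem_eq_finite_toFinset_sum _ (Set.toFinite _)]
  have h3 : (Set.toFinite (blockOf M (χ₀ : G → ℂ))).toFinset =
      Finset.univ.filter (fun φ => φ ∈ blockOf M (χ₀ : G → ℂ)) := by
    ext φ
    simp
  rw [h3]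
  unfold classInner
  have h4 : ∑ χ ∈ Finset.univ.filter (fun φ : IrrCharacter G => φ ∈ blockOf M (χ₀ : G → ℂ)),
      ((Nat.card G : ℂ)⁻¹ * ∑ g : G, ϑ g * conj ((χ : G → ℂ) g)) * (χ : G → ℂ) u =
      (Nat.card G : ℂ)⁻¹ * ∑ g : G, ϑ g *
        ∑ χ ∈ Finset.univ.filter (fun φ : IrrCharacter G => φ ∈ blockOf M (χ₀ : G → ℂ)),
          (χ : G → ℂ) u * conj ((χ : G → ℂ) g) := by
    simp only [Finset.mul_sum, Finset.sum_mul]
    rw [Finset.sum_comm]
    refine Finset.sum_congr rfl (fun g _ => Finset.sum_congr rfl (fun χ _ => ?_))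
    ring
  rw [h4]
  have h5 : ∀ g : G, ϑ g *
      ∑ χ ∈ Finset.univ.filter (fun φ : IrrCharacter G => φ ∈ blockOf M (χ₀ : G → ℂ)),
        (χ : G → ℂ) u * conj ((χ : G → ℂ) g) = 0 := by
    intro g
    obtain ⟨zg, hzg⟩ := exists_isPPart p g
    by_cases hc : IsConj x zg
    · rw [hvan g zg hzg hc, zero_mul]
    · have hne : ¬ IsConj z zg := fun h => hc (hxz.trans h)
      rw [block_orthogonality_finset p M hM χ₀ huz hzg hne, mul_zero]
  rw [Finset.sum_congr rfl (fun g _ => h5 g), Finset.sum_const_zero, mul_zero]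

end Final

end Cfsg.Agent.helper24
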