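import Mathlib
import Cfsg.Agent.Lib_helper24_LocalIdeal
import Cfsg.Agent.Lib_helper24_SectionFn
import Cfsg.Agent.S0187
import Cfsg.Agent.Lib_helper23_LinChar

set_option autoImplicit false

namespace Cfsg.Agent.helper24

open Cfsg Cfsg.Agent.helper12
open scoped ComplexConjugate

universe u

section Congruence

variable {G : Type u} [Group G] [Fintype G]

/-- `χ(a v) ≡ χ(v)` modulo `M` when `a` is a `p`-element commuting with `v` -/
theorem char_congr_pregular_part {p : ℕ} {M : Ideal AlgInt} (hM : IsPModular p M) {χ : G → ℂ}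
    (hχ : IsCharacter G χ) (a v : G) (hcomm : Commute a v) {j : ℕ} (ha : a ^ (p ^ j) = 1) :
    MemIdeal M (χ (a * v) - χ v) := by
  classical
  set S : Set G := {a, v} with hS
  have hScomm : ∀ x ∈ S, ∀ y ∈ S, x * y = y * x := by
    intro x hx y hy
    rcases hx with rfl | hx
    · rcases hy with rfl | hy
      · rfl
      · rw [Set.mem_singleton_iff] at hy; subst hy; exact hcomm.eq
    · rw [Set.mem_singleton_iff] at hx; subst hx
      rcases hy with rfl | hy
      · exact hcomm.eq.symm
      · rw [Set.mem_singleton_iff] at hy; subst hy; rfl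
  set C : Subgroup G := Subgroup.closure S with hC
  have hCcomm : ∀ c d : C, c * d = d * c := by
    intro c d
    letI := Subgroup.closureCommGroupOfComm hScomm
    exact mul_comm c d
  have := Fintype.ofFinite C
  have := Fintype.ofFinite (IrrCharacter C)
  have haC : a ∈ C := Subgroup.subset_closure (by simp [hS])
  have hvC : v ∈ C := Subgroup.subset_closure (by simp [hS])
  set a' : C := ⟨a, haC⟩ with ha'
  set v' : C := ⟨v, hvC⟩ with hv'
  have ha'pow : a' ^ (p ^ j) = 1 := by
    apply Subtype.ext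
    rw [Subgroup.coe_pow]
    exact ha
  obtain ⟨n, hexp, -, -⟩ := char_decomp (isCharacter_restrict C hχ)
  have hlin : ∀ μ : IrrCharacter C, (μ : C → ℂ) 1 = 1 := (Cfsg.Agent.S0187.result (G := C)).mp hCcomm
  have h1 : ∀ c : C, χ (c : G) = ∑ μ : IrrCharacter C, (n μ : ℂ) * (μ : C → ℂ) c := by
    intro c
    have := congrFun hexp c
    simp only [Finset.sum_apply, Pi.smul_apply, smul_eq_mul] at this
    exact this
  have h2 : χ (a * v) - χ v = ∑ μ : IrrCharacter C,
      (n μ : ℂ) * ((μ : C → ℂ) (a' * v') - (μ : C → ℂ) v') := by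
    have e1 := h1 (a' * v')
    have e2 := h1 v'
    rw [show ((a' * v' : C) : G) = a * v from rfl] at e1
    rw [show ((v' : C) : G) = v from rfl] at e2
    rw [e1, e2, ← Finset.sum_sub_distrib]
    refine Finset.sum_congr rfl (fun μ _ => ?_)
    ring
  rw [h2]
  apply MemIdeal.sum
  intro μ _
  obtain ⟨φ, hφ⟩ := helper23.exists_hom_of_linear (irr_isCharacter μ.2) (hlin μ)
  have h3 : (μ : C → ℂ) (a' * v') - (μ : C → ℂ) v' =
      (μ : C → ℂ) v' * (((φ a' : ℂˣ) : ℂ) - 1) := by
    rw [hφ (a' * v'), hφ v', map_mul, Units.val_mul]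
    ring
  rw [h3]
  have h4 : (((φ a' : ℂˣ) : ℂ)) ^ (p ^ j) = 1 := by
    rw [← Units.val_pow_eq_pow_val, ← map_pow, ha'pow, map_one, Units.val_one]
  have h5 := memIdeal_sub_one_of_pow hM h4
  have h6 := h5.mul_integral (helper23.irr_isIntegral μ v')
  exact h6.mul_integral (isIntegral_natCast_complex (n μ))

end Congruence

section Main

variable {G : Type u} [Group G] [Fintype G]

/-- uniqueness of the `n`-part -/
theorem npart_unique {m n k : ℕ} (hmn : Nat.card G = m * n) (hkm : m ∣ k) (hkn : k ≡ 1 [MOD n])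
    {x u v : G} (hx : x = u * v) (hcomm : Commute u v) (hu : Nat.Coprime (orderOf u) n)
    (hv : Nat.Coprime (orderOf v) m) : x ^ k = v := by
  have hord : ∀ e : G, orderOf e ∣ m * n := fun e => hmn ▸ orderOf_dvd_natCard e
  have h1 : orderOf u ∣ m := Nat.Coprime.dvd_of_dvd_mul_right hu (hord u)
  have h2 : orderOf v ∣ n := Nat.Coprime.dvd_of_dvd_mul_left hv (hord v)
  have h3 : u ^ k = 1 := orderOf_dvd_iff_pow_eq_one.1 (h1.trans hkm)
  have h4 : v ^ k = v := by
    have h5 : k ≡ 1 [MOD orderOf v] := Nat.ModEq.of_dvd h2 hkn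
    have h6 := (pow_eq_pow_iff_modEq (x := v) (n := k) (m := 1)).2 h5
    rw [h6, pow_one]
  rw [hx, hcomm.mul_pow, h3, one_mul, h4]

/-- two elements have conjugate `p`-regular parts iff all irreducible characters agree on them
modulo the local ideal -/
theorem pregular_parts_conj_iff (p : ℕ) (M : Ideal AlgInt) (hM : IsPModular p M) (x y a b : G)
    (ha : IsPPart p x a) (hb : IsPPart p y b) :
    IsConj (a⁻¹ * x) (b⁻¹ * y) ↔
      ∀ χ : IrrCharacter G, MemLocalIdeal M ((χ : G → ℂ) x - (χ : G → ℂ) y) := by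
  classical
  have hpp : p.Prime := hM.1
  haveI hMprime : M.IsPrime := hM.2.1.isPrime
  have hMtop : M ≠ ⊤ := hM.2.1.ne_top
  obtain ⟨vx, hxa, hcx, ⟨jx, hjx⟩, hvx⟩ := ha
  obtain ⟨vy, hyb, hcy, ⟨jy, hjy⟩, hvy⟩ := hb
  have hvx' : a⁻¹ * x = vx := by rw [← hxa]; group
  have hvy' : b⁻¹ * y = vy := by rw [← hyb]; group
  rw [hvx', hvy']
  have hapow : a ^ (p ^ jx) = 1 := by rw [← hjx]; exact pow_orderOf_eq_one a
  have hbpow : b ^ (p ^ jy) = 1 := by rw [← hjy]; exact pow_orderOf_eq_one b
  constructor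
  · intro hconj χ
    have hχc := irr_isCharacter χ.2
    have h1 := char_congr_pregular_part hM hχc a vx hcx hapow
    have h2 := char_congr_pregular_part hM hχc b vy hcy hbpow
    rw [hxa] at h1
    rw [hyb] at h2
    have h3 : (χ : G → ℂ) vx = (χ : G → ℂ) vy :=
      isClassFunction_iff_isConj.mp (char_isClassFunction hχc) vx vy hconj
    have h4 : (χ : G → ℂ) x - (χ : G → ℂ) y =
        ((χ : G → ℂ) x - (χ : G → ℂ) vx) - ((χ : G → ℂ) y - (χ : G → ℂ) vy) := by
      rw [h3]; ring
    rw [h4]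
    exact (h1.sub h2).memLocalIdeal hMtop
  · intro hall
    have := Fintype.ofFinite (IrrCharacter G)
    set α : ℕ := (Nat.card G).factorization p with hα
    set m : ℕ := p ^ α with hm
    set n : ℕ := Nat.card G / p ^ α with hn
    have hmn : Nat.card G = m * n := (Nat.ordProj_mul_ordCompl_eq_self (Nat.card G) p).symm
    have hnp : ¬ p ∣ n := Nat.not_dvd_ordCompl hpp Nat.card_pos.ne'
    have hcop : m.Coprime n := Nat.Coprime.pow_left α ((Nat.Prime.coprime_iff_not_dvd hpp).2 hnp)
    obtain ⟨k, hk0, hk1⟩ : ∃ k : ℕ, k ≡ 0 [MOD m] ∧ k ≡ 1 [MOD n] :=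
      ⟨Nat.chineseRemainder hcop 0 1, (Nat.chineseRemainder hcop 0 1).2⟩
    have hkm : m ∣ k := (Nat.modEq_zero_iff_dvd).1 hk0
    have hpn : ∀ i : ℕ, (p ^ i).Coprime n := fun i =>
      Nat.Coprime.pow_left i ((Nat.Prime.coprime_iff_not_dvd hpp).2 hnp)
    have hxk : x ^ k = vx := by
      apply npart_unique hmn hkm hk1 hxa.symm hcx
      · rw [hjx]; exact hpn jx
      · rw [hm]
        exact (Nat.Coprime.pow_left α ((Nat.Prime.coprime_iff_not_dvd hpp).2 hvx)).symm
    have hyk : y ^ k = vy := by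
      apply npart_unique hmn hkm hk1 hyb.symm hcy
      · rw [hjy]; exact hpn jy
      · rw [hm]
        exact (Nat.Coprime.pow_left α ((Nat.Prime.coprime_iff_not_dvd hpp).2 hvy)).symm
    have hR := section_fn_isRComb m n hmn hcop vx k hkm hk1
    set ϑ : G → ℂ := fun z : G => if IsConj (z ^ k) vx then (n : ℂ) else 0 with hϑ
    have hexp := classFunction_expansion hR.1
    have hdiff : MemLocalIdeal M (ϑ x - ϑ y) := by
      have h1 : ϑ x - ϑ y = ∑ χ : IrrCharacter G, classInner ϑ (χ : G → ℂ) *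
          ((χ : G → ℂ) x - (χ : G → ℂ) y) := by
        have e1 := congrFun hexp x
        have e2 := congrFun hexp y
        simp only [Finset.sum_apply, Pi.smul_apply, smul_eq_mul] at e1 e2
        conv_lhs => rw [e1, e2]
        rw [← Finset.sum_sub_distrib]
        refine Finset.sum_congr rfl (fun χ _ => ?_)
        ring
      rw [h1]
      apply memLocalIdeal_sum
      intro χ _
      exact memLocalIdeal_mul_integral (hall χ) (hR.2 χ)
    have hϑx : ϑ x = (n : ℂ) := by
      simp only [hϑ]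
      rw [hxk, if_pos (IsConj.refl vx)]
    by_contra hnc
    have hϑy : ϑ y = 0 := by
      simp only [hϑ]
      rw [hyk, if_neg (fun h => hnc h.symm)]
    rw [hϑx, hϑy, sub_zero] at hdiff
    exact natCast_not_memLocalIdeal hM hnp hdiff

end Main

end Cfsg.Agent.helper24
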