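import Mathlib
import Cfsg.Agent.Lib_helper24_PSection

set_option autoImplicit false

namespace Cfsg.Agent.helper24

open Cfsg Cfsg.Agent.helper12
open scoped ComplexConjugate

universe u

section Arithmetic

/-- a rational prime is not a unit in the ring of algebraic integers -/
theorem prime_mem_nonunits_algInt {p : ℕ} (hp : p.Prime) : (p : AlgInt) ∈ nonunits AlgInt := by
  intro hu
  obtain ⟨u, hu⟩ := hu.exists_right_inv
  have h1 : ((1 : ℤ) : ℂ) = ((p : ℤ) : ℂ) * (u : ℂ) := by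
    have := congrArg Subtype.val hu
    push_cast at this
    push_cast
    rw [← this]
  have h2 : ((p : ℕ) : ℤ) ∣ 1 :=
    helper23.int_dvd_of_eq_mul_isIntegral 1 (p : ℤ) (by exact_mod_cast hp.ne_zero) (u : ℂ) u.2 h1
  have h3 : p ∣ 1 := by exact_mod_cast h2
  exact hp.one_lt.ne' (Nat.dvd_one.1 h3)

/-- there is a maximal ideal of the algebraic integers containing `p` -/
theorem exists_isPModular {p : ℕ} (hp : p.Prime) : ∃ M : Ideal AlgInt, IsPModular p M := by
  have hne : Ideal.span {(p : AlgInt)} ≠ ⊤ := by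
    intro h
    rw [Ideal.span_singleton_eq_top] at h
    exact prime_mem_nonunits_algInt hp h
  obtain ⟨M, hM, hle⟩ := Ideal.exists_le_maximal _ hne
  exact ⟨M, hp, hM, hle (Ideal.subset_span (Set.mem_singleton _))⟩

theorem charP_quotient_of_isPModular {p : ℕ} {M : Ideal AlgInt} (hM : IsPModular p M) :
    CharP (AlgInt ⧸ M) p := by
  obtain ⟨hp, hmax, hpM⟩ := hM
  have : M.IsPrime := hmax.isPrime
  rw [CharP.charP_iff_prime_eq_zero hp]
  have : ((p : AlgInt ⧸ M)) = Ideal.Quotient.mk M (p : AlgInt) := by simp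
  rw [this, Ideal.Quotient.eq_zero_iff_mem]
  exact hpM

end Arithmetic

section PowCongr

variable {G : Type u} [Group G] [Fintype G]

/-- `χ(g)^(p^a) ≡ χ(g^(p^a))` modulo `p` -/
theorem char_pow_congr (p : ℕ) [Fact p.Prime] {χ : G → ℂ} (hχ : IsCharacter G χ) (g : G) (a : ℕ) :
    ∃ γ : AlgInt, χ g ^ (p ^ a) - χ (g ^ (p ^ a)) = (p : ℂ) * (γ : ℂ) := by
  classical
  have hpp : p.Prime := Fact.out
  set C : Subgroup G := Subgroup.zpowers g with hC
  have hCcomm : ∀ c d : C, c * d = d * c := by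
    intro c d
    obtain ⟨i, hi⟩ := Subgroup.mem_zpowers_iff.1 c.2
    obtain ⟨j, hj⟩ := Subgroup.mem_zpowers_iff.1 d.2
    apply Subtype.ext
    rw [Subgroup.coe_mul, Subgroup.coe_mul, ← hi, ← hj, ← zpow_add, ← zpow_add, add_comm]
  have := Fintype.ofFinite C
  have := Fintype.ofFinite (IrrCharacter C)
  set g' : C := ⟨g, Subgroup.mem_zpowers g⟩ with hg'
  obtain ⟨n, hexp, -, -⟩ := char_decomp (isCharacter_restrict C hχ)
  have hlin : ∀ μ : IrrCharacter C, (μ : C → ℂ) 1 = 1 :=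
    (Cfsg.Agent.S0187.result (G := C)).mp hCcomm
  have h1 : ∀ c : C, χ (c : G) = ∑ μ : IrrCharacter C, (n μ : ℂ) * (μ : C → ℂ) c := by
    intro c
    have := congrFun hexp c
    simp only [Finset.sum_apply, Pi.smul_apply, smul_eq_mul] at this
    exact this
  choose φ hφ using fun μ : IrrCharacter C =>
    helper23.exists_hom_of_linear (irr_isCharacter μ.2) (hlin μ)
  -- algebraic integers
  set e : IrrCharacter C → AlgInt := fun μ => ⟨(μ : C → ℂ) g', helper23.irr_isIntegral μ g'⟩ with he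
  set I : Ideal AlgInt := Ideal.span {(p : AlgInt)} with hI
  have : CharP (AlgInt ⧸ I) p := CharP.quotient AlgInt p (prime_mem_nonunits_algInt hpp)
  set X : AlgInt := ∑ μ : IrrCharacter C, (n μ : AlgInt) * e μ with hX
  set Y : AlgInt := ∑ μ : IrrCharacter C, (n μ : AlgInt) * e μ ^ (p ^ a) with hY
  have hXval : (X : ℂ) = χ g := by
    rw [hX]
    push_cast
    rw [show g = ((g' : C) : G) from rfl, h1 g']
  have hYval : (Y : ℂ) = χ (g ^ (p ^ a)) := by
    rw [hY]
    push_cast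
    rw [show g ^ (p ^ a) = (((g' ^ (p ^ a) : C)) : G) from rfl, h1 (g' ^ (p ^ a))]
    refine Finset.sum_congr rfl (fun μ _ => ?_)
    congr 1
    show ((μ : C → ℂ) g') ^ (p ^ a) = (μ : C → ℂ) (g' ^ (p ^ a))
    rw [hφ μ g', hφ μ (g' ^ (p ^ a)), map_pow, Units.val_pow_eq_pow_val]
  have hmem : X ^ (p ^ a) - Y ∈ I := by
    rw [← Ideal.Quotient.eq_zero_iff_mem, map_sub, sub_eq_zero, map_pow, hX, hY, map_sum, map_sum,
      sum_pow_char_pow]
    refine Finset.sum_congr rfl (fun μ _ => ?_)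
    rw [map_mul, map_mul, mul_pow, map_pow, map_natCast]
    congr 1
    have := map_natCast (iterateFrobenius (AlgInt ⧸ I) p a) (n μ)
    rw [iterateFrobenius_def] at this
    exact this
  rw [hI, Ideal.mem_span_singleton] at hmem
  obtain ⟨γ, hγ⟩ := hmem
  refine ⟨γ, ?_⟩
  rw [← hXval, ← hYval]
  have := congrArg Subtype.val hγ
  push_cast at this
  exact this

end PowCongr

section Main

variable {G : Type u} [Group G] [Fintype G]

theorem pregular_conj_iff_pow (p : ℕ) [Fact p.Prime] (x y x' y' : G)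
    (hx : (∃ k : ℕ, orderOf (x * x'⁻¹) = p ^ k) ∧ Commute (x * x'⁻¹) x' ∧ ¬ p ∣ orderOf x')
    (hy : (∃ k : ℕ, orderOf (y * y'⁻¹) = p ^ k) ∧ Commute (y * y'⁻¹) y' ∧ ¬ p ∣ orderOf y') :
    IsConj x' y' ↔ ∀ χ : IrrCharacter G, ∃ γ : AlgInt,
      (χ : G → ℂ) x ^ (p ^ (Nat.card G).factorization p) -
        (χ : G → ℂ) y ^ (p ^ (Nat.card G).factorization p) = (p : ℂ) * (γ : ℂ) := by
  classical
  have hpp : p.Prime := Fact.out
  set a : ℕ := (Nat.card G).factorization p with ha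
  obtain ⟨⟨kx, hkx⟩, hcx, hx'⟩ := hx
  obtain ⟨⟨ky, hky⟩, hcy, hy'⟩ := hy
  -- the `p`-parts are killed by `p ^ a`
  have hpow : ∀ (u : G) (k : ℕ), orderOf u = p ^ k → u ^ (p ^ a) = 1 := by
    intro u k hk
    apply orderOf_dvd_iff_pow_eq_one.1
    rw [hk]
    apply pow_dvd_pow
    have h1 : p ^ k ∣ Nat.card G := hk ▸ orderOf_dvd_natCard u
    exact (hpp.pow_dvd_iff_le_factorization Nat.card_pos.ne').1 h1
  have hxq : x ^ (p ^ a) = x' ^ (p ^ a) := by
    have h1 : x = (x * x'⁻¹) * x' := by group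
    conv_lhs => rw [h1]
    rw [hcx.mul_pow, hpow _ kx hkx, one_mul]
  have hyq : y ^ (p ^ a) = y' ^ (p ^ a) := by
    have h1 : y = (y * y'⁻¹) * y' := by group
    conv_lhs => rw [h1]
    rw [hcy.mul_pow, hpow _ ky hky, one_mul]
  constructor
  · intro hconj χ
    have hχc := irr_isCharacter χ.2
    obtain ⟨γ₁, hγ₁⟩ := char_pow_congr p hχc x a
    obtain ⟨γ₂, hγ₂⟩ := char_pow_congr p hχc y a
    have hconj' : IsConj (x' ^ (p ^ a)) (y' ^ (p ^ a)) := by
      obtain ⟨c, hc⟩ := isConj_iff.mp hconj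
      rw [isConj_iff]
      refine ⟨c, ?_⟩
      rw [← hc, conj_pow]
    have h3 : (χ : G → ℂ) (x ^ (p ^ a)) = (χ : G → ℂ) (y ^ (p ^ a)) := by
      rw [hxq, hyq]
      exact isClassFunction_iff_isConj.mp (char_isClassFunction hχc) _ _ hconj'
    refine ⟨γ₁ - γ₂, ?_⟩
    push_cast
    rw [mul_sub, ← hγ₁, ← hγ₂, h3]
    ring
  · intro hall
    obtain ⟨M, hM⟩ := exists_isPModular hpp
    have hMprime : M.IsPrime := hM.2.1.isPrime
    have hMtop : M ≠ ⊤ := hM.2.1.ne_top
    have := charP_quotient_of_isPModular hM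
    have hax : IsPPart p x (x * x'⁻¹) := ⟨x', by group, hcx, ⟨kx, hkx⟩, hx'⟩
    have hay : IsPPart p y (y * y'⁻¹) := ⟨y', by group, hcy, ⟨ky, hky⟩, hy'⟩
    have key := (pregular_parts_conj_iff p M hM x y (x * x'⁻¹) (y * y'⁻¹) hax hay).2
    have e1 : (x * x'⁻¹)⁻¹ * x = x' := by group
    have e2 : (y * y'⁻¹)⁻¹ * y = y' := by group
    rw [e1, e2] at key
    apply key
    intro χ
    obtain ⟨γ, hγ⟩ := hall χ
    set u : AlgInt := ⟨(χ : G → ℂ) x, helper23.irr_isIntegral χ x⟩ with hu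
    set v : AlgInt := ⟨(χ : G → ℂ) y, helper23.irr_isIntegral χ y⟩ with hv
    have h1 : u ^ (p ^ a) - v ^ (p ^ a) = (p : AlgInt) * γ := by
      apply Subtype.ext
      push_cast
      exact hγ
    have h2 : Ideal.Quotient.mk M (u - v) ^ (p ^ a) = 0 := by
      rw [map_sub, sub_pow_char_pow, ← map_pow, ← map_pow, ← map_sub, h1,
        Ideal.Quotient.eq_zero_iff_mem]
      exact M.mul_mem_right _ hM.2.2
    have h3 : Ideal.Quotient.mk M (u - v) = 0 :=
      pow_eq_zero_iff (pow_pos hpp.pos a).ne' |>.1 h2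
    rw [Ideal.Quotient.eq_zero_iff_mem] at h3
    have h4 : MemIdeal M ((χ : G → ℂ) x - (χ : G → ℂ) y) := ⟨u - v, h3, by push_cast; rfl⟩
    exact h4.memLocalIdeal hMtop

end Main

end Cfsg.Agent.helper24
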