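import Mathlib
import Cfsg.Agent.Lib_helper24_BlockOrth3

set_option autoImplicit false

namespace Cfsg.Agent.helper24

open Cfsg
open scoped ComplexConjugate

universe u

section GeneralTrick

/-- a function which is multiplied by `ζ` along a permutation (general index type) -/
theorem exists_twist' {Ω : Type*} (σ : Equiv.Perm Ω) (ζ : ℂ) (hζ0 : ζ ≠ 0)
    (h : ∀ (a : Ω) (k : ℤ), (σ ^ k) a = a → ζ ^ k = 1) :
    ∃ τ : Ω → ℂ, (∀ a, ∃ k : ℤ, τ a = ζ ^ k) ∧ ∀ a, τ (σ a) = ζ * τ a := by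
  classical
  let s : Setoid Ω := Equiv.Perm.SameCycle.setoid σ
  let rep : Ω → Ω := fun g => (Quotient.mk s g).out
  have hrep : ∀ g, σ.SameCycle (rep g) g := fun g => Quotient.mk_out (s := s) g
  choose n hn using hrep
  refine ⟨fun g => ζ ^ n g, fun g => ⟨n g, rfl⟩, ?_⟩
  intro g
  have hr : rep (σ g) = rep g := by
    show (Quotient.mk s (σ g)).out = (Quotient.mk s g).out
    congr 1
    apply Quotient.sound
    exact ⟨-1, by simp⟩
  have h1 : (σ ^ (n (σ g))) (rep g) = σ g := by rw [← hr]; exact hn (σ g)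
  have h2 : (σ ^ (1 + n g)) (rep g) = σ g := by
    rw [zpow_one_add, Equiv.Perm.mul_apply, hn g]
  have h3 : (σ ^ (-(1 + n g) + n (σ g))) (rep g) = rep g := by
    rw [zpow_add, Equiv.Perm.mul_apply, h1, zpow_neg, Equiv.Perm.inv_eq_iff_eq, h2]
  have h4 := h (rep g) _ h3
  have hne : ζ * ζ ^ n g ≠ 0 := mul_ne_zero hζ0 (zpow_ne_zero _ hζ0)
  rw [zpow_add₀ hζ0, zpow_neg, zpow_add₀ hζ0, zpow_one, inv_mul_eq_one₀ hne] at h4
  exact h4.symm

theorem semiconj_zpow {α β : Type*} (σ : Equiv.Perm α) (τ : Equiv.Perm β) (f : α → β)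
    (h : ∀ a, f (σ a) = τ (f a)) (i : ℤ) : ∀ a : α, f ((σ ^ i) a) = (τ ^ i) (f a) := by
  have hinv : ∀ a, f (σ⁻¹ a) = τ⁻¹ (f a) := by
    intro a
    rw [Equiv.Perm.eq_inv_iff_eq, ← h]
    congr 1
    exact Equiv.apply_symm_apply σ a
  induction i using Int.induction_on with
  | zero => intro a; simp
  | succ n ih =>
    intro a
    rw [zpow_add_one, zpow_add_one, Equiv.Perm.mul_apply, Equiv.Perm.mul_apply, ih, h]
  | pred n ih =>
    intro a
    rw [zpow_sub_one, zpow_sub_one, Equiv.Perm.mul_apply, Equiv.Perm.mul_apply, ih, hinv]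

/-- **the twisting argument**: an idempotent matrix with local entries which is invariant under a
permutation all of whose cycles have length divisible by `p` has vanishing twisted trace -/
theorem trace_perm_idempotent_eq_zero {Ω : Type*} [Fintype Ω] [DecidableEq Ω] {p : ℕ}
    {M : Ideal AlgInt} (hM : IsPModular p M) (σ : Equiv.Perm Ω) (L : Matrix Ω Ω ℂ)
    (hL : L * L = L) (hR : ∀ i j, MemLocalRing M (L i j))
    (hcomm : ∀ i j, L (σ i) (σ j) = L i j)
    (hstab : ∀ (a : Ω) (k : ℤ), (σ ^ k) a = a → (p : ℤ) ∣ k) :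
    ∑ i, L (σ i) i = 0 := by
  have hp : p.Prime := hM.1
  have hMp : M.IsPrime := hM.2.1.isPrime
  obtain ⟨ζ, hζ⟩ : ∃ ζ : ℂ, IsPrimitiveRoot ζ p := ⟨_, Complex.isPrimitiveRoot_exp p hp.ne_zero⟩
  have hζ0 : ζ ≠ 0 := hζ.ne_zero hp.ne_zero
  have hζ1 : ζ ≠ 1 := hζ.ne_one hp.one_lt
  have hζp : ζ ^ p = 1 := hζ.pow_eq_one
  have hst : ∀ (a : Ω) (k : ℤ), (σ ^ k) a = a → ζ ^ k = 1 := by
    intro a k hk
    obtain ⟨j, rfl⟩ := hstab a k hk
    rw [zpow_mul, zpow_natCast, hζp, one_zpow]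
  obtain ⟨τ, hτk, hτ⟩ := exists_twist' σ ζ hζ0 hst
  have hτ0 : ∀ g, τ g ≠ 0 := by
    intro g
    obtain ⟨k, hk⟩ := hτk g
    rw [hk]
    exact zpow_ne_zero _ hζ0
  have hτJ : ∀ g h, MemLocalIdeal M (τ g * (τ h)⁻¹ - 1) := by
    intro g h
    obtain ⟨k, hk⟩ := hτk g
    obtain ⟨k', hk'⟩ := hτk h
    apply MemIdeal.memLocalIdeal hMp.ne_top
    apply memIdeal_sub_one_of_pow hM (j := 1)
    rw [hk, hk', pow_one, ← zpow_neg, ← zpow_add₀ hζ0, ← zpow_natCast, ← zpow_mul, mul_comm,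
      zpow_mul, zpow_natCast, hζp, one_zpow]
  have hτs : ∀ g, τ (σ.symm g) = ζ⁻¹ * τ g := by
    intro g
    have := hτ (σ.symm g)
    rw [Equiv.apply_symm_apply] at this
    rw [this, inv_mul_cancel_left₀ hζ0]
  have hcomm' : ∀ i j, L (σ i) j = L i (σ.symm j) := by
    intro i j
    have := hcomm i (σ.symm j)
    rwa [Equiv.apply_symm_apply] at this
  have key : ∀ i j, ∑ k, L i k * L k j = L i j := by
    intro i j
    rw [← Matrix.mul_apply, hL]
  obtain ⟨L', hL'def⟩ : ∃ L' : Matrix Ω Ω ℂ,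
    L' = Matrix.of fun g h => τ g * L g h * (τ h)⁻¹ := ⟨_, rfl⟩
  obtain ⟨P, hPdef⟩ : ∃ P : Matrix Ω Ω ℂ, P = σ.toPEquiv.toMatrix := ⟨_, rfl⟩
  have hL'a : ∀ g h, L' g h = τ g * L g h * (τ h)⁻¹ := fun g h => by rw [hL'def]; rfl
  have hL' : L' * L' = L' := by
    ext g h
    rw [Matrix.mul_apply]
    simp only [hL'a]
    rw [← key g h, Finset.mul_sum, Finset.sum_mul]
    refine Finset.sum_congr rfl (fun k _ => ?_)
    have := hτ0 k
    field_simp
  have hPL : P * L = L * P := by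
    rw [hPdef, PEquiv.toMatrix_toPEquiv_mul, PEquiv.mul_toMatrix_toPEquiv]
    ext g h
    simp only [Matrix.submatrix_apply, id_eq]
    exact hcomm' g h
  have hPL' : P * L' = L' * P := by
    rw [hPdef, PEquiv.toMatrix_toPEquiv_mul, PEquiv.mul_toMatrix_toPEquiv]
    ext g h
    simp only [Matrix.submatrix_apply, id_eq, hL'a]
    rw [hcomm' g h, hτs, hτ]
    have := hτ0 h
    field_simp
  have htr : (P * L).trace = ∑ g, L (σ g) g := by
    rw [hPdef, PEquiv.toMatrix_toPEquiv_mul, Matrix.trace]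
    refine Finset.sum_congr rfl (fun g _ => ?_)
    simp only [Matrix.diag_apply, Matrix.submatrix_apply, id_eq]
  have htr' : (P * L').trace = ζ * ∑ g, L (σ g) g := by
    rw [hPdef, PEquiv.toMatrix_toPEquiv_mul, Matrix.trace, Finset.mul_sum]
    refine Finset.sum_congr rfl (fun g _ => ?_)
    simp only [Matrix.diag_apply, Matrix.submatrix_apply, id_eq, hL'a]
    rw [hτ]
    have := hτ0 g
    field_simp
  have hE : ∀ i j, MemLocalIdeal M (L' i j - L i j) := by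
    intro g h
    rw [hL'a]
    have : τ g * L g h * (τ h)⁻¹ - L g h = L g h * (τ g * (τ h)⁻¹ - 1) := by ring
    rw [this]
    exact memLocalIdeal_mul_left (hR _ _) (hτJ g h)
  have hfin := trace_eq_of_idempotents_congr (M := M) L L' P hL hL' hPL hPL' hR hE
  rw [htr, htr'] at hfin
  have h9 : (ζ - 1) * ∑ g, L (σ g) g = 0 := by linear_combination hfin
  rcases mul_eq_zero.mp h9 with h | h
  · exact absurd (sub_eq_zero.mp h) hζ1
  · exact h

end GeneralTrick

section Inverse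

theorem prod_sub_const_decomp {A : Type*} [CommRing A] (S : Subring A) {w : A} (hw : w ∈ S)
    {ι : Type*} (s : Finset ι) (c : ι → A) (hc : ∀ i ∈ s, c i ∈ S) :
    ∃ U ∈ S, ∏ i ∈ s, (w - c i) = ∏ i ∈ s, (-c i) + w * U := by
  classical
  induction s using Finset.induction_on with
  | empty => exact ⟨0, S.zero_mem, by simp⟩
  | insert a s ha ih =>
    obtain ⟨U, hU, hdec⟩ := ih (fun i hi => hc i (Finset.mem_insert_of_mem hi))
    have hca : c a ∈ S := hc a (Finset.mem_insert_self a s)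
    have hprod : ∏ i ∈ s, (-c i) ∈ S :=
      Subring.prod_mem S (fun i hi => S.neg_mem (hc i (Finset.mem_insert_of_mem hi)))
    refine ⟨∏ i ∈ s, (-c i) + (w - c a) * U,
      S.add_mem hprod (S.mul_mem (S.sub_mem hw hca) hU), ?_⟩
    rw [Finset.prod_insert ha, Finset.prod_insert ha, hdec]
    ring

variable {G : Type u} [Group G] [Fintype G]

/-- the inverse, inside the block, of a class sum whose central character values are units -/
theorem exists_block_inverse {M : Ideal AlgInt} [hMp : M.IsPrime] (χ₀ : IrrCharacter G) (g₀ : G)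
    (hω : ∀ χ ∈ blockOf M (χ₀ : G → ℂ), ¬ MemLocalIdeal M (centralChar (χ : G → ℂ) g₀)) :
    ∃ v : G → ℂ, IsClassFunction G v ∧ (∀ g, MemLocalRing M (v g)) ∧
      cconv (blockCoeff (blockOf M (χ₀ : G → ℂ))) v = v ∧
      cconv v (classInd g₀) = blockCoeff (blockOf M (χ₀ : G → ℂ)) := by
  classical
  have := Fintype.ofFinite (IrrCharacter G)
  have hMtop : M ≠ ⊤ := hMp.ne_top
  obtain ⟨B, hB⟩ : ∃ B : Set (IrrCharacter G), B = blockOf M (χ₀ : G → ℂ) := ⟨_, rfl⟩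
  rw [← hB] at hω ⊢
  obtain ⟨hcf, hl, ho, hidem⟩ := blockCoeff_props (M := M) χ₀
  rw [← hB] at hcf hl ho hidem
  obtain ⟨e, he⟩ : ∃ e : IrrCharacter G → ℂ, e = fun χ => if χ ∈ B then (1 : ℂ) else 0 :=
    ⟨_, rfl⟩
  have heS : e ∈ goodSubring G M := by
    rw [he, hB]
    exact blockIndicator_mem_goodSubring χ₀
  obtain ⟨w, hw⟩ : ∃ w : IrrCharacter G → ℂ, w = fun χ : IrrCharacter G => centralChar (χ : G → ℂ) g₀ :=
    ⟨_, rfl⟩
  have hwS : w ∈ goodSubring G M := by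
    rw [hw]
    exact centralChar_mem_goodSubring g₀
  obtain ⟨Bf, hBf⟩ : ∃ Bf : Finset (IrrCharacter G), Bf = Finset.univ.filter (fun ψ => ψ ∈ B) :=
    ⟨_, rfl⟩
  obtain ⟨c, hc⟩ : ∃ c : IrrCharacter G → IrrCharacter G → ℂ,
      c = fun (ψ : IrrCharacter G) (_ : IrrCharacter G) => centralChar (ψ : G → ℂ) g₀ := ⟨_, rfl⟩
  have hcS : ∀ ψ ∈ Bf, c ψ ∈ goodSubring G M := by
    intro ψ _
    rw [hc]
    exact const_mem_goodSubring (centralChar_memLocalRing hMtop ψ g₀)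
  obtain ⟨U, hU, hdec⟩ := prod_sub_const_decomp (goodSubring G M) hwS Bf c hcS
  obtain ⟨c₀, hc₀⟩ : ∃ c₀ : ℂ, c₀ = ∏ ψ ∈ Bf, (-centralChar (ψ : G → ℂ) g₀) := ⟨_, rfl⟩
  have hc₀R : MemLocalRing M c₀ := by
    rw [hc₀]
    exact memLocalRing_prod _ _ (fun ψ _ => memLocalRing_neg (centralChar_memLocalRing hMtop ψ g₀))
  have hc₀J : ¬ MemLocalIdeal M c₀ := by
    rw [hc₀]
    apply not_memLocalIdeal_prod
    · exact fun ψ _ => memLocalRing_neg (centralChar_memLocalRing hMtop ψ g₀)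
    · intro ψ hψ h
      rw [hBf, Finset.mem_filter] at hψ
      apply hω ψ hψ.2
      have := memLocalIdeal_neg h
      rwa [neg_neg] at this
  have hc₀ne : c₀ ≠ 0 := by
    intro h0
    rw [h0] at hc₀J
    exact hc₀J (memLocalIdeal_zero hMtop)
  obtain ⟨f, hf⟩ : ∃ f : IrrCharacter G → ℂ, f = (fun _ => -c₀⁻¹) * U * e := ⟨_, rfl⟩
  have hfS : f ∈ goodSubring G M := by
    rw [hf]
    exact (goodSubring G M).mul_mem ((goodSubring G M).mul_mem
      (const_mem_goodSubring (memLocalRing_neg (memLocalRing_inv hc₀R hc₀J))) hU) heS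
  have hfe : ∀ χ, e χ * f χ = f χ := by
    intro χ
    rw [hf, he]
    simp only [Pi.mul_apply]
    by_cases hχ : χ ∈ B
    · rw [if_pos hχ]; ring
    · rw [if_neg hχ]; ring
  have hwf : ∀ χ, f χ * w χ = e χ := by
    intro χ
    by_cases hχ : χ ∈ B
    · have h1 := congrFun hdec χ
      rw [Finset.prod_apply, Pi.add_apply, Finset.prod_apply, Pi.mul_apply] at h1
      have h2 : ∏ ψ ∈ Bf, (w - c ψ) χ = 0 := by
        apply Finset.prod_eq_zero (i := χ)
        · rw [hBf, Finset.mem_filter]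
          exact ⟨Finset.mem_univ _, hχ⟩
        · rw [Pi.sub_apply, hw, hc]
          exact sub_self _
      have h3 : ∏ ψ ∈ Bf, (-c ψ) χ = c₀ := by
        rw [hc₀, hc]
        rfl
      rw [h2, h3] at h1
      rw [hf, he]
      simp only [Pi.mul_apply]
      rw [if_pos hχ]
      field_simp
      linear_combination h1
    · rw [hf, he]
      simp only [Pi.mul_apply]
      rw [if_neg hχ]
      ring
  obtain ⟨v, hv_cf, hv_loc, hv_ω⟩ := hfS
  refine ⟨v, hv_cf, hv_loc, ?_, ?_⟩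
  · apply classFunction_ext_omega (cconv_isClassFunction hcf hv_cf) hv_cf
    intro χ
    rw [omegaFn_cconv χ.2 _ hv_cf, ho χ, hv_ω χ]
    have := hfe χ
    rw [he] at this
    exact this
  · apply classFunction_ext_omega (cconv_isClassFunction hv_cf (classInd_isClassFunction g₀)) hcf
    intro χ
    rw [omegaFn_cconv χ.2 _ (classInd_isClassFunction g₀), hv_ω χ,
      omegaFn_classInd (irr_isCharacter χ.2), ho χ]
    have := hwf χ
    rw [he, hw] at this
    exact this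

end Inverse

section DefectTrace

variable {G : Type u} [Group G]

/-- conjugation by `h` on the conjugacy class of `g₀` -/
def conjOnClass (g₀ h : G) : Equiv.Perm {m : G // IsConj g₀ m} where
  toFun m := ⟨h * m.1 * h⁻¹, m.2.trans (isConj_iff.2 ⟨h, rfl⟩)⟩
  invFun m := ⟨h⁻¹ * m.1 * h, m.2.trans (isConj_iff.2 ⟨h⁻¹, by simp⟩)⟩
  left_inv m := by
    apply Subtype.ext
    show h⁻¹ * (h * m.1 * h⁻¹) * h = m.1
    group
  right_inv m := by
    apply Subtype.ext
    show h * (h⁻¹ * m.1 * h) * h⁻¹ = m.1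
    group

/-- if a power (prime to `p`) of the pair `(g, h)` fixes a point of `G × K`, then the `p`-part of
`g` centralizes a conjugate of `g₀` -/
theorem ppart_commute_conj_of_fix {p : ℕ} (hp : p.Prime) {g x : G} (hgx : IsPPart p g x)
    (g₀ k m h : G) (i : ℤ) (hpi : ¬ (p : ℤ) ∣ i) (hm : IsConj g₀ m)
    (h1 : g ^ i * k * (h⁻¹) ^ i = k) (h2 : h ^ i * m * (h⁻¹) ^ i = m) :
    ∃ t : G, Commute x (t * g₀ * t⁻¹) := by
  obtain ⟨r, hr⟩ := isConj_iff.1 hm
  obtain ⟨y₁, hg, hc1, ⟨k1, hk1⟩, hy1⟩ := hgx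
  have hgi : g ^ i = k * h ^ i * k⁻¹ := by
    have : g ^ i * k = k * h ^ i := by
      calc g ^ i * k = g ^ i * k * (h⁻¹) ^ i * h ^ i := by rw [inv_zpow, inv_mul_cancel_right]
        _ = k * h ^ i := by rw [h1]
    rw [← this, mul_inv_cancel_right]
  have hhm : h ^ i * m = m * h ^ i := by
    calc h ^ i * m = h ^ i * m * (h⁻¹) ^ i * h ^ i := by rw [inv_zpow, inv_mul_cancel_right]
      _ = m * h ^ i := by rw [h2]
  refine ⟨k * r, ?_⟩
  have hconj : k * r * g₀ * (k * r)⁻¹ = k * m * k⁻¹ := by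
    rw [← hr]
    group
  rw [hconj]
  have hcg : Commute (g ^ i) (k * m * k⁻¹) := by
    show g ^ i * (k * m * k⁻¹) = k * m * k⁻¹ * g ^ i
    rw [hgi]
    have e1 : k * h ^ i * k⁻¹ * (k * m * k⁻¹) = k * (h ^ i * m) * k⁻¹ := by group
    have e2 : k * m * k⁻¹ * (k * h ^ i * k⁻¹) = k * (m * h ^ i) * k⁻¹ := by group
    rw [e1, e2, hhm]
  have hy : y₁ ^ (i * (orderOf y₁ : ℤ)) = 1 := by
    rw [mul_comm, zpow_mul, zpow_natCast, pow_orderOf_eq_one, one_zpow]
  have hx1 : x ^ (i * (orderOf y₁ : ℤ)) = (g ^ i) ^ (orderOf y₁ : ℤ) := by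
    rw [← zpow_mul, ← hg, hc1.mul_zpow, hy, mul_one]
  have hcx : Commute (x ^ (i * (orderOf y₁ : ℤ))) (k * m * k⁻¹) := by
    rw [hx1]
    exact hcg.zpow_left _
  have hpZ : Prime (p : ℤ) := Nat.prime_iff_prime_int.mp hp
  have hne : ¬ (p : ℤ) ∣ i * (orderOf y₁ : ℤ) := by
    intro hd
    rcases hpZ.dvd_or_dvd hd with h3 | h3
    · exact hpi h3
    · exact hy1 (Int.natCast_dvd_natCast.mp h3)
  have hcop : IsCoprime (i * (orderOf y₁ : ℤ)) ((p : ℤ) ^ k1) :=
    ((hpZ.coprime_iff_not_dvd.mpr hne).symm).pow_right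
  obtain ⟨a, b, hab⟩ := hcop
  have hxp : x ^ ((p : ℤ) ^ k1) = 1 := by
    have : ((p : ℤ) ^ k1) = ((p ^ k1 : ℕ) : ℤ) := by push_cast; rfl
    rw [this, zpow_natCast, ← hk1, pow_orderOf_eq_one]
  have hxa : x = (x ^ (i * (orderOf y₁ : ℤ))) ^ a := by
    have h5 : x ^ (a * (i * (orderOf y₁ : ℤ))) * x ^ (b * (p : ℤ) ^ k1) = x := by
      rw [← zpow_add, hab, zpow_one]
    have e1 : x ^ (a * (i * (orderOf y₁ : ℤ))) = (x ^ (i * (orderOf y₁ : ℤ))) ^ a := by
      rw [mul_comm, zpow_mul]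
    have e2 : x ^ (b * (p : ℤ) ^ k1) = 1 := by rw [mul_comm, zpow_mul, hxp, one_zpow]
    rw [e1, e2, mul_one] at h5
    exact h5.symm
  rw [hxa]
  exact hcx.zpow_left _

variable [Fintype G]

theorem classInd_conj (g t : G) : classInd (t * g * t⁻¹) = classInd g := by
  classical
  funext x
  unfold classInd
  have h1 : IsConj g (t * g * t⁻¹) := isConj_iff.2 ⟨t, rfl⟩
  have : IsConj (t * g * t⁻¹) x ↔ IsConj g x :=
    ⟨fun h => h1.trans h, fun h => h1.symm.trans h⟩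
  simp only [this]

theorem centralChar_conj {χ : G → ℂ} (hχ : IsCharacter G χ) (g t : G) :
    centralChar χ (t * g * t⁻¹) = centralChar χ g := by
  rw [← omegaFn_classInd hχ, ← omegaFn_classInd hχ, classInd_conj]

theorem isDefectClass_conj {M : Ideal AlgInt} {B : Set (IrrCharacter G)} {g₀ : G}
    (h : IsDefectClass M B g₀) (t : G) : IsDefectClass M B (t * g₀ * t⁻¹) := by
  obtain ⟨h1, h2, h3⟩ := h
  have e : blockCoeff B (t * g₀ * t⁻¹) = blockCoeff B g₀ := blockCoeff_isClassFunction B g₀ t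
  refine ⟨by rw [e]; exact h1, by rw [e]; exact h2, ?_⟩
  intro χ hχ
  rw [centralChar_conj (irr_isCharacter χ.2)]
  exact h3 χ hχ

open Classical in
/-- the two-sided trace of a block idempotent vanishes when no power prime to `p` of the pair
`(g, h)` fixes a point of `G × K`, `K` the class of an element `g₀` at which the central characters
of the block are units -/
theorem block_twotrace_eq_zero {p : ℕ} {M : Ideal AlgInt} (hM : IsPModular p M)
    (χ₀ : IrrCharacter G) (g₀ : G)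
    (hω : ∀ χ ∈ blockOf M (χ₀ : G → ℂ), ¬ MemLocalIdeal M (centralChar (χ : G → ℂ) g₀))
    (g h : G)
    (hst : ∀ (k m : G) (i : ℤ), IsConj g₀ m → g ^ i * k * (h⁻¹) ^ i = k →
      h ^ i * m * (h⁻¹) ^ i = m → (p : ℤ) ∣ i) :
    ∑ k : G, blockCoeff (blockOf M (χ₀ : G → ℂ)) (h⁻¹ * k * g * k⁻¹) = 0 := by
  have hMp : M.IsPrime := hM.2.1.isPrime
  obtain ⟨v, hvcf, hvloc, hv1, hv2⟩ := exists_block_inverse (M := M) χ₀ g₀ hω
  obtain ⟨aB, ha⟩ : ∃ aB : G → ℂ, aB = blockCoeff (blockOf M (χ₀ : G → ℂ)) := ⟨_, rfl⟩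
  rw [← ha] at hv1 hv2 ⊢
  -- sums over the class
  have hsumK : ∀ y : G, ∑ m : {m : G // IsConj g₀ m}, v (y * (m : G)⁻¹) = aB y := by
    intro y
    rw [← hv2]
    unfold cconv classInd
    have e1 : ∑ x : G, v x * (if IsConj g₀ (x⁻¹ * y) then (1 : ℂ) else 0) =
        ∑ m : G, if IsConj g₀ m then v (y * m⁻¹) else 0 := by
      apply Fintype.sum_equiv ((Equiv.inv G).trans (Equiv.mulRight y))
      intro x
      simp only [Equiv.trans_apply, Equiv.inv_apply, Equiv.coe_mulRight]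
      have : y * (x⁻¹ * y)⁻¹ = x := by group
      rw [this]
      split_ifs <;> simp
    rw [e1, ← Finset.sum_filter]
    exact (Finset.sum_subtype (Finset.univ.filter (fun m : G => IsConj g₀ m))
      (fun m => by simp) (fun m => v (y * m⁻¹))).symm
  obtain ⟨σ, hσ⟩ : ∃ σ : Equiv.Perm (G × {m : G // IsConj g₀ m}),
    σ = Equiv.prodCongr (twoSided g h) (conjOnClass g₀ h) := ⟨_, rfl⟩
  have hσ1 : ∀ a, (σ a).1 = g * a.1 * h⁻¹ := fun a => by rw [hσ]; rfl
  have hσ2 : ∀ a, ((σ a).2 : G) = h * (a.2 : G) * h⁻¹ := fun a => by rw [hσ]; rfl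
  obtain ⟨L, hLdef⟩ : ∃ L : Matrix (G × {m : G // IsConj g₀ m}) (G × {m : G // IsConj g₀ m}) ℂ,
    L = Matrix.of fun a b => v (b.1⁻¹ * a.1 * (a.2 : G)⁻¹) := ⟨_, rfl⟩
  have hLa : ∀ a b, L a b = v (b.1⁻¹ * a.1 * (a.2 : G)⁻¹) := fun a b => by rw [hLdef]; rfl
  have hL : L * L = L := by
    ext a b
    rw [Matrix.mul_apply, Fintype.sum_prod_type]
    simp only [hLa]
    have e1 : ∀ k : G, ∑ m : {m : G // IsConj g₀ m},
        v (k⁻¹ * a.1 * (a.2 : G)⁻¹) * v (b.1⁻¹ * k * (m : G)⁻¹) =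
        v (k⁻¹ * a.1 * (a.2 : G)⁻¹) * aB (b.1⁻¹ * k) := by
      intro k
      rw [← Finset.mul_sum, hsumK]
    rw [Finset.sum_congr rfl (fun k _ => e1 k)]
    have e2 : ∑ k : G, v (k⁻¹ * a.1 * (a.2 : G)⁻¹) * aB (b.1⁻¹ * k) =
        cconv aB v (b.1⁻¹ * a.1 * (a.2 : G)⁻¹) := by
      unfold cconv
      apply Fintype.sum_equiv (Equiv.mulLeft b.1⁻¹)
      intro k
      simp only [Equiv.coe_mulLeft]
      have : (b.1⁻¹ * k)⁻¹ * (b.1⁻¹ * a.1 * (a.2 : G)⁻¹) = k⁻¹ * a.1 * (a.2 : G)⁻¹ := by group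
      rw [this, mul_comm]
    rw [e2, hv1]
  have hcomm : ∀ a b, L (σ a) (σ b) = L a b := by
    intro a b
    rw [hLa, hLa, hσ1, hσ1, hσ2]
    have : (g * b.1 * h⁻¹)⁻¹ * (g * a.1 * h⁻¹) * (h * (a.2 : G) * h⁻¹)⁻¹ =
        h * (b.1⁻¹ * a.1 * (a.2 : G)⁻¹) * h⁻¹ := by group
    rw [this, hvcf]
  have hstab : ∀ (a : G × {m : G // IsConj g₀ m}) (i : ℤ), (σ ^ i) a = a → (p : ℤ) ∣ i := by
    intro a i hi
    have h1 := semiconj_zpow σ (twoSided g h) Prod.fst (fun a => by rw [hσ]; rfl) i a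
    have h2 := semiconj_zpow σ (twoSided h h) (fun a => (a.2 : G)) (fun a => by rw [hσ]; rfl) i a
    rw [hi, twoSided_zpow_apply] at h1
    rw [hi, twoSided_zpow_apply] at h2
    exact hst a.1 a.2.1 i a.2.2 h1.symm h2.symm
  have hR : ∀ a b, MemLocalRing M (L a b) := fun a b => by rw [hLa]; exact hvloc _
  have htr := trace_perm_idempotent_eq_zero hM σ L hL hR hcomm hstab
  rw [Fintype.sum_prod_type] at htr
  have e3 : ∀ k : G, ∑ m : {m : G // IsConj g₀ m}, L (σ (k, m)) (k, m) =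
      aB (h⁻¹ * k⁻¹ * g * k) := by
    intro k
    rw [← hsumK]
    refine Finset.sum_congr rfl (fun m _ => ?_)
    rw [hLa, hσ1, hσ2]
    have : k⁻¹ * (g * k * h⁻¹) * (h * (m : G) * h⁻¹)⁻¹ =
        h * (h⁻¹ * k⁻¹ * g * k * (m : G)⁻¹) * h⁻¹ := by group
    show v (k⁻¹ * (g * k * h⁻¹) * (h * (m : G) * h⁻¹)⁻¹) = _
    rw [this, hvcf]
  rw [Finset.sum_congr rfl (fun k _ => e3 k)] at htr
  rw [← htr]
  apply Fintype.sum_equiv (Equiv.inv G)
  intro k
  simp only [Equiv.inv_apply, inv_inv]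

/-- **Green's vanishing theorem for blocks**: a character vanishes at the elements whose `p`-part
lies in no defect group of its block -/
theorem char_vanish_of_ppart_not_in_defect (p : ℕ) [Fact p.Prime] (M : Ideal AlgInt)
    (hM : IsPModular p M) (χ : IrrCharacter G) (g x : G) (hx : IsPPart p g x)
    (hD : ∀ D : Subgroup G, IsDefectGroup p M (blockOf M (χ : G → ℂ)) D → x ∉ D) :
    (χ : G → ℂ) g = 0 := by
  classical
  have := Fintype.ofFinite (IrrCharacter G)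
  have hp : p.Prime := Fact.out
  have hMp : M.IsPrime := hM.2.1.isPrime
  obtain ⟨B, hB⟩ : ∃ B : Set (IrrCharacter G), B = blockOf M (χ : G → ℂ) := ⟨_, rfl⟩
  obtain ⟨g₀, hdef⟩ := exists_defectClass p M hM (blockOf M (χ : G → ℂ)) ⟨χ, rfl⟩
  -- no conjugate of `g₀` commutes with `x`
  have hnocomm : ∀ t : G, ¬ Commute x (t * g₀ * t⁻¹) := by
    intro t hc
    have hdef' := isDefectClass_conj hdef t
    obtain ⟨y₁, -, -, ⟨k1, hk1⟩, -⟩ := hx
    have hxC : x ∈ Subgroup.centralizer ({t * g₀ * t⁻¹} : Set G) := by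
      rw [Subgroup.mem_centralizer_iff]
      intro z hz
      rw [Set.mem_singleton_iff] at hz
      rw [hz]
      exact hc.eq.symm
    obtain ⟨x', hx'⟩ : ∃ x' : Subgroup.centralizer ({t * g₀ * t⁻¹} : Set G), (x' : G) = x :=
      ⟨⟨x, hxC⟩, rfl⟩
    have hpg : IsPGroup p (Subgroup.zpowers x') := by
      apply IsPGroup.of_card (n := k1)
      rw [Nat.card_zpowers, ← Subgroup.orderOf_coe, hx', hk1]
    obtain ⟨Q, hQ⟩ := hpg.exists_le_sylow
    apply hD ((Q : Subgroup (Subgroup.centralizer ({t * g₀ * t⁻¹} : Set G))).map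
      (Subgroup.centralizer ({t * g₀ * t⁻¹} : Set G)).subtype) ⟨t * g₀ * t⁻¹, hdef', Q, rfl⟩
    exact ⟨x', hQ (Subgroup.mem_zpowers x'), hx'⟩
  -- the two-sided traces vanish
  have hzero : ∀ h : G, ∑ ψ ∈ Finset.univ.filter (fun ψ : IrrCharacter G => ψ ∈ blockOf M (χ : G → ℂ)),
      (ψ : G → ℂ) g⁻¹ * conj ((ψ : G → ℂ) h⁻¹) = 0 := by
    intro h
    have h1 := block_twotrace_eq_zero hM χ g₀ hdef.2.2 g h (by
      intro k m i hm hk hmi
      by_contra hpi
      obtain ⟨t, ht⟩ := ppart_commute_conj_of_fix hp hx g₀ k m h i hpi hm hk hmi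
      exact hnocomm t ht)
    have h2 := blockCoeff_conj_sum (blockOf M (χ : G → ℂ)) h⁻¹ g⁻¹
    rw [← h2, ← h1]
    refine Finset.sum_congr rfl (fun k _ => ?_)
    rw [inv_inv]
  -- linear independence
  have hsum : ∑ h : G, (∑ ψ ∈ Finset.univ.filter (fun ψ : IrrCharacter G =>
      ψ ∈ blockOf M (χ : G → ℂ)), (ψ : G → ℂ) g⁻¹ * conj ((ψ : G → ℂ) h⁻¹)) * (χ : G → ℂ) h⁻¹ =
      (Nat.card G : ℂ) * (χ : G → ℂ) g⁻¹ := by
    simp only [Finset.sum_mul]
    rw [Finset.sum_comm]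
    have hG : (Nat.card G : ℂ) ≠ 0 := by exact_mod_cast Nat.card_pos.ne'
    have e1 : ∀ ψ : IrrCharacter G, ∑ h : G, (ψ : G → ℂ) g⁻¹ * conj ((ψ : G → ℂ) h⁻¹) *
        (χ : G → ℂ) h⁻¹ = (ψ : G → ℂ) g⁻¹ * ((Nat.card G : ℂ) *
          classInner (χ : G → ℂ) (ψ : G → ℂ)) := by
      intro ψ
      unfold classInner
      rw [← mul_assoc (Nat.card G : ℂ), mul_inv_cancel₀ hG, one_mul, Finset.mul_sum]
      apply Fintype.sum_equiv (Equiv.inv G)
      intro h
      simp only [Equiv.inv_apply]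
      ring
    rw [Finset.sum_congr rfl (fun ψ _ => e1 ψ)]
    rw [Finset.sum_eq_single χ]
    · rw [irr_classInner_self χ.2, mul_one, mul_comm]
    · intro ψ _ hne
      have : (χ : G → ℂ) ≠ (ψ : G → ℂ) := fun h => hne (Subtype.ext h.symm)
      rw [irr_classInner_ne χ.2 ψ.2 this, mul_zero, mul_zero]
    · intro hχ
      exfalso
      apply hχ
      rw [Finset.mem_filter]
      exact ⟨Finset.mem_univ _, sameBlock_refl M hMp.ne_top _⟩
  rw [Finset.sum_congr rfl (fun h _ => by rw [hzero h, zero_mul]), Finset.sum_const_zero] at hsum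
  have hG : (Nat.card G : ℂ) ≠ 0 := by exact_mod_cast Nat.card_pos.ne'
  have h3 : (χ : G → ℂ) g⁻¹ = 0 := by
    rcases mul_eq_zero.mp hsum.symm with h | h
    · exact absurd h hG
    · exact h
  rw [char_inv (irr_isCharacter χ.2)] at h3
  exact (map_eq_zero _).mp h3

end DefectTrace

end Cfsg.Agent.helper24
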