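import Mathlib
import Cfsg.Agent.Lib_helper24_DefectTrace

set_option autoImplicit false

namespace Cfsg.Agent.helper24

open Cfsg

section AbsTrace

variable {I : Type*} [Fintype I] [DecidableEq I]

/-- invariance of a product under a simultaneous permutation -/
theorem mul_perm_invariant (σ : Equiv.Perm I) (A B : Matrix I I ℂ)
    (hA : ∀ i j, A (σ i) (σ j) = A i j) (hB : ∀ i j, B (σ i) (σ j) = B i j) (i j : I) :
    (A * B) (σ i) (σ j) = (A * B) i j := by
  rw [Matrix.mul_apply, Matrix.mul_apply, ← Equiv.sum_comp σ]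
  exact Finset.sum_congr rfl (fun k _ => by rw [hA, hB])

/-- cyclicity of the twisted trace -/
theorem twisted_trace_comm (σ : Equiv.Perm I) (A B : Matrix I I ℂ)
    (hB : ∀ i j, B (σ i) (σ j) = B i j) :
    ∑ i, (B * A) (σ i) i = ∑ i, (A * B) (σ i) i := by
  simp only [Matrix.mul_apply]
  have h1 : ∀ i, ∑ k, B (σ i) k * A k i = ∑ k, B i k * A (σ k) i := by
    intro i
    rw [← Equiv.sum_comp σ]
    exact Finset.sum_congr rfl (fun k _ => by rw [hB])
  rw [Finset.sum_congr rfl (fun i _ => h1 i), Finset.sum_comm]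
  exact Finset.sum_congr rfl (fun k _ => Finset.sum_congr rfl (fun i _ => mul_comm _ _))

/-- **relative twisting argument**: `P` and `Q` idempotent matrices with `Q ≤ P`, invariant under a
permutation `σ` which preserves a subset `q`, such that `P` respects the decomposition by `q`,
`Q` has a left inverse relative to `P` on the `q` block, and the cycles of `σ` outside `q` have
length divisible by `p`: then the twisted trace of `P - Q` vanishes -/
theorem trace_diff_eq_zero {p : ℕ} {M : Ideal AlgInt} (hM : IsPModular p M)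
    (q : I → Prop) [DecidablePred q] (σ : Equiv.Perm I) (hσq : ∀ i, q (σ i) ↔ q i)
    (P Q W : Matrix I I ℂ)
    (hPP : P * P = P) (hQQ : Q * Q = Q) (hQP : Q * P = Q) (hPQ : P * Q = Q)
    (hPR : ∀ i j, MemLocalRing M (P i j)) (hQR : ∀ i j, MemLocalRing M (Q i j))
    (hWR : ∀ i j, MemLocalRing M (W i j))
    (hPσ : ∀ i j, P (σ i) (σ j) = P i j) (hQσ : ∀ i j, Q (σ i) (σ j) = Q i j)
    (hWσ : ∀ i j, W (σ i) (σ j) = W i j)
    (hP0' : ∀ i j, ¬ q i → q j → P i j = 0)
    (hW0 : ∀ i j, ¬ (q i ∧ q j) → W i j = 0)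
    (hWQ : ∀ i j, q i → q j → ∑ k, W i k * Q k j = P i j)
    (hstab : ∀ (a : I) (k : ℤ), ¬ q a → (σ ^ k) a = a → (p : ℤ) ∣ k) :
    ∑ i, (P - Q) (σ i) i = 0 := by
  have hMp : M.IsPrime := hM.2.1.isPrime
  have hWQ1 : ∀ k j, q j → (W * Q) k j = P k j := by
    intro k j hj
    rw [Matrix.mul_apply]
    by_cases hk : q k
    · exact hWQ k j hk hj
    · rw [hP0' k j hk hj]
      exact Finset.sum_eq_zero (fun l _ => by rw [hW0 k l (fun h => hk h.1), zero_mul])
  have hWQ0 : ∀ k j, ¬ q k → (W * Q) k j = 0 := by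
    intro k j hk
    rw [Matrix.mul_apply]
    exact Finset.sum_eq_zero (fun l _ => by rw [hW0 k l (fun h => hk h.1), zero_mul])
  have hWQW : W * Q * W = P * W := by
    ext i j
    rw [Matrix.mul_apply, Matrix.mul_apply]
    refine Finset.sum_congr rfl (fun k _ => ?_)
    by_cases hk : q k
    · rw [hWQ1 i k hk]
    · rw [hW0 k j (fun h => hk h.1), mul_zero, mul_zero]
  obtain ⟨N, hN⟩ : ∃ N : Matrix I I ℂ, N = Q * W * Q := ⟨_, rfl⟩
  obtain ⟨L, hL⟩ : ∃ L : Matrix I I ℂ, L = (P - Q) + N := ⟨_, rfl⟩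
  have hA1 : (P - Q) * (P - Q) = P - Q := by
    rw [mul_sub, sub_mul, sub_mul, hPP, hQP, hPQ, hQQ, sub_self, sub_zero]
  have hA2 : (P - Q) * N = 0 := by
    rw [hN]
    calc (P - Q) * (Q * W * Q) = ((P - Q) * Q) * (W * Q) := by simp only [mul_assoc]
      _ = 0 := by rw [sub_mul, hPQ, hQQ, sub_self, zero_mul]
  have hA3 : N * (P - Q) = 0 := by
    rw [hN]
    calc Q * W * Q * (P - Q) = Q * W * (Q * (P - Q)) := by simp only [mul_assoc]
      _ = 0 := by rw [mul_sub, hQP, hQQ, sub_self, mul_zero]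
  have hA4 : N * N = N := by
    rw [hN]
    calc Q * W * Q * (Q * W * Q) = Q * W * (Q * Q) * W * Q := by simp only [mul_assoc]
      _ = Q * (W * Q * W) * Q := by rw [hQQ]; simp only [mul_assoc]
      _ = Q * W * Q := by rw [hWQW, ← mul_assoc, hQP]
  have hLL : L * L = L := by
    rw [hL, mul_add, add_mul, add_mul, hA1, hA2, hA3, hA4, add_zero, zero_add]
  have hNcol : ∀ i j, q j → N i j = Q i j := by
    intro i j hj
    have h1 : ∑ k, Q i k * (W * Q) k j = ∑ k, Q i k * P k j :=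
      Finset.sum_congr rfl (fun k _ => by rw [hWQ1 k j hj])
    rw [hN, mul_assoc, Matrix.mul_apply, h1, ← Matrix.mul_apply, hQP]
  have hLcol : ∀ i j, q j → L i j = P i j := by
    intro i j hj
    rw [hL, Matrix.add_apply, Matrix.sub_apply, hNcol i j hj, sub_add_cancel]
  have hMulR : ∀ A B : Matrix I I ℂ, (∀ i j, MemLocalRing M (A i j)) →
      (∀ i j, MemLocalRing M (B i j)) → ∀ i j, MemLocalRing M ((A * B) i j) := by
    intro A B hA hB i j
    rw [Matrix.mul_apply]
    exact memLocalRing_sum _ _ (fun k _ => memLocalRing_mul (hA i k) (hB k j))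
  have hNR : ∀ i j, MemLocalRing M (N i j) := by
    rw [hN]
    exact hMulR _ _ (hMulR _ _ hQR hWR) hQR
  have hLR : ∀ i j, MemLocalRing M (L i j) := by
    intro i j
    rw [hL, Matrix.add_apply, Matrix.sub_apply]
    exact memLocalRing_add (memLocalRing_sub (hPR i j) (hQR i j)) (hNR i j)
  obtain ⟨τ, hτ⟩ : ∃ τ : Equiv.Perm {i : I // ¬ q i},
    τ = σ.subtypePerm (fun i => not_congr (hσq i)) := ⟨_, rfl⟩
  have hτv : ∀ a : {i : I // ¬ q i}, ((τ a : {i : I // ¬ q i}) : I) = σ (a : I) :=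
    fun a => by rw [hτ]; rfl
  obtain ⟨D, hD⟩ : ∃ D : Matrix {i : I // ¬ q i} {i : I // ¬ q i} ℂ,
    D = Matrix.of (fun (a b : {i : I // ¬ q i}) => L (a : I) (b : I)) := ⟨_, rfl⟩
  have hDa : ∀ a b, D a b = L (a : I) (b : I) := fun a b => by rw [hD]; rfl
  have hDD : D * D = D := by
    ext a b
    rw [Matrix.mul_apply, hDa]
    have h1 : L (a : I) (b : I) = (L * L) (a : I) (b : I) := by rw [hLL]
    rw [h1, Matrix.mul_apply,
      ← Fintype.sum_subtype_add_sum_subtype q (fun k => L (a : I) k * L k (b : I))]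
    have h2 : ∑ k : {x : I // q x}, L (a : I) (k : I) * L (k : I) (b : I) = 0 := by
      apply Finset.sum_eq_zero
      intro k _
      rw [hLcol (a : I) (k : I) k.2, hP0' (a : I) (k : I) a.2 k.2, zero_mul]
    rw [h2, zero_add]
    exact Finset.sum_congr rfl (fun k _ => by rw [hDa, hDa])
  have hDR : ∀ a b, MemLocalRing M (D a b) := fun a b => by rw [hDa]; exact hLR _ _
  have hLσ : ∀ i j, L (σ i) (σ j) = L i j := by
    intro i j
    rw [hL, Matrix.add_apply, Matrix.add_apply, Matrix.sub_apply, Matrix.sub_apply, hPσ, hQσ, hN,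
      mul_perm_invariant σ _ _ (mul_perm_invariant σ _ _ hQσ hWσ) hQσ]
  have hDσ : ∀ a b, D (τ a) (τ b) = D a b := by
    intro a b
    rw [hDa, hDa, hτv, hτv, hLσ]
  have hDstab : ∀ (a : {i : I // ¬ q i}) (k : ℤ), (τ ^ k) a = a → (p : ℤ) ∣ k := by
    intro a k hk
    have h1 := semiconj_zpow τ σ (fun a => (a : I)) hτv k a
    rw [hk] at h1
    exact hstab (a : I) k a.2 h1.symm
  have htr := trace_perm_idempotent_eq_zero hM τ D hDD hDR hDσ hDstab
  have htr' : ∑ a : {i : I // ¬ q i}, L (σ (a : I)) (a : I) = 0 := by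
    rw [← htr]
    exact Finset.sum_congr rfl (fun a _ => by rw [hDa, hτv])
  have hsumL : ∑ i, L (σ i) i = ∑ i : {x : I // q x}, P (σ (i : I)) (i : I) := by
    rw [← Fintype.sum_subtype_add_sum_subtype q (fun i => L (σ i) i), htr', add_zero]
    exact Finset.sum_congr rfl (fun i _ => hLcol _ _ i.2)
  have hsumN : ∑ i, N (σ i) i = ∑ i : {x : I // q x}, P (σ (i : I)) (i : I) := by
    have h1 : N = Q * (W * Q) := by rw [hN, mul_assoc]
    rw [h1, twisted_trace_comm σ (W * Q) Q hQσ, mul_assoc, hQQ,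
      ← Fintype.sum_subtype_add_sum_subtype q (fun i => (W * Q) (σ i) i)]
    have h2 : ∑ i : {x : I // ¬ q x}, (W * Q) (σ (i : I)) (i : I) = 0 :=
      Finset.sum_eq_zero (fun i _ => hWQ0 _ _ (fun h => i.2 ((hσq _).1 h)))
    rw [h2, add_zero]
    exact Finset.sum_congr rfl (fun i _ => hWQ1 _ _ i.2)
  have hfinal : ∀ i, (P - Q) (σ i) i = L (σ i) i - N (σ i) i := by
    intro i
    rw [hL, Matrix.add_apply, add_sub_cancel_right]
  rw [Finset.sum_congr rfl (fun i _ => hfinal i), Finset.sum_sub_distrib, hsumL, hsumN, sub_self]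

end AbsTrace

end Cfsg.Agent.helper24
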