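import Mathlib
import Cfsg.Agent.Lib_helper24_DefectTrace
import Cfsg.Agent.Lib_helper24_RBrauer
import Cfsg.Agent.Lib_helper24_HeightCut
import Cfsg.Agent.Lib_helper24_CharCentral

set_option autoImplicit false

namespace Cfsg.Agent.helper24

open Cfsg Cfsg.Agent.helper12
open scoped ComplexConjugate

universe u

section Integrality

theorem classInner_res_eq_indFun {G : Type u} [Group G] [Fintype G] (H : Subgroup G) [Fintype H]
    {f : G → ℂ} (hf : IsClassFunction G f) (θ : H → ℂ) :
    classInner (fun h : H => f h) θ = classInner f (indFun H θ) := by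
  rw [← classInner_conj_symm (indFun H θ) f, classInner_indFun_eq_restrict H θ f hf,
    classInner_conj_symm]

theorem isIntegral_conj {z : ℂ} (hz : IsIntegral ℤ z) : IsIntegral ℤ (conj z) :=
  map_isIntegral_int (starRingEnd ℂ) hz

/-- the value at `1` of an integral combination of characters vanishing on the `p`-singular elements
is divisible by the order of a Sylow `p`-subgroup -/
theorem isIntegral_div_of_vanish_psingular (p : ℕ) [Fact p.Prime] {C : Type u} [Group C]
    [Fintype C] {f : C → ℂ} (hf : IsRComb C f) (hvan : ∀ c : C, p ∣ orderOf c → f c = 0) :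
    IsIntegral ℤ (f 1 / ((p ^ (Nat.card C).factorization p : ℕ) : ℂ)) := by
  classical
  have hpp : p.Prime := Fact.out
  obtain ⟨P⟩ : Nonempty (Sylow p C) := inferInstance
  have := Fintype.ofFinite (P : Subgroup C)
  have hPcard : Nat.card (P : Subgroup C) = p ^ (Nat.card C).factorization p :=
    P.card_eq_multiplicity
  have hone : IsCharacter (P : Subgroup C) (fun _ : (P : Subgroup C) => (1 : ℂ)) :=
    irr_isCharacter isIrrCharacter_one
  have h1 : IsIntegral ℤ (classInner (fun y : (P : Subgroup C) => f (y : C))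
      (fun _ => (1 : ℂ))) := by
    rw [classInner_res_eq_indFun (P : Subgroup C) hf.1]
    exact hf.inner_char (isCharacter_indFun (P : Subgroup C) hone)
  have h2 : classInner (fun y : (P : Subgroup C) => f (y : C)) (fun _ => (1 : ℂ)) =
      (Nat.card (P : Subgroup C) : ℂ)⁻¹ * f 1 := by
    unfold classInner
    congr 1
    rw [Finset.sum_eq_single (1 : (P : Subgroup C))]
    · simp
    · intro y _ hy
      have hy1 : p ∣ orderOf (y : C) := by
        obtain ⟨k, hk⟩ := (IsPGroup.iff_orderOf.1 P.2) y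
        rw [Subgroup.orderOf_coe, hk]
        have hk0 : k ≠ 0 := by
          intro h0
          rw [h0, pow_zero, orderOf_eq_one_iff] at hk
          exact hy hk
        exact dvd_pow_self p hk0
      have hz : f (y : C) = 0 := hvan _ hy1
      beta_reduce
      rw [hz, zero_mul]
    · intro h
      exact absurd (Finset.mem_univ _) h
  rw [h2, hPcard] at h1
  rw [div_eq_inv_mul]
  exact h1

theorem dvd_orderOf_mul_of_commute {G : Type*} [Group G] {p : ℕ} (hp : p.Prime) {c g : G}
    (hcg : Commute c g) (hg : ¬ p ∣ orderOf g) (hc : p ∣ orderOf c) : p ∣ orderOf (c * g) := by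
  by_contra hn
  have h1 : (c * g) ^ orderOf (c * g) = 1 := pow_orderOf_eq_one _
  rw [hcg.mul_pow] at h1
  have h2 : c ^ orderOf (c * g) = (g ^ orderOf (c * g))⁻¹ := eq_inv_of_mul_eq_one_left h1
  have h3 : c ^ (orderOf (c * g) * orderOf g) = 1 := by
    rw [pow_mul, h2, inv_pow, ← pow_mul, mul_comm, pow_mul, pow_orderOf_eq_one, one_pow, inv_one]
  have h4 : orderOf c ∣ orderOf (c * g) * orderOf g := orderOf_dvd_of_pow_eq_one h3
  rcases (Nat.Prime.dvd_mul hp).1 (hc.trans h4) with h5 | h5
  · exact hn h5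
  · exact hg h5

/-- the value at a `p`-regular element `g` of an integral combination of characters vanishing on
the `p`-singular elements is divisible by the `p`-part of `|C_G(g)|` -/
theorem isIntegral_value_div_centralizer (p : ℕ) [Fact p.Prime] {G : Type u} [Group G]
    [Fintype G] {η : G → ℂ} (hη : IsRComb G η) (hvan : ∀ y : G, p ∣ orderOf y → η y = 0)
    (g : G) (hg : ¬ p ∣ orderOf g) :
    IsIntegral ℤ (η g /
      ((p ^ (Nat.card (Subgroup.centralizer ({g} : Set G))).factorization p : ℕ) : ℂ)) := by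
  classical
  have hpp : p.Prime := Fact.out
  obtain ⟨C, hC⟩ : ∃ C : Subgroup G, C = Subgroup.centralizer ({g} : Set G) := ⟨_, rfl⟩
  rw [← hC]
  have := Fintype.ofFinite C
  have hcomm : ∀ c : C, (c : G) * g = g * (c : G) := by
    intro c
    have hc : (c : G) ∈ Subgroup.centralizer ({g} : Set G) := by rw [← hC]; exact c.2
    rw [Subgroup.mem_centralizer_iff] at hc
    exact (hc g (Set.mem_singleton g)).symm
  have hgC : g ∈ C := by
    rw [hC, Subgroup.mem_centralizer_iff]
    intro z hz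
    rw [Set.mem_singleton_iff] at hz
    rw [hz]
  obtain ⟨gC, hgC'⟩ : ∃ gC : C, (gC : G) = g := ⟨⟨g, hgC⟩, rfl⟩
  have hcenter : gC⁻¹ ∈ Subgroup.center C := by
    rw [Subgroup.mem_center_iff]
    intro c
    apply Subtype.ext
    push_cast
    rw [hgC']
    have := hcomm c
    calc (c : G) * g⁻¹ = g⁻¹ * (g * (c : G)) * g⁻¹ := by group
      _ = g⁻¹ * ((c : G) * g) * g⁻¹ := by rw [this]
      _ = g⁻¹ * (c : G) := by group
  obtain ⟨f, hf⟩ : ∃ f : C → ℂ, f = fun c : C => η ((c : G) * g) := ⟨_, rfl⟩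
  have hfR : IsRComb C f := by
    refine ⟨?_, ?_⟩
    · intro c k
      rw [hf]
      show η (((k * c * k⁻¹ : C) : G) * g) = η ((c : G) * g)
      have e : ((k * c * k⁻¹ : C) : G) * g = (k : G) * ((c : G) * g) * (k : G)⁻¹ := by
        push_cast
        have := hcomm k
        calc (k : G) * (c : G) * (k : G)⁻¹ * g
            = (k : G) * (c : G) * (k : G)⁻¹ * (g * (k : G)) * (k : G)⁻¹ := by group
          _ = (k : G) * (c : G) * (k : G)⁻¹ * ((k : G) * g) * (k : G)⁻¹ := by rw [this]
          _ = (k : G) * ((c : G) * g) * (k : G)⁻¹ := by group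
      rw [e, hη.1]
    · intro ψ
      have hψc : IsCharacter C (ψ : C → ℂ) := irr_isCharacter ψ.2
      have key : classInner f (ψ : C → ℂ) =
          conj ((ψ : C → ℂ) gC⁻¹ / (ψ : C → ℂ) 1) *
            classInner (fun c : C => η (c : G)) (ψ : C → ℂ) := by
        unfold classInner
        rw [mul_left_comm]
        congr 1
        rw [Finset.mul_sum]
        rw [hf]
        apply Fintype.sum_equiv (Equiv.mulRight gC)
        intro c
        simp only [Equiv.coe_mulRight]
        have e1 : ((c * gC : C) : G) = (c : G) * g := by push_cast; rw [hgC']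
        have e2 : (ψ : C → ℂ) c = (ψ : C → ℂ) gC⁻¹ / (ψ : C → ℂ) 1 * (ψ : C → ℂ) (c * gC) := by
          have := irr_central_apply ψ.2 gC⁻¹ hcenter (c * gC)
          rw [mul_inv_cancel_right] at this
          exact this
        rw [e1, e2, map_mul]
        ring
      rw [key]
      apply IsIntegral.mul
      · apply isIntegral_conj
        have h1 := helper23.irr_centralChar_isIntegral ψ gC⁻¹
        have h2 : Subgroup.centralizer ({gC⁻¹} : Set C) = ⊤ := by
          rw [Subgroup.centralizer_eq_top_iff_subset]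
          intro z hz
          rw [Set.mem_singleton_iff] at hz
          rw [hz]
          exact hcenter
        unfold centralChar at h1
        rw [h2, Subgroup.index_top, Nat.cast_one, one_mul] at h1
        exact h1
      · rw [classInner_res_eq_indFun C hη.1]
        exact hη.inner_char (isCharacter_indFun C hψc)
  have hfvan : ∀ c : C, p ∣ orderOf c → f c = 0 := by
    intro c hc
    rw [hf]
    apply hvan
    apply dvd_orderOf_mul_of_commute hpp (hcomm c) hg
    rwa [Subgroup.orderOf_coe]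
  have h := isIntegral_div_of_vanish_psingular p hfR hfvan
  have h1 : f 1 = η g := by
    rw [hf]
    show η (((1 : C) : G) * g) = η g
    rw [Subgroup.coe_one, one_mul]
  rwa [h1] at h

end Integrality

section DefectOrder

variable {G : Type u} [Group G] [Fintype G]

theorem prime_memLocalIdeal {p : ℕ} {M : Ideal AlgInt} (hM : IsPModular p M) :
    MemLocalIdeal M (p : ℂ) := by
  have hMp : M.IsPrime := hM.2.1.isPrime
  exact MemIdeal.memLocalIdeal hMp.ne_top ⟨(p : AlgInt), hM.2.2, by push_cast; rfl⟩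

theorem centralizer_inv_eq (g : G) :
    Subgroup.centralizer ({g⁻¹} : Set G) = Subgroup.centralizer ({g} : Set G) := by
  ext x
  rw [Subgroup.mem_centralizer_iff, Subgroup.mem_centralizer_iff]
  simp only [Set.mem_singleton_iff, forall_eq]
  constructor
  · intro h
    calc g * x = g * (x * g⁻¹) * g := by group
      _ = g * (g⁻¹ * x) * g := by rw [h]
      _ = x * g := by group
  · intro h
    calc g⁻¹ * x = g⁻¹ * (x * g) * g⁻¹ := by group
      _ = g⁻¹ * (g * x) * g⁻¹ := by rw [h]
      _ = x * g⁻¹ := by group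

open Classical in
/-- the block idempotent vanishes at the `p`-singular elements -/
theorem block_sum_degree_mul_eq_zero [Fintype (IrrCharacter G)] (p : ℕ) [Fact p.Prime]
    (M : Ideal AlgInt) (hM : IsPModular p M) (χ₀ : IrrCharacter G) (y : G) (hy : p ∣ orderOf y) :
    ∑ ψ ∈ Finset.univ.filter (fun ψ : IrrCharacter G => ψ ∈ blockOf M (χ₀ : G → ℂ)),
      (ψ : G → ℂ) 1 * (ψ : G → ℂ) y = 0 := by
  have hp : p.Prime := Fact.out
  have h1 := weak_block_orthogonality_finset p M hM χ₀ 1 y
    (by rw [orderOf_one]; exact fun h => hp.ne_one (Nat.dvd_one.mp h)) hy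
  have h2 := congrArg conj h1
  rw [map_sum, map_zero] at h2
  rw [← h2]
  refine Finset.sum_congr rfl (fun ψ _ => ?_)
  rw [map_mul, Complex.conj_conj, ← char_charDegree_cast (irr_isCharacter ψ.2), Complex.conj_natCast]

open Classical in
theorem blockCoeff_psingular [Fintype (IrrCharacter G)] (p : ℕ) [Fact p.Prime]
    (M : Ideal AlgInt) (hM : IsPModular p M) (χ₀ : IrrCharacter G) (y : G) (hy : p ∣ orderOf y) :
    blockCoeff (blockOf M (χ₀ : G → ℂ)) y = 0 := by
  have hp : p.Prime := Fact.out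
  rw [blockCoeff_eq_sum]
  have h1 := weak_block_orthogonality_finset p M hM χ₀ 1 y
    (by rw [orderOf_one]; exact fun h => hp.ne_one (Nat.dvd_one.mp h)) hy
  rw [h1, mul_zero]

/-- the `p`-part of the centralizer of a defect class has order `p ^ d(B)` -/
theorem defectClass_factorization (p : ℕ) [Fact p.Prime] (M : Ideal AlgInt)
    (hM : IsPModular p M) (χ₀ : IrrCharacter G) (g₀ : G)
    (hdef : IsDefectClass M (blockOf M (χ₀ : G → ℂ)) g₀) :
    (Nat.card (Subgroup.centralizer ({g₀} : Set G))).factorization p +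
      sInf ((fun χ : IrrCharacter G => (charDegree (χ : G → ℂ)).factorization p) ''
        (blockOf M (χ₀ : G → ℂ))) = (Nat.card G).factorization p := by
  classical
  have := Fintype.ofFinite (IrrCharacter G)
  have hp : p.Prime := Fact.out
  have hMp : M.IsPrime := hM.2.1.isPrime
  have hMtop : M ≠ ⊤ := hMp.ne_top
  obtain ⟨B, hB⟩ : ∃ B : Set (IrrCharacter G), B = blockOf M (χ₀ : G → ℂ) := ⟨_, rfl⟩
  rw [← hB] at hdef ⊢
  obtain ⟨hdR, hdJ, hdω⟩ := hdef
  obtain ⟨ν, hν⟩ : ∃ ν : IrrCharacter G → ℕ,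
    ν = fun χ : IrrCharacter G => (charDegree (χ : G → ℂ)).factorization p := ⟨_, rfl⟩
  rw [← hν]
  obtain ⟨e, he⟩ : ∃ e : ℕ, e = sInf (ν '' B) := ⟨_, rfl⟩
  rw [← he]
  have hχ₀B : χ₀ ∈ B := by rw [hB]; exact sameBlock_refl M hMtop _
  have hne : (ν '' B).Nonempty := ⟨ν χ₀, χ₀, hχ₀B, rfl⟩
  obtain ⟨χ₁, hχ₁B, hχ₁⟩ : ∃ χ₁ ∈ B, ν χ₁ = e := by
    have h1 := Nat.sInf_mem hne
    rw [← he] at h1
    exact h1
  have hle : ∀ ψ ∈ B, e ≤ ν ψ := fun ψ hψ => by rw [he]; exact Nat.sInf_le ⟨ψ, hψ, rfl⟩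
  obtain ⟨C, hC⟩ : ∃ C : Subgroup G, C = Subgroup.centralizer ({g₀} : Set G) := ⟨_, rfl⟩
  rw [← hC]
  obtain ⟨s, hs⟩ : ∃ s : ℕ, s = (Nat.card C).factorization p := ⟨_, rfl⟩
  obtain ⟨a, ha⟩ : ∃ a : ℕ, a = (Nat.card G).factorization p := ⟨_, rfl⟩
  rw [← hs, ← ha]
  have hGC : Nat.card C * C.index = Nat.card G := Subgroup.card_mul_index C
  have hidx_ne : C.index ≠ 0 := Subgroup.index_ne_zero_of_finite
  have hC_ne : Nat.card C ≠ 0 := Nat.card_pos.ne'
  have ha' : a = s + (C.index).factorization p := by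
    rw [ha, hs, ← hGC, Nat.factorization_mul hC_ne hidx_ne]
    rfl
  -- Step A
  have hA : a ≤ s + e := by
    by_contra hcon
    have h1 : e + 1 ≤ (C.index).factorization p := by omega
    have h2 : p ^ (e + 1) ∣ C.index := (Nat.Prime.pow_dvd_iff_le_factorization hp hidx_ne).mpr h1
    obtain ⟨k'', hk''⟩ := h2
    obtain ⟨d, hd⟩ : ∃ d : ℕ, d = charDegree (χ₁ : G → ℂ) := ⟨_, rfl⟩
    have hdpos : 0 < d := by rw [hd]; exact irr_charDegree_pos χ₁.2
    have hde : d.factorization p = e := by rw [hd, ← hχ₁, hν]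
    obtain ⟨d', hd'⟩ : ∃ d' : ℕ, d' = d / p ^ e := ⟨_, rfl⟩
    have hdeq : d = p ^ e * d' := by
      have := Nat.ordProj_mul_ordCompl_eq_self d p
      rw [hde] at this
      rw [hd', this]
    have hd'p : ¬ p ∣ d' := by
      have := Nat.not_dvd_ordCompl hp hdpos.ne'
      rw [hde] at this
      rw [hd']
      exact this
    have hd'ne : (d' : ℂ) ≠ 0 := by
      intro h0
      have : d' = 0 := by exact_mod_cast h0
      rw [this] at hd'p
      exact hd'p (dvd_zero p)
    have hpne : ((p : ℕ) : ℂ) ≠ 0 := by exact_mod_cast hp.ne_zero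
    have hω : centralChar (χ₁ : G → ℂ) g₀ =
        ((k'' : ℂ) * (χ₁ : G → ℂ) g₀ * (d' : ℂ)⁻¹) * (p : ℂ) := by
      unfold centralChar
      rw [← char_charDegree_cast (irr_isCharacter χ₁.2), ← hd, ← hC, hk'', hdeq]
      push_cast
      field_simp
      ring
    apply hdω χ₁ hχ₁B
    rw [hω]
    apply memLocalIdeal_mul_left _ (prime_memLocalIdeal hM)
    exact memLocalRing_mul (memLocalRing_mul
      (memLocalRing_of_integral hMtop (isIntegral_natCast_complex _))
      (memLocalRing_of_integral hMtop (helper23.irr_isIntegral χ₁ g₀)))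
      (memLocalRing_inv (memLocalRing_of_integral hMtop (isIntegral_natCast_complex _))
        (natCast_not_memLocalIdeal hM hd'p))
  -- Step B
  have hBst : s + e ≤ a := by
    by_contra hcon
    have hreg : ¬ p ∣ orderOf g₀ := by
      intro hsing
      apply hdJ
      rw [hB, blockCoeff_psingular p M hM χ₀ g₀ hsing]
      exact memLocalIdeal_zero hMtop
    obtain ⟨Bf, hBf⟩ : ∃ Bf : Finset (IrrCharacter G),
      Bf = Finset.univ.filter (fun ψ : IrrCharacter G => ψ ∈ B) := ⟨_, rfl⟩
    have hdvd : ∀ ψ ∈ Bf, p ^ e ∣ charDegree (ψ : G → ℂ) := by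
      intro ψ hψ
      rw [hBf, Finset.mem_filter] at hψ
      have h1 := hle ψ hψ.2
      rw [hν] at h1
      exact (Nat.Prime.pow_dvd_iff_le_factorization hp (irr_charDegree_pos ψ.2).ne').mpr h1
    obtain ⟨η, hη⟩ : ∃ η : G → ℂ, η = ∑ ψ ∈ Bf,
      ((charDegree (ψ : G → ℂ) / p ^ e : ℕ) : ℂ) • (ψ : G → ℂ) := ⟨_, rfl⟩
    have hηR : IsRComb G η := by
      rw [hη]
      exact isRComb_sum _ _ (fun ψ _ => isRComb_smul (isIntegral_natCast_complex _)
        (isRComb_of_char (irr_isCharacter ψ.2)))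
    have hpe : ((p ^ e : ℕ) : ℂ) ≠ 0 := by exact_mod_cast (pow_pos hp.pos e).ne'
    have hηval : ∀ y : G, ((p ^ e : ℕ) : ℂ) * η y = ∑ ψ ∈ Bf, (ψ : G → ℂ) 1 * (ψ : G → ℂ) y := by
      intro y
      rw [hη, Finset.sum_apply, Finset.mul_sum]
      refine Finset.sum_congr rfl (fun ψ hψ => ?_)
      rw [Pi.smul_apply, smul_eq_mul, ← mul_assoc, ← Nat.cast_mul,
        Nat.mul_div_cancel' (hdvd ψ hψ), char_charDegree_cast (irr_isCharacter ψ.2)]
    have hηvan : ∀ y : G, p ∣ orderOf y → η y = 0 := by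
      intro y hy
      have h1 := hηval y
      rw [hBf, hB, block_sum_degree_mul_eq_zero p M hM χ₀ y hy] at h1
      rcases mul_eq_zero.mp h1 with h | h
      · exact absurd h hpe
      · exact h
    have hint := isIntegral_value_div_centralizer p hηR hηvan g₀⁻¹ (by rwa [orderOf_inv])
    rw [centralizer_inv_eq, ← hC, ← hs] at hint
    obtain ⟨z, hz⟩ : ∃ z : ℂ, z = η g₀⁻¹ / ((p ^ s : ℕ) : ℂ) := ⟨_, rfl⟩
    rw [← hz] at hint
    have hps : ((p ^ s : ℕ) : ℂ) ≠ 0 := by exact_mod_cast (pow_pos hp.pos s).ne'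
    have e1 : blockCoeff B g₀ = (Nat.card G : ℂ)⁻¹ * (((p ^ e : ℕ) : ℂ) * η g₀⁻¹) := by
      rw [blockCoeff_eq_sum, hηval, hBf]
      congr 1
      refine Finset.sum_congr rfl (fun ψ _ => ?_)
      rw [char_inv (irr_isCharacter ψ.2)]
    have e2 : η g₀⁻¹ = ((p ^ s : ℕ) : ℂ) * z := by
      rw [hz]
      field_simp
    obtain ⟨g', hg'⟩ : ∃ g' : ℕ, g' = Nat.card G / p ^ a := ⟨_, rfl⟩
    have hGeq : Nat.card G = p ^ a * g' := by
      rw [hg', ha]
      exact (Nat.ordProj_mul_ordCompl_eq_self (Nat.card G) p).symm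
    have hg'p : ¬ p ∣ g' := by
      rw [hg', ha]
      exact Nat.not_dvd_ordCompl hp Nat.card_pos.ne'
    have hg'ne : (g' : ℂ) ≠ 0 := by
      intro h0
      have : g' = 0 := by exact_mod_cast h0
      rw [this] at hg'p
      exact hg'p (dvd_zero p)
    have hpa : ((p ^ a : ℕ) : ℂ) ≠ 0 := by exact_mod_cast (pow_pos hp.pos a).ne'
    obtain ⟨t, ht⟩ : ∃ t : ℕ, s + e = a + t + 1 := ⟨s + e - a - 1, by omega⟩
    have e4 : ((p ^ e : ℕ) : ℂ) * ((p ^ s : ℕ) : ℂ) =
        ((p ^ a : ℕ) : ℂ) * ((p ^ t : ℕ) : ℂ) * (p : ℂ) := by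
      have : p ^ e * p ^ s = p ^ a * p ^ t * p := by
        rw [← pow_add, ← pow_add, ← pow_succ]
        congr 1
        omega
      exact_mod_cast this
    have e5 : blockCoeff B g₀ = (((p ^ t : ℕ) : ℂ) * z * (g' : ℂ)⁻¹) * (p : ℂ) := by
      rw [e1, e2, hGeq]
      push_cast
      push_cast at e4 hpa
      field_simp
      linear_combination z * e4
    apply hdJ
    rw [e5]
    apply memLocalIdeal_mul_left _ (prime_memLocalIdeal hM)
    exact memLocalRing_mul (memLocalRing_mul
      (memLocalRing_of_integral hMtop (isIntegral_natCast_complex _))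
      (memLocalRing_of_integral hMtop hint))
      (memLocalRing_inv (memLocalRing_of_integral hMtop (isIntegral_natCast_complex _))
        (natCast_not_memLocalIdeal hM hg'p))
  omega

/-- the order of a defect group -/
theorem card_defectGroup (p : ℕ) [Fact p.Prime] (M : Ideal AlgInt) (hM : IsPModular p M)
    (B : Set (IrrCharacter G)) (hB : IsPBlock M B) (D : Subgroup G)
    (hD : IsDefectGroup p M B D) : Nat.card D = p ^ blockDefect p B := by
  obtain ⟨χ₀, rfl⟩ := hB
  obtain ⟨g₀, hdef, P, rfl⟩ := hD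
  have h1 := defectClass_factorization p M hM χ₀ g₀ hdef
  rw [Subgroup.card_map_of_injective (Subgroup.subtype_injective _), P.card_eq_multiplicity]
  congr 1
  unfold blockDefect
  omega

end DefectOrder

end Cfsg.Agent.helper24
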