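import Mathlib
import Cfsg.Agent.Lib_helper24_DefectOrder
import Cfsg.Agent.Lib_helper24_PSection

set_option autoImplicit false

namespace Cfsg.Agent.helper24

open Cfsg Cfsg.Agent.helper12
open scoped ComplexConjugate

universe u

section Values

variable {G : Type u} [Group G] [Fintype G]

/-- if `c χ(g) / χ(1)`-type expression: a character value times a ratio of integers whose
`p`-parts cancel -/
theorem not_memLocalIdeal_of_ratio {p : ℕ} {M : Ideal AlgInt} (hM : IsPModular p M)
    {c d f e : ℕ} (hc : c ≠ 0) (hd : d ≠ 0) (hcf : c.factorization p = f)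
    (hde : d.factorization p = e) (hfe : f ≤ e) {z w : ℂ} (hz : MemLocalRing M z)
    (hzJ : ¬ MemLocalIdeal M z) (hw : w * (d : ℂ) = (c : ℂ) * z) : ¬ MemLocalIdeal M w := by
  have hp : p.Prime := hM.1
  have hMp : M.IsPrime := hM.2.1.isPrime
  have hMtop : M ≠ ⊤ := hMp.ne_top
  intro hwJ
  obtain ⟨c', hc'⟩ : ∃ c' : ℕ, c' = c / p ^ f := ⟨_, rfl⟩
  obtain ⟨d', hd'⟩ : ∃ d' : ℕ, d' = d / p ^ e := ⟨_, rfl⟩
  have hceq : c = p ^ f * c' := by
    have := Nat.ordProj_mul_ordCompl_eq_self c p
    rw [hcf] at this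
    rw [hc', this]
  have hdeq : d = p ^ e * d' := by
    have := Nat.ordProj_mul_ordCompl_eq_self d p
    rw [hde] at this
    rw [hd', this]
  have hc'p : ¬ p ∣ c' := by
    have := Nat.not_dvd_ordCompl hp hc
    rw [hcf] at this
    rw [hc']
    exact this
  obtain ⟨t, ht⟩ : ∃ t : ℕ, e = f + t := ⟨e - f, by omega⟩
  have hpf : ((p ^ f : ℕ) : ℂ) ≠ 0 := by exact_mod_cast (pow_pos hp.pos f).ne'
  have hdC : (d : ℂ) = ((p ^ f : ℕ) : ℂ) * ((p ^ t : ℕ) : ℂ) * (d' : ℂ) := by
    conv_lhs => rw [hdeq, ht, pow_add]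
    push_cast
    ring
  have hcC : (c : ℂ) = ((p ^ f : ℕ) : ℂ) * (c' : ℂ) := by
    conv_lhs => rw [hceq]
    push_cast
    ring
  have h2 : w * (((p ^ f : ℕ) : ℂ) * ((p ^ t : ℕ) : ℂ) * (d' : ℂ)) =
      ((p ^ f : ℕ) : ℂ) * (c' : ℂ) * z := by
    rw [← hdC, hw, hcC]
  have h1 : (((p ^ t : ℕ) : ℂ) * (d' : ℂ)) * w = (c' : ℂ) * z := by
    apply mul_left_cancel₀ hpf
    linear_combination h2
  have h3 : MemLocalIdeal M ((((p ^ t : ℕ) : ℂ) * (d' : ℂ)) * w) :=
    memLocalIdeal_mul_left (memLocalRing_mul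
      (memLocalRing_of_integral hMtop (isIntegral_natCast_complex _))
      (memLocalRing_of_integral hMtop (isIntegral_natCast_complex _))) hwJ
  rw [h1] at h3
  exact not_memLocalIdeal_mul (memLocalRing_of_integral hMtop (isIntegral_natCast_complex _)) hz
    (natCast_not_memLocalIdeal hM hc'p) hzJ h3

/-- the values of the characters of a block at the elements `x y`, `y` a defect class and `x` in
a Sylow `p`-subgroup of `C(y)` -/
theorem defectClass_values (p : ℕ) [Fact p.Prime] (M : Ideal AlgInt) (hM : IsPModular p M)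
    (B : Set (IrrCharacter G)) (hB : IsPBlock M B) (y : G) (hy : IsDefectClass M B y)
    (P : Sylow p (Subgroup.centralizer ({y} : Set G))) (x : Subgroup.centralizer ({y} : Set G))
    (hx : x ∈ (P : Subgroup (Subgroup.centralizer ({y} : Set G)))) :
    (∀ χ ∈ B, blockHeight p B (χ : G → ℂ) = 0 →
      ¬ MemLocalIdeal M ((χ : G → ℂ) ((x : G) * y))) ∧
    ((∀ w ∈ (P : Subgroup (Subgroup.centralizer ({y} : Set G))), x * w = w * x) →
      ∀ χ ∈ B, ¬ MemLocalIdeal M (centralChar (χ : G → ℂ) ((x : G) * y))) := by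
  classical
  have := Fintype.ofFinite (IrrCharacter G)
  have hp : p.Prime := Fact.out
  have hMp : M.IsPrime := hM.2.1.isPrime
  have hMtop : M ≠ ⊤ := hMp.ne_top
  obtain ⟨χ₀, rfl⟩ := hB
  have hfac := defectClass_factorization p M hM χ₀ y hy
  obtain ⟨B, hB⟩ : ∃ B : Set (IrrCharacter G), B = blockOf M (χ₀ : G → ℂ) := ⟨_, rfl⟩
  rw [← hB] at hy hfac ⊢
  obtain ⟨hdR, hdJ, hdω⟩ := hy
  obtain ⟨ν, hν⟩ : ∃ ν : IrrCharacter G → ℕ,
    ν = fun χ : IrrCharacter G => (charDegree (χ : G → ℂ)).factorization p := ⟨_, rfl⟩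
  obtain ⟨e, he⟩ : ∃ e : ℕ, e = sInf (ν '' B) := ⟨_, rfl⟩
  have hχ₀B : χ₀ ∈ B := by rw [hB]; exact sameBlock_refl M hMtop _
  have hne : (ν '' B).Nonempty := ⟨ν χ₀, χ₀, hχ₀B, rfl⟩
  obtain ⟨χ₁, hχ₁B, hχ₁⟩ : ∃ χ₁ ∈ B, ν χ₁ = e := by
    have h1 := Nat.sInf_mem hne
    rw [← he] at h1
    exact h1
  have hle : ∀ ψ ∈ B, e ≤ ν ψ := fun ψ hψ => by rw [he]; exact Nat.sInf_le ⟨ψ, hψ, rfl⟩
  obtain ⟨C, hC⟩ : ∃ C : Subgroup G, C = Subgroup.centralizer ({y} : Set G) := ⟨_, rfl⟩
  obtain ⟨s, hs⟩ : ∃ s : ℕ, s = (Nat.card C).factorization p := ⟨_, rfl⟩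
  obtain ⟨a, ha⟩ : ∃ a : ℕ, a = (Nat.card G).factorization p := ⟨_, rfl⟩
  have hfac' : s + e = a := by
    rw [hs, he, ha, hC, hν]
    exact hfac
  have hxy : Commute (x : G) y := by
    have hc : (x : G) ∈ Subgroup.centralizer ({y} : Set G) := x.2
    rw [Subgroup.mem_centralizer_iff] at hc
    exact (hc y (Set.mem_singleton y)).symm
  obtain ⟨jx, hjx⟩ := (IsPGroup.iff_orderOf.1 P.2) ⟨x, hx⟩
  have hxpow : (x : G) ^ (p ^ jx) = 1 := by
    have h1 : orderOf (x : G) = p ^ jx := by
      rw [Subgroup.orderOf_coe]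
      have : orderOf (⟨x, hx⟩ : (P : Subgroup (Subgroup.centralizer ({y} : Set G)))) =
          orderOf x := Subgroup.orderOf_mk x hx
      rw [← this, hjx]
    rw [← h1]
    exact pow_orderOf_eq_one _
  -- class sizes
  have hidx : ∀ C' : Subgroup G, (Nat.card G).factorization p =
      (Nat.card C').factorization p + (C'.index).factorization p := by
    intro C'
    rw [← Subgroup.card_mul_index C', Nat.factorization_mul Nat.card_pos.ne'
      Subgroup.index_ne_zero_of_finite]
    rfl
  -- height zero characters at `y` and `x y`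
  have hA : ∀ χ ∈ B, ν χ = e → ¬ MemLocalIdeal M ((χ : G → ℂ) ((x : G) * y)) := by
    intro χ hχB hχe
    have h1 : ¬ MemLocalIdeal M ((χ : G → ℂ) y) := by
      intro hJ
      apply hdω χ hχB
      -- ω = (c₀' / d') χ(y)
      have hcf : (C.index).factorization p = e := by
        have := hidx C
        rw [← ha, ← hs] at this
        omega
      obtain ⟨c', hc'⟩ : ∃ c' : ℕ, c' = C.index / p ^ e := ⟨_, rfl⟩
      obtain ⟨d', hd'⟩ : ∃ d' : ℕ, d' = charDegree (χ : G → ℂ) / p ^ e := ⟨_, rfl⟩
      have hceq : C.index = p ^ e * c' := by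
        have := Nat.ordProj_mul_ordCompl_eq_self C.index p
        rw [hcf] at this
        rw [hc', this]
      have hde : (charDegree (χ : G → ℂ)).factorization p = e := by rw [← hχe, hν]
      have hdeq : charDegree (χ : G → ℂ) = p ^ e * d' := by
        have := Nat.ordProj_mul_ordCompl_eq_self (charDegree (χ : G → ℂ)) p
        rw [hde] at this
        rw [hd', this]
      have hd'p : ¬ p ∣ d' := by
        have := Nat.not_dvd_ordCompl hp (irr_charDegree_pos χ.2).ne'
        rw [hde] at this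
        rw [hd']
        exact this
      have hd'ne : (d' : ℂ) ≠ 0 := by
        intro h0
        have : d' = 0 := by exact_mod_cast h0
        rw [this] at hd'p
        exact hd'p (dvd_zero p)
      have hpe : ((p : ℕ) : ℂ) ^ e ≠ 0 := pow_ne_zero _ (by exact_mod_cast hp.ne_zero)
      have hω : centralChar (χ : G → ℂ) y = ((c' : ℂ) * (d' : ℂ)⁻¹) * (χ : G → ℂ) y := by
        unfold centralChar
        rw [← char_charDegree_cast (irr_isCharacter χ.2), ← hC, hceq, hdeq]
        push_cast
        field_simp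
      rw [hω]
      exact memLocalIdeal_mul_left (memLocalRing_mul
        (memLocalRing_of_integral hMtop (isIntegral_natCast_complex _))
        (memLocalRing_inv (memLocalRing_of_integral hMtop (isIntegral_natCast_complex _))
          (natCast_not_memLocalIdeal hM hd'p))) hJ
    intro hJ
    apply h1
    have h2 := (char_congr_pregular_part hM (irr_isCharacter χ.2) (x : G) y hxy
      hxpow).memLocalIdeal hMtop
    have h3 := memLocalIdeal_sub hJ h2
    rwa [sub_sub_cancel] at h3
  refine ⟨?_, ?_⟩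
  · intro χ hχB h0
    apply hA χ hχB
    have h1 := hle χ hχB
    unfold blockHeight at h0
    have h2 : ν χ - e = 0 := by
      rw [he, hν]
      exact h0
    omega
  · intro hcent χ hχB
    -- first for `χ₁`
    have hχ₁ω : ¬ MemLocalIdeal M (centralChar (χ₁ : G → ℂ) ((x : G) * y)) := by
      obtain ⟨C', hC'⟩ : ∃ C' : Subgroup G,
        C' = Subgroup.centralizer ({(x : G) * y} : Set G) := ⟨_, rfl⟩
      have hDle : (P : Subgroup (Subgroup.centralizer ({y} : Set G))).map
          (Subgroup.centralizer ({y} : Set G)).subtype ≤ C' := by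
        rintro _ ⟨w, hw, rfl⟩
        rw [hC', Subgroup.mem_centralizer_iff]
        intro z hz
        rw [Set.mem_singleton_iff] at hz
        rw [hz]
        have h1 : (x : G) * (w : G) = (w : G) * (x : G) := by
          have := hcent w hw
          exact_mod_cast congrArg Subtype.val this
        have h2 : (w : G) * y = y * (w : G) := by
          have hc : (w : G) ∈ Subgroup.centralizer ({y} : Set G) := w.2
          rw [Subgroup.mem_centralizer_iff] at hc
          exact (hc y (Set.mem_singleton y)).symm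
        show (x : G) * y * (w : G) = (w : G) * ((x : G) * y)
        rw [mul_assoc, ← h2, ← mul_assoc, h1, mul_assoc]
      have hcardD : Nat.card ((P : Subgroup (Subgroup.centralizer ({y} : Set G))).map
          (Subgroup.centralizer ({y} : Set G)).subtype) = p ^ s := by
        rw [Subgroup.card_map_of_injective (Subgroup.subtype_injective _), P.card_eq_multiplicity,
          hs, hC]
      have hdvd : p ^ s ∣ Nat.card C' := by
        rw [← hcardD]
        exact Subgroup.card_dvd_of_le hDle
      have hs' : s ≤ (Nat.card C').factorization p :=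
        (Nat.Prime.pow_dvd_iff_le_factorization hp Nat.card_pos.ne').mp hdvd
      have hfe : (C'.index).factorization p ≤ e := by
        have := hidx C'
        rw [← ha] at this
        omega
      have hz := hA χ₁ hχ₁B hχ₁
      apply not_memLocalIdeal_of_ratio hM (c := C'.index) (d := charDegree (χ₁ : G → ℂ))
        Subgroup.index_ne_zero_of_finite (irr_charDegree_pos χ₁.2).ne' rfl
        (by rw [← hχ₁, hν]) hfe
        (memLocalRing_of_integral hMtop (helper23.irr_isIntegral χ₁ ((x : G) * y))) hz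
      unfold centralChar
      rw [← char_charDegree_cast (irr_isCharacter χ₁.2), ← hC']
      have hdne : ((charDegree (χ₁ : G → ℂ) : ℕ) : ℂ) ≠ 0 := by
        exact_mod_cast (irr_charDegree_pos χ₁.2).ne'
      field_simp
    -- then for all members of the block
    intro hJ
    apply hχ₁ω
    have hsb : SameBlock M (χ₁ : G → ℂ) (χ : G → ℂ) := by
      have h1 : SameBlock M (χ₀ : G → ℂ) (χ₁ : G → ℂ) := by rw [hB] at hχ₁B; exact hχ₁B
      have h2 : SameBlock M (χ₀ : G → ℂ) (χ : G → ℂ) := by rw [hB] at hχB; exact hχB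
      exact sameBlock_trans (sameBlock_symm h1) h2
    have h3 := memLocalIdeal_add (hsb ((x : G) * y)) hJ
    rwa [sub_add_cancel] at h3

end Values

end Cfsg.Agent.helper24
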