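import Mathlib
import Cfsg.Agent.Lib_helper24_DefectValues

set_option autoImplicit false

namespace Cfsg.Agent.helper24

open Cfsg
open scoped ComplexConjugate

universe u

section FixedPoint

/-- a sum, over a set on which a `p`-group acts without fixed points, of an invariant function
with local values lies in the local ideal -/
theorem sum_memLocalIdeal_of_no_fixed {p : ℕ} {M : Ideal AlgInt} (hM : IsPModular p M)
    {T : Type*} [Group T] [Finite T] (hT : IsPGroup p T) {X : Type*} [Fintype X] [MulAction T X]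
    (F : X → ℂ) (hF : ∀ x, MemLocalRing M (F x)) (hinv : ∀ (t : T) (x : X), F (t • x) = F x)
    (hfix : ∀ x : X, ∃ t : T, t • x ≠ x) : MemLocalIdeal M (∑ x, F x) := by
  classical
  have hp : p.Prime := hM.1
  have hpF : Fact p.Prime := ⟨hp⟩
  have hMp : M.IsPrime := hM.2.1.isPrime
  have hMtop : M ≠ ⊤ := hMp.ne_top
  rw [Finset.sum_partition (MulAction.orbitRel T X)]
  apply memLocalIdeal_sum
  intro xbar _
  obtain ⟨x, rfl⟩ := Quotient.exists_rep xbar
  have hiff : ∀ y : X, Quotient.mk (MulAction.orbitRel T X) y =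
      Quotient.mk (MulAction.orbitRel T X) x ↔ y ∈ MulAction.orbit T x := by
    intro y
    rw [Quotient.eq, MulAction.orbitRel_apply]
  rw [Finset.sum_congr rfl (g := fun _ => F x) (fun y hy => by
      rw [Finset.mem_filter] at hy
      obtain ⟨t, ht⟩ := MulAction.mem_orbit_iff.1 ((hiff y).1 hy.2)
      rw [← ht]
      exact hinv t x)]
  rw [Finset.sum_const, nsmul_eq_mul]
  have hcard : (Finset.univ.filter (fun y : X => Quotient.mk (MulAction.orbitRel T X) y =
      Quotient.mk (MulAction.orbitRel T X) x)).card = Nat.card (MulAction.orbit T x) := by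
    rw [Nat.card_eq_fintype_card]
    exact (Fintype.card_of_subtype _ (fun y => by
      rw [Finset.mem_filter]
      simp only [Finset.mem_univ, true_and]
      exact hiff y)).symm
  obtain ⟨n, hn⟩ := hT.card_orbit x
  have hn0 : n ≠ 0 := by
    rintro rfl
    rw [pow_zero] at hn
    obtain ⟨t, ht⟩ := hfix x
    apply ht
    have hsub : Subsingleton (MulAction.orbit T x) := (Nat.card_eq_one_iff_unique.mp hn).1
    have := Subsingleton.elim (⟨t • x, MulAction.mem_orbit x t⟩ : MulAction.orbit T x)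
      ⟨x, MulAction.mem_orbit_self x⟩
    exact congrArg Subtype.val this
  rw [hcard, hn]
  obtain ⟨m, rfl⟩ := Nat.exists_eq_succ_of_ne_zero hn0
  rw [pow_succ]
  push_cast
  have e : ((p : ℂ) ^ m * (p : ℂ)) * F x = ((p : ℂ) ^ m * F x) * (p : ℂ) := by ring
  rw [e]
  exact memLocalIdeal_mul_left (memLocalRing_mul
    (memLocalRing_of_integral hMtop ((isIntegral_natCast_complex p).pow m)) (hF x))
    (prime_memLocalIdeal hM)

end FixedPoint

section Core

variable {G : Type u} [Group G]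

/-- the conjugation action of a subgroup on a conjugacy class -/
@[reducible] def conjClassAction (S : Subgroup G) (h : G) : MulAction S {k : G // IsConj h k} where
  smul s k := ⟨(s : G) * k.1 * (s : G)⁻¹, k.2.trans (isConj_iff.2 ⟨(s : G), rfl⟩)⟩
  one_smul k := by
    apply Subtype.ext
    show ((1 : S) : G) * k.1 * ((1 : S) : G)⁻¹ = k.1
    simp
  mul_smul s t k := by
    apply Subtype.ext
    show ((s * t : S) : G) * k.1 * ((s * t : S) : G)⁻¹ =
      (s : G) * ((t : G) * k.1 * (t : G)⁻¹) * (s : G)⁻¹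
    simp [mul_assoc]

variable [Fintype G]

open Classical in
theorem cconv_classInd_eq_sum (v : G → ℂ) (g₀ y : G) :
    cconv v (classInd g₀) y = ∑ m : {m : G // IsConj g₀ m}, v (y * (m : G)⁻¹) := by
  unfold cconv classInd
  have e1 : ∑ x : G, v x * (if IsConj g₀ (x⁻¹ * y) then (1 : ℂ) else 0) =
      ∑ m : G, if IsConj g₀ m then v (y * m⁻¹) else 0 := by
    apply Fintype.sum_equiv ((Equiv.inv G).trans (Equiv.mulRight y))
    intro x
    simp only [Equiv.trans_apply, Equiv.inv_apply, Equiv.coe_mulRight]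
    have : y * (x⁻¹ * y)⁻¹ = x := by group
    rw [this]
    split_ifs <;> simp
  rw [e1, ← Finset.sum_filter]
  exact Finset.sum_subtype (Finset.univ.filter (fun m : G => IsConj g₀ m))
    (fun m => by simp) (fun m => v (y * m⁻¹))

open Classical in
/-- if the coefficient at `g` of `u * K_h` is a unit and the `p`-group `S` centralizes `g`, then
`S` centralizes some conjugate of `h` -/
theorem exists_conj_commute_of_cconv {p : ℕ} {M : Ideal AlgInt} (hM : IsPModular p M)
    (u : G → ℂ) (hucf : IsClassFunction G u) (huR : ∀ x, MemLocalRing M (u x))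
    (S : Subgroup G) (hS : IsPGroup p S) (g h : G) (hSg : ∀ s ∈ S, s * g = g * s)
    (hne : ¬ MemLocalIdeal M (cconv u (classInd h) g)) :
    ∃ k : G, IsConj h k ∧ ∀ s ∈ S, s * k = k * s := by
  by_contra hno
  push Not at hno
  apply hne
  rw [cconv_classInd_eq_sum]
  letI act : MulAction S {m : G // IsConj h m} := conjClassAction S h
  apply sum_memLocalIdeal_of_no_fixed hM hS (fun m : {m : G // IsConj h m} => u (g * (m : G)⁻¹))
  · intro m
    exact huR _
  · intro t m
    show u (g * ((t : G) * (m : G) * (t : G)⁻¹)⁻¹) = u (g * (m : G)⁻¹)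
    have e : g * ((t : G) * (m : G) * (t : G)⁻¹)⁻¹ = (t : G) * (g * (m : G)⁻¹) * (t : G)⁻¹ := by
      have h1 := hSg t t.2
      calc g * ((t : G) * (m : G) * (t : G)⁻¹)⁻¹ = g * (t : G) * (m : G)⁻¹ * (t : G)⁻¹ := by group
        _ = (t : G) * g * (m : G)⁻¹ * (t : G)⁻¹ := by rw [← h1]
        _ = (t : G) * (g * (m : G)⁻¹) * (t : G)⁻¹ := by group
    rw [e, hucf]
  · intro m
    obtain ⟨s, hs, hsne⟩ := hno m.1 m.2
    refine ⟨⟨s, hs⟩, fun heq => hsne ?_⟩
    have h1 : s * (m : G) * s⁻¹ = (m : G) := congrArg Subtype.val heq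
    exact mul_inv_eq_iff_eq_mul.mp h1

end Core

section SylowCent

variable {G : Type u} [Group G]

/-- a `p`-subgroup centralizing a conjugate of `h` is conjugate into a Sylow subgroup of `C(h)` -/
theorem exists_sylow_centralizer_ge {p : ℕ} (h : G) (S : Subgroup G) (hS : IsPGroup p S) (t : G)
    (hSt : ∀ s ∈ S, s * (t * h * t⁻¹) = (t * h * t⁻¹) * s) :
    ∃ Q : Sylow p (Subgroup.centralizer ({h} : Set G)),
      S.map (MulAut.conj t⁻¹).toMonoidHom ≤
        (Q : Subgroup (Subgroup.centralizer ({h} : Set G))).map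
          (Subgroup.centralizer ({h} : Set G)).subtype := by
  have hS'C : S.map (MulAut.conj t⁻¹).toMonoidHom ≤ Subgroup.centralizer ({h} : Set G) := by
    rintro _ ⟨s, hs, rfl⟩
    rw [Subgroup.mem_centralizer_iff]
    intro z hz
    rw [Set.mem_singleton_iff] at hz
    subst hz
    show z * (t⁻¹ * s * t⁻¹⁻¹) = (t⁻¹ * s * t⁻¹⁻¹) * z
    have h1 := hSt s hs
    rw [inv_inv]
    calc z * (t⁻¹ * s * t) = t⁻¹ * ((t * z * t⁻¹) * s) * t := by group
      _ = t⁻¹ * (s * (t * z * t⁻¹)) * t := by rw [h1]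
      _ = (t⁻¹ * s * t) * z := by group
  have hpg : IsPGroup p ((S.map (MulAut.conj t⁻¹).toMonoidHom).subgroupOf
      (Subgroup.centralizer ({h} : Set G))) := (hS.map _).comap_subtype
  obtain ⟨Q, hQ⟩ := hpg.exists_le_sylow
  refine ⟨Q, ?_⟩
  intro y hy
  exact ⟨⟨y, hS'C hy⟩, hQ (Subgroup.mem_subgroupOf.2 hy), rfl⟩

/-- Sylow subgroups of a centralizer are conjugate -/
theorem sylow_centralizer_conj [Finite G] {p : ℕ} [Fact p.Prime] (g : G)
    (D P' : Sylow p (Subgroup.centralizer ({g} : Set G))) :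
    ∃ c : G, (P' : Subgroup (Subgroup.centralizer ({g} : Set G))).map
        (Subgroup.centralizer ({g} : Set G)).subtype ≤
      ((D : Subgroup (Subgroup.centralizer ({g} : Set G))).map
        (Subgroup.centralizer ({g} : Set G)).subtype).map (MulAut.conj c).toMonoidHom := by
  obtain ⟨c, hc⟩ := MulAction.exists_smul_eq (Subgroup.centralizer ({g} : Set G)) D P'
  subst hc
  refine ⟨(c : G), ?_⟩
  rintro _ ⟨y, hy, rfl⟩
  rw [Sylow.coe_subgroup_smul, SetLike.mem_coe, Subgroup.mem_pointwise_smul_iff_inv_smul_mem,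
    MulAut.smul_def,
    MulAut.conj_inv_apply] at hy
  refine ⟨((c⁻¹ * y * c : Subgroup.centralizer ({g} : Set G)) : G), ⟨c⁻¹ * y * c, hy, rfl⟩, ?_⟩
  show (c : G) * ((c⁻¹ * y * c : Subgroup.centralizer ({g} : Set G)) : G) * (c : G)⁻¹ = (y : G)
  simp [mul_assoc]

end SylowCent

section MinMax

variable {G : Type u} [Group G] [Fintype G]

/-- min-max theorem, first half: every Sylow `p`-subgroup of `C(h)`, `h` in the support mod `J`
of the block idempotent, is contained in a conjugate of the defect group -/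
theorem minmax_a (p : ℕ) [Fact p.Prime] (M : Ideal AlgInt) (hM : IsPModular p M)
    (B : Set (IrrCharacter G)) (hB : IsPBlock M B) (g : G) (hg : IsDefectClass M B g)
    (D : Sylow p (Subgroup.centralizer ({g} : Set G))) (h : G)
    (hJ : ¬ MemLocalIdeal M (blockCoeff B h))
    (Q : Sylow p (Subgroup.centralizer ({h} : Set G))) :
    ∃ x : G, (Q : Subgroup (Subgroup.centralizer ({h} : Set G))).map
        (Subgroup.centralizer ({h} : Set G)).subtype ≤
      ((D : Subgroup (Subgroup.centralizer ({g} : Set G))).map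
        (Subgroup.centralizer ({g} : Set G)).subtype).map (MulAut.conj x).toMonoidHom := by
  classical
  have hMp : M.IsPrime := hM.2.1.isPrime
  obtain ⟨χ₀, rfl⟩ := hB
  obtain ⟨v, hvcf, hvloc, hv1, hv2⟩ := exists_block_inverse (M := M) χ₀ g hg.2.2
  obtain ⟨S, hS⟩ : ∃ S : Subgroup G, S = (Q : Subgroup (Subgroup.centralizer ({h} : Set G))).map
    (Subgroup.centralizer ({h} : Set G)).subtype := ⟨_, rfl⟩
  rw [← hS]
  have hSp : IsPGroup p S := by
    rw [hS]
    exact Q.isPGroup'.map _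
  have hSh : ∀ s ∈ S, s * h = h * s := by
    intro s hs
    rw [hS] at hs
    obtain ⟨y, -, rfl⟩ := hs
    have := Subgroup.mem_centralizer_iff.1 y.2 h (Set.mem_singleton h)
    exact this.symm
  have hne : ¬ MemLocalIdeal M (cconv v (classInd g) h) := by
    rw [hv2]
    exact hJ
  obtain ⟨k, hk, hkS⟩ := exists_conj_commute_of_cconv hM v hvcf hvloc S hSp h g hSh hne
  obtain ⟨t, rfl⟩ := isConj_iff.1 hk
  obtain ⟨P', hP'⟩ := exists_sylow_centralizer_ge g S hSp t hkS
  obtain ⟨c, hc⟩ := sylow_centralizer_conj g D P'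
  refine ⟨t * c, ?_⟩
  intro s hs
  have h1 : (MulAut.conj t⁻¹).toMonoidHom s ∈ S.map (MulAut.conj t⁻¹).toMonoidHom := ⟨s, hs, rfl⟩
  obtain ⟨d, hd, hds⟩ := hc (hP' h1)
  refine ⟨d, hd, ?_⟩
  show (t * c) * d * (t * c)⁻¹ = s
  have h2 : c * d * c⁻¹ = t⁻¹ * s * t⁻¹⁻¹ := hds
  rw [inv_inv] at h2
  calc t * c * d * (t * c)⁻¹ = t * (c * d * c⁻¹) * t⁻¹ := by group
    _ = s := by rw [h2]; group

/-- min-max theorem, second half -/
theorem minmax_b (p : ℕ) [Fact p.Prime] (M : Ideal AlgInt) (hM : IsPModular p M)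
    (B : Set (IrrCharacter G)) (hB : IsPBlock M B) (g : G) (hg : IsDefectClass M B g)
    (D : Sylow p (Subgroup.centralizer ({g} : Set G))) (h : G)
    (hω : ∃ χ ∈ B, ¬ MemLocalIdeal M (centralChar (χ : G → ℂ) h)) :
    ∃ (x : G) (Q : Sylow p (Subgroup.centralizer ({h} : Set G))),
      ((D : Subgroup (Subgroup.centralizer ({g} : Set G))).map
        (Subgroup.centralizer ({g} : Set G)).subtype).map (MulAut.conj x).toMonoidHom ≤
      (Q : Subgroup (Subgroup.centralizer ({h} : Set G))).map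
        (Subgroup.centralizer ({h} : Set G)).subtype := by
  classical
  have hMp : M.IsPrime := hM.2.1.isPrime
  obtain ⟨χ₀, rfl⟩ := hB
  obtain ⟨χ, hχ, hχJ⟩ := hω
  have hall : ∀ ψ ∈ blockOf M (χ₀ : G → ℂ), ¬ MemLocalIdeal M (centralChar (ψ : G → ℂ) h) := by
    intro ψ hψ hJ
    apply hχJ
    have h1 : MemLocalIdeal M (centralChar (χ₀ : G → ℂ) h - centralChar (χ : G → ℂ) h) := hχ h
    have h2 : MemLocalIdeal M (centralChar (χ₀ : G → ℂ) h - centralChar (ψ : G → ℂ) h) := hψ h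
    have e : centralChar (χ : G → ℂ) h = centralChar (ψ : G → ℂ) h +
        ((centralChar (χ₀ : G → ℂ) h - centralChar (ψ : G → ℂ) h) -
          (centralChar (χ₀ : G → ℂ) h - centralChar (χ : G → ℂ) h)) := by ring
    rw [e]
    exact memLocalIdeal_add hJ (memLocalIdeal_sub h2 h1)
  obtain ⟨v, hvcf, hvloc, hv1, hv2⟩ := exists_block_inverse (M := M) χ₀ h hall
  obtain ⟨S, hS⟩ : ∃ S : Subgroup G, S = (D : Subgroup (Subgroup.centralizer ({g} : Set G))).map
    (Subgroup.centralizer ({g} : Set G)).subtype := ⟨_, rfl⟩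
  rw [← hS]
  have hSp : IsPGroup p S := by
    rw [hS]
    exact D.isPGroup'.map _
  have hSg : ∀ s ∈ S, s * g = g * s := by
    intro s hs
    rw [hS] at hs
    obtain ⟨y, -, rfl⟩ := hs
    have := Subgroup.mem_centralizer_iff.1 y.2 g (Set.mem_singleton g)
    exact this.symm
  have hne : ¬ MemLocalIdeal M (cconv v (classInd h) g) := by
    rw [hv2]
    exact hg.2.1
  obtain ⟨k, hk, hkS⟩ := exists_conj_commute_of_cconv hM v hvcf hvloc S hSp g h hSg hne
  obtain ⟨t, rfl⟩ := isConj_iff.1 hk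
  obtain ⟨Q, hQ⟩ := exists_sylow_centralizer_ge h S hSp t hkS
  exact ⟨t⁻¹, Q, hQ⟩

/-- a height zero character detects the defect group (Brauer) -/
theorem height_zero_detects_defect (p : ℕ) [Fact p.Prime] (M : Ideal AlgInt) (hM : IsPModular p M)
    (B : Set (IrrCharacter G)) (hB : IsPBlock M B) (D : Subgroup G)
    (hD : IsDefectGroup p M B D) (χ : IrrCharacter G) (hχ : χ ∈ B)
    (h0 : blockHeight p B (χ : G → ℂ) = 0) (x : G) (hx : ∃ k : ℕ, orderOf x = p ^ k) :
    (∃ g : G, g * x * g⁻¹ ∈ D) ↔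
      ∃ u : G, (∃ z : G, IsPPart p u z ∧ IsConj x z) ∧ (χ : G → ℂ) u ≠ 0 := by
  classical
  have := Fintype.ofFinite (IrrCharacter G)
  have hMp : M.IsPrime := hM.2.1.isPrime
  have hMtop : M ≠ ⊤ := hMp.ne_top
  obtain ⟨y, hy, P, rfl⟩ := hD
  constructor
  · rintro ⟨g, x', hx'P, hx'⟩
    have hval := (defectClass_values p M hM B hB y hy P x' hx'P).1 χ hχ h0
    have e : (x' : G) = g * x * g⁻¹ := hx'
    refine ⟨(x' : G) * y, ⟨(x' : G), ⟨y, rfl, ?_, ?_, ?_⟩, ?_⟩, ?_⟩
    · have := Subgroup.mem_centralizer_iff.1 x'.2 y (Set.mem_singleton y)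
      exact this.symm
    · obtain ⟨k, hk⟩ := hx
      refine ⟨k, ?_⟩
      rw [e, ← hk]
      exact (MulAut.conj g).orderOf_eq x
    · intro hpy
      obtain ⟨χ₀, rfl⟩ := hB
      have h1 := blockCoeff_psingular p M hM χ₀ y hpy
      apply hy.2.1
      rw [h1]
      exact memLocalIdeal_zero hMtop
    · rw [e]
      exact isConj_iff.2 ⟨g, rfl⟩
    · intro h
      rw [h] at hval
      exact hval (memLocalIdeal_zero hMtop)
  · rintro ⟨u, ⟨z, hz, hxz⟩, hne⟩
    by_contra hno
    push Not at hno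
    apply hne
    apply char_vanish_of_ppart_not_in_defect p M hM χ u z hz
    intro D' hD' hzD'
    have hBeq : blockOf M (χ : G → ℂ) = B := by
      obtain ⟨χ₀, rfl⟩ := hB
      ext ψ
      constructor
      · intro h
        exact sameBlock_trans hχ h
      · intro h
        exact sameBlock_trans (sameBlock_symm hχ) h
    rw [hBeq] at hD'
    obtain ⟨y', hy', P', rfl⟩ := hD'
    obtain ⟨x₁, hx₁⟩ := minmax_a p M hM B hB y hy P y' hy'.2.1 P'
    obtain ⟨d, hd, hdz⟩ := hx₁ hzD'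
    obtain ⟨c, hc⟩ := isConj_iff.1 hxz
    apply hno (x₁⁻¹ * c)
    have e : x₁⁻¹ * c * x * (x₁⁻¹ * c)⁻¹ = d := by
      have h2 : x₁ * d * x₁⁻¹ = z := hdz
      rw [← hc] at h2
      calc x₁⁻¹ * c * x * (x₁⁻¹ * c)⁻¹ = x₁⁻¹ * (c * x * c⁻¹) * x₁ := by group
        _ = x₁⁻¹ * (x₁ * d * x₁⁻¹) * x₁ := by rw [h2]
        _ = d := by group
    rw [e]
    exact hd

/-- the Brauer map is non-zero on the block idempotent iff the `p`-subgroup is conjugate into the
defect group -/
theorem brauer_nonzero_iff (p : ℕ) [Fact p.Prime] (M : Ideal AlgInt) (hM : IsPModular p M)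
    (B : Set (IrrCharacter G)) (hB : IsPBlock M B) (D : Subgroup G)
    (hD : IsDefectGroup p M B D) (P : Subgroup G) (hP : IsPGroup p P) :
    (∃ g : G, MemLocalRing M (blockCoeff B g) ∧ ¬ MemLocalIdeal M (blockCoeff B g) ∧
      ∃ c : G, IsConj g c ∧ c ∈ Subgroup.centralizer (P : Set G)) ↔
      ∃ x : G, P.map (MulAut.conj x).toMonoidHom ≤ D := by
  classical
  obtain ⟨y, hy, PD, rfl⟩ := hD
  constructor
  · rintro ⟨g, hgR, hgJ, c, hgc, hcP⟩
    obtain ⟨t, rfl⟩ := isConj_iff.1 hgc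
    have hcJ : ¬ MemLocalIdeal M (blockCoeff B (t * g * t⁻¹)) := by
      rw [blockCoeff_isClassFunction B g t]
      exact hgJ
    have hPc : ∀ s ∈ P, s * (1 * (t * g * t⁻¹) * 1⁻¹) = (1 * (t * g * t⁻¹) * 1⁻¹) * s := by
      intro s hs
      have := Subgroup.mem_centralizer_iff.1 hcP s hs
      simpa using this
    obtain ⟨Q, hQ⟩ := exists_sylow_centralizer_ge (t * g * t⁻¹) P hP 1 hPc
    obtain ⟨x₁, hx₁⟩ := minmax_a p M hM B hB y hy PD (t * g * t⁻¹) hcJ Q
    refine ⟨x₁⁻¹, ?_⟩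
    rintro _ ⟨s, hs, rfl⟩
    have h1 : (MulAut.conj (1 : G)⁻¹).toMonoidHom s ∈
        P.map (MulAut.conj (1 : G)⁻¹).toMonoidHom := ⟨s, hs, rfl⟩
    obtain ⟨d, hd, hds⟩ := hx₁ (hQ h1)
    have h2 : x₁ * d * x₁⁻¹ = s := by
      have h3 : x₁ * d * x₁⁻¹ = (1 : G)⁻¹ * s * (1 : G)⁻¹⁻¹ := hds
      simpa using h3
    have e : (MulAut.conj x₁⁻¹).toMonoidHom s = d := by
      show x₁⁻¹ * s * x₁⁻¹⁻¹ = d
      rw [← h2]
      group
    rw [e]
    exact hd
  · rintro ⟨x, hx⟩
    refine ⟨y, hy.1, hy.2.1, x⁻¹ * y * x, isConj_iff.2 ⟨x⁻¹, by rw [inv_inv]⟩, ?_⟩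
    rw [Subgroup.mem_centralizer_iff]
    intro s hs
    have h1 : (MulAut.conj x).toMonoidHom s ∈ P.map (MulAut.conj x).toMonoidHom := ⟨s, hs, rfl⟩
    obtain ⟨d, -, hds⟩ := hx h1
    have h2 : (d : G) = x * s * x⁻¹ := hds
    have h3 := Subgroup.mem_centralizer_iff.1 d.2 y (Set.mem_singleton y)
    rw [h2] at h3
    calc s * (x⁻¹ * y * x) = x⁻¹ * ((x * s * x⁻¹) * y) * x := by group
      _ = x⁻¹ * (y * (x * s * x⁻¹)) * x := by rw [h3]
      _ = (x⁻¹ * y * x) * s := by group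

end MinMax

end Cfsg.Agent.helper24
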