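import Mathlib
import Cfsg.Agent.Lib_helper24_MinMax
import Cfsg.Agent.Lib_helper24_CharKer

set_option autoImplicit false

namespace Cfsg.Agent.helper24

open Cfsg
open scoped ComplexConjugate

universe u

section RelIndex

variable {G : Type u} [Group G]

/-- a normal `p`-subgroup not contained in `Cx` forces `p` to divide the relative index of `Cx`
in any subgroup containing both -/
theorem prime_dvd_relIndex_of_not_le [Finite G] {p : ℕ} [Fact p.Prime] (N : Subgroup G)
    [hNn : N.Normal] (hN : IsPGroup p N) (Cx Ct : Subgroup G) (hNC : N ≤ Ct)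
    (hx : ¬ N ≤ Cx) : p ∣ Cx.relIndex Ct := by
  by_contra hnd
  have hN' : IsPGroup p (N.subgroupOf Ct) := hN.comap_subtype
  obtain ⟨q, hq⟩ := hN'.nonempty_fixed_point_of_prime_not_dvd_card (Ct ⧸ Cx.subgroupOf Ct) hnd
  obtain ⟨t, rfl⟩ := QuotientGroup.mk_surjective q
  apply hx
  intro n hn
  have hn' : (t : G) * n * (t : G)⁻¹ ∈ N := hNn.conj_mem n hn t
  have hmem : (t : G) * n * (t : G)⁻¹ ∈ Ct :=
    Ct.mul_mem (Ct.mul_mem t.2 (hNC hn)) (Ct.inv_mem t.2)
  have hfix := hq ⟨⟨(t : G) * n * (t : G)⁻¹, hmem⟩, Subgroup.mem_subgroupOf.2 hn'⟩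
  change (QuotientGroup.mk ((⟨(t : G) * n * (t : G)⁻¹, hmem⟩ : Ct) * t) :
    Ct ⧸ Cx.subgroupOf Ct) = QuotientGroup.mk t at hfix
  rw [QuotientGroup.eq, Subgroup.mem_subgroupOf] at hfix
  have e : ((((⟨(t : G) * n * (t : G)⁻¹, hmem⟩ : Ct) * t)⁻¹ * t : Ct) : G) = n⁻¹ := by
    show (((t : G) * n * (t : G)⁻¹) * (t : G))⁻¹ * (t : G) = n⁻¹
    group
  rw [e] at hfix
  simpa using hfix

end RelIndex

section KL

variable {G : Type u} [Group G] [Fintype G]

/-- every block contains a character with a given normal `p`-subgroup in its kernel -/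
theorem exists_mem_block_ker (p : ℕ) [Fact p.Prime] (M : Ideal AlgInt) (hM : IsPModular p M)
    (χ₀ : IrrCharacter G) (N : Subgroup G) [N.Normal] (hN : IsPGroup p N) :
    ∃ χ ∈ blockOf M (χ₀ : G → ℂ), ∀ n ∈ N, (χ : G → ℂ) n = (χ : G → ℂ) 1 := by
  classical
  have := Fintype.ofFinite (IrrCharacter G)
  have hMp : M.IsPrime := hM.2.1.isPrime
  have hp : p.Prime := Fact.out
  by_contra hno
  push Not at hno
  -- all the sums over `N` vanish
  have hs : ∀ χ ∈ blockOf M (χ₀ : G → ℂ), ∑ h : G, (if h ∈ N then (χ : G → ℂ) h else 0) = 0 := by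
    intro χ hχ
    rcases irr_normal_dichotomy χ.2 N with h | h
    · have := h 1
      simpa using this
    · obtain ⟨n, hn, hne⟩ := hno χ hχ
      exact absurd (h n hn) hne
  obtain ⟨Bf, hBf⟩ : ∃ Bf : Finset (IrrCharacter G),
    Bf = Finset.univ.filter (fun ψ : IrrCharacter G => ψ ∈ blockOf M (χ₀ : G → ℂ)) := ⟨_, rfl⟩
  have h1 : ∑ h : G, (if h ∈ N then ∑ ψ ∈ Bf, (ψ : G → ℂ) 1 * (ψ : G → ℂ) h else 0) = 0 := by
    have e : ∀ h : G, (if h ∈ N then ∑ ψ ∈ Bf, (ψ : G → ℂ) 1 * (ψ : G → ℂ) h else 0) =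
        ∑ ψ ∈ Bf, (ψ : G → ℂ) 1 * (if h ∈ N then (ψ : G → ℂ) h else 0) := by
      intro h
      split_ifs
      · rfl
      · simp
    rw [Finset.sum_congr rfl (fun h _ => e h), Finset.sum_comm]
    apply Finset.sum_eq_zero
    intro ψ hψ
    rw [hBf, Finset.mem_filter] at hψ
    rw [← Finset.mul_sum, hs ψ hψ.2, mul_zero]
  have h2 : ∑ h : G, (if h ∈ N then ∑ ψ ∈ Bf, (ψ : G → ℂ) 1 * (ψ : G → ℂ) h else 0) =
      ∑ ψ ∈ Bf, (ψ : G → ℂ) 1 * (ψ : G → ℂ) 1 := by
    rw [Finset.sum_eq_single (1 : G)]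
    · rw [if_pos N.one_mem]
    · intro h _ hne
      split_ifs with hh
      · rw [hBf]
        apply block_sum_degree_mul_eq_zero p M hM χ₀ h
        obtain ⟨k, hk⟩ := (IsPGroup.iff_orderOf.mp hN) ⟨h, hh⟩
        rw [Subgroup.orderOf_mk] at hk
        rw [hk]
        cases k with
        | zero =>
          exfalso
          rw [pow_zero, orderOf_eq_one_iff] at hk
          exact hne hk
        | succ k => exact dvd_pow_self p (Nat.succ_ne_zero k)
      · rfl
    · intro h
      exact absurd (Finset.mem_univ _) h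
  rw [h2] at h1
  have h3 : ∑ ψ ∈ Bf, (ψ : G → ℂ) 1 * (ψ : G → ℂ) 1 =
      ((∑ ψ ∈ Bf, charDegree (ψ : G → ℂ) * charDegree (ψ : G → ℂ) : ℕ) : ℂ) := by
    push_cast
    refine Finset.sum_congr rfl (fun ψ _ => ?_)
    rw [char_charDegree_cast (irr_isCharacter ψ.2)]
  rw [h3] at h1
  have h4 : ∑ ψ ∈ Bf, charDegree (ψ : G → ℂ) * charDegree (ψ : G → ℂ) = 0 := by
    exact_mod_cast h1
  have h5 := (Finset.sum_eq_zero_iff.mp h4) χ₀ (by
    rw [hBf, Finset.mem_filter]
    exact ⟨Finset.mem_univ _, sameBlock_refl M hMp.ne_top _⟩)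
  have h6 := irr_charDegree_pos χ₀.2
  rcases Nat.mul_eq_zero.mp h5 with h | h <;> omega

omit [Fintype G] in
/-- the central character of an inflated character -/
theorem centralChar_inflation (N : Subgroup G) [N.Normal] (ψ : G ⧸ N → ℂ) (x : G) :
    centralChar (ψ ∘ (QuotientGroup.mk : G → G ⧸ N)) x =
      (((Subgroup.centralizer ({x} : Set G)).relIndex
        ((Subgroup.centralizer ({(QuotientGroup.mk x : G ⧸ N)} : Set (G ⧸ N))).comap
          (QuotientGroup.mk' N)) : ℕ) : ℂ) * centralChar ψ (QuotientGroup.mk x : G ⧸ N) := by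
  have hle : Subgroup.centralizer ({x} : Set G) ≤
      (Subgroup.centralizer ({(QuotientGroup.mk x : G ⧸ N)} : Set (G ⧸ N))).comap
        (QuotientGroup.mk' N) := by
    intro t ht
    rw [Subgroup.mem_comap, Subgroup.mem_centralizer_iff]
    intro z hz
    rw [Set.mem_singleton_iff] at hz
    subst hz
    have h1 := Subgroup.mem_centralizer_iff.1 ht x (Set.mem_singleton x)
    show (QuotientGroup.mk x : G ⧸ N) * (QuotientGroup.mk t : G ⧸ N) =
      (QuotientGroup.mk t : G ⧸ N) * (QuotientGroup.mk x : G ⧸ N)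
    rw [← QuotientGroup.mk_mul, ← QuotientGroup.mk_mul, h1]
  have h1 := Subgroup.relIndex_mul_index hle
  rw [Subgroup.index_comap_of_surjective _ (QuotientGroup.mk'_surjective N)] at h1
  unfold centralChar
  rw [← h1]
  simp only [Function.comp_apply, QuotientGroup.mk_one]
  push_cast
  ring

/-- the central characters vanish mod `J` at the elements which do not centralize a normal
`p`-subgroup -/
theorem centralChar_memLocalIdeal_of_not_centralize (p : ℕ) [Fact p.Prime] (M : Ideal AlgInt)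
    (hM : IsPModular p M) (N : Subgroup G) [hNn : N.Normal] (hN : IsPGroup p N)
    (χ : IrrCharacter G) (x : G) (hx : x ∉ Subgroup.centralizer (N : Set G)) :
    MemLocalIdeal M (centralChar (χ : G → ℂ) x) := by
  classical
  have hMp : M.IsPrime := hM.2.1.isPrime
  have hMtop : M ≠ ⊤ := hMp.ne_top
  obtain ⟨χ', hχ', hker⟩ := exists_mem_block_ker p M hM χ N hN
  have h1 : MemLocalIdeal M (centralChar (χ : G → ℂ) x - centralChar (χ' : G → ℂ) x) := hχ' x
  obtain ⟨ψ, hψ, hχψ⟩ := irr_deflation N χ'.2 hker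
  have h2 : MemLocalIdeal M (centralChar (χ' : G → ℂ) x) := by
    rw [hχψ, centralChar_inflation N ψ x]
    have hdvd : p ∣ (Subgroup.centralizer ({x} : Set G)).relIndex
        ((Subgroup.centralizer ({(QuotientGroup.mk x : G ⧸ N)} : Set (G ⧸ N))).comap
          (QuotientGroup.mk' N)) := by
      apply prime_dvd_relIndex_of_not_le N hN
      · intro n hn
        rw [Subgroup.mem_comap, Subgroup.mem_centralizer_iff]
        intro z _
        have : (QuotientGroup.mk' N) n = 1 := (QuotientGroup.eq_one_iff n).2 hn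
        rw [this, mul_one, one_mul]
      · intro hle
        apply hx
        rw [Subgroup.mem_centralizer_iff]
        intro n hn
        have := Subgroup.mem_centralizer_iff.1 (hle hn) x (Set.mem_singleton x)
        exact this.symm
    obtain ⟨m, hm⟩ := hdvd
    rw [hm]
    push_cast
    have hint : IsIntegral ℤ (centralChar ψ (QuotientGroup.mk x : G ⧸ N)) :=
      helper23.irr_centralChar_isIntegral ⟨ψ, hψ⟩ _
    have e : (p : ℂ) * (m : ℂ) * centralChar ψ (QuotientGroup.mk x : G ⧸ N) =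
        ((m : ℂ) * centralChar ψ (QuotientGroup.mk x : G ⧸ N)) * (p : ℂ) := by ring
    rw [e]
    exact memLocalIdeal_mul_left (memLocalRing_of_integral hMtop
      ((isIntegral_natCast_complex m).mul hint)) (prime_memLocalIdeal hM)
  have e : centralChar (χ : G → ℂ) x =
      (centralChar (χ : G → ℂ) x - centralChar (χ' : G → ℂ) x) + centralChar (χ' : G → ℂ) x := by
    ring
  rw [e]
  exact memLocalIdeal_add h1 h2

/-- a normal `p`-subgroup is contained in every Sylow `p`-subgroup -/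
theorem normal_pgroup_le_sylow {C : Type*} [Group C] [Finite C] {p : ℕ} [Fact p.Prime]
    (H : Subgroup C) [hHn : H.Normal] (hH : IsPGroup p H) (P : Sylow p C) :
    H ≤ (P : Subgroup C) := by
  obtain ⟨Q, hQ⟩ := hH.exists_le_sylow
  obtain ⟨c, hc⟩ := MulAction.exists_smul_eq C Q P
  subst hc
  intro h hh
  rw [Sylow.coe_subgroup_smul, Subgroup.mem_pointwise_smul_iff_inv_smul_mem, MulAut.smul_def,
    MulAut.conj_inv_apply]
  apply hQ
  have := hHn.conj_mem h hh c⁻¹
  rwa [inv_inv] at this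

/-- every defect group contains every normal `p`-subgroup -/
theorem pCore_le_defectGroup (p : ℕ) [Fact p.Prime] (M : Ideal AlgInt) (hM : IsPModular p M)
    (B : Set (IrrCharacter G)) (hB : IsPBlock M B) (D : Subgroup G)
    (hD : IsDefectGroup p M B D) : pCore p G ≤ D := by
  classical
  have hMp : M.IsPrime := hM.2.1.isPrime
  obtain ⟨g, hg, P, rfl⟩ := hD
  obtain ⟨χ₀, rfl⟩ := hB
  apply sSup_le
  rintro N ⟨hNn, hNp⟩
  have hgN : g ∈ Subgroup.centralizer (N : Set G) := by
    by_contra h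
    exact hg.2.2 χ₀ (sameBlock_refl M hMp.ne_top _)
      (centralChar_memLocalIdeal_of_not_centralize p M hM N hNp χ₀ g h)
  have hNC : N ≤ Subgroup.centralizer ({g} : Set G) := by
    intro n hn
    rw [Subgroup.mem_centralizer_iff]
    intro z hz
    rw [Set.mem_singleton_iff] at hz
    subst hz
    exact (Subgroup.mem_centralizer_iff.1 hgN n hn).symm
  have hnorm : (N.subgroupOf (Subgroup.centralizer ({g} : Set G))).Normal :=
    Subgroup.Normal.subgroupOf hNn _
  have hle := normal_pgroup_le_sylow (N.subgroupOf (Subgroup.centralizer ({g} : Set G)))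
    hNp.comap_subtype P
  intro n hn
  exact ⟨⟨n, hNC hn⟩, hle (Subgroup.mem_subgroupOf.2 hn), rfl⟩

end KL

end Cfsg.Agent.helper24
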