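import Mathlib
import Cfsg.Agent.Lib_helper24_NormalP

set_option autoImplicit false

namespace Cfsg.Agent.helper24

open Cfsg
open scoped ComplexConjugate

universe u

section Induced

variable {G : Type u} [Group G] [Fintype G]

/-- min-max, first half, for an arbitrary `p`-subgroup centralizing `h` -/
theorem minmax_a_sub (p : ℕ) [Fact p.Prime] (M : Ideal AlgInt) (hM : IsPModular p M)
    (B : Set (IrrCharacter G)) (hB : IsPBlock M B) (h : G)
    (hJ : ¬ MemLocalIdeal M (blockCoeff B h)) (S : Subgroup G) (hSp : IsPGroup p S)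
    (hSh : ∀ s ∈ S, s * h = h * s) :
    ∃ E : Subgroup G, IsDefectGroup p M B E ∧ S ≤ E := by
  classical
  have hMp : M.IsPrime := hM.2.1.isPrime
  obtain ⟨g, hg⟩ := exists_defectClass p M hM B hB
  obtain ⟨χ₀, rfl⟩ := hB
  obtain ⟨v, hvcf, hvloc, hv1, hv2⟩ := exists_block_inverse (M := M) χ₀ g hg.2.2
  have hne : ¬ MemLocalIdeal M (cconv v (classInd g) h) := by
    rw [hv2]
    exact hJ
  obtain ⟨k, hk, hkS⟩ := exists_conj_commute_of_cconv hM v hvcf hvloc S hSp h g hSh hne
  obtain ⟨t, rfl⟩ := isConj_iff.1 hk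
  have hS1 : ∀ s ∈ S, s * (1 * (t * g * t⁻¹) * 1⁻¹) = (1 * (t * g * t⁻¹) * 1⁻¹) * s := by
    intro s hs
    simpa using hkS s hs
  obtain ⟨Q, hQ⟩ := exists_sylow_centralizer_ge (t * g * t⁻¹) S hSp 1 hS1
  refine ⟨_, ⟨t * g * t⁻¹, isDefectClass_conj hg t, Q, rfl⟩, ?_⟩
  intro s hs
  apply hQ
  exact ⟨s, hs, by simp⟩

open Classical in
theorem inducedCentralChar_eq_sum (H : Subgroup G) [Fintype H] (ξ : H → ℂ) (g : G) :
    inducedCentralChar H ξ g = ∑ h : H, if IsConj g (h : G) then ξ h / ξ 1 else 0 := by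
  unfold inducedCentralChar
  rw [finsum_mem_eq_finite_toFinset_sum _ (Set.toFinite _), ← Finset.sum_filter]
  apply Finset.sum_congr
  · ext h
    simp
  · intro _ _
    rfl

open Classical in
/-- the central character of a subgroup on the restriction of a central element of `G` -/
theorem omegaFn_restrict_eq_sum (H : Subgroup G) [Fintype H] (ξ : H → ℂ) {a : G → ℂ}
    (ha : IsClassFunction G a) :
    omegaFn ξ (fun h : H => a (h : G)) =
      ∑ C : ConjClasses G, a (Quotient.out C) * inducedCentralChar H ξ (Quotient.out C) := by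
  unfold omegaFn
  rw [Finset.sum_div]
  have hfib := Finset.sum_fiberwise (s := (Finset.univ : Finset H))
    (g := fun h : H => ConjClasses.mk (h : G)) (f := fun h : H => a (h : G) * ξ h / ξ 1)
  rw [← hfib]
  refine Finset.sum_congr rfl (fun C _ => ?_)
  rw [inducedCentralChar_eq_sum, Finset.mul_sum, Finset.sum_filter]
  refine Finset.sum_congr rfl (fun h _ => ?_)
  by_cases hc : ConjClasses.mk (h : G) = C
  · have hconj : IsConj (Quotient.out C) (h : G) := by
      rw [← ConjClasses.mk_eq_mk_iff_isConj, hc]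
      exact Quotient.out_eq C
    rw [if_pos hc, if_pos hconj, isClassFunction_iff_isConj.mp ha _ _ hconj]
    ring
  · have hconj : ¬ IsConj (Quotient.out C) (h : G) := by
      intro hcj
      apply hc
      rw [← ConjClasses.mk_eq_mk_iff_isConj] at hcj
      rw [← hcj]
      exact Quotient.out_eq C
    rw [if_neg hc, if_neg hconj, mul_zero]

/-- an induced block has the same central character on the central elements with local
coefficients -/
theorem induced_omegaFn_sub {M : Ideal AlgInt} [hMp : M.IsPrime] (H : Subgroup G) [Fintype H]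
    {b : Set (IrrCharacter H)} {B : Set (IrrCharacter G)} (hind : IsInducedBlock M H b B)
    {ξ : IrrCharacter H} (hξ : ξ ∈ b) {χ : IrrCharacter G} (hχ : χ ∈ B) {a : G → ℂ}
    (ha : IsClassFunction G a) (hl : ∀ g, MemLocalRing M (a g)) :
    MemLocalIdeal M (omegaFn (ξ : H → ℂ) (fun h : H => a (h : G)) - omegaFn (χ : G → ℂ) a) := by
  classical
  rw [omegaFn_restrict_eq_sum H _ ha, omegaFn_eq_sum_classes (irr_isCharacter χ.2) ha,
    ← Finset.sum_sub_distrib]
  apply memLocalIdeal_sum
  intro C _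
  rw [← mul_sub]
  exact memLocalIdeal_mul_left (hl _) (hind.2.2 ξ hξ χ hχ _)

/-- if the central character is a unit on a central element with local coefficients, then some
class has both its coefficient and its central character value units -/
theorem exists_coeff_centralChar_not_mem {M : Ideal AlgInt} [hMp : M.IsPrime]
    (ξ : IrrCharacter G) {a : G → ℂ} (ha : IsClassFunction G a)
    (hl : ∀ g, MemLocalRing M (a g)) (hne : ¬ MemLocalIdeal M (omegaFn (ξ : G → ℂ) a)) :
    ∃ l : G, ¬ MemLocalIdeal M (a l) ∧ ¬ MemLocalIdeal M (centralChar (ξ : G → ℂ) l) := by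
  classical
  by_contra hno
  push Not at hno
  apply hne
  rw [omegaFn_eq_sum_classes (irr_isCharacter ξ.2) ha]
  apply memLocalIdeal_sum
  intro C _
  by_cases h1 : MemLocalIdeal M (a (Quotient.out C))
  · rw [mul_comm]
    exact memLocalIdeal_mul_left (centralChar_memLocalRing hMp.ne_top ξ _) h1
  · exact memLocalIdeal_mul_left (hl _) (hno _ h1)

theorem restrict_isClassFunction (H : Subgroup G) {a : G → ℂ} (ha : IsClassFunction G a) :
    IsClassFunction H (fun h : H => a (h : G)) := by
  intro g k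
  show a ((k * g * k⁻¹ : H) : G) = a (g : G)
  push_cast
  exact ha _ _

/-- if `b` induces `B`, some element of `H` has unit coefficient in `e_B` and unit central
character for `b` -/
theorem induced_exists_common_class (p : ℕ) [Fact p.Prime] (M : Ideal AlgInt)
    (hM : IsPModular p M) (H : Subgroup G) [Fintype H] (b : Set (IrrCharacter H))
    (B : Set (IrrCharacter G)) (hind : IsInducedBlock M H b B) (ξ : IrrCharacter H)
    (hξ : ξ ∈ b) :
    ∃ l : H, ¬ MemLocalIdeal M (blockCoeff B (l : G)) ∧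
      ¬ MemLocalIdeal M (centralChar (ξ : H → ℂ) l) := by
  classical
  have hMp : M.IsPrime := hM.2.1.isPrime
  have hMtop : M ≠ ⊤ := hMp.ne_top
  obtain ⟨χ₀, hχ₀⟩ := hind.2.1
  have hχ₀B : χ₀ ∈ B := by
    rw [hχ₀]
    exact sameBlock_refl M hMtop _
  obtain ⟨hcf, hl, -, -⟩ := blockCoeff_props (M := M) χ₀
  rw [← hχ₀] at hcf hl
  have h1 := induced_omegaFn_sub H hind hξ hχ₀B hcf hl
  have h2 : omegaFn (χ₀ : G → ℂ) (blockCoeff B) = 1 := by
    rw [omegaFn_blockCoeff, if_pos hχ₀B]
  rw [h2] at h1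
  have h3 : ¬ MemLocalIdeal M (omegaFn (ξ : H → ℂ) (fun h : H => blockCoeff B (h : G))) := by
    intro h
    apply not_memLocalIdeal_one (M := M)
    have := memLocalIdeal_sub h h1
    simpa using this
  exact exists_coeff_centralChar_not_mem ξ (restrict_isClassFunction H hcf) (fun h => hl _) h3

/-- the defect groups of a block are contained in defect groups of the induced block -/
theorem defectGroup_induced_le (p : ℕ) [Fact p.Prime] (M : Ideal AlgInt) (hM : IsPModular p M)
    (H : Subgroup G) [Fintype H] (b : Set (IrrCharacter H)) (B : Set (IrrCharacter G))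
    (hind : IsInducedBlock M H b B) (D : Subgroup H) (hD : IsDefectGroup p M b D) :
    ∃ E : Subgroup G, IsDefectGroup p M B E ∧ D.map H.subtype ≤ E := by
  classical
  have hMp : M.IsPrime := hM.2.1.isPrime
  have hMtop : M ≠ ⊤ := hMp.ne_top
  obtain ⟨ξ₀, hξ₀⟩ := hind.1
  have hξ₀b : ξ₀ ∈ b := by
    rw [hξ₀]
    exact sameBlock_refl M hMtop _
  obtain ⟨l, hl1, hl2⟩ := induced_exists_common_class p M hM H b B hind ξ₀ hξ₀b
  obtain ⟨h₀, hh₀, PD, rfl⟩ := hD
  obtain ⟨x, Q, hxQ⟩ := minmax_b p M hM b hind.1 h₀ hh₀ PD l ⟨ξ₀, hξ₀b, hl2⟩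
  have hcf := blockCoeff_isClassFunction B
  apply minmax_a_sub p M hM B hind.2.1 ((x⁻¹ * l * x : H) : G)
  · have e : ((x⁻¹ * l * x : H) : G) = (x : G)⁻¹ * (l : G) * ((x : G)⁻¹)⁻¹ := by
      push_cast
      rw [inv_inv]
    rw [e, hcf]
    exact hl1
  · exact (PD.isPGroup'.map _).map _
  · rintro _ ⟨d, ⟨d', hd', rfl⟩, rfl⟩
    have h1 : (MulAut.conj x).toMonoidHom ((Subgroup.centralizer ({h₀} : Set H)).subtype d') ∈
        ((PD : Subgroup (Subgroup.centralizer ({h₀} : Set H))).map
          (Subgroup.centralizer ({h₀} : Set H)).subtype).map (MulAut.conj x).toMonoidHom :=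
      ⟨_, ⟨d', hd', rfl⟩, rfl⟩
    obtain ⟨q, -, hq⟩ := hxQ h1
    have h2 : (q : H) = x * (d' : H) * x⁻¹ := hq
    have h3 := Subgroup.mem_centralizer_iff.1 q.2 l (Set.mem_singleton l)
    rw [h2] at h3
    have h4 : (d' : H) * (x⁻¹ * l * x) = (x⁻¹ * l * x) * (d' : H) := by
      calc (d' : H) * (x⁻¹ * l * x) = x⁻¹ * ((x * (d' : H) * x⁻¹) * l) * x := by group
        _ = x⁻¹ * (l * (x * (d' : H) * x⁻¹)) * x := by rw [h3]
        _ = (x⁻¹ * l * x) * (d' : H) := by group
    have h5 := congrArg (fun z : H => (z : G)) h4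
    simpa using h5

end Induced

end Cfsg.Agent.helper24
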