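import Mathlib
import Cfsg.Agent.Lib_helper24_Induced

set_option autoImplicit false

namespace Cfsg.Agent.helper24

open Cfsg
open scoped ComplexConjugate

universe u

section Basics

variable {G : Type u} [Group G] [Fintype G]

/-- the central character of a central element with local coefficients is local -/
theorem omegaFn_memLocalRing {M : Ideal AlgInt} [hMp : M.IsPrime] (ξ : IrrCharacter G)
    {w : G → ℂ} (hw : IsClassFunction G w) (hl : ∀ g, MemLocalRing M (w g)) :
    MemLocalRing M (omegaFn (ξ : G → ℂ) w) := by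
  classical
  rw [omegaFn_eq_sum_classes (irr_isCharacter ξ.2) hw]
  apply memLocalRing_sum
  intro C _
  exact memLocalRing_mul (hl _) (centralChar_memLocalRing hMp.ne_top ξ _)

/-- the central character of a central element with coefficients in `J` lies in `J` -/
theorem omegaFn_memLocalIdeal {M : Ideal AlgInt} [hMp : M.IsPrime] (ξ : IrrCharacter G)
    {w : G → ℂ} (hw : IsClassFunction G w) (hl : ∀ g, MemLocalIdeal M (w g)) :
    MemLocalIdeal M (omegaFn (ξ : G → ℂ) w) := by
  classical
  rw [omegaFn_eq_sum_classes (irr_isCharacter ξ.2) hw]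
  apply memLocalIdeal_sum
  intro C _
  rw [mul_comm]
  exact memLocalIdeal_mul_left (centralChar_memLocalRing hMp.ne_top ξ _) (hl _)

theorem omegaFn_sub (χ u v : G → ℂ) : omegaFn χ (u - v) = omegaFn χ u - omegaFn χ v := by
  rw [sub_eq_add_neg, omegaFn_add, omegaFn_neg, ← sub_eq_add_neg]

theorem cconv_memLocalRing {M : Ideal AlgInt} [hMp : M.IsPrime] {u v : G → ℂ}
    (hu : ∀ g, MemLocalRing M (u g)) (hv : ∀ g, MemLocalRing M (v g)) (g : G) :
    MemLocalRing M (cconv u v g) := by
  unfold cconv
  apply memLocalRing_sum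
  intro x _
  exact memLocalRing_mul (hu _) (hv _)

theorem cconv_memLocalIdeal_left {M : Ideal AlgInt} [hMp : M.IsPrime] {u v : G → ℂ}
    (hu : ∀ g, MemLocalIdeal M (u g)) (hv : ∀ g, MemLocalRing M (v g)) (g : G) :
    MemLocalIdeal M (cconv u v g) := by
  unfold cconv
  apply memLocalIdeal_sum
  intro x _
  rw [mul_comm]
  exact memLocalIdeal_mul_left (hv _) (hu _)

theorem cconv_sub_left (u u' v : G → ℂ) : cconv (u - u') v = cconv u v - cconv u' v := by
  funext g
  unfold cconv
  simp only [Pi.sub_apply, sub_mul, Finset.sum_sub_distrib]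

theorem cconv_sub_right (u v v' : G → ℂ) : cconv u (v - v') = cconv u v - cconv u v' := by
  funext g
  unfold cconv
  simp only [Pi.sub_apply, mul_sub, Finset.sum_sub_distrib]

theorem cconv_smul_right (u : G → ℂ) (c : ℂ) (v : G → ℂ) : cconv u (c • v) = c • cconv u v := by
  funext g
  unfold cconv
  simp only [Pi.smul_apply, smul_eq_mul, Finset.mul_sum]
  refine Finset.sum_congr rfl (fun x _ => ?_)
  ring

theorem cconv_deltaOne_right (u : G → ℂ) : cconv u (deltaOne G) = u := by
  classical
  funext g
  unfold cconv deltaOne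
  rw [Finset.sum_eq_single g]
  · simp
  · intro x _ hne
    have : ¬ x⁻¹ * g = 1 := by
      intro h
      apply hne
      have : g = x := by
        calc g = x * (x⁻¹ * g) := by group
          _ = x := by rw [h, mul_one]
      exact this.symm
    simp [this]
  · intro h
    exact absurd (Finset.mem_univ _) h

theorem cconv_deltaOne_left (u : G → ℂ) : cconv (deltaOne G) u = u := by
  classical
  funext g
  unfold cconv deltaOne
  rw [Finset.sum_eq_single (1 : G)]
  · simp
  · intro x _ hne
    simp [hne]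
  · intro h
    exact absurd (Finset.mem_univ _) h

theorem blockOf_eq_of_mem {M : Ideal AlgInt} [hMp : M.IsPrime] {B : Set (IrrCharacter G)}
    (hB : IsPBlock M B) {χ : IrrCharacter G} (hχ : χ ∈ B) : blockOf M (χ : G → ℂ) = B := by
  obtain ⟨χ₀, rfl⟩ := hB
  ext ψ
  constructor
  · intro h
    exact sameBlock_trans hχ h
  · intro h
    exact sameBlock_trans (sameBlock_symm hχ) h

/-- a linear functional on the centre of the group ring over the local ring which is
multiplicative modulo `J` coincides modulo `J` with some central character -/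
theorem exists_irr_of_algHom_mod {M : Ideal AlgInt} [hMp : M.IsPrime] (Λ : (G → ℂ) → ℂ)
    (hsub : ∀ u v, Λ (u - v) = Λ u - Λ v) (hsmul : ∀ (c : ℂ) u, Λ (c • u) = c * Λ u)
    (hR : ∀ u, IsClassFunction G u → (∀ g, MemLocalRing M (u g)) → MemLocalRing M (Λ u))
    (hmul : ∀ u v, IsClassFunction G u → (∀ g, MemLocalRing M (u g)) → IsClassFunction G v →
      (∀ g, MemLocalRing M (v g)) → MemLocalIdeal M (Λ (cconv u v) - Λ u * Λ v))
    (hone : Λ (deltaOne G) = 1) :
    ∃ χ : IrrCharacter G, ∀ u, IsClassFunction G u → (∀ g, MemLocalRing M (u g)) →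
      MemLocalIdeal M (Λ u - omegaFn (χ : G → ℂ) u) := by
  classical
  have := Fintype.ofFinite (IrrCharacter G)
  have hMtop : M ≠ ⊤ := hMp.ne_top
  by_contra hno
  push Not at hno
  choose a ha_cf ha_R ha_ne using hno
  obtain ⟨c, hc⟩ : ∃ c : IrrCharacter G → ℂ, c = fun χ : IrrCharacter G => omegaFn (χ : G → ℂ) (a χ) := ⟨_, rfl⟩
  have hcR : ∀ χ, MemLocalRing M (c χ) := fun χ => by
    rw [hc]
    exact omegaFn_memLocalRing χ (ha_cf χ) (ha_R χ)
  have hd_cf : IsClassFunction G (deltaOne G) := deltaOne_isClassFunction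
  have hd_R : ∀ g, MemLocalRing M (deltaOne G g) := by
    intro g
    unfold deltaOne
    split_ifs
    · exact memLocalRing_one hMtop
    · exact memLocalRing_zero hMtop
  have key : ∀ S : Finset (IrrCharacter G), ∃ z : G → ℂ, IsClassFunction G z ∧
      (∀ g, MemLocalRing M (z g)) ∧
      (∀ ψ : IrrCharacter G, omegaFn (ψ : G → ℂ) z =
        ∏ χ ∈ S, (omegaFn (ψ : G → ℂ) (a χ) - c χ)) ∧ ¬ MemLocalIdeal M (Λ z) := by
    intro S
    induction S using Finset.induction_on with
    | empty =>
      refine ⟨deltaOne G, hd_cf, hd_R, ?_, ?_⟩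
      · intro ψ
        rw [Finset.prod_empty]
        exact omegaFn_deltaOne (irr_apply_one_ne_zero ψ.2)
      · rw [hone]
        exact not_memLocalIdeal_one
    | insert χ S hχS ih =>
      obtain ⟨z, hz_cf, hz_R, hz_ω, hz_ne⟩ := ih
      have hw_cf : IsClassFunction G (a χ - c χ • deltaOne G) :=
        isClassFunction_sub (ha_cf χ) (isClassFunction_smul _ hd_cf)
      have hw_R : ∀ g, MemLocalRing M ((a χ - c χ • deltaOne G) g) := by
        intro g
        show MemLocalRing M (a χ g - c χ • deltaOne G g)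
        exact memLocalRing_sub (ha_R χ g) (memLocalRing_mul (hcR χ) (hd_R g))
      refine ⟨cconv z (a χ - c χ • deltaOne G), cconv_isClassFunction hz_cf hw_cf,
        fun g => cconv_memLocalRing hz_R hw_R g, ?_, ?_⟩
      · intro ψ
        rw [omegaFn_cconv ψ.2 _ hw_cf, hz_ω ψ, Finset.prod_insert hχS, omegaFn_sub, omegaFn_smul,
          omegaFn_deltaOne (irr_apply_one_ne_zero ψ.2), mul_one, mul_comm]
      · intro hJ
        have h1 := hmul z (a χ - c χ • deltaOne G) hz_cf hz_R hw_cf hw_R
        have h2 : Λ (a χ - c χ • deltaOne G) = Λ (a χ) - c χ := by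
          rw [hsub, hsmul, hone, mul_one]
        rw [h2] at h1
        have h3 : ¬ MemLocalIdeal M (Λ z * (Λ (a χ) - c χ)) := by
          apply not_memLocalIdeal_mul (hR z hz_cf hz_R)
            (memLocalRing_sub (hR _ (ha_cf χ) (ha_R χ)) (hcR χ)) hz_ne
          rw [hc]
          exact ha_ne χ
        apply h3
        have := memLocalIdeal_sub hJ h1
        simpa using this
  obtain ⟨z, hz_cf, hz_R, hz_ω, hz_ne⟩ := key Finset.univ
  have hz0 : z = 0 := by
    apply classFunction_ext_omega hz_cf (fun g k => rfl)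
    intro ψ
    rw [hz_ω ψ, omegaFn_zero]
    apply Finset.prod_eq_zero (Finset.mem_univ ψ)
    rw [hc]
    exact sub_self _
  apply hz_ne
  rw [hz0]
  have : Λ (0 : G → ℂ) = 0 := by
    have := hsub 0 0
    simpa using this
  rw [this]
  exact memLocalIdeal_zero hMtop

/-- an element of the centre which is idempotent modulo `J` and not zero modulo `J` is detected
by some central character -/
theorem exists_omega_not_mem_of_idem {M : Ideal AlgInt} [hMp : M.IsPrime] (ε : G → ℂ)
    (hε_cf : IsClassFunction G ε) (hε_R : ∀ g, MemLocalRing M (ε g))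
    (hidem : ∀ g, MemLocalIdeal M (cconv ε ε g - ε g)) (c : G) (hc : ¬ MemLocalIdeal M (ε c)) :
    ∃ ξ : IrrCharacter G, ¬ MemLocalIdeal M (omegaFn (ξ : G → ℂ) ε) := by
  classical
  have := Fintype.ofFinite (IrrCharacter G)
  have hMtop : M ≠ ⊤ := hMp.ne_top
  by_contra hno
  push Not at hno
  have hd_cf : IsClassFunction G (deltaOne G) := deltaOne_isClassFunction
  have hd_R : ∀ g, MemLocalRing M (deltaOne G g) := by
    intro g
    unfold deltaOne
    split_ifs
    · exact memLocalRing_one hMtop
    · exact memLocalRing_zero hMtop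
  have key : ∀ S : Finset (IrrCharacter G), ∃ z : G → ℂ, IsClassFunction G z ∧
      (∀ g, MemLocalRing M (z g)) ∧
      (∀ ψ : IrrCharacter G, omegaFn (ψ : G → ℂ) z =
        ∏ χ ∈ S, (omegaFn (ψ : G → ℂ) ε - omegaFn (χ : G → ℂ) ε)) ∧
      ∀ g, MemLocalIdeal M (cconv z ε g - ε g) := by
    intro S
    induction S using Finset.induction_on with
    | empty =>
      refine ⟨deltaOne G, hd_cf, hd_R, ?_, ?_⟩
      · intro ψ
        rw [Finset.prod_empty]
        exact omegaFn_deltaOne (irr_apply_one_ne_zero ψ.2)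
      · intro g
        rw [cconv_deltaOne_left, sub_self]
        exact memLocalIdeal_zero hMtop
    | insert χ S hχS ih =>
      obtain ⟨z, hz_cf, hz_R, hz_ω, hz_id⟩ := ih
      obtain ⟨cχ, hcχ⟩ : ∃ cχ : ℂ, cχ = omegaFn (χ : G → ℂ) ε := ⟨_, rfl⟩
      have hcJ : MemLocalIdeal M cχ := by
        rw [hcχ]
        exact hno χ
      have hcR : MemLocalRing M cχ := memLocalRing_of_memLocalIdeal hcJ
      have hw_cf : IsClassFunction G (ε - cχ • deltaOne G) :=
        isClassFunction_sub hε_cf (isClassFunction_smul _ hd_cf)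
      have hw_R : ∀ g, MemLocalRing M ((ε - cχ • deltaOne G) g) := by
        intro g
        show MemLocalRing M (ε g - cχ • deltaOne G g)
        exact memLocalRing_sub (hε_R g) (memLocalRing_mul hcR (hd_R g))
      have hexp : cconv z (ε - cχ • deltaOne G) = cconv z ε - cχ • z := by
        rw [cconv_sub_right, cconv_smul_right, cconv_deltaOne_right]
      refine ⟨cconv z (ε - cχ • deltaOne G), cconv_isClassFunction hz_cf hw_cf,
        fun g => cconv_memLocalRing hz_R hw_R g, ?_, ?_⟩
      · intro ψ
        rw [omegaFn_cconv ψ.2 _ hw_cf, hz_ω ψ, Finset.prod_insert hχS, omegaFn_sub, omegaFn_smul,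
          omegaFn_deltaOne (irr_apply_one_ne_zero ψ.2), mul_one, mul_comm, hcχ]
      · intro g
        -- `z' * ε - ε = (z*ε - ε) * ε + (ε * ε - ε) - cχ (z * ε)`
        obtain ⟨j, hj⟩ : ∃ j : G → ℂ, j = cconv z ε - ε := ⟨_, rfl⟩
        have hjJ : ∀ g, MemLocalIdeal M (j g) := by
          intro g
          rw [hj]
          exact hz_id g
        have e : cconv (cconv z (ε - cχ • deltaOne G)) ε g - ε g =
            cconv j ε g + (cconv ε ε g - ε g) - cχ * cconv z ε g := by
          rw [hexp, cconv_sub_left, hj, cconv_sub_left]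
          have : cconv (cχ • z) ε = cχ • cconv z ε := by
            funext g
            unfold cconv
            simp only [Pi.smul_apply, smul_eq_mul, Finset.mul_sum]
            refine Finset.sum_congr rfl (fun x _ => ?_)
            ring
          rw [this]
          simp only [Pi.sub_apply, Pi.smul_apply, smul_eq_mul]
          ring
        rw [e]
        apply memLocalIdeal_sub (memLocalIdeal_add (cconv_memLocalIdeal_left hjJ hε_R g) (hidem g))
        rw [mul_comm]
        exact memLocalIdeal_mul_left (cconv_memLocalRing hz_R hε_R g) hcJ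
  obtain ⟨z, hz_cf, hz_R, hz_ω, hz_id⟩ := key Finset.univ
  have hz0 : z = 0 := by
    apply classFunction_ext_omega hz_cf (fun g k => rfl)
    intro ψ
    rw [hz_ω ψ, omegaFn_zero]
    apply Finset.prod_eq_zero (Finset.mem_univ ψ)
    exact sub_self _
  apply hc
  have h1 := hz_id c
  rw [hz0] at h1
  have h2 : cconv (0 : G → ℂ) ε c = 0 := by
    unfold cconv
    simp
  rw [h2, zero_sub] at h1
  have := memLocalIdeal_neg h1
  rwa [neg_neg] at this

end Basics

section Brauer

variable {G : Type u} [Group G]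

/-- conjugation action of a subgroup on a stable subset -/
@[reducible] def conjSetAction (S : Subgroup G) (Y : Set G)
    (hY : ∀ s ∈ S, ∀ y ∈ Y, s * y * s⁻¹ ∈ Y) : MulAction S Y where
  smul s y := ⟨(s : G) * y.1 * (s : G)⁻¹, hY s s.2 y.1 y.2⟩
  one_smul y := by
    apply Subtype.ext
    show ((1 : S) : G) * y.1 * ((1 : S) : G)⁻¹ = y.1
    simp
  mul_smul s t y := by
    apply Subtype.ext
    show ((s * t : S) : G) * y.1 * ((s * t : S) : G)⁻¹ =
      (s : G) * ((t : G) * y.1 * (t : G)⁻¹) * (s : G)⁻¹
    simp [mul_assoc]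

theorem conj_mem_centralizer_of_mem_normalizer {P : Subgroup G} {k g : G}
    (hk : k ∈ Subgroup.normalizer (P : Set G)) (hg : g ∈ Subgroup.centralizer (P : Set G)) :
    k * g * k⁻¹ ∈ Subgroup.centralizer (P : Set G) := by
  rw [Subgroup.mem_centralizer_iff] at hg ⊢
  intro s hs
  have h1 : k⁻¹ * s * k ∈ P := (Subgroup.mem_normalizer_iff''.1 hk s).1 hs
  have h2 := hg _ h1
  calc s * (k * g * k⁻¹) = k * ((k⁻¹ * s * k) * g) * k⁻¹ := by group
    _ = k * (g * (k⁻¹ * s * k)) * k⁻¹ := by rw [h2]
    _ = k * g * k⁻¹ * s := by group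

open Classical in
/-- the Brauer map: the part of a function on `G` supported on `C_G(P)`, as a function on `H` -/
noncomputable def brRes (P H : Subgroup G) (u : G → ℂ) : H → ℂ :=
  fun h => if (h : G) ∈ Subgroup.centralizer (P : Set G) then u h else 0

theorem brRes_sub (P H : Subgroup G) (u v : G → ℂ) :
    brRes P H (u - v) = brRes P H u - brRes P H v := by
  classical
  funext h
  unfold brRes
  simp only [Pi.sub_apply]
  split_ifs <;> simp

theorem brRes_smul (P H : Subgroup G) (c : ℂ) (u : G → ℂ) :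
    brRes P H (c • u) = c • brRes P H u := by
  classical
  funext h
  unfold brRes
  simp only [Pi.smul_apply]
  split_ifs <;> simp

theorem brRes_deltaOne (P H : Subgroup G) : brRes P H (deltaOne G) = deltaOne H := by
  classical
  funext h
  unfold brRes deltaOne
  by_cases hh : h = 1
  · subst hh
    simp [Subgroup.one_mem]
  · have : ¬ (h : G) = 1 := fun h1 => hh (Subtype.ext h1)
    simp [this, hh]

theorem brRes_isClassFunction {P H : Subgroup G}
    (hHN : H ≤ Subgroup.normalizer (P : Set G)) {u : G → ℂ} (hu : IsClassFunction G u) :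
    IsClassFunction H (brRes P H u) := by
  classical
  intro g k
  unfold brRes
  have e : ((k * g * k⁻¹ : H) : G) = (k : G) * (g : G) * (k : G)⁻¹ := by
    push_cast
    rfl
  have hiff : ((k * g * k⁻¹ : H) : G) ∈ Subgroup.centralizer (P : Set G) ↔
      (g : G) ∈ Subgroup.centralizer (P : Set G) := by
    rw [e]
    constructor
    · intro h
      have := conj_mem_centralizer_of_mem_normalizer (Subgroup.inv_mem _ (hHN k.2)) h
      have e2 : (k : G)⁻¹ * ((k : G) * (g : G) * (k : G)⁻¹) * ((k : G)⁻¹)⁻¹ = (g : G) := by group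
      rwa [e2] at this
    · intro h
      exact conj_mem_centralizer_of_mem_normalizer (hHN k.2) h
  simp only [hiff]
  rw [e, hu]

theorem brRes_memLocalRing {M : Ideal AlgInt} (hMtop : M ≠ ⊤) (P H : Subgroup G) {u : G → ℂ}
    (hu : ∀ g, MemLocalRing M (u g)) (h : H) : MemLocalRing M (brRes P H u h) := by
  classical
  unfold brRes
  split_ifs
  · exact hu _
  · exact memLocalRing_zero hMtop

variable [Fintype G]

/-- the Brauer map is multiplicative modulo `J` -/
theorem brRes_cconv_sub {p : ℕ} {M : Ideal AlgInt} (hM : IsPModular p M) {P H : Subgroup G}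
    [Fintype H] (hP : IsPGroup p P) (hCH : Subgroup.centralizer (P : Set G) ≤ H) {u v : G → ℂ}
    (hu_cf : IsClassFunction G u) (hu : ∀ g, MemLocalRing M (u g)) (hv_cf : IsClassFunction G v)
    (hv : ∀ g, MemLocalRing M (v g)) (h : H) :
    MemLocalIdeal M (brRes P H (cconv u v) h - cconv (brRes P H u) (brRes P H v) h) := by
  classical
  have hMp : M.IsPrime := hM.2.1.isPrime
  have hMtop : M ≠ ⊤ := hMp.ne_top
  obtain ⟨C, hC⟩ : ∃ C : Subgroup G, C = Subgroup.centralizer (P : Set G) := ⟨_, rfl⟩
  have hCH' : C ≤ H := by rw [hC]; exact hCH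
  by_cases hh : (h : G) ∈ C
  · have e1 : brRes P H (cconv u v) h = ∑ x : G, u x * v (x⁻¹ * h) := by
      unfold brRes
      rw [← hC, if_pos hh]
      rfl
    have e3 : ∀ x : H, brRes P H u x * brRes P H v (x⁻¹ * h) =
        (fun y : G => if y ∈ C then u y * v (y⁻¹ * h) else 0) (x : G) := by
      intro x
      unfold brRes
      rw [← hC]
      by_cases hx : (x : G) ∈ C
      · have hxh : ((x⁻¹ * h : H) : G) ∈ C := by
          push_cast
          exact C.mul_mem (C.inv_mem hx) hh
        simp only [if_pos hx, if_pos hxh]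
        push_cast
        rfl
      · simp only [if_neg hx, zero_mul]
    have e2 : cconv (brRes P H u) (brRes P H v) h =
        ∑ y : G, if y ∈ C then u y * v (y⁻¹ * h) else 0 := by
      unfold cconv
      rw [Finset.sum_congr rfl (fun x _ => e3 x)]
      rw [← Finset.sum_subtype (Finset.univ.filter (fun y : G => y ∈ H)) (by simp)
        (fun y : G => if y ∈ C then u y * v (y⁻¹ * h) else 0), Finset.sum_filter]
      refine Finset.sum_congr rfl (fun y _ => ?_)
      by_cases hy : y ∈ C
      · rw [if_pos (hCH' hy)]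
      · rw [if_neg hy]
        split_ifs <;> rfl
    rw [e1, e2, ← Finset.sum_sub_distrib]
    have e4 : ∀ x : G, (u x * v (x⁻¹ * h) - if x ∈ C then u x * v (x⁻¹ * h) else 0) =
        if x ∉ C then u x * v (x⁻¹ * h) else 0 := by
      intro x
      by_cases hx : x ∈ C
      · rw [if_pos hx, if_neg (not_not.2 hx), sub_self]
      · rw [if_neg hx, if_pos hx, sub_zero]
    rw [Finset.sum_congr rfl (fun x _ => e4 x), ← Finset.sum_filter,
      Finset.sum_subtype (Finset.univ.filter (fun x : G => x ∉ C)) (p := fun x : G => x ∉ C)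
        (by simp) (fun x : G => u x * v (x⁻¹ * h))]
    have hY : ∀ s ∈ P, ∀ y ∈ {x : G | x ∉ C}, s * y * s⁻¹ ∈ {x : G | x ∉ C} := by
      intro s hs y hy hcon
      apply hy
      rw [hC] at hcon ⊢
      have := conj_mem_centralizer_of_mem_normalizer
        (Subgroup.inv_mem _ (Subgroup.le_normalizer hs)) hcon
      have e : s⁻¹ * (s * y * s⁻¹) * s⁻¹⁻¹ = y := by group
      rwa [e] at this
    letI act : MulAction P {x : G // x ∉ C} := conjSetAction P {x : G | x ∉ C} hY
    apply sum_memLocalIdeal_of_no_fixed hM hP (fun y : {x : G // x ∉ C} => u y * v ((y : G)⁻¹ * h))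
    · intro y
      exact memLocalRing_mul (hu _) (hv _)
    · intro t y
      show u ((t : G) * (y : G) * (t : G)⁻¹) * v (((t : G) * (y : G) * (t : G)⁻¹)⁻¹ * h) =
        u y * v ((y : G)⁻¹ * h)
      have hth : (t : G) * h = h * (t : G) := by
        rw [hC] at hh
        exact Subgroup.mem_centralizer_iff.1 hh t t.2
      have e : ((t : G) * (y : G) * (t : G)⁻¹)⁻¹ * h = (t : G) * ((y : G)⁻¹ * h) * (t : G)⁻¹ := by
        calc ((t : G) * (y : G) * (t : G)⁻¹)⁻¹ * h = (t : G) * (y : G)⁻¹ * ((t : G)⁻¹ * h) := by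
              group
          _ = (t : G) * (y : G)⁻¹ * (h * (t : G)⁻¹) := by
              have : (t : G)⁻¹ * h = h * (t : G)⁻¹ := by
                calc (t : G)⁻¹ * h = (t : G)⁻¹ * (h * (t : G)) * (t : G)⁻¹ := by group
                  _ = (t : G)⁻¹ * ((t : G) * h) * (t : G)⁻¹ := by rw [hth]
                  _ = h * (t : G)⁻¹ := by group
              rw [this]
          _ = (t : G) * ((y : G)⁻¹ * h) * (t : G)⁻¹ := by group
      rw [e, hv_cf, hu_cf]
    · intro y
      have hy0 : (y : G) ∉ C := y.2
      have hy : (y : G) ∉ Subgroup.centralizer (P : Set G) := by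
        rw [← hC]
        exact hy0
      rw [Subgroup.mem_centralizer_iff] at hy
      push Not at hy
      obtain ⟨s, hs, hne⟩ := hy
      refine ⟨⟨s, hs⟩, fun heq => hne ?_⟩
      have h1 : s * (y : G) * s⁻¹ = (y : G) := congrArg Subtype.val heq
      exact mul_inv_eq_iff_eq_mul.mp h1
  · have e1 : brRes P H (cconv u v) h = 0 := by
      unfold brRes
      rw [← hC, if_neg hh]
    have e2 : cconv (brRes P H u) (brRes P H v) h = 0 := by
      unfold cconv
      apply Finset.sum_eq_zero
      intro x _
      unfold brRes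
      rw [← hC]
      by_cases hx : (x : G) ∈ C
      · have hxh : ((x⁻¹ * h : H) : G) ∉ C := by
          intro hcon
          apply hh
          have := C.mul_mem hx hcon
          have e : (x : G) * ((x⁻¹ * h : H) : G) = (h : G) := by
            push_cast
            group
          rwa [e] at this
        rw [if_neg hxh, mul_zero]
      · rw [if_neg hx, zero_mul]
    rw [e1, e2, sub_self]
    exact memLocalIdeal_zero hMtop

end Brauer

section BrauerOmega

variable {G : Type u} [Group G] [Fintype G]

/-- the central character of `ξ` composed with the Brauer map -/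
noncomputable def brOmega (P H : Subgroup G) [Fintype H] (ξ : H → ℂ) (u : G → ℂ) : ℂ :=
  omegaFn ξ (brRes P H u)

open Classical in
theorem brauerCentralChar_eq (P H : Subgroup G) [Fintype H] (ξ : H → ℂ) (g : G) :
    brauerCentralChar P H ξ g = brOmega P H ξ (classInd g) := by
  unfold brauerCentralChar brOmega omegaFn brRes classInd
  rw [finsum_mem_eq_finite_toFinset_sum _ (Set.toFinite _), Finset.sum_div]
  rw [← Finset.sum_filter_add_sum_filter_not Finset.univ
    (fun h : H => IsConj g (h : G) ∧ (h : G) ∈ Subgroup.centralizer (P : Set G))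
    (fun h : H => (if (h : G) ∈ Subgroup.centralizer (P : Set G) then
      (if IsConj g (h : G) then (1 : ℂ) else 0) else 0) * ξ h / ξ 1)]
  have h2 : ∑ h ∈ Finset.univ.filter (fun h : H => ¬ (IsConj g (h : G) ∧
      (h : G) ∈ Subgroup.centralizer (P : Set G))),
      (if (h : G) ∈ Subgroup.centralizer (P : Set G) then
        (if IsConj g (h : G) then (1 : ℂ) else 0) else 0) * ξ h / ξ 1 = 0 := by
    apply Finset.sum_eq_zero
    intro h hh
    rw [Finset.mem_filter] at hh
    have h3 := hh.2
    by_cases h4 : (h : G) ∈ Subgroup.centralizer (P : Set G)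
    · have h5 : ¬ IsConj g (h : G) := fun h5 => h3 ⟨h5, h4⟩
      rw [if_pos h4, if_neg h5, zero_mul, zero_div]
    · rw [if_neg h4, zero_mul, zero_div]
  rw [h2, add_zero]
  apply Finset.sum_congr
  · ext h
    simp
  · intro h hh
    rw [Finset.mem_filter] at hh
    rw [if_pos hh.2.2, if_pos hh.2.1, one_mul]

open Classical in
theorem inducedCentralChar_eq_omegaFn (H : Subgroup G) [Fintype H] (ξ : H → ℂ) (g : G) :
    inducedCentralChar H ξ g = omegaFn ξ (fun h : H => classInd g (h : G)) := by
  rw [inducedCentralChar_eq_sum]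
  unfold omegaFn classInd
  rw [Finset.sum_div]
  refine Finset.sum_congr rfl (fun h _ => ?_)
  by_cases hc : IsConj g (h : G)
  · simp only [if_pos hc, one_mul]
  · simp only [if_neg hc, zero_mul, zero_div]

/-- the induced central character and its Brauer-map version agree modulo `J` -/
theorem induced_sub_brauer (p : ℕ) [Fact p.Prime] (M : Ideal AlgInt) (hM : IsPModular p M)
    {P H : Subgroup G} [Fintype H] (hP : IsPGroup p P) (hPH : P ≤ H)
    (hHN : H ≤ Subgroup.normalizer (P : Set G)) (ξ : IrrCharacter H) (g : G) :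
    MemLocalIdeal M (inducedCentralChar H (ξ : H → ℂ) g - brauerCentralChar P H (ξ : H → ℂ) g) := by
  classical
  have hMp : M.IsPrime := hM.2.1.isPrime
  have hMtop : M ≠ ⊤ := hMp.ne_top
  rw [inducedCentralChar_eq_omegaFn, brauerCentralChar_eq]
  unfold brOmega
  rw [← omegaFn_sub]
  have hcf1 : IsClassFunction H (fun h : H => classInd g (h : G)) :=
    restrict_isClassFunction H (classInd_isClassFunction g)
  have hcf2 : IsClassFunction H (brRes P H (classInd g)) :=
    brRes_isClassFunction hHN (classInd_isClassFunction g)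
  rw [omegaFn_eq_sum_classes (irr_isCharacter ξ.2) (isClassFunction_sub hcf1 hcf2)]
  apply memLocalIdeal_sum
  intro C _
  obtain ⟨l, hl⟩ : ∃ l : H, l = Quotient.out C := ⟨_, rfl⟩
  rw [← hl]
  by_cases hlC : (l : G) ∈ Subgroup.centralizer (P : Set G)
  · have : ((fun h : H => classInd g (h : G)) - brRes P H (classInd g)) l = 0 := by
      show classInd g (l : G) - brRes P H (classInd g) l = 0
      unfold brRes
      rw [if_pos hlC, sub_self]
    rw [this, zero_mul]
    exact memLocalIdeal_zero hMtop
  · have hnorm : (P.subgroupOf H).Normal := Subgroup.normal_subgroupOf_of_le_normalizer hHN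
    have hl' : l ∉ Subgroup.centralizer ((P.subgroupOf H : Subgroup H) : Set H) := by
      intro hcon
      apply hlC
      rw [Subgroup.mem_centralizer_iff] at hcon ⊢
      intro s hs
      have h1 := hcon ⟨s, hPH hs⟩ (Subgroup.mem_subgroupOf.2 hs)
      exact congrArg Subtype.val h1
    have h1 := centralChar_memLocalIdeal_of_not_centralize p M hM (P.subgroupOf H)
      hP.comap_subtype ξ l hl'
    have h2 : MemLocalRing M (((fun h : H => classInd g (h : G)) - brRes P H (classInd g)) l) := by
      show MemLocalRing M (classInd g (l : G) - brRes P H (classInd g) l)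
      unfold brRes
      rw [if_neg hlC, sub_zero]
      unfold classInd
      split_ifs
      · exact memLocalRing_one hMtop
      · exact memLocalRing_zero hMtop
    exact memLocalIdeal_mul_left h2 h1

theorem classInd_memLocalRing {M : Ideal AlgInt} (hMtop : M ≠ ⊤) (g x : G) :
    MemLocalRing M (classInd g x) := by
  classical
  unfold classInd
  split_ifs
  · exact memLocalRing_one hMtop
  · exact memLocalRing_zero hMtop

/-- every block of `H`, `P C(P) ≤ H ≤ N(P)`, induces a block of `G` -/
theorem brauer_block_exists (p : ℕ) [Fact p.Prime] (M : Ideal AlgInt) (hM : IsPModular p M)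
    {P H : Subgroup G} [Fintype H] (hP : IsPGroup p P) (hPH : P ≤ H)
    (hCH : Subgroup.centralizer (P : Set G) ≤ H) (hHN : H ≤ Subgroup.normalizer (P : Set G))
    (ξ₀ : IrrCharacter H) :
    ∃ χ : IrrCharacter G,
      (∀ u, IsClassFunction G u → (∀ g, MemLocalRing M (u g)) →
        MemLocalIdeal M (brOmega P H (ξ₀ : H → ℂ) u - omegaFn (χ : G → ℂ) u)) ∧
      IsInducedBlock M H (blockOf M (ξ₀ : H → ℂ)) (blockOf M (χ : G → ℂ)) := by
  classical
  have hMp : M.IsPrime := hM.2.1.isPrime
  have hMtop : M ≠ ⊤ := hMp.ne_top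
  obtain ⟨χ, hχ⟩ := exists_irr_of_algHom_mod (M := M) (brOmega P H (ξ₀ : H → ℂ))
    (fun u v => by unfold brOmega; rw [brRes_sub, omegaFn_sub])
    (fun c u => by unfold brOmega; rw [brRes_smul, omegaFn_smul])
    (fun u hu hR => omegaFn_memLocalRing ξ₀ (brRes_isClassFunction hHN hu)
      (fun h => brRes_memLocalRing hMtop P H hR h))
    (fun u v hu hRu hv hRv => by
      unfold brOmega
      rw [← omegaFn_cconv ξ₀.2 _ (brRes_isClassFunction hHN hv), ← omegaFn_sub]
      apply omegaFn_memLocalIdeal ξ₀
      · exact isClassFunction_sub (brRes_isClassFunction hHN (cconv_isClassFunction hu hv))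
          (cconv_isClassFunction (brRes_isClassFunction hHN hu) (brRes_isClassFunction hHN hv))
      · intro h
        exact brRes_cconv_sub hM hP hCH hu hRu hv hRv h)
    (by
      unfold brOmega
      rw [brRes_deltaOne]
      exact omegaFn_deltaOne (irr_apply_one_ne_zero ξ₀.2))
  refine ⟨χ, hχ, ⟨ξ₀, rfl⟩, ⟨χ, rfl⟩, ?_⟩
  intro ξ hξ χ' hχ' g
  have t1 := induced_sub_brauer p M hM hP hPH hHN ξ g
  have hw_cf : IsClassFunction H (brRes P H (classInd g)) :=
    brRes_isClassFunction hHN (classInd_isClassFunction g)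
  have hw_R : ∀ h, MemLocalRing M (brRes P H (classInd g) h) :=
    fun h => brRes_memLocalRing hMtop P H (classInd_memLocalRing hMtop g) h
  have t2 : MemLocalIdeal M (brOmega P H (ξ : H → ℂ) (classInd g) -
      brOmega P H (ξ₀ : H → ℂ) (classInd g)) :=
    omegaFn_sub_memLocalIdeal (sameBlock_symm hξ) hw_cf hw_R
  have t3 := hχ (classInd g) (classInd_isClassFunction g) (classInd_memLocalRing hMtop g)
  rw [omegaFn_classInd (irr_isCharacter χ.2)] at t3
  have t4 : MemLocalIdeal M (centralChar (χ : G → ℂ) g - centralChar (χ' : G → ℂ) g) := hχ' g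
  rw [brauerCentralChar_eq] at t1
  have e : inducedCentralChar H (ξ : H → ℂ) g - centralChar (χ' : G → ℂ) g =
      (inducedCentralChar H (ξ : H → ℂ) g - brOmega P H (ξ : H → ℂ) (classInd g)) +
      (brOmega P H (ξ : H → ℂ) (classInd g) - brOmega P H (ξ₀ : H → ℂ) (classInd g)) +
      (brOmega P H (ξ₀ : H → ℂ) (classInd g) - centralChar (χ : G → ℂ) g) +
      (centralChar (χ : G → ℂ) g - centralChar (χ' : G → ℂ) g) := by ring
  rw [e]
  exact memLocalIdeal_add (memLocalIdeal_add (memLocalIdeal_add t1 t2) t3) t4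

/-- `b` induces `B` iff the Brauer-map central character of `b` is that of `B` -/
theorem isInducedBlock_iff_brauer (p : ℕ) [Fact p.Prime] (M : Ideal AlgInt) (hM : IsPModular p M)
    {P H : Subgroup G} [Fintype H] (hP : IsPGroup p P) (hPH : P ≤ H)
    (hHN : H ≤ Subgroup.normalizer (P : Set G)) (b : Set (IrrCharacter H)) (hb : IsPBlock M b)
    (B : Set (IrrCharacter G)) (hB : IsPBlock M B) :
    IsInducedBlock M H b B ↔ ∀ ξ ∈ b, ∀ χ ∈ B, ∀ g : G,
      MemLocalIdeal M (brauerCentralChar P H (ξ : H → ℂ) g - centralChar (χ : G → ℂ) g) := by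
  have hMp : M.IsPrime := hM.2.1.isPrime
  constructor
  · intro hind ξ hξ χ hχ g
    have h1 := hind.2.2 ξ hξ χ hχ g
    have h2 := induced_sub_brauer p M hM hP hPH hHN ξ g
    have e : brauerCentralChar P H (ξ : H → ℂ) g - centralChar (χ : G → ℂ) g =
        (inducedCentralChar H (ξ : H → ℂ) g - centralChar (χ : G → ℂ) g) -
        (inducedCentralChar H (ξ : H → ℂ) g - brauerCentralChar P H (ξ : H → ℂ) g) := by ring
    rw [e]
    exact memLocalIdeal_sub h1 h2
  · intro h
    refine ⟨hb, hB, fun ξ hξ χ hχ g => ?_⟩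
    have h1 := h ξ hξ χ hχ g
    have h2 := induced_sub_brauer p M hM hP hPH hHN ξ g
    have e : inducedCentralChar H (ξ : H → ℂ) g - centralChar (χ : G → ℂ) g =
        (brauerCentralChar P H (ξ : H → ℂ) g - centralChar (χ : G → ℂ) g) +
        (inducedCentralChar H (ξ : H → ℂ) g - brauerCentralChar P H (ξ : H → ℂ) g) := by ring
    rw [e]
    exact memLocalIdeal_add h1 h2

/-- a block of `G` is induced from `H`, `P C(P) ≤ H ≤ N(P)`, as soon as `P` centralizes an
element of the support modulo `J` of its idempotent -/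
theorem exists_induced_of_support (p : ℕ) [Fact p.Prime] (M : Ideal AlgInt) (hM : IsPModular p M)
    {P H : Subgroup G} [Fintype H] (hP : IsPGroup p P) (hPH : P ≤ H)
    (hCH : Subgroup.centralizer (P : Set G) ≤ H) (hHN : H ≤ Subgroup.normalizer (P : Set G))
    (B : Set (IrrCharacter G)) (hB : IsPBlock M B) (c : G)
    (hc : c ∈ Subgroup.centralizer (P : Set G)) (hcJ : ¬ MemLocalIdeal M (blockCoeff B c)) :
    ∃ b : Set (IrrCharacter H), IsInducedBlock M H b B := by
  classical
  have hMp : M.IsPrime := hM.2.1.isPrime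
  have hMtop : M ≠ ⊤ := hMp.ne_top
  obtain ⟨χ₀, hχ₀⟩ := hB
  obtain ⟨hcf, hl, -, hidem⟩ := blockCoeff_props (M := M) χ₀
  rw [← hχ₀] at hcf hl hidem
  obtain ⟨ε, hε⟩ : ∃ ε : H → ℂ, ε = brRes P H (blockCoeff B) := ⟨_, rfl⟩
  have hε_cf : IsClassFunction H ε := by
    rw [hε]
    exact brRes_isClassFunction hHN hcf
  have hε_R : ∀ h, MemLocalRing M (ε h) := by
    intro h
    rw [hε]
    exact brRes_memLocalRing hMtop P H hl h
  have hε_id : ∀ h, MemLocalIdeal M (cconv ε ε h - ε h) := by
    intro h
    have h1 := brRes_cconv_sub hM hP hCH hcf hl hcf hl h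
    rw [hidem, ← hε] at h1
    have := memLocalIdeal_neg h1
    rwa [neg_sub] at this
  have hεc : ¬ MemLocalIdeal M (ε ⟨c, hCH hc⟩) := by
    rw [hε]
    unfold brRes
    rw [if_pos hc]
    exact hcJ
  obtain ⟨ξ, hξ⟩ := exists_omega_not_mem_of_idem ε hε_cf hε_R hε_id ⟨c, hCH hc⟩ hεc
  obtain ⟨χ, hχ1, hχ2⟩ := brauer_block_exists p M hM hP hPH hCH hHN ξ
  have h1 := hχ1 (blockCoeff B) hcf hl
  have hχB : χ ∈ B := by
    by_contra hno
    rw [omegaFn_blockCoeff, if_neg hno, sub_zero] at h1
    apply hξ
    rw [hε]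
    exact h1
  have hBeq : blockOf M (χ : G → ℂ) = B := blockOf_eq_of_mem ⟨χ₀, hχ₀⟩ hχB
  rw [hBeq] at hχ2
  exact ⟨_, hχ2⟩

end BrauerOmega

end Cfsg.Agent.helper24
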