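import Mathlib
import Cfsg.Agent.Lib_helper24_BrauerMap
import Cfsg.Agent.Lib_helper24_DefectZero

set_option autoImplicit false

namespace Cfsg.Agent.helper24

open Cfsg
open scoped ComplexConjugate

universe u

section FirstMain

variable {G : Type u} [Group G] [Fintype G]

theorem exists_defectGroup (p : ℕ) [Fact p.Prime] (M : Ideal AlgInt) (hM : IsPModular p M)
    (B : Set (IrrCharacter G)) (hB : IsPBlock M B) : ∃ D : Subgroup G, IsDefectGroup p M B D := by
  obtain ⟨g, hg⟩ := exists_defectClass p M hM B hB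
  exact ⟨_, g, hg, default, rfl⟩

theorem defectGroup_isPGroup (p : ℕ) [Fact p.Prime] (M : Ideal AlgInt)
    (B : Set (IrrCharacter G)) (D : Subgroup G) (hD : IsDefectGroup p M B D) : IsPGroup p D := by
  obtain ⟨g, -, P, rfl⟩ := hD
  exact P.isPGroup'.map _

/-- a normal `p`-subgroup of `H` lies in every defect group of every block of `H` -/
theorem subgroupOf_le_defectGroup (p : ℕ) [Fact p.Prime] (M : Ideal AlgInt) (hM : IsPModular p M)
    {P H : Subgroup G} [Fintype H] (hP : IsPGroup p P)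
    (hHN : H ≤ Subgroup.normalizer (P : Set G)) (b : Set (IrrCharacter H)) (hb : IsPBlock M b)
    (Db : Subgroup H) (hDb : IsDefectGroup p M b Db) : P.subgroupOf H ≤ Db := by
  have hnorm : (P.subgroupOf H).Normal := Subgroup.normal_subgroupOf_of_le_normalizer hHN
  have h1 : P.subgroupOf H ≤ pCore p H := le_sSup ⟨hnorm, hP.comap_subtype⟩
  exact h1.trans (pCore_le_defectGroup p M hM b hb Db hDb)

/-- if `P ≤ H ≤ N(P)`, `b` induces `B` and `P` is a defect group of `B`, then `P` is the defect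
group of `b` -/
theorem defectGroup_of_induced_local (p : ℕ) [Fact p.Prime] (M : Ideal AlgInt)
    (hM : IsPModular p M) {P H : Subgroup G} [Fintype H] (hPH : P ≤ H)
    (hHN : H ≤ Subgroup.normalizer (P : Set G)) (b : Set (IrrCharacter H))
    (B : Set (IrrCharacter G)) (hind : IsInducedBlock M H b B) (hPB : IsDefectGroup p M B P)
    (Db : Subgroup H) (hDb : IsDefectGroup p M b Db) : Db.map H.subtype = P := by
  have hP : IsPGroup p P := defectGroup_isPGroup p M B P hPB
  have h1 := subgroupOf_le_defectGroup p M hM hP hHN b hind.1 Db hDb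
  obtain ⟨E, hE, hDE⟩ := defectGroup_induced_le p M hM H b B hind Db hDb
  have hPD : P ≤ Db.map H.subtype := by
    intro s hs
    exact ⟨⟨s, hPH hs⟩, h1 (Subgroup.mem_subgroupOf.2 hs), rfl⟩
  have hcard : Nat.card E ≤ Nat.card P := by
    rw [card_defectGroup p M hM B hind.2.1 E hE, card_defectGroup p M hM B hind.2.1 P hPB]
  have hPE : P = E := Subgroup.eq_of_le_of_card_ge (hPD.trans hDE) hcard
  apply le_antisymm
  · rw [hPE]
    exact hDE
  · exact hPD

/-- a block is induced from `H`, `P C(P) ≤ H ≤ N(P)`, iff `P` is conjugate into a defect group -/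
theorem induced_from_local_iff (p : ℕ) [Fact p.Prime] (M : Ideal AlgInt) (hM : IsPModular p M)
    (P H : Subgroup G) [Fintype H] (hP : IsPGroup p P)
    (hPH : P ⊔ Subgroup.centralizer (P : Set G) ≤ H)
    (hHN : H ≤ Subgroup.normalizer (P : Set G)) (B : Set (IrrCharacter G)) (hB : IsPBlock M B) :
    (∃ b : Set (IrrCharacter H), IsInducedBlock M H b B) ↔
      ∃ D : Subgroup G, IsDefectGroup p M B D ∧ ∃ x : G, P.map (MulAut.conj x).toMonoidHom ≤ D := by
  classical
  have hMp : M.IsPrime := hM.2.1.isPrime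
  have hP_H : P ≤ H := le_sup_left.trans hPH
  have hCH : Subgroup.centralizer (P : Set G) ≤ H := le_sup_right.trans hPH
  constructor
  · rintro ⟨b, hind⟩
    obtain ⟨Db, hDb⟩ := exists_defectGroup p M hM b hind.1
    have h1 := subgroupOf_le_defectGroup p M hM hP hHN b hind.1 Db hDb
    obtain ⟨E, hE, hDE⟩ := defectGroup_induced_le p M hM H b B hind Db hDb
    refine ⟨E, hE, 1, ?_⟩
    rintro _ ⟨s, hs, rfl⟩
    apply hDE
    refine ⟨⟨s, hP_H hs⟩, h1 (Subgroup.mem_subgroupOf.2 hs), ?_⟩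
    simp
  · rintro ⟨D, hD, x, hx⟩
    obtain ⟨g, -, hgJ, c, hgc, hcP⟩ := (brauer_nonzero_iff p M hM B hB D hD P hP).2 ⟨x, hx⟩
    have hcf := blockCoeff_isClassFunction B
    have hcJ : ¬ MemLocalIdeal M (blockCoeff B c) := by
      rw [← isClassFunction_iff_isConj.mp hcf g c hgc]
      exact hgJ
    exact exists_induced_of_support p M hM hP hP_H hCH hHN B hB c hcP hcJ

/-- defect groups are radical -/
theorem defectGroup_radical (p : ℕ) [Fact p.Prime] (M : Ideal AlgInt) (hM : IsPModular p M)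
    (B : Set (IrrCharacter G)) (hB : IsPBlock M B) (D : Subgroup G)
    (hD : IsDefectGroup p M B D) :
    (pCore p (Subgroup.normalizer (D : Set G))).map (Subgroup.normalizer (D : Set G)).subtype = D := by
  classical
  have := Fintype.ofFinite (Subgroup.normalizer (D : Set G))
  have hDp : IsPGroup p D := defectGroup_isPGroup p M B D hD
  have hDN : D ≤ Subgroup.normalizer (D : Set G) := Subgroup.le_normalizer
  have hsup : D ⊔ Subgroup.centralizer (D : Set G) ≤ Subgroup.normalizer (D : Set G) :=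
    sup_le hDN (Subgroup.centralizer_le_normalizer _)
  obtain ⟨b, hind⟩ := (induced_from_local_iff p M hM D (Subgroup.normalizer (D : Set G)) hDp hsup
    le_rfl B hB).2 ⟨D, hD, 1, by
      rintro _ ⟨s, hs, rfl⟩
      simpa using hs⟩
  obtain ⟨Db, hDb⟩ := exists_defectGroup p M hM b hind.1
  have hDbD := defectGroup_of_induced_local p M hM hDN le_rfl b B hind hD Db hDb
  apply le_antisymm
  · have h2 := pCore_le_defectGroup p M hM b hind.1 Db hDb
    exact (Subgroup.map_mono h2).trans hDbD.le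
  · have hnorm : (D.subgroupOf (Subgroup.normalizer (D : Set G))).Normal :=
      Subgroup.normal_subgroupOf_of_le_normalizer le_rfl
    have h1 : D.subgroupOf (Subgroup.normalizer (D : Set G)) ≤
        pCore p (Subgroup.normalizer (D : Set G)) := le_sSup ⟨hnorm, hDp.comap_subtype⟩
    intro s hs
    exact ⟨⟨s, hDN hs⟩, h1 (Subgroup.mem_subgroupOf.2 hs), rfl⟩

end FirstMain

section PPart

variable {G : Type u} [Group G]

/-- the `p`-part is a power -/
theorem ppart_eq_zpow {p : ℕ} (hp : p.Prime) {g z : G} (h : IsPPart p g z) :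
    ∃ n : ℤ, z = g ^ n := by
  obtain ⟨y, hzy, hc, ⟨k, hk⟩, hy⟩ := h
  have hcop : IsCoprime ((orderOf y : ℤ)) ((p : ℤ) ^ k) := by
    have hpZ : Prime (p : ℤ) := Nat.prime_iff_prime_int.mp hp
    have hne : ¬ (p : ℤ) ∣ (orderOf y : ℤ) := fun h3 => hy (Int.natCast_dvd_natCast.mp h3)
    exact ((hpZ.coprime_iff_not_dvd.mpr hne).symm).pow_right
  obtain ⟨a, b, hab⟩ := hcop
  refine ⟨a * orderOf y, ?_⟩
  rw [← hzy, hc.mul_zpow]
  have h1 : y ^ (a * (orderOf y : ℤ)) = 1 := by
    rw [mul_comm, zpow_mul, zpow_natCast, pow_orderOf_eq_one, one_zpow]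
  have hzp : z ^ ((p : ℤ) ^ k) = 1 := by
    have : ((p : ℤ) ^ k) = ((p ^ k : ℕ) : ℤ) := by
      push_cast
      rfl
    rw [this, zpow_natCast, ← hk, pow_orderOf_eq_one]
  have h2 : z ^ (a * (orderOf y : ℤ)) = z := by
    have h5 : z ^ (a * (orderOf y : ℤ)) * z ^ (b * (p : ℤ) ^ k) = z := by
      rw [← zpow_add, hab, zpow_one]
    have e2 : z ^ (b * (p : ℤ) ^ k) = 1 := by rw [mul_comm, zpow_mul, hzp, one_zpow]
    rw [e2, mul_one] at h5
    exact h5
  rw [h1, mul_one, h2]

theorem isPPart_conj {p : ℕ} {g z : G} (h : IsPPart p g z) (t : G) :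
    IsPPart p (t * g * t⁻¹) (t * z * t⁻¹) := by
  obtain ⟨y, hzy, hc, ⟨k, hk⟩, hy⟩ := h
  refine ⟨t * y * t⁻¹, ?_, ?_, ⟨k, ?_⟩, ?_⟩
  · rw [← hzy]
    group
  · show t * z * t⁻¹ * (t * y * t⁻¹) = t * y * t⁻¹ * (t * z * t⁻¹)
    have : z * y = y * z := hc.eq
    calc t * z * t⁻¹ * (t * y * t⁻¹) = t * (z * y) * t⁻¹ := by group
      _ = t * (y * z) * t⁻¹ := by rw [this]
      _ = t * y * t⁻¹ * (t * z * t⁻¹) := by group
  · rw [← hk]
    exact (MulAut.conj t).orderOf_eq z
  · have : orderOf (t * y * t⁻¹) = orderOf y := (MulAut.conj t).orderOf_eq y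
    rw [this]
    exact hy

/-- a `p`-part in the ambient group of an element of a subgroup is a `p`-part in the subgroup -/
theorem isPPart_subgroup {p : ℕ} (hp : p.Prime) (H : Subgroup G) (l : H) (z₀ : G)
    (h : IsPPart p (l : G) z₀) : ∃ z' : H, (z' : G) = z₀ ∧ IsPPart p l z' := by
  obtain ⟨n, hn⟩ := ppart_eq_zpow hp h
  obtain ⟨y, hzy, hc, ⟨k, hk⟩, hy⟩ := h
  have hz' : ((l ^ n : H) : G) = z₀ := by
    rw [hn]
    push_cast
    rfl
  have hy' : (((l ^ n)⁻¹ * l : H) : G) = y := by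
    push_cast
    rw [← hn, ← hzy]
    group
  refine ⟨l ^ n, hz', (l ^ n)⁻¹ * l, by group, ?_, ⟨k, ?_⟩, ?_⟩
  · show l ^ n * ((l ^ n)⁻¹ * l) = (l ^ n)⁻¹ * l * l ^ n
    have hcm : l * l ^ n = l ^ n * l := ((Commute.refl l).zpow_right n).eq
    rw [mul_assoc, hcm]
    group
  · rw [← Subgroup.orderOf_coe, hz', hk]
  · rw [← Subgroup.orderOf_coe, hy']
    exact hy

end PPart

section CenterConj

variable {G : Type u} [Group G] [Fintype G]

omit [Fintype G] in
theorem degree_factorization_add_defect (p : ℕ) (b : Set (IrrCharacter G)) (ξ : IrrCharacter G)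
    (hξ : ξ ∈ b) :
    (Nat.card G).factorization p ≤
      (charDegree (ξ : G → ℂ)).factorization p + blockDefect p b := by
  unfold blockDefect
  have h1 : sInf ((fun χ : IrrCharacter G => (charDegree (χ : G → ℂ)).factorization p) '' b) ≤
      (charDegree (ξ : G → ℂ)).factorization p := Nat.sInf_le ⟨ξ, hξ, rfl⟩
  omega

/-- if `b` induces `B`, an element at which the central character of `B` is a unit is conjugate
to an element of `H` at which the central character of `b` is a unit -/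
theorem exists_conj_in_subgroup_of_induced (p : ℕ) [Fact p.Prime] (M : Ideal AlgInt)
    (hM : IsPModular p M) (H : Subgroup G) [Fintype H] (b : Set (IrrCharacter H))
    (B : Set (IrrCharacter G)) (hind : IsInducedBlock M H b B) (ξ₀ : IrrCharacter H)
    (hξ₀ : ξ₀ ∈ b) (g : G) (hg : ∃ χ ∈ B, ¬ MemLocalIdeal M (centralChar (χ : G → ℂ) g)) :
    ∃ l : H, IsConj g (l : G) ∧ ¬ MemLocalIdeal M (centralChar (ξ₀ : H → ℂ) l) := by
  classical
  have hMp : M.IsPrime := hM.2.1.isPrime
  have hMtop : M ≠ ⊤ := hMp.ne_top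
  obtain ⟨χ, hχB, hχJ⟩ := hg
  have h1 := hind.2.2 ξ₀ hξ₀ χ hχB g
  have h2 : ¬ MemLocalIdeal M (inducedCentralChar H (ξ₀ : H → ℂ) g) := by
    intro h
    apply hχJ
    have := memLocalIdeal_sub h h1
    simpa using this
  rw [inducedCentralChar_eq_omegaFn] at h2
  obtain ⟨l, hl1, hl2⟩ := exists_coeff_centralChar_not_mem ξ₀
    (restrict_isClassFunction H (classInd_isClassFunction g))
    (fun h => classInd_memLocalRing hMtop g _) h2
  refine ⟨l, ?_, hl2⟩
  by_contra hno
  apply hl1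
  show MemLocalIdeal M (classInd g (l : G))
  unfold classInd
  rw [if_neg hno]
  exact memLocalIdeal_zero hMtop

/-- an element at which the central character of a block is a unit has a conjugate centralizing
the defect group with `p`-part in the centre of the defect group -/
theorem exists_conj_centralizing_defectGroup (p : ℕ) [Fact p.Prime] (M : Ideal AlgInt)
    (hM : IsPModular p M) (B : Set (IrrCharacter G)) (hB : IsPBlock M B) (P : Subgroup G)
    (hP : IsDefectGroup p M B P) (g : G)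
    (hg : ∃ χ ∈ B, ¬ MemLocalIdeal M (centralChar (χ : G → ℂ) g)) :
    ∃ x : G, IsConj g x ∧ x ∈ Subgroup.centralizer (P : Set G) ∧
      ∀ z : G, IsPPart p x z → z ∈ P ∧ ∀ w ∈ P, z * w = w * z := by
  classical
  have hp : p.Prime := Fact.out
  have hMp : M.IsPrime := hM.2.1.isPrime
  have hMtop : M ≠ ⊤ := hMp.ne_top
  obtain ⟨N, hN⟩ : ∃ N : Subgroup G, N = Subgroup.normalizer (P : Set G) := ⟨_, rfl⟩
  have := Fintype.ofFinite N
  have hPp : IsPGroup p P := defectGroup_isPGroup p M B P hP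
  have hPN : P ≤ N := by
    rw [hN]
    exact Subgroup.le_normalizer
  have hNN : N ≤ Subgroup.normalizer (P : Set G) := by rw [hN]
  have hsup : P ⊔ Subgroup.centralizer (P : Set G) ≤ N := by
    rw [hN]
    exact sup_le Subgroup.le_normalizer (Subgroup.centralizer_le_normalizer _)
  obtain ⟨b, hind⟩ := (induced_from_local_iff p M hM P N hPp hsup hNN B hB).2 ⟨P, hP, 1, by
    rintro _ ⟨s, hs, rfl⟩
    simpa using hs⟩
  obtain ⟨ξ₀, hξ₀⟩ := hind.1
  have hξ₀b : ξ₀ ∈ b := by
    rw [hξ₀]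
    exact sameBlock_refl M hMtop _
  obtain ⟨l, hgl, hl2⟩ := exists_conj_in_subgroup_of_induced p M hM N b B hind ξ₀ hξ₀b g hg
  have hnorm : (P.subgroupOf N).Normal := Subgroup.normal_subgroupOf_of_le_normalizer hNN
  have hPp' : IsPGroup p (P.subgroupOf N) := hPp.comap_subtype
  have hlC' : l ∈ Subgroup.centralizer ((P.subgroupOf N : Subgroup N) : Set N) := by
    by_contra hno
    exact hl2 (centralChar_memLocalIdeal_of_not_centralize p M hM (P.subgroupOf N) hPp' ξ₀ l hno)
  have hlC : (l : G) ∈ Subgroup.centralizer (P : Set G) := by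
    rw [Subgroup.mem_centralizer_iff] at hlC' ⊢
    intro s hs
    have := hlC' ⟨s, hPN hs⟩ (Subgroup.mem_subgroupOf.2 hs)
    exact congrArg Subtype.val this
  refine ⟨(l : G), hgl, hlC, ?_⟩
  intro z hz
  obtain ⟨n, hn⟩ := ppart_eq_zpow hp hz
  have hzcomm : ∀ w ∈ P, z * w = w * z := by
    intro w hw
    have h3 : Commute w (l : G) := Subgroup.mem_centralizer_iff.1 hlC w hw
    rw [hn]
    exact ((h3.zpow_right n).eq).symm
  refine ⟨?_, hzcomm⟩
  -- a character of `b` with `P` in its kernel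
  obtain ⟨ξ', hξ'b, hker⟩ := exists_mem_block_ker p M hM ξ₀ (P.subgroupOf N) hPp'
  have hξ'l : ¬ MemLocalIdeal M (centralChar (ξ' : N → ℂ) l) := by
    intro h
    apply hl2
    have h4 : MemLocalIdeal M (centralChar (ξ₀ : N → ℂ) l - centralChar (ξ' : N → ℂ) l) := hξ'b l
    have := memLocalIdeal_add h4 h
    simpa using this
  have hξ'ne : (ξ' : N → ℂ) l ≠ 0 := by
    intro h0
    apply hξ'l
    unfold centralChar
    rw [h0, mul_zero, zero_div]
    exact memLocalIdeal_zero hMtop
  obtain ⟨ψ, hψ, hξψ⟩ := irr_deflation (P.subgroupOf N) ξ'.2 hker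
  -- degrees
  obtain ⟨Db, hDb⟩ := exists_defectGroup p M hM b hind.1
  have hDbP := defectGroup_of_induced_local p M hM hPN hNN b B hind hP Db hDb
  have hcardP' : Nat.card (P.subgroupOf N) = p ^ blockDefect p b := by
    rw [Nat.card_congr (Subgroup.subgroupOfEquivOfLe hPN).toEquiv, ← hDbP,
      Subgroup.card_map_of_injective (Subgroup.subtype_injective _)]
    exact card_defectGroup p M hM b hind.1 Db hDb
  have hcardN := Subgroup.card_eq_card_quotient_mul_card_subgroup (P.subgroupOf N)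
  have hξ'mem : ξ' ∈ b := by
    rw [hξ₀]
    exact hξ'b
  have hdegle := degree_factorization_add_defect p b ξ' hξ'mem
  have hqpos : Nat.card (N ⧸ P.subgroupOf N) ≠ 0 := Nat.card_pos.ne'
  have hfac : (Nat.card N).factorization p =
      (Nat.card (N ⧸ P.subgroupOf N)).factorization p + blockDefect p b := by
    rw [hcardN, Nat.factorization_mul hqpos (by rw [hcardP']; exact pow_ne_zero _ hp.ne_zero),
      Finsupp.add_apply, hcardP', Nat.factorization_pow_self hp]
  have hdegψ : charDegree ψ = charDegree (ξ' : N → ℂ) := by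
    rw [hξψ]
    unfold charDegree
    simp only [Function.comp_apply, QuotientGroup.mk_one]
  have hdeg : p ^ (Nat.card (N ⧸ P.subgroupOf N)).factorization p ∣ charDegree ψ := by
    rw [hp.pow_dvd_iff_le_factorization (irr_charDegree_pos hψ).ne', hdegψ]
    omega
  have hreg : ¬ p ∣ orderOf (QuotientGroup.mk l : N ⧸ P.subgroupOf N) := by
    intro hdiv
    apply hξ'ne
    have h5 := defect_zero_vanish p ⟨ψ, hψ⟩ hdeg (QuotientGroup.mk l : N ⧸ P.subgroupOf N) hdiv
    rw [hξψ]
    exact h5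
  -- the `p`-part dies in the quotient
  obtain ⟨y, hzy, hc, ⟨k, hk⟩, hy⟩ := hz
  have hzl : ((l ^ n : N) : G) = z := by
    rw [hn]
    push_cast
    rfl
  have ho1 : orderOf (QuotientGroup.mk (l ^ n) : N ⧸ P.subgroupOf N) ∣ p ^ k := by
    have h6 := orderOf_map_dvd (QuotientGroup.mk' (P.subgroupOf N)) (l ^ n)
    rw [← Subgroup.orderOf_coe, hzl, hk] at h6
    exact h6
  have ho2 : orderOf (QuotientGroup.mk (l ^ n) : N ⧸ P.subgroupOf N) ∣
      orderOf (QuotientGroup.mk l : N ⧸ P.subgroupOf N) := by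
    apply orderOf_dvd_of_pow_eq_one
    rw [QuotientGroup.mk_zpow, ← zpow_natCast, ← zpow_mul, mul_comm, zpow_mul, zpow_natCast,
      pow_orderOf_eq_one, one_zpow]
  obtain ⟨j, -, hj⟩ := (Nat.dvd_prime_pow hp).1 ho1
  have hj0 : j = 0 := by
    by_contra hj0
    apply hreg
    refine dvd_trans ?_ ho2
    rw [hj]
    exact dvd_pow_self p hj0
  rw [hj0, pow_zero, orderOf_eq_one_iff, QuotientGroup.eq_one_iff, Subgroup.mem_subgroupOf,
    hzl] at hj
  exact hj

/-- the centre of a defect group of `b^G` is conjugate into the centre of a defect group of `b` -/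
theorem center_defectGroup_conj (p : ℕ) [Fact p.Prime] (M : Ideal AlgInt) (hM : IsPModular p M)
    (H : Subgroup G) [Fintype H] (b : Set (IrrCharacter H)) (B : Set (IrrCharacter G))
    (hind : IsInducedBlock M H b B) (D : Subgroup H) (hD : IsDefectGroup p M b D)
    (P : Subgroup G) (hP : IsDefectGroup p M B P) (x : G) (hx : x ∈ P)
    (hxc : ∀ w ∈ P, x * w = w * x) :
    ∃ g : G, g * x * g⁻¹ ∈ D.map H.subtype ∧
      ∀ w ∈ D.map H.subtype, (g * x * g⁻¹) * w = w * (g * x * g⁻¹) := by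
  classical
  have := Fintype.ofFinite (IrrCharacter G)
  have hp : p.Prime := Fact.out
  have hMp : M.IsPrime := hM.2.1.isPrime
  have hMtop : M ≠ ⊤ := hMp.ne_top
  have hPp : IsPGroup p P := defectGroup_isPGroup p M B P hP
  obtain ⟨y, hy, PS, rfl⟩ := hP
  obtain ⟨x', hx'PS, rfl⟩ := hx
  have hcen : ∀ w ∈ (PS : Subgroup (Subgroup.centralizer ({y} : Set G))), x' * w = w * x' :=
    fun w hw => Subtype.ext (hxc _ ⟨w, hw, rfl⟩)
  have hval := (defectClass_values p M hM B hind.2.1 y hy PS x' hx'PS).2 hcen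
  obtain ⟨ξ₀, hξ₀⟩ := hind.1
  have hξ₀b : ξ₀ ∈ b := by
    rw [hξ₀]
    exact sameBlock_refl M hMtop _
  obtain ⟨χ₀, hχ₀⟩ := hind.2.1
  have hχ₀B : χ₀ ∈ B := by
    rw [hχ₀]
    exact sameBlock_refl M hMtop _
  obtain ⟨l, hgl, hl2⟩ := exists_conj_in_subgroup_of_induced p M hM H b B hind ξ₀ hξ₀b
    ((x' : G) * y) ⟨χ₀, hχ₀B, hval χ₀ hχ₀B⟩
  obtain ⟨l', hll', -, hl'z⟩ := exists_conj_centralizing_defectGroup p M hM b hind.1 D hD l
    ⟨ξ₀, hξ₀b, hl2⟩
  -- `l'` is conjugate in `G` to `x' y`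
  obtain ⟨t₁, ht₁⟩ := isConj_iff.1 hgl
  obtain ⟨t₂, ht₂⟩ := isConj_iff.1 hll'
  have hconj : ((t₂ : G) * t₁) * ((x' : G) * y) * ((t₂ : G) * t₁)⁻¹ = (l' : G) := by
    rw [← ht₂]
    push_cast
    rw [← ht₁]
    group
  -- the `p`-part of `x' y`
  have hyreg : ¬ p ∣ orderOf y := by
    intro hpy
    rw [hχ₀] at hy
    have h1 := blockCoeff_psingular p M hM χ₀ y hpy
    apply hy.2.1
    rw [h1]
    exact memLocalIdeal_zero hMtop
  have hpp : IsPPart p ((x' : G) * y) (x' : G) := by
    refine ⟨y, rfl, ?_, ?_, hyreg⟩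
    · have := Subgroup.mem_centralizer_iff.1 x'.2 y (Set.mem_singleton y)
      exact this.symm
    · obtain ⟨k, hk⟩ := (IsPGroup.iff_orderOf.mp PS.isPGroup') ⟨x', hx'PS⟩
      refine ⟨k, ?_⟩
      rw [Subgroup.orderOf_coe, ← hk]
      exact (Subgroup.orderOf_mk x' hx'PS).symm
  have hpp2 := isPPart_conj hpp ((t₂ : G) * t₁)
  rw [hconj] at hpp2
  obtain ⟨z', hz', hz'pp⟩ := isPPart_subgroup hp H l' _ hpp2
  obtain ⟨hz'D, hz'c⟩ := hl'z z' hz'pp
  refine ⟨(t₂ : G) * t₁, ?_, ?_⟩
  · show (t₂ : G) * t₁ * (x' : G) * ((t₂ : G) * t₁)⁻¹ ∈ D.map H.subtype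
    rw [← hz']
    exact ⟨z', hz'D, rfl⟩
  · rintro _ ⟨w, hw, rfl⟩
    show (t₂ : G) * t₁ * (x' : G) * ((t₂ : G) * t₁)⁻¹ * (w : G) =
      (w : G) * ((t₂ : G) * t₁ * (x' : G) * ((t₂ : G) * t₁)⁻¹)
    rw [← hz']
    have := hz'c w hw
    exact congrArg Subtype.val this

/-- if `b` induces `B`, then `b` has defect zero iff `B` has defect zero -/
theorem defect_zero_induced_iff (p : ℕ) [Fact p.Prime] (M : Ideal AlgInt) (hM : IsPModular p M)
    (H : Subgroup G) [Fintype H] (b : Set (IrrCharacter H)) (B : Set (IrrCharacter G))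
    (hind : IsInducedBlock M H b B) : blockDefect p b = 0 ↔ blockDefect p B = 0 := by
  classical
  have hp : p.Prime := Fact.out
  obtain ⟨Db, hDb⟩ := exists_defectGroup p M hM b hind.1
  obtain ⟨E, hE, hDE⟩ := defectGroup_induced_le p M hM H b B hind Db hDb
  have hcb := card_defectGroup p M hM b hind.1 Db hDb
  have hcE := card_defectGroup p M hM B hind.2.1 E hE
  constructor
  · intro hb0
    by_contra hB0
    rw [hb0, pow_zero] at hcb
    have hDbot : Db = ⊥ := Subgroup.eq_bot_of_card_eq Db hcb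
    have hEp : IsPGroup p E := defectGroup_isPGroup p M B E hE
    have hEnt : Nontrivial E := by
      rw [← Finite.one_lt_card_iff_nontrivial, hcE]
      exact Nat.one_lt_pow hB0 hp.one_lt
    have hcn := hEp.center_nontrivial
    obtain ⟨c, hc⟩ := exists_ne (1 : Subgroup.center E)
    have hcx : ((c : E) : G) ∈ E := (c : E).2
    have hcc : ∀ w ∈ E, ((c : E) : G) * w = w * ((c : E) : G) := by
      intro w hw
      have h1 := Subgroup.mem_center_iff.1 c.2 ⟨w, hw⟩
      exact (congrArg Subtype.val h1).symm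
    obtain ⟨g, hg, -⟩ := center_defectGroup_conj p M hM H b B hind Db hDb E hE _ hcx hcc
    rw [hDbot, Subgroup.map_bot, Subgroup.mem_bot] at hg
    apply hc
    apply Subtype.ext
    apply Subtype.ext
    show ((c : E) : G) = 1
    calc ((c : E) : G) = g⁻¹ * (g * ((c : E) : G) * g⁻¹) * g := by group
      _ = 1 := by rw [hg]; group
  · intro hB0
    rw [hB0, pow_zero] at hcE
    have hEbot : E = ⊥ := Subgroup.eq_bot_of_card_eq E hcE
    rw [hEbot, le_bot_iff] at hDE
    have h1 : Nat.card (Db.map H.subtype) = 1 := by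
      rw [hDE]
      exact Subgroup.card_bot
    rw [Subgroup.card_map_of_injective (Subgroup.subtype_injective _), hcb] at h1
    rcases Nat.pow_eq_one.mp h1 with h | h
    · exact absurd h hp.one_lt.ne'
    · exact h

end CenterConj

end Cfsg.Agent.helper24
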