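import Mathlib
import Cfsg.Agent.Lib_helper24_FirstMain

set_option autoImplicit false

namespace Cfsg.Agent.helper24

open Cfsg
open scoped ComplexConjugate

universe u

section Fusion

variable {G : Type u} [Group G]

/-- Sylow subgroups of a centralizer are conjugate under the centralizer -/
theorem sylow_centralizer_conj' [Finite G] {p : ℕ} [Fact p.Prime] (g : G)
    (D P' : Sylow p (Subgroup.centralizer ({g} : Set G))) :
    ∃ c : G, c ∈ Subgroup.centralizer ({g} : Set G) ∧
      (P' : Subgroup (Subgroup.centralizer ({g} : Set G))).map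
        (Subgroup.centralizer ({g} : Set G)).subtype ≤
      ((D : Subgroup (Subgroup.centralizer ({g} : Set G))).map
        (Subgroup.centralizer ({g} : Set G)).subtype).map (MulAut.conj c).toMonoidHom := by
  obtain ⟨c, hc⟩ := MulAction.exists_smul_eq (Subgroup.centralizer ({g} : Set G)) D P'
  subst hc
  refine ⟨(c : G), c.2, ?_⟩
  rintro _ ⟨y, hy, rfl⟩
  rw [Sylow.coe_subgroup_smul, SetLike.mem_coe, Subgroup.mem_pointwise_smul_iff_inv_smul_mem,
    MulAut.smul_def, MulAut.conj_inv_apply] at hy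
  refine ⟨((c⁻¹ * y * c : Subgroup.centralizer ({g} : Set G)) : G), ⟨c⁻¹ * y * c, hy, rfl⟩, ?_⟩
  show (c : G) * ((c⁻¹ * y * c : Subgroup.centralizer ({g} : Set G)) : G) * (c : G)⁻¹ = (y : G)
  simp [mul_assoc]

/-- `D` is a maximal `p`-subgroup of `C_N(l)` when it comes from a Sylow subgroup of `C_N(l)` -/
theorem max_of_sylow_normalizer {p : ℕ} (D N : Subgroup G) (l : N)
    (PD : Sylow p (Subgroup.centralizer ({l} : Set N)))
    (hPD : (PD : Subgroup (Subgroup.centralizer ({l} : Set N))).map
      (Subgroup.centralizer ({l} : Set N)).subtype = D.subgroupOf N) (hDN : D ≤ N) :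
    (∀ d ∈ D, d * (l : G) = (l : G) * d) ∧
    ∀ Q : Subgroup G, IsPGroup p Q → D ≤ Q → Q ≤ N → (∀ q ∈ Q, q * (l : G) = (l : G) * q) →
      Q = D := by
  constructor
  · intro d hd
    have h1 : (⟨d, hDN hd⟩ : N) ∈ D.subgroupOf N := Subgroup.mem_subgroupOf.2 hd
    rw [← hPD] at h1
    obtain ⟨x, -, hx⟩ := h1
    have h2 := Subgroup.mem_centralizer_iff.1 x.2 l (Set.mem_singleton l)
    have h3 : (x : N) = ⟨d, hDN hd⟩ := hx
    rw [h3] at h2
    exact (congrArg Subtype.val h2).symm
  · intro Q hQ hDQ hQN hQl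
    obtain ⟨Q', hQ'⟩ : ∃ Q' : Subgroup (Subgroup.centralizer ({l} : Set N)),
      Q' = (Q.subgroupOf N).subgroupOf (Subgroup.centralizer ({l} : Set N)) := ⟨_, rfl⟩
    have hQ'p : IsPGroup p Q' := by
      rw [hQ']
      exact (hQ.comap_subtype).comap_subtype
    have hle : (PD : Subgroup (Subgroup.centralizer ({l} : Set N))) ≤ Q' := by
      intro x hx
      rw [hQ', Subgroup.mem_subgroupOf, Subgroup.mem_subgroupOf]
      have h1 : (x : N) ∈ (PD : Subgroup (Subgroup.centralizer ({l} : Set N))).map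
          (Subgroup.centralizer ({l} : Set N)).subtype := ⟨x, hx, rfl⟩
      rw [hPD, Subgroup.mem_subgroupOf] at h1
      exact hDQ h1
    have heq := PD.is_maximal' hQ'p hle
    apply le_antisymm _ hDQ
    intro q hq
    have hqC : (⟨q, hQN hq⟩ : N) ∈ Subgroup.centralizer ({l} : Set N) := by
      rw [Subgroup.mem_centralizer_iff]
      intro z hz
      rw [Set.mem_singleton_iff] at hz
      subst hz
      apply Subtype.ext
      exact (hQl q hq).symm
    have h1 : (⟨⟨q, hQN hq⟩, hqC⟩ : Subgroup.centralizer ({l} : Set N)) ∈ Q' := by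
      rw [hQ', Subgroup.mem_subgroupOf, Subgroup.mem_subgroupOf]
      exact hq
    rw [heq] at h1
    have h2 : (⟨q, hQN hq⟩ : N) ∈ (PD : Subgroup (Subgroup.centralizer ({l} : Set N))).map
        (Subgroup.centralizer ({l} : Set N)).subtype := ⟨_, h1, rfl⟩
    rw [hPD, Subgroup.mem_subgroupOf] at h2
    exact h2

/-- a maximal `p`-subgroup of `C_{N(D)}(l)` equal to `D` is a Sylow subgroup of `C_G(l)` -/
theorem sylow_of_normalizer_sylow [Finite G] {p : ℕ} [Fact p.Prime] (D : Subgroup G) (l : G)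
    (hDp : IsPGroup p D) (hDl : ∀ d ∈ D, d * l = l * d)
    (hmax : ∀ Q : Subgroup G, IsPGroup p Q → D ≤ Q → Q ≤ Subgroup.normalizer (D : Set G) →
      (∀ q ∈ Q, q * l = l * q) → Q = D) :
    ∃ S : Sylow p (Subgroup.centralizer ({l} : Set G)),
      (S : Subgroup (Subgroup.centralizer ({l} : Set G))).map
        (Subgroup.centralizer ({l} : Set G)).subtype = D := by
  have hDC : D ≤ Subgroup.centralizer ({l} : Set G) := by
    intro d hd
    rw [Subgroup.mem_centralizer_iff]
    intro z hz
    rw [Set.mem_singleton_iff] at hz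
    subst hz
    exact (hDl d hd).symm
  have hpg : IsPGroup p (D.subgroupOf (Subgroup.centralizer ({l} : Set G))) := hDp.comap_subtype
  obtain ⟨S, hS⟩ := hpg.exists_le_sylow
  refine ⟨S, ?_⟩
  obtain ⟨SG, hSG⟩ : ∃ SG : Subgroup G, SG = (S : Subgroup (Subgroup.centralizer ({l} : Set G))).map
    (Subgroup.centralizer ({l} : Set G)).subtype := ⟨_, rfl⟩
  rw [← hSG]
  have hSGp : IsPGroup p SG := by
    rw [hSG]
    exact S.isPGroup'.map _
  have hDSG : D ≤ SG := by
    intro d hd
    rw [hSG]
    exact ⟨⟨d, hDC hd⟩, hS (Subgroup.mem_subgroupOf.2 hd), rfl⟩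
  have hSGl : ∀ q ∈ SG, q * l = l * q := by
    intro q hq
    rw [hSG] at hq
    obtain ⟨x, -, rfl⟩ := hq
    have := Subgroup.mem_centralizer_iff.1 x.2 l (Set.mem_singleton l)
    exact this.symm
  have hinter : SG ⊓ Subgroup.normalizer (D : Set G) = D := by
    apply hmax
    · exact hSGp.to_le inf_le_left
    · exact le_inf hDSG Subgroup.le_normalizer
    · exact inf_le_right
    · intro q hq
      exact hSGl q hq.1
  -- normalizer condition in the `p`-group `SG`
  have hnil : Group.IsNilpotent SG := hSGp.isNilpotent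
  have hnc : NormalizerCondition SG := normalizerCondition_of_isNilpotent
  have htop : D.subgroupOf SG = ⊤ := by
    by_contra hne
    have hlt := hnc (D.subgroupOf SG) (lt_top_iff_ne_top.2 hne)
    obtain ⟨u, hu, hunot⟩ := SetLike.exists_of_lt hlt
    apply hunot
    rw [Subgroup.mem_subgroupOf, ← hinter, Subgroup.mem_inf]
    refine ⟨u.2, ?_⟩
    rw [Subgroup.mem_normalizer_iff]
    intro g
    rw [Subgroup.mem_normalizer_iff] at hu
    constructor
    · intro hg
      have h1 := (hu ⟨g, hDSG hg⟩).1 (Subgroup.mem_subgroupOf.2 hg)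
      exact Subgroup.mem_subgroupOf.1 h1
    · intro hg
      have hgS : g ∈ SG := by
        have h2 : (u : G) * g * (u : G)⁻¹ ∈ SG := hDSG hg
        have h3 := SG.mul_mem (SG.mul_mem (SG.inv_mem u.2) h2) u.2
        have e : (u : G)⁻¹ * ((u : G) * g * (u : G)⁻¹) * (u : G) = g := by group
        rwa [e] at h3
      have h1 := (hu ⟨g, hgS⟩).2 (Subgroup.mem_subgroupOf.2 hg)
      exact Subgroup.mem_subgroupOf.1 h1
  apply le_antisymm _ hDSG
  intro q hq
  have : (⟨q, hq⟩ : SG) ∈ D.subgroupOf SG := by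
    rw [htop]
    exact Subgroup.mem_top _
  exact Subgroup.mem_subgroupOf.1 this

/-- Burnside-type fusion: conjugates of `l` centralizing `D` are conjugate under `N(D)` when `D`
is a Sylow subgroup of `C(l)` -/
theorem conj_in_normalizer_of_sylow [Finite G] {p : ℕ} [Fact p.Prime] (D : Subgroup G) (l : G)
    (S : Sylow p (Subgroup.centralizer ({l} : Set G)))
    (hS : (S : Subgroup (Subgroup.centralizer ({l} : Set G))).map
      (Subgroup.centralizer ({l} : Set G)).subtype = D) (t : G)
    (ht : t * l * t⁻¹ ∈ Subgroup.centralizer (D : Set G)) :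
    ∃ n ∈ Subgroup.normalizer (D : Set G), n * l * n⁻¹ = t * l * t⁻¹ := by
  have hDp : IsPGroup p D := by
    rw [← hS]
    exact S.isPGroup'.map _
  obtain ⟨D₁, hD₁⟩ : ∃ D₁ : Subgroup G, D₁ = D.map (MulAut.conj t⁻¹).toMonoidHom := ⟨_, rfl⟩
  have hD₁p : IsPGroup p D₁ := by
    rw [hD₁]
    exact hDp.map _
  have hD₁l : ∀ s ∈ D₁, s * (1 * l * 1⁻¹) = (1 * l * 1⁻¹) * s := by
    intro s hs
    rw [hD₁] at hs
    obtain ⟨d, hd, rfl⟩ := hs
    have h1 := Subgroup.mem_centralizer_iff.1 ht d hd
    show t⁻¹ * d * t⁻¹⁻¹ * (1 * l * 1⁻¹) = (1 * l * 1⁻¹) * (t⁻¹ * d * t⁻¹⁻¹)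
    rw [inv_inv, inv_one, mul_one, one_mul]
    calc t⁻¹ * d * t * l = t⁻¹ * (d * (t * l * t⁻¹)) * t := by group
      _ = t⁻¹ * ((t * l * t⁻¹) * d) * t := by rw [h1]
      _ = l * (t⁻¹ * d * t) := by group
  obtain ⟨Q, hQ⟩ := exists_sylow_centralizer_ge l D₁ hD₁p 1 hD₁l
  obtain ⟨c, hcC, hc⟩ := sylow_centralizer_conj' l S Q
  rw [hS] at hc
  have hle : D₁ ≤ D.map (MulAut.conj c).toMonoidHom := by
    intro s hs
    apply hc
    apply hQ
    exact ⟨s, hs, by simp⟩
  have hcard : Nat.card (D.map (MulAut.conj c).toMonoidHom) ≤ Nat.card D₁ := by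
    rw [hD₁, Subgroup.card_map_of_injective (MulAut.conj c).injective,
      Subgroup.card_map_of_injective (MulAut.conj t⁻¹).injective]
  have heq : D₁ = D.map (MulAut.conj c).toMonoidHom := Subgroup.eq_of_le_of_card_ge hle hcard
  have hcl : c * l = l * c := by
    have := Subgroup.mem_centralizer_iff.1 hcC l (Set.mem_singleton l)
    exact this.symm
  refine ⟨t * c, ?_, ?_⟩
  · rw [Subgroup.mem_normalizer_iff]
    intro h
    constructor
    · intro hh
      have h1 : (MulAut.conj c).toMonoidHom h ∈ D.map (MulAut.conj c).toMonoidHom := ⟨h, hh, rfl⟩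
      rw [← heq, hD₁] at h1
      obtain ⟨d, hd, hdh⟩ := h1
      have h2 : t⁻¹ * d * t⁻¹⁻¹ = c * h * c⁻¹ := hdh
      rw [inv_inv] at h2
      have e : t * c * h * (t * c)⁻¹ = d := by
        calc t * c * h * (t * c)⁻¹ = t * (c * h * c⁻¹) * t⁻¹ := by group
          _ = t * (t⁻¹ * d * t) * t⁻¹ := by rw [h2]
          _ = d := by group
      rw [e]
      exact hd
    · intro hh
      have h1 : (MulAut.conj t⁻¹).toMonoidHom (t * c * h * (t * c)⁻¹) ∈ D₁ := by
        rw [hD₁]
        exact ⟨_, hh, rfl⟩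
      rw [heq] at h1
      obtain ⟨d, hd, hdh⟩ := h1
      have h2 : c * d * c⁻¹ = t⁻¹ * (t * c * h * (t * c)⁻¹) * t⁻¹⁻¹ := hdh
      have e : h = d := by
        calc h = c⁻¹ * (t⁻¹ * (t * c * h * (t * c)⁻¹) * t⁻¹⁻¹) * c := by group
          _ = c⁻¹ * (c * d * c⁻¹) * c := by rw [h2]
          _ = d := by group
      rw [e]
      exact hd
  · calc t * c * l * (t * c)⁻¹ = t * (c * l) * c⁻¹ * t⁻¹ := by group
      _ = t * (l * c) * c⁻¹ * t⁻¹ := by rw [hcl]
      _ = t * l * t⁻¹ := by group

end Fusion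

section FirstMainThm

variable {G : Type u} [Group G] [Fintype G]

/-- the Brauer map of the class sum of `l` when `D` is a Sylow subgroup of `C_{N(D)}(l)` -/
theorem brRes_classInd_of_sylow {p : ℕ} [Fact p.Prime] (D : Subgroup G) (hDp : IsPGroup p D)
    [Fintype (Subgroup.normalizer (D : Set G))] (l : Subgroup.normalizer (D : Set G))
    (PD : Sylow p (Subgroup.centralizer ({l} : Set (Subgroup.normalizer (D : Set G)))))
    (hPD : (PD : Subgroup (Subgroup.centralizer ({l} : Set (Subgroup.normalizer (D : Set G))))).map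
      (Subgroup.centralizer ({l} : Set (Subgroup.normalizer (D : Set G)))).subtype =
        D.subgroupOf (Subgroup.normalizer (D : Set G))) :
    brRes D (Subgroup.normalizer (D : Set G)) (classInd (l : G)) = classInd l ∧
    ∃ S : Sylow p (Subgroup.centralizer ({(l : G)} : Set G)),
      (S : Subgroup (Subgroup.centralizer ({(l : G)} : Set G))).map
        (Subgroup.centralizer ({(l : G)} : Set G)).subtype = D := by
  classical
  have hDN : D ≤ Subgroup.normalizer (D : Set G) := Subgroup.le_normalizer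
  obtain ⟨hDl, hmax⟩ := max_of_sylow_normalizer D (Subgroup.normalizer (D : Set G)) l PD hPD hDN
  obtain ⟨S, hS⟩ := sylow_of_normalizer_sylow D (l : G) hDp hDl hmax
  refine ⟨?_, S, hS⟩
  have hlC : (l : G) ∈ Subgroup.centralizer (D : Set G) := by
    rw [Subgroup.mem_centralizer_iff]
    exact hDl
  funext h
  unfold brRes classInd
  by_cases hh : (h : G) ∈ Subgroup.centralizer (D : Set G)
  · rw [if_pos hh]
    have hiff : IsConj (l : G) (h : G) ↔ IsConj l h := by
      constructor
      · intro hc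
        obtain ⟨t, ht⟩ := isConj_iff.1 hc
        rw [← ht] at hh
        obtain ⟨n, hn, hnl⟩ := conj_in_normalizer_of_sylow D (l : G) S hS t hh
        apply isConj_iff.2
        refine ⟨⟨n, hn⟩, ?_⟩
        apply Subtype.ext
        show n * (l : G) * n⁻¹ = (h : G)
        rw [hnl, ht]
      · intro hc
        obtain ⟨c, hc⟩ := isConj_iff.1 hc
        apply isConj_iff.2
        refine ⟨(c : G), ?_⟩
        have := congrArg Subtype.val hc
        simpa using this
    by_cases hc : IsConj l h
    · rw [if_pos (hiff.2 hc), if_pos hc]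
    · rw [if_neg (fun h' => hc (hiff.1 h')), if_neg hc]
  · rw [if_neg hh]
    have : ¬ IsConj l h := by
      intro hc
      obtain ⟨c, hc⟩ := isConj_iff.1 hc
      apply hh
      have h1 := conj_mem_centralizer_of_mem_normalizer c.2 hlC
      have h2 : (h : G) = (c : G) * (l : G) * (c : G)⁻¹ := by
        rw [← hc]
        push_cast
        rfl
      rw [h2]
      exact h1
    rw [if_neg this]

/-- First Main Theorem, existence: a block of `N(D)` with defect group `D` induces a block with
defect group `D` -/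
theorem first_main_exists (p : ℕ) [Fact p.Prime] (M : Ideal AlgInt) (hM : IsPModular p M)
    (D : Subgroup G) (hD : IsPGroup p D)
    (b : Set (IrrCharacter (Subgroup.normalizer (D : Set G)))) (hb : IsPBlock M b)
    (hDb : IsDefectGroup p M b (D.subgroupOf (Subgroup.normalizer (D : Set G)))) :
    ∃ B : Set (IrrCharacter G), IsPBlock M B ∧ IsDefectGroup p M B D ∧
      IsInducedBlock M (Subgroup.normalizer (D : Set G)) b B := by
  classical
  have := Fintype.ofFinite (Subgroup.normalizer (D : Set G))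
  have hMp : M.IsPrime := hM.2.1.isPrime
  have hMtop : M ≠ ⊤ := hMp.ne_top
  have hDN : D ≤ Subgroup.normalizer (D : Set G) := Subgroup.le_normalizer
  obtain ⟨ξ₀, hξ₀⟩ := hb
  have hξ₀b : ξ₀ ∈ b := by
    rw [hξ₀]
    exact sameBlock_refl M hMtop _
  obtain ⟨χ, hχ1, hχ2⟩ := brauer_block_exists p M hM hD hDN
    (Subgroup.centralizer_le_normalizer _) le_rfl ξ₀
  rw [← hξ₀] at hχ2
  refine ⟨blockOf M (χ : G → ℂ), ⟨χ, rfl⟩, ?_, hχ2⟩
  obtain ⟨l, hl, PD, hPD⟩ := hDb
  obtain ⟨hbr, S, hS⟩ := brRes_classInd_of_sylow D hD l PD hPD.symm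
  have h1 := hχ1 (classInd (l : G)) (classInd_isClassFunction _) (classInd_memLocalRing hMtop _)
  unfold brOmega at h1
  rw [hbr, omegaFn_classInd (irr_isCharacter ξ₀.2), omegaFn_classInd (irr_isCharacter χ.2)] at h1
  have h2 : ¬ MemLocalIdeal M (centralChar (χ : G → ℂ) (l : G)) := by
    intro h
    apply hl.2.2 ξ₀ hξ₀b
    have := memLocalIdeal_add h1 h
    simpa using this
  obtain ⟨E, hE, hDE⟩ := defectGroup_induced_le p M hM _ b _ hχ2
    (D.subgroupOf (Subgroup.normalizer (D : Set G))) ⟨l, hl, PD, hPD⟩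
  rw [Subgroup.map_subgroupOf_eq_of_le hDN] at hDE
  have hE' := hE
  obtain ⟨y, hy, PE, hPE⟩ := hE'
  obtain ⟨x, Q, hxQ⟩ := minmax_b p M hM _ ⟨χ, rfl⟩ y hy PE (l : G)
    ⟨χ, sameBlock_refl M hMtop _, h2⟩
  rw [← hPE] at hxQ
  have hcard : Nat.card E ≤ Nat.card D := by
    have h3 : Nat.card (E.map (MulAut.conj x).toMonoidHom) ≤
        Nat.card ((Q : Subgroup (Subgroup.centralizer ({(l : G)} : Set G))).map
          (Subgroup.centralizer ({(l : G)} : Set G)).subtype) :=
      Nat.card_mono (Set.toFinite _) hxQ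
    rw [Subgroup.card_map_of_injective (MulAut.conj x).injective,
      Subgroup.card_map_of_injective (Subgroup.subtype_injective _),
      Q.card_eq_multiplicity] at h3
    rw [← hS, Subgroup.card_map_of_injective (Subgroup.subtype_injective _),
      S.card_eq_multiplicity]
    exact h3
  have hDE' : D = E := Subgroup.eq_of_le_of_card_ge hDE hcard
  rw [hDE']
  exact hE

/-- First Main Theorem, uniqueness -/
theorem first_main_unique (p : ℕ) [Fact p.Prime] (M : Ideal AlgInt) (hM : IsPModular p M)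
    (D : Subgroup G) (hD : IsPGroup p D) (B : Set (IrrCharacter G))
    (b₁ b₂ : Set (IrrCharacter (Subgroup.normalizer (D : Set G))))
    (h₁ : IsDefectGroup p M b₁ (D.subgroupOf (Subgroup.normalizer (D : Set G))))
    (i₁ : IsInducedBlock M (Subgroup.normalizer (D : Set G)) b₁ B)
    (i₂ : IsInducedBlock M (Subgroup.normalizer (D : Set G)) b₂ B) : b₁ = b₂ := by
  classical
  have := Fintype.ofFinite (Subgroup.normalizer (D : Set G))
  have hMp : M.IsPrime := hM.2.1.isPrime
  have hMtop : M ≠ ⊤ := hMp.ne_top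
  have hDN : D ≤ Subgroup.normalizer (D : Set G) := Subgroup.le_normalizer
  have hnorm : (D.subgroupOf (Subgroup.normalizer (D : Set G))).Normal :=
    Subgroup.normal_subgroupOf_of_le_normalizer le_rfl
  have hDp' : IsPGroup p (D.subgroupOf (Subgroup.normalizer (D : Set G))) := hD.comap_subtype
  obtain ⟨ξ₁, hξ₁⟩ := i₁.1
  obtain ⟨ξ₂, hξ₂⟩ := i₂.1
  have hξ₁b : ξ₁ ∈ b₁ := by
    rw [hξ₁]
    exact sameBlock_refl M hMtop _
  have hξ₂b : ξ₂ ∈ b₂ := by
    rw [hξ₂]
    exact sameBlock_refl M hMtop _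
  obtain ⟨χ, hχ⟩ := i₁.2.1
  have hχB : χ ∈ B := by
    rw [hχ]
    exact sameBlock_refl M hMtop _
  obtain ⟨hcf, hl, -, -⟩ := blockCoeff_props (M := M) ξ₁
  rw [← hξ₁] at hcf hl
  have hbr₁ := (isInducedBlock_iff_brauer p M hM hD hDN le_rfl b₁ i₁.1 B i₁.2.1).1 i₁
  have hbr₂ := (isInducedBlock_iff_brauer p M hM hD hDN le_rfl b₂ i₂.1 B i₂.2.1).1 i₂
  have hkey : ξ₂ ∈ b₁ := by
    by_contra hno
    have e1 : omegaFn (ξ₁ : Subgroup.normalizer (D : Set G) → ℂ) (blockCoeff b₁) = 1 := by
      rw [omegaFn_blockCoeff, if_pos hξ₁b]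
    have e2 : omegaFn (ξ₂ : Subgroup.normalizer (D : Set G) → ℂ) (blockCoeff b₁) = 0 := by
      rw [omegaFn_blockCoeff, if_neg hno]
    have hdiff : MemLocalIdeal M
        (omegaFn (ξ₁ : Subgroup.normalizer (D : Set G) → ℂ) (blockCoeff b₁) -
          omegaFn (ξ₂ : Subgroup.normalizer (D : Set G) → ℂ) (blockCoeff b₁)) := by
      rw [omegaFn_eq_sum_classes (irr_isCharacter ξ₁.2) hcf,
        omegaFn_eq_sum_classes (irr_isCharacter ξ₂.2) hcf, ← Finset.sum_sub_distrib]
      apply memLocalIdeal_sum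
      intro C _
      obtain ⟨l, hlC⟩ : ∃ l : Subgroup.normalizer (D : Set G), l = Quotient.out C := ⟨_, rfl⟩
      rw [← hlC, ← mul_sub]
      by_cases ha : MemLocalIdeal M (blockCoeff b₁ l)
      · rw [mul_comm]
        exact memLocalIdeal_mul_left (memLocalRing_sub (centralChar_memLocalRing hMtop ξ₁ l)
          (centralChar_memLocalRing hMtop ξ₂ l)) ha
      · apply memLocalIdeal_mul_left (hl l)
        by_cases hlD : l ∈ Subgroup.centralizer
            ((D.subgroupOf (Subgroup.normalizer (D : Set G)) :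
              Subgroup (Subgroup.normalizer (D : Set G))) : Set (Subgroup.normalizer (D : Set G)))
        · -- `D` is a Sylow subgroup of `C_N(l)`
          have hpg : IsPGroup p ((D.subgroupOf (Subgroup.normalizer (D : Set G))).subgroupOf
              (Subgroup.centralizer ({l} : Set (Subgroup.normalizer (D : Set G))))) :=
            hDp'.comap_subtype
          obtain ⟨Q, hQ⟩ := hpg.exists_le_sylow
          obtain ⟨h₀, hh₀, PD₁, hPD₁⟩ := h₁
          obtain ⟨x, hx⟩ := minmax_a p M hM b₁ i₁.1 h₀ hh₀ PD₁ l ha Q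
          rw [← hPD₁] at hx
          have hQeq : (Q : Subgroup (Subgroup.centralizer
              ({l} : Set (Subgroup.normalizer (D : Set G))))).map
              (Subgroup.centralizer ({l} : Set (Subgroup.normalizer (D : Set G)))).subtype =
              D.subgroupOf (Subgroup.normalizer (D : Set G)) := by
            apply le_antisymm
            · intro y hy
              obtain ⟨d, hd, hdy⟩ := hx hy
              rw [← hdy]
              exact hnorm.conj_mem d hd x
            · intro d hd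
              have hdC : d ∈ Subgroup.centralizer
                  ({l} : Set (Subgroup.normalizer (D : Set G))) := by
                rw [Subgroup.mem_centralizer_iff]
                intro z hz
                rw [Set.mem_singleton_iff] at hz
                subst hz
                exact (Subgroup.mem_centralizer_iff.1 hlD d hd).symm
              exact ⟨⟨d, hdC⟩, hQ (Subgroup.mem_subgroupOf.2 hd), rfl⟩
          obtain ⟨hbr, -⟩ := brRes_classInd_of_sylow D hD l Q hQeq
          have t1 := hbr₁ ξ₁ hξ₁b χ hχB (l : G)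
          have t2 := hbr₂ ξ₂ hξ₂b χ hχB (l : G)
          rw [brauerCentralChar_eq] at t1 t2
          unfold brOmega at t1 t2
          rw [hbr, omegaFn_classInd (irr_isCharacter ξ₁.2)] at t1
          rw [hbr, omegaFn_classInd (irr_isCharacter ξ₂.2)] at t2
          have := memLocalIdeal_sub t1 t2
          have e : centralChar (ξ₁ : Subgroup.normalizer (D : Set G) → ℂ) l -
              centralChar (ξ₂ : Subgroup.normalizer (D : Set G) → ℂ) l =
              (centralChar (ξ₁ : Subgroup.normalizer (D : Set G) → ℂ) l -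
                centralChar (χ : G → ℂ) (l : G)) -
              (centralChar (ξ₂ : Subgroup.normalizer (D : Set G) → ℂ) l -
                centralChar (χ : G → ℂ) (l : G)) := by ring
          rw [e]
          exact this
        · exact memLocalIdeal_sub
            (centralChar_memLocalIdeal_of_not_centralize p M hM _ hDp' ξ₁ l hlD)
            (centralChar_memLocalIdeal_of_not_centralize p M hM _ hDp' ξ₂ l hlD)
    rw [e1, e2, sub_zero] at hdiff
    exact not_memLocalIdeal_one hdiff
  rw [hξ₁] at hkey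
  have hsb : SameBlock M (ξ₁ : Subgroup.normalizer (D : Set G) → ℂ)
      (ξ₂ : Subgroup.normalizer (D : Set G) → ℂ) := hkey
  rw [hξ₂]
  have := blockOf_eq_of_mem (M := M) ⟨ξ₁, rfl⟩ hsb
  rw [this, hξ₁]

/-- Brauer's First Main Theorem -/
theorem first_main (p : ℕ) [Fact p.Prime] (M : Ideal AlgInt) (hM : IsPModular p M)
    (D : Subgroup G) (hD : IsPGroup p D) :
    (∀ b : Set (IrrCharacter (Subgroup.normalizer (D : Set G))), IsPBlock M b →
      IsDefectGroup p M b (D.subgroupOf (Subgroup.normalizer (D : Set G))) →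
      ∃ B : Set (IrrCharacter G), IsPBlock M B ∧ IsDefectGroup p M B D ∧
        IsInducedBlock M (Subgroup.normalizer (D : Set G)) b B) ∧
    (∀ B : Set (IrrCharacter G), IsPBlock M B → IsDefectGroup p M B D →
      ∃! b : Set (IrrCharacter (Subgroup.normalizer (D : Set G))), IsPBlock M b ∧
        IsDefectGroup p M b (D.subgroupOf (Subgroup.normalizer (D : Set G))) ∧
        IsInducedBlock M (Subgroup.normalizer (D : Set G)) b B) := by
  classical
  have := Fintype.ofFinite (Subgroup.normalizer (D : Set G))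
  have hDN : D ≤ Subgroup.normalizer (D : Set G) := Subgroup.le_normalizer
  refine ⟨fun b hb hDb => first_main_exists p M hM D hD b hb hDb, ?_⟩
  intro B hB hDB
  have hsup : D ⊔ Subgroup.centralizer (D : Set G) ≤ Subgroup.normalizer (D : Set G) :=
    sup_le hDN (Subgroup.centralizer_le_normalizer _)
  obtain ⟨b, hind⟩ := (induced_from_local_iff p M hM D (Subgroup.normalizer (D : Set G)) hD hsup
    le_rfl B hB).2 ⟨D, hDB, 1, by
      rintro _ ⟨s, hs, rfl⟩
      simpa using hs⟩
  obtain ⟨Db, hDb⟩ := exists_defectGroup p M hM b hind.1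
  have hDbD := defectGroup_of_induced_local p M hM hDN le_rfl b B hind hDB Db hDb
  have hDbeq : Db = D.subgroupOf (Subgroup.normalizer (D : Set G)) := by
    ext x
    rw [Subgroup.mem_subgroupOf]
    constructor
    · intro hx
      have h1 : (x : G) ∈ Db.map (Subgroup.normalizer (D : Set G)).subtype := ⟨x, hx, rfl⟩
      rw [hDbD] at h1
      exact h1
    · intro hx
      have h1 : (x : G) ∈ Db.map (Subgroup.normalizer (D : Set G)).subtype := by
        rw [hDbD]
        exact hx
      obtain ⟨y, hy, hyx⟩ := h1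
      have : y = x := Subtype.ext hyx
      rw [← this]
      exact hy
  rw [hDbeq] at hDb
  refine ⟨b, ⟨hind.1, hDb, hind⟩, ?_⟩
  rintro b' ⟨-, hDb', hind'⟩
  exact first_main_unique p M hM D hD B b' b hDb' hind' hind

end FirstMainThm

end Cfsg.Agent.helper24
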