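import Mathlib
import Cfsg.Agent.Lib_helper24_BrauerMap

set_option autoImplicit false

namespace Cfsg.Agent.helper24

open Cfsg
open scoped ComplexConjugate

universe u

section GroupAlg

variable {G : Type u} [Group G] [Fintype G]

/-- a function on the group as an element of the group algebra -/
noncomputable def toAlg (u : G → ℂ) : MonoidAlgebra ℂ G :=
  MonoidAlgebra.ofCoeff (Finsupp.equivFunOnFinite.symm u)

omit [Group G] in
theorem toAlg_coeff (u : G → ℂ) (g : G) : (toAlg u).coeff g = u g := rfl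

theorem alg_coeff_mul (a c : MonoidAlgebra ℂ G) (g : G) :
    (a * c).coeff g = ∑ h : G, a.coeff h * c.coeff (h⁻¹ * g) := by
  rw [MonoidAlgebra.coeff_mul_apply_left, Finsupp.sum_fintype _ _ (by intro i; simp)]

theorem alg_coeff_mul' (a c : MonoidAlgebra ℂ G) (g : G) :
    (a * c).coeff g = ∑ h : G, a.coeff (g * h⁻¹) * c.coeff h := by
  rw [MonoidAlgebra.coeff_mul_apply_right, Finsupp.sum_fintype _ _ (by intro i; simp)]

theorem toAlg_cconv (u v : G → ℂ) : toAlg (cconv u v) = toAlg u * toAlg v := by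
  apply MonoidAlgebra.coeff_injective
  ext g
  rw [toAlg_coeff, alg_coeff_mul]
  rfl

theorem toAlg_sub (u v : G → ℂ) : toAlg (u - v) = toAlg u - toAlg v := by
  apply MonoidAlgebra.coeff_injective
  ext g
  rw [MonoidAlgebra.coeff_sub, Finsupp.sub_apply, toAlg_coeff, toAlg_coeff, toAlg_coeff]
  rfl

theorem toAlg_deltaOne : toAlg (deltaOne G) = 1 := by
  classical
  apply MonoidAlgebra.coeff_injective
  ext g
  rw [toAlg_coeff, MonoidAlgebra.one_def, MonoidAlgebra.coeff_single, Finsupp.single_apply]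
  unfold deltaOne
  by_cases hg : g = 1
  · rw [if_pos hg, if_pos hg.symm]
  · rw [if_neg hg, if_neg (fun h => hg h.symm)]

/-- the matrix of `v ↦ a * v * c` in the basis of group elements -/
noncomputable def algMat (a c : MonoidAlgebra ℂ G) : Matrix G G ℂ :=
  Matrix.of fun x y => (a * MonoidAlgebra.single y 1 * c).coeff x

theorem algMat_apply (a c : MonoidAlgebra ℂ G) (x y : G) :
    algMat a c x y = (a * MonoidAlgebra.single y 1 * c).coeff x := rfl

theorem algMat_explicit (a c : MonoidAlgebra ℂ G) (x y : G) :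
    algMat a c x y = ∑ u : G, a.coeff u * c.coeff (y⁻¹ * u⁻¹ * x) := by
  rw [algMat_apply, mul_assoc, alg_coeff_mul]
  refine Finset.sum_congr rfl (fun u _ => ?_)
  rw [MonoidAlgebra.coeff_single_mul_apply, one_mul, mul_assoc]

theorem alg_lin (a c v : MonoidAlgebra ℂ G) (x : G) :
    ∑ z : G, (a * MonoidAlgebra.single z 1 * c).coeff x * v.coeff z = (a * v * c).coeff x := by
  have h1 : ∀ z : G, (a * MonoidAlgebra.single z 1 * c).coeff x =
      ∑ u : G, a.coeff u * c.coeff (z⁻¹ * u⁻¹ * x) := fun z => algMat_explicit a c x z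
  rw [mul_assoc, alg_coeff_mul]
  simp_rw [h1, Finset.sum_mul]
  rw [Finset.sum_comm]
  refine Finset.sum_congr rfl (fun u _ => ?_)
  rw [alg_coeff_mul, Finset.mul_sum]
  refine Finset.sum_congr rfl (fun z _ => ?_)
  rw [mul_assoc z⁻¹ u⁻¹ x]
  ring

theorem algMat_mul (a c a' c' : MonoidAlgebra ℂ G) :
    algMat a c * algMat a' c' = algMat (a * a') (c' * c) := by
  ext x y
  rw [Matrix.mul_apply]
  simp only [algMat_apply]
  rw [alg_lin a c (a' * MonoidAlgebra.single y 1 * c') x]
  congr 1
  simp only [mul_assoc]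

theorem algMat_sub_right (a c c' : MonoidAlgebra ℂ G) :
    algMat a c - algMat a c' = algMat a (c - c') := by
  ext x y
  rw [Matrix.sub_apply, algMat_apply, algMat_apply, algMat_apply, mul_sub, MonoidAlgebra.coeff_sub,
    Finsupp.sub_apply]

/-- local coefficients -/
def IsRv (M : Ideal AlgInt) (a : MonoidAlgebra ℂ G) : Prop := ∀ g, MemLocalRing M (a.coeff g)

theorem IsRv.mul {M : Ideal AlgInt} [hMp : M.IsPrime] {a c : MonoidAlgebra ℂ G} (ha : IsRv M a)
    (hc : IsRv M c) : IsRv M (a * c) := by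
  intro g
  rw [alg_coeff_mul]
  exact memLocalRing_sum _ _ (fun h _ => memLocalRing_mul (ha h) (hc _))

theorem isRv_single {M : Ideal AlgInt} [hMp : M.IsPrime] (y : G) :
    IsRv M (MonoidAlgebra.single y (1 : ℂ)) := by
  classical
  intro g
  rw [MonoidAlgebra.coeff_single, Finsupp.single_apply]
  split_ifs
  · exact memLocalRing_one hMp.ne_top
  · exact memLocalRing_zero hMp.ne_top

theorem isRv_toAlg {M : Ideal AlgInt} {u : G → ℂ} (hu : ∀ g, MemLocalRing M (u g)) :
    IsRv M (toAlg u) := fun g => hu g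

theorem algMat_isRv {M : Ideal AlgInt} [hMp : M.IsPrime] {a c : MonoidAlgebra ℂ G}
    (ha : IsRv M a) (hc : IsRv M c) (x y : G) : MemLocalRing M (algMat a c x y) :=
  ((ha.mul (isRv_single y)).mul hc) x

/-- coefficients of a conjugate -/
theorem coeff_conj (h : G) (m : MonoidAlgebra ℂ G) (x : G) :
    (MonoidAlgebra.single h 1 * m * MonoidAlgebra.single h⁻¹ 1).coeff (h * x * h⁻¹) =
      m.coeff x := by
  rw [MonoidAlgebra.coeff_mul_single_apply, MonoidAlgebra.coeff_single_mul_apply, one_mul, mul_one]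
  congr 1
  group

theorem single_conj (h y : G) :
    MonoidAlgebra.single (h * y * h⁻¹) (1 : ℂ) =
      MonoidAlgebra.single h 1 * MonoidAlgebra.single y 1 * MonoidAlgebra.single h⁻¹ 1 := by
  rw [MonoidAlgebra.single_mul_single, MonoidAlgebra.single_mul_single, one_mul, one_mul]

theorem single_inv_commute {h : G} {c : MonoidAlgebra ℂ G}
    (hc : MonoidAlgebra.single h 1 * c = c * MonoidAlgebra.single h 1) :
    MonoidAlgebra.single h⁻¹ 1 * c = c * MonoidAlgebra.single h⁻¹ 1 := by
  have h1 : MonoidAlgebra.single h⁻¹ (1 : ℂ) * MonoidAlgebra.single h 1 = 1 := by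
    rw [MonoidAlgebra.single_mul_single, inv_mul_cancel, one_mul, MonoidAlgebra.one_def]
  have h2 : MonoidAlgebra.single h (1 : ℂ) * MonoidAlgebra.single h⁻¹ 1 = 1 := by
    rw [MonoidAlgebra.single_mul_single, mul_inv_cancel, one_mul, MonoidAlgebra.one_def]
  calc MonoidAlgebra.single h⁻¹ 1 * c
      = MonoidAlgebra.single h⁻¹ 1 * c * (MonoidAlgebra.single h 1 * MonoidAlgebra.single h⁻¹ 1) := by
        rw [h2, mul_one]
    _ = MonoidAlgebra.single h⁻¹ 1 * (c * MonoidAlgebra.single h 1) * MonoidAlgebra.single h⁻¹ 1 := by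
        simp only [mul_assoc]
    _ = (MonoidAlgebra.single h⁻¹ 1 * MonoidAlgebra.single h 1) * c * MonoidAlgebra.single h⁻¹ 1 := by
        rw [← hc]; simp only [mul_assoc]
    _ = c * MonoidAlgebra.single h⁻¹ 1 := by rw [h1, one_mul]

theorem algMat_conj (a c : MonoidAlgebra ℂ G) (h : G)
    (ha : MonoidAlgebra.single h 1 * a = a * MonoidAlgebra.single h 1)
    (hc : MonoidAlgebra.single h 1 * c = c * MonoidAlgebra.single h 1) (x y : G) :
    algMat a c (h * x * h⁻¹) (h * y * h⁻¹) = algMat a c x y := by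
  rw [algMat_apply, algMat_apply, single_conj]
  have hc' := single_inv_commute hc
  have h1 : a * (MonoidAlgebra.single h 1 * MonoidAlgebra.single y 1 * MonoidAlgebra.single h⁻¹ 1) * c =
      MonoidAlgebra.single h 1 * (a * MonoidAlgebra.single y 1 * c) * MonoidAlgebra.single h⁻¹ 1 := by
    calc a * (MonoidAlgebra.single h 1 * MonoidAlgebra.single y 1 * MonoidAlgebra.single h⁻¹ 1) * c
        = (a * MonoidAlgebra.single h 1) * MonoidAlgebra.single y 1 *
            (MonoidAlgebra.single h⁻¹ 1 * c) := by simp only [mul_assoc]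
      _ = (MonoidAlgebra.single h 1 * a) * MonoidAlgebra.single y 1 *
            (c * MonoidAlgebra.single h⁻¹ 1) := by rw [ha, hc']
      _ = _ := by simp only [mul_assoc]
  rw [h1, coeff_conj]

theorem toAlg_commute_single {u : G → ℂ} {h : G} (hu : ∀ g, u (h * g * h⁻¹) = u g) :
    MonoidAlgebra.single h 1 * toAlg u = toAlg u * MonoidAlgebra.single h 1 := by
  apply MonoidAlgebra.coeff_injective
  ext x
  rw [MonoidAlgebra.coeff_mul_single_apply, MonoidAlgebra.coeff_single_mul_apply, one_mul, mul_one,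
    toAlg_coeff, toAlg_coeff, ← hu (h⁻¹ * x)]
  congr 1
  group

/-- support inside a subgroup -/
def SuppIn (H : Subgroup G) (a : MonoidAlgebra ℂ G) : Prop := ∀ g, g ∉ H → a.coeff g = 0

theorem SuppIn.mul {H : Subgroup G} {a c : MonoidAlgebra ℂ G} (ha : SuppIn H a) (hc : SuppIn H c) :
    SuppIn H (a * c) := by
  intro g hg
  rw [alg_coeff_mul]
  apply Finset.sum_eq_zero
  intro h _
  by_cases hh : h ∈ H
  · rw [hc _ (fun h2 => hg (by
      have := H.mul_mem hh h2
      rwa [mul_inv_cancel_left] at this)), mul_zero]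
  · rw [ha h hh, zero_mul]

theorem suppIn_single {H : Subgroup G} {y : G} (hy : y ∈ H) :
    SuppIn H (MonoidAlgebra.single y (1 : ℂ)) := by
  classical
  intro g hg
  rw [MonoidAlgebra.coeff_single, Finsupp.single_apply, if_neg]
  rintro rfl
  exact hg hy

/-- a function invariant under conjugation by `H` commutes with the elements supported in `H` -/
theorem toAlg_commute_of_suppIn (H : Subgroup G) {u : G → ℂ}
    (hu : ∀ h ∈ H, ∀ g, u (h * g * h⁻¹) = u g) {a : MonoidAlgebra ℂ G} (ha : SuppIn H a) :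
    toAlg u * a = a * toAlg u := by
  apply MonoidAlgebra.coeff_injective
  ext x
  rw [alg_coeff_mul', alg_coeff_mul]
  refine Finset.sum_congr rfl (fun k _ => ?_)
  by_cases hk : k ∈ H
  · rw [toAlg_coeff, toAlg_coeff, ← hu k hk (k⁻¹ * x)]
    have : k * (k⁻¹ * x) * k⁻¹ = x * k⁻¹ := by group
    rw [this, mul_comm]
  · rw [ha k hk, mul_zero, zero_mul]

theorem toAlg_central {u : G → ℂ} (hu : IsClassFunction G u) (a : MonoidAlgebra ℂ G) :
    toAlg u * a = a * toAlg u :=
  toAlg_commute_of_suppIn ⊤ (fun h _ g => hu g h) (fun g hg => absurd (Subgroup.mem_top g) hg)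

/-- truncation: multiplying an element supported in `H` only sees the coefficients in `H` -/
theorem coeff_mul_trunc (H : Subgroup G) {d : MonoidAlgebra ℂ G} (hd : SuppIn H d)
    {e s : MonoidAlgebra ℂ G} (hes : ∀ k ∈ H, e.coeff k = s.coeff k) {k : G} (hk : k ∈ H) :
    (d * e).coeff k = (d * s).coeff k := by
  rw [alg_coeff_mul, alg_coeff_mul]
  refine Finset.sum_congr rfl (fun u _ => ?_)
  by_cases hu : u ∈ H
  · rw [hes _ (H.mul_mem (H.inv_mem hu) hk)]
  · rw [hd u hu, zero_mul, zero_mul]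

/-- extension by zero -/
noncomputable def extZ (H : Subgroup G) (u : H → ℂ) : G → ℂ :=
  fun g => by classical exact if hg : g ∈ H then u ⟨g, hg⟩ else 0

omit [Fintype G] in
theorem extZ_coe (H : Subgroup G) (u : H → ℂ) (h : H) : extZ H u (h : G) = u h := by
  unfold extZ
  rw [dif_pos h.2]

omit [Fintype G] in
theorem extZ_of_mem (H : Subgroup G) (u : H → ℂ) {g : G} (hg : g ∈ H) :
    extZ H u g = u ⟨g, hg⟩ := by
  unfold extZ
  rw [dif_pos hg]

omit [Fintype G] in
theorem extZ_of_not_mem (H : Subgroup G) (u : H → ℂ) {g : G} (hg : g ∉ H) : extZ H u g = 0 := by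
  unfold extZ
  rw [dif_neg hg]

theorem suppIn_extZ (H : Subgroup G) (u : H → ℂ) : SuppIn H (toAlg (extZ H u)) :=
  fun _ hg => extZ_of_not_mem H u hg

omit [Fintype G] in
theorem extZ_conj_invariant (H : Subgroup G) {u : H → ℂ} (hu : IsClassFunction H u) :
    ∀ h ∈ H, ∀ g, extZ H u (h * g * h⁻¹) = extZ H u g := by
  intro h hh g
  by_cases hg : g ∈ H
  · rw [extZ_of_mem H u hg, extZ_of_mem H u (H.mul_mem (H.mul_mem hh hg) (H.inv_mem hh))]
    exact hu ⟨g, hg⟩ ⟨h, hh⟩
  · rw [extZ_of_not_mem H u hg, extZ_of_not_mem H u]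
    intro h2
    apply hg
    have := H.mul_mem (H.mul_mem (H.inv_mem hh) h2) hh
    have e : h⁻¹ * (h * g * h⁻¹) * h = g := by group
    rwa [e] at this

theorem sum_extZ_mul (H : Subgroup G) [Fintype H] (u : H → ℂ) (f : G → ℂ) :
    ∑ x : G, extZ H u x * f x = ∑ k : H, u k * f (k : G) := by
  classical
  rw [← Finset.sum_filter_of_ne (p := fun x : G => x ∈ H)
    (fun x _ hx => by
      by_contra hxH
      exact hx (by rw [extZ_of_not_mem H u hxH, zero_mul]))]
  rw [Finset.sum_subtype (p := fun x : G => x ∈ H) (Finset.univ.filter (fun x : G => x ∈ H))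
    (fun x => by simp) (fun x => extZ H u x * f x)]
  exact Finset.sum_congr rfl (fun k _ => by rw [extZ_coe])

theorem extZ_cconv (H : Subgroup G) [Fintype H] (u v : H → ℂ) :
    extZ H (cconv u v) = cconv (extZ H u) (extZ H v) := by
  funext g
  by_cases hg : g ∈ H
  · rw [extZ_of_mem H _ hg]
    unfold cconv
    rw [sum_extZ_mul H u (fun x => extZ H v (x⁻¹ * g))]
    refine Finset.sum_congr rfl (fun k _ => ?_)
    congr 1
    have : ((k : G))⁻¹ * g = ((k⁻¹ * ⟨g, hg⟩ : H) : G) := rfl
    rw [this, extZ_coe]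
  · rw [extZ_of_not_mem H _ hg]
    unfold cconv
    symm
    apply Finset.sum_eq_zero
    intro x _
    by_cases hx : x ∈ H
    · rw [extZ_of_not_mem H v, mul_zero]
      intro h2
      apply hg
      have := H.mul_mem hx h2
      rwa [mul_inv_cancel_left] at this
    · rw [extZ_of_not_mem H u hx, zero_mul]

end GroupAlg

end Cfsg.Agent.helper24
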