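import Mathlib
import Cfsg.Agent.Lib_helper24_GroupAlg
import Cfsg.Agent.Lib_helper24_AbsTrace
import Cfsg.Agent.Lib_helper24_FirstMain2

set_option autoImplicit false

namespace Cfsg.Agent.helper24

open Cfsg
open scoped ComplexConjugate

universe u

section Inverse2

variable {G : Type u} [Group G] [Fintype G]

/-- the inverse, inside the block, of a central element with local coefficients whose central
character values are units -/
theorem exists_block_inverse_gen {M : Ideal AlgInt} [hMp : M.IsPrime] (χ₀ : IrrCharacter G)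
    (u : G → ℂ) (hucf : IsClassFunction G u) (huR : ∀ g, MemLocalRing M (u g))
    (hω : ∀ χ ∈ blockOf M (χ₀ : G → ℂ), ¬ MemLocalIdeal M (omegaFn (χ : G → ℂ) u)) :
    ∃ v : G → ℂ, IsClassFunction G v ∧ (∀ g, MemLocalRing M (v g)) ∧
      cconv (blockCoeff (blockOf M (χ₀ : G → ℂ))) v = v ∧
      cconv v u = blockCoeff (blockOf M (χ₀ : G → ℂ)) := by
  classical
  have := Fintype.ofFinite (IrrCharacter G)
  have hMtop : M ≠ ⊤ := hMp.ne_top
  obtain ⟨B, hB⟩ : ∃ B : Set (IrrCharacter G), B = blockOf M (χ₀ : G → ℂ) := ⟨_, rfl⟩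
  rw [← hB] at hω ⊢
  obtain ⟨hcf, hl, ho, hidem⟩ := blockCoeff_props (M := M) χ₀
  rw [← hB] at hcf hl ho hidem
  obtain ⟨e, he⟩ : ∃ e : IrrCharacter G → ℂ, e = fun χ => if χ ∈ B then (1 : ℂ) else 0 :=
    ⟨_, rfl⟩
  have heS : e ∈ goodSubring G M := by
    rw [he, hB]
    exact blockIndicator_mem_goodSubring χ₀
  obtain ⟨w, hw⟩ : ∃ w : IrrCharacter G → ℂ,
    w = fun χ : IrrCharacter G => omegaFn (χ : G → ℂ) u := ⟨_, rfl⟩
  have hwS : w ∈ goodSubring G M := by
    rw [hw]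
    exact ⟨u, hucf, huR, fun χ => rfl⟩
  obtain ⟨Bf, hBf⟩ : ∃ Bf : Finset (IrrCharacter G), Bf = Finset.univ.filter (fun ψ => ψ ∈ B) :=
    ⟨_, rfl⟩
  obtain ⟨c, hc⟩ : ∃ c : IrrCharacter G → IrrCharacter G → ℂ,
      c = fun (ψ : IrrCharacter G) (_ : IrrCharacter G) => omegaFn (ψ : G → ℂ) u := ⟨_, rfl⟩
  have hcS : ∀ ψ ∈ Bf, c ψ ∈ goodSubring G M := by
    intro ψ _
    rw [hc]
    exact const_mem_goodSubring (omegaFn_memLocalRing ψ hucf huR)
  obtain ⟨U, hU, hdec⟩ := prod_sub_const_decomp (goodSubring G M) hwS Bf c hcS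
  obtain ⟨c₀, hc₀⟩ : ∃ c₀ : ℂ, c₀ = ∏ ψ ∈ Bf, (-omegaFn (ψ : G → ℂ) u) := ⟨_, rfl⟩
  have hc₀R : MemLocalRing M c₀ := by
    rw [hc₀]
    exact memLocalRing_prod _ _ (fun ψ _ => memLocalRing_neg (omegaFn_memLocalRing ψ hucf huR))
  have hc₀J : ¬ MemLocalIdeal M c₀ := by
    rw [hc₀]
    apply not_memLocalIdeal_prod
    · exact fun ψ _ => memLocalRing_neg (omegaFn_memLocalRing ψ hucf huR)
    · intro ψ hψ h
      rw [hBf, Finset.mem_filter] at hψ
      apply hω ψ hψ.2
      have := memLocalIdeal_neg h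
      rwa [neg_neg] at this
  have hc₀ne : c₀ ≠ 0 := by
    intro h0
    rw [h0] at hc₀J
    exact hc₀J (memLocalIdeal_zero hMtop)
  obtain ⟨f, hf⟩ : ∃ f : IrrCharacter G → ℂ, f = (fun _ => -c₀⁻¹) * U * e := ⟨_, rfl⟩
  have hfS : f ∈ goodSubring G M := by
    rw [hf]
    exact (goodSubring G M).mul_mem ((goodSubring G M).mul_mem
      (const_mem_goodSubring (memLocalRing_neg (memLocalRing_inv hc₀R hc₀J))) hU) heS
  have hfe : ∀ χ, e χ * f χ = f χ := by
    intro χ
    rw [hf, he]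
    simp only [Pi.mul_apply]
    by_cases hχ : χ ∈ B
    · rw [if_pos hχ]; ring
    · rw [if_neg hχ]; ring
  have hwf : ∀ χ, f χ * w χ = e χ := by
    intro χ
    by_cases hχ : χ ∈ B
    · have h1 := congrFun hdec χ
      rw [Finset.prod_apply, Pi.add_apply, Finset.prod_apply, Pi.mul_apply] at h1
      have h2 : ∏ ψ ∈ Bf, (w - c ψ) χ = 0 := by
        apply Finset.prod_eq_zero (i := χ)
        · rw [hBf, Finset.mem_filter]
          exact ⟨Finset.mem_univ _, hχ⟩
        · rw [Pi.sub_apply, hw, hc]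
          exact sub_self _
      have h3 : ∏ ψ ∈ Bf, (-c ψ) χ = c₀ := by
        rw [hc₀, hc]
        rfl
      rw [h2, h3] at h1
      rw [hf, he]
      simp only [Pi.mul_apply]
      rw [if_pos hχ]
      field_simp
      linear_combination h1
    · rw [hf, he]
      simp only [Pi.mul_apply]
      rw [if_neg hχ]
      ring
  obtain ⟨v, hv_cf, hv_loc, hv_ω⟩ := hfS
  refine ⟨v, hv_cf, hv_loc, ?_, ?_⟩
  · apply classFunction_ext_omega (cconv_isClassFunction hcf hv_cf) hv_cf
    intro χ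
    rw [omegaFn_cconv χ.2 _ hv_cf, ho χ, hv_ω χ]
    have := hfe χ
    rw [he] at this
    exact this
  · apply classFunction_ext_omega (cconv_isClassFunction hv_cf hucf) hcf
    intro χ
    rw [omegaFn_cconv χ.2 _ hucf, hv_ω χ, ho χ]
    have := hwf χ
    rw [he, hw] at this
    exact this

/-- the coefficient function of a sum of central idempotents is hermitian -/
theorem blockCoeff_conj (A : Set (IrrCharacter G)) (g : G) :
    conj (blockCoeff A g) = blockCoeff A g⁻¹ := by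
  classical
  have := Fintype.ofFinite (IrrCharacter G)
  rw [blockCoeff_eq_sum A, blockCoeff_eq_sum A, map_mul, map_inv₀, Complex.conj_natCast, map_sum]
  congr 1
  refine Finset.sum_congr rfl (fun χ _ => ?_)
  have hd : conj ((χ : G → ℂ) 1) = (χ : G → ℂ) 1 := by
    rw [← char_charDegree_cast (irr_isCharacter χ.2)]
    exact Complex.conj_natCast _
  rw [map_mul, hd, char_inv (irr_isCharacter χ.2)]

/-- the complementary idempotent -/
theorem blockCoeff_add_compl (A : Set (IrrCharacter G)) :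
    blockCoeff A + blockCoeff Aᶜ = deltaOne G := by
  classical
  apply classFunction_ext_omega
    (isClassFunction_add (blockCoeff_isClassFunction A) (blockCoeff_isClassFunction Aᶜ))
    deltaOne_isClassFunction
  intro ψ
  rw [omegaFn_add, omegaFn_blockCoeff, omegaFn_blockCoeff,
    omegaFn_deltaOne (irr_apply_one_ne_zero ψ.2)]
  by_cases hψ : ψ ∈ A
  · have h2 : ¬ ψ ∈ Aᶜ := fun h => h hψ
    rw [if_pos hψ, if_neg h2, add_zero]
  · have h2 : ψ ∈ Aᶜ := hψ
    rw [if_neg hψ, if_pos h2, zero_add]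

end Inverse2

section Stab

variable {G : Type u} [Group G]

/-- an element fixed by a power, prime to `p`, of the conjugation by `g` centralizes the `p`-part
of `g` -/
theorem mem_centralizer_ppart_of_fix {p : ℕ} (hp : p.Prime) {g z : G} (hgz : IsPPart p g z)
    {k : ℤ} (hk : ¬ (p : ℤ) ∣ k) {a : G} (ha : g ^ k * a * (g⁻¹) ^ k = a) :
    a ∈ Subgroup.centralizer ({z} : Set G) := by
  obtain ⟨n, hn⟩ := ppart_eq_zpow hp hgz
  obtain ⟨y, hzy, hc, ⟨m, hm⟩, hy⟩ := hgz
  have h1 : Commute (g ^ k) a := by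
    show g ^ k * a = a * g ^ k
    calc g ^ k * a = g ^ k * a * (g⁻¹) ^ k * g ^ k := by rw [inv_zpow, inv_mul_cancel_right]
      _ = a * g ^ k := by rw [ha]
  have h2 : Commute (z ^ k) a := by
    have : z ^ k = (g ^ k) ^ n := by rw [hn, ← zpow_mul, ← zpow_mul, mul_comm]
    rw [this]
    exact h1.zpow_left n
  have hcop : IsCoprime k ((p : ℤ) ^ m) := by
    have hpZ : Prime (p : ℤ) := Nat.prime_iff_prime_int.mp hp
    exact ((hpZ.coprime_iff_not_dvd.mpr hk).symm).pow_right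
  obtain ⟨s, t, hst⟩ := hcop
  have hzp : z ^ ((p : ℤ) ^ m) = 1 := by
    have : ((p : ℤ) ^ m) = ((p ^ m : ℕ) : ℤ) := by push_cast; rfl
    rw [this, zpow_natCast, ← hm, pow_orderOf_eq_one]
  have h3 : z = (z ^ k) ^ s := by
    calc z = z ^ (1 : ℤ) := (zpow_one z).symm
      _ = z ^ (s * k + t * (p : ℤ) ^ m) := by rw [hst]
      _ = (z ^ k) ^ s := by
        rw [zpow_add, mul_comm s k, zpow_mul, mul_comm t, zpow_mul, hzp, one_zpow, mul_one]
  rw [Subgroup.mem_centralizer_singleton_iff, h3]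
  exact (h2.zpow_left s).eq.symm

end Stab

end Cfsg.Agent.helper24
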