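import Mathlib
import Cfsg.Agent.Lib_helper24_SecondMain

set_option autoImplicit false

namespace Cfsg.Agent.helper24

open Cfsg
open scoped ComplexConjugate

universe u

section TraceFormula

variable {G : Type u} [Group G] [Fintype G]

open Classical in
/-- the twisted trace of `v ↦ f v f e_S` in terms of characters -/
theorem twisted_trace_eq [Fintype (IrrCharacter G)] (F : G → ℂ)
    (hF : ∀ g, conj (F g) = F g⁻¹) (S : Set (IrrCharacter G)) (h : G) :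
    ∑ x : G, algMat (toAlg F) (toAlg F * toAlg (blockCoeff S)) (h * x * h⁻¹) x =
      ∑ ψ ∈ Finset.univ.filter (fun ψ : IrrCharacter G => ψ ∈ S),
        conj (∑ u : G, F u * (ψ : G → ℂ) (u * h)) * ∑ v : G, F v * (ψ : G → ℂ) (v * h) := by
  obtain ⟨aS, haS⟩ : ∃ aS : G → ℂ, aS = blockCoeff S := ⟨_, rfl⟩
  have hcf : IsClassFunction G aS := by rw [haS]; exact blockCoeff_isClassFunction S
  rw [← haS]
  have h1 : ∀ x : G, algMat (toAlg F) (toAlg F * toAlg aS) (h * x * h⁻¹) x =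
      ∑ u : G, ∑ v : G, F u * F v * aS (h⁻¹ * v⁻¹ * x⁻¹ * (h⁻¹ * u)⁻¹ * x⁻¹⁻¹) := by
    intro x
    rw [algMat_explicit]
    refine Finset.sum_congr rfl (fun u _ => ?_)
    rw [toAlg_coeff, alg_coeff_mul, Finset.mul_sum]
    refine Finset.sum_congr rfl (fun v _ => ?_)
    rw [toAlg_coeff, toAlg_coeff, ← mul_assoc]
    congr 1
    rw [← hcf (v⁻¹ * (x⁻¹ * u⁻¹ * (h * x * h⁻¹))) h⁻¹]
    congr 1
    group
  rw [Finset.sum_congr rfl (fun x _ => h1 x), Finset.sum_comm]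
  have h2 : ∀ u : G, ∑ x : G, ∑ v : G, F u * F v * aS (h⁻¹ * v⁻¹ * x⁻¹ * (h⁻¹ * u)⁻¹ * x⁻¹⁻¹) =
      ∑ v : G, F u * F v * ∑ ψ ∈ Finset.univ.filter (fun ψ : IrrCharacter G => ψ ∈ S),
        (ψ : G → ℂ) (h⁻¹ * u) * conj ((ψ : G → ℂ) (h⁻¹ * v⁻¹)) := by
    intro u
    rw [Finset.sum_comm]
    refine Finset.sum_congr rfl (fun v _ => ?_)
    rw [← Finset.mul_sum]
    congr 1
    have e : ∑ x : G, aS (h⁻¹ * v⁻¹ * x⁻¹ * (h⁻¹ * u)⁻¹ * x⁻¹⁻¹) =
        ∑ g : G, aS (h⁻¹ * v⁻¹ * g * (h⁻¹ * u)⁻¹ * g⁻¹) :=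
      Equiv.sum_comp (Equiv.inv G) (fun g => aS (h⁻¹ * v⁻¹ * g * (h⁻¹ * u)⁻¹ * g⁻¹))
    rw [e, haS]
    exact blockCoeff_conj_sum S (h⁻¹ * v⁻¹) (h⁻¹ * u)
  rw [Finset.sum_congr rfl (fun u _ => h2 u)]
  have hX1 : ∀ ψ : IrrCharacter G, conj (∑ u : G, F u * (ψ : G → ℂ) (u * h)) =
      ∑ u : G, F u * (ψ : G → ℂ) (h⁻¹ * u) := by
    intro ψ
    rw [map_sum, ← Equiv.sum_comp (Equiv.inv G) (fun u => F u * (ψ : G → ℂ) (h⁻¹ * u))]
    refine Finset.sum_congr rfl (fun u _ => ?_)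
    rw [map_mul, hF, ← char_inv (irr_isCharacter ψ.2), mul_inv_rev]
    rfl
  have hX2 : ∀ ψ : IrrCharacter G, ∑ v : G, F v * (ψ : G → ℂ) (v * h) =
      ∑ v : G, F v * conj ((ψ : G → ℂ) (h⁻¹ * v⁻¹)) := by
    intro ψ
    refine Finset.sum_congr rfl (fun v _ => ?_)
    rw [← char_inv (irr_isCharacter ψ.2), mul_inv_rev, inv_inv, inv_inv]
  have hR : ∑ ψ ∈ Finset.univ.filter (fun ψ : IrrCharacter G => ψ ∈ S),
      conj (∑ u : G, F u * (ψ : G → ℂ) (u * h)) * ∑ v : G, F v * (ψ : G → ℂ) (v * h) =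
      ∑ ψ ∈ Finset.univ.filter (fun ψ : IrrCharacter G => ψ ∈ S), ∑ u : G, ∑ v : G,
        (F u * (ψ : G → ℂ) (h⁻¹ * u)) * (F v * conj ((ψ : G → ℂ) (h⁻¹ * v⁻¹))) :=
    Finset.sum_congr rfl (fun ψ _ => by rw [hX1 ψ, hX2 ψ, Finset.sum_mul_sum])
  rw [hR]
  symm
  rw [Finset.sum_comm]
  refine Finset.sum_congr rfl (fun u _ => ?_)
  rw [Finset.sum_comm]
  refine Finset.sum_congr rfl (fun v _ => ?_)
  rw [Finset.mul_sum]
  refine Finset.sum_congr rfl (fun ψ _ => ?_)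
  ring

open Classical in
/-- the block part of a class function in terms of the block idempotent -/
theorem blockPart_eq_idempotent_sum [Fintype (IrrCharacter G)] (b : Set (IrrCharacter G))
    (ϑ : G → ℂ) (hϑ : IsClassFunction G ϑ) (y : G) :
    ∑ ψ ∈ Finset.univ.filter (fun ψ : IrrCharacter G => ψ ∈ b),
        classInner ϑ (ψ : G → ℂ) * (ψ : G → ℂ) y =
      ∑ k : G, blockCoeff b k * ϑ (k * y) := by
  have hG : (Nat.card G : ℂ) ≠ 0 := by exact_mod_cast Nat.card_pos.ne'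
  simp_rw [blockCoeff_eq_sum b, Finset.mul_sum, Finset.sum_mul]
  rw [Finset.sum_comm]
  refine Finset.sum_congr rfl (fun ψ _ => ?_)
  have hne := irr_apply_one_ne_zero ψ.2
  have h1 : ∑ k : G, conj ((ψ : G → ℂ) k) * ϑ (k * y) =
      (∑ c : G, ϑ c * conj ((ψ : G → ℂ) c)) / (ψ : G → ℂ) 1 * (ψ : G → ℂ) y := by
    have h2 := irr_central_mul ψ.2 hϑ y
    have h3 : ∑ c : G, ϑ c * (ψ : G → ℂ) c⁻¹ = ∑ c : G, ϑ c * conj ((ψ : G → ℂ) c) :=
      Finset.sum_congr rfl (fun c _ => by rw [char_inv (irr_isCharacter ψ.2)])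
    rw [h3] at h2
    rw [← h2, ← Equiv.sum_comp (Equiv.mulRight y⁻¹)
      (fun k => conj ((ψ : G → ℂ) k) * ϑ (k * y))]
    refine Finset.sum_congr rfl (fun c _ => ?_)
    simp only [Equiv.coe_mulRight]
    rw [inv_mul_cancel_right, ← char_inv (irr_isCharacter ψ.2), mul_inv_rev, inv_inv, mul_comm]
  unfold classInner
  have h4 : ∑ k : G, (Nat.card G : ℂ)⁻¹ * ((ψ : G → ℂ) 1 * conj ((ψ : G → ℂ) k)) * ϑ (k * y) =
      (Nat.card G : ℂ)⁻¹ * (ψ : G → ℂ) 1 * ∑ k : G, conj ((ψ : G → ℂ) k) * ϑ (k * y) := by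
    rw [Finset.mul_sum]
    exact Finset.sum_congr rfl (fun k _ => by ring)
  rw [h4, h1]
  field_simp

end TraceFormula

section PPartUnique

variable {G : Type u} [Group G]

/-- the `p`-part is unique -/
theorem isPPart_unique {p : ℕ} (hp : p.Prime) {g z z' : G} (h : IsPPart p g z)
    (h' : IsPPart p g z') : z = z' := by
  obtain ⟨n, hn⟩ := ppart_eq_zpow hp h
  obtain ⟨n', hn'⟩ := ppart_eq_zpow hp h'
  obtain ⟨y, hzy, hc, ⟨m, hm⟩, hy⟩ := h
  obtain ⟨y', hzy', hc', ⟨m', hm'⟩, hy'⟩ := h'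
  have hy1 : y = g ^ (1 - n) := by
    have : y = z⁻¹ * g := by rw [← hzy, inv_mul_cancel_left]
    rw [this, hn, ← zpow_neg, zpow_sub, zpow_one, zpow_neg]
    exact ((Commute.refl g).zpow_left n).inv_left.eq
  have hy1' : y' = g ^ (1 - n') := by
    have : y' = z'⁻¹ * g := by rw [← hzy', inv_mul_cancel_left]
    rw [this, hn', ← zpow_neg, zpow_sub, zpow_one, zpow_neg]
    exact ((Commute.refl g).zpow_left n').inv_left.eq
  obtain ⟨w, hw⟩ : ∃ w : G, w = g ^ (n - n') := ⟨_, rfl⟩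
  have hw1 : ∀ N : ℕ, w ^ N = z ^ N * (z' ^ N)⁻¹ := by
    intro N
    rw [hw, hn, hn', ← zpow_natCast, ← zpow_natCast, ← zpow_natCast, ← zpow_mul, ← zpow_mul,
      ← zpow_mul, ← zpow_neg, ← zpow_add]
    congr 1
    ring
  have hw2 : ∀ N : ℕ, w ^ N = y' ^ N * (y ^ N)⁻¹ := by
    intro N
    rw [hw, hy1, hy1', ← zpow_natCast, ← zpow_natCast, ← zpow_natCast, ← zpow_mul, ← zpow_mul,
      ← zpow_mul, ← zpow_neg, ← zpow_add]
    congr 1
    ring
  have hd1 : orderOf w ∣ p ^ m * p ^ m' := by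
    apply orderOf_dvd_of_pow_eq_one
    rw [hw1]
    have e1 : z ^ (p ^ m * p ^ m') = 1 := by rw [pow_mul, ← hm, pow_orderOf_eq_one, one_pow]
    have e2 : z' ^ (p ^ m * p ^ m') = 1 := by
      rw [mul_comm, pow_mul, ← hm', pow_orderOf_eq_one, one_pow]
    rw [e1, e2, inv_one, mul_one]
  have hd2 : orderOf w ∣ orderOf y * orderOf y' := by
    apply orderOf_dvd_of_pow_eq_one
    rw [hw2]
    have e1 : y ^ (orderOf y * orderOf y') = 1 := by rw [pow_mul, pow_orderOf_eq_one, one_pow]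
    have e2 : y' ^ (orderOf y * orderOf y') = 1 := by
      rw [mul_comm, pow_mul, pow_orderOf_eq_one, one_pow]
    rw [e1, e2, inv_one, mul_one]
  have hcop : Nat.Coprime (p ^ m * p ^ m') (orderOf y * orderOf y') := by
    have h1 : Nat.Coprime p (orderOf y * orderOf y') :=
      Nat.Coprime.mul_right ((Nat.Prime.coprime_iff_not_dvd hp).2 hy)
        ((Nat.Prime.coprime_iff_not_dvd hp).2 hy')
    exact Nat.Coprime.mul_left (h1.pow_left m) (h1.pow_left m')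
  have hone : orderOf w = 1 :=
    Nat.Coprime.eq_one_of_dvd (Nat.Coprime.coprime_dvd_left hd1 hcop) hd2
  have hw0 : w = 1 := orderOf_eq_one_iff.1 hone
  have hfin : z = w * z' := by
    rw [hw, hn, hn', ← zpow_add]
    congr 1
    ring
  rw [hfin, hw0, one_mul]

end PPartUnique

end Cfsg.Agent.helper24
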