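import Mathlib
import Cfsg.Agent.Lib_helper24_SecondMain2

set_option autoImplicit false

namespace Cfsg.Agent.helper24

open Cfsg

universe u

section Count

variable {G : Type u} [Group G] [Finite G]

/-- the number of `p`-regular elements is prime to `p` -/
theorem card_pregular_not_dvd (p : ℕ) [Fact p.Prime] :
    ¬ p ∣ Nat.card {x : G | ¬ p ∣ orderOf x} := by
  classical
  have hp : p.Prime := Fact.out
  obtain ⟨P⟩ : Nonempty (Sylow p G) := inferInstance
  obtain ⟨Y, hYdef⟩ : ∃ Y : Set G, Y = {x : G | ¬ p ∣ orderOf x} := ⟨_, rfl⟩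
  rw [← hYdef]
  have hYmem : ∀ x, x ∈ Y ↔ ¬ p ∣ orderOf x := fun x => by rw [hYdef]; rfl
  have hY : ∀ s ∈ (P : Subgroup G), ∀ y ∈ Y, s * y * s⁻¹ ∈ Y := by
    intro s _ y hy
    rw [hYmem] at hy ⊢
    have h2 : orderOf (s * y * s⁻¹) = orderOf y := by
      have := MulEquiv.orderOf_eq (MulAut.conj s) y
      rwa [MulAut.conj_apply] at this
    rwa [h2]
  letI act : MulAction (P : Subgroup G) Y := conjSetAction (P : Subgroup G) Y hY
  have h1 := P.2.card_modEq_card_fixedPoints Y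
  obtain ⟨C, hC⟩ : ∃ C : Subgroup G, C = Subgroup.centralizer ((P : Subgroup G) : Set G) :=
    ⟨_, rfl⟩
  have hCmem : ∀ g, g ∈ C ↔ ∀ s ∈ (P : Subgroup G), s * g = g * s := by
    intro g
    rw [hC, Subgroup.mem_centralizer_iff]
    rfl
  have hfix : ∀ y : Y, y ∈ MulAction.fixedPoints (P : Subgroup G) Y ↔ (y : G) ∈ C := by
    intro y
    rw [MulAction.mem_fixedPoints, hCmem]
    constructor
    · intro h s hs
      have h2 := congrArg Subtype.val (h ⟨s, hs⟩)
      have h3 : s * (y : G) * s⁻¹ = (y : G) := h2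
      calc s * (y : G) = s * (y : G) * s⁻¹ * s := by group
        _ = (y : G) * s := by rw [h3]
    · intro h s
      apply Subtype.ext
      show (s : G) * (y : G) * (s : G)⁻¹ = (y : G)
      rw [h s s.2, mul_inv_cancel_right]
  obtain ⟨Z, hZ⟩ : ∃ Z : Subgroup G, Z = (P : Subgroup G) ⊓ C := ⟨_, rfl⟩
  have hZmem : ∀ g, g ∈ Z ↔ g ∈ (P : Subgroup G) ∧ g ∈ C := by
    intro g
    rw [hZ, Subgroup.mem_inf]
  obtain ⟨F, hF⟩ : ∃ F : Set G, F = {x : G | x ∈ C ∧ ¬ p ∣ orderOf x} := ⟨_, rfl⟩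
  have hFmem : ∀ x, x ∈ F ↔ x ∈ C ∧ ¬ p ∣ orderOf x := fun x => by rw [hF]; rfl
  have hcardF : Nat.card (MulAction.fixedPoints (P : Subgroup G) Y) = Nat.card F := by
    apply Nat.card_congr
    exact
      { toFun := fun y => ⟨(y.1 : G), (hFmem _).2 ⟨(hfix y.1).1 y.2, (hYmem _).1 y.1.2⟩⟩
        invFun := fun x => ⟨⟨x.1, (hYmem _).2 ((hFmem _).1 x.2).2⟩, (hfix _).2 ((hFmem _).1 x.2).1⟩
        left_inv := fun y => rfl
        right_inv := fun x => rfl }
  -- the `p`-elements of `C` lie in `P`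
  have hpel : ∀ c ∈ C, (∃ k : ℕ, orderOf c = p ^ k) → c ∈ (P : Subgroup G) := by
    rintro c hc ⟨k, hk⟩
    have hQ : IsPGroup p (Subgroup.zpowers c) :=
      IsPGroup.of_card (n := k) (by rw [Nat.card_zpowers, hk])
    have hnorm : Subgroup.zpowers c ≤ Subgroup.normalizer ((P : Subgroup G) : Set G) := by
      apply Subgroup.zpowers_le.2
      apply Subgroup.centralizer_le_normalizer
      rw [← hC]
      exact hc
    have hsup : IsPGroup p ((P : Subgroup G) ⊔ Subgroup.zpowers c : Subgroup G) :=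
      IsPGroup.to_sup_of_normal_left' P.2 hQ hnorm
    have h2 := P.is_maximal' hsup le_sup_left
    rw [← h2]
    exact (le_sup_right : Subgroup.zpowers c ≤ _) (Subgroup.mem_zpowers c)
  have hPord : ∀ z ∈ (P : Subgroup G), ∃ k : ℕ, orderOf z = p ^ k := by
    intro z hz
    obtain ⟨k, hk⟩ := IsPGroup.iff_orderOf.1 P.2 ⟨z, hz⟩
    exact ⟨k, by rw [← hk, Subgroup.orderOf_mk]⟩
  have hcardC : Nat.card C = Nat.card Z * Nat.card F := by
    rw [← Nat.card_prod]
    apply Nat.card_congr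
    symm
    have hmem : ∀ zy : Z × F, (zy.1 : G) * (zy.2 : G) ∈ C :=
      fun zy => C.mul_mem ((hZmem _).1 zy.1.2).2 ((hFmem _).1 zy.2.2).1
    apply Equiv.ofBijective (fun zy : Z × F => (⟨(zy.1 : G) * (zy.2 : G), hmem zy⟩ : C))
    constructor
    · rintro ⟨z, y⟩ ⟨z', y'⟩ h
      have h2 : (z : G) * (y : G) = (z' : G) * (y' : G) := congrArg Subtype.val h
      have hcomm : Commute (z : G) (y : G) :=
        ((hCmem _).1 ((hFmem _).1 y.2).1) z ((hZmem _).1 z.2).1
      have hcomm' : Commute (z' : G) (y' : G) :=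
        ((hCmem _).1 ((hFmem _).1 y'.2).1) z' ((hZmem _).1 z'.2).1
      have hz1 : IsPPart p ((z : G) * (y : G)) (z : G) :=
        ⟨y, rfl, hcomm, hPord _ ((hZmem _).1 z.2).1, ((hFmem _).1 y.2).2⟩
      have hz2 : IsPPart p ((z : G) * (y : G)) (z' : G) :=
        ⟨y', h2.symm, hcomm', hPord _ ((hZmem _).1 z'.2).1, ((hFmem _).1 y'.2).2⟩
      have hzz : (z : G) = (z' : G) := isPPart_unique hp hz1 hz2
      have hyy : (y : G) = (y' : G) := by
        rw [hzz] at h2
        exact mul_left_cancel h2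
      exact Prod.ext (Subtype.ext hzz) (Subtype.ext hyy)
    · intro c
      obtain ⟨z, hz⟩ := exists_isPPart p (c : G)
      obtain ⟨n, hn⟩ := ppart_eq_zpow hp hz
      obtain ⟨y, hzy, hcomm, hzo, hyo⟩ := hz
      have hzC : z ∈ C := by rw [hn]; exact C.zpow_mem c.2 n
      have hzP : z ∈ (P : Subgroup G) := hpel z hzC hzo
      have hyC : y ∈ C := by
        have h3 : y = z⁻¹ * (c : G) := by rw [← hzy, inv_mul_cancel_left]
        rw [h3]
        exact C.mul_mem (C.inv_mem hzC) c.2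
      exact ⟨(⟨z, (hZmem _).2 ⟨hzP, hzC⟩⟩, ⟨y, (hFmem y).2 ⟨hyC, hyo⟩⟩), Subtype.ext hzy⟩
  -- `Z` is a Sylow `p`-subgroup of `C`
  obtain ⟨S⟩ : Nonempty (Sylow p C) := inferInstance
  have hZC : Z ≤ C := by rw [hZ]; exact inf_le_right
  have hZS : Z.subgroupOf C = (S : Subgroup C) := by
    apply S.is_maximal'
    · have hle : Z ≤ (P : Subgroup G) := by rw [hZ]; exact inf_le_left
      exact (P.2.to_le hle).comap_subtype
    · intro s hs
      rw [Subgroup.mem_subgroupOf]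
      obtain ⟨k, hk⟩ := IsPGroup.iff_orderOf.1 S.2 ⟨s, hs⟩
      have hso : orderOf (s : G) = p ^ k := by
        rw [← hk, Subgroup.orderOf_mk, Subgroup.orderOf_coe]
      exact (hZmem _).2 ⟨hpel _ s.2 ⟨k, hso⟩, s.2⟩
  have hcardZ : Nat.card Z = p ^ (Nat.card C).factorization p := by
    have h2 : Nat.card (Z.subgroupOf C) = Nat.card Z :=
      Nat.card_congr (Subgroup.subgroupOfEquivOfLe hZC).toEquiv
    rw [← h2, hZS, Sylow.card_eq_multiplicity]
  intro hdvd
  have h3 : p ∣ Nat.card F := by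
    rw [← hcardF]
    exact (Nat.ModEq.dvd_iff h1 (dvd_refl p)).1 hdvd
  have hC0 : Nat.card C ≠ 0 := Nat.card_pos.ne'
  apply Nat.pow_succ_factorization_not_dvd hC0 hp
  rw [pow_succ]
  conv_rhs => rw [hcardC, hcardZ]
  exact Nat.mul_dvd_mul_left _ h3

end Count

end Cfsg.Agent.helper24
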