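import Mathlib
import Cfsg.Agent.Lib_helper24_SecondMain2

set_option autoImplicit false

namespace Cfsg.Agent.helper24

open Cfsg
open scoped ComplexConjugate

universe u

section Main

variable {G : Type u} [Group G] [Fintype G]

/-- **Brauer's second main theorem**, idempotent form -/
theorem second_main_idempotent (p : ℕ) [Fact p.Prime]
    (M : Ideal AlgInt) (hM : IsPModular p M) (H : Subgroup G) [Fintype H]
    (b : Set (IrrCharacter H)) (B : Set (IrrCharacter G)) (hind : IsInducedBlock M H b B) (h : H)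
    (hC : ∀ z : G, IsPPart p (h : G) z → Subgroup.centralizer ({z} : Set G) ≤ H)
    (χ : IrrCharacter G) (hχ : χ ∉ B) :
    ∑ k : H, blockCoeff b k * (χ : G → ℂ) ((k : G) * (h : G)) = 0 := by
  classical
  have := Fintype.ofFinite (IrrCharacter G)
  have hp : p.Prime := Fact.out
  have hMp : M.IsPrime := hM.2.1.isPrime
  have hMtop : M ≠ ⊤ := hMp.ne_top
  obtain ⟨ξ₀, hbeq⟩ := hind.1
  obtain ⟨χ₀, hBeq⟩ := hind.2.1
  have hξ₀ : ξ₀ ∈ b := by rw [hbeq]; exact sameBlock_refl M hMtop _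
  have hχ₀ : χ₀ ∈ B := by rw [hBeq]; exact sameBlock_refl M hMtop _
  obtain ⟨ab, hab⟩ : ∃ ab : H → ℂ, ab = blockCoeff b := ⟨_, rfl⟩
  rw [← hab]
  obtain ⟨aB, haB⟩ : ∃ aB : G → ℂ, aB = blockCoeff B := ⟨_, rfl⟩
  obtain ⟨aC, haC⟩ : ∃ aC : G → ℂ, aC = blockCoeff Bᶜ := ⟨_, rfl⟩
  obtain ⟨habcf, habR, habω, habidem⟩ := blockCoeff_props (M := M) ξ₀
  rw [← hbeq, ← hab] at habcf habR habω habidem
  obtain ⟨haBcf, haBR, haBω, haBidem⟩ := blockCoeff_props (M := M) χ₀
  rw [← hBeq, ← haB] at haBcf haBR haBω haBidem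
  have haCcf : IsClassFunction G aC := by rw [haC]; exact blockCoeff_isClassFunction _
  have hsum : aB + aC = deltaOne G := by rw [haB, haC]; exact blockCoeff_add_compl B
  have haCeq : aC = deltaOne G - aB := eq_sub_of_add_eq' hsum
  -- restriction of e_B to H
  obtain ⟨s, hs⟩ : ∃ s : H → ℂ, s = fun k : H => aB (k : G) := ⟨_, rfl⟩
  have hscf : IsClassFunction H s := by rw [hs]; exact restrict_isClassFunction H haBcf
  have hsR : ∀ k, MemLocalRing M (s k) := by intro k; rw [hs]; exact haBR _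
  have hsω : ∀ ξ ∈ b, MemLocalIdeal M (omegaFn (ξ : H → ℂ) s - 1) := by
    intro ξ hξ
    have h1 := induced_omegaFn_sub H hind hξ hχ₀ haBcf haBR
    rw [haBω χ₀, if_pos hχ₀] at h1
    rw [hs]
    exact h1
  obtain ⟨u₀, hu₀⟩ : ∃ u₀ : H → ℂ, u₀ = cconv s ab := ⟨_, rfl⟩
  have hu₀cf : IsClassFunction H u₀ := by rw [hu₀]; exact cconv_isClassFunction hscf habcf
  have hu₀R : ∀ k, MemLocalRing M (u₀ k) := by rw [hu₀]; exact cconv_memLocalRing hsR habR
  have hu₀ω : ∀ ξ ∈ blockOf M (ξ₀ : H → ℂ), ¬ MemLocalIdeal M (omegaFn (ξ : H → ℂ) u₀) := by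
    intro ξ hξ hJ
    rw [← hbeq] at hξ
    rw [hu₀, omegaFn_cconv ξ.2 _ habcf, habω ξ, if_pos hξ, mul_one] at hJ
    have h1 := memLocalIdeal_sub hJ (hsω ξ hξ)
    rw [sub_sub_cancel] at h1
    exact not_memLocalIdeal_one h1
  obtain ⟨w, hwcf, hwR, hw1, hw2⟩ := exists_block_inverse_gen (M := M) ξ₀ u₀ hu₀cf hu₀R hu₀ω
  rw [← hbeq, ← hab] at hw1 hw2
  -- elements of the group algebra
  obtain ⟨F, hF⟩ : ∃ F : G → ℂ, F = extZ H ab := ⟨_, rfl⟩
  obtain ⟨f, hf⟩ : ∃ f : MonoidAlgebra ℂ G, f = toAlg F := ⟨_, rfl⟩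
  obtain ⟨wG, hwG⟩ : ∃ wG : MonoidAlgebra ℂ G, wG = toAlg (extZ H w) := ⟨_, rfl⟩
  obtain ⟨sG, hsG⟩ : ∃ sG : MonoidAlgebra ℂ G, sG = toAlg (extZ H s) := ⟨_, rfl⟩
  obtain ⟨e, he⟩ : ∃ e : MonoidAlgebra ℂ G, e = toAlg aB := ⟨_, rfl⟩
  obtain ⟨E, hE⟩ : ∃ E : MonoidAlgebra ℂ G, E = toAlg aC := ⟨_, rfl⟩
  have hff : f * f = f := by rw [hf, hF, ← toAlg_cconv, ← extZ_cconv, habidem]
  have hwsf : wG * (sG * f) = f := by
    rw [hwG, hsG, hf, hF, ← toAlg_cconv, ← extZ_cconv, ← toAlg_cconv, ← extZ_cconv, ← hu₀, hw2]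
  have hee : e * e = e := by rw [he, ← toAlg_cconv, haBidem]
  have hEe : E = 1 - e := by rw [hE, he, haCeq, toAlg_sub, toAlg_deltaOne]
  have hec : ∀ a : MonoidAlgebra ℂ G, e * a = a * e := by rw [he]; exact toAlg_central haBcf
  have hfsupp : SuppIn H f := by rw [hf, hF]; exact suppIn_extZ H ab
  have hssupp : SuppIn H sG := by rw [hsG]; exact suppIn_extZ H s
  have hfcomm : ∀ k ∈ H, MonoidAlgebra.single k 1 * f = f * MonoidAlgebra.single k 1 := by
    intro k hk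
    rw [hf, hF]
    exact toAlg_commute_single (fun g => extZ_conj_invariant H habcf k hk g)
  -- the matrices
  obtain ⟨P, hP⟩ : ∃ P : Matrix G G ℂ, P = algMat f f := ⟨_, rfl⟩
  obtain ⟨Q, hQ⟩ : ∃ Q : Matrix G G ℂ, Q = algMat f (f * e) := ⟨_, rfl⟩
  obtain ⟨W, hW⟩ : ∃ W : Matrix G G ℂ, W = Matrix.of
    (fun x k : G => if x ∈ H ∧ k ∈ H then wG.coeff (x * k⁻¹) else 0) := ⟨_, rfl⟩
  have hWa : ∀ x k, W x k = if x ∈ H ∧ k ∈ H then wG.coeff (x * k⁻¹) else 0 :=
    fun x k => by rw [hW]; rfl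
  have hfe2 : f * e * (f * e) = f * e := by
    calc f * e * (f * e) = f * (e * f) * e := by simp only [mul_assoc]
      _ = f * (f * e) * e := by rw [hec f]
      _ = (f * f) * (e * e) := by simp only [mul_assoc]
      _ = f * e := by rw [hff, hee]
  have hfef : f * e * f = f * e := by
    calc f * e * f = f * (e * f) := by rw [mul_assoc]
      _ = f * (f * e) := by rw [hec f]
      _ = f * e := by rw [← mul_assoc, hff]
  have hPP : P * P = P := by rw [hP, algMat_mul, hff]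
  have hQQ : Q * Q = Q := by rw [hQ, algMat_mul, hff, hfe2]
  have hQP : Q * P = Q := by rw [hQ, hP, algMat_mul, hff, ← mul_assoc, hff]
  have hPQ : P * Q = Q := by rw [hP, hQ, algMat_mul, hff, hfef]
  have hFR : ∀ g, MemLocalRing M (F g) := by
    intro g
    rw [hF]
    by_cases hg : g ∈ H
    · rw [extZ_of_mem H ab hg]; exact habR _
    · rw [extZ_of_not_mem H ab hg]; exact memLocalRing_zero hMtop
  have hfR : IsRv M f := by rw [hf]; exact isRv_toAlg hFR
  have heR : IsRv M e := by rw [he]; exact isRv_toAlg haBR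
  have hwGR : IsRv M wG := by
    rw [hwG]
    apply isRv_toAlg
    intro g
    by_cases hg : g ∈ H
    · rw [extZ_of_mem H w hg]; exact hwR _
    · rw [extZ_of_not_mem H w hg]; exact memLocalRing_zero hMtop
  have hPR : ∀ i j, MemLocalRing M (P i j) := by rw [hP]; exact algMat_isRv hfR hfR
  have hQR : ∀ i j, MemLocalRing M (Q i j) := by rw [hQ]; exact algMat_isRv hfR (hfR.mul heR)
  have hWR : ∀ i j, MemLocalRing M (W i j) := by
    intro i j
    rw [hWa]
    split_ifs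
    · exact hwGR _
    · exact memLocalRing_zero hMtop
  -- the permutation
  obtain ⟨σ, hσ⟩ : ∃ σ : Equiv.Perm G, σ = twoSided (h : G) (h : G) := ⟨_, rfl⟩
  have hσa : ∀ x, σ x = (h : G) * x * (h : G)⁻¹ := fun x => by rw [hσ]; rfl
  have hσq : ∀ x, σ x ∈ H ↔ x ∈ H := by
    intro x
    rw [hσa]
    constructor
    · intro hx
      have := H.mul_mem (H.mul_mem (H.inv_mem h.2) hx) h.2
      have e1 : (h : G)⁻¹ * ((h : G) * x * (h : G)⁻¹) * (h : G) = x := by group
      rwa [e1] at this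
    · intro hx
      exact H.mul_mem (H.mul_mem h.2 hx) (H.inv_mem h.2)
  have hPσ : ∀ i j, P (σ i) (σ j) = P i j := by
    intro i j
    rw [hσa, hσa, hP]
    exact algMat_conj f f (h : G) (hfcomm _ h.2) (hfcomm _ h.2) i j
  have hfecomm : MonoidAlgebra.single (h : G) 1 * (f * e) =
      f * e * MonoidAlgebra.single (h : G) 1 := by
    calc MonoidAlgebra.single (h : G) 1 * (f * e)
        = (MonoidAlgebra.single (h : G) 1 * f) * e := (mul_assoc _ _ _).symm
      _ = (f * MonoidAlgebra.single (h : G) 1) * e := by rw [hfcomm _ h.2]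
      _ = f * (MonoidAlgebra.single (h : G) 1 * e) := mul_assoc _ _ _
      _ = f * (e * MonoidAlgebra.single (h : G) 1) := by rw [hec]
      _ = f * e * MonoidAlgebra.single (h : G) 1 := (mul_assoc _ _ _).symm
  have hQσ : ∀ i j, Q (σ i) (σ j) = Q i j := by
    intro i j
    rw [hσa, hσa, hQ]
    exact algMat_conj f (f * e) (h : G) (hfcomm _ h.2) hfecomm i j
  have hwinv : ∀ k ∈ H, ∀ g, wG.coeff (k * g * k⁻¹) = wG.coeff g := by
    intro k hk g
    rw [hwG, toAlg_coeff, toAlg_coeff]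
    exact extZ_conj_invariant H hwcf k hk g
  have hWσ : ∀ i j, W (σ i) (σ j) = W i j := by
    intro i j
    rw [hWa, hWa]
    by_cases hc : i ∈ H ∧ j ∈ H
    · rw [if_pos hc, if_pos ⟨(hσq i).2 hc.1, (hσq j).2 hc.2⟩, hσa, hσa,
        ← hwinv (h : G) h.2 (i * j⁻¹)]
      congr 1
      group
    · rw [if_neg hc, if_neg (fun hc' => hc ⟨(hσq i).1 hc'.1, (hσq j).1 hc'.2⟩)]
  have hP0' : ∀ i j, i ∉ H → j ∈ H → P i j = 0 := by
    intro i j hi hj
    rw [hP, algMat_apply]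
    exact ((hfsupp.mul (suppIn_single hj)).mul hfsupp) i hi
  have hW0 : ∀ i j, ¬ (i ∈ H ∧ j ∈ H) → W i j = 0 := fun i j hc => by rw [hWa, if_neg hc]
  have hWQ : ∀ i j, i ∈ H → j ∈ H → ∑ k, W i k * Q k j = P i j := by
    intro i j hi hj
    obtain ⟨d, hd⟩ : ∃ d : MonoidAlgebra ℂ G, d = f * MonoidAlgebra.single j 1 * f := ⟨_, rfl⟩
    have hdsupp : SuppIn H d := by rw [hd]; exact (hfsupp.mul (suppIn_single hj)).mul hfsupp
    have hes : ∀ k ∈ H, e.coeff k = sG.coeff k := by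
      intro k hk
      rw [he, hsG, toAlg_coeff, toAlg_coeff, extZ_of_mem H s hk, hs]
    have hQd : ∀ k, Q k j = (d * e).coeff k := by
      intro k
      have e1 : f * MonoidAlgebra.single j 1 * (f * e) = f * MonoidAlgebra.single j 1 * f * e := by
        simp only [mul_assoc]
      rw [hQ, algMat_apply, hd, e1]
    have h1 : ∀ k, W i k * Q k j = wG.coeff (i * k⁻¹) * (d * sG).coeff k := by
      intro k
      by_cases hk : k ∈ H
      · rw [hWa, if_pos ⟨hi, hk⟩, hQd, coeff_mul_trunc H hdsupp hes hk]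
      · rw [hWa, if_neg (fun hc => hk hc.2), zero_mul, (hdsupp.mul hssupp) k hk, mul_zero]
    rw [Finset.sum_congr rfl (fun k _ => h1 k), ← alg_coeff_mul']
    have h2 : wG * (d * sG) = d := by
      have hcomm : sG * d = d * sG := by
        rw [hsG]
        exact toAlg_commute_of_suppIn H (extZ_conj_invariant H hscf) hdsupp
      rw [← hcomm, hd]
      calc wG * (sG * (f * MonoidAlgebra.single j 1 * f))
          = (wG * (sG * f)) * MonoidAlgebra.single j 1 * f := by simp only [mul_assoc]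
        _ = f * MonoidAlgebra.single j 1 * f := by rw [hwsf]
    rw [h2, hP, algMat_apply, hd]
  have hstab : ∀ (a : G) (k : ℤ), a ∉ H → (σ ^ k) a = a → (p : ℤ) ∣ k := by
    intro a k ha hk
    by_contra hpk
    obtain ⟨z, hz⟩ := exists_isPPart p (h : G)
    rw [hσ, twoSided_zpow_apply] at hk
    exact ha (hC z hz (mem_centralizer_ppart_of_fix hp hz hpk hk))
  have htr := trace_diff_eq_zero hM (fun x => x ∈ H) σ hσq P Q W hPP hQQ hQP hPQ hPR hQR hWR
    hPσ hQσ hWσ hP0' hW0 hWQ hstab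
  have hPQE : P - Q = algMat f (f * E) := by
    rw [hP, hQ, algMat_sub_right, hEe, mul_sub, mul_one]
  rw [hPQE] at htr
  have htr2 : ∑ x : G, algMat f (f * E) ((h : G) * x * (h : G)⁻¹) x = 0 := by
    rw [← htr]
    exact Finset.sum_congr rfl (fun i _ => by rw [hσa])
  have hFconj : ∀ g, conj (F g) = F g⁻¹ := by
    intro g
    rw [hF]
    by_cases hg : g ∈ H
    · rw [extZ_of_mem H ab hg, extZ_of_mem H ab (H.inv_mem hg), hab, blockCoeff_conj]
      rfl
    · rw [extZ_of_not_mem H ab hg,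
        extZ_of_not_mem H ab (fun h2 => hg (by simpa using H.inv_mem h2)), map_zero]
  have hid := twisted_trace_eq F hFconj Bᶜ (h : G)
  rw [← hf, ← haC, ← hE, htr2] at hid
  obtain ⟨X, hX⟩ : ∃ X : IrrCharacter G → ℂ,
    X = fun ψ : IrrCharacter G => ∑ u : G, F u * (ψ : G → ℂ) (u * (h : G)) := ⟨_, rfl⟩
  have hz : ∑ ψ ∈ Finset.univ.filter (fun ψ : IrrCharacter G => ψ ∈ Bᶜ),
      conj (X ψ) * X ψ = 0 := by
    subst hX
    convert hid.symm
  have hnn : ∑ ψ ∈ Finset.univ.filter (fun ψ : IrrCharacter G => ψ ∈ Bᶜ),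
      Complex.normSq (X ψ) = 0 := by
    have h1 : ((∑ ψ ∈ Finset.univ.filter (fun ψ : IrrCharacter G => ψ ∈ Bᶜ),
        Complex.normSq (X ψ) : ℝ) : ℂ) = 0 := by
      rw [Complex.ofReal_sum, ← hz]
      exact Finset.sum_congr rfl (fun ψ _ => Complex.normSq_eq_conj_mul_self)
    exact_mod_cast h1
  have hχS : χ ∈ Finset.univ.filter (fun ψ : IrrCharacter G => ψ ∈ Bᶜ) :=
    Finset.mem_filter.2 ⟨Finset.mem_univ _, hχ⟩
  have h0 := (Finset.sum_eq_zero_iff_of_nonneg (fun ψ _ => Complex.normSq_nonneg _)).1 hnn χ hχS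
  have hX0 : X χ = 0 := Complex.normSq_eq_zero.1 h0
  rw [hX] at hX0
  rw [← sum_extZ_mul H ab (fun u => (χ : G → ℂ) (u * (h : G))), ← hF]
  exact hX0

end Main

end Cfsg.Agent.helper24
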