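import Mathlib
import Cfsg.Agent.Lib_helper24_SecondMain3

set_option autoImplicit false

namespace Cfsg.Agent.helper24

open Cfsg
open scoped ComplexConjugate

universe u

section Chars

/-- the idempotent of a block of `C(x)` not inducing the block of `χ` kills `χ` on the `p`-section
of `x` -/
theorem second_main_aux {G : Type u} [Group G] [Fintype G] (p : ℕ) [Fact p.Prime]
    (M : Ideal AlgInt) (hM : IsPModular p M) (x : G) (hx : ∃ k : ℕ, orderOf x = p ^ k)
    (H : Subgroup G) [Fintype H] (hH : H = Subgroup.centralizer ({x} : Set G))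
    (B : Set (IrrCharacter G)) (hB : IsPBlock M B) (χ : IrrCharacter G) (hχ : χ ∈ B)
    (b : Set (IrrCharacter H)) (hb : IsPBlock M b) (hnot : ¬ IsInducedBlock M H b B) (y : H)
    (hy : ¬ p ∣ orderOf y) :
    ∑ k : H, blockCoeff b k * (χ : G → ℂ) ((k : G) * (x * (y : G))) = 0 := by
  classical
  have hp : p.Prime := Fact.out
  have hMp : M.IsPrime := hM.2.1.isPrime
  have hxH : x ∈ H := by rw [hH, Subgroup.mem_centralizer_singleton_iff]
  obtain ⟨ξ₀, hbeq⟩ := hb
  have hP : IsPGroup p (Subgroup.zpowers x) := by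
    obtain ⟨k, hk⟩ := hx
    apply IsPGroup.of_card (n := k)
    rw [Nat.card_zpowers, hk]
  have hPH : Subgroup.zpowers x ≤ H := Subgroup.zpowers_le.2 hxH
  have hCH : Subgroup.centralizer (Subgroup.zpowers x : Set G) ≤ H := by
    rw [hH]
    apply Subgroup.centralizer_le
    intro g hg
    rw [Set.mem_singleton_iff] at hg
    rw [hg]
    exact Subgroup.mem_zpowers x
  have hHN : H ≤ Subgroup.normalizer (Subgroup.zpowers x : Set G) := by
    intro g hg
    rw [hH, Subgroup.mem_centralizer_singleton_iff] at hg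
    have hcomm : ∀ n ∈ Subgroup.zpowers x, g * n * g⁻¹ = n := by
      intro n hn
      obtain ⟨i, rfl⟩ := Subgroup.mem_zpowers_iff.1 hn
      have h1 : Commute g (x ^ i) := (show Commute g x from hg).zpow_right i
      rw [h1.eq, mul_inv_cancel_right]
    have hcomm' : ∀ n ∈ Subgroup.zpowers x, g⁻¹ * n * g = n := by
      intro n hn
      have h1 := hcomm n hn
      calc g⁻¹ * n * g = g⁻¹ * (g * n * g⁻¹) * g := by rw [h1]
        _ = n := by group
    rw [Subgroup.mem_normalizer_iff]
    intro n
    constructor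
    · intro hn
      rw [hcomm n hn]
      exact hn
    · intro hn
      have h2 := hcomm' _ hn
      have e : g⁻¹ * (g * n * g⁻¹) * g = n := by group
      rw [e] at h2
      rw [h2]
      exact hn
  obtain ⟨χ₁, -, hind⟩ := brauer_block_exists p M hM hP hPH hCH hHN ξ₀
  rw [← hbeq] at hind
  have hχ1 : χ ∉ blockOf M (χ₁ : G → ℂ) := by
    intro hmem
    apply hnot
    have e1 : blockOf M (χ : G → ℂ) = blockOf M (χ₁ : G → ℂ) := blockOf_eq_of_mem ⟨χ₁, rfl⟩ hmem
    have e2 : blockOf M (χ : G → ℂ) = B := blockOf_eq_of_mem hB hχ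
    rw [← e2, e1]
    exact hind
  have hyx : Commute x (y : G) := by
    have h1 : ∀ g ∈ H, g * x = x * g := by
      intro g hg
      rw [hH] at hg
      exact Subgroup.mem_centralizer_singleton_iff.1 hg
    exact (h1 (y : G) y.2).symm
  have hxpart : IsPPart p (x * (y : G)) x :=
    ⟨(y : G), rfl, hyx, hx, by rwa [Subgroup.orderOf_coe]⟩
  have hC : ∀ z : G, IsPPart p (((⟨x, hxH⟩ * y : H) : H) : G) z →
      Subgroup.centralizer ({z} : Set G) ≤ H := by
    intro z hz
    have hz' : IsPPart p (x * (y : G)) z := hz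
    have hzx : z = x := isPPart_unique hp hz' hxpart
    rw [hzx, ← hH]
  exact second_main_idempotent p M hM H b _ hind (⟨x, hxH⟩ * y) hC χ hχ1

/-- **Brauer's second main theorem** -/
theorem second_main_characters {G : Type u} [Group G] [Finite G] (p : ℕ) [Fact p.Prime]
    (M : Ideal AlgInt) (hM : IsPModular p M) (x : G) (hx : ∃ k : ℕ, orderOf x = p ^ k)
    (B : Set (IrrCharacter G)) (hB : IsPBlock M B) (χ : IrrCharacter G) (hχ : χ ∈ B)
    (b : Set (IrrCharacter (Subgroup.centralizer ({x} : Set G)))) (hb : IsPBlock M b)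
    (hnot : ¬ IsInducedBlock M (Subgroup.centralizer ({x} : Set G)) b B)
    (y : Subgroup.centralizer ({x} : Set G)) (hy : ¬ p ∣ orderOf y) :
    blockPart b (fun c : Subgroup.centralizer ({x} : Set G) => (χ : G → ℂ) (x * (c : G))) y =
      0 := by
  classical
  letI := Fintype.ofFinite G
  letI := Fintype.ofFinite (Subgroup.centralizer ({x} : Set G))
  have := Fintype.ofFinite (IrrCharacter (Subgroup.centralizer ({x} : Set G)))
  have hxk : ∀ k : Subgroup.centralizer ({x} : Set G), (k : G) * x = x * (k : G) := by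
    intro k
    have h1 := k.2
    rw [Subgroup.mem_centralizer_singleton_iff] at h1
    exact h1
  have hϑ : IsClassFunction (Subgroup.centralizer ({x} : Set G))
      (fun c : Subgroup.centralizer ({x} : Set G) => (χ : G → ℂ) (x * (c : G))) := by
    intro g k
    show (χ : G → ℂ) (x * ((k * g * k⁻¹ : Subgroup.centralizer ({x} : Set G)) : G)) =
      (χ : G → ℂ) (x * (g : G))
    rw [← char_isClassFunction (irr_isCharacter χ.2) (x * (g : G)) (k : G)]
    have e : x * ((k * g * k⁻¹ : Subgroup.centralizer ({x} : Set G)) : G) =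
        (k : G) * (x * (g : G)) * (k : G)⁻¹ := by
      push_cast
      calc x * ((k : G) * (g : G) * (k : G)⁻¹) = (x * (k : G)) * (g : G) * (k : G)⁻¹ := by group
        _ = ((k : G) * x) * (g : G) * (k : G)⁻¹ := by rw [hxk k]
        _ = (k : G) * (x * (g : G)) * (k : G)⁻¹ := by group
    rw [e]
  show ∑ᶠ ψ ∈ b, classInner (fun c : Subgroup.centralizer ({x} : Set G) =>
    (χ : G → ℂ) (x * (c : G))) (ψ : Subgroup.centralizer ({x} : Set G) → ℂ) *
      (ψ : Subgroup.centralizer ({x} : Set G) → ℂ) y = 0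
  rw [finsum_mem_eq_finite_toFinset_sum _ (Set.toFinite _)]
  have h3 : (Set.toFinite b).toFinset = Finset.univ.filter (fun φ => φ ∈ b) := by
    ext φ
    simp
  rw [h3, blockPart_eq_idempotent_sum b _ hϑ y,
    ← second_main_aux p M hM x hx _ rfl B hB χ hχ b hb hnot y hy]
  refine Finset.sum_congr rfl (fun k _ => ?_)
  have e : x * ((k * y : Subgroup.centralizer ({x} : Set G)) : G) = (k : G) * (x * (y : G)) := by
    push_cast
    calc x * ((k : G) * (y : G)) = (x * (k : G)) * (y : G) := by group
      _ = ((k : G) * x) * (y : G) := by rw [hxk k]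
      _ = (k : G) * (x * (y : G)) := by group
  rw [e]

end Chars

end Cfsg.Agent.helper24
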