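import Mathlib
import Cfsg.Agent.Lib_helper24_PRegCount
import Cfsg.Agent.Lib_helper24_SecondMain4
import Cfsg.Agent.Lib_helper24_CharValues

set_option autoImplicit false

namespace Cfsg.Agent.helper24

open Cfsg
open scoped ComplexConjugate

universe u

section ThirdMain

variable {G : Type u} [Group G] [Fintype G]

open Classical in
/-- the indicator function of the `p`-regular elements -/
noncomputable def pregInd (G : Type u) [Group G] (p : ℕ) : G → ℂ :=
  fun x => if p ∣ orderOf x then 0 else 1

omit [Fintype G] in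
theorem pregInd_isClassFunction (p : ℕ) : IsClassFunction G (pregInd G p) := by
  intro g k
  unfold pregInd
  have h2 : orderOf (k * g * k⁻¹) = orderOf g := by
    have := MulEquiv.orderOf_eq (MulAut.conj k) g
    rwa [MulAut.conj_apply] at this
  rw [h2]

omit [Fintype G] in
theorem pregInd_memLocalRing {M : Ideal AlgInt} (hMtop : M ≠ ⊤) (p : ℕ) (g : G) :
    MemLocalRing M (pregInd G p g) := by
  unfold pregInd
  split_ifs
  · exact memLocalRing_zero hMtop
  · exact memLocalRing_one hMtop

open Classical in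
theorem sum_pregInd_mul (p : ℕ) (f : G → ℂ) :
    ∑ x, pregInd G p x * f x = ∑ x ∈ Finset.univ.filter (fun x : G => ¬ p ∣ orderOf x), f x := by
  rw [Finset.sum_filter]
  refine Finset.sum_congr rfl (fun x _ => ?_)
  unfold pregInd
  by_cases h : p ∣ orderOf x
  · rw [if_pos h, if_neg (not_not.2 h), zero_mul]
  · rw [if_neg h, if_pos h, one_mul]

/-- the trivial character as an irreducible character -/
noncomputable def oneIrr (G : Type u) [Group G] : IrrCharacter G :=
  ⟨fun _ => 1, isIrrCharacter_one⟩

theorem oneIrr_mem_principalBlock {M : Ideal AlgInt} (hMtop : M ≠ ⊤) :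
    oneIrr G ∈ principalBlock M G := sameBlock_refl M hMtop _

/-- the central characters outside the principal block vanish on the sum of the `p`-regular
elements -/
theorem omegaFn_pregInd_eq_zero (p : ℕ) (M : Ideal AlgInt) (hM : IsPModular p M)
    (χ : IrrCharacter G) (hχ : χ ∉ principalBlock M G) :
    omegaFn (χ : G → ℂ) (pregInd G p) = 0 := by
  classical
  unfold omegaFn
  rw [sum_pregInd_mul]
  have h1 : ¬ SameBlock M (χ : G → ℂ) ((oneIrr G : IrrCharacter G) : G → ℂ) := by
    intro h
    exact hχ (sameBlock_symm h)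
  have h2 := pregular_orthogonality p M hM χ (oneIrr G) h1
  have h3 : ∑ x ∈ Finset.univ.filter (fun x : G => ¬ p ∣ orderOf x), (χ : G → ℂ) x = 0 := by
    rw [← h2]
    refine Finset.sum_congr rfl (fun x _ => ?_)
    show (χ : G → ℂ) x = (χ : G → ℂ) x * conj (1 : ℂ)
    rw [map_one, mul_one]
  rw [h3, zero_div]

open Classical in
theorem omegaFn_one_pregInd (p : ℕ) :
    omegaFn ((oneIrr G : IrrCharacter G) : G → ℂ) (pregInd G p) =
      (Nat.card {x : G | ¬ p ∣ orderOf x} : ℂ) := by
  unfold omegaFn
  rw [sum_pregInd_mul]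
  show (∑ x ∈ Finset.univ.filter (fun x : G => ¬ p ∣ orderOf x), (1 : ℂ)) / 1 = _
  rw [div_one, Finset.sum_const, nsmul_eq_mul, mul_one]
  congr 1
  rw [Nat.card_eq_fintype_card, ← Set.toFinset_card]
  congr 1
  ext x
  simp

/-- the central characters of the principal block are units on the sum of the `p`-regular
elements -/
theorem omegaFn_pregInd_not_mem (p : ℕ) [Fact p.Prime] (M : Ideal AlgInt) (hM : IsPModular p M)
    (χ : IrrCharacter G) (hχ : χ ∈ principalBlock M G) :
    ¬ MemLocalIdeal M (omegaFn (χ : G → ℂ) (pregInd G p)) := by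
  classical
  have hMp : M.IsPrime := hM.2.1.isPrime
  intro hJ
  have h1 : SameBlock M ((oneIrr G : IrrCharacter G) : G → ℂ) (χ : G → ℂ) := hχ
  have h2 := omegaFn_sub_memLocalIdeal (M := M) h1 (pregInd_isClassFunction p)
    (pregInd_memLocalRing hMp.ne_top p)
  have h3 := memLocalIdeal_add h2 hJ
  rw [sub_add_cancel, omegaFn_one_pregInd] at h3
  exact natCast_not_memLocalIdeal hM (card_pregular_not_dvd p) h3

/-- **Brauer's third main theorem** -/
theorem third_main (p : ℕ) [Fact p.Prime] (M : Ideal AlgInt) (hM : IsPModular p M)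
    (H : Subgroup G) [Fintype H] (b : Set (IrrCharacter H)) (hdef : InducedBlockDefined M H b) :
    IsInducedBlock M H b (principalBlock M G) ↔ b = principalBlock M H := by
  classical
  have hMp : M.IsPrime := hM.2.1.isPrime
  have hMtop := hMp.ne_top
  have hres : (fun h : H => pregInd G p (h : G)) = pregInd H p := by
    funext h
    unfold pregInd
    rw [Subgroup.orderOf_coe]
  have key : ∀ B, IsInducedBlock M H b B → ∀ ξ ∈ b, ∀ χ ∈ B,
      MemLocalIdeal M (omegaFn (ξ : H → ℂ) (pregInd H p) - omegaFn (χ : G → ℂ) (pregInd G p)) := by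
    intro B hind ξ hξ χ hχ
    have h1 := induced_omegaFn_sub H hind hξ hχ (pregInd_isClassFunction p)
      (pregInd_memLocalRing hMtop p)
    rwa [hres] at h1
  have h1G : oneIrr G ∈ principalBlock M G := oneIrr_mem_principalBlock hMtop
  have h1H : oneIrr H ∈ principalBlock M H := oneIrr_mem_principalBlock hMtop
  constructor
  · intro hind
    obtain ⟨ξ₀, hbeq⟩ := hind.1
    have hξ₀ : ξ₀ ∈ b := by rw [hbeq]; exact sameBlock_refl M hMtop _
    have h2 := key _ hind ξ₀ hξ₀ (oneIrr G) h1G
    have h3 : ¬ MemLocalIdeal M (omegaFn (ξ₀ : H → ℂ) (pregInd H p)) := by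
      intro hJ
      have h4 := memLocalIdeal_sub hJ h2
      rw [sub_sub_cancel] at h4
      exact omegaFn_pregInd_not_mem p M hM (oneIrr G) h1G h4
    have h5 : ξ₀ ∈ principalBlock M H := by
      by_contra hne
      apply h3
      rw [omegaFn_pregInd_eq_zero p M hM ξ₀ hne]
      exact memLocalIdeal_zero hMtop
    rw [hbeq]
    exact blockOf_eq_of_mem ⟨oneIrr H, rfl⟩ h5
  · intro hb
    obtain ⟨B, hind⟩ := hdef
    obtain ⟨χ₀, hBeq⟩ := hind.2.1
    have hχ₀ : χ₀ ∈ B := by rw [hBeq]; exact sameBlock_refl M hMtop _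
    have h1b : oneIrr H ∈ b := by rw [hb]; exact h1H
    have h2 := key B hind (oneIrr H) h1b χ₀ hχ₀
    have h3 : ¬ MemLocalIdeal M (omegaFn (χ₀ : G → ℂ) (pregInd G p)) := by
      intro hJ
      have h4 := memLocalIdeal_add h2 hJ
      rw [sub_add_cancel] at h4
      exact omegaFn_pregInd_not_mem p M hM (oneIrr H) h1H h4
    have h5 : χ₀ ∈ principalBlock M G := by
      by_contra hne
      apply h3
      rw [omegaFn_pregInd_eq_zero p M hM χ₀ hne]
      exact memLocalIdeal_zero hMtop
    have h6 : B = principalBlock M G := by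
      rw [hBeq]
      exact blockOf_eq_of_mem ⟨oneIrr G, rfl⟩ h5
    rw [← h6]
    exact hind

end ThirdMain

end Cfsg.Agent.helper24
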