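import Mathlib
import Cfsg.Agent.Lib_helper24_ThirdMain
import Cfsg.Agent.Lib_helper1_Core

set_option autoImplicit false

namespace Cfsg.Agent.helper24

open Cfsg
open scoped ComplexConjugate

universe u

section PL

variable {G : Type u} [Group G] [Fintype G]

/-- a normal `p'`-subgroup lies in the kernel of the characters of the principal block -/
theorem principal_block_ker (p : ℕ) [Fact p.Prime] (M : Ideal AlgInt) (hM : IsPModular p M)
    (N : Subgroup G) [N.Normal] (hN : (Nat.card N).Coprime p) (ψ : IrrCharacter G)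
    (hψ : ψ ∈ principalBlock M G) : ∀ n ∈ N, (ψ : G → ℂ) n = (ψ : G → ℂ) 1 := by
  classical
  have hp : p.Prime := Fact.out
  have hMp : M.IsPrime := hM.2.1.isPrime
  have hMtop := hMp.ne_top
  obtain ⟨f, hf⟩ : ∃ f : G → ℂ, f = fun h => if h ∈ N then (1 : ℂ) else 0 := ⟨_, rfl⟩
  have hfa : ∀ h, f h = if h ∈ N then (1 : ℂ) else 0 := fun h => by rw [hf]
  have hfcf : IsClassFunction G f := by rw [hf]; exact isClassFunction_indicator_normal N
  have hfR : ∀ g, MemLocalRing M (f g) := by
    intro g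
    rw [hfa]
    split_ifs
    · exact memLocalRing_one hMtop
    · exact memLocalRing_zero hMtop
  have h1 : SameBlock M ((oneIrr G : IrrCharacter G) : G → ℂ) (ψ : G → ℂ) := hψ
  have h2 := omegaFn_sub_memLocalIdeal (M := M) h1 hfcf hfR
  have h3 : omegaFn ((oneIrr G : IrrCharacter G) : G → ℂ) f = (Nat.card N : ℂ) := by
    unfold omegaFn
    show (∑ h, f h * (1 : ℂ)) / 1 = _
    rw [div_one]
    simp only [mul_one, hfa]
    rw [← Finset.sum_filter, Finset.sum_const, nsmul_eq_mul, mul_one]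
    congr 1
    rw [Nat.card_eq_fintype_card, Fintype.card_subtype]
  rcases irr_normal_dichotomy ψ.2 N with h0 | hker
  · exfalso
    have h4 := h0 1
    simp only [one_mul] at h4
    have h5 : omegaFn (ψ : G → ℂ) f = 0 := by
      unfold omegaFn
      have h6 : ∑ h, f h * (ψ : G → ℂ) h = ∑ h, if h ∈ N then (ψ : G → ℂ) h else 0 := by
        refine Finset.sum_congr rfl (fun h _ => ?_)
        rw [hfa]
        split_ifs <;> simp
      rw [h6, h4, zero_div]
    rw [h3, h5, sub_zero] at h2
    exact natCast_not_memLocalIdeal hM ((Nat.Prime.coprime_iff_not_dvd hp).1 hN.symm) h2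
  · exact hker

open Classical in
/-- a sum over the characters outside a block vanishes if it vanishes on every other block -/
theorem sum_not_mem_block_eq_zero [Fintype (IrrCharacter G)] {M : Ideal AlgInt} [hMp : M.IsPrime]
    (b₀ : Set (IrrCharacter G)) (hb₀ : IsPBlock M b₀) (g : IrrCharacter G → ℂ)
    (h : ∀ b : Set (IrrCharacter G), IsPBlock M b → b ≠ b₀ →
      ∑ ψ ∈ Finset.univ.filter (fun ψ : IrrCharacter G => ψ ∈ b), g ψ = 0) :
    ∑ ψ ∈ Finset.univ.filter (fun ψ : IrrCharacter G => ψ ∉ b₀), g ψ = 0 := by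
  have hMtop := hMp.ne_top
  rw [← Finset.sum_fiberwise_of_maps_to
    (s := Finset.univ.filter (fun ψ : IrrCharacter G => ψ ∉ b₀))
    (t := (Finset.univ.filter (fun ψ : IrrCharacter G => ψ ∉ b₀)).image
      (fun ψ : IrrCharacter G => blockOf M (ψ : G → ℂ)))
    (g := fun ψ : IrrCharacter G => blockOf M (ψ : G → ℂ))
    (fun ψ hψ => Finset.mem_image_of_mem _ hψ) g]
  apply Finset.sum_eq_zero
  intro b hb
  obtain ⟨ψ₁, hψ₁, rfl⟩ := Finset.mem_image.1 hb
  have hψ₁' : ψ₁ ∉ b₀ := (Finset.mem_filter.1 hψ₁).2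
  have hne : blockOf M (ψ₁ : G → ℂ) ≠ b₀ := by
    intro he
    apply hψ₁'
    rw [← he]
    exact sameBlock_refl M hMtop _
  rw [← h (blockOf M (ψ₁ : G → ℂ)) ⟨ψ₁, rfl⟩ hne]
  apply Finset.sum_congr _ (fun _ _ => rfl)
  ext ψ
  simp only [Finset.mem_filter, Finset.mem_univ, true_and]
  constructor
  · rintro ⟨_, he⟩
    rw [← he]
    exact sameBlock_refl M hMtop _
  · intro hψ
    have he : blockOf M (ψ : G → ℂ) = blockOf M (ψ₁ : G → ℂ) := blockOf_eq_of_mem ⟨ψ₁, rfl⟩ hψ
    refine ⟨?_, he⟩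
    intro hψ0
    apply hne
    rw [← he]
    exact blockOf_eq_of_mem hb₀ hψ0

/-- the block induced by a given block is unique -/
theorem induced_block_unique {M : Ideal AlgInt} [hMp : M.IsPrime] (H : Subgroup G) [Fintype H]
    {b : Set (IrrCharacter H)} {B₁ B₂ : Set (IrrCharacter G)} (h1 : IsInducedBlock M H b B₁)
    (h2 : IsInducedBlock M H b B₂) : B₁ = B₂ := by
  have hMtop := hMp.ne_top
  obtain ⟨ξ₀, hbeq⟩ := h1.1
  obtain ⟨χ₁, hB1⟩ := h1.2.1
  obtain ⟨χ₂, hB2⟩ := h2.2.1
  have hξ₀ : ξ₀ ∈ b := by rw [hbeq]; exact sameBlock_refl M hMtop _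
  have hχ₁ : χ₁ ∈ B₁ := by rw [hB1]; exact sameBlock_refl M hMtop _
  have hχ₂ : χ₂ ∈ B₂ := by rw [hB2]; exact sameBlock_refl M hMtop _
  have hsame : SameBlock M (χ₁ : G → ℂ) (χ₂ : G → ℂ) := by
    intro g
    have e1 := h1.2.2 ξ₀ hξ₀ χ₁ hχ₁ g
    have e2 := h2.2.2 ξ₀ hξ₀ χ₂ hχ₂ g
    have e3 := memLocalIdeal_sub e2 e1
    have e4 : inducedCentralChar H (ξ₀ : H → ℂ) g - centralChar (χ₂ : G → ℂ) g -
        (inducedCentralChar H (ξ₀ : H → ℂ) g - centralChar (χ₁ : G → ℂ) g) =
        centralChar (χ₁ : G → ℂ) g - centralChar (χ₂ : G → ℂ) g := by ring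
    rwa [e4] at e3
  have hmem : χ₂ ∈ B₁ := by rw [hB1]; exact hsame
  rw [← blockOf_eq_of_mem h1.2.1 hmem, hB2]

omit [Fintype G] in
/-- the shifted restriction of a class function to a centralizer is a class function -/
theorem shift_isClassFunction (x : G) (H : Subgroup G)
    (hH : H = Subgroup.centralizer ({x} : Set G)) {χ : G → ℂ} (hχ : IsClassFunction G χ) :
    IsClassFunction H (fun c : H => χ (x * (c : G))) := by
  have hxk : ∀ k : H, (k : G) * x = x * (k : G) := by
    intro k
    have h1 : ∀ g ∈ H, g * x = x * g := by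
      intro g hg
      rw [hH] at hg
      exact Subgroup.mem_centralizer_singleton_iff.1 hg
    exact h1 _ k.2
  intro g k
  show χ (x * ((k * g * k⁻¹ : H) : G)) = χ (x * (g : G))
  rw [← hχ (x * (g : G)) (k : G)]
  have e : x * ((k * g * k⁻¹ : H) : G) = (k : G) * (x * (g : G)) * (k : G)⁻¹ := by
    push_cast
    calc x * ((k : G) * (g : G) * (k : G)⁻¹) = (x * (k : G)) * (g : G) * (k : G)⁻¹ := by group
      _ = ((k : G) * x) * (g : G) * (k : G)⁻¹ := by rw [hxk k]
      _ = (k : G) * (x * (g : G)) * (k : G)⁻¹ := by group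
  rw [e]

/-- every block of the centralizer of a `p`-element induces a block -/
theorem induced_defined_centralizer (p : ℕ) [Fact p.Prime] (M : Ideal AlgInt)
    (hM : IsPModular p M) (x : G) (hx : ∃ k : ℕ, orderOf x = p ^ k) (H : Subgroup G) [Fintype H]
    (hH : H = Subgroup.centralizer ({x} : Set G)) (b : Set (IrrCharacter H))
    (hb : IsPBlock M b) : InducedBlockDefined M H b := by
  classical
  have hxH : x ∈ H := by rw [hH, Subgroup.mem_centralizer_singleton_iff]
  obtain ⟨ξ₀, hbeq⟩ := hb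
  have hP : IsPGroup p (Subgroup.zpowers x) := by
    obtain ⟨k, hk⟩ := hx
    apply IsPGroup.of_card (n := k)
    rw [Nat.card_zpowers, hk]
  have hPH : Subgroup.zpowers x ≤ H := Subgroup.zpowers_le.2 hxH
  have hCH : Subgroup.centralizer (Subgroup.zpowers x : Set G) ≤ H := by
    rw [hH]
    apply Subgroup.centralizer_le
    intro g hg
    rw [Set.mem_singleton_iff] at hg
    rw [hg]
    exact Subgroup.mem_zpowers x
  have hHN : H ≤ Subgroup.normalizer (Subgroup.zpowers x : Set G) := by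
    intro g hg
    rw [hH, Subgroup.mem_centralizer_singleton_iff] at hg
    have hcomm : ∀ n ∈ Subgroup.zpowers x, g * n * g⁻¹ = n := by
      intro n hn
      obtain ⟨i, rfl⟩ := Subgroup.mem_zpowers_iff.1 hn
      have h1 : Commute g (x ^ i) := (show Commute g x from hg).zpow_right i
      rw [h1.eq, mul_inv_cancel_right]
    have hcomm' : ∀ n ∈ Subgroup.zpowers x, g⁻¹ * n * g = n := by
      intro n hn
      have h1 := hcomm n hn
      calc g⁻¹ * n * g = g⁻¹ * (g * n * g⁻¹) * g := by rw [h1]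
        _ = n := by group
    rw [Subgroup.mem_normalizer_iff]
    intro n
    constructor
    · intro hn
      rw [hcomm n hn]
      exact hn
    · intro hn
      have h2 := hcomm' _ hn
      have e : g⁻¹ * (g * n * g⁻¹) * g = n := by group
      rw [e] at h2
      rw [h2]
      exact hn
  obtain ⟨χ₁, -, hind⟩ := brauer_block_exists p M hM hP hPH hCH hHN ξ₀
  rw [← hbeq] at hind
  exact ⟨_, hind⟩

open Classical in
/-- second main theorem, finset form -/
theorem second_main_finset [Fintype (IrrCharacter G)] (p : ℕ) [Fact p.Prime] (M : Ideal AlgInt)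
    (hM : IsPModular p M) (x : G) (hx : ∃ k : ℕ, orderOf x = p ^ k) (H : Subgroup G) [Fintype H]
    [Fintype (IrrCharacter H)]
    (hH : H = Subgroup.centralizer ({x} : Set G)) (B : Set (IrrCharacter G)) (hB : IsPBlock M B)
    (χ : IrrCharacter G) (hχ : χ ∈ B) (b : Set (IrrCharacter H)) (hb : IsPBlock M b)
    (hnot : ¬ IsInducedBlock M H b B) (y : H) (hy : ¬ p ∣ orderOf y) :
    ∑ ψ ∈ Finset.univ.filter (fun ψ : IrrCharacter H => ψ ∈ b),
      classInner (fun c : H => (χ : G → ℂ) (x * (c : G))) (ψ : H → ℂ) * (ψ : H → ℂ) y = 0 := by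
  have hxk : ∀ k : H, (k : G) * x = x * (k : G) := by
    intro k
    have h1 : ∀ g ∈ H, g * x = x * g := by
      intro g hg
      rw [hH] at hg
      exact Subgroup.mem_centralizer_singleton_iff.1 hg
    exact h1 _ k.2
  rw [blockPart_eq_idempotent_sum b _
    (shift_isClassFunction x H hH (char_isClassFunction (irr_isCharacter χ.2))) y,
    ← second_main_aux p M hM x hx H hH B hB χ hχ b hb hnot y hy]
  refine Finset.sum_congr rfl (fun k _ => ?_)
  have e : x * ((k * y : H) : G) = (k : G) * (x * (y : G)) := by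
    push_cast
    calc x * ((k : G) * (y : G)) = (x * (k : G)) * (y : G) := by group
      _ = ((k : G) * x) * (y : G) := by rw [hxk k]
      _ = (k : G) * (x * (y : G)) := by group
  rw [e]

end PL

end Cfsg.Agent.helper24
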