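import Mathlib
import Cfsg.Agent.Lib_helper24_PrincipalLocal

set_option autoImplicit false

namespace Cfsg.Agent.helper24

open Cfsg
open scoped ComplexConjugate

universe u

section PL2

variable {G : Type u} [Group G] [Fintype G]

open Classical in
/-- on the `p`-section of a `p`-element `x`, a character of the principal block is given by the
principal block of the centralizer -/
theorem principal_local_expansion [Fintype (IrrCharacter G)] (p : ℕ) [Fact p.Prime]
    (M : Ideal AlgInt) (hM : IsPModular p M) (x : G) (hx : ∃ k : ℕ, orderOf x = p ^ k)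
    (H : Subgroup G) [Fintype H] [Fintype (IrrCharacter H)]
    (hH : H = Subgroup.centralizer ({x} : Set G)) (χ : IrrCharacter G)
    (hχ : χ ∈ principalBlock M G) (y : H) (hy : ¬ p ∣ orderOf y) :
    (χ : G → ℂ) (x * (y : G)) =
      ∑ ψ ∈ Finset.univ.filter (fun ψ : IrrCharacter H => ψ ∈ principalBlock M H),
        classInner (fun c : H => (χ : G → ℂ) (x * (c : G))) (ψ : H → ℂ) * (ψ : H → ℂ) y := by
  have hMp : M.IsPrime := hM.2.1.isPrime
  obtain ⟨ϑ, hϑ⟩ : ∃ ϑ : H → ℂ, ϑ = fun c : H => (χ : G → ℂ) (x * (c : G)) := ⟨_, rfl⟩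
  have hcf : IsClassFunction H ϑ := by
    rw [hϑ]
    exact shift_isClassFunction x H hH (char_isClassFunction (irr_isCharacter χ.2))
  have hexp := congrFun (classFunction_expansion hcf) y
  rw [Finset.sum_apply] at hexp
  simp only [Pi.smul_apply, smul_eq_mul] at hexp
  rw [← Finset.sum_filter_add_sum_filter_not Finset.univ
    (fun ψ : IrrCharacter H => ψ ∈ principalBlock M H)] at hexp
  have hzero : ∑ ψ ∈ Finset.univ.filter (fun ψ : IrrCharacter H => ψ ∉ principalBlock M H),
      classInner ϑ (ψ : H → ℂ) * (ψ : H → ℂ) y = 0 := by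
    apply sum_not_mem_block_eq_zero (M := M) (principalBlock M H) ⟨oneIrr H, rfl⟩
    intro b hb hne
    rw [hϑ]
    apply second_main_finset p M hM x hx H hH (principalBlock M G) ⟨oneIrr G, rfl⟩ χ hχ b hb _ y hy
    intro hind
    exact hne ((third_main p M hM H b (induced_defined_centralizer p M hM x hx H hH b hb)).1 hind)
  rw [hzero, add_zero] at hexp
  have e : (χ : G → ℂ) (x * (y : G)) = ϑ y := by rw [hϑ]
  rw [e, ← hϑ]
  exact hexp

open Classical in
/-- the principal block part of the shifted restriction of a character outside the principal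
block vanishes on the `p`-regular elements -/
theorem nonprincipal_local_vanish [Fintype (IrrCharacter G)] (p : ℕ) [Fact p.Prime]
    (M : Ideal AlgInt) (hM : IsPModular p M) (x : G) (hx : ∃ k : ℕ, orderOf x = p ^ k)
    (H : Subgroup G) [Fintype H] [Fintype (IrrCharacter H)]
    (hH : H = Subgroup.centralizer ({x} : Set G)) (ζ : IrrCharacter G)
    (hζ : ζ ∉ principalBlock M G) (y : H) (hy : ¬ p ∣ orderOf y) :
    ∑ ψ ∈ Finset.univ.filter (fun ψ : IrrCharacter H => ψ ∈ principalBlock M H),
      classInner (fun c : H => (ζ : G → ℂ) (x * (c : G))) (ψ : H → ℂ) * (ψ : H → ℂ) y = 0 := by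
  have hMp : M.IsPrime := hM.2.1.isPrime
  have hMtop := hMp.ne_top
  apply second_main_finset p M hM x hx H hH (blockOf M (ζ : G → ℂ)) ⟨ζ, rfl⟩ ζ
    (sameBlock_refl M hMtop _) (principalBlock M H) ⟨oneIrr H, rfl⟩ _ y hy
  intro hind
  have h2 := (third_main p M hM H (principalBlock M H)
    (induced_defined_centralizer p M hM x hx H hH _ ⟨oneIrr H, rfl⟩)).2 rfl
  have h3 := induced_block_unique H hind h2
  apply hζ
  rw [← h3]
  exact sameBlock_refl M hMtop _

end PL2

section Core

/-- a character of the principal block is constant on `u O_{p'}(C(u))` -/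
theorem principal_block_const_on_core {G : Type u} [Group G] [Finite G] (p : ℕ) [Fact p.Prime]
    (M : Ideal AlgInt) (hM : IsPModular p M) (u : G) (hu : ∃ k : ℕ, orderOf u = p ^ k) (v : G)
    (hv : v ∈ centralizerPPrimeCore p u) (χ : IrrCharacter G) (hχ : χ ∈ principalBlock M G) :
    (χ : G → ℂ) (u * v) = (χ : G → ℂ) u := by
  classical
  have hp : p.Prime := Fact.out
  letI := Fintype.ofFinite G
  letI := Fintype.ofFinite (Subgroup.centralizer ({u} : Set G))
  have := Fintype.ofFinite (IrrCharacter G)
  have := Fintype.ofFinite (IrrCharacter (Subgroup.centralizer ({u} : Set G)))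
  obtain ⟨v', hv', rfl⟩ := hv
  have hN : (Nat.card (pPrimeCore p (Subgroup.centralizer ({u} : Set G)))).Coprime p :=
    helper1.pPrimeCore_coprime p
  have hNn : (pPrimeCore p (Subgroup.centralizer ({u} : Set G))).Normal :=
    helper1.pPrimeCore_normal p
  have hvreg : ¬ p ∣ orderOf v' := by
    intro hd
    have h1 : orderOf v' ∣ Nat.card (pPrimeCore p (Subgroup.centralizer ({u} : Set G))) := by
      have h2 := orderOf_dvd_natCard
        (⟨v', hv'⟩ : pPrimeCore p (Subgroup.centralizer ({u} : Set G)))
      rwa [Subgroup.orderOf_mk] at h2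
    exact (Nat.Prime.coprime_iff_not_dvd hp).1 hN.symm (dvd_trans hd h1)
  have h1reg : ¬ p ∣ orderOf (1 : Subgroup.centralizer ({u} : Set G)) := by
    rw [orderOf_one]
    exact hp.not_dvd_one
  have e1 := principal_local_expansion p M hM u hu (Subgroup.centralizer ({u} : Set G)) rfl χ hχ
    v' hvreg
  have e2 := principal_local_expansion p M hM u hu (Subgroup.centralizer ({u} : Set G)) rfl χ hχ
    1 h1reg
  show (χ : G → ℂ) (u * (v' : G)) = (χ : G → ℂ) u
  have e3 : (χ : G → ℂ) u =
      (χ : G → ℂ) (u * ((1 : Subgroup.centralizer ({u} : Set G)) : G)) := by simp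
  rw [e3, e1, e2]
  refine Finset.sum_congr rfl (fun ψ hψ => ?_)
  rw [principal_block_ker p M hM (pPrimeCore p (Subgroup.centralizer ({u} : Set G))) hN ψ
    (Finset.mem_filter.1 hψ).2 v' hv']

end Core

end Cfsg.Agent.helper24
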