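import Mathlib
import Cfsg.Agent.Lib_helper24_PrincipalLocal2

set_option autoImplicit false

namespace Cfsg.Agent.helper24

open Cfsg
open scoped ComplexConjugate

universe u

section Abstract

/-- a function with two expansions along mutually orthogonal families vanishes -/
theorem eq_zero_of_orthogonal_expansions {α ι : Type*} (T : Finset α) (S₁ S₂ : Finset ι)
    (f : ι → α → ℂ)
    (horth : ∀ i ∈ S₁, ∀ j ∈ S₂, ∑ t ∈ T, f i t * conj (f j t) = 0)
    (D : α → ℂ) (d d' : ι → ℂ)
    (h1 : ∀ t ∈ T, D t = ∑ i ∈ S₁, d i * f i t)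
    (h2 : ∀ t ∈ T, D t = ∑ j ∈ S₂, d' j * f j t) : ∀ t ∈ T, D t = 0 := by
  have e1 : ∀ t ∈ T, D t * conj (D t) =
      ∑ i ∈ S₁, ∑ j ∈ S₂, d i * conj (d' j) * (f i t * conj (f j t)) := by
    intro t ht
    calc D t * conj (D t) = (∑ i ∈ S₁, d i * f i t) * conj (∑ j ∈ S₂, d' j * f j t) := by
          rw [← h1 t ht, ← h2 t ht]
      _ = ∑ i ∈ S₁, ∑ j ∈ S₂, d i * conj (d' j) * (f i t * conj (f j t)) := by
          rw [map_sum, Finset.sum_mul_sum]
          refine Finset.sum_congr rfl (fun i _ => Finset.sum_congr rfl (fun j _ => ?_))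
          rw [map_mul]
          ring
  have hsum : ∑ t ∈ T, D t * conj (D t) = 0 := by
    rw [Finset.sum_congr rfl e1, Finset.sum_comm]
    apply Finset.sum_eq_zero
    intro i hi
    rw [Finset.sum_comm]
    apply Finset.sum_eq_zero
    intro j hj
    rw [← Finset.mul_sum, horth i hi j hj, mul_zero]
  have hnn : ∑ t ∈ T, Complex.normSq (D t) = 0 := by
    have h3 : ((∑ t ∈ T, Complex.normSq (D t) : ℝ) : ℂ) = 0 := by
      rw [Complex.ofReal_sum, ← hsum]
      exact Finset.sum_congr rfl (fun t _ => (Complex.mul_conj (D t)).symm)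
    exact_mod_cast h3
  intro t ht
  have h0 := (Finset.sum_eq_zero_iff_of_nonneg (fun t _ => Complex.normSq_nonneg _)).1 hnn t ht
  exact Complex.normSq_eq_zero.1 h0

end Abstract

section Compare

variable {G : Type u} [Group G]

/-- conjugacy inside the `p`-section of a `p`-element is conjugacy in its centralizer -/
theorem isConj_shift_iff {p : ℕ} (hp : p.Prime) (x : G) (hx : ∃ k : ℕ, orderOf x = p ^ k)
    (H : Subgroup G) (hH : H = Subgroup.centralizer ({x} : Set G)) (t y : H)
    (ht : ¬ p ∣ orderOf t) (hy : ¬ p ∣ orderOf y) :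
    IsConj (x * (t : G)) (x * (y : G)) ↔ IsConj t y := by
  have hHmem : ∀ g, g ∈ H ↔ g * x = x * g := by
    intro g
    rw [hH, Subgroup.mem_centralizer_singleton_iff]
  have hpt : IsPPart p (x * (t : G)) x :=
    ⟨(t : G), rfl, ((hHmem _).1 t.2).symm, hx, by rwa [Subgroup.orderOf_coe]⟩
  have hpy : IsPPart p (x * (y : G)) x :=
    ⟨(y : G), rfl, ((hHmem _).1 y.2).symm, hx, by rwa [Subgroup.orderOf_coe]⟩
  constructor
  · intro h
    obtain ⟨g, hg⟩ := isConj_iff.1 h
    have h1 := isPPart_conj hpt g
    rw [hg] at h1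
    have h2 : g * x * g⁻¹ = x := isPPart_unique hp h1 hpy
    have hgH : g ∈ H := by
      rw [hHmem]
      calc g * x = g * x * g⁻¹ * g := by group
        _ = x * g := by rw [h2]
    have h3 : g * (t : G) * g⁻¹ = (y : G) := by
      have h4 : g * (x * (t : G)) * g⁻¹ = (g * x * g⁻¹) * (g * (t : G) * g⁻¹) := by group
      rw [h4, h2] at hg
      exact mul_left_cancel hg
    rw [isConj_iff]
    refine ⟨⟨g, hgH⟩, ?_⟩
    apply Subtype.ext
    push_cast
    exact h3
  · intro h
    obtain ⟨g, hg⟩ := isConj_iff.1 h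
    have h3 : (g : G) * (t : G) * (g : G)⁻¹ = (y : G) := by
      have := congrArg Subtype.val hg
      push_cast at this
      exact this
    rw [isConj_iff]
    refine ⟨(g : G), ?_⟩
    have hgx : (g : G) * x = x * (g : G) := (hHmem _).1 g.2
    calc (g : G) * (x * (t : G)) * (g : G)⁻¹ = ((g : G) * x) * (t : G) * (g : G)⁻¹ := by group
      _ = (x * (g : G)) * (t : G) * (g : G)⁻¹ := by rw [hgx]
      _ = x * ((g : G) * (t : G) * (g : G)⁻¹) := by group
      _ = x * (y : G) := by rw [h3]

/-- the centralizer of an element of the `p`-section of `x` lies in the centralizer of `x` -/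
theorem card_centralizer_shift {p : ℕ} (hp : p.Prime) (x : G) (hx : ∃ k : ℕ, orderOf x = p ^ k)
    (H : Subgroup G) (hH : H = Subgroup.centralizer ({x} : Set G)) (y : H)
    (hy : ¬ p ∣ orderOf y) :
    Nat.card (Subgroup.centralizer ({x * (y : G)} : Set G)) =
      Nat.card (Subgroup.centralizer ({y} : Set H)) := by
  have hHmem : ∀ g, g ∈ H ↔ g * x = x * g := by
    intro g
    rw [hH, Subgroup.mem_centralizer_singleton_iff]
  have hpy : IsPPart p (x * (y : G)) x :=
    ⟨(y : G), rfl, ((hHmem _).1 y.2).symm, hx, by rwa [Subgroup.orderOf_coe]⟩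
  obtain ⟨n, hn⟩ := ppart_eq_zpow hp hpy
  have hcx : ∀ c ∈ Subgroup.centralizer ({x * (y : G)} : Set G), c * x = x * c := by
    intro c hc
    rw [Subgroup.mem_centralizer_singleton_iff] at hc
    have h1 : Commute c (x * (y : G)) := hc
    have h2 : Commute c ((x * (y : G)) ^ n) := h1.zpow_right n
    rw [← hn] at h2
    exact h2
  have hcy : ∀ c ∈ Subgroup.centralizer ({x * (y : G)} : Set G), c * (y : G) = (y : G) * c := by
    intro c hc
    have h1 := hcx c hc
    rw [Subgroup.mem_centralizer_singleton_iff] at hc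
    have h3 : x * (c * (y : G)) = x * ((y : G) * c) := by
      calc x * (c * (y : G)) = (x * c) * (y : G) := by group
        _ = (c * x) * (y : G) := by rw [h1]
        _ = c * (x * (y : G)) := by group
        _ = x * (y : G) * c := hc
        _ = x * ((y : G) * c) := by group
    exact mul_left_cancel h3
  apply Nat.card_congr
  exact
    { toFun := fun c => ⟨⟨c.1, (hHmem _).2 (hcx c.1 c.2)⟩, by
        rw [Subgroup.mem_centralizer_singleton_iff]
        apply Subtype.ext
        push_cast
        exact hcy c.1 c.2⟩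
      invFun := fun d => ⟨(d.1 : G), by
        have h1 := d.2
        rw [Subgroup.mem_centralizer_singleton_iff] at h1
        have h2 : (d.1 : G) * (y : G) = (y : G) * (d.1 : G) := by
          have := congrArg Subtype.val h1
          push_cast at this
          exact this
        have h3 : (d.1 : G) * x = x * (d.1 : G) := (hHmem _).1 d.1.2
        rw [Subgroup.mem_centralizer_singleton_iff]
        calc (d.1 : G) * (x * (y : G)) = ((d.1 : G) * x) * (y : G) := by group
          _ = (x * (d.1 : G)) * (y : G) := by rw [h3]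
          _ = x * ((d.1 : G) * (y : G)) := by group
          _ = x * ((y : G) * (d.1 : G)) := by rw [h2]
          _ = x * (y : G) * (d.1 : G) := by group⟩
      left_inv := fun c => rfl
      right_inv := fun d => rfl }

end Compare

end Cfsg.Agent.helper24
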