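import Mathlib
import Cfsg.Agent.Lib_helper24_PrincipalSum

set_option autoImplicit false

namespace Cfsg.Agent.helper24

open Cfsg
open scoped ComplexConjugate

universe u

section PS2

variable {G : Type u} [Group G] [Fintype G]

open Classical in
/-- on the `p`-section of a `p`-element `x`, a character outside the principal block is given by
the non-principal blocks of the centralizer -/
theorem nonprincipal_local_expansion [Fintype (IrrCharacter G)] (p : ℕ) [Fact p.Prime]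
    (M : Ideal AlgInt) (hM : IsPModular p M) (x : G) (hx : ∃ k : ℕ, orderOf x = p ^ k)
    (H : Subgroup G) [Fintype H] [Fintype (IrrCharacter H)]
    (hH : H = Subgroup.centralizer ({x} : Set G)) (ζ : IrrCharacter G)
    (hζ : ζ ∉ principalBlock M G) (y : H) (hy : ¬ p ∣ orderOf y) :
    (ζ : G → ℂ) (x * (y : G)) =
      ∑ ψ ∈ Finset.univ.filter (fun ψ : IrrCharacter H => ψ ∉ principalBlock M H),
        classInner (fun c : H => (ζ : G → ℂ) (x * (c : G))) (ψ : H → ℂ) * (ψ : H → ℂ) y := by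
  obtain ⟨ϑ, hϑ⟩ : ∃ ϑ : H → ℂ, ϑ = fun c : H => (ζ : G → ℂ) (x * (c : G)) := ⟨_, rfl⟩
  have hcf : IsClassFunction H ϑ := by
    rw [hϑ]
    exact shift_isClassFunction x H hH (char_isClassFunction (irr_isCharacter ζ.2))
  have hexp := congrFun (classFunction_expansion hcf) y
  rw [Finset.sum_apply] at hexp
  simp only [Pi.smul_apply, smul_eq_mul] at hexp
  rw [← Finset.sum_filter_add_sum_filter_not Finset.univ
    (fun ψ : IrrCharacter H => ψ ∈ principalBlock M H)] at hexp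
  have hzero := nonprincipal_local_vanish p M hM x hx H hH ζ hζ y hy
  rw [← hϑ] at hzero
  rw [hzero, zero_add] at hexp
  have e : (ζ : G → ℂ) (x * (y : G)) = ϑ y := by rw [hϑ]
  rw [e, ← hϑ]
  exact hexp

open Classical in
/-- **the principal block on a `p`-section**: the norm sum of the principal block at `x y` is that
of the principal block of `C(x)` at `y` -/
theorem principal_block_section_sum [Fintype (IrrCharacter G)] (p : ℕ) [Fact p.Prime]
    (M : Ideal AlgInt) (hM : IsPModular p M) (x : G) (hx : ∃ k : ℕ, orderOf x = p ^ k)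
    (H : Subgroup G) [Fintype H] [Fintype (IrrCharacter H)]
    (hH : H = Subgroup.centralizer ({x} : Set G)) (y : H) (hy : ¬ p ∣ orderOf y) :
    ∑ ζ ∈ Finset.univ.filter (fun ζ : IrrCharacter G => ζ ∈ principalBlock M G),
        (ζ : G → ℂ) (x * (y : G)) * conj ((ζ : G → ℂ) (x * (y : G))) =
      ∑ ψ ∈ Finset.univ.filter (fun ψ : IrrCharacter H => ψ ∈ principalBlock M H),
        (ψ : H → ℂ) y * conj ((ψ : H → ℂ) y) := by
  have hp : p.Prime := Fact.out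
  have hMp : M.IsPrime := hM.2.1.isPrime
  obtain ⟨T, hT⟩ : ∃ T : Finset H, T = Finset.univ.filter (fun t : H => ¬ p ∣ orderOf t) :=
    ⟨_, rfl⟩
  obtain ⟨SB, hSB⟩ : ∃ SB : Finset (IrrCharacter G),
    SB = Finset.univ.filter (fun ζ : IrrCharacter G => ζ ∈ principalBlock M G) := ⟨_, rfl⟩
  obtain ⟨SB', hSB'⟩ : ∃ SB' : Finset (IrrCharacter G),
    SB' = Finset.univ.filter (fun ζ : IrrCharacter G => ζ ∉ principalBlock M G) := ⟨_, rfl⟩
  obtain ⟨S₁, hS₁⟩ : ∃ S₁ : Finset (IrrCharacter H),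
    S₁ = Finset.univ.filter (fun ψ : IrrCharacter H => ψ ∈ principalBlock M H) := ⟨_, rfl⟩
  obtain ⟨S₂, hS₂⟩ : ∃ S₂ : Finset (IrrCharacter H),
    S₂ = Finset.univ.filter (fun ψ : IrrCharacter H => ψ ∉ principalBlock M H) := ⟨_, rfl⟩
  rw [← hSB, ← hS₁]
  obtain ⟨cI, hcI⟩ : ∃ cI : IrrCharacter G → IrrCharacter H → ℂ,
    cI = fun (ζ : IrrCharacter G) (ψ : IrrCharacter H) =>
      classInner (fun c : H => (ζ : G → ℂ) (x * (c : G))) (ψ : H → ℂ) := ⟨_, rfl⟩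
  have hTmem : ∀ t : H, t ∈ T ↔ ¬ p ∣ orderOf t := by
    intro t
    rw [hT, Finset.mem_filter]
    exact ⟨fun h => h.2, fun h => ⟨Finset.mem_univ _, h⟩⟩
  -- the four expansions
  have hA : ∀ t ∈ T, ∑ ζ ∈ SB, (ζ : G → ℂ) (x * (t : G)) * conj ((ζ : G → ℂ) (x * (y : G))) =
      ∑ ψ ∈ S₁, (∑ ζ ∈ SB, cI ζ ψ * conj ((ζ : G → ℂ) (x * (y : G)))) * (ψ : H → ℂ) t := by
    intro t ht
    have h1 : ∀ ζ ∈ SB, (ζ : G → ℂ) (x * (t : G)) * conj ((ζ : G → ℂ) (x * (y : G))) =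
        ∑ ψ ∈ S₁, cI ζ ψ * conj ((ζ : G → ℂ) (x * (y : G))) * (ψ : H → ℂ) t := by
      intro ζ hζ
      rw [hSB, Finset.mem_filter] at hζ
      rw [principal_local_expansion p M hM x hx H hH ζ hζ.2 t ((hTmem t).1 ht), ← hS₁,
        Finset.sum_mul]
      refine Finset.sum_congr rfl (fun ψ _ => ?_)
      rw [hcI]
      ring
    rw [Finset.sum_congr rfl h1, Finset.sum_comm]
    refine Finset.sum_congr rfl (fun ψ _ => ?_)
    rw [Finset.sum_mul]
  have hA' : ∀ t ∈ T, ∑ ζ ∈ SB', (ζ : G → ℂ) (x * (t : G)) * conj ((ζ : G → ℂ) (x * (y : G))) =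
      ∑ ψ ∈ S₂, (∑ ζ ∈ SB', cI ζ ψ * conj ((ζ : G → ℂ) (x * (y : G)))) * (ψ : H → ℂ) t := by
    intro t ht
    have h1 : ∀ ζ ∈ SB', (ζ : G → ℂ) (x * (t : G)) * conj ((ζ : G → ℂ) (x * (y : G))) =
        ∑ ψ ∈ S₂, cI ζ ψ * conj ((ζ : G → ℂ) (x * (y : G))) * (ψ : H → ℂ) t := by
      intro ζ hζ
      rw [hSB', Finset.mem_filter] at hζ
      rw [nonprincipal_local_expansion p M hM x hx H hH ζ hζ.2 t ((hTmem t).1 ht), ← hS₂,
        Finset.sum_mul]
      refine Finset.sum_congr rfl (fun ψ _ => ?_)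
      rw [hcI]
      ring
    rw [Finset.sum_congr rfl h1, Finset.sum_comm]
    refine Finset.sum_congr rfl (fun ψ _ => ?_)
    rw [Finset.sum_mul]
  -- column orthogonality in `G` and in `H`
  have htot : ∀ t ∈ T,
      ∑ ζ ∈ SB, (ζ : G → ℂ) (x * (t : G)) * conj ((ζ : G → ℂ) (x * (y : G))) +
      ∑ ζ ∈ SB', (ζ : G → ℂ) (x * (t : G)) * conj ((ζ : G → ℂ) (x * (y : G))) =
      ∑ ψ ∈ S₁, (ψ : H → ℂ) t * conj ((ψ : H → ℂ) y) +
      ∑ ψ ∈ S₂, (ψ : H → ℂ) t * conj ((ψ : H → ℂ) y) := by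
    intro t ht
    rw [hSB, hSB', hS₁, hS₂, Finset.sum_filter_add_sum_filter_not,
      Finset.sum_filter_add_sum_filter_not, irr_column_orthogonality, irr_column_orthogonality]
    have hiff := isConj_shift_iff hp x hx H hH t y ((hTmem t).1 ht) hy
    have hcard := card_centralizer_shift hp x hx H hH y hy
    by_cases hc : IsConj t y
    · rw [if_pos hc, if_pos (hiff.2 hc), hcard]
    · rw [if_neg hc, if_neg (fun h => hc (hiff.1 h))]
  -- the difference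
  obtain ⟨D, hD⟩ : ∃ D : H → ℂ, D = fun t : H =>
    ∑ ζ ∈ SB, (ζ : G → ℂ) (x * (t : G)) * conj ((ζ : G → ℂ) (x * (y : G))) -
      ∑ ψ ∈ S₁, (ψ : H → ℂ) t * conj ((ψ : H → ℂ) y) := ⟨_, rfl⟩
  have hDa : ∀ t, D t = ∑ ζ ∈ SB, (ζ : G → ℂ) (x * (t : G)) * conj ((ζ : G → ℂ) (x * (y : G))) -
      ∑ ψ ∈ S₁, (ψ : H → ℂ) t * conj ((ψ : H → ℂ) y) := fun t => by rw [hD]
  have horth : ∀ ψ ∈ S₁, ∀ ψ' ∈ S₂, ∑ t ∈ T, (ψ : H → ℂ) t * conj ((ψ' : H → ℂ) t) = 0 := by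
    intro ψ hψ ψ' hψ'
    rw [hS₁, Finset.mem_filter] at hψ
    rw [hS₂, Finset.mem_filter] at hψ'
    rw [hT]
    apply pregular_orthogonality p M hM ψ ψ'
    intro hsame
    apply hψ'.2
    have h1 : SameBlock M ((oneIrr H : IrrCharacter H) : H → ℂ) (ψ : H → ℂ) := hψ.2
    exact sameBlock_trans h1 hsame
  have h1 : ∀ t ∈ T, D t = ∑ ψ ∈ S₁,
      ((∑ ζ ∈ SB, cI ζ ψ * conj ((ζ : G → ℂ) (x * (y : G)))) - conj ((ψ : H → ℂ) y)) *
        (ψ : H → ℂ) t := by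
    intro t ht
    rw [hDa, hA t ht, ← Finset.sum_sub_distrib]
    refine Finset.sum_congr rfl (fun ψ _ => ?_)
    ring
  have h2 : ∀ t ∈ T, D t = ∑ ψ ∈ S₂,
      (conj ((ψ : H → ℂ) y) - (∑ ζ ∈ SB', cI ζ ψ * conj ((ζ : G → ℂ) (x * (y : G))))) *
        (ψ : H → ℂ) t := by
    intro t ht
    have h3 := htot t ht
    have h4 : D t = ∑ ψ ∈ S₂, (ψ : H → ℂ) t * conj ((ψ : H → ℂ) y) -
        ∑ ζ ∈ SB', (ζ : G → ℂ) (x * (t : G)) * conj ((ζ : G → ℂ) (x * (y : G))) := by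
      rw [hDa]
      linear_combination h3
    rw [h4, hA' t ht, ← Finset.sum_sub_distrib]
    refine Finset.sum_congr rfl (fun ψ _ => ?_)
    ring
  have hzero := eq_zero_of_orthogonal_expansions T S₁ S₂ (fun ψ t => (ψ : H → ℂ) t) horth D _ _
    h1 h2 y ((hTmem y).2 hy)
  rw [hDa] at hzero
  exact sub_eq_zero.1 hzero

end PS2

end Cfsg.Agent.helper24
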