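import Mathlib
import Cfsg.Agent.Lib_helper24_PrincipalSum2
import Cfsg.Agent.Lib_helper24_CharQuot

set_option autoImplicit false

namespace Cfsg.Agent.helper24

open Cfsg
open scoped ComplexConjugate

universe u

section PG

variable {G : Type u} [Group G] [Fintype G]

/-- a `p`-group has only the principal block -/
theorem pgroup_mem_principalBlock (p : ℕ) [Fact p.Prime] (M : Ideal AlgInt) (hM : IsPModular p M)
    (hG : IsPGroup p G) (ψ : IrrCharacter G) : ψ ∈ principalBlock M G := by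
  have hMp : M.IsPrime := hM.2.1.isPrime
  have hMtop := hMp.ne_top
  obtain ⟨χ, hχ, hker⟩ := exists_mem_block_ker p M hM ψ ⊤ (hG.to_subgroup ⊤)
  have h1 : SameBlock M ((oneIrr G : IrrCharacter G) : G → ℂ) (χ : G → ℂ) := by
    intro g
    have e : centralChar ((oneIrr G : IrrCharacter G) : G → ℂ) g = centralChar (χ : G → ℂ) g := by
      unfold centralChar
      rw [hker g (Subgroup.mem_top g)]
      have hne := irr_apply_one_ne_zero χ.2
      show (_ : ℂ) * 1 / 1 = _
      field_simp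
    rw [e, sub_self]
    exact memLocalIdeal_zero hMtop
  exact sameBlock_trans h1 (sameBlock_symm hχ)

/-- the characters of a `p`-group quotient lie in the principal block -/
theorem mem_principalBlock_of_ker (p : ℕ) [Fact p.Prime] (M : Ideal AlgInt) (hM : IsPModular p M)
    (N : Subgroup G) [N.Normal] (hidx : ∃ k : ℕ, N.index = p ^ k) (ψ : IrrCharacter G)
    (hker : ∀ n ∈ N, (ψ : G → ℂ) n = (ψ : G → ℂ) 1) : ψ ∈ principalBlock M G := by
  classical
  have hMp : M.IsPrime := hM.2.1.isPrime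
  have hMtop := hMp.ne_top
  obtain ⟨ψ', hψ', hinf⟩ := irr_deflation N ψ.2 hker
  letI := Fintype.ofFinite (G ⧸ N)
  have hQ : IsPGroup p (G ⧸ N) := by
    obtain ⟨k, hk⟩ := hidx
    apply IsPGroup.of_card (n := k)
    rw [← hk]
    exact (Subgroup.index_eq_card N).symm
  have h1 : SameBlock M (fun _ : G ⧸ N => (1 : ℂ)) ψ' :=
    pgroup_mem_principalBlock p M hM hQ ⟨ψ', hψ'⟩
  intro g
  have e1 := centralChar_inflation N (fun _ : G ⧸ N => (1 : ℂ)) g
  have e2 := centralChar_inflation N ψ' g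
  have e3 : (fun _ : G => (1 : ℂ)) = (fun _ : G ⧸ N => (1 : ℂ)) ∘ (QuotientGroup.mk : G → G ⧸ N) :=
    rfl
  rw [e3, hinf, e1, e2, ← mul_sub]
  exact memLocalIdeal_mul_left (memLocalRing_of_integral hMtop (isIntegral_natCast_complex _))
    (h1 _)

open Classical in
/-- the norm sum of the principal block of a group with a normal `p`-complement at a `p`-regular
element -/
theorem principal_sum_of_normal_complement [Fintype (IrrCharacter G)] (p : ℕ) [Fact p.Prime]
    (M : Ideal AlgInt) (hM : IsPModular p M) (hidx : ∃ k : ℕ, (pPrimeCore p G).index = p ^ k)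
    (y : G) (hy : ¬ p ∣ orderOf y) :
    ∑ ψ ∈ Finset.univ.filter (fun ψ : IrrCharacter G => ψ ∈ principalBlock M G),
        (ψ : G → ℂ) y * conj ((ψ : G → ℂ) y) =
      ((p ^ (Nat.card G).factorization p : ℕ) : ℂ) := by
  have hp : p.Prime := Fact.out
  obtain ⟨N, hN⟩ : ∃ N : Subgroup G, N = pPrimeCore p G := ⟨_, rfl⟩
  have hNn : N.Normal := by rw [hN]; exact helper1.pPrimeCore_normal p
  have hNc : (Nat.card N).Coprime p := by rw [hN]; exact helper1.pPrimeCore_coprime p
  obtain ⟨k, hk⟩ := hidx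
  rw [← hN] at hk
  have hyN : y ∈ N := by
    have h1 : y ^ (p ^ k) ∈ N := by
      rw [← hk]
      exact Subgroup.pow_index_mem N y
    have hcop : Nat.Coprime (p ^ k) (orderOf y) :=
      Nat.Coprime.pow_left k ((Nat.Prime.coprime_iff_not_dvd hp).2 hy)
    obtain ⟨m, hm⟩ := exists_pow_eq_self_of_coprime hcop
    rw [← hm]
    exact N.pow_mem h1 m
  have hset : Finset.univ.filter (fun ψ : IrrCharacter G => ψ ∈ principalBlock M G) =
      Finset.univ.filter
        (fun ψ : IrrCharacter G => ∀ n ∈ N, (ψ : G → ℂ) n = (ψ : G → ℂ) 1) := by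
    ext ψ
    simp only [Finset.mem_filter, Finset.mem_univ, true_and]
    exact ⟨fun h => principal_block_ker p M hM N hNc ψ h,
      fun h => mem_principalBlock_of_ker p M hM N ⟨k, hk⟩ ψ h⟩
  rw [hset]
  have h2 : ∀ ψ ∈ Finset.univ.filter
      (fun ψ : IrrCharacter G => ∀ n ∈ N, (ψ : G → ℂ) n = (ψ : G → ℂ) 1),
      (ψ : G → ℂ) y * conj ((ψ : G → ℂ) y) = ((charDegree (ψ : G → ℂ) ^ 2 : ℕ) : ℂ) := by
    intro ψ hψ
    rw [(Finset.mem_filter.1 hψ).2 y hyN, ← char_charDegree_cast (irr_isCharacter ψ.2),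
      Complex.conj_natCast]
    push_cast
    ring
  rw [Finset.sum_congr rfl h2, ← Nat.cast_sum, sum_degree_sq_ker N, hk]
  congr 1
  have hcard : Nat.card G = Nat.card N * p ^ k := by
    rw [← hk]
    exact (Subgroup.card_mul_index N).symm
  have hnd : ¬ p ∣ Nat.card N := (Nat.Prime.coprime_iff_not_dvd hp).1 hNc.symm
  have hfac : (Nat.card N * p ^ k).factorization p = k := by
    rw [Nat.factorization_mul Nat.card_pos.ne' (pow_ne_zero _ hp.ne_zero), Finsupp.add_apply,
      Nat.factorization_eq_zero_of_not_dvd hnd, zero_add, hp.factorization_pow,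
      Finsupp.single_eq_same]
  rw [hcard, hfac]

end PG

section Wrap

open Classical in
theorem finsum_norm_sq_eq {ι : Type*} [Fintype ι] (S : Set ι) (f : ι → ℂ) :
    ((∑ᶠ i ∈ S, ‖f i‖ ^ 2 : ℝ) : ℂ) =
      ∑ i ∈ Finset.univ.filter (fun i : ι => i ∈ S), f i * conj (f i) := by
  rw [finsum_mem_eq_finite_toFinset_sum _ (Set.toFinite _)]
  have h3 : (Set.toFinite S).toFinset = Finset.univ.filter (fun i : ι => i ∈ S) := by
    ext i
    simp
  rw [h3, Complex.ofReal_sum]
  refine Finset.sum_congr rfl (fun i _ => ?_)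
  rw [Complex.mul_conj, Complex.normSq_eq_norm_sq]

/-- S0947 -/
theorem principal_block_norm_sum {G : Type u} [Group G] [Finite G] (p : ℕ) [Fact p.Prime]
    (M : Ideal AlgInt) (hM : IsPModular p M) (z : G) (hz : ∃ k : ℕ, orderOf z = p ^ k)
    (y : Subgroup.centralizer ({z} : Set G)) (hy : ¬ p ∣ orderOf y) :
    (∑ᶠ ζ ∈ principalBlock M G, ‖(ζ : G → ℂ) (z * (y : G))‖ ^ 2 =
      ∑ᶠ χ ∈ principalBlock M (Subgroup.centralizer ({z} : Set G)),
        ‖(χ : Subgroup.centralizer ({z} : Set G) → ℂ) y‖ ^ 2) ∧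
    ((∃ k : ℕ, (pPrimeCore p (Subgroup.centralizer ({z} : Set G))).index = p ^ k) →
      ∑ᶠ ζ ∈ principalBlock M G, ‖(ζ : G → ℂ) (z * (y : G))‖ ^ 2 =
        ((p ^ (Nat.card (Subgroup.centralizer ({z} : Set G))).factorization p : ℕ) : ℝ)) := by
  classical
  letI := Fintype.ofFinite G
  letI := Fintype.ofFinite (Subgroup.centralizer ({z} : Set G))
  have := Fintype.ofFinite (IrrCharacter G)
  have := Fintype.ofFinite (IrrCharacter (Subgroup.centralizer ({z} : Set G)))
  have hmain := principal_block_section_sum p M hM z hz (Subgroup.centralizer ({z} : Set G)) rfl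
    y hy
  have h1 : ∑ᶠ ζ ∈ principalBlock M G, ‖(ζ : G → ℂ) (z * (y : G))‖ ^ 2 =
      ∑ᶠ χ ∈ principalBlock M (Subgroup.centralizer ({z} : Set G)),
        ‖(χ : Subgroup.centralizer ({z} : Set G) → ℂ) y‖ ^ 2 := by
    apply Complex.ofReal_injective
    rw [finsum_norm_sq_eq (principalBlock M G) (fun ζ => (ζ : G → ℂ) (z * (y : G))),
      finsum_norm_sq_eq (principalBlock M (Subgroup.centralizer ({z} : Set G)))
        (fun χ => (χ : Subgroup.centralizer ({z} : Set G) → ℂ) y)]
    exact hmain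
  refine ⟨h1, ?_⟩
  intro hidx
  rw [h1]
  apply Complex.ofReal_injective
  rw [finsum_norm_sq_eq (principalBlock M (Subgroup.centralizer ({z} : Set G)))
    (fun χ => (χ : Subgroup.centralizer ({z} : Set G) → ℂ) y),
    principal_sum_of_normal_complement p M hM hidx y hy]
  push_cast
  rfl

end Wrap

end Cfsg.Agent.helper24
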