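import Mathlib
import Cfsg.Agent.Lib_helper12_Q8e
import Cfsg.Agent.Lib_helper12_Q8d
import Cfsg.Agent.Lib_helper24_BlockOrth3
import Cfsg.Agent.Lib_helper24_PrincipalSum3
import Cfsg.Agent.Lib_helper24_FrobCongr
import Cfsg.Agent.Lib_helper24_ThirdMain

set_option autoImplicit false

/-!
Brauer–Suzuki for `Q₈` (helper12): the principal 2-block in the fused case, and the existence of
an irreducible character with `z` but not `w` in its kernel.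
-/

namespace Cfsg.Agent.helper12

open Cfsg

universe u

theorem q8_four_squares {α : Type*} (Bf : Finset α) (o : α) (ho : o ∈ Bf)
    (b : α → ℤ) (hbo : b o = 1) (hsum : ∑ ζ ∈ Bf, (b ζ) ^ 2 = 4) :
    ∃ χ₁ χ₂ χ₃ : α, (b χ₁ = 1 ∨ b χ₁ = -1) ∧ (b χ₂ = 1 ∨ b χ₂ = -1) ∧ (b χ₃ = 1 ∨ b χ₃ = -1) ∧
      ∀ F : α → ℂ, ∑ ζ ∈ Bf, F ζ * (b ζ : ℂ) =
        F o + F χ₁ * (b χ₁ : ℂ) + F χ₂ * (b χ₂ : ℂ) + F χ₃ * (b χ₃ : ℂ) := by
  classical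
  obtain ⟨T, hT⟩ : ∃ T, T = (Bf.erase o).filter (fun ζ => b ζ ≠ 0) := ⟨_, rfl⟩
  have h1 : ∑ ζ ∈ Bf.erase o, (b ζ) ^ 2 = 3 := by
    have := Finset.add_sum_erase Bf (fun ζ => (b ζ) ^ 2) ho
    simp only [hbo] at this
    rw [hsum] at this
    linarith
  have h2 : ∑ ζ ∈ T, (b ζ) ^ 2 = 3 := by
    rw [← h1, hT, Finset.sum_filter]
    apply Finset.sum_congr rfl
    intro ζ _
    split_ifs with h
    · rfl
    · push Not at h; rw [h]; norm_num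
  have h3 : ∀ ζ ∈ T, b ζ = 1 ∨ b ζ = -1 := by
    intro ζ hζ
    have hne : b ζ ≠ 0 := by
      rw [hT] at hζ
      exact (Finset.mem_filter.mp hζ).2
    have hle : (b ζ) ^ 2 ≤ 3 := by
      rw [← h2]
      exact Finset.single_le_sum (f := fun ζ => (b ζ) ^ 2) (fun i _ => sq_nonneg _) hζ
    have h4 : -2 < b ζ ∧ b ζ < 2 := by constructor <;> nlinarith
    omega
  have h4 : T.card = 3 := by
    have : ∑ ζ ∈ T, (b ζ) ^ 2 = ∑ ζ ∈ T, (1 : ℤ) := by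
      apply Finset.sum_congr rfl
      intro ζ hζ
      rcases h3 ζ hζ with h | h <;> rw [h] <;> norm_num
    rw [h2, Finset.sum_const, nsmul_eq_mul, mul_one] at this
    exact_mod_cast this.symm
  obtain ⟨x, y, z, hxy, hxz, hyz, hTeq⟩ := Finset.card_eq_three.mp h4
  have hx : x ∈ T := by rw [hTeq]; simp
  have hy : y ∈ T := by rw [hTeq]; simp
  have hz : z ∈ T := by rw [hTeq]; simp
  refine ⟨x, y, z, h3 x hx, h3 y hy, h3 z hz, ?_⟩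
  intro F
  have e1 : ∑ ζ ∈ Bf, F ζ * (b ζ : ℂ) = F o * (b o : ℂ) + ∑ ζ ∈ Bf.erase o, F ζ * (b ζ : ℂ) :=
    (Finset.add_sum_erase Bf (fun ζ => F ζ * (b ζ : ℂ)) ho).symm
  have e2 : ∑ ζ ∈ Bf.erase o, F ζ * (b ζ : ℂ) = ∑ ζ ∈ T, F ζ * (b ζ : ℂ) := by
    rw [hT, Finset.sum_filter]
    apply Finset.sum_congr rfl
    intro ζ _
    split_ifs with h
    · rfl
    · push Not at h; rw [h]; simp
  rw [e1, e2, hTeq, hbo, Finset.sum_insert (by simp [hxy, hxz]), Finset.sum_pair hyz]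
  push_cast
  ring

theorem q8_clear_denoms (k d₁ d₂ d₃ a₁ a₂ a₃ ε₁ ε₂ ε₃ : ℂ) (hk : k ≠ 0) (hd₁ : d₁ ≠ 0)
    (hd₂ : d₂ ≠ 0) (hd₃ : d₃ ≠ 0)
    (h : k ^ 2 + ε₁ * ((k * a₁) ^ 2 / d₁) + ε₂ * ((k * a₂) ^ 2 / d₂)
      + ε₃ * ((k * a₃) ^ 2 / d₃) = 0) :
    d₁ * d₂ * d₃ + ε₁ * a₁ ^ 2 * d₂ * d₃ + ε₂ * a₂ ^ 2 * d₁ * d₃ + ε₃ * a₃ ^ 2 * d₁ * d₂ = 0 := by
  have e : k ^ 2 * (d₁ * d₂ * d₃ + ε₁ * a₁ ^ 2 * d₂ * d₃ + ε₂ * a₂ ^ 2 * d₁ * d₃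
      + ε₃ * a₃ ^ 2 * d₁ * d₂) =
      (k ^ 2 + ε₁ * ((k * a₁) ^ 2 / d₁) + ε₂ * ((k * a₂) ^ 2 / d₂)
        + ε₃ * ((k * a₃) ^ 2 / d₃)) * (d₁ * d₂ * d₃) := by
    field_simp
  rw [h, zero_mul] at e
  exact (mul_eq_zero.mp e).resolve_left (pow_ne_zero 2 hk)

theorem q8_double_sum {G : Type u} [Group G] (K : Finset G) (A B C : G → ℂ) (ε₁ ε₂ ε₃ : ℂ)
    (h : ∀ x ∈ K, ∀ y ∈ K, 1 + A (x * y) * ε₁ + B (x * y) * ε₂ + C (x * y) * ε₃ = 0) :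
    (K.card : ℂ) ^ 2 + ε₁ * (∑ x ∈ K, ∑ y ∈ K, A (x * y)) + ε₂ * (∑ x ∈ K, ∑ y ∈ K, B (x * y))
      + ε₃ * (∑ x ∈ K, ∑ y ∈ K, C (x * y)) = 0 := by
  have h0 : ∑ x ∈ K, ∑ y ∈ K, (1 + A (x * y) * ε₁ + B (x * y) * ε₂ + C (x * y) * ε₃) = 0 :=
    Finset.sum_eq_zero (fun x hx => Finset.sum_eq_zero (fun y hy => h x hx y hy))
  simp only [Finset.sum_add_distrib, ← Finset.sum_mul, Finset.sum_const, nsmul_eq_mul,
    mul_one] at h0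
  linear_combination h0

section Q8Block

variable {G : Type u} [Group G] [Finite G] {S : Sylow 2 G} {w z : G}

omit [Finite G] in
theorem q8_isPPart_winv (hq : Q8Data (S : Subgroup G) w z) : IsPPart 2 w⁻¹ w⁻¹ :=
  ⟨1, mul_one _, Commute.one_right _, ⟨2, by rw [orderOf_inv, q8_order_w hq]; norm_num⟩,
    by rw [orderOf_one]; norm_num⟩

omit [Finite G] in
theorem q8_isPPart_one : IsPPart 2 (1 : G) 1 :=
  ⟨1, mul_one _, Commute.one_right _, ⟨0, by rw [orderOf_one]; norm_num⟩,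
    by rw [orderOf_one]; norm_num⟩

omit [Finite G] in
theorem q8_isPPart_z (hq : Q8Data (S : Subgroup G) w z) : IsPPart 2 z z :=
  ⟨1, mul_one _, Commute.one_right _, ⟨1, by rw [q8_order_z hq]; norm_num⟩,
    by rw [orderOf_one]; norm_num⟩

omit [Finite G] in
theorem q8_isPPart_odd {g : G} (hg : Odd (orderOf g)) : IsPPart 2 g 1 :=
  ⟨g, one_mul _, Commute.one_left _, ⟨0, by rw [orderOf_one]; norm_num⟩, by
    rw [← even_iff_two_dvd, Nat.not_even_iff_odd]; exact hg⟩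

omit [Finite G] in
theorem q8_not_conj_one (hq : Q8Data (S : Subgroup G) w z) : ¬ IsConj (1 : G) w⁻¹ := by
  intro h
  obtain ⟨c, hc⟩ := isConj_iff.mp h
  have h1 : w⁻¹ = 1 := by rw [← hc]; group
  have h2 : w = 1 := inv_eq_one.mp h1
  apply q8_w_sq_ne hq
  rw [h2, one_pow]

theorem q8_not_conj_z (hq : Q8Data (S : Subgroup G) w z) : ¬ IsConj z w⁻¹ := by
  intro h
  obtain ⟨c, hc⟩ := isConj_iff.mp h
  have h1 : orderOf (c * z * c⁻¹) = orderOf w⁻¹ := by rw [hc]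
  rw [bs_orderOf_conj, orderOf_inv, q8_order_z hq, q8_order_w hq] at h1
  omega

theorem q8_norm_sum (hq : Q8Data (S : Subgroup G) w z) (M : Ideal AlgInt)
    (hM : IsPModular 2 M) :
    ∑ᶠ ζ ∈ principalBlock M G, ‖(ζ : G → ℂ) w‖ ^ 2 = 4 := by
  haveI : Fact (Nat.Prime 2) := ⟨Nat.prime_two⟩
  obtain ⟨hfac, k, hk⟩ := q8_cent_w hq
  have h := (helper24.principal_block_norm_sum 2 M hM w
    ⟨2, by rw [q8_order_w hq]; norm_num⟩ (1 : Subgroup.centralizer ({w} : Set G))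
    (by rw [orderOf_one]; norm_num)).2 ⟨k, hk⟩
  rw [hfac, Subgroup.coe_one, mul_one] at h
  rw [h]
  norm_num

theorem q8_pick (χ : IrrCharacter G) (bI aI : ℤ) (hb : (χ : G → ℂ) w = (bI : ℂ))
    (ha : (χ : G → ℂ) z = (aI : ℂ)) (hε : bI = -1) (had : aI = (charDegree (χ : G → ℂ) : ℤ)) :
    ∃ ψ : G → ℂ, IsIrrCharacter G ψ ∧ ψ z = ψ 1 ∧ ψ w ≠ ψ 1 := by
  have hd := helper24.char_charDegree_cast (helper24.irr_isCharacter χ.2)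
  refine ⟨χ, χ.2, ?_, ?_⟩
  · rw [ha, had, ← hd]
    push_cast
    rfl
  · rw [hb, hε, ← hd]
    intro h
    have h1 : ((-1 : ℤ) : ℂ) = ((charDegree (χ : G → ℂ) : ℤ) : ℂ) := by
      push_cast
      exact_mod_cast h
    have h2 : (-1 : ℤ) = (charDegree (χ : G → ℂ) : ℤ) := by exact_mod_cast h1
    have h3 : (0 : ℤ) ≤ (charDegree (χ : G → ℂ) : ℤ) := Int.natCast_nonneg _
    omega

/-- the key character -/
theorem q8_exists_kernel_char (hq : Q8Data (S : Subgroup G) w z) (hF : Q8Fused S) :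
    ∃ ψ : G → ℂ, IsIrrCharacter G ψ ∧ ψ z = ψ 1 ∧ ψ w ≠ ψ 1 := by
  classical
  haveI : Fact (Nat.Prime 2) := ⟨Nat.prime_two⟩
  letI : Fintype G := Fintype.ofFinite G
  obtain ⟨M, hM⟩ := helper24.exists_isPModular Nat.prime_two
  have hMtop : M ≠ ⊤ := hM.2.1.ne_top
  have hint : ∀ ζ : IrrCharacter G, ∃ bI aI : ℤ, (ζ : G → ℂ) w = (bI : ℂ) ∧
      (ζ : G → ℂ) z = (aI : ℂ) ∧
      (8 : ℤ) ∣ (charDegree (ζ : G → ℂ) : ℤ) + aI - 2 * bI ∧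
      (4 : ℤ) ∣ (charDegree (ζ : G → ℂ) : ℤ) - aI ∧ aI ≤ (charDegree (ζ : G → ℂ) : ℤ) :=
    fun ζ => q8_char_int hq hF (helper24.irr_isCharacter ζ.2)
  choose bI aI hb ha h8 h4 hle using hint
  obtain ⟨Bf, hBf⟩ : ∃ Bf : Finset (IrrCharacter G),
      Bf = (Set.toFinite (principalBlock M G)).toFinset := ⟨_, rfl⟩
  have hoB : helper24.oneIrr G ∈ Bf := by
    rw [hBf, Set.Finite.mem_toFinset]
    exact helper24.oneIrr_mem_principalBlock hMtop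
  have hbo : bI (helper24.oneIrr G) = 1 := by
    have h1 := hb (helper24.oneIrr G)
    have h2 : ((helper24.oneIrr G : IrrCharacter G) : G → ℂ) w = 1 := rfl
    rw [h2] at h1
    exact_mod_cast h1.symm
  have hnormR : ∑ ζ ∈ Bf, ((bI ζ : ℤ) : ℝ) ^ 2 = 4 := by
    have h := q8_norm_sum hq M hM
    rw [finsum_mem_eq_finite_toFinset_sum _ (Set.toFinite _), ← hBf] at h
    rw [← h]
    apply Finset.sum_congr rfl
    intro ζ _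
    rw [hb ζ, Complex.norm_intCast, sq_abs]
  have hnorm : ∑ ζ ∈ Bf, (bI ζ) ^ 2 = 4 := by exact_mod_cast hnormR
  have horth : ∀ g gx : G, IsPPart 2 g gx → ¬ IsConj gx w⁻¹ →
      ∑ ζ ∈ Bf, (ζ : G → ℂ) g * ((bI ζ : ℤ) : ℂ) = 0 := by
    intro g gx hgx hnc
    have h := helper24.block_orthogonality 2 M hM hgx (q8_isPPart_winv hq) hnc
      (principalBlock M G) ⟨helper24.oneIrr G, rfl⟩
    rw [finsum_mem_eq_finite_toFinset_sum _ (Set.toFinite _), ← hBf, inv_inv] at h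
    rw [← h]
    apply Finset.sum_congr rfl
    intro ζ _
    rw [hb ζ]
  obtain ⟨χ₁, χ₂, χ₃, he₁, he₂, he₃, hform⟩ :=
    q8_four_squares Bf (helper24.oneIrr G) hoB bI hbo hnorm
  have hval : ∀ g gx : G, IsPPart 2 g gx → ¬ IsConj gx w⁻¹ →
      1 + (χ₁ : G → ℂ) g * ((bI χ₁ : ℤ) : ℂ) + (χ₂ : G → ℂ) g * ((bI χ₂ : ℤ) : ℂ)
        + (χ₃ : G → ℂ) g * ((bI χ₃ : ℤ) : ℂ) = 0 := by
    intro g gx hgx hnc
    have h1 := horth g gx hgx hnc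
    rw [hform (fun ζ => (ζ : G → ℂ) g)] at h1
    exact h1
  -- degrees
  have hd₁ := helper24.char_charDegree_cast (helper24.irr_isCharacter χ₁.2)
  have hd₂ := helper24.char_charDegree_cast (helper24.irr_isCharacter χ₂.2)
  have hd₃ := helper24.char_charDegree_cast (helper24.irr_isCharacter χ₃.2)
  have hp₁ := helper24.irr_charDegree_pos χ₁.2
  have hp₂ := helper24.irr_charDegree_pos χ₂.2
  have hp₃ := helper24.irr_charDegree_pos χ₃.2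
  have hne₁ : (χ₁ : G → ℂ) 1 ≠ 0 := by rw [← hd₁]; exact_mod_cast hp₁.ne'
  have hne₂ : (χ₂ : G → ℂ) 1 ≠ 0 := by rw [← hd₂]; exact_mod_cast hp₂.ne'
  have hne₃ : (χ₃ : G → ℂ) 1 ≠ 0 := by rw [← hd₃]; exact_mod_cast hp₃.ne'
  -- H1
  have H1c := hval 1 1 q8_isPPart_one (q8_not_conj_one hq)
  have H2c := hval z z (q8_isPPart_z hq) (q8_not_conj_z hq)
  -- H3
  have hoz := q8_order_z hq
  have hK : ∀ x ∈ helper23.conjFinset z, orderOf x = 2 := by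
    intro x hx
    obtain ⟨g, hg⟩ := isConj_iff.mp (helper23.mem_conjFinset.mp hx)
    rw [← hg, bs_orderOf_conj, hoz]
  have hxy : ∀ x ∈ helper23.conjFinset z, ∀ y ∈ helper23.conjFinset z,
      1 + (χ₁ : G → ℂ) (x * y) * ((bI χ₁ : ℤ) : ℂ) + (χ₂ : G → ℂ) (x * y) * ((bI χ₂ : ℤ) : ℂ)
        + (χ₃ : G → ℂ) (x * y) * ((bI χ₃ : ℤ) : ℂ) = 0 := by
    intro x hx y hy
    exact hval (x * y) 1 (q8_isPPart_odd (q8_prod_invol_odd hq (hK x hx) (hK y hy)))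
      (q8_not_conj_one hq)
  have H3s := q8_double_sum (helper23.conjFinset z) (χ₁ : G → ℂ) (χ₂ : G → ℂ) (χ₃ : G → ℂ)
    _ _ _ hxy
  rw [bs_class_sum_sq χ₁.2, bs_class_sum_sq χ₂.2, bs_class_sum_sq χ₃.2] at H3s
  have hzK : z ∈ helper23.conjFinset z := helper23.mem_conjFinset.mpr (IsConj.refl _)
  have hKne : ((helper23.conjFinset z).card : ℂ) ≠ 0 := by
    have : 0 < (helper23.conjFinset z).card := Finset.card_pos.mpr ⟨_, hzK⟩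
    exact_mod_cast this.ne'
  have H3c := q8_clear_denoms _ _ _ _ _ _ _ _ _ _ hKne hne₁ hne₂ hne₃ H3s
  -- integers
  have hdz₁ : (χ₁ : G → ℂ) 1 = ((charDegree (χ₁ : G → ℂ) : ℤ) : ℂ) := by
    rw [← hd₁]; push_cast; rfl
  have hdz₂ : (χ₂ : G → ℂ) 1 = ((charDegree (χ₂ : G → ℂ) : ℤ) : ℂ) := by
    rw [← hd₂]; push_cast; rfl
  have hdz₃ : (χ₃ : G → ℂ) 1 = ((charDegree (χ₃ : G → ℂ) : ℤ) : ℂ) := by
    rw [← hd₃]; push_cast; rfl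
  rw [hdz₁, hdz₂, hdz₃] at H1c H3c
  rw [ha χ₁, ha χ₂, ha χ₃] at H2c H3c
  have H1z : 1 + bI χ₁ * (charDegree (χ₁ : G → ℂ) : ℤ) + bI χ₂ * (charDegree (χ₂ : G → ℂ) : ℤ)
      + bI χ₃ * (charDegree (χ₃ : G → ℂ) : ℤ) = 0 := by
    have : ((1 + bI χ₁ * (charDegree (χ₁ : G → ℂ) : ℤ) + bI χ₂ * (charDegree (χ₂ : G → ℂ) : ℤ)
      + bI χ₃ * (charDegree (χ₃ : G → ℂ) : ℤ) : ℤ) : ℂ) = 0 := by
      push_cast
      linear_combination H1c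
    exact_mod_cast this
  have H2z : 1 + bI χ₁ * aI χ₁ + bI χ₂ * aI χ₂ + bI χ₃ * aI χ₃ = 0 := by
    have : ((1 + bI χ₁ * aI χ₁ + bI χ₂ * aI χ₂ + bI χ₃ * aI χ₃ : ℤ) : ℂ) = 0 := by
      push_cast
      linear_combination H2c
    exact_mod_cast this
  have H3z : (charDegree (χ₁ : G → ℂ) : ℤ) * (charDegree (χ₂ : G → ℂ) : ℤ)
        * (charDegree (χ₃ : G → ℂ) : ℤ)
      + bI χ₁ * aI χ₁ ^ 2 * (charDegree (χ₂ : G → ℂ) : ℤ) * (charDegree (χ₃ : G → ℂ) : ℤ)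
      + bI χ₂ * aI χ₂ ^ 2 * (charDegree (χ₁ : G → ℂ) : ℤ) * (charDegree (χ₃ : G → ℂ) : ℤ)
      + bI χ₃ * aI χ₃ ^ 2 * (charDegree (χ₁ : G → ℂ) : ℤ) * (charDegree (χ₂ : G → ℂ) : ℤ)
      = 0 := by
    have : (((charDegree (χ₁ : G → ℂ) : ℤ) * (charDegree (χ₂ : G → ℂ) : ℤ)
        * (charDegree (χ₃ : G → ℂ) : ℤ)
      + bI χ₁ * aI χ₁ ^ 2 * (charDegree (χ₂ : G → ℂ) : ℤ) * (charDegree (χ₃ : G → ℂ) : ℤ)
      + bI χ₂ * aI χ₂ ^ 2 * (charDegree (χ₁ : G → ℂ) : ℤ) * (charDegree (χ₃ : G → ℂ) : ℤ)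
      + bI χ₃ * aI χ₃ ^ 2 * (charDegree (χ₁ : G → ℂ) : ℤ) * (charDegree (χ₂ : G → ℂ) : ℤ) : ℤ) : ℂ)
      = 0 := by
      push_cast
      push_cast at H3c
      linear_combination H3c
    exact_mod_cast this
  obtain ⟨r₁, r₂, r₃⟩ := q8_arith (bI χ₁) (bI χ₂) (bI χ₃) _ _ _ (aI χ₁) (aI χ₂) (aI χ₃)
    he₁ he₂ he₃ (by exact_mod_cast hp₁) (by exact_mod_cast hp₂) (by exact_mod_cast hp₃)
    (hle χ₁) (hle χ₂) (hle χ₃) H1z H2z H3z (h8 χ₁) (h8 χ₂) (h8 χ₃) (h4 χ₁) (h4 χ₂) (h4 χ₃)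
  have hp₁z : (0 : ℤ) < (charDegree (χ₁ : G → ℂ) : ℤ) := by exact_mod_cast hp₁
  have hp₂z : (0 : ℤ) < (charDegree (χ₂ : G → ℂ) : ℤ) := by exact_mod_cast hp₂
  have hp₃z : (0 : ℤ) < (charDegree (χ₃ : G → ℂ) : ℤ) := by exact_mod_cast hp₃
  rcases he₁ with e₁ | e₁
  · rcases he₂ with e₂ | e₂
    · rcases he₃ with e₃ | e₃
      · exfalso
        rw [e₁, e₂, e₃] at H1z
        linarith
      · exact q8_pick χ₃ _ _ (hb χ₃) (ha χ₃) e₃ r₃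
    · exact q8_pick χ₂ _ _ (hb χ₂) (ha χ₂) e₂ r₂
  · exact q8_pick χ₁ _ _ (hb χ₁) (ha χ₁) e₁ r₁

end Q8Block

end Cfsg.Agent.helper12
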