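import Mathlib
import Cfsg.Agent.Lib_helper12_Q8f
import Cfsg.Agent.Lib_helper12_BS11
import Cfsg.Agent.Lib_helper24_CharCod

set_option autoImplicit false

/-!
The Brauer–Suzuki theorem (helper12): a group with (generalized) quaternion Sylow 2-subgroups and no
nontrivial normal subgroup of odd order has centre of order 2.
-/

namespace Cfsg.Agent.helper12

open Cfsg

universe u

/-- the case `Q₈` -/
theorem bs_q8_center_card {G : Type u} [Group G] [Finite G] (S : Sylow 2 G)
    (e : (S : Subgroup G) ≃* QuaternionGroup 2)
    (hO : ∀ N : Subgroup G, N.Normal → Odd (Nat.card N) → N = ⊥) :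
    Nat.card (Subgroup.center G) = 2 := by
  obtain ⟨w, z, hq⟩ := q8Data_of_equiv (S : Subgroup G) e
  have hzc : z ∈ Subgroup.center G := by
    rcases q8_dichotomy hq e with ⟨N, hN, hc⟩ | hF
    · exact q8_z_central_of_complement hq hO hN hc
    · obtain ⟨ψ, hψ, hz, hw⟩ := q8_exists_kernel_char hq hF
      have hch := helper24.irr_isCharacter hψ
      exact q8_z_central_of_kernel hq hF hO (M := helper24.charKer hch) inferInstance
        ((helper24.mem_charKer hch z).mpr hz) (fun h => hw ((helper24.mem_charKer hch w).mp h))
  exact q8_center_card hq hO hzc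

/-- S0201: the Brauer–Suzuki theorem -/
theorem bs_full {G : Type u} [Group G] [Finite G] (S : Sylow 2 G) (n : ℕ)
    (e : (S : Subgroup G) ≃* QuaternionGroup (2 ^ (n + 1)))
    (hO : ∀ N : Subgroup G, N.Normal → Odd (Nat.card N) → N = ⊥) :
    Nat.card (Subgroup.center G) = 2 := by
  cases n with
  | zero => exact bs_q8_center_card S e hO
  | succ m => exact bs_center_card S m e hO

end Cfsg.Agent.helper12
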