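import Mathlib
import Cfsg.Prelude.Def_TwoFusion

set_option autoImplicit false

namespace Cfsg.Agent.helper6

variable {G : Type*} [Group G]

theorem conj_pow_inv {x y : G} (h : x * y * x⁻¹ = y⁻¹) (n : ℕ) : x * y ^ n * x⁻¹ = (y ^ n)⁻¹ := by
  have := map_pow (MulAut.conj x) y n
  simp only [MulAut.conj_apply] at this
  rw [this, h, inv_pow]

theorem conj_pow_inv' {x y : G} (h : x * y * x⁻¹ = y⁻¹) (n : ℕ) : x * y ^ n = (y ^ n)⁻¹ * x := by
  have := conj_pow_inv h n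
  rw [← this]; group

theorem conj_inv_pow' {x y : G} (h : x * y * x⁻¹ = y⁻¹) (n : ℕ) : x * (y ^ n)⁻¹ = y ^ n * x := by
  have := conj_pow_inv h n
  have h2 : x * (y ^ n)⁻¹ * x⁻¹ = y ^ n := by
    have e : x * (y ^ n)⁻¹ * x⁻¹ = (x * y ^ n * x⁻¹)⁻¹ := by group
    rw [e, this, inv_inv]
  calc x * (y ^ n)⁻¹ = (x * (y ^ n)⁻¹ * x⁻¹) * x := by group
    _ = y ^ n * x := by rw [h2]

theorem isolated_sq {z : G} (hz : Cfsg.IsIsolatedInvolution z) : z * z = 1 := by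
  have := pow_orderOf_eq_one z
  rw [hz.1] at this
  simpa [pow_two] using this

theorem isolated_inv {z : G} (hz : Cfsg.IsIsolatedInvolution z) : z⁻¹ = z :=
  inv_eq_of_mul_eq_one_left (isolated_sq hz)

theorem isolated_ne_one {z : G} (hz : Cfsg.IsIsolatedInvolution z) : z ≠ 1 := by
  intro h
  have := hz.1
  rw [h, orderOf_one] at this
  omega

theorem isolated_conj {z : G} (hz : Cfsg.IsIsolatedInvolution z) (g : G) :
    Cfsg.IsIsolatedInvolution (g * z * g⁻¹) := by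
  refine ⟨?_, ?_⟩
  · have := orderOf_injective (MulAut.conj g).toMonoidHom (MulAut.conj g).injective z
    simp only [MulEquiv.toMonoidHom_eq_coe, MonoidHom.coe_coe, MulAut.conj_apply] at this
    rw [this, hz.1]
  · intro h hc
    have h1 := hz.2 (g⁻¹ * h * g) (by
      have : z * (g⁻¹ * h * g * z * (g⁻¹ * h * g)⁻¹) = g⁻¹ * ((g * z * g⁻¹) * (h * (g * z * g⁻¹) * h⁻¹)) * g := by group
      have h2 : (g⁻¹ * h * g * z * (g⁻¹ * h * g)⁻¹) * z = g⁻¹ * ((h * (g * z * g⁻¹) * h⁻¹) * (g * z * g⁻¹)) * g := by group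
      unfold Commute SemiconjBy
      rw [this, h2, hc.eq])
    have : h * (g * z * g⁻¹) * h⁻¹ = g * (g⁻¹ * h * g * z * (g⁻¹ * h * g)⁻¹) * g⁻¹ := by group
    rw [this, h1]

/-- the product of an isolated involution with a conjugate has odd order -/
theorem odd_orderOf_mul_conj [Finite G] {z : G} (hz : Cfsg.IsIsolatedInvolution z) (g : G) :
    Odd (orderOf (z * (g * z * g⁻¹))) := by
  have ha2 := isolated_sq hz
  have hainv := isolated_inv hz
  obtain ⟨b, hb⟩ : ∃ b, b = g * z * g⁻¹ := ⟨_, rfl⟩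
  rw [← hb]
  have hb2 : b * b = 1 := by
    rw [hb]
    have : g * z * g⁻¹ * (g * z * g⁻¹) = g * (z * z) * g⁻¹ := by group
    rw [this, ha2]; group
  have hbinv : b⁻¹ = b := inv_eq_of_mul_eq_one_left hb2
  obtain ⟨u, hu⟩ : ∃ u, u = z * b := ⟨_, rfl⟩
  rw [← hu]
  have hzu : z * u * z⁻¹ = u⁻¹ := by
    rw [hu, mul_inv_rev, hbinv, hainv]
    rw [← mul_assoc, ha2, one_mul]
  have hbu : b * u * b⁻¹ = u⁻¹ := by
    rw [hu, mul_inv_rev, hbinv, hainv]
    rw [mul_assoc, mul_assoc, hb2, mul_one]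
  by_contra hodd
  rw [Nat.not_odd_iff_even] at hodd
  obtain ⟨m, hm⟩ := hodd
  have hpos : 0 < orderOf u := orderOf_pos u
  have hm0 : 0 < m := by omega
  obtain ⟨w, hw⟩ : ∃ w, w = u ^ m := ⟨_, rfl⟩
  have hw1 : w ≠ 1 := by
    intro h
    rw [hw] at h
    have := Nat.le_of_dvd hm0 (orderOf_dvd_of_pow_eq_one h)
    omega
  have hw2 : w * w = 1 := by
    rw [hw, ← pow_add, ← hm, pow_orderOf_eq_one]
  have hwinv : w⁻¹ = w := inv_eq_of_mul_eq_one_left hw2
  have hzw : z * w = w * z := by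
    have := conj_pow_inv' hzu m
    rw [← hw, hwinv] at this
    exact this
  have hclaim : ∃ c, z * w = c * z * c⁻¹ := by
    rcases Nat.even_or_odd' m with ⟨k, hk | hk⟩
    · refine ⟨u ^ k, ?_⟩
      have h1 := conj_inv_pow' hzu k
      -- z * (u^k)⁻¹ = u^k * z
      have : u ^ k * z * (u ^ k)⁻¹ = u ^ k * (z * (u ^ k)⁻¹) := by group
      rw [this, h1, ← mul_assoc, ← pow_add, hzw, hw, hk, two_mul]
    · refine ⟨(u ^ k)⁻¹ * g, ?_⟩
      have h1 := conj_pow_inv' hbu k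
      -- b * u^k = (u^k)⁻¹ * b
      have : (u ^ k)⁻¹ * g * z * ((u ^ k)⁻¹ * g)⁻¹ = (u ^ k)⁻¹ * (g * z * g⁻¹) * u ^ k := by group
      rw [this, ← hb, mul_assoc, h1, ← mul_assoc]
      have h2 := conj_pow_inv' hbu (k + k)
      have h3 : z * w = b * u ^ (k + k) := by
        rw [hw, hk, show 2 * k + 1 = 1 + (k + k) by ring, pow_add, pow_one, hu, ← mul_assoc, ← mul_assoc, ha2, one_mul]
      rw [h3, h2, pow_add, mul_inv_rev]
  obtain ⟨c, hc⟩ := hclaim
  have hcomm : Commute z (c * z * c⁻¹) := by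
    rw [← hc]
    unfold Commute SemiconjBy
    rw [mul_assoc, ← hzw]
  have := hz.2 c hcomm
  rw [← hc] at this
  exact hw1 (by simpa using this)

/-- for an isolated involution `z` and a conjugate `b`, some odd-order `k` in `⟨b z⟩` inverted by `z` conjugates `z` to `b` -/
theorem exists_odd_conjugator [Finite G] {z : G} (hz : Cfsg.IsIsolatedInvolution z) (g : G) :
    ∃ k, k ∈ Subgroup.zpowers ((g * z * g⁻¹) * z) ∧ Odd (orderOf k) ∧ z * k * z⁻¹ = k⁻¹ ∧
      k * z * k⁻¹ = g * z * g⁻¹ := by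
  have ha2 := isolated_sq hz
  have hainv := isolated_inv hz
  have hA := odd_orderOf_mul_conj hz g
  obtain ⟨b, hb⟩ : ∃ b, b = g * z * g⁻¹ := ⟨_, rfl⟩
  rw [← hb] at hA ⊢
  have hb2 : b * b = 1 := by
    rw [hb]
    have : g * z * g⁻¹ * (g * z * g⁻¹) = g * (z * z) * g⁻¹ := by group
    rw [this, ha2]; group
  have hbinv : b⁻¹ = b := inv_eq_of_mul_eq_one_left hb2
  obtain ⟨v, hv⟩ : ∃ v, v = b * z := ⟨_, rfl⟩
  rw [← hv]
  have hvinv : v⁻¹ = z * b := by rw [hv, mul_inv_rev, hbinv, hainv]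
  have hvodd : Odd (orderOf v) := by
    rw [← orderOf_inv, hvinv]; exact hA
  have hzv : z * v * z⁻¹ = v⁻¹ := by
    rw [hvinv, hv, hainv, mul_assoc, mul_assoc, ha2, mul_one]
  obtain ⟨m, hm⟩ := hvodd
  refine ⟨v ^ (m + 1), Subgroup.pow_mem _ (Subgroup.mem_zpowers v) _, ?_, conj_pow_inv hzv (m + 1), ?_⟩
  · have hd : orderOf (v ^ (m + 1)) ∣ orderOf v := orderOf_pow_dvd (m + 1)
    exact Odd.of_dvd_nat ⟨m, hm⟩ hd
  · have h1 := conj_inv_pow' hzv (m + 1)
    have hkk : v ^ (m + 1) * v ^ (m + 1) = v := by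
      rw [← pow_add, show m + 1 + (m + 1) = (2 * m + 1) + 1 by ring, ← hm, pow_succ, pow_orderOf_eq_one, one_mul]
    rw [mul_assoc, h1, ← mul_assoc, hkk, hv, mul_assoc, ha2, mul_one]

theorem odd_orderOf_conj_mul [Finite G] {z : G} (hz : Cfsg.IsIsolatedInvolution z) (g : G) :
    Odd (orderOf ((g * z * g⁻¹) * z)) := by
  have h := odd_orderOf_mul_conj hz g
  have hb := isolated_inv (isolated_conj hz g)
  have e : (g * z * g⁻¹) * z = (z * (g * z * g⁻¹))⁻¹ := by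
    rw [mul_inv_rev, hb, isolated_inv hz]
  rw [e, orderOf_inv]; exact h

theorem eq_sq_pow_of_odd {x : G} (hx : Odd (orderOf x)) : x = (x * x) ^ ((orderOf x + 1) / 2) := by
  obtain ⟨m, hm⟩ := hx
  rw [← pow_two, ← pow_mul, hm, show 2 * ((2 * m + 1 + 1) / 2) = (2 * m + 1) + 1 by omega, ← hm, pow_succ,
    pow_orderOf_eq_one, one_mul]

theorem mem_of_sq_mem_of_odd {x : G} (hx : Odd (orderOf x)) (N : Subgroup G) (h : x * x ∈ N) : x ∈ N := by
  rw [eq_sq_pow_of_odd hx]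
  exact N.pow_mem h _

end Cfsg.Agent.helper6
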