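import Mathlib
import Cfsg.Agent.Lib_helper12_BS10
import Cfsg.Agent.Lib_helper6_Isolated
import Cfsg.Agent.Lib_helper1_Core

set_option autoImplicit false

/-!
Glauberman's Z*-theorem (helper12): generic reductions.
-/

namespace Cfsg.Agent.helper12

open Cfsg

universe u

/-- the conclusion of the Z*-theorem for `t` -/
def ZProp {G : Type u} [Group G] (t : G) : Prop :=
  ∃ N : Subgroup G, N.Normal ∧ Odd (Nat.card N) ∧ ∀ g : G, t * g * t⁻¹ * g⁻¹ ∈ N

section ZS1

variable {G : Type u} [Group G] [Finite G]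

/-- the Sylow formulation of isolation implies the commuting formulation -/
theorem zs_isolated_of_sylow (P : Sylow 2 G) (u : G) (hu : orderOf u = 2)
    (hiso : ∀ g : G, g * u * g⁻¹ ∈ P → g * u * g⁻¹ = u) : IsIsolatedInvolution u := by
  refine ⟨hu, ?_⟩
  intro g hc
  have hu2 : u ^ 2 = 1 := by rw [← hu]; exact pow_orderOf_eq_one u
  have hv2 : (g * u * g⁻¹) ^ 2 = 1 := by rw [conj_pow, hu2]; group
  obtain ⟨h, hh⟩ := bs_pgroup_conj_into_sylow P _ (bs_klein_pgroup hu2 hv2 hc.eq)
  have h1 := hiso h (hh u (Subgroup.subset_closure (by simp)))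
  have h2' := hh (g * u * g⁻¹) (Subgroup.subset_closure (by simp))
  have e : h * (g * u * g⁻¹) * h⁻¹ = (h * g) * u * (h * g)⁻¹ := by group
  rw [e] at h2'
  have h2 := hiso (h * g) h2'
  rw [← e] at h2
  have h3 : h * (g * u * g⁻¹) * h⁻¹ = h * u * h⁻¹ := by rw [h2, h1]
  exact mul_left_cancel (mul_right_cancel h3)

omit [Finite G] in
/-- isolation passes to subgroups -/
theorem zs_isolated_subgroup {t : G} (ht : IsIsolatedInvolution t) (H : Subgroup G) (htH : t ∈ H) :
    IsIsolatedInvolution (⟨t, htH⟩ : H) := by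
  refine ⟨?_, ?_⟩
  · rw [← Subgroup.orderOf_coe]; exact ht.1
  · intro h hc
    have h1 : Commute t ((h : G) * t * (h : G)⁻¹) := by
      have := congrArg Subtype.val hc.eq
      simpa [Commute, SemiconjBy] using this
    have h2 := ht.2 (h : G) h1
    exact Subtype.ext (by simpa using h2)

/-- odd order of a subgroup from odd order of its elements -/
theorem zs_odd_card_of_forall (L : Subgroup G) (h : ∀ x ∈ L, Odd (orderOf x)) :
    Odd (Nat.card L) := by
  haveI : Fact (Nat.Prime 2) := ⟨Nat.prime_two⟩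
  rw [← Nat.not_even_iff_odd, even_iff_two_dvd]
  intro h2
  obtain ⟨x, hx⟩ := exists_prime_orderOf_dvd_card' (G := L) 2 h2
  have h3 := h (x : G) x.2
  rw [Subgroup.orderOf_coe, hx] at h3
  exact absurd h3 (by decide)

/-- lifting the Z*-property through a quotient by a normal subgroup of odd order -/
theorem zs_lift_quotient (N : Subgroup G) [N.Normal] (hN : Odd (Nat.card N)) (t : G)
    (h : ZProp (QuotientGroup.mk t : G ⧸ N)) : ZProp t := by
  obtain ⟨Nb, hNbn, hNbo, hNb⟩ := h
  refine ⟨Nb.comap (QuotientGroup.mk' N), hNbn.comap _, ?_, ?_⟩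
  · apply zs_odd_card_of_forall
    intro x hx
    have hx' : (QuotientGroup.mk' N x) ∈ Nb := hx
    have h1 : orderOf (⟨QuotientGroup.mk' N x, hx'⟩ : Nb) ∣ Nat.card Nb := orderOf_dvd_natCard _
    rw [← Subgroup.orderOf_coe] at h1
    have h2 : (QuotientGroup.mk' N x) ^ Nat.card Nb = 1 := orderOf_dvd_iff_pow_eq_one.mp h1
    have h3 : x ^ Nat.card Nb ∈ N := by
      rw [← map_pow] at h2
      exact (QuotientGroup.eq_one_iff _).mp h2
    have h4 : (x ^ Nat.card Nb) ^ Nat.card N = 1 := by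
      have h5 : orderOf (⟨x ^ Nat.card Nb, h3⟩ : N) ∣ Nat.card N := orderOf_dvd_natCard _
      rw [← Subgroup.orderOf_coe] at h5
      exact orderOf_dvd_iff_pow_eq_one.mp h5
    rw [← pow_mul] at h4
    have h6 : orderOf x ∣ Nat.card Nb * Nat.card N := orderOf_dvd_of_pow_eq_one h4
    exact Odd.of_dvd_nat (hNbo.mul hN) h6
  · intro g
    show QuotientGroup.mk' N (t * g * t⁻¹ * g⁻¹) ∈ Nb
    have := hNb (QuotientGroup.mk g)
    simpa using this

/-- a normal subgroup meeting a Sylow 2-subgroup in at most `{1, z}` has a normal 2-complement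
that is normal in `G` -/
theorem zs_small_sylow (S : Sylow 2 G) {z : G} (hoz : orderOf z = 2) {M : Subgroup G}
    (hMn : M.Normal) (hzM : z ∈ M) (hS : ∀ x ∈ M, x ∈ S → x = 1 ∨ x = z) :
    ∃ K' : Subgroup G, K'.Normal ∧ Odd (Nat.card K') ∧
      (∃ k : ℕ, Nat.card M = Nat.card K' * 2 ^ k) := by
  classical
  have hzne : z ≠ 1 := by
    intro h; rw [h, orderOf_one] at hoz; omega
  let zM : M := ⟨z, hzM⟩
  have hozM : orderOf zM = 2 := by
    rw [← Subgroup.orderOf_coe]; exact hoz
  have hzMpg : IsPGroup 2 (Subgroup.zpowers zM) := by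
    apply IsPGroup.of_card (n := 1)
    rw [Nat.card_zpowers, hozM, pow_one]
  obtain ⟨S₀, hS₀⟩ := hzMpg.exists_le_sylow
  have hzS : zM ∈ (S₀ : Subgroup M) := hS₀ (Subgroup.mem_zpowers zM)
  have hS₀' : IsPGroup 2 ((S₀ : Subgroup M).map M.subtype) := S₀.2.map _
  obtain ⟨g, hg⟩ := bs_pgroup_conj_into_sylow S _ hS₀'
  have hgC : ∀ x : (S₀ : Subgroup M), g * ((x : M) : G) * g⁻¹ = 1 ∨
      g * ((x : M) : G) * g⁻¹ = z := by
    intro x
    apply hS
    · exact hMn.conj_mem _ (x : M).2 g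
    · exact hg _ (Subgroup.mem_map_of_mem _ x.2)
  have hgz : g * z * g⁻¹ = z := by
    rcases hgC ⟨zM, hzS⟩ with h | h
    · exfalso
      have h1 : z = 1 := by
        have h2 : g * z * g⁻¹ = 1 := h
        have : z = g⁻¹ * (g * z * g⁻¹) * g := by group
        rw [this, h2]; group
      exact hzne h1
    · exact h
  let zS : (S₀ : Subgroup M) := ⟨zM, hzS⟩
  have hall : ∀ q : (S₀ : Subgroup M), q = 1 ∨ q = zS := by
    intro q
    rcases hgC q with h | h
    · left
      have h1 : ((q : M) : G) = 1 := by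
        have : ((q : M) : G) = g⁻¹ * (g * ((q : M) : G) * g⁻¹) * g := by group
        rw [this, h]; group
      exact Subtype.ext (Subtype.ext h1)
    · right
      have h1 : ((q : M) : G) = z := by
        have h2 : g * ((q : M) : G) * g⁻¹ = g * z * g⁻¹ := by rw [h, hgz]
        exact mul_left_cancel (mul_right_cancel h2)
      exact Subtype.ext (Subtype.ext h1)
  have hcyc : IsCyclic (S₀ : Subgroup M) := bs_isCyclic_of_two zS hall
  have h2dvd : 2 ∣ Nat.card M := by
    have := orderOf_dvd_natCard zM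
    rwa [hozM] at this
  have hp : (Nat.card M).minFac = 2 := (Nat.minFac_eq_two_iff _).mpr h2dvd
  have hNC := IsCyclic.normalizer_le_centralizer hp (P := S₀) hcyc
  have hcomp := MonoidHom.ker_transferSylow_isComplement' S₀ hNC
  have hodd : ¬ 2 ∣ Nat.card (MonoidHom.transferSylow S₀ hNC).ker :=
    MonoidHom.not_dvd_card_ker_transferSylow S₀ hNC
  obtain ⟨V, hV⟩ : ∃ V : M →* (S₀ : Subgroup M), V = MonoidHom.transferSylow S₀ hNC := ⟨_, rfl⟩
  rw [← hV] at hcomp hodd
  have hker_odd : ∀ m : M, m ∈ V.ker → Odd (orderOf m) := by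
    intro m hm
    have h1 : orderOf (⟨m, hm⟩ : V.ker) ∣ Nat.card V.ker := orderOf_dvd_natCard _
    rw [← Subgroup.orderOf_coe] at h1
    rw [← Nat.not_even_iff_odd, even_iff_two_dvd]
    intro h
    exact hodd (h.trans h1)
  have hodd_ker : ∀ m : M, Odd (orderOf m) → m ∈ V.ker := by
    intro m hm
    rw [MonoidHom.mem_ker]
    have h1 : orderOf (V m) ∣ orderOf m := orderOf_map_dvd V m
    obtain ⟨k, hk⟩ := (IsPGroup.iff_orderOf.mp S₀.2) (V m)
    have h2 : Nat.Coprime (orderOf m) (2 ^ k) :=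
      Nat.Coprime.pow_right k (Nat.coprime_two_right.mpr hm)
    rw [← hk] at h2
    have h3 : orderOf (V m) = 1 := Nat.Coprime.eq_one_of_dvd h2.symm h1
    exact orderOf_eq_one_iff.mp h3
  have hK'normal : (V.ker.map M.subtype).Normal := by
    constructor
    intro x hx g'
    obtain ⟨m, hm, rfl⟩ := hx
    have hmem : g' * (m : G) * g'⁻¹ ∈ M := hMn.conj_mem _ m.2 g'
    refine ⟨⟨_, hmem⟩, ?_, rfl⟩
    apply hodd_ker
    have h1 : orderOf (⟨g' * (m : G) * g'⁻¹, hmem⟩ : M) = orderOf m := by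
      rw [← Subgroup.orderOf_coe, ← Subgroup.orderOf_coe]
      exact bs_orderOf_conj g' _
    rw [h1]
    exact hker_odd m hm
  have hK'card : Nat.card (V.ker.map M.subtype) = Nat.card V.ker :=
    Subgroup.card_map_of_injective M.subtype_injective
  have hK'odd : Odd (Nat.card (V.ker.map M.subtype)) := by
    rw [hK'card, ← Nat.not_even_iff_odd, even_iff_two_dvd]
    exact hodd
  obtain ⟨k, hk⟩ := S₀.2.exists_card_eq
  have hcardM : Nat.card M = Nat.card (V.ker.map M.subtype) * 2 ^ k := by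
    rw [hK'card, ← hk]
    exact hcomp.card_mul.symm
  exact ⟨V.ker.map M.subtype, hK'normal, hK'odd, k, hcardM⟩

end ZS1

end Cfsg.Agent.helper12
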