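import Cfsg.Statements.S3158
import Mathlib

set_option autoImplicit false
open Cfsg

namespace Cfsg.Agent.S3158

theorem exists_central {U : Type*} [Group U] [Finite U] (hU : IsPGroup 2 U) (V : Subgroup U) [V.Normal]
    (hV : 2 ∣ Nat.card V) : ∃ b ∈ V, b ≠ 1 ∧ ∀ u : U, u * b = b * u := by
  have : Fact (Nat.Prime 2) := ⟨Nat.prime_two⟩
  obtain ⟨b, hb, hne⟩ :=
    (hU.of_equiv ConjAct.toConjAct).exists_fixed_point_of_prime_dvd_card_of_fixed_point ↥V hV
      (a := (1 : ↥V)) (by intro g; exact smul_one g)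
  refine ⟨b, b.2, ?_, ?_⟩
  · intro h; apply hne; exact Subtype.ext h.symm
  · intro u
    have h1 := hb (ConjAct.toConjAct u)
    have h2 := congrArg Subtype.val h1
    rw [ConjAct.Subgroup.val_conj_smul, ConjAct.smul_def, ConjAct.ofConjAct_toConjAct] at h2
    exact mul_inv_eq_iff_eq_mul.mp h2

theorem pow_mem_of_inv {U : Type*} [Group U] (y : MulAut U) (V : Subgroup U) (hyV : ∀ v ∈ V, y v ∈ V) :
    ∀ k : ℕ, ∀ v ∈ V, (y ^ k) v ∈ V := by
  intro k
  induction k with
  | zero => intro v hv; simpa using hv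
  | succ k ih => intro v hv; rw [pow_succ' y, MulAut.mul_apply]; exact hyV _ (ih v hv)

theorem transitive {U : Type*} [Group U] [Finite U] (q : ℕ) (hq : 2 ≤ q)
    (y : MulAut U) (hy : orderOf y = q - 1)
    (hfp : ∀ k : ℕ, y ^ k ≠ 1 → ∀ u : U, (y ^ k) u = u → u = 1)
    (V : Subgroup U) (hyV : ∀ v ∈ V, y v ∈ V) (hcard : Nat.card V = q) (b : U) (hb : b ∈ V)
    (hb1 : b ≠ 1) :
    ∀ v ∈ V, v ≠ 1 → ∃ k : ℕ, (y ^ k) b = v := by
  have hpowV := pow_mem_of_inv y V hyV
  have hlt : ∀ j k : ℕ, j ≤ k → k < q - 1 → (y ^ j) b = (y ^ k) b → j = k := by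
    intro j k hjk hk h
    obtain ⟨d, rfl⟩ := Nat.exists_eq_add_of_le hjk
    rw [pow_add, MulAut.mul_apply] at h
    have h2 := (y ^ j).injective h
    by_contra hne
    have hd : d ≠ 0 := by omega
    have hyd : y ^ d ≠ 1 := pow_ne_one_of_lt_orderOf hd (by rw [hy]; omega)
    exact hb1 (hfp d hyd b h2.symm)
  let g : Option (Fin (q - 1)) → ↥V := fun o => match o with
    | none => 1
    | some k => ⟨(y ^ (k : ℕ)) b, hpowV k b hb⟩
  have hinj : Function.Injective g := by
    intro o o' h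
    rcases o with _ | k <;> rcases o' with _ | k'
    · rfl
    · exfalso
      have h1 : (1 : U) = (y ^ (k' : ℕ)) b := congrArg Subtype.val h
      apply hb1
      have : (y ^ (k' : ℕ)) b = (y ^ (k' : ℕ)) 1 := by rw [← h1, map_one]
      exact (y ^ (k' : ℕ)).injective this
    · exfalso
      have h1 : (y ^ (k : ℕ)) b = (1 : U) := congrArg Subtype.val h
      apply hb1
      have : (y ^ (k : ℕ)) b = (y ^ (k : ℕ)) 1 := by rw [h1, map_one]
      exact (y ^ (k : ℕ)).injective this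
    · have h1 : (y ^ (k : ℕ)) b = (y ^ (k' : ℕ)) b := congrArg Subtype.val h
      congr 1
      apply Fin.ext
      rcases le_total (k : ℕ) (k' : ℕ) with hle | hle
      · exact hlt _ _ hle k'.2 h1
      · exact (hlt _ _ hle k.2 h1.symm).symm
  have hbij := hinj.bijective_of_nat_card_le (by
    rw [hcard, Nat.card_eq_fintype_card, Fintype.card_option, Fintype.card_fin]; omega)
  intro v hv hv1
  obtain ⟨o, ho⟩ := hbij.2 ⟨v, hv⟩
  rcases o with _ | k
  · exfalso; apply hv1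
    have h1 : (1 : U) = v := congrArg Subtype.val ho
    exact h1.symm
  · exact ⟨k, congrArg Subtype.val ho⟩

/-- Let U be a group of order q² with q = 2^n ≥ 2, and y an automorphism of U of order q − 1 all of whose nontrivial powers fix only the identity. Let V be a proper normal y-invariant subgroup of U such that V and U/V are elementary abelian 2-groups and there is an isomorphism from V to U/V commuting with the actions of y. Then U is abelian. -/
theorem result {U : Type*} [Group U] [Finite U] (n : ℕ) (hn : 1 ≤ n) (hU : Nat.card U = (2 ^ n) ^ 2)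
    (y : MulAut U) (hy : orderOf y = 2 ^ n - 1) (hfp : ∀ k : ℕ, y ^ k ≠ 1 → ∀ u : U, (y ^ k) u = u → u = 1)
    (V : Subgroup U) [V.Normal] (hV : V ≠ ⊤) (hyV : ∀ v ∈ V, y v ∈ V)
    (hVe : ∀ v ∈ V, v ^ 2 = 1) (hQe : ∀ u : U, u ^ 2 ∈ V) (hQc : ∀ u w : U, u * w * u⁻¹ * w⁻¹ ∈ V)
    (φ : ↥V ≃* U ⧸ V) (hφ : ∀ (v : ↥V) (u : U), (QuotientGroup.mk u : U ⧸ V) = φ v → φ ⟨y v, hyV v v.2⟩ = QuotientGroup.mk (y u)) :
    IsMulCommutative U := by
  have hq2 : 2 ≤ 2 ^ n := by
    calc 2 = 2 ^ 1 := by norm_num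
      _ ≤ 2 ^ n := Nat.pow_le_pow_right (by norm_num) hn
  have hcardV : Nat.card V = 2 ^ n := by
    have h1 := Subgroup.card_eq_card_quotient_mul_card_subgroup V
    rw [← Nat.card_congr φ.toEquiv, hU, ← pow_two] at h1
    exact (Nat.pow_left_injective (by norm_num : 2 ≠ 0) h1).symm
  have hU2 : IsPGroup 2 U := IsPGroup.of_card (n := n * 2) (by rw [hU, ← pow_mul])
  have hdvd : 2 ∣ Nat.card V := by rw [hcardV]; exact dvd_pow_self 2 (by omega)
  obtain ⟨b, hbV, hb1, hbc⟩ := exists_central hU2 V hdvd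
  have htrans := transitive (2 ^ n) hq2 y hy hfp V hyV hcardV b hbV hb1
  have hpowV := pow_mem_of_inv y V hyV
  have hVc : ∀ v ∈ V, ∀ u : U, u * v = v * u := by
    intro v hv u
    by_cases hv1 : v = 1
    · subst hv1; simp
    · obtain ⟨k, rfl⟩ := htrans v hv hv1
      obtain ⟨u', rfl⟩ := (y ^ k).surjective u
      rw [← map_mul, ← map_mul, hbc]
  have hsq : ∀ u u' : U, (QuotientGroup.mk u : U ⧸ V) = QuotientGroup.mk u' → u ^ 2 = u' ^ 2 := by
    intro u u' h
    have hw : u⁻¹ * u' ∈ V := QuotientGroup.eq.mp h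
    have hu' : u' = u * (u⁻¹ * u') := by group
    have hc := hVc _ hw u
    have hww : (u⁻¹ * u') * (u⁻¹ * u') = 1 := by rw [← pow_two]; exact hVe _ hw
    rw [hu', pow_two, pow_two]
    calc u * u = u * u * ((u⁻¹ * u') * (u⁻¹ * u')) := by rw [hww, mul_one]
      _ = u * (u * (u⁻¹ * u')) * (u⁻¹ * u') := by group
      _ = u * ((u⁻¹ * u') * u) * (u⁻¹ * u') := by rw [hc]
      _ = u * (u⁻¹ * u') * (u * (u⁻¹ * u')) := by group
  have hlift : ∀ k : ℕ, ∀ (v : U) (hv : v ∈ V) (u : U), (QuotientGroup.mk u : U ⧸ V) = φ ⟨v, hv⟩ →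
      ∀ hv' : (y ^ k) v ∈ V, (QuotientGroup.mk ((y ^ k) u) : U ⧸ V) = φ ⟨(y ^ k) v, hv'⟩ := by
    intro k
    induction k with
    | zero =>
      intro v hv u h hv'
      have e : ((y ^ 0) v) = v := by simp
      have h3 : (⟨(y ^ 0) v, hv'⟩ : ↥V) = ⟨v, hv⟩ := Subtype.ext e
      rw [h3, ← h]; simp
    | succ k ih =>
      intro v hv u h hv'
      have h1 := ih v hv u h (hpowV k v hv)
      have h2 := hφ ⟨(y ^ k) v, hpowV k v hv⟩ ((y ^ k) u) h1
      have e : (y ^ (k + 1)) v = y ((y ^ k) v) := by rw [pow_succ' y, MulAut.mul_apply]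
      have eu : (y ^ (k + 1)) u = y ((y ^ k) u) := by rw [pow_succ' y, MulAut.mul_apply]
      have h3 : (⟨(y ^ (k + 1)) v, hv'⟩ : ↥V) = ⟨y ((y ^ k) v), hyV _ (hpowV k v hv)⟩ := Subtype.ext e
      rw [h3, eu]
      exact h2.symm
  obtain ⟨u0, hu0⟩ := QuotientGroup.mk_surjective (φ ⟨b, hbV⟩)
  have hkey : ∀ k : ℕ, ∀ u : U, (QuotientGroup.mk u : U ⧸ V) = φ ⟨(y ^ k) b, hpowV k b hbV⟩ →
      u ^ 2 = (y ^ k) (u0 ^ 2) := by
    intro k u h
    have h1 := hlift k b hbV u0 hu0 (hpowV k b hbV)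
    rw [hsq u ((y ^ k) u0) (h.trans h1.symm), map_pow]
  by_cases hw0 : u0 ^ 2 = 1
  · have hexp : ∀ u : U, u ^ 2 = 1 := by
      intro u
      by_cases huV : u ∈ V
      · exact hVe u huV
      · have hφv : (QuotientGroup.mk u : U ⧸ V) = φ (φ.symm (QuotientGroup.mk u)) := by
          rw [MulEquiv.apply_symm_apply]
        have hv1 : ((φ.symm (QuotientGroup.mk u) : ↥V) : U) ≠ 1 := by
          intro h
          have h5 : φ.symm (QuotientGroup.mk u) = 1 := Subtype.ext h
          rw [h5, map_one] at hφv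
          exact huV ((QuotientGroup.eq_one_iff u).mp hφv)
        obtain ⟨k, hk⟩ := htrans _ (φ.symm (QuotientGroup.mk u)).2 hv1
        have h6 : φ.symm (QuotientGroup.mk u) = ⟨(y ^ k) b, hpowV k b hbV⟩ := Subtype.ext hk.symm
        rw [h6] at hφv
        rw [hkey k u hφv, hw0, map_one]
    rw [isMulCommutative_iff]
    intro a c
    have hinv : ∀ u : U, u⁻¹ = u := fun u =>
      inv_eq_of_mul_eq_one_right (by rw [← pow_two]; exact hexp u)
    calc a * c = (a * c)⁻¹ := (hinv _).symm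
      _ = c⁻¹ * a⁻¹ := mul_inv_rev a c
      _ = c * a := by rw [hinv c, hinv a]
  · have hw0V : u0 ^ 2 ∈ V := hQe u0
    obtain ⟨k0, hk0⟩ := htrans _ hw0V hw0
    have hf : ∀ (v : ↥V) (u : U), (QuotientGroup.mk u : U ⧸ V) = φ v → u ^ 2 = (y ^ k0) (v : U) := by
      intro v u h
      by_cases hv1 : (v : U) = 1
      · have h5 : v = 1 := Subtype.ext hv1
        rw [h5, map_one] at h
        have huV : u ∈ V := (QuotientGroup.eq_one_iff u).mp h
        rw [hVe u huV, hv1, map_one]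
      · obtain ⟨k, hk⟩ := htrans v v.2 hv1
        have hv : v = ⟨(y ^ k) b, hpowV k b hbV⟩ := Subtype.ext hk.symm
        rw [hv] at h
        rw [hkey k u h, ← hk0, ← hk]
        rw [← MulAut.mul_apply, ← MulAut.mul_apply, ← pow_add, ← pow_add, add_comm]
    rw [isMulCommutative_iff]
    intro a c
    have ha : (QuotientGroup.mk a : U ⧸ V) = φ (φ.symm (QuotientGroup.mk a)) := by
      rw [MulEquiv.apply_symm_apply]
    have hc : (QuotientGroup.mk c : U ⧸ V) = φ (φ.symm (QuotientGroup.mk c)) := by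
      rw [MulEquiv.apply_symm_apply]
    have hac : (QuotientGroup.mk (a * c) : U ⧸ V) =
        φ (φ.symm (QuotientGroup.mk a) * φ.symm (QuotientGroup.mk c)) := by
      rw [map_mul, ← ha, ← hc]; rfl
    have h1 := hf _ a ha
    have h2 := hf _ c hc
    have h3 := hf _ (a * c) hac
    rw [Subgroup.coe_mul, map_mul, ← h1, ← h2] at h3
    rw [pow_two, pow_two, pow_two] at h3
    have h4 : a * (c * a) * c = a * (a * c) * c := by simpa [mul_assoc] using h3
    exact (mul_left_cancel (mul_right_cancel h4)).symm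

end Cfsg.Agent.S3158
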