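import Cfsg.Agent.Lib_helper12_Mat2b

set_option autoImplicit false

namespace Cfsg.Agent.helper12

open Matrix Polynomial

variable {F : Type*} [Field F]

/-- a nondegenerate binary quadratic form over a finite field of odd order is universal -/
theorem binary_form_universal [Fintype F] (hF : Fintype.card F % 2 = 1) (A B C s : F) (hD : B ^ 2 - 4 * A * C ≠ 0) :
    ∃ x y : F, A * x ^ 2 + B * x * y + C * y ^ 2 = s := by
  have h2 : (2 : F) ≠ 0 := by
    have : ringChar F ≠ 2 := by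
      intro h
      have := FiniteField.even_card_iff_char_two.mp h
      omega
    exact Ring.two_ne_zero this
  have key : ∀ A B C : F, A ≠ 0 → B ^ 2 - 4 * A * C ≠ 0 → ∃ x y : F, A * x ^ 2 + B * x * y + C * y ^ 2 = s := by
    intro A B C hA hD
    have hf : (Polynomial.C (1 : F) * X ^ 2 + Polynomial.C 0 * X + Polynomial.C (-(4 * A * s))).degree = 2 :=
      Polynomial.degree_quadratic one_ne_zero
    have hg : (Polynomial.C (-(B ^ 2 - 4 * A * C)) * X ^ 2 + Polynomial.C 0 * X + Polynomial.C (0 : F)).degree = 2 :=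
      Polynomial.degree_quadratic (neg_ne_zero.mpr hD)
    obtain ⟨u, y, huy⟩ := FiniteField.exists_root_sum_quadratic hf hg hF
    simp at huy
    refine ⟨(u - B * y) / (2 * A), y, ?_⟩
    field_simp
    linear_combination huy
  by_cases hA : A = 0
  · by_cases hC : C = 0
    · subst hA hC
      have hB : B ≠ 0 := by
        intro h; apply hD; rw [h]; ring
      exact ⟨1, s / B, by field_simp; ring⟩
    · obtain ⟨x, y, h⟩ := key C B A hC (by rw [mul_right_comm]; exact hD)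
      exact ⟨y, x, by linear_combination h⟩
  · exact key A B C hA hD

/-- the quadratic form v ↦ det [v, M v] -/
def qf (M : Matrix (Fin 2) (Fin 2) F) (v : Fin 2 → F) : F :=
  M 1 0 * v 0 ^ 2 + (M 1 1 - M 0 0) * v 0 * v 1 - M 0 1 * v 1 ^ 2

theorem det_cyc_eq_qf (M : Matrix (Fin 2) (Fin 2) F) (v : Fin 2 → F) : (cyc M v).det = qf M v := det_cyc M v

theorem qf_smul (M : Matrix (Fin 2) (Fin 2) F) (z : F) (v : Fin 2 → F) : qf M (z • v) = z ^ 2 * qf M v := by
  simp [qf]; ring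

theorem exists_qf_ne_zero {M : Matrix (Fin 2) (Fin 2) F} (h : ¬ IsScalar2 M) : ∃ v, qf M v ≠ 0 := by
  obtain ⟨v, hv⟩ := exists_cyc_det_ne_zero h
  exact ⟨v, by rwa [← det_cyc_eq_qf]⟩

theorem cyc_eq (M : Matrix (Fin 2) (Fin 2) F) (v : Fin 2 → F) :
    cyc M v = !![v 0, (M *ᵥ v) 0; v 1, (M *ᵥ v) 1] := by
  ext i j
  fin_cases i <;> fin_cases j <;> simp [cyc, Matrix.mulVec, dotProduct, Fin.sum_univ_two]

theorem mul_colMat (P : Matrix (Fin 2) (Fin 2) F) (a b : Fin 2 → F) :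
    P * !![a 0, b 0; a 1, b 1] = !![(P *ᵥ a) 0, (P *ᵥ b) 0; (P *ᵥ a) 1, (P *ᵥ b) 1] := by
  ext i j
  fin_cases i <;> fin_cases j <;> simp [Matrix.mul_apply, Matrix.mulVec, dotProduct, Fin.sum_univ_two]

theorem cyc_conj (P Pinv M : Matrix (Fin 2) (Fin 2) F) (hP : Pinv * P = 1) (v : Fin 2 → F) :
    cyc (P * M * Pinv) (P *ᵥ v) = P * cyc M v := by
  rw [cyc_eq, cyc_eq, mul_colMat, Matrix.mulVec_mulVec, Matrix.mulVec_mulVec, Matrix.mul_assoc, Matrix.mul_assoc, hP, Matrix.mul_one]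

theorem qf_conj_sl2 (c g : Matrix.SpecialLinearGroup (Fin 2) F) (v : Fin 2 → F) :
    qf ((c * g * c⁻¹ : Matrix.SpecialLinearGroup (Fin 2) F) : Matrix (Fin 2) (Fin 2) F) ((c : Matrix (Fin 2) (Fin 2) F) *ᵥ v)
      = qf (g : Matrix (Fin 2) (Fin 2) F) v := by
  rw [← det_cyc_eq_qf, ← det_cyc_eq_qf]
  have hP : ((c⁻¹ : Matrix.SpecialLinearGroup (Fin 2) F) : Matrix (Fin 2) (Fin 2) F) * (c : Matrix (Fin 2) (Fin 2) F) = 1 := by
    rw [← Matrix.SpecialLinearGroup.coe_mul, inv_mul_cancel]; rfl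
  rw [Matrix.SpecialLinearGroup.coe_mul, Matrix.SpecialLinearGroup.coe_mul, cyc_conj _ _ _ hP, Matrix.det_mul, c.2, one_mul]

/-- conjugacy criterion in SL2 -/
theorem sl2_isConj_of_qf {g h : Matrix.SpecialLinearGroup (Fin 2) F}
    (ht : (g : Matrix (Fin 2) (Fin 2) F).trace = (h : Matrix (Fin 2) (Fin 2) F).trace)
    {v w : Fin 2 → F} (hv : qf (g : Matrix (Fin 2) (Fin 2) F) v ≠ 0)
    (hvw : qf (g : Matrix (Fin 2) (Fin 2) F) v = qf (h : Matrix (Fin 2) (Fin 2) F) w) : IsConj g h := by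
  have hw : qf (h : Matrix (Fin 2) (Fin 2) F) w ≠ 0 := hvw ▸ hv
  rw [← det_cyc_eq_qf] at hv hw
  let p := Matrix.GeneralLinearGroup.mkOfDetNeZero _ hv
  let p' := Matrix.GeneralLinearGroup.mkOfDetNeZero _ hw
  have e1 : (g : Matrix (Fin 2) (Fin 2) F) * p = p * comp2 (g : Matrix (Fin 2) (Fin 2) F).trace 1 := by
    have := mul_cyc (g : Matrix (Fin 2) (Fin 2) F) v
    rw [g.2] at this; exact this
  have e2 : (h : Matrix (Fin 2) (Fin 2) F) * p' = p' * comp2 (g : Matrix (Fin 2) (Fin 2) F).trace 1 := by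
    have := mul_cyc (h : Matrix (Fin 2) (Fin 2) F) w
    rw [h.2, ← ht] at this; exact this
  have key := conj_of_common p p' _ _ _ e1 e2
  have hdet : ((p' * p⁻¹ : Matrix.GeneralLinearGroup (Fin 2) F) : Matrix (Fin 2) (Fin 2) F).det = 1 := by
    have h1 : Matrix.GeneralLinearGroup.det (p' * p⁻¹) = 1 := by
      rw [map_mul, map_inv, mul_inv_eq_one]
      apply Units.ext
      simp only [Matrix.GeneralLinearGroup.val_det_apply]
      change (cyc (h : Matrix (Fin 2) (Fin 2) F) w).det = (cyc (g : Matrix (Fin 2) (Fin 2) F) v).det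
      rw [det_cyc_eq_qf, det_cyc_eq_qf, hvw]
    have := congrArg Units.val h1
    simpa using this
  rw [isConj_iff]
  let x : Matrix.SpecialLinearGroup (Fin 2) F := ⟨_, hdet⟩
  refine ⟨x, ?_⟩
  rw [mul_inv_eq_iff_eq_mul]
  apply Subtype.ext
  rw [Matrix.SpecialLinearGroup.coe_mul, Matrix.SpecialLinearGroup.coe_mul]
  exact key.symm

/-- in the degenerate case the nonzero values of qf lie in one square class -/
theorem qf_mul_isSquare_of_disc_zero (h2 : (2 : F) ≠ 0) {M : Matrix (Fin 2) (Fin 2) F}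
    (hdisc : (M 1 1 - M 0 0) ^ 2 + 4 * M 0 1 * M 1 0 = 0) (v w : Fin 2 → F) :
    IsSquare (qf M v * qf M w) := by
  have h4 : (4 : F) ≠ 0 := by
    have : (4 : F) = 2 * 2 := by norm_num
    rw [this]; exact mul_ne_zero h2 h2
  by_cases hc : M 1 0 = 0
  · have he : M 1 1 - M 0 0 = 0 := by
      rw [hc] at hdisc
      simpa using hdisc
    refine ⟨M 0 1 * v 1 * w 1, ?_⟩
    simp only [qf, hc, he]; ring
  · have hv : 4 * M 1 0 * qf M v = (2 * M 1 0 * v 0 + (M 1 1 - M 0 0) * v 1) ^ 2 := by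
      simp only [qf]; linear_combination (-(v 1 ^ 2)) * hdisc
    have hw : 4 * M 1 0 * qf M w = (2 * M 1 0 * w 0 + (M 1 1 - M 0 0) * w 1) ^ 2 := by
      simp only [qf]; linear_combination (-(w 1 ^ 2)) * hdisc
    refine ⟨(2 * M 1 0 * v 0 + (M 1 1 - M 0 0) * v 1) * (2 * M 1 0 * w 0 + (M 1 1 - M 0 0) * w 1) / (4 * M 1 0), ?_⟩
    have h4c : 4 * M 1 0 ≠ 0 := mul_ne_zero h4 hc
    field_simp
    linear_combination (4 * M 1 0 * qf M w) * hv + (2 * M 1 0 * v 0 + (M 1 1 - M 0 0) * v 1) ^ 2 * hw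

/-- M represents a nonzero square -/
def SqClass (M : Matrix (Fin 2) (Fin 2) F) : Prop := ∃ v, qf M v ≠ 0 ∧ IsSquare (qf M v)

theorem sqClass_conj_sl2 (c g : Matrix.SpecialLinearGroup (Fin 2) F) :
    SqClass ((c * g * c⁻¹ : Matrix.SpecialLinearGroup (Fin 2) F) : Matrix (Fin 2) (Fin 2) F) ↔ SqClass (g : Matrix (Fin 2) (Fin 2) F) := by
  have key : ∀ c g : Matrix.SpecialLinearGroup (Fin 2) F, SqClass (g : Matrix (Fin 2) (Fin 2) F) →
      SqClass ((c * g * c⁻¹ : Matrix.SpecialLinearGroup (Fin 2) F) : Matrix (Fin 2) (Fin 2) F) := by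
    rintro c g ⟨v, h1, h2⟩
    refine ⟨(c : Matrix (Fin 2) (Fin 2) F) *ᵥ v, ?_, ?_⟩ <;> rw [qf_conj_sl2] <;> assumption
  constructor
  · intro h
    have := key c⁻¹ _ h
    have e : c⁻¹ * (c * g * c⁻¹) * c⁻¹⁻¹ = g := by group
    rwa [e] at this
  · exact key c g

theorem sl2_disc (g : Matrix.SpecialLinearGroup (Fin 2) F) :
    ((g : Matrix (Fin 2) (Fin 2) F) 1 1 - (g : Matrix (Fin 2) (Fin 2) F) 0 0) ^ 2 + 4 * (g : Matrix (Fin 2) (Fin 2) F) 0 1 * (g : Matrix (Fin 2) (Fin 2) F) 1 0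
      = (g : Matrix (Fin 2) (Fin 2) F).trace ^ 2 - 4 := by
  have := g.2
  rw [Matrix.det_fin_two] at this
  rw [Matrix.trace_fin_two]
  linear_combination (-4 : F) * this

theorem two_ne_zero_of_card_odd [Fintype F] (hF : Fintype.card F % 2 = 1) : (2 : F) ≠ 0 := by
  have : ringChar F ≠ 2 := by
    intro h
    have := FiniteField.even_card_iff_char_two.mp h
    omega
  exact Ring.two_ne_zero this

theorem sl2_isConj_of_disc_ne [Fintype F] (hF : Fintype.card F % 2 = 1) {g h : Matrix.SpecialLinearGroup (Fin 2) F}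
    (ht : (g : Matrix (Fin 2) (Fin 2) F).trace = (h : Matrix (Fin 2) (Fin 2) F).trace)
    (hd : (g : Matrix (Fin 2) (Fin 2) F).trace ^ 2 ≠ 4) : IsConj g h := by
  have key : ∀ x : Matrix.SpecialLinearGroup (Fin 2) F, (x : Matrix (Fin 2) (Fin 2) F).trace ^ 2 ≠ 4 →
      ∃ v, qf (x : Matrix (Fin 2) (Fin 2) F) v = 1 := by
    intro x hx
    obtain ⟨a, b, hab⟩ := binary_form_universal hF ((x : Matrix (Fin 2) (Fin 2) F) 1 0)
      ((x : Matrix (Fin 2) (Fin 2) F) 1 1 - (x : Matrix (Fin 2) (Fin 2) F) 0 0) (-(x : Matrix (Fin 2) (Fin 2) F) 0 1) 1 (by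
        have := sl2_disc x
        intro h0
        apply hx
        linear_combination h0 - this)
    refine ⟨![a, b], ?_⟩
    simp only [qf, Matrix.cons_val_zero, Matrix.cons_val_one]
    linear_combination hab
  obtain ⟨v, hv⟩ := key g hd
  obtain ⟨w, hw⟩ := key h (ht ▸ hd)
  exact sl2_isConj_of_qf ht (by rw [hv]; exact one_ne_zero) (hv.trans hw.symm)

theorem isSquare_of_mul_isSquare {a b : F} (ha : a ≠ 0) (hsq : IsSquare a) (hab : IsSquare (a * b)) : IsSquare b := by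
  obtain ⟨x, hx⟩ := hsq
  obtain ⟨y, hy⟩ := hab
  have hx0 : x ≠ 0 := by rintro rfl; simp at hx; exact ha hx
  refine ⟨y / x, ?_⟩
  field_simp
  rw [hx] at hy
  linear_combination hy

theorem sl2_isConj_of_disc_eq [Fintype F] (hF : Fintype.card F % 2 = 1) {g h : Matrix.SpecialLinearGroup (Fin 2) F}
    (hg : ¬ IsScalar2 (g : Matrix (Fin 2) (Fin 2) F)) (hh : ¬ IsScalar2 (h : Matrix (Fin 2) (Fin 2) F))
    (ht : (g : Matrix (Fin 2) (Fin 2) F).trace = (h : Matrix (Fin 2) (Fin 2) F).trace)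
    (hd : (g : Matrix (Fin 2) (Fin 2) F).trace ^ 2 = 4)
    (hs : SqClass (g : Matrix (Fin 2) (Fin 2) F) ↔ SqClass (h : Matrix (Fin 2) (Fin 2) F)) : IsConj g h := by
  classical
  have h2 := two_ne_zero_of_card_odd hF
  obtain ⟨v, hv⟩ := exists_qf_ne_zero hg
  obtain ⟨w, hw⟩ := exists_qf_ne_zero hh
  have dg : ((g : Matrix (Fin 2) (Fin 2) F) 1 1 - (g : Matrix (Fin 2) (Fin 2) F) 0 0) ^ 2 + 4 * (g : Matrix (Fin 2) (Fin 2) F) 0 1 * (g : Matrix (Fin 2) (Fin 2) F) 1 0 = 0 := by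
    rw [sl2_disc, hd]; ring
  have dh : ((h : Matrix (Fin 2) (Fin 2) F) 1 1 - (h : Matrix (Fin 2) (Fin 2) F) 0 0) ^ 2 + 4 * (h : Matrix (Fin 2) (Fin 2) F) 0 1 * (h : Matrix (Fin 2) (Fin 2) F) 1 0 = 0 := by
    rw [sl2_disc, ← ht, hd]; ring
  have eg : IsSquare (qf (g : Matrix (Fin 2) (Fin 2) F) v) ↔ SqClass (g : Matrix (Fin 2) (Fin 2) F) := by
    constructor
    · intro h; exact ⟨v, hv, h⟩
    · rintro ⟨v', h1, h2'⟩
      exact isSquare_of_mul_isSquare h1 h2' (qf_mul_isSquare_of_disc_zero h2 dg v' v)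
  have eh : IsSquare (qf (h : Matrix (Fin 2) (Fin 2) F) w) ↔ SqClass (h : Matrix (Fin 2) (Fin 2) F) := by
    constructor
    · intro h; exact ⟨w, hw, h⟩
    · rintro ⟨v', h1, h2'⟩
      exact isSquare_of_mul_isSquare h1 h2' (qf_mul_isSquare_of_disc_zero h2 dh v' w)
  have e : IsSquare (qf (g : Matrix (Fin 2) (Fin 2) F) v) ↔ IsSquare (qf (h : Matrix (Fin 2) (Fin 2) F) w) := by
    rw [eg, eh, hs]
  -- find z with qf g v = z^2 * qf h w
  have hz : ∃ z : F, qf (g : Matrix (Fin 2) (Fin 2) F) v = z ^ 2 * qf (h : Matrix (Fin 2) (Fin 2) F) w := by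
    have hprod : IsSquare (qf (g : Matrix (Fin 2) (Fin 2) F) v * qf (h : Matrix (Fin 2) (Fin 2) F) w) := by
      by_cases hsq : IsSquare (qf (g : Matrix (Fin 2) (Fin 2) F) v)
      · exact hsq.mul (e.mp hsq)
      · have hsq' : ¬ IsSquare (qf (h : Matrix (Fin 2) (Fin 2) F) w) := fun h' => hsq (e.mpr h')
        rw [← quadraticChar_one_iff_isSquare (mul_ne_zero hv hw), map_mul,
          quadraticChar_neg_one_iff_not_isSquare.mpr hsq, quadraticChar_neg_one_iff_not_isSquare.mpr hsq']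
        norm_num
    obtain ⟨y, hy⟩ := hprod
    refine ⟨y / qf (h : Matrix (Fin 2) (Fin 2) F) w, ?_⟩
    field_simp
    rw [pow_two, ← hy]
  obtain ⟨z, hz⟩ := hz
  exact sl2_isConj_of_qf ht hv (by rw [qf_smul, hz])

end Cfsg.Agent.helper12
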