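import Cfsg.Statements.S3209
import Mathlib
import Cfsg.Agent.Lib_helper12_Mat2c

set_option autoImplicit false
open Cfsg

namespace Cfsg.Agent.S3209

section mat
variable {F : Type*} [Field F]

theorem sq_entries (M : Matrix (Fin 2) (Fin 2) F) :
    (M * M) 0 0 = M 0 0 * M 0 0 + M 0 1 * M 1 0 ∧ (M * M) 0 1 = M 0 0 * M 0 1 + M 0 1 * M 1 1 ∧
    (M * M) 1 0 = M 1 0 * M 0 0 + M 1 1 * M 1 0 ∧ (M * M) 1 1 = M 1 0 * M 0 1 + M 1 1 * M 1 1 := by
  simp [Matrix.mul_apply, Fin.sum_univ_two]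

/-- A determinant one matrix squaring to `-1` has trace zero (characteristic not two). -/
theorem trace_eq_zero_of_sq (h2 : (2 : F) ≠ 0) (M : Matrix (Fin 2) (Fin 2) F) (hdet : M.det = 1)
    (hsq : M * M = -1) : M.trace = 0 := by
  obtain ⟨e00, e01, e10, e11⟩ := sq_entries M
  rw [hsq] at e00 e01 e10 e11
  simp at e00 e01 e10 e11
  rw [Matrix.det_fin_two] at hdet
  rw [Matrix.trace_fin_two]
  by_contra ht
  have hb : M 0 1 = 0 := by
    have : M 0 1 * (M 0 0 + M 1 1) = 0 := by linear_combination -e01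
    rcases mul_eq_zero.mp this with h | h
    · exact h
    · exact absurd h ht
  have hc : M 1 0 = 0 := by
    have : M 1 0 * (M 0 0 + M 1 1) = 0 := by linear_combination -e10
    rcases mul_eq_zero.mp this with h | h
    · exact h
    · exact absurd h ht
  rw [hb, hc] at e00 e11 hdet
  have had : M 0 0 = M 1 1 := by
    have : (M 0 0 - M 1 1) * (M 0 0 + M 1 1) = 0 := by linear_combination -e00 + e11
    rcases mul_eq_zero.mp this with h | h
    · exact sub_eq_zero.mp h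
    · exact absurd h ht
  rw [had] at e00 hdet
  apply h2
  linear_combination -hdet - e00

/-- A determinant one matrix squaring to `1` is `±1` (characteristic not two). -/
theorem eq_one_or_neg_one_of_sq (h2 : (2 : F) ≠ 0) (M : Matrix (Fin 2) (Fin 2) F) (hdet : M.det = 1)
    (hsq : M * M = 1) : M = 1 ∨ M = -1 := by
  obtain ⟨e00, e01, e10, e11⟩ := sq_entries M
  rw [hsq] at e00 e01 e10 e11
  simp at e00 e01 e10 e11
  rw [Matrix.det_fin_two] at hdet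
  have ht : M 0 0 + M 1 1 ≠ 0 := by
    intro ht
    have hd : M 1 1 = - M 0 0 := by linear_combination ht
    rw [hd] at hdet
    apply h2
    linear_combination -hdet + e00
  have hb : M 0 1 = 0 := by
    have : M 0 1 * (M 0 0 + M 1 1) = 0 := by linear_combination -e01
    rcases mul_eq_zero.mp this with h | h
    · exact h
    · exact absurd h ht
  have hc : M 1 0 = 0 := by
    have : M 1 0 * (M 0 0 + M 1 1) = 0 := by linear_combination -e10
    rcases mul_eq_zero.mp this with h | h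
    · exact h
    · exact absurd h ht
  rw [hb, hc] at e00 e11 hdet
  have had : M 0 0 = M 1 1 := by
    have : (M 0 0 - M 1 1) * (M 0 0 + M 1 1) = 0 := by linear_combination -e00 + e11
    rcases mul_eq_zero.mp this with h | h
    · exact sub_eq_zero.mp h
    · exact absurd h ht
  have ha : (M 0 0 - 1) * (M 0 0 + 1) = 0 := by linear_combination -e00
  rcases mul_eq_zero.mp ha with h | h
  · left
    have h1 : M 0 0 = 1 := sub_eq_zero.mp h
    ext i j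
    fin_cases i <;> fin_cases j <;> simp [hb, hc, h1, ← had]
  · right
    have h1 : M 0 0 = -1 := by linear_combination h
    ext i j
    fin_cases i <;> fin_cases j <;> simp [hb, hc, h1, ← had]

/-- The standard element of order four. -/
def wmat (F : Type*) [Field F] : Matrix.SpecialLinearGroup (Fin 2) F :=
  ⟨!![0, -1; 1, 0], by simp [Matrix.det_fin_two]⟩

theorem wmat_sq : ((wmat F : Matrix.SpecialLinearGroup (Fin 2) F) : Matrix (Fin 2) (Fin 2) F) *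
    ((wmat F : Matrix.SpecialLinearGroup (Fin 2) F) : Matrix (Fin 2) (Fin 2) F) = -1 := by
  ext i j
  fin_cases i <;> fin_cases j <;> simp [wmat, Matrix.mul_apply, Fin.sum_univ_two]

end mat

theorem sl2_facts {G : Type*} [Group G] {F : Type*} [Field F] [Fintype F] (hF : Odd (Fintype.card F))
    (L : Subgroup G) (e : ↥L ≃* Matrix.SpecialLinearGroup (Fin 2) F) (j : G) (hj : orderOf j = 2)
    (hjL : j ∈ L) :
    (∀ l ∈ L, l * l = 1 → l = 1 ∨ l = j) ∧ (∃ a ∈ L, a * a = j) ∧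
    (∀ a ∈ L, ∀ l ∈ L, a * a = j → l * l = j → ∃ g ∈ L, g * a * g⁻¹ = l) := by
  have hF' : Fintype.card F % 2 = 1 := Nat.odd_iff.mp hF
  have h2 : (2 : F) ≠ 0 := helper12.two_ne_zero_of_card_odd hF'
  have hjj : j * j = 1 := by rw [← pow_two, ← hj]; exact pow_orderOf_eq_one j
  have hj1 : j ≠ 1 := by
    intro h; rw [h, orderOf_one] at hj; omega
  -- image of j
  have hz : ((e ⟨j, hjL⟩ : Matrix.SpecialLinearGroup (Fin 2) F) : Matrix (Fin 2) (Fin 2) F) = -1 := by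
    have h1 : e ⟨j, hjL⟩ * e ⟨j, hjL⟩ = 1 := by
      rw [← map_mul]
      have : (⟨j, hjL⟩ : ↥L) * ⟨j, hjL⟩ = 1 := Subtype.ext hjj
      rw [this, map_one]
    have h1' := congrArg Subtype.val h1
    rw [Matrix.SpecialLinearGroup.coe_mul] at h1'
    rcases eq_one_or_neg_one_of_sq h2 _ (e ⟨j, hjL⟩).2 h1' with h | h
    · exfalso
      have h3 : e ⟨j, hjL⟩ = 1 := Subtype.ext h
      have h4 : (⟨j, hjL⟩ : ↥L) = 1 := by
        apply e.injective; rw [h3, map_one]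
      exact hj1 (congrArg Subtype.val h4)
    · exact h
  have hsqneg : ∀ l : ↥L, (l : G) * (l : G) = j →
      ((e l : Matrix.SpecialLinearGroup (Fin 2) F) : Matrix (Fin 2) (Fin 2) F) *
        ((e l : Matrix.SpecialLinearGroup (Fin 2) F) : Matrix (Fin 2) (Fin 2) F) = -1 := by
    intro l hl
    have h1 : l * l = ⟨j, hjL⟩ := Subtype.ext hl
    rw [← Matrix.SpecialLinearGroup.coe_mul, ← map_mul, h1, hz]
  refine ⟨?_, ?_, ?_⟩
  · intro l hl hll
    have h1 : e ⟨l, hl⟩ * e ⟨l, hl⟩ = 1 := by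
      rw [← map_mul]
      have : (⟨l, hl⟩ : ↥L) * ⟨l, hl⟩ = 1 := Subtype.ext hll
      rw [this, map_one]
    have h1' := congrArg Subtype.val h1
    rw [Matrix.SpecialLinearGroup.coe_mul] at h1'
    rcases eq_one_or_neg_one_of_sq h2 _ (e ⟨l, hl⟩).2 h1' with h | h
    · left
      have h3 : e ⟨l, hl⟩ = 1 := Subtype.ext h
      have h4 : (⟨l, hl⟩ : ↥L) = 1 := by
        apply e.injective; rw [h3, map_one]
      exact congrArg Subtype.val h4
    · right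
      have h3 : e ⟨l, hl⟩ = e ⟨j, hjL⟩ := Subtype.ext (h.trans hz.symm)
      exact congrArg Subtype.val (e.injective h3)
  · refine ⟨(e.symm (wmat F) : ↥L), (e.symm (wmat F)).2, ?_⟩
    have h3 : e (e.symm (wmat F) * e.symm (wmat F)) = e ⟨j, hjL⟩ := by
      rw [map_mul, MulEquiv.apply_symm_apply]
      apply Subtype.ext
      rw [Matrix.SpecialLinearGroup.coe_mul, wmat_sq, hz]
    exact congrArg Subtype.val (e.injective h3)
  · intro a ha l hl haa hll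
    have hA := hsqneg ⟨a, ha⟩ haa
    have hB := hsqneg ⟨l, hl⟩ hll
    have tA := trace_eq_zero_of_sq h2 _ (e ⟨a, ha⟩).2 hA
    have tB := trace_eq_zero_of_sq h2 _ (e ⟨l, hl⟩).2 hB
    have hconj : IsConj (e ⟨a, ha⟩) (e ⟨l, hl⟩) := by
      apply helper12.sl2_isConj_of_disc_ne hF' (by rw [tA, tB])
      rw [tA]
      intro h
      apply h2
      have h4 : (4 : F) = 0 := by rw [← h]; ring
      have h5 : (2 : F) * 2 = 0 := by rw [← h4]; norm_num
      rcases mul_eq_zero.mp h5 with h6 | h6 <;> exact h6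
    obtain ⟨c, hc⟩ := isConj_iff.mp hconj
    refine ⟨(e.symm c : ↥L), (e.symm c).2, ?_⟩
    have h3 : e (e.symm c * ⟨a, ha⟩ * (e.symm c)⁻¹) = e ⟨l, hl⟩ := by
      rw [map_mul, map_mul, map_inv, MulEquiv.apply_symm_apply, hc]
    exact congrArg Subtype.val (e.injective h3)

theorem mem_sup_comm {G : Type*} [Group G] (L₁ L₂ : Subgroup G)
    (hc : ∀ x ∈ L₁, ∀ y ∈ L₂, x * y = y * x) (y : G) (hy : y ∈ L₁ ⊔ L₂) :
    ∃ l₁ ∈ L₁, ∃ l₂ ∈ L₂, y = l₁ * l₂ := by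
  let K : Subgroup G :=
    { carrier := {y | ∃ l₁ ∈ L₁, ∃ l₂ ∈ L₂, y = l₁ * l₂}
      one_mem' := ⟨1, L₁.one_mem, 1, L₂.one_mem, by simp⟩
      mul_mem' := by
        rintro _ _ ⟨a₁, ha₁, a₂, ha₂, rfl⟩ ⟨b₁, hb₁, b₂, hb₂, rfl⟩
        refine ⟨a₁ * b₁, L₁.mul_mem ha₁ hb₁, a₂ * b₂, L₂.mul_mem ha₂ hb₂, ?_⟩
        have := hc b₁ hb₁ a₂ ha₂
        calc a₁ * a₂ * (b₁ * b₂) = a₁ * (a₂ * b₁) * b₂ := by group
          _ = a₁ * (b₁ * a₂) * b₂ := by rw [this]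
          _ = a₁ * b₁ * (a₂ * b₂) := by group
      inv_mem' := by
        rintro _ ⟨a₁, ha₁, a₂, ha₂, rfl⟩
        refine ⟨a₁⁻¹, L₁.inv_mem ha₁, a₂⁻¹, L₂.inv_mem ha₂, ?_⟩
        rw [mul_inv_rev]
        exact (hc a₁⁻¹ (L₁.inv_mem ha₁) a₂⁻¹ (L₂.inv_mem ha₂)).symm }
  have h1 : L₁ ≤ K := fun l hl => ⟨l, hl, 1, L₂.one_mem, by simp⟩
  have h2 : L₂ ≤ K := fun l hl => ⟨1, L₁.one_mem, l, hl, by simp⟩
  exact sup_le h1 h2 hy

/-- Let L₁ ≅ SL₂(q₁) and L₂ ≅ SL₂(q₂), q₁ and q₂ odd, be elementwise-commuting subgroups of a finite group meeting in ⟨j⟩ for an involution j. Then L₁L₂ has exactly two conjugacy classes of involutions: the central involution j, and one further class (there is an involution x ≠ j in L₁L₂, and every involution of L₁L₂ other than j is conjugate to x by an element of L₁L₂). -/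
theorem result {G : Type*} [Group G] [Finite G]
    {F₁ : Type*} [Field F₁] [Fintype F₁] {F₂ : Type*} [Field F₂] [Fintype F₂]
    (hF₁ : Odd (Fintype.card F₁)) (hF₂ : Odd (Fintype.card F₂)) (L₁ L₂ : Subgroup G)
    (e₁ : ↥L₁ ≃* Matrix.SpecialLinearGroup (Fin 2) F₁) (e₂ : ↥L₂ ≃* Matrix.SpecialLinearGroup (Fin 2) F₂)
    (hc : ∀ x ∈ L₁, ∀ y ∈ L₂, x * y = y * x) (j : G) (hj : orderOf j = 2) (hm : L₁ ⊓ L₂ = Subgroup.zpowers j) :
    ∃ x ∈ L₁ ⊔ L₂, orderOf x = 2 ∧ x ≠ j ∧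
      ∀ y ∈ L₁ ⊔ L₂, orderOf y = 2 → y = j ∨ ∃ g ∈ L₁ ⊔ L₂, g * x * g⁻¹ = y := by
  have hjm : j ∈ L₁ ⊓ L₂ := by rw [hm]; exact Subgroup.mem_zpowers j
  have hj1 : j ∈ L₁ := hjm.1
  have hj2 : j ∈ L₂ := hjm.2
  have hjj : j * j = 1 := by rw [← pow_two, ← hj]; exact pow_orderOf_eq_one j
  have hjne : j ≠ 1 := by
    intro h; rw [h, orderOf_one] at hj; omega
  have hjinv : j⁻¹ = j := inv_eq_of_mul_eq_one_right hjj
  obtain ⟨f1a, ⟨a₁, ha₁, haa₁⟩, f1c⟩ := sl2_facts hF₁ L₁ e₁ j hj hj1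
  obtain ⟨f2a, ⟨a₂, ha₂, haa₂⟩, f2c⟩ := sl2_facts hF₂ L₂ e₂ j hj hj2
  -- elements of the intersection
  have hint : ∀ a ∈ L₁ ⊓ L₂, a = 1 ∨ a = j := by
    intro a ha
    rw [hm] at ha
    obtain ⟨k, rfl⟩ := Subgroup.mem_zpowers_iff.mp ha
    rcases Int.emod_two_eq_zero_or_one k with h | h
    · left
      have : k = 2 * (k / 2) := by omega
      rw [this, zpow_mul, zpow_two, hjj, one_zpow]
    · right
      have : k = 2 * (k / 2) + 1 := by omega
      rw [this, zpow_add, zpow_mul, zpow_two, hjj, one_zpow, one_mul, zpow_one]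
  have hx2 : a₁ * a₂ * (a₁ * a₂) = 1 := by
    have h1 := hc a₁ ha₁ a₂ ha₂
    calc a₁ * a₂ * (a₁ * a₂) = a₁ * (a₂ * a₁) * a₂ := by group
      _ = a₁ * (a₁ * a₂) * a₂ := by rw [h1]
      _ = (a₁ * a₁) * (a₂ * a₂) := by group
      _ = 1 := by rw [haa₁, haa₂, hjj]
  have hxnot : a₁ * a₂ ≠ 1 ∧ a₁ * a₂ ≠ j := by
    have key : a₁ * a₂ ∈ L₂ → False := by
      intro h
      have h1 : a₁ ∈ L₂ := by
        have := L₂.mul_mem h (L₂.inv_mem ha₂)
        simpa using this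
      rcases hint a₁ ⟨ha₁, h1⟩ with h2 | h2
      · rw [h2, one_mul] at haa₁; exact hjne haa₁.symm
      · rw [h2, hjj] at haa₁; exact hjne haa₁.symm
    constructor
    · intro h; apply key; rw [h]; exact L₂.one_mem
    · intro h; apply key; rw [h]; exact hj2
  refine ⟨a₁ * a₂, mul_mem (Subgroup.mem_sup_left ha₁) (Subgroup.mem_sup_right ha₂), ?_, hxnot.2, ?_⟩
  · exact orderOf_eq_prime (by rw [pow_two]; exact hx2) hxnot.1
  · intro y hy hyo
    obtain ⟨l₁, hl₁, l₂, hl₂, rfl⟩ := mem_sup_comm L₁ L₂ hc y hy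
    have hy2 : l₁ * l₂ * (l₁ * l₂) = 1 := by rw [← pow_two, ← hyo]; exact pow_orderOf_eq_one _
    have hy1 : l₁ * l₂ ≠ 1 := by
      intro h; rw [h, orderOf_one] at hyo; omega
    have hcomm := hc l₁ hl₁ l₂ hl₂
    have hsq : (l₁ * l₁) * (l₂ * l₂) = 1 := by
      calc (l₁ * l₁) * (l₂ * l₂) = l₁ * (l₁ * l₂) * l₂ := by group
        _ = l₁ * (l₂ * l₁) * l₂ := by rw [hcomm]
        _ = l₁ * l₂ * (l₁ * l₂) := by group
        _ = 1 := hy2
    have h11 : l₁ * l₁ = (l₂ * l₂)⁻¹ := eq_inv_of_mul_eq_one_left hsq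
    have hmem : l₁ * l₁ ∈ L₁ ⊓ L₂ :=
      ⟨L₁.mul_mem hl₁ hl₁, by rw [h11]; exact L₂.inv_mem (L₂.mul_mem hl₂ hl₂)⟩
    rcases hint _ hmem with h | h
    · left
      have h22 : l₂ * l₂ = 1 := by rw [h, one_mul] at hsq; exact hsq
      rcases f1a l₁ hl₁ h with r1 | r1 <;> rcases f2a l₂ hl₂ h22 with r2 | r2
      · exfalso; apply hy1; rw [r1, r2, one_mul]
      · rw [r1, r2, one_mul]
      · rw [r1, r2, mul_one]
      · exfalso; apply hy1; rw [r1, r2, hjj]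
    · right
      have h22 : l₂ * l₂ = j := by
        rw [h] at hsq
        have : l₂ * l₂ = j⁻¹ := eq_inv_of_mul_eq_one_right hsq
        rw [this, hjinv]
      obtain ⟨g₁, hg₁, hg₁a⟩ := f1c a₁ ha₁ l₁ hl₁ haa₁ h
      obtain ⟨g₂, hg₂, hg₂a⟩ := f2c a₂ ha₂ l₂ hl₂ haa₂ h22
      refine ⟨g₁ * g₂, mul_mem (Subgroup.mem_sup_left hg₁) (Subgroup.mem_sup_right hg₂), ?_⟩
      have c1 : g₂ * a₁ = a₁ * g₂ := (hc a₁ ha₁ g₂ hg₂).symm
      have c2 : l₂ * g₁⁻¹ = g₁⁻¹ * l₂ := (hc g₁⁻¹ (L₁.inv_mem hg₁) l₂ hl₂).symm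
      calc g₁ * g₂ * (a₁ * a₂) * (g₁ * g₂)⁻¹ = g₁ * (g₂ * a₁) * a₂ * g₂⁻¹ * g₁⁻¹ := by group
        _ = g₁ * (a₁ * g₂) * a₂ * g₂⁻¹ * g₁⁻¹ := by rw [c1]
        _ = g₁ * a₁ * (g₂ * a₂ * g₂⁻¹) * g₁⁻¹ := by group
        _ = g₁ * a₁ * (l₂ * g₁⁻¹) := by rw [hg₂a]; group
        _ = g₁ * a₁ * (g₁⁻¹ * l₂) := by rw [c2]
        _ = (g₁ * a₁ * g₁⁻¹) * l₂ := by group
        _ = l₁ * l₂ := by rw [hg₁a]

end Cfsg.Agent.S3209
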