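import Mathlib
import Cfsg.Agent.Lib_helper7_Fitting

set_option autoImplicit false
open Cfsg
open scoped commutatorElement Pointwise

namespace Cfsg.Agent.helper7

variable {G : Type*} [Group G]

/-- `F*(K)` as a subgroup of `G`. -/
def fstarOf (K : Subgroup G) : Subgroup G := layerOf K ⊔ fitOf K

theorem fstarOf_le (K : Subgroup G) : fstarOf K ≤ K := sup_le (layerOf_le K) (fitOf_le K)

theorem normalizer_le_normalizer_sup {A B : Subgroup G} :
    Subgroup.normalizer (A : Set G) ⊓ Subgroup.normalizer (B : Set G) ≤
      Subgroup.normalizer ((A ⊔ B : Subgroup G) : Set G) := by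
  intro g hg
  apply mem_normalizer_of_cj_eq
  unfold cj
  rw [Subgroup.map_sup]
  have h1 := cj_eq_of_mem_normalizer hg.1
  have h2 := cj_eq_of_mem_normalizer hg.2
  unfold cj at h1 h2
  rw [h1, h2]

theorem normalizer_le_normalizer_fstarOf (K : Subgroup G) :
    Subgroup.normalizer (K : Set G) ≤ Subgroup.normalizer ((fstarOf K : Subgroup G) : Set G) :=
  (le_inf (normalizer_le_normalizer_layerOf K) (normalizer_le_normalizer_fitOf K)).trans
    normalizer_le_normalizer_sup

theorem fstarOf_normal (K : Subgroup G) :
    K ≤ Subgroup.normalizer ((fstarOf K : Subgroup G) : Set G) :=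
  Subgroup.le_normalizer.trans (normalizer_le_normalizer_fstarOf K)

theorem generalizedFittingSubgroup_eq :
    Cfsg.generalizedFittingSubgroup G = fstarOf (⊤ : Subgroup G) := by
  unfold Cfsg.generalizedFittingSubgroup fstarOf
  rw [layer_eq_layerOf, fittingSubgroup_eq]

theorem map_generalizedFittingSubgroup_eq (K : Subgroup G) :
    (Cfsg.generalizedFittingSubgroup ↥K).map K.subtype = fstarOf K := by
  unfold Cfsg.generalizedFittingSubgroup fstarOf
  rw [Subgroup.map_sup, map_layer_eq_layerOf, map_fittingSubgroup_eq]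

theorem fitOf_sn (K : Subgroup G) : SN (fitOf K) K := SN.of_normal (fitOf_le K) (fitOf_normal K)

theorem fstarOf_sn (K : Subgroup G) : SN (fstarOf K) K :=
  SN.of_normal (fstarOf_le K) (fstarOf_normal K)

/-- Components centralize the Fitting subgroup. -/
theorem Comp.comm_fitOf [Finite G] {L K : Subgroup G} (h : Comp L K) : ⁅L, fitOf K⁆ = ⊥ := by
  haveI := fitOf_nilpotent K
  exact h.comm_solvable (fitOf_sn K) inferInstance

theorem layerOf_comm_fitOf [Finite G] (K : Subgroup G) : ⁅layerOf K, fitOf K⁆ = ⊥ := by
  rw [Subgroup.commutator_eq_bot_iff_le_centralizer]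
  apply sSup_le
  intro L hL
  exact Subgroup.commutator_eq_bot_iff_le_centralizer.1 hL.comm_fitOf

theorem nilpotent_of_comm_le_centralizer {X : Subgroup G}
    (h : ⁅X, X⁆ ≤ Subgroup.centralizer (X : Set G)) : Group.IsNilpotent ↥X := by
  apply Subgroup.isNilpotent_of_lowerCentralSeries_eq_bot (n := 2)
  rw [Subgroup.lowerCentralSeries_succ, Subgroup.lowerCentralSeries_succ,
    Subgroup.lowerCentralSeries_zero]
  exact Subgroup.commutator_eq_bot_iff_le_centralizer.2 h

theorem comm_normal_self {X : Subgroup G} :
    X ≤ Subgroup.normalizer ((⁅X, X⁆ : Subgroup G) : Set G) := by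
  intro g hg
  apply mem_normalizer_of_cj_eq
  rw [cj_commutator, cj_eq_of_mem_normalizer (Subgroup.le_normalizer hg)]

/-- The generalized Fitting subgroup contains its centralizer. -/
theorem centralizer_fstarOf_le_aux [Finite G] (K : Subgroup G) : ∀ (n : ℕ) (X : Subgroup G),
    Nat.card X = n → SN X K → X ≤ Subgroup.centralizer (fstarOf K : Set G) → X ≤ fstarOf K := by
  intro n
  induction n using Nat.strong_induction_on with
  | _ n ih =>
  intro X hn hX hXC
  -- proper normal subgroups of `X` are central in `X`
  have key : ∀ N : Subgroup G, N ≤ X → X ≤ Subgroup.normalizer (N : Set G) → N ≠ X →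
      N ≤ Subgroup.centralizer (X : Set G) := by
    intro N hNX hn' hne
    have h1 : N ≤ fstarOf K :=
      ih (Nat.card N) (hn ▸ card_lt_of_lt hNX hne) N rfl ((SN.of_normal hNX hn').trans hX)
        (hNX.trans hXC)
    intro y hy
    rw [Subgroup.mem_centralizer_iff]
    intro x hx
    have := hXC hx
    rw [Subgroup.mem_centralizer_iff] at this
    exact (this y (h1 hy)).symm
  by_cases hperf : ⁅X, X⁆ = X
  · by_cases hbot : X = ⊥
    · rw [hbot]; exact bot_le
    · have hqs : QS X := by
        refine ⟨hperf, hbot, ?_⟩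
        intro N hNX hn'
        by_cases hne : N = X
        · left; exact hne
        · right; exact key N hNX hn' hne
      exact (comp_le_layerOf (K := K) ⟨hX, hqs⟩).trans le_sup_left
  · have h1 : ⁅X, X⁆ ≤ Subgroup.centralizer (X : Set G) :=
      key _ (Subgroup.commutator_le_self X) comm_normal_self hperf
    have h2 : Group.IsNilpotent ↥X := nilpotent_of_comm_le_centralizer h1
    exact (nilpotent_sn_le_fitOf hX h2).trans le_sup_right

theorem normalizer_le_normalizer_centralizer (H : Subgroup G) :
    Subgroup.normalizer (H : Set G) ≤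
      Subgroup.normalizer ((Subgroup.centralizer (H : Set G) : Subgroup G) : Set G) := by
  intro g hg
  apply mem_normalizer_of_cj_eq
  rw [cj_centralizer, cj_eq_of_mem_normalizer hg]

theorem centralizer_fstarOf_le [Finite G] (K : Subgroup G) :
    K ⊓ Subgroup.centralizer (fstarOf K : Set G) ≤ fstarOf K := by
  apply centralizer_fstarOf_le_aux K _ _ rfl _ inf_le_right
  apply SN.of_normal inf_le_left
  intro k hk
  have h1 : k ∈ Subgroup.normalizer (K : Set G) := Subgroup.le_normalizer hk
  have h2 : k ∈ Subgroup.normalizer ((Subgroup.centralizer (fstarOf K : Set G) : Subgroup G) : Set G) :=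
    normalizer_le_normalizer_centralizer _ (fstarOf_normal K hk)
  exact Subgroup.inf_normalizer_le_normalizer_inf ⟨h1, h2⟩

end Cfsg.Agent.helper7
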