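import Mathlib
import Cfsg.Statements.S1264
import Cfsg.Agent.Lib_helper7_FStar

set_option autoImplicit false
open Cfsg

namespace Cfsg.Agent.S1264

open Cfsg.Agent.helper7

theorem solvable_of_le {G : Type*} [Group G] {A B : Subgroup G} (hle : A ≤ B)
    (hB : Group.IsSolvable ↥B) : Group.IsSolvable ↥A :=
  solvable_of_solvable_injective (f := Subgroup.inclusion hle) (Subgroup.inclusion_injective hle)

theorem comm_ne_self_of_solvable {G : Type*} [Group G] {N : Subgroup G} (hN : Group.IsSolvable ↥N)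
    (hne : N ≠ ⊥) : ⁅N, N⁆ ≠ N := by
  intro h
  have hp : Group.IsPerfect ↥N := Subgroup.isPerfect_iff.2 h
  have hnt : Nontrivial ↥N := (Subgroup.nontrivial_iff_ne_bot N).2 hne
  exact Group.IsPerfect.not_isSolvable ↥N hN

theorem aux {G : Type*} [Group G] [Finite G] (F C : Subgroup G) (hF : F = fitOf (⊤ : Subgroup G))
    (hC : C = Subgroup.centralizer (F : Set G)) (hCn : SN C ⊤) :
    ∀ (n : ℕ) (N : Subgroup G), Nat.card N = n → N ≤ C → C ≤ Subgroup.normalizer (N : Set G) →
      Group.IsSolvable ↥N → N ≤ F := by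
  intro n
  induction n using Nat.strong_induction_on with
  | _ n ih =>
  intro N hn hNC hnorm hsolv
  by_cases hbot : N = ⊥
  · rw [hbot]; exact bot_le
  have hne := comm_ne_self_of_solvable hsolv hbot
  have hle : ⁅N, N⁆ ≤ N := Subgroup.commutator_le_self N
  have hnorm' : C ≤ Subgroup.normalizer ((⁅N, N⁆ : Subgroup G) : Set G) := by
    intro g hg
    apply mem_normalizer_of_cj_eq
    rw [cj_commutator, cj_eq_of_mem_normalizer (hnorm hg)]
  have h1 : ⁅N, N⁆ ≤ F :=
    ih _ (hn ▸ card_lt_of_lt hle hne) ⁅N, N⁆ rfl (hle.trans hNC) hnorm' (solvable_of_le hle hsolv)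
  have h2 : ⁅N, N⁆ ≤ Subgroup.centralizer (N : Set G) := by
    intro y hy
    rw [Subgroup.mem_centralizer_iff]
    intro x hx
    have := hNC hx
    rw [hC, Subgroup.mem_centralizer_iff] at this
    exact (this y (h1 hy)).symm
  have h3 : Group.IsNilpotent ↥N := nilpotent_of_comm_le_centralizer h2
  have h4 : SN N ⊤ := (SN.of_normal hNC hnorm).trans hCn
  rw [hF]
  exact nilpotent_sn_le_fitOf h4 h3

/-- Let G be finite, C = C_G(F(G)) the centralizer of the Fitting subgroup, and N a solvable subgroup of C normalized by C. Then N ≤ Z(F(G)). -/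
theorem result {G : Type*} [Group G] [Finite G] (N : Subgroup G) (hN : N ≤ Subgroup.centralizer (Cfsg.fittingSubgroup G : Set G)) (hnorm : Subgroup.centralizer (Cfsg.fittingSubgroup G : Set G) ≤ Subgroup.normalizer (N : Set G)) (hsolv : Group.IsSolvable ↥N) : N ≤ (Subgroup.center ↥(Cfsg.fittingSubgroup G)).map (Cfsg.fittingSubgroup G).subtype := by
  have hF : Cfsg.fittingSubgroup G = fitOf (⊤ : Subgroup G) := fittingSubgroup_eq
  have hCn : SN (Subgroup.centralizer (Cfsg.fittingSubgroup G : Set G)) ⊤ := by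
    apply SN.of_normal le_top
    have h1 : (⊤ : Subgroup G) ≤ Subgroup.normalizer ((Cfsg.fittingSubgroup G : Subgroup G) : Set G) := by
      rw [hF]; exact fitOf_normal ⊤
    exact h1.trans (normalizer_le_normalizer_centralizer _)
  have h1 : N ≤ Cfsg.fittingSubgroup G :=
    aux _ _ hF rfl hCn _ N rfl hN hnorm hsolv
  intro x hx
  refine ⟨⟨x, h1 hx⟩, ?_, rfl⟩
  rw [SetLike.mem_coe, Subgroup.mem_center_iff]
  intro g
  apply Subtype.ext
  have := hN hx
  rw [Subgroup.mem_centralizer_iff] at this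
  exact this g g.2

end Cfsg.Agent.S1264
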