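import Cfsg.Statements.S3305
import Mathlib

set_option autoImplicit false
open Cfsg

namespace Cfsg.Agent.S3305

/-- A `p`-subgroup `R` of `G` whose image lies in a Sylow `p`-subgroup `P` of the image group is contained in
a Sylow `p`-subgroup of `G` mapping onto `P`. -/
theorem exists_sylow_over {G : Type*} [Group G] [Finite G] {G' : Type*} [Group G'] {f : G →* G'}
    (hf : Function.Surjective f) {p : ℕ} [Fact p.Prime] (P : Sylow p G') (R : Subgroup G)
    (hR : IsPGroup p R) (hRP : R.map f ≤ P) :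
    ∃ Q : Sylow p G, R ≤ Q ∧ (Q : Subgroup G).map f = P := by
  have : Finite G' := Finite.of_surjective f hf
  have hRK : R ≤ (P : Subgroup G').comap f := Subgroup.map_le_iff_le_comap.mp hRP
  have hR' : IsPGroup p (R.subgroupOf ((P : Subgroup G').comap f)) := hR.comap_subtype
  obtain ⟨Q₀, hQ₀⟩ := hR'.exists_le_sylow
  let Q : Subgroup G := (Q₀ : Subgroup ((P : Subgroup G').comap f)).map ((P : Subgroup G').comap f).subtype
  have hPQ : Q.map f ≤ P := Subgroup.map_le_iff_le_comap.mpr (Subgroup.map_subtype_le Q₀.1)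
  have hpQ : IsPGroup p Q := Q₀.2.map ((P : Subgroup G').comap f).subtype
  have hQ : ¬ p ∣ Q.index := by
    rw [Subgroup.index_map_subtype Q₀.1, (P : Subgroup G').index_comap_of_surjective hf]
    exact Nat.Prime.not_dvd_mul Fact.out Q₀.not_dvd_index P.not_dvd_index
  refine ⟨hpQ.toSylow hQ, ?_, ?_⟩
  · intro x hx
    show x ∈ Q
    refine ⟨⟨x, hRK hx⟩, hQ₀ ?_, rfl⟩
    simpa [Subgroup.mem_subgroupOf] using hx
  · show Q.map f = P
    exact (((hpQ.map f).toSylow (fun h ↦ hQ (h.trans (Q.index_map_dvd hf)))).3 P.2 hPQ).symm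

/-- If any two distinct Sylow 2-subgroups of the finite group G intersect in a cyclic group, then the same holds in every quotient group G/H, H a normal subgroup of G. -/
theorem result {G : Type*} [Group G] [Finite G]
    (hC : ∀ S T : Sylow 2 G, S ≠ T → IsCyclic ↥((S : Subgroup G) ⊓ (T : Subgroup G))) (H : Subgroup G) [H.Normal] :
    ∀ S T : Sylow 2 (G ⧸ H), S ≠ T → IsCyclic ↥((S : Subgroup (G ⧸ H)) ⊓ (T : Subgroup (G ⧸ H))) := by
  intro S T hST
  have : Fact (Nat.Prime 2) := ⟨Nat.prime_two⟩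
  set f := QuotientGroup.mk' H with hfdef
  have hf : Function.Surjective f := QuotientGroup.mk'_surjective H
  obtain ⟨S₁, -, hS₁⟩ := exists_sylow_over hf S ⊥ IsPGroup.of_bot (by simp)
  -- A = S₁ ⊓ comap f T
  set A : Subgroup G := (S₁ : Subgroup G) ⊓ (T : Subgroup (G ⧸ H)).comap f with hA
  have hA2 : IsPGroup 2 A := S₁.2.to_le inf_le_left
  have hAmap : A.map f = (S : Subgroup (G ⧸ H)) ⊓ (T : Subgroup (G ⧸ H)) := by
    apply le_antisymm
    · rintro _ ⟨a, ha, rfl⟩
      refine ⟨?_, ha.2⟩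
      rw [← hS₁]
      exact ⟨a, ha.1, rfl⟩
    · rintro y ⟨hyS, hyT⟩
      rw [SetLike.mem_coe, ← hS₁] at hyS
      obtain ⟨s, hs, rfl⟩ := hyS
      exact ⟨s, ⟨hs, hyT⟩, rfl⟩
  obtain ⟨T₁, hAT₁, hT₁⟩ := exists_sylow_over hf T A hA2 (by rw [hAmap]; exact inf_le_right)
  have hne : S₁ ≠ T₁ := by
    rintro rfl
    apply hST
    apply Sylow.ext
    rw [← hS₁, ← hT₁]
  have hcyc : IsCyclic ↥((S₁ : Subgroup G) ⊓ (T₁ : Subgroup G)) := hC S₁ T₁ hne
  have hAle : A ≤ (S₁ : Subgroup G) ⊓ (T₁ : Subgroup G) := le_inf inf_le_left hAT₁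
  -- A is cyclic
  have hAcyc : IsCyclic ↥A := by
    have : IsCyclic ↥(A.subgroupOf ((S₁ : Subgroup G) ⊓ (T₁ : Subgroup G))) := inferInstance
    exact isCyclic_of_surjective (Subgroup.subgroupOfEquivOfLe hAle) (Subgroup.subgroupOfEquivOfLe hAle).surjective
  -- image of cyclic is cyclic
  rw [← hAmap]
  have hsurj : Function.Surjective (f.subgroupMap A) := f.subgroupMap_surjective A
  exact isCyclic_of_surjective (f.subgroupMap A) hsurj

end Cfsg.Agent.S3305
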