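import Cfsg.Statements.S3303
import Mathlib
import Cfsg.Agent.S1264
import Cfsg.Agent.S3305
import Cfsg.Agent.Lib_helper1_Core
import Cfsg.Agent.Lib_helper9_Cores

set_option autoImplicit false
open Cfsg

namespace Cfsg.Agent.S3303

theorem exists_nat_pow {X : Type*} [Group X] [Finite X] (x g : X) (hg : g ∈ Subgroup.zpowers x) :
    ∃ a : ℕ, g = x ^ a := by
  rw [← mem_powers_iff_mem_zpowers, Submonoid.mem_powers_iff] at hg
  obtain ⟨a, ha⟩ := hg
  exact ⟨a, ha.symm⟩

/-- If a normal subgroup `P` of `H` is a cyclic `2`-group containing its centralizer, then `H` is a `2`-group. -/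
theorem isPGroup_of_cyclic_self_centralizing {H : Type*} [Group H] [Finite H] (P : Subgroup H) [P.Normal]
    (hP2 : IsPGroup 2 ↥P) (hcyc : IsCyclic ↥P)
    (hCP : Subgroup.centralizer (P : Set H) ≤ P) : IsPGroup 2 H := by
  have : Fact (Nat.Prime 2) := ⟨Nat.prime_two⟩
  obtain ⟨a, ha⟩ := hcyc.exists_generator
  -- order of a
  obtain ⟨m, hm⟩ := (IsPGroup.iff_orderOf.mp hP2) a
  have hoa : orderOf (a : H) = 2 ^ m := by rw [Subgroup.orderOf_coe, hm]
  have hgen : ∀ x ∈ P, x ∈ Subgroup.zpowers (a : H) := by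
    intro x hx
    obtain ⟨k, hk⟩ := Subgroup.mem_zpowers_iff.mp (ha ⟨x, hx⟩)
    refine Subgroup.mem_zpowers_iff.mpr ⟨k, ?_⟩
    have := congrArg Subtype.val hk
    simpa using this
  intro g
  -- conjugation by g
  have hconj : g * (a : H) * g⁻¹ ∈ P := Subgroup.Normal.conj_mem inferInstance _ a.2 g
  obtain ⟨r, hr⟩ := exists_nat_pow (a : H) _ (hgen _ hconj)
  have hco : Nat.Coprime r (2 ^ m) := by
    have h1 : orderOf (g * (a : H) * g⁻¹) = 2 ^ m := by
      have := MulEquiv.orderOf_eq (MulAut.conj g) (a : H)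
      rw [MulAut.conj_apply] at this
      rw [this, hoa]
    rw [hr, orderOf_pow, hoa] at h1
    have h2 : (2 ^ m).gcd r = 1 := by
      rcases Nat.div_eq_self.mp h1 with h3 | h3
      · exact absurd h3 (by positivity)
      · exact h3
    rw [Nat.Coprime, Nat.gcd_comm]; exact h2
  have hpow : ∀ j : ℕ, g ^ j * (a : H) * (g ^ j)⁻¹ = (a : H) ^ (r ^ j) := by
    intro j
    induction j with
    | zero => simp
    | succ j ih =>
      have e : g ^ (j + 1) * (a : H) * (g ^ (j + 1))⁻¹ = g * (g ^ j * (a : H) * (g ^ j)⁻¹) * g⁻¹ := by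
        rw [pow_succ' g j]; group
      rw [e, ih, ← conj_pow, hr, ← pow_mul, pow_succ']
  have hcomm : g ^ (2 ^ (m - 1)) * (a : H) * (g ^ (2 ^ (m - 1)))⁻¹ = (a : H) := by
    rw [hpow]
    conv_rhs => rw [← pow_one (a : H)]
    rw [pow_eq_pow_iff_modEq, hoa]
    rcases Nat.eq_zero_or_pos m with hm0 | hm0
    · subst hm0; simp [Nat.modEq_one]
    · have h3 := Nat.ModEq.pow_totient hco
      have h4 : (2 ^ m).totient = 2 ^ (m - 1) := by
        rw [Nat.totient_prime_pow Nat.prime_two hm0]; norm_num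
      rwa [h4] at h3
  have hcomm' : g ^ (2 ^ (m - 1)) * (a : H) = (a : H) * g ^ (2 ^ (m - 1)) :=
    mul_inv_eq_iff_eq_mul.mp hcomm
  have hcent : g ^ (2 ^ (m - 1)) ∈ Subgroup.centralizer (P : Set H) := by
    rw [Subgroup.mem_centralizer_iff]
    intro x hx
    obtain ⟨k, hk⟩ := Subgroup.mem_zpowers_iff.mp (hgen x hx)
    rw [← hk]
    exact ((Commute.zpow_left (show Commute (a : H) (g ^ (2 ^ (m - 1))) from hcomm'.symm) k)).eq
  have hgP := hCP hcent
  obtain ⟨k, hk⟩ := hP2 ⟨_, hgP⟩
  refine ⟨(m - 1) + k, ?_⟩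
  have := congrArg Subtype.val hk
  rw [pow_add, pow_mul]
  simpa using this

theorem core {H : Type*} [Group H] [Finite H] (hs : Group.IsSolvable H) (hO : Cfsg.pPrimeCore 2 H = ⊥)
    (hC : ∀ S T : Sylow 2 H, S ≠ T → IsCyclic ↥((S : Subgroup H) ⊓ (T : Subgroup H))) :
    ∃ P : Sylow 2 H, (P : Subgroup H).Normal := by
  have : Fact (Nat.Prime 2) := ⟨Nat.prime_two⟩
  obtain ⟨S⟩ := (inferInstance : Nonempty (Sylow 2 H))
  by_cases hall : ∀ T : Sylow 2 H, T = S
  · refine ⟨S, ?_⟩
    rw [← Subgroup.normalizer_eq_top_iff, eq_top_iff]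
    intro g _
    exact Sylow.smul_eq_iff_mem_normalizer.mp (hall _)
  · exfalso
    simp only [not_forall] at hall
    obtain ⟨T, hT⟩ := hall
    -- F(H) = O_2(H)
    have hF : Cfsg.fittingSubgroup H = Cfsg.pCore 2 H := by
      apply le_antisymm
      · rw [helper1.fitting_eq_iSup_pCore]
        apply iSup_le
        intro p
        by_cases hp2 : (p : ℕ) = 2
        · rw [hp2]
        · have h1 : Cfsg.pCore (p : ℕ) H ≤ Cfsg.pPrimeCore 2 H :=
            helper1.le_pPrimeCore (helper1.pCore_normal _)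
              (helper1.coprime_card_of_isPGroup_ne Nat.prime_two p.2 hp2 (helper1.pCore_isPGroup _))
          rw [hO] at h1
          exact h1.trans bot_le
      · exact helper1.pCore_le_fitting 2
    -- centralizer of F(H) lies in F(H)
    have hCF : Subgroup.centralizer (Cfsg.fittingSubgroup H : Set H) ≤ Cfsg.fittingSubgroup H := by
      have h1 := Cfsg.Agent.S1264.result (Subgroup.centralizer (Cfsg.fittingSubgroup H : Set H))
        le_rfl Subgroup.le_normalizer inferInstance
      exact h1.trans (Subgroup.map_subtype_le _)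
    rw [hF] at hCF
    -- O_2(H) is cyclic
    have hle : Cfsg.pCore 2 H ≤ (T : Subgroup H) ⊓ (S : Subgroup H) :=
      le_inf (helper1.pCore_le_sylow T) (helper1.pCore_le_sylow S)
    have hcyc0 := hC T S hT
    have hcyc : IsCyclic ↥(Cfsg.pCore 2 H) := by
      have : IsCyclic ↥((Cfsg.pCore 2 H).subgroupOf ((T : Subgroup H) ⊓ (S : Subgroup H))) := inferInstance
      exact isCyclic_of_surjective (Subgroup.subgroupOfEquivOfLe hle) (Subgroup.subgroupOfEquivOfLe hle).surjective
    have hH2 : IsPGroup 2 H :=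
      isPGroup_of_cyclic_self_centralizing (Cfsg.pCore 2 H) (helper1.pCore_isPGroup 2) hcyc hCF
    -- then both Sylows are ⊤
    have htop : IsPGroup 2 ↥(⊤ : Subgroup H) := hH2.to_subgroup ⊤
    have h1 := S.3 htop le_top
    have h2 := T.3 htop le_top
    apply hT
    apply Sylow.ext
    rw [← h1, ← h2]

/-- Let G be a finite solvable group in which the intersection of any two distinct Sylow 2-subgroups is cyclic. Then G/O(G) has a normal Sylow 2-subgroup, where O(G) is the largest normal subgroup of odd order. -/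
theorem result {G : Type*} [Group G] [Finite G] (hs : Group.IsSolvable G)
    (hC : ∀ S T : Sylow 2 G, S ≠ T → IsCyclic ↥((S : Subgroup G) ⊓ (T : Subgroup G))) :
    ∃ P : Sylow 2 (G ⧸ Cfsg.oddCore G), (P : Subgroup (G ⧸ Cfsg.oddCore G)).Normal := by
  apply core
  · infer_instance
  · exact helper9.pPrimeCore_quotient_eq_bot 2
  · exact Cfsg.Agent.S3305.result hC (Cfsg.oddCore G)

end Cfsg.Agent.S3303
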