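import Mathlib
import Cfsg.Agent.S3158
import Cfsg.Agent.S3303
import Cfsg.Agent.S3209

set_option autoImplicit false

namespace Cfsg.Agent.H16UniqueInvol

open scoped commutatorElement


/-- **U1**: a finite commutative `2`-group with at most one involution is cyclic. -/
theorem isCyclic_of_comm {A : Type*} [CommGroup A] [Finite A] (hA : IsPGroup 2 A)
    (h : ∀ a b : A, a * a = 1 → b * b = 1 → a ≠ 1 → b ≠ 1 → a = b) : IsCyclic A := by
  classical
  have : Fintype A := Fintype.ofFinite A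
  have key : ∀ j : ℕ, (Finset.univ.filter (fun a : A => a ^ (2 ^ j) = 1)).card ≤ 2 ^ j := by
    intro j
    induction j with
    | zero =>
      have : (Finset.univ.filter (fun a : A => a ^ (2 ^ 0) = 1)) = {1} := by
        ext a; simp
      rw [this]; simp
    | succ j ih =>
      have himg : (Finset.univ.filter (fun a : A => a ^ (2 ^ (j + 1)) = 1)).image (fun a => a * a) ⊆
          Finset.univ.filter (fun a : A => a ^ (2 ^ j) = 1) := by
        intro b hb
        rw [Finset.mem_image] at hb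
        obtain ⟨a, ha, rfl⟩ := hb
        rw [Finset.mem_filter] at ha ⊢
        refine ⟨Finset.mem_univ _, ?_⟩
        rw [← pow_two, ← pow_mul, ← pow_succ']
        exact ha.2
      have hfib : ∀ b ∈ (Finset.univ.filter (fun a : A => a ^ (2 ^ (j + 1)) = 1)).image
          (fun a => a * a),
          ((Finset.univ.filter (fun a : A => a ^ (2 ^ (j + 1)) = 1)).filter
            (fun x => x * x = b)).card ≤ 2 := by
        intro b _
        by_contra hlt
        push Not at hlt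
        rw [Finset.two_lt_card] at hlt
        obtain ⟨x₀, hx₀, x₁, hx₁, x₂, hx₂, h01, h02, h12⟩ := hlt
        rw [Finset.mem_filter] at hx₀ hx₁ hx₂
        have e1 : (x₁ * x₀⁻¹) * (x₁ * x₀⁻¹) = 1 := by
          have : (x₁ * x₀⁻¹) * (x₁ * x₀⁻¹) = (x₁ * x₁) * (x₀ * x₀)⁻¹ := by
            rw [mul_inv]; ac_rfl
          rw [this, hx₁.2, hx₀.2, mul_inv_cancel]
        have e2 : (x₂ * x₀⁻¹) * (x₂ * x₀⁻¹) = 1 := by
          have : (x₂ * x₀⁻¹) * (x₂ * x₀⁻¹) = (x₂ * x₂) * (x₀ * x₀)⁻¹ := by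
            rw [mul_inv]; ac_rfl
          rw [this, hx₂.2, hx₀.2, mul_inv_cancel]
        have n1 : x₁ * x₀⁻¹ ≠ 1 := fun e => h01 (mul_inv_eq_one.mp e).symm
        have n2 : x₂ * x₀⁻¹ ≠ 1 := fun e => h02 (mul_inv_eq_one.mp e).symm
        have := h _ _ e1 e2 n1 n2
        exact h12 (mul_right_cancel this)
      have h1 := Finset.card_le_mul_card_image
        (Finset.univ.filter (fun a : A => a ^ (2 ^ (j + 1)) = 1)) 2 hfib
      have h2 := Finset.card_le_card himg
      calc _ ≤ 2 * _ := h1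
        _ ≤ 2 * 2 ^ j := Nat.mul_le_mul_left 2 (h2.trans ih)
        _ = 2 ^ (j + 1) := by ring
  apply isCyclic_of_card_pow_eq_one_le
  intro n hn
  obtain ⟨e, he⟩ := hA.exists_card_eq
  have hd : Nat.gcd n (2 ^ e) ∣ 2 ^ e := Nat.gcd_dvd_right _ _
  obtain ⟨j, _, hj⟩ := (Nat.dvd_prime_pow Nat.prime_two).mp hd
  have hsub : Finset.univ.filter (fun a : A => a ^ n = 1) ⊆
      Finset.univ.filter (fun a : A => a ^ (2 ^ j) = 1) := by
    intro a ha
    rw [Finset.mem_filter] at ha ⊢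
    refine ⟨Finset.mem_univ _, ?_⟩
    rw [← hj]
    have h1 : a ^ (2 ^ e) = 1 := by
      rw [← he, Nat.card_eq_fintype_card]; exact pow_card_eq_one
    exact pow_gcd_eq_one.mpr ⟨ha.2, h1⟩
  calc _ ≤ _ := Finset.card_le_card hsub
    _ ≤ 2 ^ j := key j
    _ = Nat.gcd n (2 ^ e) := hj.symm
    _ ≤ n := Nat.gcd_le_left _ hn



/-- `z` is the unique involution of `P`. -/
structure UInv {P : Type*} [Group P] (z : P) : Prop where
  ne : z ≠ 1
  sq : z * z = 1
  uniq : ∀ g : P, g * g = 1 → g = 1 ∨ g = z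

theorem comm_zpowers {P : Type*} [Group P] (a x y : P) (hx : x ∈ Subgroup.zpowers a)
    (hy : y ∈ Subgroup.zpowers a) : x * y = y * x := by
  obtain ⟨i, rfl⟩ := Subgroup.mem_zpowers_iff.mp hx
  obtain ⟨j, rfl⟩ := Subgroup.mem_zpowers_iff.mp hy
  rw [← zpow_add, ← zpow_add, add_comm]

theorem gen_or_sq {P : Type*} [Group P] [Finite P] (a : P) (k : ℕ) (hak : a ^ (2 ^ k) = 1) (x : P)
    (hx : x ∈ Subgroup.zpowers a) : (∃ j : ℕ, x = a ^ (2 * j)) ∨ (∃ n : ℕ, x ^ n = a) := by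
  obtain ⟨i, rfl⟩ := Cfsg.Agent.S3303.exists_nat_pow a x hx
  rcases Nat.even_or_odd' i with ⟨j, rfl | rfl⟩
  · left; exact ⟨j, rfl⟩
  · right
    have hcop : Nat.Coprime (2 * j + 1) (orderOf a) := by
      have hdvd : orderOf a ∣ 2 ^ k := orderOf_dvd_of_pow_eq_one hak
      obtain ⟨e, _, he⟩ := (Nat.dvd_prime_pow Nat.prime_two).mp hdvd
      rw [he]
      apply Nat.Coprime.pow_right
      rw [Nat.coprime_two_right]
      exact ⟨j, rfl⟩
    exact exists_pow_eq_self_of_coprime hcop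

theorem chain {P : Type*} [Group P] [Finite P] : ∀ (k : ℕ) (a : P), a ^ (2 ^ k) = 1 →
    ∀ p ∈ Subgroup.zpowers a, ∀ q ∈ Subgroup.zpowers a,
      p ∈ Subgroup.zpowers q ∨ q ∈ Subgroup.zpowers (p * p) := by
  intro k
  induction k with
  | zero =>
    intro a ha p hp q _
    rw [pow_zero, pow_one] at ha
    rw [ha, Subgroup.zpowers_one_eq_bot, Subgroup.mem_bot] at hp
    left; rw [hp]; exact Subgroup.one_mem _
  | succ k ih =>
    intro a ha p hp q hq
    have haa : (a * a) ^ (2 ^ k) = 1 := by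
      rw [← pow_two, ← pow_mul, ← pow_succ']; exact ha
    rcases gen_or_sq a (k + 1) ha q hq with ⟨j, hj⟩ | ⟨n, hn⟩
    · rcases gen_or_sq a (k + 1) ha p hp with ⟨j', hj'⟩ | ⟨n, hn⟩
      · have hp' : p ∈ Subgroup.zpowers (a * a) := by
          rw [hj', pow_mul, pow_two]; exact Subgroup.npow_mem_zpowers _ _
        have hq' : q ∈ Subgroup.zpowers (a * a) := by
          rw [hj, pow_mul, pow_two]; exact Subgroup.npow_mem_zpowers _ _
        exact ih (a * a) haa p hp' q hq'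
      · right
        have e : (p * p) ^ n = a * a := by
          rw [(Commute.refl p).mul_pow, hn]
        rw [hj, pow_mul, pow_two, ← e, ← pow_mul]
        exact Subgroup.npow_mem_zpowers _ _
    · left
      have : Subgroup.zpowers a ≤ Subgroup.zpowers q := by
        rw [Subgroup.zpowers_le, ← hn]; exact Subgroup.npow_mem_zpowers _ _
      exact this hp

theorem z_mem {P : Type*} [Group P] {z : P} (hz : UInv z) :
    ∀ (k : ℕ) (g : P), g ≠ 1 → g ^ (2 ^ k) = 1 → z ∈ Subgroup.zpowers g := by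
  intro k
  induction k with
  | zero =>
    intro g hg h
    rw [pow_zero, pow_one] at h
    exact absurd h hg
  | succ k ih =>
    intro g hg h
    by_cases hgg : g * g = 1
    · rcases hz.uniq g hgg with e | e
      · exact absurd e hg
      · rw [e]; exact Subgroup.mem_zpowers _
    · have h1 : (g * g) ^ (2 ^ k) = 1 := by
        rw [← pow_two, ← pow_mul, ← pow_succ']; exact h
      have h2 := ih (g * g) hgg h1
      have : Subgroup.zpowers (g * g) ≤ Subgroup.zpowers g := by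
        rw [Subgroup.zpowers_le]
        exact Subgroup.mul_mem _ (Subgroup.mem_zpowers g) (Subgroup.mem_zpowers g)
      exact this h2

/-- **U3**: in a group with a unique involution, an element `t` outside the cyclic `2`-subgroup
`⟨a⟩`, normalizing it, with `t² ∈ ⟨a⟩`, and not commuting with `a`, inverts `a` and squares to `z`. -/
theorem inverts {P : Type*} [Group P] [Finite P] {z : P} (hz : UInv z) (a t : P) (k : ℕ)
    (hak : a ^ (2 ^ k) = 1)
    (htA : t ∉ Subgroup.zpowers a) (htt : t * t ∈ Subgroup.zpowers a)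
    (hta : t * a * t⁻¹ ∈ Subgroup.zpowers a) (hnc : t * a ≠ a * t) :
    t * a * t⁻¹ = a⁻¹ ∧ t * t = z := by
  have ha1 : a ≠ 1 := by
    rintro rfl
    exact hnc (by rw [mul_one, one_mul])
  have hzA : z ∈ Subgroup.zpowers a := z_mem hz k a ha1 hak
  -- conjugation by `t`
  have hσA : ∀ x ∈ Subgroup.zpowers a, t * x * t⁻¹ ∈ Subgroup.zpowers a := by
    intro x hx
    obtain ⟨i, rfl⟩ := Cfsg.Agent.S3303.exists_nat_pow a x hx
    rw [← conj_pow]
    exact Subgroup.pow_mem _ hta i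
  have hcomm := comm_zpowers a
  have hσσ : ∀ x ∈ Subgroup.zpowers a, t * (t * x * t⁻¹) * t⁻¹ = x := by
    intro x hx
    have h1 : (t * t) * x = x * (t * t) := hcomm _ _ htt hx
    calc t * (t * x * t⁻¹) * t⁻¹ = ((t * t) * x) * t⁻¹ * t⁻¹ := by group
      _ = (x * (t * t)) * t⁻¹ * t⁻¹ := by rw [h1]
      _ = x := by group
  -- (1) no involution outside `⟨a⟩`
  have h1 : ∀ x ∈ Subgroup.zpowers a, x * (t * x * t⁻¹) * (t * t) ≠ 1 := by
    intro x hx e
    have hy : (x * t) * (x * t) = 1 := by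
      calc (x * t) * (x * t) = x * (t * x * t⁻¹) * (t * t) := by group
        _ = 1 := e
    have hxt : x * t ∈ Subgroup.zpowers a := by
      rcases hz.uniq _ hy with e1 | e1
      · rw [e1]; exact Subgroup.one_mem _
      · rw [e1]; exact hzA
    exact htA ((Subgroup.mul_mem_cancel_left _ hx).mp hxt)
  -- `t` commutes with `t * t`, hence with `zpowers (t * t)`
  have hct : ∀ w ∈ Subgroup.zpowers (t * t), t * w * t⁻¹ = w := by
    intro w hw
    obtain ⟨i, rfl⟩ := Subgroup.mem_zpowers_iff.mp hw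
    have : Commute t ((t * t) ^ i) := ((Commute.refl t).mul_right (Commute.refl t)).zpow_right i
    rw [this.eq]; group
  have hnotgen : ∀ w ∈ Subgroup.zpowers (t * t), a ∉ Subgroup.zpowers w := by
    intro w hw haw
    have hle : Subgroup.zpowers w ≤ Subgroup.zpowers (t * t) := Subgroup.zpowers_le.mpr hw
    have := hct a (hle haw)
    apply hnc
    calc t * a = (t * a * t⁻¹) * t := by group
      _ = a * t := by rw [this]
  -- (3) `v = a * σ a`
  have hvA : a * (t * a * t⁻¹) ∈ Subgroup.zpowers a :=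
    Subgroup.mul_mem _ (Subgroup.mem_zpowers a) hta
  have h3 : (t * t) ∉ Subgroup.zpowers (a * (t * a * t⁻¹)) := by
    intro hmem
    have hinv : (t * t)⁻¹ ∈ Subgroup.zpowers (a * (t * a * t⁻¹)) := Subgroup.inv_mem _ hmem
    obtain ⟨i, hi⟩ := Cfsg.Agent.S3303.exists_nat_pow _ _ hinv
    apply h1 (a ^ i) (Subgroup.pow_mem _ (Subgroup.mem_zpowers a) i)
    have hc : Commute a (t * a * t⁻¹) := hcomm _ _ (Subgroup.mem_zpowers a) hta
    rw [← conj_pow, ← hc.mul_pow, ← hi, inv_mul_cancel]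
  -- (4) chain lemma
  have h4 : a * (t * a * t⁻¹) ∈ Subgroup.zpowers ((t * t) * (t * t)) := by
    rcases chain k a hak (t * t) htt _ hvA with h | h
    · exact absurd h h3
    · exact h
  obtain ⟨j, hj⟩ := Cfsg.Agent.S3303.exists_nat_pow _ _ h4
  -- `w = (t*t)^j`, `w * w = v`
  have hwtt : (t * t) ^ j ∈ Subgroup.zpowers (t * t) := Subgroup.npow_mem_zpowers _ _
  have hwA : (t * t) ^ j ∈ Subgroup.zpowers a := Subgroup.pow_mem _ htt j
  have hww : (t * t) ^ j * (t * t) ^ j = a * (t * a * t⁻¹) := by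
    rw [hj, (Commute.refl (t * t)).mul_pow]
  have hσw : t * (t * t) ^ j * t⁻¹ = (t * t) ^ j := hct _ hwtt
  -- (5) `a' = a * w⁻¹` is inverted
  have ha'A : a * ((t * t) ^ j)⁻¹ ∈ Subgroup.zpowers a :=
    Subgroup.mul_mem _ (Subgroup.mem_zpowers a) (Subgroup.inv_mem _ hwA)
  have h5 : t * (a * ((t * t) ^ j)⁻¹) * t⁻¹ = (a * ((t * t) ^ j)⁻¹)⁻¹ := by
    have e1 : t * (a * ((t * t) ^ j)⁻¹) * t⁻¹ = (t * a * t⁻¹) * (t * (t * t) ^ j * t⁻¹)⁻¹ := by
      group
    rw [e1, hσw]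
    -- (σ a) w⁻¹ = (a w⁻¹)⁻¹ = w a⁻¹  ⟸ a σ a = w w, all commuting
    have c1 : (t * a * t⁻¹) * ((t * t) ^ j)⁻¹ = ((t * t) ^ j)⁻¹ * (t * a * t⁻¹) :=
      hcomm _ _ hta (Subgroup.inv_mem _ hwA)
    have c2 : a * ((t * t) ^ j)⁻¹ = ((t * t) ^ j)⁻¹ * a :=
      hcomm _ _ (Subgroup.mem_zpowers a) (Subgroup.inv_mem _ hwA)
    rw [eq_inv_iff_mul_eq_one]
    calc (t * a * t⁻¹) * ((t * t) ^ j)⁻¹ * (a * ((t * t) ^ j)⁻¹)
        = ((t * t) ^ j)⁻¹ * (t * a * t⁻¹) * (((t * t) ^ j)⁻¹ * a) := by rw [c1, c2]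
      _ = ((t * t) ^ j)⁻¹ * ((t * a * t⁻¹) * ((t * t) ^ j)⁻¹) * a := by group
      _ = ((t * t) ^ j)⁻¹ * (((t * t) ^ j)⁻¹ * (t * a * t⁻¹)) * a := by rw [c1]
      _ = ((t * t) ^ j * (t * t) ^ j)⁻¹ * ((t * a * t⁻¹) * a) := by group
      _ = 1 := by
        rw [hww, hcomm _ _ hta (Subgroup.mem_zpowers a), inv_mul_cancel]
  -- (6) `a'` generates
  have h6 : t * a * t⁻¹ = a⁻¹ := by
    rcases gen_or_sq a k hak _ ha'A with ⟨j', hj'⟩ | ⟨n, hn⟩
    · exfalso
      -- w = a'⁻¹ a has odd exponent, so generates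
      rcases gen_or_sq a k hak _ hwA with ⟨j'', hj''⟩ | ⟨n, hn⟩
      · -- a = a' * w = a^(2j' + 2j'')
        have e : a = a ^ (2 * j' + 2 * j'') := by
          rw [pow_add, ← hj', ← hj'']; group
        have e2 : a ^ (2 * j' + 2 * j'') = a ^ 1 := by rw [pow_one]; exact e.symm
        rw [pow_eq_pow_iff_modEq] at e2
        have hdvd : orderOf a ∣ 2 ^ k := orderOf_dvd_of_pow_eq_one hak
        obtain ⟨e', _, he'⟩ := (Nat.dvd_prime_pow Nat.prime_two).mp hdvd
        rcases Nat.eq_zero_or_pos e' with h0 | hpos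
        · rw [h0, pow_zero, orderOf_eq_one_iff] at he'
          exact ha1 he'
        · have h2 : (2 : ℕ) ∣ orderOf a := by rw [he']; exact dvd_pow_self 2 hpos.ne'
          have := (Nat.ModEq.of_dvd h2 e2)
          have h3 : (2 * j' + 2 * j'') % 2 = 1 % 2 := this
          omega
      · exact hnotgen _ hwtt (hn ▸ Subgroup.npow_mem_zpowers _ _)
    · rw [← hn, ← conj_pow, h5, inv_pow]
  refine ⟨h6, ?_⟩
  -- (7)
  have hinvA : ∀ x ∈ Subgroup.zpowers a, t * x * t⁻¹ = x⁻¹ := by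
    intro x hx
    obtain ⟨i, rfl⟩ := Cfsg.Agent.S3303.exists_nat_pow a x hx
    rw [← conj_pow, h6, inv_pow]
  have h7 : t * (t * t) * t⁻¹ = (t * t)⁻¹ := hinvA _ htt
  have h8 : (t * t) * (t * t) = 1 := by
    have : t * (t * t) * t⁻¹ = t * t := by group
    rw [this] at h7
    exact mul_eq_one_iff_eq_inv.mpr h7
  rcases hz.uniq _ h8 with e | e
  · exfalso
    rcases hz.uniq t e with e1 | e1
    · exact htA (e1 ▸ Subgroup.one_mem _)
    · exact htA (e1 ▸ hzA)
  · exact e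



/-- **U2**: a finite `2`-group has a normal abelian subgroup containing its centralizer. -/
theorem exists_max_normal_abelian {P : Type*} [Group P] [Finite P] (hP : IsPGroup 2 P) :
    ∃ A : Subgroup P, A.Normal ∧ (∀ x ∈ A, ∀ y ∈ A, x * y = y * x) ∧
      Subgroup.centralizer (A : Set P) ≤ A := by
  classical
  let s : Set (Subgroup P) := {A | A.Normal ∧ ∀ x ∈ A, ∀ y ∈ A, x * y = y * x}
  have hsne : s.Nonempty := ⟨⊥, inferInstance, by
    intro x hx y hy
    rw [Subgroup.mem_bot] at hx hy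
    rw [hx, hy]⟩
  obtain ⟨A, hAmax⟩ := (Set.toFinite s).exists_maximal hsne
  obtain ⟨⟨hAn, hAab⟩, hmax⟩ := hAmax
  refine ⟨A, hAn, hAab, ?_⟩
  by_contra hnot
  obtain ⟨c₀, hc₀C, hc₀A⟩ := SetLike.not_le_iff_exists.mp hnot
  have hCn : (Subgroup.centralizer (A : Set P)).Normal := Subgroup.normal_centralizer
  have hVn : ((Subgroup.centralizer (A : Set P)).map (QuotientGroup.mk' A)).Normal :=
    Subgroup.Normal.map hCn _ (QuotientGroup.mk'_surjective A)
  have hVne : (Subgroup.centralizer (A : Set P)).map (QuotientGroup.mk' A) ≠ ⊥ := by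
    intro e
    have h1 : QuotientGroup.mk' A c₀ ∈ (Subgroup.centralizer (A : Set P)).map (QuotientGroup.mk' A) :=
      Subgroup.mem_map_of_mem _ hc₀C
    rw [e, Subgroup.mem_bot, QuotientGroup.mk'_apply, QuotientGroup.eq_one_iff] at h1
    exact hc₀A h1
  have hQ : IsPGroup 2 (P ⧸ A) := hP.to_quotient A
  have h2 : 2 ∣ Nat.card ↥((Subgroup.centralizer (A : Set P)).map (QuotientGroup.mk' A)) := by
    obtain ⟨e, he⟩ := (hQ.to_subgroup ((Subgroup.centralizer (A : Set P)).map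
      (QuotientGroup.mk' A))).exists_card_eq
    rw [he]
    rcases Nat.eq_zero_or_pos e with h0 | hpos
    · exfalso
      rw [h0, pow_zero] at he
      exact hVne (Subgroup.card_eq_one.mp he)
    · exact dvd_pow_self 2 hpos.ne'
  obtain ⟨b, hbV, hb1, hbc⟩ := Cfsg.Agent.S3158.exists_central hQ _ h2
  obtain ⟨c, hcC, rfl⟩ := hbV
  have hcA : c ∉ A := by
    intro h
    apply hb1
    rw [QuotientGroup.mk'_apply, QuotientGroup.eq_one_iff]
    exact h
  -- commutators of `c` lie in `A`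
  have hcomm : ∀ g : P, g * c * g⁻¹ * c⁻¹ ∈ A := by
    intro g
    have h := hbc (QuotientGroup.mk' A g)
    have h3 : (QuotientGroup.mk' A) (g * c * g⁻¹ * c⁻¹) = 1 := by
      rw [map_mul, map_mul, map_mul, map_inv, map_inv, h]
      group
    rw [QuotientGroup.mk'_apply, QuotientGroup.eq_one_iff] at h3
    exact h3
  -- `c` commutes with `A`
  have hcA' : ∀ x ∈ A, ∀ y ∈ Subgroup.zpowers c, x * y = y * x := by
    intro x hx y hy
    obtain ⟨i, rfl⟩ := Subgroup.mem_zpowers_iff.mp hy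
    have h1 : Commute x c := (Subgroup.mem_centralizer_iff.mp hcC x hx)
    exact (h1.zpow_right i).eq
  have hBmem := Cfsg.Agent.S3209.mem_sup_comm A (Subgroup.zpowers c) hcA'
  have hBab : ∀ x ∈ A ⊔ Subgroup.zpowers c, ∀ y ∈ A ⊔ Subgroup.zpowers c, x * y = y * x := by
    intro x hx y hy
    obtain ⟨a₁, ha₁, c₁, hc₁, rfl⟩ := hBmem x hx
    obtain ⟨a₂, ha₂, c₂, hc₂, rfl⟩ := hBmem y hy
    have e1 := hAab a₁ ha₁ a₂ ha₂
    have e2 := hcA' a₂ ha₂ c₁ hc₁
    have e3 := hcA' a₁ ha₁ c₂ hc₂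
    have e4 : c₁ * c₂ = c₂ * c₁ := by
      obtain ⟨i, rfl⟩ := Subgroup.mem_zpowers_iff.mp hc₁
      obtain ⟨j, rfl⟩ := Subgroup.mem_zpowers_iff.mp hc₂
      rw [← zpow_add, ← zpow_add, add_comm]
    calc a₁ * c₁ * (a₂ * c₂) = a₁ * (c₁ * a₂) * c₂ := by group
      _ = a₁ * (a₂ * c₁) * c₂ := by rw [e2]
      _ = (a₁ * a₂) * (c₁ * c₂) := by group
      _ = (a₂ * a₁) * (c₂ * c₁) := by rw [e1, e4]
      _ = a₂ * (a₁ * c₂) * c₁ := by group
      _ = a₂ * (c₂ * a₁) * c₁ := by rw [e3]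
      _ = a₂ * c₂ * (a₁ * c₁) := by group
  have hBn : (A ⊔ Subgroup.zpowers c).Normal := by
    constructor
    intro x hx g
    obtain ⟨a₁, ha₁, c₁, hc₁, rfl⟩ := hBmem x hx
    obtain ⟨i, rfl⟩ := Subgroup.mem_zpowers_iff.mp hc₁
    have h1 : g * a₁ * g⁻¹ ∈ A ⊔ Subgroup.zpowers c :=
      (le_sup_left : A ≤ _) (hAn.conj_mem a₁ ha₁ g)
    have h2 : g * c * g⁻¹ ∈ A ⊔ Subgroup.zpowers c := by
      have : g * c * g⁻¹ = (g * c * g⁻¹ * c⁻¹) * c := by group
      rw [this]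
      exact Subgroup.mul_mem _ ((le_sup_left : A ≤ _) (hcomm g))
        ((le_sup_right : Subgroup.zpowers c ≤ _) (Subgroup.mem_zpowers c))
    have h3 : g * (a₁ * c ^ i) * g⁻¹ = (g * a₁ * g⁻¹) * (g * c * g⁻¹) ^ i := by
      rw [conj_zpow]; group
    rw [h3]
    exact Subgroup.mul_mem _ h1 (Subgroup.zpow_mem _ h2 i)
  have hle : A ⊔ Subgroup.zpowers c ≤ A := hmax ⟨hBn, hBab⟩ le_sup_left
  exact hcA (hle ((le_sup_right : Subgroup.zpowers c ≤ _) (Subgroup.mem_zpowers c)))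


/-- **Theorem U**: a nonabelian finite `2`-group with a unique involution `z` is generalized
quaternion: it has a cyclic subgroup `⟨x⟩` of index `2` and order `2^k ≥ 4`, and `y ∉ ⟨x⟩`
inverting `x` with `y² = z = x^(2^(k-1))`. -/
theorem structure_thm {P : Type*} [Group P] [Finite P] (hP : IsPGroup 2 P) {z : P} (hz : UInv z)
    (hna : ∃ g h : P, g * h ≠ h * g) :
    ∃ (x y : P) (k : ℕ), 2 ≤ k ∧ orderOf x = 2 ^ k ∧ y ∉ Subgroup.zpowers x ∧
      (∀ g : P, g ∈ Subgroup.zpowers x ∨ y⁻¹ * g ∈ Subgroup.zpowers x) ∧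
      y * x * y⁻¹ = x⁻¹ ∧ y * y = z ∧ x ^ (2 ^ (k - 1)) = z := by
  obtain ⟨A, hAn, hAab, hCA⟩ := exists_max_normal_abelian hP
  -- `A` is cyclic
  letI : CommGroup ↥A :=
    { (inferInstance : Group ↥A) with
      mul_comm := fun x y => Subtype.ext (hAab x.1 x.2 y.1 y.2) }
  have hAcyc : IsCyclic ↥A := by
    apply isCyclic_of_comm (hP.to_subgroup A)
    intro u v hu hv hu1 hv1
    have hu' : (u : P) * (u : P) = 1 := by
      have := congrArg Subtype.val hu; simpa using this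
    have hv' : (v : P) * (v : P) = 1 := by
      have := congrArg Subtype.val hv; simpa using this
    have hu1' : (u : P) ≠ 1 := fun e => hu1 (Subtype.ext e)
    have hv1' : (v : P) ≠ 1 := fun e => hv1 (Subtype.ext e)
    apply Subtype.ext
    rw [(hz.uniq _ hu').resolve_left hu1', (hz.uniq _ hv').resolve_left hv1']
  obtain ⟨g, hg⟩ := hAcyc.exists_generator
  have hAeq : ∀ x : P, x ∈ A ↔ x ∈ Subgroup.zpowers (g : P) := by
    intro x
    constructor
    · intro hx
      obtain ⟨i, hi⟩ := Subgroup.mem_zpowers_iff.mp (hg ⟨x, hx⟩)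
      rw [Subgroup.mem_zpowers_iff]
      refine ⟨i, ?_⟩
      have := congrArg Subtype.val hi
      simpa using this
    · intro hx
      exact (Subgroup.zpowers_le.mpr g.2) hx
  set a : P := (g : P) with ha_def
  obtain ⟨k, hk⟩ := (IsPGroup.iff_orderOf.mp hP) a
  have hak : a ^ (2 ^ k) = 1 := by rw [← hk]; exact pow_orderOf_eq_one a
  have haA : a ∈ A := g.2
  -- (c)
  have hc : ∀ t : P, t ∉ A → t * t ∈ A → t * a * t⁻¹ = a⁻¹ ∧ t * t = z := by
    intro t htA htt
    apply inverts hz a t k hak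
    · rwa [← hAeq]
    · rwa [← hAeq]
    · rw [← hAeq]; exact hAn.conj_mem a haA t
    · intro hcomm
      apply htA
      apply hCA
      rw [Subgroup.mem_centralizer_iff]
      intro x hx
      obtain ⟨i, rfl⟩ := Subgroup.mem_zpowers_iff.mp ((hAeq x).mp hx)
      have h1 : Commute t a := hcomm
      exact ((h1.zpow_right i).eq).symm
  -- an element outside `A`
  have hAtop : ∃ g₀ : P, g₀ ∉ A := by
    by_contra hall
    push Not at hall
    obtain ⟨u, v, huv⟩ := hna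
    exact huv (hAab u (hall u) v (hall v))
  obtain ⟨g₀, hg₀⟩ := hAtop
  have hex : ∃ j : ℕ, g₀ ^ (2 ^ j) ∈ A := by
    obtain ⟨e, he⟩ := (IsPGroup.iff_orderOf.mp hP) g₀
    exact ⟨e, by rw [← he, pow_orderOf_eq_one]; exact A.one_mem⟩
  classical
  have hj0 : Nat.find hex ≠ 0 := by
    intro h0
    have := Nat.find_spec hex
    rw [h0, pow_zero, pow_one] at this
    exact hg₀ this
  obtain ⟨j, hj⟩ := Nat.exists_eq_succ_of_ne_zero hj0
  have ht₁A : g₀ ^ (2 ^ j) ∉ A := Nat.find_min hex (by rw [hj]; exact Nat.lt_succ_self j)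
  have ht₁t₁ : g₀ ^ (2 ^ j) * g₀ ^ (2 ^ j) ∈ A := by
    have := Nat.find_spec hex
    rw [hj] at this
    rw [← pow_add]
    have e : 2 ^ j + 2 ^ j = 2 ^ (j + 1) := by ring
    rw [e]; exact this
  set t₁ : P := g₀ ^ (2 ^ j) with ht₁_def
  obtain ⟨ht₁a, ht₁z⟩ := hc t₁ ht₁A ht₁t₁
  -- `a * a ≠ 1`, so `k ≥ 2`
  have haa : a * a ≠ 1 := by
    intro e
    have h1 : a⁻¹ = a := inv_eq_of_mul_eq_one_right e
    rw [h1] at ht₁a
    apply ht₁A
    apply hCA
    rw [Subgroup.mem_centralizer_iff]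
    intro x hx
    obtain ⟨i, rfl⟩ := Subgroup.mem_zpowers_iff.mp ((hAeq x).mp hx)
    have h2 : Commute t₁ a := by
      show t₁ * a = a * t₁
      calc t₁ * a = (t₁ * a * t₁⁻¹) * t₁ := by group
        _ = a * t₁ := by rw [ht₁a]
    exact ((h2.zpow_right i).eq).symm
  have hk2 : 2 ≤ k := by
    by_contra hlt
    push Not at hlt
    apply haa
    rw [← pow_two]
    have : orderOf a ∣ 2 := by
      rw [hk]
      interval_cases k
      · norm_num
      · norm_num
    exact orderOf_dvd_iff_pow_eq_one.mp this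
  have hzA : z ∈ A := by rw [← ht₁z]; exact ht₁t₁
  -- (d'')
  have hd : ∀ (n : ℕ) (h : P), h ^ (2 ^ n) ∈ A → h ∈ A ∨ t₁⁻¹ * h ∈ A := by
    intro n
    induction n with
    | zero =>
      intro h hh
      rw [pow_zero, pow_one] at hh
      exact Or.inl hh
    | succ n ih =>
      intro h hh
      have hh' : (h * h) ^ (2 ^ n) ∈ A := by
        rw [← pow_two, ← pow_mul, ← pow_succ']; exact hh
      have case1 : h * h ∈ A → h ∈ A ∨ t₁⁻¹ * h ∈ A := by
        intro hhh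
        by_cases hhA : h ∈ A
        · exact Or.inl hhA
        · right
          obtain ⟨hha, -⟩ := hc h hhA hhh
          apply hCA
          rw [Subgroup.mem_centralizer_iff]
          intro x hx
          obtain ⟨i, rfl⟩ := Subgroup.mem_zpowers_iff.mp ((hAeq x).mp hx)
          have h2 : Commute (t₁⁻¹ * h) a := by
            show t₁⁻¹ * h * a = a * (t₁⁻¹ * h)
            have e1 : h * a = a⁻¹ * h := by
              calc h * a = (h * a * h⁻¹) * h := by group
                _ = a⁻¹ * h := by rw [hha]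
            have e2 : t₁⁻¹ * a⁻¹ = a * t₁⁻¹ := by
              have : a⁻¹ = t₁ * a * t₁⁻¹ := ht₁a.symm
              rw [this]; group
            calc t₁⁻¹ * h * a = t₁⁻¹ * (h * a) := by group
              _ = t₁⁻¹ * (a⁻¹ * h) := by rw [e1]
              _ = (t₁⁻¹ * a⁻¹) * h := by group
              _ = (a * t₁⁻¹) * h := by rw [e2]
              _ = a * (t₁⁻¹ * h) := by group
          exact ((h2.zpow_right i).eq).symm
      rcases ih (h * h) hh' with h1 | h1
      · exact case1 h1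
      · by_cases hhh : h * h ∈ A
        · exact case1 hhh
        · exfalso
          -- u = h * h = t₁ * x with x ∈ A
          have hxA : t₁⁻¹ * (h * h) ∈ A := h1
          have huu : (h * h) * (h * h) ∈ A := by
            have e : (h * h) * (h * h) =
                (t₁ * (t₁⁻¹ * (h * h)) * t₁⁻¹) * (t₁ * t₁) * (t₁⁻¹ * (h * h)) := by group
            rw [e]
            exact A.mul_mem (A.mul_mem (hAn.conj_mem _ hxA t₁) ht₁t₁) hxA
          obtain ⟨hua, -⟩ := hc (h * h) hhh huu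
          obtain ⟨r, hr⟩ := Cfsg.Agent.S3303.exists_nat_pow a (h * a * h⁻¹)
            ((hAeq _).mp (hAn.conj_mem a haA h))
          have e1 : (h * h) * a * (h * h)⁻¹ = a ^ (r * r) := by
            calc (h * h) * a * (h * h)⁻¹ = h * (h * a * h⁻¹) * h⁻¹ := by group
              _ = h * a ^ r * h⁻¹ := by rw [hr]
              _ = (h * a * h⁻¹) ^ r := by rw [conj_pow]
              _ = a ^ (r * r) := by rw [hr, ← pow_mul]
          rw [hua] at e1
          have e2 : a ^ (r * r + 1) = 1 := by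
            rw [pow_succ, ← e1, inv_mul_cancel]
          have hdvd : orderOf a ∣ r * r + 1 := orderOf_dvd_of_pow_eq_one e2
          rw [hk] at hdvd
          have h4 : 4 ∣ r * r + 1 := by
            have : (4 : ℕ) ∣ 2 ^ k := by
              have : (2 : ℕ) ^ 2 ∣ 2 ^ k := pow_dvd_pow 2 hk2
              simpa using this
            exact this.trans hdvd
          have h5 : (r * r + 1) % 4 = 0 := Nat.mod_eq_zero_of_dvd h4
          have h6 : (r * r) % 4 = ((r % 4) * (r % 4)) % 4 := Nat.mul_mod r r 4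
          have h7 : r % 4 < 4 := Nat.mod_lt r (by norm_num)
          interval_cases hr4 : r % 4 <;> omega
  refine ⟨a, t₁, k, hk2, hk, ?_, ?_, ht₁a, ht₁z, ?_⟩
  · rwa [← hAeq]
  · intro h
    obtain ⟨e, he⟩ := (IsPGroup.iff_orderOf.mp hP) h
    have : h ^ (2 ^ e) ∈ A := by rw [← he, pow_orderOf_eq_one]; exact A.one_mem
    rcases hd e h this with h1 | h1
    · left; rwa [← hAeq]
    · right; rwa [← hAeq]
  · have hsq : a ^ (2 ^ (k - 1)) * a ^ (2 ^ (k - 1)) = 1 := by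
      rw [← pow_add]
      have e : 2 ^ (k - 1) + 2 ^ (k - 1) = 2 ^ k := by
        obtain ⟨k', rfl⟩ : ∃ k', k = k' + 1 := ⟨k - 1, by omega⟩
        simp; ring
      rw [e, hak]
    rcases hz.uniq _ hsq with e | e
    · exfalso
      have hdvd : orderOf a ∣ 2 ^ (k - 1) := orderOf_dvd_of_pow_eq_one e
      rw [hk] at hdvd
      have := Nat.le_of_dvd (by positivity) hdvd
      have hlt : 2 ^ (k - 1) < 2 ^ k := Nat.pow_lt_pow_right (by norm_num) (by omega)
      omega
    · exact e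


/-- From `∃! x, orderOf x = 2` to `UInv`. -/
theorem uinv_of_existsUnique {Q : Type*} [Group Q] (h : ∃! x : Q, orderOf x = 2) :
    ∃ z : Q, UInv z := by
  obtain ⟨z, hz, huniq⟩ := h
  refine ⟨z, ?_, ?_, ?_⟩
  · intro e
    rw [e, orderOf_one] at hz
    norm_num at hz
  · rw [← pow_two, ← hz]; exact pow_orderOf_eq_one z
  · intro g hg
    by_cases h1 : g = 1
    · exact Or.inl h1
    · right
      apply huniq
      have : Fact (Nat.Prime 2) := ⟨Nat.prime_two⟩
      exact orderOf_eq_prime (by rw [pow_two]; exact hg) h1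

theorem unique_of_uinv {Q : Type*} [Group Q] {z : Q} (hz : UInv z) : ∃! x : Q, orderOf x = 2 := by
  have : Fact (Nat.Prime 2) := ⟨Nat.prime_two⟩
  refine ⟨z, orderOf_eq_prime (by rw [pow_two]; exact hz.sq) hz.ne, ?_⟩
  intro y hy
  have hy2 : y * y = 1 := by rw [← pow_two, ← hy]; exact pow_orderOf_eq_one y
  rcases hz.uniq y hy2 with e | e
  · rw [e, orderOf_one] at hy; norm_num at hy
  · exact e

theorem exists_noncomm {Q : Type*} [Group Q] (h : ¬ IsMulCommutative Q) :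
    ∃ g k : Q, g * k ≠ k * g := by
  by_contra hall
  push Not at hall
  exact h ⟨⟨hall⟩⟩

/-- Lemma IC: if `A` is an abelian normal subgroup of index `2` generated modulo the centre by
`x`, then the derived subgroup is contained in `⟨[y, x]⟩`. -/
theorem commutator_le_zpowers {S : Type*} [Group S] (A : Subgroup S)
    (hAab : ∀ a ∈ A, ∀ b ∈ A, a * b = b * a) (hAn : A.Normal)
    (x y : S) (hyy : y * y ∈ A) (hidx : ∀ s : S, s ∈ A ∨ y⁻¹ * s ∈ A)
    (hgen : ∀ a ∈ A, ∃ (i : ℤ) (d : S), (∀ s : S, d * s = s * d) ∧ a = x ^ i * d)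
    (hx : x ∈ A) :
    commutator S ≤ Subgroup.zpowers (y * x * y⁻¹ * x⁻¹) := by
  have hφ : ∀ a ∈ A, y * a * y⁻¹ * a⁻¹ ∈ Subgroup.zpowers (y * x * y⁻¹ * x⁻¹) := by
    intro a ha
    obtain ⟨i, d, hd, rfl⟩ := hgen a ha
    have h1 : d * y⁻¹ = y⁻¹ * d := hd y⁻¹
    have hc : Commute (y * x * y⁻¹) x⁻¹ :=
      hAab _ (hAn.conj_mem x hx y) _ (A.inv_mem hx)
    have e : y * (x ^ i * d) * y⁻¹ * (x ^ i * d)⁻¹ = (y * x * y⁻¹ * x⁻¹) ^ i := by
      calc y * (x ^ i * d) * y⁻¹ * (x ^ i * d)⁻¹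
          = y * x ^ i * (d * y⁻¹) * d⁻¹ * (x ^ i)⁻¹ := by group
        _ = y * x ^ i * (y⁻¹ * d) * d⁻¹ * (x ^ i)⁻¹ := by rw [h1]
        _ = (y * x ^ i * y⁻¹) * (x ^ i)⁻¹ := by group
        _ = (y * x * y⁻¹) ^ i * (x⁻¹) ^ i := by rw [conj_zpow, inv_zpow]
        _ = (y * x * y⁻¹ * x⁻¹) ^ i := (hc.mul_zpow i).symm
    rw [e]
    exact Subgroup.zpow_mem _ (Subgroup.mem_zpowers _) i
  have hσφ : ∀ a ∈ A, y * (y * a * y⁻¹ * a⁻¹) * y⁻¹ = (y * a * y⁻¹ * a⁻¹)⁻¹ := by
    intro a ha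
    have h1 : (y * y) * a = a * (y * y) := hAab _ hyy _ ha
    calc y * (y * a * y⁻¹ * a⁻¹) * y⁻¹ = ((y * y) * a) * (y * y)⁻¹ * (y * a * y⁻¹)⁻¹ := by group
      _ = (a * (y * y)) * (y * y)⁻¹ * (y * a * y⁻¹)⁻¹ := by rw [h1]
      _ = (y * a * y⁻¹ * a⁻¹)⁻¹ := by group
  rw [commutator_def, Subgroup.commutator_le]
  intro u _ v _
  have case2 : ∀ s ∈ A, ∀ v ∈ A, ⁅y * s, v⁆ ∈ Subgroup.zpowers (y * x * y⁻¹ * x⁻¹) := by
    intro s hs v hv
    have h1 : s * v = v * s := hAab s hs v hv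
    have e : ⁅y * s, v⁆ = y * v * y⁻¹ * v⁻¹ := by
      rw [commutatorElement_def]
      calc y * s * v * (y * s)⁻¹ * v⁻¹ = y * (s * v) * s⁻¹ * y⁻¹ * v⁻¹ := by group
        _ = y * (v * s) * s⁻¹ * y⁻¹ * v⁻¹ := by rw [h1]
        _ = y * v * y⁻¹ * v⁻¹ := by group
    rw [e]
    exact hφ v hv
  rcases hidx u with hu | hu <;> rcases hidx v with hv | hv
  · have : ⁅u, v⁆ = 1 := by
      rw [commutatorElement_eq_one_iff_commute]
      exact hAab u hu v hv
    rw [this]; exact Subgroup.one_mem _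
  · have e : v = y * (y⁻¹ * v) := by group
    rw [e, ← commutatorElement_inv]
    exact Subgroup.inv_mem _ (case2 _ hv u hu)
  · have e : u = y * (y⁻¹ * u) := by group
    rw [e]
    exact case2 _ hu v hv
  · -- u = y s, v = y s'
    set s := y⁻¹ * u with hs
    set s' := y⁻¹ * v with hs'
    have eu : u = y * s := by rw [hs]; group
    have ev : v = y * s' := by rw [hs']; group
    have hw : s' * s⁻¹ ∈ A := A.mul_mem hv (A.inv_mem hu)
    have hconj : y * (s' * s⁻¹) * y⁻¹ ∈ A := hAn.conj_mem _ hw y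
    have h1 : s * (y * (s' * s⁻¹) * y⁻¹) = (y * (s' * s⁻¹) * y⁻¹) * s := hAab _ hu _ hconj
    have h2 : s * s'⁻¹ = s'⁻¹ * s := hAab _ hu _ (A.inv_mem hv)
    have e : ⁅u, v⁆ = y * (y * (s' * s⁻¹) * y⁻¹ * (s' * s⁻¹)⁻¹) * y⁻¹ := by
      rw [eu, ev, commutatorElement_def]
      calc y * s * (y * s') * (y * s)⁻¹ * (y * s')⁻¹
          = y * (s * (y * (s' * s⁻¹) * y⁻¹)) * s'⁻¹ * y⁻¹ := by group
        _ = y * ((y * (s' * s⁻¹) * y⁻¹) * s) * s'⁻¹ * y⁻¹ := by rw [h1]
        _ = y * (y * (s' * s⁻¹) * y⁻¹) * (s * s'⁻¹) * y⁻¹ := by group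
        _ = y * (y * (s' * s⁻¹) * y⁻¹) * (s'⁻¹ * s) * y⁻¹ := by rw [h2]
        _ = y * (y * (s' * s⁻¹) * y⁻¹ * (s' * s⁻¹)⁻¹) * y⁻¹ := by
          have h3 : s'⁻¹ * s = s * s'⁻¹ := h2.symm
          rw [h3]; group
    rw [e, hσφ _ hw]
    exact Subgroup.inv_mem _ (hφ _ hw)

/-- In the situation of `structure_thm`, `⟨x⟩` is normal. -/
theorem zpowers_normal {P : Type*} [Group P] (x y : P)
    (hidx : ∀ g : P, g ∈ Subgroup.zpowers x ∨ y⁻¹ * g ∈ Subgroup.zpowers x)
    (hinv : y * x * y⁻¹ = x⁻¹) : (Subgroup.zpowers x).Normal := by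
  constructor
  intro n hn g
  obtain ⟨i, rfl⟩ := Subgroup.mem_zpowers_iff.mp hn
  have hy : y * x ^ i * y⁻¹ ∈ Subgroup.zpowers x := by
    rw [← conj_zpow, hinv]
    exact Subgroup.zpow_mem _ (Subgroup.inv_mem _ (Subgroup.mem_zpowers x)) i
  rcases hidx g with hg | hg
  · obtain ⟨j, rfl⟩ := Subgroup.mem_zpowers_iff.mp hg
    have : x ^ j * x ^ i * (x ^ j)⁻¹ = x ^ i := by
      rw [← zpow_neg, ← zpow_add, ← zpow_add]; congr 1; ring
    rw [this]; exact Subgroup.zpow_mem _ (Subgroup.mem_zpowers x) i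
  · obtain ⟨j, hj⟩ := Subgroup.mem_zpowers_iff.mp hg
    have e : g = y * x ^ j := by rw [hj]; group
    have e2 : g * x ^ i * g⁻¹ = y * x ^ i * y⁻¹ := by
      rw [e]
      have : x ^ j * x ^ i * (x ^ j)⁻¹ = x ^ i := by
        rw [← zpow_neg, ← zpow_add, ← zpow_add]; congr 1; ring
      calc y * x ^ j * x ^ i * (y * x ^ j)⁻¹ = y * (x ^ j * x ^ i * (x ^ j)⁻¹) * y⁻¹ := by group
        _ = y * x ^ i * y⁻¹ := by rw [this]
    rw [e2]; exact hy

/-- the output of `structure_thm`, bundled. -/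
structure GQ {P : Type*} [Group P] (z x y : P) (k : ℕ) : Prop where
  hk : 2 ≤ k
  ord : orderOf x = 2 ^ k
  hy : y ∉ Subgroup.zpowers x
  idx : ∀ g : P, g ∈ Subgroup.zpowers x ∨ y⁻¹ * g ∈ Subgroup.zpowers x
  inv : y * x * y⁻¹ = x⁻¹
  yy : y * y = z
  xz : x ^ (2 ^ (k - 1)) = z

theorem exists_GQ {P : Type*} [Group P] [Finite P] (hP : IsPGroup 2 P) {z : P} (hz : UInv z)
    (hna : ∃ g h : P, g * h ≠ h * g) : ∃ (x y : P) (k : ℕ), GQ z x y k := by
  obtain ⟨x, y, k, h1, h2, h3, h4, h5, h6, h7⟩ := structure_thm hP hz hna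
  exact ⟨x, y, k, h1, h2, h3, h4, h5, h6, h7⟩

theorem UInv.central {P : Type*} [Group P] {z : P} (hz : UInv z) (g : P) : g * z = z * g := by
  have h1 : (g * z * g⁻¹) * (g * z * g⁻¹) = 1 := by
    calc (g * z * g⁻¹) * (g * z * g⁻¹) = g * (z * z) * g⁻¹ := by group
      _ = 1 := by rw [hz.sq]; group
  rcases hz.uniq _ h1 with e | e
  · exfalso
    apply hz.ne
    have : z = g⁻¹ * (g * z * g⁻¹) * g := by group
    rw [this, e]; group
  · calc g * z = (g * z * g⁻¹) * g := by group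
      _ = z * g := by rw [e]

namespace GQ

variable {P : Type*} [Group P] {z x y : P} {k : ℕ}

theorem x_pow (h : GQ z x y k) : x ^ (2 ^ k) = 1 := by
  rw [← h.ord]; exact pow_orderOf_eq_one x

theorem conj_mem (h : GQ z x y k) (g : P) (hg : g ∈ Subgroup.zpowers x) : y * g * y⁻¹ = g⁻¹ := by
  obtain ⟨i, rfl⟩ := Subgroup.mem_zpowers_iff.mp hg
  rw [← conj_zpow, h.inv, inv_zpow]

theorem z_mem (h : GQ z x y k) : z ∈ Subgroup.zpowers x := by
  rw [← h.xz]; exact Subgroup.npow_mem_zpowers _ _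

theorem xx_ne (h : GQ z x y k) : x * x ≠ 1 := by
  intro e
  have h1 : orderOf x ∣ 2 := orderOf_dvd_of_pow_eq_one (by rw [pow_two]; exact e)
  rw [h.ord] at h1
  have h2 : 2 ^ 2 ≤ 2 ^ k := Nat.pow_le_pow_right (by norm_num) h.hk
  have := Nat.le_of_dvd (by norm_num) h1
  omega

/-- every element outside `⟨x⟩` squares to `z`. -/
theorem sq_of_not_mem (h : GQ z x y k) (g : P) (hg : g ∉ Subgroup.zpowers x) : g * g = z := by
  rcases h.idx g with h1 | h1
  · exact absurd h1 hg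
  · have e : g = y * (y⁻¹ * g) := by group
    have h2 := h.conj_mem _ h1
    calc g * g = (y * (y⁻¹ * g) * y⁻¹) * (y * y) * (y⁻¹ * g) := by group
      _ = (y⁻¹ * g)⁻¹ * z * (y⁻¹ * g) := by rw [h2, h.yy]
      _ = z := by
        have := comm_zpowers x _ _ h.z_mem h1
        rw [mul_assoc, this]; group

theorem pow_eq_one (h : GQ z x y k) (hz : UInv z) (g : P) : g ^ (2 ^ k) = 1 := by
  by_cases hg : g ∈ Subgroup.zpowers x
  · obtain ⟨i, rfl⟩ := Subgroup.mem_zpowers_iff.mp hg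
    rw [← zpow_natCast, ← zpow_mul, mul_comm, zpow_mul, zpow_natCast, h.x_pow, one_zpow]
  · have h1 := h.sq_of_not_mem g hg
    obtain ⟨k', rfl⟩ : ∃ k', k = k' + 2 := ⟨k - 2, by have := h.hk; omega⟩
    have e : 2 ^ (k' + 2) = 2 * (2 * 2 ^ k') := by ring
    rw [e, pow_mul, pow_two, h1, pow_mul, pow_two, hz.sq, one_pow]

/-- central elements lie in `⟨x⟩` and have square `1`. -/
theorem central (h : GQ z x y k) (g : P) (hg : ∀ s : P, g * s = s * g) :
    g ∈ Subgroup.zpowers x ∧ g * g = 1 := by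
  have hmem : g ∈ Subgroup.zpowers x := by
    by_contra hnot
    rcases h.idx g with h1 | h1
    · exact hnot h1
    · -- g = y * a with a ∈ ⟨x⟩ commutes with x, so y commutes with x
      have hax : (y⁻¹ * g) * x = x * (y⁻¹ * g) := comm_zpowers x _ _ h1 (Subgroup.mem_zpowers x)
      have hgx := hg x
      have hyx : y * x = x * y := by
        have e : g = y * (y⁻¹ * g) := by group
        calc y * x = y * (x * (y⁻¹ * g)) * (y⁻¹ * g)⁻¹ := by group
          _ = y * ((y⁻¹ * g) * x) * (y⁻¹ * g)⁻¹ := by rw [hax]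
          _ = (g * x) * (y⁻¹ * g)⁻¹ := by group
          _ = (x * g) * (y⁻¹ * g)⁻¹ := by rw [hgx]
          _ = x * y := by group
      have : x⁻¹ = x := by
        rw [← h.inv]
        calc y * x * y⁻¹ = (x * y) * y⁻¹ := by rw [hyx]
          _ = x := by group
      apply h.xx_ne
      calc x * x = x⁻¹ * x := by rw [this]
        _ = 1 := inv_mul_cancel x
  refine ⟨hmem, ?_⟩
  have h1 := h.conj_mem g hmem
  have h2 : y * g * y⁻¹ = g := by
    rw [← hg y]; group
  rw [h2] at h1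
  calc g * g = g⁻¹ * g := by rw [← h1]
    _ = 1 := inv_mul_cancel g

end GQ

/-- The quaternion-type subgroup `⟨x⟩ ∪ y⟨x⟩`. -/
def quat {S : Type*} [Group S] (x y : S) (hinv : y * x * y⁻¹ = x⁻¹)
    (hyy : y * y ∈ Subgroup.zpowers x) : Subgroup S where
  carrier := {s | s ∈ Subgroup.zpowers x ∨ y⁻¹ * s ∈ Subgroup.zpowers x}
  one_mem' := Or.inl (Subgroup.one_mem _)
  mul_mem' := by
    have hconj : ∀ a ∈ Subgroup.zpowers x, y⁻¹ * a * y ∈ Subgroup.zpowers x := by
      intro a ha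
      obtain ⟨i, rfl⟩ := Subgroup.mem_zpowers_iff.mp ha
      have h0 : y⁻¹ * x⁻¹ * y = x := by rw [← hinv]; group
      have h1 : y⁻¹ * x * y = x⁻¹ := by
        have : y⁻¹ * x * y = (y⁻¹ * x⁻¹ * y)⁻¹ := by group
        rw [this, h0]
      have h2 : y⁻¹ * x ^ i * y = (y⁻¹ * x * y) ^ i := by
        have := conj_zpow (a := y⁻¹) (b := x) (i := i)
        simp only [inv_inv] at this
        exact this.symm
      rw [h2, h1]
      exact Subgroup.zpow_mem _ (Subgroup.inv_mem _ (Subgroup.mem_zpowers x)) i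
    rintro a b (ha | ha) (hb | hb)
    · exact Or.inl (Subgroup.mul_mem _ ha hb)
    · right
      have e : y⁻¹ * (a * b) = (y⁻¹ * a * y) * (y⁻¹ * b) := by group
      rw [e]
      exact Subgroup.mul_mem _ (hconj a ha) hb
    · right
      have e : y⁻¹ * (a * b) = (y⁻¹ * a) * b := by group
      rw [e]
      exact Subgroup.mul_mem _ ha hb
    · left
      have e : a * b = (y * y) * (y⁻¹ * (y⁻¹ * a) * y) * (y⁻¹ * b) := by group
      rw [e]
      exact Subgroup.mul_mem _ (Subgroup.mul_mem _ hyy (hconj _ ha)) hb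
  inv_mem' := by
    have hconj' : ∀ a ∈ Subgroup.zpowers x, y * a * y⁻¹ ∈ Subgroup.zpowers x := by
      intro a ha
      obtain ⟨i, rfl⟩ := Subgroup.mem_zpowers_iff.mp ha
      rw [← conj_zpow, hinv]
      exact Subgroup.zpow_mem _ (Subgroup.inv_mem _ (Subgroup.mem_zpowers x)) i
    rintro a (ha | ha)
    · exact Or.inl (Subgroup.inv_mem _ ha)
    · right
      have e : y⁻¹ * a⁻¹ = (y * y)⁻¹ * (y * (y⁻¹ * a)⁻¹ * y⁻¹) := by group
      rw [e]
      exact Subgroup.mul_mem _ (Subgroup.inv_mem _ hyy)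
        (hconj' _ (Subgroup.inv_mem _ ha))

theorem mem_quat {S : Type*} [Group S] (x y : S) (hinv : y * x * y⁻¹ = x⁻¹)
    (hyy : y * y ∈ Subgroup.zpowers x) (s : S) :
    s ∈ quat x y hinv hyy ↔ s ∈ Subgroup.zpowers x ∨ y⁻¹ * s ∈ Subgroup.zpowers x := Iff.rfl

end Cfsg.Agent.H16UniqueInvol
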