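import Mathlib

set_option autoImplicit false

/-!
# Recognising generalized quaternion groups

`quatHom x y` : if `x ^ (2n) = 1`, `y ^ 2 = x ^ n`, `y x y⁻¹ = x⁻¹` there is a homomorphism
`QuaternionGroup n →* G` with `a 1 ↦ x`, `xa 0 ↦ y`; it is injective as soon as `orderOf x = 2n`
and `2 ≤ n`.
-/

namespace Cfsg.Agent.helper11.QuatPres

open QuaternionGroup

variable {G : Type*} [Group G] {n : ℕ} [NeZero n]

/-- powers of `x` indexed by `ZMod (2n)` -/
def e (x : G) (i : ZMod (2 * n)) : G := x ^ i.val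

section

variable {x y : G} (hx : x ^ (2 * n) = 1)

include hx

theorem e_add (i j : ZMod (2 * n)) : e x (i + j) = e x i * e x j := by
  unfold e
  rw [ZMod.val_add, ← pow_eq_pow_mod _ hx, pow_add]

theorem e_zero : e x (0 : ZMod (2 * n)) = 1 := by
  unfold e
  rw [ZMod.val_zero, pow_zero]

omit hx in
theorem e_zero' : e x (0 : ZMod (2 * n)) = 1 := by
  unfold e
  rw [ZMod.val_zero, pow_zero]

theorem e_neg (i : ZMod (2 * n)) : e x (-i) = (e x i)⁻¹ := by
  apply eq_inv_of_mul_eq_one_left
  rw [← e_add hx, neg_add_cancel, e_zero']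

theorem e_sub (i j : ZMod (2 * n)) : e x (i - j) = e x i * (e x j)⁻¹ := by
  rw [sub_eq_add_neg, e_add hx, e_neg hx]

theorem e_natCast (k : ℕ) : e x ((k : ℕ) : ZMod (2 * n)) = x ^ k := by
  unfold e
  rw [ZMod.val_natCast, ← pow_eq_pow_mod _ hx]

omit hx in
theorem conj_e (hxy : y * x * y⁻¹ = x⁻¹) (i : ZMod (2 * n)) :
    y * e x i * y⁻¹ = (e x i)⁻¹ := by
  unfold e
  rw [← conj_pow, hxy, inv_pow]

theorem e_mul_y (hxy : y * x * y⁻¹ = x⁻¹) (i : ZMod (2 * n)) :
    e x i * y = y * e x (-i) := by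
  have h := conj_e (n := n) hxy (-i)
  rw [e_neg hx, inv_inv] at h
  rw [e_neg hx]
  exact (mul_inv_eq_iff_eq_mul.mp h).symm

/-- the underlying function -/
def quatFun (x y : G) : QuaternionGroup n → G
  | a i => e x i
  | xa i => y * e x i

theorem quatFun_mul (hy : y ^ 2 = x ^ n) (hxy : y * x * y⁻¹ = x⁻¹)
    (u v : QuaternionGroup n) : quatFun x y (u * v) = quatFun x y u * quatFun x y v := by
  rcases u with i | i <;> rcases v with j | j
  · rw [a_mul_a]
    simp only [quatFun]
    exact e_add hx i j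
  · rw [a_mul_xa]
    simp only [quatFun]
    rw [← mul_assoc, e_mul_y hx hxy, mul_assoc, ← e_add hx, neg_add_eq_sub]
  · rw [xa_mul_a]
    simp only [quatFun]
    rw [e_add hx, mul_assoc]
  · rw [xa_mul_xa]
    simp only [quatFun]
    rw [mul_assoc, ← mul_assoc (e x i), e_mul_y hx hxy, ← mul_assoc, ← mul_assoc, ← pow_two, hy,
      mul_assoc, ← e_add hx, ← e_natCast hx, ← e_add hx]
    congr 1
    ring

/-- the homomorphism from the generalized quaternion group -/
def quatHom (x y : G) (hx : x ^ (2 * n) = 1) (hy : y ^ 2 = x ^ n) (hxy : y * x * y⁻¹ = x⁻¹) :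
    QuaternionGroup n →* G :=
  MonoidHom.mk' (quatFun x y) (quatFun_mul hx hy hxy)

omit hx in
theorem quatHom_injective (hn : 2 ≤ n) (hord : orderOf x = 2 * n) (hy : y ^ 2 = x ^ n)
    (hxy : y * x * y⁻¹ = x⁻¹) :
    Function.Injective (quatHom x y (by rw [← hord]; exact pow_orderOf_eq_one x) hy hxy) := by
  have hx : x ^ (2 * n) = 1 := by rw [← hord]; exact pow_orderOf_eq_one x
  rw [injective_iff_map_eq_one]
  intro u hu
  change quatFun x y u = 1 at hu
  rcases u with i | i
  · simp only [quatFun, e] at hu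
    have h1 := orderOf_dvd_of_pow_eq_one hu
    rw [hord] at h1
    have h2 : i.val < 2 * n := ZMod.val_lt i
    have h3 : i.val = 0 := Nat.eq_zero_of_dvd_of_lt h1 h2
    rw [ZMod.val_eq_zero] at h3
    rw [h3, a_zero]
  · exfalso
    simp only [quatFun] at hu
    -- y = (e x i)⁻¹ commutes with x
    have hyx : y = (e x i)⁻¹ := eq_inv_of_mul_eq_one_left hu
    have hcomm : y * x = x * y := by
      rw [hyx]
      unfold e
      rw [← inv_pow]
      exact ((Commute.refl x).inv_left.pow_left _).eq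
    have h1 : x = x⁻¹ := by
      rw [← hxy, hcomm, mul_inv_cancel_right]
    have h2 : x ^ 2 = 1 := by
      rw [pow_two]
      nth_rewrite 2 [h1]
      exact mul_inv_cancel x
    have h3 := orderOf_dvd_of_pow_eq_one h2
    rw [hord] at h3
    have := Nat.le_of_dvd (by norm_num) h3
    omega

end

/-- Recognition: a subgroup isomorphic to the generalized quaternion group. -/
theorem exists_subgroup_mulEquiv (hn : 2 ≤ n) {x y : G} (hord : orderOf x = 2 * n)
    (hy : y ^ 2 = x ^ n) (hxy : y * x * y⁻¹ = x⁻¹) :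
    ∃ H : Subgroup G, Nat.card H = 4 * n ∧ Nonempty (H ≃* QuaternionGroup n) := by
  have hx : x ^ (2 * n) = 1 := by rw [← hord]; exact pow_orderOf_eq_one x
  have hinj := quatHom_injective hn hord hy hxy
  let f := quatHom x y hx hy hxy
  have eqv : QuaternionGroup n ≃* f.range := MonoidHom.ofInjective hinj
  refine ⟨f.range, ?_, ⟨eqv.symm⟩⟩
  rw [← Nat.card_congr eqv.toEquiv, Nat.card_eq_fintype_card, QuaternionGroup.card]

end Cfsg.Agent.helper11.QuatPres
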