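import Mathlib

set_option autoImplicit false
set_option linter.unusedSectionVars false
set_option linter.unusedVariables false
set_option linter.style.longLine false
set_option linter.style.haveILetI false

/-!
Normal subgroups of p-groups meet the centre; elements of order p in cyclic groups (helper1).
-/

namespace Cfsg.Agent.helper1

variable {G : Type*} [Group G]

/-- A nontrivial normal subgroup of a finite `p`-group contains a nonidentity central element. -/
theorem exists_central_of_normal_ne_bot {p : ℕ} [Fact p.Prime] [Finite G] (hG : IsPGroup p G)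
    (M : Subgroup G) [M.Normal] (hM : M ≠ ⊥) :
    ∃ z ∈ M, z ∈ Subgroup.center G ∧ z ≠ 1 := by
  have hGc : IsPGroup p (ConjAct G) := hG.of_equiv ConjAct.toConjAct
  have hMnt : Nontrivial M := (Subgroup.nontrivial_iff_ne_bot M).mpr hM
  have hMp : p ∣ Nat.card M := by
    obtain ⟨n, hn0, hn⟩ := (hG.to_subgroup M).nontrivial_iff_card.mp hMnt
    rw [hn]; exact dvd_pow_self _ (ne_of_gt hn0)
  have h1fix : (1 : M) ∈ MulAction.fixedPoints (ConjAct G) M := by
    intro g
    exact smul_one g
  obtain ⟨b, hb, hne⟩ := hGc.exists_fixed_point_of_prime_dvd_card_of_fixed_point M hMp h1fix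
  refine ⟨(b : G), b.2, ?_, ?_⟩
  · rw [Subgroup.mem_center_iff]
    intro x
    have h1 := hb (ConjAct.toConjAct x)
    have h2 : ((ConjAct.toConjAct x • b : M) : G) = (b : G) := congrArg Subtype.val h1
    rw [ConjAct.Subgroup.val_conj_smul, ConjAct.smul_def, ConjAct.ofConjAct_toConjAct] at h2
    -- h2 : x * b * x⁻¹ = b
    calc x * (b : G) = (x * (b : G) * x⁻¹) * x := by group
      _ = (b : G) * x := by rw [h2]
  · intro h
    apply hne
    exact (Subtype.ext h).symm

/-- In a finite cyclic group two elements of the same prime order generate the same subgroup. -/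
theorem mem_zpowers_of_orderOf_eq_prime {C : Type*} [Group C] [Finite C] [IsCyclic C] {p : ℕ}
    (hp : p.Prime) (y z : C) (hy : orderOf y = p) (hz : z ^ p = 1) : z ∈ Subgroup.zpowers y := by
  classical
  haveI := Fintype.ofFinite C
  have hle := IsCyclic.card_pow_eq_one_le (α := C) hp.pos
  set S : Finset C := Finset.univ.filter (fun a : C => a ^ p = 1) with hS
  set A : Finset C := (Finset.range p).image (fun i => y ^ i) with hA
  have hAS : A ⊆ S := by
    intro a ha
    obtain ⟨i, _, rfl⟩ := Finset.mem_image.mp ha
    simp only [hS, Finset.mem_filter, Finset.mem_univ, true_and]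
    rw [← pow_mul, mul_comm, pow_mul, ← hy, pow_orderOf_eq_one, one_pow]
  have hAcard : A.card = p := by
    rw [hA, Finset.card_image_of_injOn, Finset.card_range]
    intro i hi j hj hij
    simp only [Finset.coe_range, Set.mem_Iio] at hi hj
    exact pow_injOn_Iio_orderOf (by rw [Set.mem_Iio, hy]; exact hi) (by rw [Set.mem_Iio, hy]; exact hj) hij
  have hEq : A = S := Finset.eq_of_subset_of_card_le hAS (by rw [hAcard]; exact hle)
  have hzS : z ∈ S := by
    simp only [hS, Finset.mem_filter, Finset.mem_univ, true_and]; exact hz
  rw [← hEq] at hzS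
  obtain ⟨i, _, rfl⟩ := Finset.mem_image.mp hzS
  exact Subgroup.npow_mem_zpowers y i

end Cfsg.Agent.helper1
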