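import Mathlib
import Cfsg.Agent.Lib_helper3_Basic

set_option autoImplicit false

namespace Cfsg.Agent.helper23

section SZ
open Subgroup MulAction MulOpposite
open scoped Pointwise

/-- The class of a transversal in `A.QuotientDiff`. -/
noncomputable def qdMk {G : Type*} [Group G] (A : Subgroup G) [IsMulCommutative A] [A.FiniteIndex]
    (T : A.LeftTransversal) : A.QuotientDiff := Quotient.mk'' T

theorem smul_qdMk {G : Type*} [Group G] (A : Subgroup G) [IsMulCommutative A] [A.FiniteIndex]
    [A.Normal] (g : G) (T : A.LeftTransversal) : g • qdMk A T = qdMk A (op g⁻¹ • T) := rfl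

/-- A complement of an abelian normal subgroup `A` of coprime order and index is the stabilizer
of the class of itself as a transversal. -/
theorem complement_eq_stabilizer {G : Type*} [Group G] [Finite G] (A : Subgroup G) [A.Normal]
    [IsMulCommutative A] (hA : (Nat.card A).Coprime A.index) (H : Subgroup G)
    (hH : Subgroup.IsComplement' A H) :
    H = stabilizer G (qdMk A ⟨(H : Set G), hH.symm⟩) := by
  have hstab : H ≤ stabilizer G (qdMk A ⟨(H : Set G), hH.symm⟩) := by
    intro h hh
    rw [mem_stabilizer_iff, smul_qdMk]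
    congr 1
    apply Subtype.ext
    exact op_smul_coe_set (H.inv_mem hh)
  have hc : IsComplement' A (stabilizer G (qdMk A ⟨(H : Set G), hH.symm⟩)) :=
    isComplement'_stabilizer_of_coprime hA
  have hcard : Nat.card H = Nat.card (stabilizer G (qdMk A ⟨(H : Set G), hH.symm⟩)) := by
    have h1 := hH.card_mul_card
    have h2 := hc.card_mul_card
    exact Nat.eq_of_mul_eq_mul_left Nat.card_pos (h1.trans h2.symm)
  exact Subgroup.eq_of_le_of_card_ge hstab (le_of_eq hcard.symm)

/-- Schur–Zassenhaus conjugacy for an abelian normal subgroup. -/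
theorem sz_conj_abelian {G : Type*} [Group G] [Finite G] (A : Subgroup G) [A.Normal]
    [IsMulCommutative A] (hA : (Nat.card A).Coprime A.index)
    (H K : Subgroup G) (hH : Subgroup.IsComplement' A H) (hK : Subgroup.IsComplement' A K) :
    ∃ a ∈ A, MulAut.conj a • H = K := by
  obtain ⟨a, ha⟩ := exists_smul_eq hA (qdMk A ⟨(H : Set G), hH.symm⟩)
    (qdMk A ⟨(K : Set G), hK.symm⟩)
  refine ⟨a, a.2, ?_⟩
  rw [Subgroup.smul_def] at ha
  rw [complement_eq_stabilizer A hA K hK, ← ha, stabilizer_smul_eq_stabilizer_map_conj,
    ← complement_eq_stabilizer A hA H hH, Cfsg.Agent.helper3.conj_smul_eq_map]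

end SZ

end Cfsg.Agent.helper23
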