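import Mathlib
import Cfsg.Agent.Lib_helper23_PSolv3

set_option autoImplicit false
open Cfsg

universe u

namespace Cfsg.Agent.helper23

section Solv

/-- Normal subgroups reachable from `⊥` by steps of prime-power relative index
(a chief-series-like chain; exists in every finite solvable group). -/
inductive PPReach {G : Type*} [Group G] : Subgroup G → Prop
  | bot : PPReach ⊥
  | step (K L : Subgroup G) : PPReach K → K ≤ L → L.Normal →
      (∃ q m : ℕ, q.Prime ∧ K.relIndex L = q ^ m) → PPReach L

theorem PPReach.normal {G : Type*} [Group G] {K : Subgroup G} (h : PPReach K) : K.Normal := by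
  cases h with
  | bot => exact Subgroup.normal_bot
  | step K L _ _ hn _ => exact hn

theorem PPReach.comap {G : Type*} [Group G] {G' : Type*} [Group G'] (f : G →* G')
    (hf : Function.Surjective f)
    (hker : PPReach f.ker) {N' : Subgroup G'} (h : PPReach N') : PPReach (N'.comap f) := by
  induction h with
  | bot => rw [MonoidHom.comap_bot]; exact hker
  | step K' L' hK' hKL hn hfac ih =>
    refine PPReach.step _ _ ih (Subgroup.comap_mono hKL) (hn.comap f) ?_
    have e : (K'.comap f).relIndex (L'.comap f) = K'.relIndex L' := by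
      rw [Subgroup.relIndex_comap, Subgroup.map_comap_eq_self_of_surjective hf]
    rw [e]; exact hfac

theorem ppreach_top_of_solvable :
    ∀ (n : ℕ) (G : Type u) [Group G] [Finite G] [Group.IsSolvable G], Nat.card G = n →
      PPReach (⊤ : Subgroup G) := by
  intro n
  induction n using Nat.strong_induction_on with
  | _ n ih =>
    intro G _ _ _ hn
    by_cases hG : Subsingleton G
    · have h0 : (⊤ : Subgroup G) = ⊥ := Subsingleton.elim _ _
      rw [h0]; exact PPReach.bot
    · haveI : Nontrivial G := not_subsingleton_iff_nontrivial.1 hG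
      obtain ⟨q, hq⟩ := exists_pCore_ne_bot_of_solvable G
      haveI : Fact (q : ℕ).Prime := ⟨q.2⟩
      haveI hNn : (Cfsg.pCore (q : ℕ) G).Normal := helper1.pCore_normal _
      obtain ⟨m, hm⟩ := IsPGroup.iff_card.1 (helper1.pCore_isPGroup (G := G) (q : ℕ))
      have hN1 : PPReach (Cfsg.pCore (q : ℕ) G) :=
        PPReach.step ⊥ _ PPReach.bot bot_le hNn
          ⟨q, m, q.2, by rw [Subgroup.relIndex_bot_left]; exact hm⟩
      have hlt : Nat.card (G ⧸ Cfsg.pCore (q : ℕ) G) < n := by
        rw [← hn, ← Subgroup.index_eq_card, ← (Cfsg.pCore (q : ℕ) G).index_mul_card]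
        have h1 : 1 < Nat.card (Cfsg.pCore (q : ℕ) G) :=
          (Cfsg.pCore (q : ℕ) G).one_lt_card_iff_ne_bot.2 hq
        have hpos : 0 < (Cfsg.pCore (q : ℕ) G).index :=
          Nat.pos_of_ne_zero Subgroup.index_ne_zero_of_finite
        nlinarith
      have h1 := ih _ hlt (G ⧸ Cfsg.pCore (q : ℕ) G) rfl
      have h2 := PPReach.comap (QuotientGroup.mk' (Cfsg.pCore (q : ℕ) G))
        (QuotientGroup.mk'_surjective _) (by rw [QuotientGroup.ker_mk']; exact hN1) h1
      rwa [Subgroup.comap_top] at h2

/-- `C_G(F(G)) ≤ F(G)` whenever `G` has a normal chain with prime-power factors. -/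
theorem fitting_self_centralizing {G : Type*} [Group G] [Finite G]
    (h : PPReach (⊤ : Subgroup G)) :
    Subgroup.centralizer ((Cfsg.fittingSubgroup G : Subgroup G) : Set G) ≤
      Cfsg.fittingSubgroup G := by
  haveI hFn : (Cfsg.fittingSubgroup G).Normal := helper1.fitting_normal
  obtain ⟨D, hD⟩ : ∃ D : Subgroup G,
      D = Subgroup.centralizer ((Cfsg.fittingSubgroup G : Subgroup G) : Set G) := ⟨_, rfl⟩
  rw [← hD]
  have hDn : D.Normal := by rw [hD]; exact Subgroup.normal_centralizer
  have hDc : ∀ b ∈ D, ∀ a ∈ Cfsg.fittingSubgroup G, a * b = b * a := by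
    intro b hb a ha
    rw [hD, Subgroup.mem_centralizer_iff] at hb
    exact hb a ha
  have key : ∀ X : Subgroup G, PPReach X → X ⊓ D ≤ Cfsg.fittingSubgroup G := by
    intro X hX
    induction hX with
    | bot => rw [bot_inf_eq]; exact bot_le
    | step K L hK hKL hLn hfac ih =>
      obtain ⟨q, m, hq, hm⟩ := hfac
      haveI : Fact q.Prime := ⟨hq⟩
      have hKn := hK.normal
      have hL'n : (L ⊓ D).Normal := @Subgroup.normal_inf_normal _ _ L D hLn hDn
      have hL₀n : (K ⊓ D).Normal := @Subgroup.normal_inf_normal _ _ K D hKn hDn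
      have hd := relIndex_inf_dvd (D := D) hKn hKL
      rw [hm] at hd
      obtain ⟨j, _, hj⟩ := (Nat.dvd_prime_pow hq).1 hd
      have hnil : Group.IsNilpotent ↥(L ⊓ D) := by
        haveI hNn : ((K ⊓ D).subgroupOf (L ⊓ D)).Normal := hL₀n.subgroupOf _
        have hcard : Nat.card (↥(L ⊓ D) ⧸ (K ⊓ D).subgroupOf (L ⊓ D)) = q ^ j := by
          rw [← Subgroup.index_eq_card]; exact hj
        haveI : Group.IsNilpotent (↥(L ⊓ D) ⧸ (K ⊓ D).subgroupOf (L ⊓ D)) :=
          (IsPGroup.of_card hcard).isNilpotent
        apply Subgroup.isNilpotent_of_ker_le_center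
          (QuotientGroup.mk' ((K ⊓ D).subgroupOf (L ⊓ D)))
        rw [QuotientGroup.ker_mk']
        intro x hx
        rw [Subgroup.mem_center_iff]
        intro y
        apply Subtype.ext
        have hxF : (x : G) ∈ Cfsg.fittingSubgroup G := ih (Subgroup.mem_subgroupOf.1 hx)
        have hyD : (y : G) ∈ D := (Subgroup.mem_inf.1 y.2).2
        exact (hDc _ hyD _ hxF).symm
      exact helper1.le_fitting hL'n hnil
  have h2 := key ⊤ h
  rwa [top_inf_eq] at h2

end Solv

end Cfsg.Agent.helper23
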