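import Mathlib
import Cfsg.Agent.Lib_helper23_Solv

set_option autoImplicit false
open Cfsg

universe u

namespace Cfsg.Agent.helper23

section Solv2
variable {G : Type*} [Group G]

theorem index_mul_card_inf_of_sup_eq_top [Finite G] (H K : Subgroup G) [K.Normal]
    (h : H ⊔ K = ⊤) : H.index * Nat.card (K ⊓ H : Subgroup G) = Nat.card K := by
  have h1 : K.relIndex H = K.index := by
    rw [← Subgroup.relIndex_sup_right H K, h, Subgroup.relIndex_top_right]
  have h2 : Nat.card (K ⊓ H : Subgroup G) * K.relIndex H = Nat.card H := by
    have h0 := Subgroup.relIndex_mul_relIndex ⊥ (K ⊓ H) H bot_le inf_le_right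
    rwa [Subgroup.relIndex_bot_left, Subgroup.relIndex_bot_left, Subgroup.inf_relIndex_right] at h0
  have h3 : H.index * Nat.card H = Nat.card G := H.index_mul_card
  have h4 : K.index * Nat.card K = Nat.card G := K.index_mul_card
  have h5 : K.index * (H.index * Nat.card (K ⊓ H : Subgroup G)) = K.index * Nat.card K := by
    rw [h4, ← h3, ← h2, h1]; ring
  exact Nat.eq_of_mul_eq_mul_left (Nat.pos_of_ne_zero Subgroup.index_ne_zero_of_finite) h5

/-- In a group with a prime-power normal chain, maximal subgroups have prime power index. -/
theorem coatom_index_primePow [Finite G] (hpp : PPReach (⊤ : Subgroup G)) (M : Subgroup G)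
    (hM : IsCoatom M) : IsPrimePow M.index := by
  have key : ∀ X : Subgroup G, PPReach X → X ≤ M ∨ IsPrimePow M.index := by
    intro X hX
    induction hX with
    | bot => exact Or.inl bot_le
    | step K L hK hKL hLn hfac ih =>
      rcases ih with hKM | hdone
      · by_cases hLM : L ≤ M
        · exact Or.inl hLM
        · right
          obtain ⟨q, m, hq, hm⟩ := hfac
          haveI := hLn
          have hsup : M ⊔ L = ⊤ :=
            hM.2 _ (lt_of_le_of_ne le_sup_left (fun h => hLM (le_sup_right.trans h.ge)))
          have h1 := index_mul_card_inf_of_sup_eq_top M L hsup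
          have h2 : Nat.card K * q ^ m = Nat.card L := by
            have h0 := Subgroup.relIndex_mul_relIndex ⊥ K L bot_le hKL
            rwa [Subgroup.relIndex_bot_left, Subgroup.relIndex_bot_left, hm] at h0
          have hK' : K ≤ L ⊓ M := le_inf hKL hKM
          obtain ⟨t, ht⟩ := Subgroup.card_dvd_of_le hK'
          have h4 : M.index * t = q ^ m := by
            have hKpos : 0 < Nat.card K := Nat.card_pos
            apply Nat.eq_of_mul_eq_mul_left hKpos
            rw [h2, ← h1, ht]; ring
          have h5 : M.index ∣ q ^ m := Dvd.intro _ h4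
          obtain ⟨i, _, hi⟩ := (Nat.dvd_prime_pow hq).1 h5
          rw [isPrimePow_nat_iff]
          refine ⟨q, i, hq, ?_, hi.symm⟩
          rcases Nat.eq_zero_or_pos i with h0 | hpos
          · exfalso
            rw [h0, pow_zero] at hi
            exact hM.1 (Subgroup.index_eq_one.1 hi)
          · exact hpos
      · exact Or.inr hdone
  rcases key ⊤ hpp with h | h
  · exact absurd (top_le_iff.1 h) hM.1
  · exact h

end Solv2

end Cfsg.Agent.helper23
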