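import Mathlib
import Cfsg.Agent.Lib_helper23_SZ
import Cfsg.Agent.Lib_helper23_Solv2

set_option autoImplicit false
open Cfsg
open scoped Pointwise

universe u

namespace Cfsg.Agent.helper23

section Hall

theorem card_comap_mk' {G : Type*} [Group G] [Finite G] (N : Subgroup G) [N.Normal]
    (H' : Subgroup (G ⧸ N)) :
    Nat.card (H'.comap (QuotientGroup.mk' N)) = Nat.card N * Nat.card H' := by
  have hle : N ≤ H'.comap (QuotientGroup.mk' N) := le_comap_mk' N H'
  have h1 : N.relIndex (H'.comap (QuotientGroup.mk' N)) = Nat.card H' := by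
    have h0 := Subgroup.relIndex_ker (QuotientGroup.mk' N) (K := H'.comap (QuotientGroup.mk' N))
    rw [QuotientGroup.ker_mk'] at h0
    rw [h0, Subgroup.map_comap_eq_self_of_surjective (QuotientGroup.mk'_surjective _)]
  have h2 := Subgroup.relIndex_mul_relIndex ⊥ N _ bot_le hle
  rw [Subgroup.relIndex_bot_left, Subgroup.relIndex_bot_left, h1] at h2
  exact h2.symm

theorem card_map_mk'_mul {G : Type*} [Group G] (N : Subgroup G) [N.Normal] (H : Subgroup G) :
    Nat.card (H.map (QuotientGroup.mk' N)) * Nat.card (N ⊓ H : Subgroup G) = Nat.card H := by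
  have h0 := Subgroup.relIndex_ker (QuotientGroup.mk' N) (K := H)
  rw [QuotientGroup.ker_mk'] at h0
  have h2 := Subgroup.relIndex_mul_relIndex ⊥ (N ⊓ H) H bot_le inf_le_right
  rw [Subgroup.relIndex_bot_left, Subgroup.relIndex_bot_left, Subgroup.inf_relIndex_right, h0] at h2
  rw [mul_comm]; exact h2

theorem card_sup_mul_card_inf {G : Type*} [Group G] (H N : Subgroup G) [N.Normal] :
    Nat.card (H ⊔ N : Subgroup G) * Nat.card (N ⊓ H : Subgroup G) = Nat.card H * Nat.card N := by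
  have h1 := Subgroup.relIndex_sup_right H N
  have h2 := Subgroup.relIndex_mul_relIndex ⊥ N (H ⊔ N) bot_le le_sup_right
  rw [Subgroup.relIndex_bot_left, Subgroup.relIndex_bot_left, h1] at h2
  have h3 := Subgroup.relIndex_mul_relIndex ⊥ (N ⊓ H) H bot_le inf_le_right
  rw [Subgroup.relIndex_bot_left, Subgroup.relIndex_bot_left, Subgroup.inf_relIndex_right] at h3
  rw [← h2, ← h3]; ring

theorem mem_sup_of_map_mem {G : Type*} [Group G] (N : Subgroup G) [N.Normal] (H : Subgroup G) {x : G}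
    (hx : QuotientGroup.mk' N x ∈ H.map (QuotientGroup.mk' N)) : x ∈ H ⊔ N := by
  have h1 : x ∈ (H.map (QuotientGroup.mk' N)).comap (QuotientGroup.mk' N) := hx
  rwa [Subgroup.comap_map_eq, QuotientGroup.ker_mk'] at h1

theorem conj_le_of_map_le {G : Type*} [Group G] (N : Subgroup G) [N.Normal] (H K : Subgroup G)
    (g : G)
    (h : K.map (QuotientGroup.mk' N) ≤
      MulAut.conj (QuotientGroup.mk' N g) • H.map (QuotientGroup.mk' N)) :
    ∀ k ∈ K, g⁻¹ * k * g ∈ H ⊔ N := by
  intro k hk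
  have h1 := h ⟨k, hk, rfl⟩
  rw [Cfsg.Agent.helper3.mem_conj_smul_iff] at h1
  apply mem_sup_of_map_mem N H
  rw [map_mul, map_mul, map_inv]
  exact h1

/-- `N` abelian normal, `N ⊓ H = ⊥`, `K₁ ≤ H ⊔ N` with `|K₁|` coprime to `|N|`: then `K₁` is
conjugate into `H`. -/
theorem conj_into_complement {G : Type*} [Group G] [Finite G] (N : Subgroup G) [N.Normal]
    (hNab : ∀ a ∈ N, ∀ b ∈ N, a * b = b * a)
    (H K₁ : Subgroup G) (hNH : N ⊓ H = ⊥) (hK₁ : K₁ ≤ H ⊔ N)
    (hcop : (Nat.card K₁).Coprime (Nat.card N)) :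
    ∃ x : G, ∀ k ∈ K₁, x⁻¹ * k * x ∈ H := by
  obtain ⟨Y, hY⟩ : ∃ Y : Subgroup G, Y = K₁ ⊔ N := ⟨_, rfl⟩
  have hNY : N ≤ Y := by rw [hY]; exact le_sup_right
  have hK₁Y : K₁ ≤ Y := by rw [hY]; exact le_sup_left
  have hYX : Y ≤ H ⊔ N := by rw [hY]; exact sup_le hK₁ le_sup_right
  haveI hAn : (N.subgroupOf Y).Normal := Subgroup.Normal.subgroupOf inferInstance Y
  haveI hAc : IsMulCommutative (N.subgroupOf Y) :=
    ⟨⟨fun x y => Subtype.ext (Subtype.ext
      (hNab _ (Subgroup.mem_subgroupOf.1 x.2) _ (Subgroup.mem_subgroupOf.1 y.2)))⟩⟩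
  have hNK₁ : N ⊓ K₁ = ⊥ := (Subgroup.disjoint_of_coprime_natCard hcop.symm).eq_bot
  have hAcard : Nat.card (N.subgroupOf Y) = Nat.card N :=
    Nat.card_congr (Subgroup.subgroupOfEquivOfLe hNY).toEquiv
  have hAidx : (N.subgroupOf Y).index ∣ Nat.card K₁ := by
    show N.relIndex Y ∣ _
    rw [hY, Subgroup.relIndex_sup_right]
    exact Subgroup.relIndex_dvd_card N K₁
  have hA : (Nat.card (N.subgroupOf Y)).Coprime (N.subgroupOf Y).index := by
    rw [hAcard]; exact (Nat.Coprime.coprime_dvd_left hAidx hcop).symm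
  have hC₁ : Subgroup.IsComplement' (N.subgroupOf Y) (K₁.subgroupOf Y) := by
    apply Subgroup.isComplement'_of_disjoint_and_mul_eq_univ
    · rw [Subgroup.disjoint_def]
      intro x hx1 hx2
      have h1 : (x : G) ∈ N ⊓ K₁ :=
        Subgroup.mem_inf.2 ⟨Subgroup.mem_subgroupOf.1 hx1, Subgroup.mem_subgroupOf.1 hx2⟩
      rw [hNK₁, Subgroup.mem_bot] at h1
      exact Subtype.ext h1
    · rw [Set.eq_univ_iff_forall]
      intro y
      have hy : (y : G) ∈ ((N ⊔ K₁ : Subgroup G) : Set G) := by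
        rw [sup_comm, ← hY]; exact y.2
      rw [Subgroup.normal_mul] at hy
      obtain ⟨a, ha, k, hk, hak⟩ := hy
      exact ⟨⟨a, hNY ha⟩, Subgroup.mem_subgroupOf.2 ha, ⟨k, hK₁Y hk⟩,
        Subgroup.mem_subgroupOf.2 hk, Subtype.ext hak⟩
  have hC₂ : Subgroup.IsComplement' (N.subgroupOf Y) ((Y ⊓ H).subgroupOf Y) := by
    apply Subgroup.isComplement'_of_disjoint_and_mul_eq_univ
    · rw [Subgroup.disjoint_def]
      intro x hx1 hx2
      have h1 : (x : G) ∈ N ⊓ H :=
        Subgroup.mem_inf.2 ⟨Subgroup.mem_subgroupOf.1 hx1,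
          (Subgroup.mem_inf.1 (Subgroup.mem_subgroupOf.1 hx2)).2⟩
      rw [hNH, Subgroup.mem_bot] at h1
      exact Subtype.ext h1
    · rw [Set.eq_univ_iff_forall]
      intro y
      have hy : (y : G) ∈ ((N ⊔ H : Subgroup G) : Set G) := by
        rw [sup_comm]; exact hYX y.2
      rw [Subgroup.normal_mul] at hy
      obtain ⟨a, ha, h, hh, hah⟩ := hy
      have hhY : h ∈ Y := by
        have e : h = a⁻¹ * (y : G) := by rw [← hah]; group
        rw [e]; exact Y.mul_mem (Y.inv_mem (hNY ha)) y.2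
      exact ⟨⟨a, hNY ha⟩, Subgroup.mem_subgroupOf.2 ha, ⟨h, hhY⟩,
        Subgroup.mem_subgroupOf.2 (Subgroup.mem_inf.2 ⟨hhY, hh⟩), Subtype.ext hah⟩
  obtain ⟨a, _, ha⟩ := sz_conj_abelian (N.subgroupOf Y) hA _ _ hC₂ hC₁
  refine ⟨(a : G), fun k hk => ?_⟩
  have h1 : (⟨k, hK₁Y hk⟩ : Y) ∈ MulAut.conj a • (Y ⊓ H).subgroupOf Y := by
    rw [ha]; exact Subgroup.mem_subgroupOf.2 hk
  rw [Cfsg.Agent.helper3.mem_conj_smul_iff] at h1
  exact (Subgroup.mem_inf.1 (Subgroup.mem_subgroupOf.1 h1)).2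

theorem hall_step {G : Type*} [Group G] [Finite G] (N : Subgroup G) [N.Normal]
    (hNab : ∀ a ∈ N, ∀ b ∈ N, a * b = b * a)
    (q a : ℕ) (hq : q.Prime) (hNcard : Nat.card N = q ^ a)
    (IH : ∀ m' n' : ℕ, Nat.card (G ⧸ N) = m' * n' → m'.Coprime n' →
      (∃ H : Subgroup (G ⧸ N), Nat.card H = m') ∧
      (∀ H K : Subgroup (G ⧸ N), Nat.card H = m' → (Nat.card K).Coprime n' →
        ∃ g : G ⧸ N, K ≤ MulAut.conj g • H))
    (m n : ℕ) (hG : Nat.card G = m * n) (hmn : m.Coprime n) :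
    (∃ H : Subgroup G, Nat.card H = m) ∧
      (∀ H K : Subgroup G, Nat.card H = m → (Nat.card K).Coprime n →
        ∃ g : G, K ≤ MulAut.conj g • H) := by
  have hqa_pos : 0 < q ^ a := pow_pos hq.pos a
  have hQ : Nat.card (G ⧸ N) * q ^ a = m * n := by
    rw [← hG, ← hNcard, ← Subgroup.index_eq_card, N.index_mul_card]
  have hdvd : q ^ a ∣ m * n := Dvd.intro_left _ hQ
  have hmpos : 0 < m := by
    rcases Nat.eq_zero_or_pos m with h0 | h0
    · exfalso
      rw [h0, zero_mul] at hG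
      exact Nat.card_pos.ne' hG
    · exact h0
  by_cases hqm : q ∣ m
  · -- Case 1 : `q ∣ m`
    have hqn : (q ^ a).Coprime n :=
      Nat.Coprime.pow_left a (Nat.Coprime.coprime_dvd_left hqm hmn)
    obtain ⟨m', hm'⟩ := Nat.Coprime.dvd_of_dvd_mul_right hqn hdvd
    have hcard' : Nat.card (G ⧸ N) = m' * n := by
      apply Nat.eq_of_mul_eq_mul_right hqa_pos
      rw [hQ, hm']; ring
    have hm'n : m'.Coprime n := Nat.Coprime.coprime_dvd_left (Dvd.intro_left _ hm'.symm) hmn
    obtain ⟨⟨H', hH'⟩, hC'⟩ := IH m' n hcard' hm'n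
    refine ⟨⟨H'.comap (QuotientGroup.mk' N), ?_⟩, ?_⟩
    · rw [card_comap_mk', hNcard, hH', hm']
    · intro H K hH hK
      have hNH : N ≤ H := by
        have h1 := card_sup_mul_card_inf H N
        rw [hH, hNcard] at h1
        have h2 : Nat.card H ∣ Nat.card (H ⊔ N : Subgroup G) :=
          Subgroup.card_dvd_of_le le_sup_left
        rw [hH] at h2
        obtain ⟨t, ht⟩ := h2
        have h3 : Nat.card (H ⊔ N : Subgroup G) ∣ m * n := hG ▸ Subgroup.card_subgroup_dvd_card _
        have ht1 : t ∣ q ^ a := by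
          rw [ht, mul_assoc] at h1
          exact Dvd.intro _ (Nat.eq_of_mul_eq_mul_left hmpos h1)
        have ht2 : t ∣ n := by
          rw [ht] at h3
          exact (Nat.mul_dvd_mul_iff_left hmpos).1 h3
        have ht3 : t = 1 :=
          Nat.Coprime.eq_one_of_dvd (Nat.Coprime.coprime_dvd_left ht1 hqn) ht2
        have heq : H = H ⊔ N :=
          Subgroup.eq_of_le_of_card_ge le_sup_left (by rw [ht, ht3, mul_one, hH])
        exact le_sup_right.trans heq.ge
      have hHbar : Nat.card (H.map (QuotientGroup.mk' N)) = m' := by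
        have h1 := card_map_mk'_mul N H
        rw [inf_eq_left.2 hNH, hNcard, hH, hm'] at h1
        apply Nat.eq_of_mul_eq_mul_right hqa_pos
        rw [h1]; ring
      have hKbar : (Nat.card (K.map (QuotientGroup.mk' N))).Coprime n :=
        Nat.Coprime.coprime_dvd_left (Subgroup.card_map_dvd K _) hK
      obtain ⟨g', hg'⟩ := hC' _ _ hHbar hKbar
      obtain ⟨g, rfl⟩ := QuotientGroup.mk'_surjective N g'
      refine ⟨g, fun k hk => ?_⟩
      rw [Cfsg.Agent.helper3.mem_conj_smul_iff]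
      have h1 := conj_le_of_map_le N H K g hg' k hk
      rwa [sup_eq_left.2 hNH] at h1
  · -- Case 2 : `q ∤ m`
    have hqm' : (q ^ a).Coprime m :=
      Nat.Coprime.pow_left a ((Nat.Prime.coprime_iff_not_dvd hq).2 hqm)
    obtain ⟨n', hn'⟩ := Nat.Coprime.dvd_of_dvd_mul_left hqm' hdvd
    have hcard' : Nat.card (G ⧸ N) = m * n' := by
      apply Nat.eq_of_mul_eq_mul_right hqa_pos
      rw [hQ, hn']; ring
    have hmn' : m.Coprime n' := Nat.Coprime.coprime_dvd_right (Dvd.intro_left _ hn'.symm) hmn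
    obtain ⟨⟨H', hH'⟩, hC'⟩ := IH m n' hcard' hmn'
    refine ⟨?_, ?_⟩
    · obtain ⟨H₁, hH₁⟩ : ∃ H₁ : Subgroup G, H₁ = H'.comap (QuotientGroup.mk' N) := ⟨_, rfl⟩
      have hNH₁ : N ≤ H₁ := by rw [hH₁]; exact le_comap_mk' N H'
      have hcardH₁ : Nat.card H₁ = q ^ a * m := by rw [hH₁, card_comap_mk', hNcard, hH']
      haveI : (N.subgroupOf H₁).Normal := Subgroup.Normal.subgroupOf inferInstance H₁
      have hcN₁ : Nat.card (N.subgroupOf H₁) = q ^ a := by
        rw [← hNcard]; exact Nat.card_congr (Subgroup.subgroupOfEquivOfLe hNH₁).toEquiv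
      have hidx : (N.subgroupOf H₁).index = m := by
        have h1 := (N.subgroupOf H₁).card_mul_index
        rw [hcN₁, hcardH₁] at h1
        exact Nat.eq_of_mul_eq_mul_left hqa_pos h1
      obtain ⟨C, hC⟩ := Subgroup.exists_right_complement'_of_coprime (N := N.subgroupOf H₁)
        (by rw [hcN₁, hidx]; exact hqm')
      have hcC : Nat.card C = m := by
        have h1 := hC.card_mul_card
        rw [hcN₁, hcardH₁] at h1
        exact Nat.eq_of_mul_eq_mul_left hqa_pos h1
      exact ⟨C.map H₁.subtype, by rw [Subgroup.card_subtype, hcC]⟩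
    · intro H K hH hK
      have hKq : (Nat.card K).Coprime (q ^ a) :=
        Nat.Coprime.coprime_dvd_right (Dvd.intro _ hn'.symm) hK
      have hKn' : (Nat.card K).Coprime n' :=
        Nat.Coprime.coprime_dvd_right (Dvd.intro_left _ hn'.symm) hK
      have hNH : N ⊓ H = ⊥ :=
        (Subgroup.disjoint_of_coprime_natCard (by rw [hNcard, hH]; exact hqm')).eq_bot
      have hHbar : Nat.card (H.map (QuotientGroup.mk' N)) = m := by
        have h1 := card_map_mk'_mul N H
        rw [hNH, Subgroup.card_bot, mul_one, hH] at h1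
        exact h1
      have hKbar : (Nat.card (K.map (QuotientGroup.mk' N))).Coprime n' :=
        Nat.Coprime.coprime_dvd_left (Subgroup.card_map_dvd K _) hKn'
      obtain ⟨g', hg'⟩ := hC' _ _ hHbar hKbar
      obtain ⟨g, rfl⟩ := QuotientGroup.mk'_surjective N g'
      have hK₁ := conj_le_of_map_le N H K g hg'
      have hK₁le : MulAut.conj g⁻¹ • K ≤ H ⊔ N := by
        intro y hy
        rw [Cfsg.Agent.helper3.mem_conj_smul_iff, inv_inv] at hy
        have h1 := hK₁ _ hy
        have e : g⁻¹ * (g * y * g⁻¹) * g = y := by group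
        rwa [e] at h1
      have hK₁card : (Nat.card (MulAut.conj g⁻¹ • K : Subgroup G)).Coprime (Nat.card N) := by
        rw [Cfsg.Agent.helper3.card_conj_smul, hNcard]; exact hKq
      obtain ⟨x, hx⟩ := conj_into_complement N hNab H _ hNH hK₁le hK₁card
      refine ⟨g * x, fun k hk => ?_⟩
      rw [Cfsg.Agent.helper3.mem_conj_smul_iff]
      have hk₁ : g⁻¹ * k * g ∈ MulAut.conj g⁻¹ • K := by
        rw [Cfsg.Agent.helper3.mem_conj_smul_iff, inv_inv]
        have e : g * (g⁻¹ * k * g) * g⁻¹ = k := by group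
        rw [e]; exact hk
      have h2 := hx _ hk₁
      have e : (g * x)⁻¹ * k * (g * x) = x⁻¹ * (g⁻¹ * k * g) * x := by group
      rw [e]; exact h2

theorem exists_abelian_normal_pgroup (G : Type*) [Group G] [Finite G] [Group.IsSolvable G]
    [Nontrivial G] :
    ∃ (q : ℕ) (_ : q.Prime) (N : Subgroup G), N.Normal ∧ N ≠ ⊥ ∧ IsPGroup q N ∧
      ∀ a ∈ N, ∀ b ∈ N, a * b = b * a := by
  obtain ⟨q, hq⟩ := exists_pCore_ne_bot_of_solvable G
  haveI : Fact (q : ℕ).Prime := ⟨q.2⟩
  haveI hPn : (Cfsg.pCore (q : ℕ) G).Normal := helper1.pCore_normal _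
  have hPp : IsPGroup (q : ℕ) (Cfsg.pCore (q : ℕ) G) := helper1.pCore_isPGroup _
  haveI : Nontrivial (Cfsg.pCore (q : ℕ) G) := (Subgroup.nontrivial_iff_ne_bot _).2 hq
  haveI := hPp.center_nontrivial
  refine ⟨q, q.2, (Subgroup.center (Cfsg.pCore (q : ℕ) G)).map (Cfsg.pCore (q : ℕ) G).subtype,
    ConjAct.normal_of_characteristic_of_normal, ?_, ?_, ?_⟩
  · rw [Ne, Subgroup.map_eq_bot_iff_of_injective _ (Subgroup.subtype_injective _)]
    exact (Subgroup.nontrivial_iff_ne_bot _).1 inferInstance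
  · exact hPp.to_le (Subgroup.map_subtype_le _)
  · rintro _ ⟨x, hx, rfl⟩ _ ⟨y, hy, rfl⟩
    have h1 := Subgroup.mem_center_iff.1 hx y
    exact congrArg Subtype.val h1.symm

/-- Hall's theorems for finite solvable groups: existence, and every subgroup of order prime to
`n` lies in a conjugate of any given Hall subgroup of order `m`. -/
theorem hall_aux : ∀ (k : ℕ) (G : Type u) [Group G] [Finite G] [Group.IsSolvable G],
    Nat.card G = k → ∀ m n : ℕ, k = m * n → m.Coprime n →
      (∃ H : Subgroup G, Nat.card H = m) ∧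
      (∀ H K : Subgroup G, Nat.card H = m → (Nat.card K).Coprime n →
        ∃ g : G, K ≤ MulAut.conj g • H) := by
  intro k
  induction k using Nat.strong_induction_on with
  | _ k ih =>
    intro G _ _ _ hk m n hmn hcop
    by_cases hG : Subsingleton G
    · haveI := hG
      have hk1 : k = 1 := by rw [← hk]; exact Nat.card_of_subsingleton (1 : G)
      have hm1 : m = 1 := by
        have h1 : m ∣ 1 := ⟨n, by rw [← hmn, hk1]⟩
        exact Nat.dvd_one.1 h1
      refine ⟨⟨⊥, by rw [Subgroup.card_bot, hm1]⟩, fun H K _ _ => ⟨1, fun x _ => ?_⟩⟩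
      have hx1 : x = 1 := Subsingleton.elim _ _
      rw [hx1]; exact Subgroup.one_mem _
    · haveI : Nontrivial G := not_subsingleton_iff_nontrivial.1 hG
      obtain ⟨q, hq, N, hNn, hNne, hNp, hNab⟩ := exists_abelian_normal_pgroup G
      haveI := hNn
      haveI : Fact q.Prime := ⟨hq⟩
      obtain ⟨a, ha⟩ := IsPGroup.iff_card.1 hNp
      have hlt : Nat.card (G ⧸ N) < k := by
        rw [← hk, ← Subgroup.index_eq_card, ← N.index_mul_card]
        have h1 : 1 < Nat.card N := N.one_lt_card_iff_ne_bot.2 hNne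
        have hpos : 0 < N.index := Nat.pos_of_ne_zero Subgroup.index_ne_zero_of_finite
        nlinarith
      exact hall_step N hNab q a hq ha
        (fun m' n' h1 h2 => ih _ hlt (G ⧸ N) rfl m' n' h1 h2) m n (hk.trans hmn) hcop

theorem hall_exists {G : Type u} [Group G] [Finite G] [Group.IsSolvable G] (m n : ℕ)
    (hG : Nat.card G = m * n) (hmn : m.Coprime n) : ∃ H : Subgroup G, Nat.card H = m :=
  (hall_aux _ G rfl m n hG hmn).1

theorem hall_le_conj {G : Type u} [Group G] [Finite G] [Group.IsSolvable G] (m n : ℕ)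
    (hG : Nat.card G = m * n) (hmn : m.Coprime n) (H K : Subgroup G) (hH : Nat.card H = m)
    (hK : (Nat.card K).Coprime n) : ∃ g : G, K ≤ MulAut.conj g • H :=
  (hall_aux _ G rfl m n hG hmn).2 H K hH hK

theorem hall_conj {G : Type u} [Group G] [Finite G] [Group.IsSolvable G] (m n : ℕ)
    (hG : Nat.card G = m * n) (hmn : m.Coprime n) (H K : Subgroup G) (hH : Nat.card H = m)
    (hK : Nat.card K = m) : ∃ g : G, MulAut.conj g • H = K := by
  obtain ⟨g, hg⟩ := hall_le_conj m n hG hmn H K hH (hK ▸ hmn)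
  refine ⟨g, ?_⟩
  have h1 : K = MulAut.conj g • H :=
    Subgroup.eq_of_le_of_card_ge hg (by rw [Cfsg.Agent.helper3.card_conj_smul, hH, hK])
  exact h1.symm

end Hall

end Cfsg.Agent.helper23
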