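import Mathlib
import Cfsg.Prelude.Def_Transfer

/-! Elementary abelian subgroups and the Thompson subgroup: basic helpers (helper3). -/

set_option autoImplicit false

namespace Cfsg.Agent.helper3

open Cfsg

theorem ea_comm {P : Type*} [Group P] {p : ℕ} {A : Subgroup P} (hA : Cfsg.IsElementaryAbelian p A)
    {a b : P} (ha : a ∈ A) (hb : b ∈ A) : a * b = b * a :=
  congrArg Subtype.val (hA.1.is_comm.comm (⟨a, ha⟩ : A) ⟨b, hb⟩)

theorem ea_pow {P : Type*} [Group P] {p : ℕ} {A : Subgroup P} (hA : Cfsg.IsElementaryAbelian p A)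
    {a : P} (ha : a ∈ A) : a ^ p = 1 := hA.2 a ha

theorem ea_bot {P : Type*} [Group P] (p : ℕ) : Cfsg.IsElementaryAbelian p (⊥ : Subgroup P) := by
  refine ⟨⟨⟨?_⟩⟩, ?_⟩
  · rintro ⟨a, ha⟩ ⟨b, hb⟩
    rw [Subgroup.mem_bot] at ha hb
    subst ha; subst hb; rfl
  · intro a ha
    rw [Subgroup.mem_bot] at ha
    subst ha; exact one_pow p

theorem ea_mono {P : Type*} [Group P] {p : ℕ} {A B : Subgroup P} (hA : Cfsg.IsElementaryAbelian p A)
    (hBA : B ≤ A) : Cfsg.IsElementaryAbelian p B := by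
  refine ⟨⟨⟨?_⟩⟩, fun b hb => hA.2 b (hBA hb)⟩
  rintro ⟨a, ha⟩ ⟨b, hb⟩
  exact Subtype.ext (ea_comm hA (hBA ha) (hBA hb))

/-- A set of pairwise commuting elements of order dividing `p` generates an elementary abelian subgroup. -/
theorem ea_closure {P : Type*} [Group P] {p : ℕ} (S : Set P)
    (hcomm : ∀ a ∈ S, ∀ b ∈ S, a * b = b * a) (hpow : ∀ a ∈ S, a ^ p = 1) :
    Cfsg.IsElementaryAbelian p (Subgroup.closure S) := by
  have hBc : IsMulCommutative (Subgroup.closure S) := Subgroup.isMulCommutative_closure hcomm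
  refine ⟨hBc, ?_⟩
  have hc : ∀ a ∈ Subgroup.closure S, ∀ b ∈ Subgroup.closure S, a * b = b * a := fun a ha b hb =>
    congrArg Subtype.val (hBc.is_comm.comm (⟨a, ha⟩ : Subgroup.closure S) ⟨b, hb⟩)
  intro b hb
  induction hb using Subgroup.closure_induction with
  | mem y hy => exact hpow y hy
  | one => exact one_pow p
  | mul a b ha hb iha ihb =>
    have : Commute a b := hc a ha b hb
    rw [this.mul_pow, iha, ihb, one_mul]
  | inv a ha iha => rw [inv_pow, iha, inv_one]

/-- The join of two elementwise-commuting elementary abelian subgroups is elementary abelian. -/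
theorem ea_sup {P : Type*} [Group P] {p : ℕ} {A B : Subgroup P} (hA : Cfsg.IsElementaryAbelian p A)
    (hB : Cfsg.IsElementaryAbelian p B) (hAB : ∀ a ∈ A, ∀ b ∈ B, a * b = b * a) :
    Cfsg.IsElementaryAbelian p (A ⊔ B) := by
  have h : A ⊔ B = Subgroup.closure ((A : Set P) ∪ (B : Set P)) := by
    rw [Subgroup.closure_union, Subgroup.closure_eq, Subgroup.closure_eq]
  rw [h]
  apply ea_closure
  · intro a ha b hb
    rcases ha with ha | ha <;> rcases hb with hb | hb
    · exact ea_comm hA ha hb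
    · exact hAB a ha b hb
    · exact (hAB b hb a ha).symm
    · exact ea_comm hB ha hb
  · intro a ha
    rcases ha with ha | ha
    · exact hA.2 a ha
    · exact hB.2 a ha

theorem ea_zpowers {P : Type*} [Group P] {p : ℕ} (x : P) (hx : x ^ p = 1) :
    Cfsg.IsElementaryAbelian p (Subgroup.zpowers x) := by
  rw [Subgroup.zpowers_eq_closure]
  apply ea_closure
  · intro a ha b hb
    rw [Set.mem_singleton_iff] at ha hb
    subst ha; subst hb; rfl
  · intro a ha
    rw [Set.mem_singleton_iff] at ha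
    subst ha; exact hx

theorem ea_map {P Q : Type*} [Group P] [Group Q] {p : ℕ} {A : Subgroup P}
    (hA : Cfsg.IsElementaryAbelian p A) (f : P →* Q) : Cfsg.IsElementaryAbelian p (A.map f) := by
  refine ⟨⟨⟨?_⟩⟩, ?_⟩
  · rintro ⟨a, ha⟩ ⟨b, hb⟩
    obtain ⟨a', ha', rfl⟩ := ha
    obtain ⟨b', hb', rfl⟩ := hb
    apply Subtype.ext
    show f a' * f b' = f b' * f a'
    rw [← map_mul, ← map_mul, ea_comm hA ha' hb']
  · rintro a ⟨a', ha', rfl⟩
    rw [← map_pow, hA.2 a' ha', map_one]

theorem ea_comap_of_injective {P Q : Type*} [Group P] [Group Q] {p : ℕ} {A : Subgroup Q}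
    (hA : Cfsg.IsElementaryAbelian p A) (f : P →* Q) (hf : Function.Injective f) :
    Cfsg.IsElementaryAbelian p (A.comap f) := by
  refine ⟨⟨⟨?_⟩⟩, ?_⟩
  · rintro ⟨a, ha⟩ ⟨b, hb⟩
    apply Subtype.ext
    apply hf
    show f (a * b) = f (b * a)
    rw [map_mul, map_mul]
    exact ea_comm hA ha hb
  · intro a ha
    apply hf
    rw [map_pow, map_one]
    exact hA.2 _ ha

theorem ea_subgroupOf {P : Type*} [Group P] {p : ℕ} {A : Subgroup P}
    (hA : Cfsg.IsElementaryAbelian p A) (U : Subgroup P) :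
    Cfsg.IsElementaryAbelian p (A.subgroupOf U) :=
  ea_comap_of_injective hA U.subtype U.subtype_injective

theorem ea_isPGroup {P : Type*} [Group P] {p : ℕ} {A : Subgroup P}
    (hA : Cfsg.IsElementaryAbelian p A) : IsPGroup p A := by
  intro a
  refine ⟨1, ?_⟩
  apply Subtype.ext
  rw [pow_one]
  simpa using hA.2 a.1 a.2

/-- A finite group has an elementary abelian subgroup of largest order. -/
theorem exists_maxEA (p : ℕ) (P : Type*) [Group P] [Finite P] :
    ∃ A : Subgroup P, A ∈ Cfsg.maxElementaryAbelianSubgroups p P := by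
  classical
  have hne : {A : Subgroup P | Cfsg.IsElementaryAbelian p A}.Nonempty := ⟨⊥, ea_bot p⟩
  have hfin : {A : Subgroup P | Cfsg.IsElementaryAbelian p A}.Finite := Set.toFinite _
  obtain ⟨A, hA, hmax⟩ := Set.exists_max_image _ (fun A : Subgroup P => Nat.card A) hfin hne
  exact ⟨A, hA, fun B hB => hmax B hB⟩

theorem maxEA_ea {P : Type*} [Group P] {p : ℕ} {A : Subgroup P}
    (hA : A ∈ Cfsg.maxElementaryAbelianSubgroups p P) : Cfsg.IsElementaryAbelian p A := hA.1

theorem maxEA_le_thompson {P : Type*} [Group P] {p : ℕ} {A : Subgroup P}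
    (hA : A ∈ Cfsg.maxElementaryAbelianSubgroups p P) : A ≤ Cfsg.thompsonSubgroup p P :=
  le_sSup hA

/-- A member of the maximal set contained in an elementary abelian subgroup is equal to it. -/
theorem maxEA_eq_of_le {P : Type*} [Group P] [Finite P] {p : ℕ} {A B : Subgroup P}
    (hA : A ∈ Cfsg.maxElementaryAbelianSubgroups p P) (hB : Cfsg.IsElementaryAbelian p B)
    (hAB : A ≤ B) : A = B := by
  exact Subgroup.eq_of_le_of_card_ge hAB (hA.2 B hB)

/-- Images of the maximal set under an isomorphism. -/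
theorem maxEA_map_equiv {P Q : Type*} [Group P] [Group Q] {p : ℕ} (e : P ≃* Q) {A : Subgroup P}
    (hA : A ∈ Cfsg.maxElementaryAbelianSubgroups p P) :
    A.map e.toMonoidHom ∈ Cfsg.maxElementaryAbelianSubgroups p Q := by
  refine ⟨ea_map hA.1 _, fun B hB => ?_⟩
  have h1 : Nat.card (A.map e.toMonoidHom) = Nat.card A :=
    Subgroup.card_map_of_injective e.injective
  have h2 : Nat.card (B.map e.symm.toMonoidHom) = Nat.card B :=
    Subgroup.card_map_of_injective e.symm.injective
  rw [h1, ← h2]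
  exact hA.2 _ (ea_map hB _)

/-- If `A ≤ U` is of largest order in `G` then `A.subgroupOf U` is of largest order in `U`. -/
theorem maxEA_subgroupOf {P : Type*} [Group P] {p : ℕ} {A U : Subgroup P}
    (hA : A ∈ Cfsg.maxElementaryAbelianSubgroups p P) (hAU : A ≤ U) :
    A.subgroupOf U ∈ Cfsg.maxElementaryAbelianSubgroups p U := by
  refine ⟨ea_subgroupOf hA.1 U, fun B hB => ?_⟩
  have h1 : Nat.card (A.subgroupOf U) = Nat.card A :=
    Nat.card_congr (Subgroup.subgroupOfEquivOfLe hAU).toEquiv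
  have h2 : Nat.card (B.map U.subtype) = Nat.card B := Subgroup.card_subtype U B
  rw [h1, ← h2]
  exact hA.2 _ (ea_map hB _)

/-- If `U` contains some elementary abelian subgroup of largest order of `G`, then the largest ones of `U`
are largest in `G`. -/
theorem maxEA_map_subtype {P : Type*} [Group P] {p : ℕ} {A₀ U : Subgroup P}
    (hA₀ : A₀ ∈ Cfsg.maxElementaryAbelianSubgroups p P) (hAU : A₀ ≤ U) {A : Subgroup U}
    (hA : A ∈ Cfsg.maxElementaryAbelianSubgroups p U) :
    A.map U.subtype ∈ Cfsg.maxElementaryAbelianSubgroups p P := by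
  refine ⟨ea_map hA.1 _, fun B hB => ?_⟩
  have h2 : Nat.card (A.map U.subtype) = Nat.card A := Subgroup.card_subtype U A
  have h1 : Nat.card (A₀.subgroupOf U) = Nat.card A₀ :=
    Nat.card_congr (Subgroup.subgroupOfEquivOfLe hAU).toEquiv
  rw [h2]
  calc Nat.card B ≤ Nat.card A₀ := hA₀.2 B hB
    _ = Nat.card (A₀.subgroupOf U) := h1.symm
    _ ≤ Nat.card A := hA.2 _ (ea_subgroupOf hA₀.1 U)

/-- If `U` contains some elementary abelian subgroup of largest order of `G`, then `J(U) ≤ J(G)`. -/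
theorem thompsonSubgroupOf_le {P : Type*} [Group P] {p : ℕ} {A₀ U : Subgroup P}
    (hA₀ : A₀ ∈ Cfsg.maxElementaryAbelianSubgroups p P) (hAU : A₀ ≤ U) :
    Cfsg.thompsonSubgroupOf p U ≤ Cfsg.thompsonSubgroup p P := by
  unfold Cfsg.thompsonSubgroupOf
  rw [Subgroup.map_le_iff_le_comap]
  unfold Cfsg.thompsonSubgroup
  apply sSup_le
  intro A hA
  rw [← Subgroup.map_le_iff_le_comap]
  exact le_sSup (maxEA_map_subtype hA₀ hAU hA)

theorem le_thompsonSubgroupOf {P : Type*} [Group P] {p : ℕ} {A U : Subgroup P}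
    (hA : A ∈ Cfsg.maxElementaryAbelianSubgroups p P) (hAU : A ≤ U) :
    A ≤ Cfsg.thompsonSubgroupOf p U := by
  unfold Cfsg.thompsonSubgroupOf
  rw [← Subgroup.map_subgroupOf_eq_of_le hAU]
  exact Subgroup.map_mono (le_sSup (maxEA_subgroupOf hA hAU))

end Cfsg.Agent.helper3
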