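import Mathlib

set_option autoImplicit false
open scoped commutatorElement

namespace Cfsg.Agent.lead

variable {G : Type*} [Group G]

theorem pow_mul_comm_class2 (x y c : G) (hyx : y * x = c * (x * y)) (hcy : Commute c y) (n : ℕ) :
    y ^ n * x = c ^ n * (x * y ^ n) := by
  induction n with
  | zero => simp
  | succ n ih =>
    have h1 : y * c ^ n = c ^ n * y := ((hcy.pow_left n).eq).symm
    calc y ^ (n + 1) * x = y * (y ^ n * x) := by rw [pow_succ', mul_assoc]
      _ = y * (c ^ n * (x * y ^ n)) := by rw [ih]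
      _ = (y * c ^ n) * (x * y ^ n) := by rw [mul_assoc]
      _ = (c ^ n * y) * (x * y ^ n) := by rw [h1]
      _ = c ^ n * ((y * x) * y ^ n) := by simp only [mul_assoc]
      _ = c ^ n * ((c * (x * y)) * y ^ n) := by rw [hyx]
      _ = c ^ (n + 1) * (x * y ^ (n + 1)) := by
        rw [pow_succ c n, pow_succ' y n]; simp only [mul_assoc]

theorem mul_pow_class2 (x y c : G) (hyx : y * x = c * (x * y)) (hcx : Commute c x)
    (hcy : Commute c y) (n : ℕ) :
    (x * y) ^ n = x ^ n * y ^ n * c ^ (n * (n - 1) / 2) := by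
  induction n with
  | zero => simp
  | succ n ih =>
    have hT : (n + 1) * (n + 1 - 1) / 2 = n * (n - 1) / 2 + n := Nat.triangle_succ n
    have h1 := pow_mul_comm_class2 x y c hyx hcy n
    have hcT_x : c ^ (n * (n - 1) / 2) * x = x * c ^ (n * (n - 1) / 2) := (hcx.pow_left _).eq
    have hcT_y : c ^ (n * (n - 1) / 2) * y = y * c ^ (n * (n - 1) / 2) := (hcy.pow_left _).eq
    have hcn_x : c ^ n * x = x * c ^ n := (hcx.pow_left _).eq
    have hcn_yn : c ^ n * y ^ (n+1) = y ^ (n+1) * c ^ n := ((hcy.pow_left n).pow_right (n+1)).eq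
    calc (x * y) ^ (n + 1) = (x * y) ^ n * (x * y) := pow_succ _ _
      _ = x ^ n * y ^ n * c ^ (n * (n - 1) / 2) * (x * y) := by rw [ih]
      _ = x ^ n * y ^ n * ((c ^ (n * (n - 1) / 2) * x) * y) := by simp only [mul_assoc]
      _ = x ^ n * y ^ n * ((x * c ^ (n * (n - 1) / 2)) * y) := by rw [hcT_x]
      _ = x ^ n * y ^ n * (x * (c ^ (n * (n - 1) / 2) * y)) := by simp only [mul_assoc]
      _ = x ^ n * y ^ n * (x * (y * c ^ (n * (n - 1) / 2))) := by rw [hcT_y]
      _ = x ^ n * ((y ^ n * x) * y) * c ^ (n * (n - 1) / 2) := by simp only [mul_assoc]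
      _ = x ^ n * ((c ^ n * (x * y ^ n)) * y) * c ^ (n * (n - 1) / 2) := by rw [h1]
      _ = x ^ n * ((c ^ n * x) * y ^ (n + 1)) * c ^ (n * (n - 1) / 2) := by
        rw [pow_succ y n]; simp only [mul_assoc]
      _ = x ^ n * ((x * c ^ n) * y ^ (n + 1)) * c ^ (n * (n - 1) / 2) := by rw [hcn_x]
      _ = x ^ (n + 1) * (c ^ n * y ^ (n + 1)) * c ^ (n * (n - 1) / 2) := by
        rw [pow_succ x n]; simp only [mul_assoc]
      _ = x ^ (n + 1) * (y ^ (n + 1) * c ^ n) * c ^ (n * (n - 1) / 2) := by rw [hcn_yn]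
      _ = x ^ (n + 1) * y ^ (n + 1) * (c ^ n * c ^ (n * (n - 1) / 2)) := by
        simp only [mul_assoc]
      _ = x ^ (n + 1) * y ^ (n + 1) * c ^ ((n + 1) * (n + 1 - 1) / 2) := by
        rw [hT, ← pow_add c, Nat.add_comm n (n * (n - 1) / 2)]

/-- In a group whose derived subgroup is central, commutators are central. -/
theorem commute_commutator_of_class2 (h2 : ⁅commutator G, (⊤ : Subgroup G)⁆ = ⊥) (x y g : G) :
    Commute ⁅y, x⁆ g := by
  have h1 : ⁅⁅y, x⁆, g⁆ ∈ ⁅commutator G, (⊤ : Subgroup G)⁆ := by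
    apply Subgroup.commutator_mem_commutator _ (Subgroup.mem_top g)
    rw [commutator_def]
    exact Subgroup.commutator_mem_commutator (Subgroup.mem_top y) (Subgroup.mem_top x)
  rw [h2, Subgroup.mem_bot] at h1
  exact commutatorElement_eq_one_iff_commute.mp h1

theorem mul_eq_commutator_mul (x y : G) : y * x = ⁅y, x⁆ * (x * y) := by
  rw [commutatorElement_def]; group

/-- Power formula in class two. -/
theorem mul_pow_of_class2 (h2 : ⁅commutator G, (⊤ : Subgroup G)⁆ = ⊥) (x y : G) (n : ℕ) :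
    (x * y) ^ n = x ^ n * y ^ n * ⁅y, x⁆ ^ (n * (n - 1) / 2) :=
  mul_pow_class2 x y ⁅y, x⁆ (mul_eq_commutator_mul x y)
    (commute_commutator_of_class2 h2 x y x) (commute_commutator_of_class2 h2 x y y) n

/-- In class two, `⁅y, x⁆ ^ n = ⁅y ^ n, x⁆`. -/
theorem commutator_pow_of_class2 (h2 : ⁅commutator G, (⊤ : Subgroup G)⁆ = ⊥) (x y : G) (n : ℕ) :
    ⁅y, x⁆ ^ n = ⁅y ^ n, x⁆ := by
  have h1 := pow_mul_comm_class2 x y ⁅y, x⁆ (mul_eq_commutator_mul x y)
    (commute_commutator_of_class2 h2 x y y) n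
  rw [commutatorElement_def (y ^ n) x]
  calc ⁅y, x⁆ ^ n = ⁅y, x⁆ ^ n * (x * y ^ n) * (y ^ n)⁻¹ * x⁻¹ := by group
    _ = y ^ n * x * (y ^ n)⁻¹ * x⁻¹ := by rw [← h1]

/-- For odd `p`, in class two, the `p`-th power map is multiplicative on elements whose
commutator has order dividing `p`. -/
theorem mul_pow_prime_of_class2 (h2 : ⁅commutator G, (⊤ : Subgroup G)⁆ = ⊥) {p : ℕ}
    (hp : p.Prime) (hp2 : p ≠ 2) (x y : G) (hc : ⁅y, x⁆ ^ p = 1) :
    (x * y) ^ p = x ^ p * y ^ p := by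
  rw [mul_pow_of_class2 h2 x y p]
  have hodd : Odd p := hp.odd_of_ne_two hp2
  obtain ⟨k, hk⟩ := hodd
  have h1 : p * (p - 1) / 2 = p * k := by
    have : p - 1 = 2 * k := by omega
    rw [this, ← mul_assoc, mul_comm p 2, mul_assoc, Nat.mul_div_cancel_left _ (by norm_num : 0 < 2)]
  rw [h1, pow_mul, hc, one_pow, mul_one]

end Cfsg.Agent.lead
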