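import Mathlib
import Cfsg.Agent.Lib_helper7_SN
import Cfsg.Agent.Lib_helper10_Control
import Cfsg.Agent.Lib_helper23_SZ

set_option autoImplicit false

namespace Cfsg.Agent.lead

open Cfsg.Agent.helper7
open scoped commutatorElement Pointwise

universe u

/-- A finite group that is not perfect has a normal subgroup of prime index. -/
theorem exists_normal_prime_index' {G : Type u} [Group G] [Finite G] (h : commutator G ≠ ⊤) :
    ∃ N : Subgroup G, N.Normal ∧ (N.index).Prime := by
  classical
  have hnt : Nontrivial (Abelianization G) := by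
    rw [Abelianization, QuotientGroup.nontrivial_iff]
    exact h
  have hnt2 : Nontrivial (Subgroup (Abelianization G)) := Subgroup.nontrivial_iff.mpr hnt
  obtain ⟨M, hM⟩ := IsCoatomic.exists_coatom (α := Subgroup (Abelianization G))
  have hMn : M.Normal := Subgroup.normal_of_isMulCommutative M
  have hsimple : IsSimpleGroup (Abelianization G ⧸ M) := by
    have hnt3 : Nontrivial (Abelianization G ⧸ M) := by
      rw [QuotientGroup.nontrivial_iff]
      exact hM.1
    refine ⟨fun H _ => ?_⟩
    have hle : M ≤ H.comap (QuotientGroup.mk' M) := by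
      intro x hx
      rw [Subgroup.mem_comap]
      have : (QuotientGroup.mk' M) x = 1 := (QuotientGroup.eq_one_iff x).mpr hx
      rw [this]
      exact H.one_mem
    rcases hM.le_iff.mp hle with h1 | h1
    · right
      rw [← Subgroup.map_comap_eq_self_of_surjective (QuotientGroup.mk'_surjective M) H, h1,
        Subgroup.map_top_of_surjective _ (QuotientGroup.mk'_surjective M)]
    · left
      apply Subgroup.comap_injective (QuotientGroup.mk'_surjective M)
      rw [h1, MonoidHom.comap_bot, QuotientGroup.ker_mk']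
  have hprime : (Nat.card (Abelianization G ⧸ M)).Prime := IsSimpleGroup.prime_card
  refine ⟨M.comap (Abelianization.of), inferInstance, ?_⟩
  have hsurj : Function.Surjective (Abelianization.of : G →* Abelianization G) :=
    QuotientGroup.mk'_surjective (commutator G)
  rw [Subgroup.index_comap_of_surjective _ hsurj]
  exact hprime

theorem card_subgroupOf_of_le {G : Type*} [Group G] {H K : Subgroup G} (h : H ≤ K) :
    Nat.card (H.subgroupOf K) = Nat.card H :=
  Nat.card_congr (Subgroup.subgroupOfEquivOfLe h).toEquiv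

/-- transport of a conjugation inside a subgroup to the ambient group -/
theorem cj_of_cj_subgroupOf {G : Type*} [Group G] (M : Subgroup G) (A B : Subgroup G) (hA : A ≤ M)
    (hB : B ≤ M) (m : M) (h : cj m (A.subgroupOf M) = B.subgroupOf M) : cj (m : G) A = B := by
  ext x
  rw [mem_cj]
  constructor
  · intro hx
    have hxM : x ∈ M := by
      have h1 : (m : G)⁻¹ * x * (m : G) ∈ M := hA hx
      have h2 : x = (m : G) * ((m : G)⁻¹ * x * (m : G)) * (m : G)⁻¹ := by group
      rw [h2]
      exact M.mul_mem (M.mul_mem m.2 h1) (M.inv_mem m.2)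
    have h3 : (⟨x, hxM⟩ : M) ∈ cj m (A.subgroupOf M) := by
      rw [mem_cj, Subgroup.mem_subgroupOf]
      simpa using hx
    rw [h, Subgroup.mem_subgroupOf] at h3
    exact h3
  · intro hx
    have h3 : (⟨x, hB hx⟩ : M) ∈ B.subgroupOf M := by
      rw [Subgroup.mem_subgroupOf]; exact hx
    rw [← h, mem_cj, Subgroup.mem_subgroupOf] at h3
    simpa using h3

/-- Schur–Zassenhaus conjugacy when the complements are solvable. -/
theorem sz_conj_compl : ∀ (n : ℕ) (G : Type u) [Group G] [Finite G], Nat.card G = n →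
    ∀ (N : Subgroup G), N.Normal → (Nat.card N).Coprime N.index →
    ∀ (H K : Subgroup G), Nat.card H = N.index → Nat.card K = N.index → Group.IsSolvable H →
    ∃ g : G, cj g H = K := by
  intro n
  induction n using Nat.strong_induction_on with
  | _ n ih =>
  intro G _ _ hn N hNn hcop H K hH hK hsolv
  haveI := hNn
  have hGcard : Nat.card N * Nat.card H = Nat.card G := by rw [hH]; exact N.card_mul_index
  by_cases hH1 : H = ⊥
  · refine ⟨1, ?_⟩
    rw [cj_one, hH1]
    have : Nat.card K = 1 := by rw [hK, ← hH, hH1, Subgroup.card_bot]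
    exact (Subgroup.eq_bot_of_card_eq K this).symm
  haveI : Nontrivial H := (Subgroup.nontrivial_iff_ne_bot _).mpr hH1
  haveI := hsolv
  have hlt : commutator H < ⊤ := Group.IsSolvable.commutator_lt_top_of_nontrivial H
  obtain ⟨D₀, hD₀n, hD₀p⟩ := exists_normal_prime_index' hlt.ne
  set p := D₀.index with hp
  haveI : Fact p.Prime := ⟨hD₀p⟩
  set D : Subgroup G := D₀.map H.subtype with hD
  have hDH : D ≤ H := Subgroup.map_subtype_le D₀
  have hDcard : Nat.card D * p = Nat.card H := by
    rw [hD, Subgroup.card_map_of_injective H.subtype_injective]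
    exact D₀.card_mul_index
  have hDnorm : H ≤ Subgroup.normalizer (D : Set G) := by
    have h1 := Subgroup.le_normalizer_map (H := D₀) H.subtype
    rw [Subgroup.normalizer_eq_top, ← MonoidHom.range_eq_map, Subgroup.range_subtype] at h1
    exact h1
  have hNHbot : N ⊓ H = ⊥ := Subgroup.inf_eq_bot_of_coprime (by rw [hH]; exact hcop)
  have hNKbot : N ⊓ K = ⊥ := Subgroup.inf_eq_bot_of_coprime (by rw [hK]; exact hcop)
  have hcompH : Subgroup.IsComplement' N H :=
    Subgroup.isComplement'_of_coprime hGcard (by rw [hH]; exact hcop)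
  have hcompK : Subgroup.IsComplement' N K :=
    Subgroup.isComplement'_of_coprime (by rw [hK]; exact N.card_mul_index) (by rw [hK]; exact hcop)
  have hNHtop : N ⊔ H = ⊤ := hcompH.sup_eq_top
  have hNKtop : N ⊔ K = ⊤ := hcompK.sup_eq_top
  -- the normal subgroup M = N D of index p
  set M : Subgroup G := N ⊔ D with hM
  have hNM : N ≤ M := le_sup_left
  have hDM : D ≤ M := le_sup_right
  have hMH : M ⊓ H = D := by
    apply le_antisymm
    · intro x hx
      obtain ⟨hxM, hxH⟩ := Subgroup.mem_inf.mp hx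
      rw [hM, Subgroup.mem_sup_of_normal_left] at hxM
      obtain ⟨a, ha, d, hd, rfl⟩ := hxM
      have haH : a ∈ H := by
        have : a = (a * d) * d⁻¹ := by group
        rw [this]; exact H.mul_mem hxH (H.inv_mem (hDH hd))
      have ha1 : a = 1 := by
        have : a ∈ N ⊓ H := Subgroup.mem_inf.mpr ⟨ha, haH⟩
        rw [hNHbot] at this
        exact this
      rw [ha1, one_mul]; exact hd
    · exact le_inf hDM hDH
  have hMnormal : M.Normal := by
    constructor
    intro x hx g
    have hg : g ∈ N ⊔ H := hNHtop ▸ Subgroup.mem_top g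
    rw [Subgroup.mem_sup_of_normal_left] at hg
    obtain ⟨a, ha, h, hh, rfl⟩ := hg
    rw [hM, Subgroup.mem_sup_of_normal_left] at hx ⊢
    obtain ⟨b, hb, d, hd, rfl⟩ := hx
    have hd' : h * d * h⁻¹ ∈ D := (Subgroup.mem_normalizer_iff.mp (hDnorm hh) d).mp hd
    refine ⟨a * h * (b * d) * (a * h)⁻¹ * (h * d * h⁻¹)⁻¹, ?_, h * d * h⁻¹, hd', by group⟩
    have e1 : a * h * (b * d) * (a * h)⁻¹ * (h * d * h⁻¹)⁻¹
        = a * (h * b * h⁻¹) * ((h * d * h⁻¹) * a⁻¹ * (h * d * h⁻¹)⁻¹) := by group
    rw [e1]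
    exact N.mul_mem (N.mul_mem ha (hNn.conj_mem b hb h)) (hNn.conj_mem _ (N.inv_mem ha) _)
  haveI := hMnormal
  have hMHtop : H ⊔ M = ⊤ := by
    rw [eq_top_iff, ← hNHtop]
    exact sup_le (le_sup_of_le_right hNM) le_sup_left
  have hMKtop : K ⊔ M = ⊤ := by
    rw [eq_top_iff, ← hNKtop]
    exact sup_le (le_sup_of_le_right hNM) le_sup_left
  have hMidx : M.index = p := by
    have h1 : M.relIndex (H ⊔ M) = M.relIndex H := Subgroup.relIndex_sup_right H M
    rw [hMHtop, Subgroup.relIndex_top_right] at h1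
    rw [h1, ← Subgroup.inf_relIndex_right, hMH]
    rw [Subgroup.relIndex, hD]
    have : (D₀.map H.subtype).subgroupOf H = D₀ :=
      Subgroup.comap_map_eq_self_of_injective H.subtype_injective _
    rw [this]
  set E : Subgroup G := K ⊓ M with hE
  have hEK : E ≤ K := inf_le_left
  have hEM : E ≤ M := inf_le_right
  have hErel : E.relIndex K = p := by
    have h1 : M.relIndex (K ⊔ M) = M.relIndex K := Subgroup.relIndex_sup_right K M
    rw [hMKtop, Subgroup.relIndex_top_right] at h1
    rw [hE, inf_comm, Subgroup.inf_relIndex_right, ← h1, hMidx]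
  have hEcard : Nat.card E * p = Nat.card K := by
    rw [← hErel, Subgroup.relIndex, ← card_subgroupOf_of_le hEK]
    exact Subgroup.card_mul_index _
  have hppos : 0 < p := hD₀p.pos
  have hED : Nat.card E = Nat.card D := by
    have : Nat.card E * p = Nat.card D * p := by rw [hEcard, hDcard, hK, hH]
    exact Nat.eq_of_mul_eq_mul_right hppos this
  have hMcard : Nat.card M = Nat.card N * Nat.card D := by
    have h1 : Nat.card M * p = Nat.card G := by rw [← hMidx]; exact M.card_mul_index
    have h2 : Nat.card M * p = Nat.card N * Nat.card D * p := by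
      rw [h1, ← hGcard, ← hDcard, mul_assoc]
    exact Nat.eq_of_mul_eq_mul_right hppos h2
  have hNpos : 0 < Nat.card N := Nat.card_pos
  -- induction inside M
  have hMlt : Nat.card M < n := by
    rw [← hn, ← M.card_mul_index, hMidx]
    have : 0 < Nat.card M := Nat.card_pos
    have := hD₀p.one_lt
    nlinarith
  have hNMidx : (N.subgroupOf M).index = Nat.card D := by
    have h1 : Nat.card (N.subgroupOf M) * (N.subgroupOf M).index = Nat.card M :=
      Subgroup.card_mul_index _
    rw [card_subgroupOf_of_le hNM, hMcard] at h1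
    exact Nat.eq_of_mul_eq_mul_left hNpos h1
  have hDdvd : Nat.card D ∣ Nat.card H := ⟨p, hDcard.symm⟩
  have hcopM : (Nat.card (N.subgroupOf M)).Coprime (N.subgroupOf M).index := by
    rw [card_subgroupOf_of_le hNM, hNMidx]
    exact Nat.Coprime.coprime_dvd_right hDdvd (by rw [hH]; exact hcop)
  have hsolvD : Group.IsSolvable (D.subgroupOf M) := by
    let f : (D.subgroupOf M) →* H :=
      { toFun := fun x => ⟨(x : G), hDH x.2⟩
        map_one' := rfl
        map_mul' := fun _ _ => rfl }
    apply Group.isSolvable_of_isSolvable_injective (f := f)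
    intro x y hxy
    have : ((x : M) : G) = ((y : M) : G) := congrArg (fun t : H => (t : G)) hxy
    exact Subtype.ext (Subtype.ext this)
  obtain ⟨m, hm⟩ := ih (Nat.card M) hMlt M rfl (N.subgroupOf M) inferInstance hcopM
    (D.subgroupOf M) (E.subgroupOf M)
    (by rw [card_subgroupOf_of_le hDM, hNMidx])
    (by rw [card_subgroupOf_of_le hEM, hNMidx, hED]) hsolvD
  have hmD : cj (m : G) D = E := cj_of_cj_subgroupOf M D E hDM hEM m hm
  -- now H₁ = H^m contains E as a normal subgroup of index p
  set H₁ := cj (m : G) H with hH₁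
  have hEH₁ : E ≤ H₁ := by rw [← hmD]; exact cj_mono hDH
  have hH₁card : Nat.card H₁ = Nat.card H := card_cj _ _
  have hH₁norm : H₁ ≤ Subgroup.normalizer (E : Set G) := by
    rw [← hmD, hH₁, ← cj_normalizer]
    exact cj_mono hDnorm
  have hKnorm : K ≤ Subgroup.normalizer (E : Set G) := by
    intro k hk
    rw [Subgroup.mem_normalizer_iff]
    intro x
    constructor
    · intro hx
      exact Subgroup.mem_inf.mpr ⟨K.mul_mem (K.mul_mem hk (hEK hx)) (K.inv_mem hk),
        hMnormal.conj_mem x (hEM hx) k⟩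
    · intro hx
      have h1 : k⁻¹ * (k * x * k⁻¹) * k⁻¹⁻¹ ∈ E :=
        Subgroup.mem_inf.mpr ⟨K.mul_mem (K.mul_mem (K.inv_mem hk) (hEK hx)) (K.inv_mem (K.inv_mem hk)),
          hMnormal.conj_mem _ (hEM hx) k⁻¹⟩
      have : k⁻¹ * (k * x * k⁻¹) * k⁻¹⁻¹ = x := by group
      rwa [this] at h1
  set L := Subgroup.normalizer (E : Set G) with hL
  -- Sylow p-subgroups
  have hpN : ¬ p ∣ Nat.card N := by
    intro hpN
    have hpH : p ∣ Nat.card H := ⟨Nat.card D, by rw [← hDcard, mul_comm]⟩
    have : p ∣ Nat.gcd (Nat.card N) (Nat.card H) := Nat.dvd_gcd hpN hpH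
    rw [hH, Nat.Coprime.gcd_eq_one hcop] at this
    exact hD₀p.one_lt.ne' (Nat.dvd_one.mp this)
  have sylow_of : ∀ (X : Subgroup G), Nat.card X = N.index → X ≤ L →
      ∃ T : Subgroup G, T ≤ X ∧ IsPGroup p T ∧ ¬ p ∣ T.relIndex L ∧ ¬ p ∣ T.relIndex X := by
    intro X hX hXL
    obtain ⟨S⟩ : Nonempty (Sylow p X) := inferInstance
    refine ⟨(S : Subgroup X).map X.subtype, Subgroup.map_subtype_le _, S.isPGroup'.map _, ?_, ?_⟩
    · intro hdvd
      have h1 : ((S : Subgroup X).map X.subtype).relIndex L ∣ ((S : Subgroup X).map X.subtype).index :=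
        Subgroup.relIndex_dvd_index_of_le ((Subgroup.map_subtype_le _).trans hXL)
      have h2 : ((S : Subgroup X).map X.subtype).index = (S : Subgroup X).index * X.index :=
        Subgroup.index_map_subtype _
      have hXidx : X.index = Nat.card N := by
        have h3 : Nat.card X * X.index = Nat.card G := X.card_mul_index
        have h4 : Nat.card N * N.index = Nat.card G := N.card_mul_index
        rw [hX] at h3
        have : N.index * X.index = N.index * Nat.card N := by rw [h3, ← h4, mul_comm]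
        have hpos : 0 < N.index := Nat.pos_of_ne_zero Subgroup.index_ne_zero_of_finite
        exact Nat.eq_of_mul_eq_mul_left hpos this
      rw [h2, hXidx] at h1
      rcases (Nat.Prime.dvd_mul hD₀p).mp (hdvd.trans h1) with h5 | h5
      · exact S.not_dvd_index h5
      · exact hpN h5
    · intro hdvd
      have : ((S : Subgroup X).map X.subtype).relIndex X = (S : Subgroup X).index := by
        rw [Subgroup.relIndex]
        congr 1
        exact Subgroup.comap_map_eq_self_of_injective X.subtype_injective _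
      rw [this] at hdvd
      exact S.not_dvd_index hdvd
  obtain ⟨T₁, hT₁H, hT₁p, hT₁L, hT₁X⟩ := sylow_of H₁ (by rw [hH₁card, hH]) hH₁norm
  obtain ⟨T₂, hT₂K, hT₂p, hT₂L, hT₂X⟩ := sylow_of K hK hKnorm
  obtain ⟨l, hlL, hl⟩ := Cfsg.Agent.helper10.relSylow_conj L T₁ T₂ (hT₁H.trans hH₁norm) hT₁p hT₁L
    (hT₂K.trans hKnorm) hT₂p hT₂L
  -- H₂ = H₁^l contains E and T₂
  set H₂ := cj l H₁ with hH₂
  have hEH₂ : E ≤ H₂ := by
    have : cj l E = E := cj_eq_of_mem_normalizer hlL
    rw [← this]; exact cj_mono hEH₁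
  have hT₂H₂ : T₂ ≤ H₂ := by
    have : cj l T₁ = T₂ := hl
    rw [← this]; exact cj_mono hT₁H
  have hKle : K ≤ E ⊔ T₂ := by
    -- E ⊔ T₂ is between E and K, and E has prime index in K
    by_contra hcon
    have hle : E ⊔ T₂ ≤ K := sup_le hEK hT₂K
    have h1 : E.relIndex (E ⊔ T₂) * (E ⊔ T₂).relIndex K = E.relIndex K :=
      Subgroup.relIndex_mul_relIndex _ _ _ le_sup_left hle
    rw [hErel] at h1
    have h2 : (E ⊔ T₂).relIndex K ≠ 1 := by
      rw [Ne, Subgroup.relIndex_eq_one]; exact hcon
    have h3 : (E ⊔ T₂).relIndex K = p := by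
      rcases (Nat.dvd_prime hD₀p).mp ⟨_, h1.symm.trans (mul_comm _ _)⟩ with h | h
      · exact absurd h h2
      · exact h
    rw [h3] at h1
    have h4 : E.relIndex (E ⊔ T₂) = 1 := by
      have : E.relIndex (E ⊔ T₂) * p = 1 * p := by rw [h1, one_mul]
      exact Nat.eq_of_mul_eq_mul_right hppos this
    rw [Subgroup.relIndex_eq_one] at h4
    have hT₂E : T₂ ≤ E := le_sup_right.trans h4
    have h5 : T₂.relIndex E * E.relIndex K = T₂.relIndex K :=
      Subgroup.relIndex_mul_relIndex _ _ _ hT₂E hEK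
    apply hT₂X
    rw [← h5, hErel]
    exact dvd_mul_left p _
  have hKH₂ : K ≤ H₂ := hKle.trans (sup_le hEH₂ hT₂H₂)
  have hH₂card : Nat.card H₂ = Nat.card K := by
    rw [hH₂, card_cj, hH₁card, hH, hK]
  have hfin : H₂ = K := (Subgroup.eq_of_le_of_card_ge hKH₂ (le_of_eq hH₂card)).symm
  refine ⟨l * (m : G), ?_⟩
  rw [← cj_cj]
  exact hfin


theorem smul_eq_cj {G : Type*} [Group G] (g : G) (H : Subgroup G) : MulAut.conj g • H = cj g H := by
  ext x
  rw [Subgroup.mem_pointwise_smul_iff_inv_smul_mem, mem_cj]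
  simp [MulAut.smul_def, mul_assoc]

/-- Schur–Zassenhaus conjugacy when the normal Hall subgroup is solvable. -/
theorem sz_conj_normal : ∀ (n : ℕ) (G : Type u) [Group G] [Finite G], Nat.card G = n →
    ∀ (N : Subgroup G), N.Normal → (Nat.card N).Coprime N.index → Group.IsSolvable N →
    ∀ (H K : Subgroup G), Nat.card H = N.index → Nat.card K = N.index →
    ∃ g : G, cj g H = K := by
  intro n
  induction n using Nat.strong_induction_on with
  | _ n ih =>
  intro G _ _ hn N hNn hcop hsolv H K hH hK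
  haveI := hNn
  have hGcard : Nat.card N * Nat.card H = Nat.card G := by rw [hH]; exact N.card_mul_index
  have hGcardK : Nat.card N * Nat.card K = Nat.card G := by rw [hK]; exact N.card_mul_index
  by_cases hN1 : N = ⊥
  · refine ⟨1, ?_⟩
    rw [cj_one]
    have hidx : N.index = Nat.card G := by rw [hN1, Subgroup.index_bot]
    rw [hidx] at hH hK
    rw [Subgroup.eq_top_of_card_eq H hH, Subgroup.eq_top_of_card_eq K hK]
  haveI : Nontrivial N := (Subgroup.nontrivial_iff_ne_bot _).mpr hN1
  haveI := hsolv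
  have hlt : commutator N < ⊤ := Group.IsSolvable.commutator_lt_top_of_nontrivial N
  set N' : Subgroup G := ⁅N, N⁆ with hN'
  have hN'N : N' ≤ N := Subgroup.commutator_le_left N N
  have hN'ne : N' ≠ N := by
    intro h
    have h1 : (commutator N).map N.subtype = N' := Subgroup.map_subtype_commutator N
    have h2 : (⊤ : Subgroup N).map N.subtype = N := by
      rw [← MonoidHom.range_eq_map, Subgroup.range_subtype]
    have h3 : (commutator N).map N.subtype = (⊤ : Subgroup N).map N.subtype := by
      rw [h1, h, h2]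
    exact hlt.ne (Subgroup.map_injective N.subtype_injective h3)
  have hN'card : Nat.card N' < Nat.card N := by
    by_contra hcon
    exact hN'ne (Subgroup.eq_of_le_of_card_ge hN'N (not_lt.mp hcon))
  have hN'dvd : Nat.card N' ∣ Nat.card N := Subgroup.card_dvd_of_le hN'N
  have hcopN'H : (Nat.card N').Coprime (Nat.card H) :=
    Nat.Coprime.coprime_dvd_left hN'dvd (by rw [hH]; exact hcop)
  have hcopN'K : (Nat.card N').Coprime (Nat.card K) :=
    Nat.Coprime.coprime_dvd_left hN'dvd (by rw [hK]; exact hcop)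
  have hN'H : N' ⊓ H = ⊥ := Subgroup.inf_eq_bot_of_coprime hcopN'H
  have hN'K : N' ⊓ K = ⊥ := Subgroup.inf_eq_bot_of_coprime hcopN'K
  -- the quotient
  let π : G →* G ⧸ N' := QuotientGroup.mk' N'
  have hπs : Function.Surjective π := QuotientGroup.mk'_surjective N'
  have hker : π.ker = N' := QuotientGroup.ker_mk' N'
  set Nb : Subgroup (G ⧸ N') := N.map π with hNb
  haveI hNbn : Nb.Normal := Subgroup.Normal.map hNn π hπs
  haveI hNbc : IsMulCommutative Nb := by
    refine ⟨⟨fun a b => ?_⟩⟩
    obtain ⟨a, x, hx, rfl⟩ := a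
    obtain ⟨b, y, hy, rfl⟩ := b
    apply Subtype.ext
    show π x * π y = π y * π x
    rw [← map_mul, ← map_mul]
    have h1 : ⁅x, y⁆ ∈ N' := Subgroup.commutator_mem_commutator hx hy
    have h2 : π ⁅x, y⁆ = 1 := by
      rw [← MonoidHom.mem_ker, hker]; exact h1
    have h3 : x * y = ⁅x, y⁆ * (y * x) := by rw [commutatorElement_def]; group
    rw [h3, map_mul, h2, one_mul]
  have hNbidx : Nb.index = N.index := Subgroup.index_map_eq N hπs (by rw [hker]; exact hN'N)
  have hNbdvd : Nat.card Nb ∣ Nat.card N := Subgroup.card_map_dvd N π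
  have hcopb : (Nat.card Nb).Coprime Nb.index := by
    rw [hNbidx]; exact Nat.Coprime.coprime_dvd_left hNbdvd hcop
  have hcardmap : ∀ X : Subgroup G, N' ⊓ X = ⊥ → Nat.card (X.map π) = Nat.card X := by
    intro X hX
    rw [← Subgroup.relIndex_ker, hker, ← Subgroup.inf_relIndex_right, hX,
      Subgroup.relIndex_bot_left]
  have hcompb : ∀ X : Subgroup G, N' ⊓ X = ⊥ → Nat.card X = N.index →
      Subgroup.IsComplement' Nb (X.map π) := by
    intro X hX hXc
    apply Subgroup.isComplement'_of_coprime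
    · rw [hcardmap X hX, hXc, ← hNbidx]; exact Nb.card_mul_index
    · rw [hcardmap X hX, hXc, ← hNbidx]; exact hcopb
  obtain ⟨ab, -, hab⟩ := Cfsg.Agent.helper23.sz_conj_abelian Nb hcopb (H.map π) (K.map π)
    (hcompb H hN'H hH) (hcompb K hN'K hK)
  rw [smul_eq_cj] at hab
  obtain ⟨a, rfl⟩ := hπs ab
  set H₁ := cj a H with hH₁
  have hH₁card : Nat.card H₁ = Nat.card H := card_cj _ _
  set G₁ : Subgroup G := K ⊔ N' with hG₁
  have hKG₁ : K ≤ G₁ := le_sup_left
  have hN'G₁ : N' ≤ G₁ := le_sup_right
  have hH₁G₁ : H₁ ≤ G₁ := by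
    intro x hx
    have h1 : π x ∈ cj (π a) (H.map π) := by
      rw [mem_cj] at hx ⊢
      refine ⟨a⁻¹ * x * a, hx, ?_⟩
      simp
    rw [hab] at h1
    obtain ⟨k, hk, hkx⟩ := h1
    have h2 : k⁻¹ * x ∈ N' := by
      rw [← hker, MonoidHom.mem_ker, map_mul, map_inv, hkx]
      group
    have h3 : x = k * (k⁻¹ * x) := by group
    rw [h3]
    exact Subgroup.mul_mem _ (hKG₁ hk) (hN'G₁ h2)
  have hN₁idx : (N'.subgroupOf G₁).index = Nat.card K := by
    show N'.relIndex G₁ = Nat.card K
    rw [hG₁, Subgroup.relIndex_sup_right K N', ← Subgroup.inf_relIndex_right, hN'K,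
      Subgroup.relIndex_bot_left]
  have hG₁card : Nat.card G₁ = Nat.card N' * Nat.card K := by
    rw [← hN₁idx, ← card_subgroupOf_of_le hN'G₁]
    exact (Subgroup.card_mul_index _).symm
  have hG₁lt : Nat.card G₁ < n := by
    rw [← hn, hG₁card, ← hGcardK]
    have : 0 < Nat.card K := Nat.card_pos
    exact Nat.mul_lt_mul_of_pos_right hN'card this
  have hsolv₁ : Group.IsSolvable (N'.subgroupOf G₁) := by
    let f : (N'.subgroupOf G₁) →* N :=
      { toFun := fun x => ⟨(x : G), hN'N x.2⟩
        map_one' := rfl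
        map_mul' := fun _ _ => rfl }
    apply Group.isSolvable_of_isSolvable_injective (f := f)
    intro x y hxy
    have : ((x : G₁) : G) = ((y : G₁) : G) := congrArg (fun t : N => (t : G)) hxy
    exact Subtype.ext (Subtype.ext this)
  obtain ⟨g₁, hg₁⟩ := ih (Nat.card G₁) hG₁lt G₁ rfl (N'.subgroupOf G₁) inferInstance
    (by rw [card_subgroupOf_of_le hN'G₁, hN₁idx]; exact hcopN'K) hsolv₁
    (H₁.subgroupOf G₁) (K.subgroupOf G₁)
    (by rw [card_subgroupOf_of_le hH₁G₁, hN₁idx, hH₁card, hH, hK])
    (by rw [card_subgroupOf_of_le hKG₁, hN₁idx])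
  have hfin : cj (g₁ : G) H₁ = K := cj_of_cj_subgroupOf G₁ H₁ K hH₁G₁ hKG₁ g₁ hg₁
  refine ⟨(g₁ : G) * a, ?_⟩
  rw [← cj_cj]
  exact hfin

/-- Schur–Zassenhaus, conjugacy part (one of `N`, `G/N` solvable), cardinality form. -/
theorem sz_conj {G : Type u} [Group G] [Finite G] (N : Subgroup G) [hNn : N.Normal]
    (hcop : (Nat.card N).Coprime N.index)
    (hsolv : Group.IsSolvable N ∨ Group.IsSolvable (G ⧸ N))
    (H K : Subgroup G) (hH : Nat.card H = N.index) (hK : Nat.card K = N.index) :
    ∃ g : G, cj g H = K := by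
  rcases hsolv with hs | hs
  · exact sz_conj_normal _ G rfl N hNn hcop hs H K hH hK
  · have hNH : N ⊓ H = ⊥ := Subgroup.inf_eq_bot_of_coprime (by rw [hH]; exact hcop)
    have hHs : Group.IsSolvable H := by
      let f : H →* G ⧸ N := (QuotientGroup.mk' N).comp H.subtype
      apply Group.isSolvable_of_isSolvable_injective (f := f)
      rw [injective_iff_map_eq_one]
      intro x hx
      have h1 : (x : G) ∈ N := by
        have : (QuotientGroup.mk' N) (x : G) = 1 := hx
        rwa [← MonoidHom.mem_ker, QuotientGroup.ker_mk'] at this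
      have h2 : (x : G) ∈ N ⊓ H := Subgroup.mem_inf.mpr ⟨h1, x.2⟩
      rw [hNH] at h2
      exact Subtype.ext h2
    exact sz_conj_compl _ G rfl N hNn hcop H K hH hK hHs

end Cfsg.Agent.lead
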