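import Cfsg.Statements.S0126
import Cfsg.Agent.Lib_helper23_Hall
import Cfsg.Agent.Lib_helper1_PCenter
import Cfsg.Agent.Lib_helper3_EA
import Cfsg.Agent.Lib_lead_Class2
import Cfsg.Agent.Lib_lead_SZ

set_option autoImplicit false
open Cfsg
open scoped commutatorElement

namespace Cfsg.Agent.S0126

open Cfsg.Agent.helper3 Cfsg.Agent.lead

universe u

theorem ea_of_card_sq {R : Type u} [Group R] [Finite R] {p : ℕ} [Fact p.Prime] (B : Subgroup R)
    (hB : Nat.card B = p ^ 2) (hexp : ∀ b ∈ B, b ^ p = 1) : Cfsg.IsElementaryAbelian p B := by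
  refine ⟨?_, hexp⟩
  have hcomm := IsPGroup.commutative_of_card_eq_prime_sq (p := p) (G := B) hB
  exact ⟨⟨fun a b => hcomm a b⟩⟩

theorem normal_of_le_center {R : Type u} [Group R] (E : Subgroup R) (h : E ≤ Subgroup.center R) :
    E.Normal := by
  constructor
  intro x hx r
  have := Subgroup.mem_center_iff.mp (h hx) r
  have h2 : r * x * r⁻¹ = x := by rw [this]; group
  rw [h2]; exact hx

theorem case_cyclic {R : Type u} [Group R] [Finite R] {p : ℕ} [hp : Fact p.Prime] (hR : IsPGroup p R)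
    (hnc : ¬ IsCyclic R) (Z₁ : Subgroup R) [Z₁.Normal] (hZ₁ : Z₁ ≤ Subgroup.center R)
    (hcard : Nat.card Z₁ = p) (hQ : IsCyclic (R ⧸ Z₁)) :
    ∃ A : Subgroup R, A.Normal ∧ Cfsg.IsElementaryAbelian p A ∧ Nat.card A = p ^ 2 := by
  obtain ⟨gbar, hgbar⟩ := hQ.exists_generator
  obtain ⟨g, rfl⟩ := QuotientGroup.mk_surjective gbar
  have hdecomp : ∀ r : R, ∃ i : ℤ, (g ^ i)⁻¹ * r ∈ Z₁ := by
    intro r
    obtain ⟨i, hi⟩ := Subgroup.mem_zpowers_iff.mp (hgbar (r : R ⧸ Z₁))
    refine ⟨i, ?_⟩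
    rw [← QuotientGroup.eq]
    rw [← hi]; rfl
  have hZ₁pow : ∀ c ∈ Z₁, c ^ p = 1 := by
    intro c hc
    have := pow_card_eq_one' (G := Z₁) (x := ⟨c, hc⟩)
    rw [hcard] at this
    exact congrArg Subtype.val this
  have hnotle : ¬ Z₁ ≤ Subgroup.zpowers g := by
    intro hle
    apply hnc
    rw [isCyclic_iff_exists_zpowers_eq_top]
    refine ⟨g, ?_⟩
    rw [eq_top_iff]
    intro r _
    obtain ⟨i, hi⟩ := hdecomp r
    have h1 : g ^ i ∈ Subgroup.zpowers g := Subgroup.zpow_mem_zpowers g i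
    have h2 := Subgroup.mul_mem _ h1 (hle hi)
    rwa [mul_inv_cancel_left] at h2
  obtain ⟨j, hj⟩ : ∃ j, orderOf g = p ^ j := by
    obtain ⟨k, hk⟩ := hR g
    exact (Nat.dvd_prime_pow hp.out).mp (orderOf_dvd_of_pow_eq_one hk) |>.imp fun _ h => h.2
  have hj0 : j ≠ 0 := by
    intro h0
    rw [h0, pow_zero, orderOf_eq_one_iff] at hj
    apply hnc
    have htop : Z₁ = ⊤ := by
      rw [eq_top_iff]
      intro r _
      obtain ⟨i, hi⟩ := hdecomp r
      rwa [hj, one_zpow, inv_one, one_mul] at hi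
    have hcardR : Nat.card R = p := by rw [← hcard, htop, Subgroup.card_top]
    exact isCyclic_of_prime_card hcardR
  set g₁ := g ^ (p ^ (j - 1)) with hg₁
  have hg₁o : orderOf g₁ = p := by
    rw [hg₁, orderOf_pow_of_dvd (pow_ne_zero _ hp.out.ne_zero) (by rw [hj]; exact pow_dvd_pow p (by omega)),
      hj, Nat.pow_div (by omega) hp.out.pos]
    have : j - (j - 1) = 1 := by omega
    rw [this, pow_one]
  have hg₁p : g₁ ^ p = 1 := by rw [← hg₁o]; exact pow_orderOf_eq_one g₁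
  have hg₁c : g₁ ∈ Subgroup.center R := by
    rw [Subgroup.mem_center_iff]
    intro r
    obtain ⟨i, hi⟩ := hdecomp r
    have hr : r = g ^ i * ((g ^ i)⁻¹ * r) := by group
    have hc1 : Commute (g ^ i) g₁ := ((Commute.refl g).zpow_left i).pow_right _
    have hc2 : Commute ((g ^ i)⁻¹ * r) g₁ := (Subgroup.mem_center_iff.mp (hZ₁ hi) g₁).symm
    rw [hr]
    exact (hc1.mul_left hc2).eq
  set E := Subgroup.zpowers g₁ ⊔ Z₁ with hE
  have hEc : E ≤ Subgroup.center R := sup_le (Subgroup.zpowers_le.mpr hg₁c) hZ₁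
  have hinf : Z₁ ⊓ Subgroup.zpowers g₁ = ⊥ := by
    by_contra hne
    have hd : Nat.card (Z₁ ⊓ Subgroup.zpowers g₁ : Subgroup R) ∣ p := by
      rw [← hcard]; exact Subgroup.card_dvd_of_le inf_le_left
    rcases (Nat.dvd_prime hp.out).mp hd with h1 | h1
    · exact hne (Subgroup.eq_bot_of_card_eq _ h1)
    · have : Z₁ ⊓ Subgroup.zpowers g₁ = Z₁ :=
        Subgroup.eq_of_le_of_card_ge inf_le_left (by rw [h1, hcard])
      apply hnotle
      rw [← this]
      refine inf_le_right.trans ?_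
      rw [Subgroup.zpowers_le]
      exact Subgroup.pow_mem _ (Subgroup.mem_zpowers g) _
  have hEcard : Nat.card E = p ^ 2 := by
    have := Cfsg.Agent.helper23.card_sup_mul_card_inf (Subgroup.zpowers g₁) Z₁
    rw [hinf, Subgroup.card_bot, mul_one, Nat.card_zpowers, hg₁o, hcard] at this
    rw [this, pow_two]
  refine ⟨E, normal_of_le_center E hEc, ?_, hEcard⟩
  apply ea_sup (ea_zpowers g₁ hg₁p)
  · refine ⟨⟨⟨fun a b => ?_⟩⟩, hZ₁pow⟩
    apply Subtype.ext
    rw [Subgroup.coe_mul, Subgroup.coe_mul]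
    exact Subgroup.mem_center_iff.mp (hZ₁ b.2) a
  · intro a _ b hb
    exact Subgroup.mem_center_iff.mp (hZ₁ hb) a

theorem case_noncyclic {R : Type u} [Group R] [Finite R] {p : ℕ} [hp : Fact p.Prime] (hp2 : p ≠ 2)
    (hR : IsPGroup p R) (Z₁ : Subgroup R) [Z₁.Normal] (hZ₁ : Z₁ ≤ Subgroup.center R)
    (hcard : Nat.card Z₁ = p) (Abar : Subgroup (R ⧸ Z₁)) (hAn : Abar.Normal)
    (hAea : Cfsg.IsElementaryAbelian p Abar) (hAc : Nat.card Abar = p ^ 2) :
    ∃ A : Subgroup R, A.Normal ∧ Cfsg.IsElementaryAbelian p A ∧ Nat.card A = p ^ 2 := by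
  set π := QuotientGroup.mk' Z₁ with hπ
  set W : Subgroup R := Abar.comap π with hW
  have hWn : W.Normal := hAn.comap π
  have hWcard : Nat.card W = p * p ^ 2 := by
    rw [hW, Cfsg.Agent.helper23.card_comap_mk', hcard, hAc]
  have hZ₁pow : ∀ c ∈ Z₁, c ^ p = 1 := by
    intro c hc
    have := pow_card_eq_one' (G := Z₁) (x := ⟨c, hc⟩)
    rw [hcard] at this
    exact congrArg Subtype.val this
  have hWpow : ∀ w ∈ W, w ^ p ∈ Z₁ := by
    intro w hw
    have h1 : π w ∈ Abar := hw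
    have h2 := hAea.2 _ h1
    rw [← map_pow] at h2
    exact (QuotientGroup.eq_one_iff _).mp h2
  have hWcomm : ∀ w ∈ W, ∀ v ∈ W, ⁅v, w⁆ ∈ Z₁ := by
    intro w hw v hv
    have h1 : π w ∈ Abar := hw
    have h2 : π v ∈ Abar := hv
    have h3 : π ⁅v, w⁆ = 1 := by
      rw [map_commutatorElement, commutatorElement_eq_one_iff_commute]
      exact ea_comm hAea h2 h1
    exact (QuotientGroup.eq_one_iff _).mp h3
  have hmulpow : ∀ x ∈ W, ∀ y ∈ W, (x * y) ^ p = x ^ p * y ^ p := by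
    intro x hx y hy
    have hc := hWcomm x hx y hy
    have hcc : ∀ r : R, Commute ⁅y, x⁆ r := fun r => (Subgroup.mem_center_iff.mp (hZ₁ hc) r).symm
    rw [mul_pow_class2 x y ⁅y, x⁆ (mul_eq_commutator_mul x y) (hcc x) (hcc y) p]
    have hodd : Odd p := hp.out.odd_of_ne_two hp2
    obtain ⟨k, hk⟩ := hodd
    have h1 : p * (p - 1) / 2 = p * k := by
      have : p - 1 = 2 * k := by omega
      rw [this, ← mul_assoc, mul_comm p 2, mul_assoc, Nat.mul_div_cancel_left _ (by norm_num : 0 < 2)]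
    rw [h1, pow_mul, hZ₁pow _ hc, one_pow, mul_one]
  let Ω : Subgroup R :=
    { carrier := {w | w ∈ W ∧ w ^ p = 1}
      mul_mem' := by
        rintro a b ⟨ha, ha'⟩ ⟨hb, hb'⟩
        exact ⟨W.mul_mem ha hb, by rw [hmulpow a ha b hb, ha', hb', one_mul]⟩
      one_mem' := ⟨W.one_mem, one_pow p⟩
      inv_mem' := by
        rintro a ⟨ha, ha'⟩
        exact ⟨W.inv_mem ha, by rw [inv_pow, ha', inv_one]⟩ }
  have hΩmem : ∀ w, w ∈ Ω ↔ w ∈ W ∧ w ^ p = 1 := fun w => Iff.rfl
  have hΩW : Ω ≤ W := fun w hw => hw.1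
  have hΩn : Ω.Normal := by
    constructor
    intro w hw r
    refine ⟨hWn.conj_mem w hw.1 r, ?_⟩
    rw [conj_pow, hw.2]; group
  let φ : W →* Z₁ :=
    { toFun := fun w => ⟨(w : R) ^ p, hWpow w w.2⟩
      map_one' := by ext; simp
      map_mul' := by
        intro a b
        ext
        exact hmulpow a a.2 b b.2 }
  have hker : φ.ker = Ω.subgroupOf W := by
    ext w
    rw [MonoidHom.mem_ker, Subgroup.mem_subgroupOf, hΩmem]
    constructor
    · intro h
      exact ⟨w.2, congrArg Subtype.val h⟩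
    · intro h
      exact Subtype.ext h.2
  have hidx : φ.ker.index ∣ p := by
    rw [Subgroup.index_ker, ← hcard]
    exact Subgroup.card_subgroup_dvd_card _
  have hmul : Nat.card Ω * φ.ker.index = p * p ^ 2 := by
    rw [← hWcard, ← card_subgroupOf_of_le hΩW, ← hker]
    exact Subgroup.card_mul_index _
  rcases (Nat.dvd_prime hp.out).mp hidx with h1 | h1
  · -- Ω = W
    rw [h1, mul_one] at hmul
    have hΩeq : Ω = W := Subgroup.eq_of_le_of_card_ge hΩW (by rw [hmul, hWcard])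
    have hWexp : ∀ w ∈ W, w ^ p = 1 := by
      intro w hw
      rw [← hΩeq] at hw
      exact hw.2
    have hQp : IsPGroup p (R ⧸ Z₁) := hR.to_quotient Z₁
    have hne : Abar ≠ ⊥ := by
      intro h
      rw [h, Subgroup.card_bot] at hAc
      have := hp.out.one_lt
      nlinarith
    haveI := hAn
    obtain ⟨b, hbA, hbc, hb1⟩ := Cfsg.Agent.helper1.exists_central_of_normal_ne_bot hQp Abar hne
    have hbo : orderOf b = p := orderOf_eq_prime (hAea.2 b hbA) hb1
    set Bbar := Subgroup.zpowers b with hBbar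
    have hBbarn : Bbar.Normal := normal_of_le_center _ (Subgroup.zpowers_le.mpr hbc)
    have hBbarc : Nat.card Bbar = p := by rw [Nat.card_zpowers, hbo]
    have hBbarA : Bbar ≤ Abar := Subgroup.zpowers_le.mpr hbA
    refine ⟨Bbar.comap π, hBbarn.comap π, ?_, ?_⟩
    · apply ea_of_card_sq
      · rw [Cfsg.Agent.helper23.card_comap_mk', hcard, hBbarc, pow_two]
      · intro x hx
        exact hWexp x (Subgroup.comap_mono hBbarA hx)
    · rw [Cfsg.Agent.helper23.card_comap_mk', hcard, hBbarc, pow_two]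
  · rw [h1] at hmul
    have hΩc : Nat.card Ω = p ^ 2 := by
      have : Nat.card Ω * p = p ^ 2 * p := by rw [hmul]; ring
      exact Nat.eq_of_mul_eq_mul_right hp.out.pos this
    exact ⟨Ω, hΩn, ea_of_card_sq Ω hΩc (fun w hw => hw.2), hΩc⟩

theorem aux {p : ℕ} [hp : Fact p.Prime] (hp2 : p ≠ 2) : ∀ (n : ℕ) (R : Type u) [Group R] [Finite R],
    Nat.card R = n → IsPGroup p R → ¬ IsCyclic R →
    ∃ A : Subgroup R, A.Normal ∧ Cfsg.IsElementaryAbelian p A ∧ Nat.card A = p ^ 2 := by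
  intro n
  induction n using Nat.strong_induction_on with
  | _ n IH =>
    intro R _ _ hn hR hnc
    haveI : Nontrivial R := by
      by_contra h
      rw [not_nontrivial_iff_subsingleton] at h
      exact hnc inferInstance
    obtain ⟨k, hk0, hk⟩ := (hR.to_subgroup (Subgroup.center R)).nontrivial_iff_card.mp hR.center_nontrivial
    obtain ⟨z, hz⟩ := exists_prime_orderOf_dvd_card' (G := Subgroup.center R) p
      (by rw [hk]; exact dvd_pow_self _ hk0.ne')
    set Z₁ := Subgroup.zpowers (z : R) with hZ₁def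
    have hZ₁ : Z₁ ≤ Subgroup.center R := Subgroup.zpowers_le.mpr z.2
    haveI : Z₁.Normal := normal_of_le_center Z₁ hZ₁
    have hcard : Nat.card Z₁ = p := by rw [Nat.card_zpowers, Subgroup.orderOf_coe, hz]
    by_cases hQ : IsCyclic (R ⧸ Z₁)
    · exact case_cyclic hR hnc Z₁ hZ₁ hcard hQ
    · have hlt : Nat.card (R ⧸ Z₁) < n := by
        have h1 := Subgroup.card_eq_card_quotient_mul_card_subgroup Z₁
        rw [hn, hcard] at h1
        have h2 : 0 < Nat.card (R ⧸ Z₁) := Nat.card_pos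
        have := hp.out.two_le
        nlinarith
      obtain ⟨Abar, hAn, hAea, hAc⟩ := IH _ hlt (R ⧸ Z₁) rfl (hR.to_quotient Z₁) hQ
      exact case_noncyclic hp2 hR Z₁ hZ₁ hcard Abar hAn hAea hAc

theorem result {R : Type*} [Group R] [Finite R] {p : ℕ} [Fact p.Prime] (hp : p ≠ 2) (hR : IsPGroup p R) (hnc : ¬ IsCyclic R) : ∃ A : Subgroup R, A.Normal ∧ Cfsg.IsElementaryAbelian p A ∧ Nat.card A = p ^ 2 :=
  aux hp _ R rfl hR hnc

end Cfsg.Agent.S0126
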