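import Cfsg.Statements.S0016
import Cfsg.Agent.S0126
import Cfsg.Agent.H16UniqueInvol
import Cfsg.Agent.Lib_helper11_QuatPres

set_option autoImplicit false
open Cfsg

namespace Cfsg.Agent.S0016

open Cfsg.Agent.H16UniqueInvol Cfsg.Agent.helper11.QuatPres

/-- a group with generalized quaternion presentation data is a generalized quaternion group -/
theorem quat_equiv {P : Type*} [Group P] [Finite P] (x y : P) (k : ℕ) (hk : 2 ≤ k)
    (hord : orderOf x = 2 ^ k)
    (hcos : ∀ g : P, g ∈ Subgroup.zpowers x ∨ y⁻¹ * g ∈ Subgroup.zpowers x)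
    (hxy : y * x * y⁻¹ = x⁻¹) (hyy : y * y = x ^ (2 ^ (k - 1))) :
    Nonempty (P ≃* QuaternionGroup (2 ^ (k - 1))) := by
  haveI : NeZero (2 ^ (k - 1)) := ⟨pow_ne_zero _ (by norm_num)⟩
  have h2n : 2 * 2 ^ (k - 1) = 2 ^ k := by
    rw [← pow_succ']
    congr 1; omega
  have hord' : orderOf x = 2 * 2 ^ (k - 1) := by rw [h2n]; exact hord
  have hx : x ^ (2 * 2 ^ (k - 1)) = 1 := by rw [← hord']; exact pow_orderOf_eq_one x
  have hy : y ^ 2 = x ^ (2 ^ (k - 1)) := by rw [pow_two]; exact hyy
  have hn : 2 ≤ 2 ^ (k - 1) := by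
    calc 2 = 2 ^ 1 := by norm_num
      _ ≤ 2 ^ (k - 1) := Nat.pow_le_pow_right (by norm_num) (by omega)
  have hinj := quatHom_injective (n := 2 ^ (k - 1)) hn hord' hy hxy
  have hsurj : Function.Surjective (quatHom (n := 2 ^ (k - 1)) x y hx hy hxy) := by
    intro g
    have hpow : ∀ g' : P, g' ∈ Subgroup.zpowers x → ∃ m : ℕ, g' = x ^ m := by
      intro g' hg'
      rw [← mem_powers_iff_mem_zpowers] at hg'
      obtain ⟨m, hm⟩ := (Submonoid.mem_powers_iff _ _).mp hg'
      exact ⟨m, hm.symm⟩
    rcases hcos g with h | h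
    · obtain ⟨m, hm⟩ := hpow g h
      refine ⟨QuaternionGroup.a (m : ZMod (2 * 2 ^ (k - 1))), ?_⟩
      show quatFun x y (QuaternionGroup.a (m : ZMod (2 * 2 ^ (k - 1)))) = g
      simp only [quatFun]
      rw [e_natCast hx, hm]
    · obtain ⟨m, hm⟩ := hpow _ h
      refine ⟨QuaternionGroup.xa (m : ZMod (2 * 2 ^ (k - 1))), ?_⟩
      show quatFun x y (QuaternionGroup.xa (m : ZMod (2 * 2 ^ (k - 1)))) = g
      simp only [quatFun]
      rw [e_natCast hx, ← hm]
      group
  exact ⟨(MulEquiv.ofBijective _ ⟨hinj, hsurj⟩).symm⟩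

theorem result {G : Type*} [Group G] [Finite G] (p : ℕ) [Fact p.Prime]
    (hG : IsPGroup p G) (huniq : ∀ H K : Subgroup G, Nat.card H = p → Nat.card K = p → H = K) :
    IsCyclic G ∨ (p = 2 ∧ ∃ n : ℕ, Nonempty (G ≃* QuaternionGroup (2 ^ n))) := by
  have hp : p.Prime := Fact.out
  by_cases hcyc : IsCyclic G
  · exact Or.inl hcyc
  right
  by_cases hp2 : p = 2
  · subst hp2
    refine ⟨rfl, ?_⟩
    haveI : Nontrivial G := by
      by_contra h
      rw [not_nontrivial_iff_subsingleton] at h
      exact hcyc inferInstance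
    have hdvd : 2 ∣ Nat.card G := by
      obtain ⟨n, hn0, hn⟩ := hG.nontrivial_iff_card.mp inferInstance
      rw [hn]; exact dvd_pow_self _ hn0.ne'
    obtain ⟨z, hz⟩ := exists_prime_orderOf_dvd_card' (G := G) 2 hdvd
    have hzU : UInv z := by
      refine ⟨?_, ?_, ?_⟩
      · intro e
        rw [e, orderOf_one] at hz
        norm_num at hz
      · rw [← pow_two, ← hz]; exact pow_orderOf_eq_one z
      · intro g hg
        by_cases hg1 : g = 1
        · exact Or.inl hg1
        right
        have hgo : orderOf g = 2 := orderOf_eq_prime (by rw [pow_two]; exact hg) hg1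
        have h1 : Subgroup.zpowers g = Subgroup.zpowers z :=
          huniq _ _ (by rw [Nat.card_zpowers, hgo]) (by rw [Nat.card_zpowers, hz])
        have h2 : g ∈ Subgroup.zpowers z := by rw [← h1]; exact Subgroup.mem_zpowers g
        rw [← mem_powers_iff_mem_zpowers, Submonoid.mem_powers_iff] at h2
        obtain ⟨m, hm⟩ := h2
        have hm' : z ^ (m % 2) = g := by
          rw [← hm, ← hz]; exact (pow_mod_orderOf z m)
        have : m % 2 = 0 ∨ m % 2 = 1 := by omega
        rcases this with h | h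
        · rw [h, pow_zero] at hm'; exact absurd hm'.symm hg1
        · rw [h, pow_one] at hm'; exact hm'.symm
    by_cases hcomm : ∀ a b : G, a * b = b * a
    · exfalso
      apply hcyc
      letI : CommGroup G := { ‹Group G› with mul_comm := hcomm }
      apply isCyclic_of_comm hG
      intro a b ha hb ha1 hb1
      rcases hzU.uniq a ha with h | h
      · exact absurd h ha1
      rcases hzU.uniq b hb with h' | h'
      · exact absurd h' hb1
      rw [h, h']
    · push Not at hcomm
      obtain ⟨g, h, hgh⟩ := hcomm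
      obtain ⟨x, y, k, hk, hord, -, hcos, hxy, hyy, hxz⟩ := structure_thm hG hzU ⟨g, h, hgh⟩
      exact ⟨k - 1, quat_equiv x y k hk hord hcos hxy (by rw [hyy, hxz])⟩
  · exfalso
    obtain ⟨A, -, hAea, hAc⟩ := Cfsg.Agent.S0126.result hp2 hG hcyc
    have hAp : IsPGroup p A := hG.to_subgroup A
    haveI : Nontrivial A := by
      rw [← Finite.one_lt_card_iff_nontrivial, hAc]
      exact Nat.one_lt_pow (by norm_num) hp.one_lt
    obtain ⟨a, ha1⟩ := exists_ne (1 : A)
    have hao : orderOf (a : G) = p := by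
      apply orderOf_eq_prime (hAea.2 a a.2)
      intro h
      exact ha1 (Subtype.ext h)
    have hlt : Nat.card (Subgroup.zpowers (a : G)) < Nat.card A := by
      rw [Nat.card_zpowers, hao, hAc]
      have := hp.one_lt
      nlinarith
    obtain ⟨b, hbA, hb⟩ : ∃ b ∈ A, b ∉ Subgroup.zpowers (a : G) := by
      by_contra hcon
      push Not at hcon
      have : A ≤ Subgroup.zpowers (a : G) := hcon
      have := Subgroup.card_le_of_le this
      omega
    have hbo : orderOf b = p := by
      apply orderOf_eq_prime (hAea.2 b hbA)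
      intro h
      apply hb
      rw [h]; exact Subgroup.one_mem _
    have := huniq (Subgroup.zpowers b) (Subgroup.zpowers (a : G))
      (by rw [Nat.card_zpowers, hbo]) (by rw [Nat.card_zpowers, hao])
    apply hb
    rw [← this]
    exact Subgroup.mem_zpowers b

end Cfsg.Agent.S0016
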