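import Mathlib
import Cfsg.Agent.Lib_helper12_ZS1
import Cfsg.Agent.Lib_helper12_Q8g
import Cfsg.Agent.S0016

set_option autoImplicit false

/-!
Glauberman's Z*-theorem (helper12): the case of a unique involution in the centralizer
(cyclic or generalized quaternion Sylow 2-subgroups).
-/

namespace Cfsg.Agent.helper12

open Cfsg

universe u

section ZS3

variable {G : Type u} [Group G] [Finite G]

/-- cyclic Sylow 2-subgroup and trivial odd core: the Sylow subgroup is everything -/
theorem zs_cyclic_sylow_case (S : Sylow 2 G) (hcyc : IsCyclic (S : Subgroup G))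
    (hO : ∀ N : Subgroup G, N.Normal → Odd (Nat.card N) → N = ⊥) {t : G} (ht : orderOf t = 2)
    (htZ : ∀ s ∈ (S : Subgroup G), Commute s t) : t ∈ Subgroup.center G := by
  classical
  have h2dvd : 2 ∣ Nat.card G := by
    have := orderOf_dvd_natCard t
    rwa [ht] at this
  have hp : (Nat.card G).minFac = 2 := (Nat.minFac_eq_two_iff _).mpr h2dvd
  have hNC := IsCyclic.normalizer_le_centralizer hp (P := S) hcyc
  have hcomp := MonoidHom.ker_transferSylow_isComplement' S hNC
  have hodd : ¬ 2 ∣ Nat.card (MonoidHom.transferSylow S hNC).ker :=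
    MonoidHom.not_dvd_card_ker_transferSylow S hNC
  have hbot := hO _ (MonoidHom.normal_ker _) (by
    rw [← Nat.not_even_iff_odd, even_iff_two_dvd]; exact hodd)
  have hcard := hcomp.card_mul
  rw [hbot, Subgroup.card_bot, one_mul] at hcard
  have htop : (S : Subgroup G) = ⊤ := (Subgroup.card_eq_iff_eq_top _).mp hcard
  rw [Subgroup.mem_center_iff]
  intro g
  exact (htZ g (by rw [htop]; exact Subgroup.mem_top g)).eq

theorem zs_unique_involution_case
    (hO : ∀ N : Subgroup G, N.Normal → Odd (Nat.card N) → N = ⊥) {t : G} (ht : orderOf t = 2)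
    (hA : ∀ s : G, orderOf s = 2 → Commute s t → s = t) : t ∈ Subgroup.center G := by
  classical
  haveI : Fact (Nat.Prime 2) := ⟨Nat.prime_two⟩
  have hpg : IsPGroup 2 (Subgroup.zpowers t) :=
    IsPGroup.of_card (n := 1) (by rw [Nat.card_zpowers, ht, pow_one])
  obtain ⟨S, hS⟩ := hpg.exists_le_sylow
  have htS : t ∈ (S : Subgroup G) := hS (Subgroup.mem_zpowers t)
  have htne : t ≠ 1 := by
    intro h; rw [h, orderOf_one] at ht; omega
  haveI : Nontrivial (S : Subgroup G) :=
    ⟨⟨⟨t, htS⟩, 1, fun h => htne (congrArg Subtype.val h)⟩⟩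
  haveI hcn : Nontrivial (Subgroup.center (S : Subgroup G)) := S.2.center_nontrivial
  have hcpg : IsPGroup 2 (Subgroup.center (S : Subgroup G)) := S.2.to_subgroup _
  obtain ⟨k, hk⟩ := hcpg.exists_card_eq
  have hk0 : k ≠ 0 := by
    intro h
    rw [h, pow_zero] at hk
    have := Finite.one_lt_card (α := Subgroup.center (S : Subgroup G))
    omega
  have h2c : 2 ∣ Nat.card (Subgroup.center (S : Subgroup G)) := by
    rw [hk]; exact dvd_pow_self 2 hk0
  obtain ⟨c, hc⟩ := exists_prime_orderOf_dvd_card' (G := Subgroup.center (S : Subgroup G)) 2 h2c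
  have hcG : orderOf (((c : (S : Subgroup G)) : G)) = 2 := by
    rw [Subgroup.orderOf_coe, Subgroup.orderOf_coe]; exact hc
  have hct : Commute (((c : (S : Subgroup G)) : G)) t := by
    have h1 := Subgroup.mem_center_iff.mp c.2 ⟨t, htS⟩
    have h2 := congrArg Subtype.val h1
    simp only [Subgroup.coe_mul] at h2
    exact h2.symm
  have hceq := hA _ hcG hct
  have htZ : ∀ s ∈ (S : Subgroup G), Commute s t := by
    intro s hs
    have h1 := Subgroup.mem_center_iff.mp c.2 ⟨s, hs⟩
    have h2 := congrArg Subtype.val h1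
    simp only [Subgroup.coe_mul] at h2
    rw [hceq] at h2
    exact h2
  have hS1 : ∀ s ∈ (S : Subgroup G), orderOf s = 2 → s = t := fun s hs ho => hA s ho (htZ s hs)
  -- unique subgroup of order 2
  let tS : (S : Subgroup G) := ⟨t, htS⟩
  have hotS : orderOf tS = 2 := by rw [← Subgroup.orderOf_coe]; exact ht
  have huniq' : ∀ H : Subgroup (S : Subgroup G), Nat.card H = 2 → H = Subgroup.zpowers tS := by
    intro H hH
    obtain ⟨h, hh⟩ := exists_prime_orderOf_dvd_card' (G := H) 2 (by rw [hH])
    have h1 : orderOf (((h : (S : Subgroup G)) : G)) = 2 := by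
      rw [Subgroup.orderOf_coe, Subgroup.orderOf_coe]; exact hh
    have h2 := hS1 _ (h : (S : Subgroup G)).2 h1
    have h3 : (h : (S : Subgroup G)) = tS := Subtype.ext h2
    have h4 : tS ∈ H := by rw [← h3]; exact h.2
    symm
    apply Subgroup.eq_of_le_of_card_ge ((Subgroup.zpowers_le).mpr h4)
    rw [Nat.card_zpowers, hotS, hH]
  have huniq : ∀ H K : Subgroup (S : Subgroup G), Nat.card H = 2 → Nat.card K = 2 → H = K :=
    fun H K hH hK => (huniq' H hH).trans (huniq' K hK).symm
  rcases Cfsg.Agent.S0016.result 2 S.2 huniq with hcyc | ⟨-, n, ⟨e⟩⟩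
  · exact zs_cyclic_sylow_case S hcyc hO ht htZ
  · cases n with
    | zero =>
      have hc1 : IsCyclic (QuaternionGroup (2 ^ 0)) :=
        QuaternionGroup.quaternionGroup_one_isCyclic
      have hcyc : IsCyclic (S : Subgroup G) :=
        isCyclic_of_surjective e.symm e.symm.surjective
      exact zs_cyclic_sylow_case S hcyc hO ht htZ
    | succ m =>
      have hcard := bs_full S m e hO
      obtain ⟨z, hz⟩ := exists_prime_orderOf_dvd_card' (G := Subgroup.center G) 2
        (by rw [hcard])
      have hzG : orderOf (z : G) = 2 := by rw [Subgroup.orderOf_coe]; exact hz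
      have hzt : Commute (z : G) t := (Subgroup.mem_center_iff.mp z.2 t).symm
      have := hA _ hzG hzt
      rw [← this]
      exact z.2

end ZS3

end Cfsg.Agent.helper12
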