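import Mathlib
import Cfsg.Agent.Lib_helper12_ZS1

set_option autoImplicit false

/-!
Glauberman's Z*-theorem (helper12): the dihedral group generated by an isolated involution and a
non-conjugate involution.
-/

namespace Cfsg.Agent.helper12

open Cfsg

universe u

theorem zs_dihedral {G : Type u} [Group G] [Finite G] {x y : G} (hx : IsIsolatedInvolution x)
    (hy : orderOf y = 2) (hxy : ¬ IsConj x y) :
    ∃ (u' y'' : G) (j : ℕ), orderOf u' = 2 ∧ Commute u' x ∧ Commute u' y ∧ u' = x * y'' ∧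
      Commute x y'' ∧ IsConj y y'' ∧ x * y = u' * ((x * y) ^ 2) ^ (j + 1) := by
  have hx2 : x * x = 1 := helper6.isolated_sq hx
  have hxinv : x⁻¹ = x := helper6.isolated_inv hx
  have hy2 : y * y = 1 := by
    have := pow_orderOf_eq_one y
    rw [hy, pow_two] at this
    exact this
  have hyinv : y⁻¹ = y := inv_eq_of_mul_eq_one_left hy2
  obtain ⟨r, hr⟩ : ∃ r, r = x * y := ⟨_, rfl⟩
  have hrinv : r⁻¹ = y * x := by rw [hr, mul_inv_rev, hxinv, hyinv]
  have hxr : x * r * x⁻¹ = r⁻¹ := by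
    rw [hrinv, hr, hxinv]
    calc x * (x * y) * x = (x * x) * y * x := by group
      _ = y * x := by rw [hx2, one_mul]
  have hyr : y * r * y⁻¹ = r⁻¹ := by
    rw [hrinv, hr, hyinv]
    calc y * (x * y) * y = y * x * (y * y) := by group
      _ = y * x := by rw [hy2, mul_one]
  have hxr_eq : x * r = y := by rw [hr, ← mul_assoc, hx2, one_mul]
  have hnpos : 0 < orderOf r := orderOf_pos r
  have heven : Even (orderOf r) := by
    by_contra hodd
    rw [Nat.not_even_iff_odd] at hodd
    obtain ⟨j, hj⟩ := hodd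
    apply hxy
    rw [isConj_iff]
    refine ⟨r ^ j, ?_⟩
    have h1 : x * (r ^ j)⁻¹ = r ^ j * x := helper6.conj_inv_pow' hxr j
    have h2 : r ^ j * x * (r ^ j)⁻¹ = r ^ j * (x * (r ^ j)⁻¹) := by group
    rw [h2, h1, ← mul_assoc, ← pow_add]
    have h3 : r ^ (j + j) = r⁻¹ := by
      rw [eq_inv_iff_mul_eq_one, ← pow_succ]
      have : j + j + 1 = orderOf r := by omega
      rw [this, pow_orderOf_eq_one]
    rw [h3, hrinv, mul_assoc, hx2, mul_one]
  obtain ⟨m, hm⟩ := heven
  have hm0 : 0 < m := by omega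
  obtain ⟨u', hu'⟩ : ∃ u', u' = r ^ m := ⟨_, rfl⟩
  have hou : orderOf u' = 2 := by
    rw [hu', orderOf_pow_of_dvd hm0.ne' ⟨2, by omega⟩, hm]
    have : m + m = 2 * m := by ring
    rw [this, Nat.mul_div_cancel _ hm0]
  have hu2 : u' * u' = 1 := by
    have := pow_orderOf_eq_one u'
    rw [hou, pow_two] at this
    exact this
  have huinv : u'⁻¹ = u' := inv_eq_of_mul_eq_one_left hu2
  have hux : Commute u' x := by
    have h1 : x * u' * x⁻¹ = u'⁻¹ := by rw [hu']; exact helper6.conj_pow_inv hxr m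
    rw [huinv] at h1
    have : x * u' = u' * x := by
      calc x * u' = (x * u' * x⁻¹) * x := by group
        _ = u' * x := by rw [h1]
    exact this.symm
  have huy : Commute u' y := by
    have h1 : y * u' * y⁻¹ = u'⁻¹ := by rw [hu']; exact helper6.conj_pow_inv hyr m
    rw [huinv] at h1
    have : y * u' = u' * y := by
      calc y * u' = (y * u' * y⁻¹) * y := by group
        _ = u' * y := by rw [h1]
    exact this.symm
  have hune : u' ≠ 1 := by
    intro h
    rw [h, orderOf_one] at hou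
    omega
  have hmodd : Odd m := by
    by_contra hme
    rw [Nat.not_odd_iff_even] at hme
    obtain ⟨k, hk⟩ := hme
    have h1 : x * r ^ k = (r ^ k)⁻¹ * x := helper6.conj_pow_inv' hxr k
    have h2 : (r ^ k)⁻¹ * x * ((r ^ k)⁻¹)⁻¹ = x * u' := by
      rw [inv_inv, ← h1, mul_assoc, ← pow_add, ← hk, ← hu']
    have h3 : Commute x ((r ^ k)⁻¹ * x * ((r ^ k)⁻¹)⁻¹) := by
      rw [h2]
      exact (Commute.refl x).mul_right hux.symm
    have h4 := hx.2 _ h3
    rw [h2] at h4
    exact hune (by simpa using h4)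
  obtain ⟨k, hk⟩ := hmodd
  refine ⟨u', x * u', k, hou, hux, huy, ?_, ?_, ?_, ?_⟩
  · rw [← mul_assoc, hx2, one_mul]
  · exact (Commute.refl x).mul_right hux.symm
  · rw [isConj_iff]
    refine ⟨(r ^ k)⁻¹, ?_⟩
    have h1 : y * r ^ k = (r ^ k)⁻¹ * y := helper6.conj_pow_inv' hyr k
    rw [inv_inv, ← h1, mul_assoc, ← pow_add, hu', hk, ← hxr_eq, mul_assoc, ← pow_succ']
    congr 2
    ring
  · rw [← hr, hu', ← pow_mul, ← pow_add]
    have : m + 2 * (k + 1) = orderOf r + 1 := by omega
    rw [this, pow_succ, pow_orderOf_eq_one, one_mul]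

end Cfsg.Agent.helper12
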