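import Cfsg.Statements.S0943
import Mathlib
import Cfsg.Agent.Lib_helper24_Char
import Cfsg.Agent.Lib_helper23_ClassSum

set_option autoImplicit false
open Cfsg

namespace Cfsg.Agent.S0943

open Cfsg.Agent.helper24 Cfsg.Agent.helper23

theorem result {G : Type*} [Group G] [Finite G] (χ : Cfsg.IrrCharacter G) (u v : G) (hc : ∀ x y : G, IsConj u x → IsConj v y → (χ : G → ℂ) (x * y) = (χ : G → ℂ) (u * v)) : (χ : G → ℂ) u * (χ : G → ℂ) v = (χ : G → ℂ) 1 * (χ : G → ℂ) (u * v) := by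
  classical
  have := Fintype.ofFinite G
  have key := irr_sum_conj_mul χ u v
  have h1 : ∀ g : G, (χ : G → ℂ) (g * u * g⁻¹ * v) = (χ : G → ℂ) (u * v) := by
    intro g
    exact hc _ _ (isConj_iff.mpr ⟨g, rfl⟩) (IsConj.refl v)
  simp_rw [h1] at key
  rw [Finset.sum_const, Finset.card_univ, nsmul_eq_mul, Fintype.card_eq_nat_card] at key
  have hG : (Nat.card G : ℂ) ≠ 0 := by exact_mod_cast Nat.card_pos.ne'
  have h1ne : (χ : G → ℂ) 1 ≠ 0 := irr_apply_one_ne_zero χ.2
  field_simp at key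
  rw [← key]; ring

end Cfsg.Agent.S0943
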