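import Cfsg.Statements.S1182
import Cfsg.Agent.Lib_helper6_Isolated

set_option autoImplicit false
open Cfsg

namespace Cfsg.Agent.S1182

/-- Let z be an isolated involution of the finite group G and H a subgroup normalized by z. If x, y ∈ H both commute with z and y = h x h⁻¹ for some h ∈ H, then y = c x c⁻¹ for some c ∈ H commuting with z. -/
theorem result {G : Type*} [Group G] [Finite G] (z : G) (hz : Cfsg.IsIsolatedInvolution z) (H : Subgroup G) (hzH : z ∈ Subgroup.normalizer (H : Set G)) (x y : G) (hx : x ∈ H) (hy : y ∈ H) (hxz : Commute x z) (hyz : Commute y z) (h : G) (hh : h ∈ H) (hconj : h * x * h⁻¹ = y) : ∃ c ∈ H, Commute c z ∧ c * x * c⁻¹ = y := by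
  have hz2 := Cfsg.Agent.helper6.isolated_sq hz
  have hzinv := Cfsg.Agent.helper6.isolated_inv hz
  obtain ⟨k, hk, -, -, hk2⟩ := Cfsg.Agent.helper6.exists_odd_conjugator hz h⁻¹
  rw [inv_inv] at hk hk2
  -- z' = h⁻¹ z h commutes with x
  have hxz' : x * (h⁻¹ * z * h) = (h⁻¹ * z * h) * x := by
    have e1 : x * (h⁻¹ * z * h) = h⁻¹ * ((h * x * h⁻¹) * z) * h := by group
    have e2 : (h⁻¹ * z * h) * x = h⁻¹ * (z * (h * x * h⁻¹)) * h := by group
    rw [e1, e2, hconj, hyz.eq]
  have hvH : h⁻¹ * z * h * z ∈ H := by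
    have h1 : z * h * z⁻¹ ∈ H := (Subgroup.mem_normalizer_iff.1 hzH h).1 hh
    have : h⁻¹ * z * h * z = h⁻¹ * (z * h * z⁻¹) := by rw [hzinv]; group
    rw [this]
    exact H.mul_mem (H.inv_mem hh) h1
  have hvC : h⁻¹ * z * h * z ∈ Subgroup.centralizer ({x} : Set G) := by
    rw [Subgroup.mem_centralizer_singleton_iff]
    calc h⁻¹ * z * h * z * x = h⁻¹ * z * h * (x * z) := by rw [hxz.eq, mul_assoc]
      _ = (h⁻¹ * z * h * x) * z := by rw [mul_assoc (h⁻¹ * z * h)]
      _ = x * (h⁻¹ * z * h * z) := by rw [← hxz', mul_assoc]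
  have hle : Subgroup.zpowers (h⁻¹ * z * h * z) ≤ H ⊓ Subgroup.centralizer ({x} : Set G) := by
    rw [Subgroup.zpowers_le]; exact ⟨hvH, hvC⟩
  have hkm := hle hk
  have hkH : k ∈ H := hkm.1
  have hkx : k * x = x * k := Subgroup.mem_centralizer_singleton_iff.1 hkm.2
  refine ⟨h * k, H.mul_mem hh hkH, ?_, ?_⟩
  · unfold Commute SemiconjBy
    have : h * k * z = h * (k * z * k⁻¹) * k := by group
    rw [this, hk2]; group
  · have : h * k * x * (h * k)⁻¹ = h * (k * x * k⁻¹) * h⁻¹ := by group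
    rw [this, hkx, mul_assoc x, mul_inv_cancel, mul_one, hconj]

end Cfsg.Agent.S1182
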