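import Mathlib
import Cfsg.Agent.Lib_helper12_ZS2
import Cfsg.Agent.Lib_helper12_Q8f
import Cfsg.Agent.Lib_helper24_PrincipalLocal2
import Cfsg.Agent.Lib_helper24_CharOrth
import Cfsg.Agent.Lib_helper24_CharCod
import Cfsg.Agent.S0943
import Cfsg.Agent.S1182

set_option autoImplicit false

/-!
Glauberman's Z*-theorem (helper12): the character-theoretic step.
-/

namespace Cfsg.Agent.helper12

open Cfsg

universe u

section ZS4

variable {G : Type u} [Group G] [Finite G]

/-- the inductive hypothesis on centralizers of involutions, in `G`-terms -/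
def ZCentHyp (G : Type u) [Group G] : Prop :=
  ∀ u' : G, orderOf u' = 2 → ∀ x : G, IsIsolatedInvolution x → Commute u' x →
    ∀ y : G, Commute u' y → x * y * x⁻¹ * y⁻¹ ∈ centralizerPPrimeCore 2 u'

theorem zs_prod_value {t : G} (ht : IsIsolatedInvolution t) (hIH : ZCentHyp G)
    {s : G} (hs : orderOf s = 2) (hst : Commute s t) (hne : s ≠ t)
    (M : Ideal AlgInt) (hM : IsPModular 2 M) (χ : IrrCharacter G)
    (hχ : χ ∈ principalBlock M G) {x y : G} (hx : IsConj t x) (hy : IsConj s y) :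
    (χ : G → ℂ) (x * y) = (χ : G → ℂ) (t * s) := by
  haveI : Fact (Nat.Prime 2) := ⟨Nat.prime_two⟩
  obtain ⟨a, ha⟩ := isConj_iff.mp hx
  have hxi : IsIsolatedInvolution x := ha ▸ helper6.isolated_conj ht a
  have hoy : orderOf y = 2 := by
    obtain ⟨b, hb⟩ := isConj_iff.mp hy
    rw [← hb, bs_orderOf_conj]; exact hs
  have hnxy : ¬ IsConj x y := by
    intro h
    have h1 : IsConj t s := hx.trans (h.trans hy.symm)
    obtain ⟨c, hc⟩ := isConj_iff.mp h1
    have h2 := ht.2 c (by rw [hc]; exact hst.symm)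
    exact hne (hc.symm.trans h2)
  obtain ⟨u', y'', j, hou, hux, huy, hueq, hxy'', hyy'', hprod⟩ := zs_dihedral hxi hoy hnxy
  have hxinv : x⁻¹ = x := helper6.isolated_inv hxi
  have hy2 : y * y = 1 := by
    have := pow_orderOf_eq_one y
    rw [hoy, pow_two] at this
    exact this
  have hyinv : y⁻¹ = y := inv_eq_of_mul_eq_one_left hy2
  have hcomm := hIH u' hou x hxi hux y huy
  have hsq : x * y * x⁻¹ * y⁻¹ = (x * y) ^ 2 := by
    rw [hxinv, hyinv, pow_two]; group
  rw [hsq] at hcomm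
  have hv : ((x * y) ^ 2) ^ (j + 1) ∈ centralizerPPrimeCore 2 u' := Subgroup.pow_mem _ hcomm _
  have h1 := helper24.principal_block_const_on_core 2 M hM u' ⟨1, by rw [hou]; norm_num⟩ _ hv χ hχ
  rw [← hprod] at h1
  rw [h1]
  -- `u'` is conjugate to `t * s`
  obtain ⟨b, hb⟩ := isConj_iff.mp (hy.trans hyy'')
  have hy₂t : Commute (a⁻¹ * y'' * a) t := by
    have h2 : x * y'' = y'' * x := hxy''.eq
    rw [← ha] at h2
    have h3 : (a⁻¹ * y'' * a) * t = a⁻¹ * (y'' * (a * t * a⁻¹)) * a := by group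
    have h4 : t * (a⁻¹ * y'' * a) = a⁻¹ * ((a * t * a⁻¹) * y'') * a := by group
    show (a⁻¹ * y'' * a) * t = t * (a⁻¹ * y'' * a)
    rw [h3, h4, h2]
  have hconj : (a⁻¹ * b) * s * (a⁻¹ * b)⁻¹ = a⁻¹ * y'' * a := by
    rw [← hb]; group
  obtain ⟨c, -, hct, hcs⟩ := Cfsg.Agent.S1182.result t ht ⊤ (Subgroup.le_normalizer
    (Subgroup.mem_top t)) s (a⁻¹ * y'' * a) (Subgroup.mem_top _) (Subgroup.mem_top _) hst hy₂t
    (a⁻¹ * b) (Subgroup.mem_top _) hconj
  have hu'conj : u' = (a * c) * (t * s) * (a * c)⁻¹ := by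
    have h5 : c * t * c⁻¹ = t := by
      rw [hct.eq, mul_assoc, mul_inv_cancel, mul_one]
    have h6 : (a * c) * (t * s) * (a * c)⁻¹ = a * ((c * t * c⁻¹) * (c * s * c⁻¹)) * a⁻¹ := by group
    rw [h6, h5, hcs, hueq, ← ha]
    group
  rw [hu'conj]
  exact helper24.char_isClassFunction (helper24.irr_isCharacter χ.2) (t * s) (a * c)

theorem zs_star_relation {t : G} (ht : IsIsolatedInvolution t) (hIH : ZCentHyp G)
    {s : G} (hs : orderOf s = 2) (hst : Commute s t) (hne : s ≠ t)
    (M : Ideal AlgInt) (hM : IsPModular 2 M) (χ : IrrCharacter G)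
    (hχ : χ ∈ principalBlock M G) :
    (χ : G → ℂ) t * (χ : G → ℂ) s = (χ : G → ℂ) 1 * (χ : G → ℂ) (t * s) :=
  Cfsg.Agent.S0943.result χ t s
    (fun _ _ hx hy => zs_prod_value ht hIH hs hst hne M hM χ hχ hx hy)

/-- in the presence of a second involution in `C(t)`, some nontrivial irreducible character has
`t` in its kernel -/
theorem zs_exists_kernel_char {t : G} (ht : IsIsolatedInvolution t) (hIH : ZCentHyp G)
    {s : G} (hs : orderOf s = 2) (hst : Commute s t) (hne : s ≠ t) :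
    ∃ χ : IrrCharacter G, χ ≠ helper24.oneIrr G ∧ (χ : G → ℂ) t = (χ : G → ℂ) 1 := by
  classical
  haveI : Fact (Nat.Prime 2) := ⟨Nat.prime_two⟩
  letI : Fintype G := Fintype.ofFinite G
  obtain ⟨M, hM⟩ := helper24.exists_isPModular Nat.prime_two
  have hMtop : M ≠ ⊤ := hM.2.1.ne_top
  have ht2 : t * t = 1 := helper6.isolated_sq ht
  have htinv : t⁻¹ = t := helper6.isolated_inv ht
  have hs2 : s * s = 1 := by
    have := pow_orderOf_eq_one s
    rw [hs, pow_two] at this
    exact this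
  have hsinv : s⁻¹ = s := inv_eq_of_mul_eq_one_left hs2
  have hsne : s ≠ 1 := by
    intro h; rw [h, orderOf_one] at hs; omega
  -- the involution t * s
  have hts2 : (t * s) * (t * s) = 1 := by
    have : (t * s) * (t * s) = t * (s * t) * s := by group
    rw [this, hst.eq, ← mul_assoc, ht2, one_mul, hs2]
  have htsne1 : t * s ≠ 1 := by
    intro h
    have : s = t⁻¹ := (eq_inv_of_mul_eq_one_right h)
    rw [htinv] at this
    exact hne this
  have hots : orderOf (t * s) = 2 := orderOf_eq_prime (by rw [pow_two]; exact hts2) htsne1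
  have htst : Commute (t * s) t := by
    show (t * s) * t = t * (t * s)
    rw [mul_assoc, hst.eq]
  have htsne : t * s ≠ t := by
    intro h
    exact hsne (by simpa using h)
  have htts : t * (t * s) = s := by rw [← mul_assoc, ht2, one_mul]
  by_contra hcon
  push Not at hcon
  obtain ⟨Bf, hBf⟩ : ∃ Bf : Finset (IrrCharacter G),
      Bf = (Set.toFinite (principalBlock M G)).toFinset := ⟨_, rfl⟩
  have hoB : helper24.oneIrr G ∈ Bf := by
    rw [hBf, Set.Finite.mem_toFinset]
    exact helper24.oneIrr_mem_principalBlock hMtop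
  have hmemB : ∀ χ ∈ Bf, χ ∈ principalBlock M G := by
    intro χ hχ
    rw [hBf, Set.Finite.mem_toFinset] at hχ
    exact hχ
  have hPs : IsPPart 2 s s :=
    ⟨1, mul_one _, Commute.one_right _, ⟨1, by rw [hs]; norm_num⟩, by rw [orderOf_one]; norm_num⟩
  have hPt : IsPPart 2 t t :=
    ⟨1, mul_one _, Commute.one_right _, ⟨1, by rw [ht.1]; norm_num⟩,
      by rw [orderOf_one]; norm_num⟩
  have hn1 : ¬ IsConj (1 : G) s := by
    intro h
    obtain ⟨c, hc⟩ := isConj_iff.mp h
    apply hsne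
    rw [← hc]; group
  have hnt : ¬ IsConj t s := by
    intro h
    obtain ⟨c, hc⟩ := isConj_iff.mp h
    have h2 := ht.2 c (by rw [hc]; exact hst.symm)
    exact hne (hc.symm.trans h2)
  have horth1 : ∑ χ ∈ Bf, (χ : G → ℂ) 1 * (χ : G → ℂ) s = 0 := by
    have h := helper24.block_orthogonality 2 M hM q8_isPPart_one hPs hn1
      (principalBlock M G) ⟨helper24.oneIrr G, rfl⟩
    rw [finsum_mem_eq_finite_toFinset_sum _ (Set.toFinite _), ← hBf, hsinv] at h
    exact h
  have horth2 : ∑ χ ∈ Bf, (χ : G → ℂ) t * (χ : G → ℂ) s = 0 := by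
    have h := helper24.block_orthogonality 2 M hM hPt hPs hnt
      (principalBlock M G) ⟨helper24.oneIrr G, rfl⟩
    rw [finsum_mem_eq_finite_toFinset_sum _ (Set.toFinite _), ← hBf, hsinv] at h
    exact h
  have hsum : ∑ χ ∈ Bf, ((χ : G → ℂ) 1 * (χ : G → ℂ) s + (χ : G → ℂ) t * (χ : G → ℂ) s) = 0 := by
    rw [Finset.sum_add_distrib, horth1, horth2, add_zero]
  have hsingle : ∑ χ ∈ Bf, ((χ : G → ℂ) 1 * (χ : G → ℂ) s + (χ : G → ℂ) t * (χ : G → ℂ) s) =
      (2 : ℂ) := by
    rw [Finset.sum_eq_single (helper24.oneIrr G)]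
    · show (1 : ℂ) * 1 + 1 * 1 = 2
      norm_num
    · intro χ hχ hχne
      have hχB := hmemB χ hχ
      have r1 := zs_star_relation ht hIH hs hst hne M hM χ hχB
      have r2 := zs_star_relation ht hIH hots htst htsne M hM χ hχB
      rw [htts] at r2
      have hkey : ((χ : G → ℂ) t - (χ : G → ℂ) 1) *
          (((χ : G → ℂ) t + (χ : G → ℂ) 1) * (χ : G → ℂ) s) = 0 := by
        linear_combination (χ : G → ℂ) t * r1 + (χ : G → ℂ) 1 * r2
      have hne1 : (χ : G → ℂ) t - (χ : G → ℂ) 1 ≠ 0 := by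
        intro h
        exact hcon χ hχne (sub_eq_zero.mp h)
      rcases mul_eq_zero.mp hkey with h | h
      · exact absurd h hne1
      · linear_combination h
    · intro h
      exact absurd hoB h
  rw [hsingle] at hsum
  norm_num at hsum

/-- a proper normal subgroup containing `t` -/
theorem zs_exists_proper_normal {t : G} (ht : IsIsolatedInvolution t) (hIH : ZCentHyp G)
    {s : G} (hs : orderOf s = 2) (hst : Commute s t) (hne : s ≠ t) :
    ∃ N : Subgroup G, N.Normal ∧ N ≠ ⊤ ∧ t ∈ N := by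
  classical
  letI : Fintype G := Fintype.ofFinite G
  obtain ⟨χ, hχne, hχt⟩ := zs_exists_kernel_char ht hIH hs hst hne
  have hch := helper24.irr_isCharacter χ.2
  refine ⟨helper24.charKer hch, inferInstance, ?_, (helper24.mem_charKer hch t).mpr hχt⟩
  intro htop
  have hall : ∀ g : G, (χ : G → ℂ) g = (χ : G → ℂ) 1 := by
    intro g
    exact (helper24.mem_charKer hch g).mp (by rw [htop]; exact Subgroup.mem_top g)
  have hne' : (χ : G → ℂ) ≠ ((helper24.oneIrr G : IrrCharacter G) : G → ℂ) := by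
    intro h
    exact hχne (Subtype.ext h)
  have h0 := helper24.irr_classInner_ne χ.2 (helper24.oneIrr G).2 hne'
  unfold classInner at h0
  have h1 : ∑ g : G, (χ : G → ℂ) g *
      (starRingEnd ℂ) (((helper24.oneIrr G : IrrCharacter G) : G → ℂ) g) =
      (Nat.card G : ℂ) * (χ : G → ℂ) 1 := by
    have : ∀ g : G, (χ : G → ℂ) g *
        (starRingEnd ℂ) (((helper24.oneIrr G : IrrCharacter G) : G → ℂ) g) = (χ : G → ℂ) 1 := by
      intro g
      rw [hall g]
      show (χ : G → ℂ) 1 * (starRingEnd ℂ) (1 : ℂ) = _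
      rw [map_one, mul_one]
    rw [Finset.sum_congr rfl (fun g _ => this g), Finset.sum_const, Finset.card_univ,
      nsmul_eq_mul, Nat.card_eq_fintype_card]
  rw [h1] at h0
  have hcard : (Nat.card G : ℂ) ≠ 0 := by
    have : 0 < Nat.card G := Nat.card_pos
    exact_mod_cast this.ne'
  have hd := helper24.char_charDegree_cast hch
  have hp := helper24.irr_charDegree_pos χ.2
  have hne1 : (χ : G → ℂ) 1 ≠ 0 := by rw [← hd]; exact_mod_cast hp.ne'
  rw [← mul_assoc, inv_mul_cancel₀ hcard, one_mul] at h0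
  exact hne1 h0

end ZS4

end Cfsg.Agent.helper12
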