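import Cfsg.Agent.Lib_helper1_Core
import Cfsg.Agent.Lib_helper9_Cores

set_option autoImplicit false
open Cfsg

namespace Cfsg.Agent.helper15

variable {G : Type*} [Group G]

/-- The `p'`-core of a normal subgroup lies in the `p'`-core of the group. -/
theorem map_pPrimeCore_le_of_normal [Finite G] (p : ℕ) (D : Subgroup G) (hD : D.Normal) :
    (Cfsg.pPrimeCore p ↥D).map D.subtype ≤ Cfsg.pPrimeCore p G := by
  haveI := hD
  apply Cfsg.Agent.helper1.le_pPrimeCore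
  · constructor
    intro n hn g
    obtain ⟨c, hc, rfl⟩ := Subgroup.mem_map.1 hn
    refine Subgroup.mem_map.2 ⟨MulAut.conjNormal g c, ?_, ?_⟩
    · have hle : (Cfsg.pPrimeCore p ↥D).map (MulAut.conjNormal g : ↥D ≃* ↥D).toMonoidHom ≤
          Cfsg.pPrimeCore p ↥D := by
        apply Cfsg.Agent.helper1.le_pPrimeCore
        · exact (Cfsg.Agent.helper1.pPrimeCore_normal p).map _ (MulEquiv.surjective _)
        · rw [Subgroup.card_map_of_injective (MulEquiv.injective _)]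
          exact Cfsg.Agent.helper1.pPrimeCore_coprime p
      exact hle (Subgroup.mem_map_of_mem _ hc)
    · simp [MulAut.conjNormal_apply]
  · rw [Subgroup.card_map_of_injective D.subtype_injective]
    exact Cfsg.Agent.helper1.pPrimeCore_coprime p

theorem eq_one_of_mem_pPrimeCore_of_normal [Finite G] {p : ℕ} (hO : Cfsg.pPrimeCore p G = ⊥)
    (D : Subgroup G) (hD : D.Normal) (c : ↥D) (hc : c ∈ Cfsg.pPrimeCore p ↥D) : (c : G) = 1 := by
  have h1 : (c : G) ∈ (Cfsg.pPrimeCore p ↥D).map D.subtype := ⟨c, hc, rfl⟩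
  have h2 := map_pPrimeCore_le_of_normal p D hD h1
  rwa [hO, Subgroup.mem_bot] at h2

/-- If `O_{p'}(G) = 1` and `Z` is central then `O_{p'}(G/Z) = 1` (Burnside's transfer theorem). -/
theorem pPrimeCore_quotient_central_eq_bot [Finite G] {p : ℕ} [Fact p.Prime]
    (hO : Cfsg.pPrimeCore p G = ⊥) (Z : Subgroup G) [Z.Normal] (hZ : Z ≤ Subgroup.center G) :
    Cfsg.pPrimeCore p (G ⧸ Z) = ⊥ := by
  have hKqn : (Cfsg.pPrimeCore p (G ⧸ Z)).Normal := Cfsg.Agent.helper1.pPrimeCore_normal p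
  have hKqc : (Nat.card (Cfsg.pPrimeCore p (G ⧸ Z))).Coprime p :=
    Cfsg.Agent.helper1.pPrimeCore_coprime p
  have hKn : ((Cfsg.pPrimeCore p (G ⧸ Z)).comap (QuotientGroup.mk' Z)).Normal := hKqn.comap _
  obtain ⟨P⟩ : Nonempty (Sylow p ↥((Cfsg.pPrimeCore p (G ⧸ Z)).comap (QuotientGroup.mk' Z))) :=
    inferInstance
  have hPZ : ∀ y : ↥((Cfsg.pPrimeCore p (G ⧸ Z)).comap (QuotientGroup.mk' Z)),
      y ∈ P → (y : G) ∈ Z := by
    intro y hy
    obtain ⟨k, hk⟩ := P.isPGroup' ⟨y, hy⟩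
    have hk' : (y : G) ^ p ^ k = 1 := by
      have h3 := congrArg (fun t : ↥(P : Subgroup
        ↥((Cfsg.pPrimeCore p (G ⧸ Z)).comap (QuotientGroup.mk' Z))) => ((t : ↥((Cfsg.pPrimeCore p
          (G ⧸ Z)).comap (QuotientGroup.mk' Z))) : G)) hk
      simpa using h3
    have hyK : (QuotientGroup.mk' Z) (y : G) ∈ Cfsg.pPrimeCore p (G ⧸ Z) := y.2
    have h1 : ((QuotientGroup.mk' Z) (y : G)) ^ p ^ k = 1 := by rw [← map_pow, hk', map_one]
    have h2 : ((QuotientGroup.mk' Z) (y : G)) ^ Nat.card (Cfsg.pPrimeCore p (G ⧸ Z)) = 1 := by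
      have h3 := pow_card_eq_one' (G := ↥(Cfsg.pPrimeCore p (G ⧸ Z)))
        (x := ⟨(QuotientGroup.mk' Z) (y : G), hyK⟩)
      have h4 := congrArg Subtype.val h3
      rw [Subgroup.coe_pow, Subgroup.coe_one] at h4
      exact h4
    have h3 : orderOf ((QuotientGroup.mk' Z) (y : G)) = 1 :=
      Nat.eq_one_of_dvd_coprimes (Nat.Coprime.pow_right k hKqc) (orderOf_dvd_of_pow_eq_one h2)
        (orderOf_dvd_of_pow_eq_one h1)
    rw [orderOf_eq_one_iff] at h3
    exact (QuotientGroup.eq_one_iff _).mp h3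
  have hPc : Subgroup.normalizer ((P : Subgroup
      ↥((Cfsg.pPrimeCore p (G ⧸ Z)).comap (QuotientGroup.mk' Z))) : Set
      ↥((Cfsg.pPrimeCore p (G ⧸ Z)).comap (QuotientGroup.mk' Z))) ≤
      Subgroup.centralizer ((P : Subgroup
      ↥((Cfsg.pPrimeCore p (G ⧸ Z)).comap (QuotientGroup.mk' Z))) : Set
      ↥((Cfsg.pPrimeCore p (G ⧸ Z)).comap (QuotientGroup.mk' Z))) := by
    intro k _
    rw [Subgroup.mem_centralizer_iff]
    intro y hy
    apply Subtype.ext
    have h3 := hZ (hPZ y hy)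
    rw [Subgroup.mem_center_iff] at h3
    exact (h3 (k : G)).symm
  have hcompl := MonoidHom.ker_transferSylow_isComplement' P hPc
  have hnd := MonoidHom.not_dvd_card_ker_transferSylow P hPc
  have hQn : (MonoidHom.transferSylow P hPc).ker.Normal := MonoidHom.normal_ker _
  have hQle : (MonoidHom.transferSylow P hPc).ker ≤
      Cfsg.pPrimeCore p ↥((Cfsg.pPrimeCore p (G ⧸ Z)).comap (QuotientGroup.mk' Z)) :=
    Cfsg.Agent.helper1.le_pPrimeCore hQn
      ((Nat.Prime.coprime_iff_not_dvd (Fact.out : p.Prime)).mpr hnd).symm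
  have hQbot : (MonoidHom.transferSylow P hPc).ker = ⊥ := by
    rw [eq_bot_iff]
    intro q hq
    have h3 := eq_one_of_mem_pPrimeCore_of_normal hO _ hKn q (hQle hq)
    rw [Subgroup.mem_bot]
    exact Subtype.ext h3
  have hPtop : (P : Subgroup ↥((Cfsg.pPrimeCore p (G ⧸ Z)).comap (QuotientGroup.mk' Z))) = ⊤ := by
    have h3 := hcompl.sup_eq_top
    rwa [hQbot, bot_sup_eq] at h3
  rw [eq_bot_iff]
  intro q hq
  obtain ⟨g, rfl⟩ := QuotientGroup.mk'_surjective Z q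
  have hgK : g ∈ (Cfsg.pPrimeCore p (G ⧸ Z)).comap (QuotientGroup.mk' Z) := hq
  have h3 : (⟨g, hgK⟩ : ↥((Cfsg.pPrimeCore p (G ⧸ Z)).comap (QuotientGroup.mk' Z))) ∈
      (P : Subgroup ↥((Cfsg.pPrimeCore p (G ⧸ Z)).comap (QuotientGroup.mk' Z))) := by
    rw [hPtop]; exact Subgroup.mem_top _
  have h4 := hPZ _ h3
  rw [Subgroup.mem_bot]
  exact (QuotientGroup.eq_one_iff g).mpr h4

end Cfsg.Agent.helper15
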