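import Cfsg.Statements.S1181
import Cfsg.Agent.Lib_helper6_Isolated

set_option autoImplicit false
open Cfsg

namespace Cfsg.Agent.S1181

/-- Let z be an isolated involution of the finite group G and N a normal subgroup with z ∉ N. Then the centralizer of zN in G/N is the image of C_G(z), and zN is an isolated involution of G/N. -/
theorem result {G : Type*} [Group G] [Finite G] (z : G) (hz : Cfsg.IsIsolatedInvolution z) (N : Subgroup G) [N.Normal] (hzN : z ∉ N) : Subgroup.centralizer ({(QuotientGroup.mk z : G ⧸ N)} : Set (G ⧸ N)) = (Subgroup.centralizer ({z} : Set G)).map (QuotientGroup.mk' N) ∧ Cfsg.IsIsolatedInvolution (QuotientGroup.mk z : G ⧸ N) := by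
  have hz2 := Cfsg.Agent.helper6.isolated_sq hz
  have hzinv := Cfsg.Agent.helper6.isolated_inv hz
  refine ⟨?_, ?_, ?_⟩
  · ext xb
    obtain ⟨x, rfl⟩ := QuotientGroup.mk_surjective xb
    rw [Subgroup.mem_centralizer_singleton_iff]
    constructor
    · intro h
      -- b = x z x⁻¹ has the same image as z
      have hbz : (x * z * x⁻¹) * z ∈ N := by
        have h1 : ((x * z * x⁻¹ * z : G) : G ⧸ N) = 1 := by
          have : ((x * z * x⁻¹ * z : G) : G ⧸ N) = ((x : G ⧸ N) * (z : G ⧸ N)) * (x : G ⧸ N)⁻¹ * (z : G ⧸ N) := by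
            simp
          rw [this, h]
          have : ((z * z : G) : G ⧸ N) = 1 := by rw [hz2]; rfl
          simpa [mul_assoc] using this
        exact (QuotientGroup.eq_one_iff _).1 h1
      obtain ⟨k, hk, -, -, hk2⟩ := Cfsg.Agent.helper6.exists_odd_conjugator hz x
      have hkN : k ∈ N := by
        have : Subgroup.zpowers (x * z * x⁻¹ * z) ≤ N := by
          rw [Subgroup.zpowers_le]; exact hbz
        exact this hk
      refine ⟨k⁻¹ * x, ?_, ?_⟩
      · rw [SetLike.mem_coe, Subgroup.mem_centralizer_singleton_iff]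
        have : k⁻¹ * x * z = k⁻¹ * (x * z * x⁻¹) * x := by group
        rw [this, ← hk2]; group
      · simp only [QuotientGroup.mk'_apply, QuotientGroup.mk_mul, QuotientGroup.mk_inv]
        rw [(QuotientGroup.eq_one_iff k).2 hkN]; simp
    · rintro ⟨c, hc, hcx⟩
      rw [SetLike.mem_coe, Subgroup.mem_centralizer_singleton_iff] at hc
      rw [← hcx]
      simp only [QuotientGroup.mk'_apply]
      rw [← QuotientGroup.mk_mul, ← QuotientGroup.mk_mul, hc]
  · apply orderOf_eq_prime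
    · rw [pow_two, ← QuotientGroup.mk_mul, hz2]; rfl
    · intro h
      exact hzN ((QuotientGroup.eq_one_iff z).1 h)
  · intro gb hc
    obtain ⟨g, rfl⟩ := QuotientGroup.mk_surjective gb
    have hodd := Cfsg.Agent.helper6.odd_orderOf_conj_mul hz g
    have hbinv := Cfsg.Agent.helper6.isolated_inv (Cfsg.Agent.helper6.isolated_conj hz g)
    have hsq : ((g * z * g⁻¹) * z) * ((g * z * g⁻¹) * z) ∈ N := by
      apply (QuotientGroup.eq_one_iff _).1
      have e : ((g * z * g⁻¹ * z * (g * z * g⁻¹ * z) : G) : G ⧸ N) =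
          ((g : G ⧸ N) * (z : G ⧸ N) * (g : G ⧸ N)⁻¹) * ((z : G ⧸ N) * ((g : G ⧸ N) * (z : G ⧸ N) * (g : G ⧸ N)⁻¹)) * (z : G ⧸ N) := by
        simp [mul_assoc]
      rw [e, hc.eq]
      have e2 : ((g : G ⧸ N) * (z : G ⧸ N) * (g : G ⧸ N)⁻¹) * (((g : G ⧸ N) * (z : G ⧸ N) * (g : G ⧸ N)⁻¹) * (z : G ⧸ N)) * (z : G ⧸ N) =
          (((g * z * g⁻¹) * (g * z * g⁻¹) * (z * z) : G) : G ⧸ N) := by
        simp [mul_assoc]
      rw [e2, hz2, Cfsg.Agent.helper6.isolated_sq (Cfsg.Agent.helper6.isolated_conj hz g)]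
      simp
    have hmem := Cfsg.Agent.helper6.mem_of_sq_mem_of_odd hodd N hsq
    have h1 : ((g * z * g⁻¹ * z : G) : G ⧸ N) = 1 := (QuotientGroup.eq_one_iff _).2 hmem
    have h2 : ((g : G ⧸ N) * (z : G ⧸ N) * (g : G ⧸ N)⁻¹) * (z : G ⧸ N) = 1 := by
      simpa using h1
    have h3 : (z : G ⧸ N)⁻¹ = (z : G ⧸ N) := by
      rw [← QuotientGroup.mk_inv, hzinv]
    have h4 := eq_inv_of_mul_eq_one_left h2
    rw [h3] at h4
    exact h4

end Cfsg.Agent.S1181
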