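import Mathlib
import Cfsg.Agent.Lib_helper12_ZS3
import Cfsg.Agent.Lib_helper12_ZS4
import Cfsg.Agent.Lib_helper15_ZStar
import Cfsg.Agent.S1181

set_option autoImplicit false

/-!
Glauberman's Z*-theorem (helper12): the induction.
-/

namespace Cfsg.Agent.helper12

open Cfsg

universe u

section ZS5

/-- elements of `⟨z⟩` for an involution `z` -/
theorem zs_mem_zpowers_two {G : Type u} [Group G] {z x : G} (hz : orderOf z = 2)
    (hx : x ∈ Subgroup.zpowers z) : x = 1 ∨ x = z := by
  obtain ⟨k, rfl⟩ := Subgroup.mem_zpowers_iff.mp hx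
  have hz2 : z ^ (2 : ℤ) = 1 := by
    have := pow_orderOf_eq_one z
    rw [hz] at this
    exact_mod_cast this
  rcases Int.emod_two_eq_zero_or_one k with h | h
  · left
    have : k = 2 * (k / 2) := by omega
    rw [this, zpow_mul, hz2, one_zpow]
  · right
    have : k = 2 * (k / 2) + 1 := by omega
    rw [this, zpow_add, zpow_mul, hz2, one_zpow, one_mul, zpow_one]

theorem zs_card_lt_of_ne_top {G : Type u} [Group G] [Finite G] (H : Subgroup G) (h : H ≠ ⊤) :
    Nat.card H < Nat.card G := by
  by_contra hlt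
  push Not at hlt
  exact h (Subgroup.eq_top_of_le_card H hlt)

theorem zs_card_quotient_lt {G : Type u} [Group G] [Finite G] (N : Subgroup G) [N.Normal]
    (h : N ≠ ⊥) : Nat.card (G ⧸ N) < Nat.card G := by
  have h1 := Subgroup.card_eq_card_quotient_mul_card_subgroup N
  have h2 : 1 < Nat.card N := (Subgroup.one_lt_card_iff_ne_bot N).mpr h
  have h3 : 0 < Nat.card (G ⧸ N) := Nat.card_pos
  rw [h1]
  nlinarith

/-- the inductive step when `O(G) = 1` -/
theorem zs_step {G : Type u} [Group G] [Finite G]
    (IH : ∀ (G' : Type u) [Group G'] [Finite G'], Nat.card G' < Nat.card G →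
      ∀ t' : G', IsIsolatedInvolution t' → ZProp t')
    (hO : pPrimeCore 2 G = ⊥) {t : G} (ht : IsIsolatedInvolution t) : t ∈ Subgroup.center G := by
  classical
  haveI : Fact (Nat.Prime 2) := ⟨Nat.prime_two⟩
  have hO' : ∀ N : Subgroup G, N.Normal → Odd (Nat.card N) → N = ⊥ := by
    intro N hN hodd
    have := helper1.le_pPrimeCore (p := 2) hN (Nat.coprime_two_right.mpr hodd)
    rw [hO] at this
    exact le_bot_iff.mp this
  have ht2 : t * t = 1 := helper6.isolated_sq ht
  have htinv : t⁻¹ = t := helper6.isolated_inv ht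
  have htne : t ≠ 1 := helper6.isolated_ne_one ht
  by_cases hz : ∃ z ∈ Subgroup.center G, orderOf z = 2 ∧ z ≠ t
  · -- a central involution different from `t`
    obtain ⟨z, hzc, hoz, hzt⟩ := hz
    have hzcomm : ∀ g : G, g * z = z * g := fun g => Subgroup.mem_center_iff.mp hzc g
    have hzne : z ≠ 1 := by
      intro h; rw [h, orderOf_one] at hoz; omega
    have hz2 : z * z = 1 := by
      have := pow_orderOf_eq_one z
      rw [hoz, pow_two] at this
      exact this
    have hzinv : z⁻¹ = z := inv_eq_of_mul_eq_one_left hz2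
    haveI hZn : (Subgroup.zpowers z).Normal := by
      constructor
      intro x hx g
      have h1 : g * x * g⁻¹ = x := by
        obtain ⟨j, rfl⟩ := Subgroup.mem_zpowers_iff.mp hx
        have hc : g * (z ^ j) = (z ^ j) * g := by
          have h2 : Commute g z := hzcomm g
          exact (h2.zpow_right _).eq
        rw [hc, mul_assoc, mul_inv_cancel, mul_one]
      rw [h1]
      exact hx
    have hZne : Subgroup.zpowers z ≠ ⊥ := by
      intro h
      have h1 : z ∈ Subgroup.zpowers z := Subgroup.mem_zpowers z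
      rw [h] at h1
      exact hzne (Subgroup.mem_bot.mp h1)
    have htZ : t ∉ Subgroup.zpowers z := by
      intro h
      rcases zs_mem_zpowers_two hoz h with h | h
      · exact htne h
      · exact hzt h.symm
    have hiso := (Cfsg.Agent.S1181.result t ht (Subgroup.zpowers z) htZ).2
    obtain ⟨Nb, hNbn, hNbo, hNb⟩ := IH (G ⧸ Subgroup.zpowers z) (zs_card_quotient_lt _ hZne) _ hiso
    obtain ⟨L, hL⟩ : ∃ L : Subgroup G, L = Nb.comap (QuotientGroup.mk' (Subgroup.zpowers z)) :=
      ⟨_, rfl⟩
    have hLn : L.Normal := by rw [hL]; exact hNbn.comap _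
    have hzL : z ∈ L := by
      rw [hL, Subgroup.mem_comap]
      have : QuotientGroup.mk' (Subgroup.zpowers z) z = 1 :=
        (QuotientGroup.eq_one_iff z).mpr (Subgroup.mem_zpowers z)
      rw [this]
      exact Nb.one_mem
    have h2elt : ∀ x ∈ L, (∃ k : ℕ, orderOf x = 2 ^ k) → x = 1 ∨ x = z := by
      intro x hxL ⟨k, hk⟩
      rw [hL, Subgroup.mem_comap] at hxL
      have h1 : orderOf (QuotientGroup.mk' (Subgroup.zpowers z) x) ∣ Nat.card Nb := by
        have := orderOf_dvd_natCard (⟨_, hxL⟩ : Nb)
        rwa [← Subgroup.orderOf_coe] at this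
      have h2 : orderOf (QuotientGroup.mk' (Subgroup.zpowers z) x) ∣ 2 ^ k := by
        rw [← hk]
        exact orderOf_map_dvd _ x
      have h3 : Nat.Coprime (Nat.card Nb) (2 ^ k) :=
        Nat.Coprime.pow_right k (Nat.coprime_two_right.mpr hNbo)
      have h4 : QuotientGroup.mk' (Subgroup.zpowers z) x = 1 :=
        orderOf_eq_one_iff.mp (Nat.eq_one_of_dvd_coprimes h3 h1 h2)
      have h5 : x ∈ Subgroup.zpowers z := (QuotientGroup.eq_one_iff x).mp h4
      exact zs_mem_zpowers_two hoz h5
    obtain ⟨S⟩ := (inferInstance : Nonempty (Sylow 2 G))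
    have hS : ∀ x ∈ L, x ∈ S → x = 1 ∨ x = z := by
      intro x hxL hxS
      apply h2elt x hxL
      obtain ⟨k, hk⟩ := (IsPGroup.iff_orderOf.mp S.2) ⟨x, hxS⟩
      exact ⟨k, by rw [← hk, Subgroup.orderOf_mk]⟩
    obtain ⟨K', hK'n, hK'odd, k, hcard⟩ := zs_small_sylow S hoz hLn hzL hS
    have hK'bot := hO' K' hK'n hK'odd
    rw [hK'bot, Subgroup.card_bot, one_mul] at hcard
    have hLpg : IsPGroup 2 L := IsPGroup.of_card hcard
    have hLle : ∀ x ∈ L, x = 1 ∨ x = z := by
      intro x hxL
      apply h2elt x hxL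
      obtain ⟨k', hk'⟩ := (IsPGroup.iff_orderOf.mp hLpg) ⟨x, hxL⟩
      exact ⟨k', by rw [← hk', Subgroup.orderOf_mk]⟩
    rw [Subgroup.mem_center_iff]
    intro g
    have hcL : t * g * t⁻¹ * g⁻¹ ∈ L := by
      rw [hL, Subgroup.mem_comap]
      have := hNb (QuotientGroup.mk g)
      simpa using this
    rcases hLle _ hcL with h | h
    · -- commutator trivial
      have : t * g = g * t := by
        have h1 : t * g = (t * g * t⁻¹ * g⁻¹) * (g * t) := by group
        rw [h1, h, one_mul]
      exact this.symm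
    · exfalso
      have h1 : g * t * g⁻¹ = z * t := by
        have h2 : g * t * g⁻¹ = (t * g * t⁻¹ * g⁻¹)⁻¹ * t := by group
        rw [h2, h, hzinv]
      have h3 : Commute t (g * t * g⁻¹) := by
        rw [h1]
        show t * (z * t) = (z * t) * t
        rw [← mul_assoc, hzcomm t]
      have h4 := ht.2 g h3
      rw [h1] at h4
      exact hzne (by simpa using h4)
  · -- no central involution other than `t`
    push Not at hz
    by_contra htc
    have hnc : ∀ u' : G, orderOf u' = 2 → u' ∉ Subgroup.center G := by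
      intro u' hu' hc
      have := hz u' hc hu'
      rw [this] at hc
      exact htc hc
    -- the centralizer hypothesis
    have hCent : ZCentHyp G := by
      intro u' hu' x hx hux y huy
      have hmemC : ∀ g : G, Commute u' g → g ∈ Subgroup.centralizer ({u'} : Set G) := by
        intro g hg
        rw [Subgroup.mem_centralizer_iff]
        intro h hh
        rw [Set.mem_singleton_iff.mp hh]
        exact hg.eq
      have hHne : Subgroup.centralizer ({u'} : Set G) ≠ ⊤ := by
        intro htop
        apply hnc u' hu'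
        rw [Subgroup.mem_center_iff]
        intro g
        have hg : g ∈ Subgroup.centralizer ({u'} : Set G) := by rw [htop]; exact Subgroup.mem_top g
        rw [Subgroup.mem_centralizer_iff] at hg
        exact (hg u' rfl).symm
      have hxH := hmemC x hux
      have hyH := hmemC y huy
      obtain ⟨NH, hNHn, hNHo, hNH⟩ := IH (Subgroup.centralizer ({u'} : Set G))
        (zs_card_lt_of_ne_top _ hHne) ⟨x, hxH⟩ (zs_isolated_subgroup hx _ hxH)
      have hle : NH ≤ pPrimeCore 2 (Subgroup.centralizer ({u'} : Set G)) :=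
        helper1.le_pPrimeCore hNHn (Nat.coprime_two_right.mpr hNHo)
      have hmem := hle (hNH ⟨y, hyH⟩)
      exact ⟨_, hmem, rfl⟩
    by_cases hs : ∃ s : G, orderOf s = 2 ∧ Commute s t ∧ s ≠ t
    · obtain ⟨s, hos, hst, hne⟩ := hs
      obtain ⟨N, hNn, hNtop, htN⟩ := zs_exists_proper_normal ht hCent hos hst hne
      obtain ⟨K, hKn, hKo, hK⟩ := IH N (zs_card_lt_of_ne_top _ hNtop) ⟨t, htN⟩
        (zs_isolated_subgroup ht _ htN)
      have hle : K ≤ pPrimeCore 2 N := helper1.le_pPrimeCore hKn (Nat.coprime_two_right.mpr hKo)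
      have hcommN : ∀ n ∈ N, t * n = n * t := by
        intro n hn
        have h1 := helper15.eq_one_of_mem_pPrimeCore_of_normal hO N hNn _ (hle (hK ⟨n, hn⟩))
        have h2 : t * n * t⁻¹ * n⁻¹ = 1 := by simpa using h1
        have h3 : t * n = (t * n * t⁻¹ * n⁻¹) * (n * t) := by group
        rw [h3, h2, one_mul]
      apply htc
      rw [Subgroup.mem_center_iff]
      intro g
      have h1 : g * t * g⁻¹ ∈ N := hNn.conj_mem _ htN g
      have h2 := ht.2 g (hcommN _ h1)
      calc g * t = (g * t * g⁻¹) * g := by group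
        _ = t * g := by rw [h2]
    · push Not at hs
      apply htc
      exact zs_unique_involution_case hO' ht.1 (fun s hos hst => by
        by_contra hne
        exact hne (hs s hos hst))

/-- Glauberman's Z*-theorem -/
theorem zs_main : ∀ (n : ℕ) (G : Type u) [Group G] [Finite G], Nat.card G = n →
    ∀ t : G, IsIsolatedInvolution t → ZProp t := by
  intro n
  induction n using Nat.strong_induction_on with
  | _ n ih =>
    intro G _ _ hcard t ht
    have IH : ∀ (G' : Type u) [Group G'] [Finite G'], Nat.card G' < Nat.card G →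
        ∀ t' : G', IsIsolatedInvolution t' → ZProp t' := by
      intro G' _ _ hlt t' ht'
      exact ih (Nat.card G') (by rw [← hcard]; exact hlt) G' rfl t' ht'
    by_cases hO : pPrimeCore 2 G = ⊥
    · have hc := zs_step IH hO ht
      refine ⟨⊥, inferInstance, by rw [Subgroup.card_bot]; exact odd_one, ?_⟩
      intro g
      rw [Subgroup.mem_bot]
      have h1 : g * t = t * g := Subgroup.mem_center_iff.mp hc g
      rw [← h1]
      group
    · haveI hOn : (pPrimeCore 2 G).Normal := helper1.pPrimeCore_normal 2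
      have hOc : (Nat.card (pPrimeCore 2 G)).Coprime 2 := helper1.pPrimeCore_coprime 2
      have hOodd : Odd (Nat.card (pPrimeCore 2 G)) := Nat.coprime_two_right.mp hOc
      have htO : t ∉ pPrimeCore 2 G := by
        intro h
        have h1 := orderOf_dvd_natCard (⟨t, h⟩ : pPrimeCore 2 G)
        rw [← Subgroup.orderOf_coe] at h1
        have h2 : orderOf t = 2 := ht.1
        rw [show ((⟨t, h⟩ : pPrimeCore 2 G) : G) = t from rfl, h2] at h1
        exact (Nat.not_even_iff_odd.mpr hOodd) (even_iff_two_dvd.mpr h1)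
      have hiso := (Cfsg.Agent.S1181.result t ht (pPrimeCore 2 G) htO).2
      have hZ := IH (G ⧸ pPrimeCore 2 G) (zs_card_quotient_lt _ hO) _ hiso
      exact zs_lift_quotient (pPrimeCore 2 G) hOodd t hZ

end ZS5

end Cfsg.Agent.helper12

namespace Cfsg.Agent.helper12

open Cfsg

universe u

/-- S0215 -/
theorem zs_sylow_form {G : Type u} [Group G] [Finite G] (P : Sylow 2 G) (u : G)
    (hu : orderOf u = 2) (hiso : ∀ g : G, g * u * g⁻¹ ∈ P → g * u * g⁻¹ = u) :
    ∃ N : Subgroup G, N.Normal ∧ Odd (Nat.card N) ∧ ∀ g : G, (u * g * u⁻¹ * g⁻¹) ∈ N :=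
  zs_main _ G rfl u (zs_isolated_of_sylow P u hu hiso)

/-- S1188 -/
theorem zs_oddCore_form {G : Type u} [Group G] [Finite G] (z : G) (hz : IsIsolatedInvolution z) :
    ∀ g : G, z * g * z⁻¹ * g⁻¹ ∈ oddCore G := by
  obtain ⟨N, hN, hodd, h⟩ := zs_main _ G rfl z hz
  intro g
  exact helper1.le_pPrimeCore (p := 2) hN (Nat.coprime_two_right.mpr hodd) (h g)

end Cfsg.Agent.helper12
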