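import Mathlib
import Cfsg.Agent.Lib_helper12_ZS5

set_option linter.style.haveILetI false
set_option linter.deprecated false
set_option linter.unusedVariables false
set_option linter.unusedSectionVars false
set_option autoImplicit false

/-! Simple groups with an involution whose centralizer has at most three involutions. -/

namespace Cfsg.Agent.helper19.C3

open Cfsg

universe u

section Basic

variable {G : Type u} [Group G]

/-- Consequence of the Z*-theorem: in a nonabelian finite simple group every involution commutes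
with another conjugate of itself. -/
theorem exists_commuting_conj [Finite G] [IsSimpleGroup G] (hna : ¬ ∀ a b : G, a * b = b * a)
    (t : G) (ht : orderOf t = 2) : ∃ g : G, Commute t (g * t * g⁻¹) ∧ g * t * g⁻¹ ≠ t := by
  by_contra hcon
  push Not at hcon
  have hiso : IsIsolatedInvolution t := ⟨ht, hcon⟩
  obtain ⟨N, hN, hodd, hcomm⟩ := Cfsg.Agent.helper12.zs_main _ G rfl t hiso
  rcases IsSimpleGroup.eq_bot_or_eq_top_of_normal N hN with hb | htop
  · have hwc : t ∈ Subgroup.center G := by
      rw [Subgroup.mem_center_iff]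
      intro g
      have h1 := hcomm g
      rw [hb, Subgroup.mem_bot] at h1
      have h2 : t * g = g * t := by
        calc t * g = (t * g * t⁻¹ * g⁻¹) * g * t := by group
          _ = g * t := by rw [h1]; group
      exact h2.symm
    rcases IsSimpleGroup.eq_bot_or_eq_top_of_normal (Subgroup.center G) inferInstance with hcb | hct
    · rw [hcb, Subgroup.mem_bot] at hwc
      rw [hwc, orderOf_one] at ht
      omega
    · apply hna
      intro a b
      have ha : a ∈ Subgroup.center G := by rw [hct]; trivial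
      exact ((Subgroup.mem_center_iff.mp ha) b).symm
  · rw [htop] at hodd
    have h2 : 2 ∣ Nat.card G := ht ▸ orderOf_dvd_natCard t
    rw [Subgroup.card_top] at hodd
    exact (Nat.not_even_iff_odd.mpr hodd) (even_iff_two_dvd.mpr h2)

theorem four_le_card {α : Type*} [Finite α] (a b c d : α) (hab : a ≠ b) (hac : a ≠ c)
    (had : a ≠ d) (hbc : b ≠ c) (hbd : b ≠ d) (hcd : c ≠ d) : 4 ≤ Nat.card α := by
  classical
  haveI := Fintype.ofFinite α
  rw [Nat.card_eq_fintype_card]
  have h : ({a, b, c, d} : Finset α).card = 4 := by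
    rw [Finset.card_insert_of_notMem, Finset.card_insert_of_notMem, Finset.card_insert_of_notMem,
      Finset.card_singleton]
    · simp [hcd]
    · simp [hbc, hbd]
    · simp [hab, hac, had]
  rw [← h]
  exact Finset.card_le_univ _

/-- the centralizer of `t` contains at most three involutions -/
def AtMost3 (t : G) : Prop :=
  ∀ a b c d : G, a * t = t * a → b * t = t * b → c * t = t * c → d * t = t * d →
    orderOf a = 2 → orderOf b = 2 → orderOf c = 2 → orderOf d = 2 →
    a ≠ b → a ≠ c → a ≠ d → b ≠ c → b ≠ d → c ≠ d → False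

theorem atMost3_of_card [Finite G] (x : G)
    (h3 : Nat.card {u : ↥(Subgroup.centralizer ({x} : Set G)) // orderOf u = 2} ≤ 3) :
    AtMost3 x := by
  intro a b c d ha hb hc hd oa ob oc od hab hac had hbc hbd hcd
  have mk : ∀ e : G, e * x = x * e → orderOf e = 2 →
      ∃ e' : {u : ↥(Subgroup.centralizer ({x} : Set G)) // orderOf u = 2},
        ((e' : ↥(Subgroup.centralizer ({x} : Set G))) : G) = e := by
    intro e he oe
    refine ⟨⟨⟨e, Subgroup.mem_centralizer_singleton_iff.mpr he⟩, ?_⟩, rfl⟩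
    rw [← Subgroup.orderOf_coe]
    exact oe
  obtain ⟨a', rfl⟩ := mk a ha oa
  obtain ⟨b', rfl⟩ := mk b hb ob
  obtain ⟨c', rfl⟩ := mk c hc oc
  obtain ⟨d', rfl⟩ := mk d hd od
  have := four_le_card a' b' c' d' (fun h => hab (by rw [h])) (fun h => hac (by rw [h]))
    (fun h => had (by rw [h])) (fun h => hbc (by rw [h])) (fun h => hbd (by rw [h]))
    (fun h => hcd (by rw [h]))
  omega

theorem orderOf_conj' (g a : G) : orderOf (g * a * g⁻¹) = orderOf a := by
  have : g * a * g⁻¹ = MulAut.conj g a := by simp [MulAut.conj_apply]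
  rw [this, MulEquiv.orderOf_eq]

theorem AtMost3.conj {t : G} (h : AtMost3 t) (g : G) : AtMost3 (g * t * g⁻¹) := by
  intro a b c d ha hb hc hd oa ob oc od hab hac had hbc hbd hcd
  have key : ∀ e : G, e * (g * t * g⁻¹) = (g * t * g⁻¹) * e →
      (g⁻¹ * e * g) * t = t * (g⁻¹ * e * g) := by
    intro e he
    calc (g⁻¹ * e * g) * t = g⁻¹ * (e * (g * t * g⁻¹)) * g := by group
      _ = g⁻¹ * ((g * t * g⁻¹) * e) * g := by rw [he]
      _ = t * (g⁻¹ * e * g) := by group
  have ord : ∀ e : G, orderOf e = 2 → orderOf (g⁻¹ * e * g) = 2 := by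
    intro e he
    have := orderOf_conj' g⁻¹ e
    rw [inv_inv] at this
    rw [this, he]
  have inj : ∀ e f : G, e ≠ f → g⁻¹ * e * g ≠ g⁻¹ * f * g := by
    intro e f hef h
    apply hef
    have : e = g * (g⁻¹ * e * g) * g⁻¹ := by group
    rw [this, h]; group
  exact h _ _ _ _ (key a ha) (key b hb) (key c hc) (key d hd) (ord a oa) (ord b ob) (ord c oc)
    (ord d od) (inj _ _ hab) (inj _ _ hac) (inj _ _ had) (inj _ _ hbc) (inj _ _ hbd) (inj _ _ hcd)

theorem AtMost3.mem {t : G} (h : AtMost3 t) {a b c : G} (ha : a * t = t * a) (hb : b * t = t * b)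
    (hc : c * t = t * c) (oa : orderOf a = 2) (ob : orderOf b = 2) (oc : orderOf c = 2)
    (hab : a ≠ b) (hac : a ≠ c) (hbc : b ≠ c) (u : G) (hu : u * t = t * u) (ou : orderOf u = 2) :
    u = a ∨ u = b ∨ u = c := by
  by_contra hcon
  push Not at hcon
  exact h a b c u ha hb hc hu oa ob oc ou hab hac (Ne.symm hcon.1) hbc (Ne.symm hcon.2.1)
    (Ne.symm hcon.2.2)

theorem mul_self_of_order_two {a : G} (h : orderOf a = 2) : a * a = 1 := by
  rw [← pow_two, ← h]; exact pow_orderOf_eq_one a

theorem ne_one_of_order_two {a : G} (h : orderOf a = 2) : a ≠ 1 := by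
  rintro rfl
  rw [orderOf_one] at h; omega

theorem order_two_of {a : G} (h : a * a = 1) (h1 : a ≠ 1) : orderOf a = 2 :=
  orderOf_eq_prime (by rw [pow_two]; exact h) h1

/-- `a r^k a = r^{-k}` if `a r a = r⁻¹` -/
theorem invert_pow {a r : G} (ha : a * a = 1) (h : a * r * a = r⁻¹) (k : ℕ) :
    a * r ^ k * a = (r ^ k)⁻¹ := by
  induction k with
  | zero => simp [ha]
  | succ k ih =>
    calc a * r ^ (k + 1) * a = (a * r ^ k * a) * (a * r * a) := by
          rw [pow_succ]
          calc a * (r ^ k * r) * a = a * r ^ k * (1 : G) * r * a := by group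
            _ = a * r ^ k * (a * a) * r * a := by rw [ha]
            _ = (a * r ^ k * a) * (a * r * a) := by group
      _ = (r ^ k)⁻¹ * r⁻¹ := by rw [ih, h]
      _ = (r ^ (k + 1))⁻¹ := by rw [pow_succ', mul_inv_rev]

/-- two involutions whose product has odd order are conjugate -/
theorem invol_conj_of_odd {a b : G} (ha : a * a = 1) (hb : b * b = 1)
    (hodd : Odd (orderOf (a * b))) : ∃ s : G, s * a * s⁻¹ = b := by
  obtain ⟨m, hm⟩ := hodd
  obtain ⟨r, hr⟩ : ∃ r, r = a * b := ⟨_, rfl⟩
  have hinv : a * r * a = r⁻¹ := by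
    rw [hr]
    have : (a * b)⁻¹ = b * a := by
      rw [mul_inv_rev]
      have e1 : a⁻¹ = a := inv_eq_of_mul_eq_one_left ha
      have e2 : b⁻¹ = b := inv_eq_of_mul_eq_one_left hb
      rw [e1, e2]
    rw [this]
    calc a * (a * b) * a = (a * a) * b * a := by group
      _ = b * a := by rw [ha, one_mul]
  have hpow : r ^ (2 * m + 1) = 1 := by
    rw [hr, ← hm]; exact pow_orderOf_eq_one _
  refine ⟨r ^ m, ?_⟩
  have h1 := invert_pow ha hinv m
  -- a * r^m * a = (r^m)⁻¹  →  a * (r^m)⁻¹ = r^m * a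
  have h2 : a * (r ^ m)⁻¹ = r ^ m * a := by
    have : a * (r ^ m)⁻¹ = a * (a * r ^ m * a) := by rw [h1]
    rw [this]
    calc a * (a * r ^ m * a) = (a * a) * r ^ m * a := by group
      _ = r ^ m * a := by rw [ha, one_mul]
  have h3 : r ^ m * r ^ m = r⁻¹ := by
    have : r ^ m * r ^ m * r = 1 := by
      rw [← pow_add, ← pow_succ]
      have : m + m + 1 = 2 * m + 1 := by ring
      rw [this]; exact hpow
    exact eq_inv_of_mul_eq_one_left this
  calc r ^ m * a * (r ^ m)⁻¹ = r ^ m * (a * (r ^ m)⁻¹) := by group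
    _ = r ^ m * (r ^ m * a) := by rw [h2]
    _ = (r ^ m * r ^ m) * a := by group
    _ = r⁻¹ * a := by rw [h3]
    _ = b := by
      rw [hr, mul_inv_rev]
      have e1 : a⁻¹ = a := inv_eq_of_mul_eq_one_left ha
      have e2 : b⁻¹ = b := inv_eq_of_mul_eq_one_left hb
      rw [e1, e2]
      calc b * a * a = b * (a * a) := by group
        _ = b := by rw [ha, mul_one]

/-- for involutions `a`, `b` with `|ab| = 2m`, the involution `(ab)^m` commutes with both -/
theorem exists_central_invol {a b : G} [Finite G] (ha : a * a = 1) (hb : b * b = 1)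
    (hev : ¬ Odd (orderOf (a * b))) :
    ∃ m : ℕ, orderOf (a * b) = 2 * m ∧ orderOf ((a * b) ^ m) = 2 ∧
      a * (a * b) ^ m = (a * b) ^ m * a ∧ b * (a * b) ^ m = (a * b) ^ m * b := by
  rw [Nat.not_odd_iff_even] at hev
  obtain ⟨m, hm⟩ := hev
  have hpos : 0 < orderOf (a * b) := orderOf_pos _
  have hm0 : m ≠ 0 := by omega
  have hm2 : orderOf (a * b) = 2 * m := by omega
  have e1 : a⁻¹ = a := inv_eq_of_mul_eq_one_left ha
  have e2 : b⁻¹ = b := inv_eq_of_mul_eq_one_left hb
  have hinv_a : a * (a * b) * a = (a * b)⁻¹ := by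
    rw [mul_inv_rev, e1, e2]
    calc a * (a * b) * a = (a * a) * b * a := by group
      _ = b * a := by rw [ha, one_mul]
  have hinv_b : b * (a * b) * b = (a * b)⁻¹ := by
    rw [mul_inv_rev, e1, e2]
    calc b * (a * b) * b = b * a * (b * b) := by group
      _ = b * a := by rw [hb, mul_one]
  have hc2 : (a * b) ^ m * (a * b) ^ m = 1 := by
    rw [← pow_add, ← two_mul, ← hm2]; exact pow_orderOf_eq_one _
  have hcinv : ((a * b) ^ m)⁻¹ = (a * b) ^ m := inv_eq_of_mul_eq_one_left hc2
  have ho : orderOf ((a * b) ^ m) = 2 := by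
    rw [orderOf_pow_of_dvd hm0 (by rw [hm2]; exact Dvd.intro_left 2 rfl), hm2]
    exact Nat.mul_div_cancel 2 (Nat.pos_of_ne_zero hm0)
  refine ⟨m, hm2, ho, ?_, ?_⟩
  · have h1 := invert_pow ha hinv_a m
    rw [hcinv] at h1
    calc a * (a * b) ^ m = (a * (a * b) ^ m * a) * a⁻¹ := by group
      _ = (a * b) ^ m * a := by rw [h1, e1]
  · have h1 := invert_pow hb hinv_b m
    rw [hcinv] at h1
    calc b * (a * b) ^ m = (b * (a * b) ^ m * b) * b⁻¹ := by group
      _ = (a * b) ^ m * b := by rw [h1, e2]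

end Basic


section Main

variable {G : Type u} [Group G]

open scoped Pointwise in
theorem mem_smul_sylow_iff' {p : ℕ} (g x : G) (P : Sylow p G) :
    x ∈ ((g • P : Sylow p G) : Subgroup G) ↔ g⁻¹ * x * g ∈ (P : Subgroup G) := by
  rw [Sylow.smul_def]
  show x ∈ MulAut.conj g • (P : Subgroup G) ↔ _
  rw [Subgroup.mem_pointwise_smul_iff_inv_smul_mem]
  simp [MulAut.smul_def]

variable [Finite G] [IsSimpleGroup G]

theorem main_nonabelian (hna : ¬ ∀ a b : G, a * b = b * a) (x : G) (hx : orderOf x = 2)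
    (h3 : AtMost3 x) :
    (∃ S : Sylow 2 G, (S : Subgroup G) ≤ Subgroup.centralizer ({x} : Set G)) ∧
      ∀ u : G, orderOf u = 2 → ∃ a : G, a * x * a⁻¹ = u := by
  haveI : Fact (Nat.Prime 2) := ⟨Nat.prime_two⟩
  have hxx := mul_self_of_order_two hx
  have hx1 := ne_one_of_order_two hx
  have exinv : x⁻¹ = x := inv_eq_of_mul_eq_one_left hxx
  -- Step B
  obtain ⟨g, hcom, hne⟩ := exists_commuting_conj hna x hx
  obtain ⟨y, hy⟩ : ∃ y, y = g * x * g⁻¹ := ⟨_, rfl⟩
  rw [← hy] at hcom hne
  have oy : orderOf y = 2 := by rw [hy, orderOf_conj', hx]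
  have hyy := mul_self_of_order_two oy
  have hy1 := ne_one_of_order_two oy
  have hxy : x * y = y * x := hcom.eq
  obtain ⟨v, hv⟩ : ∃ v, v = x * y := ⟨_, rfl⟩
  have hvv : v * v = 1 := by
    rw [hv]
    calc x * y * (x * y) = x * (y * x) * y := by group
      _ = x * (x * y) * y := by rw [hxy]
      _ = (x * x) * (y * y) := by group
      _ = 1 := by rw [hxx, hyy, one_mul]
  have hv1 : v ≠ 1 := by
    intro h
    rw [hv] at h
    apply hne
    have : y = x⁻¹ := (inv_eq_of_mul_eq_one_right h).symm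
    rw [this, exinv]
  have ov : orderOf v = 2 := order_two_of hvv hv1
  have hvx : v ≠ x := by
    intro h
    rw [hv] at h
    exact hy1 (mul_left_cancel (a := x) (by rw [h, mul_one]))
  have hvy : v ≠ y := by
    intro h
    rw [hv] at h
    exact hx1 (mul_right_cancel (b := y) (by rw [h, one_mul]))
  have cyx : y * x = x * y := hxy.symm
  have cvx : v * x = x * v := by
    rw [hv]
    calc x * y * x = x * (y * x) := by group
      _ = x * (x * y) := by rw [hxy]
  have cvy : v * y = y * v := by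
    rw [hv]
    calc x * y * y = (x * y) * y := rfl
      _ = (y * x) * y := by rw [hxy]
      _ = y * (x * y) := by group
  have memx : ∀ u, u * x = x * u → orderOf u = 2 → u = x ∨ u = y ∨ u = v :=
    fun u hu ou => h3.mem rfl cyx cvx hx oy ov (Ne.symm hne) (Ne.symm hvx) (Ne.symm hvy) u hu ou
  have h3y : AtMost3 y := by rw [hy]; exact h3.conj g
  have memy : ∀ u, u * y = y * u → orderOf u = 2 → u = x ∨ u = y ∨ u = v :=
    fun u hu ou => h3y.mem hxy rfl cvy hx oy ov (Ne.symm hne) (Ne.symm hvx) (Ne.symm hvy) u hu ou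
  -- Step D
  have hvconj : ∃ k : G, k * x * k⁻¹ = v := by
    by_contra hcon
    push Not at hcon
    have Dgen : ∀ t : G, v * t = t * v →
        (∀ u, u * t = t * u → orderOf u = 2 → u = x ∨ u = y ∨ u = v) →
        ∀ c : G, c * t = t * c → c * v = v * c := by
      intro t hvt memt c hc
      have hc' : c⁻¹ * t = t * c⁻¹ := by
        calc c⁻¹ * t = c⁻¹ * (t * c) * c⁻¹ := by group
          _ = c⁻¹ * (c * t) * c⁻¹ := by rw [hc]
          _ = t * c⁻¹ := by group
      have hu : (c * v * c⁻¹) * t = t * (c * v * c⁻¹) := by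
        calc (c * v * c⁻¹) * t = c * v * (c⁻¹ * t) := by group
          _ = c * v * (t * c⁻¹) := by rw [hc']
          _ = c * (v * t) * c⁻¹ := by group
          _ = c * (t * v) * c⁻¹ := by rw [hvt]
          _ = (c * t) * v * c⁻¹ := by group
          _ = (t * c) * v * c⁻¹ := by rw [hc]
          _ = t * (c * v * c⁻¹) := by group
      have ou : orderOf (c * v * c⁻¹) = 2 := by rw [orderOf_conj', ov]
      rcases memt _ hu ou with h1 | h1 | h1
      · exfalso
        apply hcon c⁻¹
        rw [inv_inv, ← h1]; group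
      · exfalso
        apply hcon (c⁻¹ * g)
        have : c⁻¹ * g * x * (c⁻¹ * g)⁻¹ = c⁻¹ * (g * x * g⁻¹) * c := by group
        rw [this, ← hy, ← h1]; group
      · calc c * v = (c * v * c⁻¹) * c := by group
          _ = v * c := by rw [h1]
    have D2 := Dgen y cvy memy
    have D3 : ∀ k : G, v * (k * v * k⁻¹) = (k * v * k⁻¹) * v := by
      intro k
      obtain ⟨v', hv'⟩ : ∃ v', v' = k * v * k⁻¹ := ⟨_, rfl⟩
      rw [← hv']
      have ov' : orderOf v' = 2 := by rw [hv', orderOf_conj', ov]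
      have hv'v' := mul_self_of_order_two ov'
      have hv'1 := ne_one_of_order_two ov'
      by_cases hodd : Odd (orderOf (x * v'))
      · exfalso
        obtain ⟨s, hs⟩ := invol_conj_of_odd hxx hv'v' hodd
        apply hcon (k⁻¹ * s)
        have : k⁻¹ * s * x * (k⁻¹ * s)⁻¹ = k⁻¹ * (s * x * s⁻¹) * k := by group
        rw [this, hs, hv']; group
      · obtain ⟨m, hm2, ho, hcx, hcv'⟩ := exists_central_invol hxx hv'v' hodd
        rcases memx _ hcx.symm ho with h1 | h1 | h1
        · exfalso
          rw [h1] at hcv'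
          -- `v'` commutes with `x`
          have hsq : (x * v') ^ 2 = 1 := by
            rw [pow_two]
            calc x * v' * (x * v') = x * (v' * x) * v' := by group
              _ = x * (x * v') * v' := by rw [hcv']
              _ = (x * x) * (v' * v') := by group
              _ = 1 := by rw [hxx, hv'v', one_mul]
          have hdvd := orderOf_dvd_of_pow_eq_one hsq
          rw [hm2] at hdvd
          have hpos : 0 < orderOf (x * v') := orderOf_pos _
          have hm1 : m = 1 := by
            have : m ∣ 1 := (Nat.mul_dvd_mul_iff_left two_pos).mp (by simpa using hdvd)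
            exact Nat.dvd_one.mp this
          rw [hm1, pow_one] at h1
          apply hv'1
          exact mul_left_cancel (a := x) (by rw [h1, mul_one])
        · rw [h1] at hcv'
          exact (D2 v' hcv').symm
        · rw [h1] at hcv'
          exact hcv'.symm
    have hpair : ∀ a b : G,
        (a * v * a⁻¹) * (b * v * b⁻¹) = (b * v * b⁻¹) * (a * v * a⁻¹) := by
      intro a b
      have := D3 (a⁻¹ * b)
      calc (a * v * a⁻¹) * (b * v * b⁻¹)
          = a * (v * ((a⁻¹ * b) * v * (a⁻¹ * b)⁻¹)) * a⁻¹ := by group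
        _ = a * (((a⁻¹ * b) * v * (a⁻¹ * b)⁻¹) * v) * a⁻¹ := by rw [this]
        _ = (b * v * b⁻¹) * (a * v * a⁻¹) := by group
    have hAc : IsMulCommutative ↥(Subgroup.normalClosure ({v} : Set G)) := by
      unfold Subgroup.normalClosure
      apply Subgroup.isMulCommutative_closure
      intro p hp q hq
      rw [Group.mem_conjugatesOfSet_iff] at hp hq
      obtain ⟨p0, hp0, hpc⟩ := hp
      obtain ⟨q0, hq0, hqc⟩ := hq
      rw [Set.mem_singleton_iff] at hp0 hq0
      subst hp0
      subst hq0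
      rw [isConj_iff] at hpc hqc
      obtain ⟨a, rfl⟩ := hpc
      obtain ⟨b, rfl⟩ := hqc
      exact hpair a b
    have hAn : (Subgroup.normalClosure ({v} : Set G)).Normal := Subgroup.normalClosure_normal
    have hvA : v ∈ Subgroup.normalClosure ({v} : Set G) :=
      Subgroup.subset_normalClosure (Set.mem_singleton v)
    rcases IsSimpleGroup.eq_bot_or_eq_top_of_normal _ hAn with hb | htop
    · rw [hb, Subgroup.mem_bot] at hvA
      exact hv1 hvA
    · apply hna
      intro a b
      have ha : a ∈ Subgroup.normalClosure ({v} : Set G) := by rw [htop]; trivial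
      have hb : b ∈ Subgroup.normalClosure ({v} : Set G) := by rw [htop]; trivial
      have := mul_comm' (⟨a, ha⟩ : ↥(Subgroup.normalClosure ({v} : Set G))) ⟨b, hb⟩
      exact congrArg Subtype.val this
  obtain ⟨k, hk⟩ := hvconj
  -- every involution commuting with `x` is conjugate to `x`
  have conjx : ∀ u, u * x = x * u → orderOf u = 2 → ∃ a : G, a * x * a⁻¹ = u := by
    intro u hu ou
    rcases memx u hu ou with h1 | h1 | h1
    · exact ⟨1, by rw [h1]; group⟩
    · exact ⟨g, by rw [h1, hy]⟩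
    · exact ⟨k, by rw [h1, hk]⟩
  -- Step E
  have hxp : IsPGroup 2 (Subgroup.zpowers x) := by
    apply IsPGroup.of_card (n := 1)
    rw [Nat.card_zpowers, hx, pow_one]
  obtain ⟨S, hS⟩ := hxp.exists_le_sylow
  have hxS : x ∈ (S : Subgroup G) := hS (Subgroup.mem_zpowers x)
  haveI : Nontrivial ↥(S : Subgroup G) :=
    ⟨⟨⟨x, hxS⟩, 1, fun h => hx1 (congrArg Subtype.val h)⟩⟩
  have hSp : IsPGroup 2 ↥(S : Subgroup G) := S.isPGroup'
  haveI hZnt := IsPGroup.center_nontrivial hSp
  have hZp : IsPGroup 2 ↥(Subgroup.center ↥(S : Subgroup G)) := hSp.to_subgroup _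
  obtain ⟨j, hj⟩ := IsPGroup.iff_card.mp hZp
  have hj0 : j ≠ 0 := by
    rintro rfl
    rw [pow_zero] at hj
    have := (Finite.one_lt_card_iff_nontrivial).mpr hZnt
    omega
  have h2dvd : 2 ∣ Nat.card ↥(Subgroup.center ↥(S : Subgroup G)) := by
    rw [hj]; exact dvd_pow_self 2 hj0
  obtain ⟨z₀, hz₀⟩ := exists_prime_orderOf_dvd_card' 2 h2dvd
  obtain ⟨z, hz⟩ : ∃ z : G, z = ((z₀ : ↥(S : Subgroup G)) : G) := ⟨_, rfl⟩
  have oz : orderOf z = 2 := by
    rw [hz, Subgroup.orderOf_coe, Subgroup.orderOf_coe, hz₀]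
  have hzS : ∀ s ∈ (S : Subgroup G), s * z = z * s := by
    intro s hs
    have := (Subgroup.mem_center_iff.mp z₀.2) ⟨s, hs⟩
    have := congrArg Subtype.val this
    rw [hz]
    exact this
  obtain ⟨a, ha⟩ := conjx z (hzS x hxS).symm oz
  have hSx : ((a⁻¹ • S : Sylow 2 G) : Subgroup G) ≤ Subgroup.centralizer ({x} : Set G) := by
    intro m hm
    rw [mem_smul_sylow_iff', inv_inv] at hm
    rw [Subgroup.mem_centralizer_singleton_iff]
    have h1 := hzS _ hm
    rw [← ha] at h1
    calc m * x = a⁻¹ * ((a * m * a⁻¹) * (a * x * a⁻¹)) * a := by group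
      _ = a⁻¹ * ((a * x * a⁻¹) * (a * m * a⁻¹)) * a := by rw [h1]
      _ = x * m := by group
  refine ⟨⟨a⁻¹ • S, hSx⟩, ?_⟩
  -- Step F
  intro u ou
  have hup : IsPGroup 2 (Subgroup.zpowers u) := by
    apply IsPGroup.of_card (n := 1)
    rw [Nat.card_zpowers, ou, pow_one]
  obtain ⟨S'', hS''⟩ := hup.exists_le_sylow
  obtain ⟨b, hb⟩ := MulAction.exists_smul_eq G (a⁻¹ • S : Sylow 2 G) S''
  have huS : u ∈ (S'' : Subgroup G) := hS'' (Subgroup.mem_zpowers u)
  rw [← hb, mem_smul_sylow_iff'] at huS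
  have hux := hSx huS
  rw [Subgroup.mem_centralizer_singleton_iff] at hux
  have ou' : orderOf (b⁻¹ * u * b) = 2 := by
    have := orderOf_conj' b⁻¹ u
    rw [inv_inv] at this
    rw [this, ou]
  obtain ⟨a', ha'⟩ := conjx _ hux ou'
  refine ⟨b * a', ?_⟩
  calc b * a' * x * (b * a')⁻¹ = b * (a' * x * a'⁻¹) * b⁻¹ := by group
    _ = b * (b⁻¹ * u * b) * b⁻¹ := by rw [ha']
    _ = u := by group

end Main

end Cfsg.Agent.helper19.C3
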