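import Mathlib.GroupTheory.Sylow
import Mathlib.GroupTheory.IsSubnormal
import Cfsg.Prelude.Def_Solvable

set_option autoImplicit false

namespace Cfsg.Agent.helper15

variable {G : Type*} [Group G]

theorem pCore_normal' (p : ℕ) : (Cfsg.pCore p G).Normal :=
  Subgroup.sSup_normal _ (fun _ h => h.1)

theorem pCore_isPGroup' (p : ℕ) : IsPGroup p ↥(Cfsg.pCore p G) :=
  Sylow.sSup_of_normal _ (fun _ h => h.2) (fun _ h => h.1)

theorem le_pCore' {p : ℕ} {N : Subgroup G} (hN : N.Normal) (h : IsPGroup p ↥N) :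
    N ≤ Cfsg.pCore p G :=
  le_sSup ⟨hN, h⟩

theorem conj_pow_eq_mul_pow {y q d : G} (hd : y * q * y⁻¹ = q * d) (hc : Commute y d) (n : ℕ) :
    y ^ n * q * (y ^ n)⁻¹ = q * d ^ n := by
  induction n with
  | zero => simp
  | succ n ih =>
    have hc' : y * d ^ n * y⁻¹ = d ^ n := by
      have := (hc.pow_right n).eq
      rw [this, mul_inv_cancel_right]
    calc y ^ (n + 1) * q * (y ^ (n + 1))⁻¹ = y * (y ^ n * q * (y ^ n)⁻¹) * y⁻¹ := by
          rw [pow_succ']; group
      _ = y * (q * d ^ n) * y⁻¹ := by rw [ih]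
      _ = (y * q * y⁻¹) * (y * d ^ n * y⁻¹) := by group
      _ = q * d * d ^ n := by rw [hd, hc']
      _ = q * d ^ (n + 1) := by rw [pow_succ', mul_assoc]

/-- Coprime action, elementary form: if `y` has order prime to `p`, `y q y⁻¹ = q d` with `d` a
`p`-element commuting with `y`, then `d = 1`. -/
theorem eq_one_of_coprime_of_commute {p : ℕ} {y q d : G} (hy : (orderOf y).Coprime p)
    (hd : y * q * y⁻¹ = q * d) (hc : Commute y d) (hdp : ∃ k : ℕ, d ^ (p ^ k) = 1) : d = 1 := by
  have h := conj_pow_eq_mul_pow hd hc (orderOf y)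
  rw [pow_orderOf_eq_one, one_mul, inv_one, mul_one] at h
  have hdn : d ^ orderOf y = 1 := by
    have : q * 1 = q * d ^ orderOf y := by rw [mul_one]; exact h
    exact (mul_left_cancel this).symm
  obtain ⟨k, hk⟩ := hdp
  have h1 : orderOf d ∣ orderOf y := orderOf_dvd_of_pow_eq_one hdn
  have h2 : orderOf d ∣ p ^ k := orderOf_dvd_of_pow_eq_one hk
  have hcop : (orderOf y).Coprime (p ^ k) := hy.pow_right k
  have : orderOf d = 1 := Nat.eq_one_of_dvd_coprimes hcop h1 h2
  exact orderOf_eq_one_iff.1 this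

/-- `A` has characteristic `p`: `C_A(O_p(A)) ≤ O_p(A)`. -/
def IsCharP (p : ℕ) (A : Type*) [Group A] : Prop :=
  Subgroup.centralizer (Cfsg.pCore p A : Set A) ≤ Cfsg.pCore p A

theorem pCore_map_equiv_le {A B : Type*} [Group A] [Group B] (p : ℕ) (e : A ≃* B) :
    (Cfsg.pCore p A).map e.toMonoidHom ≤ Cfsg.pCore p B := by
  apply le_pCore'
  · exact (pCore_normal' (G := A) p).map e.toMonoidHom e.surjective
  · exact (pCore_isPGroup' (G := A) p).map e.toMonoidHom

theorem pCore_map_equiv {A B : Type*} [Group A] [Group B] (p : ℕ) (e : A ≃* B) :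
    (Cfsg.pCore p A).map e.toMonoidHom = Cfsg.pCore p B := by
  apply le_antisymm (pCore_map_equiv_le p e)
  intro x hx
  have : e.symm x ∈ Cfsg.pCore p A := by
    apply pCore_map_equiv_le p e.symm
    exact ⟨x, hx, rfl⟩
  exact ⟨e.symm x, this, by simp⟩

theorem IsCharP.of_equiv {A B : Type*} [Group A] [Group B] {p : ℕ} (e : A ≃* B)
    (h : IsCharP p A) : IsCharP p B := by
  intro x hx
  have hx' : e.symm x ∈ Subgroup.centralizer (Cfsg.pCore p A : Set A) := by
    rw [Subgroup.mem_centralizer_iff]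
    intro a ha
    have hea : e a ∈ Cfsg.pCore p B := by
      rw [← pCore_map_equiv p e]
      exact ⟨a, ha, rfl⟩
    have := Subgroup.mem_centralizer_iff.1 hx (e a) hea
    have := congrArg e.symm this
    simpa using this
  have := h hx'
  rw [← pCore_map_equiv p e]
  exact ⟨e.symm x, this, by simp⟩

/-- A subgroup normalized by `O_p(G)` of a group `G` of characteristic `p` has characteristic `p`. -/
theorem isCharP_of_pCore_le_normalizer [Finite G] {p : ℕ} [Fact p.Prime] (hG : IsCharP p G)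
    (L : Subgroup G) (hL : Cfsg.pCore p G ≤ Subgroup.normalizer (L : Set G)) : IsCharP p ↥L := by
  have hQn : (Cfsg.pCore p G).Normal := pCore_normal' p
  have hQp : IsPGroup p ↥(Cfsg.pCore p G) := pCore_isPGroup' p
  -- `Q ∩ L` lies in `O_p(L)`
  have hQL : (Cfsg.pCore p G).subgroupOf L ≤ Cfsg.pCore p ↥L := by
    apply le_pCore'
    · exact Subgroup.Normal.subgroupOf hQn L
    · exact hQp.comap_subtype
  have hCn : (Subgroup.centralizer (Cfsg.pCore p ↥L : Set ↥L)).Normal := by
    have := pCore_normal' (G := ↥L) p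
    exact Subgroup.normal_centralizer
  apply le_pCore' hCn
  -- the centralizer is a `p`-group
  intro x
  obtain ⟨x, hxC⟩ := x
  have hpos : 0 < orderOf x := orderOf_pos x
  obtain ⟨a, m, hm, hn⟩ := Nat.exists_eq_pow_mul_and_not_dvd hpos.ne' p (Fact.out : p.Prime).ne_one
  refine ⟨a, ?_⟩
  apply Subtype.ext
  show x ^ p ^ a = 1
  set y : ↥L := x ^ p ^ a with hy
  have hyC : y ∈ Subgroup.centralizer (Cfsg.pCore p ↥L : Set ↥L) := Subgroup.pow_mem _ hxC _
  have hyord : orderOf y = m := by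
    rw [hy, orderOf_pow' x (pow_ne_zero a (Fact.out : p.Prime).ne_zero), hn,
      Nat.gcd_eq_right (Dvd.intro _ rfl), Nat.mul_div_cancel_left _ (pow_pos (Fact.out : p.Prime).pos a)]
  have hycop : (orderOf (y : G)).Coprime p := by
    rw [Subgroup.orderOf_coe, hyord]
    exact ((Fact.out : p.Prime).coprime_iff_not_dvd.2 hm).symm
  -- `y` centralizes `Q`
  have hyQ : (y : G) ∈ Subgroup.centralizer (Cfsg.pCore p G : Set G) := by
    rw [Subgroup.mem_centralizer_iff]
    intro q hq
    set d : G := q⁻¹ * ((y : G) * q * (y : G)⁻¹) with hd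
    have hdQ : d ∈ Cfsg.pCore p G :=
      Subgroup.mul_mem _ (Subgroup.inv_mem _ hq) (hQn.conj_mem q hq (y : G))
    have hdL : d ∈ L := by
      have h1 : q⁻¹ * (y : G) * q⁻¹⁻¹ ∈ L :=
        (Subgroup.mem_normalizer_iff.1 (hL (Subgroup.inv_mem _ hq)) (y : G)).1 y.2
      have e : d = (q⁻¹ * (y : G) * q⁻¹⁻¹) * (y : G)⁻¹ := by rw [hd]; group
      rw [e]
      exact L.mul_mem h1 (L.inv_mem y.2)
    have hdcore : (⟨d, hdL⟩ : ↥L) ∈ Cfsg.pCore p ↥L := hQL (Subgroup.mem_subgroupOf.2 hdQ)
    have hcomm : Commute (y : G) d := by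
      have := Subgroup.mem_centralizer_iff.1 hyC ⟨d, hdL⟩ hdcore
      have := congrArg Subtype.val this
      simp only [Subgroup.coe_mul] at this
      exact this.symm
    have hconj : (y : G) * q * (y : G)⁻¹ = q * d := by rw [hd]; group
    have hdp : ∃ k : ℕ, d ^ (p ^ k) = 1 := by
      obtain ⟨k, hk⟩ := hQp ⟨d, hdQ⟩
      exact ⟨k, by simpa using congrArg Subtype.val hk⟩
    have hd1 := eq_one_of_coprime_of_commute hycop hconj hcomm hdp
    rw [hd1, mul_one] at hconj
    calc q * (y : G) = ((y : G) * q * (y : G)⁻¹) * (y : G) := by rw [hconj]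
      _ = (y : G) * q := by group
  have hyQ' := hG hyQ
  -- `y` is both a `p`-element and a `p'`-element
  obtain ⟨k, hk⟩ := hQp ⟨(y : G), hyQ'⟩
  have hk' : (y : G) ^ p ^ k = 1 := by simpa using congrArg Subtype.val hk
  have h1 : orderOf (y : G) ∣ p ^ k := orderOf_dvd_of_pow_eq_one hk'
  have h2 : orderOf (y : G) = 1 :=
    Nat.eq_one_of_dvd_coprimes (hycop.pow_right k) dvd_rfl h1
  have : (y : G) = 1 := orderOf_eq_one_iff.1 h2
  exact_mod_cast this

/-- Subnormal subgroups of a group of characteristic `p` have characteristic `p`. -/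
theorem isCharP_of_isSubnormal [Finite G] {p : ℕ} [Fact p.Prime] (hG : IsCharP p G)
    {Y : Subgroup G} (hY : Y.IsSubnormal) : IsCharP p ↥Y := by
  induction hY with
  | top => exact hG.of_equiv Subgroup.topEquiv.symm
  | step H K h_le _ hN ih =>
    have h1 : IsCharP p ↥(H.subgroupOf K) := by
      apply isCharP_of_pCore_le_normalizer ih
      intro x _
      rw [Subgroup.normalizer_eq_top_iff.2 hN]
      exact Subgroup.mem_top x
    exact h1.of_equiv (Subgroup.subgroupOfEquivOfLe h_le)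

end Cfsg.Agent.helper15
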