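import Mathlib
import Cfsg.Prelude.Def_SubgroupEmbedding

set_option autoImplicit false

namespace Cfsg.Agent.helper15

/-- In a finite `p`-group `T`, a subgroup `H` with `N_T(H) = H` equals `T`. -/
theorem eq_of_inf_normalizer_eq {G : Type*} [Group G] [Finite G] {p : ℕ} [Fact p.Prime]
    (H T : Subgroup G) (hT : IsPGroup p ↥T) (hHT : H ≤ T)
    (h : T ⊓ Subgroup.normalizer (H : Set G) = H) : H = T := by
  by_contra hne
  have hlt : H.subgroupOf T < ⊤ := by
    rw [lt_top_iff_ne_top]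
    intro htop
    rw [Subgroup.subgroupOf_eq_top] at htop
    exact hne (le_antisymm hHT htop)
  haveI : Group.IsNilpotent ↥T := hT.isNilpotent
  have hnc := Group.normalizerCondition_of_isNilpotent (G := ↥T) _ hlt
  rw [← Subgroup.subgroupOf_normalizer_eq hHT] at hnc
  obtain ⟨x, hxN, hxH⟩ := SetLike.exists_of_lt hnc
  rw [Subgroup.mem_subgroupOf] at hxN hxH
  apply hxH
  rw [← h]
  exact Subgroup.mem_inf.2 ⟨x.2, hxN⟩

theorem map_conj_eq_of_le {G : Type*} [Group G] [Finite G] (H : Subgroup G) (g : G)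
    (h : H.map (MulAut.conj g).toMonoidHom ≤ H) : H.map (MulAut.conj g).toMonoidHom = H := by
  apply Subgroup.eq_of_le_of_card_ge h
  rw [Subgroup.card_map_of_injective (MulAut.conj g).injective]

theorem mem_normalizer_of_map_conj_le {G : Type*} [Group G] [Finite G] (H : Subgroup G) (g : G)
    (h : H.map (MulAut.conj g).toMonoidHom ≤ H) : g ∈ Subgroup.normalizer (H : Set G) := by
  have heq := map_conj_eq_of_le H g h
  rw [Subgroup.mem_normalizer_iff]
  intro x
  constructor
  · intro hx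
    rw [← heq]
    exact Subgroup.mem_map.2 ⟨x, hx, by simp only [MulEquiv.coe_toMonoidHom, MulAut.conj_apply]⟩
  · intro hx
    rw [← heq] at hx
    obtain ⟨y, hy, hyx⟩ := Subgroup.mem_map.1 hx
    simp only [MulEquiv.coe_toMonoidHom, MulAut.conj_apply] at hyx
    have : x = y := by
      have h1 : g * y * g⁻¹ = g * x * g⁻¹ := hyx
      have h2 := mul_right_cancel h1
      exact (mul_left_cancel h2).symm
    rw [this]; exact hy

/-- Extremely closed `p`-subgroups: the normalizer of any `p`-overgroup normalizes `H`. -/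
theorem normalizer_le_of_isExtremelyClosed {G : Type*} [Group G] [Finite G] {p : ℕ} [Fact p.Prime]
    (H : Subgroup G) (hcl : Cfsg.IsExtremelyClosed H) (Q : Subgroup G) (hQ : IsPGroup p Q)
    (hHQ : H ≤ Q) : Subgroup.normalizer (Q : Set G) ≤ Subgroup.normalizer (H : Set G) := by
  intro g hg
  have hgH : H.map (MulAut.conj g).toMonoidHom ≤ Q := by
    rintro _ ⟨h, hh, rfl⟩
    simp only [MulEquiv.coe_toMonoidHom, MulAut.conj_apply]
    exact (Subgroup.mem_normalizer_iff.1 hg h).1 (hHQ hh)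
  have hTQ : H ⊔ H.map (MulAut.conj g).toMonoidHom ≤ Q := sup_le hHQ hgH
  have hTp : IsPGroup p ↥(H ⊔ H.map (MulAut.conj g).toMonoidHom) := hQ.to_le hTQ
  have heq := eq_of_inf_normalizer_eq H _ hTp le_sup_left (hcl g)
  apply mem_normalizer_of_map_conj_le
  calc H.map (MulAut.conj g).toMonoidHom ≤ H ⊔ H.map (MulAut.conj g).toMonoidHom := le_sup_right
    _ = H := heq.symm



theorem eq_one_of_mem_isPGroup_of_mem_coprime {G : Type*} [Group G] [Finite G] {p : ℕ}
    [Fact p.Prime] (Q : Subgroup G) (hQ : IsPGroup p ↥Q) (D : Subgroup G)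
    (hD : (Nat.card ↥D).Coprime p) (z : G) (hzQ : z ∈ Q) (hzD : z ∈ D) : z = 1 := by
  obtain ⟨k, hk⟩ := hQ ⟨z, hzQ⟩
  have hk' : z ^ (p ^ k) = 1 := by
    have := congrArg Subtype.val hk
    rwa [Subgroup.coe_pow, Subgroup.coe_one] at this
  have h1 : orderOf z ∣ p ^ k := orderOf_dvd_of_pow_eq_one hk'
  have h2 : orderOf z ∣ Nat.card D := by
    have : orderOf (⟨z, hzD⟩ : ↥D) ∣ Nat.card D := orderOf_dvd_natCard _
    rwa [← Subgroup.orderOf_coe] at this
  have hcop : Nat.Coprime (p ^ k) (Nat.card D) := (Nat.Coprime.pow_right k hD).symm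
  have h3 : orderOf z = 1 := Nat.eq_one_of_dvd_coprimes hcop h1 h2
  exact orderOf_eq_one_iff.1 h3

/-- An extremely closed `p`-subgroup `H` is a Sylow `p`-subgroup of `T = ⟨H, gHg⁻¹⟩`. -/
def sylowOfIsExtremelyClosed {G : Type*} [Group G] [Finite G] {p : ℕ} [Fact p.Prime]
    (H : Subgroup G) (hHp : IsPGroup p H) (hcl : Cfsg.IsExtremelyClosed H) (T : Subgroup G)
    (hHT : H ≤ T) (hNT : T ⊓ Subgroup.normalizer (H : Set G) = H) : Sylow p ↥T where
  toSubgroup := H.subgroupOf T
  isPGroup' := IsPGroup.comap_subtype hHp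
  is_maximal' := by
    intro Q hQ hle
    apply le_antisymm _ hle
    have hQ' : IsPGroup p ↥(Q.map T.subtype) := hQ.map _
    have hHQ' : H ≤ Q.map T.subtype := by
      intro h hh
      exact Subgroup.mem_map.2 ⟨⟨h, hHT hh⟩, hle (Subgroup.mem_subgroupOf.2 hh), rfl⟩
    have hN := normalizer_le_of_isExtremelyClosed H hcl _ hQ' hHQ'
    intro q hq
    rw [Subgroup.mem_subgroupOf, ← hNT]
    refine Subgroup.mem_inf.2 ⟨q.2, hN (Subgroup.le_normalizer ?_)⟩
    exact Subgroup.mem_map.2 ⟨q, hq, rfl⟩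

end Cfsg.Agent.helper15
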