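import Cfsg.Agent.Lib_helper14_SPE2

set_option autoImplicit false
open Cfsg

namespace Cfsg.Agent.helper14

/-- Relative version: if `P₀` is Sylow in `M ≤ C` and `N_X(P₀) ∩ C ≤ M` then `P₀` is Sylow in `C`. -/
theorem sylow_of_normalizer_inf_le {X : Type*} [Group X] [Finite X] {p : ℕ} [Fact p.Prime]
    (C M : Subgroup X) (hMC : M ≤ C) (P₀ : Sylow p M)
    (hN : Subgroup.normalizer ((((P₀ : Subgroup M).map M.subtype : Subgroup X)) : Set X) ⊓ C ≤ M) :
    ∃ P : Sylow p C, (P : Subgroup C).map C.subtype = (P₀ : Subgroup M).map M.subtype := by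
  set Q := (P₀ : Subgroup M).map M.subtype with hQ
  have hQM : Q ≤ M := Subgroup.map_subtype_le _
  have hQp : IsPGroup p Q := P₀.isPGroup'.map _
  have hQp' : IsPGroup p (Q.subgroupOf C) := hQp.comap_of_injective _ (Subgroup.subtype_injective _)
  obtain ⟨P, hP⟩ := hQp'.exists_le_sylow
  refine ⟨P, ?_⟩
  set R := (P : Subgroup C).map C.subtype with hR
  have hRC : R ≤ C := Subgroup.map_subtype_le _
  have hRp : IsPGroup p R := P.isPGroup'.map _
  have hQR : Q ≤ R := by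
    intro x hx
    exact ⟨⟨x, hMC (hQM hx)⟩, hP (Subgroup.mem_subgroupOf.mpr hx), rfl⟩
  by_contra hne
  have hlt : Q.subgroupOf R < ⊤ := by
    rw [lt_top_iff_ne_top]
    intro htop
    apply hne
    apply le_antisymm _ hQR
    rw [Subgroup.subgroupOf_eq_top] at htop
    exact htop
  have : Group.IsNilpotent R := hRp.isNilpotent
  have hnc := Group.normalizerCondition_of_isNilpotent (G := R) _ hlt
  rw [← Subgroup.subgroupOf_normalizer_eq hQR] at hnc
  obtain ⟨x, hxN, hxQ⟩ := SetLike.exists_of_lt hnc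
  rw [Subgroup.mem_subgroupOf] at hxN hxQ
  have hxM : (x : X) ∈ M := hN ⟨hxN, hRC x.2⟩
  have hmax : (R ⊓ M).subgroupOf M = (P₀ : Subgroup M) := by
    apply P₀.is_maximal'
    · exact (hRp.to_le inf_le_left).comap_of_injective _ (Subgroup.subtype_injective _)
    · intro y hy
      rw [Subgroup.mem_subgroupOf]
      exact ⟨hQR (Subgroup.mem_map_of_mem M.subtype hy), y.2⟩
  apply hxQ
  have : (⟨(x : X), hxM⟩ : M) ∈ (P₀ : Subgroup M) := by
    rw [← hmax, Subgroup.mem_subgroupOf]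
    exact ⟨x.2, hxM⟩
  exact ⟨⟨(x : X), hxM⟩, this, rfl⟩

/-- Every `p`-subgroup of `C` is `C`-conjugate into a given Sylow subgroup of `C`. -/
theorem exists_conj_le_sylow_of_le {X : Type*} [Group X] [Finite X] {p : ℕ} [Fact p.Prime]
    (C : Subgroup X) (P : Sylow p C) (A : Subgroup X) (hAC : A ≤ C) (hA : IsPGroup p A) :
    ∃ c ∈ C, A ≤ ((P : Subgroup C).map C.subtype).map (MulAut.conj c).toMonoidHom := by
  have hA' : IsPGroup p (A.subgroupOf C) := hA.comap_of_injective _ (Subgroup.subtype_injective _)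
  obtain ⟨R, hR⟩ := hA'.exists_le_sylow
  obtain ⟨c, hc⟩ := MulAction.exists_smul_eq C P R
  obtain ⟨c, hcC⟩ := c
  refine ⟨c, hcC, ?_⟩
  rw [← sylow_smul_map_subtype' C c hcC, hc]
  intro a ha
  exact ⟨⟨a, hAC ha⟩, hR (Subgroup.mem_subgroupOf.mpr ha), rfl⟩

theorem dvd_card_of_isPGroup_ne_bot {X : Type*} [Group X] [Finite X] {p : ℕ} [Fact p.Prime] (A : Subgroup X)
    (hA : IsPGroup p A) (hA1 : A ≠ ⊥) : p ∣ Nat.card A := by
  obtain ⟨k, hk⟩ := IsPGroup.iff_card.mp hA
  rw [hk]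
  have hk0 : k ≠ 0 := by
    rintro rfl
    rw [pow_zero, Subgroup.card_eq_one] at hk
    exact hA1 hk
  exact dvd_pow_self p hk0

end Cfsg.Agent.helper14
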