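import Mathlib.GroupTheory.Sylow
import Mathlib.GroupTheory.Nilpotent
import Cfsg.Prelude.Def_IsolatedElements

set_option autoImplicit false

namespace Cfsg.Agent.helper15

variable {G : Type*} [Group G]

theorem isIsolated_conj {x : G} (hiso : Cfsg.IsIsolated x) (h : G) :
    Cfsg.IsIsolated (h * x * h⁻¹) := by
  intro g hc
  have h1 : Commute x ((h⁻¹ * g * h) * x * (h⁻¹ * g * h)⁻¹) := by
    have h2 := hc.conj h⁻¹
    have e1 : h⁻¹ * (h * x * h⁻¹) * h⁻¹⁻¹ = x := by group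
    have e2 : h⁻¹ * (g * (h * x * h⁻¹) * g⁻¹) * h⁻¹⁻¹ = (h⁻¹ * g * h) * x * (h⁻¹ * g * h)⁻¹ := by
      group
    rw [e1, e2] at h2
    exact h2
  have h3 := hiso _ h1
  have e3 : g * (h * x * h⁻¹) * g⁻¹ = h * ((h⁻¹ * g * h) * x * (h⁻¹ * g * h)⁻¹) * h⁻¹ := by group
  rw [e3, h3]

/-- An isolated element of a finite `p`-subgroup is central in it. -/
theorem isolated_comm_of_mem_pgroup [Finite G] {p : ℕ} [Fact p.Prime] {x : G}
    (hiso : Cfsg.IsIsolated x) (P : Subgroup G) (hP : IsPGroup p ↥P) (hx : x ∈ P) :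
    ∀ y ∈ P, y * x = x * y := by
  haveI : Group.IsNilpotent ↥P := hP.isNilpotent
  set x' : ↥P := ⟨x, hx⟩ with hx'
  set C : Subgroup ↥P := Subgroup.centralizer ({x'} : Set ↥P) with hC
  have hCtop : C = ⊤ := by
    by_contra hne
    have hlt : C < ⊤ := lt_top_iff_ne_top.2 hne
    have hnc : NormalizerCondition ↥P := normalizerCondition_of_isNilpotent
    have hlt2 := hnc C hlt
    obtain ⟨g, hgN, hgC⟩ := SetLike.exists_of_lt hlt2
    have hxC : x' ∈ C := by
      rw [hC, Subgroup.mem_centralizer_singleton_iff]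
    have hgx : g * x' * g⁻¹ ∈ C := (Subgroup.mem_normalizer_iff.1 hgN x').1 hxC
    rw [hC, Subgroup.mem_centralizer_singleton_iff] at hgx
    have hcomm : Commute x ((g : G) * x * (g : G)⁻¹) := by
      have := congrArg Subtype.val hgx
      simp only [Subgroup.coe_mul, Subgroup.coe_inv, hx'] at this
      exact this.symm
    have heq := hiso (g : G) hcomm
    apply hgC
    rw [hC, Subgroup.mem_centralizer_singleton_iff]
    apply Subtype.ext
    simp only [Subgroup.coe_mul, hx']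
    calc (g : G) * x = ((g : G) * x * (g : G)⁻¹) * (g : G) := by group
      _ = x * (g : G) := by rw [heq]
  intro y hy
  have : (⟨y, hy⟩ : ↥P) ∈ C := by rw [hCtop]; exact Subgroup.mem_top _
  rw [hC, Subgroup.mem_centralizer_singleton_iff] at this
  have := congrArg Subtype.val this
  simpa [hx'] using this

/-- Two conjugates of an isolated element inside a common `p`-subgroup are equal. -/
theorem isolated_conj_eq_of_mem_pgroup [Finite G] {p : ℕ} [Fact p.Prime] {x : G}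
    (hiso : Cfsg.IsIsolated x) (P : Subgroup G) (hP : IsPGroup p ↥P) (hx : x ∈ P) (g : G)
    (hg : g * x * g⁻¹ ∈ P) : g * x * g⁻¹ = x := by
  have := isolated_comm_of_mem_pgroup hiso P hP hx _ hg
  exact hiso g this.symm

theorem isPGroup_zpowers_of_orderOf {p : ℕ} [Fact p.Prime] {H : Type*} [Group H] (x : H)
    (hx : ∃ k : ℕ, orderOf x = p ^ k) : IsPGroup p ↥(Subgroup.zpowers x) := by
  obtain ⟨k, hk⟩ := hx
  apply IsPGroup.of_card (n := k)
  rw [Nat.card_zpowers, hk]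

/-- Fusion of an isolated `p`-element is controlled by any subgroup containing both conjugates. -/
theorem isolated_conj_in_subgroup [Finite G] {p : ℕ} [Fact p.Prime] {x : G}
    (hiso : Cfsg.IsIsolated x) (hx : ∃ k : ℕ, orderOf x = p ^ k) (H : Subgroup G) (hxH : x ∈ H)
    (g : G) (hy : g * x * g⁻¹ ∈ H) : ∃ h ∈ H, h * x * h⁻¹ = g * x * g⁻¹ := by
  set x' : ↥H := ⟨x, hxH⟩ with hx'
  set y' : ↥H := ⟨g * x * g⁻¹, hy⟩ with hy'
  have hox : ∃ k : ℕ, orderOf x' = p ^ k := by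
    obtain ⟨k, hk⟩ := hx
    refine ⟨k, ?_⟩
    rw [← hk, hx', ← Subgroup.orderOf_coe]
  have hoy : ∃ k : ℕ, orderOf y' = p ^ k := by
    obtain ⟨k, hk⟩ := hx
    refine ⟨k, ?_⟩
    rw [← hk, ← Subgroup.orderOf_coe]
    simp only [hy']
    exact (MulAut.conj g).orderOf_eq x
  obtain ⟨P₁, hP₁⟩ := (isPGroup_zpowers_of_orderOf x' hox).exists_le_sylow
  obtain ⟨P₂, hP₂⟩ := (isPGroup_zpowers_of_orderOf y' hoy).exists_le_sylow
  obtain ⟨h, hh⟩ := MulAction.exists_smul_eq ↥H P₁ P₂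
  have hx1 : x' ∈ P₁ := hP₁ (Subgroup.mem_zpowers x')
  have hy2 : y' ∈ P₂ := hP₂ (Subgroup.mem_zpowers y')
  have hz2 : h * x' * h⁻¹ ∈ P₂ := by
    rw [← hh]
    have : h * x' * h⁻¹ ∈ ((h • P₁ : Sylow p ↥H) : Subgroup ↥H) := by
      rw [Sylow.coe_subgroup_smul]
      have := Subgroup.smul_mem_pointwise_smul x' (MulAut.conj h) (P₁ : Subgroup ↥H) hx1
      simpa [MulAut.smul_def] using this
    exact this
  set R : Subgroup G := (P₂ : Subgroup ↥H).map H.subtype with hR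
  have hRp : IsPGroup p ↥R := P₂.2.map H.subtype
  have hzR : (h : G) * x * (h : G)⁻¹ ∈ R := by
    refine ⟨h * x' * h⁻¹, hz2, ?_⟩
    simp [hx']
  have hyR : g * x * g⁻¹ ∈ R := ⟨y', hy2, rfl⟩
  have hisoz := isIsolated_conj hiso (h : G)
  have e : g * x * g⁻¹ = (g * (h : G)⁻¹) * ((h : G) * x * (h : G)⁻¹) * (g * (h : G)⁻¹)⁻¹ := by group
  have hyR' : (g * (h : G)⁻¹) * ((h : G) * x * (h : G)⁻¹) * (g * (h : G)⁻¹)⁻¹ ∈ R := by
    rw [← e]; exact hyR
  have := isolated_conj_eq_of_mem_pgroup hisoz R hRp hzR _ hyR'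
  refine ⟨(h : G), h.2, ?_⟩
  rw [e, this]

end Cfsg.Agent.helper15
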