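import Mathlib
import Cfsg.Prelude.Def_SylowControl

set_option autoImplicit false

namespace Cfsg.Agent.helper15

/-- A `p`-subgroup `Q` of a subgroup `H` containing a Sylow `p`-subgroup of `G` lies in a Sylow
`p`-subgroup of `G` contained in `H`. -/
theorem exists_sylow_between {G : Type*} [Group G] [Finite G] {p : ℕ} [Fact p.Prime]
    (Q H : Subgroup G) (T : Sylow p G) (hT : (T : Subgroup G) ≤ H) (hQ : IsPGroup p Q) (hQH : Q ≤ H) :
    ∃ U : Sylow p G, Q ≤ (U : Subgroup G) ∧ (U : Subgroup G) ≤ H := by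
  have hQ' : IsPGroup p (Q.subgroupOf H) :=
    hQ.of_equiv (Subgroup.subgroupOfEquivOfLe hQH).symm
  obtain ⟨P, hP⟩ := hQ'.exists_le_sylow
  have hcardP : Nat.card ((P : Subgroup H).map H.subtype) = p ^ (Nat.card H).factorization p := by
    rw [Subgroup.card_map_of_injective H.subtype_injective]
    exact P.card_eq_multiplicity
  have hTc : Nat.card (T : Subgroup G) = p ^ (Nat.card G).factorization p := T.card_eq_multiplicity
  have hp : p.Prime := Fact.out
  have h1 : p ^ (Nat.card G).factorization p ∣ Nat.card H := by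
    rw [← hTc]; exact Subgroup.card_dvd_of_le hT
  have h2 : (Nat.card G).factorization p ≤ (Nat.card H).factorization p := by
    exact (hp.pow_dvd_iff_le_factorization (Nat.card_pos.ne')).1 h1
  have h3 : (Nat.card H).factorization p ≤ (Nat.card G).factorization p := by
    have : p ^ (Nat.card H).factorization p ∣ Nat.card G :=
      dvd_trans (Nat.ordProj_dvd _ _) (Subgroup.card_subgroup_dvd_card H)
    exact (hp.pow_dvd_iff_le_factorization (Nat.card_pos.ne')).1 this
  have h4 : Nat.card ((P : Subgroup H).map H.subtype) = p ^ (Nat.card G).factorization p := by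
    rw [hcardP, le_antisymm h3 h2]
  refine ⟨Sylow.ofCard _ h4, ?_, ?_⟩
  · intro x hx
    show x ∈ (P : Subgroup H).map H.subtype
    exact ⟨⟨x, hQH hx⟩, hP (Subgroup.mem_subgroupOf.2 hx), rfl⟩
  · intro x hx
    obtain ⟨y, _, rfl⟩ := hx
    exact y.2

/-- Cardinality form of the Sylow-member condition. -/
theorem sylowMember_iff {G : Type*} [Group G] [Finite G] {p : ℕ} [Fact p.Prime] (Q X : Subgroup G) :
    (∃ P : Sylow p ↥X, (P : Subgroup ↥X).map X.subtype = Q ⊓ X) ↔
      Nat.card ↥(Q ⊓ X) = p ^ (Nat.card X).factorization p := by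
  constructor
  · rintro ⟨P, hP⟩
    rw [← hP, Subgroup.card_map_of_injective X.subtype_injective]
    exact P.card_eq_multiplicity
  · intro h
    have hle : Q ⊓ X ≤ X := inf_le_right
    have hc : Nat.card ((Q ⊓ X).subgroupOf X) = p ^ (Nat.card X).factorization p := by
      rw [← h]; exact Nat.card_congr (Subgroup.subgroupOfEquivOfLe hle).toEquiv
    refine ⟨Sylow.ofCard _ hc, ?_⟩
    show ((Q ⊓ X).subgroupOf X).map X.subtype = Q ⊓ X
    rw [Subgroup.subgroupOf_map_subtype]
    exact inf_eq_left.2 hle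

theorem mem_subgroupConjRight {G : Type*} [Group G] (g : G) (X : Subgroup G) (x : G) :
    x ∈ Cfsg.subgroupConjRight g X ↔ g * x * g⁻¹ ∈ X := by
  unfold Cfsg.subgroupConjRight
  constructor
  · rintro ⟨y, hy, rfl⟩
    simp only [MulEquiv.coe_toMonoidHom, MulAut.conj_apply, inv_inv]
    have : g * (g⁻¹ * y * g) * g⁻¹ = y := by group
    rw [this]; exact hy
  · intro h
    refine ⟨g * x * g⁻¹, h, ?_⟩
    simp only [MulEquiv.coe_toMonoidHom, MulAut.conj_apply, inv_inv]
    group

theorem card_subgroupConjRight {G : Type*} [Group G] (g : G) (X : Subgroup G) :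
    Nat.card ↥(Cfsg.subgroupConjRight g X) = Nat.card ↥X := by
  unfold Cfsg.subgroupConjRight
  exact Subgroup.card_map_of_injective (MulAut.conj g⁻¹).injective

theorem subgroupConjRight_inf {G : Type*} [Group G] (g : G) (X Y : Subgroup G) :
    Cfsg.subgroupConjRight g (X ⊓ Y) = Cfsg.subgroupConjRight g X ⊓ Cfsg.subgroupConjRight g Y := by
  ext x
  simp only [mem_subgroupConjRight, Subgroup.mem_inf]

theorem subgroupConjRight_mul {G : Type*} [Group G] (g h : G) (X : Subgroup G) :
    Cfsg.subgroupConjRight h (Cfsg.subgroupConjRight g X) = Cfsg.subgroupConjRight (g * h) X := by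
  ext x
  simp only [mem_subgroupConjRight]
  have : g * (h * x * h⁻¹) * g⁻¹ = g * h * x * (g * h)⁻¹ := by group
  rw [this]

theorem subgroupConjRight_one {G : Type*} [Group G] (X : Subgroup G) :
    Cfsg.subgroupConjRight 1 X = X := by
  ext x
  simp only [mem_subgroupConjRight, one_mul, inv_one, mul_one]

theorem subgroupConjRight_of_mem {G : Type*} [Group G] (g : G) (X : Subgroup G) (hg : g ∈ X) :
    Cfsg.subgroupConjRight g X = X := by
  ext x
  simp only [mem_subgroupConjRight]
  constructor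
  · intro h
    have : x = g⁻¹ * (g * x * g⁻¹) * g := by group
    rw [this]
    exact X.mul_mem (X.mul_mem (X.inv_mem hg) h) hg
  · intro h
    exact X.mul_mem (X.mul_mem hg h) (X.inv_mem hg)

/-- Conjugation transports Sylow members. -/
theorem sylowMembers_conj {G : Type*} [Group G] [Finite G] {p : ℕ} [Fact p.Prime]
    (𝓕 : Set (Subgroup G)) (h𝓕 : Cfsg.IsNormalSet 𝓕) (Q X : Subgroup G) (g : G)
    (h : X ∈ Cfsg.sylowMembers p 𝓕 Q) :
    Cfsg.subgroupConjRight g X ∈ Cfsg.sylowMembers p 𝓕 (Cfsg.subgroupConjRight g Q) := by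
  obtain ⟨hX, hP⟩ := h
  refine ⟨h𝓕 X hX g, ?_⟩
  rw [sylowMember_iff] at hP ⊢
  rw [← subgroupConjRight_inf, card_subgroupConjRight, card_subgroupConjRight]
  exact hP

end Cfsg.Agent.helper15
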