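import Mathlib
import Cfsg.Prelude.Def_SylowControl
import Cfsg.Agent.Lib_helper15_SylCtl

set_option autoImplicit false

namespace Cfsg.Agent.helper15

theorem conjRight_subset_iff {G : Type*} [Group G] (w : G) (A B : Set G) :
    Cfsg.conjRight w A ⊆ B ↔ ∀ a ∈ A, w⁻¹ * a * w ∈ B := by
  unfold Cfsg.conjRight
  rw [Set.image_subset_iff]
  rfl

theorem list_prod_map_conj {G : Type*} [Group G] (a : G) (L : List G) :
    (L.map (fun z => a * z * a⁻¹)).prod = a * L.prod * a⁻¹ := by
  induction L with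
  | nil => simp
  | cons z L ih =>
    rw [List.map_cons, List.prod_cons, List.prod_cons, ih]
    group

theorem subgroupConjRight_of_mem_normalizer {G : Type*} [Group G] (g : G) (S : Subgroup G)
    (hg : g ∈ Subgroup.normalizer (S : Set G)) : Cfsg.subgroupConjRight g S = S := by
  ext x
  rw [mem_subgroupConjRight]
  exact ((Subgroup.mem_normalizer_iff.1 hg) x).symm

theorem mem_normalizer_of_subgroupConjRight_eq {G : Type*} [Group G] (g : G) (S : Subgroup G)
    (h : Cfsg.subgroupConjRight g S = S) : g ∈ Subgroup.normalizer (S : Set G) := by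
  rw [Subgroup.mem_normalizer_iff]
  intro n
  rw [← mem_subgroupConjRight, h]

theorem coe_smul_sylow {G : Type*} [Group G] {p : ℕ} (g : G) (S : Sylow p G) :
    ((g • S : Sylow p G) : Subgroup G) = Cfsg.subgroupConjRight g⁻¹ (S : Subgroup G) := by
  rw [Sylow.coe_subgroup_smul]
  ext x
  rw [mem_subgroupConjRight, Subgroup.mem_smul_pointwise_iff_exists]
  constructor
  · rintro ⟨s, hs, rfl⟩
    have : g⁻¹ * (MulAut.conj g • s) * g⁻¹⁻¹ = s := by
      show g⁻¹ * (g * s * g⁻¹) * g⁻¹⁻¹ = s
      group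
    rw [this]; exact hs
  · intro h
    refine ⟨_, h, ?_⟩
    show g * (g⁻¹ * x * g⁻¹⁻¹) * g⁻¹ = x
    group

/-- From a factorization to a chain of Sylow subgroups. -/
theorem fact_to_chain {G : Type*} [Group G] [Finite G] {p : ℕ} [Fact p.Prime]
    (𝓕 : Set (Subgroup G)) (h𝓕 : Cfsg.IsNormalSet 𝓕) (A : Set G) :
    ∀ (n : ℕ) (S : Sylow p G) (Y : Fin n → Subgroup G) (y : Fin n → G),
      (∀ i, Y i ∈ Cfsg.sylowMembers p 𝓕 (S : Subgroup G) ∧ y i ∈ Y i) →
      (∀ i : Fin n, ∀ a ∈ A, ((List.ofFn y).take (i.val + 1)).prod⁻¹ * a *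
          ((List.ofFn y).take (i.val + 1)).prod ∈ (S : Subgroup G) ⊓ Y i) →
      ∃ (c : Fin (n + 1) → Sylow p G) (X : Fin n → Subgroup G) (x : Fin n → G),
        c 0 = S ∧
        ((c (Fin.last n) : Sylow p G) : Subgroup G) =
          Cfsg.subgroupConjRight ((List.ofFn y).prod)⁻¹ (S : Subgroup G) ∧
        ∀ i : Fin n,
          X i ∈ Cfsg.sylowMembers p 𝓕 (c i.castSucc : Subgroup G) ∧
          X i ∈ Cfsg.sylowMembers p 𝓕 (c i.succ : Subgroup G) ∧
          x i ∈ X i ∧
          Cfsg.subgroupConjRight (x i) (c i.succ : Subgroup G) = (c i.castSucc : Subgroup G) ∧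
          ∀ a ∈ A, a ∈ (c i.succ : Subgroup G) ⊓ X i := by
  intro n
  induction n with
  | zero =>
    intro S Y y _ _
    refine ⟨fun _ => S, Fin.elim0, Fin.elim0, rfl, ?_, fun i => i.elim0⟩
    simp only [List.ofFn_zero, List.prod_nil, inv_one]
    exact (subgroupConjRight_one _).symm
  | succ n ih =>
    intro S Y y hY hA
    have hS' : ((y 0 • S : Sylow p G) : Subgroup G) =
        Cfsg.subgroupConjRight (y 0)⁻¹ (S : Subgroup G) := coe_smul_sylow _ _
    have hofn : List.ofFn (fun j : Fin n => y 0 * y j.succ * (y 0)⁻¹) =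
        (List.ofFn (fun j : Fin n => y j.succ)).map (fun z => y 0 * z * (y 0)⁻¹) := by
      rw [List.map_ofFn]; rfl
    obtain ⟨c', X', x', h0, hlast, hstep⟩ := ih (y 0 • S)
      (fun j => Cfsg.subgroupConjRight (y 0)⁻¹ (Y j.succ))
      (fun j => y 0 * y j.succ * (y 0)⁻¹)
      (by
        intro j
        refine ⟨?_, ?_⟩
        · rw [hS']
          exact sylowMembers_conj 𝓕 h𝓕 _ _ _ (hY j.succ).1
        · rw [mem_subgroupConjRight]
          have : (y 0)⁻¹ * (y 0 * y j.succ * (y 0)⁻¹) * (y 0)⁻¹⁻¹ = y j.succ := by group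
          rw [this]; exact (hY j.succ).2)
      (by
        intro j a ha
        have h1 := hA j.succ a ha
        rw [List.ofFn_succ] at h1
        have hval : (j.succ : Fin (n + 1)).val + 1 = (j.val + 1) + 1 := by simp
        rw [hval, List.take_succ_cons, List.prod_cons] at h1
        rw [hofn, ← List.map_take, list_prod_map_conj, hS', ← subgroupConjRight_inf,
          mem_subgroupConjRight]
        have : ∀ r : G, (y 0)⁻¹ * ((y 0 * r * (y 0)⁻¹)⁻¹ * a * (y 0 * r * (y 0)⁻¹)) * (y 0)⁻¹⁻¹
            = (y 0 * r)⁻¹ * a * (y 0 * r) := by intro r; group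
        rw [this]
        exact h1)
    refine ⟨Fin.cons S c', Fin.cons (Y 0) X', Fin.cons (y 0) x', rfl, ?_, ?_⟩
    · rw [← Fin.succ_last, Fin.cons_succ, hlast, hS', subgroupConjRight_mul, hofn,
        list_prod_map_conj, List.ofFn_succ, List.prod_cons]
      congr 1
      group
    · intro i
      refine Fin.cases ?_ ?_ i
      · -- i = 0
        have hc1 : ((Fin.cons S c' : Fin (n + 1 + 1) → Sylow p G) (Fin.succ 0) : Subgroup G) =
            Cfsg.subgroupConjRight (y 0)⁻¹ (S : Subgroup G) := by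
          rw [Fin.cons_succ, h0, hS']
        have hA0 := hA 0
        simp only [Fin.val_zero, zero_add, List.ofFn_succ, List.take_succ_cons, List.take_zero,
          List.prod_cons, List.prod_nil, mul_one] at hA0
        refine ⟨?_, ?_, ?_, ?_, ?_⟩
        · exact (hY 0).1
        · rw [Fin.cons_zero, hc1]
          have := sylowMembers_conj 𝓕 h𝓕 _ _ (y 0)⁻¹ (hY 0).1
          rwa [subgroupConjRight_of_mem _ _ ((Y 0).inv_mem (hY 0).2)] at this
        · exact (hY 0).2
        · rw [hc1, Fin.cons_zero, subgroupConjRight_mul, inv_mul_cancel, subgroupConjRight_one]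
          rfl
        · intro a ha
          have h2 := hA0 a ha
          rw [hc1, Fin.cons_zero]
          refine Subgroup.mem_inf.2 ⟨?_, ?_⟩
          · rw [mem_subgroupConjRight, inv_inv]
            exact (Subgroup.mem_inf.1 h2).1
          · have : a = y 0 * ((y 0)⁻¹ * a * y 0) * (y 0)⁻¹ := by group
            rw [this]
            exact (Y 0).mul_mem ((Y 0).mul_mem (hY 0).2 (Subgroup.mem_inf.1 h2).2)
              ((Y 0).inv_mem (hY 0).2)
      · intro j
        obtain ⟨hs1, hs2, hs3, hs4, hs5⟩ := hstep j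
        have e1 : (Fin.cons S c' : Fin (n + 1 + 1) → Sylow p G) (j.succ).castSucc =
            c' j.castSucc := by
          rw [← Fin.succ_castSucc, Fin.cons_succ]
        have e2 : (Fin.cons S c' : Fin (n + 1 + 1) → Sylow p G) (j.succ).succ =
            c' j.succ := by
          rw [Fin.cons_succ]
        rw [e1, e2, Fin.cons_succ, Fin.cons_succ]
        exact ⟨hs1, hs2, hs3, hs4, hs5⟩

end Cfsg.Agent.helper15
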