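import Mathlib.GroupTheory.Sylow

set_option autoImplicit false

namespace Cfsg.Agent.helper15

variable {G : Type*} [Group G]

/-- A `p`-subgroup `Q` of a subgroup `K` containing the Sylow subgroup `P` of `G` can be conjugated
into `P` by an element of `K`. -/
theorem exists_conj_mem_sylow_of_le [Finite G] {p : ℕ} [Fact p.Prime] (P : Sylow p G)
    (K : Subgroup G) (hPK : (P : Subgroup G) ≤ K) (Q : Subgroup G) (hQ : IsPGroup p ↥Q)
    (hQK : Q ≤ K) : ∃ m ∈ K, ∀ q ∈ Q, m * q * m⁻¹ ∈ (P : Subgroup G) := by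
  set P' : Sylow p ↥K := P.subtype hPK with hP'
  have hQ' : IsPGroup p ↥(Q.subgroupOf K) := hQ.comap_subtype
  obtain ⟨S, hS⟩ := hQ'.exists_le_sylow
  obtain ⟨m, hm⟩ := MulAction.exists_smul_eq ↥K S P'
  refine ⟨(m : G), m.2, ?_⟩
  intro q hq
  have h1 : (⟨q, hQK hq⟩ : ↥K) ∈ (S : Subgroup ↥K) := hS (Subgroup.mem_subgroupOf.2 hq)
  have h2 : m * ⟨q, hQK hq⟩ * m⁻¹ ∈ ((m • S : Sylow p ↥K) : Subgroup ↥K) := by
    rw [Sylow.coe_subgroup_smul]
    have := Subgroup.smul_mem_pointwise_smul _ (MulAut.conj m) (S : Subgroup ↥K) h1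
    simpa [MulAut.smul_def] using this
  rw [hm, hP', Sylow.coe_subtype, Subgroup.mem_subgroupOf] at h2
  simpa using h2

/-- A `p`-subgroup `Q` of `P N`, with `P` Sylow in `G` and `N` normal, can be conjugated into `P`
by an element of `N`. -/
theorem exists_conj_mem_sylow_of_le_sup_normal [Finite G] {p : ℕ} [Fact p.Prime] (P : Sylow p G)
    (N : Subgroup G) [N.Normal] (Q : Subgroup G) (hQ : IsPGroup p ↥Q)
    (hQK : Q ≤ (P : Subgroup G) ⊔ N) : ∃ n ∈ N, ∀ q ∈ Q, n * q * n⁻¹ ∈ (P : Subgroup G) := by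
  obtain ⟨m, hm, hmq⟩ := exists_conj_mem_sylow_of_le P ((P : Subgroup G) ⊔ N) le_sup_left Q hQ hQK
  obtain ⟨z, hz, n, hn, rfl⟩ := Subgroup.mem_sup_of_normal_right.1 hm
  refine ⟨n, hn, ?_⟩
  intro q hq
  have h := hmq q hq
  have e : n * q * n⁻¹ = z⁻¹ * (z * n * q * (z * n)⁻¹) * z := by group
  rw [e]
  exact Subgroup.mul_mem _ (Subgroup.mul_mem _ (Subgroup.inv_mem _ hz) h) hz

/-- If `w` commutes with `y` then `w` normalizes the cyclic subgroup generated by `y`. -/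
theorem mem_normalizer_zpowers_of_commute {w y : G} (h : Commute w y) :
    w ∈ Subgroup.normalizer ((Subgroup.zpowers y : Subgroup G) : Set G) := by
  rw [Subgroup.mem_normalizer_iff]
  intro z
  constructor
  · rintro ⟨k, rfl⟩
    refine ⟨k, ?_⟩
    have := (h.zpow_right k).eq
    show y ^ k = w * y ^ k * w⁻¹
    rw [this, mul_inv_cancel_right]
  · rintro ⟨k, hk⟩
    refine ⟨k, ?_⟩
    have hk' : y ^ k = w * z * w⁻¹ := hk
    have := (h.zpow_right k).eq
    have e : z = w⁻¹ * (w * z * w⁻¹) * w := by group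
    show y ^ k = z
    rw [e, ← hk', mul_assoc, ← this, inv_mul_cancel_left]

end Cfsg.Agent.helper15
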