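import Mathlib
import Cfsg.Prelude.Def_SylowChains
import Cfsg.Agent.Lib_helper15_SylCtl2
import Cfsg.Agent.Lib_helper15_Sylow

set_option autoImplicit false

namespace Cfsg.Agent.helper15

/-- Adjacency in the Sylow intersection graph. -/
def SylAdj {G : Type*} [Group G] {p : ℕ} (S T : Sylow p G) : Prop :=
  S ≠ T ∧ (S : Subgroup G) ⊓ (T : Subgroup G) ≠ ⊥

/-- Connectedness in the Sylow intersection graph. -/
def SylConn {G : Type*} [Group G] {p : ℕ} (S T : Sylow p G) : Prop :=
  Relation.ReflTransGen SylAdj S T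

theorem SylAdj.symm {G : Type*} [Group G] {p : ℕ} {S T : Sylow p G} (h : SylAdj S T) :
    SylAdj T S := ⟨h.1.symm, by rw [inf_comm]; exact h.2⟩

theorem SylAdj.smul {G : Type*} [Group G] {p : ℕ} {S T : Sylow p G} (g : G) (h : SylAdj S T) :
    SylAdj (g • S) (g • T) := by
  refine ⟨fun he => h.1 ((smul_left_cancel_iff g).1 he), ?_⟩
  rw [coe_smul_sylow, coe_smul_sylow, ← subgroupConjRight_inf]
  unfold Cfsg.subgroupConjRight
  intro hbot
  rw [Subgroup.map_eq_bot_iff_of_injective _ (MulAut.conj g⁻¹⁻¹).injective] at hbot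
  exact h.2 hbot

theorem SylConn.refl {G : Type*} [Group G] {p : ℕ} (S : Sylow p G) : SylConn S S :=
  Relation.ReflTransGen.refl

theorem SylConn.trans {G : Type*} [Group G] {p : ℕ} {S T U : Sylow p G} (h1 : SylConn S T)
    (h2 : SylConn T U) : SylConn S U := Relation.ReflTransGen.trans h1 h2

theorem SylConn.symm {G : Type*} [Group G] {p : ℕ} {S T : Sylow p G} (h : SylConn S T) :
    SylConn T S := by
  induction h with
  | refl => exact Relation.ReflTransGen.refl
  | tail _ hbc ih => exact Relation.ReflTransGen.head (SylAdj.symm hbc) ih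

theorem SylConn.smul {G : Type*} [Group G] {p : ℕ} {S T : Sylow p G} (g : G) (h : SylConn S T) :
    SylConn (g • S) (g • T) := by
  induction h with
  | refl => exact Relation.ReflTransGen.refl
  | tail _ hbc ih => exact Relation.ReflTransGen.tail ih (SylAdj.smul g hbc)

theorem SylConn.of_mem {G : Type*} [Group G] {p : ℕ} {S T : Sylow p G} (x : G) (hx : x ≠ 1)
    (hS : x ∈ (S : Subgroup G)) (hT : x ∈ (T : Subgroup G)) : SylConn S T := by
  by_cases h : S = T
  · rw [h]; exact SylConn.refl _
  · refine Relation.ReflTransGen.single ⟨h, ?_⟩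
    intro hbot
    have : x ∈ (S : Subgroup G) ⊓ (T : Subgroup G) := Subgroup.mem_inf.2 ⟨hS, hT⟩
    rw [hbot, Subgroup.mem_bot] at this
    exact hx this

theorem sylConn_of_chain {G : Type*} [Group G] {p : ℕ} (n : ℕ) (c : Fin (n + 1) → Sylow p G)
    (h : ∀ i : Fin n, c i.castSucc ≠ c i.succ ∧
      (c i.castSucc : Subgroup G) ⊓ (c i.succ : Subgroup G) ≠ ⊥) :
    SylConn (c 0) (c (Fin.last n)) := by
  have hall : ∀ i : Fin (n + 1), SylConn (c 0) (c i) := by
    intro i
    induction i using Fin.induction with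
    | zero => exact SylConn.refl _
    | succ i ih => exact Relation.ReflTransGen.tail ih (h i)
  exact hall _

theorem chain_of_sylConn {G : Type*} [Group G] {p : ℕ} {S T : Sylow p G} (h : SylConn S T) :
    ∃ (n : ℕ) (c : Fin (n + 1) → Sylow p G), c 0 = S ∧ c (Fin.last n) = T ∧
      ∀ i : Fin n, c i.castSucc ≠ c i.succ ∧
        (c i.castSucc : Subgroup G) ⊓ (c i.succ : Subgroup G) ≠ ⊥ := by
  induction h using Relation.ReflTransGen.head_induction_on with
  | refl => exact ⟨0, fun _ => T, rfl, rfl, fun i => i.elim0⟩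
  | @head a b hadj _ ih =>
    obtain ⟨n, c, h0, hlast, hstep⟩ := ih
    refine ⟨n + 1, Fin.cons a c, rfl, ?_, ?_⟩
    · rw [← Fin.succ_last, Fin.cons_succ, hlast]
    · intro i
      refine Fin.cases ?_ ?_ i
      · have e1 : (Fin.cons a c : Fin (n + 1 + 1) → Sylow p G) (Fin.castSucc 0) = a := rfl
        have e2 : (Fin.cons a c : Fin (n + 1 + 1) → Sylow p G) (Fin.succ 0) = b := by
          rw [Fin.cons_succ, h0]
        rw [e1, e2]
        exact hadj
      · intro j
        have e1 : (Fin.cons a c : Fin (n + 1 + 1) → Sylow p G) (j.succ).castSucc =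
            c j.castSucc := by
          rw [← Fin.succ_castSucc, Fin.cons_succ]
        rw [e1, Fin.cons_succ]
        exact hstep j

theorem isSylowChainConnected_iff {G : Type*} [Group G] (p : ℕ) :
    Cfsg.IsSylowChainConnected p G ↔ ∀ S T : Sylow p G, SylConn S T := by
  constructor
  · intro h S T
    obtain ⟨n, c, h0, hlast, _, hstep⟩ := h S T
    rw [← h0, ← hlast]
    exact sylConn_of_chain n c hstep
  · intro h S T
    by_cases hST : S = T
    · subst hST
      exact ⟨0, fun _ => S, rfl, rfl, fun _ => inf_le_left, fun i => i.elim0⟩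
    by_cases hmeet : (S : Subgroup G) ⊓ (T : Subgroup G) = ⊥
    · obtain ⟨n, c, h0, hlast, hstep⟩ := chain_of_sylConn (h S T)
      refine ⟨n, c, h0, hlast, ?_, hstep⟩
      intro i
      rw [hmeet]; exact bot_le
    · refine ⟨1, Fin.cons S (fun _ => T), rfl, rfl, ?_, ?_⟩
      · intro i
        refine Fin.cases ?_ ?_ i
        · exact inf_le_left
        · intro j; exact inf_le_right
      · intro i
        have hi : i = 0 := Subsingleton.elim _ _
        subst hi
        exact ⟨hST, hmeet⟩

/-- The stabilizer of the component of `S`. -/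
def sylCompStab {G : Type*} [Group G] {p : ℕ} (S : Sylow p G) : Subgroup G where
  carrier := {g | SylConn (g • S) S}
  one_mem' := by
    show SylConn ((1 : G) • S) S
    rw [one_smul]; exact SylConn.refl _
  mul_mem' := by
    intro a b ha hb
    show SylConn ((a * b) • S) S
    rw [mul_smul]
    exact SylConn.trans (SylConn.smul a hb) ha
  inv_mem' := by
    intro a ha
    show SylConn (a⁻¹ • S) S
    have := SylConn.smul a⁻¹ ha
    rw [inv_smul_smul] at this
    exact this.symm

theorem mem_sylCompStab {G : Type*} [Group G] {p : ℕ} (S : Sylow p G) (g : G) :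
    g ∈ sylCompStab S ↔ SylConn (g • S) S := Iff.rfl

theorem le_sylCompStab {G : Type*} [Group G] {p : ℕ} (S : Sylow p G) :
    (S : Subgroup G) ≤ sylCompStab S := by
  intro s hs
  rw [mem_sylCompStab]
  have : s • S = S := Sylow.smul_eq_iff_mem_normalizer.2 (Subgroup.le_normalizer hs)
  rw [this]; exact SylConn.refl _

/-- Every `p`-element of the stabilizer lies in a Sylow subgroup in the component of `S`. -/
theorem exists_sylConn_of_mem_sylCompStab {G : Type*} [Group G] [Finite G] {p : ℕ} [Fact p.Prime]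
    (S : Sylow p G) (x : G) (hx : x ∈ sylCompStab S) (hxp : IsPGroup p (Subgroup.zpowers x)) :
    ∃ S₁ : Sylow p G, SylConn S₁ S ∧ x ∈ (S₁ : Subgroup G) := by
  obtain ⟨m, hm, hmq⟩ := exists_conj_mem_sylow_of_le S (sylCompStab S) (le_sylCompStab S)
    (Subgroup.zpowers x) hxp ((Subgroup.zpowers_le).2 hx)
  refine ⟨m⁻¹ • S, (mem_sylCompStab S _).1 (inv_mem hm), ?_⟩
  rw [coe_smul_sylow, mem_subgroupConjRight, inv_inv]
  exact hmq x (Subgroup.mem_zpowers x)

end Cfsg.Agent.helper15
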