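import Mathlib
import Cfsg.Prelude.Def_SylowChains
import Cfsg.Agent.Lib_helper15_SylGraph
import Cfsg.Agent.Lib_helper14_SPE3
import Cfsg.Agent.Lib_helper15_Isolated

set_option autoImplicit false

namespace Cfsg.Agent.helper15

open Cfsg.Agent.helper14

theorem coe_smul_sylow' {G : Type*} [Group G] {p : ℕ} (g : G) (S : Sylow p G) :
    ((g • S : Sylow p G) : Subgroup G) = (S : Subgroup G).map (MulAut.conj g).toMonoidHom := by
  rw [coe_smul_sylow]
  unfold Cfsg.subgroupConjRight
  rw [inv_inv]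

theorem dvd_card_of_le_of_isPGroup {G : Type*} [Group G] [Finite G] {p : ℕ} [Fact p.Prime]
    (R K : Subgroup G) (hR : IsPGroup p R) (hne : R ≠ ⊥) (hle : R ≤ K) : p ∣ Nat.card K :=
  dvd_trans (dvd_card_of_isPGroup_ne_bot R hR hne) (Subgroup.card_dvd_of_le hle)

/-- The classical strongly `p`-embedded property. -/
def IsClassicalSPE {G : Type*} [Group G] (p : ℕ) (H : Subgroup G) : Prop :=
  H ≠ ⊤ ∧ p ∣ Nat.card H ∧
    ∀ g : G, g ∉ H → ¬ p ∣ Nat.card ↥(H ⊓ H.map (MulAut.conj g).toMonoidHom)

/-- If `S` and `T` are not connected, the stabilizer of the component of `S` is strongly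
`p`-embedded in the classical sense. -/
theorem isClassicalSPE_sylCompStab {G : Type*} [Group G] [Finite G] {p : ℕ} [Fact p.Prime]
    (S T : Sylow p G) (h : ¬ SylConn S T) : IsClassicalSPE p (sylCompStab S) := by
  have hST : S ≠ T := by
    intro he; apply h; rw [he]; exact SylConn.refl _
  have hSne : (S : Subgroup G) ≠ ⊥ := by
    intro hbot
    apply hST
    apply Sylow.ext
    have hc : Nat.card (T : Subgroup G) = Nat.card (S : Subgroup G) := by
      rw [T.card_eq_multiplicity, S.card_eq_multiplicity]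
    rw [hbot, Subgroup.card_bot, Subgroup.card_eq_one] at hc
    rw [hbot, hc]
  refine ⟨?_, ?_, ?_⟩
  · intro htop
    obtain ⟨g, hg⟩ := MulAction.exists_smul_eq G S T
    have : g ∈ sylCompStab S := by rw [htop]; trivial
    rw [mem_sylCompStab, hg] at this
    exact h this.symm
  · exact dvd_card_of_le_of_isPGroup _ _ S.isPGroup' hSne (le_sylCompStab S)
  · intro g hg hdvd
    obtain ⟨x, hx⟩ := exists_prime_orderOf_dvd_card' p hdvd
    have hx1 : x ≠ 1 := by
      intro h1
      rw [h1, orderOf_one] at hx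
      exact (Fact.out : p.Prime).one_lt.ne hx
    have hxp : IsPGroup p (Subgroup.zpowers (x : G)) := by
      apply isPGroup_zpowers_of_orderOf
      exact ⟨1, by rw [Subgroup.orderOf_coe, hx, pow_one]⟩
    have hxH := (Subgroup.mem_inf.1 x.2).1
    have hxH' := (Subgroup.mem_inf.1 x.2).2
    obtain ⟨h', hh', hh'x⟩ := Subgroup.mem_map.1 hxH'
    simp only [MulEquiv.coe_toMonoidHom, MulAut.conj_apply] at hh'x
    have hh'p : IsPGroup p (Subgroup.zpowers h') := by
      apply isPGroup_zpowers_of_orderOf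
      refine ⟨1, ?_⟩
      rw [pow_one, ← hx, ← Subgroup.orderOf_coe, ← hh'x, ← MulAut.conj_apply,
        MulEquiv.orderOf_eq]
    obtain ⟨S₁, hS₁, hxS₁⟩ := exists_sylConn_of_mem_sylCompStab S (x : G) hxH hxp
    obtain ⟨S₂, hS₂, hxS₂⟩ := exists_sylConn_of_mem_sylCompStab S h' hh' hh'p
    have hxS₂' : (x : G) ∈ ((g • S₂ : Sylow p G) : Subgroup G) := by
      rw [coe_smul_sylow']
      exact Subgroup.mem_map.2 ⟨h', hxS₂, by
        simp only [MulEquiv.coe_toMonoidHom, MulAut.conj_apply]; exact hh'x⟩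
    have hx1' : (x : G) ≠ 1 := by
      intro h1; apply hx1; exact Subtype.ext h1
    have c1 : SylConn S₁ (g • S₂) := SylConn.of_mem (x : G) hx1' hxS₁ hxS₂'
    have c2 : SylConn (g • S₂) (g • S) := SylConn.smul g hS₂
    apply hg
    rw [mem_sylCompStab]
    exact (c2.symm.trans (c1.symm.trans hS₁))

/-- A classical strongly `p`-embedded subgroup contains a Sylow `p`-subgroup `S` of `G` and every
Sylow subgroup connected to `S`. -/
theorem exists_sylow_le_of_isClassicalSPE {G : Type*} [Group G] [Finite G] {p : ℕ} [Fact p.Prime]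
    (H : Subgroup G) (hH : IsClassicalSPE p H) :
    ∃ S : Sylow p G, (S : Subgroup G) ≤ H ∧ (S : Subgroup G) ≠ ⊥ ∧
      ∀ T : Sylow p G, SylConn S T → (T : Subgroup G) ≤ H := by
  obtain ⟨hne, hdvd, hspe⟩ := hH
  obtain ⟨P₀⟩ : Nonempty (Sylow p H) := inferInstance
  have hP₀ne : (P₀ : Subgroup H) ≠ ⊥ := P₀.ne_bot_of_dvd_card hdvd
  have hQne : (P₀ : Subgroup H).map H.subtype ≠ ⊥ := by
    intro hbot
    rw [Subgroup.map_eq_bot_iff_of_injective _ H.subtype_injective] at hbot
    exact hP₀ne hbot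
  have hQp : IsPGroup p ((P₀ : Subgroup H).map H.subtype) := P₀.isPGroup'.map _
  have hQH : (P₀ : Subgroup H).map H.subtype ≤ H := Subgroup.map_subtype_le _
  have hN : Subgroup.normalizer ((((P₀ : Subgroup H).map H.subtype : Subgroup G)) : Set G) ≤ H := by
    intro g hg
    by_contra hgH
    apply hspe g hgH
    apply dvd_card_of_le_of_isPGroup _ _ hQp hQne
    refine le_inf hQH ?_
    intro q hq
    have hginv := inv_mem hg
    have h1 := (Subgroup.mem_normalizer_iff.1 hginv q).1 hq
    rw [inv_inv] at h1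
    refine Subgroup.mem_map.2 ⟨g⁻¹ * q * g, hQH h1, ?_⟩
    simp only [MulEquiv.coe_toMonoidHom, MulAut.conj_apply]
    group
  obtain ⟨S, hS⟩ := sylow_of_normalizer_le H P₀ hN
  refine ⟨S, by rw [hS]; exact hQH, by rw [hS]; exact hQne, ?_⟩
  intro T hT
  induction hT with
  | refl => rw [hS]; exact hQH
  | @tail U V _ hadj ih =>
    obtain ⟨k, hk⟩ := MulAction.exists_smul_eq G U V
    have hV : (V : Subgroup G) = (U : Subgroup G).map (MulAut.conj k).toMonoidHom := by
      rw [← hk]; exact coe_smul_sylow' _ _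
    have hkH : k ∈ H := by
      by_contra hkH
      apply hspe k hkH
      apply dvd_card_of_le_of_isPGroup ((U : Subgroup G) ⊓ (V : Subgroup G)) _
        (U.isPGroup'.to_le inf_le_left) hadj.2
      refine inf_le_inf ih ?_
      rw [hV]
      exact Subgroup.map_mono ih
    rw [hV]
    intro x hx
    obtain ⟨u, hu, rfl⟩ := Subgroup.mem_map.1 hx
    simp only [MulEquiv.coe_toMonoidHom, MulAut.conj_apply]
    exact H.mul_mem (H.mul_mem hkH (ih hu)) (H.inv_mem hkH)

/-- Not chain connected iff there is a classical strongly `p`-embedded subgroup. -/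
theorem not_isSylowChainConnected_iff {G : Type*} [Group G] [Finite G] (p : ℕ) [Fact p.Prime] :
    ¬ Cfsg.IsSylowChainConnected p G ↔ ∃ H : Subgroup G, IsClassicalSPE p H := by
  rw [isSylowChainConnected_iff]
  constructor
  · intro h
    push Not at h
    obtain ⟨S, T, hST⟩ := h
    exact ⟨_, isClassicalSPE_sylCompStab S T hST⟩
  · rintro ⟨H, hH⟩ hconn
    obtain ⟨S, hSH, hSne, hall⟩ := exists_sylow_le_of_isClassicalSPE H hH
    obtain ⟨hne, _, hspe⟩ := hH
    have : ∃ g, g ∉ H := by
      by_contra hcon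
      push Not at hcon
      exact hne (eq_top_iff.2 fun g _ => hcon g)
    obtain ⟨g, hg⟩ := this
    apply hspe g hg
    have hT := hall (g • S) (hconn S (g • S))
    rw [coe_smul_sylow'] at hT
    have hne' : (S : Subgroup G).map (MulAut.conj g).toMonoidHom ≠ ⊥ := by
      intro hbot
      rw [Subgroup.map_eq_bot_iff_of_injective _ (MulAut.conj g).injective] at hbot
      exact hSne hbot
    exact dvd_card_of_le_of_isPGroup _ _ (S.isPGroup'.map _) hne'
      (le_inf hT (Subgroup.map_mono hSH))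

end Cfsg.Agent.helper15
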