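import Mathlib
import Cfsg.Agent.Lib_helper15_ExtClosed
import Cfsg.Agent.Lib_helper15_SylGraph2
import Cfsg.Agent.Lib_helper1_Core

set_option autoImplicit false

namespace Cfsg.Agent.helper15

/-- A conjugation invariant set any two elements of which generate a `p`-group. -/
structure BSData (p : ℕ) {G : Type*} [Group G] (C : Set G) : Prop where
  conj : ∀ g : G, ∀ c ∈ C, g * c * g⁻¹ ∈ C
  pair : ∀ y ∈ C, ∀ z ∈ C, IsPGroup p ↥(Subgroup.closure ({y, z} : Set G))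

theorem BSData.inter_smul {p : ℕ} {G : Type*} [Group G] {C : Set G} (hC : BSData p C)
    (P : Sylow p G) (g : G) :
    C ∩ (((g • P : Sylow p G) : Subgroup G) : Set G) =
      (fun c => g * c * g⁻¹) '' (C ∩ ((P : Subgroup G) : Set G)) := by
  ext c
  constructor
  · rintro ⟨hcC, hcP⟩
    rw [SetLike.mem_coe, coe_smul_sylow'] at hcP
    obtain ⟨s, hs, hsc⟩ := Subgroup.mem_map.1 hcP
    simp only [MulEquiv.coe_toMonoidHom, MulAut.conj_apply] at hsc
    refine ⟨s, ⟨?_, hs⟩, hsc⟩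
    have : s = g⁻¹ * c * g⁻¹⁻¹ := by rw [← hsc]; group
    rw [this]
    exact hC.conj g⁻¹ c hcC
  · rintro ⟨s, ⟨hsC, hsP⟩, rfl⟩
    refine ⟨hC.conj g s hsC, ?_⟩
    rw [SetLike.mem_coe, coe_smul_sylow']
    exact Subgroup.mem_map.2 ⟨s, hsP, by simp only [MulEquiv.coe_toMonoidHom, MulAut.conj_apply]⟩

theorem BSData.ncard_inter {p : ℕ} [Fact p.Prime] {G : Type*} [Group G] [Finite G] {C : Set G}
    (hC : BSData p C) (P Q : Sylow p G) :
    (C ∩ ((P : Subgroup G) : Set G)).ncard = (C ∩ ((Q : Subgroup G) : Set G)).ncard := by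
  obtain ⟨g, hg⟩ := MulAction.exists_smul_eq G P Q
  rw [← hg, hC.inter_smul P g]
  symm
  apply Set.ncard_image_of_injective
  intro a b hab
  have h1 : g * a * g⁻¹ = g * b * g⁻¹ := hab
  exact mul_left_cancel (mul_right_cancel h1)

/-- The key step: an element of `C ∩ P` outside `Q` normalizing `⟨C ∩ P ∩ Q⟩`. -/
theorem BSData.exists_normalizing {p : ℕ} [Fact p.Prime] {G : Type*} [Group G] [Finite G]
    {C : Set G} (hC : BSData p C) (P Q : Sylow p G) (y₀ : G) (hy₀C : y₀ ∈ C)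
    (hy₀P : y₀ ∈ (P : Subgroup G)) (hy₀Q : y₀ ∉ (Q : Subgroup G)) :
    ∃ y ∈ C, y ∈ (P : Subgroup G) ∧ y ∉ (Q : Subgroup G) ∧
      y ∈ Subgroup.normalizer ((Subgroup.closure
        (C ∩ ((P : Subgroup G) : Set G) ∩ ((Q : Subgroup G) : Set G)) : Subgroup G) : Set G) := by
  set S₀ : Set G := C ∩ ((P : Subgroup G) : Set G) ∩ ((Q : Subgroup G) : Set G) with hS₀
  set D : Subgroup G := Subgroup.closure S₀ with hD
  set P₁ : Subgroup G := Subgroup.closure (C ∩ ((P : Subgroup G) : Set G)) with hP₁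
  have hDPQ : D ≤ (P : Subgroup G) ⊓ (Q : Subgroup G) := by
    rw [hD, Subgroup.closure_le]
    intro s hs
    exact Subgroup.mem_inf.2 ⟨hs.1.2, hs.2⟩
  have hP₁P : P₁ ≤ (P : Subgroup G) := by
    rw [hP₁, Subgroup.closure_le]
    intro s hs
    exact hs.2
  have hDP₁ : D ≤ P₁ := Subgroup.closure_mono (fun s hs => hs.1)
  have hP₁p : IsPGroup p ↥P₁ := P.isPGroup'.to_le hP₁P
  have hS₀D : S₀ ⊆ (D : Set G) := Subgroup.subset_closure
  let 𝒦 : Set (Subgroup G) := {K | D ≤ K ∧ K ≤ P₁ ∧ C ∩ (K : Set G) ⊆ S₀}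
  have hD𝒦 : D ∈ 𝒦 := by
    refine ⟨le_refl _, hDP₁, ?_⟩
    rintro c ⟨hcC, hcD⟩
    have := hDPQ hcD
    exact ⟨⟨hcC, (Subgroup.mem_inf.1 this).1⟩, (Subgroup.mem_inf.1 this).2⟩
  obtain ⟨K, hK𝒦, hKmax⟩ := Set.exists_max_image 𝒦 (fun K => Nat.card ↥K) (Set.toFinite _) ⟨D, hD𝒦⟩
  obtain ⟨hDK, hKP₁, hCK⟩ := hK𝒦
  have hKne : K ≠ P₁ := by
    intro heq
    have : y₀ ∈ S₀ := hCK ⟨hy₀C, by rw [heq]; exact Subgroup.subset_closure ⟨hy₀C, hy₀P⟩⟩
    exact hy₀Q this.2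
  have hK'ne : P₁ ⊓ Subgroup.normalizer (K : Set G) ≠ K := fun h =>
    hKne (eq_of_inf_normalizer_eq K P₁ hP₁p hKP₁ h)
  have hKK' : K ≤ P₁ ⊓ Subgroup.normalizer (K : Set G) := le_inf hKP₁ Subgroup.le_normalizer
  have hK'not : ¬ (C ∩ ((P₁ ⊓ Subgroup.normalizer (K : Set G) : Subgroup G) : Set G) ⊆ S₀) := by
    intro hsub
    have hmem : P₁ ⊓ Subgroup.normalizer (K : Set G) ∈ 𝒦 :=
      ⟨le_trans hDK hKK', inf_le_left, hsub⟩
    have h1 := hKmax _ hmem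
    exact hK'ne (Subgroup.eq_of_le_of_card_ge hKK' h1).symm
  rw [Set.not_subset] at hK'not
  obtain ⟨y, ⟨hyC, hyK'⟩, hyS₀⟩ := hK'not
  have hyP : y ∈ (P : Subgroup G) := hP₁P (Subgroup.mem_inf.1 hyK').1
  have hyN : y ∈ Subgroup.normalizer (K : Set G) := (Subgroup.mem_inf.1 hyK').2
  refine ⟨y, hyC, hyP, fun hyQ => hyS₀ ⟨⟨hyC, hyP⟩, hyQ⟩, ?_⟩
  apply mem_normalizer_of_map_conj_le
  rw [MonoidHom.map_closure, Subgroup.closure_le]
  rintro _ ⟨s, hs, rfl⟩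
  simp only [MulEquiv.coe_toMonoidHom, MulAut.conj_apply]
  apply Subgroup.subset_closure
  apply hCK
  refine ⟨hC.conj y s hs.1.1, ?_⟩
  exact (Subgroup.mem_normalizer_iff.1 hyN s).1 (hDK (hS₀D hs))

/-- All Sylow subgroups meet `C` in the same set. -/
theorem BSData.inter_eq {p : ℕ} [Fact p.Prime] {G : Type*} [Group G] [Finite G]
    {C : Set G} (hC : BSData p C) :
    ∀ P Q : Sylow p G, C ∩ ((P : Subgroup G) : Set G) = C ∩ ((Q : Subgroup G) : Set G) := by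
  by_contra hcon
  push Not at hcon
  obtain ⟨P₀, Q₀, hPQ₀⟩ := hcon
  let PP : Set (Sylow p G × Sylow p G) :=
    {PQ | C ∩ ((PQ.1 : Subgroup G) : Set G) ≠ C ∩ ((PQ.2 : Subgroup G) : Set G)}
  obtain ⟨⟨P, Q⟩, hPQ, hmax⟩ := Set.exists_max_image PP
    (fun PQ => (C ∩ ((PQ.1 : Subgroup G) : Set G) ∩ ((PQ.2 : Subgroup G) : Set G)).ncard)
    (Set.toFinite _) ⟨(P₀, Q₀), hPQ₀⟩
  have hPQ' : C ∩ ((P : Subgroup G) : Set G) ≠ C ∩ ((Q : Subgroup G) : Set G) := hPQ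
  have hex : ∀ P Q : Sylow p G, C ∩ ((P : Subgroup G) : Set G) ≠ C ∩ ((Q : Subgroup G) : Set G) →
      ∃ y₀ ∈ C, y₀ ∈ (P : Subgroup G) ∧ y₀ ∉ (Q : Subgroup G) := by
    intro P Q hne
    by_contra hcon
    push Not at hcon
    apply hne
    apply Set.eq_of_subset_of_ncard_le
    · rintro c ⟨hcC, hcP⟩
      exact ⟨hcC, hcon c hcC hcP⟩
    · exact le_of_eq (hC.ncard_inter Q P)
    · exact Set.toFinite _
  obtain ⟨y₀, hy₀C, hy₀P, hy₀Q⟩ := hex P Q hPQ'
  obtain ⟨z₀, hz₀C, hz₀Q, hz₀P⟩ := hex Q P hPQ'.symm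
  obtain ⟨y, hyC, hyP, hyQ, hyN⟩ := hC.exists_normalizing P Q y₀ hy₀C hy₀P hy₀Q
  obtain ⟨z, hzC, hzQ, hzP, hzN⟩ := hC.exists_normalizing Q P z₀ hz₀C hz₀Q hz₀P
  have hset : C ∩ ((Q : Subgroup G) : Set G) ∩ ((P : Subgroup G) : Set G) =
      C ∩ ((P : Subgroup G) : Set G) ∩ ((Q : Subgroup G) : Set G) := Set.inter_right_comm _ _ _
  rw [hset] at hzN
  set S₀ : Set G := C ∩ ((P : Subgroup G) : Set G) ∩ ((Q : Subgroup G) : Set G) with hS₀
  have hDp : IsPGroup p ↥(Subgroup.closure S₀) := by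
    apply P.isPGroup'.to_le
    rw [Subgroup.closure_le]
    intro s hs
    exact hs.1.2
  have hyz := hC.pair y hyC z hzC
  have hyzN : Subgroup.closure ({y, z} : Set G) ≤
      Subgroup.normalizer ((Subgroup.closure S₀ : Subgroup G) : Set G) := by
    rw [Subgroup.closure_le]
    rintro a (rfl | rfl)
    · exact hyN
    · exact hzN
  have hsup := IsPGroup.to_sup_of_normal_left' hDp hyz hyzN
  obtain ⟨R, hR⟩ := hsup.exists_le_sylow
  have hS₀R : S₀ ⊆ ((R : Subgroup G) : Set G) := fun s hs =>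
    hR (Subgroup.mem_sup_left (Subgroup.subset_closure hs))
  have hyR : y ∈ (R : Subgroup G) :=
    hR (Subgroup.mem_sup_right (Subgroup.subset_closure (by simp)))
  have hzR : z ∈ (R : Subgroup G) :=
    hR (Subgroup.mem_sup_right (Subgroup.subset_closure (by simp)))
  -- pair (P, R)
  have h1 : C ∩ ((P : Subgroup G) : Set G) = C ∩ ((R : Subgroup G) : Set G) := by
    by_contra hne
    have hle := hmax (P, R) hne
    have hlt : S₀.ncard <
        (C ∩ ((P : Subgroup G) : Set G) ∩ ((R : Subgroup G) : Set G)).ncard := by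
      apply Set.ncard_lt_ncard _ (Set.toFinite _)
      refine ⟨fun s hs => ⟨hs.1, hS₀R hs⟩, ?_⟩
      intro hsub
      exact hyQ (hsub ⟨⟨hyC, hyP⟩, hyR⟩).2
    exact absurd hle (not_le.2 hlt)
  -- pair (Q, R)
  have h2 : C ∩ ((Q : Subgroup G) : Set G) = C ∩ ((R : Subgroup G) : Set G) := by
    by_contra hne
    have hle := hmax (Q, R) hne
    have hlt : S₀.ncard <
        (C ∩ ((Q : Subgroup G) : Set G) ∩ ((R : Subgroup G) : Set G)).ncard := by
      apply Set.ncard_lt_ncard _ (Set.toFinite _)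
      refine ⟨fun s hs => ⟨⟨hs.1.1, hs.2⟩, hS₀R hs⟩, ?_⟩
      intro hsub
      exact hzP (hsub ⟨⟨hzC, hzQ⟩, hzR⟩).1.2
    exact absurd hle (not_le.2 hlt)
  exact hPQ' (h1.trans h2.symm)

/-- **Baer–Suzuki**, element form: if `x` generates a `p`-group with each of its conjugates, then
`x` lies in every Sylow `p`-subgroup. -/
theorem mem_sylow_of_baer_suzuki {p : ℕ} [Fact p.Prime] {G : Type*} [Group G] [Finite G] (x : G)
    (h : ∀ g : G, IsPGroup p ↥(Subgroup.closure ({x, g * x * g⁻¹} : Set G))) (P : Sylow p G) :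
    x ∈ (P : Subgroup G) := by
  have hC : BSData p {c : G | ∃ g : G, g * x * g⁻¹ = c} := by
    constructor
    · rintro g _ ⟨a, rfl⟩
      exact ⟨g * a, by group⟩
    · rintro _ ⟨a, rfl⟩ _ ⟨b, rfl⟩
      have hle : Subgroup.closure ({a * x * a⁻¹, b * x * b⁻¹} : Set G) ≤
          (Subgroup.closure ({x, (a⁻¹ * b) * x * (a⁻¹ * b)⁻¹} : Set G)).map
            (MulAut.conj a).toMonoidHom := by
        rw [Subgroup.closure_le]
        rintro c (rfl | rfl)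
        · exact Subgroup.mem_map.2 ⟨x, Subgroup.subset_closure (by simp), by
            simp only [MulEquiv.coe_toMonoidHom, MulAut.conj_apply]⟩
        · refine Subgroup.mem_map.2 ⟨(a⁻¹ * b) * x * (a⁻¹ * b)⁻¹,
            Subgroup.subset_closure (by simp), ?_⟩
          simp only [MulEquiv.coe_toMonoidHom, MulAut.conj_apply]
          group
      exact ((h (a⁻¹ * b)).map _).to_le hle
  have hxp : IsPGroup p ↥(Subgroup.zpowers x) := by
    apply (h 1).to_le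
    rw [Subgroup.zpowers_le]
    exact Subgroup.subset_closure (by simp)
  obtain ⟨P₀, hP₀⟩ := hxp.exists_le_sylow
  have hx0 : x ∈ {c : G | ∃ g : G, g * x * g⁻¹ = c} ∩ ((P₀ : Subgroup G) : Set G) :=
    ⟨⟨1, by group⟩, hP₀ (Subgroup.mem_zpowers x)⟩
  rw [hC.inter_eq P₀ P] at hx0
  exact hx0.2

/-- **Baer–Suzuki**, element form, with the `p`-core as conclusion. -/
theorem mem_iInf_sylow_of_baer_suzuki {p : ℕ} [Fact p.Prime] {G : Type*} [Group G] [Finite G]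
    (x : G) (h : ∀ g : G, IsPGroup p ↥(Subgroup.closure ({x, g * x * g⁻¹} : Set G))) :
    x ∈ (⨅ P : Sylow p G, (P : Subgroup G)) := by
  rw [Subgroup.mem_iInf]
  exact fun P => mem_sylow_of_baer_suzuki x h P

end Cfsg.Agent.helper15
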