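import Cfsg.Statements.S0199
import Cfsg.Agent.Lib_helper15_BaerSuzuki

set_option autoImplicit false
open Cfsg

namespace Cfsg.Agent.S0199

/-- Baer–Suzuki Theorem: a p-subgroup X of a finite group such that X and any of its conjugates generate a p-group is contained in a normal p-subgroup. -/
theorem result {G : Type*} [Group G] [Finite G] {p : ℕ} [Fact p.Prime] (X : Subgroup G) (hX : IsPGroup p X) (h : ∀ g : G, IsPGroup p ↥(X ⊔ X.map (MulAut.conj g).toMonoidHom)) : ∃ N : Subgroup G, N.Normal ∧ IsPGroup p N ∧ X ≤ N := by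
  refine ⟨⨅ P : Sylow p G, (P : Subgroup G), Cfsg.Agent.helper1.iInf_sylow_normal p,
    Cfsg.Agent.helper1.iInf_sylow_isPGroup p, ?_⟩
  intro x hx
  apply Cfsg.Agent.helper15.mem_iInf_sylow_of_baer_suzuki
  intro g
  apply (h g).to_le
  rw [Subgroup.closure_le]
  rintro c (rfl | rfl)
  · exact Subgroup.mem_sup_left hx
  · exact Subgroup.mem_sup_right (Subgroup.mem_map.2 ⟨x, hx, by
      simp only [MulEquiv.coe_toMonoidHom, MulAut.conj_apply]⟩)

end Cfsg.Agent.S0199
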