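import Mathlib
import Cfsg.Agent.Lib_helper12_ZS5

set_option autoImplicit false

/-!
A Z*-type theorem for odd primes (helper12): if the product of any two conjugates of an involution
`d` has `p`-power order (`p` odd), then these products lie in `O_p(G)`.
-/

namespace Cfsg.Agent.helper12

open Cfsg

open Pointwise

universe u

theorem zp_prod_of_coprime_index {X : Type u} [Group X] [Finite X] (P C : Subgroup X)
    (h : Nat.Coprime P.index C.index) : ∀ k : X, ∃ x ∈ P, ∃ c ∈ C, k = x * c := by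
  classical
  have h1 : C.index ∣ C.relIndex P * P.index := by
    have e1 : (P ⊓ C).relIndex P * P.index = (P ⊓ C).index :=
      Subgroup.relIndex_mul_index inf_le_left
    rw [Subgroup.inf_relIndex_left] at e1
    rw [e1]
    exact Subgroup.index_dvd_of_le inf_le_right
  have h2 : C.index ∣ C.relIndex P := (Nat.Coprime.dvd_of_dvd_mul_right h.symm h1)
  obtain ⟨x₀, hx₀⟩ : ∃ x₀ : X ⧸ C, x₀ = ((1 : X) : X ⧸ C) := ⟨_, rfl⟩
  have hstab : MulAction.stabilizer P x₀ = C.subgroupOf P := by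
    ext g
    rw [MulAction.mem_stabilizer_iff, Subgroup.mem_subgroupOf, hx₀]
    show (((g : X) * 1 : X) : X ⧸ C) = ((1 : X) : X ⧸ C) ↔ _
    rw [mul_one, QuotientGroup.eq]
    constructor
    · intro hg
      have := C.inv_mem hg
      simpa using this
    · intro hg
      simpa using C.inv_mem hg
  have h3 : (MulAction.orbit P x₀).ncard = C.relIndex P := by
    rw [← MulAction.index_stabilizer, hstab]
    rfl
  have hpos : 0 < C.relIndex P := by
    rw [← h3]
    exact Set.ncard_pos (Set.toFinite _) |>.mpr ⟨x₀, MulAction.mem_orbit_self x₀⟩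
  have h5 : C.index ≤ C.relIndex P := Nat.le_of_dvd hpos h2
  have h6 : MulAction.orbit P x₀ = Set.univ := by
    apply Set.eq_of_subset_of_ncard_le (Set.subset_univ _) _ (Set.toFinite _)
    rw [Set.ncard_univ, h3]
    exact h5
  intro k
  have hk : ((k : X) : X ⧸ C) ∈ MulAction.orbit P x₀ := by rw [h6]; exact Set.mem_univ _
  obtain ⟨g, hg⟩ := hk
  have hg' : (((g : X) * 1 : X) : X ⧸ C) = ((k : X) : X ⧸ C) := by
    rw [← hg, hx₀]; rfl
  rw [mul_one, QuotientGroup.eq] at hg'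
  exact ⟨(g : X), g.2, _, hg', by group⟩

section ZP

variable {G : Type u} [Group G] [Finite G]

omit [Finite G] in
theorem zp_mem_conj {a b : G} : a ∈ conjugatesOf b ↔ IsConj b a := Iff.rfl

/-- an invariant Sylow subgroup for an involution acting on a normal subgroup of odd order -/
theorem zp_inv_sylow (K : Subgroup G) [hK : K.Normal] (hodd : Odd (Nat.card K)) (d : G)
    (hd2 : d * d = 1) (q : ℕ) [Fact q.Prime] :
    ∃ Q : Sylow q K, ∀ x : K, x ∈ Q → (MulAut.conjNormal d : MulAut K) x ∈ Q := by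
  classical
  obtain ⟨φ, hφ⟩ : ∃ φ : MulAut K, φ = MulAut.conjNormal d := ⟨_, rfl⟩
  have hφ2 : φ * φ = 1 := by
    rw [hφ, ← map_mul, hd2, map_one]
  have hpg : IsPGroup 2 (Subgroup.zpowers φ) := by
    intro g
    obtain ⟨j, hj⟩ := Subgroup.mem_zpowers_iff.mp g.2
    refine ⟨1, ?_⟩
    apply Subtype.ext
    rw [pow_one]
    show ((g : MulAut K)) ^ 2 = 1
    rw [← hj, ← zpow_natCast, ← zpow_mul, mul_comm, zpow_mul, zpow_natCast, pow_two, hφ2, one_zpow]
  have hnd : ¬ 2 ∣ Nat.card (Sylow q K) := by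
    intro h2
    obtain ⟨Q₀⟩ := (inferInstance : Nonempty (Sylow q K))
    have h3 : Nat.card (Sylow q K) ∣ Nat.card K :=
      (Sylow.card_dvd_index Q₀).trans (Subgroup.index_dvd_card _)
    exact (Nat.not_even_iff_odd.mpr hodd) (even_iff_two_dvd.mpr (h2.trans h3))
  obtain ⟨Q, hQ⟩ := hpg.nonempty_fixed_point_of_prime_not_dvd_card (Sylow q K) hnd
  refine ⟨Q, ?_⟩
  intro x hx
  have h1 : (⟨φ, Subgroup.mem_zpowers φ⟩ : Subgroup.zpowers φ) • Q = Q := hQ _
  have h2 : φ • Q = Q := h1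
  have h3 : φ • x ∈ φ • (Q : Subgroup K) := Subgroup.smul_mem_pointwise_smul x φ _ hx
  rw [← Sylow.pointwise_smul_def, h2] at h3
  rw [← hφ]
  exact h3

/-- odd-order elements inverted by `d` are `p`-elements -/
theorem zp_inverted_ppow {p : ℕ} {d : G} (hd : orderOf d = 2)
    (hprod : ∀ a ∈ conjugatesOf d, ∀ b ∈ conjugatesOf d, ∃ k : ℕ, orderOf (a * b) = p ^ k)
    {x : G} (hx : Odd (orderOf x)) (hinv : d * x * d⁻¹ = x⁻¹) : ∃ k : ℕ, orderOf x = p ^ k := by
  have hd2 : d * d = 1 := by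
    have := pow_orderOf_eq_one d
    rw [hd, pow_two] at this
    exact this
  have hdinv : d⁻¹ = d := inv_eq_of_mul_eq_one_left hd2
  obtain ⟨m, hm⟩ := hx
  obtain ⟨y, hy⟩ : ∃ y, y = x ^ (m + 1) := ⟨_, rfl⟩
  have hyy : y * y = x := by
    rw [hy, ← pow_add]
    have : m + 1 + (m + 1) = orderOf x + 1 := by omega
    rw [this, pow_succ, pow_orderOf_eq_one, one_mul]
  have hyinv : d * y * d⁻¹ = y⁻¹ := by rw [hy]; exact helper6.conj_pow_inv hinv (m + 1)
  have hconj : y * d * y⁻¹ = x * d := by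
    have h1 : d * y⁻¹ * d⁻¹ = y := by
      have : d * y⁻¹ * d⁻¹ = (d * y * d⁻¹)⁻¹ := by group
      rw [this, hyinv, inv_inv]
    have h2 : y * d * y⁻¹ = y * (d * y⁻¹ * d⁻¹) * d := by group
    rw [h2, h1, hyy]
  have hmem : x * d ∈ conjugatesOf d := by
    rw [zp_mem_conj, isConj_iff]
    exact ⟨y, hconj⟩
  have hdmem : d ∈ conjugatesOf d := mem_conjugatesOf_self
  obtain ⟨k, hk⟩ := hprod _ hmem _ hdmem
  refine ⟨k, ?_⟩
  rw [← hk, mul_assoc, hd2, mul_one]

theorem zp_isolated {p : ℕ} (hp : p.Prime) (hp2 : p ≠ 2) {d : G} (hd : orderOf d = 2)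
    (hprod : ∀ a ∈ conjugatesOf d, ∀ b ∈ conjugatesOf d, ∃ k : ℕ, orderOf (a * b) = p ^ k) :
    IsIsolatedInvolution d := by
  have hd2 : d * d = 1 := by
    have := pow_orderOf_eq_one d
    rw [hd, pow_two] at this
    exact this
  have hdinv : d⁻¹ = d := inv_eq_of_mul_eq_one_left hd2
  refine ⟨hd, ?_⟩
  intro g hc
  have hbmem : g * d * g⁻¹ ∈ conjugatesOf d := by
    rw [zp_mem_conj, isConj_iff]
    exact ⟨g, rfl⟩
  obtain ⟨k, hk⟩ := hprod d mem_conjugatesOf_self _ hbmem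
  obtain ⟨b, hb⟩ : ∃ b, b = g * d * g⁻¹ := ⟨_, rfl⟩
  have hb2 : b * b = 1 := by
    rw [hb]
    have : (g * d * g⁻¹) * (g * d * g⁻¹) = g * (d * d) * g⁻¹ := by group
    rw [this, hd2]; group
  rw [← hb] at hc hk ⊢
  have hsq : (d * b) ^ 2 = 1 := by
    rw [pow_two]
    calc d * b * (d * b) = d * (b * d) * b := by group
      _ = d * (d * b) * b := by rw [← hc.eq]
      _ = (d * d) * (b * b) := by group
      _ = 1 := by rw [hd2, hb2, one_mul]
  have hdvd : p ^ k ∣ 2 := by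
    rw [← hk]
    exact orderOf_dvd_of_pow_eq_one hsq
  have hk0 : k = 0 := by
    by_contra hk0
    have h1 : p ∣ 2 := (dvd_pow_self p hk0).trans hdvd
    have h2 := (Nat.prime_dvd_prime_iff_eq hp Nat.prime_two).mp h1
    exact hp2 h2
  rw [hk0, pow_zero] at hk
  have h1 : d * b = 1 := orderOf_eq_one_iff.mp hk
  have h2 : b = d⁻¹ := (eq_inv_of_mul_eq_one_right h1)
  rw [h2, hdinv]

/-- S5560 -/
theorem zp_main {p : ℕ} (hp : p.Prime) (hp2 : p ≠ 2) (d : G) (hd : orderOf d = 2)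
    (hprod : ∀ a ∈ conjugatesOf d, ∀ b ∈ conjugatesOf d, ∃ k : ℕ, orderOf (a * b) = p ^ k) :
    ∀ a ∈ conjugatesOf d, ∀ b ∈ conjugatesOf d, a * b ∈ pCore p G := by
  classical
  haveI : Fact p.Prime := ⟨hp⟩
  have hiso := zp_isolated hp hp2 hd hprod
  obtain ⟨N, hNn, hNodd, hN⟩ := zs_main _ G rfl d hiso
  have hd2 : d * d = 1 := helper6.isolated_sq hiso
  have hdinv : d⁻¹ = d := helper6.isolated_inv hiso
  have hinvol : ∀ a ∈ conjugatesOf d, a⁻¹ = a := by
    intro a ha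
    obtain ⟨g, rfl⟩ := isConj_iff.mp (zp_mem_conj.mp ha)
    have : (g * d * g⁻¹)⁻¹ = g * d⁻¹ * g⁻¹ := by group
    rw [this, hdinv]
  have hD : ∀ a ∈ conjugatesOf d, a * d ∈ N := by
    intro a ha
    obtain ⟨g, rfl⟩ := isConj_iff.mp (zp_mem_conj.mp ha)
    have h1 := N.inv_mem (hN g)
    have h2 : (d * g * d⁻¹ * g⁻¹)⁻¹ = g * d * g⁻¹ * d⁻¹ := by group
    rw [h2, hdinv] at h1
    exact h1
  obtain ⟨K, hKdef⟩ : ∃ K : Subgroup G,
      K = Subgroup.closure {x | ∃ a ∈ conjugatesOf d, x = a * d} := ⟨_, rfl⟩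
  have hgen : ∀ a ∈ conjugatesOf d, a * d ∈ K := by
    intro a ha
    rw [hKdef]
    exact Subgroup.subset_closure ⟨a, ha, rfl⟩
  have hKN : K ≤ N := by
    rw [hKdef, Subgroup.closure_le]
    rintro x ⟨a, ha, rfl⟩
    exact hD a ha
  have hKodd : Odd (Nat.card K) := Odd.of_dvd_nat hNodd (Subgroup.card_dvd_of_le hKN)
  have hab : ∀ a ∈ conjugatesOf d, ∀ b ∈ conjugatesOf d, a * b ∈ K := by
    intro a ha b hb
    have h1 : a * b = (a * d) * (b * d)⁻¹ := by
      rw [mul_inv_rev, hdinv, hinvol b hb, mul_assoc, ← mul_assoc d d b, hd2, one_mul]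
    rw [h1]
    exact K.mul_mem (hgen a ha) (K.inv_mem (hgen b hb))
  have hconjmem : ∀ a ∈ conjugatesOf d, ∀ g : G, g * a * g⁻¹ ∈ conjugatesOf d := by
    intro a ha g
    obtain ⟨h, rfl⟩ := isConj_iff.mp (zp_mem_conj.mp ha)
    rw [zp_mem_conj, isConj_iff]
    exact ⟨g * h, by group⟩
  haveI hKn : K.Normal := by
    constructor
    intro x hx g
    rw [hKdef] at hx
    induction hx using Subgroup.closure_induction with
    | mem y hy =>
      obtain ⟨a, ha, rfl⟩ := hy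
      have h1 : g * (a * d) * g⁻¹ = (g * a * g⁻¹) * (g * d * g⁻¹) := by group
      rw [h1]
      exact hab _ (hconjmem a ha g) _ (hconjmem d mem_conjugatesOf_self g)
    | one =>
      have : g * 1 * g⁻¹ = 1 := by group
      rw [this]; exact K.one_mem
    | mul y z _ _ ihy ihz =>
      have : g * (y * z) * g⁻¹ = (g * y * g⁻¹) * (g * z * g⁻¹) := by group
      rw [this]; exact K.mul_mem ihy ihz
    | inv y _ ihy =>
      have : g * y⁻¹ * g⁻¹ = (g * y * g⁻¹)⁻¹ := by group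
      rw [this]; exact K.inv_mem ihy
  suffices hKp : IsPGroup p K by
    intro a ha b hb
    exact helper1.le_pCore hKn hKp (hab a ha b hb)
  -- the automorphism induced by `d`
  obtain ⟨φ, hφ⟩ : ∃ φ : MulAut K, φ = MulAut.conjNormal d := ⟨_, rfl⟩
  have hφval : ∀ x : K, ((φ x : K) : G) = d * (x : G) * d⁻¹ := by
    intro x; rw [hφ]; rfl
  -- invariant Sylow subgroups
  have hsyl : ∀ (q : ℕ) [Fact q.Prime], ∃ Q : Sylow q K, ∀ x : K, x ∈ Q → φ x ∈ Q := by
    intro q _
    rw [hφ]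
    exact zp_inv_sylow K hKodd d hd2 q
  -- the centralizer of `d` in `K`
  obtain ⟨Cd, hCd⟩ : ∃ Cd : Subgroup K,
      Cd = (Subgroup.centralizer ({d} : Set G)).subgroupOf K := ⟨_, rfl⟩
  have hmemCd : ∀ x : K, x ∈ Cd ↔ d * (x : G) = (x : G) * d := by
    intro x
    rw [hCd, Subgroup.mem_subgroupOf, Subgroup.mem_centralizer_iff]
    constructor
    · intro h; exact h d rfl
    · intro h y hy
      rw [Set.mem_singleton_iff.mp hy]; exact h
  have hcent : ∀ (q : ℕ) [Fact q.Prime], q ≠ p → ∀ Q : Sylow q K,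
      (∀ x : K, x ∈ Q → φ x ∈ Q) → (Q : Subgroup K) ≤ Cd := by
    intro q hq hqp Q hQinv x hx
    rw [hmemCd]
    obtain ⟨w, hw⟩ : ∃ w : K, w = x⁻¹ * φ x := ⟨_, rfl⟩
    have hwQ : w ∈ Q := by
      rw [hw]
      exact (Q : Subgroup K).mul_mem ((Q : Subgroup K).inv_mem hx) (hQinv x hx)
    have hwG : (w : G) = (x : G)⁻¹ * (d * (x : G) * d⁻¹) := by
      rw [hw, Subgroup.coe_mul, Subgroup.coe_inv, hφval]
    have hwinv : d * (w : G) * d⁻¹ = (w : G)⁻¹ := by
      rw [hwG, hdinv]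
      have e1 : d * ((x : G)⁻¹ * (d * (x : G) * d)) * d = d * (x : G)⁻¹ * (d * (x : G) * (d * d)) := by
        group
      have e2 : ((x : G)⁻¹ * (d * (x : G) * d))⁻¹ = d⁻¹ * (x : G)⁻¹ * d⁻¹ * (x : G) := by group
      rw [e1, e2, hd2, hdinv, mul_one]
      group
    have hwodd : Odd (orderOf (w : G)) := by
      rw [Subgroup.orderOf_coe]
      exact Odd.of_dvd_nat hKodd (orderOf_dvd_natCard w)
    obtain ⟨k, hk⟩ := zp_inverted_ppow hd hprod hwodd hwinv
    obtain ⟨j, hj⟩ := (IsPGroup.iff_orderOf.mp Q.2) ⟨w, hwQ⟩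
    have hj' : orderOf (w : G) = q ^ j := by
      rw [Subgroup.orderOf_coe, ← hj]
      exact (Subgroup.orderOf_mk w hwQ).symm
    have hw1 : orderOf (w : G) = 1 := by
      by_contra hne
      have hk0 : k ≠ 0 := by
        intro h; rw [h, pow_zero] at hk; exact hne hk
      have h1 : p ∣ q ^ j := by
        rw [← hj', hk]; exact dvd_pow_self p hk0
      have h2 := (Nat.prime_dvd_prime_iff_eq hp hq.out).mp (hp.dvd_of_dvd_pow h1)
      exact hqp h2.symm
    have hw1' : (w : G) = 1 := orderOf_eq_one_iff.mp hw1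
    rw [hwG] at hw1'
    have h3 : d * (x : G) * d⁻¹ = (x : G) := by
      have := eq_inv_of_mul_eq_one_right hw1'
      rw [this, inv_inv]
    calc d * (x : G) = (d * (x : G) * d⁻¹) * d := by group
      _ = (x : G) * d := by rw [h3]
  -- the invariant Sylow p-subgroup
  obtain ⟨P, hPinv⟩ := hsyl p
  have hPidx : ¬ p ∣ (P : Subgroup K).index := P.not_dvd_index
  have hCdidx : ∀ q : ℕ, q.Prime → q ∣ Cd.index → q = p := by
    intro q hq hqd
    by_contra hqp
    haveI : Fact q.Prime := ⟨hq⟩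
    obtain ⟨Q, hQinv⟩ := hsyl q
    have hle := hcent q hqp Q hQinv
    have h1 : Cd.index ∣ (Q : Subgroup K).index := Subgroup.index_dvd_of_le hle
    exact Q.not_dvd_index (hqd.trans h1)
  have hCdne : Cd.index ≠ 0 := Subgroup.index_ne_zero_of_finite
  have hCdpow : Cd.index = p ^ Cd.index.primeFactorsList.length :=
    Nat.eq_prime_pow_of_unique_prime_dvd hCdne (fun {q} hq hqd => hCdidx q hq hqd)
  have hcop : Nat.Coprime (P : Subgroup K).index Cd.index := by
    rw [hCdpow]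
    exact Nat.Coprime.pow_right _ ((Nat.Prime.coprime_iff_not_dvd hp).mpr hPidx).symm
  have hfact := zp_prod_of_coprime_index (P : Subgroup K) Cd hcop
  -- every generator lies in `P`
  have hle' : Subgroup.closure {x | ∃ a ∈ conjugatesOf d, x = a * d} ≤
      (P : Subgroup K).map K.subtype := by
    rw [Subgroup.closure_le]
    rintro y ⟨a, ha, rfl⟩
    obtain ⟨g, rfl⟩ := isConj_iff.mp (zp_mem_conj.mp ha)
    obtain ⟨k, hkz, -, -, hkconj⟩ := helper6.exists_odd_conjugator hiso g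
    have hkK : k ∈ K := by
      have h1 : Subgroup.zpowers ((g * d * g⁻¹) * d) ≤ K :=
        (Subgroup.zpowers_le).mpr (hgen _ ha)
      exact h1 hkz
    obtain ⟨x, hxP, c, hcC, hkxc⟩ := hfact ⟨k, hkK⟩
    have hkG : k = (x : G) * (c : G) := congrArg Subtype.val hkxc
    have hcd : d * (c : G) = (c : G) * d := (hmemCd c).mp hcC
    have hconj : g * d * g⁻¹ = (x : G) * d * (x : G)⁻¹ := by
      rw [← hkconj, hkG]
      have e1 : (x : G) * (c : G) * d * ((x : G) * (c : G))⁻¹ =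
          (x : G) * ((c : G) * d) * (c : G)⁻¹ * (x : G)⁻¹ := by group
      rw [e1, ← hcd]
      group
    have helt : (g * d * g⁻¹) * d = ((x * φ x⁻¹ : K) : G) := by
      rw [Subgroup.coe_mul, hφval, hconj, Subgroup.coe_inv, hdinv]
      group
    rw [helt]
    refine ⟨x * φ x⁻¹, ?_, rfl⟩
    exact (P : Subgroup K).mul_mem hxP (hPinv _ ((P : Subgroup K).inv_mem hxP))
  have hle : K ≤ (P : Subgroup K).map K.subtype := by
    intro y hy
    apply hle'
    rw [← hKdef]
    exact hy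
  exact (P.2.map K.subtype).to_le hle

end ZP

end Cfsg.Agent.helper12
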