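import Cfsg.Statements.S5346
import Mathlib
import Cfsg.Agent.S5561
import Cfsg.Agent.Lib_helper15_CharP

set_option autoImplicit false
open Cfsg

namespace Cfsg.Agent.S5346

theorem comm_of_sq {G : Type*} [Group G] {a b : G} (ha : a * a = 1) (hb : b * b = 1)
    (h : (a * b) ^ 2 = 1) : Commute a b := by
  have h3 : a * b * (a * b) = 1 := by rw [← pow_two]; exact h
  have ha' : a⁻¹ = a := inv_eq_of_mul_eq_one_left ha
  have hb' : b⁻¹ = b := inv_eq_of_mul_eq_one_left hb
  have : a * b = (a * b)⁻¹ := (inv_eq_of_mul_eq_one_left h3).symm ▸ rfl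
  rw [mul_inv_rev, ha', hb'] at this
  exact this

theorem conj_of_cube {G : Type*} [Group G] {a b : G} (ha : a * a = 1) (hb : b * b = 1)
    (h : (a * b) ^ 3 = 1) : (a * b) * a * (a * b)⁻¹ = b := by
  have ha' : a⁻¹ = a := inv_eq_of_mul_eq_one_left ha
  have hb' : b⁻¹ = b := inv_eq_of_mul_eq_one_left hb
  have h3 : a * b * (a * b) * (a * b) = 1 := by rw [← pow_three']; exact h
  rw [mul_inv_rev, ha', hb']
  have : a * b * a * (b * a) * b = 1 := by
    have : a * b * a * (b * a) * b = a * b * (a * b) * (a * b) := by simp only [mul_assoc]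
    rw [this, h3]
  have h5 : a * b * a * (b * a) = b⁻¹ := eq_inv_of_mul_eq_one_left this
  rw [h5, hb']

/-- A finite group generated by a conjugation-invariant set of 3-transpositions no two distinct
members of which commute: products of two members lie in `O_3`. -/
theorem core_of_width_one {G : Type*} [Group G] [Finite G] {D : Set G}
    (hD : Cfsg.IsThreeTranspositionGroup D)
    (hw : ∀ a ∈ D, ∀ b ∈ D, Commute a b → a = b) :
    ∀ a ∈ D, ∀ b ∈ D, a * b ∈ Cfsg.pCore 3 G := by
  obtain ⟨⟨hord, hprod⟩, hconj, hgen⟩ := hD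
  have sq : ∀ x ∈ D, x * x = 1 := by
    intro x hx
    have := hord x hx
    rw [← pow_two, ← this, pow_orderOf_eq_one]
  intro d hd e he
  have hd2 : orderOf d = 2 := hord d hd
  have hcD : ∀ a ∈ conjugatesOf d, a ∈ D := by
    intro a ha
    obtain ⟨g, rfl⟩ := isConj_iff.mp (show IsConj d a from ha)
    exact hconj g d hd
  have hprod3 : ∀ a ∈ conjugatesOf d, ∀ b ∈ conjugatesOf d, ∃ k : ℕ, orderOf (a * b) = 3 ^ k := by
    intro a ha b hb
    have haD := hcD a ha
    have hbD := hcD b hb
    rcases hprod a haD b hbD with h | h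
    · have hab := hw a haD b hbD (comm_of_sq (sq a haD) (sq b hbD) h)
      refine ⟨0, ?_⟩
      rw [hab, sq b hbD, orderOf_one, pow_zero]
    · have hdvd : orderOf (a * b) ∣ 3 := orderOf_dvd_of_pow_eq_one h
      rcases (Nat.dvd_prime Nat.prime_three).mp hdvd with h1 | h3
      · exact ⟨0, by rw [h1, pow_zero]⟩
      · exact ⟨1, by rw [h3, pow_one]⟩
  have hmain := Cfsg.Agent.S5561.result d hd2 hprod3
  have hDc : e ∈ conjugatesOf d := by
    rcases hprod d hd e he with h | h
    · have := hw d hd e he (comm_of_sq (sq d hd) (sq e he) h)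
      rw [← this]
      exact mem_conjugatesOf_self
    · exact (show IsConj d e from isConj_iff.mpr ⟨d * e, conj_of_cube (sq d hd) (sq e he) h⟩)
  exact hmain d mem_conjugatesOf_self e hDc

/-- Let D be a conjugation-invariant generating set of 3-transpositions of a finite group G and d a member of D. Then D has width 1 (no two different members of D commute) if and only if G is the product of the subgroup generated by d with the largest normal 3-subgroup of G. -/
theorem result {G : Type*} [Group G] [Finite G] {D : Set G} (hD : Cfsg.IsThreeTranspositionGroup D) {d : G} (hd : d ∈ D) : Cfsg.commutingWidth D = 1 ↔ Subgroup.zpowers d ⊔ Cfsg.pCore 3 G = ⊤ := by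
  classical
  obtain ⟨⟨hord, hprod⟩, hconj, hgen⟩ := hD
  have sq : ∀ x ∈ D, x * x = 1 := by
    intro x hx
    have := hord x hx
    rw [← pow_two, ← this, pow_orderOf_eq_one]
  have inv_eq : ∀ x ∈ D, x⁻¹ = x := fun x hx => inv_eq_of_mul_eq_one_left (sq x hx)
  set A := {n : ℕ | ∃ E : Set G, E ⊆ D ∧ E.Finite ∧ (∀ a ∈ E, ∀ b ∈ E, Commute a b) ∧ E.ncard = n} with hA
  have hbdd : BddAbove A := by
    refine ⟨Nat.card G, ?_⟩
    rintro n ⟨E, -, -, -, rfl⟩
    rw [← Set.ncard_univ]
    exact Set.ncard_le_ncard (Set.subset_univ _) (Set.toFinite _)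
  have hwdef : Cfsg.commutingWidth D = sSup A := rfl
  have h1mem : 1 ∈ A := by
    refine ⟨{d}, by simpa using hd, Set.finite_singleton _, ?_, Set.ncard_singleton _⟩
    intro a ha b hb
    rw [Set.mem_singleton_iff] at ha hb
    rw [ha, hb]
  -- width one iff no two distinct commuting members
  have hkey : Cfsg.commutingWidth D = 1 ↔ ∀ a ∈ D, ∀ b ∈ D, Commute a b → a = b := by
    constructor
    · intro hw a ha b hb hab
      by_contra hne
      have h2 : 2 ∈ A := by
        refine ⟨{a, b}, ?_, Set.toFinite _, ?_, Set.ncard_pair hne⟩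
        · intro x hx
          rcases hx with rfl | rfl
          · exact ha
          · exact hb
        · intro x hx y hy
          rcases hx with rfl | rfl <;> rcases hy with rfl | rfl
          · exact Commute.refl _
          · exact hab
          · exact hab.symm
          · exact Commute.refl _
      have := le_csSup hbdd h2
      rw [← hwdef, hw] at this
      omega
    · intro h
      rw [hwdef]
      apply le_antisymm
      · apply csSup_le ⟨1, h1mem⟩
        rintro n ⟨E, hED, -, hEc, rfl⟩
        rw [Set.ncard_le_one_iff]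
        intro a b ha hb
        exact h a (hED ha) b (hED hb) (hEc a ha b hb)
      · exact le_csSup hbdd h1mem
  rw [hkey]
  have hd2 : orderOf d = 2 := hord d hd
  constructor
  · intro hw
    have hcore := core_of_width_one ⟨⟨hord, hprod⟩, hconj, hgen⟩ hw
    rw [eq_top_iff, ← hgen, Subgroup.closure_le]
    intro e he
    have h1 : d * e ∈ Cfsg.pCore 3 G := hcore d hd e he
    have h2 : e = d * (d * e) := by rw [← mul_assoc, sq d hd, one_mul]
    rw [h2]
    exact Subgroup.mul_mem _ (Subgroup.mem_sup_left (Subgroup.mem_zpowers d))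
      (Subgroup.mem_sup_right h1)
  · intro htop a ha b hb hab
    by_contra hne
    have hP : IsPGroup 3 (Cfsg.pCore 3 G) := Cfsg.Agent.helper15.pCore_isPGroup' 3
    haveI hN : (Cfsg.pCore 3 G).Normal := Cfsg.Agent.helper15.pCore_normal' 3
    -- every member of D lies in d * P
    have hcos : ∀ x ∈ D, d * x ∈ Cfsg.pCore 3 G := by
      intro x hx
      have hxtop : x ∈ Subgroup.zpowers d ⊔ Cfsg.pCore 3 G := by rw [htop]; trivial
      rw [Subgroup.mem_sup_of_normal_right] at hxtop
      obtain ⟨y, hy, z, hz, rfl⟩ := hxtop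
      obtain ⟨k, rfl⟩ := Subgroup.mem_zpowers_iff.mp hy
      have hd2' : d ^ (2 : ℤ) = 1 := by
        rw [zpow_ofNat, pow_two]; exact sq d hd
      rcases Int.emod_two_eq_zero_or_one k with h0 | h1
      · -- d^k = 1, so x = z ∈ P, impossible
        exfalso
        have hk : d ^ k = 1 := by
          obtain ⟨m, hm⟩ := Int.dvd_of_emod_eq_zero h0
          rw [hm, zpow_mul, hd2', one_zpow]
        rw [hk, one_mul] at hx
        obtain ⟨j, hj⟩ := hP ⟨z, hz⟩
        have hj' : z ^ (3 ^ j) = 1 := by
          have := congrArg Subtype.val hj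
          simpa using this
        have h1 : orderOf z ∣ 3 ^ j := orderOf_dvd_of_pow_eq_one hj'
        rw [hord z hx] at h1
        have := (Nat.Prime.dvd_of_dvd_pow Nat.prime_two h1)
        omega
      · have hk : d ^ k = d := by
          have : k = 2 * (k / 2) + 1 := by omega
          rw [this, zpow_add, zpow_mul, hd2', one_zpow, one_mul, zpow_one]
        rw [hk, ← mul_assoc, sq d hd, one_mul]
        exact hz
    have hab2 : a * b ∈ Cfsg.pCore 3 G := by
      have h1 := hcos a ha
      have h2 := hcos b hb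
      have h3 : a * b = (d * a)⁻¹ * (d * b) := by
        rw [mul_inv_rev, inv_eq a ha]
        group
      rw [h3]
      exact Subgroup.mul_mem _ (Subgroup.inv_mem _ h1) h2
    obtain ⟨j, hj⟩ := hP ⟨a * b, hab2⟩
    have hj' : (a * b) ^ (3 ^ j) = 1 := by
      have := congrArg Subtype.val hj
      simpa using this
    have h1 : orderOf (a * b) ∣ 3 ^ j := orderOf_dvd_of_pow_eq_one hj'
    have h2 : orderOf (a * b) ∣ 2 := by
      apply orderOf_dvd_of_pow_eq_one
      rw [hab.mul_pow, pow_two, pow_two, sq a ha, sq b hb, one_mul]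
    have hcop : Nat.Coprime (3 ^ j) 2 := Nat.Coprime.pow_left _ (by norm_num)
    have := Nat.dvd_gcd h1 h2
    rw [hcop] at this
    have h1' : a * b = 1 := orderOf_eq_one_iff.mp (Nat.dvd_one.mp this)
    apply hne
    have : a = b⁻¹ := eq_inv_of_mul_eq_one_left h1'
    rw [this, inv_eq b hb]

end Cfsg.Agent.S5346
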