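import Mathlib
import Cfsg.Prelude.Def_FischerSpaces
import Cfsg.Agent.S5346
import Cfsg.Agent.S0199
import Cfsg.Agent.Lib_helper15_CharP

set_option autoImplicit false
set_option linter.style.haveILetI false

open Cfsg

namespace Cfsg.Agent.h26TTW

variable {G : Type*} [Group G] {D : Set G}

/-- the members of `D` other than `x` commuting with `x` -/
def Dc (D : Set G) (x : G) : Set G := {y : G | y ∈ D ∧ y ≠ x ∧ Commute x y}

theorem sq_one (hTS : IsThreeTranspositionSet D) {x : G} (hx : x ∈ D) : x * x = 1 := by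
  have := hTS.1 x hx
  rw [← pow_two, ← this, pow_orderOf_eq_one]

theorem inv_eq (hTS : IsThreeTranspositionSet D) {x : G} (hx : x ∈ D) : x⁻¹ = x :=
  inv_eq_of_mul_eq_one_left (sq_one hTS hx)

theorem comm_or_cube (hTS : IsThreeTranspositionSet D) {a b : G} (ha : a ∈ D) (hb : b ∈ D) :
    Commute a b ∨ (a * b) ^ 3 = 1 := by
  rcases hTS.2 a ha b hb with h | h
  · exact Or.inl (Cfsg.Agent.S5346.comm_of_sq (sq_one hTS ha) (sq_one hTS hb) h)
  · exact Or.inr h

theorem cube_of_not_comm (hTS : IsThreeTranspositionSet D) {a b : G} (ha : a ∈ D) (hb : b ∈ D)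
    (h : ¬ Commute a b) : (a * b) ^ 3 = 1 :=
  (comm_or_cube hTS ha hb).resolve_left h

/-- braid relation, in conjugation form -/
theorem braid (hTS : IsThreeTranspositionSet D) {a b : G} (ha : a ∈ D) (hb : b ∈ D)
    (h : ¬ Commute a b) : a * b * a⁻¹ = b * a * b⁻¹ := by
  have h3 := cube_of_not_comm hTS ha hb h
  have h3' : a * b * (a * b) * (a * b) = 1 := by rw [← pow_three']; exact h3
  rw [inv_eq hTS ha, inv_eq hTS hb]
  have h1 : a * b * a * (b * a * b) = 1 := by
    have : a * b * a * (b * a * b) = a * b * (a * b) * (a * b) := by simp only [mul_assoc]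
    rw [this, h3']
  have h2 : b * a * b * (b * a * b) = 1 := by
    have : b * a * b * (b * a * b) = b * a * (b * b) * a * b := by simp only [mul_assoc]
    rw [this, sq_one hTS hb, mul_one]
    have : b * a * a * b = b * (a * a) * b := by simp only [mul_assoc]
    rw [this, sq_one hTS ha, mul_one, sq_one hTS hb]
  exact mul_right_cancel (h1.trans h2.symm)

theorem conj_comm_iff (g a b : G) : Commute (g * a * g⁻¹) (g * b * g⁻¹) ↔ Commute a b := by
  constructor
  · intro h
    have h1 : g * a * g⁻¹ * (g * b * g⁻¹) = g * b * g⁻¹ * (g * a * g⁻¹) := h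
    have h2 : g * (a * b) * g⁻¹ = g * (b * a) * g⁻¹ := by
      have e1 : g * a * g⁻¹ * (g * b * g⁻¹) = g * (a * b) * g⁻¹ := by group
      have e2 : g * b * g⁻¹ * (g * a * g⁻¹) = g * (b * a) * g⁻¹ := by group
      rw [← e1, ← e2]; exact h1
    exact mul_left_cancel (mul_right_cancel h2)
  · intro h
    have h1 : a * b = b * a := h
    show g * a * g⁻¹ * (g * b * g⁻¹) = g * b * g⁻¹ * (g * a * g⁻¹)
    have e1 : g * a * g⁻¹ * (g * b * g⁻¹) = g * (a * b) * g⁻¹ := by group
    have e2 : g * b * g⁻¹ * (g * a * g⁻¹) = g * (b * a) * g⁻¹ := by group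
    rw [e1, e2, h1]

theorem mem_conj_iff (hconj : ∀ g : G, ∀ y ∈ D, g * y * g⁻¹ ∈ D) (g y : G) :
    g * y * g⁻¹ ∈ D ↔ y ∈ D := by
  constructor
  · intro h
    have := hconj g⁻¹ _ h
    have e : g⁻¹ * (g * y * g⁻¹) * g⁻¹⁻¹ = y := by group
    rwa [e] at this
  · exact hconj g y

theorem mem_Dc_conj (hconj : ∀ g : G, ∀ y ∈ D, g * y * g⁻¹ ∈ D) (g x y : G) :
    g * y * g⁻¹ ∈ Dc D (g * x * g⁻¹) ↔ y ∈ Dc D x := by
  unfold Dc
  simp only [Set.mem_setOf_eq]
  rw [mem_conj_iff hconj, conj_comm_iff]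
  constructor
  · rintro ⟨h1, h2, h3⟩
    refine ⟨h1, ?_, h3⟩
    rintro rfl
    exact h2 rfl
  · rintro ⟨h1, h2, h3⟩
    refine ⟨h1, ?_, h3⟩
    intro h
    apply h2
    exact mul_left_cancel (mul_right_cancel h)

theorem Dc_conj_eq (hconj : ∀ g : G, ∀ y ∈ D, g * y * g⁻¹ ∈ D) {x y : G} (g : G)
    (h : Dc D x = Dc D y) : Dc D (g * x * g⁻¹) = Dc D (g * y * g⁻¹) := by
  ext z
  have e : g * (g⁻¹ * z * g) * g⁻¹ = z := by group
  rw [← e, mem_Dc_conj hconj, mem_Dc_conj hconj, h]

theorem not_comm_of_blk {x y : G} (hy : y ∈ D) (h : Dc D x = Dc D y) (hne : x ≠ y) :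
    ¬ Commute x y := by
  intro hc
  have : y ∈ Dc D x := ⟨hy, Ne.symm hne, hc⟩
  rw [h] at this
  exact this.2.1 rfl

theorem comm_transfer {x x' y y' : G} (hx' : x' ∈ D) (hy : y ∈ D)
    (hx : Dc D x = Dc D x') (hyy : Dc D y = Dc D y') (hne : y ≠ x) (hc : Commute x y) :
    Commute x' y' := by
  have h1 : y ∈ Dc D x := ⟨hy, hne, hc⟩
  rw [hx] at h1
  have h2 : x' ∈ Dc D y := ⟨hx', Ne.symm h1.2.1, h1.2.2.symm⟩
  rw [hyy] at h2
  exact h2.2.2.symm

/-- conjugating a member of a block by a member of the same block stays in the block -/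
theorem Dc_conj_self (hTS : IsThreeTranspositionSet D)
    (hconj : ∀ g : G, ∀ y ∈ D, g * y * g⁻¹ ∈ D) {t u : G} (ht : t ∈ D)
    (h : Dc D t = Dc D u) : Dc D (t * u * t⁻¹) = Dc D u := by
  rw [← Dc_conj_eq hconj t h]
  have : t * t * t⁻¹ = t := by group
  rw [this, h]

/-- `NC p q`: non-commuting members of different blocks -/
def NC (D : Set G) (p q : G) : Prop := ¬ Commute p q ∧ Dc D p ≠ Dc D q

theorem NC.symm {p q : G} (h : NC D p q) : NC D q p :=
  ⟨fun hc => h.1 hc.symm, fun he => h.2 he.symm⟩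

theorem NC.ne {p q : G} (h : NC D p q) : p ≠ q := by
  rintro rfl
  exact h.2 rfl

theorem NC.conj (hTS : IsThreeTranspositionSet D)
    (hconj : ∀ g : G, ∀ y ∈ D, g * y * g⁻¹ ∈ D) {p q : G} (hp : p ∈ D)
    (h : NC D p q) : NC D p (p * q * p⁻¹) := by
  constructor
  · intro hc
    apply h.1
    have e : p * p * p⁻¹ = p := by group
    have hc' : Commute (p * p * p⁻¹) (p * q * p⁻¹) := by rw [e]; exact hc
    exact (conj_comm_iff p p q).mp hc'
  · intro he
    apply h.2
    have := Dc_conj_eq hconj p⁻¹ he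
    have e1 : p⁻¹ * p * p⁻¹⁻¹ = p := by group
    have e2 : p⁻¹ * (p * q * p⁻¹) * p⁻¹⁻¹ = q := by group
    rwa [e1, e2] at this

/-- transferring `NC` along blocks -/
theorem NC.transfer {p q t z : G} (hp : p ∈ D) (hz : z ∈ D)
    (ht : Dc D t = Dc D p) (hzq : Dc D z = Dc D q) (h : NC D p q) : NC D t z := by
  constructor
  · intro hc
    apply h.1
    have hne : z ≠ t := by
      rintro rfl
      exact h.2 (ht.symm.trans hzq)
    exact comm_transfer hp hz ht hzq hne hc
  · intro he
    exact h.2 (ht.symm.trans (he.trans hzq))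

/-- the block of `t z t⁻¹` depends only on the blocks of `t` and `z` -/
theorem conj_blk (hTS : IsThreeTranspositionSet D)
    (hconj : ∀ g : G, ∀ y ∈ D, g * y * g⁻¹ ∈ D) {t z p q : G}
    (ht : t ∈ D) (hz : z ∈ D) (hp : p ∈ D) (hq : q ∈ D)
    (htp : Dc D t = Dc D p) (hzq : Dc D z = Dc D q)
    (hpq : p = q ∨ NC D p q) : Dc D (t * z * t⁻¹) = Dc D (p * q * p⁻¹) := by
  rcases hpq with rfl | hnc
  · have h1 : Dc D t = Dc D z := htp.trans hzq.symm
    rw [Dc_conj_self hTS hconj ht h1, hzq]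
    have : p * p * p⁻¹ = p := by group
    rw [this]
  · have hnc1 : NC D t z := hnc.transfer hp hz htp hzq
    have hnc2 : NC D p z := hnc.transfer hp hz rfl hzq
    -- t z t⁻¹ = z t z⁻¹, p z p⁻¹ = z p z⁻¹
    rw [braid hTS ht hz hnc1.1, Dc_conj_eq hconj z htp, ← braid hTS hp hz hnc2.1,
      Dc_conj_eq hconj p hzq]

section width_one

variable [Finite G]

/-- A conjugation-closed set of 3-transpositions, no two distinct members commuting:
products of two members lie in a common 3-subgroup. -/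
theorem three_group_of_width_one (Y : Set G) (hTS : IsThreeTranspositionSet Y)
    (hYc : ∀ t ∈ Y, ∀ y ∈ Y, t * y * t⁻¹ ∈ Y)
    (hw : ∀ a ∈ Y, ∀ b ∈ Y, Commute a b → a = b) :
    ∃ Q : Subgroup G, IsPGroup 3 Q ∧ ∀ a ∈ Y, ∀ b ∈ Y, a * b ∈ Q := by
  set L : Subgroup G := Subgroup.closure Y with hL
  set DL : Set L := {x : L | (x : G) ∈ Y} with hDL
  have hconjL : ∀ g ∈ L, ∀ y ∈ Y, g * y * g⁻¹ ∈ Y ∧ g⁻¹ * y * g ∈ Y := by
    intro g hg
    induction hg using Subgroup.closure_induction with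
    | mem t ht =>
      intro y hy
      refine ⟨hYc t ht y hy, ?_⟩
      have := hYc t ht y hy
      rwa [inv_eq hTS ht] at this ⊢
    | one => intro y hy; simpa using hy
    | mul a b _ _ iha ihb =>
      intro y hy
      constructor
      · have h1 := (ihb y hy).1
        have h2 := (iha _ h1).1
        have e : a * b * y * (a * b)⁻¹ = a * (b * y * b⁻¹) * a⁻¹ := by group
        rw [e]; exact h2
      · have h1 := (iha y hy).2
        have h2 := (ihb _ h1).2
        have e : (a * b)⁻¹ * y * (a * b) = b⁻¹ * (a⁻¹ * y * a) * b := by group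
        rw [e]; exact h2
    | inv a _ iha =>
      intro y hy
      constructor
      · have := (iha y hy).2
        simpa using this
      · have := (iha y hy).1
        simpa using this
  have hDLG : IsThreeTranspositionGroup DL := by
    refine ⟨⟨?_, ?_⟩, ?_, ?_⟩
    · intro x hx
      rw [← Subgroup.orderOf_coe]
      exact hTS.1 _ hx
    · intro x hx y hy
      rcases hTS.2 _ hx _ hy with h | h
      · left
        apply Subtype.ext
        simpa using h
      · right
        apply Subtype.ext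
        simpa using h
    · intro g x hx
      show ((g * x * g⁻¹ : L) : G) ∈ Y
      have := (hconjL g g.2 x hx).1
      simpa using this
    · exact Subgroup.closure_closure_coe_preimage
  have hwL : ∀ a ∈ DL, ∀ b ∈ DL, Commute a b → a = b := by
    intro a ha b hb hab
    apply Subtype.ext
    apply hw _ ha _ hb
    have : (a : G) * b = b * a := by
      have := congrArg Subtype.val hab.eq
      simpa using this
    exact this
  have hcore := Cfsg.Agent.S5346.core_of_width_one hDLG hwL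
  refine ⟨(Cfsg.pCore 3 L).map L.subtype, ?_, ?_⟩
  · exact (Cfsg.Agent.helper15.pCore_isPGroup' 3).map _
  · intro a ha b hb
    have haL : a ∈ L := Subgroup.subset_closure ha
    have hbL : b ∈ L := Subgroup.subset_closure hb
    have := hcore ⟨a, haL⟩ ha ⟨b, hbL⟩ hb
    exact Subgroup.mem_map.mpr ⟨_, this, rfl⟩

end width_one

end Cfsg.Agent.h26TTW
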