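import Mathlib
import Cfsg.Agent.Lib_helper26_TTW

set_option autoImplicit false
set_option linter.style.haveILetI false

open Cfsg

namespace Cfsg.Agent.h26TTW

variable {G : Type*} [Group G] {D : Set G}

theorem ts_subset (hTS : IsThreeTranspositionSet D) {Y : Set G} (h : Y ⊆ D) :
    IsThreeTranspositionSet Y :=
  ⟨fun d hd => hTS.1 d (h hd), fun d hd e he => hTS.2 d (h hd) e (h he)⟩

/-- a single block -/
def Y1 (D : Set G) (x : G) : Set G := {z : G | z ∈ D ∧ Dc D z = Dc D x}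

theorem Y1_conj (hTS : IsThreeTranspositionSet D)
    (hconj : ∀ g : G, ∀ y ∈ D, g * y * g⁻¹ ∈ D) (x : G) :
    ∀ t ∈ Y1 D x, ∀ y ∈ Y1 D x, t * y * t⁻¹ ∈ Y1 D x := by
  rintro t ⟨htD, ht⟩ y ⟨hyD, hy⟩
  refine ⟨hconj t y hyD, ?_⟩
  rw [Dc_conj_self hTS hconj htD (ht.trans hy.symm), hy]

theorem Y1_width (x : G) : ∀ a ∈ Y1 D x, ∀ b ∈ Y1 D x, Commute a b → a = b := by
  rintro a ⟨haD, ha⟩ b ⟨hbD, hb⟩ hab
  by_contra hne
  exact not_comm_of_blk hbD (ha.trans hb.symm) hne hab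

/-- representatives of the three blocks -/
def InR (x y p : G) : Prop := p = x ∨ p = y ∨ p = x * y * x⁻¹

theorem conj_conj_self (hTS : IsThreeTranspositionSet D) {x : G} (hx : x ∈ D) (y : G) :
    x * (x * y * x⁻¹) * x⁻¹ = y := by
  rw [inv_eq hTS hx]
  have : x * (x * y * x) * x = (x * x) * y * (x * x) := by simp only [mul_assoc]
  rw [this, sq_one hTS hx, one_mul, mul_one]

section R

variable (hTS : IsThreeTranspositionSet D) (hconj : ∀ g : G, ∀ y ∈ D, g * y * g⁻¹ ∈ D)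
  {x y : G} (hx : x ∈ D) (hy : y ∈ D) (hnc : NC D x y)

include hTS hconj hx hy hnc

theorem InR.mem {p : G} (h : InR x y p) : p ∈ D := by
  rcases h with rfl | rfl | rfl
  · exact hx
  · exact hy
  · exact hconj _ _ hy

theorem c_eq : x * y * x⁻¹ = y * x * y⁻¹ := braid hTS hx hy hnc.1

theorem R_nc {p q : G} (hp : InR x y p) (hq : InR x y q) : p = q ∨ NC D p q := by
  have hxc : NC D x (x * y * x⁻¹) := hnc.conj hTS hconj hx
  have hyc : NC D y (x * y * x⁻¹) := by
    rw [c_eq hTS hconj hx hy hnc]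
    exact hnc.symm.conj hTS hconj hy
  rcases hp with rfl | rfl | rfl <;> rcases hq with rfl | rfl | rfl
  · exact Or.inl rfl
  · exact Or.inr hnc
  · exact Or.inr hxc
  · exact Or.inr hnc.symm
  · exact Or.inl rfl
  · exact Or.inr hyc
  · exact Or.inr hxc.symm
  · exact Or.inr hyc.symm
  · exact Or.inl rfl

theorem R_closed {p q : G} (hp : InR x y p) (hq : InR x y q) : InR x y (p * q * p⁻¹) := by
  have hc := c_eq hTS hconj hx hy hnc
  have e1 : x * x * x⁻¹ = x := by group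
  have e2 : x * (x * y * x⁻¹) * x⁻¹ = y := conj_conj_self hTS hx y
  have e3 : y * y * y⁻¹ = y := by group
  have e4 : y * (x * y * x⁻¹) * y⁻¹ = x := by rw [hc]; exact conj_conj_self hTS hy x
  have e5 : (x * y * x⁻¹) * x * (x * y * x⁻¹)⁻¹ = y := by
    have e : x * y * x⁻¹ * x * (x * y * x⁻¹)⁻¹ = x * (y * x * y⁻¹) * x⁻¹ := by group
    rw [e, ← hc]; exact e2
  have e6 : (x * y * x⁻¹) * y * (x * y * x⁻¹)⁻¹ = x := by
    have e : x * y * x⁻¹ * y * (x * y * x⁻¹)⁻¹ = y * x * y⁻¹ * y * (y * x * y⁻¹)⁻¹ := by rw [hc]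
    have e' : y * x * y⁻¹ * y * (y * x * y⁻¹)⁻¹ = y * (x * y * x⁻¹) * y⁻¹ := by group
    exact e.trans (e'.trans e4)
  have e7 : (x * y * x⁻¹) * (x * y * x⁻¹) * (x * y * x⁻¹)⁻¹ = x * y * x⁻¹ := by group
  rcases hp with h | h | h <;> rcases hq with h' | h' | h' <;> rw [h, h']
  · exact Or.inl e1
  · exact Or.inr (Or.inr rfl)
  · exact Or.inr (Or.inl e2)
  · exact Or.inr (Or.inr hc.symm)
  · exact Or.inr (Or.inl e3)
  · exact Or.inl e4
  · exact Or.inr (Or.inl e5)
  · exact Or.inl e6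
  · exact Or.inr (Or.inr e7)

end R

/-- the union of three blocks -/
def Y3 (D : Set G) (x y : G) : Set G :=
  {z : G | z ∈ D ∧ ∃ p : G, InR x y p ∧ Dc D z = Dc D p}

section Y3

variable (hTS : IsThreeTranspositionSet D) (hconj : ∀ g : G, ∀ y ∈ D, g * y * g⁻¹ ∈ D)
  {x y : G} (hx : x ∈ D) (hy : y ∈ D) (hnc : NC D x y)

include hTS hconj hx hy hnc

theorem Y3_conj : ∀ t ∈ Y3 D x y, ∀ z ∈ Y3 D x y, t * z * t⁻¹ ∈ Y3 D x y := by
  rintro t ⟨htD, p, hp, htp⟩ z ⟨hzD, q, hq, hzq⟩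
  refine ⟨hconj t z hzD, p * q * p⁻¹, R_closed hTS hconj hx hy hnc hp hq, ?_⟩
  exact conj_blk hTS hconj htD hzD (hp.mem hTS hconj hx hy hnc) (hq.mem hTS hconj hx hy hnc)
    htp hzq (R_nc hTS hconj hx hy hnc hp hq)

theorem Y3_width : ∀ a ∈ Y3 D x y, ∀ b ∈ Y3 D x y, Commute a b → a = b := by
  rintro a ⟨haD, p, hp, hap⟩ b ⟨hbD, q, hq, hbq⟩ hab
  by_contra hne
  rcases R_nc hTS hconj hx hy hnc hp hq with rfl | h
  · exact not_comm_of_blk hbD (hap.trans hbq.symm) hne hab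
  · exact (h.transfer (hp.mem hTS hconj hx hy hnc) hbD hap hbq).1 hab

end Y3

theorem isPGroup_zpowers_of_cube {x : G} (h : x ^ 3 = 1) : IsPGroup 3 (Subgroup.zpowers x) := by
  rintro ⟨y, hy⟩
  obtain ⟨k, rfl⟩ := Subgroup.mem_zpowers_iff.mp hy
  refine ⟨1, ?_⟩
  apply Subtype.ext
  show (x ^ k) ^ (3 ^ 1) = 1
  rw [pow_one, ← zpow_natCast, ← zpow_mul, mul_comm, zpow_mul, zpow_natCast, h, one_zpow]

theorem isPGroup_of_cube_of_comm {a b : G} (hab : Commute a b) (ha : a ^ 3 = 1) (hb : b ^ 3 = 1) :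
    IsPGroup 3 (Subgroup.closure ({a, b} : Set G)) := by
  have hcomm : ∀ x ∈ ({a, b} : Set G), ∀ y ∈ ({a, b} : Set G), x * y = y * x := by
    rintro x (rfl | rfl) y (rfl | rfl)
    · rfl
    · exact hab.eq
    · exact hab.eq.symm
    · rfl
  have hC := Subgroup.isMulCommutative_closure hcomm
  have h3 : ∀ z ∈ Subgroup.closure ({a, b} : Set G), z ^ 3 = 1 := by
    intro z hz
    induction hz using Subgroup.closure_induction with
    | mem z hz =>
      rcases hz with rfl | rfl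
      · exact ha
      · exact hb
    | one => exact one_pow 3
    | mul u v hu hv hu3 hv3 =>
      have hc : u * v = v * u := setLike_mul_comm hu hv
      rw [(show Commute u v from hc).mul_pow, hu3, hv3, one_mul]
    | inv u _ hu3 => rw [inv_pow, hu3, inv_one]
  rintro ⟨z, hz⟩
  refine ⟨1, ?_⟩
  apply Subtype.ext
  show z ^ (3 ^ 1) = 1
  rw [pow_one]
  exact h3 z hz

section BS

variable [Finite G]

theorem eq_one_of_sq_of_mem {z : G} (hz : z ∈ pCore 3 G) (h2 : z ^ 2 = 1) : z = 1 := by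
  obtain ⟨j, hj⟩ := (Cfsg.Agent.helper15.pCore_isPGroup' (G := G) 3) ⟨z, hz⟩
  have hj' : z ^ (3 ^ j) = 1 := by
    have := congrArg Subtype.val hj
    simpa using this
  have h1 : orderOf z ∣ 3 ^ j := orderOf_dvd_of_pow_eq_one hj'
  have h2' : orderOf z ∣ 2 := orderOf_dvd_of_pow_eq_one h2
  have hcop : Nat.Coprime (3 ^ j) 2 := Nat.Coprime.pow_left _ (by norm_num)
  have := Nat.dvd_gcd h1 h2'
  rw [hcop] at this
  exact orderOf_eq_one_iff.mp (Nat.dvd_one.mp this)

/-- members of the same `W`-block have product in `O_3(G)` -/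
theorem mul_mem_pCore_three (hTS : IsThreeTranspositionSet D)
    (hconj : ∀ g : G, ∀ y ∈ D, g * y * g⁻¹ ∈ D) {d w : G} (hd : d ∈ D) (hw : w ∈ D)
    (hdw : Dc D d = Dc D w) : d * w ∈ pCore 3 G := by
  by_cases hne : d = w
  · rw [← hne, sq_one hTS hd]; exact Subgroup.one_mem _
  have hncdw : ¬ Commute d w := not_comm_of_blk hw hdw hne
  have h3 : (d * w) ^ 3 = 1 := cube_of_not_comm hTS hd hw hncdw
  have hX : IsPGroup 3 (Subgroup.zpowers (d * w)) := isPGroup_zpowers_of_cube h3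
  haveI : Fact (Nat.Prime 3) := ⟨Nat.prime_three⟩
  obtain ⟨N, hNn, hNp, hXN⟩ := Cfsg.Agent.S0199.result (p := 3) (Subgroup.zpowers (d * w)) hX (by
    intro g
    have hd' : g * d * g⁻¹ ∈ D := hconj g d hd
    have hw' : g * w * g⁻¹ ∈ D := hconj g w hw
    have hdw' : Dc D (g * d * g⁻¹) = Dc D (g * w * g⁻¹) := Dc_conj_eq hconj g hdw
    have hprod : g * (d * w) * g⁻¹ = (g * d * g⁻¹) * (g * w * g⁻¹) := by group
    -- a common 3-group
    have key : ∃ Q : Subgroup G, IsPGroup 3 Q ∧ d * w ∈ Q ∧ g * (d * w) * g⁻¹ ∈ Q := by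
      by_cases hblk : Dc D (g * d * g⁻¹) = Dc D d
      · obtain ⟨Q, hQ, hmem⟩ := three_group_of_width_one (Y1 D d)
          (ts_subset hTS (fun z hz => hz.1)) (Y1_conj hTS hconj d) (Y1_width d)
        refine ⟨Q, hQ, hmem d ⟨hd, rfl⟩ w ⟨hw, hdw.symm⟩, ?_⟩
        rw [hprod]
        exact hmem _ ⟨hd', hblk⟩ _ ⟨hw', hdw'.symm.trans hblk⟩
      · by_cases hc : Commute d (g * d * g⁻¹)
        · have hne' : g * d * g⁻¹ ≠ d := by
            intro h
            exact hblk (by rw [h])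
          have c1 : Commute d (g * w * g⁻¹) := comm_transfer hd hd' rfl hdw' hne' hc
          have c2 : Commute w (g * d * g⁻¹) := comm_transfer hw hd' hdw rfl hne' hc
          have c3 : Commute w (g * w * g⁻¹) := comm_transfer hw hd' hdw hdw' hne' hc
          have hcc : Commute (d * w) (g * (d * w) * g⁻¹) := by
            rw [hprod]
            exact (hc.mul_right c1).mul_left (c2.mul_right c3)
          have h3' : (g * (d * w) * g⁻¹) ^ 3 = 1 := by
            rw [conj_pow, h3, mul_one, mul_inv_cancel]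
          exact ⟨_, isPGroup_of_cube_of_comm hcc h3 h3', Subgroup.subset_closure (by simp),
            Subgroup.subset_closure (by simp)⟩
        · have hnc : NC D d (g * d * g⁻¹) := ⟨hc, fun h => hblk h.symm⟩
          obtain ⟨Q, hQ, hmem⟩ := three_group_of_width_one (Y3 D d (g * d * g⁻¹))
            (ts_subset hTS (fun z hz => hz.1)) (Y3_conj hTS hconj hd hd' hnc)
            (Y3_width hTS hconj hd hd' hnc)
          refine ⟨Q, hQ, hmem d ⟨hd, d, Or.inl rfl, rfl⟩ w ⟨hw, d, Or.inl rfl, hdw.symm⟩, ?_⟩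
          rw [hprod]
          exact hmem _ ⟨hd', _, Or.inr (Or.inl rfl), rfl⟩ _ ⟨hw', _, Or.inr (Or.inl rfl), hdw'.symm⟩
    obtain ⟨Q, hQ, h1, h2⟩ := key
    apply hQ.to_le
    rw [sup_le_iff]
    constructor
    · rw [Subgroup.zpowers_le]
      exact h1
    · rw [MonoidHom.map_zpowers, Subgroup.zpowers_le]
      exact h2)
  have hle : N ≤ pCore 3 G :=
    le_sSup (show N ∈ {N : Subgroup G | N.Normal ∧ IsPGroup 3 N} from ⟨hNn, hNp⟩)
  exact hle (hXN (Subgroup.mem_zpowers _))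

/-- members of `D` in the same coset of `O_3(G)` have the same commuting partners -/
theorem Dc_sub_of_coset (hTS : IsThreeTranspositionSet D) {u v : G} (hu : u ∈ D) (hv : v ∈ D)
    (h : u⁻¹ * v ∈ pCore 3 G) : Dc D u ⊆ Dc D v := by
  haveI hN : (pCore 3 G).Normal := Cfsg.Agent.helper15.pCore_normal' 3
  rintro y ⟨hyD, hyu, hc⟩
  have huy2 : (u * y) ^ 2 = 1 := by
    rw [hc.mul_pow, pow_two, pow_two, sq_one hTS hu, sq_one hTS hyD, one_mul]
  have hcv : Commute v y := by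
    rcases comm_or_cube hTS hv hyD with hcv | h3
    · exact hcv
    · exfalso
      have hπ : (QuotientGroup.mk u : G ⧸ pCore 3 G) = QuotientGroup.mk v := by
        rw [QuotientGroup.eq]; exact h
      have e1 : (QuotientGroup.mk (u * y) : G ⧸ pCore 3 G) = QuotientGroup.mk (v * y) := by
        rw [QuotientGroup.mk_mul, QuotientGroup.mk_mul, hπ]
      have e3 : (QuotientGroup.mk (u * y) : G ⧸ pCore 3 G) ^ 3 = 1 := by
        rw [e1, ← QuotientGroup.mk_pow, h3, QuotientGroup.mk_one]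
      have e2 : (QuotientGroup.mk (u * y) : G ⧸ pCore 3 G) ^ 2 = 1 := by
        rw [← QuotientGroup.mk_pow, huy2, QuotientGroup.mk_one]
      have e0 : (QuotientGroup.mk (u * y) : G ⧸ pCore 3 G) = 1 := by
        have : (QuotientGroup.mk (u * y) : G ⧸ pCore 3 G) ^ 3 =
            (QuotientGroup.mk (u * y) : G ⧸ pCore 3 G) ^ 2 * QuotientGroup.mk (u * y) :=
          pow_succ _ 2
        rw [e3, e2, one_mul] at this
        exact this.symm
      have hmem : u * y ∈ pCore 3 G := (QuotientGroup.eq_one_iff _).mp e0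
      have h1 := eq_one_of_sq_of_mem hmem huy2
      apply hyu
      have : y = u⁻¹ := (eq_inv_of_mul_eq_one_right h1)
      rw [this, inv_eq hTS hu]
  refine ⟨hyD, ?_, hcv⟩
  rintro rfl
  have e : u⁻¹ * y = u * y := by rw [inv_eq hTS hu]
  rw [e] at h
  have h1 := eq_one_of_sq_of_mem h huy2
  apply hyu
  have : y = u⁻¹ := (eq_inv_of_mul_eq_one_right h1)
  rw [this, inv_eq hTS hu]

end BS

end Cfsg.Agent.h26TTW
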