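import Mathlib
import Cfsg.Agent.Lib_helper15_BaerSuzuki

set_option autoImplicit false

namespace Cfsg.Agent.helper15

/-- Two involutions whose product has order a power of `2` generate a `2`-group. -/
theorem isPGroup_closure_pair_of_involutions {G : Type*} [Group G] [Finite G] (t s : G) (ht : t ^ 2 = 1)
    (hs : s ^ 2 = 1) (k : ℕ) (hk : orderOf (t * s) = 2 ^ k) :
    IsPGroup 2 ↥(Subgroup.closure ({t, s} : Set G)) := by
  have htinv : t⁻¹ = t := by
    rw [inv_eq_iff_mul_eq_one, ← pow_two]; exact ht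
  have hsinv : s⁻¹ = s := by
    rw [inv_eq_iff_mul_eq_one, ← pow_two]; exact hs
  have hu : IsPGroup 2 ↥(Subgroup.zpowers (t * s)) := by
    apply IsPGroup.of_card (n := k)
    rw [Nat.card_zpowers, hk]
  have htp : IsPGroup 2 ↥(Subgroup.zpowers t) := by
    intro x
    refine ⟨1, ?_⟩
    obtain ⟨x, hx⟩ := x
    obtain ⟨n, rfl⟩ := Subgroup.mem_zpowers_iff.1 hx
    apply Subtype.ext
    rw [Subgroup.coe_pow, Subgroup.coe_one, pow_one]
    show (t ^ n) ^ 2 = 1
    rw [← zpow_natCast, ← zpow_mul, mul_comm, zpow_mul, zpow_natCast, ht, one_zpow]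
  have hnorm : Subgroup.zpowers t ≤
      Subgroup.normalizer ((Subgroup.zpowers (t * s) : Subgroup G) : Set G) := by
    rw [Subgroup.zpowers_le]
    apply Subgroup.mem_normalizer_fintype
    intro x hx
    obtain ⟨n, rfl⟩ := Subgroup.mem_zpowers_iff.1 hx
    have h1 : t * (t * s) ^ n * t⁻¹ = (t * (t * s) * t⁻¹) ^ n := by
      rw [← MulAut.conj_apply, map_zpow, MulAut.conj_apply]
    rw [h1]
    have h2 : t * (t * s) * t⁻¹ = (t * s)⁻¹ := by
      rw [mul_inv_rev, hsinv]
      have : t * t = 1 := by rw [← pow_two]; exact ht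
      calc t * (t * s) * t⁻¹ = (t * t) * s * t⁻¹ := by group
        _ = s * t⁻¹ := by rw [this, one_mul]
    rw [h2]
    exact Subgroup.zpow_mem _ (Subgroup.inv_mem _ (Subgroup.mem_zpowers _)) n
  have hsup := IsPGroup.to_sup_of_normal_left' hu htp hnorm
  apply hsup.to_le
  rw [Subgroup.closure_le]
  rintro c (rfl | rfl)
  · exact Subgroup.mem_sup_right (Subgroup.mem_zpowers _)
  · have hmem : t⁻¹ * (t * c) ∈ Subgroup.zpowers (t * c) ⊔ Subgroup.zpowers t :=
      Subgroup.mul_mem _ (Subgroup.mem_sup_right (Subgroup.inv_mem _ (Subgroup.mem_zpowers _)))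
        (Subgroup.mem_sup_left (Subgroup.mem_zpowers _))
    have e : t⁻¹ * (t * c) = c := by group
    rw [e] at hmem
    exact hmem

/-- If the product of two involutions does not have `2`-power order, the first one inverts a
nontrivial element of odd order. -/
theorem exists_inverted_odd {G : Type*} [Group G] [Finite G] (t s : G) (ht : t ^ 2 = 1)
    (hs : s ^ 2 = 1) (hnot : ∀ k : ℕ, orderOf (t * s) ≠ 2 ^ k) :
    ∃ h : G, h ≠ 1 ∧ Odd (orderOf h) ∧ t * h * t⁻¹ = h⁻¹ := by
  have htinv : t⁻¹ = t := by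
    rw [inv_eq_iff_mul_eq_one, ← pow_two]; exact ht
  have hsinv : s⁻¹ = s := by
    rw [inv_eq_iff_mul_eq_one, ← pow_two]; exact hs
  have hpos : orderOf (t * s) ≠ 0 := (orderOf_pos (t * s)).ne'
  obtain ⟨a, m, hm, hord⟩ := Nat.exists_eq_two_pow_mul_odd hpos
  have hm1 : m ≠ 1 := by
    intro h1
    rw [h1, mul_one] at hord
    exact hnot a hord
  have hordh : orderOf ((t * s) ^ (2 ^ a)) = m := by
    rw [orderOf_pow, hord, Nat.gcd_eq_right (Dvd.intro _ rfl)]
    exact Nat.mul_div_cancel_left m (by positivity)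
  refine ⟨(t * s) ^ (2 ^ a), ?_, by rw [hordh]; exact hm, ?_⟩
  · intro h1
    rw [h1, orderOf_one] at hordh
    exact hm1 hordh.symm
  · have h1 : t * (t * s) ^ (2 ^ a) * t⁻¹ = (t * (t * s) * t⁻¹) ^ (2 ^ a) := by
      rw [← MulAut.conj_apply, map_pow, MulAut.conj_apply]
    rw [h1]
    have h2 : t * (t * s) * t⁻¹ = (t * s)⁻¹ := by
      rw [mul_inv_rev, hsinv]
      have : t * t = 1 := by rw [← pow_two]; exact ht
      calc t * (t * s) * t⁻¹ = (t * t) * s * t⁻¹ := by group
        _ = s * t⁻¹ := by rw [this, one_mul]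
    rw [h2, inv_pow]

/-- An involution outside `O₂(G)` inverts a nontrivial element of odd order. -/
theorem exists_inverted_odd_of_not_mem_iInf_sylow {G : Type*} [Group G] [Finite G] (t : G)
    (ht : t ^ 2 = 1) (hO : t ∉ (⨅ P : Sylow 2 G, (P : Subgroup G))) :
    ∃ h : G, h ≠ 1 ∧ Odd (orderOf h) ∧ t * h * t⁻¹ = h⁻¹ := by
  by_contra hno
  apply hO
  haveI : Fact (Nat.Prime 2) := ⟨Nat.prime_two⟩
  apply mem_iInf_sylow_of_baer_suzuki
  intro g
  have hs : (g * t * g⁻¹) ^ 2 = 1 := by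
    rw [← MulAut.conj_apply, ← map_pow, ht, map_one]
  by_cases hk : ∃ k : ℕ, orderOf (t * (g * t * g⁻¹)) = 2 ^ k
  · obtain ⟨k, hk⟩ := hk
    exact isPGroup_closure_pair_of_involutions t _ ht hs k hk
  · push Not at hk
    exact absurd (exists_inverted_odd t _ ht hs hk) hno

end Cfsg.Agent.helper15
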