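import Mathlib
import Cfsg.Agent.Lib_helper11_A4S4
import Cfsg.Prelude.Def_SporadicB

set_option autoImplicit false

/-!
# Copies of the symmetric group of degree four generated by a 3-string of 3-transpositions
-/

namespace Cfsg.Agent.h26S4

open Cfsg

theorem exists_injective_S4' {G : Type*} [Group G] (r₁ r₂ r₃ : G) (h1 : r₁ ^ 2 = 1)
    (h2 : r₂ ^ 2 = 1) (h3 : r₃ ^ 2 = 1) (h12 : (r₁ * r₂) ^ 3 = 1) (h23 : (r₂ * r₃) ^ 3 = 1)
    (h13 : (r₁ * r₃) ^ 2 = 1) (hne : r₁ * r₃ ≠ 1) :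
    ∃ ψ : Equiv.Perm (Fin 4) →* G, Function.Injective ψ ∧ ψ (Equiv.swap 0 1) = r₁ ∧
      ψ (Equiv.swap 1 2) = r₂ ∧ ψ (Equiv.swap 2 3) = r₃ := by
  obtain ⟨cs, hcs⟩ := Cfsg.Agent.S2530.result 3
  have hinv : ∀ r : G, r ^ 2 = 1 → r⁻¹ = r := by
    intro r hr
    rw [inv_eq_iff_mul_eq_one, ← sq, hr]
  have hrev : ∀ (a b : G) (n : ℕ), a ^ 2 = 1 → b ^ 2 = 1 → (a * b) ^ n = 1 → (b * a) ^ n = 1 := by
    intro a b n ha hb hab
    have : b * a = (a * b)⁻¹ := by rw [mul_inv_rev, hinv a ha, hinv b hb]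
    rw [this, inv_pow, hab, inv_one]
  let f : Fin 3 → G := ![r₁, r₂, r₃]
  have key : ∀ i j : Fin 3, CoxeterMatrix.A 3 i j
      = (![![1, 3, 2], ![3, 1, 3], ![2, 3, 1]] : Fin 3 → Fin 3 → ℕ) i j := by
    intro i j
    fin_cases i <;> fin_cases j <;> rfl
  have hf : (CoxeterMatrix.A 3).IsLiftable f := by
    intro i j
    rw [key]
    fin_cases i <;> fin_cases j
    · show (r₁ * r₁) ^ 1 = 1
      rw [pow_one, ← sq, h1]
    · exact h12
    · exact h13
    · exact hrev _ _ _ h1 h2 h12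
    · show (r₂ * r₂) ^ 1 = 1
      rw [pow_one, ← sq, h2]
    · exact h23
    · exact hrev _ _ _ h1 h3 h13
    · exact hrev _ _ _ h2 h3 h23
    · show (r₃ * r₃) ^ 1 = 1
      rw [pow_one, ← sq, h3]
  let ψ : Equiv.Perm (Fin 4) →* G := cs.lift ⟨f, hf⟩
  have hs0 : cs.simple 0 = Equiv.swap (0 : Fin 4) 1 := hcs 0
  have hs1 : cs.simple 1 = Equiv.swap (1 : Fin 4) 2 := hcs 1
  have hs2 : cs.simple 2 = Equiv.swap (2 : Fin 4) 3 := hcs 2
  have hv0 : ψ (Equiv.swap 0 1) = r₁ := by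
    rw [← hs0]
    show cs.lift ⟨f, hf⟩ (cs.simple 0) = _
    rw [cs.lift_apply_simple hf]
    rfl
  have hv1 : ψ (Equiv.swap 1 2) = r₂ := by
    rw [← hs1]
    show cs.lift ⟨f, hf⟩ (cs.simple 1) = _
    rw [cs.lift_apply_simple hf]
    rfl
  have hv2 : ψ (Equiv.swap 2 3) = r₃ := by
    rw [← hs2]
    show cs.lift ⟨f, hf⟩ (cs.simple 2) = _
    rw [cs.lift_apply_simple hf]
    rfl
  have hψ : ψ (Equiv.swap 0 1 * Equiv.swap 2 3) = r₁ * r₃ := by
    rw [map_mul, hv0, hv2]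
  exact ⟨ψ, Cfsg.Agent.helper11.A4S4.s4_injective ψ (by rw [hψ]; exact hne), hv0, hv1, hv2⟩

section tt

variable {G : Type*} [Group G] {D : Set G}

theorem sq_eq_one_of_mem (hD : IsThreeTranspositionSet D) {a : G} (ha : a ∈ D) : a ^ 2 = 1 := by
  have := hD.1 a ha
  rw [← this]; exact pow_orderOf_eq_one a

theorem inv_eq_of_mem (hD : IsThreeTranspositionSet D) {a : G} (ha : a ∈ D) : a⁻¹ = a := by
  rw [inv_eq_iff_mul_eq_one, ← sq, sq_eq_one_of_mem hD ha]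

theorem ne_one_of_mem (hD : IsThreeTranspositionSet D) {a : G} (ha : a ∈ D) : a ≠ 1 := by
  intro h
  have := hD.1 a ha
  rw [h, orderOf_one] at this
  omega

theorem commute_of_sq (hD : IsThreeTranspositionSet D) {a b : G} (ha : a ∈ D) (hb : b ∈ D)
    (h : (a * b) ^ 2 = 1) : Commute a b := by
  have h1 : a * b * (a * b) = 1 := by rw [← sq]; exact h
  have h2 : a * b = (a * b)⁻¹ := by
    rw [eq_inv_iff_mul_eq_one]; exact h1
  rw [mul_inv_rev, inv_eq_of_mem hD ha, inv_eq_of_mem hD hb] at h2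
  exact h2

theorem cube_of_not_commute (hD : IsThreeTranspositionSet D) {a b : G} (ha : a ∈ D) (hb : b ∈ D)
    (h : ¬ Commute a b) : (a * b) ^ 3 = 1 := by
  rcases hD.2 a ha b hb with h2 | h3
  · exact (h (commute_of_sq hD ha hb h2)).elim
  · exact h3

theorem sq_of_commute (hD : IsThreeTranspositionSet D) {a b : G} (ha : a ∈ D) (hb : b ∈ D)
    (h : Commute a b) : (a * b) ^ 2 = 1 := by
  rw [h.mul_pow, sq_eq_one_of_mem hD ha, sq_eq_one_of_mem hD hb, one_mul]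

/-- a 3-string generates a copy of the symmetric group of degree four. -/
theorem exists_S4_of_string (hD : IsThreeTranspositionSet D) {a b c : G} (ha : a ∈ D) (hb : b ∈ D)
    (hc : c ∈ D) (hac : a ≠ c) (hac' : Commute a c) (hab : ¬ Commute a b) (hbc : ¬ Commute b c) :
    ∃ φ : Equiv.Perm (Fin 4) →* G, Function.Injective φ ∧ φ (Equiv.swap 0 1) = a ∧
      φ (Equiv.swap 1 2) = b ∧ φ (Equiv.swap 2 3) = c := by
  apply exists_injective_S4' a b c (sq_eq_one_of_mem hD ha) (sq_eq_one_of_mem hD hb)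
    (sq_eq_one_of_mem hD hc) (cube_of_not_commute hD ha hb hab) (cube_of_not_commute hD hb hc hbc)
    (sq_of_commute hD ha hc hac')
  intro h
  apply hac
  have : c = a⁻¹ := by rw [eq_inv_iff_mul_eq_one, ← h]; exact (hac'.eq).symm
  rw [this, inv_eq_of_mem hD ha]

end tt

end Cfsg.Agent.h26S4
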