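import Mathlib
import Cfsg.Agent.Lib_helper26_S4
import Cfsg.Agent.Lib_helper15_BaerSuzuki2
import Cfsg.Agent.S0199
import Cfsg.Prelude.Def_Solvable

set_option autoImplicit false

/-!
# 3-transpositions with the same commuting partners differ by an element of `O_2`
-/

namespace Cfsg.Agent.h26TT

open Cfsg Cfsg.Agent.h26S4

variable {G : Type*} [Group G] {D : Set G}

theorem conj_commute_iff' (g a b : G) :
    Commute (g * a * g⁻¹) (g * b * g⁻¹) ↔ Commute a b := by
  constructor
  · intro h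
    have h1 : g * a * g⁻¹ * (g * b * g⁻¹) = g * b * g⁻¹ * (g * a * g⁻¹) := h
    have h2 : g * (a * b) * g⁻¹ = g * (b * a) * g⁻¹ := by
      calc g * (a * b) * g⁻¹ = g * a * g⁻¹ * (g * b * g⁻¹) := by group
        _ = g * b * g⁻¹ * (g * a * g⁻¹) := h1
        _ = g * (b * a) * g⁻¹ := by group
    exact mul_left_cancel (mul_right_cancel h2)
  · intro h
    have h1 : a * b = b * a := h
    show g * a * g⁻¹ * (g * b * g⁻¹) = g * b * g⁻¹ * (g * a * g⁻¹)
    calc g * a * g⁻¹ * (g * b * g⁻¹) = g * (a * b) * g⁻¹ := by group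
      _ = g * (b * a) * g⁻¹ := by rw [h1]
      _ = g * b * g⁻¹ * (g * a * g⁻¹) := by group

/-- `v` has the same commuting partners in `D` as `d`. -/
def SameComm (D : Set G) (d v : G) : Prop := ∀ e ∈ D, Commute v e ↔ Commute d e

theorem SameComm.conj (hconj : ∀ g : G, ∀ y ∈ D, g * y * g⁻¹ ∈ D) {d v : G}
    (h : SameComm D d v) (g : G) : SameComm D (g * d * g⁻¹) (g * v * g⁻¹) := by
  intro e he
  have he' : g⁻¹ * e * g⁻¹⁻¹ ∈ D := hconj g⁻¹ e he
  have ee : e = g * (g⁻¹ * e * g⁻¹⁻¹) * g⁻¹ := by group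
  rw [ee, conj_commute_iff', conj_commute_iff']
  exact h _ he'

theorem pow_four_eq_one (hTS : IsThreeTranspositionSet D)
    (hconj : ∀ g : G, ∀ y ∈ D, g * y * g⁻¹ ∈ D) {d v : G} (hd : d ∈ D) (hv : v ∈ D)
    (hdv : SameComm D d v) (hne : d ≠ v) (g : G) :
    ((d * v) * (g * (d * v) * g⁻¹)) ^ 4 = 1 := by
  have hcdv : Commute d v := ((hdv d hd).mpr (Commute.refl d)).symm
  have he : g * d * g⁻¹ ∈ D := hconj g d hd
  have hw : g * v * g⁻¹ ∈ D := hconj g v hv
  have hew : SameComm D (g * d * g⁻¹) (g * v * g⁻¹) := hdv.conj hconj g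
  have hcew : Commute (g * d * g⁻¹) (g * v * g⁻¹) := (conj_commute_iff' g d v).mpr hcdv
  have hs : g * (d * v) * g⁻¹ = (g * d * g⁻¹) * (g * v * g⁻¹) := by group
  rw [hs]
  set e := g * d * g⁻¹ with he_def
  set w := g * v * g⁻¹ with hw_def
  have ht2 : (d * v) ^ 2 = 1 := sq_of_commute hTS hd hv hcdv
  have hs2 : (e * w) ^ 2 = 1 := sq_of_commute hTS he hw hcew
  by_cases hde : Commute d e
  · have hve : Commute v e := (hdv e he).mpr hde
    have hwd : Commute w d := (hew d hd).mpr hde.symm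
    have hwv : Commute w v := (hew v hv).mpr hve.symm
    have hc : Commute (d * v) (e * w) :=
      (hde.mul_right hwd.symm).mul_left (hve.mul_right hwv.symm)
    have h2 : ((d * v) * (e * w)) ^ 2 = 1 := by rw [hc.mul_pow, ht2, hs2, one_mul]
    have : (4 : ℕ) = 2 * 2 := rfl
    rw [this, pow_mul, h2, one_pow]
  · have hev : ¬ Commute e v := fun h => hde ((hdv e he).mp h.symm)
    obtain ⟨φ, hφinj, h01, h12, h23⟩ := exists_S4_of_string hTS hd he hv hne hcdv hde hev
    have e03 : (Equiv.swap (0 : Fin 4) 3) =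
        (Equiv.swap 0 1 * Equiv.swap 2 3) * Equiv.swap 1 2 * (Equiv.swap 0 1 * Equiv.swap 2 3)⁻¹ := by
      decide
    have e2 : Commute (Equiv.swap (1 : Fin 4) 2) (Equiv.swap (0 : Fin 4) 3) := by
      show _ * _ = _ * _
      decide
    have hx : φ (Equiv.swap 0 3) = (d * v) * e * (d * v)⁻¹ := by
      rw [e03, map_mul, map_mul, map_inv, map_mul, h01, h12, h23]
    set x := (d * v) * e * (d * v)⁻¹ with hx_def
    set y := (d * v) * w * (d * v)⁻¹ with hy_def
    have hxD : x ∈ D := hconj _ _ he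
    have hyD : y ∈ D := hconj _ _ hw
    have hex : Commute e x := by
      rw [← hx, ← h12]; exact e2.map φ
    have hxy : SameComm D x y := hew.conj hconj (d * v)
    have hwe : Commute w e := (hew e he).mpr (Commute.refl e)
    have hwx : Commute w x := (hew x hxD).mpr hex
    have hyw : Commute y w := (hxy w hw).mpr hwx.symm
    have hye : Commute y e := (hxy e he).mpr hex.symm
    have hyx : Commute y x := (hxy x hxD).mpr (Commute.refl x)
    have hc : Commute (x * y) (e * w) :=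
      (hex.symm.mul_right hwx.symm).mul_left (hye.mul_right hyw)
    have htinv : (d * v)⁻¹ = d * v := by
      rw [inv_eq_iff_mul_eq_one, ← sq, ht2]
    have hconjs : (d * v) * (e * w) * (d * v)⁻¹ = x * y := by
      rw [hx_def, hy_def]; group
    have hxy2 : (x * y) ^ 2 = 1 := by
      rw [← hconjs, conj_pow, hs2, mul_one, mul_inv_cancel]
    have h2 : ((d * v) * (e * w)) ^ 2 = (x * y) * (e * w) := by
      rw [sq, ← hconjs]
      conv_rhs => rw [htinv]
      group
    have : (4 : ℕ) = 2 * 2 := rfl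
    rw [this, pow_mul, h2, hc.mul_pow, hxy2, hs2, one_mul]

theorem mul_mem_pCore_two [Finite G] (hTS : IsThreeTranspositionSet D)
    (hconj : ∀ g : G, ∀ y ∈ D, g * y * g⁻¹ ∈ D) {d v : G} (hd : d ∈ D) (hv : v ∈ D)
    (hdv : SameComm D d v) : d * v ∈ pCore 2 G := by
  by_cases hne : d = v
  · rw [← hne, ← sq, sq_eq_one_of_mem hTS hd]; exact Subgroup.one_mem _
  have hcdv : Commute d v := ((hdv d hd).mpr (Commute.refl d)).symm
  have ht2 : (d * v) ^ 2 = 1 := sq_of_commute hTS hd hv hcdv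
  have hX : IsPGroup 2 (Subgroup.zpowers (d * v)) := by
    apply IsPGroup.of_card (n := 1)
    rw [Nat.card_zpowers, pow_one]
    apply orderOf_eq_prime ht2
    intro h
    apply hne
    have : v = d⁻¹ := by rw [eq_inv_iff_mul_eq_one, ← h]; exact (hcdv.eq).symm
    rw [this, inv_eq_of_mem hTS hd]
  haveI : Fact (Nat.Prime 2) := ⟨Nat.prime_two⟩
  obtain ⟨N, hNn, hNp, hXN⟩ := Cfsg.Agent.S0199.result (p := 2) (Subgroup.zpowers (d * v)) hX (by
    intro g
    have h4 := pow_four_eq_one hTS hconj hd hv hdv hne g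
    have hs2 : (g * (d * v) * g⁻¹) ^ 2 = 1 := by rw [conj_pow, ht2, mul_one, mul_inv_cancel]
    have hdvd : orderOf ((d * v) * (g * (d * v) * g⁻¹)) ∣ 2 ^ 2 := orderOf_dvd_of_pow_eq_one h4
    obtain ⟨k, -, hk⟩ := (Nat.dvd_prime_pow Nat.prime_two).mp hdvd
    have hP := Cfsg.Agent.helper15.isPGroup_closure_pair_of_involutions _ _ ht2 hs2 k hk
    apply hP.to_le
    rw [sup_le_iff]
    constructor
    · rw [Subgroup.zpowers_le]
      exact Subgroup.subset_closure (by simp)
    · rw [MonoidHom.map_zpowers, Subgroup.zpowers_le]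
      exact Subgroup.subset_closure (by simp))
  have hle : N ≤ pCore 2 G := le_sSup (show N ∈ {N : Subgroup G | N.Normal ∧ IsPGroup 2 N} from ⟨hNn, hNp⟩)
  exact hle (hXN (Subgroup.mem_zpowers _))

end Cfsg.Agent.h26TT
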