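import Cfsg.Statements.S5349
import Cfsg.Agent.Lib_helper26_TTVd
import Cfsg.Agent.Lib_helper15_CharP

set_option autoImplicit false
open Cfsg

namespace Cfsg.Agent.S5349

open Cfsg.Agent.h26S4 in
/-- members of `D` congruent modulo a normal `2`-subgroup commute with the same members. -/
theorem commute_of_mod_two {G : Type*} [Group G] {D : Set G} (hTS : Cfsg.IsThreeTranspositionSet D)
    (O : Subgroup G) [O.Normal] (hO : IsPGroup 2 O) {x y e : G} (hx : x ∈ D) (hy : y ∈ D)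
    (he : e ∈ D) (hxy : x⁻¹ * y ∈ O) (hxe : Commute x e) : Commute y e := by
  by_contra hye
  have h3 : (y * e) ^ 3 = 1 := cube_of_not_commute hTS hy he hye
  have h2 : (x * e) ^ 2 = 1 := sq_of_commute hTS hx he hxe
  have hmk : (QuotientGroup.mk y : G ⧸ O) = QuotientGroup.mk x := by
    rw [QuotientGroup.eq]
    have : y⁻¹ * x = (x⁻¹ * y)⁻¹ := by group
    rw [this]; exact O.inv_mem hxy
  have hsq : (y * e) ^ 2 ∈ O := by
    rw [← QuotientGroup.eq_one_iff, QuotientGroup.mk_pow, QuotientGroup.mk_mul, hmk,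
      ← QuotientGroup.mk_mul, ← QuotientGroup.mk_pow, h2]
    rfl
  have hyeO : y * e ∈ O := by
    have e1 : y * e = (y * e) ^ 3 * ((y * e) ^ 2)⁻¹ := by group
    rw [e1, h3, one_mul]
    exact O.inv_mem hsq
  obtain ⟨k, hk⟩ := hO ⟨y * e, hyeO⟩
  have hk' : (y * e) ^ 2 ^ k = 1 := by
    have := congrArg Subtype.val hk
    simpa using this
  have h1 : orderOf (y * e) ∣ Nat.gcd (2 ^ k) 3 :=
    Nat.dvd_gcd (orderOf_dvd_of_pow_eq_one hk') (orderOf_dvd_of_pow_eq_one h3)
  have hg : Nat.gcd (2 ^ k) 3 = 1 := Nat.Coprime.pow_left k (by norm_num)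
  rw [hg, Nat.dvd_one, orderOf_eq_one_iff] at h1
  apply hye
  have : y = e⁻¹ := eq_inv_of_mul_eq_one_left h1
  rw [this]
  exact (Commute.refl e).inv_left

/-- Let D be a conjugacy class of 3-transpositions generating the finite group G, with at least two members, and d a member of D. Then the set of members of D commuting with exactly the same members of D as d coincides with the set of members of D lying in the coset of d modulo the largest normal 2-subgroup of G, and also with the orbit of d under conjugation by that normal 2-subgroup. -/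
theorem result {G : Type*} [Group G] [Finite G] {D : Set G} (hD : Cfsg.IsThreeTranspositionClass D) (hD2 : ∃ a ∈ D, ∃ b ∈ D, a ≠ b) {d : G} (hd : d ∈ D) : {v : G | v ∈ D ∧ ∀ e ∈ D, Commute v e ↔ Commute d e} = {v : G | v ∈ D ∧ d⁻¹ * v ∈ Cfsg.pCore 2 G} ∧ {v : G | v ∈ D ∧ ∀ e ∈ D, Commute v e ↔ Commute d e} = {v : G | ∃ g ∈ Cfsg.pCore 2 G, v = g * d * g⁻¹} := by
  obtain ⟨hTS, ⟨d₀, hd₀, hDc⟩, hgen⟩ := hD
  have hconj : ∀ g : G, ∀ y ∈ D, g * y * g⁻¹ ∈ D := by
    intro g y hy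
    rw [hDc] at hy ⊢
    have hy' : IsConj d₀ y := hy
    exact (hy'.trans (isConj_iff.mpr ⟨g, rfl⟩) : IsConj d₀ (g * y * g⁻¹))
  have htrans : ∀ x ∈ D, ∃ g : G, x = g * d * g⁻¹ := by
    intro x hx
    have h1 : IsConj d₀ d := by
      have := hd; rw [hDc] at this; exact this
    have h2 : IsConj d₀ x := by
      have := hx; rw [hDc] at this; exact this
    obtain ⟨g, hg⟩ := isConj_iff.mp (h1.symm.trans h2)
    exact ⟨g, hg.symm⟩
  haveI hOn : (Cfsg.pCore 2 G).Normal := Cfsg.Agent.helper15.pCore_normal' 2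
  have hOp : IsPGroup 2 (Cfsg.pCore 2 G) := Cfsg.Agent.helper15.pCore_isPGroup' 2
  have hexa : ∃ a ∈ D, ¬ Commute d a := by
    by_contra hcon
    push Not at hcon
    have hcen : d ∈ Subgroup.center G := by
      rw [Subgroup.mem_center_iff]
      have hle : Subgroup.closure D ≤ Subgroup.centralizer {d} := by
        rw [Subgroup.closure_le]
        intro y hy
        rw [SetLike.mem_coe, Subgroup.mem_centralizer_iff]
        intro z hz
        rw [Set.mem_singleton_iff] at hz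
        rw [hz]
        exact (hcon y hy).eq
      intro g
      have hg : g ∈ Subgroup.centralizer {d} := hle (hgen ▸ Subgroup.mem_top g)
      exact (Subgroup.mem_centralizer_iff.mp hg d rfl).symm
    have hall : ∀ x ∈ D, x = d := by
      intro x hx
      obtain ⟨g, hg⟩ := htrans x hx
      rw [hg]
      have := Subgroup.mem_center_iff.mp hcen g
      rw [this, mul_inv_cancel_right]
    obtain ⟨a, ha, b, hb, hab⟩ := hD2
    exact hab ((hall a ha).trans (hall b hb).symm)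
  have hAC : ∀ v, (v ∈ D ∧ ∀ e ∈ D, Commute v e ↔ Commute d e) →
      ∃ g ∈ Cfsg.pCore 2 G, v = g * d * g⁻¹ := by
    rintro v ⟨hv, hvd⟩
    by_cases hne : d = v
    · exact ⟨1, Subgroup.one_mem _, by rw [← hne]; group⟩
    obtain ⟨a, ha, hda⟩ := hexa
    have hcdv : Commute d v := ((hvd d hd).mpr (Commute.refl d)).symm
    have hav : ¬ Commute a v := fun h => hda ((hvd a ha).mp h.symm)
    obtain ⟨φ, hφinj, h01, h12, h23⟩ :=
      Cfsg.Agent.h26S4.exists_S4_of_string hTS hd ha hv hne hcdv hda hav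
    have ht : d * v ∈ Cfsg.pCore 2 G := Cfsg.Agent.h26TT.mul_mem_pCore_two hTS hconj hd hv hvd
    have eg : (Equiv.swap (0 : Fin 4) 2 * Equiv.swap 1 3) =
        Equiv.swap 0 2 * (Equiv.swap 0 1 * Equiv.swap 2 3) * (Equiv.swap 0 2)⁻¹ *
          (Equiv.swap 0 1 * Equiv.swap 2 3)⁻¹ := by decide
    have ec : (Equiv.swap (2 : Fin 4) 3) =
        (Equiv.swap 0 2 * Equiv.swap 1 3) * Equiv.swap 0 1 * (Equiv.swap 0 2 * Equiv.swap 1 3)⁻¹ := by
      decide
    refine ⟨φ (Equiv.swap 0 2 * Equiv.swap 1 3), ?_, ?_⟩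
    · rw [eg, map_mul, map_mul, map_mul, map_inv, map_inv, map_mul, h01, h23]
      exact Subgroup.mul_mem _ (hOn.conj_mem _ ht _) (Subgroup.inv_mem _ ht)
    · rw [← h23, ← h01, ← map_inv, ← map_mul, ← map_mul, ← ec]
  have hCB : ∀ v, (∃ g ∈ Cfsg.pCore 2 G, v = g * d * g⁻¹) → v ∈ D ∧ d⁻¹ * v ∈ Cfsg.pCore 2 G := by
    rintro v ⟨g, hg, rfl⟩
    refine ⟨hconj g d hd, ?_⟩
    have h1 := hOn.conj_mem g hg d⁻¹
    have e1 : d⁻¹ * (g * d * g⁻¹) = (d⁻¹ * g * d⁻¹⁻¹) * g⁻¹ := by group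
    rw [e1]
    exact Subgroup.mul_mem _ h1 (Subgroup.inv_mem _ hg)
  have hBA : ∀ v, (v ∈ D ∧ d⁻¹ * v ∈ Cfsg.pCore 2 G) → v ∈ D ∧ ∀ e ∈ D, Commute v e ↔ Commute d e := by
    rintro v ⟨hv, hvO⟩
    refine ⟨hv, fun e he => ⟨fun h => ?_, fun h => ?_⟩⟩
    · have hvO' : v⁻¹ * d ∈ Cfsg.pCore 2 G := by
        have : v⁻¹ * d = (d⁻¹ * v)⁻¹ := by group
        rw [this]; exact Subgroup.inv_mem _ hvO
      exact commute_of_mod_two hTS _ hOp hv hd he hvO' h
    · exact commute_of_mod_two hTS _ hOp hd hv he hvO h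
  constructor
  · ext v
    exact ⟨fun h => hCB v (hAC v h), fun h => hBA v h⟩
  · ext v
    exact ⟨fun h => hAC v h, fun h => hBA v (hCB v h)⟩

end Cfsg.Agent.S5349
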