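import Mathlib
import Cfsg.Agent.S5349
import Cfsg.Agent.Lib_helper26_TTW2

set_option autoImplicit false
set_option linter.style.haveILetI false
set_option linter.unusedSectionVars false
set_option linter.unusedVariables false

/-! 3-transposition groups with `D_d = V_d`: a `d`-invariant Sylow 3-subgroup. -/

open Cfsg

namespace Cfsg.Agent.h26TTX

open Cfsg.Agent.h26TTW

variable {G : Type*} [Group G]

theorem two_three_eq_one {x : G} {k j : ℕ} (h2 : x ^ (2 ^ k) = 1) (h3 : x ^ (3 ^ j) = 1) : x = 1 := by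
  have h1 : orderOf x ∣ 2 ^ k := orderOf_dvd_of_pow_eq_one h2
  have h1' : orderOf x ∣ 3 ^ j := orderOf_dvd_of_pow_eq_one h3
  have hcop : Nat.Coprime (2 ^ k) (3 ^ j) := Nat.Coprime.pow _ _ (by norm_num)
  have := Nat.dvd_gcd h1 h1'
  rw [hcop] at this
  exact orderOf_eq_one_iff.mp (Nat.dvd_one.mp this)

theorem exists_normalizing_in [Finite G] {p : ℕ} [Fact p.Prime] {H K : Subgroup G}
    (hK : IsPGroup p K) (hlt : H < K) :
    ∃ x ∈ K, x ∉ H ∧ x ∈ Subgroup.normalizer (H : Set G) := by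
  haveI : Group.IsNilpotent ↥K := hK.isNilpotent
  have hne : H.subgroupOf K < ⊤ := by
    rw [lt_top_iff_ne_top, Ne, Subgroup.subgroupOf_eq_top]
    exact not_le_of_gt hlt
  have h1 := Group.normalizerCondition_of_isNilpotent (G := ↥K) (H.subgroupOf K) hne
  obtain ⟨g, hgN, hgH⟩ := SetLike.exists_of_lt h1
  refine ⟨g, g.2, ?_, ?_⟩
  · intro hg
    exact hgH (Subgroup.mem_subgroupOf.mpr hg)
  · rw [Subgroup.mem_normalizer_iff] at hgN ⊢
    intro h
    constructor
    · intro hh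
      have := (hgN ⟨h, hlt.le hh⟩).mp (Subgroup.mem_subgroupOf.mpr hh)
      exact Subgroup.mem_subgroupOf.mp this
    · intro hh
      have hK' : h ∈ K := by
        have h1 : (g : G) * h * (g : G)⁻¹ ∈ K := hlt.le hh
        have h2 : h = (g : G)⁻¹ * ((g : G) * h * (g : G)⁻¹) * (g : G) := by group
        rw [h2]
        exact K.mul_mem (K.mul_mem (K.inv_mem g.2) h1) g.2
      have := (hgN ⟨h, hK'⟩).mpr (Subgroup.mem_subgroupOf.mpr hh)
      exact Subgroup.mem_subgroupOf.mp this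

theorem le_sup_of_pquot [Finite G] {p : ℕ} [hp : Fact p.Prime] (N H R : Subgroup G) [hN : N.Normal]
    (hRH : R ≤ H) (hR : ¬ p ∣ R.relIndex H) (hq : ∀ h ∈ H, ∃ j : ℕ, h ^ (p ^ j) ∈ N) :
    H ≤ N ⊔ R := by
  haveI : (N.subgroupOf H).Normal := hN.subgroupOf H
  have hpq : IsPGroup p (↥H ⧸ N.subgroupOf H) := by
    intro z
    obtain ⟨h, rfl⟩ := QuotientGroup.mk_surjective z
    obtain ⟨j, hj⟩ := hq h.1 h.2
    refine ⟨j, ?_⟩
    rw [← QuotientGroup.mk_pow, QuotientGroup.eq_one_iff]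
    exact Subgroup.mem_subgroupOf.mpr (by simpa using hj)
  obtain ⟨k, hk⟩ := (IsPGroup.iff_card (p := p)).mp hpq
  have hidx : N.relIndex H = p ^ k := by
    rw [Subgroup.relIndex, Subgroup.index_eq_card]; exact hk
  have h1 : ((N ⊓ H) ⊔ R).relIndex H ∣ p ^ k := by
    rw [← hidx, ← Subgroup.inf_relIndex_right N H]
    exact Subgroup.relIndex_dvd_of_le_left H le_sup_left
  have h2 : ((N ⊓ H) ⊔ R).relIndex H ∣ R.relIndex H :=
    Subgroup.relIndex_dvd_of_le_left H le_sup_right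
  obtain ⟨i, hi, hKi⟩ := (Nat.dvd_prime_pow hp.out).mp h1
  have hi0 : i = 0 := by
    by_contra h0
    apply hR
    have : p ∣ ((N ⊓ H) ⊔ R).relIndex H := by rw [hKi]; exact dvd_pow_self p h0
    exact this.trans h2
  rw [hi0, pow_zero] at hKi
  have hHK : H ≤ (N ⊓ H) ⊔ R := Subgroup.relIndex_eq_one.mp hKi
  exact hHK.trans (sup_le (le_sup_of_le_left inf_le_left) le_sup_right)

theorem conj_mem_sup {A B : Subgroup G} {d : G} (hA : ∀ h ∈ A, d * h * d⁻¹ ∈ A)
    (hB : ∀ h ∈ B, d * h * d⁻¹ ∈ B) : ∀ h ∈ A ⊔ B, d * h * d⁻¹ ∈ A ⊔ B := by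
  intro h hh
  rw [Subgroup.sup_eq_closure] at hh
  induction hh using Subgroup.closure_induction with
  | mem z hz =>
    rcases hz with hz | hz
    · exact Subgroup.mem_sup_left (hA z hz)
    · exact Subgroup.mem_sup_right (hB z hz)
  | one =>
    have : d * 1 * d⁻¹ = 1 := by group
    rw [this]; exact Subgroup.one_mem _
  | mul u v _ _ hu hv =>
    have : d * (u * v) * d⁻¹ = (d * u * d⁻¹) * (d * v * d⁻¹) := by group
    rw [this]; exact Subgroup.mul_mem _ hu hv
  | inv u _ hu =>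
    have : d * u⁻¹ * d⁻¹ = (d * u * d⁻¹)⁻¹ := by group
    rw [this]; exact Subgroup.inv_mem _ hu

theorem mem_normalizer_of_invol {H : Subgroup G} {d : G} (hdd : d * d = 1)
    (h : ∀ z ∈ H, d * z * d⁻¹ ∈ H) : d ∈ Subgroup.normalizer (H : Set G) := by
  have hdinv : d⁻¹ = d := inv_eq_of_mul_eq_one_left hdd
  rw [Subgroup.mem_normalizer_iff]
  intro z
  constructor
  · exact h z
  · intro hz
    have := h _ hz
    have e : d * (d * z * d⁻¹) * d⁻¹ = (d * d) * z * (d * d)⁻¹ := by group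
    rw [e, hdd, inv_one, mul_one, one_mul] at this
    exact this

theorem conj_mem_of_mem_normalizer {H : Subgroup G} {d : G}
    (h : d ∈ Subgroup.normalizer (H : Set G)) : ∀ z ∈ H, d * z * d⁻¹ ∈ H := by
  intro z hz
  exact (Subgroup.mem_normalizer_iff.mp h z).mp hz

/-- Main theorem: `D_d = V_d` implies a `d`-invariant Sylow 3-subgroup `P` with `G = ⟨d⟩ P O_2(G)`. -/
theorem main [Finite G] {D : Set G} (hD : IsThreeTranspositionClass D)
    (hD2 : ∃ a ∈ D, ∃ b ∈ D, a ≠ b) {d : G} (hd : d ∈ D)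
    (hV : {y : G | y ∈ D ∧ Commute d y} =
      {v : G | v ∈ D ∧ ∀ e ∈ D, Commute v e ↔ Commute d e}) :
    ∃ P : Sylow 3 G, d ∈ Subgroup.normalizer (P : Set G) ∧
      Subgroup.zpowers d ⊔ (P : Subgroup G) ⊔ Cfsg.pCore 2 G = ⊤ := by
  classical
  haveI : Fact (Nat.Prime 3) := ⟨Nat.prime_three⟩
  haveI : Fact (Nat.Prime 2) := ⟨Nat.prime_two⟩
  have h49 := Cfsg.Agent.S5349.result hD hD2 hd
  obtain ⟨hTS, ⟨d0, hd0, hcls⟩, hgen⟩ := hD
  have hconj : ∀ g : G, ∀ y ∈ D, g * y * g⁻¹ ∈ D := by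
    intro g y hy
    rw [hcls] at hy ⊢
    obtain ⟨c, hc⟩ := isConj_iff.mp (show IsConj d0 y from hy)
    show IsConj d0 (g * y * g⁻¹)
    rw [isConj_iff]
    exact ⟨g * c, by rw [← hc]; group⟩
  have htrans : ∀ x ∈ D, ∃ g : G, x = g * d * g⁻¹ := by
    intro x hx
    have h1 : IsConj d0 d := by
      have := hd; rw [hcls] at this; exact this
    have h2 : IsConj d0 x := by
      have := hx; rw [hcls] at this; exact this
    obtain ⟨g, hg⟩ := isConj_iff.mp (h1.symm.trans h2)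
    exact ⟨g, hg.symm⟩
  set Q := Cfsg.pCore 2 G with hQdef
  haveI hQn : Q.Normal := Cfsg.Agent.helper15.pCore_normal' 2
  have hQp : IsPGroup 2 Q := Cfsg.Agent.helper15.pCore_isPGroup' 2
  have hdd : d * d = 1 := sq_one hTS hd
  have hdinv : d⁻¹ = d := inv_eq hTS hd
  have hcov : ∀ v ∈ D, d⁻¹ * v ∈ Q → ∃ g ∈ Q, v = g * d * g⁻¹ := by
    intro v hv hvQ
    have h1 : v ∈ {v : G | v ∈ D ∧ d⁻¹ * v ∈ Cfsg.pCore 2 G} := ⟨hv, hvQ⟩
    rw [← h49.1, h49.2] at h1
    exact h1
  have hsame : ∀ v ∈ D, Commute d v → d⁻¹ * v ∈ Q := by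
    intro v hv hc
    have h1 : v ∈ {y : G | y ∈ D ∧ Commute d y} := ⟨hv, hc⟩
    rw [hV, h49.1] at h1
    exact h1.2
  by_cases hdQ : d ∈ Q
  · have hDsub : D ⊆ (Q : Set G) := by
      intro a ha
      obtain ⟨g, rfl⟩ := htrans a ha
      exact hQn.conj_mem _ hdQ g
    have hQtop : Q = ⊤ := by
      rw [eq_top_iff, ← hgen, Subgroup.closure_le]; exact hDsub
    obtain ⟨P⟩ : Nonempty (Sylow 3 G) := inferInstance
    have hPbot : ∀ x ∈ (P : Subgroup G), x = 1 := by
      intro x hx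
      have hxQ : x ∈ Q := by rw [hQtop]; exact Subgroup.mem_top x
      obtain ⟨k, hk⟩ := hQp ⟨x, hxQ⟩
      obtain ⟨j, hj⟩ := P.2 ⟨x, hx⟩
      have hk' : x ^ (2 ^ k) = 1 := by simpa using congrArg Subtype.val hk
      have hj' : x ^ (3 ^ j) = 1 := by simpa using congrArg Subtype.val hj
      exact two_three_eq_one hk' hj'
    refine ⟨P, ?_, ?_⟩
    · apply mem_normalizer_of_invol hdd
      intro z hz
      rw [hPbot z hz]
      have : d * 1 * d⁻¹ = 1 := by group
      rw [this]; exact Subgroup.one_mem _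
    · rw [eq_top_iff, ← hQtop]; exact le_sup_right
  -- main case
  let π : G →* G ⧸ Q := QuotientGroup.mk' Q
  have hπsurj : Function.Surjective π := QuotientGroup.mk'_surjective Q
  have hπ1 : ∀ g : G, π g = 1 ↔ g ∈ Q := fun g => QuotientGroup.eq_one_iff g
  have hπeq : ∀ a b : G, π a = π b ↔ a⁻¹ * b ∈ Q := fun a b => QuotientGroup.eq
  have hDQ : ∀ a ∈ D, a ∉ Q := by
    intro a ha haQ
    obtain ⟨g, rfl⟩ := htrans a ha
    apply hdQ
    have h1 := hQn.conj_mem _ haQ g⁻¹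
    have e : g⁻¹ * (g * d * g⁻¹) * g⁻¹⁻¹ = d := by group
    rw [e] at h1
    exact h1
  have hw' : ∀ a ∈ D, ∀ b ∈ D, Commute (π a) (π b) → π a = π b := by
    intro a ha b hb hc
    rcases comm_or_cube hTS ha hb with hcab | h3
    · obtain ⟨g, rfl⟩ := htrans a ha
      have hb'D : g⁻¹ * b * g ∈ D := by
        have := hconj g⁻¹ b hb; rwa [inv_inv] at this
      have hcb' : Commute d (g⁻¹ * b * g) := by
        have e : g * (g⁻¹ * b * g) * g⁻¹ = b := by group
        exact (conj_comm_iff g d (g⁻¹ * b * g)).mp (by rw [e]; exact hcab)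
      have h1 := hsame _ hb'D hcb'
      rw [hπeq]
      have e : (g * d * g⁻¹)⁻¹ * b = g * (d⁻¹ * (g⁻¹ * b * g)) * g⁻¹ := by group
      rw [e]
      exact hQn.conj_mem _ h1 g
    · have h1 : (a * b)⁻¹ * (b * a) ∈ Q := by
        rw [← hπeq, map_mul, map_mul]; exact hc.eq
      have hai := inv_eq hTS ha
      have hbi := inv_eq hTS hb
      have e1 : (a * b)⁻¹ * (b * a) = (b * a) * (b * a) := by rw [mul_inv_rev, hai, hbi]
      rw [e1] at h1
      have e2 : (b * a) ^ 3 = 1 := by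
        have : b * a = (a * b)⁻¹ := by rw [mul_inv_rev, hai, hbi]
        rw [this, inv_pow, h3, inv_one]
      have h2 : b * a ∈ Q := by
        have e2' : b * a * (b * a) * (b * a) = 1 := by rw [← pow_three']; exact e2
        have : b * a = ((b * a) * (b * a)) * ((b * a) * (b * a)) *
            (b * a * (b * a) * (b * a))⁻¹ := by group
        rw [this, e2', inv_one, mul_one]
        exact Q.mul_mem h1 h1
      rw [hπeq, hai]
      have : a * b = a * (b * a) * a⁻¹ := by group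
      rw [this]; exact hQn.conj_mem _ h2 a
  have hTG : IsThreeTranspositionGroup (π '' D) := by
    refine ⟨⟨?_, ?_⟩, ?_, ?_⟩
    · rintro _ ⟨a, ha, rfl⟩
      have h1 : π a ^ 2 = 1 := by rw [← map_pow, pow_two, sq_one hTS ha, map_one]
      have h2 : π a ≠ 1 := fun h => hDQ a ha ((hπ1 a).mp h)
      exact orderOf_eq_prime h1 h2
    · rintro _ ⟨a, ha, rfl⟩ _ ⟨b, hb, rfl⟩
      rcases hTS.2 a ha b hb with h | h
      · left; rw [← map_mul, ← map_pow, h, map_one]
      · right; rw [← map_mul, ← map_pow, h, map_one]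
    · rintro z _ ⟨a, ha, rfl⟩
      obtain ⟨g, rfl⟩ := hπsurj z
      exact ⟨g * a * g⁻¹, hconj g a ha, by rw [map_mul, map_mul, map_inv]⟩
    · rw [← MonoidHom.map_closure, hgen]
      exact Subgroup.map_top_of_surjective π hπsurj
  have hw : ∀ a ∈ π '' D, ∀ b ∈ π '' D, Commute a b → a = b := by
    rintro _ ⟨a, ha, rfl⟩ _ ⟨b, hb, rfl⟩ hc
    exact hw' a ha b hb hc
  have hcore := Cfsg.Agent.S5346.core_of_width_one hTG hw
  haveI hP3n : (Cfsg.pCore 3 (G ⧸ Q)).Normal := Cfsg.Agent.helper15.pCore_normal' 3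
  set M : Subgroup G := (Cfsg.pCore 3 (G ⧸ Q)).comap π with hMdef
  haveI hMn : M.Normal := hP3n.comap π
  have hMD : ∀ a ∈ D, ∀ b ∈ D, a * b ∈ M := by
    intro a ha b hb
    show π (a * b) ∈ Cfsg.pCore 3 (G ⧸ Q)
    rw [map_mul]
    exact hcore _ ⟨a, ha, rfl⟩ _ ⟨b, hb, rfl⟩
  have hQM : Q ≤ M := by
    intro q hq
    show π q ∈ Cfsg.pCore 3 (G ⧸ Q)
    rw [(hπ1 q).mpr hq]; exact Subgroup.one_mem _
  have hM3 : ∀ g ∈ M, ∃ j : ℕ, g ^ (3 ^ j) ∈ Q := by
    intro g hg
    obtain ⟨j, hj⟩ := (Cfsg.Agent.helper15.pCore_isPGroup' (G := G ⧸ Q) 3) ⟨π g, hg⟩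
    refine ⟨j, ?_⟩
    rw [← hπ1, map_pow]
    simpa using congrArg Subtype.val hj
  have hM2 : ∀ g ∈ M, g * g = 1 → g ∈ Q := by
    intro g hg h2
    rw [← hπ1]
    apply eq_one_of_sq_of_mem (G := G ⧸ Q) hg
    rw [← map_pow, pow_two, h2, map_one]
  have hidx : ∀ g : G, g ∈ M ∨ g * d ∈ M := by
    intro g
    have hg : g ∈ Subgroup.closure D := by rw [hgen]; exact Subgroup.mem_top g
    induction hg using Subgroup.closure_induction with
    | mem x hx => exact Or.inr (hMD x hx d hd)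
    | one => exact Or.inl (Subgroup.one_mem _)
    | mul x y _ _ hx hy =>
      rcases hx with hx | hx <;> rcases hy with hy | hy
      · exact Or.inl (M.mul_mem hx hy)
      · right; rw [mul_assoc]; exact M.mul_mem hx hy
      · right
        have e : x * y * d = (x * d) * (d⁻¹ * y * d⁻¹⁻¹) := by group
        rw [e]; exact M.mul_mem hx (hMn.conj_mem y hy d⁻¹)
      · left
        have e : x * y = (x * d) * (d⁻¹ * (y * d) * d⁻¹⁻¹) * (d * d)⁻¹ := by group
        rw [e, hdd, inv_one, mul_one]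
        exact M.mul_mem hx (hMn.conj_mem _ hy d⁻¹)
    | inv x _ hx =>
      rcases hx with hx | hx
      · exact Or.inl (M.inv_mem hx)
      · right
        have e : x⁻¹ * d = (d * (x * d)⁻¹ * d⁻¹) * (d * d) := by group
        rw [e, hdd, mul_one]
        exact hMn.conj_mem _ (M.inv_mem hx) d
  have h3M : ∀ x : G, (∃ j : ℕ, x ^ (3 ^ j) = 1) → x ∈ M := by
    rintro x ⟨j, hj⟩
    have hx2 : x ^ 2 ∈ M := by
      rw [pow_two]
      rcases hidx x with hx | hx
      · exact M.mul_mem hx hx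
      · have e : x * x = (x * d) * (d⁻¹ * (x * d) * d⁻¹⁻¹) * (d * d)⁻¹ := by group
        rw [e, hdd, inv_one, mul_one]
        exact M.mul_mem hx (hMn.conj_mem _ hx d⁻¹)
    have hcop : Nat.Coprime 2 (orderOf x) := by
      have h1 : orderOf x ∣ 3 ^ j := orderOf_dvd_of_pow_eq_one hj
      have h2 : Nat.Coprime 2 (3 ^ j) := Nat.Coprime.pow_right _ (by norm_num)
      exact Nat.Coprime.coprime_dvd_right h1 h2
    obtain ⟨m, hm⟩ := exists_pow_eq_self_of_coprime hcop
    rw [← hm]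
    exact M.pow_mem hx2 m
  -- the centralizer and its Sylow 3-subgroup
  set C : Subgroup G := Subgroup.centralizer {d} ⊓ M with hCdef
  obtain ⟨R'⟩ : Nonempty (Sylow 3 ↥C) := inferInstance
  set R : Subgroup G := (R' : Subgroup ↥C).map C.subtype with hRdef
  have hRC : R ≤ C := by
    rintro _ ⟨r, _, rfl⟩; exact r.2
  have hRp : IsPGroup 3 R := R'.2.map C.subtype
  have hRidx : ¬ 3 ∣ R.relIndex C := by
    have e : R.subgroupOf C = (R' : Subgroup ↥C) :=
      Subgroup.comap_map_eq_self_of_injective C.subtype_injective _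
    rw [Subgroup.relIndex, e]
    exact R'.not_dvd_index
  have hCQR : C ≤ Q ⊔ R := le_sup_of_pquot Q C R hRC hRidx (fun h hh => hM3 h hh.2)
  have hRcent : ∀ r ∈ R, d * r * d⁻¹ = r := by
    intro r hr
    have h1 : r ∈ Subgroup.centralizer {d} := (hRC hr).1
    have h2 := Subgroup.mem_centralizer_iff.mp h1 d rfl
    rw [h2, mul_inv_cancel_right]
  have hRnorm : d ∈ Subgroup.normalizer (R : Set G) := by
    apply mem_normalizer_of_invol hdd
    intro z hz
    rw [hRcent z hz]; exact hz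
  let F : Set (Subgroup G) :=
    {P | IsPGroup 3 P ∧ R ≤ P ∧ d ∈ Subgroup.normalizer (P : Set G)}
  have hRF : R ∈ F := ⟨hRp, le_rfl, hRnorm⟩
  obtain ⟨P₀, hP₀max⟩ := (Set.toFinite F).exists_maximal ⟨R, hRF⟩
  obtain ⟨hP₀p, hRP₀, hdP₀⟩ := hP₀max.prop
  have hmax : ∀ P ∈ F, P₀ ≤ P → P ≤ P₀ := fun P hP hle => hP₀max.le_of_ge hP hle
  obtain ⟨S, hP₀S⟩ := hP₀p.exists_le_sylow
  have hSM : (S : Subgroup G) ≤ M := by
    intro x hx
    apply h3M
    obtain ⟨j, hj⟩ := S.2 ⟨x, hx⟩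
    exact ⟨j, by simpa using congrArg Subtype.val hj⟩
  have hSQ : ∀ x ∈ (S : Subgroup G), x ∈ Q → x = 1 := by
    intro x hxS hxQ
    obtain ⟨k, hk⟩ := hQp ⟨x, hxQ⟩
    obtain ⟨j, hj⟩ := S.2 ⟨x, hxS⟩
    have hk' : x ^ (2 ^ k) = 1 := by simpa using congrArg Subtype.val hk
    have hj' : x ^ (3 ^ j) = 1 := by simpa using congrArg Subtype.val hj
    exact two_three_eq_one hk' hj'
  by_cases hEq : P₀ = (S : Subgroup G)
  · refine ⟨S, ?_, ?_⟩
    · show d ∈ Subgroup.normalizer ((S : Subgroup G) : Set G)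
      rw [← hEq]; exact hdP₀
    · have hMle : M ≤ Q ⊔ (S : Subgroup G) :=
        le_sup_of_pquot Q M S hSM
          (fun h => S.not_dvd_index (h.trans (Subgroup.relIndex_dvd_index_of_le hSM))) hM3
      rw [eq_top_iff, ← hgen, Subgroup.closure_le]
      intro e he
      have h1 : e * d ∈ M := hMD e he d hd
      have h2 : e = (e * d) * d := by rw [mul_assoc, hdd, mul_one]
      rw [SetLike.mem_coe, h2]
      refine Subgroup.mul_mem _ ?_
        (Subgroup.mem_sup_left (Subgroup.mem_sup_left (Subgroup.mem_zpowers d)))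
      have h3 := hMle h1
      exact (show Q ⊔ (S : Subgroup G) ≤ Subgroup.zpowers d ⊔ (S : Subgroup G) ⊔ Q from
        sup_le le_sup_right (le_sup_of_le_left le_sup_right)) h3
  · exfalso
    have hlt : P₀ < (S : Subgroup G) := lt_of_le_of_ne hP₀S hEq
    obtain ⟨x, hxS, hxP₀, hxN⟩ := exists_normalizing_in S.2 hlt
    have haD : x * d * x⁻¹ ∈ D := hconj x d hd
    have haN : x * d * x⁻¹ ∈ Subgroup.normalizer (P₀ : Set G) :=
      (Subgroup.normalizer _).mul_mem ((Subgroup.normalizer _).mul_mem hxN hdP₀)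
        ((Subgroup.normalizer _).inv_mem hxN)
    have hyM : x * d * x⁻¹ * d ∈ M := hMD _ haD d hd
    have hB : ∃ u ∈ Q ⊔ P₀, ∃ c ∈ C, x = u * c := by
      rcases comm_or_cube hTS haD hd with hc | h3
      · have hy2 : (x * d * x⁻¹ * d) * (x * d * x⁻¹ * d) = 1 := by
          have h1 := hc.eq
          have h2 := sq_one hTS haD
          calc (x * d * x⁻¹ * d) * (x * d * x⁻¹ * d)
              = (x * d * x⁻¹) * (d * (x * d * x⁻¹)) * d := by group
            _ = (x * d * x⁻¹) * ((x * d * x⁻¹) * d) * d := by rw [← h1]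
            _ = ((x * d * x⁻¹) * (x * d * x⁻¹)) * (d * d) := by group
            _ = 1 := by rw [h2, hdd, one_mul]
        have hyQ : x * d * x⁻¹ * d ∈ Q := hM2 _ hyM hy2
        have h1 : d⁻¹ * (x * d * x⁻¹) ∈ Q := by
          have e : d⁻¹ * (x * d * x⁻¹) = d⁻¹ * (x * d * x⁻¹ * d) * d⁻¹⁻¹ * (d * d)⁻¹ := by group
          rw [e, hdd, inv_one, mul_one]
          exact hQn.conj_mem _ hyQ d⁻¹
        obtain ⟨q, hq, hqa⟩ := hcov _ haD h1
        refine ⟨q, Subgroup.mem_sup_left hq, q⁻¹ * x, Subgroup.mem_inf.mpr ⟨?_, ?_⟩, by group⟩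
        · rw [Subgroup.mem_centralizer_iff]
          intro z hz
          rw [Set.mem_singleton_iff] at hz
          rw [hz]
          have e : d * (q⁻¹ * x) = q⁻¹ * (q * d * q⁻¹) * x := by group
          rw [e, ← hqa]; group
        · exact M.mul_mem (M.inv_mem (hQM hq)) (hSM hxS)
      · have hyN : x * d * x⁻¹ * d ∈ Subgroup.normalizer (P₀ : Set G) :=
          (Subgroup.normalizer _).mul_mem haN hdP₀
        have hZp : IsPGroup 3 (Subgroup.zpowers (x * d * x⁻¹ * d)) := isPGroup_zpowers_of_cube h3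
        have hsupp : IsPGroup 3 (Subgroup.zpowers (x * d * x⁻¹ * d) ⊔ P₀ : Subgroup G) :=
          hZp.to_sup_of_normal_right' hP₀p (by rw [Subgroup.zpowers_le]; exact hyN)
        have hai : (x * d * x⁻¹)⁻¹ = x * d * x⁻¹ := inv_eq hTS haD
        have hdy : d * (x * d * x⁻¹ * d) * d⁻¹ = (x * d * x⁻¹ * d)⁻¹ := by
          rw [mul_inv_rev, hdinv, hai]
          have : d * (x * d * x⁻¹ * d) * d = d * (x * d * x⁻¹) * (d * d) := by group
          rw [this, hdd, mul_one]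
        have hdn : d ∈ Subgroup.normalizer
            ((Subgroup.zpowers (x * d * x⁻¹ * d) ⊔ P₀ : Subgroup G) : Set G) := by
          apply mem_normalizer_of_invol hdd
          apply conj_mem_sup
          · intro h hh
            obtain ⟨k, rfl⟩ := Subgroup.mem_zpowers_iff.mp hh
            rw [← conj_zpow, hdy]
            exact Subgroup.zpow_mem _ (Subgroup.inv_mem _ (Subgroup.mem_zpowers _)) k
          · exact conj_mem_of_mem_normalizer hdP₀
        have hle := hmax _ ⟨hsupp, hRP₀.trans le_sup_right, hdn⟩ le_sup_right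
        have hyP : x * d * x⁻¹ * d ∈ P₀ := hle (Subgroup.mem_sup_left (Subgroup.mem_zpowers _))
        have hwy : d * (x * d * x⁻¹) = (x * d * x⁻¹ * d)⁻¹ := by
          rw [mul_inv_rev, hdinv, hai]
        have hwP : d * (x * d * x⁻¹) ∈ P₀ := by rw [hwy]; exact P₀.inv_mem hyP
        have hw3 : (d * (x * d * x⁻¹)) ^ 3 = 1 := by rw [hwy, inv_pow, h3, inv_one]
        have hcj := Cfsg.Agent.S5346.conj_of_cube hdd (sq_one hTS haD) hw3
        refine ⟨d * (x * d * x⁻¹), Subgroup.mem_sup_right hwP, (d * (x * d * x⁻¹))⁻¹ * x,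
          Subgroup.mem_inf.mpr ⟨?_, ?_⟩, by group⟩
        · rw [Subgroup.mem_centralizer_iff]
          intro z hz
          rw [Set.mem_singleton_iff] at hz
          rw [hz]
          have e : d * ((d * (x * d * x⁻¹))⁻¹ * x) =
              (d * (x * d * x⁻¹))⁻¹ * ((d * (x * d * x⁻¹)) * d * (d * (x * d * x⁻¹))⁻¹) *
                (d * (x * d * x⁻¹)) * (d * (x * d * x⁻¹))⁻¹ * x := by group
          rw [e, hcj]; group
        · exact M.mul_mem (M.inv_mem (hSM (hP₀S hwP))) (hSM hxS)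
    obtain ⟨u, hu, c, hc, hxuc⟩ := hB
    have hcB : c ∈ Q ⊔ P₀ := (sup_le le_sup_left (hRP₀.trans le_sup_right)) (hCQR hc)
    have hxB : x ∈ Q ⊔ P₀ := by rw [hxuc]; exact Subgroup.mul_mem _ hu hcB
    obtain ⟨q, hq, p, hp, hqp⟩ := Subgroup.mem_sup_of_normal_left.mp hxB
    have hqS : q ∈ (S : Subgroup G) := by
      have : q = x * p⁻¹ := by rw [← hqp]; group
      rw [this]
      exact Subgroup.mul_mem _ hxS (Subgroup.inv_mem _ (hP₀S hp))
    have hq1 := hSQ q hqS hq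
    apply hxP₀
    rw [← hqp, hq1, one_mul]
    exact hp

end Cfsg.Agent.h26TTX
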