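import Mathlib
import Cfsg.Prelude.Def_Transfer
import Cfsg.Agent.Lib_helper19_C3
import Cfsg.Agent.Lib_helper26_TTX

set_option autoImplicit false

namespace Cfsg.Agent.H16AF

open Cfsg.Agent.helper19.C3

variable {G : Type*} [Group G]

/-- membership in the centralizer of a singleton -/
theorem mem_cent {t c : G} : c ∈ Subgroup.centralizer ({t} : Set G) ↔ c * t = t * c := by
  rw [Subgroup.mem_centralizer_iff]
  constructor
  · intro h; exact (h t rfl).symm
  · intro h x hx
    rw [Set.mem_singleton_iff] at hx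
    rw [hx]; exact h.symm

theorem inv_eq_self_of_sq {a : G} (h : a * a = 1) : a⁻¹ = a := inv_eq_of_mul_eq_one_left h

/-- conjugating the commuting relation -/
theorem comm_conj {h t y : G} (hy : y * (h * t * h⁻¹) = (h * t * h⁻¹) * y) :
    (h⁻¹ * y * h) * t = t * (h⁻¹ * y * h) := by
  have : h⁻¹ * (y * (h * t * h⁻¹)) * h = h⁻¹ * ((h * t * h⁻¹) * y) * h := by rw [hy]
  calc (h⁻¹ * y * h) * t = h⁻¹ * (y * (h * t * h⁻¹)) * h := by group
    _ = h⁻¹ * ((h * t * h⁻¹) * y) * h := this
    _ = t * (h⁻¹ * y * h) := by group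

/-- The four elements of `V = C(t)`. -/
theorem four_elems [Finite G] {t : G} (ht1 : t ≠ 1) (ht2 : t * t = 1)
    (hC4 : Nat.card ↥(Subgroup.centralizer ({t} : Set G)) = 4) :
    ∃ z : G, z * t = t * z ∧ z ≠ 1 ∧ z ≠ t ∧
      ∀ c : G, c * t = t * c → c = 1 ∨ c = t ∨ c = z ∨ c = t * z := by
  classical
  set V := Subgroup.centralizer ({t} : Set G) with hV
  have htV : t ∈ V := mem_cent.mpr rfl
  have hncard : (V : Set G).ncard = 4 := by
    rw [← hC4]; exact (Nat.card_coe_set_eq _).symm
  -- find z
  have hex : ∃ z ∈ V, z ≠ 1 ∧ z ≠ t := by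
    by_contra hcon
    push Not at hcon
    have hsub : (V : Set G) ⊆ ({1, t} : Set G) := by
      intro c hc
      by_cases h1 : c = 1
      · left; exact h1
      · right; exact hcon c hc h1
    have := Set.ncard_le_ncard hsub (Set.toFinite _)
    have h2 : ({1, t} : Set G).ncard ≤ 2 := by
      have := Set.ncard_insert_le (1 : G) ({t} : Set G)
      rw [Set.ncard_singleton] at this
      exact this
    omega
  obtain ⟨z, hzV, hz1, hzt⟩ := hex
  have hzc : z * t = t * z := mem_cent.mp hzV
  refine ⟨z, hzc, hz1, hzt, ?_⟩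
  have htzV : t * z ∈ V := V.mul_mem htV hzV
  have hsub : ((({1, t, z, t * z} : Finset G) : Set G)) ⊆ (V : Set G) := by
    intro c hc
    simp only [Finset.coe_insert, Finset.coe_singleton, Set.mem_insert_iff,
      Set.mem_singleton_iff] at hc
    rcases hc with rfl | rfl | rfl | rfl
    · exact V.one_mem
    · exact htV
    · exact hzV
    · exact htzV
  have hcard : ({1, t, z, t * z} : Finset G).card = 4 := by
    rw [Finset.card_insert_of_notMem, Finset.card_insert_of_notMem,
      Finset.card_insert_of_notMem, Finset.card_singleton]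
    · simp only [Finset.mem_singleton]
      intro h
      have : t = 1 := by
        have := congrArg (fun x => x * z⁻¹) h
        simpa using this.symm
      exact ht1 this
    · simp only [Finset.mem_insert, Finset.mem_singleton, not_or]
      refine ⟨Ne.symm hzt, ?_⟩
      intro h
      have : z = 1 := by
        have := congrArg (fun x => t⁻¹ * x) h
        simpa using this.symm
      exact hz1 this
    · simp only [Finset.mem_insert, Finset.mem_singleton, not_or]
      refine ⟨Ne.symm ht1, Ne.symm hz1, ?_⟩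
      intro h
      have : z = t := by
        have h2 := congrArg (fun x => t * x) h
        simp only [mul_one, ← mul_assoc, ht2, one_mul] at h2
        exact h2.symm
      exact hzt this
  intro c hc
  have hcV : c ∈ V := mem_cent.mpr hc
  have heq : ((({1, t, z, t * z} : Finset G) : Set G)) = (V : Set G) := by
    apply Set.eq_of_subset_of_ncard_le hsub _ (Set.toFinite _)
    rw [hncard, Set.ncard_coe_finset, hcard]
  have hcV' : c ∈ (V : Set G) := hcV
  rw [← heq] at hcV'
  simpa using hcV'


/-- conjugacy, explicit form -/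
def Cj (a b : G) : Prop := ∃ g : G, g * a * g⁻¹ = b

theorem Cj.refl (a : G) : Cj a a := ⟨1, by group⟩

theorem Cj.symm {a b : G} (h : Cj a b) : Cj b a := by
  obtain ⟨g, hg⟩ := h
  exact ⟨g⁻¹, by rw [← hg]; group⟩

theorem Cj.trans {a b c : G} (h1 : Cj a b) (h2 : Cj b c) : Cj a c := by
  obtain ⟨g, hg⟩ := h1
  obtain ⟨k, hk⟩ := h2
  exact ⟨k * g, by rw [← hk, ← hg]; group⟩

/-- basic data: `C(t) = {1, t, z, tz}` elementary abelian. -/
structure Base (t z : G) : Prop where
  ht1 : t ≠ 1
  ht2 : t * t = 1
  hz : z * t = t * z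
  hz1 : z ≠ 1
  hzt : z ≠ t
  hz2 : z * z = 1
  hV : ∀ c : G, c * t = t * c → c = 1 ∨ c = t ∨ c = z ∨ c = t * z

namespace Base

variable {t z : G}

theorem tz_sq (B : Base t z) : (t * z) * (t * z) = 1 := by
  calc (t * z) * (t * z) = t * (z * t) * z := by group
    _ = t * (t * z) * z := by rw [B.hz]
    _ = (t * t) * (z * z) := by group
    _ = 1 := by rw [B.ht2, B.hz2, one_mul]

theorem tz_ne_one (B : Base t z) : t * z ≠ 1 := by
  intro h
  have h2 := congrArg (fun x => t * x) h
  simp only [mul_one, ← mul_assoc, B.ht2, one_mul] at h2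
  exact B.hzt h2

theorem tz_ne_t (B : Base t z) : t * z ≠ t := by
  intro h
  have h2 := congrArg (fun x => t⁻¹ * x) h
  simp only [← mul_assoc, inv_mul_cancel, one_mul] at h2
  exact B.hz1 h2

theorem tz_ne_z (B : Base t z) : t * z ≠ z := by
  intro h
  have h2 := congrArg (fun x => x * z⁻¹) h
  simp only [mul_assoc, mul_inv_cancel, mul_one] at h2
  exact B.ht1 h2

theorem t_tz (B : Base t z) : t * (t * z) = z := by
  rw [← mul_assoc, B.ht2, one_mul]

theorem swap (B : Base t z) : Base t (t * z) where
  ht1 := B.ht1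
  ht2 := B.ht2
  hz := by rw [mul_assoc, B.hz]
  hz1 := B.tz_ne_one
  hzt := B.tz_ne_t
  hz2 := B.tz_sq
  hV := by
    intro c hc
    rw [B.t_tz]
    rcases B.hV c hc with h | h | h | h
    · exact Or.inl h
    · exact Or.inr (Or.inl h)
    · exact Or.inr (Or.inr (Or.inr h))
    · exact Or.inr (Or.inr (Or.inl h))

/-- every element commuting with `t` squares to one -/
theorem sq_of_comm (B : Base t z) {c : G} (hc : c * t = t * c) : c * c = 1 := by
  rcases B.hV c hc with rfl | rfl | rfl | rfl
  · simp
  · exact B.ht2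
  · exact B.hz2
  · exact B.tz_sq

/-- `z` commutes with `t*z`, `t` commutes with `t*z`. -/
theorem t_comm_tz (B : Base t z) : t * (t * z) = (t * z) * t := by
  rw [mul_assoc, B.hz]

theorem z_comm_tz (B : Base t z) : z * (t * z) = (t * z) * z := by
  rw [← mul_assoc, B.hz]

end Base

end Cfsg.Agent.H16AF
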