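import Mathlib
import Cfsg.Agent.H16AF1

set_option autoImplicit false

namespace Cfsg.Agent.H16AF

open Cfsg.Agent.helper19.C3

variable {G : Type*} [Group G]

namespace Base

variable {t z : G}

/-- if `u` is conjugate to `t` and commutes with `t` and `z`, then `C(u) = C(t)`. -/
theorem cent_conj_eq (B : Base t z) {u : G} (hu : Cj t u) (htu : t * u = u * t)
    (hzu : z * u = u * z) {y : G} (hy : y * u = u * y) :
    y = 1 ∨ y = t ∨ y = z ∨ y = t * z := by
  classical
  obtain ⟨g, hg⟩ := hu
  set S : Finset G := {1, t, z, t * z} with hS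
  set f : G → G := fun c => g⁻¹ * c * g with hf
  have hfinj : Function.Injective f := by
    intro a b hab
    simp only [hf] at hab
    have := congrArg (fun x => g * x * g⁻¹) hab
    simpa [mul_assoc] using this
  have hmem : ∀ c : G, c * u = u * c → f c ∈ S := by
    intro c hc
    have h1 : (g⁻¹ * c * g) * t = t * (g⁻¹ * c * g) := by
      apply comm_conj
      rw [hg]; exact hc
    have := B.hV _ h1
    simp only [hS, hf, Finset.mem_insert, Finset.mem_singleton]
    exact this
  have hsub : S.image f ⊆ S := by
    intro x hx
    rw [Finset.mem_image] at hx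
    obtain ⟨c, hc, rfl⟩ := hx
    apply hmem
    simp only [hS, Finset.mem_insert, Finset.mem_singleton] at hc
    rcases hc with rfl | rfl | rfl | rfl
    · simp
    · exact htu
    · exact hzu
    · calc (t * z) * u = t * (z * u) := by group
        _ = t * (u * z) := by rw [hzu]
        _ = (t * u) * z := by group
        _ = (u * t) * z := by rw [htu]
        _ = u * (t * z) := by group
  have heq : S.image f = S := by
    apply Finset.eq_of_subset_of_card_le hsub
    rw [Finset.card_image_of_injective _ hfinj]
  have hy' : f y ∈ S.image f := by rw [heq]; exact hmem y hy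
  rw [Finset.mem_image] at hy'
  obtain ⟨v, hv, hvy⟩ := hy'
  have : v = y := hfinj hvy
  rw [← this]
  simpa [hS] using hv

end Base

/-- an involution acting on an elementary abelian normal 2-subgroup with at most two fixed points:
the subgroup has at most four elements. -/
theorem card_le_four_of_fixed {N : Subgroup G} [Finite G] (hN : N.Normal)
    (hcomm : ∀ a ∈ N, ∀ b ∈ N, a * b = b * a) (hexp : ∀ a ∈ N, a * a = 1)
    {t z : G} (ht2 : t * t = 1) (hzN : z ∈ N)
    (hfix : ∀ a ∈ N, a * t = t * a → a = 1 ∨ a = z) : Nat.card N ≤ 4 := by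
  classical
  have tinv : t⁻¹ = t := inv_eq_self_of_sq ht2
  -- for every n ∈ N: t n t = n or t n t = n z
  have key : ∀ a ∈ N, t * a * t = a ∨ t * a * t = a * z := by
    intro a ha
    have htat : t * a * t ∈ N := by
      have := hN.conj_mem a ha t
      rwa [tinv] at this
    have hprod : a * (t * a * t) ∈ N := N.mul_mem ha htat
    have hfixed : (a * (t * a * t)) * t = t * (a * (t * a * t)) := by
      have h1 : a * (t * a * t) = (t * a * t) * a := hcomm _ ha _ htat
      calc (a * (t * a * t)) * t = a * t * a * (t * t) := by group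
        _ = a * t * a := by rw [ht2, mul_one]
        _ = (t * t) * a * t * a := by rw [ht2, one_mul]
        _ = t * ((t * a * t) * a) := by group
        _ = t * (a * (t * a * t)) := by rw [h1]
    have ainv : a⁻¹ = a := inv_eq_self_of_sq (hexp a ha)
    rcases hfix _ hprod hfixed with h | h
    · left
      have := congrArg (fun x => a⁻¹ * x) h
      simp only [← mul_assoc, inv_mul_cancel, one_mul, mul_one] at this
      rw [ainv] at this
      simpa [mul_assoc] using this
    · right
      have := congrArg (fun x => a⁻¹ * x) h
      simp only [← mul_assoc, inv_mul_cancel, one_mul] at this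
      rw [ainv] at this
      simpa [mul_assoc] using this
  by_cases hex : ∃ a ∈ N, t * a * t = a * z ∧ a ≠ 1 ∧ a ≠ z
  · obtain ⟨a₀, ha₀, h₀, -, -⟩ := hex
    have hsub : (N : Set G) ⊆ ((({1, z, a₀, a₀ * z} : Finset G)) : Set G) := by
      intro b hb
      simp only [Finset.coe_insert, Finset.coe_singleton, Set.mem_insert_iff,
        Set.mem_singleton_iff]
      rcases key b hb with h | h
      · have : b * t = t * b := by
          calc b * t = (t * t) * b * t := by rw [ht2, one_mul]
            _ = t * (t * b * t) := by group
            _ = t * b := by rw [h]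
        rcases hfix b hb this with h' | h'
        · exact Or.inl h'
        · exact Or.inr (Or.inl h')
      · -- t (a₀ b) t = a₀ z b z = a₀ b
        have hab : a₀ * b ∈ N := N.mul_mem ha₀ hb
        have hzb : z * b = b * z := hcomm z hzN b hb
        have hz2 : z * z = 1 := hexp z hzN
        have hfixab : (a₀ * b) * t = t * (a₀ * b) := by
          have h1 : t * (a₀ * b) * t = a₀ * b := by
            calc t * (a₀ * b) * t = (t * a₀ * t) * (t * b * t) := by
                  calc t * (a₀ * b) * t = t * a₀ * 1 * b * t := by group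
                    _ = t * a₀ * (t * t) * b * t := by rw [ht2]
                    _ = (t * a₀ * t) * (t * b * t) := by group
              _ = (a₀ * z) * (b * z) := by rw [h₀, h]
              _ = a₀ * (z * b) * z := by group
              _ = a₀ * (b * z) * z := by rw [hzb]
              _ = a₀ * b * (z * z) := by group
              _ = a₀ * b := by rw [hz2, mul_one]
          calc (a₀ * b) * t = (t * t) * (a₀ * b) * t := by rw [ht2, one_mul]
            _ = t * (t * (a₀ * b) * t) := by group
            _ = t * (a₀ * b) := by rw [h1]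
        have a₀inv : a₀⁻¹ = a₀ := inv_eq_self_of_sq (hexp a₀ ha₀)
        rcases hfix _ hab hfixab with h' | h'
        · right; right; left
          have := congrArg (fun x => a₀⁻¹ * x) h'
          simp only [← mul_assoc, inv_mul_cancel, one_mul, mul_one] at this
          rw [a₀inv] at this
          exact this
        · right; right; right
          have := congrArg (fun x => a₀⁻¹ * x) h'
          simp only [← mul_assoc, inv_mul_cancel, one_mul] at this
          rw [a₀inv] at this
          exact this
    calc Nat.card N = (N : Set G).ncard := Nat.card_coe_set_eq _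
      _ ≤ ((({1, z, a₀, a₀ * z} : Finset G)) : Set G).ncard :=
          Set.ncard_le_ncard hsub (Set.toFinite _)
      _ = ({1, z, a₀, a₀ * z} : Finset G).card := Set.ncard_coe_finset _
      _ ≤ 4 := Finset.card_le_four
  · push Not at hex
    have hsub : (N : Set G) ⊆ ((({1, z} : Finset G)) : Set G) := by
      intro b hb
      simp only [Finset.coe_insert, Finset.coe_singleton, Set.mem_insert_iff,
        Set.mem_singleton_iff]
      rcases key b hb with h | h
      · have : b * t = t * b := by
          calc b * t = (t * t) * b * t := by rw [ht2, one_mul]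
            _ = t * (t * b * t) := by group
            _ = t * b := by rw [h]
        exact hfix b hb this
      · by_contra hcon
        push Not at hcon
        exact hcon.2 (hex b hb h hcon.1)
    calc Nat.card N = (N : Set G).ncard := Nat.card_coe_set_eq _
      _ ≤ ((({1, z} : Finset G)) : Set G).ncard :=
          Set.ncard_le_ncard hsub (Set.toFinite _)
      _ = ({1, z} : Finset G).card := Set.ncard_coe_finset _
      _ ≤ 2 := Finset.card_le_two
      _ ≤ 4 := by norm_num


theorem cj_sq {a b : G} (h : Cj a b) (ha : a * a = 1) : b * b = 1 := by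
  obtain ⟨g, rfl⟩ := h
  calc (g * a * g⁻¹) * (g * a * g⁻¹) = g * (a * a) * g⁻¹ := by group
    _ = 1 := by rw [ha]; group

theorem cj_ne_one {a b : G} (h : Cj a b) (ha : a ≠ 1) : b ≠ 1 := by
  obtain ⟨g, rfl⟩ := h
  intro h1
  apply ha
  have := congrArg (fun x => g⁻¹ * x * g) h1
  simpa [mul_assoc] using this

theorem two_or_four_of_le {N : Subgroup G} [Finite G] (hexp : ∀ a ∈ N, a * a = 1)
    {z : G} (hzN : z ∈ N) (hz1 : z ≠ 1) (hle : Nat.card N ≤ 4) :
    Nat.card N = 2 ∨ Nat.card N = 4 := by
  haveI : Fact (Nat.Prime 2) := ⟨Nat.prime_two⟩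
  have hp : IsPGroup 2 N := by
    intro a
    refine ⟨1, ?_⟩
    apply Subtype.ext
    have := hexp a.1 a.2
    simp only [pow_one, Subgroup.coe_pow, Subgroup.coe_one]
    rw [pow_two]; exact this
  obtain ⟨k, hk⟩ := hp.exists_card_eq
  have hne : N ≠ ⊥ := by
    intro hb
    rw [hb, Subgroup.mem_bot] at hzN
    exact hz1 hzN
  have h1 : 1 < Nat.card N := (Subgroup.one_lt_card_iff_ne_bot (H := N)).mpr hne
  rw [hk] at h1 hle ⊢
  have hk3 : k < 3 := by
    by_contra hcon
    push Not at hcon
    have : 2 ^ 3 ≤ 2 ^ k := Nat.pow_le_pow_right (by norm_num) hcon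
    omega
  interval_cases k
  · simp at h1
  · left; norm_num
  · right; norm_num

theorem case_two [Finite G] {t z : G} (B : Base t z) (h1 : Cj t (t * z)) (h2 : ¬ Cj t z) :
    ∃ E : Subgroup G, E.Normal ∧ Cfsg.IsElementaryAbelian 2 E ∧
      (Nat.card E = 2 ∨ Nat.card E = 4) := by
  classical
  have hCtz : ∀ y : G, y * (t * z) = (t * z) * y → y = 1 ∨ y = t ∨ y = z ∨ y = t * z :=
    fun y hy => B.cent_conj_eq h1 B.t_comm_tz B.z_comm_tz hy
  have lemA : ∀ d : G, Cj z d → (d = 1 ∨ d = t ∨ d = z ∨ d = t * z) → d = z := by
    intro d hd hcases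
    rcases hcases with rfl | rfl | rfl | rfl
    · exact absurd rfl (cj_ne_one hd B.hz1)
    · exact absurd hd.symm h2
    · rfl
    · exact absurd (h1.trans hd.symm) h2
  have key : ∀ d : G, Cj z d → d * z = z * d := by
    intro d hd
    have hd2 : d * d = 1 := cj_sq hd B.hz2
    by_cases hodd : Odd (orderOf (t * d))
    · obtain ⟨s, hs⟩ := invol_conj_of_odd B.ht2 hd2 hodd
      exact absurd (Cj.trans ⟨s, hs⟩ hd.symm) h2
    · obtain ⟨m, -, hw2, hwt, hwd⟩ := exists_central_invol B.ht2 hd2 hodd
      set w := (t * d) ^ m with hw
      have hw1 : w ≠ 1 := by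
        intro h
        rw [h, orderOf_one] at hw2
        norm_num at hw2
      rcases B.hV w hwt.symm with h | h | h | h
      · exact absurd h hw1
      · rw [h] at hwd
        have := lemA d hd (B.hV d hwd)
        rw [this]
      · rw [h] at hwd; exact hwd
      · rw [h] at hwd
        have := lemA d hd (hCtz d hwd)
        rw [this]
  -- the normal closure
  set N := Subgroup.normalClosure ({z} : Set G) with hN
  have hgen : ∀ d ∈ Group.conjugatesOfSet ({z} : Set G), Cj z d := by
    intro d hd
    rw [Group.mem_conjugatesOfSet_iff] at hd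
    obtain ⟨b, hb, hconj⟩ := hd
    rw [Set.mem_singleton_iff] at hb
    rw [hb, isConj_iff] at hconj
    exact hconj
  have hpair : ∀ x ∈ Group.conjugatesOfSet ({z} : Set G),
      ∀ y ∈ Group.conjugatesOfSet ({z} : Set G), x * y = y * x := by
    intro x hx y hy
    obtain ⟨g, hg⟩ := hgen x hx
    have hy' : Cj z (g⁻¹ * y * g) := by
      obtain ⟨k, hk⟩ := hgen y hy
      exact ⟨g⁻¹ * k, by rw [← hk]; group⟩
    have hc := key _ hy'
    rw [← hg]
    calc g * z * g⁻¹ * y = g * (z * (g⁻¹ * y * g)) * g⁻¹ := by group
      _ = g * ((g⁻¹ * y * g) * z) * g⁻¹ := by rw [hc]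
      _ = y * (g * z * g⁻¹) := by group
  haveI hNcomm : IsMulCommutative N := Subgroup.isMulCommutative_closure hpair
  have hcommN : ∀ a ∈ N, ∀ b ∈ N, a * b = b * a := by
    intro a ha b hb
    have := hNcomm.is_comm.comm (⟨a, ha⟩ : N) ⟨b, hb⟩
    exact congrArg Subtype.val this
  have hexpN : ∀ a ∈ N, a * a = 1 := by
    intro a ha
    induction ha using Subgroup.closure_induction with
    | mem x hx => exact cj_sq (hgen x hx) B.hz2
    | one => simp
    | mul x y hx hy ihx ihy =>
      have hxy : x * y = y * x := hcommN x hx y hy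
      calc (x * y) * (x * y) = x * (y * x) * y := by group
        _ = x * (x * y) * y := by rw [hxy]
        _ = (x * x) * (y * y) := by group
        _ = 1 := by rw [ihx, ihy, one_mul]
    | inv x hx ihx =>
      calc x⁻¹ * x⁻¹ = (x * x)⁻¹ := by group
        _ = 1 := by rw [ihx, inv_one]
  have hzN : z ∈ N := Subgroup.subset_normalClosure (Set.mem_singleton z)
  have hNnormal : N.Normal := Subgroup.normalClosure_normal
  have hle : Nat.card N ≤ 4 := by
    by_cases htN : t ∈ N ∨ t * z ∈ N
    · have hsub : (N : Set G) ⊆ ((({1, t, z, t * z} : Finset G)) : Set G) := by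
        intro b hb
        simp only [Finset.coe_insert, Finset.coe_singleton, Set.mem_insert_iff,
          Set.mem_singleton_iff]
        rcases htN with h | h
        · exact B.hV b (hcommN b hb t h)
        · exact hCtz b (hcommN b hb _ h)
      calc Nat.card N = (N : Set G).ncard := Nat.card_coe_set_eq _
        _ ≤ ((({1, t, z, t * z} : Finset G)) : Set G).ncard :=
            Set.ncard_le_ncard hsub (Set.toFinite _)
        _ = ({1, t, z, t * z} : Finset G).card := Set.ncard_coe_finset _
        _ ≤ 4 := Finset.card_le_four
    · push Not at htN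
      apply card_le_four_of_fixed hNnormal hcommN hexpN B.ht2 hzN
      intro a ha hat
      rcases B.hV a hat with h | h | h | h
      · exact Or.inl h
      · rw [h] at ha; exact absurd ha htN.1
      · exact Or.inr h
      · rw [h] at ha; exact absurd ha htN.2
  refine ⟨N, hNnormal, ⟨hNcomm, ?_⟩, two_or_four_of_le hexpN hzN B.hz1 hle⟩
  intro a ha
  rw [pow_two]; exact hexpN a ha

end Cfsg.Agent.H16AF
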