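import Mathlib
import Cfsg.Agent.H16AF2

set_option autoImplicit false

namespace Cfsg.Agent.H16AF

open Cfsg.Agent.helper19.C3

variable {G : Type*} [Group G]

theorem comm_of_sq {a b : G} (ha : a * a = 1) (hb : b * b = 1) (hab : (a * b) * (a * b) = 1) :
    a * b = b * a := by
  have e1 : (a * b)⁻¹ = a * b := inv_eq_self_of_sq hab
  have e2 : a⁻¹ = a := inv_eq_self_of_sq ha
  have e3 : b⁻¹ = b := inv_eq_self_of_sq hb
  calc a * b = (a * b)⁻¹ := e1.symm
    _ = b⁻¹ * a⁻¹ := mul_inv_rev _ _
    _ = b * a := by rw [e2, e3]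

theorem case_three [Finite G] {t z : G} (B : Base t z)
    (hC4 : Nat.card ↥(Subgroup.centralizer ({t} : Set G)) = 4)
    (h1 : ¬ Cj t z) (h2 : ¬ Cj t (t * z)) : Cfsg.HasNormalPComplement 2 G := by
  classical
  haveI : Fact (Nat.Prime 2) := ⟨Nat.prime_two⟩
  set V := Subgroup.centralizer ({t} : Set G) with hV
  have hVp : IsPGroup 2 V := IsPGroup.of_card (n := 2) (by rw [hC4]; norm_num)
  obtain ⟨P, hVP⟩ := hVp.exists_le_sylow
  -- any element conjugating t into V centralizes t
  have hfix : ∀ x : G, (x * t * x⁻¹) * t = t * (x * t * x⁻¹) → x * t = t * x := by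
    intro x hx
    rcases B.hV _ hx with h | h | h | h
    · exfalso
      apply B.ht1
      have := congrArg (fun y => x⁻¹ * y * x) h
      simpa [mul_assoc] using this
    · have := congrArg (fun y => y * x) h
      simpa [mul_assoc] using this
    · exact absurd ⟨x, h⟩ h1
    · exact absurd ⟨x, h⟩ h2
  have hnorm : ∀ x : G, x ∈ Subgroup.normalizer ((V : Subgroup G) : Set G) → x ∈ V := by
    intro x hx
    rw [Subgroup.mem_normalizer_iff] at hx
    have htV : t ∈ V := mem_cent.mpr rfl
    have := (hx t).mp htV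
    exact mem_cent.mpr (hfix x (mem_cent.mp this))
  have hPV : (P : Subgroup G) = V := by
    by_contra hne
    have hlt : V < (P : Subgroup G) := lt_of_le_of_ne hVP (Ne.symm hne)
    obtain ⟨x, -, hxV, hxN⟩ := Cfsg.Agent.h26TTX.exists_normalizing_in P.2 hlt
    exact hxV (hnorm x hxN)
  have hVcomm : ∀ a ∈ V, ∀ b ∈ V, a * b = b * a := by
    intro a ha b hb
    have ha2 := B.sq_of_comm (mem_cent.mp ha)
    have hb2 := B.sq_of_comm (mem_cent.mp hb)
    have hab2 := B.sq_of_comm (mem_cent.mp (V.mul_mem ha hb))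
    exact comm_of_sq ha2 hb2 hab2
  have hNC : Subgroup.normalizer ((P : Subgroup G) : Set G) ≤
      Subgroup.centralizer ((P : Subgroup G) : Set G) := by
    rw [hPV]
    intro x hx
    have hxV := hnorm x hx
    rw [Subgroup.mem_centralizer_iff]
    intro y hy
    exact hVcomm y hy x hxV
  exact ⟨P, (MonoidHom.transferSylow P hNC).ker, MonoidHom.normal_ker _,
    MonoidHom.ker_transferSylow_isComplement' P hNC⟩

end Cfsg.Agent.H16AF
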