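import Mathlib
import Cfsg.Agent.H16AF3

set_option autoImplicit false

namespace Cfsg.Agent.H16AF

open Cfsg.Agent.helper19.C3

variable {G : Type*} [Group G]

/-- involution -/
def IsInv (u : G) : Prop := u ≠ 1 ∧ u * u = 1

/-- `g` is a non-involution inverted by `x` -/
def InR (x g : G) : Prop := g * g ≠ 1 ∧ x * g * x = g⁻¹

/-- conjugation-invariant hypotheses of the all-conjugate case -/
structure CI (G : Type*) [Group G] : Prop where
  exp : ∀ u : G, IsInv u → ∀ y : G, y * u = u * y → y * y = 1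
  four : ∀ u : G, IsInv u → Nat.card ↥(Subgroup.centralizer ({u} : Set G)) = 4

theorem IsInv.inv_eq {u : G} (h : IsInv u) : u⁻¹ = u := inv_eq_self_of_sq h.2

theorem IsInv.mul_of_comm {x y : G} (hx : IsInv x) (hy : IsInv y) (hxy : x * y = y * x)
    (hne : x ≠ y) : IsInv (x * y) := by
  refine ⟨?_, ?_⟩
  · intro h
    apply hne
    have := congrArg (fun a => a * y) h
    simp only [mul_assoc, hy.2, mul_one, one_mul] at this
    exact this
  · calc (x * y) * (x * y) = x * (y * x) * y := by group
      _ = x * (x * y) * y := by rw [hxy]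
      _ = (x * x) * (y * y) := by group
      _ = 1 := by rw [hx.2, hy.2, one_mul]

namespace CI

variable [Finite G]

theorem comm_or_odd (H : CI G) {x y : G} (hx : IsInv x) (hy : IsInv y) :
    x * y = y * x ∨ Odd (orderOf (x * y)) := by
  by_cases hodd : Odd (orderOf (x * y))
  · exact Or.inr hodd
  · left
    obtain ⟨m, -, hw2, hwx, hwy⟩ := exists_central_invol hx.2 hy.2 hodd
    set w := (x * y) ^ m with hw
    have hwinv : IsInv w := by
      refine ⟨?_, ?_⟩
      · intro h
        rw [h, orderOf_one] at hw2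
        norm_num at hw2
      · have := pow_orderOf_eq_one w
        rw [hw2, pow_two] at this
        exact this
    have hxy2 : (x * y) * (x * y) = 1 := by
      apply H.exp w hwinv
      calc (x * y) * w = x * (y * w) := by group
        _ = x * (w * y) := by rw [hwy]
        _ = (x * w) * y := by group
        _ = (w * x) * y := by rw [hwx]
        _ = w * (x * y) := by group
    exact comm_of_sq hx.2 hy.2 hxy2

theorem no_inv_comm (H : CI G) {x g w : G} (hg : InR x g) (hw : IsInv w)
    (hwg : w * g = g * w) : False :=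
  hg.1 (H.exp w hw g hwg.symm)

theorem inv_conj {x g : G} (hx : IsInv x) (hg : InR x g) : x * g⁻¹ * x = g := by
  have h := congrArg (fun a => a⁻¹) hg.2
  simp only [mul_inv_rev, inv_inv, hx.inv_eq] at h
  rw [← mul_assoc] at h
  exact h

theorem x_normalizes {x g : G} (hx : IsInv x) (hg : InR x g) {c : G}
    (hc : c * g = g * c) : (x * c * x) * g = g * (x * c * x) := by
  have h1 := inv_conj hx hg
  have hc' : c * g⁻¹ = g⁻¹ * c := by
    calc c * g⁻¹ = g⁻¹ * (g * c) * g⁻¹ := by group
      _ = g⁻¹ * (c * g) * g⁻¹ := by rw [hc]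
      _ = g⁻¹ * c := by group
  calc (x * c * x) * g = (x * c * x) * (x * g⁻¹ * x) := by rw [h1]
    _ = x * c * (x * x) * g⁻¹ * x := by group
    _ = x * (c * g⁻¹) * x := by rw [hx.2]; group
    _ = x * (g⁻¹ * c) * x := by rw [hc']
    _ = x * g⁻¹ * (x * x) * c * x := by rw [hx.2]; group
    _ = (x * g⁻¹ * x) * (x * c * x) := by group
    _ = g * (x * c * x) := by rw [h1]

/-- an involution normalizing a subgroup and fixing no nontrivial element of it inverts it -/
theorem inverts_of_fpf {A : Subgroup G} {u : G} (hu : IsInv u)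
    (hnorm : ∀ c ∈ A, u * c * u ∈ A) (hfpf : ∀ e ∈ A, e * u = u * e → e = 1) :
    ∀ c ∈ A, u * c * u = c⁻¹ := by
  classical
  let f : A → A := fun c => ⟨c.1⁻¹ * (u * c.1 * u), A.mul_mem (A.inv_mem c.2) (hnorm c.1 c.2)⟩
  have hfinj : Function.Injective f := by
    intro c d hcd
    have h1 : c.1⁻¹ * (u * c.1 * u) = d.1⁻¹ * (u * d.1 * u) := congrArg Subtype.val hcd
    set e := d.1 * c.1⁻¹ with he
    have heA : e ∈ A := A.mul_mem d.2 (A.inv_mem c.2)
    have h2 : u * d.1 * u = d.1 * c.1⁻¹ * (u * c.1 * u) := by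
      calc u * d.1 * u = d.1 * (d.1⁻¹ * (u * d.1 * u)) := by group
        _ = d.1 * (c.1⁻¹ * (u * c.1 * u)) := by rw [h1]
        _ = d.1 * c.1⁻¹ * (u * c.1 * u) := by group
    have h3 : u * e * u = e := by
      calc u * e * u = u * d.1 * (u * u) * c.1⁻¹ * u := by rw [hu.2, he]; group
        _ = (u * d.1 * u) * (u * c.1⁻¹ * u) := by group
        _ = d.1 * c.1⁻¹ * (u * c.1 * u) * (u * c.1⁻¹ * u) := by rw [h2]
        _ = d.1 * c.1⁻¹ * (u * c.1 * (u * u) * c.1⁻¹ * u) := by group
        _ = d.1 * c.1⁻¹ * (u * c.1 * 1 * c.1⁻¹ * u) := by rw [hu.2]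
        _ = d.1 * c.1⁻¹ * (u * u) := by group
        _ = e := by rw [hu.2, mul_one]
    have h4 : e * u = u * e := by
      calc e * u = (u * u) * e * u := by rw [hu.2, one_mul]
        _ = u * (u * e * u) := by group
        _ = u * e := by rw [h3]
    have h6 : e = 1 := hfpf e heA h4
    apply Subtype.ext
    have := congrArg (fun a => a * c.1) h6
    simp only [he, mul_assoc, inv_mul_cancel, mul_one, one_mul] at this
    exact this.symm
  have hfsurj : Function.Surjective f := Finite.injective_iff_surjective.mp hfinj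
  intro c hc
  obtain ⟨a, ha⟩ := hfsurj ⟨c, hc⟩
  have hca : c = a.1⁻¹ * (u * a.1 * u) := (congrArg Subtype.val ha).symm
  rw [hca]
  calc u * (a.1⁻¹ * (u * a.1 * u)) * u = u * a.1⁻¹ * u * a.1 * (u * u) := by group
    _ = u * a.1⁻¹ * u * a.1 := by rw [hu.2, mul_one]
    _ = u⁻¹ * a.1⁻¹ * u⁻¹ * a.1 := by rw [hu.inv_eq]
    _ = (a.1⁻¹ * (u * a.1 * u))⁻¹ := by group

/-- an involution normalizing `C(g)` inverts it -/
theorem inverts (H : CI G) {x g u : G} (hg : InR x g) (hu : IsInv u)
    (hnorm : ∀ c : G, c * g = g * c → (u * c * u) * g = g * (u * c * u)) :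
    ∀ c : G, c * g = g * c → u * c * u = c⁻¹ := by
  intro c hc
  have := inverts_of_fpf (A := Subgroup.centralizer ({g} : Set G)) hu
    (fun c hc => mem_cent.mpr (hnorm c (mem_cent.mp hc)))
    (fun e he heu => by
      by_contra hne
      exact H.no_inv_comm hg ⟨hne, H.exp u hu e heu⟩ (mem_cent.mp he))
    c (mem_cent.mpr hc)
  exact this

theorem inverts_x (H : CI G) {x g : G} (hx : IsInv x) (hg : InR x g) :
    ∀ c : G, c * g = g * c → x * c * x = c⁻¹ :=
  H.inverts hg hx (fun _ hc => x_normalizes hx hg hc)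

theorem cent_comm (H : CI G) {x g : G} (hx : IsInv x) (hg : InR x g) {c d : G}
    (hc : c * g = g * c) (hd : d * g = g * d) : c * d = d * c := by
  have hcd : (c * d) * g = g * (c * d) := by
    calc (c * d) * g = c * (d * g) := by group
      _ = c * (g * d) := by rw [hd]
      _ = (c * g) * d := by group
      _ = (g * c) * d := by rw [hc]
      _ = g * (c * d) := by group
  have h1 := H.inverts_x hx hg (c * d) hcd
  have h2 := H.inverts_x hx hg c hc
  have h3 := H.inverts_x hx hg d hd
  have h4 : x * (c * d) * x = (x * c * x) * (x * d * x) := by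
    calc x * (c * d) * x = x * c * 1 * d * x := by group
      _ = x * c * (x * x) * d * x := by rw [hx.2]
      _ = (x * c * x) * (x * d * x) := by group
  rw [h1, h2, h3] at h4
  have h5 := congrArg (fun a => a⁻¹) h4
  simp only [mul_inv_rev, inv_inv] at h5
  exact h5

theorem mem_R_of_cent (H : CI G) {x g a : G} (hx : IsInv x) (hg : InR x g)
    (ha : a * g = g * a) (ha1 : a ≠ 1) : InR x a := by
  refine ⟨?_, H.inverts_x hx hg a ha⟩
  intro h
  exact H.no_inv_comm hg ⟨ha1, h⟩ ha

theorem cent_eq (H : CI G) {x g a : G} (hx : IsInv x) (hg : InR x g)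
    (ha : a * g = g * a) (ha1 : a ≠ 1) (c : G) : c * a = a * c ↔ c * g = g * c := by
  constructor
  · intro hc
    exact H.cent_comm hx (H.mem_R_of_cent hx hg ha ha1) hc ha.symm
  · intro hc
    exact H.cent_comm hx hg hc ha

theorem g_ne_one {x g : G} (hg : InR x g) : g ≠ 1 := by
  intro h
  apply hg.1
  rw [h, one_mul]

theorem odd_card_cent (H : CI G) {x g : G} (hg : InR x g) :
    Odd (Nat.card ↥(Subgroup.centralizer ({g} : Set G))) := by
  haveI : Fact (Nat.Prime 2) := ⟨Nat.prime_two⟩
  rw [← Nat.not_even_iff_odd]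
  intro hev
  obtain ⟨w, hw⟩ := exists_prime_orderOf_dvd_card' (G := ↥(Subgroup.centralizer ({g} : Set G))) 2
    hev.two_dvd
  have hw1 : w.1 ≠ 1 := by
    intro h
    have : w = 1 := Subtype.ext h
    rw [this, orderOf_one] at hw
    norm_num at hw
  have hw2 : w.1 * w.1 = 1 := by
    have := pow_orderOf_eq_one w
    rw [hw, pow_two] at this
    exact congrArg Subtype.val this
  exact H.no_inv_comm hg ⟨hw1, hw2⟩ (mem_cent.mp w.2)

end CI

end Cfsg.Agent.H16AF
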