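import Mathlib

set_option autoImplicit false

namespace Cfsg.Agent.H16AF

/-- a fixed-point-free involution on a finset splits it into two halves -/
theorem exists_half {α : Type*} [DecidableEq α] (ι : α → α) (hι : ∀ a, ι (ι a) = a) :
    ∀ (n : ℕ) (s : Finset α), s.card = n → (∀ a ∈ s, ι a ∈ s) → (∀ a ∈ s, ι a ≠ a) →
      ∃ s' : Finset α, s' ⊆ s ∧ Disjoint s' (s'.image ι) ∧ s = s' ∪ s'.image ι := by
  intro n
  induction n using Nat.strong_induction_on with
  | _ n ih =>
    intro s hs hmem hfix
    by_cases hempty : s = ∅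
    · refine ⟨∅, by simp, by simp, by simp [hempty]⟩
    · obtain ⟨a, ha⟩ := Finset.nonempty_iff_ne_empty.mpr hempty
      set s₁ := (s.erase a).erase (ι a) with hs₁
      have hιa : ι a ∈ s := hmem a ha
      have hne : ι a ≠ a := hfix a ha
      have hιa' : ι a ∈ s.erase a := Finset.mem_erase.mpr ⟨hne, hιa⟩
      have hcard : s₁.card < n := by
        rw [hs₁, Finset.card_erase_of_mem hιa', Finset.card_erase_of_mem ha, hs]
        have : 0 < n := by rw [← hs]; exact Finset.card_pos.mpr ⟨a, ha⟩
        omega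
      have hmem₁ : ∀ b ∈ s₁, ι b ∈ s₁ := by
        intro b hb
        rw [hs₁, Finset.mem_erase, Finset.mem_erase] at hb ⊢
        obtain ⟨hb1, hb2, hb3⟩ := hb
        refine ⟨?_, ?_, hmem b hb3⟩
        · intro h
          apply hb2
          have := congrArg ι h
          rw [hι, hι] at this
          exact this
        · intro h
          apply hb1
          have := congrArg ι h
          rw [hι] at this
          exact this
      have hfix₁ : ∀ b ∈ s₁, ι b ≠ b := by
        intro b hb
        rw [hs₁, Finset.mem_erase, Finset.mem_erase] at hb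
        exact hfix b hb.2.2
      obtain ⟨s₁', hsub, hdisj, heq⟩ := ih s₁.card hcard s₁ rfl hmem₁ hfix₁
      have hs₁s : s₁ ⊆ s := by
        intro b hb
        rw [hs₁, Finset.mem_erase, Finset.mem_erase] at hb
        exact hb.2.2
      have ha₁ : a ∉ s₁ := by
        rw [hs₁, Finset.mem_erase, Finset.mem_erase]
        intro h
        exact h.2.1 rfl
      have hιa₁ : ι a ∉ s₁ := by
        rw [hs₁, Finset.mem_erase]
        intro h
        exact h.1 rfl
      refine ⟨insert a s₁', ?_, ?_, ?_⟩
      · intro b hb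
        rw [Finset.mem_insert] at hb
        rcases hb with rfl | hb
        · exact ha
        · exact hs₁s (hsub hb)
      · rw [Finset.image_insert, Finset.disjoint_left]
        intro b hb hb'
        rw [Finset.mem_insert] at hb hb'
        rcases hb with rfl | hb
        · rcases hb' with h | h
          · exact hne h.symm
          · apply ha₁
            rw [heq]
            exact Finset.mem_union_right _ h
        · rcases hb' with h | h
          · apply hιa₁
            rw [← h]
            exact hsub hb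
          · exact (Finset.disjoint_left.mp hdisj) hb h
      · ext b
        simp only [Finset.mem_union, Finset.mem_insert, Finset.image_insert]
        constructor
        · intro hb
          by_cases hba : b = a
          · exact Or.inl (Or.inl hba)
          · by_cases hbι : b = ι a
            · exact Or.inr (Or.inl hbι)
            · have : b ∈ s₁ := by
                rw [hs₁, Finset.mem_erase, Finset.mem_erase]
                exact ⟨hbι, hba, hb⟩
              rw [heq, Finset.mem_union] at this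
              rcases this with h | h
              · exact Or.inl (Or.inr h)
              · exact Or.inr (Or.inr h)
        · intro hb
          rcases hb with (rfl | hb) | (rfl | hb)
          · exact ha
          · exact hs₁s (hsub hb)
          · exact hιa
          · apply hs₁s
            rw [heq]
            exact Finset.mem_union_right _ hb

/-- sum over a finset with a fixed-point-free involution preserving the summand -/
theorem sum_half {α β : Type*} [DecidableEq α] [AddCommMonoid β] (ι : α → α)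
    (hι : ∀ a, ι (ι a) = a) (s : Finset α)
    (hmem : ∀ a ∈ s, ι a ∈ s) (hfix : ∀ a ∈ s, ι a ≠ a) :
    ∃ s' : Finset α, s' ⊆ s ∧ ∀ F : α → β, (∀ a ∈ s, F (ι a) = F a) →
      ∑ a ∈ s, F a = ∑ a ∈ s', F a + ∑ a ∈ s', F a := by
  obtain ⟨s', hsub, hdisj, heq⟩ := exists_half ι hι s.card s rfl hmem hfix
  refine ⟨s', hsub, ?_⟩
  intro F hF
  have hinj : Set.InjOn ι (s' : Set α) := by
    intro a _ b _ hab
    have := congrArg ι hab
    rwa [hι, hι] at this
  conv_lhs => rw [heq]
  rw [Finset.sum_union hdisj, Finset.sum_image hinj]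
  congr 1
  apply Finset.sum_congr rfl
  intro a ha
  exact hF a (hsub ha)

theorem arith2 (a b : ℕ) (ha : Odd a) (hb : Odd b) (ha3 : 3 ≤ a) (hb3 : 3 ≤ b)
    (h1 : a ∣ 4 * (2 * a + 2 * b - 1)) (h2 : b ∣ 4 * (2 * a + 2 * b - 1)) :
    2 * a + 2 * b - 1 = 15 := by
  have key : ∀ a b : ℕ, Odd a → Odd b → 3 ≤ a → 3 ≤ b → a ≤ b →
      a ∣ 4 * (2 * a + 2 * b - 1) → b ∣ 4 * (2 * a + 2 * b - 1) → 2 * a + 2 * b - 1 = 15 := by
    intro a b ha hb ha3 hb3 hab h1 h2
    have hca : Nat.Coprime a 4 := by
      have : Nat.Coprime a 2 := Nat.coprime_two_right.mpr ha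
      exact Nat.Coprime.pow_right 2 this
    have hcb : Nat.Coprime b 4 := by
      have : Nat.Coprime b 2 := Nat.coprime_two_right.mpr hb
      exact Nat.Coprime.pow_right 2 this
    have h1' : a ∣ 2 * a + 2 * b - 1 := hca.dvd_of_dvd_mul_left h1
    have h2' : b ∣ 2 * a + 2 * b - 1 := hcb.dvd_of_dvd_mul_left h2
    have h1'' : a ∣ 2 * b - 1 := by
      have e : 2 * a + 2 * b - 1 = 2 * a + (2 * b - 1) := by omega
      rw [e] at h1'
      exact (Nat.dvd_add_right (Dvd.intro_left 2 rfl)).mp h1'
    have h2'' : b ∣ 2 * a - 1 := by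
      have e : 2 * a + 2 * b - 1 = 2 * b + (2 * a - 1) := by omega
      rw [e] at h2'
      exact (Nat.dvd_add_right (Dvd.intro_left 2 rfl)).mp h2'
    obtain ⟨k, hk⟩ := h2''
    have hk1 : k = 1 := by
      have hkpos : 0 < k := by
        rcases Nat.eq_zero_or_pos k with h | h
        · rw [h] at hk; omega
        · exact h
      by_contra hne
      have : 2 ≤ k := by omega
      have : 2 * b ≤ b * k := by nlinarith
      omega
    rw [hk1, mul_one] at hk
    have e : 2 * b - 1 = 4 * a - 3 := by omega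
    rw [e] at h1''
    have h3 : a ∣ 3 := by
      have e2 : 4 * a - 3 + 3 = 4 * a := by omega
      have h4 : a ∣ 4 * a - 3 + 3 := by rw [e2]; exact Dvd.intro_left 4 rfl
      exact (Nat.dvd_add_right h1'').mp h4
    have ha_eq : a = 3 := by
      have := Nat.le_of_dvd (by norm_num) h3
      omega
    omega
  rcases le_total a b with hab | hab
  · exact key a b ha hb ha3 hb3 hab h1 h2
  · have := key b a hb ha hb3 ha3 hab (by rwa [add_comm (2 * b) (2 * a)])
      (by rwa [add_comm (2 * b) (2 * a)])
    omega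

theorem arith1 (a : ℕ) (ha : Odd a) (ha3 : 3 ≤ a) (h1 : a ∣ 4 * (3 + 2 * (a - 1))) : False := by
  have hca : Nat.Coprime a 4 := by
    have : Nat.Coprime a 2 := Nat.coprime_two_right.mpr ha
    exact Nat.Coprime.pow_right 2 this
  have h1' : a ∣ 3 + 2 * (a - 1) := hca.dvd_of_dvd_mul_left h1
  have e : 3 + 2 * (a - 1) = 2 * a + 1 := by omega
  rw [e] at h1'
  have : a ∣ 1 := (Nat.dvd_add_right (Dvd.intro_left 2 rfl)).mp h1'
  have := Nat.le_of_dvd (by norm_num) this
  omega


theorem sum_of_half {α β : Type*} [DecidableEq α] [AddCommMonoid β] (ι : α → α)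
    (hι : ∀ a, ι (ι a) = a) {s s' : Finset α} (hsub : s' ⊆ s)
    (hdisj : Disjoint s' (s'.image ι)) (heq : s = s' ∪ s'.image ι)
    (F : α → β) (hF : ∀ a ∈ s, F (ι a) = F a) :
    ∑ a ∈ s, F a = ∑ a ∈ s', F a + ∑ a ∈ s', F a := by
  have hinj : Set.InjOn ι (s' : Set α) := by
    intro a _ b _ hab
    have := congrArg ι hab
    rwa [hι, hι] at this
  conv_lhs => rw [heq]
  rw [Finset.sum_union hdisj, Finset.sum_image hinj]
  congr 1
  apply Finset.sum_congr rfl
  intro a ha
  exact hF a (hsub ha)

theorem arith_main {ι : Type*} (s' : Finset ι) (a : ι → ℕ) (n : ℕ)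
    (h1 : ∀ i ∈ s', Odd (a i) ∧ 3 ≤ a i ∧ a i ∣ 4 * n)
    (h2 : n = 3 + 2 * ∑ i ∈ s', (a i - 1))
    (h3 : 2 * ∑ i ∈ s', (((a i - 1 : ℕ) : ℚ) / (a i : ℚ)) < 3) : n = 3 ∨ n = 15 := by
  classical
  have hterm : ∀ i ∈ s', (2 / 3 : ℚ) ≤ ((a i - 1 : ℕ) : ℚ) / (a i : ℚ) := by
    intro i hi
    obtain ⟨-, h3', -⟩ := h1 i hi
    have hpos : (0 : ℚ) < (a i : ℚ) := by
      have : 0 < a i := by omega
      exact_mod_cast this
    rw [Nat.cast_sub (by omega : 1 ≤ a i), le_div_iff₀ hpos]
    have : (3 : ℚ) ≤ (a i : ℚ) := by exact_mod_cast h3'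
    push_cast
    linarith
  have hcard : s'.card ≤ 2 := by
    have := Finset.card_nsmul_le_sum s' _ (2 / 3 : ℚ) hterm
    rw [nsmul_eq_mul] at this
    by_contra hcon
    push Not at hcon
    have h3c : (3 : ℚ) ≤ (s'.card : ℚ) := by exact_mod_cast hcon
    nlinarith
  have hc : s'.card = 0 ∨ s'.card = 1 ∨ s'.card = 2 := by omega
  rcases hc with hc | hc | hc
  · left
    rw [Finset.card_eq_zero] at hc
    rw [hc, Finset.sum_empty] at h2
    omega
  · exfalso
    rw [Finset.card_eq_one] at hc
    obtain ⟨i, hi⟩ := hc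
    rw [hi, Finset.sum_singleton] at h2
    obtain ⟨ho, h3', hd⟩ := h1 i (by rw [hi]; exact Finset.mem_singleton_self i)
    rw [h2] at hd
    exact arith1 (a i) ho h3' hd
  · right
    rw [Finset.card_eq_two] at hc
    obtain ⟨i, j, hij, hs⟩ := hc
    rw [hs, Finset.sum_pair hij] at h2
    obtain ⟨hoi, h3i, hdi⟩ := h1 i (by rw [hs]; simp)
    obtain ⟨hoj, h3j, hdj⟩ := h1 j (by rw [hs]; simp)
    have e : n = 2 * a i + 2 * a j - 1 := by omega
    rw [e] at hdi hdj
    rw [e]
    exact arith2 (a i) (a j) hoi hoj h3i h3j hdi hdj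

end Cfsg.Agent.H16AF
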