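import Mathlib
import Cfsg.Agent.H16AF4
import Cfsg.Agent.H16AF5

set_option autoImplicit false

namespace Cfsg.Agent.H16AF

open Classical

variable {G : Type*} [Group G] [Fintype G]

/-- the set of involutions -/
noncomputable def invS (G : Type*) [Group G] [Fintype G] : Finset G :=
  Finset.univ.filter (fun u => IsInv u)

/-- non-involutions inverted by `x` -/
noncomputable def rS (x : G) : Finset G := Finset.univ.filter (fun g => InR x g)

/-- order of the centralizer -/
noncomputable def cz (g : G) : ℕ := Nat.card ↥(Subgroup.centralizer ({g} : Set G))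

theorem mem_invS {u : G} : u ∈ invS G ↔ IsInv u := by
  simp [invS]

theorem mem_rS {x g : G} : g ∈ rS x ↔ InR x g := by
  simp [rS]

theorem card_comm_filter (u : G) :
    (Finset.univ.filter (fun c : G => c * u = u * c)).card = cz u := by
  unfold cz
  rw [Nat.card_eq_fintype_card, Fintype.card_subtype]
  congr 1
  ext c
  simp only [Finset.mem_filter, Finset.mem_univ, true_and]
  exact mem_cent.symm

theorem card_mem_filter (A : Subgroup G) :
    (Finset.univ.filter (fun c : G => c ∈ A)).card = Nat.card A := by
  rw [Nat.card_eq_fintype_card, Fintype.card_subtype]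

namespace CI

theorem card_inverting (H : CI G) {x g : G} (hx : IsInv x) (hg : InR x g) :
    ((invS G).filter (fun x' => x' * g * x' = g⁻¹)).card = cz g := by
  rw [← card_comm_filter g]
  symm
  apply Finset.card_bij (fun c _ => x * c)
  · intro c hc
    simp only [Finset.mem_filter, Finset.mem_univ, true_and] at hc
    have hinv := H.inverts_x hx hg c hc
    rw [Finset.mem_filter, mem_invS]
    refine ⟨⟨?_, ?_⟩, ?_⟩
    · intro h
      have hcx : c = x := by
        have := congrArg (fun a => x * a) h
        simp only [← mul_assoc, hx.2, one_mul, mul_one] at this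
        exact this
      rw [hcx] at hc
      apply hg.1
      have h2 := hg.2
      have : g⁻¹ = g := by
        calc g⁻¹ = x * g * x := h2.symm
          _ = (x * g) * x := rfl
          _ = (g * x) * x := by rw [hc]
          _ = g * (x * x) := by group
          _ = g := by rw [hx.2, mul_one]
      calc g * g = g⁻¹ * g := by rw [this]
        _ = 1 := inv_mul_cancel g
    · calc (x * c) * (x * c) = (x * c * x) * c := by group
        _ = c⁻¹ * c := by rw [hinv]
        _ = 1 := inv_mul_cancel c
    · calc (x * c) * g * (x * c) = x * (c * g) * x * c := by group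
        _ = x * (g * c) * x * c := by rw [hc]
        _ = x * g * (x * x) * c * x * c := by rw [hx.2]; group
        _ = (x * g * x) * (x * c * x) * c := by group
        _ = g⁻¹ * c⁻¹ * c := by rw [hg.2, hinv]
        _ = g⁻¹ := by group
  · intro c _ d _ hcd
    exact mul_left_cancel hcd
  · intro x' hx'
    rw [Finset.mem_filter, mem_invS] at hx'
    obtain ⟨hx'inv, hx'g⟩ := hx'
    refine ⟨x * x', ?_, ?_⟩
    · simp only [Finset.mem_filter, Finset.mem_univ, true_and]
      have h1 : x' * g = g⁻¹ * x' := by
        calc x' * g = (x' * g * x') * x'⁻¹ := by group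
          _ = g⁻¹ * x' := by rw [hx'g, hx'inv.inv_eq]
      have h2 := inv_conj hx hg
      calc (x * x') * g = x * (x' * g) := by group
        _ = x * (g⁻¹ * x') := by rw [h1]
        _ = x * g⁻¹ * (x * x) * x' := by rw [hx.2]; group
        _ = (x * g⁻¹ * x) * (x * x') := by group
        _ = g * (x * x') := by rw [h2]
    · calc x * (x * x') = (x * x) * x' := by group
        _ = x' := by rw [hx.2, one_mul]

theorem card_comm_inv (H : CI G) {x : G} (hx : IsInv x) :
    ((invS G).filter (fun y => y * x = x * y)).card = 3 := by
  have h4 : (Finset.univ.filter (fun c : G => c * x = x * c)).card = 4 := by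
    rw [card_comm_filter]; exact H.four x hx
  have heq : (invS G).filter (fun y => y * x = x * y) =
      (Finset.univ.filter (fun c : G => c * x = x * c)).erase 1 := by
    ext y
    simp only [Finset.mem_filter, mem_invS, Finset.mem_erase, Finset.mem_univ, true_and]
    constructor
    · rintro ⟨hy, hc⟩
      exact ⟨hy.1, hc⟩
    · rintro ⟨hy1, hc⟩
      exact ⟨⟨hy1, H.exp x hx y hc⟩, hc⟩
  rw [heq, Finset.card_erase_of_mem, h4]
  simp

theorem card_R (H : CI G) {x : G} (hx : IsInv x) : (rS x).card + 3 = (invS G).card := by
  rw [← H.card_comm_inv hx, add_comm,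
    ← Finset.card_filter_add_card_filter_not (s := invS G) (fun y => y * x = x * y)]
  congr 1
  apply Finset.card_bij (fun g _ => x * g)
  · intro g hg
    rw [mem_rS] at hg
    rw [Finset.mem_filter, mem_invS]
    have hyy : (x * g) * (x * g) = 1 := by
      calc (x * g) * (x * g) = (x * g * x) * g := by group
        _ = g⁻¹ * g := by rw [hg.2]
        _ = 1 := inv_mul_cancel g
    refine ⟨⟨?_, hyy⟩, ?_⟩
    · intro h
      apply hg.1
      have hgx : g = x := by
        have := congrArg (fun a => x * a) h
        simp only [← mul_assoc, hx.2, one_mul, mul_one] at this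
        exact this
      rw [hgx]; exact hx.2
    · intro hc
      apply hg.1
      have h1 : (x * g) * x = g⁻¹ := hg.2
      have h2 : x * (x * g) = g := by rw [← mul_assoc, hx.2, one_mul]
      rw [hc, h2] at h1
      calc g * g = g⁻¹ * g := by rw [← h1]
        _ = 1 := inv_mul_cancel g
  · intro c _ d _ hcd
    exact mul_left_cancel hcd
  · intro y hy
    rw [Finset.mem_filter, mem_invS] at hy
    obtain ⟨hyinv, hnc⟩ := hy
    refine ⟨x * y, ?_, ?_⟩
    · rw [mem_rS]
      refine ⟨?_, ?_⟩
      · intro h
        apply hnc
        exact (comm_of_sq hx.2 hyinv.2 h).symm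
      · calc x * (x * y) * x = (x * x) * y * x := by group
          _ = y * x := by rw [hx.2, one_mul]
          _ = y⁻¹ * x⁻¹ := by rw [hyinv.inv_eq, hx.inv_eq]
          _ = (x * y)⁻¹ := (mul_inv_rev x y).symm
    · calc x * (x * y) = (x * x) * y := by group
        _ = y := by rw [hx.2, one_mul]

end CI

end Cfsg.Agent.H16AF
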