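import Mathlib
import Cfsg.Agent.H16AF6

set_option autoImplicit false

namespace Cfsg.Agent.H16AF

open Classical

variable {G : Type*} [Group G] [Fintype G]

theorem isInv_conj {u : G} (hu : IsInv u) (h : G) : IsInv (h * u * h⁻¹) := by
  refine ⟨?_, ?_⟩
  · intro h1
    apply hu.1
    have := congrArg (fun y => h⁻¹ * y * h) h1
    simpa [mul_assoc] using this
  · calc (h * u * h⁻¹) * (h * u * h⁻¹) = h * (u * u) * h⁻¹ := by group
      _ = 1 := by rw [hu.2]; group

/-- `|G| = 4 · #involutions` when all involutions are conjugate to `t`. -/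
theorem card_G {t : G} (ht : IsInv t) (h4 : cz t = 4) (hconj : ∀ u : G, IsInv u → Cj t u) :
    Fintype.card G = 4 * (invS G).card := by
  have hmaps : ∀ h ∈ (Finset.univ : Finset G), h * t * h⁻¹ ∈ invS G := by
    intro h _
    rw [mem_invS]; exact isInv_conj ht h
  rw [← Finset.card_univ, Finset.card_eq_sum_card_fiberwise hmaps]
  have hfib : ∀ u ∈ invS G,
      (Finset.univ.filter (fun h : G => h * t * h⁻¹ = u)).card = 4 := by
    intro u hu
    rw [mem_invS] at hu
    obtain ⟨h₀, hh₀⟩ := hconj u hu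
    rw [← h4, ← card_comm_filter t]
    symm
    apply Finset.card_bij (fun c _ => h₀ * c)
    · intro c hc
      simp only [Finset.mem_filter, Finset.mem_univ, true_and] at hc ⊢
      rw [← hh₀]
      calc h₀ * c * t * (h₀ * c)⁻¹ = h₀ * ((c * t) * c⁻¹) * h₀⁻¹ := by group
        _ = h₀ * ((t * c) * c⁻¹) * h₀⁻¹ := by rw [hc]
        _ = h₀ * t * h₀⁻¹ := by group
    · intro c _ d _ hcd
      exact mul_left_cancel hcd
    · intro h hh
      simp only [Finset.mem_filter, Finset.mem_univ, true_and] at hh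
      refine ⟨h₀⁻¹ * h, ?_, by group⟩
      simp only [Finset.mem_filter, Finset.mem_univ, true_and]
      rw [← hh₀] at hh
      calc h₀⁻¹ * h * t = h₀⁻¹ * (h * t * h⁻¹) * h := by group
        _ = h₀⁻¹ * (h₀ * t * h₀⁻¹) * h := by rw [hh]
        _ = t * (h₀⁻¹ * h) := by group
  rw [Finset.sum_congr rfl hfib, Finset.sum_const, smul_eq_mul, mul_comm]

/-- all real non-involutions -/
noncomputable def rAll (G : Type*) [Group G] [Fintype G] : Finset G :=
  Finset.univ.filter (fun g => g * g ≠ 1 ∧ ∃ x : G, IsInv x ∧ x * g * x = g⁻¹)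

theorem mem_rAll {g : G} : g ∈ rAll G ↔ g * g ≠ 1 ∧ ∃ x : G, IsInv x ∧ x * g * x = g⁻¹ := by
  simp [rAll]

theorem card_rAll_le : (rAll G).card + 1 + (invS G).card ≤ Fintype.card G := by
  have hdisj : Disjoint (rAll G) (insert 1 (invS G)) := by
    rw [Finset.disjoint_left]
    intro g hg hg'
    rw [mem_rAll] at hg
    rw [Finset.mem_insert, mem_invS] at hg'
    rcases hg' with h | h
    · apply hg.1; rw [h, one_mul]
    · exact hg.1 h.2
  have h1 : (1 : G) ∉ invS G := by
    rw [mem_invS]; intro h; exact h.1 rfl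
  have := Finset.card_le_univ (rAll G ∪ insert 1 (invS G))
  rw [Finset.card_union_of_disjoint hdisj, Finset.card_insert_of_notMem h1] at this
  omega

namespace CI

/-- the weighted double count -/
theorem sum_weights (H : CI G) :
    ∑ x ∈ invS G, ∑ g ∈ rS x, (1 / (cz g : ℚ)) = ((rAll G).card : ℚ) := by
  have hcomm : ∑ x ∈ invS G, ∑ g ∈ rS x, (1 / (cz g : ℚ)) =
      ∑ g ∈ rAll G, ∑ x ∈ (invS G).filter (fun x' => x' * g * x' = g⁻¹), (1 / (cz g : ℚ)) := by
    apply Finset.sum_comm'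
    intro x g
    rw [mem_rS, mem_rAll, Finset.mem_filter, mem_invS]
    constructor
    · rintro ⟨hx, hg⟩
      exact ⟨⟨hx, hg.2⟩, hg.1, x, hx, hg.2⟩
    · rintro ⟨⟨hx, hxg⟩, hg1, -⟩
      exact ⟨hx, hg1, hxg⟩
  rw [hcomm]
  have hone : ∀ g ∈ rAll G,
      ∑ x ∈ (invS G).filter (fun x' => x' * g * x' = g⁻¹), (1 / (cz g : ℚ)) = 1 := by
    intro g hg
    rw [mem_rAll] at hg
    obtain ⟨hg1, x, hx, hxg⟩ := hg
    rw [Finset.sum_const, H.card_inverting hx ⟨hg1, hxg⟩, nsmul_eq_mul]
    have hpos : (cz g : ℚ) ≠ 0 := by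
      have : 0 < cz g := Nat.card_pos
      exact_mod_cast this.ne'
    field_simp
  rw [Finset.sum_congr rfl hone, Finset.sum_const, nsmul_eq_mul, mul_one]

end CI

end Cfsg.Agent.H16AF
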