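import Mathlib
import Cfsg.Agent.H16AF7

set_option autoImplicit false

namespace Cfsg.Agent.H16AF

open Classical

variable {G : Type*} [Group G]

/-- conjugate of a subgroup (preimage under conjugation by `u`) -/
def cjS (u : G) (A : Subgroup G) : Subgroup G := A.comap (MulAut.conj u).toMonoidHom

theorem mem_cjS {u c : G} {A : Subgroup G} : c ∈ cjS u A ↔ u * c * u⁻¹ ∈ A := by
  simp [cjS, MulAut.conj_apply]

theorem cjS_cjS {u : G} (hu : IsInv u) (A : Subgroup G) : cjS u (cjS u A) = A := by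
  ext c
  rw [mem_cjS, mem_cjS]
  have : u * (u * c * u⁻¹) * u⁻¹ = c := by
    calc u * (u * c * u⁻¹) * u⁻¹ = (u * u) * c * (u * u)⁻¹ := by group
      _ = c := by rw [hu.2]; group
  rw [this]

theorem card_cjS (u : G) (A : Subgroup G) : Nat.card (cjS u A) = Nat.card A := by
  apply Nat.card_congr
  refine ⟨fun c => ⟨u * c.1 * u⁻¹, mem_cjS.mp c.2⟩, fun a => ⟨u⁻¹ * a.1 * u, ?_⟩, ?_, ?_⟩
  · rw [mem_cjS]
    have : u * (u⁻¹ * a.1 * u) * u⁻¹ = a.1 := by group
    rw [this]; exact a.2
  · intro c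
    apply Subtype.ext
    show u⁻¹ * (u * c.1 * u⁻¹) * u = c.1
    group
  · intro a
    apply Subtype.ext
    show u * (u⁻¹ * a.1 * u) * u⁻¹ = a.1
    group

theorem cjS_cent {u : G} (hu : IsInv u) (g : G) :
    cjS u (Subgroup.centralizer ({g} : Set G)) = Subgroup.centralizer ({u * g * u} : Set G) := by
  ext c
  rw [mem_cjS, mem_cent, mem_cent, hu.inv_eq]
  constructor
  · intro h
    calc c * (u * g * u) = (u * u) * c * (u * g * u) := by rw [hu.2, one_mul]
      _ = u * ((u * c * u) * g) * u := by group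
      _ = u * (g * (u * c * u)) * u := by rw [h]
      _ = (u * g * u) * c * (u * u) := by group
      _ = (u * g * u) * c := by rw [hu.2, mul_one]
  · intro h
    calc (u * c * u) * g = u * c * (u * g * u) * u⁻¹ := by group
      _ = u * ((u * g * u) * c) * u⁻¹ := by rw [← h]; group
      _ = (u * u) * g * (u * c * u⁻¹) := by group
      _ = g * (u * c * u) := by rw [hu.2, hu.inv_eq, one_mul]

theorem inR_conj {x g u : G} (hg : InR x g) (hu : IsInv u) (hux : u * x = x * u) :
    InR x (u * g * u) := by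
  refine ⟨?_, ?_⟩
  · intro h
    apply hg.1
    have h2 : u * (g * g) * u = 1 := by
      calc u * (g * g) * u = u * g * 1 * g * u := by group
        _ = u * g * (u * u) * g * u := by rw [hu.2]
        _ = (u * g * u) * (u * g * u) := by group
        _ = 1 := h
    have := congrArg (fun y => u * y * u) h2
    calc g * g = (u * u) * (g * g) * (u * u) := by rw [hu.2]; group
      _ = u * (u * (g * g) * u) * u := by group
      _ = u * 1 * u := this
      _ = 1 := by rw [mul_one, hu.2]
  · have hxu : x * u = u * x := hux.symm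
    calc x * (u * g * u) * x = (x * u) * g * (u * x) := by group
      _ = (u * x) * g * (x * u) := by rw [hxu, hux]
      _ = u * (x * g * x) * u := by group
      _ = u * g⁻¹ * u := by rw [hg.2]
      _ = u⁻¹ * g⁻¹ * u⁻¹ := by rw [hu.inv_eq]
      _ = (u * g * u)⁻¹ := by group

variable [Fintype G]

namespace CI

theorem cjS_ne (H : CI G) {x g z' : G} (hx : IsInv x) (hg : InR x g) (hz' : IsInv z')
    (hzx : z' * x = x * z') (hne : z' ≠ x) :
    cjS z' (Subgroup.centralizer ({g} : Set G)) ≠ Subgroup.centralizer ({g} : Set G) := by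
  intro heq
  have hnorm : ∀ c : G, c * g = g * c → (z' * c * z') * g = g * (z' * c * z') := by
    intro c hc
    have hcA : c ∈ Subgroup.centralizer ({g} : Set G) := mem_cent.mpr hc
    rw [← heq, mem_cjS, hz'.inv_eq] at hcA
    exact mem_cent.mp hcA
  have hinv := H.inverts hg hz' hnorm g rfl
  have h1 : z' * g = g⁻¹ * z' := by
    calc z' * g = (z' * g * z') * z'⁻¹ := by group
      _ = g⁻¹ * z' := by rw [hinv, hz'.inv_eq]
  have h2 := inv_conj hx hg
  have hcomm : (x * z') * g = g * (x * z') := by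
    calc (x * z') * g = x * (z' * g) := by group
      _ = x * (g⁻¹ * z') := by rw [h1]
      _ = x * g⁻¹ * (x * x) * z' := by rw [hx.2]; group
      _ = (x * g⁻¹ * x) * (x * z') := by group
      _ = g * (x * z') := by rw [h2]
  have hxz : IsInv (x * z') := hx.mul_of_comm hz' hzx.symm (Ne.symm hne)
  exact H.no_inv_comm hg hxz hcomm

/-- the local count at an involution `x` of small weight -/
theorem local_main (H : CI G) {x z' : G} (hx : IsInv x) (hz' : IsInv z')
    (hzx : z' * x = x * z') (hne : z' ≠ x)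
    (hG : Fintype.card G = 4 * (invS G).card)
    (hw : ∑ g ∈ rS x, (1 / (cz g : ℚ)) < 3) :
    (invS G).card = 3 ∨ (invS G).card = 15 := by
  set 𝒜 : Finset (Subgroup G) :=
    (rS x).image (fun g => Subgroup.centralizer ({g} : Set G)) with h𝒜
  -- fibers
  have hfiber : ∀ A ∈ 𝒜, (rS x).filter (fun g => Subgroup.centralizer ({g} : Set G) = A) =
      (Finset.univ.filter (fun c : G => c ∈ A)).erase 1 := by
    intro A hA
    rw [h𝒜, Finset.mem_image] at hA
    obtain ⟨g₀, hg₀, rfl⟩ := hA
    rw [mem_rS] at hg₀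
    ext a
    simp only [Finset.mem_filter, mem_rS, Finset.mem_erase, Finset.mem_univ, true_and]
    constructor
    · rintro ⟨ha, hAa⟩
      refine ⟨g_ne_one ha, ?_⟩
      rw [← hAa]
      exact mem_cent.mpr rfl
    · rintro ⟨ha1, haA⟩
      have hac : a * g₀ = g₀ * a := mem_cent.mp haA
      refine ⟨H.mem_R_of_cent hx hg₀ hac ha1, ?_⟩
      ext c
      rw [mem_cent, mem_cent]
      exact H.cent_eq hx hg₀ hac ha1 c
  have hfcard : ∀ A ∈ 𝒜,
      ((rS x).filter (fun g => Subgroup.centralizer ({g} : Set G) = A)).card = Nat.card A - 1 := by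
    intro A hA
    rw [hfiber A hA, Finset.card_erase_of_mem, card_mem_filter]
    simp only [Finset.mem_filter, Finset.mem_univ, true_and]
    exact A.one_mem
  have hprops : ∀ A ∈ 𝒜, Odd (Nat.card A) ∧ 3 ≤ Nat.card A ∧
      Nat.card A ∣ 4 * (invS G).card := by
    intro A hA
    have hfc := hfcard A hA
    rw [h𝒜, Finset.mem_image] at hA
    obtain ⟨g₀, hg₀, rfl⟩ := hA
    have hg₀' := mem_rS.mp hg₀
    have hodd := H.odd_card_cent hg₀'
    have hpos : 0 < ((rS x).filter (fun g => Subgroup.centralizer ({g} : Set G) =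
        Subgroup.centralizer ({g₀} : Set G))).card := by
      apply Finset.card_pos.mpr
      exact ⟨g₀, Finset.mem_filter.mpr ⟨hg₀, rfl⟩⟩
    refine ⟨hodd, ?_, ?_⟩
    · obtain ⟨k, hk⟩ := hodd
      omega
    · rw [← hG, ← Nat.card_eq_fintype_card]
      exact Subgroup.card_subgroup_dvd_card _
  -- sums over 𝒜
  have hsum1 : (rS x).card = ∑ A ∈ 𝒜, (Nat.card A - 1) := by
    rw [Finset.card_eq_sum_card_image (fun g => Subgroup.centralizer ({g} : Set G)) (rS x)]
    exact Finset.sum_congr rfl hfcard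
  have hsum2 : ∑ g ∈ rS x, (1 / (cz g : ℚ)) =
      ∑ A ∈ 𝒜, (((Nat.card A - 1 : ℕ) : ℚ) / (Nat.card A : ℚ)) := by
    rw [← Finset.sum_fiberwise_of_maps_to (s := rS x) (t := 𝒜)
      (g := fun g => Subgroup.centralizer ({g} : Set G))
      (fun g hg => Finset.mem_image_of_mem _ hg)]
    apply Finset.sum_congr rfl
    intro A hA
    have : ∀ g ∈ (rS x).filter (fun g => Subgroup.centralizer ({g} : Set G) = A),
        (1 / (cz g : ℚ)) = 1 / (Nat.card A : ℚ) := by
      intro g hg
      rw [Finset.mem_filter] at hg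
      unfold cz
      rw [hg.2]
    rw [Finset.sum_congr rfl this, Finset.sum_const, hfcard A hA, nsmul_eq_mul]
    ring
  -- pairing
  have hιι : ∀ A : Subgroup G, cjS z' (cjS z' A) = A := cjS_cjS hz'
  have hmem : ∀ A ∈ 𝒜, cjS z' A ∈ 𝒜 := by
    intro A hA
    rw [h𝒜, Finset.mem_image] at hA ⊢
    obtain ⟨g₀, hg₀, rfl⟩ := hA
    refine ⟨z' * g₀ * z', ?_, (cjS_cent hz' g₀).symm⟩
    rw [mem_rS] at hg₀ ⊢
    exact inR_conj hg₀ hz' hzx
  have hfix : ∀ A ∈ 𝒜, cjS z' A ≠ A := by
    intro A hA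
    rw [h𝒜, Finset.mem_image] at hA
    obtain ⟨g₀, hg₀, rfl⟩ := hA
    exact H.cjS_ne hx (mem_rS.mp hg₀) hz' hzx hne
  obtain ⟨s', hsub, hdisj, heq⟩ := exists_half (cjS z') hιι 𝒜.card 𝒜 rfl hmem hfix
  have hs1 := sum_of_half (cjS z') hιι hsub hdisj heq (fun A => Nat.card A - 1)
    (fun A _ => by simp only [card_cjS])
  have hs2 := sum_of_half (cjS z') hιι hsub hdisj heq
    (fun A => (((Nat.card A - 1 : ℕ) : ℚ) / (Nat.card A : ℚ)))
    (fun A _ => by simp only [card_cjS])
  have hR := H.card_R hx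
  apply arith_main s' (fun A => Nat.card A) (invS G).card
  · intro A hA
    exact hprops A (hsub hA)
  · rw [← hR, hsum1, hs1]
    ring
  · rw [hsum2, hs2] at hw
    linarith

end CI

end Cfsg.Agent.H16AF
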