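import Cfsg.Agent.Lib_helper12_Cusp09

set_option autoImplicit false
set_option linter.unusedSectionVars false

namespace Cfsg.Agent.helper12

open Matrix Cfsg
open scoped ComplexConjugate

variable {F : Type*} [Field F] [Fintype F] [DecidableEq F]

theorem sl2_not_isScalar2_of_not_mem_center (g : Matrix.SpecialLinearGroup (Fin 2) F)
    (h : g ∉ Subgroup.center (Matrix.SpecialLinearGroup (Fin 2) F)) :
    ¬ IsScalar2 (g : Matrix (Fin 2) (Fin 2) F) := by
  intro hs
  apply h
  apply sl2_central_of_scalar g ((g : Matrix (Fin 2) (Fin 2) F) 0 0)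
  obtain ⟨h01, h10, h00⟩ := hs
  ext i j
  fin_cases i <;> fin_cases j <;> simp [h01, h10, ← h00]

theorem sl2_eq_of_mem_center (g : Matrix.SpecialLinearGroup (Fin 2) F)
    (h : g ∈ Subgroup.center (Matrix.SpecialLinearGroup (Fin 2) F)) : g = 1 ∨ g = sl2NegOne := by
  apply (sl2_isScalar2_iff_eq g).mp
  obtain ⟨r, hr, hA⟩ := Matrix.SpecialLinearGroup.mem_center_iff.mp h
  refine ⟨?_, ?_, ?_⟩ <;> rw [← hA] <;> simp

/-- S2434, first half, for the centralizer of an element without eigenvectors -/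
theorem sl2_cuspidal_exists (hodd : Odd (Fintype.card F)) {b : Matrix.SpecialLinearGroup (Fin 2) F}
    (hb : NoEigen2 (b : Matrix (Fin 2) (Fin 2) F))
    (θ : Subgroup.centralizer ({b} : Set (Matrix.SpecialLinearGroup (Fin 2) F)) →* ℂˣ)
    (hθ : ∃ c : Subgroup.centralizer ({b} : Set (Matrix.SpecialLinearGroup (Fin 2) F)), θ c ^ 2 ≠ 1) :
    ∃ α : MulChar F ℂ, α (-1) = unitFun θ ⟨sl2NegOne, sl2NegOne_mem_centralizer _⟩ ∧
      IsIrrCharacter (Matrix.SpecialLinearGroup (Fin 2) F) (cuspF α θ) ∧ cuspF α θ 1 = (Fintype.card F : ℂ) - 1 ∧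
      (∀ c : Subgroup.centralizer ({b} : Set (Matrix.SpecialLinearGroup (Fin 2) F)),
        (c : Matrix.SpecialLinearGroup (Fin 2) F) ∉ Subgroup.center (Matrix.SpecialLinearGroup (Fin 2) F) →
          cuspF α θ c = -((θ c).val + (θ c)⁻¹.val)) ∧
      (∀ c : Subgroup.centralizer ({b} : Set (Matrix.SpecialLinearGroup (Fin 2) F)),
        (c : Matrix.SpecialLinearGroup (Fin 2) F) ∈ Subgroup.center (Matrix.SpecialLinearGroup (Fin 2) F) →
          ∀ g : Matrix.SpecialLinearGroup (Fin 2) F, cuspF α θ ((c : Matrix.SpecialLinearGroup (Fin 2) F) * g) = (θ c).val * cuspF α θ g) ∧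
      (∀ g : Matrix.SpecialLinearGroup (Fin 2) F, (g : Matrix (Fin 2) (Fin 2) F) 0 1 = 0 → (g : Matrix (Fin 2) (Fin 2) F) 1 0 = 0 →
        (g : Matrix (Fin 2) (Fin 2) F) 0 0 ^ 2 ≠ 1 → cuspF α θ g = 0) ∧
      (∀ g : Matrix.SpecialLinearGroup (Fin 2) F, (g : Matrix (Fin 2) (Fin 2) F) 1 0 = 0 → (g : Matrix (Fin 2) (Fin 2) F) 0 0 = 1 →
        (g : Matrix (Fin 2) (Fin 2) F) 1 1 = 1 → (g : Matrix (Fin 2) (Fin 2) F) 0 1 ≠ 0 → cuspF α θ g = -1) := by
  have h2 : (2 : F) ≠ 0 := two_ne_zero_of_odd_card hodd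
  obtain ⟨α, hα⟩ := exists_mulChar_negOne h2 _ (unitFun_negOne_sq θ)
  obtain ⟨c₀, hc₀⟩ := hθ
  have hirr := cuspF_irr hodd α hb θ hα c₀ hc₀
  refine ⟨α, hα, hirr, cuspF_one hodd α hb θ, ?_, ?_, ?_, ?_⟩
  · intro c hc
    rw [cuspF_torus hodd α hb θ c (sl2_not_isScalar2_of_not_mem_center _ hc)]
    unfold unitFun
    rw [map_inv]
  · intro c hc g
    rcases sl2_eq_of_mem_center _ hc with h | h
    · have hc1 : c = 1 := Subtype.ext h
      rw [hc1, map_one, Units.val_one, one_mul, Subgroup.coe_one, one_mul]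
    · have hc1 : c = ⟨sl2NegOne, sl2NegOne_mem_centralizer _⟩ := Subtype.ext h
      rw [hc1]
      obtain ⟨ω, _, hω⟩ := irr_central_scalar hirr sl2NegOne
        (fun g => (Subgroup.mem_center_iff.mp sl2NegOne_mem_center g))
      have h1 := hω 1
      rw [one_mul, cuspF_negOne hodd α hb θ hα, cuspF_one hodd α hb θ] at h1
      have hω' : ω = unitFun θ ⟨sl2NegOne, sl2NegOne_mem_centralizer _⟩ :=
        (mul_right_cancel₀ card_cast_sub_one_ne_zero h1).symm
      have hcomm : sl2NegOne * g = g * sl2NegOne := (Subgroup.mem_center_iff.mp sl2NegOne_mem_center g).symm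
      change cuspF α θ (sl2NegOne * g) = _
      rw [hcomm, hω g, hω']
      rfl
  · intro g h01 h10 h00
    obtain ⟨a, hg, ha⟩ := sl2_diag_eq_sl2UT g h01 h10
    rw [hg]
    exact cuspF_sl2UT_split α hb θ a (by rw [ha]; exact h00) 0
  · intro g h10 h00 h11 h01
    obtain ⟨⟨a, x⟩, hp⟩ := sl2UT_surj g h10
    simp only at hp
    have ha : a = 1 := by
      apply Units.ext
      rw [← sl2UT_00 a x, hp, h00, Units.val_one]
    have hx : x = (g : Matrix (Fin 2) (Fin 2) F) 0 1 := by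
      rw [← hp]
      simp [sl2UT]
    rw [← hp, ha, cuspF_sl2UT_unip α hb θ 1 units_one_sq x (by rw [hx]; exact h01), Units.val_one, map_one]

/-- a cyclic subgroup of order `q + 1` of SL2 is the centralizer of an element without eigenvectors -/
theorem sl2_cyclic_torus_eq (hodd : Odd (Fintype.card F)) (C : Subgroup (Matrix.SpecialLinearGroup (Fin 2) F))
    (hC : IsCyclic C) (hcard : Nat.card C = Fintype.card F + 1) :
    ∃ b : Matrix.SpecialLinearGroup (Fin 2) F, NoEigen2 (b : Matrix (Fin 2) (Fin 2) F) ∧ orderOf b = Fintype.card F + 1 ∧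
      C = Subgroup.centralizer ({b} : Set (Matrix.SpecialLinearGroup (Fin 2) F)) := by
  obtain ⟨g, hg⟩ := hC.exists_generator
  have hord : orderOf (g : Matrix.SpecialLinearGroup (Fin 2) F) = Fintype.card F + 1 := by
    rw [Subgroup.orderOf_coe, orderOf_eq_card_of_forall_mem_zpowers hg, hcard]
  have hne := sl2_noEigen_of_orderOf (g : Matrix.SpecialLinearGroup (Fin 2) F) hord
  refine ⟨g, hne, hord, ?_⟩
  apply Subgroup.eq_of_le_of_card_ge
  · intro x hx
    rw [sl2_mem_centralizer_singleton]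
    obtain ⟨k, hk⟩ := Subgroup.mem_zpowers_iff.mp (hg ⟨x, hx⟩)
    have hx' : x = (g : Matrix.SpecialLinearGroup (Fin 2) F) ^ k := by
      have := congrArg Subtype.val hk
      rw [Subgroup.coe_zpow] at this
      exact this.symm
    rw [hx']
    exact ((Commute.refl (g : Matrix.SpecialLinearGroup (Fin 2) F)).zpow_right k).eq
  · rw [card_sl2_centralizer_noEigen hodd _ hne, hcard]

end Cfsg.Agent.helper12
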