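import Cfsg.Prelude.Def_DegreeGraph
import Cfsg.Agent.Lib_helper12_Cusp10
import Cfsg.Agent.Lib_helper24_CharKer

set_option autoImplicit false

namespace Cfsg.Agent.helper12

open Matrix Cfsg

theorem isIrrCharacter_comp_mulEquiv' {H : Type*} {K : Type*} [Group H] [Group K] (φ : H ≃* K)
    {ψ : K → ℂ} (hψ : IsIrrCharacter K ψ) : IsIrrCharacter H (fun h => ψ (φ h)) := by
  obtain ⟨n, ρ, hρ, rfl⟩ := hψ
  refine ⟨n, ρ.comp φ.toMonoidHom, ?_, rfl⟩
  apply helper24.irreducible_of_range_le _ ρ _ hρ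
  intro k
  exact ⟨φ.symm k, by simp⟩

theorem charDegree_congr {G : Type*} {H : Type*} [Group G] [Group H] (χ : G → ℂ) (ψ : H → ℂ) (h : χ 1 = ψ 1) :
    charDegree χ = charDegree ψ := by
  unfold charDegree
  rw [h]

/-- character degrees are invariant under isomorphism -/
theorem charDegrees_mulEquiv {H : Type*} {K : Type*} [Group H] [Group K] (φ : H ≃* K) :
    charDegrees H = charDegrees K := by
  ext d
  constructor
  · rintro ⟨χ, rfl⟩
    refine ⟨⟨fun k => (χ : H → ℂ) (φ.symm k), isIrrCharacter_comp_mulEquiv' φ.symm χ.2⟩, ?_⟩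
    apply charDegree_congr
    simp
  · rintro ⟨χ, rfl⟩
    refine ⟨⟨fun h => (χ : K → ℂ) (φ h), isIrrCharacter_comp_mulEquiv' φ χ.2⟩, ?_⟩
    apply charDegree_congr
    simp

/-- character degrees of a quotient -/
theorem charDegrees_quotient {G : Type*} [Group G] [Finite G] (N : Subgroup G) [N.Normal] :
    charDegrees (G ⧸ N) = {d | ∃ χ : IrrCharacter G, (∀ n ∈ N, (χ : G → ℂ) n = (χ : G → ℂ) 1) ∧ charDegree (χ : G → ℂ) = d} := by
  ext d
  constructor
  · rintro ⟨ψ, rfl⟩
    refine ⟨⟨_, helper24.irr_inflation N ψ.2⟩, ?_, ?_⟩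
    · intro n hn
      simp only [Function.comp_apply]
      rw [(QuotientGroup.eq_one_iff n).mpr hn]
      rfl
    · apply charDegree_congr
      rfl
  · rintro ⟨χ, hN, rfl⟩
    obtain ⟨ψ, hψ, hχ⟩ := helper24.irr_deflation N χ.2 hN
    refine ⟨⟨ψ, hψ⟩, ?_⟩
    apply charDegree_congr
    rw [hχ]
    rfl

variable {F : Type*} [Field F] [Fintype F] [DecidableEq F]

theorem sl2St_center (z : Matrix.SpecialLinearGroup (Fin 2) F)
    (hz : z ∈ Subgroup.center (Matrix.SpecialLinearGroup (Fin 2) F)) :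
    sl2St z = sl2St (1 : Matrix.SpecialLinearGroup (Fin 2) F) := by
  rcases sl2_eq_of_mem_center z hz with h | h
  · rw [h]
  · rw [h, ← sl2UT_neg_one_zero, sl2St_sl2UT_central (-1 : Fˣ) (units_neg_one_sq (F := F)), sl2St_one]

/-- the possible degrees of an irreducible character of SL2, as natural numbers -/
theorem sl2_charDegree_cases {ψ : Matrix.SpecialLinearGroup (Fin 2) F → ℂ}
    (hψ : IsIrrCharacter (Matrix.SpecialLinearGroup (Fin 2) F) ψ) :
    charDegree ψ = 1 ∨ charDegree ψ = Fintype.card F ∨ charDegree ψ = Fintype.card F + 1 ∨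
      2 * charDegree ψ = Fintype.card F + 1 ∨ charDegree ψ + 1 = Fintype.card F ∨ 2 * charDegree ψ + 1 = Fintype.card F := by
  have hc := helper24.char_charDegree_cast (helper24.irr_isCharacter hψ)
  rcases sl2_degree_cases hψ with h | h | h | ⟨_, h⟩ | h | h <;> rw [← hc] at h
  · left; exact_mod_cast h
  · right; left; exact_mod_cast h
  · right; right; left; exact_mod_cast h
  · right; right; right; left; exact_mod_cast h
  · right; right; right; right; left
    have : ((charDegree ψ + 1 : ℕ) : ℂ) = (Fintype.card F : ℂ) := by push_cast; rw [h]; ring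
    exact_mod_cast this
  · right; right; right; right; right
    have : ((2 * charDegree ψ + 1 : ℕ) : ℂ) = (Fintype.card F : ℂ) := by push_cast; rw [h]; ring
    exact_mod_cast this

/-- a degree of SL2 divisible by the characteristic is the order of the field -/
theorem sl2_charDegree_of_dvd (p : ℕ) [Fact p.Prime] [CharP F p] {ψ : Matrix.SpecialLinearGroup (Fin 2) F → ℂ}
    (hψ : IsIrrCharacter (Matrix.SpecialLinearGroup (Fin 2) F) ψ) (hp : p ∣ charDegree ψ) :
    charDegree ψ = Fintype.card F := by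
  have hpq : p ∣ Fintype.card F := by
    obtain ⟨n, _, hn⟩ := FiniteField.card F p
    rw [hn]
    exact dvd_pow_self p n.ne_zero
  have hp1 : ¬ p ∣ 1 := (Fact.out : p.Prime).one_lt.ne' ∘ Nat.dvd_one.mp
  rcases sl2_charDegree_cases hψ with h | h | h | h | h | h
  · rw [h] at hp; exact absurd hp hp1
  · exact h
  · exfalso
    rw [h] at hp
    exact hp1 ((Nat.dvd_add_right hpq).mp hp)
  · exfalso
    have : p ∣ Fintype.card F + 1 := by rw [← h]; exact Dvd.dvd.mul_left hp 2
    exact hp1 ((Nat.dvd_add_right hpq).mp this)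
  · exfalso
    rw [← h] at hpq
    exact hp1 ((Nat.dvd_add_right hp).mp hpq)
  · exfalso
    rw [← h] at hpq
    exact hp1 ((Nat.dvd_add_right (Dvd.dvd.mul_left hp 2)).mp hpq)

/-- S4765 -/
theorem psl2_unique_degree_dvd (p : ℕ) [Fact p.Prime] [CharP F p] :
    Nat.card {χ : Cfsg.IrrCharacter (Matrix.ProjectiveSpecialLinearGroup (Fin 2) F) //
      p ∣ Cfsg.charDegree (χ : Matrix.ProjectiveSpecialLinearGroup (Fin 2) F → ℂ)} = 1 ∧
    ∀ χ : Cfsg.IrrCharacter (Matrix.ProjectiveSpecialLinearGroup (Fin 2) F),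
      p ∣ Cfsg.charDegree (χ : Matrix.ProjectiveSpecialLinearGroup (Fin 2) F → ℂ) →
      Cfsg.charDegree (χ : Matrix.ProjectiveSpecialLinearGroup (Fin 2) F → ℂ) = Fintype.card F := by
  have hb : ∀ χ : Cfsg.IrrCharacter (Matrix.ProjectiveSpecialLinearGroup (Fin 2) F),
      p ∣ Cfsg.charDegree (χ : Matrix.ProjectiveSpecialLinearGroup (Fin 2) F → ℂ) →
      Cfsg.charDegree (χ : Matrix.ProjectiveSpecialLinearGroup (Fin 2) F → ℂ) = Fintype.card F := by
    intro χ hp
    have hirr := helper24.irr_inflation (Subgroup.center (Matrix.SpecialLinearGroup (Fin 2) F)) χ.2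
    have e : charDegree ((χ : Matrix.ProjectiveSpecialLinearGroup (Fin 2) F → ℂ) ∘
        (QuotientGroup.mk : Matrix.SpecialLinearGroup (Fin 2) F → _)) = charDegree (χ : Matrix.ProjectiveSpecialLinearGroup (Fin 2) F → ℂ) :=
      charDegree_congr _ _ rfl
    rw [← e] at hp ⊢
    exact sl2_charDegree_of_dvd p hirr hp
  refine ⟨?_, hb⟩
  obtain ⟨ψ₀, hψ₀, hSt⟩ := helper24.irr_deflation (Subgroup.center (Matrix.SpecialLinearGroup (Fin 2) F)) sl2St_irr
    (fun z hz => sl2St_center z hz)
  have hdeg₀ : charDegree ψ₀ = Fintype.card F := by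
    apply helper24.charDegree_natCast
    have := congrFun hSt 1
    rw [sl2St_one] at this
    rw [this]
    rfl
  have hpq : p ∣ Fintype.card F := by
    obtain ⟨n, _, hn⟩ := FiniteField.card F p
    rw [hn]
    exact dvd_pow_self p n.ne_zero
  apply natCard_subtype_eq_one (⟨ψ₀, hψ₀⟩ : Cfsg.IrrCharacter (Matrix.ProjectiveSpecialLinearGroup (Fin 2) F))
  · show p ∣ charDegree ψ₀
    rw [hdeg₀]; exact hpq
  · intro χ hχ
    have hq := hb χ hχ
    have hirr := helper24.irr_inflation (Subgroup.center (Matrix.SpecialLinearGroup (Fin 2) F)) χ.2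
    have h1 : ((χ : Matrix.ProjectiveSpecialLinearGroup (Fin 2) F → ℂ) ∘
        (QuotientGroup.mk : Matrix.SpecialLinearGroup (Fin 2) F → _)) 1 = (Fintype.card F : ℂ) := by
      rw [← helper24.char_charDegree_cast (helper24.irr_isCharacter hirr)]
      have e : charDegree ((χ : Matrix.ProjectiveSpecialLinearGroup (Fin 2) F → ℂ) ∘
          (QuotientGroup.mk : Matrix.SpecialLinearGroup (Fin 2) F → _)) = charDegree (χ : Matrix.ProjectiveSpecialLinearGroup (Fin 2) F → ℂ) :=
        charDegree_congr _ _ rfl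
      rw [e, hq]
    have h2 := sl2_deg_q_unique hirr h1
    apply Subtype.ext
    funext x
    obtain ⟨g, rfl⟩ := QuotientGroup.mk_surjective x
    have := congrFun (h2.trans hSt) g
    exact this

end Cfsg.Agent.helper12
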