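import Mathlib

set_option autoImplicit false

namespace Cfsg.Agent.helper12

theorem centralizer_image_mulEquiv {G H : Type*} [Group G] [Group H] (e : G ≃* H) (S : Set G) :
    Subgroup.centralizer (e '' S) = (Subgroup.centralizer S).map e.toMonoidHom := by
  ext y
  rw [Subgroup.mem_map, Subgroup.mem_centralizer_iff]
  constructor
  · intro hy
    refine ⟨e.symm y, ?_, by simp⟩
    rw [Subgroup.mem_centralizer_iff]
    intro s hs
    apply e.injective
    rw [map_mul, map_mul, MulEquiv.apply_symm_apply]
    exact hy (e s) (Set.mem_image_of_mem e hs)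
  · rintro ⟨c, hc, rfl⟩ h ⟨s, hs, rfl⟩
    rw [MulEquiv.coe_toMonoidHom, ← map_mul, ← map_mul, Subgroup.mem_centralizer_iff.mp hc s hs]

theorem normalizer_image_mulEquiv {G H : Type*} [Group G] [Group H] (e : G ≃* H) (S : Set G) :
    Subgroup.normalizer (e '' S) = (Subgroup.normalizer S).map e.toMonoidHom := by
  ext y
  rw [Subgroup.mem_map]
  constructor
  · intro hy
    refine ⟨e.symm y, ?_, by simp⟩
    rw [Subgroup.mem_set_normalizer_iff]
    intro n
    have := Subgroup.mem_set_normalizer_iff.mp hy (e n)
    rw [e.injective.mem_set_image] at this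
    rw [this]
    have e1 : y * e n * y⁻¹ = e (e.symm y * n * (e.symm y)⁻¹) := by simp
    rw [e1, e.injective.mem_set_image]
  · rintro ⟨c, hc, rfl⟩
    rw [Subgroup.mem_set_normalizer_iff]
    intro n
    obtain ⟨n', rfl⟩ := e.surjective n
    have e1 : e c * e n' * (e c)⁻¹ = e (c * n' * c⁻¹) := by simp
    rw [MulEquiv.coe_toMonoidHom, e1, e.injective.mem_set_image, e.injective.mem_set_image]
    exact Subgroup.mem_set_normalizer_iff.mp hc n'

/-- transfer of centralizer/normalizer data between conjugate Sylow subgroups -/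
theorem sylow_transfer {G : Type*} [Group G] [Finite G] {p : ℕ} [Fact p.Prime] (P₀ P : Sylow p G) :
    Nat.card (Subgroup.centralizer ((P : Subgroup G) : Set G)) = Nat.card (Subgroup.centralizer ((P₀ : Subgroup G) : Set G)) ∧
    (IsCyclic (Subgroup.centralizer ((P₀ : Subgroup G) : Set G)) → IsCyclic (Subgroup.centralizer ((P : Subgroup G) : Set G))) ∧
    Nat.card (Subgroup.normalizer ((P : Subgroup G) : Set G)) = Nat.card (Subgroup.normalizer ((P₀ : Subgroup G) : Set G)) := by
  obtain ⟨x, hx⟩ := MulAction.exists_smul_eq G P₀ P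
  have hset : ((P : Subgroup G) : Set G) = (MulAut.conj x) '' ((P₀ : Subgroup G) : Set G) := by
    rw [← hx, Sylow.coe_subgroup_smul, Subgroup.coe_pointwise_smul]
    ext y
    simp only [Set.mem_smul_set, Set.mem_image]
    rfl
  rw [hset, centralizer_image_mulEquiv, normalizer_image_mulEquiv]
  refine ⟨?_, ?_, ?_⟩
  · exact Subgroup.card_map_of_injective (MulAut.conj x).injective
  · intro hc
    exact isCyclic_of_surjective ((MulAut.conj x).subgroupMap _) ((MulAut.conj x).subgroupMap _).surjective
  · exact Subgroup.card_map_of_injective (MulAut.conj x).injective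

end Cfsg.Agent.helper12
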