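import Cfsg.Agent.S0169
import Cfsg.Agent.Lib_helper12_PslChars
import Cfsg.Agent.Lib_helper12_SylowTransfer
import Cfsg.Agent.Lib_helper24_CharCount
import Cfsg.Agent.Lib_helper22_LinChar
import Cfsg.Agent.Lib_helper23_LinChar

set_option autoImplicit false

namespace Cfsg.Agent.helper12

open Cfsg

/-- transport of irreducible characters along an isomorphism -/
noncomputable def irrCongr {H K : Type*} [Group H] [Group K] (e : H ≃* K) : IrrCharacter K ≃ IrrCharacter H where
  toFun ψ := ⟨fun h => (ψ : K → ℂ) (e h), isIrrCharacter_comp_mulEquiv' e ψ.2⟩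
  invFun φ := ⟨fun k => (φ : H → ℂ) (e.symm k), isIrrCharacter_comp_mulEquiv' e.symm φ.2⟩
  left_inv ψ := by
    apply Subtype.ext
    funext k
    simp
  right_inv φ := by
    apply Subtype.ext
    funext h
    simp

theorem irrCongr_degree {H K : Type*} [Group H] [Group K] (e : H ≃* K) (ψ : IrrCharacter K) :
    charDegree ((irrCongr e ψ : IrrCharacter H) : H → ℂ) = charDegree (ψ : K → ℂ) := by
  unfold charDegree
  show ⌊((ψ : K → ℂ) (e 1)).re⌋₊ = _
  rw [map_one]

theorem card_irr_pred_congr {H K : Type*} [Group H] [Group K] (e : H ≃* K) (P : ℕ → Prop) :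
    Nat.card {ψ : IrrCharacter H // P (charDegree (ψ : H → ℂ))} =
      Nat.card {ψ : IrrCharacter K // P (charDegree (ψ : K → ℂ))} := by
  symm
  apply Nat.card_congr
  exact (irrCongr e).subtypeEquiv (fun ψ => by rw [irrCongr_degree])

theorem card_irr_pred_of_forall {X : Type*} [Group X] [Finite X] (P : ℕ → Prop)
    (h : ∀ χ : IrrCharacter X, P (charDegree (χ : X → ℂ))) :
    Nat.card {χ : IrrCharacter X // P (charDegree (χ : X → ℂ))} = Nat.card (ConjClasses X) := by
  rw [← helper24.card_irr_eq_card_conjClasses]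
  exact Nat.card_congr (Equiv.subtypeUnivEquiv h)

/-- Ito's theorem in character form. -/
theorem irr_degree_dvd_index {X : Type*} [Group X] [Finite X] (A : Subgroup X) [A.Normal]
    (hA : ∀ a ∈ A, ∀ b ∈ A, a * b = b * a) (χ : IrrCharacter X) :
    charDegree (χ : X → ℂ) ∣ A.index := by
  classical
  haveI := Fintype.ofFinite X
  obtain ⟨n, ρ, hρ, hχ⟩ := χ.2
  have hdeg : charDegree (χ : X → ℂ) = n := by
    apply helper24.charDegree_natCast
    rw [← hχ, Representation.char_one, Module.finrank_fin_fun]
  rw [hdeg]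
  exact Cfsg.Agent.S0169.ito_coord ρ hρ A hA

theorem linIrr_degree {X : Type*} [Group X] (lam : X →* ℂˣ) :
    charDegree ((helper23.linIrr lam : IrrCharacter X) : X → ℂ) = 1 := by
  apply helper24.charDegree_natCast
  rw [helper23.linIrr_apply, map_one]
  simp

theorem card_linear_irr {X : Type*} [Group X] [Finite X] :
    Nat.card {χ : IrrCharacter X // charDegree (χ : X → ℂ) = 1} = (commutator X).index := by
  rw [← helper22.card_hom_eq_index]
  symm
  apply Nat.card_congr
  refine Equiv.ofBijective (fun lam => ⟨helper23.linIrr lam, linIrr_degree lam⟩) ⟨?_, ?_⟩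
  · intro a b hab
    exact helper23.linIrr_injective (congrArg Subtype.val hab)
  · rintro ⟨χ, hχ⟩
    have h1 : (χ : X → ℂ) 1 = 1 := by
      have h2 := helper24.char_charDegree_cast (helper24.irr_isCharacter χ.2)
      rw [hχ] at h2
      rw [← h2]
      simp
    obtain ⟨lam, hlam⟩ := helper23.exists_hom_of_linear (helper24.irr_isCharacter χ.2) h1
    refine ⟨lam, ?_⟩
    apply Subtype.ext
    apply Subtype.ext
    funext g
    rw [helper23.linIrr_apply, hlam]

theorem card_pred_eq_sum {α : Type*} [Fintype α] (f : α → ℕ) (D : Finset ℕ) (hD : ∀ a, f a ∈ D)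
    (P : ℕ → Prop) [DecidablePred P] :
    Nat.card {a : α // P (f a)} = ∑ d ∈ D, if P d then Nat.card {a : α // f a = d} else 0 := by
  classical
  rw [Nat.card_eq_fintype_card, Fintype.card_subtype,
    Finset.card_eq_sum_card_fiberwise (f := f) (t := D) (fun a _ => hD a)]
  apply Finset.sum_congr rfl
  intro d _
  split_ifs with hP
  · rw [Nat.card_eq_fintype_card, Fintype.card_subtype]
    congr 1
    ext a
    simp only [Finset.mem_filter, Finset.mem_univ, true_and]
    constructor
    · rintro ⟨_, h2⟩
      exact h2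
    · intro h
      exact ⟨h ▸ hP, h⟩
  · apply Finset.card_eq_zero.mpr
    apply Finset.filter_eq_empty_iff.mpr
    intro a ha hfa
    rw [Finset.mem_filter] at ha
    exact hP (hfa ▸ ha.2)

theorem card_irr_not_eq_sub {X : Type*} [Group X] [Finite X] (P : ℕ → Prop) :
    Nat.card {χ : IrrCharacter X // ¬ P (charDegree (χ : X → ℂ))} =
      Nat.card (ConjClasses X) - Nat.card {χ : IrrCharacter X // P (charDegree (χ : X → ℂ))} := by
  classical
  haveI : Fintype (IrrCharacter X) := Fintype.ofFinite _
  rw [← helper24.card_irr_eq_card_conjClasses, Nat.card_eq_fintype_card, Nat.card_eq_fintype_card,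
    Nat.card_eq_fintype_card, Fintype.card_subtype_compl]

/-- normalizers of two Sylow subgroups are isomorphic -/
theorem sylow_normalizer_equiv {G : Type*} [Group G] [Finite G] {p : ℕ} [Fact p.Prime] (P₀ P : Sylow p G) :
    Nonempty (Subgroup.normalizer ((P₀ : Subgroup G) : Set G) ≃* Subgroup.normalizer ((P : Subgroup G) : Set G)) := by
  obtain ⟨x, hx⟩ := MulAction.exists_smul_eq G P₀ P
  have hset : ((P : Subgroup G) : Set G) = (MulAut.conj x) '' ((P₀ : Subgroup G) : Set G) := by
    rw [← hx, Sylow.coe_subgroup_smul, Subgroup.coe_pointwise_smul]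
    ext y
    simp only [Set.mem_smul_set, Set.mem_image]
    rfl
  have hN : Subgroup.normalizer ((P : Subgroup G) : Set G) =
      (Subgroup.normalizer ((P₀ : Subgroup G) : Set G)).map (MulAut.conj x).toMonoidHom := by
    rw [hset, normalizer_image_mulEquiv]
  exact ⟨((MulAut.conj x).subgroupMap _).trans (MulEquiv.subgroupCongr hN.symm)⟩

theorem card_irr_pred_sylow_normalizer {G : Type*} [Group G] [Finite G] {p : ℕ} [Fact p.Prime] (P₀ P : Sylow p G)
    (Q : ℕ → Prop) :
    Nat.card {ψ : IrrCharacter (Subgroup.normalizer ((P : Subgroup G) : Set G)) //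
        Q (charDegree (ψ : Subgroup.normalizer ((P : Subgroup G) : Set G) → ℂ))} =
    Nat.card {ψ : IrrCharacter (Subgroup.normalizer ((P₀ : Subgroup G) : Set G)) //
        Q (charDegree (ψ : Subgroup.normalizer ((P₀ : Subgroup G) : Set G) → ℂ))} := by
  obtain ⟨e⟩ := sylow_normalizer_equiv P₀ P
  exact (card_irr_pred_congr e Q).symm

/-- if the Sylow subgroup is normal, the McKay equality is trivial -/
theorem card_irr_pred_of_normalizer_eq_top {G : Type*} [Group G] (H : Subgroup G)
    (hH : Subgroup.normalizer (H : Set G) = ⊤) (Q : ℕ → Prop) :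
    Nat.card {ψ : IrrCharacter (Subgroup.normalizer (H : Set G)) //
        Q (charDegree (ψ : Subgroup.normalizer (H : Set G) → ℂ))} =
    Nat.card {χ : IrrCharacter G // Q (charDegree (χ : G → ℂ))} :=
  card_irr_pred_congr ((MulEquiv.subgroupCongr hH).trans Subgroup.topEquiv) Q

end Cfsg.Agent.helper12
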