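import Cfsg.Agent.Lib_helper12_Cusp03

set_option autoImplicit false

namespace Cfsg.Agent.helper12

open Matrix Cfsg
open scoped ComplexConjugate

variable {F : Type*} [Field F]

/-- the central element `-1` of SL2 -/
def sl2NegOne : Matrix.SpecialLinearGroup (Fin 2) F := sl2UT (-1) 0

theorem sl2NegOne_coe : ((sl2NegOne : Matrix.SpecialLinearGroup (Fin 2) F) : Matrix (Fin 2) (Fin 2) F) = -1 := by
  unfold sl2NegOne sl2UT
  ext i j
  fin_cases i <;> fin_cases j <;> simp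

theorem sl2NegOne_mem_center : (sl2NegOne : Matrix.SpecialLinearGroup (Fin 2) F) ∈ Subgroup.center (Matrix.SpecialLinearGroup (Fin 2) F) :=
  sl2_central_of_scalar _ (-1) (by rw [sl2NegOne_coe]; simp)

theorem sl2NegOne_mem_centralizer (S : Set (Matrix.SpecialLinearGroup (Fin 2) F)) :
    (sl2NegOne : Matrix.SpecialLinearGroup (Fin 2) F) ∈ Subgroup.centralizer S :=
  Subgroup.center_le_centralizer S sl2NegOne_mem_center

theorem sl2NegOne_ne_one (h2 : (2 : F) ≠ 0) : (sl2NegOne : Matrix.SpecialLinearGroup (Fin 2) F) ≠ 1 := by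
  intro h
  have h1 := congrArg (fun m : Matrix.SpecialLinearGroup (Fin 2) F => (m : Matrix (Fin 2) (Fin 2) F) 0 0) h
  simp only [sl2NegOne_coe] at h1
  simp at h1
  apply h2
  linear_combination -h1

theorem sl2NegOne_mul_self : (sl2NegOne : Matrix.SpecialLinearGroup (Fin 2) F) * sl2NegOne = 1 := by
  apply Subtype.ext
  rw [Matrix.SpecialLinearGroup.coe_mul, sl2NegOne_coe]
  simp

theorem sl2_isScalar2_iff_eq (g : Matrix.SpecialLinearGroup (Fin 2) F) :
    IsScalar2 (g : Matrix (Fin 2) (Fin 2) F) ↔ g = 1 ∨ g = sl2NegOne := by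
  constructor
  · intro hs
    rcases sl2_isScalar2_cases g hs with h | h
    · left; exact Subtype.ext h
    · right; apply Subtype.ext; rw [h, sl2NegOne_coe]
  · rintro (rfl | rfl)
    · refine ⟨?_, ?_, ?_⟩ <;> simp
    · rw [sl2NegOne_coe]
      refine ⟨?_, ?_, ?_⟩ <;> simp

/-- splitting a sum over a subgroup containing the centre -/
theorem sum_subgroup_split_scalar (h2 : (2 : F) ≠ 0) (C : Subgroup (Matrix.SpecialLinearGroup (Fin 2) F)) [Fintype C]
    (hz : (sl2NegOne : Matrix.SpecialLinearGroup (Fin 2) F) ∈ C) (g : C → ℂ)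
    [DecidablePred fun c : C => IsScalar2 ((c : Matrix.SpecialLinearGroup (Fin 2) F) : Matrix (Fin 2) (Fin 2) F)] :
    ∑ c : C, g c = g 1 + g ⟨sl2NegOne, hz⟩ +
      ∑ c : C, if IsScalar2 ((c : Matrix.SpecialLinearGroup (Fin 2) F) : Matrix (Fin 2) (Fin 2) F) then 0 else g c := by
  classical
  have h1 : ∑ c : C, g c = (∑ c : C, if IsScalar2 ((c : Matrix.SpecialLinearGroup (Fin 2) F) : Matrix (Fin 2) (Fin 2) F) then g c else 0)
      + ∑ c : C, if IsScalar2 ((c : Matrix.SpecialLinearGroup (Fin 2) F) : Matrix (Fin 2) (Fin 2) F) then 0 else g c := by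
    rw [← Finset.sum_add_distrib]
    apply Finset.sum_congr rfl
    intro c _
    split_ifs <;> simp
  rw [h1]
  congr 1
  have hne : (1 : C) ≠ ⟨sl2NegOne, hz⟩ := by
    intro h
    exact sl2NegOne_ne_one h2 (congrArg Subtype.val h).symm
  rw [Fintype.sum_eq_add (1 : C) ⟨sl2NegOne, hz⟩ hne]
  · have e1 : IsScalar2 (((1 : C) : Matrix.SpecialLinearGroup (Fin 2) F) : Matrix (Fin 2) (Fin 2) F) :=
      (sl2_isScalar2_iff_eq _).mpr (Or.inl rfl)
    have e2 : IsScalar2 (((⟨sl2NegOne, hz⟩ : C) : Matrix.SpecialLinearGroup (Fin 2) F) : Matrix (Fin 2) (Fin 2) F) :=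
      (sl2_isScalar2_iff_eq _).mpr (Or.inr rfl)
    rw [if_pos e1, if_pos e2]
  · intro c hc
    rw [if_neg]
    intro hs
    rcases (sl2_isScalar2_iff_eq _).mp hs with h | h
    · exact hc.1 (Subtype.ext h)
    · exact hc.2 (Subtype.ext h)

/-- values of a homomorphism from a finite group to the unit complex numbers -/
theorem monoidHom_unit_norm {H : Type*} [Group H] [Finite H] (θ : H →* ℂˣ) (c : H) : ‖((θ c : ℂˣ) : ℂ)‖ = 1 := by
  have h1 : ((θ c : ℂˣ) : ℂ) ^ orderOf c = 1 := by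
    rw [← Units.val_pow_eq_pow_val, ← map_pow, pow_orderOf_eq_one, map_one, Units.val_one]
  exact Complex.norm_eq_one_of_pow_eq_one h1 (orderOf_pos c).ne'

theorem monoidHom_unit_conj {H : Type*} [Group H] [Finite H] (θ : H →* ℂˣ) (c : H) :
    conj ((θ c : ℂˣ) : ℂ) = ((θ c⁻¹ : ℂˣ) : ℂ) := by
  rw [map_inv, Units.val_inv_eq_inv_val, Complex.inv_eq_conj (monoidHom_unit_norm θ c)]

theorem monoidHom_unit_mul_conj {H : Type*} [Group H] [Finite H] (θ : H →* ℂˣ) (c : H) :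
    ((θ c : ℂˣ) : ℂ) * conj ((θ c : ℂˣ) : ℂ) = 1 := by
  rw [Complex.mul_conj, Complex.normSq_eq_norm_sq, monoidHom_unit_norm]
  norm_num

/-- sum of the squares of a character of a finite group with `θ² ≠ 1` -/
theorem sum_monoidHom_sq_eq_zero {H : Type*} [Group H] [Fintype H] (θ : H →* ℂˣ) (c₀ : H) (h : θ c₀ ^ 2 ≠ 1) :
    ∑ c : H, ((θ c : ℂˣ) : ℂ) ^ 2 = 0 := by
  have h1 : ∑ c : H, ((θ c : ℂˣ) : ℂ) ^ 2 = ((θ c₀ : ℂˣ) : ℂ) ^ 2 * ∑ c : H, ((θ c : ℂˣ) : ℂ) ^ 2 := by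
    rw [Finset.mul_sum, ← Equiv.sum_comp (Equiv.mulLeft c₀)]
    apply Finset.sum_congr rfl
    intro c _
    rw [Equiv.coe_mulLeft, map_mul, Units.val_mul]
    ring
  have h2 : ((θ c₀ : ℂˣ) : ℂ) ^ 2 ≠ 1 := by
    intro h'
    apply h
    apply Units.ext
    rw [Units.val_pow_eq_pow_val, h', Units.val_one]
  have h3 : (((θ c₀ : ℂˣ) : ℂ) ^ 2 - 1) * ∑ c : H, ((θ c : ℂˣ) : ℂ) ^ 2 = 0 := by
    rw [sub_mul, one_mul, ← h1, sub_self]
  rcases mul_eq_zero.mp h3 with h4 | h4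
  · exact absurd (sub_eq_zero.mp h4) h2
  · exact h4

end Cfsg.Agent.helper12
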