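import Cfsg.Prelude.Def_OddOrderLocal
import Cfsg.Agent.Lib_helper12_Cusp04

set_option autoImplicit false

namespace Cfsg.Agent.helper12

open Matrix Cfsg

/-- in a group where commuting nonidentity elements have the same centralizer, centralizers are TI -/
theorem isTISubset_centralizer_of_CA {G : Type*} [Group G]
    (hP : ∀ a b : G, a ≠ 1 → b ≠ 1 → Commute a b → ∀ y, Commute a y → Commute b y) (x : G) :
    IsTISubset (Subgroup.centralizer ({x} : Set G) : Set G) := by
  intro g hg c hc hgc
  by_contra hc1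
  apply hg
  have hcx : Commute c x := Subgroup.mem_centralizer_singleton_iff.mp hc
  have hgcx : Commute (g * c * g⁻¹) x := Subgroup.mem_centralizer_singleton_iff.mp hgc
  have hx1 : x ≠ 1 := by
    rintro rfl
    apply hg
    rw [Subgroup.mem_normalizer_iff]
    intro n
    simp [Subgroup.mem_centralizer_iff]
  have hgc1 : g * c * g⁻¹ ≠ 1 := by
    intro h
    apply hc1
    have : c = g⁻¹ * (g * c * g⁻¹) * g := by group
    rw [this, h]; group
  rw [Subgroup.mem_normalizer_iff]
  intro y
  rw [Subgroup.mem_centralizer_singleton_iff, Subgroup.mem_centralizer_singleton_iff]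
  constructor
  · intro hy
    -- y commutes with x, so with c, so g y g⁻¹ commutes with g c g⁻¹, so with x
    have h1 : Commute c y := hP x c hx1 hc1 hcx.symm y hy.symm
    have h2 : Commute (g * c * g⁻¹) (g * y * g⁻¹) := by
      unfold Commute SemiconjBy at h1 ⊢
      calc g * c * g⁻¹ * (g * y * g⁻¹) = g * (c * y) * g⁻¹ := by group
        _ = g * (y * c) * g⁻¹ := by rw [h1]
        _ = g * y * g⁻¹ * (g * c * g⁻¹) := by group
    exact (hP (g * c * g⁻¹) x hgc1 hx1 hgcx (g * y * g⁻¹) h2).symm
  · intro hy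
    have h1 : Commute (g * c * g⁻¹) (g * y * g⁻¹) := hP x (g * c * g⁻¹) hx1 hgc1 hgcx.symm _ hy.symm
    have h2 : Commute c y := by
      unfold Commute SemiconjBy at h1 ⊢
      calc c * y = g⁻¹ * (g * c * g⁻¹ * (g * y * g⁻¹)) * g := by group
        _ = g⁻¹ * (g * y * g⁻¹ * (g * c * g⁻¹)) * g := by rw [h1]
        _ = y * c := by group
    exact (hP c x hc1 hx1 hcx y h2).symm

end Cfsg.Agent.helper12

namespace Cfsg.Agent.helper12

open Matrix Cfsg

variable {F : Type*} [Field F]

theorem sl2_negOne_eq_one_of_char_two [CharP F 2] : (sl2NegOne : Matrix.SpecialLinearGroup (Fin 2) F) = 1 := by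
  apply Subtype.ext
  rw [sl2NegOne_coe, Matrix.SpecialLinearGroup.coe_one]
  exact CharTwo.neg_eq _

theorem sl2_not_isScalar2_of_char_two [CharP F 2] {a : Matrix.SpecialLinearGroup (Fin 2) F} (ha : a ≠ 1) :
    ¬ IsScalar2 (a : Matrix (Fin 2) (Fin 2) F) := by
  intro hs
  rcases (sl2_isScalar2_iff_eq a).mp hs with h | h
  · exact ha h
  · exact ha (h.trans sl2_negOne_eq_one_of_char_two)

theorem sl2_center_eq_bot_of_char_two [CharP F 2] :
    Subgroup.center (Matrix.SpecialLinearGroup (Fin 2) F) = ⊥ := by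
  rw [Subgroup.eq_bot_iff_forall]
  intro z hz
  have hs : IsScalar2 (z : Matrix (Fin 2) (Fin 2) F) := by
    obtain ⟨r, hr, hA⟩ := Matrix.SpecialLinearGroup.mem_center_iff.mp hz
    refine ⟨?_, ?_, ?_⟩ <;> rw [← hA] <;> simp
  by_contra hz1
  exact sl2_not_isScalar2_of_char_two hz1 hs

theorem sl2_char_two_CA [CharP F 2] (a b : Matrix.SpecialLinearGroup (Fin 2) F) (ha : a ≠ 1) (hb : b ≠ 1)
    (hab : Commute a b) (y : Matrix.SpecialLinearGroup (Fin 2) F) (hay : Commute a y) : Commute b y := by
  have h1 : b ∈ Subgroup.centralizer ({a} : Set (Matrix.SpecialLinearGroup (Fin 2) F)) :=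
    sl2_mem_centralizer_singleton.mpr hab
  have h2 := sl2_centralizer_eq_of_mem (sl2_not_isScalar2_of_char_two ha) h1 (sl2_not_isScalar2_of_char_two hb)
  have h3 : y ∈ Subgroup.centralizer ({b} : Set (Matrix.SpecialLinearGroup (Fin 2) F)) := by
    rw [h2]
    exact sl2_mem_centralizer_singleton.mpr hay
  exact sl2_mem_centralizer_singleton.mp h3

theorem psl2_mk_injective_of_char_two [CharP F 2] :
    Function.Injective (QuotientGroup.mk' (Subgroup.center (Matrix.SpecialLinearGroup (Fin 2) F))) := by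
  rw [← MonoidHom.ker_eq_bot_iff, QuotientGroup.ker_mk', sl2_center_eq_bot_of_char_two]

theorem psl2_char_two_CA [CharP F 2] (a b : Matrix.ProjectiveSpecialLinearGroup (Fin 2) F) (ha : a ≠ 1) (hb : b ≠ 1)
    (hab : Commute a b) (y : Matrix.ProjectiveSpecialLinearGroup (Fin 2) F) (hay : Commute a y) : Commute b y := by
  obtain ⟨a', rfl⟩ := QuotientGroup.mk'_surjective (Subgroup.center (Matrix.SpecialLinearGroup (Fin 2) F)) a
  obtain ⟨b', rfl⟩ := QuotientGroup.mk'_surjective (Subgroup.center (Matrix.SpecialLinearGroup (Fin 2) F)) b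
  obtain ⟨y', rfl⟩ := QuotientGroup.mk'_surjective (Subgroup.center (Matrix.SpecialLinearGroup (Fin 2) F)) y
  have hinj := psl2_mk_injective_of_char_two (F := F)
  have ha' : a' ≠ 1 := by
    rintro rfl
    exact ha (map_one _)
  have hb' : b' ≠ 1 := by
    rintro rfl
    exact hb (map_one _)
  have hab' : Commute a' b' := by
    apply hinj
    rw [map_mul, map_mul]
    exact hab
  have hay' : Commute a' y' := by
    apply hinj
    rw [map_mul, map_mul]
    exact hay
  have := sl2_char_two_CA a' b' ha' hb' hab' y' hay'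
  unfold Commute SemiconjBy at this ⊢
  rw [← map_mul, ← map_mul, this]

end Cfsg.Agent.helper12
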