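import Cfsg.Agent.Lib_helper12_PslGraphA
import Cfsg.Agent.Lib_helper12_PslTI

set_option autoImplicit false
set_option linter.unusedSectionVars false

namespace Cfsg.Agent.helper12

open Matrix Cfsg

variable {F : Type*} [Field F] [Fintype F] [DecidableEq F]

/-- the degrees of a group isomorphic to PSL2 or SL2 -/
theorem psl2_or_sl2_charDegrees {S : Type*} [Group S]
    (hS : Nonempty (S ≃* Matrix.ProjectiveSpecialLinearGroup (Fin 2) F) ∨ Nonempty (S ≃* Matrix.SpecialLinearGroup (Fin 2) F)) :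
    (∀ d ∈ charDegrees S, ∃ χ : IrrCharacter (Matrix.SpecialLinearGroup (Fin 2) F),
      charDegree (χ : Matrix.SpecialLinearGroup (Fin 2) F → ℂ) = d) ∧
    (∀ (χ : IrrCharacter (Matrix.SpecialLinearGroup (Fin 2) F)),
      (∀ z ∈ Subgroup.center (Matrix.SpecialLinearGroup (Fin 2) F),
        (χ : Matrix.SpecialLinearGroup (Fin 2) F → ℂ) z = (χ : Matrix.SpecialLinearGroup (Fin 2) F → ℂ) 1) →
      charDegree (χ : Matrix.SpecialLinearGroup (Fin 2) F → ℂ) ∈ charDegrees S) := by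
  rcases hS with ⟨⟨e⟩⟩ | ⟨⟨e⟩⟩
  · rw [charDegrees_mulEquiv e]
    have hquot : charDegrees (Matrix.ProjectiveSpecialLinearGroup (Fin 2) F) = _ :=
      charDegrees_quotient (Subgroup.center (Matrix.SpecialLinearGroup (Fin 2) F))
    rw [hquot]
    constructor
    · rintro d ⟨χ, _, hd⟩
      exact ⟨χ, hd⟩
    · intro χ hχ
      exact ⟨χ, hχ, rfl⟩
  · rw [charDegrees_mulEquiv e]
    constructor
    · rintro d ⟨χ, hd⟩
      exact ⟨χ, hd⟩
    · intro χ _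
      exact ⟨χ, rfl⟩

theorem degree_graph_odd_arith (q r s : ℕ) (hodd : Odd q) (hr : r.Prime) (hs : s.Prime) :
    ((r ∣ q + 1 ∧ s ∣ q + 1) ∨ (r ∣ q - 1 ∧ s ∣ q - 1)) ↔
    (r ∣ q ^ 2 - 1 ∧ s ∣ q ^ 2 - 1 ∧ (r = 2 ∨ s = 2 ∨ (r ∣ q + 1 ∧ s ∣ q + 1) ∨ (r ∣ q - 1 ∧ s ∣ q - 1))) := by
  obtain ⟨k, hk⟩ := hodd
  have hfac := nat_sq_sub_one q (by omega)
  have h2p : 2 ∣ q + 1 := ⟨k + 1, by omega⟩
  have h2m : 2 ∣ q - 1 := ⟨k, by omega⟩
  constructor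
  · rintro (⟨h1, h2⟩ | ⟨h1, h2⟩)
    · exact ⟨by rw [hfac]; exact Dvd.dvd.mul_left h1 _, by rw [hfac]; exact Dvd.dvd.mul_left h2 _, Or.inr (Or.inr (Or.inl ⟨h1, h2⟩))⟩
    · exact ⟨by rw [hfac]; exact Dvd.dvd.mul_right h1 _, by rw [hfac]; exact Dvd.dvd.mul_right h2 _, Or.inr (Or.inr (Or.inr ⟨h1, h2⟩))⟩
  · rintro ⟨hr2, hs2, h | h | h | h⟩
    · rw [hfac] at hs2
      rcases (Nat.Prime.dvd_mul hs).mp hs2 with h' | h'
      · right; exact ⟨by rw [h]; exact h2m, h'⟩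
      · left; exact ⟨by rw [h]; exact h2p, h'⟩
    · rw [hfac] at hr2
      rcases (Nat.Prime.dvd_mul hr).mp hr2 with h' | h'
      · right; exact ⟨h', by rw [h]; exact h2m⟩
      · left; exact ⟨h', by rw [h]; exact h2p⟩
    · left; exact h
    · right; exact h

/-- S4774 -/
theorem psl2_degree_graph_odd (t : ℕ) [Fact t.Prime] [CharP F t] (ht : t ≠ 2) (q : ℕ) (hq : Fintype.card F = q) (h5 : 5 < q)
    {S : Type*} [Group S]
    (hS : Nonempty (S ≃* Matrix.ProjectiveSpecialLinearGroup (Fin 2) F) ∨ Nonempty (S ≃* Matrix.SpecialLinearGroup (Fin 2) F)) :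
    Cfsg.degreePrimes S = {r : ℕ | r.Prime ∧ r ∣ q * (q ^ 2 - 1)} ∧
    ∀ r s : ℕ, (Cfsg.degreeGraph S).Adj r s ↔ (r ≠ s ∧ r.Prime ∧ s.Prime ∧ r ∣ q ^ 2 - 1 ∧ s ∣ q ^ 2 - 1 ∧
      (r = 2 ∨ s = 2 ∨ (r ∣ q + 1 ∧ s ∣ q + 1) ∨ (r ∣ q - 1 ∧ s ∣ q - 1))) := by
  subst hq
  have htp : t.Prime := Fact.out
  obtain ⟨n, _, hn⟩ := FiniteField.card F t
  have hodd : Odd (Fintype.card F) := by
    rw [hn]
    exact (htp.odd_of_ne_two ht).pow
  obtain ⟨hsub, hmem⟩ := psl2_or_sl2_charDegrees (F := F) hS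
  have hex := sl2_exists_irr_center_trivial hodd h5
  have H1 : ∀ d ∈ charDegrees S, d = 1 ∨ d = Fintype.card F ∨ d ∣ Fintype.card F + 1 ∨ d ∣ Fintype.card F - 1 := by
    intro d hd
    obtain ⟨χ, rfl⟩ := hsub d hd
    exact sl2_charDegree_dvd χ.2
  have Hq : Fintype.card F ∈ charDegrees S := by
    obtain ⟨χ, hz, hd⟩ := hex _ (Or.inl rfl)
    rw [← hd]; exact hmem χ hz
  have Hp : Fintype.card F + 1 ∈ charDegrees S := by
    obtain ⟨χ, hz, hd⟩ := hex _ (Or.inr (Or.inl rfl))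
    rw [← hd]; exact hmem χ hz
  have Hm : Fintype.card F - 1 ∈ charDegrees S := by
    obtain ⟨χ, hz, hd⟩ := hex _ (Or.inr (Or.inr rfl))
    rw [← hd]; exact hmem χ hz
  obtain ⟨g1, g2⟩ := degree_graph_arith (charDegrees S) (Fintype.card F) t n htp hn (by omega) H1 Hq Hp Hm
  refine ⟨g1, ?_⟩
  intro r s
  refine (g2 r s).trans ?_
  constructor
  · rintro ⟨hne, hr, hs, h⟩
    obtain ⟨a, b, c⟩ := (degree_graph_odd_arith _ r s hodd hr hs).mp h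
    exact ⟨hne, hr, hs, a, b, c⟩
  · rintro ⟨hne, hr, hs, a, b, c⟩
    exact ⟨hne, hr, hs, (degree_graph_odd_arith _ r s hodd hr hs).mpr ⟨a, b, c⟩⟩

theorem exists_of_natCard_pos {α : Type*} {p : α → Prop} (h : 0 < Nat.card {a : α // p a}) : ∃ a, p a := by
  obtain ⟨⟨a, ha⟩⟩ := (Nat.card_pos_iff.mp h).1
  exact ⟨a, ha⟩

/-- S4812 -/
theorem psl2_degree_graph_even [CharP F 2] (q : ℕ) (hq : Fintype.card F = q) (h4 : 4 ≤ q)
    {S : Type*} [Group S]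
    (hS : Nonempty (S ≃* Matrix.ProjectiveSpecialLinearGroup (Fin 2) F) ∨ Nonempty (S ≃* Matrix.SpecialLinearGroup (Fin 2) F)) :
    Cfsg.degreePrimes S = {r : ℕ | r.Prime ∧ r ∣ q * (q ^ 2 - 1)} ∧
    ∀ r s : ℕ, (Cfsg.degreeGraph S).Adj r s ↔ (r ≠ s ∧ r.Prime ∧ s.Prime ∧
      ((r ∣ q + 1 ∧ s ∣ q + 1) ∨ (r ∣ q - 1 ∧ s ∣ q - 1))) := by
  subst hq
  obtain ⟨n, _, hn⟩ := FiniteField.card F 2
  obtain ⟨hsub, hmem⟩ := psl2_or_sl2_charDegrees (F := F) hS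
  have hcen : ∀ (χ : IrrCharacter (Matrix.SpecialLinearGroup (Fin 2) F)),
      ∀ z ∈ Subgroup.center (Matrix.SpecialLinearGroup (Fin 2) F),
        (χ : Matrix.SpecialLinearGroup (Fin 2) F → ℂ) z = (χ : Matrix.SpecialLinearGroup (Fin 2) F → ℂ) 1 := by
    intro χ z hz
    rw [sl2_center_eq_bot_of_char_two, Subgroup.mem_bot] at hz
    rw [hz]
  obtain ⟨_, c2, c3, c4⟩ := (sl2_degrees_even (F := F)).2 h4
  have hq1 : 1 ≤ Fintype.card F := by omega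
  have H1 : ∀ d ∈ charDegrees S, d = 1 ∨ d = Fintype.card F ∨ d ∣ Fintype.card F + 1 ∨ d ∣ Fintype.card F - 1 := by
    intro d hd
    obtain ⟨χ, rfl⟩ := hsub d hd
    exact sl2_charDegree_dvd χ.2
  have Hq : Fintype.card F ∈ charDegrees S := by
    obtain ⟨χ, hχ⟩ := exists_of_natCard_pos (by rw [c2]; norm_num)
    rw [← helper24.charDegree_natCast _ _ hχ]
    exact hmem χ (hcen χ)
  have Hp : Fintype.card F + 1 ∈ charDegrees S := by
    obtain ⟨χ, hχ⟩ := exists_of_natCard_pos (by rw [c3]; omega)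
    have : (χ : Matrix.SpecialLinearGroup (Fin 2) F → ℂ) 1 = ((Fintype.card F + 1 : ℕ) : ℂ) := by rw [hχ]; push_cast; ring
    rw [← helper24.charDegree_natCast _ _ this]
    exact hmem χ (hcen χ)
  have Hm : Fintype.card F - 1 ∈ charDegrees S := by
    obtain ⟨χ, hχ⟩ := exists_of_natCard_pos (by rw [c4]; omega)
    have : (χ : Matrix.SpecialLinearGroup (Fin 2) F → ℂ) 1 = ((Fintype.card F - 1 : ℕ) : ℂ) := by
      rw [hχ, Nat.cast_sub hq1, Nat.cast_one]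
    rw [← helper24.charDegree_natCast _ _ this]
    exact hmem χ (hcen χ)
  obtain ⟨g1, g2⟩ := degree_graph_arith (charDegrees S) (Fintype.card F) 2 n Nat.prime_two hn h4 H1 Hq Hp Hm
  exact ⟨g1, g2⟩

end Cfsg.Agent.helper12
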