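import Mathlib

set_option autoImplicit false

namespace Cfsg.Agent.helper2

/-- A group of order `k!/2` that embeds in the permutations of a `k`-element set is the
alternating group of degree `k`. -/
theorem mulEquiv_alternating_of_injective {G X : Type*} [Group G] [Finite G] [Fintype X]
    [DecidableEq X] (k : ℕ) (hX : Fintype.card X = k) (φ : G →* Equiv.Perm X)
    (hφ : Function.Injective φ) (hcard : 2 * Nat.card G = k.factorial) :
    Nonempty (G ≃* alternatingGroup (Fin k)) := by
  let e : X ≃ Fin k := Fintype.equivFinOfCardEq hX
  let ψ : G →* Equiv.Perm (Fin k) := (e.permCongrHom.toMonoidHom).comp φ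
  have hψ : Function.Injective ψ := e.permCongrHom.injective.comp hφ
  have hrange : Nat.card ψ.range = Nat.card G :=
    (Nat.card_congr (MonoidHom.ofInjective hψ).toEquiv).symm
  have hperm : Nat.card (Equiv.Perm (Fin k)) = k.factorial := by
    rw [Nat.card_eq_fintype_card, Fintype.card_perm, Fintype.card_fin]
  have hidx : ψ.range.index = 2 := by
    have h1 := ψ.range.index_mul_card
    rw [hrange, hperm, ← hcard] at h1
    have hpos : 0 < Nat.card G := Nat.card_pos
    exact Nat.eq_of_mul_eq_mul_right hpos h1
  have halt := Equiv.Perm.eq_alternatingGroup_of_index_eq_two hidx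
  exact ⟨(MonoidHom.ofInjective hψ).trans (MulEquiv.subgroupCongr halt)⟩

/-- A group of order `k!` that embeds in the permutations of a `k`-element set is the
symmetric group of degree `k`. -/
theorem mulEquiv_perm_of_injective {G X : Type*} [Group G] [Finite G] [Fintype X]
    [DecidableEq X] (k : ℕ) (hX : Fintype.card X = k) (φ : G →* Equiv.Perm X)
    (hφ : Function.Injective φ) (hcard : Nat.card G = k.factorial) :
    Nonempty (G ≃* Equiv.Perm (Fin k)) := by
  let e : X ≃ Fin k := Fintype.equivFinOfCardEq hX
  let ψ : G →* Equiv.Perm (Fin k) := (e.permCongrHom.toMonoidHom).comp φ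
  have hψ : Function.Injective ψ := e.permCongrHom.injective.comp hφ
  have hperm : Nat.card (Equiv.Perm (Fin k)) = k.factorial := by
    rw [Nat.card_eq_fintype_card, Fintype.card_perm, Fintype.card_fin]
  have hbij : Function.Bijective ψ := by
    rw [Nat.bijective_iff_injective_and_card]
    exact ⟨hψ, by rw [hcard, hperm]⟩
  exact ⟨MulEquiv.ofBijective ψ hbij⟩

end Cfsg.Agent.helper2
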