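import Mathlib

set_option autoImplicit false

namespace Cfsg.Agent.helper2

open Matrix

section

variable {n : Type*} [Fintype n] [DecidableEq n] {R : Type*} [CommRing R]

/-- The range of `SL → GL` is the kernel of the determinant. -/
theorem range_toGL_eq_ker_det :
    (SpecialLinearGroup.toGL : SpecialLinearGroup n R →* GL n R).range =
      (GeneralLinearGroup.det : GL n R →* Rˣ).ker := by
  ext g
  rw [MonoidHom.mem_range, MonoidHom.mem_ker]
  constructor
  · rintro ⟨A, rfl⟩
    apply Units.ext
    simp
  · intro h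
    have h1 : (g : Matrix n n R).det = 1 := by
      have := congrArg Units.val h
      simpa using this
    refine ⟨⟨(g : Matrix n n R), h1⟩, ?_⟩
    apply Units.ext
    rfl

/-- `|SL| = |ker det|`. -/
theorem card_SL_eq_card_ker_det :
    Nat.card (SpecialLinearGroup n R) =
      Nat.card (GeneralLinearGroup.det : GL n R →* Rˣ).ker := by
  rw [← range_toGL_eq_ker_det]
  exact Nat.card_congr (MonoidHom.ofInjective SpecialLinearGroup.toGL_injective).toEquiv

end

/-- For a surjective hom of groups, `|G| = |H| * |ker|`. -/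
theorem card_eq_card_mul_card_ker {G H : Type*} [Group G] [Group H] (f : G →* H)
    (hf : Function.Surjective f) : Nat.card G = Nat.card H * Nat.card f.ker := by
  rw [Subgroup.card_eq_card_quotient_mul_card_subgroup f.ker]
  congr 1
  exact Nat.card_congr (QuotientGroup.quotientKerEquivOfSurjective f hf).toEquiv

/-- `(q - 1) * |SL_n(q)| = |GL_n(q)|` for nonempty index type. -/
theorem card_units_mul_card_SL {n : Type*} [Fintype n] [DecidableEq n] [Nonempty n]
    {F : Type*} [Field F] [Fintype F] :
    (Fintype.card F - 1) * Nat.card (SpecialLinearGroup n F) = Nat.card (GL n F) := by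
  rw [card_eq_card_mul_card_ker (GeneralLinearGroup.det : GL n F →* Fˣ)
    GeneralLinearGroup.det_surjective, card_SL_eq_card_ker_det, Nat.card_units,
    Nat.card_eq_fintype_card (α := F)]

end Cfsg.Agent.helper2

namespace Cfsg.Agent.helper2

open Matrix

/-- The number of `d`-th roots of unity in a finite field with `q` elements is `gcd (q-1) d`. -/
theorem card_rootsOfUnity_field {F : Type*} [Field F] [Fintype F] (d : ℕ) :
    Nat.card (rootsOfUnity d F) = Nat.gcd (Fintype.card F - 1) d := by
  have h : rootsOfUnity d F = (powMonoidHom d : Fˣ →* Fˣ).ker := by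
    ext x
    rw [mem_rootsOfUnity, MonoidHom.mem_ker, powMonoidHom_apply]
  rw [h, IsCyclic.card_powMonoidHom_ker, Nat.card_units, Nat.card_eq_fintype_card]

/-- The centre of `SL_n(q)` has order `gcd (q-1) n`, for `n ≥ 1`. -/
theorem card_center_SL {F : Type*} [Field F] [Fintype F] (n : ℕ) (hn : 1 ≤ n) :
    Nat.card (Subgroup.center (SpecialLinearGroup (Fin n) F)) = Nat.gcd (Fintype.card F - 1) n := by
  have e := SpecialLinearGroup.center_equiv_rootsOfUnity' (R := F) (⟨0, hn⟩ : Fin n)
  rw [Nat.card_congr e.toEquiv, card_rootsOfUnity_field, Fintype.card_fin]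

/-- `|SL_n(q)| = |PSL_n(q)| * |Z(SL_n(q))|`. -/
theorem card_SL_eq_card_PSL_mul {F : Type*} [Field F] [Fintype F] (n : ℕ) :
    Nat.card (SpecialLinearGroup (Fin n) F) =
      Nat.card (ProjectiveSpecialLinearGroup (Fin n) F) *
        Nat.card (Subgroup.center (SpecialLinearGroup (Fin n) F)) :=
  Subgroup.card_eq_card_quotient_mul_card_subgroup _

end Cfsg.Agent.helper2

namespace Cfsg.Agent.helper2

open Matrix

theorem scalar_injective {n : Type*} [Fintype n] [DecidableEq n] [Nonempty n]
    {R : Type*} [CommRing R] :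
    Function.Injective (GeneralLinearGroup.scalar n : Rˣ →* GL n R) := by
  intro u v h
  obtain ⟨i⟩ := ‹Nonempty n›
  have h1 := congrArg (fun g : GL n R => (g : Matrix n n R) i i) h
  simp only [GeneralLinearGroup.coe_scalar, Matrix.scalar_apply, Matrix.diagonal_apply_eq] at h1
  exact Units.ext h1

/-- The centre of `GL_n(q)` has `q - 1` elements for nonempty `n`. -/
theorem card_center_GL {n : Type*} [Fintype n] [DecidableEq n] [Nonempty n]
    {F : Type*} [Field F] [Fintype F] :
    Nat.card (Subgroup.center (GL n F)) = Fintype.card F - 1 := by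
  rw [GeneralLinearGroup.center_eq_range_scalar,
    ← Nat.card_congr (MonoidHom.ofInjective (scalar_injective (n := n) (R := F))).toEquiv,
    Nat.card_units, Nat.card_eq_fintype_card]

/-- `|PGL_n(q)| = |SL_n(q)|`. -/
theorem card_PGL_eq_card_SL {F : Type*} [Field F] [Fintype F] (n : ℕ) :
    Nat.card (ProjGenLinGroup (Fin n) F) = Nat.card (SpecialLinearGroup (Fin n) F) := by
  rcases Nat.eq_zero_or_pos n with rfl | hn
  · have h1 : Subsingleton (GL (Fin 0) F) := ⟨fun a b => Units.ext (Subsingleton.elim _ _)⟩
    have h2 : Subsingleton (ProjGenLinGroup (Fin 0) F) :=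
      ProjGenLinGroup.mk_surjective.subsingleton
    have h3 : Subsingleton (SpecialLinearGroup (Fin 0) F) :=
      ⟨fun a b => Subtype.ext (Subsingleton.elim _ _)⟩
    rw [Nat.card_unique, Nat.card_unique]
  · have : Nonempty (Fin n) := ⟨⟨0, hn⟩⟩
    have h1 : Nat.card (GL (Fin n) F) =
        Nat.card (ProjGenLinGroup (Fin n) F) * Nat.card (Subgroup.center (GL (Fin n) F)) :=
      Subgroup.card_eq_card_quotient_mul_card_subgroup _
    rw [card_center_GL, ← card_units_mul_card_SL, mul_comm] at h1
    have hq : 0 < Fintype.card F - 1 := by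
      have := Fintype.one_lt_card (α := F)
      omega
    exact (Nat.eq_of_mul_eq_mul_right hq h1).symm

end Cfsg.Agent.helper2
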