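import Mathlib
import Cfsg.Statements.S0243
import Cfsg.Agent.Lib_helper2_Classical

set_option autoImplicit false
open Cfsg

namespace Cfsg.Agent.S0243

open Cfsg.Agent.helper2

theorem result {F : Type*} [Field F] [Fintype F] {q : ℕ} (hF : Fintype.card F = q) (n : ℕ) (hn : 2 ≤ n) : Nat.gcd n (q - 1) * ((q - 1) * Nat.card (Matrix.ProjectiveSpecialLinearGroup (Fin n) F)) = ∏ i : Fin n, (q ^ n - q ^ (i : ℕ)) := by
  subst hF
  have : Nonempty (Fin n) := ⟨⟨0, by omega⟩⟩
  rw [← Matrix.card_GL_field, ← card_units_mul_card_SL, card_SL_eq_card_PSL_mul,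
    card_center_SL n (by omega), Nat.gcd_comm]
  ring

end Cfsg.Agent.S0243
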