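import Mathlib
import Cfsg.Statements.S0252
import Cfsg.Agent.Lib_helper2_PermIso
import Cfsg.Agent.S0243

set_option autoImplicit false
open Cfsg

namespace Cfsg.Agent.S0252

open Cfsg.Agent.helper2
open scoped LinearAlgebra.Projectivization

theorem card_proj_line {F : Type*} [Field F] [Fintype F] :
    Nat.card (ℙ F (Fin 2 → F)) = Fintype.card F + 1 := by
  rw [Projectivization.card_of_finrank_two F (Fin 2 → F) (by simp), Nat.card_eq_fintype_card]

theorem result {F : Type*} [Field F] [Fintype F] (hF : Fintype.card F = 4) : Nonempty (Matrix.ProjectiveSpecialLinearGroup (Fin 2) F ≃* alternatingGroup (Fin 5)) := by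
  classical
  have hfin : Finite (ℙ F (Fin 2 → F)) := by
    apply Nat.finite_of_card_ne_zero
    rw [card_proj_line]; omega
  have := Fintype.ofFinite (ℙ F (Fin 2 → F))
  have hX : Fintype.card (ℙ F (Fin 2 → F)) = 5 := by
    rw [← Nat.card_eq_fintype_card, card_proj_line, hF]
  have hN : Nat.card (Matrix.ProjectiveSpecialLinearGroup (Fin 2) F) = 60 := by
    have hord := Cfsg.Agent.S0243.result hF 2 le_rfl
    rw [Fin.prod_univ_two] at hord
    generalize Nat.card (Matrix.ProjectiveSpecialLinearGroup (Fin 2) F) = N at hord
    norm_num at hord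
    omega
  have hfinG : Finite (Matrix.ProjectiveSpecialLinearGroup (Fin 2) F) := by
    apply Nat.finite_of_card_ne_zero
    omega
  refine mulEquiv_alternating_of_injective 5 hX Projectivization.PSLAction.toPermHom
    Matrix.ProjectiveSpecialLinearGroup.toPermHom_injective ?_
  rw [hN]
  rfl

end Cfsg.Agent.S0252
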