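import Mathlib
import Cfsg.Statements.S3377

set_option autoImplicit false
open Cfsg

namespace Cfsg.Agent.S3377

section
variable {P : Type*} [Group P] (H : Subgroup P)

/-- `a * s` lies in the coset `H * b` -/
def R (a s b : P) : Prop := ∃ u ∈ H, a * s = u * b

theorem R_def' (a s : P) : R H a s (a * s) := ⟨1, H.one_mem, (one_mul _).symm⟩

theorem chain3 {s1 s2 s3 a b c : P} (hr : s1 * s2 * s3 = 1) (h1 : R H a s1 b) (h2 : R H b s2 c) :
    R H c s3 a := by
  obtain ⟨u1, hu1, e1⟩ := h1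
  obtain ⟨u2, hu2, e2⟩ := h2
  refine ⟨(u1 * u2)⁻¹, H.inv_mem (H.mul_mem hu1 hu2), ?_⟩
  have : u1 * u2 * (c * s3) = a := by
    calc u1 * u2 * (c * s3) = u1 * (u2 * c) * s3 := by group
      _ = u1 * (b * s2) * s3 := by rw [e2]
      _ = (u1 * b) * s2 * s3 := by group
      _ = (a * s1) * s2 * s3 := by rw [e1]
      _ = a * (s1 * s2 * s3) := by group
      _ = a := by rw [hr, mul_one]
  exact eq_inv_mul_of_mul_eq this

theorem chain4 {s1 s2 s3 s4 a b c d : P} (hr : s1 * s2 * s3 * s4 = 1) (h1 : R H a s1 b)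
    (h2 : R H b s2 c) (h3 : R H c s3 d) : R H d s4 a := by
  obtain ⟨u1, hu1, e1⟩ := h1
  obtain ⟨u2, hu2, e2⟩ := h2
  obtain ⟨u3, hu3, e3⟩ := h3
  refine ⟨(u1 * u2 * u3)⁻¹, H.inv_mem (H.mul_mem (H.mul_mem hu1 hu2) hu3), ?_⟩
  have : u1 * u2 * u3 * (d * s4) = a := by
    calc u1 * u2 * u3 * (d * s4) = u1 * u2 * (u3 * d) * s4 := by group
      _ = u1 * u2 * (c * s3) * s4 := by rw [e3]
      _ = u1 * (u2 * c) * s3 * s4 := by group
      _ = u1 * (b * s2) * s3 * s4 := by rw [e2]
      _ = (u1 * b) * s2 * s3 * s4 := by group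
      _ = (a * s1) * s2 * s3 * s4 := by rw [e1]
      _ = a * (s1 * s2 * s3 * s4) := by group
      _ = a := by rw [hr, mul_one]
  exact eq_inv_mul_of_mul_eq this

theorem chain5 {s1 s2 s3 s4 s5 a b c d e : P} (hr : s1 * s2 * s3 * s4 * s5 = 1) (h1 : R H a s1 b)
    (h2 : R H b s2 c) (h3 : R H c s3 d) (h4 : R H d s4 e) : R H e s5 a := by
  obtain ⟨u1, hu1, e1⟩ := h1
  obtain ⟨u2, hu2, e2⟩ := h2
  obtain ⟨u3, hu3, e3⟩ := h3
  obtain ⟨u4, hu4, e4⟩ := h4
  refine ⟨(u1 * u2 * u3 * u4)⁻¹,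
    H.inv_mem (H.mul_mem (H.mul_mem (H.mul_mem hu1 hu2) hu3) hu4), ?_⟩
  have : u1 * u2 * u3 * u4 * (e * s5) = a := by
    calc u1 * u2 * u3 * u4 * (e * s5) = u1 * u2 * u3 * (u4 * e) * s5 := by group
      _ = u1 * u2 * u3 * (d * s4) * s5 := by rw [e4]
      _ = u1 * u2 * (u3 * d) * s4 * s5 := by group
      _ = u1 * u2 * (c * s3) * s4 * s5 := by rw [e3]
      _ = u1 * (u2 * c) * s3 * s4 * s5 := by group
      _ = u1 * (b * s2) * s3 * s4 * s5 := by rw [e2]
      _ = (u1 * b) * s2 * s3 * s4 * s5 := by group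
      _ = (a * s1) * s2 * s3 * s4 * s5 := by rw [e1]
      _ = a * (s1 * s2 * s3 * s4 * s5) := by group
      _ = a := by rw [hr, mul_one]
  exact eq_inv_mul_of_mul_eq this

end

/-- The coset table of `⟨y⟩` in a group satisfying the (2,3,5) relations. -/
theorem coset_table {P : Type*} [Group P] (x y : P) (hx : x ^ 3 = 1) (hy : y ^ 5 = 1)
    (hxy2 : (x * y) ^ 2 = 1) :
    ∃ W : Fin 12 → P, W 0 = 1 ∧ ∀ i : Fin 12,
      (∃ j, R (Subgroup.zpowers y) (W i) x (W j)) ∧ (∃ j, R (Subgroup.zpowers y) (W i) y (W j)) := by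
  set H := Subgroup.zpowers y with hH
  have hyH : y ∈ H := Subgroup.mem_zpowers y
  have hxxx : x * x * x = 1 := by rw [← hx]; simp [pow_succ]
  have hy5 : y * y * y * y * y = 1 := by rw [← hy]; simp [pow_succ]
  have hxy : x * y * x * y = 1 := by rw [← hxy2]; simp [pow_succ, mul_assoc]
  have hyx : y * x * y * x = 1 := by
    have : y * x * y * x = x⁻¹ * (x * y * x * y) * x := by group
    rw [this, hxy]; group
  have E0y : R H (1) y (1) := ⟨y, hyH, by simp⟩
  have E0x : R H (1) x (1 * x) := R_def' H _ _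
  have E1x : R H (1 * x) x (1 * x * x) := R_def' H _ _
  have E2x : R H (1 * x * x) x (1) := chain3 H hxxx E0x E1x
  have E1y : R H (1 * x) y (1 * x * x) := chain4 H hxy E2x E0y E0x
  have E2y : R H (1 * x * x) y (1 * x * x * y) := R_def' H _ _
  have E3x : R H (1 * x * x * y) x (1 * x * x * y * x) := R_def' H _ _
  have E4y : R H (1 * x * x * y * x) y (1 * x) := chain4 H hxy E1x E2y E3x
  have E3y : R H (1 * x * x * y) y (1 * x * x * y * y) := R_def' H _ _
  have E5y : R H (1 * x * x * y * y) y (1 * x * x * y * x) := chain5 H hy5 E4y E1y E2y E3y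
  have E4x : R H (1 * x * x * y * x) x (1 * x * x * y * x * x) := R_def' H _ _
  have E6x : R H (1 * x * x * y * x * x) x (1 * x * x * y) := chain3 H hxxx E3x E4x
  have E5x : R H (1 * x * x * y * y) x (1 * x * x * y * y * x) := R_def' H _ _
  have E7y : R H (1 * x * x * y * y * x) y (1 * x * x * y * x * x) := chain4 H hxy E6x E3y E5x
  have E6y : R H (1 * x * x * y * x * x) y (1 * x * x * y * x * x * y) := R_def' H _ _
  have E8x : R H (1 * x * x * y * x * x * y) x (1 * x * x * y * y) := chain4 H hyx E5y E4x E6y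
  have E7x : R H (1 * x * x * y * y * x) x (1 * x * x * y * x * x * y) := chain3 H hxxx E8x E5x
  have E8y : R H (1 * x * x * y * x * x * y) y (1 * x * x * y * x * x * y * y) := R_def' H _ _
  have E9x : R H (1 * x * x * y * x * x * y * y) x (1 * x * x * y * x * x * y * y * x) := R_def' H _ _
  have E10y : R H (1 * x * x * y * x * x * y * y * x) y (1 * x * x * y * y * x) := chain4 H hxy E7x E8y E9x
  have E9y : R H (1 * x * x * y * x * x * y * y) y (1 * x * x * y * x * x * y * y * x) := chain5 H hy5 E10y E7y E6y E8y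
  have E10x : R H (1 * x * x * y * x * x * y * y * x) x (1 * x * x * y * x * x * y * y * x * x) := R_def' H _ _
  have E11x : R H (1 * x * x * y * x * x * y * y * x * x) x (1 * x * x * y * x * x * y * y) := chain3 H hxxx E9x E10x
  have E11y : R H (1 * x * x * y * x * x * y * y * x * x) y (1 * x * x * y * x * x * y * y * x * x) := chain4 H hxy E11x E9y E10x
  refine ⟨![1, 1 * x, 1 * x * x, 1 * x * x * y, 1 * x * x * y * x, 1 * x * x * y * y, 1 * x * x * y * x * x, 1 * x * x * y * y * x, 1 * x * x * y * x * x * y, 1 * x * x * y * x * x * y * y, 1 * x * x * y * x * x * y * y * x, 1 * x * x * y * x * x * y * y * x * x], rfl, ?_⟩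
  intro i
  fin_cases i
  · exact ⟨⟨1, E0x⟩, ⟨0, E0y⟩⟩
  · exact ⟨⟨2, E1x⟩, ⟨2, E1y⟩⟩
  · exact ⟨⟨0, E2x⟩, ⟨3, E2y⟩⟩
  · exact ⟨⟨4, E3x⟩, ⟨5, E3y⟩⟩
  · exact ⟨⟨6, E4x⟩, ⟨1, E4y⟩⟩
  · exact ⟨⟨7, E5x⟩, ⟨4, E5y⟩⟩
  · exact ⟨⟨3, E6x⟩, ⟨8, E6y⟩⟩
  · exact ⟨⟨8, E7x⟩, ⟨6, E7y⟩⟩
  · exact ⟨⟨5, E8x⟩, ⟨9, E8y⟩⟩
  · exact ⟨⟨10, E9x⟩, ⟨10, E9y⟩⟩
  · exact ⟨⟨11, E10x⟩, ⟨7, E10y⟩⟩
  · exact ⟨⟨9, E11x⟩, ⟨11, E11y⟩⟩

/-- a group generated by `x, y` satisfying the (2,3,5) relations has at most 60 elements -/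
theorem card_le_sixty {P : Type*} [Group P] (x y : P) (hx : x ^ 3 = 1) (hy : y ^ 5 = 1)
    (hxy2 : (x * y) ^ 2 = 1) (hgen : Subgroup.closure ({x, y} : Set P) = ⊤) :
    Finite P ∧ Nat.card P ≤ 60 := by
  obtain ⟨W, hW0, hW⟩ := coset_table x y hx hy hxy2
  set H := Subgroup.zpowers y with hH
  let S : Set P := {g | ∃ i : Fin 12, ∃ h ∈ H, g = h * W i}
  have hSx : ∀ t ∈ S, t * x ∈ S := by
    rintro t ⟨i, h, hh, rfl⟩
    obtain ⟨j, u, hu, e⟩ := (hW i).1
    exact ⟨j, h * u, H.mul_mem hh hu, by rw [mul_assoc, e, mul_assoc]⟩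
  have hSy : ∀ t ∈ S, t * y ∈ S := by
    rintro t ⟨i, h, hh, rfl⟩
    obtain ⟨j, u, hu, e⟩ := (hW i).2
    exact ⟨j, h * u, H.mul_mem hh hu, by rw [mul_assoc, e, mul_assoc]⟩
  have hxinv : x⁻¹ = x * x := by
    have : x * x * x = 1 := by rw [← hx]; simp [pow_succ]
    exact inv_eq_of_mul_eq_one_right (by rw [← mul_assoc]; exact this)
  have hyinv : y⁻¹ = y * y * y * y := by
    have : y * y * y * y * y = 1 := by rw [← hy]; simp [pow_succ]
    exact inv_eq_of_mul_eq_one_right (by rw [← mul_assoc, ← mul_assoc, ← mul_assoc]; exact this)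
  have hall : ∀ g : P, (∀ t ∈ S, t * g ∈ S) ∧ (∀ t ∈ S, t * g⁻¹ ∈ S) := by
    intro g
    have hg : g ∈ Subgroup.closure ({x, y} : Set P) := by rw [hgen]; trivial
    induction hg using Subgroup.closure_induction with
    | mem z hz =>
      rcases hz with rfl | rfl
      · refine ⟨hSx, fun t ht => ?_⟩
        rw [hxinv, ← mul_assoc]
        exact hSx _ (hSx _ ht)
      · refine ⟨hSy, fun t ht => ?_⟩
        rw [hyinv, ← mul_assoc, ← mul_assoc, ← mul_assoc]
        exact hSy _ (hSy _ (hSy _ (hSy _ ht)))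
    | one => simp
    | mul a b _ _ iha ihb =>
      refine ⟨fun t ht => ?_, fun t ht => ?_⟩
      · rw [← mul_assoc]; exact ihb.1 _ (iha.1 _ ht)
      · rw [mul_inv_rev, ← mul_assoc]; exact iha.2 _ (ihb.2 _ ht)
    | inv a _ iha =>
      refine ⟨iha.2, ?_⟩
      rw [inv_inv]; exact iha.1
  have h1S : (1 : P) ∈ S := ⟨0, 1, H.one_mem, by rw [hW0, one_mul]⟩
  have hSuniv : ∀ g : P, g ∈ S := by
    intro g
    have := (hall g).1 1 h1S
    rwa [one_mul] at this
  -- H finite
  have hfo : IsOfFinOrder y := isOfFinOrder_iff_pow_eq_one.mpr ⟨5, by norm_num, hy⟩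
  have : Finite H := Finite.of_equiv _ (finEquivZPowers hfo)
  have hHcard : Nat.card H ≤ 5 := by
    rw [hH, Nat.card_zpowers]
    exact Nat.le_of_dvd (by norm_num) (orderOf_dvd_of_pow_eq_one hy)
  let f : Fin 12 × H → P := fun q => (q.2 : P) * W q.1
  have hf : Function.Surjective f := by
    intro g
    obtain ⟨i, h, hh, rfl⟩ := hSuniv g
    exact ⟨(i, ⟨h, hh⟩), rfl⟩
  refine ⟨Finite.of_surjective f hf, ?_⟩
  calc Nat.card P ≤ Nat.card (Fin 12 × H) := Nat.card_le_card_of_surjective f hf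
    _ = 12 * Nat.card H := by rw [Nat.card_prod, Nat.card_fin]
    _ ≤ 12 * 5 := Nat.mul_le_mul_left _ hHcard
    _ = 60 := by norm_num


def pa : Equiv.Perm (Fin 5) := Equiv.swap 2 3 * Equiv.swap 3 4
def pb : Equiv.Perm (Fin 5) := Equiv.swap 0 2 * Equiv.swap 2 4 * Equiv.swap 4 1 * Equiv.swap 1 3

set_option maxRecDepth 100000 in
theorem pa_mem : pa ∈ alternatingGroup (Fin 5) := by
  rw [Equiv.Perm.mem_alternatingGroup]; decide

set_option maxRecDepth 100000 in
theorem pb_mem : pb ∈ alternatingGroup (Fin 5) := by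
  rw [Equiv.Perm.mem_alternatingGroup]; decide

def ga : alternatingGroup (Fin 5) := ⟨pa, pa_mem⟩
def gb : alternatingGroup (Fin 5) := ⟨pb, pb_mem⟩

set_option maxRecDepth 100000 in
theorem ga3 : ga ^ 3 = 1 := Subtype.ext (by show pa ^ 3 = 1; decide)

set_option maxRecDepth 100000 in
theorem gb5 : gb ^ 5 = 1 := Subtype.ext (by show pb ^ 5 = 1; decide)

set_option maxRecDepth 100000 in
theorem gab2 : (ga * gb) ^ 2 = 1 := Subtype.ext (by show (pa * pb) ^ 2 = 1; decide)

set_option maxRecDepth 100000 in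
theorem ga_ne : ga ≠ 1 := fun h => by
  have : pa = 1 := congrArg Subtype.val h
  revert this; decide

set_option maxRecDepth 100000 in
theorem gb_ne : gb ≠ 1 := fun h => by
  have : pb = 1 := congrArg Subtype.val h
  revert this; decide

set_option maxRecDepth 100000 in
theorem gab_ne : ga * gb ≠ 1 := fun h => by
  have : pa * pb = 1 := congrArg Subtype.val h
  revert this; decide

theorem card_A5 : Nat.card (alternatingGroup (Fin 5)) = 60 := by
  rw [nat_card_alternatingGroup, Nat.card_fin]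
  decide

theorem result :
    Nonempty (PresentedGroup ({FreeGroup.of (0 : Fin 2) ^ 3, FreeGroup.of (1 : Fin 2) ^ 5,
        (FreeGroup.of (0 : Fin 2) * FreeGroup.of 1) ^ 2} : Set (FreeGroup (Fin 2))) ≃* alternatingGroup (Fin 5)) := by
  set rels : Set (FreeGroup (Fin 2)) := {FreeGroup.of (0 : Fin 2) ^ 3, FreeGroup.of (1 : Fin 2) ^ 5,
        (FreeGroup.of (0 : Fin 2) * FreeGroup.of 1) ^ 2} with hrels
  set x : PresentedGroup rels := PresentedGroup.of 0 with hxdef
  set y : PresentedGroup rels := PresentedGroup.of 1 with hydef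
  have hx : x ^ 3 = 1 := by
    have : PresentedGroup.mk rels (FreeGroup.of 0 ^ 3) = 1 :=
      PresentedGroup.one_of_mem (by rw [hrels]; simp)
    rwa [map_pow] at this
  have hy : y ^ 5 = 1 := by
    have : PresentedGroup.mk rels (FreeGroup.of 1 ^ 5) = 1 :=
      PresentedGroup.one_of_mem (by rw [hrels]; simp)
    rwa [map_pow] at this
  have hxy : (x * y) ^ 2 = 1 := by
    have : PresentedGroup.mk rels ((FreeGroup.of 0 * FreeGroup.of 1) ^ 2) = 1 :=
      PresentedGroup.one_of_mem (by rw [hrels]; simp)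
    rwa [map_pow, map_mul] at this
  have hgen : Subgroup.closure ({x, y} : Set (PresentedGroup rels)) = ⊤ := by
    have h := PresentedGroup.closure_range_of rels
    rw [← h]
    congr 1
    ext g
    constructor
    · rintro (rfl | rfl)
      · exact ⟨0, rfl⟩
      · exact ⟨1, rfl⟩
    · rintro ⟨i, rfl⟩
      fin_cases i
      · left; rfl
      · right; rfl
  obtain ⟨hfin, hcard⟩ := card_le_sixty x y hx hy hxy hgen
  let f : Fin 2 → alternatingGroup (Fin 5) := ![ga, gb]
  have hf : ∀ r ∈ rels, FreeGroup.lift f r = 1 := by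
    intro r hr
    rw [hrels] at hr
    rcases hr with rfl | rfl | rfl
    · rw [map_pow, FreeGroup.lift_apply_of]; exact ga3
    · rw [map_pow, FreeGroup.lift_apply_of]; exact gb5
    · rw [map_pow, map_mul, FreeGroup.lift_apply_of, FreeGroup.lift_apply_of]; exact gab2
  let φ : PresentedGroup rels →* alternatingGroup (Fin 5) := PresentedGroup.toGroup hf
  have hφx : φ x = ga := PresentedGroup.toGroup.of hf
  have hφy : φ y = gb := PresentedGroup.toGroup.of hf
  have hsurj : Function.Surjective φ := by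
    rw [← MonoidHom.range_eq_top]
    have haK : ga ∈ φ.range := ⟨x, hφx⟩
    have hbK : gb ∈ φ.range := ⟨y, hφy⟩
    have habK : ga * gb ∈ φ.range := φ.range.mul_mem haK hbK
    haveI : Fact (Nat.Prime 5) := ⟨by norm_num⟩
    have o3 : orderOf ga = 3 := orderOf_eq_prime ga3 ga_ne
    have o5 : orderOf gb = 5 := orderOf_eq_prime gb5 gb_ne
    have o2 : orderOf (ga * gb) = 2 := orderOf_eq_prime gab2 gab_ne
    have h3 : 3 ∣ Nat.card φ.range := by
      have := Subgroup.orderOf_dvd_natCard _ haK; rwa [o3] at this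
    have h5 : 5 ∣ Nat.card φ.range := by
      have := Subgroup.orderOf_dvd_natCard _ hbK; rwa [o5] at this
    have h2 : 2 ∣ Nat.card φ.range := by
      have := Subgroup.orderOf_dvd_natCard _ habK; rwa [o2] at this
    have h30 : 30 ∣ Nat.card φ.range := by
      have h6 : 6 ∣ Nat.card φ.range :=
        Nat.Coprime.mul_dvd_of_dvd_of_dvd (by norm_num : Nat.Coprime 2 3) h2 h3
      exact Nat.Coprime.mul_dvd_of_dvd_of_dvd (by norm_num : Nat.Coprime 6 5) h6 h5
    have hidx : φ.range.index * Nat.card φ.range = 60 := by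
      rw [← card_A5]; exact φ.range.index_mul_card
    obtain ⟨t, ht⟩ := h30
    rw [ht] at hidx
    have hit : φ.range.index * t = 2 := by
      have : 30 * (φ.range.index * t) = 30 * 2 := by
        calc 30 * (φ.range.index * t) = φ.range.index * (30 * t) := by ring
          _ = 60 := hidx
          _ = 30 * 2 := by norm_num
      exact Nat.eq_of_mul_eq_mul_left (by norm_num) this
    have hi : φ.range.index = 1 ∨ φ.range.index = 2 := by
      have hdvd : φ.range.index ∣ 2 := ⟨t, hit.symm⟩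
      have := (Nat.dvd_prime Nat.prime_two).mp hdvd
      exact this
    rcases hi with hi | hi
    · exact Subgroup.index_eq_one.mp hi
    · exfalso
      haveI := Subgroup.normal_of_index_eq_two hi
      rcases Subgroup.Normal.eq_bot_or_eq_top (H := φ.range) inferInstance with hb | hb
      · rw [hb, Subgroup.index_bot, card_A5] at hi
        norm_num at hi
      · rw [hb, Subgroup.index_top] at hi
        norm_num at hi
  have hbij : Function.Bijective φ := by
    haveI := hfin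
    apply hsurj.bijective_of_nat_card_le
    rw [card_A5]; exact hcard
  exact ⟨MulEquiv.ofBijective φ hbij⟩

end Cfsg.Agent.S3377
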