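import Mathlib
import Cfsg.Agent.S3377

set_option autoImplicit false

/-!
# Embedding `A₅` into `PSL₂(F)`

* `exists_injective_of_triple` : from `X Y ∈ SL₂(F)` with `X³ = 1`, `Y⁵ = 1`, `(XY)² = -1`,
  `X` non-central, an injective homomorphism `A₅ →* PSL₂(F)` (via helper17's presentation of `A₅`).
* `exists_injective_of_i_tau` : such a triple exists as soon as `F` contains `i` with `i² = -1` and
  `τ` with `τ² + τ - 1 = 0`.
-/

namespace Cfsg.Agent.helper11.A5inPSL2

open Matrix

variable {F : Type*} [Field F]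

theorem sl_ext {A B : SpecialLinearGroup (Fin 2) F}
    (h : (A : Matrix (Fin 2) (Fin 2) F) = (B : Matrix (Fin 2) (Fin 2) F)) : A = B :=
  Subtype.ext h

theorem neg_one_mem_center :
    (-1 : SpecialLinearGroup (Fin 2) F) ∈ Subgroup.center (SpecialLinearGroup (Fin 2) F) := by
  rw [Matrix.SpecialLinearGroup.mem_center_iff]
  refine ⟨-1, by simp, ?_⟩
  rw [Matrix.SpecialLinearGroup.coe_neg, Matrix.SpecialLinearGroup.coe_one]
  ext i j
  fin_cases i <;> fin_cases j <;> simp [Matrix.scalar_apply]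

theorem exists_injective_of_triple (X Y : SpecialLinearGroup (Fin 2) F) (hX : X ^ 3 = 1)
    (hY : Y ^ 5 = 1) (hXY : (X * Y) ^ 2 = -1)
    (hXc : X ∉ Subgroup.center (SpecialLinearGroup (Fin 2) F)) :
    ∃ ψ : alternatingGroup (Fin 5) →* Matrix.ProjectiveSpecialLinearGroup (Fin 2) F,
      Function.Injective ψ := by
  classical
  obtain ⟨e⟩ := Cfsg.Agent.S3377.result
  let x : Matrix.ProjectiveSpecialLinearGroup (Fin 2) F := QuotientGroup.mk X
  let y : Matrix.ProjectiveSpecialLinearGroup (Fin 2) F := QuotientGroup.mk Y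
  have hx3 : x ^ 3 = 1 := by
    show (QuotientGroup.mk X : Matrix.ProjectiveSpecialLinearGroup (Fin 2) F) ^ 3 = 1
    rw [← QuotientGroup.mk_pow, hX]
    rfl
  have hy5 : y ^ 5 = 1 := by
    show (QuotientGroup.mk Y : Matrix.ProjectiveSpecialLinearGroup (Fin 2) F) ^ 5 = 1
    rw [← QuotientGroup.mk_pow, hY]
    rfl
  have hxy : (x * y) ^ 2 = 1 := by
    show ((QuotientGroup.mk X : Matrix.ProjectiveSpecialLinearGroup (Fin 2) F) *
      QuotientGroup.mk Y) ^ 2 = 1
    rw [← QuotientGroup.mk_mul, ← QuotientGroup.mk_pow, hXY, QuotientGroup.eq_one_iff]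
    exact neg_one_mem_center
  have hx1 : x ≠ 1 := by
    intro h
    rw [QuotientGroup.eq_one_iff] at h
    exact hXc h
  let f : Fin 2 → Matrix.ProjectiveSpecialLinearGroup (Fin 2) F := ![x, y]
  have hrel : ∀ r ∈ ({FreeGroup.of (0 : Fin 2) ^ 3, FreeGroup.of (1 : Fin 2) ^ 5,
        (FreeGroup.of (0 : Fin 2) * FreeGroup.of 1) ^ 2} : Set (FreeGroup (Fin 2))),
      FreeGroup.lift f r = 1 := by
    intro r hr
    rcases hr with rfl | rfl | rfl
    · rw [map_pow, FreeGroup.lift_apply_of]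
      exact hx3
    · rw [map_pow, FreeGroup.lift_apply_of]
      exact hy5
    · rw [map_pow, map_mul, FreeGroup.lift_apply_of, FreeGroup.lift_apply_of]
      exact hxy
  let φ := PresentedGroup.toGroup hrel
  let ψ : alternatingGroup (Fin 5) →* Matrix.ProjectiveSpecialLinearGroup (Fin 2) F :=
    φ.comp e.symm.toMonoidHom
  have hψx : ψ (e (PresentedGroup.of 0)) = x := by
    show φ (e.symm (e (PresentedGroup.of 0))) = x
    rw [MulEquiv.symm_apply_apply, PresentedGroup.toGroup.of]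
    rfl
  have : IsSimpleGroup (alternatingGroup (Fin 5)) := alternatingGroup.isSimpleGroup (by simp)
  have hker : ψ.ker = ⊥ := by
    rcases ψ.normal_ker.eq_bot_or_eq_top with h | h
    · exact h
    · exfalso
      apply hx1
      rw [← hψx, ← MonoidHom.mem_ker, h]
      trivial
  exact ⟨ψ, (MonoidHom.ker_eq_bot_iff ψ).mp hker⟩

/-- the element of order 3 -/
def xS : SpecialLinearGroup (Fin 2) F := ⟨!![0, -1; 1, -1], by simp [det_fin_two_of]⟩

theorem coe_xS :
    ((xS : SpecialLinearGroup (Fin 2) F) : Matrix (Fin 2) (Fin 2) F) = !![0, -1; 1, -1] := rfl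

theorem xS_pow : (xS : SpecialLinearGroup (Fin 2) F) ^ 3 = 1 := by
  apply sl_ext
  rw [Matrix.SpecialLinearGroup.coe_pow, coe_xS, Matrix.SpecialLinearGroup.coe_one]
  ext i j
  fin_cases i <;> fin_cases j <;> simp [pow_succ, Matrix.mul_apply, Fin.sum_univ_two]

theorem xS_not_mem_center :
    (xS : SpecialLinearGroup (Fin 2) F) ∉ Subgroup.center (SpecialLinearGroup (Fin 2) F) := by
  rw [Matrix.SpecialLinearGroup.mem_center_iff]
  rintro ⟨r, -, hr⟩
  have := congrFun (congrFun hr 1) 0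
  rw [coe_xS] at this
  simp [Matrix.scalar_apply] at this

/-- the element of order 5 -/
def yS (i τ : F) (hi : i ^ 2 = -1) : SpecialLinearGroup (Fin 2) F :=
  ⟨!![τ, i; i, 0], by rw [det_fin_two_of]; linear_combination (-1 : F) * hi⟩

theorem coe_yS (i τ : F) (hi : i ^ 2 = -1) :
    ((yS i τ hi : SpecialLinearGroup (Fin 2) F) : Matrix (Fin 2) (Fin 2) F) = !![τ, i; i, 0] := rfl

theorem yS_pow (i τ : F) (hi : i ^ 2 = -1) (hτ : τ ^ 2 + τ - 1 = 0) : yS i τ hi ^ 5 = 1 := by
  apply sl_ext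
  rw [Matrix.SpecialLinearGroup.coe_pow, coe_yS, Matrix.SpecialLinearGroup.coe_one]
  have h2 : (!![τ, i; i, 0] : Matrix (Fin 2) (Fin 2) F) * !![τ, i; i, 0] =
      !![-τ, τ * i; τ * i, -1] := by
    ext a b
    fin_cases a <;> fin_cases b <;> simp [Matrix.mul_apply, Fin.sum_univ_two]
    · linear_combination hτ + hi
    · ring
    · linear_combination hi
  have h4 : (!![-τ, τ * i; τ * i, -1] : Matrix (Fin 2) (Fin 2) F) * !![-τ, τ * i; τ * i, -1] =
      !![0, -i; -i, τ] := by
    ext a b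
    fin_cases a <;> fin_cases b <;> simp [Matrix.mul_apply, Fin.sum_univ_two]
    · linear_combination (τ ^ 2) * hi
    · linear_combination (-i) * hτ
    · linear_combination (-i) * hτ
    · linear_combination (τ ^ 2) * hi - hτ
  have h5 : (!![0, -i; -i, τ] : Matrix (Fin 2) (Fin 2) F) * !![τ, i; i, 0] = 1 := by
    ext a b
    fin_cases a <;> fin_cases b <;> simp [Matrix.mul_apply, Fin.sum_univ_two]
    · linear_combination (-1 : F) * hi
    · ring
    · linear_combination (-1 : F) * hi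
  have e5 : (!![τ, i; i, 0] : Matrix (Fin 2) (Fin 2) F) ^ 5 =
      (!![τ, i; i, 0] * !![τ, i; i, 0]) * (!![τ, i; i, 0] * !![τ, i; i, 0]) * !![τ, i; i, 0] := by
    rw [show (5 : ℕ) = 2 + 2 + 1 from rfl, pow_add, pow_add, pow_one, pow_two]
  rw [e5, h2, h4, h5]

theorem xy_sq (i τ : F) (hi : i ^ 2 = -1) :
    ((xS * yS i τ hi : SpecialLinearGroup (Fin 2) F) ^ 2 : SpecialLinearGroup (Fin 2) F) = -1 := by
  apply sl_ext
  rw [Matrix.SpecialLinearGroup.coe_pow, Matrix.SpecialLinearGroup.coe_mul, coe_xS, coe_yS,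
    Matrix.SpecialLinearGroup.coe_neg, Matrix.SpecialLinearGroup.coe_one]
  ext a b
  fin_cases a <;> fin_cases b <;> simp [pow_succ, Matrix.mul_apply, Fin.sum_univ_two]
  · linear_combination hi
  · ring
  · linear_combination hi

/-- `A₅` embeds in `PSL₂(F)` whenever `F` contains a square root of `-1` and a golden ratio. -/
theorem exists_injective_of_i_tau (i τ : F) (hi : i ^ 2 = -1) (hτ : τ ^ 2 + τ - 1 = 0) :
    ∃ ψ : alternatingGroup (Fin 5) →* Matrix.ProjectiveSpecialLinearGroup (Fin 2) F,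
      Function.Injective ψ :=
  exists_injective_of_triple xS (yS i τ hi) xS_pow (yS_pow i τ hi hτ) (xy_sq i τ hi)
    xS_not_mem_center

end Cfsg.Agent.helper11.A5inPSL2
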