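import Mathlib

set_option autoImplicit false

/-!
# Tori of `SL₂(q)`

* `exists_orderOf_eq_of_dvd_sub_one` : for `n ∣ q - 1` there is an element of order `n` (split torus)
* `exists_orderOf_eq_of_dvd_add_one` : for `n ∣ q + 1` there is an element of order `n`
  (non-split torus, via the regular representation of the quadratic extension)
* `exists_quaternion_pair_split`, `exists_quaternion_pair_nonsplit` : generators of generalized
  quaternion subgroups
-/

namespace Cfsg.Agent.helper11.Torus

open Matrix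

variable {F : Type*} [Field F]

theorem sl_ext {A B : SpecialLinearGroup (Fin 2) F}
    (h : (A : Matrix (Fin 2) (Fin 2) F) = (B : Matrix (Fin 2) (Fin 2) F)) : A = B :=
  Subtype.ext h

theorem sl_coe_eq {A B : SpecialLinearGroup (Fin 2) F} (h : A = B) :
    (A : Matrix (Fin 2) (Fin 2) F) = (B : Matrix (Fin 2) (Fin 2) F) := by
  rw [h]

variable [Fintype F]

section nonsplit

variable (F) (p : ℕ) [Fact p.Prime] [CharP F p]

/-- a basis of the quadratic extension -/
noncomputable def bK : Module.Basis (Fin 2) F (FiniteField.Extension F p 2) :=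
  Module.finBasisOfFinrankEq F _ (FiniteField.finrank_extension F p 2)

/-- regular representation of the quadratic extension -/
noncomputable def psi : FiniteField.Extension F p 2 →ₐ[F] Matrix (Fin 2) (Fin 2) F :=
  Algebra.leftMulMatrix (bK F p)

theorem psi_injective : Function.Injective (psi F p) := Algebra.leftMulMatrix_injective _

theorem natCard_K : Nat.card (FiniteField.Extension F p 2) = Fintype.card F ^ 2 := by
  rw [FiniteField.natCard_extension, Nat.card_eq_fintype_card]

theorem det_psi (x : FiniteField.Extension F p 2) :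
    algebraMap F (FiniteField.Extension F p 2) (det (psi F p x)) = x ^ (Fintype.card F + 1) := by
  have h1 := Algebra.norm_eq_matrix_det (bK F p) x
  rw [psi, ← h1, FiniteField.algebraMap_norm_eq_pow, natCard_K, Nat.card_eq_fintype_card]
  congr 1
  have hq : 2 ≤ Fintype.card F := Fintype.one_lt_card
  obtain ⟨k, hk⟩ : ∃ k, Fintype.card F = k + 2 := ⟨Fintype.card F - 2, by omega⟩
  rw [hk]
  have e1 : (k + 2) ^ 2 - 1 = (k + 2 + 1) * (k + 1) := by
    have : (k + 2) ^ 2 = (k + 2 + 1) * (k + 1) + 1 := by ring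
    omega
  have e2 : k + 2 - 1 = k + 1 := by omega
  rw [e1, e2, Nat.mul_div_cancel _ (by omega)]

theorem det_psi_eq_one {x : FiniteField.Extension F p 2} (hx : x ^ (Fintype.card F + 1) = 1) :
    det (psi F p x) = 1 := by
  apply (algebraMap F (FiniteField.Extension F p 2)).injective
  rw [det_psi, hx, map_one]

/-- the matrix of Frobenius -/
noncomputable def frobMat : Matrix (Fin 2) (Fin 2) F :=
  LinearMap.toMatrix (bK F p) (bK F p) (FiniteField.Extension.frob F p 2).toLinearMap

theorem frobMat_mul_self : frobMat F p * frobMat F p = 1 := by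
  rw [frobMat, ← LinearMap.toMatrix_comp]
  have : (FiniteField.Extension.frob F p 2).toLinearMap ∘ₗ
      (FiniteField.Extension.frob F p 2).toLinearMap = LinearMap.id := by
    apply LinearMap.ext
    intro x
    haveI : Fintype (FiniteField.Extension F p 2) := Fintype.ofFinite _
    have hc : Fintype.card (FiniteField.Extension F p 2) = Fintype.card F ^ 2 := by
      rw [Fintype.card_eq_nat_card, natCard_K]
    simp only [LinearMap.comp_apply, AlgEquiv.toLinearMap_apply, LinearMap.id_apply,
      FiniteField.Extension.frob_apply, Nat.card_eq_fintype_card]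
    rw [← pow_mul, ← pow_two, ← hc, FiniteField.pow_card]
  rw [this, LinearMap.toMatrix_id]

theorem frobMat_mul_psi (x : FiniteField.Extension F p 2) :
    frobMat F p * psi F p x = psi F p (x ^ Fintype.card F) * frobMat F p := by
  rw [frobMat, psi, Algebra.leftMulMatrix_apply, Algebra.leftMulMatrix_apply,
    ← LinearMap.toMatrix_comp, ← LinearMap.toMatrix_comp]
  congr 1
  apply LinearMap.ext
  intro y
  simp only [LinearMap.comp_apply, AlgEquiv.toLinearMap_apply, Algebra.coe_lmul_eq_mul,
    LinearMap.mul_apply', FiniteField.Extension.frob_apply, Nat.card_eq_fintype_card]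
  rw [mul_pow]

/-- elements of the non-split torus -/
noncomputable def torusElt (x : FiniteField.Extension F p 2)
    (hx : x ^ (Fintype.card F + 1) = 1) : SpecialLinearGroup (Fin 2) F :=
  ⟨psi F p x, det_psi_eq_one F p hx⟩

theorem coe_torusElt (x : FiniteField.Extension F p 2)
    (hx : x ^ (Fintype.card F + 1) = 1) :
    (torusElt F p x hx : Matrix (Fin 2) (Fin 2) F) = psi F p x := rfl

theorem torusElt_pow_eq_one_iff (x : FiniteField.Extension F p 2)
    (hx : x ^ (Fintype.card F + 1) = 1) (k : ℕ) :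
    torusElt F p x hx ^ k = 1 ↔ x ^ k = 1 := by
  constructor
  · intro h
    apply psi_injective F p
    have := sl_coe_eq h
    rw [Matrix.SpecialLinearGroup.coe_pow, coe_torusElt, Matrix.SpecialLinearGroup.coe_one] at this
    rw [map_pow, map_one]
    exact this
  · intro h
    apply sl_ext
    rw [Matrix.SpecialLinearGroup.coe_pow, coe_torusElt, Matrix.SpecialLinearGroup.coe_one, ← map_pow, h,
      map_one]

theorem torusElt_mul (x y : FiniteField.Extension F p 2)
    (hx : x ^ (Fintype.card F + 1) = 1) (hy : y ^ (Fintype.card F + 1) = 1)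
    (hxy : (x * y) ^ (Fintype.card F + 1) = 1) :
    torusElt F p x hx * torusElt F p y hy = torusElt F p (x * y) hxy := by
  apply sl_ext
  rw [Matrix.SpecialLinearGroup.coe_mul, coe_torusElt, coe_torusElt, coe_torusElt, map_mul]

/-- a generator of the multiplicative group of the quadratic extension -/
theorem exists_gen : ∃ ζ : (FiniteField.Extension F p 2)ˣ,
    orderOf ζ = Fintype.card F ^ 2 - 1 := by
  obtain ⟨ζ, hζ⟩ := IsCyclic.exists_generator (α := (FiniteField.Extension F p 2)ˣ)
  refine ⟨ζ, ?_⟩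
  rw [orderOf_eq_card_of_forall_mem_zpowers hζ, Nat.card_units, natCard_K]

theorem sq_sub_one (q : ℕ) (hq : 1 ≤ q) : q ^ 2 - 1 = (q - 1) * (q + 1) := by
  obtain ⟨k, rfl⟩ : ∃ k, q = k + 1 := ⟨q - 1, by omega⟩
  have : (k + 1) ^ 2 = k * (k + 1 + 1) + 1 := by ring
  rw [this]
  simp

/-- elements of the quadratic extension of prescribed order dividing `q + 1` -/
theorem exists_unit_orderOf {n : ℕ} (hn : n ∣ Fintype.card F + 1) :
    ∃ η : (FiniteField.Extension F p 2)ˣ, orderOf η = n ∧ η ^ (Fintype.card F + 1) = 1 := by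
  obtain ⟨ζ, hζ⟩ := exists_gen F p
  have hq : 2 ≤ Fintype.card F := Fintype.one_lt_card
  obtain ⟨m, hm⟩ := hn
  have hm0 : m ≠ 0 := by
    rintro rfl
    omega
  have hfac : Fintype.card F ^ 2 - 1 = n * ((Fintype.card F - 1) * m) := by
    rw [sq_sub_one _ (by omega), hm]
    ring
  refine ⟨ζ ^ ((Fintype.card F - 1) * m), ?_, ?_⟩
  · rw [orderOf_pow_of_dvd, hζ, hfac, Nat.mul_div_cancel]
    · apply Nat.pos_of_ne_zero
      apply mul_ne_zero (by omega) hm0
    · apply mul_ne_zero (by omega) hm0
    · rw [hζ, hfac]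
      exact dvd_mul_left _ _
  · rw [← pow_mul, hm]
    have : (Fintype.card F - 1) * m * (n * m) = (Fintype.card F ^ 2 - 1) * m := by
      rw [hfac]; ring
    rw [this, pow_mul, ← hζ, pow_orderOf_eq_one, one_pow]

end nonsplit

/-- Non-split torus: elements of every order dividing `q + 1`. -/
theorem exists_orderOf_eq_of_dvd_add_one {n : ℕ} (hn : n ∣ Fintype.card F + 1) :
    ∃ g : SpecialLinearGroup (Fin 2) F, orderOf g = n := by
  obtain ⟨p, hp⟩ := CharP.exists F
  have : Fact p.Prime := ⟨CharP.char_is_prime F p⟩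
  obtain ⟨η, hη, hη1⟩ := exists_unit_orderOf F p hn
  have hη1' : (η : FiniteField.Extension F p 2) ^ (Fintype.card F + 1) = 1 := by
    rw [← Units.val_pow_eq_pow_val, hη1, Units.val_one]
  refine ⟨torusElt F p η hη1', ?_⟩
  rw [← hη]
  rw [orderOf_eq_orderOf_iff]
  intro k
  rw [torusElt_pow_eq_one_iff, ← Units.val_pow_eq_pow_val, Units.val_eq_one]

/-! ### the split torus -/

/-- diagonal elements -/
def diagElt (u : Fˣ) : SpecialLinearGroup (Fin 2) F :=
  ⟨!![(u : F), 0; 0, ((u⁻¹ : Fˣ) : F)], by simp [det_fin_two_of]⟩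

omit [Fintype F] in
theorem coe_diagElt (u : Fˣ) :
    (diagElt u : Matrix (Fin 2) (Fin 2) F) = !![(u : F), 0; 0, ((u⁻¹ : Fˣ) : F)] := rfl

/-- the split torus as a homomorphism -/
def diagHom : Fˣ →* SpecialLinearGroup (Fin 2) F where
  toFun := diagElt
  map_one' := by
    apply sl_ext
    rw [coe_diagElt, Matrix.SpecialLinearGroup.coe_one]
    ext i j
    fin_cases i <;> fin_cases j <;> simp
  map_mul' u v := by
    apply sl_ext
    rw [Matrix.SpecialLinearGroup.coe_mul, coe_diagElt, coe_diagElt, coe_diagElt]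
    ext i j
    fin_cases i <;> fin_cases j <;> simp [Matrix.mul_apply, Fin.sum_univ_two, mul_comm]

omit [Fintype F] in
theorem coe_diagHom (u : Fˣ) :
    (diagHom u : Matrix (Fin 2) (Fin 2) F) = !![(u : F), 0; 0, ((u⁻¹ : Fˣ) : F)] := rfl

omit [Fintype F] in
theorem diagHom_injective : Function.Injective (diagHom (F := F)) := by
  intro u v h
  have := sl_coe_eq h
  rw [coe_diagHom, coe_diagHom] at this
  have h00 := congrFun (congrFun this 0) 0
  simp at h00
  exact Units.ext h00

theorem exists_unit_orderOf_split {n : ℕ} (hn : n ∣ Fintype.card F - 1) :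
    ∃ η : Fˣ, orderOf η = n := by
  obtain ⟨ζ, hζ⟩ := IsCyclic.exists_generator (α := Fˣ)
  have hζord : orderOf ζ = Fintype.card F - 1 := by
    rw [orderOf_eq_card_of_forall_mem_zpowers hζ, Nat.card_units, Nat.card_eq_fintype_card]
  have hq : 2 ≤ Fintype.card F := Fintype.one_lt_card
  obtain ⟨m, hm⟩ := hn
  have hm0 : m ≠ 0 := by
    rintro rfl
    omega
  refine ⟨ζ ^ m, ?_⟩
  rw [orderOf_pow_of_dvd hm0, hζord, hm, Nat.mul_div_cancel _ (Nat.pos_of_ne_zero hm0)]
  rw [hζord, hm]
  exact dvd_mul_left _ _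

/-- Split torus: elements of every order dividing `q - 1`. -/
theorem exists_orderOf_eq_of_dvd_sub_one {n : ℕ} (hn : n ∣ Fintype.card F - 1) :
    ∃ g : SpecialLinearGroup (Fin 2) F, orderOf g = n := by
  obtain ⟨η, hη⟩ := exists_unit_orderOf_split hn
  exact ⟨diagHom η, by rw [orderOf_injective diagHom diagHom_injective, hη]⟩

/-! ### quaternion pairs -/

omit [Fintype F] in
/-- an element of order `2n` in the units of a field has `n`-th power `-1` -/
theorem pow_half_eq_neg_one {K : Type*} [Field K] {n : ℕ} (hn : 0 < n) (η : Kˣ)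
    (hη : orderOf η = 2 * n) : ((η ^ n : Kˣ) : K) = -1 := by
  have h1 : ((η ^ n : Kˣ) : K) * ((η ^ n : Kˣ) : K) = 1 := by
    rw [← Units.val_mul, ← pow_add, ← two_mul, ← hη, pow_orderOf_eq_one, Units.val_one]
  rcases mul_self_eq_one_iff.mp h1 with h | h
  · exfalso
    have : η ^ n = 1 := Units.ext h
    have := orderOf_dvd_of_pow_eq_one this
    rw [hη] at this
    have := Nat.le_of_dvd hn this
    omega
  · exact h

/-- the Weyl element -/
def weylElt : SpecialLinearGroup (Fin 2) F :=
  ⟨!![0, 1; -1, 0], by simp [det_fin_two_of]⟩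

omit [Fintype F] in
theorem coe_weylElt : (weylElt (F := F) : Matrix (Fin 2) (Fin 2) F) = !![0, 1; -1, 0] := rfl

theorem exists_quaternion_pair_split {n : ℕ} (hn0 : 0 < n)
    (hn : 2 * n ∣ Fintype.card F - 1) :
    ∃ x y : SpecialLinearGroup (Fin 2) F, orderOf x = 2 * n ∧ y ^ 2 = x ^ n ∧
      y * x * y⁻¹ = x⁻¹ := by
  obtain ⟨η, hη⟩ := exists_unit_orderOf_split hn
  have hηn := pow_half_eq_neg_one hn0 η hη
  refine ⟨diagHom η, weylElt, ?_, ?_, ?_⟩
  · rw [orderOf_injective diagHom diagHom_injective, hη]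
  · rw [← map_pow]
    apply sl_ext
    rw [pow_two, Matrix.SpecialLinearGroup.coe_mul, coe_weylElt, coe_diagHom, hηn]
    have : (((η ^ n)⁻¹ : Fˣ) : F) = -1 := by
      rw [Units.val_inv_eq_inv_val, hηn, inv_neg, inv_one]
    rw [this]
    ext i j
    fin_cases i <;> fin_cases j <;> simp [Matrix.mul_apply, Fin.sum_univ_two]
  · rw [mul_inv_eq_iff_eq_mul, ← map_inv]
    apply sl_ext
    rw [Matrix.SpecialLinearGroup.coe_mul, Matrix.SpecialLinearGroup.coe_mul, coe_weylElt,
      coe_diagHom, coe_diagHom, inv_inv]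
    ext i j
    fin_cases i <;> fin_cases j <;> simp [Matrix.mul_apply, Fin.sum_univ_two]

omit [Fintype F] in
theorem fin_two_mul_self (S : Matrix (Fin 2) (Fin 2) F) :
    S * S = S.trace • S - S.det • (1 : Matrix (Fin 2) (Fin 2) F) := by
  ext i j
  fin_cases i <;> fin_cases j <;>
    simp [Matrix.mul_apply, Fin.sum_univ_two, Matrix.trace_fin_two, Matrix.det_fin_two] <;> ring

section nonsplit2

variable (F) (p : ℕ) [Fact p.Prime] [CharP F p]

theorem frobMat_ne_smul_one (c : F) :
    frobMat F p ≠ c • (1 : Matrix (Fin 2) (Fin 2) F) := by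
  intro h
  have hS := frobMat_mul_self F p
  have hq : 2 ≤ Fintype.card F := Fintype.one_lt_card
  have hc : c ≠ 0 := by
    rintro rfl
    rw [h, zero_smul, zero_mul] at hS
    exact zero_ne_one hS
  obtain ⟨ζ, hζ⟩ := exists_gen F p
  have h1 := frobMat_mul_psi F p (ζ : FiniteField.Extension F p 2)
  rw [h, smul_mul_assoc, one_mul, mul_smul_comm, mul_one] at h1
  have h2 : psi F p ζ = psi F p ((ζ : FiniteField.Extension F p 2) ^ Fintype.card F) :=
    smul_right_injective _ hc h1
  have h3 := psi_injective F p h2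
  have h4 : ζ ^ (Fintype.card F - 1) = 1 := by
    apply Units.ext
    rw [Units.val_pow_eq_pow_val, Units.val_one]
    have : (ζ : FiniteField.Extension F p 2) * (ζ : FiniteField.Extension F p 2) ^
        (Fintype.card F - 1) = (ζ : FiniteField.Extension F p 2) * 1 := by
      rw [← pow_succ', Nat.sub_add_cancel (by omega), mul_one]
      exact h3.symm
    exact mul_left_cancel₀ ζ.ne_zero this
  have h5 := orderOf_dvd_of_pow_eq_one h4
  rw [hζ, sq_sub_one _ (by omega)] at h5
  have h6 := Nat.le_of_dvd (by omega) h5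
  obtain ⟨k, hk⟩ : ∃ k, Fintype.card F = k + 2 := ⟨Fintype.card F - 2, by omega⟩
  rw [hk] at h6
  have e2 : k + 2 - 1 = k + 1 := by omega
  rw [e2] at h6
  nlinarith

theorem det_frobMat (h2 : (2 : F) ≠ 0) : det (frobMat F p) = -1 := by
  have hS := frobMat_mul_self F p
  have hd : det (frobMat F p) * det (frobMat F p) = 1 := by
    rw [← det_mul, hS, det_one]
  rcases mul_self_eq_one_iff.mp hd with h | h
  · exfalso
    have hsq := fin_two_mul_self (frobMat F p)
    rw [hS, h, one_smul] at hsq
    have htS : (frobMat F p).trace • frobMat F p = (2 : F) • (1 : Matrix (Fin 2) (Fin 2) F) := by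
      rw [two_smul]
      exact (eq_sub_iff_add_eq.mp hsq).symm
    have ht0 : (frobMat F p).trace ≠ 0 := by
      intro h0
      rw [h0, zero_smul] at htS
      have := congrFun (congrFun htS 0) 0
      simp at this
      exact h2 this.symm
    apply frobMat_ne_smul_one F p ((frobMat F p).trace⁻¹ * 2)
    have := congrArg (fun M => ((frobMat F p).trace)⁻¹ • M) htS
    simpa only [smul_smul, inv_mul_cancel₀ ht0, one_smul] using this
  · exact h

/-- Frobenius twisted by a multiplication -/
noncomputable def frobElt (θ : FiniteField.Extension F p 2)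
    (h : det (frobMat F p * psi F p θ) = 1) : SpecialLinearGroup (Fin 2) F :=
  ⟨frobMat F p * psi F p θ, h⟩

theorem coe_frobElt (θ : FiniteField.Extension F p 2)
    (h : det (frobMat F p * psi F p θ) = 1) :
    (frobElt F p θ h : Matrix (Fin 2) (Fin 2) F) = frobMat F p * psi F p θ := rfl

end nonsplit2

theorem exists_quaternion_pair_nonsplit (h2 : (2 : F) ≠ 0) {n : ℕ} (hn0 : 0 < n)
    (hn : 2 * n ∣ Fintype.card F + 1) :
    ∃ x y : SpecialLinearGroup (Fin 2) F, orderOf x = 2 * n ∧ y ^ 2 = x ^ n ∧
      y * x * y⁻¹ = x⁻¹ := by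
  obtain ⟨p, hp⟩ := CharP.exists F
  have : Fact p.Prime := ⟨CharP.char_is_prime F p⟩
  obtain ⟨η, hη, hη1⟩ := exists_unit_orderOf F p hn
  have hη1' : (η : FiniteField.Extension F p 2) ^ (Fintype.card F + 1) = 1 := by
    rw [← Units.val_pow_eq_pow_val, hη1, Units.val_one]
  have hηn := pow_half_eq_neg_one hn0 η hη
  obtain ⟨θ, hθ⟩ := FiniteField.norm_surjective F (FiniteField.Extension F p 2) (-1 : F)
  have hdetθ : det (psi F p θ) = -1 := by
    rw [psi, ← Algebra.norm_eq_matrix_det]
    exact hθ
  have hθq : θ ^ (Fintype.card F + 1) = -1 := by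
    rw [← det_psi, hdetθ, map_neg, map_one]
  have hx : orderOf (torusElt F p η hη1') = 2 * n := by
    rw [← hη, orderOf_eq_orderOf_iff]
    intro k
    rw [torusElt_pow_eq_one_iff, ← Units.val_pow_eq_pow_val, Units.val_eq_one]
  have hdety : det (frobMat F p * psi F p θ) = 1 := by
    rw [det_mul, det_frobMat F p h2, hdetθ]
    ring
  refine ⟨torusElt F p η hη1', frobElt F p θ hdety, hx, ?_, ?_⟩
  · apply sl_ext
    rw [Matrix.SpecialLinearGroup.coe_pow, Matrix.SpecialLinearGroup.coe_pow, coe_torusElt,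
      ← map_pow, ← Units.val_pow_eq_pow_val, hηn, coe_frobElt]
    have e2 : frobMat F p * psi F p θ * (frobMat F p * psi F p θ) =
        psi F p (θ ^ Fintype.card F) * frobMat F p * (frobMat F p * psi F p θ) :=
      congrArg (· * (frobMat F p * psi F p θ)) (frobMat_mul_psi F p θ)
    rw [pow_two, e2, mul_assoc, ← mul_assoc (frobMat F p), frobMat_mul_self,
      one_mul, ← map_mul, ← pow_succ, hθq]
  · have hηq : ((η : FiniteField.Extension F p 2) ^ Fintype.card F) ^ (Fintype.card F + 1)
        = 1 := by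
      rw [← pow_mul, mul_comm, pow_mul, hη1', one_pow]
    have hinv : (torusElt F p η hη1')⁻¹ = torusElt F p _ hηq := by
      apply inv_eq_of_mul_eq_one_right
      rw [torusElt_mul F p _ _ hη1' hηq (by rw [← pow_succ', hη1', one_pow])]
      apply sl_ext
      rw [coe_torusElt, Matrix.SpecialLinearGroup.coe_one, ← pow_succ', hη1', map_one]
    rw [mul_inv_eq_iff_eq_mul, hinv]
    apply sl_ext
    rw [Matrix.SpecialLinearGroup.coe_mul, Matrix.SpecialLinearGroup.coe_mul, coe_torusElt,
      coe_torusElt, coe_frobElt]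
    rw [mul_assoc, ← map_mul, mul_comm θ, map_mul, ← mul_assoc, frobMat_mul_psi, mul_assoc]

end Cfsg.Agent.helper11.Torus
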