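import Mathlib

set_option autoImplicit false

namespace Cfsg.Agent.helper12

open Matrix

theorem card_class_mul_card_centralizer {G : Type*} [Group G] [Finite G] (g : G) :
    Nat.card (ConjClasses.mk g).carrier * Nat.card (Subgroup.centralizer ({g} : Set G)) = Nat.card G := by
  have h1 : Nat.card (ConjClasses.mk g).carrier = (MulAction.stabilizer (ConjAct G) g).index := by
    rw [MulAction.index_stabilizer, ConjAct.orbit_eq_carrier_conjClasses, Nat.card_coe_set_eq]
  have h2 : Nat.card (Subgroup.centralizer ({g} : Set G)) = Nat.card (MulAction.stabilizer (ConjAct G) g) := by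
    rw [Subgroup.centralizer_eq_comap_stabilizer]
    refine Nat.card_congr ⟨fun x => ⟨ConjAct.toConjAct x.1, x.2⟩, fun y => ⟨ConjAct.ofConjAct y.1, ?_⟩, fun x => rfl, fun y => rfl⟩
    exact y.2
  rw [h1, h2, mul_comm, Subgroup.card_mul_index]
  rfl

theorem card_GL_eq_card_SL_mul {F : Type*} [Field F] [Fintype F] (n : ℕ) (hn : 1 ≤ n) :
    Nat.card (GL (Fin n) F) = Nat.card (Matrix.SpecialLinearGroup (Fin n) F) * (Fintype.card F - 1) := by
  classical
  let f : GL (Fin n) F →* Fˣ := Matrix.GeneralLinearGroup.det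
  have hsurj : Function.Surjective f := by
    intro a
    obtain ⟨m, rfl⟩ : ∃ m, n = m + 1 := ⟨n - 1, by omega⟩
    refine ⟨Matrix.GeneralLinearGroup.mkOfDetNeZero (Matrix.diagonal (fun i : Fin (m + 1) => if i = 0 then (a : F) else 1)) ?_, ?_⟩
    · rw [Matrix.det_diagonal, Fin.prod_univ_succ]
      simp [Fin.succ_ne_zero]
    · apply Units.ext
      simp only [f, Matrix.GeneralLinearGroup.val_det_apply, Matrix.GeneralLinearGroup.mkOfDetNeZero]
      change (Matrix.diagonal (fun i : Fin (m + 1) => if i = 0 then (a : F) else 1)).det = a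
      rw [Matrix.det_diagonal, Fin.prod_univ_succ]
      simp [Fin.succ_ne_zero]
  have hker : Nat.card f.ker = Nat.card (Matrix.SpecialLinearGroup (Fin n) F) := by
    symm
    refine Nat.card_congr (Equiv.ofBijective (fun x => ⟨Matrix.SpecialLinearGroup.toGL x, ?_⟩) ⟨?_, ?_⟩)
    · rw [MonoidHom.mem_ker]
      apply Units.ext
      simp [f]
    · intro x y hxy
      have := congrArg (fun z : f.ker => ((z : GL (Fin n) F) : Matrix (Fin n) (Fin n) F)) hxy
      exact Subtype.ext this
    · rintro ⟨y, hy⟩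
      rw [MonoidHom.mem_ker] at hy
      have hy' : (y : Matrix (Fin n) (Fin n) F).det = 1 := by
        have := congrArg Units.val hy
        simpa [f] using this
      refine ⟨⟨(y : Matrix (Fin n) (Fin n) F), hy'⟩, ?_⟩
      apply Subtype.ext
      apply Units.ext
      rfl
  have h1 := Subgroup.card_mul_index f.ker
  rw [Subgroup.index_ker, MonoidHom.range_eq_top.mpr hsurj, Subgroup.card_top, hker, Nat.card_units,
    Nat.card_eq_fintype_card (α := F)] at h1
  exact h1.symm

theorem card_SL2 {F : Type*} [Field F] [Fintype F] :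
    Nat.card (Matrix.SpecialLinearGroup (Fin 2) F) = Fintype.card F * (Fintype.card F ^ 2 - 1) := by
  have h1 := card_GL_eq_card_SL_mul (F := F) 2 (by norm_num)
  rw [Matrix.card_GL_field, Fin.prod_univ_two] at h1
  simp at h1
  have hq : 2 ≤ Fintype.card F := Fintype.one_lt_card
  obtain ⟨k, hk⟩ : ∃ k, Fintype.card F = k + 2 := ⟨Fintype.card F - 2, by omega⟩
  rw [hk] at h1 ⊢
  have e1 : (k + 2) ^ 2 - (k + 2) = (k + 2) * (k + 1) := by
    have : (k + 2) ^ 2 = (k + 2) * (k + 1) + (k + 2) := by ring
    omega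
  have e2 : k + 2 - 1 = k + 1 := by omega
  rw [e1, e2] at h1
  have h3 : ((k + 2) ^ 2 - 1) * (k + 2) * (k + 1) = Nat.card (Matrix.SpecialLinearGroup (Fin 2) F) * (k + 1) := by
    rw [← h1]; ring
  have := Nat.eq_of_mul_eq_mul_right (by omega : 0 < k + 1) h3
  rw [← this]; ring

end Cfsg.Agent.helper12
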