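import Cfsg.Statements.S0254
import Cfsg.Agent.Lib_helper11_A5inPSL2
import Cfsg.Agent.Lib_helper11_Torus
import Cfsg.Agent.Lib_helper12_Card
import Cfsg.Agent.Lib_helper2_Classical

set_option autoImplicit false
open Cfsg

namespace Cfsg.Agent.S0254

open Matrix

/-- A finite simple group of order `n!/2` with a subgroup of index `n` is `A_n` (for `n!/2 > 2`). -/
theorem alt_of_index {G : Type*} [Group G] [Finite G] [IsSimpleGroup G] (n : ℕ)
    (hcard : Nat.card G = Nat.card (alternatingGroup (Fin n))) (h2 : 2 < Nat.card G)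
    (H : Subgroup G) (hH : H.index = n) (hHtop : H ≠ ⊤) :
    Nonempty (G ≃* alternatingGroup (Fin n)) := by
  classical
  have hn0 : n ≠ 0 := by
    rintro rfl
    exact Subgroup.index_ne_zero_of_finite hH
  let θ := MulAction.toPermHom G (G ⧸ H)
  have hθker : θ.ker = ⊥ := by
    rcases θ.normal_ker.eq_bot_or_eq_top with h | h
    · exact h
    · exfalso
      apply hHtop
      rw [eq_top_iff, ← h, ← Subgroup.normalCore_eq_ker]
      exact Subgroup.normalCore_le H
  have hθinj : Function.Injective θ := (MonoidHom.ker_eq_bot_iff θ).mp hθker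
  have hcardq : Nat.card (G ⧸ H) = n := by rw [← Subgroup.index_eq_card, hH]
  have : Finite (G ⧸ H) := Nat.finite_of_card_ne_zero (by rw [hcardq]; exact hn0)
  let e6 : (G ⧸ H) ≃ Fin n := Finite.equivFinOfCardEq hcardq
  let θ' : G →* Equiv.Perm (Fin n) := (e6.permCongrHom.toMonoidHom).comp θ
  have hθ'inj : Function.Injective θ' := by
    intro a b hab
    apply hθinj
    exact e6.permCongrHom.injective hab
  let s : G →* ℤˣ := Equiv.Perm.sign.comp θ'
  have hsker : s.ker = ⊤ := by
    rcases s.normal_ker.eq_bot_or_eq_top with h | h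
    · exfalso
      have hsinj : Function.Injective s := (MonoidHom.ker_eq_bot_iff s).mp h
      have := Nat.card_le_card_of_injective s hsinj
      rw [Nat.card_eq_fintype_card (α := ℤˣ), Fintype.card_units_int] at this
      omega
    · exact h
  have hmem : ∀ g : G, θ' g ∈ alternatingGroup (Fin n) := by
    intro g
    rw [Equiv.Perm.mem_alternatingGroup]
    have : g ∈ s.ker := by rw [hsker]; trivial
    exact this
  let θ'' : G →* alternatingGroup (Fin n) := θ'.codRestrict _ hmem
  have hθ''inj : Function.Injective θ'' := by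
    intro a b hab
    apply hθ'inj
    exact congrArg Subtype.val hab
  have hbij : Function.Bijective θ'' :=
    (Nat.bijective_iff_injective_and_card θ'').mpr ⟨hθ''inj, hcard⟩
  exact ⟨MulEquiv.ofBijective θ'' hbij⟩

/-- PSL_2(9) is isomorphic to A_6. -/
theorem result {F : Type*} [Field F] [Fintype F] (hF : Fintype.card F = 9) : Nonempty (Matrix.ProjectiveSpecialLinearGroup (Fin 2) F ≃* alternatingGroup (Fin 6)) := by
  classical
  have h3 : (3 : F) = 0 := by
    have := Nat.cast_card_eq_zero F
    rw [hF] at this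
    have h9 : (3 : F) * 3 = 0 := by
      have e : ((9 : ℕ) : F) = 3 * 3 := by norm_num
      rw [← e]; exact this
    rcases mul_eq_zero.mp h9 with h | h <;> exact h
  -- a square root of -1
  obtain ⟨i, hi⟩ : ∃ i : F, i ^ 2 = -1 := by
    obtain ⟨ζ, hζ⟩ := IsCyclic.exists_generator (α := Fˣ)
    have hζord : orderOf ζ = 2 * 4 := by
      rw [orderOf_eq_card_of_forall_mem_zpowers hζ, Nat.card_units, Nat.card_eq_fintype_card, hF]
    have := Cfsg.Agent.helper11.Torus.pow_half_eq_neg_one (by norm_num) ζ hζord
    refine ⟨((ζ ^ 2 : Fˣ) : F), ?_⟩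
    rw [← Units.val_pow_eq_pow_val, ← pow_mul]
    exact this
  have hτ : (1 + i) ^ 2 + (1 + i) - 1 = 0 := by
    linear_combination hi + i * h3
  obtain ⟨ψ, hψ⟩ := Cfsg.Agent.helper11.A5inPSL2.exists_injective_of_i_tau i (1 + i) hi hτ
  have hcardA5 : Nat.card (alternatingGroup (Fin 5)) = 60 := by
    rw [nat_card_alternatingGroup, Nat.card_eq_fintype_card, Fintype.card_fin]
    rfl
  have hcardA6 : Nat.card (alternatingGroup (Fin 6)) = 360 := by
    rw [nat_card_alternatingGroup, Nat.card_eq_fintype_card, Fintype.card_fin]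
    rfl
  have hcardP : Nat.card (Matrix.ProjectiveSpecialLinearGroup (Fin 2) F) = 360 := by
    have h1 := Cfsg.Agent.helper2.card_SL_eq_card_PSL_mul (F := F) 2
    rw [Cfsg.Agent.helper12.card_SL2, Cfsg.Agent.helper2.card_center_SL 2 (by norm_num), hF] at h1
    have : Nat.gcd (9 - 1) 2 = 2 := by decide
    rw [this] at h1
    omega
  have : IsSimpleGroup (Matrix.ProjectiveSpecialLinearGroup (Fin 2) F) :=
    Matrix.ProjectiveSpecialLinearGroup.rank_two_simple
      (by rw [Nat.card_eq_fintype_card, hF]; norm_num)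
  have hHcard : Nat.card ψ.range = 60 := by
    rw [← hcardA5]
    exact (Nat.card_congr (MonoidHom.ofInjective hψ).toEquiv).symm
  have hindex : ψ.range.index = 6 := by
    have := Subgroup.card_mul_index ψ.range
    rw [hHcard, hcardP] at this
    omega
  have hne : ψ.range ≠ ⊤ := by
    intro h
    rw [h, Subgroup.index_top] at hindex
    omega
  exact alt_of_index 6 (by rw [hcardP, hcardA6]) (by rw [hcardP]; norm_num) ψ.range hindex hne

end Cfsg.Agent.S0254
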