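import Mathlib
import Cfsg.Statements.S0494
import Cfsg.Agent.S0254

set_option autoImplicit false
open Cfsg

namespace Cfsg.Agent.S0494

/-- In a finite simple group, the order divides `k!` for every proper subgroup of index `k`. -/
theorem card_dvd_factorial_index {G : Type*} [Group G] [Finite G] [IsSimpleGroup G]
    (H : Subgroup G) (hH : H ≠ ⊤) : Nat.card G ∣ (H.index).factorial := by
  classical
  let θ := MulAction.toPermHom G (G ⧸ H)
  have hker : θ.ker = ⊥ := by
    rcases θ.normal_ker.eq_bot_or_eq_top with h | h
    · exact h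
    · exfalso
      apply hH
      rw [eq_top_iff, ← h, ← Subgroup.normalCore_eq_ker]
      exact Subgroup.normalCore_le H
  have hinj : Function.Injective θ := (MonoidHom.ker_eq_bot_iff θ).mp hker
  have h1 := Subgroup.card_dvd_of_injective θ hinj
  haveI : Fintype (G ⧸ H) := Fintype.ofFinite _
  rw [Nat.card_eq_fintype_card (α := Equiv.Perm (G ⧸ H)), Fintype.card_perm,
    ← Nat.card_eq_fintype_card, ← Subgroup.index_eq_card] at h1
  exact h1

/-- Burnside's transfer theorem for simple groups: a nontrivial proper Sylow subgroup is not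
central in its normalizer. -/
theorem not_normalizer_le_centralizer {G : Type*} [Group G] [Finite G] [IsSimpleGroup G]
    {p : ℕ} [Fact p.Prime] (P : Sylow p G)
    (hP1 : (P : Subgroup G) ≠ ⊥) (hP2 : (P : Subgroup G) ≠ ⊤) :
    ¬ Subgroup.normalizer ((P : Subgroup G) : Set G) ≤
      Subgroup.centralizer ((P : Subgroup G) : Set G) := by
  intro hNC
  have hcompl := MonoidHom.ker_transferSylow_isComplement' P hNC
  have hnormal : (MonoidHom.transferSylow P hNC).ker.Normal := MonoidHom.normal_ker _
  rcases hnormal.eq_bot_or_eq_top with h | h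
  · rw [h] at hcompl
    exact hP2 (Subgroup.isComplement'_bot_left.mp hcompl)
  · rw [h] at hcompl
    exact hP1 (Subgroup.isComplement'_top_left.mp hcompl)

/-- A simple group of order 60 is isomorphic to the alternating group of degree 5. -/
theorem result {G : Type*} [Group G] [Finite G] [IsSimpleGroup G]
    (h : Nat.card G = 60) : Nonempty (G ≃* alternatingGroup (Fin 5)) := by
  classical
  haveI : Fact (Nat.Prime 2) := ⟨Nat.prime_two⟩
  obtain ⟨P⟩ : Nonempty (Sylow 2 G) := inferInstance
  have hPcard : Nat.card P = 2 ^ 2 := by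
    rw [P.card_eq_multiplicity, h]
    have : (60 : ℕ).factorization 2 = 2 := by
      have e : (60 : ℕ) = 2 ^ 2 * 15 := by norm_num
      rw [e, Nat.factorization_mul (by norm_num) (by norm_num), Nat.Prime.factorization_pow Nat.prime_two]
      simp [Nat.factorization_eq_zero_of_not_dvd (show ¬ 2 ∣ 15 by norm_num)]
    rw [this]
  have hP1 : (P : Subgroup G) ≠ ⊥ := by
    intro hb
    have : Nat.card (P : Subgroup G) = 1 := by rw [hb]; exact Subgroup.card_bot
    rw [hPcard] at this
    norm_num at this
  have hP2 : (P : Subgroup G) ≠ ⊤ := by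
    intro ht
    have : Nat.card (P : Subgroup G) = Nat.card G := by rw [ht]; exact Subgroup.card_top
    rw [hPcard, h] at this
    norm_num at this
  set N := Subgroup.normalizer ((P : Subgroup G) : Set G) with hN
  have hPN : (P : Subgroup G) ≤ N := Subgroup.le_normalizer
  have hNtop : N ≠ ⊤ := by
    intro ht
    have hn : (P : Subgroup G).Normal := Subgroup.normalizer_eq_top_iff.mp ht
    rcases hn.eq_bot_or_eq_top with h' | h'
    · exact hP1 h'
    · exact hP2 h'
  have hdiv := card_dvd_factorial_index N hNtop
  have hNC := not_normalizer_le_centralizer P hP1 hP2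
  -- P is abelian
  have hPcomm : ∀ a ∈ (P : Subgroup G), ∀ b ∈ (P : Subgroup G), a * b = b * a := by
    intro a ha b hb
    have hc := IsPGroup.commutative_of_card_eq_prime_sq (p := 2) (G := (P : Subgroup G)) hPcard
    have := hc ⟨a, ha⟩ ⟨b, hb⟩
    exact congrArg Subtype.val this
  have hNneP : N ≠ (P : Subgroup G) := by
    intro hEq
    apply hNC
    rw [← hN, hEq]
    intro a ha
    rw [Subgroup.mem_centralizer_iff]
    intro b hb
    exact hPcomm b hb a ha
  -- numerics
  have h4dvd : 4 ∣ Nat.card N := by
    have := Subgroup.card_dvd_of_le hPN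
    rw [hPcard] at this
    exact this
  have hcm := N.card_mul_index
  rw [h] at hcm
  have hidx5 : N.index = 5 := by
    have hidxpos : N.index ≠ 0 := Subgroup.index_ne_zero_of_finite
    have hidxdvd : N.index ∣ 15 := by
      obtain ⟨k, hk⟩ := h4dvd
      rw [hk] at hcm
      have h4k : 4 * (k * N.index) = 4 * 15 := by rw [← mul_assoc]; exact hcm
      have : k * N.index = 15 := Nat.eq_of_mul_eq_mul_left (by norm_num) h4k
      exact Dvd.intro_left _ this
    have hle : N.index ≤ 15 := Nat.le_of_dvd (by norm_num) hidxdvd
    have hcardN4 : Nat.card N ≠ 4 := by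
      intro h4
      apply hNneP
      symm
      apply Subgroup.eq_of_le_of_card_ge hPN
      rw [h4, hPcard]
      norm_num
    rw [h] at hdiv
    interval_cases hi : N.index
    all_goals first
      | omega
      | (exfalso; revert hidxdvd; norm_num; done)
      | (exfalso; revert hdiv; norm_num [Nat.factorial]; done)
      | exact absurd (Subgroup.index_eq_one.mp hi) hNtop
  have hcardA : Nat.card (alternatingGroup (Fin 5)) = 60 := by
    rw [nat_card_alternatingGroup]
    simp [Nat.factorial]
  exact Cfsg.Agent.S0254.alt_of_index 5 (by rw [h, hcardA]) (by rw [h]; norm_num) N hidx5 hNtop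

end Cfsg.Agent.S0494
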