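import Cfsg.Agent.Lib_helper12_O60a
import Cfsg.Agent.Lib_helper12_PslGraphB
import Cfsg.Agent.Lib_helper12_McKay1
import Cfsg.Agent.S0252
import Cfsg.Agent.S0494

set_option autoImplicit false

universe u

namespace Cfsg.Agent.helper12

attribute [local instance] o60_prime5

theorem o60_key {G : Type u} [Group G] [Finite G] (h60 : Nat.card G = 60)
    (hn5 : Nat.card (Sylow 5 G) ≠ 1) (H' : Subgroup G) [H'.Normal] (h5 : 5 ∣ Nat.card H') :
    H' = ⊤ := by
  by_contra hne
  have hdvd : Nat.card H' ∣ 60 := h60 ▸ Subgroup.card_subgroup_dvd_card H'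
  have hne60 : Nat.card H' ≠ 60 :=
    fun h => hne ((Subgroup.card_eq_iff_eq_top H').mp (h.trans h60.symm))
  have hle := Nat.le_of_dvd (by norm_num) hdvd
  obtain ⟨k, hk⟩ := h5
  have hkpos : 0 < k := by have := Nat.card_pos (α := H'); omega
  have hk11 : k ≤ 11 := by omega
  have hidx : ¬ 5 ∣ H'.index := by
    have h1 := H'.card_mul_index
    rw [h60, hk] at h1
    rintro ⟨c, hc⟩
    rw [hc] at h1
    have : 25 * (k * c) = 60 := by rw [← h1]; ring
    omega
  have hu : Nat.card (Sylow 5 H') = 1 := by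
    rw [hk] at hdvd
    have hkc : k = 1 ∨ k = 2 ∨ k = 3 ∨ k = 4 ∨ k = 6 := by
      interval_cases k <;> omega
    rcases hkc with rfl | rfl | rfl | rfl | rfl
    · exact o60_sylow5_unique_small _ hk (by norm_num) (by norm_num)
    · exact o60_sylow5_unique_small _ hk (by norm_num) (by norm_num)
    · exact o60_sylow5_unique_small _ hk (by norm_num) (by norm_num)
    · exact o60_sylow5_unique_small _ hk (by norm_num) (by norm_num)
    · exact o60_sylow5_unique_30 (hk.trans (by norm_num))
  exact hn5 (o60_sylow_unique_of_normal 5 H' hidx hu)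

theorem o60_simple {G : Type u} [Group G] [Finite G] (h60 : Nat.card G = 60)
    (hn5 : Nat.card (Sylow 5 G) ≠ 1) : IsSimpleGroup G := by
  classical
  have hnt : Nontrivial G := by
    apply Finite.one_lt_card_iff_nontrivial.mp; rw [h60]; norm_num
  refine { toNontrivial := hnt, eq_bot_or_eq_top_of_normal := fun H hH => ?_ }
  by_contra hcon
  push Not at hcon
  obtain ⟨hbot, htop⟩ := hcon
  haveI := hH
  have h5 : ¬ 5 ∣ Nat.card H := fun h => htop (o60_key h60 hn5 H h)
  have hcm := H.card_mul_index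
  rw [h60] at hcm
  have hH1 : 1 < Nat.card H := (Subgroup.one_lt_card_iff_ne_bot (H := H)).mpr hbot
  have h5idx : 5 ∣ H.index := by
    have h1 : 5 ∣ Nat.card H * H.index := by rw [hcm]; norm_num
    exact ((Nat.Prime.dvd_mul (by norm_num)).mp h1).resolve_left h5
  obtain ⟨k, hk⟩ := h5idx
  have hquot : Nat.card (G ⧸ H) = 5 * k := by rw [← Subgroup.index_eq_card, hk]
  have hkpos : 0 < k := by
    rcases Nat.eq_zero_or_pos k with h | h
    · rw [h] at hk; rw [hk] at hcm; omega
    · exact h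
  have hk6 : k ≤ 6 := by
    rw [hk] at hcm; nlinarith
  have hu : Nat.card (Sylow 5 (G ⧸ H)) = 1 := by
    have hd : 5 * k ∣ 60 := by rw [← hk]; exact Dvd.intro_left _ hcm
    have hkc : k = 1 ∨ k = 2 ∨ k = 3 ∨ k = 4 ∨ k = 6 := by
      interval_cases k <;> omega
    rcases hkc with rfl | rfl | rfl | rfl | rfl
    · exact o60_sylow5_unique_small _ hquot (by norm_num) (by norm_num)
    · exact o60_sylow5_unique_small _ hquot (by norm_num) (by norm_num)
    · exact o60_sylow5_unique_small _ hquot (by norm_num) (by norm_num)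
    · exact o60_sylow5_unique_small _ hquot (by norm_num) (by norm_num)
    · exact o60_sylow5_unique_30 (hquot.trans (by norm_num))
  haveI : Subsingleton (Sylow 5 (G ⧸ H)) := (Nat.card_eq_one_iff_unique.mp hu).1
  obtain ⟨Pb⟩ : Nonempty (Sylow 5 (G ⧸ H)) := inferInstance
  have hPbn : (Pb : Subgroup (G ⧸ H)).Normal := Sylow.normal_of_subsingleton Pb
  have hk5 : ¬ 5 ∣ k := by
    rintro ⟨c, hc⟩
    rw [hk, hc] at hcm
    have : 25 * (Nat.card H * c) = 60 := by rw [← hcm]; ring
    omega
  have hPbcard : Nat.card Pb = 5 := (o60_sylow5_index k hquot hk5 Pb).1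
  obtain ⟨H₁, hH₁⟩ : ∃ H₁ : Subgroup G,
      H₁ = (Pb : Subgroup (G ⧸ H)).comap (QuotientGroup.mk' H) := ⟨_, rfl⟩
  haveI : H₁.Normal := by rw [hH₁]; exact Subgroup.Normal.comap hPbn _
  have hmap : H₁.map (QuotientGroup.mk' H) = Pb := by
    rw [hH₁]
    exact Subgroup.map_comap_eq_self_of_surjective (QuotientGroup.mk'_surjective H) _
  have h5H₁ : 5 ∣ Nat.card H₁ := by
    have := Subgroup.card_map_dvd H₁ (QuotientGroup.mk' H)
    rwa [hmap, hPbcard] at this
  have hH₁top := o60_key h60 hn5 H₁ h5H₁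
  have hPbtop : (Pb : Subgroup (G ⧸ H)) = ⊤ := by
    rw [← hmap, hH₁top, Subgroup.map_top_of_surjective _ (QuotientGroup.mk'_surjective H)]
  have hk1 : k = 1 := by
    have h1 : Nat.card (G ⧸ H) = 5 := by
      rw [← hPbcard, hPbtop, Subgroup.card_top]
    omega
  subst hk1
  have hHcard : Nat.card H = 12 := by rw [hk] at hcm; omega
  -- the case |H| = 12
  obtain ⟨Q⟩ : Nonempty (Sylow 3 H) := inferInstance
  have hQcard : Nat.card Q = 3 := by
    rw [Q.card_eq_multiplicity, hHcard]
    have := o60_fac 3 4 1 Nat.prime_three (by norm_num) (by norm_num)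
    rw [pow_one] at this
    have e : (12 : ℕ) = 3 * 4 := by norm_num
    rw [e, this, pow_one]
  obtain ⟨Q', hQ'⟩ : ∃ Q' : Subgroup G, Q' = (Q : Subgroup H).map H.subtype := ⟨_, rfl⟩
  have hQ'card : Nat.card Q' = 3 := by
    rw [hQ', Subgroup.card_map_of_injective H.subtype_injective, hQcard]
  have hfrat : Subgroup.normalizer (Q' : Set G) ⊔ H = ⊤ := by
    rw [hQ']; exact Sylow.normalizer_sup_eq_top Q
  obtain ⟨N, hN⟩ : ∃ N : Subgroup G, N = Subgroup.normalizer (Q' : Set G) := ⟨_, rfl⟩
  rw [← hN] at hfrat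
  have h5N : 5 ∣ Nat.card N := by
    have h1 : H.relIndex (N ⊔ H) = H.relIndex N := Subgroup.relIndex_sup_right N H
    rw [hfrat, Subgroup.relIndex_top_right, hk] at h1
    have h2 : H.relIndex N ∣ Nat.card N := Subgroup.index_dvd_card _
    rw [← h1] at h2
    simpa using h2
  obtain ⟨x, hx⟩ := exists_prime_orderOf_dvd_card' (G := N) 5 h5N
  have hxo : orderOf (x : G) = 5 := by rw [Subgroup.orderOf_coe]; exact hx
  obtain ⟨P, hP⟩ : ∃ P : Subgroup G, P = Subgroup.zpowers (x : G) := ⟨_, rfl⟩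
  have hPcard : Nat.card P = 5 := by rw [hP, Nat.card_zpowers, hxo]
  have hPsyl : Nat.card P = 5 ^ (Nat.card G).factorization 5 := by
    rw [hPcard, h60]
    have := o60_fac 5 12 1 (by norm_num) (by norm_num) (by norm_num)
    rw [pow_one] at this
    have e : (60 : ℕ) = 5 * 12 := by norm_num
    rw [e, this, pow_one]
  have hn5eq : Nat.card (Sylow 5 G) = (Subgroup.normalizer (P : Set G)).index :=
    (Sylow.ofCard P hPsyl).card_eq_index_normalizer
  have hn5val : Nat.card (Sylow 5 G) = 6 := by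
    have h1 : Nat.card (Sylow 5 G) % 5 = 1 % 5 := card_sylow_modEq_one 5 G
    have h2 := (Sylow.ofCard P hPsyl).card_dvd_index
    have h3 : ((Sylow.ofCard P hPsyl : Sylow 5 G) : Subgroup G).index = 12 :=
      (o60_sylow5_index 12 (by rw [h60]) (by norm_num) (Sylow.ofCard P hPsyl)).2
    rw [h3] at h2
    obtain ⟨n, hn⟩ : ∃ n, n = Nat.card (Sylow 5 G) := ⟨_, rfl⟩
    rw [← hn] at h1 h2 hn5 ⊢
    have h4 := Nat.le_of_dvd (by norm_num) h2
    interval_cases n <;> omega
  have hNPcard : Nat.card (Subgroup.normalizer (P : Set G)) = 10 := by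
    have := (Subgroup.normalizer (P : Set G)).card_mul_index
    rw [← hn5eq, hn5val, h60] at this; omega
  obtain ⟨a', ha'⟩ := exists_prime_orderOf_dvd_card' (G := Q') 3 (by rw [hQ'card])
  obtain ⟨a, haa⟩ : ∃ a : G, a = (a' : G) := ⟨_, rfl⟩
  have haQ : a ∈ Q' := haa ▸ a'.2
  have hao : orderOf a = 3 := by rw [haa, Subgroup.orderOf_coe]; exact ha'
  have hxN : (x : G) ∈ Subgroup.normalizer (Q' : Set G) := by rw [← hN]; exact x.2
  have hconj : (x : G) * a * (x : G)⁻¹ ∈ Q' := (Subgroup.mem_normalizer_iff.mp hxN a).mp haQ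
  have hQz : Q' = Subgroup.zpowers a := by
    symm
    apply Subgroup.eq_of_le_of_card_ge
    · rw [Subgroup.zpowers_le]; exact haQ
    · rw [Nat.card_zpowers, hao, hQ'card]
  rw [hQz, mem_zpowers_iff_mem_range_orderOf, hao] at hconj
  simp only [Finset.mem_image, Finset.mem_range] at hconj
  obtain ⟨i, hi3, hi⟩ := hconj
  have ha1 : a ≠ 1 := by
    intro h; rw [h, orderOf_one] at hao; omega
  have ha3 : a ^ 3 = 1 := by rw [← hao]; exact pow_orderOf_eq_one _
  have hx5 : (x : G) ^ 5 = 1 := by rw [← hxo]; exact pow_orderOf_eq_one _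
  have hcomm : (x : G) * a = a * x := by
    interval_cases i
    · exfalso
      rw [pow_zero] at hi
      have : a = 1 := by
        have e : a = (x : G)⁻¹ * ((x : G) * a * (x : G)⁻¹) * x := by group
        rw [e, ← hi]; group
      exact ha1 this
    · rw [pow_one] at hi
      calc (x : G) * a = ((x : G) * a * (x : G)⁻¹) * x := by group
        _ = a * x := by rw [← hi]
    · exfalso
      have hpow : ∀ n : ℕ, (x : G) ^ n * a * ((x : G) ^ n)⁻¹ = a ^ (2 ^ n) := by
        intro n
        induction n with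
        | zero => simp
        | succ n ih =>
          have e : (x : G) ^ (n + 1) * a * ((x : G) ^ (n + 1))⁻¹
              = (x : G) * ((x : G) ^ n * a * ((x : G) ^ n)⁻¹) * (x : G)⁻¹ := by
            rw [pow_succ']; group
          rw [e, ih, ← conj_pow, ← hi, ← pow_mul, pow_succ, mul_comm]
      have h5 := hpow 5
      rw [hx5, one_mul, inv_one, mul_one] at h5
      have e32 : a ^ (2 ^ 5) = a ^ 2 := by
        have : (2 : ℕ) ^ 5 = 3 * 10 + 2 := by norm_num
        rw [this, pow_add, pow_mul, ha3, one_pow, one_mul]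
      rw [e32] at h5
      apply ha1
      have : a * a = a * 1 := by rw [mul_one, ← pow_two]; exact h5.symm
      exact mul_left_cancel this
  have haNP : a ∈ Subgroup.normalizer (P : Set G) := by
    apply Subgroup.centralizer_le_normalizer
    rw [Subgroup.mem_centralizer_iff]
    intro h hh
    rw [SetLike.mem_coe, hP, Subgroup.mem_zpowers_iff] at hh
    obtain ⟨j, rfl⟩ := hh
    exact (Commute.zpow_left (show Commute (x : G) a from hcomm) j).eq
  have h3dvd : orderOf a ∣ Nat.card (Subgroup.normalizer (P : Set G)) :=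
    Subgroup.orderOf_dvd_natCard _ haNP
  rw [hao, hNPcard] at h3dvd
  omega

theorem o60_main {G : Type u} [Group G] [Finite G] (hcard : Nat.card G = 60)
    (hΓ : Cfsg.degreePrimes G = Cfsg.degreePrimes (alternatingGroup (Fin 5)) ∧
      Cfsg.degreeGraph G = Cfsg.degreeGraph (alternatingGroup (Fin 5))) :
    Nonempty (G ≃* alternatingGroup (Fin 5)) := by
  classical
  have hA5 : (5 : ℕ) ∈ Cfsg.degreePrimes (alternatingGroup (Fin 5)) := by
    haveI : Fact (Nat.Prime 2) := ⟨Nat.prime_two⟩
    haveI : Fintype (GaloisField 2 2) := Fintype.ofFinite _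
    have hF : Fintype.card (GaloisField 2 2) = 4 := by
      rw [← Nat.card_eq_fintype_card, GaloisField.card 2 2 (by norm_num)]; norm_num
    obtain ⟨e⟩ := Cfsg.Agent.S0252.result hF
    have h1 := (psl2_degree_graph_even (F := GaloisField 2 2) 4 hF (le_refl 4)
      (S := alternatingGroup (Fin 5)) (Or.inl ⟨e.symm⟩)).1
    rw [h1]
    exact ⟨by norm_num, by norm_num⟩
  rw [← hΓ.1] at hA5
  obtain ⟨_, d, ⟨χ, hχ⟩, h5d⟩ := hA5
  have hn5 : Nat.card (Sylow 5 G) ≠ 1 := by
    intro h1
    haveI : Subsingleton (Sylow 5 G) := (Nat.card_eq_one_iff_unique.mp h1).1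
    obtain ⟨P⟩ : Nonempty (Sylow 5 G) := inferInstance
    haveI : (P : Subgroup G).Normal := Sylow.normal_of_subsingleton P
    obtain ⟨hPc, hPi⟩ := o60_sylow5_index 12 (by rw [hcard]) (by norm_num) P
    have hcyc : IsCyclic (P : Subgroup G) := isCyclic_of_prime_card (p := 5) hPc
    have hab : ∀ a ∈ (P : Subgroup G), ∀ b ∈ (P : Subgroup G), a * b = b * a := by
      intro a ha b hb
      have := (hcyc.isMulCommutative).is_comm.comm ⟨a, ha⟩ ⟨b, hb⟩
      exact congrArg Subtype.val this
    have h2 := irr_degree_dvd_index (P : Subgroup G) hab χ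
    rw [hχ, hPi] at h2
    have : 5 ∣ 12 := h5d.trans h2
    omega
  haveI := o60_simple hcard hn5
  exact Cfsg.Agent.S0494.result hcard

end Cfsg.Agent.helper12
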