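import Mathlib
import Cfsg.Agent.H16AF8
import Cfsg.Agent.Lib_helper12_O60b
import Cfsg.Agent.S0494

set_option autoImplicit false

namespace Cfsg.Agent.H16AF

open Classical
open Cfsg.Agent.helper19.C3

variable {G : Type*} [Group G]

theorem card_cent_conj (h t : G) :
    Nat.card ↥(Subgroup.centralizer ({h * t * h⁻¹} : Set G)) =
      Nat.card ↥(Subgroup.centralizer ({t} : Set G)) := by
  apply Nat.card_congr
  refine ⟨fun y => ⟨h⁻¹ * y.1 * h, ?_⟩, fun y => ⟨h * y.1 * h⁻¹, ?_⟩, ?_, ?_⟩
  · exact mem_cent.mpr (comm_conj (mem_cent.mp y.2))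
  · rw [mem_cent]
    have := mem_cent.mp y.2
    calc h * y.1 * h⁻¹ * (h * t * h⁻¹) = h * (y.1 * t) * h⁻¹ := by group
      _ = h * (t * y.1) * h⁻¹ := by rw [this]
      _ = h * t * h⁻¹ * (h * y.1 * h⁻¹) := by group
  · intro y
    apply Subtype.ext
    show h * (h⁻¹ * y.1 * h) * h⁻¹ = y.1
    group
  · intro y
    apply Subtype.ext
    show h⁻¹ * (h * y.1 * h⁻¹) * h = y.1
    group

namespace CI

theorem count_main [Fintype G] (H : CI G) {t : G} (ht : IsInv t)
    (hconj : ∀ u : G, IsInv u → Cj t u) :
    (invS G).card = 3 ∨ (invS G).card = 15 := by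
  have hG := card_G ht (H.four t ht) hconj
  have hsum := H.sum_weights
  have hle := card_rAll_le (G := G)
  have hpos : 0 < (invS G).card := Finset.card_pos.mpr ⟨t, mem_invS.mpr ht⟩
  have hlt : ∑ x ∈ invS G, ∑ g ∈ rS x, (1 / (cz g : ℚ)) < ∑ _x ∈ invS G, (3 : ℚ) := by
    rw [hsum, Finset.sum_const, nsmul_eq_mul]
    have h1 : (rAll G).card + 1 + (invS G).card ≤ 4 * (invS G).card := by rw [← hG]; exact hle
    have h2 : (rAll G).card < 3 * (invS G).card := by omega
    have h3 : ((rAll G).card : ℚ) < ((3 * (invS G).card : ℕ) : ℚ) := by exact_mod_cast h2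
    push_cast at h3
    linarith
  obtain ⟨x, hx, hwx⟩ := Finset.exists_lt_of_sum_lt hlt
  rw [mem_invS] at hx
  have h3 := H.card_comm_inv hx
  have h1lt : 1 < ((invS G).filter (fun y => y * x = x * y)).card := by rw [h3]; norm_num
  obtain ⟨z', hz', hne⟩ := Finset.exists_mem_ne h1lt x
  rw [Finset.mem_filter, mem_invS] at hz'
  exact H.local_main hx hz'.1 hz'.2 hne hG hwx

end CI

theorem case_one [Finite G] {t z : G} (B : Base t z)
    (hC4 : Nat.card ↥(Subgroup.centralizer ({t} : Set G)) = 4)
    (h1 : Cj t z) (h2 : Cj t (t * z))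
    (hne : ∀ E : Subgroup G, E.Normal → Cfsg.IsElementaryAbelian 2 E →
      Nat.card ↥E ≠ 2 ∧ Nat.card ↥E ≠ 4) :
    Nonempty (G ≃* ↥(alternatingGroup (Fin 5))) := by
  haveI : Fintype G := Fintype.ofFinite G
  have ht : IsInv t := ⟨B.ht1, B.ht2⟩
  have hz : IsInv z := ⟨B.hz1, B.hz2⟩
  have htz : IsInv (t * z) := ⟨B.tz_ne_one, B.tz_sq⟩
  -- nonidentity elements of V are conjugate to t
  have hVc : ∀ c : G, c * t = t * c → c ≠ 1 → Cj t c := by
    intro c hc hc1
    rcases B.hV c hc with h | h | h | h
    · exact absurd h hc1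
    · rw [h]; exact Cj.refl t
    · rw [h]; exact h1
    · rw [h]; exact h2
  have cj_conj : ∀ (h u : G), Cj (h⁻¹ * u * h) u := fun h u => ⟨h, by group⟩
  have hconj : ∀ u : G, IsInv u → Cj t u := by
    intro u hu
    by_cases hodd : Odd (orderOf (t * u))
    · obtain ⟨s, hs⟩ := invol_conj_of_odd B.ht2 hu.2 hodd
      exact ⟨s, hs⟩
    · obtain ⟨m, -, hw2, hwt, hwu⟩ := exists_central_invol B.ht2 hu.2 hodd
      set w := (t * u) ^ m with hw
      have hw1 : w ≠ 1 := by
        intro h
        rw [h, orderOf_one] at hw2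
        norm_num at hw2
      obtain ⟨h, hh⟩ := hVc w hwt.symm hw1
      have hcomm : (h⁻¹ * u * h) * t = t * (h⁻¹ * u * h) := by
        apply comm_conj
        rw [hh]; exact hwu
      have hne1 : h⁻¹ * u * h ≠ 1 := by
        intro h1'
        apply hu.1
        have := congrArg (fun y => h * y * h⁻¹) h1'
        simpa [mul_assoc] using this
      exact (hVc _ hcomm hne1).trans (cj_conj h u)
  have H : CI G := by
    refine ⟨?_, ?_⟩
    · intro u hu y hy
      obtain ⟨h, hh⟩ := hconj u hu
      have hcomm : (h⁻¹ * y * h) * t = t * (h⁻¹ * y * h) := by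
        apply comm_conj
        rw [hh]; exact hy
      have hsq := B.sq_of_comm hcomm
      calc y * y = h * ((h⁻¹ * y * h) * (h⁻¹ * y * h)) * h⁻¹ := by group
        _ = 1 := by rw [hsq]; group
    · intro u hu
      obtain ⟨h, hh⟩ := hconj u hu
      rw [← hh, card_cent_conj, hC4]
  have hG := card_G ht (H.four t ht) hconj
  have hVcomm : ∀ a : G, a * t = t * a → ∀ b : G, b * t = t * b → a * b = b * a := by
    intro a ha b hb
    have hab : (a * b) * t = t * (a * b) := by
      calc (a * b) * t = a * (b * t) := by group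
        _ = a * (t * b) := by rw [hb]
        _ = (a * t) * b := by group
        _ = (t * a) * b := by rw [ha]
        _ = t * (a * b) := by group
    exact comm_of_sq (B.sq_of_comm ha) (B.sq_of_comm hb) (B.sq_of_comm hab)
  rcases H.count_main ht hconj with hn | hn
  · -- three involutions: V is normal
    exfalso
    have hsub : ({t, z, t * z} : Finset G) ⊆ invS G := by
      intro c hc
      simp only [Finset.mem_insert, Finset.mem_singleton] at hc
      rw [mem_invS]
      rcases hc with rfl | rfl | rfl
      · exact ht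
      · exact hz
      · exact htz
    have hcard3 : ({t, z, t * z} : Finset G).card = 3 := by
      rw [Finset.card_insert_of_notMem, Finset.card_insert_of_notMem, Finset.card_singleton]
      · simp only [Finset.mem_singleton]
        exact fun h => B.tz_ne_z h.symm
      · simp only [Finset.mem_insert, Finset.mem_singleton, not_or]
        exact ⟨fun h => B.hzt h.symm, fun h => B.tz_ne_t h.symm⟩
    have heq : ({t, z, t * z} : Finset G) = invS G :=
      Finset.eq_of_subset_of_card_le hsub (by rw [hn, hcard3])
    set V := Subgroup.centralizer ({t} : Set G) with hV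
    have hnormal : V.Normal := by
      refine ⟨fun c hc g => ?_⟩
      by_cases hc1 : c = 1
      · rw [hc1]; simp
      · have hcinv : IsInv c := ⟨hc1, B.sq_of_comm (mem_cent.mp hc)⟩
        have := mem_invS.mpr (isInv_conj hcinv g)
        rw [← heq] at this
        simp only [Finset.mem_insert, Finset.mem_singleton] at this
        rw [mem_cent]
        rcases this with h | h | h
        · rw [h]
        · rw [h]; exact B.hz
        · rw [h]; exact B.t_comm_tz.symm
    have helem : Cfsg.IsElementaryAbelian 2 V := by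
      refine ⟨⟨⟨fun a b => Subtype.ext ?_⟩⟩, ?_⟩
      · exact hVcomm a.1 (mem_cent.mp a.2) b.1 (mem_cent.mp b.2)
      · intro a ha
        rw [pow_two]
        exact B.sq_of_comm (mem_cent.mp ha)
    exact (hne V hnormal helem).2 hC4
  · -- fifteen involutions: order 60
    have h60 : Nat.card G = 60 := by
      rw [Nat.card_eq_fintype_card, hG, hn]
    haveI h5 : Fact (Nat.Prime 5) := ⟨by norm_num⟩
    have hn5 : Nat.card (Sylow 5 G) ≠ 1 := by
      intro hone
      haveI : Subsingleton (Sylow 5 G) := (Nat.card_eq_one_iff_unique.mp hone).1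
      obtain ⟨Q⟩ : Nonempty (Sylow 5 G) := inferInstance
      have hQn : (Q : Subgroup G).Normal := Sylow.normal_of_subsingleton Q
      have hQne : (Q : Subgroup G) ≠ ⊥ := Q.ne_bot_of_dvd_card (by rw [h60]; norm_num)
      -- elements of Q of square one are trivial
      have hsq : ∀ q ∈ (Q : Subgroup G), q * q = 1 → q = 1 := by
        intro q hq hqq
        obtain ⟨k, hk⟩ := (IsPGroup.iff_orderOf.mp Q.2) ⟨q, hq⟩
        have hord : orderOf q = 5 ^ k := by
          rw [← hk]; exact (Subgroup.orderOf_mk q hq).symm
        have hdvd : orderOf q ∣ 2 := orderOf_dvd_of_pow_eq_one (by rw [pow_two]; exact hqq)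
        rw [hord] at hdvd
        have hk0 : k = 0 := by
          by_contra hk0
          have : 5 ∣ 5 ^ k := dvd_pow_self 5 hk0
          have := Nat.le_of_dvd (by norm_num) (this.trans hdvd)
          omega
        rw [hk0, pow_zero] at hord
        exact orderOf_eq_one_iff.mp hord
      have hinvQ : ∀ u : G, IsInv u → ∀ c ∈ (Q : Subgroup G), u * c * u = c⁻¹ := by
        intro u hu
        apply CI.inverts_of_fpf hu
        · intro c hc
          have := hQn.conj_mem c hc u
          rwa [hu.inv_eq] at this
        · intro e he heu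
          exact hsq e he (H.exp u hu e heu)
      apply hQne
      rw [Subgroup.eq_bot_iff_forall]
      intro q hq
      have h1 := hinvQ z hz q hq
      have h2 := hinvQ t ht q⁻¹ (Subgroup.inv_mem _ hq)
      rw [inv_inv] at h2
      have hcomm : q * (t * z) = (t * z) * q := by
        have h3 : (t * z) * q * (t * z) = q := by
          calc (t * z) * q * (t * z) = t * (z * q * (t * z)) := by group
            _ = t * (z * q * (z * t)) := by rw [B.hz]
            _ = t * (z * q * z) * t := by group
            _ = t * q⁻¹ * t := by rw [h1]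
            _ = q := h2
        calc q * (t * z) = ((t * z) * q * (t * z)) * (t * z) := by rw [h3]
          _ = (t * z) * q * ((t * z) * (t * z)) := by group
          _ = (t * z) * q := by rw [B.tz_sq, mul_one]
      exact hsq q hq (H.exp (t * z) htz q hcomm)
    haveI : IsSimpleGroup G := Cfsg.Agent.helper12.o60_simple h60 hn5
    exact Cfsg.Agent.S0494.result h60

end Cfsg.Agent.H16AF
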