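import Mathlib

set_option autoImplicit false
set_option linter.style.haveILetI false
set_option linter.unusedSectionVars false

namespace Cfsg.Agent.helper1

section
variable {G : Type*} [Group G] [Finite G]

theorem coatom_normal_of_isPGroup {p : ℕ} [Fact p.Prime] (hG : IsPGroup p G)
    {M : Subgroup G} (hM : IsCoatom M) : M.Normal := by
  haveI := hG.isNilpotent
  exact ((Group.isNilpotent_of_finite_tfae (G := G)).out 0 2 rfl rfl).mp inferInstance M hM

theorem coatom_index_of_isPGroup {p : ℕ} [hp : Fact p.Prime] (hG : IsPGroup p G)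
    {M : Subgroup G} (hM : IsCoatom M) : M.index = p := by
  obtain ⟨m, hm⟩ := hG.exists_card_eq
  obtain ⟨n, hn⟩ := (hG.to_subgroup M).exists_card_eq
  have hnm : n < m := by
    by_contra h
    push Not at h
    have h1 : Nat.card G ≤ Nat.card M := by
      rw [hm, hn]; exact Nat.pow_le_pow_right hp.out.pos h
    exact hM.1 (Subgroup.eq_top_of_le_card M h1)
  have hdvd : p ^ (n + 1) ∣ Nat.card G := by
    rw [hm]; exact pow_dvd_pow p hnm
  obtain ⟨K, hK, hMK⟩ := Sylow.exists_subgroup_card_pow_succ hdvd hn
  have hne : M ≠ K := by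
    intro h
    rw [← h, hn] at hK
    have := Nat.pow_right_injective hp.out.two_le hK
    omega
  have hKtop : K = ⊤ := hM.2 K (lt_of_le_of_ne hMK hne)
  have hcard : Nat.card G = p ^ (n + 1) := by
    rw [← hK, hKtop]; simp
  have := Subgroup.card_mul_index M
  rw [hn, hcard, pow_succ] at this
  exact Nat.eq_of_mul_eq_mul_left (pow_pos hp.out.pos n) this

theorem commutator_le_coatom_of_isPGroup {p : ℕ} [hp : Fact p.Prime] (hG : IsPGroup p G)
    {M : Subgroup G} (hM : IsCoatom M) : commutator G ≤ M := by
  haveI := coatom_normal_of_isPGroup hG hM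
  have hidx := coatom_index_of_isPGroup hG hM
  have hcard : Nat.card (G ⧸ M) = p := by rw [← Subgroup.index_eq_card, hidx]
  haveI : IsCyclic (G ⧸ M) := isCyclic_of_prime_card hcard
  letI : CommGroup (G ⧸ M) := IsCyclic.commGroup
  have := Abelianization.commutator_subset_ker (QuotientGroup.mk' M)
  rwa [QuotientGroup.ker_mk'] at this

theorem pow_mem_coatom_of_isPGroup {p : ℕ} [hp : Fact p.Prime] (hG : IsPGroup p G)
    {M : Subgroup G} (hM : IsCoatom M) (x : G) : x ^ p ∈ M := by
  haveI := coatom_normal_of_isPGroup hG hM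
  have hidx := coatom_index_of_isPGroup hG hM
  have hcard : Nat.card (G ⧸ M) = p := by rw [← Subgroup.index_eq_card, hidx]
  have : (x : G ⧸ M) ^ p = 1 := by
    rw [← hcard]; exact pow_card_eq_one'
  rw [← QuotientGroup.mk_pow] at this
  exact (QuotientGroup.eq_one_iff _).mp this

theorem le_frattini_of_forall_coatom {H : Subgroup G} (h : ∀ M : Subgroup G, IsCoatom M → H ≤ M) :
    H ≤ frattini G := by
  unfold frattini Order.radical
  exact le_iInf₂ h

theorem commutator_le_frattini_of_isPGroup {p : ℕ} [hp : Fact p.Prime] (hG : IsPGroup p G) :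
    commutator G ≤ frattini G :=
  le_frattini_of_forall_coatom (fun _ hM => commutator_le_coatom_of_isPGroup hG hM)

theorem pow_mem_frattini_of_isPGroup {p : ℕ} [hp : Fact p.Prime] (hG : IsPGroup p G) (x : G) :
    x ^ p ∈ frattini G := by
  have : Subgroup.zpowers (x ^ p) ≤ frattini G :=
    le_frattini_of_forall_coatom (fun M hM => by
      rw [Subgroup.zpowers_le]; exact pow_mem_coatom_of_isPGroup hG hM x)
  exact this (Subgroup.mem_zpowers _)

end

end Cfsg.Agent.helper1
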