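import Mathlib

set_option autoImplicit false

namespace Cfsg.Agent.helper2

open Matrix Matrix.SpecialLinearGroup
open scoped commutatorElement

variable {ι : Type*} [Fintype ι] [DecidableEq ι] {F : Type*} [Field F]

theorem diag_decomp {i j : ι} (hij : i ≠ j) (a : F) (ha : a ≠ 0) :
    diagonal (fun k ↦ if k = i then a else if k = j then a⁻¹ else 1) =
      Matrix.transvection i j a * Matrix.transvection j i (-a⁻¹) * Matrix.transvection i j a *
        Matrix.transvection i j (-1) * Matrix.transvection j i 1 * Matrix.transvection i j (-1) := by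
  have hji : j ≠ i := hij.symm
  ext r s
  rcases eq_or_ne s j with rfl | hsj
  · simp only [mul_transvection_apply_same, mul_transvection_apply_of_ne _ _ _ _ hji,
      mul_transvection_apply_of_ne _ _ _ _ hij]
    simp only [Matrix.transvection, Matrix.add_apply, Matrix.one_apply, Matrix.single_apply,
      diagonal_apply]
    rcases eq_or_ne r i with rfl | hri
    · simp [hij, hji]
      field_simp
      ring
    · rcases eq_or_ne r s with rfl | hrs
      · simp [hij, hji]
        field_simp
        ring
      · simp [hij, hji, hri, hrs, hri.symm, hrs.symm]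
  · rcases eq_or_ne s i with rfl | hsi
    · simp only [mul_transvection_apply_same, mul_transvection_apply_of_ne _ _ _ _ hji,
        mul_transvection_apply_of_ne _ _ _ _ hij]
      simp only [Matrix.transvection, Matrix.add_apply, Matrix.one_apply, Matrix.single_apply,
        diagonal_apply]
      rcases eq_or_ne r s with rfl | hri
      · simp [hij, hji]
        field_simp
        ring
      · rcases eq_or_ne r j with rfl | hrs
        · simp [hij, hji]
          field_simp
          ring
        · simp [hij, hji, hri, hrs, hri.symm, hrs.symm]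
    · simp only [mul_transvection_apply_of_ne _ _ _ _ hsj, mul_transvection_apply_of_ne _ _ _ _ hsi]
      simp only [Matrix.transvection, Matrix.add_apply, Matrix.one_apply, Matrix.single_apply,
        diagonal_apply]
      rcases eq_or_ne r s with rfl | hrs
      · simp [hsi, hsj, hsi.symm, hsj.symm]
      · simp [hsi, hsj, hsi.symm, hsj.symm, hrs, hrs.symm]

/-- `diag2n` is a product of six transvections. -/
theorem diag2n_eq_prod {i j : ι} (hij : i ≠ j) (a : F) (ha : a ≠ 0) :
    diag2n hij a ha = transvection hij a * transvection hij.symm (-a⁻¹) * transvection hij a *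
      transvection hij (-1) * transvection hij.symm 1 * transvection hij (-1) := by
  apply Subtype.ext
  exact diag_decomp hij a ha

/-- Induction principle: `SL ι F` is generated by transvections. -/
theorem transvection_induction [Nontrivial ι] (P : SpecialLinearGroup ι F → Prop)
    (htransvec : ∀ (i j : ι) (hij : i ≠ j) (c : F), P (transvection hij c))
    (hmul : ∀ A B, P A → P B → P (A * B)) (A : SpecialLinearGroup ι F) : P A := by
  refine diagonal_transvection_induction' P A (fun i j hij c hc => ?_) htransvec hmul
  rw [diag2n_eq_prod hij c hc]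
  refine hmul _ _ (hmul _ _ (hmul _ _ (hmul _ _ (hmul _ _ ?_ ?_) ?_) ?_) ?_) ?_
  all_goals exact htransvec _ _ _ _

omit [Fintype ι] in
theorem single_eq_smul (a b : ι) (x : F) : single a b x = x • single a b (1 : F) := by
  simp [Matrix.smul_single]

theorem comm_matrix {i j k : ι} (hij : i ≠ j) (hik : i ≠ k) (hkj : k ≠ j) (c : F) :
    (1 + single i k c) * (1 + single k j (1 : F)) * (1 + single i k (-c)) *
      (1 + single k j (-1 : F)) = 1 + single i j c := by
  simp only [mul_add, add_mul, mul_one, one_mul, Matrix.single_mul_single_same,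
    Matrix.single_mul_single_of_ne _ _ _ _ hij.symm,
    Matrix.single_mul_single_of_ne _ _ _ _ hik.symm,
    Matrix.single_mul_single_of_ne _ _ _ _ hkj.symm, add_zero, mul_neg]
  simp only [single_eq_smul _ _ c, single_eq_smul _ _ (-c), single_eq_smul _ _ (-1 : F),
    single_eq_smul _ _ (- -c)]
  module

/-- A transvection is a commutator of transvections when a third index is available. -/
theorem transvection_eq_commutator {i j k : ι} (hij : i ≠ j) (hik : i ≠ k) (hkj : k ≠ j) (c : F) :
    transvection hij c = ⁅transvection hik c, transvection hkj (1 : F)⁆ := by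
  rw [commutatorElement_def, transvection_inv, transvection_inv]
  apply Subtype.ext
  exact (comm_matrix hij hik hkj c).symm

theorem exists_third (h3 : 3 ≤ Fintype.card ι) (i j : ι) : ∃ k : ι, i ≠ k ∧ k ≠ j := by
  by_contra hne
  have hall : ∀ k : ι, k ∈ ({i, j} : Finset ι) := by
    intro k
    by_contra hk
    apply hne
    simp only [Finset.mem_insert, Finset.mem_singleton, not_or] at hk
    exact ⟨k, fun h => hk.1 h.symm, hk.2⟩
  have h1 : Finset.univ ⊆ ({i, j} : Finset ι) := fun k _ => hall k
  have h2 := Finset.card_le_card h1
  have h3' : ({i, j} : Finset ι).card ≤ 2 := Finset.card_le_two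
  rw [Finset.card_univ] at h2
  omega

/-- `SL_n(F)` is perfect when `n ≥ 3`. -/
theorem SL_commutator_eq_top (h3 : 3 ≤ Fintype.card ι) :
    commutator (SpecialLinearGroup ι F) = ⊤ := by
  have : Nontrivial ι := Fintype.one_lt_card_iff_nontrivial.mp (by omega)
  refine le_antisymm le_top (fun A _ => ?_)
  refine transvection_induction (fun A => A ∈ commutator (SpecialLinearGroup ι F)) ?_
    (fun _ _ => mul_mem) A
  intro i j hij c
  obtain ⟨k, hik, hkj⟩ := exists_third h3 i j
  rw [transvection_eq_commutator hij hik hkj c]
  exact Subgroup.commutator_mem_commutator (Subgroup.mem_top _) (Subgroup.mem_top _)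

end Cfsg.Agent.helper2

namespace Cfsg.Agent.helper2

open Matrix Matrix.SpecialLinearGroup
open scoped commutatorElement

variable {ι : Type*} [Fintype ι] [DecidableEq ι] {F : Type*} [Field F]

theorem diag_conj {i j : ι} (hij : i ≠ j) (a : F) (ha : a ≠ 0) (c : F) :
    diagonal (fun k ↦ if k = i then a else 1) * Matrix.transvection i j c *
      diagonal (fun k ↦ if k = i then a⁻¹ else 1) * Matrix.transvection i j (-c) =
      Matrix.transvection i j ((a - 1) * c) := by
  have hji : j ≠ i := hij.symm
  ext r s
  rcases eq_or_ne s j with rfl | hsj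
  · simp only [mul_transvection_apply_same, Matrix.mul_diagonal, Matrix.diagonal_mul]
    simp only [Matrix.transvection, Matrix.add_apply, Matrix.one_apply, Matrix.single_apply,
      Matrix.diagonal_apply]
    rcases eq_or_ne r i with rfl | hri
    · simp [hij, hji]
      field_simp
      ring
    · simp [hij, hji, hri, hri.symm]
  · simp only [mul_transvection_apply_of_ne _ _ _ _ hsj, Matrix.mul_diagonal, Matrix.diagonal_mul]
    simp only [Matrix.transvection, Matrix.add_apply, Matrix.one_apply, Matrix.single_apply,
      Matrix.diagonal_apply]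
    rcases eq_or_ne r i with rfl | hri
    · rcases eq_or_ne s r with rfl | hsr
      · simp [hij, hji, hsj, hsj.symm, ha]
      · simp [hij, hji, hsj, hsj.symm, hsr, hsr.symm]
    · rcases eq_or_ne s r with rfl | hsr
      · simp [hij, hji, hsj, hsj.symm, hri, hri.symm]
      · simp [hij, hji, hsj, hsj.symm, hri, hri.symm, hsr, hsr.symm]

/-- The diagonal matrix with `a` at position `i` and ones elsewhere, in `GL`. -/
noncomputable def diagGL (i : ι) (a : F) (ha : a ≠ 0) : GL ι F :=
  ⟨diagonal (fun k ↦ if k = i then a else 1), diagonal (fun k ↦ if k = i then a⁻¹ else 1), by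
    rw [diagonal_mul_diagonal, ← diagonal_one]
    congr 1
    funext k
    split_ifs <;> simp [ha], by
    rw [diagonal_mul_diagonal, ← diagonal_one]
    congr 1
    funext k
    split_ifs <;> simp [ha]⟩

/-- In `GL`, a transvection is a commutator as soon as the field has an element `≠ 0, 1`. -/
theorem toGL_transvection_eq_commutator {i j : ι} (hij : i ≠ j) (a : F) (ha : a ≠ 0)
    (ha1 : a ≠ 1) (c : F) :
    (toGL (transvection hij c) : GL ι F) =
      ⁅diagGL i a ha, toGL (transvection hij (c / (a - 1)))⁆ := by
  rw [commutatorElement_def, ← map_inv, transvection_inv]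
  apply Units.ext
  have h := diag_conj hij a ha (c / (a - 1))
  have h1 : (a - 1) * (c / (a - 1)) = c := by
    field_simp [sub_ne_zero_of_ne ha1]
  rw [h1] at h
  exact h.symm

theorem toGL_mem_commutator_of_three (h3 : 3 ≤ Fintype.card ι) (A : SpecialLinearGroup ι F) :
    (toGL A : GL ι F) ∈ commutator (GL ι F) := by
  have : Nontrivial ι := Fintype.one_lt_card_iff_nontrivial.mp (by omega)
  refine transvection_induction (fun A => (toGL A : GL ι F) ∈ commutator (GL ι F)) ?_
    (fun A B hA hB => by rw [map_mul]; exact mul_mem hA hB) A
  intro i j hij c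
  obtain ⟨k, hik, hkj⟩ := exists_third h3 i j
  rw [transvection_eq_commutator hij hik hkj c, map_commutatorElement]
  exact Subgroup.commutator_mem_commutator (Subgroup.mem_top _) (Subgroup.mem_top _)

theorem toGL_mem_commutator_of_field [Nontrivial ι] (a : F) (ha : a ≠ 0) (ha1 : a ≠ 1)
    (A : SpecialLinearGroup ι F) : (toGL A : GL ι F) ∈ commutator (GL ι F) := by
  refine transvection_induction (fun A => (toGL A : GL ι F) ∈ commutator (GL ι F)) ?_
    (fun A B hA hB => by rw [map_mul]; exact mul_mem hA hB) A
  intro i j hij c
  rw [toGL_transvection_eq_commutator hij a ha ha1 c]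
  exact Subgroup.commutator_mem_commutator (Subgroup.mem_top _) (Subgroup.mem_top _)

end Cfsg.Agent.helper2
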