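import Mathlib
import Cfsg.Agent.Lib_helper2_SLn
import Cfsg.Agent.Lib_helper12_Card

set_option autoImplicit false

/-!
# Unipotent subgroups of `SL₂(F)`

`uS s = [[1,s],[0,1]]`, `lS s = [[1,0],[s,1]]`, the subgroup `U F`, its Sylow structure over a
finite field, and: two distinct Sylow `p`-subgroups of `SL₂(q)` generate it.
-/

namespace Cfsg.Agent.helper11.SL2U

open Matrix

variable {F : Type*} [Field F]

theorem sl_ext {A B : SpecialLinearGroup (Fin 2) F}
    (h : (A : Matrix (Fin 2) (Fin 2) F) = (B : Matrix (Fin 2) (Fin 2) F)) : A = B :=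
  Subtype.ext h

/-- upper unitriangular -/
def uS (s : F) : SpecialLinearGroup (Fin 2) F := ⟨!![1, s; 0, 1], by simp [det_fin_two_of]⟩

/-- lower unitriangular -/
def lS (s : F) : SpecialLinearGroup (Fin 2) F := ⟨!![1, 0; s, 1], by simp [det_fin_two_of]⟩

theorem coe_uS (s : F) : (uS s : Matrix (Fin 2) (Fin 2) F) = !![1, s; 0, 1] := rfl

theorem coe_lS (s : F) : (lS s : Matrix (Fin 2) (Fin 2) F) = !![1, 0; s, 1] := rfl

theorem uS_add (s t : F) : uS (s + t) = uS s * uS t := by
  apply sl_ext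
  rw [Matrix.SpecialLinearGroup.coe_mul, coe_uS, coe_uS, coe_uS]
  ext i j
  fin_cases i <;> fin_cases j <;> simp [Matrix.mul_apply, Fin.sum_univ_two, add_comm]

theorem uS_zero : uS (0 : F) = 1 := by
  apply sl_ext
  rw [coe_uS, Matrix.SpecialLinearGroup.coe_one]
  ext i j
  fin_cases i <;> fin_cases j <;> simp

theorem uS_inv (s : F) : (uS s)⁻¹ = uS (-s) := by
  apply inv_eq_of_mul_eq_one_right
  rw [← uS_add, add_neg_cancel, uS_zero]

theorem uS_injective : Function.Injective (uS : F → SpecialLinearGroup (Fin 2) F) := by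
  intro s t h
  have := congrArg (fun g : SpecialLinearGroup (Fin 2) F => (g : Matrix (Fin 2) (Fin 2) F) 0 1) h
  simpa [coe_uS] using this

theorem uS_eq_transvection (s : F) :
    uS s = Matrix.SpecialLinearGroup.transvection (zero_ne_one : (0 : Fin 2) ≠ 1) s := by
  apply sl_ext
  rw [coe_uS, Matrix.SpecialLinearGroup.transvection_coe]
  ext i j
  fin_cases i <;> fin_cases j <;> simp [Matrix.single_apply]

theorem lS_eq_transvection (s : F) :
    lS s = Matrix.SpecialLinearGroup.transvection (one_ne_zero : (1 : Fin 2) ≠ 0) s := by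
  apply sl_ext
  rw [coe_lS, Matrix.SpecialLinearGroup.transvection_coe]
  ext i j
  fin_cases i <;> fin_cases j <;> simp [Matrix.single_apply]

/-- `SL₂(F)` is generated by the `uS s` and `lS s`. -/
theorem eq_top_of_uS_lS_mem (H : Subgroup (SpecialLinearGroup (Fin 2) F))
    (hu : ∀ s : F, uS s ∈ H) (hl : ∀ s : F, lS s ∈ H) : H = ⊤ := by
  rw [eq_top_iff]
  intro A _
  refine Cfsg.Agent.helper2.transvection_induction (fun A => A ∈ H) ?_ ?_ A
  · intro i j hij c
    fin_cases i <;> fin_cases j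
    · exact absurd rfl hij
    · have := hu c
      rw [uS_eq_transvection] at this
      exact this
    · have := hl c
      rw [lS_eq_transvection] at this
      exact this
    · exact absurd rfl hij
  · intro A B hA hB
    exact H.mul_mem hA hB

/-- the homomorphism `s ↦ uS s` -/
def uHom : Multiplicative F →* SpecialLinearGroup (Fin 2) F where
  toFun s := uS (Multiplicative.toAdd s)
  map_one' := uS_zero
  map_mul' s t := uS_add _ _

theorem uHom_injective : Function.Injective (uHom (F := F)) := fun _ _ h =>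
  Multiplicative.toAdd.injective (uS_injective h)

/-- the upper unitriangular subgroup -/
def U (F : Type*) [Field F] : Subgroup (SpecialLinearGroup (Fin 2) F) := (uHom (F := F)).range

theorem uS_mem (s : F) : uS s ∈ U F := ⟨Multiplicative.ofAdd s, rfl⟩

theorem exists_of_mem_U {g : SpecialLinearGroup (Fin 2) F} (hg : g ∈ U F) :
    ∃ s : F, g = uS s := by
  obtain ⟨s, rfl⟩ := hg
  exact ⟨Multiplicative.toAdd s, rfl⟩

/-- conjugating `uS t` by an upper triangular matrix -/
theorem borel_conj (c : SpecialLinearGroup (Fin 2) F)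
    (h : (c : Matrix (Fin 2) (Fin 2) F) 1 0 = 0) (t : F) :
    c * uS t * c⁻¹ = uS (t * (c : Matrix (Fin 2) (Fin 2) F) 0 0 ^ 2) := by
  rw [mul_inv_eq_iff_eq_mul]
  apply sl_ext
  rw [Matrix.SpecialLinearGroup.coe_mul, Matrix.SpecialLinearGroup.coe_mul, coe_uS, coe_uS]
  have hdet := c.2
  rw [Matrix.det_fin_two, h, mul_zero, sub_zero] at hdet
  ext i j
  fin_cases i <;> fin_cases j <;> simp [Matrix.mul_apply, Fin.sum_univ_two, h]
  · have : t * (c : Matrix (Fin 2) (Fin 2) F) 0 0 ^ 2 * (c : Matrix (Fin 2) (Fin 2) F) 1 1 =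
        t * (c : Matrix (Fin 2) (Fin 2) F) 0 0 *
          ((c : Matrix (Fin 2) (Fin 2) F) 0 0 * (c : Matrix (Fin 2) (Fin 2) F) 1 1) := by ring
    rw [this, hdet]
    ring

theorem bruhat_mat (s b c d t : F) (hdet : s * c * d - b * c = 1) :
    !![s * c, b; c, d] * !![1, t; 0, 1] =
      !![1, s; 0, 1] * !![1, 0; -t * c ^ 2, 1] * !![1, -s; 0, 1] * !![s * c, b; c, d] := by
  ext i j
  fin_cases i <;> fin_cases j <;> simp [Matrix.mul_apply, Fin.sum_univ_two]
  · ring
  · linear_combination (-(t * c * s)) * hdet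
  · ring
  · linear_combination (-(t * c)) * hdet

/-- conjugating `uS t` by a matrix with nonzero lower-left entry -/
theorem bruhat_conj (c : SpecialLinearGroup (Fin 2) F)
    (h : (c : Matrix (Fin 2) (Fin 2) F) 1 0 ≠ 0) (t : F) :
    c * uS t * c⁻¹ =
      uS ((c : Matrix (Fin 2) (Fin 2) F) 0 0 / (c : Matrix (Fin 2) (Fin 2) F) 1 0) *
        lS (-t * (c : Matrix (Fin 2) (Fin 2) F) 1 0 ^ 2) *
        (uS ((c : Matrix (Fin 2) (Fin 2) F) 0 0 / (c : Matrix (Fin 2) (Fin 2) F) 1 0))⁻¹ := by
  rw [mul_inv_eq_iff_eq_mul, uS_inv]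
  apply sl_ext
  simp only [Matrix.SpecialLinearGroup.coe_mul, coe_uS, coe_lS]
  have hdet := c.2
  rw [Matrix.det_fin_two] at hdet
  have hM : (c : Matrix (Fin 2) (Fin 2) F) =
      !![(c : Matrix (Fin 2) (Fin 2) F) 0 0, (c : Matrix (Fin 2) (Fin 2) F) 0 1;
         (c : Matrix (Fin 2) (Fin 2) F) 1 0, (c : Matrix (Fin 2) (Fin 2) F) 1 1] :=
    Matrix.eta_fin_two _
  generalize (c : Matrix (Fin 2) (Fin 2) F) = M at *
  rw [hM]
  simp only [Matrix.of_apply, Matrix.cons_val', Matrix.cons_val_zero, Matrix.cons_val_one,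
    Matrix.cons_val_fin_one]
  have ha : M 0 0 = M 0 0 / M 1 0 * M 1 0 := (div_mul_cancel₀ _ h).symm
  generalize M 0 0 / M 1 0 = s at *
  rw [ha] at hdet ⊢
  exact bruhat_mat s (M 0 1) (M 1 0) (M 1 1) t hdet

section Finite

variable [Fintype F]

theorem card_U : Nat.card (U F) = Fintype.card F := by
  rw [← Nat.card_eq_fintype_card (α := F)]
  exact (Nat.card_congr (MonoidHom.ofInjective uHom_injective).toEquiv).symm.trans
    (Nat.card_congr Multiplicative.toAdd)

variable (p : ℕ) [Fact p.Prime] [CharP F p]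

theorem isPGroup_U : IsPGroup p (U F) := by
  obtain ⟨n, _, hq⟩ := FiniteField.card F p
  apply IsPGroup.of_card (n := (n : ℕ))
  rw [card_U, hq]

theorem not_dvd_index_U : ¬ p ∣ (U F).index := by
  have hp : p.Prime := Fact.out
  obtain ⟨n, _, hq⟩ := FiniteField.card F p
  have hq2 : 2 ≤ Fintype.card F := Fintype.one_lt_card
  set q := Fintype.card F with hqdef
  have hpq : p ∣ q := by rw [hq]; exact dvd_pow_self p n.ne_zero
  have h1 := Subgroup.card_mul_index (U F)
  rw [card_U, Cfsg.Agent.helper12.card_SL2, ← hqdef] at h1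
  have h3 : (U F).index = q ^ 2 - 1 := Nat.eq_of_mul_eq_mul_left (by omega : 0 < q) h1
  rw [h3]
  intro hdvd
  have hpq2 : p ∣ q ^ 2 := dvd_pow hpq (by norm_num)
  have := (Nat.dvd_sub (m := q ^ 2) (n := q ^ 2 - 1)) hpq2 hdvd
  rw [Nat.sub_sub_self (Nat.one_le_pow _ _ (by omega))] at this
  exact hp.one_lt.ne' (Nat.dvd_one.mp this)

/-- the unitriangular subgroup as a Sylow `p`-subgroup -/
noncomputable def USylow : Sylow p (SpecialLinearGroup (Fin 2) F) :=
  (isPGroup_U p).toSylow (not_dvd_index_U p)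

theorem coe_USylow : ((USylow p : Sylow p (SpecialLinearGroup (Fin 2) F)) :
    Subgroup (SpecialLinearGroup (Fin 2) F)) = U F :=
  IsPGroup.toSylow_coe _ _

theorem mem_smul_sylow_iff {G : Type*} [Group G] {p : ℕ} (g x : G) (P : Sylow p G) :
    x ∈ g • P ↔ g⁻¹ * x * g ∈ P := by
  show x ∈ ((g • P : Sylow p G) : Subgroup G) ↔ _
  rw [Sylow.coe_subgroup_smul, Subgroup.mem_pointwise_smul_iff_inv_smul_mem,
    MulAut.smul_def, MulAut.conj_inv_apply]
  rfl

/-- Any two distinct Sylow `p`-subgroups of `SL₂(q)` generate `SL₂(q)`. -/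
theorem sylow_sup_eq_top (P Q : Sylow p (SpecialLinearGroup (Fin 2) F)) (h : P ≠ Q) :
    (P : Subgroup (SpecialLinearGroup (Fin 2) F)) ⊔ (Q : Subgroup (SpecialLinearGroup (Fin 2) F))
      = ⊤ := by
  obtain ⟨g, hg⟩ := MulAction.exists_smul_eq (SpecialLinearGroup (Fin 2) F) (USylow (F := F) p) P
  obtain ⟨k, hk⟩ := MulAction.exists_smul_eq (SpecialLinearGroup (Fin 2) F) (USylow (F := F) p) Q
  set H := (P : Subgroup (SpecialLinearGroup (Fin 2) F)) ⊔
    (Q : Subgroup (SpecialLinearGroup (Fin 2) F)) with hH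
  have hPmem : ∀ t : F, g * uS t * g⁻¹ ∈ H := by
    intro t
    apply (le_sup_left : (P : Subgroup (SpecialLinearGroup (Fin 2) F)) ≤ H)
    show g * uS t * g⁻¹ ∈ P
    rw [← hg, mem_smul_sylow_iff]
    have : g⁻¹ * (g * uS t * g⁻¹) * g = uS t := by group
    rw [this]
    show uS t ∈ ((USylow p : Sylow p (SpecialLinearGroup (Fin 2) F)) :
      Subgroup (SpecialLinearGroup (Fin 2) F))
    rw [coe_USylow]
    exact uS_mem t
  have hQmem : ∀ t : F, k * uS t * k⁻¹ ∈ H := by
    intro t
    apply (le_sup_right : (Q : Subgroup (SpecialLinearGroup (Fin 2) F)) ≤ H)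
    show k * uS t * k⁻¹ ∈ Q
    rw [← hk, mem_smul_sylow_iff]
    have : k⁻¹ * (k * uS t * k⁻¹) * k = uS t := by group
    rw [this]
    show uS t ∈ ((USylow p : Sylow p (SpecialLinearGroup (Fin 2) F)) :
      Subgroup (SpecialLinearGroup (Fin 2) F))
    rw [coe_USylow]
    exact uS_mem t
  set c := g⁻¹ * k with hc
  have hc10 : (c : Matrix (Fin 2) (Fin 2) F) 1 0 ≠ 0 := by
    intro h0
    apply h
    -- c normalizes U, so P = Q
    rw [← hg, ← hk]
    have hkc : k = g * c := by rw [hc]; group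
    rw [hkc, mul_smul]
    congr 1
    symm
    apply Sylow.ext
    apply le_antisymm
    · intro x hx
      change x ∈ c • USylow p at hx
      rw [mem_smul_sylow_iff] at hx
      change _ ∈ ((USylow p : Sylow p (SpecialLinearGroup (Fin 2) F)) :
        Subgroup (SpecialLinearGroup (Fin 2) F)) at hx
      rw [coe_USylow] at hx
      obtain ⟨s, hs⟩ := exists_of_mem_U hx
      have hx' : x = c * uS s * c⁻¹ := by rw [← hs]; group
      rw [hx', borel_conj c h0]
      show _ ∈ ((USylow p : Sylow p (SpecialLinearGroup (Fin 2) F)) :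
        Subgroup (SpecialLinearGroup (Fin 2) F))
      rw [coe_USylow]
      exact uS_mem _
    · intro x hx
      change x ∈ ((USylow p : Sylow p (SpecialLinearGroup (Fin 2) F)) :
        Subgroup (SpecialLinearGroup (Fin 2) F)) at hx
      rw [coe_USylow] at hx
      obtain ⟨s, hs⟩ := exists_of_mem_U hx
      change x ∈ c • USylow p
      rw [mem_smul_sylow_iff]
      show _ ∈ ((USylow p : Sylow p (SpecialLinearGroup (Fin 2) F)) :
        Subgroup (SpecialLinearGroup (Fin 2) F))
      rw [coe_USylow, hs]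
      -- c⁻¹ * uS s * c, with c⁻¹ upper triangular
      have h0' : ((c⁻¹ : SpecialLinearGroup (Fin 2) F) : Matrix (Fin 2) (Fin 2) F) 1 0 = 0 := by
        rw [Matrix.SpecialLinearGroup.coe_inv, Matrix.adjugate_fin_two]
        simp [h0]
      have := borel_conj c⁻¹ h0' s
      rw [inv_inv] at this
      rw [this]
      exact uS_mem _
  -- now use the Bruhat decomposition
  have key : ∀ A : SpecialLinearGroup (Fin 2) F, g * A * g⁻¹ ∈ H := by
    have hsub : (H.comap (MulAut.conj g).toMonoidHom) = ⊤ := by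
      apply eq_top_of_uS_lS_mem
      · intro s
        exact hPmem s
      · intro s
        change g * lS s * g⁻¹ ∈ H
        set a := (c : Matrix (Fin 2) (Fin 2) F) 0 0 / (c : Matrix (Fin 2) (Fin 2) F) 1 0 with ha
        set t := -s / (c : Matrix (Fin 2) (Fin 2) F) 1 0 ^ 2 with ht
        have hb := bruhat_conj c hc10 t
        have hts : -t * (c : Matrix (Fin 2) (Fin 2) F) 1 0 ^ 2 = s := by
          rw [ht]
          field_simp
        rw [hts, ← ha] at hb
        -- lS s = (uS a)⁻¹ * (c * uS t * c⁻¹) * uS a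
        have hl : lS s = (uS a)⁻¹ * (c * uS t * c⁻¹) * uS a := by
          rw [hb]; group
        have e1 : g * lS s * g⁻¹ =
            (g * uS a * g⁻¹)⁻¹ * (k * uS t * k⁻¹) * (g * uS a * g⁻¹) := by
          rw [hl, hc]; group
        rw [e1]
        exact H.mul_mem (H.mul_mem (H.inv_mem (hPmem a)) (hQmem t)) (hPmem a)
    intro A
    have : A ∈ H.comap (MulAut.conj g).toMonoidHom := by rw [hsub]; trivial
    exact this
  rw [eq_top_iff]
  intro X _
  have := key (g⁻¹ * X * g)
  have e : g * (g⁻¹ * X * g) * g⁻¹ = X := by group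
  rw [e] at this
  exact this

end Finite

end Cfsg.Agent.helper11.SL2U
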