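import Mathlib

set_option autoImplicit false

/-!
# The projective line and `SL₂(K)`: points, fixed points
-/

namespace Cfsg.Agent.helper4.Dk

open Matrix
open scoped LinearAlgebra.Projectivization MatrixGroups

variable {K : Type*} [Field K]

theorem sl_ext {A B : SpecialLinearGroup (Fin 2) K}
    (h : (A : Matrix (Fin 2) (Fin 2) K) = (B : Matrix (Fin 2) (Fin 2) K)) : A = B :=
  Subtype.ext h

theorem det_eq (g : SpecialLinearGroup (Fin 2) K) : g 0 0 * g 1 1 - g 0 1 * g 1 0 = 1 := by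
  have := g.2
  rw [Matrix.det_fin_two] at this
  exact this

theorem smul_vec (g : SpecialLinearGroup (Fin 2) K) (v : Fin 2 → K) :
    g • v = ![g 0 0 * v 0 + g 0 1 * v 1, g 1 0 * v 0 + g 1 1 * v 1] := by
  rw [Matrix.SpecialLinearGroup.smul_def]
  ext i
  fin_cases i <;> simp [Matrix.mulVec, dotProduct, Fin.sum_univ_two]

theorem vInf_ne_zero : (![1, 0] : Fin 2 → K) ≠ 0 := by
  intro h
  have := congrFun h 0
  simp at this

theorem vPt_ne_zero (a : K) : (![a, 1] : Fin 2 → K) ≠ 0 := by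
  intro h
  have := congrFun h 1
  simp at this

/-- the point at infinity -/
def pInf : ℙ K (Fin 2 → K) := Projectivization.mk K ![1, 0] vInf_ne_zero

/-- the affine point `a` -/
def pt (a : K) : ℙ K (Fin 2 → K) := Projectivization.mk K ![a, 1] (vPt_ne_zero a)

theorem mk_eq_pInf {v : Fin 2 → K} (hv : v ≠ 0) (h1 : v 1 = 0) :
    Projectivization.mk K v hv = pInf := by
  have h0 : v 0 ≠ 0 := by
    intro h0
    apply hv
    ext i
    fin_cases i <;> simp [h0, h1]
  rw [pInf, Projectivization.mk_eq_mk_iff']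
  refine ⟨v 0, ?_⟩
  ext i
  fin_cases i <;> simp [h1]

theorem mk_eq_pt {v : Fin 2 → K} (hv : v ≠ 0) (h1 : v 1 ≠ 0) :
    Projectivization.mk K v hv = pt (v 0 / v 1) := by
  rw [pt, Projectivization.mk_eq_mk_iff']
  refine ⟨v 1, ?_⟩
  ext i
  fin_cases i
  · simp; field_simp
  · simp

theorem eq_pInf_or_pt (y : ℙ K (Fin 2 → K)) : y = pInf ∨ ∃ a, y = pt a := by
  induction y using Projectivization.ind with | h v hv =>
  by_cases h1 : v 1 = 0
  · exact Or.inl (mk_eq_pInf hv h1)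
  · exact Or.inr ⟨_, mk_eq_pt hv h1⟩

theorem pt_ne_pInf (a : K) : pt a ≠ (pInf : ℙ K (Fin 2 → K)) := by
  intro h
  rw [pt, pInf, Projectivization.mk_eq_mk_iff'] at h
  obtain ⟨c, hc⟩ := h
  have := congrFun hc 1
  simp at this

theorem pt_injective : Function.Injective (pt : K → ℙ K (Fin 2 → K)) := by
  intro a b h
  rw [pt, pt, Projectivization.mk_eq_mk_iff'] at h
  obtain ⟨c, hc⟩ := h
  have h1 := congrFun hc 1
  have h0 := congrFun hc 0
  simp at h1 h0
  rw [h1, one_mul] at h0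
  exact h0.symm

theorem smul_pInf_of_eq (g : SpecialLinearGroup (Fin 2) K) (h : g 1 0 = 0) :
    g • (pInf : ℙ K (Fin 2 → K)) = pInf := by
  rw [pInf, Projectivization.smul_mk]
  apply mk_eq_pInf
  rw [smul_vec]; simp [h]

theorem smul_pInf_of_ne (g : SpecialLinearGroup (Fin 2) K) (h : g 1 0 ≠ 0) :
    g • (pInf : ℙ K (Fin 2 → K)) = pt (g 0 0 / g 1 0) := by
  rw [pInf, Projectivization.smul_mk]
  rw [mk_eq_pt]
  · rw [smul_vec]; simp
  · rw [smul_vec]; simpa using h

theorem smul_pt_of_eq (g : SpecialLinearGroup (Fin 2) K) (a : K) (h : g 1 0 * a + g 1 1 = 0) :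
    g • (pt a : ℙ K (Fin 2 → K)) = pInf := by
  rw [pt, Projectivization.smul_mk]
  apply mk_eq_pInf
  rw [smul_vec]; simpa using h

theorem smul_pt_of_ne (g : SpecialLinearGroup (Fin 2) K) (a : K) (h : g 1 0 * a + g 1 1 ≠ 0) :
    g • (pt a : ℙ K (Fin 2 → K)) = pt ((g 0 0 * a + g 0 1) / (g 1 0 * a + g 1 1)) := by
  rw [pt, Projectivization.smul_mk]
  rw [mk_eq_pt]
  · rw [smul_vec]; simp
  · rw [smul_vec]; simpa using h

/-- the upper unitriangular element -/
def uS (s : K) : SpecialLinearGroup (Fin 2) K := ⟨!![1, s; 0, 1], by simp [det_fin_two_of]⟩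

/-- the lower unitriangular element -/
def lS (s : K) : SpecialLinearGroup (Fin 2) K := ⟨!![1, 0; s, 1], by simp [det_fin_two_of]⟩

@[simp] theorem uS_00 (s : K) : uS s 0 0 = 1 := rfl
@[simp] theorem uS_01 (s : K) : uS s 0 1 = s := rfl
@[simp] theorem uS_10 (s : K) : uS s 1 0 = 0 := rfl
@[simp] theorem uS_11 (s : K) : uS s 1 1 = 1 := rfl
@[simp] theorem lS_00 (s : K) : lS s 0 0 = 1 := rfl
@[simp] theorem lS_01 (s : K) : lS s 0 1 = 0 := rfl
@[simp] theorem lS_10 (s : K) : lS s 1 0 = s := rfl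
@[simp] theorem lS_11 (s : K) : lS s 1 1 = 1 := rfl

theorem sl_ext' {A B : SpecialLinearGroup (Fin 2) K} (h00 : A 0 0 = B 0 0) (h01 : A 0 1 = B 0 1)
    (h10 : A 1 0 = B 1 0) (h11 : A 1 1 = B 1 1) : A = B := by
  apply sl_ext
  ext i j
  fin_cases i <;> fin_cases j <;> assumption

theorem mul_00 (A B : SpecialLinearGroup (Fin 2) K) :
    (A * B) 0 0 = A 0 0 * B 0 0 + A 0 1 * B 1 0 := by
  simp [Matrix.SpecialLinearGroup.coe_mul, Matrix.mul_apply, Fin.sum_univ_two]
theorem mul_01 (A B : SpecialLinearGroup (Fin 2) K) :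
    (A * B) 0 1 = A 0 0 * B 0 1 + A 0 1 * B 1 1 := by
  simp [Matrix.SpecialLinearGroup.coe_mul, Matrix.mul_apply, Fin.sum_univ_two]
theorem mul_10 (A B : SpecialLinearGroup (Fin 2) K) :
    (A * B) 1 0 = A 1 0 * B 0 0 + A 1 1 * B 1 0 := by
  simp [Matrix.SpecialLinearGroup.coe_mul, Matrix.mul_apply, Fin.sum_univ_two]
theorem mul_11 (A B : SpecialLinearGroup (Fin 2) K) :
    (A * B) 1 1 = A 1 0 * B 0 1 + A 1 1 * B 1 1 := by
  simp [Matrix.SpecialLinearGroup.coe_mul, Matrix.mul_apply, Fin.sum_univ_two]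

theorem inv_00 (A : SpecialLinearGroup (Fin 2) K) : A⁻¹ 0 0 = A 1 1 := by
  simp [Matrix.SpecialLinearGroup.coe_inv, Matrix.adjugate_fin_two]
theorem inv_01 (A : SpecialLinearGroup (Fin 2) K) : A⁻¹ 0 1 = - A 0 1 := by
  simp [Matrix.SpecialLinearGroup.coe_inv, Matrix.adjugate_fin_two]
theorem inv_10 (A : SpecialLinearGroup (Fin 2) K) : A⁻¹ 1 0 = - A 1 0 := by
  simp [Matrix.SpecialLinearGroup.coe_inv, Matrix.adjugate_fin_two]
theorem inv_11 (A : SpecialLinearGroup (Fin 2) K) : A⁻¹ 1 1 = A 0 0 := by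
  simp [Matrix.SpecialLinearGroup.coe_inv, Matrix.adjugate_fin_two]

@[simp] theorem one_00 : (1 : SpecialLinearGroup (Fin 2) K) 0 0 = 1 := by simp
@[simp] theorem one_01 : (1 : SpecialLinearGroup (Fin 2) K) 0 1 = 0 := by simp
@[simp] theorem one_10 : (1 : SpecialLinearGroup (Fin 2) K) 1 0 = 0 := by simp
@[simp] theorem one_11 : (1 : SpecialLinearGroup (Fin 2) K) 1 1 = 1 := by simp


/-- the trace -/
def tr (g : SpecialLinearGroup (Fin 2) K) : K := g 0 0 + g 1 1

theorem tr_conj (s g : SpecialLinearGroup (Fin 2) K) : tr (s * g * s⁻¹) = tr g := by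
  unfold tr
  rw [mul_00, mul_11, mul_00, mul_01, mul_10, mul_11, inv_00, inv_01, inv_10, inv_11]
  linear_combination (g 0 0 + g 1 1) * det_eq s

theorem tr_sq_tri (h : SpecialLinearGroup (Fin 2) K) (h10 : h 1 0 = 0) :
    tr h ^ 2 = 4 ↔ h 0 0 = h 1 1 := by
  have hd := det_eq h
  rw [h10, mul_zero, sub_zero] at hd
  unfold tr
  constructor
  · intro h4
    have : (h 0 0 - h 1 1) ^ 2 = 0 := by linear_combination h4 - 4 * hd
    have := pow_eq_zero_iff (two_ne_zero) |>.mp this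
    exact sub_eq_zero.mp this
  · intro he
    rw [he] at hd ⊢
    linear_combination 4 * hd

theorem fixed_pInf_iff (g : SpecialLinearGroup (Fin 2) K) :
    g • (pInf : ℙ K (Fin 2 → K)) = pInf ↔ g 1 0 = 0 := by
  constructor
  · intro h
    by_contra hne
    rw [smul_pInf_of_ne g hne] at h
    exact pt_ne_pInf _ h
  · exact smul_pInf_of_eq g

theorem fix_tri_ne (h : SpecialLinearGroup (Fin 2) K) (h10 : h 1 0 = 0) (hne : h 0 0 ≠ h 1 1) :
    {y : ℙ K (Fin 2 → K) | h • y = y} = {pInf, pt (h 0 1 / (h 1 1 - h 0 0))} := by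
  have hd := det_eq h
  rw [h10, mul_zero, sub_zero] at hd
  have h11 : h 1 1 ≠ 0 := fun h0 => by rw [h0, mul_zero] at hd; exact zero_ne_one hd
  have hsub : h 1 1 - h 0 0 ≠ 0 := sub_ne_zero.mpr (Ne.symm hne)
  ext y
  simp only [Set.mem_ofPred_eq, Set.mem_insert_iff, Set.mem_singleton_iff]
  rcases eq_pInf_or_pt y with rfl | ⟨a, rfl⟩
  · simp [smul_pInf_of_eq h h10]
  · have hden : h 1 0 * a + h 1 1 ≠ 0 := by rw [h10, zero_mul, zero_add]; exact h11
    rw [smul_pt_of_ne h a hden]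
    constructor
    · intro he
      right
      have := pt_injective he
      rw [h10, zero_mul, zero_add, div_eq_iff h11] at this
      congr 1
      rw [eq_div_iff hsub]
      linear_combination (-1 : K) * this
    · rintro (he | he)
      · exact absurd he (pt_ne_pInf a)
      · have ha := pt_injective he
        rw [eq_div_iff hsub] at ha
        congr 1
        rw [h10, zero_mul, zero_add, div_eq_iff h11]
        linear_combination (-1 : K) * ha

theorem fix_tri_eq (h : SpecialLinearGroup (Fin 2) K) (h10 : h 1 0 = 0) (heq : h 0 0 = h 1 1)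
    (h01 : h 0 1 ≠ 0) : {y : ℙ K (Fin 2 → K) | h • y = y} = {pInf} := by
  have hd := det_eq h
  rw [h10, mul_zero, sub_zero] at hd
  have h11 : h 1 1 ≠ 0 := fun h0 => by rw [h0, mul_zero] at hd; exact zero_ne_one hd
  ext y
  simp only [Set.mem_ofPred_eq, Set.mem_singleton_iff]
  rcases eq_pInf_or_pt y with rfl | ⟨a, rfl⟩
  · simp [smul_pInf_of_eq h h10]
  · have hden : h 1 0 * a + h 1 1 ≠ 0 := by rw [h10, zero_mul, zero_add]; exact h11
    rw [smul_pt_of_ne h a hden]
    constructor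
    · intro he
      exfalso
      have := pt_injective he
      rw [h10, zero_mul, zero_add, heq, div_eq_iff h11] at this
      apply h01
      linear_combination this
    · intro he
      exact absurd he (pt_ne_pInf a)

/-- an element moving infinity to the point `a` -/
def wS (a : K) : SpecialLinearGroup (Fin 2) K := ⟨!![a, -1; 1, 0], by simp [det_fin_two_of]⟩

@[simp] theorem wS_00 (s : K) : wS s 0 0 = s := rfl
@[simp] theorem wS_01 (s : K) : wS s 0 1 = -1 := rfl
@[simp] theorem wS_10 (s : K) : wS s 1 0 = 1 := rfl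
@[simp] theorem wS_11 (s : K) : wS s 1 1 = 0 := rfl

theorem exists_smul_pInf (y : ℙ K (Fin 2 → K)) :
    ∃ s : SpecialLinearGroup (Fin 2) K, s • (pInf : ℙ K (Fin 2 → K)) = y := by
  rcases eq_pInf_or_pt y with rfl | ⟨a, rfl⟩
  · exact ⟨1, one_smul _ _⟩
  · refine ⟨wS a, ?_⟩
    rw [smul_pInf_of_ne]
    · congr 1
      simp
    · simp

theorem exists_fixed [IsAlgClosed K] (h2 : (2 : K) ≠ 0) (g : SpecialLinearGroup (Fin 2) K) :
    ∃ y : ℙ K (Fin 2 → K), g • y = y := by
  by_cases h10 : g 1 0 = 0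
  · exact ⟨pInf, smul_pInf_of_eq g h10⟩
  · obtain ⟨r, hr⟩ := IsAlgClosed.exists_pow_nat_eq ((g 1 1 - g 0 0) ^ 2 + 4 * g 1 0 * g 0 1)
      (by norm_num : 0 < 2)
    have hd := det_eq g
    obtain ⟨a, ha⟩ : ∃ a : K, a = ((g 0 0 - g 1 1) + r) / (2 * g 1 0) := ⟨_, rfl⟩
    have h20 : 2 * g 1 0 ≠ 0 := mul_ne_zero h2 h10
    rw [eq_div_iff h20] at ha
    have hq : g 1 0 * a ^ 2 + (g 1 1 - g 0 0) * a - g 0 1 = 0 := by
      have h40 : 4 * g 1 0 ≠ 0 := mul_ne_zero (by
        have : (4 : K) = 2 * 2 := by norm_num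
        rw [this]; exact mul_ne_zero h2 h2) h10
      apply mul_left_cancel₀ h40
      linear_combination (a * (2 * g 1 0) - (g 0 0 - g 1 1) + r) * ha + hr
    have hden : g 1 0 * a + g 1 1 ≠ 0 := by
      intro h0
      have h3 : g 0 0 * a + g 0 1 = 0 := by linear_combination -hq + a * h0
      have : (1 : K) = 0 := by
        linear_combination (-1 : K) * hd + g 0 0 * h0 - g 1 0 * h3
      exact one_ne_zero this
    refine ⟨pt a, ?_⟩
    rw [smul_pt_of_ne g a hden]
    congr 1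
    rw [div_eq_iff hden]
    linear_combination (-1 : K) * hq

theorem fix_conj (s g : SpecialLinearGroup (Fin 2) K) :
    {y : ℙ K (Fin 2 → K) | (s * g * s⁻¹) • y = y} = (fun y => s • y) '' {y | g • y = y} := by
  ext y
  simp only [Set.mem_ofPred_eq, Set.mem_image]
  constructor
  · intro h
    refine ⟨s⁻¹ • y, ?_, by simp⟩
    rw [mul_smul, mul_smul] at h
    have := congrArg (fun z => s⁻¹ • z) h
    simpa using this
  · rintro ⟨y', hy', rfl⟩
    rw [mul_smul, mul_smul, inv_smul_smul, hy']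

theorem ncard_fix [IsAlgClosed K] (h2 : (2 : K) ≠ 0) (g : SpecialLinearGroup (Fin 2) K)
    (hg1 : g ≠ 1) (hg2 : g ≠ -1) :
    (tr g ^ 2 = 4 → {y : ℙ K (Fin 2 → K) | g • y = y}.ncard = 1) ∧
      (tr g ^ 2 ≠ 4 → {y : ℙ K (Fin 2 → K) | g • y = y}.ncard = 2) := by
  obtain ⟨y, hy⟩ := exists_fixed h2 g
  obtain ⟨s, rfl⟩ := exists_smul_pInf y
  set h := s⁻¹ * g * s with hh
  have hg : g = s * h * s⁻¹ := by rw [hh]; group
  have hfix : h • (pInf : ℙ K (Fin 2 → K)) = pInf := by
    rw [hh, mul_smul, mul_smul, hy, inv_smul_smul]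
  have h10 := (fixed_pInf_iff h).mp hfix
  have htr : tr g = tr h := by rw [hg, tr_conj]
  have hcard : {y : ℙ K (Fin 2 → K) | g • y = y}.ncard = {y : ℙ K (Fin 2 → K) | h • y = y}.ncard := by
    rw [hg, fix_conj]
    exact Set.ncard_image_of_injective _ (MulAction.injective s)
  rw [htr, hcard]
  have hd := det_eq h
  rw [h10, mul_zero, sub_zero] at hd
  constructor
  · intro heq'
    have heq : h 0 0 = h 1 1 := (tr_sq_tri h h10).mp heq'
    have h01 : h 0 1 ≠ 0 := by
      intro h01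
      have hsq : h 1 1 ^ 2 = 1 := by rw [heq] at hd; linear_combination hd
      have : (h 1 1 - 1) * (h 1 1 + 1) = 0 := by linear_combination hsq
      rcases mul_eq_zero.mp this with h1 | h1
      · apply hg1
        rw [hg]
        have : h = 1 := by
          apply sl_ext' <;> simp [h01, h10, heq, sub_eq_zero.mp h1]
        rw [this]; group
      · apply hg2
        rw [hg]
        have : h = -1 := by
          apply sl_ext' <;>
            simp [h01, h10, heq, eq_neg_of_add_eq_zero_left h1, Matrix.SpecialLinearGroup.coe_neg]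
        rw [this]
        simp
    rw [fix_tri_eq h h10 heq h01, Set.ncard_singleton]
  · intro hne'
    have hne : h 0 0 ≠ h 1 1 := fun he => hne' ((tr_sq_tri h h10).mpr he)
    rw [fix_tri_ne h h10 hne]
    exact Set.ncard_pair (Ne.symm (pt_ne_pInf _))

end Cfsg.Agent.helper4.Dk
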