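import Mathlib
import Cfsg.Agent.Lib_helper4_DkA

set_option autoImplicit false

/-!
# Finite subgroups of `SL₂(K)`: structure of the stabiliser of infinity
-/

namespace Cfsg.Agent.helper4.Dk

open Matrix
open scoped LinearAlgebra.Projectivization MatrixGroups

variable {K : Type*} [Field K]

theorem uS_add (a b : K) : uS (a + b) = uS a * uS b := by
  apply sl_ext' <;> simp [mul_00, mul_01, mul_10, mul_11, add_comm]

theorem uS_zero : uS (0 : K) = 1 := by
  apply sl_ext' <;> simp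

theorem uS_inv (a : K) : (uS a)⁻¹ = uS (-a) := by
  apply inv_eq_of_mul_eq_one_right
  rw [← uS_add, add_neg_cancel, uS_zero]

theorem uS_injective : Function.Injective (uS : K → SpecialLinearGroup (Fin 2) K) := by
  intro a b h
  have := congrArg (fun g : SpecialLinearGroup (Fin 2) K => g 0 1) h
  simpa using this

theorem lS_add (a b : K) : lS (a + b) = lS a * lS b := by
  apply sl_ext' <;> simp [mul_00, mul_01, mul_10, mul_11, add_comm]

theorem lS_zero : lS (0 : K) = 1 := by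
  apply sl_ext' <;> simp

theorem lS_inv (a : K) : (lS a)⁻¹ = lS (-a) := by
  apply inv_eq_of_mul_eq_one_right
  rw [← lS_add, add_neg_cancel, lS_zero]

@[simp] theorem neg_00 (g : SpecialLinearGroup (Fin 2) K) : (-g) 0 0 = - g 0 0 := by
  simp [Matrix.SpecialLinearGroup.coe_neg]
@[simp] theorem neg_01 (g : SpecialLinearGroup (Fin 2) K) : (-g) 0 1 = - g 0 1 := by
  simp [Matrix.SpecialLinearGroup.coe_neg]
@[simp] theorem neg_10 (g : SpecialLinearGroup (Fin 2) K) : (-g) 1 0 = - g 1 0 := by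
  simp [Matrix.SpecialLinearGroup.coe_neg]
@[simp] theorem neg_11 (g : SpecialLinearGroup (Fin 2) K) : (-g) 1 1 = - g 1 1 := by
  simp [Matrix.SpecialLinearGroup.coe_neg]

/-- upper triangular elements of `H` -/
def GB (H : Subgroup (SpecialLinearGroup (Fin 2) K)) : Subgroup (SpecialLinearGroup (Fin 2) K) where
  carrier := {g | g ∈ H ∧ g 1 0 = 0}
  mul_mem' := by
    rintro g h ⟨hg, hg0⟩ ⟨hh, hh0⟩
    exact ⟨H.mul_mem hg hh, by rw [mul_10, hg0, hh0]; ring⟩
  one_mem' := ⟨H.one_mem, by simp⟩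
  inv_mem' := by
    rintro g ⟨hg, hg0⟩
    exact ⟨H.inv_mem hg, by rw [inv_10, hg0, neg_zero]⟩

theorem mem_GB {H : Subgroup (SpecialLinearGroup (Fin 2) K)} {g : SpecialLinearGroup (Fin 2) K} :
    g ∈ GB H ↔ g ∈ H ∧ g 1 0 = 0 := Iff.rfl

theorem diag_mul_of_tri (g : SpecialLinearGroup (Fin 2) K) (h : g 1 0 = 0) : g 0 0 * g 1 1 = 1 := by
  have := det_eq g
  rw [h, mul_zero, sub_zero] at this
  exact this

/-- upper triangular elements of `H` with diagonal `±1` -/
def ZP (H : Subgroup (SpecialLinearGroup (Fin 2) K)) : Subgroup (SpecialLinearGroup (Fin 2) K) where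
  carrier := {g | g ∈ H ∧ g 1 0 = 0 ∧ (g 0 0 = 1 ∨ g 0 0 = -1)}
  mul_mem' := by
    rintro g h ⟨hg, hg0, hg1⟩ ⟨hh, hh0, hh1⟩
    refine ⟨H.mul_mem hg hh, by rw [mul_10, hg0, hh0]; ring, ?_⟩
    rw [mul_00, hh0, mul_zero, add_zero]
    rcases hg1 with h1 | h1 <;> rcases hh1 with h2 | h2 <;> rw [h1, h2] <;> simp
  one_mem' := ⟨H.one_mem, by simp, Or.inl (by simp)⟩
  inv_mem' := by
    rintro g ⟨hg, hg0, hg1⟩
    refine ⟨H.inv_mem hg, by rw [inv_10, hg0, neg_zero], ?_⟩
    rw [inv_00]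
    have hd := diag_mul_of_tri g hg0
    rcases hg1 with h1 | h1
    · left; rw [h1, one_mul] at hd; exact hd
    · right; rw [h1] at hd; linear_combination -hd

theorem mem_ZP {H : Subgroup (SpecialLinearGroup (Fin 2) K)} {g : SpecialLinearGroup (Fin 2) K} :
    g ∈ ZP H ↔ g ∈ H ∧ g 1 0 = 0 ∧ (g 0 0 = 1 ∨ g 0 0 = -1) := Iff.rfl

theorem ZP_le_GB (H : Subgroup (SpecialLinearGroup (Fin 2) K)) : ZP H ≤ GB H :=
  fun _ hg => ⟨hg.1, hg.2.1⟩

/-- parameters of the upper unitriangular elements of `H` -/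
def AA (H : Subgroup (SpecialLinearGroup (Fin 2) K)) : AddSubgroup K where
  carrier := {a | uS a ∈ H}
  add_mem' := by
    intro a b ha hb
    simp only [Set.mem_ofPred_eq] at ha hb ⊢
    rw [uS_add]; exact H.mul_mem ha hb
  zero_mem' := by
    simp only [Set.mem_ofPred_eq]
    rw [uS_zero]; exact H.one_mem
  neg_mem' := by
    intro a ha
    simp only [Set.mem_ofPred_eq] at ha ⊢
    rw [← uS_inv]; exact H.inv_mem ha

theorem mem_AA {H : Subgroup (SpecialLinearGroup (Fin 2) K)} {a : K} : a ∈ AA H ↔ uS a ∈ H :=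
  Iff.rfl

theorem eq_uS_of (g : SpecialLinearGroup (Fin 2) K) (h10 : g 1 0 = 0) (h00 : g 0 0 = 1) :
    g = uS (g 0 1) := by
  have hd := diag_mul_of_tri g h10
  rw [h00, one_mul] at hd
  apply sl_ext' <;> simp [h10, h00, hd]

theorem eq_neg_uS_of (g : SpecialLinearGroup (Fin 2) K) (h10 : g 1 0 = 0) (h00 : g 0 0 = -1) :
    g = -uS (-g 0 1) := by
  have hd := diag_mul_of_tri g h10
  rw [h00] at hd
  have h11 : g 1 1 = -1 := by linear_combination -hd
  apply sl_ext' <;> simp [h10, h00, h11]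

theorem neg_one_ne_one (h2 : (2 : K) ≠ 0) : (-1 : SpecialLinearGroup (Fin 2) K) ≠ 1 := by
  intro h
  have := congrArg (fun g : SpecialLinearGroup (Fin 2) K => g 0 0) h
  simp at this
  apply h2
  linear_combination -this

theorem neg_mem {H : Subgroup (SpecialLinearGroup (Fin 2) K)} (hH : -1 ∈ H)
    {g : SpecialLinearGroup (Fin 2) K} (hg : g ∈ H) : -g ∈ H := by
  have : -g = (-1) * g := by simp
  rw [this]; exact H.mul_mem hH hg

theorem card_ZP (h2 : (2 : K) ≠ 0) (H : Subgroup (SpecialLinearGroup (Fin 2) K)) (hH : -1 ∈ H) :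
    Nat.card (ZP H) = 2 * Nat.card (AA H) := by
  have e : (ZP H) ≃ (Fin 2 × AA H) := by
    classical
    refine Equiv.ofBijective
      (fun g => if h : (g : SpecialLinearGroup (Fin 2) K) 0 0 = 1 then
        (0, ⟨(g : SpecialLinearGroup (Fin 2) K) 0 1, ?_⟩)
        else (1, ⟨-(g : SpecialLinearGroup (Fin 2) K) 0 1, ?_⟩)) ⟨?_, ?_⟩
    · obtain ⟨hg, hg0, hg1⟩ := g.2
      rw [mem_AA, ← eq_uS_of _ hg0 h]; exact hg
    · obtain ⟨hg, hg0, hg1⟩ := g.2
      have h' : (g : SpecialLinearGroup (Fin 2) K) 0 0 = -1 := hg1.resolve_left h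
      rw [mem_AA]
      have := eq_neg_uS_of _ hg0 h'
      have h3 : uS (-(g : SpecialLinearGroup (Fin 2) K) 0 1) = -(g : SpecialLinearGroup (Fin 2) K) := by
        rw [this]; simp
      rw [h3]; exact neg_mem hH hg
    · intro g g' hgg
      obtain ⟨hg, hg0, hg1⟩ := g.2
      obtain ⟨hg', hg0', hg1'⟩ := g'.2
      by_cases h : (g : SpecialLinearGroup (Fin 2) K) 0 0 = 1 <;>
        by_cases h' : (g' : SpecialLinearGroup (Fin 2) K) 0 0 = 1
      · simp only [h, h', dif_pos] at hgg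
        have h01 : (g : SpecialLinearGroup (Fin 2) K) 0 1 = (g' : SpecialLinearGroup (Fin 2) K) 0 1 :=
          congrArg Subtype.val (Prod.mk.inj hgg).2
        apply Subtype.ext
        rw [eq_uS_of _ hg0 h, eq_uS_of _ hg0' h', h01]
      · simp only [h, h', dif_pos, dif_neg, not_false_eq_true] at hgg
        exact absurd (Prod.mk.inj hgg).1 (by decide)
      · simp only [h, h', dif_pos, dif_neg, not_false_eq_true] at hgg
        exact absurd (Prod.mk.inj hgg).1 (by decide)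
      · simp only [h, h', dif_neg, not_false_eq_true] at hgg
        have h01 : -(g : SpecialLinearGroup (Fin 2) K) 0 1 = -(g' : SpecialLinearGroup (Fin 2) K) 0 1 :=
          congrArg Subtype.val (Prod.mk.inj hgg).2
        apply Subtype.ext
        rw [eq_neg_uS_of _ hg0 (hg1.resolve_left h), eq_neg_uS_of _ hg0' (hg1'.resolve_left h'), h01]
    · rintro ⟨i, a, ha⟩
      fin_cases i
      · refine ⟨⟨uS a, ha, by simp, Or.inl (by simp)⟩, ?_⟩
        simp
      · refine ⟨⟨-uS a, neg_mem hH (by rw [← mem_AA]; exact ha), by simp,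
          Or.inr (by simp)⟩, ?_⟩
        have hne : ¬ ((-1 : K) = 1) := by
          intro h
          apply h2
          linear_combination -h
        simp [hne]
  rw [Nat.card_congr e, Nat.card_prod, Nat.card_eq_fintype_card, Fintype.card_fin]


theorem conj_uS (g : SpecialLinearGroup (Fin 2) K) (h10 : g 1 0 = 0) (a : K) :
    g * uS a * g⁻¹ = uS (g 0 0 ^ 2 * a) := by
  have hd := diag_mul_of_tri g h10
  apply sl_ext'
  · rw [mul_00, mul_00, mul_01, inv_00, inv_10]; simp [h10, hd]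
  · rw [mul_01, mul_00, mul_01, inv_01, inv_11]; simp [h10]; ring
  · rw [mul_10, mul_10, mul_11, inv_00, inv_10]; simp [h10]
  · rw [mul_11, mul_10, mul_11, inv_01, inv_11]; simp [h10]; linear_combination hd

theorem card_le_of_fiber {G : Type*} [Group G] (D C : Subgroup G) (hCD : C ≤ D)
    {T : Type*} [Finite T] (f : D → T) (hf : ∀ g h : D, f g = f h → (g : G)⁻¹ * h ∈ C) :
    Nat.card D ≤ Nat.card C * Nat.card T := by
  have h1 := Subgroup.card_eq_card_quotient_mul_card_subgroup (C.subgroupOf D)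
  have h2 : Nat.card (C.subgroupOf D) = Nat.card C :=
    Nat.card_congr (Subgroup.subgroupOfEquivOfLe hCD).toEquiv
  have h3 : Nat.card (D ⧸ C.subgroupOf D) ≤ Nat.card T := by
    apply Nat.card_le_card_of_injective (fun q => f q.out)
    intro q q' h
    have := hf _ _ h
    rw [← QuotientGroup.out_eq' q, ← QuotientGroup.out_eq' q']
    apply QuotientGroup.eq.mpr
    exact Subgroup.mem_subgroupOf.mpr (by simpa using this)
  rw [h1, h2, mul_comm]; exact Nat.mul_le_mul_left _ h3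

theorem three_le_card_AA (h2 : (2 : K) ≠ 0) (H : Subgroup (SpecialLinearGroup (Fin 2) K))
    [Finite (AA H)] {a : K} (ha : a ∈ AA H) (ha0 : a ≠ 0) : 3 ≤ Nat.card (AA H) := by
  classical
  have hne : a ≠ -a := by
    intro h
    apply ha0
    have : (2 : K) * a = 0 := by linear_combination h
    exact (mul_eq_zero.mp this).resolve_left h2
  have h3 : ({0, a, -a} : Finset K).card = 3 := by
    rw [Finset.card_insert_of_notMem, Finset.card_insert_of_notMem, Finset.card_singleton]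
    · simpa using hne
    · simp only [Finset.mem_insert, Finset.mem_singleton, not_or]
      exact ⟨Ne.symm ha0, fun h => ha0 (by rw [← neg_eq_zero]; exact h.symm)⟩
  have hsub : ((({0, a, -a} : Finset K)) : Set K) ⊆ (AA H : Set K) := by
    intro x hx
    simp only [Finset.coe_insert, Finset.coe_singleton, Set.mem_insert_iff,
      Set.mem_singleton_iff] at hx
    rcases hx with rfl | rfl | rfl
    · exact (AA H).zero_mem
    · exact ha
    · exact (AA H).neg_mem ha
  have hfin : (AA H : Set K).Finite := Set.toFinite _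
  have := Set.ncard_le_ncard hsub hfin
  rw [Set.ncard_coe_finset, h3] at this
  rw [← Nat.card_coe_set_eq] at this
  exact this

instance finite_GB (H : Subgroup (SpecialLinearGroup (Fin 2) K)) [Finite H] : Finite (GB H) :=
  Finite.of_injective (fun g : GB H => (⟨g.1, g.2.1⟩ : H))
    (fun _ _ h => Subtype.ext (congrArg (fun x : H => (x : SpecialLinearGroup (Fin 2) K)) h))

instance finite_ZP (H : Subgroup (SpecialLinearGroup (Fin 2) K)) [Finite H] : Finite (ZP H) :=
  Finite.of_injective (fun g : ZP H => (⟨g.1, g.2.1⟩ : H))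
    (fun _ _ h => Subtype.ext (congrArg (fun x : H => (x : SpecialLinearGroup (Fin 2) K)) h))

instance finite_AA (H : Subgroup (SpecialLinearGroup (Fin 2) K)) [Finite H] : Finite (AA H) :=
  Finite.of_injective (fun a : AA H => (⟨uS a.1, a.2⟩ : H))
    (fun _ _ h => Subtype.ext (uS_injective
      (congrArg (fun x : H => (x : SpecialLinearGroup (Fin 2) K)) h)))

theorem card_GB_le (H : Subgroup (SpecialLinearGroup (Fin 2) K)) [Finite H]
    {a₀ : K} (ha : a₀ ∈ AA H) (ha0 : a₀ ≠ 0) :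
    Nat.card (GB H) + Nat.card (ZP H) ≤ Nat.card (ZP H) * Nat.card (AA H) := by
  classical
  have hmem : ∀ g : GB H, (g : SpecialLinearGroup (Fin 2) K) 0 0 ^ 2 * a₀ ∈ AA H ∧
      (g : SpecialLinearGroup (Fin 2) K) 0 0 ^ 2 * a₀ ≠ 0 := by
    intro g
    obtain ⟨hg, hg0⟩ := g.2
    constructor
    · rw [mem_AA, ← conj_uS _ hg0]
      exact H.mul_mem (H.mul_mem hg ha) (H.inv_mem hg)
    · have hd := diag_mul_of_tri _ hg0
      have h00 : (g : SpecialLinearGroup (Fin 2) K) 0 0 ≠ 0 := by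
        intro h0; rw [h0, zero_mul] at hd; exact zero_ne_one hd
      exact mul_ne_zero (pow_ne_zero 2 h00) ha0
  have h1 := card_le_of_fiber (GB H) (ZP H) (ZP_le_GB H)
    (fun g : GB H => (⟨⟨_, (hmem g).1⟩, fun h => (hmem g).2 (congrArg Subtype.val h)⟩ :
      {a : AA H // a ≠ 0}))
    (by
      intro g h hgh
      obtain ⟨hg, hg0⟩ := g.2
      obtain ⟨hh, hh0⟩ := h.2
      have h2 : (g : SpecialLinearGroup (Fin 2) K) 0 0 ^ 2 * a₀ =
          (h : SpecialLinearGroup (Fin 2) K) 0 0 ^ 2 * a₀ :=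
        congrArg (fun x : {a : AA H // a ≠ 0} => ((x : AA H) : K)) hgh
      have h3 := mul_right_cancel₀ ha0 h2
      have hdg := diag_mul_of_tri _ hg0
      have hdh := diag_mul_of_tri _ hh0
      refine ⟨H.mul_mem (H.inv_mem hg) hh, ?_, ?_⟩
      · rw [mul_10, inv_10, inv_11, hg0, hh0]; ring
      · rw [mul_00, inv_00, inv_01, hh0, mul_zero, add_zero]
        have h4 : ((g : SpecialLinearGroup (Fin 2) K) 1 1 * (h : SpecialLinearGroup (Fin 2) K) 0 0 - 1) *
            ((g : SpecialLinearGroup (Fin 2) K) 1 1 * (h : SpecialLinearGroup (Fin 2) K) 0 0 + 1) = 0 := by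
          have : ((g : SpecialLinearGroup (Fin 2) K) 1 1) ^ 2 *
              (g : SpecialLinearGroup (Fin 2) K) 0 0 ^ 2 = 1 := by
            rw [← mul_pow, mul_comm, hdg, one_pow]
          linear_combination (-((g : SpecialLinearGroup (Fin 2) K) 1 1) ^ 2) * h3 + this
        rcases mul_eq_zero.mp h4 with h5 | h5
        · left; exact sub_eq_zero.mp h5
        · right; exact eq_neg_of_add_eq_zero_left h5)
  have h2 : Nat.card {a : AA H // a ≠ 0} + 1 = Nat.card (AA H) := by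
    rw [← Nat.card_congr (Equiv.optionSubtypeNe (0 : AA H)), Finite.card_option]
  calc Nat.card (GB H) + Nat.card (ZP H)
      ≤ Nat.card (ZP H) * Nat.card {a : AA H // a ≠ 0} + Nat.card (ZP H) := Nat.add_le_add_right h1 _
    _ = Nat.card (ZP H) * (Nat.card {a : AA H // a ≠ 0} + 1) := by ring
    _ = Nat.card (ZP H) * Nat.card (AA H) := by rw [h2]


/-- the conjugate subgroup `s⁻¹ H s` -/
def cj (s : SpecialLinearGroup (Fin 2) K) (H : Subgroup (SpecialLinearGroup (Fin 2) K)) :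
    Subgroup (SpecialLinearGroup (Fin 2) K) := H.comap (MulAut.conj s).toMonoidHom

theorem mem_cj {s g : SpecialLinearGroup (Fin 2) K} {H : Subgroup (SpecialLinearGroup (Fin 2) K)} :
    g ∈ cj s H ↔ s * g * s⁻¹ ∈ H := Iff.rfl

theorem neg_one_mem_cj {s : SpecialLinearGroup (Fin 2) K}
    {H : Subgroup (SpecialLinearGroup (Fin 2) K)} (hH : -1 ∈ H) : -1 ∈ cj s H := by
  rw [mem_cj]
  have : s * -1 * s⁻¹ = -1 := by simp
  rw [this]; exact hH

/-- conjugation `g ↦ s⁻¹ g s` as an equivalence `H ≃ cj s H` -/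
def cjEquiv (s : SpecialLinearGroup (Fin 2) K) (H : Subgroup (SpecialLinearGroup (Fin 2) K)) :
    H ≃ cj s H where
  toFun g := ⟨s⁻¹ * g * s, by rw [mem_cj]; convert g.2 using 1; group⟩
  invFun g := ⟨s * g * s⁻¹, g.2⟩
  left_inv g := by apply Subtype.ext; simp; group
  right_inv g := by apply Subtype.ext; simp; group

instance finite_cj (s : SpecialLinearGroup (Fin 2) K) (H : Subgroup (SpecialLinearGroup (Fin 2) K))
    [Finite H] : Finite (cj s H) := Finite.of_equiv _ (cjEquiv s H)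

theorem card_cj (s : SpecialLinearGroup (Fin 2) K) (H : Subgroup (SpecialLinearGroup (Fin 2) K)) :
    Nat.card (cj s H) = Nat.card H := (Nat.card_congr (cjEquiv s H)).symm

/-- number of non-scalar elements of `H` fixing `y` -/
noncomputable def N1 (H : Subgroup (SpecialLinearGroup (Fin 2) K)) (y : ℙ K (Fin 2 → K)) : ℕ :=
  {g : SpecialLinearGroup (Fin 2) K | g ∈ H ∧ g ≠ 1 ∧ g ≠ -1 ∧ g • y = y}.ncard

/-- number of non-scalar elements of `H` with squared trace 4 fixing `y` -/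
noncomputable def N2 (H : Subgroup (SpecialLinearGroup (Fin 2) K)) (y : ℙ K (Fin 2 → K)) : ℕ :=
  {g : SpecialLinearGroup (Fin 2) K | g ∈ H ∧ g ≠ 1 ∧ g ≠ -1 ∧ tr g ^ 2 = 4 ∧ g • y = y}.ncard

/-- the stabiliser of `y` in `H` -/
def stabIn (H : Subgroup (SpecialLinearGroup (Fin 2) K)) (y : ℙ K (Fin 2 → K)) :
    Subgroup (SpecialLinearGroup (Fin 2) K) :=
  H ⊓ MulAction.stabilizer (SpecialLinearGroup (Fin 2) K) y

theorem mem_stabIn {H : Subgroup (SpecialLinearGroup (Fin 2) K)} {y : ℙ K (Fin 2 → K)}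
    {g : SpecialLinearGroup (Fin 2) K} : g ∈ stabIn H y ↔ g ∈ H ∧ g • y = y := by
  rw [stabIn, Subgroup.mem_inf, MulAction.mem_stabilizer_iff]

instance finite_stabIn (H : Subgroup (SpecialLinearGroup (Fin 2) K)) [Finite H]
    (y : ℙ K (Fin 2 → K)) : Finite (stabIn H y) :=
  Finite.of_injective (fun g : stabIn H y => (⟨g.1, (mem_stabIn.mp g.2).1⟩ : H))
    (fun _ _ h => Subtype.ext (congrArg (fun x : H => (x : SpecialLinearGroup (Fin 2) K)) h))

theorem conj_ne_one_iff (s g : SpecialLinearGroup (Fin 2) K) : s⁻¹ * g * s ≠ 1 ↔ g ≠ 1 := by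
  rw [not_iff_not]
  constructor
  · intro h
    have : g = s * (s⁻¹ * g * s) * s⁻¹ := by group
    rw [this, h]; group
  · rintro rfl; group

theorem conj_ne_neg_one_iff (s g : SpecialLinearGroup (Fin 2) K) :
    s⁻¹ * g * s ≠ -1 ↔ g ≠ -1 := by
  rw [not_iff_not]
  constructor
  · intro h
    have : g = s * (s⁻¹ * g * s) * s⁻¹ := by group
    rw [this, h]; simp
  · rintro rfl; simp

theorem N1_conj (s : SpecialLinearGroup (Fin 2) K) (H : Subgroup (SpecialLinearGroup (Fin 2) K))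
    (y : ℙ K (Fin 2 → K)) : N1 H (s • y) = N1 (cj s H) y := by
  unfold N1
  have : {g : SpecialLinearGroup (Fin 2) K | g ∈ cj s H ∧ g ≠ 1 ∧ g ≠ -1 ∧ g • y = y} =
      (fun g => s⁻¹ * g * s) '' {g | g ∈ H ∧ g ≠ 1 ∧ g ≠ -1 ∧ g • (s • y) = s • y} := by
    ext g
    simp only [Set.mem_ofPred_eq, Set.mem_image]
    constructor
    · rintro ⟨h1, h2, h3, h4⟩
      refine ⟨s * g * s⁻¹, ⟨h1, ?_, ?_, ?_⟩, by group⟩
      · have := (conj_ne_one_iff s⁻¹ g).mpr h2
        simpa using this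
      · have := (conj_ne_neg_one_iff s⁻¹ g).mpr h3
        simpa using this
      · rw [mul_smul, mul_smul, inv_smul_smul, h4]
    · rintro ⟨g', ⟨h1, h2, h3, h4⟩, rfl⟩
      refine ⟨?_, (conj_ne_one_iff s g').mpr h2, (conj_ne_neg_one_iff s g').mpr h3, ?_⟩
      · rw [mem_cj]; convert h1 using 1; group
      · rw [mul_smul, mul_smul, h4, inv_smul_smul]
  rw [this]
  refine (Set.ncard_image_of_injective _ ?_).symm
  intro a b hab
  simpa using hab

theorem N2_conj (s : SpecialLinearGroup (Fin 2) K) (H : Subgroup (SpecialLinearGroup (Fin 2) K))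
    (y : ℙ K (Fin 2 → K)) : N2 H (s • y) = N2 (cj s H) y := by
  unfold N2
  have : {g : SpecialLinearGroup (Fin 2) K | g ∈ cj s H ∧ g ≠ 1 ∧ g ≠ -1 ∧ tr g ^ 2 = 4 ∧ g • y = y} =
      (fun g => s⁻¹ * g * s) '' {g | g ∈ H ∧ g ≠ 1 ∧ g ≠ -1 ∧ tr g ^ 2 = 4 ∧ g • (s • y) = s • y} := by
    ext g
    simp only [Set.mem_ofPred_eq, Set.mem_image]
    constructor
    · rintro ⟨h1, h2, h3, h5, h4⟩
      refine ⟨s * g * s⁻¹, ⟨h1, ?_, ?_, ?_, ?_⟩, by group⟩
      · have := (conj_ne_one_iff s⁻¹ g).mpr h2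
        simpa using this
      · have := (conj_ne_neg_one_iff s⁻¹ g).mpr h3
        simpa using this
      · rw [tr_conj]; exact h5
      · rw [mul_smul, mul_smul, inv_smul_smul, h4]
    · rintro ⟨g', ⟨h1, h2, h3, h5, h4⟩, rfl⟩
      refine ⟨?_, (conj_ne_one_iff s g').mpr h2, (conj_ne_neg_one_iff s g').mpr h3, ?_, ?_⟩
      · rw [mem_cj]; convert h1 using 1; group
      · have := tr_conj s⁻¹ g'
        rw [inv_inv] at this
        rw [this]; exact h5
      · rw [mul_smul, mul_smul, h4, inv_smul_smul]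
  rw [this]
  refine (Set.ncard_image_of_injective _ ?_).symm
  intro a b hab
  simpa using hab

theorem card_stabIn_conj (s : SpecialLinearGroup (Fin 2) K)
    (H : Subgroup (SpecialLinearGroup (Fin 2) K)) (y : ℙ K (Fin 2 → K)) :
    Nat.card (stabIn H (s • y)) = Nat.card (stabIn (cj s H) y) := by
  apply Nat.card_congr
  refine ⟨fun g => ⟨s⁻¹ * g * s, ?_⟩, fun g => ⟨s * g * s⁻¹, ?_⟩, ?_, ?_⟩
  · obtain ⟨h1, h2⟩ := mem_stabIn.mp g.2
    rw [mem_stabIn, mem_cj]
    refine ⟨by convert h1 using 1; group, ?_⟩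
    rw [mul_smul, mul_smul, h2, inv_smul_smul]
  · obtain ⟨h1, h2⟩ := mem_stabIn.mp g.2
    rw [mem_stabIn]
    refine ⟨h1, ?_⟩
    rw [mul_smul, mul_smul, inv_smul_smul, h2]
  · intro g; apply Subtype.ext; simp; group
  · intro g; apply Subtype.ext; simp; group

theorem N1_add_two (h2 : (2 : K) ≠ 0) (H : Subgroup (SpecialLinearGroup (Fin 2) K)) [Finite H]
    (hH : -1 ∈ H) (y : ℙ K (Fin 2 → K)) : N1 H y + 2 = Nat.card (stabIn H y) := by
  classical
  have hfin : (stabIn H y : Set (SpecialLinearGroup (Fin 2) K)).Finite :=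
    Set.finite_coe_iff.mp (finite_stabIn H y)
  have hset : (stabIn H y : Set (SpecialLinearGroup (Fin 2) K)) =
      insert 1 (insert (-1) {g | g ∈ H ∧ g ≠ 1 ∧ g ≠ -1 ∧ g • y = y}) := by
    ext g
    simp only [SetLike.mem_coe, mem_stabIn, Set.mem_insert_iff, Set.mem_ofPred_eq]
    constructor
    · rintro ⟨h1, h3⟩
      by_cases hg1 : g = 1
      · exact Or.inl hg1
      · by_cases hg2 : g = -1
        · exact Or.inr (Or.inl hg2)
        · exact Or.inr (Or.inr ⟨h1, hg1, hg2, h3⟩)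
    · rintro (rfl | rfl | ⟨h1, _, _, h3⟩)
      · exact ⟨H.one_mem, one_smul _ _⟩
      · refine ⟨hH, ?_⟩
        induction y using Projectivization.ind with | h v hv =>
        rw [Projectivization.smul_mk, Projectivization.mk_eq_mk_iff']
        refine ⟨-1, ?_⟩
        rw [smul_vec]
        ext i
        fin_cases i <;> simp
      · exact ⟨h1, h3⟩
  have hfin2 : {g : SpecialLinearGroup (Fin 2) K | g ∈ H ∧ g ≠ 1 ∧ g ≠ -1 ∧ g • y = y}.Finite := by
    apply hfin.subset
    rw [hset]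
    exact (Set.subset_insert _ _).trans (Set.subset_insert _ _)
  have hc : Nat.card (stabIn H y) = (stabIn H y : Set (SpecialLinearGroup (Fin 2) K)).ncard := rfl
  have e1 : (insert (-1) {g : SpecialLinearGroup (Fin 2) K | g ∈ H ∧ g ≠ 1 ∧ g ≠ -1 ∧ g • y = y}).ncard =
      {g : SpecialLinearGroup (Fin 2) K | g ∈ H ∧ g ≠ 1 ∧ g ≠ -1 ∧ g • y = y}.ncard + 1 :=
    Set.ncard_insert_of_notMem (by simp) hfin2
  have e2 : (insert 1 (insert (-1)
      {g : SpecialLinearGroup (Fin 2) K | g ∈ H ∧ g ≠ 1 ∧ g ≠ -1 ∧ g • y = y})).ncard =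
      (insert (-1) {g : SpecialLinearGroup (Fin 2) K | g ∈ H ∧ g ≠ 1 ∧ g ≠ -1 ∧ g • y = y}).ncard + 1 := by
    apply Set.ncard_insert_of_notMem _ (hfin2.insert _)
    simp only [Set.mem_insert_iff, Set.mem_ofPred_eq, not_or]
    exact ⟨(neg_one_ne_one h2).symm, fun h => h.2.1 rfl⟩
  rw [hc, hset, e2, e1]
  rfl


theorem stabIn_pInf (H : Subgroup (SpecialLinearGroup (Fin 2) K)) : stabIn H pInf = GB H := by
  ext g
  rw [mem_stabIn, mem_GB, fixed_pInf_iff]

theorem N2_pInf_add_two (h2 : (2 : K) ≠ 0) (H : Subgroup (SpecialLinearGroup (Fin 2) K)) [Finite H]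
    (hH : -1 ∈ H) : N2 H pInf + 2 = Nat.card (ZP H) := by
  classical
  have hfin : (ZP H : Set (SpecialLinearGroup (Fin 2) K)).Finite :=
    Set.finite_coe_iff.mp (finite_ZP H)
  have hset : (ZP H : Set (SpecialLinearGroup (Fin 2) K)) =
      insert 1 (insert (-1) {g | g ∈ H ∧ g ≠ 1 ∧ g ≠ -1 ∧ tr g ^ 2 = 4 ∧
        g • (pInf : ℙ K (Fin 2 → K)) = pInf}) := by
    ext g
    simp only [SetLike.mem_coe, mem_ZP, Set.mem_insert_iff, Set.mem_ofPred_eq]
    constructor
    · rintro ⟨h1, h3, h4⟩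
      by_cases hg1 : g = 1
      · exact Or.inl hg1
      · by_cases hg2 : g = -1
        · exact Or.inr (Or.inl hg2)
        · refine Or.inr (Or.inr ⟨h1, hg1, hg2, ?_, (fixed_pInf_iff g).mpr h3⟩)
          rw [tr_sq_tri g h3]
          have hd := diag_mul_of_tri g h3
          rcases h4 with h4 | h4
          · rw [h4, one_mul] at hd; rw [h4, hd]
          · rw [h4] at hd; rw [h4]; linear_combination hd
    · rintro (rfl | rfl | ⟨h1, _, _, h3, h4⟩)
      · exact ⟨H.one_mem, by simp, Or.inl (by simp)⟩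
      · exact ⟨hH, by simp, Or.inr (by simp)⟩
      · have h10 := (fixed_pInf_iff g).mp h4
        refine ⟨h1, h10, ?_⟩
        have he := (tr_sq_tri g h10).mp h3
        have hd := diag_mul_of_tri g h10
        rw [← he] at hd
        have : (g 0 0 - 1) * (g 0 0 + 1) = 0 := by linear_combination hd
        rcases mul_eq_zero.mp this with h5 | h5
        · left; exact sub_eq_zero.mp h5
        · right; exact eq_neg_of_add_eq_zero_left h5
  have hfin2 : {g : SpecialLinearGroup (Fin 2) K | g ∈ H ∧ g ≠ 1 ∧ g ≠ -1 ∧ tr g ^ 2 = 4 ∧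
        g • (pInf : ℙ K (Fin 2 → K)) = pInf}.Finite := by
    apply hfin.subset
    rw [hset]
    exact (Set.subset_insert _ _).trans (Set.subset_insert _ _)
  have hc : Nat.card (ZP H) = (ZP H : Set (SpecialLinearGroup (Fin 2) K)).ncard := rfl
  have e1 : (insert (-1) {g : SpecialLinearGroup (Fin 2) K | g ∈ H ∧ g ≠ 1 ∧ g ≠ -1 ∧ tr g ^ 2 = 4 ∧
        g • (pInf : ℙ K (Fin 2 → K)) = pInf}).ncard =
      {g : SpecialLinearGroup (Fin 2) K | g ∈ H ∧ g ≠ 1 ∧ g ≠ -1 ∧ tr g ^ 2 = 4 ∧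
        g • (pInf : ℙ K (Fin 2 → K)) = pInf}.ncard + 1 :=
    Set.ncard_insert_of_notMem (by simp) hfin2
  have e2 : (insert 1 (insert (-1)
      {g : SpecialLinearGroup (Fin 2) K | g ∈ H ∧ g ≠ 1 ∧ g ≠ -1 ∧ tr g ^ 2 = 4 ∧
        g • (pInf : ℙ K (Fin 2 → K)) = pInf})).ncard =
      (insert (-1) {g : SpecialLinearGroup (Fin 2) K | g ∈ H ∧ g ≠ 1 ∧ g ≠ -1 ∧ tr g ^ 2 = 4 ∧
        g • (pInf : ℙ K (Fin 2 → K)) = pInf}).ncard + 1 := by
    apply Set.ncard_insert_of_notMem _ (hfin2.insert _)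
    simp only [Set.mem_insert_iff, Set.mem_ofPred_eq, not_or]
    exact ⟨(neg_one_ne_one h2).symm, fun h => h.2.1 rfl⟩
  rw [hc, hset, e2, e1]
  rfl

/-- the orbit of `y` under `H` -/
def orb (H : Subgroup (SpecialLinearGroup (Fin 2) K)) (y : ℙ K (Fin 2 → K)) :
    Set (ℙ K (Fin 2 → K)) := {z | ∃ g ∈ H, g • y = z}

theorem orb_eq (H : Subgroup (SpecialLinearGroup (Fin 2) K)) (y : ℙ K (Fin 2 → K)) :
    orb H y = MulAction.orbit H y := by
  ext z
  simp only [orb, Set.mem_ofPred_eq, MulAction.mem_orbit_iff]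
  constructor
  · rintro ⟨g, hg, rfl⟩; exact ⟨⟨g, hg⟩, rfl⟩
  · rintro ⟨g, rfl⟩; exact ⟨g.1, g.2, rfl⟩

theorem orbit_stabilizer (H : Subgroup (SpecialLinearGroup (Fin 2) K)) [Finite H]
    (y : ℙ K (Fin 2 → K)) : (orb H y).ncard * Nat.card (stabIn H y) = Nat.card H := by
  have h1 : Nat.card (MulAction.orbit H y) * Nat.card (MulAction.stabilizer H y) = Nat.card H := by
    rw [← Nat.card_prod]
    exact Nat.card_congr (MulAction.orbitProdStabilizerEquivGroup H y)
  have h2 : Nat.card (MulAction.stabilizer H y) = Nat.card (stabIn H y) := by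
    apply Nat.card_congr
    refine ⟨fun g => ⟨g.1.1, mem_stabIn.mpr ⟨g.1.2, ?_⟩⟩,
      fun g => ⟨⟨g.1, (mem_stabIn.mp g.2).1⟩, ?_⟩, fun g => rfl, fun g => rfl⟩
    · have := g.2
      rw [MulAction.mem_stabilizer_iff] at this
      exact this
    · rw [MulAction.mem_stabilizer_iff]
      exact (mem_stabIn.mp g.2).2
  rw [← h1, h2, orb_eq]
  rfl

theorem orb_finite (H : Subgroup (SpecialLinearGroup (Fin 2) K)) [Finite H]
    (y : ℙ K (Fin 2 → K)) : (orb H y).Finite := by
  rw [orb_eq]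
  exact Set.finite_range _

end Cfsg.Agent.helper4.Dk
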