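import Mathlib
import Cfsg.Agent.Lib_helper4_DkB

set_option autoImplicit false
set_option linter.unusedSectionVars false

/-!
# Fixed-point counting for finite subgroups of `SL₂(K)`
-/

namespace Cfsg.Agent.helper4.Dk

open Matrix
open scoped LinearAlgebra.Projectivization MatrixGroups

variable {K : Type*} [Field K]

theorem cj_eq_of_mem {s : SpecialLinearGroup (Fin 2) K}
    {H : Subgroup (SpecialLinearGroup (Fin 2) K)} (hs : s ∈ H) : cj s H = H := by
  ext g
  rw [mem_cj]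
  constructor
  · intro h
    have : g = s⁻¹ * (s * g * s⁻¹) * s := by group
    rw [this]
    exact H.mul_mem (H.mul_mem (H.inv_mem hs) h) hs
  · intro h
    exact H.mul_mem (H.mul_mem hs h) (H.inv_mem hs)

theorem N1_smul {s : SpecialLinearGroup (Fin 2) K} {H : Subgroup (SpecialLinearGroup (Fin 2) K)}
    (hs : s ∈ H) (y : ℙ K (Fin 2 → K)) : N1 H (s • y) = N1 H y := by
  rw [N1_conj, cj_eq_of_mem hs]

theorem N2_smul {s : SpecialLinearGroup (Fin 2) K} {H : Subgroup (SpecialLinearGroup (Fin 2) K)}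
    (hs : s ∈ H) (y : ℙ K (Fin 2 → K)) : N2 H (s • y) = N2 H y := by
  rw [N2_conj, cj_eq_of_mem hs]

/-- the set of points with non-central stabiliser -/
def YY (H : Subgroup (SpecialLinearGroup (Fin 2) K)) : Set (ℙ K (Fin 2 → K)) :=
  {y | ∃ g ∈ H, g ≠ 1 ∧ g ≠ -1 ∧ g • y = y}

theorem orb_subset_YY {H : Subgroup (SpecialLinearGroup (Fin 2) K)} {y : ℙ K (Fin 2 → K)}
    (hy : y ∈ YY H) : orb H y ⊆ YY H := by
  rintro z ⟨s, hs, rfl⟩
  obtain ⟨g, hg, h1, h2, h3⟩ := hy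
  refine ⟨s * g * s⁻¹, H.mul_mem (H.mul_mem hs hg) (H.inv_mem hs), ?_, ?_, ?_⟩
  · have := (conj_ne_one_iff s⁻¹ g).mpr h1
    simpa using this
  · have := (conj_ne_neg_one_iff s⁻¹ g).mpr h2
    simpa using this
  · rw [mul_smul, mul_smul, inv_smul_smul, h3]

theorem orb_eq_of_mem {H : Subgroup (SpecialLinearGroup (Fin 2) K)} {y z : ℙ K (Fin 2 → K)}
    (hz : z ∈ orb H y) : orb H z = orb H y := by
  obtain ⟨s, hs, rfl⟩ := hz
  ext w
  constructor
  · rintro ⟨g, hg, rfl⟩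
    exact ⟨g * s, H.mul_mem hg hs, mul_smul _ _ _⟩
  · rintro ⟨g, hg, rfl⟩
    refine ⟨g * s⁻¹, H.mul_mem hg (H.inv_mem hs), ?_⟩
    rw [mul_smul, inv_smul_smul]

theorem mem_orb_self (H : Subgroup (SpecialLinearGroup (Fin 2) K)) (y : ℙ K (Fin 2 → K)) :
    y ∈ orb H y := ⟨1, H.one_mem, one_smul _ _⟩

theorem orb_disjoint {H : Subgroup (SpecialLinearGroup (Fin 2) K)} {y z : ℙ K (Fin 2 → K)}
    (hz : z ∉ orb H y) : Disjoint (orb H y) (orb H z) := by
  rw [Set.disjoint_left]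
  intro w hw1 hw2
  apply hz
  rw [← orb_eq_of_mem hw1, orb_eq_of_mem hw2]
  exact mem_orb_self H z

section counting

variable [IsAlgClosed K] (H : Subgroup (SpecialLinearGroup (Fin 2) K)) [Finite H]

theorem nonscalar_finite :
    {g : SpecialLinearGroup (Fin 2) K | g ∈ H ∧ g ≠ 1 ∧ g ≠ -1}.Finite := by
  have : (H : Set (SpecialLinearGroup (Fin 2) K)).Finite := Set.finite_coe_iff.mp inferInstance
  exact this.subset (fun g hg => hg.1)

theorem fix_finite (h2 : (2 : K) ≠ 0) (g : SpecialLinearGroup (Fin 2) K) (hg1 : g ≠ 1) (hg2 : g ≠ -1) :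
    {y : ℙ K (Fin 2 → K) | g • y = y}.Finite := by
  apply Set.finite_of_ncard_ne_zero
  by_cases h : tr g ^ 2 = 4
  · rw [(ncard_fix h2 g hg1 hg2).1 h]; norm_num
  · rw [(ncard_fix h2 g hg1 hg2).2 h]; norm_num

theorem YY_finite (h2 : (2 : K) ≠ 0) : (YY H).Finite := by
  have : YY H = ⋃ g ∈ {g : SpecialLinearGroup (Fin 2) K | g ∈ H ∧ g ≠ 1 ∧ g ≠ -1},
      {y : ℙ K (Fin 2 → K) | g • y = y} := by
    ext y
    simp only [YY, Set.mem_ofPred_eq, Set.mem_iUnion, exists_prop]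
    constructor
    · rintro ⟨g, hg, h1, h3, h4⟩; exact ⟨g, ⟨hg, h1, h3⟩, h4⟩
    · rintro ⟨g, ⟨hg, h1, h3⟩, h4⟩; exact ⟨g, hg, h1, h3, h4⟩
  rw [this]
  apply Set.Finite.biUnion (nonscalar_finite H)
  rintro g ⟨_, h1, h3⟩
  exact fix_finite h2 g h1 h3

theorem count_identity (h2 : (2 : K) ≠ 0) (hH : -1 ∈ H) :
    ∑ y ∈ (YY_finite H h2).toFinset, (N1 H y + N2 H y) + 4 = 2 * Nat.card H := by
  classical
  set Sf := (nonscalar_finite H).toFinset with hSf
  set Yf := (YY_finite H h2).toFinset with hYf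
  have hN1 : ∀ y, N1 H y = (Sf.filter (fun g => g • y = y)).card := by
    intro y
    unfold N1
    rw [← Set.ncard_coe_finset]
    congr 1
    ext g
    simp [hSf, and_assoc]
  have hN2 : ∀ y, N2 H y = ((Sf.filter (fun g => tr g ^ 2 = 4)).filter (fun g => g • y = y)).card := by
    intro y
    unfold N2
    rw [← Set.ncard_coe_finset]
    congr 1
    ext g
    simp [hSf, and_assoc]
  have hfixS : ∀ g ∈ Sf, (Yf.filter (fun y => g • y = y)).card =
      {y : ℙ K (Fin 2 → K) | g • y = y}.ncard := by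
    intro g hg
    rw [← Set.ncard_coe_finset]
    congr 1
    ext y
    simp only [Finset.coe_filter, Set.mem_ofPred_eq, and_iff_right_iff_imp, hYf,
      Set.Finite.mem_toFinset]
    intro hy
    rw [hSf, Set.Finite.mem_toFinset] at hg
    exact ⟨g, hg.1, hg.2.1, hg.2.2, hy⟩
  have h1 : ∑ y ∈ Yf, N1 H y = ∑ g ∈ Sf, (Yf.filter (fun y => g • y = y)).card := by
    simp_rw [hN1]
    exact (Finset.sum_card_bipartiteAbove_eq_sum_card_bipartiteBelow (fun g y => g • y = y)).symm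
  have h3 : ∑ y ∈ Yf, N2 H y =
      ∑ g ∈ Sf.filter (fun g => tr g ^ 2 = 4), (Yf.filter (fun y => g • y = y)).card := by
    simp_rw [hN2]
    exact (Finset.sum_card_bipartiteAbove_eq_sum_card_bipartiteBelow (fun g y => g • y = y)).symm
  have h4 : ∑ g ∈ Sf.filter (fun g => tr g ^ 2 = 4), (Yf.filter (fun y => g • y = y)).card =
      ∑ g ∈ Sf, (if tr g ^ 2 = 4 then 1 else 0) := by
    rw [Finset.sum_filter]
    apply Finset.sum_congr rfl
    intro g hg
    have hg' := hg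
    rw [hSf, Set.Finite.mem_toFinset] at hg'
    split_ifs with h
    · rw [hfixS g hg, (ncard_fix h2 g hg'.2.1 hg'.2.2).1 h]
    · rfl
  have h5 : ∀ g ∈ Sf, (Yf.filter (fun y => g • y = y)).card + (if tr g ^ 2 = 4 then 1 else 0) = 2 := by
    intro g hg
    have hg' := hg
    rw [hSf, Set.Finite.mem_toFinset] at hg'
    rw [hfixS g hg]
    split_ifs with h
    · rw [(ncard_fix h2 g hg'.2.1 hg'.2.2).1 h]
    · rw [(ncard_fix h2 g hg'.2.1 hg'.2.2).2 h]
  have h6 : ∑ y ∈ Yf, (N1 H y + N2 H y) = 2 * Sf.card := by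
    rw [Finset.sum_add_distrib, h1, h3, h4, ← Finset.sum_add_distrib, Finset.sum_congr rfl h5,
      Finset.sum_const, smul_eq_mul, mul_comm]
  have h7 : Sf.card + 2 = Nat.card H := by
    have hHf : (H : Set (SpecialLinearGroup (Fin 2) K)).Finite := Set.finite_coe_iff.mp inferInstance
    have hc : Nat.card H = (H : Set (SpecialLinearGroup (Fin 2) K)).ncard := rfl
    have hset : (H : Set (SpecialLinearGroup (Fin 2) K)) = insert 1 (insert (-1) (Sf : Set _)) := by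
      ext g
      simp only [hSf, Set.Finite.coe_toFinset, Set.mem_insert_iff, Set.mem_ofPred_eq, SetLike.mem_coe]
      constructor
      · intro hg
        by_cases hg1 : g = 1
        · exact Or.inl hg1
        · by_cases hg2 : g = -1
          · exact Or.inr (Or.inl hg2)
          · exact Or.inr (Or.inr ⟨hg, hg1, hg2⟩)
      · rintro (rfl | rfl | ⟨hg, _, _⟩)
        · exact H.one_mem
        · exact hH
        · exact hg
    rw [hc, hset, Set.ncard_insert_of_notMem, Set.ncard_insert_of_notMem, Set.ncard_coe_finset]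
    · simp [hSf]
    · simp only [Set.mem_insert_iff, not_or]
      refine ⟨(neg_one_ne_one h2).symm, ?_⟩
      simp [hSf]
  rw [h6, ← h7]
  ring


theorem orbit_sum (y : ℙ K (Fin 2 → K)) :
    ∑ z ∈ (orb_finite H y).toFinset, (N1 H z + N2 H z) = (orb H y).ncard * (N1 H y + N2 H y) := by
  rw [Finset.sum_const_nat (m := N1 H y + N2 H y), Set.ncard_eq_toFinset_card _ (orb_finite H y)]
  intro z hz
  rw [Set.Finite.mem_toFinset] at hz
  obtain ⟨s, hs, rfl⟩ := hz
  rw [N1_smul hs, N2_smul hs]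

theorem two_dvd_card_stabIn (h2 : (2 : K) ≠ 0) (hH : -1 ∈ H) (y : ℙ K (Fin 2 → K)) :
    2 ∣ Nat.card (stabIn H y) := by
  have hmem : (-1 : SpecialLinearGroup (Fin 2) K) ∈ stabIn H y := by
    rw [mem_stabIn]
    refine ⟨hH, ?_⟩
    induction y using Projectivization.ind with | h v hv =>
    rw [Projectivization.smul_mk, Projectivization.mk_eq_mk_iff']
    refine ⟨-1, ?_⟩
    rw [smul_vec]
    ext i
    fin_cases i <;> simp
  have h1 : orderOf (⟨-1, hmem⟩ : stabIn H y) = 2 := by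
    apply orderOf_eq_prime
    · apply Subtype.ext; simp
    · intro h
      exact neg_one_ne_one h2 (congrArg Subtype.val h)
  have h3 := orderOf_dvd_natCard (⟨-1, hmem⟩ : stabIn H y)
  rwa [h1] at h3

theorem N2_cases (h2 : (2 : K) ≠ 0) (hH : -1 ∈ H) (y : ℙ K (Fin 2 → K)) :
    N2 H y = 0 ∨ 4 ≤ N2 H y := by
  obtain ⟨s, rfl⟩ := exists_smul_pInf y
  rw [N2_conj]
  have h1 := N2_pInf_add_two h2 (cj s H) (neg_one_mem_cj hH)
  have h3 := card_ZP h2 (cj s H) (neg_one_mem_cj hH)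
  by_cases hA : ∃ a ∈ AA (cj s H), a ≠ 0
  · obtain ⟨a, ha, ha0⟩ := hA
    have := three_le_card_AA h2 (cj s H) ha ha0
    right; omega
  · push Not at hA
    have : Nat.card (AA (cj s H)) = 1 := by
      rw [Nat.card_eq_one_iff_unique]
      refine ⟨⟨fun a b => Subtype.ext ?_⟩, ⟨0⟩⟩
      rw [hA a a.2, hA b b.2]
    left; omega


theorem uS_ne_one {a : K} (ha : a ≠ 0) : uS a ≠ 1 := by
  intro h
  have := congrArg (fun g : SpecialLinearGroup (Fin 2) K => g 0 1) h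
  simp at this
  exact ha this

theorem uS_ne_neg_one (h2 : (2 : K) ≠ 0) (a : K) : uS a ≠ -1 := by
  intro h
  have := congrArg (fun g : SpecialLinearGroup (Fin 2) K => g 0 0) h
  simp at this
  apply h2
  linear_combination this

theorem N1_pos {y : ℙ K (Fin 2 → K)} (hy : y ∈ YY H) : 1 ≤ N1 H y := by
  obtain ⟨g, hg, h1, h3, h4⟩ := hy
  unfold N1
  rw [Nat.succ_le_iff, Set.ncard_pos
    ((nonscalar_finite H).subset (fun g hg => ⟨hg.1, hg.2.1, hg.2.2.1⟩))]
  exact ⟨g, hg, h1, h3, h4⟩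

theorem orb_ncard_pos (y : ℙ K (Fin 2 → K)) : 1 ≤ (orb H y).ncard := by
  rw [Nat.succ_le_iff, Set.ncard_pos (orb_finite H y)]
  exact ⟨y, mem_orb_self H y⟩

theorem main_count (h2 : (2 : K) ≠ 0) (hH : -1 ∈ H) {a₀ : K} (ha : uS a₀ ∈ H) (ha0 : a₀ ≠ 0) :
    (orb H pInf).ncard * Nat.card (GB H) = Nat.card H ∧
    ((YY H ⊆ orb H pInf ∧ (orb H pInf).ncard = 1) ∨
      ∃ (y₁ : ℙ K (Fin 2 → K)) (s : ℕ), y₁ ∉ orb H pInf ∧ 2 ≤ s ∧
      Nat.card (stabIn H y₁) = 2 * s ∧
      (orb H pInf).ncard * Nat.card (GB H) =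
        2 * s * (2 + (orb H pInf).ncard * (Nat.card (AA H) - 2)) ∧
      YY H = orb H pInf ∪ orb H y₁ ∧ N2 H y₁ = 0) := by
  classical
  obtain ⟨q, hq⟩ : ∃ q, q = Nat.card (AA H) := ⟨_, rfl⟩
  obtain ⟨a, hadef⟩ : ∃ a, a = Nat.card (GB H) := ⟨_, rfl⟩
  obtain ⟨n, hn⟩ : ∃ n, n = (orb H pInf).ncard := ⟨_, rfl⟩
  obtain ⟨Hc, hHc⟩ : ∃ Hc, Hc = Nat.card H := ⟨_, rfl⟩
  rw [← hq, ← hadef, ← hn, ← hHc]
  have hq3 : 3 ≤ q := hq ▸ three_le_card_AA h2 H ha ha0
  have hZP : Nat.card (ZP H) = 2 * q := hq ▸ card_ZP h2 H hH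
  have hale : 2 * q ≤ a := by
    rw [← hZP, hadef]; exact Subgroup.card_le_of_le (ZP_le_GB H)
  have hOS : n * a = Hc := by
    rw [hn, hadef, hHc, ← stabIn_pInf]; exact orbit_stabilizer H pInf
  obtain ⟨N1p, hN1p⟩ : ∃ x, x = N1 H pInf := ⟨_, rfl⟩
  obtain ⟨N2p, hN2p⟩ : ∃ x, x = N2 H pInf := ⟨_, rfl⟩
  have hN1p' : N1p + 2 = a := by rw [hN1p, N1_add_two h2 H hH, stabIn_pInf, hadef]
  have hN2p' : N2p + 2 = 2 * q := by rw [hN2p, N2_pInf_add_two h2 H hH, hZP]
  have hpY : (pInf : ℙ K (Fin 2 → K)) ∈ YY H :=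
    ⟨uS a₀, ha, uS_ne_one ha0, uS_ne_neg_one h2 a₀, smul_pInf_of_eq _ (by simp)⟩
  have hOY : orb H pInf ⊆ YY H := orb_subset_YY hpY
  have hn1 : 1 ≤ n := hn ▸ orb_ncard_pos H pInf
  have hT := count_identity H h2 hH
  rw [← hHc] at hT
  have hSO := orbit_sum H (pInf : ℙ K (Fin 2 → K))
  rw [← hn, ← hN1p, ← hN2p] at hSO
  refine ⟨hOS, ?_⟩
  have hX : n * a = n * N1p + 2 * n := by rw [← hN1p']; ring
  by_cases hY : YY H ⊆ orb H pInf
  · left
    refine ⟨hY, ?_⟩
    have hYO : (YY_finite H h2).toFinset = (orb_finite H pInf).toFinset := by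
      ext y
      simp only [Set.Finite.mem_toFinset]
      exact ⟨fun h => hY h, fun h => hOY h⟩
    rw [hYO, hSO] at hT
    have h5 : n * N2p ≤ n * N1p := Nat.mul_le_mul_left _ (by omega)
    have h6 : n * (N1p + N2p) = n * N1p + n * N2p := by ring
    rw [h6, ← hOS, hX] at hT
    omega
  · right
    rw [Set.not_subset] at hY
    obtain ⟨y₁, hy₁Y, hy₁O⟩ := hY
    obtain ⟨n₁, hn₁⟩ : ∃ x, x = (orb H y₁).ncard := ⟨_, rfl⟩
    obtain ⟨a₁, ha₁⟩ : ∃ x, x = Nat.card (stabIn H y₁) := ⟨_, rfl⟩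
    obtain ⟨N11, hN11⟩ : ∃ x, x = N1 H y₁ := ⟨_, rfl⟩
    obtain ⟨N21, hN21⟩ : ∃ x, x = N2 H y₁ := ⟨_, rfl⟩
    have hOS1 : n₁ * a₁ = Hc := by rw [hn₁, ha₁, hHc]; exact orbit_stabilizer H y₁
    have hN11' : N11 + 2 = a₁ := by rw [hN11, N1_add_two h2 H hH, ha₁]
    have hN11pos : 1 ≤ N11 := hN11 ▸ N1_pos H hy₁Y
    obtain ⟨s, hs⟩ := two_dvd_card_stabIn H h2 hH y₁
    rw [← ha₁] at hs
    have hs2 : 2 ≤ s := by omega
    have hn₁1 : 1 ≤ n₁ := hn₁ ▸ orb_ncard_pos H y₁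
    have hSO1 := orbit_sum H y₁
    rw [← hn₁, ← hN11, ← hN21] at hSO1
    have hdisj : Disjoint (orb_finite H pInf).toFinset (orb_finite H y₁).toFinset := by
      rw [Set.Finite.disjoint_toFinset]; exact orb_disjoint hy₁O
    have hO1Y : orb H y₁ ⊆ YY H := orb_subset_YY hy₁Y
    have hX1 : n₁ * a₁ = n₁ * N11 + 2 * n₁ := by rw [← hN11']; ring
    have h4n1 : 4 * n₁ ≤ Hc := by
      rw [← hOS1]
      calc 4 * n₁ = n₁ * 4 := by ring
        _ ≤ n₁ * a₁ := Nat.mul_le_mul_left _ (by omega)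
    have hnN2 : 4 * n ≤ n * N2p := by
      calc 4 * n = n * 4 := by ring
        _ ≤ n * N2p := Nat.mul_le_mul_left _ (by omega)
    have h6 : n * (N1p + N2p) = n * N1p + n * N2p := by ring
    have h61 : n₁ * (N11 + N21) = n₁ * N11 + n₁ * N21 := by ring
    -- N21 = 0
    have hN21z : N21 = 0 := by
      rcases N2_cases H h2 hH y₁ with h | h
      · rw [hN21]; exact h
      · exfalso
        rw [← hN21] at h
        have hsub : (orb_finite H pInf).toFinset ∪ (orb_finite H y₁).toFinset ⊆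
            (YY_finite H h2).toFinset := by
          intro y hy
          rw [Finset.mem_union, Set.Finite.mem_toFinset, Set.Finite.mem_toFinset] at hy
          rw [Set.Finite.mem_toFinset]
          rcases hy with hy | hy
          · exact hOY hy
          · exact hO1Y hy
        have hge := Finset.sum_le_sum_of_subset (f := fun y => N1 H y + N2 H y) hsub
        rw [Finset.sum_union hdisj, hSO, hSO1, h6, h61] at hge
        have h7 : 4 * n₁ ≤ n₁ * N21 := by
          calc 4 * n₁ = n₁ * 4 := by ring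
            _ ≤ n₁ * N21 := Nat.mul_le_mul_left _ h
        rw [hOS] at hX
        rw [hOS1] at hX1
        omega
    -- only two orbits
    have hYeq : YY H = orb H pInf ∪ orb H y₁ := by
      apply Set.Subset.antisymm _ (Set.union_subset hOY hO1Y)
      intro y₂ hy₂Y
      by_contra hy₂
      rw [Set.mem_union, not_or] at hy₂
      obtain ⟨hy₂O, hy₂O1⟩ := hy₂
      obtain ⟨n₂, hn₂⟩ : ∃ x, x = (orb H y₂).ncard := ⟨_, rfl⟩
      obtain ⟨a₂, ha₂⟩ : ∃ x, x = Nat.card (stabIn H y₂) := ⟨_, rfl⟩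
      obtain ⟨N12, hN12⟩ : ∃ x, x = N1 H y₂ := ⟨_, rfl⟩
      obtain ⟨N22, hN22⟩ : ∃ x, x = N2 H y₂ := ⟨_, rfl⟩
      have hOS2 : n₂ * a₂ = Hc := by rw [hn₂, ha₂, hHc]; exact orbit_stabilizer H y₂
      have hN12' : N12 + 2 = a₂ := by rw [hN12, N1_add_two h2 H hH, ha₂]
      have hN12pos : 1 ≤ N12 := hN12 ▸ N1_pos H hy₂Y
      obtain ⟨s₂, hs₂⟩ := two_dvd_card_stabIn H h2 hH y₂
      rw [← ha₂] at hs₂
      have hSO2 := orbit_sum H y₂
      rw [← hn₂, ← hN12, ← hN22] at hSO2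
      have hO2Y : orb H y₂ ⊆ YY H := orb_subset_YY hy₂Y
      have hdisj2 : Disjoint ((orb_finite H pInf).toFinset ∪ (orb_finite H y₁).toFinset)
          (orb_finite H y₂).toFinset := by
        rw [Finset.disjoint_union_left, Set.Finite.disjoint_toFinset, Set.Finite.disjoint_toFinset]
        exact ⟨orb_disjoint hy₂O, orb_disjoint hy₂O1⟩
      have hsub : ((orb_finite H pInf).toFinset ∪ (orb_finite H y₁).toFinset) ∪
          (orb_finite H y₂).toFinset ⊆ (YY_finite H h2).toFinset := by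
        intro y hy
        rw [Finset.mem_union, Finset.mem_union, Set.Finite.mem_toFinset, Set.Finite.mem_toFinset,
          Set.Finite.mem_toFinset] at hy
        rw [Set.Finite.mem_toFinset]
        rcases hy with (hy | hy) | hy
        · exact hOY hy
        · exact hO1Y hy
        · exact hO2Y hy
      have hge := Finset.sum_le_sum_of_subset (f := fun y => N1 H y + N2 H y) hsub
      rw [Finset.sum_union hdisj2, Finset.sum_union hdisj, hSO, hSO1, hSO2, h6, h61] at hge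
      have h62 : n₂ * (N12 + N22) = n₂ * N12 + n₂ * N22 := by ring
      have hX2 : n₂ * a₂ = n₂ * N12 + 2 * n₂ := by rw [← hN12']; ring
      have h4n2 : 4 * n₂ ≤ Hc := by
        rw [← hOS2]
        calc 4 * n₂ = n₂ * 4 := by ring
          _ ≤ n₂ * a₂ := Nat.mul_le_mul_left _ (by omega)
      rw [h62] at hge
      rw [hOS] at hX
      rw [hOS1] at hX1
      rw [hOS2] at hX2
      omega
    refine ⟨y₁, s, hy₁O, hs2, ha₁ ▸ hs, ?_, hYeq, hN21 ▸ hN21z⟩
    have hYf : (YY_finite H h2).toFinset =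
        (orb_finite H pInf).toFinset ∪ (orb_finite H y₁).toFinset := by
      ext y
      simp only [Set.Finite.mem_toFinset, Finset.mem_union]
      rw [hYeq]; rfl
    rw [hYf, Finset.sum_union hdisj, hSO, hSO1, h6, h61, hN21z, mul_zero, add_zero] at hT
    obtain ⟨q', rfl⟩ : ∃ q', q = q' + 2 := ⟨q - 2, by omega⟩
    rw [Nat.add_sub_cancel]
    have hN2p'' : N2p = 2 * q' + 2 := by omega
    rw [hN2p''] at hT
    have h8 : n * (2 * q' + 2) = 2 * (n * q') + 2 * n := by ring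
    rw [h8] at hT
    rw [hOS] at hX
    rw [hOS1] at hX1
    have h9 : n₁ = n * q' + 2 := by omega
    rw [hOS, ← hOS1, h9, hs]
    ring

end counting

end Cfsg.Agent.helper4.Dk
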