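import Mathlib
import Cfsg.Agent.Lib_helper4_DkC

set_option autoImplicit false
set_option linter.unusedSectionVars false

/-!
# Numerics of the counting identity
-/

namespace Cfsg.Agent.helper4.Dk

open Matrix
open scoped LinearAlgebra.Projectivization MatrixGroups

theorem numerics_int (q c s k : ℤ) (hq : 3 ≤ q) (hc1 : 1 ≤ c) (hc : c ≤ q - 1) (hs : 2 ≤ s)
    (hk : 1 ≤ k) (h : (1 + k * q) * q * c = s * (2 + (1 + k * q) * (q - 2))) :
    k = 1 ∨ (q = 3 ∧ k = 3 ∧ c = 2 ∧ s = 5) := by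
  have hq0 : q ≠ 0 := by omega
  have h1 : (1 + k * q) * c = s * (1 + k * (q - 2)) := by
    apply mul_left_cancel₀ hq0
    linear_combination h
  obtain ⟨d, hd⟩ : ∃ d, d = s - c := ⟨_, rfl⟩
  have h2 : (1 + k * (q - 2)) * d = 2 * k * c := by
    rw [hd]; linear_combination (-1 : ℤ) * h1
  have hm : 1 + k ≤ 1 + k * (q - 2) := by nlinarith
  have hkc : 0 < k * c := by positivity
  have hdpos : 0 < d := by
    by_contra hd0
    push Not at hd0
    have : (1 + k * (q - 2)) * d ≤ 0 := mul_nonpos_of_nonneg_of_nonpos (by linarith) hd0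
    linarith
  have hd3 : d ≤ 3 := by
    by_contra hd4
    push Not at hd4
    have e1 : k * c ≤ k * (q - 1) := mul_le_mul_of_nonneg_left hc (by linarith)
    have e2 : 3 * k ≤ k * q := by nlinarith
    have e3 : (1 + k * (q - 2)) * 4 ≤ (1 + k * (q - 2)) * d :=
      mul_le_mul_of_nonneg_left (by linarith) (by linarith)
    nlinarith [h2, e1, e2, e3]
  have hkd : k ≤ d := by
    have h3 : d = k * (2 * c - (q - 2) * d) := by linear_combination h2
    by_contra hlt
    push Not at hlt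
    have : 2 * c - (q - 2) * d ≤ 0 ∨ 1 ≤ 2 * c - (q - 2) * d := by omega
    rcases this with h4 | h4
    · have : k * (2 * c - (q - 2) * d) ≤ 0 := mul_nonpos_of_nonneg_of_nonpos (by linarith) h4
      linarith
    · have : k * 1 ≤ k * (2 * c - (q - 2) * d) := mul_le_mul_of_nonneg_left h4 (by linarith)
      linarith
  have hs' : s = c + d := by rw [hd]; ring
  have hk3 : k ≤ 3 := le_trans hkd hd3
  interval_cases k <;> interval_cases d <;> first | (left; rfl) | (right; omega) | (exfalso; omega)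


theorem card_dvd_of_add_stable {M : Type*} [AddCommGroup M] (A : AddSubgroup M) [Finite A] :
    ∀ (N : ℕ) (S : Set M), S.Finite → S.ncard ≤ N → (∀ b ∈ S, ∀ a ∈ A, b + a ∈ S) →
      Nat.card A ∣ S.ncard := by
  intro N
  induction N with
  | zero =>
    intro S hS hN _
    have : S.ncard = 0 := by omega
    rw [this]; exact dvd_zero _
  | succ N ih =>
    intro S hS hN hst
    rcases S.eq_empty_or_nonempty with rfl | ⟨b, hb⟩
    · simp
    · set C : Set M := (fun a : A => b + (a : M)) '' Set.univ with hC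
      have hCS : C ⊆ S := by
        rintro _ ⟨a, _, rfl⟩
        exact hst b hb a a.2
      have hCcard : C.ncard = Nat.card A := by
        rw [hC, Set.ncard_image_of_injective, Set.ncard_univ]
        intro a a' h
        exact Subtype.ext (add_left_cancel h)
      have hbC : b ∈ C := ⟨0, trivial, by simp⟩
      have hSt' : ∀ b' ∈ S \ C, ∀ a ∈ A, b' + a ∈ S \ C := by
        rintro b' ⟨hb'S, hb'C⟩ a ha
        refine ⟨hst b' hb'S a ha, ?_⟩
        rintro ⟨a', _, ha'⟩
        apply hb'C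
        refine ⟨a' - ⟨a, ha⟩, trivial, ?_⟩
        simp only [AddSubgroup.coe_sub]
        simp only at ha'
        rw [← add_sub_assoc, ha', add_sub_cancel_right]
      have hdiff : (S \ C).ncard + C.ncard = S.ncard := Set.ncard_diff_add_ncard_of_subset hCS hS
      have hCpos : 0 < C.ncard := by
        rw [Set.ncard_pos (hS.subset hCS)]; exact ⟨b, hbC⟩
      have hlt : (S \ C).ncard ≤ N := by omega
      have := ih (S \ C) (hS.subset Set.diff_subset) hlt hSt'
      rw [← hdiff, hCcard]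
      exact Dvd.dvd.add this (dvd_refl _)

variable {K : Type*} [Field K]

theorem uS_smul_pt (a b : K) : uS a • (pt b : ℙ K (Fin 2 → K)) = pt (b + a) := by
  rw [smul_pt_of_ne]
  · congr 1; simp
  · simp

theorem orb_mod (H : Subgroup (SpecialLinearGroup (Fin 2) K)) [Finite H] :
    ∃ k, (orb H pInf).ncard = 1 + k * Nat.card (AA H) := by
  set S : Set K := {b | pt b ∈ orb H pInf} with hS
  have hO : orb H pInf = insert pInf (pt '' S) := by
    ext y
    simp only [Set.mem_insert_iff, Set.mem_image]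
    constructor
    · intro hy
      rcases eq_pInf_or_pt y with rfl | ⟨b, rfl⟩
      · exact Or.inl rfl
      · exact Or.inr ⟨b, hy, rfl⟩
    · rintro (rfl | ⟨b, hb, rfl⟩)
      · exact mem_orb_self H pInf
      · exact hb
  have hfin : (pt '' S : Set (ℙ K (Fin 2 → K))).Finite :=
    (orb_finite H pInf).subset (by rw [hO]; exact Set.subset_insert _ _)
  have hSfin : S.Finite := hfin.of_finite_image (pt_injective.injOn)
  have h1 : (orb H pInf).ncard = (pt '' S : Set (ℙ K (Fin 2 → K))).ncard + 1 := by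
    rw [hO, Set.ncard_insert_of_notMem _ hfin]
    rintro ⟨b, _, hb⟩
    exact pt_ne_pInf b hb
  have h2 : (pt '' S : Set (ℙ K (Fin 2 → K))).ncard = S.ncard :=
    Set.ncard_image_of_injective _ pt_injective
  have hst : ∀ b ∈ S, ∀ a ∈ AA H, b + a ∈ S := by
    intro b hb a ha
    rw [hS, Set.mem_ofPred_eq, ← uS_smul_pt]
    obtain ⟨g, hg, hgb⟩ := hb
    exact ⟨uS a * g, H.mul_mem ha hg, by rw [mul_smul, hgb]⟩
  obtain ⟨k, hk⟩ := card_dvd_of_add_stable (AA H) S.ncard S hSfin le_rfl hst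
  exact ⟨k, by rw [h1, h2, hk]; ring⟩


theorem card_stabIn_of_mem_orb (H : Subgroup (SpecialLinearGroup (Fin 2) K))
    {y : ℙ K (Fin 2 → K)} (hy : y ∈ orb H pInf) :
    Nat.card (stabIn H y) = Nat.card (GB H) := by
  obtain ⟨s, hs, rfl⟩ := hy
  rw [card_stabIn_conj, cj_eq_of_mem hs, stabIn_pInf]

theorem pow_card_stabIn (H : Subgroup (SpecialLinearGroup (Fin 2) K)) [Finite H]
    {y : ℙ K (Fin 2 → K)} {g : SpecialLinearGroup (Fin 2) K} (hg : g ∈ H) (hgy : g • y = y) :
    g ^ Nat.card (stabIn H y) = 1 := by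
  have hmem : g ∈ stabIn H y := mem_stabIn.mpr ⟨hg, hgy⟩
  have := pow_card_eq_one' (G := stabIn H y) (x := ⟨g, hmem⟩)
  exact congrArg Subtype.val this

theorem structure_thm [IsAlgClosed K] (h2 : (2 : K) ≠ 0)
    (H : Subgroup (SpecialLinearGroup (Fin 2) K)) [Finite H] (hH : -1 ∈ H)
    {a₀ : K} (ha : uS a₀ ∈ H) (ha0 : a₀ ≠ 0)
    {y₀ : ℙ K (Fin 2 → K)} (hy₀ : ∃ g ∈ H, g ≠ 1 ∧ g ≠ -1 ∧ tr g ^ 2 = 4 ∧ g • y₀ = y₀)
    (hy₀' : y₀ ≠ pInf) :
    (∀ y, (∃ g ∈ H, g ≠ 1 ∧ g ≠ -1 ∧ tr g ^ 2 = 4 ∧ g • y = y) → y ∈ orb H pInf) ∧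
    ((orb H pInf).ncard = 1 + Nat.card (AA H) ∨
      (Nat.card (AA H) = 3 ∧ Nat.card H = 120 ∧
        ∀ g ∈ H, g ≠ 1 → g ≠ -1 → g ^ 12 = 1 ∨ g ^ 10 = 1)) := by
  obtain ⟨hOS, hmain⟩ := main_count H h2 hH ha ha0
  have hy₀Y : y₀ ∈ YY H := by
    obtain ⟨g, hg, h1, h3, _, h5⟩ := hy₀
    exact ⟨g, hg, h1, h3, h5⟩
  have hsingle : (orb H pInf).ncard = 1 → orb H pInf = {pInf} := by
    intro hn1
    obtain ⟨z, hz⟩ := Set.ncard_eq_one.mp hn1
    have := mem_orb_self H (pInf : ℙ K (Fin 2 → K))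
    rw [hz] at this ⊢
    rw [Set.mem_singleton_iff] at this
    rw [this]
  rcases hmain with ⟨hYO, hn1⟩ | ⟨y₁, s, hy₁O, hs2, hstab, heq, hYeq, hN2⟩
  · exfalso
    have := hYO hy₀Y
    rw [hsingle hn1, Set.mem_singleton_iff] at this
    exact hy₀' this
  · have hP1 : ∀ y, (∃ g ∈ H, g ≠ 1 ∧ g ≠ -1 ∧ tr g ^ 2 = 4 ∧ g • y = y) → y ∈ orb H pInf := by
      rintro y ⟨g, hg, h1, h3, h4, h5⟩
      have hyY : y ∈ YY H := ⟨g, hg, h1, h3, h5⟩
      rw [hYeq] at hyY
      rcases hyY with hy | hy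
      · exact hy
      · exfalso
        obtain ⟨r, hr, rfl⟩ := hy
        have hN : N2 H (r • y₁) = 0 := by rw [N2_smul hr]; exact hN2
        unfold N2 at hN
        have hfin : {g : SpecialLinearGroup (Fin 2) K | g ∈ H ∧ g ≠ 1 ∧ g ≠ -1 ∧ tr g ^ 2 = 4 ∧
            g • (r • y₁) = r • y₁}.Finite :=
          (nonscalar_finite H).subset (fun g hg => ⟨hg.1, hg.2.1, hg.2.2.1⟩)
        rw [Set.ncard_eq_zero hfin] at hN
        have : g ∈ ({g : SpecialLinearGroup (Fin 2) K | g ∈ H ∧ g ≠ 1 ∧ g ≠ -1 ∧ tr g ^ 2 = 4 ∧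
            g • (r • y₁) = r • y₁}) := ⟨hg, h1, h3, h4, h5⟩
        rw [hN] at this
        exact this
    refine ⟨hP1, ?_⟩
    obtain ⟨q, hq⟩ : ∃ q, q = Nat.card (AA H) := ⟨_, rfl⟩
    obtain ⟨a, hadef⟩ : ∃ a, a = Nat.card (GB H) := ⟨_, rfl⟩
    obtain ⟨n, hn⟩ : ∃ n, n = (orb H pInf).ncard := ⟨_, rfl⟩
    rw [← hq, ← hadef, ← hn] at heq
    rw [← hadef, ← hn] at hOS
    rw [← hq, ← hn]
    have hq3 : 3 ≤ q := hq ▸ three_le_card_AA h2 H ha ha0
    have hZP : Nat.card (ZP H) = 2 * q := hq ▸ card_ZP h2 H hH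
    obtain ⟨c, hc⟩ : 2 * q ∣ a := by
      rw [← hZP, hadef]; exact Subgroup.card_dvd_of_le (ZP_le_GB H)
    have hGBle := card_GB_le H ha ha0
    rw [← hadef, hZP, ← hq] at hGBle
    have hc1 : 1 ≤ c := by
      rcases Nat.eq_zero_or_pos c with h0 | h0
      · exfalso
        rw [h0, mul_zero] at hc
        have : 0 < a := by rw [hadef]; exact Nat.card_pos
        omega
      · exact h0
    have hcq : c + 1 ≤ q := by
      rw [hc] at hGBle
      have : 2 * q * (c + 1) ≤ 2 * q * q := by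
        calc 2 * q * (c + 1) = 2 * q * c + 2 * q := by ring
          _ ≤ 2 * q * q := hGBle
      exact Nat.le_of_mul_le_mul_left this (by omega)
    obtain ⟨k, hk⟩ := orb_mod H
    rw [← hn, ← hq] at hk
    have hk1 : 1 ≤ k := by
      rcases Nat.eq_zero_or_pos k with h0 | h0
      · exfalso
        rw [h0, zero_mul, add_zero] at hk
        have := hP1 y₀ hy₀
        rw [hsingle (hn ▸ hk), Set.mem_singleton_iff] at this
        exact hy₀' this
      · exact h0
    -- numerics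
    have hnum : (k : ℤ) = 1 ∨ ((q : ℤ) = 3 ∧ (k : ℤ) = 3 ∧ (c : ℤ) = 2 ∧ (s : ℤ) = 5) := by
      apply numerics_int (q : ℤ) (c : ℤ) (s : ℤ) (k : ℤ) (by exact_mod_cast hq3)
        (by exact_mod_cast hc1) (by omega) (by exact_mod_cast hs2) (by exact_mod_cast hk1)
      have h3 : n * q * c = s * (2 + n * (q - 2)) := by
        rw [hc] at heq
        have : 2 * (n * q * c) = 2 * (s * (2 + n * (q - 2))) := by
          calc 2 * (n * q * c) = n * (2 * q * c) := by ring
            _ = 2 * s * (2 + n * (q - 2)) := heq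
            _ = 2 * (s * (2 + n * (q - 2))) := by ring
        exact Nat.eq_of_mul_eq_mul_left (by norm_num) this
      rw [hk] at h3
      have h4 : ((q - 2 : ℕ) : ℤ) = (q : ℤ) - 2 := by
        rw [Nat.cast_sub (by omega)]; norm_num
      have h5 := congrArg (fun x : ℕ => (x : ℤ)) h3
      simp only [Nat.cast_mul, Nat.cast_add, Nat.cast_one, Nat.cast_ofNat, h4] at h5
      exact h5
    rcases hnum with hk' | ⟨hq', hk', hc', hs'⟩
    · left
      have : k = 1 := by exact_mod_cast hk'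
      rw [hk, this, one_mul]
    · right
      have hq'' : q = 3 := by exact_mod_cast hq'
      have hk'' : k = 3 := by exact_mod_cast hk'
      have hc'' : c = 2 := by exact_mod_cast hc'
      have hs'' : s = 5 := by exact_mod_cast hs'
      subst hq'' hk'' hc'' hs''
      have hn10 : n = 10 := by omega
      have ha12 : a = 12 := by omega
      refine ⟨rfl, by rw [← hOS, hn10, ha12], ?_⟩
      intro g hg hg1 hg2
      obtain ⟨y, hy⟩ := exists_fixed h2 g
      have hyY : y ∈ YY H := ⟨g, hg, hg1, hg2, hy⟩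
      rw [hYeq] at hyY
      rcases hyY with hyO | hyO
      · left
        have := pow_card_stabIn H hg hy
        rw [card_stabIn_of_mem_orb H hyO, ← hadef, ha12] at this
        exact this
      · right
        obtain ⟨r, hr, rfl⟩ := hyO
        have := pow_card_stabIn H hg hy
        have h7 : Nat.card (stabIn H (r • y₁)) = 10 := by
          rw [card_stabIn_conj, cj_eq_of_mem hr, hstab]
        rw [h7] at this
        exact this

end Cfsg.Agent.helper4.Dk
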