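import Mathlib
import Cfsg.Agent.Lib_helper4_DkD

set_option autoImplicit false
set_option linter.unusedSectionVars false

/-!
# The doubly transitive case: the root parameters form a subfield
-/

namespace Cfsg.Agent.helper4.Dk

open Matrix
open scoped LinearAlgebra.Projectivization MatrixGroups

variable {K : Type*} [Field K]

/-- parameters of the lower unitriangular elements of `H` -/
def BB (H : Subgroup (SpecialLinearGroup (Fin 2) K)) : AddSubgroup K where
  carrier := {a | lS a ∈ H}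
  add_mem' := by
    intro a b ha hb
    simp only [Set.mem_ofPred_eq] at ha hb ⊢
    rw [lS_add]; exact H.mul_mem ha hb
  zero_mem' := by
    simp only [Set.mem_ofPred_eq]
    rw [lS_zero]; exact H.one_mem
  neg_mem' := by
    intro a ha
    simp only [Set.mem_ofPred_eq] at ha ⊢
    rw [← lS_inv]; exact H.inv_mem ha

theorem mem_BB {H : Subgroup (SpecialLinearGroup (Fin 2) K)} {a : K} : a ∈ BB H ↔ lS a ∈ H :=
  Iff.rfl

theorem div_mem_of_mul_mem {M : AddSubgroup K} [Finite M] {r : K} (hr : r ≠ 0)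
    (h : ∀ a ∈ M, r * a ∈ M) : ∀ a ∈ M, a / r ∈ M := by
  have hinj : Function.Injective (fun a : M => (⟨r * a, h a a.2⟩ : M)) := by
    intro a b hab
    have := congrArg Subtype.val hab
    simp only at this
    exact Subtype.ext (mul_left_cancel₀ hr this)
  have hsurj := Finite.surjective_of_injective hinj
  intro a ha
  obtain ⟨x, hx⟩ := hsurj ⟨a, ha⟩
  have h1 : r * x = a := congrArg Subtype.val hx
  have : a / r = x := by rw [← h1]; field_simp
  rw [this]; exact x.2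

theorem lS_ne_one {a : K} (ha : a ≠ 0) : lS a ≠ 1 := by
  intro h
  have := congrArg (fun g : SpecialLinearGroup (Fin 2) K => g 1 0) h
  simp at this
  exact ha this

theorem lS_ne_neg_one (h2 : (2 : K) ≠ 0) (a : K) : lS a ≠ -1 := by
  intro h
  have := congrArg (fun g : SpecialLinearGroup (Fin 2) K => g 0 0) h
  simp at this
  apply h2
  linear_combination this

theorem lS_smul_pt_zero (b : K) : lS b • (pt 0 : ℙ K (Fin 2 → K)) = pt 0 := by
  rw [smul_pt_of_ne]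
  · congr 1; simp
  · simp

theorem lS_smul_pInf {b : K} (hb : b ≠ 0) : lS b • (pInf : ℙ K (Fin 2 → K)) = pt (1 / b) := by
  rw [smul_pInf_of_ne]
  · simp
  · simpa using hb

theorem conj_uS_of_zero (g : SpecialLinearGroup (Fin 2) K) (h00 : g 0 0 = 0) (a : K) :
    g * uS a * g⁻¹ = lS (-(g 1 0 ^ 2 * a)) := by
  have hd := det_eq g
  rw [h00, zero_mul, zero_sub] at hd
  apply sl_ext'
  · rw [mul_00, mul_00, mul_01, inv_00, inv_10]; simp [h00]; linear_combination hd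
  · rw [mul_01, mul_00, mul_01, inv_01, inv_11]; simp [h00]
  · rw [mul_10, mul_10, mul_11, inv_00, inv_10]; simp; ring
  · rw [mul_11, mul_10, mul_11, inv_01, inv_11]; simp [h00]; linear_combination hd


theorem orb_pInf_decomp (H : Subgroup (SpecialLinearGroup (Fin 2) K)) [Finite H] :
    {b : K | pt b ∈ orb H pInf}.Finite ∧
      (orb H pInf).ncard = {b : K | pt b ∈ orb H pInf}.ncard + 1 := by
  set S : Set K := {b | pt b ∈ orb H pInf} with hS
  have hO : orb H pInf = insert pInf (pt '' S) := by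
    ext y
    simp only [Set.mem_insert_iff, Set.mem_image]
    constructor
    · intro hy
      rcases eq_pInf_or_pt y with rfl | ⟨b, rfl⟩
      · exact Or.inl rfl
      · exact Or.inr ⟨b, hy, rfl⟩
    · rintro (rfl | ⟨b, hb, rfl⟩)
      · exact mem_orb_self H pInf
      · exact hb
  have hfin : (pt '' S : Set (ℙ K (Fin 2 → K))).Finite :=
    (orb_finite H pInf).subset (by rw [hO]; exact Set.subset_insert _ _)
  have hSfin : S.Finite := hfin.of_finite_image (pt_injective.injOn)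
  refine ⟨hSfin, ?_⟩
  have h1 : (orb H pInf).ncard = (pt '' S : Set (ℙ K (Fin 2 → K))).ncard + 1 := by
    rw [hO, Set.ncard_insert_of_notMem _ hfin]
    rintro ⟨b, _, hb⟩
    exact pt_ne_pInf b hb
  rw [h1, Set.ncard_image_of_injective _ pt_injective]

theorem smul_mem_orb {H : Subgroup (SpecialLinearGroup (Fin 2) K)} {y z : ℙ K (Fin 2 → K)}
    {g : SpecialLinearGroup (Fin 2) K} (hg : g ∈ H) (hz : z ∈ orb H y) : g • z ∈ orb H y := by
  obtain ⟨r, hr, rfl⟩ := hz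
  exact ⟨g * r, H.mul_mem hg hr, mul_smul _ _ _⟩

theorem hua (u v : K) (hu : u ≠ 0) (hv : v ≠ 0) (huv : u * v ≠ 1) :
    1 / v - u ≠ 0 ∧ 1 / u + 1 / (1 / v - u) ≠ 0 ∧
      u - 1 / (1 / u + 1 / (1 / v - u)) = u ^ 2 * v := by
  have h1 : 1 / v - u ≠ 0 := by
    intro h
    apply huv
    field_simp at h
    linear_combination -h
  have h3 : 1 - u * v ≠ 0 := fun h => huv (by linear_combination -h)
  have h4 : 1 / u + 1 / (1 / v - u) = 1 / (u * (1 - u * v)) := by
    have : 1 / v - u = (1 - u * v) / v := by field_simp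
    rw [this]
    field_simp
    ring
  refine ⟨h1, ?_, ?_⟩
  · rw [h4]
    exact one_div_ne_zero (mul_ne_zero hu h3)
  · rw [h4]
    field_simp
    ring

theorem subfield_of_two_trans (h2 : (2 : K) ≠ 0) (H : Subgroup (SpecialLinearGroup (Fin 2) K))
    [Finite H] (hu1 : uS 1 ∈ H) {t : K} (ht : t ≠ 0) (hlt : lS t ∈ H)
    (hP1 : ∀ y, (∃ g ∈ H, g ≠ 1 ∧ g ≠ -1 ∧ tr g ^ 2 = 4 ∧ g • y = y) → y ∈ orb H pInf)
    (hn : (orb H pInf).ncard = 1 + Nat.card (AA H)) :
    ∃ F : Subfield K, t ∈ F ∧ ∀ a ∈ F, uS a ∈ H ∧ lS a ∈ H := by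
  have h1A : (1 : K) ∈ AA H := hu1
  -- E1
  have hp0 : (pt 0 : ℙ K (Fin 2 → K)) ∈ orb H pInf := by
    apply hP1
    refine ⟨lS t, hlt, lS_ne_one ht, lS_ne_neg_one h2 t, ?_, lS_smul_pt_zero t⟩
    unfold tr; simp; norm_num
  -- E2
  obtain ⟨hSfin, hdec⟩ := orb_pInf_decomp H
  have hAS : (AA H : Set K) ⊆ {b : K | pt b ∈ orb H pInf} := by
    intro a ha
    have : (pt a : ℙ K (Fin 2 → K)) = uS a • pt 0 := by rw [uS_smul_pt, zero_add]
    rw [Set.mem_ofPred_eq, this]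
    exact smul_mem_orb ha hp0
  have hSA : {b : K | pt b ∈ orb H pInf} = (AA H : Set K) := by
    symm
    apply Set.eq_of_subset_of_ncard_le hAS _ hSfin
    have : Nat.card (AA H) = (AA H : Set K).ncard := rfl
    omega
  have hmemA : ∀ b : K, pt b ∈ orb H pInf ↔ b ∈ AA H := by
    intro b
    have : b ∈ {b : K | pt b ∈ orb H pInf} ↔ b ∈ (AA H : Set K) := by rw [hSA]
    exact this
  -- E3
  obtain ⟨g, hg, hg0⟩ := hp0
  have hγ : g 1 0 ≠ 0 := by
    intro h
    rw [smul_pInf_of_eq g h] at hg0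
    exact pt_ne_pInf 0 hg0.symm
  have hg00 : g 0 0 = 0 := by
    rw [smul_pInf_of_ne g hγ] at hg0
    have := pt_injective hg0
    rcases div_eq_zero_iff.mp this with h | h
    · exact h
    · exact absurd h hγ
  obtain ⟨γ, hγdef⟩ : ∃ γ, γ = g 1 0 := ⟨_, rfl⟩
  rw [← hγdef] at hγ
  have hγ2 : γ ^ 2 ≠ 0 := pow_ne_zero 2 hγ
  have hAB : ∀ a ∈ AA H, γ ^ 2 * a ∈ BB H := by
    intro a ha
    have h3 : lS (-(γ ^ 2 * a)) ∈ H := by
      rw [hγdef, ← conj_uS_of_zero g hg00]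
      exact H.mul_mem (H.mul_mem hg ha) (H.inv_mem hg)
    have := (BB H).neg_mem h3
    rwa [neg_neg] at this
  have hBA : ∀ b ∈ BB H, b / γ ^ 2 ∈ AA H := by
    intro b hb
    have h3 : uS (-(b / γ ^ 2)) = g⁻¹ * lS b * g := by
      have h4 := conj_uS_of_zero g hg00 (-(b / γ ^ 2))
      rw [← hγdef] at h4
      have h5 : -(γ ^ 2 * -(b / γ ^ 2)) = b := by field_simp
      rw [h5] at h4
      rw [← h4]; group
    have h6 : uS (-(b / γ ^ 2)) ∈ H := by
      rw [h3]; exact H.mul_mem (H.mul_mem (H.inv_mem hg) hb) hg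
    have := (AA H).neg_mem h6
    rwa [neg_neg] at this
  -- E4
  have hinvB : ∀ b ∈ BB H, b ≠ 0 → 1 / b ∈ AA H := by
    intro b hb hb0
    rw [← hmemA, ← lS_smul_pInf hb0]
    exact smul_mem_orb hb (mem_orb_self H pInf)
  -- E5/E6 : iota
  have hiota_inj : ∀ a ∈ AA H, a ≠ 0 → (1 / (γ ^ 2 * a) ∈ AA H ∧ 1 / (γ ^ 2 * a) ≠ 0) := by
    intro a ha ha0
    exact ⟨hinvB _ (hAB a ha) (mul_ne_zero hγ2 ha0), one_div_ne_zero (mul_ne_zero hγ2 ha0)⟩
  have hiota : ∀ a ∈ AA H, a ≠ 0 → ∃ a' ∈ AA H, a' ≠ 0 ∧ 1 / (γ ^ 2 * a') = a := by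
    have hinj : Function.Injective (fun x : {a : AA H // (a : K) ≠ 0} =>
        (⟨⟨1 / (γ ^ 2 * (x.1 : K)), (hiota_inj _ x.1.2 x.2).1⟩, (hiota_inj _ x.1.2 x.2).2⟩ :
          {a : AA H // (a : K) ≠ 0})) := by
      intro x y hxy
      have h3 : 1 / (γ ^ 2 * (x.1 : K)) = 1 / (γ ^ 2 * (y.1 : K)) :=
        congrArg (fun z : {a : AA H // (a : K) ≠ 0} => ((z.1 : AA H) : K)) hxy
      have h4 : γ ^ 2 * (x.1 : K) = γ ^ 2 * (y.1 : K) := by
        have := congrArg (fun z => 1 / z) h3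
        simpa using this
      exact Subtype.ext (Subtype.ext (mul_left_cancel₀ hγ2 h4))
    have hsurj := Finite.surjective_of_injective hinj
    intro a ha ha0
    obtain ⟨x, hx⟩ := hsurj ⟨⟨a, ha⟩, ha0⟩
    refine ⟨x.1.1, x.1.2, x.2, ?_⟩
    exact congrArg (fun z : {a : AA H // (a : K) ≠ 0} => ((z.1 : AA H) : K)) hx
  have hio : ∀ a ∈ AA H, a ≠ 0 → 1 / (γ ^ 2 * a) ∈ AA H := fun a ha ha0 => (hiota_inj a ha ha0).1
  -- Hua
  have hHua : ∀ a ∈ AA H, ∀ a' ∈ AA H, γ ^ 2 * a ^ 2 * a' ∈ AA H := by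
    intro a ha a' ha'
    by_cases ha0 : a = 0
    · rw [ha0]; simp [(AA H).zero_mem]
    by_cases ha0' : a' = 0
    · rw [ha0']; simp [(AA H).zero_mem]
    by_cases huv : (γ * a) * (γ * a') = 1
    · have : γ ^ 2 * a ^ 2 * a' = a := by linear_combination a * huv
      rw [this]; exact ha
    · obtain ⟨h3, h4, h5⟩ := hua (γ * a) (γ * a') (mul_ne_zero hγ ha0) (mul_ne_zero hγ ha0') huv
      -- a₁ = ι(a') - a
      have hι' := hio a' ha' ha0'
      have ha₁ : 1 / (γ ^ 2 * a') - a ∈ AA H := (AA H).sub_mem hι' ha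
      have ha₁' : 1 / (γ * a') - γ * a = γ * (1 / (γ ^ 2 * a') - a) := by
        field_simp
      have ha₁0 : 1 / (γ ^ 2 * a') - a ≠ 0 := by
        intro h0
        rw [ha₁', h0, mul_zero] at h3
        exact h3 rfl
      have hι₁ := hio _ ha₁ ha₁0
      have ha₂ : 1 / (γ ^ 2 * a) + 1 / (γ ^ 2 * (1 / (γ ^ 2 * a') - a)) ∈ AA H :=
        (AA H).add_mem (hio a ha ha0) hι₁
      have ha₂' : 1 / (γ * a) + 1 / (1 / (γ * a') - γ * a) =
          γ * (1 / (γ ^ 2 * a) + 1 / (γ ^ 2 * (1 / (γ ^ 2 * a') - a))) := by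
        rw [ha₁']
        field_simp
      have ha₂0 : 1 / (γ ^ 2 * a) + 1 / (γ ^ 2 * (1 / (γ ^ 2 * a') - a)) ≠ 0 := by
        intro h0
        rw [ha₂', h0, mul_zero] at h4
        exact h4 rfl
      have hι₂ := hio _ ha₂ ha₂0
      have hfinal : a - 1 / (γ ^ 2 * (1 / (γ ^ 2 * a) + 1 / (γ ^ 2 * (1 / (γ ^ 2 * a') - a)))) ∈
          AA H := (AA H).sub_mem ha hι₂
      have heq : γ ^ 2 * a ^ 2 * a' =
          a - 1 / (γ ^ 2 * (1 / (γ ^ 2 * a) + 1 / (γ ^ 2 * (1 / (γ ^ 2 * a') - a)))) := by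
        have h6 : γ * (γ ^ 2 * a ^ 2 * a') = (γ * a) ^ 2 * (γ * a') := by ring
        have h7 : γ * (a - 1 / (γ ^ 2 * (1 / (γ ^ 2 * a) + 1 / (γ ^ 2 * (1 / (γ ^ 2 * a') - a))))) =
            γ * a - 1 / (1 / (γ * a) + 1 / (1 / (γ * a') - γ * a)) := by
          rw [ha₂']
          field_simp
        apply mul_left_cancel₀ hγ
        rw [h6, h7, h5]
      rw [heq]; exact hfinal
  -- E7
  have hg2A : ∀ a ∈ AA H, γ ^ 2 * a ∈ AA H := by
    intro a ha
    have := hHua 1 h1A a ha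
    simpa using this
  have hdivg : ∀ a ∈ AA H, a / γ ^ 2 ∈ AA H := div_mem_of_mul_mem hγ2 hg2A
  have hsq : ∀ a ∈ AA H, ∀ a' ∈ AA H, a ^ 2 * a' ∈ AA H := by
    intro a ha a' ha'
    have := hdivg _ (hHua a ha a' ha')
    have h3 : γ ^ 2 * a ^ 2 * a' / γ ^ 2 = a ^ 2 * a' := by field_simp
    rwa [h3] at this
  have htwo : ∀ a ∈ AA H, a / 2 ∈ AA H := by
    apply div_mem_of_mul_mem h2
    intro a ha
    have : 2 * a = a + a := by ring
    rw [this]; exact (AA H).add_mem ha ha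
  have hmul : ∀ a ∈ AA H, ∀ b ∈ AA H, a * b ∈ AA H := by
    intro a ha b hb
    have h3 := hsq (a + b) ((AA H).add_mem ha hb) 1 h1A
    have h4 := hsq a ha 1 h1A
    have h5 := hsq b hb 1 h1A
    have h6 : (a + b) ^ 2 * 1 - a ^ 2 * 1 - b ^ 2 * 1 ∈ AA H :=
      (AA H).sub_mem ((AA H).sub_mem h3 h4) h5
    have h7 := htwo _ h6
    have h8 : ((a + b) ^ 2 * 1 - a ^ 2 * 1 - b ^ 2 * 1) / 2 = a * b := by
      field_simp; ring
    rwa [h8] at h7
  have hinv : ∀ a ∈ AA H, a⁻¹ ∈ AA H := by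
    intro a ha
    by_cases ha0 : a = 0
    · rw [ha0, _root_.inv_zero]; exact (AA H).zero_mem
    · have := div_mem_of_mul_mem ha0 (fun b hb => hmul a ha b hb) 1 h1A
      rwa [one_div] at this
  have hBsub : ∀ b ∈ BB H, b ∈ AA H := by
    intro b hb
    have := hg2A _ (hBA b hb)
    have h3 : γ ^ 2 * (b / γ ^ 2) = b := by field_simp
    rwa [h3] at this
  have hAsub : ∀ a ∈ AA H, a ∈ BB H := by
    intro a ha
    have := hAB _ (hdivg a ha)
    have h3 : γ ^ 2 * (a / γ ^ 2) = a := by field_simp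
    rwa [h3] at this
  refine ⟨{ carrier := (AA H : Set K)
            mul_mem' := fun ha hb => hmul _ ha _ hb
            one_mem' := h1A
            add_mem' := fun ha hb => (AA H).add_mem ha hb
            zero_mem' := (AA H).zero_mem
            neg_mem' := fun ha => (AA H).neg_mem ha
            inv_mem' := fun a ha => hinv a ha }, hBsub t hlt, ?_⟩
  intro a ha
  exact ⟨ha, hAsub a ha⟩

end Cfsg.Agent.helper4.Dk
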