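import Mathlib
import Cfsg.Agent.Lib_helper4_DkE

set_option autoImplicit false
set_option linter.unusedSectionVars false

/-!
# Dickson's lemma: the exceptional case and the final statement
-/

namespace Cfsg.Agent.helper4.Dk

open Matrix
open scoped LinearAlgebra.Projectivization MatrixGroups

variable {K : Type*} [Field K]

theorem pow_tri (h : SpecialLinearGroup (Fin 2) K) (h10 : h 1 0 = 0) (m : ℕ) :
    (h ^ m) 1 0 = 0 ∧ (h ^ m) 0 0 = h 0 0 ^ m := by
  induction m with
  | zero => simp
  | succ m ih =>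
    rw [pow_succ, mul_10, mul_00, ih.1, ih.2, h10]
    constructor
    · ring
    · ring

theorem exists_eigen [IsAlgClosed K] (h2 : (2 : K) ≠ 0) (g : SpecialLinearGroup (Fin 2) K) :
    ∃ σ : K, σ ≠ 0 ∧ tr g = σ + σ⁻¹ ∧ ∀ m : ℕ, g ^ m = 1 → σ ^ m = 1 := by
  obtain ⟨y, hy⟩ := exists_fixed h2 g
  obtain ⟨s, rfl⟩ := exists_smul_pInf y
  set h := s⁻¹ * g * s with hh
  have hg : g = s * h * s⁻¹ := by rw [hh]; group
  have hfix : h • (pInf : ℙ K (Fin 2 → K)) = pInf := by
    rw [hh, mul_smul, mul_smul, hy, inv_smul_smul]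
  have h10 := (fixed_pInf_iff h).mp hfix
  have hd := diag_mul_of_tri h h10
  have h00 : h 0 0 ≠ 0 := by
    intro h0; rw [h0, zero_mul] at hd; exact zero_ne_one hd
  refine ⟨h 0 0, h00, ?_, ?_⟩
  · rw [hg, tr_conj]
    unfold tr
    congr 1
    exact eq_inv_of_mul_eq_one_right hd
  · intro m hm
    have h3 : h ^ m = 1 := by
      rw [hh]
      have : ∀ m : ℕ, (s⁻¹ * g * s) ^ m = s⁻¹ * g ^ m * s := by
        intro m
        induction m with
        | zero => simp
        | succ m ih => rw [pow_succ, ih, pow_succ]; group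
      rw [this m, hm]; group
    have := (pow_tri h h10 m).2
    rw [h3] at this
    simpa using this.symm

theorem char3_pow12 (h3 : (3 : K) = 0) {σ : K} (hσ : σ ≠ 0) (h : σ ^ 12 = 1) :
    (σ + σ⁻¹) = 0 ∨ (σ + σ⁻¹) = 1 ∨ (σ + σ⁻¹) = -1 := by
  have h4 : (σ ^ 4 - 1) ^ 3 = 0 := by
    have : (σ ^ 4 - 1) ^ 3 = σ ^ 12 - 1 - 3 * (σ ^ 8 - σ ^ 4) := by ring
    rw [this, h, h3]; ring
  have h5 : σ ^ 4 - 1 = 0 := pow_eq_zero_iff (by norm_num) |>.mp h4
  have h6 : (σ ^ 2 - 1) * (σ ^ 2 + 1) = 0 := by linear_combination h5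
  have h2' : (2 : K) = -1 := by linear_combination h3
  rcases mul_eq_zero.mp h6 with h7 | h7
  · have h8 : (σ - 1) * (σ + 1) = 0 := by linear_combination h7
    rcases mul_eq_zero.mp h8 with h9 | h9
    · right; right
      have : σ = 1 := sub_eq_zero.mp h9
      rw [this]; simp; linear_combination h2'
    · right; left
      have : σ = -1 := eq_neg_of_add_eq_zero_left h9
      rw [this, show (-1 : K)⁻¹ = -1 by norm_num]
      linear_combination (-1 : K) * h2'
  · left
    field_simp
    linear_combination h7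

theorem char3_pow10 (h3 : (3 : K) = 0) {σ : K} (hσ : σ ≠ 0) (h : σ ^ 10 = 1) :
    (σ + σ⁻¹) = 1 ∨ (σ + σ⁻¹) = -1 ∨ (σ + σ⁻¹) ^ 4 = -1 := by
  have h2' : (2 : K) = -1 := by linear_combination h3
  have h6 : (σ ^ 5 - 1) * (σ ^ 5 + 1) = 0 := by linear_combination h
  have key : ∀ ε : K, ε ^ 2 = 1 → σ ^ 4 + ε * σ ^ 3 + σ ^ 2 + ε * σ + 1 = 0 →
      (σ + σ⁻¹) ^ 4 = -1 := by
    intro ε hε h7
    have h8 : (σ + σ⁻¹) ^ 2 + ε * (σ + σ⁻¹) - 1 = 0 := by
      field_simp
      linear_combination h7
    have h9 : (σ + σ⁻¹) ^ 4 - 3 * (σ + σ⁻¹) ^ 2 + 1 = 0 := by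
      have : (σ + σ⁻¹) ^ 4 - 3 * (σ + σ⁻¹) ^ 2 + 1 =
          ((σ + σ⁻¹) ^ 2 + ε * (σ + σ⁻¹) - 1) * ((σ + σ⁻¹) ^ 2 - ε * (σ + σ⁻¹) - 1) +
            (ε ^ 2 - 1) * (σ + σ⁻¹) ^ 2 := by ring
      rw [this, h8, hε]; ring
    rw [h3] at h9
    linear_combination h9
  rcases mul_eq_zero.mp h6 with h7 | h7
  · have h8 : (σ - 1) * (σ ^ 4 + σ ^ 3 + σ ^ 2 + σ + 1) = 0 := by linear_combination h7
    rcases mul_eq_zero.mp h8 with h9 | h9
    · right; left
      have : σ = 1 := sub_eq_zero.mp h9
      rw [this]; simp; linear_combination h2'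
    · right; right
      exact key 1 (by ring) (by linear_combination h9)
  · have h8 : (σ + 1) * (σ ^ 4 - σ ^ 3 + σ ^ 2 - σ + 1) = 0 := by linear_combination h7
    rcases mul_eq_zero.mp h8 with h9 | h9
    · left
      have : σ = -1 := eq_neg_of_add_eq_zero_left h9
      rw [this, show (-1 : K)⁻¹ = -1 by norm_num]
      linear_combination (-1 : K) * h2'
    · right; right
      exact key (-1) (by ring) (by linear_combination h9)


/-- the subgroup `±G` -/
def pmG (G : Subgroup (SpecialLinearGroup (Fin 2) K)) : Subgroup (SpecialLinearGroup (Fin 2) K) where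
  carrier := {g | g ∈ G ∨ -g ∈ G}
  mul_mem' := by
    rintro g h (hg | hg) (hh | hh)
    · exact Or.inl (G.mul_mem hg hh)
    · right
      have : -(g * h) = g * -h := by simp
      rw [this]; exact G.mul_mem hg hh
    · right
      have : -(g * h) = -g * h := by simp
      rw [this]; exact G.mul_mem hg hh
    · left
      have : g * h = -g * -h := by simp
      rw [this]; exact G.mul_mem hg hh
  one_mem' := Or.inl G.one_mem
  inv_mem' := by
    rintro g (hg | hg)
    · exact Or.inl (G.inv_mem hg)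
    · right
      have : -g⁻¹ = (-g)⁻¹ := by
        apply eq_inv_of_mul_eq_one_left
        simp
      rw [this]; exact G.inv_mem hg

theorem mem_pmG {G : Subgroup (SpecialLinearGroup (Fin 2) K)} {g : SpecialLinearGroup (Fin 2) K} :
    g ∈ pmG G ↔ g ∈ G ∨ -g ∈ G := Iff.rfl

theorem le_pmG (G : Subgroup (SpecialLinearGroup (Fin 2) K)) : G ≤ pmG G := fun _ hg => Or.inl hg

theorem neg_one_mem_pmG (G : Subgroup (SpecialLinearGroup (Fin 2) K)) : -1 ∈ pmG G := by
  right
  simp [G.one_mem]

instance finite_pmG (G : Subgroup (SpecialLinearGroup (Fin 2) K)) [Finite G] : Finite (pmG G) := by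
  have hG : (G : Set (SpecialLinearGroup (Fin 2) K)).Finite := Set.finite_coe_iff.mp inferInstance
  have : (pmG G : Set (SpecialLinearGroup (Fin 2) K)) ⊆
      (G : Set _) ∪ (fun g => -g) '' (G : Set (SpecialLinearGroup (Fin 2) K)) := by
    rintro g (hg | hg)
    · exact Or.inl hg
    · exact Or.inr ⟨-g, hg, by simp⟩
  exact Set.finite_coe_iff.mpr ((hG.union (hG.image _)).subset this)

theorem sq_mem_of_mem_pmG {G : Subgroup (SpecialLinearGroup (Fin 2) K)}
    {g : SpecialLinearGroup (Fin 2) K} (hg : g ∈ pmG G) : g * g ∈ G := by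
  rcases hg with hg | hg
  · exact G.mul_mem hg hg
  · have : g * g = -g * -g := by simp
    rw [this]; exact G.mul_mem hg hg

/-- reduction of the prime field -/
noncomputable def phi3 (K : Type*) [Field K] [CharP K 3] :
    SpecialLinearGroup (Fin 2) (ZMod 3) →* SpecialLinearGroup (Fin 2) K :=
  Matrix.SpecialLinearGroup.map (ZMod.castHom (dvd_refl 3) K)

theorem card_le_of_prime_entries [CharP K 3] (G : Subgroup (SpecialLinearGroup (Fin 2) K))
    (hG : G ≤ (phi3 K).range) : Nat.card (pmG G) ≤ 81 := by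
  have h1 : pmG G ≤ (phi3 K).range := by
    rintro g (hg | hg)
    · exact hG hg
    · obtain ⟨x, hx⟩ := hG hg
      refine ⟨-x, ?_⟩
      have : phi3 K (-x) = -(phi3 K x) := by
        apply sl_ext
        ext i j
        simp [phi3, Matrix.SpecialLinearGroup.coe_neg, Matrix.map_apply]
      rw [this, hx, neg_neg]
  haveI : Finite (phi3 K).range :=
    Finite.of_surjective (phi3 K).rangeRestrict (phi3 K).rangeRestrict_surjective
  have h2 : Nat.card (pmG G) ≤ Nat.card (phi3 K).range := Subgroup.card_le_of_le h1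
  have h3 : Nat.card (phi3 K).range ≤ Nat.card (SpecialLinearGroup (Fin 2) (ZMod 3)) :=
    Finite.card_range_le (phi3 K)
  have h4 : Nat.card (SpecialLinearGroup (Fin 2) (ZMod 3)) ≤ 81 := by
    have : Nat.card (Matrix (Fin 2) (Fin 2) (ZMod 3)) = 81 := by
      rw [Nat.card_eq_fintype_card]
      show Fintype.card (Fin 2 → Fin 2 → ZMod 3) = 81
      rw [Fintype.card_fun, Fintype.card_fun]
      simp
    rw [← this]
    exact Nat.card_le_card_of_injective (fun g : SpecialLinearGroup (Fin 2) (ZMod 3) => g.1)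
      Subtype.val_injective
  omega


theorem uS_mul_lS_10 (a b : K) : (uS a * lS b) 1 0 = b := by
  rw [mul_10]; simp

theorem tr_uS_mul_lS (a b : K) : tr (uS a * lS b) = 2 + a * b := by
  unfold tr
  rw [mul_00, mul_11]; simp; ring

theorem nonscalar_of_10 {g : SpecialLinearGroup (Fin 2) K} (h : g 1 0 ≠ 0) : g ≠ 1 ∧ g ≠ -1 := by
  constructor
  · rintro rfl; simp at h
  · rintro rfl; simp at h

theorem phi3_uS [CharP K 3] (a : ZMod 3) :
    phi3 K (uS a) = uS (ZMod.castHom (dvd_refl 3) K a) := by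
  apply sl_ext' <;> simp [phi3, Matrix.map_apply]

theorem phi3_lS [CharP K 3] (a : ZMod 3) :
    phi3 K (lS a) = lS (ZMod.castHom (dvd_refl 3) K a) := by
  apply sl_ext' <;> simp [phi3, Matrix.map_apply]

/-- **Dickson's lemma** on the subgroup generated by two transvections. -/
theorem dickson [IsAlgClosed K] {p : ℕ} [Fact p.Prime] [CharP K p] (hp2 : p ≠ 2) {t : K}
    (ht : t ≠ 0) (G : Subgroup (SpecialLinearGroup (Fin 2) K))
    (hG : G = Subgroup.closure {uS 1, lS t}) [Finite G] :
    (∃ F : Subfield K, t ∈ F ∧ ∀ a ∈ F, uS a ∈ G ∧ lS a ∈ G) ∨ (p = 3 ∧ t ^ 2 = -1) := by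
  have hpp : p.Prime := Fact.out
  have h2 : (2 : K) ≠ 0 := by
    intro h
    have h' : ((2 : ℕ) : K) = 0 := by exact_mod_cast h
    rw [CharP.cast_eq_zero_iff K p 2] at h'
    exact hp2 ((Nat.prime_dvd_prime_iff_eq hpp Nat.prime_two).mp h')
  have hu1G : uS 1 ∈ G := by rw [hG]; exact Subgroup.subset_closure (by simp)
  have hltG : lS t ∈ G := by rw [hG]; exact Subgroup.subset_closure (by simp)
  have hH := neg_one_mem_pmG G
  have hu1 : uS 1 ∈ pmG G := le_pmG G hu1G
  have hlt : lS t ∈ pmG G := le_pmG G hltG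
  have hy₀ : ∃ g ∈ pmG G, g ≠ 1 ∧ g ≠ -1 ∧ tr g ^ 2 = 4 ∧ g • (pt 0 : ℙ K (Fin 2 → K)) = pt 0 := by
    refine ⟨lS t, hlt, lS_ne_one ht, lS_ne_neg_one h2 t, ?_, lS_smul_pt_zero t⟩
    unfold tr; simp; norm_num
  obtain ⟨hP1, hcase⟩ := structure_thm h2 (pmG G) hH hu1 one_ne_zero hy₀ (pt_ne_pInf 0)
  rcases hcase with hn | ⟨hq3, hcard, hpow⟩
  · left
    obtain ⟨F, htF, hF⟩ := subfield_of_two_trans h2 (pmG G) hu1 ht hlt hP1 hn
    refine ⟨F, htF, ?_⟩
    intro a ha
    have h2F : (2 : K) ∈ F := by
      have : (2 : K) = 1 + 1 := by norm_num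
      rw [this]; exact F.add_mem F.one_mem F.one_mem
    have ha2 : a / 2 ∈ F := F.div_mem ha h2F
    obtain ⟨hu, hl⟩ := hF _ ha2
    have h3 : a / 2 + a / 2 = a := by field_simp; ring
    constructor
    · have := sq_mem_of_mem_pmG hu
      rwa [← uS_add, h3] at this
    · have := sq_mem_of_mem_pmG hl
      rwa [← lS_add, h3] at this
  · right
    -- characteristic 3
    have h3 : (3 : K) = 0 := by
      by_contra h3
      classical
      have hmem : ∀ x ∈ ({0, 1, 2, -1} : Finset K), x ∈ AA (pmG G) := by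
        intro x hx
        simp only [Finset.mem_insert, Finset.mem_singleton] at hx
        rcases hx with rfl | rfl | rfl | rfl
        · exact (AA _).zero_mem
        · exact hu1
        · have : (2 : K) = 1 + 1 := by norm_num
          rw [this]; exact (AA _).add_mem hu1 hu1
        · exact (AA _).neg_mem hu1
      have hcard4 : ({0, 1, 2, -1} : Finset K).card = 4 := by
        rw [Finset.card_insert_of_notMem, Finset.card_insert_of_notMem,
          Finset.card_insert_of_notMem, Finset.card_singleton]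
        · simp only [Finset.mem_singleton]
          intro h
          apply h3
          linear_combination h
        · simp only [Finset.mem_insert, Finset.mem_singleton, not_or]
          refine ⟨fun h => one_ne_zero (α := K) (by linear_combination -h), fun h => h2 ?_⟩
          linear_combination h
        · simp only [Finset.mem_insert, Finset.mem_singleton, not_or]
          refine ⟨fun h => one_ne_zero (α := K) h.symm, fun h => h2 h.symm, fun h => ?_⟩
          exact one_ne_zero (α := K) (by linear_combination h)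
      have hsub : ((({0, 1, 2, -1} : Finset K)) : Set K) ⊆ (AA (pmG G) : Set K) :=
        fun x hx => hmem x (by exact_mod_cast hx)
      have hfin : (AA (pmG G) : Set K).Finite := Set.finite_coe_iff.mp (finite_AA _)
      have := Set.ncard_le_ncard hsub hfin
      rw [Set.ncard_coe_finset, hcard4] at this
      have hc : Nat.card (AA (pmG G)) = (AA (pmG G) : Set K).ncard := rfl
      omega
    have hp3 : p = 3 := by
      have h' : ((3 : ℕ) : K) = 0 := by exact_mod_cast h3
      rw [CharP.cast_eq_zero_iff K p 3] at h'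
      exact (Nat.prime_dvd_prime_iff_eq hpp Nat.prime_three).mp h'
    subst hp3
    refine ⟨rfl, ?_⟩
    -- traces
    have htrace : ∀ g ∈ pmG G, g 1 0 ≠ 0 →
        (tr g = 0 ∨ tr g = 1 ∨ tr g = -1) ∨ tr g ^ 4 = -1 := by
      intro g hg h10
      obtain ⟨hg1, hg2⟩ := nonscalar_of_10 h10
      obtain ⟨σ, hσ0, hσtr, hσpow⟩ := exists_eigen h2 g
      rw [hσtr]
      rcases hpow g hg hg1 hg2 with h12 | h10'
      · left; exact char3_pow12 h3 hσ0 (hσpow 12 h12)
      · rcases char3_pow10 h3 hσ0 (hσpow 10 h10') with h | h | h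
        · left; right; left; exact h
        · left; right; right; exact h
        · right; exact h
    have hg₁ : uS 1 * lS t ∈ pmG G := (pmG G).mul_mem hu1 hlt
    have hg₂ : uS 1 * lS (-t) ∈ pmG G :=
      (pmG G).mul_mem hu1 (by rw [← lS_inv]; exact (pmG G).inv_mem hlt)
    have ht₁ := htrace _ hg₁ (by rw [uS_mul_lS_10]; exact ht)
    have ht₂ := htrace _ hg₂ (by rw [uS_mul_lS_10]; exact neg_ne_zero.mpr ht)
    rw [tr_uS_mul_lS] at ht₁ ht₂
    -- t in the prime field is impossible
    have hprime : t = 1 ∨ t = -1 → False := by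
      intro htt
      have hle : G ≤ (phi3 K).range := by
        rw [hG, Subgroup.closure_le]
        rintro g (rfl | rfl)
        · exact ⟨uS 1, by rw [phi3_uS]; simp⟩
        · rcases htt with rfl | rfl
          · exact ⟨lS 1, by rw [phi3_lS]; simp⟩
          · exact ⟨lS (-1), by rw [phi3_lS]; simp⟩
      have := card_le_of_prime_entries G hle
      omega
    have h2' : (2 : K) = -1 := by linear_combination h3
    rcases ht₁ with (h | h | h) | h₁
    · exfalso; apply hprime; left; linear_combination h - h3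
    · exfalso; apply hprime; right; linear_combination h
    · exfalso; apply ht; linear_combination h - h3
    · rcases ht₂ with (h | h | h) | h₂
      · exfalso; apply hprime; right; linear_combination -h + h3
      · exfalso; apply hprime; left; linear_combination -h
      · exfalso; apply ht; linear_combination -h + h3
      · have h5 : t * (t ^ 2 + 1) = 0 := by
          linear_combination h₁ - h₂ - (21 * t + 5 * t ^ 3) * h3
        rcases mul_eq_zero.mp h5 with h6 | h6
        · exact absurd h6 ht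
        · linear_combination h6

end Cfsg.Agent.helper4.Dk
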