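import Mathlib
import Cfsg.Agent.Lib_helper4_DkF
import Cfsg.Agent.Lib_helper11_SL2U

set_option autoImplicit false
set_option linter.unusedSectionVars false

/-!
# Dickson's lemma, corollary: a copy of `SL₂(p)` in a finite group generated by two opposite
transvections
-/

namespace Cfsg.Agent.helper4.Dk

open Matrix
open scoped LinearAlgebra.Projectivization MatrixGroups

variable {K : Type*} [Field K]

/-- reduction of the prime field -/
noncomputable def phiP (p : ℕ) [Fact p.Prime] (K : Type*) [Field K] [CharP K p] :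
    SpecialLinearGroup (Fin 2) (ZMod p) →* SpecialLinearGroup (Fin 2) K :=
  Matrix.SpecialLinearGroup.map (ZMod.castHom (dvd_refl p) K)

theorem phiP_apply (p : ℕ) [Fact p.Prime] [CharP K p] (g : SpecialLinearGroup (Fin 2) (ZMod p))
    (i j : Fin 2) : (phiP p K g) i j = ZMod.castHom (dvd_refl p) K (g i j) := by
  simp [phiP, Matrix.map_apply]

theorem phiP_injective (p : ℕ) [Fact p.Prime] [CharP K p] : Function.Injective (phiP p K) := by
  intro g h hgh
  apply sl_ext'
  all_goals
    apply (ZMod.castHom (dvd_refl p) K).injective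
    rw [← phiP_apply, ← phiP_apply, hgh]

theorem phiP_uS (p : ℕ) [Fact p.Prime] [CharP K p] (a : ZMod p) :
    phiP p K (uS a) = uS (ZMod.castHom (dvd_refl p) K a) := by
  apply sl_ext' <;> simp [phiP, Matrix.map_apply]

theorem phiP_lS (p : ℕ) [Fact p.Prime] [CharP K p] (a : ZMod p) :
    phiP p K (lS a) = lS (ZMod.castHom (dvd_refl p) K a) := by
  apply sl_ext' <;> simp [phiP, Matrix.map_apply]

theorem uS_natCast (n : ℕ) : uS (n : K) = uS 1 ^ n := by
  induction n with
  | zero => simp [uS_zero]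
  | succ n ih => rw [Nat.cast_succ, uS_add, ih, pow_succ]

theorem lS_natCast (n : ℕ) : lS (n : K) = lS 1 ^ n := by
  induction n with
  | zero => simp [lS_zero]
  | succ n ih => rw [Nat.cast_succ, lS_add, ih, pow_succ]

theorem uS_eq_helper11 (a : K) : Cfsg.Agent.helper11.SL2U.uS a = uS a := rfl

theorem lS_eq_helper11 (a : K) : Cfsg.Agent.helper11.SL2U.lS a = lS a := rfl

/-- a homomorphism from `SL₂(p)` has range inside `H` as soon as the two standard transvections
are mapped into `H` -/
theorem range_le_of_gens {p : ℕ} [Fact p.Prime] {L : Type*} [Group L]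
    (f : SpecialLinearGroup (Fin 2) (ZMod p) →* L) (H : Subgroup L)
    (hu : f (uS 1) ∈ H) (hl : f (lS 1) ∈ H) : f.range ≤ H := by
  have htop : H.comap f = ⊤ := by
    apply Cfsg.Agent.helper11.SL2U.eq_top_of_uS_lS_mem
    · intro s
      rw [uS_eq_helper11, ← ZMod.natCast_zmod_val s, uS_natCast, Subgroup.mem_comap, map_pow]
      exact H.pow_mem hu _
    · intro s
      rw [lS_eq_helper11, ← ZMod.natCast_zmod_val s, lS_natCast, Subgroup.mem_comap, map_pow]
      exact H.pow_mem hl _
  rintro _ ⟨g, rfl⟩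
  have : g ∈ H.comap f := by rw [htop]; trivial
  exact this

/-- diagonal element -/
def dS (d : K) (hd : d ≠ 0) : SpecialLinearGroup (Fin 2) K :=
  ⟨!![d, 0; 0, d⁻¹], by simp [det_fin_two_of, hd]⟩

@[simp] theorem dS_00 (d : K) (hd : d ≠ 0) : (dS d hd) 0 0 = d := rfl
@[simp] theorem dS_01 (d : K) (hd : d ≠ 0) : (dS d hd) 0 1 = 0 := rfl
@[simp] theorem dS_10 (d : K) (hd : d ≠ 0) : (dS d hd) 1 0 = 0 := rfl
@[simp] theorem dS_11 (d : K) (hd : d ≠ 0) : (dS d hd) 1 1 = d⁻¹ := rfl

theorem dS_conj_uS (d : K) (hd : d ≠ 0) (a : K) :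
    (dS d hd)⁻¹ * uS a * dS d hd = uS (a / d ^ 2) := by
  apply sl_ext'
  all_goals
    simp only [mul_00, mul_01, mul_10, mul_11, inv_00, inv_01, inv_10, inv_11, dS_00, dS_01,
      dS_10, dS_11, uS_00, uS_01, uS_10, uS_11]
    field_simp
  all_goals try ring

theorem dS_conj_lS (d : K) (hd : d ≠ 0) (a : K) :
    (dS d hd)⁻¹ * lS a * dS d hd = lS (a * d ^ 2) := by
  apply sl_ext'
  all_goals
    simp only [mul_00, mul_01, mul_10, mul_11, inv_00, inv_01, inv_10, inv_11, dS_00, dS_01,
      dS_10, dS_11, lS_00, lS_01, lS_10, lS_11]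
    field_simp
  all_goals try ring

/-- the conjugate subgroup `c H c⁻¹` -/
def cjS {L : Type*} [Group L] (c : L) (H : Subgroup L) : Subgroup L :=
  H.comap (MulAut.conj c⁻¹).toMonoidHom

theorem mem_cjS {L : Type*} [Group L] {c : L} {H : Subgroup L} {x : L} :
    x ∈ cjS c H ↔ c⁻¹ * x * c ∈ H := by
  unfold cjS
  rw [Subgroup.mem_comap]
  simp

instance finite_cjS {L : Type*} [Group L] (c : L) (H : Subgroup L) [Finite H] :
    Finite (cjS c H) := by
  have hinj : Function.Injective (fun x : cjS c H => (⟨c⁻¹ * x.1 * c, mem_cjS.mp x.2⟩ : H)) := by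
    intro x y hxy
    have h := congrArg Subtype.val hxy
    simp only at h
    apply Subtype.ext
    have h2 : c * (c⁻¹ * x.1 * c) * c⁻¹ = c * (c⁻¹ * y.1 * c) * c⁻¹ := by rw [h]
    simpa [mul_assoc] using h2
  exact Finite.of_injective _ hinj

theorem exists_hom_of_cjS {S L : Type*} [Group S] [Group L] (H : Subgroup L) (c : L)
    (f₀ : S →* L) (hinj : Function.Injective f₀) (h : f₀.range ≤ cjS c H) :
    ∃ f : S →* L, Function.Injective f ∧ f.range ≤ H := by
  refine ⟨(MulAut.conj c⁻¹).toMonoidHom.comp f₀, ?_, ?_⟩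
  · exact (MulAut.conj c⁻¹).injective.comp hinj
  · rintro _ ⟨s, rfl⟩
    have := h ⟨s, rfl⟩
    rw [mem_cjS] at this
    simpa using this

/-- **Corollary of Dickson's lemma**: a finite subgroup of `SL₂(K)` (`K` algebraically closed of odd
characteristic `p`) containing an upper and a lower nontrivial transvection contains a copy of
`SL₂(p)`. -/
theorem exists_sl2p [IsAlgClosed K] {p : ℕ} [Fact p.Prime] [CharP K p] (hp2 : p ≠ 2) {a b : K}
    (ha : a ≠ 0) (hb : b ≠ 0) (H : Subgroup (SpecialLinearGroup (Fin 2) K)) [Finite H]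
    (hu : uS a ∈ H) (hl : lS b ∈ H) :
    ∃ f : SpecialLinearGroup (Fin 2) (ZMod p) →* SpecialLinearGroup (Fin 2) K,
      Function.Injective f ∧ f.range ≤ H := by
  obtain ⟨d, hd⟩ := IsAlgClosed.exists_pow_nat_eq a⁻¹ (n := 2) (by norm_num)
  have hd0 : d ≠ 0 := by
    rintro rfl
    apply inv_ne_zero ha
    rw [← hd]; ring
  -- conjugate
  set c := dS d hd0 with hc
  have hu1 : uS 1 ∈ cjS c H := by
    rw [mem_cjS, hc, dS_conj_uS]
    have : (1 : K) / d ^ 2 = a := by rw [hd]; simp
    rw [this]; exact hu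
  have hl1 : lS (a * b) ∈ cjS c H := by
    rw [mem_cjS, hc, dS_conj_lS]
    have : a * b * d ^ 2 = b := by rw [hd]; field_simp
    rw [this]; exact hl
  have hab : a * b ≠ 0 := mul_ne_zero ha hb
  set G := Subgroup.closure {uS 1, lS (a * b)} with hG
  have hGle : G ≤ cjS c H := by
    rw [hG, Subgroup.closure_le]
    rintro g (rfl | rfl)
    · exact hu1
    · exact hl1
  haveI : Finite G := Finite.of_injective (Subgroup.inclusion hGle) (Subgroup.inclusion_injective hGle)
  have hu1G : uS 1 ∈ G := Subgroup.subset_closure (by simp)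
  have hltG : lS (a * b) ∈ G := Subgroup.subset_closure (by simp)
  rcases dickson hp2 hab G hG with ⟨F, -, hF⟩ | ⟨hp3, ht2⟩
  · -- main case
    apply exists_hom_of_cjS H c (phiP p K) (phiP_injective p)
    refine le_trans ?_ hGle
    apply range_le_of_gens
    · rw [phiP_uS, map_one]; exact hu1G
    · rw [phiP_lS, map_one]; exact (hF 1 F.one_mem).2
  · -- exceptional case
    subst hp3
    set t := a * b with ht
    have h3 : (3 : K) = 0 := by
      have := CharP.cast_eq_zero K 3
      exact_mod_cast this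
    have hgG : uS (-t) * lS 1 * uS t ∈ G := by
      have : uS (-t) * lS 1 * uS t = lS t * uS 1 * lS (-t) := by
        apply sl_ext'
        all_goals
          simp only [mul_00, mul_01, mul_10, mul_11, uS_00, uS_01, uS_10, uS_11, lS_00, lS_01,
            lS_10, lS_11]
        · ring
        · linear_combination (-1 : K) * ht2
        · linear_combination ht2
        · ring
      rw [this]
      refine G.mul_mem (G.mul_mem hltG hu1G) ?_
      rw [← lS_inv]; exact G.inv_mem hltG
    have key : (phiP 3 K).range ≤ cjS (uS t) G := by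
      apply range_le_of_gens
      · rw [phiP_uS, map_one, mem_cjS, uS_inv, ← uS_add, ← uS_add]
        have : -t + 1 + t = (1 : K) := by ring
        rw [this]; exact hu1G
      · rw [phiP_lS, map_one, mem_cjS, uS_inv]; exact hgG
    obtain ⟨f, hf, hfr⟩ := exists_hom_of_cjS G (uS t) (phiP 3 K) (phiP_injective 3) key
    exact exists_hom_of_cjS H c f hf (le_trans hfr hGle)

end Cfsg.Agent.helper4.Dk
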