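import Mathlib
import Cfsg.Agent.Lib_helper4_DkA

set_option autoImplicit false
set_option linter.unusedSectionVars false

/-!
# Quadratic pairs: reduction to `SL₂`

A group `Γ` generated by `a, b` acting on a finite-dimensional space over an algebraically closed
field of characteristic `p` with `(a-1)² = (b-1)² = 0`, not acting unipotently, has a homomorphism
to `SL₂(K)` with `a ↦ uS μ`, `b ↦ lS 1`, `μ ≠ 0`.
-/

namespace Cfsg.Agent.helper4.Red

open Matrix Cfsg.Agent.helper4.Dk

universe u v w

variable {K : Type u} [Field K] {Γ : Type w} [Group Γ]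

section basic

variable {W : Type v} [AddCommGroup W] [Module K W]

theorem one_add_pow_of_sq_zero (X : Module.End K W) (hX : X * X = 0) (n : ℕ) :
    (1 + X) ^ n = 1 + (n : K) • X := by
  induction n with
  | zero => simp
  | succ n ih =>
    rw [pow_succ, ih, mul_add, add_mul, add_mul, mul_one, one_mul, mul_one, smul_mul_assoc, hX,
      smul_zero, Nat.cast_succ, add_smul, one_smul]
    abel

/-- invariant subspaces -/
def IsInv (ρ : Γ →* Module.End K W) (U : Submodule K W) : Prop := ∀ g : Γ, ∀ w ∈ U, ρ g w ∈ U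

/-- subrepresentation -/
noncomputable def subRep (ρ : Γ →* Module.End K W) (U : Submodule K W) (hU : IsInv ρ U) :
    Γ →* Module.End K U where
  toFun g := (ρ g).restrict (hU g)
  map_one' := by
    ext w
    simp [LinearMap.restrict_apply]
  map_mul' g h := by
    ext w
    simp [LinearMap.restrict_apply]

@[simp] theorem subRep_apply (ρ : Γ →* Module.End K W) (U : Submodule K W) (hU : IsInv ρ U) (g : Γ)
    (w : U) : ((subRep ρ U hU g w : U) : W) = ρ g (w : W) := rfl

/-- quotient representation -/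
noncomputable def quotRep (ρ : Γ →* Module.End K W) (U : Submodule K W) (hU : IsInv ρ U) :
    Γ →* Module.End K (W ⧸ U) where
  toFun g := U.mapQ U (ρ g) (fun w hw => hU g w hw)
  map_one' := by
    apply Submodule.linearMap_qext
    ext w
    simp
  map_mul' g h := by
    apply Submodule.linearMap_qext
    ext w
    simp

@[simp] theorem quotRep_apply (ρ : Γ →* Module.End K W) (U : Submodule K W) (hU : IsInv ρ U) (g : Γ)
    (w : W) : quotRep ρ U hU g (Submodule.Quotient.mk w) = Submodule.Quotient.mk (ρ g w) := rfl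

theorem rho_inv_of_sq_zero (ρ : Γ →* Module.End K W) (g : Γ)
    (h : (ρ g - 1) * (ρ g - 1) = 0) : ρ g⁻¹ = 1 - (ρ g - 1) := by
  have h1 : ρ g * (1 - (ρ g - 1)) = 1 := by
    have : ρ g * (1 - (ρ g - 1)) = 1 - (ρ g - 1) * (ρ g - 1) := by noncomm_ring
    rw [this, h, sub_zero]
  have h2 : ρ g⁻¹ * ρ g = 1 := by rw [← map_mul, inv_mul_cancel, map_one]
  calc ρ g⁻¹ = ρ g⁻¹ * (ρ g * (1 - (ρ g - 1))) := by rw [h1, mul_one]
    _ = (ρ g⁻¹ * ρ g) * (1 - (ρ g - 1)) := by rw [mul_assoc]
    _ = 1 - (ρ g - 1) := by rw [h2, one_mul]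

theorem isInv_of_gens (ρ : Γ →* Module.End K W) {a b : Γ} (hgen : Subgroup.closure {a, b} = ⊤)
    (ha2 : (ρ a - 1) * (ρ a - 1) = 0) (hb2 : (ρ b - 1) * (ρ b - 1) = 0) (U : Submodule K W)
    (hN : ∀ w ∈ U, (ρ a - 1) w ∈ U) (hM : ∀ w ∈ U, (ρ b - 1) w ∈ U) : IsInv ρ U := by
  have key : ∀ g ∈ Subgroup.closure ({a, b} : Set Γ),
      (∀ w ∈ U, ρ g w ∈ U) ∧ (∀ w ∈ U, ρ g⁻¹ w ∈ U) := by
    intro g hg
    induction hg using Subgroup.closure_induction with
    | mem x hx =>
      have hx' : (ρ x - 1) * (ρ x - 1) = 0 ∧ ∀ w ∈ U, (ρ x - 1) w ∈ U := by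
        rcases hx with rfl | rfl
        · exact ⟨ha2, hN⟩
        · exact ⟨hb2, hM⟩
      constructor
      · intro w hw
        have : ρ x w = w + (ρ x - 1) w := by simp
        rw [this]; exact U.add_mem hw (hx'.2 w hw)
      · intro w hw
        rw [rho_inv_of_sq_zero ρ x hx'.1]
        have : (1 - (ρ x - 1)) w = w - (ρ x - 1) w := by simp
        rw [this]; exact U.sub_mem hw (hx'.2 w hw)
    | one => simp
    | mul x y _ _ hx hy =>
      constructor
      · intro w hw
        rw [map_mul]; exact hx.1 _ (hy.1 w hw)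
      · intro w hw
        rw [_root_.mul_inv_rev, map_mul]; exact hy.2 _ (hx.2 w hw)
    | inv x _ hx =>
      refine ⟨hx.2, ?_⟩
      rw [inv_inv]; exact hx.1
  intro g
  exact (key g (by rw [hgen]; trivial)).1

theorem rho_eq_one_of_gens (ρ : Γ →* Module.End K W) {a b : Γ}
    (hgen : Subgroup.closure {a, b} = ⊤) (ha : ρ a = 1) (hb : ρ b = 1) (g : Γ) : ρ g = 1 := by
  have hle : Subgroup.closure ({a, b} : Set Γ) ≤ ρ.ker := by
    rw [Subgroup.closure_le]
    rintro x (rfl | rfl)
    · exact ha
    · exact hb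
  have : g ∈ ρ.ker := hle (by rw [hgen]; trivial)
  exact this

/-- unipotent on a subspace and the quotient implies unipotent -/
theorem exists_pow_of_sub_quot {p : ℕ} (hp : (p : K) = 0) (ρ : Γ →* Module.End K W)
    (U : Submodule K W) (hU : IsInv ρ U)
    (h1 : ∀ g : Γ, ∃ k : ℕ, subRep ρ U hU (g ^ p ^ k) = 1)
    (h2 : ∀ g : Γ, ∃ k : ℕ, quotRep ρ U hU (g ^ p ^ k) = 1) (g : Γ) :
    ∃ k : ℕ, ρ (g ^ p ^ k) = 1 := by
  obtain ⟨k₁, hk₁⟩ := h1 g
  obtain ⟨k₂, hk₂⟩ := h2 (g ^ p ^ k₁)
  set h := (g ^ p ^ k₁) ^ p ^ k₂ with hh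
  have hsub : subRep ρ U hU h = 1 := by rw [hh, map_pow, hk₁, one_pow]
  set X := ρ h - 1 with hX
  have hXU : ∀ w : W, X w ∈ U := by
    intro w
    have := congrArg (fun f => f (Submodule.Quotient.mk w)) hk₂
    simp only [quotRep_apply, Module.End.one_apply] at this
    rw [hX]
    simp only [LinearMap.sub_apply, Module.End.one_apply]
    exact (Submodule.Quotient.eq U).mp this
  have hX0 : ∀ w ∈ U, X w = 0 := by
    intro w hw
    have := congrArg (fun f => ((f ⟨w, hw⟩ : U) : W)) hsub
    simp only [subRep_apply, Module.End.one_apply] at this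
    rw [hX]
    simp only [LinearMap.sub_apply, Module.End.one_apply]
    rw [this, sub_self]
  have hXX : X * X = 0 := by
    ext w
    simp only [Module.End.mul_apply, LinearMap.zero_apply]
    exact hX0 _ (hXU w)
  refine ⟨k₁ + k₂ + 1, ?_⟩
  have e : g ^ p ^ (k₁ + k₂ + 1) = h ^ p := by
    rw [hh, ← pow_mul, ← pow_mul]
    congr 1
    ring
  rw [e, map_pow]
  have : ρ h = 1 + X := by rw [hX]; abel
  rw [this, one_add_pow_of_sq_zero X hXX, hp, zero_smul, add_zero]

end basic

section irreducible

variable {W : Type v} [AddCommGroup W] [Module K W]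

theorem irreducible_case [IsAlgClosed K] [FiniteDimensional K W] (ρ : Γ →* Module.End K W)
    {a b : Γ} (hgen : Subgroup.closure {a, b} = ⊤)
    (ha2 : (ρ a - 1) * (ρ a - 1) = 0) (hb2 : (ρ b - 1) * (ρ b - 1) = 0)
    (hne : ∃ g : Γ, ρ g ≠ 1) (hirr : ∀ U : Submodule K W, IsInv ρ U → U = ⊥ ∨ U = ⊤) :
    ∃ (φ : Γ →* SpecialLinearGroup (Fin 2) K) (μ : K), μ ≠ 0 ∧ φ a = uS μ ∧ φ b = lS 1 := by
  classical
  set N := ρ a - 1 with hN
  set M := ρ b - 1 with hM
  have hNN : ∀ w, N (N w) = 0 := fun w => by
    have := congrArg (fun f => f w) ha2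
    simpa using this
  have hMM : ∀ w, M (M w) = 0 := fun w => by
    have := congrArg (fun f => f w) hb2
    simpa using this
  have hρa : ∀ w, ρ a w = w + N w := fun w => by rw [hN]; simp
  have hρb : ∀ w, ρ b w = w + M w := fun w => by rw [hM]; simp
  -- the fixed space is trivial
  have hfix : ∀ w, N w = 0 → M w = 0 → w = 0 := by
    intro w hw1 hw2
    have hinv : IsInv ρ (LinearMap.ker N ⊓ LinearMap.ker M) := by
      apply isInv_of_gens ρ hgen ha2 hb2
      · intro x hx
        have : N x = 0 := hx.1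
        rw [← hN, this]; exact Submodule.zero_mem _
      · intro x hx
        have : M x = 0 := hx.2
        rw [← hM, this]; exact Submodule.zero_mem _
    rcases hirr _ hinv with h | h
    · have : w ∈ LinearMap.ker N ⊓ LinearMap.ker M := ⟨hw1, hw2⟩
      rw [h] at this
      exact this
    · exfalso
      obtain ⟨g, hg⟩ := hne
      apply hg
      apply rho_eq_one_of_gens ρ hgen
      · ext x
        have : x ∈ LinearMap.ker N ⊓ LinearMap.ker M := by rw [h]; trivial
        rw [hρa, this.1]; simp
      · ext x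
        have : x ∈ LinearMap.ker N ⊓ LinearMap.ker M := by rw [h]; trivial
        rw [hρb, this.2]; simp
  -- ker N is nontrivial
  have hWnt : Nontrivial W := by
    by_contra hW
    rw [not_nontrivial_iff_subsingleton] at hW
    obtain ⟨g, hg⟩ := hne
    apply hg
    ext x
    exact Subsingleton.elim _ _
  haveI : Nontrivial (LinearMap.ker N) := by
    obtain ⟨w, hw⟩ := exists_ne (0 : W)
    by_cases h : N w = 0
    · exact ⟨⟨⟨w, h⟩, 0, fun h' => hw (congrArg Subtype.val h')⟩⟩
    · exact ⟨⟨⟨N w, hNN w⟩, 0, fun h' => h (congrArg Subtype.val h')⟩⟩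
  -- eigenvector
  have hT : ∀ w ∈ LinearMap.ker N, (N * M) w ∈ LinearMap.ker N := by
    intro w _
    show N ((N * M) w) = 0
    rw [Module.End.mul_apply]; exact hNN _
  obtain ⟨c, hc⟩ := Module.End.exists_eigenvalue ((N * M).restrict hT)
  obtain ⟨v, hv⟩ := hc.exists_hasEigenvector
  have hv0 : (v : W) ≠ 0 := fun h => hv.2 (Subtype.ext h)
  have hNv : N (v : W) = 0 := v.2
  have hNMv : N (M (v : W)) = c • (v : W) := by
    have := congrArg Subtype.val hv.apply_eq_smul
    simpa using this
  set v₀ : W := (v : W) with hv₀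
  set u : W := M v₀ with hu
  have hMu : M u = 0 := hMM _
  have hu0 : u ≠ 0 := fun h => hv0 (hfix v₀ hNv h)
  -- the span
  have hinvU : IsInv ρ (Submodule.span K {v₀, u}) := by
    apply isInv_of_gens ρ hgen ha2 hb2
    · intro x hx
      obtain ⟨α, β, rfl⟩ := Submodule.mem_span_pair.mp hx
      rw [← hN, map_add, map_smul, map_smul, hNv, hNMv, smul_zero, zero_add]
      exact Submodule.smul_mem _ _ (Submodule.smul_mem _ _ (Submodule.subset_span (by simp)))
    · intro x hx
      obtain ⟨α, β, rfl⟩ := Submodule.mem_span_pair.mp hx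
      rw [← hM, map_add, map_smul, map_smul, hMu, smul_zero, add_zero]
      exact Submodule.smul_mem _ _ (Submodule.subset_span
        (Set.mem_insert_of_mem _ (Set.mem_singleton_iff.mpr hu.symm)))
  have hspan : Submodule.span K {v₀, u} = ⊤ := by
    rcases hirr _ hinvU with h | h
    · exfalso
      have : v₀ ∈ Submodule.span K {v₀, u} := Submodule.subset_span (by simp)
      rw [h] at this
      exact hv0 this
    · exact h
  have hli : LinearIndependent K ![v₀, u] := by
    rw [LinearIndependent.pair_iff]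
    intro s t hst
    have h1 : s • u = 0 := by
      have := congrArg M hst
      rw [map_add, map_smul, map_smul, hMu, smul_zero, add_zero, map_zero] at this
      exact this
    have hs : s = 0 := by
      rcases smul_eq_zero.mp h1 with h | h
      · exact h
      · exact absurd h hu0
    refine ⟨hs, ?_⟩
    rw [hs, zero_smul, zero_add] at hst
    rcases smul_eq_zero.mp hst with h | h
    · exact h
    · exact absurd h hu0
  have hc0 : c ≠ 0 := by
    rintro rfl
    have hinv1 : IsInv ρ (Submodule.span K {u}) := by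
      apply isInv_of_gens ρ hgen ha2 hb2
      · intro x hx
        obtain ⟨β, rfl⟩ := Submodule.mem_span_singleton.mp hx
        rw [← hN, map_smul, hNMv, zero_smul, smul_zero]
        exact Submodule.zero_mem _
      · intro x hx
        obtain ⟨β, rfl⟩ := Submodule.mem_span_singleton.mp hx
        rw [← hM, map_smul, hMu, smul_zero]
        exact Submodule.zero_mem _
    rcases hirr _ hinv1 with h | h
    · have : u ∈ Submodule.span K {u} := Submodule.subset_span (by simp)
      rw [h] at this
      exact hu0 this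
    · have : v₀ ∈ Submodule.span K {u} := by rw [h]; trivial
      obtain ⟨β, hβ⟩ := Submodule.mem_span_singleton.mp this
      apply hu0
      rw [hu, ← hβ, map_smul, hMu, smul_zero]
  -- the basis
  have hsp' : ⊤ ≤ Submodule.span K (Set.range ![v₀, u]) := by
    rw [← hspan]
    apply Submodule.span_mono
    rintro x (rfl | rfl)
    · exact ⟨0, rfl⟩
    · exact ⟨1, rfl⟩
  set B := Module.Basis.mk hli hsp' with hB
  have hB0 : B 0 = v₀ := by rw [hB, Module.Basis.mk_apply]; rfl
  have hB1 : B 1 = u := by rw [hB, Module.Basis.mk_apply]; rfl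
  set mat : Γ →* Matrix (Fin 2) (Fin 2) K :=
    ((LinearMap.toMatrixAlgEquiv B : Module.End K W ≃ₐ[K] Matrix (Fin 2) (Fin 2) K) :
      Module.End K W →* Matrix (Fin 2) (Fin 2) K).comp ρ with hmat
  have hmat_apply : ∀ g i j, mat g i j = B.repr (ρ g (B j)) i := by
    intro g i j
    rw [hmat]
    simp [LinearMap.toMatrixAlgEquiv_apply]
  have hmata : mat a = !![1, c; 0, 1] := by
    ext i j
    rw [hmat_apply]
    fin_cases j
    · have : ρ a (B 0) = B 0 := by rw [hρa, hB0, hNv, add_zero]
      simp only [Fin.zero_eta, this, Module.Basis.repr_self]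
      fin_cases i <;> simp
    · have : ρ a (B 1) = B 1 + c • B 0 := by rw [hρa, hB1, hB0, hNMv]
      simp only [Fin.mk_one, this, map_add, map_smul, Module.Basis.repr_self]
      fin_cases i <;> simp
  have hmatb : mat b = !![1, 0; 1, 1] := by
    ext i j
    rw [hmat_apply]
    fin_cases j
    · have : ρ b (B 0) = B 0 + B 1 := by rw [hρb, hB0, hB1]
      simp only [Fin.zero_eta, this, map_add, Module.Basis.repr_self]
      fin_cases i <;> simp
    · have : ρ b (B 1) = B 1 := by rw [hρb, hB1, hMu, add_zero]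
      simp only [Fin.mk_one, this, Module.Basis.repr_self]
      fin_cases i <;> simp
  have hdet : ∀ g, (mat g).det = 1 := by
    intro g
    have hle : Subgroup.closure ({a, b} : Set Γ) ≤ (Matrix.detMonoidHom.comp mat).ker := by
      rw [Subgroup.closure_le]
      rintro x (rfl | rfl)
      · show (mat x).det = 1
        rw [hmata]; simp [det_fin_two_of]
      · show (mat x).det = 1
        rw [hmatb]; simp [det_fin_two_of]
    exact hle (by rw [hgen]; trivial)
  refine ⟨{ toFun := fun g => ⟨mat g, hdet g⟩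
            map_one' := Subtype.ext (map_one mat)
            map_mul' := fun g h => Subtype.ext (map_mul mat g h) }, c, hc0, ?_, ?_⟩
  · exact Subtype.ext hmata
  · exact Subtype.ext hmatb

end irreducible

section main

theorem subRep_sq_zero {W : Type v} [AddCommGroup W] [Module K W] (ρ : Γ →* Module.End K W)
    (U : Submodule K W) (hU : IsInv ρ U) (g : Γ) (h : (ρ g - 1) * (ρ g - 1) = 0) :
    (subRep ρ U hU g - 1) * (subRep ρ U hU g - 1) = 0 := by
  ext w
  have h' := congrArg (fun f => f (w : W)) h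
  simp only [Module.End.mul_apply, LinearMap.sub_apply, Module.End.one_apply,
    LinearMap.zero_apply] at h'
  simp only [Module.End.mul_apply, LinearMap.sub_apply, Module.End.one_apply,
    LinearMap.zero_apply, Submodule.coe_sub, subRep_apply, Submodule.coe_zero]
  exact h'

theorem quotRep_sq_zero {W : Type v} [AddCommGroup W] [Module K W] (ρ : Γ →* Module.End K W)
    (U : Submodule K W) (hU : IsInv ρ U) (g : Γ) (h : (ρ g - 1) * (ρ g - 1) = 0) :
    (quotRep ρ U hU g - 1) * (quotRep ρ U hU g - 1) = 0 := by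
  apply Submodule.linearMap_qext
  ext w
  have h' := congrArg (fun f => (Submodule.Quotient.mk (f w) : W ⧸ U)) h
  simp only [Module.End.mul_apply, LinearMap.sub_apply, Module.End.one_apply,
    LinearMap.zero_apply] at h'
  simp only [LinearMap.comp_apply, Submodule.mkQ_apply, Module.End.mul_apply,
    LinearMap.sub_apply, Module.End.one_apply, LinearMap.zero_apply, quotRep_apply,
    ← Submodule.Quotient.mk_sub, map_sub]
  rw [map_sub, Submodule.Quotient.mk_zero] at h'
  exact h'

/-- **Reduction theorem for quadratic pairs.** -/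
theorem red_main [IsAlgClosed K] {p : ℕ} (hp : (p : K) = 0) {a b : Γ}
    (hgen : Subgroup.closure {a, b} = ⊤) :
    ∀ (n : ℕ) (W : Type v) [AddCommGroup W] [Module K W] [FiniteDimensional K W]
      (ρ : Γ →* Module.End K W), Module.finrank K W = n →
      (ρ a - 1) * (ρ a - 1) = 0 → (ρ b - 1) * (ρ b - 1) = 0 →
      (∃ g : Γ, ∀ k : ℕ, ρ (g ^ p ^ k) ≠ 1) →
      ∃ (φ : Γ →* SpecialLinearGroup (Fin 2) K) (μ : K), μ ≠ 0 ∧ φ a = uS μ ∧ φ b = lS 1 := by
  intro n
  induction n using Nat.strong_induction_on with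
  | _ n ih =>
    intro W _ _ _ ρ hn ha2 hb2 hnu
    by_cases hred : ∃ U : Submodule K W, IsInv ρ U ∧ U ≠ ⊥ ∧ U ≠ ⊤
    · obtain ⟨U, hU, hU0, hU1⟩ := hred
      by_cases h1 : ∃ g : Γ, ∀ k : ℕ, subRep ρ U hU (g ^ p ^ k) ≠ 1
      · refine ih (Module.finrank K U) ?_ U (subRep ρ U hU) rfl
          (subRep_sq_zero ρ U hU a ha2) (subRep_sq_zero ρ U hU b hb2) h1
        rw [← hn]
        exact Submodule.finrank_lt hU1
      · by_cases h2 : ∃ g : Γ, ∀ k : ℕ, quotRep ρ U hU (g ^ p ^ k) ≠ 1
        · refine ih (Module.finrank K (W ⧸ U)) ?_ (W ⧸ U) (quotRep ρ U hU) rfl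
            (quotRep_sq_zero ρ U hU a ha2) (quotRep_sq_zero ρ U hU b hb2) h2
          rw [← hn]
          have h3 := Submodule.finrank_quotient_add_finrank U
          have h4 : 0 < Module.finrank K U := by
            rw [Module.finrank_pos_iff]
            exact (Submodule.nontrivial_iff_ne_bot).mpr hU0
          omega
        · exfalso
          simp only [not_exists, not_forall, not_not] at h1 h2
          obtain ⟨g, hg⟩ := hnu
          obtain ⟨k, hk⟩ := exists_pow_of_sub_quot hp ρ U hU h1 h2 g
          exact hg k hk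
    · simp only [not_exists, not_and, not_not] at hred
      apply irreducible_case ρ hgen ha2 hb2
      · obtain ⟨g, hg⟩ := hnu
        exact ⟨g, by simpa using hg 0⟩
      · intro U hU
        by_cases h : U = ⊥
        · exact Or.inl h
        · exact Or.inr (hred U hU h)

end main

end Cfsg.Agent.helper4.Red
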