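import Mathlib
import Cfsg.Agent.Lib_helper4_DkG
import Cfsg.Agent.Lib_helper4_RedA

set_option autoImplicit false
set_option linter.unusedSectionVars false

/-!
# Quadratic pairs: a copy of `SL₂(p)` in the image, and sections
-/

namespace Cfsg.Agent.helper4.Red

open Matrix Cfsg.Agent.helper4.Dk

universe u v w

/-- base change of endomorphisms along a field extension, through matrices -/
noncomputable def bcHom {k : Type u} [Field k] (L : Type v) [Field L] [Algebra k L] {M : Type w}
    [AddCommGroup M] [Module k M] {n : ℕ} (B : Module.Basis (Fin n) k M) :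
    Module.End k M →+* Module.End L (Fin n → L) :=
  ((Matrix.toLinAlgEquiv' : Matrix (Fin n) (Fin n) L ≃ₐ[L] _).toRingEquiv.toRingHom).comp
    ((algebraMap k L).mapMatrix.comp (LinearMap.toMatrixAlgEquiv B).toRingEquiv.toRingHom)

theorem bcHom_injective {k : Type u} [Field k] (L : Type v) [Field L] [Algebra k L] {M : Type w}
    [AddCommGroup M] [Module k M] {n : ℕ} (B : Module.Basis (Fin n) k M) :
    Function.Injective (bcHom L B) := by
  unfold bcHom
  intro x y hxy
  simp only [RingHom.coe_comp, Function.comp_apply] at hxy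
  have h1 := (Matrix.toLinAlgEquiv' : Matrix (Fin n) (Fin n) L ≃ₐ[L] _).injective hxy
  have h2 : Function.Injective ((algebraMap k L).mapMatrix (m := Fin n)) := by
    intro A B hAB
    exact Matrix.map_injective (algebraMap k L).injective hAB
  exact (LinearMap.toMatrixAlgEquiv B).injective (h2 h1)

/-- **Quadratic pairs give `SL₂(p)`.** -/
theorem comb {k : Type u} [Field k] {p : ℕ} [Fact p.Prime] [CharP k p] (hp2 : p ≠ 2)
    {Γ : Type v} [Group Γ] [Finite Γ] {a b : Γ} (hgen : Subgroup.closure {a, b} = ⊤)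
    {M : Type w} [AddCommGroup M] [Module k M] [FiniteDimensional k M]
    (ρ₀ : Γ →* Module.End k M) (ha2 : (ρ₀ a - 1) * (ρ₀ a - 1) = 0)
    (hb2 : (ρ₀ b - 1) * (ρ₀ b - 1) = 0) (hnu : ∃ g : Γ, ∀ j : ℕ, ρ₀ (g ^ p ^ j) ≠ 1) :
    ∃ (φ : Γ →* SpecialLinearGroup (Fin 2) (AlgebraicClosure k))
      (f : SpecialLinearGroup (Fin 2) (ZMod p) →* SpecialLinearGroup (Fin 2) (AlgebraicClosure k)),
      Function.Injective f ∧ f.range ≤ φ.range := by
  haveI : CharP (AlgebraicClosure k) p :=
    charP_of_injective_algebraMap (algebraMap k (AlgebraicClosure k)).injective p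
  have hp : ((p : ℕ) : AlgebraicClosure k) = 0 := CharP.cast_eq_zero _ p
  set n := Module.finrank k M with hn
  set B := Module.finBasis k M with hB
  set R := bcHom (AlgebraicClosure k) B with hR
  have hRinj := bcHom_injective (AlgebraicClosure k) B
  set ρ : Γ →* Module.End (AlgebraicClosure k) (Fin n → AlgebraicClosure k) :=
    (R : Module.End k M →* _).comp ρ₀ with hρ
  have hρ_apply : ∀ g, ρ g = R (ρ₀ g) := fun g => rfl
  have ha2' : (ρ a - 1) * (ρ a - 1) = 0 := by
    rw [hρ_apply, ← map_one R, ← map_sub, ← map_mul, ha2, map_zero]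
  have hb2' : (ρ b - 1) * (ρ b - 1) = 0 := by
    rw [hρ_apply, ← map_one R, ← map_sub, ← map_mul, hb2, map_zero]
  have hnu' : ∃ g : Γ, ∀ j : ℕ, ρ (g ^ p ^ j) ≠ 1 := by
    obtain ⟨g, hg⟩ := hnu
    refine ⟨g, fun j h => hg j ?_⟩
    apply hRinj
    rw [map_one, ← hρ_apply, h]
  obtain ⟨φ, μ, hμ, hφa, hφb⟩ := red_main (K := AlgebraicClosure k) hp hgen n
    (Fin n → AlgebraicClosure k) ρ (Module.finrank_fin_fun _) ha2' hb2' hnu'
  haveI : Finite φ.range := Finite.of_surjective φ.rangeRestrict φ.rangeRestrict_surjective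
  obtain ⟨f, hf, hfr⟩ := exists_sl2p hp2 hμ one_ne_zero φ.range ⟨a, hφa⟩ ⟨b, hφb⟩
  exact ⟨φ, f, hf, hfr⟩

/-- a section from a homomorphism whose range contains an embedded copy of `S` -/
theorem exists_section_of_hom {G : Type u} {S : Type v} {L : Type w} [Group G] [Group S] [Group L]
    (Γ : Subgroup G) (φ : Γ →* L) (f : S →* L) (hf : Function.Injective f)
    (hle : f.range ≤ φ.range) :
    ∃ (K N : Subgroup G) (_ : (N.subgroupOf K).Normal), K ≤ Γ ∧
      Nonempty ((K ⧸ N.subgroupOf K) ≃* S) := by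
  set K₀ : Subgroup Γ := f.range.comap φ with hK₀
  set K : Subgroup G := K₀.map Γ.subtype with hK
  have hKΓ : K ≤ Γ := by
    rintro _ ⟨y, _, rfl⟩
    exact y.2
  let e₁ : K₀ ≃* K := K₀.equivMapOfInjective Γ.subtype Γ.subtype_injective
  let φ₁ : K₀ →* f.range := (φ.comp K₀.subtype).codRestrict f.range (fun y => y.2)
  let e₂ : S ≃* f.range := MonoidHom.ofInjective hf
  let ψ : K →* S := e₂.symm.toMonoidHom.comp (φ₁.comp e₁.symm.toMonoidHom)
  have hψ : Function.Surjective ψ := by
    intro s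
    obtain ⟨y, hy⟩ := hle ⟨s, rfl⟩
    have hyK : y ∈ K₀ := by
      show φ y ∈ f.range
      rw [hy]; exact ⟨s, rfl⟩
    refine ⟨e₁ ⟨y, hyK⟩, ?_⟩
    show e₂.symm (φ₁ (e₁.symm (e₁ ⟨y, hyK⟩))) = s
    rw [MulEquiv.symm_apply_apply]
    apply e₂.injective
    rw [MulEquiv.apply_symm_apply]
    apply Subtype.ext
    show φ y = f s
    exact hy
  have hRk : (ψ.ker.map K.subtype).subgroupOf K = ψ.ker :=
    Subgroup.comap_map_eq_self_of_injective K.subtype_injective _
  haveI hRn : ((ψ.ker.map K.subtype).subgroupOf K).Normal := by rw [hRk]; infer_instance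
  exact ⟨K, ψ.ker.map K.subtype, hRn, hKΓ,
    ⟨(QuotientGroup.quotientMulEquivOfEq hRk).trans
      (QuotientGroup.quotientKerEquivOfSurjective ψ hψ)⟩⟩

end Cfsg.Agent.helper4.Red
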