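import Mathlib
import Cfsg.Prelude.Def_Transfer
import Cfsg.Agent.Lib_helper4_RedB

set_option autoImplicit false
set_option linter.unusedSectionVars false

/-!
# Quadratic pairs: the conjugation action on an elementary abelian subgroup as a representation
-/

namespace Cfsg.Agent.helper4.Red

open Matrix Cfsg.Agent.helper4.Dk
open scoped commutatorElement

variable {G : Type*} [Group G] {p : ℕ} [Fact p.Prime]

/-- the elementary abelian subgroup `V` written additively -/
def EA (p : ℕ) (V : Subgroup G) : Type _ := Additive V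

/-- constructor -/
def EA.mk {V : Subgroup G} (v : V) : EA p V := Additive.ofMul v

/-- destructor -/
def EA.val {V : Subgroup G} (x : EA p V) : V := Additive.toMul (show Additive V from x)

@[simp] theorem EA.val_mk {V : Subgroup G} (v : V) : (EA.mk (p := p) v).val = v := rfl

@[simp] theorem EA.mk_val {V : Subgroup G} (x : EA p V) : EA.mk x.val = x := rfl

theorem EA.ext {V : Subgroup G} {x y : EA p V} (h : x.val = y.val) : x = y := h

instance instAddGroupEA (V : Subgroup G) : AddGroup (EA p V) := inferInstanceAs (AddGroup (Additive V))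

@[simp] theorem EA.val_add {V : Subgroup G} (x y : EA p V) : (x + y).val = x.val * y.val := rfl
@[simp] theorem EA.val_zero {V : Subgroup G} : (0 : EA p V).val = 1 := rfl
@[simp] theorem EA.val_neg {V : Subgroup G} (x : EA p V) : (-x).val = x.val⁻¹ := rfl
@[simp] theorem EA.val_sub {V : Subgroup G} (x y : EA p V) : (x - y).val = x.val / y.val := rfl

instance instAddCommGroupEA (V : Subgroup G) [hV : Fact (Cfsg.IsElementaryAbelian p V)] :
    AddCommGroup (EA p V) :=
  { instAddGroupEA V with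
    add_comm := fun x y => by
      apply EA.ext
      simp only [EA.val_add]
      exact hV.out.1.is_comm.comm x.val y.val }

theorem EA.nsmul_eq_zero (V : Subgroup G) [hV : Fact (Cfsg.IsElementaryAbelian p V)] (x : EA p V) :
    p • x = 0 := by
  apply EA.ext
  have h1 : ∀ n : ℕ, (n • x).val = x.val ^ n := by
    intro n
    induction n with
    | zero => simp
    | succ n ih => rw [succ_nsmul, EA.val_add, ih, pow_succ]
  rw [h1, EA.val_zero]
  apply Subtype.ext
  rw [Subgroup.coe_pow, Subgroup.coe_one]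
  exact hV.out.2 _ x.val.2

noncomputable instance instModuleEA (V : Subgroup G) [hV : Fact (Cfsg.IsElementaryAbelian p V)] :
    Module (ZMod p) (EA p V) :=
  AddCommGroup.zmodModule (EA.nsmul_eq_zero V)

instance instFiniteEA [Finite G] (V : Subgroup G) : Finite (EA p V) :=
  inferInstanceAs (Finite (Additive V))

/-- conjugation as an additive map -/
def conjAdd (p : ℕ) [Fact p.Prime] (V : Subgroup G) (g : G) (hg : g ∈ Subgroup.normalizer (V : Set G)) : EA p V →+ EA p V where
  toFun x := EA.mk ⟨g * (x.val : G) * g⁻¹, (Subgroup.mem_normalizer_iff.mp hg _).mp x.val.2⟩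
  map_zero' := by
    apply EA.ext
    apply Subtype.ext
    simp
  map_add' x y := by
    apply EA.ext
    apply Subtype.ext
    simp

@[simp] theorem conjAdd_val (p : ℕ) [Fact p.Prime] (V : Subgroup G) (g : G) (hg : g ∈ Subgroup.normalizer (V : Set G)) (x : EA p V) :
    ((conjAdd p V g hg x).val : G) = g * (x.val : G) * g⁻¹ := rfl

/-- the conjugation representation -/
noncomputable def conjRep (p : ℕ) [Fact p.Prime] (V : Subgroup G) [hV : Fact (Cfsg.IsElementaryAbelian p V)]
    (Γ : Subgroup G) (hΓ : Γ ≤ Subgroup.normalizer (V : Set G)) : Γ →* Module.End (ZMod p) (EA p V) where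
  toFun g := (conjAdd p V (g : G) (hΓ g.2)).toZModLinearMap p
  map_one' := by
    ext x
    apply EA.ext
    apply Subtype.ext
    simp
  map_mul' g h := by
    ext x
    apply EA.ext
    apply Subtype.ext
    simp [mul_assoc]

@[simp] theorem conjRep_val (V : Subgroup G) [hV : Fact (Cfsg.IsElementaryAbelian p V)]
    (Γ : Subgroup G) (hΓ : Γ ≤ Subgroup.normalizer (V : Set G)) (g : Γ) (x : EA p V) :
    ((conjRep p V Γ hΓ g x).val : G) = (g : G) * (x.val : G) * (g : G)⁻¹ := rfl

theorem conjRep_quadratic (V : Subgroup G) [hV : Fact (Cfsg.IsElementaryAbelian p V)]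
    (Γ : Subgroup G) (hΓ : Γ ≤ Subgroup.normalizer (V : Set G)) (a : Γ)
    (hq : ⁅⁅V, Subgroup.zpowers (a : G)⁆, Subgroup.zpowers (a : G)⁆ = ⊥) :
    (conjRep p V Γ hΓ a - 1) * (conjRep p V Γ hΓ a - 1) = 0 := by
  ext x
  apply EA.ext
  apply Subtype.ext
  simp only [Module.End.mul_apply, LinearMap.sub_apply, Module.End.one_apply,
    LinearMap.zero_apply, EA.val_sub, EA.val_zero, Subgroup.coe_div, conjRep_val,
    Subgroup.coe_one]
  set c : G := ⁅(a : G), (x.val : G)⁆ with hc
  have hcm : c ∈ ⁅V, Subgroup.zpowers (a : G)⁆ := by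
    have : c = ⁅(x.val : G), (a : G)⁆⁻¹ := (commutatorElement_inv _ _).symm
    rw [this]
    exact Subgroup.inv_mem _
      (Subgroup.commutator_mem_commutator x.val.2 (Subgroup.mem_zpowers _))
  have hc2 : ⁅(a : G), c⁆ = 1 := by
    have h1 : ⁅(a : G), c⁆ = ⁅c, (a : G)⁆⁻¹ := (commutatorElement_inv _ _).symm
    have h' : ⁅c, (a : G)⁆ ∈ ⁅⁅V, Subgroup.zpowers (a : G)⁆, Subgroup.zpowers (a : G)⁆ :=
      Subgroup.commutator_mem_commutator hcm (Subgroup.mem_zpowers _)
    rw [hq, Subgroup.mem_bot] at h'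
    rw [h1, h', inv_one]
  rw [hc, commutatorElement_def, commutatorElement_def] at hc2
  rw [div_eq_mul_inv, div_eq_mul_inv]
  exact hc2

theorem mem_centralizer_of_conjRep_eq_one (V : Subgroup G)
    [hV : Fact (Cfsg.IsElementaryAbelian p V)] (Γ : Subgroup G)
    (hΓ : Γ ≤ Subgroup.normalizer (V : Set G)) (g : Γ) (h : conjRep p V Γ hΓ g = 1) :
    (g : G) ∈ Subgroup.centralizer (V : Set G) := by
  rw [Subgroup.mem_centralizer_iff]
  intro v hv
  have h1 := congrArg (fun f => ((f (EA.mk ⟨v, hv⟩ : EA p V)).val : G)) h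
  simp only [conjRep_val, EA.val_mk, Module.End.one_apply] at h1
  calc v * (g : G) = ((g : G) * v * (g : G)⁻¹) * (g : G) := by rw [h1]
    _ = (g : G) * v := by group

/-- **Quadratic pairs give a section `SL₂(p)`** -/
theorem core_section [Finite G] (hp : p ≠ 2) (V H : Subgroup G)
    (hV : Cfsg.IsElementaryAbelian p V) (hHV : H ≤ Subgroup.normalizer (V : Set G))
    (hf : H ⊓ Subgroup.centralizer (V : Set G) = ⊥) (a b : G) (hab : H = Subgroup.closure {a, b})
    (ha : ⁅⁅V, Subgroup.zpowers a⁆, Subgroup.zpowers a⁆ = ⊥)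
    (hb : ⁅⁅V, Subgroup.zpowers b⁆, Subgroup.zpowers b⁆ = ⊥) (hnp : ¬ IsPGroup p H) :
    ∃ (K L : Subgroup G) (_ : (L.subgroupOf K).Normal), K ≤ H ∧
      Nonempty ((K ⧸ L.subgroupOf K) ≃* SpecialLinearGroup (Fin 2) (ZMod p)) := by
  haveI : Fact (Cfsg.IsElementaryAbelian p V) := ⟨hV⟩
  have haH : a ∈ H := by rw [hab]; exact Subgroup.subset_closure (by simp)
  have hbH : b ∈ H := by rw [hab]; exact Subgroup.subset_closure (by simp)
  have hgen : Subgroup.closure ({⟨a, haH⟩, ⟨b, hbH⟩} : Set H) = ⊤ := by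
    apply Subgroup.map_injective H.subtype_injective
    rw [MonoidHom.map_closure, ← MonoidHom.range_eq_map, Subgroup.range_subtype]
    have : (H.subtype '' ({⟨a, haH⟩, ⟨b, hbH⟩} : Set H)) = {a, b} := by
      ext x
      simp [Set.image_insert_eq]
    rw [this, ← hab]
  have hnu : ∃ g : H, ∀ j : ℕ, conjRep p V H hHV (g ^ p ^ j) ≠ 1 := by
    unfold IsPGroup at hnp
    simp only [not_forall, not_exists] at hnp
    obtain ⟨g, hg⟩ := hnp
    refine ⟨g, fun j h => hg j ?_⟩
    have h1 := mem_centralizer_of_conjRep_eq_one V H hHV _ h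
    have h2 : ((g ^ p ^ j : H) : G) ∈ H ⊓ Subgroup.centralizer (V : Set G) := ⟨(g ^ p ^ j).2, h1⟩
    rw [hf, Subgroup.mem_bot] at h2
    exact Subtype.ext h2
  obtain ⟨φ, f, hfi, hfr⟩ := comb (k := ZMod p) hp hgen (conjRep p V H hHV)
    (conjRep_quadratic V H hHV ⟨a, haH⟩ ha) (conjRep_quadratic V H hHV ⟨b, hbH⟩ hb) hnu
  exact exists_section_of_hom H φ f hfi hfr

end Cfsg.Agent.helper4.Red
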