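import Mathlib
import Cfsg.Agent.Lib_helper11_QuatPres

set_option autoImplicit false

/-!
# Recognising `SL(2,3)`

If `i j g` satisfy `orderOf i = 4`, `j ^ 2 = i ^ 2`, `j i j⁻¹ = i⁻¹`, `g ^ 3 = 1`, `g i g⁻¹ = j`,
`g j g⁻¹ = i j`, then they generate a copy of `SL(2,3)`.
-/

namespace Cfsg.Agent.lead.SL23

open QuaternionGroup Cfsg.Agent.helper11.QuatPres

/-- Two homomorphisms out of a generalized quaternion group that agree on the generators agree. -/
theorem quat_hom_ext {Y : Type*} [Group Y] {n : ℕ} [NeZero n] (f1 f2 : QuaternionGroup n →* Y)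
    (h1 : f1 (a 1) = f2 (a 1)) (h2 : f1 (xa 0) = f2 (xa 0)) : f1 = f2 := by
  have ha : ∀ l : ZMod (2 * n), f1 (a l) = f2 (a l) := by
    intro l
    have : (a l : QuaternionGroup n) = (a 1) ^ l.val := by
      rw [a_one_pow, ZMod.natCast_zmod_val]
    rw [this, map_pow, map_pow, h1]
  ext u
  rcases u with l | l
  · exact ha l
  · have : (xa l : QuaternionGroup n) = xa 0 * a l := by rw [xa_mul_a, zero_add]
    rw [this, map_mul, map_mul, h2, ha l]

/-- `x ↦ x ^ c.val` as a homomorphism from `Multiplicative (ZMod m)`. -/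
def zmodPowHom {Y : Type*} [Group Y] (m : ℕ) [NeZero m] (x : Y) (hx : x ^ m = 1) :
    Multiplicative (ZMod m) →* Y :=
  MonoidHom.mk' (fun c => x ^ (Multiplicative.toAdd c).val) (by
    intro c d
    change x ^ (Multiplicative.toAdd c + Multiplicative.toAdd d).val = _
    rw [ZMod.val_add, ← pow_eq_pow_mod _ hx, pow_add])

theorem zmodPowHom_apply {Y : Type*} [Group Y] (m : ℕ) [NeZero m] (x : Y) (hx : x ^ m = 1)
    (c : Multiplicative (ZMod m)) : zmodPowHom m x hx c = x ^ (Multiplicative.toAdd c).val := rfl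

/-- the order three automorphism of `Q₈` -/
def thetaHom : QuaternionGroup 2 →* QuaternionGroup 2 :=
  quatHom (n := 2) (xa 0) (a 1 * xa 0) (by decide) (by decide) (by decide)

theorem thetaHom_cube : ∀ q : QuaternionGroup 2, thetaHom (thetaHom (thetaHom q)) = q := by
  decide

/-- the order three automorphism of `Q₈` as a `MulAut` -/
def theta : MulAut (QuaternionGroup 2) :=
  { toFun := thetaHom
    invFun := fun q => thetaHom (thetaHom q)
    left_inv := fun q => thetaHom_cube q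
    right_inv := fun q => thetaHom_cube q
    map_mul' := thetaHom.map_mul }

theorem theta_apply (q : QuaternionGroup 2) : theta q = thetaHom q := rfl

theorem theta_pow_three : theta ^ 3 = 1 := by
  ext q
  simp only [pow_succ, pow_zero, one_mul, MulAut.mul_apply, MulAut.one_apply, theta_apply]
  exact thetaHom_cube q

/-- the action of `C₃` on `Q₈` -/
def phi : Multiplicative (ZMod 3) →* MulAut (QuaternionGroup 2) :=
  zmodPowHom 3 theta theta_pow_three

/-- the abstract model of `SL(2,3)` as `Q₈ ⋊ C₃` -/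
abbrev Model : Type := QuaternionGroup 2 ⋊[phi] Multiplicative (ZMod 3)

section hom

variable {Y : Type*} [Group Y] {i j g : Y}

theorem pow_four_of_orderOf (hi : orderOf i = 4) : i ^ (2 * 2) = 1 := by
  have := pow_orderOf_eq_one i
  rwa [hi] at this

/-- the map on `Q₈` -/
def fnHom (i j : Y) (hi : orderOf i = 4) (hj : j ^ 2 = i ^ 2) (hji : j * i * j⁻¹ = i⁻¹) :
    QuaternionGroup 2 →* Y :=
  quatHom (n := 2) i j (pow_four_of_orderOf hi) hj hji

theorem fnHom_a_one (hi : orderOf i = 4) (hj : j ^ 2 = i ^ 2) (hji : j * i * j⁻¹ = i⁻¹) :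
    fnHom i j hi hj hji (a 1) = i := by
  change e i (1 : ZMod (2 * 2)) = i
  unfold e
  have : (1 : ZMod (2 * 2)).val = 1 := by decide
  rw [this, pow_one]

theorem fnHom_xa_zero (hi : orderOf i = 4) (hj : j ^ 2 = i ^ 2) (hji : j * i * j⁻¹ = i⁻¹) :
    fnHom i j hi hj hji (xa 0) = j := by
  change j * e i (0 : ZMod (2 * 2)) = j
  unfold e
  rw [ZMod.val_zero, pow_zero, mul_one]

theorem fnHom_injective (hi : orderOf i = 4) (hj : j ^ 2 = i ^ 2) (hji : j * i * j⁻¹ = i⁻¹) :
    Function.Injective (fnHom i j hi hj hji) :=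
  quatHom_injective (n := 2) le_rfl hi hj hji

theorem fnHom_theta (hi : orderOf i = 4) (hj : j ^ 2 = i ^ 2) (hji : j * i * j⁻¹ = i⁻¹)
    (hgi : g * i * g⁻¹ = j) (hgj : g * j * g⁻¹ = i * j) (q : QuaternionGroup 2) :
    fnHom i j hi hj hji (theta q) = g * fnHom i j hi hj hji q * g⁻¹ := by
  have h := quat_hom_ext ((fnHom i j hi hj hji).comp thetaHom)
    ((MulAut.conj g).toMonoidHom.comp (fnHom i j hi hj hji)) ?_ ?_
  · exact DFunLike.congr_fun h q
  · have h1 : thetaHom (a 1) = xa 0 := by decide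
    change fnHom i j hi hj hji (thetaHom (a 1)) = g * fnHom i j hi hj hji (a 1) * g⁻¹
    rw [h1, fnHom_xa_zero, fnHom_a_one, hgi]
  · have h1 : thetaHom (xa 0) = a 1 * xa 0 := by decide
    change fnHom i j hi hj hji (thetaHom (xa 0)) = g * fnHom i j hi hj hji (xa 0) * g⁻¹
    rw [h1, map_mul, fnHom_xa_zero, fnHom_a_one, hgj]

theorem fnHom_theta_pow (hi : orderOf i = 4) (hj : j ^ 2 = i ^ 2) (hji : j * i * j⁻¹ = i⁻¹)
    (hgi : g * i * g⁻¹ = j) (hgj : g * j * g⁻¹ = i * j) (k : ℕ) (q : QuaternionGroup 2) :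
    fnHom i j hi hj hji ((theta ^ k) q) = g ^ k * fnHom i j hi hj hji q * (g ^ k)⁻¹ := by
  induction k generalizing q with
  | zero => simp
  | succ k ih =>
    rw [pow_succ, MulAut.mul_apply, ih, fnHom_theta hi hj hji hgi hgj, pow_succ]
    group

/-- the homomorphism from the model -/
def modelHom (i j g : Y) (hi : orderOf i = 4) (hj : j ^ 2 = i ^ 2) (hji : j * i * j⁻¹ = i⁻¹)
    (hg : g ^ 3 = 1) (hgi : g * i * g⁻¹ = j) (hgj : g * j * g⁻¹ = i * j) : Model →* Y :=
  SemidirectProduct.lift (fnHom i j hi hj hji) (zmodPowHom 3 g hg) (by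
    intro c
    ext q
    change fnHom i j hi hj hji ((theta ^ (Multiplicative.toAdd c).val) q) =
      g ^ (Multiplicative.toAdd c).val * fnHom i j hi hj hji q *
        (g ^ (Multiplicative.toAdd c).val)⁻¹
    exact fnHom_theta_pow hi hj hji hgi hgj _ q)

theorem modelHom_apply (hi : orderOf i = 4) (hj : j ^ 2 = i ^ 2) (hji : j * i * j⁻¹ = i⁻¹)
    (hg : g ^ 3 = 1) (hgi : g * i * g⁻¹ = j) (hgj : g * j * g⁻¹ = i * j) (s : Model) :
    modelHom i j g hi hj hji hg hgi hgj s =
      fnHom i j hi hj hji s.left * g ^ (Multiplicative.toAdd s.right).val := by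
  conv_lhs => rw [← SemidirectProduct.inl_left_mul_inr_right s]
  unfold modelHom
  rw [map_mul, SemidirectProduct.lift_inl, SemidirectProduct.lift_inr]
  rfl

theorem g_ne_one (hi : orderOf i = 4) (hji : j * i * j⁻¹ = i⁻¹) (hgi : g * i * g⁻¹ = j) :
    g ≠ 1 := by
  intro h1
  rw [h1, one_mul, inv_one, mul_one] at hgi
  rw [← hgi, mul_inv_cancel_right] at hji
  have h2 : i ^ 2 = 1 := by
    rw [pow_two]
    nth_rewrite 2 [hji]
    exact mul_inv_cancel i
  have := orderOf_dvd_of_pow_eq_one h2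
  rw [hi] at this
  omega

theorem modelHom_injective (hi : orderOf i = 4) (hj : j ^ 2 = i ^ 2) (hji : j * i * j⁻¹ = i⁻¹)
    (hg : g ^ 3 = 1) (hgi : g * i * g⁻¹ = j) (hgj : g * j * g⁻¹ = i * j) :
    Function.Injective (modelHom i j g hi hj hji hg hgi hgj) := by
  rw [injective_iff_map_eq_one]
  intro s hs
  rw [modelHom_apply] at hs
  set q := s.left with hq
  set c := (Multiplicative.toAdd s.right).val with hc
  -- y = g ^ c
  have h8 : ∀ u : QuaternionGroup 2, u ^ 8 = 1 := by decide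
  have hy8 : (g ^ c) ^ 8 = 1 := by
    have : g ^ c = (fnHom i j hi hj hji q)⁻¹ := eq_inv_of_mul_eq_one_right hs
    rw [this, ← map_inv, ← map_pow, h8, map_one]
  have hy3 : (g ^ c) ^ 3 = 1 := by
    rw [← pow_mul, mul_comm, pow_mul, hg, one_pow]
  have hy : g ^ c = 1 := by
    have h9 : (g ^ c) ^ 9 = 1 := by
      rw [show 9 = 3 * 3 from rfl, pow_mul, hy3, one_pow]
    have : (g ^ c) ^ 9 = (g ^ c) ^ 8 * g ^ c := pow_succ _ 8
    rw [h9, hy8, one_mul] at this
    exact this.symm
  have hq1 : q = 1 := by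
    rw [hy, mul_one] at hs
    exact fnHom_injective hi hj hji (hs.trans (map_one _).symm)
  have hog : orderOf g = 3 := orderOf_eq_prime hg (g_ne_one hi hji hgi)
  have hc0 : c = 0 := by
    have hlt : c < 3 := ZMod.val_lt _
    have hdvd := orderOf_dvd_of_pow_eq_one hy
    rw [hog] at hdvd
    exact Nat.eq_zero_of_dvd_of_lt hdvd hlt
  have hr : s.right = 1 := by
    have : Multiplicative.toAdd s.right = 0 := (ZMod.val_eq_zero _).1 hc0
    exact this
  exact SemidirectProduct.ext hq1 hr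

end hom

section sl

open Matrix

/-- `I = [[0,-1],[1,0]]` -/
def slI : SpecialLinearGroup (Fin 2) (ZMod 3) := ⟨!![0, -1; 1, 0], by decide⟩
/-- `J = [[1,1],[1,-1]]` -/
def slJ : SpecialLinearGroup (Fin 2) (ZMod 3) := ⟨!![1, 1; 1, -1], by decide⟩
/-- `C = [[1,1],[0,1]]` -/
def slC : SpecialLinearGroup (Fin 2) (ZMod 3) := ⟨!![1, 1; 0, 1], by decide⟩

theorem slI_order : orderOf slI = 4 := by
  have : Fact (Nat.Prime 2) := ⟨Nat.prime_two⟩
  exact orderOf_eq_prime_pow (p := 2) (n := 1) (by decide) (by decide)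

theorem card_sl23 : Nat.card (SpecialLinearGroup (Fin 2) (ZMod 3)) = 24 := by
  rw [Nat.card_eq_fintype_card]
  decide +kernel

theorem card_model : Nat.card Model = 24 := by
  rw [SemidirectProduct.card, Nat.card_eq_fintype_card, QuaternionGroup.card,
    Nat.card_eq_fintype_card, Fintype.card_multiplicative, ZMod.card]

/-- the model is `SL(2,3)` -/
theorem model_equiv_sl : Nonempty (Model ≃* SpecialLinearGroup (Fin 2) (ZMod 3)) := by
  have hinj := modelHom_injective (i := slI) (j := slJ) (g := slC) slI_order (by decide)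
    (by decide) (by decide) (by decide) (by decide)
  have hbij := hinj.bijective_of_nat_card_le (by rw [card_model, card_sl23])
  exact ⟨MulEquiv.ofBijective _ hbij⟩

end sl

section main

open Matrix

variable {Y : Type*} [Group Y] {i j g : Y}

/-- **Recognition of `SL(2,3)`, subgroup form.** -/
theorem exists_subgroup_sl23 (hi : orderOf i = 4) (hj : j ^ 2 = i ^ 2) (hji : j * i * j⁻¹ = i⁻¹)
    (hg : g ^ 3 = 1) (hgi : g * i * g⁻¹ = j) (hgj : g * j * g⁻¹ = i * j) :
    ∃ H : Subgroup Y, i ∈ H ∧ j ∈ H ∧ g ∈ H ∧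
      Nonempty (H ≃* SpecialLinearGroup (Fin 2) (ZMod 3)) := by
  obtain ⟨e0⟩ := model_equiv_sl
  have hinj := modelHom_injective hi hj hji hg hgi hgj
  let F := modelHom i j g hi hj hji hg hgi hgj
  have e1 : Model ≃* F.range := MonoidHom.ofInjective hinj
  refine ⟨F.range, ⟨SemidirectProduct.inl (a 1), ?_⟩, ⟨SemidirectProduct.inl (xa 0), ?_⟩,
    ⟨SemidirectProduct.inr (Multiplicative.ofAdd 1), ?_⟩, ⟨e1.symm.trans e0⟩⟩
  · change modelHom i j g hi hj hji hg hgi hgj _ = _
    unfold modelHom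
    rw [SemidirectProduct.lift_inl, fnHom_a_one]
  · change modelHom i j g hi hj hji hg hgi hgj _ = _
    unfold modelHom
    rw [SemidirectProduct.lift_inl, fnHom_xa_zero]
  · change modelHom i j g hi hj hji hg hgi hgj _ = _
    unfold modelHom
    rw [SemidirectProduct.lift_inr, zmodPowHom_apply]
    have : (Multiplicative.toAdd (Multiplicative.ofAdd (1 : ZMod 3))).val = 1 := by decide
    rw [this, pow_one]

/-- **Recognition of `SL(2,3)`.** -/
theorem mulEquiv_sl23_of_gens (hi : orderOf i = 4) (hj : j ^ 2 = i ^ 2) (hji : j * i * j⁻¹ = i⁻¹)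
    (hg : g ^ 3 = 1) (hgi : g * i * g⁻¹ = j) (hgj : g * j * g⁻¹ = i * j)
    (hgen : Subgroup.closure {i, j, g} = ⊤) :
    Nonempty (Y ≃* SpecialLinearGroup (Fin 2) (ZMod 3)) := by
  obtain ⟨H, hiH, hjH, hgH, ⟨e⟩⟩ := exists_subgroup_sl23 hi hj hji hg hgi hgj
  have hH : H = ⊤ := by
    rw [eq_top_iff, ← hgen, Subgroup.closure_le]
    intro x hx
    rcases hx with rfl | rfl | rfl
    · exact hiH
    · exact hjH
    · exact hgH
  exact ⟨(Subgroup.topEquiv.symm.trans (MulEquiv.subgroupCongr hH.symm)).trans e⟩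

end main

section sect

open Matrix

variable {G : Type*} [Group G] {i j g : G}

theorem jij_eq (hj : j ^ 2 = i ^ 2) (hji : j * i * j⁻¹ = i⁻¹) : j * i * j = i := by
  have h1 : j * i = i⁻¹ * j := by
    rw [← hji]; group
  rw [h1, mul_assoc, ← pow_two, hj, pow_two, inv_mul_cancel_left]

theorem cube_comm_i (hj : j ^ 2 = i ^ 2) (hji : j * i * j⁻¹ = i⁻¹)
    (hgi : g * i * g⁻¹ = j) (hgj : g * j * g⁻¹ = i * j) : g ^ 3 * i = i * g ^ 3 := by
  have h1 : g * (i * j) * g⁻¹ = i := by
    have : g * (i * j) * g⁻¹ = (g * i * g⁻¹) * (g * j * g⁻¹) := by group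
    rw [this, hgi, hgj, ← mul_assoc, jij_eq hj hji]
  have h2 : g ^ 3 * i * (g ^ 3)⁻¹ = i := by
    have : g ^ 3 * i * (g ^ 3)⁻¹ = g * (g * (g * i * g⁻¹) * g⁻¹) * g⁻¹ := by
      simp only [pow_succ, pow_zero, one_mul, _root_.mul_inv_rev, mul_assoc]
    rw [this, hgi, hgj, h1]
  exact mul_inv_eq_iff_eq_mul.mp h2

theorem cube_comm_j (hj : j ^ 2 = i ^ 2) (hji : j * i * j⁻¹ = i⁻¹)
    (hgi : g * i * g⁻¹ = j) (hgj : g * j * g⁻¹ = i * j) : g ^ 3 * j = j * g ^ 3 := by
  have h1 : g * (i * j) * g⁻¹ = i := by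
    have : g * (i * j) * g⁻¹ = (g * i * g⁻¹) * (g * j * g⁻¹) := by group
    rw [this, hgi, hgj, ← mul_assoc, jij_eq hj hji]
  have h2 : g ^ 3 * j * (g ^ 3)⁻¹ = j := by
    have : g ^ 3 * j * (g ^ 3)⁻¹ = g * (g * (g * j * g⁻¹) * g⁻¹) * g⁻¹ := by
      simp only [pow_succ, pow_zero, one_mul, _root_.mul_inv_rev, mul_assoc]
    rw [this, hgj, h1, hgi]
  exact mul_inv_eq_iff_eq_mul.mp h2

/-- **A section isomorphic to `SL(2,3)`.** -/
theorem section_sl23 (hi : orderOf i = 4) (hj : j ^ 2 = i ^ 2) (hji : j * i * j⁻¹ = i⁻¹)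
    (hgi : g * i * g⁻¹ = j) (hgj : g * j * g⁻¹ = i * j) (hodd : Odd (orderOf g)) :
    ∃ (H K : Subgroup G) (_ : (K.subgroupOf H).Normal),
      Nonempty ((H ⧸ K.subgroupOf H) ≃* SpecialLinearGroup (Fin 2) (ZMod 3)) := by
  have hci := cube_comm_i hj hji hgi hgj
  have hcj := cube_comm_j hj hji hgi hgj
  obtain ⟨H, hH⟩ : ∃ H : Subgroup G, H = Subgroup.closure {i, j, g} := ⟨_, rfl⟩
  obtain ⟨K, hKdef⟩ : ∃ K : Subgroup G, K = Subgroup.zpowers (g ^ 3) := ⟨_, rfl⟩
  have hiH : i ∈ H := by rw [hH]; exact Subgroup.subset_closure (by simp)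
  have hjH : j ∈ H := by rw [hH]; exact Subgroup.subset_closure (by simp)
  have hgH : g ∈ H := by rw [hH]; exact Subgroup.subset_closure (by simp)
  -- K is centralized by H
  have hcent : ∀ k ∈ K, ∀ h ∈ H, h * k = k * h := by
    intro k hk
    have hle : H ≤ Subgroup.centralizer {k} := by
      rw [hH, Subgroup.closure_le]
      rw [hKdef] at hk
      obtain ⟨r, rfl⟩ := Subgroup.mem_zpowers_iff.1 hk
      intro x hx
      rw [SetLike.mem_coe, Subgroup.mem_centralizer_singleton_iff]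
      rcases hx with rfl | rfl | rfl
      · exact ((Commute.zpow_left (show Commute (g ^ 3) x from hci) r).eq).symm
      · exact ((Commute.zpow_left (show Commute (g ^ 3) x from hcj) r).eq).symm
      · exact ((Commute.zpow_left
          (show Commute (x ^ 3) x from (Commute.refl x).pow_left 3) r).eq).symm
    intro h hh
    exact Subgroup.mem_centralizer_singleton_iff.1 (hle hh)
  have hN : (K.subgroupOf H).Normal := by
    refine ⟨fun n hn h => ?_⟩
    rw [Subgroup.mem_subgroupOf] at hn ⊢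
    have h1 := hcent _ hn _ h.2
    have : ((h * n * h⁻¹ : H) : G) = (n : G) := by
      push_cast
      rw [h1, mul_inv_cancel_right]
    rw [this]
    exact hn
  refine ⟨H, K, hN, ?_⟩
  let mk := QuotientGroup.mk' (K.subgroupOf H)
  let i' : H := ⟨i, hiH⟩
  let j' : H := ⟨j, hjH⟩
  let g' : H := ⟨g, hgH⟩
  have e1 : mk j' ^ 2 = mk i' ^ 2 := by
    rw [← map_pow, ← map_pow]
    congr 1
    exact Subtype.ext hj
  have e2 : mk j' * mk i' * (mk j')⁻¹ = (mk i')⁻¹ := by
    rw [← map_inv, ← map_mul, ← map_mul, ← map_inv]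
    congr 1
    exact Subtype.ext hji
  have e3 : mk g' * mk i' * (mk g')⁻¹ = mk j' := by
    rw [← map_inv, ← map_mul, ← map_mul]
    congr 1
    exact Subtype.ext hgi
  have e4 : mk g' * mk j' * (mk g')⁻¹ = mk i' * mk j' := by
    rw [← map_inv, ← map_mul, ← map_mul, ← map_mul]
    congr 1
    exact Subtype.ext hgj
  have e5 : mk g' ^ 3 = 1 := by
    rw [← map_pow]
    change ((g' ^ 3 : H) : H ⧸ K.subgroupOf H) = 1
    rw [QuotientGroup.eq_one_iff, Subgroup.mem_subgroupOf, hKdef]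
    exact Subgroup.mem_zpowers (g ^ 3)
  have e6 : orderOf (mk i') = 4 := by
    have : Fact (Nat.Prime 2) := ⟨Nat.prime_two⟩
    refine orderOf_eq_prime_pow (p := 2) (n := 1) ?_ ?_
    · intro h
      rw [pow_one, ← map_pow] at h
      change ((i' ^ 2 : H) : H ⧸ K.subgroupOf H) = 1 at h
      rw [QuotientGroup.eq_one_iff, Subgroup.mem_subgroupOf, hKdef] at h
      have h2 : orderOf (i ^ 2) ∣ orderOf g :=
        (orderOf_dvd_of_mem_zpowers h).trans (orderOf_pow_dvd 3)
      have h3 : orderOf (i ^ 2) = 2 := by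
        rw [orderOf_pow_of_dvd (by norm_num) (by rw [hi]; norm_num), hi]
      rw [h3] at h2
      obtain ⟨r, hr⟩ := hodd
      omega
    · rw [← map_pow]
      have : i' ^ 2 ^ (1 + 1) = 1 := by
        apply Subtype.ext
        have := pow_orderOf_eq_one i
        rw [hi] at this
        simpa using this
      rw [this, map_one]
  have e7 : Subgroup.closure {mk i', mk j', mk g'} = ⊤ := by
    have h1 : Subgroup.closure ({i', j', g'} : Set H) = ⊤ := by
      rw [eq_top_iff]
      have h2 : Subgroup.closure (Subtype.val ⁻¹' ({i, j, g} : Set G) : Set H) = ⊤ := by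
        subst hH
        exact Subgroup.closure_closure_coe_preimage
      rw [← h2]
      apply Subgroup.closure_mono
      intro x hx
      rcases hx with h | h | h
      · left; exact Subtype.ext h
      · right; left; exact Subtype.ext h
      · right; right; exact Subtype.ext h
    have h3 : ({mk i', mk j', mk g'} : Set (H ⧸ K.subgroupOf H)) = mk '' {i', j', g'} := by
      simp [Set.image_insert_eq]
    rw [h3, ← MonoidHom.map_closure, h1, ← MonoidHom.range_eq_map,
      MonoidHom.range_eq_top.2 (QuotientGroup.mk'_surjective _)]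
  exact mulEquiv_sl23_of_gens e6 e1 e2 e5 e3 e4 e7

end sect

end Cfsg.Agent.lead.SL23
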