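import Mathlib
import Cfsg.Agent.Lib_helper4_RedC
import Cfsg.Agent.Lib_lead_SL23

set_option autoImplicit false
set_option linter.unusedSectionVars false

/-!
# Sections `SL₂(p)` force non-abelian Sylow `2`-subgroups
-/

namespace Cfsg.Agent.helper4.Red

open Matrix Cfsg.Agent.helper4.Dk

/-- every `2`-subgroup is commutative -/
def TwoComm (X : Type*) [Group X] : Prop :=
  ∀ Q : Subgroup X, IsPGroup 2 Q → ∀ x ∈ Q, ∀ y ∈ Q, x * y = y * x

theorem twoComm_of_sylow {X : Type*} [Group X] [Finite X] (T : Sylow 2 X)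
    (hT : IsMulCommutative T) : TwoComm X := by
  intro Q hQ x hx y hy
  obtain ⟨P, hP⟩ := hQ.exists_le_sylow
  obtain ⟨g, rfl⟩ := MulAction.exists_smul_eq X T P
  have hx' := hP hx
  have hy' := hP hy
  have hx2 : g⁻¹ * x * g ∈ T := (Cfsg.Agent.helper11.SL2U.mem_smul_sylow_iff g x T).mp hx'
  have hy2 : g⁻¹ * y * g ∈ T := (Cfsg.Agent.helper11.SL2U.mem_smul_sylow_iff g y T).mp hy'
  have hc := hT.is_comm.comm (⟨_, hx2⟩ : T) ⟨_, hy2⟩
  have hc' : (g⁻¹ * x * g) * (g⁻¹ * y * g) = (g⁻¹ * y * g) * (g⁻¹ * x * g) :=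
    congrArg Subtype.val hc
  have h1 : x * y = g * ((g⁻¹ * x * g) * (g⁻¹ * y * g)) * g⁻¹ := by group
  rw [h1, hc']
  group

theorem TwoComm.of_injective {X Y : Type*} [Group X] [Group Y] (f : Y →* X)
    (hf : Function.Injective f) (h : TwoComm X) : TwoComm Y := by
  intro Q hQ x hx y hy
  apply hf
  rw [map_mul, map_mul]
  exact h (Q.map f) (hQ.map f) (f x) (Subgroup.mem_map_of_mem f hx) (f y)
    (Subgroup.mem_map_of_mem f hy)

theorem TwoComm.of_surjective {X Y : Type*} [Group X] [Group Y] [Finite X] (f : X →* Y)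
    (hf : Function.Surjective f) (h : TwoComm X) : TwoComm Y := by
  intro Q hQ x hx y hy
  haveI : Finite Y := Finite.of_surjective f hf
  obtain ⟨P', hP'⟩ := hQ.exists_le_sylow
  obtain ⟨P, rfl⟩ := Sylow.mapSurjective_surjective hf 2 P'
  have hx' : x ∈ (P : Subgroup X).map f := hP' hx
  have hy' : y ∈ (P : Subgroup X).map f := hP' hy
  obtain ⟨x', hx'P, rfl⟩ := hx'
  obtain ⟨y', hy'P, rfl⟩ := hy'
  rw [← map_mul, ← map_mul, h P P.2 x' hx'P y' hy'P]

section quat

variable {K : Type*} [Field K]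

/-- an element of order four -/
def qA (a b : K) (h : a ^ 2 + b ^ 2 = -1) : SpecialLinearGroup (Fin 2) K :=
  ⟨!![a, b; b, -a], by simp [det_fin_two_of]; linear_combination -h⟩

@[simp] theorem qA_00 (a b : K) (h : a ^ 2 + b ^ 2 = -1) : qA a b h 0 0 = a := rfl
@[simp] theorem qA_01 (a b : K) (h : a ^ 2 + b ^ 2 = -1) : qA a b h 0 1 = b := rfl
@[simp] theorem qA_10 (a b : K) (h : a ^ 2 + b ^ 2 = -1) : qA a b h 1 0 = b := rfl
@[simp] theorem qA_11 (a b : K) (h : a ^ 2 + b ^ 2 = -1) : qA a b h 1 1 = -a := rfl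

theorem qA_sq (a b : K) (h : a ^ 2 + b ^ 2 = -1) : qA a b h ^ 2 = -1 := by
  rw [pow_two]
  apply sl_ext'
  all_goals simp only [mul_00, mul_01, mul_10, mul_11, qA_00, qA_01, qA_10, qA_11, neg_00, neg_01,
    neg_10, neg_11, one_00, one_01, one_10, one_11]
  · linear_combination h
  · ring
  · ring
  · linear_combination h

theorem wS_zero_sq : (wS (0 : K)) ^ 2 = -1 := by
  rw [pow_two]
  apply sl_ext'
  all_goals simp [mul_00, mul_01, mul_10, mul_11]

theorem orderOf_qA (h2 : (2 : K) ≠ 0) (a b : K) (h : a ^ 2 + b ^ 2 = -1) :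
    orderOf (qA a b h) = 4 := by
  have h1 : ¬ (qA a b h) ^ 2 ^ 1 = 1 := by
    rw [pow_one, qA_sq]
    exact neg_one_ne_one h2
  have h3 : (qA a b h) ^ 2 ^ (1 + 1) = 1 := by
    have : (qA a b h) ^ 2 ^ (1 + 1) = ((qA a b h) ^ 2) ^ 2 := by
      rw [← pow_mul]; norm_num
    rw [this, qA_sq]
    apply sl_ext'
    all_goals simp [pow_two]
  have := orderOf_eq_prime_pow h1 h3
  simpa using this

theorem wS_conj_qA (a b : K) (h : a ^ 2 + b ^ 2 = -1) :
    wS 0 * qA a b h * (wS 0)⁻¹ = (qA a b h)⁻¹ := by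
  apply sl_ext'
  all_goals simp [mul_00, mul_01, mul_10, mul_11, inv_00, inv_01, inv_10, inv_11]

theorem not_twoComm_sl2 (p : ℕ) [Fact p.Prime] (hp : p ≠ 2) :
    ¬ TwoComm (SpecialLinearGroup (Fin 2) (ZMod p)) := by
  intro hcomm
  have h2 : (2 : ZMod p) ≠ 0 := by
    intro h
    have h' : ((2 : ℕ) : ZMod p) = 0 := by exact_mod_cast h
    rw [ZMod.natCast_eq_zero_iff] at h'
    exact hp ((Nat.prime_dvd_prime_iff_eq Fact.out Nat.prime_two).mp h')
  obtain ⟨a, b, hab⟩ := ZMod.sq_add_sq p (-1)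
  set A := qA a b hab with hA
  set w := wS (0 : ZMod p) with hw
  have hi := orderOf_qA h2 a b hab
  have hj : w ^ 2 = A ^ 2 := by rw [hw, hA, wS_zero_sq, qA_sq]
  have hji := wS_conj_qA a b hab
  set F := Cfsg.Agent.lead.SL23.fnHom A w hi hj hji with hF
  have hQ : IsPGroup 2 F.range := by
    have h8 : IsPGroup 2 (QuaternionGroup 2) := by
      apply IsPGroup.of_card (n := 3)
      rw [Nat.card_eq_fintype_card, QuaternionGroup.card]
      norm_num
    exact h8.of_surjective F.rangeRestrict F.rangeRestrict_surjective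
  have hAm : A ∈ F.range := ⟨_, Cfsg.Agent.lead.SL23.fnHom_a_one hi hj hji⟩
  have hwm : w ∈ F.range := ⟨_, Cfsg.Agent.lead.SL23.fnHom_xa_zero hi hj hji⟩
  have hc := hcomm F.range hQ A hAm w hwm
  have h00 := congrArg (fun g : SpecialLinearGroup (Fin 2) (ZMod p) => g 0 0) hc
  have h01 := congrArg (fun g : SpecialLinearGroup (Fin 2) (ZMod p) => g 0 1) hc
  simp only [hA, hw, mul_00, mul_01, qA_00, qA_01, qA_10, qA_11, wS_00, wS_01, wS_10, wS_11] at h00 h01
  have hb0 : b = 0 := by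
    have : 2 * b = 0 := by linear_combination h00
    rcases mul_eq_zero.mp this with h | h
    · exact absurd h h2
    · exact h
  have ha0 : a = 0 := by
    have : 2 * a = 0 := by linear_combination -h01
    rcases mul_eq_zero.mp this with h | h
    · exact absurd h h2
    · exact h
  rw [ha0, hb0] at hab
  have : (1 : ZMod p) = 0 := by linear_combination hab
  exact one_ne_zero this

end quat

/-- a section `SL₂(p)`, `p` odd, forces non-abelian Sylow `2`-subgroups -/
theorem not_comm_sylow_of_section {G : Type*} [Group G] [Finite G] {p : ℕ} [Fact p.Prime]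
    (hp : p ≠ 2) (H K L : Subgroup G) (hL : (L.subgroupOf K).Normal) (hKH : K ≤ H)
    (e : Nonempty ((K ⧸ L.subgroupOf K) ≃* SpecialLinearGroup (Fin 2) (ZMod p)))
    (T : Sylow 2 H) : ¬ IsMulCommutative T := by
  intro hT
  obtain ⟨e⟩ := e
  have h1 : TwoComm H := twoComm_of_sylow T hT
  have h2 : TwoComm K := h1.of_injective (Subgroup.inclusion hKH) (Subgroup.inclusion_injective hKH)
  have h3 : TwoComm (K ⧸ L.subgroupOf K) :=
    h2.of_surjective (QuotientGroup.mk' _) (QuotientGroup.mk'_surjective _)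
  have h4 : TwoComm (SpecialLinearGroup (Fin 2) (ZMod p)) :=
    h3.of_surjective e.toMonoidHom e.surjective
  exact not_twoComm_sl2 p hp h4

end Cfsg.Agent.helper4.Red
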