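import Mathlib
import Cfsg.Prelude.Def_Solvable
import Cfsg.Agent.Lib_helper4_RedD
import Cfsg.Agent.Lib_helper15_BaerSuzuki
import Cfsg.Agent.Lib_helper1_Core

set_option autoImplicit false
set_option linter.unusedSectionVars false

/-!
# Quadratic elements outside the `p`-core give sections `SL₂(p)`
-/

namespace Cfsg.Agent.helper4.Red

open Matrix Cfsg.Agent.helper4.Dk

variable {G : Type*} [Group G] {p : ℕ} [Fact p.Prime]

theorem map_conj_eq_of_mem_normalizer (V : Subgroup G) {g : G}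
    (hg : g ∈ Subgroup.normalizer (V : Set G)) : V.map (MulAut.conj g).toMonoidHom = V := by
  apply le_antisymm
  · rintro _ ⟨v, hv, rfl⟩
    simp only [MulEquiv.coe_toMonoidHom, MulAut.conj_apply]
    exact (Subgroup.mem_normalizer_iff.mp hg v).mp hv
  · intro y hy
    refine ⟨g⁻¹ * y * g, ?_, ?_⟩
    · have hg' := Subgroup.inv_mem _ hg
      have := (Subgroup.mem_normalizer_iff.mp hg' y).mp hy
      simpa using this
    · simp only [MulEquiv.coe_toMonoidHom, MulAut.conj_apply]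
      group

theorem quadratic_conj (V : Subgroup G) {g x : G} (hg : g ∈ Subgroup.normalizer (V : Set G))
    (hq : ⁅⁅V, Subgroup.zpowers x⁆, Subgroup.zpowers x⁆ = ⊥) :
    ⁅⁅V, Subgroup.zpowers (g * x * g⁻¹)⁆, Subgroup.zpowers (g * x * g⁻¹)⁆ = ⊥ := by
  have h1 := congrArg (Subgroup.map (MulAut.conj g).toMonoidHom) hq
  rw [Subgroup.map_commutator, Subgroup.map_commutator, map_conj_eq_of_mem_normalizer V hg,
    MonoidHom.map_zpowers, Subgroup.map_bot] at h1
  simpa using h1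

/-- a quadratic element outside `O_p(H)` gives a section `SL₂(p)` of `H` -/
theorem section_of_quadratic_not_core [Finite G] (hp : p ≠ 2) (V H : Subgroup G)
    (hV : Cfsg.IsElementaryAbelian p V) (hHV : H ≤ Subgroup.normalizer (V : Set G))
    (hf : H ⊓ Subgroup.centralizer (V : Set G) = ⊥) (x : G) (hxH : x ∈ H)
    (hq : ⁅⁅V, Subgroup.zpowers x⁆, Subgroup.zpowers x⁆ = ⊥)
    (hx : (⟨x, hxH⟩ : H) ∉ Cfsg.pCore p H) :
    ∃ (K L : Subgroup G) (_ : (L.subgroupOf K).Normal), K ≤ H ∧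
      Nonempty ((K ⧸ L.subgroupOf K) ≃* SpecialLinearGroup (Fin 2) (ZMod p)) := by
  -- Baer-Suzuki
  have hBS : ∃ g : H, ¬ IsPGroup p ↥(Subgroup.closure ({⟨x, hxH⟩, g * ⟨x, hxH⟩ * g⁻¹} : Set H)) := by
    by_contra hcon
    simp only [not_exists, not_not] at hcon
    apply hx
    rw [Cfsg.Agent.helper1.pCore_eq_iInf_sylow]
    exact Cfsg.Agent.helper15.mem_iInf_sylow_of_baer_suzuki _ hcon
  obtain ⟨g, hg⟩ := hBS
  set b : G := (g : G) * x * (g : G)⁻¹ with hb
  have hbH : b ∈ H := H.mul_mem (H.mul_mem g.2 hxH) (H.inv_mem g.2)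
  set H₀ : Subgroup G := Subgroup.closure {x, b} with hH₀
  have hH₀H : H₀ ≤ H := by
    rw [hH₀, Subgroup.closure_le]
    rintro y (rfl | rfl)
    · exact hxH
    · exact hbH
  have hnp : ¬ IsPGroup p H₀ := by
    intro hP
    apply hg
    intro y
    have hy : ((y : H) : G) ∈ H₀ := by
      have hle : Subgroup.closure ({⟨x, hxH⟩, g * ⟨x, hxH⟩ * g⁻¹} : Set H) ≤ H₀.comap H.subtype := by
        rw [Subgroup.closure_le]
        rintro z (rfl | rfl)
        · exact Subgroup.subset_closure (by simp)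
        · show ((g * ⟨x, hxH⟩ * g⁻¹ : H) : G) ∈ H₀
          exact Subgroup.subset_closure (by simp [hb])
      exact hle y.2
    obtain ⟨k, hk⟩ := hP ⟨_, hy⟩
    refine ⟨k, ?_⟩
    apply Subtype.ext
    apply Subtype.ext
    have := congrArg Subtype.val hk
    simpa using this
  have hf₀ : H₀ ⊓ Subgroup.centralizer (V : Set G) = ⊥ := by
    rw [eq_bot_iff, ← hf]
    exact inf_le_inf_right _ hH₀H
  obtain ⟨K, L, hL, hK, e⟩ := core_section hp V H₀ hV (le_trans hH₀H hHV) hf₀ x b hH₀ hq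
    (quadratic_conj V (hHV g.2) hq) hnp
  exact ⟨K, L, hL, le_trans hK hH₀H, e⟩

end Cfsg.Agent.helper4.Red
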