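import Mathlib
import Cfsg.Agent.Lib_helper7_FStar

set_option autoImplicit false
open Cfsg
open scoped commutatorElement Pointwise

namespace Cfsg.Agent.helper7

variable {G : Type*} [Group G]

theorem solvable_of_le {A B : Subgroup G} (hle : A ≤ B)
    (hB : Group.IsSolvable ↥B) : Group.IsSolvable ↥A :=
  solvable_of_solvable_injective (f := Subgroup.inclusion hle) (Subgroup.inclusion_injective hle)

theorem comm_ne_self_of_solvable {N : Subgroup G} (hN : Group.IsSolvable ↥N)
    (hne : N ≠ ⊥) : ⁅N, N⁆ ≠ N := by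
  intro h
  have hp : Group.IsPerfect ↥N := Subgroup.isPerfect_iff.2 h
  have hnt : Nontrivial ↥N := (Subgroup.nontrivial_iff_ne_bot N).2 hne
  exact Group.IsPerfect.not_isSolvable ↥N hN

theorem map_center_eq (H : Subgroup G) :
    (Subgroup.center ↥H).map H.subtype = H ⊓ Subgroup.centralizer (H : Set G) := by
  ext x
  constructor
  · rintro ⟨y, hy, rfl⟩
    rw [Subgroup.mem_inf]
    refine ⟨y.2, ?_⟩
    rw [Subgroup.mem_centralizer_iff]
    intro h hh
    rw [SetLike.mem_coe, Subgroup.mem_center_iff] at hy
    exact congrArg Subtype.val (hy ⟨h, hh⟩)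
  · intro hx
    obtain ⟨h1, h2⟩ := Subgroup.mem_inf.1 hx
    refine ⟨⟨x, h1⟩, ?_, rfl⟩
    rw [SetLike.mem_coe, Subgroup.mem_center_iff]
    intro g
    apply Subtype.ext
    rw [Subgroup.mem_centralizer_iff] at h2
    exact h2 g g.2

theorem abelian_nilpotent {Z : Subgroup G} (h : Z ≤ Subgroup.centralizer (Z : Set G)) :
    Group.IsNilpotent ↥Z :=
  nilpotent_of_comm_le_centralizer ((Subgroup.commutator_le_self Z).trans h)

theorem center_sub_normal (H : Subgroup G) :
    Subgroup.normalizer (H : Set G) ≤
      Subgroup.normalizer ((H ⊓ Subgroup.centralizer (H : Set G) : Subgroup G) : Set G) := by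
  intro g hg
  exact Subgroup.inf_normalizer_le_normalizer_inf
    ⟨hg, normalizer_le_normalizer_centralizer H hg⟩

theorem center_sub_abelian (H : Subgroup G) :
    H ⊓ Subgroup.centralizer (H : Set G) ≤
      Subgroup.centralizer ((H ⊓ Subgroup.centralizer (H : Set G) : Subgroup G) : Set G) := by
  intro x hx
  rw [Subgroup.mem_centralizer_iff]
  intro y hy
  have := (Subgroup.mem_inf.1 hx).2
  rw [Subgroup.mem_centralizer_iff] at this
  exact this y (Subgroup.mem_inf.1 hy).1

/-- `Z(E(K)) = F(K) ∩ E(K)`. -/
theorem center_layerOf_eq [Finite G] (K : Subgroup G) :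
    layerOf K ⊓ Subgroup.centralizer (layerOf K : Set G) = fitOf K ⊓ layerOf K := by
  apply le_antisymm
  · apply le_inf _ inf_le_left
    apply le_radOf (inf_le_left.trans (layerOf_le K))
    · exact (layerOf_normal K).trans (center_sub_normal _)
    · exact abelian_nilpotent (center_sub_abelian _)
  · apply le_inf inf_le_right
    have := layerOf_comm_fitOf K
    exact inf_le_left.trans (le_centralizer_of_comm_eq_bot this)

end Cfsg.Agent.helper7
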