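import Mathlib
import Cfsg.Prelude.Def_Local
import Cfsg.Agent.Lib_helper7_FStar
import Cfsg.Agent.Lib_helper7_Extra

set_option autoImplicit false

namespace Cfsg.Agent.helper7

variable {G : Type*} [Group G]

theorem nilpotent_of_le {A B : Subgroup G} (hle : A ≤ B) (hB : Group.IsNilpotent ↥B) :
    Group.IsNilpotent ↥A := by
  haveI := hB
  have e : ↥(A.subgroupOf B) ≃* ↥A := Subgroup.subgroupOfEquivOfLe hle
  exact Group.nilpotent_of_mulEquiv e

theorem mem_centralizer_sup {H K : Subgroup G} {x : G}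
    (h1 : x ∈ Subgroup.centralizer (H : Set G)) (h2 : x ∈ Subgroup.centralizer (K : Set G)) :
    x ∈ Subgroup.centralizer ((H ⊔ K : Subgroup G) : Set G) := by
  have a1 : H ≤ Subgroup.centralizer ((Subgroup.zpowers x : Subgroup G) : Set G) :=
    Subgroup.le_centralizer_iff.1 ((Subgroup.zpowers_le).2 h1)
  have a2 : K ≤ Subgroup.centralizer ((Subgroup.zpowers x : Subgroup G) : Set G) :=
    Subgroup.le_centralizer_iff.1 ((Subgroup.zpowers_le).2 h2)
  exact (Subgroup.le_centralizer_iff.1 (sup_le a1 a2)) (Subgroup.mem_zpowers x)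

/-- For `S` subnormal in `K`: `F(S) = F(K) ∩ S`. -/
theorem fitOf_of_sn [Finite G] {S K : Subgroup G} (h : SN S K) : fitOf S = fitOf K ⊓ S := by
  apply le_antisymm
  · exact le_inf (nilpotent_sn_le_fitOf ((fitOf_sn S).trans h) (fitOf_nilpotent S)) (fitOf_le S)
  · apply nilpotent_sn_le_fitOf
    · apply SN.of_normal inf_le_right
      intro s hs
      apply mem_normalizer_of_cj_eq
      rw [cj_inf, cj_eq_of_mem_normalizer (fitOf_normal K (h.le hs)),
        cj_eq_of_mem_normalizer (Subgroup.le_normalizer hs)]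
    · exact nilpotent_of_le inf_le_left (fitOf_nilpotent K)

theorem layerOf_le_of_sn {S K : Subgroup G} (h : SN S K) : layerOf S ≤ layerOf K := by
  apply sSup_le
  intro L hL
  exact comp_le_layerOf (hL.trans h)

theorem fstarOf_le_of_sn [Finite G] {S K : Subgroup G} (h : SN S K) : fstarOf S ≤ fstarOf K := by
  apply sup_le
  · exact (layerOf_le_of_sn h).trans le_sup_left
  · rw [fitOf_of_sn h]
    exact inf_le_left.trans le_sup_right

/-- For `S` subnormal in `F*(K)`: `S = E(S) F(S)`. -/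
theorem sn_fstarOf_eq [Finite G] {S K : Subgroup G} (h : SN S (fstarOf K)) :
    S = fstarOf S := by
  have hS : SN S K := h.trans (fstarOf_sn K)
  apply le_antisymm _ (fstarOf_le S)
  set E₁ : Subgroup G := sSup {L | Comp L K ∧ L ≤ S} with hE₁
  set E₂ : Subgroup G := sSup {L | Comp L K ∧ ⁅L, S⁆ = ⊥} with hE₂
  have hE : layerOf K ≤ E₁ ⊔ E₂ := by
    apply sSup_le
    intro L hL
    rcases comp_le_or_comm hL.1 hL.2 hS with h1 | h1
    · exact (le_sSup (show L ∈ {L | Comp L K ∧ L ≤ S} from ⟨hL, h1⟩)).trans le_sup_left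
    · exact (le_sSup (show L ∈ {L | Comp L K ∧ ⁅L, S⁆ = ⊥} from ⟨hL, h1⟩)).trans le_sup_right
  have hE₁S : E₁ ≤ layerOf S := by
    apply sSup_le
    rintro L ⟨hL, hLS⟩
    exact comp_le_layerOf (hL.of_le hLS hS.le)
  have hE₁K : E₁ ≤ layerOf K := by
    apply sSup_le
    rintro L ⟨hL, -⟩
    exact comp_le_layerOf hL
  have hE₂K : E₂ ≤ layerOf K := by
    apply sSup_le
    rintro L ⟨hL, -⟩
    exact comp_le_layerOf hL
  have hE₂S : E₂ ≤ Subgroup.centralizer (S : Set G) := by
    apply sSup_le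
    rintro L ⟨-, hLS⟩
    exact Subgroup.commutator_eq_bot_iff_le_centralizer.1 hLS
  have hFE : fitOf K ≤ Subgroup.centralizer (layerOf K : Set G) := by
    have := layerOf_comm_fitOf K
    rw [Subgroup.commutator_comm] at this
    exact Subgroup.commutator_eq_bot_iff_le_centralizer.1 this
  have hEF : layerOf K ≤ Subgroup.centralizer (fitOf K : Set G) :=
    Subgroup.commutator_eq_bot_iff_le_centralizer.1 (layerOf_comm_fitOf K)
  intro s hs
  have hs' : s ∈ fitOf K ⊔ layerOf K := by
    have := h.le hs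
    unfold fstarOf at this
    rwa [sup_comm] at this
  obtain ⟨f, hf, e, he, rfl⟩ :=
    mem_sup_of_normalizer (hEF.trans (Subgroup.centralizer_le_normalizer _)) hs'
  have hn2 : E₂ ≤ Subgroup.normalizer (E₁ : Set G) := by
    refine le_trans ?_ (Subgroup.centralizer_le_normalizer _)
    refine hE₂S.trans ?_
    apply Subgroup.centralizer_le
    exact (hE₁S.trans (layerOf_le S))
  obtain ⟨e₁, he₁, e₂, he₂, rfl⟩ := mem_sup_of_normalizer hn2 (hE he)
  -- `f` commutes with `e₁`
  have hfe₁ : e₁ * f = f * e₁ := by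
    have := hFE hf
    rw [Subgroup.mem_centralizer_iff] at this
    exact this e₁ (hE₁K he₁)
  have he₁S : e₁ ∈ S := layerOf_le S (hE₁S he₁)
  have hfe₂S : f * e₂ ∈ S := by
    have : f * e₂ = e₁⁻¹ * (f * (e₁ * e₂)) := by
      rw [← mul_assoc f, ← hfe₁]; group
    rw [this]
    exact S.mul_mem (S.inv_mem he₁S) hs
  -- `e₂` is central in the layer
  have he₂c : e₂ ∈ Subgroup.centralizer (layerOf K : Set G) := by
    have h1 : e₂ ∈ Subgroup.centralizer (E₁ : Set G) :=
      Subgroup.centralizer_le (hE₁S.trans (layerOf_le S)) (hE₂S he₂)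
    have h2 : e₂ ∈ Subgroup.centralizer (E₂ : Set G) := by
      have h3 : f * e₂ ∈ Subgroup.centralizer (E₂ : Set G) := by
        rw [Subgroup.mem_centralizer_iff]
        intro y hy
        have := hE₂S hy
        rw [Subgroup.mem_centralizer_iff] at this
        exact (this _ hfe₂S).symm
      have h4 : f ∈ Subgroup.centralizer (E₂ : Set G) :=
        Subgroup.centralizer_le hE₂K (hFE hf)
      have : e₂ = f⁻¹ * (f * e₂) := by group
      rw [this]
      exact Subgroup.mul_mem _ (Subgroup.inv_mem _ h4) h3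
    have h5 : e₂ ∈ Subgroup.centralizer ((E₁ ⊔ E₂ : Subgroup G) : Set G) := by
      exact mem_centralizer_sup h1 h2
    exact Subgroup.centralizer_le hE h5
  have he₂F : e₂ ∈ fitOf K := by
    have : e₂ ∈ layerOf K ⊓ Subgroup.centralizer (layerOf K : Set G) :=
      Subgroup.mem_inf.2 ⟨hE₂K he₂, he₂c⟩
    rw [center_layerOf_eq] at this
    exact (Subgroup.mem_inf.1 this).1
  have hfe₂F : f * e₂ ∈ fitOf S := by
    rw [fitOf_of_sn hS]
    exact Subgroup.mem_inf.2 ⟨Subgroup.mul_mem _ hf he₂F, hfe₂S⟩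
  have : f * (e₁ * e₂) = e₁ * (f * e₂) := by
    rw [← mul_assoc, ← hfe₁, mul_assoc]
  rw [this]
  exact Subgroup.mul_mem _ (Subgroup.mem_sup_left (hE₁S he₁)) (Subgroup.mem_sup_right hfe₂F)

end Cfsg.Agent.helper7
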