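import Mathlib
import Cfsg.Prelude.Def_Local
import Cfsg.Agent.Lib_helper7_FStar2

set_option autoImplicit false

namespace Cfsg.Agent.helper7

variable {G : Type*} [Group G] {G' : Type*} [Group G']

/-! ### Subnormality under maps -/

theorem SN.map (f : G →* G') {H K : Subgroup G} (h : SN H K) : SN (H.map f) (K.map f) := by
  induction h with
  | refl K => exact SN.refl _
  | step H K' M hHK hn _ ih =>
    exact SN.step _ (K'.map f) _ (Subgroup.map_mono hHK)
      ((Subgroup.map_mono hn).trans (Subgroup.le_normalizer_map f)) ih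

theorem SN.comap (f : G →* G') {H K : Subgroup G'} (h : SN H K) :
    SN (H.comap f) (K.comap f) := by
  induction h with
  | refl K => exact SN.refl _
  | step H K' M hHK hn _ ih =>
    exact SN.step _ (K'.comap f) _ (Subgroup.comap_mono hHK)
      ((Subgroup.comap_mono hn).trans (Subgroup.le_normalizer_comap f)) ih

theorem sn_top_map {f : G →* G'} (hf : Function.Surjective f) {H : Subgroup G} (h : SN H ⊤) :
    SN (H.map f) ⊤ := by
  have := h.map f
  rwa [← MonoidHom.range_eq_map, MonoidHom.range_eq_top.2 hf] at this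

theorem sn_top_comap (f : G →* G') {H : Subgroup G'} (h : SN H ⊤) : SN (H.comap f) ⊤ := by
  have := h.comap f
  rwa [Subgroup.comap_top] at this

/-! ### `π`-groups under maps -/

theorem PiGrp.map {π : Set ℕ} (f : G →* G') {A : Subgroup G} (h : PiGrp π A) :
    PiGrp π (A.map f) := by
  rintro _ ⟨x, hx, rfl⟩ q hq hdvd
  exact h x hx q hq (hdvd.trans (orderOf_map_dvd f x))

theorem PiGrp.comap [Finite G] {π : Set ℕ} (f : G →* G') {A : Subgroup G'} (h : PiGrp π A)
    (hk : PiGrp π f.ker) : PiGrp π (A.comap f) := by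
  intro x hx q hq hdvd
  have hm : orderOf (f x) ∣ orderOf x := orderOf_map_dvd f x
  have hpos : 0 < orderOf x := orderOf_pos x
  have hmpos : 0 < orderOf (f x) := Nat.pos_of_dvd_of_pos hm hpos
  have hker : x ^ orderOf (f x) ∈ f.ker := by
    rw [MonoidHom.mem_ker, map_pow, pow_orderOf_eq_one]
  have hord : orderOf (x ^ orderOf (f x)) = orderOf x / orderOf (f x) := by
    rw [orderOf_pow' x hmpos.ne', Nat.gcd_eq_right hm]
  have hmul : orderOf x = orderOf (f x) * (orderOf x / orderOf (f x)) :=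
    (Nat.mul_div_cancel' hm).symm
  rw [hmul] at hdvd
  rcases (Nat.Prime.dvd_mul hq).1 hdvd with h1 | h1
  · exact h (f x) hx q hq h1
  · rw [← hord] at h1
    exact hk _ hker q hq h1

/-! ### The `p'`-core -/

theorem pPrimeCore_piGrp [Finite G] {p : ℕ} (hp : p.Prime) :
    PiGrp {q | q ≠ p} (Cfsg.pPrimeCore p G) := by
  rw [pPrimeCore_eq hp]
  exact piCoreIn_piGrp _ ⊤

theorem pPrimeCore_coprime [Finite G] {p : ℕ} (hp : p.Prime) :
    (Nat.card ↥(Cfsg.pPrimeCore p G)).Coprime p :=
  (coprime_card_iff_piGrp hp).2 (pPrimeCore_piGrp hp)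

theorem le_pPrimeCore_of_sn [Finite G] {p : ℕ} (hp : p.Prime) {H : Subgroup G} (h : SN H ⊤)
    (hH : PiGrp {q | q ≠ p} H) : H ≤ Cfsg.pPrimeCore p G := by
  rw [pPrimeCore_eq hp]
  exact le_piCoreIn_of_sn h hH

theorem ker_mk_pPrimeCore (p : ℕ) :
    (QuotientGroup.mk' (Cfsg.pPrimeCore p G)).ker = Cfsg.pPrimeCore p G :=
  QuotientGroup.ker_mk' _

/-- `O_{p'}(G / O_{p'}(G)) = 1`. -/
theorem pPrimeCore_quotient_eq_bot [Finite G] {p : ℕ} (hp : p.Prime) :
    Cfsg.pPrimeCore p (G ⧸ Cfsg.pPrimeCore p G) = ⊥ := by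
  set π := QuotientGroup.mk' (Cfsg.pPrimeCore p G) with hπ
  have hsurj : Function.Surjective π := QuotientGroup.mk'_surjective _
  set N : Subgroup G := (Cfsg.pPrimeCore p (G ⧸ Cfsg.pPrimeCore p G)).comap π with hN
  have h1 : PiGrp {q | q ≠ p} N := by
    apply PiGrp.comap π (pPrimeCore_piGrp hp)
    rw [hπ, ker_mk_pPrimeCore]
    exact pPrimeCore_piGrp hp
  have h2 : N ≤ Cfsg.pPrimeCore p G := by
    apply le_pPrimeCore_of_sn hp _ h1
    apply SN.of_normal le_top
    intro g _
    have : N.Normal := Subgroup.Normal.comap inferInstance π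
    rw [Subgroup.normalizer_eq_top]
    exact Subgroup.mem_top g
  have h3 : N.map π = Cfsg.pPrimeCore p (G ⧸ Cfsg.pPrimeCore p G) :=
    Subgroup.map_comap_eq_self_of_surjective hsurj _
  rw [← h3, eq_bot_iff]
  refine (Subgroup.map_mono h2).trans ?_
  have : (Cfsg.pPrimeCore p G).map π = ⊥ :=
    (Subgroup.map_eq_bot_iff _).2 (by rw [hπ, ker_mk_pPrimeCore])
  exact le_of_eq this

/-- The isomorphism `K / (K ∩ ker f) ≃ f(K)`. -/
noncomputable def quotientSubgroupOfKerEquivMap (f : G →* G') (K : Subgroup G) :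
    ↥K ⧸ (f.ker.subgroupOf K) ≃* ↥(K.map f) :=
  (QuotientGroup.quotientMulEquivOfEq (Subgroup.ker_subgroupMap (f := f) (H := K)).symm).trans
    (QuotientGroup.quotientKerEquivOfSurjective (f.subgroupMap K) (f.subgroupMap_surjective K))

end Cfsg.Agent.helper7
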