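import Mathlib

set_option autoImplicit false

namespace Cfsg.Agent.helper7

variable {G : Type*} [Group G]

/-- If `a` commutes with `w = a h a⁻¹ h⁻¹` then `a^k h a^{-k} = w^k h`. -/
theorem conj_pow_eq_of_commute {a h : G} (hc : Commute a (a * h * a⁻¹ * h⁻¹)) (k : ℕ) :
    a ^ k * h * (a ^ k)⁻¹ = (a * h * a⁻¹ * h⁻¹) ^ k * h := by
  induction k with
  | zero => simp
  | succ k ih =>
    have h1 : a ^ (k + 1) * h * (a ^ (k + 1))⁻¹ = a * (a ^ k * h * (a ^ k)⁻¹) * a⁻¹ := by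
      rw [pow_succ']; group
    rw [h1, ih]
    have h2 : Commute a ((a * h * a⁻¹ * h⁻¹) ^ k) := hc.pow_right k
    have h3 : a * ((a * h * a⁻¹ * h⁻¹) ^ k * h) * a⁻¹ =
        (a * (a * h * a⁻¹ * h⁻¹) ^ k) * h * a⁻¹ := by group
    rw [h3, h2.eq, pow_succ]
    group

/-- Stability lemma: if `a` commutes with `w = [a,h]`, and `w^m = 1` with `m` coprime to the
order of `a`, then `a` commutes with `h`. -/
theorem conj_eq_of_commute_of_coprime {a h : G} (hc : Commute a (a * h * a⁻¹ * h⁻¹)) {m : ℕ}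
    (hm : (a * h * a⁻¹ * h⁻¹) ^ m = 1) (hcop : (orderOf a).Coprime m) : a * h * a⁻¹ = h := by
  have h1 := conj_pow_eq_of_commute hc (orderOf a)
  rw [pow_orderOf_eq_one] at h1
  have h2 : (a * h * a⁻¹ * h⁻¹) ^ orderOf a = 1 := by
    have : (1 : G) * h * (1 : G)⁻¹ = h := by group
    rw [this] at h1
    exact (mul_eq_right (a := (a * h * a⁻¹ * h⁻¹) ^ orderOf a) (b := h)).1 h1.symm
  have h3 : orderOf (a * h * a⁻¹ * h⁻¹) ∣ Nat.gcd (orderOf a) m :=
    Nat.dvd_gcd (orderOf_dvd_of_pow_eq_one h2) (orderOf_dvd_of_pow_eq_one hm)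
  rw [hcop.gcd_eq_one, Nat.dvd_one, orderOf_eq_one_iff] at h3
  calc a * h * a⁻¹ = (a * h * a⁻¹ * h⁻¹) * h := by group
    _ = h := by rw [h3, one_mul]

theorem pow_card_subgroup_eq_one [Finite G] {H : Subgroup G} {w : G} (hw : w ∈ H) :
    w ^ Nat.card H = 1 := by
  have : (⟨w, hw⟩ : ↥H) ^ Nat.card H = 1 := pow_card_eq_one'
  exact congrArg Subtype.val this

end Cfsg.Agent.helper7
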