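import Mathlib
import Cfsg.Agent.Lib_helper7_SN
import Cfsg.Agent.Lib_helper7_Stab

set_option autoImplicit false

namespace Cfsg.Agent.helper7

open scoped commutatorElement

variable {G : Type*} [Group G]

/-! ### Coprime action of a `q`-group: fixed points -/

/-- A `q`-group acting by conjugation on an invariant finite subset of `G` of size prime to `q`
has a fixed point. -/
theorem exists_fixed_of_invariant {q : ℕ} [Fact q.Prime] {Q : Subgroup G} (hQ : IsPGroup q ↥Q)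
    (X : Set G) (hinv : ∀ g ∈ Q, ∀ x ∈ X, g * x * g⁻¹ ∈ X) (hcard : ¬ q ∣ Nat.card ↥X) :
    ∃ x ∈ X, ∀ g ∈ Q, g * x * g⁻¹ = x := by
  letI : MulAction ↥Q ↥X :=
    { smul := fun g x => ⟨(g : G) * x * (g : G)⁻¹, hinv g g.2 x x.2⟩
      one_smul := fun x => Subtype.ext (by
        show ((1 : ↥Q) : G) * x * ((1 : ↥Q) : G)⁻¹ = x
        simp)
      mul_smul := fun g h x => Subtype.ext (by
        show ((g * h : ↥Q) : G) * x * ((g * h : ↥Q) : G)⁻¹ =
          (g : G) * ((h : G) * x * (h : G)⁻¹) * (g : G)⁻¹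
        simp [mul_assoc]) }
  obtain ⟨x, hx⟩ := hQ.nonempty_fixed_point_of_prime_not_dvd_card ↥X hcard
  refine ⟨x, x.2, fun g hg => ?_⟩
  have := hx ⟨g, hg⟩
  exact congrArg Subtype.val this

/-- Elements normalizing `U` and `Q` normalize `⁅U, Q⁆`. -/
theorem mem_normalizer_commutator {U Q : Subgroup G} {g : G}
    (hU : g ∈ Subgroup.normalizer (U : Set G)) (hQ : g ∈ Subgroup.normalizer (Q : Set G)) :
    g ∈ Subgroup.normalizer ((⁅U, Q⁆ : Subgroup G) : Set G) := by
  apply mem_normalizer_of_cj_eq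
  rw [cj_commutator, cj_eq_of_mem_normalizer hU, cj_eq_of_mem_normalizer hQ]

theorem commutator_le_of_normalizer {U Q : Subgroup G} (h : Q ≤ Subgroup.normalizer (U : Set G)) :
    ⁅U, Q⁆ ≤ U := by
  rw [Subgroup.commutator_le]
  intro u hu g hg
  have := h hg
  rw [Subgroup.mem_normalizer_iff] at this
  have h2 : g * u⁻¹ * g⁻¹ ∈ U := (this u⁻¹).1 (U.inv_mem hu)
  have : ⁅u, g⁆ = u * (g * u⁻¹ * g⁻¹) := by
    rw [commutatorElement_def]; group
  rw [this]
  exact U.mul_mem hu h2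

/-- The right coset `R u` as a set has the cardinality of `R`. -/
theorem card_rightCoset (R : Subgroup G) (u : G) :
    Nat.card ↥{x : G | ∃ r ∈ R, x = r * u} = Nat.card ↥R := by
  apply Nat.card_congr
  refine Equiv.ofBijective (fun x => ⟨(x : G) * u⁻¹, ?_⟩) ⟨?_, ?_⟩
  · obtain ⟨r, hr, hx⟩ := x.2
    rw [hx]
    simpa using hr
  · intro x y hxy
    have : (x : G) * u⁻¹ = (y : G) * u⁻¹ := congrArg Subtype.val hxy
    exact Subtype.ext (mul_right_cancel this)
  · intro r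
    exact ⟨⟨(r : G) * u, r, r.2, rfl⟩, Subtype.ext (by simp)⟩

/-- Coprime action, `q`-group acting: `U = [U,Q] C_U(Q)` elementwise. -/
theorem exists_decomp_comm_fixed [Finite G] {q : ℕ} [Fact q.Prime] {U Q : Subgroup G}
    (hQ : IsPGroup q ↥Q) (hn : Q ≤ Subgroup.normalizer (U : Set G)) (hcop : ¬ q ∣ Nat.card ↥U)
    {u : G} (hu : u ∈ U) :
    ∃ s ∈ ⁅U, Q⁆, ∃ c ∈ U ⊓ Subgroup.centralizer (Q : Set G), u = s * c := by
  set R : Subgroup G := ⁅U, Q⁆ with hR
  have hRU : R ≤ U := commutator_le_of_normalizer hn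
  have hRn : ∀ g ∈ Q, ∀ r ∈ R, g * r * g⁻¹ ∈ R := by
    intro g hg r hr
    have := mem_normalizer_commutator (hn hg) (Subgroup.le_normalizer hg)
    rw [Subgroup.mem_normalizer_iff] at this
    exact (this r).1 hr
  set X : Set G := {x : G | ∃ r ∈ R, x = r * u} with hX
  have hinv : ∀ g ∈ Q, ∀ x ∈ X, g * x * g⁻¹ ∈ X := by
    rintro g hg x ⟨r, hr, rfl⟩
    refine ⟨(g * r * g⁻¹) * ⁅g, u⁆, R.mul_mem (hRn g hg r hr) ?_, ?_⟩
    · rw [hR, Subgroup.commutator_comm]
      exact Subgroup.commutator_mem_commutator hg hu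
    · rw [commutatorElement_def]; group
  have hcard : ¬ q ∣ Nat.card ↥X := by
    rw [hX, card_rightCoset]
    intro hdvd
    exact hcop (dvd_trans hdvd (Subgroup.card_dvd_of_le hRU))
  obtain ⟨x, ⟨r, hr, rfl⟩, hfix⟩ := exists_fixed_of_invariant hQ X hinv hcard
  refine ⟨r⁻¹, R.inv_mem hr, r * u, ?_, by group⟩
  refine Subgroup.mem_inf.2 ⟨U.mul_mem (hRU hr) hu, ?_⟩
  rw [Subgroup.mem_centralizer_iff]
  intro g hg
  have := hfix g hg
  calc g * (r * u) = (g * (r * u) * g⁻¹) * g := by group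
    _ = r * u * g := by rw [this]

/-- Coprime action, `q`-group acting: `[U,Q,Q] = [U,Q]`. -/
theorem commutator_commutator_eq [Finite G] {q : ℕ} [Fact q.Prime] {U Q : Subgroup G}
    (hQ : IsPGroup q ↥Q) (hn : Q ≤ Subgroup.normalizer (U : Set G)) (hcop : ¬ q ∣ Nat.card ↥U) :
    ⁅⁅U, Q⁆, Q⁆ = ⁅U, Q⁆ := by
  apply le_antisymm
  · exact Subgroup.commutator_mono (commutator_le_of_normalizer hn) le_rfl
  · rw [Subgroup.commutator_le]
    intro u hu g hg
    obtain ⟨s, hs, c, hc, rfl⟩ := exists_decomp_comm_fixed hQ hn hcop hu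
    have hcg : g * c⁻¹ = c⁻¹ * g := by
      have := (Subgroup.mem_inf.1 hc).2
      rw [Subgroup.mem_centralizer_iff] at this
      have h1 := this g hg
      calc g * c⁻¹ = c⁻¹ * (c * g) * c⁻¹ := by group
        _ = c⁻¹ * (g * c) * c⁻¹ := by rw [h1]
        _ = c⁻¹ * g := by group
    have : ⁅s * c, g⁆ = ⁅s, g⁆ := by
      rw [commutatorElement_def, commutatorElement_def]
      calc s * c * g * (s * c)⁻¹ * g⁻¹ = s * c * (g * c⁻¹) * s⁻¹ * g⁻¹ := by group
        _ = s * c * (c⁻¹ * g) * s⁻¹ * g⁻¹ := by rw [hcg]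
        _ = s * g * s⁻¹ * g⁻¹ := by group
    rw [this]
    exact Subgroup.commutator_mem_commutator hs hg

/-! ### Thompson's `P × Q` lemma -/

/-- For `p`-groups `U`, `P` with `P` normalizing `U ≠ 1`: `[U,P] < U`. -/
theorem commutator_ne_self_of_pGroup [Finite G] {p : ℕ} [Fact p.Prime] {U P : Subgroup G}
    (hU : IsPGroup p ↥U) (hP : IsPGroup p ↥P) (hn : P ≤ Subgroup.normalizer (U : Set G))
    (h : ⁅U, P⁆ = U) : U = ⊥ := by
  have hW : IsPGroup p ↥(U ⊔ P : Subgroup G) := by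
    rw [sup_comm]
    exact IsPGroup.to_sup_of_normal_right' hP hU hn
  haveI : Group.IsNilpotent ↥(U ⊔ P : Subgroup G) := hW.isNilpotent
  obtain ⟨n, hn'⟩ := (Subgroup.isNilpotent_iff_lowerCentralSeries (U ⊔ P)).1 inferInstance
  have key : ∀ k, U ≤ (U ⊔ P).lowerCentralSeries k := by
    intro k
    induction k with
    | zero => exact le_sup_left
    | succ k ih =>
      rw [Subgroup.lowerCentralSeries_succ]
      calc U = ⁅U, P⁆ := h.symm
        _ ≤ ⁅(U ⊔ P).lowerCentralSeries k, U ⊔ P⁆ := Subgroup.commutator_mono ih le_sup_right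
  have := key n
  rw [hn'] at this
  exact le_bot_iff.1 this

/-- Thompson's `P × Q` lemma for a `q`-group `Q`. -/
theorem thompson_PxQ_aux [Finite G] {p q : ℕ} [Fact p.Prime] [Fact q.Prime] (hpq : q ≠ p)
    {P Q : Subgroup G} (hP : IsPGroup p ↥P) (hQ : IsPGroup q ↥Q)
    (hPQ : P ≤ Subgroup.centralizer (Q : Set G)) :
    ∀ (n : ℕ) (U : Subgroup G), Nat.card ↥U = n → IsPGroup p ↥U →
      P ≤ Subgroup.normalizer (U : Set G) → Q ≤ Subgroup.normalizer (U : Set G) →
      U ⊓ Subgroup.centralizer (P : Set G) ≤ Subgroup.centralizer (Q : Set G) →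
      Q ≤ Subgroup.centralizer (U : Set G) := by
  intro n
  induction n using Nat.strong_induction_on with
  | _ n ih =>
  intro U hcard hU hPU hQU hC
  have hcop : ¬ q ∣ Nat.card ↥U := by
    obtain ⟨k, hk⟩ := IsPGroup.iff_card.1 hU
    rw [hk]
    intro hdvd
    have := (Nat.prime_dvd_prime_iff_eq (Fact.out : q.Prime) (Fact.out : p.Prime)).1
      ((Fact.out : q.Prime).dvd_of_dvd_pow hdvd)
    exact hpq this
  have hQP : Q ≤ Subgroup.centralizer (P : Set G) := Subgroup.le_centralizer_iff.1 hPQ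
  -- invariance of commutators
  have inv1 : ∀ {V X : Subgroup G}, P ≤ Subgroup.normalizer (V : Set G) →
      P ≤ Subgroup.normalizer (X : Set G) →
      P ≤ Subgroup.normalizer ((⁅V, X⁆ : Subgroup G) : Set G) :=
    fun h1 h2 g hg => mem_normalizer_commutator (h1 hg) (h2 hg)
  have inv2 : ∀ {V X : Subgroup G}, Q ≤ Subgroup.normalizer (V : Set G) →
      Q ≤ Subgroup.normalizer (X : Set G) →
      Q ≤ Subgroup.normalizer ((⁅V, X⁆ : Subgroup G) : Set G) :=
    fun h1 h2 g hg => mem_normalizer_commutator (h1 hg) (h2 hg)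
  have hPnQ : P ≤ Subgroup.normalizer (Q : Set G) :=
    hPQ.trans (Subgroup.centralizer_le_normalizer _)
  have hQnP : Q ≤ Subgroup.normalizer (P : Set G) :=
    hQP.trans (Subgroup.centralizer_le_normalizer _)
  by_cases hUQ : ⁅U, Q⁆ = U
  · -- Case 2
    by_cases hbot : U = ⊥
    · rw [hbot]
      intro g _
      rw [Subgroup.mem_centralizer_iff]
      intro h hh
      rw [SetLike.mem_coe, Subgroup.mem_bot] at hh
      subst hh; simp
    have hVU : ⁅U, P⁆ ≤ U := commutator_le_of_normalizer hPU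
    have hVne : ⁅U, P⁆ ≠ U := fun h => hbot (commutator_ne_self_of_pGroup hU hP hPU h)
    have hlt : Nat.card ↥(⁅U, P⁆ : Subgroup G) < n := by
      rw [← hcard]
      rcases lt_or_ge (Nat.card ↥(⁅U, P⁆ : Subgroup G)) (Nat.card ↥U) with h | h
      · exact h
      · exact absurd (Subgroup.eq_of_le_of_card_ge hVU h) hVne
    have h1 : Q ≤ Subgroup.centralizer ((⁅U, P⁆ : Subgroup G) : Set G) :=
      ih _ hlt ⁅U, P⁆ rfl (hU.to_le hVU) (inv1 hPU Subgroup.le_normalizer)
        (inv2 hQU hQnP) ((inf_le_inf_right _ hVU).trans hC)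
    have e1 : ⁅⁅U, P⁆, Q⁆ = ⊥ := by
      rw [Subgroup.commutator_eq_bot_iff_le_centralizer]
      exact Subgroup.le_centralizer_iff.1 h1
    have e2 : ⁅⁅P, Q⁆, U⁆ = ⊥ := by
      have : ⁅P, Q⁆ = ⊥ := Subgroup.commutator_eq_bot_iff_le_centralizer.2 hPQ
      rw [this]
      exact Subgroup.commutator_bot_left U
    have e3 : ⁅⁅Q, U⁆, P⁆ = ⊥ := Subgroup.commutator_commutator_eq_bot_of_rotate e1 e2
    rw [Subgroup.commutator_comm Q U, hUQ] at e3
    have hUP : U ≤ Subgroup.centralizer (P : Set G) :=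
      Subgroup.commutator_eq_bot_iff_le_centralizer.1 e3
    have : U ≤ Subgroup.centralizer (Q : Set G) := (le_inf le_rfl hUP).trans hC
    exact Subgroup.le_centralizer_iff.1 this
  · -- Case 1
    have hRU : ⁅U, Q⁆ ≤ U := commutator_le_of_normalizer hQU
    have hlt : Nat.card ↥(⁅U, Q⁆ : Subgroup G) < n := by
      rw [← hcard]
      rcases lt_or_ge (Nat.card ↥(⁅U, Q⁆ : Subgroup G)) (Nat.card ↥U) with h | h
      · exact h
      · exact absurd (Subgroup.eq_of_le_of_card_ge hRU h) hUQ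
    have h1 : Q ≤ Subgroup.centralizer ((⁅U, Q⁆ : Subgroup G) : Set G) :=
      ih _ hlt ⁅U, Q⁆ rfl (hU.to_le hRU) (inv1 hPU hPnQ)
        (inv2 hQU Subgroup.le_normalizer) ((inf_le_inf_right _ hRU).trans hC)
    have e1 : ⁅⁅U, Q⁆, Q⁆ = ⊥ := by
      rw [Subgroup.commutator_eq_bot_iff_le_centralizer]
      exact Subgroup.le_centralizer_iff.1 h1
    rw [commutator_commutator_eq hQ hQU hcop] at e1
    exact Subgroup.le_centralizer_iff.1 (Subgroup.commutator_eq_bot_iff_le_centralizer.1 e1)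

/-- Thompson's `P × Q` lemma for a `q`-group `Q`. -/
theorem thompson_PxQ_prime [Finite G] {p q : ℕ} [Fact p.Prime] [Fact q.Prime] (hpq : q ≠ p)
    {P Q U : Subgroup G} (hP : IsPGroup p ↥P) (hQ : IsPGroup q ↥Q) (hU : IsPGroup p ↥U)
    (hPQ : P ≤ Subgroup.centralizer (Q : Set G))
    (hPU : P ≤ Subgroup.normalizer (U : Set G)) (hQU : Q ≤ Subgroup.normalizer (U : Set G))
    (hC : U ⊓ Subgroup.centralizer (P : Set G) ≤ Subgroup.centralizer (Q : Set G)) :
    Q ≤ Subgroup.centralizer (U : Set G) :=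
  thompson_PxQ_aux hpq hP hQ hPQ _ U rfl hU hPU hQU hC

/-- Thompson's `P × Q` lemma, elementwise form: every element of `X` of prime power order `q^k`,
`q ≠ p`, centralizes `U`. -/
theorem thompson_PxQ_elt [Finite G] {p : ℕ} [Fact p.Prime]
    {P X U : Subgroup G} (hP : IsPGroup p ↥P) (hU : IsPGroup p ↥U)
    (hPX : P ≤ Subgroup.centralizer (X : Set G))
    (hPU : P ≤ Subgroup.normalizer (U : Set G)) (hXU : X ≤ Subgroup.normalizer (U : Set G))
    (hC : U ⊓ Subgroup.centralizer (P : Set G) ≤ Subgroup.centralizer (X : Set G))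
    {q : ℕ} (hq : q.Prime) (hpq : q ≠ p) {x : G} (hx : x ∈ X) {k : ℕ} (hk : x ^ q ^ k = 1) :
    x ∈ Subgroup.centralizer (U : Set G) := by
  haveI : Fact q.Prime := ⟨hq⟩
  have hZ : IsPGroup q ↥(Subgroup.zpowers x) := by
    rw [IsPGroup.iff_card]
    rw [Nat.card_zpowers]
    exact (Nat.dvd_prime_pow hq).1 (orderOf_dvd_of_pow_eq_one hk) |>.imp fun _ h => h.2
  have hZX : Subgroup.zpowers x ≤ X := (Subgroup.zpowers_le).2 hx
  have := thompson_PxQ_prime hpq hP hZ hU
    (hPX.trans (Subgroup.centralizer_le hZX)) hPU (hZX.trans hXU)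
    (hC.trans (Subgroup.centralizer_le hZX))
  exact this (Subgroup.mem_zpowers x)

end Cfsg.Agent.helper7
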