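import Mathlib
import Cfsg.Agent.Lib_lead_SZ

set_option autoImplicit false

namespace Cfsg.Agent.lead

open Cfsg.Agent.helper7
open scoped commutatorElement Pointwise

universe u

/-- A subgroup of order prime to `|K|` embeds in `G ⧸ K`, hence is solvable when `G ⧸ K` is. -/
theorem solvable_of_quotient_coprime {G : Type*} [Group G] (K : Subgroup G) [K.Normal]
    (H : Subgroup G) (hKH : K ⊓ H = ⊥) (hs : Group.IsSolvable (G ⧸ K)) : Group.IsSolvable H := by
  let f : H →* G ⧸ K := (QuotientGroup.mk' K).comp H.subtype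
  apply Group.isSolvable_of_isSolvable_injective (f := f)
  rw [injective_iff_map_eq_one]
  intro x hx
  have h1 : (x : G) ∈ K := by
    have : (QuotientGroup.mk' K) (x : G) = 1 := hx
    rwa [← MonoidHom.mem_ker, QuotientGroup.ker_mk'] at this
  have h2 : (x : G) ∈ K ⊓ H := Subgroup.mem_inf.mpr ⟨h1, x.2⟩
  rw [hKH] at h2
  exact Subtype.ext h2

theorem solvable_subgroupOf_of_solvable {G : Type*} [Group G] (H U : Subgroup G)
    (hs : Group.IsSolvable H) : Group.IsSolvable (H.subgroupOf U) := by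
  let f : (H.subgroupOf U) →* H :=
    { toFun := fun x => ⟨(x : G), x.2⟩
      map_one' := rfl
      map_mul' := fun _ _ => rfl }
  apply Group.isSolvable_of_isSolvable_injective (f := f)
  intro x y hxy
  have : ((x : U) : G) = ((y : U) : G) := congrArg (fun t : H => (t : G)) hxy
  exact Subtype.ext (Subtype.ext this)

/-- Relative Schur–Zassenhaus conjugacy: inside a subgroup `U` with `K U = G`, two subgroups of
order `|G : K|` are conjugate by an element of `K ∩ U`. -/
theorem sz_conj_rel {G : Type u} [Group G] [Finite G] (K : Subgroup G) [hKn : K.Normal]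
    (hcop : (Nat.card K).Coprime K.index)
    (hsolv : Group.IsSolvable K ∨ Group.IsSolvable (G ⧸ K))
    (U : Subgroup G) (hKU : U ⊔ K = ⊤) (H₁ H₂ : Subgroup G) (h₁U : H₁ ≤ U) (h₂U : H₂ ≤ U)
    (h₁ : Nat.card H₁ = K.index) (h₂ : Nat.card H₂ = K.index) :
    ∃ c ∈ K ⊓ U, cj c H₁ = H₂ := by
  set N : Subgroup U := K.subgroupOf U with hN
  haveI : N.Normal := Subgroup.normal_subgroupOf
  have hNidx : N.index = K.index := by
    show K.relIndex U = K.index
    rw [← Subgroup.relIndex_sup_right U K, hKU, Subgroup.relIndex_top_right]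
  have hNcard : Nat.card N ∣ Nat.card K := by
    have h1 : Nat.card N = Nat.card (N.map U.subtype) :=
      (Subgroup.card_map_of_injective U.subtype_injective).symm
    rw [h1, hN, Subgroup.subgroupOf_map_subtype]
    exact Subgroup.card_dvd_of_le inf_le_left
  have hcopN : (Nat.card N).Coprime N.index := by
    rw [hNidx]; exact Nat.Coprime.coprime_dvd_left hNcard hcop
  have hc₁ : Nat.card (H₁.subgroupOf U) = N.index := by
    rw [card_subgroupOf_of_le h₁U, hNidx, h₁]
  have hc₂ : Nat.card (H₂.subgroupOf U) = N.index := by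
    rw [card_subgroupOf_of_le h₂U, hNidx, h₂]
  have hKH₁ : K ⊓ H₁ = ⊥ := Subgroup.inf_eq_bot_of_coprime (by rw [h₁]; exact hcop)
  obtain ⟨u, hu⟩ : ∃ u : U, cj u (H₁.subgroupOf U) = H₂.subgroupOf U := by
    rcases hsolv with hs | hs
    · exact sz_conj_normal _ U rfl N inferInstance hcopN
        (solvable_subgroupOf_of_solvable K U hs) _ _ hc₁ hc₂
    · have hH₁s : Group.IsSolvable H₁ := solvable_of_quotient_coprime K H₁ hKH₁ hs
      exact sz_conj_compl _ U rfl N inferInstance hcopN _ _ hc₁ hc₂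
        (solvable_subgroupOf_of_solvable H₁ U hH₁s)
  have hu' : cj (u : G) H₁ = H₂ := cj_of_cj_subgroupOf U H₁ H₂ h₁U h₂U u hu
  -- split u = c * h
  have hcomp : Subgroup.IsComplement' N (H₁.subgroupOf U) :=
    Subgroup.isComplement'_of_coprime (by rw [hc₁]; exact N.card_mul_index)
      (by rw [hc₁]; exact hcopN)
  have hutop : u ∈ N ⊔ H₁.subgroupOf U := hcomp.sup_eq_top ▸ Subgroup.mem_top u
  rw [Subgroup.mem_sup_of_normal_left] at hutop
  obtain ⟨c, hc, h, hh, rfl⟩ := hutop
  rw [Subgroup.mem_subgroupOf] at hc hh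
  refine ⟨(c : G), Subgroup.mem_inf.mpr ⟨hc, c.2⟩, ?_⟩
  rw [← hu']
  simp only [Subgroup.coe_mul]
  rw [← cj_cj, cj_eq_of_mem_normalizer (Subgroup.le_normalizer hh)]

/-- An element of a normal subgroup `K` normalizing a subgroup `H` with `K ⊓ H = ⊥` centralizes it. -/
theorem mem_centralizer_of_mem_normalizer_of_disjoint {G : Type*} [Group G] (K H : Subgroup G)
    [hKn : K.Normal] (hKH : K ⊓ H = ⊥) (n : G) (hnK : n ∈ K)
    (hnH : n ∈ Subgroup.normalizer (H : Set G)) : n ∈ Subgroup.centralizer (H : Set G) := by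
  rw [Subgroup.mem_centralizer_iff]
  intro h hh
  have h1 : n * h * n⁻¹ ∈ H := (Subgroup.mem_normalizer_iff.mp hnH h).mp hh
  have hcH : n * h * n⁻¹ * h⁻¹ ∈ H := H.mul_mem h1 (H.inv_mem hh)
  have hcK : n * h * n⁻¹ * h⁻¹ ∈ K := by
    have h2 : h * n⁻¹ * h⁻¹ ∈ K := hKn.conj_mem _ (K.inv_mem hnK) h
    have : n * h * n⁻¹ * h⁻¹ = n * (h * n⁻¹ * h⁻¹) := by group
    rw [this]; exact K.mul_mem hnK h2
  have hc1 : n * h * n⁻¹ * h⁻¹ = 1 := by
    have : n * h * n⁻¹ * h⁻¹ ∈ K ⊓ H := Subgroup.mem_inf.mpr ⟨hcK, hcH⟩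
    rw [hKH] at this
    exact this
  calc h * n = (n * h * n⁻¹ * h⁻¹)⁻¹ * (n * h) := by group
    _ = n * h := by rw [hc1]; group

/-- Glauberman's lemma. -/
theorem glauberman {G : Type u} [Group G] [Finite G] {X : Type*} [Nonempty X] [MulAction G X]
    (K H : Subgroup G) [hKn : K.Normal] (hH : Nat.card H = K.index)
    (hcop : (Nat.card K).Coprime K.index)
    (hsolv : Group.IsSolvable K ∨ Group.IsSolvable (G ⧸ K))
    (htrans : ∀ x y : X, ∃ k ∈ K, k • x = y) :
    (∃ x : X, ∀ h ∈ H, h • x = x) ∧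
    ∀ x y : X, (∀ h ∈ H, h • x = x) → (∀ h ∈ H, h • y = y) →
      ∃ k ∈ K ⊓ Subgroup.centralizer (H : Set G), k • x = y := by
  have hKH : K ⊓ H = ⊥ := Subgroup.inf_eq_bot_of_coprime (by rw [hH]; exact hcop)
  have hstab : ∀ x : X, MulAction.stabilizer G x ⊔ K = ⊤ := by
    intro x
    rw [eq_top_iff]
    intro g _
    obtain ⟨k, hk, hkx⟩ := htrans x (g • x)
    have h1 : k⁻¹ * g ∈ MulAction.stabilizer G x := by
      rw [MulAction.mem_stabilizer_iff, mul_smul, ← hkx, ← mul_smul, inv_mul_cancel, one_smul]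
    have h2 : g = (k⁻¹ * g) * ((k⁻¹ * g)⁻¹ * k * (k⁻¹ * g)) := by group
    rw [h2]
    refine Subgroup.mul_mem _ (Subgroup.mem_sup_left h1) (Subgroup.mem_sup_right ?_)
    have := hKn.conj_mem k hk (k⁻¹ * g)⁻¹
    simpa using this
  constructor
  · obtain ⟨x₀⟩ : Nonempty X := inferInstance
    set U := MulAction.stabilizer G x₀ with hU
    set N : Subgroup U := K.subgroupOf U with hN
    haveI : N.Normal := Subgroup.normal_subgroupOf
    have hNidx : N.index = K.index := by
      show K.relIndex U = K.index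
      rw [← Subgroup.relIndex_sup_right U K, hstab x₀, Subgroup.relIndex_top_right]
    have hNcard : Nat.card N ∣ Nat.card K := by
      have h1 : Nat.card N = Nat.card (N.map U.subtype) :=
        (Subgroup.card_map_of_injective U.subtype_injective).symm
      rw [h1, hN, Subgroup.subgroupOf_map_subtype]
      exact Subgroup.card_dvd_of_le inf_le_left
    have hcopN : (Nat.card N).Coprime N.index := by
      rw [hNidx]; exact Nat.Coprime.coprime_dvd_left hNcard hcop
    obtain ⟨H₁', hH₁'⟩ := Subgroup.exists_right_complement'_of_coprime hcopN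
    set H₁ : Subgroup G := H₁'.map U.subtype with hH₁
    have hH₁U : H₁ ≤ U := Subgroup.map_subtype_le _
    have hH₁card : Nat.card H₁ = K.index := by
      rw [hH₁, Subgroup.card_map_of_injective U.subtype_injective, ← hNidx]
      exact hH₁'.symm.index_eq_card.symm
    obtain ⟨g, hg⟩ := sz_conj K hcop hsolv H₁ H hH₁card hH
    refine ⟨g • x₀, ?_⟩
    intro h hh
    rw [← hg, mem_cj] at hh
    have h1 : (g⁻¹ * h * g) • x₀ = x₀ := hH₁U hh
    calc h • g • x₀ = g • ((g⁻¹ * h * g) • x₀) := by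
          rw [← mul_smul, ← mul_smul]; congr 1; group
      _ = g • x₀ := by rw [h1]
  · intro x y hx hy
    obtain ⟨k, hk, hkxy⟩ := htrans x y
    set U := MulAction.stabilizer G x with hU
    have h₁U : H ≤ U := fun h hh => hx h hh
    have h₂U : cj k⁻¹ H ≤ U := by
      intro z hz
      rw [mem_cj, inv_inv] at hz
      have h1 := hy _ hz
      rw [MulAction.mem_stabilizer_iff]
      rw [← hkxy, ← mul_smul] at h1
      have h2 : k⁻¹ • ((k * z * k⁻¹ * k) • x) = k⁻¹ • (k • x) := by rw [h1]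
      rw [← mul_smul, ← mul_smul] at h2
      have e1 : k⁻¹ * (k * z * k⁻¹ * k) = z := by group
      rw [e1, inv_mul_cancel, one_smul] at h2
      exact h2
    obtain ⟨c, hc, hcH⟩ := sz_conj_rel K hcop hsolv U (hstab x) H (cj k⁻¹ H) h₁U h₂U hH
      (by rw [card_cj]; exact hH)
    have hkc : cj (k * c) H = H := by
      rw [← cj_cj, hcH, cj_cj, mul_inv_cancel, cj_one]
    have hn : k * c ∈ Subgroup.normalizer (H : Set G) := mem_normalizer_of_cj_eq hkc
    have hkcK : k * c ∈ K := K.mul_mem hk (Subgroup.mem_inf.mp hc).1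
    refine ⟨k * c, Subgroup.mem_inf.mpr ⟨hkcK,
      mem_centralizer_of_mem_normalizer_of_disjoint K H hKH _ hkcK hn⟩, ?_⟩
    have hcx : c • x = x := (Subgroup.mem_inf.mp hc).2
    rw [mul_smul, hcx, hkxy]

end Cfsg.Agent.lead
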