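import Mathlib
import Cfsg.Agent.Lib_lead_SZ2

set_option autoImplicit false

namespace Cfsg.Agent.lead

open Cfsg.Agent.helper7
open scoped commutatorElement Pointwise

universe u

/-- Schur–Zassenhaus conjugacy in an internal semidirect product `D ⋊ A`. -/
theorem sz_conj_semidirect {G : Type u} [Group G] [Finite G] (A D : Subgroup G)
    (hAD : A ≤ Subgroup.normalizer (D : Set G)) (hcop : (Nat.card A).Coprime (Nat.card D))
    (hsolv : Group.IsSolvable A ∨ Group.IsSolvable D)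
    (B : Subgroup G) (hB : B ≤ D ⊔ A) (hBcard : Nat.card B = Nat.card A) :
    ∃ d ∈ D, cj d B = A := by
  set Γ : Subgroup G := D ⊔ A with hΓ
  have hDΓ : D ≤ Γ := le_sup_left
  have hAΓ : A ≤ Γ := le_sup_right
  have hΓnorm : Γ ≤ Subgroup.normalizer (D : Set G) := sup_le Subgroup.le_normalizer hAD
  set N : Subgroup Γ := D.subgroupOf Γ with hN
  haveI hNn : N.Normal := (Subgroup.normal_subgroupOf_iff_le_normalizer hDΓ).mpr hΓnorm
  set A' : Subgroup Γ := A.subgroupOf Γ with hA'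
  set B' : Subgroup Γ := B.subgroupOf Γ with hB'
  have hNc : Nat.card N = Nat.card D := card_subgroupOf_of_le hDΓ
  have hA'c : Nat.card A' = Nat.card A := card_subgroupOf_of_le hAΓ
  have hB'c : Nat.card B' = Nat.card A := by rw [hB', card_subgroupOf_of_le hB, hBcard]
  have hsup : N ⊔ A' = ⊤ := by
    rw [hN, hA', ← Subgroup.subgroupOf_sup hDΓ hAΓ, Subgroup.subgroupOf_self]
  have hdisj : Disjoint N A' :=
    Subgroup.disjoint_of_coprime_natCard (by rw [hNc, hA'c]; exact hcop.symm)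
  have hcomp : Subgroup.IsComplement' N A' := by
    apply Subgroup.isComplement'_of_disjoint_and_mul_eq_univ hdisj
    rw [← Subgroup.normal_mul, hsup]
    rfl
  have hNidx : N.index = Nat.card A' := hcomp.symm.index_eq_card
  have hcopN : (Nat.card N).Coprime N.index := by
    rw [hNidx, hNc, hA'c]; exact hcop.symm
  obtain ⟨u, hu⟩ : ∃ u : Γ, cj u A' = B' := by
    rcases hsolv with hs | hs
    · exact sz_conj_compl _ Γ rfl N hNn hcopN A' B' hNidx.symm (by rw [hNidx, hB'c, hA'c])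
        (solvable_subgroupOf_of_solvable A Γ hs)
    · exact sz_conj_normal _ Γ rfl N hNn hcopN (solvable_subgroupOf_of_solvable D Γ hs) A' B'
        hNidx.symm (by rw [hNidx, hB'c, hA'c])
  have hu' : cj (u : G) A = B := cj_of_cj_subgroupOf Γ A B hAΓ hB u hu
  have hui : u⁻¹ ∈ A' ⊔ N := by rw [sup_comm, hsup]; exact Subgroup.mem_top _
  rw [Subgroup.mem_sup_of_normal_right] at hui
  obtain ⟨a, ha, d, hd, had⟩ := hui
  rw [hA', Subgroup.mem_subgroupOf] at ha
  rw [hN, Subgroup.mem_subgroupOf] at hd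
  refine ⟨(d : G), hd, ?_⟩
  have h1 : cj ((u : G)⁻¹) B = A := by rw [← hu', cj_inv_cj]
  have h2 : ((u : G)⁻¹) = (a : G) * (d : G) := by
    have := congrArg (fun t : Γ => (t : G)) had
    simpa using this.symm
  rw [h2, ← cj_cj] at h1
  have h3 := congrArg (cj (a : G)⁻¹) h1
  rw [cj_inv_cj] at h3
  rw [h3]
  exact cj_eq_of_mem_normalizer (Subgroup.le_normalizer (A.inv_mem ha))

/-- An element normalizing `A`, lying in a subgroup `K` normalized by `A` with `K ⊓ A = ⊥`,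
centralizes `A`. -/
theorem mem_centralizer_of_normalizes {G : Type*} [Group G] (A K : Subgroup G)
    (hAK : A ≤ Subgroup.normalizer (K : Set G)) (hKA : K ⊓ A = ⊥) (n : G) (hnK : n ∈ K)
    (hnA : n ∈ Subgroup.normalizer (A : Set G)) : n ∈ Subgroup.centralizer (A : Set G) := by
  rw [Subgroup.mem_centralizer_iff]
  intro a ha
  have h1 : n * a * n⁻¹ ∈ A := (Subgroup.mem_normalizer_iff.mp hnA a).mp ha
  have hcA : n * a * n⁻¹ * a⁻¹ ∈ A := A.mul_mem h1 (A.inv_mem ha)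
  have hcK : n * a * n⁻¹ * a⁻¹ ∈ K := by
    have h2 : a * n⁻¹ * a⁻¹ ∈ K :=
      (Subgroup.mem_normalizer_iff.mp (hAK ha) n⁻¹).mp (K.inv_mem hnK)
    have : n * a * n⁻¹ * a⁻¹ = n * (a * n⁻¹ * a⁻¹) := by group
    rw [this]; exact K.mul_mem hnK h2
  have hc1 : n * a * n⁻¹ * a⁻¹ = 1 := by
    have : n * a * n⁻¹ * a⁻¹ ∈ K ⊓ A := Subgroup.mem_inf.mpr ⟨hcK, hcA⟩
    rw [hKA] at this
    exact this
  calc a * n = (n * a * n⁻¹ * a⁻¹)⁻¹ * (n * a) := by group
    _ = n * a := by rw [hc1]; group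

/-- Coprime action, invariant cosets: if `A` normalizes `D` (coprime orders, one solvable) and the
coset `x D` is `A`-invariant, with `x` in an `A`-invariant subgroup `K ⊇ D` meeting `A` trivially,
then `x D` contains an element centralizing `A`. -/
theorem exists_fixed_in_coset {G : Type u} [Group G] [Finite G] (A D K : Subgroup G)
    (hAD : A ≤ Subgroup.normalizer (D : Set G)) (hcop : (Nat.card A).Coprime (Nat.card D))
    (hsolv : Group.IsSolvable A ∨ Group.IsSolvable D)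
    (hDK : D ≤ K) (hAK : A ≤ Subgroup.normalizer (K : Set G)) (hKA : K ⊓ A = ⊥)
    (x : G) (hxK : x ∈ K) (hx : ∀ a ∈ A, x⁻¹ * a * x * a⁻¹ ∈ D) :
    ∃ c ∈ K ⊓ Subgroup.centralizer (A : Set G), x⁻¹ * c ∈ D := by
  have hB : cj x⁻¹ A ≤ D ⊔ A := by
    intro y hy
    rw [mem_cj, inv_inv] at hy
    -- y = x⁻¹ (x y x⁻¹) x, with a := x y x⁻¹ ∈ A
    have h1 := hx _ hy
    have h2 : y = (x⁻¹ * (x * y * x⁻¹) * x * (x * y * x⁻¹)⁻¹) * (x * y * x⁻¹) := by group
    rw [h2]
    exact Subgroup.mul_mem _ (Subgroup.mem_sup_left h1) (Subgroup.mem_sup_right hy)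
  obtain ⟨d, hd, hdA⟩ := sz_conj_semidirect A D hAD hcop hsolv (cj x⁻¹ A) hB (card_cj _ _)
  rw [cj_cj] at hdA
  have hn : d * x⁻¹ ∈ Subgroup.normalizer (A : Set G) := mem_normalizer_of_cj_eq hdA
  have hnK : d * x⁻¹ ∈ K := K.mul_mem (hDK hd) (K.inv_mem hxK)
  have hc := mem_centralizer_of_normalizes A K hAK hKA _ hnK hn
  refine ⟨(d * x⁻¹)⁻¹, Subgroup.mem_inf.mpr ⟨K.inv_mem hnK, Subgroup.inv_mem _ hc⟩, ?_⟩
  have : x⁻¹ * (d * x⁻¹)⁻¹ = d⁻¹ := by group
  rw [this]
  exact D.inv_mem hd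


theorem solvable_of_le {G : Type*} [Group G] {N K : Subgroup G} (h : N ≤ K)
    (hs : Group.IsSolvable K) : Group.IsSolvable N := by
  apply Group.isSolvable_of_isSolvable_injective (f := Subgroup.inclusion h)
  exact Subgroup.inclusion_injective h

/-- Coprime action: invariant cosets of an invariant normal subgroup contain fixed points. -/
theorem coprime_fixed_coset {G : Type u} [Group G] [Finite G] (A K : Subgroup G)
    (hAK : A ≤ Subgroup.normalizer (K : Set G))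
    (hcop : (Nat.card A).Coprime (Nat.card K)) (hsolv : Group.IsSolvable A ∨ Group.IsSolvable K)
    (N : Subgroup G) (hNK : N ≤ K) (hNnormal : K ≤ Subgroup.normalizer (N : Set G))
    (hNA : A ≤ Subgroup.normalizer (N : Set G))
    (k : G) (hk : k ∈ K) (hfix : ∀ a ∈ A, a * k * a⁻¹ * k⁻¹ ∈ N) :
    ∃ c ∈ K ⊓ Subgroup.centralizer (A : Set G), k⁻¹ * c ∈ N := by
  have hcopN : (Nat.card A).Coprime (Nat.card N) :=
    Nat.Coprime.coprime_dvd_right (Subgroup.card_dvd_of_le hNK) hcop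
  have hKA : K ⊓ A = ⊥ := Subgroup.inf_eq_bot_of_coprime hcop.symm
  apply exists_fixed_in_coset A N K hNA hcopN (hsolv.imp id (solvable_of_le hNK)) hNK hAK hKA k hk
  intro a ha
  have h1 := hfix a ha
  have h2 : k⁻¹ * (a * k * a⁻¹ * k⁻¹) * k⁻¹⁻¹ ∈ N :=
    (Subgroup.mem_normalizer_iff.mp (hNnormal (K.inv_mem hk)) _).mp h1
  have h3 : k⁻¹ * (a * k * a⁻¹ * k⁻¹) * k⁻¹⁻¹ = k⁻¹ * a * k * a⁻¹ := by group
  rwa [h3] at h2

end Cfsg.Agent.lead
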