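import Mathlib
import Cfsg.Agent.Lib_lead_Coprime

set_option autoImplicit false

namespace Cfsg.Agent.lead

open Cfsg.Agent.helper7
open scoped commutatorElement Pointwise

universe u

/-- If `K ⊔ H = ⊤` and `H` is solvable then `Γ ⧸ K` is solvable. -/
theorem solvable_quotient_of_sup_eq_top {Γ : Type*} [Group Γ] (K H : Subgroup Γ) [hKn : K.Normal]
    (hsup : K ⊔ H = ⊤) (hs : Group.IsSolvable H) : Group.IsSolvable (Γ ⧸ K) := by
  let f : H →* Γ ⧸ K := (QuotientGroup.mk' K).comp H.subtype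
  haveI := hs
  apply Group.isSolvable_of_surjective (f := f)
  intro y
  induction y using QuotientGroup.induction_on with
  | H g =>
    have hg : g ∈ K ⊔ H := hsup ▸ Subgroup.mem_top g
    rw [Subgroup.mem_sup_of_normal_left] at hg
    obtain ⟨k, hk, h, hh, rfl⟩ := hg
    refine ⟨⟨h, hh⟩, ?_⟩
    show (QuotientGroup.mk' K) h = (QuotientGroup.mk' K) (k * h)
    rw [map_mul]
    have : (QuotientGroup.mk' K) k = 1 := (QuotientGroup.eq_one_iff k).mpr hk
    rw [this, one_mul]

/-- Type-level form: a complement `A` of a normal Hall subgroup `K` normalizes a Sylow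
`p`-subgroup of `K`. -/
theorem exists_invariant_sylow_type {Γ : Type u} [Group Γ] [Finite Γ] (K A : Subgroup Γ)
    [hKn : K.Normal] (hA : Nat.card A = K.index) (hcop : (Nat.card K).Coprime K.index)
    (hsolv : Group.IsSolvable K ∨ Group.IsSolvable (Γ ⧸ K)) (p : ℕ) [Fact p.Prime] :
    ∃ P : Subgroup Γ, P ≤ K ∧ Nat.card P = p ^ (Nat.card K).factorization p ∧
      A ≤ Subgroup.normalizer (P : Set Γ) := by
  obtain ⟨S⟩ : Nonempty (Sylow p K) := inferInstance
  set P₀ : Subgroup Γ := (S : Subgroup K).map K.subtype with hP₀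
  set L : Subgroup Γ := Subgroup.normalizer (P₀ : Set Γ) with hL
  have hFr : L ⊔ K = ⊤ := Sylow.normalizer_sup_eq_top S
  have htrans : ∀ x y : Γ ⧸ L, ∃ k ∈ K, k • x = y := by
    intro x y
    induction x using QuotientGroup.induction_on with
    | H γ₁ =>
    induction y using QuotientGroup.induction_on with
    | H γ₂ =>
    have h1 : γ₁⁻¹ * γ₂ ∈ K ⊔ L := by rw [sup_comm, hFr]; exact Subgroup.mem_top _
    rw [Subgroup.mem_sup_of_normal_left] at h1
    obtain ⟨k', hk', l, hl, hkl⟩ := h1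
    refine ⟨γ₁ * k' * γ₁⁻¹, hKn.conj_mem k' hk' γ₁, ?_⟩
    rw [MulAction.Quotient.smul_mk, QuotientGroup.eq, smul_eq_mul]
    have : (γ₁ * k' * γ₁⁻¹ * γ₁)⁻¹ * γ₂ = k'⁻¹ * (γ₁⁻¹ * γ₂) := by group
    rw [this, ← hkl]
    have : k'⁻¹ * (k' * l) = l := by group
    rw [this]; exact hl
  obtain ⟨⟨x, hx⟩, -⟩ := glauberman (X := Γ ⧸ L) K A hA hcop hsolv htrans
  induction x using QuotientGroup.induction_on with
  | H γ =>
  refine ⟨cj γ P₀, ?_, ?_, ?_⟩
  · have h1 : P₀ ≤ K := Subgroup.map_subtype_le _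
    have h2 : cj γ K = K := cj_eq_of_mem_normalizer (by
      rw [Subgroup.normalizer_eq_top]; exact Subgroup.mem_top γ)
    rw [← h2]; exact cj_mono h1
  · rw [card_cj, hP₀, Subgroup.card_map_of_injective K.subtype_injective]
    exact S.card_eq_multiplicity
  · intro a ha
    have h1 := hx a ha
    rw [MulAction.Quotient.smul_mk, QuotientGroup.eq, smul_eq_mul] at h1
    have h2 : γ⁻¹ * a * γ ∈ L := by
      have := L.inv_mem h1
      have e : ((a * γ)⁻¹ * γ)⁻¹ = γ⁻¹ * a * γ := by group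
      rwa [e] at this
    rw [← cj_normalizer, mem_cj]
    exact h2

/-- Coprime action: there is an `A`-invariant Sylow `p`-subgroup of `K`. -/
theorem exists_invariant_sylow {G : Type u} [Group G] [Finite G] (A K : Subgroup G)
    (hAK : A ≤ Subgroup.normalizer (K : Set G)) (hcop : (Nat.card A).Coprime (Nat.card K))
    (hsolv : Group.IsSolvable A ∨ Group.IsSolvable K) (p : ℕ) [Fact p.Prime] :
    ∃ P : Subgroup G, P ≤ K ∧ Nat.card P = p ^ (Nat.card K).factorization p ∧
      A ≤ Subgroup.normalizer (P : Set G) := by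
  set Γ : Subgroup G := K ⊔ A with hΓ
  have hKΓ : K ≤ Γ := le_sup_left
  have hAΓ : A ≤ Γ := le_sup_right
  have hΓnorm : Γ ≤ Subgroup.normalizer (K : Set G) := sup_le Subgroup.le_normalizer hAK
  set N : Subgroup Γ := K.subgroupOf Γ with hN
  haveI hNn : N.Normal := (Subgroup.normal_subgroupOf_iff_le_normalizer hKΓ).mpr hΓnorm
  set A' : Subgroup Γ := A.subgroupOf Γ with hA'
  have hNc : Nat.card N = Nat.card K := card_subgroupOf_of_le hKΓ
  have hA'c : Nat.card A' = Nat.card A := card_subgroupOf_of_le hAΓ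
  have hsup : N ⊔ A' = ⊤ := by
    rw [hN, hA', ← Subgroup.subgroupOf_sup hKΓ hAΓ, Subgroup.subgroupOf_self]
  have hdisj : Disjoint N A' :=
    Subgroup.disjoint_of_coprime_natCard (by rw [hNc, hA'c]; exact hcop.symm)
  have hcomp : Subgroup.IsComplement' N A' := by
    apply Subgroup.isComplement'_of_disjoint_and_mul_eq_univ hdisj
    rw [← Subgroup.normal_mul, hsup]
    rfl
  have hNidx : N.index = Nat.card A' := hcomp.symm.index_eq_card
  have hcopN : (Nat.card N).Coprime N.index := by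
    rw [hNidx, hNc, hA'c]; exact hcop.symm
  have hsolv' : Group.IsSolvable N ∨ Group.IsSolvable (Γ ⧸ N) := by
    rcases hsolv with hs | hs
    · right
      exact solvable_quotient_of_sup_eq_top N A' hsup (solvable_subgroupOf_of_solvable A Γ hs)
    · left
      exact solvable_subgroupOf_of_solvable K Γ hs
  obtain ⟨P', hP'N, hP'c, hP'A⟩ := exists_invariant_sylow_type N A' hNidx.symm hcopN hsolv' p
  refine ⟨P'.map Γ.subtype, ?_, ?_, ?_⟩
  · rintro _ ⟨x, hx, rfl⟩
    have := hP'N hx
    rw [hN, Subgroup.mem_subgroupOf] at this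
    exact this
  · rw [Subgroup.card_map_of_injective Γ.subtype_injective, hP'c, hNc]
  · intro a ha
    have h1 : (⟨a, hAΓ ha⟩ : Γ) ∈ Subgroup.normalizer (P' : Set Γ) := hP'A (by
      rw [hA', Subgroup.mem_subgroupOf]; exact ha)
    have h2 := Subgroup.le_normalizer_map Γ.subtype (H := P') ⟨_, h1, rfl⟩
    exact h2

end Cfsg.Agent.lead
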