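import Mathlib
import Cfsg.Agent.Lib_lead_Coprime2
import Cfsg.Agent.Lib_helper7_Coprime

set_option autoImplicit false

namespace Cfsg.Agent.lead

open Cfsg.Agent.helper7
open scoped commutatorElement Pointwise

universe u

theorem cj_commutator_le_left {G : Type*} [Group G] (K A : Subgroup G) (g : G) (hg : g ∈ K) :
    cj g ⁅K, A⁆ ≤ ⁅K, A⁆ := by
  show (⁅K, A⁆ : Subgroup G).map (MulAut.conj g).toMonoidHom ≤ ⁅K, A⁆
  rw [Subgroup.commutator_def, MonoidHom.map_closure, Subgroup.closure_le]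
  rintro _ ⟨_, ⟨k, hk, a, ha, rfl⟩, rfl⟩
  have h1 : (MulAut.conj g).toMonoidHom ⁅k, a⁆ = ⁅g * k, a⁆ * (⁅g, a⁆)⁻¹ := by
    simp only [MulEquiv.coe_toMonoidHom, MulAut.conj_apply, commutatorElement_def]
    group
  rw [SetLike.mem_coe, h1, ← Subgroup.commutator_def]
  exact Subgroup.mul_mem _ (Subgroup.commutator_mem_commutator (K.mul_mem hg hk) ha)
    (Subgroup.inv_mem _ (Subgroup.commutator_mem_commutator hg ha))

/-- `K` normalizes `[K, A]`. -/
theorem le_normalizer_commutator_left {G : Type*} [Group G] (K A : Subgroup G) :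
    K ≤ Subgroup.normalizer ((⁅K, A⁆ : Subgroup G) : Set G) := by
  intro g hg
  apply mem_normalizer_of_cj_eq
  apply le_antisymm (cj_commutator_le_left K A g hg)
  have := cj_commutator_le_left K A g⁻¹ (K.inv_mem hg)
  rw [cj_le_iff, inv_inv] at this
  exact this

/-- Coprime action: every `k ∈ K` is `s * c` with `s ∈ [K,A]` and `c ∈ C_K(A)`. -/
theorem coprime_decomp {G : Type u} [Group G] [Finite G] (A K : Subgroup G)
    (hAK : A ≤ Subgroup.normalizer (K : Set G))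
    (hcop : (Nat.card A).Coprime (Nat.card K)) (hsolv : Group.IsSolvable A ∨ Group.IsSolvable K)
    (k : G) (hk : k ∈ K) :
    ∃ s ∈ ⁅K, A⁆, ∃ c ∈ K ⊓ Subgroup.centralizer (A : Set G), k = s * c := by
  set N : Subgroup G := ⁅K, A⁆ with hN
  have hNK : N ≤ K := commutator_le_of_normalizer hAK
  have hKN : K ≤ Subgroup.normalizer (N : Set G) := le_normalizer_commutator_left K A
  have hAN : A ≤ Subgroup.normalizer (N : Set G) := fun a ha =>
    mem_normalizer_commutator (hAK ha) (Subgroup.le_normalizer ha)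
  have hfix : ∀ a ∈ A, a * k⁻¹ * a⁻¹ * k⁻¹⁻¹ ∈ N := by
    intro a ha
    have h1 : ⁅a, k⁻¹⁆ ∈ ⁅A, K⁆ := Subgroup.commutator_mem_commutator ha (K.inv_mem hk)
    rw [Subgroup.commutator_comm] at h1
    rw [commutatorElement_def] at h1
    exact h1
  obtain ⟨c, hc, hkc⟩ := coprime_fixed_coset A K hAK hcop hsolv N hNK hKN hAN k⁻¹ (K.inv_mem hk) hfix
  rw [inv_inv] at hkc
  refine ⟨k * c, hkc, c⁻¹, Subgroup.inv_mem _ hc, by group⟩

/-- Coprime action: `K = [K,A] C_K(A)`. -/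
theorem coprime_commutator_sup_fixed {G : Type u} [Group G] [Finite G] (A K : Subgroup G)
    (hAK : A ≤ Subgroup.normalizer (K : Set G))
    (hcop : (Nat.card A).Coprime (Nat.card K)) (hsolv : Group.IsSolvable A ∨ Group.IsSolvable K) :
    ⁅K, A⁆ ⊔ (K ⊓ Subgroup.centralizer (A : Set G)) = K := by
  apply le_antisymm
  · exact sup_le (commutator_le_of_normalizer hAK) inf_le_left
  · intro k hk
    obtain ⟨s, hs, c, hc, rfl⟩ := coprime_decomp A K hAK hcop hsolv k hk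
    exact Subgroup.mul_mem _ (Subgroup.mem_sup_left hs) (Subgroup.mem_sup_right hc)

/-- Coprime action: `[K,A,A] = [K,A]`. -/
theorem coprime_commutator_commutator {G : Type u} [Group G] [Finite G] (A K : Subgroup G)
    (hAK : A ≤ Subgroup.normalizer (K : Set G))
    (hcop : (Nat.card A).Coprime (Nat.card K)) (hsolv : Group.IsSolvable A ∨ Group.IsSolvable K) :
    ⁅⁅K, A⁆, A⁆ = ⁅K, A⁆ := by
  apply le_antisymm
  · exact Subgroup.commutator_mono (commutator_le_of_normalizer hAK) le_rfl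
  · rw [Subgroup.commutator_le]
    intro u hu g hg
    obtain ⟨s, hs, c, hc, rfl⟩ := coprime_decomp A K hAK hcop hsolv u hu
    have hcg : g * c⁻¹ = c⁻¹ * g := by
      have := (Subgroup.mem_inf.1 hc).2
      rw [Subgroup.mem_centralizer_iff] at this
      have h1 := this g hg
      calc g * c⁻¹ = c⁻¹ * (c * g) * c⁻¹ := by group
        _ = c⁻¹ * (g * c) * c⁻¹ := by rw [h1]
        _ = c⁻¹ * g := by group
    have : ⁅s * c, g⁆ = ⁅s, g⁆ := by
      rw [commutatorElement_def, commutatorElement_def]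
      calc s * c * g * (s * c)⁻¹ * g⁻¹ = s * c * (g * c⁻¹) * s⁻¹ * g⁻¹ := by group
        _ = s * c * (c⁻¹ * g) * s⁻¹ * g⁻¹ := by rw [hcg]
        _ = s * g * s⁻¹ * g⁻¹ := by group
    rw [this]
    exact Subgroup.commutator_mem_commutator hs hg

/-- Coprime action: fixed points of a product `K = X Y` of invariant subgroups factor. -/
theorem coprime_fixed_factor {G : Type u} [Group G] [Finite G] (A K : Subgroup G)
    (hAK : A ≤ Subgroup.normalizer (K : Set G))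
    (hcop : (Nat.card A).Coprime (Nat.card K)) (hsolv : Group.IsSolvable A ∨ Group.IsSolvable K)
    (X Y : Subgroup G) (hX : X ≤ K) (hY : Y ≤ K) (hXA : A ≤ Subgroup.normalizer (X : Set G))
    (hYA : A ≤ Subgroup.normalizer (Y : Set G))
    (hXY : ∀ k ∈ K, ∃ x ∈ X, ∃ y ∈ Y, k = x * y) (k : G)
    (hk : k ∈ K ⊓ Subgroup.centralizer (A : Set G)) :
    ∃ x ∈ X ⊓ Subgroup.centralizer (A : Set G), ∃ y ∈ Y ⊓ Subgroup.centralizer (A : Set G),
      k = x * y := by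
  obtain ⟨hkK, hkC⟩ := Subgroup.mem_inf.mp hk
  obtain ⟨x₀, hx₀, y₀, hy₀, hk0⟩ := hXY k hkK
  set D : Subgroup G := X ⊓ Y with hD
  have hDK : D ≤ K := inf_le_left.trans hX
  have hAD : A ≤ Subgroup.normalizer (D : Set G) :=
    (le_inf hXA hYA).trans Subgroup.inf_normalizer_le_normalizer_inf
  have hcopD : (Nat.card A).Coprime (Nat.card D) :=
    Nat.Coprime.coprime_dvd_right (Subgroup.card_dvd_of_le hDK) hcop
  have hXAbot : X ⊓ A = ⊥ := Subgroup.inf_eq_bot_of_coprime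
    (Nat.Coprime.coprime_dvd_left (Subgroup.card_dvd_of_le hX) hcop.symm)
  have hinv : ∀ a ∈ A, x₀⁻¹ * a * x₀ * a⁻¹ ∈ D := by
    intro a ha
    rw [Subgroup.mem_centralizer_iff] at hkC
    have hka : a * k * a⁻¹ = k := by
      have := hkC a ha
      calc a * k * a⁻¹ = k * a * a⁻¹ := by rw [this]
        _ = k := by group
    have h1 : a * x₀ * a⁻¹ ∈ X := (Subgroup.mem_normalizer_iff.mp (hXA ha) x₀).mp hx₀
    have h2 : a * y₀ * a⁻¹ ∈ Y := (Subgroup.mem_normalizer_iff.mp (hYA ha) y₀).mp hy₀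
    have h3 : x₀⁻¹ * (a * x₀ * a⁻¹) = y₀ * (a * y₀ * a⁻¹)⁻¹ := by
      have h4 : (a * x₀ * a⁻¹) * (a * y₀ * a⁻¹) = x₀ * y₀ := by
        rw [← hk0]
        calc (a * x₀ * a⁻¹) * (a * y₀ * a⁻¹) = a * (x₀ * y₀) * a⁻¹ := by group
          _ = a * k * a⁻¹ := by rw [hk0]
          _ = k := hka
      calc x₀⁻¹ * (a * x₀ * a⁻¹)
          = x₀⁻¹ * ((a * x₀ * a⁻¹) * (a * y₀ * a⁻¹)) * (a * y₀ * a⁻¹)⁻¹ := by group
        _ = x₀⁻¹ * (x₀ * y₀) * (a * y₀ * a⁻¹)⁻¹ := by rw [h4]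
        _ = y₀ * (a * y₀ * a⁻¹)⁻¹ := by group
    have h5 : x₀⁻¹ * a * x₀ * a⁻¹ = x₀⁻¹ * (a * x₀ * a⁻¹) := by group
    rw [h5]
    refine Subgroup.mem_inf.mpr ⟨X.mul_mem (X.inv_mem hx₀) h1, ?_⟩
    rw [h3]
    exact Y.mul_mem hy₀ (Y.inv_mem h2)
  obtain ⟨c, hc, hcD⟩ := exists_fixed_in_coset A D X hAD hcopD
    (hsolv.imp id (solvable_of_le hDK)) inf_le_left hXA hXAbot x₀ hx₀ hinv
  refine ⟨c, hc, c⁻¹ * k, ?_, by group⟩
  refine Subgroup.mem_inf.mpr ⟨?_, Subgroup.mul_mem _ (Subgroup.inv_mem _ (Subgroup.mem_inf.mp hc).2) hkC⟩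
  have h6 : c⁻¹ * k = (x₀⁻¹ * c)⁻¹ * y₀ := by rw [hk0]; group
  rw [h6]
  exact Y.mul_mem (Y.inv_mem (Subgroup.mem_inf.mp hcD).2) hy₀

end Cfsg.Agent.lead
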