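import Mathlib
import Cfsg.Prelude.Def_Local
import Cfsg.Agent.Lib_lead_Coprime3
import Cfsg.Agent.Lib_helper23_PSolv
import Cfsg.Agent.Lib_helper1_PGroup
import Cfsg.Agent.Lib_helper7_Quot

set_option autoImplicit false

namespace Cfsg.Agent.helper7

universe u

/-- Burnside: a `p'`-group `A` normalizing the `p`-group `T` and acting trivially on `T / Φ(T)`
centralizes `T`. -/
theorem centralizes_of_commutator_le_frattini {X : Type u} [Group X] [Finite X] {p : ℕ}
    [hp : Fact p.Prime] (T A : Subgroup X) (hT : IsPGroup p T)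
    (hcopA : (Nat.card A).Coprime p) (hAT : A ≤ Subgroup.normalizer (T : Set X))
    (hΦ : ⁅T, A⁆ ≤ (frattini ↥T).map T.subtype) :
    A ≤ Subgroup.centralizer (T : Set X) := by
  have hTA : ⁅T, A⁆ ≤ T := hΦ.trans (Subgroup.map_subtype_le _)
  have hcop : (Nat.card A).Coprime (Nat.card T) := by
    obtain ⟨n, hn⟩ := hT.exists_card_eq
    rw [hn]
    exact Nat.Coprime.pow_right _ hcopA
  haveI : Group.IsNilpotent ↥T := hT.isNilpotent
  have hsolv : Group.IsSolvable ↥T := IsNilpotent.to_isSolvable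
  have hdec := Cfsg.Agent.lead.coprime_commutator_sup_fixed A T hAT hcop (Or.inr hsolv)
  have hCT : T ⊓ Subgroup.centralizer (A : Set X) ≤ T := inf_le_left
  have hΦ' : (⁅T, A⁆).subgroupOf T ≤ frattini ↥T := by
    intro z hz
    rw [Subgroup.mem_subgroupOf] at hz
    obtain ⟨w, hw, hwz⟩ := hΦ hz
    have : w = z := Subtype.ext hwz
    rw [← this]; exact hw
  have htop : (T ⊓ Subgroup.centralizer (A : Set X)).subgroupOf T ⊔ frattini ↥T = ⊤ := by
    rw [eq_top_iff]
    calc (⊤ : Subgroup ↥T) = (⁅T, A⁆ ⊔ (T ⊓ Subgroup.centralizer (A : Set X))).subgroupOf T := by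
          rw [hdec, Subgroup.subgroupOf_self]
      _ = (⁅T, A⁆).subgroupOf T ⊔ (T ⊓ Subgroup.centralizer (A : Set X)).subgroupOf T :=
          Subgroup.subgroupOf_sup hTA hCT
      _ ≤ (T ⊓ Subgroup.centralizer (A : Set X)).subgroupOf T ⊔ frattini ↥T := by
          rw [sup_comm]
          exact sup_le_sup_left hΦ' _
  have hCtop := frattini_nongenerating htop
  rw [Subgroup.subgroupOf_eq_top] at hCtop
  intro a ha
  rw [Subgroup.mem_centralizer_iff]
  intro t ht
  have h2 : t ∈ Subgroup.centralizer (A : Set X) := (hCtop ht).2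
  rw [Subgroup.mem_centralizer_iff] at h2
  exact (h2 a ha).symm

/-- Hall–Higman 1.2.3, Frattini form: in a `p`-solvable group `Y` with `O_{p'}(Y) = 1`, an element
acting trivially on `O_p(Y) / Φ(O_p(Y))` lies in `O_p(Y)`. -/
theorem mem_pCore_of_trivial_on_frattini_quotient {Y : Type u} [Group Y] [Finite Y] {p : ℕ}
    [hp : Fact p.Prime] (hps : Cfsg.IsPSolvable p Y) (hO : Cfsg.pPrimeCore p Y = ⊥) (h : Y)
    (hh : ∀ v ∈ Cfsg.pCore p Y,
      h * v * h⁻¹ * v⁻¹ ∈ (frattini ↥(Cfsg.pCore p Y)).map (Cfsg.pCore p Y).subtype) :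
    h ∈ Cfsg.pCore p Y := by
  haveI hVn : (Cfsg.pCore p Y).Normal := Cfsg.Agent.helper1.pCore_normal p
  have hVp : IsPGroup p ↥(Cfsg.pCore p Y) := Cfsg.Agent.helper1.pCore_isPGroup p
  have hcent := Cfsg.Agent.helper23.hall_higman_123
    ((Cfsg.Agent.helper23.isPSolvable_iff_psreach).1 hps) hO
  obtain ⟨V, hV⟩ : ∃ V : Subgroup Y, V = Cfsg.pCore p Y := ⟨_, rfl⟩
  rw [← hV] at hh hcent hVp ⊢
  haveI hVn' : V.Normal := by rw [hV]; exact hVn
  obtain ⟨Φ, hΦdef⟩ : ∃ Φ : Subgroup Y, Φ = (frattini ↥V).map V.subtype := ⟨_, rfl⟩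
  rw [← hΦdef] at hh
  have hΦn : Φ.Normal := by rw [hΦdef]; infer_instance
  have hΦV : Φ ≤ V := by rw [hΦdef]; exact Subgroup.map_subtype_le _
  -- the kernel of the action on `V / Φ`
  let K : Subgroup Y :=
    { carrier := {a | ∀ v ∈ V, a * v * a⁻¹ * v⁻¹ ∈ Φ}
      one_mem' := by
        intro v _
        have : (1 : Y) * v * 1⁻¹ * v⁻¹ = 1 := by group
        rw [this]; exact Φ.one_mem
      mul_mem' := by
        intro a b ha hb v hv
        have e : a * b * v * (a * b)⁻¹ * v⁻¹ = a * (b * v * b⁻¹ * v⁻¹) * a⁻¹ * (a * v * a⁻¹ * v⁻¹) := by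
          group
        rw [e]
        exact Φ.mul_mem (hΦn.conj_mem _ (hb v hv) a) (ha v hv)
      inv_mem' := by
        intro a ha v hv
        have hw : a⁻¹ * v * a ∈ V := by
          have := hVn'.conj_mem v hv a⁻¹
          simpa using this
        have h1 := ha _ hw
        have e : a⁻¹ * v * a⁻¹⁻¹ * v⁻¹ = (a * (a⁻¹ * v * a) * a⁻¹ * (a⁻¹ * v * a)⁻¹)⁻¹ := by group
        rw [e]
        exact Φ.inv_mem h1 }
  have hKmem : ∀ a, a ∈ K ↔ ∀ v ∈ V, a * v * a⁻¹ * v⁻¹ ∈ Φ := fun a => Iff.rfl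
  have hKn : K.Normal := by
    constructor
    intro a ha g
    rw [hKmem] at ha ⊢
    intro v hv
    have hw : g⁻¹ * v * g ∈ V := by
      have := hVn'.conj_mem v hv g⁻¹
      simpa using this
    have e : g * a * g⁻¹ * v * (g * a * g⁻¹)⁻¹ * v⁻¹ =
        g * (a * (g⁻¹ * v * g) * a⁻¹ * (g⁻¹ * v * g)⁻¹) * g⁻¹ := by group
    rw [e]
    exact hΦn.conj_mem _ (ha _ hw) g
  have hKp : IsPGroup p ↥K := by
    rintro ⟨a, ha⟩
    have hn : orderOf a ≠ 0 := (orderOf_pos a).ne'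
    obtain ⟨e, m, hm, hnm⟩ := Nat.exists_eq_pow_mul_and_not_dvd hn p hp.out.ne_one
    refine ⟨e, ?_⟩
    apply Subtype.ext
    rw [Subgroup.coe_pow, Subgroup.coe_one]
    -- `b = a ^ (p ^ e)` has order dividing `m`
    obtain ⟨b, hb⟩ : ∃ b : Y, b = a ^ (p ^ e) := ⟨_, rfl⟩
    rw [← hb]
    have hbK : b ∈ K := by rw [hb]; exact K.pow_mem ha _
    have hbm : b ^ m = 1 := by
      rw [hb, ← pow_mul, ← hnm]; exact pow_orderOf_eq_one a
    have hcopm : m.Coprime p := (Nat.Coprime.symm ((Nat.Prime.coprime_iff_not_dvd hp.out).2 hm))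
    have hAcard : (Nat.card (Subgroup.zpowers b)).Coprime p := by
      rw [Nat.card_zpowers]
      exact Nat.Coprime.coprime_dvd_left (orderOf_dvd_of_pow_eq_one hbm) hcopm
    have hAV : Subgroup.zpowers b ≤ Subgroup.normalizer (V : Set Y) := by
      rw [Subgroup.normalizer_eq_top]; exact le_top
    have hcomm : ⁅V, Subgroup.zpowers b⁆ ≤ (frattini ↥V).map V.subtype := by
      rw [← hΦdef, Subgroup.commutator_le]
      intro v hv c hc
      have hcK : c ∈ K := by
        obtain ⟨k, rfl⟩ := Subgroup.mem_zpowers_iff.1 hc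
        exact K.zpow_mem hbK k
      have h1 := (hKmem c).1 hcK v⁻¹ (V.inv_mem hv)
      have e' : v * c * v⁻¹ * c⁻¹ = v * (c * v⁻¹ * c⁻¹ * v⁻¹⁻¹) * v⁻¹ := by group
      rw [commutatorElement_def, e']
      exact hΦn.conj_mem _ h1 v
    have hcentb := centralizes_of_commutator_le_frattini V (Subgroup.zpowers b) hVp hAcard hAV hcomm
    have hbV : b ∈ V := hcent (hcentb (Subgroup.mem_zpowers b))
    obtain ⟨k, hk⟩ := hVp ⟨b, hbV⟩
    have hk' : b ^ (p ^ k) = 1 := by
      have := congrArg Subtype.val hk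
      simpa using this
    have hdvd : orderOf b ∣ Nat.gcd (p ^ k) m :=
      Nat.dvd_gcd (orderOf_dvd_of_pow_eq_one hk') (orderOf_dvd_of_pow_eq_one hbm)
    have hg1 : Nat.gcd (p ^ k) m = 1 := Nat.Coprime.pow_left k hcopm.symm
    rw [hg1, Nat.dvd_one, orderOf_eq_one_iff] at hdvd
    exact hdvd
  have hKV : K ≤ V := by
    rw [hV]
    exact Cfsg.Agent.helper1.le_pCore hKn hKp
  exact hKV ((hKmem h).2 hh)

end Cfsg.Agent.helper7
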