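import Mathlib
import Cfsg.Prelude.Def_Solvable
import Cfsg.Agent.Lib_helper4_RedE
import Cfsg.Agent.Lib_helper7_HH123
import Cfsg.Agent.Lib_helper1_PGroup
import Cfsg.Agent.Lib_helper1_Core
import Cfsg.Agent.Lib_helper12_Card

set_option autoImplicit false
set_option linter.style.haveILetI false

/-!
# Quadratic action in groups of odd order (helper14)

`quad_in_pCore`: in a finite group of odd order, if `A ≤ N(P)` acts quadratically on the
`p`-subgroup `P` (`p` odd), the image of `A` in `N(P)/C(P)` lies in `O_p(N(P)/C(P))`.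
The proof applies `helper4.Red.section_of_quadratic_not_core` in the holomorph of `P/Φ(P)`.
-/

namespace Cfsg.Agent.helper14.QuadCore

open scoped commutatorElement

section autQuot
variable {P : Type*} [Group P]

/-- automorphisms act on the quotient by a characteristic subgroup -/
def autQuot (N : Subgroup P) [hN : N.Characteristic] : MulAut P →* MulAut (P ⧸ N) where
  toFun α := QuotientGroup.congr N N α (Subgroup.characteristic_iff_map_eq.mp hN α)
  map_one' := by
    ext x
    induction x using QuotientGroup.induction_on with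
    | H x => rfl
  map_mul' α β := by
    ext x
    induction x using QuotientGroup.induction_on with
    | H x => rfl

theorem autQuot_mk (N : Subgroup P) [hN : N.Characteristic] (α : MulAut P) (x : P) :
    autQuot N α (QuotientGroup.mk x) = QuotientGroup.mk (α x) := rfl

end autQuot

variable {G : Type*} [Group G]

/-- the Frattini quotient of `P` -/
abbrev VV (P : Subgroup G) := ↥P ⧸ frattini ↥P

/-- the holomorph of the Frattini quotient -/
abbrev Hol (P : Subgroup G) := VV P ⋊[MonoidHom.id (MulAut (VV P))] MulAut (VV P)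

/-- the action of `N(P)` on `P/Φ(P)` -/
def theta (P : Subgroup G) : ↥(Subgroup.normalizer (P : Set G)) →* MulAut (VV P) :=
  (autQuot (frattini ↥P)).comp P.normalizerMonoidHom

theorem theta_mk (P : Subgroup G) (n : ↥(Subgroup.normalizer (P : Set G))) (u : ↥P) :
    theta P n (QuotientGroup.mk u) = QuotientGroup.mk (P.normalizerMonoidHom n u) := rfl

theorem nmh_coe (P : Subgroup G) (n : ↥(Subgroup.normalizer (P : Set G))) (u : ↥P) :
    ((P.normalizerMonoidHom n u : ↥P) : G) = (n : G) * u * (n : G)⁻¹ := rfl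

/-- `N(P)` mapped into the holomorph -/
def iota (P : Subgroup G) : ↥(Subgroup.normalizer (P : Set G)) →* Hol P :=
  SemidirectProduct.inr.comp (theta P)

/-- the copy of `P/Φ(P)` in the holomorph -/
abbrev Vh (P : Subgroup G) : Subgroup (Hol P) := (SemidirectProduct.inl : VV P →* Hol P).range

/-- the image of `N(P)` in the holomorph -/
abbrev Hh (P : Subgroup G) : Subgroup (Hol P) := (iota P).range

theorem conj_inl (P : Subgroup G) (n : ↥(Subgroup.normalizer (P : Set G))) (v : VV P) :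
    iota P n * SemidirectProduct.inl v * (iota P n)⁻¹ = SemidirectProduct.inl (theta P n v) := by
  show SemidirectProduct.inr (theta P n) * SemidirectProduct.inl v *
    (SemidirectProduct.inr (theta P n))⁻¹ = _
  rw [← map_inv]
  exact (SemidirectProduct.inl_aut (φ := MonoidHom.id _) (theta P n) v).symm

theorem iota_eq_one_iff (P : Subgroup G) (n : ↥(Subgroup.normalizer (P : Set G))) :
    iota P n = 1 ↔ theta P n = 1 := by
  constructor
  · intro h
    have h1 : (SemidirectProduct.inr (theta P n) : Hol P) = SemidirectProduct.inr 1 := by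
      rw [map_one]; exact h
    exact SemidirectProduct.inr_injective h1
  · intro h
    show SemidirectProduct.inr (theta P n) = 1
    rw [h, map_one]

section elem
variable [Finite G] {p : ℕ} [Fact p.Prime]

theorem vv_comm {P : Subgroup G} (hP : IsPGroup p P) (a b : VV P) : a * b = b * a := by
  haveI : IsMulCommutative (↥P ⧸ frattini ↥P) :=
    Subgroup.Normal.quotient_commutative_iff_commutator_le.mpr
      (Cfsg.Agent.helper1.commutator_le_frattini_of_isPGroup hP)
  exact (IsMulCommutative.is_comm).comm a b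

theorem vv_pow {P : Subgroup G} (hP : IsPGroup p P) (a : VV P) : a ^ p = 1 := by
  induction a using QuotientGroup.induction_on with
  | H u =>
    rw [← QuotientGroup.mk_pow]
    exact (QuotientGroup.eq_one_iff _).mpr (Cfsg.Agent.helper1.pow_mem_frattini_of_isPGroup hP u)

theorem elemAb_Vh {P : Subgroup G} (hP : IsPGroup p P) : Cfsg.IsElementaryAbelian p (Vh P) := by
  refine ⟨⟨⟨fun a b => ?_⟩⟩, ?_⟩
  · obtain ⟨a, ⟨v, rfl⟩⟩ := a
    obtain ⟨b, ⟨w, rfl⟩⟩ := b
    apply Subtype.ext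
    show (SemidirectProduct.inl v : Hol P) * SemidirectProduct.inl w
      = SemidirectProduct.inl w * SemidirectProduct.inl v
    rw [← map_mul, ← map_mul, vv_comm hP v w]
  · rintro _ ⟨v, rfl⟩
    rw [← map_pow, vv_pow hP v, map_one]

end elem

theorem normalizes (P : Subgroup G) : Hh P ≤ Subgroup.normalizer ((Vh P : Subgroup (Hol P)) : Set (Hol P)) := by
  haveI : (Vh P).Normal := by
    unfold Vh
    rw [SemidirectProduct.range_inl_eq_ker_rightHom]
    infer_instance
  rw [Subgroup.normalizer_eq_top]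
  exact le_top

theorem faithful (P : Subgroup G) :
    Hh P ⊓ Subgroup.centralizer ((Vh P : Subgroup (Hol P)) : Set (Hol P)) = ⊥ := by
  rw [eq_bot_iff]
  rintro x ⟨⟨n, rfl⟩, hx⟩
  rw [Subgroup.mem_bot]
  have hx' : iota P n ∈ Subgroup.centralizer ((Vh P : Subgroup (Hol P)) : Set (Hol P)) := hx
  rw [Subgroup.mem_centralizer_iff] at hx'
  rw [iota_eq_one_iff]
  ext v
  have h1 := hx' (SemidirectProduct.inl v) ⟨v, rfl⟩
  have h2 : iota P n * SemidirectProduct.inl v * (iota P n)⁻¹ = SemidirectProduct.inl v := by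
    rw [← h1, mul_inv_cancel_right]
  rw [conj_inl] at h2
  exact SemidirectProduct.inl_injective h2

theorem quad_hol (P A : Subgroup G) (hAN : A ≤ Subgroup.normalizer (P : Set G))
    (hquad : ⁅⁅P, A⁆, A⁆ = ⊥) (a : G) (ha : a ∈ A) :
    ⁅⁅Vh P, Subgroup.zpowers (iota P ⟨a, hAN ha⟩)⁆, Subgroup.zpowers (iota P ⟨a, hAN ha⟩)⁆ = ⊥ := by
  rw [Subgroup.commutator_eq_bot_iff_le_centralizer, Subgroup.commutator_le]
  rintro _ ⟨v, rfl⟩ z hz
  obtain ⟨i, rfl⟩ := Subgroup.mem_zpowers_iff.mp hz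
  induction v using QuotientGroup.induction_on with
  | H u =>
    have hb : a ^ i ∈ A := A.zpow_mem ha i
    have hz' : (iota P ⟨a, hAN ha⟩) ^ i = iota P ⟨a ^ i, hAN hb⟩ := by
      rw [← map_zpow]; rfl
    rw [hz']
    -- the commutator as an element of `P`
    have hwP : (u : G) * ((a ^ i) * (u : G)⁻¹ * (a ^ i)⁻¹) ∈ P :=
      P.mul_mem u.2 ((Subgroup.mem_normalizer_iff.mp (hAN hb) _).mp (P.inv_mem u.2))
    have hcomm : ⁅(SemidirectProduct.inl (QuotientGroup.mk u : VV P) : Hol P),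
        iota P ⟨a ^ i, hAN hb⟩⁆
        = SemidirectProduct.inl (QuotientGroup.mk (⟨_, hwP⟩ : ↥P) : VV P) := by
      rw [commutatorElement_def]
      have e1 : (SemidirectProduct.inl (QuotientGroup.mk u : VV P) : Hol P) * iota P ⟨a ^ i, hAN hb⟩ *
          (SemidirectProduct.inl (QuotientGroup.mk u : VV P) : Hol P)⁻¹ * (iota P ⟨a ^ i, hAN hb⟩)⁻¹
          = SemidirectProduct.inl (QuotientGroup.mk u : VV P) *
            (iota P ⟨a ^ i, hAN hb⟩ * SemidirectProduct.inl ((QuotientGroup.mk u : VV P)⁻¹) *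
              (iota P ⟨a ^ i, hAN hb⟩)⁻¹) := by
        rw [map_inv]; group
      rw [e1, conj_inl, ← map_mul]
      congr 1
    rw [hcomm]
    -- it commutes with `iota a`
    rw [Subgroup.mem_centralizer_iff]
    intro h hh
    obtain ⟨j, rfl⟩ := Subgroup.mem_zpowers_iff.mp hh
    have hfix : iota P ⟨a, hAN ha⟩ *
        SemidirectProduct.inl (QuotientGroup.mk (⟨_, hwP⟩ : ↥P) : VV P) *
        (iota P ⟨a, hAN ha⟩)⁻¹ = SemidirectProduct.inl (QuotientGroup.mk (⟨_, hwP⟩ : ↥P) : VV P) := by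
      rw [conj_inl, theta_mk]
      congr 2
      apply Subtype.ext
      rw [nmh_coe]
      show a * ((u : G) * ((a ^ i) * (u : G)⁻¹ * (a ^ i)⁻¹)) * a⁻¹
        = (u : G) * ((a ^ i) * (u : G)⁻¹ * (a ^ i)⁻¹)
      have hw1 : ⁅(u : G), a ^ i⁆ ∈ ⁅P, A⁆ := Subgroup.commutator_mem_commutator u.2 hb
      have hw2 : ⁅⁅(u : G), a ^ i⁆, a⁆ ∈ ⁅⁅P, A⁆, A⁆ := Subgroup.commutator_mem_commutator hw1 ha
      rw [hquad, Subgroup.mem_bot] at hw2
      have hw3 : (u : G) * ((a ^ i) * (u : G)⁻¹ * (a ^ i)⁻¹) = ⁅(u : G), a ^ i⁆ := by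
        rw [commutatorElement_def]; group
      rw [hw3]
      rw [commutatorElement_def] at hw2
      calc a * ⁅(u : G), a ^ i⁆ * a⁻¹
          = (⁅(u : G), a ^ i⁆ * a * (⁅(u : G), a ^ i⁆)⁻¹ * a⁻¹)⁻¹ * ⁅(u : G), a ^ i⁆ := by group
        _ = ⁅(u : G), a ^ i⁆ := by rw [hw2]; group
    have hc : Commute (iota P ⟨a, hAN ha⟩)
        (SemidirectProduct.inl (QuotientGroup.mk (⟨_, hwP⟩ : ↥P) : VV P) : Hol P) := by
      show _ * _ = _ * _
      calc iota P ⟨a, hAN ha⟩ * SemidirectProduct.inl (QuotientGroup.mk (⟨_, hwP⟩ : ↥P) : VV P)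
          = (iota P ⟨a, hAN ha⟩ * SemidirectProduct.inl (QuotientGroup.mk (⟨_, hwP⟩ : ↥P) : VV P) *
              (iota P ⟨a, hAN ha⟩)⁻¹) * iota P ⟨a, hAN ha⟩ := by group
        _ = _ := by rw [hfix]
    exact (hc.zpow_left j).eq

section core
variable [Finite G] {p : ℕ} [Fact p.Prime]

theorem ker_theta_pow {P : Subgroup G} (hP : IsPGroup p P)
    (k : ↥(Subgroup.normalizer (P : Set G))) (hk : theta P k = 1) :
    ∃ j : ℕ, k ^ (p ^ j) ∈
      (Subgroup.centralizer (P : Set G)).subgroupOf (Subgroup.normalizer (P : Set G)) := by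
  have hp : p.Prime := Fact.out
  have hm : orderOf k ≠ 0 := (orderOf_pos k).ne'
  obtain ⟨j, m', hm', hmm⟩ := Nat.exists_eq_pow_mul_and_not_dvd hm p hp.ne_one
  refine ⟨j, ?_⟩
  have hk'1 : (k ^ (p ^ j)) ^ m' = 1 := by
    rw [← pow_mul, ← hmm, pow_orderOf_eq_one]
  have hord : orderOf ((k ^ (p ^ j) : ↥(Subgroup.normalizer (P : Set G))) : G) ∣ m' := by
    apply orderOf_dvd_of_pow_eq_one
    have := congrArg Subtype.val hk'1
    simpa using this
  have hcop : (Nat.card (Subgroup.zpowers ((k ^ (p ^ j) : ↥(Subgroup.normalizer (P : Set G))) : G))).Coprime p := by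
    rw [Nat.card_zpowers]
    apply Nat.Coprime.coprime_dvd_left hord
    exact ((Nat.Prime.coprime_iff_not_dvd hp).mpr hm').symm
  have hAT : Subgroup.zpowers ((k ^ (p ^ j) : ↥(Subgroup.normalizer (P : Set G))) : G)
      ≤ Subgroup.normalizer (P : Set G) := by
    rw [Subgroup.zpowers_le]
    exact (k ^ (p ^ j)).2
  have hΦ : ⁅P, Subgroup.zpowers ((k ^ (p ^ j) : ↥(Subgroup.normalizer (P : Set G))) : G)⁆
      ≤ (frattini ↥P).map P.subtype := by
    rw [Subgroup.commutator_le]
    intro u hu z hz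
    obtain ⟨i, rfl⟩ := Subgroup.mem_zpowers_iff.mp hz
    -- n' := (k^(p^j))^i
    have hn' : theta P ((k ^ (p ^ j)) ^ i) = 1 := by
      rw [map_zpow, map_pow, hk, one_pow, one_zpow]
    have h1 : theta P ((k ^ (p ^ j)) ^ i) (QuotientGroup.mk (⟨u, hu⟩⁻¹ : ↥P))
        = QuotientGroup.mk (⟨u, hu⟩⁻¹ : ↥P) := by
      rw [hn']; rfl
    rw [theta_mk] at h1
    have h2 : ((⟨u, hu⟩⁻¹ : ↥P))⁻¹ * P.normalizerMonoidHom ((k ^ (p ^ j)) ^ i) (⟨u, hu⟩⁻¹ : ↥P)
        ∈ frattini ↥P := QuotientGroup.eq.mp h1.symm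
    refine ⟨_, h2, ?_⟩
    rw [Subgroup.subtype_apply, Subgroup.coe_mul, nmh_coe, commutatorElement_def]
    simp only [Subgroup.coe_inv, inv_inv, Subgroup.coe_zpow, Subgroup.coe_pow]
    group
  have hcent := Cfsg.Agent.helper7.centralizes_of_commutator_le_frattini P _ hP hcop hAT hΦ
  rw [Subgroup.mem_subgroupOf]
  exact hcent (Subgroup.mem_zpowers _)

theorem not_mem_pCore_hol {P : Subgroup G} (hP : IsPGroup p P)
    (a : ↥(Subgroup.normalizer (P : Set G)))
    (ha : (QuotientGroup.mk' ((Subgroup.centralizer (P : Set G)).subgroupOf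
      (Subgroup.normalizer (P : Set G))) a) ∉ Cfsg.pCore p _) :
    (⟨iota P a, ⟨a, rfl⟩⟩ : ↥(Hh P)) ∉ Cfsg.pCore p ↥(Hh P) := by
  intro hmem
  apply ha
  haveI hcn : (Cfsg.pCore p ↥(Hh P)).Normal := Cfsg.Agent.helper1.pCore_normal p
  have hsurj : Function.Surjective (QuotientGroup.mk' ((Subgroup.centralizer (P : Set G)).subgroupOf
      (Subgroup.normalizer (P : Set G)))) := QuotientGroup.mk'_surjective _
  -- the preimage of the core
  have hBn : ((Cfsg.pCore p ↥(Hh P)).comap (iota P).rangeRestrict).Normal := hcn.comap _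
  have hBbar_n : (((Cfsg.pCore p ↥(Hh P)).comap (iota P).rangeRestrict).map
      (QuotientGroup.mk' ((Subgroup.centralizer (P : Set G)).subgroupOf
        (Subgroup.normalizer (P : Set G))))).Normal := hBn.map _ hsurj
  have hBbar_p : IsPGroup p ↥(((Cfsg.pCore p ↥(Hh P)).comap (iota P).rangeRestrict).map
      (QuotientGroup.mk' ((Subgroup.centralizer (P : Set G)).subgroupOf
        (Subgroup.normalizer (P : Set G))))) := by
    rintro ⟨y, b, hb, rfl⟩
    have hb' : (iota P).rangeRestrict b ∈ Cfsg.pCore p ↥(Hh P) := hb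
    obtain ⟨k, hk⟩ := (Cfsg.Agent.helper1.pCore_isPGroup (G := ↥(Hh P)) p) ⟨_, hb'⟩
    have hk1 : ((iota P).rangeRestrict b) ^ (p ^ k) = 1 := by
      have := congrArg Subtype.val hk
      simpa using this
    have hk2 : iota P (b ^ (p ^ k)) = 1 := by
      have := congrArg Subtype.val hk1
      rw [map_pow]
      simpa using this
    rw [iota_eq_one_iff] at hk2
    obtain ⟨j, hj⟩ := ker_theta_pow hP _ hk2
    refine ⟨k + j, ?_⟩
    apply Subtype.ext
    rw [Subgroup.coe_pow, Subgroup.coe_one, ← map_pow, pow_add, pow_mul]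
    exact (QuotientGroup.eq_one_iff _).mpr hj
  have hle := Cfsg.Agent.helper1.le_pCore hBbar_n hBbar_p
  exact hle ⟨a, hmem, rfl⟩

theorem two_dvd_card_SL2 (hp2 : p ≠ 2) :
    2 ∣ Nat.card (Matrix.SpecialLinearGroup (Fin 2) (ZMod p)) := by
  have hp : p.Prime := Fact.out
  rw [Cfsg.Agent.helper12.card_SL2, ZMod.card]
  obtain ⟨k, hk⟩ := hp.odd_of_ne_two hp2
  have h1 : p ^ 2 - 1 = 2 * (2 * k ^ 2 + 2 * k) := by
    have : p ^ 2 = 2 * (2 * k ^ 2 + 2 * k) + 1 := by rw [hk]; ring
    omega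
  rw [h1]
  exact Dvd.dvd.mul_left (Dvd.intro _ rfl) _

/-- In a group of odd order, quadratic action on a `p`-subgroup happens inside `O_p(N(P)/C(P))`. -/
theorem quad_in_pCore (hodd : Odd (Nat.card G)) (hp2 : p ≠ 2) (P A : Subgroup G)
    (hP : IsPGroup p P) (hAN : A ≤ Subgroup.normalizer (P : Set G)) (hquad : ⁅⁅P, A⁆, A⁆ = ⊥) :
    (A.subgroupOf (Subgroup.normalizer (P : Set G))).map
        (QuotientGroup.mk' ((Subgroup.centralizer (P : Set G)).subgroupOf
          (Subgroup.normalizer (P : Set G))))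
      ≤ Cfsg.pCore p _ := by
  rintro _ ⟨a, ha, rfl⟩
  by_contra hnot
  have ha' : (a : G) ∈ A := ha
  haveI : Finite (Hol P) := Finite.of_equiv _ SemidirectProduct.equivProd.symm
  obtain ⟨K, L, hL, hKH, ⟨e⟩⟩ := Cfsg.Agent.helper4.Red.section_of_quadratic_not_core hp2
    (Vh P) (Hh P) (elemAb_Vh hP) (normalizes P) (faithful P) (iota P a) ⟨a, rfl⟩
    (quad_hol P A hAN hquad (a : G) ha') (not_mem_pCore_hol hP a hnot)
  have h1 : Nat.card (Matrix.SpecialLinearGroup (Fin 2) (ZMod p)) ∣ Nat.card ↥K := by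
    rw [← Nat.card_congr e.toEquiv]
    exact Subgroup.card_quotient_dvd_card _
  have h2 : Nat.card ↥K ∣ Nat.card ↥(Hh P) := Subgroup.card_dvd_of_le hKH
  have h3 : Nat.card ↥(Hh P) ∣ Nat.card ↥(Subgroup.normalizer (P : Set G)) :=
    Subgroup.card_range_dvd (iota P)
  have h4 : Nat.card ↥(Subgroup.normalizer (P : Set G)) ∣ Nat.card G :=
    Subgroup.card_subgroup_dvd_card _
  have h5 : 2 ∣ Nat.card G :=
    (two_dvd_card_SL2 hp2).trans (h1.trans (h2.trans (h3.trans h4)))
  rw [← even_iff_two_dvd] at h5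
  exact (Nat.not_even_iff_odd.mpr hodd) h5

end core

end Cfsg.Agent.helper14.QuadCore
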