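import Mathlib
import Cfsg.Agent.Lib_helper7_Coprime

set_option autoImplicit false
set_option linter.style.haveILetI false

namespace Cfsg.Agent.helper19
open scoped commutatorElement
open Cfsg.Agent.helper7

variable {X : Type*} [Group X]

/-- Conjugation by a normalizing element as an endomorphism of the subgroup. -/
def conjP (P : Subgroup X) (a : X)
    (ha : a ∈ Subgroup.normalizer (P : Set X)) : ↥P →* ↥P where
  toFun y := ⟨a * y.1 * a⁻¹, (Subgroup.mem_normalizer_iff.1 ha y.1).1 y.2⟩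
  map_one' := by ext; simp
  map_mul' := by intro y z; ext; simp

/-- Conjugation by a normalizing element as an automorphism of the subgroup. -/
def conjPEquiv (P : Subgroup X) (a : X)
    (ha : a ∈ Subgroup.normalizer (P : Set X)) : ↥P ≃* ↥P where
  toFun := conjP P a ha
  invFun := conjP P a⁻¹ (Subgroup.inv_mem _ ha)
  left_inv := by intro y; ext; simp [conjP, mul_assoc]
  right_inv := by intro y; ext; simp [conjP, mul_assoc]
  map_mul' := by intro y z; exact map_mul _ y z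

theorem le_normalizer_map_characteristic (P : Subgroup X) (C : Subgroup ↥P) [hC : C.Characteristic] :
    Subgroup.normalizer (P : Set X) ≤
      Subgroup.normalizer ((C.map P.subtype : Subgroup X) : Set X) := by
  intro g hg
  have hCe : C.comap (conjPEquiv P g hg).toMonoidHom = C := hC.fixed (conjPEquiv P g hg)
  rw [Subgroup.mem_normalizer_iff]
  intro x
  constructor
  · rintro ⟨y, hy, rfl⟩
    refine ⟨conjPEquiv P g hg y, ?_, rfl⟩
    have : y ∈ C.comap (conjPEquiv P g hg).toMonoidHom := by rw [hCe]; exact hy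
    exact this
  · rintro ⟨y, hy, hyx⟩
    refine ⟨(conjPEquiv P g hg).symm y, ?_, ?_⟩
    · have : (conjPEquiv P g hg).symm y ∈ C.comap (conjPEquiv P g hg).toMonoidHom := by
        show (conjPEquiv P g hg) ((conjPEquiv P g hg).symm y) ∈ C
        rw [MulEquiv.apply_symm_apply]
        exact hy
      rwa [hCe] at this
    · show g⁻¹ * y.1 * g⁻¹⁻¹ = x
      have : y.1 = g * x * g⁻¹ := hyx
      rw [this]
      group

/-- If `[P,A,A] = 1` for a coprime action on a `p`-group then `[P,A] = 1`. -/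
theorem coprime_comm_eq_bot [Finite X] {p : ℕ} [Fact p.Prime] (P A : Subgroup X)
    (hP : IsPGroup p P) (hAP : A ≤ Subgroup.normalizer (P : Set X))
    (hAp : (Nat.card A).Coprime p) (h : ⁅⁅P, A⁆, A⁆ = ⊥) : ⁅P, A⁆ = ⊥ := by
  rw [Subgroup.commutator_eq_bot_iff_le_centralizer]
  intro x hx
  rw [Subgroup.mem_centralizer_iff]
  intro a ha
  have hcent : ⁅P, A⁆ ≤ Subgroup.centralizer (A : Set X) :=
    Subgroup.commutator_eq_bot_iff_le_centralizer.1 h
  have hmem : ∀ b ∈ A, x⁻¹ * b * x * b⁻¹ ∈ ⁅P, A⁆ := fun b hb => by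
    have := Subgroup.commutator_mem_commutator (P.inv_mem hx) hb
    rw [commutatorElement_def, inv_inv] at this
    exact this
  have hPA : ⁅P, A⁆ ≤ P := commutator_le_of_normalizer hAP
  let f : ↥A →* ↥P :=
    { toFun := fun b => ⟨x⁻¹ * b.1 * x * b.1⁻¹, hPA (hmem b.1 b.2)⟩
      map_one' := by ext; simp
      map_mul' := by
        intro b c
        ext
        have hc := hcent (hmem c.1 c.2)
        rw [Subgroup.mem_centralizer_iff] at hc
        have h1 := hc b.1 b.2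
        show x⁻¹ * (b.1 * c.1) * x * (b.1 * c.1)⁻¹ =
          (x⁻¹ * b.1 * x * b.1⁻¹) * (x⁻¹ * c.1 * x * c.1⁻¹)
        have h2 : (x⁻¹ * c.1 * x * c.1⁻¹) * b.1⁻¹ = b.1⁻¹ * (x⁻¹ * c.1 * x * c.1⁻¹) := by
          calc (x⁻¹ * c.1 * x * c.1⁻¹) * b.1⁻¹
              = b.1⁻¹ * (b.1 * (x⁻¹ * c.1 * x * c.1⁻¹)) * b.1⁻¹ := by group
            _ = b.1⁻¹ * ((x⁻¹ * c.1 * x * c.1⁻¹) * b.1) * b.1⁻¹ := by rw [h1]
            _ = b.1⁻¹ * (x⁻¹ * c.1 * x * c.1⁻¹) := by group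
        calc x⁻¹ * (b.1 * c.1) * x * (b.1 * c.1)⁻¹
            = x⁻¹ * b.1 * x * ((x⁻¹ * c.1 * x * c.1⁻¹) * b.1⁻¹) := by group
          _ = x⁻¹ * b.1 * x * (b.1⁻¹ * (x⁻¹ * c.1 * x * c.1⁻¹)) := by rw [h2]
          _ = (x⁻¹ * b.1 * x * b.1⁻¹) * (x⁻¹ * c.1 * x * c.1⁻¹) := by group }
  have hf1 : f ⟨a, ha⟩ = 1 := by
    have h1 : orderOf (f ⟨a, ha⟩) ∣ Nat.card A :=
      dvd_trans (orderOf_map_dvd f _) (orderOf_dvd_natCard _)
    obtain ⟨k, hk⟩ := hP (f ⟨a, ha⟩)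
    have h2 : orderOf (f ⟨a, ha⟩) ∣ p ^ k := orderOf_dvd_of_pow_eq_one hk
    have h3 : orderOf (f ⟨a, ha⟩) = 1 :=
      Nat.eq_one_of_dvd_coprimes (Nat.Coprime.pow_right k hAp) h1 h2
    exact orderOf_eq_one_iff.1 h3
  have hf2 : x⁻¹ * a * x * a⁻¹ = 1 := congrArg Subtype.val hf1
  calc a * x = x * (x⁻¹ * a * x * a⁻¹) * a := by group
    _ = x * a := by rw [hf2, mul_one]

/-- Triangular numbers. -/
def tri : ℕ → ℕ
  | 0 => 0
  | n + 1 => tri n + n

theorem two_mul_tri (n : ℕ) : 2 * tri n = n * (n - 1) := by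
  induction n with
  | zero => rfl
  | succ n ih =>
    show 2 * (tri n + n) = (n + 1) * (n + 1 - 1)
    rw [mul_add, ih, Nat.add_sub_cancel]
    cases n with
    | zero => rfl
    | succ m => rw [Nat.add_sub_cancel]; ring

theorem dvd_tri_of_odd_prime {p : ℕ} (hp : p.Prime) (hp2 : p ≠ 2) : p ∣ tri p := by
  have h1 : p ∣ 2 * tri p := by rw [two_mul_tri]; exact dvd_mul_right _ _
  have hcop : Nat.Coprime p 2 := (Nat.coprime_primes hp Nat.prime_two).2 hp2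
  exact hcop.dvd_of_dvd_mul_left h1

theorem pow_mul_comm_of_central (x y : X) (hcx : Commute ⁅x, y⁆ x) (n : ℕ) :
    x ^ n * y = ⁅x, y⁆ ^ n * y * x ^ n := by
  induction n with
  | zero => simp
  | succ n ih =>
    have hxy : x * y = ⁅x, y⁆ * y * x := by rw [commutatorElement_def]; group
    calc x ^ (n + 1) * y = x ^ n * (x * y) := by rw [pow_succ]; group
      _ = x ^ n * (⁅x, y⁆ * y * x) := by rw [hxy]
      _ = (x ^ n * ⁅x, y⁆) * y * x := by group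
      _ = (⁅x, y⁆ * x ^ n) * y * x := by rw [(hcx.pow_right n).eq]
      _ = ⁅x, y⁆ * (x ^ n * y) * x := by group
      _ = ⁅x, y⁆ * (⁅x, y⁆ ^ n * y * x ^ n) * x := by rw [ih]
      _ = ⁅x, y⁆ ^ (n + 1) * y * x ^ (n + 1) := by rw [pow_succ' ⁅x, y⁆, pow_succ x]; group

theorem mul_pow_of_central (x y : X) (hcx : Commute ⁅x, y⁆ x) (hcy : Commute ⁅x, y⁆ y) (n : ℕ) :
    (y * x) ^ n = y ^ n * x ^ n * ⁅x, y⁆ ^ tri n := by
  induction n with
  | zero => simp [tri]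
  | succ n ih =>
    have h1 := pow_mul_comm_of_central x y hcx n
    have hc1 : Commute (⁅x, y⁆ ^ tri n) y := hcy.pow_left _
    have hc2 : Commute (⁅x, y⁆ ^ tri n) x := hcx.pow_left _
    have hc3 : Commute (⁅x, y⁆ ^ n) y := hcy.pow_left _
    have hc4 : Commute (⁅x, y⁆ ^ n) (y ^ n) := (hcy.pow_left _).pow_right _
    calc (y * x) ^ (n + 1) = (y * x) ^ n * (y * x) := pow_succ _ _
      _ = y ^ n * x ^ n * ⁅x, y⁆ ^ tri n * (y * x) := by rw [ih]
      _ = y ^ n * x ^ n * (⁅x, y⁆ ^ tri n * y) * x := by group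
      _ = y ^ n * x ^ n * (y * ⁅x, y⁆ ^ tri n) * x := by rw [hc1.eq]
      _ = y ^ n * (x ^ n * y) * (⁅x, y⁆ ^ tri n * x) := by group
      _ = y ^ n * (⁅x, y⁆ ^ n * y * x ^ n) * (x * ⁅x, y⁆ ^ tri n) := by rw [h1, hc2.eq]
      _ = (y ^ n * ⁅x, y⁆ ^ n) * y * x ^ n * x * ⁅x, y⁆ ^ tri n := by group
      _ = (⁅x, y⁆ ^ n * y ^ n) * y * x ^ n * x * ⁅x, y⁆ ^ tri n := by rw [hc4.eq]
      _ = ⁅x, y⁆ ^ n * (y ^ (n + 1) * x ^ (n + 1)) * ⁅x, y⁆ ^ tri n := by
          rw [pow_succ y, pow_succ x]; group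
      _ = (y ^ (n + 1) * x ^ (n + 1)) * ⁅x, y⁆ ^ n * ⁅x, y⁆ ^ tri n := by
          have : Commute (⁅x, y⁆ ^ n) (y ^ (n + 1) * x ^ (n + 1)) :=
            ((hcy.pow_left _).pow_right _).mul_right ((hcx.pow_left _).pow_right _)
          rw [this.eq]
      _ = y ^ (n + 1) * x ^ (n + 1) * ⁅x, y⁆ ^ tri (n + 1) := by
          show _ = y ^ (n + 1) * x ^ (n + 1) * ⁅x, y⁆ ^ (tri n + n)
          rw [pow_add ⁅x, y⁆ (tri n) n, mul_assoc (y ^ (n + 1) * x ^ (n + 1))]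
          congr 1
          exact ((Commute.refl ⁅x, y⁆).pow_left n |>.pow_right (tri n)).eq


/-- Averaging: a fixed point modulo `N` lying in `[P,A]N` lies in `N`, for coprime action with
`P/N` abelian. -/
theorem coprime_fixed_mem {X : Type*} [Group X] [Finite X] {p : ℕ} [Fact p.Prime]
    (P N A : Subgroup X) (hP : IsPGroup p P) (hNP : N ≤ P)
    (hPN : P ≤ Subgroup.normalizer (N : Set X))
    (hAP : A ≤ Subgroup.normalizer (P : Set X)) (hAN : A ≤ Subgroup.normalizer (N : Set X))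
    (hcomm : ⁅P, P⁆ ≤ N) (hAp : (Nat.card A).Coprime p) (x : X) (hxP : x ∈ P)
    (hx : x ∈ ⁅P, A⁆ ⊔ N) (hfix : ∀ a ∈ A, a * x * a⁻¹ * x⁻¹ ∈ N) : x ∈ N := by
  classical
  haveI : Fintype ↥A := Fintype.ofFinite _
  haveI hN'n : (N.subgroupOf P).Normal := Subgroup.normal_subgroupOf_of_le_normalizer hPN
  have hc : ∀ a b : ↥P ⧸ N.subgroupOf P, a * b = b * a := by
    intro a b
    induction a using QuotientGroup.induction_on with | H a => ?_
    induction b using QuotientGroup.induction_on with | H b => ?_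
    rw [← QuotientGroup.mk_mul, ← QuotientGroup.mk_mul, QuotientGroup.eq]
    show ((a * b)⁻¹ * (b * a) : ↥P).1 ∈ N
    apply hcomm
    have : ((a * b)⁻¹ * (b * a) : ↥P).1 = ⁅(b⁻¹ : ↥P).1, (a⁻¹ : ↥P).1⁆ := by
      rw [commutatorElement_def]
      simp only [Subgroup.coe_mul, Subgroup.coe_inv]
      group
    rw [this]
    exact Subgroup.commutator_mem_commutator (P.inv_mem b.2) (P.inv_mem a.2)
  letI : CommGroup (↥P ⧸ N.subgroupOf P) :=
    { (inferInstance : Group (↥P ⧸ N.subgroupOf P)) with mul_comm := hc }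
  let ψ : ↥A → (↥P →* ↥P ⧸ N.subgroupOf P) := fun a =>
    (QuotientGroup.mk' (N.subgroupOf P)).comp (conjP P a.1 (hAP a.2))
  let θ : ↥P →* ↥P ⧸ N.subgroupOf P := ∏ a : ↥A, ψ a
  have hθ : ∀ y : ↥P, θ y = ∏ a : ↥A, ψ a y := fun y => MonoidHom.finsetProd_apply _ _ _
  -- invariance
  have hF1 : ∀ (b : ↥A) (y : ↥P), θ (conjP P b.1 (hAP b.2) y) = θ y := by
    intro b y
    rw [hθ, hθ]
    rw [← Equiv.prod_comp (Equiv.mulRight b) (fun a => ψ a y)]
    apply Finset.prod_congr rfl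
    intro a _
    show (QuotientGroup.mk' (N.subgroupOf P)) _ = (QuotientGroup.mk' (N.subgroupOf P)) _
    congr 1
    ext
    simp [conjP, mul_assoc]
  have hF2 : ∀ y : ↥P, y.1 ∈ N → θ y = 1 := by
    intro y hy
    rw [hθ]
    apply Finset.prod_eq_one
    intro a _
    show (QuotientGroup.mk' (N.subgroupOf P)) _ = 1
    rw [QuotientGroup.mk'_apply, QuotientGroup.eq_one_iff]
    show a.1 * y.1 * a.1⁻¹ ∈ N
    exact (Subgroup.mem_normalizer_iff.1 (hAN a.2) y.1).1 hy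
  have hF3 : ∀ (y : ↥P) (a : ↥A), ∀ h : ⁅y.1, a.1⁆ ∈ P, θ ⟨⁅y.1, a.1⁆, h⟩ = 1 := by
    intro y a h
    have e : (⟨⁅y.1, a.1⁆, h⟩ : ↥P) = y * conjP P a.1 (hAP a.2) y⁻¹ := by
      ext
      simp [conjP, commutatorElement_def, mul_assoc]
    rw [e, map_mul, hF1, map_inv, mul_inv_cancel]
  -- the kernel contains [P,A] ⊔ N
  have hker : ⁅P, A⁆ ⊔ N ≤ (θ.ker).map P.subtype := by
    apply sup_le
    · rw [Subgroup.commutator_le]
      intro y hy a ha
      have h : ⁅y, a⁆ ∈ P := by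
        rw [commutatorElement_def]
        have h1 : a * y⁻¹ * a⁻¹ ∈ P := (Subgroup.mem_normalizer_iff.1 (hAP ha) y⁻¹).1 (P.inv_mem hy)
        have : y * a * y⁻¹ * a⁻¹ = y * (a * y⁻¹ * a⁻¹) := by group
        rw [this]
        exact P.mul_mem hy h1
      exact ⟨⟨⁅y, a⁆, h⟩, hF3 ⟨y, hy⟩ ⟨a, ha⟩ h, rfl⟩
    · intro y hy
      exact ⟨⟨y, hNP hy⟩, hF2 ⟨y, hNP hy⟩ hy, rfl⟩
  obtain ⟨x', hx'ker, hx'x⟩ := hker hx
  have hxx : x' = ⟨x, hxP⟩ := Subtype.ext hx'x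
  rw [hxx] at hx'ker
  have hθx : θ ⟨x, hxP⟩ = 1 := hx'ker
  -- θ x = (mk x)^|A|
  have hF4 : θ ⟨x, hxP⟩ = (QuotientGroup.mk' (N.subgroupOf P) ⟨x, hxP⟩) ^ (Fintype.card ↥A) := by
    rw [hθ]
    have : ∀ a : ↥A, ψ a ⟨x, hxP⟩ = QuotientGroup.mk' (N.subgroupOf P) ⟨x, hxP⟩ := by
      intro a
      show (QuotientGroup.mk' (N.subgroupOf P)) _ = (QuotientGroup.mk' (N.subgroupOf P)) _
      rw [← mul_inv_eq_one, ← map_inv, ← map_mul, QuotientGroup.mk'_apply,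
        QuotientGroup.eq_one_iff]
      show a.1 * x * a.1⁻¹ * x⁻¹ ∈ N
      exact hfix a.1 a.2
    rw [Finset.prod_congr rfl (fun a _ => this a), Finset.prod_const, Finset.card_univ]
  rw [hF4] at hθx
  have hQ : IsPGroup p (↥P ⧸ N.subgroupOf P) := hP.to_quotient _
  obtain ⟨k, hk⟩ := hQ (QuotientGroup.mk' (N.subgroupOf P) ⟨x, hxP⟩)
  have h1 : orderOf (QuotientGroup.mk' (N.subgroupOf P) ⟨x, hxP⟩) ∣ Fintype.card ↥A :=
    orderOf_dvd_of_pow_eq_one hθx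
  have h2 : orderOf (QuotientGroup.mk' (N.subgroupOf P) ⟨x, hxP⟩) ∣ p ^ k :=
    orderOf_dvd_of_pow_eq_one hk
  have h3 : (Fintype.card ↥A).Coprime (p ^ k) := by
    rw [← Nat.card_eq_fintype_card]
    exact Nat.Coprime.pow_right k hAp
  have h4 : orderOf (QuotientGroup.mk' (N.subgroupOf P) ⟨x, hxP⟩) = 1 :=
    Nat.eq_one_of_dvd_coprimes h3 h1 h2
  rw [orderOf_eq_one_iff, QuotientGroup.mk'_apply, QuotientGroup.eq_one_iff] at h4
  exact h4

end Cfsg.Agent.helper19
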