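import Mathlib

set_option autoImplicit false
open scoped commutatorElement

namespace Cfsg.Agent.helper19

variable {G : Type*} [Group G]

/-- A nontrivial normal subgroup of a finite `p`-group meets the centre nontrivially. -/
theorem inf_center_ne_bot_of_normal [Finite G] {p : ℕ} [Fact p.Prime] (hG : IsPGroup p G)
    (N : Subgroup G) [N.Normal] (hN : N ≠ ⊥) : N ⊓ Subgroup.center G ≠ ⊥ := by
  have hp : p.Prime := Fact.out
  let _ : MulAction G ↥N := MulAction.compHom ↥N (MulAut.conjNormal (H := N))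
  have hsmul : ∀ (g : G) (n : N), ((g • n : N) : G) = g * n * g⁻¹ :=
    fun g n => MulAut.conjNormal_apply g n
  have h1 := hG.card_modEq_card_fixedPoints ↥N
  have hNnt : Nontrivial ↥N := (Subgroup.nontrivial_iff_ne_bot N).2 hN
  obtain ⟨k, hk⟩ := IsPGroup.iff_card.1 (hG.to_subgroup N)
  have hk0 : k ≠ 0 := by
    intro h0
    rw [h0, pow_zero] at hk
    exact not_subsingleton ↥N (Nat.card_eq_one_iff_unique.1 hk).1
  have hdvd : p ∣ Nat.card ↥N := by rw [hk]; exact dvd_pow_self p hk0
  have h2 : p ∣ Nat.card (MulAction.fixedPoints G ↥N) := by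
    rw [← Nat.modEq_zero_iff_dvd] at hdvd ⊢
    exact h1.symm.trans hdvd
  intro hbot
  have h3 : MulAction.fixedPoints G ↥N ⊆ {1} := by
    intro n hn
    rw [MulAction.mem_fixedPoints] at hn
    have hn' : (n : G) ∈ N ⊓ Subgroup.center G := by
      refine Subgroup.mem_inf.2 ⟨n.2, ?_⟩
      rw [Subgroup.mem_center_iff]
      intro g
      have := hsmul g n
      rw [hn g] at this
      calc g * (n : G) = g * n * g⁻¹ * g := by group
        _ = n * g := by rw [← this]
    rw [hbot, Subgroup.mem_bot] at hn'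
    exact Subtype.ext hn'
  have h4 : Nat.card (MulAction.fixedPoints G ↥N) ≤ 1 := by
    have := Nat.card_mono (Set.finite_singleton (1 : ↥N)) h3
    simpa using this
  have h5 : (1 : ↥N) ∈ MulAction.fixedPoints G ↥N := by
    rw [MulAction.mem_fixedPoints]
    intro g
    apply Subtype.ext
    rw [hsmul]; simp
  have h6 : 0 < Nat.card (MulAction.fixedPoints G ↥N) := by
    have : Nonempty (MulAction.fixedPoints G ↥N) := ⟨⟨1, h5⟩⟩
    exact Nat.card_pos
  have h7 : Nat.card (MulAction.fixedPoints G ↥N) = 1 := by omega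
  rw [h7] at h2
  exact hp.one_lt.ne' (Nat.dvd_one.1 h2)

/-- A normal subgroup of order `p` of a finite `p`-group is central. -/
theorem le_center_of_normal_of_card_eq [Finite G] {p : ℕ} [Fact p.Prime] (hG : IsPGroup p G)
    (N : Subgroup G) [N.Normal] (hN : Nat.card N = p) : N ≤ Subgroup.center G := by
  have hp : p.Prime := Fact.out
  have hne : N ≠ ⊥ := by
    intro h
    rw [h, Subgroup.card_bot] at hN
    exact hp.one_lt.ne hN
  have h1 := inf_center_ne_bot_of_normal hG N hne
  have h2 : Nat.card ↥(N ⊓ Subgroup.center G) ∣ p := hN ▸ Subgroup.card_dvd_of_le inf_le_left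
  rcases (Nat.dvd_prime hp).1 h2 with h | h
  · exact absurd (Subgroup.card_eq_one.1 h) h1
  · have : N ⊓ Subgroup.center G = N :=
      Subgroup.eq_of_le_of_card_ge inf_le_left (by rw [h, hN])
    rw [← this]; exact inf_le_right


/-- The commutator map `b ↦ [a, b]` from `B` to a subgroup `Z` commuting with `B`. -/
def commHomRight {B Z : Subgroup G} (a : G) (h : ∀ b ∈ B, ⁅a, b⁆ ∈ Z)
    (hZB : ∀ z ∈ Z, ∀ b ∈ B, z * b = b * z) : ↥B →* ↥Z where
  toFun b := ⟨⁅a, (b : G)⁆, h b b.2⟩
  map_one' := by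
    apply Subtype.ext
    simp
  map_mul' b b' := by
    apply Subtype.ext
    show ⁅a, (b : G) * (b' : G)⁆ = ⁅a, (b : G)⁆ * ⁅a, (b' : G)⁆
    have hz := hZB _ (h b' b'.2) b b.2
    have e : ⁅a, (b : G) * (b' : G)⁆ = ⁅a, (b : G)⁆ * ((b : G) * ⁅a, (b' : G)⁆ * (b : G)⁻¹) := by
      simp only [commutatorElement_def]; group
    rw [e, ← hz, mul_inv_cancel_right]

theorem card_inf_centralizer_singleton [Finite G] {p : ℕ} [Fact p.Prime] {A B Z : Subgroup G}
    (hcomm : ∀ a ∈ A, ∀ b ∈ B, ⁅a, b⁆ ∈ Z) (hZB : ∀ z ∈ Z, ∀ b ∈ B, z * b = b * z)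
    (hZcard : Nat.card Z = p) {a : G} (ha : a ∈ A)
    (hna : a ∉ Subgroup.centralizer (B : Set G)) :
    Nat.card ↥(B ⊓ Subgroup.centralizer {a}) * p = Nat.card B := by
  have hp : p.Prime := Fact.out
  set ψ := commHomRight (B := B) (Z := Z) a (hcomm a ha) hZB with hψ
  have hker : ψ.ker = (B ⊓ Subgroup.centralizer {a}).subgroupOf B := by
    ext b
    rw [MonoidHom.mem_ker, Subgroup.mem_subgroupOf, Subgroup.mem_inf,
      Subgroup.mem_centralizer_singleton_iff]
    constructor
    · intro hb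
      have : ⁅a, (b : G)⁆ = 1 := congrArg Subtype.val hb
      exact ⟨b.2, (commutatorElement_eq_one_iff_mul_comm.1 this).symm⟩
    · rintro ⟨_, hb⟩
      apply Subtype.ext
      exact commutatorElement_eq_one_iff_mul_comm.2 hb.symm
  have hcardker : Nat.card ψ.ker = Nat.card ↥(B ⊓ Subgroup.centralizer {a}) := by
    rw [hker]
    exact Nat.card_congr (Subgroup.subgroupOfEquivOfLe inf_le_left).toEquiv
  have hrange : Nat.card ψ.range = p := by
    have h1 : Nat.card ψ.range ∣ p := hZcard ▸ Subgroup.card_subgroup_dvd_card ψ.range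
    rcases (Nat.dvd_prime hp).1 h1 with h | h
    · exfalso
      apply hna
      rw [Subgroup.mem_centralizer_iff]
      intro b hb
      have h2 : ψ ⟨b, hb⟩ ∈ ψ.range := ⟨⟨b, hb⟩, rfl⟩
      rw [Subgroup.card_eq_one.1 h, Subgroup.mem_bot] at h2
      have : ⁅a, b⁆ = 1 := congrArg Subtype.val h2
      exact (commutatorElement_eq_one_iff_mul_comm.1 this).symm
    · exact h
  have h1 := Subgroup.card_mul_index ψ.ker
  rw [Subgroup.index_ker, hcardker, hrange] at h1
  exact h1

/-- Double counting of commuting pairs. -/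
theorem sum_card_centralizer_comm [Finite G] (A B : Subgroup G) [Fintype A] [Fintype B] :
    ∑ a : A, Nat.card ↥(B ⊓ Subgroup.centralizer {(a : G)}) =
      ∑ b : B, Nat.card ↥(A ⊓ Subgroup.centralizer {(b : G)}) := by
  classical
  have key : ∀ (A B : Subgroup G) [Fintype A] [Fintype B] (a : A),
      Nat.card ↥(B ⊓ Subgroup.centralizer {(a : G)}) =
        ∑ b : B, if (a : G) * (b : G) = (b : G) * (a : G) then 1 else 0 := by
    intro A B _ _ a
    have : Fintype ↥(B ⊓ Subgroup.centralizer {(a : G)}) := Fintype.ofFinite _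
    rw [Finset.sum_boole, Nat.cast_id, Nat.card_eq_fintype_card, ← Fintype.card_subtype]
    apply Fintype.card_congr
    refine ⟨fun x => ⟨⟨x.1, (Subgroup.mem_inf.1 x.2).1⟩, ?_⟩,
      fun y => ⟨y.1.1, Subgroup.mem_inf.2 ⟨y.1.2, ?_⟩⟩, ?_, ?_⟩
    · have := (Subgroup.mem_inf.1 x.2).2
      rw [Subgroup.mem_centralizer_singleton_iff] at this
      exact this.symm
    · rw [Subgroup.mem_centralizer_singleton_iff]
      exact y.2.symm
    · intro x; rfl
    · intro y; rfl
  simp_rw [key A B, key B A]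
  rw [Finset.sum_comm]
  apply Finset.sum_congr rfl
  intro b _
  apply Finset.sum_congr rfl
  intro a _
  by_cases h : (a : G) * (b : G) = (b : G) * (a : G)
  · rw [if_pos h, if_pos h.symm]
  · rw [if_neg h, if_neg (fun h' => h h'.symm)]


theorem card_mul_relIndex_of_le [Finite G] {H K : Subgroup G} (h : H ≤ K) :
    Nat.card H * H.relIndex K = Nat.card K := by
  have h1 := Subgroup.card_mul_index (H.subgroupOf K)
  rw [Nat.card_congr (Subgroup.subgroupOfEquivOfLe h).toEquiv] at h1
  exact h1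

/-- `p * Σ_a |C_B(a)|` in terms of `|C_A(B)|`. -/
theorem mul_sum_card_centralizer [Finite G] {p : ℕ} [Fact p.Prime] {A B Z : Subgroup G}
    [Fintype A]
    (hcomm : ∀ a ∈ A, ∀ b ∈ B, ⁅a, b⁆ ∈ Z) (hZB : ∀ z ∈ Z, ∀ b ∈ B, z * b = b * z)
    (hZcard : Nat.card Z = p) :
    ∃ d : ℕ, Nat.card ↥(A ⊓ Subgroup.centralizer (B : Set G)) + d = Nat.card A ∧
      p * ∑ a : A, Nat.card ↥(B ⊓ Subgroup.centralizer {(a : G)}) =
        Nat.card ↥(A ⊓ Subgroup.centralizer (B : Set G)) * (p * Nat.card B) + d * Nat.card B := by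
  classical
  have h1 : ∀ a : A, p * Nat.card ↥(B ⊓ Subgroup.centralizer {(a : G)}) =
      if (a : G) ∈ Subgroup.centralizer (B : Set G) then p * Nat.card B else Nat.card B := by
    intro a
    by_cases ha : (a : G) ∈ Subgroup.centralizer (B : Set G)
    · rw [if_pos ha]
      have : B ⊓ Subgroup.centralizer {(a : G)} = B := by
        apply inf_eq_left.2
        intro b hb
        rw [Subgroup.mem_centralizer_singleton_iff]
        exact ((Subgroup.mem_centralizer_iff.1 ha) b hb)
      rw [this]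
    · rw [if_neg ha, mul_comm]
      exact card_inf_centralizer_singleton hcomm hZB hZcard a.2 ha
  rw [Finset.mul_sum]
  simp_rw [h1]
  rw [Finset.sum_ite, Finset.sum_const, Finset.sum_const, smul_eq_mul, smul_eq_mul]
  have h2 : (Finset.univ.filter fun a : A => (a : G) ∈ Subgroup.centralizer (B : Set G)).card =
      Nat.card ↥(A ⊓ Subgroup.centralizer (B : Set G)) := by
    have : Fintype ↥(A ⊓ Subgroup.centralizer (B : Set G)) := Fintype.ofFinite _
    rw [Nat.card_eq_fintype_card, ← Fintype.card_subtype]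
    apply Fintype.card_congr
    refine ⟨fun y => ⟨y.1.1, Subgroup.mem_inf.2 ⟨y.1.2, y.2⟩⟩,
      fun x => ⟨⟨x.1, (Subgroup.mem_inf.1 x.2).1⟩, (Subgroup.mem_inf.1 x.2).2⟩, ?_, ?_⟩
    · intro y; rfl
    · intro x; rfl
  refine ⟨(Finset.univ.filter fun a : A => ¬ (a : G) ∈ Subgroup.centralizer (B : Set G)).card,
    ?_, ?_⟩
  · rw [← h2, Nat.card_eq_fintype_card, ← Finset.card_univ]
    exact Finset.card_filter_add_card_filter_not _
  · rw [h2]

/-- Symmetry of the index of centralizers for a pairing into a central subgroup of order `p`. -/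
theorem relIndex_centralizer_eq [Finite G] {p : ℕ} [Fact p.Prime] (hG : IsPGroup p G)
    (A B : Subgroup G) (hAB : ⁅A, B⁆ ≤ A ⊓ B) (hcard : Nat.card ↥⁅A, B⁆ ≤ p) :
    (A ⊓ Subgroup.centralizer (B : Set G)).relIndex A =
      (B ⊓ Subgroup.centralizer (A : Set G)).relIndex B := by
  classical
  have hp : p.Prime := Fact.out
  set Z := ⁅A, B⁆ with hZdef
  by_cases hZ : Z = ⊥
  · have h1 : A ≤ Subgroup.centralizer (B : Set G) :=
      Subgroup.commutator_eq_bot_iff_le_centralizer.1 hZ
    have h2 : B ≤ Subgroup.centralizer (A : Set G) := Subgroup.le_centralizer_iff.1 h1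
    rw [Subgroup.relIndex_eq_one.2 (le_inf le_rfl h1), Subgroup.relIndex_eq_one.2 (le_inf le_rfl h2)]
  -- `|Z| = p`
  have hZcard : Nat.card Z = p := by
    obtain ⟨k, hk⟩ := IsPGroup.iff_card.1 (hG.to_subgroup Z)
    have hk0 : k ≠ 0 := by
      intro h0
      rw [h0, pow_zero] at hk
      exact hZ (Subgroup.card_eq_one.1 hk)
    have hk1 : k ≤ 1 := by
      rw [hk] at hcard
      by_contra h
      push Not at h
      have : p ^ 2 ≤ p ^ k := Nat.pow_le_pow_right hp.pos h
      have := hp.one_lt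
      nlinarith
    have : k = 1 := by omega
    rw [hk, this, pow_one]
  have hcommAB : ∀ a ∈ A, ∀ b ∈ B, ⁅a, b⁆ ∈ Z := fun a ha b hb =>
    Subgroup.commutator_mem_commutator ha hb
  -- `A` and `B` normalize `Z`
  have hnormA : ∀ a ∈ A, ∀ z ∈ Z, a * z * a⁻¹ ∈ Z := by
    intro a ha
    have : Z ≤ Z.comap (MulAut.conj a).toMonoidHom := by
      rw [hZdef, Subgroup.commutator_le]
      intro a' ha' b hb
      rw [Subgroup.mem_comap]
      have e : (MulAut.conj a).toMonoidHom ⁅a', b⁆ = ⁅a * a', b⁆ * ⁅a, b⁆⁻¹ := by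
        simp only [MulEquiv.coe_toMonoidHom, MulAut.conj_apply, commutatorElement_def]; group
      rw [e]
      exact Z.mul_mem (hcommAB _ (A.mul_mem ha ha') b hb) (Z.inv_mem (hcommAB a ha b hb))
    intro z hz
    have := this hz
    rwa [Subgroup.mem_comap] at this
  have hnormB : ∀ b ∈ B, ∀ z ∈ Z, b * z * b⁻¹ ∈ Z := by
    intro b hb
    have : Z ≤ Z.comap (MulAut.conj b).toMonoidHom := by
      rw [hZdef, Subgroup.commutator_le]
      intro a ha b' hb'
      rw [Subgroup.mem_comap]
      have e : (MulAut.conj b).toMonoidHom ⁅a, b'⁆ = ⁅a, b⁆⁻¹ * ⁅a, b * b'⁆ := by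
        simp only [MulEquiv.coe_toMonoidHom, MulAut.conj_apply, commutatorElement_def]; group
      rw [e]
      exact Z.mul_mem (Z.inv_mem (hcommAB a ha b hb)) (hcommAB a ha _ (B.mul_mem hb hb'))
    intro z hz
    have := this hz
    rwa [Subgroup.mem_comap] at this
  -- centrality
  have central : ∀ (C : Subgroup G), Z ≤ C → (∀ c ∈ C, ∀ z ∈ Z, c * z * c⁻¹ ∈ Z) →
      ∀ z ∈ Z, ∀ c ∈ C, z * c = c * z := by
    intro C hZC hn z hz c hc
    have hnorm : (Z.subgroupOf C).Normal := by
      constructor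
      intro n hn' g
      rw [Subgroup.mem_subgroupOf] at hn' ⊢
      exact hn g g.2 n hn'
    have hc1 : Nat.card (Z.subgroupOf C) = p := by
      rw [Nat.card_congr (Subgroup.subgroupOfEquivOfLe hZC).toEquiv]; exact hZcard
    have := le_center_of_normal_of_card_eq (hG.to_subgroup C) (Z.subgroupOf C) hc1
    have hz' : (⟨z, hZC hz⟩ : C) ∈ Z.subgroupOf C := by
      rw [Subgroup.mem_subgroupOf]; exact hz
    have h3 := Subgroup.mem_center_iff.1 (this hz') ⟨c, hc⟩
    exact (congrArg Subtype.val h3).symm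
  have hZA : ∀ z ∈ Z, ∀ a ∈ A, z * a = a * z := central A (hAB.trans inf_le_left) hnormA
  have hZB : ∀ z ∈ Z, ∀ b ∈ B, z * b = b * z := central B (hAB.trans inf_le_right) hnormB
  -- the other commutator
  have hcommBA : ∀ b ∈ B, ∀ a ∈ A, ⁅b, a⁆ ∈ Z := by
    intro b hb a ha
    rw [← commutatorElement_inv]
    exact Z.inv_mem (hcommAB a ha b hb)
  have := Fintype.ofFinite A
  have := Fintype.ofFinite B
  obtain ⟨dA, hdA, hsA⟩ := mul_sum_card_centralizer (A := A) (B := B) hcommAB hZB hZcard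
  obtain ⟨dB, hdB, hsB⟩ := mul_sum_card_centralizer (A := B) (B := A) hcommBA hZA hZcard
  have hsum := sum_card_centralizer_comm A B
  rw [hsum, hsB] at hsA
  set cA := Nat.card ↥(A ⊓ Subgroup.centralizer (B : Set G)) with hcA
  set cB := Nat.card ↥(B ⊓ Subgroup.centralizer (A : Set G)) with hcB
  set nA := Nat.card A with hnA
  set nB := Nat.card B with hnB
  obtain ⟨q, hq⟩ : ∃ q, p = q + 1 := ⟨p - 1, by have := hp.pos; omega⟩
  have hq0 : 0 < q := by have := hp.one_lt; omega
  have hkey : cA * nB = cB * nA := by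
    have h1 : cB * ((q + 1) * nA) + dB * nA = cA * ((q + 1) * nB) + dA * nB := by
      rw [← hq]; exact hsA
    have h2 : q * (cA * nB) = q * (cB * nA) := by
      have e1 : cA * ((q + 1) * nB) + dA * nB = q * (cA * nB) + (cA + dA) * nB := by ring
      have e2 : cB * ((q + 1) * nA) + dB * nA = q * (cB * nA) + (cB + dB) * nA := by ring
      rw [e1, e2, hdA, hdB] at h1
      have : nA * nB = nB * nA := mul_comm _ _
      omega
    exact Nat.eq_of_mul_eq_mul_left hq0 h2
  have hrA := card_mul_relIndex_of_le (inf_le_left : A ⊓ Subgroup.centralizer (B : Set G) ≤ A)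
  have hrB := card_mul_relIndex_of_le (inf_le_left : B ⊓ Subgroup.centralizer (A : Set G) ≤ B)
  rw [← hcA, ← hnA] at hrA
  rw [← hcB, ← hnB] at hrB
  have hcA0 : 0 < cA := Nat.card_pos
  have hcB0 : 0 < cB := Nat.card_pos
  rw [← hrA, ← hrB] at hkey
  have : cA * cB * (B ⊓ Subgroup.centralizer (A : Set G)).relIndex B =
      cA * cB * (A ⊓ Subgroup.centralizer (B : Set G)).relIndex A := by
    calc cA * cB * (B ⊓ Subgroup.centralizer (A : Set G)).relIndex B
        = cA * (cB * (B ⊓ Subgroup.centralizer (A : Set G)).relIndex B) := by ring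
      _ = cB * (cA * (A ⊓ Subgroup.centralizer (B : Set G)).relIndex A) := hkey
      _ = _ := by ring
  exact (Nat.eq_of_mul_eq_mul_left (Nat.mul_pos hcA0 hcB0) this).symm

end Cfsg.Agent.helper19
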