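import Mathlib
import Cfsg.Agent.Lib_helper19_Sylow
import Cfsg.Agent.Lib_helper19_Pairing

set_option autoImplicit false
open scoped commutatorElement

namespace Cfsg.Agent.helper19

variable {S : Type*} [Group S]

/-- A subgroup of index `p` in a finite `p`-group is normal. -/
theorem normal_of_index_eq_prime [Finite S] {p : ℕ} [Fact p.Prime] (hS : IsPGroup p S)
    (Q : Subgroup S) (hQ : Q.index = p) : Q.Normal := by
  have hp : p.Prime := Fact.out
  apply Subgroup.normal_of_index_eq_minFac_card
  obtain ⟨k, hk⟩ := IsPGroup.iff_card.1 hS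
  have hk0 : k ≠ 0 := by
    intro h0
    rw [h0, pow_zero] at hk
    have h1 : Q.index ∣ Nat.card S := Subgroup.index_dvd_card Q
    rw [hQ, hk] at h1
    exact hp.one_lt.ne' (Nat.dvd_one.1 h1)
  rw [hQ, hk, Nat.Prime.pow_minFac hp hk0]

/-- A subgroup of prime index is maximal. -/
theorem eq_top_of_lt_of_index_prime [Finite S] {p : ℕ} (hp : p.Prime) {Q K : Subgroup S}
    (hQ : Q.index = p) (hlt : Q < K) : K = ⊤ := by
  have h1 := Subgroup.relIndex_mul_index hlt.le
  rw [hQ] at h1
  have h2 : Q.relIndex K ≠ 1 := by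
    intro h
    exact hlt.not_ge (Subgroup.relIndex_eq_one.1 h)
  have h3 : Q.relIndex K ∣ p := ⟨K.index, h1.symm⟩
  rcases (Nat.dvd_prime hp).1 h3 with h | h
  · exact absurd h h2
  · rw [h] at h1
    have : K.index = 1 := by
      have hp0 := hp.pos
      nlinarith
    exact Subgroup.index_eq_one.1 this

/-- The centre of a normal subgroup, as a subgroup of the whole group, is normal. -/
theorem normal_inf_centralizer (Q : Subgroup S) [hQ : Q.Normal] :
    (Q ⊓ Subgroup.centralizer (Q : Set S)).Normal := by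
  constructor
  intro z hz s
  obtain ⟨hz1, hz2⟩ := Subgroup.mem_inf.1 hz
  refine Subgroup.mem_inf.2 ⟨hQ.conj_mem z hz1 s, ?_⟩
  rw [Subgroup.mem_centralizer_iff] at hz2 ⊢
  intro q hq
  have hq' : s⁻¹ * q * s ∈ Q := by
    have := hQ.conj_mem q hq s⁻¹
    simpa using this
  have h := hz2 _ hq'
  calc q * (s * z * s⁻¹) = s * ((s⁻¹ * q * s) * z) * s⁻¹ := by group
    _ = s * (z * (s⁻¹ * q * s)) * s⁻¹ := by rw [h]
    _ = s * z * s⁻¹ * q := by group

theorem map_center_eq_inf_centralizer (Q : Subgroup S) :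
    (Subgroup.center ↥Q).map Q.subtype = Q ⊓ Subgroup.centralizer (Q : Set S) := by
  ext x
  constructor
  · rintro ⟨y, hy, rfl⟩
    refine Subgroup.mem_inf.2 ⟨y.2, ?_⟩
    rw [Subgroup.mem_centralizer_iff]
    intro h hh
    rw [SetLike.mem_coe, Subgroup.mem_center_iff] at hy
    exact congrArg Subtype.val (hy ⟨h, hh⟩)
  · intro hx
    obtain ⟨h1, h2⟩ := Subgroup.mem_inf.1 hx
    refine ⟨⟨x, h1⟩, ?_, rfl⟩
    rw [SetLike.mem_coe, Subgroup.mem_center_iff]
    intro g
    apply Subtype.ext
    rw [Subgroup.mem_centralizer_iff] at h2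
    exact h2 g g.2

/-- A `p`-group with a subgroup `Q` of index `p` whose centre has order `p`: either `Z(S) = Z(Q)`
or `S = Q Z(S)` and `|Z(S)| = p²`. -/
theorem center_of_index_p [Finite S] {p : ℕ} [Fact p.Prime] (hS : IsPGroup p S) (Q : Subgroup S)
    (hZQ : Nat.card (Subgroup.center ↥Q) = p) (hQi : Q.index = p) :
    Subgroup.center S = (Subgroup.center ↥Q).map Q.subtype ∨
      (Q ⊔ Subgroup.center S = ⊤ ∧ Nat.card (Subgroup.center S) = p ^ 2) := by
  have hp : p.Prime := Fact.out
  have hQn : Q.Normal := normal_of_index_eq_prime hS Q hQi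
  set ZQ := Q ⊓ Subgroup.centralizer (Q : Set S) with hZQdef
  have hmap : (Subgroup.center ↥Q).map Q.subtype = ZQ := map_center_eq_inf_centralizer Q
  have hZQcard : Nat.card ZQ = p := by
    rw [← hmap, Subgroup.card_map_of_injective Q.subtype_injective]; exact hZQ
  have hZQn : ZQ.Normal := normal_inf_centralizer Q
  have hZQle : ZQ ≤ Subgroup.center S := le_center_of_normal_of_card_eq hS ZQ hZQcard
  have hinf : Q ⊓ Subgroup.center S = ZQ := by
    apply le_antisymm
    · exact inf_le_inf_left Q (Subgroup.center_le_centralizer _)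
    · exact le_inf inf_le_left hZQle
  by_cases hle : Subgroup.center S ≤ Q
  · left
    rw [hmap, ← hinf]
    exact (inf_eq_right.2 hle).symm
  · right
    have hsup : Q ⊔ Subgroup.center S = ⊤ := by
      apply eq_top_of_lt_of_index_prime hp hQi
      exact lt_of_le_of_ne le_sup_left (fun h => hle (h ▸ le_sup_right))
    refine ⟨hsup, ?_⟩
    have h1 := relIndex_inf_normal Q (Subgroup.center S)
    rw [hsup, Subgroup.relIndex_top_right, hQi, hinf] at h1
    have h2 := card_mul_relIndex_of_le hZQle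
    rw [h1, hZQcard] at h2
    rw [← h2, pow_two]

end Cfsg.Agent.helper19
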