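import Mathlib

set_option autoImplicit false
open scoped commutatorElement
set_option linter.style.haveILetI false
set_option linter.unusedSectionVars false

namespace Cfsg.Agent.helper1

section
variable {G : Type*} [Group G] [Finite G]

theorem isCoatom_of_index_prime {M : Subgroup G} (h : M.index.Prime) : IsCoatom M := by
  constructor
  · intro htop
    rw [htop, Subgroup.index_top] at h
    exact Nat.not_prime_one h
  · intro L hL
    have h1 := Subgroup.relIndex_mul_index hL.le
    have h2 : M.relIndex L ≠ 1 := by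
      intro h3
      exact hL.not_ge (Subgroup.relIndex_eq_one.mp h3)
    have h3 : M.relIndex L ∣ M.index := Dvd.intro _ h1
    rcases (Nat.dvd_prime h).mp h3 with h4 | h4
    · exact absurd h4 h2
    · rw [h4] at h1
      have : L.index = 1 := by
        have hp := h.pos
        nlinarith [Nat.eq_of_mul_eq_mul_left hp (by rw [h1, mul_one] : M.index * L.index = M.index * 1)]
      exact Subgroup.index_eq_one.mp this

end

section
variable {Q : Type*} [Group Q] [Finite Q]

theorem exists_hom_zmod_ne_one_comm {Q : Type*} [CommGroup Q] [Finite Q] {p : ℕ} [hp : Fact p.Prime]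
    (he : ∀ a : Q, a ^ p = 1) (x : Q) (hx : x ≠ 1) :
    ∃ g : Q →* Multiplicative (ZMod p), g x ≠ 1 := by
  have hpa : ∀ a : Additive Q, p • a = 0 := fun a => by
    change Additive.ofMul ((Additive.toMul a) ^ p) = 0
    rw [he]; rfl
  obtain ⟨inst⟩ : Nonempty (Module (ZMod p) (Additive Q)) := ⟨AddCommGroup.zmodModule hpa⟩
  have hx' : Additive.ofMul x ≠ 0 := fun h => hx (by simpa using h)
  have key : (∀ φ : Module.Dual (ZMod p) (Additive Q), φ (Additive.ofMul x) = 0) ↔
      Additive.ofMul x = 0 := Module.forall_dual_apply_eq_zero_iff (ZMod p) _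
  have := key.not.mpr hx'
  push Not at this
  obtain ⟨φ, hφ⟩ := this
  refine ⟨MonoidHom.mk' (fun q => Multiplicative.ofAdd (φ (Additive.ofMul q))) ?_, ?_⟩
  · intro a b
    change Multiplicative.ofAdd (φ (Additive.ofMul a + Additive.ofMul b)) = _
    rw [map_add]; rfl
  · intro h
    apply hφ
    exact h

/-- In an elementary abelian `p`-group every nonidentity element is separated from `1` by a
homomorphism to `ZMod p`. -/
theorem exists_hom_zmod_ne_one {p : ℕ} [hp : Fact p.Prime] (hc : ∀ a b : Q, a * b = b * a)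
    (he : ∀ a : Q, a ^ p = 1) (x : Q) (hx : x ≠ 1) :
    ∃ g : Q →* Multiplicative (ZMod p), g x ≠ 1 :=
  @exists_hom_zmod_ne_one_comm Q { ‹Group Q› with mul_comm := hc } _ p hp he x hx

/-- In a finite elementary abelian `p`-group every nonidentity element is avoided by a coatom. -/
theorem exists_coatom_not_mem_of_elemAb {p : ℕ} [hp : Fact p.Prime] (hc : ∀ a b : Q, a * b = b * a)
    (he : ∀ a : Q, a ^ p = 1) (x : Q) (hx : x ≠ 1) :
    ∃ M : Subgroup Q, IsCoatom M ∧ x ∉ M := by
  obtain ⟨g, hg⟩ := exists_hom_zmod_ne_one hc he x hx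
  refine ⟨g.ker, ?_, fun h => hg (MonoidHom.mem_ker.mp h)⟩
  apply isCoatom_of_index_prime
  rw [Subgroup.index_ker]
  have h1 : Nat.card g.range ∣ p := by
    have := Subgroup.card_subgroup_dvd_card g.range
    rwa [Nat.card_congr Multiplicative.toAdd, Nat.card_zmod] at this
  rcases (Nat.dvd_prime hp.out).mp h1 with h2 | h2
  · exfalso
    have h3 : g.range = ⊥ := Subgroup.card_eq_one.mp h2
    have : g x ∈ g.range := ⟨x, rfl⟩
    rw [h3, Subgroup.mem_bot] at this
    exact hg this
  · rw [h2]; exact hp.out

end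

section
variable {G : Type*} [Group G]

theorem quot_comm_of_commutator_le (N : Subgroup G) [N.Normal] (hcomm : commutator G ≤ N)
    (a b : G ⧸ N) : a * b = b * a := by
  induction a using QuotientGroup.induction_on with | H a => ?_
  induction b using QuotientGroup.induction_on with | H b => ?_
  rw [← QuotientGroup.mk_mul, ← QuotientGroup.mk_mul, QuotientGroup.eq]
  apply hcomm
  have : (a * b)⁻¹ * (b * a) = ⁅b⁻¹, a⁻¹⁆ := by
    rw [commutatorElement_def]; group
  rw [this, commutator_def]
  exact Subgroup.commutator_mem_commutator (Subgroup.mem_top _) (Subgroup.mem_top _)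

theorem quot_pow_eq_one_of_pow_mem (N : Subgroup G) [N.Normal] {p : ℕ} (hpow : ∀ x : G, x ^ p ∈ N)
    (a : G ⧸ N) : a ^ p = 1 := by
  induction a using QuotientGroup.induction_on with | H a => ?_
  rw [← QuotientGroup.mk_pow]
  exact (QuotientGroup.eq_one_iff _).mpr (hpow a)

/-- If `G/N` is elementary abelian then the Frattini subgroup lies in `N`. -/
theorem frattini_le_of_elemAb_quot [Finite G] {p : ℕ} [hp : Fact p.Prime] (N : Subgroup G) [N.Normal]
    (hcomm : commutator G ≤ N) (hpow : ∀ x : G, x ^ p ∈ N) : frattini G ≤ N := by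
  intro x hx
  by_contra hxN
  have hx1 : (x : G ⧸ N) ≠ 1 := fun h => hxN ((QuotientGroup.eq_one_iff _).mp h)
  obtain ⟨M, hM, hxM⟩ := exists_coatom_not_mem_of_elemAb (p := p)
    (quot_comm_of_commutator_le N hcomm) (quot_pow_eq_one_of_pow_mem N hpow) _ hx1
  have hco : IsCoatom (M.comap (QuotientGroup.mk' N)) :=
    Subgroup.isCoatom_comap_of_surjective (QuotientGroup.mk'_surjective N) hM
  have := frattini_le_coatom hco hx
  exact hxM this

end

end Cfsg.Agent.helper1
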