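import Mathlib
import Cfsg.Prelude.Def_Transfer
import Cfsg.Agent.Lib_helper7_Coprime
import Cfsg.Agent.Lib_helper7_FStar
import Cfsg.Agent.Lib_helper1_PGroup
import Cfsg.Agent.Lib_helper1_ElemAb
import Cfsg.Agent.Lib_helper19_PGroup
import Cfsg.Agent.Lib_helper19_HH0

set_option autoImplicit false
set_option linter.style.haveILetI false

namespace Cfsg.Agent.helper19

open scoped commutatorElement
open Cfsg.Agent.helper7 Cfsg.Agent.helper1

variable {X : Type*} [Group X]

theorem commutatorElement_pow_left (u v : X) (hc : Commute ⁅u, v⁆ u) (n : ℕ) :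
    ⁅u ^ n, v⁆ = ⁅u, v⁆ ^ n := by
  induction n with
  | zero => simp
  | succ n ih =>
    rw [pow_succ', commutatorElement_mul_left_eq_conj_mul, ih]
    have h1 : u * ⁅u, v⁆ ^ n * u⁻¹ = ⁅u, v⁆ ^ n := by
      have := (hc.pow_left n).eq
      calc u * ⁅u, v⁆ ^ n * u⁻¹ = (u * ⁅u, v⁆ ^ n) * u⁻¹ := rfl
        _ = (⁅u, v⁆ ^ n * u) * u⁻¹ := by rw [this]
        _ = ⁅u, v⁆ ^ n := by group
    rw [h1, ← pow_succ]

theorem frattini_map_lt [Finite X] (P : Subgroup X) (hP1 : P ≠ ⊥) :
    (frattini ↥P).map P.subtype < P := by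
  refine lt_of_le_of_ne (Subgroup.map_subtype_le _) ?_
  intro h
  have htop : frattini ↥P = ⊤ := by
    apply Subgroup.map_injective P.subtype_injective
    rw [h, ← MonoidHom.range_eq_map, Subgroup.range_subtype]
  haveI : Nontrivial ↥P := (Subgroup.nontrivial_iff_ne_bot P).2 hP1
  obtain ⟨M, hM⟩ : ∃ M : Subgroup ↥P, IsCoatom M := by
    rcases eq_top_or_exists_le_coatom (⊥ : Subgroup ↥P) with h | ⟨M, hM, _⟩
    · exact absurd h bot_ne_top
    · exact ⟨M, hM⟩
  have := frattini_le_coatom hM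
  rw [htop, top_le_iff] at this
  exact hM.1 this

end Cfsg.Agent.helper19
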