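import Mathlib
import Cfsg.Prelude.Def_Transfer
import Cfsg.Agent.Lib_helper7_Coprime
import Cfsg.Agent.Lib_helper7_FStar
import Cfsg.Agent.Lib_helper1_PGroup
import Cfsg.Agent.Lib_helper1_ElemAb
import Cfsg.Agent.Lib_helper19_PGroup
import Cfsg.Agent.Lib_helper19_HH0
import Cfsg.Agent.Lib_helper19_HH1

set_option autoImplicit false
set_option linter.style.haveILetI false

namespace Cfsg.Agent.helper19

open scoped commutatorElement
open Cfsg.Agent.helper7 Cfsg.Agent.helper1

variable {X : Type*} [Group X]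

/-- If `A` centralizes `U` then the fixed-point condition is trivially true. -/
theorem fix_of_comm_eq_bot {U A N : Subgroup X} (h : ⁅U, A⁆ = ⊥) {x : X} (hx : x ∈ U) :
    ∀ a ∈ A, a * x * a⁻¹ * x⁻¹ ∈ N := by
  intro a ha
  have h1 : U ≤ Subgroup.centralizer (A : Set X) := Subgroup.commutator_eq_bot_iff_le_centralizer.1 h
  have h2 := Subgroup.mem_centralizer_iff.1 (h1 hx) a ha
  have : a * x * a⁻¹ * x⁻¹ = 1 := by rw [h2]; group
  rw [this]; exact N.one_mem

theorem hall_higman_reduction [Finite X] {p : ℕ} [Fact p.Prime] (B A P : Subgroup X)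
    (hP : IsPGroup p P) (hBP : B ≤ Subgroup.normalizer (P : Set X)) (hAB : A ≤ B)
    (hAn : B ≤ Subgroup.normalizer (A : Set X)) (hAp : (Nat.card A).Coprime p)
    (hnt : ⁅P, A⁆ ≠ ⊥)
    (hmin : ∀ U : Subgroup X, U < P → B ≤ Subgroup.normalizer (U : Set X) → ⁅U, A⁆ = ⊥) :
    ⁅P, A⁆ = P ∧ (Cfsg.IsElementaryAbelian p P ∨ Cfsg.IsSpecial p ↥P) ∧
      (∀ U : Subgroup X, (frattini ↥P).map P.subtype ≤ U → U ≤ P →
        B ≤ Subgroup.normalizer (U : Set X) → U = (frattini ↥P).map P.subtype ∨ U = P) ∧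
      (p ≠ 2 → ∀ x ∈ P, x ^ p = 1) := by
  have hp : p.Prime := Fact.out
  have hAP : A ≤ Subgroup.normalizer (P : Set X) := hAB.trans hBP
  have hPA : ⁅P, A⁆ ≤ P := commutator_le_of_normalizer hAP
  have hBPA : B ≤ Subgroup.normalizer ((⁅P, A⁆ : Subgroup X) : Set X) :=
    fun b hb => mem_normalizer_commutator (hBP hb) (hAn hb)
  -- Step 1
  have h1 : ⁅P, A⁆ = P := by
    by_contra hne
    have hlt : ⁅P, A⁆ < P := lt_of_le_of_ne hPA hne
    exact hnt (coprime_comm_eq_bot P A hP hAP hAp (hmin _ hlt hBPA))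
  have hP1 : P ≠ ⊥ := by
    rintro rfl
    exact hnt (Subgroup.commutator_bot_left A)
  -- Frattini
  set Φ : Subgroup X := (frattini ↥P).map P.subtype with hΦ
  have hΦP : Φ ≤ P := Subgroup.map_subtype_le _
  have hΦlt : Φ < P := frattini_map_lt P hP1
  have hNΦ : Subgroup.normalizer (P : Set X) ≤ Subgroup.normalizer (Φ : Set X) :=
    le_normalizer_map_characteristic P (frattini ↥P)
  have hBΦ : B ≤ Subgroup.normalizer (Φ : Set X) := hBP.trans hNΦ
  have hPΦn : P ≤ Subgroup.normalizer (Φ : Set X) := Subgroup.le_normalizer.trans hNΦ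
  have hΦA : ⁅Φ, A⁆ = ⊥ := hmin Φ hΦlt hBΦ
  have hDΦ : ⁅P, P⁆ ≤ Φ := by
    rw [← Subgroup.map_subtype_commutator]
    exact Subgroup.map_mono (commutator_le_frattini_of_isPGroup hP)
  have hpowΦ : ∀ x ∈ P, x ^ p ∈ Φ := by
    intro x hx
    exact ⟨⟨x, hx⟩ ^ p, pow_mem_frattini_of_isPGroup hP ⟨x, hx⟩, rfl⟩
  -- A commutes with Φ
  have hΦcent : Φ ≤ Subgroup.centralizer (A : Set X) :=
    Subgroup.commutator_eq_bot_iff_le_centralizer.1 hΦA
  have hconjpow : ∀ x ∈ P, ∀ a ∈ A, a * (x ^ p)⁻¹ * a⁻¹ = (x ^ p)⁻¹ := by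
    intro x hx a ha
    have h2 := Subgroup.mem_centralizer_iff.1 (hΦcent (Φ.inv_mem (hpowΦ x hx))) a ha
    rw [h2]; group
  -- conclusion (3)
  have h3 : ∀ U : Subgroup X, Φ ≤ U → U ≤ P → B ≤ Subgroup.normalizer (U : Set X) →
      U = Φ ∨ U = P := by
    intro U hΦU hUP hBU
    by_cases hUeq : U = P
    · exact Or.inr hUeq
    · left
      have hUlt : U < P := lt_of_le_of_ne hUP hUeq
      have hUA : ⁅U, A⁆ = ⊥ := hmin U hUlt hBU
      apply le_antisymm _ hΦU
      intro x hx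
      refine coprime_fixed_mem P Φ A hP hΦP hPΦn hAP (hAB.trans hBΦ) hDΦ hAp x (hUP hx) ?_
        (fix_of_comm_eq_bot hUA hx)
      rw [h1]
      exact le_sup_left (a := P) (hUP hx)
  refine ⟨h1, ?_⟩
  by_cases hab : ⁅P, P⁆ = ⊥
  · -- abelian case
    have hPcent : P ≤ Subgroup.centralizer (P : Set X) :=
      Subgroup.commutator_eq_bot_iff_le_centralizer.1 hab
    have hcommP : ∀ u ∈ P, ∀ v ∈ P, Commute u v := by
      intro u hu v hv
      exact (Subgroup.mem_centralizer_iff.1 (hPcent hv) u hu)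
    have hexp : ∀ x ∈ P, x ^ p = 1 := by
      let Ω : Subgroup X :=
        { carrier := {z | z ∈ P ∧ z ^ p = 1}
          one_mem' := ⟨P.one_mem, one_pow _⟩
          mul_mem' := by
            rintro u v ⟨hu, hu1⟩ ⟨hv, hv1⟩
            refine ⟨P.mul_mem hu hv, ?_⟩
            rw [(hcommP u hu v hv).mul_pow, hu1, hv1, one_mul]
          inv_mem' := by
            rintro u ⟨hu, hu1⟩
            exact ⟨P.inv_mem hu, by rw [inv_pow, hu1, inv_one]⟩ }
      have hle : ⁅P, A⁆ ≤ Ω := by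
        rw [Subgroup.commutator_le]
        intro x hx a ha
        have hv : a * x⁻¹ * a⁻¹ ∈ P :=
          (Subgroup.mem_normalizer_iff.1 (hAP ha) x⁻¹).1 (P.inv_mem hx)
        have e : ⁅x, a⁆ = x * (a * x⁻¹ * a⁻¹) := by rw [commutatorElement_def]; group
        refine ⟨by rw [e]; exact P.mul_mem hx hv, ?_⟩
        rw [e, (hcommP x hx _ hv).mul_pow]
        have : (a * x⁻¹ * a⁻¹) ^ p = a * (x ^ p)⁻¹ * a⁻¹ := by
          rw [conj_pow, inv_pow]
        rw [this, hconjpow x hx a ha, mul_inv_cancel]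
      intro x hx
      have : x ∈ Ω := hle (h1.symm ▸ hx)
      exact this.2
    refine ⟨Or.inl ⟨Subgroup.commutator_self_eq_bot_iff.1 hab, hexp⟩, h3, fun _ => hexp⟩
  · -- nonabelian case
    set D : Subgroup X := ⁅P, P⁆ with hD
    have hDP : D ≤ P := Subgroup.commutator_le_self P
    have hDlt : D < P := lt_of_le_of_lt hDΦ hΦlt
    have hND : Subgroup.normalizer (P : Set X) ≤ Subgroup.normalizer (D : Set X) :=
      fun b hb => mem_normalizer_commutator hb hb
    have hBD : B ≤ Subgroup.normalizer (D : Set X) := hBP.trans hND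
    have hPDn : P ≤ Subgroup.normalizer (D : Set X) := Subgroup.le_normalizer.trans hND
    have hDA : ⁅D, A⁆ = ⊥ := hmin D hDlt hBD
    -- three subgroups: for K normal in P centralized by A, [P,K] = 1
    have three : ∀ K : Subgroup X, P ≤ Subgroup.normalizer (K : Set X) → ⁅K, A⁆ = ⊥ →
        ⁅P, K⁆ = ⊥ := by
      intro K hPK hKA
      have hPKK : ⁅P, K⁆ ≤ K := by
        rw [Subgroup.commutator_comm]; exact commutator_le_of_normalizer hPK
      have e1 : ⁅⁅P, K⁆, A⁆ = ⊥ := le_bot_iff.1 (hKA ▸ Subgroup.commutator_mono hPKK le_rfl)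
      have e2 : ⁅⁅K, A⁆, P⁆ = ⊥ := by rw [hKA]; exact Subgroup.commutator_bot_left P
      have := Subgroup.commutator_commutator_eq_bot_of_rotate e1 e2
      rw [Subgroup.commutator_comm A P, h1] at this
      exact this
    have hPD : ⁅P, D⁆ = ⊥ := three D hPDn hDA
    have hPΦ : ⁅P, Φ⁆ = ⊥ := three Φ hPΦn hΦA
    -- centre
    set Z : Subgroup X := P ⊓ Subgroup.centralizer (P : Set X) with hZ
    have hZP : Z ≤ P := inf_le_left
    have hZlt : Z < P := by
      refine lt_of_le_of_ne hZP ?_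
      intro h
      apply hab
      rw [Subgroup.commutator_eq_bot_iff_le_centralizer]
      intro y hy
      have hyZ : y ∈ Z := by rw [h]; exact hy
      exact (Subgroup.mem_inf.1 hyZ).2
    have hBZ : B ≤ Subgroup.normalizer (Z : Set X) := by
      intro b hb
      exact Subgroup.inf_normalizer_le_normalizer_inf
        ⟨hBP hb, normalizer_le_normalizer_centralizer P (hBP hb)⟩
    have hZA : ⁅Z, A⁆ = ⊥ := hmin Z hZlt hBZ
    have hZD : Z ≤ D := by
      intro x hx
      refine coprime_fixed_mem P D A hP hDP hPDn hAP (hAB.trans hBD) le_rfl hAp x (hZP hx) ?_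
        (fix_of_comm_eq_bot hZA hx)
      rw [h1]
      exact le_sup_left (a := P) (hZP hx)
    have hΦZ : Φ ≤ Z := by
      refine le_inf hΦP ?_
      rw [Subgroup.commutator_comm] at hPΦ
      exact Subgroup.commutator_eq_bot_iff_le_centralizer.1 hPΦ
    have eDΦ : D = Φ := le_antisymm hDΦ (hΦZ.trans hZD)
    have eΦZ : Φ = Z := le_antisymm hΦZ (hZD.trans hDΦ)
    have hspecial : Cfsg.IsSpecial p ↥P := by
      refine ⟨hP, ?_, ?_⟩
      · apply Subgroup.map_injective P.subtype_injective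
        rw [map_center_eq_inf_centralizer]
        exact eΦZ
      · apply Subgroup.map_injective P.subtype_injective
        rw [map_center_eq_inf_centralizer, Subgroup.map_subtype_commutator]
        exact eDΦ.trans eΦZ
    refine ⟨Or.inr hspecial, h3, ?_⟩
    intro hp2 x hx
    -- D is central in P
    have hDcent : D ≤ Subgroup.centralizer (P : Set X) := by
      have := hPD
      rw [Subgroup.commutator_comm] at this
      exact Subgroup.commutator_eq_bot_iff_le_centralizer.1 this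
    have hcomm : ∀ u ∈ P, ∀ v ∈ P, ∀ w ∈ P, Commute ⁅u, v⁆ w := by
      intro u hu v hv w hw
      have hd : ⁅u, v⁆ ∈ D := Subgroup.commutator_mem_commutator hu hv
      exact (Subgroup.mem_centralizer_iff.1 (hDcent hd) w hw).symm
    have hDexp : ∀ u ∈ P, ∀ v ∈ P, ⁅u, v⁆ ^ p = 1 := by
      intro u hu v hv
      rw [← commutatorElement_pow_left u v (hcomm u hu v hv u hu)]
      have h2 : u ^ p ∈ Subgroup.centralizer (P : Set X) := (hΦZ (hpowΦ u hu)).2
      have h3' := Subgroup.mem_centralizer_iff.1 h2 v hv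
      rw [commutatorElement_def, ← h3']
      group
    obtain ⟨t, ht⟩ := dvd_tri_of_odd_prime hp hp2
    have hmulpow : ∀ u ∈ P, ∀ v ∈ P, (u * v) ^ p = u ^ p * v ^ p := by
      intro u hu v hv
      rw [mul_pow_of_central v u (hcomm v hv u hu v hv) (hcomm v hv u hu u hu), ht, pow_mul,
        hDexp v hv u hu, one_pow, mul_one]
    let Ω : Subgroup X :=
      { carrier := {z | z ∈ P ∧ z ^ p = 1}
        one_mem' := ⟨P.one_mem, one_pow _⟩
        mul_mem' := by
          rintro u v ⟨hu, hu1⟩ ⟨hv, hv1⟩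
          refine ⟨P.mul_mem hu hv, ?_⟩
          rw [hmulpow u hu v hv, hu1, hv1, one_mul]
        inv_mem' := by
          rintro u ⟨hu, hu1⟩
          exact ⟨P.inv_mem hu, by rw [inv_pow, hu1, inv_one]⟩ }
    have hle : ⁅P, A⁆ ≤ Ω := by
      rw [Subgroup.commutator_le]
      intro y hy a ha
      have hv : a * y⁻¹ * a⁻¹ ∈ P :=
        (Subgroup.mem_normalizer_iff.1 (hAP ha) y⁻¹).1 (P.inv_mem hy)
      have e : ⁅y, a⁆ = y * (a * y⁻¹ * a⁻¹) := by rw [commutatorElement_def]; group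
      refine ⟨by rw [e]; exact P.mul_mem hy hv, ?_⟩
      rw [e, hmulpow y hy _ hv]
      have : (a * y⁻¹ * a⁻¹) ^ p = a * (y ^ p)⁻¹ * a⁻¹ := by
        rw [conj_pow, inv_pow]
      rw [this, hconjpow y hy a ha, mul_inv_cancel]
    have : x ∈ Ω := hle (h1.symm ▸ hx)
    exact this.2

end Cfsg.Agent.helper19
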