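import Mathlib
import Cfsg.Agent.Lib_helper19_HH2
import Cfsg.Agent.Lib_helper15_ExtClosed

set_option autoImplicit false

namespace Cfsg.Agent.helper15

open scoped commutatorElement

variable {G : Type*} [Group G]

/-- For odd `p`: a `p'`-element normalizing a `p`-subgroup `Q` and centralizing all elements of
`Q` of order dividing `p` centralizes `Q`. -/
theorem centralizes_of_centralizes_omega [Finite G] {p : ℕ} [Fact p.Prime] (hp : p ≠ 2)
    (Q : Subgroup G) (hQ : IsPGroup p ↥Q) (g : G) (hg : g ∈ Subgroup.normalizer (Q : Set G))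
    (hcop : (orderOf g).Coprime p) (hΩ : ∀ x ∈ Q, x ^ p = 1 → g * x = x * g) :
    g ∈ Subgroup.centralizer (Q : Set G) := by
  classical
  set A : Subgroup G := Subgroup.zpowers g with hA
  have hAcard : (Nat.card ↥A).Coprime p := by rw [hA, Nat.card_zpowers]; exact hcop
  have hAQ : A ≤ Subgroup.normalizer (Q : Set G) := (Subgroup.zpowers_le).2 hg
  by_contra hne
  have hQA : ⁅Q, A⁆ ≠ ⊥ := by
    intro h
    apply hne
    have h1 := Subgroup.commutator_eq_bot_iff_le_centralizer.1 h
    rw [Subgroup.mem_centralizer_iff]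
    intro x hx
    have h2 := h1 hx
    exact (Subgroup.mem_centralizer_iff.1 h2 g (Subgroup.mem_zpowers g)).symm
  obtain ⟨U, ⟨hUQ, hAU, hUA⟩, hUmin⟩ := Set.exists_min_image
    {U : Subgroup G | U ≤ Q ∧ A ≤ Subgroup.normalizer (U : Set G) ∧ ⁅U, A⁆ ≠ ⊥}
    (fun U => Nat.card ↥U) (Set.toFinite _) ⟨Q, le_rfl, hAQ, hQA⟩
  have hmin : ∀ V : Subgroup G, V < U → A ≤ Subgroup.normalizer (V : Set G) → ⁅V, A⁆ = ⊥ := by
    intro V hVU hAV
    by_contra hVA
    have h1 := hUmin V ⟨hVU.le.trans hUQ, hAV, hVA⟩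
    have h2 : V = U := Subgroup.eq_of_le_of_card_ge hVU.le h1
    exact hVU.ne h2
  have hHH := Cfsg.Agent.helper19.hall_higman_reduction A A U (hQ.to_le hUQ) hAU le_rfl
    Subgroup.le_normalizer hAcard hUA hmin
  have hexp := hHH.2.2.2 hp
  apply hUA
  rw [Subgroup.commutator_eq_bot_iff_le_centralizer]
  intro x hx
  have h1 := hΩ x (hUQ hx) (hexp x hx)
  have hle : A ≤ Subgroup.centralizer ({x} : Set G) := by
    rw [hA, Subgroup.zpowers_le, Subgroup.mem_centralizer_singleton_iff]
    exact h1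
  rw [Subgroup.mem_centralizer_iff]
  intro a ha
  have := hle ha
  rw [Subgroup.mem_centralizer_singleton_iff] at this
  exact this

end Cfsg.Agent.helper15
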