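import Mathlib
import Cfsg.Agent.Lib_helper7_Coprime
import Cfsg.Agent.Lib_helper7_Fitting

set_option autoImplicit false

namespace Cfsg.Agent.helper7

variable {G : Type*} [Group G]

/-- If `N` contains all elements of `X` of prime power order, then `X ≤ N`. -/
theorem le_of_prime_power_elts [Finite G] {X N : Subgroup G}
    (h : ∀ q : ℕ, q.Prime → ∀ x ∈ X, ∀ k : ℕ, x ^ q ^ k = 1 → x ∈ N) : X ≤ N := by
  have h1 : (⊤ : Subgroup ↥X) ≤ N.subgroupOf X := by
    rw [← iSup_sylow_eq_top ↥X]
    apply iSup_le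
    rintro ⟨q, hq⟩
    apply iSup_le
    intro S
    intro x hx
    rw [Subgroup.mem_subgroupOf]
    obtain ⟨k, hk⟩ := S.isPGroup' ⟨x, hx⟩
    have hk' : (x : G) ^ q ^ k = 1 := by
      have h2 : x ^ q ^ k = 1 := congrArg Subtype.val hk
      have h3 : ((x ^ q ^ k : ↥X) : G) = 1 := by rw [h2]; rfl
      simpa using h3
    exact h q hq x x.2 k hk'
  intro x hx
  have := h1 (Subgroup.mem_top (⟨x, hx⟩ : ↥X))
  rwa [Subgroup.mem_subgroupOf] at this

/-- Thompson's `P × Q` lemma. -/
theorem thompson_PxQ [Finite G] {p : ℕ} [Fact p.Prime]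
    {P Q U : Subgroup G} (hP : IsPGroup p ↥P) (hQ : (Nat.card ↥Q).Coprime p) (hU : IsPGroup p ↥U)
    (hPQ : P ≤ Subgroup.centralizer (Q : Set G))
    (hPU : P ≤ Subgroup.normalizer (U : Set G)) (hQU : Q ≤ Subgroup.normalizer (U : Set G))
    (hC : U ⊓ Subgroup.centralizer (P : Set G) ≤ Subgroup.centralizer (Q : Set G)) :
    Q ≤ Subgroup.centralizer (U : Set G) := by
  apply le_of_prime_power_elts
  intro q hq x hx k hk
  by_cases hqp : q = p
  · subst hqp
    -- order of x divides both q^k and |Q|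
    have h1 : orderOf x ∣ q ^ k := orderOf_dvd_of_pow_eq_one hk
    have h2 : orderOf x ∣ Nat.card ↥Q := by
      have h2 : orderOf (⟨x, hx⟩ : ↥Q) ∣ Nat.card ↥Q := orderOf_dvd_natCard _
      rwa [Subgroup.orderOf_mk] at h2
    have h3 : (orderOf x).Coprime (orderOf x) :=
      Nat.Coprime.coprime_dvd_left h2 (Nat.Coprime.coprime_dvd_right h1 (Nat.Coprime.pow_right k hQ))
    rw [Nat.coprime_self, orderOf_eq_one_iff] at h3
    rw [h3]
    exact Subgroup.one_mem _
  · exact thompson_PxQ_elt hP hU hPQ hPU hQU hC hq hqp hx hk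

/-- A perfect subgroup `X` normalizing `N`, all of whose elements of prime power order `q^k`
with `q ≠ p` lie in `N`, is contained in `N`. -/
theorem perfect_le_of_pprime_elts [Finite G] {p : ℕ} [Fact p.Prime] {X N : Subgroup G}
    (hperf : ⁅X, X⁆ = X) (hn : X ≤ Subgroup.normalizer (N : Set G))
    (h : ∀ q : ℕ, q.Prime → q ≠ p → ∀ x ∈ X, ∀ k : ℕ, x ^ q ^ k = 1 → x ∈ N) : X ≤ N := by
  haveI : (N.subgroupOf X).Normal := Subgroup.normal_subgroupOf_of_le_normalizer hn
  haveI : Group.IsPerfect ↥X := Subgroup.isPerfect_iff.2 hperf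
  -- the index is a power of p
  have hidx : ∀ q : ℕ, q.Prime → q ∣ (N.subgroupOf X).index → q = p := by
    intro q hq hdvd
    by_contra hqp
    haveI : Fact q.Prime := ⟨hq⟩
    obtain ⟨S⟩ : Nonempty (Sylow q ↥X) := inferInstance
    have hle : (S : Subgroup ↥X) ≤ N.subgroupOf X := by
      intro x hx
      rw [Subgroup.mem_subgroupOf]
      obtain ⟨k, hk⟩ := S.isPGroup' ⟨x, hx⟩
      have hk' : (x : G) ^ q ^ k = 1 := by
        have h2 : x ^ q ^ k = 1 := congrArg Subtype.val hk
        have h3 : ((x ^ q ^ k : ↥X) : G) = 1 := by rw [h2]; rfl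
        simpa using h3
      exact h q hq hqp x x.2 k hk'
    exact S.not_dvd_index (dvd_trans hdvd (Subgroup.index_dvd_of_le hle))
  have hpow : (N.subgroupOf X).index = p ^ ((N.subgroupOf X).index).primeFactorsList.length :=
    Nat.eq_prime_pow_of_unique_prime_dvd (Subgroup.index_ne_zero_of_finite)
      (fun {d} hd hdvd => hidx d hd hdvd)
  have hPG : IsPGroup p (↥X ⧸ N.subgroupOf X) := by
    apply IsPGroup.of_card (n := ((N.subgroupOf X).index).primeFactorsList.length)
    rw [← hpow]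
    exact (Subgroup.index_eq_card (N.subgroupOf X)).symm
  haveI : Group.IsNilpotent (↥X ⧸ N.subgroupOf X) := hPG.isNilpotent
  have hsub : Subsingleton (↥X ⧸ N.subgroupOf X) := by
    by_contra hns
    rw [not_subsingleton_iff_nontrivial] at hns
    exact Group.IsPerfect.not_isSolvable (↥X ⧸ N.subgroupOf X) inferInstance
  have htop := QuotientGroup.subgroup_eq_top_of_subsingleton _ hsub
  rw [Subgroup.subgroupOf_eq_top] at htop
  exact htop

/-- Thompson's `P × Q` lemma for a perfect subgroup `X` in place of a `p'`-group. -/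
theorem thompson_PxQ_perfect [Finite G] {p : ℕ} [Fact p.Prime]
    {P X U : Subgroup G} (hP : IsPGroup p ↥P) (hperf : ⁅X, X⁆ = X) (hU : IsPGroup p ↥U)
    (hPX : P ≤ Subgroup.centralizer (X : Set G))
    (hPU : P ≤ Subgroup.normalizer (U : Set G)) (hXU : X ≤ Subgroup.normalizer (U : Set G))
    (hC : U ⊓ Subgroup.centralizer (P : Set G) ≤ Subgroup.centralizer (X : Set G)) :
    X ≤ Subgroup.centralizer (U : Set G) := by
  apply perfect_le_of_pprime_elts (p := p) hperf
  · intro x hx
    apply mem_normalizer_of_cj_eq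
    rw [cj_centralizer, cj_eq_of_mem_normalizer (hXU hx)]
  · intro q hq hqp x hx k hk
    exact thompson_PxQ_elt hP hU hPX hPU hXU hC hq hqp hx hk

end Cfsg.Agent.helper7
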