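import Mathlib
import Cfsg.Prelude.Def_Local
import Cfsg.Agent.Lib_helper7_FStar2
import Cfsg.Agent.Lib_helper7_PQ

set_option autoImplicit false

namespace Cfsg.Agent.helper7

variable {G : Type*} [Group G]

theorem piCoreIn_isPGroup [Finite G] {p : ℕ} (hp : p.Prime) (K : Subgroup G) :
    IsPGroup p ↥(piCoreIn {p} K) :=
  (isPGroup_iff_piGrp hp).2 (piCoreIn_piGrp {p} K)

/-- `O_r(K)` and `O_p(K)` commute for `r ≠ p`. -/
theorem piCoreIn_le_centralizer_piCoreIn [Finite G] {p r : ℕ} (hne : r ≠ p) (K : Subgroup G) :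
    piCoreIn {r} K ≤ Subgroup.centralizer ((piCoreIn {p} K : Subgroup G) : Set G) := by
  rw [← Subgroup.commutator_eq_bot_iff_le_centralizer, eq_bot_iff]
  have h1 : ⁅piCoreIn {r} K, piCoreIn {p} K⁆ ≤ piCoreIn {r} K :=
    comm_le_of_normal le_rfl ((piCoreIn_le _ K).trans (piCoreIn_normal _ K))
  have h2 : ⁅piCoreIn {r} K, piCoreIn {p} K⁆ ≤ piCoreIn {p} K := by
    rw [Subgroup.commutator_comm]
    exact comm_le_of_normal le_rfl ((piCoreIn_le _ K).trans (piCoreIn_normal _ K))
  have h3 : piCoreIn {r} K ⊓ piCoreIn {p} K = ⊥ :=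
    piGrp_inf_eq_bot (π := {r}) (π' := {p})
      (fun q h1 h2 => hne (by rw [Set.mem_singleton_iff] at h1 h2; rw [← h1, ← h2]))
      (piCoreIn_piGrp {r} K) (piCoreIn_piGrp {p} K)
  rw [← h3]
  exact le_inf h1 h2

theorem le_centralizer_iSup {ι : Sort*} {L : Subgroup G} {R : ι → Subgroup G}
    (h : ∀ i, L ≤ Subgroup.centralizer ((R i : Subgroup G) : Set G)) :
    L ≤ Subgroup.centralizer (((⨆ i, R i : Subgroup G)) : Set G) := by
  rw [Subgroup.le_centralizer_iff]
  apply iSup_le
  intro i
  exact Subgroup.le_centralizer_iff.1 (h i)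

theorem le_centralizer_sSup {L : Subgroup G} {S : Set (Subgroup G)}
    (h : ∀ R ∈ S, L ≤ Subgroup.centralizer ((R : Subgroup G) : Set G)) :
    L ≤ Subgroup.centralizer (((sSup S : Subgroup G)) : Set G) := by
  rw [Subgroup.le_centralizer_iff]
  apply sSup_le
  intro R hR
  exact Subgroup.le_centralizer_iff.1 (h R hR)

/-- A quasisimple subgroup centralizing `F*(K)` and contained in `K` does not exist. -/
theorem QS.not_le_centralizer_fstarOf [Finite G] {L K : Subgroup G} (hqs : QS L) (hLK : L ≤ K)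
    (hF : L ≤ Subgroup.centralizer ((fitOf K : Subgroup G) : Set G))
    (hE : L ≤ Subgroup.centralizer ((layerOf K : Subgroup G) : Set G)) : False := by
  have h1 : L ≤ Subgroup.centralizer ((fstarOf K : Subgroup G) : Set G) := by
    unfold fstarOf
    intro x hx
    exact mem_centralizer_sup (hE hx) (hF hx)
  have h2 : L ≤ fstarOf K := (le_inf hLK h1).trans (centralizer_fstarOf_le K)
  exact hqs.not_abelian (h1.trans (Subgroup.centralizer_le h2))

/-- Let `P ≤ O_p(G)`. Then `E(N_G(P)) = E(G)`. -/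
theorem layerOf_normalizer_eq [Finite G] {p : ℕ} (hp : p.Prime) {P : Subgroup G}
    (hP : P ≤ piCoreIn {p} ⊤) :
    layerOf (Subgroup.normalizer (P : Set G)) = layerOf (⊤ : Subgroup G) := by
  haveI : Fact p.Prime := ⟨hp⟩
  set N : Subgroup G := Subgroup.normalizer (P : Set G) with hN
  set Q : Subgroup G := piCoreIn {p} ⊤ with hQ
  have hQp : IsPGroup p ↥Q := piCoreIn_isPGroup hp ⊤
  have hPp : IsPGroup p ↥P := hQp.to_le hP
  have hQn : ∀ g : G, g ∈ Subgroup.normalizer (Q : Set G) :=
    fun g => piCoreIn_normal {p} ⊤ (Subgroup.mem_top g)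
  have hQF : Q ≤ fitOf (⊤ : Subgroup G) := piCoreIn_le_fitOf hp ⊤
  have hCPN : Subgroup.centralizer (P : Set G) ≤ N := Subgroup.centralizer_le_normalizer _
  -- components of G are components of N
  have hcompN : ∀ K : Subgroup G, Comp K ⊤ → Comp K N := by
    intro K hK
    apply hK.of_le _ le_top
    have h1 : K ≤ Subgroup.centralizer ((fitOf (⊤ : Subgroup G) : Subgroup G) : Set G) :=
      Subgroup.commutator_eq_bot_iff_le_centralizer.1 hK.comm_fitOf
    exact (h1.trans (Subgroup.centralizer_le (hP.trans hQF))).trans hCPN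
  apply le_antisymm
  · apply sSup_le
    intro L hL
    by_cases hex : Comp L ⊤
    · exact comp_le_layerOf hex
    exfalso
    have hLN : L ≤ N := hL.1.le
    have h1 : L ≤ Subgroup.centralizer ((fitOf N : Subgroup G) : Set G) :=
      Subgroup.commutator_eq_bot_iff_le_centralizer.1 hL.comm_fitOf
    have hPN : P ≤ fitOf N :=
      nilpotent_sn_le_fitOf (SN.of_normal Subgroup.le_normalizer le_rfl) hPp.isNilpotent
    have hQC : Q ⊓ Subgroup.centralizer (P : Set G) ≤ fitOf N := by
      apply nilpotent_sn_le_fitOf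
      · apply SN.of_normal (inf_le_right.trans hCPN)
        intro g hg
        apply mem_normalizer_of_cj_eq
        rw [cj_inf, cj_eq_of_mem_normalizer (hQn g), cj_centralizer, cj_eq_of_mem_normalizer hg]
      · exact (hQp.to_le inf_le_left).isNilpotent
    have hLQ : L ≤ Subgroup.centralizer (Q : Set G) := by
      apply thompson_PxQ_perfect hPp hL.2.1 hQp
      · exact Subgroup.le_centralizer_iff.1 (h1.trans (Subgroup.centralizer_le hPN))
      · exact fun g _ => hQn g
      · exact fun g _ => hQn g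
      · exact hQC.trans (Subgroup.le_centralizer_iff.1 h1)
    have hLF : L ≤ Subgroup.centralizer ((fitOf (⊤ : Subgroup G) : Subgroup G) : Set G) := by
      rw [fitOf_eq_iSup]
      apply le_centralizer_iSup
      rintro ⟨r, hr⟩
      by_cases hrp : r = p
      · subst hrp; exact hLQ
      · -- `O_r(G) ≤ F(N)`
        have h2 : piCoreIn {r} (⊤ : Subgroup G) ≤ fitOf N := by
          apply nilpotent_sn_le_fitOf
          · apply SN.of_normal
            · exact ((piCoreIn_le_centralizer_piCoreIn hrp ⊤).trans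
                (Subgroup.centralizer_le hP)).trans hCPN
            · exact fun g _ => piCoreIn_normal {r} ⊤ (Subgroup.mem_top g)
          · haveI : Fact r.Prime := ⟨hr⟩
            exact (piCoreIn_isPGroup hr ⊤).isNilpotent
        exact h1.trans (Subgroup.centralizer_le h2)
    have hLE : L ≤ Subgroup.centralizer ((layerOf (⊤ : Subgroup G) : Subgroup G) : Set G) := by
      unfold layerOf
      apply le_centralizer_sSup
      intro K hK
      have hne : L ≠ K := fun h => hex (h ▸ hK)
      exact Subgroup.commutator_eq_bot_iff_le_centralizer.1 (hL.comm_of_ne (hcompN K hK) hne)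
    exact hL.2.not_le_centralizer_fstarOf le_top hLF hLE
  · apply sSup_le
    intro K hK
    exact comp_le_layerOf (hcompN K hK)

/-- `F*(N) = O_p(N)` iff `N` has no components and `O_r(N) = 1` for all primes `r ≠ p`. -/
theorem fstarOf_eq_piCoreIn_iff [Finite G] {p : ℕ} (hp : p.Prime) (N : Subgroup G) :
    fstarOf N = piCoreIn {p} N ↔
      (∀ L : Subgroup G, ¬ Comp L N) ∧ ∀ r : ℕ, r.Prime → r ≠ p → piCoreIn {r} N = ⊥ := by
  constructor
  · intro h
    constructor
    · intro L hL
      have h1 : L ≤ piCoreIn {p} N := by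
        rw [← h]; exact (comp_le_layerOf hL).trans le_sup_left
      have h2 : L ≤ Subgroup.centralizer ((fitOf N : Subgroup G) : Set G) :=
        Subgroup.commutator_eq_bot_iff_le_centralizer.1 hL.comm_fitOf
      exact hL.2.not_abelian (h2.trans (Subgroup.centralizer_le (h1.trans (piCoreIn_le_fitOf hp N))))
    · intro r hr hrp
      have h1 : piCoreIn {r} N ≤ piCoreIn {p} N := by
        rw [← h]; exact (piCoreIn_le_fitOf hr N).trans le_sup_right
      have h3 : piCoreIn {r} N ⊓ piCoreIn {p} N = ⊥ :=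
        piGrp_inf_eq_bot (π := {r}) (π' := {p})
          (fun q h1 h2 => hrp (by rw [Set.mem_singleton_iff] at h1 h2; rw [← h1, ← h2]))
          (piCoreIn_piGrp {r} N) (piCoreIn_piGrp {p} N)
      rw [eq_bot_iff, ← h3]
      exact le_inf le_rfl h1
  · rintro ⟨h1, h2⟩
    unfold fstarOf
    have hE : layerOf N = ⊥ := by
      rw [eq_bot_iff]
      apply sSup_le
      intro L hL
      exact absurd hL (h1 L)
    rw [hE, bot_sup_eq, fitOf_eq_iSup]
    apply le_antisymm
    · apply iSup_le
      rintro ⟨r, hr⟩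
      by_cases hrp : r = p
      · subst hrp; exact le_rfl
      · rw [h2 r hr hrp]; exact bot_le
    · exact le_iSup (fun r : {r : ℕ // r.Prime} => piCoreIn {r.1} N) ⟨p, hp⟩

/-- Local-to-global principle: if `F*(K) = O_p(K)`, `P` is a `p`-group acting on `K`, and `N` is
(roughly) the normalizer or centralizer of `P` in `K`, then `F*(N) = O_p(N)`. -/
theorem fstarOf_local [Finite G] {p : ℕ} (hp : p.Prime) {K N P : Subgroup G}
    (hK : fstarOf K = piCoreIn {p} K) (hPp : IsPGroup p ↥P)
    (hPK : P ≤ Subgroup.normalizer (K : Set G)) (hNK : N ≤ K)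
    (hCN : K ⊓ Subgroup.centralizer (P : Set G) ≤ N) (hNP : N ≤ Subgroup.normalizer (P : Set G))
    (hPX : N ⊓ Subgroup.centralizer ((piCoreIn {p} N : Subgroup G) : Set G) ≤
      Subgroup.centralizer (P : Set G)) :
    fstarOf N = piCoreIn {p} N := by
  haveI : Fact p.Prime := ⟨hp⟩
  set Q : Subgroup G := piCoreIn {p} K with hQ
  have hQp : IsPGroup p ↥Q := piCoreIn_isPGroup hp K
  have hKQ : K ≤ Subgroup.normalizer (Q : Set G) := piCoreIn_normal {p} K
  have hPQ : P ≤ Subgroup.normalizer (Q : Set G) :=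
    hPK.trans (normalizer_le_normalizer_radOf (fun g _ h => h.conj g) K)
  -- `C_Q(P) ≤ O_p(N)`
  have hQC : Q ⊓ Subgroup.centralizer (P : Set G) ≤ piCoreIn {p} N := by
    apply le_radOf
    · exact (inf_le_inf_right _ (piCoreIn_le _ K)).trans hCN
    · intro g hg
      apply mem_normalizer_of_cj_eq
      rw [cj_inf, cj_eq_of_mem_normalizer (hKQ (hNK hg)), cj_centralizer,
        cj_eq_of_mem_normalizer (hNP hg)]
    · exact (isPGroup_iff_piGrp hp).1 (hQp.to_le inf_le_left)
  -- the two cases
  have key : ∀ X : Subgroup G, X ≤ N →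
      X ≤ Subgroup.centralizer ((piCoreIn {p} N : Subgroup G) : Set G) →
      (⁅X, X⁆ = X ∨ (Nat.card ↥X).Coprime p) → X ≤ Q ⊓ Subgroup.centralizer (Q : Set G) := by
    intro X hXN hXc hX
    have hXP : P ≤ Subgroup.centralizer (X : Set G) :=
      Subgroup.le_centralizer_iff.1 ((le_inf hXN hXc).trans hPX)
    have hXQ : X ≤ Subgroup.normalizer (Q : Set G) := (hXN.trans hNK).trans hKQ
    have hC : Q ⊓ Subgroup.centralizer (P : Set G) ≤ Subgroup.centralizer (X : Set G) :=
      hQC.trans (Subgroup.le_centralizer_iff.1 hXc)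
    have h1 : X ≤ Subgroup.centralizer (Q : Set G) := by
      rcases hX with hX | hX
      · exact thompson_PxQ_perfect hPp hX hQp hXP hPQ hXQ hC
      · exact thompson_PxQ hPp hX hQp hXP hPQ hXQ hC
    have h2 : X ≤ fstarOf K := by
      refine le_trans ?_ (centralizer_fstarOf_le K)
      rw [hK]
      exact le_inf (hXN.trans hNK) h1
    rw [hK] at h2
    exact le_inf h2 h1
  rw [fstarOf_eq_piCoreIn_iff hp]
  constructor
  · intro L hL
    have h2 : L ≤ Subgroup.centralizer ((fitOf N : Subgroup G) : Set G) :=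
      Subgroup.commutator_eq_bot_iff_le_centralizer.1 hL.comm_fitOf
    have h3 := key L hL.1.le (h2.trans (Subgroup.centralizer_le (piCoreIn_le_fitOf hp N)))
      (Or.inl hL.2.1)
    exact hL.2.not_abelian ((h3.trans inf_le_right).trans (Subgroup.centralizer_le (h3.trans inf_le_left)))
  · intro r hr hrp
    have hcop : (Nat.card ↥(piCoreIn {r} N)).Coprime p := by
      haveI : Fact r.Prime := ⟨hr⟩
      obtain ⟨k, hk⟩ := IsPGroup.iff_card.1 (piCoreIn_isPGroup hr N)
      rw [hk]
      exact Nat.Coprime.pow_left k ((Nat.coprime_primes hr hp).2 hrp)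
    have h3 := key (piCoreIn {r} N) (piCoreIn_le _ N) (piCoreIn_le_centralizer_piCoreIn hrp N)
      (Or.inr hcop)
    have h4 : piCoreIn {r} N ⊓ Q = ⊥ :=
      piGrp_inf_eq_bot (π := {r}) (π' := {p})
        (fun q h1 h2 => hrp (by rw [Set.mem_singleton_iff] at h1 h2; rw [← h1, ← h2]))
        (piCoreIn_piGrp {r} N) (piCoreIn_piGrp {p} K)
    rw [eq_bot_iff, ← h4]
    exact le_inf le_rfl (h3.trans inf_le_left)

end Cfsg.Agent.helper7
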