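import Mathlib
import Cfsg.Prelude.Def_Local
import Cfsg.Agent.Lib_helper7_Quot

set_option autoImplicit false

namespace Cfsg.Agent.helper7

variable {G : Type*} [Group G]

/-- Internal form of `IsPComponent`. -/
theorem isPComponent_iff {p : ℕ} {K : Subgroup G} :
    Cfsg.IsPComponent p K ↔
      SN K ⊤ ∧ Comp (K.map (QuotientGroup.mk' (Cfsg.pPrimeCore p G))) ⊤ ∧
        ∀ H : Subgroup G, SN H ⊤ → H ≤ K →
          H.map (QuotientGroup.mk' (Cfsg.pPrimeCore p G)) =
            K.map (QuotientGroup.mk' (Cfsg.pPrimeCore p G)) → H = K := by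
  unfold Cfsg.IsPComponent
  rw [sn_top_iff, isComponent_iff]
  constructor
  · rintro ⟨h1, h2, h3⟩
    exact ⟨h1, h2, fun H hH => h3 H (sn_top_iff.1 hH)⟩
  · rintro ⟨h1, h2, h3⟩
    exact ⟨h1, h2, fun H hH => h3 H (sn_top_iff.2 hH)⟩

theorem map_eq_bot_of_le_pPrimeCore {p : ℕ} {H : Subgroup G} (h : H ≤ Cfsg.pPrimeCore p G) :
    H.map (QuotientGroup.mk' (Cfsg.pPrimeCore p G)) = ⊥ := by
  rw [Subgroup.map_eq_bot_iff, ker_mk_pPrimeCore]
  exact h

theorem le_pPrimeCore_of_map_eq_bot {p : ℕ} {H : Subgroup G}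
    (h : H.map (QuotientGroup.mk' (Cfsg.pPrimeCore p G)) = ⊥) : H ≤ Cfsg.pPrimeCore p G := by
  rw [Subgroup.map_eq_bot_iff, ker_mk_pPrimeCore] at h
  exact h

section
variable [Finite G] {p : ℕ} {K : Subgroup G}

/-- A `p`-component is perfect. -/
theorem pcomp_perfect (hK : Cfsg.IsPComponent p K) : ⁅K, K⁆ = K := by
  obtain ⟨h1, h2, h3⟩ := isPComponent_iff.1 hK
  apply h3
  · exact (SN.of_normal (Subgroup.commutator_le_self K) comm_normal_self).trans h1
  · exact Subgroup.commutator_le_self K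
  · rw [Subgroup.map_commutator, h2.2.1]

/-- A `p`-component is not contained in `O_{p'}(G)`. -/
theorem pcomp_not_le_core (hK : Cfsg.IsPComponent p K) : ¬ K ≤ Cfsg.pPrimeCore p G := by
  obtain ⟨h1, h2, h3⟩ := isPComponent_iff.1 hK
  intro h
  exact h2.2.2.1 (map_eq_bot_of_le_pPrimeCore h)

/-- The order of a `p`-component is divisible by `p`. -/
theorem pcomp_dvd_card (hp : p.Prime) (hK : Cfsg.IsPComponent p K) : p ∣ Nat.card ↥K := by
  obtain ⟨h1, h2, h3⟩ := isPComponent_iff.1 hK
  by_contra hnd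
  have hcop : (Nat.card ↥K).Coprime p := (Nat.Coprime.symm ((Nat.Prime.coprime_iff_not_dvd hp).2 hnd))
  exact pcomp_not_le_core hK (le_pPrimeCore_of_sn hp h1 ((coprime_card_iff_piGrp hp).1 hcop))

/-- A perfect subnormal subgroup of a `p`-component `K`, not contained in `O_{p'}(G)`, is `K`. -/
theorem pcomp_eq_of_perfect (hK : Cfsg.IsPComponent p K) {H : Subgroup G} (hH : SN H ⊤)
    (hHK : H ≤ K) (hperf : ⁅H, H⁆ = H) (hnc : ¬ H ≤ Cfsg.pPrimeCore p G) : H = K := by
  obtain ⟨h1, h2, h3⟩ := isPComponent_iff.1 hK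
  have hsn : SN H K := hH.of_le hHK le_top
  rcases h2.2.sn_cases (hsn.map (QuotientGroup.mk' (Cfsg.pPrimeCore p G))) with h | h
  · exact h3 H hH hHK h
  · exfalso
    apply hnc
    apply le_pPrimeCore_of_map_eq_bot
    have h4 : H.map (QuotientGroup.mk' (Cfsg.pPrimeCore p G)) ≤
        Subgroup.centralizer ((H.map (QuotientGroup.mk' (Cfsg.pPrimeCore p G)) : Subgroup _) : Set _) :=
      h.trans (Subgroup.centralizer_le (Subgroup.map_mono hHK))
    have h5 := Subgroup.commutator_eq_bot_iff_le_centralizer.2 h4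
    rw [← Subgroup.map_commutator, hperf] at h5
    exact h5

/-- A normal subgroup `M` of a `p`-component `K` is `K` or satisfies `[M, K] ≤ O_{p'}(G)`. -/
theorem pcomp_normal_cases (hK : Cfsg.IsPComponent p K) {M : Subgroup G} (hMK : M ≤ K)
    (hn : K ≤ Subgroup.normalizer (M : Set G)) : M = K ∨ ⁅M, K⁆ ≤ Cfsg.pPrimeCore p G := by
  obtain ⟨h1, h2, h3⟩ := isPComponent_iff.1 hK
  have hsn : SN M K := SN.of_normal hMK hn
  rcases h2.2.sn_cases (hsn.map (QuotientGroup.mk' (Cfsg.pPrimeCore p G))) with h | h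
  · left; exact h3 M (hsn.trans h1) hMK h
  · right
    apply le_pPrimeCore_of_map_eq_bot
    rw [Subgroup.map_commutator]
    exact Subgroup.commutator_eq_bot_iff_le_centralizer.2 h

/-- For `K` subnormal in `G`: `O_{p'}(K) = O_{p'}(G) ∩ K`. -/
theorem map_pPrimeCore_of_sn (hp : p.Prime) (h : SN K ⊤) :
    (Cfsg.pPrimeCore p ↥K).map K.subtype = Cfsg.pPrimeCore p G ⊓ K := by
  rw [map_pPrimeCore_eq hp, pPrimeCore_eq hp]
  exact le_antisymm (le_inf (piCoreIn_le_of_sn h) (piCoreIn_le _ K)) (piCoreIn_inf_le h)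

/-- A `p`-component `K` is quasisimple iff `[K, O_{p'}(K)] = 1`. -/
theorem pcomp_QS_iff (hp : p.Prime) (hK : Cfsg.IsPComponent p K) :
    QS K ↔ ⁅K, Cfsg.pPrimeCore p G ⊓ K⁆ = ⊥ := by
  have hn : K ≤ Subgroup.normalizer ((Cfsg.pPrimeCore p G ⊓ K : Subgroup G) : Set G) := by
    intro k hk
    apply mem_normalizer_of_cj_eq
    rw [cj_inf, cj_eq_of_mem_normalizer (Subgroup.le_normalizer hk)]
    congr 1
    apply cj_eq_of_mem_normalizer
    rw [Subgroup.normalizer_eq_top]
    exact Subgroup.mem_top k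
  constructor
  · intro hqs
    rcases hqs.2.2 _ inf_le_right hn with h | h
    · exfalso
      apply pcomp_not_le_core hK
      rw [← h]; exact inf_le_left
    · rw [Subgroup.commutator_comm]
      exact Subgroup.commutator_eq_bot_iff_le_centralizer.2 h
  · intro h
    have hc : Cfsg.pPrimeCore p G ⊓ K ≤ Subgroup.centralizer (K : Set G) := by
      rw [Subgroup.commutator_comm] at h
      exact Subgroup.commutator_eq_bot_iff_le_centralizer.1 h
    refine ⟨pcomp_perfect hK, ?_, ?_⟩
    · intro hbot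
      apply pcomp_not_le_core hK
      rw [hbot]; exact bot_le
    · intro M hMK hMn
      rcases pcomp_normal_cases hK hMK hMn with h1 | h1
      · left; exact h1
      · right
        have h2 : ⁅M, K⁆ ≤ Subgroup.centralizer (K : Set G) := by
          refine le_trans (le_inf h1 ?_) hc
          exact (Subgroup.commutator_mono hMK le_rfl).trans (Subgroup.commutator_le_self K)
        have e1 : ⁅⁅M, K⁆, K⁆ = ⊥ := Subgroup.commutator_eq_bot_iff_le_centralizer.2 h2
        have e2 : ⁅⁅K, M⁆, K⁆ = ⊥ := by rw [Subgroup.commutator_comm K M]; exact e1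
        have e3 : ⁅⁅K, K⁆, M⁆ = ⊥ := Subgroup.commutator_commutator_eq_bot_of_rotate e2 e1
        rw [pcomp_perfect hK] at e3
        exact Subgroup.le_centralizer_iff.1 (Subgroup.commutator_eq_bot_iff_le_centralizer.1 e3)

end

/-! ### Transfer into the centre of a perfect group -/

theorem perfect_pow_index_center (H : Type*) [Group H] [Finite H] [Group.IsPerfect H] (h : H) :
    h ^ (Subgroup.center H).index = 1 := by
  have h1 : commutator H ≤ (MonoidHom.transferCenterPow H).ker := by
    rw [commutator_def, Subgroup.commutator_le]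
    intro a _ b _
    rw [MonoidHom.mem_ker, commutatorElement_def, map_mul, map_mul, map_mul, map_inv, map_inv]
    have hc : MonoidHom.transferCenterPow H a * MonoidHom.transferCenterPow H b =
        MonoidHom.transferCenterPow H b * MonoidHom.transferCenterPow H a := by
      apply Subtype.ext
      have := Subgroup.mem_center_iff.1 (MonoidHom.transferCenterPow H a).2
        (MonoidHom.transferCenterPow H b : H)
      exact this.symm
    rw [hc]
    group
  rw [Group.IsPerfect.commutator_eq_top] at h1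
  have h2 : MonoidHom.transferCenterPow H h = 1 := h1 (Subgroup.mem_top h)
  have h3 := MonoidHom.transferCenterPow_apply (G := H) h
  rw [h2] at h3
  exact h3.symm

theorem index_center_coprime (H : Type*) [Group H] [Finite H] {p m : ℕ} (hp : p.Prime)
    (hm : m.Coprime p) (hpow : ∀ h : H, h ^ m ∈ Subgroup.center H) :
    ((Subgroup.center H).index).Coprime p := by
  haveI : Fact p.Prime := ⟨hp⟩
  rw [Nat.coprime_comm, Nat.Prime.coprime_iff_not_dvd hp]
  intro hdvd
  rw [Subgroup.index_eq_card] at hdvd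
  obtain ⟨x, hx⟩ := exists_prime_orderOf_dvd_card' p hdvd
  obtain ⟨y, rfl⟩ := QuotientGroup.mk_surjective x
  have h1 : (QuotientGroup.mk y : H ⧸ Subgroup.center H) ^ m = 1 := by
    rw [← QuotientGroup.mk_pow]
    exact (QuotientGroup.eq_one_iff _).2 (hpow y)
  have h2 : p ∣ m := by
    rw [← hx]; exact orderOf_dvd_of_pow_eq_one h1
  have h3 : p ∣ 1 := by
    have := Nat.dvd_gcd h2 (dvd_refl p)
    rwa [hm.gcd_eq_one] at this
  exact hp.one_lt.ne' (Nat.dvd_one.1 h3)

/-- In a finite group `Q` with `O_{p'}(Q) = 1`, a quasisimple subnormal subgroup `L` cannot have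
`L / Z` of exponent prime to `p` for a central subgroup `Z`. -/
theorem comp_not_pprime_mod_center {Q : Type*} [Group Q] [Finite Q] {p m : ℕ} (hp : p.Prime)
    (hO : Cfsg.pPrimeCore p Q = ⊥) {L : Subgroup Q} (hL : Comp L ⊤) (hm : m.Coprime p)
    (hpow : ∀ y ∈ L, y ^ m ∈ Subgroup.centralizer (L : Set Q)) : False := by
  haveI : Group.IsPerfect ↥L := Subgroup.isPerfect_iff.2 hL.2.1
  -- no `p'`-torsion in `Z(L)`
  have hb : ∀ w ∈ L ⊓ Subgroup.centralizer (L : Set Q), ∀ n : ℕ, n.Coprime p → w ^ n = 1 →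
      w = 1 := by
    intro w hw n hn hwn
    have h1 : Subgroup.zpowers w ≤ L := (Subgroup.zpowers_le).2 (Subgroup.mem_inf.1 hw).1
    have h2 : SN (Subgroup.zpowers w) ⊤ := by
      refine (SN.of_normal h1 ?_).trans hL.1
      have hcent : ∀ z ∈ Subgroup.zpowers w, ∀ l ∈ L, l * z = z * l := by
        intro z hz l hl
        have hz' : z ∈ Subgroup.centralizer (L : Set Q) := by
          have h3 : Subgroup.zpowers w ≤ Subgroup.centralizer (L : Set Q) :=
            (Subgroup.zpowers_le).2 (Subgroup.mem_inf.1 hw).2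
          exact h3 hz
        rw [Subgroup.mem_centralizer_iff] at hz'
        exact hz' l hl
      intro l hl
      rw [Subgroup.mem_normalizer_iff]
      intro z
      constructor
      · intro hz
        have : l * z * l⁻¹ = z := by rw [hcent z hz l hl]; group
        rw [this]; exact hz
      · intro hz
        have h5 := hcent _ hz l⁻¹ (L.inv_mem hl)
        have : z = l⁻¹ * (l * z * l⁻¹) * l := by group
        rw [this, h5]
        have e : l * z * l⁻¹ * l⁻¹ * l = l * z * l⁻¹ := by group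
        rw [e]; exact hz
    have h3 : PiGrp {q | q ≠ p} (Subgroup.zpowers w) := by
      intro x hx q hq hdvd
      obtain ⟨k, rfl⟩ := hx
      have h4 : orderOf (w ^ k) ∣ n := by
        apply orderOf_dvd_of_pow_eq_one
        rw [← zpow_natCast, ← zpow_mul, mul_comm, zpow_mul, zpow_natCast, hwn, one_zpow]
      intro hqp
      subst hqp
      have h5 : q ∣ 1 := by
        have := Nat.dvd_gcd (dvd_trans hdvd h4) (dvd_refl q)
        rwa [hn.gcd_eq_one] at this
      exact hq.one_lt.ne' (Nat.dvd_one.1 h5)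
    have h4 := le_pPrimeCore_of_sn hp h2 h3
    rw [hO] at h4
    exact (Subgroup.mem_bot.1 (h4 (Subgroup.mem_zpowers w)))
  -- the index of the centre is prime to `p`
  have hidx : ((Subgroup.center ↥L).index).Coprime p := by
    apply index_center_coprime ↥L hp hm
    intro y
    rw [Subgroup.mem_center_iff]
    intro g
    have := hpow y y.2
    rw [Subgroup.mem_centralizer_iff] at this
    have h1 := this g g.2
    apply Subtype.ext
    simpa using h1
  -- the centre is trivial
  have hZ : ∀ z ∈ L ⊓ Subgroup.centralizer (L : Set Q), z = 1 := by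
    intro z hz
    apply hb z hz _ hidx
    have := perfect_pow_index_center ↥L ⟨z, (Subgroup.mem_inf.1 hz).1⟩
    have h1 := congrArg Subtype.val this
    simpa using h1
  -- so `L` has exponent dividing `m`
  have hexp : ∀ y ∈ L, y ^ m = 1 := fun y hy =>
    hZ _ (Subgroup.mem_inf.2 ⟨L.pow_mem hy m, hpow y hy⟩)
  have hLp : PiGrp {q | q ≠ p} L := by
    intro y hy q hq hdvd hqp
    subst hqp
    have h4 : orderOf y ∣ m := orderOf_dvd_of_pow_eq_one (hexp y hy)
    have h5 : q ∣ 1 := by
      have := Nat.dvd_gcd (dvd_trans hdvd h4) (dvd_refl q)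
      rwa [hm.gcd_eq_one] at this
    exact hq.one_lt.ne' (Nat.dvd_one.1 h5)
  have := le_pPrimeCore_of_sn hp hL.1 hLp
  rw [hO] at this
  exact hL.2.2.1 (le_bot_iff.1 this)

section
variable [Finite G] {p : ℕ} {K : Subgroup G}

/-- A `p`-component has no proper normal subgroup with quotient of exponent prime to `p`. -/
theorem pcomp_eq_of_pprime_quotient (hp : p.Prime) (hK : Cfsg.IsPComponent p K) {M : Subgroup G}
    (hMK : M ≤ K) (hn : K ≤ Subgroup.normalizer (M : Set G)) {m : ℕ} (hm : m.Coprime p)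
    (hpow : ∀ k ∈ K, k ^ m ∈ M) : M = K := by
  rcases pcomp_normal_cases hK hMK hn with h | h
  · exact h
  exfalso
  obtain ⟨h1, h2, h3⟩ := isPComponent_iff.1 hK
  apply comp_not_pprime_mod_center hp (pPrimeCore_quotient_eq_bot hp) h2 hm
  rintro _ ⟨k, hk, rfl⟩
  rw [← map_pow]
  have h4 : M.map (QuotientGroup.mk' (Cfsg.pPrimeCore p G)) ≤
      Subgroup.centralizer ((K.map (QuotientGroup.mk' (Cfsg.pPrimeCore p G)) : Subgroup _) : Set _) := by
    rw [← Subgroup.commutator_eq_bot_iff_le_centralizer, ← Subgroup.map_commutator]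
    exact map_eq_bot_of_le_pPrimeCore h
  exact h4 (Subgroup.mem_map_of_mem _ (hpow k hk))

end

end Cfsg.Agent.helper7
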