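import Mathlib
import Cfsg.Prelude.Def_Local
import Cfsg.Agent.Lib_helper7_PComp
import Cfsg.Agent.Lib_helper7_Stab

set_option autoImplicit false

namespace Cfsg.Agent.helper7

variable {G : Type*} [Group G]

/-- If `H` is subnormal in `M ≤ H O` with `O` a normal `p'`-subgroup, then every `p`-element of `M`
lies in `H`. -/
theorem pElement_mem_of_sn [Finite G] {p : ℕ} (hp : p.Prime) {O : Subgroup G}
    (hOn : ∀ g : G, g ∈ Subgroup.normalizer (O : Set G)) (hO : PiGrp {q | q ≠ p} O)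
    {H M : Subgroup G} (h : SN H M) :
    M ≤ O ⊔ H → ∀ x ∈ M, ∀ k : ℕ, x ^ p ^ k = 1 → x ∈ H := by
  induction h with
  | refl K => intro _ x hx _ _; exact hx
  | step H K' M hHK hn _ ih =>
    intro hM x hx k hxk
    have hxK' : x ∈ K' := ih (hM.trans (sup_le_sup_left hHK O)) x hx k hxk
    obtain ⟨o, ho, h, hh, rfl⟩ := mem_sup_of_normalizer (N₁ := O) (N₂ := H)
      (fun g _ => hOn g) (hM hx)
    have hoK' : o ∈ K' := by
      have : o = (o * h) * h⁻¹ := by group
      rw [this]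
      exact K'.mul_mem hxK' (K'.inv_mem (hHK hh))
    haveI : (H.subgroupOf K').Normal := Subgroup.normal_subgroupOf_of_le_normalizer hn
    set φ := QuotientGroup.mk' (H.subgroupOf K') with hφ
    have e : φ ⟨o * h, hxK'⟩ = φ ⟨o, hoK'⟩ := by
      rw [hφ, QuotientGroup.mk'_apply, QuotientGroup.mk'_apply, QuotientGroup.eq,
        Subgroup.mem_subgroupOf]
      have : (((⟨o * h, hxK'⟩ : ↥K')⁻¹ * ⟨o, hoK'⟩ : ↥K') : G) = h⁻¹ := by
        show (o * h)⁻¹ * o = h⁻¹
        group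
      rw [this]
      exact H.inv_mem hh
    have h1 : orderOf (φ ⟨o * h, hxK'⟩) ∣ p ^ k := by
      apply orderOf_dvd_of_pow_eq_one
      rw [← map_pow]
      have : (⟨o * h, hxK'⟩ : ↥K') ^ p ^ k = 1 := Subtype.ext (by simpa using hxk)
      rw [this, map_one]
    have h2 : orderOf (φ ⟨o, hoK'⟩) ∣ orderOf o := by
      have := orderOf_map_dvd φ (⟨o, hoK'⟩ : ↥K')
      rwa [Subgroup.orderOf_mk] at this
    have hcop : (orderOf o).Coprime p := by
      rw [Nat.coprime_comm, Nat.Prime.coprime_iff_not_dvd hp]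
      intro hdvd
      exact hO o ho p hp hdvd rfl
    rw [e] at h1
    have h3 : orderOf (φ ⟨o, hoK'⟩) ∣ 1 := by
      have := Nat.dvd_gcd h2 h1
      rwa [(Nat.Coprime.pow_right k hcop).gcd_eq_one] at this
    rw [Nat.dvd_one, orderOf_eq_one_iff, ← e, hφ, QuotientGroup.mk'_apply,
      QuotientGroup.eq_one_iff, Subgroup.mem_subgroupOf] at h3
    exact h3

section
variable [Finite G] {p : ℕ}

/-- A `p`-component is generated by its `p`-elements. -/
theorem pcomp_closure_pElements (hp : p.Prime) {K : Subgroup G} (hK : Cfsg.IsPComponent p K) :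
    Subgroup.closure {x : G | x ∈ K ∧ ∃ k : ℕ, x ^ p ^ k = 1} = K := by
  set S : Set G := {x : G | x ∈ K ∧ ∃ k : ℕ, x ^ p ^ k = 1} with hS
  have hMK : Subgroup.closure S ≤ K := (Subgroup.closure_le K).2 (fun x hx => hx.1)
  have hn : K ≤ Subgroup.normalizer ((Subgroup.closure S : Subgroup G) : Set G) := by
    intro g hg
    apply mem_normalizer_of_cj_eq
    have hconj : ∀ g ∈ K, cj g (Subgroup.closure S) ≤ Subgroup.closure S := by
      intro g hg
      unfold cj
      rw [Subgroup.map_le_iff_le_comap, Subgroup.closure_le]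
      rintro x ⟨hxK, k, hxk⟩
      apply Subgroup.subset_closure
      refine ⟨?_, k, ?_⟩
      · exact K.mul_mem (K.mul_mem hg hxK) (K.inv_mem hg)
      · show (g * x * g⁻¹) ^ p ^ k = 1
        rw [conj_pow, hxk]; group
    apply le_antisymm (hconj g hg)
    have := cj_mono (g := g) (hconj g⁻¹ (K.inv_mem hg))
    rwa [cj_cj_inv] at this
  -- the `p'`-part of `|K|`
  obtain ⟨a, m, hm, hcard⟩ := Nat.exists_eq_pow_mul_and_not_dvd (Nat.card_pos (α := ↥K)).ne' p
    hp.ne_one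
  have hmcop : m.Coprime p := (Nat.Coprime.symm ((Nat.Prime.coprime_iff_not_dvd hp).2 hm))
  apply pcomp_eq_of_pprime_quotient hp hK hMK hn hmcop
  intro k hk
  apply Subgroup.subset_closure
  refine ⟨K.pow_mem hk m, a, ?_⟩
  rw [← pow_mul, mul_comm, ← hcard]
  exact pow_card_subgroup_eq_one hk

/-- Uniqueness of the `p`-component over a component of `G / O_{p'}(G)`. -/
theorem pcomp_le_of_map_eq (hp : p.Prime) {K₁ K₂ : Subgroup G} (h₁ : Cfsg.IsPComponent p K₁)
    (h₂ : Cfsg.IsPComponent p K₂)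
    (h : K₁.map (QuotientGroup.mk' (Cfsg.pPrimeCore p G)) =
      K₂.map (QuotientGroup.mk' (Cfsg.pPrimeCore p G))) : K₁ ≤ K₂ := by
  rw [← pcomp_closure_pElements hp h₁, Subgroup.closure_le]
  rintro x ⟨hxK, k, hxk⟩
  have hle : K₁ ≤ Cfsg.pPrimeCore p G ⊔ K₂ := by
    have h3 : K₁ ≤ (K₁.map (QuotientGroup.mk' (Cfsg.pPrimeCore p G))).comap
        (QuotientGroup.mk' (Cfsg.pPrimeCore p G)) := Subgroup.le_comap_map _ _
    rw [h, Subgroup.comap_map_eq, ker_mk_pPrimeCore, sup_comm] at h3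
    exact h3
  have hsn : SN K₂ (Cfsg.pPrimeCore p G ⊔ K₂) :=
    (sn_top_iff.2 h₂.1).of_le le_sup_right le_top
  have hOn : ∀ g : G, g ∈ Subgroup.normalizer ((Cfsg.pPrimeCore p G : Subgroup G) : Set G) := by
    intro g
    rw [Subgroup.normalizer_eq_top]
    exact Subgroup.mem_top g
  exact pElement_mem_of_sn hp hOn (pPrimeCore_piGrp hp) hsn le_rfl x (hle hxK) k hxk

theorem pcomp_eq_of_map_eq (hp : p.Prime) {K₁ K₂ : Subgroup G} (h₁ : Cfsg.IsPComponent p K₁)
    (h₂ : Cfsg.IsPComponent p K₂)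
    (h : K₁.map (QuotientGroup.mk' (Cfsg.pPrimeCore p G)) =
      K₂.map (QuotientGroup.mk' (Cfsg.pPrimeCore p G))) : K₁ = K₂ :=
  le_antisymm (pcomp_le_of_map_eq hp h₁ h₂ h) (pcomp_le_of_map_eq hp h₂ h₁ h.symm)

/-- Existence of a `p`-component over a component of `G / O_{p'}(G)`. -/
theorem exists_pcomp_of_comp {Kbar : Subgroup (G ⧸ Cfsg.pPrimeCore p G)} (hKbar : Comp Kbar ⊤) :
    ∃ K : Subgroup G, Cfsg.IsPComponent p K ∧
      K.map (QuotientGroup.mk' (Cfsg.pPrimeCore p G)) = Kbar := by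
  classical
  set π := QuotientGroup.mk' (Cfsg.pPrimeCore p G) with hπ
  have hsurj : Function.Surjective π := QuotientGroup.mk'_surjective _
  have hex : ∃ n : ℕ, ∃ H : Subgroup G, (SN H ⊤ ∧ H.map π = Kbar) ∧ Nat.card ↥H = n :=
    ⟨_, Kbar.comap π, ⟨sn_top_comap π hKbar.1, Subgroup.map_comap_eq_self_of_surjective hsurj _⟩,
      rfl⟩
  obtain ⟨H₀, ⟨hsn, hmap⟩, hcard⟩ := Nat.find_spec hex
  refine ⟨H₀, ?_, hmap⟩
  rw [isPComponent_iff]
  refine ⟨hsn, by rw [hmap]; exact hKbar, ?_⟩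
  intro H hH hle hHmap
  apply Subgroup.eq_of_le_of_card_ge hle
  rw [hcard]
  exact Nat.find_min' hex ⟨H, ⟨hH, hHmap.trans hmap⟩, rfl⟩

/-- The image of the `p`-layer in `G / O_{p'}(G)` is the layer. -/
theorem map_pLayer_eq :
    (Cfsg.pLayer p G).map (QuotientGroup.mk' (Cfsg.pPrimeCore p G)) =
      Cfsg.layer (G ⧸ Cfsg.pPrimeCore p G) := by
  apply le_antisymm
  · unfold Cfsg.pLayer
    rw [Subgroup.map_le_iff_le_comap]
    apply sSup_le
    intro K hK
    rw [← Subgroup.map_le_iff_le_comap]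
    exact le_sSup hK.2.1
  · unfold Cfsg.layer
    apply sSup_le
    intro Kbar hKbar
    obtain ⟨K, hK, rfl⟩ := exists_pcomp_of_comp (isComponent_iff.1 hKbar)
    exact Subgroup.map_mono (le_sSup hK)

end

end Cfsg.Agent.helper7
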