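import Mathlib
import Cfsg.Prelude.Def_Local
import Cfsg.Agent.Lib_helper7_PComp2

set_option autoImplicit false

namespace Cfsg.Agent.helper7

variable {G : Type*} [Group G] {G' : Type*} [Group G']

theorem map_cj (f : G →* G') (g : G) (H : Subgroup G) : (cj g H).map f = cj (f g) (H.map f) := by
  unfold cj
  rw [Subgroup.map_map, Subgroup.map_map]
  congr 1
  ext x
  simp [map_mul, map_inv]

theorem cj_top (g : G) : cj g (⊤ : Subgroup G) = ⊤ := by
  rw [eq_top_iff]
  intro x _
  rw [mem_cj]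
  exact Subgroup.mem_top _

theorem SN.conj_top {H : Subgroup G} (h : SN H ⊤) (g : G) : SN (cj g H) ⊤ := by
  have := h.conj g
  rwa [cj_top] at this

theorem Comp.conj_top {L : Subgroup G} (h : Comp L ⊤) (g : G) : Comp (cj g L) ⊤ := by
  have := h.conj g
  rwa [cj_top] at this

/-- Conjugates of `p`-components are `p`-components. -/
theorem pcomp_conj {p : ℕ} {K : Subgroup G} (hK : Cfsg.IsPComponent p K) (g : G) :
    Cfsg.IsPComponent p (cj g K) := by
  obtain ⟨h1, h2, h3⟩ := isPComponent_iff.1 hK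
  rw [isPComponent_iff]
  refine ⟨h1.conj_top g, ?_, ?_⟩
  · rw [map_cj]
    exact h2.conj_top _
  · intro H hH hle hmap
    have h4 : cj g⁻¹ H = K := by
      apply h3
      · exact hH.conj_top g⁻¹
      · rw [cj_le_iff, inv_inv]; exact hle
      · rw [map_cj, hmap, map_cj, map_inv, cj_inv_cj]
    rw [← h4, cj_cj_inv]

/-- `p`-components normalize each other. -/
theorem pcomp_le_normalizer [Finite G] {p : ℕ} (hp : p.Prime) {K K₁ : Subgroup G}
    (hK : Cfsg.IsPComponent p K) (hK₁ : Cfsg.IsPComponent p K₁) :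
    K₁ ≤ Subgroup.normalizer (K : Set G) := by
  obtain ⟨h1, h2, h3⟩ := isPComponent_iff.1 hK
  obtain ⟨h1', h2', h3'⟩ := isPComponent_iff.1 hK₁
  by_cases heq : K₁.map (QuotientGroup.mk' (Cfsg.pPrimeCore p G)) =
      K.map (QuotientGroup.mk' (Cfsg.pPrimeCore p G))
  · rw [pcomp_eq_of_map_eq hp hK₁ hK heq]
    exact Subgroup.le_normalizer
  · intro g hg
    apply mem_normalizer_of_cj_eq
    apply pcomp_eq_of_map_eq hp (pcomp_conj hK g) hK
    rw [map_cj]
    apply cj_eq_of_mem_normalizer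
    have hc := h2'.comm_of_ne h2 heq
    have h4 : K₁.map (QuotientGroup.mk' (Cfsg.pPrimeCore p G)) ≤
        Subgroup.centralizer ((K.map (QuotientGroup.mk' (Cfsg.pPrimeCore p G)) : Subgroup _) : Set _) :=
      Subgroup.commutator_eq_bot_iff_le_centralizer.1 hc
    exact Subgroup.centralizer_le_normalizer _ (h4 (Subgroup.mem_map_of_mem _ hg))

/-- The `p`-layer normalizes every `p`-component. -/
theorem pLayer_le_normalizer [Finite G] {p : ℕ} (hp : p.Prime) {K : Subgroup G}
    (hK : Cfsg.IsPComponent p K) : Cfsg.pLayer p G ≤ Subgroup.normalizer (K : Set G) := by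
  unfold Cfsg.pLayer
  apply sSup_le
  intro K₁ hK₁
  exact pcomp_le_normalizer hp hK hK₁

theorem pcomp_le_pLayer {p : ℕ} {K : Subgroup G} (hK : Cfsg.IsPComponent p K) :
    K ≤ Cfsg.pLayer p G := le_sSup hK

end Cfsg.Agent.helper7
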