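import Mathlib
import Cfsg.Prelude.Def_Local
import Cfsg.Agent.Lib_helper7_PComp3

set_option autoImplicit false

namespace Cfsg.Agent.helper7

variable {G : Type*} [Group G] {G' : Type*} [Group G']

/-- A homomorphic image of a quasisimple subgroup is trivial or quasisimple. -/
theorem QS.map (f : G →* G') {L : Subgroup G} (h : QS L) : L.map f = ⊥ ∨ QS (L.map f) := by
  by_cases hb : L.map f = ⊥
  · left; exact hb
  right
  refine ⟨by rw [← Subgroup.map_commutator, h.1], hb, ?_⟩
  intro Mbar hle hn
  set M : Subgroup G := L ⊓ Mbar.comap f with hM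
  have hn' : L ≤ Subgroup.normalizer (M : Set G) := by
    intro l hl
    apply Subgroup.inf_normalizer_le_normalizer_inf
    refine Subgroup.mem_inf.2 ⟨Subgroup.le_normalizer hl, ?_⟩
    apply Subgroup.le_normalizer_comap f
    rw [Subgroup.mem_comap]
    exact hn (Subgroup.mem_map_of_mem f hl)
  rcases h.2.2 M inf_le_left hn' with h1 | h1
  · left
    apply le_antisymm hle
    rw [Subgroup.map_le_iff_le_comap]
    rw [← h1]
    exact inf_le_right
  · right
    intro x hx
    obtain ⟨l, hl, rfl⟩ := hle hx
    have hlM : l ∈ M := Subgroup.mem_inf.2 ⟨hl, hx⟩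
    have hlc := h1 hlM
    rw [Subgroup.mem_centralizer_iff] at hlc ⊢
    rintro _ ⟨l', hl', rfl⟩
    rw [← map_mul, ← map_mul, hlc l' hl']

/-- The image of a component under a surjective homomorphism is trivial or a component. -/
theorem Comp.map_top {f : G →* G'} (hf : Function.Surjective f) {L : Subgroup G}
    (h : Comp L ⊤) : L.map f = ⊥ ∨ Comp (L.map f) ⊤ := by
  rcases h.2.map f with h1 | h1
  · left; exact h1
  · right; exact ⟨sn_top_map hf h.1, h1⟩

/-- The image of the layer lies in the layer of the image. -/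
theorem map_layerOf_le {f : G →* G'} (hf : Function.Surjective f) :
    (layerOf (⊤ : Subgroup G)).map f ≤ layerOf (⊤ : Subgroup G') := by
  unfold layerOf
  rw [Subgroup.map_le_iff_le_comap]
  apply sSup_le
  intro L hL
  rw [← Subgroup.map_le_iff_le_comap]
  rcases hL.map_top hf with h1 | h1
  · rw [h1]; exact bot_le
  · exact le_sSup h1

/-- `π(E(X)) = E(X / O_{p'}(X))` iff every `p`-component is a component. -/
theorem map_layer_eq_iff [Finite G] {p : ℕ} (hp : p.Prime) :
    (Cfsg.layer G).map (QuotientGroup.mk' (Cfsg.pPrimeCore p G)) =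
      Cfsg.layer (G ⧸ Cfsg.pPrimeCore p G) ↔ Cfsg.pLayer p G ≤ Cfsg.layer G := by
  have hsurj : Function.Surjective (QuotientGroup.mk' (Cfsg.pPrimeCore p G)) :=
    QuotientGroup.mk'_surjective _
  constructor
  · intro h
    unfold Cfsg.pLayer
    apply sSup_le
    intro K hK
    obtain ⟨h1, h2, h3⟩ := isPComponent_iff.1 hK
    by_cases hA : ∃ L : Subgroup G, Comp L ⊤ ∧ L ≤ K ∧ ¬ L ≤ Cfsg.pPrimeCore p G
    · obtain ⟨L, hL, hLK, hLO⟩ := hA
      have := pcomp_eq_of_perfect hK hL.1 hLK hL.2.1 hLO
      rw [← this, layer_eq_layerOf]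
      exact comp_le_layerOf hL
    · exfalso
      push Not at hA
      have hcent : (Cfsg.layer G).map (QuotientGroup.mk' (Cfsg.pPrimeCore p G)) ≤
          Subgroup.centralizer
            ((K.map (QuotientGroup.mk' (Cfsg.pPrimeCore p G)) : Subgroup _) : Set _) := by
        unfold Cfsg.layer
        rw [Subgroup.map_le_iff_le_comap]
        apply sSup_le
        intro L hL
        rw [← Subgroup.map_le_iff_le_comap]
        have hL' : Comp L ⊤ := isComponent_iff.1 hL
        rcases comp_le_or_comm hL'.1 hL'.2 h1 with h4 | h4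
        · rw [map_eq_bot_of_le_pPrimeCore (hA L hL' h4)]
          exact bot_le
        · rw [← Subgroup.commutator_eq_bot_iff_le_centralizer, ← Subgroup.map_commutator, h4,
            Subgroup.map_bot]
      rw [h] at hcent
      have hK' : K.map (QuotientGroup.mk' (Cfsg.pPrimeCore p G)) ≤
          Cfsg.layer (G ⧸ Cfsg.pPrimeCore p G) := le_sSup (isComponent_iff.2 h2)
      exact h2.2.not_abelian (hK'.trans hcent)
  · intro h
    apply le_antisymm
    · rw [layer_eq_layerOf, layer_eq_layerOf]
      exact map_layerOf_le hsurj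
    · rw [← map_pLayer_eq]
      exact Subgroup.map_mono h

end Cfsg.Agent.helper7
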