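import Mathlib
import Cfsg.Prelude.Def_Local
import Cfsg.Agent.Lib_helper7_PComp4
import Cfsg.Agent.Lib_helper7_Local

set_option autoImplicit false

namespace Cfsg.Agent.helper7

variable {G : Type*} [Group G]

/-- Lifting centralizing elements through a normal `p'`-subgroup `O`: if `π x` centralizes `π P₀`
for a `p`-subgroup `P₀`, then some `y ∈ O x` centralizes `P₀`. -/
theorem exists_lift_centralizer [Finite G] {p : ℕ} (hp : p.Prime) {O : Subgroup G} [O.Normal]
    (hO : (Nat.card ↥O).Coprime p) {P₀ : Subgroup G} (hP₀ : IsPGroup p ↥P₀) (x : G)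
    (hx : ∀ a ∈ P₀, a * x * a⁻¹ * x⁻¹ ∈ O) :
    ∃ y ∈ Subgroup.centralizer (P₀ : Set G), ∃ o ∈ O, y = o * x := by
  haveI : Fact p.Prime := ⟨hp⟩
  set S : Set G := {z : G | ∃ r ∈ O, z = r * x} with hS
  have hinv : ∀ a ∈ P₀, ∀ z ∈ S, a * z * a⁻¹ ∈ S := by
    rintro a ha z ⟨o, ho, rfl⟩
    refine ⟨(a * o * a⁻¹) * (a * x * a⁻¹ * x⁻¹), O.mul_mem ?_ (hx a ha), by group⟩
    exact (inferInstance : O.Normal).conj_mem o ho a
  have hcard : ¬ p ∣ Nat.card ↥S := by
    rw [hS, card_rightCoset]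
    intro hdvd
    have := Nat.dvd_gcd hdvd (dvd_refl p)
    rw [hO.gcd_eq_one] at this
    exact hp.one_lt.ne' (Nat.dvd_one.1 this)
  obtain ⟨y, ⟨o, ho, rfl⟩, hfix⟩ := exists_fixed_of_invariant hP₀ S hinv hcard
  refine ⟨o * x, ?_, o, ho, rfl⟩
  rw [Subgroup.mem_centralizer_iff]
  intro a ha
  have := hfix a ha
  calc a * (o * x) = (a * (o * x) * a⁻¹) * a := by group
    _ = o * x * a := by rw [this]

/-- If `π(T)` is a `p`-group, a Sylow `p`-subgroup of `T` maps onto `π(T)`. -/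
theorem map_sylow_eq_of_isPGroup [Finite G] {G' : Type*} [Group G'] {p : ℕ} [Fact p.Prime]
    {T : Subgroup G} (π : G →* G') (hRp : IsPGroup p ↥(T.map π)) (P : Sylow p ↥T) :
    ((P : Subgroup ↥T).map T.subtype).map π = T.map π := by
  have hφ : Function.Surjective (π.subgroupMap T) := π.subgroupMap_surjective T
  have htop : ((P.mapSurjective hφ : Sylow p ↥(T.map π)) : Subgroup ↥(T.map π)) = ⊤ :=
    ((P.mapSurjective hφ).is_maximal' (hRp.to_subgroup ⊤) le_top).symm
  rw [Sylow.coe_mapSurjective] at htop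
  apply le_antisymm
  · apply Subgroup.map_mono
    rintro _ ⟨a, _, rfl⟩
    exact a.2
  · intro r hr
    have h1 : (⟨r, hr⟩ : ↥(T.map π)) ∈ (P : Subgroup ↥T).map (π.subgroupMap T) := by
      rw [htop]; exact Subgroup.mem_top _
    obtain ⟨a, ha, hae⟩ := h1
    refine ⟨(a : G), ⟨a, ha, rfl⟩, ?_⟩
    have := congrArg Subtype.val hae
    exact this

theorem map_pPrimePCore_eq (p : ℕ) :
    (Cfsg.pPrimePCore p G).map (QuotientGroup.mk' (Cfsg.pPrimeCore p G)) =
      Cfsg.pCore p (G ⧸ Cfsg.pPrimeCore p G) := by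
  unfold Cfsg.pPrimePCore
  exact Subgroup.map_comap_eq_self_of_surjective (QuotientGroup.mk'_surjective _) _

/-- A Sylow `p`-subgroup of `O_{p',p}(G)` maps onto `O_p(G / O_{p'}(G))`. -/
theorem map_sylow_pPrimePCore [Finite G] {p : ℕ} (hp : p.Prime)
    (P : Sylow p ↥(Cfsg.pPrimePCore p G)) :
    ((P : Subgroup ↥(Cfsg.pPrimePCore p G)).map (Cfsg.pPrimePCore p G).subtype).map
        (QuotientGroup.mk' (Cfsg.pPrimeCore p G)) = Cfsg.pCore p (G ⧸ Cfsg.pPrimeCore p G) := by
  haveI : Fact p.Prime := ⟨hp⟩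
  rw [← map_pPrimePCore_eq]
  apply map_sylow_eq_of_isPGroup
  rw [map_pPrimePCore_eq, pCore_eq hp]
  exact piCoreIn_isPGroup hp ⊤

/-- `G` is `p`-constrained iff its `p`-layer is trivial. -/
theorem isPConstrained_iff [Finite G] {p : ℕ} (hp : p.Prime) :
    Cfsg.IsPConstrained p G ↔ Cfsg.pLayer p G = ⊥ := by
  haveI : Fact p.Prime := ⟨hp⟩
  have hsurj : Function.Surjective (QuotientGroup.mk' (Cfsg.pPrimeCore p G)) :=
    QuotientGroup.mk'_surjective _
  have hmemT : ∀ y : G, QuotientGroup.mk' (Cfsg.pPrimeCore p G) y ∈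
      Cfsg.pCore p (G ⧸ Cfsg.pPrimeCore p G) → y ∈ Cfsg.pPrimePCore p G := by
    intro y hy
    unfold Cfsg.pPrimePCore
    exact hy
  have hRF : Cfsg.pCore p (G ⧸ Cfsg.pPrimeCore p G) ≤
      fitOf (⊤ : Subgroup (G ⧸ Cfsg.pPrimeCore p G)) := by
    rw [pCore_eq hp]; exact piCoreIn_le_fitOf hp ⊤
  constructor
  · intro hc
    rw [eq_bot_iff]
    unfold Cfsg.pLayer
    apply sSup_le
    intro K hK
    exfalso
    obtain ⟨h1, h2, h3⟩ := isPComponent_iff.1 hK
    obtain ⟨P⟩ : Nonempty (Sylow p ↥(Cfsg.pPrimePCore p G)) := inferInstance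
    have hPmap := map_sylow_pPrimePCore hp P
    have hcF : K.map (QuotientGroup.mk' (Cfsg.pPrimeCore p G)) ≤
        Subgroup.centralizer ((fitOf (⊤ : Subgroup (G ⧸ Cfsg.pPrimeCore p G)) : Subgroup _) : Set _) :=
      Subgroup.commutator_eq_bot_iff_le_centralizer.1 h2.comm_fitOf
    have hKR : K.map (QuotientGroup.mk' (Cfsg.pPrimeCore p G)) ≤
        Cfsg.pCore p (G ⧸ Cfsg.pPrimeCore p G) := by
      rintro _ ⟨x, hx, rfl⟩
      have hxc := (hcF.trans (Subgroup.centralizer_le hRF)) (Subgroup.mem_map_of_mem _ hx)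
      rw [← hPmap, Subgroup.mem_centralizer_iff] at hxc
      obtain ⟨y, hy, o, ho, rfl⟩ := exists_lift_centralizer hp (pPrimeCore_coprime hp)
        (P.isPGroup'.map (Cfsg.pPrimePCore p G).subtype) x (by
          intro a ha
          rw [← ker_mk_pPrimeCore p, MonoidHom.mem_ker, map_mul, map_mul, map_mul, map_inv,
            map_inv]
          have := hxc _ (Subgroup.mem_map_of_mem _ ha)
          rw [this]; group)
      have hyT := hc P hy
      have h5 : QuotientGroup.mk' (Cfsg.pPrimeCore p G) (o * x) =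
          QuotientGroup.mk' (Cfsg.pPrimeCore p G) x := by
        rw [map_mul]
        have : QuotientGroup.mk' (Cfsg.pPrimeCore p G) o = 1 := by
          rw [← MonoidHom.mem_ker, ker_mk_pPrimeCore]; exact ho
        rw [this, one_mul]
      rw [← h5, ← map_pPrimePCore_eq]
      exact Subgroup.mem_map_of_mem _ hyT
    exact h2.2.not_abelian (hcF.trans (Subgroup.centralizer_le (hKR.trans hRF)))
  · intro hL P y hy
    apply hmemT
    -- `F*(G / O_{p'}(G)) = O_p(G / O_{p'}(G))`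
    have hE : Cfsg.layer (G ⧸ Cfsg.pPrimeCore p G) = ⊥ := by
      rw [← map_pLayer_eq, hL, Subgroup.map_bot]
    have hF : fstarOf (⊤ : Subgroup (G ⧸ Cfsg.pPrimeCore p G)) = piCoreIn {p} ⊤ := by
      rw [fstarOf_eq_piCoreIn_iff hp]
      constructor
      · intro L hLc
        have : L ≤ Cfsg.layer (G ⧸ Cfsg.pPrimeCore p G) := le_sSup (isComponent_iff.2 hLc)
        rw [hE] at this
        exact hLc.2.2.1 (le_bot_iff.1 this)
      · intro r hr hrp
        have h1 : piCoreIn {r} (⊤ : Subgroup (G ⧸ Cfsg.pPrimeCore p G)) ≤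
            Cfsg.pPrimeCore p (G ⧸ Cfsg.pPrimeCore p G) := by
          apply le_pPrimeCore_of_sn hp
          · exact SN.of_normal le_top (piCoreIn_normal {r} ⊤)
          · intro x hx q hq hdvd
            have := piCoreIn_piGrp {r} (⊤ : Subgroup (G ⧸ Cfsg.pPrimeCore p G)) x hx q hq hdvd
            rw [Set.mem_singleton_iff] at this
            rw [this]
            exact hrp
        rw [pPrimeCore_quotient_eq_bot hp] at h1
        exact le_bot_iff.1 h1
    have hcent := centralizer_fstarOf_le (⊤ : Subgroup (G ⧸ Cfsg.pPrimeCore p G))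
    rw [hF, top_inf_eq, ← pCore_eq hp] at hcent
    apply hcent
    rw [← map_sylow_pPrimePCore hp P]
    rw [Subgroup.mem_centralizer_iff]
    rintro _ ⟨a, ha, rfl⟩
    rw [Subgroup.mem_centralizer_iff] at hy
    rw [← map_mul, ← map_mul, hy a ha]

end Cfsg.Agent.helper7
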