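import Mathlib
import Cfsg.Prelude.Def_Balance
import Cfsg.Agent.Lib_helper7_PConstr

set_option autoImplicit false

namespace Cfsg.Agent.helper7

variable {G : Type*} [Group G]

theorem cj_pLayer (p : ℕ) (g : G) : cj g (Cfsg.pLayer p G) = Cfsg.pLayer p G := by
  have hle : ∀ g : G, cj g (Cfsg.pLayer p G) ≤ Cfsg.pLayer p G := by
    intro g
    unfold Cfsg.pLayer
    rw [cj_sSup]
    apply sSup_le
    rintro _ ⟨K, hK, rfl⟩
    exact le_sSup (pcomp_conj hK g)
  apply le_antisymm (hle g)
  have := cj_mono (g := g) (hle g⁻¹)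
  rwa [cj_cj_inv] at this

theorem normal_of_cj_le {H : Subgroup G} (h : ∀ g : G, cj g H ≤ H) : H.Normal :=
  ⟨fun n hn g => h g (cj_mem_cj hn)⟩

theorem cj_eq_of_normal {H : Subgroup G} [hH : H.Normal] (g : G) : cj g H = H := by
  apply cj_eq_of_mem_normalizer
  rw [Subgroup.normalizer_eq_top]
  exact Subgroup.mem_top g

theorem pLayer_normal (p : ℕ) : (Cfsg.pLayer p G).Normal :=
  normal_of_cj_le (fun g => le_of_eq (cj_pLayer p g))

theorem pPrimePCore_normal (p : ℕ) : (Cfsg.pPrimePCore p G).Normal := by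
  unfold Cfsg.pPrimePCore
  exact Subgroup.Normal.comap inferInstance _

/-- `L_{2'}(G) O_{2',2}(G)` is normal. -/
theorem extBase_normal (p : ℕ) : (Cfsg.pLayer p G ⊔ Cfsg.pPrimePCore p G).Normal := by
  haveI := pLayer_normal (G := G) p
  haveI := pPrimePCore_normal (G := G) p
  infer_instance

/-- Conjugation permutes the Sylow subgroups of a normal subgroup. -/
theorem exists_sylow_cj [Finite G] {p : ℕ} [Fact p.Prime] {W : Subgroup G} [hW : W.Normal]
    (T : Sylow p ↥W) (g : G) :
    ∃ T' : Sylow p ↥W, (T' : Subgroup ↥W).map W.subtype = cj g ((T : Subgroup ↥W).map W.subtype) := by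
  have hle : cj g ((T : Subgroup ↥W).map W.subtype) ≤ W := by
    have h1 : (T : Subgroup ↥W).map W.subtype ≤ W := by
      rintro _ ⟨a, _, rfl⟩; exact a.2
    have := cj_mono (g := g) h1
    rwa [cj_eq_of_normal (H := W) g] at this
  have hmap : ((cj g ((T : Subgroup ↥W).map W.subtype)).subgroupOf W).map W.subtype =
      cj g ((T : Subgroup ↥W).map W.subtype) := Subgroup.map_subgroupOf_eq_of_le hle
  have hcard : Nat.card ↥((cj g ((T : Subgroup ↥W).map W.subtype)).subgroupOf W) =
      p ^ (Nat.card ↥W).factorization p := by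
    rw [← card_map_subtype, hmap, card_cj, card_map_subtype, T.card_eq_multiplicity]
  refine ⟨Sylow.ofCard _ hcard, ?_⟩
  rw [Sylow.coe_ofCard, hmap]

/-- The extended 2-layer is normal. -/
theorem extendedTwoLayer_normal [Finite G] : (Cfsg.extendedTwoLayer G).Normal := by
  have hp : Nat.Prime 2 := Nat.prime_two
  haveI : Fact (Nat.Prime 2) := ⟨hp⟩
  haveI := extBase_normal (G := G) 2
  apply normal_of_cj_le
  intro g
  unfold Cfsg.extendedTwoLayer
  unfold cj
  rw [Subgroup.map_sup, Subgroup.map_sup, Subgroup.map_iSup]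
  apply sup_le (sup_le _ _)
  · apply iSup_le
    intro T
    obtain ⟨T', hT'⟩ := exists_sylow_cj T g
    refine le_trans ?_ (le_trans (le_iSup _ T') le_sup_right)
    apply le_of_eq
    show cj g _ = _
    rw [map_pPrimeCore_eq hp, map_pPrimeCore_eq hp, hT', ← cj_centralizer]
    unfold piCoreIn
    exact cj_radOf (fun g _ h => h.conj g) g _
  · have := cj_pLayer 2 g
    unfold cj at this
    rw [this]
    exact le_trans le_sup_left le_sup_left
  · have : cj g (Cfsg.oddCore G) = Cfsg.oddCore G := cj_eq_of_normal g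
    unfold cj at this
    rw [this]
    exact le_trans le_sup_right le_sup_left

end Cfsg.Agent.helper7
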