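import Mathlib
import Cfsg.Prelude.Def_Balance
import Cfsg.Agent.Lib_helper7_ExtLayer

set_option autoImplicit false

namespace Cfsg.Agent.helper7

/-- Every `p`-element of a finite group is conjugate into a given Sylow `p`-subgroup. -/
theorem exists_conj_mem_sylow {H : Type*} [Group H] [Finite H] {p : ℕ} [Fact p.Prime]
    (T : Sylow p H) (x : H) {k : ℕ} (hx : x ^ p ^ k = 1) : ∃ w : H, w⁻¹ * x * w ∈ T := by
  have hZ : IsPGroup p ↥(Subgroup.zpowers x) := by
    rintro ⟨g, n, rfl⟩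
    refine ⟨k, Subtype.ext ?_⟩
    show (x ^ n) ^ p ^ k = 1
    rw [← zpow_natCast, ← zpow_mul, mul_comm, zpow_mul, zpow_natCast, hx, one_zpow]
  obtain ⟨T₁, hT₁⟩ := hZ.exists_le_sylow
  obtain ⟨w, hw⟩ := MulAction.exists_smul_eq H T T₁
  refine ⟨w, ?_⟩
  have hx₁ : x ∈ (T₁ : Subgroup H) := hT₁ (Subgroup.mem_zpowers x)
  rw [← hw, Sylow.coe_subgroup_smul, Subgroup.mem_pointwise_smul_iff_inv_smul_mem] at hx₁
  have : (MulAut.conj w)⁻¹ • x = w⁻¹ * x * w := by
    rw [← map_inv, MulAut.smul_def, MulAut.conj_apply, inv_inv]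
  rw [this] at hx₁
  exact hx₁

variable {G : Type*} [Group G]

section
variable [Finite G] {p : ℕ} {K : Subgroup G}

/-- An element whose image normalizes the image of a `p`-component `K` normalizes `K`. -/
theorem mem_normalizer_pcomp_of_map (hp : p.Prime) (hK : Cfsg.IsPComponent p K) {g : G}
    (h : cj (QuotientGroup.mk' (Cfsg.pPrimeCore p G) g)
        (K.map (QuotientGroup.mk' (Cfsg.pPrimeCore p G))) =
      K.map (QuotientGroup.mk' (Cfsg.pPrimeCore p G))) :
    g ∈ Subgroup.normalizer (K : Set G) := by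
  apply mem_normalizer_of_cj_eq
  apply pcomp_eq_of_map_eq hp (pcomp_conj hK g) hK
  rw [map_cj, h]

theorem map_cj_eq_of_mem_normalizer {G' : Type*} [Group G'] (f : G →* G') {g : G}
    (h : g ∈ Subgroup.normalizer (K : Set G)) : cj (f g) (K.map f) = K.map f := by
  rw [← map_cj, cj_eq_of_mem_normalizer h]

theorem pPrimeCore_le_normalizer_pcomp (hp : p.Prime) (hK : Cfsg.IsPComponent p K) :
    Cfsg.pPrimeCore p G ≤ Subgroup.normalizer (K : Set G) := by
  intro o ho
  apply mem_normalizer_pcomp_of_map hp hK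
  have : QuotientGroup.mk' (Cfsg.pPrimeCore p G) o = 1 := by
    rw [← MonoidHom.mem_ker, ker_mk_pPrimeCore]; exact ho
  rw [this, cj_one]

theorem pPrimePCore_le_normalizer_pcomp (hp : p.Prime) (hK : Cfsg.IsPComponent p K) :
    Cfsg.pPrimePCore p G ≤ Subgroup.normalizer (K : Set G) := by
  obtain ⟨h1, h2, h3⟩ := isPComponent_iff.1 hK
  intro z hz
  apply mem_normalizer_pcomp_of_map hp hK
  apply cj_eq_of_mem_normalizer
  apply Subgroup.centralizer_le_normalizer
  have hcF : K.map (QuotientGroup.mk' (Cfsg.pPrimeCore p G)) ≤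
      Subgroup.centralizer ((fitOf (⊤ : Subgroup (G ⧸ Cfsg.pPrimeCore p G)) : Subgroup _) : Set _) :=
    Subgroup.commutator_eq_bot_iff_le_centralizer.1 h2.comm_fitOf
  have hz' : QuotientGroup.mk' (Cfsg.pPrimeCore p G) z ∈ Cfsg.pCore p (G ⧸ Cfsg.pPrimeCore p G) := hz
  rw [pCore_eq hp] at hz'
  exact (Subgroup.le_centralizer_iff.1 hcF) (piCoreIn_le_fitOf hp ⊤ hz')

theorem extBase_le_normalizer_pcomp (hp : p.Prime) (hK : Cfsg.IsPComponent p K) :
    Cfsg.pLayer p G ⊔ Cfsg.pPrimePCore p G ≤ Subgroup.normalizer (K : Set G) :=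
  sup_le (pLayer_le_normalizer hp hK) (pPrimePCore_le_normalizer_pcomp hp hK)

/-- A `p`-component `K` has a `p`-element whose image in `G / O_{p'}(G)` is not central in the
image of `K`. -/
theorem pcomp_exists_noncentral_pElement (hp : p.Prime) (hK : Cfsg.IsPComponent p K) :
    ∃ t ∈ K, ∃ k : ℕ, t ^ p ^ k = 1 ∧
      QuotientGroup.mk' (Cfsg.pPrimeCore p G) t ∉
        Subgroup.centralizer ((K.map (QuotientGroup.mk' (Cfsg.pPrimeCore p G)) : Subgroup _) : Set _) := by
  obtain ⟨h1, h2, h3⟩ := isPComponent_iff.1 hK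
  by_contra hcon
  push Not at hcon
  apply h2.2.not_abelian
  rw [Subgroup.map_le_iff_le_comap]
  conv_lhs => rw [← pcomp_closure_pElements hp hK]
  rw [Subgroup.closure_le]
  rintro t ⟨htK, k, htk⟩
  exact hcon t htK k htk

/-- For a Sylow `p`-subgroup `T` of `W = L_{p'}(G) O_{p',p}(G)`, the centralizer of `T` normalizes
every `p`-component. -/
theorem centralizer_sylow_le_normalizer_pcomp (hp : p.Prime) (hK : Cfsg.IsPComponent p K)
    [Fact p.Prime] (T : Sylow p ↥(Cfsg.pLayer p G ⊔ Cfsg.pPrimePCore p G)) :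
    Subgroup.centralizer (((T : Subgroup ↥(Cfsg.pLayer p G ⊔ Cfsg.pPrimePCore p G)).map
      (Cfsg.pLayer p G ⊔ Cfsg.pPrimePCore p G).subtype : Subgroup G) : Set G) ≤
      Subgroup.normalizer (K : Set G) := by
  obtain ⟨h1, h2, h3⟩ := isPComponent_iff.1 hK
  have hWK := extBase_le_normalizer_pcomp hp hK
  obtain ⟨t₁, ht₁K, k, ht₁k, ht₁c⟩ := pcomp_exists_noncentral_pElement hp hK
  have ht₁W : t₁ ∈ Cfsg.pLayer p G ⊔ Cfsg.pPrimePCore p G :=
    le_sup_left (a := Cfsg.pLayer p G) (pcomp_le_pLayer hK ht₁K)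
  obtain ⟨w, hw⟩ := exists_conj_mem_sylow T (⟨t₁, ht₁W⟩ : ↥(Cfsg.pLayer p G ⊔ Cfsg.pPrimePCore p G))
    (k := k) (Subtype.ext (by simpa using ht₁k))
  -- the element `t = w⁻¹ t₁ w`
  set t : G := (w : G)⁻¹ * t₁ * (w : G) with ht
  have htT : t ∈ (T : Subgroup ↥(Cfsg.pLayer p G ⊔ Cfsg.pPrimePCore p G)).map
      (Cfsg.pLayer p G ⊔ Cfsg.pPrimePCore p G).subtype := ⟨_, hw, rfl⟩
  have hwN : (w : G)⁻¹ ∈ Subgroup.normalizer (K : Set G) :=
    Subgroup.inv_mem _ (hWK w.2)
  have htK : t ∈ K := by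
    have := (Subgroup.mem_normalizer_iff.1 hwN t₁).1 ht₁K
    simpa [ht] using this
  have htc : QuotientGroup.mk' (Cfsg.pPrimeCore p G) t ∉
      Subgroup.centralizer ((K.map (QuotientGroup.mk' (Cfsg.pPrimeCore p G)) : Subgroup _) : Set _) := by
    intro hc
    apply ht₁c
    have e1 : QuotientGroup.mk' (Cfsg.pPrimeCore p G) t₁ =
        QuotientGroup.mk' (Cfsg.pPrimeCore p G) (w : G) *
          QuotientGroup.mk' (Cfsg.pPrimeCore p G) t *
          (QuotientGroup.mk' (Cfsg.pPrimeCore p G) (w : G))⁻¹ := by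
      rw [← map_inv, ← map_mul, ← map_mul, ht]; congr 1; group
    have e2 := cj_mem_cj (g := QuotientGroup.mk' (Cfsg.pPrimeCore p G) (w : G)) hc
    rw [← e1, cj_centralizer,
      map_cj_eq_of_mem_normalizer (QuotientGroup.mk' (Cfsg.pPrimeCore p G)) (hWK w.2)] at e2
    exact e2
  -- now the main argument
  intro y hy
  apply mem_normalizer_pcomp_of_map hp hK
  by_contra hne
  have hcomp' := h2.conj_top (QuotientGroup.mk' (Cfsg.pPrimeCore p G) y)
  have hcomm := h2.comm_of_ne hcomp' (Ne.symm hne)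
  have hle : cj (QuotientGroup.mk' (Cfsg.pPrimeCore p G) y)
      (K.map (QuotientGroup.mk' (Cfsg.pPrimeCore p G))) ≤
      Subgroup.centralizer ((K.map (QuotientGroup.mk' (Cfsg.pPrimeCore p G)) : Subgroup _) : Set _) := by
    rw [Subgroup.commutator_comm] at hcomm
    exact Subgroup.commutator_eq_bot_iff_le_centralizer.1 hcomm
  apply htc
  apply hle
  have hyt : y * t * y⁻¹ = t := by
    rw [Subgroup.mem_centralizer_iff] at hy
    have := hy t htT
    calc y * t * y⁻¹ = (y * t) * y⁻¹ := by group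
      _ = (t * y) * y⁻¹ := by rw [this]
      _ = t := by group
  have := cj_mem_cj (g := QuotientGroup.mk' (Cfsg.pPrimeCore p G) y)
    (Subgroup.mem_map_of_mem (QuotientGroup.mk' (Cfsg.pPrimeCore p G)) htK)
  rw [← map_inv, ← map_mul, ← map_mul, hyt] at this
  exact this

end

/-- The extended 2-layer normalizes every 2-component. -/
theorem extendedTwoLayer_le_normalizer_pcomp [Finite G] {K : Subgroup G}
    (hK : Cfsg.IsPComponent 2 K) :
    Cfsg.extendedTwoLayer G ≤ Subgroup.normalizer (K : Set G) := by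
  have hp : Nat.Prime 2 := Nat.prime_two
  haveI : Fact (Nat.Prime 2) := ⟨hp⟩
  unfold Cfsg.extendedTwoLayer
  apply sup_le (sup_le (pLayer_le_normalizer hp hK) (pPrimeCore_le_normalizer_pcomp hp hK))
  apply iSup_le
  intro T
  refine le_trans ?_ (centralizer_sylow_le_normalizer_pcomp hp hK T)
  rintro _ ⟨y, _, rfl⟩
  exact y.2

end Cfsg.Agent.helper7
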