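import Mathlib
import Cfsg.Prelude.Def_ClassificationStages
import Cfsg.Agent.Lib_helper7_PComp2
import Cfsg.Agent.Lib_helper7_ExtLayer2

set_option autoImplicit false

/-!
# Helpers for `p`-components of subgroups (`IsPComponentOf`, `pLayerOf`, `centralizerOfPComponent`)
-/

namespace Cfsg.Agent.helper10

open Cfsg.Agent.helper7

variable {G : Type*} [Group G]

/-- The elements normalizing `K` and acting trivially on `K` modulo `N`. -/
def kerAct2 (K N : Subgroup G) (hNK : N ≤ K) : Subgroup G where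
  carrier := {g | g ∈ Subgroup.normalizer (K : Set G) ∧ ∀ k ∈ K, g * k * g⁻¹ * k⁻¹ ∈ N}
  one_mem' := ⟨Subgroup.one_mem _, fun k _ => by
    have : (1 : G) * k * 1⁻¹ * k⁻¹ = 1 := by group
    rw [this]; exact N.one_mem⟩
  mul_mem' := by
    rintro g h ⟨hg1, hg2⟩ ⟨hh1, hh2⟩
    refine ⟨Subgroup.mul_mem _ hg1 hh1, fun k hk => ?_⟩
    have hn := hh2 k hk
    have hnK : h * k * h⁻¹ * k⁻¹ ∈ K := hNK hn
    have e : g * h * k * (g * h)⁻¹ * k⁻¹ =
        (g * (h * k * h⁻¹ * k⁻¹) * g⁻¹ * (h * k * h⁻¹ * k⁻¹)⁻¹) * (h * k * h⁻¹ * k⁻¹) *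
          (g * k * g⁻¹ * k⁻¹) := by group
    rw [e]
    exact N.mul_mem (N.mul_mem (hg2 _ hnK) hn) (hg2 k hk)
  inv_mem' := by
    rintro g ⟨hg1, hg2⟩
    refine ⟨Subgroup.inv_mem _ hg1, fun k hk => ?_⟩
    have hk' : g⁻¹ * k * g⁻¹⁻¹ ∈ K :=
      (Subgroup.mem_normalizer_iff.1 (Subgroup.inv_mem _ hg1) k).1 hk
    have h1 := hg2 _ hk'
    have e : g⁻¹ * k * g⁻¹⁻¹ * k⁻¹ = (g * (g⁻¹ * k * g⁻¹⁻¹) * g⁻¹ * (g⁻¹ * k * g⁻¹⁻¹)⁻¹)⁻¹ := by
      group
    rw [e]
    exact N.inv_mem h1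

theorem mem_kerAct2 {K N : Subgroup G} {hNK : N ≤ K} {g : G} :
    g ∈ kerAct2 K N hNK ↔
      g ∈ Subgroup.normalizer (K : Set G) ∧ ∀ k ∈ K, g * k * g⁻¹ * k⁻¹ ∈ N := Iff.rfl

/-- Two elements of the same finite order, one a power of the other, have the same centralizer. -/
theorem centralizer_eq_of_mem_zpowers [Finite G] {x y : G} (hy : y ∈ Subgroup.zpowers x)
    (hord : orderOf y = orderOf x) :
    Subgroup.centralizer ({y} : Set G) = Subgroup.centralizer ({x} : Set G) := by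
  have hle : Subgroup.zpowers y ≤ Subgroup.zpowers x := Subgroup.zpowers_le.2 hy
  have heq : Subgroup.zpowers y = Subgroup.zpowers x := by
    apply Subgroup.eq_of_le_of_card_ge hle
    rw [Nat.card_zpowers, Nat.card_zpowers, hord]
  have h1 : Subgroup.centralizer ({y} : Set G) =
      Subgroup.centralizer ((Subgroup.zpowers y : Subgroup G) : Set G) := by
    rw [Subgroup.zpowers_eq_closure, Subgroup.centralizer_closure]
  have h2 : Subgroup.centralizer ({x} : Set G) =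
      Subgroup.centralizer ((Subgroup.zpowers x : Subgroup G) : Set G) := by
    rw [Subgroup.zpowers_eq_closure, Subgroup.centralizer_closure]
  rw [h1, h2, heq]

section core
variable [Finite G] {p : ℕ}

theorem mem_core_of_mem_core_sub (hp : p.Prime) {K C : Subgroup G} (hKC : K ≤ C)
    (hK : Cfsg.IsPComponent p (K.subgroupOf C)) (k : ↥K)
    (hk : k ∈ Cfsg.pPrimeCore p ↥K) : (⟨k.1, hKC k.2⟩ : ↥C) ∈ Cfsg.pPrimeCore p ↥C := by
  have hsn0 : SN ((Cfsg.pPrimeCore p ↥K).map K.subtype) K :=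
    sn_map_subtype (Cfsg.pPrimeCore_normal p ↥K).isSubnormal
  have hsn1 : SN (((Cfsg.pPrimeCore p ↥K).map K.subtype).subgroupOf C) (K.subgroupOf C) :=
    SN.comap C.subtype hsn0
  have hsn2 : SN (((Cfsg.pPrimeCore p ↥K).map K.subtype).subgroupOf C) ⊤ :=
    hsn1.trans (isPComponent_iff.1 hK).1
  have hpi : PiGrp {q | q ≠ p} (((Cfsg.pPrimeCore p ↥K).map K.subtype).subgroupOf C) := by
    intro c hc q hq hd
    obtain ⟨k₀, hk₀, hk₀c⟩ := Subgroup.mem_map.1 (Subgroup.mem_subgroupOf.1 hc)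
    apply pPrimeCore_piGrp (G := ↥K) hp k₀ hk₀ q hq
    have e : ((k₀ : ↥K) : G) = ((c : ↥C) : G) := hk₀c
    rw [← Subgroup.orderOf_coe k₀, e, Subgroup.orderOf_coe]
    exact hd
  have hle := le_pPrimeCore_of_sn hp hsn2 hpi
  apply hle
  rw [Subgroup.mem_subgroupOf]
  exact Subgroup.mem_map_of_mem _ hk

theorem mem_core_sub_of_mem_core (hp : p.Prime) {K C : Subgroup G} (hKC : K ≤ C) (k : ↥K)
    (hk : (⟨k.1, hKC k.2⟩ : ↥C) ∈ Cfsg.pPrimeCore p ↥C) : k ∈ Cfsg.pPrimeCore p ↥K := by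
  have hle : (Cfsg.pPrimeCore p ↥C).comap (Subgroup.inclusion hKC) ≤ Cfsg.pPrimeCore p ↥K := by
    apply le_sSup
    refine ⟨Subgroup.Normal.comap inferInstance _, ?_⟩
    rw [coprime_card_iff_piGrp hp]
    intro z hz q hq hd
    apply pPrimeCore_piGrp (G := ↥C) hp (Subgroup.inclusion hKC z) hz q hq
    rwa [orderOf_injective (Subgroup.inclusion hKC) (Subgroup.inclusion_injective hKC) z]
  exact hle hk

/-- A `p`-component `K` of a subgroup `C` is a `p`-component of itself. -/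
theorem isPComponent_top_of_sub (hp : p.Prime) {K C : Subgroup G} (hKC : K ≤ C)
    (hK : Cfsg.IsPComponent p (K.subgroupOf C)) :
    Cfsg.IsPComponent p (⊤ : Subgroup ↥K) := by
  have hker : ((QuotientGroup.mk' (Cfsg.pPrimeCore p ↥C)).comp (Subgroup.inclusion hKC)).ker =
      Cfsg.pPrimeCore p ↥K := by
    ext k
    rw [MonoidHom.mem_ker, MonoidHom.comp_apply, QuotientGroup.mk'_apply, QuotientGroup.eq_one_iff]
    exact ⟨mem_core_sub_of_mem_core hp hKC k, mem_core_of_mem_core_sub hp hKC hK k⟩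
  have hrange : ((QuotientGroup.mk' (Cfsg.pPrimeCore p ↥C)).comp (Subgroup.inclusion hKC)).range =
      (K.subgroupOf C).map (QuotientGroup.mk' (Cfsg.pPrimeCore p ↥C)) := by
    rw [← MonoidHom.map_range, Subgroup.inclusion_range]
  have hqs1 : Cfsg.IsQuasisimple
      ↥((K.subgroupOf C).map (QuotientGroup.mk' (Cfsg.pPrimeCore p ↥C))) := hK.2.1.2
  have e1 : ↥K ⧸ Cfsg.pPrimeCore p ↥K ≃*
      ↥((QuotientGroup.mk' (Cfsg.pPrimeCore p ↥C)).comp (Subgroup.inclusion hKC)).range :=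
    (QuotientGroup.quotientMulEquivOfEq hker.symm).trans
      (QuotientGroup.quotientKerEquivRange _)
  have e2 : ↥((QuotientGroup.mk' (Cfsg.pPrimeCore p ↥C)).comp (Subgroup.inclusion hKC)).range ≃*
      ↥((K.subgroupOf C).map (QuotientGroup.mk' (Cfsg.pPrimeCore p ↥C))) :=
    MulEquiv.subgroupCongr hrange
  have hqs2 : Cfsg.IsQuasisimple (↥K ⧸ Cfsg.pPrimeCore p ↥K) :=
    qs_of_equiv (e1.trans e2).symm hqs1
  have htop : (⊤ : Subgroup ↥K).map (QuotientGroup.mk' (Cfsg.pPrimeCore p ↥K)) = ⊤ :=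
    Subgroup.map_top_of_surjective _ (QuotientGroup.mk'_surjective _)
  refine ⟨Subgroup.IsSubnormal.top, ⟨?_, ?_⟩, ?_⟩
  · rw [htop]; exact Subgroup.IsSubnormal.top
  · exact qs_of_equiv ((MulEquiv.subgroupCongr htop).trans Subgroup.topEquiv).symm hqs2
  · intro H hH _ hmap
    rw [htop] at hmap
    have hsn0 : SN (H.map K.subtype) K := sn_map_subtype hH
    have hsn1 : SN ((H.map K.subtype).subgroupOf C) (K.subgroupOf C) := SN.comap C.subtype hsn0
    have hsn2 := hsn1.trans (isPComponent_iff.1 hK).1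
    have hle1 : (H.map K.subtype).subgroupOf C ≤ K.subgroupOf C := hsn1.le
    have hmap1 : ((H.map K.subtype).subgroupOf C).map (QuotientGroup.mk' (Cfsg.pPrimeCore p ↥C)) =
        (K.subgroupOf C).map (QuotientGroup.mk' (Cfsg.pPrimeCore p ↥C)) := by
      apply le_antisymm (Subgroup.map_mono hle1)
      rintro _ ⟨c, hc, rfl⟩
      have hcK : (c : G) ∈ K := Subgroup.mem_subgroupOf.1 hc
      have h1 : QuotientGroup.mk' (Cfsg.pPrimeCore p ↥K) ⟨c.1, hcK⟩ ∈
          H.map (QuotientGroup.mk' (Cfsg.pPrimeCore p ↥K)) := by rw [hmap]; trivial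
      obtain ⟨h, hhH, hh⟩ := h1
      have h2 : h⁻¹ * ⟨c.1, hcK⟩ ∈ Cfsg.pPrimeCore p ↥K := by
        rw [← QuotientGroup.eq]; exact hh
      have h3 := mem_core_of_mem_core_sub hp hKC hK _ h2
      refine ⟨⟨h.1, hKC h.2⟩, ?_, ?_⟩
      · rw [SetLike.mem_coe, Subgroup.mem_subgroupOf]; exact Subgroup.mem_map_of_mem _ hhH
      · rw [QuotientGroup.mk'_apply, QuotientGroup.mk'_apply, QuotientGroup.eq]
        convert h3 using 1
        apply Subtype.ext
        simp
    have hmin := (isPComponent_iff.1 hK).2.2 _ hsn2 hle1 hmap1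
    rw [eq_top_iff]
    intro k _
    have hk1 : (⟨k.1, hKC k.2⟩ : ↥C) ∈ (H.map K.subtype).subgroupOf C := by
      rw [hmin]; exact Subgroup.mem_subgroupOf.2 k.2
    obtain ⟨h, hh, hhk⟩ := Subgroup.mem_map.1 (Subgroup.mem_subgroupOf.1 hk1)
    have : h = k := Subtype.ext hhk
    rw [← this]; exact hh

theorem pLayerOf_eq_self (hp : p.Prime) {K C : Subgroup G} (hKC : K ≤ C)
    (hK : Cfsg.IsPComponent p (K.subgroupOf C)) : Cfsg.pLayerOf p K = K := by
  have htop : Cfsg.pLayer p ↥K = ⊤ :=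
    top_le_iff.1 (le_sSup (isPComponent_top_of_sub hp hKC hK))
  unfold Cfsg.pLayerOf
  rw [htop, ← MonoidHom.range_eq_map, Subgroup.range_subtype]

/-- An element of `C` whose image centralizes the image of the `p`-component `L`. -/
theorem normalizes_of_centralizes_image (hp : p.Prime) {L : Subgroup G}
    (hL : Cfsg.IsPComponent p L) {g : G}
    (hg : QuotientGroup.mk' (Cfsg.pPrimeCore p G) g ∈ Subgroup.centralizer
      ((L.map (QuotientGroup.mk' (Cfsg.pPrimeCore p G)) : Subgroup _) : Set _)) :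
    g ∈ Subgroup.normalizer (L : Set G) ∧
      ∀ l ∈ L, g * l * g⁻¹ * l⁻¹ ∈ Cfsg.pPrimeCore p G ⊓ L := by
  have hn : g ∈ Subgroup.normalizer (L : Set G) := by
    apply mem_normalizer_pcomp_of_map hp hL
    apply cj_eq_of_mem_normalizer
    exact Subgroup.centralizer_le_normalizer _ hg
  refine ⟨hn, fun l hl => Subgroup.mem_inf.2 ⟨?_, ?_⟩⟩
  · rw [← ker_mk_pPrimeCore, MonoidHom.mem_ker, map_mul, map_mul, map_mul, map_inv, map_inv]
    have hc := (Subgroup.mem_centralizer_iff.1 hg) _ (Subgroup.mem_map_of_mem _ hl)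
    -- hc : π l * π g = π g * π l
    rw [← hc]
    group
  · exact L.mul_mem ((Subgroup.mem_normalizer_iff.1 hn l).1 hl) (L.inv_mem hl)

end core

end Cfsg.Agent.helper10

namespace Cfsg.Agent.helper10

theorem coe_mem_normalizer_of_subgroupOf {G : Type*} [Group G] {K C : Subgroup G} (hKC : K ≤ C)
    {c : ↥C} (hc : c ∈ Subgroup.normalizer ((K.subgroupOf C : Subgroup ↥C) : Set ↥C)) :
    (c : G) ∈ Subgroup.normalizer (K : Set G) := by
  rw [← Subgroup.subgroupOf_normalizer_eq hKC] at hc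
  exact Subgroup.mem_subgroupOf.1 hc

end Cfsg.Agent.helper10
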