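import Mathlib
import Cfsg.Agent.Lib_helper10_PTerm
import Cfsg.Agent.Lib_helper10_Control
import Cfsg.Agent.Lib_helper19_Sylow

set_option autoImplicit false

/-!
# Chain stabilizers, relative Sylow subgroups of normal subgroups, and `p`-quotients
-/

namespace Cfsg.Agent.helper10

variable {G : Type*} [Group G]

local notation:max K "^[" g "]" => Subgroup.map (MulEquiv.toMonoidHom (MulAut.conj g)) K

/-- If `y` stabilizes a chain `D 0 ≥ D 1 ≥ … ≥ D k = ⊥` of `p`-subgroups (acting trivially on the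
factors), then a `p`-power of `y` centralizes `D 0`. -/
theorem pow_centralizes_of_stabilizes_chain [Finite G] {p : ℕ} [hp : Fact p.Prime] (y : G) :
    ∀ (k : ℕ) (D : ℕ → Subgroup G), (∀ i, IsPGroup p (D i)) → D k = ⊥ → (∀ i, D (i + 1) ≤ D i) →
      (∀ i, ∀ t ∈ D i, y * t * y⁻¹ * t⁻¹ ∈ D (i + 1)) →
      ∃ m : ℕ, ∀ t ∈ D 0, y ^ (p ^ m) * t * (y ^ (p ^ m))⁻¹ = t := by
  intro k
  induction k with
  | zero =>
    intro D _ h0 _ _
    refine ⟨0, fun t ht => ?_⟩
    rw [h0, Subgroup.mem_bot] at ht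
    rw [ht]; group
  | succ k ih =>
    intro D hDp hk hmono hstab
    obtain ⟨m, hm⟩ := ih (fun i => D (i + 1)) (fun i => hDp (i + 1)) hk (fun i => hmono (i + 1))
      (fun i => hstab (i + 1))
    obtain ⟨e, he⟩ := IsPGroup.iff_card.mp (hDp 1)
    refine ⟨m + e, ?_⟩
    intro t ht
    -- `y` normalizes `D 1`
    have hyn : ∀ u ∈ D 1, y * u * y⁻¹ ∈ D 1 := by
      intro u hu
      have h1 := hmono 1 (hstab 1 u hu)
      have e1 : y * u * y⁻¹ = (y * u * y⁻¹ * u⁻¹) * u := by group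
      rw [e1]; exact (D 1).mul_mem h1 hu
    -- powers of `y` move `t` by elements of `D 1`
    have hpow : ∀ j : ℕ, y ^ j * t * (y ^ j)⁻¹ * t⁻¹ ∈ D 1 := by
      intro j
      induction j with
      | zero =>
        have : y ^ 0 * t * (y ^ 0)⁻¹ * t⁻¹ = 1 := by group
        rw [this]; exact (D 1).one_mem
      | succ j ihj =>
        have e1 : y ^ (j + 1) * t * (y ^ (j + 1))⁻¹ * t⁻¹ =
            (y * (y ^ j * t * (y ^ j)⁻¹ * t⁻¹) * y⁻¹) * (y * t * y⁻¹ * t⁻¹) := by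
          rw [pow_succ']; group
        rw [e1]
        exact (D 1).mul_mem (hyn _ ihj) (hstab 0 t ht)
    set z := y ^ (p ^ m) with hz
    set v := z * t * z⁻¹ * t⁻¹ with hv
    have hvD : v ∈ D 1 := hpow (p ^ m)
    have hzv : z * v * z⁻¹ = v := hm v hvD
    have hzt : z * t * z⁻¹ = v * t := by rw [hv]; group
    have hzpow : ∀ j : ℕ, z ^ j * t * (z ^ j)⁻¹ = v ^ j * t := by
      intro j
      induction j with
      | zero => group
      | succ j ihj =>
        have hzvj : z * v ^ j * z⁻¹ = v ^ j := by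
          have : z * v ^ j * z⁻¹ = (z * v * z⁻¹) ^ j := by
            rw [conj_pow]
          rw [this, hzv]
        calc z ^ (j + 1) * t * (z ^ (j + 1))⁻¹ = z * (z ^ j * t * (z ^ j)⁻¹) * z⁻¹ := by
              rw [pow_succ']; group
          _ = z * (v ^ j * t) * z⁻¹ := by rw [ihj]
          _ = (z * v ^ j * z⁻¹) * (z * t * z⁻¹) := by group
          _ = v ^ j * (v * t) := by rw [hzvj, hzt]
          _ = v ^ (j + 1) * t := by rw [pow_succ]; group
    have hve : v ^ (p ^ e) = 1 := by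
      have h1 : orderOf v ∣ Nat.card (D 1) := Subgroup.orderOf_dvd_natCard (D 1) hvD
      rw [he] at h1
      exact orderOf_dvd_iff_pow_eq_one.1 h1
    have hfin : y ^ (p ^ (m + e)) = z ^ (p ^ e) := by
      rw [hz, ← pow_mul, pow_add]
    rw [hfin, hzpow (p ^ e), hve, one_mul]

/-- The intersection of a relative Sylow subgroup of `X` with a subgroup `K` normalized by `X` has
index prime to `p` in `K`. -/
theorem relSylow_inf_normal [Finite G] {p : ℕ} [Fact p.Prime] (X S₁ K : Subgroup G)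
    (hS₁X : S₁ ≤ X) (hS₁p : IsPGroup p S₁) (hS₁i : ¬ p ∣ S₁.relIndex X) (hKX : K ≤ X)
    (hKn : X ≤ Subgroup.normalizer (K : Set G)) : ¬ p ∣ (S₁ ⊓ K).relIndex K := by
  have hp' : IsPGroup p ↥(S₁.subgroupOf X) := hS₁p.comap_subtype
  haveI : (K.subgroupOf X).Normal := by
    rw [Subgroup.normal_subgroupOf_iff_le_normalizer hKX]
    exact hKn
  have hS₁i' : ¬ p ∣ (S₁.subgroupOf X).index := hS₁i
  have h1 := Cfsg.Agent.helper19.sylow_inf_normal_not_dvd (hp'.toSylow hS₁i') (K.subgroupOf X)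
  rw [IsPGroup.toSylow_coe] at h1
  have h2 : S₁.subgroupOf X ⊓ K.subgroupOf X = (S₁ ⊓ K).subgroupOf X := by
    ext x; simp [Subgroup.mem_subgroupOf]
  rw [h2, Subgroup.relIndex_subgroupOf hKX] at h1
  exact h1

/-- If every element of `Y` has a `p`-power in the normal subgroup `C` of `Y`, then `Y = C S₁` for a
relative Sylow subgroup `S₁` of `Y`. -/
theorem mem_mul_of_pow_mem [Finite G] {p : ℕ} [Fact p.Prime] (Y C S₁ : Subgroup G) (hCY : C ≤ Y)
    (hCn : Y ≤ Subgroup.normalizer (C : Set G)) (hS₁Y : S₁ ≤ Y) (hS₁p : IsPGroup p S₁)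
    (hS₁i : ¬ p ∣ S₁.relIndex Y) (hpow : ∀ y ∈ Y, ∃ m : ℕ, y ^ (p ^ m) ∈ C) :
    ∀ y ∈ Y, ∃ c ∈ C, ∃ s ∈ S₁, y = c * s := by
  have hp' : IsPGroup p ↥(S₁.subgroupOf Y) := hS₁p.comap_subtype
  have hCnorm : (C.subgroupOf Y).Normal := by
    rw [Subgroup.normal_subgroupOf_iff_le_normalizer hCY]
    exact hCn
  have hsurj : Function.Surjective (QuotientGroup.mk' (C.subgroupOf Y)) :=
    QuotientGroup.mk'_surjective _
  have hQp : IsPGroup p (↥Y ⧸ C.subgroupOf Y) := by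
    intro q
    obtain ⟨y, rfl⟩ := hsurj q
    obtain ⟨m, hm⟩ := hpow y y.2
    refine ⟨m, ?_⟩
    rw [← map_pow, ← MonoidHom.mem_ker, QuotientGroup.ker_mk']
    rw [Subgroup.mem_subgroupOf, Subgroup.coe_pow]
    exact hm
  have hS₁i' : ¬ p ∣ (S₁.subgroupOf Y).index := hS₁i
  have htop : (((hp'.toSylow hS₁i').mapSurjective hsurj : Sylow p (↥Y ⧸ C.subgroupOf Y)) :
      Subgroup (↥Y ⧸ C.subgroupOf Y)) = ⊤ :=
    (((hp'.toSylow hS₁i').mapSurjective hsurj).is_maximal' (hQp.to_subgroup ⊤) le_top).symm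
  rw [Sylow.coe_mapSurjective, IsPGroup.toSylow_coe] at htop
  intro y hy
  have h1 : QuotientGroup.mk' (C.subgroupOf Y) ⟨y, hy⟩ ∈
      (S₁.subgroupOf Y).map (QuotientGroup.mk' (C.subgroupOf Y)) := by
    rw [htop]; exact Subgroup.mem_top _
  obtain ⟨s, hs, hsy⟩ := h1
  have h2 : (⟨y, hy⟩ : ↥Y) * s⁻¹ ∈ C.subgroupOf Y := by
    rw [← QuotientGroup.ker_mk' (C.subgroupOf Y), MonoidHom.mem_ker, map_mul, map_inv, hsy]
    group
  refine ⟨y * (s : G)⁻¹, ?_, (s : G), Subgroup.mem_subgroupOf.1 hs, by group⟩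
  have := Subgroup.mem_subgroupOf.1 h2
  simpa using this

end Cfsg.Agent.helper10
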