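import Mathlib
import Cfsg.Agent.Lib_helper10_ChainStab
import Cfsg.Agent.Lib_helper10_WellPlaced

set_option autoImplicit false

/-!
# Control of fusion in a normal subgroup: the predicate `NCtrl`
-/

namespace Cfsg.Agent.helper10

variable {G : Type*} [Group G]

local notation:max K "^[" g "]" => Subgroup.map (MulEquiv.toMonoidHom (MulAut.conj g)) K

/-- `N_N(U)` controls strong fusion in `P₀` with respect to `N`. -/
def NCtrl (N P₀ U : Subgroup G) : Prop :=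
  ∀ A : Subgroup G, A ≤ P₀ → ∀ n ∈ N, A^[n] ≤ P₀ →
    ∃ h ∈ N ⊓ Subgroup.normalizer (U : Set G), ∃ c ∈ N ⊓ Subgroup.centralizer (A : Set G), n = h * c

theorem NCtrl.bot (N P₀ : Subgroup G) : NCtrl N P₀ ⊥ := by
  intro A _ n hn _
  refine ⟨n, Subgroup.mem_inf.2 ⟨hn, ?_⟩, 1, Subgroup.one_mem _, by simp⟩
  rw [mem_normalizer_iff_map_conj, Subgroup.map_bot]

theorem normalizer_inf_le_normalizer_sup (U₁ U₂ : Subgroup G) :
    Subgroup.normalizer (U₁ : Set G) ⊓ Subgroup.normalizer (U₂ : Set G) ≤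
      Subgroup.normalizer ((U₁ ⊔ U₂ : Subgroup G) : Set G) := by
  intro h hh
  obtain ⟨h1, h2⟩ := Subgroup.mem_inf.1 hh
  rw [mem_normalizer_iff_map_conj] at h1 h2 ⊢
  rw [Subgroup.map_sup, h1, h2]

theorem NCtrl.sup {N P₀ U₁ U₂ : Subgroup G} (hU₁ : U₁ ≤ P₀) (h₁ : NCtrl N P₀ U₁)
    (h₂ : NCtrl N P₀ U₂) : NCtrl N P₀ (U₁ ⊔ U₂) := by
  intro A hA n hn hAn
  obtain ⟨h1, hh1, c1, hc1, rfl⟩ := h₁ A hA n hn hAn
  obtain ⟨hh1N, hh1U⟩ := Subgroup.mem_inf.1 hh1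
  obtain ⟨hc1N, hc1A⟩ := Subgroup.mem_inf.1 hc1
  have hA1 : (A ⊔ U₁)^[h1] ≤ P₀ := by
    rw [Subgroup.map_sup]
    apply sup_le
    · rintro _ ⟨a, ha, rfl⟩
      apply hAn
      refine ⟨a, ha, ?_⟩
      have hca : a * c1 = c1 * a := Subgroup.mem_centralizer_iff.1 hc1A a ha
      simp only [MulEquiv.coe_toMonoidHom, MulAut.conj_apply]
      calc h1 * c1 * a * (h1 * c1)⁻¹ = h1 * (c1 * a) * c1⁻¹ * h1⁻¹ := by group
        _ = h1 * (a * c1) * c1⁻¹ * h1⁻¹ := by rw [hca]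
        _ = h1 * a * h1⁻¹ := by group
    · rw [(mem_normalizer_iff_map_conj U₁ h1).1 hh1U]; exact hU₁
  obtain ⟨h2, hh2, c2, hc2, rfl⟩ := h₂ (A ⊔ U₁) (sup_le hA hU₁) h1 hh1N hA1
  obtain ⟨hh2N, hh2U⟩ := Subgroup.mem_inf.1 hh2
  obtain ⟨hc2N, hc2A⟩ := Subgroup.mem_inf.1 hc2
  have hc2U : c2 ∈ Subgroup.normalizer (U₁ : Set G) :=
    Subgroup.centralizer_le_normalizer _
      (Subgroup.centralizer_le (SetLike.coe_subset_coe.2 le_sup_right) hc2A)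
  have hh2U1 : h2 ∈ Subgroup.normalizer (U₁ : Set G) := by
    have : h2 = (h2 * c2) * c2⁻¹ := by group
    rw [this]
    exact Subgroup.mul_mem _ hh1U (Subgroup.inv_mem _ hc2U)
  refine ⟨h2, Subgroup.mem_inf.2 ⟨hh2N, ?_⟩, c2 * c1, Subgroup.mem_inf.2
    ⟨Subgroup.mul_mem _ hc2N hc1N, Subgroup.mul_mem _ ?_ hc1A⟩, by group⟩
  · exact normalizer_inf_le_normalizer_sup U₁ U₂ (Subgroup.mem_inf.2 ⟨hh2U1, hh2U⟩)
  · exact Subgroup.centralizer_le (SetLike.coe_subset_coe.2 le_sup_left) hc2A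

theorem NCtrl.mono_normalizer {N P₀ U U' : Subgroup G} (h : NCtrl N P₀ U)
    (hUU' : Subgroup.normalizer (U : Set G) ≤ Subgroup.normalizer (U' : Set G)) :
    NCtrl N P₀ U' := by
  intro A hA n hn hAn
  obtain ⟨h1, hh1, c1, hc1, rfl⟩ := h A hA n hn hAn
  exact ⟨h1, Subgroup.mem_inf.2 ⟨(Subgroup.mem_inf.1 hh1).1, hUU' (Subgroup.mem_inf.1 hh1).2⟩,
    c1, hc1, rfl⟩

theorem NCtrl.conj {N P₀ V : Subgroup G} [hN : N.Normal] (h : NCtrl N P₀ V) (x : G)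
    (hx : x ∈ Subgroup.normalizer (P₀ : Set G)) : NCtrl N P₀ (V^[x]) := by
  intro A hA n hn hAn
  have hxi : x⁻¹ ∈ Subgroup.normalizer (P₀ : Set G) := Subgroup.inv_mem _ hx
  have hP₀x : P₀^[x⁻¹] = P₀ := (mem_normalizer_iff_map_conj P₀ x⁻¹).1 hxi
  have hA' : A^[x⁻¹] ≤ P₀ := by rw [← hP₀x]; exact Subgroup.map_mono hA
  have hn' : x⁻¹ * n * x ∈ N := by
    have := hN.conj_mem n hn x⁻¹
    simpa using this
  have hAn' : (A^[x⁻¹])^[x⁻¹ * n * x] ≤ P₀ := by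
    rw [← map_conj_mul]
    have e : x⁻¹ * n * x * x⁻¹ = x⁻¹ * n := by group
    rw [e, map_conj_mul, ← hP₀x]
    exact Subgroup.map_mono hAn
  obtain ⟨h', hh', c', hc', hn'eq⟩ := h (A^[x⁻¹]) hA' (x⁻¹ * n * x) hn' hAn'
  obtain ⟨hh'N, hh'V⟩ := Subgroup.mem_inf.1 hh'
  obtain ⟨hc'N, hc'A⟩ := Subgroup.mem_inf.1 hc'
  refine ⟨x * h' * x⁻¹, Subgroup.mem_inf.2 ⟨hN.conj_mem h' hh'N x, ?_⟩, x * c' * x⁻¹,
    Subgroup.mem_inf.2 ⟨hN.conj_mem c' hc'N x, ?_⟩, ?_⟩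
  · rw [normalizer_map_conj]
    exact conj_mem_map_conj _ x h' hh'V
  · rw [Subgroup.mem_centralizer_iff]
    intro a ha
    have ha' : x⁻¹ * a * x ∈ A^[x⁻¹] := by
      have := conj_mem_map_conj A x⁻¹ a ha
      simpa using this
    have hc := Subgroup.mem_centralizer_iff.1 hc'A _ ha'
    calc a * (x * c' * x⁻¹) = x * ((x⁻¹ * a * x) * c') * x⁻¹ := by group
      _ = x * (c' * (x⁻¹ * a * x)) * x⁻¹ := by rw [hc]
      _ = x * c' * x⁻¹ * a := by group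
  · calc n = x * (x⁻¹ * n * x) * x⁻¹ := by group
      _ = x * (h' * c') * x⁻¹ := by rw [hn'eq]
      _ = x * h' * x⁻¹ * (x * c' * x⁻¹) := by group

/-- The join of the conjugates of `V` under `N_G(P₀)` inherits control. -/
theorem NCtrl.closure_conj [Finite G] {N P₀ V : Subgroup G} [hN : N.Normal] (hV : V ≤ P₀)
    (h : NCtrl N P₀ V) (W : Subgroup G)
    (hW : W = Subgroup.closure (⋃ x ∈ Subgroup.normalizer (P₀ : Set G),
      ((V^[x] : Subgroup G) : Set G))) :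
    W ≤ P₀ ∧ NCtrl N P₀ W ∧ Subgroup.normalizer (P₀ : Set G) ≤ Subgroup.normalizer (W : Set G) := by
  classical
  letI : Fintype ↥(Subgroup.normalizer (P₀ : Set G)) := Fintype.ofFinite _
  have hconjle : ∀ x ∈ Subgroup.normalizer (P₀ : Set G), V^[x] ≤ P₀ := by
    intro x hx
    rw [← (mem_normalizer_iff_map_conj P₀ x).1 hx]
    exact Subgroup.map_mono hV
  have hWsup : W = (Finset.univ : Finset ↥(Subgroup.normalizer (P₀ : Set G))).sup
      (fun x => V^[(x : G)]) := by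
    rw [hW]
    apply le_antisymm
    · rw [Subgroup.closure_le]
      intro z hz
      simp only [Set.mem_iUnion] at hz
      obtain ⟨x, hx, hz⟩ := hz
      exact (Finset.le_sup (f := fun x : ↥(Subgroup.normalizer (P₀ : Set G)) => V^[(x : G)])
        (Finset.mem_univ ⟨x, hx⟩)) hz
    · apply Finset.sup_le
      intro x _ z hz
      apply Subgroup.subset_closure
      simp only [Set.mem_iUnion]
      exact ⟨x, x.2, hz⟩
  have hmain : W ≤ P₀ ∧ NCtrl N P₀ W := by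
    rw [hWsup]
    apply Finset.sup_induction (p := fun U : Subgroup G => U ≤ P₀ ∧ NCtrl N P₀ U)
    · exact ⟨bot_le, NCtrl.bot N P₀⟩
    · intro U₁ h1 U₂ h2
      exact ⟨sup_le h1.1 h2.1, NCtrl.sup h1.1 h1.2 h2.2⟩
    · intro x _
      exact ⟨hconjle x x.2, h.conj x x.2⟩
  refine ⟨hmain.1, hmain.2, ?_⟩
  have hle : ∀ y ∈ Subgroup.normalizer (P₀ : Set G), W^[y] ≤ W := by
    intro y hy
    rw [hW, MonoidHom.map_closure, Subgroup.closure_le]
    rintro _ ⟨z, hz, rfl⟩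
    simp only [Set.mem_iUnion] at hz
    obtain ⟨x, hx, hz⟩ := hz
    apply Subgroup.subset_closure
    simp only [Set.mem_iUnion]
    refine ⟨y * x, Subgroup.mul_mem _ hy hx, ?_⟩
    rw [map_conj_mul]
    exact Subgroup.mem_map_of_mem _ hz
  intro y hy
  rw [mem_normalizer_iff_map_conj]
  apply le_antisymm (hle y hy)
  have := hle y⁻¹ (Subgroup.inv_mem _ hy)
  rw [map_conj_le_iff, inv_inv] at this
  exact this

/-- A subgroup with control in `N`, invariant under `N_G(P ⊓ N)`, is strongly closed in `P`. -/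
theorem stronglyClosed_of_NCtrl [Finite G] {p : ℕ} [Fact p.Prime] (N : Subgroup G) [hN : N.Normal]
    (P : Sylow p G) (U : Subgroup G) (hU : U ≤ (P : Subgroup G) ⊓ N)
    (hNU : Subgroup.normalizer ((((P : Subgroup G) ⊓ N : Subgroup G)) : Set G) ≤
      Subgroup.normalizer (U : Set G))
    (hctrl : NCtrl N ((P : Subgroup G) ⊓ N) U) :
    ∀ u ∈ U, ∀ g : G, g * u * g⁻¹ ∈ (P : Subgroup G) → g * u * g⁻¹ ∈ U := by
  intro u hu g hgu
  have hFr := Cfsg.Agent.helper19.frattini_inf P N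
  have hg : g ∈ Subgroup.normalizer ((((P : Subgroup G) ⊓ N : Subgroup G)) : Set G) ⊔ N := by
    rw [hFr]; exact Subgroup.mem_top g
  rw [Subgroup.mem_sup_of_normal_right] at hg
  obtain ⟨y, hy, n, hn, rfl⟩ := hg
  have huN : u ∈ N := (Subgroup.mem_inf.1 (hU hu)).2
  have hguP₀ : y * n * u * (y * n)⁻¹ ∈ (P : Subgroup G) ⊓ N :=
    Subgroup.mem_inf.2 ⟨hgu, hN.conj_mem u huN _⟩
  have hnu : n * u * n⁻¹ ∈ (P : Subgroup G) ⊓ N := by
    have h1 := (Subgroup.mem_normalizer_iff.1 (Subgroup.inv_mem _ hy) _).1 hguP₀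
    have e : y⁻¹ * (y * n * u * (y * n)⁻¹) * y⁻¹⁻¹ = n * u * n⁻¹ := by group
    rw [e] at h1; exact h1
  have hA : Subgroup.zpowers u ≤ (P : Subgroup G) ⊓ N := by
    rw [Subgroup.zpowers_le]; exact hU hu
  have hAn : (Subgroup.zpowers u)^[n] ≤ (P : Subgroup G) ⊓ N := by
    rw [MonoidHom.map_zpowers, Subgroup.zpowers_le]
    simpa using hnu
  obtain ⟨h, hh, c, hc, rfl⟩ := hctrl _ hA n hn hAn
  have hcu : u * c = c * u :=
    Subgroup.mem_centralizer_iff.1 (Subgroup.mem_inf.1 hc).2 u (Subgroup.mem_zpowers u)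
  have h2 : h * u * h⁻¹ ∈ U := (Subgroup.mem_normalizer_iff.1 (Subgroup.mem_inf.1 hh).2 u).1 hu
  have h3 : y * (h * u * h⁻¹) * y⁻¹ ∈ U := (Subgroup.mem_normalizer_iff.1 (hNU hy) _).1 h2
  have e : y * (h * c) * u * (y * (h * c))⁻¹ = y * (h * u * h⁻¹) * y⁻¹ := by
    calc y * (h * c) * u * (y * (h * c))⁻¹ = y * h * (c * u) * c⁻¹ * h⁻¹ * y⁻¹ := by group
      _ = y * h * (u * c) * c⁻¹ * h⁻¹ * y⁻¹ := by rw [hcu]
      _ = y * (h * u * h⁻¹) * y⁻¹ := by group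
  rw [e]; exact h3

end Cfsg.Agent.helper10
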