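import Mathlib
import Cfsg.Agent.Lib_helper10_NormalFusion
import Cfsg.Agent.Lib_helper10_Alperin
import Cfsg.Agent.Lib_helper10_Reach
import Cfsg.Agent.Lib_helper7_Cores

set_option autoImplicit false

/-!
# A strongly closed subgroup with a strongly closed lower central series is normal in the fusion system
-/

namespace Cfsg.Agent.helper10

variable {G : Type*} [Group G]

local notation:max K "^[" g "]" => Subgroup.map (MulEquiv.toMonoidHom (MulAut.conj g)) K

theorem le_normalizer_of_forall_conj_mem {H K : Subgroup G}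
    (h : ∀ g ∈ H, ∀ x ∈ K, g * x * g⁻¹ ∈ K) : H ≤ Subgroup.normalizer (K : Set G) := by
  intro g hg
  rw [Subgroup.mem_normalizer_iff]
  intro x
  constructor
  · exact h g hg x
  · intro hx
    have := h g⁻¹ (H.inv_mem hg) _ hx
    have e : g⁻¹ * (g * x * g⁻¹) * g⁻¹⁻¹ = x := by group
    rwa [e] at this

theorem normalizer_le_normalizer_lowerCentralSeries (W : Subgroup G) (i : ℕ) :
    Subgroup.normalizer (W : Set G) ≤ Subgroup.normalizer ((W.lowerCentralSeries i : Subgroup G) : Set G) := by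
  intro g hg
  rw [mem_normalizer_iff_map_conj] at hg ⊢
  rw [Subgroup.map_lowerCentralSeries, hg]

/-- The chain `T ≥ T ⊓ W ≥ T ⊓ [W,W] ≥ …`. -/
def lcsChain (T W : Subgroup G) : ℕ → Subgroup G
  | 0 => T
  | i + 1 => T ⊓ W.lowerCentralSeries i

theorem lcsChain_succ_le (T W : Subgroup G) : ∀ i, lcsChain T W (i + 1) ≤ lcsChain T W i
  | 0 => inf_le_left
  | i + 1 => inf_le_inf_left T (W.lowerCentralSeries_antitone (Nat.le_succ i))

theorem lcsChain_le (T W : Subgroup G) : ∀ i, lcsChain T W i ≤ T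
  | 0 => le_rfl
  | _ + 1 => inf_le_left

/-- The local step: if `W` and the terms of its lower central series are strongly closed in `P`,
`W` is normal in `P`, and the claim holds for all subgroups of `P` larger than the fully normalized
subgroup `T`, then every element of `N(T)` acts on `T` like an element of `N(W)`. -/
theorem local_step [Finite G] {p : ℕ} [Fact p.Prime] (P : Sylow p G) (W : Subgroup G)
    (hWP : W ≤ (P : Subgroup G))
    (hPW : (P : Subgroup G) ≤ Subgroup.normalizer (W : Set G))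
    (hsc : ∀ i : ℕ, ∀ u ∈ W.lowerCentralSeries i, ∀ g : G, g * u * g⁻¹ ∈ (P : Subgroup G) →
      g * u * g⁻¹ ∈ W.lowerCentralSeries i)
    (T : Subgroup G) (hTP : T ≤ (P : Subgroup G))
    (hext : ¬ p ∣ ((P : Subgroup G) ⊓ Subgroup.normalizer (T : Set G)).relIndex
      (Subgroup.normalizer (T : Set G)))
    (hM : ∀ T' : Subgroup G, T' ≤ (P : Subgroup G) → Nat.card T < Nat.card T' →
      ∀ g : G, T'^[g] ≤ (P : Subgroup G) →
        ∃ h ∈ Subgroup.normalizer (W : Set G), ∀ t ∈ T', h * t * h⁻¹ = g * t * g⁻¹)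
    (x : G) (hx : x ∈ Subgroup.normalizer (T : Set G)) :
    ∃ h ∈ Subgroup.normalizer (W : Set G), ∀ t ∈ T, h * t * h⁻¹ = x * t * x⁻¹ := by
  have hPp : IsPGroup p (P : Subgroup G) := P.isPGroup'
  have hWp : IsPGroup p W := hPp.to_le hWP
  obtain ⟨k, hk⟩ : ∃ k, W.lowerCentralSeries k = ⊥ := by
    haveI : Group.IsNilpotent W := hWp.isNilpotent
    exact (Subgroup.isNilpotent_iff_lowerCentralSeries W).1 inferInstance
  obtain ⟨X, hXdef⟩ : ∃ X : Subgroup G, X = Subgroup.normalizer (T : Set G) := ⟨_, rfl⟩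
  rw [← hXdef] at hx hext
  have hTX : T ≤ X := by rw [hXdef]; exact Subgroup.le_normalizer
  set D := lcsChain T W with hD
  have hDmono := lcsChain_succ_le T W
  have hDT := lcsChain_le T W
  have hDp : ∀ i, IsPGroup p (D i) := fun i => hPp.to_le ((hDT i).trans hTP)
  have hDk : D (k + 1) = ⊥ := by
    show T ⊓ W.lowerCentralSeries k = ⊥
    rw [hk, inf_bot_eq]
  -- `X` normalizes each `D i`
  have hXD : ∀ y ∈ X, ∀ i, ∀ t ∈ D i, y * t * y⁻¹ ∈ D i := by
    intro y hy i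
    cases i with
    | zero =>
      intro t ht
      rw [hXdef] at hy
      exact (Subgroup.mem_normalizer_iff.1 hy t).1 ht
    | succ i =>
      intro t ht
      obtain ⟨ht1, ht2⟩ := Subgroup.mem_inf.1 ht
      rw [hXdef] at hy
      have h1 : y * t * y⁻¹ ∈ T := (Subgroup.mem_normalizer_iff.1 hy t).1 ht1
      exact Subgroup.mem_inf.2 ⟨h1, hsc i t ht2 y (hTP h1)⟩
  have hXN : ∀ i, X ≤ Subgroup.normalizer ((D i : Subgroup G) : Set G) := fun i =>
    le_normalizer_of_forall_conj_mem (fun y hy t ht => hXD y hy i t ht)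
  -- the chain stabilizer
  obtain ⟨Y, hYdef⟩ : ∃ Y : Subgroup G, Y = X ⊓ ⨅ i, kerAct2 (D i) (D (i + 1)) (hDmono i) := ⟨_, rfl⟩
  have hmemY : ∀ y : G, y ∈ Y ↔ y ∈ X ∧ ∀ i, ∀ t ∈ D i, y * t * y⁻¹ * t⁻¹ ∈ D (i + 1) := by
    intro y
    rw [hYdef, Subgroup.mem_inf, Subgroup.mem_iInf]
    constructor
    · rintro ⟨h1, h2⟩
      exact ⟨h1, fun i => (mem_kerAct2.1 (h2 i)).2⟩
    · rintro ⟨h1, h2⟩
      exact ⟨h1, fun i => mem_kerAct2.2 ⟨hXN i h1, h2 i⟩⟩
  have hYX : Y ≤ X := by rw [hYdef]; exact inf_le_left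
  have hXnY : X ≤ Subgroup.normalizer (Y : Set G) := by
    apply le_normalizer_of_forall_conj_mem
    intro g hg y hy
    obtain ⟨hy1, hy2⟩ := (hmemY y).1 hy
    refine (hmemY _).2 ⟨X.mul_mem (X.mul_mem hg hy1) (X.inv_mem hg), ?_⟩
    intro i t ht
    have ht' : g⁻¹ * t * g⁻¹⁻¹ ∈ D i := hXD g⁻¹ (X.inv_mem hg) i t ht
    have h1 := hy2 i _ ht'
    have h2 := hXD g hg (i + 1) _ h1
    have e : g * y * g⁻¹ * t * (g * y * g⁻¹)⁻¹ * t⁻¹ =
        g * (y * (g⁻¹ * t * g⁻¹⁻¹) * y⁻¹ * (g⁻¹ * t * g⁻¹⁻¹)⁻¹) * g⁻¹ := by group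
    rw [e]; exact h2
  -- `C = C_Y(T)`
  obtain ⟨C, hCdef⟩ : ∃ C : Subgroup G, C = Y ⊓ Subgroup.centralizer (T : Set G) := ⟨_, rfl⟩
  have hCY : C ≤ Y := by rw [hCdef]; exact inf_le_left
  have hCn : Y ≤ Subgroup.normalizer (C : Set G) := by
    apply le_normalizer_of_forall_conj_mem
    intro y hy c hc
    rw [hCdef] at hc ⊢
    obtain ⟨hc1, hc2⟩ := Subgroup.mem_inf.1 hc
    refine Subgroup.mem_inf.2 ⟨Y.mul_mem (Y.mul_mem hy hc1) (Y.inv_mem hy), ?_⟩
    rw [Subgroup.mem_centralizer_iff]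
    intro t ht
    have ht' : y⁻¹ * t * y⁻¹⁻¹ ∈ T := hXD y⁻¹ (X.inv_mem (hYX hy)) 0 t ht
    have h1 := Subgroup.mem_centralizer_iff.1 hc2 _ ht'
    calc t * (y * c * y⁻¹) = y * ((y⁻¹ * t * y⁻¹⁻¹) * c) * y⁻¹ := by group
      _ = y * (c * (y⁻¹ * t * y⁻¹⁻¹)) * y⁻¹ := by rw [h1]
      _ = y * c * y⁻¹ * t := by group
  have hpow : ∀ y ∈ Y, ∃ m : ℕ, y ^ (p ^ m) ∈ C := by
    intro y hy
    obtain ⟨hy1, hy2⟩ := (hmemY y).1 hy
    obtain ⟨m, hm⟩ := pow_centralizes_of_stabilizes_chain (p := p) y (k + 1) D hDp hDk hDmono hy2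
    refine ⟨m, ?_⟩
    rw [hCdef]
    refine Subgroup.mem_inf.2 ⟨Y.pow_mem hy _, ?_⟩
    rw [Subgroup.mem_centralizer_iff]
    intro t ht
    have := hm t ht
    calc t * y ^ (p ^ m) = (y ^ (p ^ m) * t * (y ^ (p ^ m))⁻¹) * y ^ (p ^ m) := by rw [this]
      _ = y ^ (p ^ m) * t := by group
  -- the Sylow subgroup of `Y`
  obtain ⟨YP, hYPdef⟩ : ∃ YP : Subgroup G, YP = ((P : Subgroup G) ⊓ X) ⊓ Y := ⟨_, rfl⟩
  have hYPY : YP ≤ Y := by rw [hYPdef]; exact inf_le_right
  have hYPP : YP ≤ (P : Subgroup G) := by rw [hYPdef]; exact inf_le_left.trans inf_le_left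
  have hYPp : IsPGroup p YP := hPp.to_le hYPP
  have hYPi : ¬ p ∣ YP.relIndex Y := by
    rw [hYPdef]
    exact relSylow_inf_normal X _ Y inf_le_right (hPp.to_le inf_le_left) hext hYX hXnY
  have hdecomp := mem_mul_of_pow_mem Y C YP hCY hCn hYPY hYPp hYPi hpow
  -- Frattini
  have hYx : Y^[x] = Y := (mem_normalizer_iff_map_conj Y x).1 (hXnY hx)
  have hYPx : YP^[x] ≤ Y := by rw [← hYx]; exact Subgroup.map_mono hYPY
  have hYPxi : ¬ p ∣ (YP^[x]).relIndex Y := by
    have := relIndex_map_conj YP Y x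
    rw [hYx] at this
    rw [this]; exact hYPi
  obtain ⟨y, hyY, hy⟩ := relSylow_conj Y (YP^[x]) YP hYPx (hYPp.map _) hYPxi hYPY hYPp hYPi
  rw [← map_conj_mul] at hy
  obtain ⟨c, hc, s, hs, hcs⟩ := hdecomp y⁻¹ (Y.inv_mem hyY)
  have hcT : c ∈ Subgroup.centralizer (T : Set G) := by
    rw [hCdef] at hc; exact (Subgroup.mem_inf.1 hc).2
  obtain ⟨z, hzdef⟩ : ∃ z : G, z = s * (y * x) := ⟨_, rfl⟩
  have hxz : x = c * z := by
    rw [hzdef, ← mul_assoc, ← hcs]; group
  have hzX : z ∈ X := by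
    rw [hzdef]
    exact X.mul_mem (hYX (hYPY hs)) (X.mul_mem (hYX hyY) hx)
  have hzYP : z ∈ Subgroup.normalizer (YP : Set G) := by
    rw [hzdef]
    exact Subgroup.mul_mem _ (Subgroup.le_normalizer hs)
      ((mem_normalizer_iff_map_conj YP (y * x)).2 hy)
  have hzT : z ∈ Subgroup.normalizer (T : Set G) := by rw [← hXdef]; exact hzX
  have hzTs : z ∈ Subgroup.normalizer ((T ⊔ YP : Subgroup G) : Set G) :=
    normalizer_inf_le_normalizer_sup T YP (Subgroup.mem_inf.2 ⟨hzT, hzYP⟩)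
  have hxact : ∀ t ∈ T, x * t * x⁻¹ = z * t * z⁻¹ := by
    intro t ht
    have h1 : z * t * z⁻¹ ∈ T := (Subgroup.mem_normalizer_iff.1 hzT t).1 ht
    have h2 := Subgroup.mem_centralizer_iff.1 hcT _ h1
    rw [hxz]
    calc c * z * t * (c * z)⁻¹ = c * (z * t * z⁻¹) * c⁻¹ := by group
      _ = ((z * t * z⁻¹) * c) * c⁻¹ := by rw [h2]
      _ = z * t * z⁻¹ := by group
  by_cases hcard : Nat.card T < Nat.card (T ⊔ YP : Subgroup G)
  · have hTs : (T ⊔ YP)^[z] ≤ (P : Subgroup G) := by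
      rw [(mem_normalizer_iff_map_conj _ z).1 hzTs]
      exact sup_le hTP hYPP
    obtain ⟨h, hh, hht⟩ := hM (T ⊔ YP) (sup_le hTP hYPP) hcard z hTs
    refine ⟨h, hh, fun t ht => ?_⟩
    rw [hxact t ht]
    exact hht t (Subgroup.mem_sup_left ht)
  · -- then `YP ≤ T`, hence `W ≤ T`, hence `x ∈ N(W)`
    have hYPT : YP ≤ T := by
      have heq : T = T ⊔ YP := by
        apply Subgroup.eq_of_le_of_card_ge le_sup_left
        exact not_lt.1 hcard
      rw [heq]; exact le_sup_right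
    have hWXT : W ⊓ X ≤ T := by
      intro w hw
      obtain ⟨hwW, hwX⟩ := Subgroup.mem_inf.1 hw
      apply hYPT
      rw [hYPdef]
      refine Subgroup.mem_inf.2 ⟨Subgroup.mem_inf.2 ⟨hWP hwW, hwX⟩, ?_⟩
      refine (hmemY w).2 ⟨hwX, ?_⟩
      intro i t ht
      have hwt : w * t * w⁻¹ ∈ D i := hXD w hwX i t ht
      have hcomm : w * t * w⁻¹ * t⁻¹ ∈ T :=
        T.mul_mem (hDT i hwt) (T.inv_mem (hDT i ht))
      cases i with
      | zero =>
        refine Subgroup.mem_inf.2 ⟨hcomm, ?_⟩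
        show w * t * w⁻¹ * t⁻¹ ∈ W
        have h1 : t * w⁻¹ * t⁻¹ ∈ W :=
          (Subgroup.mem_normalizer_iff.1 (hPW (hTP ht)) _).1 (W.inv_mem hwW)
        have e : w * t * w⁻¹ * t⁻¹ = w * (t * w⁻¹ * t⁻¹) := by group
        rw [e]; exact W.mul_mem hwW h1
      | succ i =>
        refine Subgroup.mem_inf.2 ⟨hcomm, ?_⟩
        show w * t * w⁻¹ * t⁻¹ ∈ W.lowerCentralSeries (i + 1)
        rw [Subgroup.lowerCentralSeries_succ, Subgroup.commutator_comm]
        have := Subgroup.commutator_mem_commutator hwW (Subgroup.mem_inf.1 ht).2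
        rwa [commutatorElement_def] at this
    have hWT : W ≤ T := by
      by_contra hnle
      have hlt : T < T ⊔ W := lt_of_le_of_ne le_sup_left (by
        intro h; apply hnle; rw [h]; exact le_sup_right)
      have hlt2 := lt_inf_normalizer_of_lt (p := p) (hPp.to_le (sup_le hTP hWP)) hlt
      apply hlt2.not_ge
      intro s hs
      obtain ⟨hs1, hs2⟩ := Subgroup.mem_inf.1 hs
      rw [sup_comm] at hs1
      obtain ⟨w, hw, t, ht, rfl⟩ := Cfsg.Agent.helper7.mem_sup_of_normalizer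
        (hTP.trans hPW) hs1
      have hwX : w ∈ X := by
        have : w = (w * t) * t⁻¹ := by group
        rw [this, hXdef]
        exact Subgroup.mul_mem _ hs2 (Subgroup.inv_mem _ (Subgroup.le_normalizer ht))
      exact T.mul_mem (hWXT (Subgroup.mem_inf.2 ⟨hw, hwX⟩)) ht
    have hxW : x ∈ Subgroup.normalizer (W : Set G) := by
      have key : ∀ g ∈ X, ∀ w ∈ W, g * w * g⁻¹ ∈ W := by
        intro g hg w hw
        have h1 : g * w * g⁻¹ ∈ T := hXD g hg 0 w (hWT hw)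
        exact hsc 0 w hw g (hTP h1)
      exact le_normalizer_of_forall_conj_mem key hx
    exact ⟨x, hxW, fun t _ => rfl⟩

/-- If `W` and the terms of its lower central series are strongly closed in `P` and `W ⊴ P`, then
`N_G(W)` controls strong fusion in `P`. -/
theorem control_of_stronglyClosed_lcs [Finite G] {p : ℕ} [Fact p.Prime] (P : Sylow p G)
    (W : Subgroup G) (hWP : W ≤ (P : Subgroup G))
    (hPW : (P : Subgroup G) ≤ Subgroup.normalizer (W : Set G))
    (hsc : ∀ i : ℕ, ∀ u ∈ W.lowerCentralSeries i, ∀ g : G, g * u * g⁻¹ ∈ (P : Subgroup G) →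
      g * u * g⁻¹ ∈ W.lowerCentralSeries i) :
    ∀ (m : ℕ) (T : Subgroup G), T ≤ (P : Subgroup G) →
      Nat.card (P : Subgroup G) - Nat.card T = m → ∀ g : G, T^[g] ≤ (P : Subgroup G) →
        ∃ h ∈ Subgroup.normalizer (W : Set G), ∀ t ∈ T, h * t * h⁻¹ = g * t * g⁻¹ := by
  have hPp : IsPGroup p (P : Subgroup G) := P.isPGroup'
  intro m
  induction m using Nat.strong_induction_on with
  | _ m IH =>
    intro T hTP hm g hg
    have hTcard : Nat.card T ≤ Nat.card (P : Subgroup G) := Subgroup.card_le_of_le hTP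
    have hM : ∀ T' : Subgroup G, T' ≤ (P : Subgroup G) → Nat.card T < Nat.card T' →
        ∀ g : G, T'^[g] ≤ (P : Subgroup G) →
          ∃ h ∈ Subgroup.normalizer (W : Set G), ∀ t ∈ T', h * t * h⁻¹ = g * t * g⁻¹ := by
      intro T' hT'P hlt g' hg'
      have hc : Nat.card T' ≤ Nat.card (P : Subgroup G) := Subgroup.card_le_of_le hT'P
      exact IH (Nat.card (P : Subgroup G) - Nat.card T') (by omega) T' hT'P rfl g' hg'
    have hkey : ∀ U ∈ {U : Subgroup G | U ≤ (P : Subgroup G) ∧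
          (¬ p ∣ ((P : Subgroup G) ⊓ Subgroup.normalizer ((U : Subgroup G) : Set G)).relIndex
            (Subgroup.normalizer ((U : Subgroup G) : Set G))) ∧ Nat.card T ≤ Nat.card U},
        ∀ x ∈ Subgroup.normalizer (U : Set G),
          ∃ y ∈ Subgroup.normalizer (W : Set G), ∀ t ∈ U, y * t * y⁻¹ = x * t * x⁻¹ := by
      rintro U ⟨hUP, hUext, hUc⟩ x hx
      apply local_step P W hWP hPW hsc U hUP hUext _ x hx
      intro T' hT'P hlt g' hg'
      exact hM T' hT'P (lt_of_le_of_lt hUc hlt) g' hg'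
    have hchain := alperin_chain P {U : Subgroup G | U ≤ (P : Subgroup G) ∧
          ¬ p ∣ ((P : Subgroup G) ⊓ Subgroup.normalizer ((U : Subgroup G) : Set G)).relIndex
            (Subgroup.normalizer ((U : Subgroup G) : Set G))}
      (fun U hU => hU.1) (fun T' hT' => by
        obtain ⟨g', hg'S, hg'ext⟩ := exists_extremal_conj P T' T' (hPp.to_le hT')
          Subgroup.le_normalizer
        exact ⟨_, ⟨hg'S, hg'ext⟩, ⟨g', rfl⟩, hg'ext⟩)
    have hg' : rconj (T : Set G) g⁻¹ ⊆ (P : Subgroup G) := by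
      rw [rconj_coe, inv_inv]; exact_mod_cast hg
    obtain ⟨l, hl1, hl2, hl3⟩ := hchain _ T g⁻¹ rfl hTP hg'
    have hl2' : ∀ q ∈ l, q.1 ∈ {U : Subgroup G | U ≤ (P : Subgroup G) ∧
          (¬ p ∣ ((P : Subgroup G) ⊓ Subgroup.normalizer ((U : Subgroup G) : Set G)).relIndex
            (Subgroup.normalizer ((U : Subgroup G) : Set G))) ∧ Nat.card T ≤ Nat.card U} ∧
        q.2 ∈ Subgroup.normalizer ((q.1 : Subgroup G) : Set G) := by
      intro q hq
      obtain ⟨⟨h1, h2⟩, h3⟩ := hl2 q hq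
      refine ⟨⟨h1, h2, ?_⟩, h3⟩
      obtain ⟨x, hx⟩ := chainCond_conj_subset l _ hl3 q hq
      rw [rconj_coe, SetLike.coe_subset_coe] at hx
      have := Subgroup.card_le_of_le hx
      rwa [card_map_conj] at this
    obtain ⟨y, hy, hyB⟩ := chain_control (N := Subgroup.normalizer (W : Set G)) hkey l _ hl2' hl3
    refine ⟨y⁻¹, Subgroup.inv_mem _ hy, ?_⟩
    intro t ht
    have h3 := hyB t ht
    rw [hl1] at h3
    rw [inv_inv] at h3 ⊢
    exact h3

end Cfsg.Agent.helper10
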