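import Mathlib
import Cfsg.Prelude.Def_Local
import Cfsg.Prelude.Def_TwoFusion
import Cfsg.Agent.Lib_helper1_Core
import Cfsg.Agent.Lib_helper19_Sylow
import Cfsg.Agent.Lib_helper15_ZStar
import Cfsg.Agent.Lib_helper7_PConstr
import Cfsg.Agent.Lib_helper10_Alperin
import Cfsg.Agent.Lib_helper10_Reach
import Cfsg.Agent.Lib_helper10_WellPlaced

set_option autoImplicit false

/-! Goldschmidt's refinement of Alperin's fusion theorem: the local case analysis. -/

namespace Cfsg.Agent.helper9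

open Cfsg

section Abstract

variable {H : Type*} [Group H] [Finite H] {p : ℕ} [Fact p.Prime]

/-- Burnside: if `Z ≤ C` is central in `C`, a `p`-group of index prime to `p` in `C`, and `C` is
normal in `H`, then `C ≤ Z ⊔ O_{p'}(H)`. -/
theorem le_sup_pPrimeCore_of_central_sylow (C Z : Subgroup H) [C.Normal]
    (hZp : IsPGroup p Z) (hZi : ¬ p ∣ Z.relIndex C)
    (hcent : ∀ z ∈ Z, ∀ c ∈ C, z * c = c * z) : C ≤ Z ⊔ pPrimeCore p H := by
  have hp : p.Prime := Fact.out
  have hZp' : IsPGroup p (Z.subgroupOf C) := hZp.comap_subtype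
  obtain ⟨P, hP⟩ : ∃ P : Sylow p ↥C, (P : Subgroup ↥C) = Z.subgroupOf C :=
    ⟨hZp'.toSylow hZi, IsPGroup.toSylow_coe hZp' hZi⟩
  have hPc : Subgroup.normalizer ((P : Subgroup ↥C) : Set ↥C) ≤
      Subgroup.centralizer ((P : Subgroup ↥C) : Set ↥C) := by
    intro k _
    rw [Subgroup.mem_centralizer_iff]
    intro y hy
    have hy' : y ∈ Z.subgroupOf C := by rw [← hP]; exact hy
    apply Subtype.ext
    exact hcent y (Subgroup.mem_subgroupOf.mp hy') k k.2
  have hcompl := MonoidHom.ker_transferSylow_isComplement' P hPc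
  have hnd := MonoidHom.not_dvd_card_ker_transferSylow P hPc
  have hQn : (MonoidHom.transferSylow P hPc).ker.Normal := MonoidHom.normal_ker _
  have hQle : (MonoidHom.transferSylow P hPc).ker ≤ pPrimeCore p ↥C :=
    Cfsg.Agent.helper1.le_pPrimeCore hQn ((Nat.Prime.coprime_iff_not_dvd hp).mpr hnd).symm
  have h1 : ((MonoidHom.transferSylow P hPc).ker.map C.subtype) ≤ pPrimeCore p H :=
    (Subgroup.map_mono hQle).trans
      (Cfsg.Agent.helper15.map_pPrimeCore_le_of_normal p C inferInstance)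
  intro c hc
  have h2 : (⟨c, hc⟩ : ↥C) ∈ ((MonoidHom.transferSylow P hPc).ker ⊔ (P : Subgroup ↥C) :
      Subgroup ↥C) := by
    rw [hcompl.sup_eq_top]; exact Subgroup.mem_top _
  obtain ⟨k, hk, z, hz, hkz⟩ := Subgroup.mem_sup_of_normal_left.mp h2
  have hz' : z ∈ Z.subgroupOf C := by rw [← hP]; exact hz
  have h3 : c = (k : H) * (z : H) := by
    have h4 : ((k * z : ↥C) : H) = ((⟨c, hc⟩ : ↥C) : H) := by rw [hkz]
    exact h4.symm
  rw [h3]
  exact Subgroup.mul_mem _ (Subgroup.mem_sup_right (h1 ⟨k, hk, rfl⟩))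
    (Subgroup.mem_sup_left (Subgroup.mem_subgroupOf.mp hz'))

/-- Frattini argument in product form. -/
theorem frattini_mul (S : Sylow p H) (M : Subgroup H) [M.Normal] (x : H) :
    ∃ n ∈ Subgroup.normalizer ((((S : Subgroup H) ⊓ M : Subgroup H)) : Set H),
      ∃ m ∈ M, x = n * m := by
  have h1 := Cfsg.Agent.helper19.frattini_inf S M
  have h2 : x ∈ Subgroup.normalizer ((((S : Subgroup H) ⊓ M : Subgroup H)) : Set H) ⊔ M := by
    rw [h1]; exact Subgroup.mem_top _
  obtain ⟨n, hn, m, hm, hnm⟩ := Subgroup.mem_sup_of_normal_right.mp h2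
  exact ⟨n, hn, m, hm, hnm.symm⟩

/-- **Goldschmidt's case analysis** for a normal `p`-subgroup `D` of `H`, with `S` a Sylow
`p`-subgroup: either every element of `H` is a product of an element centralizing `D` and an
element normalizing a strictly larger subgroup `R ≤ S`, or `C_H(D) ≤ O_{p'p}(H) = O_{p'}(H) × D`. -/
theorem gold_cases (S : Sylow p H) (D : Subgroup H) [D.Normal] (hD : IsPGroup p D)
    (hDS : D ≤ (S : Subgroup H)) :
    (∃ R : Subgroup H, D < R ∧ R ≤ (S : Subgroup H) ∧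
      ∀ x : H, ∃ c ∈ Subgroup.centralizer (D : Set H),
        ∃ n ∈ Subgroup.normalizer (R : Set H), x = c * n) ∨
    (Subgroup.centralizer (D : Set H) ≤ pPrimePCore p H ∧
      IsInternalDirectProduct (pPrimeCore p H) D (pPrimePCore p H)) := by
  classical
  have hp : p.Prime := Fact.out
  obtain ⟨K, hK⟩ : ∃ K, K = pPrimeCore p H := ⟨_, rfl⟩
  obtain ⟨L, hL⟩ : ∃ L, L = pPrimePCore p H := ⟨_, rfl⟩
  haveI hKn : K.Normal := by rw [hK]; exact Cfsg.Agent.helper1.pPrimeCore_normal p
  have hKc : (Nat.card K).Coprime p := by rw [hK]; exact Cfsg.Agent.helper1.pPrimeCore_coprime p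
  haveI hLn : L.Normal := by
    rw [hL]; unfold pPrimePCore
    exact (Cfsg.Agent.helper1.pCore_normal p).comap _
  have hker : (QuotientGroup.mk' (pPrimeCore p H)).ker = K := by
    rw [hK]; exact QuotientGroup.ker_mk' _
  have hKL : K ≤ L := by
    rw [hL]; unfold pPrimePCore
    rw [← hker]
    exact Subgroup.ker_le_comap _ _
  have hDL : D ≤ L := by
    rw [hL]; unfold pPrimePCore
    rw [← Subgroup.map_le_iff_le_comap]
    apply Cfsg.Agent.helper1.le_pCore
    · exact Subgroup.Normal.map inferInstance _ (QuotientGroup.mk'_surjective _)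
    · exact hD.map _
  -- `K` and `D` commute
  have hKD : K ⊓ D = ⊥ := by
    apply Subgroup.inf_eq_bot_of_coprime
    obtain ⟨n, hn⟩ := hD.exists_card_eq
    rw [hn]
    exact Nat.Coprime.pow_right n hKc
  have hcomm : ∀ k ∈ K, ∀ d ∈ D, k * d = d * k := fun k hk d hd =>
    Subgroup.commute_of_normal_of_disjoint K D hKn inferInstance (disjoint_iff.mpr hKD) k d hk hd
  have hKC : K ≤ Subgroup.centralizer (D : Set H) := by
    intro k hk
    rw [Subgroup.mem_centralizer_iff]
    intro d hd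
    exact (hcomm k hk d hd).symm
  -- `L = (S ⊓ L) K`
  have hLRK : L ≤ ((S : Subgroup H) ⊓ L) ⊔ K := by
    have hSp : IsPGroup p ↥(((S : Subgroup H) ⊓ L).subgroupOf L) :=
      IsPGroup.comap_subtype (S.isPGroup'.to_inf_left)
    have hidx : ¬ p ∣ (((S : Subgroup H) ⊓ L).subgroupOf L).index :=
      Cfsg.Agent.helper19.sylow_inf_normal_not_dvd S L
    obtain ⟨P, hP⟩ : ∃ P : Sylow p ↥L, (P : Subgroup ↥L) = ((S : Subgroup H) ⊓ L).subgroupOf L :=
      ⟨hSp.toSylow hidx, IsPGroup.toSylow_coe hSp hidx⟩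
    subst hL
    have h1 := Cfsg.Agent.helper7.map_sylow_pPrimePCore hp P
    rw [hP, Subgroup.subgroupOf_map_subtype, inf_of_le_left inf_le_right,
      ← Cfsg.Agent.helper7.map_pPrimePCore_eq] at h1
    have h2 := (Subgroup.map_le_map_iff (f := QuotientGroup.mk' (pPrimeCore p H))).mp h1.ge
    rw [hker] at h2
    exact h2
  by_cases hR : (S : Subgroup H) ⊓ L = D
  · -- `L = K × D`
    have hLKD : K ⊔ D = L := by
      apply le_antisymm (sup_le hKL hDL)
      rw [hR, sup_comm] at hLRK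
      exact hLRK
    -- second case distinction
    obtain ⟨C, hC⟩ : ∃ C, C = Subgroup.centralizer (D : Set H) := ⟨_, rfl⟩
    haveI hCn : C.Normal := by rw [hC]; infer_instance
    by_cases hR' : (S : Subgroup H) ⊓ (C ⊔ D) = D
    · right
      rw [← hK, ← hL, ← hC]
      refine ⟨?_, hKL, hDL, hcomm, hKD, hLKD⟩
      -- Burnside
      have hDi : ¬ p ∣ D.relIndex (C ⊔ D) := by
        have h1 := Cfsg.Agent.helper19.sylow_inf_normal_not_dvd S (C ⊔ D)
        rwa [hR'] at h1
      have hZi : ¬ p ∣ (D ⊓ C).relIndex C := by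
        rw [Subgroup.inf_relIndex_right, ← Subgroup.relIndex_sup_right C D]
        exact hDi
      have hcent : ∀ z ∈ D ⊓ C, ∀ c ∈ C, z * c = c * z := by
        intro z hz c hc
        rw [hC, Subgroup.mem_centralizer_iff] at hc
        exact hc z (Subgroup.mem_inf.mp hz).1
      have h1 := le_sup_pPrimeCore_of_central_sylow C (D ⊓ C) (hD.to_le inf_le_left) hZi hcent
      rw [← hK] at h1
      refine h1.trans ?_
      rw [← hLKD, sup_comm]
      exact sup_le_sup_left inf_le_left K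
    · left
      refine ⟨(S : Subgroup H) ⊓ (C ⊔ D), lt_of_le_of_ne (le_inf hDS le_sup_right) (Ne.symm hR'),
        inf_le_left, ?_⟩
      intro x
      obtain ⟨n, hn, m, hm, rfl⟩ := frattini_mul S (C ⊔ D) x
      obtain ⟨c, hc, d, hd, rfl⟩ := Subgroup.mem_sup_of_normal_right.mp hm
      refine ⟨n * c * n⁻¹, ?_, n * d, ?_, by group⟩
      · rw [← hC]; exact hCn.conj_mem c hc n
      · exact Subgroup.mul_mem _ hn
          (Subgroup.le_normalizer (le_inf hDS le_sup_right hd))
  · left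
    refine ⟨(S : Subgroup H) ⊓ L, lt_of_le_of_ne (le_inf hDS hDL) (Ne.symm hR), inf_le_left, ?_⟩
    intro x
    obtain ⟨n, hn, m, hm, rfl⟩ := frattini_mul S L x
    obtain ⟨r, hr, k, hk, rfl⟩ := Subgroup.mem_sup_of_normal_right.mp (hLRK hm)
    refine ⟨(n * r) * k * (n * r)⁻¹, ?_, n * r, ?_, by group⟩
    · exact hKC (hKn.conj_mem k hk (n * r))
    · exact Subgroup.mul_mem _ hn (Subgroup.le_normalizer hr)

end Abstract

section Concrete

variable {G : Type*} [Group G]

/-- The Goldschmidt family of a Sylow `p`-subgroup `P`. -/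
def GoldFam (p : ℕ) (P : Subgroup G) : Set (Subgroup G) :=
  {D | D ≤ P ∧
    Subgroup.centralizer ((D : Subgroup G) : Set G) ≤
      (pPrimePCore p ↥(Subgroup.normalizer ((D : Subgroup G) : Set G))).map
        (Subgroup.normalizer ((D : Subgroup G) : Set G)).subtype ∧
    IsInternalDirectProduct
      ((pPrimeCore p ↥(Subgroup.normalizer ((D : Subgroup G) : Set G))).map
        (Subgroup.normalizer ((D : Subgroup G) : Set G)).subtype)
      D
      ((pPrimePCore p ↥(Subgroup.normalizer ((D : Subgroup G) : Set G))).map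
        (Subgroup.normalizer ((D : Subgroup G) : Set G)).subtype) ∧
    ¬ p ∣ (P ⊓ Subgroup.normalizer ((D : Subgroup G) : Set G)).relIndex
      (Subgroup.normalizer ((D : Subgroup G) : Set G))}

/-- The local step: a fully normalized `U ≤ P` is either in the Goldschmidt family or its
normalizer factorizes through the centralizer and the normalizer of a larger subgroup of `P`. -/
theorem gold_local [Finite G] {p : ℕ} [Fact p.Prime] (P : Sylow p G) (U : Subgroup G)
    (hUP : U ≤ (P : Subgroup G))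
    (hext : ¬ p ∣ ((P : Subgroup G) ⊓ Subgroup.normalizer ((U : Subgroup G) : Set G)).relIndex
      (Subgroup.normalizer ((U : Subgroup G) : Set G))) :
    (∃ R : Subgroup G, U < R ∧ R ≤ (P : Subgroup G) ∧
      ∀ x ∈ Subgroup.normalizer ((U : Subgroup G) : Set G),
        ∃ c ∈ Subgroup.centralizer ((U : Subgroup G) : Set G),
          ∃ n ∈ Subgroup.normalizer ((R : Subgroup G) : Set G), x = c * n) ∨
    U ∈ GoldFam p (P : Subgroup G) := by
  obtain ⟨N, hN⟩ : ∃ N, N = Subgroup.normalizer ((U : Subgroup G) : Set G) := ⟨_, rfl⟩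
  have hUN : U ≤ N := by rw [hN]; exact Subgroup.le_normalizer
  have hSp : IsPGroup p (((P : Subgroup G) ⊓ N).subgroupOf N) :=
    (P.isPGroup'.to_le inf_le_left).comap_subtype
  have hSi : ¬ p ∣ (((P : Subgroup G) ⊓ N).subgroupOf N).index := by rw [hN]; exact hext
  obtain ⟨S', hS'⟩ : ∃ S' : Sylow p ↥N, (S' : Subgroup ↥N) = ((P : Subgroup G) ⊓ N).subgroupOf N :=
    ⟨hSp.toSylow hSi, IsPGroup.toSylow_coe hSp hSi⟩
  haveI hDn : (U.subgroupOf N).Normal := by rw [hN]; infer_instance
  have hDp : IsPGroup p (U.subgroupOf N) := (P.isPGroup'.to_le hUP).comap_subtype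
  have hDS : U.subgroupOf N ≤ (S' : Subgroup ↥N) := by
    rw [hS']
    intro d hd
    rw [Subgroup.mem_subgroupOf] at hd ⊢
    exact Subgroup.mem_inf.mpr ⟨hUP hd, d.2⟩
  have hUmap : (U.subgroupOf N).map N.subtype = U := Subgroup.map_subgroupOf_eq_of_le hUN
  rcases gold_cases S' (U.subgroupOf N) hDp hDS with ⟨R', hlt, hR'S, hfac⟩ | ⟨hcent, hidp⟩
  · left
    refine ⟨R'.map N.subtype, ?_, ?_, ?_⟩
    · rw [← hUmap]
      exact Subgroup.map_subtype_lt_map_subtype.mpr hlt
    · rintro _ ⟨r, hr, rfl⟩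
      have h1 := hR'S hr
      rw [hS', Subgroup.mem_subgroupOf] at h1
      exact (Subgroup.mem_inf.mp h1).1
    · intro x hx
      rw [← hN] at hx
      obtain ⟨c, hc, n, hn, hxcn⟩ := hfac ⟨x, hx⟩
      refine ⟨(c : G), ?_, (n : G), ?_, ?_⟩
      · rw [Subgroup.mem_centralizer_iff] at hc ⊢
        intro u hu
        have h1 := hc ⟨u, hUN hu⟩ (Subgroup.mem_subgroupOf.mpr hu)
        have h2 : (((⟨u, hUN hu⟩ : ↥N) * c : ↥N) : G) = ((c * (⟨u, hUN hu⟩ : ↥N) : ↥N) : G) := by
          rw [h1]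
        exact h2
      · exact Subgroup.le_normalizer_map N.subtype ⟨n, hn, rfl⟩
      · have h2 : ((⟨x, hx⟩ : ↥N) : G) = ((c * n : ↥N) : G) := by rw [hxcn]
        exact h2
  · right
    obtain ⟨h1, h2, h3, h4, h5⟩ := hidp
    refine ⟨hUP, ?_, ⟨?_, ?_, ?_, ?_, ?_⟩, hext⟩
    · rw [← hN]
      intro c hc
      have hcN : c ∈ N := by rw [hN]; exact Subgroup.centralizer_le_normalizer _ hc
      refine ⟨⟨c, hcN⟩, hcent ?_, rfl⟩
      rw [Subgroup.mem_centralizer_iff] at hc ⊢
      intro u hu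
      apply Subtype.ext
      exact hc (u : G) (Subgroup.mem_subgroupOf.mp hu)
    · rw [← hN]; exact Subgroup.map_mono h1
    · rw [← hN]
      calc U = (U.subgroupOf N).map N.subtype := hUmap.symm
        _ ≤ _ := Subgroup.map_mono h2
    · rw [← hN]
      rintro _ ⟨k, hk, rfl⟩ u hu
      have h6 := h3 k hk ⟨u, hUN hu⟩ (Subgroup.mem_subgroupOf.mpr hu)
      have h7 : ((k * (⟨u, hUN hu⟩ : ↥N) : ↥N) : G) = (((⟨u, hUN hu⟩ : ↥N) * k : ↥N) : G) := by
        rw [h6]
      exact h7
    · rw [← hN]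
      calc (pPrimeCore p ↥N).map N.subtype ⊓ U
          = (pPrimeCore p ↥N).map N.subtype ⊓ (U.subgroupOf N).map N.subtype := by rw [hUmap]
        _ = (pPrimeCore p ↥N ⊓ U.subgroupOf N).map N.subtype :=
            (Subgroup.map_inf _ _ _ N.subtype_injective).symm
        _ = ⊥ := by rw [h4, Subgroup.map_bot]
    · rw [← hN]
      calc (pPrimeCore p ↥N).map N.subtype ⊔ U
          = (pPrimeCore p ↥N).map N.subtype ⊔ (U.subgroupOf N).map N.subtype := by rw [hUmap]
        _ = (pPrimeCore p ↥N ⊔ U.subgroupOf N).map N.subtype := (Subgroup.map_sup _ _ _).symm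
        _ = _ := by rw [h5]

end Concrete

section Chains

open Cfsg.Agent.helper10

variable {G : Type*} [Group G]

/-- a chain up to a prefix centralizing the starting set -/
def GChain (𝓕 : Set (Subgroup G)) (A : Set G) (g : G) : Prop :=
  ∃ c ∈ Subgroup.centralizer A, ∃ g' : G, g = c * g' ∧ IsChain 𝓕 A g'

theorem rconj_of_mem_centralizer (A : Set G) (c : G) (hc : c ∈ Subgroup.centralizer A) :
    rconj A c = A := by
  ext b
  rw [mem_rconj_iff]
  rw [Subgroup.mem_centralizer_iff] at hc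
  constructor
  · intro h
    have h1 := hc _ h
    have h2 : b = c * b * c⁻¹ := by
      calc b = c⁻¹ * (c * b * c⁻¹ * c) := by group
        _ = c⁻¹ * (c * (c * b * c⁻¹)) := by rw [h1]
        _ = c * b * c⁻¹ := by group
    rw [h2]; exact h
  · intro h
    have h1 := hc _ h
    have h2 : c * b * c⁻¹ = b := by rw [← h1]; group
    rw [h2]; exact h

theorem gchain_of_isChain {𝓕 : Set (Subgroup G)} {A : Set G} {g : G} (h : IsChain 𝓕 A g) :
    GChain 𝓕 A g :=
  ⟨1, Subgroup.one_mem _, g, (one_mul g).symm, h⟩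

theorem gchain_mono {𝓕 : Set (Subgroup G)} {A B : Set G} {g : G} (hAB : A ⊆ B) :
    GChain 𝓕 B g → GChain 𝓕 A g := by
  rintro ⟨c, hc, g', hg, h⟩
  exact ⟨c, Subgroup.centralizer_le hAB hc, g', hg, isChain_mono hAB h⟩

theorem gchain_trans {𝓕 : Set (Subgroup G)} {A : Set G} {g h : G} :
    GChain 𝓕 A g → GChain 𝓕 (rconj A g) h → GChain 𝓕 A (g * h) := by
  rintro ⟨c, hc, g', rfl, h1⟩ ⟨c', hc', h', rfl, h2⟩
  have h3 : rconj A (c * g') = rconj A g' := by
    rw [← rconj_rconj, rconj_of_mem_centralizer A c hc]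
  rw [h3] at hc' h2
  refine ⟨c * (g' * c' * g'⁻¹), Subgroup.mul_mem _ hc ?_, g' * h', by group, isChain_trans h1 h2⟩
  rw [Subgroup.mem_centralizer_iff] at hc' ⊢
  intro a ha
  have h4 : g'⁻¹ * a * g' ∈ rconj A g' := ⟨a, ha, rfl⟩
  have h5 := hc' _ h4
  calc a * (g' * c' * g'⁻¹) = g' * ((g'⁻¹ * a * g') * c') * g'⁻¹ := by group
    _ = g' * (c' * (g'⁻¹ * a * g')) * g'⁻¹ := by rw [h5]
    _ = g' * c' * g'⁻¹ * a := by group

theorem gchain_prefix {𝓕 : Set (Subgroup G)} {A : Set G} {c g : G}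
    (hc : c ∈ Subgroup.centralizer A) (h : GChain 𝓕 A g) : GChain 𝓕 A (c * g) := by
  apply gchain_trans ⟨c, hc, 1, (mul_one c).symm, isChain_one 𝓕 A⟩
  rw [rconj_of_mem_centralizer A c hc]
  exact h

theorem gchain_of_list {𝓕 𝓕' : Set (Subgroup G)}
    (key : ∀ U ∈ 𝓕', ∀ x ∈ Subgroup.normalizer ((U : Subgroup G) : Set G),
      GChain 𝓕 (U : Set G) x) :
    ∀ (l : List (Subgroup G × G)) (B : Set G),
      (∀ q ∈ l, q.1 ∈ 𝓕' ∧ q.2 ∈ Subgroup.normalizer ((q.1 : Subgroup G) : Set G)) →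
      ChainCond B l → GChain 𝓕 B (l.map Prod.snd).prod := by
  intro l
  induction l with
  | nil =>
    intro B _ _
    exact gchain_of_isChain (isChain_one 𝓕 B)
  | cons q l ih =>
    intro B hq hB
    obtain ⟨hBq, hB'⟩ := hB
    have hq1 := hq q List.mem_cons_self
    have h1 : GChain 𝓕 B q.2 := gchain_mono hBq (key q.1 hq1.1 q.2 hq1.2)
    have h2 := ih (rconj B q.2) (fun q' hq' => hq q' (List.mem_cons_of_mem _ hq')) hB'
    simp only [List.map_cons, List.prod_cons]
    exact gchain_trans h1 h2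

/-- **Alperin--Goldschmidt**, chain form. -/
theorem gold_main [Finite G] {p : ℕ} [Fact p.Prime] (P : Sylow p G) :
    ∀ (m : ℕ) (T : Subgroup G), Nat.card (P : Subgroup G) - Nat.card T = m →
      T ≤ (P : Subgroup G) → ∀ g : G, rconj (T : Set G) g ⊆ (P : Subgroup G) →
      GChain (GoldFam p (P : Subgroup G)) (T : Set G) g := by
  intro m
  induction m using Nat.strong_induction_on with
  | _ m IH =>
    intro T hm hTP g hg
    have hP : IsPGroup p (P : Subgroup G) := P.isPGroup'
    have hchain := alperin_chain P {U : Subgroup G | U ≤ (P : Subgroup G) ∧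
          ¬ p ∣ ((P : Subgroup G) ⊓ Subgroup.normalizer ((U : Subgroup G) : Set G)).relIndex
            (Subgroup.normalizer ((U : Subgroup G) : Set G))}
      (fun U hU => hU.1) (fun T' hT' => by
        obtain ⟨g', hg'S, hg'ext⟩ := exists_extremal_conj P T' T' (hP.to_le hT')
          Subgroup.le_normalizer
        exact ⟨_, ⟨hg'S, hg'ext⟩, ⟨g', rfl⟩, hg'ext⟩)
    obtain ⟨l, hl1, hl2, hl3⟩ := hchain _ T g rfl hTP hg
    have hl2' : ∀ q ∈ l, q.1 ∈ {U : Subgroup G | U ≤ (P : Subgroup G) ∧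
          (¬ p ∣ ((P : Subgroup G) ⊓ Subgroup.normalizer ((U : Subgroup G) : Set G)).relIndex
            (Subgroup.normalizer ((U : Subgroup G) : Set G))) ∧ Nat.card T ≤ Nat.card U} ∧
        q.2 ∈ Subgroup.normalizer ((q.1 : Subgroup G) : Set G) := by
      intro q hq
      obtain ⟨⟨h1, h2⟩, h3⟩ := hl2 q hq
      refine ⟨⟨h1, h2, ?_⟩, h3⟩
      obtain ⟨x, hx⟩ := chainCond_conj_subset l _ hl3 q hq
      rw [rconj_coe, SetLike.coe_subset_coe] at hx
      have := Subgroup.card_le_of_le hx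
      rwa [card_map_conj] at this
    have key : ∀ U ∈ {U : Subgroup G | U ≤ (P : Subgroup G) ∧
          (¬ p ∣ ((P : Subgroup G) ⊓ Subgroup.normalizer ((U : Subgroup G) : Set G)).relIndex
            (Subgroup.normalizer ((U : Subgroup G) : Set G))) ∧ Nat.card T ≤ Nat.card U},
        ∀ x ∈ Subgroup.normalizer ((U : Subgroup G) : Set G),
          GChain (GoldFam p (P : Subgroup G)) (U : Set G) x := by
      rintro U ⟨hUP, hUext, hUc⟩ x hx
      have hUcard : Nat.card U ≤ Nat.card (P : Subgroup G) := Subgroup.card_le_of_le hUP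
      have hTcard : Nat.card T ≤ Nat.card (P : Subgroup G) := Subgroup.card_le_of_le hTP
      by_cases hlt : Nat.card T < Nat.card U
      · refine IH (Nat.card (P : Subgroup G) - Nat.card U) (by omega) U rfl hUP x ?_
        rw [rconj_eq_self_of_mem_normalizer U x hx]
        exact SetLike.coe_subset_coe.mpr hUP
      · rcases gold_local P U hUP hUext with ⟨R, hUR, hRP, hfac⟩ | hU
        · obtain ⟨c, hc, n, hn, rfl⟩ := hfac x hx
          have hRcard : Nat.card U < Nat.card R := card_lt_card_of_lt hUR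
          have hRcard' : Nat.card R ≤ Nat.card (P : Subgroup G) := Subgroup.card_le_of_le hRP
          have h1 : GChain (GoldFam p (P : Subgroup G)) (R : Set G) n := by
            refine IH (Nat.card (P : Subgroup G) - Nat.card R) (by omega) R rfl hRP n ?_
            rw [rconj_eq_self_of_mem_normalizer R n hn]
            exact SetLike.coe_subset_coe.mpr hRP
          exact gchain_prefix hc (gchain_mono (SetLike.coe_subset_coe.mpr hUR.le) h1)
        · exact gchain_of_isChain (isChain_single hU hx (le_refl _))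
    have h := gchain_of_list key l (T : Set G) hl2' hl3
    rw [hl1] at h
    exact h

/-- the Sylow subgroup itself lies in the Goldschmidt family -/
theorem sylow_mem_goldFam [Finite G] {p : ℕ} [Fact p.Prime] (P : Sylow p G) :
    (P : Subgroup G) ∈ GoldFam p (P : Subgroup G) := by
  have hext : ¬ p ∣ ((P : Subgroup G) ⊓
      Subgroup.normalizer (((P : Subgroup G) : Subgroup G) : Set G)).relIndex
      (Subgroup.normalizer (((P : Subgroup G) : Subgroup G) : Set G)) := by
    rw [inf_of_le_left Subgroup.le_normalizer]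
    intro h
    exact P.not_dvd_index (h.trans (Subgroup.relIndex_dvd_index_of_le Subgroup.le_normalizer))
  rcases gold_local P (P : Subgroup G) le_rfl hext with ⟨R, hUR, hRP, -⟩ | hU
  · exact absurd hRP (not_le_of_gt hUR)
  · exact hU

/-- explicit indexed form of a chain given by a list -/
theorem chain_list_to_fin {𝓕 : Set (Subgroup G)} {A : Set G} (l : List (Subgroup G × G))
    (h2 : ∀ q ∈ l, q.1 ∈ 𝓕 ∧ q.2 ∈ Subgroup.normalizer ((q.1 : Subgroup G) : Set G))
    (h3 : ChainCond A l) :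
    ∃ (T : Fin l.length → Subgroup G) (x : Fin l.length → G),
      (List.ofFn x).prod = (l.map Prod.snd).prod ∧
      (∀ i, T i ∈ 𝓕) ∧ (∀ i, x i ∈ Subgroup.normalizer ((T i : Subgroup G) : Set G)) ∧
      (∀ h : 0 < l.length, A ⊆ T ⟨0, h⟩) ∧
      ∀ (i : Fin l.length) (h : i.val + 1 < l.length),
        (fun a => (((List.ofFn x).take (i.val + 1)).prod)⁻¹ * a *
          ((List.ofFn x).take (i.val + 1)).prod) '' A ⊆ T ⟨i.val + 1, h⟩ := by
  have hofFn : List.ofFn (fun i : Fin l.length => (l[(i : ℕ)]).2) = l.map Prod.snd :=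
    List.ofFn_getElem_eq_map l Prod.snd
  obtain ⟨c0, cs⟩ := chainCond_fin A l h3
  refine ⟨fun i => (l[(i : ℕ)]).1, fun i => (l[(i : ℕ)]).2, ?_, ?_, ?_, ?_, ?_⟩
  · rw [hofFn]
  · intro i; exact (h2 _ (List.getElem_mem i.2)).1
  · intro i; exact (h2 _ (List.getElem_mem i.2)).2
  · intro h; exact c0 h
  · intro i h
    rw [hofFn]
    exact cs i.val h

end Chains

end Cfsg.Agent.helper9
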