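import Mathlib
import Cfsg.Agent.Lib_helper10_Sec3
import Cfsg.Agent.Lib_helper10_ChainStab
import Cfsg.Agent.Lib_helper10_NormalFusion2
import Cfsg.Agent.Lib_helper9_Gold

set_option autoImplicit false

/-!
# Glauberman's section theorem: the non-constrained case with `O_p ≠ 1`
-/

namespace Cfsg.Agent.helper10

universe u

section eps

variable {X : Type u} [Group X] [Finite X] {p : ℕ} [hp : Fact p.Prime]

local notation:max K "^[" g "]" => Subgroup.map (MulEquiv.toMonoidHom (MulAut.conj g)) K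

/-- If `X = S·C` with `C` normal and `S` a `p`-group, every `p'`-element lies in `C`. -/
theorem mem_of_coprime_of_sup_eq_top (S C : Subgroup X) [C.Normal] (hS : IsPGroup p S)
    (hSC : S ⊔ C = ⊤) (z : X) (hz : Nat.Coprime (orderOf z) p) : z ∈ C := by
  have hzm : z ∈ S ⊔ C := by rw [hSC]; exact Subgroup.mem_top z
  obtain ⟨s, hs, c, hc, rfl⟩ := (Subgroup.mem_sup_of_normal_right).1 hzm
  have h1 : (QuotientGroup.mk' C) (s * c) = (QuotientGroup.mk' C) s := by
    rw [map_mul]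
    have : (QuotientGroup.mk' C) c = 1 := by
      have : c ∈ (QuotientGroup.mk' C).ker := by rw [QuotientGroup.ker_mk']; exact hc
      exact this
    rw [this, mul_one]
  obtain ⟨k, hk⟩ := hS ⟨s, hs⟩
  have h2 : orderOf s ∣ p ^ k := by
    apply orderOf_dvd_of_pow_eq_one
    have := congrArg Subtype.val hk
    simpa using this
  have h3 : orderOf ((QuotientGroup.mk' C) s) ∣ p ^ k := (orderOf_map_dvd _ s).trans h2
  have h4 : orderOf ((QuotientGroup.mk' C) s) ∣ orderOf (s * c) := by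
    rw [← h1]; exact orderOf_map_dvd _ _
  have h5 : Nat.Coprime (orderOf (s * c)) (p ^ k) := Nat.Coprime.pow_right k hz
  have h6 : orderOf ((QuotientGroup.mk' C) s) ∣ Nat.gcd (orderOf (s * c)) (p ^ k) :=
    Nat.dvd_gcd h4 h3
  rw [h5] at h6
  have h7 : (QuotientGroup.mk' C) s = 1 := orderOf_eq_one_iff.mp (Nat.dvd_one.mp h6)
  have h8 : s ∈ C := by
    rw [← QuotientGroup.ker_mk' C]; exact h7
  exact C.mul_mem h8 hc

/-- The elements of `N(Q)` acting trivially on `Q/P`. -/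
def quotStab (P Q : Subgroup X) [P.Normal] : Subgroup X where
  carrier := {y | y ∈ Subgroup.normalizer (Q : Set X) ∧ ∀ q ∈ Q, y * q * y⁻¹ * q⁻¹ ∈ P}
  one_mem' := ⟨Subgroup.one_mem _, fun q _ => by simp⟩
  mul_mem' := by
    rintro a b ⟨haN, ha⟩ ⟨hbN, hb⟩
    refine ⟨Subgroup.mul_mem _ haN hbN, fun q hq => ?_⟩
    have h1 : a * (b * q * b⁻¹ * q⁻¹) * a⁻¹ ∈ P := Subgroup.Normal.conj_mem inferInstance _ (hb q hq) a
    have h2 := ha q hq
    have h3 : a * b * q * (a * b)⁻¹ * q⁻¹ = a * (b * q * b⁻¹ * q⁻¹) * a⁻¹ * (a * q * a⁻¹ * q⁻¹) := by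
      group
    rw [h3]
    exact P.mul_mem h1 h2
  inv_mem' := by
    rintro a ⟨haN, ha⟩
    refine ⟨Subgroup.inv_mem _ haN, fun q hq => ?_⟩
    have h1 : a⁻¹ * (a * q * a⁻¹ * q⁻¹)⁻¹ * a⁻¹⁻¹ ∈ P :=
      Subgroup.Normal.conj_mem inferInstance _ (P.inv_mem (ha q hq)) a⁻¹
    have h2 : a⁻¹ * q * a⁻¹⁻¹ * q⁻¹ = a⁻¹ * (a * q * a⁻¹ * q⁻¹)⁻¹ * a⁻¹⁻¹ := by group
    rw [h2]
    exact h1

theorem mem_quotStab (P Q : Subgroup X) [P.Normal] (y : X) :
    y ∈ quotStab P Q ↔ y ∈ Subgroup.normalizer (Q : Set X) ∧ ∀ q ∈ Q, y * q * y⁻¹ * q⁻¹ ∈ P :=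
  Iff.rfl

/-- The extremal case: an element of `N(Q)` acting trivially on `Q/P` acts on `Q` like an element
of `S`, when `X = S·C_X(P)`. -/
theorem exists_sylow_elt_of_trivial_on_quotient (S : Sylow p X) (P : Subgroup X) [P.Normal]
    (hSC : (S : Subgroup X) ⊔ Subgroup.centralizer (P : Set X) = ⊤)
    (Q : Subgroup X) (hPQ : P ≤ Q) (hQS : Q ≤ (S : Subgroup X))
    (hext : ¬ p ∣ ((S : Subgroup X) ⊓ Subgroup.normalizer (Q : Set X)).relIndex
      (Subgroup.normalizer (Q : Set X)))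
    (y : X) (hy : y ∈ quotStab P Q) :
    ∃ s ∈ (S : Subgroup X), ∀ q ∈ Q, s * q * s⁻¹ = y * q * y⁻¹ := by
  have hSp : IsPGroup p (S : Subgroup X) := S.isPGroup'
  have hYN : quotStab P Q ≤ Subgroup.normalizer (Q : Set X) := fun y hy => hy.1
  have hNY : Subgroup.normalizer (Q : Set X) ≤ Subgroup.normalizer ((quotStab P Q : Subgroup X) : Set X) := by
    apply le_normalizer_of_forall_conj_mem
    rintro n hn y ⟨hyN, hy⟩
    refine ⟨Subgroup.mul_mem _ (Subgroup.mul_mem _ hn hyN) (Subgroup.inv_mem _ hn), fun q hq => ?_⟩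
    have hq' : n⁻¹ * q * n⁻¹⁻¹ ∈ Q :=
      (Subgroup.mem_normalizer_iff.mp (Subgroup.inv_mem _ hn) q).mp hq
    have h1 := hy _ hq'
    have h2 : n * (y * (n⁻¹ * q * n⁻¹⁻¹) * y⁻¹ * (n⁻¹ * q * n⁻¹⁻¹)⁻¹) * n⁻¹ ∈ P :=
      Subgroup.Normal.conj_mem inferInstance _ h1 n
    have h3 : n * y * n⁻¹ * q * (n * y * n⁻¹)⁻¹ * q⁻¹ =
        n * (y * (n⁻¹ * q * n⁻¹⁻¹) * y⁻¹ * (n⁻¹ * q * n⁻¹⁻¹)⁻¹) * n⁻¹ := by group
    rw [h3]; exact h2
  have hCY : Subgroup.centralizer (Q : Set X) ≤ quotStab P Q := by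
    intro c hc
    refine ⟨Subgroup.centralizer_le_normalizer _ hc, fun q hq => ?_⟩
    have h1 : q * c = c * q := (Subgroup.mem_centralizer_iff.mp hc) q hq
    have h2 : c * q * c⁻¹ * q⁻¹ = 1 := by
      rw [← h1]; group
    rw [h2]; exact P.one_mem
  have hYC : quotStab P Q ≤ Subgroup.normalizer ((Subgroup.centralizer (Q : Set X) : Subgroup X) : Set X) := by
    apply le_normalizer_of_forall_conj_mem
    intro n hn c hc
    rw [Subgroup.mem_centralizer_iff] at hc ⊢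
    intro q hq
    have hq' : n⁻¹ * q * n⁻¹⁻¹ ∈ Q :=
      (Subgroup.mem_normalizer_iff.mp (Subgroup.inv_mem _ (hYN hn)) q).mp hq
    have h1 := hc _ hq'
    calc q * (n * c * n⁻¹) = n * ((n⁻¹ * q * n⁻¹⁻¹) * c) * n⁻¹ := by group
      _ = n * (c * (n⁻¹ * q * n⁻¹⁻¹)) * n⁻¹ := by rw [h1]
      _ = n * c * n⁻¹ * q := by group
  have hS₁i : ¬ p ∣ ((S : Subgroup X) ⊓ quotStab P Q).relIndex (quotStab P Q) := by
    have h1 := relSylow_inf_normal (Subgroup.normalizer (Q : Set X))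
      ((S : Subgroup X) ⊓ Subgroup.normalizer (Q : Set X)) (quotStab P Q) inf_le_right
      (hSp.to_le inf_le_left) hext hYN hNY
    have h2 : ((S : Subgroup X) ⊓ Subgroup.normalizer (Q : Set X)) ⊓ quotStab P Q =
        (S : Subgroup X) ⊓ quotStab P Q := by
      rw [inf_assoc, inf_eq_right.2 hYN]
    rwa [h2] at h1
  have hpow : ∀ y ∈ quotStab P Q, ∃ m : ℕ, y ^ (p ^ m) ∈ Subgroup.centralizer (Q : Set X) := by
    intro y hy
    have hpos : 0 < orderOf y := orderOf_pos y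
    have hcop : Nat.Coprime (orderOf (y ^ (p ^ (orderOf y).factorization p))) p := by
      rw [orderOf_pow' y (pow_ne_zero _ hp.out.ne_zero),
        Nat.gcd_eq_right (Nat.ordProj_dvd (orderOf y) p)]
      exact (Nat.coprime_ordCompl hp.out hpos.ne').symm
    set z := y ^ (p ^ (orderOf y).factorization p) with hz
    have hzY : z ∈ quotStab P Q := Subgroup.pow_mem _ hy _
    have hzC : z ∈ Subgroup.centralizer (P : Set X) :=
      mem_of_coprime_of_sup_eq_top (S : Subgroup X) _ hSp hSC z hcop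
    let D : ℕ → Subgroup X := fun i => match i with
      | 0 => Q
      | 1 => P
      | _ + 2 => ⊥
    have hDp : ∀ i, IsPGroup p (D i) := by
      intro i
      match i with
      | 0 => exact hSp.to_le hQS
      | 1 => exact hSp.to_le (hPQ.trans hQS)
      | _ + 2 => exact IsPGroup.of_bot
    have hDmono : ∀ i, D (i + 1) ≤ D i := by
      intro i
      match i with
      | 0 => exact hPQ
      | 1 => exact bot_le
      | _ + 2 => exact le_rfl
    have hDstab : ∀ i, ∀ t ∈ D i, z * t * z⁻¹ * t⁻¹ ∈ D (i + 1) := by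
      intro i
      match i with
      | 0 => exact fun t ht => hzY.2 t ht
      | 1 =>
        intro t ht
        have h1 : t * z = z * t := (Subgroup.mem_centralizer_iff.mp hzC) t ht
        have h2 : z * t * z⁻¹ * t⁻¹ = 1 := by rw [← h1]; group
        show z * t * z⁻¹ * t⁻¹ ∈ (⊥ : Subgroup X)
        rw [h2]; exact Subgroup.one_mem _
      | k + 2 =>
        intro t ht
        have ht' : t ∈ (⊥ : Subgroup X) := ht
        rw [Subgroup.mem_bot] at ht'
        show z * t * z⁻¹ * t⁻¹ ∈ (⊥ : Subgroup X)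
        rw [ht']; simp
    obtain ⟨m, hm⟩ := pow_centralizes_of_stabilizes_chain z 2 D hDp rfl hDmono hDstab
    refine ⟨(orderOf y).factorization p + m, ?_⟩
    rw [pow_add, pow_mul, ← hz, Subgroup.mem_centralizer_iff]
    intro t ht
    have h1 := hm t ht
    calc t * z ^ p ^ m = (z ^ p ^ m * t * (z ^ p ^ m)⁻¹) * z ^ p ^ m := by rw [h1]
      _ = z ^ p ^ m * t := by group
  obtain ⟨c, hc, s, hs, hycs⟩ := mem_mul_of_pow_mem (quotStab P Q) (Subgroup.centralizer (Q : Set X))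
    ((S : Subgroup X) ⊓ quotStab P Q) hCY hYC inf_le_right (hSp.to_le inf_le_left) hS₁i hpow y hy
  refine ⟨s, (Subgroup.mem_inf.1 hs).1, fun q hq => ?_⟩
  have hsq : s * q * s⁻¹ ∈ Q :=
    (Subgroup.mem_normalizer_iff.mp (hYN (Subgroup.mem_inf.1 hs).2) q).mp hq
  have h1 : (s * q * s⁻¹) * c = c * (s * q * s⁻¹) := (Subgroup.mem_centralizer_iff.mp hc) _ hsq
  rw [hycs]
  calc s * q * s⁻¹ = (s * q * s⁻¹) * c * c⁻¹ := by group
    _ = c * (s * q * s⁻¹) * c⁻¹ := by rw [h1]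
    _ = c * s * q * (c * s)⁻¹ := by group

end eps

end Cfsg.Agent.helper10
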