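import Mathlib
import Cfsg.Agent.Lib_helper10_Sec4

set_option autoImplicit false

/-!
# Glauberman's section theorem: structure of the non-constrained case
-/

namespace Cfsg.Agent.helper10

universe u

section struct

variable {X : Type u} [Group X] [Finite X] {p : ℕ} [hp : Fact p.Prime]

local notation:max K "^[" g "]" => Subgroup.map (MulEquiv.toMonoidHom (MulAut.conj g)) K

/-- (α) If `O_{p'}(X) = 1` and `X` is not constrained, then `S ∩ P·C_X(P) ≰ P = O_p(X)`. -/
theorem not_le_pCore_of_not_constrained (S : Sylow p X) (hD : Cfsg.pPrimeCore p X = ⊥)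
    (hnc : ¬ Constrained p X) :
    ¬ ((S : Subgroup X) ⊓ (Cfsg.pCore p X ⊔ Subgroup.centralizer ((Cfsg.pCore p X : Subgroup X) : Set X))
      ≤ Cfsg.pCore p X) := by
  intro hle
  apply hnc
  haveI hPn : (Cfsg.pCore p X).Normal := Cfsg.Agent.helper1.pCore_normal p
  obtain ⟨P, hP⟩ : ∃ P : Subgroup X, P = Cfsg.pCore p X := ⟨_, rfl⟩
  unfold Constrained
  rw [← hP] at hle ⊢
  haveI : P.Normal := by rw [hP]; exact hPn
  have hPS : P ≤ (S : Subgroup X) := by rw [hP]; exact Cfsg.Agent.helper1.pCore_le_sylow S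
  have hPp : IsPGroup p P := S.isPGroup'.to_le hPS
  obtain ⟨C, hC⟩ : ∃ C : Subgroup X, C = Subgroup.centralizer (P : Set X) := ⟨_, rfl⟩
  rw [← hC] at hle ⊢
  haveI : C.Normal := by rw [hC]; infer_instance
  have hZeq : (S : Subgroup X) ⊓ C = P ⊓ C := by
    apply le_antisymm
    · intro x hx
      obtain ⟨hxS, hxC⟩ := Subgroup.mem_inf.1 hx
      exact Subgroup.mem_inf.2 ⟨hle (Subgroup.mem_inf.2 ⟨hxS, Subgroup.mem_sup_right hxC⟩), hxC⟩
    · exact inf_le_inf_right _ hPS
  have hZi : ¬ p ∣ (P ⊓ C).relIndex C := by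
    rw [← hZeq]
    exact Cfsg.Agent.helper19.sylow_inf_normal_not_dvd S C
  have hcent : ∀ z ∈ P ⊓ C, ∀ c ∈ C, z * c = c * z := by
    intro z hz c hc
    rw [hC] at hc
    exact (Subgroup.mem_centralizer_iff.mp hc) z (Subgroup.mem_inf.1 hz).1
  have h1 := Cfsg.Agent.helper9.le_sup_pPrimeCore_of_central_sylow C (P ⊓ C)
    (hPp.to_le inf_le_left) hZi hcent
  rw [hD, sup_bot_eq] at h1
  exact h1.trans inf_le_left

/-- A normal `p`-subgroup lies in `O_p`. -/
theorem le_pCore_of_normalizer_eq_top (T : Subgroup X) (hT : IsPGroup p T)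
    (hN : Subgroup.normalizer (T : Set X) = ⊤) : T ≤ Cfsg.pCore p X :=
  Cfsg.Agent.helper1.le_pCore (Subgroup.normalizer_eq_top_iff.mp hN) hT

/-- (β) The Frattini decomposition `X = N(S ∩ L)·C` for `L = P·C`. -/
theorem exists_mul_normalizer_centralizer (S : Sylow p X) (P : Subgroup X) [P.Normal]
    (hPS : P ≤ (S : Subgroup X)) (x : X) :
    ∃ m ∈ Subgroup.normalizer ((((S : Subgroup X) ⊓ (P ⊔ Subgroup.centralizer (P : Set X)) : Subgroup X)) : Set X),
      ∃ c ∈ Subgroup.centralizer (P : Set X), x = m * c := by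
  obtain ⟨C, hC⟩ : ∃ C : Subgroup X, C = Subgroup.centralizer (P : Set X) := ⟨_, rfl⟩
  rw [← hC]
  haveI : C.Normal := by rw [hC]; infer_instance
  haveI : (P ⊔ C).Normal := inferInstance
  have h1 := Cfsg.Agent.helper19.frattini_inf S (P ⊔ C)
  have hx : x ∈ Subgroup.normalizer ((((S : Subgroup X) ⊓ (P ⊔ C) : Subgroup X)) : Set X) ⊔ (P ⊔ C) := by
    rw [h1]; exact Subgroup.mem_top x
  obtain ⟨m, hm, l, hl, rfl⟩ := (Subgroup.mem_sup_of_normal_right).1 hx
  obtain ⟨a, ha, c, hc, rfl⟩ := (Subgroup.mem_sup_of_normal_right).1 hl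
  refine ⟨m * a, Subgroup.mul_mem _ hm ?_, c, hc, by group⟩
  exact Subgroup.le_normalizer (Subgroup.mem_inf.2 ⟨hPS ha, Subgroup.mem_sup_left ha⟩)

/-- `S` normalizes `S ∩ L` for `L` normal. -/
theorem sylow_le_normalizer_inf (S L : Subgroup X) [L.Normal] :
    S ≤ Subgroup.normalizer (((S ⊓ L : Subgroup X)) : Set X) := by
  apply le_normalizer_of_forall_conj_mem
  intro s hs x hx
  obtain ⟨hxS, hxL⟩ := Subgroup.mem_inf.1 hx
  exact Subgroup.mem_inf.2 ⟨S.mul_mem (S.mul_mem hs hxS) (S.inv_mem hs),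
    Subgroup.Normal.conj_mem inferInstance x hxL s⟩

end struct

end Cfsg.Agent.helper10

namespace Cfsg.Agent.helper10

universe u

section caseB3

variable {X : Type u} [Group X] [Finite X] {p : ℕ} [hp : Fact p.Prime]
  {𝓦 : Set (∀ (Q : Type u) [Group Q], Subgroup Q)}

local notation:max K "^[" g "]" => Subgroup.map (MulEquiv.toMonoidHom (MulAut.conj g)) K

/-- The preimage of `W(S/P)` has proper normalizer containing `S`. -/
theorem preimage_functor_props (h𝓦 : ∀ W ∈ 𝓦, Cfsg.IsCharPFunctor.{u} p W) (S : Sylow p X)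
    (P : Subgroup X) [P.Normal] (hPdef : P = Cfsg.pCore p X) (hPS : P ≤ (S : Subgroup X))
    (hSP : ¬ (S : Subgroup X) ≤ P) (W : ∀ (Q : Type u) [Group Q], Subgroup Q) (hW : W ∈ 𝓦) :
    Subgroup.normalizer ((((Cfsg.inducedFunctor W ((S : Subgroup X).map (QuotientGroup.mk' P))).comap
        (QuotientGroup.mk' P) : Subgroup X)) : Set X) ≠ ⊤ ∧
      (S : Subgroup X) ≤ Subgroup.normalizer ((((Cfsg.inducedFunctor W
        ((S : Subgroup X).map (QuotientGroup.mk' P))).comap (QuotientGroup.mk' P) : Subgroup X)) : Set X) ∧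
      ∀ d : X, (QuotientGroup.mk' P) d ∈ Subgroup.normalizer ((Cfsg.inducedFunctor W
          ((S : Subgroup X).map (QuotientGroup.mk' P)) : Subgroup (X ⧸ P)) : Set (X ⧸ P)) →
        d ∈ Subgroup.normalizer ((((Cfsg.inducedFunctor W
          ((S : Subgroup X).map (QuotientGroup.mk' P))).comap (QuotientGroup.mk' P) : Subgroup X)) : Set X) := by
  have hconjF := induced_isConjugacyFunctor (X := X ⧸ P) W (h𝓦 W hW)
  have hSbp : IsPGroup p ((S : Subgroup X).map (QuotientGroup.mk' P)) := S.isPGroup'.map _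
  have hpreS : ∀ x : X, (QuotientGroup.mk' P) x ∈ (S : Subgroup X).map (QuotientGroup.mk' P) ↔
      x ∈ (S : Subgroup X) := by
    intro x
    rw [← Subgroup.mem_comap, Subgroup.comap_map_eq, QuotientGroup.ker_mk', sup_eq_left.2 hPS]
  have hVS := (hconjF _ hSbp).1
  have hSbne : (S : Subgroup X).map (QuotientGroup.mk' P) ≠ ⊥ := by
    intro h
    apply hSP
    have := (Subgroup.map_eq_bot_iff _).1 h
    rwa [QuotientGroup.ker_mk'] at this
  have hVne := (hconjF _ hSbp).2.1 hSbne
  have hd : ∀ d : X, (QuotientGroup.mk' P) d ∈ Subgroup.normalizer ((Cfsg.inducedFunctor W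
          ((S : Subgroup X).map (QuotientGroup.mk' P)) : Subgroup (X ⧸ P)) : Set (X ⧸ P)) →
        d ∈ Subgroup.normalizer ((((Cfsg.inducedFunctor W
          ((S : Subgroup X).map (QuotientGroup.mk' P))).comap (QuotientGroup.mk' P) : Subgroup X)) : Set X) := by
    intro d hd
    exact Subgroup.le_normalizer_comap (QuotientGroup.mk' P) hd
  refine ⟨?_, ?_, hd⟩
  · intro htop
    have hUS : (Cfsg.inducedFunctor W ((S : Subgroup X).map (QuotientGroup.mk' P))).comap
        (QuotientGroup.mk' P) ≤ (S : Subgroup X) := by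
      intro x hx
      exact (hpreS x).1 (hVS hx)
    have hUP := le_pCore_of_normalizer_eq_top _ (S.isPGroup'.to_le hUS) htop
    rw [← hPdef] at hUP
    apply hVne
    have h1 := Subgroup.map_mono (f := QuotientGroup.mk' P) hUP
    rw [Subgroup.map_comap_eq_self_of_surjective (QuotientGroup.mk'_surjective P),
      QuotientGroup.map_mk'_self] at h1
    exact le_bot_iff.mp h1
  · intro s hs
    apply hd
    exact sylow_le_normalizer_functor _ hconjF _ hSbp ⟨s, hs, rfl⟩

end caseB3

end Cfsg.Agent.helper10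

namespace Cfsg.Agent.helper10

universe u

section caseB3eps

variable {X : Type u} [Group X] [Finite X] {p : ℕ} [hp : Fact p.Prime]
  {𝓦 : Set (∀ (Q : Type u) [Group Q], Subgroup Q)}

local notation:max K "^[" g "]" => Subgroup.map (MulEquiv.toMonoidHom (MulAut.conj g)) K

/-- The descending induction in the case `X = S·C_X(P)`. -/
theorem rel_of_sup_centralizer_eq_top (h𝓦 : ∀ W ∈ 𝓦, Cfsg.IsCharPFunctor.{u} p W) (S : Sylow p X)
    (P : Subgroup X) [P.Normal] (hPdef : P = Cfsg.pCore p X)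
    (hSP : ¬ (S : Subgroup X) ≤ P)
    (hsub : ∀ H : Subgroup X, H ≠ ⊤ → Ctl p 𝓦 H)
    (hquot : Ctl p 𝓦 (X ⧸ P))
    (hSC : (S : Subgroup X) ⊔ Subgroup.centralizer (P : Set X) = ⊤) :
    ∀ (m : ℕ) (Q : Subgroup X), P ≤ Q → Q ≤ (S : Subgroup X) →
      Nat.card (S : Subgroup X) - Nat.card Q = m → ∀ h : X,
      lconj h (Q : Set X) ⊆ ((S : Subgroup X) : Set X) →
      Rel (Nglob (fam 𝓦 X) ⊤ (S : Subgroup X)) ((S : Subgroup X) : Set X) (Q : Set X) h := by
  have hSp : IsPGroup p (S : Subgroup X) := S.isPGroup'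
  have hPS : P ≤ (S : Subgroup X) := by rw [hPdef]; exact Cfsg.Agent.helper1.pCore_le_sylow S
  have hsurj : Function.Surjective (QuotientGroup.mk' P) := QuotientGroup.mk'_surjective P
  have hq : CtlAt 𝓦 (X ⧸ P) ((S : Subgroup X).map (QuotientGroup.mk' P)) :=
    ctlAt_of_ctl h𝓦 (S.mapSurjective hsurj) hquot
  have hpreS : ∀ x : X, (QuotientGroup.mk' P) x ∈ (S : Subgroup X).map (QuotientGroup.mk' P) ↔
      x ∈ (S : Subgroup X) := by
    intro x
    rw [← Subgroup.mem_comap, Subgroup.comap_map_eq, QuotientGroup.ker_mk', sup_eq_left.2 hPS]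
  have hpreS' : (QuotientGroup.mk' P) ⁻¹' ((((S : Subgroup X).map (QuotientGroup.mk' P) :
      Subgroup (X ⧸ P)) : Set (X ⧸ P))) = ((S : Subgroup X) : Set X) := by
    ext x; exact hpreS x
  have hNSne : Subgroup.normalizer (((S : Subgroup X)) : Set X) ≠ ⊤ := by
    intro h
    apply hSP
    rw [hPdef]
    exact le_pCore_of_normalizer_eq_top _ hSp h
  have hSne : (S : Subgroup X) ≠ ⊤ := by
    intro h
    apply hNSne
    rw [eq_top_iff, ← h]
    exact Subgroup.le_normalizer
  have hker : ∀ x : X, (QuotientGroup.mk' P) x = 1 → x ∈ P := by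
    intro x hx
    rw [← QuotientGroup.ker_mk' P]; exact hx
  intro m
  induction m using Nat.strong_induction_on with
  | _ m IH =>
    intro Q hPQ hQS hm h hh
    -- the chain in the quotient
    have hAq : (QuotientGroup.mk' P) '' (Q : Set X) ⊆ ((((S : Subgroup X).map (QuotientGroup.mk' P) :
        Subgroup (X ⧸ P)) : Set (X ⧸ P))) := by
      rintro _ ⟨a, ha, rfl⟩
      exact ⟨a, hQS ha, rfl⟩
    have hAhq : lconj ((QuotientGroup.mk' P) h) ((QuotientGroup.mk' P) '' (Q : Set X)) ⊆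
        ((((S : Subgroup X).map (QuotientGroup.mk' P) : Subgroup (X ⧸ P)) : Set (X ⧸ P))) := by
      rw [← image_lconj]
      rintro _ ⟨a, ha, rfl⟩
      exact ⟨a, hh ha, rfl⟩
    obtain ⟨cb, hcb, hag⟩ := hq _ _ hAq hAhq
    obtain ⟨c, hc, hreach⟩ := Reach.lift (QuotientGroup.mk' P) hsurj hcb
    rw [hpreS'] at hreach
    have hRelc : Rel (Nglob (fam 𝓦 X) ⊤ (S : Subgroup X)) ((S : Subgroup X) : Set X) (Q : Set X) c := by
      apply reach_local_to_global (subset_refl _) _ hreach
      rintro d ⟨_, ⟨W, hW, rfl⟩, hdmem⟩ B hB hdB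
      have hdN : (QuotientGroup.mk' P) d ∈ Subgroup.normalizer ((Cfsg.inducedFunctor W
          ((S : Subgroup X).map (QuotientGroup.mk' P)) : Subgroup (X ⧸ P)) : Set (X ⧸ P)) :=
        (Subgroup.mem_inf.1 hdmem).2
      obtain ⟨hne, hSH, hdH⟩ := preimage_functor_props h𝓦 S P hPdef hPS hSP W hW
      exact rel_of_ctl_subgroup h𝓦 S _ hSH (hsub _ hne) d (hdH d hdN) B hB hdB
    -- the remaining element
    obtain ⟨y, hy⟩ : ∃ y : X, y = c⁻¹ * h := ⟨_, rfl⟩
    have hyQ : ∀ q ∈ Q, y * q * y⁻¹ * q⁻¹ ∈ P := by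
      intro q hq
      apply hker
      have h1 := hag ((QuotientGroup.mk' P) q) ⟨q, hq, rfl⟩
      rw [← hc] at h1
      rw [hy]
      simp only [map_mul, map_inv] at h1 ⊢
      calc ((QuotientGroup.mk' P) c)⁻¹ * (QuotientGroup.mk' P) h * (QuotientGroup.mk' P) q *
            (((QuotientGroup.mk' P) c)⁻¹ * (QuotientGroup.mk' P) h)⁻¹ * ((QuotientGroup.mk' P) q)⁻¹
          = ((QuotientGroup.mk' P) c)⁻¹ * ((QuotientGroup.mk' P) h * (QuotientGroup.mk' P) q *
            ((QuotientGroup.mk' P) h)⁻¹) * (QuotientGroup.mk' P) c * ((QuotientGroup.mk' P) q)⁻¹ := by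
            group
        _ = ((QuotientGroup.mk' P) c)⁻¹ * ((QuotientGroup.mk' P) c * (QuotientGroup.mk' P) q *
            ((QuotientGroup.mk' P) c)⁻¹) * (QuotientGroup.mk' P) c * ((QuotientGroup.mk' P) q)⁻¹ := by
            rw [h1]
        _ = 1 := by group
    have hyN : y ∈ Subgroup.normalizer (Q : Set X) := by
      apply mem_normalizer_of_map_conj_le
      rintro _ ⟨q, hq, rfl⟩
      have h1 : y * q * y⁻¹ = (y * q * y⁻¹ * q⁻¹) * q := by group
      show y * q * y⁻¹ ∈ Q
      rw [h1]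
      exact Q.mul_mem (hPQ (hyQ q hq)) hq
    have hyQset : lconj y (Q : Set X) = (Q : Set X) := by
      rw [lconj_coe, (mem_normalizer_iff_map_conj Q y).1 hyN]
    -- `y` acts as a chain
    have hRely : Rel (Nglob (fam 𝓦 X) ⊤ (S : Subgroup X)) ((S : Subgroup X) : Set X) (Q : Set X) y := by
      by_cases hQeq : Q = (S : Subgroup X)
      · rw [hQeq] at hyN hyQset ⊢
        exact rel_of_ctl_subgroup h𝓦 S _ Subgroup.le_normalizer (hsub _ hNSne) y hyN _
          subset_rfl (by rw [hyQset])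
      · have hlt : Q < (S : Subgroup X) := lt_of_le_of_ne hQS hQeq
        have hVlt := lt_inf_normalizer_of_lt hSp hlt
        obtain ⟨g, hgS, hgext⟩ := exists_extremal_conj S Q
          ((S : Subgroup X) ⊓ Subgroup.normalizer (Q : Set X)) (hSp.to_le inf_le_left) inf_le_right
        have hVcard := card_lt_card_of_lt hVlt
        have hVle : Nat.card ((S : Subgroup X) ⊓ Subgroup.normalizer (Q : Set X) : Subgroup X) ≤
            Nat.card (S : Subgroup X) := Subgroup.card_le_of_le inf_le_left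
        have hRelV := IH (Nat.card (S : Subgroup X) -
          Nat.card ((S : Subgroup X) ⊓ Subgroup.normalizer (Q : Set X) : Subgroup X)) (by omega)
          ((S : Subgroup X) ⊓ Subgroup.normalizer (Q : Set X)) (hPQ.trans hVlt.le) inf_le_left rfl g
          (by rw [lconj_coe]; exact_mod_cast hgS)
        have hRelQg : Rel (Nglob (fam 𝓦 X) ⊤ (S : Subgroup X)) ((S : Subgroup X) : Set X)
            (Q : Set X) g := hRelV.mono (by exact_mod_cast hVlt.le)
        -- the extremal conjugate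
        have hPQ' : P ≤ Q^[g] := by
          have h1 : P^[g] = P := (mem_normalizer_iff_map_conj P g).1
            (by rw [Subgroup.normalizer_eq_top]; exact Subgroup.mem_top g)
          rw [← h1]
          exact Subgroup.map_mono hPQ
        have hQ'S : Q^[g] ≤ (S : Subgroup X) := (Subgroup.map_mono hVlt.le).trans hgS
        have hy' : g * y * g⁻¹ ∈ quotStab P (Q^[g]) := by
          refine ⟨?_, ?_⟩
          · rw [normalizer_map_conj]; exact conj_mem_map_conj _ g y hyN
          · rintro _ ⟨q, hq, rfl⟩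
            have h1 : g * (y * q * y⁻¹ * q⁻¹) * g⁻¹ ∈ P :=
              Subgroup.Normal.conj_mem inferInstance _ (hyQ q hq) g
            have h2 : g * y * g⁻¹ * (g * q * g⁻¹) * (g * y * g⁻¹)⁻¹ * (g * q * g⁻¹)⁻¹ =
                g * (y * q * y⁻¹ * q⁻¹) * g⁻¹ := by group
            show g * y * g⁻¹ * (g * q * g⁻¹) * (g * y * g⁻¹)⁻¹ * (g * q * g⁻¹)⁻¹ ∈ P
            rw [h2]; exact h1
        obtain ⟨s, hs, hsq⟩ := exists_sylow_elt_of_trivial_on_quotient S P hSC (Q^[g]) hPQ' hQ'S
          hgext (g * y * g⁻¹) hy'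
        have hsN : s ∈ Subgroup.normalizer ((Q^[g] : Subgroup X) : Set X) := by
          apply mem_normalizer_of_map_conj_le
          rintro _ ⟨q, hq, rfl⟩
          show s * q * s⁻¹ ∈ Q^[g]
          rw [hsq q hq]
          exact (Subgroup.mem_normalizer_iff.mp hy'.1 q).mp hq
        have hRels : Rel (Nglob (fam 𝓦 X) ⊤ (S : Subgroup X)) ((S : Subgroup X) : Set X)
            ((Q^[g] : Subgroup X) : Set X) s := by
          apply rel_of_ctl_subgroup h𝓦 S (S : Subgroup X) le_rfl (hsub _ hSne) s hs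
          · exact_mod_cast hQ'S
          · rw [lconj_coe, (mem_normalizer_iff_map_conj _ s).1 hsN]
            exact_mod_cast hQ'S
        have hRely' : Rel (Nglob (fam 𝓦 X) ⊤ (S : Subgroup X)) ((S : Subgroup X) : Set X)
            ((Q^[g] : Subgroup X) : Set X) (g * y * g⁻¹) := hRels.congr hsq
        have hy'set : lconj (g * y * g⁻¹) ((Q^[g] : Subgroup X) : Set X) = ((Q^[g] : Subgroup X) : Set X) := by
          rw [lconj_coe, (mem_normalizer_iff_map_conj _ _).1 hy'.1]
        have hRelginv := hRelQg.symm (Nglob_inv _ _ _)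
        rw [lconj_coe] at hRelginv
        have hR1 := hRelQg.trans (by rw [lconj_coe]; exact hRely')
        have hR2 := hR1.trans (by
          rw [← lconj_lconj, lconj_coe, hy'set]; exact hRelginv)
        have e : g⁻¹ * (g * y * g⁻¹ * g) = y := by group
        rw [e] at hR2
        exact hR2
    have hfin := hRely.trans (by rw [hyQset]; exact hRelc)
    have e : c * y = h := by rw [hy]; group
    rw [e] at hfin
    exact hfin

end caseB3eps

end Cfsg.Agent.helper10
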