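import Mathlib
import Cfsg.Prelude.Def_CaseTheorems
import Cfsg.Agent.Lib_helper10_NPC
import Cfsg.Agent.Lib_helper10_Sec5
import Cfsg.Agent.Lib_helper23_PSolv

set_option autoImplicit false

/-!
# Thompson's normal `p`-complement criterion in functor form
-/

namespace Cfsg.Agent.helper10

universe u

section hypT

variable {X Y : Type u} [Group X] [Group Y]

/-- The local hypothesis of Thompson's criterion, for all sections of `X`. -/
def HypT (p : ℕ) (W : ∀ (Q : Type u) [Group Q], Subgroup Q) (X : Type u) [Group X] : Prop :=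
  ∀ (K : Subgroup X) (Y : Type u) [Group Y] [Finite Y] (f : K →* Y), Function.Surjective f →
    Constrained p Y → Cfsg.HasNormalPComplement p (Y ⧸ Cfsg.pCore p Y) →
    ∀ T : Sylow p Y, IsCoatom (T : Subgroup Y) → (Cfsg.inducedFunctor W (T : Subgroup Y)).Normal

theorem hypT_subgroup {p : ℕ} {W : ∀ (Q : Type u) [Group Q], Subgroup Q} (H : Subgroup X)
    (h : HypT p W X) : HypT p W H := by
  intro K' Y _ _ f hf hY
  let e : K' ≃* (K'.map H.subtype) := K'.equivMapOfInjective H.subtype H.subtype_injective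
  exact h (K'.map H.subtype) Y (f.comp e.symm.toMonoidHom)
    (hf.comp e.symm.surjective) hY

theorem hypT_quotient {p : ℕ} {W : ∀ (Q : Type u) [Group Q], Subgroup Q} (N : Subgroup X)
    [N.Normal] (h : HypT p W X) : HypT p W (X ⧸ N) := by
  intro K' Y _ _ f hf hY
  let K : Subgroup X := K'.comap (QuotientGroup.mk' N)
  let g : K →* K' := ((QuotientGroup.mk' N).comp K.subtype).codRestrict K' (fun x => x.2)
  have hg : Function.Surjective g := by
    rintro ⟨y, hy⟩
    obtain ⟨x, rfl⟩ := QuotientGroup.mk'_surjective N y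
    exact ⟨⟨x, hy⟩, rfl⟩
  exact h K Y (f.comp g) (hf.comp hg) hY

end hypT

end Cfsg.Agent.helper10

namespace Cfsg.Agent.helper10

universe u

section hypT2

variable {p : ℕ} [hp : Fact p.Prime] {W : ∀ (Q : Type u) [Group Q], Subgroup Q}

/-- The local hypothesis in the form of the statement gives `HypT`. -/
theorem hypT_of_sections {G : Type u} [Group G] [Finite G] (hW : Cfsg.IsCharPFunctor.{u} p W)
    (hloc : ∀ (K R : Subgroup G) [hR : (R.subgroupOf K).Normal],
      Constrained p (↥K ⧸ R.subgroupOf K) →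
      Cfsg.HasNormalPComplement p ((↥K ⧸ R.subgroupOf K) ⧸ Cfsg.pCore p (↥K ⧸ R.subgroupOf K)) →
      ∀ T : Sylow p (↥K ⧸ R.subgroupOf K), IsCoatom (T : Subgroup (↥K ⧸ R.subgroupOf K)) →
        (Cfsg.inducedFunctor (G := (↥K ⧸ R.subgroupOf K)) W
          ((T : Subgroup (↥K ⧸ R.subgroupOf K)))).Normal) :
    HypT p W G := by
  intro K Y _ _ f hf hY hnpc T hT
  have hRk : (f.ker.map K.subtype).subgroupOf K = f.ker :=
    Subgroup.comap_map_eq_self_of_injective K.subtype_injective _
  haveI hRn : ((f.ker.map K.subtype).subgroupOf K).Normal := by rw [hRk]; infer_instance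
  let e : (↥K ⧸ (f.ker.map K.subtype).subgroupOf K) ≃* Y :=
    (QuotientGroup.quotientMulEquivOfEq hRk).trans (QuotientGroup.quotientKerEquivOfSurjective f hf)
  have hcon := constrained_iso e.symm hY
  have hnpc' : Cfsg.HasNormalPComplement p ((↥K ⧸ (f.ker.map K.subtype).subgroupOf K) ⧸
      Cfsg.pCore p (↥K ⧸ (f.ker.map K.subtype).subgroupOf K)) := by
    let e2 : (Y ⧸ Cfsg.pCore p Y) ≃* ((↥K ⧸ (f.ker.map K.subtype).subgroupOf K) ⧸
        Cfsg.pCore p (↥K ⧸ (f.ker.map K.subtype).subgroupOf K)) :=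
      QuotientGroup.congr (Cfsg.pCore p Y) (Cfsg.pCore p _) e.symm (pCore_map_equiv p e.symm)
    exact npc_of_surjective e2.toMonoidHom e2.surjective hnpc
  obtain ⟨T', hT'def⟩ : ∃ T' : Sylow p (↥K ⧸ (f.ker.map K.subtype).subgroupOf K),
      (T' : Subgroup (↥K ⧸ (f.ker.map K.subtype).subgroupOf K)) =
        (T : Subgroup Y).map e.symm.toMonoidHom :=
    ⟨T.mapSurjective (f := e.symm.toMonoidHom) e.symm.surjective, rfl⟩
  have hT' : IsCoatom (T' : Subgroup (↥K ⧸ (f.ker.map K.subtype).subgroupOf K)) := by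
    rw [hT'def]
    exact (OrderIso.isCoatom_iff (MulEquiv.mapSubgroup e.symm) (T : Subgroup Y)).2 hT
  have h1 := hloc K (f.ker.map K.subtype) hcon hnpc' T' hT'
  have h2 : (T' : Subgroup (↥K ⧸ (f.ker.map K.subtype).subgroupOf K)).map e.toMonoidHom =
      (T : Subgroup Y) := by
    rw [hT'def, Subgroup.map_map]
    have : e.toMonoidHom.comp e.symm.toMonoidHom = MonoidHom.id Y := by
      ext y; simp
    rw [this, Subgroup.map_id]
  have h3 := induced_map_of_injOn W hW e.toMonoidHom
    (T' : Subgroup (↥K ⧸ (f.ker.map K.subtype).subgroupOf K)) T'.isPGroup'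
    (fun x _ hx => e.injective (by rw [map_one]; exact hx))
  rw [h2] at h3
  rw [h3]
  exact Subgroup.Normal.map h1 _ e.surjective

end hypT2

end Cfsg.Agent.helper10

namespace Cfsg.Agent.helper10

open Cfsg.Agent.lead

universe u

section thompsonPrep

variable {X : Type u} [Group X] [Finite X] {p : ℕ} [hp : Fact p.Prime]

local notation:max K "^[" g "]" => Subgroup.map (MulEquiv.toMonoidHom (MulAut.conj g)) K

/-- Frobenius: if `X` has no normal `p`-complement, some nontrivial `p`-subgroup has a normalizer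
without a normal `p`-complement. -/
theorem exists_bad_pgroup (h : ¬ Cfsg.HasNormalPComplement p X) :
    ∃ H : Subgroup X, IsPGroup p H ∧ H ≠ ⊥ ∧
      ¬ Cfsg.HasNormalPComplement p ↥(Subgroup.normalizer (H : Set X)) := by
  by_contra hcon
  push_neg at hcon
  apply h
  apply npc_of_frobCond
  intro Q hQ g hg hcop
  by_cases hQ1 : Q = ⊥
  · rw [hQ1, Subgroup.mem_centralizer_iff]
    intro x hx
    have hx' : x ∈ (⊥ : Subgroup X) := hx
    rw [Subgroup.mem_bot] at hx'
    rw [hx']; simp
  · have hF := frobCond_of_npc (hcon Q hQ hQ1)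
    have hQ'p : IsPGroup p (Q.subgroupOf (Subgroup.normalizer (Q : Set X))) := hQ.comap_subtype
    have hg' : (⟨g, hg⟩ : Subgroup.normalizer (Q : Set X)) ∈ Subgroup.normalizer
        ((Q.subgroupOf (Subgroup.normalizer (Q : Set X)) : Subgroup _) : Set _) := by
      have : (Q.subgroupOf (Subgroup.normalizer (Q : Set X))).Normal :=
        Subgroup.normal_in_normalizer
      have htop := Subgroup.normalizer_eq_top
        (H := Q.subgroupOf (Subgroup.normalizer (Q : Set X)))
      exact htop ▸ Subgroup.mem_top _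
    have h1 := hF _ hQ'p ⟨g, hg⟩ hg' (by
      rw [← Subgroup.orderOf_coe]; exact hcop)
    rw [Subgroup.mem_centralizer_iff] at h1 ⊢
    intro q hq
    have h2 := h1 ⟨q, Subgroup.le_normalizer hq⟩ (by
      rw [SetLike.mem_coe, Subgroup.mem_subgroupOf]; exact hq)
    have h3 := congrArg Subtype.val h2
    simpa using h3

/-- A non-Sylow `p`-subgroup has a normalizer with larger `p`-part. -/
theorem pow_succ_dvd_card_normalizer (T : Subgroup X) (a : ℕ) (hT : Nat.card T = p ^ a)
    (hidx : p ∣ T.index) : p ^ (a + 1) ∣ Nat.card ↥(Subgroup.normalizer (T : Set X)) := by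
  have hdvd : p ^ (a + 1) ∣ Nat.card X := by
    rw [← Subgroup.card_mul_index T, hT, pow_succ]
    exact Nat.mul_dvd_mul_left _ hidx
  have h1 := Sylow.prime_dvd_card_quotient_normalizer hdvd hT
  have h2 := Subgroup.card_eq_card_quotient_mul_card_subgroup
    (T.comap (Subgroup.normalizer (T : Set X)).subtype)
  have h3 : Nat.card ↥(T.comap (Subgroup.normalizer (T : Set X)).subtype) = p ^ a := by
    rw [← hT]
    have : T.comap (Subgroup.normalizer (T : Set X)).subtype =
        T.subgroupOf (Subgroup.normalizer (T : Set X)) := rfl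
    rw [this]
    exact Nat.card_congr (Subgroup.subgroupOfEquivOfLe Subgroup.le_normalizer).toEquiv
  rw [h2, h3, pow_succ, mul_comm]
  exact Nat.mul_dvd_mul_right h1 _

end thompsonPrep

end Cfsg.Agent.helper10

namespace Cfsg.Agent.helper10

universe u

section thompsonPrep2

variable {X : Type u} [Group X] [Finite X] {p : ℕ} [hp : Fact p.Prime]

local notation:max K "^[" g "]" => Subgroup.map (MulEquiv.toMonoidHom (MulAut.conj g)) K

theorem npc_map_conj (K : Subgroup X) (g : X) (h : Cfsg.HasNormalPComplement p K) :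
    Cfsg.HasNormalPComplement p ↥(K^[g]) :=
  npc_of_surjective ((MulAut.conj g).toMonoidHom.subgroupMap K)
    ((MulAut.conj g).toMonoidHom.subgroupMap_surjective K) h

theorem npc_normalizer_conj (V : Subgroup X) (g : X)
    (h : Cfsg.HasNormalPComplement p ↥(Subgroup.normalizer (V : Set X))) :
    Cfsg.HasNormalPComplement p ↥(Subgroup.normalizer ((V^[g] : Subgroup X) : Set X)) := by
  rw [normalizer_map_conj]
  exact npc_map_conj _ g h

/-- If `N_X(V'.map H.subtype)` has a normal `p`-complement, so has `N_H(V')`. -/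
theorem npc_normalizer_of_map_subtype (H : Subgroup X) (V' : Subgroup H)
    (h : Cfsg.HasNormalPComplement p
      ↥(Subgroup.normalizer (((V'.map H.subtype : Subgroup X)) : Set X))) :
    Cfsg.HasNormalPComplement p ↥(Subgroup.normalizer (V' : Set H)) := by
  let f : ↥(Subgroup.normalizer (V' : Set H)) →*
      ↥(Subgroup.normalizer (((V'.map H.subtype : Subgroup X)) : Set X)) :=
    (H.subtype.comp (Subgroup.normalizer (V' : Set H)).subtype).codRestrict _
      (fun x => Subgroup.le_normalizer_map H.subtype ⟨x, x.2, rfl⟩)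
  apply npc_of_injective f _ h
  intro a b hab
  have h0 : ((f a : ↥(Subgroup.normalizer (((V'.map H.subtype : Subgroup X)) : Set X))) : X) =
      ((f b : ↥(Subgroup.normalizer (((V'.map H.subtype : Subgroup X)) : Set X))) : X) := by
    rw [hab]
  have h1 : ((a : H) : X) = ((b : H) : X) := h0
  exact Subtype.ext (Subtype.ext h1)

/-- If `N_X(π⁻¹(V))` has a normal `p`-complement, so has `N(V)` in the quotient. -/
theorem npc_normalizer_of_comap {Y : Type u} [Group Y] (π : X →* Y) (hπ : Function.Surjective π)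
    (V : Subgroup Y)
    (h : Cfsg.HasNormalPComplement p ↥(Subgroup.normalizer (((V.comap π : Subgroup X)) : Set X))) :
    Cfsg.HasNormalPComplement p ↥(Subgroup.normalizer (V : Set Y)) := by
  have hmap : (V.comap π).map π = V := Subgroup.map_comap_eq_self_of_surjective hπ V
  let f : ↥(Subgroup.normalizer (((V.comap π : Subgroup X)) : Set X)) →*
      ↥(Subgroup.normalizer (V : Set Y)) :=
    (π.comp (Subgroup.normalizer (((V.comap π : Subgroup X)) : Set X)).subtype).codRestrict _
      (fun x => by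
        have := Subgroup.le_normalizer_map π (H := V.comap π) ⟨x, x.2, rfl⟩
        rwa [hmap] at this)
  apply npc_of_surjective f _ h
  rintro ⟨y, hy⟩
  obtain ⟨x, rfl⟩ := hπ y
  exact ⟨⟨x, Subgroup.le_normalizer_comap π hy⟩, rfl⟩

/-- If `N_X(V)` has a normal `p`-complement, so has `N(V·D/D)` in `X/D`, for `D` a normal
`p'`-subgroup and `V` normalized by the Sylow subgroup `S ≥ V`. -/
theorem npc_normalizer_map_coprime (S : Sylow p X) (D : Subgroup X) [D.Normal]
    (hD : (Nat.card D).Coprime p) (V : Subgroup X) (hVS : V ≤ (S : Subgroup X))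
    (hSV : (S : Subgroup X) ≤ Subgroup.normalizer (V : Set X))
    (h : Cfsg.HasNormalPComplement p ↥(Subgroup.normalizer (V : Set X))) :
    Cfsg.HasNormalPComplement p
      ↥(Subgroup.normalizer (((V.map (QuotientGroup.mk' D) : Subgroup (X ⧸ D))) : Set (X ⧸ D))) := by
  let f : ↥(Subgroup.normalizer (V : Set X)) →*
      ↥(Subgroup.normalizer (((V.map (QuotientGroup.mk' D) : Subgroup (X ⧸ D))) : Set (X ⧸ D))) :=
    ((QuotientGroup.mk' D).comp (Subgroup.normalizer (V : Set X)).subtype).codRestrict _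
      (fun x => Subgroup.le_normalizer_map (QuotientGroup.mk' D) ⟨x, x.2, rfl⟩)
  apply npc_of_surjective f _ h
  rintro ⟨y, hy⟩
  obtain ⟨x, rfl⟩ := QuotientGroup.mk'_surjective D y
  have hx : x ∈ Subgroup.normalizer (((V ⊔ D : Subgroup X)) : Set X) := by
    have h1 : x ∈ (Subgroup.normalizer (((V.map (QuotientGroup.mk' D) :
        Subgroup (X ⧸ D))) : Set (X ⧸ D))).comap (QuotientGroup.mk' D) := hy
    have h2 := Subgroup.le_normalizer_comap (QuotientGroup.mk' D) h1
    rw [Subgroup.comap_map_eq, QuotientGroup.ker_mk'] at h2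
    exact h2
  obtain ⟨d, hdN, hdD, -⟩ := correct_step S D hD V hVS hSV x hx ∅ (Set.empty_subset _)
    (by rw [lconj, Set.image_empty]; exact Set.empty_subset _)
  refine ⟨⟨d, hdN⟩, ?_⟩
  apply Subtype.ext
  show (QuotientGroup.mk' D) d = (QuotientGroup.mk' D) x
  have h3 : d = (d * x⁻¹) * x := by group
  rw [h3, map_mul]
  have h4 : (QuotientGroup.mk' D) (d * x⁻¹) = 1 := by
    have : d * x⁻¹ ∈ (QuotientGroup.mk' D).ker := by rw [QuotientGroup.ker_mk']; exact hdD
    exact this
  rw [h4, one_mul]

end thompsonPrep2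

end Cfsg.Agent.helper10
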