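import Mathlib
import Cfsg.Agent.Lib_helper10_Thompson

set_option autoImplicit false

/-!
# Thompson's normal `p`-complement criterion in functor form: the main argument
-/

namespace Cfsg.Agent.helper10

universe u

section extremal

variable {X : Type u} [Group X] [Finite X] {p : ℕ} [hp : Fact p.Prime]

/-- The extremal choice of a bad `p`-subgroup. -/
theorem exists_extremal_bad (hnot : ¬ Cfsg.HasNormalPComplement p X) :
    ∃ H : Subgroup X, IsPGroup p H ∧ H ≠ ⊥ ∧
      ¬ Cfsg.HasNormalPComplement p ↥(Subgroup.normalizer (H : Set X)) ∧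
      (∀ H' : Subgroup X, IsPGroup p H' → H' ≠ ⊥ →
        p ^ ((Nat.card ↥(Subgroup.normalizer (H : Set X))).factorization p + 1) ∣
          Nat.card ↥(Subgroup.normalizer (H' : Set X)) →
        Cfsg.HasNormalPComplement p ↥(Subgroup.normalizer (H' : Set X))) ∧
      (∀ H' : Subgroup X, IsPGroup p H' →
        p ^ ((Nat.card ↥(Subgroup.normalizer (H : Set X))).factorization p) ∣
          Nat.card ↥(Subgroup.normalizer (H' : Set X)) →
        Nat.card H < Nat.card H' →
        Cfsg.HasNormalPComplement p ↥(Subgroup.normalizer (H' : Set X))) := by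
  obtain ⟨c, hc⟩ : ∃ c : ℕ, c = Nat.card X := ⟨_, rfl⟩
  let μ : Subgroup X → ℕ := fun H =>
    (Nat.card ↥(Subgroup.normalizer (H : Set X))).factorization p * (c + 1) + Nat.card H
  obtain ⟨H₀, hH₀⟩ := exists_bad_pgroup hnot
  obtain ⟨H, hH𝓑, hHmax⟩ := Set.exists_max_image
    {H : Subgroup X | IsPGroup p H ∧ H ≠ ⊥ ∧
      ¬ Cfsg.HasNormalPComplement p ↥(Subgroup.normalizer (H : Set X))} μ (Set.toFinite _)
    ⟨H₀, hH₀⟩
  obtain ⟨hHp, hH1, hHbad⟩ := hH𝓑
  have hmax : ∀ H' : Subgroup X, IsPGroup p H' → H' ≠ ⊥ → μ H < μ H' →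
      Cfsg.HasNormalPComplement p ↥(Subgroup.normalizer (H' : Set X)) := by
    intro H' h1 h2 h3
    by_contra h4
    exact absurd (hHmax H' ⟨h1, h2, h4⟩) (not_le.2 h3)
  have hcardle : ∀ H' : Subgroup X, Nat.card H' ≤ c := by
    intro H'; rw [hc]; exact Subgroup.card_le_card_group H'
  have hcardpos : ∀ H' : Subgroup X, 1 ≤ Nat.card H' := fun H' => Nat.card_pos
  refine ⟨H, hHp, hH1, hHbad, ?_, ?_⟩
  · intro H' h1 h2 h3
    apply hmax H' h1 h2
    have h4 : (Nat.card ↥(Subgroup.normalizer (H : Set X))).factorization p + 1 ≤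
        (Nat.card ↥(Subgroup.normalizer (H' : Set X))).factorization p :=
      (hp.out.pow_dvd_iff_le_factorization Nat.card_pos.ne').1 h3
    have h5 := Nat.mul_le_mul_right (c + 1) h4
    have h6 := hcardle H
    have h7 := hcardpos H'
    show (Nat.card ↥(Subgroup.normalizer (H : Set X))).factorization p * (c + 1) + Nat.card H <
      (Nat.card ↥(Subgroup.normalizer (H' : Set X))).factorization p * (c + 1) + Nat.card H'
    nlinarith
  · intro H' h1 h3 h8
    have h2 : H' ≠ ⊥ := by
      intro hbot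
      rw [hbot, Subgroup.card_bot] at h8
      have := hcardpos H
      omega
    apply hmax H' h1 h2
    have h4 : (Nat.card ↥(Subgroup.normalizer (H : Set X))).factorization p ≤
        (Nat.card ↥(Subgroup.normalizer (H' : Set X))).factorization p :=
      (hp.out.pow_dvd_iff_le_factorization Nat.card_pos.ne').1 h3
    have h5 := Nat.mul_le_mul_right (c + 1) h4
    show (Nat.card ↥(Subgroup.normalizer (H : Set X))).factorization p * (c + 1) + Nat.card H <
      (Nat.card ↥(Subgroup.normalizer (H' : Set X))).factorization p * (c + 1) + Nat.card H'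
    omega

end extremal

end Cfsg.Agent.helper10

namespace Cfsg.Agent.helper10

universe u

section constrained

variable {X : Type u} [Group X] [Finite X] {p : ℕ} [hp : Fact p.Prime]

/-- If `O_{p'}(X) = 1` and `X/O_p(X)` has a normal `p`-complement, then `X` is constrained. -/
theorem constrained_of_quotient_npc (hD : Cfsg.pPrimeCore p X = ⊥)
    (h : Cfsg.HasNormalPComplement p (X ⧸ Cfsg.pCore p X)) : Constrained p X := by
  unfold Constrained
  apply Cfsg.Agent.helper23.hall_higman_123 _ hD
  obtain ⟨Sb, Kb, hKbn, hKbS⟩ := h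
  have hsurj : Function.Surjective (QuotientGroup.mk' (Cfsg.pCore p X)) :=
    QuotientGroup.mk'_surjective _
  have hPp : IsPGroup p (Cfsg.pCore p X) := Cfsg.Agent.helper1.pCore_isPGroup p
  have hPK : Cfsg.pCore p X ≤ Kb.comap (QuotientGroup.mk' (Cfsg.pCore p X)) := by
    intro x hx
    rw [Subgroup.mem_comap]
    have : (QuotientGroup.mk' (Cfsg.pCore p X)) x = 1 := by
      have : x ∈ (QuotientGroup.mk' (Cfsg.pCore p X)).ker := by
        rw [QuotientGroup.ker_mk']; exact hx
      exact this
    rw [this]; exact Kb.one_mem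
  -- step 1
  have h1 : Cfsg.Agent.helper23.PSReach p (Cfsg.pCore p X) := by
    refine Cfsg.Agent.helper23.PSReach.step ⊥ _ Cfsg.Agent.helper23.PSReach.bot bot_le
      inferInstance (Or.inl ?_)
    obtain ⟨k, hk⟩ := IsPGroup.iff_card.mp hPp
    exact ⟨k, by rw [Subgroup.relIndex_bot_left, hk]⟩
  -- step 2
  have h2 : Cfsg.Agent.helper23.PSReach p (Kb.comap (QuotientGroup.mk' (Cfsg.pCore p X))) := by
    refine Cfsg.Agent.helper23.PSReach.step _ _ h1 hPK (Subgroup.Normal.comap hKbn _) (Or.inr ?_)
    have h3 : (Cfsg.pCore p X).relIndex (Kb.comap (QuotientGroup.mk' (Cfsg.pCore p X))) =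
        ((⊥ : Subgroup (X ⧸ Cfsg.pCore p X)).comap (QuotientGroup.mk' (Cfsg.pCore p X))).relIndex
          (Kb.comap (QuotientGroup.mk' (Cfsg.pCore p X))) := by
      rw [MonoidHom.comap_bot, QuotientGroup.ker_mk']
    rw [h3, Subgroup.relIndex_comap, Subgroup.map_comap_eq_self_of_surjective hsurj,
      Subgroup.relIndex_bot_left]
    exact card_coprime_of_isComplement' Sb Kb hKbS
  -- step 3
  refine Cfsg.Agent.helper23.PSReach.step _ _ h2 le_top Subgroup.normal_top (Or.inl ?_)
  rw [Subgroup.relIndex_top_right, Subgroup.index_comap_of_surjective _ hsurj,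
    hKbS.symm.index_eq_card]
  exact IsPGroup.iff_card.mp Sb.isPGroup'

end constrained

end Cfsg.Agent.helper10

namespace Cfsg.Agent.helper10

universe u

section coatom

variable {X : Type u} [Group X] [Finite X] {p : ℕ} [hp : Fact p.Prime]

/-- In a constrained group without normal `p`-complement, if every proper subgroup containing the
Sylow subgroup `S` has a normal `p`-complement, then `S` is a maximal subgroup. -/
theorem sylow_isCoatom_of_constrained (S : Sylow p X) (hcon : Constrained p X)
    (hnot : ¬ Cfsg.HasNormalPComplement p X)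
    (hprop : ∀ M : Subgroup X, (S : Subgroup X) ≤ M → M ≠ ⊤ → Cfsg.HasNormalPComplement p M) :
    IsCoatom (S : Subgroup X) := by
  have hPn : (Cfsg.pCore p X).Normal := Cfsg.Agent.helper1.pCore_normal p
  have hPS : Cfsg.pCore p X ≤ (S : Subgroup X) := Cfsg.Agent.helper1.pCore_le_sylow S
  have hPp : IsPGroup p (Cfsg.pCore p X) := Cfsg.Agent.helper1.pCore_isPGroup p
  constructor
  · intro htop
    apply hnot
    apply npc_of_isPGroup
    intro x
    obtain ⟨k, hk⟩ := S.isPGroup' ⟨x, htop ▸ Subgroup.mem_top x⟩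
    refine ⟨k, ?_⟩
    have := congrArg Subtype.val hk
    simpa using this
  · intro M hlt
    by_contra hMne
    obtain ⟨T, K, hKn, hKT⟩ := hprop M hlt.le hMne
    have hKcop : (Nat.card K).Coprime p := card_coprime_of_isComplement' T K hKT
    have hK'cop : (Nat.card (K.map M.subtype)).Coprime p := by
      rw [Subgroup.card_map_of_injective M.subtype_injective]; exact hKcop
    have hKbot : K = ⊥ := by
      rw [Subgroup.eq_bot_iff_forall]
      intro k hk
      have hkK' : (k : X) ∈ K.map M.subtype := ⟨k, hk, rfl⟩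
      have hcent : (k : X) ∈ Subgroup.centralizer ((Cfsg.pCore p X : Subgroup X) : Set X) := by
        rw [Subgroup.mem_centralizer_iff]
        intro a ha
        have haM : a ∈ M := hlt.le (hPS ha)
        have h1 : (k : X) * a * (k : X)⁻¹ * a⁻¹ ∈ Cfsg.pCore p X :=
          Subgroup.mul_mem _ (hPn.conj_mem a ha _) (Subgroup.inv_mem _ ha)
        have h2 : (k : X) * a * (k : X)⁻¹ * a⁻¹ ∈ K.map M.subtype := by
          have h3 : (⟨a, haM⟩ : M) * k⁻¹ * (⟨a, haM⟩ : M)⁻¹ ∈ K :=
            hKn.conj_mem _ (K.inv_mem hk) _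
          refine ⟨k * ((⟨a, haM⟩ : M) * k⁻¹ * (⟨a, haM⟩ : M)⁻¹), K.mul_mem hk h3, ?_⟩
          simp [mul_assoc]
        have h4 := eq_one_of_mem_of_coprime (Cfsg.pCore p X) (K.map M.subtype) hPp hK'cop _ h1 h2
        calc a * (k : X) = ((k : X) * a * (k : X)⁻¹ * a⁻¹)⁻¹ * ((k : X) * a) := by group
          _ = (k : X) * a := by rw [h4]; group
      have h5 : (k : X) ∈ Cfsg.pCore p X := hcon hcent
      have h6 := eq_one_of_mem_of_coprime (Cfsg.pCore p X) (K.map M.subtype) hPp hK'cop _ h5 hkK'
      exact Subtype.ext h6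
    rw [hKbot, Subgroup.isComplement'_bot_left] at hKT
    have hMp : IsPGroup p M := by
      intro x
      obtain ⟨k, hk⟩ := T.isPGroup' ⟨x, hKT ▸ Subgroup.mem_top x⟩
      refine ⟨k, ?_⟩
      have := congrArg Subtype.val hk
      simpa using this
    have := S.is_maximal' hMp hlt.le
    exact absurd this.symm (ne_of_lt hlt)

end coatom

end Cfsg.Agent.helper10
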