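import Mathlib
import Cfsg.Agent.Lib_helper10_Thompson2

set_option autoImplicit false

/-!
# Thompson's normal `p`-complement criterion in functor form: the induction
-/

namespace Cfsg.Agent.helper10

universe u

section steps

variable {X : Type u} [Group X] [Finite X] {p : ℕ} [hp : Fact p.Prime]
  {W : ∀ (Q : Type u) [Group Q], Subgroup Q}

local notation:max K "^[" g "]" => Subgroup.map (MulEquiv.toMonoidHom (MulAut.conj g)) K

/-- `N(W(T))` has a normal `p`-complement for `T` of the order of a Sylow subgroup of the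
extremal normalizer. -/
theorem npc_normalizer_functor_of_card (hW : Cfsg.IsCharPFunctor.{u} p W) (S : Sylow p X)
    (hN : Cfsg.HasNormalPComplement p ↥(Subgroup.normalizer
      ((Cfsg.inducedFunctor W (S : Subgroup X) : Subgroup X) : Set X)))
    (T : Subgroup X) (a : ℕ) (hT : Nat.card T = p ^ a) (hT1 : T ≠ ⊥)
    (hM1 : ∀ H' : Subgroup X, IsPGroup p H' → H' ≠ ⊥ →
      p ^ (a + 1) ∣ Nat.card ↥(Subgroup.normalizer (H' : Set X)) →
      Cfsg.HasNormalPComplement p ↥(Subgroup.normalizer (H' : Set X))) :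
    Cfsg.HasNormalPComplement p ↥(Subgroup.normalizer
      ((Cfsg.inducedFunctor W T : Subgroup X) : Set X)) := by
  have hTp : IsPGroup p T := IsPGroup.of_card hT
  have hconjF := induced_isConjugacyFunctor (X := X) W hW
  by_cases hidx : p ∣ T.index
  · have h1 := pow_succ_dvd_card_normalizer T a hT hidx
    have h2 : Subgroup.normalizer (T : Set X) ≤
        Subgroup.normalizer ((Cfsg.inducedFunctor W T : Subgroup X) : Set X) := by
      intro g hg
      rw [mem_normalizer_iff_map_conj] at hg ⊢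
      rw [← (hconjF T hTp).2.2 g, hg]
    exact hM1 _ (hTp.to_le (hconjF T hTp).1) ((hconjF T hTp).2.1 hT1)
      (dvd_trans h1 (Subgroup.card_dvd_of_le h2))
  · obtain ⟨g, hg⟩ := MulAction.exists_smul_eq X S (hTp.toSylow hidx)
    have h3 : T = (S : Subgroup X)^[g] := by
      have h4 := congrArg (fun Q : Sylow p X => (Q : Subgroup X)) hg
      simp only [sylow_smul_eq_map_conj] at h4
      rw [h4]
      rfl
    rw [h3, (hconjF _ S.isPGroup').2.2 g]
    exact npc_normalizer_conj _ g hN

/-- Step 3: the extremal bad subgroup is normal. -/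
theorem normalizer_eq_top_of_extremal (hW : Cfsg.IsCharPFunctor.{u} p W) (S : Sylow p X)
    (hN : Cfsg.HasNormalPComplement p ↥(Subgroup.normalizer
      ((Cfsg.inducedFunctor W (S : Subgroup X) : Subgroup X) : Set X)))
    (IHsub : ∀ H : Subgroup X, H ≠ ⊤ → ∀ S₁ : Sylow p H,
      Cfsg.HasNormalPComplement p ↥(Subgroup.normalizer
        ((Cfsg.inducedFunctor W (S₁ : Subgroup H) : Subgroup H) : Set H)) →
      Cfsg.HasNormalPComplement p H)
    (H : Subgroup X) (hHp : IsPGroup p H) (hH1 : H ≠ ⊥)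
    (hHbad : ¬ Cfsg.HasNormalPComplement p ↥(Subgroup.normalizer (H : Set X)))
    (hM1 : ∀ H' : Subgroup X, IsPGroup p H' → H' ≠ ⊥ →
      p ^ ((Nat.card ↥(Subgroup.normalizer (H : Set X))).factorization p + 1) ∣
        Nat.card ↥(Subgroup.normalizer (H' : Set X)) →
      Cfsg.HasNormalPComplement p ↥(Subgroup.normalizer (H' : Set X))) :
    Subgroup.normalizer (H : Set X) = ⊤ := by
  by_contra hne
  apply hHbad
  obtain ⟨S₁⟩ : Nonempty (Sylow p ↥(Subgroup.normalizer (H : Set X))) := inferInstance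
  apply IHsub _ hne S₁
  apply npc_normalizer_of_map_subtype
  rw [← induced_map_of_injOn W hW (Subgroup.normalizer (H : Set X)).subtype
    (S₁ : Subgroup ↥(Subgroup.normalizer (H : Set X))) S₁.isPGroup'
    (fun x _ hx => Subtype.ext hx)]
  have hcard : Nat.card ↥((S₁ : Subgroup ↥(Subgroup.normalizer (H : Set X))).map
      (Subgroup.normalizer (H : Set X)).subtype) =
      p ^ ((Nat.card ↥(Subgroup.normalizer (H : Set X))).factorization p) := by
    rw [Subgroup.card_map_of_injective (Subgroup.subtype_injective _)]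
    exact Sylow.card_eq_multiplicity S₁
  apply npc_normalizer_functor_of_card hW S hN _ _ hcard _ hM1
  intro hbot
  rw [hbot, Subgroup.card_bot] at hcard
  have hpH : p ∣ Nat.card H := by
    obtain ⟨k, hk⟩ := IsPGroup.iff_card.mp hHp
    have hk0 : k ≠ 0 := by
      intro h0
      rw [h0, pow_zero, Subgroup.card_eq_one] at hk
      exact hH1 hk
    rw [hk]
    exact dvd_pow_self p hk0
  have hpN : p ∣ Nat.card ↥(Subgroup.normalizer (H : Set X)) :=
    dvd_trans hpH (Subgroup.card_dvd_of_le Subgroup.le_normalizer)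
  have hpos := hp.out.factorization_pos_of_dvd Nat.card_pos.ne' hpN
  have := Nat.one_lt_pow hpos.ne' hp.out.one_lt
  omega

/-- Step 4: the extremal bad subgroup is `O_p(X)`. -/
theorem eq_pCore_of_extremal (hnot : ¬ Cfsg.HasNormalPComplement p X)
    (H : Subgroup X) (hHp : IsPGroup p H)
    (htop : Subgroup.normalizer (H : Set X) = ⊤)
    (hM2 : ∀ H' : Subgroup X, IsPGroup p H' →
      p ^ ((Nat.card ↥(Subgroup.normalizer (H : Set X))).factorization p) ∣
        Nat.card ↥(Subgroup.normalizer (H' : Set X)) →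
      Nat.card H < Nat.card H' →
      Cfsg.HasNormalPComplement p ↥(Subgroup.normalizer (H' : Set X))) :
    H = Cfsg.pCore p X := by
  have hle : H ≤ Cfsg.pCore p X := le_pCore_of_normalizer_eq_top H hHp htop
  by_contra hne
  have hlt : H < Cfsg.pCore p X := lt_of_le_of_ne hle hne
  have hPn : (Cfsg.pCore p X).Normal := Cfsg.Agent.helper1.pCore_normal p
  have hPtop : Subgroup.normalizer ((Cfsg.pCore p X : Subgroup X) : Set X) = ⊤ :=
    Subgroup.normalizer_eq_top (Cfsg.pCore p X)
  have h1 := hM2 (Cfsg.pCore p X) (Cfsg.Agent.helper1.pCore_isPGroup p)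
    (by rw [hPtop, htop]; exact Nat.ordProj_dvd _ _) (card_lt_card_of_lt hlt)
  apply hnot
  rw [hPtop] at h1
  exact npc_of_surjective (⊤ : Subgroup X).subtype (fun x => ⟨⟨x, trivial⟩, rfl⟩) h1

/-- Step 5: `X / O_p(X)` has a normal `p`-complement. -/
theorem npc_quotient_pCore (hW : Cfsg.IsCharPFunctor.{u} p W) (S : Sylow p X)
    (IHquot : ∀ (N : Subgroup X) [N.Normal], N ≠ ⊥ → ∀ S' : Sylow p (X ⧸ N),
      Cfsg.HasNormalPComplement p ↥(Subgroup.normalizer
        ((Cfsg.inducedFunctor W (S' : Subgroup (X ⧸ N)) : Subgroup (X ⧸ N)) : Set (X ⧸ N))) →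
      Cfsg.HasNormalPComplement p (X ⧸ N))
    (hP1 : Cfsg.pCore p X ≠ ⊥)
    (hM2 : ∀ U : Subgroup X, IsPGroup p U →
      (S : Subgroup X) ≤ Subgroup.normalizer (U : Set X) →
      Nat.card (Cfsg.pCore p X) < Nat.card U →
      Cfsg.HasNormalPComplement p ↥(Subgroup.normalizer (U : Set X))) :
    Cfsg.HasNormalPComplement p (X ⧸ Cfsg.pCore p X) := by
  have hPS : Cfsg.pCore p X ≤ (S : Subgroup X) := Cfsg.Agent.helper1.pCore_le_sylow S
  have hsurj : Function.Surjective (QuotientGroup.mk' (Cfsg.pCore p X)) :=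
    QuotientGroup.mk'_surjective _
  by_cases hSP : (S : Subgroup X) ≤ Cfsg.pCore p X
  · apply npc_of_not_dvd
    have hSeq : (S : Subgroup X) = Cfsg.pCore p X := le_antisymm hSP hPS
    rw [← Subgroup.index_eq_card, ← hSeq]
    exact S.not_dvd_index
  · obtain ⟨hne, hSU, -⟩ := preimage_functor_props (𝓦 := {W}) (p := p)
      (fun W' hW' => by rw [Set.mem_singleton_iff.1 hW']; exact hW) S (Cfsg.pCore p X) rfl hPS hSP
      W rfl
    obtain ⟨S', hS'⟩ : ∃ S' : Sylow p (X ⧸ Cfsg.pCore p X),
        (S' : Subgroup (X ⧸ Cfsg.pCore p X)) =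
          (S : Subgroup X).map (QuotientGroup.mk' (Cfsg.pCore p X)) :=
      ⟨S.mapSurjective hsurj, rfl⟩
    apply IHquot _ hP1 S'
    rw [hS']
    apply npc_normalizer_of_comap (QuotientGroup.mk' (Cfsg.pCore p X)) hsurj
    have hconjF := induced_isConjugacyFunctor (X := X ⧸ Cfsg.pCore p X) W hW
    have hSbp : IsPGroup p ((S : Subgroup X).map (QuotientGroup.mk' (Cfsg.pCore p X))) :=
      S.isPGroup'.map _
    have hVS := (hconjF _ hSbp).1
    have hSbne : (S : Subgroup X).map (QuotientGroup.mk' (Cfsg.pCore p X)) ≠ ⊥ := by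
      intro h
      apply hSP
      have := (Subgroup.map_eq_bot_iff _).1 h
      rwa [QuotientGroup.ker_mk'] at this
    have hVne := (hconjF _ hSbp).2.1 hSbne
    have hUS : (Cfsg.inducedFunctor W
        ((S : Subgroup X).map (QuotientGroup.mk' (Cfsg.pCore p X)))).comap
          (QuotientGroup.mk' (Cfsg.pCore p X)) ≤ (S : Subgroup X) := by
      refine le_trans (Subgroup.comap_mono hVS) ?_
      rw [Subgroup.comap_map_eq, QuotientGroup.ker_mk', sup_eq_left.2 hPS]
    have hPU : Cfsg.pCore p X ≤ (Cfsg.inducedFunctor W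
        ((S : Subgroup X).map (QuotientGroup.mk' (Cfsg.pCore p X)))).comap
          (QuotientGroup.mk' (Cfsg.pCore p X)) := by
      intro x hx
      rw [Subgroup.mem_comap]
      have : (QuotientGroup.mk' (Cfsg.pCore p X)) x = 1 := by
        have : x ∈ (QuotientGroup.mk' (Cfsg.pCore p X)).ker := by
          rw [QuotientGroup.ker_mk']; exact hx
        exact this
      rw [this]; exact Subgroup.one_mem _
    apply hM2 _ (S.isPGroup'.to_le hUS) hSU
    apply card_lt_card_of_lt
    refine lt_of_le_of_ne hPU ?_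
    intro heq
    apply hVne
    rw [← Subgroup.map_comap_eq_self_of_surjective hsurj (Cfsg.inducedFunctor W
        ((S : Subgroup X).map (QuotientGroup.mk' (Cfsg.pCore p X)))), ← heq]
    rw [Subgroup.map_eq_bot_iff, QuotientGroup.ker_mk']

/-- Step 6: `O_{p'}(X) = 1`. -/
theorem pPrimeCore_eq_bot_of_minimal (hW : Cfsg.IsCharPFunctor.{u} p W) (S : Sylow p X)
    (hN : Cfsg.HasNormalPComplement p ↥(Subgroup.normalizer
      ((Cfsg.inducedFunctor W (S : Subgroup X) : Subgroup X) : Set X)))
    (hnot : ¬ Cfsg.HasNormalPComplement p X)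
    (IHquot : ∀ (N : Subgroup X) [N.Normal], N ≠ ⊥ → ∀ S' : Sylow p (X ⧸ N),
      Cfsg.HasNormalPComplement p ↥(Subgroup.normalizer
        ((Cfsg.inducedFunctor W (S' : Subgroup (X ⧸ N)) : Subgroup (X ⧸ N)) : Set (X ⧸ N))) →
      Cfsg.HasNormalPComplement p (X ⧸ N)) :
    Cfsg.pPrimeCore p X = ⊥ := by
  by_contra hD
  have : (Cfsg.pPrimeCore p X).Normal := Cfsg.Agent.helper1.pPrimeCore_normal p
  have hDcop : (Nat.card (Cfsg.pPrimeCore p X)).Coprime p :=
    Cfsg.Agent.helper1.pPrimeCore_coprime p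
  apply hnot
  apply npc_of_quotient_coprime (Cfsg.pPrimeCore p X) hDcop
  have hsurj : Function.Surjective (QuotientGroup.mk' (Cfsg.pPrimeCore p X)) :=
    QuotientGroup.mk'_surjective _
  obtain ⟨S', hS'⟩ : ∃ S' : Sylow p (X ⧸ Cfsg.pPrimeCore p X),
      (S' : Subgroup (X ⧸ Cfsg.pPrimeCore p X)) =
        (S : Subgroup X).map (QuotientGroup.mk' (Cfsg.pPrimeCore p X)) :=
    ⟨S.mapSurjective hsurj, rfl⟩
  apply IHquot _ hD S'
  have hconjF := induced_isConjugacyFunctor (X := X) W hW
  rw [hS', induced_map_of_injOn W hW (QuotientGroup.mk' (Cfsg.pPrimeCore p X)) (S : Subgroup X)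
    S.isPGroup' (fun x hxS hx => by
      have hxD : x ∈ Cfsg.pPrimeCore p X := by
        have : x ∈ (QuotientGroup.mk' (Cfsg.pPrimeCore p X)).ker := hx
        rwa [QuotientGroup.ker_mk'] at this
      exact eq_one_of_mem_of_coprime (S : Subgroup X) (Cfsg.pPrimeCore p X) S.isPGroup' hDcop x
        hxS hxD)]
  exact npc_normalizer_map_coprime S _ hDcop _ (hconjF _ S.isPGroup').1
    (sylow_le_normalizer_functor _ hconjF _ S.isPGroup') hN

/-- Step 7: proper subgroups containing `S` have normal `p`-complements. -/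
theorem npc_of_sylow_le_of_ne_top (hW : Cfsg.IsCharPFunctor.{u} p W) (S : Sylow p X)
    (hN : Cfsg.HasNormalPComplement p ↥(Subgroup.normalizer
      ((Cfsg.inducedFunctor W (S : Subgroup X) : Subgroup X) : Set X)))
    (IHsub : ∀ H : Subgroup X, H ≠ ⊤ → ∀ S₁ : Sylow p H,
      Cfsg.HasNormalPComplement p ↥(Subgroup.normalizer
        ((Cfsg.inducedFunctor W (S₁ : Subgroup H) : Subgroup H) : Set H)) →
      Cfsg.HasNormalPComplement p H) :
    ∀ M : Subgroup X, (S : Subgroup X) ≤ M → M ≠ ⊤ → Cfsg.HasNormalPComplement p M := by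
  intro M hSM hM
  apply IHsub M hM (S.subtype hSM)
  apply npc_normalizer_of_map_subtype
  rw [← induced_map_of_injOn W hW M.subtype _ (S.subtype hSM).isPGroup'
    (fun x _ hx => Subtype.ext hx)]
  have h1 : ((S.subtype hSM : Sylow p M) : Subgroup M).map M.subtype = (S : Subgroup X) := by
    rw [Sylow.coe_subtype, Subgroup.subgroupOf_map_subtype, inf_eq_left.2 hSM]
  rw [h1]
  exact hN

end steps

end Cfsg.Agent.helper10

namespace Cfsg.Agent.helper10

universe u

section main

variable {p : ℕ} [hp : Fact p.Prime] {W : ∀ (Q : Type u) [Group Q], Subgroup Q}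

/-- Thompson's normal `p`-complement criterion in functor form, by induction on the order. -/
theorem thompson_main (hW : Cfsg.IsCharPFunctor.{u} p W) :
    ∀ (n : ℕ) (X : Type u) [Group X] [Finite X], Nat.card X = n → HypT p W X →
      ∀ S : Sylow p X,
        Cfsg.HasNormalPComplement p ↥(Subgroup.normalizer
          ((Cfsg.inducedFunctor W (S : Subgroup X) : Subgroup X) : Set X)) →
        Cfsg.HasNormalPComplement p X := by
  intro n
  induction n using Nat.strong_induction_on with
  | _ n IH =>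
    intro X _ _ hn hX S hN
    have IHsub : ∀ H : Subgroup X, H ≠ ⊤ → ∀ S₁ : Sylow p H,
        Cfsg.HasNormalPComplement p ↥(Subgroup.normalizer
          ((Cfsg.inducedFunctor W (S₁ : Subgroup H) : Subgroup H) : Set H)) →
        Cfsg.HasNormalPComplement p H := by
      intro H hH
      have hlt : Nat.card H < n := by
        rw [← hn]
        have h1 : H < ⊤ := lt_top_iff_ne_top.2 hH
        have h2 := card_lt_card_of_lt h1
        rwa [Subgroup.card_top] at h2
      exact IH _ hlt H rfl (hypT_subgroup H hX)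
    have IHquot : ∀ (N : Subgroup X) [N.Normal], N ≠ ⊥ → ∀ S' : Sylow p (X ⧸ N),
        Cfsg.HasNormalPComplement p ↥(Subgroup.normalizer
          ((Cfsg.inducedFunctor W (S' : Subgroup (X ⧸ N)) : Subgroup (X ⧸ N)) : Set (X ⧸ N))) →
        Cfsg.HasNormalPComplement p (X ⧸ N) := by
      intro N _ hN1
      have hlt : Nat.card (X ⧸ N) < n := by
        rw [← hn, ← Subgroup.index_eq_card, ← Subgroup.card_mul_index N]
        have h1 : 1 < Nat.card N := by
          rw [Subgroup.one_lt_card_iff_ne_bot]; exact hN1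
        have h2 : 0 < N.index := Nat.pos_of_ne_zero Subgroup.index_ne_zero_of_finite
        nlinarith
      exact IH _ hlt (X ⧸ N) rfl (hypT_quotient N hX)
    by_contra hnot
    obtain ⟨H, hHp, hH1, hHbad, hM1, hM2⟩ := exists_extremal_bad hnot
    have htop := normalizer_eq_top_of_extremal hW S hN IHsub H hHp hH1 hHbad hM1
    have hHP := eq_pCore_of_extremal hnot H hHp htop hM2
    subst hHP
    -- now `H = O_p(X)`
    have hM2' : ∀ U : Subgroup X, IsPGroup p U →
        (S : Subgroup X) ≤ Subgroup.normalizer (U : Set X) →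
        Nat.card (Cfsg.pCore p X) < Nat.card U →
        Cfsg.HasNormalPComplement p ↥(Subgroup.normalizer (U : Set X)) := by
      intro U hUp hSU hlt
      apply hM2 U hUp _ hlt
      have h1 : Nat.card (S : Subgroup X) ∣ Nat.card ↥(Subgroup.normalizer (U : Set X)) :=
        Subgroup.card_dvd_of_le hSU
      rw [htop, Subgroup.card_top, ← Sylow.card_eq_multiplicity S]
      exact h1
    have hquot := npc_quotient_pCore hW S IHquot hH1 hM2'
    have hD := pPrimeCore_eq_bot_of_minimal hW S hN hnot IHquot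
    have hcon := constrained_of_quotient_npc hD hquot
    have hcoatom := sylow_isCoatom_of_constrained S hcon hnot
      (npc_of_sylow_le_of_ne_top hW S hN IHsub)
    have hnormal := hX ⊤ X (⊤ : Subgroup X).subtype (fun x => ⟨⟨x, trivial⟩, rfl⟩) hcon hquot S
      hcoatom
    apply hnot
    have hNtop : Subgroup.normalizer
        ((Cfsg.inducedFunctor W (S : Subgroup X) : Subgroup X) : Set X) = ⊤ :=
      Subgroup.normalizer_eq_top (Cfsg.inducedFunctor W (S : Subgroup X))
    rw [hNtop] at hN
    exact npc_of_surjective (⊤ : Subgroup X).subtype (fun x => ⟨⟨x, trivial⟩, rfl⟩) hN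

end main

end Cfsg.Agent.helper10
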