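import Mathlib

set_option autoImplicit false

/-!
# The averaging lemma behind the abelian case of Hall–Higman's Theorem B
-/

namespace Cfsg.Agent.helper10

section avg

variable {H : Type*} [Group H]

/-- `c ↦ h⁻¹ c⁻¹ h c` is multiplicative on an abelian subgroup normalized by `h`. -/
theorem comm_elt_mul (B : Subgroup H) (hB : ∀ a ∈ B, ∀ b ∈ B, a * b = b * a) (h : H)
    (hh : ∀ b ∈ B, h⁻¹ * b * h ∈ B) (c₁ c₂ : H) (h1 : c₁ ∈ B) (h2 : c₂ ∈ B) :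
    h⁻¹ * (c₁ * c₂)⁻¹ * h * (c₁ * c₂) = (h⁻¹ * c₁⁻¹ * h * c₁) * (h⁻¹ * c₂⁻¹ * h * c₂) := by
  have ha : h⁻¹ * c₁⁻¹ * h ∈ B := hh _ (B.inv_mem h1)
  have hb : h⁻¹ * c₂⁻¹ * h ∈ B := hh _ (B.inv_mem h2)
  calc h⁻¹ * (c₁ * c₂)⁻¹ * h * (c₁ * c₂)
      = (h⁻¹ * c₂⁻¹ * h) * (h⁻¹ * c₁⁻¹ * h) * c₁ * c₂ := by group
    _ = (h⁻¹ * c₁⁻¹ * h) * (h⁻¹ * c₂⁻¹ * h) * c₁ * c₂ := by rw [hB _ hb _ ha]
    _ = (h⁻¹ * c₁⁻¹ * h) * ((h⁻¹ * c₂⁻¹ * h) * c₁) * c₂ := by simp only [mul_assoc]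
    _ = (h⁻¹ * c₁⁻¹ * h) * (c₁ * (h⁻¹ * c₂⁻¹ * h)) * c₂ := by rw [hB _ hb _ h1]
    _ = (h⁻¹ * c₁⁻¹ * h * c₁) * (h⁻¹ * c₂⁻¹ * h * c₂) := by simp only [mul_assoc]

/-- Commutators with a power of `h` are commutators with `h`. -/
theorem comm_elt_pow (B : Subgroup H) (hB : ∀ a ∈ B, ∀ b ∈ B, a * b = b * a) (h : H)
    (hh : ∀ b ∈ B, h⁻¹ * b * h ∈ B) :
    ∀ (j : ℕ) (c : H), c ∈ B → ∃ c₁ ∈ B, (h ^ j)⁻¹ * c⁻¹ * h ^ j * c = h⁻¹ * c₁⁻¹ * h * c₁ := by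
  intro j
  induction j with
  | zero =>
    intro c _
    exact ⟨1, B.one_mem, by simp⟩
  | succ j IH =>
    intro c hc
    obtain ⟨c₂, hc₂, h2⟩ := IH (h⁻¹ * c * h) (hh c hc)
    refine ⟨c₂ * c, B.mul_mem hc₂ hc, ?_⟩
    rw [comm_elt_mul B hB h hh c₂ c hc₂ hc, ← h2, pow_succ']
    group

end avg

section avg2

variable {H : Type*} [Group H] {R : Type*} [Ring R]

/-- Key reindexing identity. -/
theorem conj_mul_comm_elt (B : Subgroup H) (hB : ∀ a ∈ B, ∀ b ∈ B, a * b = b * a) (h : H)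
    (hh : ∀ b ∈ B, h * b * h⁻¹ ∈ B) (c c₁ : H) (hc : c ∈ B) (hc₁ : c₁ ∈ B) :
    c⁻¹ * h * c * (h⁻¹ * c₁⁻¹ * h * c₁) = (c * c₁)⁻¹ * h * (c * c₁) := by
  have ha : h * c * h⁻¹ ∈ B := hh c hc
  calc c⁻¹ * h * c * (h⁻¹ * c₁⁻¹ * h * c₁)
      = c⁻¹ * ((h * c * h⁻¹) * c₁⁻¹) * h * c₁ := by group
    _ = c⁻¹ * (c₁⁻¹ * (h * c * h⁻¹)) * h * c₁ := by rw [hB _ ha _ (B.inv_mem hc₁)]
    _ = (c₁ * c)⁻¹ * h * (c * c₁) := by group
    _ = (c * c₁)⁻¹ * h * (c * c₁) := by rw [hB _ hc₁ _ hc]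

/-- The averaging lemma: if `(g - 1)^(p-1) = 0` in a representation and `g` (a `p`-element)
normalizes the finite abelian subgroup `B`, then `|B| (ρ [g, c₀] - 1) = 0` for `c₀ ∈ B`. -/
theorem avg_main (p : ℕ) [hp : Fact p.Prime] (ρ : H →* R) (B : Subgroup H) [Finite B]
    (hB : ∀ a ∈ B, ∀ b ∈ B, a * b = b * a) (g : H)
    (hg : g ∈ Subgroup.normalizer (B : Set H)) (n : ℕ) (hgo : g ^ (p ^ n) = 1)
    (hnil : (ρ g - 1) ^ (p - 1) = 0) (c₀ : H) (hc₀ : c₀ ∈ B) :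
    (Nat.card B : R) * (ρ (g⁻¹ * c₀⁻¹ * g * c₀) - 1) = 0 := by
  classical
  haveI : Fintype B := Fintype.ofFinite B
  have hnorm : ∀ k : ℕ, ∀ b ∈ B, g ^ k * b * (g ^ k)⁻¹ ∈ B ∧ (g ^ k)⁻¹ * b * g ^ k ∈ B := by
    intro k b hb
    have hk : g ^ k ∈ Subgroup.normalizer (B : Set H) := Subgroup.pow_mem _ hg k
    constructor
    · exact (Subgroup.mem_normalizer_iff.1 hk b).1 hb
    · have hk' : (g ^ k)⁻¹ ∈ Subgroup.normalizer (B : Set H) := Subgroup.inv_mem _ hk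
      have := (Subgroup.mem_normalizer_iff.1 hk' b).1 hb
      rwa [inv_inv] at this
  have hC : ∀ k, 0 < k → k < p →
      (∑ c : B, ρ ((c : H)⁻¹ * g ^ k * c)) * (ρ (g⁻¹ * c₀⁻¹ * g * c₀) - 1) = 0 := by
    intro k hk0 hkp
    have hcop : Nat.Coprime k (orderOf g) := by
      have h1 : orderOf g ∣ p ^ n := orderOf_dvd_of_pow_eq_one hgo
      obtain ⟨i, -, hi⟩ := (Nat.dvd_prime_pow hp.out).1 h1
      rw [hi]
      apply Nat.Coprime.pow_right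
      exact ((Nat.Prime.coprime_iff_not_dvd hp.out).2 (Nat.not_dvd_of_pos_of_lt hk0 hkp)).symm
    obtain ⟨j, hj⟩ := exists_pow_eq_self_of_coprime hcop
    obtain ⟨c₁, hc₁, h1⟩ := comm_elt_pow B hB (g ^ k) (fun b hb => (hnorm k b hb).2) j c₀ hc₀
    rw [hj] at h1
    have h2 : (∑ c : B, ρ ((c : H)⁻¹ * g ^ k * c)) * ρ (g⁻¹ * c₀⁻¹ * g * c₀) =
        ∑ c : B, ρ ((c : H)⁻¹ * g ^ k * c) := by
      rw [Finset.sum_mul]
      rw [← Equiv.sum_comp (Equiv.mulRight (⟨c₁, hc₁⟩ : B))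
        (fun c : B => ρ ((c : H)⁻¹ * g ^ k * c))]
      apply Finset.sum_congr rfl
      intro c _
      rw [← map_mul, h1, conj_mul_comm_elt B hB (g ^ k) (fun b hb => (hnorm k b hb).1) c c₁
        c.2 hc₁]
      rfl
    rw [mul_sub, h2, mul_one, sub_self]
  have hA : ∑ m ∈ Finset.range (p - 1 + 1), (∑ c : B, ρ ((c : H)⁻¹ * g ^ m * c)) *
      ((-1 : R) ^ (p - 1 - m) * ((p - 1).choose m : R)) = 0 := by
    have hexp : (ρ g - 1) ^ (p - 1) = ∑ m ∈ Finset.range (p - 1 + 1),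
        ρ g ^ m * (-1) ^ (p - 1 - m) * ((p - 1).choose m : R) := by
      rw [sub_eq_add_neg]
      exact Commute.add_pow ((Commute.one_right (ρ g)).neg_right) (p - 1)
    have h1 : ∀ c : B, ∑ m ∈ Finset.range (p - 1 + 1), ρ ((c : H)⁻¹ * g ^ m * c) *
        ((-1 : R) ^ (p - 1 - m) * ((p - 1).choose m : R)) = 0 := by
      intro c
      have h2 : ρ ((c : H)⁻¹) * (ρ g - 1) ^ (p - 1) * ρ c = 0 := by rw [hnil]; simp
      rw [hexp, Finset.mul_sum, Finset.sum_mul] at h2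
      rw [← h2]
      apply Finset.sum_congr rfl
      intro m _
      have hcomm : Commute ((-1 : R) ^ (p - 1 - m) * ((p - 1).choose m : R)) (ρ c) :=
        ((Commute.neg_one_left _).pow_left _).mul_left (Nat.cast_commute _ _)
      rw [map_mul, map_mul, map_pow, mul_assoc (ρ ((c : H)⁻¹) * ρ g ^ m), ← hcomm.eq]
      simp only [mul_assoc]
    calc ∑ m ∈ Finset.range (p - 1 + 1), (∑ c : B, ρ ((c : H)⁻¹ * g ^ m * c)) *
          ((-1 : R) ^ (p - 1 - m) * ((p - 1).choose m : R))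
        = ∑ m ∈ Finset.range (p - 1 + 1), ∑ c : B, ρ ((c : H)⁻¹ * g ^ m * c) *
          ((-1 : R) ^ (p - 1 - m) * ((p - 1).choose m : R)) := by
          apply Finset.sum_congr rfl
          intro m _
          rw [Finset.sum_mul]
      _ = ∑ c : B, ∑ m ∈ Finset.range (p - 1 + 1), ρ ((c : H)⁻¹ * g ^ m * c) *
          ((-1 : R) ^ (p - 1 - m) * ((p - 1).choose m : R)) := Finset.sum_comm
      _ = 0 := by
          apply Finset.sum_eq_zero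
          intro c _
          exact h1 c
  -- multiply by `y`
  have hD : ∑ m ∈ Finset.range (p - 1 + 1), ((∑ c : B, ρ ((c : H)⁻¹ * g ^ m * c)) *
      ((-1 : R) ^ (p - 1 - m) * ((p - 1).choose m : R))) * (ρ (g⁻¹ * c₀⁻¹ * g * c₀) - 1) = 0 := by
    rw [← Finset.sum_mul, hA, zero_mul]
  rw [Finset.sum_eq_single 0] at hD
  · have h0 : ∑ c : B, ρ ((c : H)⁻¹ * g ^ 0 * c) = (Nat.card B : R) := by
      simp [Nat.card_eq_fintype_card]
    rw [h0, Nat.sub_zero, Nat.choose_zero_right, Nat.cast_one, mul_one] at hD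
    have hcomm : Commute ((-1 : R) ^ (p - 1)) (Nat.card B : R) :=
      ((Commute.neg_one_left _).pow_left _)
    have hD2 := congrArg (fun r : R => (-1 : R) ^ (p - 1) * r) hD
    simp only [mul_zero] at hD2
    rw [← mul_assoc, ← mul_assoc, hcomm.eq, mul_assoc (Nat.card B : R), ← pow_add] at hD2
    have h1 : ((-1 : R)) ^ (p - 1 + (p - 1)) = 1 := by
      rw [← two_mul, pow_mul]; simp
    rw [h1, mul_one] at hD2
    exact hD2
  · intro m hm hm0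
    have hmp : m < p := by
      have := Finset.mem_range.1 hm
      have := hp.out.pos
      omega
    have hcomm : Commute ((-1 : R) ^ (p - 1 - m) * ((p - 1).choose m : R))
        (ρ (g⁻¹ * c₀⁻¹ * g * c₀) - 1) :=
      ((Commute.neg_one_left _).pow_left _).mul_left (Nat.cast_commute _ _)
    rw [mul_assoc, hcomm.eq, ← mul_assoc, hC m (Nat.pos_of_ne_zero hm0) hmp, zero_mul]
  · intro h0
    exact absurd (Finset.mem_range.2 (Nat.succ_pos _)) h0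

end avg2

end Cfsg.Agent.helper10
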