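import Mathlib
import Cfsg.Agent.Lib_helper10_HH1

set_option autoImplicit false

/-!
# The abelian case of Hall–Higman's Theorem B for irreducible modules (abstract form)
-/

namespace Cfsg.Agent.helper10

section fixed

variable {Z : Type*} [Group Z] {M : Type*} [AddCommGroup M] [Finite M] {p : ℕ} [hp : Fact p.Prime]

theorem end_mul_apply (f g : AddMonoid.End M) (m : M) : (f * g) m = f (g m) := rfl

/-- A `p`-subgroup which is normal "modulo the kernel" acts trivially on an irreducible module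
of characteristic `p`. -/
theorem rep_trivial_of_pgroup (ρ : Z →* AddMonoid.End M) (hM : p ∣ Nat.card M)
    (hirr : ∀ N : AddSubgroup M, (∀ z : Z, ∀ m ∈ N, ρ z m ∈ N) → N = ⊥ ∨ N = ⊤)
    (D : Subgroup Z) (hD : IsPGroup p D)
    (hqn : ∀ z : Z, ∀ d ∈ D, ∃ d' ∈ D, ρ (z⁻¹ * d * z) = ρ d') :
    ∀ d ∈ D, ρ d = 1 := by
  let N : AddSubgroup M :=
    { carrier := {m | ∀ d ∈ D, ρ d m = m}
      zero_mem' := fun d _ => map_zero _
      add_mem' := fun {a b} ha hb d hd => by rw [map_add, ha d hd, hb d hd]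
      neg_mem' := fun {a} ha d hd => by rw [map_neg, ha d hd] }
  have hNmem : ∀ m : M, m ∈ N ↔ ∀ d ∈ D, ρ d m = m := fun m => Iff.rfl
  have hinv : ∀ z : Z, ∀ m ∈ N, ρ z m ∈ N := by
    intro z m hm
    rw [hNmem] at hm ⊢
    intro d hd
    obtain ⟨d', hd', h1⟩ := hqn z d hd
    have h2 : ρ d (ρ z m) = ρ z (ρ (z⁻¹ * d * z) m) := by
      rw [← end_mul_apply, ← end_mul_apply, ← map_mul, ← map_mul]
      congr 2
      group
    rw [h2, h1, hm d' hd']
  have hne : N ≠ ⊥ := by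
    letI : MulAction D M := MulAction.compHom M (ρ.comp D.subtype)
    have h0 : (0 : M) ∈ MulAction.fixedPoints D M := fun d => map_zero (ρ (d : Z))
    obtain ⟨b, hb, hb0⟩ := hD.exists_fixed_point_of_prime_dvd_card_of_fixed_point M hM h0
    intro hbot
    have hbN : b ∈ N := by
      rw [hNmem]
      intro d hd
      exact hb ⟨d, hd⟩
    rw [hbot, AddSubgroup.mem_bot] at hbN
    exact hb0 hbN.symm
  rcases hirr N hinv with h | h
  · exact absurd h hne
  · intro d hd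
    ext m
    have hm : m ∈ N := h ▸ AddSubgroup.mem_top m
    exact (hNmem m).1 hm d hd

/-- In a finite additive `p`-group, multiplication by a number prime to `p` is injective. -/
theorem eq_zero_of_coprime_nsmul (k : ℕ) (hMk : Nat.card M = p ^ k) (a : ℕ) (ha : a.Coprime p)
    (x : M) (hx : a • x = 0) : x = 0 := by
  have h1 : addOrderOf x ∣ a := addOrderOf_dvd_of_nsmul_eq_zero hx
  have h2 : addOrderOf x ∣ p ^ k := hMk ▸ addOrderOf_dvd_natCard x
  have h3 : Nat.Coprime a (p ^ k) := Nat.Coprime.pow_right k ha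
  have h4 : addOrderOf x = 1 := Nat.dvd_one.1 (h3 ▸ Nat.dvd_gcd h1 h2)
  exact AddMonoid.addOrderOf_eq_one_iff.1 h4

/-- The abelian case of Hall–Higman's Theorem B, abstract form: `Z = T K` with `K` a normal
abelian `p'`-subgroup and `T` a `p`-subgroup, acting irreducibly on the `p`-group `M`; an element
`g` of `T` with `(g - 1)^(p-1) = 0` on `M` acts trivially. -/
theorem hh_abelian_abstract (ρ : Z →* AddMonoid.End M) (k : ℕ) (hMk : Nat.card M = p ^ k)
    (hk : k ≠ 0)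
    (hirr : ∀ N : AddSubgroup M, (∀ z : Z, ∀ m ∈ N, ρ z m ∈ N) → N = ⊥ ∨ N = ⊤)
    (K : Subgroup Z) [hKn : K.Normal] [Finite K] (hKab : ∀ a ∈ K, ∀ b ∈ K, a * b = b * a)
    (hKcop : (Nat.card K).Coprime p)
    (T : Subgroup Z) (hT : IsPGroup p T) (hTK : ∀ z : Z, ∃ t ∈ T, ∃ c ∈ K, z = t * c)
    (g : Z) (hgT : g ∈ T) (hnil : (ρ g - 1) ^ (p - 1) = 0) : ρ g = 1 := by
  have hM : p ∣ Nat.card M := by rw [hMk]; exact dvd_pow_self p hk
  obtain ⟨n, hn⟩ := hT ⟨g, hgT⟩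
  have hgo : g ^ (p ^ n) = 1 := by
    have := congrArg Subtype.val hn
    simpa using this
  have hgN : g ∈ Subgroup.normalizer (K : Set Z) := by
    rw [Subgroup.normalizer_eq_top K]; exact Subgroup.mem_top g
  -- step 1: commutators act trivially
  have h1 : ∀ c ∈ K, ρ (g⁻¹ * c⁻¹ * g * c) = 1 := by
    intro c hc
    have h2 := avg_main p ρ K hKab g hgN n hgo hnil c hc
    ext m
    have h3 := congrArg (fun f : AddMonoid.End M => f m) h2
    simp only [end_mul_apply, AddMonoid.End.natCast_apply, AddMonoid.End.zero_apply] at h3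
    have h4 := eq_zero_of_coprime_nsmul k hMk _ hKcop _ h3
    rw [AddMonoid.End.one_apply]
    have h5 : (ρ (g⁻¹ * c⁻¹ * g * c) - 1) m = ρ (g⁻¹ * c⁻¹ * g * c) m - m := rfl
    rw [h5, sub_eq_zero] at h4
    exact h4
  -- step 2: the centralizer of `K` modulo the kernel
  let L₀ : Subgroup Z :=
    { carrier := {z | ∀ c ∈ K, ρ z * ρ c = ρ c * ρ z}
      one_mem' := fun c _ => by rw [map_one, one_mul, mul_one]
      mul_mem' := fun {a b} ha hb c hc => by
        rw [map_mul, mul_assoc, hb c hc, ← mul_assoc, ha c hc, mul_assoc]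
      inv_mem' := fun {a} ha c hc => by
        have h2 : ρ a⁻¹ * ρ a = 1 := by rw [← map_mul, inv_mul_cancel, map_one]
        have h3 : ρ a * ρ a⁻¹ = 1 := by rw [← map_mul, mul_inv_cancel, map_one]
        calc ρ a⁻¹ * ρ c = ρ a⁻¹ * ρ c * (ρ a * ρ a⁻¹) := by rw [h3, mul_one]
          _ = ρ a⁻¹ * (ρ c * ρ a) * ρ a⁻¹ := by simp only [mul_assoc]
          _ = ρ a⁻¹ * (ρ a * ρ c) * ρ a⁻¹ := by rw [ha c hc]
          _ = (ρ a⁻¹ * ρ a) * ρ c * ρ a⁻¹ := by simp only [mul_assoc]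
          _ = ρ c * ρ a⁻¹ := by rw [h2, one_mul] }
  have hL₀mem : ∀ z : Z, z ∈ L₀ ↔ ∀ c ∈ K, ρ z * ρ c = ρ c * ρ z := fun z => Iff.rfl
  have hgL₀ : g ∈ L₀ := by
    rw [hL₀mem]
    intro c hc
    have h2 : g * c = c * g * (g⁻¹ * c⁻¹ * g * c) := by group
    rw [← map_mul, h2, map_mul, h1 c hc, mul_one, map_mul]
  have hqn : ∀ z : Z, ∀ d ∈ T ⊓ L₀, ∃ d' ∈ T ⊓ L₀, ρ (z⁻¹ * d * z) = ρ d' := by
    intro z d hd
    obtain ⟨t, ht, c, hc, rfl⟩ := hTK z
    have hd'L : t⁻¹ * d * t ∈ L₀ := by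
      rw [hL₀mem]
      intro c' hc'
      obtain ⟨c'', hc''def⟩ : ∃ c'' : Z, c'' = t * c' * t⁻¹ := ⟨_, rfl⟩
      have hc'' : c'' ∈ K := hc''def ▸ hKn.conj_mem c' hc' t
      have h2 := (hL₀mem d).1 hd.2 _ hc''
      have h3 : t⁻¹ * d * t * c' = t⁻¹ * (d * c'') * t := by rw [hc''def]; group
      have h4 : c' * (t⁻¹ * d * t) = t⁻¹ * (c'' * d) * t := by rw [hc''def]; group
      rw [← map_mul, ← map_mul, h3, h4, map_mul ρ (t⁻¹ * (d * c'')) t, map_mul ρ t⁻¹ (d * c''),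
        map_mul ρ d c'', h2, ← map_mul ρ c'' d, ← map_mul ρ t⁻¹, ← map_mul]
    refine ⟨t⁻¹ * d * t, ⟨T.mul_mem (T.mul_mem (T.inv_mem ht) hd.1) ht, hd'L⟩, ?_⟩
    have h2 := (hL₀mem _).1 hd'L c hc
    have h3 : (t * c)⁻¹ * d * (t * c) = c⁻¹ * ((t⁻¹ * d * t) * c) := by group
    rw [h3, map_mul ρ c⁻¹, map_mul ρ (t⁻¹ * d * t) c, h2, ← mul_assoc, ← map_mul ρ c⁻¹ c,
      inv_mul_cancel, map_one, one_mul]
  exact rep_trivial_of_pgroup ρ hM hirr (T ⊓ L₀) (hT.to_le inf_le_left) hqn g ⟨hgT, hgL₀⟩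

end fixed

end Cfsg.Agent.helper10
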