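import Mathlib
import Cfsg.Prelude.Def_CaseTheorems
import Cfsg.Prelude.Def_LocalEven
import Cfsg.Agent.Lib_helper10_HH2

set_option autoImplicit false

/-!
# The abelian case of Hall–Higman's Theorem B for chief factors
-/

namespace Cfsg.Agent.helper10

section conjrep

variable {Z : Type*} [Group Z] (A : Subgroup Z) [hA : A.Normal]

/-- Conjugation as a function on the normal subgroup `A`. -/
def conjFun (z : Z) (a : A) : A := ⟨z * (a : Z) * z⁻¹, hA.conj_mem _ a.2 z⟩

theorem conjFun_one (a : A) : conjFun A 1 a = a := Subtype.ext (by simp [conjFun])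

theorem conjFun_mul (z w : Z) (a : A) : conjFun A (z * w) a = conjFun A z (conjFun A w a) :=
  Subtype.ext (by simp [conjFun, mul_assoc])

theorem conjFun_map_one (z : Z) : conjFun A z 1 = 1 := Subtype.ext (by simp [conjFun])

theorem conjFun_map_mul (z : Z) (a b : A) :
    conjFun A z (a * b) = conjFun A z a * conjFun A z b :=
  Subtype.ext (by simp [conjFun, mul_assoc])

/-- The conjugation representation on (the additive version of) a normal subgroup. -/
noncomputable def conjRep : Z →* AddMonoid.End (Additive A) where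
  toFun z :=
    { toFun := fun m => Additive.ofMul (conjFun A z (Additive.toMul m))
      map_zero' := by
        show Additive.ofMul (conjFun A z 1) = Additive.ofMul 1
        rw [conjFun_map_one]
      map_add' := fun a b => by
        show Additive.ofMul (conjFun A z (Additive.toMul a * Additive.toMul b)) =
          Additive.ofMul (conjFun A z (Additive.toMul a) * conjFun A z (Additive.toMul b))
        rw [conjFun_map_mul] }
  map_one' := by
    refine AddMonoidHom.ext fun m => ?_
    show Additive.ofMul (conjFun A 1 (Additive.toMul m)) = m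
    rw [conjFun_one]
    rfl
  map_mul' := by
    intro a b
    refine AddMonoidHom.ext fun m => ?_
    show Additive.ofMul (conjFun A (a * b) (Additive.toMul m)) =
      Additive.ofMul (conjFun A a (conjFun A b (Additive.toMul m)))
    rw [conjFun_mul]

theorem conjRep_apply (z : Z) (m : Additive A) :
    (((conjRep A z m).toMul : A) : Z) = z * ((m.toMul : A) : Z) * z⁻¹ := rfl

end conjrep

section chief

universe u

variable {Y : Type u} [Group Y] [Finite Y] {p : ℕ} [hp : Fact p.Prime]

/-- A chief factor inside a `p`-group is abelian. -/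
theorem chief_commutator_le (P : Subgroup Y) (hP : IsPGroup p P) (U V : Subgroup Y)
    (hUV : Cfsg.IsChiefFactor U V) (hUP : U ≤ P) : ⁅U, U⁆ ≤ V := by
  obtain ⟨hlt, hUn, hVn, hmin⟩ := hUV
  have hNn : (⁅U, U⁆ ⊔ V).Normal := inferInstance
  rcases hmin (⁅U, U⁆ ⊔ V) hNn le_sup_right (sup_le (Subgroup.commutator_le_left U U) hlt.le) with h | h
  · exact le_sup_left.trans h.le
  · exfalso
    have hAp : IsPGroup p ↥(U.map (QuotientGroup.mk' V)) := (hP.to_le hUP).map _
    have hAne : U.map (QuotientGroup.mk' V) ≠ ⊥ := by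
      intro hbot
      have := (Subgroup.map_eq_bot_iff _).1 hbot
      rw [QuotientGroup.ker_mk'] at this
      exact absurd this (not_le_of_gt hlt)
    have : Nontrivial ↥(U.map (QuotientGroup.mk' V)) :=
      (Subgroup.nontrivial_iff_ne_bot _).2 hAne
    have : Group.IsNilpotent ↥(U.map (QuotientGroup.mk' V)) := hAp.isNilpotent
    have h1 := Group.IsSolvable.commutator_lt_top_of_nontrivial ↥(U.map (QuotientGroup.mk' V))
    have h2 : ⁅U.map (QuotientGroup.mk' V), U.map (QuotientGroup.mk' V)⁆ <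
        U.map (QuotientGroup.mk' V) := by
      rw [← Subgroup.map_subtype_commutator]
      have h3 := (Subgroup.map_lt_map_iff_of_injective
        (Subgroup.subtype_injective (U.map (QuotientGroup.mk' V)))).2 h1
      have h4 : (⊤ : Subgroup ↥(U.map (QuotientGroup.mk' V))).map
          (U.map (QuotientGroup.mk' V)).subtype = U.map (QuotientGroup.mk' V) := by
        rw [← MonoidHom.range_eq_map, Subgroup.range_subtype]
      rw [h4] at h3
      exact h3
    have h5 : U.map (QuotientGroup.mk' V) =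
        ⁅U.map (QuotientGroup.mk' V), U.map (QuotientGroup.mk' V)⁆ := by
      conv_lhs => rw [← h]
      rw [Subgroup.map_sup, Subgroup.map_commutator, QuotientGroup.map_mk'_self, sup_bot_eq]
    exact absurd h5.symm (ne_of_lt h2)

end chief

section chief2

universe u

variable {Y : Type u} [Group Y] [Finite Y] {p : ℕ} [hp : Fact p.Prime]
variable (U V : Subgroup Y) [hUn : U.Normal] [hVn : V.Normal]

theorem map_mk_normal : (U.map (QuotientGroup.mk' V)).Normal :=
  hUn.map _ (QuotientGroup.mk'_surjective V)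

attribute [local instance] map_mk_normal

/-- The order of a chief factor inside a `p`-group. -/
theorem card_chief (P : Subgroup Y) (hP : IsPGroup p P) (hUP : U ≤ P) (hlt : V < U) :
    ∃ k : ℕ, k ≠ 0 ∧ Nat.card (Additive ↥(U.map (QuotientGroup.mk' V))) = p ^ k := by
  have h1 : Nat.card (Additive ↥(U.map (QuotientGroup.mk' V))) = V.relIndex U := by
    have h2 := Subgroup.relIndex_ker (QuotientGroup.mk' V) (K := U)
    rw [QuotientGroup.ker_mk'] at h2
    rw [h2]
    exact Nat.card_congr Additive.toMul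
  obtain ⟨j, hj⟩ := IsPGroup.iff_card.mp (hP.to_le hUP)
  have h3 : V.relIndex U ∣ p ^ j := hj ▸ Subgroup.relIndex_dvd_card V U
  obtain ⟨k, -, hk⟩ := (Nat.dvd_prime_pow hp.out).1 h3
  refine ⟨k, ?_, by rw [h1, hk]⟩
  intro h0
  rw [h0, pow_zero, Subgroup.relIndex_eq_one] at hk
  exact absurd hk (not_le_of_gt hlt)

/-- Irreducibility of a chief factor as a module. -/
theorem chief_irreducible
    (hmin : ∀ N : Subgroup Y, N.Normal → V ≤ N → N ≤ U → N = V ∨ N = U) (hVU : V ≤ U)
    (N : AddSubgroup (Additive ↥(U.map (QuotientGroup.mk' V))))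
    (hN : ∀ y : Y, ∀ m ∈ N,
      conjRep (U.map (QuotientGroup.mk' V)) (QuotientGroup.mk' V y) m ∈ N) :
    N = ⊥ ∨ N = ⊤ := by
  let N' : Subgroup (Y ⧸ V) :=
    { carrier := {z | ∃ a : ↥(U.map (QuotientGroup.mk' V)), Additive.ofMul a ∈ N ∧
        (a : Y ⧸ V) = z}
      one_mem' := ⟨1, N.zero_mem, rfl⟩
      mul_mem' := by
        rintro _ _ ⟨a, ha, rfl⟩ ⟨b, hb, rfl⟩
        exact ⟨a * b, N.add_mem ha hb, rfl⟩
      inv_mem' := by
        rintro _ ⟨a, ha, rfl⟩
        exact ⟨a⁻¹, N.neg_mem ha, rfl⟩ }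
  have hN'mem : ∀ z : Y ⧸ V, z ∈ N' ↔ ∃ a : ↥(U.map (QuotientGroup.mk' V)),
      Additive.ofMul a ∈ N ∧ (a : Y ⧸ V) = z := fun z => Iff.rfl
  have hN'n : N'.Normal := by
    constructor
    intro n hn z
    obtain ⟨y, rfl⟩ := QuotientGroup.mk'_surjective V z
    obtain ⟨a, ha, rfl⟩ := (hN'mem n).1 hn
    rw [hN'mem]
    refine ⟨Additive.toMul (conjRep (U.map (QuotientGroup.mk' V)) (QuotientGroup.mk' V y)
      (Additive.ofMul a)), hN y _ ha, rfl⟩
  have hN₁n : (N'.comap (QuotientGroup.mk' V)).Normal := hN'n.comap _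
  have hVN₁ : V ≤ N'.comap (QuotientGroup.mk' V) := by
    intro x hx
    rw [Subgroup.mem_comap]
    have : (QuotientGroup.mk' V) x = 1 := by
      have : x ∈ (QuotientGroup.mk' V).ker := by rw [QuotientGroup.ker_mk']; exact hx
      exact this
    rw [this]
    exact N'.one_mem
  have hN₁U : N'.comap (QuotientGroup.mk' V) ≤ U := by
    intro x hx
    rw [Subgroup.mem_comap, hN'mem] at hx
    obtain ⟨a, -, ha⟩ := hx
    obtain ⟨u, hu, hua⟩ := a.2
    have h1 : (QuotientGroup.mk' V) (u⁻¹ * x) = 1 := by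
      rw [map_mul, map_inv, hua, ha, inv_mul_cancel]
    have h2 : u⁻¹ * x ∈ V := by
      have : u⁻¹ * x ∈ (QuotientGroup.mk' V).ker := h1
      rwa [QuotientGroup.ker_mk'] at this
    have h3 : x = u * (u⁻¹ * x) := by group
    rw [h3]
    exact U.mul_mem hu (hVU h2)
  rcases hmin _ hN₁n hVN₁ hN₁U with h | h
  · left
    rw [AddSubgroup.eq_bot_iff_forall]
    intro m hm
    obtain ⟨u, hu, hua⟩ := (Additive.toMul m).2
    have h1 : u ∈ N'.comap (QuotientGroup.mk' V) := by
      rw [Subgroup.mem_comap, hN'mem]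
      exact ⟨Additive.toMul m, hm, hua.symm⟩
    rw [h] at h1
    have h2 : (QuotientGroup.mk' V) u = 1 := by
      have : u ∈ (QuotientGroup.mk' V).ker := by rw [QuotientGroup.ker_mk']; exact h1
      exact this
    have h3 : Additive.toMul m = 1 := Subtype.ext (by rw [← hua, h2]; rfl)
    exact h3
  · right
    rw [AddSubgroup.eq_top_iff']
    intro m
    obtain ⟨u, hu, hua⟩ := (Additive.toMul m).2
    have h1 : u ∈ N'.comap (QuotientGroup.mk' V) := by rw [h]; exact hu
    rw [Subgroup.mem_comap, hN'mem] at h1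
    obtain ⟨a, ha, haz⟩ := h1
    have h2 : a = Additive.toMul m := Subtype.ext (by rw [haz, hua])
    rw [h2] at ha
    exact ha

end chief2

section chief3

open IsMulCommutative

open scoped commutatorElement

universe u

variable {Y : Type u} [Group Y] [Finite Y] {p : ℕ} [hp : Fact p.Prime]
variable (U V : Subgroup Y) [hUn : U.Normal] [hVn : V.Normal]

attribute [local instance] map_mk_normal

/-- The iterated commutators contain the images of the powers of `g - 1`. -/
theorem iter_mem [IsMulCommutative ↥(U.map (QuotientGroup.mk' V))] (g : Y) :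
    ∀ (i : ℕ) (m : Additive ↥(U.map (QuotientGroup.mk' V))),
      ((Additive.toMul (((conjRep (U.map (QuotientGroup.mk' V)) (QuotientGroup.mk' V g) - 1) ^ i)
        m) : ↥(U.map (QuotientGroup.mk' V))) : Y ⧸ V) ∈
        (Cfsg.iterCommutator U (Subgroup.zpowers g) i).map (QuotientGroup.mk' V) := by
  intro i
  induction i with
  | zero =>
    intro m
    rw [pow_zero]
    exact (Additive.toMul m).2
  | succ i IH =>
    intro m
    rw [pow_succ', end_mul_apply]
    obtain ⟨u', hu', hu'm⟩ := IH m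
    obtain ⟨m', hm'⟩ : ∃ m' : Additive ↥(U.map (QuotientGroup.mk' V)),
        m' = ((conjRep (U.map (QuotientGroup.mk' V)) (QuotientGroup.mk' V g) - 1) ^ i) m :=
      ⟨_, rfl⟩
    rw [← hm'] at hu'm ⊢
    have h1 : ((Additive.toMul ((conjRep (U.map (QuotientGroup.mk' V)) (QuotientGroup.mk' V g) - 1)
        m') : ↥(U.map (QuotientGroup.mk' V))) : Y ⧸ V) =
        (QuotientGroup.mk' V g) * ((Additive.toMul m' : ↥(U.map (QuotientGroup.mk' V))) : Y ⧸ V) *
          (QuotientGroup.mk' V g)⁻¹ *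
          ((Additive.toMul m' : ↥(U.map (QuotientGroup.mk' V))) : Y ⧸ V)⁻¹ := by
      have h2 : (conjRep (U.map (QuotientGroup.mk' V)) (QuotientGroup.mk' V g) - 1) m' =
          conjRep (U.map (QuotientGroup.mk' V)) (QuotientGroup.mk' V g) m' - m' := rfl
      rw [h2, toMul_sub, Subgroup.coe_div, conjRep_apply, div_eq_mul_inv]
    rw [h1, ← hu'm, ← map_mul, ← map_inv, ← map_mul, ← map_inv, ← map_mul]
    refine Subgroup.mem_map_of_mem _ ?_
    show g * u' * g⁻¹ * u'⁻¹ ∈ ⁅Cfsg.iterCommutator U (Subgroup.zpowers g) i, Subgroup.zpowers g⁆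
    rw [Subgroup.commutator_comm]
    exact Subgroup.commutator_mem_commutator (Subgroup.mem_zpowers g) hu'

/-- If `g` acts trivially on the chief factor, then `[U, ⟨g⟩] ≤ V`. -/
theorem commutator_le_of_conjRep_eq_one (g : Y)
    (h : ∀ m : Additive ↥(U.map (QuotientGroup.mk' V)),
      conjRep (U.map (QuotientGroup.mk' V)) (QuotientGroup.mk' V g) m = m) :
    ⁅U, Subgroup.zpowers g⁆ ≤ V := by
  -- the kernel
  have hker : ∀ x ∈ Subgroup.zpowers g, ∀ u ∈ U, x * u * x⁻¹ * u⁻¹ ∈ V := by
    let C : Subgroup Y :=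
      { carrier := {x | ∀ u ∈ U, x * u * x⁻¹ * u⁻¹ ∈ V}
        one_mem' := fun u _ => by simp [V.one_mem]
        mul_mem' := fun {a b} ha hb u hu => by
          have h1 : b * u * b⁻¹ ∈ U := hUn.conj_mem u hu b
          have h2 := ha _ h1
          have h3 := hb u hu
          have h4 : a * b * u * (a * b)⁻¹ * u⁻¹ =
              (a * (b * u * b⁻¹) * a⁻¹ * (b * u * b⁻¹)⁻¹) * (b * u * b⁻¹ * u⁻¹) := by group
          rw [h4]
          exact V.mul_mem h2 h3
        inv_mem' := fun {a} ha u hu => by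
          have h1 : a⁻¹ * u * a ∈ U := by
            have := hUn.conj_mem u hu a⁻¹
            rwa [inv_inv] at this
          have h2 := ha _ h1
          have h4 : a⁻¹ * u * a⁻¹⁻¹ * u⁻¹ =
              (a * (a⁻¹ * u * a) * a⁻¹ * (a⁻¹ * u * a)⁻¹)⁻¹ := by group
          rw [h4]
          exact V.inv_mem h2 }
    have hgC : g ∈ C := by
      intro u hu
      have h1 := h (Additive.ofMul ⟨QuotientGroup.mk' V u, Subgroup.mem_map_of_mem _ hu⟩)
      have h2 := congrArg (fun m : Additive ↥(U.map (QuotientGroup.mk' V)) =>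
        ((Additive.toMul m : ↥(U.map (QuotientGroup.mk' V))) : Y ⧸ V)) h1
      simp only [conjRep_apply] at h2
      have h3 : (QuotientGroup.mk' V) (g * u * g⁻¹ * u⁻¹) = 1 := by
        rw [map_mul, map_mul, map_mul, map_inv, map_inv]
        rw [show (QuotientGroup.mk' V) g * (QuotientGroup.mk' V) u * ((QuotientGroup.mk' V) g)⁻¹ =
          (QuotientGroup.mk' V) u from h2]
        exact mul_inv_cancel _
      have : g * u * g⁻¹ * u⁻¹ ∈ (QuotientGroup.mk' V).ker := h3
      rwa [QuotientGroup.ker_mk'] at this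
    intro x hx
    exact (Subgroup.zpowers_le.2 hgC) hx
  rw [Subgroup.commutator_le]
  intro u hu x hx
  have h1 := hker x hx u hu
  have h2 : ⁅u, x⁆ = (x * u * x⁻¹ * u⁻¹)⁻¹ := by
    rw [commutatorElement_def]; group
  rw [h2]
  exact V.inv_mem h1

/-- The abelian case of Hall–Higman's Theorem B for a chief factor `U/V` inside the normal
`p`-subgroup `P` of `Y`, where `Y/P = T̄ K̄` with `K̄` a normal abelian `p'`-subgroup: an element
`g` of `T` with `[U, g; p-1] ≤ V` centralizes `U/V`. -/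
theorem hh_abelian_chief (P : Subgroup Y) [hPn : P.Normal] (hP : IsPGroup p P)
    (Kb : Subgroup (Y ⧸ P)) [hKn : Kb.Normal] (hKab : ∀ a ∈ Kb, ∀ b ∈ Kb, a * b = b * a)
    (hKcop : (Nat.card Kb).Coprime p)
    (Tb : Subgroup (Y ⧸ P)) (hTb : IsPGroup p Tb)
    (hTK : ∀ z : Y ⧸ P, ∃ t ∈ Tb, ∃ c ∈ Kb, z = t * c)
    (g : Y) (hg : (QuotientGroup.mk' P g) ∈ Tb)
    (U V : Subgroup Y) (hUV : Cfsg.IsChiefFactor U V) (hUP : U ≤ P)
    (h : Cfsg.iterCommutator U (Subgroup.zpowers g) (p - 1) ≤ V) :
    ⁅U, Subgroup.zpowers g⁆ ≤ V := by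
  have hcomm := chief_commutator_le P hP U V hUV hUP
  obtain ⟨hlt, hUn, hVn, hmin⟩ := hUV
  have hAc : IsMulCommutative ↥(U.map (QuotientGroup.mk' V)) := by
    refine ⟨⟨?_⟩⟩
    rintro ⟨a, u, hu, rfl⟩ ⟨b, w, hw, rfl⟩
    apply Subtype.ext
    show (QuotientGroup.mk' V) u * (QuotientGroup.mk' V) w =
      (QuotientGroup.mk' V) w * (QuotientGroup.mk' V) u
    rw [← map_mul, ← map_mul]
    have h1 : (w * u)⁻¹ * (u * w) ∈ V := by
      apply hcomm
      have h2 : (w * u)⁻¹ * (u * w) = ⁅u⁻¹, w⁻¹⁆ := by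
        rw [commutatorElement_def]; group
      rw [h2]
      exact Subgroup.commutator_mem_commutator (U.inv_mem hu) (U.inv_mem hw)
    exact ((QuotientGroup.eq).2 h1).symm
  obtain ⟨k, hk0, hk⟩ := card_chief U V P hP hUP hlt
  have hM : p ∣ Nat.card (Additive ↥(U.map (QuotientGroup.mk' V))) := by
    rw [hk]; exact dvd_pow_self p hk0
  have hirr : ∀ N : AddSubgroup (Additive ↥(U.map (QuotientGroup.mk' V))),
      (∀ y : Y, ∀ m ∈ N, ((conjRep (U.map (QuotientGroup.mk' V))).comp (QuotientGroup.mk' V)) y m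
        ∈ N) → N = ⊥ ∨ N = ⊤ :=
    fun N hN => chief_irreducible U V hmin hlt.le N hN
  have hPtriv : ∀ x ∈ P,
      ((conjRep (U.map (QuotientGroup.mk' V))).comp (QuotientGroup.mk' V)) x = 1 :=
    rep_trivial_of_pgroup _ hM hirr P hP
      (fun z d hd => ⟨z⁻¹ * d * z, by
        have := hPn.conj_mem d hd z⁻¹
        rwa [inv_inv] at this, rfl⟩)
  obtain ⟨ρb, hρb⟩ : ∃ ρb : (Y ⧸ P) →* AddMonoid.End (Additive ↥(U.map (QuotientGroup.mk' V))),
      ∀ y : Y, ρb (QuotientGroup.mk' P y) =
        (conjRep (U.map (QuotientGroup.mk' V))) (QuotientGroup.mk' V y) :=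
    ⟨QuotientGroup.lift P ((conjRep (U.map (QuotientGroup.mk' V))).comp (QuotientGroup.mk' V))
      (fun x hx => MonoidHom.mem_ker.2 (hPtriv x hx)), fun y => rfl⟩
  have hirr' : ∀ N : AddSubgroup (Additive ↥(U.map (QuotientGroup.mk' V))),
      (∀ z : Y ⧸ P, ∀ m ∈ N, ρb z m ∈ N) → N = ⊥ ∨ N = ⊤ := by
    intro N hN
    apply hirr N
    intro y m hm
    have := hN (QuotientGroup.mk' P y) m hm
    rw [hρb] at this
    exact this
  have hnil : (ρb (QuotientGroup.mk' P g) - 1) ^ (p - 1) = 0 := by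
    rw [hρb]
    refine AddMonoidHom.ext fun m => ?_
    have h1 := iter_mem U V g (p - 1) m
    have h2 : (Cfsg.iterCommutator U (Subgroup.zpowers g) (p - 1)).map (QuotientGroup.mk' V) ≤ ⊥ := by
      rw [← QuotientGroup.map_mk'_self V]
      exact Subgroup.map_mono h
    have h3 := h2 h1
    rw [Subgroup.mem_bot] at h3
    have h4 : Additive.toMul (((conjRep (U.map (QuotientGroup.mk' V)) (QuotientGroup.mk' V g) - 1) ^
        (p - 1)) m) = 1 := Subtype.ext h3
    exact h4
  have hfin := hh_abelian_abstract ρb k hk hk0 hirr' Kb hKab hKcop Tb hTb hTK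
    (QuotientGroup.mk' P g) hg hnil
  rw [hρb] at hfin
  apply commutator_le_of_conjRep_eq_one U V g
  intro m
  rw [hfin]
  rfl

end chief3

end Cfsg.Agent.helper10
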