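import Mathlib
import Cfsg.Agent.Lib_helper10_HH3
import Cfsg.Agent.Lib_helper10_Thompson3

set_option autoImplicit false

/-!
# Groups with a maximal Sylow subgroup and a normal complement
-/

namespace Cfsg.Agent.helper10

section coatomSylow

variable {Z : Type*} [Group Z] [Finite Z] {p : ℕ} [hp : Fact p.Prime]

local notation:max K "^[" g "]" => Subgroup.map (MulEquiv.toMonoidHom (MulAut.conj g)) K

/-- A `T`-invariant subgroup of the normal `p'`-subgroup `K` is trivial or all of `K`, when the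
Sylow subgroup `T` is maximal. -/
theorem eq_bot_or_le_of_coatom (T : Sylow p Z) (hT : IsCoatom (T : Subgroup Z))
    (K : Subgroup Z) (hKcop : (Nat.card K).Coprime p) (K₁ : Subgroup Z) (hK₁ : K₁ ≤ K)
    (hTN : (T : Subgroup Z) ≤ Subgroup.normalizer (K₁ : Set Z)) : K₁ = ⊥ ∨ K ≤ K₁ := by
  by_cases h : (T : Subgroup Z) ⊔ K₁ = (T : Subgroup Z)
  · left
    rw [Subgroup.eq_bot_iff_forall]
    intro x hx
    have hxT : x ∈ (T : Subgroup Z) := h ▸ (Subgroup.mem_sup_right hx)
    exact eq_one_of_mem_of_coprime (T : Subgroup Z) K T.isPGroup' hKcop x hxT (hK₁ hx)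
  · right
    have hlt : (T : Subgroup Z) < (T : Subgroup Z) ⊔ K₁ := lt_of_le_of_ne le_sup_left (Ne.symm h)
    have htop := hT.2 _ hlt
    intro x hx
    have hx' : x ∈ (((T : Subgroup Z) ⊔ K₁ : Subgroup Z) : Set Z) := by
      rw [htop]; exact Set.mem_univ x
    rw [Subgroup.coe_mul_of_left_le_normalizer_right _ _ hTN] at hx'
    obtain ⟨t, ht, q, hq, rfl⟩ := hx'
    change t * q ∈ K at hx
    change t * q ∈ K₁
    have htK : t ∈ K := by
      have h1 : t = (t * q) * q⁻¹ := by group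
      rw [h1]
      exact K.mul_mem hx (K.inv_mem (hK₁ hq))
    have ht1 := eq_one_of_mem_of_coprime (T : Subgroup Z) K T.isPGroup' hKcop t ht htK
    rw [ht1, one_mul]
    exact hq

open scoped commutatorElement in
/-- If a Sylow `p`-subgroup `T` is a maximal subgroup and `Z` has a normal `p`-complement `K`,
then `K` is abelian and `Z = T K`. -/
theorem coatom_sylow_structure (T : Sylow p Z) (hT : IsCoatom (T : Subgroup Z))
    (h : Cfsg.HasNormalPComplement p Z) :
    ∃ K : Subgroup Z, K.Normal ∧ (Nat.card K).Coprime p ∧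
      (∀ a ∈ K, ∀ b ∈ K, a * b = b * a) ∧
      ∀ z : Z, ∃ t ∈ (T : Subgroup Z), ∃ c ∈ K, z = t * c := by
  obtain ⟨Sb, K, hKn, hSK⟩ := h
  have hKcop : (Nat.card K).Coprime p := card_coprime_of_isComplement' Sb K hSK
  refine ⟨K, hKn, hKcop, ?_, ?_⟩
  · by_cases hK1 : K = ⊥
    · intro a ha b hb
      rw [hK1, Subgroup.mem_bot] at ha hb
      rw [ha, hb]
    have hcard : Nat.card K ≠ 1 := by
      rw [Ne, Subgroup.card_eq_one]; exact hK1
    obtain ⟨q, hq, hqK⟩ := Nat.exists_prime_and_dvd hcard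
    haveI : Fact q.Prime := ⟨hq⟩
    obtain ⟨Q₀⟩ : Nonempty (Sylow q K) := inferInstance
    have hfr := Sylow.normalizer_sup_eq_top Q₀
    obtain ⟨Q, hQ⟩ : ∃ Q : Subgroup Z, Q = (Q₀ : Subgroup K).map K.subtype := ⟨_, rfl⟩
    rw [← hQ] at hfr
    have hQq : IsPGroup q Q := hQ ▸ Q₀.isPGroup'.map _
    have hQK : Q ≤ K := hQ ▸ Subgroup.map_subtype_le _
    have hQcard : Nat.card Q ≠ 1 := by
      rw [hQ, Subgroup.card_map_of_injective (Subgroup.subtype_injective _),
        Sylow.card_eq_multiplicity]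
      have hpos := hq.factorization_pos_of_dvd Nat.card_pos.ne' hqK
      have := Nat.one_lt_pow hpos.ne' hq.one_lt
      omega
    have hNidx : ¬ p ∣ (Subgroup.normalizer (Q : Set Z)).index := by
      have := not_dvd_relIndex_sup_coprime (p := p) (Subgroup.normalizer (Q : Set Z)) K hKcop
      rwa [hfr, Subgroup.relIndex_top_right] at this
    obtain ⟨T₁⟩ : Nonempty (Sylow p ↥(Subgroup.normalizer (Q : Set Z))) := inferInstance
    have hT₁idx : ¬ p ∣ ((T₁ : Subgroup ↥(Subgroup.normalizer (Q : Set Z))).map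
        (Subgroup.normalizer (Q : Set Z)).subtype).relIndex ⊤ := by
      rw [Subgroup.relIndex_top_right, Subgroup.index_map_subtype]
      exact Nat.Prime.not_dvd_mul hp.out T₁.not_dvd_index hNidx
    obtain ⟨n, -, hn⟩ := pgroup_conj_into_relSylow ⊤ (T : Subgroup Z) _ le_top T.isPGroup'
      (T₁.isPGroup'.map _) hT₁idx
    have h1 : (T : Subgroup Z)^[n] ≤ Subgroup.normalizer (Q : Set Z) :=
      hn.trans (Subgroup.map_subtype_le _)
    have h2 : (T : Subgroup Z) ≤ Subgroup.normalizer ((Q^[n⁻¹] : Subgroup Z) : Set Z) := by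
      rw [normalizer_map_conj, ← map_conj_le_iff]; exact h1
    have hQ'K : Q^[n⁻¹] ≤ K := by
      rintro _ ⟨y, hy, rfl⟩
      exact hKn.conj_mem y (hQK hy) n⁻¹
    have hQ'ne : Q^[n⁻¹] ≠ ⊥ := by
      intro hbot
      apply hQcard
      rw [← card_map_conj Q n⁻¹, hbot, Subgroup.card_bot]
    have hKq : IsPGroup q ↥K := by
      rcases eq_bot_or_le_of_coatom T hT K hKcop _ hQ'K h2 with h3 | h3
      · exact absurd h3 hQ'ne
      · exact (hQq.map _).to_le h3
    have hnil : Group.IsNilpotent ↥K := hKq.isNilpotent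
    have hnt : Nontrivial ↥K := (Subgroup.nontrivial_iff_ne_bot K).2 hK1
    have h3 := Group.IsSolvable.commutator_lt_top_of_nontrivial ↥K
    have h4 : ⁅K, K⁆ < K := by
      rw [← Subgroup.map_subtype_commutator]
      have h5 := (Subgroup.map_lt_map_iff_of_injective (Subgroup.subtype_injective K)).2 h3
      have h6 : (⊤ : Subgroup ↥K).map K.subtype = K := by
        rw [← MonoidHom.range_eq_map, Subgroup.range_subtype]
      rw [h6] at h5
      exact h5
    have hcn : (⁅K, K⁆).Normal := inferInstance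
    rcases eq_bot_or_le_of_coatom T hT K hKcop ⁅K, K⁆ h4.le
      (by rw [Subgroup.normalizer_eq_top]; exact le_top) with h5 | h5
    · intro a ha b hb
      have h6 : ⁅a, b⁆ ∈ ⁅K, K⁆ := Subgroup.commutator_mem_commutator ha hb
      rw [h5, Subgroup.mem_bot, commutatorElement_def] at h6
      calc a * b = (a * b * a⁻¹ * b⁻¹) * (b * a) := by group
        _ = b * a := by rw [h6, one_mul]
    · exact absurd h5 (not_le_of_gt h4)
  · have hidx : ((T : Subgroup Z) ⊔ K).index = 1 := by
      have h1 : ((T : Subgroup Z) ⊔ K).index ∣ (T : Subgroup Z).index :=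
        Subgroup.index_dvd_of_le le_sup_left
      have h2 : ((T : Subgroup Z) ⊔ K).index ∣ K.index := Subgroup.index_dvd_of_le le_sup_right
      have h3 : K.index = Nat.card (Sb : Subgroup Z) := hSK.symm.index_eq_card
      obtain ⟨j, hj⟩ := IsPGroup.iff_card.mp Sb.isPGroup'
      rw [h3, hj] at h2
      obtain ⟨i, -, hi⟩ := (Nat.dvd_prime_pow hp.out).1 h2
      cases i with
      | zero => rw [hi, pow_zero]
      | succ i =>
        exfalso
        apply T.not_dvd_index
        exact dvd_trans (hi ▸ dvd_pow_self p (Nat.succ_ne_zero i)) h1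
    have htop : (T : Subgroup Z) ⊔ K = ⊤ := Subgroup.index_eq_one.1 hidx
    intro z
    have hz : z ∈ (((T : Subgroup Z) ⊔ K : Subgroup Z) : Set Z) := by
      rw [htop]; exact Set.mem_univ z
    rw [Subgroup.mul_normal] at hz
    obtain ⟨t, ht, c, hc, rfl⟩ := hz
    exact ⟨t, ht, c, hc, rfl⟩

end coatomSylow

section final

universe u

variable {Y : Type u} [Group Y] [Finite Y] {p : ℕ} [hp : Fact p.Prime]

/-- The image of a maximal Sylow subgroup in the quotient by a normal subgroup it contains is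
maximal. -/
theorem isCoatom_map_mk (P : Subgroup Y) [P.Normal] (T : Subgroup Y) (hPT : P ≤ T)
    (hT : IsCoatom T) : IsCoatom (T.map (QuotientGroup.mk' P)) := by
  have hsurj : Function.Surjective (QuotientGroup.mk' P) := QuotientGroup.mk'_surjective P
  have hcm : (T.map (QuotientGroup.mk' P)).comap (QuotientGroup.mk' P) = T := by
    rw [Subgroup.comap_map_eq, QuotientGroup.ker_mk', sup_eq_left.2 hPT]
  constructor
  · intro htop
    apply hT.1
    rw [← hcm, htop, Subgroup.comap_top]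
  · intro b hb
    have h1 : T < b.comap (QuotientGroup.mk' P) := by
      rw [← hcm]
      exact (Subgroup.comap_lt_comap_of_surjective hsurj).2 hb
    have h2 := hT.2 _ h1
    rw [← Subgroup.map_comap_eq_self_of_surjective hsurj b, h2, ← MonoidHom.range_eq_map,
      MonoidHom.range_eq_top.2 hsurj]

/-- The Hall–Higman step in Thompson's criterion: in a group `Y` such that `Y/O_p(Y)` has a
normal `p`-complement and a Sylow `p`-subgroup `T` is maximal, an element `g` of `T` with
`[U, g; p - 1] ≤ V` on a chief factor `U/V` inside `O_p(Y)` centralizes `U/V`. -/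
theorem commutator_le_of_iter_le
    (hnpc : Cfsg.HasNormalPComplement p (Y ⧸ Cfsg.pCore p Y))
    (T : Sylow p Y) (hT : IsCoatom (T : Subgroup Y)) (g : Y) (hgT : g ∈ (T : Subgroup Y))
    (U V : Subgroup Y) (hUV : Cfsg.IsChiefFactor U V) (hUP : U ≤ Cfsg.pCore p Y)
    (h1 : Cfsg.iterCommutator U (Subgroup.zpowers g) (p - 1) ≤ V) :
    ⁅U, Subgroup.zpowers g⁆ ≤ V := by
  have hPT : Cfsg.pCore p Y ≤ (T : Subgroup Y) := Cfsg.Agent.helper1.pCore_le_sylow T
  have hPp : IsPGroup p (Cfsg.pCore p Y) := Cfsg.Agent.helper1.pCore_isPGroup p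
  have hsurj : Function.Surjective (QuotientGroup.mk' (Cfsg.pCore p Y)) :=
    QuotientGroup.mk'_surjective _
  obtain ⟨Tb, hTb⟩ : ∃ Tb : Sylow p (Y ⧸ Cfsg.pCore p Y),
      (Tb : Subgroup (Y ⧸ Cfsg.pCore p Y)) =
        (T : Subgroup Y).map (QuotientGroup.mk' (Cfsg.pCore p Y)) :=
    ⟨T.mapSurjective hsurj, rfl⟩
  have hTbc : IsCoatom (Tb : Subgroup (Y ⧸ Cfsg.pCore p Y)) := by
    rw [hTb]; exact isCoatom_map_mk _ _ hPT hT
  obtain ⟨Kb, hKn, hKcop, hKab, hTK⟩ := coatom_sylow_structure Tb hTbc hnpc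
  have hgTb : (QuotientGroup.mk' (Cfsg.pCore p Y)) g ∈ (Tb : Subgroup (Y ⧸ Cfsg.pCore p Y)) := by
    rw [hTb]; exact Subgroup.mem_map_of_mem _ hgT
  exact hh_abelian_chief (Cfsg.pCore p Y) hPp Kb hKab hKcop (Tb : Subgroup (Y ⧸ Cfsg.pCore p Y))
    Tb.isPGroup' hTK g hgTb U V hUV hUP h1

end final

end Cfsg.Agent.helper10
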