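import Cfsg.Agent.Lib_helper14_Amalgam
import Mathlib.GroupTheory.Commutator.Basic

set_option autoImplicit false
open Cfsg
open scoped commutatorElement

namespace Cfsg.Agent.helper14

/-- In a connected graph, a vertex at distance `n+1` has a neighbour at distance `≤ n`. -/
theorem exists_adj_dist_le {V : Type*} {G : SimpleGraph V} (hG : G.Connected) {u v : V} {n : ℕ}
    (h : G.dist u v = n + 1) : ∃ w, G.Adj u w ∧ G.dist w v ≤ n := by
  obtain ⟨p, hp⟩ := hG.exists_walk_length_eq_dist u v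
  rw [h] at hp
  cases p with
  | nil => simp at hp
  | cons hadj q =>
    refine ⟨_, hadj, ?_⟩
    rw [SimpleGraph.Walk.length_cons] at hp
    have : q.length = n := Nat.succ_injective hp
    rw [← this]
    exact SimpleGraph.dist_le q

theorem omegaOne_map_conj_le {X : Type*} [Group X] (p : ℕ) (T : Subgroup X) (g : X) :
    (Cfsg.omegaOne p (T ⊓ Subgroup.centralizer (T : Set X))).map (MulAut.conj g).toMonoidHom ≤
      Cfsg.omegaOne p (T.map (MulAut.conj g).toMonoidHom ⊓
        Subgroup.centralizer ((T.map (MulAut.conj g).toMonoidHom : Subgroup X) : Set X)) := by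
  unfold Cfsg.omegaOne
  rw [MonoidHom.map_closure]
  apply Subgroup.closure_mono
  rintro _ ⟨x, ⟨⟨hxT, hxC⟩, hxp⟩, rfl⟩
  have hxT' : x ∈ T := hxT
  have hxC' : x ∈ Subgroup.centralizer (T : Set X) := hxC
  refine ⟨⟨Subgroup.mem_map_of_mem _ hxT', ?_⟩, ?_⟩
  · show (MulAut.conj g).toMonoidHom x ∈ Subgroup.centralizer _
    rw [Subgroup.mem_centralizer_iff]
    rintro _ ⟨t, ht, rfl⟩
    have := Subgroup.mem_centralizer_iff.mp hxC' t ht
    simp only [MulEquiv.toMonoidHom_eq_coe, MonoidHom.coe_coe, MulAut.conj_apply]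
    calc g * t * g⁻¹ * (g * x * g⁻¹) = g * (t * x) * g⁻¹ := by group
      _ = g * (x * t) * g⁻¹ := by rw [this]
      _ = g * x * g⁻¹ * (g * t * g⁻¹) := by group
  · show ((MulAut.conj g).toMonoidHom x) ^ p = 1
    rw [← map_pow, hxp, map_one]

theorem sylowCenterClosure_le {X : Type*} [Group X] (p : ℕ) (H : Subgroup X) :
    Cfsg.sylowCenterClosure p H ≤ H := by
  unfold Cfsg.sylowCenterClosure
  apply iSup_le
  intro S
  unfold Cfsg.omegaOne
  rw [Subgroup.closure_le]
  rintro x ⟨⟨hx, _⟩, _⟩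
  exact Subgroup.map_subtype_le _ hx

theorem sylowCenterClosure_map_conj_le {X : Type*} [Group X] (p : ℕ) (H : Subgroup X) (g : X) (hg : g ∈ H) :
    (Cfsg.sylowCenterClosure p H).map (MulAut.conj g).toMonoidHom ≤ Cfsg.sylowCenterClosure p H := by
  unfold Cfsg.sylowCenterClosure
  rw [Subgroup.map_iSup]
  apply iSup_le
  intro S
  refine (omegaOne_map_conj_le p _ g).trans ?_
  have key : ((S : Subgroup H).map H.subtype).map (MulAut.conj g).toMonoidHom =
      (((⟨g, hg⟩ : H) • S : Sylow p H) : Subgroup H).map H.subtype := by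
    ext x
    constructor
    · rintro ⟨_, ⟨s, hs, rfl⟩, rfl⟩
      refine ⟨(⟨g, hg⟩ : H) * s * (⟨g, hg⟩ : H)⁻¹, ?_, ?_⟩
      · show _ ∈ (((⟨g, hg⟩ : H) • S : Sylow p H) : Subgroup H)
        rw [Sylow.coe_subgroup_smul, Subgroup.mem_smul_pointwise_iff_exists]
        exact ⟨s, hs, rfl⟩
      · simp
    · rintro ⟨y, hy, rfl⟩
      have hy' : y ∈ (((⟨g, hg⟩ : H) • S : Sylow p H) : Subgroup H) := hy
      rw [Sylow.coe_subgroup_smul, Subgroup.mem_smul_pointwise_iff_exists] at hy'
      obtain ⟨s, hs, rfl⟩ := hy'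
      refine ⟨(s : X), Subgroup.mem_map_of_mem _ hs, ?_⟩
      simp [MulAut.smul_def]
  rw [key]
  exact le_iSup (fun S : Sylow p H => Cfsg.omegaOne p (((S : Subgroup H).map H.subtype) ⊓
      Subgroup.centralizer (((S : Subgroup H).map H.subtype : Subgroup X) : Set X))) ((⟨g, hg⟩ : H) • S)

theorem le_normalizer_sylowCenterClosure {X : Type*} [Group X] (p : ℕ) (H : Subgroup X) :
    H ≤ Subgroup.normalizer ((Cfsg.sylowCenterClosure p H : Subgroup X) : Set X) := by
  intro g hg
  rw [Subgroup.mem_normalizer_iff]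
  intro z
  constructor
  · intro hz
    exact sylowCenterClosure_map_conj_le p H g hg (Subgroup.mem_map_of_mem _ hz)
  · intro hz
    have := sylowCenterClosure_map_conj_le p H g⁻¹ (H.inv_mem hg) (Subgroup.mem_map_of_mem _ hz)
    simpa [mul_assoc] using this

theorem commutator_le_left_of_le_normalizer {X : Type*} [Group X] (A B : Subgroup X)
    (h : B ≤ Subgroup.normalizer (A : Set X)) : ⁅A, B⁆ ≤ A := by
  rw [Subgroup.commutator_le]
  intro a ha b hb
  have : b * a⁻¹ * b⁻¹ ∈ A := (Subgroup.mem_normalizer_iff.mp (h hb) a⁻¹).mp (A.inv_mem ha)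
  have h2 : ⁅a, b⁆ = a * (b * a⁻¹ * b⁻¹) := by rw [commutatorElement_def]; group
  rw [h2]
  exact A.mul_mem ha this

theorem commutator_le_right_of_le_normalizer {X : Type*} [Group X] (A B : Subgroup X)
    (h : A ≤ Subgroup.normalizer (B : Set X)) : ⁅A, B⁆ ≤ B := by
  rw [Subgroup.commutator_comm]
  exact commutator_le_left_of_le_normalizer B A h

end Cfsg.Agent.helper14
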