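import Cfsg.Agent.Lib_helper14_Amalgam3

set_option autoImplicit false
open Cfsg
open scoped commutatorElement

namespace Cfsg.Agent.helper14

theorem pCore_map_equiv_le {A B : Type*} [Group A] [Group B] (p : ℕ) (e : A ≃* B) :
    (Cfsg.pCore p A).map e.toMonoidHom ≤ Cfsg.pCore p B := by
  unfold Cfsg.pCore
  rw [Subgroup.map_le_iff_le_comap, sSup_le_iff]
  rintro N ⟨hNn, hNp⟩
  rw [← Subgroup.map_le_iff_le_comap]
  apply le_sSup
  exact ⟨hNn.map e.toMonoidHom e.surjective, hNp.map e.toMonoidHom⟩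

theorem pCore_map_equiv {A B : Type*} [Group A] [Group B] (p : ℕ) (e : A ≃* B) :
    (Cfsg.pCore p A).map e.toMonoidHom = Cfsg.pCore p B := by
  apply le_antisymm (pCore_map_equiv_le p e)
  have h := pCore_map_equiv_le p e.symm
  intro b hb
  refine ⟨e.symm b, h (Subgroup.mem_map_of_mem _ hb), ?_⟩
  simp

theorem charp_of_equiv {A B : Type*} [Group A] [Group B] (p : ℕ) (e : A ≃* B)
    (h : Subgroup.centralizer (Cfsg.pCore p A : Set A) ≤ Cfsg.pCore p A) :
    Subgroup.centralizer (Cfsg.pCore p B : Set B) ≤ Cfsg.pCore p B := by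
  intro b hb
  have h1 : e.symm b ∈ Subgroup.centralizer (Cfsg.pCore p A : Set A) := by
    rw [Subgroup.mem_centralizer_iff]
    intro a ha
    have ha' : e a ∈ Cfsg.pCore p B := by
      rw [← pCore_map_equiv p e]
      exact Subgroup.mem_map_of_mem _ ha
    have := Subgroup.mem_centralizer_iff.mp hb (e a) ha'
    apply e.injective
    simp only [map_mul, MulEquiv.apply_symm_apply]
    exact this
  have h2 := h h1
  rw [← pCore_map_equiv p e]
  exact ⟨e.symm b, h2, by simp⟩

theorem charp_stabilizer {X : Type*} [Group X] {p : ℕ} (M₁ M₂ : Subgroup X)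
    (h : Cfsg.IsCharPAmalgamPair p M₁ M₂) (α : Cfsg.CosetVertex M₁ M₂) :
    Subgroup.centralizer (Cfsg.pCore p ↥(MulAction.stabilizer X α) : Set ↥(MulAction.stabilizer X α)) ≤
      Cfsg.pCore p ↥(MulAction.stabilizer X α) := by
  obtain ⟨_, _, _, _, _, _, hc1, hc2⟩ := h
  have gen : ∀ (M H : Subgroup X) (z : X), H = M.map (MulAut.conj z).toMonoidHom →
      Subgroup.centralizer (Cfsg.pCore p M : Set M) ≤ Cfsg.pCore p M →
      Subgroup.centralizer (Cfsg.pCore p H : Set H) ≤ Cfsg.pCore p H := by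
    intro M H z hH hM
    subst hH
    exact charp_of_equiv p (M.equivMapOfInjective (MulAut.conj z).toMonoidHom (MulAut.conj z).injective) hM
  rcases α with a | a
  · induction a using QuotientGroup.induction_on with
    | H z => exact gen M₁ _ z (stab_inl M₁ M₂ z) hc1
  · induction a using QuotientGroup.induction_on with
    | H z => exact gen M₂ _ z (stab_inr M₁ M₂ z) hc2

/-- `O_p(H)` (in the ambient group) is a `p`-group. -/
theorem pCoreOf_isPGroup {X : Type*} [Group X] {p : ℕ} [Fact p.Prime] (H : Subgroup X) :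
    IsPGroup p (Cfsg.pCoreOf p H) := by
  unfold Cfsg.pCoreOf
  apply IsPGroup.map
  unfold Cfsg.pCore
  exact Sylow.sSup_of_normal _ (fun N hN => hN.2) (fun N hN => hN.1)

theorem le_pElementClosure_of_isPGroup {X : Type*} [Group X] {p : ℕ} [hp : Fact p.Prime]
    (H K : Subgroup X) (hKH : K ≤ H)
    (hK : IsPGroup p K) : K ≤ Cfsg.pElementClosure p H := by
  intro x hx
  unfold Cfsg.pElementClosure
  apply Subgroup.subset_closure
  refine ⟨hKH hx, ?_⟩
  obtain ⟨k, hk⟩ := hK ⟨x, hx⟩
  have hk' : x ^ p ^ k = 1 := by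
    have := congrArg Subtype.val hk
    simpa using this
  obtain ⟨j, _, hj⟩ := (Nat.dvd_prime_pow hp.out).mp (orderOf_dvd_of_pow_eq_one hk')
  exact ⟨j, hj⟩

end Cfsg.Agent.helper14
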