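import Cfsg.Agent.Lib_helper14_Amalgam4

set_option autoImplicit false
open Cfsg
open scoped commutatorElement Pointwise

namespace Cfsg.Agent.helper14

theorem frattini_factor {G : Type*} [Group G] [Finite G] {p : ℕ} [Fact p.Prime] (N : Subgroup G) [N.Normal]
    (P : Sylow p G) (hP : (P : Subgroup G) ≤ N) (g : G) :
    ∃ l ∈ N, ∃ n ∈ Subgroup.normalizer ((P : Subgroup G) : Set G), g = l * n := by
  have h : Subgroup.normalizer ((P : Subgroup G) : Set G) ⊔ N = ⊤ := Sylow.normalizer_sup_eq_top' P hP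
  have hg : g ∈ ((N ⊔ Subgroup.normalizer ((P : Subgroup G) : Set G) : Subgroup G) : Set G) := by
    rw [sup_comm, h]; trivial
  rw [Subgroup.normal_mul, Set.mem_mul] at hg
  obtain ⟨l, hl, n, hn, rfl⟩ := hg
  exact ⟨l, hl, n, hn, rfl⟩

theorem le_normalizer_of_map_conj_le {X : Type*} [Group X] (H U : Subgroup X)
    (h : ∀ g ∈ H, U.map (MulAut.conj g).toMonoidHom ≤ U) : H ≤ Subgroup.normalizer (U : Set X) := by
  intro g hg
  rw [Subgroup.mem_normalizer_iff]
  intro z
  constructor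
  · intro hz
    exact h g hg (Subgroup.mem_map_of_mem _ hz)
  · intro hz
    have := h g⁻¹ (H.inv_mem hg) (Subgroup.mem_map_of_mem _ hz)
    simpa [mul_assoc] using this

theorem pElementClosure_le {X : Type*} [Group X] (p : ℕ) (H : Subgroup X) :
    Cfsg.pElementClosure p H ≤ H := by
  unfold Cfsg.pElementClosure
  rw [Subgroup.closure_le]
  intro x hx
  exact hx.1

theorem pElementClosure_map_conj_le {X : Type*} [Group X] (p : ℕ) (H : Subgroup X) (g : X) (hg : g ∈ H) :
    (Cfsg.pElementClosure p H).map (MulAut.conj g).toMonoidHom ≤ Cfsg.pElementClosure p H := by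
  unfold Cfsg.pElementClosure
  rw [MonoidHom.map_closure]
  apply Subgroup.closure_mono
  rintro _ ⟨x, ⟨hxH, k, hk⟩, rfl⟩
  refine ⟨?_, k, ?_⟩
  · simp only [MulEquiv.toMonoidHom_eq_coe, MonoidHom.coe_coe, MulAut.conj_apply]
    exact H.mul_mem (H.mul_mem hg hxH) (H.inv_mem hg)
  · rw [← hk]
    simp only [MulEquiv.toMonoidHom_eq_coe, MonoidHom.coe_coe]
    exact (MulAut.conj g).orderOf_eq x

theorem le_normalizer_pElementClosure {X : Type*} [Group X] (p : ℕ) (H : Subgroup X) :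
    H ≤ Subgroup.normalizer ((Cfsg.pElementClosure p H : Subgroup X) : Set X) :=
  le_normalizer_of_map_conj_le H _ (pElementClosure_map_conj_le p H)

/-- Frattini factorisation inside a subgroup `H` of `X` with respect to `O^{p'}(H)`. -/
theorem frattini_pElementClosure {X : Type*} [Group X] {p : ℕ} [Fact p.Prime] (H : Subgroup X) [Finite H]
    (P : Sylow p H) (g : X) (hg : g ∈ H) :
    ∃ l ∈ Cfsg.pElementClosure p H, ∃ n ∈ H ⊓ Subgroup.normalizer
      ((((P : Subgroup H).map H.subtype : Subgroup X)) : Set X), g = l * n := by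
  have hLH := pElementClosure_le p H
  have : ((Cfsg.pElementClosure p H).subgroupOf H).Normal :=
    (Subgroup.normal_subgroupOf_iff_le_normalizer hLH).mpr (le_normalizer_pElementClosure p H)
  have hPN : (P : Subgroup H) ≤ (Cfsg.pElementClosure p H).subgroupOf H := by
    intro x hx
    rw [Subgroup.mem_subgroupOf]
    exact le_pElementClosure_of_isPGroup H _ (Subgroup.map_subtype_le _) (P.isPGroup'.map _)
      (Subgroup.mem_map_of_mem H.subtype hx)
  obtain ⟨l, hl, n, hn, hgl⟩ := frattini_factor _ P hPN ⟨g, hg⟩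
  refine ⟨(l : X), Subgroup.mem_subgroupOf.mp hl, (n : X), Subgroup.mem_inf.mpr ⟨n.2, ?_⟩, ?_⟩
  · rw [Subgroup.mem_normalizer_iff]
    intro x
    rw [Subgroup.mem_normalizer_iff] at hn
    constructor
    · rintro ⟨y, hy, rfl⟩
      exact ⟨n * y * n⁻¹, (hn y).mp hy, by simp⟩
    · rintro ⟨y, hy, hyx⟩
      have hxH : x ∈ H := by
        have h1 : (n : X) * x * (n : X)⁻¹ ∈ H := hyx ▸ y.2
        have h2 := H.mul_mem (H.mul_mem (H.inv_mem n.2) h1) n.2
        have h3 : (n : X)⁻¹ * ((n : X) * x * (n : X)⁻¹) * (n : X) = x := by group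
        rwa [h3] at h2
      refine ⟨⟨x, hxH⟩, ?_, rfl⟩
      have : n * ⟨x, hxH⟩ * n⁻¹ = y := by
        apply Subtype.ext
        simpa using hyx.symm
      apply (hn ⟨x, hxH⟩).mpr
      rw [this]; exact hy
  · have := congrArg Subtype.val hgl
    simpa using this

/-- Shape of the stabilizers along an edge. -/
theorem adj_stab_forms {X : Type*} [Group X] (M₁ M₂ : Subgroup X) (δ μ : Cfsg.CosetVertex M₁ M₂)
    (hadj : (Cfsg.cosetGraph M₁ M₂).Adj δ μ) :
    ∃ z : X, ((MulAction.stabilizer X δ = M₁.map (MulAut.conj z).toMonoidHom ∧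
        MulAction.stabilizer X μ = M₂.map (MulAut.conj z).toMonoidHom) ∨
      (MulAction.stabilizer X δ = M₂.map (MulAut.conj z).toMonoidHom ∧
        MulAction.stabilizer X μ = M₁.map (MulAut.conj z).toMonoidHom)) ∧
      Cfsg.edgeStabilizer δ μ = (M₁ ⊓ M₂).map (MulAut.conj z).toMonoidHom := by
  rw [adj_iff] at hadj
  obtain ⟨z, ⟨h1, h2⟩ | ⟨h1, h2⟩⟩ := hadj
  · refine ⟨z, Or.inl ⟨by rw [h1, stab_inl], by rw [h2, stab_inr]⟩, ?_⟩
    rw [h1, h2, edgeStab_eq]
  · refine ⟨z, Or.inr ⟨by rw [h1, stab_inr], by rw [h2, stab_inl]⟩, ?_⟩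
    unfold Cfsg.edgeStabilizer
    rw [h1, h2, inf_comm]
    exact edgeStab_eq M₁ M₂ z

end Cfsg.Agent.helper14
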