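import Cfsg.Prelude.Def_LocalEven
import Mathlib.Order.SupClosed

set_option autoImplicit false
open Cfsg

namespace Cfsg.Agent.helper14

/-- The working form of `p`-reducedness: every normal subgroup acting as a `p`-group on `V` centralizes `V`. -/
def PRedProp {L : Type*} [Group L] (p : ℕ) (V : Subgroup L) : Prop :=
  ∀ N : Subgroup L, N.Normal → (∀ n ∈ N, ∃ k : ℕ, n ^ p ^ k ∈ Subgroup.centralizer (V : Set L)) →
    N ≤ Subgroup.centralizer (V : Set L)

theorem predProp_of_isPReducedNormal {L : Type*} [Group L] {p : ℕ} [Fact p.Prime] (V : Subgroup L)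
    (h : Cfsg.IsPReducedNormal p V) : PRedProp p V := by
  obtain ⟨hVn, _, hCn, hcore⟩ := h
  intro N hN hNp
  have hmapN : (N.map (QuotientGroup.mk' (Subgroup.centralizer (V : Set L)))).Normal :=
    hN.map _ (QuotientGroup.mk'_surjective _)
  have hmapP : IsPGroup p (N.map (QuotientGroup.mk' (Subgroup.centralizer (V : Set L)))) := by
    rintro ⟨_, ⟨n, hn, rfl⟩⟩
    obtain ⟨k, hk⟩ := hNp n hn
    refine ⟨k, ?_⟩
    apply Subtype.ext
    simp only [Subgroup.coe_pow, Subgroup.coe_one]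
    rw [← map_pow]
    exact (QuotientGroup.eq_one_iff _).mpr hk
  have hle : N.map (QuotientGroup.mk' (Subgroup.centralizer (V : Set L))) ≤
      Cfsg.pCore p (L ⧸ Subgroup.centralizer (V : Set L)) := by
    unfold Cfsg.pCore
    exact le_sSup ⟨hmapN, hmapP⟩
  rw [hcore, le_bot_iff, Subgroup.map_eq_bot_iff, QuotientGroup.ker_mk'] at hle
  exact hle

theorem isPReducedNormal_of_predProp {L : Type*} [Group L] {p : ℕ} [Fact p.Prime] (V : Subgroup L)
    (hVn : V.Normal) (hVe : Cfsg.IsElementaryAbelian p V) (h : PRedProp p V) :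
    Cfsg.IsPReducedNormal p V := by
  have hCn : (Subgroup.centralizer (V : Set L)).Normal := Subgroup.normal_centralizer
  refine ⟨hVn, hVe, hCn, ?_⟩
  unfold Cfsg.pCore
  rw [eq_bot_iff]
  apply sSup_le
  rintro Nq ⟨hNqn, hNqp⟩
  set π := QuotientGroup.mk' (Subgroup.centralizer (V : Set L)) with hπ
  have hN : (Nq.comap π).Normal := hNqn.comap π
  have hle := h (Nq.comap π) hN (by
    intro n hn
    obtain ⟨k, hk⟩ := hNqp ⟨π n, hn⟩
    refine ⟨k, ?_⟩
    have hk' : (π n) ^ p ^ k = 1 := by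
      have h2 : ((⟨π n, hn⟩ : Nq) ^ p ^ k : Nq).1 = (1 : Nq).1 := congrArg Subtype.val hk
      rw [Subgroup.coe_pow, Subgroup.coe_one] at h2
      exact h2
    rw [← map_pow] at hk'
    exact (QuotientGroup.eq_one_iff _).mp hk')
  intro y hy
  obtain ⟨x, rfl⟩ := QuotientGroup.mk'_surjective _ y
  rw [Subgroup.mem_bot]
  exact (QuotientGroup.eq_one_iff _).mpr (hle hy)

theorem isPReducedNormal_bot {L : Type*} [Group L] {p : ℕ} [Fact p.Prime] :
    Cfsg.IsPReducedNormal p (⊥ : Subgroup L) := by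
  apply isPReducedNormal_of_predProp
  · infer_instance
  · refine ⟨⟨⟨fun a b => ?_⟩⟩, ?_⟩
    · apply Subtype.ext
      have ha := Subgroup.mem_bot.mp a.2
      have hb := Subgroup.mem_bot.mp b.2
      simp [ha, hb]
    · intro a ha
      rw [Subgroup.mem_bot.mp ha, one_pow]
  · intro N _ _ n _
    rw [Subgroup.mem_centralizer_iff]
    intro h hh
    have : h = 1 := Subgroup.mem_bot.mp hh
    rw [this]; simp

theorem isPReducedNormal_sup {L : Type*} [Group L] {p : ℕ} [Fact p.Prime] (V₁ V₂ : Subgroup L)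
    (h₁ : Cfsg.IsPReducedNormal p V₁) (h₂ : Cfsg.IsPReducedNormal p V₂) :
    Cfsg.IsPReducedNormal p (V₁ ⊔ V₂) := by
  have P₁ := predProp_of_isPReducedNormal V₁ h₁
  have P₂ := predProp_of_isPReducedNormal V₂ h₂
  obtain ⟨hV₁n, ⟨hV₁c, hV₁p⟩, _⟩ := h₁
  obtain ⟨hV₂n, ⟨hV₂c, hV₂p⟩, _⟩ := h₂
  have hcent : Subgroup.centralizer ((V₁ ⊔ V₂ : Subgroup L) : Set L) =
      Subgroup.centralizer (V₁ : Set L) ⊓ Subgroup.centralizer (V₂ : Set L) := by
    apply le_antisymm
    · exact le_inf (Subgroup.centralizer_le (by exact_mod_cast (le_sup_left : V₁ ≤ V₁ ⊔ V₂)))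
        (Subgroup.centralizer_le (by exact_mod_cast (le_sup_right : V₂ ≤ V₁ ⊔ V₂)))
    · intro x hx
      rw [Subgroup.mem_inf] at hx
      have h1 : V₁ ≤ Subgroup.centralizer ({x} : Set L) := by
        intro v hv
        rw [Subgroup.mem_centralizer_singleton_iff]
        exact (Subgroup.mem_centralizer_iff.mp hx.1 v hv)
      have h2 : V₂ ≤ Subgroup.centralizer ({x} : Set L) := by
        intro v hv
        rw [Subgroup.mem_centralizer_singleton_iff]
        exact (Subgroup.mem_centralizer_iff.mp hx.2 v hv)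
      rw [Subgroup.mem_centralizer_iff]
      intro v hv
      have := (sup_le h1 h2) hv
      rw [Subgroup.mem_centralizer_singleton_iff] at this
      exact this
  -- V₂ centralizes V₁
  have h21 : V₂ ≤ Subgroup.centralizer (V₁ : Set L) := by
    apply P₁ V₂ hV₂n
    intro n hn
    refine ⟨1, ?_⟩
    rw [pow_one, hV₂p n hn]
    exact Subgroup.one_mem _
  have h12 : V₁ ≤ Subgroup.centralizer (V₂ : Set L) := Subgroup.le_centralizer_iff.mp h21
  have h11 : V₁ ≤ Subgroup.centralizer (V₁ : Set L) := Subgroup.le_centralizer_iff_isMulCommutative.mpr hV₁c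
  have h22 : V₂ ≤ Subgroup.centralizer (V₂ : Set L) := Subgroup.le_centralizer_iff_isMulCommutative.mpr hV₂c
  have hJc : V₁ ⊔ V₂ ≤ Subgroup.centralizer ((V₁ ⊔ V₂ : Subgroup L) : Set L) := by
    rw [hcent]
    exact sup_le (le_inf h11 h12) (le_inf h21 h22)
  apply isPReducedNormal_of_predProp
  · infer_instance
  · refine ⟨Subgroup.le_centralizer_iff_isMulCommutative.mp hJc, ?_⟩
    intro a ha
    have ham : a ∈ ((V₁ ⊔ V₂ : Subgroup L) : Set L) := ha
    rw [Subgroup.normal_mul, Set.mem_mul] at ham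
    obtain ⟨v₁, hv₁, v₂, hv₂, rfl⟩ := ham
    have hc : Commute v₁ v₂ := (Subgroup.mem_centralizer_iff.mp (h12 hv₁) v₂ hv₂).symm
    rw [hc.mul_pow, hV₁p v₁ hv₁, hV₂p v₂ hv₂, one_mul]
  · intro N hN hNp
    rw [hcent]
    refine le_inf (P₁ N hN ?_) (P₂ N hN ?_)
    · intro n hn
      obtain ⟨k, hk⟩ := hNp n hn
      rw [hcent] at hk
      exact ⟨k, hk.1⟩
    · intro n hn
      obtain ⟨k, hk⟩ := hNp n hn
      rw [hcent] at hk
      exact ⟨k, hk.2⟩

/-- For a finite group the join of all `p`-reduced normal subgroups is `p`-reduced. -/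
theorem isPReducedNormal_largestPReduced {L : Type*} [Group L] [Finite L] {p : ℕ} [Fact p.Prime] :
    Cfsg.IsPReducedNormal p (sSup {V : Subgroup L | Cfsg.IsPReducedNormal p V}) := by
  have hsc : SupClosed {V : Subgroup L | Cfsg.IsPReducedNormal p V} := by
    intro a ha b hb
    exact isPReducedNormal_sup a b ha hb
  exact hsc.sSup_mem (Set.toFinite _) isPReducedNormal_bot subset_rfl

end Cfsg.Agent.helper14
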