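import Cfsg.Prelude.Def_EvenType
import Mathlib.GroupTheory.Nilpotent
import Mathlib.GroupTheory.Sylow
import Mathlib.GroupTheory.Commutator.Basic

set_option autoImplicit false
open Cfsg

namespace Cfsg.Agent.helper14

theorem coe_pow_eq_one_of_isPGroup {X : Type*} [Group X] {p : ℕ} (Q : Subgroup X) (hQ : IsPGroup p Q)
    (x : X) (hx : x ∈ Q) : ∃ k : ℕ, x ^ p ^ k = 1 := by
  obtain ⟨k, hk⟩ := hQ ⟨x, hx⟩
  refine ⟨k, ?_⟩
  have h2 : ((⟨x, hx⟩ : Q) ^ p ^ k : Q).1 = (1 : Q).1 := congrArg Subtype.val hk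
  rw [Subgroup.coe_pow, Subgroup.coe_one] at h2
  exact h2

/-- A nontrivial `p`-subgroup contains an element of order `p`. -/
theorem exists_orderOf_eq_prime_of_ne_bot {X : Type*} [Group X] {p : ℕ} [hp : Fact p.Prime] (Q : Subgroup X)
    (hQ : IsPGroup p Q) (hne : Q ≠ ⊥) : ∃ u ∈ Q, orderOf u = p := by
  obtain ⟨x, hxQ, hx1⟩ : ∃ x ∈ Q, x ≠ 1 := by
    by_contra hcon
    push Not at hcon
    exact hne ((Subgroup.eq_bot_iff_forall _).mpr hcon)
  obtain ⟨k, hk⟩ := coe_pow_eq_one_of_isPGroup Q hQ x hxQ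
  obtain ⟨j, _, hj⟩ := (Nat.dvd_prime_pow hp.out).mp (orderOf_dvd_of_pow_eq_one hk)
  have hj0 : j ≠ 0 := by
    rintro rfl
    rw [pow_zero, orderOf_eq_one_iff] at hj
    exact hx1 hj
  obtain ⟨i, rfl⟩ := Nat.exists_eq_succ_of_ne_zero hj0
  refine ⟨x ^ p ^ i, Q.pow_mem hxQ _, ?_⟩
  have hpos : 0 < p ^ i := pow_pos hp.out.pos i
  rw [orderOf_pow' x hpos.ne', hj, Nat.gcd_eq_right (pow_dvd_pow p (Nat.le_succ i)), pow_succ,
    Nat.mul_div_cancel_left _ hpos]

theorem not_prankLE_zero_of_ne_bot {X : Type*} [Group X] {p : ℕ} [hp : Fact p.Prime] (Q : Subgroup X)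
    (hQ : IsPGroup p Q) (hne : Q ≠ ⊥) : ¬ Cfsg.PRankLE p 0 ↥Q := by
  intro h
  obtain ⟨u, huQ, hu⟩ := exists_orderOf_eq_prime_of_ne_bot Q hQ hne
  have hu' : orderOf (⟨u, huQ⟩ : Q) = p := by
    rw [← hu]
    exact (Subgroup.orderOf_mk u huQ)
  have hA := h (Subgroup.zpowers (⟨u, huQ⟩ : Q)) inferInstance (by
    intro a ha
    obtain ⟨n, rfl⟩ := Subgroup.mem_zpowers_iff.mp ha
    rw [← zpow_natCast, ← zpow_mul, mul_comm, zpow_mul, zpow_natCast, ← hu', pow_orderOf_eq_one, one_zpow])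
  rw [Nat.card_zpowers, hu', pow_zero] at hA
  exact absurd hA (not_le.mpr hp.out.one_lt)

theorem prankLE_zero_of_eq_bot {X : Type*} [Group X] {p : ℕ} (Q : Subgroup X) (hQ : Q = ⊥) :
    Cfsg.PRankLE p 0 ↥Q := by
  subst hQ
  intro A _ _
  rw [pow_zero]
  have : Subsingleton ↥(⊥ : Subgroup X) := inferInstance
  have : Subsingleton ↥A := inferInstance
  exact le_of_eq Nat.card_unique

/-- Unfolding of `Γ_{P,1} ≤ M` for a `p`-group `P`. -/
theorem kGeneratedCore_one_le_iff {X : Type*} [Group X] {p : ℕ} [Fact p.Prime] (P M : Subgroup X)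
    (hP : IsPGroup p P) :
    Cfsg.kGeneratedCore p 1 P ≤ M ↔
      ∀ Q : Subgroup X, Q ≤ P → Q ≠ ⊥ → Subgroup.normalizer (Q : Set X) ≤ M := by
  unfold Cfsg.kGeneratedCore
  rw [iSup_le_iff]
  constructor
  · intro h Q hQP hQ1
    exact h ⟨Q, hQP, not_prankLE_zero_of_ne_bot Q (hP.to_le hQP) hQ1⟩
  · rintro h ⟨Q, hQP, hQr⟩
    apply h Q hQP
    intro hbot
    exact hQr (prankLE_zero_of_eq_bot Q hbot)

theorem conj_inv_comp' {X : Type*} [Group X] (z : X) (K : Subgroup X) :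
    (K.map (MulAut.conj z⁻¹).toMonoidHom).map (MulAut.conj z).toMonoidHom = K := by
  rw [Subgroup.map_map]
  have : (MulAut.conj z).toMonoidHom.comp (MulAut.conj z⁻¹).toMonoidHom = MonoidHom.id X := by
    ext x; simp [mul_assoc]
  rw [this, Subgroup.map_id]

theorem conj_comp_inv' {X : Type*} [Group X] (z : X) (K : Subgroup X) :
    (K.map (MulAut.conj z).toMonoidHom).map (MulAut.conj z⁻¹).toMonoidHom = K := by
  have := conj_inv_comp' z⁻¹ K
  rwa [inv_inv] at this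

theorem map_conj_eq_self_of_mem {X : Type*} [Group X] (M : Subgroup X) (m : X) (hm : m ∈ M) :
    M.map (MulAut.conj m).toMonoidHom = M := by
  ext x
  constructor
  · rintro ⟨y, hy, rfl⟩
    exact M.mul_mem (M.mul_mem hm hy) (M.inv_mem hm)
  · intro hx
    refine ⟨m⁻¹ * x * m, M.mul_mem (M.mul_mem (M.inv_mem hm) hx) hm, by simp [mul_assoc]⟩

theorem normalizer_map_conj {X : Type*} [Group X] (Q : Subgroup X) (g : X) :
    Subgroup.normalizer ((Q.map (MulAut.conj g).toMonoidHom : Subgroup X) : Set X) =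
      (Subgroup.normalizer (Q : Set X)).map (MulAut.conj g).toMonoidHom :=
  (Subgroup.map_equiv_normalizer_eq Q (MulAut.conj g)).symm

theorem map_conj_ne_bot {X : Type*} [Group X] (Q : Subgroup X) (g : X) (h : Q ≠ ⊥) :
    Q.map (MulAut.conj g).toMonoidHom ≠ ⊥ := by
  intro hbot
  apply h
  rw [← conj_comp_inv' g Q, hbot, Subgroup.map_bot]

theorem sylow_smul_map_subtype' {X : Type*} [Group X] {p : ℕ} (H : Subgroup X) (g : X) (hg : g ∈ H)
    (S : Sylow p H) :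
    (((⟨g, hg⟩ : H) • S : Sylow p H) : Subgroup H).map H.subtype =
      ((S : Subgroup H).map H.subtype).map (MulAut.conj g).toMonoidHom := by
  ext x
  constructor
  · rintro ⟨y, hy, rfl⟩
    have hy' : y ∈ (((⟨g, hg⟩ : H) • S : Sylow p H) : Subgroup H) := hy
    rw [Sylow.coe_subgroup_smul, Subgroup.mem_smul_pointwise_iff_exists] at hy'
    obtain ⟨s, hs, rfl⟩ := hy'
    refine ⟨(s : X), Subgroup.mem_map_of_mem _ hs, ?_⟩
    simp [MulAut.smul_def]
  · rintro ⟨_, ⟨s, hs, rfl⟩, rfl⟩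
    refine ⟨(⟨g, hg⟩ : H) * s * (⟨g, hg⟩ : H)⁻¹, ?_, ?_⟩
    · show _ ∈ (((⟨g, hg⟩ : H) • S : Sylow p H) : Subgroup H)
      rw [Sylow.coe_subgroup_smul, Subgroup.mem_smul_pointwise_iff_exists]
      exact ⟨s, hs, rfl⟩
    · simp

/-- Every `p`-subgroup of `M` is `M`-conjugate into a given Sylow subgroup of the ambient group inside `M`. -/
theorem exists_conj_le_of_sylow_le {X : Type*} [Group X] [Finite X] {p : ℕ} [Fact p.Prime]
    (M : Subgroup X) (P : Sylow p X) (hPM : (P : Subgroup X) ≤ M) (A : Subgroup X) (hAM : A ≤ M)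
    (hA : IsPGroup p A) : ∃ m ∈ M, A ≤ (P : Subgroup X).map (MulAut.conj m).toMonoidHom := by
  have hA' : IsPGroup p (A.subgroupOf M) := hA.comap_of_injective _ (Subgroup.subtype_injective _)
  obtain ⟨R, hR⟩ := hA'.exists_le_sylow
  obtain ⟨m, hm⟩ := MulAction.exists_smul_eq M (P.subtype hPM) R
  obtain ⟨m, hmM⟩ := m
  refine ⟨m, hmM, ?_⟩
  have h1 : ((P.subtype hPM : Sylow p M) : Subgroup M).map M.subtype = (P : Subgroup X) := by
    rw [Sylow.coe_subtype, Subgroup.subgroupOf_map_subtype, inf_eq_left.mpr hPM]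
  rw [← h1, ← sylow_smul_map_subtype' M m hmM, hm]
  intro a ha
  exact ⟨⟨a, hAM ha⟩, hR (Subgroup.mem_subgroupOf.mpr ha), rfl⟩

/-- Claim B: a strongly `p`-embedded subgroup contains the normalizers of its nontrivial `p`-subgroups. -/
theorem normalizer_le_of_spe {X : Type*} [Group X] [Finite X] {p : ℕ} [Fact p.Prime] (M : Subgroup X)
    (h : Cfsg.IsStronglyPEmbedded p M) (A : Subgroup X) (hAM : A ≤ M) (hA : IsPGroup p A) (hA1 : A ≠ ⊥) :
    Subgroup.normalizer (A : Set X) ≤ M := by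
  obtain ⟨hdvd, _, P, hP⟩ := h
  rw [kGeneratedCore_one_le_iff _ _ P.isPGroup'] at hP
  have hP1 : (P : Subgroup X) ≠ ⊥ := P.ne_bot_of_dvd_card hdvd
  have hPM : (P : Subgroup X) ≤ M := Subgroup.le_normalizer.trans (hP P le_rfl hP1)
  obtain ⟨m, hmM, hAm⟩ := exists_conj_le_of_sylow_le M P hPM A hAM hA
  have hA' : A.map (MulAut.conj m⁻¹).toMonoidHom ≤ (P : Subgroup X) := by
    have := Subgroup.map_mono (f := (MulAut.conj m⁻¹).toMonoidHom) hAm
    rwa [conj_comp_inv'] at this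
  have h1 := hP _ hA' (map_conj_ne_bot A m⁻¹ hA1)
  rw [normalizer_map_conj] at h1
  have h2 := Subgroup.map_mono (f := (MulAut.conj m).toMonoidHom) h1
  rw [conj_inv_comp', map_conj_eq_self_of_mem M m hmM] at h2
  exact h2

end Cfsg.Agent.helper14
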