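import Mathlib
import Cfsg.Prelude.Def_LocalStructure
import Cfsg.Prelude.Def_Amalgam
import Cfsg.Agent.Lib_helper14_PReduced
import Cfsg.Agent.Lib_helper14_SPE
import Cfsg.Agent.Lib_helper14_Amalgam2
import Cfsg.Agent.Lib_helper14_Amalgam4
import Cfsg.Agent.Lib_helper14_Amalgam5
import Cfsg.Agent.Lib_helper19_Sylow

set_option autoImplicit false
open Cfsg

namespace Cfsg.Agent.helper14

/-- Ambient form of `p`-reducedness of `V` in `L` (both subgroups of `H`). -/
def PRedIn {H : Type*} [Group H] (p : ℕ) (L V : Subgroup H) : Prop :=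
  V ≤ L ∧ L ≤ Subgroup.normalizer (V : Set H) ∧ (∀ a ∈ V, ∀ b ∈ V, a * b = b * a) ∧
    (∀ a ∈ V, a ^ p = 1) ∧
    ∀ N : Subgroup H, N ≤ L → L ≤ Subgroup.normalizer (N : Set H) →
      (∀ n ∈ N, ∃ k : ℕ, n ^ p ^ k ∈ Subgroup.centralizer (V : Set H)) →
      N ≤ Subgroup.centralizer (V : Set H)

theorem mem_centralizer_map_subtype_iff {H : Type*} [Group H] (L : Subgroup H) (V₀ : Subgroup L)
    (x : L) :
    x ∈ Subgroup.centralizer (V₀ : Set L) ↔
      (x : H) ∈ Subgroup.centralizer ((V₀.map L.subtype : Subgroup H) : Set H) := by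
  rw [Subgroup.mem_centralizer_iff, Subgroup.mem_centralizer_iff]
  constructor
  · rintro h _ ⟨v, hv, rfl⟩
    exact congrArg Subtype.val (h v hv)
  · intro h v hv
    apply Subtype.ext
    exact h (v : H) ⟨v, hv, rfl⟩

theorem le_normalizer_map_subtype_of_normal {H : Type*} [Group H] (L : Subgroup H)
    (N₀ : Subgroup L) (hN₀ : N₀.Normal) :
    L ≤ Subgroup.normalizer ((N₀.map L.subtype : Subgroup H) : Set H) := by
  apply le_normalizer_of_map_conj_le
  rintro g hg _ ⟨_, ⟨v, hv, rfl⟩, rfl⟩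
  refine ⟨(⟨g, hg⟩ : L) * v * (⟨g, hg⟩ : L)⁻¹, hN₀.conj_mem v hv _, ?_⟩
  simp

theorem conj_mem_centralizer_of_mem_normalizer {X : Type*} [Group X] (V : Subgroup X) (g x : X)
    (hg : g ∈ Subgroup.normalizer (V : Set X)) (hx : x ∈ Subgroup.centralizer (V : Set X)) :
    g * x * g⁻¹ ∈ Subgroup.centralizer (V : Set X) := by
  rw [Subgroup.mem_centralizer_iff] at hx ⊢
  intro v hv
  have hv' : g⁻¹ * v * g ∈ V := by
    have := (Subgroup.mem_normalizer_iff.mp (Subgroup.inv_mem _ hg) v).mp hv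
    simpa using this
  have h1 := hx _ hv'
  calc v * (g * x * g⁻¹) = g * ((g⁻¹ * v * g) * x) * g⁻¹ := by group
    _ = g * (x * (g⁻¹ * v * g)) * g⁻¹ := by rw [h1]
    _ = g * x * g⁻¹ * v := by group

theorem normalizer_le_normalizer_centralizer {X : Type*} [Group X] (V : Subgroup X) :
    Subgroup.normalizer (V : Set X) ≤
      Subgroup.normalizer ((Subgroup.centralizer (V : Set X) : Subgroup X) : Set X) := by
  apply le_normalizer_of_map_conj_le
  rintro g hg _ ⟨x, hx, rfl⟩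
  have := conj_mem_centralizer_of_mem_normalizer V g x hg hx
  simpa using this

theorem le_normalizer_inf_centralizer {X : Type*} [Group X] (L V : Subgroup X)
    (hLV : L ≤ Subgroup.normalizer (V : Set X)) :
    L ≤ Subgroup.normalizer ((L ⊓ Subgroup.centralizer (V : Set X) : Subgroup X) : Set X) := by
  apply le_normalizer_of_map_conj_le
  rintro g hg _ ⟨x, ⟨hxL, hxC⟩, rfl⟩
  refine ⟨?_, ?_⟩
  · have : g * x * g⁻¹ ∈ L := L.mul_mem (L.mul_mem hg hxL) (L.inv_mem hg)
    simpa using this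
  · have := conj_mem_centralizer_of_mem_normalizer V g x (hLV hg) hxC
    simpa using this

/-- If `N`, `D` are normal and `N D / D` is a `p`-group then `N ≤ S D` for every Sylow `p`-subgroup `S`. -/
theorem exists_sylow_mul_of_pow_mem {G : Type*} [Group G] [Finite G] {p : ℕ} [Fact p.Prime]
    (S : Sylow p G) (D N : Subgroup G) [hD : D.Normal] (hNn : N.Normal)
    (hN : ∀ n ∈ N, ∃ k : ℕ, n ^ p ^ k ∈ D) :
    ∀ n ∈ N, ∃ s ∈ (S : Subgroup G), ∃ d ∈ D, n = s * d := by
  intro n hn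
  have hsurj : Function.Surjective (QuotientGroup.mk' D) := QuotientGroup.mk'_surjective D
  have hmapN : (N.map (QuotientGroup.mk' D)).Normal := hNn.map _ hsurj
  have hmapP : IsPGroup p (N.map (QuotientGroup.mk' D)) := by
    rintro ⟨_, ⟨m, hm, rfl⟩⟩
    obtain ⟨k, hk⟩ := hN m hm
    refine ⟨k, ?_⟩
    apply Subtype.ext
    simp only [Subgroup.coe_pow, Subgroup.coe_one]
    rw [← map_pow]
    exact (QuotientGroup.eq_one_iff _).mpr hk
  have hle := hmapP.le_sylow_of_normal (S.mapSurjective hsurj)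
  have h1 : QuotientGroup.mk' D n ∈ (S : Subgroup G).map (QuotientGroup.mk' D) :=
    hle ⟨n, hn, rfl⟩
  obtain ⟨s, hs, hsn⟩ := h1
  refine ⟨s, hs, s⁻¹ * n, ?_, by group⟩
  have h2 : QuotientGroup.mk' D (s⁻¹ * n) = 1 := by rw [map_mul, map_inv, hsn, inv_mul_cancel]
  exact (QuotientGroup.eq_one_iff _).mp h2

/-- Ambient version with `D = C_L(V)`. -/
theorem exists_sylow_mul_centralizer {H : Type*} [Group H] {p : ℕ} [Fact p.Prime] (L : Subgroup H)
    [Finite L] (S : Sylow p L) (V N : Subgroup H) (hNL : N ≤ L)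
    (hLV : L ≤ Subgroup.normalizer (V : Set H)) (hLN : L ≤ Subgroup.normalizer (N : Set H))
    (hN : ∀ n ∈ N, ∃ k : ℕ, n ^ p ^ k ∈ Subgroup.centralizer (V : Set H)) :
    ∀ n ∈ N, ∃ s ∈ (S : Subgroup L).map L.subtype, ∃ d ∈ Subgroup.centralizer (V : Set H),
      n = s * d := by
  have hDL : L ⊓ Subgroup.centralizer (V : Set H) ≤ L := inf_le_left
  have hDn : ((L ⊓ Subgroup.centralizer (V : Set H)).subgroupOf L).Normal :=
    (Subgroup.normal_subgroupOf_iff_le_normalizer hDL).mpr (le_normalizer_inf_centralizer L V hLV)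
  have hNn : (N.subgroupOf L).Normal := (Subgroup.normal_subgroupOf_iff_le_normalizer hNL).mpr hLN
  intro n hn
  obtain ⟨s, hs, d, hd, h⟩ := exists_sylow_mul_of_pow_mem S
    ((L ⊓ Subgroup.centralizer (V : Set H)).subgroupOf L) (N.subgroupOf L) hNn (by
    intro m hm
    obtain ⟨k, hk⟩ := hN (m : H) (Subgroup.mem_subgroupOf.mp hm)
    refine ⟨k, ?_⟩
    rw [Subgroup.mem_subgroupOf, Subgroup.coe_pow]
    exact ⟨L.pow_mem m.2 _, hk⟩) ⟨n, hNL hn⟩ (Subgroup.mem_subgroupOf.mpr hn)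
  refine ⟨(s : H), ⟨s, hs, rfl⟩, (d : H), (Subgroup.mem_subgroupOf.mp hd).2, ?_⟩
  have := congrArg Subtype.val h
  simpa using this

theorem predIn_of_isPReducedNormal {H : Type*} [Group H] {p : ℕ} [Fact p.Prime] (L : Subgroup H)
    (V₀ : Subgroup L) (h : Cfsg.IsPReducedNormal p V₀) : PRedIn p L (V₀.map L.subtype) := by
  have hP := predProp_of_isPReducedNormal V₀ h
  obtain ⟨hVn, ⟨hVc, hVp⟩, _⟩ := h
  refine ⟨Subgroup.map_subtype_le _, le_normalizer_map_subtype_of_normal L V₀ hVn, ?_, ?_, ?_⟩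
  · rintro _ ⟨a, ha, rfl⟩ _ ⟨b, hb, rfl⟩
    have h1 := hVc.is_comm.comm (⟨a, ha⟩ : V₀) ⟨b, hb⟩
    have h2 : a * b = b * a := congrArg Subtype.val h1
    rw [← map_mul, ← map_mul, h2]
  · rintro _ ⟨a, ha, rfl⟩
    rw [← map_pow, hVp a ha, map_one]
  · intro N hNL hLN hNp
    have hN₀n : (N.subgroupOf L).Normal :=
      (Subgroup.normal_subgroupOf_iff_le_normalizer hNL).mpr hLN
    have h3 := hP (N.subgroupOf L) hN₀n (by
      intro n hn
      obtain ⟨k, hk⟩ := hNp (n : H) (Subgroup.mem_subgroupOf.mp hn)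
      refine ⟨k, ?_⟩
      rw [mem_centralizer_map_subtype_iff, Subgroup.coe_pow]
      exact hk)
    intro n hn
    have h4 : (⟨n, hNL hn⟩ : L) ∈ Subgroup.centralizer (V₀ : Set L) :=
      h3 (Subgroup.mem_subgroupOf.mpr hn)
    rw [mem_centralizer_map_subtype_iff] at h4
    exact h4

theorem isPReducedNormal_of_predIn {H : Type*} [Group H] {p : ℕ} [Fact p.Prime] (L : Subgroup H)
    (V₀ : Subgroup L) (h : PRedIn p L (V₀.map L.subtype)) : Cfsg.IsPReducedNormal p V₀ := by
  obtain ⟨_, hLV, hc, hpw, hN⟩ := h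
  have hmem : ∀ x : L, (x : H) ∈ V₀.map L.subtype ↔ x ∈ V₀ := by
    intro x
    constructor
    · rintro ⟨y, hy, hyx⟩
      have : y = x := Subtype.ext hyx
      rwa [← this]
    · intro hx; exact ⟨x, hx, rfl⟩
  have hVn : V₀.Normal := by
    constructor
    intro v hv l
    rw [← hmem]
    have := (Subgroup.mem_normalizer_iff.mp (hLV l.2) (v : H)).mp ((hmem v).mpr hv)
    simpa using this
  apply isPReducedNormal_of_predProp V₀ hVn
  · refine ⟨⟨⟨fun a b => ?_⟩⟩, ?_⟩
    · apply Subtype.ext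
      apply Subtype.ext
      exact hc _ ((hmem a.1).mpr a.2) _ ((hmem b.1).mpr b.2)
    · intro a ha
      apply Subtype.ext
      have := hpw _ ((hmem a).mpr ha)
      rw [Subgroup.coe_pow]
      exact this
  · intro N₀ hN₀ hN₀p
    have h1 := hN (N₀.map L.subtype) (Subgroup.map_subtype_le _)
      (le_normalizer_map_subtype_of_normal L N₀ hN₀) (by
        rintro _ ⟨n, hn, rfl⟩
        obtain ⟨k, hk⟩ := hN₀p n hn
        refine ⟨k, ?_⟩
        rw [mem_centralizer_map_subtype_iff, Subgroup.coe_pow] at hk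
        exact hk)
    intro n hn
    rw [mem_centralizer_map_subtype_iff]
    exact h1 ⟨n, hn, rfl⟩

theorem predIn_largestPReducedOf {H : Type*} [Group H] {p : ℕ} [Fact p.Prime] (L : Subgroup H)
    [Finite L] : PRedIn p L (Cfsg.largestPReducedOf p L) := by
  unfold Cfsg.largestPReducedOf Cfsg.largestPReduced
  exact predIn_of_isPReducedNormal L _ isPReducedNormal_largestPReduced

theorem le_largestPReducedOf {H : Type*} [Group H] {p : ℕ} [Fact p.Prime] (L V : Subgroup H)
    (h : PRedIn p L V) : V ≤ Cfsg.largestPReducedOf p L := by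
  have hVL := h.1
  have h2 : PRedIn p L ((V.subgroupOf L).map L.subtype) := by
    rw [Subgroup.map_subgroupOf_eq_of_le hVL]; exact h
  have h3 := isPReducedNormal_of_predIn L _ h2
  have h4 : V.subgroupOf L ≤ Cfsg.largestPReduced p L := le_sSup h3
  have := Subgroup.map_mono (f := L.subtype) h4
  rwa [Subgroup.map_subgroupOf_eq_of_le hVL] at this

theorem charp_ambient {H : Type*} [Group H] {p : ℕ} (L : Subgroup H)
    (hL : Subgroup.centralizer (Cfsg.pCore p ↥L : Set ↥L) ≤ Cfsg.pCore p ↥L) :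
    L ⊓ Subgroup.centralizer ((Cfsg.pCoreOf p L : Subgroup H) : Set H) ≤ Cfsg.pCoreOf p L := by
  rintro x ⟨hxL, hxC⟩
  have h1 : (⟨x, hxL⟩ : L) ∈ Subgroup.centralizer (Cfsg.pCore p ↥L : Set ↥L) := by
    rw [mem_centralizer_map_subtype_iff]
    exact hxC
  exact ⟨⟨x, hxL⟩, hL h1, rfl⟩

theorem pCore_normal' {G : Type*} [Group G] (p : ℕ) : (Cfsg.pCore p G).Normal := by
  unfold Cfsg.pCore
  exact Subgroup.sSup_normal _ (fun N hN => hN.1)

theorem pCore_isPGroup' {G : Type*} [Group G] (p : ℕ) [Fact p.Prime] : IsPGroup p (Cfsg.pCore p G) := by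
  unfold Cfsg.pCore
  exact Sylow.sSup_of_normal _ (fun N hN => hN.2) (fun N hN => hN.1)

theorem pCoreOf_le_sylow {H : Type*} [Group H] {p : ℕ} [Fact p.Prime] (L : Subgroup H)
    (S : Sylow p L) : Cfsg.pCoreOf p L ≤ (S : Subgroup L).map L.subtype := by
  unfold Cfsg.pCoreOf
  apply Subgroup.map_mono
  have hn : (Cfsg.pCore p ↥L).Normal := pCore_normal' p
  exact (pCore_isPGroup' p).le_sylow_of_normal S

theorem pCoreOf_le {H : Type*} [Group H] (p : ℕ) (L : Subgroup H) : Cfsg.pCoreOf p L ≤ L := by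
  unfold Cfsg.pCoreOf
  exact Subgroup.map_subtype_le _

theorem le_normalizer_pCoreOf {H : Type*} [Group H] (p : ℕ) (L : Subgroup H) :
    L ≤ Subgroup.normalizer ((Cfsg.pCoreOf p L : Subgroup H) : Set H) := by
  unfold Cfsg.pCoreOf
  exact le_normalizer_map_subtype_of_normal L _ (pCore_normal' p)

theorem PRedIn.pCoreOf_le_centralizer {H : Type*} [Group H] {p : ℕ} [Fact p.Prime]
    {L V : Subgroup H} (h : PRedIn p L V) :
    Cfsg.pCoreOf p L ≤ Subgroup.centralizer (V : Set H) := by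
  obtain ⟨_, _, _, _, hN⟩ := h
  apply hN _ (pCoreOf_le p L) (le_normalizer_pCoreOf p L)
  intro n hn
  obtain ⟨k, hk⟩ := coe_pow_eq_one_of_isPGroup _ (pCoreOf_isPGroup L) n hn
  exact ⟨k, by rw [hk]; exact Subgroup.one_mem _⟩

theorem PRedIn.le_pCoreOf {H : Type*} [Group H] {p : ℕ} [Fact p.Prime] {L V : Subgroup H}
    (h : PRedIn p L V) : V ≤ Cfsg.pCoreOf p L := by
  obtain ⟨hVL, hLV, _, hpw, _⟩ := h
  have hn : (V.subgroupOf L).Normal := (Subgroup.normal_subgroupOf_iff_le_normalizer hVL).mpr hLV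
  have hp : IsPGroup p (V.subgroupOf L) := by
    intro v
    refine ⟨1, ?_⟩
    have h2 : ((v : L) : H) ^ p = 1 := hpw _ (Subgroup.mem_subgroupOf.mp v.2)
    apply Subtype.ext
    apply Subtype.ext
    simp only [pow_one, Subgroup.coe_pow, Subgroup.coe_one]
    exact h2
  have h1 : V.subgroupOf L ≤ Cfsg.pCore p ↥L := by
    unfold Cfsg.pCore
    exact le_sSup ⟨hn, hp⟩
  have := Subgroup.map_mono (f := L.subtype) h1
  rwa [Subgroup.map_subgroupOf_eq_of_le hVL] at this

theorem PRedIn.le_omegaOne {H : Type*} [Group H] {p : ℕ} [Fact p.Prime] {L V : Subgroup H}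
    (h : PRedIn p L V) :
    V ≤ Cfsg.omegaOne p (Cfsg.pCoreOf p L ⊓
      Subgroup.centralizer ((Cfsg.pCoreOf p L : Subgroup H) : Set H)) := by
  intro v hv
  unfold Cfsg.omegaOne
  apply Subgroup.subset_closure
  refine ⟨⟨h.le_pCoreOf hv, ?_⟩, h.2.2.2.1 v hv⟩
  exact (Subgroup.le_centralizer_iff.mp h.pCoreOf_le_centralizer) hv

/-- In a subgroup whose elements commute pairwise, the elements with `x ^ p = 1` form a subgroup. -/
def commOmega {X : Type*} [Group X] (p : ℕ) (Z : Subgroup X)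
    (hZ : ∀ a ∈ Z, ∀ b ∈ Z, a * b = b * a) : Subgroup X where
  carrier := {x | x ∈ Z ∧ x ^ p = 1}
  mul_mem' := by
    rintro a b ⟨ha, hap⟩ ⟨hb, hbp⟩
    refine ⟨Z.mul_mem ha hb, ?_⟩
    have hc : Commute a b := hZ a ha b hb
    rw [hc.mul_pow, hap, hbp, one_mul]
  one_mem' := ⟨Z.one_mem, one_pow _⟩
  inv_mem' := by
    rintro a ⟨ha, hap⟩
    exact ⟨Z.inv_mem ha, by rw [inv_pow, hap, inv_one]⟩

theorem mem_commOmega {X : Type*} [Group X] (p : ℕ) (Z : Subgroup X)
    (hZ : ∀ a ∈ Z, ∀ b ∈ Z, a * b = b * a) (x : X) :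
    x ∈ commOmega p Z hZ ↔ x ∈ Z ∧ x ^ p = 1 := Iff.rfl

/-- For `L` of characteristic `p`, `Z_L` is a `p`-reduced normal subgroup of `L`. -/
theorem predIn_sylowCenterClosure {H : Type*} [Group H] {p : ℕ} [Fact p.Prime] (L : Subgroup H)
    [Finite L] (hL : Subgroup.centralizer (Cfsg.pCore p ↥L : Set ↥L) ≤ Cfsg.pCore p ↥L) :
    PRedIn p L (Cfsg.sylowCenterClosure p L) := by
  have hchar := charp_ambient L hL
  have hgen : ∀ (S : Sylow p L) (z : H), z ∈ (S : Subgroup L).map L.subtype ⊓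
      Subgroup.centralizer (((S : Subgroup L).map L.subtype : Subgroup H) : Set H) →
      z ∈ Cfsg.pCoreOf p L ⊓ Subgroup.centralizer ((Cfsg.pCoreOf p L : Subgroup H) : Set H) := by
    rintro S z ⟨hzS, hzC⟩
    have hzQ : z ∈ Subgroup.centralizer ((Cfsg.pCoreOf p L : Subgroup H) : Set H) :=
      Subgroup.centralizer_le (SetLike.coe_subset_coe.mpr (pCoreOf_le_sylow L S)) hzC
    exact ⟨hchar ⟨Subgroup.map_subtype_le _ hzS, hzQ⟩, hzQ⟩
  have hZQc : ∀ a ∈ Cfsg.pCoreOf p L ⊓
      Subgroup.centralizer ((Cfsg.pCoreOf p L : Subgroup H) : Set H),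
      ∀ b ∈ Cfsg.pCoreOf p L ⊓ Subgroup.centralizer ((Cfsg.pCoreOf p L : Subgroup H) : Set H),
      a * b = b * a := by
    rintro a ⟨haQ, _⟩ b ⟨_, hbC⟩
    exact (Subgroup.mem_centralizer_iff.mp hbC a haQ)
  have hZA : Cfsg.sylowCenterClosure p L ≤ commOmega p _ hZQc := by
    unfold Cfsg.sylowCenterClosure
    apply iSup_le
    intro S
    unfold Cfsg.omegaOne
    rw [Subgroup.closure_le]
    rintro z ⟨hz, hzp⟩
    exact ⟨hgen S z hz, hzp⟩
  refine ⟨sylowCenterClosure_le p L, le_normalizer_sylowCenterClosure p L, ?_, ?_, ?_⟩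
  · intro a ha b hb
    exact hZQc a (hZA ha).1 b (hZA hb).1
  · intro a ha
    exact (hZA ha).2
  · intro N hNL hLN hNp
    rw [Subgroup.le_centralizer_iff]
    have hgoal : ∀ S : Sylow p L, Cfsg.omegaOne p (((S : Subgroup L).map L.subtype) ⊓
        Subgroup.centralizer (((S : Subgroup L).map L.subtype : Subgroup H) : Set H)) ≤
        Subgroup.centralizer (N : Set H) := by
      intro S
      unfold Cfsg.omegaOne
      rw [Subgroup.closure_le]
      rintro z ⟨⟨hzS, hzC⟩, hzp⟩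
      have hzZ : z ∈ Cfsg.sylowCenterClosure p L := by
        have h1 : Cfsg.omegaOne p (((S : Subgroup L).map L.subtype) ⊓
            Subgroup.centralizer (((S : Subgroup L).map L.subtype : Subgroup H) : Set H)) ≤
            Cfsg.sylowCenterClosure p L := by
          unfold Cfsg.sylowCenterClosure
          exact le_iSup (fun S : Sylow p L => Cfsg.omegaOne p (((S : Subgroup L).map L.subtype) ⊓
            Subgroup.centralizer (((S : Subgroup L).map L.subtype : Subgroup H) : Set H))) S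
        apply h1
        unfold Cfsg.omegaOne
        exact Subgroup.subset_closure ⟨⟨hzS, hzC⟩, hzp⟩
      show z ∈ Subgroup.centralizer (N : Set H)
      rw [Subgroup.mem_centralizer_iff]
      intro n hn
      obtain ⟨s, hs, d, hd, rfl⟩ := exists_sylow_mul_centralizer L S
        (Cfsg.sylowCenterClosure p L) N hNL (le_normalizer_sylowCenterClosure p L) hLN hNp n hn
      have h1 : s * z = z * s := (Subgroup.mem_centralizer_iff.mp hzC s hs)
      have h2 : z * d = d * z := (Subgroup.mem_centralizer_iff.mp hd z hzZ)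
      rw [mul_assoc, ← h2, ← mul_assoc, h1, mul_assoc]
    unfold Cfsg.sylowCenterClosure
    exact iSup_le hgoal

/-- `T ∩ C` is a Sylow `p`-subgroup of `C` when the Sylow subgroup `T` normalizes `C`. -/
theorem exists_sylow_inf_of_le_normalizer {H : Type*} [Group H] [Finite H] {p : ℕ} [Fact p.Prime]
    (T : Sylow p H) (C : Subgroup H)
    (hTC : (T : Subgroup H) ≤ Subgroup.normalizer (C : Set H)) :
    ∃ P : Sylow p C, (P : Subgroup C) = ((T : Subgroup H) ⊓ C).subgroupOf C := by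
  have hCN : C ≤ Subgroup.normalizer (C : Set H) := Subgroup.le_normalizer
  have h1 := Cfsg.Agent.helper19.sylow_inf_normal_not_dvd (T.subtype hTC)
    (C.subgroupOf (Subgroup.normalizer (C : Set H)))
  rw [Sylow.coe_subtype] at h1
  have h2 : (T : Subgroup H).subgroupOf (Subgroup.normalizer (C : Set H)) ⊓
      C.subgroupOf (Subgroup.normalizer (C : Set H)) =
      ((T : Subgroup H) ⊓ C).subgroupOf (Subgroup.normalizer (C : Set H)) := by
    ext x; simp [Subgroup.mem_subgroupOf]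
  rw [h2, Subgroup.relIndex_subgroupOf hCN] at h1
  have hp : IsPGroup p (((T : Subgroup H) ⊓ C).subgroupOf C) :=
    (T.isPGroup'.to_le inf_le_left).comap_of_injective _ (Subgroup.subtype_injective _)
  exact ⟨hp.toSylow h1, rfl⟩

theorem pow_mul_mem_of_mem_normalizer {X : Type*} [Group X] (C : Subgroup X) (n c : X)
    (hn : n ∈ Subgroup.normalizer (C : Set X)) (hc : c ∈ C) :
    ∀ j : ℕ, ∃ c' ∈ C, (n * c) ^ j = n ^ j * c' := by
  intro j
  induction j with
  | zero => exact ⟨1, C.one_mem, by simp⟩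
  | succ j ih =>
    obtain ⟨c', hc', h⟩ := ih
    refine ⟨n⁻¹ * c' * n * c, C.mul_mem ?_ hc, ?_⟩
    · have := (Subgroup.mem_normalizer_iff.mp (Subgroup.inv_mem _ hn) c').mp hc'
      simpa using this
    · rw [pow_succ, h, pow_succ]
      simp only [mul_assoc, mul_inv_cancel_left]

/-- Transfer of `p`-reducedness along `L C_H(Y) = M C_H(Y)`. -/
theorem predIn_of_factor {H : Type*} [Group H] {p : ℕ} [Fact p.Prime] (T : Sylow p H)
    (L M Y : Subgroup H) (hTL : (T : Subgroup H) ≤ L) (hTM : (T : Subgroup H) ≤ M)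
    (hY : PRedIn p M Y)
    (hfac : L ⊔ Subgroup.centralizer (Y : Set H) = M ⊔ Subgroup.centralizer (Y : Set H)) :
    PRedIn p L Y := by
  have hMY := hY.2.1
  have hN := hY.2.2.2.2
  have hCN : Subgroup.centralizer (Y : Set H) ≤ Subgroup.normalizer (Y : Set H) :=
    Subgroup.centralizer_le_normalizer _
  have hLY : L ≤ Subgroup.normalizer (Y : Set H) := by
    calc L ≤ L ⊔ Subgroup.centralizer (Y : Set H) := le_sup_left
      _ = M ⊔ Subgroup.centralizer (Y : Set H) := hfac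
      _ ≤ _ := sup_le hMY hCN
  have hYL : Y ≤ L := by
    have h1 : Y ≤ Cfsg.pCoreOf p M := hY.le_pCoreOf
    have h2 := pCoreOf_le_sylow M (T.subtype hTM)
    rw [Sylow.coe_subtype, Subgroup.map_subgroupOf_eq_of_le hTM] at h2
    exact (h1.trans h2).trans hTL
  refine ⟨hYL, hLY, hY.2.2.1, hY.2.2.2.1, ?_⟩
  intro N hNL hLN hNp
  have hLC : L ≤ Subgroup.normalizer
      ((Subgroup.centralizer (Y : Set H) : Subgroup H) : Set H) :=
    hLY.trans (normalizer_le_normalizer_centralizer Y)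
  have hMC : M ≤ Subgroup.normalizer
      ((Subgroup.centralizer (Y : Set H) : Subgroup H) : Set H) :=
    hMY.trans (normalizer_le_normalizer_centralizer Y)
  have hnorm : M ≤ Subgroup.normalizer
      (((N ⊔ Subgroup.centralizer (Y : Set H)) ⊓ M : Subgroup H) : Set H) := by
    have h1 : L ⊔ Subgroup.centralizer (Y : Set H) ≤ Subgroup.normalizer
        ((N ⊔ Subgroup.centralizer (Y : Set H) : Subgroup H) : Set H) := by
      apply sup_le
      · exact (le_inf hLN hLC).trans (Subgroup.normalizer_inf_normalizer_le_normalizer_sup _ _)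
      · exact le_sup_right.trans Subgroup.le_normalizer
    have h2 : M ≤ Subgroup.normalizer
        ((N ⊔ Subgroup.centralizer (Y : Set H) : Subgroup H) : Set H) := by
      calc M ≤ M ⊔ Subgroup.centralizer (Y : Set H) := le_sup_left
        _ = L ⊔ Subgroup.centralizer (Y : Set H) := hfac.symm
        _ ≤ _ := h1
    apply le_normalizer_of_map_conj_le
    rintro g hg _ ⟨x, ⟨hx1, hx2⟩, rfl⟩
    refine ⟨?_, ?_⟩
    · have := (Subgroup.mem_normalizer_iff.mp (h2 hg) x).mp hx1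
      simpa using this
    · have : g * x * g⁻¹ ∈ M := M.mul_mem (M.mul_mem hg hx2) (M.inv_mem hg)
      simpa using this
  have hN'C : (N ⊔ Subgroup.centralizer (Y : Set H)) ⊓ M ≤ Subgroup.centralizer (Y : Set H) := by
    apply hN _ inf_le_right hnorm
    rintro x ⟨hx1, _⟩
    have hx1' : x ∈ ((N ⊔ Subgroup.centralizer (Y : Set H) : Subgroup H) : Set H) := hx1
    rw [Subgroup.coe_mul_of_left_le_normalizer_right N _ (hNL.trans hLC)] at hx1'
    obtain ⟨n, hn, c, hc', rfl⟩ := hx1'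
    obtain ⟨k, hk⟩ := hNp n hn
    obtain ⟨c', hc'', h⟩ := pow_mul_mem_of_mem_normalizer _ n c (hLC (hNL hn)) hc' (p ^ k)
    exact ⟨k, by rw [h]; exact Subgroup.mul_mem _ hk hc''⟩
  intro n hn
  have hn' : n ∈ ((M ⊔ Subgroup.centralizer (Y : Set H) : Subgroup H) : Set H) := by
    rw [← hfac]; exact (le_sup_left : L ≤ _) (hNL hn)
  rw [Subgroup.coe_mul_of_left_le_normalizer_right M _ hMC] at hn'
  obtain ⟨m, hm, c, hc', hmc⟩ := hn'
  have hmN' : m ∈ (N ⊔ Subgroup.centralizer (Y : Set H)) ⊓ M := by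
    refine ⟨?_, hm⟩
    have : m = n * c⁻¹ := by rw [← hmc]; group
    rw [this]
    exact Subgroup.mul_mem _ ((le_sup_left : N ≤ N ⊔ Subgroup.centralizer (Y : Set H)) hn)
      ((le_sup_right : _ ≤ N ⊔ Subgroup.centralizer (Y : Set H)) (Subgroup.inv_mem _ hc'))
  rw [← hmc]
  exact Subgroup.mul_mem _ (hN'C hmN') hc'

end Cfsg.Agent.helper14
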