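import Mathlib
import Cfsg.Prelude.Def_LocalStructure
import Cfsg.Agent.Lib_helper14_PReduced2
import Cfsg.Agent.Lib_helper10_PResidual

set_option autoImplicit false
open Cfsg
open scoped commutatorElement

namespace Cfsg.Agent.helper14

theorem map_conj_eq_of_mem_normalizer' {X : Type*} [Group X] (A : Subgroup X) (g : X)
    (hg : g ∈ Subgroup.normalizer (A : Set X)) :
    A.map (MulAut.conj g).toMonoidHom = A := by
  ext x
  constructor
  · rintro ⟨y, hy, rfl⟩
    have := (Subgroup.mem_normalizer_iff.mp hg y).mp hy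
    simpa using this
  · intro hx
    refine ⟨g⁻¹ * x * g, ?_, by simp [mul_assoc]⟩
    have := (Subgroup.mem_normalizer_iff.mp (Subgroup.inv_mem _ hg) x).mp hx
    simpa using this

/-- A `p'`-element of `K Y` (`K` normal, `Y` a `p`-group) lies in `K`. -/
theorem mem_of_mem_sup_of_coprime {H : Type*} [Group H] {p : ℕ} [Fact p.Prime] (K Y : Subgroup H)
    [K.Normal] (hY : IsPGroup p Y) (g : H) (hg : g ∈ K ⊔ Y) (hco : (orderOf g).Coprime p) :
    g ∈ K := by
  have hg' : g ∈ ((K ⊔ Y : Subgroup H) : Set H) := hg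
  rw [Subgroup.normal_mul] at hg'
  obtain ⟨k, hk, y, hy, hky⟩ := hg'
  obtain ⟨j, hj⟩ := coe_pow_eq_one_of_isPGroup Y hY y hy
  have hπk : QuotientGroup.mk' K k = 1 := (QuotientGroup.eq_one_iff k).mpr hk
  have h1 : (QuotientGroup.mk' K g) ^ (p ^ j) = 1 := by
    rw [← hky, map_mul, hπk, one_mul, ← map_pow, hj, map_one]
  have h2 : (QuotientGroup.mk' K g) ^ (orderOf g) = 1 := by
    rw [← map_pow, pow_orderOf_eq_one, map_one]
  have h3 : orderOf (QuotientGroup.mk' K g) ∣ Nat.gcd (p ^ j) (orderOf g) :=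
    Nat.dvd_gcd (orderOf_dvd_of_pow_eq_one h1) (orderOf_dvd_of_pow_eq_one h2)
  have h4 : Nat.gcd (p ^ j) (orderOf g) = 1 := Nat.Coprime.pow_left j hco.symm
  rw [h4, Nat.dvd_one, orderOf_eq_one_iff] at h3
  exact (QuotientGroup.eq_one_iff g).mp h3

/-- If `K` is normal and `O^p(H) ≤ K Y` with `Y` a `p`-group, then `O^p(H) ≤ K`. -/
theorem pResidual_le_of_le_sup {H : Type*} [Group H] {p : ℕ} [Fact p.Prime] (K Y : Subgroup H)
    [K.Normal] (hY : IsPGroup p Y) (hle : Cfsg.pResidual p H ≤ K ⊔ Y) : Cfsg.pResidual p H ≤ K := by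
  have hgen : ∀ g : H, (orderOf g).Coprime p → g ∈ K := by
    intro g hg
    have hgR : g ∈ Cfsg.pResidual p H := Subgroup.subset_closure hg
    exact mem_of_mem_sup_of_coprime K Y hY g (hle hgR) hg
  show Subgroup.closure {g : H | Nat.Coprime (orderOf g) p} ≤ _
  rw [Subgroup.closure_le]
  exact fun g hg => hgen g hg

/-- The Sylow `p`-subgroup of a `p`-closed normal subgroup is normal in the whole group. -/
theorem sylow_map_normal_of_isPClosed {H : Type*} [Group H] [Finite H] {p : ℕ} [Fact p.Prime]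
    (N : Subgroup H) [hN : N.Normal] (hc : Cfsg.IsPClosed p ↥N) (P : Sylow p N) :
    ((P : Subgroup N).map N.subtype).Normal := by
  have h1 : (P : Subgroup N).Normal := hc P
  have h2 : (P : Subgroup N).Characteristic := P.characteristic_of_normal h1
  exact ConjAct.normal_of_characteristic_of_normal

theorem not_normal_of_not_isPClosed {H : Type*} [Group H] [Finite H] {p : ℕ} [Fact p.Prime]
    (h : ¬ Cfsg.IsPClosed p H) (T : Sylow p H) : ¬ (T : Subgroup H).Normal := by
  intro hT
  apply h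
  intro P
  obtain ⟨g, rfl⟩ := MulAction.exists_smul_eq H T P
  rw [Sylow.smul_eq_of_normal]
  exact hT

theorem le_normalizer_commutator {H : Type*} [Group H] (A B N : Subgroup H)
    (hA : N ≤ Subgroup.normalizer (A : Set H)) (hB : N ≤ Subgroup.normalizer (B : Set H)) :
    N ≤ Subgroup.normalizer ((⁅A, B⁆ : Subgroup H) : Set H) := by
  apply le_normalizer_of_map_conj_le
  intro g hg
  rw [Subgroup.map_commutator, map_conj_eq_of_mem_normalizer' A g (hA hg),
    map_conj_eq_of_mem_normalizer' B g (hB hg)]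

theorem left_le_normalizer_commutator {H : Type*} [Group H] (A B : Subgroup H) :
    A ≤ Subgroup.normalizer ((⁅A, B⁆ : Subgroup H) : Set H) := by
  apply le_normalizer_of_map_conj_le
  intro a ha
  rw [Subgroup.map_le_iff_le_comap, Subgroup.commutator_le]
  intro r hr y hy
  show (MulAut.conj a).toMonoidHom ⁅r, y⁆ ∈ ⁅A, B⁆
  have e : (MulAut.conj a).toMonoidHom ⁅r, y⁆ = ⁅a * r, y⁆ * ⁅a, y⁆⁻¹ := by
    simp only [MulEquiv.coe_toMonoidHom, MulAut.conj_apply, commutatorElement_def]; group
  rw [e]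
  exact Subgroup.mul_mem _ (Subgroup.commutator_mem_commutator (A.mul_mem ha hr) hy)
    (Subgroup.inv_mem _ (Subgroup.commutator_mem_commutator ha hy))

theorem normal_of_commutator_le {H : Type*} [Group H] (M : Subgroup H) (hM : commutator H ≤ M) :
    M.Normal := by
  constructor
  intro x hx g
  have : g * x * g⁻¹ = ⁅g, x⁆ * x := by rw [commutatorElement_def]; group
  rw [this]
  exact M.mul_mem (hM (by
    rw [commutator_def]
    exact Subgroup.commutator_mem_commutator (Subgroup.mem_top g) (Subgroup.mem_top x))) hx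

end Cfsg.Agent.helper14
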