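import Mathlib
import Cfsg.Agent.Lib_helper14_PIrr

set_option autoImplicit false
open Cfsg
open scoped commutatorElement

namespace Cfsg.Agent.helper14

theorem isPClosed_of_mulEquiv {X X' : Type*} [Group X] [Group X'] [Finite X'] {p : ℕ} [Fact p.Prime]
    (e : X ≃* X') (h : Cfsg.IsPClosed p X) : Cfsg.IsPClosed p X' := by
  intro P'
  have hsurj : Function.Surjective e.symm.toMonoidHom := e.symm.surjective
  have h1 : ((P'.mapSurjective hsurj : Sylow p X) : Subgroup X).Normal := h _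
  rw [Sylow.coe_mapSurjective] at h1
  have h2 := h1.map e.toMonoidHom e.surjective
  rw [Subgroup.map_map] at h2
  have : e.toMonoidHom.comp e.symm.toMonoidHom = MonoidHom.id X' := by ext x; simp
  rwa [this, Subgroup.map_id] at h2

/-- A `p'`-element some `p`-power of which lies in the normal subgroup `K` lies in `K`. -/
theorem mem_of_pow_mem_of_coprime {H : Type*} [Group H] {p : ℕ} [Fact p.Prime] (K : Subgroup H)
    [K.Normal] (g : H) (j : ℕ) (hj : g ^ p ^ j ∈ K) (hco : (orderOf g).Coprime p) : g ∈ K := by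
  have h1 : (QuotientGroup.mk' K g) ^ (p ^ j) = 1 := by
    rw [← map_pow]; exact (QuotientGroup.eq_one_iff _).mpr hj
  have h2 : (QuotientGroup.mk' K g) ^ (orderOf g) = 1 := by
    rw [← map_pow, pow_orderOf_eq_one, map_one]
  have h3 : orderOf (QuotientGroup.mk' K g) ∣ Nat.gcd (p ^ j) (orderOf g) :=
    Nat.dvd_gcd (orderOf_dvd_of_pow_eq_one h1) (orderOf_dvd_of_pow_eq_one h2)
  have h4 : Nat.gcd (p ^ j) (orderOf g) = 1 := Nat.Coprime.pow_left j hco.symm
  rw [h4, Nat.dvd_one, orderOf_eq_one_iff] at h3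
  exact (QuotientGroup.eq_one_iff g).mp h3

/-- `p`-subgroups of a `p`-closed normal subgroup lie in `O_p`. -/
theorem inf_le_pCore_of_isPClosed {X : Type*} [Group X] [Finite X] {p : ℕ} [Fact p.Prime]
    (N : Subgroup X) (hN : N.Normal) (hNcl : Cfsg.IsPClosed p ↥N) (T : Subgroup X)
    (hT : IsPGroup p T) : T ⊓ N ≤ Cfsg.pCore p X := by
  have hp : IsPGroup p ((T ⊓ N).subgroupOf N) :=
    (hT.to_le inf_le_left).comap_of_injective _ (Subgroup.subtype_injective _)
  obtain ⟨P, hP⟩ := hp.exists_le_sylow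
  have hPn := sylow_map_normal_of_isPClosed N hNcl P
  have hPp : IsPGroup p ((P : Subgroup N).map N.subtype) := P.isPGroup'.map _
  have hPO : (P : Subgroup N).map N.subtype ≤ Cfsg.pCore p X :=
    le_sSup (show _ ∈ {M : Subgroup X | M.Normal ∧ IsPGroup p ↥M} from ⟨hPn, hPp⟩)
  refine le_trans ?_ hPO
  intro y hy
  exact ⟨⟨y, hy.2⟩, hP (Subgroup.mem_subgroupOf.mpr hy), rfl⟩

/-- Core facts for a `p`-irreducible group and a normal subgroup `D` not containing `O^p`. -/
theorem pirr_core {X : Type*} [Group X] [Finite X] {p : ℕ} [Fact p.Prime]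
    (hX : Cfsg.IsPIrreducible p X) (D : Subgroup X) [hD : D.Normal]
    (hnc : ¬ Cfsg.pResidual p X ≤ D) :
    Cfsg.IsPClosed p ↥D ∧ (∀ T : Subgroup X, IsPGroup p T → T ⊓ D ≤ Cfsg.pCore p X) ∧
      (Cfsg.pCore p X ≤ D → Cfsg.pCore p (X ⧸ D) = ⊥) := by
  have hcl : Cfsg.IsPClosed p ↥D := by
    by_contra h
    exact hnc (hX.2 D hD h)
  refine ⟨hcl, inf_le_pCore_of_isPClosed D hD hcl, ?_⟩
  intro hOD
  rw [eq_bot_iff]
  obtain ⟨N, hNdef⟩ : ∃ N : Subgroup X,
      N = (Cfsg.pCore p (X ⧸ D)).comap (QuotientGroup.mk' D) := ⟨_, rfl⟩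
  have hNn : N.Normal := by rw [hNdef]; exact (pCore_normal' p).comap _
  have hDN : D ≤ N := by
    rw [hNdef]
    intro d hd
    show QuotientGroup.mk' D d ∈ Cfsg.pCore p (X ⧸ D)
    have : QuotientGroup.mk' D d = 1 := (QuotientGroup.eq_one_iff d).mpr hd
    rw [this]; exact Subgroup.one_mem _
  have hNp : ∀ n ∈ N, ∃ k : ℕ, n ^ p ^ k ∈ D := by
    intro n hn
    rw [hNdef] at hn
    obtain ⟨k, hk⟩ := coe_pow_eq_one_of_isPGroup _ (pCore_isPGroup' (G := X ⧸ D) p)
      (QuotientGroup.mk' D n) (show QuotientGroup.mk' D n ∈ Cfsg.pCore p (X ⧸ D) from hn)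
    refine ⟨k, ?_⟩
    rw [← map_pow] at hk
    exact (QuotientGroup.eq_one_iff _).mp hk
  have hNcl : Cfsg.IsPClosed p ↥N := by
    by_contra h
    apply hnc
    have hRN := hX.2 N hNn h
    show Subgroup.closure {g : X | Nat.Coprime (orderOf g) p} ≤ D
    rw [Subgroup.closure_le]
    intro g hg
    obtain ⟨k, hk⟩ := hNp g (hRN (Subgroup.subset_closure hg))
    exact mem_of_pow_mem_of_coprime D g k hk hg
  have hND : N ≤ D := by
    obtain ⟨S⟩ : Nonempty (Sylow p X) := inferInstance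
    intro n hn
    obtain ⟨s, hs, d, hd, rfl⟩ := exists_sylow_mul_of_pow_mem S D N hNn hNp n hn
    have hsN : s ∈ N := by
      have : s = (s * d) * d⁻¹ := by group
      rw [this]
      exact N.mul_mem hn (N.inv_mem (hDN hd))
    have hsD : s ∈ D :=
      hOD (inf_le_pCore_of_isPClosed N hNn hNcl (S : Subgroup X) S.isPGroup' ⟨hs, hsN⟩)
    exact D.mul_mem hsD hd
  intro y hy
  obtain ⟨x, rfl⟩ := QuotientGroup.mk'_surjective D y
  rw [Subgroup.mem_bot]
  have hxN : x ∈ N := by rw [hNdef]; exact hy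
  exact (QuotientGroup.eq_one_iff x).mpr (hND hxN)

end Cfsg.Agent.helper14
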