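import Mathlib
import Cfsg.Agent.Lib_helper14_PIrr2

set_option autoImplicit false
open Cfsg

namespace Cfsg.Agent.helper14

theorem isPClosed_iff_of_surjective {X X' : Type*} [Group X] [Group X'] [Finite X] {p : ℕ}
    [Fact p.Prime] (f : X →* X') (hf : Function.Surjective f) (hker : IsPGroup p f.ker) :
    Cfsg.IsPClosed p X ↔ Cfsg.IsPClosed p X' := by
  constructor
  · intro h P'
    obtain ⟨P, rfl⟩ := Sylow.mapSurjective_surjective hf p P'
    rw [Sylow.coe_mapSurjective]
    exact (h P).map f hf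
  · intro h P
    have h1 : ((P.mapSurjective hf : Sylow p X') : Subgroup X').Normal := h _
    rw [Sylow.coe_mapSurjective] at h1
    have h2 : ((P : Subgroup X).map f).comap f = P := by
      rw [Subgroup.comap_map_eq]
      exact sup_eq_left.mpr (hker.le_sylow_of_normal P)
    rw [← h2]
    exact h1.comap f

theorem isPClosed_map_iff {H H' : Type*} [Group H] [Group H'] [Finite H] {p : ℕ} [Fact p.Prime]
    (f : H →* H') (hker : IsPGroup p f.ker) (N : Subgroup H) :
    Cfsg.IsPClosed p ↥N ↔ Cfsg.IsPClosed p ↥(N.map f) := by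
  apply isPClosed_iff_of_surjective (f.subgroupMap N) (f.subgroupMap_surjective N)
  intro x
  have hx : ((x : ↥N) : H) ∈ f.ker := by
    rw [MonoidHom.mem_ker]
    have := congrArg Subtype.val (MonoidHom.mem_ker.mp x.2)
    simpa using this
  obtain ⟨k, hk⟩ := hker ⟨_, hx⟩
  refine ⟨k, ?_⟩
  apply Subtype.ext
  apply Subtype.ext
  have := congrArg Subtype.val hk
  simpa using this

/-- `O^p` passes to quotients. -/
theorem pResidual_quot_le {H : Type*} [Group H] [Finite H] {p : ℕ} [Fact p.Prime] (D : Subgroup H)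
    [D.Normal] (N : Subgroup H) (hN : N.Normal) (hle : Cfsg.pResidual p H ≤ N) :
    Cfsg.pResidual p (H ⧸ D) ≤ N.map (QuotientGroup.mk' D) := by
  have hsurj := QuotientGroup.mk'_surjective D
  have hNn : (N.map (QuotientGroup.mk' D)).Normal := hN.map _ hsurj
  show Subgroup.closure {g : H ⧸ D | Nat.Coprime (orderOf g) p} ≤ _
  rw [Subgroup.closure_le]
  intro y hy
  obtain ⟨y₀, rfl⟩ := hsurj y
  have h1 := Cfsg.Agent.helper10.pow_mem_pResidual p y₀
  have h2 : (QuotientGroup.mk' D y₀) ^ p ^ ((orderOf y₀).factorization p) ∈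
      N.map (QuotientGroup.mk' D) := by
    rw [← map_pow]
    exact ⟨_, hle h1, rfl⟩
  exact mem_of_pow_mem_of_coprime _ _ _ h2 hy

theorem pResidual_le_of_quot_le {H : Type*} [Group H] [Finite H] {p : ℕ} [Fact p.Prime]
    (D : Subgroup H) [D.Normal] (hD : IsPGroup p ↥D) (N : Subgroup H) (hN : N.Normal)
    (hle : Cfsg.pResidual p (H ⧸ D) ≤ N.map (QuotientGroup.mk' D)) :
    Cfsg.pResidual p H ≤ N := by
  apply pResidual_le_of_le_sup N D hD
  show Subgroup.closure {g : H | Nat.Coprime (orderOf g) p} ≤ _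
  rw [Subgroup.closure_le]
  intro g hg
  have h1 : QuotientGroup.mk' D g ∈ Cfsg.pResidual p (H ⧸ D) := by
    apply Subgroup.subset_closure
    show Nat.Coprime (orderOf (QuotientGroup.mk' D g)) p
    exact Nat.Coprime.coprime_dvd_left (orderOf_map_dvd _ g) hg
  have h2 : g ∈ (N.map (QuotientGroup.mk' D)).comap (QuotientGroup.mk' D) := hle h1
  rw [Subgroup.comap_map_eq, QuotientGroup.ker_mk'] at h2
  exact h2

theorem pCore_comap_quot {H : Type*} [Group H] {p : ℕ} [Fact p.Prime] (D : Subgroup H)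
    [D.Normal] (hD : IsPGroup p ↥D) :
    (Cfsg.pCore p (H ⧸ D)).comap (QuotientGroup.mk' D) = Cfsg.pCore p H := by
  have hsurj := QuotientGroup.mk'_surjective D
  apply le_antisymm
  · have hn : ((Cfsg.pCore p (H ⧸ D)).comap (QuotientGroup.mk' D)).Normal :=
      (pCore_normal' p).comap _
    have hp : IsPGroup p ((Cfsg.pCore p (H ⧸ D)).comap (QuotientGroup.mk' D)) := by
      rintro ⟨x, hx⟩
      obtain ⟨k, hk⟩ := coe_pow_eq_one_of_isPGroup _ (pCore_isPGroup' (G := H ⧸ D) p)
        (QuotientGroup.mk' D x) hx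
      rw [← map_pow] at hk
      have hxD : x ^ p ^ k ∈ D := (QuotientGroup.eq_one_iff _).mp hk
      obtain ⟨j, hj⟩ := coe_pow_eq_one_of_isPGroup D hD _ hxD
      refine ⟨k + j, ?_⟩
      apply Subtype.ext
      simp only [Subgroup.coe_pow, Subgroup.coe_one]
      rw [pow_add, pow_mul]; exact hj
    exact le_sSup (show _ ∈ {N : Subgroup H | N.Normal ∧ IsPGroup p ↥N} from ⟨hn, hp⟩)
  · rw [← Subgroup.map_le_iff_le_comap]
    have hn : ((Cfsg.pCore p H).map (QuotientGroup.mk' D)).Normal :=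
      (pCore_normal' p).map _ hsurj
    have hp : IsPGroup p ((Cfsg.pCore p H).map (QuotientGroup.mk' D)) :=
      (pCore_isPGroup' p).map _
    exact le_sSup (show _ ∈ {N : Subgroup (H ⧸ D) | N.Normal ∧ IsPGroup p ↥N} from ⟨hn, hp⟩)

end Cfsg.Agent.helper14
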