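import Mathlib
import Cfsg.Prelude.Def_Local
import Cfsg.Agent.Lib_helper1_Core
import Cfsg.Agent.Lib_helper15_CharP
import Cfsg.Agent.Lib_helper19_Sylow
import Cfsg.Agent.Lib_helper7_Quot

/-! Transport of `p`-stability statements along quotient maps (helper3). -/

set_option autoImplicit false

namespace Cfsg.Agent.helper3

open Cfsg

section general

variable {G : Type*} [Group G] {H : Type*} [Group H]

theorem pCore_map_le (p : ℕ) {f : G →* H} (hf : Function.Surjective f) :
    (Cfsg.pCore p G).map f ≤ Cfsg.pCore p H := by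
  haveI := Cfsg.Agent.helper1.pCore_normal (G := G) p
  exact Cfsg.Agent.helper1.le_pCore (Subgroup.Normal.map inferInstance f hf)
    ((Cfsg.Agent.helper1.pCore_isPGroup p).map f)

/-- If `f` is surjective and kills `C`, membership of `B C / C` in `O_p(N/C)` passes to `f`. -/
theorem map_le_pCore_of_factor (p : ℕ) (C : Subgroup G) [C.Normal] (f : G →* H)
    (hf : Function.Surjective f) (hC : C ≤ f.ker) (B : Subgroup G)
    (h : B.map (QuotientGroup.mk' C) ≤ Cfsg.pCore p (G ⧸ C)) :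
    B.map f ≤ Cfsg.pCore p H := by
  have h1 : f = (QuotientGroup.lift C f hC).comp (QuotientGroup.mk' C) := by
    ext x; simp
  have hs : Function.Surjective (QuotientGroup.lift C f hC) := by
    intro q
    obtain ⟨x, rfl⟩ := hf q
    exact ⟨QuotientGroup.mk x, by simp⟩
  rw [h1, ← Subgroup.map_map]
  exact (Subgroup.map_mono h).trans (pCore_map_le p hs)

/-- If `f` is surjective with kernel exactly `C`, the converse holds. -/
theorem map_le_pCore_of_factor_inj (p : ℕ) (C : Subgroup G) [C.Normal] (f : G →* H)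
    (hf : Function.Surjective f) (hC : C = f.ker) (B : Subgroup G)
    (h : B.map f ≤ Cfsg.pCore p H) :
    B.map (QuotientGroup.mk' C) ≤ Cfsg.pCore p (G ⧸ C) := by
  have hs : Function.Surjective (QuotientGroup.lift C f hC.le) := by
    intro q
    obtain ⟨x, rfl⟩ := hf q
    exact ⟨QuotientGroup.mk x, by simp⟩
  have hi : Function.Injective (QuotientGroup.lift C f hC.le) := by
    rw [← MonoidHom.ker_eq_bot_iff, QuotientGroup.ker_lift, ← hC]
    exact QuotientGroup.map_mk'_self C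
  let e : (G ⧸ C) ≃* H := MulEquiv.ofBijective (QuotientGroup.lift C f hC.le) ⟨hi, hs⟩
  have he := Cfsg.Agent.helper15.pCore_map_equiv p e
  rintro _ ⟨b, hb, rfl⟩
  have h1 : f b ∈ Cfsg.pCore p H := h ⟨b, hb, rfl⟩
  rw [← he] at h1
  obtain ⟨y, hy, hye⟩ := h1
  have h2 : e y = e (QuotientGroup.mk' C b) := by
    have h3 : e y = f b := hye
    rw [h3]
    show f b = QuotientGroup.lift C f hC.le (QuotientGroup.mk b)
    simp
  rw [← e.injective h2]
  exact hy

end general

section transport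

variable {G : Type*} [Group G] (K : Subgroup G) [K.Normal]

/-- The map `N_G(P) → N_{G/K}(PK/K)`. -/
noncomputable def normMap (P : Subgroup G) :
    ↥(Subgroup.normalizer (P : Set G)) →*
      ↥(Subgroup.normalizer ((P.map (QuotientGroup.mk' K) : Subgroup (G ⧸ K)) : Set (G ⧸ K))) :=
  ((QuotientGroup.mk' K).comp (Subgroup.subtype _)).codRestrict _
    (fun n => Subgroup.le_normalizer_map (QuotientGroup.mk' K) ⟨n, n.2, rfl⟩)

@[simp] theorem normMap_coe (P : Subgroup G) (n : ↥(Subgroup.normalizer (P : Set G))) :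
    ((normMap K P n : ↥(Subgroup.normalizer ((P.map (QuotientGroup.mk' K) : Subgroup (G ⧸ K)) : Set (G ⧸ K)))) : G ⧸ K)
      = QuotientGroup.mk' K (n : G) := rfl

/-- The map `N_G(P) → N_{G/K}(PK/K) / C_{G/K}(PK/K)`. -/
noncomputable def stabMap (P : Subgroup G) :
    ↥(Subgroup.normalizer (P : Set G)) →*
      ↥(Subgroup.normalizer ((P.map (QuotientGroup.mk' K) : Subgroup (G ⧸ K)) : Set (G ⧸ K))) ⧸
        ((Subgroup.centralizer ((P.map (QuotientGroup.mk' K) : Subgroup (G ⧸ K)) : Set (G ⧸ K))).subgroupOf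
          (Subgroup.normalizer ((P.map (QuotientGroup.mk' K) : Subgroup (G ⧸ K)) : Set (G ⧸ K)))) :=
  (QuotientGroup.mk' _).comp (normMap K P)

theorem stabMap_surjective (P : Subgroup G) (h : Subgroup.normalizer (P : Set G) ⊔ K = ⊤) :
    Function.Surjective (stabMap K P) := by
  intro q
  obtain ⟨⟨y, hy⟩, rfl⟩ := QuotientGroup.mk'_surjective _ q
  obtain ⟨g, rfl⟩ := QuotientGroup.mk'_surjective K y
  have hg : g ∈ Subgroup.normalizer (P : Set G) ⊔ K := by rw [h]; trivial
  rw [Subgroup.mem_sup_of_normal_right] at hg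
  obtain ⟨n, hn, k, hk, rfl⟩ := hg
  refine ⟨⟨n, hn⟩, ?_⟩
  show (QuotientGroup.mk' _) (normMap K P ⟨n, hn⟩) = QuotientGroup.mk' _ _
  congr 1
  apply Subtype.ext
  simp only [normMap_coe]
  have hk1 : (QuotientGroup.mk' K) k = 1 := (QuotientGroup.eq_one_iff k).2 hk
  rw [map_mul, hk1, mul_one]

theorem centralizer_le_ker_stabMap (P : Subgroup G) :
    (Subgroup.centralizer (P : Set G)).subgroupOf (Subgroup.normalizer (P : Set G))
      ≤ (stabMap K P).ker := by
  intro n hn
  rw [Subgroup.mem_subgroupOf] at hn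
  rw [MonoidHom.mem_ker]
  show (QuotientGroup.mk' _) (normMap K P n) = 1
  rw [QuotientGroup.mk'_apply, QuotientGroup.eq_one_iff, Subgroup.mem_subgroupOf, normMap_coe,
    Subgroup.mem_centralizer_iff]
  rintro _ ⟨x, hx, rfl⟩
  rw [← map_mul, ← map_mul, hn x hx]

theorem ker_stabMap_le (P : Subgroup G) (hKP : K ⊓ P = ⊥) :
    (stabMap K P).ker ≤
      (Subgroup.centralizer (P : Set G)).subgroupOf (Subgroup.normalizer (P : Set G)) := by
  intro n hn
  rw [MonoidHom.mem_ker] at hn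
  have hn' : (QuotientGroup.mk' _) (normMap K P n) = 1 := hn
  rw [QuotientGroup.mk'_apply, QuotientGroup.eq_one_iff, Subgroup.mem_subgroupOf, normMap_coe,
    Subgroup.mem_centralizer_iff] at hn'
  rw [Subgroup.mem_subgroupOf, Subgroup.mem_centralizer_iff]
  intro x hx
  have h1 := hn' _ ⟨x, hx, rfl⟩
  rw [← map_mul, ← map_mul] at h1
  have h2 : (x * (n : G))⁻¹ * ((n : G) * x) ∈ K := by
    rw [← QuotientGroup.eq_one_iff]
    show (QuotientGroup.mk' K) ((x * (n : G))⁻¹ * ((n : G) * x)) = 1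
    rw [map_mul, map_inv, ← h1]
    simp
  have h3 : (x * (n : G))⁻¹ * ((n : G) * x) ∈ P := by
    have hnx : (n : G)⁻¹ * x⁻¹ * (n : G) ∈ P := by
      have h5 := (Subgroup.mem_normalizer_iff'.1 n.2 ((n : G)⁻¹ * x⁻¹)).2
      have h6 : (n : G) * ((n : G)⁻¹ * x⁻¹) = x⁻¹ := by group
      rw [h6] at h5
      exact h5 (P.inv_mem hx)
    have : (x * (n : G))⁻¹ * ((n : G) * x) = ((n : G)⁻¹ * x⁻¹ * (n : G)) * x := by group
    rw [this]
    exact P.mul_mem hnx hx
  have h4 : (x * (n : G))⁻¹ * ((n : G) * x) ∈ K ⊓ P := ⟨h2, h3⟩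
  rw [hKP, Subgroup.mem_bot] at h4
  have : (n : G) * x = (x * (n : G)) * ((x * (n : G))⁻¹ * ((n : G) * x)) := by group
  rw [this, h4, mul_one]

theorem transport_down (p : ℕ) (P₁ A₁ : Subgroup G)
    (hA : A₁ ≤ Subgroup.normalizer (P₁ : Set G))
    (hsurj : Subgroup.normalizer (P₁ : Set G) ⊔ K = ⊤)
    (h : (A₁.subgroupOf (Subgroup.normalizer (P₁ : Set G))).map
          (QuotientGroup.mk' ((Subgroup.centralizer (P₁ : Set G)).subgroupOf
            (Subgroup.normalizer (P₁ : Set G))))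
        ≤ Cfsg.pCore p _) :
    ∀ (Pb Ab : Subgroup (G ⧸ K)), Pb = P₁.map (QuotientGroup.mk' K) →
      Ab = A₁.map (QuotientGroup.mk' K) →
      (Ab.subgroupOf (Subgroup.normalizer (Pb : Set (G ⧸ K)))).map
          (QuotientGroup.mk' ((Subgroup.centralizer (Pb : Set (G ⧸ K))).subgroupOf
            (Subgroup.normalizer (Pb : Set (G ⧸ K)))))
        ≤ Cfsg.pCore p _ := by
  rintro _ _ rfl rfl
  have h1 := map_le_pCore_of_factor p _ (stabMap K P₁) (stabMap_surjective K P₁ hsurj)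
    (centralizer_le_ker_stabMap K P₁) _ h
  refine le_trans ?_ h1
  rintro _ ⟨⟨y, hy⟩, hyA, rfl⟩
  rw [SetLike.mem_coe, Subgroup.mem_subgroupOf] at hyA
  obtain ⟨a, ha, rfl⟩ := hyA
  exact ⟨⟨a, hA ha⟩, by rw [SetLike.mem_coe, Subgroup.mem_subgroupOf]; exact ha, rfl⟩

theorem transport_up (p : ℕ) (P A : Subgroup G)
    (hsurj : Subgroup.normalizer (P : Set G) ⊔ K = ⊤) (hKP : K ⊓ P = ⊥)
    (h : ((A.map (QuotientGroup.mk' K)).subgroupOf
          (Subgroup.normalizer ((P.map (QuotientGroup.mk' K) : Subgroup (G ⧸ K)) : Set (G ⧸ K)))).map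
          (QuotientGroup.mk' ((Subgroup.centralizer
            ((P.map (QuotientGroup.mk' K) : Subgroup (G ⧸ K)) : Set (G ⧸ K))).subgroupOf
            (Subgroup.normalizer ((P.map (QuotientGroup.mk' K) : Subgroup (G ⧸ K)) : Set (G ⧸ K)))))
        ≤ Cfsg.pCore p _) :
    (A.subgroupOf (Subgroup.normalizer (P : Set G))).map
          (QuotientGroup.mk' ((Subgroup.centralizer (P : Set G)).subgroupOf
            (Subgroup.normalizer (P : Set G))))
        ≤ Cfsg.pCore p _ := by
  apply map_le_pCore_of_factor_inj p _ (stabMap K P) (stabMap_surjective K P hsurj)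
    (le_antisymm (centralizer_le_ker_stabMap K P) (ker_stabMap_le K P hKP))
  refine le_trans ?_ h
  rintro _ ⟨⟨a, ha⟩, haA, rfl⟩
  rw [SetLike.mem_coe, Subgroup.mem_subgroupOf] at haA
  refine ⟨normMap K P ⟨a, ha⟩, ?_, rfl⟩
  rw [SetLike.mem_coe, Subgroup.mem_subgroupOf]
  exact ⟨a, haA, rfl⟩

end transport

end Cfsg.Agent.helper3
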