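import Mathlib
import Cfsg.Agent.Lib_helper7_Comp

set_option autoImplicit false
open scoped commutatorElement Pointwise

namespace Cfsg.Agent.helper19

open Cfsg.Agent.helper7

variable {G : Type*} [Group G]

/-- `MinNormalIn L K`: `L` is a minimal nontrivial `K`-invariant subgroup. -/
def MinNormalIn (L K : Subgroup G) : Prop :=
  L ≠ ⊥ ∧ K ≤ Subgroup.normalizer (L : Set G) ∧
    ∀ L' : Subgroup G, L' ≤ L → L' ≠ ⊥ → K ≤ Subgroup.normalizer (L' : Set G) → L' = L

theorem MinNormalIn.conj {L K : Subgroup G} (h : MinNormalIn L K) (g : G) :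
    MinNormalIn (cj g L) (cj g K) := by
  obtain ⟨h1, h2, h3⟩ := h
  refine ⟨fun h => h1 (cj_eq_bot_iff.1 h), ?_, ?_⟩
  · rw [← cj_normalizer]; exact cj_mono h2
  · intro L' hL' hne hn
    have e := h3 (cj g⁻¹ L') ?_ ?_ ?_
    · rw [← e, cj_cj_inv]
    · rw [cj_le_iff, inv_inv]; exact hL'
    · intro h; exact hne (cj_eq_bot_iff.1 h)
    · rw [← cj_normalizer]
      have := cj_mono (g := g⁻¹) hn
      rwa [cj_inv_cj] at this

theorem exists_minNormalIn_le [Finite G] {L K : Subgroup G} (hne : L ≠ ⊥)
    (hn : K ≤ Subgroup.normalizer (L : Set G)) :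
    ∃ L' : Subgroup G, L' ≤ L ∧ MinNormalIn L' K := by
  classical
  have hfin : (Set.univ : Set (Subgroup G)).Finite := Set.toFinite _
  let S : Set (Subgroup G) := {L' | L' ≤ L ∧ L' ≠ ⊥ ∧ K ≤ Subgroup.normalizer (L' : Set G)}
  have hS : S.Finite := Set.toFinite _
  have hSne : S.Nonempty := ⟨L, le_rfl, hne, hn⟩
  obtain ⟨M, hM, hmin⟩ := hS.exists_minimal hSne
  refine ⟨M, hM.1, hM.2.1, hM.2.2, ?_⟩
  intro L' hL' hne' hn'
  have : L' ∈ S := ⟨hL'.trans hM.1, hne', hn'⟩
  exact le_antisymm hL' (hmin this hL')

/-- Wielandt: a minimal normal subgroup normalizes every subnormal subgroup (relative form). -/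
theorem minNormal_le_normalizer_aux [Finite G] : ∀ (n : ℕ) (K S L : Subgroup G), Nat.card K ≤ n →
    SN S K → L ≤ K → MinNormalIn L K → L ≤ Subgroup.normalizer (S : Set G) := by
  intro n
  induction n with
  | zero =>
    intro K S L hK
    have : 0 < Nat.card K := Nat.card_pos
    omega
  | succ n ih =>
    intro K S L hK hS hLK hL
    by_cases hSK : S = K
    · subst hSK
      exact hLK.trans Subgroup.le_normalizer
    obtain ⟨B, hSB, hBK, hKB, hBne⟩ := hS.exists_normal hSK
    have hSB' : SN S B := hS.of_le hSB hBK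
    obtain ⟨hLne, hKL, hLmin⟩ := hL
    have hKLB : K ≤ Subgroup.normalizer ((L ⊓ B : Subgroup G) : Set G) := by
      intro k hk
      apply mem_normalizer_of_cj_eq
      rw [cj_inf, cj_eq_of_mem_normalizer (hKL hk), cj_eq_of_mem_normalizer (hKB hk)]
    by_cases hLB : L ⊓ B = ⊥
    · -- `L` centralizes `B`
      have hcomm : ⁅L, B⁆ = ⊥ := by
        rw [eq_bot_iff, ← hLB]
        refine le_inf ?_ ?_
        · rw [Subgroup.commutator_comm]
          exact Subgroup.commutator_le.2 fun b hb l hl => by
            have hbn := hKL (hBK hb)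
            rw [commutatorElement_def]
            have h1 : b * l * b⁻¹ ∈ L := (Subgroup.mem_normalizer_iff.1 hbn l).1 hl
            exact L.mul_mem h1 (L.inv_mem hl)
        · exact Subgroup.commutator_le.2 fun l hl b hb => by
            have hln := hKB (hLK hl)
            rw [commutatorElement_def]
            have h1 : l * b * l⁻¹ ∈ B := (Subgroup.mem_normalizer_iff.1 hln b).1 hb
            exact B.mul_mem h1 (B.inv_mem hb)
      have hcent : L ≤ Subgroup.centralizer (B : Set G) := le_centralizer_of_comm_eq_bot (by rw [Subgroup.commutator_comm]; exact hcomm)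
      intro l hl
      rw [Subgroup.mem_normalizer_iff]
      intro s
      have hc := (Subgroup.mem_centralizer_iff.1 (hcent hl)) s
      constructor
      · intro hs
        have := hc (hSB hs)
        have e : l * s * l⁻¹ = s := by rw [← this]; group
        rw [e]; exact hs
      · intro hs
        have hsB : s ∈ B := by
          have hln := hKB (hLK hl)
          have := (Subgroup.mem_normalizer_iff.1 hln s).2 (hSB hs)
          exact this
        have := hc hsB
        have e : l * s * l⁻¹ = s := by rw [← this]; group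
        rwa [e] at hs
    · have hLleB : L ≤ B := by
        have := hLmin (L ⊓ B) inf_le_left hLB hKLB
        rw [← this]; exact inf_le_right
      have hBlt : Nat.card B < Nat.card K := card_lt_of_lt hBK hBne
      -- family of minimal `B`-invariant subgroups of `L`
      let F : Set (Subgroup G) := {L' | L' ≤ L ∧ MinNormalIn L' B}
      have hFne : F.Nonempty := by
        obtain ⟨L', h1, h2⟩ := exists_minNormalIn_le hLne (hBK.trans hKL)
        exact ⟨L', h1, h2⟩
      have hFconj : ∀ k ∈ K, ∀ L' ∈ F, cj k L' ∈ F := by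
        intro k hk L' hL'
        refine ⟨?_, ?_⟩
        · have := cj_mono (g := k) hL'.1
          rwa [cj_eq_of_mem_normalizer (hKL hk)] at this
        · have := hL'.2.conj k
          rwa [cj_eq_of_mem_normalizer (hKB hk)] at this
      have hTle : sSup F ≤ L := sSup_le fun L' h => h.1
      have hTne : sSup F ≠ ⊥ := by
        obtain ⟨L', hL'⟩ := hFne
        intro h
        have : L' ≤ ⊥ := h ▸ le_sSup hL'
        exact hL'.2.1 (le_bot_iff.1 this)
      have hTK : K ≤ Subgroup.normalizer ((sSup F : Subgroup G) : Set G) := by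
        have key : ∀ k ∈ K, cj k (sSup F) ≤ sSup F := by
          intro k hk
          rw [cj_sSup]
          apply sSup_le
          rintro _ ⟨L', hL', rfl⟩
          exact le_sSup (hFconj k hk L' hL')
        intro k hk
        apply mem_normalizer_of_cj_eq
        apply le_antisymm (key k hk)
        have := key k⁻¹ (K.inv_mem hk)
        rw [cj_le_iff, inv_inv] at this
        exact this
      have hT : sSup F = L := hLmin _ hTle hTne hTK
      rw [← hT]
      apply sSup_le
      intro L' hL'
      exact ih B S L' (by omega) hSB' (hL'.1.trans hLleB) hL'.2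

theorem minNormal_le_normalizer [Finite G] {K S L : Subgroup G}
    (hS : SN S K) (hLK : L ≤ K) (hL : MinNormalIn L K) : L ≤ Subgroup.normalizer (S : Set G) :=
  minNormal_le_normalizer_aux _ K S L le_rfl hS hLK hL

end Cfsg.Agent.helper19

namespace Cfsg.Agent.helper19

open Cfsg.Agent.helper7

variable {G : Type*} [Group G]

/-- Core-free case: a subnormal subgroup inside a core-free maximal subgroup is trivial. -/
theorem subnormal_eq_bot_of_core_bot [Finite G] (M N : Subgroup G) (hM : IsCoatom M)
    (hcore : ∀ K : Subgroup G, K.Normal → K ≤ M → K = ⊥) (hN : N.IsSubnormal) (hNM : N ≤ M) :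
    N = ⊥ := by
  by_cases hbot : (⊤ : Subgroup G) = ⊥
  · rw [eq_bot_iff, ← hbot]; exact le_top
  have htn : (⊤ : Subgroup G) ≤ Subgroup.normalizer (((⊤ : Subgroup G)) : Set G) :=
    Subgroup.le_normalizer
  obtain ⟨L, -, hL⟩ := exists_minNormalIn_le hbot htn
  have hLn : L.Normal := by
    rw [← Subgroup.normalizer_eq_top_iff]
    exact top_le_iff.1 hL.2.1
  have hLM : ¬ L ≤ M := fun h => hL.1 (hcore L hLn h)
  have hsup : M ⊔ L = ⊤ := by
    by_contra hne
    have hlt : M < M ⊔ L := lt_of_le_of_ne le_sup_left (fun h => hLM (h ▸ le_sup_right))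
    exact hne (hM.2 _ hlt)
  have hLN : L ≤ Subgroup.normalizer (N : Set G) :=
    minNormal_le_normalizer (sn_top_iff.2 hN) le_top hL
  have hle : N ≤ M.normalCore := by
    intro n hn b
    have hb : b ∈ M ⊔ L := hsup ▸ Subgroup.mem_top b
    rw [Subgroup.mem_sup_of_normal_right] at hb
    obtain ⟨m, hm, l, hl, rfl⟩ := hb
    have h1 : l * n * l⁻¹ ∈ N := (Subgroup.mem_normalizer_iff.1 (hLN hl) n).1 hn
    have e : m * l * n * (m * l)⁻¹ = m * (l * n * l⁻¹) * m⁻¹ := by group
    rw [e]
    exact M.mul_mem (M.mul_mem hm (hNM h1)) (M.inv_mem hm)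
  rw [hcore _ inferInstance (Subgroup.normalCore_le M)] at hle
  exact le_bot_iff.1 hle

theorem subnormal_le_core_aux [Finite G] (M N C : Subgroup G) [C.Normal] (hCM : C ≤ M)
    (hC : ∀ K : Subgroup G, K.Normal → K ≤ M → K ≤ C) (hM : IsCoatom M)
    (hN : N.IsSubnormal) (hNM : N ≤ M) : N ≤ C := by
  let π := QuotientGroup.mk' C
  have hπ : Function.Surjective π := QuotientGroup.mk'_surjective C
  have hker : π.ker = C := QuotientGroup.ker_mk' C
  have hcomap_map : (M.map π).comap π = M := by
    rw [Subgroup.comap_map_eq, hker, sup_eq_left.2 hCM]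
  have hM' : IsCoatom (M.map π) := by
    constructor
    · intro h
      apply hM.1
      rw [← hcomap_map, h, Subgroup.comap_top]
    · intro K' hK'
      have h1 : M ≤ K'.comap π := by
        rw [← hcomap_map]; exact Subgroup.comap_mono hK'.le
      have h2 : K'.comap π ≠ M := by
        intro h
        have : K' = M.map π := by
          rw [← h, Subgroup.map_comap_eq_self_of_surjective hπ]
        exact hK'.ne' this
      have h3 : K'.comap π = ⊤ := hM.2 _ (lt_of_le_of_ne h1 (Ne.symm h2))
      rw [← Subgroup.map_comap_eq_self_of_surjective hπ K', h3,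
        Subgroup.map_top_of_surjective π hπ]
  have hcore' : ∀ K' : Subgroup (G ⧸ C), K'.Normal → K' ≤ M.map π → K' = ⊥ := by
    intro K' hK'n hK'M
    have hn : (K'.comap π).Normal := inferInstance
    have h1 : K'.comap π ≤ M := by
      rw [← hcomap_map]; exact Subgroup.comap_mono hK'M
    have h2 : K'.comap π ≤ C := hC _ hn h1
    rw [← Subgroup.map_comap_eq_self_of_surjective hπ K', eq_bot_iff]
    calc (K'.comap π).map π ≤ C.map π := Subgroup.map_mono h2
      _ = ⊥ := (Subgroup.map_eq_bot_iff _).2 hker.ge
  have key := subnormal_eq_bot_of_core_bot (M.map π) (N.map π) hM' hcore' (hN.map hπ)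
    (Subgroup.map_mono hNM)
  rw [Subgroup.map_eq_bot_iff, hker] at key
  exact key

/-- A subnormal subgroup contained in a maximal subgroup lies in its core. -/
theorem subnormal_le_core [Finite G] (M N : Subgroup G) (hM : IsCoatom M)
    (hN : N.IsSubnormal) (hNM : N ≤ M) : N ≤ M.normalCore :=
  subnormal_le_core_aux M N M.normalCore (Subgroup.normalCore_le M)
    (fun _ hK h => (Subgroup.normal_le_normalCore (hN := hK)).2 h) hM hN hNM

end Cfsg.Agent.helper19
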