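import Mathlib
import Cfsg.Agent.Lib_helper19_Subnormal
import Cfsg.Agent.Lib_helper7_Fitting

set_option autoImplicit false
open scoped commutatorElement Pointwise

namespace Cfsg.Agent.helper19

open Cfsg.Agent.helper7

variable {G : Type*} [Group G]

theorem cj_iSup {ι : Sort*} (g : G) (H : ι → Subgroup G) : cj g (⨆ i, H i) = ⨆ i, cj g (H i) :=
  Subgroup.map_iSup _ _

theorem le_normalizer_iSup {ι : Sort*} {T : Subgroup G} (H : ι → Subgroup G)
    (h : ∀ i, T ≤ Subgroup.normalizer (H i : Set G)) :
    T ≤ Subgroup.normalizer ((⨆ i, H i : Subgroup G) : Set G) := by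
  intro t ht
  apply mem_normalizer_of_cj_eq
  rw [cj_iSup]
  congr 1
  funext i
  exact cj_eq_of_mem_normalizer (h i ht)

/-- `M` is a primitive subgroup: it is the normalizer of each of its nontrivial normal subgroups. -/
def IsPrim (M : Subgroup G) : Prop :=
  ∀ N : Subgroup G, N ≤ M → M ≤ Subgroup.normalizer (N : Set G) → N ≠ ⊥ →
    Subgroup.normalizer (N : Set G) = M

/-- The join of the `M`-conjugates of `L`. -/
def conjClosureIn (L M : Subgroup G) : Subgroup G := ⨆ m : M, cj (m : G) L

theorem le_conjClosureIn (L M : Subgroup G) : L ≤ conjClosureIn L M := by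
  have h := le_iSup (fun m : M => cj (m : G) L) 1
  have e : cj ((1 : M) : G) L = L := by
    rw [Subgroup.coe_one]; exact cj_one L
  rw [e] at h
  exact h

theorem conjClosureIn_le {L M : Subgroup G} (h : L ≤ M) : conjClosureIn L M ≤ M := by
  apply iSup_le
  intro m
  have := cj_mono (g := (m : G)) h
  rwa [cj_eq_of_mem_normalizer (Subgroup.le_normalizer m.2)] at this

theorem le_normalizer_conjClosureIn (L M : Subgroup G) :
    M ≤ Subgroup.normalizer ((conjClosureIn L M : Subgroup G) : Set G) := by
  have key : ∀ k ∈ M, cj k (conjClosureIn L M) ≤ conjClosureIn L M := by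
    intro k hk
    unfold conjClosureIn
    rw [cj_iSup]
    apply iSup_le
    intro m
    rw [cj_cj]
    exact le_iSup (fun m : M => cj (m : G) L) (⟨k, hk⟩ * m)
  intro k hk
  apply mem_normalizer_of_cj_eq
  apply le_antisymm (key k hk)
  have := key k⁻¹ (M.inv_mem hk)
  rw [cj_le_iff, inv_inv] at this
  exact this

theorem cj_top (g : G) : cj g (⊤ : Subgroup G) = ⊤ :=
  cj_eq_of_mem_normalizer (Subgroup.le_normalizer (Subgroup.mem_top g))

/-- A primitive subgroup contains no nontrivial subnormal subgroup. -/
theorem IsPrim.subnormal_eq_bot [Finite G] {M : Subgroup G} (hM : M ≠ ⊤) (hprim : IsPrim M)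
    {L : Subgroup G} (hL : SN L ⊤) (hLM : L ≤ M) : L = ⊥ := by
  by_contra hne
  have hbot : (⊤ : Subgroup G) ≠ ⊥ := by
    intro h
    apply hM
    rw [eq_top_iff, h]; exact bot_le
  have htn : (⊤ : Subgroup G) ≤ Subgroup.normalizer (((⊤ : Subgroup G)) : Set G) :=
    Subgroup.le_normalizer
  obtain ⟨T, -, hT⟩ := exists_minNormalIn_le hbot htn
  set N := conjClosureIn L M with hN
  have hNM : N ≤ M := conjClosureIn_le hLM
  have hNne : N ≠ ⊥ := by
    intro h
    apply hne
    rw [eq_bot_iff, ← h]; exact le_conjClosureIn L M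
  have hnN : Subgroup.normalizer (N : Set G) = M :=
    hprim N hNM (le_normalizer_conjClosureIn L M) hNne
  have hTN : T ≤ Subgroup.normalizer (N : Set G) := by
    apply le_normalizer_iSup
    intro m
    have hsn : SN (cj (m : G) L) ⊤ := by
      have := hL.conj (m : G)
      rwa [cj_top] at this
    exact minNormal_le_normalizer hsn le_top hT
  rw [hnN] at hTN
  have := hprim T hTN (le_top.trans hT.2.1) hT.1
  apply hM
  rw [← this]
  exact top_le_iff.1 hT.2.1

/-- A primitive subgroup meets the Fitting subgroup trivially. -/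
theorem IsPrim.inf_fitting_eq_bot [Finite G] {M : Subgroup G} (hM : M ≠ ⊤) (hprim : IsPrim M) :
    M ⊓ Cfsg.fittingSubgroup G = ⊥ := by
  by_contra hne
  set F := Cfsg.fittingSubgroup G with hF
  have hFn : F.Normal := by
    rw [hF, fittingSubgroup_eq, ← Subgroup.normalizer_eq_top_iff]
    exact top_le_iff.1 (fitOf_normal ⊤)
  have hnil : Group.IsNilpotent ↥F := by
    rw [hF, fittingSubgroup_eq]; exact fitOf_nilpotent ⊤
  set D := M ⊓ F with hD
  have hMD : M ≤ Subgroup.normalizer (D : Set G) := by
    intro m hm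
    have h1 : m ∈ Subgroup.normalizer (M : Set G) := Subgroup.le_normalizer hm
    have h2 : m ∈ Subgroup.normalizer (F : Set G) := by
      rw [Subgroup.normalizer_eq_top_iff.2 hFn]; exact Subgroup.mem_top m
    exact Subgroup.inf_normalizer_le_normalizer_inf ⟨h1, h2⟩
  have hnD : Subgroup.normalizer (D : Set G) = M := hprim D inf_le_left hMD hne
  have hnc := @Group.normalizerCondition_of_isNilpotent ↥F _ hnil
  rw [normalizerCondition_iff_only_full_group_self_normalizing] at hnc
  have h1 : D.subgroupOf F = ⊤ := by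
    apply hnc
    apply le_antisymm _ Subgroup.le_normalizer
    intro x hx
    rw [Subgroup.mem_subgroupOf]
    have hx' : (x : G) ∈ Subgroup.normalizer (D : Set G) := by
      rw [Subgroup.mem_normalizer_iff] at hx ⊢
      intro y
      constructor
      · intro hy
        have hyF : y ∈ F := hy.2
        have := (hx ⟨y, hyF⟩).1 (by rw [Subgroup.mem_subgroupOf]; exact hy)
        rw [Subgroup.mem_subgroupOf] at this
        simpa using this
      · intro hy
        have hyF : y ∈ F := by
          have h3 : (x : G) * y * (x : G)⁻¹ ∈ F := hy.2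
          have := hFn.conj_mem _ h3 (x : G)⁻¹
          have e : (x : G)⁻¹ * ((x : G) * y * (x : G)⁻¹) * ((x : G)⁻¹)⁻¹ = y := by group
          rwa [e] at this
        have := (hx ⟨y, hyF⟩).2 (by rw [Subgroup.mem_subgroupOf]; simpa using hy)
        rw [Subgroup.mem_subgroupOf] at this
        exact this
    rw [hnD] at hx'
    exact ⟨hx', x.2⟩
  have hFM : F ≤ M := by
    rw [Subgroup.subgroupOf_eq_top] at h1
    exact h1.trans inf_le_left
  have hDF : D = F := inf_eq_right.2 hFM
  apply hM
  rw [← hnD, hDF]
  exact Subgroup.normalizer_eq_top_iff.2 hFn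

end Cfsg.Agent.helper19
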