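import Mathlib
import Cfsg.Agent.Lib_helper19_Primitive
import Cfsg.Agent.Lib_helper7_FStar
import Cfsg.Agent.Lib_helper7_Extra

set_option autoImplicit false
open scoped commutatorElement Pointwise

namespace Cfsg.Agent.helper19

open Cfsg.Agent.helper7

variable {G : Type*} [Group G]

theorem sn_of_normal_top {N : Subgroup G} (hN : N.Normal) : SN N ⊤ :=
  SN.of_normal le_top (by rw [Subgroup.normalizer_eq_top_iff.2 hN])

/-- In a primitive subgroup `M`, anything centralizing a nontrivial `M`-invariant subgroup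
of `M` lies in `M`. -/
theorem IsPrim.centralizer_le {M X : Subgroup G} (hprim : IsPrim M) (hXM : X ≤ M)
    (hMX : M ≤ Subgroup.normalizer (X : Set G)) (hX : X ≠ ⊥) :
    Subgroup.centralizer (X : Set G) ≤ M := by
  have := hprim X hXM hMX hX
  rw [← this]
  exact Subgroup.centralizer_le_normalizer _

theorem primitive_fstar [Finite G] {M : Subgroup G} (hM : M ≠ ⊤) (hprim : IsPrim M)
    {N : Subgroup G} (hN : N.Normal) (hX : M ⊓ fstarOf N ≠ ⊥) :
    fitOf (⊤ : Subgroup G) = ⊥ ∧ fstarOf N = fstarOf (⊤ : Subgroup G) ∧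
      fstarOf (⊤ : Subgroup G) = layerOf (⊤ : Subgroup G) ∧
      ∀ K : Subgroup G, K.Normal → K ≠ ⊥ →
        (∀ K' : Subgroup G, K'.Normal → K' ≤ K → K' = ⊥ ∨ K' = K) → K ≤ N := by
  have hNsn : SN N ⊤ := sn_of_normal_top hN
  set X := M ⊓ fstarOf N with hXdef
  have hXM : X ≤ M := inf_le_left
  have hMX : M ≤ Subgroup.normalizer (X : Set G) := by
    intro m hm
    have h1 : m ∈ Subgroup.normalizer (M : Set G) := Subgroup.le_normalizer hm
    have h2 : m ∈ Subgroup.normalizer ((fstarOf N : Subgroup G) : Set G) := by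
      apply normalizer_le_normalizer_fstarOf N
      rw [Subgroup.normalizer_eq_top_iff.2 hN]; exact Subgroup.mem_top m
    exact Subgroup.inf_normalizer_le_normalizer_inf ⟨h1, h2⟩
  have hCX : Subgroup.centralizer (X : Set G) ≤ M := hprim.centralizer_le hXM hMX hX
  have hCN : Subgroup.centralizer (N : Set G) ≤ M := by
    refine le_trans (Subgroup.centralizer_le ?_) hCX
    exact fun x hx => fstarOf_le N hx.2
  have hfit : fitOf N ≤ fitOf (⊤ : Subgroup G) :=
    nilpotent_sn_le_fitOf ((fitOf_sn N).trans hNsn) (fitOf_nilpotent N)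
  have hlay : layerOf N ≤ layerOf (⊤ : Subgroup G) := by
    apply sSup_le
    intro L hL
    exact comp_le_layerOf (Comp.trans hL hNsn)
  have hEF : layerOf (⊤ : Subgroup G) ≤ Subgroup.centralizer ((fitOf (⊤ : Subgroup G) : Subgroup G) : Set G) := by
    apply le_centralizer_of_comm_eq_bot
    rw [Subgroup.commutator_comm]
    exact layerOf_comm_fitOf ⊤
  -- the centre of the Fitting subgroup
  set F := fitOf (⊤ : Subgroup G) with hF
  set Z := F ⊓ Subgroup.centralizer (F : Set G) with hZ
  have hZ1 : Z ≤ Subgroup.centralizer ((fstarOf N : Subgroup G) : Set G) := by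
    rw [Subgroup.le_centralizer_iff]
    apply sup_le
    · refine hlay.trans (hEF.trans ?_)
      exact Subgroup.centralizer_le (fun x hx => hx.1)
    · refine hfit.trans ?_
      rw [Subgroup.le_centralizer_iff]
      exact inf_le_right
  have hZM : Z ≤ M := by
    refine hZ1.trans (le_trans (Subgroup.centralizer_le ?_) hCX)
    exact fun x hx => hx.2
  have hMF : M ⊓ F = ⊥ := by
    have := hprim.inf_fitting_eq_bot hM
    rwa [fittingSubgroup_eq] at this
  have hZbot : Z = ⊥ := by
    rw [eq_bot_iff, ← hMF]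
    exact le_inf hZM inf_le_left
  have hFbot : F = ⊥ := by
    by_contra hne
    have : Nontrivial ↥F := (Subgroup.nontrivial_iff_ne_bot F).2 hne
    have : Group.IsNilpotent ↥F := fitOf_nilpotent ⊤
    have h1 : Subgroup.center ↥F ≠ ⊥ := Group.IsNilpotent.center_ne_bot ↥F
    apply h1
    have h2 := map_center_eq F
    rw [← hZ, hZbot] at h2
    exact (Subgroup.map_eq_bot_iff_of_injective _ F.subtype_injective).1 h2
  have hfitN : fitOf N = ⊥ := by
    rw [eq_bot_iff, ← hFbot]; exact hfit
  have hlayN : layerOf N = layerOf (⊤ : Subgroup G) := by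
    apply le_antisymm hlay
    apply sSup_le
    intro L hL
    rcases comp_le_or_comm hL.1 hL.2 hNsn with h | h
    · exact comp_le_layerOf (Comp.of_le hL h le_top)
    · exfalso
      have h1 : L ≤ Subgroup.centralizer (N : Set G) := by
        apply le_centralizer_of_comm_eq_bot
        rw [Subgroup.commutator_comm]; exact h
      have h2 : L = ⊥ := hprim.subnormal_eq_bot hM hL.1 (h1.trans hCN)
      apply hL.2.not_abelian
      rw [h2]; exact bot_le
  refine ⟨hFbot, ?_, ?_, ?_⟩
  · unfold fstarOf
    rw [hfitN, ← hF, hFbot, hlayN]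
  · unfold fstarOf
    rw [← hF, hFbot, sup_bot_eq]
  · intro K hK hKne hKmin
    have := hK
    have := hN
    rcases hKmin (K ⊓ N) inferInstance inf_le_left with h | h
    · exfalso
      have h1 : ⁅K, N⁆ = ⊥ := by
        rw [eq_bot_iff, ← h]; exact Subgroup.commutator_le_inf K N
      have h2 : K ≤ Subgroup.centralizer (N : Set G) := by
        apply le_centralizer_of_comm_eq_bot
        rw [Subgroup.commutator_comm]; exact h1
      exact hKne (hprim.subnormal_eq_bot hM (sn_of_normal_top hK) (h2.trans hCN))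
    · rw [← h]; exact inf_le_right

end Cfsg.Agent.helper19
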