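import Mathlib
import Cfsg.Agent.Lib_helper7_Extra

set_option autoImplicit false
open Cfsg
open scoped commutatorElement Pointwise

namespace Cfsg.Agent.helper7

variable {G : Type*} [Group G]

/-- In a central product of pairwise commuting subgroups, each element decomposes as an element of
`H i` times an element commuting with `H i`. -/
theorem exists_decomp_of_mem_iSup {ι : Type*} [Fintype ι] [DecidableEq ι] (H : ι → Subgroup G)
    (hcomm : Pairwise fun i j : ι => ∀ x y : G, x ∈ H i → y ∈ H j → Commute x y)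
    {x : G} (hx : x ∈ ⨆ i, H i) :
    ∃ u : ∀ i, H i, x = Subgroup.noncommPiCoprod hcomm u ∧
      ∀ i, ∃ x' : G, x = (u i : G) * x' ∧ (∀ y ∈ H i, Commute y x') ∧
        x' ∈ ⨆ j : {j : ι // j ≠ i}, H j.1 := by
  rw [← Subgroup.noncommPiCoprod_range (hcomm := hcomm)] at hx
  obtain ⟨u, rfl⟩ := hx
  refine ⟨u, rfl, ?_⟩
  intro i
  set u' : ∀ j, H j := Function.update u i 1 with hu'
  have hdec : u = Pi.mulSingle i (u i) * u' := by
    funext j
    by_cases hj : j = i
    · subst hj
      simp [hu']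
    · simp [hu', Pi.mulSingle_eq_of_ne hj, Function.update_of_ne hj]
  refine ⟨Subgroup.noncommPiCoprod hcomm u', ?_, ?_, ?_⟩
  · conv_lhs => rw [hdec]
    rw [map_mul, Subgroup.noncommPiCoprod_mulSingle]
  · intro y hy
    rw [Subgroup.noncommPiCoprod_apply]
    apply Finset.noncommProd_commute
    intro j _
    by_cases hj : j = i
    · subst hj
      simp [hu']
    · have : (u' j : G) = u j := by simp [hu', Function.update_of_ne hj]
      rw [this]
      exact hcomm (Ne.symm hj) y (u j) hy (u j).2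
  · rw [Subgroup.noncommPiCoprod_apply]
    apply Subgroup.noncommProd_mem
    intro j _
    by_cases hj : j = i
    · subst hj
      simp [hu']
    · have : (u' j : G) = u j := by simp [hu', Function.update_of_ne hj]
      rw [this]
      exact Subgroup.mem_iSup_of_mem (⟨j, hj⟩ : {j : ι // j ≠ i}) (u j).2

/-- The centre of a central product is the product of the centres. -/
theorem center_iSup_le {ι : Type*} [Fintype ι] [DecidableEq ι] (H : ι → Subgroup G)
    (hcomm : Pairwise fun i j : ι => ∀ x y : G, x ∈ H i → y ∈ H j → Commute x y) :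
    (⨆ i, H i) ⊓ Subgroup.centralizer ((⨆ i, H i : Subgroup G) : Set G) ≤
      ⨆ i, (H i ⊓ Subgroup.centralizer (H i : Set G)) := by
  intro x hx
  obtain ⟨hx1, hx2⟩ := Subgroup.mem_inf.1 hx
  obtain ⟨u, hxu, hdec⟩ := exists_decomp_of_mem_iSup H hcomm hx1
  rw [hxu, Subgroup.noncommPiCoprod_apply]
  apply Subgroup.noncommProd_mem
  intro i _
  apply Subgroup.mem_iSup_of_mem i
  rw [Subgroup.mem_inf]
  refine ⟨(u i).2, ?_⟩
  obtain ⟨x', hx', hc, _⟩ := hdec i
  rw [Subgroup.mem_centralizer_iff]
  intro y hy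
  have h1 : y * x = x * y := by
    rw [Subgroup.mem_centralizer_iff] at hx2
    exact hx2 y (Subgroup.mem_iSup_of_mem i hy)
  have h2 : y * x' = x' * y := hc y hy
  have e : (u i : G) = x * x'⁻¹ := by rw [hx']; group
  rw [e]
  calc y * (x * x'⁻¹) = (y * x) * x'⁻¹ := by group
    _ = x * y * x'⁻¹ := by rw [h1]
    _ = x * (x'⁻¹ * (x' * y) * x'⁻¹) := by group
    _ = x * (x'⁻¹ * (y * x') * x'⁻¹) := by rw [h2]
    _ = x * x'⁻¹ * y := by group

/-- Components of `K` as an indexed family. -/
theorem comp_pairwise_commute [Finite G] (K : Subgroup G) :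
    Pairwise fun i j : {L : Subgroup G // Comp L K} =>
      ∀ x y : G, x ∈ i.1 → y ∈ j.1 → Commute x y := by
  intro i j hij x y hx hy
  have hne : i.1 ≠ j.1 := fun h => hij (Subtype.ext h)
  have h1 : ⁅i.1, j.1⁆ = ⊥ := i.2.comm_of_ne j.2 hne
  have h2 : i.1 ≤ Subgroup.centralizer (j.1 : Set G) :=
    Subgroup.commutator_eq_bot_iff_le_centralizer.1 h1
  have := h2 hx
  rw [Subgroup.mem_centralizer_iff] at this
  exact (this y hy).symm

theorem layerOf_eq_iSup (K : Subgroup G) :
    layerOf K = ⨆ i : {L : Subgroup G // Comp L K}, i.1 := by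
  unfold layerOf
  rw [sSup_eq_iSup']
  rfl

end Cfsg.Agent.helper7
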