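import Mathlib
import Cfsg.Agent.Lib_helper19_Primitive2
import Cfsg.Agent.Lib_helper7_Prod

set_option autoImplicit false
open scoped commutatorElement Pointwise

namespace Cfsg.Agent.helper19

open Cfsg.Agent.helper7

variable {G : Type*} [Group G]

theorem Comp.conj_top {L : Subgroup G} (h : Comp L ⊤) (g : G) : Comp (cj g L) ⊤ := by
  have := h.conj g
  rwa [cj_top] at this

theorem normal_of_top_le_normalizer {T : Subgroup G}
    (h : (⊤ : Subgroup G) ≤ Subgroup.normalizer (T : Set G)) : T.Normal := by
  rw [← Subgroup.normalizer_eq_top_iff]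
  exact top_le_iff.1 h

theorem top_le_normalizer_of_normal {T : Subgroup G} (h : T.Normal) :
    (⊤ : Subgroup G) ≤ Subgroup.normalizer (T : Set G) := by
  rw [Subgroup.normalizer_eq_top_iff.2 h]

theorem cj_le_of_normal {T H : Subgroup G} (hT : T.Normal) (h : H ≤ T) (g : G) : cj g H ≤ T := by
  have := cj_mono (g := g) h
  rwa [cj_eq_of_mem_normalizer (top_le_normalizer_of_normal hT (Subgroup.mem_top g))] at this

theorem normalClosure_eq_conjClosureIn (K : Subgroup G) :
    Subgroup.normalClosure (K : Set G) = conjClosureIn K ⊤ := by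
  have hn : (conjClosureIn K ⊤).Normal :=
    normal_of_top_le_normalizer (le_normalizer_conjClosureIn K ⊤)
  apply le_antisymm
  · exact Subgroup.normalClosure_le_normal (le_conjClosureIn K ⊤)
  · apply iSup_le
    intro m
    exact cj_le_of_normal Subgroup.normalClosure_normal Subgroup.le_normalClosure _

/-- The normal closure of a component with trivial centre has trivial centre. -/
theorem center_conjClosure_comp [Finite G] {K : Subgroup G} (hK : Comp K ⊤)
    (hZ : K ⊓ Subgroup.centralizer (K : Set G) = ⊥) :
    conjClosureIn K ⊤ ⊓ Subgroup.centralizer ((conjClosureIn K ⊤ : Subgroup G) : Set G) = ⊥ := by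
  classical
  let ι := {L : Subgroup G // ∃ g : G, L = cj g K}
  have : Fintype ι := Fintype.ofFinite ι
  let H : ι → Subgroup G := fun i => i.1
  have hcomp : ∀ i : ι, Comp (H i) ⊤ := by
    rintro ⟨L, g, rfl⟩
    exact Comp.conj_top hK g
  have hcomm : Pairwise fun i j : ι => ∀ x y : G, x ∈ H i → y ∈ H j → Commute x y := by
    intro i j hij x y hx hy
    have hne : H i ≠ H j := fun h => hij (Subtype.ext h)
    have h1 : ⁅H i, H j⁆ = ⊥ := (hcomp i).comm_of_ne (hcomp j) hne
    have h2 : H i ≤ Subgroup.centralizer (H j : Set G) :=
      Subgroup.commutator_eq_bot_iff_le_centralizer.1 h1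
    have := h2 hx
    rw [Subgroup.mem_centralizer_iff] at this
    exact (this y hy).symm
  have hT : conjClosureIn K ⊤ = ⨆ i, H i := by
    apply le_antisymm
    · apply iSup_le
      intro m
      exact le_iSup H ⟨cj (m : G) K, (m : G), rfl⟩
    · apply iSup_le
      rintro ⟨L, g, rfl⟩
      exact le_iSup (fun m : (⊤ : Subgroup G) => cj (m : G) K) ⟨g, Subgroup.mem_top g⟩
  rw [hT, eq_bot_iff]
  refine (center_iSup_le H hcomm).trans ?_
  apply iSup_le
  rintro ⟨L, g, rfl⟩
  show cj g K ⊓ Subgroup.centralizer ((cj g K : Subgroup G) : Set G) ≤ ⊥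
  rw [← cj_centralizer, ← cj_inf, hZ, cj_bot]

/-- (a) The normal closure of a component with trivial centre is a minimal normal subgroup. -/
theorem comp_normalClosure_minimal [Finite G] {K : Subgroup G} (hK : Comp K ⊤)
    (hZ : K ⊓ Subgroup.centralizer (K : Set G) = ⊥) :
    Subgroup.normalClosure (K : Set G) ≠ ⊥ ∧ ∀ N : Subgroup G, N.Normal →
      N ≤ Subgroup.normalClosure (K : Set G) → N = ⊥ ∨ N = Subgroup.normalClosure (K : Set G) := by
  constructor
  · intro h
    apply hK.2.2.1
    rw [eq_bot_iff, ← h]
    exact Subgroup.le_normalClosure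
  · intro N hN hNT
    rcases comp_le_or_comm hK.1 hK.2 (sn_of_normal_top hN) with h | h
    · right
      apply le_antisymm hNT
      have := hN
      exact Subgroup.normalClosure_le_normal h
    · left
      have hCn : (Subgroup.centralizer (N : Set G)).Normal := by
        apply normal_of_top_le_normalizer
        exact (top_le_normalizer_of_normal hN).trans (normalizer_le_normalizer_centralizer N)
      have h1 : K ≤ Subgroup.centralizer (N : Set G) :=
        Subgroup.commutator_eq_bot_iff_le_centralizer.1 h
      have h2 : Subgroup.normalClosure (K : Set G) ≤ Subgroup.centralizer (N : Set G) := by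
        have := hCn
        exact Subgroup.normalClosure_le_normal h1
      have h3 : N ≤ Subgroup.centralizer ((Subgroup.normalClosure (K : Set G) : Subgroup G) : Set G) :=
        Subgroup.le_centralizer_iff.1 h2
      have h4 := center_conjClosure_comp hK hZ
      rw [← normalClosure_eq_conjClosureIn] at h4
      rw [eq_bot_iff, ← h4]
      exact le_inf hNT h3

/-- The set of minimal normal subgroups, in the form of the statements. -/
def minNormalSet (G : Type*) [Group G] : Set (Subgroup G) :=
  {N : Subgroup G | N ≠ ⊥ ∧ N.Normal ∧ ∀ N' : Subgroup G, N'.Normal → N' ≤ N → N' = ⊥ ∨ N' = N}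

/-- (b) If `F(G) = 1` then `E(G)` is generated by the minimal normal subgroups. -/
theorem sSup_minNormal_eq_layerOf [Finite G] (hF : fitOf (⊤ : Subgroup G) = ⊥) :
    sSup (minNormalSet G) = layerOf (⊤ : Subgroup G) := by
  apply le_antisymm
  · apply sSup_le
    rintro N ⟨hNne, hN, hNmin⟩
    have hNsn : SN N ⊤ := sn_of_normal_top hN
    have hfs_n : (fstarOf N).Normal := by
      apply normal_of_top_le_normalizer
      exact (top_le_normalizer_of_normal hN).trans (normalizer_le_normalizer_fstarOf N)
    have hfs : fstarOf N = N := by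
      rcases hNmin (fstarOf N) hfs_n (fstarOf_le N) with h | h
      · exfalso
        apply hNne
        have := centralizer_fstarOf_le N
        rw [h] at this
        rw [eq_bot_iff]
        refine le_trans (le_inf le_rfl ?_) this
        intro x _
        rw [Subgroup.mem_centralizer_iff]
        intro y hy
        have hy' : y = 1 := by simpa using hy
        rw [hy']; simp
      · exact h
    have hfit : fitOf N = ⊥ := by
      rw [eq_bot_iff, ← hF]
      exact nilpotent_sn_le_fitOf ((fitOf_sn N).trans hNsn) (fitOf_nilpotent N)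
    have hlay : layerOf N = N := by
      unfold fstarOf at hfs
      rwa [hfit, sup_bot_eq] at hfs
    rw [← hlay]
    apply sSup_le
    intro L hL
    exact comp_le_layerOf (Comp.trans hL hNsn)
  · apply sSup_le
    intro K hK
    have hZ : K ⊓ Subgroup.centralizer (K : Set G) = ⊥ := by
      rw [eq_bot_iff, ← hF]
      apply nilpotent_sn_le_fitOf
      · exact (SN.of_normal inf_le_left (center_sub_normal K |> fun h => Subgroup.le_normalizer.trans h)).trans hK.1
      · exact abelian_nilpotent (center_sub_abelian K)
    obtain ⟨h1, h2⟩ := comp_normalClosure_minimal hK hZ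
    exact Subgroup.le_normalClosure.trans
      (le_sSup ⟨h1, Subgroup.normalClosure_normal, h2⟩)

end Cfsg.Agent.helper19
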