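import Mathlib
import Cfsg.Agent.Lib_helper7_Prod

set_option autoImplicit false
open Cfsg
open scoped commutatorElement Pointwise

namespace Cfsg.Agent.helper7

variable {G : Type*} [Group G]

/-- The derived series of a subgroup, inside the ambient group. -/
def dser (S : Subgroup G) : ℕ → Subgroup G
  | 0 => S
  | n + 1 => ⁅dser S n, dser S n⁆

theorem map_derivedSeries_eq_dser (S : Subgroup G) (n : ℕ) :
    (derivedSeries ↥S n).map S.subtype = dser S n := by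
  induction n with
  | zero =>
    rw [derivedSeries_zero, ← MonoidHom.range_eq_map, Subgroup.range_subtype]; rfl
  | succ n ih =>
    rw [derivedSeries_succ, Subgroup.map_commutator, ih]; rfl

theorem dser_le (S : Subgroup G) (n : ℕ) : dser S n ≤ S := by
  induction n with
  | zero => exact le_rfl
  | succ n ih =>
    exact (Subgroup.commutator_mono ih ih).trans (Subgroup.commutator_le_self S)

theorem dser_eq_bot_of_solvable {S : Subgroup G} (h : Group.IsSolvable ↥S) :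
    ∃ n, dser S n = ⊥ := by
  obtain ⟨n, hn⟩ := h.solvable
  refine ⟨n, ?_⟩
  rw [← map_derivedSeries_eq_dser, hn, Subgroup.map_bot]

theorem comm_mul_comm_elt {e e' a a' : G} (h1 : a * e' = e' * a) (h2 : a * e = e * a)
    (h3 : a' * e = e * a') (h4 : a' * e' = e' * a') :
    ⁅e * a, e' * a'⁆ = ⁅e, e'⁆ * ⁅a, a'⁆ := by
  rw [commutatorElement_def, commutatorElement_def, commutatorElement_def]
  have i1 : a⁻¹ * e = e * a⁻¹ := by
    calc a⁻¹ * e = a⁻¹ * (e * a) * a⁻¹ := by group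
      _ = a⁻¹ * (a * e) * a⁻¹ := by rw [h2]
      _ = e * a⁻¹ := by group
  have i2 : a⁻¹ * e' = e' * a⁻¹ := by
    calc a⁻¹ * e' = a⁻¹ * (e' * a) * a⁻¹ := by group
      _ = a⁻¹ * (a * e') * a⁻¹ := by rw [h1]
      _ = e' * a⁻¹ := by group
  have i3 : a'⁻¹ * e = e * a'⁻¹ := by
    calc a'⁻¹ * e = a'⁻¹ * (e * a') * a'⁻¹ := by group
      _ = a'⁻¹ * (a' * e) * a'⁻¹ := by rw [h3]
      _ = e * a'⁻¹ := by group
  have i4 : a'⁻¹ * e' = e' * a'⁻¹ := by
    calc a'⁻¹ * e' = a'⁻¹ * (e' * a') * a'⁻¹ := by group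
      _ = a'⁻¹ * (a' * e') * a'⁻¹ := by rw [h4]
      _ = e' * a'⁻¹ := by group
  have j1 : a⁻¹ * e⁻¹ = e⁻¹ * a⁻¹ := by
    calc a⁻¹ * e⁻¹ = (e * a)⁻¹ := by group
      _ = (a * e)⁻¹ := by rw [h2]
      _ = e⁻¹ * a⁻¹ := by group
  have j2 : a'⁻¹ * e'⁻¹ = e'⁻¹ * a'⁻¹ := by
    calc a'⁻¹ * e'⁻¹ = (e' * a')⁻¹ := by group
      _ = (a' * e')⁻¹ := by rw [h4]
      _ = e'⁻¹ * a'⁻¹ := by group
  have k1 : a * e'⁻¹ = e'⁻¹ * a := by
    calc a * e'⁻¹ = e'⁻¹ * (e' * a) * e'⁻¹ := by group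
      _ = e'⁻¹ * (a * e') * e'⁻¹ := by rw [h1]
      _ = e'⁻¹ * a := by group
  have k2 : a' * e⁻¹ = e⁻¹ * a' := by
    calc a' * e⁻¹ = e⁻¹ * (e * a') * e⁻¹ := by group
      _ = e⁻¹ * (a' * e) * e⁻¹ := by rw [h3]
      _ = e⁻¹ * a' := by group
  have k3 : a * e⁻¹ = e⁻¹ * a := by
    calc a * e⁻¹ = e⁻¹ * (e * a) * e⁻¹ := by group
      _ = e⁻¹ * (a * e) * e⁻¹ := by rw [h2]
      _ = e⁻¹ * a := by group
  have k4 : a⁻¹ * e'⁻¹ = e'⁻¹ * a⁻¹ := by
    calc a⁻¹ * e'⁻¹ = (e' * a)⁻¹ := by group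
      _ = (a * e')⁻¹ := by rw [h1]
      _ = e'⁻¹ * a⁻¹ := by group
  calc e * a * (e' * a') * (e * a)⁻¹ * (e' * a')⁻¹
      = e * (a * e') * a' * (a⁻¹ * e⁻¹) * (a'⁻¹ * e'⁻¹) := by group
    _ = e * (e' * a) * a' * (e⁻¹ * a⁻¹) * (e'⁻¹ * a'⁻¹) := by rw [h1, j1, j2]
    _ = e * e' * a * (a' * e⁻¹) * a⁻¹ * e'⁻¹ * a'⁻¹ := by group
    _ = e * e' * a * (e⁻¹ * a') * a⁻¹ * e'⁻¹ * a'⁻¹ := by rw [k2]
    _ = e * e' * (a * e⁻¹) * a' * a⁻¹ * e'⁻¹ * a'⁻¹ := by group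
    _ = e * e' * (e⁻¹ * a) * a' * a⁻¹ * e'⁻¹ * a'⁻¹ := by rw [k3]
    _ = e * e' * e⁻¹ * a * a' * (a⁻¹ * e'⁻¹) * a'⁻¹ := by group
    _ = e * e' * e⁻¹ * a * a' * (e'⁻¹ * a⁻¹) * a'⁻¹ := by rw [k4]
    _ = e * e' * e⁻¹ * a * (a' * e'⁻¹) * a⁻¹ * a'⁻¹ := by group
    _ = e * e' * e⁻¹ * a * (e'⁻¹ * a') * a⁻¹ * a'⁻¹ := by
        have : a' * e'⁻¹ = e'⁻¹ * a' := by
          calc a' * e'⁻¹ = e'⁻¹ * (e' * a') * e'⁻¹ := by group
            _ = e'⁻¹ * (a' * e') * e'⁻¹ := by rw [h4]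
            _ = e'⁻¹ * a' := by group
        rw [this]
    _ = e * e' * e⁻¹ * (a * e'⁻¹) * a' * a⁻¹ * a'⁻¹ := by group
    _ = e * e' * e⁻¹ * (e'⁻¹ * a) * a' * a⁻¹ * a'⁻¹ := by rw [k1]
    _ = e * e' * e⁻¹ * e'⁻¹ * (a * a' * a⁻¹ * a'⁻¹) := by group

/-- Commutator subgroup of a product of two commuting subgroups. -/
theorem comm_sup_of_comm {E A : Subgroup G} (h : A ≤ Subgroup.centralizer (E : Set G)) :
    ⁅E ⊔ A, E ⊔ A⁆ = ⁅E, E⁆ ⊔ ⁅A, A⁆ := by
  apply le_antisymm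
  · rw [Subgroup.commutator_le]
    intro x hx y hy
    have hn : A ≤ Subgroup.normalizer (E : Set G) :=
      h.trans (Subgroup.centralizer_le_normalizer _)
    obtain ⟨e, he, a, ha, rfl⟩ := mem_sup_of_normalizer hn hx
    obtain ⟨e', he', a', ha', rfl⟩ := mem_sup_of_normalizer hn hy
    have c : ∀ a ∈ A, ∀ e ∈ E, a * e = e * a := by
      intro a ha e he
      have := h ha
      rw [Subgroup.mem_centralizer_iff] at this
      exact (this e he).symm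
    rw [comm_mul_comm_elt (c a ha e' he') (c a ha e he) (c a' ha' e he) (c a' ha' e' he')]
    exact Subgroup.mul_mem _
      (Subgroup.mem_sup_left (Subgroup.commutator_mem_commutator he he'))
      (Subgroup.mem_sup_right (Subgroup.commutator_mem_commutator ha ha'))
  · apply sup_le
    · exact Subgroup.commutator_mono le_sup_left le_sup_left
    · exact Subgroup.commutator_mono le_sup_right le_sup_right

theorem layerOf_perfect (K : Subgroup G) : ⁅layerOf K, layerOf K⁆ = layerOf K := by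
  apply le_antisymm (Subgroup.commutator_le_self _)
  apply sSup_le
  intro L hL
  have h1 : ⁅L, L⁆ = L := hL.2.1
  rw [← h1]
  exact Subgroup.commutator_mono (comp_le_layerOf hL) (comp_le_layerOf hL)

theorem dser_sup_of_comm {E A : Subgroup G} (hE : ⁅E, E⁆ = E)
    (h : A ≤ Subgroup.centralizer (E : Set G)) (n : ℕ) : dser (E ⊔ A) n = E ⊔ dser A n := by
  induction n with
  | zero => rfl
  | succ n ih =>
    show ⁅dser (E ⊔ A) n, dser (E ⊔ A) n⁆ = E ⊔ ⁅dser A n, dser A n⁆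
    rw [ih, comm_sup_of_comm ((dser_le A n).trans h), hE]

/-- `E(K)` is the last term of the derived series of `F*(K)`. -/
theorem iInf_dser_fstarOf [Finite G] (K : Subgroup G) : ⨅ n, dser (fstarOf K) n = layerOf K := by
  have hc : fitOf K ≤ Subgroup.centralizer (layerOf K : Set G) :=
    le_centralizer_of_comm_eq_bot (layerOf_comm_fitOf K)
  have key : ∀ n, dser (fstarOf K) n = layerOf K ⊔ dser (fitOf K) n :=
    dser_sup_of_comm (layerOf_perfect K) hc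
  apply le_antisymm
  · haveI := fitOf_nilpotent K
    obtain ⟨n, hn⟩ := dser_eq_bot_of_solvable (S := fitOf K) inferInstance
    refine (iInf_le _ n).trans ?_
    rw [key, hn, sup_bot_eq]
  · apply le_iInf
    intro n
    rw [key]
    exact le_sup_left

end Cfsg.Agent.helper7
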