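import Mathlib
import Cfsg.Agent.Lib_helper19_Comp2
import Cfsg.Agent.Lib_helper7_Derived

set_option autoImplicit false
open scoped commutatorElement Pointwise

namespace Cfsg.Agent.helper19

open Cfsg.Agent.helper7

variable {G : Type*} [Group G]

/-- `(U, V)` is a chief factor of `G`. -/
def IsChief (U V : Subgroup G) : Prop :=
  U.Normal ∧ V.Normal ∧ V < U ∧ ∀ W : Subgroup G, W.Normal → V ≤ W → W ≤ U → W = V ∨ W = U

/-- Iterated commutator `[D, X, …, X]`. -/
def iterC (X : Subgroup G) : ℕ → Subgroup G → Subgroup G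
  | 0, D => D
  | k + 1, D => ⁅iterC X k D, X⁆

theorem iterC_mono (X : Subgroup G) (k : ℕ) {D D' : Subgroup G} (h : D ≤ D') :
    iterC X k D ≤ iterC X k D' := by
  induction k with
  | zero => exact h
  | succ k ih => exact Subgroup.commutator_mono ih le_rfl

theorem iterC_succ' (X : Subgroup G) (k : ℕ) (D : Subgroup G) :
    iterC X (k + 1) D = iterC X k ⁅D, X⁆ := by
  induction k with
  | zero => rfl
  | succ k ih =>
    show ⁅iterC X (k + 1) D, X⁆ = ⁅iterC X k ⁅D, X⁆, X⁆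
    rw [ih]

theorem iterC_normal (X : Subgroup G) [X.Normal] (k : ℕ) (D : Subgroup G) [hD : D.Normal] :
    (iterC X k D).Normal := by
  induction k with
  | zero => exact hD
  | succ k ih =>
    have := ih
    show (⁅iterC X k D, X⁆).Normal
    infer_instance

theorem commutator_sup_le (A B C : Subgroup G) [A.Normal] [B.Normal] [C.Normal] :
    ⁅A ⊔ B, C⁆ ≤ ⁅A, C⁆ ⊔ ⁅B, C⁆ := by
  rw [Subgroup.commutator_le]
  intro x hx c hc
  rw [Subgroup.mem_sup_of_normal_right] at hx
  obtain ⟨a, ha, b, hb, rfl⟩ := hx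
  have e : ⁅a * b, c⁆ = a * ⁅b, c⁆ * a⁻¹ * ⁅a, c⁆ := by
    simp only [commutatorElement_def]; group
  rw [e]
  have hn : (⁅B, C⁆).Normal := inferInstance
  exact Subgroup.mul_mem _
    ((le_sup_right : ⁅B, C⁆ ≤ ⁅A, C⁆ ⊔ ⁅B, C⁆)
      (hn.conj_mem _ (Subgroup.commutator_mem_commutator hb hc) a))
    ((le_sup_left : ⁅A, C⁆ ≤ ⁅A, C⁆ ⊔ ⁅B, C⁆) (Subgroup.commutator_mem_commutator ha hc))

/-- A nilpotent normal subgroup centralizes every chief factor. -/
theorem nilpotent_normal_centralizes_chief {F U V : Subgroup G} (hFn : F.Normal)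
    (hFnil : Group.IsNilpotent ↥F) (hUV : IsChief U V) : ⁅U, F⁆ ≤ V := by
  obtain ⟨hU, hV, hlt, hmin⟩ := hUV
  have := hFn
  have := hU
  have := hV
  have hDn : (⁅U, F⁆ ⊔ V).Normal := inferInstance
  have hDU : ⁅U, F⁆ ⊔ V ≤ U := sup_le (Subgroup.commutator_le_left U F) hlt.le
  rcases hmin _ hDn le_sup_right hDU with h | h
  · rw [← h]; exact le_sup_left
  · exfalso
    have key : ∀ k : ℕ, U ≤ iterC F k U ⊔ V := by
      intro k
      induction k with
      | zero => exact le_sup_left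
      | succ k ih =>
        have := iterC_normal F k U
        have h1 : ⁅U, F⁆ ≤ ⁅iterC F k U ⊔ V, F⁆ := Subgroup.commutator_mono ih le_rfl
        have h2 := commutator_sup_le (iterC F k U) V F
        have h3 : ⁅V, F⁆ ≤ V := Subgroup.commutator_le_left V F
        calc U = ⁅U, F⁆ ⊔ V := h.symm
          _ ≤ (⁅iterC F k U, F⁆ ⊔ ⁅V, F⁆) ⊔ V := sup_le_sup_right (h1.trans h2) V
          _ ≤ iterC F (k + 1) U ⊔ V := by
            apply sup_le _ le_sup_right
            exact sup_le le_sup_left (h3.trans le_sup_right)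
    have hlcs : ∀ k : ℕ, iterC F (k + 1) U ≤ F.lowerCentralSeries k := by
      intro k
      induction k with
      | zero => exact Subgroup.commutator_le_right U F
      | succ k ih => exact Subgroup.commutator_mono ih le_rfl
    obtain ⟨n, hn⟩ := (Subgroup.isNilpotent_iff_lowerCentralSeries F).1 hFnil
    have h1 := key (n + 1)
    have h2 : iterC F (n + 1) U = ⊥ := by
      rw [eq_bot_iff, ← hn]; exact hlcs n
    rw [h2, bot_sup_eq] at h1
    exact hlt.not_ge h1

/-- A maximal `G`-normal proper subgroup of a nontrivial normal subgroup. -/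
theorem exists_chief_below [Finite G] {D : Subgroup G} (hD : D.Normal) (hne : D ≠ ⊥) :
    ∃ D' : Subgroup G, IsChief D D' := by
  classical
  let C : Set (Subgroup G) := {D' | D'.Normal ∧ D' < D}
  have hCfin : C.Finite := Set.toFinite _
  have hCne : C.Nonempty := ⟨⊥, inferInstance, bot_lt_iff_ne_bot.2 hne⟩
  obtain ⟨D', ⟨hD'n, hD'lt⟩, hmax⟩ := hCfin.exists_maximal hCne
  refine ⟨D', hD, hD'n, hD'lt, ?_⟩
  intro W hW h1 h2
  by_cases hWD : W = D
  · right; exact hWD
  · left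
    have : W ∈ C := ⟨hW, lt_of_le_of_ne h2 hWD⟩
    exact le_antisymm (hmax this h1) h1

/-- If `X` centralizes all chief factors below `F`, iterated commutators of a normal subgroup
of `G` inside `F` with `X` vanish. -/
theorem exists_iterC_eq_bot [Finite G] {F X : Subgroup G}
    (hX : ∀ U V : Subgroup G, IsChief U V → U ≤ F → ⁅U, X⁆ ≤ V) :
    ∀ (n : ℕ) (D : Subgroup G), D.Normal → D ≤ F → Nat.card D ≤ n → ∃ k, iterC X k D = ⊥ := by
  intro n
  induction n with
  | zero =>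
    intro D _ _ hc
    have : 0 < Nat.card D := Nat.card_pos
    omega
  | succ n ih =>
    intro D hD hDF hc
    by_cases hne : D = ⊥
    · exact ⟨0, hne⟩
    obtain ⟨D', hch⟩ := exists_chief_below hD hne
    have hlt : Nat.card D' < Nat.card D := card_lt_of_lt hch.2.2.1.le hch.2.2.1.ne
    obtain ⟨k, hk⟩ := ih D' hch.2.1 (hch.2.2.1.le.trans hDF) (by omega)
    refine ⟨k + 1, ?_⟩
    rw [iterC_succ', eq_bot_iff, ← hk]
    exact iterC_mono X k (hX D D' hch hDF)

theorem dser_normal (K : Subgroup G) [hK : K.Normal] (n : ℕ) : (dser K n).Normal := by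
  induction n with
  | zero => exact hK
  | succ n ih =>
    have := ih
    show (⁅dser K n, dser K n⁆).Normal
    infer_instance

/-- A normal subgroup of `G` inside `N` centralizing all chief factors below `F(N)` lies in
`F(N)` (for solvable `G`). -/
theorem le_fitOf_of_centralizes_chief [Finite G] (hG : Group.IsSolvable G) {N K : Subgroup G}
    (hN : N.Normal) (hK : K.Normal) (hKN : K ≤ N)
    (hX : ∀ U V : Subgroup G, IsChief U V → U ≤ fitOf N → ⁅U, K⁆ ≤ V) : K ≤ fitOf N := by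
  classical
  set F := fitOf N with hF
  have hKs : Group.IsSolvable ↥K := inferInstance
  obtain ⟨n, hn⟩ := dser_eq_bot_of_solvable hKs
  have hex : ∃ i, dser K i ≤ F := ⟨n, hn ▸ bot_le⟩
  obtain ⟨i, hi, himin⟩ : ∃ i, dser K i ≤ F ∧ ∀ j < i, ¬ dser K j ≤ F :=
    ⟨Nat.find hex, Nat.find_spec hex, fun j hj => Nat.find_min hex hj⟩
  rcases Nat.eq_zero_or_pos i with h0 | hpos
  · rw [h0] at hi; exact hi
  exfalso
  obtain ⟨j, rfl⟩ : ∃ j, i = j + 1 := ⟨i - 1, by omega⟩
  set L := dser K j with hL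
  have hLn : L.Normal := dser_normal K j
  have hLK : L ≤ K := dser_le K j
  have hLF : ⁅L, L⁆ ≤ F := hi
  have hLnot : ¬ L ≤ F := himin j (Nat.lt_succ_self j)
  have hcommn : (⁅L, L⁆).Normal := inferInstance
  have hXL : ∀ U V : Subgroup G, IsChief U V → U ≤ F → ⁅U, L⁆ ≤ V := fun U V h1 h2 =>
    (Subgroup.commutator_mono le_rfl hLK).trans (hX U V h1 h2)
  obtain ⟨k, hk⟩ := exists_iterC_eq_bot hXL _ ⁅L, L⁆ hcommn hLF le_rfl
  have hlcs : ∀ m : ℕ, L.lowerCentralSeries (m + 1) = iterC L m ⁅L, L⁆ := by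
    intro m
    induction m with
    | zero => rfl
    | succ m ih =>
      show ⁅L.lowerCentralSeries (m + 1), L⁆ = ⁅iterC L m ⁅L, L⁆, L⁆
      rw [ih]
  have hnil : Group.IsNilpotent ↥L :=
    Subgroup.isNilpotent_of_lowerCentralSeries_eq_bot (n := k + 1) (by rw [hlcs, hk])
  apply hLnot
  apply le_radOf (hLK.trans hKN)
  · exact le_top.trans (top_le_normalizer_of_normal hLn)
  · exact hnil


/-- The centralizer of the factor `U/V`. -/
def factorCentralizer (U V : Subgroup G) [hU : U.Normal] [hV : V.Normal] : Subgroup G where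
  carrier := {x | ∀ u ∈ U, ⁅u, x⁆ ∈ V}
  one_mem' := by
    intro u _
    simp
  mul_mem' := by
    intro x y hx hy u hu
    have e : ⁅u, x * y⁆ = ⁅u, x⁆ * (x * ⁅u, y⁆ * x⁻¹) := by
      simp only [commutatorElement_def]; group
    rw [e]
    exact V.mul_mem (hx u hu) (hV.conj_mem _ (hy u hu) x)
  inv_mem' := by
    intro x hx u hu
    have e : ⁅u, x⁻¹⁆ = x⁻¹ * ⁅u, x⁆⁻¹ * x⁻¹⁻¹ := by
      simp only [commutatorElement_def]; group
    rw [e]
    exact hV.conj_mem _ (V.inv_mem (hx u hu)) x⁻¹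

theorem mem_factorCentralizer {U V : Subgroup G} [U.Normal] [V.Normal] {x : G} :
    x ∈ factorCentralizer U V ↔ ∀ u ∈ U, ⁅u, x⁆ ∈ V := Iff.rfl

instance factorCentralizer_normal (U V : Subgroup G) [hU : U.Normal] [hV : V.Normal] :
    (factorCentralizer U V).Normal := by
  constructor
  intro x hx g u hu
  have e : ⁅u, g * x * g⁻¹⁆ = g * ⁅g⁻¹ * u * g⁻¹⁻¹, x⁆ * g⁻¹ := by
    simp only [commutatorElement_def]; group
  rw [e]
  exact hV.conj_mem _ (hx _ (hU.conj_mem u hu g⁻¹)) g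

/-- Characterisation of `F(N)` by chief factors (solvable case). -/
theorem mem_fitOf_iff_chief [Finite G] (hG : Group.IsSolvable G) (N : Subgroup G) [hN : N.Normal]
    (g : G) :
    (g ∈ fitOf N ↔ g ∈ N ∧ ∀ U V : Subgroup G, IsChief U V → ∀ u ∈ U, u * g * u⁻¹ * g⁻¹ ∈ V) ∧
    (g ∈ fitOf N ↔ g ∈ N ∧ ∀ U V : Subgroup G, IsChief U V → U ≤ fitOf N →
      ∀ u ∈ U, u * g * u⁻¹ * g⁻¹ ∈ V) := by
  have hFn : (fitOf N).Normal := by
    apply normal_of_top_le_normalizer
    exact (top_le_normalizer_of_normal hN).trans (normalizer_le_normalizer_fitOf N)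
  have hFnil : Group.IsNilpotent ↥(fitOf N) := fitOf_nilpotent N
  have h1 : g ∈ fitOf N → g ∈ N ∧ ∀ U V : Subgroup G, IsChief U V →
      ∀ u ∈ U, u * g * u⁻¹ * g⁻¹ ∈ V := by
    intro hg
    refine ⟨fitOf_le N hg, ?_⟩
    intro U V hUV u hu
    have := nilpotent_normal_centralizes_chief hFn hFnil hUV
    rw [← commutatorElement_def]
    exact this (Subgroup.commutator_mem_commutator hu hg)
  have h2 : (g ∈ N ∧ ∀ U V : Subgroup G, IsChief U V → U ≤ fitOf N →
      ∀ u ∈ U, u * g * u⁻¹ * g⁻¹ ∈ V) → g ∈ fitOf N := by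
    rintro ⟨hgN, hc⟩
    -- the normal subgroup of elements of `N` centralizing all chief factors below `F(N)`
    let K : Subgroup G := N ⊓ ⨅ (UV : {UV : Subgroup G × Subgroup G //
        IsChief UV.1 UV.2 ∧ UV.1 ≤ fitOf N}),
      @factorCentralizer G _ UV.1.1 UV.1.2 UV.2.1.1 UV.2.1.2.1
    have hKn : K.Normal := by
      have : ∀ UV : {UV : Subgroup G × Subgroup G // IsChief UV.1 UV.2 ∧ UV.1 ≤ fitOf N},
          (@factorCentralizer G _ UV.1.1 UV.1.2 UV.2.1.1 UV.2.1.2.1).Normal := fun UV =>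
        @factorCentralizer_normal G _ UV.1.1 UV.1.2 UV.2.1.1 UV.2.1.2.1
      have : (⨅ (UV : {UV : Subgroup G × Subgroup G // IsChief UV.1 UV.2 ∧ UV.1 ≤ fitOf N}),
          @factorCentralizer G _ UV.1.1 UV.1.2 UV.2.1.1 UV.2.1.2.1).Normal :=
        Subgroup.normal_iInf_normal (fun UV => inferInstance)
      exact Subgroup.normal_inf_normal _ _  
    have hgK : g ∈ K := by
      refine Subgroup.mem_inf.2 ⟨hgN, ?_⟩
      rw [Subgroup.mem_iInf]
      rintro ⟨⟨U, V⟩, hUV, hUF⟩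
      intro u hu
      rw [commutatorElement_def]
      exact hc U V hUV hUF u hu
    have hKX : ∀ U V : Subgroup G, IsChief U V → U ≤ fitOf N → ⁅U, K⁆ ≤ V := by
      intro U V hUV hUF
      rw [Subgroup.commutator_le]
      intro u hu k hk
      have hk2 := (Subgroup.mem_inf.1 hk).2
      rw [Subgroup.mem_iInf] at hk2
      exact hk2 ⟨⟨U, V⟩, hUV, hUF⟩ u hu
    exact le_fitOf_of_centralizes_chief hG hN hKn inf_le_left hKX hgK
  refine ⟨⟨h1, fun h => h2 ⟨h.1, fun U V hUV _ => h.2 U V hUV⟩⟩, ⟨fun h => ?_, h2⟩⟩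
  obtain ⟨h3, h4⟩ := h1 h
  exact ⟨h3, fun U V hUV _ => h4 U V hUV⟩

end Cfsg.Agent.helper19
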