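import Mathlib
import Cfsg.Prelude.Def_LocalEven
import Cfsg.Agent.Lib_helper1_Core
import Cfsg.Agent.Lib_helper19_HH0
import Cfsg.Agent.Lib_helper19_Chief

/-! An element centralizing every chief factor inside a normal `p`-subgroup `V` has image in
`O_p(Y/C_Y(V))` (helper3). -/

set_option autoImplicit false

namespace Cfsg.Agent.helper3

open Cfsg
open scoped commutatorElement

variable {Y : Type*} [Group Y]

/-- The elements acting trivially on every chief factor of `Y` below `V`. -/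
def chiefStab (V : Subgroup Y) : Subgroup Y where
  carrier := {y | ∀ U W : Subgroup Y, Cfsg.IsChiefFactor U W → U ≤ V →
    ∀ u ∈ U, y * u * y⁻¹ * u⁻¹ ∈ W}
  one_mem' := by
    intro U W hUW _ u _
    have : (1 : Y) * u * 1⁻¹ * u⁻¹ = 1 := by group
    rw [this]; exact W.one_mem
  mul_mem' := by
    intro x y hx hy U W hUW hUV u hu
    have hWn : W.Normal := hUW.2.2.1
    have h1 := hx U W hUW hUV u hu
    have h2 := hy U W hUW hUV u hu
    have e : x * y * u * (x * y)⁻¹ * u⁻¹ = x * (y * u * y⁻¹ * u⁻¹) * x⁻¹ * (x * u * x⁻¹ * u⁻¹) := by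
      group
    rw [e]
    exact W.mul_mem (hWn.conj_mem _ h2 x) h1
  inv_mem' := by
    intro x hx U W hUW hUV u hu
    have hWn : W.Normal := hUW.2.2.1
    have h1 := hx U W hUW hUV u hu
    have e : x⁻¹ * u * x⁻¹⁻¹ * u⁻¹ = x⁻¹ * (x * u * x⁻¹ * u⁻¹)⁻¹ * x⁻¹⁻¹ := by group
    rw [e]
    exact hWn.conj_mem _ (W.inv_mem h1) x⁻¹

theorem mem_chiefStab {V : Subgroup Y} {y : Y} : y ∈ chiefStab V ↔
    ∀ U W : Subgroup Y, Cfsg.IsChiefFactor U W → U ≤ V → ∀ u ∈ U, y * u * y⁻¹ * u⁻¹ ∈ W :=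
  Iff.rfl

instance chiefStab_normal (V : Subgroup Y) : (chiefStab V).Normal := by
  constructor
  intro y hy g U W hUW hUV u hu
  have hUn : U.Normal := hUW.2.1
  have hWn : W.Normal := hUW.2.2.1
  have hu' : g⁻¹ * u * g ∈ U := by
    have := hUn.conj_mem u hu g⁻¹
    rwa [inv_inv] at this
  have h1 := hy U W hUW hUV _ hu'
  have e : g * y * g⁻¹ * u * (g * y * g⁻¹)⁻¹ * u⁻¹ =
      g * (y * (g⁻¹ * u * g) * y⁻¹ * (g⁻¹ * u * g)⁻¹) * g⁻¹ := by group
  rw [e]
  exact hWn.conj_mem _ h1 g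

/-- Elements of the stabilizer of order prime to `p` centralize `V`. -/
theorem chiefStab_coprime_centralizes [Finite Y] {p : ℕ} [Fact p.Prime] (V : Subgroup Y)
    (hV : IsPGroup p V) (x : Y) (hx : x ∈ chiefStab V) (hxo : (orderOf x).Coprime p) :
    ∀ (n : ℕ) (V' : Subgroup Y), V'.Normal → V' ≤ V → Nat.card V' = n →
      ⁅V', Subgroup.zpowers x⁆ = ⊥ := by
  intro n
  induction n using Nat.strong_induction_on with
  | _ n ih =>
  intro V' hV'n hV'V hcard
  by_cases hbot : V' = ⊥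
  · rw [hbot, Subgroup.commutator_bot_left]
  obtain ⟨W, hVW⟩ := Cfsg.Agent.helper19.exists_chief_below hV'n hbot
  obtain ⟨_, hWn, hlt, hmin⟩ := hVW
  have hchief : Cfsg.IsChiefFactor V' W := ⟨hlt, hV'n, hWn, hmin⟩
  have hWcard : Nat.card W < n := by
    rw [← hcard]
    exact lt_of_le_of_ne (Subgroup.card_le_of_le hlt.le)
      (fun e => hlt.ne (Subgroup.eq_of_le_of_card_ge hlt.le e.ge))
  have hW0 := ih _ hWcard W hWn (hlt.le.trans hV'V) rfl
  have h1 : ⁅V', Subgroup.zpowers x⁆ ≤ W := by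
    rw [Subgroup.commutator_le]
    intro u hu g hg
    have hgD : g ∈ chiefStab V := (Subgroup.zpowers_le.2 hx) hg
    have h2 := hgD V' W hchief hV'V u hu
    have e : ⁅u, g⁆ = (g * u * g⁻¹ * u⁻¹)⁻¹ := by
      rw [commutatorElement_def]; group
    rw [e]
    exact W.inv_mem h2
  have h2 : ⁅⁅V', Subgroup.zpowers x⁆, Subgroup.zpowers x⁆ = ⊥ := by
    rw [eq_bot_iff, ← hW0]
    exact Subgroup.commutator_mono h1 le_rfl
  apply Cfsg.Agent.helper19.coprime_comm_eq_bot V' (Subgroup.zpowers x) (hV.to_le hV'V)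
  · rw [Subgroup.normalizer_eq_top_iff.mpr hV'n]; exact le_top
  · rw [Nat.card_zpowers]; exact hxo
  · exact h2

/-- The image of the stabilizer of the chief factors below `V` in `Y/C_Y(V)` is a `p`-group. -/
theorem chiefStab_map_isPGroup [Finite Y] {p : ℕ} [hp : Fact p.Prime] (V : Subgroup Y) [hVn : V.Normal]
    (hV : IsPGroup p V) :
    IsPGroup p ↥((chiefStab V).map (QuotientGroup.mk' (Subgroup.centralizer (V : Set Y)))) := by
  rintro ⟨_, d, hd, rfl⟩
  obtain ⟨e, m, hm, hem⟩ :=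
    Nat.exists_eq_pow_mul_and_not_dvd (orderOf_pos d).ne' p hp.out.ne_one
  refine ⟨e, ?_⟩
  apply Subtype.ext
  show (QuotientGroup.mk' (Subgroup.centralizer (V : Set Y)) d) ^ p ^ e = 1
  rw [← map_pow, QuotientGroup.mk'_apply, QuotientGroup.eq_one_iff]
  have hpe : 0 < p ^ e := pow_pos hp.out.pos e
  have ho : orderOf (d ^ p ^ e) = m := by
    rw [orderOf_pow' d hpe.ne', hem, Nat.gcd_mul_right_left]
    exact Nat.mul_div_cancel_left m hpe
  have hcop : (orderOf (d ^ p ^ e)).Coprime p := by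
    rw [ho]
    exact ((Nat.Prime.coprime_iff_not_dvd hp.out).mpr hm).symm
  have h1 := chiefStab_coprime_centralizes V hV (d ^ p ^ e) ((chiefStab V).pow_mem hd _) hcop
    _ V hVn le_rfl rfl
  rw [Subgroup.commutator_eq_bot_iff_le_centralizer] at h1
  rw [Subgroup.mem_centralizer_iff]
  intro v hv
  have h2 := h1 hv
  rw [Subgroup.mem_centralizer_iff] at h2
  exact (h2 _ (Subgroup.mem_zpowers _)).symm

/-- An element centralizing every chief factor of `Y` inside the normal `p`-subgroup `V` has image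
in `O_p(Y/C_Y(V))`. -/
theorem mk_mem_pCore_of_centralizes_chief [Finite Y] {p : ℕ} [Fact p.Prime] (V : Subgroup Y)
    [V.Normal] (hV : IsPGroup p V) (a : Y)
    (ha : ∀ U W : Subgroup Y, Cfsg.IsChiefFactor U W → U ≤ V → ⁅U, Subgroup.zpowers a⁆ ≤ W) :
    (QuotientGroup.mk a : Y ⧸ Subgroup.centralizer (V : Set Y)) ∈
      Cfsg.pCore p (Y ⧸ Subgroup.centralizer (V : Set Y)) := by
  have haD : a ∈ chiefStab V := by
    intro U W hUW hUV u hu
    have h1 := ha U W hUW hUV (Subgroup.commutator_mem_commutator hu (Subgroup.mem_zpowers a))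
    have e : a * u * a⁻¹ * u⁻¹ = ⁅u, a⁆⁻¹ := by
      rw [commutatorElement_def]; group
    rw [e]
    exact W.inv_mem h1
  have hn : ((chiefStab V).map (QuotientGroup.mk' (Subgroup.centralizer (V : Set Y)))).Normal :=
    Subgroup.Normal.map inferInstance _ (QuotientGroup.mk'_surjective _)
  exact Cfsg.Agent.helper1.le_pCore hn (chiefStab_map_isPGroup V hV) ⟨a, haD, rfl⟩

end Cfsg.Agent.helper3
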