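import Mathlib
import Cfsg.Prelude.Def_PLocal
import Cfsg.Agent.Lib_helper19_Sylow
import Cfsg.Agent.Lib_helper1_Core
import Cfsg.Agent.Lib_helper3_Basic

/-! Glauberman's ZJ-theorem in axiomatic form (helper3).

A "family" assigns to each subgroup `R` a set `𝔄 R` of abelian subgroups of `R`
(e.g. the abelian subgroups of largest order); `zjI 𝔄 R` is the intersection of the members
(which is `Z(J(R))` for the family of abelian subgroups of largest order).
The main theorem: if `p`-stability holds on normal `p`-subgroups, `C_G(O_p(G)) ≤ O_p(G)`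
and the family has the replacement property in a Sylow `p`-subgroup `P`, then
`zjI 𝔄 P` is normal (even characteristic) in `G`. -/

set_option autoImplicit false

namespace Cfsg.Agent.helper3

open Cfsg
open scoped commutatorElement

variable {G : Type*} [Group G]

/-- Axioms of a family of abelian subgroups. -/
structure ZJFamily (𝔄 : Subgroup G → Set (Subgroup G)) : Prop where
  le : ∀ {R A : Subgroup G}, A ∈ 𝔄 R → A ≤ R
  comm : ∀ {R A : Subgroup G}, A ∈ 𝔄 R → ∀ x ∈ A, ∀ y ∈ A, x * y = y * x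
  map : ∀ (e : G ≃* G) {R A : Subgroup G}, A ∈ 𝔄 R →
    A.map e.toMonoidHom ∈ 𝔄 (R.map e.toMonoidHom)
  mono : ∀ {R₁ R A : Subgroup G}, R₁ ≤ R → A ∈ 𝔄 R → A ≤ R₁ → A ∈ 𝔄 R₁ ∧ 𝔄 R₁ ⊆ 𝔄 R
  nonempty : ∀ R : Subgroup G, (𝔄 R).Nonempty

/-- The intersection of the members of the family. -/
def zjI (𝔄 : Subgroup G → Set (Subgroup G)) (R : Subgroup G) : Subgroup G := ⨅ A ∈ 𝔄 R, A

variable {𝔄 : Subgroup G → Set (Subgroup G)}

theorem zjI_le_of_mem {R A : Subgroup G} (hA : A ∈ 𝔄 R) : zjI 𝔄 R ≤ A := iInf₂_le A hA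

theorem le_zjI {R X : Subgroup G} (h : ∀ A ∈ 𝔄 R, X ≤ A) : X ≤ zjI 𝔄 R := le_iInf₂ h

theorem zjI_le (h𝔄 : ZJFamily 𝔄) (R : Subgroup G) : zjI 𝔄 R ≤ R := by
  obtain ⟨A, hA⟩ := h𝔄.nonempty R
  exact (zjI_le_of_mem hA).trans (h𝔄.le hA)

theorem zjI_comm (h𝔄 : ZJFamily 𝔄) (R : Subgroup G) :
    ∀ x ∈ zjI 𝔄 R, ∀ y ∈ zjI 𝔄 R, x * y = y * x := by
  obtain ⟨A, hA⟩ := h𝔄.nonempty R
  intro x hx y hy
  exact h𝔄.comm hA x (zjI_le_of_mem hA hx) y (zjI_le_of_mem hA hy)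

theorem map_symm_map (e : G ≃* G) (H : Subgroup G) :
    (H.map e.toMonoidHom).map e.symm.toMonoidHom = H := by
  rw [Subgroup.map_map]
  have : e.symm.toMonoidHom.comp e.toMonoidHom = MonoidHom.id G := by
    ext x; simp
  rw [this, Subgroup.map_id]

theorem map_map_symm (e : G ≃* G) (H : Subgroup G) :
    (H.map e.symm.toMonoidHom).map e.toMonoidHom = H := by
  rw [Subgroup.map_map]
  have : e.toMonoidHom.comp e.symm.toMonoidHom = MonoidHom.id G := by
    ext x; simp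
  rw [this, Subgroup.map_id]

theorem zjI_map_le (h𝔄 : ZJFamily 𝔄) (e : G ≃* G) (R : Subgroup G) :
    (zjI 𝔄 R).map e.toMonoidHom ≤ zjI 𝔄 (R.map e.toMonoidHom) := by
  apply le_zjI
  intro A' hA'
  have h1 := h𝔄.map e.symm hA'
  rw [map_symm_map] at h1
  have h3 := Subgroup.map_mono (f := e.toMonoidHom) (zjI_le_of_mem h1)
  rwa [map_map_symm] at h3

theorem zjI_map (h𝔄 : ZJFamily 𝔄) (e : G ≃* G) (R : Subgroup G) :
    (zjI 𝔄 R).map e.toMonoidHom = zjI 𝔄 (R.map e.toMonoidHom) := by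
  apply le_antisymm (zjI_map_le h𝔄 e R)
  have h1 := zjI_map_le h𝔄 e.symm (R.map e.toMonoidHom)
  rw [map_symm_map] at h1
  have h2 := Subgroup.map_mono (f := e.toMonoidHom) h1
  rwa [map_map_symm] at h2

theorem normalizer_le_normalizer_zjI (h𝔄 : ZJFamily 𝔄) (R : Subgroup G) :
    Subgroup.normalizer (R : Set G) ≤ Subgroup.normalizer (zjI 𝔄 R : Set G) := by
  intro g hg
  have h1 : R.map (MulAut.conj g).toMonoidHom = R :=
    Subgroup.mem_normalizer_iff_map_conj_eq.mp hg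
  have h2 := zjI_map h𝔄 (MulAut.conj g) R
  rw [h1] at h2
  exact Subgroup.mem_normalizer_iff_map_conj_eq.mpr h2

/-- The elements `x` with `[x, B] ≤ N`. -/
def commKernel (B N : Subgroup G) [N.Normal] : Subgroup G where
  carrier := {x | ∀ b ∈ B, x * b * x⁻¹ * b⁻¹ ∈ N}
  one_mem' := by
    intro b _
    simp
  mul_mem' := by
    intro x y hx hy b hb
    have e : x * y * b * (x * y)⁻¹ * b⁻¹ =
        x * (y * b * y⁻¹ * b⁻¹) * x⁻¹ * (x * b * x⁻¹ * b⁻¹) := by group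
    rw [e]
    exact N.mul_mem (‹N.Normal›.conj_mem _ (hy b hb) x) (hx b hb)
  inv_mem' := by
    intro x hx b hb
    have e : x⁻¹ * b * x⁻¹⁻¹ * b⁻¹ = x⁻¹ * (x * b * x⁻¹ * b⁻¹)⁻¹ * x⁻¹⁻¹ := by group
    rw [e]
    exact ‹N.Normal›.conj_mem _ (N.inv_mem (hx b hb)) x⁻¹

instance commKernel_normal (B N : Subgroup G) [B.Normal] [N.Normal] :
    (commKernel B N).Normal where
  conj_mem := by
    intro x hx g b hb
    have hb' : g⁻¹ * b * g⁻¹⁻¹ ∈ B := ‹B.Normal›.conj_mem b hb g⁻¹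
    have e : g * x * g⁻¹ * b * (g * x * g⁻¹)⁻¹ * b⁻¹ =
        g * (x * (g⁻¹ * b * g⁻¹⁻¹) * x⁻¹ * (g⁻¹ * b * g⁻¹⁻¹)⁻¹) * g⁻¹ := by group
    rw [e]
    exact ‹N.Normal›.conj_mem _ (hx _ hb') g

theorem normalClosure_comm_le {X B N : Subgroup G} [B.Normal] [N.Normal]
    (h : ∀ x ∈ X, ∀ b ∈ B, x * b * x⁻¹ * b⁻¹ ∈ N) :
    ∀ x ∈ Subgroup.normalClosure (X : Set G), ∀ b ∈ B, x * b * x⁻¹ * b⁻¹ ∈ N := by
  have h1 : Subgroup.normalClosure (X : Set G) ≤ commKernel B N :=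
    Subgroup.normalClosure_le_normal (fun x hx => h x hx)
  intro x hx
  exact h1 hx

theorem commutator_lt_of_isPGroup [Finite G] {p : ℕ} [Fact p.Prime] {B : Subgroup G}
    (hB : IsPGroup p B) (hne : B ≠ ⊥) : ⁅B, B⁆ < B := by
  haveI : Group.IsNilpotent ↥B := hB.isNilpotent
  rw [← Subgroup.nontrivial_iff_ne_bot] at hne
  have h1 : commutator ↥B < ⊤ := Group.IsSolvable.commutator_lt_top_of_nontrivial ↥B
  have h2 : (commutator ↥B).map B.subtype = ⁅B, B⁆ := by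
    rw [commutator_def, Subgroup.map_commutator, ← MonoidHom.range_eq_map, Subgroup.range_subtype]
  rw [← h2]
  calc (commutator ↥B).map B.subtype < (⊤ : Subgroup ↥B).map B.subtype :=
        Subgroup.map_subtype_lt_map_subtype.mpr h1
    _ = B := by rw [← MonoidHom.range_eq_map, Subgroup.range_subtype]

theorem card_lt_of_lt' [Finite G] {H K : Subgroup G} (h : H < K) : Nat.card H < Nat.card K :=
  lt_of_le_of_ne (Subgroup.card_le_of_le h.le)
    (fun e => h.ne (Subgroup.eq_of_le_of_card_ge h.le e.ge))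


/-- Replacement property for the family in `P` (for normal subgroups of the whole group). -/
def HasReplacement (𝔄 : Subgroup G → Set (Subgroup G)) (P : Subgroup G) : Prop :=
  ∀ B : Subgroup G, B.Normal → B ≤ P → ⁅⁅B, B⁆, B⁆ = ⊥ →
    (∃ U ∈ 𝔄 P, ⁅B, B⁆ ≤ U ∧ ¬ B ≤ U) →
    ∃ A ∈ 𝔄 P, ⁅B, B⁆ ≤ A ∧ ¬ B ≤ A ∧ B ≤ Subgroup.normalizer (A : Set G)

/-- If `L` is the preimage of `O_p(G/C)` then `L = C (P ∩ L)`. -/
theorem comap_pCore_le [Finite G] {p : ℕ} [Fact p.Prime] (P : Sylow p G) (C : Subgroup G)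
    [C.Normal] :
    (Cfsg.pCore p (G ⧸ C)).comap (QuotientGroup.mk' C) ≤
      C ⊔ ((P : Subgroup G) ⊓ (Cfsg.pCore p (G ⧸ C)).comap (QuotientGroup.mk' C)) := by
  haveI := Cfsg.Agent.helper1.pCore_normal (G := G ⧸ C) p
  set L := (Cfsg.pCore p (G ⧸ C)).comap (QuotientGroup.mk' C) with hL
  have hCL : C ≤ L := by
    intro c hc
    show QuotientGroup.mk' C c ∈ Cfsg.pCore p (G ⧸ C)
    have : QuotientGroup.mk' C c = 1 := (QuotientGroup.eq_one_iff c).mpr hc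
    rw [this]; exact Subgroup.one_mem _
  have hML : C ⊔ ((P : Subgroup G) ⊓ L) ≤ L := sup_le hCL inf_le_right
  have h1 := Subgroup.relIndex_mul_relIndex ((P : Subgroup G) ⊓ L) (C ⊔ ((P : Subgroup G) ⊓ L)) L
    le_sup_right hML
  have h2 := Subgroup.relIndex_mul_relIndex C (C ⊔ ((P : Subgroup G) ⊓ L)) L le_sup_left hML
  have h3 := Cfsg.Agent.helper19.sylow_inf_normal_not_dvd P L
  have h4 : ∃ k : ℕ, C.relIndex L = p ^ k := by
    have e1 : C = (⊥ : Subgroup (G ⧸ C)).comap (QuotientGroup.mk' C) := by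
      rw [MonoidHom.comap_bot, QuotientGroup.ker_mk']
    have e2 : C.relIndex L = Nat.card (Cfsg.pCore p (G ⧸ C)) := by
      conv_lhs => rw [e1]
      rw [Subgroup.relIndex_comap, Subgroup.relIndex_bot_left, hL,
        Subgroup.map_comap_eq_self_of_surjective (QuotientGroup.mk'_surjective C)]
    rw [e2]
    exact IsPGroup.exists_card_eq (Cfsg.Agent.helper1.pCore_isPGroup p)
  obtain ⟨k, hk⟩ := h4
  have h5 : (C ⊔ ((P : Subgroup G) ⊓ L)).relIndex L ∣ p ^ k := by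
    rw [← hk, ← h2]; exact dvd_mul_left _ _
  obtain ⟨j, -, hj⟩ := (Nat.dvd_prime_pow (Fact.out : p.Prime)).mp h5
  have hj0 : j = 0 := by
    by_contra hne
    apply h3
    rw [← h1, hj]
    exact dvd_mul_of_dvd_right (dvd_pow_self p hne) _
  rw [hj0, pow_zero] at hj
  exact Subgroup.relIndex_eq_one.mp hj

theorem zjI_inf_normal_aux' [Finite G] {p : ℕ} [Fact p.Prime] (h𝔄 : ZJFamily 𝔄) (P : Sylow p G)
    (hrep : HasReplacement 𝔄 (P : Subgroup G))
    (hst : ∀ (V : Subgroup G) [V.Normal], IsPGroup p V → ∀ a ∈ (P : Subgroup G),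
      ⁅⁅V, Subgroup.zpowers a⁆, Subgroup.zpowers a⁆ = ⊥ →
        (QuotientGroup.mk a : G ⧸ Subgroup.centralizer (V : Set G)) ∈
          Cfsg.pCore p (G ⧸ Subgroup.centralizer (V : Set G))) :
    ∀ (n : ℕ) (B : Subgroup G), B.Normal → IsPGroup p B → Nat.card B = n →
      (zjI 𝔄 (P : Subgroup G) ⊓ B).Normal := by
  intro n
  induction n using Nat.strong_induction_on with
  | _ n ih =>
  intro B hBn hBp hcard
  by_contra hnot
  haveI := hBn
  have hBP : B ≤ (P : Subgroup G) := hBp.le_sylow_of_normal P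
  have hZP : (P : Subgroup G) ≤ Subgroup.normalizer (zjI 𝔄 (P : Subgroup G) : Set G) :=
    Subgroup.le_normalizer.trans (normalizer_le_normalizer_zjI h𝔄 _)
  have hZcomm := zjI_comm h𝔄 (P : Subgroup G)
  have hBne : B ≠ ⊥ := by
    rintro rfl
    apply hnot
    rw [inf_bot_eq]; infer_instance
  -- `B` is the normal closure of `Z ⊓ B`
  have hcl : Subgroup.normalClosure ((zjI 𝔄 (P : Subgroup G) ⊓ B : Subgroup G) : Set G) = B := by
    by_contra hne
    have hle : Subgroup.normalClosure ((zjI 𝔄 (P : Subgroup G) ⊓ B : Subgroup G) : Set G) ≤ B :=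
      Subgroup.normalClosure_le_normal (fun x hx => hx.2)
    have hlt := lt_of_le_of_ne hle hne
    have hc := card_lt_of_lt' hlt
    rw [hcard] at hc
    have h1 := ih _ hc _ Subgroup.normalClosure_normal (hBp.to_le hle) rfl
    have heq : zjI 𝔄 (P : Subgroup G) ⊓
        Subgroup.normalClosure ((zjI 𝔄 (P : Subgroup G) ⊓ B : Subgroup G) : Set G) =
        zjI 𝔄 (P : Subgroup G) ⊓ B :=
      le_antisymm (inf_le_inf_left _ hle) (le_inf inf_le_left Subgroup.le_normalClosure)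
    rw [heq] at h1
    exact hnot h1
  have hB'lt : ⁅B, B⁆ < B := commutator_lt_of_isPGroup hBp hBne
  have hB'n : (⁅B, B⁆).Normal := inferInstance
  have hB'c := card_lt_of_lt' hB'lt
  rw [hcard] at hB'c
  have hZB'n : (zjI 𝔄 (P : Subgroup G) ⊓ ⁅B, B⁆).Normal :=
    ih _ hB'c _ hB'n (hBp.to_le hB'lt.le) rfl
  have h1 : ∀ x ∈ zjI 𝔄 (P : Subgroup G) ⊓ B, ∀ b ∈ B,
      x * b * x⁻¹ * b⁻¹ ∈ zjI 𝔄 (P : Subgroup G) ⊓ ⁅B, B⁆ := by
    intro x hx b hb
    refine ⟨?_, ?_⟩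
    · have hbN := hZP (hBP hb)
      have h : b * x⁻¹ * b⁻¹ ∈ zjI 𝔄 (P : Subgroup G) :=
        (Subgroup.mem_normalizer_iff.mp hbN x⁻¹).mp (Subgroup.inv_mem _ hx.1)
      have e : x * b * x⁻¹ * b⁻¹ = x * (b * x⁻¹ * b⁻¹) := by group
      rw [e]; exact Subgroup.mul_mem _ hx.1 h
    · have h := Subgroup.commutator_mem_commutator hx.2 hb
      rwa [commutatorElement_def] at h
  haveI := hZB'n
  have h2 := normalClosure_comm_le (X := zjI 𝔄 (P : Subgroup G) ⊓ B) (B := B)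
    (N := zjI 𝔄 (P : Subgroup G) ⊓ ⁅B, B⁆) h1
  rw [hcl] at h2
  have hB'Z : ⁅B, B⁆ ≤ zjI 𝔄 (P : Subgroup G) := by
    rw [Subgroup.commutator_le]
    intro x hx b hb
    rw [commutatorElement_def]
    exact (h2 x hx b hb).1
  have h3 : ∀ x ∈ zjI 𝔄 (P : Subgroup G) ⊓ B, ∀ c ∈ ⁅B, B⁆,
      x * c * x⁻¹ * c⁻¹ ∈ (⊥ : Subgroup G) := by
    intro x hx c hc
    rw [Subgroup.mem_bot]
    have h := hZcomm x hx.1 c (hB'Z hc)
    rw [h]; group
  have h4 := normalClosure_comm_le (X := zjI 𝔄 (P : Subgroup G) ⊓ B) (B := ⁅B, B⁆)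
    (N := ⊥) h3
  rw [hcl] at h4
  have hclass : ⁅⁅B, B⁆, B⁆ = ⊥ := by
    rw [eq_bot_iff, Subgroup.commutator_le]
    intro c hc x hx
    have h := h4 x hx c hc
    rw [Subgroup.mem_bot] at h ⊢
    rw [commutatorElement_def]
    have hxc : x * c = c * x := by
      calc x * c = (x * c * x⁻¹ * c⁻¹) * (c * x) := by group
        _ = c * x := by rw [h, one_mul]
    rw [← hxc]; group
  have hBZ : ¬ B ≤ zjI 𝔄 (P : Subgroup G) := by
    intro h
    apply hnot
    rw [inf_eq_right.mpr h]; exact hBn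
  obtain ⟨U, hU, hBU⟩ : ∃ U ∈ 𝔄 (P : Subgroup G), ¬ B ≤ U := by
    by_contra hcon
    push Not at hcon
    exact hBZ (le_zjI hcon)
  obtain ⟨A, hA, hB'A, hBA, hBNA⟩ :=
    hrep B hBn hBP hclass ⟨U, hU, hB'Z.trans (zjI_le_of_mem hU), hBU⟩
  have hquad : ∀ a ∈ A, ⁅⁅B, Subgroup.zpowers a⁆, Subgroup.zpowers a⁆ = ⊥ := by
    intro a ha
    have hza : Subgroup.zpowers a ≤ A := by rw [Subgroup.zpowers_le]; exact ha
    have h5 : ⁅B, Subgroup.zpowers a⁆ ≤ A := by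
      rw [Subgroup.commutator_le]
      intro b hb z hz
      rw [commutatorElement_def]
      have hzA := hza hz
      have h : b * z * b⁻¹ ∈ A := (Subgroup.mem_normalizer_iff.mp (hBNA hb) z).mp hzA
      exact A.mul_mem h (A.inv_mem hzA)
    rw [eq_bot_iff, Subgroup.commutator_le]
    intro x hx z hz
    rw [Subgroup.mem_bot, commutatorElement_def]
    have h := h𝔄.comm hA x (h5 hx) z (hza hz)
    rw [h]; group
  haveI hLn : ((Cfsg.pCore p (G ⧸ Subgroup.centralizer (B : Set G))).comap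
      (QuotientGroup.mk' (Subgroup.centralizer (B : Set G)))).Normal := by
    haveI := Cfsg.Agent.helper1.pCore_normal (G := G ⧸ Subgroup.centralizer (B : Set G)) p
    infer_instance
  have hAL : A ≤ (Cfsg.pCore p (G ⧸ Subgroup.centralizer (B : Set G))).comap
      (QuotientGroup.mk' (Subgroup.centralizer (B : Set G))) :=
    fun a ha => hst B hBp a (h𝔄.le hA ha) (hquad a ha)
  have hLle := comap_pCore_le P (Subgroup.centralizer (B : Set G))
  have hfr := Cfsg.Agent.helper19.frattini_inf P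
    ((Cfsg.pCore p (G ⧸ Subgroup.centralizer (B : Set G))).comap
      (QuotientGroup.mk' (Subgroup.centralizer (B : Set G))))
  generalize hLdef : (Cfsg.pCore p (G ⧸ Subgroup.centralizer (B : Set G))).comap
      (QuotientGroup.mk' (Subgroup.centralizer (B : Set G))) = L at hAL hLle hfr hLn
  have hN1 : Subgroup.normalizer (((P : Subgroup G) ⊓ L : Subgroup G) : Set G) ≤
      Subgroup.normalizer ((zjI 𝔄 ((P : Subgroup G) ⊓ L) ⊓ B : Subgroup G) : Set G) := by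
    intro g hg
    have hg1 := normalizer_le_normalizer_zjI h𝔄 ((P : Subgroup G) ⊓ L) hg
    rw [Subgroup.mem_normalizer_iff] at hg1 ⊢
    intro x
    constructor
    · rintro ⟨hx1, hx2⟩
      exact ⟨(hg1 x).mp hx1, hBn.conj_mem x hx2 g⟩
    · rintro ⟨hx1, hx2⟩
      refine ⟨(hg1 x).mpr hx1, ?_⟩
      have h := hBn.conj_mem _ hx2 g⁻¹
      have e : g⁻¹ * (g * x * g⁻¹) * g⁻¹⁻¹ = x := by group
      rwa [e] at h
  have hN2 : Subgroup.centralizer (B : Set G) ≤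
      Subgroup.normalizer ((zjI 𝔄 ((P : Subgroup G) ⊓ L) ⊓ B : Subgroup G) : Set G) := by
    intro c hc
    rw [Subgroup.mem_normalizer_iff]
    intro x
    constructor
    · intro hx
      have h : c * x * c⁻¹ = x := by
        have h' := Subgroup.mem_centralizer_iff.mp hc x hx.2
        rw [← h']; group
      rwa [h]
    · intro hx
      have hxB : x ∈ B := by
        have h := hBn.conj_mem _ hx.2 c⁻¹
        have e : c⁻¹ * (c * x * c⁻¹) * c⁻¹⁻¹ = x := by group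
        rwa [e] at h
      have h : c * x * c⁻¹ = x := by
        have h' := Subgroup.mem_centralizer_iff.mp hc x hxB
        rw [← h']; group
      rwa [h] at hx
  have hN3 : (P : Subgroup G) ⊓ L ≤
      Subgroup.normalizer ((zjI 𝔄 ((P : Subgroup G) ⊓ L) ⊓ B : Subgroup G) : Set G) :=
    Subgroup.le_normalizer.trans hN1
  have htop : Subgroup.normalizer ((zjI 𝔄 ((P : Subgroup G) ⊓ L) ⊓ B : Subgroup G) : Set G) = ⊤ := by
    rw [eq_top_iff, ← hfr]
    exact sup_le hN1 (hLle.trans (sup_le hN2 hN3))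
  haveI hZ₁Bn : (zjI 𝔄 ((P : Subgroup G) ⊓ L) ⊓ B).Normal :=
    Subgroup.normalizer_eq_top_iff.mp htop
  have hAP₁ : A ≤ (P : Subgroup G) ⊓ L := le_inf (h𝔄.le hA) hAL
  obtain ⟨hA₁, hsub⟩ := h𝔄.mono (inf_le_left : (P : Subgroup G) ⊓ L ≤ ↑P) hA hAP₁
  have hZZ₁ : zjI 𝔄 (P : Subgroup G) ⊓ B ≤ zjI 𝔄 ((P : Subgroup G) ⊓ L) ⊓ B := by
    refine le_inf ?_ inf_le_right
    apply le_zjI
    intro A' hA'
    exact inf_le_left.trans (zjI_le_of_mem (hsub hA'))
  have hBZ₁ : B ≤ zjI 𝔄 ((P : Subgroup G) ⊓ L) ⊓ B := by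
    have h : Subgroup.normalClosure ((zjI 𝔄 (P : Subgroup G) ⊓ B : Subgroup G) : Set G) ≤
        zjI 𝔄 ((P : Subgroup G) ⊓ L) ⊓ B := Subgroup.normalClosure_le_normal hZZ₁
    rwa [hcl] at h
  exact hBA ((hBZ₁.trans inf_le_left).trans (zjI_le_of_mem hA₁))

theorem zjI_inf_normal_aux [Finite G] {p : ℕ} [Fact p.Prime] (h𝔄 : ZJFamily 𝔄) (P : Sylow p G)
    (hrep : HasReplacement 𝔄 (P : Subgroup G))
    (hst : ∀ (V : Subgroup G) [V.Normal], IsPGroup p V → Cfsg.IsPStableOn p V) :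
    ∀ (n : ℕ) (B : Subgroup G), B.Normal → IsPGroup p B → Nat.card B = n →
      (zjI 𝔄 (P : Subgroup G) ⊓ B).Normal :=
  zjI_inf_normal_aux' h𝔄 P hrep (fun V _ hV a _ hq => hst V hV a hq)

theorem zjI_inf_normal' [Finite G] {p : ℕ} [Fact p.Prime] (h𝔄 : ZJFamily 𝔄) (P : Sylow p G)
    (hrep : HasReplacement 𝔄 (P : Subgroup G))
    (hst : ∀ (V : Subgroup G) [V.Normal], IsPGroup p V → ∀ a ∈ (P : Subgroup G),
      ⁅⁅V, Subgroup.zpowers a⁆, Subgroup.zpowers a⁆ = ⊥ →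
        (QuotientGroup.mk a : G ⧸ Subgroup.centralizer (V : Set G)) ∈
          Cfsg.pCore p (G ⧸ Subgroup.centralizer (V : Set G)))
    (B : Subgroup G) [hB : B.Normal] (hBp : IsPGroup p B) :
    (zjI 𝔄 (P : Subgroup G) ⊓ B).Normal :=
  zjI_inf_normal_aux' h𝔄 P hrep hst _ B hB hBp rfl

theorem zjI_inf_normal [Finite G] {p : ℕ} [Fact p.Prime] (h𝔄 : ZJFamily 𝔄) (P : Sylow p G)
    (hrep : HasReplacement 𝔄 (P : Subgroup G))
    (hst : ∀ (V : Subgroup G) [V.Normal], IsPGroup p V → Cfsg.IsPStableOn p V)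
    (B : Subgroup G) [hB : B.Normal] (hBp : IsPGroup p B) :
    (zjI 𝔄 (P : Subgroup G) ⊓ B).Normal :=
  zjI_inf_normal_aux h𝔄 P hrep hst _ B hB hBp rfl


theorem zjI_le_pCore' [Finite G] {p : ℕ} [Fact p.Prime] (h𝔄 : ZJFamily 𝔄) (P : Sylow p G)
    (hc : Subgroup.centralizer (Cfsg.pCore p G : Set G) ≤ Cfsg.pCore p G)
    (hst : ∀ (V : Subgroup G) [V.Normal], IsPGroup p V → ∀ a ∈ (P : Subgroup G),
      ⁅⁅V, Subgroup.zpowers a⁆, Subgroup.zpowers a⁆ = ⊥ →
        (QuotientGroup.mk a : G ⧸ Subgroup.centralizer (V : Set G)) ∈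
          Cfsg.pCore p (G ⧸ Subgroup.centralizer (V : Set G))) :
    zjI 𝔄 (P : Subgroup G) ≤ Cfsg.pCore p G := by
  haveI hQn := Cfsg.Agent.helper1.pCore_normal (G := G) p
  have hQp := Cfsg.Agent.helper1.pCore_isPGroup (G := G) p
  have hQP : Cfsg.pCore p G ≤ (P : Subgroup G) := hQp.le_sylow_of_normal P
  have hZP : (P : Subgroup G) ≤ Subgroup.normalizer (zjI 𝔄 (P : Subgroup G) : Set G) :=
    Subgroup.le_normalizer.trans (normalizer_le_normalizer_zjI h𝔄 _)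
  intro z hz
  have hzZ : Subgroup.zpowers z ≤ zjI 𝔄 (P : Subgroup G) := by
    rw [Subgroup.zpowers_le]; exact hz
  have hquad : ⁅⁅Cfsg.pCore p G, Subgroup.zpowers z⁆, Subgroup.zpowers z⁆ = ⊥ := by
    have h5 : ⁅Cfsg.pCore p G, Subgroup.zpowers z⁆ ≤ zjI 𝔄 (P : Subgroup G) := by
      rw [Subgroup.commutator_le]
      intro q hq w hw
      rw [commutatorElement_def]
      have h : q * w * q⁻¹ ∈ zjI 𝔄 (P : Subgroup G) :=
        (Subgroup.mem_normalizer_iff.mp (hZP (hQP hq)) w).mp (hzZ hw)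
      exact Subgroup.mul_mem _ h (Subgroup.inv_mem _ (hzZ hw))
    rw [eq_bot_iff, Subgroup.commutator_le]
    intro x hx w hw
    rw [Subgroup.mem_bot, commutatorElement_def, zjI_comm h𝔄 _ x (h5 hx) w (hzZ hw)]
    group
  have h1 := hst (Cfsg.pCore p G) hQp z (zjI_le h𝔄 _ hz) hquad
  haveI hKn := Cfsg.Agent.helper1.pCore_normal
    (G := G ⧸ Subgroup.centralizer (Cfsg.pCore p G : Set G)) p
  have hKp := Cfsg.Agent.helper1.pCore_isPGroup
    (G := G ⧸ Subgroup.centralizer (Cfsg.pCore p G : Set G)) p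
  have hMn : ((Cfsg.pCore p (G ⧸ Subgroup.centralizer (Cfsg.pCore p G : Set G))).comap
      (QuotientGroup.mk' (Subgroup.centralizer (Cfsg.pCore p G : Set G)))).Normal :=
    inferInstance
  have hMp : IsPGroup p ↥((Cfsg.pCore p (G ⧸ Subgroup.centralizer (Cfsg.pCore p G : Set G))).comap
      (QuotientGroup.mk' (Subgroup.centralizer (Cfsg.pCore p G : Set G)))) := by
    rintro ⟨x, hx⟩
    obtain ⟨k, hk⟩ := hKp ⟨QuotientGroup.mk' _ x, hx⟩
    have hk' : (QuotientGroup.mk' (Subgroup.centralizer (Cfsg.pCore p G : Set G)) x) ^ p ^ k = 1 := by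
      have := congrArg Subtype.val hk
      simpa using this
    have hxC : x ^ p ^ k ∈ Subgroup.centralizer (Cfsg.pCore p G : Set G) := by
      rw [← QuotientGroup.eq_one_iff]
      rw [← hk']; rfl
    obtain ⟨j, hj⟩ := hQp ⟨x ^ p ^ k, hc hxC⟩
    have hj' : (x ^ p ^ k) ^ p ^ j = 1 := by
      have := congrArg Subtype.val hj
      simpa using this
    refine ⟨k + j, ?_⟩
    apply Subtype.ext
    simp only [Subgroup.coe_pow, Subgroup.coe_one]
    rw [pow_add, pow_mul]; exact hj'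
  exact Cfsg.Agent.helper1.le_pCore hMn hMp h1

theorem zjI_le_pCore [Finite G] {p : ℕ} [Fact p.Prime] (h𝔄 : ZJFamily 𝔄) (P : Sylow p G)
    (hc : Subgroup.centralizer (Cfsg.pCore p G : Set G) ≤ Cfsg.pCore p G)
    (hst : ∀ (V : Subgroup G) [V.Normal], IsPGroup p V → Cfsg.IsPStableOn p V) :
    zjI 𝔄 (P : Subgroup G) ≤ Cfsg.pCore p G :=
  zjI_le_pCore' h𝔄 P hc (fun V _ hV a _ hq => hst V hV a hq)

theorem zjI_normal' [Finite G] {p : ℕ} [Fact p.Prime] (h𝔄 : ZJFamily 𝔄) (P : Sylow p G)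
    (hrep : HasReplacement 𝔄 (P : Subgroup G))
    (hc : Subgroup.centralizer (Cfsg.pCore p G : Set G) ≤ Cfsg.pCore p G)
    (hst : ∀ (V : Subgroup G) [V.Normal], IsPGroup p V → ∀ a ∈ (P : Subgroup G),
      ⁅⁅V, Subgroup.zpowers a⁆, Subgroup.zpowers a⁆ = ⊥ →
        (QuotientGroup.mk a : G ⧸ Subgroup.centralizer (V : Set G)) ∈
          Cfsg.pCore p (G ⧸ Subgroup.centralizer (V : Set G))) :
    (zjI 𝔄 (P : Subgroup G)).Normal := by
  haveI hQn := Cfsg.Agent.helper1.pCore_normal (G := G) p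
  have hQp := Cfsg.Agent.helper1.pCore_isPGroup (G := G) p
  have h1 := zjI_inf_normal' h𝔄 P hrep hst (Cfsg.pCore p G) hQp
  rwa [inf_eq_left.mpr (zjI_le_pCore' h𝔄 P hc hst)] at h1

theorem zjI_normal [Finite G] {p : ℕ} [Fact p.Prime] (h𝔄 : ZJFamily 𝔄) (P : Sylow p G)
    (hrep : HasReplacement 𝔄 (P : Subgroup G))
    (hc : Subgroup.centralizer (Cfsg.pCore p G : Set G) ≤ Cfsg.pCore p G)
    (hst : ∀ (V : Subgroup G) [V.Normal], IsPGroup p V → Cfsg.IsPStableOn p V) :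
    (zjI 𝔄 (P : Subgroup G)).Normal := by
  haveI hQn := Cfsg.Agent.helper1.pCore_normal (G := G) p
  have hQp := Cfsg.Agent.helper1.pCore_isPGroup (G := G) p
  have h1 := zjI_inf_normal h𝔄 P hrep hst (Cfsg.pCore p G) hQp
  rwa [inf_eq_left.mpr (zjI_le_pCore h𝔄 P hc hst)] at h1

theorem zjI_characteristic [Finite G] {p : ℕ} [Fact p.Prime] (h𝔄 : ZJFamily 𝔄) (P : Sylow p G)
    (hrep : HasReplacement 𝔄 (P : Subgroup G))
    (hc : Subgroup.centralizer (Cfsg.pCore p G : Set G) ≤ Cfsg.pCore p G)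
    (hst : ∀ (V : Subgroup G) [V.Normal], IsPGroup p V → Cfsg.IsPStableOn p V) :
    (zjI 𝔄 (P : Subgroup G)).Characteristic := by
  haveI hn := zjI_normal h𝔄 P hrep hc hst
  rw [Subgroup.characteristic_iff_map_eq]
  intro φ
  rw [zjI_map h𝔄 φ]
  obtain ⟨g, hg⟩ := MulAction.exists_smul_eq G P (P.mapSurjective (f := φ.toMonoidHom) φ.surjective)
  have h1 : (P : Subgroup G).map φ.toMonoidHom =
      (P : Subgroup G).map (MulAut.conj g).toMonoidHom := by
    have h2 := congrArg (fun Q : Sylow p G => (Q : Subgroup G)) hg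
    simp only [Sylow.coe_subgroup_smul, Sylow.coe_mapSurjective] at h2
    rw [conj_smul_eq_map] at h2
    exact h2.symm
  rw [h1, ← zjI_map h𝔄 (MulAut.conj g)]
  apply Subgroup.mem_normalizer_iff_map_conj_eq.mp
  rw [Subgroup.normalizer_eq_top]; trivial

end Cfsg.Agent.helper3
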