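import Cfsg.Statements.S0648
-- import your own Cfsg.Agent.* helpers here
import Mathlib

set_option autoImplicit false
open Cfsg

open scoped commutatorElement
namespace Cfsg.Agent.S0648

variable {G : Type*} [Group G]

theorem cml (x y z : G) : ⁅x * y, z⁆ = x * ⁅y, z⁆ * x⁻¹ * ⁅x, z⁆ := by
  simp only [commutatorElement_def]; group

theorem cmr (x y z : G) : ⁅x, y * z⁆ = ⁅x, y⁆ * (y * ⁅x, z⁆ * y⁻¹) := by
  simp only [commutatorElement_def]; group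

theorem conj_comm (a x y : G) : a * ⁅x, y⁆ * a⁻¹ = ⁅a * x * a⁻¹, a * y * a⁻¹⁆ := by
  simp only [commutatorElement_def]; group

theorem comm_le_of_norm (A B : Subgroup G) (hAB : A ≤ Subgroup.normalizer (B : Set G)) :
    ⁅B, A⁆ ≤ B := by
  rw [Subgroup.commutator_le]
  intro g hg a ha
  have h1 : a * g⁻¹ * a⁻¹ ∈ B := ((Subgroup.mem_normalizer_iff.mp (hAB ha)) g⁻¹).mp (inv_mem hg)
  have : ⁅g, a⁆ = g * (a * g⁻¹ * a⁻¹) := by simp only [commutatorElement_def]; group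
  rw [this]
  exact mul_mem hg h1

theorem part1 (A B : Subgroup G) (hAB : A ≤ Subgroup.normalizer (B : Set G))
    (hc : ⁅⁅B, B⁆, A⁆ = ⊥) :
    ⁅⁅B, A⁆, ⁅B, B⁆⁆ = ⊥ ∧ ⁅⁅B, A⁆, ⁅B, A⁆⁆ ≤ B ⊓ Subgroup.centralizer (B : Set G) := by
  have hX : ⁅B, A⁆ ≤ B := comm_le_of_norm A B hAB
  have L2 : ⁅⁅B, A⁆, ⁅B, B⁆⁆ = ⊥ := by
    apply Subgroup.commutator_commutator_eq_bot_of_rotate
    · rw [Subgroup.commutator_comm A, hc, Subgroup.commutator_bot_left]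
    · rw [eq_bot_iff, ← hc]
      exact Subgroup.commutator_mono
        (Subgroup.commutator_mono (Subgroup.commutator_le_self B) le_rfl) le_rfl
  refine ⟨L2, ?_⟩
  have L3 : ⁅⁅⁅B, A⁆, ⁅B, A⁆⁆, B⁆ = ⊥ := by
    apply Subgroup.commutator_commutator_eq_bot_of_rotate
    · rw [eq_bot_iff, ← L2, Subgroup.commutator_comm ⁅B, A⁆ ⁅B, B⁆]
      exact Subgroup.commutator_mono (Subgroup.commutator_mono hX le_rfl) le_rfl
    · rw [eq_bot_iff, ← L2, Subgroup.commutator_comm ⁅B, A⁆ ⁅B, B⁆]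
      exact Subgroup.commutator_mono (Subgroup.commutator_mono le_rfl hX) le_rfl
  refine le_inf ?_ (Subgroup.commutator_eq_bot_iff_le_centralizer.mp L3)
  exact (Subgroup.commutator_mono hX hX).trans (Subgroup.commutator_le_self B)


/-- element-level core of part (2) -/
theorem I1 (A B X : Subgroup G) (b : G) (hXB : X ≤ B) (hb : b ∈ B)
    (hZ : ∀ x ∈ X, ∀ y ∈ X, ∀ g ∈ B, g * ⁅x, y⁆ = ⁅x, y⁆ * g)
    (hXB' : ∀ x ∈ X, ∀ g ∈ B, ∀ h ∈ B, x * ⁅g, h⁆ = ⁅g, h⁆ * x)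
    (hAB' : ∀ a ∈ A, ∀ g ∈ B, ∀ h ∈ B, a * ⁅g, h⁆ = ⁅g, h⁆ * a)
    (hXAA : ∀ x ∈ X, ∀ a ∈ A, ∀ a' ∈ A, a' * ⁅a, x⁆ = ⁅a, x⁆ * a')
    (hXinv : ∀ a ∈ A, ∀ x ∈ X, a * x * a⁻¹ ∈ X)
    (a : G) (ha : a ∈ A) (hu : b⁻¹ * a * b * a⁻¹ ∈ X) (y : G) (hy : y ∈ X) :
    ⁅b⁻¹ * a * b * a⁻¹, y⁆ = ⁅⁅a, y⁆, b⁆ := by
  -- I0
  have I0 : ∀ y ∈ X, ⁅b⁻¹ * a * b * a⁻¹, ⁅a, y⁆ * y⁆ * ⁅b, ⁅a, y⁆⁆ = 1 := by
    intro y hy
    have hs : ⁅a, y⁆ ∈ X := by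
      have : ⁅a, y⁆ = a * y * a⁻¹ * y⁻¹ := commutatorElement_def a y
      rw [this]; exact mul_mem (hXinv a ha y hy) (inv_mem hy)
    have h1 : a * ⁅b, y⁆ * a⁻¹ = ⁅b, y⁆ := by
      rw [hAB' a ha b hb y (hXB hy)]; group
    have h2 : a * ⁅b, y⁆ * a⁻¹ = ⁅b * (b⁻¹ * a * b * a⁻¹), ⁅a, y⁆ * y⁆ := by
      rw [conj_comm]
      congr 1
      · group
      · simp only [commutatorElement_def]; group
    rw [h1, cml, cmr b] at h2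
    have h3 : b * ⁅b⁻¹ * a * b * a⁻¹, ⁅a, y⁆ * y⁆ * b⁻¹ = ⁅b⁻¹ * a * b * a⁻¹, ⁅a, y⁆ * y⁆ := by
      rw [hZ _ hu _ (mul_mem hs hy) b hb]; group
    have h4 : ⁅a, y⁆ * ⁅b, y⁆ * ⁅a, y⁆⁻¹ = ⁅b, y⁆ := by
      rw [hXB' _ hs b hb y (hXB hy)]; group
    rw [h3, h4, ← mul_assoc] at h2
    exact right_eq_mul.mp h2
  have hs : ⁅a, y⁆ ∈ X := by
    have : ⁅a, y⁆ = a * y * a⁻¹ * y⁻¹ := commutatorElement_def a y
    rw [this]; exact mul_mem (hXinv a ha y hy) (inv_mem hy)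
  have has : ⁅a, ⁅a, y⁆⁆ = 1 := by
    rw [commutatorElement_def, hXAA y hy a ha a ha]; group
  have hus : ⁅b⁻¹ * a * b * a⁻¹, ⁅a, y⁆⁆ = 1 := by
    have := I0 _ hs
    rw [has] at this
    simpa using this
  have h5 := I0 y hy
  rw [cmr, hus, one_mul] at h5
  have h6 : ⁅a, y⁆ * ⁅b⁻¹ * a * b * a⁻¹, y⁆ * ⁅a, y⁆⁻¹ = ⁅b⁻¹ * a * b * a⁻¹, y⁆ := by
    rw [hZ _ hu _ hy _ (hXB hs)]; group
  rw [h6] at h5
  rw [← commutatorElement_inv b]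
  exact eq_inv_of_mul_eq_one_left h5


theorem I2 (A B X : Subgroup G) (b : G) (hXB : X ≤ B) (hb : b ∈ B)
    (hZ : ∀ x ∈ X, ∀ y ∈ X, ∀ g ∈ B, g * ⁅x, y⁆ = ⁅x, y⁆ * g)
    (hXB' : ∀ x ∈ X, ∀ g ∈ B, ∀ h ∈ B, x * ⁅g, h⁆ = ⁅g, h⁆ * x)
    (hAB' : ∀ a ∈ A, ∀ g ∈ B, ∀ h ∈ B, a * ⁅g, h⁆ = ⁅g, h⁆ * a)
    (hXAA : ∀ x ∈ X, ∀ a ∈ A, ∀ a' ∈ A, a' * ⁅a, x⁆ = ⁅a, x⁆ * a')
    (hXinv : ∀ a ∈ A, ∀ x ∈ X, a * x * a⁻¹ ∈ X)
    (a a' : G) (ha : a ∈ A) (ha' : a' ∈ A) (hcomm : a * a' = a' * a)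
    (hu : b⁻¹ * a * b * a⁻¹ ∈ X) (hv : b⁻¹ * a' * b * a'⁻¹ ∈ X) :
    ⁅b⁻¹ * a * b * a⁻¹, b⁻¹ * a' * b * a'⁻¹⁆ = ⁅b⁻¹ * a' * b * a'⁻¹, b⁻¹ * a * b * a⁻¹⁆ := by
  obtain ⟨u, hu_def⟩ : ∃ u, u = b⁻¹ * a * b * a⁻¹ := ⟨_, rfl⟩
  obtain ⟨v, hv_def⟩ : ∃ v, v = b⁻¹ * a' * b * a'⁻¹ := ⟨_, rfl⟩
  have e1 := I1 A B X b hXB hb hZ hXB' hAB' hXAA hXinv a ha hu _ hv
  have e2 := I1 A B X b hXB hb hZ hXB' hAB' hXAA hXinv a' ha' hv _ hu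
  simp only [← hu_def, ← hv_def] at e1 e2 hu hv ⊢
  have hs : ⁅a, v⁆ ∈ X := by
    rw [commutatorElement_def]; exact mul_mem (hXinv a ha v hv) (inv_mem hv)
  have key : u * ⁅a, v⁆ * v = v * ⁅a', u⁆ * u := by
    have h1 : u * ⁅a, v⁆ * v = b⁻¹ * (a * a') * b * (a * a')⁻¹ := by
      rw [hu_def, hv_def]; simp only [commutatorElement_def]; group
    have h2 : v * ⁅a', u⁆ * u = b⁻¹ * (a' * a) * b * (a' * a)⁻¹ := by
      rw [hu_def, hv_def]; simp only [commutatorElement_def]; group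
    rw [h1, h2, hcomm]
  have ht : ⁅a', u⁆ = ⁅a, v⁆ * (⁅⁅a, v⁆⁻¹, v⁻¹ * u⁆ * ⁅v⁻¹, u⁆) := by
    have : ⁅a', u⁆ = v⁻¹ * (u * ⁅a, v⁆ * v) * u⁻¹ := by rw [key]; group
    rw [this]; simp only [commutatorElement_def]; group
  have hz : b * (⁅⁅a, v⁆⁻¹, v⁻¹ * u⁆ * ⁅v⁻¹, u⁆) = (⁅⁅a, v⁆⁻¹, v⁻¹ * u⁆ * ⁅v⁻¹, u⁆) * b := by
    rw [← mul_assoc, hZ _ (inv_mem hs) _ (mul_mem (inv_mem hv) hu) b hb, mul_assoc,
      hZ _ (inv_mem hv) _ hu b hb, mul_assoc]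
  have hzb : ⁅(⁅⁅a, v⁆⁻¹, v⁻¹ * u⁆ * ⁅v⁻¹, u⁆), b⁆ = 1 := by
    rw [commutatorElement_def, ← hz]; group
  rw [e1, e2, ht, cml, hzb]
  group


theorem sq_ext (B X : Subgroup G) (S : Set G) (hX : X = Subgroup.closure S) (hXB : X ≤ B)
    (hZ : ∀ x ∈ X, ∀ y ∈ X, ∀ g ∈ B, g * ⁅x, y⁆ = ⁅x, y⁆ * g)
    (y : G) (hy : y ∈ X) (hS : ∀ x ∈ S, ⁅x, y⁆ ^ 2 = 1) :
    ∀ x ∈ X, ⁅x, y⁆ ^ 2 = 1 := by
  intro x hx
  rw [hX] at hx
  induction hx using Subgroup.closure_induction with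
  | mem x hx => exact hS x hx
  | one => simp
  | mul x x' hx hx' ihx ihx' =>
    rw [← hX] at hx hx'
    have h1 : x * ⁅x', y⁆ * x⁻¹ = ⁅x', y⁆ := by
      rw [hZ _ hx' _ hy _ (hXB hx)]; group
    rw [cml, h1]
    have hc : Commute ⁅x', y⁆ ⁅x, y⁆ := by
      have hm : ⁅x, y⁆ ∈ B := by
        rw [commutatorElement_def]
        exact mul_mem (mul_mem (mul_mem (hXB hx) (hXB hy)) (inv_mem (hXB hx))) (inv_mem (hXB hy))
      exact (hZ _ hx' _ hy _ hm).symm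
    rw [hc.mul_pow, ihx, ihx', one_mul]
  | inv x hx ihx =>
    rw [← hX] at hx
    have h1 : ⁅x⁻¹, y⁆ = x⁻¹ * ⁅y, x⁆ * x := by
      simp only [commutatorElement_def]; group
    have h2 : x⁻¹ * ⁅y, x⁆ * x = ⁅y, x⁆ := by
      rw [hZ _ hy _ hx _ (hXB (inv_mem hx))]; group
    rw [h1, h2, ← commutatorElement_inv, inv_pow, ihx, inv_one]



/-- If A acts on B centralizing [B, B], then [B, A] has derived subgroup central in B, and for abelian A and b ∈ B with [[b, A], A, A] = 1 the derived subgroup of the subgroup [b, A] generated by the commutators of b with A has exponent dividing 2. -/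
theorem result {G : Type*} [Group G] [Finite G] (A B : Subgroup G) (hAB : A ≤ Subgroup.normalizer (B : Set G)) (hc : ⁅⁅B, B⁆, A⁆ = ⊥) : ⁅⁅B, A⁆, ⁅B, A⁆⁆ ≤ B ⊓ Subgroup.centralizer (B : Set G) ∧ (IsMulCommutative A → ∀ b ∈ B, ⁅⁅(Subgroup.closure {g : G | ∃ a ∈ A, g = b⁻¹ * a * b * a⁻¹}), A⁆, A⁆ = ⊥ → ∀ w ∈ ⁅(Subgroup.closure {g : G | ∃ a ∈ A, g = b⁻¹ * a * b * a⁻¹}), (Subgroup.closure {g : G | ∃ a ∈ A, g = b⁻¹ * a * b * a⁻¹})⁆, w ^ 2 = 1) := by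
  obtain ⟨L2, hP1⟩ := part1 A B hAB hc
  refine ⟨hP1, ?_⟩
  intro hA b hb hXA
  obtain ⟨S, hS⟩ : ∃ S : Set G, S = {g : G | ∃ a ∈ A, g = b⁻¹ * a * b * a⁻¹} := ⟨_, rfl⟩
  obtain ⟨X, hX⟩ : ∃ X : Subgroup G, X = Subgroup.closure S := ⟨_, rfl⟩
  rw [← hS, ← hX] at hXA ⊢
  have hBA : ⁅B, A⁆ ≤ B := comm_le_of_norm A B hAB
  have hgen : ∀ a ∈ A, b⁻¹ * a * b * a⁻¹ ∈ X := by
    intro a ha
    rw [hX]; apply Subgroup.subset_closure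
    rw [hS]; exact ⟨a, ha, rfl⟩
  have hXle : X ≤ ⁅B, A⁆ := by
    rw [hX, Subgroup.closure_le]
    intro g hg
    rw [hS] at hg
    obtain ⟨a, ha, rfl⟩ := hg
    have : b⁻¹ * a * b * a⁻¹ = ⁅b⁻¹, a⁆ := by
      rw [commutatorElement_def, inv_inv]
    rw [this]
    exact Subgroup.commutator_mem_commutator (inv_mem hb) ha
  have hXB : X ≤ B := hXle.trans hBA
  have hXXc : ⁅X, X⁆ ≤ Subgroup.centralizer (B : Set G) :=
    (Subgroup.commutator_mono hXle hXle).trans (hP1.trans inf_le_right)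
  have hZ : ∀ x ∈ X, ∀ y ∈ X, ∀ g ∈ B, g * ⁅x, y⁆ = ⁅x, y⁆ * g := by
    intro x hx y hy g hg
    exact Subgroup.mem_centralizer_iff.mp
      (hXXc (Subgroup.commutator_mem_commutator hx hy)) g hg
  have hXB' : ∀ x ∈ X, ∀ g ∈ B, ∀ h ∈ B, x * ⁅g, h⁆ = ⁅g, h⁆ * x := by
    intro x hx g hg h hh
    have h1 := Subgroup.commutator_eq_bot_iff_le_centralizer.mp L2 (hXle hx)
    exact (Subgroup.mem_centralizer_iff.mp h1 _
      (Subgroup.commutator_mem_commutator hg hh)).symm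
  have hAB' : ∀ a ∈ A, ∀ g ∈ B, ∀ h ∈ B, a * ⁅g, h⁆ = ⁅g, h⁆ * a := by
    intro a ha g hg h hh
    have h1 := Subgroup.commutator_eq_bot_iff_le_centralizer.mp hc
      (Subgroup.commutator_mem_commutator hg hh)
    exact Subgroup.mem_centralizer_iff.mp h1 a ha
  have hXAA : ∀ x ∈ X, ∀ a ∈ A, ∀ a' ∈ A, a' * ⁅a, x⁆ = ⁅a, x⁆ * a' := by
    intro x hx a ha a' ha'
    have h0 : ⁅a, x⁆ ∈ ⁅X, A⁆ := by
      rw [Subgroup.commutator_comm]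
      exact Subgroup.commutator_mem_commutator ha hx
    have h1 := Subgroup.commutator_eq_bot_iff_le_centralizer.mp hXA h0
    exact Subgroup.mem_centralizer_iff.mp h1 a' ha'
  have hXinv : ∀ a ∈ A, ∀ x ∈ X, a * x * a⁻¹ ∈ X := by
    intro a ha x hx
    have hx' := hx
    rw [hX] at hx'
    induction hx' using Subgroup.closure_induction with
    | mem x hxS =>
      rw [hS] at hxS
      obtain ⟨a', ha', rfl⟩ := hxS
      have : a * (b⁻¹ * a' * b * a'⁻¹) * a⁻¹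
          = (b⁻¹ * a * b * a⁻¹)⁻¹ * (b⁻¹ * (a * a') * b * (a * a')⁻¹) := by group
      rw [this]
      exact mul_mem (inv_mem (hgen a ha)) (hgen _ (mul_mem ha ha'))
    | one => simp
    | mul x y hx1 hy1 ihx ihy =>
      rw [← hX] at hx1 hy1
      have : a * (x * y) * a⁻¹ = (a * x * a⁻¹) * (a * y * a⁻¹) := by group
      rw [this]
      exact mul_mem (ihx hx1) (ihy hy1)
    | inv x hx1 ihx =>
      rw [← hX] at hx1
      have : a * x⁻¹ * a⁻¹ = (a * x * a⁻¹)⁻¹ := by group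
      rw [this]
      exact inv_mem (ihx hx1)
  have hcomm : ∀ a ∈ A, ∀ a' ∈ A, a * a' = a' * a := by
    intro a ha a' ha'
    have := hA.is_comm.comm (⟨a, ha⟩ : A) ⟨a', ha'⟩
    exact congrArg Subtype.val this
  have hgg : ∀ x ∈ S, ∀ y ∈ S, ⁅x, y⁆ ^ 2 = 1 := by
    intro x hx y hy
    rw [hS] at hx hy
    obtain ⟨a, ha, rfl⟩ := hx
    obtain ⟨a', ha', rfl⟩ := hy
    have h := I2 A B X b hXB hb hZ hXB' hAB' hXAA hXinv a a' ha ha' (hcomm a ha a' ha')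
      (hgen a ha) (hgen a' ha')
    rw [pow_two]
    nth_rewrite 2 [h]
    rw [← commutatorElement_inv, inv_mul_cancel]
  have hSX : ∀ x ∈ S, x ∈ X := by
    intro x hx; rw [hX]; exact Subgroup.subset_closure hx
  have h1 : ∀ y ∈ S, ∀ x ∈ X, ⁅x, y⁆ ^ 2 = 1 := by
    intro y hy
    exact sq_ext B X S hX hXB hZ y (hSX y hy) (fun x hx => hgg x hx y hy)
  have h2 : ∀ x ∈ X, ∀ y ∈ X, ⁅y, x⁆ ^ 2 = 1 := by
    intro x hx
    apply sq_ext B X S hX hXB hZ x hx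
    intro y hy
    have := h1 y hy x hx
    rw [← commutatorElement_inv, inv_pow, this, inv_one]
  intro w hw
  have hw' := hw
  rw [Subgroup.commutator_def] at hw'
  induction hw' using Subgroup.closure_induction with
  | mem w hwS =>
    obtain ⟨x, hx, y, hy, rfl⟩ := hwS
    exact h2 y hy x hx
  | one => simp
  | mul w w' hw1 hw1' ihw ihw' =>
    rw [← Subgroup.commutator_def] at hw1 hw1'
    have hc : Commute w w' := by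
      have hm : w' ∈ B := hXB ((Subgroup.commutator_le_self X) hw1')
      exact (Subgroup.mem_centralizer_iff.mp (hXXc hw1) w' hm).symm
    rw [hc.mul_pow, ihw hw1, ihw' hw1', one_mul]
  | inv w hw1 ihw =>
    rw [← Subgroup.commutator_def] at hw1
    rw [inv_pow, ihw hw1, inv_one]

end Cfsg.Agent.S0648
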