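import Mathlib
import Cfsg.Agent.S0648

set_option autoImplicit false
open scoped commutatorElement

namespace Cfsg.Agent.helper4.Glaub

variable {S : Type*} [Group S]

/-- subgroup `T` normalizes `K` if it conjugates `K` into itself. -/
theorem le_normalizer_of_conj (T K : Subgroup S)
    (h : ∀ t ∈ T, ∀ k ∈ K, t * k * t⁻¹ ∈ K) : T ≤ Subgroup.normalizer (K : Set S) := by
  intro t ht
  rw [Subgroup.mem_normalizer_iff]
  intro k
  constructor
  · exact h t ht k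
  · intro hk
    have := h t⁻¹ (inv_mem ht) _ hk
    rw [inv_inv] at this
    have e : t⁻¹ * (t * k * t⁻¹) * t = k := by group
    rwa [e] at this

theorem mem_normalizer_of_conj [Finite S] (K : Subgroup S) (t : S)
    (h : ∀ k ∈ K, t * k * t⁻¹ ∈ K) : t ∈ Subgroup.normalizer (K : Set S) := by
  rw [Subgroup.mem_normalizer_iff]
  intro k
  refine ⟨h k, fun hk => ?_⟩
  let f : K → K := fun k => ⟨t * k * t⁻¹, h k k.2⟩
  have hinj : Function.Injective f := by
    intro x y hxy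
    have := congrArg Subtype.val hxy
    simp only [f] at this
    apply Subtype.ext
    exact mul_left_cancel (mul_right_cancel this)
  have hsurj := Finite.surjective_of_injective hinj
  obtain ⟨x, hx⟩ := hsurj ⟨_, hk⟩
  have := congrArg Subtype.val hx
  simp only [f] at this
  have e : (x : S) = k := mul_left_cancel (mul_right_cancel this)
  rw [← e]; exact x.2

/-- conjugation invariance of `D ⊔ closure gens`. -/
theorem conj_sup_closure (D K : Subgroup S) (gens : Set S) (t : S)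
    (h1 : ∀ d ∈ D, t * d * t⁻¹ ∈ K) (h2 : ∀ x ∈ gens, t * x * t⁻¹ ∈ K) :
    ∀ y ∈ D ⊔ Subgroup.closure gens, t * y * t⁻¹ ∈ K := by
  have : D ⊔ Subgroup.closure gens ≤ K.comap (MulAut.conj t).toMonoidHom := by
    refine sup_le ?_ ?_
    · intro d hd
      rw [Subgroup.mem_comap]
      simpa using h1 d hd
    · rw [Subgroup.closure_le]
      intro x hx
      simp only [Subgroup.coe_comap, Set.mem_preimage, SetLike.mem_coe]
      simpa using h2 x hx
  intro y hy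
  have := this hy
  rw [Subgroup.mem_comap] at this
  simpa using this

theorem mem_cj (A : Subgroup S) (b x : S) :
    x ∈ A.map (MulAut.conj (b⁻¹)).toMonoidHom ↔ b * x * b⁻¹ ∈ A := by
  rw [Subgroup.mem_map]
  constructor
  · rintro ⟨a, ha, rfl⟩
    simp only [MulEquiv.toMonoidHom_eq_coe, MonoidHom.coe_coe, MulAut.conj_apply, inv_inv]
    have : b * (b⁻¹ * a * b) * b⁻¹ = a := by group
    rw [this]; exact ha
  · intro h
    refine ⟨_, h, ?_⟩
    simp only [MulEquiv.toMonoidHom_eq_coe, MonoidHom.coe_coe, MulAut.conj_apply, inv_inv]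
    group


/-- `A^b = b⁻¹ A b`. -/
def cj (A : Subgroup S) (b : S) : Subgroup S := A.map (MulAut.conj (b⁻¹)).toMonoidHom

theorem mem_cj' (A : Subgroup S) (b x : S) : x ∈ cj A b ↔ b * x * b⁻¹ ∈ A := mem_cj A b x

/-- the generators `a b⁻¹ a⁻¹ b`. -/
def gens (A : Subgroup S) (b : S) : Set S := {g : S | ∃ a ∈ A, g = a * b⁻¹ * a⁻¹ * b}

def DD (A : Subgroup S) (b : S) : Subgroup S := A ⊓ cj A b

def XX (A : Subgroup S) (b : S) : Subgroup S := Subgroup.closure (gens A b)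

def Astar (A : Subgroup S) (b : S) : Subgroup S := DD A b ⊔ XX A b

structure GSetup (B A : Subgroup S) (b : S) : Prop where
  normB : B.Normal
  comm : ∀ x ∈ A, ∀ y ∈ A, x * y = y * x
  hBA : ⁅B, B⁆ ≤ A
  hb : b ∈ B
  hbN : b ∈ Subgroup.normalizer ((Subgroup.normalizer (A : Set S)) : Set S)

namespace GSetup

variable {B A : Subgroup S} {b : S} (h : GSetup B A b)
include h

theorem A_le_N : A ≤ Subgroup.normalizer (A : Set S) := Subgroup.le_normalizer

theorem conjN {n : S} (hn : n ∈ Subgroup.normalizer (A : Set S)) :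
    b * n * b⁻¹ ∈ Subgroup.normalizer (A : Set S) :=
  (Subgroup.mem_normalizer_iff.mp h.hbN n).mp hn

theorem conjN' {n : S} (hn : n ∈ Subgroup.normalizer (A : Set S)) :
    b⁻¹ * n * b ∈ Subgroup.normalizer (A : Set S) := by
  apply (Subgroup.mem_normalizer_iff.mp h.hbN _).mpr
  have : b * (b⁻¹ * n * b) * b⁻¹ = n := by group
  rw [this]; exact hn

theorem N_conj_A {n a : S} (hn : n ∈ Subgroup.normalizer (A : Set S)) (ha : a ∈ A) :
    n * a * n⁻¹ ∈ A := (Subgroup.mem_normalizer_iff.mp hn a).mp ha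

theorem N_conj_A' {n a : S} (hn : n ∈ Subgroup.normalizer (A : Set S)) (ha : a ∈ A) :
    n⁻¹ * a * n ∈ A := by
  have := h.N_conj_A (inv_mem hn) ha
  rwa [inv_inv] at this

theorem cj_le_N : cj A b ≤ Subgroup.normalizer (A : Set S) := by
  intro c hc
  rw [mem_cj'] at hc
  have := h.conjN' (h.A_le_N hc)
  have e : b⁻¹ * (b * c * b⁻¹) * b = c := by group
  rwa [e] at this

theorem N_conj_cj {n c : S} (hn : n ∈ Subgroup.normalizer (A : Set S)) (hc : c ∈ cj A b) :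
    n * c * n⁻¹ ∈ cj A b := by
  rw [mem_cj'] at hc ⊢
  have := h.N_conj_A (h.conjN hn) hc
  have e : b * (n * c * n⁻¹) * b⁻¹ = b * n * b⁻¹ * (b * c * b⁻¹) * (b * n * b⁻¹)⁻¹ := by group
  rwa [e]

theorem comm_cj {x y : S} (hx : x ∈ cj A b) (hy : y ∈ cj A b) : x * y = y * x := by
  rw [mem_cj'] at hx hy
  have := h.comm _ hx _ hy
  have e1 : x * y = b⁻¹ * ((b * x * b⁻¹) * (b * y * b⁻¹)) * b := by group
  have e2 : y * x = b⁻¹ * ((b * y * b⁻¹) * (b * x * b⁻¹)) * b := by group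
  rw [e1, e2, this]

omit h in
theorem mem_DD {x : S} : x ∈ DD A b ↔ x ∈ A ∧ x ∈ cj A b := Subgroup.mem_inf

theorem DD_le_A : DD A b ≤ A := inf_le_left
theorem DD_le_cj : DD A b ≤ cj A b := inf_le_right

/-- `[c, a] ∈ D` for `c ∈ A^b`, `a ∈ A`. -/
theorem comm_mem_DD {c a : S} (hc : c ∈ cj A b) (ha : a ∈ A) : ⁅c, a⁆ ∈ DD A b := by
  refine mem_DD.mpr ⟨?_, ?_⟩
  · have h1 : c * a * c⁻¹ ∈ A := h.N_conj_A (h.cj_le_N hc) ha
    rw [commutatorElement_def]
    exact mul_mem h1 (inv_mem ha)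
  · have h1 : a * c⁻¹ * a⁻¹ ∈ cj A b := h.N_conj_cj (h.A_le_N ha) (inv_mem hc)
    have e : ⁅c, a⁆ = c * (a * c⁻¹ * a⁻¹) := by rw [commutatorElement_def]; group
    rw [e]
    exact mul_mem hc h1

theorem comm_mem_DD' {c a : S} (hc : c ∈ cj A b) (ha : a ∈ A) : ⁅a, c⁆ ∈ DD A b := by
  rw [← commutatorElement_inv]
  exact inv_mem (h.comm_mem_DD hc ha)

omit h in
theorem gens_eq (a : S) : a * b⁻¹ * a⁻¹ * b = a * (b⁻¹ * a⁻¹ * b) := by group

omit h in
theorem cj_mem {a : S} (ha : a ∈ A) : b⁻¹ * a * b ∈ cj A b := by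
  rw [mem_cj']
  have : b * (b⁻¹ * a * b) * b⁻¹ = a := by group
  rwa [this]

theorem gen_mem_B (a : S) : a * b⁻¹ * a⁻¹ * b ∈ B := by
  have := h.normB
  exact mul_mem (h.normB.conj_mem _ (inv_mem h.hb) a) h.hb

theorem gen_mem_N {a : S} (ha : a ∈ A) :
    a * b⁻¹ * a⁻¹ * b ∈ Subgroup.normalizer (A : Set S) := by
  rw [gens_eq]
  exact mul_mem (h.A_le_N ha) (h.cj_le_N (cj_mem (inv_mem ha)))

theorem XX_le_B : XX A b ≤ B := by
  rw [XX, Subgroup.closure_le]
  rintro g ⟨a, _, rfl⟩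
  exact h.gen_mem_B a

theorem XX_le_N : XX A b ≤ Subgroup.normalizer (A : Set S) := by
  rw [XX, Subgroup.closure_le]
  rintro g ⟨a, ha, rfl⟩
  exact h.gen_mem_N ha

theorem DD_comm_A {d a : S} (hd : d ∈ DD A b) (ha : a ∈ A) : d * a = a * d :=
  h.comm d (mem_DD.mp hd).1 a ha

theorem DD_comm_cj {d c : S} (hd : d ∈ DD A b) (hc : c ∈ cj A b) : d * c = c * d :=
  h.comm_cj (mem_DD.mp hd).2 hc

theorem XX_le_centralizer_DD : XX A b ≤ Subgroup.centralizer (DD A b : Set S) := by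
  rw [XX, Subgroup.closure_le]
  rintro g ⟨a, ha, rfl⟩
  rw [SetLike.mem_coe, Subgroup.mem_centralizer_iff]
  intro d hd
  rw [gens_eq]
  have e1 := h.DD_comm_A hd ha
  have e2 := h.DD_comm_cj hd (cj_mem (b := b) (inv_mem ha))
  calc d * (a * (b⁻¹ * a⁻¹ * b)) = (d * a) * (b⁻¹ * a⁻¹ * b) := (mul_assoc _ _ _).symm
    _ = a * (d * (b⁻¹ * a⁻¹ * b)) := by rw [e1]; exact mul_assoc _ _ _
    _ = a * (b⁻¹ * a⁻¹ * b) * d := by rw [e2]; exact (mul_assoc _ _ _).symm

theorem XX_comm_DD {x d : S} (hx : x ∈ XX A b) (hd : d ∈ DD A b) : d * x = x * d :=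
  Subgroup.mem_centralizer_iff.mp (h.XX_le_centralizer_DD hx) d hd

/-- `B' ≤ D`. -/
theorem comm_le_DD : ⁅B, B⁆ ≤ DD A b := by
  have := h.normB
  refine le_inf h.hBA ?_
  intro w hw
  rw [mem_cj']
  exact h.hBA ((inferInstance : (⁅B, B⁆).Normal).conj_mem w hw b)

/-- `A ∩ B ≤ D`. -/
theorem A_inf_B_le_DD : A ⊓ B ≤ DD A b := by
  intro a ha'
  obtain ⟨ha, haB⟩ := Subgroup.mem_inf.mp ha'
  refine mem_DD.mpr ⟨ha, ?_⟩
  rw [mem_cj']
  have e : b * a * b⁻¹ = ⁅b, a⁆ * a := by rw [commutatorElement_def]; group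
  rw [e]
  exact mul_mem (h.hBA (Subgroup.commutator_mem_commutator h.hb haB)) ha

/-- `D^b ≤ D`. -/
theorem DD_conj {d : S} (hd : d ∈ DD A b) : b⁻¹ * d * b ∈ DD A b := by
  have := h.normB
  obtain ⟨hd1, hd2⟩ := mem_DD.mp hd
  refine mem_DD.mpr ⟨?_, cj_mem hd1⟩
  have ha1 : b * d * b⁻¹ ∈ A := (mem_cj' A b d).mp hd2
  -- k = a₁⁻¹ d
  have hkA : (b * d * b⁻¹)⁻¹ * d ∈ A := mul_mem (inv_mem ha1) hd1
  have hkB : (b * d * b⁻¹)⁻¹ * d ∈ B := by
    have e : (b * d * b⁻¹)⁻¹ * d = b * (d⁻¹ * b⁻¹ * d⁻¹⁻¹) := by group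
    rw [e]
    exact mul_mem h.hb (h.normB.conj_mem _ (inv_mem h.hb) _)
  obtain ⟨k, hk⟩ : ∃ k, k = (b * d * b⁻¹)⁻¹ * d := ⟨_, rfl⟩
  rw [← hk] at hkA hkB
  have e : b⁻¹ * d * b = d * (k * ⁅k⁻¹, b⁻¹⁆) := by
    rw [hk, commutatorElement_def]; group
  rw [e]
  exact mul_mem hd1 (mul_mem hkA
    (h.hBA (Subgroup.commutator_mem_commutator (inv_mem hkB) (inv_mem h.hb))))

end GSetup


namespace GSetup

variable {B A : Subgroup S} {b : S} (h : GSetup B A b)
include h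

omit h in
theorem gen_mem_XX {a : S} (ha : a ∈ A) : a * b⁻¹ * a⁻¹ * b ∈ XX A b :=
  Subgroup.subset_closure ⟨a, ha, rfl⟩

omit h in
theorem cocycle (a a' : S) :
    (a * a') * b⁻¹ * (a * a')⁻¹ * b = a * (a' * b⁻¹ * a'⁻¹ * b) * a⁻¹ * (a * b⁻¹ * a⁻¹ * b) := by
  group

omit h in
/-- `A` normalizes `X`. -/
theorem A_conj_XX {a x : S} (ha : a ∈ A) (hx : x ∈ XX A b) : a * x * a⁻¹ ∈ XX A b := by
  have : XX A b ≤ (XX A b).comap (MulAut.conj a).toMonoidHom := by
    rw [XX, Subgroup.closure_le]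
    rintro g ⟨a', ha', rfl⟩
    simp only [Subgroup.coe_comap, Set.mem_preimage, SetLike.mem_coe, MulEquiv.toMonoidHom_eq_coe,
      MonoidHom.coe_coe, MulAut.conj_apply]
    have e : a * (a' * b⁻¹ * a'⁻¹ * b) * a⁻¹
        = ((a * a') * b⁻¹ * (a * a')⁻¹ * b) * (a * b⁻¹ * a⁻¹ * b)⁻¹ := by group
    rw [e]
    exact mul_mem (gen_mem_XX (mul_mem ha ha')) (inv_mem (gen_mem_XX ha))
  have := this hx
  rw [Subgroup.mem_comap] at this
  simpa using this

/-- `[x, a] ∈ D` for `x ∈ X`, `a ∈ A`. -/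
theorem XX_comm_A_mem_DD {x a : S} (hx : x ∈ XX A b) (ha : a ∈ A) : ⁅x, a⁆ ∈ DD A b := by
  have hx' := hx
  rw [XX] at hx'
  induction hx' using Subgroup.closure_induction with
  | mem x hxg =>
    obtain ⟨a₁, ha₁, rfl⟩ := hxg
    rw [gens_eq, Cfsg.Agent.S0648.cml]
    have h1 : ⁅b⁻¹ * a₁⁻¹ * b, a⁆ ∈ DD A b := h.comm_mem_DD (cj_mem (inv_mem ha₁)) ha
    have h2 : ⁅a₁, a⁆ = 1 := by
      rw [commutatorElement_eq_one_iff_mul_comm]; exact h.comm _ ha₁ _ ha
    rw [h2, mul_one]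
    have h3 : a₁ * ⁅b⁻¹ * a₁⁻¹ * b, a⁆ * a₁⁻¹ = ⁅b⁻¹ * a₁⁻¹ * b, a⁆ := by
      rw [← h.DD_comm_A h1 ha₁]; group
    rw [h3]; exact h1
  | one => simp
  | mul x y hx1 hy1 ihx ihy =>
    have hx1' : x ∈ XX A b := hx1
    have hy1' : y ∈ XX A b := hy1
    rw [Cfsg.Agent.S0648.cml]
    have h1 := ihy hy1'
    have h3 : x * ⁅y, a⁆ * x⁻¹ = ⁅y, a⁆ := by
      rw [← h.XX_comm_DD hx1' h1]; group
    rw [h3]
    exact mul_mem h1 (ihx hx1')
  | inv x hx1 ihx =>
    have hx1' : x ∈ XX A b := hx1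
    have h1 := ihx hx1'
    have e : ⁅x⁻¹, a⁆ = x⁻¹ * ⁅x, a⁆⁻¹ * x := by
      simp only [commutatorElement_def]; group
    have h3 : x⁻¹ * ⁅x, a⁆⁻¹ * x = ⁅x, a⁆⁻¹ := by
      rw [← h.XX_comm_DD (inv_mem hx1') (inv_mem h1)]; group
    rw [e, h3]
    exact inv_mem h1

theorem DD_le_centralizer_A : DD A b ≤ Subgroup.centralizer (A : Set S) := by
  intro d hd
  rw [Subgroup.mem_centralizer_iff]
  intro a ha
  exact (h.DD_comm_A hd ha).symm

theorem XX_A_A : ⁅⁅XX A b, A⁆, A⁆ = ⊥ := by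
  rw [Subgroup.commutator_eq_bot_iff_le_centralizer]
  refine le_trans ?_ h.DD_le_centralizer_A
  rw [Subgroup.commutator_le]
  intro x hx a ha
  exact h.XX_comm_A_mem_DD hx ha

omit h in
theorem XX_eq : XX A b = Subgroup.closure {g : S | ∃ a ∈ A, g = b⁻¹ * a * b * a⁻¹} := by
  apply le_antisymm
  · rw [XX, Subgroup.closure_le]
    rintro g ⟨a, ha, rfl⟩
    have e : a * b⁻¹ * a⁻¹ * b = (b⁻¹ * a * b * a⁻¹)⁻¹ := by group
    rw [e]
    exact inv_mem (Subgroup.subset_closure ⟨a, ha, rfl⟩)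
  · rw [Subgroup.closure_le]
    rintro g ⟨a, ha, rfl⟩
    have e : b⁻¹ * a * b * a⁻¹ = (a * b⁻¹ * a⁻¹ * b)⁻¹ := by group
    rw [e]
    exact inv_mem (gen_mem_XX ha)

/-- `X` is abelian: odd case through the commutator lemma S0648. -/
theorem XX_comm_odd [Finite S] {p : ℕ} [Fact p.Prime] (hS : IsPGroup p S) (hp : p ≠ 2)
    {x y : S} (hx : x ∈ XX A b) (hy : y ∈ XX A b) : x * y = y * x := by
  have := h.normB
  have hAB : A ≤ Subgroup.normalizer (B : Set S) := by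
    rw [Subgroup.normalizer_eq_top]; exact le_top
  have hc : ⁅⁅B, B⁆, A⁆ = ⊥ := by
    rw [Subgroup.commutator_eq_bot_iff_le_centralizer]
    intro w hw
    rw [Subgroup.mem_centralizer_iff]
    intro a ha
    exact h.comm a ha w (h.hBA hw)
  have hA : IsMulCommutative A := ⟨⟨fun x y => Subtype.ext (h.comm x x.2 y y.2)⟩⟩
  have key := (Cfsg.Agent.S0648.result A B hAB hc).2 hA b h.hb
  rw [← XX_eq] at key
  have key2 := key h.XX_A_A ⁅x, y⁆ (Subgroup.commutator_mem_commutator hx hy)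
  have h1 : orderOf ⁅x, y⁆ ∣ 2 := orderOf_dvd_of_pow_eq_one key2
  obtain ⟨k, hk⟩ := hS ⁅x, y⁆
  have h2 : orderOf ⁅x, y⁆ ∣ p ^ k := orderOf_dvd_of_pow_eq_one hk
  have hcop : Nat.Coprime 2 (p ^ k) := by
    apply Nat.Coprime.pow_right
    rw [Nat.coprime_primes Nat.prime_two (Fact.out : p.Prime)]
    exact fun h => hp h.symm
  have h3 : orderOf ⁅x, y⁆ = 1 := Nat.eq_one_of_dvd_coprimes hcop h1 h2
  rw [orderOf_eq_one_iff, commutatorElement_eq_one_iff_mul_comm] at h3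
  exact h3

theorem XX_comm_of_B (hB : IsMulCommutative B) {x y : S} (hx : x ∈ XX A b) (hy : y ∈ XX A b) :
    x * y = y * x := by
  have := hB.is_comm.comm (⟨x, h.XX_le_B hx⟩ : B) ⟨y, h.XX_le_B hy⟩
  exact congrArg Subtype.val this

end GSetup


namespace GSetup

variable {B A : Subgroup S} {b : S} (h : GSetup B A b)
include h

omit h in
theorem DD_le_Astar : DD A b ≤ Astar A b := le_sup_left
omit h in
theorem XX_le_Astar : XX A b ≤ Astar A b := le_sup_right

theorem Astar_comm (hX : ∀ x ∈ XX A b, ∀ y ∈ XX A b, x * y = y * x)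
    {x y : S} (hx : x ∈ Astar A b) (hy : y ∈ Astar A b) : x * y = y * x := by
  have h1 : Astar A b ≤ Subgroup.centralizer (DD A b : Set S) := by
    refine sup_le ?_ h.XX_le_centralizer_DD
    intro d hd
    rw [Subgroup.mem_centralizer_iff]
    intro d' hd'
    exact h.comm d' (mem_DD.mp hd').1 d (mem_DD.mp hd).1
  have h2 : Astar A b ≤ Subgroup.centralizer (XX A b : Set S) := by
    refine sup_le ?_ ?_
    · intro d hd
      rw [Subgroup.mem_centralizer_iff]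
      intro x' hx'
      exact (h.XX_comm_DD hx' hd).symm
    · intro x' hx'
      rw [Subgroup.mem_centralizer_iff]
      intro x'' hx''
      exact hX x'' hx'' x' hx'
  have h3 : Astar A b ≤ Subgroup.centralizer ({y} : Set S) := by
    refine sup_le ?_ ?_
    · intro d hd
      rw [Subgroup.mem_centralizer_iff]
      intro y' hy'
      rw [Set.mem_singleton_iff] at hy'
      rw [hy']
      exact (Subgroup.mem_centralizer_iff.mp (h1 hy) d hd).symm
    · intro x' hx'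
      rw [Subgroup.mem_centralizer_iff]
      intro y' hy'
      rw [Set.mem_singleton_iff] at hy'
      rw [hy']
      exact (Subgroup.mem_centralizer_iff.mp (h2 hy) x' hx').symm
  exact (Subgroup.mem_centralizer_iff.mp (h3 hx) y rfl).symm

theorem gen_mem_DD_iff {a : S} (ha : a ∈ A) : a * b⁻¹ * a⁻¹ * b ∈ DD A b ↔ a ∈ DD A b := by
  constructor
  · intro hg
    refine mem_DD.mpr ⟨ha, ?_⟩
    have h1 := (mem_DD.mp hg).2
    have h2 : b⁻¹ * a⁻¹ * b ∈ cj A b := cj_mem (inv_mem ha)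
    have e : a = (a * b⁻¹ * a⁻¹ * b) * (b⁻¹ * a⁻¹ * b)⁻¹ := by group
    rw [e]
    exact mul_mem h1 (inv_mem h2)
  · intro hd
    have h1 := h.DD_conj hd
    have e : a * b⁻¹ * a⁻¹ * b = a * (b⁻¹ * a * b)⁻¹ := by group
    rw [e]
    exact mul_mem hd (inv_mem h1)

theorem card_Astar [Finite S] (hX : ∀ x ∈ XX A b, ∀ y ∈ XX A b, x * y = y * x) :
    Nat.card (Astar A b) = Nat.card A := by
  have hnorm : ((DD A b).subgroupOf (Astar A b)).Normal := by
    refine ⟨fun n hn g => ?_⟩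
    rw [Subgroup.mem_subgroupOf] at hn ⊢
    have e : ((g * n * g⁻¹ : Astar A b) : S) = (n : S) := by
      simp only [Subgroup.coe_mul, Subgroup.coe_inv]
      rw [h.Astar_comm hX g.2 n.2]; group
    rw [e]; exact hn
  have hmemg : ∀ a : A, (a : S) * b⁻¹ * (a : S)⁻¹ * b ∈ Astar A b :=
    fun a => XX_le_Astar (gen_mem_XX a.2)
  let f : A →* (Astar A b) ⧸ (DD A b).subgroupOf (Astar A b) :=
    MonoidHom.mk' (fun a => QuotientGroup.mk ⟨(a : S) * b⁻¹ * (a : S)⁻¹ * b, hmemg a⟩) (by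
      intro a a'
      rw [← QuotientGroup.mk_mul, QuotientGroup.eq, Subgroup.mem_subgroupOf]
      simp only [Subgroup.coe_mul, Subgroup.coe_inv]
      have hga := gen_mem_XX (b := b) a.2
      have hga' := gen_mem_XX (b := b) a'.2
      have hδ := h.XX_comm_A_mem_DD hga' a.2
      have e1 : (a : S) * (a' : S) * b⁻¹ * ((a : S) * (a' : S))⁻¹ * b
          = ⁅(a' : S) * b⁻¹ * (a' : S)⁻¹ * b, (a : S)⁆⁻¹ *
            (((a : S) * b⁻¹ * (a : S)⁻¹ * b) * ((a' : S) * b⁻¹ * (a' : S)⁻¹ * b)) := by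
        rw [hX _ hga _ hga', commutatorElement_def]; group
      rw [e1, mul_inv_rev, inv_inv]
      have e2 := h.XX_comm_DD (mul_mem hga hga') hδ
      rw [mul_assoc, e2, ← mul_assoc, inv_mul_cancel, one_mul]
      exact hδ)
  have hker : f.ker = (DD A b).subgroupOf A := by
    ext a
    rw [MonoidHom.mem_ker, Subgroup.mem_subgroupOf]
    change (QuotientGroup.mk _ : (Astar A b) ⧸ (DD A b).subgroupOf (Astar A b)) = 1 ↔ _
    rw [QuotientGroup.eq_one_iff, Subgroup.mem_subgroupOf]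
    exact h.gen_mem_DD_iff a.2
  have hrange : f.range = ⊤ := by
    rw [eq_top_iff]
    intro q _
    obtain ⟨y, rfl⟩ := QuotientGroup.mk_surjective q
    have hle : Astar A b ≤ (f.range.comap (QuotientGroup.mk' _)).map (Astar A b).subtype := by
      refine sup_le ?_ ?_
      · intro d hd
        refine Subgroup.mem_map.mpr ⟨⟨d, DD_le_Astar hd⟩, ?_, rfl⟩
        rw [Subgroup.mem_comap]
        have : (QuotientGroup.mk' ((DD A b).subgroupOf (Astar A b))) ⟨d, DD_le_Astar hd⟩ = 1 := by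
          rw [QuotientGroup.mk'_apply, QuotientGroup.eq_one_iff, Subgroup.mem_subgroupOf]
          exact hd
        rw [this]; exact one_mem _
      · rw [XX, Subgroup.closure_le]
        rintro g ⟨a, ha, rfl⟩
        refine Subgroup.mem_map.mpr ⟨⟨_, hmemg ⟨a, ha⟩⟩, ?_, rfl⟩
        rw [Subgroup.mem_comap]
        exact ⟨⟨a, ha⟩, rfl⟩
    obtain ⟨y', hy', hyy⟩ := Subgroup.mem_map.mp (hle y.2)
    have : y' = y := Subtype.ext hyy
    rw [this, Subgroup.mem_comap] at hy'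
    exact hy'
  have c1 : Nat.card A = Nat.card ((DD A b).subgroupOf A) *
      Nat.card ((Astar A b) ⧸ (DD A b).subgroupOf (Astar A b)) := by
    rw [← Subgroup.card_mul_index f.ker, Subgroup.index_ker, hrange, hker, Subgroup.card_top]
  have c2 : Nat.card (Astar A b) = Nat.card ((Astar A b) ⧸ (DD A b).subgroupOf (Astar A b)) *
      Nat.card ((DD A b).subgroupOf (Astar A b)) :=
    Subgroup.card_eq_card_quotient_mul_card_subgroup _
  have c3 : Nat.card ((DD A b).subgroupOf A) = Nat.card (DD A b) :=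
    Nat.card_congr (Subgroup.subgroupOfEquivOfLe h.DD_le_A).toEquiv
  have c4 : Nat.card ((DD A b).subgroupOf (Astar A b)) = Nat.card (DD A b) :=
    Nat.card_congr (Subgroup.subgroupOfEquivOfLe DD_le_Astar).toEquiv
  rw [c1, c2, c3, c4, mul_comm]

end GSetup


theorem pow_mul_comm_z {x y z : S} (hz : y * x = x * y * z) (hzy : z * y = y * z) (n : ℕ) :
    y ^ n * x = x * y ^ n * z ^ n := by
  induction n with
  | zero => simp
  | succ n ih =>
    have hzyn : z * y ^ n = y ^ n * z := (Commute.pow_right (show Commute z y from hzy) n).eq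
    calc y ^ (n + 1) * x = y * (y ^ n * x) := by rw [pow_succ']; group
      _ = (y * x) * y ^ n * z ^ n := by rw [ih]; group
      _ = x * y * (z * y ^ n) * z ^ n := by rw [hz]; group
      _ = x * y ^ (n + 1) * z ^ (n + 1) := by rw [hzyn, pow_succ', pow_succ]; group

theorem mul_pow_class2 {x y z : S} (hz : y * x = x * y * z) (hzx : z * x = x * z)
    (hzy : z * y = y * z) (n : ℕ) :
    (x * y) ^ n = x ^ n * y ^ n * z ^ (∑ i ∈ Finset.range n, i) := by
  induction n with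
  | zero => simp
  | succ n ih =>
    have h1 := pow_mul_comm_z hz hzy n
    have hc : ∀ m : ℕ, z ^ m * x = x * z ^ m := fun m =>
      (Commute.pow_left (show Commute z x from hzx) m).eq
    have hc' : ∀ m : ℕ, z ^ m * y = y * z ^ m := fun m =>
      (Commute.pow_left (show Commute z y from hzy) m).eq
    rw [pow_succ, ih, Finset.sum_range_succ]
    calc x ^ n * y ^ n * z ^ (∑ i ∈ Finset.range n, i) * (x * y)
        = x ^ n * y ^ n * (z ^ (∑ i ∈ Finset.range n, i) * x) * y := by group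
      _ = x ^ n * (y ^ n * x) * (z ^ (∑ i ∈ Finset.range n, i) * y) := by rw [hc]; group
      _ = x ^ n * (x * y ^ n * z ^ n) * (y * z ^ (∑ i ∈ Finset.range n, i)) := by rw [h1, hc']
      _ = x ^ n * x * y ^ n * (z ^ n * y) * z ^ (∑ i ∈ Finset.range n, i) := by group
      _ = x ^ (n + 1) * y ^ (n + 1) * z ^ (∑ i ∈ Finset.range n, i + n) := by
          rw [hc', pow_succ, pow_succ, pow_add]; group


namespace GSetup

variable {B A : Subgroup S} {b : S} (h : GSetup B A b)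
include h

theorem comm_le_Astar : ⁅B, B⁆ ≤ Astar A b := h.comm_le_DD.trans DD_le_Astar

theorem Astar_le_N : Astar A b ≤ Subgroup.normalizer (A : Set S) :=
  sup_le (h.DD_le_A.trans h.A_le_N) h.XX_le_N

theorem exists_not_mem [Finite S] (hbA : b ∉ Subgroup.normalizer (A : Set S)) :
    ∃ a ∈ A, b⁻¹ * a * b ∉ A := by
  by_contra hcon
  push Not at hcon
  apply hbA
  have : b⁻¹ ∈ Subgroup.normalizer (A : Set S) := by
    apply mem_normalizer_of_conj
    intro k hk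
    rw [inv_inv]; exact hcon k hk
  have := inv_mem this
  rwa [inv_inv] at this

theorem lt1 [Finite S] (hbA : b ∉ Subgroup.normalizer (A : Set S)) :
    A ⊓ B < Astar A b ⊓ B := by
  obtain ⟨a, ha, hna⟩ := h.exists_not_mem hbA
  rw [SetLike.lt_iff_le_and_exists]
  refine ⟨le_inf (h.A_inf_B_le_DD.trans DD_le_Astar) inf_le_right, ?_⟩
  refine ⟨a⁻¹ * b⁻¹ * a⁻¹⁻¹ * b, ?_, ?_⟩
  · exact Subgroup.mem_inf.mpr ⟨XX_le_Astar (gen_mem_XX (inv_mem ha)), h.gen_mem_B _⟩
  · intro hm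
    apply hna
    have hm1 := (Subgroup.mem_inf.mp hm).1
    have e : b⁻¹ * a * b = a * (a⁻¹ * b⁻¹ * a⁻¹⁻¹ * b) := by group
    rw [e]
    exact mul_mem ha hm1

theorem lt2 (hnot : ¬ B ≤ Subgroup.normalizer (A : Set S)) : Astar A b ⊓ B < B := by
  refine lt_of_le_of_ne inf_le_right ?_
  intro he
  apply hnot
  have : B ≤ Astar A b := by rw [← he]; exact inf_le_left
  exact this.trans h.Astar_le_N

theorem A_le_normalizer_Astar : A ≤ Subgroup.normalizer (Astar A b : Set S) := by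
  apply le_normalizer_of_conj
  intro a ha y hy
  refine conj_sup_closure (DD A b) (Astar A b) (gens A b) a ?_ ?_ y hy
  · intro d hd
    have e : a * d * a⁻¹ = d := by
      rw [← h.DD_comm_A hd ha]; group
    rw [e]; exact DD_le_Astar hd
  · intro x hx
    exact XX_le_Astar (A_conj_XX ha (Subgroup.subset_closure hx))

theorem b_mem_normalizer_Astar [Finite S] : b ∈ Subgroup.normalizer (Astar A b : Set S) := by
  have hb' : b⁻¹ ∈ Subgroup.normalizer (Astar A b : Set S) := by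
    apply mem_normalizer_of_conj
    intro y hy
    refine conj_sup_closure (DD A b) (Astar A b) (gens A b) b⁻¹ ?_ ?_ y hy
    · intro d hd
      rw [inv_inv]
      exact DD_le_Astar (h.DD_conj hd)
    · rintro x ⟨a, ha, rfl⟩
      rw [inv_inv]
      have hxB := h.gen_mem_B a
      have hxX := gen_mem_XX (b := b) ha
      obtain ⟨x, hx⟩ : ∃ x, x = a * b⁻¹ * a⁻¹ * b := ⟨_, rfl⟩
      rw [← hx] at hxB hxX ⊢
      have e : b⁻¹ * x * b = x * ⁅x⁻¹, b⁻¹⁆ := by
        rw [commutatorElement_def]; group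
      rw [e]
      exact mul_mem (XX_le_Astar hxX)
        (h.comm_le_Astar (Subgroup.commutator_mem_commutator (inv_mem hxB) (inv_mem h.hb)))
  have := inv_mem hb'
  rwa [inv_inv] at this

theorem N_le_normalizer_Astar :
    Subgroup.normalizer (A : Set S) ≤ Subgroup.normalizer (Astar A b : Set S) := by
  have := h.normB
  apply le_normalizer_of_conj
  intro n hn y hy
  refine conj_sup_closure (DD A b) (Astar A b) (gens A b) n ?_ ?_ y hy
  · intro d hd
    obtain ⟨hd1, hd2⟩ := mem_DD.mp hd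
    exact DD_le_Astar (mem_DD.mpr ⟨h.N_conj_A hn hd1, h.N_conj_cj hn hd2⟩)
  · rintro x ⟨a, ha, rfl⟩
    have hn' := h.conjN hn
    have ha1 : n * a * n⁻¹ ∈ A := h.N_conj_A hn ha
    have ha2 : (b * n * b⁻¹) * a * (b * n * b⁻¹)⁻¹ ∈ A := h.N_conj_A hn' ha
    have hq : (n * a * n⁻¹) * ((b * n * b⁻¹) * a * (b * n * b⁻¹)⁻¹)⁻¹ ∈ A ⊓ B := by
      refine Subgroup.mem_inf.mpr ⟨mul_mem ha1 (inv_mem ha2), ?_⟩
      have hm : n⁻¹ * b * n⁻¹⁻¹ * b⁻¹ ∈ B :=
        mul_mem (h.normB.conj_mem _ h.hb _) (inv_mem h.hb)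
      have hcm : ⁅a, n⁻¹ * b * n⁻¹⁻¹ * b⁻¹⁆ ∈ B := by
        rw [commutatorElement_def]
        exact mul_mem (h.normB.conj_mem _ hm _) (inv_mem hm)
      have e : (n * a * n⁻¹) * ((b * n * b⁻¹) * a * (b * n * b⁻¹)⁻¹)⁻¹
          = n * ⁅a, n⁻¹ * b * n⁻¹⁻¹ * b⁻¹⁆ * n⁻¹ := by
        rw [commutatorElement_def]; group
      rw [e]
      exact h.normB.conj_mem _ hcm _
    have hδ := h.DD_conj (h.A_inf_B_le_DD hq)
    have e : n * (a * b⁻¹ * a⁻¹ * b) * n⁻¹
        = ((n * a * n⁻¹) * b⁻¹ * (n * a * n⁻¹)⁻¹ * b) *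
          (b⁻¹ * ((n * a * n⁻¹) * ((b * n * b⁻¹) * a * (b * n * b⁻¹)⁻¹)⁻¹) * b) := by group
    rw [e]
    exact mul_mem (XX_le_Astar (gen_mem_XX ha1)) (DD_le_Astar hδ)

theorem lt3 [Finite S] (hbA : b ∉ Subgroup.normalizer (A : Set S)) :
    Subgroup.normalizer (A : Set S) < Subgroup.normalizer (Astar A b : Set S) := by
  rw [SetLike.lt_iff_le_and_exists]
  exact ⟨h.N_le_normalizer_Astar, b, h.b_mem_normalizer_Astar, hbA⟩

end GSetup


namespace GSetup

variable {B A : Subgroup S} {b : S} (h : GSetup B A b)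
include h

omit h in
theorem pow_exp_A {a : S} (ha : a ∈ A) : a ^ Monoid.exponent A = 1 := by
  have := Monoid.pow_exponent_eq_one (⟨a, ha⟩ : A)
  have := congrArg Subtype.val this
  simpa using this

theorem gen_pow_exp (hodd : Odd (Monoid.exponent A)) {a : S} (ha : a ∈ A) :
    (a * b⁻¹ * a⁻¹ * b) ^ Monoid.exponent A = 1 := by
  obtain ⟨m, hm⟩ := hodd
  have hc : b⁻¹ * a⁻¹ * b ∈ cj A b := cj_mem (inv_mem ha)
  have hzD : ⁅(b⁻¹ * a⁻¹ * b)⁻¹, a⁻¹⁆ ∈ DD A b := h.comm_mem_DD (inv_mem hc) (inv_mem ha)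
  obtain ⟨z, hz⟩ : ∃ z, z = ⁅(b⁻¹ * a⁻¹ * b)⁻¹, a⁻¹⁆ := ⟨_, rfl⟩
  rw [← hz] at hzD
  have h1 : (b⁻¹ * a⁻¹ * b) * a = a * (b⁻¹ * a⁻¹ * b) * z := by
    rw [hz, commutatorElement_def]; group
  have h2 : z * a = a * z := h.DD_comm_A hzD ha
  have h3 : z * (b⁻¹ * a⁻¹ * b) = (b⁻¹ * a⁻¹ * b) * z := h.DD_comm_cj hzD hc
  rw [gens_eq, mul_pow_class2 h1 h2 h3, pow_exp_A ha]
  have h4 : (b⁻¹ * a⁻¹ * b) ^ Monoid.exponent A = 1 := by
    have : (b⁻¹ * a⁻¹ * b) ^ Monoid.exponent A = b⁻¹ * (a⁻¹) ^ Monoid.exponent A * b := by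
      have := map_pow (MulAut.conj b⁻¹) a⁻¹ (Monoid.exponent A)
      simpa using this.symm
    rw [this, pow_exp_A (inv_mem ha)]; group
  have h5 : z ^ (∑ i ∈ Finset.range (Monoid.exponent A), i) = 1 := by
    have e2 : (∑ i ∈ Finset.range (Monoid.exponent A), i) = Monoid.exponent A * m := by
      have := Finset.sum_range_id_mul_two (Monoid.exponent A)
      have h6 : Monoid.exponent A - 1 = 2 * m := by omega
      rw [h6] at this
      have : (∑ i ∈ Finset.range (Monoid.exponent A), i) * 2 = (Monoid.exponent A * m) * 2 := by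
        rw [this]; ring
      exact Nat.eq_of_mul_eq_mul_right (by norm_num) this
    rw [e2, pow_mul, pow_exp_A (mem_DD.mp hzD).1, one_pow]
  rw [h4, h5]; simp

theorem Astar_pow_exp (hX : ∀ x ∈ XX A b, ∀ y ∈ XX A b, x * y = y * x)
    (hodd : Odd (Monoid.exponent A)) {y : S} (hy : y ∈ Astar A b) :
    y ^ Monoid.exponent A = 1 := by
  let T : Subgroup S :=
    { carrier := {y | y ∈ Astar A b ∧ y ^ Monoid.exponent A = 1}
      mul_mem' := by
        rintro x y ⟨hx1, hx2⟩ ⟨hy1, hy2⟩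
        refine ⟨mul_mem hx1 hy1, ?_⟩
        have hc : Commute x y := h.Astar_comm hX hx1 hy1
        rw [hc.mul_pow, hx2, hy2, one_mul]
      one_mem' := ⟨one_mem _, one_pow _⟩
      inv_mem' := by
        rintro x ⟨hx1, hx2⟩
        exact ⟨inv_mem hx1, by rw [inv_pow, hx2, inv_one]⟩ }
  have hle : Astar A b ≤ T := by
    refine sup_le ?_ ?_
    · intro d hd
      exact ⟨DD_le_Astar hd, pow_exp_A (mem_DD.mp hd).1⟩
    · rw [XX, Subgroup.closure_le]
      rintro g ⟨a, ha, rfl⟩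
      exact ⟨XX_le_Astar (gen_mem_XX ha), h.gen_pow_exp hodd ha⟩
  exact (hle hy).2

theorem exponent_dvd [Finite S] {p : ℕ} [Fact p.Prime] (hS : IsPGroup p S) (hp : p ≠ 2)
    (hX : ∀ x ∈ XX A b, ∀ y ∈ XX A b, x * y = y * x) :
    Monoid.exponent (Astar A b) ∣ Monoid.exponent A := by
  have hodd : Odd (Monoid.exponent A) := by
    have h1 : Monoid.exponent A ∣ Nat.card A := Group.exponent_dvd_nat_card
    obtain ⟨k, hk⟩ := (hS.to_subgroup A).exists_card_eq
    rw [hk] at h1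
    obtain ⟨j, _, hj⟩ := (Nat.dvd_prime_pow (Fact.out : p.Prime)).mp h1
    rw [hj]
    apply Odd.pow
    exact (Fact.out : p.Prime).odd_of_ne_two hp
  apply Monoid.exponent_dvd_of_forall_pow_eq_one
  intro y
  apply Subtype.ext
  rw [Subgroup.coe_pow, Subgroup.coe_one]
  exact h.Astar_pow_exp hX hodd y.2

/-- all the conclusions at once. -/
theorem main [Finite S] {p : ℕ} [Fact p.Prime] (hS : IsPGroup p S)
    (hB2 : p = 2 → IsMulCommutative B)
    (hnot : ¬ B ≤ Subgroup.normalizer (A : Set S))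
    (hbA : b ∉ Subgroup.normalizer (A : Set S)) :
    Nat.card (Astar A b) = Nat.card A ∧ IsMulCommutative (Astar A b) ∧ ⁅B, B⁆ ≤ Astar A b ∧
    A ⊓ B < Astar A b ⊓ B ∧ Astar A b ⊓ B < B ∧
    A ≤ Subgroup.normalizer (Astar A b : Set S) ∧
    Astar A b ≤ Subgroup.normalizer (A : Set S) ∧
    b ∈ Subgroup.normalizer (Astar A b : Set S) ∧
    Subgroup.normalizer (A : Set S) < Subgroup.normalizer (Astar A b : Set S) ∧
    (p ≠ 2 → Monoid.exponent (Astar A b) ∣ Monoid.exponent A) := by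
  have hX : ∀ x ∈ XX A b, ∀ y ∈ XX A b, x * y = y * x := by
    intro x hx y hy
    by_cases hp : p = 2
    · exact h.XX_comm_of_B (hB2 hp) hx hy
    · exact h.XX_comm_odd hS hp hx hy
  refine ⟨h.card_Astar hX, ?_, h.comm_le_Astar, h.lt1 hbA, h.lt2 hnot, h.A_le_normalizer_Astar,
    h.Astar_le_N, h.b_mem_normalizer_Astar, h.lt3 hbA, fun hp => h.exponent_dvd hS hp hX⟩
  exact ⟨⟨fun x y => Subtype.ext (h.Astar_comm hX x.2 y.2)⟩⟩

end GSetup

end Cfsg.Agent.helper4.Glaub
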