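import Cfsg.Statements.S0649
-- import your own Cfsg.Agent.* helpers here
import Mathlib

set_option autoImplicit false
open Cfsg

namespace Cfsg.Agent.S0649


/-- In the Glauberman replacement situation, if B does not normalize A then some element of B normalizes N_S(A) without normalizing A. -/
theorem result {S : Type*} [Group S] [Finite S] {p : ℕ} [Fact p.Prime] (hS : IsPGroup p S) (B : Subgroup S) [B.Normal] (hB2 : p = 2 → IsMulCommutative B) (A : Subgroup S) (hA : IsMulCommutative A) (hBA : ⁅B, B⁆ ≤ A) (hnot : ¬ B ≤ Subgroup.normalizer (A : Set S)) : ∃ b ∈ B, b ∈ Subgroup.normalizer ((Subgroup.normalizer (A : Set S)) : Set S) ∧ b ∉ Subgroup.normalizer (A : Set S) := by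
  set N := Subgroup.normalizer (A : Set S) with hN
  set K := B ⊔ N with hK
  have hNK : N ≤ K := le_sup_right
  have hBK : B ≤ K := le_sup_left
  have hlt : N.subgroupOf K < ⊤ := by
    rw [lt_top_iff_ne_top]
    intro h
    rw [Subgroup.subgroupOf_eq_top] at h
    exact hnot (le_trans hBK h)
  have hnil : Group.IsNilpotent K := (hS.to_subgroup K).isNilpotent
  have hnc := Group.normalizerCondition_of_isNilpotent (G := K)
  have hlt2 := hnc _ hlt
  obtain ⟨x, hx1, hx2⟩ := SetLike.exists_of_lt hlt2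
  have hxK : (x : S) ∈ ((B ⊔ N : Subgroup S) : Set S) := x.2
  rw [Subgroup.normal_mul] at hxK
  obtain ⟨b, hb, n, hn, hbn⟩ := Set.mem_mul.mp hxK
  -- x normalizes N in S
  have hconj : ∀ y : K, y ∈ Subgroup.normalizer ((N.subgroupOf K : Subgroup K) : Set K) →
      ∀ s ∈ N, (y : S) * s * (y : S)⁻¹ ∈ N := by
    intro y hy s hs
    have h1 := (Subgroup.mem_normalizer_iff.mp hy ⟨s, hNK hs⟩).mp (Subgroup.mem_subgroupOf.mpr hs)
    exact Subgroup.mem_subgroupOf.mp h1
  have hxN : (x : S) ∈ Subgroup.normalizer (N : Set S) := by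
    rw [Subgroup.mem_normalizer_iff]
    intro s
    constructor
    · exact hconj x hx1 s
    · intro h
      have h2 := hconj x⁻¹ (Subgroup.inv_mem _ hx1) _ h
      simpa [mul_assoc] using h2
  refine ⟨b, hb, ?_, ?_⟩
  · have hb_eq : b = (x : S) * n⁻¹ := by rw [← hbn]; group
    rw [hb_eq]
    exact Subgroup.mul_mem _ hxN (Subgroup.inv_mem _ (Subgroup.le_normalizer hn))
  · intro hbN
    apply hx2
    rw [Subgroup.mem_subgroupOf, ← hbn]
    exact N.mul_mem hbN hn

end Cfsg.Agent.S0649
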