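import Mathlib
import Cfsg.Agent.Lib_helper4_Glaub
import Cfsg.Agent.S0649

set_option autoImplicit false
open scoped commutatorElement

namespace Cfsg.Agent.helper4.Glaub

variable {S : Type*} [Group S]

theorem card_lt_of_lt [Finite S] {H K : Subgroup S} (h : H < K) : Nat.card H < Nat.card K :=
  lt_of_le_of_ne (Subgroup.card_le_of_le h.le)
    (fun e => h.ne (Subgroup.eq_of_le_of_card_ge h.le e.ge))

theorem Astar_le_of_normal (D A : Subgroup S) [D.Normal] (b : S) (hAD : A ≤ D) :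
    Astar A b ≤ D := by
  refine sup_le (inf_le_left.trans hAD) ?_
  rw [XX, Subgroup.closure_le]
  rintro g ⟨a, ha, rfl⟩
  have e : a * b⁻¹ * a⁻¹ * b = a * (b⁻¹ * a⁻¹ * b⁻¹⁻¹) := by group
  rw [e]
  exact mul_mem (hAD ha) (Subgroup.Normal.conj_mem inferInstance _ (inv_mem (hAD ha)) _)

/-- generic replacement: a family of abelian subgroups of `D` closed under passing to abelian
subgroups of `D` of the same order and no larger exponent has the replacement property. -/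
theorem replacement_generic [Finite S] {p : ℕ} [Fact p.Prime] (hS : IsPGroup p S) (hp : p ≠ 2)
    (D B : Subgroup S) [D.Normal] [B.Normal] (PP : Set (Subgroup S))
    (hP_ab : ∀ A ∈ PP, IsMulCommutative A) (hP_le : ∀ A ∈ PP, A ≤ D)
    (hP_closed : ∀ A ∈ PP, ∀ A' : Subgroup S, A' ≤ D → IsMulCommutative A' →
      Nat.card A' = Nat.card A → Monoid.exponent A' ∣ Monoid.exponent A → A' ∈ PP)
    (hex : ∃ U ∈ PP, ⁅B, B⁆ ≤ U ∧ ¬ B ≤ U) :
    ∃ A ∈ PP, ⁅B, B⁆ ≤ A ∧ ¬ B ≤ A ∧ B ≤ Subgroup.normalizer (A : Set S) := by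
  obtain ⟨U, hU, hU1, hU2⟩ := hex
  let T := {A : Subgroup S // A ∈ PP ∧ ⁅B, B⁆ ≤ A ∧ ¬ B ≤ A}
  haveI : Nonempty T := ⟨⟨U, hU, hU1, hU2⟩⟩
  haveI : Finite T := Subtype.finite
  obtain ⟨⟨A, hA, hA1, hA2⟩, hmax⟩ := Finite.exists_max (fun A : T => Nat.card ↥(A.1 ⊓ B))
  refine ⟨A, hA, hA1, hA2, ?_⟩
  by_contra hnot
  have hAab := hP_ab A hA
  obtain ⟨b, hb, hbN, hbA⟩ :=
    Cfsg.Agent.S0649.result hS B (fun h2 => absurd h2 hp) A hAab hA1 hnot
  have hcomm : ∀ x ∈ A, ∀ y ∈ A, x * y = y * x := by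
    intro x hx y hy
    exact congrArg Subtype.val (hAab.is_comm.comm (⟨x, hx⟩ : A) ⟨y, hy⟩)
  have h : GSetup B A b := ⟨inferInstance, hcomm, hA1, hb, hbN⟩
  obtain ⟨c1, c2, c3, c4, c5, -, -, -, -, c10⟩ :=
    h.main hS (fun h2 => absurd h2 hp) hnot hbA
  have hle : Astar A b ≤ D := Astar_le_of_normal D A b (hP_le A hA)
  have hmem : Astar A b ∈ PP := hP_closed A hA _ hle c2 c1 (c10 hp)
  have hnB : ¬ B ≤ Astar A b := by
    intro hB
    have : Astar A b ⊓ B = B := inf_eq_right.mpr hB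
    exact c5.ne this
  have := hmax ⟨Astar A b, hmem, c3, hnB⟩
  have hlt := card_lt_of_lt c4
  exact absurd this (not_le.mpr hlt)

end Cfsg.Agent.helper4.Glaub
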