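import Mathlib
import Cfsg.Prelude.Def_PLocal
import Cfsg.Agent.Lib_helper3_ZJ
import Cfsg.Agent.Lib_helper4_Glaub2

/-! The family of abelian subgroups of largest order: `Z(J(P))` is the intersection of the family,
and Glauberman's ZJ-theorem (helper3). -/

set_option autoImplicit false

namespace Cfsg.Agent.helper3

open Cfsg
open scoped commutatorElement

variable {G : Type*} [Group G]

/-- `A` is an abelian subgroup of `S` of largest order (inside the ambient group). -/
def IsMaxAbIn (S A : Subgroup G) : Prop :=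
  A ≤ S ∧ IsMulCommutative A ∧
    ∀ B : Subgroup G, B ≤ S → IsMulCommutative B → Nat.card B ≤ Nat.card A

/-- The family of abelian subgroups of largest order. -/
def famAb : Subgroup G → Set (Subgroup G) := fun R => {A | IsMaxAbIn R A}

theorem isMulCommutative_sup' {X C : Subgroup G} (hX : IsMulCommutative ↥X)
    (hC : IsMulCommutative ↥C) (hXC : ∀ x ∈ X, ∀ c ∈ C, x * c = c * x) :
    IsMulCommutative ↥(X ⊔ C) := by
  rw [← Subgroup.le_centralizer_iff_isMulCommutative]
  have hX' := Subgroup.le_centralizer_iff_isMulCommutative.mpr hX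
  have hC' := Subgroup.le_centralizer_iff_isMulCommutative.mpr hC
  have h1 : X ≤ Subgroup.centralizer (C : Set G) := by
    intro x hx
    rw [Subgroup.mem_centralizer_iff]
    intro c hc
    exact (hXC x hx c hc).symm
  have h2 : C ≤ Subgroup.centralizer (X : Set G) := by
    intro c hc
    rw [Subgroup.mem_centralizer_iff]
    intro x hx
    exact hXC x hx c hc
  apply sup_le
  · rw [Subgroup.le_centralizer_iff]
    exact sup_le hX' h2
  · rw [Subgroup.le_centralizer_iff]
    exact sup_le h1 hC'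

theorem isMaxAbIn_map_subtype {S : Subgroup G} {A' : Subgroup S}
    (hA : A' ∈ Cfsg.maxAbelianSubgroups S) : IsMaxAbIn S (A'.map S.subtype) := by
  haveI := hA.1
  refine ⟨Subgroup.map_subtype_le _, Subgroup.map_isMulCommutative _ _, fun B hBS hB => ?_⟩
  have h1 : Nat.card (B.subgroupOf S) = Nat.card B :=
    Nat.card_congr (Subgroup.subgroupOfEquivOfLe hBS).toEquiv
  rw [Subgroup.card_subtype, ← h1]
  haveI := hB
  exact hA.2 _ (Subgroup.subgroupOf_isMulCommutative _ _)

theorem subgroupOf_mem_maxAb {S A : Subgroup G} (hA : IsMaxAbIn S A) :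
    A.subgroupOf S ∈ Cfsg.maxAbelianSubgroups S := by
  haveI := hA.2.1
  refine ⟨Subgroup.subgroupOf_isMulCommutative _ _, fun B' hB' => ?_⟩
  have h1 : Nat.card (A.subgroupOf S) = Nat.card A :=
    Nat.card_congr (Subgroup.subgroupOfEquivOfLe hA.1).toEquiv
  rw [h1, ← Subgroup.card_subtype S B']
  haveI := hB'
  exact hA.2.2 _ (Subgroup.map_subtype_le _) (Subgroup.map_isMulCommutative _ _)

theorem thompsonSubgroupAOf_eq_sSup (S : Subgroup G) :
    Cfsg.thompsonSubgroupAOf S = sSup (famAb S) := by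
  apply le_antisymm
  · unfold Cfsg.thompsonSubgroupAOf Cfsg.thompsonSubgroupA
    rw [Subgroup.map_le_iff_le_comap]
    apply sSup_le
    intro A' hA'
    rw [← Subgroup.map_le_iff_le_comap]
    exact le_sSup (isMaxAbIn_map_subtype hA')
  · apply sSup_le
    intro A hA
    unfold Cfsg.thompsonSubgroupAOf Cfsg.thompsonSubgroupA
    rw [← Subgroup.map_subgroupOf_eq_of_le hA.1]
    exact Subgroup.map_mono (le_sSup (subgroupOf_mem_maxAb hA))

theorem exists_isMaxAbIn [Finite G] (S : Subgroup G) : ∃ A, IsMaxAbIn S A := by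
  let T := {A : Subgroup G // A ≤ S ∧ IsMulCommutative A}
  haveI : Nonempty T := ⟨⟨⊥, bot_le, inferInstance⟩⟩
  haveI : Finite T := Subtype.finite
  obtain ⟨⟨A, hA1, hA2⟩, hmax⟩ := Finite.exists_max (fun A : T => Nat.card ↥A.1)
  exact ⟨A, hA1, hA2, fun B hB1 hB2 => hmax ⟨B, hB1, hB2⟩⟩

theorem zjFamily_famAb [Finite G] : ZJFamily (famAb (G := G)) where
  le := fun hA => hA.1
  comm := by
    intro R A hA x hx y hy
    exact congrArg Subtype.val (hA.2.1.is_comm.comm (⟨x, hx⟩ : A) ⟨y, hy⟩)
  map := by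
    intro e R A hA
    haveI := hA.2.1
    refine ⟨Subgroup.map_mono hA.1, Subgroup.map_isMulCommutative _ _, fun B hBS hB => ?_⟩
    have h1 : Nat.card (A.map e.toMonoidHom) = Nat.card A :=
      Subgroup.card_map_of_injective e.injective
    have h2 : Nat.card (B.map e.symm.toMonoidHom) = Nat.card B :=
      Subgroup.card_map_of_injective e.symm.injective
    rw [h1, ← h2]
    haveI := hB
    apply hA.2.2 _ _ (Subgroup.map_isMulCommutative _ _)
    have h3 := Subgroup.map_mono (f := e.symm.toMonoidHom) hBS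
    rwa [map_symm_map] at h3
  mono := by
    intro R₁ R A hle hA hAR₁
    refine ⟨⟨hAR₁, hA.2.1, fun B hB1 hB2 => hA.2.2 B (hB1.trans hle) hB2⟩, ?_⟩
    intro A' hA'
    refine ⟨hA'.1.trans hle, hA'.2.1, fun B hB1 hB2 => ?_⟩
    exact (hA.2.2 B hB1 hB2).trans (hA'.2.2 A hAR₁ hA.2.1)
  nonempty := fun R => exists_isMaxAbIn R

/-- `Z(J(P))` is the intersection of the abelian subgroups of largest order. -/
theorem centerThompsonAOf_eq_zjI [Finite G] (S : Subgroup G) :
    Cfsg.centerThompsonAOf S = zjI famAb S := by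
  have hfam := zjFamily_famAb (G := G)
  unfold Cfsg.centerThompsonAOf
  rw [thompsonSubgroupAOf_eq_sSup]
  apply le_antisymm
  · apply le_zjI
    intro A hA
    -- `A ⊔ X` is abelian
    set X := sSup (famAb S) ⊓ Subgroup.centralizer ((sSup (famAb S) : Subgroup G) : Set G) with hX
    have hAJ : A ≤ sSup (famAb S) := le_sSup hA
    have hXc : IsMulCommutative ↥X := by
      rw [← Subgroup.le_centralizer_iff_isMulCommutative]
      intro x hx
      exact Subgroup.centralizer_le (show ((X : Subgroup G) : Set G) ⊆ (sSup (famAb S) : Subgroup G)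
        from fun y hy => hy.1) hx.2
    have hcomm : ∀ a ∈ A, ∀ x ∈ X, a * x = x * a := by
      intro a ha x hx
      exact Subgroup.mem_centralizer_iff.mp hx.2 a (hAJ ha)
    have hsup := isMulCommutative_sup' hA.2.1 hXc hcomm
    have hle : A ⊔ X ≤ S := by
      apply sup_le hA.1
      apply inf_le_left.trans
      apply sSup_le
      intro A' hA'
      exact hA'.1
    have hcard := hA.2.2 _ hle hsup
    have heq : A = A ⊔ X := Subgroup.eq_of_le_of_card_ge le_sup_left hcard
    rw [heq]; exact le_sup_right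
  · obtain ⟨A, hA⟩ := exists_isMaxAbIn S
    refine le_inf ((zjI_le_of_mem hA).trans (le_sSup hA)) ?_
    rw [Subgroup.le_centralizer_iff]
    apply sSup_le
    intro A' hA'
    intro a ha
    rw [Subgroup.mem_centralizer_iff]
    intro z hz
    exact hfam.comm hA' z (zjI_le_of_mem hA' hz) a ha

theorem hasReplacement_famAb [Finite G] {p : ℕ} [Fact p.Prime] (hp : p ≠ 2) (P : Sylow p G) :
    HasReplacement (famAb (G := G)) (P : Subgroup G) := by
  rintro B hBn hBP - ⟨U, hU, hB'U, hBU⟩
  have hS : IsPGroup p ↥(P : Subgroup G) := P.isPGroup'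
  haveI : (B.subgroupOf (P : Subgroup G)).Normal := hBn.subgroupOf _
  have hBmap : (B.subgroupOf (P : Subgroup G)).map (P : Subgroup G).subtype = B :=
    Subgroup.map_subgroupOf_eq_of_le hBP
  have hcommap : (⁅B.subgroupOf (P : Subgroup G), B.subgroupOf (P : Subgroup G)⁆).map
      (P : Subgroup G).subtype = ⁅B, B⁆ := by
    rw [Subgroup.map_commutator, hBmap]
  obtain ⟨A₀, hA₀, h1, h2, h3⟩ := Cfsg.Agent.helper4.Glaub.replacement_generic hS hp
    (⊤ : Subgroup ↥(P : Subgroup G)) (B.subgroupOf (P : Subgroup G))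
    (Cfsg.maxAbelianSubgroups ↥(P : Subgroup G))
    (fun A hA => hA.1) (fun A _ => le_top)
    (fun A hA A' _ hA'c hcard _ => ⟨hA'c, fun B₁ hB₁ => hcard ▸ hA.2 B₁ hB₁⟩)
    ⟨U.subgroupOf (P : Subgroup G), subgroupOf_mem_maxAb hU, by
      show _ ≤ U.comap (P : Subgroup G).subtype
      rw [← Subgroup.map_le_iff_le_comap, hcommap]; exact hB'U, by
      intro h
      apply hBU
      have := Subgroup.map_mono (f := (P : Subgroup G).subtype) h
      rwa [hBmap, Subgroup.map_subgroupOf_eq_of_le hU.1] at this⟩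
  refine ⟨A₀.map (P : Subgroup G).subtype, isMaxAbIn_map_subtype hA₀, ?_, ?_, ?_⟩
  · rw [← hcommap]; exact Subgroup.map_mono h1
  · intro h
    apply h2
    rw [← hBmap] at h
    exact (Subgroup.map_subtype_le_map_subtype).mp h
  · have h4 := Subgroup.map_mono (f := (P : Subgroup G).subtype) h3
    rw [hBmap] at h4
    exact h4.trans (Subgroup.le_normalizer_map _)

/-- **Glauberman's ZJ-theorem** (ambient form). -/
theorem centerThompsonAOf_characteristic [Finite G] {p : ℕ} [Fact p.Prime] (hp : p ≠ 2)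
    (hc : Subgroup.centralizer (Cfsg.pCore p G : Set G) ≤ Cfsg.pCore p G)
    (hst : ∀ (V : Subgroup G) [V.Normal], IsPGroup p V → Cfsg.IsPStableOn p V)
    (P : Sylow p G) : (Cfsg.centerThompsonAOf (P : Subgroup G)).Characteristic := by
  rw [centerThompsonAOf_eq_zjI]
  exact zjI_characteristic zjFamily_famAb P (hasReplacement_famAb hp P) hc hst

end Cfsg.Agent.helper3
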