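import Mathlib
import Cfsg.Agent.Lib_helper3_EA
import Cfsg.Agent.Lib_helper3_Basic
import Cfsg.Agent.Lib_helper1_Core

/-! p-local helpers: p-cores of quotients versus Sylow subgroups (helper3). -/

set_option autoImplicit false

namespace Cfsg.Agent.helper3

open Cfsg

/-- An element of `G` whose image lies in `O_p(G/N)` is, modulo `N`, in every Sylow `p`-subgroup. -/
theorem exists_sylow_mul_of_mem_pCore {G : Type*} [Group G] [Finite G] {p : ℕ} [Fact p.Prime]
    (N : Subgroup G) [N.Normal] {x : G} (hx : (x : G ⧸ N) ∈ Cfsg.pCore p (G ⧸ N)) (S : Sylow p G) :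
    ∃ s ∈ (S : Subgroup G), s⁻¹ * x ∈ N := by
  have hsurj : Function.Surjective (QuotientGroup.mk' N) := QuotientGroup.mk'_surjective _
  have h1 : (x : G ⧸ N) ∈ ((Sylow.mapSurjective hsurj S : Sylow p (G ⧸ N)) : Subgroup (G ⧸ N)) :=
    helper1.pCore_le_sylow _ hx
  rw [Sylow.coe_mapSurjective] at h1
  obtain ⟨s, hs, hsx⟩ := h1
  refine ⟨s, hs, ?_⟩
  rw [← QuotientGroup.eq_one_iff, QuotientGroup.mk_mul, QuotientGroup.mk_inv]
  rw [QuotientGroup.mk'_apply] at hsx
  rw [hsx, inv_mul_cancel]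

/-- If `N ≤ D` are normal with `|D : N|` a power of `p`, the image of `D` lies in `O_p(G/N)`. -/
theorem mk_mem_pCore_of_relIndex {G : Type*} [Group G] [Finite G] {p : ℕ} [Fact p.Prime]
    (N : Subgroup G) [N.Normal] {D : Subgroup G} (hD : D.Normal) {k : ℕ}
    (hk : N.relIndex D = p ^ k) {x : G} (hx : x ∈ D) : (x : G ⧸ N) ∈ Cfsg.pCore p (G ⧸ N) := by
  have hsurj : Function.Surjective (QuotientGroup.mk' N) := QuotientGroup.mk'_surjective _
  have h1 : Nat.card (D.map (QuotientGroup.mk' N)) = p ^ k := by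
    rw [← Subgroup.relIndex_ker, QuotientGroup.ker_mk', hk]
  have h2 : IsPGroup p (D.map (QuotientGroup.mk' N)) := IsPGroup.of_card h1
  have h3 : (D.map (QuotientGroup.mk' N)).Normal := hD.map _ hsurj
  exact helper1.le_pCore h3 h2 ⟨x, hx, rfl⟩

/-- `x ∈ C(closure T)` iff `x` commutes with all of `T`. -/
theorem mem_centralizer_closure_iff {G : Type*} [Group G] (T : Set G) (x : G) :
    x ∈ Subgroup.centralizer (Subgroup.closure T : Set G) ↔ ∀ t ∈ T, t * x = x * t := by
  rw [Subgroup.centralizer_closure, Subgroup.mem_centralizer_iff]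

end Cfsg.Agent.helper3
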