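import Mathlib
import Cfsg.Agent.Lib_helper4_Glaub2
import Cfsg.Agent.Lib_helper3_PLocal
import Cfsg.Agent.Lib_helper1_Core
import Cfsg.Prelude.Def_PLocal

set_option autoImplicit false
set_option linter.style.haveILetI false
open scoped commutatorElement

namespace Cfsg.Agent.helper4.ZJ

open Cfsg Cfsg.Agent.helper4.Glaub

variable {G : Type*} [Group G]

/-- a class of abelian subgroups closed under automorphisms and under passing to abelian
subgroups of no larger exponent. -/
structure GoodClass (C : Subgroup G → Prop) : Prop where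
  comm : ∀ A, C A → IsMulCommutative A
  map : ∀ A (φ : G ≃* G), C A → C (A.map φ.toMonoidHom)
  bot : C ⊥
  repl : ∀ A A' : Subgroup G, C A → IsMulCommutative A' →
    Monoid.exponent A' ∣ Monoid.exponent A → C A'

/-- members of the class inside `P` of largest order. -/
def fam (C : Subgroup G → Prop) (P : Subgroup G) : Set (Subgroup G) :=
  {A | A ≤ P ∧ C A ∧ ∀ A' : Subgroup G, A' ≤ P → C A' → Nat.card A' ≤ Nat.card A}

/-- the intersection of the family. -/
def WW (C : Subgroup G → Prop) (P : Subgroup G) : Subgroup G := sInf (fam C P)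

variable {C : Subgroup G → Prop}

theorem fam_nonempty [Finite G] (hC : GoodClass C) (P : Subgroup G) : (fam C P).Nonempty := by
  let T := {A : Subgroup G // A ≤ P ∧ C A}
  haveI : Nonempty T := ⟨⟨⊥, bot_le, hC.bot⟩⟩
  haveI : Finite T := Subtype.finite
  obtain ⟨⟨A, hA1, hA2⟩, hmax⟩ := Finite.exists_max (fun A : T => Nat.card ↥(A.1))
  exact ⟨A, hA1, hA2, fun A' h1 h2 => hmax ⟨A', h1, h2⟩⟩

theorem fam_mono {P Q A : Subgroup G} (hQP : Q ≤ P) (hA : A ∈ fam C P) (hAQ : A ≤ Q) :
    A ∈ fam C Q ∧ fam C Q ⊆ fam C P := by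
  refine ⟨⟨hAQ, hA.2.1, fun A' h1 h2 => hA.2.2 A' (h1.trans hQP) h2⟩, ?_⟩
  intro A' hA'
  refine ⟨hA'.1.trans hQP, hA'.2.1, fun A'' h1 h2 => ?_⟩
  exact (hA.2.2 A'' h1 h2).trans (hA'.2.2 A hAQ hA.2.1)

theorem WW_le {P A : Subgroup G} (hA : A ∈ fam C P) : WW C P ≤ A := sInf_le hA

theorem WW_le_self [Finite G] (hC : GoodClass C) (P : Subgroup G) : WW C P ≤ P := by
  obtain ⟨A, hA⟩ := fam_nonempty hC P
  exact (WW_le hA).trans hA.1

theorem WW_comm [Finite G] (hC : GoodClass C) (P : Subgroup G) {x y : G} (hx : x ∈ WW C P)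
    (hy : y ∈ WW C P) : x * y = y * x := by
  obtain ⟨A, hA⟩ := fam_nonempty hC P
  have := hC.comm A hA.2.1
  exact congrArg Subtype.val (this.is_comm.comm (⟨x, WW_le hA hx⟩ : A) ⟨y, WW_le hA hy⟩)

theorem WW_mono {P Q A : Subgroup G} (hQP : Q ≤ P) (hA : A ∈ fam C P) (hAQ : A ≤ Q) :
    WW C P ≤ WW C Q := by
  apply le_sInf
  intro A' hA'
  exact sInf_le ((fam_mono hQP hA hAQ).2 hA')

theorem card_map_equiv (A : Subgroup G) (φ : G ≃* G) :
    Nat.card (A.map φ.toMonoidHom) = Nat.card A :=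
  Subgroup.card_map_of_injective φ.injective

theorem map_map_symm (A : Subgroup G) (φ : G ≃* G) :
    (A.map φ.toMonoidHom).map φ.symm.toMonoidHom = A := by
  ext x
  rw [Subgroup.mem_map_equiv, Subgroup.mem_map_equiv]
  simp

theorem map_symm_map (A : Subgroup G) (φ : G ≃* G) :
    (A.map φ.symm.toMonoidHom).map φ.toMonoidHom = A := by
  have := map_map_symm A φ.symm
  simpa using this

theorem fam_map (hC : GoodClass C) {P A : Subgroup G} (φ : G ≃* G) (hA : A ∈ fam C P) :
    A.map φ.toMonoidHom ∈ fam C (P.map φ.toMonoidHom) := by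
  refine ⟨Subgroup.map_mono hA.1, hC.map A φ hA.2.1, fun A' h1 h2 => ?_⟩
  have h3 : A'.map φ.symm.toMonoidHom ≤ P := by
    have := Subgroup.map_mono (f := φ.symm.toMonoidHom) h1
    rwa [map_map_symm] at this
  have := hA.2.2 _ h3 (hC.map A' φ.symm h2)
  rwa [card_map_equiv, ← card_map_equiv A φ] at this

theorem WW_map (hC : GoodClass C) (P : Subgroup G) (φ : G ≃* G) :
    (WW C P).map φ.toMonoidHom = WW C (P.map φ.toMonoidHom) := by
  ext x
  rw [Subgroup.mem_map_equiv, WW, WW, Subgroup.mem_sInf, Subgroup.mem_sInf]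
  constructor
  · intro h A' hA'
    have h1 := fam_map hC φ.symm hA'
    rw [map_map_symm] at h1
    have h2 := h _ h1
    rw [Subgroup.mem_map_equiv] at h2
    simpa using h2
  · intro h A hA
    have h1 := h _ (fam_map hC φ hA)
    rwa [Subgroup.mem_map_equiv] at h1

theorem map_conj_eq_of_mem_normalizer {P : Subgroup G} {g : G}
    (hg : g ∈ Subgroup.normalizer (P : Set G)) : P.map (MulAut.conj g).toMonoidHom = P := by
  ext x
  rw [Subgroup.mem_map_equiv]
  have := (Subgroup.mem_normalizer_iff.mp hg) ((MulAut.conj g).symm x)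
  rw [this]
  simp [MulAut.conj_symm_apply, mul_assoc]

theorem normalizer_le_normalizer_WW (hC : GoodClass C) (P : Subgroup G) :
    Subgroup.normalizer (P : Set G) ≤ Subgroup.normalizer (WW C P : Set G) := by
  apply le_normalizer_of_conj
  intro t ht k hk
  have h1 := WW_map hC P (MulAut.conj t)
  rw [map_conj_eq_of_mem_normalizer ht] at h1
  rw [← h1]
  exact Subgroup.mem_map.mpr ⟨k, hk, by simp⟩


/-- ambient form of the replacement theorem for the family. -/
theorem repl_ambient [Finite G] {p : ℕ} [Fact p.Prime] (hp : p ≠ 2) (hC : GoodClass C)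
    (P B : Subgroup G) (hP : IsPGroup p P) (hBP : B ≤ P)
    (hPB : P ≤ Subgroup.normalizer (B : Set G))
    (hex : ∃ U ∈ fam C P, ⁅B, B⁆ ≤ U ∧ ¬ B ≤ U) :
    ∃ A ∈ fam C P, ⁅B, B⁆ ≤ A ∧ ¬ B ≤ A ∧ B ≤ Subgroup.normalizer (A : Set G) := by
  haveI hBn : (B.subgroupOf P).Normal := (Subgroup.normal_subgroupOf_iff_le_normalizer hBP).mpr hPB
  have hinj : Function.Injective P.subtype := Subgroup.subtype_injective P
  have hBmap : (B.subgroupOf P).map P.subtype = B := Subgroup.map_subgroupOf_eq_of_le hBP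
  have hcommap : (⁅B.subgroupOf P, B.subgroupOf P⁆).map P.subtype = ⁅B, B⁆ := by
    rw [Subgroup.map_commutator, hBmap]
  let PP : Set (Subgroup ↥P) := {A₀ | A₀.map P.subtype ∈ fam C P}
  have key := replacement_generic (S := ↥P) (p := p) hP hp ⊤ (B.subgroupOf P) PP ?_ ?_ ?_ ?_
  · obtain ⟨A₀, hA₀, h1, h2, h3⟩ := key
    refine ⟨A₀.map P.subtype, hA₀, ?_, ?_, ?_⟩
    · rw [← hcommap]; exact Subgroup.map_mono h1
    · intro hle
      apply h2
      intro x hx
      have : P.subtype x ∈ A₀.map P.subtype := hle (by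
        rw [Subgroup.mem_subgroupOf] at hx; exact hx)
      obtain ⟨y, hy, hyx⟩ := Subgroup.mem_map.mp this
      rwa [← hinj hyx]
    · apply le_normalizer_of_conj
      intro t ht k hk
      obtain ⟨k₀, hk₀, rfl⟩ := Subgroup.mem_map.mp hk
      have ht₀ : (⟨t, hBP ht⟩ : ↥P) ∈ B.subgroupOf P := by
        rw [Subgroup.mem_subgroupOf]; exact ht
      have := (Subgroup.mem_normalizer_iff.mp (h3 ht₀) k₀).mp hk₀
      exact Subgroup.mem_map.mpr ⟨_, this, by simp⟩
  · -- commutative
    intro A₀ hA₀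
    have hc := hC.comm _ hA₀.2.1
    refine ⟨⟨fun x y => ?_⟩⟩
    have := hc.is_comm.comm (⟨P.subtype x, Subgroup.mem_map_of_mem _ x.2⟩ : A₀.map P.subtype)
      ⟨P.subtype y, Subgroup.mem_map_of_mem _ y.2⟩
    have := congrArg Subtype.val this
    apply Subtype.ext
    apply hinj
    simpa using this
  · intro A₀ _; exact le_top
  · -- closed
    intro A₀ hA₀ A₀' _ hcomm' hcard hexp
    have e1 : Nat.card (A₀'.map P.subtype) = Nat.card (A₀.map P.subtype) := by
      rw [Subgroup.card_subtype, Subgroup.card_subtype, hcard]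
    have e2 : Monoid.exponent (A₀'.map P.subtype) ∣ Monoid.exponent (A₀.map P.subtype) := by
      rw [← Monoid.exponent_eq_of_mulEquiv (A₀'.equivMapOfInjective P.subtype hinj),
        ← Monoid.exponent_eq_of_mulEquiv (A₀.equivMapOfInjective P.subtype hinj)]
      exact hexp
    haveI := hcomm'
    refine ⟨Subgroup.map_subtype_le _, ?_, ?_⟩
    · exact hC.repl _ _ hA₀.2.1 (Subgroup.map_isMulCommutative _ _) e2
    · intro A'' h1 h2
      rw [e1]; exact hA₀.2.2 A'' h1 h2
  · -- existence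
    obtain ⟨U, hU, hU1, hU2⟩ := hex
    have hUmap : (U.subgroupOf P).map P.subtype = U := Subgroup.map_subgroupOf_eq_of_le hU.1
    refine ⟨U.subgroupOf P, ?_, ?_, ?_⟩
    · show (U.subgroupOf P).map P.subtype ∈ fam C P
      rw [hUmap]; exact hU
    · intro x hx
      rw [Subgroup.mem_subgroupOf]
      apply hU1
      rw [← hcommap]
      exact Subgroup.mem_map_of_mem _ hx
    · intro hle
      apply hU2
      rw [← hBmap, ← hUmap]
      exact Subgroup.map_mono hle

/-- a Sylow subgroup meets a normal subgroup in a subgroup of index prime to `p`. -/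
theorem not_dvd_relIndex_inf_normal [Finite G] {p : ℕ} [Fact p.Prime] (S : Sylow p G)
    (K : Subgroup G) [K.Normal] : ¬ p ∣ ((S : Subgroup G) ⊓ K).relIndex K := by
  have hI : 0 < Nat.card ↥((S : Subgroup G) ⊓ K) := Nat.card_pos
  have h1 : Nat.card ↥((S : Subgroup G) ⊓ K) * ((S : Subgroup G) ⊓ K).relIndex K = Nat.card K := by
    rw [← Subgroup.relIndex_bot_left, ← Subgroup.relIndex_bot_left,
      Subgroup.relIndex_mul_relIndex _ _ _ bot_le inf_le_right]
  have h2 : Nat.card ↥((S : Subgroup G) ⊓ K) * ((S : Subgroup G) ⊓ K).relIndex S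
      = Nat.card (S : Subgroup G) := by
    rw [← Subgroup.relIndex_bot_left, ← Subgroup.relIndex_bot_left,
      Subgroup.relIndex_mul_relIndex _ _ _ bot_le inf_le_left]
  have h3 : Nat.card (S : Subgroup G) * (S : Subgroup G).relIndex ((S : Subgroup G) ⊔ K)
      = Nat.card ↥((S : Subgroup G) ⊔ K) := by
    rw [← Subgroup.relIndex_bot_left, ← Subgroup.relIndex_bot_left,
      Subgroup.relIndex_mul_relIndex _ _ _ bot_le le_sup_left]
  have h4 : Nat.card K * K.relIndex ((S : Subgroup G) ⊔ K)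
      = Nat.card ↥((S : Subgroup G) ⊔ K) := by
    rw [← Subgroup.relIndex_bot_left, ← Subgroup.relIndex_bot_left,
      Subgroup.relIndex_mul_relIndex _ _ _ bot_le le_sup_right]
  have h5 : K.relIndex ((S : Subgroup G) ⊔ K) = ((S : Subgroup G) ⊓ K).relIndex S := by
    rw [Subgroup.relIndex_sup_right, inf_comm, Subgroup.inf_relIndex_right]
  have hpos : 0 < ((S : Subgroup G) ⊓ K).relIndex S := by
    rcases Nat.eq_zero_or_pos (((S : Subgroup G) ⊓ K).relIndex S) with h | h
    · rw [h, mul_zero] at h2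
      exact absurd h2.symm (Nat.card_pos).ne'
    · exact h
  have h6 : (S : Subgroup G).relIndex ((S : Subgroup G) ⊔ K)
      = ((S : Subgroup G) ⊓ K).relIndex K := by
    have e : Nat.card (S : Subgroup G) * (S : Subgroup G).relIndex ((S : Subgroup G) ⊔ K)
        = Nat.card (S : Subgroup G) * ((S : Subgroup G) ⊓ K).relIndex K := by
      calc Nat.card (S : Subgroup G) * (S : Subgroup G).relIndex ((S : Subgroup G) ⊔ K)
          = Nat.card K * K.relIndex ((S : Subgroup G) ⊔ K) := by rw [h3, h4]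
        _ = (Nat.card ↥((S : Subgroup G) ⊓ K) * ((S : Subgroup G) ⊓ K).relIndex K) *
            ((S : Subgroup G) ⊓ K).relIndex S := by rw [h5, h1]
        _ = (Nat.card ↥((S : Subgroup G) ⊓ K) * ((S : Subgroup G) ⊓ K).relIndex S) *
            ((S : Subgroup G) ⊓ K).relIndex K := by ring
        _ = Nat.card (S : Subgroup G) * ((S : Subgroup G) ⊓ K).relIndex K := by rw [h2]
    exact Nat.eq_of_mul_eq_mul_left Nat.card_pos e
  rw [← h6]
  intro hdvd
  exact S.not_dvd_index (hdvd.trans (Subgroup.relIndex_dvd_index_of_le le_sup_left))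


theorem quad_of_normalizes {A B : Subgroup G} (hA : IsMulCommutative A)
    (hBA : B ≤ Subgroup.normalizer (A : Set G)) {a : G} (ha : a ∈ A) :
    ⁅⁅B, Subgroup.zpowers a⁆, Subgroup.zpowers a⁆ = ⊥ := by
  have hza : Subgroup.zpowers a ≤ A := by rw [Subgroup.zpowers_le]; exact ha
  have h1 : ⁅B, Subgroup.zpowers a⁆ ≤ A := by
    rw [Subgroup.commutator_le]
    intro x hx y hy
    have : x * y * x⁻¹ ∈ A := (Subgroup.mem_normalizer_iff.mp (hBA hx) y).mp (hza hy)
    rw [commutatorElement_def]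
    exact mul_mem this (inv_mem (hza hy))
  rw [eq_bot_iff]
  have h2 : ⁅A, A⁆ = ⊥ := by
    rw [Subgroup.commutator_eq_bot_iff_le_centralizer]
    intro x hx
    rw [Subgroup.mem_centralizer_iff]
    intro y hy
    exact congrArg Subtype.val (hA.is_comm.comm (⟨y, hy⟩ : A) ⟨x, hx⟩)
  rw [← h2]
  exact Subgroup.commutator_mono h1 hza

theorem commutator_lt_of_isPGroup [Finite G] {p : ℕ} [Fact p.Prime] {B : Subgroup G}
    (hB : IsPGroup p B) (hne : B ≠ ⊥) : ⁅B, B⁆ < B := by
  refine lt_of_le_of_ne (Subgroup.commutator_le_self B) ?_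
  intro he
  haveI : Nontrivial ↥B := (Subgroup.nontrivial_iff_ne_bot B).mpr hne
  haveI : Group.IsNilpotent ↥B := hB.isNilpotent
  have h1 := Group.IsSolvable.commutator_lt_top_of_nontrivial ↥B
  have h2 : (commutator ↥B).map B.subtype = (⊤ : Subgroup ↥B).map B.subtype := by
    rw [Subgroup.map_subtype_commutator, he, ← MonoidHom.range_eq_map, Subgroup.range_subtype]
  have h3 := Subgroup.map_injective (Subgroup.subtype_injective B) h2
  exact h1.ne h3

section main
variable [Finite G] {p : ℕ} [Fact p.Prime]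

theorem inf_normal (hp : p ≠ 2) (hC : GoodClass C) (S : Sylow p G)
    (hst : ∀ (P : Subgroup G) [P.Normal], IsPGroup p P → IsPStableOn p P) :
    ∀ n : ℕ, ∀ B : Subgroup G, B.Normal → IsPGroup p B → Nat.card B = n →
      (WW C (S : Subgroup G) ⊓ B).Normal := by
  intro n
  induction n using Nat.strong_induction_on with
  | _ n ih =>
  intro B hBn hBp hcard
  by_contra hnot
  have hBS : B ≤ (S : Subgroup G) :=
    (helper1.le_pCore hBn hBp).trans (helper1.pCore_le_sylow S)
  have hSZ : (S : Subgroup G) ≤ Subgroup.normalizer (WW C (S : Subgroup G) : Set G) :=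
    Subgroup.le_normalizer.trans (normalizer_le_normalizer_WW hC S)
  have hZconj : ∀ s ∈ (S : Subgroup G), ∀ z ∈ WW C (S : Subgroup G),
      s * z * s⁻¹ ∈ WW C (S : Subgroup G) := fun s hs z hz =>
    (Subgroup.mem_normalizer_iff.mp (hSZ hs) z).mp hz
  have hZ₁conj : ∀ s ∈ (S : Subgroup G), ∀ z ∈ WW C (S : Subgroup G) ⊓ B,
      s * z * s⁻¹ ∈ WW C (S : Subgroup G) ⊓ B := by
    intro s hs z hz
    obtain ⟨hz1, hz2⟩ := Subgroup.mem_inf.mp hz
    exact Subgroup.mem_inf.mpr ⟨hZconj s hs z hz1, hBn.conj_mem z hz2 s⟩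
  -- step (a)
  have hB₁B : Subgroup.normalClosure ((WW C (S : Subgroup G) ⊓ B : Subgroup G) : Set G) ≤ B :=
    Subgroup.normalClosure_le_normal (fun x hx => (Subgroup.mem_inf.mp hx).2)
  have hB₁ : Subgroup.normalClosure ((WW C (S : Subgroup G) ⊓ B : Subgroup G) : Set G) = B := by
    apply Subgroup.eq_of_le_of_card_ge hB₁B
    by_contra hlt
    push Not at hlt
    rw [hcard] at hlt
    have := ih _ hlt _ Subgroup.normalClosure_normal (hBp.to_le hB₁B) rfl
    apply hnot
    have e : WW C (S : Subgroup G) ⊓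
        Subgroup.normalClosure ((WW C (S : Subgroup G) ⊓ B : Subgroup G) : Set G)
        = WW C (S : Subgroup G) ⊓ B :=
      le_antisymm (inf_le_inf_left _ hB₁B) (le_inf inf_le_left Subgroup.le_normalClosure)
    rwa [e] at this
  -- step (b)
  have hBne : B ≠ ⊥ := by
    intro h
    apply hnot
    rw [h, inf_bot_eq]
    infer_instance
  have hlt := card_lt_of_lt (commutator_lt_of_isPGroup hBp hBne)
  rw [hcard] at hlt
  haveI := hBn
  have hMn : (WW C (S : Subgroup G) ⊓ ⁅B, B⁆).Normal :=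
    ih _ hlt ⁅B, B⁆ inferInstance (hBp.to_le (Subgroup.commutator_le_self B)) rfl
  -- step (c,d)
  let T : Subgroup G :=
    { carrier := {x | x ∈ B ∧ ∀ y ∈ B, ⁅x, y⁆ ∈ WW C (S : Subgroup G) ⊓ ⁅B, B⁆}
      mul_mem' := by
        rintro x x' ⟨hx1, hx2⟩ ⟨hx1', hx2'⟩
        refine ⟨mul_mem hx1 hx1', fun y hy => ?_⟩
        rw [Cfsg.Agent.S0648.cml]
        exact mul_mem (hMn.conj_mem _ (hx2' y hy) x) (hx2 y hy)
      one_mem' := ⟨one_mem _, fun y _ => by simp⟩
      inv_mem' := by
        rintro x ⟨hx1, hx2⟩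
        refine ⟨inv_mem hx1, fun y hy => ?_⟩
        have e : ⁅x⁻¹, y⁆ = x⁻¹ * ⁅x, y⁆⁻¹ * x⁻¹⁻¹ := by
          simp only [commutatorElement_def]; group
        rw [e]
        exact hMn.conj_mem _ (inv_mem (hx2 y hy)) x⁻¹ }
  have hTn : T.Normal := by
    refine ⟨fun x hx g => ?_⟩
    obtain ⟨hx1, hx2⟩ := hx
    refine ⟨hBn.conj_mem x hx1 g, fun y hy => ?_⟩
    have e : ⁅g * x * g⁻¹, y⁆ = g * ⁅x, g⁻¹ * y * g⁻¹⁻¹⁆ * g⁻¹ := by
      simp only [commutatorElement_def]; group
    rw [e]
    exact hMn.conj_mem _ (hx2 _ (hBn.conj_mem y hy g⁻¹)) g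
  have hZ₁T : ((WW C (S : Subgroup G) ⊓ B : Subgroup G) : Set G) ⊆ T := by
    intro z hz
    obtain ⟨hz1, hz2⟩ := Subgroup.mem_inf.mp hz
    refine ⟨hz2, fun y hy => Subgroup.mem_inf.mpr ⟨?_, Subgroup.commutator_mem_commutator hz2 hy⟩⟩
    have e : ⁅z, y⁆ = z * (y * z⁻¹ * y⁻¹) := by
      simp only [commutatorElement_def]; group
    rw [e]
    exact mul_mem hz1 (hZconj y (hBS hy) _ (inv_mem hz1))
  have hBT : B ≤ T := by
    rw [← hB₁]
    haveI := hTn
    exact Subgroup.normalClosure_le_normal hZ₁T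
  have hB'Z : ⁅B, B⁆ ≤ WW C (S : Subgroup G) := by
    rw [Subgroup.commutator_le]
    intro x hx y hy
    exact (Subgroup.mem_inf.mp ((hBT hx).2 y hy)).1
  -- step (f)
  by_cases hall : ∀ A ∈ fam C (S : Subgroup G), B ≤ A
  · apply hnot
    have : B ≤ WW C (S : Subgroup G) := le_sInf hall
    rw [inf_eq_right.mpr this]
    exact hBn
  push Not at hall
  obtain ⟨U, hU, hUB⟩ := hall
  have hSB : (S : Subgroup G) ≤ Subgroup.normalizer (B : Set G) := by
    rw [Subgroup.normalizer_eq_top]; exact le_top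
  obtain ⟨A, hA, hA1, hA2, hA3⟩ := repl_ambient hp hC (S : Subgroup G) B S.isPGroup' hBS hSB
    ⟨U, hU, hB'Z.trans (WW_le hU), hUB⟩
  -- step (g)
  have hAc := hC.comm A hA.2.1
  let K : Subgroup G := (pCore p (G ⧸ Subgroup.centralizer (B : Set G))).comap
    (QuotientGroup.mk' (Subgroup.centralizer (B : Set G)))
  haveI hpn : (pCore p (G ⧸ Subgroup.centralizer (B : Set G))).Normal := helper1.pCore_normal p
  haveI hKn : K.Normal := Subgroup.Normal.comap hpn _
  have hAK : A ≤ K := by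
    intro a ha
    exact Subgroup.mem_comap.mpr (hst B hBp a (quad_of_normalizes hAc hA3 ha))
  have hKZ₁ : ∀ k ∈ K, ∀ z ∈ WW C (S : Subgroup G) ⊓ B,
      k * z * k⁻¹ ∈ WW C (S : Subgroup G) ⊓ B := by
    intro k hk z hz
    have hk' : (k : G ⧸ Subgroup.centralizer (B : Set G)) ∈
        pCore p (G ⧸ Subgroup.centralizer (B : Set G)) := hk
    obtain ⟨s, hs, hsc⟩ := helper3.exists_sylow_mul_of_mem_pCore _ hk' S
    have hzB := (Subgroup.mem_inf.mp hz).2
    have hcz : (s⁻¹ * k) * z * (s⁻¹ * k)⁻¹ = z := by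
      have := Subgroup.mem_centralizer_iff.mp hsc z hzB
      rw [← this]; group
    have e : k * z * k⁻¹ = s * ((s⁻¹ * k) * z * (s⁻¹ * k)⁻¹) * s⁻¹ := by group
    rw [e, hcz]
    exact hZ₁conj s hs z hz
  -- step (h)
  have hAQ : A ≤ (S : Subgroup G) ⊓ K := le_inf hA.1 hAK
  have hQp : IsPGroup p (((S : Subgroup G) ⊓ K).subgroupOf K) :=
    (S.isPGroup'.to_le inf_le_left).comap_of_injective _ (Subgroup.subtype_injective _)
  have hfr := Sylow.normalizer_sup_eq_top (hQp.toSylow (not_dvd_relIndex_inf_normal S K))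
  have hQ0 : ((hQp.toSylow (not_dvd_relIndex_inf_normal S K) : Sylow p K) : Subgroup K)
      = ((S : Subgroup G) ⊓ K).subgroupOf K := rfl
  rw [hQ0, Subgroup.map_subgroupOf_eq_of_le inf_le_right] at hfr
  -- step (i)
  have hZQ : WW C (S : Subgroup G) ≤ WW C ((S : Subgroup G) ⊓ K) := WW_mono inf_le_left hA hAQ
  have hAfamQ : A ∈ fam C ((S : Subgroup G) ⊓ K) := (fam_mono inf_le_left hA hAQ).1
  have hconj : ∀ g : G, ∀ z ∈ WW C (S : Subgroup G) ⊓ B,
      g * z * g⁻¹ ∈ WW C ((S : Subgroup G) ⊓ K) := by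
    intro g z hz
    have hg : g ∈ Subgroup.normalizer (((S : Subgroup G) ⊓ K : Subgroup G) : Set G) ⊔ K := by
      rw [hfr]; exact Subgroup.mem_top g
    obtain ⟨n, hn, k, hk, rfl⟩ := Subgroup.mem_sup_of_normal_right.mp hg
    have h1 := hKZ₁ k hk z hz
    have h2 : k * z * k⁻¹ ∈ WW C ((S : Subgroup G) ⊓ K) := hZQ (Subgroup.mem_inf.mp h1).1
    have h3 := (Subgroup.mem_normalizer_iff.mp
      (normalizer_le_normalizer_WW hC _ hn) _).mp h2
    have e : n * k * z * (n * k)⁻¹ = n * (k * z * k⁻¹) * n⁻¹ := by group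
    rw [e]; exact h3
  have hfin : B ≤ WW C ((S : Subgroup G) ⊓ K) := by
    rw [← hB₁, Subgroup.normalClosure, Subgroup.closure_le]
    intro x hx
    obtain ⟨z, hz, hzx⟩ := Group.mem_conjugatesOfSet_iff.mp hx
    obtain ⟨c, hc⟩ := isConj_iff.mp hzx
    rw [← hc]
    exact hconj c z hz
  exact hA2 (hfin.trans (WW_le hAfamQ))

end main


section final
variable [Finite G] {p : ℕ} [Fact p.Prime]

theorem WW_isMulCommutative (hC : GoodClass C) (P : Subgroup G) : IsMulCommutative (WW C P) :=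
  ⟨⟨fun x y => Subtype.ext (WW_comm hC P x.2 y.2)⟩⟩

theorem WW_normal (hp : p ≠ 2) (hC : GoodClass C) (S : Sylow p G)
    (hc : Subgroup.centralizer (pCore p G : Set G) ≤ pCore p G)
    (hst : ∀ (P : Subgroup G) [P.Normal], IsPGroup p P → IsPStableOn p P) :
    (WW C (S : Subgroup G)).Normal := by
  haveI hOn : (pCore p G).Normal := helper1.pCore_normal p
  have hOp : IsPGroup p (pCore p G) := helper1.pCore_isPGroup p
  have hOS : pCore p G ≤ (S : Subgroup G) := helper1.pCore_le_sylow S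
  have hSZ : (S : Subgroup G) ≤ Subgroup.normalizer (WW C (S : Subgroup G) : Set G) :=
    Subgroup.le_normalizer.trans (normalizer_le_normalizer_WW hC S)
  have hZO : WW C (S : Subgroup G) ≤ pCore p G := by
    intro a ha
    have hq := quad_of_normalizes (WW_isMulCommutative hC (S : Subgroup G)) (hOS.trans hSZ) ha
    have hmk := hst (pCore p G) hOp a hq
    haveI hpn : (pCore p (G ⧸ Subgroup.centralizer (pCore p G : Set G))).Normal :=
      helper1.pCore_normal p
    have hKp : IsPGroup p ((pCore p (G ⧸ Subgroup.centralizer (pCore p G : Set G))).comap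
        (QuotientGroup.mk' (Subgroup.centralizer (pCore p G : Set G)))) := by
      apply IsPGroup.comap_of_ker_isPGroup (helper1.pCore_isPGroup p)
      rw [QuotientGroup.ker_mk']
      exact hOp.to_le hc
    have hKn : ((pCore p (G ⧸ Subgroup.centralizer (pCore p G : Set G))).comap
        (QuotientGroup.mk' (Subgroup.centralizer (pCore p G : Set G)))).Normal :=
      Subgroup.Normal.comap hpn _
    exact helper1.le_pCore hKn hKp (Subgroup.mem_comap.mpr hmk)
  have := inf_normal hp hC S hst _ (pCore p G) hOn hOp rfl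
  rwa [inf_eq_left.mpr hZO] at this

theorem WW_characteristic (hp : p ≠ 2) (hC : GoodClass C) (S : Sylow p G)
    (hc : Subgroup.centralizer (pCore p G : Set G) ≤ pCore p G)
    (hst : ∀ (P : Subgroup G) [P.Normal], IsPGroup p P → IsPStableOn p P) :
    (WW C (S : Subgroup G)).Characteristic := by
  have hn := WW_normal hp hC S hc hst
  rw [Subgroup.characteristic_iff_map_eq]
  intro φ
  obtain ⟨g, hg⟩ := MulAction.exists_smul_eq G (φ • S) S
  have h1 : ((S : Subgroup G).map φ.toMonoidHom).map (MulAut.conj g).toMonoidHom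
      = (S : Subgroup G) := by
    have := congrArg (fun P : Sylow p G => (P : Subgroup G)) hg
    simp only [Sylow.coe_subgroup_smul, Sylow.pointwise_smul_def] at this
    rw [Subgroup.pointwise_smul_def, Subgroup.pointwise_smul_def] at this
    exact this
  have h2 := WW_map hC ((S : Subgroup G).map φ.toMonoidHom) (MulAut.conj g)
  rw [h1, ← WW_map hC] at h2
  have h3 : (WW C (S : Subgroup G)).map (MulAut.conj g).toMonoidHom = WW C (S : Subgroup G) := by
    apply map_conj_eq_of_mem_normalizer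
    rw [Subgroup.normalizer_eq_top]; exact Subgroup.mem_top g
  exact Subgroup.map_injective (MulAut.conj g).injective (h2.trans h3.symm)

end final

end Cfsg.Agent.helper4.ZJ
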