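import Mathlib
import Cfsg.Agent.Lib_helper4_ZJ

set_option autoImplicit false
set_option linter.style.haveILetI false
open scoped commutatorElement

namespace Cfsg.Agent.helper4.ZJ

open Cfsg

universe u

section gen
variable {T : Type u} [Group T]

theorem sup_zpowers_comm (A : Subgroup T) (x : T) (hA : ∀ u ∈ A, ∀ v ∈ A, u * v = v * u)
    (hx : ∀ a ∈ A, x * a = a * x) :
    ∀ u ∈ A ⊔ Subgroup.zpowers x, ∀ v ∈ A ⊔ Subgroup.zpowers x, u * v = v * u := by
  have h1 : A ⊔ Subgroup.zpowers x ≤ Subgroup.centralizer (A : Set T) := by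
    refine sup_le ?_ ?_
    · intro a ha
      rw [Subgroup.mem_centralizer_iff]
      intro a' ha'
      exact hA a' ha' a ha
    · rw [Subgroup.zpowers_le, Subgroup.mem_centralizer_iff]
      intro a ha
      exact (hx a ha).symm
  have h2 : A ⊔ Subgroup.zpowers x ≤ Subgroup.centralizer ({x} : Set T) := by
    refine sup_le ?_ ?_
    · intro a ha
      rw [Subgroup.mem_centralizer_iff]
      intro y hy
      rw [Set.mem_singleton_iff] at hy
      rw [hy]; exact hx a ha
    · rw [Subgroup.zpowers_le, Subgroup.mem_centralizer_iff]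
      intro y hy
      rw [Set.mem_singleton_iff] at hy
      rw [hy]
  intro u hu v hv
  have h3 : A ⊔ Subgroup.zpowers x ≤ Subgroup.centralizer ({v} : Set T) := by
    refine sup_le ?_ ?_
    · intro a ha
      rw [Subgroup.mem_centralizer_iff]
      intro y hy
      rw [Set.mem_singleton_iff] at hy
      rw [hy]
      exact (Subgroup.mem_centralizer_iff.mp (h1 hv) a ha).symm
    · rw [Subgroup.zpowers_le, Subgroup.mem_centralizer_iff]
      intro y hy
      rw [Set.mem_singleton_iff] at hy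
      rw [hy]
      exact (Subgroup.mem_centralizer_iff.mp (h2 hv) x rfl).symm
  exact (Subgroup.mem_centralizer_iff.mp (h3 hu) v rfl).symm

theorem sup_zpowers_pow (p : ℕ) (A : Subgroup T) (x : T)
    (hA : ∀ u ∈ A, ∀ v ∈ A, u * v = v * u) (hx : ∀ a ∈ A, x * a = a * x)
    (hAp : ∀ a ∈ A, a ^ p = 1) (hxp : x ^ p = 1) :
    ∀ u ∈ A ⊔ Subgroup.zpowers x, u ^ p = 1 := by
  have hcomm := sup_zpowers_comm A x hA hx
  let T' : Subgroup T :=
    { carrier := {y | y ∈ A ⊔ Subgroup.zpowers x ∧ y ^ p = 1}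
      mul_mem' := by
        rintro y z ⟨hy1, hy2⟩ ⟨hz1, hz2⟩
        refine ⟨mul_mem hy1 hz1, ?_⟩
        have hc : Commute y z := hcomm y hy1 z hz1
        rw [hc.mul_pow, hy2, hz2, one_mul]
      one_mem' := ⟨one_mem _, one_pow _⟩
      inv_mem' := by
        rintro y ⟨hy1, hy2⟩
        exact ⟨inv_mem hy1, by rw [inv_pow, hy2, inv_one]⟩ }
  have hle : A ⊔ Subgroup.zpowers x ≤ T' := by
    refine sup_le ?_ ?_
    · intro a ha
      exact ⟨Subgroup.mem_sup_left ha, hAp a ha⟩
    · rw [Subgroup.zpowers_le]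
      exact ⟨Subgroup.mem_sup_right (Subgroup.mem_zpowers x), hxp⟩
  intro u hu
  exact (hle hu).2

theorem maxEA_nonempty [Finite T] (p : ℕ) : (maxElementaryAbelianSubgroups p T).Nonempty := by
  let TT := {A : Subgroup T // IsElementaryAbelian p A}
  have hbot : IsElementaryAbelian p (⊥ : Subgroup T) := by
    refine ⟨⟨⟨fun x y => ?_⟩⟩, fun a ha => ?_⟩
    · apply Subtype.ext
      have hx : (x : T) = 1 := Subgroup.mem_bot.mp x.2
      have hy : (y : T) = 1 := Subgroup.mem_bot.mp y.2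
      simp [hx, hy]
    · rw [Subgroup.mem_bot.mp ha, one_pow]
  haveI : Nonempty TT := ⟨⟨⊥, hbot⟩⟩
  haveI : Finite TT := Subtype.finite
  obtain ⟨⟨A, hA⟩, hmax⟩ := Finite.exists_max (fun A : TT => Nat.card ↥(A.1))
  exact ⟨A, hA, fun B hB => hmax ⟨B, hB⟩⟩

theorem omegaCenterThompson_eq_sInf [Finite T] (p : ℕ) :
    omegaCenterThompson p T = sInf (maxElementaryAbelianSubgroups p T) := by
  apply le_antisymm
  · rw [omegaCenterThompson, omegaOne, Subgroup.closure_le]
    rintro x ⟨hx, hxp⟩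
    obtain ⟨hxJ, hxC⟩ := Subgroup.mem_inf.mp hx
    rw [SetLike.mem_coe, Subgroup.mem_sInf]
    intro A hA
    have hAJ : A ≤ thompsonSubgroup p T := le_sSup hA
    have hAc : ∀ u ∈ A, ∀ v ∈ A, u * v = v * u := fun u hu v hv =>
      congrArg Subtype.val (hA.1.1.is_comm.comm (⟨u, hu⟩ : A) ⟨v, hv⟩)
    have hxa : ∀ a ∈ A, x * a = a * x := fun a ha =>
      (Subgroup.mem_centralizer_iff.mp hxC a (hAJ ha)).symm
    have hH : IsElementaryAbelian p (A ⊔ Subgroup.zpowers x) := by
      refine ⟨⟨⟨fun u v => Subtype.ext (sup_zpowers_comm A x hAc hxa u u.2 v v.2)⟩⟩, ?_⟩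
      exact sup_zpowers_pow p A x hAc hxa hA.1.2 hxp
    have hcard := hA.2 _ hH
    have heq : A = A ⊔ Subgroup.zpowers x := Subgroup.eq_of_le_of_card_ge le_sup_left hcard
    rw [heq]
    exact Subgroup.mem_sup_right (Subgroup.mem_zpowers x)
  · intro y hy
    rw [Subgroup.mem_sInf] at hy
    obtain ⟨A₁, hA₁⟩ := maxEA_nonempty (T := T) p
    have hyA₁ := hy A₁ hA₁
    apply Subgroup.subset_closure
    refine ⟨Subgroup.mem_inf.mpr ⟨(le_sSup hA₁ : A₁ ≤ thompsonSubgroup p T) hyA₁, ?_⟩,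
      hA₁.1.2 y hyA₁⟩
    have hle : thompsonSubgroup p T ≤ Subgroup.centralizer ({y} : Set T) := by
      apply sSup_le
      intro A hA a ha
      rw [Subgroup.mem_centralizer_iff]
      intro z hz
      rw [Set.mem_singleton_iff] at hz
      rw [hz]
      exact congrArg Subtype.val (hA.1.1.is_comm.comm (⟨y, hy A hA⟩ : A) ⟨a, ha⟩)
    rw [Subgroup.mem_centralizer_iff]
    intro h hh
    exact (Subgroup.mem_centralizer_iff.mp (hle hh) y rfl).symm

end gen


section amb
variable {G : Type u} [Group G]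

theorem map_sInf_of_injective {T : Type*} [Group T] (f : T →* G) (hf : Function.Injective f)
    (M : Set (Subgroup T)) (hM : M.Nonempty) :
    (sInf M).map f = sInf ((fun A : Subgroup T => A.map f) '' M) := by
  apply le_antisymm
  · apply le_sInf
    rintro _ ⟨A, hA, rfl⟩
    exact Subgroup.map_mono (sInf_le hA)
  · intro x hx
    rw [Subgroup.mem_sInf] at hx
    obtain ⟨A₁, hA₁⟩ := hM
    obtain ⟨y, _, rfl⟩ := Subgroup.mem_map.mp (hx _ ⟨A₁, hA₁, rfl⟩)
    refine Subgroup.mem_map_of_mem f ?_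
    rw [Subgroup.mem_sInf]
    intro A hA
    obtain ⟨y', hy', hyy⟩ := Subgroup.mem_map.mp (hx _ ⟨A, hA, rfl⟩)
    rwa [← hf hyy]

theorem goodClass_EA (p : ℕ) : GoodClass (fun A : Subgroup G => IsElementaryAbelian p A) where
  comm := fun A hA => hA.1
  map := by
    intro A φ hA
    haveI := hA.1
    refine ⟨Subgroup.map_isMulCommutative _ _, ?_⟩
    intro y hy
    obtain ⟨a, ha, rfl⟩ := Subgroup.mem_map.mp hy
    rw [← map_pow, hA.2 a ha, map_one]
  bot := by
    refine ⟨⟨⟨fun x y => ?_⟩⟩, fun a ha => ?_⟩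
    · apply Subtype.ext
      have hx : (x : G) = 1 := Subgroup.mem_bot.mp x.2
      have hy : (y : G) = 1 := Subgroup.mem_bot.mp y.2
      simp [hx, hy]
    · rw [Subgroup.mem_bot.mp ha, one_pow]
  repl := by
    intro A A' hA hA' hexp
    refine ⟨hA', fun a ha => ?_⟩
    have hexpA : Monoid.exponent A ∣ p := by
      apply Monoid.exponent_dvd_of_forall_pow_eq_one
      rintro ⟨y, hy⟩
      apply Subtype.ext
      rw [Subgroup.coe_pow, Subgroup.coe_one]
      exact hA.2 y hy
    have h1 : (⟨a, ha⟩ : A') ^ p = 1 := by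
      rw [← orderOf_dvd_iff_pow_eq_one]
      exact (Monoid.order_dvd_exponent _).trans (hexp.trans hexpA)
    have h2 := congrArg Subtype.val h1
    rwa [Subgroup.coe_pow, Subgroup.coe_one] at h2

theorem isEA_subgroupOf {p : ℕ} {A : Subgroup G} (P : Subgroup G)
    (hA : IsElementaryAbelian p A) : IsElementaryAbelian p (A.subgroupOf P) := by
  haveI := hA.1
  refine ⟨Subgroup.subgroupOf_isMulCommutative _ _, fun a ha => ?_⟩
  apply Subtype.ext
  rw [Subgroup.coe_pow, Subgroup.coe_one]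
  exact hA.2 _ (Subgroup.mem_subgroupOf.mp ha)

theorem isEA_map_subtype {p : ℕ} (P : Subgroup G) {A₀ : Subgroup ↥P}
    (hA : IsElementaryAbelian p A₀) : IsElementaryAbelian p (A₀.map P.subtype) := by
  haveI := hA.1
  refine ⟨Subgroup.map_isMulCommutative _ _, fun y hy => ?_⟩
  obtain ⟨a, ha, rfl⟩ := Subgroup.mem_map.mp hy
  rw [← map_pow, hA.2 a ha, map_one]

theorem fam_EA_eq (p : ℕ) (P : Subgroup G) :
    fam (fun A : Subgroup G => IsElementaryAbelian p A) P
      = (fun A : Subgroup ↥P => A.map P.subtype) '' (maxElementaryAbelianSubgroups p ↥P) := by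
  ext A
  constructor
  · rintro ⟨hAP, hAC, hmax⟩
    refine ⟨A.subgroupOf P, ⟨isEA_subgroupOf P hAC, fun B₀ hB₀ => ?_⟩,
      Subgroup.map_subgroupOf_eq_of_le hAP⟩
    have h1 := hmax (B₀.map P.subtype) (Subgroup.map_subtype_le _) (isEA_map_subtype P hB₀)
    rw [Subgroup.card_subtype] at h1
    have h2 : Nat.card (A.subgroupOf P) = Nat.card A :=
      Nat.card_congr (Subgroup.subgroupOfEquivOfLe hAP).toEquiv
    rw [h2]; exact h1
  · rintro ⟨A₀, hA₀, rfl⟩
    refine ⟨Subgroup.map_subtype_le _, isEA_map_subtype P hA₀.1, fun A' hA'P hA'C => ?_⟩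
    have h1 := hA₀.2 _ (isEA_subgroupOf P hA'C)
    have h2 : Nat.card (A'.subgroupOf P) = Nat.card A' :=
      Nat.card_congr (Subgroup.subgroupOfEquivOfLe hA'P).toEquiv
    rw [h2] at h1
    simp only
    rw [Subgroup.card_subtype]; exact h1

theorem omegaCenterThompson_map_eq_WW [Finite G] (p : ℕ) (P : Subgroup G) :
    (omegaCenterThompson p ↥P).map P.subtype
      = WW (fun A : Subgroup G => IsElementaryAbelian p A) P := by
  rw [omegaCenterThompson_eq_sInf, WW, fam_EA_eq,
    map_sInf_of_injective _ (Subgroup.subtype_injective P) _ (maxEA_nonempty p)]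

end amb

end Cfsg.Agent.helper4.ZJ
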