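import Mathlib
import Cfsg.Agent.Lib_helper4_ZJ2

set_option autoImplicit false
set_option linter.style.haveILetI false
open scoped commutatorElement

namespace Cfsg.Agent.helper4.ZJ

open Cfsg

universe u

section gen
variable {T : Type u} [Group T]

theorem maxAb_nonempty [Finite T] : (maxAbelianSubgroups T).Nonempty := by
  let TT := {A : Subgroup T // IsMulCommutative A}
  have hbot : IsMulCommutative (⊥ : Subgroup T) := by
    refine ⟨⟨fun x y => ?_⟩⟩
    apply Subtype.ext
    have hx : (x : T) = 1 := Subgroup.mem_bot.mp x.2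
    have hy : (y : T) = 1 := Subgroup.mem_bot.mp y.2
    simp [hx, hy]
  haveI : Nonempty TT := ⟨⟨⊥, hbot⟩⟩
  haveI : Finite TT := Subtype.finite
  obtain ⟨⟨A, hA⟩, hmax⟩ := Finite.exists_max (fun A : TT => Nat.card ↥(A.1))
  exact ⟨A, hA, fun B hB => hmax ⟨B, hB⟩⟩

/-- `Z(J(T)) = ⋂ 𝒜(T)` for the abelian-version Thompson subgroup. -/
theorem centerThompsonA_eq_sInf [Finite T] :
    thompsonSubgroupA T ⊓ Subgroup.centralizer (thompsonSubgroupA T : Set T)
      = sInf (maxAbelianSubgroups T) := by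
  apply le_antisymm
  · intro x hx
    obtain ⟨hxJ, hxC⟩ := Subgroup.mem_inf.mp hx
    rw [Subgroup.mem_sInf]
    intro A hA
    have hAJ : A ≤ thompsonSubgroupA T := le_sSup hA
    have hAc : ∀ u ∈ A, ∀ v ∈ A, u * v = v * u := fun u hu v hv =>
      congrArg Subtype.val (hA.1.is_comm.comm (⟨u, hu⟩ : A) ⟨v, hv⟩)
    have hxa : ∀ a ∈ A, x * a = a * x := fun a ha =>
      (Subgroup.mem_centralizer_iff.mp hxC a (hAJ ha)).symm
    have hH : IsMulCommutative (A ⊔ Subgroup.zpowers x : Subgroup T) :=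
      ⟨⟨fun u v => Subtype.ext (sup_zpowers_comm A x hAc hxa u u.2 v v.2)⟩⟩
    have hcard := hA.2 _ hH
    have heq : A = A ⊔ Subgroup.zpowers x := Subgroup.eq_of_le_of_card_ge le_sup_left hcard
    rw [heq]
    exact Subgroup.mem_sup_right (Subgroup.mem_zpowers x)
  · intro y hy
    rw [Subgroup.mem_sInf] at hy
    obtain ⟨A₁, hA₁⟩ := maxAb_nonempty (T := T)
    have hyA₁ := hy A₁ hA₁
    refine Subgroup.mem_inf.mpr ⟨(le_sSup hA₁ : A₁ ≤ thompsonSubgroupA T) hyA₁, ?_⟩
    have hle : thompsonSubgroupA T ≤ Subgroup.centralizer ({y} : Set T) := by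
      apply sSup_le
      intro A hA a ha
      rw [Subgroup.mem_centralizer_iff]
      intro z hz
      rw [Set.mem_singleton_iff] at hz
      rw [hz]
      exact congrArg Subtype.val (hA.1.is_comm.comm (⟨y, hy A hA⟩ : A) ⟨a, ha⟩)
    rw [Subgroup.mem_centralizer_iff]
    intro h hh
    exact (Subgroup.mem_centralizer_iff.mp (hle hh) y rfl).symm

end gen

section amb
variable {G : Type u} [Group G]

theorem goodClass_Ab : GoodClass (fun A : Subgroup G => IsMulCommutative A) where
  comm := fun _ hA => hA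
  map := by
    intro A φ hA
    haveI := hA
    exact Subgroup.map_isMulCommutative _ _
  bot := by
    refine ⟨⟨fun x y => ?_⟩⟩
    apply Subtype.ext
    have hx : (x : G) = 1 := Subgroup.mem_bot.mp x.2
    have hy : (y : G) = 1 := Subgroup.mem_bot.mp y.2
    simp [hx, hy]
  repl := fun _ _ _ hA' _ => hA'

theorem fam_Ab_eq (P : Subgroup G) :
    fam (fun A : Subgroup G => IsMulCommutative A) P
      = (fun A : Subgroup ↥P => A.map P.subtype) '' (maxAbelianSubgroups ↥P) := by
  ext A
  constructor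
  · rintro ⟨hAP, hAC, hmax⟩
    haveI := hAC
    refine ⟨A.subgroupOf P, ⟨Subgroup.subgroupOf_isMulCommutative _ _, fun B₀ hB₀ => ?_⟩,
      Subgroup.map_subgroupOf_eq_of_le hAP⟩
    haveI := hB₀
    have h1 := hmax (B₀.map P.subtype) (Subgroup.map_subtype_le _)
      (Subgroup.map_isMulCommutative _ _)
    rw [Subgroup.card_subtype] at h1
    have h2 : Nat.card (A.subgroupOf P) = Nat.card A :=
      Nat.card_congr (Subgroup.subgroupOfEquivOfLe hAP).toEquiv
    rw [h2]; exact h1
  · rintro ⟨A₀, hA₀, rfl⟩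
    haveI := hA₀.1
    refine ⟨Subgroup.map_subtype_le _, Subgroup.map_isMulCommutative _ _,
      fun A' hA'P hA'C => ?_⟩
    haveI := hA'C
    have h1 := hA₀.2 _ (Subgroup.subgroupOf_isMulCommutative P A')
    have h2 : Nat.card (A'.subgroupOf P) = Nat.card A' :=
      Nat.card_congr (Subgroup.subgroupOfEquivOfLe hA'P).toEquiv
    rw [h2] at h1
    simp only
    rw [Subgroup.card_subtype]; exact h1

theorem map_inf_centralizer (P : Subgroup G) (J : Subgroup ↥P) :
    J.map P.subtype ⊓ Subgroup.centralizer ((J.map P.subtype : Subgroup G) : Set G)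
      = (J ⊓ Subgroup.centralizer (J : Set ↥P)).map P.subtype := by
  ext x
  constructor
  · intro hx
    obtain ⟨hx1, hx2⟩ := Subgroup.mem_inf.mp hx
    obtain ⟨y, hy, rfl⟩ := Subgroup.mem_map.mp hx1
    refine Subgroup.mem_map_of_mem _ (Subgroup.mem_inf.mpr ⟨hy, ?_⟩)
    rw [Subgroup.mem_centralizer_iff]
    intro h hh
    have := Subgroup.mem_centralizer_iff.mp hx2 (P.subtype h) (Subgroup.mem_map_of_mem _ hh)
    apply Subgroup.subtype_injective P
    rw [map_mul, map_mul]; exact this
  · intro hx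
    obtain ⟨y, hy, rfl⟩ := Subgroup.mem_map.mp hx
    obtain ⟨hy1, hy2⟩ := Subgroup.mem_inf.mp hy
    refine Subgroup.mem_inf.mpr ⟨Subgroup.mem_map_of_mem _ hy1, ?_⟩
    rw [Subgroup.mem_centralizer_iff]
    intro h hh
    obtain ⟨h', hh', rfl⟩ := Subgroup.mem_map.mp hh
    have := Subgroup.mem_centralizer_iff.mp hy2 h' hh'
    rw [← map_mul, ← map_mul, this]

/-- `Z(J(P))` (abelian version) is the intersection of the ambient family. -/
theorem centerThompsonAOf_eq_WW [Finite G] (P : Subgroup G) :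
    centerThompsonAOf P = WW (fun A : Subgroup G => IsMulCommutative A) P := by
  rw [centerThompsonAOf, thompsonSubgroupAOf, map_inf_centralizer, centerThompsonA_eq_sInf, WW,
    fam_Ab_eq, map_sInf_of_injective _ (Subgroup.subtype_injective P) _ maxAb_nonempty]

/-- Glauberman's ZJ theorem in ambient form. -/
theorem centerThompsonAOf_characteristic [Finite G] {p : ℕ} [Fact p.Prime] (hp : p ≠ 2)
    (hc : Subgroup.centralizer (pCore p G : Set G) ≤ pCore p G)
    (hst : ∀ (P : Subgroup G) [P.Normal], IsPGroup p P → IsPStableOn p P) (S : Sylow p G) :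
    (centerThompsonAOf (S : Subgroup G)).Characteristic := by
  rw [centerThompsonAOf_eq_WW]
  exact WW_characteristic hp goodClass_Ab S hc hst

end amb

end Cfsg.Agent.helper4.ZJ
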