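import Mathlib
import Cfsg.Prelude.Def_ConjugacyFunctors
import Cfsg.Agent.Lib_helper3_StabChief
import Cfsg.Agent.Lib_helper3_ZJAb
import Cfsg.Agent.Lib_helper4_ZJ3
import Cfsg.Agent.Lib_helper10_HH4
import Cfsg.Agent.Lib_helper10_Thompson3

/-! The functor `Z(J(·))` (abelian version) and Glauberman's normal `p`-complement theorem
(helper3). -/

set_option autoImplicit false

namespace Cfsg.Agent.helper3

open Cfsg
open scoped commutatorElement

universe u

/-- The functor `Q ↦ Z(J(Q))` for the abelian-version Thompson subgroup. -/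
def zjFunctor : ∀ (Q : Type u) [Group Q], Subgroup Q :=
  fun Q _ => Cfsg.thompsonSubgroupA Q ⊓ Subgroup.centralizer (Cfsg.thompsonSubgroupA Q : Set Q)

theorem inducedFunctor_zjFunctor {G : Type u} [Group G] (P : Subgroup G) :
    Cfsg.inducedFunctor zjFunctor P = Cfsg.centerThompsonAOf P := by
  unfold Cfsg.inducedFunctor zjFunctor Cfsg.centerThompsonAOf Cfsg.thompsonSubgroupAOf
  exact (Cfsg.Agent.helper4.ZJ.map_inf_centralizer P _).symm

section equiv

variable {Q R : Type u} [Group Q] [Group R]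

theorem maxAb_map_equiv (φ : Q ≃* R) {A : Subgroup Q} (hA : A ∈ Cfsg.maxAbelianSubgroups Q) :
    A.map φ.toMonoidHom ∈ Cfsg.maxAbelianSubgroups R := by
  haveI := hA.1
  refine ⟨Subgroup.map_isMulCommutative _ _, fun B hB => ?_⟩
  haveI := hB
  have h1 : Nat.card (A.map φ.toMonoidHom) = Nat.card A :=
    Subgroup.card_map_of_injective φ.injective
  have h2 : Nat.card (B.map φ.symm.toMonoidHom) = Nat.card B :=
    Subgroup.card_map_of_injective φ.symm.injective
  rw [h1, ← h2]
  exact hA.2 _ (Subgroup.map_isMulCommutative _ _)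

theorem map_symm_map' (φ : Q ≃* R) (B : Subgroup R) :
    (B.map φ.symm.toMonoidHom).map φ.toMonoidHom = B := by
  rw [Subgroup.map_map]
  have : φ.toMonoidHom.comp φ.symm.toMonoidHom = MonoidHom.id R := by
    ext x; simp
  rw [this, Subgroup.map_id]

theorem thompsonSubgroupA_map_equiv (φ : Q ≃* R) :
    (Cfsg.thompsonSubgroupA Q).map φ.toMonoidHom = Cfsg.thompsonSubgroupA R := by
  unfold Cfsg.thompsonSubgroupA
  apply le_antisymm
  · rw [Subgroup.map_le_iff_le_comap]
    apply sSup_le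
    intro A hA
    rw [← Subgroup.map_le_iff_le_comap]
    exact le_sSup (maxAb_map_equiv φ hA)
  · apply sSup_le
    intro B hB
    have h1 := maxAb_map_equiv φ.symm hB
    rw [← map_symm_map' φ B]
    exact Subgroup.map_mono (le_sSup h1)

theorem map_centralizer_equiv' (e : Q ≃* R) (K : Subgroup Q) :
    (Subgroup.centralizer (K : Set Q)).map e.toMonoidHom =
      Subgroup.centralizer ((K.map e.toMonoidHom : Subgroup R) : Set R) := by
  ext y
  constructor
  · intro hy
    obtain ⟨x, hx, rfl⟩ := Subgroup.mem_map.mp hy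
    rw [Subgroup.mem_centralizer_iff] at hx ⊢
    intro k' hk'
    obtain ⟨k, hk, rfl⟩ := Subgroup.mem_map.mp hk'
    show e k * e x = e x * e k
    rw [← map_mul, ← map_mul, hx k hk]
  · intro hy
    refine Subgroup.mem_map.mpr ⟨e.symm y, ?_, by simp⟩
    rw [Subgroup.mem_centralizer_iff] at hy ⊢
    intro k hk
    apply e.injective
    rw [map_mul, map_mul, e.apply_symm_apply]
    exact hy (e k) (Subgroup.mem_map_of_mem _ hk)

theorem zjFunctor_map_equiv (φ : Q ≃* R) :
    (zjFunctor Q).map φ.toMonoidHom = zjFunctor R := by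
  unfold zjFunctor
  rw [Subgroup.map_inf _ _ _ φ.injective, map_centralizer_equiv', thompsonSubgroupA_map_equiv]

end equiv

theorem isCharPFunctor_zjFunctor (p : ℕ) [hp : Fact p.Prime] :
    Cfsg.IsCharPFunctor.{u} p zjFunctor := by
  refine ⟨?_, fun Q R _ _ _ _ φ => zjFunctor_map_equiv φ⟩
  intro Q _ _ hQ hnt
  haveI := hnt
  haveI hcn : Nontrivial (Subgroup.center Q) := hQ.center_nontrivial
  obtain ⟨z, hz⟩ := exists_ne (1 : Subgroup.center Q)
  intro hbot
  have hzW : (z : Q) ∈ zjFunctor Q := by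
    unfold zjFunctor
    rw [Cfsg.Agent.helper4.ZJ.centerThompsonA_eq_sInf, Subgroup.mem_sInf]
    intro A hA
    have hAc : ∀ u ∈ A, ∀ v ∈ A, u * v = v * u := fun u hu v hv =>
      congrArg Subtype.val (hA.1.is_comm.comm (⟨u, hu⟩ : A) ⟨v, hv⟩)
    have hza : ∀ a ∈ A, (z : Q) * a = a * z := fun a _ =>
      (Subgroup.mem_center_iff.1 z.2 a).symm
    have hH : IsMulCommutative (A ⊔ Subgroup.zpowers (z : Q) : Subgroup Q) :=
      ⟨⟨fun u v => Subtype.ext
        (Cfsg.Agent.helper4.ZJ.sup_zpowers_comm A z hAc hza u u.2 v v.2)⟩⟩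
    have hcard := hA.2 _ hH
    have heq : A = A ⊔ Subgroup.zpowers (z : Q) :=
      Subgroup.eq_of_le_of_card_ge le_sup_left hcard
    rw [heq]
    exact Subgroup.mem_sup_right (Subgroup.mem_zpowers _)
  rw [hbot, Subgroup.mem_bot] at hzW
  exact hz (Subtype.ext hzW)

theorem iterCommutator_eq_bot_of_quad {Y : Type*} [Group Y] (U A : Subgroup Y)
    (h : ⁅⁅U, A⁆, A⁆ = ⊥) : ∀ j : ℕ, Cfsg.iterCommutator U A (2 + j) = ⊥
  | 0 => h
  | j + 1 => by
    show ⁅Cfsg.iterCommutator U A (2 + j), A⁆ = ⊥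
    rw [iterCommutator_eq_bot_of_quad U A h j, Subgroup.commutator_bot_left]

/-- The local hypothesis of Thompson's criterion holds for `Z(J(·))`, `p` odd: in a constrained
group `Y` with `Y/O_p(Y)` having a normal `p`-complement and a maximal Sylow `p`-subgroup `T`,
`Z(J(T))` is normal. -/
theorem hypT_zjFunctor {p : ℕ} [hp : Fact p.Prime] (hp2 : p ≠ 2) (X : Type u) [Group X] :
    Cfsg.Agent.helper10.HypT p zjFunctor X := by
  intro K Y _ _ f hf hcon hnpc T hT
  rw [inducedFunctor_zjFunctor, centerThompsonAOf_eq_zjI]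
  apply zjI_normal' zjFamily_famAb T (hasReplacement_famAb hp2 T) hcon
  intro V _ hV a ha hq
  apply mk_mem_pCore_of_centralizes_chief V hV a
  intro U W hUW hUV
  have hVP : V ≤ Cfsg.pCore p Y := Cfsg.Agent.helper1.le_pCore inferInstance hV
  apply Cfsg.Agent.helper10.commutator_le_of_iter_le hnpc T hT a ha U W hUW (hUV.trans hVP)
  have h2 : 2 ≤ p := hp.out.two_le
  obtain ⟨j, hj⟩ : ∃ j, p - 1 = 2 + j := ⟨p - 3, by omega⟩
  have hqU : ⁅⁅U, Subgroup.zpowers a⁆, Subgroup.zpowers a⁆ = ⊥ := by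
    rw [eq_bot_iff, ← hq]
    exact Subgroup.commutator_mono (Subgroup.commutator_mono hUV le_rfl) le_rfl
  rw [hj, iterCommutator_eq_bot_of_quad U _ hqU j]
  exact bot_le

/-- **Glauberman's normal `p`-complement theorem**: for odd `p`, `G` has a normal `p`-complement
as soon as `N_G(Z(J(P)))` has one. -/
theorem glauberman_npc {G : Type u} [Group G] [Finite G] {p : ℕ} [Fact p.Prime] (hp : p ≠ 2)
    (P : Sylow p G)
    (hN : Cfsg.HasNormalPComplement p
      ↥(Subgroup.normalizer (Cfsg.centerThompsonAOf (P : Subgroup G) : Set G))) :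
    Cfsg.HasNormalPComplement p G := by
  apply Cfsg.Agent.helper10.thompson_main (isCharPFunctor_zjFunctor p) _ G rfl
    (hypT_zjFunctor hp G) P
  rw [inducedFunctor_zjFunctor]
  exact hN

end Cfsg.Agent.helper3
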