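import Mathlib
import Cfsg.Prelude.Def_LocalEven
import Cfsg.Agent.Lib_helper3_StabChief
import Cfsg.Agent.Lib_helper3_PStab
import Cfsg.Agent.Lib_helper3_ZJFunctor
import Cfsg.Agent.Lib_helper10_HH4
import Cfsg.Agent.Lib_helper14_PIrr3

/-! Groups that are (`p`-group)-by-abelian-by-(`p`-group) are `p`-stable in the normalizer form
for odd `p` (helper3). -/

set_option autoImplicit false

namespace Cfsg.Agent.helper3

open Cfsg
open scoped commutatorElement

universe u

/-- `X` has a normal subgroup `K` of `p`-power index whose derived subgroup is a `p`-group. -/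
def IsPAP (p : ℕ) (X : Type*) [Group X] : Prop :=
  ∃ K : Subgroup X, K.Normal ∧ IsPGroup p ↥⁅K, K⁆ ∧ ∀ x : X, ∃ n : ℕ, x ^ p ^ n ∈ K

section closure

variable {X : Type*} [Group X] {Y : Type*} [Group Y] {p : ℕ}

theorem isPGroup_of_map_le' {f : X →* Y} (hf : Function.Injective f) {L : Subgroup X}
    {M : Subgroup Y} (hM : IsPGroup p ↥M) (h : L.map f ≤ M) : IsPGroup p ↥L := by
  rintro ⟨x, hx⟩
  obtain ⟨n, hn⟩ := hM ⟨f x, h ⟨x, hx, rfl⟩⟩
  refine ⟨n, Subtype.ext (hf ?_)⟩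
  have h1 := congrArg Subtype.val hn
  simpa using h1

theorem IsPAP.subgroup (h : IsPAP p X) (H : Subgroup X) : IsPAP p ↥H := by
  obtain ⟨K, hKn, hKc, hKp⟩ := h
  refine ⟨K.subgroupOf H, hKn.subgroupOf H, ?_, ?_⟩
  · apply isPGroup_of_map_le' H.subtype_injective hKc
    rw [Subgroup.map_commutator]
    have h0 : (K.subgroupOf H).map H.subtype ≤ K := by
      rw [Subgroup.subgroupOf_map_subtype]; exact inf_le_left
    exact Subgroup.commutator_mono h0 h0
  · rintro ⟨x, hx⟩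
    obtain ⟨n, hn⟩ := hKp x
    refine ⟨n, ?_⟩
    rw [Subgroup.mem_subgroupOf]
    simpa using hn

theorem IsPAP.of_surjective (h : IsPAP p X) (f : X →* Y) (hf : Function.Surjective f) :
    IsPAP p Y := by
  obtain ⟨K, hKn, hKc, hKp⟩ := h
  refine ⟨K.map f, hKn.map f hf, ?_, ?_⟩
  · rw [← Subgroup.map_commutator]
    exact hKc.map f
  · intro y
    obtain ⟨x, rfl⟩ := hf y
    obtain ⟨n, hn⟩ := hKp x
    exact ⟨n, by rw [← map_pow]; exact Subgroup.mem_map_of_mem f hn⟩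

theorem IsPAP.sect (h : IsPAP p X) (K R : Subgroup X) [hR : (R.subgroupOf K).Normal] :
    IsPAP p (↥K ⧸ R.subgroupOf K) :=
  (h.subgroup K).of_surjective (QuotientGroup.mk' _) (QuotientGroup.mk'_surjective _)

end closure

section struct

variable {Y : Type u} [Group Y] [Finite Y] {p : ℕ} [hp : Fact p.Prime]

theorem pCore_quotient_pCore_eq_bot :
    haveI := Cfsg.Agent.helper1.pCore_normal (G := Y) p
    Cfsg.pCore p (Y ⧸ Cfsg.pCore p Y) = ⊥ := by
  haveI := Cfsg.Agent.helper1.pCore_normal (G := Y) p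
  have h1 := Cfsg.Agent.helper14.pCore_comap_quot (Cfsg.pCore p Y)
    (Cfsg.Agent.helper1.pCore_isPGroup p)
  rw [eq_bot_iff]
  intro z hz
  obtain ⟨y, rfl⟩ := QuotientGroup.mk'_surjective _ z
  have h2 : y ∈ (Cfsg.pCore p (Y ⧸ Cfsg.pCore p Y)).comap (QuotientGroup.mk' (Cfsg.pCore p Y)) := hz
  rw [h1] at h2
  rw [Subgroup.mem_bot, QuotientGroup.mk'_apply, QuotientGroup.eq_one_iff]
  exact h2

/-- The structure of `Y/O_p(Y)` for `Y` in the class. -/
theorem IsPAP.struct (h : IsPAP p Y) :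
    haveI := Cfsg.Agent.helper1.pCore_normal (G := Y) p
    ∃ Kb : Subgroup (Y ⧸ Cfsg.pCore p Y), Kb.Normal ∧ (∀ a ∈ Kb, ∀ b ∈ Kb, a * b = b * a) ∧
      (Nat.card Kb).Coprime p ∧
      ∀ T : Sylow p Y, ∀ z : Y ⧸ Cfsg.pCore p Y,
        ∃ t ∈ (T : Subgroup Y).map (QuotientGroup.mk' (Cfsg.pCore p Y)), ∃ c ∈ Kb, z = t * c := by
  haveI hPn := Cfsg.Agent.helper1.pCore_normal (G := Y) p
  obtain ⟨K, hKn, hKc, hKp⟩ := h
  haveI := hKn
  have hKP : ⁅K, K⁆ ≤ Cfsg.pCore p Y :=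
    Cfsg.Agent.helper1.le_pCore inferInstance hKc
  have hKbn : (K.map (QuotientGroup.mk' (Cfsg.pCore p Y))).Normal :=
    hKn.map _ (QuotientGroup.mk'_surjective _)
  have hab : ∀ a ∈ K.map (QuotientGroup.mk' (Cfsg.pCore p Y)),
      ∀ b ∈ K.map (QuotientGroup.mk' (Cfsg.pCore p Y)), a * b = b * a := by
    rintro _ ⟨k₁, hk₁, rfl⟩ _ ⟨k₂, hk₂, rfl⟩
    rw [← map_mul, ← map_mul, QuotientGroup.mk'_apply, QuotientGroup.mk'_apply, QuotientGroup.eq]
    apply hKP
    have e : (k₁ * k₂)⁻¹ * (k₂ * k₁) = ⁅k₂⁻¹, k₁⁻¹⁆ := by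
      rw [commutatorElement_def]; group
    rw [e]
    exact Subgroup.commutator_mem_commutator (K.inv_mem hk₂) (K.inv_mem hk₁)
  refine ⟨K.map (QuotientGroup.mk' (Cfsg.pCore p Y)), hKbn, hab, ?_, ?_⟩
  · -- coprimality
    set Kb := K.map (QuotientGroup.mk' (Cfsg.pCore p Y)) with hKb
    rw [Nat.coprime_comm, Nat.Prime.coprime_iff_not_dvd hp.out]
    intro hdvd
    obtain ⟨x, hx⟩ := exists_prime_orderOf_dvd_card' p hdvd
    let L : Subgroup (Y ⧸ Cfsg.pCore p Y) :=
      { carrier := {z | z ∈ Kb ∧ z ^ p = 1}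
        one_mem' := ⟨Kb.one_mem, one_pow _⟩
        mul_mem' := by
          rintro a b ⟨ha, hap⟩ ⟨hb, hbp⟩
          refine ⟨Kb.mul_mem ha hb, ?_⟩
          have hc : Commute a b := hab a ha b hb
          rw [hc.mul_pow, hap, hbp, one_mul]
        inv_mem' := by
          rintro a ⟨ha, hap⟩
          exact ⟨Kb.inv_mem ha, by rw [inv_pow, hap, inv_one]⟩ }
    have hLn : L.Normal := by
      constructor
      rintro a ⟨ha, hap⟩ g
      refine ⟨hKbn.conj_mem a ha g, ?_⟩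
      rw [conj_pow, hap, mul_one, mul_inv_cancel]
    have hLp : IsPGroup p ↥L := by
      rintro ⟨a, ha, hap⟩
      exact ⟨1, Subtype.ext (by simpa using hap)⟩
    have hL := Cfsg.Agent.helper1.le_pCore hLn hLp
    rw [pCore_quotient_pCore_eq_bot] at hL
    have hxL : (x : Y ⧸ Cfsg.pCore p Y) ∈ L := by
      refine ⟨x.2, ?_⟩
      have h1 : x ^ p = 1 := by
        have h0 := pow_orderOf_eq_one x
        rwa [hx] at h0
      have h2 := congrArg Subtype.val h1
      simpa using h2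
    have hx1 : (x : Y ⧸ Cfsg.pCore p Y) = 1 := (Subgroup.mem_bot).1 (hL hxL)
    have hx1' : x = 1 := Subtype.ext hx1
    rw [hx1', orderOf_one] at hx
    exact hp.out.one_lt.ne hx
  · intro T z
    obtain ⟨y, rfl⟩ := QuotientGroup.mk'_surjective _ z
    -- `Y/K` is a `p`-group
    have hYK : IsPGroup p (Y ⧸ K) := by
      intro q
      obtain ⟨w, rfl⟩ := QuotientGroup.mk'_surjective K q
      obtain ⟨n, hn⟩ := hKp w
      refine ⟨n, ?_⟩
      rw [← map_pow, QuotientGroup.mk'_apply, QuotientGroup.eq_one_iff]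
      exact hn
    have hTtop : ((T.mapSurjective (QuotientGroup.mk'_surjective K) : Sylow p (Y ⧸ K)) :
        Subgroup (Y ⧸ K)) = ⊤ :=
      ((T.mapSurjective (QuotientGroup.mk'_surjective K)).is_maximal'
        (hYK.to_subgroup ⊤) le_top).symm
    have hy : (QuotientGroup.mk' K y) ∈
        ((T.mapSurjective (QuotientGroup.mk'_surjective K) : Sylow p (Y ⧸ K)) :
          Subgroup (Y ⧸ K)) := by
      rw [hTtop]; trivial
    obtain ⟨t, ht, hty⟩ := hy
    have hk : t⁻¹ * y ∈ K := by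
      rw [← QuotientGroup.eq]
      exact hty
    refine ⟨QuotientGroup.mk' _ t, Subgroup.mem_map_of_mem _ ht, QuotientGroup.mk' _ (t⁻¹ * y),
      Subgroup.mem_map_of_mem _ hk, ?_⟩
    rw [← map_mul]
    congr 1
    group

end struct

section bezout

variable {Y : Type*} [Group Y]

theorem mem_of_pow_mem_of_coprime (B : Subgroup Y) (g : Y) (a b : ℕ) (hab : a.Coprime b)
    (ha : g ^ a ∈ B) (hb : g ^ b ∈ B) : g ∈ B := by
  have h1 := Nat.gcd_eq_gcd_ab a b
  rw [hab.gcd_eq_one] at h1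
  have h2 : g = (g ^ a) ^ (Nat.gcdA a b) * (g ^ b) ^ (Nat.gcdB a b) := by
    rw [← zpow_natCast g a, ← zpow_natCast g b, ← zpow_mul, ← zpow_mul, ← zpow_add, ← h1]
    simp
  rw [h2]
  exact B.mul_mem (B.zpow_mem ha _) (B.zpow_mem hb _)

end bezout

section main

variable {Y : Type u} [Group Y] [Finite Y] {p : ℕ} [hp : Fact p.Prime]

/-- In a group of the class, `p` odd, an element acting quadratically on a normal `p`-subgroup
`V` centralizes every chief factor below `V`. -/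
theorem mem_chiefStab_of_quadratic (hp2 : p ≠ 2) (hY : IsPAP p Y) (V : Subgroup Y) [hVn : V.Normal]
    (hV : IsPGroup p ↥V) (g : Y)
    (hq : ⁅⁅V, Subgroup.zpowers g⁆, Subgroup.zpowers g⁆ = ⊥) : g ∈ chiefStab V := by
  haveI hPn := Cfsg.Agent.helper1.pCore_normal (G := Y) p
  obtain ⟨e, m, hm, hem⟩ :=
    Nat.exists_eq_pow_mul_and_not_dvd (orderOf_pos g).ne' p hp.out.ne_one
  have hpe : 0 < p ^ e := pow_pos hp.out.pos e
  have hcop : (p ^ e).Coprime m :=
    Nat.Coprime.pow_left e ((Nat.Prime.coprime_iff_not_dvd hp.out).2 hm)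
  apply mem_of_pow_mem_of_coprime (chiefStab V) g (p ^ e) m hcop
  · -- the `p'`-part centralizes `V`
    have ho : orderOf (g ^ p ^ e) = m := by
      rw [orderOf_pow' g hpe.ne', hem, Nat.gcd_mul_right_left]
      exact Nat.mul_div_cancel_left m hpe
    have hle : Subgroup.zpowers (g ^ p ^ e) ≤ Subgroup.zpowers g :=
      Subgroup.zpowers_le.2 (Subgroup.pow_mem _ (Subgroup.mem_zpowers g) _)
    have hq1 : ⁅⁅V, Subgroup.zpowers (g ^ p ^ e)⁆, Subgroup.zpowers (g ^ p ^ e)⁆ = ⊥ := by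
      rw [eq_bot_iff, ← hq]
      exact Subgroup.commutator_mono (Subgroup.commutator_mono le_rfl hle) hle
    have h1 := Cfsg.Agent.helper19.coprime_comm_eq_bot V (Subgroup.zpowers (g ^ p ^ e)) hV
      (by rw [Subgroup.normalizer_eq_top_iff.mpr hVn]; exact le_top)
      (by rw [Nat.card_zpowers, ho]
          exact ((Nat.Prime.coprime_iff_not_dvd hp.out).mpr hm).symm) hq1
    rw [Subgroup.commutator_eq_bot_iff_le_centralizer] at h1
    intro U W hUW hUV u hu
    have h2 := h1 (hUV hu)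
    rw [Subgroup.mem_centralizer_iff] at h2
    have h3 := h2 _ (Subgroup.mem_zpowers (g ^ p ^ e))
    have e1 : g ^ p ^ e * u * (g ^ p ^ e)⁻¹ * u⁻¹ = 1 := by
      rw [h3]; group
    rw [e1]
    exact W.one_mem
  · -- the `p`-part, by Hall–Higman
    have hgm : (g ^ m) ^ p ^ e = 1 := by
      rw [← pow_mul, mul_comm, ← hem]
      exact pow_orderOf_eq_one g
    have hzp : IsPGroup p ↥(Subgroup.zpowers (g ^ m)) := by
      rintro ⟨x, hx⟩
      obtain ⟨k, rfl⟩ := Subgroup.mem_zpowers_iff.1 hx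
      refine ⟨e, Subtype.ext ?_⟩
      show ((g ^ m) ^ k) ^ p ^ e = 1
      rw [← zpow_natCast, ← zpow_mul, mul_comm, zpow_mul, zpow_natCast, hgm, one_zpow]
    obtain ⟨T, hT⟩ := hzp.exists_le_sylow
    obtain ⟨Kb, hKbn, hKab, hKcop, hTK⟩ := hY.struct
    haveI := hKbn
    have hVP : V ≤ Cfsg.pCore p Y := Cfsg.Agent.helper1.le_pCore hVn hV
    have hle : Subgroup.zpowers (g ^ m) ≤ Subgroup.zpowers g :=
      Subgroup.zpowers_le.2 (Subgroup.pow_mem _ (Subgroup.mem_zpowers g) _)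
    have h2 : 2 ≤ p := hp.out.two_le
    obtain ⟨j, hj⟩ : ∃ j, p - 1 = 2 + j := ⟨p - 3, by omega⟩
    intro U W hUW hUV u hu
    have hqU : ⁅⁅U, Subgroup.zpowers (g ^ m)⁆, Subgroup.zpowers (g ^ m)⁆ = ⊥ := by
      rw [eq_bot_iff, ← hq]
      exact Subgroup.commutator_mono (Subgroup.commutator_mono hUV hle) hle
    have h3 := Cfsg.Agent.helper10.hh_abelian_chief (Cfsg.pCore p Y)
      (Cfsg.Agent.helper1.pCore_isPGroup p) Kb hKab hKcop
      ((T : Subgroup Y).map (QuotientGroup.mk' (Cfsg.pCore p Y))) (T.isPGroup'.map _) (hTK T)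
      (g ^ m) (Subgroup.mem_map_of_mem _ (hT (Subgroup.mem_zpowers _))) U W hUW (hUV.trans hVP)
      (by rw [hj, iterCommutator_eq_bot_of_quad U _ hqU j]; exact bot_le)
    have h4 := h3 (Subgroup.commutator_mem_commutator hu (Subgroup.mem_zpowers (g ^ m)))
    have e1 : g ^ m * u * (g ^ m)⁻¹ * u⁻¹ = ⁅u, g ^ m⁆⁻¹ := by
      rw [commutatorElement_def]; group
    rw [e1]
    exact W.inv_mem h4

end main

section stable

variable {X : Type u} [Group X] [Finite X] {p : ℕ} [hp : Fact p.Prime]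

/-- Groups of the class are `p`-stable in the normalizer form for odd `p`. -/
theorem isNormalizerPStable_of_isPAP (hp2 : p ≠ 2) (h : IsPAP p X) :
    Cfsg.IsNormalizerPStable p X := by
  intro Q hQ g hg hq
  set N := Subgroup.normalizer (Q : Set X) with hNdef
  have hN : IsPAP p ↥N := h.subgroup N
  have hQN : Q ≤ N := Subgroup.le_normalizer
  haveI hQ'n : (Q.subgroupOf N).Normal := Subgroup.normal_in_normalizer
  have hQ' : IsPGroup p ↥(Q.subgroupOf N) := by
    rw [← Subgroup.comap_subtype]; exact hQ.comap_subtype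
  have hq' : ⁅⁅Q.subgroupOf N, Subgroup.zpowers (⟨g, hg⟩ : ↥N)⁆,
      Subgroup.zpowers (⟨g, hg⟩ : ↥N)⁆ = ⊥ := by
    apply (Subgroup.map_eq_bot_iff_of_injective _ N.subtype_injective).mp
    rw [Subgroup.map_commutator, Subgroup.map_commutator, Subgroup.map_subgroupOf_eq_of_le hQN,
      MonoidHom.map_zpowers]
    exact hq
  have hmem := mem_chiefStab_of_quadratic hp2 hN (Q.subgroupOf N) hQ' ⟨g, hg⟩ hq'
  have hC : (Subgroup.centralizer (Q : Set X)).subgroupOf N =
      (QuotientGroup.mk' (Subgroup.centralizer ((Q.subgroupOf N : Subgroup ↥N) : Set ↥N))).ker := by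
    rw [QuotientGroup.ker_mk']
    ext ⟨n, hn⟩
    rw [Subgroup.mem_subgroupOf, Subgroup.mem_centralizer_iff, Subgroup.mem_centralizer_iff]
    constructor
    · rintro h1 ⟨q, hqN⟩ hq2
      apply Subtype.ext
      exact h1 q (Subgroup.mem_subgroupOf.1 hq2)
    · intro h1 q hq2
      have := h1 ⟨q, hQN hq2⟩ (Subgroup.mem_subgroupOf.2 hq2)
      exact congrArg Subtype.val this
  have hmapn : ((chiefStab (Q.subgroupOf N)).map (QuotientGroup.mk'
      (Subgroup.centralizer ((Q.subgroupOf N : Subgroup ↥N) : Set ↥N)))).Normal :=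
    Subgroup.Normal.map inferInstance _ (QuotientGroup.mk'_surjective _)
  have h1 := Cfsg.Agent.helper1.le_pCore hmapn (chiefStab_map_isPGroup (Q.subgroupOf N) hQ')
  have h2 := map_le_pCore_of_factor_inj p ((Subgroup.centralizer (Q : Set X)).subgroupOf N)
    (QuotientGroup.mk' (Subgroup.centralizer ((Q.subgroupOf N : Subgroup ↥N) : Set ↥N)))
    (QuotientGroup.mk'_surjective _) hC (chiefStab (Q.subgroupOf N)) h1
  exact h2 ⟨⟨g, hg⟩, hmem, rfl⟩

end stable

end Cfsg.Agent.helper3
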