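import Mathlib
import Cfsg.Prelude.Def_Local
import Cfsg.Agent.Lib_helper7_PConstr
import Cfsg.Agent.Lib_helper7_ExtLayer
import Cfsg.Agent.Lib_helper7_Coprime
import Cfsg.Agent.Lib_helper1_Core
import Cfsg.Agent.Lib_helper19_Sylow

set_option autoImplicit false

namespace Cfsg.Agent.helper10

open Cfsg.Agent.helper7

/-- A `p`-subgroup meets a subgroup of order prime to `p` trivially. -/
theorem eq_one_of_mem_pgroup_of_mem_coprime {G : Type*} [Group G] [Finite G] {p : ℕ}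
    [hp : Fact p.Prime] {H D : Subgroup G} (hH : IsPGroup p H) (hD : (Nat.card D).Coprime p)
    {x : G} (hxH : x ∈ H) (hxD : x ∈ D) : x = 1 := by
  obtain ⟨k, hk⟩ := hH ⟨x, hxH⟩
  have h1 : x ^ (p ^ k) = 1 := by
    have := congrArg Subtype.val hk
    simpa using this
  have h3 : orderOf x ∣ p ^ k := orderOf_dvd_of_pow_eq_one h1
  have h4 : orderOf x ∣ Nat.card D := Subgroup.orderOf_dvd_natCard D hxD
  have h5 : (Nat.card D).Coprime (p ^ k) := hD.pow_right k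
  have h6 : orderOf x = 1 := Nat.Coprime.eq_one_of_dvd (h5.symm.coprime_dvd_left h3) h4
  exact orderOf_eq_one_iff.1 h6

/-- Abstract form of Gorenstein 8.1.(a)-type factorization. `H` a `p`-subgroup, `D` a normal
`p'`-subgroup, `y` a `p`-element of `N(H)`, `d ∈ D` with `d⁻¹ y d ∈ N(H)`. Then `d = d₁ d₂` with
`d₁ ∈ C_D(y)`, `d₂ ∈ C_D(H)`. -/
theorem factor_of_conj_mem_normalizer {G : Type*} [Group G] [Finite G] {p : ℕ}
    [hp : Fact p.Prime] (H : Subgroup G) (hH : IsPGroup p H) (D : Subgroup G) [hDn : D.Normal]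
    (hD : (Nat.card D).Coprime p) (y : G) (hy : y ∈ Subgroup.normalizer (H : Set G))
    (hyo : ∃ k : ℕ, orderOf y = p ^ k) (d : G) (hd : d ∈ D)
    (hdy : d⁻¹ * y * d ∈ Subgroup.normalizer (H : Set G)) :
    ∃ d₁ ∈ D ⊓ Subgroup.centralizer ({y} : Set G),
      ∃ d₂ ∈ D ⊓ Subgroup.centralizer (H : Set G), d = d₁ * d₂ := by
  set N := Subgroup.normalizer (H : Set G) with hN
  set D₁ := D ⊓ N with hD₁
  have hD₁C : ∀ r ∈ D₁, r ∈ Subgroup.centralizer (H : Set G) := by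
    intro r hr
    rw [Subgroup.mem_centralizer_iff]
    intro h hh
    have h1 : r * h * r⁻¹ * h⁻¹ ∈ H :=
      H.mul_mem ((Subgroup.mem_normalizer_iff.1 hr.2 h).1 hh) (H.inv_mem hh)
    have h2 : r * h * r⁻¹ * h⁻¹ ∈ D := by
      have : r * (h * r⁻¹ * h⁻¹) ∈ D := D.mul_mem hr.1 (hDn.conj_mem _ (D.inv_mem hr.1) h)
      have e : r * h * r⁻¹ * h⁻¹ = r * (h * r⁻¹ * h⁻¹) := by group
      rw [e]; exact this
    have h3 := eq_one_of_mem_pgroup_of_mem_coprime hH hD h1 h2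
    calc h * r = (r * h * r⁻¹ * h⁻¹)⁻¹ * (r * h) := by group
      _ = r * h := by rw [h3]; group
  set A := Subgroup.zpowers y with hA
  have hAp : IsPGroup p A := by
    obtain ⟨k, hk⟩ := hyo
    apply IsPGroup.of_card (n := k)
    rw [Nat.card_zpowers, hk]
  have hAM : ∀ a ∈ A, a ∈ N ∧ d⁻¹ * a * d ∈ N := by
    have : A ≤ N ⊓ N.comap (MulAut.conj d⁻¹).toMonoidHom := by
      rw [hA, Subgroup.zpowers_le]
      refine Subgroup.mem_inf.2 ⟨hy, ?_⟩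
      rw [Subgroup.mem_comap]
      simpa using hdy
    intro a ha
    have := Subgroup.mem_inf.1 (this ha)
    refine ⟨this.1, ?_⟩
    have h2 := this.2
    rw [Subgroup.mem_comap] at h2
    simpa using h2
  set S : Set G := {z : G | ∃ r ∈ D₁, z = r * d⁻¹} with hS
  have hinv : ∀ a ∈ A, ∀ z ∈ S, a * z * a⁻¹ ∈ S := by
    rintro a ha z ⟨r, hr, rfl⟩
    obtain ⟨haN, hadN⟩ := hAM a ha
    refine ⟨(a * r * a⁻¹) * (a * d⁻¹ * a⁻¹ * d), ?_, by group⟩
    apply D₁.mul_mem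
    · refine ⟨hDn.conj_mem _ hr.1 a, ?_⟩
      exact N.mul_mem (N.mul_mem haN hr.2) (N.inv_mem haN)
    · refine ⟨?_, ?_⟩
      · exact D.mul_mem (hDn.conj_mem _ (D.inv_mem hd) a) hd
      · have e : a * d⁻¹ * a⁻¹ * d = a * (d⁻¹ * a * d)⁻¹ := by group
        rw [e]
        exact N.mul_mem haN (N.inv_mem hadN)
  have hcard : ¬ p ∣ Nat.card ↥S := by
    rw [hS, card_rightCoset]
    intro hdvd
    have h1 : Nat.card D₁ ∣ Nat.card D := Subgroup.card_dvd_of_le inf_le_left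
    have := Nat.dvd_gcd (hdvd.trans h1) (dvd_refl p)
    rw [hD.gcd_eq_one] at this
    exact hp.out.one_lt.ne' (Nat.dvd_one.1 this)
  obtain ⟨z, ⟨r, hr, rfl⟩, hfix⟩ := exists_fixed_of_invariant hAp S hinv hcard
  have hyA : y ∈ A := Subgroup.mem_zpowers y
  have hfy := hfix y hyA
  refine ⟨d * r⁻¹, Subgroup.mem_inf.2 ⟨D.mul_mem hd (D.inv_mem hr.1), ?_⟩, r,
    Subgroup.mem_inf.2 ⟨hr.1, hD₁C r hr⟩, by group⟩
  rw [Subgroup.mem_centralizer_iff]
  intro w hw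
  rw [Set.mem_singleton_iff] at hw
  subst hw
  have h1 : w * (r * d⁻¹) = (r * d⁻¹) * w := by
    calc w * (r * d⁻¹) = (w * (r * d⁻¹) * w⁻¹) * w := by group
      _ = (r * d⁻¹) * w := by rw [hfy]
  have h2 : d * r⁻¹ = (r * d⁻¹)⁻¹ := by group
  rw [h2]
  calc w * (r * d⁻¹)⁻¹ = (r * d⁻¹)⁻¹ * ((r * d⁻¹) * w) * (r * d⁻¹)⁻¹ := by group
    _ = (r * d⁻¹)⁻¹ * (w * (r * d⁻¹)) * (r * d⁻¹)⁻¹ := by rw [h1]
    _ = (r * d⁻¹)⁻¹ * w := by group

theorem pPrimeCore_le_pPrimePCore {G : Type*} [Group G] (p : ℕ) :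
    Cfsg.pPrimeCore p G ≤ Cfsg.pPrimePCore p G := by
  intro d hd
  unfold Cfsg.pPrimePCore
  rw [Subgroup.mem_comap]
  have : QuotientGroup.mk' (Cfsg.pPrimeCore p G) d = 1 := by
    rw [← MonoidHom.mem_ker, ker_mk_pPrimeCore]; exact hd
  rw [this]
  exact Subgroup.one_mem _

/-- `O_{p',p}(G) = (P ∩ O_{p',p}(G)) O_{p'}(G)` elementwise. -/
theorem pPrimePCore_eq_mul {G : Type*} [Group G] [Finite G] {p : ℕ} [hp : Fact p.Prime]
    (P : Sylow p G) {v : G} (hv : v ∈ Cfsg.pPrimePCore p G) :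
    ∃ s ∈ (P : Subgroup G) ⊓ Cfsg.pPrimePCore p G, ∃ d ∈ Cfsg.pPrimeCore p G, v = s * d := by
  have hsurj : Function.Surjective (QuotientGroup.mk' (Cfsg.pPrimeCore p G)) :=
    QuotientGroup.mk'_surjective _
  have h1 : QuotientGroup.mk' (Cfsg.pPrimeCore p G) v ∈ Cfsg.pCore p (G ⧸ Cfsg.pPrimeCore p G) := hv
  have h2 := Cfsg.Agent.helper1.pCore_le_sylow (P.mapSurjective hsurj) h1
  have h3 : QuotientGroup.mk' (Cfsg.pPrimeCore p G) v ∈
      (P : Subgroup G).map (QuotientGroup.mk' (Cfsg.pPrimeCore p G)) := by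
    rw [← Sylow.coe_mapSurjective hsurj P]; exact h2
  obtain ⟨s, hs, hsv⟩ := h3
  have h4 : s⁻¹ * v ∈ Cfsg.pPrimeCore p G := by
    rw [← ker_mk_pPrimeCore p, MonoidHom.mem_ker, map_mul, map_inv, hsv]
    group
  have h5 : s ∈ Cfsg.pPrimePCore p G := by
    have e : s = v * (s⁻¹ * v)⁻¹ := by group
    rw [e]
    exact Subgroup.mul_mem _ hv (Subgroup.inv_mem _ (pPrimeCore_le_pPrimePCore p h4))
  exact ⟨s, Subgroup.mem_inf.2 ⟨hs, h5⟩, s⁻¹ * v, h4, by group⟩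

theorem sylow_le_normalizer_inf_normal {G : Type*} [Group G] {p : ℕ} (P : Sylow p G)
    (V : Subgroup G) [hV : V.Normal] :
    (P : Subgroup G) ≤ Subgroup.normalizer (((P : Subgroup G) ⊓ V : Subgroup G) : Set G) := by
  intro s hs
  rw [Subgroup.mem_normalizer_iff]
  intro h
  constructor
  · intro hh
    have hh' := Subgroup.mem_inf.1 hh
    exact Subgroup.mem_inf.2 ⟨Subgroup.mul_mem _ (Subgroup.mul_mem _ hs hh'.1) (Subgroup.inv_mem _ hs),
      hV.conj_mem _ hh'.2 s⟩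
  · intro hh
    have hh' := Subgroup.mem_inf.1 hh
    have e : h = s⁻¹ * (s * h * s⁻¹) * s⁻¹⁻¹ := by group
    rw [e]
    exact Subgroup.mem_inf.2 ⟨Subgroup.mul_mem _ (Subgroup.mul_mem _ (Subgroup.inv_mem _ hs) hh'.1)
      (Subgroup.inv_mem _ (Subgroup.inv_mem _ hs)), hV.conj_mem _ hh'.2 s⁻¹⟩

/-- Frattini: `G = N_G(P ∩ O_{p',p}(G)) O_{p'}(G)`, elementwise. -/
theorem frattini_pPrimePCore {G : Type*} [Group G] [Finite G] {p : ℕ} [hp : Fact p.Prime]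
    (P : Sylow p G) (g : G) :
    ∃ n ∈ Subgroup.normalizer (((P : Subgroup G) ⊓ Cfsg.pPrimePCore p G : Subgroup G) : Set G),
      ∃ d ∈ Cfsg.pPrimeCore p G, g = n * d := by
  have hV : (Cfsg.pPrimePCore p G).Normal := pPrimePCore_normal p
  have hFr := Cfsg.Agent.helper19.frattini_inf P (Cfsg.pPrimePCore p G)
  have hg : g ∈ Subgroup.normalizer (((P : Subgroup G) ⊓ Cfsg.pPrimePCore p G : Subgroup G) : Set G) ⊔
      Cfsg.pPrimePCore p G := by rw [hFr]; exact Subgroup.mem_top g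
  rw [Subgroup.mem_sup_of_normal_right] at hg
  obtain ⟨n, hn, v, hv, rfl⟩ := hg
  obtain ⟨s, hs, d, hd, rfl⟩ := pPrimePCore_eq_mul P hv
  refine ⟨n * s, Subgroup.mul_mem _ hn ?_, d, hd, by group⟩
  exact Subgroup.le_normalizer hs

end Cfsg.Agent.helper10
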