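import Mathlib
import Cfsg.Prelude.Def_Local
import Cfsg.Agent.Lib_helper3_PStab
import Cfsg.Agent.Lib_helper3_ZJAb
import Cfsg.Agent.Lib_helper10_PPrimeP

/-! `p`-constrained `p`-stable groups: reduction to `O_{p'}(G) = 1` and the ZJ-theorem (helper3). -/

set_option autoImplicit false

namespace Cfsg.Agent.helper3

open Cfsg
open scoped commutatorElement

section frattini

variable {G : Type*} [Group G]

/-- Frattini argument: if `K` is a normal `p'`-subgroup, `Z` a `p`-subgroup and `KZ ⊴ G` then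
`G = N_G(Z) K`. -/
theorem normalizer_sup_eq_top_of_normal_sup [Finite G] {p : ℕ} [Fact p.Prime] (K : Subgroup G)
    [K.Normal] (hK : (Nat.card K).Coprime p) (Z : Subgroup G) (hZ : IsPGroup p Z)
    (hN : (K ⊔ Z).Normal) : Subgroup.normalizer (Z : Set G) ⊔ K = ⊤ := by
  obtain ⟨S, hS⟩ := hZ.exists_le_sylow
  haveI := hN
  have h1 := Cfsg.Agent.helper19.frattini_inf S (K ⊔ Z)
  have h2 : (S : Subgroup G) ⊓ (K ⊔ Z) = Z := by
    apply le_antisymm
    · rintro x ⟨hxS, hxKP⟩
      have hxKP' : x ∈ K ⊔ Z := hxKP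
      rw [Subgroup.mem_sup_of_normal_left] at hxKP'
      obtain ⟨k, hk, y, hy, rfl⟩ := hxKP'
      have hkS : k ∈ (S : Subgroup G) := by
        have : k = (k * y) * y⁻¹ := by group
        rw [this]
        exact (S : Subgroup G).mul_mem hxS ((S : Subgroup G).inv_mem (hS hy))
      have hk1 : k = 1 :=
        Cfsg.Agent.helper10.eq_one_of_mem_pgroup_of_mem_coprime S.isPGroup' hK hkS hk
      rw [hk1, one_mul]
      exact hy
    · exact le_inf hS le_sup_right
  rw [h2] at h1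
  rw [eq_top_iff, ← h1]
  exact sup_le le_sup_left (sup_le le_sup_right (Subgroup.le_normalizer.trans le_sup_left))

/-- For `V ⊴ H` the quotient `N_H(V)/C_H(V)` is `H/C_H(V)`: transport of membership in `O_p`. -/
theorem map_le_pCore_of_normal (p : ℕ) (V : Subgroup G) [V.Normal] (A : Subgroup G)
    (h : (A.subgroupOf (Subgroup.normalizer (V : Set G))).map
          (QuotientGroup.mk' ((Subgroup.centralizer (V : Set G)).subgroupOf
            (Subgroup.normalizer (V : Set G))))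
        ≤ Cfsg.pCore p _) :
    A.map (QuotientGroup.mk' (Subgroup.centralizer (V : Set G))) ≤
      Cfsg.pCore p (G ⧸ Subgroup.centralizer (V : Set G)) := by
  have hNtop : Subgroup.normalizer (V : Set G) = ⊤ := Subgroup.normalizer_eq_top_iff.mpr inferInstance
  let f : ↥(Subgroup.normalizer (V : Set G)) →* G ⧸ Subgroup.centralizer (V : Set G) :=
    (QuotientGroup.mk' (Subgroup.centralizer (V : Set G))).comp (Subgroup.subtype _)
  have hf : Function.Surjective f := by
    intro q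
    obtain ⟨g, rfl⟩ := QuotientGroup.mk'_surjective _ q
    exact ⟨⟨g, by rw [hNtop]; trivial⟩, rfl⟩
  have hker : (Subgroup.centralizer (V : Set G)).subgroupOf (Subgroup.normalizer (V : Set G))
      ≤ f.ker := by
    intro n hn
    rw [Subgroup.mem_subgroupOf] at hn
    rw [MonoidHom.mem_ker]
    show (QuotientGroup.mk' (Subgroup.centralizer (V : Set G))) (n : G) = 1
    rw [QuotientGroup.mk'_apply, QuotientGroup.eq_one_iff]
    exact hn
  have h1 := map_le_pCore_of_factor p _ f hf hker _ h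
  refine le_trans ?_ h1
  rintro _ ⟨a, ha, rfl⟩
  exact ⟨⟨a, by rw [hNtop]; trivial⟩, by rw [SetLike.mem_coe, Subgroup.mem_subgroupOf]; exact ha, rfl⟩

theorem pCore_le_pPrimePCore (p : ℕ) : Cfsg.pCore p G ≤ Cfsg.pPrimePCore p G := by
  intro x hx
  show (QuotientGroup.mk' (Cfsg.pPrimeCore p G)) x ∈ Cfsg.pCore p _
  exact pCore_map_le p (QuotientGroup.mk'_surjective _) ⟨x, hx, rfl⟩

/-- `p`-stability in the sense of `Def_Local` gives `p`-stability of the action on every normal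
`p`-subgroup, for `p`-elements. -/
theorem mk_mem_pCore_of_isPStable {p : ℕ} (hs : Cfsg.IsPStable p G) (V : Subgroup G)
    [V.Normal] (hV : IsPGroup p V) (a : G) (ha : IsPGroup p (Subgroup.zpowers a))
    (hq : ⁅⁅V, Subgroup.zpowers a⁆, Subgroup.zpowers a⁆ = ⊥) :
    (QuotientGroup.mk a : G ⧸ Subgroup.centralizer (V : Set G)) ∈
      Cfsg.pCore p (G ⧸ Subgroup.centralizer (V : Set G)) := by
  have hVn : V.Normal := inferInstance
  have h1 := hs.2.2 (Subgroup.zpowers a) V ha hV (fun b _ x hx => hVn.conj_mem x hx b)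
    ((Cfsg.Agent.helper1.le_pCore hVn hV).trans (pCore_le_pPrimePCore p))
    (by infer_instance) hq
  have h2 := map_le_pCore_of_normal p V _ h1
  exact h2 ⟨a, Subgroup.mem_zpowers a, rfl⟩

end frattini

section constrained

variable {G : Type*} [Group G]

/-- In a `p`-constrained group, `Ḡ = G/O_{p'}(G)` satisfies `C_Ḡ(O_p(Ḡ)) ≤ O_p(Ḡ)`. -/
theorem centralizer_pCore_quotient_le [Finite G] {p : ℕ} [Fact p.Prime]
    (hc : Cfsg.IsPConstrained p G) :
    Subgroup.centralizer (Cfsg.pCore p (G ⧸ Cfsg.pPrimeCore p G) : Set (G ⧸ Cfsg.pPrimeCore p G)) ≤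
      Cfsg.pCore p (G ⧸ Cfsg.pPrimeCore p G) := by
  have hp : p.Prime := Fact.out
  have hKcop := Cfsg.Agent.helper7.pPrimeCore_coprime (G := G) hp
  haveI hLn : (Cfsg.pPrimePCore p G).Normal := Cfsg.Agent.helper7.pPrimePCore_normal p
  let P : Sylow p G := default
  have hcR : Subgroup.centralizer (((P : Subgroup G) ⊓ Cfsg.pPrimePCore p G : Subgroup G) : Set G) ≤
      Cfsg.pPrimePCore p G := by
    have hpg : IsPGroup p ↥(((P : Subgroup G) ⊓ Cfsg.pPrimePCore p G).subgroupOf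
        (Cfsg.pPrimePCore p G)) := IsPGroup.comap_subtype (P.isPGroup'.to_inf_left)
    have hidx : ¬ p ∣ (((P : Subgroup G) ⊓ Cfsg.pPrimePCore p G).subgroupOf
        (Cfsg.pPrimePCore p G)).index := Cfsg.Agent.helper19.sylow_inf_normal_not_dvd P _
    have h := hc (hpg.toSylow hidx)
    rw [IsPGroup.toSylow_coe, Subgroup.map_subgroupOf_eq_of_le inf_le_right] at h
    exact h
  intro xb hxb
  obtain ⟨x, rfl⟩ := QuotientGroup.mk'_surjective _ xb
  obtain ⟨n, hn, d, hd, rfl⟩ := Cfsg.Agent.helper10.frattini_pPrimePCore P x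
  have hd1 : (QuotientGroup.mk' (Cfsg.pPrimeCore p G)) d = 1 := (QuotientGroup.eq_one_iff d).2 hd
  have hnd : (QuotientGroup.mk' (Cfsg.pPrimeCore p G)) (n * d) =
      (QuotientGroup.mk' (Cfsg.pPrimeCore p G)) n := by
    rw [map_mul, hd1, mul_one]
  rw [hnd] at hxb ⊢
  have hnC : n ∈ Subgroup.centralizer
      (((P : Subgroup G) ⊓ Cfsg.pPrimePCore p G : Subgroup G) : Set G) := by
    rw [Subgroup.mem_centralizer_iff]
    intro r hr
    have hcR' : n * r * n⁻¹ * r⁻¹ ∈ (P : Subgroup G) ⊓ Cfsg.pPrimePCore p G :=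
      Subgroup.mul_mem _ ((Subgroup.mem_normalizer_iff.1 hn r).1 hr) (Subgroup.inv_mem _ hr)
    have hcK : n * r * n⁻¹ * r⁻¹ ∈ Cfsg.pPrimeCore p G := by
      rw [← QuotientGroup.eq_one_iff]
      have hrb : (QuotientGroup.mk' (Cfsg.pPrimeCore p G)) r ∈
          Cfsg.pCore p (G ⧸ Cfsg.pPrimeCore p G) := hr.2
      have h2 := Subgroup.mem_centralizer_iff.1 hxb _ hrb
      show (QuotientGroup.mk' (Cfsg.pPrimeCore p G)) (n * r * n⁻¹ * r⁻¹) = 1
      rw [map_mul, map_mul, map_mul, map_inv, map_inv, ← h2]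
      group
    have h1 : n * r * n⁻¹ * r⁻¹ = 1 :=
      Cfsg.Agent.helper10.eq_one_of_mem_pgroup_of_mem_coprime (P.isPGroup'.to_inf_left) hKcop
        hcR' hcK
    calc r * n = (n * r * n⁻¹ * r⁻¹)⁻¹ * (n * r) := by group
      _ = n * r := by rw [h1]; group
  exact hcR hnC

end constrained

section mapInj

variable {G H : Type*} [Group G] [Group H]

theorem card_map_of_injOn (f : G →* H) {P A : Subgroup G} (hinj : ∀ x ∈ P, f x = 1 → x = 1)
    (hA : A ≤ P) : Nat.card (A.map f) = Nat.card A := by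
  have hi : Function.Injective (f.subgroupMap A) := by
    rw [injective_iff_map_eq_one]
    intro a ha
    have h1 : f (a : G) = 1 := congrArg Subtype.val ha
    exact Subtype.ext (hinj _ (hA a.2) h1)
  exact (Nat.card_congr (Equiv.ofBijective _ ⟨hi, f.subgroupMap_surjective A⟩)).symm

theorem eq_of_map_eq_of_injOn (f : G →* H) {P : Subgroup G} (hinj : ∀ x ∈ P, f x = 1 → x = 1)
    {x y : G} (hx : x ∈ P) (hy : y ∈ P) (h : f x = f y) : x = y := by
  have h1 : f (x * y⁻¹) = 1 := by rw [map_mul, map_inv, h, mul_inv_cancel]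
  have h2 := hinj _ (P.mul_mem hx (P.inv_mem hy)) h1
  exact mul_inv_eq_one.mp h2

theorem isMulCommutative_comap_inf (f : G →* H) {P : Subgroup G}
    (hinj : ∀ x ∈ P, f x = 1 → x = 1) (B : Subgroup H) (hB : IsMulCommutative B) :
    IsMulCommutative ↥(B.comap f ⊓ P) := by
  refine ⟨⟨fun x y => ?_⟩⟩
  apply Subtype.ext
  show (x : G) * (y : G) = (y : G) * (x : G)
  apply eq_of_map_eq_of_injOn f hinj (P.mul_mem x.2.2 y.2.2) (P.mul_mem y.2.2 x.2.2)
  rw [map_mul, map_mul]
  exact congrArg Subtype.val (hB.is_comm.comm (⟨f x, x.2.1⟩ : B) ⟨f y, y.2.1⟩)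

theorem map_comap_inf_eq (f : G →* H) {P : Subgroup G} {B : Subgroup H} (hB : B ≤ P.map f) :
    (B.comap f ⊓ P).map f = B := by
  apply le_antisymm
  · rintro _ ⟨x, ⟨hx, _⟩, rfl⟩
    exact hx
  · intro y hy
    obtain ⟨x, hx, rfl⟩ := hB hy
    exact ⟨x, ⟨hy, hx⟩, rfl⟩

theorem isMaxAbIn_map (f : G →* H) {P A : Subgroup G} (hinj : ∀ x ∈ P, f x = 1 → x = 1)
    (hA : IsMaxAbIn P A) : IsMaxAbIn (P.map f) (A.map f) := by
  haveI := hA.2.1
  refine ⟨Subgroup.map_mono hA.1, Subgroup.map_isMulCommutative _ _, fun B hBP hB => ?_⟩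
  rw [card_map_of_injOn f hinj hA.1, ← map_comap_inf_eq f hBP,
    card_map_of_injOn f hinj inf_le_right]
  exact hA.2.2 _ inf_le_right (isMulCommutative_comap_inf f hinj B hB)

theorem isMaxAbIn_comap (f : G →* H) {P : Subgroup G} {B : Subgroup H}
    (hinj : ∀ x ∈ P, f x = 1 → x = 1)
    (hB : IsMaxAbIn (P.map f) B) : IsMaxAbIn P (B.comap f ⊓ P) := by
  refine ⟨inf_le_right, isMulCommutative_comap_inf f hinj B hB.2.1, fun A hAP hA => ?_⟩
  haveI := hA
  rw [← card_map_of_injOn f hinj (inf_le_right : B.comap f ⊓ P ≤ P), map_comap_inf_eq f hB.1,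
    ← card_map_of_injOn f hinj hAP]
  exact hB.2.2 _ (Subgroup.map_mono hAP) (Subgroup.map_isMulCommutative _ _)

/-- `Z(J(P))` commutes with homomorphisms injective on `P`. -/
theorem zjI_famAb_map [Finite G] (f : G →* H) {P : Subgroup G}
    (hinj : ∀ x ∈ P, f x = 1 → x = 1) :
    zjI famAb (P.map f) = (zjI famAb P).map f := by
  apply le_antisymm
  · intro y hy
    obtain ⟨A₀, hA₀⟩ := exists_isMaxAbIn P
    have h0 : y ∈ A₀.map f := zjI_le_of_mem (isMaxAbIn_map f hinj hA₀) hy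
    obtain ⟨a₀, ha₀, rfl⟩ := h0
    refine ⟨a₀, ?_, rfl⟩
    apply le_zjI (X := Subgroup.zpowers a₀) _ (Subgroup.mem_zpowers a₀)
    intro A hA
    rw [Subgroup.zpowers_le]
    have h1 : f a₀ ∈ A.map f := zjI_le_of_mem (isMaxAbIn_map f hinj hA) hy
    obtain ⟨a, ha, hfa⟩ := h1
    have := eq_of_map_eq_of_injOn f hinj (hA.1 ha) (hA₀.1 ha₀) hfa
    rw [← this]; exact ha
  · rintro _ ⟨x, hx, rfl⟩
    apply le_zjI (X := Subgroup.zpowers (f x)) _ (Subgroup.mem_zpowers _)
    intro B hB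
    rw [Subgroup.zpowers_le]
    have h1 : x ∈ B.comap f ⊓ P := zjI_le_of_mem (isMaxAbIn_comap f hinj hB) hx
    exact h1.1

theorem centerThompsonAOf_map [Finite G] [Finite H] (f : G →* H) {P : Subgroup G}
    (hinj : ∀ x ∈ P, f x = 1 → x = 1) :
    Cfsg.centerThompsonAOf (P.map f) = (Cfsg.centerThompsonAOf P).map f := by
  rw [centerThompsonAOf_eq_zjI, centerThompsonAOf_eq_zjI, zjI_famAb_map f hinj]

end mapInj

end Cfsg.Agent.helper3
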