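import Mathlib
import Cfsg.Agent.Lib_helper3_EA
import Cfsg.Agent.Lib_helper3_Basic

/-! The Thompson subgroup of a subgroup, described inside the ambient group (helper3). -/

set_option autoImplicit false

namespace Cfsg.Agent.helper3

open Cfsg

variable {G : Type*} [Group G]

/-- `A` is an elementary abelian subgroup of `S` of largest order (all inside the ambient group). -/
def IsMaxEAIn (p : ℕ) (S A : Subgroup G) : Prop :=
  A ≤ S ∧ Cfsg.IsElementaryAbelian p A ∧
    ∀ B : Subgroup G, B ≤ S → Cfsg.IsElementaryAbelian p B → Nat.card B ≤ Nat.card A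

theorem isMaxEAIn_map_subtype {p : ℕ} {S : Subgroup G} {A' : Subgroup S}
    (hA : A' ∈ Cfsg.maxElementaryAbelianSubgroups p S) : IsMaxEAIn p S (A'.map S.subtype) := by
  refine ⟨Subgroup.map_subtype_le _, ea_map hA.1 _, fun B hBS hB => ?_⟩
  have h1 : Nat.card (B.subgroupOf S) = Nat.card B :=
    Nat.card_congr (Subgroup.subgroupOfEquivOfLe hBS).toEquiv
  rw [Subgroup.card_subtype, ← h1]
  exact hA.2 _ (ea_subgroupOf hB S)

theorem subgroupOf_mem_maxEA {p : ℕ} {S A : Subgroup G} (hA : IsMaxEAIn p S A) :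
    A.subgroupOf S ∈ Cfsg.maxElementaryAbelianSubgroups p S := by
  refine ⟨ea_subgroupOf hA.2.1 S, fun B' hB' => ?_⟩
  have h1 : Nat.card (A.subgroupOf S) = Nat.card A :=
    Nat.card_congr (Subgroup.subgroupOfEquivOfLe hA.1).toEquiv
  rw [h1, ← Subgroup.card_subtype S B']
  exact hA.2.2 _ (Subgroup.map_subtype_le _) (ea_map hB' _)

theorem thompsonSubgroupOf_eq_sSup (p : ℕ) (S : Subgroup G) :
    Cfsg.thompsonSubgroupOf p S = sSup {A : Subgroup G | IsMaxEAIn p S A} := by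
  apply le_antisymm
  · unfold Cfsg.thompsonSubgroupOf Cfsg.thompsonSubgroup
    rw [Subgroup.map_le_iff_le_comap]
    apply sSup_le
    intro A' hA'
    rw [← Subgroup.map_le_iff_le_comap]
    exact le_sSup (isMaxEAIn_map_subtype hA')
  · apply sSup_le
    intro A hA
    unfold Cfsg.thompsonSubgroupOf Cfsg.thompsonSubgroup
    rw [← Subgroup.map_subgroupOf_eq_of_le hA.1]
    exact Subgroup.map_mono (le_sSup (subgroupOf_mem_maxEA hA))

theorem thompsonSubgroupOf_le_self (p : ℕ) (S : Subgroup G) : Cfsg.thompsonSubgroupOf p S ≤ S :=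
  Subgroup.map_subtype_le _

theorem exists_isMaxEAIn [Finite G] (p : ℕ) (S : Subgroup G) : ∃ A, IsMaxEAIn p S A := by
  obtain ⟨A', hA'⟩ := exists_maxEA p S
  exact ⟨_, isMaxEAIn_map_subtype hA'⟩

theorem IsMaxEAIn.le_thompsonSubgroupOf {p : ℕ} {S A : Subgroup G} (hA : IsMaxEAIn p S A) :
    A ≤ Cfsg.thompsonSubgroupOf p S := by
  rw [thompsonSubgroupOf_eq_sSup]
  exact le_sSup hA

/-- If `J(S) ≤ U ≤ S` then `J(U) = J(S)`. -/
theorem thompsonSubgroupOf_eq_of_le [Finite G] {p : ℕ} {S U : Subgroup G} (hUS : U ≤ S)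
    (hJU : Cfsg.thompsonSubgroupOf p S ≤ U) :
    Cfsg.thompsonSubgroupOf p U = Cfsg.thompsonSubgroupOf p S := by
  obtain ⟨A₀, hA₀⟩ := exists_isMaxEAIn p S
  have hA₀U : A₀ ≤ U := hA₀.le_thompsonSubgroupOf.trans hJU
  rw [thompsonSubgroupOf_eq_sSup, thompsonSubgroupOf_eq_sSup]
  congr 1
  ext A
  constructor
  · intro hA
    refine ⟨hA.1.trans hUS, hA.2.1, fun B hBS hB => ?_⟩
    exact (hA₀.2.2 B hBS hB).trans (hA.2.2 A₀ hA₀U hA₀.2.1)
  · intro hA
    refine ⟨hA.le_thompsonSubgroupOf.trans hJU, hA.2.1, fun B hBU hB => ?_⟩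
    exact hA.2.2 B (hBU.trans hUS) hB

theorem IsMaxEAIn.map_equiv {p : ℕ} {S A : Subgroup G} (hA : IsMaxEAIn p S A) (e : G ≃* G) :
    IsMaxEAIn p (S.map e.toMonoidHom) (A.map e.toMonoidHom) := by
  refine ⟨Subgroup.map_mono hA.1, ea_map hA.2.1 _, fun B hBS hB => ?_⟩
  have h1 : Nat.card (A.map e.toMonoidHom) = Nat.card A :=
    Subgroup.card_map_of_injective e.injective
  have h2 : Nat.card (B.map e.symm.toMonoidHom) = Nat.card B :=
    Subgroup.card_map_of_injective e.symm.injective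
  rw [h1, ← h2]
  apply hA.2.2 _ _ (ea_map hB _)
  rintro _ ⟨b, hb, rfl⟩
  obtain ⟨s, hs, hsb⟩ := hBS hb
  have : e.symm b = s := by
    rw [← hsb]; exact e.symm_apply_apply s
  show e.symm b ∈ S
  rw [this]; exact hs

theorem thompsonSubgroupOf_map_le (p : ℕ) (S : Subgroup G) (e : G ≃* G) :
    (Cfsg.thompsonSubgroupOf p S).map e.toMonoidHom ≤
      Cfsg.thompsonSubgroupOf p (S.map e.toMonoidHom) := by
  rw [thompsonSubgroupOf_eq_sSup, Subgroup.map_le_iff_le_comap]
  apply sSup_le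
  intro A hA
  rw [← Subgroup.map_le_iff_le_comap]
  exact (hA.map_equiv e).le_thompsonSubgroupOf

/-- The normalizer of `S` normalizes `J(S)`. -/
theorem normalizer_le_normalizer_thompsonSubgroupOf [Finite G] (p : ℕ) (S : Subgroup G) :
    Subgroup.normalizer (S : Set G) ≤ Subgroup.normalizer (Cfsg.thompsonSubgroupOf p S : Set G) := by
  intro g hg
  have h1 : S.map (MulAut.conj g).toMonoidHom = S :=
    Subgroup.mem_normalizer_iff_map_conj_eq.mp hg
  have h2 := thompsonSubgroupOf_map_le p S (MulAut.conj g)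
  rw [h1] at h2
  rw [Subgroup.mem_normalizer_iff_map_conj_eq]
  apply Subgroup.eq_of_le_of_card_ge h2
  exact (Subgroup.card_map_of_injective (MulAut.conj g).injective).ge

end Cfsg.Agent.helper3
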