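import Mathlib
import Cfsg.Prelude.Def_TwoFusion
import Cfsg.Agent.Lib_helper3_ZJ
import Cfsg.Agent.Lib_helper3_ZJAb

/-! Glauberman's ZJ-theorem for strongly closed subgroups (helper3). -/

set_option autoImplicit false

namespace Cfsg.Agent.helper3

open Cfsg
open scoped commutatorElement

variable {G : Type*} [Group G] {𝔄 : Subgroup G → Set (Subgroup G)}

/-- Replacement property for the family in `D ≤ P` (for normal subgroups of the whole group inside
`P`). -/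
def HasReplacementIn (𝔄 : Subgroup G → Set (Subgroup G)) (D P : Subgroup G) : Prop :=
  ∀ B : Subgroup G, B.Normal → B ≤ P → ⁅⁅B, B⁆, B⁆ = ⊥ →
    (∃ U ∈ 𝔄 D, ⁅B, B⁆ ≤ U ∧ ¬ B ≤ U) →
    ∃ A ∈ 𝔄 D, ⁅B, B⁆ ≤ A ∧ ¬ B ≤ A ∧ B ≤ Subgroup.normalizer (A : Set G)

theorem stronglyClosed_le_normalizer {D P : Subgroup G} (hD : Cfsg.IsStronglyClosed D P) :
    P ≤ Subgroup.normalizer (D : Set G) := by
  have key : ∀ g ∈ P, ∀ x ∈ D, g * x * g⁻¹ ∈ D := fun g hg x hx =>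
    hD.2 x hx g (P.mul_mem (P.mul_mem hg (hD.1 hx)) (P.inv_mem hg))
  intro g hg
  rw [Subgroup.mem_normalizer_iff]
  intro x
  refine ⟨key g hg x, fun h => ?_⟩
  have h1 := key g⁻¹ (P.inv_mem hg) _ h
  have e : g⁻¹ * (g * x * g⁻¹) * g⁻¹⁻¹ = x := by group
  rwa [e] at h1

theorem stronglyClosed_normalizer_le {D P : Subgroup G} (hD : Cfsg.IsStronglyClosed D P)
    (L : Subgroup G) [hL : L.Normal] :
    Subgroup.normalizer ((P ⊓ L : Subgroup G) : Set G) ≤
      Subgroup.normalizer ((D ⊓ L : Subgroup G) : Set G) := by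
  have key : ∀ g ∈ Subgroup.normalizer ((P ⊓ L : Subgroup G) : Set G), ∀ x ∈ D ⊓ L,
      g * x * g⁻¹ ∈ D ⊓ L := by
    intro g hg x hx
    have h1 : g * x * g⁻¹ ∈ P ⊓ L :=
      (Subgroup.mem_normalizer_iff.mp hg x).mp ⟨hD.1 hx.1, hx.2⟩
    exact ⟨hD.2 x hx.1 g h1.1, h1.2⟩
  intro g hg
  rw [Subgroup.mem_normalizer_iff]
  intro x
  refine ⟨key g hg x, fun h => ?_⟩
  have h1 := key g⁻¹ (Subgroup.inv_mem _ hg) _ h
  have e : g⁻¹ * (g * x * g⁻¹) * g⁻¹⁻¹ = x := by group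
  rwa [e] at h1

theorem zjID_inf_normal_aux [Finite G] {p : ℕ} [Fact p.Prime] (h𝔄 : ZJFamily 𝔄) (P : Sylow p G)
    (D : Subgroup G) (hD : Cfsg.IsStronglyClosed D (P : Subgroup G))
    (hrep : HasReplacementIn 𝔄 D (P : Subgroup G))
    (hst : ∀ (V : Subgroup G) [V.Normal], IsPGroup p V → ∀ a ∈ (P : Subgroup G),
      ⁅⁅V, Subgroup.zpowers a⁆, Subgroup.zpowers a⁆ = ⊥ →
        (QuotientGroup.mk a : G ⧸ Subgroup.centralizer (V : Set G)) ∈
          Cfsg.pCore p (G ⧸ Subgroup.centralizer (V : Set G))) :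
    ∀ (n : ℕ) (B : Subgroup G), B.Normal → IsPGroup p B → Nat.card B = n →
      (zjI 𝔄 D ⊓ B).Normal := by
  intro n
  induction n using Nat.strong_induction_on with
  | _ n ih =>
  intro B hBn hBp hcard
  by_contra hnot
  haveI := hBn
  have hBP : B ≤ (P : Subgroup G) := hBp.le_sylow_of_normal P
  have hZP : (P : Subgroup G) ≤ Subgroup.normalizer (zjI 𝔄 D : Set G) :=
    (stronglyClosed_le_normalizer hD).trans (normalizer_le_normalizer_zjI h𝔄 _)
  have hZcomm := zjI_comm h𝔄 D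
  have hBne : B ≠ ⊥ := by
    rintro rfl
    apply hnot
    rw [inf_bot_eq]; infer_instance
  -- `B` is the normal closure of `Z ⊓ B`
  have hcl : Subgroup.normalClosure ((zjI 𝔄 D ⊓ B : Subgroup G) : Set G) = B := by
    by_contra hne
    have hle : Subgroup.normalClosure ((zjI 𝔄 D ⊓ B : Subgroup G) : Set G) ≤ B :=
      Subgroup.normalClosure_le_normal (fun x hx => hx.2)
    have hlt := lt_of_le_of_ne hle hne
    have hc := card_lt_of_lt' hlt
    rw [hcard] at hc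
    have h1 := ih _ hc _ Subgroup.normalClosure_normal (hBp.to_le hle) rfl
    have heq : zjI 𝔄 D ⊓
        Subgroup.normalClosure ((zjI 𝔄 D ⊓ B : Subgroup G) : Set G) =
        zjI 𝔄 D ⊓ B :=
      le_antisymm (inf_le_inf_left _ hle) (le_inf inf_le_left Subgroup.le_normalClosure)
    rw [heq] at h1
    exact hnot h1
  have hB'lt : ⁅B, B⁆ < B := commutator_lt_of_isPGroup hBp hBne
  have hB'n : (⁅B, B⁆).Normal := inferInstance
  have hB'c := card_lt_of_lt' hB'lt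
  rw [hcard] at hB'c
  have hZB'n : (zjI 𝔄 D ⊓ ⁅B, B⁆).Normal :=
    ih _ hB'c _ hB'n (hBp.to_le hB'lt.le) rfl
  have h1 : ∀ x ∈ zjI 𝔄 D ⊓ B, ∀ b ∈ B,
      x * b * x⁻¹ * b⁻¹ ∈ zjI 𝔄 D ⊓ ⁅B, B⁆ := by
    intro x hx b hb
    refine ⟨?_, ?_⟩
    · have hbN := hZP (hBP hb)
      have h : b * x⁻¹ * b⁻¹ ∈ zjI 𝔄 D :=
        (Subgroup.mem_normalizer_iff.mp hbN x⁻¹).mp (Subgroup.inv_mem _ hx.1)
      have e : x * b * x⁻¹ * b⁻¹ = x * (b * x⁻¹ * b⁻¹) := by group
      rw [e]; exact Subgroup.mul_mem _ hx.1 h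
    · have h := Subgroup.commutator_mem_commutator hx.2 hb
      rwa [commutatorElement_def] at h
  haveI := hZB'n
  have h2 := normalClosure_comm_le (X := zjI 𝔄 D ⊓ B) (B := B)
    (N := zjI 𝔄 D ⊓ ⁅B, B⁆) h1
  rw [hcl] at h2
  have hB'Z : ⁅B, B⁆ ≤ zjI 𝔄 D := by
    rw [Subgroup.commutator_le]
    intro x hx b hb
    rw [commutatorElement_def]
    exact (h2 x hx b hb).1
  have h3 : ∀ x ∈ zjI 𝔄 D ⊓ B, ∀ c ∈ ⁅B, B⁆,
      x * c * x⁻¹ * c⁻¹ ∈ (⊥ : Subgroup G) := by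
    intro x hx c hc
    rw [Subgroup.mem_bot]
    have h := hZcomm x hx.1 c (hB'Z hc)
    rw [h]; group
  have h4 := normalClosure_comm_le (X := zjI 𝔄 D ⊓ B) (B := ⁅B, B⁆)
    (N := ⊥) h3
  rw [hcl] at h4
  have hclass : ⁅⁅B, B⁆, B⁆ = ⊥ := by
    rw [eq_bot_iff, Subgroup.commutator_le]
    intro c hc x hx
    have h := h4 x hx c hc
    rw [Subgroup.mem_bot] at h ⊢
    rw [commutatorElement_def]
    have hxc : x * c = c * x := by
      calc x * c = (x * c * x⁻¹ * c⁻¹) * (c * x) := by group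
        _ = c * x := by rw [h, one_mul]
    rw [← hxc]; group
  have hBZ : ¬ B ≤ zjI 𝔄 D := by
    intro h
    apply hnot
    rw [inf_eq_right.mpr h]; exact hBn
  obtain ⟨U, hU, hBU⟩ : ∃ U ∈ 𝔄 D, ¬ B ≤ U := by
    by_contra hcon
    push Not at hcon
    exact hBZ (le_zjI hcon)
  obtain ⟨A, hA, hB'A, hBA, hBNA⟩ :=
    hrep B hBn hBP hclass ⟨U, hU, hB'Z.trans (zjI_le_of_mem hU), hBU⟩
  have hquad : ∀ a ∈ A, ⁅⁅B, Subgroup.zpowers a⁆, Subgroup.zpowers a⁆ = ⊥ := by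
    intro a ha
    have hza : Subgroup.zpowers a ≤ A := by rw [Subgroup.zpowers_le]; exact ha
    have h5 : ⁅B, Subgroup.zpowers a⁆ ≤ A := by
      rw [Subgroup.commutator_le]
      intro b hb z hz
      rw [commutatorElement_def]
      have hzA := hza hz
      have h : b * z * b⁻¹ ∈ A := (Subgroup.mem_normalizer_iff.mp (hBNA hb) z).mp hzA
      exact A.mul_mem h (A.inv_mem hzA)
    rw [eq_bot_iff, Subgroup.commutator_le]
    intro x hx z hz
    rw [Subgroup.mem_bot, commutatorElement_def]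
    have h := h𝔄.comm hA x (h5 hx) z (hza hz)
    rw [h]; group
  haveI hLn : ((Cfsg.pCore p (G ⧸ Subgroup.centralizer (B : Set G))).comap
      (QuotientGroup.mk' (Subgroup.centralizer (B : Set G)))).Normal := by
    haveI := Cfsg.Agent.helper1.pCore_normal (G := G ⧸ Subgroup.centralizer (B : Set G)) p
    infer_instance
  have hAL : A ≤ (Cfsg.pCore p (G ⧸ Subgroup.centralizer (B : Set G))).comap
      (QuotientGroup.mk' (Subgroup.centralizer (B : Set G))) :=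
    fun a ha => hst B hBp a (hD.1 (h𝔄.le hA ha)) (hquad a ha)
  have hLle := comap_pCore_le P (Subgroup.centralizer (B : Set G))
  have hfr := Cfsg.Agent.helper19.frattini_inf P
    ((Cfsg.pCore p (G ⧸ Subgroup.centralizer (B : Set G))).comap
      (QuotientGroup.mk' (Subgroup.centralizer (B : Set G))))
  generalize hLdef : (Cfsg.pCore p (G ⧸ Subgroup.centralizer (B : Set G))).comap
      (QuotientGroup.mk' (Subgroup.centralizer (B : Set G))) = L at hAL hLle hfr hLn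
  have hN1 : Subgroup.normalizer (((P : Subgroup G) ⊓ L : Subgroup G) : Set G) ≤
      Subgroup.normalizer ((zjI 𝔄 (D ⊓ L) ⊓ B : Subgroup G) : Set G) := by
    intro g hg
    have hg1 := normalizer_le_normalizer_zjI h𝔄 (D ⊓ L) (stronglyClosed_normalizer_le hD L hg)
    rw [Subgroup.mem_normalizer_iff] at hg1 ⊢
    intro x
    constructor
    · rintro ⟨hx1, hx2⟩
      exact ⟨(hg1 x).mp hx1, hBn.conj_mem x hx2 g⟩
    · rintro ⟨hx1, hx2⟩
      refine ⟨(hg1 x).mpr hx1, ?_⟩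
      have h := hBn.conj_mem _ hx2 g⁻¹
      have e : g⁻¹ * (g * x * g⁻¹) * g⁻¹⁻¹ = x := by group
      rwa [e] at h
  have hN2 : Subgroup.centralizer (B : Set G) ≤
      Subgroup.normalizer ((zjI 𝔄 (D ⊓ L) ⊓ B : Subgroup G) : Set G) := by
    intro c hc
    rw [Subgroup.mem_normalizer_iff]
    intro x
    constructor
    · intro hx
      have h : c * x * c⁻¹ = x := by
        have h' := Subgroup.mem_centralizer_iff.mp hc x hx.2
        rw [← h']; group
      rwa [h]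
    · intro hx
      have hxB : x ∈ B := by
        have h := hBn.conj_mem _ hx.2 c⁻¹
        have e : c⁻¹ * (c * x * c⁻¹) * c⁻¹⁻¹ = x := by group
        rwa [e] at h
      have h : c * x * c⁻¹ = x := by
        have h' := Subgroup.mem_centralizer_iff.mp hc x hxB
        rw [← h']; group
      rwa [h] at hx
  have hN3 : (P : Subgroup G) ⊓ L ≤
      Subgroup.normalizer ((zjI 𝔄 (D ⊓ L) ⊓ B : Subgroup G) : Set G) :=
    Subgroup.le_normalizer.trans hN1
  have htop : Subgroup.normalizer ((zjI 𝔄 (D ⊓ L) ⊓ B : Subgroup G) : Set G) = ⊤ := by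
    rw [eq_top_iff, ← hfr]
    exact sup_le hN1 (hLle.trans (sup_le hN2 hN3))
  haveI hZ₁Bn : (zjI 𝔄 (D ⊓ L) ⊓ B).Normal :=
    Subgroup.normalizer_eq_top_iff.mp htop
  have hAP₁ : A ≤ D ⊓ L := le_inf (h𝔄.le hA) hAL
  obtain ⟨hA₁, hsub⟩ := h𝔄.mono (inf_le_left : D ⊓ L ≤ D) hA hAP₁
  have hZZ₁ : zjI 𝔄 D ⊓ B ≤ zjI 𝔄 (D ⊓ L) ⊓ B := by
    refine le_inf ?_ inf_le_right
    apply le_zjI
    intro A' hA'
    exact inf_le_left.trans (zjI_le_of_mem (hsub hA'))
  have hBZ₁ : B ≤ zjI 𝔄 (D ⊓ L) ⊓ B := by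
    have h : Subgroup.normalClosure ((zjI 𝔄 D ⊓ B : Subgroup G) : Set G) ≤
        zjI 𝔄 (D ⊓ L) ⊓ B := Subgroup.normalClosure_le_normal hZZ₁
    rwa [hcl] at h
  exact hBA ((hBZ₁.trans inf_le_left).trans (zjI_le_of_mem hA₁))

theorem zjID_inf_normal [Finite G] {p : ℕ} [Fact p.Prime] (h𝔄 : ZJFamily 𝔄) (P : Sylow p G)
    (D : Subgroup G) (hD : Cfsg.IsStronglyClosed D (P : Subgroup G))
    (hrep : HasReplacementIn 𝔄 D (P : Subgroup G))
    (hst : ∀ (V : Subgroup G) [V.Normal], IsPGroup p V → ∀ a ∈ (P : Subgroup G),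
      ⁅⁅V, Subgroup.zpowers a⁆, Subgroup.zpowers a⁆ = ⊥ →
        (QuotientGroup.mk a : G ⧸ Subgroup.centralizer (V : Set G)) ∈
          Cfsg.pCore p (G ⧸ Subgroup.centralizer (V : Set G)))
    (B : Subgroup G) [hB : B.Normal] (hBp : IsPGroup p B) :
    (zjI 𝔄 D ⊓ B).Normal :=
  zjID_inf_normal_aux h𝔄 P D hD hrep hst _ B hB hBp rfl

theorem zjID_le_pCore [Finite G] {p : ℕ} [Fact p.Prime] (h𝔄 : ZJFamily 𝔄) (P : Sylow p G)
    (D : Subgroup G) (hD : Cfsg.IsStronglyClosed D (P : Subgroup G))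
    (hc : Subgroup.centralizer (Cfsg.pCore p G : Set G) ≤ Cfsg.pCore p G)
    (hst : ∀ (V : Subgroup G) [V.Normal], IsPGroup p V → ∀ a ∈ (P : Subgroup G),
      ⁅⁅V, Subgroup.zpowers a⁆, Subgroup.zpowers a⁆ = ⊥ →
        (QuotientGroup.mk a : G ⧸ Subgroup.centralizer (V : Set G)) ∈
          Cfsg.pCore p (G ⧸ Subgroup.centralizer (V : Set G))) :
    zjI 𝔄 D ≤ Cfsg.pCore p G := by
  haveI hQn := Cfsg.Agent.helper1.pCore_normal (G := G) p
  have hQp := Cfsg.Agent.helper1.pCore_isPGroup (G := G) p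
  have hQP : Cfsg.pCore p G ≤ (P : Subgroup G) := hQp.le_sylow_of_normal P
  have hZP : (P : Subgroup G) ≤ Subgroup.normalizer (zjI 𝔄 D : Set G) :=
    (stronglyClosed_le_normalizer hD).trans (normalizer_le_normalizer_zjI h𝔄 _)
  intro z hz
  have hzZ : Subgroup.zpowers z ≤ zjI 𝔄 D := by
    rw [Subgroup.zpowers_le]; exact hz
  have hquad : ⁅⁅Cfsg.pCore p G, Subgroup.zpowers z⁆, Subgroup.zpowers z⁆ = ⊥ := by
    have h5 : ⁅Cfsg.pCore p G, Subgroup.zpowers z⁆ ≤ zjI 𝔄 D := by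
      rw [Subgroup.commutator_le]
      intro q hq w hw
      rw [commutatorElement_def]
      have h : q * w * q⁻¹ ∈ zjI 𝔄 D :=
        (Subgroup.mem_normalizer_iff.mp (hZP (hQP hq)) w).mp (hzZ hw)
      exact Subgroup.mul_mem _ h (Subgroup.inv_mem _ (hzZ hw))
    rw [eq_bot_iff, Subgroup.commutator_le]
    intro x hx w hw
    rw [Subgroup.mem_bot, commutatorElement_def, zjI_comm h𝔄 _ x (h5 hx) w (hzZ hw)]
    group
  have h1 := hst (Cfsg.pCore p G) hQp z (hD.1 (zjI_le h𝔄 _ hz)) hquad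
  haveI hKn := Cfsg.Agent.helper1.pCore_normal
    (G := G ⧸ Subgroup.centralizer (Cfsg.pCore p G : Set G)) p
  have hKp := Cfsg.Agent.helper1.pCore_isPGroup
    (G := G ⧸ Subgroup.centralizer (Cfsg.pCore p G : Set G)) p
  have hMn : ((Cfsg.pCore p (G ⧸ Subgroup.centralizer (Cfsg.pCore p G : Set G))).comap
      (QuotientGroup.mk' (Subgroup.centralizer (Cfsg.pCore p G : Set G)))).Normal :=
    inferInstance
  have hMp : IsPGroup p ↥((Cfsg.pCore p (G ⧸ Subgroup.centralizer (Cfsg.pCore p G : Set G))).comap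
      (QuotientGroup.mk' (Subgroup.centralizer (Cfsg.pCore p G : Set G)))) := by
    rintro ⟨x, hx⟩
    obtain ⟨k, hk⟩ := hKp ⟨QuotientGroup.mk' _ x, hx⟩
    have hk' : (QuotientGroup.mk' (Subgroup.centralizer (Cfsg.pCore p G : Set G)) x) ^ p ^ k = 1 := by
      have := congrArg Subtype.val hk
      simpa using this
    have hxC : x ^ p ^ k ∈ Subgroup.centralizer (Cfsg.pCore p G : Set G) := by
      rw [← QuotientGroup.eq_one_iff]
      rw [← hk']; rfl
    obtain ⟨j, hj⟩ := hQp ⟨x ^ p ^ k, hc hxC⟩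
    have hj' : (x ^ p ^ k) ^ p ^ j = 1 := by
      have := congrArg Subtype.val hj
      simpa using this
    refine ⟨k + j, ?_⟩
    apply Subtype.ext
    simp only [Subgroup.coe_pow, Subgroup.coe_one]
    rw [pow_add, pow_mul]; exact hj'
  exact Cfsg.Agent.helper1.le_pCore hMn hMp h1

theorem zjID_normal [Finite G] {p : ℕ} [Fact p.Prime] (h𝔄 : ZJFamily 𝔄) (P : Sylow p G)
    (D : Subgroup G) (hD : Cfsg.IsStronglyClosed D (P : Subgroup G))
    (hrep : HasReplacementIn 𝔄 D (P : Subgroup G))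
    (hc : Subgroup.centralizer (Cfsg.pCore p G : Set G) ≤ Cfsg.pCore p G)
    (hst : ∀ (V : Subgroup G) [V.Normal], IsPGroup p V → ∀ a ∈ (P : Subgroup G),
      ⁅⁅V, Subgroup.zpowers a⁆, Subgroup.zpowers a⁆ = ⊥ →
        (QuotientGroup.mk a : G ⧸ Subgroup.centralizer (V : Set G)) ∈
          Cfsg.pCore p (G ⧸ Subgroup.centralizer (V : Set G))) :
    (zjI 𝔄 D).Normal := by
  haveI hQn := Cfsg.Agent.helper1.pCore_normal (G := G) p
  have hQp := Cfsg.Agent.helper1.pCore_isPGroup (G := G) p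
  have h1 := zjID_inf_normal h𝔄 P D hD hrep hst (Cfsg.pCore p G) hQp
  rwa [inf_eq_left.mpr (zjID_le_pCore h𝔄 P D hD hc hst)] at h1

end Cfsg.Agent.helper3
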