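import Mathlib
import Cfsg.Prelude.Def_TwoFusion
import Cfsg.Prelude.Def_LocalEven
import Cfsg.Agent.Lib_helper3_ZJD
import Cfsg.Agent.Lib_helper3_ThompsonOf
import Cfsg.Agent.Lib_helper3_PStab2
import Cfsg.Agent.Lib_helper4_Glaub2
import Cfsg.Agent.Lib_helper4_ZJ2

/-! Replacement in strongly closed subgroups, the elementary abelian family, and the statement of
the ZJ-theorem for strongly closed subgroups (helper3). -/

set_option autoImplicit false

namespace Cfsg.Agent.helper3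

open Cfsg
open scoped commutatorElement

variable {G : Type*} [Group G]

/-- Generic replacement in a subgroup `D` normal in the Sylow subgroup `P`. -/
theorem hasReplacementIn_of_closed [Finite G] {p : ℕ} [Fact p.Prime] (hp : p ≠ 2) (P : Sylow p G)
    (D : Subgroup G) (hDP : D ≤ (P : Subgroup G))
    (hDn : (P : Subgroup G) ≤ Subgroup.normalizer (D : Set G)) (𝔄D : Set (Subgroup G))
    (hle : ∀ A ∈ 𝔄D, A ≤ D) (hab : ∀ A ∈ 𝔄D, IsMulCommutative A)
    (hclosed : ∀ A ∈ 𝔄D, ∀ A' : Subgroup G, A' ≤ D → IsMulCommutative A' →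
      Nat.card A' = Nat.card A → Monoid.exponent A' ∣ Monoid.exponent A → A' ∈ 𝔄D) :
    ∀ B : Subgroup G, B.Normal → B ≤ (P : Subgroup G) →
      (∃ U ∈ 𝔄D, ⁅B, B⁆ ≤ U ∧ ¬ B ≤ U) →
      ∃ A ∈ 𝔄D, ⁅B, B⁆ ≤ A ∧ ¬ B ≤ A ∧ B ≤ Subgroup.normalizer (A : Set G) := by
  rintro B hBn hBP ⟨U, hU, hB'U, hBU⟩
  have hS : IsPGroup p ↥(P : Subgroup G) := P.isPGroup'
  haveI : (B.subgroupOf (P : Subgroup G)).Normal := hBn.subgroupOf _
  haveI : (D.subgroupOf (P : Subgroup G)).Normal :=
    (Subgroup.normal_subgroupOf_iff_le_normalizer hDP).mpr hDn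
  have hBmap : (B.subgroupOf (P : Subgroup G)).map (P : Subgroup G).subtype = B :=
    Subgroup.map_subgroupOf_eq_of_le hBP
  have hcommap : (⁅B.subgroupOf (P : Subgroup G), B.subgroupOf (P : Subgroup G)⁆).map
      (P : Subgroup G).subtype = ⁅B, B⁆ := by
    rw [Subgroup.map_commutator, hBmap]
  have hUP : U ≤ (P : Subgroup G) := (hle U hU).trans hDP
  have hcardmap : ∀ A' : Subgroup ↥(P : Subgroup G),
      Nat.card (A'.map (P : Subgroup G).subtype) = Nat.card A' := fun A' =>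
    Subgroup.card_map_of_injective (Subgroup.subtype_injective _)
  have hexpmap : ∀ A' : Subgroup ↥(P : Subgroup G),
      Monoid.exponent ↥(A'.map (P : Subgroup G).subtype) = Monoid.exponent ↥A' := fun A' =>
    (Monoid.exponent_eq_of_mulEquiv
      (A'.equivMapOfInjective _ (Subgroup.subtype_injective _))).symm
  obtain ⟨A₀, hA₀, h1, h2, h3⟩ := Cfsg.Agent.helper4.Glaub.replacement_generic hS hp
    (D.subgroupOf (P : Subgroup G)) (B.subgroupOf (P : Subgroup G))
    {A' : Subgroup ↥(P : Subgroup G) | A'.map (P : Subgroup G).subtype ∈ 𝔄D}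
    (fun A' hA' => by
      have hc := hab _ hA'
      refine ⟨⟨fun x y => ?_⟩⟩
      have h := hc.is_comm.comm
        (⟨((x : ↥(P : Subgroup G)) : G), Subgroup.mem_map_of_mem _ x.2⟩ :
          ↥(A'.map (P : Subgroup G).subtype))
        ⟨((y : ↥(P : Subgroup G)) : G), Subgroup.mem_map_of_mem _ y.2⟩
      have h' : ((x : ↥(P : Subgroup G)) : G) * ((y : ↥(P : Subgroup G)) : G) =
          ((y : ↥(P : Subgroup G)) : G) * ((x : ↥(P : Subgroup G)) : G) := congrArg Subtype.val h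
      exact Subtype.ext (Subtype.ext h'))
    (fun A' hA' x hx => by
      rw [Subgroup.mem_subgroupOf]
      exact hle _ hA' (Subgroup.mem_map_of_mem _ hx))
    (fun A' hA' A'' hA''D hA''c hcard hexp => by
      haveI := hA''c
      refine hclosed _ hA' _ ?_ (Subgroup.map_isMulCommutative _ _) ?_ ?_
      · rintro _ ⟨x, hx, rfl⟩
        exact Subgroup.mem_subgroupOf.mp (hA''D hx)
      · rw [hcardmap, hcardmap, hcard]
      · rw [hexpmap, hexpmap]; exact hexp)
    ⟨U.subgroupOf (P : Subgroup G), by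
      show (U.subgroupOf (P : Subgroup G)).map (P : Subgroup G).subtype ∈ 𝔄D
      rw [Subgroup.map_subgroupOf_eq_of_le hUP]; exact hU, by
      show _ ≤ U.comap (P : Subgroup G).subtype
      rw [← Subgroup.map_le_iff_le_comap, hcommap]; exact hB'U, by
      intro h
      apply hBU
      have := Subgroup.map_mono (f := (P : Subgroup G).subtype) h
      rwa [hBmap, Subgroup.map_subgroupOf_eq_of_le hUP] at this⟩
  refine ⟨A₀.map (P : Subgroup G).subtype, hA₀, ?_, ?_, ?_⟩
  · rw [← hcommap]; exact Subgroup.map_mono h1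
  · intro h
    apply h2
    rw [← hBmap] at h
    exact (Subgroup.map_subtype_le_map_subtype).mp h
  · have h4 := Subgroup.map_mono (f := (P : Subgroup G).subtype) h3
    rw [hBmap] at h4
    exact h4.trans (Subgroup.le_normalizer_map _)

theorem hasReplacementIn_famAb [Finite G] {p : ℕ} [Fact p.Prime] (hp : p ≠ 2) (P : Sylow p G)
    (D : Subgroup G) (hD : Cfsg.IsStronglyClosed D (P : Subgroup G)) :
    HasReplacementIn (famAb (G := G)) D (P : Subgroup G) := by
  intro B hBn hBP _ hex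
  exact hasReplacementIn_of_closed hp P D hD.1 (stronglyClosed_le_normalizer hD) (famAb D)
    (fun A hA => hA.1) (fun A hA => hA.2.1)
    (fun A hA A' hA'D hA'c hcard _ => ⟨hA'D, hA'c, fun B₁ hB₁ hB₁c => hcard ▸ hA.2.2 B₁ hB₁ hB₁c⟩)
    B hBn hBP hex

/-- The family of elementary abelian subgroups of largest order. -/
def famEA (p : ℕ) : Subgroup G → Set (Subgroup G) := fun R => {A | IsMaxEAIn p R A}

theorem zjFamily_famEA [Finite G] (p : ℕ) : ZJFamily (famEA (G := G) p) where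
  le := fun hA => hA.1
  comm := by
    intro R A hA x hx y hy
    exact congrArg Subtype.val (hA.2.1.1.is_comm.comm (⟨x, hx⟩ : A) ⟨y, hy⟩)
  map := by
    intro e R A hA
    exact hA.map_equiv e
  mono := by
    intro R₁ R A hle hA hAR₁
    refine ⟨⟨hAR₁, hA.2.1, fun B hB1 hB2 => hA.2.2 B (hB1.trans hle) hB2⟩, ?_⟩
    intro A' hA'
    refine ⟨hA'.1.trans hle, hA'.2.1, fun B hB1 hB2 => ?_⟩
    exact (hA.2.2 B hB1 hB2).trans (hA'.2.2 A hAR₁ hA.2.1)
  nonempty := fun R => exists_isMaxEAIn p R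

theorem hasReplacementIn_famEA [Finite G] {p : ℕ} [Fact p.Prime] (hp : p ≠ 2) (P : Sylow p G)
    (D : Subgroup G) (hD : Cfsg.IsStronglyClosed D (P : Subgroup G)) :
    HasReplacementIn (famEA (G := G) p) D (P : Subgroup G) := by
  intro B hBn hBP _ hex
  refine hasReplacementIn_of_closed hp P D hD.1 (stronglyClosed_le_normalizer hD) (famEA p D)
    (fun A hA => hA.1) (fun A hA => hA.2.1.1)
    (fun A hA A' hA'D hA'c hcard hexp => ?_) B hBn hBP hex
  refine ⟨hA'D, ⟨hA'c, fun a ha => ?_⟩, fun B₁ hB₁ hB₁c => hcard ▸ hA.2.2 B₁ hB₁ hB₁c⟩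
  have hexpA : Monoid.exponent A ∣ p := by
    apply Monoid.exponent_dvd_of_forall_pow_eq_one
    rintro ⟨y, hy⟩
    apply Subtype.ext
    rw [Subgroup.coe_pow, Subgroup.coe_one]
    exact hA.2.1.2 y hy
  have h1 : (⟨a, ha⟩ : A') ^ p = 1 := by
    rw [← orderOf_dvd_iff_pow_eq_one]
    exact (Monoid.order_dvd_exponent _).trans (hexp.trans hexpA)
  have h2 := congrArg Subtype.val h1
  rwa [Subgroup.coe_pow, Subgroup.coe_one] at h2

/-- `Ω₁(Z(J_e(D)))` is the intersection of the elementary abelian subgroups of largest order. -/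
theorem omegaOne_centerThompsonOf_eq_zjI [Finite G] (p : ℕ) (D : Subgroup G) :
    Cfsg.omegaOne p (Cfsg.centerThompsonOf p D) = zjI (famEA p) D := by
  unfold Cfsg.omegaOne Cfsg.centerThompsonOf
  rw [thompsonSubgroupOf_eq_sSup]
  apply le_antisymm
  · rw [Subgroup.closure_le]
    rintro x ⟨⟨hxJ, hxC⟩, hxp⟩
    apply le_zjI (X := Subgroup.zpowers x) _ (Subgroup.mem_zpowers x)
    intro A hA
    rw [Subgroup.zpowers_le]
    have hAJ : A ≤ sSup {A | IsMaxEAIn p D A} := le_sSup hA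
    have hAc : ∀ u ∈ A, ∀ v ∈ A, u * v = v * u := fun u hu v hv =>
      congrArg Subtype.val (hA.2.1.1.is_comm.comm (⟨u, hu⟩ : A) ⟨v, hv⟩)
    have hxa : ∀ a ∈ A, x * a = a * x := fun a ha =>
      (Subgroup.mem_centralizer_iff.mp hxC a (hAJ ha)).symm
    have hJD : sSup {A | IsMaxEAIn p D A} ≤ D := sSup_le (fun A' hA' => hA'.1)
    have hEA : Cfsg.IsElementaryAbelian p (A ⊔ Subgroup.zpowers x) :=
      ⟨⟨⟨fun u v => Subtype.ext
        (Cfsg.Agent.helper4.ZJ.sup_zpowers_comm A x hAc hxa u u.2 v v.2)⟩⟩,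
        Cfsg.Agent.helper4.ZJ.sup_zpowers_pow p A x hAc hxa hA.2.1.2 hxp⟩
    have hcard := hA.2.2 _ (sup_le hA.1 (by rw [Subgroup.zpowers_le]; exact hJD hxJ)) hEA
    have heq : A = A ⊔ Subgroup.zpowers x := Subgroup.eq_of_le_of_card_ge le_sup_left hcard
    rw [heq]
    exact Subgroup.mem_sup_right (Subgroup.mem_zpowers x)
  · intro y hy
    apply Subgroup.subset_closure
    obtain ⟨A₁, hA₁⟩ := exists_isMaxEAIn p D
    have hyA₁ : y ∈ A₁ := zjI_le_of_mem (𝔄 := famEA p) hA₁ hy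
    refine ⟨⟨(le_sSup hA₁ : A₁ ≤ sSup {A | IsMaxEAIn p D A}) hyA₁, ?_⟩, hA₁.2.1.2 y hyA₁⟩
    have hle : sSup {A | IsMaxEAIn p D A} ≤ Subgroup.centralizer ({y} : Set G) := by
      apply sSup_le
      intro A hA a ha
      rw [Subgroup.mem_centralizer_iff]
      intro z hz
      rw [Set.mem_singleton_iff] at hz
      rw [hz]
      have hyA : y ∈ A := zjI_le_of_mem (𝔄 := famEA p) hA hy
      exact congrArg Subtype.val (hA.2.1.1.is_comm.comm (⟨y, hyA⟩ : A) ⟨a, ha⟩)
    show y ∈ Subgroup.centralizer ((sSup {A | IsMaxEAIn p D A} : Subgroup G) : Set G)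
    rw [Subgroup.mem_centralizer_iff]
    intro h hh
    exact (Subgroup.mem_centralizer_iff.mp (hle hh) y rfl).symm

/-- `p`-stability in the normalizer form gives `p`-stability of the action on normal
`p`-subgroups. -/
theorem mk_mem_pCore_of_isNormalizerPStable {p : ℕ} (hs : Cfsg.IsNormalizerPStable p G)
    (V : Subgroup G) [hVn : V.Normal] (hV : IsPGroup p V) (a : G)
    (hq : ⁅⁅V, Subgroup.zpowers a⁆, Subgroup.zpowers a⁆ = ⊥) :
    (QuotientGroup.mk a : G ⧸ Subgroup.centralizer (V : Set G)) ∈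
      Cfsg.pCore p (G ⧸ Subgroup.centralizer (V : Set G)) := by
  have haN : a ∈ Subgroup.normalizer (V : Set G) := by
    rw [Subgroup.normalizer_eq_top_iff.mpr hVn]; trivial
  have h1 := hs V hV a haN hq
  have h2 := map_le_pCore_of_normal p V (Subgroup.zpowers a) (by
    rintro _ ⟨⟨y, hyN⟩, hy, rfl⟩
    rw [SetLike.mem_coe, Subgroup.mem_subgroupOf] at hy
    obtain ⟨k, rfl⟩ := hy
    have : (⟨a ^ k, hyN⟩ : ↥(Subgroup.normalizer (V : Set G))) = ⟨a, haN⟩ ^ k := by
      apply Subtype.ext; simp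
    rw [this, map_zpow]
    exact Subgroup.zpow_mem _ h1 k)
  exact h2 ⟨a, Subgroup.mem_zpowers a, rfl⟩

/-- **Glauberman's ZJ-theorem for strongly closed subgroups.** -/
theorem stronglyClosed_zj_normal [Finite G] {p : ℕ} [Fact p.Prime] (hp : p ≠ 2) (P : Sylow p G)
    (D : Subgroup G) (hD : Cfsg.IsStronglyClosed D (P : Subgroup G))
    (hst : Cfsg.IsNormalizerPStable p G)
    (hc : Subgroup.centralizer ((Cfsg.pCore p G : Subgroup G) : Set G) ≤ Cfsg.pCore p G) :
    (Cfsg.centerThompsonAOf D).Normal ∧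
      (Cfsg.omegaOne p (Cfsg.centerThompsonOf p D)).Normal := by
  have hst' : ∀ (V : Subgroup G) [V.Normal], IsPGroup p V → ∀ a ∈ (P : Subgroup G),
      ⁅⁅V, Subgroup.zpowers a⁆, Subgroup.zpowers a⁆ = ⊥ →
        (QuotientGroup.mk a : G ⧸ Subgroup.centralizer (V : Set G)) ∈
          Cfsg.pCore p (G ⧸ Subgroup.centralizer (V : Set G)) :=
    fun V _ hV a _ hq => mk_mem_pCore_of_isNormalizerPStable hst V hV a hq
  constructor
  · rw [centerThompsonAOf_eq_zjI]
    exact zjID_normal zjFamily_famAb P D hD (hasReplacementIn_famAb hp P D hD) hc hst'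
  · rw [omegaOne_centerThompsonOf_eq_zjI]
    exact zjID_normal (zjFamily_famEA p) P D hD (hasReplacementIn_famEA hp P D hD) hc hst'

end Cfsg.Agent.helper3
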