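import Mathlib

set_option autoImplicit false

namespace Cfsg.Agent.helper19

open scoped Pointwise

theorem memconj {T : Type*} [Group T] (K : Subgroup T) (g y : T) :
    y ∈ K.map (MulAut.conj g).toMonoidHom ↔ g⁻¹ * y * g ∈ K := by
  constructor
  · rintro ⟨k, hk, rfl⟩
    simpa [MulAut.conj_apply, mul_assoc] using hk
  · intro h
    exact ⟨g⁻¹ * y * g, h, by simp [MulAut.conj_apply, mul_assoc]⟩

theorem memsmul {T : Type*} [Group T] (K : Subgroup T) (g y : T) :
    y ∈ MulAut.conj g • K ↔ g⁻¹ * y * g ∈ K := by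
  rw [Subgroup.mem_pointwise_smul_iff_inv_smul_mem]
  simp [MulAut.smul_def]

/-- In a finite `p`-subgroup `P`, a proper subgroup `D` is properly contained in `P ⊓ N(D)`. -/
theorem pgroup_normalizer_lt {G : Type*} [Group G] [Finite G] {p : ℕ} [Fact p.Prime]
    (P D : Subgroup G) (hP : IsPGroup p P) (hDP : D < P) :
    ∃ x : G, x ∈ P ∧ x ∈ Subgroup.normalizer (D : Set G) ∧ x ∉ D := by
  have : Group.IsNilpotent ↥P := hP.isNilpotent
  have hnc : NormalizerCondition ↥P := Group.normalizerCondition_of_isNilpotent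
  have hlt : D.subgroupOf P < ⊤ := by
    rw [lt_top_iff_ne_top]
    intro h
    rw [Subgroup.subgroupOf_eq_top] at h
    exact absurd (le_antisymm hDP.le h) hDP.ne
  have h2 := hnc _ hlt
  obtain ⟨x, hxN, hxD⟩ := SetLike.exists_of_lt h2
  refine ⟨x, x.2, ?_, ?_⟩
  · rw [← Subgroup.subgroupOf_normalizer_eq hDP.le] at hxN
    exact Subgroup.mem_subgroupOf.mp hxN
  · intro h
    exact hxD (Subgroup.mem_subgroupOf.mpr h)

/-- A `p`-subgroup of a finite group with a normal Sylow `p`-subgroup lies in that Sylow subgroup. -/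
theorem le_normal_sylow {G : Type*} [Group G] [Finite G] {p : ℕ} [Fact p.Prime]
    (S : Sylow p G) (hS : (S : Subgroup G).Normal) (K : Subgroup G) (hK : IsPGroup p K) :
    K ≤ (S : Subgroup G) := by
  obtain ⟨Q, hQ⟩ := hK.exists_le_sylow
  have := Sylow.unique_of_normal S hS
  have : Q = S := Subsingleton.elim _ _
  rw [← this]; exact hQ

end Cfsg.Agent.helper19
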