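import Cfsg.Statements.S0632
import Cfsg.Agent.Lib_helper3_PStab
import Cfsg.Agent.Lib_helper10_PPrimeP
set_option autoImplicit false
open Cfsg

namespace Cfsg.Agent.S0632


theorem comm_le_of_le {G : Type*} [Group G] {H₁ H₂ S : Subgroup G} (h1 : H₁ ≤ S) (h2 : H₂ ≤ S) :
    ⁅H₁, H₂⁆ ≤ S := by
  rw [Subgroup.commutator_le]
  intro a ha b hb
  rw [commutatorElement_def]
  exact S.mul_mem (S.mul_mem (S.mul_mem (h1 ha) (h2 hb)) (S.inv_mem (h1 ha))) (S.inv_mem (h2 hb))

/-- For a group with a nontrivial normal p-subgroup, p-stability passes to and from the quotient by the largest normal subgroup of order prime to p. -/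
theorem result {G : Type*} [Group G] [Finite G] {p : ℕ} [Fact p.Prime] (hO : Cfsg.pCore p G ≠ ⊥) : Cfsg.IsPStable p G ↔ Cfsg.IsPStable p (G ⧸ Cfsg.pPrimeCore p G) := by
  have hp : p.Prime := Fact.out
  have hKcop : (Nat.card ↥(Cfsg.pPrimeCore p G)).Coprime p :=
    Cfsg.Agent.helper7.pPrimeCore_coprime hp
  have hbarbot : Cfsg.pPrimeCore p (G ⧸ Cfsg.pPrimeCore p G) = ⊥ :=
    Cfsg.Agent.helper7.pPrimeCore_quotient_eq_bot hp
  have hπs : Function.Surjective (QuotientGroup.mk' (Cfsg.pPrimeCore p G)) :=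
    QuotientGroup.mk'_surjective _
  have hmeet : ∀ Q : Subgroup G, IsPGroup p Q → Cfsg.pPrimeCore p G ⊓ Q = ⊥ := by
    intro Q hQ
    rw [eq_bot_iff]
    intro x hx
    rw [Subgroup.mem_bot]
    exact Cfsg.Agent.helper10.eq_one_of_mem_pgroup_of_mem_coprime hQ hKcop hx.2 hx.1
  have hker : ∀ x : G, (QuotientGroup.mk' (Cfsg.pPrimeCore p G)) x = 1 → x ∈ Cfsg.pPrimeCore p G := by
    intro x hx
    exact (QuotientGroup.eq_one_iff x).1 hx
  have hObar : Cfsg.pCore p (G ⧸ Cfsg.pPrimeCore p G) ≠ ⊥ := by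
    intro h
    apply hO
    have h1 := Cfsg.Agent.helper3.pCore_map_le p hπs
    rw [h] at h1
    have h2 : Cfsg.pCore p G ≤ Cfsg.pPrimeCore p G := by
      intro x hx
      have h3 : (QuotientGroup.mk' (Cfsg.pPrimeCore p G)) x ∈ (⊥ : Subgroup _) := h1 ⟨x, hx, rfl⟩
      rw [Subgroup.mem_bot] at h3
      exact hker x h3
    have h3 := hmeet _ (Cfsg.Agent.helper1.pCore_isPGroup p)
    rw [eq_bot_iff, ← h3]
    exact le_inf h2 le_rfl
  constructor
  · rintro ⟨hodd, _, hst⟩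
    refine ⟨hodd, hObar, ?_⟩
    intro Ab Pb hAb hPb hnorm hPle hN hcomm
    have hPbN : Pb.Normal := by
      rw [hbarbot, bot_sup_eq] at hN
      exact hN
    have hAP : IsPGroup p (Ab ⊔ Pb : Subgroup _) := hAb.to_sup_of_normal_right hPb
    obtain ⟨Sb, hSb⟩ := hAP.exists_le_sylow
    obtain ⟨S, rfl⟩ := Sylow.mapSurjective_surjective hπs p Sb
    rw [Sylow.coe_mapSurjective] at hSb
    have hlift : ∀ (X : Subgroup (G ⧸ Cfsg.pPrimeCore p G)), X ≤ Ab ⊔ Pb →
        X = ((S : Subgroup G) ⊓ X.comap (QuotientGroup.mk' (Cfsg.pPrimeCore p G))).map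
          (QuotientGroup.mk' (Cfsg.pPrimeCore p G)) := by
      intro X hX
      apply le_antisymm
      · intro x hx
        obtain ⟨s, hs, rfl⟩ := hSb (hX hx)
        exact ⟨s, ⟨hs, hx⟩, rfl⟩
      · rintro _ ⟨s, ⟨_, hs⟩, rfl⟩
        exact hs
    set P₁ : Subgroup G := (S : Subgroup G) ⊓ Pb.comap (QuotientGroup.mk' (Cfsg.pPrimeCore p G))
      with hP₁
    set A₁ : Subgroup G := (S : Subgroup G) ⊓ Ab.comap (QuotientGroup.mk' (Cfsg.pPrimeCore p G))
      with hA₁
    have hP₁map : Pb = P₁.map (QuotientGroup.mk' (Cfsg.pPrimeCore p G)) := hlift Pb le_sup_right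
    have hA₁map : Ab = A₁.map (QuotientGroup.mk' (Cfsg.pPrimeCore p G)) := hlift Ab le_sup_left
    have hP₁p : IsPGroup p P₁ := S.isPGroup'.to_le inf_le_left
    have hA₁p : IsPGroup p A₁ := S.isPGroup'.to_le inf_le_left
    have hnorm₁ : ∀ a ∈ A₁, ∀ x ∈ P₁, a * x * a⁻¹ ∈ P₁ := by
      intro a ha x hx
      refine ⟨(S : Subgroup G).mul_mem ((S : Subgroup G).mul_mem ha.1 hx.1)
        ((S : Subgroup G).inv_mem ha.1), ?_⟩
      show (QuotientGroup.mk' (Cfsg.pPrimeCore p G)) (a * x * a⁻¹) ∈ Pb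
      rw [map_mul, map_mul, map_inv]
      exact hnorm _ ha.2 _ hx.2
    have hA₁N : A₁ ≤ Subgroup.normalizer (P₁ : Set G) := by
      intro a ha
      rw [Subgroup.mem_normalizer_iff]
      intro x
      constructor
      · intro hx
        exact hnorm₁ a ha x hx
      · intro hx
        have := hnorm₁ a⁻¹ (A₁.inv_mem ha) _ hx
        simpa [mul_assoc] using this
    have hcomapN : (Pb.comap (QuotientGroup.mk' (Cfsg.pPrimeCore p G))).Normal :=
      hPbN.comap _
    have hKP₁ : Cfsg.pPrimeCore p G ⊔ P₁ = Pb.comap (QuotientGroup.mk' (Cfsg.pPrimeCore p G)) := by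
      rw [hP₁map, Subgroup.comap_map_eq, QuotientGroup.ker_mk', sup_comm]
    have hPle₁ : P₁ ≤ Cfsg.pPrimePCore p G := by
      intro x hx
      show (QuotientGroup.mk' (Cfsg.pPrimeCore p G)) x ∈ Cfsg.pCore p _
      exact Cfsg.Agent.helper1.le_pCore hPbN hPb hx.2
    have hN₁ : (Cfsg.pPrimeCore p G ⊔ P₁).Normal := by
      rw [hKP₁]; exact hcomapN
    have hcomm₁ : ⁅⁅P₁, A₁⁆, A₁⁆ = ⊥ := by
      have h1 : (⁅⁅P₁, A₁⁆, A₁⁆).map (QuotientGroup.mk' (Cfsg.pPrimeCore p G)) = ⊥ := by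
        rw [Subgroup.map_commutator, Subgroup.map_commutator, ← hP₁map, ← hA₁map, hcomm]
      have h2 : ⁅⁅P₁, A₁⁆, A₁⁆ ≤ Cfsg.pPrimeCore p G := by
        intro x hx
        apply hker
        have : (QuotientGroup.mk' (Cfsg.pPrimeCore p G)) x ∈ (⊥ : Subgroup _) := by
          rw [← h1]; exact ⟨x, hx, rfl⟩
        rwa [Subgroup.mem_bot] at this
      have h3 : ⁅⁅P₁, A₁⁆, A₁⁆ ≤ (S : Subgroup G) := by
        have hPS : P₁ ≤ (S : Subgroup G) := inf_le_left
        have hAS : A₁ ≤ (S : Subgroup G) := inf_le_left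
        exact comm_le_of_le (comm_le_of_le hPS hAS) hAS
      have h4 := hmeet _ (S.isPGroup'.to_le h3)
      rw [eq_bot_iff, ← h4]
      exact le_inf h2 le_rfl
    have hsurj : Subgroup.normalizer (P₁ : Set G) ⊔ Cfsg.pPrimeCore p G = ⊤ := by
      have h1 := Cfsg.Agent.helper19.frattini_inf S (Pb.comap (QuotientGroup.mk' (Cfsg.pPrimeCore p G)))
      rw [← hP₁, ← hKP₁] at h1
      rw [eq_top_iff, ← h1]
      refine sup_le le_sup_left (sup_le le_sup_right ?_)
      exact (Subgroup.le_normalizer).trans le_sup_left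
    have key := hst A₁ P₁ hA₁p hP₁p hnorm₁ hPle₁ hN₁ hcomm₁
    exact Cfsg.Agent.helper3.transport_down (Cfsg.pPrimeCore p G) p P₁ A₁ hA₁N hsurj key
      Pb Ab hP₁map hA₁map
  · rintro ⟨hodd, _, hst⟩
    refine ⟨hodd, hO, ?_⟩
    intro A P hA hP hnorm hPle hN hcomm
    have hKP : Cfsg.pPrimeCore p G ⊓ P = ⊥ := hmeet P hP
    have hPbN : (P.map (QuotientGroup.mk' (Cfsg.pPrimeCore p G))).Normal := by
      have h1 : (Cfsg.pPrimeCore p G ⊔ P).map (QuotientGroup.mk' (Cfsg.pPrimeCore p G))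
          = P.map (QuotientGroup.mk' (Cfsg.pPrimeCore p G)) := by
        rw [Subgroup.map_sup, QuotientGroup.map_mk'_self, bot_sup_eq]
      rw [← h1]
      exact hN.map _ hπs
    have hsurj : Subgroup.normalizer (P : Set G) ⊔ Cfsg.pPrimeCore p G = ⊤ := by
      obtain ⟨S, hS⟩ := hP.exists_le_sylow
      haveI := hN
      have h1 := Cfsg.Agent.helper19.frattini_inf S (Cfsg.pPrimeCore p G ⊔ P)
      have h2 : (S : Subgroup G) ⊓ (Cfsg.pPrimeCore p G ⊔ P) = P := by
        apply le_antisymm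
        · rintro x ⟨hxS, hxKP⟩
          have hxKP' : x ∈ Cfsg.pPrimeCore p G ⊔ P := hxKP
          rw [Subgroup.mem_sup_of_normal_left] at hxKP'
          obtain ⟨k, hk, y, hy, rfl⟩ := hxKP'
          have hkS : k ∈ (S : Subgroup G) := by
            have : k = (k * y) * y⁻¹ := by group
            rw [this]
            exact (S : Subgroup G).mul_mem hxS ((S : Subgroup G).inv_mem (hS hy))
          have hk1 : k = 1 :=
            Cfsg.Agent.helper10.eq_one_of_mem_pgroup_of_mem_coprime S.isPGroup' hKcop hkS hk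
          rw [hk1, one_mul]
          exact hy
        · exact le_inf hS le_sup_right
      rw [h2] at h1
      rw [eq_top_iff, ← h1]
      exact sup_le le_sup_left (sup_le le_sup_right (Subgroup.le_normalizer.trans le_sup_left))
    have hnormb : ∀ a ∈ A.map (QuotientGroup.mk' (Cfsg.pPrimeCore p G)),
        ∀ x ∈ P.map (QuotientGroup.mk' (Cfsg.pPrimeCore p G)),
          a * x * a⁻¹ ∈ P.map (QuotientGroup.mk' (Cfsg.pPrimeCore p G)) := by
      rintro _ ⟨a, ha, rfl⟩ _ ⟨x, hx, rfl⟩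
      exact ⟨a * x * a⁻¹, hnorm a ha x hx, by simp⟩
    have hPleb : P.map (QuotientGroup.mk' (Cfsg.pPrimeCore p G)) ≤
        Cfsg.pPrimePCore p (G ⧸ Cfsg.pPrimeCore p G) := by
      rintro _ ⟨x, hx, rfl⟩
      show (QuotientGroup.mk' _) ((QuotientGroup.mk' (Cfsg.pPrimeCore p G)) x) ∈ Cfsg.pCore p _
      exact Cfsg.Agent.helper3.pCore_map_le p (QuotientGroup.mk'_surjective _)
        ⟨(QuotientGroup.mk' (Cfsg.pPrimeCore p G)) x, hPle hx, rfl⟩
    have hNb : (Cfsg.pPrimeCore p (G ⧸ Cfsg.pPrimeCore p G) ⊔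
        P.map (QuotientGroup.mk' (Cfsg.pPrimeCore p G))).Normal := by
      rw [hbarbot, bot_sup_eq]
      exact hPbN
    have hcommb : ⁅⁅P.map (QuotientGroup.mk' (Cfsg.pPrimeCore p G)),
        A.map (QuotientGroup.mk' (Cfsg.pPrimeCore p G))⁆,
        A.map (QuotientGroup.mk' (Cfsg.pPrimeCore p G))⁆ = ⊥ := by
      rw [← Subgroup.map_commutator, ← Subgroup.map_commutator, hcomm, Subgroup.map_bot]
    exact Cfsg.Agent.helper3.transport_up (Cfsg.pPrimeCore p G) p P A hsurj hKP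
      (hst _ _ (hA.map _) (hP.map _) hnormb hPleb hNb hcommb)

end Cfsg.Agent.S0632
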