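import Cfsg.Statements.S0667
import Cfsg.Agent.Lib_helper3_PStab2
import Cfsg.Agent.S0632
set_option autoImplicit false
open Cfsg

namespace Cfsg.Agent.S0667


/-- Glauberman's Theorem in the p-constrained, p-stable vocabulary: for odd p such a group is the product of its largest normal subgroup of order prime to p with the normalizer of Z(J(P)), and Z(J(P)) is normal when that p'-subgroup is trivial. -/
theorem result {G : Type*} [Group G] [Finite G] {p : ℕ} [Fact p.Prime] (hp : p ≠ 2) (hc : Cfsg.IsPConstrained p G) (hs : Cfsg.IsPStable p G) (P : Sylow p G) : Cfsg.pPrimeCore p G ⊔ Subgroup.normalizer (Cfsg.centerThompsonAOf ((P : Subgroup G)) : Set G) = ⊤ ∧ (Cfsg.pPrimeCore p G = ⊥ → (Cfsg.centerThompsonAOf ((P : Subgroup G))).Normal) := by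
  have hpp : p.Prime := Fact.out
  have hKcop := Cfsg.Agent.helper7.pPrimeCore_coprime (G := G) hpp
  have hπs : Function.Surjective (QuotientGroup.mk' (Cfsg.pPrimeCore p G)) :=
    QuotientGroup.mk'_surjective _
  have hsb : Cfsg.IsPStable p (G ⧸ Cfsg.pPrimeCore p G) := (Cfsg.Agent.S0632.result hs.2.1).1 hs
  have hcb := Cfsg.Agent.helper3.centralizer_pCore_quotient_le hc
  have hnb : (Cfsg.Agent.helper3.zjI Cfsg.Agent.helper3.famAb
      ((P.mapSurjective hπs : Sylow p (G ⧸ Cfsg.pPrimeCore p G)) :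
        Subgroup (G ⧸ Cfsg.pPrimeCore p G))).Normal :=
    Cfsg.Agent.helper3.zjI_normal' Cfsg.Agent.helper3.zjFamily_famAb (P.mapSurjective hπs)
      (Cfsg.Agent.helper3.hasReplacement_famAb hp (P.mapSurjective hπs)) hcb
      (fun V _ hV a ha hq => Cfsg.Agent.helper3.mk_mem_pCore_of_isPStable hsb V hV a
        ((P.mapSurjective hπs).isPGroup'.to_le ((Subgroup.zpowers_le).2 ha)) hq)
  rw [← Cfsg.Agent.helper3.centerThompsonAOf_eq_zjI, Sylow.coe_mapSurjective] at hnb
  have hinj : ∀ x ∈ (P : Subgroup G), (QuotientGroup.mk' (Cfsg.pPrimeCore p G)) x = 1 → x = 1 :=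
    fun x hx h => Cfsg.Agent.helper10.eq_one_of_mem_pgroup_of_mem_coprime P.isPGroup' hKcop hx
      ((QuotientGroup.eq_one_iff x).1 h)
  rw [Cfsg.Agent.helper3.centerThompsonAOf_map _ hinj] at hnb
  have hN : (Cfsg.pPrimeCore p G ⊔ Cfsg.centerThompsonAOf (P : Subgroup G)).Normal := by
    have h1 : Cfsg.pPrimeCore p G ⊔ Cfsg.centerThompsonAOf (P : Subgroup G) =
        ((Cfsg.centerThompsonAOf (P : Subgroup G)).map
          (QuotientGroup.mk' (Cfsg.pPrimeCore p G))).comap
            (QuotientGroup.mk' (Cfsg.pPrimeCore p G)) := by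
      rw [Subgroup.comap_map_eq, QuotientGroup.ker_mk', sup_comm]
    rw [h1]
    exact hnb.comap _
  have hZP : Cfsg.centerThompsonAOf (P : Subgroup G) ≤ (P : Subgroup G) := by
    rw [Cfsg.Agent.helper3.centerThompsonAOf_eq_zjI]
    exact Cfsg.Agent.helper3.zjI_le Cfsg.Agent.helper3.zjFamily_famAb _
  have hZp : IsPGroup p ↥(Cfsg.centerThompsonAOf (P : Subgroup G)) := P.isPGroup'.to_le hZP
  have h1 := Cfsg.Agent.helper3.normalizer_sup_eq_top_of_normal_sup (Cfsg.pPrimeCore p G) hKcop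
    _ hZp hN
  refine ⟨by rw [sup_comm]; exact h1, fun hK => ?_⟩
  rw [hK, sup_bot_eq] at h1
  exact Subgroup.normalizer_eq_top_iff.mp h1

end Cfsg.Agent.S0667
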