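import Cfsg.Statements.S0658
import Cfsg.Agent.Lib_helper3_PStab2
import Cfsg.Agent.Lib_helper3_Basic
import Cfsg.Agent.Lib_helper19_Basic
import Cfsg.Agent.S0667
set_option autoImplicit false
open Cfsg

namespace Cfsg.Agent.S0658


open Cfsg.Agent.helper3

open scoped Pointwise

variable {G : Type*} [Group G]

theorem center_le_of_isMaxAbIn [Finite G] {R A : Subgroup G} (hA : IsMaxAbIn R A) :
    R ⊓ Subgroup.centralizer (R : Set G) ≤ A := by
  have hZc : IsMulCommutative ↥(R ⊓ Subgroup.centralizer (R : Set G)) := by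
    rw [← Subgroup.le_centralizer_iff_isMulCommutative]
    exact inf_le_right.trans (Subgroup.centralizer_le inf_le_left)
  have hAZ : IsMulCommutative ↥(A ⊔ (R ⊓ Subgroup.centralizer (R : Set G))) :=
    isMulCommutative_sup' hA.2.1 hZc
      (fun x hx c hc => ((Subgroup.mem_centralizer_iff.1 hc.2) x (hA.1 hx)))
  have hle : A ⊔ (R ⊓ Subgroup.centralizer (R : Set G)) ≤ R := sup_le hA.1 inf_le_left
  have hcard := hA.2.2 _ hle hAZ
  have h1 : A = A ⊔ (R ⊓ Subgroup.centralizer (R : Set G)) :=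
    Subgroup.eq_of_le_of_card_ge le_sup_left hcard
  rw [h1]
  exact le_sup_right

theorem zj_le [Finite G] (R : Subgroup G) : Cfsg.centerThompsonAOf R ≤ R := by
  rw [centerThompsonAOf_eq_zjI]
  exact zjI_le zjFamily_famAb _

theorem normalizer_le_normalizer_zj [Finite G] (R : Subgroup G) :
    Subgroup.normalizer (R : Set G) ≤ Subgroup.normalizer (Cfsg.centerThompsonAOf R : Set G) := by
  rw [centerThompsonAOf_eq_zjI]
  exact normalizer_le_normalizer_zjI zjFamily_famAb _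

theorem zj_ne_bot [Finite G] {p : ℕ} [Fact p.Prime] {R : Subgroup G} (hR : IsPGroup p R)
    (hR1 : R ≠ ⊥) : Cfsg.centerThompsonAOf R ≠ ⊥ := by
  rw [centerThompsonAOf_eq_zjI]
  haveI : Nontrivial ↥R := (Subgroup.nontrivial_iff_ne_bot R).2 hR1
  haveI hcn : Nontrivial (Subgroup.center ↥R) := hR.center_nontrivial
  obtain ⟨z, hz⟩ := exists_ne (1 : Subgroup.center ↥R)
  intro hbot
  have hzz : ((z : ↥R) : G) ∈ zjI famAb R := by
    apply le_zjI (X := R ⊓ Subgroup.centralizer (R : Set G))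
      (fun A hA => center_le_of_isMaxAbIn hA)
    refine ⟨(z : ↥R).2, ?_⟩
    show ((z : ↥R) : G) ∈ Subgroup.centralizer (R : Set G)
    rw [Subgroup.mem_centralizer_iff]
    intro r hr
    have h1 := Subgroup.mem_center_iff.1 z.2 ⟨r, hr⟩
    exact congrArg Subtype.val h1
  rw [hbot, Subgroup.mem_bot] at hzz
  apply hz
  apply Subtype.ext
  apply Subtype.ext
  exact hzz

theorem local_le [Finite G] {p : ℕ} [Fact p.Prime] (hp : p ≠ 2) (Q : Subgroup G)
    (h1 : Cfsg.pPrimeCore p ↥(Subgroup.normalizer (Q : Set G)) = ⊥)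
    (h2 : Cfsg.IsPConstrained p ↥(Subgroup.normalizer (Q : Set G)))
    (h3 : Cfsg.IsPStable p ↥(Subgroup.normalizer (Q : Set G)))
    (S₁ : Sylow p ↥(Subgroup.normalizer (Q : Set G))) :
    Subgroup.normalizer (Q : Set G) ≤ Subgroup.normalizer
      (Cfsg.centerThompsonAOf ((S₁ : Subgroup ↥(Subgroup.normalizer (Q : Set G))).map
        (Subgroup.normalizer (Q : Set G)).subtype) : Set G) := by
  have hn := (Cfsg.Agent.S0667.result hp h2 h3 S₁).2 h1
  rw [centerThompsonAOf_map (Subgroup.normalizer (Q : Set G)).subtype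
    (fun x _ hx => by simpa using hx)]
  intro n hn'
  rw [Subgroup.mem_normalizer_iff]
  intro x
  constructor
  · rintro ⟨z, hz, rfl⟩
    refine ⟨⟨n, hn'⟩ * z * ⟨n, hn'⟩⁻¹, hn.conj_mem z hz _, ?_⟩
    simp
  · rintro ⟨w, hw, hwx⟩
    refine ⟨⟨n, hn'⟩⁻¹ * w * ⟨n, hn'⟩⁻¹⁻¹, hn.conj_mem w hw _, ?_⟩
    have h4 : ((Subgroup.normalizer (Q : Set G)).subtype w : G) = n * x * n⁻¹ := hwx
    simp only [map_mul, map_inv, Subgroup.subtype_apply, inv_inv] at h4 ⊢
    rw [h4]
    group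

theorem zj_smul_eq [Finite G] {p : ℕ} [Fact p.Prime] (P₁ : Sylow p G) (m : G)
    (hm : m ∈ Subgroup.normalizer (Cfsg.centerThompsonAOf (P₁ : Subgroup G) : Set G)) :
    Cfsg.centerThompsonAOf ((m • P₁ : Sylow p G) : Subgroup G) =
      Cfsg.centerThompsonAOf (P₁ : Subgroup G) := by
  rw [Sylow.coe_subgroup_smul, conj_smul_eq_map, centerThompsonAOf_eq_zjI,
    ← zjI_map zjFamily_famAb, ← centerThompsonAOf_eq_zjI]
  exact Subgroup.mem_normalizer_iff_map_conj_eq.mp hm

theorem main [Finite G] {p : ℕ} [Fact p.Prime] (hp : p ≠ 2)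
    (hloc : ∀ Q : Subgroup G, IsPGroup p Q → Q ≠ ⊥ →
      Cfsg.pPrimeCore p ↥(Subgroup.normalizer (Q : Set G)) = ⊥ ∧
      Cfsg.IsPConstrained p ↥(Subgroup.normalizer (Q : Set G)) ∧
      Cfsg.IsPStable p ↥(Subgroup.normalizer (Q : Set G))) :
    ∀ (k : ℕ) (P : Sylow p G) (Q : Subgroup G), Q ≤ (P : Subgroup G) → Q ≠ ⊥ →
      Nat.card G - Nat.card ↥((P : Subgroup G) ⊓ Subgroup.normalizer (Q : Set G)) = k →
      Subgroup.normalizer (Q : Set G) ≤
        Subgroup.normalizer (Cfsg.centerThompsonAOf (P : Subgroup G) : Set G) := by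
  intro k
  induction k using Nat.strong_induction_on with
  | _ k ih =>
  intro P Q hQP hQ1 hk
  have IH : ∀ (P' : Sylow p G) (Q' : Subgroup G), Q' ≤ (P' : Subgroup G) → Q' ≠ ⊥ →
      Nat.card ↥((P : Subgroup G) ⊓ Subgroup.normalizer (Q : Set G)) <
        Nat.card ↥((P' : Subgroup G) ⊓ Subgroup.normalizer (Q' : Set G)) →
      Subgroup.normalizer (Q' : Set G) ≤
        Subgroup.normalizer (Cfsg.centerThompsonAOf (P' : Subgroup G) : Set G) := by
    intro P' Q' h1 h2 h3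
    refine ih (Nat.card G - Nat.card ↥((P' : Subgroup G) ⊓ Subgroup.normalizer (Q' : Set G))) ?_
      P' Q' h1 h2 rfl
    rw [← hk]
    have : Nat.card ↥((P' : Subgroup G) ⊓ Subgroup.normalizer (Q' : Set G)) ≤ Nat.card G :=
      Subgroup.card_le_card_group _
    omega
  have hQp : IsPGroup p Q := P.isPGroup'.to_le hQP
  obtain ⟨hl1, hl2, hl3⟩ := hloc Q hQp hQ1
  have hRp : IsPGroup p ↥(((P : Subgroup G) ⊓ Subgroup.normalizer (Q : Set G)).subgroupOf
      (Subgroup.normalizer (Q : Set G))) := IsPGroup.comap_subtype (P.isPGroup'.to_inf_left)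
  obtain ⟨S₁, hS₁⟩ := hRp.exists_le_sylow
  have hNQ₁ := local_le hp Q hl1 hl2 hl3 S₁
  generalize hR₁ : (S₁ : Subgroup ↥(Subgroup.normalizer (Q : Set G))).map
    (Subgroup.normalizer (Q : Set G)).subtype = R₁ at hNQ₁
  have hRR₁ : (P : Subgroup G) ⊓ Subgroup.normalizer (Q : Set G) ≤ R₁ := by
    intro x hx
    rw [← hR₁]
    exact ⟨⟨x, hx.2⟩, hS₁ (Subgroup.mem_subgroupOf.2 hx), rfl⟩
  have hR₁N : R₁ ≤ Subgroup.normalizer (Q : Set G) := by
    rw [← hR₁]; exact Subgroup.map_subtype_le _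
  have hR₁p : IsPGroup p R₁ := by
    rw [← hR₁]; exact S₁.isPGroup'.map _
  obtain ⟨P₁, hP₁⟩ := hR₁p.exists_le_sylow
  have hQR : Q ≤ (P : Subgroup G) ⊓ Subgroup.normalizer (Q : Set G) :=
    le_inf hQP Subgroup.le_normalizer
  have hR1 : (P : Subgroup G) ⊓ Subgroup.normalizer (Q : Set G) ≠ ⊥ := by
    intro h
    apply hQ1
    rw [eq_bot_iff, ← h]
    exact hQR
  have hR₁1 : R₁ ≠ ⊥ := by
    intro h
    apply hR1
    rw [eq_bot_iff, ← h]
    exact hRR₁
  have hNM₁ : Subgroup.normalizer (Q : Set G) ≤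
      Subgroup.normalizer (Cfsg.centerThompsonAOf (P₁ : Subgroup G) : Set G) := by
    by_cases hRP : R₁ = (P₁ : Subgroup G)
    · rw [hRP] at hNQ₁
      exact hNQ₁
    · have hlt : R₁ < (P₁ : Subgroup G) := lt_of_le_of_ne hP₁ hRP
      obtain ⟨x, hxP, hxN, hxR⟩ :=
        Cfsg.Agent.helper19.pgroup_normalizer_lt (P₁ : Subgroup G) R₁ P₁.isPGroup' hlt
      have hZ1 : Cfsg.centerThompsonAOf R₁ ≠ ⊥ := zj_ne_bot hR₁p hR₁1
      have hZle : Cfsg.centerThompsonAOf R₁ ≤ (P₁ : Subgroup G) := (zj_le R₁).trans hP₁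
      have hlt2 : R₁ < (P₁ : Subgroup G) ⊓
          Subgroup.normalizer (Cfsg.centerThompsonAOf R₁ : Set G) := by
        refine lt_of_le_of_ne
          (le_inf hP₁ (Subgroup.le_normalizer.trans (normalizer_le_normalizer_zj R₁))) ?_
        intro h
        apply hxR
        rw [h]
        exact ⟨hxP, normalizer_le_normalizer_zj R₁ hxN⟩
      have hcard : Nat.card ↥((P : Subgroup G) ⊓ Subgroup.normalizer (Q : Set G)) <
          Nat.card ↥((P₁ : Subgroup G) ⊓
            Subgroup.normalizer (Cfsg.centerThompsonAOf R₁ : Set G)) :=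
        lt_of_le_of_lt (Subgroup.card_le_of_le hRR₁) (card_lt_of_lt' hlt2)
      exact hNQ₁.trans (IH P₁ _ hZle hZ1 hcard)
  have hRT : (P : Subgroup G) ⊓ Subgroup.normalizer (Q : Set G) ≤ (P : Subgroup G) ⊓
      Subgroup.normalizer (Cfsg.centerThompsonAOf (P₁ : Subgroup G) : Set G) :=
    le_inf inf_le_left (inf_le_right.trans hNM₁)
  have hP₁M₁ : (P₁ : Subgroup G) ≤
      Subgroup.normalizer (Cfsg.centerThompsonAOf (P₁ : Subgroup G) : Set G) :=
    Subgroup.le_normalizer.trans (normalizer_le_normalizer_zj _)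
  obtain ⟨m, hm, hTm⟩ : ∃ m ∈ Subgroup.normalizer
      (Cfsg.centerThompsonAOf (P₁ : Subgroup G) : Set G),
      (P : Subgroup G) ⊓ Subgroup.normalizer (Cfsg.centerThompsonAOf (P₁ : Subgroup G) : Set G)
        ≤ ((m • P₁ : Sylow p G) : Subgroup G) := by
    have hTp : IsPGroup p ↥(((P : Subgroup G) ⊓ Subgroup.normalizer
        (Cfsg.centerThompsonAOf (P₁ : Subgroup G) : Set G)).subgroupOf
        (Subgroup.normalizer (Cfsg.centerThompsonAOf (P₁ : Subgroup G) : Set G))) :=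
      IsPGroup.comap_subtype (P.isPGroup'.to_inf_left)
    obtain ⟨S', hS'⟩ := hTp.exists_le_sylow
    obtain ⟨m, hm⟩ := MulAction.exists_smul_eq
      ↥(Subgroup.normalizer (Cfsg.centerThompsonAOf (P₁ : Subgroup G) : Set G))
      (P₁.subtype hP₁M₁) S'
    refine ⟨m, m.2, ?_⟩
    intro t ht
    have h1 : (⟨t, ht.2⟩ : ↥(Subgroup.normalizer
        (Cfsg.centerThompsonAOf (P₁ : Subgroup G) : Set G))) ∈
        (S' : Subgroup ↥(Subgroup.normalizer
          (Cfsg.centerThompsonAOf (P₁ : Subgroup G) : Set G))) :=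
      hS' (Subgroup.mem_subgroupOf.2 ht)
    rw [← hm, Sylow.coe_subgroup_smul, mem_conj_smul_iff, Sylow.coe_subtype,
      Subgroup.mem_subgroupOf] at h1
    rw [Sylow.coe_subgroup_smul, mem_conj_smul_iff]
    exact h1
  have hzj2 := zj_smul_eq P₁ m hm
  by_cases hTP : (P : Subgroup G) ⊓
      Subgroup.normalizer (Cfsg.centerThompsonAOf (P₁ : Subgroup G) : Set G) = (P : Subgroup G)
  · rw [hTP] at hTm
    have hPeq : ((m • P₁ : Sylow p G) : Subgroup G) = (P : Subgroup G) :=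
      P.is_maximal' (m • P₁ : Sylow p G).isPGroup' hTm
    rw [← hPeq, hzj2]
    exact hNM₁
  · exfalso
    have hTltP : (P : Subgroup G) ⊓
        Subgroup.normalizer (Cfsg.centerThompsonAOf (P₁ : Subgroup G) : Set G) < (P : Subgroup G) :=
      lt_of_le_of_ne inf_le_left hTP
    have hTltP₂ : (P : Subgroup G) ⊓
        Subgroup.normalizer (Cfsg.centerThompsonAOf (P₁ : Subgroup G) : Set G) <
        ((m • P₁ : Sylow p G) : Subgroup G) := by
      refine lt_of_le_of_ne hTm ?_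
      intro h
      have h2 : ((m • P₁ : Sylow p G) : Subgroup G) ≤ (P : Subgroup G) := by
        rw [← h]; exact inf_le_left
      have h3 : (P : Subgroup G) = ((m • P₁ : Sylow p G) : Subgroup G) :=
        (m • P₁ : Sylow p G).is_maximal' P.isPGroup' h2
      exact hTP (h.trans h3.symm)
    obtain ⟨x, hxP₂, hxN, hxT⟩ := Cfsg.Agent.helper19.pgroup_normalizer_lt _ _
      (m • P₁ : Sylow p G).isPGroup' hTltP₂
    have hT1 : (P : Subgroup G) ⊓
        Subgroup.normalizer (Cfsg.centerThompsonAOf (P₁ : Subgroup G) : Set G) ≠ ⊥ := by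
      intro h
      apply hR1
      rw [eq_bot_iff, ← h]
      exact hRT
    have hlt3 : (P : Subgroup G) ⊓
        Subgroup.normalizer (Cfsg.centerThompsonAOf (P₁ : Subgroup G) : Set G) <
        ((m • P₁ : Sylow p G) : Subgroup G) ⊓ Subgroup.normalizer (((P : Subgroup G) ⊓
          Subgroup.normalizer (Cfsg.centerThompsonAOf (P₁ : Subgroup G) : Set G) : Subgroup G) : Set G) := by
      refine lt_of_le_of_ne (le_inf hTm Subgroup.le_normalizer) ?_
      intro h
      apply hxT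
      rw [h]
      exact ⟨hxP₂, hxN⟩
    have hcard : Nat.card ↥((P : Subgroup G) ⊓ Subgroup.normalizer (Q : Set G)) <
        Nat.card ↥(((m • P₁ : Sylow p G) : Subgroup G) ⊓ Subgroup.normalizer (((P : Subgroup G) ⊓
          Subgroup.normalizer (Cfsg.centerThompsonAOf (P₁ : Subgroup G) : Set G) : Subgroup G) : Set G)) :=
      lt_of_le_of_lt (Subgroup.card_le_of_le hRT) (card_lt_of_lt' hlt3)
    have hNT := IH (m • P₁) _ hTm hT1 hcard
    rw [hzj2] at hNT
    obtain ⟨y, hyP, hyN, hyT⟩ := Cfsg.Agent.helper19.pgroup_normalizer_lt _ _ P.isPGroup' hTltP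
    exact hyT ⟨hyP, hNT hyN⟩

/-- In a group of characteristic p type all of whose p-locals are p-stable (p odd), the normalizer of Z(J(P)) contains the normalizer of every nontrivial subgroup of the Sylow p-subgroup P. -/
theorem result {G : Type*} [Group G] [Finite G] {p : ℕ} [Fact p.Prime] (hp : p ≠ 2) (hloc : ∀ Q : Subgroup G, IsPGroup p Q → Q ≠ ⊥ → Cfsg.pPrimeCore p ↥(Subgroup.normalizer (Q : Set G)) = ⊥ ∧ Cfsg.IsPConstrained p ↥(Subgroup.normalizer (Q : Set G)) ∧ Cfsg.IsPStable p ↥(Subgroup.normalizer (Q : Set G))) (P : Sylow p G) (Q : Subgroup G) (hQP : Q ≤ (P : Subgroup G)) (hQ1 : Q ≠ ⊥) : Subgroup.normalizer (Q : Set G) ≤ Subgroup.normalizer (Cfsg.centerThompsonAOf ((P : Subgroup G)) : Set G) := by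
  exact main hp hloc _ P Q hQP hQ1 rfl

end Cfsg.Agent.S0658
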