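import Mathlib
import Cfsg.Agent.Lib_helper10_Control
import Cfsg.Agent.Lib_helper10_Reach

set_option autoImplicit false

/-!
# Alperin's fusion theorem with tame intersections and `p`-element factors
-/

namespace Cfsg.Agent.helper10

variable {G : Type*} [Group G]

local notation:max K "^[" g "]" => Subgroup.map (MulEquiv.toMonoidHom (MulAut.conj g)) K

/-- `P ∩ Q` is a tame intersection. -/
def Tame (p : ℕ) (P Q : Sylow p G) : Prop :=
  (¬ p ∣ ((P : Subgroup G) ⊓ Subgroup.normalizer ((((P : Subgroup G) ⊓ (Q : Subgroup G)) : Subgroup G) : Set G)).relIndex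
    (Subgroup.normalizer ((((P : Subgroup G) ⊓ (Q : Subgroup G)) : Subgroup G) : Set G))) ∧
  ¬ p ∣ ((Q : Subgroup G) ⊓ Subgroup.normalizer ((((P : Subgroup G) ⊓ (Q : Subgroup G)) : Subgroup G) : Set G)).relIndex
    (Subgroup.normalizer ((((P : Subgroup G) ⊓ (Q : Subgroup G)) : Subgroup G) : Set G))

/-- An admissible step. -/
def StepOK (p : ℕ) (P : Sylow p G) (q : Sylow p G × G) : Prop :=
  q.2 ∈ Subgroup.normalizer ((((P : Subgroup G) ⊓ (q.1 : Subgroup G)) : Subgroup G) : Set G) ∧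
    Tame p P q.1 ∧ ((q.1 : Subgroup G) = (P : Subgroup G) ∨ ∃ k : ℕ, orderOf q.2 = p ^ k)

/-- The list of pairs (intersection, element). -/
def toPairs {p : ℕ} (P : Sylow p G) (l : List (Sylow p G × G)) : List (Subgroup G × G) :=
  l.map (fun q => ((P : Subgroup G) ⊓ (q.1 : Subgroup G), q.2))

theorem toPairs_snd {p : ℕ} (P : Sylow p G) (l : List (Sylow p G × G)) :
    (toPairs P l).map Prod.snd = l.map Prod.snd := by
  unfold toPairs
  rw [List.map_map]
  rfl

theorem toPairs_append {p : ℕ} (P : Sylow p G) (l₁ l₂ : List (Sylow p G × G)) :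
    toPairs P (l₁ ++ l₂) = toPairs P l₁ ++ toPairs P l₂ := by
  unfold toPairs
  rw [List.map_append]

/-- `Q ~ P` via `x`. -/
def Related (p : ℕ) (P Q : Sylow p G) (x : G) : Prop :=
  ∃ l : List (Sylow p G × G), (l.map Prod.snd).prod = x ∧ (∀ q ∈ l, StepOK p P q) ∧
    ChainCond ((((P : Subgroup G) ⊓ (Q : Subgroup G) : Subgroup G)) : Set G) (toPairs P l) ∧
    (Q : Subgroup G)^[x⁻¹] = (P : Subgroup G)

theorem related_refl (p : ℕ) (P : Sylow p G) : Related p P P 1 :=
  ⟨[], by simp, by simp, trivial, by rw [inv_one, map_conj_one]⟩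

/-- Concatenation. -/
theorem related_trans {p : ℕ} {P Q R : Sylow p G} {x y : G} (hQ : Related p P Q x)
    (hR : (P : Subgroup G) ⊓ (R : Subgroup G) ≤ (P : Subgroup G) ⊓ (Q : Subgroup G))
    (hRx : Related p P (x⁻¹ • R) y) : Related p P R (x * y) := by
  obtain ⟨l₁, h1, h2, h3, h4⟩ := hQ
  obtain ⟨l₂, k1, k2, k3, k4⟩ := hRx
  refine ⟨l₁ ++ l₂, by simp [h1, k1], ?_, ?_, ?_⟩
  · intro q hq
    rcases List.mem_append.mp hq with hq | hq
    · exact h2 q hq
    · exact k2 q hq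
  · rw [toPairs_append, chainCond_append, toPairs_snd, h1]
    refine ⟨chainCond_mono (SetLike.coe_subset_coe.2 hR) _ h3, ?_⟩
    refine chainCond_mono ?_ _ k3
    rw [rconj_coe, SetLike.coe_subset_coe, sylow_smul_eq_map_conj]
    apply le_inf
    · exact (Subgroup.map_mono (hR.trans inf_le_right)).trans (le_of_eq h4)
    · exact Subgroup.map_mono inf_le_right
  · rw [sylow_smul_eq_map_conj] at k4
    rw [mul_inv_rev, map_conj_mul, k4]

/-- A list decomposition for elements of the closure of an inverse-closed set. -/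
theorem exists_list_of_mem_closure_of_inv {s : Set G} (hs : ∀ x ∈ s, x⁻¹ ∈ s) {x : G}
    (hx : x ∈ Subgroup.closure s) : ∃ l : List G, (∀ y ∈ l, y ∈ s) ∧ l.prod = x := by
  have h1 : x ∈ (Subgroup.closure s).toSubmonoid := hx
  rw [Subgroup.closure_toSubmonoid] at h1
  have h2 : s ∪ s⁻¹ = s := by
    ext y
    constructor
    · rintro (hy | hy)
      · exact hy
      · have := hs _ hy
        simpa using this
    · intro hy; exact Or.inl hy
  rw [h2] at h1
  exact Submonoid.exists_list_of_mem_closure h1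

end Cfsg.Agent.helper10

namespace Cfsg.Agent.helper10

variable {G : Type*} [Group G]

local notation:max K "^[" g "]" => Subgroup.map (MulEquiv.toMonoidHom (MulAut.conj g)) K

/-- A `p`-subgroup `V` of `X` lies in a Sylow `p`-subgroup `R` of `G` with `R ∩ X` of index prime to
`p` in `X`. -/
theorem exists_sylow_ge_relSylow [Finite G] {p : ℕ} [Fact p.Prime] (X V : Subgroup G) (hVX : V ≤ X)
    (hV : IsPGroup p V) :
    ∃ R : Sylow p G, V ≤ (R : Subgroup G) ∧ ¬ p ∣ ((R : Subgroup G) ⊓ X).relIndex X := by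
  have hV' : IsPGroup p (V.subgroupOf X) := hV.comap_subtype
  obtain ⟨R', hR'⟩ := hV'.exists_le_sylow
  set R₀ := (R' : Subgroup X).map X.subtype with hR₀
  have hRp : IsPGroup p R₀ := R'.isPGroup'.map _
  have hRX : R₀ ≤ X := Subgroup.map_subtype_le _
  have hVR : V ≤ R₀ := by
    intro v hv
    exact ⟨⟨v, hVX hv⟩, hR' (by simpa [Subgroup.mem_subgroupOf] using hv), rfl⟩
  have hRi : ¬ p ∣ R₀.relIndex X := by
    have h1 : R₀.relIndex X = (R' : Subgroup X).index := by
      have h2 := Subgroup.relIndex_map_map_of_injective (R' : Subgroup X) ⊤ (Subgroup.subtype_injective X)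
      rw [Subgroup.relIndex_top_right, ← MonoidHom.range_eq_map, Subgroup.range_subtype] at h2
      exact h2
    rw [h1]; exact R'.not_dvd_index
  obtain ⟨R, hR⟩ := hRp.exists_le_sylow
  refine ⟨R, hVR.trans hR, ?_⟩
  have h4 : ((R : Subgroup G) ⊓ X).relIndex X ∣ R₀.relIndex X :=
    Subgroup.relIndex_dvd_of_le_left _ (le_inf hR hRX)
  exact fun h => hRi (dvd_trans h h4)

theorem chainCond_const (D : Subgroup G) : ∀ ks : List G,
    (∀ k ∈ ks, k ∈ Subgroup.normalizer (D : Set G)) →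
      ChainCond (D : Set G) (ks.map (fun k => (D, k))) := by
  intro ks
  induction ks with
  | nil => intro _; trivial
  | cons k ks ih =>
    intro h
    refine ⟨le_rfl, ?_⟩
    show ChainCond (rconj (D : Set G) k) _
    rw [rconj_eq_self_of_mem_normalizer D k (h k List.mem_cons_self)]
    exact ih (fun k' hk' => h k' (List.mem_cons_of_mem _ hk'))

theorem sylow_card_eq [Finite G] {p : ℕ} [Fact p.Prime] (P Q : Sylow p G) :
    Nat.card (Q : Subgroup G) = Nat.card (P : Subgroup G) := by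
  obtain ⟨g, rfl⟩ := MulAction.exists_smul_eq G P Q
  rw [sylow_smul_eq_map_conj, card_map_conj]

/-- Every Sylow `p`-subgroup is related to `P`. -/
theorem exists_related [Finite G] {p : ℕ} [Fact p.Prime] (P : Sylow p G) :
    ∀ (m : ℕ) (Q : Sylow p G),
      Nat.card (P : Subgroup G) - Nat.card ((P : Subgroup G) ⊓ (Q : Subgroup G) : Subgroup G) = m →
      ∃ x : G, Related p P Q x := by
  have hPp : IsPGroup p (P : Subgroup G) := P.isPGroup'
  intro m
  induction m using Nat.strong_induction_on with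
  | _ m IH =>
    intro Q hm
    by_cases hQP : (Q : Subgroup G) = (P : Subgroup G)
    · have : Q = P := Sylow.ext hQP
      subst this
      exact ⟨1, related_refl p Q⟩
    obtain ⟨D, hDdef⟩ : ∃ D : Subgroup G, D = (P : Subgroup G) ⊓ (Q : Subgroup G) := ⟨_, rfl⟩
    rw [← hDdef] at hm
    have hDP : D ≤ (P : Subgroup G) := by rw [hDdef]; exact inf_le_left
    have hDQ : D ≤ (Q : Subgroup G) := by rw [hDdef]; exact inf_le_right
    have hDltP : D < (P : Subgroup G) := by
      refine lt_of_le_of_ne hDP ?_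
      intro h
      apply hQP
      have hPQ : (P : Subgroup G) ≤ (Q : Subgroup G) := by rw [← h]; exact hDQ
      exact (Subgroup.eq_of_le_of_card_ge hPQ (le_of_eq (sylow_card_eq P Q))).symm
    have hcardDP : Nat.card D < Nat.card (P : Subgroup G) := card_lt_card_of_lt hDltP
    have IH' : ∀ Q' : Sylow p G,
        Nat.card D < Nat.card ((P : Subgroup G) ⊓ (Q' : Subgroup G) : Subgroup G) →
        ∃ x : G, Related p P Q' x := by
      intro Q' hlt
      have hle : Nat.card ((P : Subgroup G) ⊓ (Q' : Subgroup G) : Subgroup G) ≤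
          Nat.card (P : Subgroup G) := Subgroup.card_le_of_le inf_le_left
      exact IH _ (by omega) Q' rfl
    -- Step 1
    obtain ⟨X, hXdef⟩ : ∃ X : Subgroup G, X = Subgroup.normalizer (D : Set G) := ⟨_, rfl⟩
    have hDX : D ≤ X := by rw [hXdef]; exact Subgroup.le_normalizer
    have hDV : D < (P : Subgroup G) ⊓ X := by
      rw [hXdef]; exact lt_inf_normalizer_of_lt hPp hDltP
    obtain ⟨R, hVR, hRi⟩ := exists_sylow_ge_relSylow X ((P : Subgroup G) ⊓ X) inf_le_right
      (hPp.to_le inf_le_left)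
    have hDR : D ≤ (R : Subgroup G) := hDV.le.trans hVR
    have hcardR : Nat.card D < Nat.card ((P : Subgroup G) ⊓ (R : Subgroup G) : Subgroup G) :=
      lt_of_lt_of_le (card_lt_card_of_lt hDV) (Subgroup.card_le_of_le (le_inf inf_le_left hVR))
    obtain ⟨x, hx⟩ := IH' R hcardR
    have hRx : (R : Subgroup G)^[x⁻¹] = (P : Subgroup G) := by
      obtain ⟨_, _, _, _, h4⟩ := hx; exact h4
    have hDPR : (P : Subgroup G) ⊓ (Q : Subgroup G) ≤ (P : Subgroup G) ⊓ (R : Subgroup G) := by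
      rw [← hDdef]; exact le_inf hDP hDR
    -- Step 2
    obtain ⟨Q₁, hQ₁def⟩ : ∃ Q₁ : Sylow p G, Q₁ = x⁻¹ • Q := ⟨_, rfl⟩
    have hQ₁coe : (Q₁ : Subgroup G) = (Q : Subgroup G)^[x⁻¹] := by
      rw [hQ₁def, sylow_smul_eq_map_conj]
    obtain ⟨D₁, hD₁def⟩ : ∃ D₁ : Subgroup G, D₁ = D^[x⁻¹] := ⟨_, rfl⟩
    have hcardD₁ : Nat.card D₁ = Nat.card D := by rw [hD₁def, card_map_conj]
    have hD₁P : D₁ ≤ (P : Subgroup G) := by
      rw [hD₁def, ← hRx]; exact Subgroup.map_mono hDR
    have hD₁Q₁ : D₁ ≤ (Q₁ : Subgroup G) := by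
      rw [hD₁def, hQ₁coe]; exact Subgroup.map_mono hDQ
    by_cases h2 : Nat.card D < Nat.card ((P : Subgroup G) ⊓ (Q₁ : Subgroup G) : Subgroup G)
    · obtain ⟨y, hy⟩ := IH' Q₁ h2
      rw [hQ₁def] at hy
      exact ⟨x * y, related_trans hx hDPR hy⟩
    have hD₁eq : (P : Subgroup G) ⊓ (Q₁ : Subgroup G) = D₁ := by
      refine (Subgroup.eq_of_le_of_card_ge (le_inf hD₁P hD₁Q₁) ?_).symm
      rw [hcardD₁]; exact not_lt.1 h2
    suffices hsuff : ∃ y : G, Related p P Q₁ y by
      obtain ⟨y, hy⟩ := hsuff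
      rw [hQ₁def] at hy
      exact ⟨x * y, related_trans hx hDPR hy⟩
    obtain ⟨X₁, hX₁def⟩ : ∃ X₁ : Subgroup G, X₁ = Subgroup.normalizer (D₁ : Set G) := ⟨_, rfl⟩
    have hX₁X : X₁ = X^[x⁻¹] := by
      rw [hX₁def, hD₁def, normalizer_map_conj, hXdef]
    have hext₁ : ¬ p ∣ ((P : Subgroup G) ⊓ X₁).relIndex X₁ := by
      have h1 : (P : Subgroup G) ⊓ X₁ = ((R : Subgroup G) ⊓ X)^[x⁻¹] := by
        rw [map_conj_inf, hRx, hX₁X]
      rw [h1, hX₁X, relIndex_map_conj]
      exact hRi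
    -- Step 3
    have hQ₁p : IsPGroup p (Q₁ : Subgroup G) := Q₁.isPGroup'
    have hD₁ltQ₁ : D₁ < (Q₁ : Subgroup G) := by
      refine lt_of_le_of_ne hD₁Q₁ ?_
      intro h
      have h5 : Nat.card D₁ = Nat.card (P : Subgroup G) := by rw [h, sylow_card_eq P Q₁]
      omega
    have hD₁V₁ : D₁ < (Q₁ : Subgroup G) ⊓ X₁ := by
      rw [hX₁def]; exact lt_inf_normalizer_of_lt hQ₁p hD₁ltQ₁
    obtain ⟨Q', hV₁Q', hQ'i⟩ := exists_sylow_ge_relSylow X₁ ((Q₁ : Subgroup G) ⊓ X₁) inf_le_right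
      (hQ₁p.to_le inf_le_left)
    have hD₁Q' : D₁ ≤ (Q' : Subgroup G) := hD₁V₁.le.trans hV₁Q'
    have hcardV₁ : Nat.card D < Nat.card ((Q₁ : Subgroup G) ⊓ X₁ : Subgroup G) := by
      rw [← hcardD₁]; exact card_lt_card_of_lt hD₁V₁
    by_cases h3 : Nat.card D < Nat.card ((P : Subgroup G) ⊓ (Q' : Subgroup G) : Subgroup G)
    · -- case 3a
      obtain ⟨w, hw⟩ := IH' Q' h3
      have hQ'w : (Q' : Subgroup G)^[w⁻¹] = (P : Subgroup G) := by
        obtain ⟨_, _, _, _, h4⟩ := hw; exact h4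
      have hle : (((Q₁ : Subgroup G) ⊓ X₁)^[w⁻¹]) ≤
          (P : Subgroup G) ⊓ ((w⁻¹ • Q₁ : Sylow p G) : Subgroup G) := by
        apply le_inf
        · rw [← hQ'w]; exact Subgroup.map_mono hV₁Q'
        · rw [sylow_smul_eq_map_conj]; exact Subgroup.map_mono inf_le_left
      have hcard : Nat.card D <
          Nat.card ((P : Subgroup G) ⊓ ((w⁻¹ • Q₁ : Sylow p G) : Subgroup G) : Subgroup G) := by
        have := Subgroup.card_le_of_le hle
        rw [card_map_conj] at this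
        omega
      obtain ⟨y', hy'⟩ := IH' (w⁻¹ • Q₁) hcard
      refine ⟨w * y', related_trans hw ?_ hy'⟩
      rw [hD₁eq]
      exact le_inf hD₁P hD₁Q'
    -- case 3b
    have hQ'eq : (P : Subgroup G) ⊓ (Q' : Subgroup G) = D₁ := by
      refine (Subgroup.eq_of_le_of_card_ge (le_inf hD₁P hD₁Q') ?_).symm
      rw [hcardD₁]; exact not_lt.1 h3
    have htame : Tame p P Q' := by
      unfold Tame
      rw [hQ'eq, ← hX₁def]
      exact ⟨hext₁, hQ'i⟩
    obtain ⟨K, hKdef⟩ : ∃ K : Subgroup G,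
        K = Subgroup.closure {k : G | k ∈ X₁ ∧ ∃ j : ℕ, orderOf k = p ^ j} := ⟨_, rfl⟩
    have hKX₁ : K ≤ X₁ := by
      rw [hKdef, Subgroup.closure_le]
      intro k hk; exact hk.1
    have hpK : ∀ T : Subgroup G, T ≤ X₁ → IsPGroup p T → T ≤ K := by
      intro T hT hTp t ht
      rw [hKdef]
      apply Subgroup.subset_closure
      refine ⟨hT ht, ?_⟩
      obtain ⟨j, hj⟩ := IsPGroup.iff_orderOf.1 hTp ⟨t, ht⟩
      exact ⟨j, by rw [← hj, Subgroup.orderOf_mk]⟩
    have hrelK : ∀ T : Subgroup G, T ≤ K → ¬ p ∣ T.relIndex X₁ → ¬ p ∣ T.relIndex K := by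
      intro T hTK hTi hdvd
      apply hTi
      rw [← Subgroup.relIndex_mul_relIndex T K X₁ hTK hKX₁]
      exact dvd_mul_of_dvd_left hdvd _
    have hTK : (Q' : Subgroup G) ⊓ X₁ ≤ K := hpK _ inf_le_right (Q'.isPGroup'.to_le inf_le_left)
    have hT₂K : (P : Subgroup G) ⊓ X₁ ≤ K := hpK _ inf_le_right (hPp.to_le inf_le_left)
    obtain ⟨n, hnK, hn⟩ := relSylow_conj K ((Q' : Subgroup G) ⊓ X₁) ((P : Subgroup G) ⊓ X₁) hTK
      (Q'.isPGroup'.to_le inf_le_left) (hrelK _ hTK hQ'i) hT₂K (hPp.to_le inf_le_left)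
      (hrelK _ hT₂K hext₁)
    have hzK : n⁻¹ ∈ K := K.inv_mem hnK
    have hinvcl : ∀ k ∈ {k : G | k ∈ X₁ ∧ ∃ j : ℕ, orderOf k = p ^ j},
        k⁻¹ ∈ {k : G | k ∈ X₁ ∧ ∃ j : ℕ, orderOf k = p ^ j} := by
      rintro k ⟨hk1, j, hj⟩
      exact ⟨X₁.inv_mem hk1, j, by rw [orderOf_inv, hj]⟩
    rw [hKdef] at hzK
    obtain ⟨lz, hlz, hlzprod⟩ := exists_list_of_mem_closure_of_inv hinvcl hzK
    -- the next Sylow subgroup
    have hcardQ₂ : Nat.card D <
        Nat.card ((P : Subgroup G) ⊓ ((n • Q₁ : Sylow p G) : Subgroup G) : Subgroup G) := by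
      have hle : (((Q₁ : Subgroup G) ⊓ X₁)^[n]) ≤
          (P : Subgroup G) ⊓ ((n • Q₁ : Sylow p G) : Subgroup G) := by
        apply le_inf
        · have h1 : (Q₁ : Subgroup G) ⊓ X₁ ≤ (Q' : Subgroup G) ⊓ X₁ := le_inf hV₁Q' inf_le_right
          exact ((Subgroup.map_mono h1).trans (le_of_eq hn)).trans inf_le_left
        · rw [sylow_smul_eq_map_conj]; exact Subgroup.map_mono inf_le_left
      have := Subgroup.card_le_of_le hle
      rw [card_map_conj] at this
      omega
    obtain ⟨y'', l'', k1, k2, k3, k4⟩ := IH' (n • Q₁) hcardQ₂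
    refine ⟨n⁻¹ * y'', lz.map (fun k => (Q', k)) ++ l'', ?_, ?_, ?_, ?_⟩
    · rw [List.map_append, List.prod_append, k1, List.map_map]
      have : (Prod.snd ∘ fun k => (Q', k)) = (id : G → G) := by
        funext k; rfl
      rw [this, List.map_id, hlzprod]
    · intro q hq
      rcases List.mem_append.mp hq with hq | hq
      · obtain ⟨k, hk, rfl⟩ := List.mem_map.1 hq
        obtain ⟨hk1, hk2⟩ := hlz k hk
        refine ⟨?_, htame, Or.inr hk2⟩
        show k ∈ Subgroup.normalizer ((((P : Subgroup G) ⊓ (Q' : Subgroup G)) : Subgroup G) : Set G)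
        rw [hQ'eq, ← hX₁def]; exact hk1
      · exact k2 q hq
    · rw [toPairs_append, chainCond_append, toPairs_snd, hD₁eq]
      have hpairs : toPairs P (lz.map (fun k => (Q', k))) = lz.map (fun k => (D₁, k)) := by
        unfold toPairs
        rw [List.map_map]
        apply List.map_congr_left
        intro k _
        show ((P : Subgroup G) ⊓ (Q' : Subgroup G), k) = (D₁, k)
        rw [hQ'eq]
      have hprod : ((lz.map (fun k => (Q', k))).map Prod.snd).prod = n⁻¹ := by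
        rw [List.map_map]
        have : (Prod.snd ∘ fun k => (Q', k)) = (id : G → G) := by
          funext k; rfl
        rw [this, List.map_id, hlzprod]
      rw [hpairs, hprod]
      refine ⟨chainCond_const D₁ lz (fun k hk => by rw [← hX₁def]; exact (hlz k hk).1), ?_⟩
      refine chainCond_mono ?_ _ k3
      have hnX₁ : n⁻¹ ∈ Subgroup.normalizer (D₁ : Set G) := by
        rw [← hX₁def]; exact hKX₁ (K.inv_mem hnK)
      rw [rconj_eq_self_of_mem_normalizer D₁ n⁻¹ hnX₁, SetLike.coe_subset_coe]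
      apply le_inf hD₁P
      rw [sylow_smul_eq_map_conj]
      have h5 : D₁^[n] = D₁ :=
        (mem_normalizer_iff_map_conj D₁ n).1 (by rw [← hX₁def]; exact hKX₁ hnK)
      rw [← h5]
      exact Subgroup.map_mono hD₁Q₁
    · rw [sylow_smul_eq_map_conj] at k4
      rw [mul_inv_rev, inv_inv, map_conj_mul, k4]

end Cfsg.Agent.helper10
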