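import Mathlib
import Cfsg.Agent.Lib_helper10_AlperinP

set_option autoImplicit false

/-!
# Local control from `p`-group automizers at tame intersections
-/

namespace Cfsg.Agent.helper10

variable {G : Type*} [Group G]

/-- If `N_G(U)/C_G(U)` is a `p`-group and `N_P(U)` is Sylow in `N_G(U)`, the action of `N_G(U)` on
`U` is induced by `P`. -/
theorem local_control_of_pgroup_automizer [Finite G] {p : ℕ} [hp : Fact p.Prime]
    (P : Sylow p G) (U : Subgroup G)
    (htame : ¬ p ∣ ((P : Subgroup G) ⊓ Subgroup.normalizer (U : Set G)).relIndex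
      (Subgroup.normalizer (U : Set G)))
    (haut : IsPGroup p (Subgroup.normalizer (U : Set G) ⧸
      (Subgroup.centralizer (U : Set G)).subgroupOf (Subgroup.normalizer (U : Set G))))
    (x : G) (hx : x ∈ Subgroup.normalizer (U : Set G)) :
    ∃ y ∈ (P : Subgroup G), ∀ t ∈ U, y * t * y⁻¹ = x * t * x⁻¹ := by
  set N := Subgroup.normalizer (U : Set G) with hN
  let f : N →* MulAut U := U.normalizerMonoidHom
  have hrange : IsPGroup p f.range := by
    rintro ⟨φ, n, rfl⟩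
    obtain ⟨k, hk⟩ := haut (QuotientGroup.mk n)
    refine ⟨k, ?_⟩
    apply Subtype.ext
    simp only [Subgroup.coe_pow, Subgroup.coe_one]
    rw [← map_pow]
    have hmem : (n ^ p ^ k : N) ∈ f.ker := by
      rw [Subgroup.normalizerMonoidHom_ker]
      rw [← QuotientGroup.mk_pow, QuotientGroup.eq_one_iff] at hk
      exact hk
    exact hmem
  obtain ⟨j, hj⟩ := IsPGroup.iff_card.mp hrange
  set Q : Subgroup N := ((P : Subgroup G) ⊓ N).subgroupOf N with hQ
  have hQidx : ¬ p ∣ Q.index := htame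
  have hmap : Q.map f.rangeRestrict = ⊤ := by
    rw [← Subgroup.index_eq_one]
    have h1 : (Q.map f.rangeRestrict).index ∣ Q.index :=
      Subgroup.index_map_dvd Q f.rangeRestrict_surjective
    have h2 : (Q.map f.rangeRestrict).index ∣ p ^ j := by
      rw [← hj]; exact Subgroup.index_dvd_card _
    obtain ⟨i, hi, hi'⟩ := (Nat.dvd_prime_pow hp.out).mp h2
    rcases Nat.eq_zero_or_pos i with h0 | h0
    · rw [hi', h0, pow_zero]
    · exfalso
      apply hQidx
      refine dvd_trans ?_ h1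
      rw [hi']
      exact dvd_pow_self p h0.ne'
  have hxm : f.rangeRestrict ⟨x, hx⟩ ∈ Q.map f.rangeRestrict := by
    rw [hmap]; exact Subgroup.mem_top _
  obtain ⟨y, hyQ, hy⟩ := hxm
  have hyP : (y : G) ∈ (P : Subgroup G) := by
    have hyQ' : y ∈ ((P : Subgroup G) ⊓ N).subgroupOf N := hyQ
    rw [Subgroup.mem_subgroupOf] at hyQ'
    exact hyQ'.1
  refine ⟨(y : G), hyP, ?_⟩
  intro t ht
  have h1 : f y = f ⟨x, hx⟩ := by
    have := congrArg Subtype.val hy
    simpa using this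
  have h2 : ((f y ⟨t, ht⟩ : U) : G) = ((f ⟨x, hx⟩ ⟨t, ht⟩ : U) : G) := by rw [h1]
  rw [Subgroup.normalizerMonoidHom_apply_apply_coe,
    Subgroup.normalizerMonoidHom_apply_apply_coe] at h2
  exact h2

/-- `P ∩ P` is a tame intersection. -/
theorem tame_self [Finite G] {p : ℕ} [hp : Fact p.Prime] (P : Sylow p G) : Tame p P P := by
  have h1 : (P : Subgroup G) ⊓ Subgroup.normalizer ((((P : Subgroup G) ⊓ (P : Subgroup G)) : Subgroup G) : Set G)
      = (P : Subgroup G) := by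
    rw [inf_idem]
    exact inf_eq_left.2 Subgroup.le_normalizer
  have h2 : ¬ p ∣ ((P : Subgroup G) ⊓ Subgroup.normalizer ((((P : Subgroup G) ⊓ (P : Subgroup G)) : Subgroup G) : Set G)).relIndex
      (Subgroup.normalizer ((((P : Subgroup G) ⊓ (P : Subgroup G)) : Subgroup G) : Set G)) := by
    rw [h1]
    intro hdvd
    rw [inf_idem] at hdvd
    have h3 := Subgroup.relIndex_mul_index (Subgroup.le_normalizer (H := (P : Subgroup G)))
    exact P.not_dvd_index (h3 ▸ Dvd.dvd.mul_right hdvd _)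
  exact ⟨h2, h2⟩

end Cfsg.Agent.helper10

namespace Cfsg.Agent.helper10

variable {G : Type*} [Group G]

/-- If `P` induces the action of `N_G(P ∩ Q)` on every tame intersection `P ∩ Q`, then `P`
controls fusion of its subgroups. -/
theorem tame_control [Finite G] {p : ℕ} [hp : Fact p.Prime] (P : Sylow p G)
    (key : ∀ Q : Sylow p G, Tame p P Q →
      ∀ x ∈ Subgroup.normalizer ((((P : Subgroup G) ⊓ (Q : Subgroup G)) : Subgroup G) : Set G),
      ∃ y ∈ (P : Subgroup G), ∀ t ∈ (P : Subgroup G) ⊓ (Q : Subgroup G), y * t * y⁻¹ = x * t * x⁻¹)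
    (T : Subgroup G) (hT : T ≤ (P : Subgroup G)) (g : G)
    (hg : T.map (MulAut.conj g).toMonoidHom ≤ (P : Subgroup G)) :
    ∃ u ∈ (P : Subgroup G), ∀ t ∈ T, u * t * u⁻¹ = g * t * g⁻¹ := by
  set 𝓕 : Set (Subgroup G) := {T | ∀ x ∈ Subgroup.normalizer (T : Set G),
    ∃ y ∈ (P : Subgroup G), ∀ t ∈ T, y * t * y⁻¹ = x * t * x⁻¹} with h𝓕
  obtain ⟨x, l, hl1, hl2, hl3, hl4⟩ := exists_related P _ (g⁻¹ • P) rfl
  have hTQ : T ≤ (P : Subgroup G) ⊓ ((g⁻¹ • P : Sylow p G) : Subgroup G) := by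
    refine le_inf hT ?_
    rw [sylow_smul_eq_map_conj, ← map_conj_le_iff]
    exact hg
  have hpairs : ∀ q ∈ toPairs P l, q.1 ∈ 𝓕 ∧ q.2 ∈ Subgroup.normalizer ((q.1 : Subgroup G) : Set G) := by
    intro q hq
    unfold toPairs at hq
    rw [List.mem_map] at hq
    obtain ⟨q', hq', rfl⟩ := hq
    obtain ⟨h1, h2, -⟩ := hl2 q' hq'
    exact ⟨fun z hz => key q'.1 h2 z hz, h1⟩
  obtain ⟨y, hy, hyB⟩ := chain_control (𝓕 := 𝓕) (N := (P : Subgroup G))
    (fun T hT z hz => hT z hz) (toPairs P l) _ hpairs hl3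
  rw [toPairs_snd, hl1] at hyB
  -- the remaining factor normalizes `P`
  have hn : x⁻¹ * g⁻¹ ∈ Subgroup.normalizer (((P : Subgroup G)) : Set G) := by
    rw [mem_normalizer_iff_map_conj, map_conj_mul, ← sylow_smul_eq_map_conj]
    exact hl4
  have hn' : (x⁻¹ * g⁻¹)⁻¹ ∈ Subgroup.normalizer
      ((((P : Subgroup G) ⊓ (P : Subgroup G)) : Subgroup G) : Set G) := by
    rw [inf_idem]
    exact Subgroup.inv_mem _ hn
  obtain ⟨y', hy', hy'P⟩ := key P (tame_self P) _ hn'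
  refine ⟨y' * y⁻¹, Subgroup.mul_mem _ hy' (Subgroup.inv_mem _ hy), ?_⟩
  intro t ht
  have h1 := hyB t (hTQ ht)
  have h2 : y⁻¹ * t * y ∈ (P : Subgroup G) ⊓ (P : Subgroup G) := by
    rw [inf_idem]
    exact Subgroup.mul_mem _ (Subgroup.mul_mem _ (Subgroup.inv_mem _ hy) (hT ht)) hy
  have h3 := hy'P _ h2
  calc y' * y⁻¹ * t * (y' * y⁻¹)⁻¹ = y' * (y⁻¹ * t * y) * y'⁻¹ := by group
    _ = (x⁻¹ * g⁻¹)⁻¹ * (y⁻¹ * t * y) * ((x⁻¹ * g⁻¹)⁻¹)⁻¹ := h3
    _ = (x⁻¹ * g⁻¹)⁻¹ * (x⁻¹ * t * x) * ((x⁻¹ * g⁻¹)⁻¹)⁻¹ := by rw [h1]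
    _ = g * t * g⁻¹ := by group

end Cfsg.Agent.helper10

namespace Cfsg.Agent.helper10

variable {G : Type*} [Group G]

/-- Accumulating the commutators along a chain. -/
theorem chain_focal (R : Subgroup G) :
    ∀ (l : List (Subgroup G × G)) (B : Set G),
      (∀ q ∈ l, ∀ t ∈ q.1, t * (q.2⁻¹ * t * q.2)⁻¹ ∈ R) →
      ChainCond B l →
      ∀ b ∈ B, b * (((l.map Prod.snd).prod)⁻¹ * b * (l.map Prod.snd).prod)⁻¹ ∈ R := by
  intro l
  induction l with
  | nil => intro B _ _ b _; simp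
  | cons q l ih =>
    intro B hq hB b hb
    obtain ⟨hBq, hB'⟩ := hB
    have h1 := hq q List.mem_cons_self b (hBq hb)
    have hb' : q.2⁻¹ * b * q.2 ∈ rconj B q.2 := ⟨b, hb, rfl⟩
    have h2 := ih (rconj B q.2) (fun q' hq' => hq q' (List.mem_cons_of_mem _ hq')) hB' _ hb'
    have h3 := R.mul_mem h1 h2
    simp only [List.map_cons, List.prod_cons]
    have h4 : b * (q.2⁻¹ * b * q.2)⁻¹ * (q.2⁻¹ * b * q.2 *
        ((List.map Prod.snd l).prod⁻¹ * (q.2⁻¹ * b * q.2) * (List.map Prod.snd l).prod)⁻¹)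
        = b * ((q.2 * (List.map Prod.snd l).prod)⁻¹ * b * (q.2 * (List.map Prod.snd l).prod))⁻¹ := by
      group
    rw [← h4]
    exact h3

end Cfsg.Agent.helper10
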