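import Mathlib
import Cfsg.Prelude.Def_ConjugacyFunctors
import Cfsg.Agent.Lib_helper10_Control
import Cfsg.Agent.Lib_helper10_WellPlaced
import Cfsg.Agent.Lib_helper10_Sec3

set_option autoImplicit false

/-!
# Control of transfer: basic lemmas
-/

namespace Cfsg.Agent.helper10

open scoped commutatorElement

section basic

variable {G : Type*} [Group G]

local notation:max K "^[" g "]" => Subgroup.map (MulEquiv.toMonoidHom (MulAut.conj g)) K

/-- The subgroup generated by the `T ∩ (N_H(W T))'`. -/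
def RT (𝓦 : Set (Subgroup G → Subgroup G)) (H T : Subgroup G) : Subgroup G :=
  ⨆ W ∈ 𝓦, T ⊓ ⁅H ⊓ Subgroup.normalizer ((W T : Subgroup G) : Set G),
    H ⊓ Subgroup.normalizer ((W T : Subgroup G) : Set G)⁆

theorem RT_le (𝓦 : Set (Subgroup G → Subgroup G)) (H T : Subgroup G) :
    RT 𝓦 H T ≤ T ⊓ ⁅H, H⁆ := by
  unfold RT
  refine iSup₂_le fun W _ => ?_
  exact inf_le_inf_left _ (Subgroup.commutator_mono inf_le_left inf_le_left)

theorem le_RT {𝓦 : Set (Subgroup G → Subgroup G)} (H T : Subgroup G)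
    (W : Subgroup G → Subgroup G) (hW : W ∈ 𝓦) :
    T ⊓ ⁅H ⊓ Subgroup.normalizer ((W T : Subgroup G) : Set G),
      H ⊓ Subgroup.normalizer ((W T : Subgroup G) : Set G)⁆ ≤ RT 𝓦 H T := by
  unfold RT
  exact le_iSup₂_of_le W hW le_rfl

theorem RT_mono (𝓦 : Set (Subgroup G → Subgroup G)) {H H' : Subgroup G} (h : H ≤ H')
    (T : Subgroup G) : RT 𝓦 H T ≤ RT 𝓦 H' T := by
  unfold RT
  refine iSup₂_le fun W hW => ?_
  refine le_iSup₂_of_le W hW ?_
  exact inf_le_inf_left _ (Subgroup.commutator_mono (inf_le_inf_right _ h) (inf_le_inf_right _ h))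

theorem map_conj_commutator (A B : Subgroup G) (n : G) : ⁅A, B⁆^[n] = ⁅A^[n], B^[n]⁆ :=
  Subgroup.map_commutator A B _

theorem map_conj_iSup {ι : Sort*} (f : ι → Subgroup G) (n : G) : (⨆ i, f i)^[n] = ⨆ i, (f i)^[n] :=
  Subgroup.map_iSup _ f

/-- Conjugation-equivariance of `RT`. -/
theorem RT_conj {p : ℕ} {𝓦 : Set (Subgroup G → Subgroup G)}
    (h𝓦 : ∀ W ∈ 𝓦, Cfsg.IsConjugacyFunctor p W) (H T : Subgroup G) (hT : IsPGroup p T) (n : G)
    (hn : H^[n] = H) : (RT 𝓦 H T)^[n] = RT 𝓦 H (T^[n]) := by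
  unfold RT
  rw [map_conj_iSup]
  congr 1
  funext W
  rw [map_conj_iSup]
  congr 1
  funext hW
  rw [map_conj_inf, map_conj_commutator, map_conj_inf, ← normalizer_map_conj, hn,
    (h𝓦 W hW T hT).2.2 n]

/-- The focal criterion: to show `T ∩ H' ≤ R'` for a Sylow subgroup `T` of `H`, it suffices to
treat the elements `a (h⁻¹ a h)⁻¹`. -/
theorem inf_commutator_le_of_focal [Finite G] {p : ℕ} [Fact p.Prime] (H T : Subgroup G)
    (hTH : T ≤ H) (hTp : IsPGroup p T) (hTi : ¬ p ∣ T.relIndex H) (R' : Subgroup G)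
    (hfoc : ∀ a ∈ T, ∀ h ∈ H, h⁻¹ * a * h ∈ T → a * (h⁻¹ * a * h)⁻¹ ∈ R') :
    T ⊓ ⁅H, H⁆ ≤ R' := by
  have hTp' : IsPGroup p (T.subgroupOf H) := hTp.comap_subtype
  obtain ⟨P, hP⟩ : ∃ P : Sylow p H, (P : Subgroup H) = T.subgroupOf H :=
    ⟨hTp'.toSylow hTi, IsPGroup.toSylow_coe hTp' hTi⟩
  have hfocal := Subgroup.commutator_inf_eq_focalSubgroup P
  intro x hx
  obtain ⟨hxT, hxc⟩ := Subgroup.mem_inf.1 hx
  have hxH : x ∈ H := hTH hxT
  have h1 : (⟨x, hxH⟩ : H) ∈ commutator H ⊓ (P : Subgroup H) := by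
    refine Subgroup.mem_inf.2 ⟨?_, ?_⟩
    · rw [← Subgroup.map_subtype_commutator] at hxc
      obtain ⟨y, hy, hyx⟩ := hxc
      have : y = ⟨x, hxH⟩ := Subtype.ext hyx
      rw [← this]; exact hy
    · rw [hP, Subgroup.mem_subgroupOf]; exact hxT
  rw [hfocal, Subgroup.focalSubgroup_def] at h1
  have key : ∀ y : H, y ∈ Subgroup.closure {g : H | g ∈ (P : Subgroup H) ∧
      ∃ x ∈ (P : Subgroup H), ∃ u : H, g = ⁅x, u⁆} → (y : G) ∈ R' := by
    intro y hy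
    induction hy using Subgroup.closure_induction with
    | mem g hg =>
      obtain ⟨hgP, a, haP, u, rfl⟩ := hg
      rw [hP, Subgroup.mem_subgroupOf] at hgP haP
      have h2 : ((u⁻¹ : H) : G)⁻¹ * (a : G) * ((u⁻¹ : H) : G) ∈ T := by
        have h3 : ((u⁻¹ : H) : G)⁻¹ * (a : G) * ((u⁻¹ : H) : G) =
            (((a : G))⁻¹ * ((⁅a, u⁆ : H) : G))⁻¹ := by
          rw [commutatorElement_def]
          push_cast
          group
        rw [h3]
        exact T.inv_mem (T.mul_mem (T.inv_mem haP) hgP)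
      have h4 := hfoc (a : G) haP ((u⁻¹ : H) : G) (u⁻¹).2 h2
      have h5 : ((⁅a, u⁆ : H) : G) =
          (a : G) * (((u⁻¹ : H) : G)⁻¹ * (a : G) * ((u⁻¹ : H) : G))⁻¹ := by
        rw [commutatorElement_def]
        push_cast
        group
      rw [h5]
      exact h4
    | one => exact R'.one_mem
    | mul a b _ _ ha hb => exact R'.mul_mem ha hb
    | inv a _ ha => exact R'.inv_mem ha
  exact key _ h1

/-- Control of transfer holds at every Sylow subgroup of `H`. -/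
theorem fct_sylow [Finite G] {p : ℕ} [Fact p.Prime] {𝓦 : Set (Subgroup G → Subgroup G)}
    (h𝓦 : ∀ W ∈ 𝓦, Cfsg.IsConjugacyFunctor p W) {H : Subgroup G}
    (hc : Cfsg.FamilyControlsTransferIn p 𝓦 H) (T₂ : Subgroup G) (hT₂H : T₂ ≤ H)
    (hT₂p : IsPGroup p T₂) (hT₂i : ¬ p ∣ T₂.relIndex H) :
    T₂ ⊓ ⁅H, H⁆ ≤ RT 𝓦 H T₂ := by
  obtain ⟨T₁, hT₁H, hT₁p, hT₁i, heq⟩ := hc
  obtain ⟨n, hn, hnT⟩ := relSylow_conj H T₁ T₂ hT₁H hT₁p hT₁i hT₂H hT₂p hT₂i
  have hHn : H^[n] = H := map_conj_eq_self_of_mem H n hn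
  have h1 : (T₁ ⊓ ⁅H, H⁆)^[n] = T₂ ⊓ ⁅H, H⁆ := by
    rw [map_conj_inf, map_conj_commutator, hHn, hnT]
  have h2 : (RT 𝓦 H T₁)^[n] = RT 𝓦 H T₂ := by
    rw [RT_conj h𝓦 H T₁ hT₁p n hHn, hnT]
  rw [← h1, ← h2]
  apply Subgroup.map_mono
  rw [heq]
  exact le_rfl

theorem fct_of_le {p : ℕ} {𝓦 : Set (Subgroup G → Subgroup G)} (H T : Subgroup G)
    (hTH : T ≤ H) (hTp : IsPGroup p T) (hTi : ¬ p ∣ T.relIndex H)
    (h : T ⊓ ⁅H, H⁆ ≤ RT 𝓦 H T) : Cfsg.FamilyControlsTransferIn p 𝓦 H :=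
  ⟨T, hTH, hTp, hTi, le_antisymm h (RT_le 𝓦 H T)⟩

theorem RT_singleton (W : Subgroup G → Subgroup G) (H T : Subgroup G) :
    RT {W} H T = T ⊓ ⁅H ⊓ Subgroup.normalizer ((W T : Subgroup G) : Set G),
      H ⊓ Subgroup.normalizer ((W T : Subgroup G) : Set G)⁆ := by
  unfold RT
  simp

theorem fct_singleton_iff {p : ℕ} (W : Subgroup G → Subgroup G) (H : Subgroup G) :
    Cfsg.FamilyControlsTransferIn p {W} H ↔ Cfsg.ControlsTransferIn p W H := by
  unfold Cfsg.FamilyControlsTransferIn Cfsg.ControlsTransferIn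
  simp

end basic

end Cfsg.Agent.helper10
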