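import Mathlib
import Cfsg.Prelude.Def_ConjugacyFunctors
import Cfsg.Agent.Lib_helper10_Tr1
import Cfsg.Agent.Lib_helper10_Alperin
import Cfsg.Agent.Lib_helper10_TameCtl

set_option autoImplicit false

/-!
# Control of transfer: local to global
-/

namespace Cfsg.Agent.helper10

open scoped commutatorElement

section lg

variable {G : Type*} [Group G]

local notation:max K "^[" g "]" => Subgroup.map (MulEquiv.toMonoidHom (MulAut.conj g)) K

theorem card_lt_card_of_lt' [Finite G] {A B : Subgroup G} (h : A < B) : Nat.card A < Nat.card B := by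
  have h4 : ((A : Subgroup G) : Set G) ⊂ ((B : Subgroup G) : Set G) := SetLike.coe_ssubset_coe.mpr h
  have h5 := Set.ncard_lt_ncard h4 (Set.toFinite _)
  rwa [← Nat.card_coe_set_eq, ← Nat.card_coe_set_eq] at h5

/-- The element `t (n⁻¹ t n)⁻¹` lies in `U ∩ N(U)'` for `t ∈ U`, `n ∈ N(U)`. -/
theorem focal_elt_mem (U : Subgroup G) (t n : G) (ht : t ∈ U)
    (hn : n ∈ Subgroup.normalizer (U : Set G)) :
    t * (n⁻¹ * t * n)⁻¹ ∈ U ⊓ ⁅Subgroup.normalizer (U : Set G), Subgroup.normalizer (U : Set G)⁆ := by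
  refine Subgroup.mem_inf.2 ⟨?_, ?_⟩
  · refine U.mul_mem ht (U.inv_mem ?_)
    have h1 : n⁻¹ ∈ Subgroup.normalizer (U : Set G) := Subgroup.inv_mem _ hn
    have h2 := (Subgroup.mem_normalizer_iff.1 h1 t).1 ht
    simpa using h2
  · have h1 : t * (n⁻¹ * t * n)⁻¹ = ⁅t, n⁻¹⁆ := by
      rw [commutatorElement_def]; group
    rw [h1]
    exact Subgroup.commutator_mem_commutator (Subgroup.le_normalizer ht) (Subgroup.inv_mem _ hn)

/-- General key lemma: if the focal elements of the normalizers of the members of a conjugation family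
(of order at least `m`) lie in `R`, then all focal elements `a (g⁻¹ a g)⁻¹` for `a` in a subgroup `A` of
order at least `m` lie in `R`. -/
theorem key_gen [Finite G] {p : ℕ} [Fact p.Prime] (S : Sylow p G) (𝓕 : Set (Subgroup G))
    (h𝓕 : ∀ U ∈ 𝓕, U ≤ (S : Subgroup G))
    (h : ∀ T : Subgroup G, T ≤ (S : Subgroup G) → ∃ U ∈ 𝓕,
      (∃ g : G, T.map (MulAut.conj g).toMonoidHom = U) ∧
      ¬ p ∣ ((S : Subgroup G) ⊓ Subgroup.normalizer ((U : Subgroup G) : Set G)).relIndex
        (Subgroup.normalizer ((U : Subgroup G) : Set G)))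
    (R : Subgroup G) (m : ℕ)
    (hQ : ∀ U ∈ 𝓕, U ≠ ⊥ → m ≤ Nat.card U →
      U ⊓ ⁅Subgroup.normalizer (U : Set G), Subgroup.normalizer (U : Set G)⁆ ≤ R)
    (A : Subgroup G) (hAS : A ≤ (S : Subgroup G)) (hm : m ≤ Nat.card A) (g : G)
    (hg : rconj (A : Set G) g ⊆ (S : Subgroup G)) :
    ∀ a ∈ A, a * (g⁻¹ * a * g)⁻¹ ∈ R := by
  intro a ha
  by_cases hA : A = ⊥
  · have : a = 1 := by
      rw [hA] at ha; exact Subgroup.mem_bot.1 ha
    rw [this]; simp
  obtain ⟨l, hl, hq, hchain⟩ := alperin_chain S 𝓕 h𝓕 h _ A g rfl hAS hg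
  have hall : ∀ q ∈ l, ∀ t ∈ q.1, t * (q.2⁻¹ * t * q.2)⁻¹ ∈ R := by
    intro q hql t ht
    obtain ⟨hq1, hq2⟩ := hq q hql
    obtain ⟨x, hx⟩ := chainCond_conj_subset l (A : Set G) hchain q hql
    rw [rconj_coe] at hx
    have hle : A^[x⁻¹] ≤ q.1 := hx
    have hcard : Nat.card A ≤ Nat.card q.1 := by
      have := Subgroup.card_le_of_le hle
      rwa [card_map_conj] at this
    have hne : q.1 ≠ ⊥ := by
      intro hbot
      apply hA
      rw [hbot] at hcard
      have h1 : Nat.card A = 1 := by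
        have := Nat.card_pos (α := A)
        rw [Subgroup.card_bot] at hcard
        omega
      exact Subgroup.card_eq_one.1 h1
    exact hQ q.1 hq1 hne (hm.trans hcard) (focal_elt_mem q.1 t q.2 ht hq2)
  have := chain_focal R l (A : Set G) hall hchain a ha
  rwa [hl] at this

/-- Focal criterion at the top. -/
theorem inf_commutator_top_le [Finite G] {p : ℕ} [Fact p.Prime] (S : Sylow p G) (R : Subgroup G)
    (hkey : ∀ A : Subgroup G, A ≤ (S : Subgroup G) → ∀ g : G,
      rconj (A : Set G) g ⊆ (S : Subgroup G) → ∀ a ∈ A, a * (g⁻¹ * a * g)⁻¹ ∈ R) :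
    (S : Subgroup G) ⊓ ⁅(⊤ : Subgroup G), ⊤⁆ ≤ R := by
  refine inf_commutator_le_of_focal ⊤ (S : Subgroup G) le_top S.isPGroup' ?_ R ?_
  · rw [Subgroup.relIndex_top_right]; exact S.not_dvd_index
  · intro a ha h _ hah
    refine hkey (Subgroup.zpowers a) ?_ h ?_ a (Subgroup.mem_zpowers a)
    · rw [Subgroup.zpowers_le]; exact ha
    · rintro _ ⟨b, hb, rfl⟩
      obtain ⟨n, rfl⟩ := Subgroup.mem_zpowers_iff.1 hb
      have h1 : h⁻¹ * a ^ n * h = (h⁻¹ * a * h) ^ n := by
        have := map_zpow (MulAut.conj h⁻¹) a n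
        simp only [MulAut.conj_apply, inv_inv] at this
        exact this
      show h⁻¹ * a ^ n * h ∈ (S : Subgroup G)
      rw [h1]
      exact Subgroup.zpow_mem _ hah n

/-- The extremal family. -/
def extFam {p : ℕ} (S : Sylow p G) : Set (Subgroup G) :=
  {U | U ≤ (S : Subgroup G) ∧
    ¬ p ∣ ((S : Subgroup G) ⊓ Subgroup.normalizer ((U : Subgroup G) : Set G)).relIndex
        (Subgroup.normalizer ((U : Subgroup G) : Set G))}

theorem extFam_spec [Finite G] {p : ℕ} [Fact p.Prime] (S : Sylow p G) :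
    ∀ T : Subgroup G, T ≤ (S : Subgroup G) → ∃ U ∈ extFam S,
      (∃ g : G, T.map (MulAut.conj g).toMonoidHom = U) ∧
      ¬ p ∣ ((S : Subgroup G) ⊓ Subgroup.normalizer ((U : Subgroup G) : Set G)).relIndex
        (Subgroup.normalizer ((U : Subgroup G) : Set G)) := by
  intro T hT
  obtain ⟨g, hg1, hg2⟩ := exists_extremal_conj S T T (S.isPGroup'.to_le hT) Subgroup.le_normalizer
  exact ⟨T^[g], ⟨hg1, hg2⟩, ⟨g, rfl⟩, hg2⟩

/-- The inductive statement. -/
def QT {p : ℕ} (S : Sylow p G) (R : Subgroup G) (m : ℕ) : Prop :=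
  ∀ T : Subgroup G, T ≤ (S : Subgroup G) → T ≠ ⊥ →
    ¬ p ∣ ((S : Subgroup G) ⊓ Subgroup.normalizer ((T : Subgroup G) : Set G)).relIndex
        (Subgroup.normalizer ((T : Subgroup G) : Set G)) →
    m ≤ Nat.card ((S : Subgroup G) ⊓ Subgroup.normalizer ((T : Subgroup G) : Set G) : Subgroup G) →
    ((S : Subgroup G) ⊓ Subgroup.normalizer ((T : Subgroup G) : Set G)) ⊓
      ⁅Subgroup.normalizer ((T : Subgroup G) : Set G), Subgroup.normalizer ((T : Subgroup G) : Set G)⁆ ≤ R

theorem key_of_QT [Finite G] {p : ℕ} [Fact p.Prime] (S : Sylow p G) (R : Subgroup G) (m : ℕ)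
    (hQ : QT S R m) (A : Subgroup G) (hAS : A ≤ (S : Subgroup G)) (hm : m ≤ Nat.card A) (g : G)
    (hg : rconj (A : Set G) g ⊆ (S : Subgroup G)) :
    ∀ a ∈ A, a * (g⁻¹ * a * g)⁻¹ ∈ R := by
  refine key_gen S (extFam S) (fun U hU => hU.1) (extFam_spec S) R m ?_ A hAS hm g hg
  intro U hU hne hmU
  have h1 : U ≤ (S : Subgroup G) ⊓ Subgroup.normalizer ((U : Subgroup G) : Set G) :=
    le_inf hU.1 Subgroup.le_normalizer
  refine le_trans (inf_le_inf_right _ h1) (hQ U hU.1 hne hU.2 ?_)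
  exact hmU.trans (Subgroup.card_le_of_le h1)

theorem not_dvd_relIndex_of_le {p : ℕ} {A L N : Subgroup G} (hAL : A ≤ L) (hLN : L ≤ N)
    (h : ¬ p ∣ A.relIndex N) : ¬ p ∣ A.relIndex L := by
  intro hd
  apply h
  rw [← Subgroup.relIndex_mul_relIndex A L N hAL hLN]
  exact Dvd.dvd.mul_right hd _

theorem le_normalizer_functor {p : ℕ} {W : Subgroup G → Subgroup G}
    (hW : Cfsg.IsConjugacyFunctor p W) (P : Subgroup G) (hP : IsPGroup p P) :
    Subgroup.normalizer (P : Set G) ≤ Subgroup.normalizer ((W P : Subgroup G) : Set G) := by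
  intro x hx
  rw [mem_normalizer_iff_map_conj] at hx ⊢
  rw [← (hW P hP).2.2 x, hx]

theorem QT_step [Finite G] {p : ℕ} [Fact p.Prime] (S : Sylow p G)
    (𝓦 : Set (Subgroup G → Subgroup G)) (h𝓦 : ∀ W ∈ 𝓦, Cfsg.IsConjugacyFunctor p W)
    (R : Subgroup G)
    (hR : ∀ W ∈ 𝓦, (S : Subgroup G) ⊓ ⁅Subgroup.normalizer ((W (S : Subgroup G) : Subgroup G) : Set G),
      Subgroup.normalizer ((W (S : Subgroup G) : Subgroup G) : Set G)⁆ ≤ R)
    (hloc : ∀ T : Subgroup G, T ≤ (S : Subgroup G) → T ≠ ⊥ →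
      ¬ p ∣ ((S : Subgroup G) ⊓ Subgroup.normalizer ((T : Subgroup G) : Set G)).relIndex
        (Subgroup.normalizer ((T : Subgroup G) : Set G)) →
      Cfsg.FamilyControlsTransferIn p 𝓦 (Subgroup.normalizer ((T : Subgroup G) : Set G)))
    (m : ℕ) (hQ : QT S R (m + 1)) : QT S R m := by
  intro T hTS hT1 hFN hm
  set N := Subgroup.normalizer ((T : Subgroup G) : Set G) with hN
  set S₁ := (S : Subgroup G) ⊓ N with hS₁
  have hS₁p : IsPGroup p S₁ := S.isPGroup'.to_le inf_le_left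
  have hTS₁ : T ≤ S₁ := le_inf hTS Subgroup.le_normalizer
  have hS₁ne : S₁ ≠ ⊥ := by
    intro hbot
    apply hT1
    rw [eq_bot_iff, ← hbot]; exact hTS₁
  have h1 := fct_sylow h𝓦 (hloc T hTS hT1 hFN) S₁ inf_le_right hS₁p hFN
  refine h1.trans ?_
  unfold RT
  refine iSup₂_le fun W hW => ?_
  have hWc := h𝓦 W hW
  set D := W S₁ with hD
  set L := N ⊓ Subgroup.normalizer ((D : Subgroup G) : Set G) with hL
  by_cases hS₁S : S₁ = (S : Subgroup G)
  · refine le_trans ?_ (hR W hW)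
    rw [hS₁S]
    refine inf_le_inf_left _ (Subgroup.commutator_mono ?_ ?_)
    · rw [hL, hD, hS₁S]; exact inf_le_right
    · rw [hL, hD, hS₁S]; exact inf_le_right
  · have hlt : S₁ < (S : Subgroup G) := lt_of_le_of_ne inf_le_left hS₁S
    have hlt' := lt_inf_normalizer_of_lt S.isPGroup' hlt
    have hDS₁ : D ≤ S₁ := (hWc S₁ hS₁p).1
    have hDne : D ≠ ⊥ := (hWc S₁ hS₁p).2.1 hS₁ne
    set A' := (S : Subgroup G) ⊓ Subgroup.normalizer ((D : Subgroup G) : Set G) with hA'
    have hA'p : IsPGroup p A' := S.isPGroup'.to_le inf_le_left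
    have hS₁A' : S₁ < A' :=
      lt_of_lt_of_le hlt' (inf_le_inf_left _ (le_normalizer_functor hWc S₁ hS₁p))
    have hcardA' : m + 1 ≤ Nat.card A' := by
      have := card_lt_card_of_lt' hS₁A'
      omega
    have hDA' : D ≤ A' := le_inf (hDS₁.trans inf_le_left) Subgroup.le_normalizer
    obtain ⟨k, hk1, hk2⟩ := exists_extremal_conj S D A' hA'p inf_le_right
    have hDk : D^[k] ≤ (S : Subgroup G) := (Subgroup.map_mono hDA').trans hk1
    have hDkne : D^[k] ≠ ⊥ := by
      intro hbot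
      apply hDne
      exact (Subgroup.map_eq_bot_iff_of_injective D (MulAut.conj k).injective).1 hbot
    have hA'k : A'^[k] ≤ (S : Subgroup G) ⊓ Subgroup.normalizer ((D^[k] : Subgroup G) : Set G) := by
      refine le_inf hk1 ?_
      rw [normalizer_map_conj]
      exact Subgroup.map_mono inf_le_right
    have hstar := hQ (D^[k]) hDk hDkne hk2 (by
      have := Subgroup.card_le_of_le hA'k
      rw [card_map_conj] at this
      omega)
    -- the key lemma for (A', k⁻¹)
    have hkey := key_of_QT S R (m + 1) hQ A' inf_le_left hcardA' k⁻¹ (by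
      rw [rconj_coe, inv_inv]
      exact hk1)
    -- S₁ is Sylow in L
    have hS₁L : S₁ ≤ L := le_inf inf_le_right
      ((Subgroup.le_normalizer).trans (le_normalizer_functor hWc S₁ hS₁p))
    have hS₁i : ¬ p ∣ S₁.relIndex L := not_dvd_relIndex_of_le hS₁L inf_le_left hFN
    refine inf_commutator_le_of_focal L S₁ hS₁L hS₁p hS₁i R ?_
    intro a ha h hh hah
    have haA' : a ∈ A' := hS₁A'.le ha
    have hbA' : h⁻¹ * a * h ∈ A' := hS₁A'.le hah
    have h2 := hkey a haA'
    have h3 := hkey _ hbA'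
    simp only [inv_inv] at h2 h3
    -- the middle element
    have h4 : (k * a * k⁻¹) * (k * (h⁻¹ * a * h) * k⁻¹)⁻¹ ∈ R := by
      apply hstar
      refine Subgroup.mem_inf.2 ⟨?_, ?_⟩
      · refine Subgroup.mul_mem _ (hA'k ?_) (Subgroup.inv_mem _ (hA'k ?_))
        · rw [mem_map_conj_iff]
          have : k⁻¹ * (k * a * k⁻¹) * k = a := by group
          rw [this]; exact haA'
        · rw [mem_map_conj_iff]
          have : k⁻¹ * (k * (h⁻¹ * a * h) * k⁻¹) * k = h⁻¹ * a * h := by group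
          rw [this]; exact hbA'
      · have e : (k * a * k⁻¹) * (k * (h⁻¹ * a * h) * k⁻¹)⁻¹ = ⁅k * a * k⁻¹, k * h⁻¹ * k⁻¹⁆ := by
          rw [commutatorElement_def]; group
        rw [e]
        have hn : ∀ y ∈ Subgroup.normalizer ((D : Subgroup G) : Set G),
            k * y * k⁻¹ ∈ Subgroup.normalizer ((D^[k] : Subgroup G) : Set G) := by
          intro y hy
          rw [normalizer_map_conj, mem_map_conj_iff]
          have : k⁻¹ * (k * y * k⁻¹) * k = y := by group
          rw [this]; exact hy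
        exact Subgroup.commutator_mem_commutator (hn a haA'.2)
          (hn _ (Subgroup.inv_mem _ hh.2))
    have h5 := R.mul_mem (R.mul_mem h2 h4) (R.inv_mem h3)
    have e : a * (k * a * k⁻¹)⁻¹ * ((k * a * k⁻¹) * (k * (h⁻¹ * a * h) * k⁻¹)⁻¹) *
        ((h⁻¹ * a * h) * (k * (h⁻¹ * a * h) * k⁻¹)⁻¹)⁻¹ = a * (h⁻¹ * a * h)⁻¹ := by group
    rw [← e]
    exact h5

/-- Local-to-global principle for control of transfer. -/
theorem lg_transfer [Finite G] {p : ℕ} [Fact p.Prime] (S : Sylow p G)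
    (𝓦 : Set (Subgroup G → Subgroup G)) (h𝓦 : ∀ W ∈ 𝓦, Cfsg.IsConjugacyFunctor p W)
    (R : Subgroup G)
    (hR : ∀ W ∈ 𝓦, (S : Subgroup G) ⊓ ⁅Subgroup.normalizer ((W (S : Subgroup G) : Subgroup G) : Set G),
      Subgroup.normalizer ((W (S : Subgroup G) : Subgroup G) : Set G)⁆ ≤ R)
    (hloc : ∀ T : Subgroup G, T ≤ (S : Subgroup G) → T ≠ ⊥ →
      ¬ p ∣ ((S : Subgroup G) ⊓ Subgroup.normalizer ((T : Subgroup G) : Set G)).relIndex
        (Subgroup.normalizer ((T : Subgroup G) : Set G)) →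
      Cfsg.FamilyControlsTransferIn p 𝓦 (Subgroup.normalizer ((T : Subgroup G) : Set G))) :
    (S : Subgroup G) ⊓ ⁅(⊤ : Subgroup G), ⊤⁆ ≤ R := by
  have hall : ∀ k : ℕ, QT S R (Nat.card (S : Subgroup G) + 1 - k) := by
    intro k
    induction k with
    | zero =>
      intro T _ _ _ hm
      exfalso
      have := Subgroup.card_le_of_le (inf_le_left :
        (S : Subgroup G) ⊓ Subgroup.normalizer ((T : Subgroup G) : Set G) ≤ (S : Subgroup G))
      omega
    | succ k ih =>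
      by_cases hk : k < Nat.card (S : Subgroup G) + 1
      · have e : Nat.card (S : Subgroup G) + 1 - k = (Nat.card (S : Subgroup G) + 1 - (k + 1)) + 1 := by
          omega
        rw [e] at ih
        exact QT_step S 𝓦 h𝓦 R hR hloc _ ih
      · have e : Nat.card (S : Subgroup G) + 1 - (k + 1) = Nat.card (S : Subgroup G) + 1 - k := by omega
        rw [e]; exact ih
  have h0 : QT S R 0 := by
    have := hall (Nat.card (S : Subgroup G) + 1)
    simpa using this
  exact inf_commutator_top_le S R fun A hAS g hg =>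
    key_of_QT S R 0 h0 A hAS (Nat.zero_le _) g hg

end lg

end Cfsg.Agent.helper10
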