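import Cfsg.Statements.S1990
import Cfsg.Agent.Lib_helper3_PAP
import Cfsg.Agent.Lib_helper10_Tr2
import Cfsg.Agent.Lib_helper10_Thompson3
set_option autoImplicit false
universe u
open Cfsg

namespace Cfsg.Agent.S1990


open Cfsg.Agent.helper3 in
/-- In the Thompson configuration the group is (`p`-group)-by-abelian-by-(`p`-group). -/
theorem isPAP_of_config {Y : Type u} [Group Y] [Finite Y] {p : ℕ} [hp : Fact p.Prime]
    (hnpc : Cfsg.HasNormalPComplement p (Y ⧸ Cfsg.pCore p Y))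
    (T : Sylow p Y) (hT : IsCoatom (T : Subgroup Y)) : IsPAP p Y := by
  have hPT : Cfsg.pCore p Y ≤ (T : Subgroup Y) := Cfsg.Agent.helper1.pCore_le_sylow T
  have hsurj : Function.Surjective (QuotientGroup.mk' (Cfsg.pCore p Y)) :=
    QuotientGroup.mk'_surjective _
  obtain ⟨Tb, hTb⟩ : ∃ Tb : Sylow p (Y ⧸ Cfsg.pCore p Y),
      (Tb : Subgroup (Y ⧸ Cfsg.pCore p Y)) =
        (T : Subgroup Y).map (QuotientGroup.mk' (Cfsg.pCore p Y)) :=
    ⟨T.mapSurjective hsurj, rfl⟩
  have hTbc : IsCoatom (Tb : Subgroup (Y ⧸ Cfsg.pCore p Y)) := by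
    rw [hTb]; exact Cfsg.Agent.helper10.isCoatom_map_mk _ _ hPT hT
  obtain ⟨Kb, hKn, hKcop, hKab, hTK⟩ := Cfsg.Agent.helper10.coatom_sylow_structure Tb hTbc hnpc
  haveI := hKn
  refine ⟨Kb.comap (QuotientGroup.mk' (Cfsg.pCore p Y)), hKn.comap _, ?_, ?_⟩
  · apply (Cfsg.Agent.helper1.pCore_isPGroup (G := Y) p).to_le
    rw [Subgroup.commutator_le]
    intro k₁ hk₁ k₂ hk₂
    rw [← QuotientGroup.eq_one_iff, ← QuotientGroup.mk'_apply, map_commutatorElement,
      commutatorElement_eq_one_iff_mul_comm]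
    exact hKab _ hk₁ _ hk₂
  · intro x
    obtain ⟨t, ht, c, hc, hx⟩ := hTK (QuotientGroup.mk' (Cfsg.pCore p Y) x)
    obtain ⟨n, hn⟩ := Tb.isPGroup' ⟨t, ht⟩
    have hn' : t ^ p ^ n = 1 := by
      have := congrArg Subtype.val hn
      simpa using this
    refine ⟨n, ?_⟩
    rw [Subgroup.mem_comap, map_pow, hx]
    have h1 : (QuotientGroup.mk' Kb (t * c)) ^ p ^ n = 1 := by
      have hc1 : (QuotientGroup.mk' Kb) c = 1 := by
        rw [QuotientGroup.mk'_apply, QuotientGroup.eq_one_iff]; exact hc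
      rw [map_mul, hc1, mul_one, ← map_pow, hn', map_one]
    rw [← map_pow] at h1
    exact (QuotientGroup.eq_one_iff _).1 h1

/-- Let p be an odd prime, G a finite group with Sylow p-subgroup S, and W an isomorphism-invariant p-group functor (W assigns to every group Q a subgroup W(Q), nontrivial whenever Q is a nontrivial finite p-group, and every isomorphism from a finite p-group Q onto a group R carries W(Q) onto W(R)). Suppose N_G(W(S)) has a normal p-complement, and W(T) controls strong fusion in every section G* = K/R of G all of whose sections are p-stable in the normalizer form, for every Sylow p-subgroup T of G*. Then G has a normal p-complement. -/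
theorem result {G : Type u} [Group G] [Finite G] {p : ℕ} [Fact p.Prime] (hp : p ≠ 2) (W : ∀ (Q : Type u) [Group Q], Subgroup Q) (hW : Cfsg.IsCharPFunctor.{u} p W) (S : Sylow p G) (hN : Cfsg.HasNormalPComplement p ↥(Subgroup.normalizer ((Cfsg.inducedFunctor (G := G) W (S : Subgroup G) : Subgroup G) : Set G))) (hctl : ∀ (K R : Subgroup G) [hR : (R.subgroupOf K).Normal], (∀ (K' R' : Subgroup (↥K ⧸ R.subgroupOf K)) [hR' : (R'.subgroupOf K').Normal], Cfsg.IsNormalizerPStable p (↥K' ⧸ R'.subgroupOf K')) → ∀ T : Sylow p (↥K ⧸ R.subgroupOf K), Cfsg.ControlsStrongFusion p (Cfsg.inducedFunctor (G := (↥K ⧸ R.subgroupOf K)) W (T : Subgroup (↥K ⧸ R.subgroupOf K)))) : Cfsg.HasNormalPComplement p G := by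
  apply Cfsg.Agent.helper10.thompson_main hW _ G rfl _ S hN
  apply Cfsg.Agent.helper10.hypT_of_sections hW
  intro K R hR hcon hnpc T hT
  have hpap : Cfsg.Agent.helper3.IsPAP p (↥K ⧸ R.subgroupOf K) := isPAP_of_config hnpc T hT
  obtain ⟨T', hUT', hfus⟩ := hctl K R
    (fun K' R' hR' => Cfsg.Agent.helper3.isNormalizerPStable_of_isPAP hp (hpap.sect K' R')) T
  have hWc := Cfsg.Agent.helper10.induced_isConjugacyFunctor (X := (↥K ⧸ R.subgroupOf K)) W hW
  have hTN := Cfsg.Agent.helper10.le_normalizer_functor hWc (T : Subgroup (↥K ⧸ R.subgroupOf K))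
    T.isPGroup'
  haveI hPn := Cfsg.Agent.helper1.pCore_normal (G := (↥K ⧸ R.subgroupOf K)) p
  apply Subgroup.normalizer_eq_top_iff.mp
  rw [eq_top_iff]
  intro y _
  have hA : ((Cfsg.pCore p (↥K ⧸ R.subgroupOf K) : Subgroup (↥K ⧸ R.subgroupOf K)) :
      Set (↥K ⧸ R.subgroupOf K)) ⊆ (T' : Subgroup (↥K ⧸ R.subgroupOf K)) :=
    Cfsg.Agent.helper1.pCore_le_sylow T'
  obtain ⟨x, hxN, hx⟩ := (hfus _ hA).2 y (by
    rintro _ ⟨a, ha, rfl⟩
    exact hA (hPn.conj_mem a ha y))
  have hc : x⁻¹ * y ∈ Subgroup.centralizer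
      ((Cfsg.pCore p (↥K ⧸ R.subgroupOf K) : Subgroup (↥K ⧸ R.subgroupOf K)) :
        Set (↥K ⧸ R.subgroupOf K)) := by
    rw [Subgroup.mem_centralizer_iff]
    intro a ha
    have h1 := hx a ha
    calc a * (x⁻¹ * y) = x⁻¹ * (x * a * x⁻¹) * y := by group
      _ = x⁻¹ * (y * a * y⁻¹) * y := by rw [h1]
      _ = x⁻¹ * y * a := by group
  have h2 : x⁻¹ * y ∈ Subgroup.normalizer
      ((Cfsg.inducedFunctor W (T : Subgroup (↥K ⧸ R.subgroupOf K)) :
        Subgroup (↥K ⧸ R.subgroupOf K)) : Set (↥K ⧸ R.subgroupOf K)) :=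
    hTN (Subgroup.le_normalizer ((Cfsg.Agent.helper1.pCore_le_sylow T) (hcon hc)))
  have h3 : y = x * (x⁻¹ * y) := by group
  rw [h3]
  exact Subgroup.mul_mem _ hxN h2

end Cfsg.Agent.S1990
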