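import Mathlib
import Cfsg.Agent.Lib_helper3_ZJD2
import Cfsg.Agent.Lib_helper3_PStab2
import Cfsg.Agent.Lib_helper3_PAP
import Cfsg.Agent.Lib_helper10_Thompson3
import Cfsg.Agent.S0658
import Cfsg.Agent.S1990

/-! The Glauberman–Thompson normal `p`-complement theorem for strongly closed subgroups
(helper3). -/

set_option autoImplicit false

namespace Cfsg.Agent.helper3

open Cfsg
open scoped commutatorElement

universe u

section eaMap

variable {G H : Type*} [Group G] [Group H] {p : ℕ}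

theorem ea_comap_inf (f : G →* H) {P : Subgroup G} (hinj : ∀ x ∈ P, f x = 1 → x = 1)
    {B : Subgroup H} (hB : Cfsg.IsElementaryAbelian p B) :
    Cfsg.IsElementaryAbelian p (B.comap f ⊓ P) :=
  ⟨isMulCommutative_comap_inf f hinj B hB.1, fun a ha =>
    hinj _ (P.pow_mem ha.2 p) (by rw [map_pow]; exact hB.2 _ ha.1)⟩

theorem isMaxEAIn_map (f : G →* H) {P A : Subgroup G} (hinj : ∀ x ∈ P, f x = 1 → x = 1)
    (hA : IsMaxEAIn p P A) : IsMaxEAIn p (P.map f) (A.map f) := by
  refine ⟨Subgroup.map_mono hA.1, ea_map hA.2.1 f, fun B hBP hB => ?_⟩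
  rw [card_map_of_injOn f hinj hA.1, ← map_comap_inf_eq f hBP,
    card_map_of_injOn f hinj inf_le_right]
  exact hA.2.2 _ inf_le_right (ea_comap_inf f hinj hB)

theorem isMaxEAIn_comap (f : G →* H) {P : Subgroup G} {B : Subgroup H}
    (hinj : ∀ x ∈ P, f x = 1 → x = 1)
    (hB : IsMaxEAIn p (P.map f) B) : IsMaxEAIn p P (B.comap f ⊓ P) := by
  refine ⟨inf_le_right, ea_comap_inf f hinj hB.2.1, fun A hAP hA => ?_⟩
  rw [← card_map_of_injOn f hinj (inf_le_right : B.comap f ⊓ P ≤ P), map_comap_inf_eq f hB.1,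
    ← card_map_of_injOn f hinj hAP]
  exact hB.2.2 _ (Subgroup.map_mono hAP) (ea_map hA f)

/-- `Ω₁(Z(J_e(P)))` commutes with homomorphisms injective on `P`. -/
theorem zjI_famEA_map [Finite G] (f : G →* H) {P : Subgroup G}
    (hinj : ∀ x ∈ P, f x = 1 → x = 1) :
    zjI (famEA p) (P.map f) = (zjI (famEA p) P).map f := by
  apply le_antisymm
  · intro y hy
    obtain ⟨A₀, hA₀⟩ := exists_isMaxEAIn p P
    have h0 : y ∈ A₀.map f := zjI_le_of_mem (𝔄 := famEA p) (isMaxEAIn_map f hinj hA₀) hy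
    obtain ⟨a₀, ha₀, rfl⟩ := h0
    refine ⟨a₀, ?_, rfl⟩
    apply le_zjI (X := Subgroup.zpowers a₀) _ (Subgroup.mem_zpowers a₀)
    intro A hA
    rw [Subgroup.zpowers_le]
    have h1 : f a₀ ∈ A.map f := zjI_le_of_mem (𝔄 := famEA p) (isMaxEAIn_map f hinj hA) hy
    obtain ⟨a, ha, hfa⟩ := h1
    have := eq_of_map_eq_of_injOn f hinj (hA.1 ha) (hA₀.1 ha₀) hfa
    rw [← this]; exact ha
  · rintro _ ⟨x, hx, rfl⟩
    apply le_zjI (X := Subgroup.zpowers (f x)) _ (Subgroup.mem_zpowers _)
    intro B hB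
    rw [Subgroup.zpowers_le]
    have h1 : x ∈ B.comap f ⊓ P :=
      zjI_le_of_mem (𝔄 := famEA p) (isMaxEAIn_comap f hinj hB) hx
    exact h1.1

theorem zjI_famEA_ne_bot [Finite G] [hp : Fact p.Prime] {R : Subgroup G} (hR : IsPGroup p R)
    (hR1 : R ≠ ⊥) : zjI (famEA p) R ≠ ⊥ := by
  haveI : Nontrivial ↥R := (Subgroup.nontrivial_iff_ne_bot R).2 hR1
  haveI hcn : Nontrivial (Subgroup.center ↥R) := hR.center_nontrivial
  have hcp : IsPGroup p (Subgroup.center ↥R) := hR.to_subgroup _
  obtain ⟨k, hk⟩ := IsPGroup.iff_card.mp hcp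
  have hk0 : k ≠ 0 := by
    intro h0
    rw [h0, pow_zero] at hk
    have := (Nat.card_eq_one_iff_unique.mp hk).1
    exact not_subsingleton _ this
  have hdvd : p ∣ Nat.card (Subgroup.center ↥R) := by rw [hk]; exact dvd_pow_self p hk0
  obtain ⟨z, hz⟩ := exists_prime_orderOf_dvd_card' p hdvd
  have hzp : (((z : ↥R) : G)) ^ p = 1 := by
    have h1 : z ^ p = 1 := by
      have h0 := pow_orderOf_eq_one z
      rwa [hz] at h0
    have h2 := congrArg (fun w : Subgroup.center ↥R => (((w : ↥R)) : G)) h1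
    simpa using h2
  have hz1 : (((z : ↥R) : G)) ≠ 1 := by
    intro h1
    have hz' : z = 1 := by
      apply Subtype.ext; apply Subtype.ext; exact h1
    rw [hz', orderOf_one] at hz
    exact hp.out.one_lt.ne hz
  have hzR : (((z : ↥R) : G)) ∈ R := (z : ↥R).2
  have hzc : ∀ r ∈ R, (((z : ↥R) : G)) * r = r * (((z : ↥R) : G)) := by
    intro r hr
    have h1 := Subgroup.mem_center_iff.1 z.2 ⟨r, hr⟩
    exact (congrArg Subtype.val h1).symm
  intro hbot
  have hmem : (((z : ↥R) : G)) ∈ zjI (famEA p) R := by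
    apply le_zjI (X := Subgroup.zpowers (((z : ↥R) : G))) _ (Subgroup.mem_zpowers _)
    intro A hA
    have hsup : Cfsg.IsElementaryAbelian p (A ⊔ Subgroup.zpowers (((z : ↥R) : G))) := by
      apply ea_sup hA.2.1 (ea_zpowers _ hzp)
      intro a ha b hb
      obtain ⟨j, rfl⟩ := Subgroup.mem_zpowers_iff.1 hb
      have hc : Commute (((z : ↥R) : G)) a := hzc a (hA.1 ha)
      exact (hc.zpow_left j).symm.eq
    have hle : A ⊔ Subgroup.zpowers (((z : ↥R) : G)) ≤ R :=
      sup_le hA.1 (Subgroup.zpowers_le.2 hzR)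
    have hcard := hA.2.2 _ hle hsup
    have heq : A = A ⊔ Subgroup.zpowers (((z : ↥R) : G)) :=
      Subgroup.eq_of_le_of_card_ge le_sup_left hcard
    rw [heq]
    exact le_sup_right
  rw [hbot, Subgroup.mem_bot] at hmem
  exact hz1 hmem

end eaMap

section closed

variable {X : Type*} [Group X]

theorem stronglyClosed_self (S : Subgroup X) : Cfsg.IsStronglyClosed S S :=
  ⟨le_rfl, fun _ _ _ h => h⟩

theorem stronglyClosed_subgroupOf {D S : Subgroup X} (hD : Cfsg.IsStronglyClosed D S)
    (M : Subgroup X) : Cfsg.IsStronglyClosed (D.subgroupOf M) (S.subgroupOf M) := by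
  refine ⟨fun x hx => ?_, fun x hx g hg => ?_⟩
  · rw [Subgroup.mem_subgroupOf] at hx ⊢
    exact hD.1 hx
  · rw [Subgroup.mem_subgroupOf] at hx hg ⊢
    have := hD.2 _ hx (g : X) (by simpa using hg)
    simpa using this

theorem stronglyClosed_conj {D S : Subgroup X} (hD : Cfsg.IsStronglyClosed D S) (g : X) :
    Cfsg.IsStronglyClosed (D.map (MulAut.conj g).toMonoidHom)
      (S.map (MulAut.conj g).toMonoidHom) := by
  refine ⟨Subgroup.map_mono hD.1, ?_⟩
  rintro _ ⟨d, hd, rfl⟩ h hh
  obtain ⟨s, hs, hse⟩ := hh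
  have h1 : (g⁻¹ * h * g) * d * (g⁻¹ * h * g)⁻¹ = s := by
    have h2 : g * s * g⁻¹ = h * (g * d * g⁻¹) * h⁻¹ := by
      simpa [MulAut.conj_apply] using hse
    calc (g⁻¹ * h * g) * d * (g⁻¹ * h * g)⁻¹ = g⁻¹ * (h * (g * d * g⁻¹) * h⁻¹) * g := by group
      _ = g⁻¹ * (g * s * g⁻¹) * g := by rw [h2]
      _ = s := by group
  have h3 := hD.2 d hd (g⁻¹ * h * g) (by rw [h1]; exact hs)
  refine ⟨(g⁻¹ * h * g) * d * (g⁻¹ * h * g)⁻¹, h3, ?_⟩
  simp only [MulEquiv.coe_toMonoidHom, MulAut.conj_apply]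
  group

theorem stronglyClosed_map_mk [Finite X] {p : ℕ} [Fact p.Prime] (S : Sylow p X) {D : Subgroup X}
    (hD : Cfsg.IsStronglyClosed D (S : Subgroup X)) (K : Subgroup X) [hK : K.Normal] :
    Cfsg.IsStronglyClosed (D.map (QuotientGroup.mk' K))
      ((S : Subgroup X).map (QuotientGroup.mk' K)) := by
  refine ⟨Subgroup.map_mono hD.1, ?_⟩
  rintro _ ⟨d, hd, rfl⟩ gb hgb
  obtain ⟨g, rfl⟩ := QuotientGroup.mk'_surjective K gb
  have hy : (QuotientGroup.mk' K) (g * d * g⁻¹) ∈
      (S : Subgroup X).map (QuotientGroup.mk' K) := by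
    rw [map_mul, map_mul, map_inv]; exact hgb
  obtain ⟨s₀, hs₀, hs₀y⟩ := hy
  have hyS : g * d * g⁻¹ ∈ (S : Subgroup X) ⊔ K := by
    have h1 : s₀⁻¹ * (g * d * g⁻¹) ∈ K := QuotientGroup.eq.mp hs₀y
    have e : g * d * g⁻¹ = s₀ * (s₀⁻¹ * (g * d * g⁻¹)) := by group
    rw [e]
    exact Subgroup.mul_mem _ (Subgroup.mem_sup_left hs₀) (Subgroup.mem_sup_right h1)
  obtain ⟨n, hn⟩ := S.isPGroup' ⟨d, hD.1 hd⟩
  have hdn : d ^ p ^ n = 1 := by
    have := congrArg Subtype.val hn
    simpa using this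
  have hyn : (g * d * g⁻¹) ^ p ^ n = 1 := by rw [conj_pow, hdn, mul_one, mul_inv_cancel]
  have hzp : IsPGroup p ↥(Subgroup.zpowers (g * d * g⁻¹)) := by
    rintro ⟨x, hx⟩
    obtain ⟨k, rfl⟩ := Subgroup.mem_zpowers_iff.1 hx
    refine ⟨n, Subtype.ext ?_⟩
    show ((g * d * g⁻¹) ^ k) ^ p ^ n = 1
    rw [← zpow_natCast, ← zpow_mul, mul_comm, zpow_mul, zpow_natCast, hyn, one_zpow]
  obtain ⟨h, hh, hhy⟩ := Cfsg.Agent.helper10.pgroup_conj_into_sylow_in_subgroup S
    ((S : Subgroup X) ⊔ K) le_sup_left _ hzp (Subgroup.zpowers_le.2 hyS)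
  rw [← SetLike.mem_coe, Subgroup.mul_normal] at hh
  obtain ⟨s, hs, k, hk, rfl⟩ := hh
  have h1 : (s * k) * (g * d * g⁻¹) * (s * k)⁻¹ ∈ (S : Subgroup X) :=
    hhy ⟨g * d * g⁻¹, Subgroup.mem_zpowers _, rfl⟩
  have h2 : (k * g) * d * (k * g)⁻¹ ∈ (S : Subgroup X) := by
    have e : (k * g) * d * (k * g)⁻¹ = s⁻¹ * ((s * k) * (g * d * g⁻¹) * (s * k)⁻¹) * s := by
      group
    rw [e]
    exact Subgroup.mul_mem _ (Subgroup.mul_mem _ (Subgroup.inv_mem _ hs) h1) hs
  have h3 := hD.2 d hd (k * g) h2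
  refine ⟨(k * g) * d * (k * g)⁻¹, h3, ?_⟩
  have hk1 : (QuotientGroup.mk' K) k = 1 := by
    rw [QuotientGroup.mk'_apply, QuotientGroup.eq_one_iff]; exact hk
  simp only [map_mul, map_inv, hk1, one_mul]

end closed

/-- A uniform family of abelian subgroups across all groups of a universe, with the properties
needed for the Glauberman–Thompson induction. -/
structure DScheme (p : ℕ) (𝔉 : ∀ (X : Type u) [Group X], Subgroup X → Set (Subgroup X)) :
    Prop where
  fam : ∀ (X : Type u) [Group X] [Finite X], ZJFamily (𝔉 X)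
  repl : ∀ (X : Type u) [Group X] [Finite X] (P : Sylow p X) (D : Subgroup X),
    Cfsg.IsStronglyClosed D (P : Subgroup X) → HasReplacementIn (𝔉 X) D (P : Subgroup X)
  map : ∀ (X Y : Type u) [Group X] [Group Y] [Finite X] (f : X →* Y) (D : Subgroup X),
    (∀ x ∈ D, f x = 1 → x = 1) → zjI (𝔉 Y) (D.map f) = (zjI (𝔉 X) D).map f
  ne_bot : ∀ (X : Type u) [Group X] [Finite X] (R : Subgroup X), IsPGroup p R → R ≠ ⊥ →
    zjI (𝔉 X) R ≠ ⊥

section steps

open Cfsg.Agent.helper10

variable {X : Type u} [Group X] [Finite X] {p : ℕ} [hp : Fact p.Prime]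
  {𝔉 : ∀ (X : Type u) [Group X], Subgroup X → Set (Subgroup X)}

/-- `X / O_p(X)` has a normal `p`-complement (extremal situation). -/
theorem npc_quotient_pCore_D (h𝔉 : DScheme p 𝔉) (S : Sylow p X)
    (IHq : ∀ S' : Sylow p (X ⧸ Cfsg.pCore p X),
      Cfsg.HasNormalPComplement p ↥(Subgroup.normalizer
        ((zjI (𝔉 (X ⧸ Cfsg.pCore p X)) (S' : Subgroup (X ⧸ Cfsg.pCore p X)) :
          Subgroup (X ⧸ Cfsg.pCore p X)) : Set (X ⧸ Cfsg.pCore p X))) →
      Cfsg.HasNormalPComplement p (X ⧸ Cfsg.pCore p X))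
    (hM2 : ∀ U : Subgroup X, IsPGroup p U →
      (S : Subgroup X) ≤ Subgroup.normalizer (U : Set X) →
      Nat.card (Cfsg.pCore p X) < Nat.card U →
      Cfsg.HasNormalPComplement p ↥(Subgroup.normalizer (U : Set X))) :
    Cfsg.HasNormalPComplement p (X ⧸ Cfsg.pCore p X) := by
  have hPS : Cfsg.pCore p X ≤ (S : Subgroup X) := Cfsg.Agent.helper1.pCore_le_sylow S
  have hsurj : Function.Surjective (QuotientGroup.mk' (Cfsg.pCore p X)) :=
    QuotientGroup.mk'_surjective _
  by_cases hSP : (S : Subgroup X) ≤ Cfsg.pCore p X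
  · apply npc_of_not_dvd
    have hSeq : (S : Subgroup X) = Cfsg.pCore p X := le_antisymm hSP hPS
    rw [← Subgroup.index_eq_card, ← hSeq]
    exact S.not_dvd_index
  · obtain ⟨S', hS'⟩ : ∃ S' : Sylow p (X ⧸ Cfsg.pCore p X),
        (S' : Subgroup (X ⧸ Cfsg.pCore p X)) =
          (S : Subgroup X).map (QuotientGroup.mk' (Cfsg.pCore p X)) :=
      ⟨S.mapSurjective hsurj, rfl⟩
    apply IHq S'
    rw [hS']
    apply npc_normalizer_of_comap (QuotientGroup.mk' (Cfsg.pCore p X)) hsurj
    have hfam := h𝔉.fam (X ⧸ Cfsg.pCore p X)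
    have hSbp : IsPGroup p ((S : Subgroup X).map (QuotientGroup.mk' (Cfsg.pCore p X))) :=
      S.isPGroup'.map _
    have hVS := zjI_le hfam ((S : Subgroup X).map (QuotientGroup.mk' (Cfsg.pCore p X)))
    have hSbne : (S : Subgroup X).map (QuotientGroup.mk' (Cfsg.pCore p X)) ≠ ⊥ := by
      intro h
      apply hSP
      have := (Subgroup.map_eq_bot_iff _).1 h
      rwa [QuotientGroup.ker_mk'] at this
    have hVne := h𝔉.ne_bot _ _ hSbp hSbne
    have hUS : (zjI (𝔉 (X ⧸ Cfsg.pCore p X))
        ((S : Subgroup X).map (QuotientGroup.mk' (Cfsg.pCore p X)))).comap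
          (QuotientGroup.mk' (Cfsg.pCore p X)) ≤ (S : Subgroup X) := by
      refine le_trans (Subgroup.comap_mono hVS) ?_
      rw [Subgroup.comap_map_eq, QuotientGroup.ker_mk', sup_eq_left.2 hPS]
    have hPU : Cfsg.pCore p X ≤ (zjI (𝔉 (X ⧸ Cfsg.pCore p X))
        ((S : Subgroup X).map (QuotientGroup.mk' (Cfsg.pCore p X)))).comap
          (QuotientGroup.mk' (Cfsg.pCore p X)) := by
      intro x hx
      rw [Subgroup.mem_comap]
      have : (QuotientGroup.mk' (Cfsg.pCore p X)) x = 1 := by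
        have : x ∈ (QuotientGroup.mk' (Cfsg.pCore p X)).ker := by
          rw [QuotientGroup.ker_mk']; exact hx
        exact this
      rw [this]; exact Subgroup.one_mem _
    have hSU : (S : Subgroup X) ≤ Subgroup.normalizer (((zjI (𝔉 (X ⧸ Cfsg.pCore p X))
        ((S : Subgroup X).map (QuotientGroup.mk' (Cfsg.pCore p X)))).comap
          (QuotientGroup.mk' (Cfsg.pCore p X)) : Subgroup X) : Set X) := by
      intro s hs
      apply Subgroup.le_normalizer_comap
      rw [Subgroup.mem_comap]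
      apply normalizer_le_normalizer_zjI hfam
      exact Subgroup.le_normalizer (Subgroup.mem_map_of_mem _ hs)
    apply hM2 _ (S.isPGroup'.to_le hUS) hSU
    apply card_lt_card_of_lt
    refine lt_of_le_of_ne hPU ?_
    intro heq
    apply hVne
    rw [← Subgroup.map_comap_eq_self_of_surjective hsurj (zjI (𝔉 (X ⧸ Cfsg.pCore p X))
        ((S : Subgroup X).map (QuotientGroup.mk' (Cfsg.pCore p X)))), ← heq]
    rw [Subgroup.map_eq_bot_iff, QuotientGroup.ker_mk']

end steps

section main

open Cfsg.Agent.helper10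

variable {p : ℕ} [hp : Fact p.Prime]
  {𝔉 : ∀ (X : Type u) [Group X], Subgroup X → Set (Subgroup X)}

/-- **Glauberman–Thompson for strongly closed subgroups**, in scheme form. -/
theorem thompsonD (hp2 : p ≠ 2) (h𝔉 : DScheme p 𝔉) :
    ∀ (n : ℕ) (X : Type u) [Group X] [Finite X], Nat.card X = n →
      ∀ (S : Sylow p X) (D : Subgroup X), Cfsg.IsStronglyClosed D (S : Subgroup X) →
        Cfsg.HasNormalPComplement p
          ↥(Subgroup.normalizer ((zjI (𝔉 X) D : Subgroup X) : Set X)) →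
        Cfsg.HasNormalPComplement p X := by
  intro n
  induction n using Nat.strong_induction_on with
  | _ n IH =>
    intro X _ _ hn S D hD hN
    have hfam := h𝔉.fam X
    have hcardlt : ∀ M : Subgroup X, M ≠ ⊤ → Nat.card M < n := by
      intro M hM
      rw [← hn]
      have h1 : M < ⊤ := lt_top_iff_ne_top.2 hM
      have h2 := card_lt_card_of_lt h1
      rwa [Subgroup.card_top] at h2
    -- subgroups containing a Sylow subgroup of `X`
    have IHsub : ∀ M : Subgroup X, M ≠ ⊤ → ∀ (S' : Sylow p X) (D' : Subgroup X),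
        (S' : Subgroup X) ≤ M → Cfsg.IsStronglyClosed D' (S' : Subgroup X) →
        Cfsg.HasNormalPComplement p
          ↥(Subgroup.normalizer ((zjI (𝔉 X) D' : Subgroup X) : Set X)) →
        Cfsg.HasNormalPComplement p M := by
      intro M hM S' D' hSM hD' hN'
      apply IH _ (hcardlt M hM) M rfl (S'.subtype hSM) (D'.subgroupOf M)
      · rw [Sylow.coe_subtype]; exact stronglyClosed_subgroupOf hD' M
      · apply npc_normalizer_of_map_subtype
        rw [← h𝔉.map M X M.subtype (D'.subgroupOf M) (fun x _ hx => Subtype.ext hx),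
          Subgroup.map_subgroupOf_eq_of_le (hD'.1.trans hSM)]
        exact hN'
    -- arbitrary proper subgroups, with the whole Sylow subgroup as strongly closed subgroup
    have IHsub' : ∀ M : Subgroup X, M ≠ ⊤ → ∀ S₁ : Sylow p M,
        Cfsg.HasNormalPComplement p ↥(Subgroup.normalizer
          ((zjI (𝔉 X) ((S₁ : Subgroup M).map M.subtype) : Subgroup X) : Set X)) →
        Cfsg.HasNormalPComplement p M := by
      intro M hM S₁ hN'
      apply IH _ (hcardlt M hM) M rfl S₁ (S₁ : Subgroup M) (stronglyClosed_self _)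
      apply npc_normalizer_of_map_subtype
      rw [← h𝔉.map M X M.subtype (S₁ : Subgroup M) (fun x _ hx => Subtype.ext hx)]
      exact hN'
    have IHquot : ∀ (K : Subgroup X) [K.Normal], K ≠ ⊥ → ∀ (S' : Sylow p (X ⧸ K))
        (D' : Subgroup (X ⧸ K)), Cfsg.IsStronglyClosed D' (S' : Subgroup (X ⧸ K)) →
        Cfsg.HasNormalPComplement p
          ↥(Subgroup.normalizer ((zjI (𝔉 (X ⧸ K)) D' : Subgroup (X ⧸ K)) : Set (X ⧸ K))) →
        Cfsg.HasNormalPComplement p (X ⧸ K) := by
      intro K _ hK1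
      have hlt : Nat.card (X ⧸ K) < n := by
        rw [← hn, ← Subgroup.index_eq_card, ← Subgroup.card_mul_index K]
        have h1 : 1 < Nat.card K := by
          rw [Subgroup.one_lt_card_iff_ne_bot]; exact hK1
        have h2 : 0 < K.index := Nat.pos_of_ne_zero Subgroup.index_ne_zero_of_finite
        nlinarith
      exact IH _ hlt (X ⧸ K) rfl
    by_contra hnot
    obtain ⟨H, hHp, hH1, hHbad, hM1, hM2⟩ := exists_extremal_bad hnot
    -- Step 3: `H` is normal
    have htop : Subgroup.normalizer (H : Set X) = ⊤ := by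
      by_contra hne
      apply hHbad
      obtain ⟨S₁⟩ : Nonempty (Sylow p ↥(Subgroup.normalizer (H : Set X))) := inferInstance
      have hcard : Nat.card ↥((S₁ : Subgroup ↥(Subgroup.normalizer (H : Set X))).map
          (Subgroup.normalizer (H : Set X)).subtype) =
          p ^ ((Nat.card ↥(Subgroup.normalizer (H : Set X))).factorization p) := by
        rw [Subgroup.card_map_of_injective (Subgroup.subtype_injective _)]
        exact Sylow.card_eq_multiplicity S₁
      generalize hTdef : (S₁ : Subgroup ↥(Subgroup.normalizer (H : Set X))).map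
          (Subgroup.normalizer (H : Set X)).subtype = T at hcard
      have hTN : T ≤ Subgroup.normalizer (H : Set X) := by
        rw [← hTdef]; exact Subgroup.map_subtype_le _
      have hTp : IsPGroup p T := IsPGroup.of_card hcard
      have hT1 : T ≠ ⊥ := by
        intro hbot
        rw [hbot, Subgroup.card_bot] at hcard
        have hpH : p ∣ Nat.card H := by
          obtain ⟨k, hk⟩ := IsPGroup.iff_card.mp hHp
          have hk0 : k ≠ 0 := by
            intro h0
            rw [h0, pow_zero, Subgroup.card_eq_one] at hk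
            exact hH1 hk
          rw [hk]
          exact dvd_pow_self p hk0
        have hpN : p ∣ Nat.card ↥(Subgroup.normalizer (H : Set X)) :=
          dvd_trans hpH (Subgroup.card_dvd_of_le Subgroup.le_normalizer)
        have hpos := hp.out.factorization_pos_of_dvd Nat.card_pos.ne' hpN
        have := Nat.one_lt_pow hpos.ne' hp.out.one_lt
        omega
      by_cases hidx : p ∣ T.index
      · apply IHsub' _ hne S₁
        rw [hTdef]
        have h1 := pow_succ_dvd_card_normalizer T _ hcard hidx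
        exact hM1 _ (hTp.to_le (zjI_le hfam T)) (h𝔉.ne_bot X T hTp hT1)
          (dvd_trans h1 (Subgroup.card_dvd_of_le (normalizer_le_normalizer_zjI hfam T)))
      · obtain ⟨g, hg⟩ := MulAction.exists_smul_eq X S (hTp.toSylow hidx)
        have h3 : ((g • S : Sylow p X) : Subgroup X) = T := by
          rw [hg]; rfl
        have h4 : ((g • S : Sylow p X) : Subgroup X) =
            (S : Subgroup X).map (MulAut.conj g).toMonoidHom := sylow_smul_eq_map_conj S g
        apply IHsub _ hne (g • S) (D.map (MulAut.conj g).toMonoidHom)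
        · rw [h3]; exact hTN
        · rw [h4]; exact stronglyClosed_conj hD g
        · rw [← zjI_map hfam (MulAut.conj g) D]
          exact npc_normalizer_conj _ g hN
    have hHP := eq_pCore_of_extremal hnot H hHp htop hM2
    subst hHP
    have hM2' : ∀ U : Subgroup X, IsPGroup p U →
        (S : Subgroup X) ≤ Subgroup.normalizer (U : Set X) →
        Nat.card (Cfsg.pCore p X) < Nat.card U →
        Cfsg.HasNormalPComplement p ↥(Subgroup.normalizer (U : Set X)) := by
      intro U hUp hSU hlt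
      apply hM2 U hUp _ hlt
      have h1 : Nat.card (S : Subgroup X) ∣ Nat.card ↥(Subgroup.normalizer (U : Set X)) :=
        Subgroup.card_dvd_of_le hSU
      rw [htop, Subgroup.card_top, ← Sylow.card_eq_multiplicity S]
      exact h1
    haveI hPn : (Cfsg.pCore p X).Normal := Cfsg.Agent.helper1.pCore_normal p
    have hquot : Cfsg.HasNormalPComplement p (X ⧸ Cfsg.pCore p X) :=
      npc_quotient_pCore_D h𝔉 S
        (fun S' hS' => IHquot (Cfsg.pCore p X) hH1 S' (S' : Subgroup (X ⧸ Cfsg.pCore p X))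
          (stronglyClosed_self _) hS') hM2'
    -- Step 6: `O_{p'}(X) = 1`
    have hD0 : Cfsg.pPrimeCore p X = ⊥ := by
      by_contra hK1
      haveI : (Cfsg.pPrimeCore p X).Normal := Cfsg.Agent.helper1.pPrimeCore_normal p
      have hKcop : (Nat.card (Cfsg.pPrimeCore p X)).Coprime p :=
        Cfsg.Agent.helper1.pPrimeCore_coprime p
      apply hnot
      apply npc_of_quotient_coprime (Cfsg.pPrimeCore p X) hKcop
      have hsurj : Function.Surjective (QuotientGroup.mk' (Cfsg.pPrimeCore p X)) :=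
        QuotientGroup.mk'_surjective _
      obtain ⟨S', hS'⟩ : ∃ S' : Sylow p (X ⧸ Cfsg.pPrimeCore p X),
          (S' : Subgroup (X ⧸ Cfsg.pPrimeCore p X)) =
            (S : Subgroup X).map (QuotientGroup.mk' (Cfsg.pPrimeCore p X)) :=
        ⟨S.mapSurjective hsurj, rfl⟩
      apply IHquot _ hK1 S' (D.map (QuotientGroup.mk' (Cfsg.pPrimeCore p X)))
      · rw [hS']; exact stronglyClosed_map_mk S hD _
      · rw [h𝔉.map X _ (QuotientGroup.mk' (Cfsg.pPrimeCore p X)) D (fun x hxD hx => by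
          have hxK : x ∈ Cfsg.pPrimeCore p X := by
            have : x ∈ (QuotientGroup.mk' (Cfsg.pPrimeCore p X)).ker := hx
            rwa [QuotientGroup.ker_mk'] at this
          exact eq_one_of_mem_of_coprime (S : Subgroup X) (Cfsg.pPrimeCore p X) S.isPGroup'
            hKcop x (hD.1 hxD) hxK)]
        exact npc_normalizer_map_coprime S _ hKcop _ ((zjI_le hfam D).trans hD.1)
          ((stronglyClosed_le_normalizer hD).trans (normalizer_le_normalizer_zjI hfam D)) hN
    have hcon := constrained_of_quotient_npc hD0 hquot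
    have hcoatom := sylow_isCoatom_of_constrained S hcon hnot
      (fun M hSM hM => IHsub M hM S D hSM hD hN)
    have hpap := Cfsg.Agent.S1990.isPAP_of_config hquot S hcoatom
    have hst := isNormalizerPStable_of_isPAP hp2 hpap
    have hnormal : (zjI (𝔉 X) D).Normal :=
      zjID_normal hfam S D hD (h𝔉.repl X S D hD) hcon
        (fun V _ hV a _ hq => mk_mem_pCore_of_isNormalizerPStable hst V hV a hq)
    apply hnot
    have hNtop : Subgroup.normalizer ((zjI (𝔉 X) D : Subgroup X) : Set X) = ⊤ :=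
      Subgroup.normalizer_eq_top_iff.mpr hnormal
    rw [hNtop] at hN
    exact npc_of_surjective (⊤ : Subgroup X).subtype (fun x => ⟨⟨x, trivial⟩, rfl⟩) hN

/-- The scheme of abelian subgroups of largest order. -/
theorem dScheme_famAb (hp2 : p ≠ 2) : DScheme.{u} p (fun X _ => famAb (G := X)) where
  fam := fun X _ _ => zjFamily_famAb
  repl := fun X _ _ P D hD => hasReplacementIn_famAb hp2 P D hD
  map := fun X Y _ _ _ f D hinj => zjI_famAb_map f hinj
  ne_bot := fun X _ _ R hR hR1 => by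
    rw [← centerThompsonAOf_eq_zjI]
    exact Cfsg.Agent.S0658.zj_ne_bot hR hR1

/-- The scheme of elementary abelian subgroups of largest order. -/
theorem dScheme_famEA (hp2 : p ≠ 2) : DScheme.{u} p (fun X _ => famEA (G := X) p) where
  fam := fun X _ _ => zjFamily_famEA p
  repl := fun X _ _ P D hD => hasReplacementIn_famEA hp2 P D hD
  map := fun X Y _ _ _ f D hinj => zjI_famEA_map f hinj
  ne_bot := fun X _ _ R hR hR1 => zjI_famEA_ne_bot hR hR1

end main

end Cfsg.Agent.helper3
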