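import Mathlib
import Cfsg.Agent.Lib_helper3_ZJD2
import Cfsg.Agent.Lib_helper3_ThompsonD
import Cfsg.Agent.Lib_helper15_Omega
import Cfsg.Agent.Lib_helper23_PSolv
import Cfsg.Agent.Lib_helper1_Core

/-! Basics for the full-centre `ZJ_e`-theorem (helper18): the subgroup of elements of order
dividing `p` in a group of class at most two, transport of `Z(J_e(R))` along homomorphisms
injective on `R`, and elementary facts on `Z(J_e(S))`. -/

set_option autoImplicit false

namespace Cfsg.Agent.helper18.ZJe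

open Cfsg Cfsg.Agent.helper3
open scoped commutatorElement

variable {G : Type*} [Group G]

/-- In a group of class at most two, elements of `⁅B, B⁆` commute with elements of `B`. -/
theorem comm_of_class_two {B : Subgroup G} (hcl : ⁅⁅B, B⁆, B⁆ = ⊥) {c b : G}
    (hc : c ∈ ⁅B, B⁆) (hb : b ∈ B) : c * b = b * c := by
  have h1 := Subgroup.commutator_eq_bot_iff_le_centralizer.1 hcl
  exact (Subgroup.mem_centralizer_iff.1 (h1 hc) b hb).symm

theorem mul_pow_prime_class_two {p : ℕ} (hp : Odd p) {B : Subgroup G} (hcl : ⁅⁅B, B⁆, B⁆ = ⊥)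
    {x y : G} (hx : x ∈ B) (hy : y ∈ B) (hxp : x ^ p = 1) (hyp : y ^ p = 1) :
    (x * y) ^ p = 1 := by
  set z : G := (x * y)⁻¹ * (y * x) with hz
  have hzB : z ∈ ⁅B, B⁆ := by
    have e : z = ⁅y⁻¹, x⁻¹⁆ := by rw [hz, commutatorElement_def]; group
    rw [e]
    exact Subgroup.commutator_mem_commutator (B.inv_mem hy) (B.inv_mem hx)
  have h1 : y * x = x * y * z := by rw [hz]; group
  have hzx : z * x = x * z := comm_of_class_two hcl hzB hx
  have hzy : z * y = y * z := comm_of_class_two hcl hzB hy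
  have h2 := Cfsg.Agent.helper4.Glaub.pow_mul_comm_z h1 hzy p
  rw [hyp, one_mul, mul_one] at h2
  have hzp : z ^ p = 1 := by
    have : x * z ^ p = x * 1 := by rw [mul_one]; exact h2.symm
    exact mul_left_cancel this
  have h3 := Cfsg.Agent.helper4.Glaub.mul_pow_class2 h1 hzx hzy p
  rw [hxp, hyp, one_mul, one_mul] at h3
  rw [h3]
  obtain ⟨k, hk⟩ := hp
  have h4 : (∑ i ∈ Finset.range p, i) = p * k := by
    have h5 := Finset.sum_range_id_mul_two p
    have h6 : p * (p - 1) = p * k * 2 := by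
      rw [hk]; simp; ring
    rw [h6] at h5
    exact Nat.eq_of_mul_eq_mul_right (by norm_num) h5
  rw [h4, pow_mul, hzp, one_pow]

/-- The subgroup of elements of order dividing `p` in a group `B` of class at most two. -/
def omegaSub (p : ℕ) (hp : Odd p) (B : Subgroup G) (hcl : ⁅⁅B, B⁆, B⁆ = ⊥) : Subgroup G where
  carrier := {b | b ∈ B ∧ b ^ p = 1}
  one_mem' := ⟨B.one_mem, one_pow _⟩
  mul_mem' := by
    rintro x y ⟨hx, hxp⟩ ⟨hy, hyp⟩
    exact ⟨B.mul_mem hx hy, mul_pow_prime_class_two hp hcl hx hy hxp hyp⟩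
  inv_mem' := by
    rintro x ⟨hx, hxp⟩
    exact ⟨B.inv_mem hx, by rw [inv_pow, hxp, inv_one]⟩

theorem mem_omegaSub {p : ℕ} {hp : Odd p} {B : Subgroup G} {hcl : ⁅⁅B, B⁆, B⁆ = ⊥} {x : G} :
    x ∈ omegaSub p hp B hcl ↔ x ∈ B ∧ x ^ p = 1 := Iff.rfl

theorem omegaSub_le {p : ℕ} (hp : Odd p) (B : Subgroup G) (hcl : ⁅⁅B, B⁆, B⁆ = ⊥) :
    omegaSub p hp B hcl ≤ B := fun _ hx => hx.1

theorem omegaSub_normal {p : ℕ} (hp : Odd p) (B : Subgroup G) [hB : B.Normal]
    (hcl : ⁅⁅B, B⁆, B⁆ = ⊥) : (omegaSub p hp B hcl).Normal where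
  conj_mem := by
    rintro x ⟨hx, hxp⟩ g
    refine ⟨hB.conj_mem x hx g, ?_⟩
    rw [conj_pow, hxp]; group

theorem omegaSub_class {p : ℕ} (hp : Odd p) (B : Subgroup G) (hcl : ⁅⁅B, B⁆, B⁆ = ⊥) :
    ⁅⁅omegaSub p hp B hcl, omegaSub p hp B hcl⁆, omegaSub p hp B hcl⁆ = ⊥ := by
  rw [eq_bot_iff, ← hcl]
  exact Subgroup.commutator_mono
    (Subgroup.commutator_mono (omegaSub_le hp B hcl) (omegaSub_le hp B hcl)) (omegaSub_le hp B hcl)

section transport

variable {H : Type*} [Group H] {p : ℕ}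

theorem thompsonSubgroupOf_map (f : H →* G) {R : Subgroup H}
    (hinj : ∀ x ∈ R, f x = 1 → x = 1) :
    (Cfsg.thompsonSubgroupOf p R).map f = Cfsg.thompsonSubgroupOf p (R.map f) := by
  rw [thompsonSubgroupOf_eq_sSup, thompsonSubgroupOf_eq_sSup]
  apply le_antisymm
  · rw [Subgroup.map_le_iff_le_comap]
    apply sSup_le
    intro A hA
    rw [← Subgroup.map_le_iff_le_comap]
    exact le_sSup (isMaxEAIn_map f hinj hA)
  · apply sSup_le
    intro B hB
    have h1 := isMaxEAIn_comap f hinj hB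
    have h2 : (B.comap f ⊓ R).map f = B := map_comap_inf_eq f hB.1
    rw [← h2]
    exact Subgroup.map_mono (le_sSup h1)

theorem centerThompsonOf_map (f : H →* G) {R : Subgroup H}
    (hinj : ∀ x ∈ R, f x = 1 → x = 1) :
    (Cfsg.centerThompsonOf p R).map f = Cfsg.centerThompsonOf p (R.map f) := by
  unfold Cfsg.centerThompsonOf
  rw [← thompsonSubgroupOf_map f hinj]
  have hJR : Cfsg.thompsonSubgroupOf p R ≤ R := thompsonSubgroupOf_le_self p R
  generalize Cfsg.thompsonSubgroupOf p R = J at hJR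
  ext y
  constructor
  · rintro ⟨x, hx, rfl⟩
    obtain ⟨hxJ, hxC⟩ := Subgroup.mem_inf.1 hx
    refine Subgroup.mem_inf.2 ⟨⟨x, hxJ, rfl⟩, ?_⟩
    rw [Subgroup.mem_centralizer_iff]
    rintro _ ⟨j, hj, rfl⟩
    rw [← map_mul, ← map_mul, Subgroup.mem_centralizer_iff.1 hxC j hj]
  · intro hy
    obtain ⟨⟨x, hxJ, rfl⟩, hC⟩ := Subgroup.mem_inf.1 hy
    refine ⟨x, Subgroup.mem_inf.2 ⟨hxJ, ?_⟩, rfl⟩
    rw [Subgroup.mem_centralizer_iff]
    intro j hj
    have h1 := Subgroup.mem_centralizer_iff.1 hC (f j) ⟨j, hj, rfl⟩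
    apply eq_of_map_eq_of_injOn f hinj (R.mul_mem (hJR hj) (hJR hxJ))
      (R.mul_mem (hJR hxJ) (hJR hj))
    rw [map_mul, map_mul, h1]

end transport

section facts

variable {p : ℕ}

theorem centerThompsonOf_le_thompson (S : Subgroup G) :
    Cfsg.centerThompsonOf p S ≤ Cfsg.thompsonSubgroupOf p S := inf_le_left

theorem centerThompsonOf_le (S : Subgroup G) : Cfsg.centerThompsonOf p S ≤ S :=
  inf_le_left.trans (thompsonSubgroupOf_le_self p S)

theorem centerThompsonOf_comm (S : Subgroup G) {x y : G} (hx : x ∈ Cfsg.centerThompsonOf p S)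
    (hy : y ∈ Cfsg.centerThompsonOf p S) : x * y = y * x :=
  Subgroup.mem_centralizer_iff.1 hy.2 x hx.1

theorem centerThompsonOf_comm_maxEA {S A : Subgroup G} (hA : IsMaxEAIn p S A) {z a : G}
    (hz : z ∈ Cfsg.centerThompsonOf p S) (ha : a ∈ A) : z * a = a * z :=
  (Subgroup.mem_centralizer_iff.1 hz.2 a (hA.le_thompsonSubgroupOf ha)).symm

theorem normalizer_le_normalizer_inf_centralizer (K : Subgroup G) :
    Subgroup.normalizer (K : Set G) ≤
      Subgroup.normalizer ((K ⊓ Subgroup.centralizer (K : Set G) : Subgroup G) : Set G) := by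
  have key : ∀ g ∈ Subgroup.normalizer (K : Set G), ∀ x ∈ K ⊓ Subgroup.centralizer (K : Set G),
      g * x * g⁻¹ ∈ K ⊓ Subgroup.centralizer (K : Set G) := by
    intro g hg x hx
    obtain ⟨hx1, hx2⟩ := Subgroup.mem_inf.1 hx
    refine Subgroup.mem_inf.2 ⟨(Subgroup.mem_normalizer_iff.1 hg x).1 hx1, ?_⟩
    rw [Subgroup.mem_centralizer_iff]
    intro k hk
    have hk' : g⁻¹ * k * g ∈ K := by
      have := (Subgroup.mem_normalizer_iff.1 (Subgroup.inv_mem _ hg) k).1 hk
      simpa using this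
    have h1 := Subgroup.mem_centralizer_iff.1 hx2 _ hk'
    calc k * (g * x * g⁻¹) = g * ((g⁻¹ * k * g) * x) * g⁻¹ := by group
      _ = g * (x * (g⁻¹ * k * g)) * g⁻¹ := by rw [h1]
      _ = g * x * g⁻¹ * k := by group
  intro g hg
  rw [Subgroup.mem_normalizer_iff]
  intro x
  constructor
  · exact key g hg x
  · intro hx
    have := key g⁻¹ (Subgroup.inv_mem _ hg) _ hx
    have e : g⁻¹ * (g * x * g⁻¹) * g⁻¹⁻¹ = x := by group
    rwa [e] at this

theorem normalizer_le_normalizer_centerThompsonOf [Finite G] (S : Subgroup G) :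
    Subgroup.normalizer (S : Set G) ≤
      Subgroup.normalizer (Cfsg.centerThompsonOf p S : Set G) :=
  (normalizer_le_normalizer_thompsonSubgroupOf p S).trans
    (normalizer_le_normalizer_inf_centralizer _)

theorem normalizer_thompson_le_normalizer_center (S : Subgroup G) :
    Subgroup.normalizer (Cfsg.thompsonSubgroupOf p S : Set G) ≤
      Subgroup.normalizer (Cfsg.centerThompsonOf p S : Set G) :=
  normalizer_le_normalizer_inf_centralizer _

/-- An element of `S` of order dividing `p` centralizing a maximal elementary abelian subgroup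
`A` of `S` lies in `A`. -/
theorem mem_of_centralizes_maxEA [Finite G] {S A : Subgroup G} (hA : IsMaxEAIn p S A) {e : G}
    (heS : e ∈ S) (hep : e ^ p = 1) (hc : ∀ a ∈ A, e * a = a * e) : e ∈ A := by
  have hAc : ∀ u ∈ A, ∀ v ∈ A, u * v = v * u := fun u hu v hv =>
    congrArg Subtype.val (hA.2.1.1.is_comm.comm (⟨u, hu⟩ : A) ⟨v, hv⟩)
  have hEA : Cfsg.IsElementaryAbelian p (A ⊔ Subgroup.zpowers e) :=
    ⟨⟨⟨fun u v => Subtype.ext
      (Cfsg.Agent.helper4.ZJ.sup_zpowers_comm A e hAc hc u u.2 v v.2)⟩⟩,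
      Cfsg.Agent.helper4.ZJ.sup_zpowers_pow p A e hAc hc hA.2.1.2 hep⟩
  have hcard := hA.2.2 _ (sup_le hA.1 (by rw [Subgroup.zpowers_le]; exact heS)) hEA
  have heq : A = A ⊔ Subgroup.zpowers e := Subgroup.eq_of_le_of_card_ge le_sup_left hcard
  rw [heq]
  exact Subgroup.mem_sup_right (Subgroup.mem_zpowers e)

/-- A conjugate of a maximal elementary abelian subgroup lying in `S` is again one. -/
theorem isMaxEAIn_conj [Finite G] {S A : Subgroup G} (hA : IsMaxEAIn p S A) (g : G)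
    (hle : A.map (MulAut.conj g).toMonoidHom ≤ S) :
    IsMaxEAIn p S (A.map (MulAut.conj g).toMonoidHom) := by
  refine ⟨hle, ea_map hA.2.1 _, fun B hB hBe => ?_⟩
  rw [Subgroup.card_map_of_injective (MulAut.conj g).injective]
  exact hA.2.2 B hB hBe

end facts

/-- A subgroup containing a Sylow `p`-subgroup and all elements of order prime to `p` is the
whole group. -/
theorem eq_top_of_sylow_le_of_pprime [Finite G] {p : ℕ} [hp : Fact p.Prime] (S : Sylow p G)
    (L : Subgroup G) (hS : (S : Subgroup G) ≤ L)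
    (hL : ∀ g : G, (orderOf g).Coprime p → g ∈ L) : L = ⊤ := by
  apply Cfsg.Agent.helper1.eq_top_of_forall_sylow_le
  intro q hq
  by_cases hqp : q = p
  · subst hqp
    exact ⟨S, hS⟩
  · obtain ⟨Q⟩ : Nonempty (Sylow q G) := Sylow.nonempty
    refine ⟨Q, fun x hx => hL x ?_⟩
    obtain ⟨k, hk⟩ := IsPGroup.iff_orderOf.1 Q.isPGroup' ⟨x, hx⟩
    rw [Subgroup.orderOf_mk] at hk
    rw [hk]
    exact Nat.Coprime.pow_left k ((Nat.coprime_primes hq.out hp.out).2 hqp)

end Cfsg.Agent.helper18.ZJe
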