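import Mathlib
import Cfsg.Prelude.Def_Solvable

set_option autoImplicit false

namespace Cfsg.Agent.helper21

open scoped Pointwise

variable {L : Type*} [Group L]

theorem frobc_mem_conj (H : Subgroup L) (g x : L) :
    x ∈ MulAut.conj g • H ↔ g⁻¹ * x * g ∈ H := by
  rw [Subgroup.mem_pointwise_smul_iff_inv_smul_mem, MulAut.smul_def, MulAut.conj_inv_apply]

/-- In a Frobenius group, an element conjugating a nontrivial element of the complement `H`
into `H` lies in `H`. -/
theorem frobc_comm (H : Subgroup L) (hH : Cfsg.IsFrobeniusComplement H) (u v : L) (hu : u ∈ H)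
    (hu1 : u ≠ 1) (hv : v⁻¹ * u * v ∈ H) : v ∈ H := by
  by_contra hvH
  have := hH.2.2 v hvH
  have hmem : u ∈ H ⊓ (MulAut.conj v • H) := ⟨hu, (frobc_mem_conj H v u).mpr hv⟩
  rw [this, Subgroup.mem_bot] at hmem
  exact hu1 hmem

theorem frobc_fixedBy_iff (H : Subgroup L) (g a : L) :
    (QuotientGroup.mk a : L ⧸ H) ∈ MulAction.fixedBy (L ⧸ H) g ↔ a⁻¹ * g * a ∈ H := by
  rw [MulAction.mem_fixedBy, MulAction.Quotient.smul_mk, QuotientGroup.eq]
  constructor
  · intro h; have := H.inv_mem h; simpa [mul_assoc] using this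
  · intro h; have := H.inv_mem h; simpa [mul_assoc] using this

theorem frobc_card_fixedBy_one [Finite L] (H : Subgroup L) :
    Nat.card (MulAction.fixedBy (L ⧸ H) (1 : L)) = H.index := by
  rw [Subgroup.index_eq_card]
  have : MulAction.fixedBy (L ⧸ H) (1 : L) = Set.univ := by
    ext x; simp
  rw [this]; exact Nat.card_congr (Equiv.Set.univ _)

theorem frobc_card_fixedBy_zero [Finite L] (H : Subgroup L) (g : L)
    (hex : ∀ a : L, a⁻¹ * g * a ∉ H) :
    Nat.card (MulAction.fixedBy (L ⧸ H) g) = 0 := by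
  rw [Nat.card_eq_zero]
  left
  constructor
  rintro ⟨x, hx⟩
  obtain ⟨a, rfl⟩ := QuotientGroup.mk_surjective x
  exact hex a ((frobc_fixedBy_iff H g a).mp hx)

theorem frobc_card_fixedBy_eq_one [Finite L] (H : Subgroup L) (hH : Cfsg.IsFrobeniusComplement H)
    (g : L) (hg1 : g ≠ 1) (hex : ∃ a : L, a⁻¹ * g * a ∈ H) :
    Nat.card (MulAction.fixedBy (L ⧸ H) g) = 1 := by
  obtain ⟨a, ha⟩ := hex
  rw [Nat.card_eq_one_iff_unique]
  constructor
  · constructor
    rintro ⟨x, hx⟩ ⟨y, hy⟩
    obtain ⟨b, rfl⟩ := QuotientGroup.mk_surjective x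
    obtain ⟨c, rfl⟩ := QuotientGroup.mk_surjective y
    rw [frobc_fixedBy_iff] at hx hy
    apply Subtype.ext
    change (QuotientGroup.mk b : L ⧸ H) = QuotientGroup.mk c
    rw [QuotientGroup.eq]
    apply frobc_comm H hH (b⁻¹ * g * b) (b⁻¹ * c) hx
    · intro h1
      apply hg1
      have : g = b * (b⁻¹ * g * b) * b⁻¹ := by group
      rw [this, h1]; group
    · have : (b⁻¹ * c)⁻¹ * (b⁻¹ * g * b) * (b⁻¹ * c) = c⁻¹ * g * c := by group
      rw [this]; exact hy
  · exact ⟨⟨QuotientGroup.mk a, (frobc_fixedBy_iff H g a).mpr ha⟩⟩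

/-- The Frobenius kernel (as a set) has exactly `[L : H]` elements. -/
theorem frobc_kernel_card [Finite L] (H : Subgroup L) (hH : Cfsg.IsFrobeniusComplement H) :
    Nat.card {x : L // x = 1 ∨ ∀ a : L, a⁻¹ * x * a ∉ H} = H.index := by
  classical
  have : Fintype L := Fintype.ofFinite L
  have : ∀ a : L, Fintype (MulAction.fixedBy (L ⧸ H) a) := fun a => Fintype.ofFinite _
  have : Fintype (MulAction.orbitRel.Quotient L (L ⧸ H)) := Fintype.ofFinite _
  have h := MulAction.sum_card_fixedBy_eq_card_orbits_mul_card_group L (L ⧸ H)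
  simp only [← Nat.card_eq_fintype_card] at h
  have horb : Nat.card (MulAction.orbitRel.Quotient L (L ⧸ H)) = 1 := by
    rw [Nat.card_eq_one_iff_unique]
    refine ⟨?_, ⟨Quotient.mk'' (QuotientGroup.mk 1)⟩⟩
    exact (MulAction.pretransitive_iff_subsingleton_quotient L (L ⧸ H)).mp inferInstance
  rw [horb, one_mul] at h
  have hfix : ∀ g : L, Nat.card (MulAction.fixedBy (L ⧸ H) g) =
      (if g = 1 then H.index else 0) + (if (g = 1 ∨ ∀ a : L, a⁻¹ * g * a ∉ H) then 0 else 1) := by
    intro g
    by_cases hg1 : g = 1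
    · subst hg1
      rw [if_pos rfl, if_pos (Or.inl rfl), add_zero]
      exact frobc_card_fixedBy_one H
    · by_cases hex : ∀ a : L, a⁻¹ * g * a ∉ H
      · rw [if_neg hg1, if_pos (Or.inr hex), add_zero]
        exact frobc_card_fixedBy_zero H g hex
      · have hnot : ¬ (g = 1 ∨ ∀ a : L, a⁻¹ * g * a ∉ H) := by
          rintro (h | h)
          · exact hg1 h
          · exact hex h
        rw [if_neg hg1, if_neg hnot, zero_add]
        push Not at hex
        exact frobc_card_fixedBy_eq_one H hH g hg1 hex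
  simp only [hfix] at h
  rw [Finset.sum_add_distrib, Finset.sum_ite_eq' Finset.univ (1 : L)] at h
  simp only [Finset.mem_univ, if_true] at h
  have h2 : (∑ x : L, if (x = 1 ∨ ∀ a : L, a⁻¹ * x * a ∉ H) then 0 else 1)
      = (Finset.univ.filter (fun x : L => ¬ (x = 1 ∨ ∀ a : L, a⁻¹ * x * a ∉ H))).card := by
    rw [Finset.card_filter]
    apply Finset.sum_congr rfl
    intro x _
    by_cases hx : (x = 1 ∨ ∀ a : L, a⁻¹ * x * a ∉ H) <;> simp [hx]
  rw [h2] at h
  have h3 := Finset.card_filter_add_card_filter_not (s := (Finset.univ : Finset L))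
    (fun x : L => (x = 1 ∨ ∀ a : L, a⁻¹ * x * a ∉ H))
  rw [Finset.card_univ, ← Nat.card_eq_fintype_card] at h3
  rw [Nat.card_eq_fintype_card, Fintype.card_subtype]
  omega

/-- The order of a Frobenius complement divides its index minus one. -/
theorem frobc_card_dvd [Finite L] (H : Subgroup L) (hH : Cfsg.IsFrobeniusComplement H) :
    Nat.card H ∣ H.index - 1 := by
  classical
  have : Fintype H := Fintype.ofFinite H
  have : ∀ a : H, Fintype (MulAction.fixedBy (L ⧸ H) a) := fun a => Fintype.ofFinite _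
  have : Fintype (MulAction.orbitRel.Quotient H (L ⧸ H)) := Fintype.ofFinite _
  have h := MulAction.sum_card_fixedBy_eq_card_orbits_mul_card_group H (L ⧸ H)
  simp only [← Nat.card_eq_fintype_card] at h
  have hfix : ∀ a : H, Nat.card (MulAction.fixedBy (L ⧸ H) a)
      = (if a = 1 then H.index else 0) + (if a = 1 then 0 else 1) := by
    intro a
    have e : MulAction.fixedBy (L ⧸ H) a = MulAction.fixedBy (L ⧸ H) (a : L) := rfl
    rw [e]
    by_cases ha : a = 1
    · subst ha
      rw [if_pos rfl, if_pos rfl, add_zero]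
      exact frobc_card_fixedBy_one H
    · rw [if_neg ha, if_neg ha, zero_add]
      apply frobc_card_fixedBy_eq_one H hH
      · intro h; exact ha (Subtype.ext h)
      · exact ⟨1, by simp⟩
  simp only [hfix] at h
  rw [Finset.sum_add_distrib, Finset.sum_ite_eq' Finset.univ (1 : H)] at h
  simp only [Finset.mem_univ, if_true] at h
  have h2 : (∑ x : H, if x = 1 then 0 else 1) + 1 = Nat.card H := by
    have : (∑ x : H, if x = 1 then 0 else 1) + (∑ x : H, if x = 1 then 1 else 0)
        = ∑ x : H, 1 := by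
      rw [← Finset.sum_add_distrib]
      apply Finset.sum_congr rfl
      intro x _
      by_cases hx : x = 1 <;> simp [hx]
    rw [Finset.sum_ite_eq' Finset.univ (1 : H)] at this
    simp only [Finset.mem_univ, if_true, Finset.sum_const, Finset.card_univ, smul_eq_mul,
      mul_one] at this
    rw [Nat.card_eq_fintype_card]; exact this
  have hidx : 0 < H.index := Nat.pos_of_ne_zero Subgroup.index_ne_zero_of_finite
  obtain ⟨m, hm⟩ : ∃ m, H.index = m + 1 := ⟨H.index - 1, by omega⟩
  rw [hm, Nat.add_sub_cancel]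
  have h' : H.index + (∑ x : H, if x = 1 then 0 else 1)
      = Nat.card (MulAction.orbitRel.Quotient H (L ⧸ H)) * Nat.card H := h
  have h4 : m + Nat.card H = Nat.card (MulAction.orbitRel.Quotient H (L ⧸ H)) * Nat.card H := by
    rw [hm] at h'; omega
  have h5 : Nat.card H ∣ m + Nat.card H := ⟨_, by rw [h4, mul_comm]⟩
  exact (Nat.dvd_add_left (dvd_refl _)).mp h5

end Cfsg.Agent.helper21
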