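import Mathlib
import Cfsg.Prelude.Def_Solvable
import Cfsg.Agent.Lib_helper3_Basic
import Cfsg.Agent.Lib_helper21_FrobCount

set_option autoImplicit false
set_option linter.style.haveILetI false
set_option linter.deprecated false

namespace Cfsg.Agent.helper23

open scoped Pointwise

universe u

section schmidt
variable {G : Type u} [Group G]

theorem isCoatom_conj_smul (g : G) {M : Subgroup G} (hM : IsCoatom M) :
    IsCoatom (MulAut.conj g • M) := by
  rw [helper3.conj_smul_eq_map]
  exact (OrderIso.isCoatom_iff (MulEquiv.mapSubgroup (MulAut.conj g)) M).2 hM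

theorem coatoms_inf_eq_bot [Finite G] (hsimple : ∀ N : Subgroup G, N.Normal → N = ⊥ ∨ N = ⊤)
    (h : ∀ M : Subgroup G, IsCoatom M → Group.IsNilpotent M) :
    ∀ I M1 M2 : Subgroup G, IsCoatom M1 → IsCoatom M2 → M1 ≠ M2 → M1 ⊓ M2 = I → I = ⊥ := by
  intro I
  have hwf : WellFounded (fun a b : Subgroup G => a > b) := wellFounded_gt
  induction I using hwf.induction with
  | _ I ih =>
    intro M1 M2 hM1 hM2 hne hI
    by_contra hIbot
    have hI1 : I ≤ M1 := hI ▸ inf_le_left
    have hI2 : I ≤ M2 := hI ▸ inf_le_right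
    have hIne1 : I ≠ M1 := by
      intro e
      have hle : M1 ≤ M2 := e ▸ hI2
      rcases eq_or_lt_of_le hle with e' | hlt
      · exact hne e'
      · exact hM2.1 (hM1.2 M2 hlt)
    have hIne2 : I ≠ M2 := by
      intro e
      have hle : M2 ≤ M1 := e ▸ hI1
      rcases eq_or_lt_of_le hle with e' | hlt
      · exact hne e'.symm
      · exact hM1.1 (hM2.2 M1 hlt)
    have hNI : Subgroup.normalizer (I : Set G) ≠ ⊤ := by
      intro e
      have hn : I.Normal := Subgroup.normalizer_eq_top_iff.1 e
      rcases hsimple I hn with e1 | e1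
      · exact hIbot e1
      · apply hM1.1; rw [eq_top_iff, ← e1]; exact hI1
    obtain ⟨M3, hM3, hle3⟩ :=
      (eq_top_or_exists_le_coatom (Subgroup.normalizer (I : Set G))).resolve_left hNI
    have grow : ∀ M : Subgroup G, IsCoatom M → I ≤ M → I ≠ M → I < M3 ⊓ M := by
      intro M hM hIM hIneM
      haveI := h M hM
      have hnc : NormalizerCondition M := normalizerCondition_of_isNilpotent
      have hlt : I.subgroupOf M < ⊤ := by
        rw [lt_top_iff_ne_top]
        intro e
        rw [Subgroup.subgroupOf_eq_top] at e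
        exact hIneM (le_antisymm hIM e)
      have h2 := hnc _ hlt
      obtain ⟨x, hxN, hxI⟩ := SetLike.exists_of_lt h2
      have hxG : (x : G) ∈ Subgroup.normalizer (I : Set G) := by
        rw [Subgroup.mem_normalizer_iff] at hxN ⊢
        intro y
        constructor
        · intro hy
          have := (hxN ⟨y, hIM hy⟩).1 (by rw [Subgroup.mem_subgroupOf]; exact hy)
          rw [Subgroup.mem_subgroupOf] at this
          exact this
        · intro hy
          have hyM : y ∈ M := by
            have h1 : (x : G) * y * (x : G)⁻¹ ∈ M := hIM hy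
            have e : y = (x : G)⁻¹ * ((x : G) * y * (x : G)⁻¹) * x := by group
            rw [e]
            exact M.mul_mem (M.mul_mem (M.inv_mem x.2) h1) x.2
          have := (hxN ⟨y, hyM⟩).2 (by rw [Subgroup.mem_subgroupOf]; exact hy)
          rw [Subgroup.mem_subgroupOf] at this
          exact this
      refine lt_of_le_of_ne (le_inf (le_trans Subgroup.le_normalizer hle3) hIM) ?_
      intro e
      apply hxI
      rw [Subgroup.mem_subgroupOf, e]
      exact Subgroup.mem_inf.2 ⟨hle3 hxG, x.2⟩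
    have e1 : M3 = M1 := by
      by_contra hne31
      have hlt := grow M1 hM1 hI1 hIne1
      have := ih _ hlt M3 M1 hM3 hM1 hne31 rfl
      rw [this] at hlt
      exact not_lt_bot hlt
    have e2 : M3 = M2 := by
      by_contra hne32
      have hlt := grow M2 hM2 hI2 hIne2
      have := ih _ hlt M3 M2 hM3 hM2 hne32 rfl
      rw [this] at hlt
      exact not_lt_bot hlt
    exact hne (e1.symm.trans e2)

theorem schmidt_simple_contra [Finite G] (hsimple : ∀ N : Subgroup G, N.Normal → N = ⊥ ∨ N = ⊤)
    (h : ∀ M : Subgroup G, IsCoatom M → Group.IsNilpotent M)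
    (hnc : ¬ ∀ a b : G, a * b = b * a) : False := by
  classical
  have hinf : ∀ M1 M2 : Subgroup G, IsCoatom M1 → IsCoatom M2 → M1 ≠ M2 → M1 ⊓ M2 = ⊥ :=
    fun M1 M2 h1 h2 hne => coatoms_inf_eq_bot hsimple h _ M1 M2 h1 h2 hne rfl
  have hcyc : ∀ x : G, Subgroup.zpowers x ≠ ⊤ := by
    intro x e
    apply hnc
    intro a b
    have ha : a ∈ Subgroup.zpowers x := e ▸ Subgroup.mem_top a
    have hb : b ∈ Subgroup.zpowers x := e ▸ Subgroup.mem_top b
    obtain ⟨i, rfl⟩ := Subgroup.mem_zpowers_iff.1 ha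
    obtain ⟨j, rfl⟩ := Subgroup.mem_zpowers_iff.1 hb
    rw [← zpow_add, ← zpow_add, add_comm]
  have hex : ∀ x : G, ∃ M : Subgroup G, IsCoatom M ∧ x ∈ M := by
    intro x
    obtain ⟨M, hM, hle⟩ := (eq_top_or_exists_le_coatom (Subgroup.zpowers x)).resolve_left (hcyc x)
    exact ⟨M, hM, hle (Subgroup.mem_zpowers x)⟩
  have hfrob : ∀ M : Subgroup G, IsCoatom M → M ≠ ⊥ → Cfsg.IsFrobeniusComplement M := by
    intro M hM hMb
    refine ⟨hMb, hM.1, ?_⟩
    intro g hg
    by_contra hne
    have hMg : IsCoatom (MulAut.conj g • M) := isCoatom_conj_smul g hM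
    have heq : M = MulAut.conj g • M := by
      by_contra hne2
      exact hne (hinf M _ hM hMg hne2)
    have hgn : g ∈ Subgroup.normalizer (M : Set G) :=
      (helper3.conj_smul_eq_self_iff g M).1 heq.symm
    have hnM : Subgroup.normalizer (M : Set G) = M := by
      rcases eq_or_lt_of_le (Subgroup.le_normalizer : M ≤ Subgroup.normalizer (M : Set G)) with e | hlt
      · exact e.symm
      · exfalso
        have htop := hM.2 _ hlt
        have hn : M.Normal := Subgroup.normalizer_eq_top_iff.1 htop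
        rcases hsimple M hn with e1 | e1
        · exact hMb e1
        · exact hM.1 e1
    rw [hnM] at hgn
    exact hg hgn
  obtain ⟨x0, hx0⟩ : ∃ x : G, x ≠ 1 := by
    by_contra hall
    push Not at hall
    apply hnc
    intro a b; rw [hall a, hall b]
  obtain ⟨M1, hM1, hx0M1⟩ := hex x0
  have hM1b : M1 ≠ ⊥ := by
    intro e; rw [e, Subgroup.mem_bot] at hx0M1; exact hx0 hx0M1
  have hF1 := hfrob M1 hM1 hM1b
  have hK1 := helper21.frobc_kernel_card M1 hF1
  have hidx1 : 2 ≤ M1.index := by
    have h0 : M1.index ≠ 0 := Subgroup.index_ne_zero_of_finite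
    have h1 : M1.index ≠ 1 := by rw [Ne, Subgroup.index_eq_one]; exact hM1.1
    omega
  obtain ⟨x1, hx1ne, hx1K⟩ : ∃ x : G, x ≠ 1 ∧ ∀ a : G, a⁻¹ * x * a ∉ M1 := by
    by_contra hall
    push Not at hall
    haveI : Subsingleton {x : G // x = 1 ∨ ∀ a : G, a⁻¹ * x * a ∉ M1} := by
      constructor
      rintro ⟨x, hx⟩ ⟨y, hy⟩
      have hx1 : x = 1 := by
        by_contra hne; rcases hx with h' | h'
        · exact hne h'
        · obtain ⟨a, ha⟩ := hall x hne; exact h' a ha
      have hy1 : y = 1 := by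
        by_contra hne; rcases hy with h' | h'
        · exact hne h'
        · obtain ⟨a, ha⟩ := hall y hne; exact h' a ha
      exact Subtype.ext (hx1.trans hy1.symm)
    have := Finite.card_le_one_iff_subsingleton.2 this
    omega
  obtain ⟨M2, hM2, hx1M2⟩ := hex x1
  have hM2b : M2 ≠ ⊥ := by
    intro e; rw [e, Subgroup.mem_bot] at hx1M2; exact hx1ne hx1M2
  have hF2 := hfrob M2 hM2 hM2b
  have hK2 := helper21.frobc_kernel_card M2 hF2
  -- sets
  obtain ⟨S1, hS1⟩ : ∃ S : Set G, S = {x : G | x = 1 ∨ ∀ a : G, a⁻¹ * x * a ∉ M1} := ⟨_, rfl⟩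
  obtain ⟨S2, hS2⟩ : ∃ S : Set G, S = {x : G | x = 1 ∨ ∀ a : G, a⁻¹ * x * a ∉ M2} := ⟨_, rfl⟩
  have hc1 : S1.ncard = M1.index := by
    rw [← hK1, hS1]; rfl
  have hc2 : S2.ncard = M2.index := by
    rw [← hK2, hS2]; rfl
  have hsub : S1ᶜ ⊆ S2 \ {1} := by
    intro x hx
    rw [hS1] at hx
    simp only [Set.mem_compl_iff, Set.mem_setOf_eq, not_or, not_forall, not_not] at hx
    obtain ⟨hxne, a, ha⟩ := hx
    refine ⟨?_, hxne⟩
    rw [hS2]
    right
    intro b hb
    -- x ∈ conj a • M1 ⊓ conj b • M2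
    have hxa : x ∈ MulAut.conj a • M1 := (helper3.mem_conj_smul_iff a x M1).2 ha
    have hxb : x ∈ MulAut.conj b • M2 := (helper3.mem_conj_smul_iff b x M2).2 hb
    have heq : MulAut.conj a • M1 = MulAut.conj b • M2 := by
      by_contra hne
      have := hinf _ _ (isCoatom_conj_smul a hM1) (isCoatom_conj_smul b hM2) hne
      have hmem : x ∈ MulAut.conj a • M1 ⊓ MulAut.conj b • M2 := Subgroup.mem_inf.2 ⟨hxa, hxb⟩
      rw [this, Subgroup.mem_bot] at hmem
      exact hxne hmem
    have h1 : b * x1 * b⁻¹ ∈ MulAut.conj b • M2 := helper3.conj_mem_conj_smul b x1 M2 hx1M2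
    rw [← heq, helper3.mem_conj_smul_iff] at h1
    apply hx1K (b⁻¹ * a)
    have e : (b⁻¹ * a)⁻¹ * x1 * (b⁻¹ * a) = a⁻¹ * (b * x1 * b⁻¹) * a := by group
    rw [e]; exact h1
  have h1S2 : (1 : G) ∈ S2 := by rw [hS2]; left; rfl
  have hle : S1ᶜ.ncard ≤ S2.ncard - 1 := by
    rw [← Set.ncard_sdiff_singleton_of_mem h1S2]
    exact Set.ncard_le_ncard hsub
  have hadd : S1.ncard + S1ᶜ.ncard = Nat.card G := Set.ncard_add_ncard_compl S1
  have hm1 : M1.index * Nat.card M1 = Nat.card G := Subgroup.index_mul_card M1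
  have hm2 : M2.index * Nat.card M2 = Nat.card G := Subgroup.index_mul_card M2
  have hcard1 : 2 ≤ Nat.card M1 := (Subgroup.one_lt_card_iff_ne_bot M1).2 hM1b
  have hcard2 : 2 ≤ Nat.card M2 := (Subgroup.one_lt_card_iff_ne_bot M2).2 hM2b
  have hi1 : M1.index * 2 ≤ Nat.card G := hm1 ▸ Nat.mul_le_mul_left _ hcard1
  have hi2 : M2.index * 2 ≤ Nat.card G := hm2 ▸ Nat.mul_le_mul_left _ hcard2
  have hi2pos : 0 < M2.index := Nat.pos_of_ne_zero Subgroup.index_ne_zero_of_finite
  omega

theorem schmidt : ∀ (n : ℕ) (G : Type u) [Group G] [Finite G], Nat.card G = n →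
    (∀ M : Subgroup G, IsCoatom M → Group.IsNilpotent M) → Group.IsSolvable G := by
  intro n
  induction n using Nat.strong_induction_on with
  | _ n ih =>
    intro G _ _ hn h
    by_cases hsimple : ∀ N : Subgroup G, N.Normal → N = ⊥ ∨ N = ⊤
    · by_cases hc : ∀ a b : G, a * b = b * a
      · exact isSolvable_of_comm hc
      · exact (schmidt_simple_contra hsimple h hc).elim
    · push Not at hsimple
      obtain ⟨N, hNn, hNb, hNt⟩ := hsimple
      haveI := hNn
      obtain ⟨M, hM, hNM⟩ := (eq_top_or_exists_le_coatom N).resolve_left hNt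
      haveI := h M hM
      haveI hMs : Group.IsSolvable M := IsNilpotent.to_isSolvable
      haveI hNs : Group.IsSolvable N :=
        solvable_of_solvable_injective (Subgroup.inclusion_injective hNM)
      haveI hQs : Group.IsSolvable (G ⧸ N) := by
        refine ih (Nat.card (G ⧸ N)) ?_ (G ⧸ N) rfl ?_
        · rw [← hn, ← Subgroup.index_eq_card, ← Subgroup.index_mul_card N]
          have h1 : 1 < Nat.card N := (Subgroup.one_lt_card_iff_ne_bot N).2 hNb
          have hpos : 0 < N.index := Nat.pos_of_ne_zero Subgroup.index_ne_zero_of_finite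
          exact lt_mul_of_one_lt_right hpos h1
        · intro Mbar hMbar
          have hco := Subgroup.isCoatom_comap_of_surjective (QuotientGroup.mk'_surjective N) hMbar
          haveI := h _ hco
          have e : Mbar = (Mbar.comap (QuotientGroup.mk' N)).map (QuotientGroup.mk' N) :=
            (Subgroup.map_comap_eq_self_of_surjective (QuotientGroup.mk'_surjective N) _).symm
          rw [e]
          exact nilpotent_of_surjective ((QuotientGroup.mk' N).subgroupMap _)
            (MonoidHom.subgroupMap_surjective _ _)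
      exact solvable_of_ker_le_range N.subtype (QuotientGroup.mk' N)
        (by rw [QuotientGroup.ker_mk', Subgroup.range_subtype])

end schmidt

end Cfsg.Agent.helper23
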