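import Mathlib
import Cfsg.Agent.Lib_helper23_Schmidt

set_option autoImplicit false

namespace Cfsg.Agent.helper17.MNN

universe u

variable {G : Type u} [Group G]

/-- A finite group that is not perfect has a normal subgroup of prime index. -/
theorem exists_normal_prime_index [Finite G] (h : commutator G ≠ ⊤) :
    ∃ N : Subgroup G, N.Normal ∧ (N.index).Prime := by
  classical
  have hnt : Nontrivial (Abelianization G) := by
    rw [Abelianization, QuotientGroup.nontrivial_iff]
    exact h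
  have hnt2 : Nontrivial (Subgroup (Abelianization G)) := Subgroup.nontrivial_iff.mpr hnt
  obtain ⟨M, hM⟩ := IsCoatomic.exists_coatom (α := Subgroup (Abelianization G))
  have hMn : M.Normal := Subgroup.normal_of_isMulCommutative M
  have hsimple : IsSimpleGroup (Abelianization G ⧸ M) := by
    have hnt3 : Nontrivial (Abelianization G ⧸ M) := by
      rw [QuotientGroup.nontrivial_iff]
      exact hM.1
    refine ⟨fun H _ => ?_⟩
    have hle : M ≤ H.comap (QuotientGroup.mk' M) := by
      intro x hx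
      rw [Subgroup.mem_comap]
      have : (QuotientGroup.mk' M) x = 1 := (QuotientGroup.eq_one_iff x).mpr hx
      rw [this]
      exact H.one_mem
    rcases hM.le_iff.mp hle with h1 | h1
    · right
      rw [← Subgroup.map_comap_eq_self_of_surjective (QuotientGroup.mk'_surjective M) H, h1,
        Subgroup.map_top_of_surjective _ (QuotientGroup.mk'_surjective M)]
    · left
      apply Subgroup.comap_injective (QuotientGroup.mk'_surjective M)
      rw [h1, MonoidHom.comap_bot, QuotientGroup.ker_mk']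
  have hprime : (Nat.card (Abelianization G ⧸ M)).Prime := IsSimpleGroup.prime_card
  refine ⟨M.comap (Abelianization.of), inferInstance, ?_⟩
  have hsurj : Function.Surjective (Abelianization.of : G →* Abelianization G) :=
    QuotientGroup.mk'_surjective (commutator G)
  rw [Subgroup.index_comap_of_surjective _ hsurj]
  exact hprime

/-- In a nilpotent subgroup `H`, a Sylow subgroup of `G` contained in `H` is normalized by `H`. -/
theorem le_normalizer_of_nilpotent [Finite G] {p : ℕ} [Fact p.Prime] (H : Subgroup G)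
    (hH : Group.IsNilpotent H) (P : Sylow p G) (hPH : (P : Subgroup G) ≤ H) :
    H ≤ Subgroup.normalizer ((P : Subgroup G) : Set G) := by
  have h4 := ((Group.isNilpotent_of_finite_tfae (G := H)).out 0 3).1 hH
  have hn : ((P.subtype hPH : Sylow p H) : Subgroup H).Normal := h4 p inferInstance _
  rw [Sylow.coe_subtype] at hn
  exact (Subgroup.normal_subgroupOf_iff_le_normalizer hPH).1 hn

/-- A Sylow subgroup of `G` inside a nilpotent normal subgroup is normal in `G`. -/
theorem sylow_normal_of_le_nilpotent_normal [Finite G] {r : ℕ} [Fact r.Prime] (N : Subgroup G)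
    [N.Normal] (hN : Group.IsNilpotent N) (R : Sylow r G) (hRN : (R : Subgroup G) ≤ N) :
    (R : Subgroup G).Normal := by
  have h1 : N ≤ Subgroup.normalizer ((R : Subgroup G) : Set G) :=
    le_normalizer_of_nilpotent N hN R hRN
  have h2 := Sylow.normalizer_sup_eq_top (R.subtype hRN)
  have h3 : ((R.subtype hRN : Sylow r N) : Subgroup N).map N.subtype = (R : Subgroup G) := by
    rw [Sylow.coe_subtype, Subgroup.subgroupOf_map_subtype]
    exact inf_of_le_left hRN
  rw [h3] at h2
  rw [← Subgroup.normalizer_eq_top_iff, ← h2]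
  exact (sup_of_le_left h1).symm

/-- Sylow `r`-subgroups lie in a normal subgroup of prime index `p ≠ r`. -/
theorem sylow_le_of_index_prime [Finite G] {p r : ℕ} [Fact r.Prime] (N : Subgroup G) [N.Normal]
    (hp : N.index = p) (hpp : p.Prime) (hne : r ≠ p) (R : Sylow r G) :
    (R : Subgroup G) ≤ N := by
  intro x hx
  obtain ⟨k, hk⟩ := R.isPGroup' ⟨x, hx⟩
  have hk' : x ^ (r ^ k) = 1 := by simpa using congrArg Subtype.val hk
  have hcop : Nat.Coprime (r ^ k) p :=
    Nat.Coprime.pow_left k ((Nat.coprime_primes Fact.out hpp).2 hne)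
  have hq : ((x : G ⧸ N)) ^ (r ^ k) = 1 := by
    rw [← QuotientGroup.mk_pow, hk']; rfl
  have h2 : orderOf (x : G ⧸ N) ∣ r ^ k := orderOf_dvd_of_pow_eq_one hq
  have h3 : orderOf (x : G ⧸ N) ∣ p := by
    have := orderOf_dvd_natCard (x : G ⧸ N)
    rwa [← Subgroup.index_eq_card, hp] at this
  have h4 := Nat.dvd_gcd h2 h3
  rw [hcop.gcd_eq_one] at h4
  have h5 : orderOf (x : G ⧸ N) = 1 := Nat.dvd_one.1 h4
  rw [orderOf_eq_one_iff, QuotientGroup.eq_one_iff] at h5
  exact h5

/-- In a finite nilpotent group, a `p`-element and a `q`-element commute. -/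
theorem commute_of_nilpotent {K : Type*} [Group K] [Finite K] (hK : Group.IsNilpotent K)
    {p q : ℕ} [Fact p.Prime] [Fact q.Prime] (hpq : p ≠ q) (x y : K)
    (hx : ∃ k, x ^ (p ^ k) = 1) (hy : ∃ k, y ^ (q ^ k) = 1) : x * y = y * x := by
  have h4 := ((Group.isNilpotent_of_finite_tfae (G := K)).out 0 3).1 hK
  have hxp : IsPGroup p (Subgroup.zpowers x) := by
    obtain ⟨k, hk⟩ := hx
    obtain ⟨j, _, hj⟩ := (Nat.dvd_prime_pow Fact.out).1 (orderOf_dvd_of_pow_eq_one hk)
    exact IsPGroup.of_card (n := j) (by rw [Nat.card_zpowers, hj])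
  have hyq : IsPGroup q (Subgroup.zpowers y) := by
    obtain ⟨k, hk⟩ := hy
    obtain ⟨j, _, hj⟩ := (Nat.dvd_prime_pow Fact.out).1 (orderOf_dvd_of_pow_eq_one hk)
    exact IsPGroup.of_card (n := j) (by rw [Nat.card_zpowers, hj])
  obtain ⟨P, hP⟩ := hxp.exists_le_sylow
  obtain ⟨Q, hQ⟩ := hyq.exists_le_sylow
  have hPn := h4 p inferInstance P
  have hQn := h4 q inferInstance Q
  have hxP : x ∈ (P : Subgroup K) := hP (Subgroup.mem_zpowers x)
  have hyQ : y ∈ (Q : Subgroup K) := hQ (Subgroup.mem_zpowers y)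
  have hdisj : Disjoint (P : Subgroup K) (Q : Subgroup K) :=
    IsPGroup.disjoint_of_ne p q hpq _ _ P.isPGroup' Q.isPGroup'
  have hc : x * y * x⁻¹ * y⁻¹ ∈ (P : Subgroup K) ⊓ (Q : Subgroup K) := by
    refine ⟨?_, ?_⟩
    · have h1 : y * x⁻¹ * y⁻¹ ∈ (P : Subgroup K) := hPn.conj_mem _ ((P : Subgroup K).inv_mem hxP) y
      have h2 := (P : Subgroup K).mul_mem hxP h1
      have e : x * (y * x⁻¹ * y⁻¹) = x * y * x⁻¹ * y⁻¹ := by group
      rwa [e] at h2
    · have h1 : x * y * x⁻¹ ∈ (Q : Subgroup K) := hQn.conj_mem _ hyQ x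
      exact (Q : Subgroup K).mul_mem h1 ((Q : Subgroup K).inv_mem hyQ)
  rw [hdisj.eq_bot, Subgroup.mem_bot] at hc
  have h5 := mul_inv_eq_one.1 hc
  exact mul_inv_eq_iff_eq_mul.1 h5

theorem commute_of_nilpotent_subgroup [Finite G] (H : Subgroup G) (hH : Group.IsNilpotent H)
    {p q : ℕ} [Fact p.Prime] [Fact q.Prime] (hpq : p ≠ q) {x y : G} (hxH : x ∈ H) (hyH : y ∈ H)
    (hx : ∃ k, x ^ (p ^ k) = 1) (hy : ∃ k, y ^ (q ^ k) = 1) : x * y = y * x := by
  have h := commute_of_nilpotent hH hpq (⟨x, hxH⟩ : H) ⟨y, hyH⟩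
    (by obtain ⟨k, hk⟩ := hx; exact ⟨k, Subtype.ext (by simpa using hk)⟩)
    (by obtain ⟨k, hk⟩ := hy; exact ⟨k, Subtype.ext (by simpa using hk)⟩)
  exact congrArg Subtype.val h

/-- Auxiliary form with the normal subgroup of prime index given. -/
theorem minNonNilpotent_aux [Finite G] (hnn : ¬ Group.IsNilpotent G)
    (hprop : ∀ H : Subgroup G, H ≠ ⊤ → Group.IsNilpotent H) (N : Subgroup G) [N.Normal]
    (p : ℕ) (hp : N.index = p) (hNp : p.Prime) :
    ∃ q : ℕ, q.Prime ∧ p ≠ q ∧ ∃ (P : Sylow p G) (Q : Sylow q G),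
      (∃ x : G, (P : Subgroup G) = Subgroup.zpowers x) ∧ (Q : Subgroup G).Normal ∧
        (P : Subgroup G) ⊔ Q = ⊤ := by
  classical
  haveI : Fact p.Prime := ⟨hNp⟩
  have hNtop : N ≠ ⊤ := by
    intro h
    rw [h, Subgroup.index_top] at hp
    exact Nat.not_prime_one (hp ▸ hNp)
  have hNnil := hprop N hNtop
  have hA : ∀ (r : ℕ) [Fact r.Prime], r ≠ p → ∀ R : Sylow r G, (R : Subgroup G).Normal := by
    intro r _ hr R
    exact sylow_normal_of_le_nilpotent_normal N hNnil R (sylow_le_of_index_prime N hp hNp hr R)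
  have key : ¬ ∀ P : Sylow p G, (P : Subgroup G).Normal := by
    intro hall
    apply hnn
    refine ((Group.isNilpotent_of_finite_tfae (G := G)).out 0 3).2 ?_
    intro r hr R
    by_cases hrp : r = p
    · have hall' : ∀ P : Sylow r G, (P : Subgroup G).Normal := by
        rw [hrp]; exact hall
      exact hall' R
    · exact hA r hrp R
  have step4 : ∃ (q : ℕ) (_ : Fact q.Prime) (_ : q ≠ p) (P : Sylow p G) (Q : Sylow q G),
      (P : Subgroup G) ⊔ Q = ⊤ := by
    by_contra hcon
    push Not at hcon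
    apply key
    intro P
    rw [← Subgroup.normalizer_eq_top_iff, ← Subgroup.index_eq_one]
    by_contra hne
    obtain ⟨r, hrprime, hrdvd⟩ := Nat.exists_prime_and_dvd hne
    haveI : Fact r.Prime := ⟨hrprime⟩
    by_cases hrp : r = p
    · have h1 : (Subgroup.normalizer ((P : Subgroup G) : Set G)).index ∣ (P : Subgroup G).index :=
        Subgroup.index_dvd_of_le Subgroup.le_normalizer
      have h2 : ¬ p ∣ (P : Subgroup G).index := P.not_dvd_index
      rw [hrp] at hrdvd
      exact h2 (hrdvd.trans h1)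
    · obtain ⟨R⟩ : Nonempty (Sylow r G) := inferInstance
      have hRn : (R : Subgroup G) ≤ Subgroup.normalizer ((P : Subgroup G) : Set G) := by
        have hH := hprop _ (hcon r inferInstance hrp P R)
        exact le_trans le_sup_right (le_normalizer_of_nilpotent _ hH P le_sup_left)
      have h1 := Subgroup.index_dvd_of_le hRn
      exact R.not_dvd_index (hrdvd.trans h1)
  obtain ⟨q, hq, hqp, P, Q, hPQ⟩ := step4
  haveI := hq
  have hQn : (Q : Subgroup G).Normal := hA q hqp Q
  refine ⟨q, hq.out, fun h => hqp h.symm, P, Q, ?_, hQn, hPQ⟩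
  by_contra hcyc
  push Not at hcyc
  have hdisj : (P : Subgroup G) ⊓ Q = ⊥ :=
    (IsPGroup.disjoint_of_ne p q (fun h => hqp h.symm) _ _ P.isPGroup' Q.isPGroup').eq_bot
  have h1 : ∀ x ∈ (P : Subgroup G), Subgroup.zpowers x ⊔ (Q : Subgroup G) ≠ ⊤ := by
    intro x hx htop
    apply hcyc x
    apply le_antisymm
    · intro g hg
      have hg' : g ∈ Subgroup.zpowers x ⊔ (Q : Subgroup G) := htop ▸ Subgroup.mem_top g
      rw [Subgroup.mem_sup_of_normal_right] at hg'
      obtain ⟨a, ha, b, hb, hab⟩ := hg'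
      have haP : a ∈ (P : Subgroup G) := (Subgroup.zpowers_le.2 hx) ha
      have hbP : b ∈ (P : Subgroup G) := by
        have e : b = a⁻¹ * g := by rw [← hab]; group
        rw [e]; exact mul_mem (inv_mem haP) hg
      have hb1 : b = 1 := by
        have hb2 : b ∈ (P : Subgroup G) ⊓ Q := ⟨hbP, hb⟩
        rwa [hdisj, Subgroup.mem_bot] at hb2
      rw [← hab, hb1, mul_one]; exact ha
    · exact Subgroup.zpowers_le.2 hx
  have h2 : ∀ x ∈ (P : Subgroup G), ∀ y ∈ (Q : Subgroup G), x * y = y * x := by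
    intro x hx y hy
    have hH := hprop _ (h1 x hx)
    refine commute_of_nilpotent_subgroup _ hH (fun h => hqp h.symm)
      (le_sup_left (a := Subgroup.zpowers x) (Subgroup.mem_zpowers x))
      (le_sup_right (b := (Q : Subgroup G)) hy) ?_ ?_
    · obtain ⟨k, hk⟩ := P.isPGroup' ⟨x, hx⟩
      exact ⟨k, by simpa using congrArg Subtype.val hk⟩
    · obtain ⟨k, hk⟩ := Q.isPGroup' ⟨y, hy⟩
      exact ⟨k, by simpa using congrArg Subtype.val hk⟩
  apply key
  have hPnorm : (P : Subgroup G).Normal := by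
    rw [← Subgroup.normalizer_eq_top_iff, eq_top_iff, ← hPQ]
    refine sup_le Subgroup.le_normalizer ?_
    intro y hy
    rw [Subgroup.mem_normalizer_iff]
    intro h
    constructor
    · intro hh
      have e := h2 h hh y hy
      rw [← e, mul_inv_cancel_right]; exact hh
    · intro hh
      have e := h2 _ hh y hy
      have e2 : h = y * h * y⁻¹ := by
        have e3 : y * h = y * (y * h * y⁻¹) := by
          rw [← e]; group
        exact mul_left_cancel e3
      rw [e2]; exact hh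
  haveI := hPnorm
  intro P'
  obtain ⟨g, rfl⟩ := MulAction.exists_smul_eq G P P'
  rw [Sylow.smul_eq_of_normal]
  exact hPnorm

/-- Structure of minimal non-nilpotent groups (Schmidt). -/
theorem minNonNilpotent_structure [Finite G] (hnn : ¬ Group.IsNilpotent G)
    (hprop : ∀ H : Subgroup G, H ≠ ⊤ → Group.IsNilpotent H) :
    ∃ p q : ℕ, p.Prime ∧ q.Prime ∧ p ≠ q ∧ ∃ (P : Sylow p G) (Q : Sylow q G),
      (∃ x : G, (P : Subgroup G) = Subgroup.zpowers x) ∧ (Q : Subgroup G).Normal ∧
        (P : Subgroup G) ⊔ Q = ⊤ := by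
  classical
  haveI hsolv : Group.IsSolvable G :=
    Cfsg.Agent.helper23.schmidt (Nat.card G) G rfl (fun M hM => hprop M hM.1)
  haveI : Nontrivial G := by
    by_contra hnt
    rw [not_nontrivial_iff_subsingleton] at hnt
    exact hnn inferInstance
  have hlt : commutator G < ⊤ := Group.IsSolvable.commutator_lt_top_of_nontrivial G
  obtain ⟨N, hNn, hNp⟩ := exists_normal_prime_index hlt.ne
  haveI := hNn
  obtain ⟨q, hq, hpq, P, Q, h⟩ := minNonNilpotent_aux hnn hprop N N.index rfl hNp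
  exact ⟨N.index, q, hNp, hq, hpq, P, Q, h⟩

/-- An element of order prime to `q` normalizing an abelian `q`-group `Q` and centralizing
`Ω₁(Q)` centralizes `Q`. -/
theorem centralizes_of_centralizes_omega {q : ℕ} (Q : Subgroup G)
    (hQc : ∀ a ∈ Q, ∀ b ∈ Q, a * b = b * a) (hQq : ∀ a ∈ Q, ∃ k, a ^ (q ^ k) = 1) (x : G)
    (hxn : ∀ a ∈ Q, x * a * x⁻¹ ∈ Q) {m : ℕ} (hm : x ^ m = 1) (hcop : Nat.Coprime m q)
    (hΩ : ∀ a ∈ Q, a ^ q = 1 → x * a * x⁻¹ = a) : ∀ a ∈ Q, x * a * x⁻¹ = a := by
  have main : ∀ k : ℕ, ∀ a ∈ Q, a ^ (q ^ k) = 1 → x * a * x⁻¹ = a := by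
    intro k
    induction k with
    | zero =>
      intro a _ ha
      rw [pow_zero, pow_one] at ha
      subst ha; simp
    | succ k ih =>
      intro a haQ ha
      have h1 : x * a ^ q * x⁻¹ = a ^ q :=
        ih (a ^ q) (pow_mem haQ q) (by rw [← pow_mul, ← pow_succ']; exact ha)
      have hcQ : a⁻¹ * (x * a * x⁻¹) ∈ Q := mul_mem (inv_mem haQ) (hxn a haQ)
      have hcq : (a⁻¹ * (x * a * x⁻¹)) ^ q = 1 := by
        have hcomm : Commute a⁻¹ (x * a * x⁻¹) := hQc _ (inv_mem haQ) _ (hxn a haQ)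
        rw [hcomm.mul_pow, conj_pow, h1, inv_pow, inv_mul_cancel]
      have hxc : x * (a⁻¹ * (x * a * x⁻¹)) * x⁻¹ = a⁻¹ * (x * a * x⁻¹) := hΩ _ hcQ hcq
      generalize hc : a⁻¹ * (x * a * x⁻¹) = c at hcQ hcq hxc
      have hxa : x * a * x⁻¹ = a * c := by rw [← hc, mul_inv_cancel_left]
      have hiter : ∀ j : ℕ, x ^ j * a * (x ^ j)⁻¹ = a * c ^ j := by
        intro j
        induction j with
        | zero => simp
        | succ j ihj =>
          have e1 : x ^ (j + 1) * a * (x ^ (j + 1))⁻¹ = x * (x ^ j * a * (x ^ j)⁻¹) * x⁻¹ := by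
            rw [pow_succ']; group
          have e2 : x * (a * c ^ j) * x⁻¹ = (x * a * x⁻¹) * (x * c ^ j * x⁻¹) := by group
          rw [e1, ihj, e2, hxa, ← conj_pow, hxc, mul_assoc, ← pow_succ']
      have h3 := hiter m
      rw [hm] at h3
      have h4 : c ^ m = 1 := by
        have h5 : a = a * c ^ m := by simpa using h3
        exact (mul_eq_left.1 h5.symm)
      have hc1 : c = 1 := by
        have ho1 : orderOf c ∣ m := orderOf_dvd_of_pow_eq_one h4
        have ho2 : orderOf c ∣ q := orderOf_dvd_of_pow_eq_one hcq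
        have h6 := Nat.dvd_gcd ho1 ho2
        rw [hcop.gcd_eq_one] at h6
        exact orderOf_eq_one_iff.1 (Nat.dvd_one.1 h6)
      rw [hxa, hc1, mul_one]
  intro a haQ
  obtain ⟨k, hk⟩ := hQq a haQ
  exact main k a haQ hk

/-- A finite nilpotent group all of whose Sylow subgroups are commutative is commutative. -/
theorem comm_of_nilpotent_of_sylow_comm {K : Type*} [Group K] [Finite K]
    (hK : Group.IsNilpotent K)
    (h : ∀ (p : ℕ) [Fact p.Prime] (P : Sylow p K), ∀ a ∈ (P : Subgroup K),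
      ∀ b ∈ (P : Subgroup K), a * b = b * a) : ∀ a b : K, a * b = b * a := by
  classical
  obtain ⟨e⟩ := ((Group.isNilpotent_of_finite_tfae (G := K)).out 0 4).1 hK
  intro a b
  have hab : e.symm a * e.symm b = e.symm b * e.symm a := by
    funext p
    funext P
    haveI : Fact (p : ℕ).Prime := ⟨Nat.prime_of_mem_primeFactors p.2⟩
    exact Subtype.ext (h p P _ (e.symm a p P).2 _ (e.symm b p P).2)
  have := congrArg e hab
  simpa using this

/-- If `G = P Q` with `P` a Sylow `p`-subgroup and `Q` a normal Sylow `q`-subgroup, then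
`r`-elements for `r ∉ {p, q}` are trivial. -/
theorem eq_one_of_pow_eq_one_of_sup [Finite G] {p q r : ℕ} [Fact p.Prime] [Fact q.Prime]
    [Fact r.Prime] (hrp : r ≠ p) (hrq : r ≠ q) (P : Sylow p G) (Q : Sylow q G)
    [hQ : (Q : Subgroup G).Normal] (hPQ : (P : Subgroup G) ⊔ Q = ⊤) {y : G} {k : ℕ}
    (hy : y ^ (r ^ k) = 1) : y = 1 := by
  have hy' : y ∈ (P : Subgroup G) ⊔ Q := hPQ ▸ Subgroup.mem_top y
  rw [Subgroup.mem_sup_of_normal_right] at hy'
  obtain ⟨a, ha, b, hb, hab⟩ := hy'
  obtain ⟨j, hj⟩ := P.isPGroup' ⟨a, ha⟩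
  have hj' : a ^ (p ^ j) = 1 := by simpa using congrArg Subtype.val hj
  have hmk : (y : G ⧸ (Q : Subgroup G)) = (a : G ⧸ (Q : Subgroup G)) := by
    rw [← hab, QuotientGroup.mk_mul, (QuotientGroup.eq_one_iff b).2 hb, mul_one]
  have h1 : (y : G ⧸ (Q : Subgroup G)) ^ (p ^ j) = 1 := by
    rw [hmk, ← QuotientGroup.mk_pow, hj']; rfl
  have h2 : (y : G ⧸ (Q : Subgroup G)) ^ (r ^ k) = 1 := by
    rw [← QuotientGroup.mk_pow, hy]; rfl
  have hcop1 : Nat.Coprime (p ^ j) (r ^ k) :=
    Nat.Coprime.pow j k ((Nat.coprime_primes Fact.out Fact.out).2 (fun h => hrp h.symm))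
  have h3 := Nat.dvd_gcd (orderOf_dvd_of_pow_eq_one h1) (orderOf_dvd_of_pow_eq_one h2)
  rw [hcop1.gcd_eq_one] at h3
  have h4 : orderOf (y : G ⧸ (Q : Subgroup G)) = 1 := Nat.dvd_one.1 h3
  rw [orderOf_eq_one_iff, QuotientGroup.eq_one_iff] at h4
  obtain ⟨i, hi⟩ := Q.isPGroup' ⟨y, h4⟩
  have hi' : y ^ (q ^ i) = 1 := by simpa using congrArg Subtype.val hi
  have hcop2 : Nat.Coprime (q ^ i) (r ^ k) :=
    Nat.Coprime.pow i k ((Nat.coprime_primes Fact.out Fact.out).2 (fun h => hrq h.symm))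
  have h5 := Nat.dvd_gcd (orderOf_dvd_of_pow_eq_one hi') (orderOf_dvd_of_pow_eq_one hy)
  rw [hcop2.gcd_eq_one] at h5
  exact orderOf_eq_one_iff.1 (Nat.dvd_one.1 h5)

/-- If `G = P Q` is not nilpotent, with `Q` a normal Sylow `q`-subgroup and `P` a Sylow
`p`-subgroup, then `P` is not normal. -/
theorem not_normal_of_sup_eq_top [Finite G] (hnn : ¬ Group.IsNilpotent G) {p q : ℕ}
    [Fact p.Prime] [Fact q.Prime] (P : Sylow p G) (Q : Sylow q G)
    (hQ : (Q : Subgroup G).Normal) (hPQ : (P : Subgroup G) ⊔ Q = ⊤) :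
    ¬ (P : Subgroup G).Normal := by
  intro hP
  apply hnn
  refine ((Group.isNilpotent_of_finite_tfae (G := G)).out 0 3).2 ?_
  intro r hr R
  by_cases hrp : r = p
  · subst hrp
    obtain ⟨g, rfl⟩ := MulAction.exists_smul_eq G P R
    rw [Sylow.smul_eq_of_normal]
    exact hP
  · by_cases hrq : r = q
    · subst hrq
      obtain ⟨g, rfl⟩ := MulAction.exists_smul_eq G Q R
      rw [Sylow.smul_eq_of_normal]
      exact hQ
    · have hbot : (R : Subgroup G) = ⊥ := by
        rw [eq_bot_iff]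
        intro y hy
        obtain ⟨k, hk⟩ := R.isPGroup' ⟨y, hy⟩
        have hk' : y ^ (r ^ k) = 1 := by simpa using congrArg Subtype.val hk
        rw [Subgroup.mem_bot]
        exact eq_one_of_pow_eq_one_of_sup hrp hrq P Q hPQ hk'
      rw [hbot]
      infer_instance

end Cfsg.Agent.helper17.MNN
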