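import Mathlib
import Cfsg.Prelude.Def_KGroupFacts

set_option autoImplicit false

namespace Cfsg.Agent.helper20

open Subgroup
open scoped commutatorElement

/-- If a generating set has pairwise commutators in the normal subgroup `N`, then the derived
subgroup lies in `N`. -/
theorem commutator_le_of_gens {Γ : Type*} [Group Γ] (N : Subgroup Γ) [N.Normal] (S : Set Γ)
    (hS : closure S = ⊤) (hcomm : ∀ a ∈ S, ∀ b ∈ S, a * b * a⁻¹ * b⁻¹ ∈ N) :
    commutator Γ ≤ N := by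
  set π := QuotientGroup.mk' N with hπ
  set T : Set (Γ ⧸ N) := π '' S with hT
  have hTtop : closure T = ⊤ := by
    rw [hT, ← MonoidHom.map_closure, hS, ← MonoidHom.range_eq_map,
      MonoidHom.range_eq_top_of_surjective _ (QuotientGroup.mk'_surjective N)]
  have hTcomm : ∀ a ∈ T, ∀ b ∈ T, a * b = b * a := by
    rintro _ ⟨a, ha, rfl⟩ _ ⟨b, hb, rfl⟩
    have h1 : π (a * b * a⁻¹ * b⁻¹) = 1 := by
      rw [hπ, QuotientGroup.mk'_apply, QuotientGroup.eq_one_iff]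
      exact hcomm a ha b hb
    rw [map_mul, map_mul, map_mul, map_inv, map_inv] at h1
    have : π a * π b = (π a * π b * (π a)⁻¹ * (π b)⁻¹) * (π b * π a) := by group
    rw [this, h1, one_mul]
  have h1 : closure T ≤ centralizer T := by
    rw [closure_le]
    intro a ha
    rw [SetLike.mem_coe, mem_centralizer_iff]
    intro b hb
    exact hTcomm b hb a ha
  have h2 : T ⊆ center (Γ ⧸ N) := by
    intro t ht
    rw [SetLike.mem_coe, mem_center_iff]
    intro g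
    have hg : g ∈ centralizer T := h1 (hTtop ▸ mem_top g)
    rw [mem_centralizer_iff] at hg
    exact (hg t ht).symm
  have h3 : (⊤ : Subgroup (Γ ⧸ N)) ≤ center (Γ ⧸ N) := by
    rw [← hTtop, closure_le]
    exact h2
  rw [commutator_def, Subgroup.commutator_le]
  intro x _ y _
  have hx : π x ∈ center (Γ ⧸ N) := h3 (mem_top _)
  rw [mem_center_iff] at hx
  have h4 : π ⁅x, y⁆ = 1 := by
    rw [map_commutatorElement, commutatorElement_eq_one_iff_commute]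
    exact (hx (π y)).symm
  rw [hπ, QuotientGroup.mk'_apply, QuotientGroup.eq_one_iff] at h4
  exact h4

/-- Lifts of generators together with the kernel generate. -/
theorem closure_lifts_union_ker {Γ Q : Type*} [Group Γ] [Group Q] (σ : Γ →* Q) (S : Set Γ)
    (hgen : closure (σ '' S) = ⊤) : closure (S ∪ (σ.ker : Set Γ)) = ⊤ := by
  rw [eq_top_iff]
  intro g _
  have hg : σ g ∈ closure (σ '' S) := hgen ▸ mem_top _
  rw [← MonoidHom.map_closure] at hg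
  obtain ⟨h, hh, hhg⟩ := hg
  have hk : h⁻¹ * g ∈ σ.ker := by
    rw [MonoidHom.mem_ker, map_mul, map_inv, hhg, inv_mul_cancel]
  have : g = h * (h⁻¹ * g) := by group
  rw [this]
  refine mul_mem ?_ ?_
  · exact closure_mono Set.subset_union_left hh
  · exact subset_closure (Set.mem_union_right _ hk)

/-- In a central extension, to bound the derived subgroup it suffices to look at commutators of
lifts of generators. -/
theorem commutator_le_of_lifts {Γ Q : Type*} [Group Γ] [Group Q] (σ : Γ →* Q)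
    (hker : σ.ker ≤ center Γ) (S : Set Γ) (hgen : closure (σ '' S) = ⊤)
    (N : Subgroup Γ) [N.Normal] (hcomm : ∀ a ∈ S, ∀ b ∈ S, a * b * a⁻¹ * b⁻¹ ∈ N) :
    commutator Γ ≤ N := by
  apply commutator_le_of_gens N (S ∪ (σ.ker : Set Γ)) (closure_lifts_union_ker σ S hgen)
  intro a ha b hb
  rcases ha with ha | ha
  · rcases hb with hb | hb
    · exact hcomm a ha b hb
    · have hbc := mem_center_iff.mp (hker hb) a
      have : a * b * a⁻¹ * b⁻¹ = 1 := by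
        rw [hbc]; group
      rw [this]; exact one_mem _
  · have hac := mem_center_iff.mp (hker ha) b
    have : a * b * a⁻¹ * b⁻¹ = 1 := by
      rw [← hac]; group
    rw [this]; exact one_mem _

/-- Normality of a cyclic subgroup from the behaviour of its generator under generators. -/
theorem zpowers_normal_of_gens {Γ : Type*} [Group Γ] (β : Γ) (S : Set Γ) (hS : closure S = ⊤)
    (h : ∀ s ∈ S, s * β * s⁻¹ ∈ zpowers β ∧ s⁻¹ * β * s ∈ zpowers β) : (zpowers β).Normal := by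
  rw [← normalizer_eq_top_iff, eq_top_iff, ← hS, closure_le]
  intro s hs
  rw [SetLike.mem_coe, mem_normalizer_iff]
  have key : ∀ g : Γ, g * β * g⁻¹ ∈ zpowers β → ∀ x ∈ zpowers β, g * x * g⁻¹ ∈ zpowers β := by
    intro g hg x hx
    obtain ⟨k, rfl⟩ := mem_zpowers_iff.mp hx
    have : g * β ^ k * g⁻¹ = (g * β * g⁻¹) ^ k := by
      rw [conj_zpow]
    rw [this]
    exact zpow_mem hg k
  intro x
  constructor
  · intro hx
    exact key s (h s hs).1 x hx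
  · intro hx
    have := key s⁻¹ (by simpa using (h s hs).2) _ hx
    have h2 : s⁻¹ * (s * x * s⁻¹) * s⁻¹⁻¹ = x := by group
    rwa [h2] at this

/-- The key computation for stem extensions of dihedral-like groups: if `Q` is generated by
`σ ρ` and `σ τ`, and `σ τ` inverts `σ ρ`, then every element `w` of the kernel is a power `β ^ k`
of `β = ρ⁻² z` (`z = τ ρ τ⁻¹ ρ`), with `β ^ (2k) = 1`. -/
theorem dihedral_like_key {Γ Q : Type*} [Group Γ] [Group Q] (σ : Γ →* Q)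
    (hσ : Cfsg.IsStemExtension σ) (ρ τ : Γ)
    (hgen : closure ({σ ρ, σ τ} : Set Q) = ⊤)
    (hrel : σ τ * σ ρ * (σ τ)⁻¹ * σ ρ = 1) :
    ∀ w ∈ σ.ker, ∃ k : ℤ, w = (ρ⁻¹ * ρ⁻¹ * (τ * ρ * τ⁻¹ * ρ)) ^ k ∧
      (ρ⁻¹ * ρ⁻¹ * (τ * ρ * τ⁻¹ * ρ)) ^ (2 * k) = 1 := by
  obtain ⟨_, hcen, hder⟩ := hσ
  set z := τ * ρ * τ⁻¹ * ρ with hz
  set β := ρ⁻¹ * ρ⁻¹ * z with hβ
  have hzker : z ∈ σ.ker := by
    rw [MonoidHom.mem_ker, hz, map_mul, map_mul, map_mul, map_inv]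
    exact hrel
  have hzc : ∀ g : Γ, g * z = z * g := mem_center_iff.mp (hcen hzker)
  have hρβ : ρ * β * ρ⁻¹ = β := by
    rw [hβ]
    have := hzc ρ⁻¹
    calc ρ * (ρ⁻¹ * ρ⁻¹ * z) * ρ⁻¹ = ρ⁻¹ * (z * ρ⁻¹) := by group
      _ = ρ⁻¹ * (ρ⁻¹ * z) := by rw [← this]
      _ = _ := by group
  have hτρ : τ * ρ * τ⁻¹ = z * ρ⁻¹ := by rw [hz]; group
  have hτβ : τ * β * τ⁻¹ = β⁻¹ := by
    have h1 : τ * ρ⁻¹ * τ⁻¹ = ρ * z⁻¹ := by
      have : τ * ρ⁻¹ * τ⁻¹ = (τ * ρ * τ⁻¹)⁻¹ := by group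
      rw [this, hτρ]; group
    have h2 : τ * z * τ⁻¹ = z := by rw [hzc τ]; group
    have hzi : ∀ g : Γ, g * z⁻¹ = z⁻¹ * g := by
      intro g
      have := hzc g
      calc g * z⁻¹ = z⁻¹ * (z * g) * z⁻¹ := by group
        _ = z⁻¹ * (g * z) * z⁻¹ := by rw [this]
        _ = _ := by group
    calc τ * β * τ⁻¹ = (τ * ρ⁻¹ * τ⁻¹) * (τ * ρ⁻¹ * τ⁻¹) * (τ * z * τ⁻¹) := by rw [hβ]; group
      _ = (ρ * z⁻¹) * (ρ * z⁻¹) * z := by rw [h1, h2]
      _ = ρ * (z⁻¹ * ρ) * (z⁻¹ * z) := by group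
      _ = ρ * (ρ * z⁻¹) * (z⁻¹ * z) := by rw [hzi ρ]
      _ = (ρ * ρ) * z⁻¹ := by group
      _ = z⁻¹ * (ρ * ρ) := hzi (ρ * ρ)
      _ = β⁻¹ := by rw [hβ]; simp only [mul_inv_rev, inv_inv]
  have hSgen : closure (σ '' ({ρ, τ} : Set Γ)) = ⊤ := by
    rw [Set.image_pair]; exact hgen
  have htop := closure_lifts_union_ker σ ({ρ, τ} : Set Γ) hSgen
  have hN : (zpowers β).Normal := by
    apply zpowers_normal_of_gens β _ htop
    intro s hs
    rcases hs with hs | hs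
    · rcases hs with hs | hs
      · rw [hs]
        constructor
        · rw [hρβ]; exact mem_zpowers β
        · have : ρ⁻¹ * β * ρ = β := by
            calc ρ⁻¹ * β * ρ = ρ⁻¹ * (ρ * β * ρ⁻¹) * ρ := by rw [hρβ]
              _ = β := by group
          rw [this]; exact mem_zpowers β
      · have hs : s = τ := hs
        rw [hs]
        constructor
        · rw [hτβ]; exact inv_mem (mem_zpowers β)
        · have : τ⁻¹ * β * τ = β⁻¹ := by
            have h3 : τ⁻¹ * β⁻¹ * τ = β := by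
              calc τ⁻¹ * β⁻¹ * τ = τ⁻¹ * (τ * β * τ⁻¹) * τ := by rw [hτβ]
                _ = β := by group
            calc τ⁻¹ * β * τ = (τ⁻¹ * β⁻¹ * τ)⁻¹ := by group
              _ = β⁻¹ := by rw [h3]
          rw [this]; exact inv_mem (mem_zpowers β)
    · have hsc := mem_center_iff.mp (hcen hs)
      constructor
      · have : s * β * s⁻¹ = β := by rw [← hsc β]; group
        rw [this]; exact mem_zpowers β
      · have : s⁻¹ * β * s = β := by rw [mul_assoc, hsc β]; group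
        rw [this]; exact mem_zpowers β
  have hcomm : commutator Γ ≤ zpowers β := by
    apply commutator_le_of_lifts σ hcen ({ρ, τ} : Set Γ) hSgen
    have hτρc : τ * ρ * τ⁻¹ * ρ⁻¹ = β := by
      rw [hτρ, hβ]
      have := hzc ρ⁻¹
      calc z * ρ⁻¹ * ρ⁻¹ = (z * ρ⁻¹) * ρ⁻¹ := by group
        _ = (ρ⁻¹ * z) * ρ⁻¹ := by rw [this]
        _ = ρ⁻¹ * (z * ρ⁻¹) := by group
        _ = ρ⁻¹ * (ρ⁻¹ * z) := by rw [this]
        _ = _ := by group
    intro a ha b hb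
    rcases ha with ha | ha <;> rcases hb with hb | hb
    · rw [ha, hb]
      have : ρ * ρ * ρ⁻¹ * ρ⁻¹ = 1 := by group
      rw [this]; exact one_mem _
    · have hb : b = τ := hb
      rw [ha, hb]
      have : ρ * τ * ρ⁻¹ * τ⁻¹ = (τ * ρ * τ⁻¹ * ρ⁻¹)⁻¹ := by group
      rw [this, hτρc]; exact inv_mem (mem_zpowers β)
    · have ha : a = τ := ha
      rw [ha, hb]
      rw [hτρc]; exact mem_zpowers β
    · have ha : a = τ := ha
      have hb : b = τ := hb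
      rw [ha, hb]
      have : τ * τ * τ⁻¹ * τ⁻¹ = 1 := by group
      rw [this]; exact one_mem _
  intro w hw
  have hwN : w ∈ zpowers β := hcomm (hder hw)
  obtain ⟨k, hk⟩ := mem_zpowers_iff.mp hwN
  refine ⟨k, hk.symm, ?_⟩
  have hwc := mem_center_iff.mp (hcen hw) τ
  have h1 : τ * w * τ⁻¹ = w := by rw [hwc]; group
  have h2 : τ * w * τ⁻¹ = (β ^ k)⁻¹ := by
    rw [← hk, ← conj_zpow, hτβ, inv_zpow]
  have h3 : β ^ k = (β ^ k)⁻¹ := by rw [← h2, h1, hk]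
  rw [two_mul, zpow_add]
  nth_rewrite 1 [h3]
  exact inv_mul_cancel _

/-- With `z = τ ρ τ⁻¹ ρ` central and `τ` commuting with `ρ ^ n`, the element `β = ρ⁻² z` has
`β ^ n = 1`. -/
theorem beta_pow_eq_one {Γ Q : Type*} [Group Γ] [Group Q] (σ : Γ →* Q)
    (hcen : σ.ker ≤ center Γ) (ρ τ : Γ) (hzker : τ * ρ * τ⁻¹ * ρ ∈ σ.ker) (n : ℕ)
    (hd : τ * ρ ^ n * τ⁻¹ = ρ ^ n) :
    (ρ⁻¹ * ρ⁻¹ * (τ * ρ * τ⁻¹ * ρ)) ^ n = 1 := by
  set z := τ * ρ * τ⁻¹ * ρ with hz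
  have hzc : ∀ g : Γ, g * z = z * g := mem_center_iff.mp (hcen hzker)
  have hτρ : τ * ρ * τ⁻¹ = z * ρ⁻¹ := by rw [hz]; group
  have h1 : (τ * ρ * τ⁻¹) ^ n = ρ ^ n := by rw [conj_pow, hd]
  have hcomm1 : Commute z ρ⁻¹ := (hzc ρ⁻¹).symm
  have h2 : z ^ n * (ρ⁻¹) ^ n = ρ ^ n := by
    rw [← hcomm1.mul_pow, ← hτρ, h1]
  have h3 : z ^ n = ρ ^ n * ρ ^ n := by
    have : z ^ n = z ^ n * (ρ⁻¹) ^ n * ρ ^ n := by
      rw [mul_assoc, inv_pow, inv_mul_cancel, mul_one]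
    rw [this, h2]
  have hcomm2 : Commute (ρ⁻¹ * ρ⁻¹) z := hzc (ρ⁻¹ * ρ⁻¹)
  rw [hcomm2.mul_pow, (Commute.refl ρ⁻¹).mul_pow, h3, inv_pow]
  group

/-- If `τ * τ` agrees with `ρ ^ n` modulo the central kernel then `τ` commutes with `ρ ^ n`. -/
theorem conj_pow_of_sq {Γ Q : Type*} [Group Γ] [Group Q] (σ : Γ →* Q)
    (hcen : σ.ker ≤ center Γ) (ρ τ : Γ) (n : ℕ) (h : (ρ ^ n)⁻¹ * (τ * τ) ∈ σ.ker) :
    τ * ρ ^ n * τ⁻¹ = ρ ^ n := by
  set e := (ρ ^ n)⁻¹ * (τ * τ) with he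
  have hec : ∀ g : Γ, g * e = e * g := mem_center_iff.mp (hcen h)
  have h1 : ρ ^ n = τ * τ * e⁻¹ := by rw [he]; group
  have hei : τ * e⁻¹ = e⁻¹ * τ := by
    have := hec τ
    calc τ * e⁻¹ = e⁻¹ * (e * τ) * e⁻¹ := by group
      _ = e⁻¹ * (τ * e) * e⁻¹ := by rw [this]
      _ = _ := by group
  rw [h1]
  calc τ * (τ * τ * e⁻¹) * τ⁻¹ = τ * τ * (τ * e⁻¹) * τ⁻¹ := by group
    _ = τ * τ * (e⁻¹ * τ) * τ⁻¹ := by rw [hei]
    _ = _ := by group

end Cfsg.Agent.helper20
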