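import Mathlib
import Cfsg.Statements.S3986

set_option autoImplicit false
open Cfsg

namespace Cfsg.Agent.S3986

/-- An element lies in a subgroup as soon as all its powers of prime power order do. -/
theorem mem_of_primePow_powers {G : Type*} [Group G] (M : Subgroup G) :
    ∀ (n : ℕ) (h : G), orderOf h = n → n ≠ 0 →
      (∀ k : ℕ, (∃ q b : ℕ, q.Prime ∧ orderOf (h ^ k) = q ^ b) → h ^ k ∈ M) → h ∈ M := by
  intro n
  induction n using Nat.strong_induction_on with
  | _ n ih =>
    intro h hn hn0 hyp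
    by_cases h1 : n = 1
    · have : h = 1 := by rw [← orderOf_eq_one_iff, hn, h1]
      rw [this]; exact M.one_mem
    · have hq : (Nat.minFac n).Prime := Nat.minFac_prime h1
      set q := Nat.minFac n with hqdef
      obtain ⟨a, m, hqm, hnm⟩ := Nat.exists_eq_pow_mul_and_not_dvd hn0 q hq.ne_one
      have ha : a ≠ 0 := by
        rintro rfl
        rw [pow_zero, one_mul] at hnm
        exact hqm (hnm ▸ Nat.minFac_dvd n)
      have hm0 : m ≠ 0 := by
        rintro rfl; rw [mul_zero] at hnm; exact hn0 hnm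
      have hqa0 : q ^ a ≠ 0 := pow_ne_zero _ hq.ne_zero
      have hcop : Nat.Coprime (q ^ a) m :=
        Nat.Coprime.pow_left _ ((Nat.Prime.coprime_iff_not_dvd hq).mpr hqm)
      have ho1 : orderOf (h ^ m) = q ^ a := by
        rw [orderOf_pow_of_dvd hm0 (by rw [hn, hnm]; exact dvd_mul_left _ _), hn, hnm,
          Nat.mul_div_cancel _ (Nat.pos_of_ne_zero hm0)]
      have ho2 : orderOf (h ^ (q ^ a)) = m := by
        rw [orderOf_pow_of_dvd hqa0 (by rw [hn, hnm]; exact dvd_mul_right _ _), hn, hnm,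
          Nat.mul_div_cancel_left _ (Nat.pos_of_ne_zero hqa0)]
      have hm1 : h ^ m ∈ M := hyp m ⟨q, a, hq, ho1⟩
      have hmlt : m < n := by
        rw [hnm]
        have h2 : 2 ≤ q ^ a := by
          calc 2 ≤ q := hq.two_le
            _ = q ^ 1 := (pow_one q).symm
            _ ≤ q ^ a := Nat.pow_le_pow_right hq.pos (Nat.one_le_iff_ne_zero.mpr ha)
        nlinarith [Nat.pos_of_ne_zero hm0]
      have hm2 : h ^ (q ^ a) ∈ M := by
        apply ih m hmlt (h ^ (q ^ a)) ho2 hm0
        intro k hk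
        rw [← pow_mul] at hk ⊢
        exact hyp _ hk
      have hb := Nat.gcd_eq_gcd_ab (q ^ a) m
      rw [hcop.gcd_eq_one] at hb
      have : h = (h ^ (q ^ a)) ^ (Nat.gcdA (q ^ a) m) * (h ^ m) ^ (Nat.gcdB (q ^ a) m) := by
        rw [← zpow_natCast, ← zpow_natCast, ← zpow_mul, ← zpow_mul, ← zpow_add, ← hb]
        simp
      rw [this]
      exact M.mul_mem (M.zpow_mem hm2 _) (M.zpow_mem hm1 _)

/-- A subgroup containing a Sylow subgroup for every prime is everything. -/
theorem eq_top_of_forall_sylow_le {G : Type*} [Group G] [Finite G] (H : Subgroup G)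
    (h : ∀ (q : ℕ) [Fact q.Prime], ∃ Q : Sylow q G, (Q : Subgroup G) ≤ H) : H = ⊤ := by
  rw [← Subgroup.index_eq_one, Nat.eq_one_iff_not_exists_prime_dvd]
  intro q hq hdvd
  have := Fact.mk hq
  obtain ⟨Q, hQ⟩ := h q
  have h1 : H.index ∣ (Q : Subgroup G).index := Subgroup.index_dvd_of_le hQ
  exact Q.not_dvd_index (dvd_trans hdvd h1)

/-- A `p`-element lies in a normal Sylow `p`-subgroup. -/
theorem mem_normal_sylow {G : Type*} [Group G] [Finite G] (p : ℕ) [Fact p.Prime]
    (P : Sylow p G) (hPn : (P : Subgroup G).Normal) (x : G) (a : ℕ) (hxa : orderOf x = p ^ a) :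
    x ∈ (P : Subgroup G) := by
  have h1 : IsPGroup p (Subgroup.zpowers x) :=
    IsPGroup.of_card (n := a) (by rw [Nat.card_zpowers, hxa])
  obtain ⟨Q, hQ⟩ := h1.exists_le_sylow
  have := Sylow.unique_of_normal P hPn
  have : Q = P := Subsingleton.elim _ _
  rw [← this]
  exact hQ (Subgroup.mem_zpowers x)

/-- An element of order prime to the index of a normal subgroup lies in it. -/
theorem mem_of_coprime_index {G : Type*} [Group G] [Finite G] (K : Subgroup G) [K.Normal]
    (y : G) (n : ℕ) (hy : y ^ n = 1) (hcop : n.Coprime K.index) : y ∈ K := by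
  rw [← QuotientGroup.eq_one_iff]
  have h1 : (y : G ⧸ K) ^ n = 1 := by
    rw [← QuotientGroup.mk_pow, hy]; rfl
  have h2 : (y : G ⧸ K) ^ K.index = 1 := by
    rw [Subgroup.index_eq_card]; exact pow_card_eq_one'
  have h3 : (y : G ⧸ K) ^ Nat.gcd n K.index = 1 := pow_gcd_eq_one.mpr ⟨h1, h2⟩
  rw [hcop.gcd_eq_one, pow_one] at h3
  exact h3

theorem result {G : Type*} [Group G] [Finite G] (p : ℕ) [Fact p.Prime] : (∃ (P : Sylow p G) (K : Subgroup G), (P : Subgroup G).Normal ∧ K.Normal ∧ (P : Subgroup G) ⊓ K = ⊥ ∧ (P : Subgroup G) ⊔ K = ⊤) ↔ ∀ x y : G, (∃ a : ℕ, orderOf x = p ^ a) → (∃ q b : ℕ, q.Prime ∧ q ≠ p ∧ orderOf y = q ^ b) → x * y = y * x := by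
  have hpp : p.Prime := Fact.out
  constructor
  · rintro ⟨P, K, hPn, hKn, hdisj, hsup⟩ x y ⟨a, hxa⟩ ⟨q, b, hq, hqp, hyb⟩
    have hxP : x ∈ (P : Subgroup G) := mem_normal_sylow p P hPn x a hxa
    have hcompl : Subgroup.IsComplement' (P : Subgroup G) K := by
      apply Subgroup.isComplement'_of_disjoint_and_mul_eq_univ (disjoint_iff.mpr hdisj)
      rw [← Subgroup.normal_mul, hsup, Subgroup.coe_top]
    have hidx : K.index = Nat.card (P : Subgroup G) := hcompl.index_eq_card
    obtain ⟨n, hn⟩ := IsPGroup.iff_card.mp P.isPGroup'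
    have hyK : y ∈ K := by
      apply mem_of_coprime_index K y (q ^ b) (by rw [← hyb]; exact pow_orderOf_eq_one y)
      rw [hidx, hn]
      apply Nat.Coprime.pow
      exact (Nat.coprime_primes hq hpp).mpr hqp
    exact (Subgroup.commute_of_normal_of_disjoint _ _ hPn hKn (disjoint_iff.mpr hdisj) x y hxP hyK).eq
  · intro hcomm
    obtain ⟨P⟩ : Nonempty (Sylow p G) := inferInstance
    have hpel : ∀ x ∈ (P : Subgroup G), ∃ a : ℕ, orderOf x = p ^ a := by
      intro x hx
      obtain ⟨a, ha⟩ := (IsPGroup.iff_orderOf.mp P.isPGroup') ⟨x, hx⟩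
      exact ⟨a, by rw [← ha, Subgroup.orderOf_mk]⟩
    have hPn : (P : Subgroup G).Normal := by
      rw [← Subgroup.normalizer_eq_top_iff]
      apply eq_top_of_forall_sylow_le
      intro q hqF
      by_cases hqp : q = p
      · subst hqp
        exact ⟨P, Subgroup.le_normalizer⟩
      · obtain ⟨Q⟩ : Nonempty (Sylow q G) := inferInstance
        refine ⟨Q, ?_⟩
        intro y hy
        obtain ⟨b, hb⟩ := (IsPGroup.iff_orderOf.mp Q.isPGroup') ⟨y, hy⟩
        have hyb : orderOf y = q ^ b := by rw [← hb, Subgroup.orderOf_mk]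
        apply Subgroup.centralizer_le_normalizer
        rw [Subgroup.mem_centralizer_iff]
        intro x hx
        exact hcomm x y (hpel x hx) ⟨q, b, hqF.out, hqp, hyb⟩
    obtain ⟨H, hH⟩ := Subgroup.exists_right_complement'_of_coprime (N := (P : Subgroup G))
      P.card_coprime_index
    have hHcard : Nat.card H = (P : Subgroup G).index := (hH.symm.index_eq_card).symm
    have hHcop : (Nat.card H).Coprime p := by
      rw [hHcard]
      exact ((Nat.Prime.coprime_iff_not_dvd hpp).mpr P.not_dvd_index).symm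
    have hcent : ∀ h ∈ H, ∀ x ∈ (P : Subgroup G), x * h = h * x := by
      intro h hh x hx
      obtain ⟨a, hxa⟩ := hpel x hx
      have hmem : h ∈ Subgroup.centralizer ({x} : Set G) := by
        apply mem_of_primePow_powers _ (orderOf h) h rfl (orderOf_pos h).ne'
        rintro k ⟨q, b, hq, hqb⟩
        rw [Subgroup.mem_centralizer_singleton_iff]
        by_cases hb0 : b = 0
        · have : h ^ k = 1 := by rw [← orderOf_eq_one_iff, hqb, hb0, pow_zero]
          rw [this]; simp
        · have hqp : q ≠ p := by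
            rintro rfl
            have h1 : q ∣ orderOf (h ^ k) := by rw [hqb]; exact dvd_pow_self q hb0
            have h2 : orderOf (h ^ k) ∣ orderOf h := orderOf_pow_dvd k
            have h3 : orderOf h ∣ Nat.card H := Subgroup.orderOf_dvd_natCard _ hh
            have h4 : q ∣ Nat.card H := h1.trans (h2.trans h3)
            exact (Nat.Prime.coprime_iff_not_dvd hq).mp hHcop.symm h4
          exact (hcomm x (h ^ k) ⟨a, hxa⟩ ⟨q, b, hq, hqp, hqb⟩).symm
      exact ((Subgroup.mem_centralizer_singleton_iff).mp hmem).symm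
    have hHn : H.Normal := by
      constructor
      intro n hn g
      obtain ⟨⟨x, h⟩, hg, -⟩ := (Subgroup.isComplement_iff_existsUnique.mp hH) g
      simp only at hg
      have e1 : g * n * g⁻¹ = (x : G) * ((h : G) * n * (h : G)⁻¹) * (x : G)⁻¹ := by
        rw [← hg]; group
      have hmem : (h : G) * n * (h : G)⁻¹ ∈ H := H.mul_mem (H.mul_mem h.2 hn) (H.inv_mem h.2)
      have e2 := hcent _ hmem x x.2
      rw [e1, e2]
      have : (h : G) * n * (h : G)⁻¹ * (x : G) * (x : G)⁻¹ = (h : G) * n * (h : G)⁻¹ := by group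
      rw [this]; exact hmem
    exact ⟨P, H, hPn, hHn, hH.disjoint.eq_bot, hH.sup_eq_top⟩

end Cfsg.Agent.S3986
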