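import Mathlib
import Cfsg.Agent.S3986
import Cfsg.Agent.Lib_helper20_Stem

set_option autoImplicit false
open scoped commutatorElement

/-! Finite nilpotent groups: elements of coprime order commute; upper central series lemmas. -/

namespace Cfsg.Agent.helper20

/-- in a finite nilpotent group a `q`-element commutes with every element of order prime to `q` -/
theorem commute_of_coprime_order {K : Type*} [Group K] [Finite K] [Group.IsNilpotent K] (q : ℕ)
    [hq : Fact q.Prime] (a y : K) (b : ℕ) (ha : orderOf a = q ^ b) (hy : (orderOf y).Coprime q) :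
    a * y = y * a := by
  obtain ⟨Q⟩ : Nonempty (Sylow q K) := inferInstance
  have hQn : (Q : Subgroup K).Normal := inferInstance
  have haQ : a ∈ (Q : Subgroup K) := Cfsg.Agent.S3986.mem_normal_sylow q Q hQn a b ha
  have hmem : y ∈ Subgroup.centralizer ({a} : Set K) := by
    apply Cfsg.Agent.S3986.mem_of_primePow_powers (Subgroup.centralizer ({a} : Set K)) (orderOf y) y rfl
      (orderOf_pos y).ne'
    intro k hk
    obtain ⟨r, c, hr, hrc⟩ := hk
    rcases Nat.eq_zero_or_pos c with hc0 | hcpos
    · rw [hc0, pow_zero, orderOf_eq_one_iff] at hrc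
      rw [hrc]; exact Subgroup.one_mem _
    · have hrdvd : r ∣ orderOf y :=
        dvd_trans (hrc ▸ dvd_pow_self r hcpos.ne') (orderOf_pow_dvd k)
      have hrq : r ≠ q := by
        rintro rfl
        have := Nat.dvd_gcd hrdvd (dvd_refl r)
        rw [hy.gcd_eq_one] at this
        exact hr.one_lt.ne' (Nat.dvd_one.mp this)
      have : Fact r.Prime := ⟨hr⟩
      obtain ⟨R⟩ : Nonempty (Sylow r K) := inferInstance
      have hRn : (R : Subgroup K).Normal := inferInstance
      have hyR : y ^ k ∈ (R : Subgroup K) := Cfsg.Agent.S3986.mem_normal_sylow r R hRn _ c hrc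
      have hdis : Disjoint (Q : Subgroup K) (R : Subgroup K) :=
        IsPGroup.disjoint_of_ne q r hrq.symm _ _ Q.isPGroup' R.isPGroup'
      have hcomm := Subgroup.commute_of_normal_of_disjoint _ _ hQn hRn hdis a (y ^ k) haQ hyR
      rw [Subgroup.mem_centralizer_singleton_iff]
      exact hcomm.eq.symm
  rw [Subgroup.mem_centralizer_singleton_iff] at hmem
  exact hmem.symm

/-- in a finite nilpotent group two `q`-elements generate a `q`-group -/
theorem closure_pair_le_sylow {K : Type*} [Group K] [Finite K] [Group.IsNilpotent K] (q : ℕ)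
    [hq : Fact q.Prime] (a c : K) (b b' : ℕ) (ha : orderOf a = q ^ b) (hc : orderOf c = q ^ b')
    (Q : Sylow q K) : Subgroup.closure {a, c} ≤ (Q : Subgroup K) := by
  have hQn : (Q : Subgroup K).Normal := inferInstance
  rw [Subgroup.closure_le]
  intro w hw
  rcases hw with rfl | hw
  · exact Cfsg.Agent.S3986.mem_normal_sylow q Q hQn _ b ha
  · rw [Set.mem_singleton_iff] at hw
    rw [hw]
    exact Cfsg.Agent.S3986.mem_normal_sylow q Q hQn _ b' hc

/-- `Z_i(G) ∩ K ≤ Z_i(K)` -/
theorem upperCentralSeries_subgroupOf_le {G : Type*} [Group G] (K : Subgroup G) (i : ℕ) :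
    (Subgroup.upperCentralSeries G i).subgroupOf K ≤ Subgroup.upperCentralSeries K i := by
  induction i with
  | zero =>
    intro x hx
    rw [Subgroup.mem_subgroupOf, Subgroup.upperCentralSeries_zero, Subgroup.mem_bot] at hx
    rw [Subgroup.upperCentralSeries_zero, Subgroup.mem_bot]
    exact Subtype.ext hx
  | succ i ih =>
    intro x hx
    rw [Subgroup.mem_subgroupOf, Subgroup.mem_upperCentralSeries_succ_iff] at hx
    rw [Subgroup.mem_upperCentralSeries_succ_iff]
    intro y
    apply ih
    rw [Subgroup.mem_subgroupOf]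
    exact hx (y : G)

/-- a group generated by `x` and an element of its `n`-th centre is nilpotent -/
theorem isNilpotent_closure_pair_of_mem_upperCentralSeries {G : Type*} [Group G] (x g : G) (n : ℕ)
    (hg : g ∈ Subgroup.upperCentralSeries G n) :
    Group.IsNilpotent ↥(Subgroup.closure ({x, g} : Set G)) := by
  set K := Subgroup.closure ({x, g} : Set G) with hK
  have hxK : x ∈ K := Subgroup.subset_closure (by simp)
  have hgK : g ∈ K := Subgroup.subset_closure (by simp)
  have hgZ : (⟨g, hgK⟩ : K) ∈ Subgroup.upperCentralSeries K n :=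
    upperCentralSeries_subgroupOf_le K n (by rw [Subgroup.mem_subgroupOf]; exact hg)
  have hgen : Subgroup.closure ({⟨x, hxK⟩, ⟨g, hgK⟩} : Set K) = ⊤ := by
    have h1 : (Subgroup.closure ({⟨x, hxK⟩, ⟨g, hgK⟩} : Set K)).map K.subtype = K := by
      rw [MonoidHom.map_closure, Set.image_pair]
      rfl
    apply Subgroup.map_injective K.subtype_injective
    rw [h1, ← MonoidHom.range_eq_map, Subgroup.range_subtype]
  have hcomm : commutator K ≤ Subgroup.upperCentralSeries K n := by
    apply commutator_le_of_gens (Subgroup.upperCentralSeries K n) _ hgen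
    intro a ha b hb
    have hN : (Subgroup.upperCentralSeries K n).Normal := inferInstance
    rcases ha with rfl | ha <;> rcases hb with rfl | hb
    · have : (⟨x, hxK⟩ : K) * ⟨x, hxK⟩ * (⟨x, hxK⟩ : K)⁻¹ * (⟨x, hxK⟩ : K)⁻¹ = 1 := by group
      rw [this]; exact Subgroup.one_mem _
    · rw [Set.mem_singleton_iff] at hb
      rw [hb]
      exact Subgroup.mul_mem _ (hN.conj_mem _ hgZ _) (Subgroup.inv_mem _ hgZ)
    · rw [Set.mem_singleton_iff] at ha
      rw [ha]
      have : (⟨g, hgK⟩ : K) * ⟨x, hxK⟩ * (⟨g, hgK⟩ : K)⁻¹ * (⟨x, hxK⟩ : K)⁻¹ =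
          ⟨g, hgK⟩ * (⟨x, hxK⟩ * (⟨g, hgK⟩ : K)⁻¹ * (⟨x, hxK⟩ : K)⁻¹) := by group
      rw [this]
      exact Subgroup.mul_mem _ hgZ (hN.conj_mem _ (Subgroup.inv_mem _ hgZ) _)
    · rw [Set.mem_singleton_iff] at ha hb
      rw [ha, hb]
      have : (⟨g, hgK⟩ : K) * ⟨g, hgK⟩ * (⟨g, hgK⟩ : K)⁻¹ * (⟨g, hgK⟩ : K)⁻¹ = 1 := by group
      rw [this]; exact Subgroup.one_mem _
  refine ⟨⟨n + 1, ?_⟩⟩
  rw [eq_top_iff]
  intro y _
  rw [Subgroup.mem_upperCentralSeries_succ_iff]
  intro z
  apply hcomm
  exact Subgroup.commutator_mem_commutator (Subgroup.mem_top _) (Subgroup.mem_top _)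

end Cfsg.Agent.helper20
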