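import Mathlib
import Cfsg.Prelude.Def_LieExceptional
import Cfsg.Agent.S3986
import Cfsg.Agent.Lib_helper20_Hyper
import Cfsg.Agent.Lib_helper17_MinNonNil

set_option autoImplicit false

namespace Cfsg.Agent.helper8.CN

open Cfsg

/-- in a finite nilpotent group, a `q`-element commuting with all `q`-elements is central -/
theorem central_of_comm_qelts' {K : Type*} [Group K] [Finite K] [Group.IsNilpotent K] (q : ℕ)
    [Fact q.Prime] (a : K) (b : ℕ) (ha : orderOf a = q ^ b)
    (hcomm : ∀ h : K, (∃ j, orderOf h = q ^ j) → a * h = h * a) : ∀ h : K, a * h = h * a := by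
  intro h
  have : h ∈ Subgroup.centralizer ({a} : Set K) := by
    apply Cfsg.Agent.S3986.mem_of_primePow_powers _ (orderOf h) h rfl (orderOf_pos h).ne'
    rintro k ⟨r, c, hr, hrc⟩
    rw [Subgroup.mem_centralizer_iff]
    intro x hx
    rw [Set.mem_singleton_iff] at hx
    subst hx
    by_cases hrq : r = q
    · subst hrq
      exact hcomm (h ^ k) ⟨c, hrc⟩
    · apply Cfsg.Agent.helper20.commute_of_coprime_order q x (h ^ k) b ha
      rw [hrc]
      apply Nat.Coprime.pow_left
      exact (Nat.coprime_primes hr Fact.out).mpr hrq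
  rw [Subgroup.mem_centralizer_iff] at this
  exact this a rfl

/-- subgroup version -/
theorem central_of_comm_qelts {G : Type*} [Group G] [Finite G] (K : Subgroup G)
    (hK : Group.IsNilpotent K) (q : ℕ) [Fact q.Prime] (a : G) (haK : a ∈ K) (b : ℕ)
    (ha : orderOf a = q ^ b)
    (hcomm : ∀ h ∈ K, (∃ j, orderOf h = q ^ j) → a * h = h * a) : ∀ h ∈ K, a * h = h * a := by
  intro h hh
  have := hK
  have := central_of_comm_qelts' (K := K) q ⟨a, haK⟩ b (by rw [Subgroup.orderOf_mk]; exact ha)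
    (fun h' ⟨j, hj⟩ => Subtype.ext (hcomm h'.1 h'.2 ⟨j, by rw [← hj, Subgroup.orderOf_coe]⟩))
    ⟨h, hh⟩
  exact congrArg Subtype.val this

/-- all `q`-elements of a nilpotent subgroup lie in a Sylow `q`-subgroup of `G` contained in it -/
theorem mem_sylow_of_nilpotent {G : Type*} [Group G] [Finite G] (K : Subgroup G)
    (hK : Group.IsNilpotent K) (q : ℕ) [Fact q.Prime] (Q : Sylow q G)
    (hQK : (Q : Subgroup G) ≤ K) (h : G) (hh : h ∈ K) (j : ℕ) (hj : orderOf h = q ^ j) :
    h ∈ (Q : Subgroup G) := by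
  have h4 := ((Group.isNilpotent_of_finite_tfae (G := K)).out 0 3).1 hK
  have hn : ((Q.subtype hQK : Sylow q K) : Subgroup K).Normal :=
    h4 q inferInstance (Q.subtype hQK)
  have := Cfsg.Agent.S3986.mem_normal_sylow q (Q.subtype hQK) hn ⟨h, hh⟩ j
    (by rw [Subgroup.orderOf_mk]; exact hj)
  rw [Sylow.coe_subtype, Subgroup.mem_subgroupOf] at this
  exact this

variable {G : Type*} [Group G] [Finite G]

theorem orderOf_of_mem_sylow {q : ℕ} [Fact q.Prime] (Q : Sylow q G) {v : G}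
    (hv : v ∈ (Q : Subgroup G)) : ∃ b, orderOf v = q ^ b := by
  obtain ⟨b, hb⟩ := (IsPGroup.iff_orderOf.mp Q.isPGroup') ⟨v, hv⟩
  exact ⟨b, by rw [← hb, Subgroup.orderOf_mk]⟩

/-- a nilpotent subgroup containing a Sylow subgroup centralizes the centre of that Sylow -/
theorem le_centralizer_of_center_sylow (K : Subgroup G) (hK : Group.IsNilpotent K) (q : ℕ)
    [Fact q.Prime] (Q : Sylow q G) (hQK : (Q : Subgroup G) ≤ K) (v : G)
    (hvQ : v ∈ (Q : Subgroup G)) (hvc : ∀ s ∈ (Q : Subgroup G), v * s = s * v) :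
    K ≤ Subgroup.centralizer ({v} : Set G) := by
  obtain ⟨b, hb⟩ := orderOf_of_mem_sylow Q hvQ
  have hcentral := central_of_comm_qelts K hK q v (hQK hvQ) b hb
    (fun h hh ⟨j, hj⟩ => hvc h (mem_sylow_of_nilpotent K hK q Q hQK h hh j hj))
  intro h hh
  rw [Subgroup.mem_centralizer_iff]
  intro x hx
  rw [Set.mem_singleton_iff] at hx
  subst hx
  exact hcentral h hh

/-- for a maximal nilpotent subgroup of a CN-group -/
theorem centralizer_eq_of_center_sylow (hCN : IsCNGroup G) (K : Subgroup G)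
    (hK : Group.IsNilpotent K)
    (hmax : ∀ L : Subgroup G, Group.IsNilpotent L → K ≤ L → L = K) (q : ℕ)
    [Fact q.Prime] (Q : Sylow q G) (hQK : (Q : Subgroup G) ≤ K) (v : G)
    (hvQ : v ∈ (Q : Subgroup G)) (hv1 : v ≠ 1) (hvc : ∀ s ∈ (Q : Subgroup G), v * s = s * v) :
    Subgroup.centralizer ({v} : Set G) = K :=
  hmax _ (hCN v hv1) (le_centralizer_of_center_sylow K hK q Q hQK v hvQ hvc)

/-- a nontrivial central element of a Sylow subgroup -/
theorem exists_center_sylow {q : ℕ} [Fact q.Prime] (Q : Sylow q G)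
    (hQ : (Q : Subgroup G) ≠ ⊥) :
    ∃ v ∈ (Q : Subgroup G), v ≠ 1 ∧ ∀ s ∈ (Q : Subgroup G), v * s = s * v := by
  haveI : Nontrivial ↥(Q : Subgroup G) := (Subgroup.nontrivial_iff_ne_bot _).mpr hQ
  have hnt := IsPGroup.center_nontrivial (G := ↥(Q : Subgroup G)) Q.isPGroup'
  obtain ⟨⟨z, hz⟩, hz1⟩ := exists_ne (1 : Subgroup.center ↥(Q : Subgroup G))
  refine ⟨z.1, z.2, ?_, ?_⟩
  · intro h
    apply hz1
    apply Subtype.ext
    apply Subtype.ext
    exact h
  · intro s hs
    rw [Subgroup.mem_center_iff] at hz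
    have := hz ⟨s, hs⟩
    exact (congrArg Subtype.val this).symm

/-- a maximal nilpotent subgroup of a CN-group contains a Sylow `p`-subgroup of `G` for each
prime divisor `p` of its order -/
theorem exists_sylow_le (hCN : IsCNGroup G) (H : Subgroup G) (hH : Group.IsNilpotent H)
    (hmax : ∀ L : Subgroup G, Group.IsNilpotent L → H ≤ L → L = H) (p : ℕ) [Fact p.Prime]
    (hp : p ∣ Nat.card H) : ∃ S : Sylow p G, (S : Subgroup G) ≤ H := by
  have := hH
  obtain ⟨P0⟩ : Nonempty (Sylow p H) := inferInstance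
  have h4 := ((Group.isNilpotent_of_finite_tfae (G := H)).out 0 3).1 hH
  have hP0n : (P0 : Subgroup H).Normal := h4 p inferInstance P0
  have hP0ne : (P0 : Subgroup H) ≠ ⊥ := P0.ne_bot_of_dvd_card hp
  obtain ⟨x0, hx0P, hx01, hx0c⟩ := exists_center_sylow P0 hP0ne
  -- x0 is central in H
  obtain ⟨b, hb⟩ := orderOf_of_mem_sylow P0 hx0P
  have hx0central : ∀ h : H, x0 * h = h * x0 :=
    central_of_comm_qelts' p x0 b hb (fun h ⟨j, hj⟩ =>
      hx0c h (Cfsg.Agent.S3986.mem_normal_sylow p P0 hP0n h j hj))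
  have hx1 : (x0 : G) ≠ 1 := fun h => hx01 (Subtype.ext h)
  have hCx : Subgroup.centralizer ({(x0 : G)} : Set G) = H := by
    apply hmax _ (hCN _ hx1)
    intro h hh
    rw [Subgroup.mem_centralizer_iff]
    intro x hx
    rw [Set.mem_singleton_iff] at hx
    subst hx
    exact congrArg Subtype.val (hx0central ⟨h, hh⟩)
  -- a Sylow subgroup of G containing the image of P0
  have hPG : IsPGroup p ((P0 : Subgroup H).map H.subtype) := P0.isPGroup'.map _
  obtain ⟨S, hS⟩ := hPG.exists_le_sylow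
  have hx0S : (x0 : G) ∈ (S : Subgroup G) := hS ⟨x0, hx0P, rfl⟩
  have hSne : (S : Subgroup G) ≠ ⊥ := by
    intro h
    rw [h, Subgroup.mem_bot] at hx0S
    exact hx1 hx0S
  obtain ⟨y, hyS, hy1, hyc⟩ := exists_center_sylow S hSne
  have hyH : y ∈ H := by
    rw [← hCx, Subgroup.mem_centralizer_iff]
    intro x hx
    rw [Set.mem_singleton_iff] at hx
    subst hx
    exact (hyc _ hx0S).symm
  obtain ⟨c, hc⟩ := orderOf_of_mem_sylow S hyS
  have hycentral : ∀ h : H, (⟨y, hyH⟩ : H) * h = h * ⟨y, hyH⟩ :=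
    central_of_comm_qelts' (K := H) p ⟨y, hyH⟩ c (by rw [Subgroup.orderOf_mk]; exact hc)
      (fun h ⟨j, hj⟩ => by
        have h1 : h ∈ (P0 : Subgroup H) := Cfsg.Agent.S3986.mem_normal_sylow p P0 hP0n h j hj
        have h2 : (h : G) ∈ (S : Subgroup G) := hS ⟨h, h1, rfl⟩
        exact Subtype.ext (hyc _ h2))
  have hCy : Subgroup.centralizer ({y} : Set G) = H := by
    apply hmax _ (hCN _ hy1)
    intro h hh
    rw [Subgroup.mem_centralizer_iff]
    intro x hx
    rw [Set.mem_singleton_iff] at hx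
    subst hx
    exact congrArg Subtype.val (hycentral ⟨h, hh⟩)
  refine ⟨S, fun s hs => ?_⟩
  rw [← hCy, Subgroup.mem_centralizer_iff]
  intro x hx
  rw [Set.mem_singleton_iff] at hx
  subst hx
  exact hyc s hs

theorem coprime_card_index (hCN : IsCNGroup G) (H : Subgroup G) (hH : Group.IsNilpotent H)
    (hmax : ∀ L : Subgroup G, Group.IsNilpotent L → H ≤ L → L = H) :
    (Nat.card H).Coprime H.index := by
  apply Nat.coprime_of_dvd
  intro p hp hpH hpi
  haveI : Fact p.Prime := ⟨hp⟩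
  obtain ⟨S, hS⟩ := exists_sylow_le hCN H hH hmax p hpH
  exact S.not_dvd_index (dvd_trans hpi (Subgroup.index_dvd_of_le hS))

end Cfsg.Agent.helper8.CN
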