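import Mathlib

set_option autoImplicit false
open scoped commutatorElement Pointwise

namespace Cfsg.Agent.helper19

/-- Order of the preimage of a subgroup under a surjective homomorphism. -/
theorem card_comap_of_surjective {G G' : Type*} [Group G] [Group G'] [Finite G]
    (f : G →* G') (hf : Function.Surjective f) (H : Subgroup G') :
    Nat.card (H.comap f) = Nat.card H * Nat.card f.ker := by
  have : Finite G' := Finite.of_surjective f hf
  have h1 : (H.comap f).index = H.index := Subgroup.index_comap_of_surjective H hf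
  have h2 := Subgroup.card_mul_index (H.comap f)
  have h3 := Subgroup.card_mul_index H
  have h4 := Subgroup.card_mul_index f.ker
  have h5 : f.ker.index = Nat.card G' := by
    rw [Subgroup.index_ker, MonoidHom.range_eq_top.2 hf, Subgroup.card_top]
  have hpos : 0 < H.index := Nat.pos_of_ne_zero Subgroup.index_ne_zero_of_finite
  apply Nat.eq_of_mul_eq_mul_right hpos
  rw [← h1, h2, h1, ← h4, h5, ← h3]
  ring

/-- `⟨z⟩ Z(G)` is abelian. -/
theorem comm_of_mem_zpowers_sup_center {G : Type*} [Group G] (z : G) {a b : G}
    (ha : a ∈ Subgroup.zpowers z ⊔ Subgroup.center G)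
    (hb : b ∈ Subgroup.zpowers z ⊔ Subgroup.center G) : a * b = b * a := by
  have h1 : ∀ c ∈ Subgroup.zpowers z ⊔ Subgroup.center G, c * z = z * c := by
    intro c hc
    have hle : Subgroup.zpowers z ⊔ Subgroup.center G ≤ Subgroup.centralizer {z} := by
      apply sup_le
      · rw [Subgroup.zpowers_le]
        exact Subgroup.mem_centralizer_singleton_iff.2 rfl
      · exact Subgroup.center_le_centralizer _
    exact (Subgroup.mem_centralizer_singleton_iff.1 (hle hc))
  have hle : Subgroup.zpowers z ⊔ Subgroup.center G ≤ Subgroup.centralizer {a} := by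
    apply sup_le
    · rw [Subgroup.zpowers_le]
      exact Subgroup.mem_centralizer_singleton_iff.2 (h1 a ha).symm
    · exact Subgroup.center_le_centralizer _
  exact (Subgroup.mem_centralizer_singleton_iff.1 (hle hb)).symm

theorem isMulCommutative_zpowers_sup_center {G : Type*} [Group G] (z : G) :
    IsMulCommutative ↥(Subgroup.zpowers z ⊔ Subgroup.center G) :=
  ⟨⟨fun a b => Subtype.ext (comm_of_mem_zpowers_sup_center z a.2 b.2)⟩⟩

/-- A finite abelian group with at most one subgroup of each order is cyclic. -/
theorem isCyclic_of_comm_of_unique {G : Type*} [Group G] [Finite G]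
    (hcomm : ∀ a b : G, a * b = b * a)
    (h : ∀ A B : Subgroup G, IsMulCommutative ↥A → IsMulCommutative ↥B →
      Nat.card A = Nat.card B → A = B) : IsCyclic G := by
  let _ : CommGroup G := { ‹Group G› with mul_comm := hcomm }
  obtain ⟨g, hg⟩ := Monoid.exists_orderOf_eq_exponent (G := G) Monoid.ExponentExists.of_finite
  refine ⟨⟨g, fun y => ?_⟩⟩
  have hd : orderOf y ∣ orderOf g := hg ▸ Monoid.order_dvd_exponent y
  have hg0 : orderOf g ≠ 0 := (orderOf_pos g).ne'
  have hc1 : IsMulCommutative ↥(Subgroup.zpowers (g ^ (orderOf g / orderOf y))) := inferInstance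
  have hc2 : IsMulCommutative ↥(Subgroup.zpowers y) := inferInstance
  have := h (Subgroup.zpowers (g ^ (orderOf g / orderOf y))) (Subgroup.zpowers y) hc1 hc2
    (by rw [Nat.card_zpowers, Nat.card_zpowers, orderOf_pow_orderOf_div hg0 hd])
  have hy : y ∈ Subgroup.zpowers (g ^ (orderOf g / orderOf y)) := by
    rw [this]; exact Subgroup.mem_zpowers y
  exact (Subgroup.zpowers_le.2 (Subgroup.pow_mem _ (Subgroup.mem_zpowers g) _)) hy


/-- The conjugacy property: abelian subgroups of equal order are conjugate. -/
def CP (G : Type*) [Group G] : Prop :=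
  ∀ A B : Subgroup G, IsMulCommutative ↥A → IsMulCommutative ↥B → Nat.card ↥A = Nat.card ↥B →
    ∃ g : G, B = A.map (MulAut.conj g).toMonoidHom

theorem map_conj_eq_of_normal {G : Type*} [Group G] (A : Subgroup G) [hA : A.Normal] (g : G) :
    A.map (MulAut.conj g).toMonoidHom = A := by
  ext y
  constructor
  · rintro ⟨a, ha, rfl⟩
    exact hA.conj_mem a ha g
  · intro hy
    refine ⟨g⁻¹ * y * g, ?_, ?_⟩
    · have := hA.conj_mem y hy g⁻¹
      simpa using this
    · simp [mul_assoc]

theorem CP.eq_of_normal {G : Type*} [Group G] (h : CP G) (A B : Subgroup G) [A.Normal]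
    (hA : IsMulCommutative ↥A) (hB : IsMulCommutative ↥B) (hc : Nat.card ↥A = Nat.card ↥B) :
    B = A := by
  obtain ⟨g, hg⟩ := h A B hA hB hc
  rw [hg, map_conj_eq_of_normal]

/-- A finite nilpotent group with the conjugacy property is abelian. -/
theorem CP.center_eq_top {G : Type*} [Group G] [Finite G] (hB : CP G)
    (hnil : Group.IsNilpotent G) : Subgroup.center G = ⊤ := by
  by_contra hne
  set U := Subgroup.center G with hU
  set π := QuotientGroup.mk' U with hπ
  have hπs : Function.Surjective π := QuotientGroup.mk'_surjective U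
  have hker : π.ker = U := QuotientGroup.ker_mk' U
  have hnt : Nontrivial (G ⧸ U) := by
    rw [← not_subsingleton_iff_nontrivial]
    intro hs
    exact hne (QuotientGroup.subgroup_eq_top_of_subsingleton U hs)
  have hc : Subgroup.center (G ⧸ U) ≠ ⊥ := Group.IsNilpotent.center_ne_bot (G ⧸ U)
  have hcard1 : Nat.card (Subgroup.center (G ⧸ U)) ≠ 1 := by
    intro h
    exact hc (Subgroup.card_eq_one.1 h)
  obtain ⟨p, hp, hpd⟩ := Nat.exists_prime_and_dvd hcard1
  have : Fact p.Prime := ⟨hp⟩
  obtain ⟨c', hc'⟩ := exists_prime_orderOf_dvd_card' (G := Subgroup.center (G ⧸ U)) p hpd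
  set c : G ⧸ U := (c' : G ⧸ U) with hcdef
  have hcord : orderOf c = p := by rw [hcdef, Subgroup.orderOf_coe]; exact hc'
  have hccent : c ∈ Subgroup.center (G ⧸ U) := c'.2
  obtain ⟨x, hx⟩ := hπs c
  -- preimages of cyclic subgroups of order `p`
  have hpre : ∀ (w : G), orderOf (π w) = p →
      Nat.card ((Subgroup.zpowers (π w)).comap π) = p * Nat.card U ∧
      (Subgroup.zpowers (π w)).comap π = Subgroup.zpowers w ⊔ U ∧
      IsMulCommutative ↥((Subgroup.zpowers (π w)).comap π) := by
    intro w hw
    have h2 : (Subgroup.zpowers (π w)).comap π = Subgroup.zpowers w ⊔ U := by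
      rw [← MonoidHom.map_zpowers, Subgroup.comap_map_eq, hker]
    refine ⟨?_, h2, ?_⟩
    · rw [card_comap_of_surjective π hπs, Nat.card_zpowers, hw, hker]
    · rw [h2]; exact isMulCommutative_zpowers_sup_center w
  obtain ⟨hXcard, hXeq, hXc⟩ := hpre x (by rw [hx]; exact hcord)
  set X := (Subgroup.zpowers (π x)).comap π with hX
  have hXn : X.Normal := by
    have : (Subgroup.zpowers (π x)).Normal := by
      constructor
      intro n hn g
      have hn' : n ∈ Subgroup.center (G ⧸ U) := by
        have hle : Subgroup.zpowers (π x) ≤ Subgroup.center (G ⧸ U) := by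
          rw [Subgroup.zpowers_le, hx]; exact hccent
        exact hle hn
      have := Subgroup.mem_center_iff.1 hn' g
      rw [this, mul_inv_cancel_right]
      exact hn
    exact Subgroup.Normal.comap this π
  have key : ∀ y : G, p ∣ orderOf (π y) → x * y = y * x := by
    intro y hy
    have ho : orderOf (π y) ≠ 0 := (orderOf_pos (π y)).ne'
    set o := orderOf (π y) with hodef
    have hw : orderOf (π (y ^ (o / p))) = p := by
      rw [map_pow]; exact orderOf_pow_orderOf_div ho hy
    obtain ⟨hWcard, hWeq, hWc⟩ := hpre (y ^ (o / p)) hw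
    have hWX := hB.eq_of_normal X _ hXc hWc (by rw [hXcard, hWcard])
    have hxW : x ∈ (Subgroup.zpowers (π (y ^ (o / p)))).comap π := by
      rw [hWX, hXeq]
      exact (le_sup_left : Subgroup.zpowers x ≤ _) (Subgroup.mem_zpowers x)
    have hle : (Subgroup.zpowers (π (y ^ (o / p)))).comap π ≤ Subgroup.centralizer {y} := by
      rw [hWeq]
      apply sup_le
      · rw [Subgroup.zpowers_le, Subgroup.mem_centralizer_singleton_iff]
        exact (pow_mul_comm' y _)
      · exact Subgroup.center_le_centralizer _
    exact (Subgroup.mem_centralizer_singleton_iff.1 (hle hxW))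
  have hall : ∀ y : G, x * y = y * x := by
    intro y
    by_cases hy : p ∣ orderOf (π y)
    · exact key y hy
    · have hcop : (orderOf c).Coprime (orderOf (π y)) := by
        rw [hcord]; exact (Nat.Prime.coprime_iff_not_dvd hp).2 hy
      have hcomm : Commute c (π y) := (Subgroup.mem_center_iff.1 hccent (π y)).symm
      have h1 : orderOf (π (x * y)) = p * orderOf (π y) := by
        rw [map_mul, hx, hcomm.orderOf_mul_eq_mul_orderOf_of_coprime hcop, hcord]
      have h2 := key (x * y) (by rw [h1]; exact dvd_mul_right _ _)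
      have h3 : x * (x * y) = x * (y * x) := by rw [h2]; group
      exact mul_left_cancel h3
  have hxU : x ∈ U := Subgroup.mem_center_iff.2 (fun g => (hall g).symm)
  have hc1 : c = 1 := by
    rw [← hx]
    exact (QuotientGroup.eq_one_iff x).2 hxU
  rw [hc1, orderOf_one] at hcord
  exact hp.one_lt.ne hcord

/-- A finite nilpotent group in which abelian subgroups of equal order are conjugate is cyclic. -/
theorem CP.isCyclic_of_nilpotent {G : Type*} [Group G] [Finite G] (hB : CP G)
    (hnil : Group.IsNilpotent G) : IsCyclic G := by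
  have hcen := hB.center_eq_top hnil
  have hcomm : ∀ a b : G, a * b = b * a := by
    intro a b
    have : b ∈ Subgroup.center G := hcen ▸ Subgroup.mem_top b
    exact (Subgroup.mem_center_iff.1 this a)
  apply isCyclic_of_comm_of_unique hcomm
  intro A B hA hB' hc
  have : A.Normal := by
    constructor
    intro n hn g
    rw [hcomm g n, mul_inv_cancel_right]; exact hn
  exact (hB.eq_of_normal A B hA hB' hc).symm

end Cfsg.Agent.helper19
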