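import Cfsg.Statements.S0636
import Mathlib
import Cfsg.Agent.Lib_lead_Class2
import Cfsg.Agent.Lib_helper19_CP

set_option autoImplicit false
set_option linter.style.haveILetI false
open Cfsg

namespace Cfsg.Agent.S0636

/-- A nontrivial normal subgroup of a finite `p`-group contains a central element of order `p`. -/
theorem exists_central {U : Type*} [Group U] [Finite U] {p : ℕ} [hp : Fact p.Prime]
    (hU : IsPGroup p U) (V : Subgroup U) [V.Normal] (hV : V ≠ ⊥) :
    ∃ b ∈ V, orderOf b = p ∧ ∀ u : U, u * b = b * u := by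
  have hdvd : p ∣ Nat.card V := by
    obtain ⟨k, hk⟩ := (hU.to_subgroup V).exists_card_eq
    have h1 : 1 < Nat.card V := by rw [Subgroup.one_lt_card_iff_ne_bot]; exact hV
    rw [hk] at h1 ⊢
    have : k ≠ 0 := by rintro rfl; simp at h1
    exact dvd_pow_self p this
  obtain ⟨b, hb, hne⟩ :=
    (hU.of_equiv ConjAct.toConjAct).exists_fixed_point_of_prime_dvd_card_of_fixed_point ↥V hdvd
      (a := (1 : ↥V)) (by intro g; exact smul_one g)
  have hb1 : (b : U) ≠ 1 := by intro h; apply hne; exact Subtype.ext h.symm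
  have hbc : ∀ u : U, u * (b : U) = b * u := by
    intro u
    have h1 := hb (ConjAct.toConjAct u)
    have h2 := congrArg Subtype.val h1
    rw [ConjAct.Subgroup.val_conj_smul, ConjAct.smul_def, ConjAct.ofConjAct_toConjAct] at h2
    exact mul_inv_eq_iff_eq_mul.mp h2
  obtain ⟨k, hk⟩ := (IsPGroup.iff_orderOf.mp hU) (b : U)
  have hk0 : k ≠ 0 := by
    rintro rfl
    rw [pow_zero, orderOf_eq_one_iff] at hk
    exact hb1 hk
  have hpd : p ∣ orderOf (b : U) := by rw [hk]; exact dvd_pow_self p hk0
  refine ⟨(b : U) ^ (orderOf (b : U) / p), V.pow_mem b.2 _, ?_, ?_⟩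
  · exact orderOf_pow_orderOf_div (orderOf_pos (b : U)).ne' hpd
  · intro u
    exact ((show Commute u (b : U) from hbc u).pow_right _).eq

theorem zpowers_normal_of_central {U : Type*} [Group U] (z : U) (hz : ∀ u : U, u * z = z * u) :
    (Subgroup.zpowers z).Normal := by
  constructor
  intro n hn g
  have : g * n * g⁻¹ = n := by
    obtain ⟨i, rfl⟩ := Subgroup.mem_zpowers_iff.mp hn
    have hc : Commute g (z ^ i) := (show Commute g z from hz g).zpow_right i
    rw [hc.eq, mul_inv_cancel_right]
  rw [this]; exact hn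

/-- A finite commutative `p`-group with at most `p` solutions of `a ^ p = 1` is cyclic. -/
theorem isCyclic_of_comm_p {A : Type*} [Group A] [Finite A] {p : ℕ} [hp : Fact p.Prime]
    (hA : IsPGroup p A) (hcomm : ∀ a b : A, a * b = b * a)
    (h : Nat.card {a : A // a ^ p = 1} ≤ p) : IsCyclic A := by
  classical
  have : Fintype A := Fintype.ofFinite A
  have h' : (Finset.univ.filter (fun a : A => a ^ p = 1)).card ≤ p := by
    rw [Nat.card_eq_fintype_card, Fintype.card_subtype] at h
    exact h
  have key : ∀ j : ℕ, (Finset.univ.filter (fun a : A => a ^ (p ^ j) = 1)).card ≤ p ^ j := by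
    intro j
    induction j with
    | zero =>
      have : (Finset.univ.filter (fun a : A => a ^ (p ^ 0) = 1)) = {1} := by
        ext a; simp
      rw [this]; simp
    | succ j ih =>
      have himg : (Finset.univ.filter (fun a : A => a ^ (p ^ (j + 1)) = 1)).image (fun a => a ^ p) ⊆
          Finset.univ.filter (fun a : A => a ^ (p ^ j) = 1) := by
        intro b hb
        rw [Finset.mem_image] at hb
        obtain ⟨a, ha, rfl⟩ := hb
        rw [Finset.mem_filter] at ha ⊢
        refine ⟨Finset.mem_univ _, ?_⟩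
        rw [← pow_mul, ← pow_succ']
        exact ha.2
      have hfib : ∀ b ∈ (Finset.univ.filter (fun a : A => a ^ (p ^ (j + 1)) = 1)).image
          (fun a => a ^ p),
          ((Finset.univ.filter (fun a : A => a ^ (p ^ (j + 1)) = 1)).filter
            (fun x => x ^ p = b)).card ≤ p := by
        intro b _
        rcases Finset.eq_empty_or_nonempty
          ((Finset.univ.filter (fun a : A => a ^ (p ^ (j + 1)) = 1)).filter (fun x => x ^ p = b))
          with he | ⟨x₀, hx₀⟩
        · rw [he]; simp
        · refine le_trans ?_ h'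
          apply Finset.card_le_card_of_injOn (fun x => x * x₀⁻¹)
          · intro x hx
            rw [Finset.mem_coe, Finset.mem_filter] at hx
            rw [Finset.mem_filter] at hx₀
            rw [Finset.mem_coe, Finset.mem_filter]
            refine ⟨Finset.mem_univ _, ?_⟩
            rw [(show Commute x x₀⁻¹ from hcomm x x₀⁻¹).mul_pow, inv_pow, hx.2, hx₀.2, mul_inv_cancel]
          · intro x _ y _ hxy
            exact mul_right_cancel hxy
      have h1 := Finset.card_le_mul_card_image
        (Finset.univ.filter (fun a : A => a ^ (p ^ (j + 1)) = 1)) p hfib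
      have h2 := Finset.card_le_card himg
      calc _ ≤ p * _ := h1
        _ ≤ p * p ^ j := Nat.mul_le_mul_left p (h2.trans ih)
        _ = p ^ (j + 1) := by ring
  apply isCyclic_of_card_pow_eq_one_le
  intro n hn
  obtain ⟨e, he⟩ := hA.exists_card_eq
  have hd : Nat.gcd n (p ^ e) ∣ p ^ e := Nat.gcd_dvd_right _ _
  obtain ⟨j, _, hj⟩ := (Nat.dvd_prime_pow hp.out).mp hd
  have hsub : Finset.univ.filter (fun a : A => a ^ n = 1) ⊆
      Finset.univ.filter (fun a : A => a ^ (p ^ j) = 1) := by
    intro a ha
    rw [Finset.mem_filter] at ha ⊢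
    refine ⟨Finset.mem_univ _, ?_⟩
    rw [← hj]
    have h1 : a ^ (p ^ e) = 1 := by
      rw [← he, Nat.card_eq_fintype_card]; exact pow_card_eq_one
    exact pow_gcd_eq_one.mpr ⟨ha.2, h1⟩
  calc _ ≤ _ := Finset.card_le_card hsub
    _ ≤ p ^ j := key j
    _ = Nat.gcd n (p ^ e) := hj.symm
    _ ≤ n := Nat.gcd_le_left _ hn

/-- A normal subgroup of order greater than `p` of a finite `p`-group contains a normal subgroup
of order `p ^ 2`. -/
theorem exists_normal_sq {R : Type*} [Group R] [Finite R] {p : ℕ} [hp : Fact p.Prime]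
    (hR : IsPGroup p R) (Ω : Subgroup R) [Ω.Normal] (hΩ : p < Nat.card Ω) :
    ∃ A : Subgroup R, A ≤ Ω ∧ A.Normal ∧ Nat.card A = p ^ 2 := by
  have hΩbot : Ω ≠ ⊥ := by
    rintro rfl
    rw [Subgroup.card_bot] at hΩ
    have := hp.out.one_lt
    omega
  obtain ⟨z, hzΩ, hzo, hzc⟩ := exists_central hR Ω hΩbot
  set N := Subgroup.zpowers z with hN
  haveI hNn : N.Normal := zpowers_normal_of_central z hzc
  have hNcard : Nat.card N = p := by rw [hN, Nat.card_zpowers, hzo]
  have hNΩ : N ≤ Ω := by rw [hN, Subgroup.zpowers_le]; exact hzΩ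
  set π := QuotientGroup.mk' N with hπ
  have hπs : Function.Surjective π := QuotientGroup.mk'_surjective N
  have hker : π.ker = N := QuotientGroup.ker_mk' N
  have hRq : IsPGroup p (R ⧸ N) := hR.to_quotient N
  haveI : (Ω.map π).Normal := Subgroup.Normal.map inferInstance π hπs
  have hΩq : Ω.map π ≠ ⊥ := by
    intro h
    have h1 : Ω ≤ N := by
      rw [← hker]; exact (Subgroup.map_eq_bot_iff Ω).mp h
    have := Subgroup.card_le_of_le h1
    omega
  obtain ⟨e, heΩ, heo, hec⟩ := exists_central hRq (Ω.map π) hΩq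
  haveI hEn : (Subgroup.zpowers e).Normal := zpowers_normal_of_central e hec
  refine ⟨(Subgroup.zpowers e).comap π, ?_, hEn.comap π, ?_⟩
  · calc (Subgroup.zpowers e).comap π ≤ (Ω.map π).comap π :=
          Subgroup.comap_mono (by rw [Subgroup.zpowers_le]; exact heΩ)
      _ = Ω ⊔ π.ker := Subgroup.comap_map_eq π Ω
      _ = Ω := by rw [hker]; exact sup_eq_left.mpr hNΩ
  · rw [helper19.card_comap_of_surjective π hπs, Nat.card_zpowers, heo, hker, hNcard, sq]

/-- The elements of order dividing `p` in a subgroup on which the `p`-th power map is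
multiplicative. -/
def omegaSub {R : Type*} [Group R] (F : Subgroup R) (p : ℕ)
    (hmul : ∀ x ∈ F, ∀ y ∈ F, (x * y) ^ p = x ^ p * y ^ p) : Subgroup R where
  carrier := {x | x ∈ F ∧ x ^ p = 1}
  mul_mem' := by
    rintro a b ⟨ha, ha'⟩ ⟨hb, hb'⟩
    exact ⟨F.mul_mem ha hb, by rw [hmul _ ha _ hb, ha', hb', one_mul]⟩
  one_mem' := ⟨F.one_mem, one_pow p⟩
  inv_mem' := by
    rintro a ⟨ha, ha'⟩
    exact ⟨F.inv_mem ha, by rw [inv_pow, ha', inv_one]⟩

theorem mem_omegaSub {R : Type*} [Group R] (F : Subgroup R) (p : ℕ)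
    (hmul : ∀ x ∈ F, ∀ y ∈ F, (x * y) ^ p = x ^ p * y ^ p) (x : R) :
    x ∈ omegaSub F p hmul ↔ x ∈ F ∧ x ^ p = 1 := Iff.rfl

theorem omegaSub_normal {R : Type*} [Group R] (F : Subgroup R) [hF : F.Normal] (p : ℕ)
    (hmul : ∀ x ∈ F, ∀ y ∈ F, (x * y) ^ p = x ^ p * y ^ p) : (omegaSub F p hmul).Normal := by
  constructor
  rintro x ⟨hx, hx'⟩ g
  exact ⟨hF.conj_mem x hx g, by rw [conj_pow, hx', mul_one, mul_inv_cancel]⟩

/-- Common last step. -/
theorem finish {R : Type*} [Group R] [Finite R] {p : ℕ} [hp : Fact p.Prime]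
    (hR : IsPGroup p R) (S Ω : Subgroup R) [Ω.Normal] (hΩS : Ω ≤ S) (hΩ : p < Nat.card Ω)
    (hΩp : ∀ x ∈ Ω, x ^ p = 1) :
    ∃ A : Subgroup R, A ≤ S ∧ A.Normal ∧ Cfsg.IsElementaryAbelian p A ∧ Nat.card A = p ^ 2 := by
  obtain ⟨A, hAΩ, hAn, hAc⟩ := exists_normal_sq hR Ω hΩ
  refine ⟨A, hAΩ.trans hΩS, hAn, ⟨⟨⟨fun a b => ?_⟩⟩, fun a ha => hΩp a (hAΩ ha)⟩, hAc⟩
  exact IsPGroup.commutative_of_card_eq_prime_sq hAc a b

theorem main.{u} {p : ℕ} [hp : Fact p.Prime] (hp2 : p ≠ 2) :
    ∀ (n : ℕ) (R : Type u) [Group R] [Finite R], Nat.card R = n → IsPGroup p R →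
    ∀ (S : Subgroup R), S.Normal → ¬ IsCyclic S →
    ∃ A : Subgroup R, A ≤ S ∧ A.Normal ∧ Cfsg.IsElementaryAbelian p A ∧ Nat.card A = p ^ 2 := by
  intro n
  induction n using Nat.strong_induction_on with
  | _ n ih =>
    intro R _ _ hcard hR S hSn hS
    haveI := hSn
    have hSbot : S ≠ ⊥ := by
      rintro rfl
      exact hS inferInstance
    obtain ⟨z, hzS, hzo, hzc⟩ := exists_central hR S hSbot
    set N := Subgroup.zpowers z with hN
    haveI hNn : N.Normal := zpowers_normal_of_central z hzc
    have hNcard : Nat.card N = p := by rw [hN, Nat.card_zpowers, hzo]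
    have hNS : N ≤ S := by rw [hN, Subgroup.zpowers_le]; exact hzS
    set π := QuotientGroup.mk' N with hπ
    have hπs : Function.Surjective π := QuotientGroup.mk'_surjective N
    have hker : π.ker = N := QuotientGroup.ker_mk' N
    have hzp : z ^ p = 1 := by rw [← hzo]; exact pow_orderOf_eq_one z
    have hNpow : ∀ c ∈ N, c ^ p = 1 := by
      intro c hc
      obtain ⟨i, rfl⟩ := Subgroup.mem_zpowers_iff.mp hc
      rw [← zpow_natCast, ← zpow_mul, mul_comm, zpow_mul, zpow_natCast, hzp, one_zpow]
    have hNc : ∀ c ∈ N, ∀ u : R, u * c = c * u := by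
      intro c hc u
      obtain ⟨i, rfl⟩ := Subgroup.mem_zpowers_iff.mp hc
      exact ((show Commute u z from hzc u).zpow_right i).eq
    have hcardq : Nat.card (R ⧸ N) < n := by
      rw [← hcard, ← Subgroup.card_mul_index N, hNcard]
      show N.index < _
      have h0 : 0 < N.index := Nat.pos_of_ne_zero Subgroup.index_ne_zero_of_finite
      have := hp.out.one_lt
      nlinarith
    by_cases hc : IsCyclic ↥(S.map π)
    · -- the abelian case
      have hSab : ∀ a ∈ S, ∀ b ∈ S, a * b = b * a := by
        intro a ha b hb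
        let f : ↥S →* ↥(S.map π) := π.subgroupMap S
        have hf : f.ker ≤ Subgroup.center ↥S := by
          intro x hx
          rw [MonoidHom.mem_ker] at hx
          have h1 : π x.1 = 1 := congrArg Subtype.val hx
          have h2 : x.1 ∈ N := by rw [← hker]; exact h1
          rw [Subgroup.mem_center_iff]
          intro y
          apply Subtype.ext
          exact hNc x.1 h2 y.1
        have := commutative_of_cyclic_center_quotient f hf ⟨a, ha⟩ ⟨b, hb⟩
        exact congrArg Subtype.val this
      have hmul : ∀ x ∈ S, ∀ y ∈ S, (x * y) ^ p = x ^ p * y ^ p := by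
        intro x hx y hy
        exact (show Commute x y from hSab x hx y hy).mul_pow p
      haveI := omegaSub_normal S p hmul
      apply finish hR S (omegaSub S p hmul)
      · intro x hx; exact hx.1
      · by_contra hle
        push Not at hle
        apply hS
        apply isCyclic_of_comm_p (hR.to_subgroup S)
          (fun a b => Subtype.ext (hSab a.1 a.2 b.1 b.2))
        refine le_trans ?_ hle
        apply Nat.card_le_card_of_injective
          (fun a : {a : ↥S // a ^ p = 1} =>
            (⟨a.1.1, a.1.2, by have := congrArg Subtype.val a.2; simpa using this⟩ :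
              ↥(omegaSub S p hmul)))
        intro a b hab
        have h := congrArg Subtype.val hab
        exact Subtype.ext (Subtype.ext h)
      · intro x hx; exact hx.2
    · -- induction
      haveI hSqn : (S.map π).Normal := Subgroup.Normal.map hSn π hπs
      obtain ⟨Ab, hAbS, hAbn, hAbe, hAbc⟩ :=
        ih _ hcardq (R ⧸ N) rfl (hR.to_quotient N) (S.map π) hSqn hc
      set F := Ab.comap π with hF
      haveI hFn : F.Normal := hAbn.comap π
      have hNF : N ≤ F := by
        intro x hx
        rw [hF, Subgroup.mem_comap]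
        have : π x = 1 := by rw [← MonoidHom.mem_ker, hker]; exact hx
        rw [this]; exact Ab.one_mem
      have hFS : F ≤ S := by
        calc F ≤ (S.map π).comap π := Subgroup.comap_mono hAbS
          _ = S ⊔ π.ker := Subgroup.comap_map_eq π S
          _ = S := by rw [hker]; exact sup_eq_left.mpr hNS
      have hFcard : Nat.card F = p ^ 3 := by
        rw [hF, helper19.card_comap_of_surjective π hπs, hAbc, hker, hNcard]; ring
      have hcomF : ∀ x ∈ F, ∀ y ∈ F, y * x * (x * y)⁻¹ ∈ N := by
        intro x hx y hy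
        rw [← hker, MonoidHom.mem_ker, map_mul, map_inv, map_mul, map_mul]
        have : π y * π x = π x * π y := by
          have := hAbe.1.is_comm.comm (⟨π y, hy⟩ : ↥Ab) ⟨π x, hx⟩
          exact congrArg Subtype.val this
        rw [this, mul_inv_cancel]
      have hmul : ∀ x ∈ F, ∀ y ∈ F, (x * y) ^ p = x ^ p * y ^ p := by
        intro x hx y hy
        have hcN := hcomF x hx y hy
        have hyx : y * x = (y * x * (x * y)⁻¹) * (x * y) := by group
        have h1 := lead.mul_pow_class2 x y _ hyx (hNc _ hcN x).symm (hNc _ hcN y).symm p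
        rw [h1]
        have hodd : Odd p := hp.out.odd_of_ne_two hp2
        obtain ⟨k, hk⟩ := hodd
        have h2 : p * (p - 1) / 2 = p * k := by
          have : p - 1 = 2 * k := by omega
          rw [this, ← mul_assoc, mul_comm p 2, mul_assoc,
            Nat.mul_div_cancel_left _ (by norm_num : 0 < 2)]
        rw [h2, pow_mul, hNpow _ hcN, one_pow, mul_one]
      have hpowN : ∀ x ∈ F, x ^ p ∈ N := by
        intro x hx
        rw [← hker, MonoidHom.mem_ker, map_pow]
        exact hAbe.2 (π x) hx
      haveI := omegaSub_normal F p hmul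
      apply finish hR S (omegaSub F p hmul)
      · intro x hx; exact hFS hx.1
      · -- counting
        let φ : ↥F →* ↥N := MonoidHom.mk' (fun x => ⟨x.1 ^ p, hpowN x.1 x.2⟩)
          (fun a b => Subtype.ext (hmul a.1 a.2 b.1 b.2))
        have h1 : Nat.card φ.ker * φ.ker.index = Nat.card F := Subgroup.card_mul_index φ.ker
        have h2 : φ.ker.index = Nat.card φ.range := Subgroup.index_ker φ
        have h3 : Nat.card φ.range ≤ p := by
          rw [← hNcard]; exact Subgroup.card_le_card_group φ.range
        have h4 : Nat.card φ.ker ≤ Nat.card ↥(omegaSub F p hmul) := by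
          apply Nat.card_le_card_of_injective
            (fun a : ↥φ.ker =>
              (⟨a.1.1, a.1.2, by
                have h : ((φ a.1 : ↥N) : R) = ((1 : ↥N) : R) :=
                  congrArg Subtype.val (MonoidHom.mem_ker.mp a.2)
                exact h⟩ :
                ↥(omegaSub F p hmul)))
          intro a b hab
          have h := congrArg Subtype.val hab
          exact Subtype.ext (Subtype.ext h)
        by_contra hle
        push Not at hle
        have h5 : Nat.card φ.ker ≤ p := h4.trans hle
        have h6 : p ^ 3 ≤ p * p := by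
          rw [← hFcard, ← h1, h2]
          exact Nat.mul_le_mul h5 h3
        have := hp.out.one_lt
        have h7 : p * p < p ^ 3 := by
          have : p ^ 3 = p * p * p := by ring
          rw [this]
          nlinarith
        omega
      · intro x hx; exact hx.2

/-- For odd p, every non-cyclic normal subgroup of a p-group contains a normal elementary abelian subgroup of the whole group of order p². -/
theorem result {R : Type*} [Group R] [Finite R] {p : ℕ} [Fact p.Prime] (hp : p ≠ 2) (hR : IsPGroup p R) (S : Subgroup R) [S.Normal] (hS : ¬ IsCyclic S) : ∃ A : Subgroup R, A ≤ S ∧ A.Normal ∧ Cfsg.IsElementaryAbelian p A ∧ Nat.card A = p ^ 2 := by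
  exact main hp _ R rfl hR S inferInstance hS

end Cfsg.Agent.S0636
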