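import Mathlib
import Cfsg.Agent.Lib_helper8_CN
import Cfsg.Agent.Lib_lead_Coprime
import Cfsg.Agent.S0636

set_option autoImplicit false

namespace Cfsg.Agent.helper8.CN

open Cfsg
open scoped commutatorElement

theorem nilpotent_of_le {G : Type*} [Group G] {K L : Subgroup G} (h : K ≤ L)
    (hL : Group.IsNilpotent L) : Group.IsNilpotent K := by
  have : Group.IsNilpotent (K.subgroupOf L) := inferInstance
  exact Group.nilpotent_of_mulEquiv (Subgroup.subgroupOfEquivOfLe h)

theorem nilpotent_map {G G' : Type*} [Group G] [Group G'] (f : G →* G') (K : Subgroup G)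
    (hK : Group.IsNilpotent K) : Group.IsNilpotent (K.map f) :=
  Group.nilpotent_of_surjective (f.subgroupMap K) (f.subgroupMap_surjective K)

theorem cn_of_equiv {G G' : Type*} [Group G] [Group G'] (e : G ≃* G') (h : IsCNGroup G) :
    IsCNGroup G' := by
  intro g' hg'
  have h1 : e.symm g' ≠ 1 := by
    intro h0
    apply hg'
    have := congrArg e h0
    simpa using this
  have h2 := nilpotent_map e.toMonoidHom _ (h _ h1)
  have h3 : (Subgroup.centralizer ({e.symm g'} : Set G)).map e.toMonoidHom =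
      Subgroup.centralizer ({g'} : Set G') := by
    ext y
    rw [Subgroup.mem_map, Subgroup.mem_centralizer_iff]
    constructor
    · rintro ⟨x, hx, rfl⟩ z hz
      rw [Set.mem_singleton_iff] at hz
      subst hz
      rw [Subgroup.mem_centralizer_iff] at hx
      have := hx _ rfl
      have h4 := congrArg e this
      simpa using h4
    · intro hy
      refine ⟨e.symm y, ?_, by simp⟩
      rw [Subgroup.mem_centralizer_iff]
      intro z hz
      rw [Set.mem_singleton_iff] at hz
      subst hz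
      have := hy g' rfl
      rw [← map_mul, ← map_mul, this]
  rw [h3] at h2
  exact h2

/-- a Sylow subgroup through a given `p`-element, and a nontrivial element of a normal
`p`-subgroup centralized by it -/
theorem exists_sylow_central {Γ : Type*} [Group Γ] [Finite Γ] (p : ℕ) [Fact p.Prime]
    (N : Subgroup Γ) [N.Normal] (hN : IsPGroup p N) (hN1 : N ≠ ⊥) (y : Γ) (j : ℕ)
    (hy : y ^ p ^ j = 1) :
    ∃ S : Sylow p Γ, ∃ b ∈ N, b ≠ 1 ∧ y ∈ (S : Subgroup Γ) ∧
      ∀ s ∈ (S : Subgroup Γ), s * b = b * s := by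
  have hy' : IsPGroup p (Subgroup.zpowers y) := by
    obtain ⟨i, _, hi⟩ := (Nat.dvd_prime_pow Fact.out).1 (orderOf_dvd_of_pow_eq_one hy)
    exact IsPGroup.of_card (n := i) (by rw [Nat.card_zpowers, hi])
  have hP0 : IsPGroup p (N ⊔ Subgroup.zpowers y : Subgroup Γ) :=
    IsPGroup.to_sup_of_normal_left hN hy'
  obtain ⟨S, hS⟩ := hP0.exists_le_sylow
  have hNS : N ≤ (S : Subgroup Γ) := le_trans le_sup_left hS
  have hyS : y ∈ (S : Subgroup Γ) := hS (Subgroup.mem_sup_right (Subgroup.mem_zpowers y))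
  have hV : N.subgroupOf (S : Subgroup Γ) ≠ ⊥ := by
    intro h
    rw [Subgroup.subgroupOf_eq_bot] at h
    exact hN1 (disjoint_self.mp (h.mono_right hNS))
  obtain ⟨b, hbV, hbo, hbc⟩ := Cfsg.Agent.S0636.exists_central
    (U := ↥(S : Subgroup Γ)) S.isPGroup' (N.subgroupOf (S : Subgroup Γ)) hV
  refine ⟨S, b.1, Subgroup.mem_subgroupOf.mp hbV, ?_, hyS, ?_⟩
  · intro h
    have : b = 1 := Subtype.ext h
    rw [this, orderOf_one] at hbo
    exact (Fact.out : p.Prime).one_lt.ne hbo
  · intro s hs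
    exact congrArg Subtype.val (hbc ⟨s, hs⟩)

/-- a nontrivial solvable normal subgroup contains a nontrivial normal abelian `p`-subgroup -/
theorem exists_normal_abelian_pgroup {G : Type*} [Group G] [Finite G] (H : Subgroup G)
    [hHn : H.Normal] (hsolv : Group.IsSolvable H) (hH1 : H ≠ ⊥) :
    ∃ (p : ℕ) (_ : p.Prime) (D : Subgroup G), D.Normal ∧ D ≤ H ∧ D ≠ ⊥ ∧
      (∀ a ∈ D, ∀ b ∈ D, a * b = b * a) ∧ IsPGroup p D := by
  classical
  have hex : ∃ n, derivedSeries ↥H n = ⊥ := hsolv.solvable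
  have hnt : Nontrivial ↥H := (Subgroup.nontrivial_iff_ne_bot H).mpr hH1
  have h0 : Nat.find hex ≠ 0 := by
    intro h
    have := Nat.find_spec hex
    rw [h, derivedSeries_zero] at this
    exact top_ne_bot this
  obtain ⟨m, hm⟩ := Nat.exists_eq_succ_of_ne_zero h0
  have hKne : derivedSeries ↥H m ≠ ⊥ := Nat.find_min hex (by omega)
  have hKK : ⁅derivedSeries ↥H m, derivedSeries ↥H m⁆ = ⊥ := by
    have := Nat.find_spec hex
    rw [hm] at this
    exact this
  obtain ⟨K', hK'⟩ : ∃ K' : Subgroup G, K' = (derivedSeries ↥H m).map H.subtype := ⟨_, rfl⟩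
  have hK'n : K'.Normal := by
    rw [hK']
    infer_instance
  have hK'H : K' ≤ H := by
    rw [hK']
    exact Subgroup.map_subtype_le _
  have hK'ne : K' ≠ ⊥ := by
    rw [hK']
    intro h
    apply hKne
    rw [Subgroup.map_eq_bot_iff_of_injective _ H.subtype_injective] at h
    exact h
  have hK'ab : ∀ a ∈ K', ∀ b ∈ K', a * b = b * a := by
    intro a ha b hb
    rw [hK'] at ha hb
    obtain ⟨a', ha', rfl⟩ := ha
    obtain ⟨b', hb', rfl⟩ := hb
    have : ⁅a', b'⁆ ∈ ⁅derivedSeries ↥H m, derivedSeries ↥H m⁆ :=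
      Subgroup.commutator_mem_commutator ha' hb'
    rw [hKK, Subgroup.mem_bot, commutatorElement_eq_one_iff_commute] at this
    have h2 := congrArg H.subtype this.eq
    simpa using h2
  have hcard : Nat.card K' ≠ 1 := fun h => hK'ne (Subgroup.card_eq_one.mp h)
  obtain ⟨p, hp, hpK⟩ := Nat.exists_prime_and_dvd hcard
  have : Fact p.Prime := ⟨hp⟩
  let D : Subgroup G :=
    { carrier := {g | g ∈ K' ∧ g ^ p = 1}
      one_mem' := ⟨K'.one_mem, one_pow p⟩
      mul_mem' := by
        rintro a b ⟨ha, hap⟩ ⟨hb, hbp⟩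
        refine ⟨K'.mul_mem ha hb, ?_⟩
        have hc : Commute a b := hK'ab a ha b hb
        rw [hc.mul_pow, hap, hbp, one_mul]
      inv_mem' := by
        rintro a ⟨ha, hap⟩
        exact ⟨K'.inv_mem ha, by rw [inv_pow, hap, inv_one]⟩ }
  have hDmem : ∀ g, g ∈ D ↔ g ∈ K' ∧ g ^ p = 1 := fun g => Iff.rfl
  refine ⟨p, hp, D, ?_, ?_, ?_, ?_, ?_⟩
  · constructor
    intro a ha g
    rw [hDmem] at ha ⊢
    exact ⟨hK'n.conj_mem a ha.1 g, by rw [conj_pow, ha.2, mul_one, mul_inv_cancel]⟩
  · intro g hg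
    exact hK'H ((hDmem g).mp hg).1
  · obtain ⟨a, ha⟩ := exists_prime_orderOf_dvd_card' (G := ↥K') p hpK
    intro h
    have h3 : (a : G) ∈ D := by
      rw [hDmem]
      refine ⟨a.2, ?_⟩
      have := pow_orderOf_eq_one a
      rw [ha] at this
      have h4 := congrArg Subtype.val this
      simpa using h4
    rw [h, Subgroup.mem_bot] at h3
    have h5 : a = 1 := Subtype.ext h3
    rw [h5, orderOf_one] at ha
    exact hp.one_lt.ne ha
  · intro a ha b hb
    exact hK'ab a ((hDmem a).mp ha).1 b ((hDmem b).mp hb).1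
  · intro g
    refine ⟨1, ?_⟩
    apply Subtype.ext
    rw [pow_one]
    have := ((hDmem g.1).mp g.2).2
    simpa using this

end Cfsg.Agent.helper8.CN
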