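import Mathlib
import Cfsg.Agent.Lib_helper10_Tr2
import Cfsg.Agent.Lib_helper10_Sec2

set_option autoImplicit false

/-!
# Control of transfer at the level of types; sections
-/

namespace Cfsg.Agent.helper10

universe u

open scoped commutatorElement

section ctlT

variable {X Y : Type u} [Group X] [Group Y]

/-- Control of transfer in `X`. -/
def CtlT (p : ℕ) (𝓦 : Set (∀ (Q : Type u) [Group Q], Subgroup Q)) (X : Type u) [Group X] : Prop :=
  Cfsg.FamilyControlsTransferIn p (fam 𝓦 X) ⊤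

theorem RT_fam (𝓦 : Set (∀ (Q : Type u) [Group Q], Subgroup Q)) (H T : Subgroup X) :
    RT (fam 𝓦 X) H T = ⨆ W ∈ 𝓦, T ⊓ ⁅H ⊓ Subgroup.normalizer
      ((Cfsg.inducedFunctor (G := X) W T : Subgroup X) : Set X),
      H ⊓ Subgroup.normalizer ((Cfsg.inducedFunctor (G := X) W T : Subgroup X) : Set X)⁆ := by
  unfold RT fam
  rw [iSup_image]

theorem ctlT_at [Finite X] {p : ℕ} [Fact p.Prime]
    {𝓦 : Set (∀ (Q : Type u) [Group Q], Subgroup Q)}
    (h𝓦 : ∀ W ∈ 𝓦, Cfsg.IsCharPFunctor.{u} p W) (S : Sylow p X) (h : CtlT p 𝓦 X) :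
    (S : Subgroup X) ⊓ ⁅(⊤ : Subgroup X), ⊤⁆ ≤ RT (fam 𝓦 X) ⊤ (S : Subgroup X) :=
  fct_sylow (fam_conj h𝓦) h (S : Subgroup X) le_top S.isPGroup'
    (by rw [Subgroup.relIndex_top_right]; exact S.not_dvd_index)

theorem ctlT_of_at [Finite X] {p : ℕ} [Fact p.Prime]
    {𝓦 : Set (∀ (Q : Type u) [Group Q], Subgroup Q)} (S : Sylow p X)
    (h : (S : Subgroup X) ⊓ ⁅(⊤ : Subgroup X), ⊤⁆ ≤ RT (fam 𝓦 X) ⊤ (S : Subgroup X)) :
    CtlT p 𝓦 X :=
  fct_of_le ⊤ (S : Subgroup X) le_top S.isPGroup'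
    (by rw [Subgroup.relIndex_top_right]; exact S.not_dvd_index) h

/-- For an injective homomorphism, `f (H ∩ N(V)) = f H ∩ N(f V)`. -/
theorem map_inf_normalizer_of_injective (f : X →* Y) (hf : Function.Injective f) (H V : Subgroup X) :
    (H ⊓ Subgroup.normalizer (V : Set X)).map f =
      H.map f ⊓ Subgroup.normalizer ((V.map f : Subgroup Y) : Set Y) := by
  apply le_antisymm
  · rintro _ ⟨x, hx, rfl⟩
    obtain ⟨hxH, hxN⟩ := Subgroup.mem_inf.1 hx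
    exact Subgroup.mem_inf.2 ⟨⟨x, hxH, rfl⟩, Subgroup.le_normalizer_map f ⟨x, hxN, rfl⟩⟩
  · intro y hy
    obtain ⟨⟨x, hxH, rfl⟩, hyN⟩ := Subgroup.mem_inf.1 hy
    refine ⟨x, Subgroup.mem_inf.2 ⟨hxH, ?_⟩, rfl⟩
    rw [Subgroup.mem_normalizer_iff] at hyN ⊢
    intro v
    constructor
    · intro hv
      obtain ⟨v', hv', hv'e⟩ := (hyN (f v)).1 ⟨v, hv, rfl⟩
      have : v' = x * v * x⁻¹ := hf (by rw [hv'e]; simp)
      rw [← this]; exact hv'
    · intro hv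
      obtain ⟨v', hv', hv'e⟩ := (hyN (f v)).2 ⟨x * v * x⁻¹, hv, by simp⟩
      have : v' = v := hf hv'e
      rw [← this]; exact hv'

/-- `RT` commutes with injective homomorphisms. -/
theorem RT_map_injective [Finite X] {p : ℕ} {𝓦 : Set (∀ (Q : Type u) [Group Q], Subgroup Q)}
    (h𝓦 : ∀ W ∈ 𝓦, Cfsg.IsCharPFunctor.{u} p W) (f : X →* Y) (hf : Function.Injective f)
    (H T : Subgroup X) (hT : IsPGroup p T) :
    RT (fam 𝓦 Y) (H.map f) (T.map f) = (RT (fam 𝓦 X) H T).map f := by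
  rw [RT_fam, RT_fam, Subgroup.map_iSup]
  congr 1
  funext W
  rw [Subgroup.map_iSup]
  congr 1
  funext hW
  have hinjT : ∀ x ∈ T, f x = 1 → x = 1 := fun x _ hx => hf (by rw [hx, map_one])
  haveI : Finite T := inferInstance
  rw [induced_map_of_injOn W (h𝓦 W hW) f T hT hinjT, ← map_inf_normalizer_of_injective f hf,
    ← Subgroup.map_commutator, Subgroup.map_inf _ _ f hf]

/-- Control of transfer in `X` gives control in the image of an injective homomorphism. -/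
theorem fct_map_injective [Finite X] {p : ℕ} {𝓦 : Set (∀ (Q : Type u) [Group Q], Subgroup Q)}
    (h𝓦 : ∀ W ∈ 𝓦, Cfsg.IsCharPFunctor.{u} p W) (f : X →* Y) (hf : Function.Injective f)
    (hX : CtlT p 𝓦 X) : Cfsg.FamilyControlsTransferIn p (fam 𝓦 Y) f.range := by
  obtain ⟨T₀, -, hT₀p, hT₀i, heq⟩ := hX
  refine ⟨T₀.map f, Subgroup.map_le_range f T₀, hT₀p.map f, ?_, ?_⟩
  · have h1 := Subgroup.relIndex_map_map_of_injective T₀ ⊤ hf
    rw [← MonoidHom.range_eq_map] at h1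
    rw [h1]
    exact hT₀i
  · have h1 := RT_map_injective h𝓦 f hf ⊤ T₀ hT₀p
    rw [← MonoidHom.range_eq_map] at h1
    have h2 : RT (fam 𝓦 X) ⊤ T₀ = T₀ ⊓ ⁅(⊤ : Subgroup X), ⊤⁆ := heq.symm
    show T₀.map f ⊓ ⁅f.range, f.range⁆ = RT (fam 𝓦 Y) f.range (T₀.map f)
    rw [h1, h2, Subgroup.map_inf _ _ f hf, Subgroup.map_commutator, ← MonoidHom.range_eq_map]

theorem ctlT_iso [Finite X] {p : ℕ} {𝓦 : Set (∀ (Q : Type u) [Group Q], Subgroup Q)}
    (h𝓦 : ∀ W ∈ 𝓦, Cfsg.IsCharPFunctor.{u} p W) (e : X ≃* Y) (hX : CtlT p 𝓦 X) : CtlT p 𝓦 Y := by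
  have h1 := fct_map_injective h𝓦 e.toMonoidHom e.injective hX
  have h2 : e.toMonoidHom.range = ⊤ := MonoidHom.range_eq_top.2 e.surjective
  rw [h2] at h1
  exact h1

theorem fct_subgroup [Finite X] {p : ℕ} {𝓦 : Set (∀ (Q : Type u) [Group Q], Subgroup Q)}
    (h𝓦 : ∀ W ∈ 𝓦, Cfsg.IsCharPFunctor.{u} p W) (H : Subgroup X) (hH : CtlT p 𝓦 H) :
    Cfsg.FamilyControlsTransferIn p (fam 𝓦 X) H := by
  have h1 := fct_map_injective h𝓦 H.subtype H.subtype_injective hH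
  rw [Subgroup.range_subtype] at h1
  exact h1

/-- Control in a subgroup `H ≥ S` (as a group) gives `S ∩ H' ≤ R`. -/
theorem inf_commutator_le_RT_of_ctlT [Finite X] {p : ℕ} [Fact p.Prime]
    {𝓦 : Set (∀ (Q : Type u) [Group Q], Subgroup Q)}
    (h𝓦 : ∀ W ∈ 𝓦, Cfsg.IsCharPFunctor.{u} p W) (S : Sylow p X) (H : Subgroup X)
    (hSH : (S : Subgroup X) ≤ H) (hH : CtlT p 𝓦 H) :
    (S : Subgroup X) ⊓ ⁅H, H⁆ ≤ RT (fam 𝓦 X) ⊤ (S : Subgroup X) := by
  have h1 := fct_subgroup h𝓦 H hH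
  have hidx : ¬ p ∣ (S : Subgroup X).relIndex H := by
    intro hdvd
    exact S.not_dvd_index ((Subgroup.relIndex_mul_index hSH) ▸ Dvd.dvd.mul_right hdvd _)
  exact (fct_sylow (fam_conj h𝓦) h1 (S : Subgroup X) hSH S.isPGroup' hidx).trans
    (RT_mono _ le_top _)

end ctlT

section sechyp

variable {X Y : Type u} [Group X] [Group Y]

/-- A property `𝒟` holds in all sections of `X` satisfying `𝒞`. -/
def SecHyp (𝒞 𝒟 : ∀ (Y : Type u) [Group Y], Prop) (X : Type u) [Group X] : Prop :=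
  ∀ (K : Subgroup X) (Y : Type u) [Group Y] (f : K →* Y), Function.Surjective f → 𝒞 Y → 𝒟 Y

theorem secHyp_subgroup {𝒞 𝒟 : ∀ (Y : Type u) [Group Y], Prop} (H : Subgroup X)
    (h : SecHyp 𝒞 𝒟 X) : SecHyp 𝒞 𝒟 H := by
  intro K' Y _ f hf hY
  let e : K' ≃* (K'.map H.subtype) := K'.equivMapOfInjective H.subtype H.subtype_injective
  exact h (K'.map H.subtype) Y (f.comp e.symm.toMonoidHom)
    (hf.comp e.symm.surjective) hY

theorem secHyp_quotient {𝒞 𝒟 : ∀ (Y : Type u) [Group Y], Prop} (N : Subgroup X)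
    [N.Normal] (h : SecHyp 𝒞 𝒟 X) : SecHyp 𝒞 𝒟 (X ⧸ N) := by
  intro K' Y _ f hf hY
  let K : Subgroup X := K'.comap (QuotientGroup.mk' N)
  let g : K →* K' := ((QuotientGroup.mk' N).comp K.subtype).codRestrict K' (fun x => x.2)
  have hg : Function.Surjective g := by
    rintro ⟨y, hy⟩
    obtain ⟨x, rfl⟩ := QuotientGroup.mk'_surjective N y
    exact ⟨⟨x, hy⟩, rfl⟩
  exact h K Y (f.comp g) (hf.comp hg) hY

theorem secHyp_top {𝒞 𝒟 : ∀ (Y : Type u) [Group Y], Prop}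
    (h : SecHyp 𝒞 𝒟 X) (hX : 𝒞 X) : 𝒟 X :=
  h ⊤ X (⊤ : Subgroup X).subtype (fun x => ⟨⟨x, Subgroup.mem_top x⟩, rfl⟩) hX

theorem secHyp_of_sections {𝒞 𝒟 : ∀ (Y : Type u) [Group Y], Prop} {G : Type u} [Group G] [Finite G]
    (h𝒞 : ∀ (A B : Type u) [Group A] [Group B] [Finite A], (A ≃* B) → 𝒞 B → 𝒞 A)
    (h𝒟 : ∀ (A B : Type u) [Group A] [Group B] [Finite A], (A ≃* B) → 𝒟 A → 𝒟 B)
    (hloc : ∀ (K R : Subgroup G) [hR : (R.subgroupOf K).Normal],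
      𝒞 (↥K ⧸ R.subgroupOf K) → 𝒟 (↥K ⧸ R.subgroupOf K)) :
    SecHyp 𝒞 𝒟 G := by
  intro K Y _ f hf hY
  have hRk : (f.ker.map K.subtype).subgroupOf K = f.ker :=
    Subgroup.comap_map_eq_self_of_injective K.subtype_injective _
  haveI hRn : ((f.ker.map K.subtype).subgroupOf K).Normal := by rw [hRk]; infer_instance
  let e : (↥K ⧸ (f.ker.map K.subtype).subgroupOf K) ≃* Y :=
    (QuotientGroup.quotientMulEquivOfEq hRk).trans (QuotientGroup.quotientKerEquivOfSurjective f hf)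
  have h1 := hloc K (f.ker.map K.subtype) (h𝒞 _ _ e hY)
  exact h𝒟 _ _ e h1

/-- The sections `K/R` of `G` in the form of the statements. -/
theorem secHyp_section {𝒞 𝒟 : ∀ (Y : Type u) [Group Y], Prop} {G : Type u} [Group G]
    (h : SecHyp 𝒞 𝒟 G) (K R : Subgroup G) [hR : (R.subgroupOf K).Normal] :
    SecHyp 𝒞 𝒟 (↥K ⧸ R.subgroupOf K) :=
  secHyp_quotient _ (secHyp_subgroup K h)

end sechyp

end Cfsg.Agent.helper10
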