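import Mathlib
import Cfsg.Agent.Lib_helper10_Tr3
import Cfsg.Agent.Lib_helper10_Sec5

set_option autoImplicit false

/-!
# Control of transfer: lifting through `p'`-subgroups, and the central transfer lemma
-/

namespace Cfsg.Agent.helper10

universe u

open scoped commutatorElement

section lemmas

variable {X : Type u} [Group X] [Finite X] {p : ℕ} [hp : Fact p.Prime]

theorem commutator_self_le (H : Subgroup X) : ⁅H, H⁆ ≤ H := by
  rw [Subgroup.commutator_le]
  intro a ha b hb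
  rw [commutatorElement_def]
  exact H.mul_mem (H.mul_mem (H.mul_mem ha hb) (H.inv_mem ha)) (H.inv_mem hb)

/-- A `p`-element of `H' D ∩ H` (with `D` a normal `p'`-subgroup) lies in `H'`. -/
theorem mem_commutator_of_mul_coprime (H S D : Subgroup X) (hS : IsPGroup p S) (hSH : S ≤ H)
    (hD : (Nat.card D).Coprime p) (s m : X) (hs : s ∈ S) (hm : m ∈ ⁅H, H⁆)
    (hd : m⁻¹ * s ∈ D) : s ∈ ⁅H, H⁆ := by
  have hmH : m ∈ H := commutator_self_le H hm
  have hsH : s ∈ H := hSH hs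
  have hdH : m⁻¹ * s ∈ H := H.mul_mem (H.inv_mem hmH) hsH
  -- work in the abelianization of `H`
  have h1 : (Abelianization.of (⟨m, hmH⟩ : H)) = 1 := by
    have : (⟨m, hmH⟩ : H) ∈ (Abelianization.of : H →* Abelianization H).ker := by
      rw [Abelianization.ker_of]
      rw [← Subgroup.map_subtype_commutator] at hm
      obtain ⟨y, hy, hym⟩ := hm
      have : y = ⟨m, hmH⟩ := Subtype.ext hym
      rw [← this]; exact hy
    exact this
  have h2 : (Abelianization.of (⟨s, hsH⟩ : H)) = Abelianization.of (⟨m⁻¹ * s, hdH⟩ : H) := by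
    have : (⟨s, hsH⟩ : H) = ⟨m, hmH⟩ * ⟨m⁻¹ * s, hdH⟩ := by
      apply Subtype.ext; simp
    rw [this, map_mul, h1, one_mul]
  have h3 : (Abelianization.of (⟨s, hsH⟩ : H)) ^ (Nat.card D) = 1 := by
    rw [h2, ← map_pow]
    have : (⟨m⁻¹ * s, hdH⟩ : H) ^ (Nat.card D) = 1 := by
      apply Subtype.ext
      have h4 : ((⟨m⁻¹ * s, hd⟩ : D)) ^ (Nat.card D) = 1 := pow_card_eq_one'
      have h5 := congrArg Subtype.val h4
      rw [Subgroup.coe_pow, Subgroup.coe_one] at h5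
      rw [Subgroup.coe_pow, Subgroup.coe_one]
      exact h5
    rw [this, map_one]
  obtain ⟨k, hk⟩ := hS ⟨s, hs⟩
  have h4 : (Abelianization.of (⟨s, hsH⟩ : H)) ^ (p ^ k) = 1 := by
    rw [← map_pow]
    have : (⟨s, hsH⟩ : H) ^ (p ^ k) = 1 := by
      apply Subtype.ext
      have h5 := congrArg Subtype.val hk
      simpa using h5
    rw [this, map_one]
  have h5 : orderOf (Abelianization.of (⟨s, hsH⟩ : H)) ∣ Nat.gcd (Nat.card D) (p ^ k) :=
    Nat.dvd_gcd (orderOf_dvd_of_pow_eq_one h3) (orderOf_dvd_of_pow_eq_one h4)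
  have h6 : Nat.gcd (Nat.card D) (p ^ k) = 1 := Nat.Coprime.pow_right k hD
  rw [h6] at h5
  have h7 : Abelianization.of (⟨s, hsH⟩ : H) = 1 := orderOf_eq_one_iff.mp (Nat.dvd_one.mp h5)
  have h8 : (⟨s, hsH⟩ : H) ∈ commutator H := by
    rw [← Abelianization.ker_of]; exact h7
  rw [← Subgroup.map_subtype_commutator]
  exact ⟨⟨s, hsH⟩, h8, rfl⟩

/-- The central transfer lemma: `Z(X) ∩ X' ∩ S ≤ S'`. -/
theorem center_inf_commutator_le (S : Sylow p X) (z : X) (hzc : z ∈ Subgroup.center X)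
    (hzS : z ∈ (S : Subgroup X)) (hz' : z ∈ ⁅(⊤ : Subgroup X), (⊤ : Subgroup X)⁆) :
    z ∈ ⁅(S : Subgroup X), (S : Subgroup X)⁆ := by
  haveI : (S : Subgroup X).FiniteIndex := inferInstance
  let ϕ : (S : Subgroup X) →* Abelianization (S : Subgroup X) := Abelianization.of
  have key : ∀ (k : ℕ) (g₀ : X), g₀⁻¹ * z ^ k * g₀ ∈ (S : Subgroup X) → g₀⁻¹ * z ^ k * g₀ = z ^ k := by
    intro k g₀ _
    have h1 : z ^ k ∈ Subgroup.center X := Subgroup.pow_mem _ hzc k
    have h2 := Subgroup.mem_center_iff.1 h1 g₀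
    calc g₀⁻¹ * z ^ k * g₀ = g₀⁻¹ * (z ^ k * g₀) := by group
      _ = g₀⁻¹ * (g₀ * z ^ k) := by rw [h2]
      _ = z ^ k := by group
  have h1 := MonoidHom.transfer_eq_pow ϕ z key
  have h2 : MonoidHom.transfer ϕ z = 1 := by
    have h3 : z ∈ commutator X := hz'
    exact Abelianization.commutator_subset_ker (MonoidHom.transfer ϕ) h3
  rw [h2] at h1
  have h3 : (⟨z ^ (S : Subgroup X).index, MonoidHom.transfer_eq_pow_aux z key⟩ : (S : Subgroup X)) ∈
      commutator (S : Subgroup X) := by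
    rw [← Abelianization.ker_of]; exact h1.symm
  have h4 : z ^ (S : Subgroup X).index ∈ ⁅(S : Subgroup X), (S : Subgroup X)⁆ := by
    rw [← Subgroup.map_subtype_commutator]
    exact ⟨_, h3, rfl⟩
  -- `z` is a power of `z ^ index`
  obtain ⟨k, hk⟩ := S.isPGroup' ⟨z, hzS⟩
  have h5 : orderOf z ∣ p ^ k := by
    apply orderOf_dvd_of_pow_eq_one
    have := congrArg Subtype.val hk
    simpa using this
  have h6 : (orderOf z).Coprime (S : Subgroup X).index := by
    have h7 : (p ^ k).Coprime (S : Subgroup X).index := by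
      apply Nat.Coprime.pow_left
      exact (Nat.Prime.coprime_iff_not_dvd hp.out).2 S.not_dvd_index
    exact Nat.Coprime.coprime_dvd_left h5 h7
  obtain ⟨m, hm⟩ := exists_pow_eq_self_of_coprime h6.symm
  rw [← hm]
  exact Subgroup.pow_mem _ h4 m

/-- (c): `P ∩ X' ≤ S' [P, X]` for a normal `p`-subgroup `P ≤ S`. -/
theorem normal_inf_commutator_le (S : Sylow p X) (P : Subgroup X) [P.Normal]
    (hPS : P ≤ (S : Subgroup X)) :
    P ⊓ ⁅(⊤ : Subgroup X), (⊤ : Subgroup X)⁆ ≤ ⁅(S : Subgroup X), (S : Subgroup X)⁆ ⊔ ⁅P, (⊤ : Subgroup X)⁆ := by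
  intro z hz
  obtain ⟨hzP, hz'⟩ := Subgroup.mem_inf.1 hz
  haveI hKn : (⁅P, (⊤ : Subgroup X)⁆).Normal := Subgroup.commutator_normal P ⊤
  obtain ⟨K, hK⟩ : ∃ K : Subgroup X, K = ⁅P, (⊤ : Subgroup X)⁆ := ⟨_, rfl⟩
  haveI : K.Normal := by rw [hK]; exact hKn
  rw [← hK]
  have hsurj : Function.Surjective (QuotientGroup.mk' K) := QuotientGroup.mk'_surjective K
  have hker : ∀ x : X, (QuotientGroup.mk' K) x = 1 → x ∈ K := by
    intro x hx
    rw [← QuotientGroup.ker_mk' K]; exact hx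
  have h1 : (QuotientGroup.mk' K) z ∈ Subgroup.center (X ⧸ K) := by
    rw [Subgroup.mem_center_iff]
    intro y
    obtain ⟨y', rfl⟩ := hsurj y
    have h2 : ⁅z, y'⁆ ∈ K := by
      rw [hK]; exact Subgroup.commutator_mem_commutator hzP (Subgroup.mem_top _)
    have h3 : (QuotientGroup.mk' K) ⁅z, y'⁆ = 1 := by
      have : ⁅z, y'⁆ ∈ (QuotientGroup.mk' K).ker := by rw [QuotientGroup.ker_mk']; exact h2
      exact this
    rw [commutatorElement_def] at h3
    simp only [map_mul, map_inv] at h3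
    have h4 : (QuotientGroup.mk' K) z * (QuotientGroup.mk' K) y' =
        ((QuotientGroup.mk' K) z * (QuotientGroup.mk' K) y' * ((QuotientGroup.mk' K) z)⁻¹ *
          ((QuotientGroup.mk' K) y')⁻¹) * ((QuotientGroup.mk' K) y' * (QuotientGroup.mk' K) z) := by
      group
    rw [h4, h3, one_mul]
  have h2 : (QuotientGroup.mk' K) z ∈ ((S.mapSurjective hsurj : Sylow p (X ⧸ K)) : Subgroup (X ⧸ K)) := by
    rw [Sylow.coe_mapSurjective]
    exact ⟨z, hPS hzP, rfl⟩
  have h3 : (QuotientGroup.mk' K) z ∈ ⁅(⊤ : Subgroup (X ⧸ K)), (⊤ : Subgroup (X ⧸ K))⁆ := by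
    have h4 : (⁅(⊤ : Subgroup X), (⊤ : Subgroup X)⁆).map (QuotientGroup.mk' K) = ⁅(⊤ : Subgroup (X ⧸ K)), (⊤ : Subgroup (X ⧸ K))⁆ := by
      rw [Subgroup.map_commutator, Subgroup.map_top_of_surjective _ hsurj]
    rw [← h4]
    exact ⟨z, hz', rfl⟩
  have h4 := center_inf_commutator_le (S.mapSurjective hsurj) _ h1 h2 h3
  rw [Sylow.coe_mapSurjective, ← Subgroup.map_commutator] at h4
  obtain ⟨s', hs', hs'z⟩ := h4
  have h5 : s'⁻¹ * z ∈ K := by
    apply hker
    rw [map_mul, map_inv, hs'z]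
    group
  have h6 : z = s' * (s'⁻¹ * z) := by group
  rw [h6]
  exact Subgroup.mul_mem _ (Subgroup.mem_sup_left hs') (Subgroup.mem_sup_right h5)

end lemmas

section liftcoprime

variable {X : Type u} [Group X] [Finite X] {p : ℕ} [hp : Fact p.Prime]
  {𝓦 : Set (∀ (Q : Type u) [Group Q], Subgroup Q)}

/-- The normalizer of the image of a `p`-subgroup `V ≤ S` normalized by `S`, modulo a normal
`p'`-subgroup, is the image of the normalizer. -/
theorem normalizer_map_mk_coprime_le (S : Sylow p X) (D : Subgroup X) [D.Normal]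
    (hD : (Nat.card D).Coprime p) (V : Subgroup X) (hVS : V ≤ (S : Subgroup X))
    (hSV : (S : Subgroup X) ≤ Subgroup.normalizer (V : Set X)) :
    Subgroup.normalizer ((V.map (QuotientGroup.mk' D) : Subgroup (X ⧸ D)) : Set (X ⧸ D)) ≤
      (Subgroup.normalizer (V : Set X)).map (QuotientGroup.mk' D) := by
  intro y hy
  obtain ⟨e, rfl⟩ := QuotientGroup.mk'_surjective D y
  have he : e ∈ Subgroup.normalizer (((V ⊔ D : Subgroup X)) : Set X) := by
    have h1 : e ∈ (Subgroup.normalizer (((V.map (QuotientGroup.mk' D) : Subgroup (X ⧸ D))) :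
        Set (X ⧸ D))).comap (QuotientGroup.mk' D) := hy
    have h2 := Subgroup.le_normalizer_comap (QuotientGroup.mk' D) h1
    rw [Subgroup.comap_map_eq, QuotientGroup.ker_mk'] at h2
    exact h2
  obtain ⟨d, hdN, hdD, -⟩ := correct_step S D hD V hVS hSV e he ∅ (Set.empty_subset _)
    (by rintro _ ⟨b, hb, -⟩; exact absurd hb (Set.notMem_empty b))
  refine ⟨d, hdN, ?_⟩
  have h1 : d = (d * e⁻¹) * e := by group
  rw [h1, map_mul]
  have h2 : (QuotientGroup.mk' D) (d * e⁻¹) = 1 := by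
    have : d * e⁻¹ ∈ (QuotientGroup.mk' D).ker := by rw [QuotientGroup.ker_mk']; exact hdD
    exact this
  rw [h2, one_mul]

/-- Case B1: lifting control of transfer through a normal `p'`-subgroup. -/
theorem ctlT_lift_coprime (h𝓦 : ∀ W ∈ 𝓦, Cfsg.IsCharPFunctor.{u} p W) (D : Subgroup X) [D.Normal]
    (hD : (Nat.card D).Coprime p) (hq : CtlT p 𝓦 (X ⧸ D)) : CtlT p 𝓦 X := by
  obtain ⟨S⟩ : Nonempty (Sylow p X) := inferInstance
  apply ctlT_of_at S
  have hsurj : Function.Surjective (QuotientGroup.mk' D) := QuotientGroup.mk'_surjective D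
  have hinjS : ∀ x ∈ (S : Subgroup X), (QuotientGroup.mk' D) x = 1 → x = 1 := by
    intro x hx hx1
    have hxD : x ∈ D := by
      rw [← QuotientGroup.ker_mk' D]; exact hx1
    exact eq_one_of_mem_of_coprime (S : Subgroup X) D S.isPGroup' hD x hx hxD
  have h1 := ctlT_at h𝓦 (S.mapSurjective hsurj) hq
  rw [Sylow.coe_mapSurjective] at h1
  have h2 : RT (fam 𝓦 (X ⧸ D)) ⊤ ((S : Subgroup X).map (QuotientGroup.mk' D)) ≤
      (RT (fam 𝓦 X) ⊤ (S : Subgroup X)).map (QuotientGroup.mk' D) := by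
    rw [RT_fam, RT_fam, Subgroup.map_iSup]
    refine iSup_mono fun W => ?_
    rw [Subgroup.map_iSup]
    refine iSup_mono' fun hW => ⟨hW, ?_⟩
    haveI : Finite (S : Subgroup X) := inferInstance
    rw [induced_map_of_injOn W (h𝓦 W hW) (QuotientGroup.mk' D) (S : Subgroup X) S.isPGroup' hinjS]
    have hconjF := induced_isConjugacyFunctor (X := X) W (h𝓦 W hW)
    have hVS : Cfsg.inducedFunctor W (S : Subgroup X) ≤ (S : Subgroup X) :=
      (hconjF _ S.isPGroup').1
    have hSV := sylow_le_normalizer_functor _ hconjF (S : Subgroup X) S.isPGroup'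
    have h3 := normalizer_map_mk_coprime_le S D hD _ hVS hSV
    rw [top_inf_eq, top_inf_eq]
    intro y hy
    obtain ⟨⟨s, hs, rfl⟩, hyc⟩ := Subgroup.mem_inf.1 hy
    have h4 := Subgroup.commutator_mono h3 h3 hyc
    rw [← Subgroup.map_commutator] at h4
    obtain ⟨m, hm, hms⟩ := h4
    have h5 : m⁻¹ * s ∈ D := by
      rw [← QuotientGroup.ker_mk' D, MonoidHom.mem_ker, map_mul, map_inv, hms]
      group
    have h6 := mem_commutator_of_mul_coprime _ (S : Subgroup X) D S.isPGroup' hSV hD s m hs hm h5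
    exact ⟨s, Subgroup.mem_inf.2 ⟨hs, h6⟩, rfl⟩
  intro x hx
  obtain ⟨hxS, hxc⟩ := Subgroup.mem_inf.1 hx
  have h3 : (QuotientGroup.mk' D) x ∈ ((S : Subgroup X).map (QuotientGroup.mk' D)) ⊓
      ⁅(⊤ : Subgroup (X ⧸ D)), (⊤ : Subgroup (X ⧸ D))⁆ := by
    refine Subgroup.mem_inf.2 ⟨⟨x, hxS, rfl⟩, ?_⟩
    have h4 : (⁅(⊤ : Subgroup X), (⊤ : Subgroup X)⁆).map (QuotientGroup.mk' D) = ⁅(⊤ : Subgroup (X ⧸ D)), (⊤ : Subgroup (X ⧸ D))⁆ := by
      rw [Subgroup.map_commutator, Subgroup.map_top_of_surjective _ hsurj]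
    rw [← h4]
    exact ⟨x, hxc, rfl⟩
  obtain ⟨r, hr, hrx⟩ := h2 (h1 h3)
  have hrS : r ∈ (S : Subgroup X) := (Subgroup.mem_inf.1 (RT_le _ _ _ hr)).1
  have h4 : r⁻¹ * x = 1 := by
    apply hinjS _ (Subgroup.mul_mem _ (Subgroup.inv_mem _ hrS) hxS)
    rw [map_mul, map_inv, hrx]
    group
  have h5 : x = r := by
    have : x = r * (r⁻¹ * x) := by group
    rw [this, h4, mul_one]
  rw [h5]; exact hr

end liftcoprime

end Cfsg.Agent.helper10
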