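import Mathlib
import Cfsg.Agent.Lib_helper10_Tr4
import Cfsg.Agent.S1960

set_option autoImplicit false

/-!
# Control of transfer: the inductive step
-/

namespace Cfsg.Agent.helper10

universe u

open scoped commutatorElement

section steps

variable {X : Type u} [Group X] [Finite X] {p : ℕ} [hp : Fact p.Prime]
  {𝓦 : Set (∀ (Q : Type u) [Group Q], Subgroup Q)}

/-- (b): `S ∩ X' ≤ R (P ∩ X')` for `P = O_p(X) ≠ 1`. -/
theorem inf_commutator_le_sup_pCore (h𝓦 : ∀ W ∈ 𝓦, Cfsg.IsCharPFunctor.{u} p W) (S : Sylow p X)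
    (P : Subgroup X) [P.Normal] (hPdef : P = Cfsg.pCore p X)
    (hsub : ∀ H : Subgroup X, H ≠ ⊤ → CtlT p 𝓦 H) (hq : CtlT p 𝓦 (X ⧸ P)) :
    (S : Subgroup X) ⊓ ⁅(⊤ : Subgroup X), (⊤ : Subgroup X)⁆ ≤
      RT (fam 𝓦 X) ⊤ (S : Subgroup X) ⊔ (P ⊓ ⁅(⊤ : Subgroup X), (⊤ : Subgroup X)⁆) := by
  have hPS : P ≤ (S : Subgroup X) := by rw [hPdef]; exact Cfsg.Agent.helper1.pCore_le_sylow S
  by_cases hSP : (S : Subgroup X) ≤ P
  · exact le_trans (inf_le_inf_right _ hSP) le_sup_right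
  have hsurj : Function.Surjective (QuotientGroup.mk' P) := QuotientGroup.mk'_surjective P
  have h1 := ctlT_at h𝓦 (S.mapSurjective hsurj) hq
  rw [Sylow.coe_mapSurjective] at h1
  have h2 : RT (fam 𝓦 (X ⧸ P)) ⊤ ((S : Subgroup X).map (QuotientGroup.mk' P)) ≤
      (RT (fam 𝓦 X) ⊤ (S : Subgroup X)).map (QuotientGroup.mk' P) := by
    rw [RT_fam]
    refine iSup₂_le fun W hW => ?_
    obtain ⟨hne, hSY, hdY⟩ := preimage_functor_props h𝓦 S P hPdef hPS hSP W hW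
    obtain ⟨Y, hY⟩ : ∃ Y : Subgroup X, Y = Subgroup.normalizer ((((Cfsg.inducedFunctor W
        ((S : Subgroup X).map (QuotientGroup.mk' P))).comap (QuotientGroup.mk' P) : Subgroup X)) : Set X) :=
      ⟨_, rfl⟩
    rw [← hY] at hne hSY hdY
    have h3 : Subgroup.normalizer ((Cfsg.inducedFunctor W
          ((S : Subgroup X).map (QuotientGroup.mk' P)) : Subgroup (X ⧸ P)) : Set (X ⧸ P)) ≤
        Y.map (QuotientGroup.mk' P) := by
      intro y hy
      obtain ⟨d, rfl⟩ := hsurj y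
      exact ⟨d, hdY d hy, rfl⟩
    have h4 := inf_commutator_le_RT_of_ctlT h𝓦 S Y hSY (hsub Y hne)
    rw [top_inf_eq]
    intro y hy
    obtain ⟨⟨s, hs, rfl⟩, hyc⟩ := Subgroup.mem_inf.1 hy
    have h5 := Subgroup.commutator_mono h3 h3 hyc
    rw [← Subgroup.map_commutator] at h5
    obtain ⟨m, hm, hms⟩ := h5
    have h6 : s⁻¹ * m ∈ P := by
      rw [← QuotientGroup.ker_mk' P, MonoidHom.mem_ker, map_mul, map_inv, hms]
      group
    have h7 : m ∈ (S : Subgroup X) := by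
      have : m = s * (s⁻¹ * m) := by group
      rw [this]
      exact Subgroup.mul_mem _ hs (hPS h6)
    exact ⟨m, h4 (Subgroup.mem_inf.2 ⟨h7, hm⟩), hms⟩
  intro x hx
  obtain ⟨hxS, hxc⟩ := Subgroup.mem_inf.1 hx
  have h3 : (QuotientGroup.mk' P) x ∈ ((S : Subgroup X).map (QuotientGroup.mk' P)) ⊓
      ⁅(⊤ : Subgroup (X ⧸ P)), (⊤ : Subgroup (X ⧸ P))⁆ := by
    refine Subgroup.mem_inf.2 ⟨⟨x, hxS, rfl⟩, ?_⟩
    have h4 : (⁅(⊤ : Subgroup X), (⊤ : Subgroup X)⁆).map (QuotientGroup.mk' P) =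
        ⁅(⊤ : Subgroup (X ⧸ P)), (⊤ : Subgroup (X ⧸ P))⁆ := by
      rw [Subgroup.map_commutator, Subgroup.map_top_of_surjective _ hsurj]
    rw [← h4]
    exact ⟨x, hxc, rfl⟩
  obtain ⟨r, hr, hrx⟩ := h2 (h1 h3)
  have hrc : r ∈ ⁅(⊤ : Subgroup X), (⊤ : Subgroup X)⁆ := (Subgroup.mem_inf.1 (RT_le _ _ _ hr)).2
  have h4 : r⁻¹ * x ∈ P := by
    rw [← QuotientGroup.ker_mk' P, MonoidHom.mem_ker, map_mul, map_inv, hrx]
    group
  have h5 : x = r * (r⁻¹ * x) := by group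
  rw [h5]
  exact Subgroup.mul_mem _ (Subgroup.mem_sup_left hr) (Subgroup.mem_sup_right
    (Subgroup.mem_inf.2 ⟨h4, Subgroup.mul_mem _ (Subgroup.inv_mem _ hrc) hxc⟩))

/-- (a): in the non-constrained case with `O_{p'}(X) = 1`, `[P, X] ≤ R` and `S' ≤ R`. -/
theorem commutator_pCore_le_RT (h𝓦 : ∀ W ∈ 𝓦, Cfsg.IsCharPFunctor.{u} p W) (S : Sylow p X)
    (P : Subgroup X) [P.Normal] (hPdef : P = Cfsg.pCore p X)
    (hsub : ∀ H : Subgroup X, H ≠ ⊤ → CtlT p 𝓦 H)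
    (hD : Cfsg.pPrimeCore p X = ⊥) (hnc : ¬ Constrained p X) :
    ⁅P, (⊤ : Subgroup X)⁆ ≤ RT (fam 𝓦 X) ⊤ (S : Subgroup X) ∧
      ⁅(S : Subgroup X), (S : Subgroup X)⁆ ≤ RT (fam 𝓦 X) ⊤ (S : Subgroup X) := by
  have hPS : P ≤ (S : Subgroup X) := by rw [hPdef]; exact Cfsg.Agent.helper1.pCore_le_sylow S
  have hα := not_le_pCore_of_not_constrained S hD hnc
  rw [← hPdef] at hα
  obtain ⟨N₁, hN₁⟩ : ∃ N₁ : Subgroup X, N₁ = Subgroup.normalizer
      ((((S : Subgroup X) ⊓ (P ⊔ Subgroup.centralizer (P : Set X)) : Subgroup X)) : Set X) := ⟨_, rfl⟩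
  have hN₁ne : N₁ ≠ ⊤ := by
    intro htop
    apply hα
    rw [hPdef]
    rw [hN₁] at htop
    exact le_pCore_of_normalizer_eq_top _ (S.isPGroup'.to_le inf_le_left) (by rw [← hPdef]; exact htop)
  have hSN₁ : (S : Subgroup X) ≤ N₁ := by
    rw [hN₁]; exact sylow_le_normalizer_inf _ _
  have h1 := inf_commutator_le_RT_of_ctlT h𝓦 S N₁ hSN₁ (hsub N₁ hN₁ne)
  refine ⟨?_, ?_⟩
  · rw [Subgroup.commutator_le]
    intro x hx h _
    obtain ⟨m, hm, c, hc, rfl⟩ := exists_mul_normalizer_centralizer S P hPS h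
    rw [← hN₁] at hm
    have hcx : c * x⁻¹ = x⁻¹ * c := by
      have := (Subgroup.mem_centralizer_iff.1 hc) x⁻¹ (P.inv_mem hx)
      exact this.symm
    have h2 : ⁅x, m * c⁆ = ⁅x, m⁆ := by
      rw [commutatorElement_def, commutatorElement_def]
      calc x * (m * c) * x⁻¹ * (m * c)⁻¹ = x * m * (c * x⁻¹) * c⁻¹ * m⁻¹ := by group
        _ = x * m * (x⁻¹ * c) * c⁻¹ * m⁻¹ := by rw [hcx]
        _ = x * m * x⁻¹ * m⁻¹ := by group
    rw [h2]
    apply h1
    refine Subgroup.mem_inf.2 ⟨?_, Subgroup.commutator_mem_commutator (hSN₁ (hPS hx)) hm⟩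
    apply hPS
    rw [commutatorElement_def]
    have h3 : x * m * x⁻¹ * m⁻¹ = x * (m * x⁻¹ * m⁻¹) := by group
    rw [h3]
    exact P.mul_mem hx (Subgroup.Normal.conj_mem inferInstance _ (P.inv_mem hx) m)
  · refine le_trans (le_inf (commutator_self_le _) (Subgroup.commutator_mono hSN₁ hSN₁)) h1

/-- The inductive step in the non-constrained case. -/
theorem ctlT_step_nonconstrained (h𝓦 : ∀ W ∈ 𝓦, Cfsg.IsCharPFunctor.{u} p W)
    (hsub : ∀ H : Subgroup X, H ≠ ⊤ → CtlT p 𝓦 H)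
    (hquot : ∀ (N : Subgroup X) [N.Normal], N ≠ ⊥ → CtlT p 𝓦 (X ⧸ N))
    (hnc : ¬ Constrained p X) : CtlT p 𝓦 X := by
  obtain ⟨S⟩ : Nonempty (Sylow p X) := inferInstance
  by_cases hD : Cfsg.pPrimeCore p X = ⊥
  · by_cases hP : Cfsg.pCore p X = ⊥
    · -- case B2
      apply Cfsg.Agent.S1960.result S (fam 𝓦 X) (fam_conj h𝓦)
      intro T hTS hT1 _
      apply fct_subgroup h𝓦
      apply hsub
      intro htop
      apply hT1
      have := le_pCore_of_normalizer_eq_top T (S.isPGroup'.to_le hTS) htop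
      rw [hP] at this
      exact le_bot_iff.mp this
    · -- case B3
      obtain ⟨P, hPdef⟩ : ∃ P : Subgroup X, P = Cfsg.pCore p X := ⟨_, rfl⟩
      rw [← hPdef] at hP
      haveI hPn : P.Normal := by rw [hPdef]; exact Cfsg.Agent.helper1.pCore_normal p
      have hPS : P ≤ (S : Subgroup X) := by rw [hPdef]; exact Cfsg.Agent.helper1.pCore_le_sylow S
      apply ctlT_of_at S
      have hb := inf_commutator_le_sup_pCore h𝓦 S P hPdef hsub (hquot P hP)
      have hc := normal_inf_commutator_le S P hPS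
      obtain ⟨ha1, ha2⟩ := commutator_pCore_le_RT h𝓦 S P hPdef hsub hD hnc
      exact hb.trans (sup_le le_rfl (hc.trans (sup_le ha2 ha1)))
  · -- case B1
    haveI : (Cfsg.pPrimeCore p X).Normal := Cfsg.Agent.helper1.pPrimeCore_normal p
    exact ctlT_lift_coprime h𝓦 _ (Cfsg.Agent.helper1.pPrimeCore_coprime p)
      (hquot (Cfsg.pPrimeCore p X) hD)

/-- Generic induction: if control can be proved in the constrained case (from the section hypothesis
and control in proper subgroups and quotients), it holds in general. -/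
theorem ctlT_section_induction (h𝓦 : ∀ W ∈ 𝓦, Cfsg.IsCharPFunctor.{u} p W)
    (𝒞 𝒟 : ∀ (Y : Type u) [Group Y], Prop)
    (hcon : ∀ (Y : Type u) [Group Y] [Finite Y], SecHyp 𝒞 𝒟 Y → Constrained p Y →
      (∀ H : Subgroup Y, H ≠ ⊤ → CtlT p 𝓦 H) →
      (∀ (N : Subgroup Y) [N.Normal], N ≠ ⊥ → CtlT p 𝓦 (Y ⧸ N)) → CtlT p 𝓦 Y) :
    ∀ (n : ℕ) (Y : Type u) [Group Y] [Finite Y], Nat.card Y = n → SecHyp 𝒞 𝒟 Y → CtlT p 𝓦 Y := by
  intro n
  induction n using Nat.strong_induction_on with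
  | _ n IH =>
    intro Y _ _ hn hY
    have hsub : ∀ H : Subgroup Y, H ≠ ⊤ → CtlT p 𝓦 H := by
      intro H hH
      have hlt : Nat.card H < n := by
        rw [← hn]
        have h1 : H < ⊤ := lt_top_iff_ne_top.2 hH
        have h2 := card_lt_card_of_lt h1
        rwa [Subgroup.card_top] at h2
      exact IH _ hlt H rfl (secHyp_subgroup H hY)
    have hquot : ∀ (N : Subgroup Y) [N.Normal], N ≠ ⊥ → CtlT p 𝓦 (Y ⧸ N) := by
      intro N _ hN
      have hlt : Nat.card (Y ⧸ N) < n := by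
        rw [← hn, ← Subgroup.index_eq_card, ← Subgroup.card_mul_index N]
        have h1 : 1 < Nat.card N := by
          rw [Subgroup.one_lt_card_iff_ne_bot]; exact hN
        have h2 : 0 < N.index := Nat.pos_of_ne_zero Subgroup.index_ne_zero_of_finite
        nlinarith
      exact IH _ hlt (Y ⧸ N) rfl (secHyp_quotient N hY)
    by_cases hc : Constrained p Y
    · exact hcon Y hY hc hsub hquot
    · exact ctlT_step_nonconstrained h𝓦 hsub hquot hc

end steps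

end Cfsg.Agent.helper10
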