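import Mathlib
import Cfsg.Agent.Lib_helper1_PGroup

set_option autoImplicit false

/-!
# Vanishing of orbit products for a `p`-group action
-/

namespace Cfsg.Agent.helper10

universe u

section indexp

variable {T : Type*} [Group T] {p : ℕ} [hp : Fact p.Prime]

/-- Coset representatives of a normal subgroup of prime index. -/
theorem exists_pow_mul_of_index_prime (M' : Subgroup T) [M'.Normal] (hidx : M'.index = p) (v : T)
    (hv : v ∉ M') :
    (∀ t : T, ∃ k < p, ∃ m ∈ M', t = v ^ k * m) ∧
      (∀ k l, k < p → l < p → (v ^ l)⁻¹ * v ^ k ∈ M' → k = l) := by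
  have hcard : Nat.card (T ⧸ M') = p := by rw [← Subgroup.index_eq_card, hidx]
  haveI : Finite (T ⧸ M') := Nat.finite_of_card_ne_zero (by rw [hcard]; exact hp.out.ne_zero)
  have hv1 : (QuotientGroup.mk' M' v) ≠ 1 := by
    intro h
    apply hv
    rw [← QuotientGroup.ker_mk' M']; exact h
  have htop := zpowers_eq_top_of_prime_card hcard hv1
  have hord : orderOf (QuotientGroup.mk' M' v) = p := by
    apply orderOf_eq_prime _ hv1
    rw [← hcard]; exact pow_card_eq_one'
  refine ⟨?_, ?_⟩
  · intro t
    have h1 : (QuotientGroup.mk' M' t) ∈ Subgroup.zpowers (QuotientGroup.mk' M' v) := by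
      rw [htop]; exact Subgroup.mem_top _
    rw [← mem_powers_iff_mem_zpowers] at h1
    obtain ⟨n, hn⟩ := h1
    have hn' : (QuotientGroup.mk' M' v) ^ n = QuotientGroup.mk' M' t := hn
    refine ⟨n % p, Nat.mod_lt _ hp.out.pos, (v ^ (n % p))⁻¹ * t, ?_, by group⟩
    rw [← QuotientGroup.ker_mk' M', MonoidHom.mem_ker, map_mul, map_inv, map_pow, ← hn']
    have h2 := pow_mod_orderOf (QuotientGroup.mk' M' v) n
    rw [hord] at h2
    rw [h2]
    group
  · intro k l hk hl hkl
    have h1 : (QuotientGroup.mk' M' ((v ^ l)⁻¹ * v ^ k)) = 1 := by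
      have : (v ^ l)⁻¹ * v ^ k ∈ (QuotientGroup.mk' M').ker := by
        rw [QuotientGroup.ker_mk']; exact hkl
      exact this
    rw [map_mul, map_inv, map_pow, map_pow] at h1
    have h2 : (QuotientGroup.mk' M' v) ^ k = (QuotientGroup.mk' M' v) ^ l := by
      have := congrArg (fun w => (QuotientGroup.mk' M' v) ^ l * w) h1
      simpa using this
    exact pow_injOn_Iio_orderOf (by rw [Set.mem_Iio, hord]; exact hk)
      (by rw [Set.mem_Iio, hord]; exact hl) h2

end indexp

section orbit

variable {Ω : Type*} {A : Type*} {𝒵 : Type*} [DecidableEq Ω] [CommGroup A] {p : ℕ}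
  [hp : Fact p.Prime]

open Classical in
/-- Vanishing of products over invariant sets without fixed points of the distinguished elements. -/
theorem orbit_prod_eq_one :
    ∀ (n : ℕ) (T : Type u) [Group T] [Finite T] [MulAction T Ω], IsPGroup p T → Nat.card T ≤ n →
      ∀ (act : T → 𝒵 → 𝒵) (G : 𝒵 → Ω → A) (𝒱 : Set T),
      (∀ (t : T) (z : 𝒵) (c : Ω), G z (t • c) = G (act t⁻¹ z) c) →
      (∀ v ∈ 𝒱, ∀ t : T, t * v * t⁻¹ ∈ 𝒱) →
      (∀ v ∈ 𝒱, ∀ (z : 𝒵) (c : Ω), ∏ k ∈ Finset.range p, G (act (v ^ k)⁻¹ z) c = 1) →
      ∀ Ω' : Finset Ω, (∀ t : T, ∀ c ∈ Ω', t • c ∈ Ω') → (∀ c ∈ Ω', ∃ v ∈ 𝒱, v • c ≠ c) →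
      ∀ z : 𝒵, ∏ c ∈ Ω', G z c = 1 := by
  intro n
  induction n with
  | zero =>
    intro T _ _ _ _ hcard
    exfalso
    have := Nat.card_pos (α := T)
    omega
  | succ n IHn =>
    intro T _ _ _ hTp hcard act G 𝒱 hG h𝒱 hnorm
    -- inner induction on the size of the invariant set
    have inner : ∀ (m : ℕ) (Ω' : Finset Ω), Ω'.card = m → (∀ t : T, ∀ c ∈ Ω', t • c ∈ Ω') →
        (∀ c ∈ Ω', ∃ v ∈ 𝒱, v • c ≠ c) → ∀ z : 𝒵, ∏ c ∈ Ω', G z c = 1 := by
      intro m
      induction m using Nat.strong_induction_on with
      | _ m IHm =>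
        intro Ω' hm hinv hmove z
        by_cases hempty : Ω' = ∅
        · rw [hempty]; simp
        obtain ⟨c, hc⟩ := Finset.nonempty_iff_ne_empty.2 hempty
        -- the orbit of `c`
        have hsplit := Finset.prod_filter_mul_prod_filter_not Ω' (fun c' => ∃ t : T, t • c = c') (G z)
        rw [← hsplit]
        have hrest : ∏ c' ∈ Ω'.filter (fun c' => ¬ ∃ t : T, t • c = c'), G z c' = 1 := by
          refine IHm _ ?_ _ rfl ?_ ?_ z
          · rw [← hm]
            apply Finset.card_lt_card
            rw [Finset.filter_ssubset]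
            exact ⟨c, hc, fun h => h ⟨1, one_smul _ _⟩⟩
          · intro t c' hc'
            rw [Finset.mem_filter] at hc' ⊢
            refine ⟨hinv t c' hc'.1, ?_⟩
            rintro ⟨t', ht'⟩
            apply hc'.2
            refine ⟨t⁻¹ * t', ?_⟩
            rw [mul_smul, ht', inv_smul_smul]
          · intro c' hc'
            exact hmove c' (Finset.mem_filter.1 hc').1
        rw [hrest, mul_one]
        -- now the orbit
        obtain ⟨O, hO⟩ : ∃ O : Finset Ω, O = Ω'.filter (fun c' => ∃ t : T, t • c = c') := ⟨_, rfl⟩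
        rw [← hO]
        have hOmem : ∀ c', c' ∈ O ↔ ∃ t : T, t • c = c' := by
          intro c'
          rw [hO, Finset.mem_filter]
          constructor
          · exact fun h => h.2
          · rintro ⟨t, rfl⟩
            exact ⟨hinv t c hc, t, rfl⟩
        obtain ⟨v, hv𝒱, hvc⟩ := hmove c hc
        -- a maximal subgroup containing the stabilizer
        have hstab : MulAction.stabilizer T c ≠ ⊤ := by
          intro htop
          apply hvc
          have : v ∈ MulAction.stabilizer T c := by rw [htop]; exact Subgroup.mem_top v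
          exact this
        rcases eq_top_or_exists_le_coatom (MulAction.stabilizer T c) with h | ⟨M', hM', hstabM⟩
        · exact absurd h hstab
        haveI hM'n : M'.Normal := Cfsg.Agent.helper1.coatom_normal_of_isPGroup hTp hM'
        have hidx : M'.index = p := Cfsg.Agent.helper1.coatom_index_of_isPGroup hTp hM'
        by_cases hvM : v ∈ M'
        · -- recursion to `M'`
          have hcardM : Nat.card M' ≤ n := by
            have h1 : Nat.card M' < Nat.card T := by
              have h2 : M' < ⊤ := lt_top_iff_ne_top.2 hM'.1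
              have h4 : ((M' : Subgroup T) : Set T) ⊂ ((⊤ : Subgroup T) : Set T) :=
                SetLike.coe_ssubset_coe.mpr h2
              have h5 := Set.ncard_lt_ncard h4 (Set.toFinite _)
              rw [← Nat.card_coe_set_eq, ← Nat.card_coe_set_eq] at h5
              have h6 : Nat.card ((⊤ : Subgroup T) : Set T) = Nat.card T := Subgroup.card_top
              rw [h6] at h5
              exact h5
            omega
          refine IHn M' (hTp.to_subgroup M') hcardM (fun m => act (m : T)) G
            {m : M' | (m : T) ∈ 𝒱} ?_ ?_ ?_ O ?_ ?_ z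
          · intro m z' c'
            have := hG (m : T) z' c'
            rw [Subgroup.smul_def]
            rw [this]
            rfl
          · intro m hm t
            exact h𝒱 (m : T) hm (t : T)
          · intro m hm z' c'
            have := hnorm (m : T) hm z' c'
            simpa using this
          · intro m c' hc'
            rw [hOmem] at hc' ⊢
            obtain ⟨t, rfl⟩ := hc'
            exact ⟨(m : T) * t, by rw [mul_smul]; rfl⟩
          · intro c' hc'
            rw [hOmem] at hc'
            obtain ⟨t, rfl⟩ := hc'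
            refine ⟨⟨t * v * t⁻¹, hM'n.conj_mem v hvM t⟩, h𝒱 v hv𝒱 t, ?_⟩
            rw [Subgroup.smul_def]
            show (t * v * t⁻¹) • t • c ≠ t • c
            rw [← mul_smul]
            intro h
            apply hvc
            have h2 : t * v * t⁻¹ * t = t * v := by group
            rw [h2, mul_smul] at h
            exact smul_left_cancel t h
        · -- decomposition of the orbit
          obtain ⟨hrep, hinj⟩ := exists_pow_mul_of_index_prime M' hidx v hvM
          obtain ⟨O₁, hO₁⟩ : ∃ O₁ : Finset Ω, O₁ = Ω'.filter (fun c' => ∃ m ∈ M', m • c = c') :=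
            ⟨_, rfl⟩
          have hO₁mem : ∀ c', c' ∈ O₁ ↔ ∃ m ∈ M', m • c = c' := by
            intro c'
            rw [hO₁, Finset.mem_filter]
            constructor
            · exact fun h => h.2
            · rintro ⟨m, hm, rfl⟩
              exact ⟨hinv m c hc, m, hm, rfl⟩
          have hdecomp : O = (Finset.range p).biUnion
              (fun k => O₁.image (fun c'' => v ^ k • c'')) := by
            ext c'
            rw [hOmem, Finset.mem_biUnion]
            constructor
            · rintro ⟨t, rfl⟩
              obtain ⟨k, hk, m, hm, rfl⟩ := hrep t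
              refine ⟨k, Finset.mem_range.2 hk, ?_⟩
              rw [Finset.mem_image]
              exact ⟨m • c, (hO₁mem _).2 ⟨m, hm, rfl⟩, by rw [mul_smul]⟩
            · rintro ⟨k, -, hk⟩
              rw [Finset.mem_image] at hk
              obtain ⟨c'', hc'', rfl⟩ := hk
              obtain ⟨m, -, rfl⟩ := (hO₁mem _).1 hc''
              exact ⟨v ^ k * m, by rw [mul_smul]⟩
          have hdisj : ((Finset.range p : Finset ℕ) : Set ℕ).PairwiseDisjoint
              (fun k => O₁.image (fun c'' => v ^ k • c'')) := by
            intro k hk l hl hkl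
            rw [Function.onFun, Finset.disjoint_left]
            intro c' hc'k hc'l
            apply hkl
            rw [Finset.mem_image] at hc'k hc'l
            obtain ⟨c₁, hc₁, rfl⟩ := hc'k
            obtain ⟨c₂, hc₂, hc₂e⟩ := hc'l
            obtain ⟨m₁, hm₁, rfl⟩ := (hO₁mem _).1 hc₁
            obtain ⟨m₂, hm₂, rfl⟩ := (hO₁mem _).1 hc₂
            have h1 : (m₂⁻¹ * ((v ^ l)⁻¹ * v ^ k) * m₁) ∈ MulAction.stabilizer T c := by
              rw [MulAction.mem_stabilizer_iff]
              have h2 : (m₂⁻¹ * ((v ^ l)⁻¹ * v ^ k) * m₁) • c =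
                  m₂⁻¹ • (v ^ l)⁻¹ • (v ^ k • m₁ • c) := by
                simp only [mul_smul]
              rw [h2, ← hc₂e, inv_smul_smul, inv_smul_smul]
            have h3 := hstabM h1
            have h4 : (v ^ l)⁻¹ * v ^ k = m₂ * (m₂⁻¹ * ((v ^ l)⁻¹ * v ^ k) * m₁) * m₁⁻¹ := by group
            apply hinj k l (Finset.mem_range.1 (Finset.mem_coe.1 hk))
              (Finset.mem_range.1 (Finset.mem_coe.1 hl))
            rw [h4]
            exact M'.mul_mem (M'.mul_mem hm₂ h3) (M'.inv_mem hm₁)
          rw [hdecomp, Finset.prod_biUnion hdisj]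
          have h1 : ∀ k ∈ Finset.range p, ∏ c' ∈ O₁.image (fun c'' => v ^ k • c''), G z c' =
              ∏ c'' ∈ O₁, G (act (v ^ k)⁻¹ z) c'' := by
            intro k _
            rw [Finset.prod_image]
            · exact Finset.prod_congr rfl fun c'' _ => hG (v ^ k) z c''
            · intro a _ b _ hab
              exact MulAction.injective (v ^ k) hab
          rw [Finset.prod_congr rfl h1, Finset.prod_comm]
          exact Finset.prod_eq_one fun c'' _ => hnorm v hv𝒱 z c''
    intro Ω' hinv hmove z
    exact inner _ Ω' rfl hinv hmove z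

end orbit

end Cfsg.Agent.helper10
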