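import Mathlib
import Cfsg.Agent.Lib_helper10_HH3

set_option autoImplicit false

/-!
# Vanishing of norms on chief factors
-/

namespace Cfsg.Agent.helper10

universe u

section ring

open Polynomial in
/-- In a ring with `p = 0`, `1 + a + ⋯ + a^(p-1) = (a - 1)^(p-1)`. -/
theorem geom_sum_eq_sub_one_pow {R : Type*} [Ring R] (p : ℕ) [hp : Fact p.Prime]
    (hpR : (p : R) = 0) (a : R) :
    ∑ k ∈ Finset.range p, a ^ k = (a - 1) ^ (p - 1) := by
  obtain ⟨f, hf⟩ : ∃ f : ℤ[X], f = ∑ k ∈ Finset.range p, (X : ℤ[X]) ^ k - (X - 1) ^ (p - 1) :=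
    ⟨_, rfl⟩
  have h1 : f.map (Int.castRingHom (ZMod p)) = 0 := by
    rw [hf]
    simp only [Polynomial.map_sub, Polynomial.map_sum, Polynomial.map_pow, Polynomial.map_X,
      Polynomial.map_one]
    rw [sub_eq_zero]
    have hne : ((X : (ZMod p)[X]) - 1) ≠ 0 := by
      have := Polynomial.X_sub_C_ne_zero (1 : ZMod p)
      simpa using this
    apply mul_right_cancel₀ hne
    rw [geom_sum_mul, ← pow_succ, Nat.sub_add_cancel hp.out.one_le, sub_pow_char, one_pow]
  have h2 : C (p : ℤ) ∣ f := by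
    rw [Polynomial.C_dvd_iff_dvd_coeff]
    intro i
    have h3 : (f.map (Int.castRingHom (ZMod p))).coeff i = 0 := by rw [h1]; simp
    rw [Polynomial.coeff_map] at h3
    exact (ZMod.intCast_zmod_eq_zero_iff_dvd _ _).1 h3
  obtain ⟨q, hq⟩ := h2
  have h3 : Polynomial.aeval a f = 0 := by
    rw [hq, map_mul, Polynomial.aeval_C]
    have : (algebraMap ℤ R) (p : ℤ) = (p : R) := by simp
    rw [this, hpR, zero_mul]
  rw [hf] at h3
  simp only [map_sub, map_sum, map_pow, Polynomial.aeval_X, map_one] at h3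
  exact sub_eq_zero.1 h3

end ring

section chief4

open IsMulCommutative

open scoped commutatorElement

variable {Y : Type u} [Group Y] [Finite Y] {p : ℕ} [hp : Fact p.Prime]
variable (U V : Subgroup Y) [hUn : U.Normal] [hVn : V.Normal]

attribute [local instance] map_mk_normal

/-- A chief factor inside a `p`-group is commutative. -/
theorem chief_isMulCommutative (P : Subgroup Y) (hP : IsPGroup p P)
    (hUV : Cfsg.IsChiefFactor U V) (hUP : U ≤ P) :
    IsMulCommutative ↥(U.map (QuotientGroup.mk' V)) := by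
  have hcomm := chief_commutator_le P hP U V hUV hUP
  refine ⟨⟨?_⟩⟩
  rintro ⟨a, u, hu, rfl⟩ ⟨b, w, hw, rfl⟩
  apply Subtype.ext
  show (QuotientGroup.mk' V) u * (QuotientGroup.mk' V) w =
    (QuotientGroup.mk' V) w * (QuotientGroup.mk' V) u
  rw [← map_mul, ← map_mul]
  have h1 : (w * u)⁻¹ * (u * w) ∈ V := by
    apply hcomm
    have h2 : (w * u)⁻¹ * (u * w) = ⁅u⁻¹, w⁻¹⁆ := by
      rw [commutatorElement_def]; group
    rw [h2]
    exact Subgroup.commutator_mem_commutator (U.inv_mem hu) (U.inv_mem hw)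
  exact ((QuotientGroup.eq).2 h1).symm

/-- A chief factor inside a `p`-group has exponent `p`. -/
theorem chief_nsmul_eq_zero [IsMulCommutative ↥(U.map (QuotientGroup.mk' V))]
    (P : Subgroup Y) (hP : IsPGroup p P)
    (hUV : Cfsg.IsChiefFactor U V) (hUP : U ≤ P) :
    ∀ m : Additive ↥(U.map (QuotientGroup.mk' V)), p • m = 0 := by
  obtain ⟨hlt, -, -, hmin⟩ := hUV
  obtain ⟨k, hk0, hk⟩ := card_chief U V P hP hUP hlt
  have hM : p ∣ Nat.card (Additive ↥(U.map (QuotientGroup.mk' V))) := by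
    rw [hk]; exact dvd_pow_self p hk0
  let N : AddSubgroup (Additive ↥(U.map (QuotientGroup.mk' V))) :=
    { carrier := {m | p • m = 0}
      zero_mem' := smul_zero p
      add_mem' := fun {a b} ha hb => by
        show p • (a + b) = 0
        rw [smul_add, ha, hb, add_zero]
      neg_mem' := fun {a} ha => by
        show p • (-a) = 0
        rw [smul_neg, ha, neg_zero] }
  have hNmem : ∀ m, m ∈ N ↔ p • m = 0 := fun m => Iff.rfl
  have hinv : ∀ y : Y, ∀ m ∈ N,
      conjRep (U.map (QuotientGroup.mk' V)) (QuotientGroup.mk' V y) m ∈ N := by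
    intro y m hm
    rw [hNmem] at hm ⊢
    rw [← map_nsmul, hm, map_zero]
  rcases chief_irreducible U V hmin hlt.le N hinv with h | h
  · exfalso
    haveI : Finite (Additive ↥(U.map (QuotientGroup.mk' V))) := inferInstance
    obtain ⟨m, hm⟩ := exists_prime_addOrderOf_dvd_card' (G := Additive ↥(U.map (QuotientGroup.mk' V)))
      p hM
    have h1 : m ∈ N := by
      rw [hNmem, ← hm]; exact addOrderOf_nsmul_eq_zero m
    rw [h, AddSubgroup.mem_bot] at h1
    rw [h1, addOrderOf_zero] at hm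
    exact hp.out.one_lt.ne hm
  · intro m
    have : m ∈ N := by rw [h]; exact AddSubgroup.mem_top m
    exact this

/-- The nilpotency hypothesis in terms of the conjugation representation. -/
theorem conjRep_sub_one_pow_eq_zero [IsMulCommutative ↥(U.map (QuotientGroup.mk' V))] (g : Y)
    (h : Cfsg.iterCommutator U (Subgroup.zpowers g) (p - 1) ≤ V) :
    (conjRep (U.map (QuotientGroup.mk' V)) (QuotientGroup.mk' V g) - 1) ^ (p - 1) = 0 := by
  refine AddMonoidHom.ext fun m => ?_
  have h1 := iter_mem U V g (p - 1) m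
  have h2 : (Cfsg.iterCommutator U (Subgroup.zpowers g) (p - 1)).map (QuotientGroup.mk' V) ≤ ⊥ := by
    rw [← QuotientGroup.map_mk'_self V]
    exact Subgroup.map_mono h
  have h3 := h2 h1
  rw [Subgroup.mem_bot] at h3
  have h4 : Additive.toMul (((conjRep (U.map (QuotientGroup.mk' V)) (QuotientGroup.mk' V g) - 1) ^
      (p - 1)) m) = 1 := Subtype.ext h3
  exact h4

end chief4

section norm

open IsMulCommutative

open scoped commutatorElement

variable {Y : Type u} [Group Y] [Finite Y] {p : ℕ} [hp : Fact p.Prime]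

/-- Vanishing of norms: if `[U, g; p-1] ≤ V` for the chief factor `U/V` inside a `p`-group, and
`χ` is multiplicative on `U` and trivial on `V`, then the product of the `χ (g^k z g^-k)`, `k < p`,
is trivial. -/
theorem norm_vanish (P : Subgroup Y) (hP : IsPGroup p P) (U V : Subgroup Y)
    (hUV : Cfsg.IsChiefFactor U V) (hUP : U ≤ P) (g : Y)
    (h : Cfsg.iterCommutator U (Subgroup.zpowers g) (p - 1) ≤ V)
    {A : Type*} [CommGroup A] (χ : Y → A)
    (hχmul : ∀ a ∈ U, ∀ b ∈ U, χ (a * b) = χ a * χ b) (hχV : ∀ w ∈ V, χ w = 1)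
    (z : Y) (hz : z ∈ U) :
    ∏ k ∈ Finset.range p, χ (g ^ k * z * (g ^ k)⁻¹) = 1 := by
  haveI hUn : U.Normal := hUV.2.1
  haveI hVn : V.Normal := hUV.2.2.1
  have hVU : V ≤ U := hUV.1.le
  haveI hAc := chief_isMulCommutative U V P hP hUV hUP
  haveI hUbn : (U.map (QuotientGroup.mk' V)).Normal := map_mk_normal U V
  -- the descended function
  have hχ1 : χ 1 = 1 := hχV 1 V.one_mem
  have hwd : ∀ u ∈ U, ∀ u' ∈ U, (QuotientGroup.mk' V) u = (QuotientGroup.mk' V) u' → χ u = χ u' := by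
    intro u hu u' hu' he
    have h1 : u⁻¹ * u' ∈ V := by
      rw [← QuotientGroup.ker_mk' V, MonoidHom.mem_ker, map_mul, map_inv, he, inv_mul_cancel]
    have h2 : u' = u * (u⁻¹ * u') := by group
    rw [h2, hχmul u hu _ (hVU h1), hχV _ h1, mul_one]
  let F₀ : ↥(U.map (QuotientGroup.mk' V)) → A := fun ub => χ (Classical.choose ub.2)
  have hF₀ : ∀ u (hu : u ∈ U), F₀ ⟨(QuotientGroup.mk' V) u, Subgroup.mem_map_of_mem _ hu⟩ = χ u := by
    intro u hu
    have hs := Classical.choose_spec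
      (⟨(QuotientGroup.mk' V) u, Subgroup.mem_map_of_mem _ hu⟩ : ↥(U.map (QuotientGroup.mk' V))).2
    exact hwd _ hs.1 u hu hs.2
  let F : ↥(U.map (QuotientGroup.mk' V)) →* A := MonoidHom.mk' F₀ (by
    rintro ⟨a, u, hu, rfl⟩ ⟨b, w, hw, rfl⟩
    have h1 : (⟨(QuotientGroup.mk' V) u, Subgroup.mem_map_of_mem _ hu⟩ : ↥(U.map (QuotientGroup.mk' V))) *
        ⟨(QuotientGroup.mk' V) w, Subgroup.mem_map_of_mem _ hw⟩ =
        ⟨(QuotientGroup.mk' V) (u * w), Subgroup.mem_map_of_mem _ (U.mul_mem hu hw)⟩ := by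
      apply Subtype.ext
      simp
    rw [h1, hF₀ _ (U.mul_mem hu hw), hF₀ u hu, hF₀ w hw, hχmul u hu w hw])
  have hF : ∀ u (hu : u ∈ U), F ⟨(QuotientGroup.mk' V) u, Subgroup.mem_map_of_mem _ hu⟩ = χ u := hF₀
  -- the norm vanishes
  have hpR : ((p : ℕ) : AddMonoid.End (Additive ↥(U.map (QuotientGroup.mk' V)))) = 0 := by
    refine AddMonoidHom.ext fun m => ?_
    have h1 := chief_nsmul_eq_zero U V P hP hUV hUP m
    change p • m = 0
    exact h1
  have hsum := geom_sum_eq_sub_one_pow p hpR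
    (conjRep (U.map (QuotientGroup.mk' V)) (QuotientGroup.mk' V g))
  rw [conjRep_sub_one_pow_eq_zero U V g h] at hsum
  obtain ⟨m₀, hm₀⟩ : ∃ m₀ : Additive ↥(U.map (QuotientGroup.mk' V)),
      m₀ = Additive.ofMul ⟨(QuotientGroup.mk' V) z, Subgroup.mem_map_of_mem _ hz⟩ := ⟨_, rfl⟩
  have h1 := congrArg (fun f : AddMonoid.End (Additive ↥(U.map (QuotientGroup.mk' V))) => f m₀) hsum
  simp only [AddMonoid.End.zero_apply] at h1
  have h2 : (∑ k ∈ Finset.range p,
      (conjRep (U.map (QuotientGroup.mk' V)) (QuotientGroup.mk' V g)) ^ k) m₀ =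
      ∑ k ∈ Finset.range p,
        ((conjRep (U.map (QuotientGroup.mk' V)) (QuotientGroup.mk' V g)) ^ k) m₀ := by
    exact AddMonoidHom.finsetSum_apply _ _ _
  rw [h2] at h1
  have h3 : ∀ k : ℕ, ((conjRep (U.map (QuotientGroup.mk' V)) (QuotientGroup.mk' V g)) ^ k) m₀ =
      Additive.ofMul (⟨(QuotientGroup.mk' V) (g ^ k * z * (g ^ k)⁻¹),
        Subgroup.mem_map_of_mem _ (hUn.conj_mem z hz (g ^ k))⟩ : ↥(U.map (QuotientGroup.mk' V))) := by
    intro k
    rw [← map_pow, ← map_pow]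
    apply Additive.toMul.injective
    apply Subtype.ext
    rw [conjRep_apply, hm₀]
    simp
  rw [Finset.sum_congr rfl (fun k _ => h3 k)] at h1
  have h4 := congrArg Additive.toMul h1
  rw [toMul_sum] at h4
  simp only [toMul_ofMul, toMul_zero] at h4
  have h5 := congrArg F h4
  rw [map_prod, map_one] at h5
  rw [← h5]
  exact Finset.prod_congr rfl fun k _ => (hF _ (hUn.conj_mem z hz (g ^ k))).symm

end norm

end Cfsg.Agent.helper10
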