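import Mathlib
import Cfsg.Agent.Lib_helper10_Tr5
import Cfsg.Agent.Lib_helper10_Tr7
import Cfsg.Agent.Lib_helper10_Tr8

set_option autoImplicit false

/-!
# Transfer of elements of a normal subgroup; the abelianization character
-/

namespace Cfsg.Agent.helper10

universe u

open scoped commutatorElement

section transfer

variable {X : Type u} [Group X] [Finite X]

/-- The transfer of an element of a normal subgroup `P ≤ M` into `M`. -/
theorem transfer_normal_eq_prod (M : Subgroup X) {A : Type*} [CommGroup A] (ϕ : M →* A)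
    (P : Subgroup X) [hPn : P.Normal] (hPM : P ≤ M) (y : X) (hy : y ∈ P) [Fintype (X ⧸ M)] :
    MonoidHom.transfer ϕ y = ∏ q : X ⧸ M, ϕ ⟨q.out⁻¹ * y * q.out, hPM (by
      have := hPn.conj_mem y hy q.out⁻¹
      rwa [inv_inv] at this)⟩ := by
  have hinst : ‹Fintype (X ⧸ M)› = M.fintypeQuotientOfFiniteIndex := Subsingleton.elim _ _
  subst hinst
  have hf : ∀ q : X ⧸ M, ((q.out : X) : X ⧸ M) = q := fun q => q.out_eq'
  let T : M.LeftTransversal := ⟨Set.range (fun q : X ⧸ M => q.out), Subgroup.isComplement_range_left hf⟩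
  rw [MonoidHom.transfer_def ϕ T y]
  unfold Subgroup.leftTransversals.diff
  refine Finset.prod_congr rfl fun q _ => ?_
  congr 1
  apply Subtype.ext
  have h1 : ((T.2.leftQuotientEquiv q : X)) = q.out :=
    Subgroup.IsComplement.leftQuotientEquiv_apply hf q
  have h2 : y⁻¹ • q = q := by
    induction q using QuotientGroup.induction_on with
    | H x =>
      rw [MulAction.Quotient.smul_mk]
      rw [smul_eq_mul]
      apply QuotientGroup.eq.2
      have h3 : (y⁻¹ * x)⁻¹ * x = x⁻¹ * y * x := by group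
      rw [h3]
      apply hPM
      have := hPn.conj_mem y hy x⁻¹
      rwa [inv_inv] at this
  have h3 : (((y • T).2.leftQuotientEquiv q : X)) = y * q.out := by
    rw [Subgroup.smul_apply_eq_smul_apply_inv_smul, h2, h1, smul_eq_mul]
  show ((T.2.leftQuotientEquiv q : X))⁻¹ * ((y • T).2.leftQuotientEquiv q : X) = q.out⁻¹ * y * q.out
  rw [h1, h3, mul_assoc]

end transfer

section psi

variable {X : Type u} [Group X] (M : Subgroup X)

/-- The abelianization character of `M`, extended by `1` outside `M`. -/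
noncomputable def abChar (x : X) : Abelianization M :=
  open Classical in if h : x ∈ M then Abelianization.of ⟨x, h⟩ else 1

theorem abChar_of_mem {x : X} (h : x ∈ M) : abChar M x = Abelianization.of ⟨x, h⟩ := by
  unfold abChar
  rw [dif_pos h]

theorem abChar_mul {a b : X} (ha : a ∈ M) (hb : b ∈ M) : abChar M (a * b) = abChar M a * abChar M b := by
  rw [abChar_of_mem M ha, abChar_of_mem M hb, abChar_of_mem M (M.mul_mem ha hb), ← map_mul]
  rfl

theorem abChar_conj {w m : X} (hw : w ∈ M) (hm : m ∈ M) : abChar M (m⁻¹ * w * m) = abChar M w := by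
  rw [abChar_mul M (M.mul_mem (M.inv_mem hm) hw) hm, abChar_mul M (M.inv_mem hm) hw,
    abChar_of_mem M (M.inv_mem hm), abChar_of_mem M hm, abChar_of_mem M hw]
  have h1 : (⟨m⁻¹, M.inv_mem hm⟩ : M) = (⟨m, hm⟩ : M)⁻¹ := rfl
  rw [h1, map_inv]
  rw [mul_comm, ← mul_assoc, mul_inv_cancel, one_mul]

theorem abChar_eq_one_iff {w : X} (hw : w ∈ M) : abChar M w = 1 ↔ w ∈ ⁅M, M⁆ := by
  rw [abChar_of_mem M hw]
  constructor
  · intro h
    have h1 : (⟨w, hw⟩ : M) ∈ commutator M := by
      rw [← Abelianization.ker_of]; exact h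
    rw [← Subgroup.map_subtype_commutator]
    exact ⟨_, h1, rfl⟩
  · intro h
    rw [← Subgroup.map_subtype_commutator] at h
    obtain ⟨y, hy, hyw⟩ := h
    have : y = ⟨w, hw⟩ := Subtype.ext hyw
    rw [this, ← Abelianization.ker_of] at hy
    exact hy

end psi

end Cfsg.Agent.helper10
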