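import Mathlib
import Cfsg.Agent.Lib_helper10_Tr9

set_option autoImplicit false

/-!
# The structure of a minimal counterexample to control of transfer, I
-/

namespace Cfsg.Agent.helper10

universe u

open scoped commutatorElement

/-- A minimal counterexample to control of transfer. -/
structure MinCtr (p : ℕ) (𝓦 : Set (∀ (Q : Type u) [Group Q], Subgroup Q)) (X : Type u) [Group X] :
    Prop where
  hsub : ∀ H : Subgroup X, H ≠ ⊤ → CtlT p 𝓦 H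
  hquot : ∀ (N : Subgroup X) [N.Normal], N ≠ ⊥ → CtlT p 𝓦 (X ⧸ N)
  hnot : ¬ CtlT p 𝓦 X

section mc

variable {X : Type u} [Group X] [Finite X] {p : ℕ} [hp : Fact p.Prime]
  {𝓦 : Set (∀ (Q : Type u) [Group Q], Subgroup Q)}

local notation:max K "^[" g "]" => Subgroup.map (MulEquiv.toMonoidHom (MulAut.conj g)) K

theorem mc_constrained (h𝓦 : ∀ W ∈ 𝓦, Cfsg.IsCharPFunctor.{u} p W) (hmc : MinCtr p 𝓦 X) :
    Constrained p X := by
  by_contra hnc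
  exact hmc.hnot (ctlT_step_nonconstrained h𝓦 hmc.hsub (fun N _ hN => hmc.hquot N hN) hnc)

theorem mc_not_le (S : Sylow p X) (hmc : MinCtr p 𝓦 X) :
    ¬ ((S : Subgroup X) ⊓ ⁅(⊤ : Subgroup X), (⊤ : Subgroup X)⁆ ≤ RT (fam 𝓦 X) ⊤ (S : Subgroup X)) :=
  fun h => hmc.hnot (ctlT_of_at S h)

theorem mc_sub_le (h𝓦 : ∀ W ∈ 𝓦, Cfsg.IsCharPFunctor.{u} p W) (S : Sylow p X) (hmc : MinCtr p 𝓦 X)
    (H : Subgroup X) (hSH : (S : Subgroup X) ≤ H) (hH : H ≠ ⊤) :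
    (S : Subgroup X) ⊓ ⁅H, H⁆ ≤ RT (fam 𝓦 X) ⊤ (S : Subgroup X) :=
  inf_commutator_le_RT_of_ctlT h𝓦 S H hSH (hmc.hsub H hH)

theorem mc_pCore_ne_bot (h𝓦 : ∀ W ∈ 𝓦, Cfsg.IsCharPFunctor.{u} p W) (S : Sylow p X)
    (hmc : MinCtr p 𝓦 X) : Cfsg.pCore p X ≠ ⊥ := by
  intro hP
  apply mc_not_le S hmc
  have hc := mc_constrained h𝓦 hmc
  have h1 : (⊤ : Subgroup X) ≤ ⊥ := by
    unfold Constrained at hc
    rw [hP] at hc
    refine le_trans ?_ hc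
    intro x _
    rw [Subgroup.mem_centralizer_iff]
    intro y hy
    have : y = 1 := Subgroup.mem_bot.1 hy
    rw [this]; simp
  intro x _
  have hx1 : x = 1 := Subgroup.mem_bot.1 (h1 (Subgroup.mem_top x))
  rw [hx1]; exact Subgroup.one_mem _

theorem mc_pCore_not_le (h𝓦 : ∀ W ∈ 𝓦, Cfsg.IsCharPFunctor.{u} p W) (S : Sylow p X)
    (hmc : MinCtr p 𝓦 X) :
    ¬ (Cfsg.pCore p X ⊓ ⁅(⊤ : Subgroup X), (⊤ : Subgroup X)⁆ ≤ RT (fam 𝓦 X) ⊤ (S : Subgroup X)) := by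
  intro h
  apply mc_not_le S hmc
  haveI hPn : (Cfsg.pCore p X).Normal := Cfsg.Agent.helper1.pCore_normal p
  have hb := inf_commutator_le_sup_pCore h𝓦 S (Cfsg.pCore p X) rfl hmc.hsub
    (hmc.hquot _ (mc_pCore_ne_bot h𝓦 S hmc))
  exact hb.trans (sup_le le_rfl h)

theorem mc_normalizer_sylow_ne_top (h𝓦 : ∀ W ∈ 𝓦, Cfsg.IsCharPFunctor.{u} p W) (hne : 𝓦.Nonempty)
    (S : Sylow p X) (hmc : MinCtr p 𝓦 X) :
    Subgroup.normalizer ((S : Subgroup X) : Set X) ≠ ⊤ := by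
  intro htop
  apply mc_not_le S hmc
  obtain ⟨W, hW⟩ := hne
  have hconjF := induced_isConjugacyFunctor (X := X) W (h𝓦 W hW)
  have h1 : Subgroup.normalizer ((Cfsg.inducedFunctor (G := X) W (S : Subgroup X) : Subgroup X) : Set X) = ⊤ := by
    rw [eq_top_iff, ← htop]
    exact le_normalizer_functor hconjF _ S.isPGroup'
  have h2 := le_RT (𝓦 := fam 𝓦 X) ⊤ (S : Subgroup X) (Cfsg.inducedFunctor (G := X) W) ⟨W, hW, rfl⟩
  rw [h1, top_inf_eq] at h2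
  exact h2

theorem mc_le_normalizer (h𝓦 : ∀ W ∈ 𝓦, Cfsg.IsCharPFunctor.{u} p W) (S : Sylow p X)
    (hmc : MinCtr p 𝓦 X) (H : Subgroup X) (hSH : (S : Subgroup X) ≤ H) (hH : H ≠ ⊤) :
    H ≤ Subgroup.normalizer ((RT (fam 𝓦 X) ⊤ (S : Subgroup X) ⊓ Cfsg.pCore p X : Subgroup X) : Set X) := by
  haveI hPn : (Cfsg.pCore p X).Normal := Cfsg.Agent.helper1.pCore_normal p
  have hPS : Cfsg.pCore p X ≤ (S : Subgroup X) := Cfsg.Agent.helper1.pCore_le_sylow S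
  have h1 := mc_sub_le h𝓦 S hmc H hSH hH
  intro h hh
  apply mem_normalizer_of_map_conj_le
  rintro _ ⟨x, hx, rfl⟩
  obtain ⟨hxR, hxP⟩ := Subgroup.mem_inf.1 hx
  show h * x * h⁻¹ ∈ _
  have hcP : h * x * h⁻¹ ∈ Cfsg.pCore p X := hPn.conj_mem x hxP h
  refine Subgroup.mem_inf.2 ⟨?_, hcP⟩
  have h2 : h * x * h⁻¹ = ⁅h, x⁆ * x := by
    rw [commutatorElement_def]; group
  rw [h2]
  refine Subgroup.mul_mem _ (h1 (Subgroup.mem_inf.2 ⟨?_, ?_⟩)) hxR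
  · apply hPS
    have h3 : ⁅h, x⁆ = (h * x * h⁻¹) * x⁻¹ := by
      rw [commutatorElement_def]
    rw [h3]
    exact Subgroup.mul_mem _ hcP (Subgroup.inv_mem _ hxP)
  · exact Subgroup.commutator_mem_commutator hh (hSH (hPS hxP))

theorem mc_normalizer_ne_top (h𝓦 : ∀ W ∈ 𝓦, Cfsg.IsCharPFunctor.{u} p W) (hne : 𝓦.Nonempty)
    (S : Sylow p X) (hmc : MinCtr p 𝓦 X) :
    Subgroup.normalizer ((RT (fam 𝓦 X) ⊤ (S : Subgroup X) ⊓ Cfsg.pCore p X : Subgroup X) : Set X) ≠ ⊤ := by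
  intro htop
  apply mc_pCore_not_le h𝓦 S hmc
  obtain ⟨P, hPdef⟩ : ∃ P : Subgroup X, P = Cfsg.pCore p X := ⟨_, rfl⟩
  obtain ⟨R, hRdef⟩ : ∃ R : Subgroup X, R = RT (fam 𝓦 X) ⊤ (S : Subgroup X) := ⟨_, rfl⟩
  rw [← hPdef, ← hRdef] at htop ⊢
  haveI hPn : P.Normal := by rw [hPdef]; exact Cfsg.Agent.helper1.pCore_normal p
  have hPS : P ≤ (S : Subgroup X) := by rw [hPdef]; exact Cfsg.Agent.helper1.pCore_le_sylow S
  haveI hP₁n : (R ⊓ P).Normal := Subgroup.normalizer_eq_top_iff.mp htop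
  have hNS := mc_normalizer_sylow_ne_top h𝓦 hne S hmc
  have h1 := mc_sub_le h𝓦 S hmc _ Subgroup.le_normalizer hNS
  rw [← hRdef] at h1
  -- the stabilizer of the series `P₁ ≤ P`
  have hDn : (quotStab (R ⊓ P) P).Normal := by
    constructor
    intro d hd g
    rw [mem_quotStab] at hd ⊢
    refine ⟨by rw [Subgroup.normalizer_eq_top P]; exact Subgroup.mem_top _, ?_⟩
    intro q hq
    have h2 : g⁻¹ * q * g ∈ P := by
      have := hPn.conj_mem q hq g⁻¹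
      rwa [inv_inv] at this
    have h3 := hd.2 _ h2
    have h4 : g * d * g⁻¹ * q * (g * d * g⁻¹)⁻¹ * q⁻¹ =
        g * (d * (g⁻¹ * q * g) * d⁻¹ * (g⁻¹ * q * g)⁻¹) * g⁻¹ := by group
    rw [h4]
    exact hP₁n.conj_mem _ h3 g
  have hND : Subgroup.normalizer ((S : Subgroup X) : Set X) ≤ quotStab (R ⊓ P) P := by
    intro n hn
    rw [mem_quotStab]
    refine ⟨by rw [Subgroup.normalizer_eq_top P]; exact Subgroup.mem_top _, ?_⟩
    intro q hq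
    have hcP : n * q * n⁻¹ * q⁻¹ ∈ P := P.mul_mem (hPn.conj_mem q hq n) (P.inv_mem hq)
    refine Subgroup.mem_inf.2 ⟨?_, hcP⟩
    apply h1
    refine Subgroup.mem_inf.2 ⟨hPS hcP, ?_⟩
    have h2 : n * q * n⁻¹ * q⁻¹ = ⁅n, q⁆ := by rw [commutatorElement_def]
    rw [h2]
    exact Subgroup.commutator_mem_commutator hn (Subgroup.le_normalizer (hPS hq))
  have hDtop : quotStab (R ⊓ P) P = ⊤ := by
    haveI := hDn
    have h2 := Cfsg.Agent.helper19.frattini_inf S (quotStab (R ⊓ P) P)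
    have h3 : (S : Subgroup X) ⊓ quotStab (R ⊓ P) P = (S : Subgroup X) :=
      inf_eq_left.2 (Subgroup.le_normalizer.trans hND)
    rw [h3] at h2
    rw [eq_top_iff, ← h2]
    exact sup_le hND le_rfl
  have hPX : ⁅P, (⊤ : Subgroup X)⁆ ≤ R := by
    rw [Subgroup.commutator_le]
    intro q hq x _
    have hx : x ∈ quotStab (R ⊓ P) P := by rw [hDtop]; exact Subgroup.mem_top x
    rw [mem_quotStab] at hx
    have h2 := hx.2 q hq
    have h3 : ⁅q, x⁆ = (x * q * x⁻¹ * q⁻¹)⁻¹ := by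
      rw [commutatorElement_def]; group
    rw [h3]
    exact Subgroup.inv_mem _ (Subgroup.mem_inf.1 h2).1
  have hSS : ⁅(S : Subgroup X), (S : Subgroup X)⁆ ≤ R :=
    le_trans (le_inf (commutator_self_le _)
      (Subgroup.commutator_mono Subgroup.le_normalizer Subgroup.le_normalizer)) h1
  exact (normal_inf_commutator_le S P hPS).trans (sup_le hSS hPX)

theorem mc_commutators (h𝓦 : ∀ W ∈ 𝓦, Cfsg.IsCharPFunctor.{u} p W) (hne : 𝓦.Nonempty)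
    (S : Sylow p X) (hmc : MinCtr p 𝓦 X) (M : Subgroup X)
    (hM : M = Subgroup.normalizer
      ((RT (fam 𝓦 X) ⊤ (S : Subgroup X) ⊓ Cfsg.pCore p X : Subgroup X) : Set X)) :
    (S : Subgroup X) ≤ M ∧ ⁅Cfsg.pCore p X, M⁆ ≤ Cfsg.pCore p X ⊓ ⁅M, M⁆ ∧
      Cfsg.pCore p X ⊓ ⁅M, M⁆ ≤ Cfsg.pCore p X ⊓ RT (fam 𝓦 X) ⊤ (S : Subgroup X) := by
  haveI hPn : (Cfsg.pCore p X).Normal := Cfsg.Agent.helper1.pCore_normal p
  have hPS : Cfsg.pCore p X ≤ (S : Subgroup X) := Cfsg.Agent.helper1.pCore_le_sylow S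
  have hNS := mc_normalizer_sylow_ne_top h𝓦 hne S hmc
  have hSM : (S : Subgroup X) ≤ M := by
    rw [hM]
    exact Subgroup.le_normalizer.trans (mc_le_normalizer h𝓦 S hmc _ Subgroup.le_normalizer hNS)
  have hMne : M ≠ ⊤ := by rw [hM]; exact mc_normalizer_ne_top h𝓦 hne S hmc
  refine ⟨hSM, le_inf (Subgroup.commutator_le_left _ _)
    (Subgroup.commutator_mono (hPS.trans hSM) le_rfl), le_inf inf_le_left ?_⟩
  exact le_trans (inf_le_inf_right _ hPS) (mc_sub_le h𝓦 S hmc M hSM hMne)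

end mc

end Cfsg.Agent.helper10
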