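import Mathlib
import Cfsg.Agent.Lib_helper10_Tr10

set_option autoImplicit false

/-!
# The structure of a minimal counterexample to control of transfer, II: chief factors
-/

namespace Cfsg.Agent.helper10

universe u

open scoped commutatorElement

section nilset

variable {X : Type u} [Group X]

local notation:max K "^[" g "]" => Subgroup.map (MulEquiv.toMonoidHom (MulAut.conj g)) K

/-- The elements acting with `(v - 1)^(p-1) = 0` on all chief factors inside `P`. -/
def NilSet (p : ℕ) (P : Subgroup X) : Set X :=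
  {v | ∀ U V : Subgroup X, Cfsg.IsChiefFactor U V → U ≤ P →
    Cfsg.iterCommutator U (Subgroup.zpowers v) (p - 1) ≤ V}

theorem map_conj_eq_self_of_normal (U : Subgroup X) [hU : U.Normal] (g : X) : U^[g] = U :=
  (mem_normalizer_iff_map_conj U g).1 (by rw [Subgroup.normalizer_eq_top U]; exact Subgroup.mem_top g)

theorem iterCommutator_conj (U : Subgroup X) [U.Normal] (v g : X) (i : ℕ) :
    Cfsg.iterCommutator U (Subgroup.zpowers (g * v * g⁻¹)) i =
      (Cfsg.iterCommutator U (Subgroup.zpowers v) i)^[g] := by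
  have hz : Subgroup.zpowers (g * v * g⁻¹) = (Subgroup.zpowers v)^[g] := by
    rw [MonoidHom.map_zpowers]
    rfl
  induction i with
  | zero =>
    show U = U^[g]
    rw [map_conj_eq_self_of_normal]
  | succ i ih =>
    show ⁅Cfsg.iterCommutator U (Subgroup.zpowers (g * v * g⁻¹)) i, Subgroup.zpowers (g * v * g⁻¹)⁆ =
      (⁅Cfsg.iterCommutator U (Subgroup.zpowers v) i, Subgroup.zpowers v⁆)^[g]
    rw [ih, hz, Subgroup.map_commutator]

theorem nilSet_conj {p : ℕ} {P : Subgroup X} {v : X} (hv : v ∈ NilSet p P) (g : X) :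
    g * v * g⁻¹ ∈ NilSet p P := by
  intro U V hUV hUP
  haveI hUn : U.Normal := hUV.2.1
  haveI hVn : V.Normal := hUV.2.2.1
  rw [iterCommutator_conj, ← map_conj_eq_self_of_normal V g]
  exact Subgroup.map_mono (hv U V hUV hUP)

theorem nilSet_inv {p : ℕ} {P : Subgroup X} {v : X} (hv : v ∈ NilSet p P) : v⁻¹ ∈ NilSet p P := by
  intro U V hUV hUP
  rw [Subgroup.zpowers_inv]
  exact hv U V hUV hUP

end nilset

section moving

variable {X : Type u} [Group X] [Finite X] {p : ℕ} [hp : Fact p.Prime]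

local notation:max K "^[" g "]" => Subgroup.map (MulEquiv.toMonoidHom (MulAut.conj g)) K

/-- Outside `M`, some nil element of `S` is not conjugated into `M`. -/
theorem exists_nil_moving (M : Subgroup X) (S : Sylow p X) (hSM : (S : Subgroup X) ≤ M)
    (hmax : ∀ H : Subgroup X, (S : Subgroup X) ≤ H → H ≠ ⊤ → H ≤ M)
    (u : X) (huS : u ∈ (S : Subgroup X)) (huP : u ∉ Cfsg.pCore p X)
    (hu : u ∈ NilSet p (Cfsg.pCore p X)) (t : X) (ht : t ∉ M) :
    ∃ v ∈ (S : Subgroup X), v ∈ NilSet p (Cfsg.pCore p X) ∧ t⁻¹ * v * t ∉ M := by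
  by_contra hcon
  push Not at hcon
  obtain ⟨Sstar, hSstar⟩ : ∃ Sstar : Subgroup X, Sstar = Subgroup.closure
      {v | v ∈ (S : Subgroup X) ∧ v ∈ NilSet p (Cfsg.pCore p X)} := ⟨_, rfl⟩
  have hSsS : Sstar ≤ (S : Subgroup X) := by
    rw [hSstar, Subgroup.closure_le]
    exact fun v hv => hv.1
  have hSsp : IsPGroup p Sstar := S.isPGroup'.to_le hSsS
  have hconj : ∀ g : X, Sstar^[g] ≤ (S : Subgroup X) → Sstar^[g] ≤ Sstar := by
    intro g hg
    intro x hx
    have hx' := hx
    rw [hSstar, MonoidHom.map_closure] at hx'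
    rw [hSstar]
    refine (Subgroup.closure_le _).2 ?_ hx'
    rintro _ ⟨v, hv, rfl⟩
    apply Subgroup.subset_closure
    refine ⟨hg ⟨v, by rw [hSstar]; exact Subgroup.subset_closure hv, rfl⟩, ?_⟩
    exact nilSet_conj hv.2 g
  have hle : Sstar^[t⁻¹] ≤ M := by
    rw [hSstar, MonoidHom.map_closure, Subgroup.closure_le]
    rintro _ ⟨v, hv, rfl⟩
    have := hcon v hv.1 hv.2
    simpa [MulAut.conj_apply] using this
  have hidx : ¬ p ∣ (S : Subgroup X).relIndex M := by
    intro hdvd
    exact S.not_dvd_index ((Subgroup.relIndex_mul_index hSM) ▸ Dvd.dvd.mul_right hdvd _)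
  obtain ⟨n, hnM, hn⟩ := pgroup_conj_into_relSylow M (Sstar^[t⁻¹]) (S : Subgroup X) hle
    (hSsp.map _) S.isPGroup' hidx
  rw [← map_conj_mul] at hn
  have hgN : n * t⁻¹ ∈ Subgroup.normalizer (Sstar : Set X) :=
    mem_normalizer_of_map_conj_le Sstar _ (hconj _ hn)
  have hSN : (S : Subgroup X) ≤ Subgroup.normalizer (Sstar : Set X) := by
    intro s hs
    apply mem_normalizer_of_map_conj_le
    apply hconj
    rintro _ ⟨x, hx, rfl⟩
    exact Subgroup.mul_mem _ (Subgroup.mul_mem _ hs (hSsS hx)) (Subgroup.inv_mem _ hs)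
  have hNne : Subgroup.normalizer (Sstar : Set X) ≠ ⊤ := by
    intro htop
    apply huP
    apply le_pCore_of_normalizer_eq_top Sstar hSsp htop
    rw [hSstar]
    exact Subgroup.subset_closure ⟨huS, hu⟩
  have h1 := hmax _ hSN hNne hgN
  apply ht
  have h2 : t = (n⁻¹ * (n * t⁻¹))⁻¹ := by group
  rw [h2]
  exact M.inv_mem (M.mul_mem (M.inv_mem hnM) h1)

end moving

section chiefclause

variable {X : Type u} [Group X] [Finite X] {p : ℕ} [hp : Fact p.Prime]

local notation:max K "^[" g "]" => Subgroup.map (MulEquiv.toMonoidHom (MulAut.conj g)) K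

/-- The key transfer computation: if some `u ∈ S ∖ O_p(X)` acts with `(u - 1)^(p-1) = 0` on all
chief factors inside `O_p(X)`, and `M` contains every proper subgroup containing `S`, then
`O_p(X) ∩ X' ≤ M'`. -/
theorem pCore_inf_commutator_le_of_nil (M : Subgroup X) (S : Sylow p X)
    (hSM : (S : Subgroup X) ≤ M)
    (hmax : ∀ H : Subgroup X, (S : Subgroup X) ≤ H → H ≠ ⊤ → H ≤ M)
    (u : X) (huS : u ∈ (S : Subgroup X)) (huP : u ∉ Cfsg.pCore p X)
    (hu : u ∈ NilSet p (Cfsg.pCore p X)) :
    Cfsg.pCore p X ⊓ ⁅(⊤ : Subgroup X), (⊤ : Subgroup X)⁆ ≤ ⁅M, M⁆ := by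
  obtain ⟨P, hPdef⟩ : ∃ P : Subgroup X, P = Cfsg.pCore p X := ⟨_, rfl⟩
  haveI hPn : P.Normal := by rw [hPdef]; exact Cfsg.Agent.helper1.pCore_normal p
  have hPS : P ≤ (S : Subgroup X) := by rw [hPdef]; exact Cfsg.Agent.helper1.pCore_le_sylow S
  have hPp : IsPGroup p P := S.isPGroup'.to_le hPS
  have hPM : P ≤ M := hPS.trans hSM
  rw [← hPdef]
  have claim : ∀ (n : ℕ) (Z : Subgroup X), Z.Normal → Z ≤ P ⊓ ⁅(⊤ : Subgroup X), (⊤ : Subgroup X)⁆ →
      Nat.card Z = n → Z ≤ ⁅M, M⁆ := by
    intro n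
    induction n using Nat.strong_induction_on with
    | _ n IH =>
      intro Z hZn hZle hn
      by_cases hZbot : Z = ⊥
      · rw [hZbot]; exact bot_le
      -- a maximal normal subgroup below `Z`
      have hfin : {V : Subgroup X | V.Normal ∧ V < Z}.Finite := Set.toFinite _
      have hnon : {V : Subgroup X | V.Normal ∧ V < Z}.Nonempty :=
        ⟨⊥, inferInstance, bot_lt_iff_ne_bot.2 hZbot⟩
      obtain ⟨V, ⟨hVn, hVZ⟩, hVmax⟩ := Set.exists_max_image _ (fun V : Subgroup X => Nat.card V) hfin hnon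
      have hchief : Cfsg.IsChiefFactor Z V := by
        refine ⟨hVZ, hZn, hVn, ?_⟩
        intro N hNn hVN hNZ
        by_cases hNeq : N = Z
        · exact Or.inr hNeq
        · left
          have h1 := hVmax N ⟨hNn, lt_of_le_of_ne hNZ hNeq⟩
          exact (Subgroup.eq_of_le_of_card_ge hVN h1).symm
      have hVM : V ≤ ⁅M, M⁆ :=
        IH (Nat.card V) (by rw [← hn]; exact card_lt_card_of_lt hVZ) V hVn (hVZ.le.trans hZle) rfl
      have hZP : Z ≤ P := hZle.trans inf_le_left
      have hZM : Z ≤ M := hZP.trans hPM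
      intro y hy
      classical
      letI : Fintype (X ⧸ M) := Fintype.ofFinite _
      -- the data for the orbit lemma
      obtain ⟨G, hGdef⟩ : ∃ G : ↥Z → (X ⧸ M) → Abelianization M,
          G = fun (z : ↥Z) (c : X ⧸ M) => abChar M ((c.out : X)⁻¹ * (z : X) * (c.out : X)) := ⟨_, rfl⟩
      have hsmul : ∀ (t : ↥(S : Subgroup X)) (c : X ⧸ M), t • c = (t : X) • c := fun _ _ => rfl
      obtain ⟨act, hact⟩ : ∃ act : ↥(S : Subgroup X) → ↥Z → ↥Z,
          ∀ s z, ((act s z : ↥Z) : X) = (s : X) * (z : X) * (s : X)⁻¹ :=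
        ⟨fun s z => ⟨(s : X) * (z : X) * (s : X)⁻¹, hZn.conj_mem _ z.2 _⟩, fun _ _ => rfl⟩
      have hconjZ : ∀ (w : X) (z : X), z ∈ Z → w⁻¹ * z * w ∈ Z := by
        intro w z hz
        have := hZn.conj_mem z hz w⁻¹
        rwa [inv_inv] at this
      have hG : ∀ (t : ↥(S : Subgroup X)) (z : ↥Z) (c : X ⧸ M), G z (t • c) = G (act t⁻¹ z) c := by
        intro t z c
        rw [hGdef]
        simp only
        rw [hact, hsmul]
        obtain ⟨w, hw⟩ : ∃ w : X, w = c.out := ⟨_, rfl⟩
        obtain ⟨w', hw'⟩ : ∃ w' : X, w' = ((t : X) • c).out := ⟨_, rfl⟩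
        rw [← hw, ← hw']
        have h1 : ((t : X) * w)⁻¹ * w' ∈ M := by
          apply QuotientGroup.eq.1
          rw [hw', QuotientGroup.out_eq']
          have h2 : c = ((w : X) : X ⧸ M) := by rw [hw, QuotientGroup.out_eq']
          conv_rhs => rw [h2]
          rfl
        have h3 : w'⁻¹ * (z : X) * w' = (((t : X) * w)⁻¹ * w')⁻¹ *
            (w⁻¹ * (((t⁻¹ : ↥(S : Subgroup X)) : X) * (z : X) * ((t⁻¹ : ↥(S : Subgroup X)) : X)⁻¹) * w) *
            (((t : X) * w)⁻¹ * w') := by
          rw [Subgroup.coe_inv]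
          group
        rw [h3]
        apply abChar_conj M _ h1
        apply hZM
        apply hconjZ
        rw [Subgroup.coe_inv]
        have := hconjZ (t : X) (z : X) z.2
        simpa using this
      have h𝒱conj : ∀ v ∈ {v : ↥(S : Subgroup X) | (v : X) ∈ NilSet p P},
          ∀ t : ↥(S : Subgroup X), t * v * t⁻¹ ∈ {v : ↥(S : Subgroup X) | (v : X) ∈ NilSet p P} := by
        intro v hv t
        show ((t * v * t⁻¹ : ↥(S : Subgroup X)) : X) ∈ NilSet p P
        have := nilSet_conj hv (t : X)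
        simpa using this
      have hnorm : ∀ v ∈ {v : ↥(S : Subgroup X) | (v : X) ∈ NilSet p P}, ∀ (z : ↥Z) (c : X ⧸ M),
          ∏ k ∈ Finset.range p, G (act (v ^ k)⁻¹ z) c = 1 := by
        intro v hv z c
        have h1 := norm_vanish P hPp Z V hchief hZP ((v : X)⁻¹) (nilSet_inv hv Z V hchief hZP)
          (fun x => abChar M (c.out⁻¹ * x * c.out))
          (fun a ha b hb => by
            have h2 : c.out⁻¹ * (a * b) * c.out = (c.out⁻¹ * a * c.out) * (c.out⁻¹ * b * c.out) := by
              group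
            rw [h2]
            exact abChar_mul M (hZM (hconjZ _ a ha)) (hZM (hconjZ _ b hb)))
          (fun w hw => by
            rw [abChar_eq_one_iff M ((hVZ.le.trans hZM) (by
              have := hVn.conj_mem w hw c.out⁻¹
              rwa [inv_inv] at this))]
            apply hVM
            have := hVn.conj_mem w hw c.out⁻¹
            rwa [inv_inv] at this)
          (z : X) z.2
        rw [← h1]
        refine Finset.prod_congr rfl fun k _ => ?_
        rw [hGdef]
        simp only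
        rw [hact]
        congr 2
        simp
      obtain ⟨c₀, hc₀⟩ : ∃ c₀ : X ⧸ M, c₀ = ((1 : X) : X ⧸ M) := ⟨_, rfl⟩
      have hfix : ∀ t : ↥(S : Subgroup X), t • c₀ = c₀ := by
        intro t
        rw [hsmul, hc₀, MulAction.Quotient.smul_mk]
        apply QuotientGroup.eq.2
        have : ((t : X) • (1 : X))⁻¹ * 1 = (t : X)⁻¹ := by simp
        rw [this]
        exact M.inv_mem (hSM t.2)
      have hinv : ∀ t : ↥(S : Subgroup X), ∀ c ∈ (Finset.univ.erase c₀ : Finset (X ⧸ M)),
          t • c ∈ (Finset.univ.erase c₀ : Finset (X ⧸ M)) := by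
        intro t c hc
        rw [Finset.mem_erase] at hc ⊢
        refine ⟨?_, Finset.mem_univ _⟩
        intro h
        apply hc.1
        have h2 : c = t⁻¹ • c₀ := by rw [← h, inv_smul_smul]
        rw [h2, hfix]
      have hmove : ∀ c ∈ (Finset.univ.erase c₀ : Finset (X ⧸ M)),
          ∃ v ∈ {v : ↥(S : Subgroup X) | (v : X) ∈ NilSet p P}, v • c ≠ c := by
        intro c hc
        rw [Finset.mem_erase] at hc
        obtain ⟨t, ht⟩ : ∃ t : X, t = c.out := ⟨_, rfl⟩
        have hct : c = ((t : X) : X ⧸ M) := by rw [ht, QuotientGroup.out_eq']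
        have htM : t ∉ M := by
          intro h
          apply hc.1
          rw [hct, hc₀]
          apply QuotientGroup.eq.2
          simpa using h
        obtain ⟨v, hvS, hvN, hvt⟩ := exists_nil_moving M S hSM hmax u huS huP
          hu t htM
        rw [← hPdef] at hvN
        refine ⟨⟨v, hvS⟩, hvN, ?_⟩
        rw [hsmul, hct, MulAction.Quotient.smul_mk]
        intro h
        apply hvt
        have h2 := QuotientGroup.eq.1 h
        have h3 : t⁻¹ * v * t = ((v • t)⁻¹ * t)⁻¹ := by
          rw [smul_eq_mul]; group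
        rw [h3]
        exact M.inv_mem h2
      have hprod := orbit_prod_eq_one (Nat.card ↥(S : Subgroup X)) ↥(S : Subgroup X) S.isPGroup' le_rfl
        act G {v : ↥(S : Subgroup X) | (v : X) ∈ NilSet p P} hG h𝒱conj hnorm
        (Finset.univ.erase c₀) hinv hmove ⟨y, hy⟩
      -- the transfer
      have htr := transfer_normal_eq_prod M (Abelianization.of : M →* Abelianization M) P hPM y (hZP hy)
      have htr1 : MonoidHom.transfer (Abelianization.of : M →* Abelianization M) y = 1 := by
        have h3 : y ∈ commutator X := (hZle hy).2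
        exact Abelianization.commutator_subset_ker _ h3
      rw [htr1] at htr
      have h4 : ∏ q : X ⧸ M, G ⟨y, hy⟩ q = 1 := by
        rw [htr]
        refine Finset.prod_congr rfl fun q _ => ?_
        rw [hGdef]
        simp only
        exact abChar_of_mem M _
      rw [← Finset.mul_prod_erase Finset.univ _ (Finset.mem_univ c₀), hprod, mul_one] at h4
      rw [hGdef] at h4
      simp only at h4
      have hc₀M : c₀.out ∈ M := by
        have h5 : ((c₀.out : X) : X ⧸ M) = ((1 : X) : X ⧸ M) := by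
          rw [QuotientGroup.out_eq', hc₀]
        have h6 := QuotientGroup.eq.1 h5
        have h7 : c₀.out = (c₀.out⁻¹ * 1)⁻¹ := by group
        rw [h7]
        exact M.inv_mem h6
      rw [abChar_conj M (hZM hy) hc₀M] at h4
      exact (abChar_eq_one_iff M (hZM hy)).1 h4
  haveI : (⁅(⊤ : Subgroup X), (⊤ : Subgroup X)⁆).Normal := Subgroup.commutator_normal ⊤ ⊤
  exact claim _ (P ⊓ ⁅(⊤ : Subgroup X), (⊤ : Subgroup X)⁆) inferInstance le_rfl rfl

end chiefclause

end Cfsg.Agent.helper10
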