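import Mathlib
import Cfsg.Prelude.Def_PLocal
import Cfsg.Prelude.Def_LocalEven
import Cfsg.Agent.Lib_helper10_HH3
import Cfsg.Agent.Lib_helper10_Sylow
import Cfsg.Agent.Lib_helper10_Tr11
import Cfsg.Agent.Lib_helper10_Tr8

/-!
K-infinity theory, part 3: iterated commutators on chief factors; the Hom-type bound `i + j - 1`.
-/

set_option autoImplicit false

namespace Cfsg.Agent.helper10

open Cfsg
open scoped commutatorElement

section iterbasics

variable {Y : Type*} [Group Y]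

theorem iter_zero (X H : Subgroup Y) : Cfsg.iterCommutator X H 0 = X := rfl

theorem iter_succ (X H : Subgroup Y) (n : ℕ) :
    Cfsg.iterCommutator X H (n + 1) = ⁅Cfsg.iterCommutator X H n, H⁆ := rfl

theorem iter_mono_left {X X' : Subgroup Y} (h : X ≤ X') (H : Subgroup Y) (n : ℕ) :
    Cfsg.iterCommutator X H n ≤ Cfsg.iterCommutator X' H n := by
  induction n with
  | zero => exact h
  | succ n ih => exact Subgroup.commutator_mono ih le_rfl

theorem iter_mono_right (X : Subgroup Y) {H H' : Subgroup Y} (h : H ≤ H') (n : ℕ) :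
    Cfsg.iterCommutator X H n ≤ Cfsg.iterCommutator X H' n := by
  induction n with
  | zero => exact le_rfl
  | succ n ih => exact Subgroup.commutator_mono ih h

theorem iter_le_of_normal {X H V : Subgroup Y} [hV : V.Normal] {m : ℕ}
    (h : Cfsg.iterCommutator X H m ≤ V) {k : ℕ} (hk : m ≤ k) :
    Cfsg.iterCommutator X H k ≤ V := by
  induction k, hk using Nat.le_induction with
  | base => exact h
  | succ k _ ih =>
    exact le_trans (Subgroup.commutator_mono ih le_rfl) (Subgroup.commutator_le_left V H)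

theorem iter_le_self (X H : Subgroup Y) [hX : X.Normal] (n : ℕ) :
    Cfsg.iterCommutator X H n ≤ X :=
  iter_le_of_normal (V := X) (m := 0) (le_refl X) (Nat.zero_le n)

theorem iter_add (X H : Subgroup Y) (m n : ℕ) :
    Cfsg.iterCommutator X H (m + n) = Cfsg.iterCommutator (Cfsg.iterCommutator X H m) H n := by
  induction n with
  | zero => rfl
  | succ n ih =>
    show ⁅Cfsg.iterCommutator X H (m + n), H⁆ = ⁅Cfsg.iterCommutator (Cfsg.iterCommutator X H m) H n, H⁆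
    rw [ih]

theorem commutator_sup_le (A B C : Subgroup Y) [hB : B.Normal] : ⁅A ⊔ B, C⁆ ≤ ⁅A, C⁆ ⊔ B := by
  rw [Subgroup.commutator_le]
  intro x hx c hc
  have hx' : x ∈ ((A ⊔ B : Subgroup Y) : Set Y) := hx
  rw [Subgroup.mul_normal] at hx'
  obtain ⟨a, ha, b, hb, rfl⟩ := Set.mem_mul.mp hx'
  have e : ⁅a * b, c⁆ = a * ⁅b, c⁆ * a⁻¹ * ⁅a, c⁆ := by
    simp only [commutatorElement_def]; group
  rw [e]
  have h1 : ⁅b, c⁆ ∈ B := by
    rw [commutatorElement_def]
    have := hB.conj_mem b⁻¹ (B.inv_mem hb) c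
    have e2 : b * c * b⁻¹ * c⁻¹ = b * (c * b⁻¹ * c⁻¹) := by group
    rw [e2]; exact B.mul_mem hb this
  exact Subgroup.mul_mem _ (Subgroup.mem_sup_right (hB.conj_mem _ h1 a))
    (Subgroup.mem_sup_left (Subgroup.commutator_mem_commutator ha hc))

theorem iter_sup_le (X V H : Subgroup Y) [hV : V.Normal] (n : ℕ) :
    Cfsg.iterCommutator (X ⊔ V) H n ≤ Cfsg.iterCommutator X H n ⊔ V := by
  induction n with
  | zero => exact le_rfl
  | succ n ih =>
    exact le_trans (Subgroup.commutator_mono ih le_rfl) (commutator_sup_le _ V H)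

/-- The iterated commutators with `⟨g⟩` of a normal subgroup are normalized by `⟨g⟩`. -/
theorem iter_zpowers_conj (X : Subgroup Y) [X.Normal] (g : Y) (n : ℕ) {h : Y}
    (hh : h ∈ Subgroup.zpowers g) :
    (Cfsg.iterCommutator X (Subgroup.zpowers g) n).map (MulAut.conj h).toMonoidHom =
      Cfsg.iterCommutator X (Subgroup.zpowers g) n := by
  have h1 := iterCommutator_conj X g h n
  have h2 : h * g * h⁻¹ = g := by
    obtain ⟨k, rfl⟩ := Subgroup.mem_zpowers_iff.mp hh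
    have : g ^ k * g = g * g ^ k := ((Commute.refl g).zpow_left k).eq
    rw [this]; group
  rw [h2] at h1
  exact h1.symm

theorem zpowers_le_normalizer_iter (X : Subgroup Y) [X.Normal] (g : Y) (n : ℕ) :
    Subgroup.zpowers g ≤
      Subgroup.normalizer ((Cfsg.iterCommutator X (Subgroup.zpowers g) n : Subgroup Y) : Set Y) := by
  intro h hh
  rw [mem_normalizer_iff_map_conj]
  exact iter_zpowers_conj X g n hh

theorem iter_succ_le (X : Subgroup Y) [X.Normal] (g : Y) (n : ℕ) :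
    Cfsg.iterCommutator X (Subgroup.zpowers g) (n + 1) ≤
      Cfsg.iterCommutator X (Subgroup.zpowers g) n := by
  show ⁅Cfsg.iterCommutator X (Subgroup.zpowers g) n, Subgroup.zpowers g⁆ ≤ _
  rw [Subgroup.commutator_comm]
  rw [Subgroup.commutator_le]
  intro h hh x hx
  have h1 : h * x * h⁻¹ ∈ Cfsg.iterCommutator X (Subgroup.zpowers g) n :=
    (Subgroup.mem_normalizer_iff.mp (zpowers_le_normalizer_iter X g n hh) x).mp hx
  rw [commutatorElement_def]
  exact Subgroup.mul_mem _ h1 (Subgroup.inv_mem _ hx)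

theorem iter_antitone (X : Subgroup Y) [X.Normal] (g : Y) :
    Antitone (Cfsg.iterCommutator X (Subgroup.zpowers g)) :=
  antitone_nat_of_succ_le (iter_succ_le X g)

end iterbasics

section chiefcent

universe u

variable {Y : Type u} [Group Y] [Finite Y] {p : ℕ} [hp : Fact p.Prime]

attribute [local instance] map_mk_normal

open IsMulCommutative

/-- A normal `p`-subgroup centralizes every chief factor inside it. -/
theorem chief_centralized (P : Subgroup Y) [hPn : P.Normal] (hP : IsPGroup p P) (U V : Subgroup Y)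
    (hUV : Cfsg.IsChiefFactor U V) (hUP : U ≤ P) : ⁅U, P⁆ ≤ V := by
  have hUn := hUV.2.1
  have hVn := hUV.2.2.1
  have hAc : IsMulCommutative ↥(U.map (QuotientGroup.mk' V)) :=
    chief_isMulCommutative U V P hP hUV hUP
  obtain ⟨hlt, -, -, hmin⟩ := hUV
  obtain ⟨k, hk0, hk⟩ := card_chief U V P hP hUP hlt
  have hM : p ∣ Nat.card (Additive ↥(U.map (QuotientGroup.mk' V))) := by
    rw [hk]; exact dvd_pow_self p hk0
  have htriv := rep_trivial_of_pgroup (p := p)
    ((conjRep (U.map (QuotientGroup.mk' V))).comp (QuotientGroup.mk' V)) hM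
    (fun N hN => chief_irreducible U V hmin hlt.le N hN) P hP
    (fun z d hd => ⟨z⁻¹ * d * z, by simpa using hPn.conj_mem d hd z⁻¹, rfl⟩)
  rw [Subgroup.commutator_le]
  intro u hu d hd
  have h1 := commutator_le_of_conjRep_eq_one U V d (fun m => by
    have := htriv d hd
    have h2 : conjRep (U.map (QuotientGroup.mk' V)) (QuotientGroup.mk' V d) = 1 := this
    rw [h2]; rfl)
  exact h1 (Subgroup.commutator_mem_commutator hu (Subgroup.mem_zpowers d))

end chiefcent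

section core

variable {Y : Type*} [Group Y]

theorem kcomm_mul_left (u u' q : Y) : ⁅u * u', q⁆ = u * ⁅u', q⁆ * u⁻¹ * ⁅u, q⁆ := by
  simp only [commutatorElement_def]; group

theorem kcomm_inv_left (u q : Y) : ⁅u⁻¹, q⁆ = u⁻¹ * (⁅u, q⁆)⁻¹ * u := by
  simp only [commutatorElement_def]; group

theorem kcomm_mul_right (u q q' : Y) : ⁅u, q * q'⁆ = ⁅u, q⁆ * (q * ⁅u, q'⁆ * q⁻¹) := by
  simp only [commutatorElement_def]; group

theorem kconj_comm (h u q : Y) : h * ⁅u, q⁆ * h⁻¹ = ⁅h * u * h⁻¹, h * q * h⁻¹⁆ := by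
  simp only [commutatorElement_def]; group

theorem kconj_eq_comm_mul (u t : Y) : u * t * u⁻¹ = ⁅u, t⁆ * t := by
  simp only [commutatorElement_def]; group

/-- The core "Hom" estimate: if `(g-1)^i` kills `Qt/Qb` and `(g-1)^j` kills `Zt/Zb`, then
`(g-1)^(i+j-1)` kills everything that embeds into `Hom(Qt/Qb, Zt/Zb)` through commutation. -/
theorem hom_bound (g : Y) (i j : ℕ) (hi : 1 ≤ i)
    (Us Qt Qb Zt Zb : Subgroup Y) [hUsn : Us.Normal] [hQtn : Qt.Normal] [hQbn : Qb.Normal]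
    [hZtn : Zt.Normal] [hZbn : Zb.Normal]
    (hQ : Qb ≤ Qt) (hZ : Zb ≤ Zt)
    (hZab : ∀ a ∈ Zt, ∀ b ∈ Zt, a * b = b * a)
    (hZQ : ∀ z ∈ Zt, ∀ q ∈ Qt, q * z = z * q)
    (hUZ : ∀ u ∈ Us, ∀ t ∈ Zt, ⁅u, t⁆ ∈ Zb)
    (hβ1 : ∀ u ∈ Us, ∀ q ∈ Qt, ⁅u, q⁆ ∈ Zt)
    (hβ2 : ∀ u ∈ Us, ∀ q ∈ Qb, ⁅u, q⁆ ∈ Zb)
    (hXi : Cfsg.iterCommutator Qt (Subgroup.zpowers g) i ≤ Qb)
    (hYj : Cfsg.iterCommutator Zt (Subgroup.zpowers g) j ≤ Zb) :
    ∀ x ∈ Cfsg.iterCommutator Us (Subgroup.zpowers g) (i + j - 1), ∀ q ∈ Qt, ⁅x, q⁆ ∈ Zb := by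
  set H := Subgroup.zpowers g with hH
  set 𝒳 : ℕ → Subgroup Y := fun b => Cfsg.iterCommutator Qt H b ⊔ Qb with h𝒳
  set 𝒴 : ℕ → Subgroup Y := fun c => Cfsg.iterCommutator Zt H c ⊔ Zb with h𝒴
  have X1 : ∀ b, 𝒳 b ≤ Qt := fun b => sup_le (iter_le_self Qt H b) hQ
  have Xnorm : ∀ b, H ≤ Subgroup.normalizer ((𝒳 b : Subgroup Y) : Set Y) := by
    intro b h hh
    rw [mem_normalizer_iff_map_conj]
    show (Cfsg.iterCommutator Qt H b ⊔ Qb).map _ = Cfsg.iterCommutator Qt H b ⊔ Qb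
    rw [Subgroup.map_sup, iter_zpowers_conj Qt g b hh, map_conj_eq_self_of_normal]
  have X3 : ∀ b, ⁅𝒳 b, H⁆ ≤ 𝒳 (b + 1) := fun b => commutator_sup_le _ Qb H
  have X4 : ∀ b, i ≤ b → 𝒳 b ≤ Qb := fun b hb =>
    sup_le (le_trans (iter_antitone Qt g hb) hXi) le_rfl
  have Y0 : ∀ c, 𝒴 c ≤ Zt := fun c => sup_le (iter_le_self Zt H c) hZ
  have Y1 : ∀ c, Zb ≤ 𝒴 c := fun c => le_sup_right
  have Y2 : ∀ c, ⁅𝒴 c, H⁆ ≤ 𝒴 (c + 1) := fun c => commutator_sup_le _ Zb H
  have Y3 : ∀ c c', c ≤ c' → 𝒴 c' ≤ 𝒴 c := fun c c' hc =>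
    sup_le_sup_right (iter_antitone Zt g hc) Zb
  have Y4 : 𝒴 j ≤ Zb := sup_le hYj le_rfl
  -- conjugating an element of `𝒴 c` by an element of `Us` stays in `𝒴 c`
  have hconj : ∀ c, ∀ u ∈ Us, ∀ t ∈ 𝒴 c, u * t * u⁻¹ ∈ 𝒴 c := by
    intro c u hu t ht
    rw [kconj_eq_comm_mul]
    exact (𝒴 c).mul_mem (Y1 c (hUZ u hu t (Y0 c ht))) ht
  -- the subgroups `Sa a`
  let Sa : ℕ → Subgroup Y := fun a =>
    { carrier := {x | x ∈ Us ∧ ∀ b, ∀ q ∈ 𝒳 b, ⁅x, q⁆ ∈ 𝒴 (a + b + 1 - i)}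
      one_mem' := ⟨Us.one_mem, fun b q _ => by
        rw [commutatorElement_one_left]; exact Subgroup.one_mem _⟩
      mul_mem' := by
        rintro x x' ⟨hx, hxq⟩ ⟨hx', hxq'⟩
        refine ⟨Us.mul_mem hx hx', fun b q hq => ?_⟩
        rw [kcomm_mul_left]
        exact Subgroup.mul_mem _ (hconj _ x hx _ (hxq' b q hq)) (hxq b q hq)
      inv_mem' := by
        rintro x ⟨hx, hxq⟩
        refine ⟨Us.inv_mem hx, fun b q hq => ?_⟩
        rw [kcomm_inv_left]
        have := hconj _ x⁻¹ (Us.inv_mem hx) _ (Subgroup.inv_mem _ (hxq b q hq))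
        rwa [inv_inv] at this }
  have hSa_mem : ∀ a x, x ∈ Sa a ↔ (x ∈ Us ∧ ∀ b, ∀ q ∈ 𝒳 b, ⁅x, q⁆ ∈ 𝒴 (a + b + 1 - i)) :=
    fun a x => Iff.rfl
  have hmain : ∀ a, Cfsg.iterCommutator Us H a ≤ Sa a := by
    intro a
    induction a with
    | zero =>
      intro x hx
      have hxU : x ∈ Us := hx
      rw [hSa_mem]
      refine ⟨hxU, fun b q hq => ?_⟩
      by_cases hb : i ≤ b
      · exact Y1 _ (hβ2 x hxU q (X4 b hb hq))
      · have e : 0 + b + 1 - i = 0 := by omega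
        rw [e]
        exact le_sup_left (a := Cfsg.iterCommutator Zt H 0) (b := Zb) (hβ1 x hxU q (X1 b hq))
    | succ a ih =>
      rw [iter_succ, Subgroup.commutator_le]
      intro y hy h hh
      have hyS := ih hy
      rw [hSa_mem] at hyS
      obtain ⟨hyU, hyq⟩ := hyS
      have hxU : ⁅y, h⁆ ∈ Us := by
        rw [commutatorElement_def]
        have := hUsn.conj_mem y⁻¹ (Us.inv_mem hyU) h
        have e : y * h * y⁻¹ * h⁻¹ = y * (h * y⁻¹ * h⁻¹) := by group
        rw [e]; exact Us.mul_mem hyU this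
      rw [hSa_mem]
      refine ⟨hxU, fun b q hq => ?_⟩
      set x := ⁅y, h⁆ with hx
      -- q' = h⁻¹ q h
      have hh' : h⁻¹ ∈ H := H.inv_mem hh
      have hq' : h⁻¹ * q * h ∈ 𝒳 b := by
        have := (Subgroup.mem_normalizer_iff.mp (Xnorm b hh') q).mp hq
        rwa [inv_inv] at this
      set q' := h⁻¹ * q * h with hq'def
      set z := ⁅y, q'⁆ with hz
      have hzY : z ∈ 𝒴 (a + b + 1 - i) := hyq b q' hq'
      have hzZ : z ∈ Zt := Y0 _ hzY
      -- s = ⁅h, z⁆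
      set s := ⁅h, z⁆ with hs
      have hsY : s ∈ 𝒴 (a + 1 + b + 1 - i) := by
        have h1 : s ∈ 𝒴 (a + b + 1 - i + 1) := by
          apply Y2
          rw [hs, Subgroup.commutator_comm]
          exact Subgroup.commutator_mem_commutator hh hzY
        exact Y3 _ _ (by omega) h1
      have hsZ : s ∈ Zt := Y0 _ hsY
      -- q'' = q'⁻¹ q
      set q'' := q'⁻¹ * q with hq''def
      have hq'' : q'' ∈ 𝒳 (b + 1) := by
        apply X3
        have e : q'' = ⁅h⁻¹, q⁻¹⁆ := by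
          rw [hq''def, hq'def, commutatorElement_def]; group
        rw [e, Subgroup.commutator_comm]
        exact Subgroup.commutator_mem_commutator hh' (Subgroup.inv_mem _ hq)
      set r := ⁅y, q''⁆ with hr
      have hrY : r ∈ 𝒴 (a + 1 + b + 1 - i) := by
        have := hyq (b + 1) q'' hq''
        have e : a + (b + 1) + 1 - i = a + 1 + b + 1 - i := by omega
        rwa [e] at this
      have hrZ : r ∈ Zt := Y0 _ hrY
      -- ⁅y, q⁆ = z * r
      have e1 : ⁅y, q⁆ = z * r := by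
        have e2 : q = q' * q'' := by rw [hq''def]; group
        conv_lhs => rw [e2]
        rw [kcomm_mul_right]
        have hq'Q : q' ∈ Qt := X1 b hq'
        have : q' * r * q'⁻¹ = r := by
          rw [hZQ r hrZ q' hq'Q]; exact mul_inv_cancel_right r q'
        rw [this]
      -- ⁅w, q⁆ = s * z
      have e3 : ⁅h * y * h⁻¹, q⁆ = s * z := by
        have e4 : q = h * q' * h⁻¹ := by rw [hq'def]; group
        conv_lhs => rw [e4]
        rw [← kconj_comm, kconj_eq_comm_mul]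
      -- t
      set t := (s * z)⁻¹ with ht
      have htZ : t ∈ Zt := Subgroup.inv_mem _ (Zt.mul_mem hsZ hzZ)
      have e5 : ⁅x, q⁆ = x * t * x⁻¹ * ⁅y, q⁆ := by
        rw [ht, ← e3, hx]
        simp only [commutatorElement_def]; group
      rw [e5, kconj_eq_comm_mul, e1]
      have hxt : ⁅x, t⁆ ∈ 𝒴 (a + 1 + b + 1 - i) := Y1 _ (hUZ x hxU t htZ)
      have ht2 : t = z⁻¹ * s⁻¹ := by rw [ht, mul_inv_rev]
      have e6 : ⁅x, t⁆ * t * (z * r) = ⁅x, t⁆ * (s⁻¹ * r) := by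
        rw [mul_assoc ⁅x, t⁆]
        congr 1
        have hc : s⁻¹ * z = z * s⁻¹ := hZab _ (Zt.inv_mem hsZ) _ hzZ
        calc t * (z * r) = z⁻¹ * (s⁻¹ * z) * r := by rw [ht2]; simp only [mul_assoc]
          _ = z⁻¹ * (z * s⁻¹) * r := by rw [hc]
          _ = s⁻¹ * r := by rw [← mul_assoc z⁻¹, inv_mul_cancel, one_mul]
      rw [e6]
      exact Subgroup.mul_mem _ hxt (Subgroup.mul_mem _ (Subgroup.inv_mem _ hsY) hrY)
  intro x hx q hq
  have h1 := hmain (i + j - 1) hx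
  rw [hSa_mem] at h1
  have h2 := h1.2 0 q (le_sup_left (a := Cfsg.iterCommutator Qt H 0) (b := Qb) hq)
  have e : i + j - 1 + 0 + 1 - i = j := by omega
  rw [e] at h2
  exact Y4 h2

end core

section outer

variable {Y : Type*} [Group Y]

/-- The elements `u` of `U` with `⁅u, Qx⁆ ⊆ Zx`. -/
def commSub (U Qx Zx : Subgroup Y) [hZ : Zx.Normal] : Subgroup Y where
  carrier := {u | u ∈ U ∧ ∀ q ∈ Qx, ⁅u, q⁆ ∈ Zx}
  one_mem' := ⟨U.one_mem, fun q _ => by rw [commutatorElement_one_left]; exact Zx.one_mem⟩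
  mul_mem' := by
    rintro a b ⟨ha, haq⟩ ⟨hb, hbq⟩
    refine ⟨U.mul_mem ha hb, fun q hq => ?_⟩
    rw [kcomm_mul_left]
    exact Zx.mul_mem (hZ.conj_mem _ (hbq q hq) a) (haq q hq)
  inv_mem' := by
    rintro a ⟨ha, haq⟩
    refine ⟨U.inv_mem ha, fun q hq => ?_⟩
    rw [kcomm_inv_left]
    have := hZ.conj_mem _ (Zx.inv_mem (haq q hq)) a⁻¹
    rwa [inv_inv] at this

theorem mem_commSub {U Qx Zx : Subgroup Y} [hZ : Zx.Normal] {u : Y} :
    u ∈ commSub U Qx Zx ↔ u ∈ U ∧ ∀ q ∈ Qx, ⁅u, q⁆ ∈ Zx := Iff.rfl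

theorem commSub_le (U Qx Zx : Subgroup Y) [hZ : Zx.Normal] : commSub U Qx Zx ≤ U :=
  fun _ hu => hu.1

theorem commSub_normal (U Qx Zx : Subgroup Y) [hU : U.Normal] [hQ : Qx.Normal] [hZ : Zx.Normal] :
    (commSub U Qx Zx).Normal := by
  constructor
  rintro u ⟨hu, huq⟩ x
  refine ⟨hU.conj_mem u hu x, fun q hq => ?_⟩
  have hq' : x⁻¹ * q * x ∈ Qx := by
    have := hQ.conj_mem q hq x⁻¹
    rwa [inv_inv] at this
  have e : ⁅x * u * x⁻¹, q⁆ = x * ⁅u, x⁻¹ * q * x⁆ * x⁻¹ := by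
    rw [kconj_comm]; congr 1; group
  rw [e]
  exact hZ.conj_mem _ (huq _ hq') x

theorem chief_inf {U V Q : Subgroup Y} [hQ : Q.Normal] (hUV : Cfsg.IsChiefFactor U V)
    (h : ¬ U ⊓ Q ≤ V) : Cfsg.IsChiefFactor (U ⊓ Q) (V ⊓ Q) := by
  obtain ⟨hlt, hUn, hVn, hmin⟩ := hUV
  haveI := hUn
  haveI := hVn
  refine ⟨?_, inferInstance, inferInstance, ?_⟩
  · refine lt_of_le_of_ne (inf_le_inf_right Q hlt.le) ?_
    intro he
    apply h
    rw [← he]; exact inf_le_left
  · intro N hN h1 h2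
    haveI := hN
    rcases hmin (N ⊔ V) inferInstance le_sup_right (sup_le (le_trans h2 inf_le_left) hlt.le) with h3 | h3
    · left
      apply le_antisymm _ h1
      exact le_inf (le_trans le_sup_left h3.le) (le_trans h2 inf_le_right)
    · right
      apply le_antisymm h2
      intro x hx
      obtain ⟨hxU, hxQ⟩ := Subgroup.mem_inf.mp hx
      have hx' : x ∈ ((N ⊔ V : Subgroup Y) : Set Y) := by rw [h3]; exact hxU
      rw [Subgroup.mul_normal] at hx'
      obtain ⟨n, hn, v, hv, rfl⟩ := Set.mem_mul.mp hx'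
      have hnQ : n ∈ Q := (le_trans h2 inf_le_right) hn
      have hvQ : v ∈ Q := by
        have : v = n⁻¹ * (n * v) := by group
        rw [this]; exact Q.mul_mem (Q.inv_mem hnQ) hxQ
      exact N.mul_mem hn (h1 (Subgroup.mem_inf.mpr ⟨hv, hvQ⟩))

/-- From a normal subgroup `A < B` (both normal) one can find a chief factor `B/A'` with `A ≤ A'`. -/
theorem exists_chief_below [Finite Y] {A B : Subgroup Y} [hA : A.Normal] [hB : B.Normal]
    (hAB : A < B) : ∃ A' : Subgroup Y, A ≤ A' ∧ Cfsg.IsChiefFactor B A' := by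
  obtain ⟨M, ⟨hMn, hAM, hMB⟩, hMmax⟩ := (Set.toFinite {M : Subgroup Y | M.Normal ∧ A ≤ M ∧ M < B}).exists_maximal
    ⟨A, hA, le_rfl, hAB⟩
  refine ⟨M, hAM, hMB, hB, hMn, ?_⟩
  intro N hN h1 h2
  rcases eq_or_lt_of_le h2 with h3 | h3
  · right; exact h3
  · left
    exact le_antisymm (hMmax ⟨hN, le_trans hAM h1, h3⟩ h1) h1

/-- From normal subgroups `A < B` one can find a chief factor `B'/A` with `B' ≤ B`. -/
theorem exists_chief_above [Finite Y] {A B : Subgroup Y} [hA : A.Normal] [hB : B.Normal]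
    (hAB : A < B) : ∃ B' : Subgroup Y, B' ≤ B ∧ Cfsg.IsChiefFactor B' A := by
  obtain ⟨M, ⟨hMn, hAM, hMB⟩, hMmin⟩ := (Set.toFinite {M : Subgroup Y | M.Normal ∧ A < M ∧ M ≤ B}).exists_minimal
    ⟨B, hB, hAB, le_rfl⟩
  refine ⟨M, hMB, hAM, hMn, hA, ?_⟩
  intro N hN h1 h2
  rcases eq_or_lt_of_le h1 with h3 | h3
  · left; exact h3.symm
  · right
    exact le_antisymm h2 (hMmin ⟨hN, h3, le_trans h2 hMB⟩ h2)

end outer

section final

universe u

variable {G : Type u} [Group G] [Finite G] {p : ℕ} [hp : Fact p.Prime]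

/-- The chief factor bound `i + j - 1` for a normal `p`-subgroup `P` with a "critical" normal
subgroup `Q`: `[P, Q] ≤ Z(Q)` and `C_P(Q) = Z(Q)`. -/
theorem critical_bound (P : Subgroup G) [hPn : P.Normal] (hP : IsPGroup p ↥P) (Q : Subgroup G)
    [hQn : Q.Normal] (hQP : Q ≤ P)
    (hQ3 : ⁅P, Q⁆ ≤ Q ⊓ Subgroup.centralizer ((Q : Subgroup G) : Set G))
    (hQ4 : P ⊓ Subgroup.centralizer ((Q : Subgroup G) : Set G) =
      Q ⊓ Subgroup.centralizer ((Q : Subgroup G) : Set G))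
    (g : G) (i j : ℕ) (hi : 1 ≤ i) (hj : 1 ≤ j)
    (hQi : ∀ U V : Subgroup G, Cfsg.IsChiefFactor U V → U ≤ Q →
      Cfsg.iterCommutator U (Subgroup.zpowers g) i ≤ V)
    (hZj : ∀ U V : Subgroup G, Cfsg.IsChiefFactor U V →
      U ≤ Q ⊓ Subgroup.centralizer ((Q : Subgroup G) : Set G) →
      Cfsg.iterCommutator U (Subgroup.zpowers g) j ≤ V) :
    ∀ U V : Subgroup G, Cfsg.IsChiefFactor U V → U ≤ P →
      Cfsg.iterCommutator U (Subgroup.zpowers g) (i + j - 1) ≤ V := by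
  intro U V hUV hUP
  have hUn : U.Normal := hUV.2.1
  have hVn : V.Normal := hUV.2.2.1
  have hlt : V < U := hUV.1
  have hmin := hUV.2.2.2
  set Z := Q ⊓ Subgroup.centralizer ((Q : Subgroup G) : Set G) with hZdef
  haveI hZn : Z.Normal := inferInstance
  -- a normal subgroup of `U` not inside `V` generates `U` with `V`
  have hgen : ∀ N : Subgroup G, N.Normal → N ≤ U → ¬ N ≤ V → N ⊔ V = U := by
    intro N hN hNU hNV
    haveI := hN
    rcases hmin (N ⊔ V) inferInstance le_sup_right (sup_le hNU hlt.le) with h | h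
    · exact absurd (le_trans le_sup_left h.le) hNV
    · exact h
  -- reduction: it suffices to bound a normal subgroup not inside `V`
  have hred : ∀ N : Subgroup G, N.Normal → N ≤ U → ¬ N ≤ V →
      Cfsg.iterCommutator N (Subgroup.zpowers g) (i + j - 1) ≤ V →
      Cfsg.iterCommutator U (Subgroup.zpowers g) (i + j - 1) ≤ V := by
    intro N hN hNU hNV h
    rw [← hgen N hN hNU hNV]
    exact le_trans (iter_sup_le N V _ _) (sup_le h le_rfl)
  by_cases hc1 : U ⊓ Q ≤ V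
  swap
  · -- case 1
    have hch := chief_inf (Q := Q) hUV hc1
    have h1 := hQi _ _ hch inf_le_right
    apply hred (U ⊓ Q) inferInstance inf_le_left hc1
    exact iter_le_of_normal (le_trans h1 inf_le_left) (by omega)
  · -- case 2
    -- step (a): minimal Z'
    have hUQZ : ∀ u ∈ U, ∀ q ∈ Q, ⁅u, q⁆ ∈ Z := fun u hu q hq =>
      hQ3 (Subgroup.commutator_mem_commutator (hUP hu) hq)
    obtain ⟨Z', ⟨hZ'n, hZ'Z, hZ'V⟩, hZ'min⟩ :=
      (Set.toFinite {Z₁ : Subgroup G | ∃ h : Z₁.Normal, Z₁ ≤ Z ∧ ¬ commSub U Q Z₁ ≤ V}).exists_minimal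
        ⟨Z, hZn, le_rfl, fun h => (not_le_of_gt hlt) (fun u hu => h ⟨hu, hUQZ u hu⟩)⟩
    haveI := hZ'n
    have hZ'ne : Z' ≠ ⊥ := by
      intro hbot
      apply hZ'V
      intro u hu
      obtain ⟨huU, huq⟩ := hu
      apply hc1
      refine Subgroup.mem_inf.mpr ⟨huU, ?_⟩
      have hcen : u ∈ Subgroup.centralizer ((Q : Subgroup G) : Set G) := by
        rw [Subgroup.mem_centralizer_iff]
        intro q hq
        have h1 := huq q hq
        rw [hbot, Subgroup.mem_bot] at h1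
        have h2 : u * q = q * u := by
          have : ⁅u, q⁆ * (q * u) = u * q := by rw [commutatorElement_def]; group
          rw [← this, h1, one_mul]
        exact h2.symm
      have : u ∈ P ⊓ Subgroup.centralizer ((Q : Subgroup G) : Set G) :=
        Subgroup.mem_inf.mpr ⟨hUP huU, hcen⟩
      rw [hQ4] at this
      exact (Subgroup.mem_inf.mp this).1
    obtain ⟨Z'', -, hZch⟩ := exists_chief_below (A := (⊥ : Subgroup G)) (B := Z') (bot_lt_iff_ne_bot.mpr hZ'ne)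
    have hZ''n : Z''.Normal := hZch.2.2.1
    haveI := hZ''n
    have hZ''lt : Z'' < Z' := hZch.1
    have hZ''V : commSub U Q Z'' ≤ V := by
      by_contra hne
      have := hZ'min ⟨hZ''n, le_trans hZ''lt.le hZ'Z, hne⟩ hZ''lt.le
      exact (not_le_of_gt hZ''lt) this
    -- step (b): maximal Q'
    set U₁ := commSub U Q Z' with hU₁
    haveI hU₁n : U₁.Normal := commSub_normal U Q Z'
    obtain ⟨Q', ⟨hQ'n, hQ'Q, hQ'V⟩, hQ'max⟩ :=
      (Set.toFinite {Q₁ : Subgroup G | ∃ h : Q₁.Normal, Q₁ ≤ Q ∧ ¬ commSub U₁ Q₁ Z'' ≤ V}).exists_maximal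
        ⟨⊥, inferInstance, bot_le, fun h => hZ'V (fun u hu => h ⟨hu, fun q hq => by
          rw [Subgroup.mem_bot] at hq
          rw [hq, commutatorElement_one_right]; exact Subgroup.one_mem _⟩)⟩
    haveI := hQ'n
    have hQ'lt : Q' < Q := by
      refine lt_of_le_of_ne hQ'Q ?_
      intro he
      apply hQ'V
      rw [he]
      intro u hu
      exact hZ''V ⟨hu.1.1, hu.2⟩
    obtain ⟨Q'', hQ''Q, hQch⟩ := exists_chief_above hQ'lt
    have hQ''n : Q''.Normal := hQch.2.1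
    haveI := hQ''n
    have hQ''lt : Q' < Q'' := hQch.1
    have hQ''V : commSub U₁ Q'' Z'' ≤ V := by
      by_contra hne
      have := hQ'max ⟨hQ''n, hQ''Q, hne⟩ hQ''lt.le
      exact (not_le_of_gt hQ''lt) this
    set Us := commSub U₁ Q' Z'' with hUs
    haveI hUsn : Us.Normal := commSub_normal U₁ Q' Z''
    have hUsU : Us ≤ U := le_trans (commSub_le _ _ _) (commSub_le _ _ _)
    apply hred Us hUsn hUsU hQ'V
    -- apply the Hom bound
    have hcent := chief_centralized P hP Z' Z'' hZch (le_trans hZ'Z (le_trans inf_le_left hQP))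
    have hb := hom_bound g i j hi Us Q'' Q' Z' Z'' hQ''lt.le hZ''lt.le
      (fun a ha b hb => by
        have h1 := (Subgroup.mem_inf.mp (hZ'Z ha)).2
        have h2 := (Subgroup.mem_inf.mp (hZ'Z hb)).1
        exact (Subgroup.mem_centralizer_iff.mp h1 b h2).symm)
      (fun z hz q hq => by
        have h1 := (Subgroup.mem_inf.mp (hZ'Z hz)).2
        exact Subgroup.mem_centralizer_iff.mp h1 q (hQ''Q hq))
      (fun u hu t ht => by
        have h1 : ⁅t, u⁆ ∈ Z'' := hcent (Subgroup.commutator_mem_commutator ht (hUP (hUsU hu)))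
        have e : ⁅u, t⁆ = (⁅t, u⁆)⁻¹ := by simp only [commutatorElement_def]; group
        rw [e]; exact Subgroup.inv_mem _ h1)
      (fun u hu q hq => hu.1.2 q (hQ''Q hq))
      (fun u hu q hq => hu.2 q hq)
      (hQi Q'' Q' hQch hQ''Q)
      (hZj Z' Z'' hZch hZ'Z)
    refine le_trans ?_ hQ''V
    intro x hx
    have hxUs : x ∈ Us := iter_le_self Us _ _ hx
    exact ⟨hxUs.1, fun q hq => hb x hx q hq⟩

end final

end Cfsg.Agent.helper10
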