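import Mathlib
import Cfsg.Prelude.Def_LocalEven
import Cfsg.Agent.Lib_helper1_Core
import Cfsg.Agent.Lib_helper10_Sec2
import Cfsg.Agent.Lib_helper10_KInf3

/-!
`p`-stability in the normalizer form: the radical `psRad p P` (preimage of
`O_p(N(P)/C(P))`), invariance under isomorphism, inheritance by sections, and some
general lemmas on normal `p`-subgroups.
-/

set_option autoImplicit false

namespace Cfsg.Agent.helper10

open Cfsg
open scoped commutatorElement

universe u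

section psbasic

variable {X : Type*} [Group X]

/-- A subgroup whose elements of order prime to `p` are trivial is a `p`-group. -/
theorem isPGroup_of_coprime_trivial [Finite X] {p : ℕ} [hp : Fact p.Prime] (O : Subgroup X)
    (h : ∀ y ∈ O, (orderOf y).Coprime p → y = 1) : IsPGroup p ↥O := by
  intro x
  have hn : orderOf (x : X) ≠ 0 := (orderOf_pos (x : X)).ne'
  refine ⟨(orderOf (x : X)).factorization p, ?_⟩
  have hy : ((x : X) ^ (p ^ (orderOf (x : X)).factorization p)) ∈ O := O.pow_mem x.2 _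
  have hpk : p ^ (orderOf (x : X)).factorization p ≠ 0 := pow_ne_zero _ hp.out.ne_zero
  have hord : orderOf ((x : X) ^ (p ^ (orderOf (x : X)).factorization p)) =
      orderOf (x : X) / p ^ (orderOf (x : X)).factorization p := by
    rw [orderOf_pow' _ hpk]
    congr 1
    exact Nat.gcd_eq_right (Nat.ordProj_dvd _ p)
  have hcop : (orderOf ((x : X) ^ (p ^ (orderOf (x : X)).factorization p))).Coprime p := by
    rw [hord]
    exact (Nat.coprime_ordCompl hp.out hn).symm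
  have h1 := h _ hy hcop
  apply Subtype.ext
  simpa using h1

theorem eq_one_of_isPGroup_of_coprime {p : ℕ} [hp : Fact p.Prime] {O : Subgroup X}
    (hO : IsPGroup p ↥O) {y : X} (hy : y ∈ O) (hc : (orderOf y).Coprime p) : y = 1 := by
  obtain ⟨k, hk⟩ := hO ⟨y, hy⟩
  have h1 : y ^ (p ^ k) = 1 := by simpa using congrArg Subtype.val hk
  have h2 : orderOf y ∣ p ^ k := orderOf_dvd_of_pow_eq_one h1
  have h3 : orderOf y = 1 := Nat.Coprime.eq_one_of_dvd (Nat.Coprime.pow_right k hc) h2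
  exact orderOf_eq_one_iff.mp h3

/-- Coprime action on a chain `1 ≤ A₀ ≤ A`. -/
theorem coprime_centralizes_chain {p : ℕ} [hp : Fact p.Prime] (A₀ A : Subgroup X)
    (hA₀ : IsPGroup p ↥A₀) (y : X) (hy : (orderOf y).Coprime p)
    (h0 : y ∈ Subgroup.centralizer (A₀ : Set X))
    (h1 : ∀ a ∈ A, y * a * y⁻¹ * a⁻¹ ∈ A₀) : y ∈ Subgroup.centralizer (A : Set X) := by
  rw [Subgroup.mem_centralizer_iff]
  intro a ha
  have hcA : y * a * y⁻¹ * a⁻¹ ∈ A₀ := h1 a ha
  have hyc : Commute y (y * a * y⁻¹ * a⁻¹) :=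
    (Subgroup.mem_centralizer_iff.mp h0 _ hcA).symm
  have hpow : ∀ k : ℕ, y ^ k * a * (y ^ k)⁻¹ = (y * a * y⁻¹ * a⁻¹) ^ k * a := by
    intro k
    induction k with
    | zero => simp
    | succ k ih =>
      have e1 : y ^ (k + 1) * a * (y ^ (k + 1))⁻¹ = y * (y ^ k * a * (y ^ k)⁻¹) * y⁻¹ := by
        rw [pow_succ']; group
      rw [e1, ih]
      have e3 : y * (y * a * y⁻¹ * a⁻¹) ^ k = (y * a * y⁻¹ * a⁻¹) ^ k * y :=
        (hyc.pow_right k).eq
      calc y * ((y * a * y⁻¹ * a⁻¹) ^ k * a) * y⁻¹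
          = (y * (y * a * y⁻¹ * a⁻¹) ^ k) * a * y⁻¹ := by group
        _ = (y * a * y⁻¹ * a⁻¹) ^ k * y * a * y⁻¹ := by rw [e3]
        _ = (y * a * y⁻¹ * a⁻¹) ^ k * (y * a * y⁻¹ * a⁻¹) * a := by group
        _ = (y * a * y⁻¹ * a⁻¹) ^ (k + 1) * a := by rw [pow_succ]
  have h2 := hpow (orderOf y)
  rw [pow_orderOf_eq_one] at h2
  have h3 : (y * a * y⁻¹ * a⁻¹) ^ orderOf y = 1 := by
    have := congrArg (· * a⁻¹) h2
    simpa using this.symm
  have h4 : orderOf (y * a * y⁻¹ * a⁻¹) ∣ orderOf y := orderOf_dvd_of_pow_eq_one h3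
  have h5 : y * a * y⁻¹ * a⁻¹ = 1 :=
    eq_one_of_isPGroup_of_coprime hA₀ hcA (Nat.Coprime.coprime_dvd_left h4 hy)
  have : y * a = a * y := by
    have := congrArg (· * a * y) h5
    simpa [mul_assoc] using this
  exact this.symm

theorem le_normalizer_of_conj_mem {B K : Subgroup X}
    (h : ∀ b ∈ B, ∀ k ∈ K, b * k * b⁻¹ ∈ K) : B ≤ Subgroup.normalizer (K : Set X) := by
  intro b hb
  rw [Subgroup.mem_normalizer_iff]
  intro k
  refine ⟨h b hb k, fun hk => ?_⟩
  have := h b⁻¹ (B.inv_mem hb) _ hk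
  simpa [mul_assoc] using this

/-- The preimage in `N_X(P)` of `O_p(N_X(P)/C_X(P))`, as a subgroup of `X`. -/
def psRad (p : ℕ) (P : Subgroup X) : Subgroup X :=
  ((Cfsg.pCore p (↥(Subgroup.normalizer (P : Set X)) ⧸
      (Subgroup.centralizer (P : Set X)).subgroupOf (Subgroup.normalizer (P : Set X)))).comap
    (QuotientGroup.mk' ((Subgroup.centralizer (P : Set X)).subgroupOf
      (Subgroup.normalizer (P : Set X))))).map (Subgroup.normalizer (P : Set X)).subtype

theorem mem_psRad {p : ℕ} {P : Subgroup X} {g : X} :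
    g ∈ psRad p P ↔ ∃ hg : g ∈ Subgroup.normalizer (P : Set X),
      (QuotientGroup.mk (s := (Subgroup.centralizer (P : Set X)).subgroupOf
          (Subgroup.normalizer (P : Set X)))
        (⟨g, hg⟩ : ↥(Subgroup.normalizer (P : Set X)))) ∈
        Cfsg.pCore p (↥(Subgroup.normalizer (P : Set X)) ⧸
          (Subgroup.centralizer (P : Set X)).subgroupOf (Subgroup.normalizer (P : Set X))) := by
  constructor
  · rintro ⟨⟨x, hx⟩, h, rfl⟩
    exact ⟨hx, h⟩
  · rintro ⟨hg, h⟩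
    exact ⟨⟨g, hg⟩, h, rfl⟩

theorem mem_psRad_of_stable {p : ℕ} (h : Cfsg.IsNormalizerPStable p X) {P : Subgroup X}
    (hP : IsPGroup p ↥P) {g : X} (hg : g ∈ Subgroup.normalizer (P : Set X))
    (hq : ⁅⁅P, Subgroup.zpowers g⁆, Subgroup.zpowers g⁆ = ⊥) : g ∈ psRad p P :=
  mem_psRad.mpr ⟨hg, h P hP g hg hq⟩

theorem psRad_le_normalizer (p : ℕ) (P : Subgroup X) :
    psRad p P ≤ Subgroup.normalizer (P : Set X) := by
  rintro _ ⟨x, -, rfl⟩; exact x.2

theorem psRad_conj_mem {p : ℕ} {P : Subgroup X} {n x : X}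
    (hn : n ∈ Subgroup.normalizer (P : Set X)) (hx : x ∈ psRad p P) :
    n * x * n⁻¹ ∈ psRad p P := by
  obtain ⟨hxN, hx'⟩ := mem_psRad.mp hx
  refine mem_psRad.mpr ⟨Subgroup.mul_mem _ (Subgroup.mul_mem _ hn hxN) (Subgroup.inv_mem _ hn), ?_⟩
  have h1 := (Cfsg.Agent.helper1.pCore_normal (G := ↥(Subgroup.normalizer (P : Set X)) ⧸
      (Subgroup.centralizer (P : Set X)).subgroupOf (Subgroup.normalizer (P : Set X))) p).conj_mem
    _ hx' (QuotientGroup.mk ⟨n, hn⟩)
  exact h1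

theorem exists_pow_mem_centralizer_of_mem_psRad {p : ℕ} {P : Subgroup X} {x : X}
    (hx : x ∈ psRad p P) : ∃ k : ℕ, x ^ (p ^ k) ∈ Subgroup.centralizer (P : Set X) := by
  obtain ⟨hxN, hx'⟩ := mem_psRad.mp hx
  obtain ⟨k, hk⟩ := (Cfsg.Agent.helper1.pCore_isPGroup (G := ↥(Subgroup.normalizer (P : Set X)) ⧸
      (Subgroup.centralizer (P : Set X)).subgroupOf (Subgroup.normalizer (P : Set X))) p) ⟨_, hx'⟩
  refine ⟨k, ?_⟩
  have h1 : (QuotientGroup.mk (s := (Subgroup.centralizer (P : Set X)).subgroupOf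
          (Subgroup.normalizer (P : Set X)))
        (⟨x, hxN⟩ : ↥(Subgroup.normalizer (P : Set X)))) ^ (p ^ k) = 1 := by
    simpa using congrArg Subtype.val hk
  rw [← QuotientGroup.mk_pow, QuotientGroup.eq_one_iff, Subgroup.mem_subgroupOf] at h1
  simpa using h1

theorem mem_centralizer_of_mem_psRad_coprime {p : ℕ} [hp : Fact p.Prime] {P : Subgroup X} {y : X}
    (hy : y ∈ psRad p P) (hc : (orderOf y).Coprime p) :
    y ∈ Subgroup.centralizer (P : Set X) := by
  obtain ⟨hyN, hy'⟩ := mem_psRad.mp hy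
  have hO := Cfsg.Agent.helper1.pCore_isPGroup (G := ↥(Subgroup.normalizer (P : Set X)) ⧸
      (Subgroup.centralizer (P : Set X)).subgroupOf (Subgroup.normalizer (P : Set X))) p
  have hd : orderOf (QuotientGroup.mk' ((Subgroup.centralizer (P : Set X)).subgroupOf
      (Subgroup.normalizer (P : Set X))) ⟨y, hyN⟩) ∣
      orderOf (⟨y, hyN⟩ : ↥(Subgroup.normalizer (P : Set X))) := orderOf_map_dvd _ _
  rw [Subgroup.orderOf_mk] at hd
  have h1 := eq_one_of_isPGroup_of_coprime hO hy' (Nat.Coprime.coprime_dvd_left hd hc)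
  have h2 := (QuotientGroup.eq_one_iff _).mp h1
  exact Subgroup.mem_subgroupOf.mp h2

/-- Intrinsic criterion for membership in the radical. -/
theorem mem_psRad_of_subgroup {p : ℕ} {P : Subgroup X} (O : Subgroup X)
    (hON : O ≤ Subgroup.normalizer (P : Set X))
    (hconj : ∀ n ∈ Subgroup.normalizer (P : Set X), ∀ x ∈ O, n * x * n⁻¹ ∈ O)
    (hpow : ∀ x ∈ O, ∃ k : ℕ, x ^ (p ^ k) ∈ Subgroup.centralizer (P : Set X))
    {g : X} (hg : g ∈ O) : g ∈ psRad p P := by
  refine mem_psRad.mpr ⟨hON hg, ?_⟩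
  have hO'n : ((O.subgroupOf (Subgroup.normalizer (P : Set X))).map
      (QuotientGroup.mk' ((Subgroup.centralizer (P : Set X)).subgroupOf
        (Subgroup.normalizer (P : Set X))))).Normal := by
    apply Subgroup.Normal.map _ _ (QuotientGroup.mk'_surjective _)
    constructor
    intro x hx n
    rw [Subgroup.mem_subgroupOf] at hx ⊢
    exact hconj n n.2 x hx
  have hO'p : IsPGroup p ↥((O.subgroupOf (Subgroup.normalizer (P : Set X))).map
      (QuotientGroup.mk' ((Subgroup.centralizer (P : Set X)).subgroupOf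
        (Subgroup.normalizer (P : Set X))))) := by
    rintro ⟨_, ⟨x, hx, rfl⟩⟩
    obtain ⟨k, hk⟩ := hpow x (Subgroup.mem_subgroupOf.mp hx)
    refine ⟨k, Subtype.ext ?_⟩
    show (QuotientGroup.mk' _ x) ^ (p ^ k) = 1
    rw [← map_pow, QuotientGroup.mk'_apply, QuotientGroup.eq_one_iff, Subgroup.mem_subgroupOf]
    simpa using hk
  exact Cfsg.Agent.helper1.le_pCore hO'n hO'p
    ⟨⟨g, hON hg⟩, Subgroup.mem_subgroupOf.mpr hg, rfl⟩

theorem mem_normalizer_comap_equiv {Y : Type*} [Group Y] (e : X ≃* Y) (P' : Subgroup Y) (x : X) :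
    x ∈ Subgroup.normalizer ((P'.comap e.toMonoidHom : Subgroup X) : Set X) ↔
      e x ∈ Subgroup.normalizer (P' : Set Y) := by
  rw [Subgroup.mem_normalizer_iff, Subgroup.mem_normalizer_iff]
  constructor
  · intro h y'
    have := h (e.symm y')
    simp only [Subgroup.mem_comap, MulEquiv.coe_toMonoidHom, map_mul, map_inv,
      MulEquiv.apply_symm_apply] at this
    exact this
  · intro h y
    have := h (e y)
    simp only [Subgroup.mem_comap, MulEquiv.coe_toMonoidHom, map_mul, map_inv]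
    exact this

/-- `p`-stability in the normalizer form is invariant under isomorphism. -/
theorem isNormalizerPStable_of_equiv {Y : Type*} [Group Y] {p : ℕ} (e : X ≃* Y)
    (h : Cfsg.IsNormalizerPStable p X) : Cfsg.IsNormalizerPStable p Y := by
  intro P' hP' g' hg' hq'
  have hPmap : (P'.comap e.toMonoidHom).map e.toMonoidHom = P' :=
    Subgroup.map_comap_eq_self_of_surjective e.surjective P'
  have hPp : IsPGroup p ↥(P'.comap e.toMonoidHom) :=
    hP'.comap_of_injective e.toMonoidHom e.injective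
  have heg : e (e.symm g') = g' := e.apply_symm_apply g'
  have hgN : e.symm g' ∈ Subgroup.normalizer ((P'.comap e.toMonoidHom : Subgroup X) : Set X) := by
    rw [mem_normalizer_comap_equiv, heg]; exact hg'
  have hq : ⁅⁅P'.comap e.toMonoidHom, Subgroup.zpowers (e.symm g')⁆,
      Subgroup.zpowers (e.symm g')⁆ = ⊥ := by
    rw [← (Subgroup.map_eq_bot_iff_of_injective _ (f := e.toMonoidHom) e.injective),
      Subgroup.map_commutator, Subgroup.map_commutator, hPmap, MonoidHom.map_zpowers]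
    simp only [MulEquiv.coe_toMonoidHom, heg]
    exact hq'
  have hmem : e.symm g' ∈ psRad p (P'.comap e.toMonoidHom) := mem_psRad_of_stable h hPp hgN hq
  have hfin : g' ∈ psRad p P' := by
    apply mem_psRad_of_subgroup ((psRad p (P'.comap e.toMonoidHom)).map e.toMonoidHom)
    · rintro _ ⟨x, hx, rfl⟩
      exact (mem_normalizer_comap_equiv e P' x).mp (psRad_le_normalizer _ _ hx)
    · rintro n hn _ ⟨x, hx, rfl⟩
      refine ⟨e.symm n * x * (e.symm n)⁻¹, psRad_conj_mem ?_ hx, by simp⟩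
      rw [mem_normalizer_comap_equiv, e.apply_symm_apply]; exact hn
    · rintro _ ⟨x, hx, rfl⟩
      obtain ⟨k, hk⟩ := exists_pow_mem_centralizer_of_mem_psRad hx
      refine ⟨k, ?_⟩
      rw [Subgroup.mem_centralizer_iff] at hk ⊢
      intro y' hy'
      have hy : e.symm y' ∈ P'.comap e.toMonoidHom := by
        show e (e.symm y') ∈ P'
        rw [e.apply_symm_apply]; exact hy'
      have := congrArg e (hk _ hy)
      simpa using this
    · exact ⟨e.symm g', hmem, heg⟩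
  obtain ⟨_, h2⟩ := mem_psRad.mp hfin
  exact h2

end psbasic

section pst

/-- All sections of `X` (surjective images of subgroups) are `p`-stable in the normalizer form. -/
def PSt (p : ℕ) (X : Type u) [Group X] : Prop :=
  ∀ (K : Subgroup X) (Y : Type u) [Group Y] (f : K →* Y), Function.Surjective f →
    Cfsg.IsNormalizerPStable p Y

variable {X Y : Type u} [Group X] [Group Y] {p : ℕ}

theorem pst_subgroup (H : Subgroup X) (h : PSt p X) : PSt p H := by
  intro K' Z _ f hf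
  let e : K' ≃* (K'.map H.subtype) := K'.equivMapOfInjective H.subtype H.subtype_injective
  exact h (K'.map H.subtype) Z (f.comp e.symm.toMonoidHom) (hf.comp e.symm.surjective)

theorem pst_surj (π : X →* Y) (hπ : Function.Surjective π) (h : PSt p X) : PSt p Y := by
  intro K' Z _ f hf
  let K : Subgroup X := K'.comap π
  let g : K →* K' := (π.comp K.subtype).codRestrict K' (fun x => x.2)
  have hg : Function.Surjective g := by
    rintro ⟨y, hy⟩
    obtain ⟨x, rfl⟩ := hπ y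
    exact ⟨⟨x, hy⟩, rfl⟩
  exact h K Z (f.comp g) (hf.comp hg)

theorem pst_quotient (N : Subgroup X) [N.Normal] (h : PSt p X) : PSt p (X ⧸ N) :=
  pst_surj (QuotientGroup.mk' N) (QuotientGroup.mk'_surjective N) h

theorem pst_image (K : Subgroup X) (f : K →* Y) (hf : Function.Surjective f) (h : PSt p X) :
    PSt p Y :=
  pst_surj f hf (pst_subgroup K h)

theorem pst_top (h : PSt p X) : Cfsg.IsNormalizerPStable p X :=
  h ⊤ X (⊤ : Subgroup X).subtype (fun x => ⟨⟨x, Subgroup.mem_top x⟩, rfl⟩)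

theorem pst_of_sections {G : Type u} [Group G]
    (hst : ∀ (K R : Subgroup G) [hR : (R.subgroupOf K).Normal],
      Cfsg.IsNormalizerPStable p (↥K ⧸ R.subgroupOf K)) : PSt p G := by
  intro K Z _ f hf
  have hRk : (f.ker.map K.subtype).subgroupOf K = f.ker :=
    Subgroup.comap_map_eq_self_of_injective K.subtype_injective _
  haveI hRn : ((f.ker.map K.subtype).subgroupOf K).Normal := by rw [hRk]; infer_instance
  let e : (↥K ⧸ (f.ker.map K.subtype).subgroupOf K) ≃* Z :=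
    (QuotientGroup.quotientMulEquivOfEq hRk).trans (QuotientGroup.quotientKerEquivOfSurjective f hf)
  exact isNormalizerPStable_of_equiv e (hst K (f.ker.map K.subtype))

end pst

section normalp

variable {X : Type u} [Group X] [Finite X] {p : ℕ} [hp : Fact p.Prime]

theorem sylow_sup_eq_top {K : Type*} [Group K] [Finite K] (P : Sylow p K) (N : Subgroup K)
    [N.Normal] (h : IsPGroup p (K ⧸ N)) : (P : Subgroup K) ⊔ N = ⊤ := by
  rw [← Subgroup.index_eq_one]
  have h1 : ((P : Subgroup K) ⊔ N).index ∣ (P : Subgroup K).index :=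
    Subgroup.index_dvd_of_le le_sup_left
  have h2 : ((P : Subgroup K) ⊔ N).index ∣ N.index := Subgroup.index_dvd_of_le le_sup_right
  obtain ⟨n, hn⟩ := h.exists_card_eq
  rw [Subgroup.index_eq_card N, hn] at h2
  obtain ⟨k, -, hk⟩ := (Nat.dvd_prime_pow hp.out).mp h2
  rcases Nat.eq_zero_or_pos k with h0 | hpos
  · rw [hk, h0, pow_zero]
  · exfalso
    apply P.not_dvd_index
    have : p ∣ ((P : Subgroup K) ⊔ N).index := by rw [hk]; exact dvd_pow_self p hpos.ne'
    exact dvd_trans this h1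

/-- A `p`-subgroup normalized by a normal subgroup containing it lies in `O_p`. -/
theorem le_pCore_of_normal_in_normal (N Y : Subgroup X) [hN : N.Normal] (hYN : Y ≤ N)
    (hY : IsPGroup p ↥Y) (hconj : ∀ n ∈ N, ∀ y ∈ Y, n * y * n⁻¹ ∈ Y) :
    Y ≤ Cfsg.pCore p X := by
  have h1 : (Y.subgroupOf N) ≤ Cfsg.pCore p ↥N := by
    apply Cfsg.Agent.helper1.le_pCore
    · constructor
      intro y hy n
      rw [Subgroup.mem_subgroupOf] at hy ⊢
      exact hconj n n.2 y hy
    · exact hY.comap_subtype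
  have h2 : ((Cfsg.pCore p ↥N).map N.subtype) ≤ Cfsg.pCore p X := by
    apply Cfsg.Agent.helper1.le_pCore
    · constructor
      rintro _ ⟨t, ht, rfl⟩ x
      have h3 := pCore_map_equiv p (MulAut.conjNormal x : ↥N ≃* ↥N)
      have ht' : (MulAut.conjNormal x : ↥N ≃* ↥N) t ∈ Cfsg.pCore p ↥N := by
        rw [← h3]; exact ⟨t, ht, rfl⟩
      exact ⟨_, ht', by simp [MulAut.conjNormal_apply]⟩
    · exact (Cfsg.Agent.helper1.pCore_isPGroup p).map _
  intro y hy
  exact h2 ⟨⟨y, hYN hy⟩, h1 (Subgroup.mem_subgroupOf.mpr hy), rfl⟩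

/-- If `g` is a `p`-element of a normal subgroup `P₁` that is a `p`-group modulo the normal
subgroup `N₀`, and `g` centralizes `N₀` modulo `O_p(X)`, then `g ∈ O_p(X)`. -/
theorem mem_pCore_of_comm_le (N₀ P₁ : Subgroup X) [hN₀ : N₀.Normal] [hP₁n : P₁.Normal]
    (hTP : Cfsg.pCore p X ≤ P₁)
    (hP₁ : ∀ x ∈ P₁, ∃ k : ℕ, x ^ (p ^ k) ∈ N₀)
    (g : X) (hg : g ∈ P₁) (hgp : ∃ k : ℕ, g ^ (p ^ k) = 1)
    (hcomm : ∀ n ∈ N₀, ⁅g, n⁆ ∈ Cfsg.pCore p X) : g ∈ Cfsg.pCore p X := by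
  haveI hTn : (Cfsg.pCore p X).Normal := Cfsg.Agent.helper1.pCore_normal p
  have hTp : IsPGroup p ↥(Cfsg.pCore p X) := Cfsg.Agent.helper1.pCore_isPGroup p
  haveI hCn : (commSub P₁ N₀ (Cfsg.pCore p X)).Normal := commSub_normal P₁ N₀ (Cfsg.pCore p X)
  have hgC : g ∈ commSub P₁ N₀ (Cfsg.pCore p X) := ⟨hg, hcomm⟩
  have hTC : Cfsg.pCore p X ≤ commSub P₁ N₀ (Cfsg.pCore p X) := by
    intro t ht
    refine ⟨hTP ht, fun n _ => ?_⟩
    rw [commutatorElement_def]
    have h1 : n * t⁻¹ * n⁻¹ ∈ Cfsg.pCore p X := hTn.conj_mem _ (Subgroup.inv_mem _ ht) n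
    have e : t * n * t⁻¹ * n⁻¹ = t * (n * t⁻¹ * n⁻¹) := by group
    rw [e]; exact Subgroup.mul_mem _ ht h1
  obtain ⟨k, hk⟩ := hgp
  have hk' : (⟨g, hgC⟩ : ↥(commSub P₁ N₀ (Cfsg.pCore p X))) ^ (p ^ k) = 1 :=
    Subtype.ext (by simpa using hk)
  have hzp : IsPGroup p ↥(Subgroup.zpowers
      (⟨g, hgC⟩ : ↥(commSub P₁ N₀ (Cfsg.pCore p X)))) := by
    rintro ⟨_, ⟨j, rfl⟩⟩
    refine ⟨k, Subtype.ext ?_⟩
    show ((⟨g, hgC⟩ : ↥(commSub P₁ N₀ (Cfsg.pCore p X))) ^ j) ^ (p ^ k) = 1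
    rw [← zpow_natCast, ← zpow_mul, mul_comm, zpow_mul, zpow_natCast, hk', one_zpow]
  obtain ⟨Pc, hPc⟩ := hzp.exists_le_sylow
  have hgPc : (⟨g, hgC⟩ : ↥(commSub P₁ N₀ (Cfsg.pCore p X))) ∈ Pc :=
    hPc (Subgroup.mem_zpowers _)
  have hTPc : (Cfsg.pCore p X).subgroupOf (commSub P₁ N₀ (Cfsg.pCore p X)) ≤ Pc := by
    have h1 : (Cfsg.pCore p X).subgroupOf (commSub P₁ N₀ (Cfsg.pCore p X)) ≤
        Cfsg.pCore p ↥(commSub P₁ N₀ (Cfsg.pCore p X)) :=
      Cfsg.Agent.helper1.le_pCore Subgroup.normal_subgroupOf hTp.comap_subtype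
    exact le_trans h1 (Cfsg.Agent.helper1.pCore_le_sylow Pc)
  have hquot : IsPGroup p (↥(commSub P₁ N₀ (Cfsg.pCore p X)) ⧸
      N₀.subgroupOf (commSub P₁ N₀ (Cfsg.pCore p X))) := by
    intro q
    obtain ⟨c, rfl⟩ := QuotientGroup.mk_surjective q
    obtain ⟨k', hk''⟩ := hP₁ c c.2.1
    refine ⟨k', ?_⟩
    rw [← QuotientGroup.mk_pow, QuotientGroup.eq_one_iff, Subgroup.mem_subgroupOf]
    simpa using hk''
  have hsup := sylow_sup_eq_top Pc (N₀.subgroupOf (commSub P₁ N₀ (Cfsg.pCore p X))) hquot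
  have key : ∀ w : ↥(commSub P₁ N₀ (Cfsg.pCore p X)), (w : X) ∈ N₀ → ∀ π ∈ Pc,
      w * π * w⁻¹ ∈ Pc := by
    intro w hw π hπ
    have ht : (⁅(π : X), (w : X)⁆)⁻¹ ∈ Cfsg.pCore p X :=
      Subgroup.inv_mem _ (π.2.2 _ hw)
    have e : w * π * w⁻¹ = (⟨(⁅(π : X), (w : X)⁆)⁻¹, hTC ht⟩ :
        ↥(commSub P₁ N₀ (Cfsg.pCore p X))) * π := by
      apply Subtype.ext
      simp only [Subgroup.coe_mul, Subgroup.coe_inv, commutatorElement_def]
      group
    rw [e]
    exact Subgroup.mul_mem _ (hTPc (Subgroup.mem_subgroupOf.mpr ht)) hπ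
  have hZnorm : N₀.subgroupOf (commSub P₁ N₀ (Cfsg.pCore p X)) ≤
      Subgroup.normalizer ((Pc : Subgroup ↥(commSub P₁ N₀ (Cfsg.pCore p X))) : Set _) := by
    apply le_normalizer_of_conj_mem
    intro z hz π hπ
    exact key z (Subgroup.mem_subgroupOf.mp hz) π hπ
  have htop : (⊤ : Subgroup ↥(commSub P₁ N₀ (Cfsg.pCore p X))) ≤
      Subgroup.normalizer ((Pc : Subgroup ↥(commSub P₁ N₀ (Cfsg.pCore p X))) : Set _) := by
    rw [← hsup]; exact sup_le Subgroup.le_normalizer hZnorm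
  have hCle : commSub P₁ N₀ (Cfsg.pCore p X) ≤
      Subgroup.normalizer (((Pc : Subgroup ↥(commSub P₁ N₀ (Cfsg.pCore p X))).map
        (commSub P₁ N₀ (Cfsg.pCore p X)).subtype : Subgroup X) : Set X) := by
    intro c hc
    exact Subgroup.le_normalizer_map (commSub P₁ N₀ (Cfsg.pCore p X)).subtype
      ⟨⟨c, hc⟩, htop (Subgroup.mem_top _), rfl⟩
  have hfr := Sylow.normalizer_sup_eq_top Pc
  have hnorm : Subgroup.normalizer (((Pc : Subgroup ↥(commSub P₁ N₀ (Cfsg.pCore p X))).map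
        (commSub P₁ N₀ (Cfsg.pCore p X)).subtype : Subgroup X) : Set X) = ⊤ := by
    rw [← hfr]; exact (sup_eq_left.mpr hCle).symm
  have hPn : ((Pc : Subgroup ↥(commSub P₁ N₀ (Cfsg.pCore p X))).map
        (commSub P₁ N₀ (Cfsg.pCore p X)).subtype).Normal :=
    Subgroup.normalizer_eq_top_iff.mp hnorm
  have hPp : IsPGroup p ↥((Pc : Subgroup ↥(commSub P₁ N₀ (Cfsg.pCore p X))).map
        (commSub P₁ N₀ (Cfsg.pCore p X)).subtype) := Pc.isPGroup'.map _
  exact Cfsg.Agent.helper1.le_pCore hPn hPp ⟨⟨g, hgC⟩, hgPc, rfl⟩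

end normalp


end Cfsg.Agent.helper10
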