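import Mathlib
import Cfsg.Agent.Lib_helper18_ZJe2
import Cfsg.Agent.Lib_helper14_QuadCore
import Cfsg.Agent.Lib_helper23_PSolv3
import Cfsg.Agent.Lib_helper9_Cores

/-! The `ZJ_e`-theorem for solvable groups of odd order (helper18). -/

set_option autoImplicit false

namespace Cfsg.Agent.helper18.ZJe

open Cfsg Cfsg.Agent.helper3
open scoped commutatorElement

universe u

/-- Solvable groups of odd order with trivial `p'`-core. -/
def OddSolv (p : ℕ) (X : Type u) [Group X] : Prop :=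
  Group.IsSolvable X ∧ Odd (Nat.card X) ∧ Cfsg.pPrimeCore p X = ⊥

theorem isNormalizerPStable_of_odd {X : Type u} [Group X] [Finite X] {p : ℕ} [Fact p.Prime]
    (hp2 : p ≠ 2) (hodd : Odd (Nat.card X)) : Cfsg.IsNormalizerPStable p X := by
  intro P hP g hg hq
  have h := Cfsg.Agent.helper14.QuadCore.quad_in_pCore hodd hp2 P (Subgroup.zpowers g) hP
    ((Subgroup.zpowers_le).2 hg) hq
  apply h
  exact ⟨⟨g, hg⟩, Subgroup.mem_subgroupOf.2 (Subgroup.mem_zpowers g), rfl⟩

theorem pPrimeCore_subgroup_eq_bot {X : Type u} [Group X] [Finite X] {p : ℕ} [Fact p.Prime]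
    (hc : Subgroup.centralizer ((Cfsg.pCore p X : Subgroup X) : Set X) ≤ Cfsg.pCore p X)
    (T : Sylow p X) (H : Subgroup X) (hTH : (T : Subgroup X) ≤ H) :
    Cfsg.pPrimeCore p ↥H = ⊥ := by
  haveI hOn := Cfsg.Agent.helper1.pPrimeCore_normal (G := ↥H) p
  have hOc := Cfsg.Agent.helper1.pPrimeCore_coprime (G := ↥H) p
  haveI hQn := Cfsg.Agent.helper1.pCore_normal (G := X) p
  have hQp := Cfsg.Agent.helper1.pCore_isPGroup (G := X) p
  have hQ'n : ((Cfsg.pCore p X).subgroupOf H).Normal := hQn.subgroupOf H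
  have hQ'p : IsPGroup p ↥((Cfsg.pCore p X).subgroupOf H) := IsPGroup.comap_subtype hQp
  have hdis : Cfsg.pPrimeCore p ↥H ⊓ (Cfsg.pCore p X).subgroupOf H = ⊥ := by
    apply Subgroup.inf_eq_bot_of_coprime
    obtain ⟨k, hk⟩ := IsPGroup.iff_card.1 hQ'p
    rw [hk]
    exact Nat.Coprime.pow_right k hOc
  rw [eq_bot_iff]
  intro o ho
  have hoC : (o : X) ∈ Subgroup.centralizer ((Cfsg.pCore p X : Subgroup X) : Set X) := by
    rw [Subgroup.mem_centralizer_iff]
    intro q hq
    have hqH : q ∈ H := hTH (Cfsg.Agent.helper1.pCore_le_sylow T hq)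
    have hq' : (⟨q, hqH⟩ : ↥H) ∈ (Cfsg.pCore p X).subgroupOf H := Subgroup.mem_subgroupOf.2 hq
    have h1 := Subgroup.commute_of_normal_of_disjoint _ _ hOn hQ'n
      (disjoint_iff.2 hdis) o ⟨q, hqH⟩ ho hq'
    exact (congrArg Subtype.val h1.eq).symm
  have hoQ : o ∈ (Cfsg.pCore p X).subgroupOf H := Subgroup.mem_subgroupOf.2 (hc hoC)
  have : o ∈ Cfsg.pPrimeCore p ↥H ⊓ (Cfsg.pCore p X).subgroupOf H := ⟨ho, hoQ⟩
  rwa [hdis] at this

theorem pPrimeCore_normal_subgroup_eq_bot {X : Type u} [Group X] [Finite X] {p : ℕ}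
    (hO : Cfsg.pPrimeCore p X = ⊥) (N : Subgroup X) [hN : N.Normal] :
    Cfsg.pPrimeCore p ↥N = ⊥ := by
  haveI hOn := Cfsg.Agent.helper1.pPrimeCore_normal (G := ↥N) p
  have hOc := Cfsg.Agent.helper1.pPrimeCore_coprime (G := ↥N) p
  have hmapn : ((Cfsg.pPrimeCore p ↥N).map N.subtype).Normal := by
    constructor
    rintro _ ⟨o, ho, rfl⟩ x
    obtain ⟨φ, hφ⟩ : ∃ φ : ↥N ≃* ↥N, φ = MulAut.conjNormal x := ⟨_, rfl⟩
    have h1 : ((Cfsg.pPrimeCore p ↥N).map φ.toMonoidHom).Normal :=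
      hOn.map _ φ.surjective
    have hcard : Nat.card ↥((Cfsg.pPrimeCore p ↥N).map φ.toMonoidHom) =
        Nat.card ↥(Cfsg.pPrimeCore p ↥N) :=
      Subgroup.card_map_of_injective φ.injective
    have h2 : (Cfsg.pPrimeCore p ↥N).map φ.toMonoidHom ≤ Cfsg.pPrimeCore p ↥N := by
      apply Cfsg.Agent.helper1.le_pPrimeCore h1
      rw [hcard]
      exact hOc
    have h3 : φ o ∈ Cfsg.pPrimeCore p ↥N := h2 ⟨o, ho, rfl⟩
    refine ⟨φ o, h3, ?_⟩
    rw [hφ]
    simp [MulAut.conjNormal_apply]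
  have h4 : (Cfsg.pPrimeCore p ↥N).map N.subtype ≤ Cfsg.pPrimeCore p X := by
    apply Cfsg.Agent.helper1.le_pPrimeCore hmapn
    rw [Subgroup.card_map_of_injective N.subtype_injective]
    exact hOc
  rw [hO, le_bot_iff] at h4
  exact (Subgroup.map_eq_bot_iff_of_injective _ N.subtype_injective).1 h4

theorem goodClass_oddSolv {p : ℕ} [Fact p.Prime] (hp2 : p ≠ 2) :
    GoodClass.{u} p (fun X _ => OddSolv p X) where
  con := by
    intro X _ _ hK
    haveI := hK.1
    exact Cfsg.Agent.helper23.hall_higman_123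
      (Cfsg.Agent.helper23.psreach_of_isPSolvable (Cfsg.Agent.helper23.isPSolvable_of_solvable p X))
      hK.2.2
  stab := by
    intro X _ _ hK
    exact isNormalizerPStable_of_odd hp2 hK.2.1
  sub := by
    intro X _ _ hK T H hTH
    haveI := hK.1
    refine ⟨inferInstance, hK.2.1.of_dvd_nat (Subgroup.card_subgroup_dvd_card H), ?_⟩
    apply pPrimeCore_subgroup_eq_bot _ T H hTH
    exact Cfsg.Agent.helper23.hall_higman_123
      (Cfsg.Agent.helper23.psreach_of_isPSolvable (Cfsg.Agent.helper23.isPSolvable_of_solvable p X))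
      hK.2.2
  nor := by
    intro X _ _ hK N hN
    haveI := hK.1
    haveI := hN
    exact ⟨inferInstance, hK.2.1.of_dvd_nat (Subgroup.card_subgroup_dvd_card N),
      pPrimeCore_normal_subgroup_eq_bot hK.2.2 N⟩

/-- In a solvable group of odd order, `Z(J_e(S)) O_{p'}(G)` is normal. -/
theorem centerThompsonOf_sup_pPrimeCore_normal {G : Type u} [Group G] [Finite G]
    [Group.IsSolvable G] (hodd : Odd (Nat.card G)) (p : ℕ) [Fact p.Prime] (S : Sylow p G) :
    (Cfsg.centerThompsonOf p (S : Subgroup G) ⊔ Cfsg.pPrimeCore p G).Normal := by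
  haveI hNn := Cfsg.Agent.helper1.pPrimeCore_normal (G := G) p
  have hNc := Cfsg.Agent.helper1.pPrimeCore_coprime (G := G) p
  by_cases hp2 : p = 2
  · -- the Sylow subgroup is trivial
    subst hp2
    have hS : (S : Subgroup G) = ⊥ := by
      obtain ⟨k, hk⟩ := IsPGroup.iff_card.1 S.isPGroup'
      have hk0 : k = 0 := by
        by_contra hne
        have h1 : 2 ∣ Nat.card (S : Subgroup G) := by rw [hk]; exact dvd_pow_self 2 hne
        have h2 : 2 ∣ Nat.card G := h1.trans (Subgroup.card_subgroup_dvd_card _)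
        exact (Nat.not_even_iff_odd.2 hodd) (even_iff_two_dvd.2 h2)
      rw [hk0, pow_zero] at hk
      exact Subgroup.card_eq_one.1 hk
    have hZ : Cfsg.centerThompsonOf 2 (S : Subgroup G) = ⊥ := by
      rw [eq_bot_iff, ← hS]
      exact centerThompsonOf_le _
    rw [hZ, bot_sup_eq]
    exact hNn
  · have hK : OddSolv p (G ⧸ Cfsg.pPrimeCore p G) :=
      ⟨inferInstance, hodd.of_dvd_nat (Subgroup.card_quotient_dvd_card _),
        Cfsg.Agent.helper9.pPrimeCore_quotient_eq_bot p⟩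
    have h1 := centerThompsonOf_normal hp2 (goodClass_oddSolv hp2) (G ⧸ Cfsg.pPrimeCore p G) hK
      (S.mapSurjective (QuotientGroup.mk'_surjective (Cfsg.pPrimeCore p G)))
    rw [Sylow.coe_mapSurjective] at h1
    have hinj : ∀ x ∈ (S : Subgroup G), QuotientGroup.mk' (Cfsg.pPrimeCore p G) x = 1 → x = 1 := by
      intro x hxS hx
      have hxN : x ∈ Cfsg.pPrimeCore p G := by
        rwa [QuotientGroup.mk'_apply, QuotientGroup.eq_one_iff] at hx
      have hdis : (S : Subgroup G) ⊓ Cfsg.pPrimeCore p G = ⊥ := by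
        apply Subgroup.inf_eq_bot_of_coprime
        obtain ⟨k, hk⟩ := IsPGroup.iff_card.1 S.isPGroup'
        rw [hk]
        exact (Nat.Coprime.pow_right k hNc).symm
      have : x ∈ (S : Subgroup G) ⊓ Cfsg.pPrimeCore p G := ⟨hxS, hxN⟩
      rw [hdis] at this
      exact this
    rw [← centerThompsonOf_map (QuotientGroup.mk' (Cfsg.pPrimeCore p G)) hinj] at h1
    have h2 := h1.comap (QuotientGroup.mk' (Cfsg.pPrimeCore p G))
    rwa [Subgroup.comap_map_eq, QuotientGroup.ker_mk'] at h2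

end Cfsg.Agent.helper18.ZJe
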