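import Mathlib
import Cfsg.Agent.Lib_helper18_ZJe2

/-! The full-centre `ZJ_e`-theorem (helper18), second form: `p`-stability is only required on
normal `p`-subgroups and for elements of a Sylow `p`-subgroup. -/

set_option autoImplicit false

namespace Cfsg.Agent.helper18.ZJe

open Cfsg Cfsg.Agent.helper3
open scoped commutatorElement

universe u

/-- Hypotheses on a class of finite groups for the `ZJ_e`-theorem, with `p`-stability only
required on normal `p`-subgroups and for elements of a Sylow `p`-subgroup. -/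
structure GoodClassN (p : ℕ) (𝒦 : ∀ (X : Type u) [Group X], Prop) : Prop where
  con : ∀ (X : Type u) [Group X] [Finite X], 𝒦 X →
    Subgroup.centralizer ((Cfsg.pCore p X : Subgroup X) : Set X) ≤ Cfsg.pCore p X
  stab : ∀ (X : Type u) [Group X] [Finite X], 𝒦 X → ∀ (T : Sylow p X) (V : Subgroup X) [V.Normal],
    IsPGroup p V → ∀ a ∈ (T : Subgroup X),
      ⁅⁅V, Subgroup.zpowers a⁆, Subgroup.zpowers a⁆ = ⊥ →
        (QuotientGroup.mk a : X ⧸ Subgroup.centralizer (V : Set X)) ∈
          Cfsg.pCore p (X ⧸ Subgroup.centralizer (V : Set X))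
  sub : ∀ (X : Type u) [Group X] [Finite X], 𝒦 X → ∀ (T : Sylow p X) (H : Subgroup X),
    (T : Subgroup X) ≤ H → 𝒦 ↥H
  nor : ∀ (X : Type u) [Group X] [Finite X], 𝒦 X → ∀ (N : Subgroup X), N.Normal → 𝒦 ↥N

section pieces

variable {G : Type u} [Group G] [Finite G] {p : ℕ} [Fact p.Prime]

/-- The main inductive step: given the two reduction principles (F1), (F2) of a minimal
counterexample, `Z ⊓ B` is normal for every normal `p`-subgroup `B`. -/
theorem inf_normal_of_reductionsN (hp2 : p ≠ 2) (S : Sylow p G)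
    (hst : ∀ (V : Subgroup G) [V.Normal], IsPGroup p V → ∀ a ∈ (S : Subgroup G),
      ⁅⁅V, Subgroup.zpowers a⁆, Subgroup.zpowers a⁆ = ⊥ →
        (QuotientGroup.mk a : G ⧸ Subgroup.centralizer (V : Set G)) ∈
          Cfsg.pCore p (G ⧸ Subgroup.centralizer (V : Set G)))
    (F1 : ∀ H : Subgroup G, (S : Subgroup G) ≤ H → H ≠ ⊤ →
      H ≤ Subgroup.normalizer (Cfsg.centerThompsonOf p (S : Subgroup G) : Set G))
    (F2 : ∀ N₀ : Subgroup G, N₀.Normal → N₀ ≠ ⊤ →
      ¬ Cfsg.thompsonSubgroupOf p (S : Subgroup G) ≤ N₀)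
    (hnot : ¬ (Cfsg.centerThompsonOf p (S : Subgroup G)).Normal) :
    ∀ (n : ℕ) (B : Subgroup G), B.Normal → IsPGroup p B → Nat.card B = n →
      (Cfsg.centerThompsonOf p (S : Subgroup G) ⊓ B).Normal := by
  set Z : Subgroup G := Cfsg.centerThompsonOf p (S : Subgroup G) with hZdef
  have hZP : (S : Subgroup G) ≤ Subgroup.normalizer (Z : Set G) :=
    Subgroup.le_normalizer.trans (normalizer_le_normalizer_centerThompsonOf _)
  have hZcomm : ∀ x ∈ Z, ∀ y ∈ Z, x * y = y * x := fun x hx y hy =>
    centerThompsonOf_comm _ hx hy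
  intro n
  induction n using Nat.strong_induction_on with
  | _ n ih =>
  intro B hBn hBp hcard
  by_contra hnotB
  haveI := hBn
  have hBP : B ≤ (S : Subgroup G) := hBp.le_sylow_of_normal S
  have hBne : B ≠ ⊥ := by
    rintro rfl
    apply hnotB
    rw [inf_bot_eq]; infer_instance
  -- `B` is the normal closure of `Z ⊓ B`
  have hcl : Subgroup.normalClosure ((Z ⊓ B : Subgroup G) : Set G) = B := by
    by_contra hne
    have hle : Subgroup.normalClosure ((Z ⊓ B : Subgroup G) : Set G) ≤ B :=
      Subgroup.normalClosure_le_normal (fun x hx => hx.2)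
    have hlt := lt_of_le_of_ne hle hne
    have hc := card_lt_of_lt' hlt
    rw [hcard] at hc
    have h1 := ih _ hc _ Subgroup.normalClosure_normal (hBp.to_le hle) rfl
    have heq : Z ⊓ Subgroup.normalClosure ((Z ⊓ B : Subgroup G) : Set G) = Z ⊓ B :=
      le_antisymm (inf_le_inf_left _ hle) (le_inf inf_le_left Subgroup.le_normalClosure)
    rw [heq] at h1
    exact hnotB h1
  have hB'lt : ⁅B, B⁆ < B := commutator_lt_of_isPGroup hBp hBne
  have hB'n : (⁅B, B⁆).Normal := inferInstance
  have hB'c := card_lt_of_lt' hB'lt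
  rw [hcard] at hB'c
  have hZB'n : (Z ⊓ ⁅B, B⁆).Normal := ih _ hB'c _ hB'n (hBp.to_le hB'lt.le) rfl
  have h1 : ∀ x ∈ Z ⊓ B, ∀ b ∈ B, x * b * x⁻¹ * b⁻¹ ∈ Z ⊓ ⁅B, B⁆ := by
    intro x hx b hb
    refine ⟨?_, ?_⟩
    · have hbN := hZP (hBP hb)
      have h : b * x⁻¹ * b⁻¹ ∈ Z :=
        (Subgroup.mem_normalizer_iff.mp hbN x⁻¹).mp (Subgroup.inv_mem _ hx.1)
      have e : x * b * x⁻¹ * b⁻¹ = x * (b * x⁻¹ * b⁻¹) := by group
      rw [e]; exact Subgroup.mul_mem _ hx.1 h
    · have h := Subgroup.commutator_mem_commutator hx.2 hb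
      rwa [commutatorElement_def] at h
  haveI := hZB'n
  have h2 := normalClosure_comm_le (X := Z ⊓ B) (B := B) (N := Z ⊓ ⁅B, B⁆) h1
  rw [hcl] at h2
  have hB'Z : ⁅B, B⁆ ≤ Z := by
    rw [Subgroup.commutator_le]
    intro x hx b hb
    rw [commutatorElement_def]
    exact (h2 x hx b hb).1
  have h3 : ∀ x ∈ Z ⊓ B, ∀ c ∈ ⁅B, B⁆, x * c * x⁻¹ * c⁻¹ ∈ (⊥ : Subgroup G) := by
    intro x hx c hc
    rw [Subgroup.mem_bot]
    have h := hZcomm x hx.1 c (hB'Z hc)
    rw [h]; group
  have h4 := normalClosure_comm_le (X := Z ⊓ B) (B := ⁅B, B⁆) (N := ⊥) h3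
  rw [hcl] at h4
  have hclass : ⁅⁅B, B⁆, B⁆ = ⊥ := by
    rw [eq_bot_iff, Subgroup.commutator_le]
    intro c hc x hx
    have h := h4 x hx c hc
    rw [Subgroup.mem_bot] at h ⊢
    rw [commutatorElement_def]
    have hxc : x * c = c * x := by
      calc x * c = (x * c * x⁻¹ * c⁻¹) * (c * x) := by group
        _ = c * x := by rw [h, one_mul]
    rw [← hxc]; group
  -- the elements of order dividing `p`
  have hodd : Odd p := (Fact.out : p.Prime).odd_of_ne_two hp2
  obtain ⟨E, hEdef⟩ : ∃ E : Subgroup G, E = omegaSub p hodd B hclass := ⟨_, rfl⟩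
  haveI hEn : E.Normal := by rw [hEdef]; exact omegaSub_normal hodd B hclass
  have hEB : E ≤ B := by rw [hEdef]; exact omegaSub_le hodd B hclass
  have hES : E ≤ (S : Subgroup G) := hEB.trans hBP
  have hEp : IsPGroup p E := hBp.to_le hEB
  have hEpow : ∀ e ∈ E, e ^ p = 1 := by
    intro e he; rw [hEdef] at he; exact he.2
  have hEmem : ∀ x ∈ B, x ^ p = 1 → x ∈ E := by
    intro x hx hxp; rw [hEdef]; exact ⟨hx, hxp⟩
  have hEclass : ⁅⁅E, E⁆, E⁆ = ⊥ := by rw [hEdef]; exact omegaSub_class hodd B hclass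
  have hE'E : ⁅E, E⁆ ≤ E := by
    rw [Subgroup.commutator_le]
    intro a ha b hb
    rw [commutatorElement_def]
    exact E.mul_mem (E.mul_mem (E.mul_mem ha hb) (E.inv_mem ha)) (E.inv_mem hb)
  -- Step X: elements of order prime to `p` centralize `E`
  have stepX : ∀ g : G, (orderOf g).Coprime p → g ∈ Subgroup.centralizer (E : Set G) := by
    intro g hg
    haveI hCn : (Subgroup.centralizer (E : Set G)).Normal := Subgroup.normal_centralizer
    by_cases hall : ∀ A, IsMaxEAIn p (S : Subgroup G) A → E ≤ A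
    · have hJC : Cfsg.thompsonSubgroupOf p (S : Subgroup G) ≤ Subgroup.centralizer (E : Set G) := by
        rw [thompsonSubgroupOf_eq_sSup]
        apply sSup_le
        intro A hA a ha
        rw [Subgroup.mem_centralizer_iff]
        intro e he
        exact congrArg Subtype.val
          (hA.2.1.1.is_comm.comm (⟨e, hall A hA he⟩ : A) ⟨a, ha⟩)
      by_contra hgC
      exact F2 _ hCn (fun htop => hgC (by rw [htop]; trivial)) hJC
    · push Not at hall
      obtain ⟨U, hU, hEU⟩ := hall
      have hE'all : ∀ A, IsMaxEAIn p (S : Subgroup G) A → ⁅E, E⁆ ≤ A := by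
        intro A hA c hc
        have hcE : c ∈ E := hE'E hc
        have hcZ : c ∈ Z := hB'Z (Subgroup.commutator_mono hEB hEB hc)
        exact mem_of_centralizes_maxEA hA (hES hcE) (hEpow c hcE)
          (fun a ha => centerThompsonOf_comm_maxEA hA hcZ ha)
      obtain ⟨A, hA, hE'A, hEA, hENA⟩ :=
        hasReplacementIn_famEA hp2 S (S : Subgroup G) (stronglyClosed_self _) E hEn hES hEclass
          ⟨U, hU, hE'all U hU, hEU⟩
      have hAmax : IsMaxEAIn p (S : Subgroup G) A := hA
      have hAcomm : ∀ u ∈ A, ∀ v ∈ A, u * v = v * u := fun u hu v hv =>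
        congrArg Subtype.val (hAmax.2.1.1.is_comm.comm (⟨u, hu⟩ : A) ⟨v, hv⟩)
      have hquad : ∀ a ∈ A, ⁅⁅E, Subgroup.zpowers a⁆, Subgroup.zpowers a⁆ = ⊥ := by
        intro a ha
        have hza : Subgroup.zpowers a ≤ A := by rw [Subgroup.zpowers_le]; exact ha
        have h5 : ⁅E, Subgroup.zpowers a⁆ ≤ A := by
          rw [Subgroup.commutator_le]
          intro b hb z hz
          rw [commutatorElement_def]
          have hzA := hza hz
          have h : b * z * b⁻¹ ∈ A := (Subgroup.mem_normalizer_iff.mp (hENA hb) z).mp hzA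
          exact A.mul_mem h (A.inv_mem hzA)
        rw [eq_bot_iff, Subgroup.commutator_le]
        intro x hx z hz
        rw [Subgroup.mem_bot, commutatorElement_def]
        have h := hAcomm x (h5 hx) z (hza hz)
        rw [h]; group
      haveI hLn : ((Cfsg.pCore p (G ⧸ Subgroup.centralizer (E : Set G))).comap
          (QuotientGroup.mk' (Subgroup.centralizer (E : Set G)))).Normal := by
        haveI := Cfsg.Agent.helper1.pCore_normal (G := G ⧸ Subgroup.centralizer (E : Set G)) p
        infer_instance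
      have hAL : A ≤ (Cfsg.pCore p (G ⧸ Subgroup.centralizer (E : Set G))).comap
          (QuotientGroup.mk' (Subgroup.centralizer (E : Set G))) :=
        fun a ha => hst E hEp a (hAmax.1 ha) (hquad a ha)
      have hLle := comap_pCore_le S (Subgroup.centralizer (E : Set G))
      have hfr := Cfsg.Agent.helper19.frattini_inf S
        ((Cfsg.pCore p (G ⧸ Subgroup.centralizer (E : Set G))).comap
          (QuotientGroup.mk' (Subgroup.centralizer (E : Set G))))
      generalize hLdef : (Cfsg.pCore p (G ⧸ Subgroup.centralizer (E : Set G))).comap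
          (QuotientGroup.mk' (Subgroup.centralizer (E : Set G))) = L at hAL hLle hfr hLn
      have hST : (S : Subgroup G) ≤ Subgroup.normalizer (((S : Subgroup G) ⊓ L : Subgroup G) : Set G) := by
        refine le_trans ?_ Subgroup.inf_normalizer_le_normalizer_inf
        refine le_inf Subgroup.le_normalizer ?_
        rw [Subgroup.normalizer_eq_top_iff.mpr hLn]; exact le_top
      by_cases hT : Subgroup.normalizer (((S : Subgroup G) ⊓ L : Subgroup G) : Set G) = ⊤
      · -- (b2): `S ⊓ L` is normal, so `A ≤ O_p(G)`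
        exfalso
        have hTn : ((S : Subgroup G) ⊓ L).Normal := Subgroup.normalizer_eq_top_iff.mp hT
        have hTQ : (S : Subgroup G) ⊓ L ≤ Cfsg.pCore p G :=
          Cfsg.Agent.helper1.le_pCore hTn (S.isPGroup'.to_le inf_le_left)
        have hAQ : A ≤ Cfsg.pCore p G := (le_inf hAmax.1 hAL).trans hTQ
        have hQS : Cfsg.pCore p G ≤ (S : Subgroup G) := Cfsg.Agent.helper1.pCore_le_sylow S
        haveI hQn := Cfsg.Agent.helper1.pCore_normal (G := G) p
        have hconjA : ∀ g : G, IsMaxEAIn p (S : Subgroup G) (A.map (MulAut.conj g).toMonoidHom) := by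
          intro g
          apply isMaxEAIn_conj hAmax g
          rintro _ ⟨a, ha, rfl⟩
          exact hQS (hQn.conj_mem a (hAQ ha) g)
        have hBC : B ≤ Subgroup.centralizer (A : Set G) := by
          rw [← hcl]
          show Subgroup.closure (Group.conjugatesOfSet ((Z ⊓ B : Subgroup G) : Set G)) ≤ _
          rw [Subgroup.closure_le]
          intro y hy
          rw [Group.mem_conjugatesOfSet_iff] at hy
          obtain ⟨x, hx, hxy⟩ := hy
          rw [isConj_iff] at hxy
          obtain ⟨g, rfl⟩ := hxy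
          rw [SetLike.mem_coe, Subgroup.mem_centralizer_iff]
          intro a ha
          have ha' : g⁻¹ * a * g⁻¹⁻¹ ∈ A.map (MulAut.conj g⁻¹).toMonoidHom :=
            ⟨a, ha, by simp [MulAut.conj_apply]⟩
          have h5 := centerThompsonOf_comm_maxEA (hconjA g⁻¹) hx.1 ha'
          calc a * (g * x * g⁻¹) = g * ((g⁻¹ * a * g⁻¹⁻¹) * x) * g⁻¹ := by group
            _ = g * (x * (g⁻¹ * a * g⁻¹⁻¹)) * g⁻¹ := by rw [h5]
            _ = g * x * g⁻¹ * a := by group
        apply hEA
        intro e he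
        exact mem_of_centralizes_maxEA hAmax (hES he) (hEpow e he)
          (fun a ha => (Subgroup.mem_centralizer_iff.1 (hBC (hEB he)) a ha).symm)
      · -- (b1)
        have h6 := F1 _ hST hT
        have htop : Subgroup.normalizer (Z : Set G) ⊔ Subgroup.centralizer (E : Set G) = ⊤ := by
          rw [eq_top_iff, ← hfr]
          refine sup_le (h6.trans le_sup_left) (hLle.trans (sup_le le_sup_right ?_))
          exact (inf_le_left.trans hZP).trans le_sup_left
        by_cases hCS : Subgroup.centralizer (E : Set G) ⊔ (S : Subgroup G) = ⊤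
        · have h7 : (Subgroup.centralizer (E : Set G)).relIndex (S : Subgroup G) =
              (Subgroup.centralizer (E : Set G)).index := by
            rw [← Subgroup.relIndex_sup_right (S : Subgroup G) (Subgroup.centralizer (E : Set G)),
              sup_comm, hCS, Subgroup.relIndex_top_right]
          have h8 : (Subgroup.centralizer (E : Set G)).index ∣ Nat.card (S : Subgroup G) := by
            rw [← h7]; exact Subgroup.relIndex_dvd_card _ _
          obtain ⟨k, hk⟩ := IsPGroup.iff_card.1 S.isPGroup'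
          rw [hk] at h8
          obtain ⟨j, -, hj⟩ := (Nat.dvd_prime_pow (Fact.out : p.Prime)).1 h8
          apply Cfsg.Agent.helper23.mem_of_pow_eq_one_of_coprime_index (pow_orderOf_eq_one g)
          rw [hj]
          exact Nat.Coprime.pow_right j hg
        · exfalso
          have h9 := F1 _ le_sup_right hCS
          apply hnot
          apply Subgroup.normalizer_eq_top_iff.mp
          rw [eq_top_iff, ← htop]
          exact sup_le le_rfl (le_sup_left.trans h9)
  -- Step Y: elements of order prime to `p` centralize `B`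
  have stepY : ∀ g : G, (orderOf g).Coprime p → g ∈ Subgroup.centralizer (B : Set G) := by
    intro g hg
    apply Cfsg.Agent.helper15.centralizes_of_centralizes_omega hp2 B hBp g
      (by rw [Subgroup.normalizer_eq_top_iff.mpr hBn]; trivial) hg
    intro x hx hxp
    exact (Subgroup.mem_centralizer_iff.1 (stepX g hg) x (hEmem x hx hxp)).symm
  apply hnotB
  apply Subgroup.normalizer_eq_top_iff.mp
  apply eq_top_of_sylow_le_of_pprime S
  · refine le_trans ?_ Subgroup.inf_normalizer_le_normalizer_inf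
    refine le_inf hZP ?_
    rw [Subgroup.normalizer_eq_top_iff.mpr hBn]; exact le_top
  · intro g hg
    exact centralizer_le_normalizer_inf Z B (stepY g hg)

/-- `Z(J_e(S)) ≤ O_p(G)` in a `p`-constrained, `p`-stable group. -/
theorem centerThompsonOf_le_pCoreN (S : Sylow p G)
    (hst : ∀ (V : Subgroup G) [V.Normal], IsPGroup p V → ∀ a ∈ (S : Subgroup G),
      ⁅⁅V, Subgroup.zpowers a⁆, Subgroup.zpowers a⁆ = ⊥ →
        (QuotientGroup.mk a : G ⧸ Subgroup.centralizer (V : Set G)) ∈
          Cfsg.pCore p (G ⧸ Subgroup.centralizer (V : Set G)))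
    (hc : Subgroup.centralizer ((Cfsg.pCore p G : Subgroup G) : Set G) ≤ Cfsg.pCore p G) :
    Cfsg.centerThompsonOf p (S : Subgroup G) ≤ Cfsg.pCore p G := by
  set Z : Subgroup G := Cfsg.centerThompsonOf p (S : Subgroup G) with hZdef
  haveI hQn := Cfsg.Agent.helper1.pCore_normal (G := G) p
  have hQp := Cfsg.Agent.helper1.pCore_isPGroup (G := G) p
  have hQP : Cfsg.pCore p G ≤ (S : Subgroup G) := hQp.le_sylow_of_normal S
  have hZP : (S : Subgroup G) ≤ Subgroup.normalizer (Z : Set G) :=
    Subgroup.le_normalizer.trans (normalizer_le_normalizer_centerThompsonOf _)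
  intro z hz
  have hzZ : Subgroup.zpowers z ≤ Z := by
    rw [Subgroup.zpowers_le]; exact hz
  have hquad : ⁅⁅Cfsg.pCore p G, Subgroup.zpowers z⁆, Subgroup.zpowers z⁆ = ⊥ := by
    have h5 : ⁅Cfsg.pCore p G, Subgroup.zpowers z⁆ ≤ Z := by
      rw [Subgroup.commutator_le]
      intro q hq w hw
      rw [commutatorElement_def]
      have h : q * w * q⁻¹ ∈ Z :=
        (Subgroup.mem_normalizer_iff.mp (hZP (hQP hq)) w).mp (hzZ hw)
      exact Subgroup.mul_mem _ h (Subgroup.inv_mem _ (hzZ hw))
    rw [eq_bot_iff, Subgroup.commutator_le]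
    intro x hx w hw
    rw [Subgroup.mem_bot, commutatorElement_def, centerThompsonOf_comm _ (h5 hx) (hzZ hw)]
    group
  have h1 := hst (Cfsg.pCore p G) hQp z (centerThompsonOf_le _ hz) hquad
  haveI hKn := Cfsg.Agent.helper1.pCore_normal
    (G := G ⧸ Subgroup.centralizer (Cfsg.pCore p G : Set G)) p
  have hKp := Cfsg.Agent.helper1.pCore_isPGroup
    (G := G ⧸ Subgroup.centralizer (Cfsg.pCore p G : Set G)) p
  have hMn : ((Cfsg.pCore p (G ⧸ Subgroup.centralizer (Cfsg.pCore p G : Set G))).comap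
      (QuotientGroup.mk' (Subgroup.centralizer (Cfsg.pCore p G : Set G)))).Normal :=
    inferInstance
  have hMp : IsPGroup p ↥((Cfsg.pCore p (G ⧸ Subgroup.centralizer (Cfsg.pCore p G : Set G))).comap
      (QuotientGroup.mk' (Subgroup.centralizer (Cfsg.pCore p G : Set G)))) := by
    rintro ⟨x, hx⟩
    obtain ⟨k, hk⟩ := hKp ⟨QuotientGroup.mk' _ x, hx⟩
    have hk' : (QuotientGroup.mk' (Subgroup.centralizer (Cfsg.pCore p G : Set G)) x) ^ p ^ k = 1 := by
      have := congrArg Subtype.val hk
      simpa using this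
    have hxC : x ^ p ^ k ∈ Subgroup.centralizer (Cfsg.pCore p G : Set G) := by
      rw [← QuotientGroup.eq_one_iff]
      rw [← hk']; rfl
    obtain ⟨j, hj⟩ := hQp ⟨x ^ p ^ k, hc hxC⟩
    have hj' : (x ^ p ^ k) ^ p ^ j = 1 := by
      have := congrArg Subtype.val hj
      simpa using this
    refine ⟨k + j, ?_⟩
    apply Subtype.ext
    simp only [Subgroup.coe_pow, Subgroup.coe_one]
    rw [pow_add, pow_mul]; exact hj'
  exact Cfsg.Agent.helper1.le_pCore hMn hMp h1

end pieces

/-- **The `ZJ_e`-theorem with the full centre.** -/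
theorem centerThompsonOf_normal_auxN {p : ℕ} [Fact p.Prime] (hp2 : p ≠ 2)
    {𝒦 : ∀ (X : Type u) [Group X], Prop} (h𝒦 : GoodClassN p 𝒦) :
    ∀ (n : ℕ) (G : Type u) [Group G] [Finite G], Nat.card G = n → 𝒦 G → ∀ S : Sylow p G,
      (Cfsg.centerThompsonOf p (S : Subgroup G)).Normal := by
  intro n
  induction n using Nat.strong_induction_on with
  | _ n IH =>
  intro G _ _ hn hK S
  by_contra hnot
  have hst := h𝒦.stab G hK S
  have hc := h𝒦.con G hK
  -- (F1)
  have F1 : ∀ H : Subgroup G, (S : Subgroup G) ≤ H → H ≠ ⊤ →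
      H ≤ Subgroup.normalizer (Cfsg.centerThompsonOf p (S : Subgroup G) : Set G) := by
    intro H hSH hH
    have hlt : Nat.card H < n := by
      rw [← hn, ← Subgroup.card_top (G := G)]
      exact card_lt_of_lt' (lt_top_iff_ne_top.2 hH)
    have h1 := IH _ hlt ↥H rfl (h𝒦.sub G hK S H hSH) (S.subtype hSH)
    rw [Sylow.coe_subtype] at h1
    have h2 := centerThompsonOf_map (p := p) H.subtype (R := (S : Subgroup G).subgroupOf H)
      (fun x _ hx => Subtype.ext (by simpa using hx))
    rw [Subgroup.map_subgroupOf_eq_of_le hSH] at h2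
    rw [← h2]
    intro x hx
    have h3 : (⟨x, hx⟩ : ↥H) ∈ Subgroup.normalizer
        ((Cfsg.centerThompsonOf p ((S : Subgroup G).subgroupOf H) : Subgroup ↥H) : Set ↥H) := by
      rw [Subgroup.normalizer_eq_top_iff.mpr h1]; trivial
    exact Subgroup.le_normalizer_map H.subtype ⟨⟨x, hx⟩, h3, rfl⟩
  -- (F2)
  have F2 : ∀ N₀ : Subgroup G, N₀.Normal → N₀ ≠ ⊤ →
      ¬ Cfsg.thompsonSubgroupOf p (S : Subgroup G) ≤ N₀ := by
    intro N₀ hN₀ hne hJ
    haveI := hN₀
    apply hnot
    have hlt : Nat.card N₀ < n := by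
      rw [← hn, ← Subgroup.card_top (G := G)]
      exact card_lt_of_lt' (lt_top_iff_ne_top.2 hne)
    have hp' : IsPGroup p ↥(((S : Subgroup G) ⊓ N₀).subgroupOf N₀) :=
      IsPGroup.comap_subtype (S.isPGroup'.to_inf_left)
    have hidx : ¬ p ∣ (((S : Subgroup G) ⊓ N₀).subgroupOf N₀).index :=
      Cfsg.Agent.helper19.sylow_inf_normal_not_dvd S N₀
    have h1 := IH _ hlt ↥N₀ rfl (h𝒦.nor G hK N₀ hN₀) (hp'.toSylow hidx)
    rw [IsPGroup.toSylow_coe] at h1
    have h2 := centerThompsonOf_map (p := p) N₀.subtype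
      (R := ((S : Subgroup G) ⊓ N₀).subgroupOf N₀)
      (fun x _ hx => Subtype.ext (by simpa using hx))
    rw [Subgroup.map_subgroupOf_eq_of_le inf_le_right] at h2
    have h3 : Cfsg.centerThompsonOf p ((S : Subgroup G) ⊓ N₀) =
        Cfsg.centerThompsonOf p (S : Subgroup G) := by
      unfold Cfsg.centerThompsonOf
      rw [thompsonSubgroupOf_eq_of_le inf_le_left (le_inf (thompsonSubgroupOf_le_self p _) hJ)]
    rw [h3] at h2
    have h4 : N₀ ≤ Subgroup.normalizer (Cfsg.centerThompsonOf p (S : Subgroup G) : Set G) := by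
      rw [← h2]
      intro x hx
      have h5 : (⟨x, hx⟩ : ↥N₀) ∈ Subgroup.normalizer
          ((Cfsg.centerThompsonOf p (((S : Subgroup G) ⊓ N₀).subgroupOf N₀) : Subgroup ↥N₀) :
            Set ↥N₀) := by
        rw [Subgroup.normalizer_eq_top_iff.mpr h1]; trivial
      exact Subgroup.le_normalizer_map N₀.subtype ⟨⟨x, hx⟩, h5, rfl⟩
    have h6 : Subgroup.normalizer (((S : Subgroup G) ⊓ N₀ : Subgroup G) : Set G) ≤
        Subgroup.normalizer (Cfsg.centerThompsonOf p (S : Subgroup G) : Set G) := by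
      rw [← h3]
      exact normalizer_le_normalizer_centerThompsonOf _
    apply Subgroup.normalizer_eq_top_iff.mp
    rw [eq_top_iff, ← Cfsg.Agent.helper19.frattini_inf S N₀]
    exact sup_le h6 h4
  haveI hQn := Cfsg.Agent.helper1.pCore_normal (G := G) p
  have hQp := Cfsg.Agent.helper1.pCore_isPGroup (G := G) p
  have h1 := inf_normal_of_reductionsN hp2 S hst F1 F2 hnot _ (Cfsg.pCore p G) hQn hQp rfl
  rw [inf_eq_left.mpr (centerThompsonOf_le_pCoreN S hst hc)] at h1
  exact hnot h1

theorem centerThompsonOf_normalN {p : ℕ} [Fact p.Prime] (hp2 : p ≠ 2)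
    {𝒦 : ∀ (X : Type u) [Group X], Prop} (h𝒦 : GoodClassN p 𝒦)
    (G : Type u) [Group G] [Finite G] (hK : 𝒦 G) (S : Sylow p G) :
    (Cfsg.centerThompsonOf p (S : Subgroup G)).Normal :=
  centerThompsonOf_normal_auxN hp2 h𝒦 _ G rfl hK S

end Cfsg.Agent.helper18.ZJe
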