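import Mathlib
import Cfsg.Agent.Lib_helper18_ZJe4
import Cfsg.Agent.Lib_helper18_ZJe3
import Cfsg.Agent.Lib_helper3_ZJFunctor
import Cfsg.Agent.Lib_helper10_NPC

/-! The functor `Q ↦ Z(J_e(Q))` and the Glauberman–Thompson normal `p`-complement theorem for
the elementary abelian version of the Thompson subgroup (helper18). -/

set_option autoImplicit false

namespace Cfsg.Agent.helper18.ZJe

open Cfsg Cfsg.Agent.helper3 Cfsg.Agent.helper23
open scoped commutatorElement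

universe u

/-- Constrained groups `Y` with a normal subgroup `M ≥ O_p(Y)` such that `M/O_p(Y)` is an abelian
`p'`-group and `Y/M` is a `p`-group. -/
def AbNPC (p : ℕ) (Y : Type u) [Group Y] : Prop :=
  Subgroup.centralizer ((Cfsg.pCore p Y : Subgroup Y) : Set Y) ≤ Cfsg.pCore p Y ∧
  ∃ M : Subgroup Y, M.Normal ∧ Cfsg.pCore p Y ≤ M ∧
    (∀ a ∈ M, ∀ b ∈ M, ⁅a, b⁆ ∈ Cfsg.pCore p Y) ∧
    ((Cfsg.pCore p Y).relIndex M).Coprime p ∧ ∃ k : ℕ, M.index = p ^ k

section cls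

variable {Y : Type u} [Group Y] [Finite Y] {p : ℕ} [hp : Fact p.Prime]

theorem pPrimeCore_eq_bot_of_constrained
    (hc : Subgroup.centralizer ((Cfsg.pCore p Y : Subgroup Y) : Set Y) ≤ Cfsg.pCore p Y) :
    Cfsg.pPrimeCore p Y = ⊥ := by
  haveI hOn := Cfsg.Agent.helper1.pPrimeCore_normal (G := Y) p
  have hOc := Cfsg.Agent.helper1.pPrimeCore_coprime (G := Y) p
  haveI hQn := Cfsg.Agent.helper1.pCore_normal (G := Y) p
  have hQp := Cfsg.Agent.helper1.pCore_isPGroup (G := Y) p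
  have hdis : Cfsg.pPrimeCore p Y ⊓ Cfsg.pCore p Y = ⊥ := by
    apply Subgroup.inf_eq_bot_of_coprime
    obtain ⟨k, hk⟩ := IsPGroup.iff_card.1 hQp
    rw [hk]
    exact Nat.Coprime.pow_right k hOc
  rw [eq_bot_iff]
  intro o ho
  have hoC : o ∈ Subgroup.centralizer ((Cfsg.pCore p Y : Subgroup Y) : Set Y) := by
    rw [Subgroup.mem_centralizer_iff]
    intro q hq
    have h1 := Subgroup.commute_of_normal_of_disjoint _ _ hOn hQn
      (disjoint_iff.2 hdis) o q ho hq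
    exact h1.eq.symm
  have : o ∈ Cfsg.pPrimeCore p Y ⊓ Cfsg.pCore p Y := ⟨ho, hc hoC⟩
  rwa [hdis] at this

/-- `|M ∩ H : P ∩ H|` divides `|M : P|`. -/
theorem relIndex_subgroupOf_dvd {P M : Subgroup Y} (hP : P.Normal) (hPM : P ≤ M)
    (H : Subgroup Y) : (P.subgroupOf H).relIndex (M.subgroupOf H) ∣ P.relIndex M := by
  have h1 : (P.subgroupOf H).relIndex (M.subgroupOf H) = P.relIndex (M ⊓ H) := by
    have := Subgroup.relIndex_comap P H.subtype (M.subgroupOf H)
    rw [Subgroup.subgroupOf_map_subtype] at this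
    exact this
  have h2 : P.relIndex (M ⊓ H) = (P ⊓ H).relIndex (M ⊓ H) := by
    rw [← Subgroup.inf_relIndex_right P (M ⊓ H), ← Subgroup.inf_relIndex_right (P ⊓ H) (M ⊓ H)]
    congr 1
    apply le_antisymm
    · exact le_inf (le_inf inf_le_left (inf_le_right.trans inf_le_right)) inf_le_right
    · exact le_inf (inf_le_left.trans inf_le_left) inf_le_right
  rw [h1, h2]
  exact relIndex_inf_dvd hP hPM

theorem psreach_subgroup (hY : AbNPC p Y) (H : Subgroup Y) :
    PSReach p (⊤ : Subgroup ↥H) := by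
  obtain ⟨-, M, hMn, hPM, -, hcop, k, hk⟩ := hY
  haveI hPn := Cfsg.Agent.helper1.pCore_normal (G := Y) p
  have hPp := Cfsg.Agent.helper1.pCore_isPGroup (G := Y) p
  have hP'p : IsPGroup p ↥((Cfsg.pCore p Y).subgroupOf H) := IsPGroup.comap_subtype hPp
  have s1 : PSReach p ((Cfsg.pCore p Y).subgroupOf H) := by
    refine PSReach.step ⊥ _ PSReach.bot bot_le (hPn.subgroupOf H) (Or.inl ?_)
    obtain ⟨j, hj⟩ := IsPGroup.iff_card.1 hP'p
    exact ⟨j, by rw [Subgroup.relIndex_bot_left, hj]⟩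
  have s2 : PSReach p (M.subgroupOf H) := by
    refine PSReach.step _ _ s1 (Subgroup.comap_mono hPM) (hMn.subgroupOf H) (Or.inr ?_)
    exact Nat.Coprime.coprime_dvd_left (relIndex_subgroupOf_dvd hPn hPM H) hcop
  refine PSReach.step _ _ s2 le_top inferInstance (Or.inl ?_)
  rw [Subgroup.relIndex_top_right]
  have h1 : (M.subgroupOf H).index ∣ p ^ k := by
    rw [← hk]
    exact Subgroup.relIndex_dvd_index_of_normal M H
  obtain ⟨j, -, hj⟩ := (Nat.dvd_prime_pow hp.out).1 h1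
  exact ⟨j, hj⟩

theorem abNPC_subgroup (hY : AbNPC p Y) (H : Subgroup Y) (hO : Cfsg.pPrimeCore p ↥H = ⊥) :
    AbNPC p ↥H := by
  have hcon := hall_higman_123 (psreach_subgroup hY H) hO
  obtain ⟨-, M, hMn, hPM, hcomm, hcop, k, hk⟩ := hY
  haveI hPn := Cfsg.Agent.helper1.pCore_normal (G := Y) p
  have hPp := Cfsg.Agent.helper1.pCore_isPGroup (G := Y) p
  haveI hQn := Cfsg.Agent.helper1.pCore_normal (G := ↥H) p
  haveI hM'n : (M.subgroupOf H).Normal := hMn.subgroupOf H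
  have hP'Q : (Cfsg.pCore p Y).subgroupOf H ≤ Cfsg.pCore p ↥H :=
    Cfsg.Agent.helper1.le_pCore (hPn.subgroupOf H) (IsPGroup.comap_subtype hPp)
  have hQK : ∀ (B : Subgroup ↥H), Cfsg.pCore p ↥H ≤ commKernel B (Cfsg.pCore p ↥H) := by
    intro B x hx b _
    have e : x * b * x⁻¹ * b⁻¹ = x * (b * x⁻¹ * b⁻¹) := by group
    rw [e]
    exact Subgroup.mul_mem _ hx (hQn.conj_mem _ (Subgroup.inv_mem _ hx) b)
  have hA : Cfsg.pCore p ↥H ⊔ M.subgroupOf H ≤
      commKernel (M.subgroupOf H) (Cfsg.pCore p ↥H) := by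
    refine sup_le (hQK _) ?_
    intro x hx b hb
    apply hP'Q
    rw [Subgroup.mem_subgroupOf]
    have h1 := hcomm (x : Y) (Subgroup.mem_subgroupOf.1 hx) (b : Y) (Subgroup.mem_subgroupOf.1 hb)
    rw [commutatorElement_def] at h1
    simpa using h1
  have hB : Cfsg.pCore p ↥H ⊔ M.subgroupOf H ≤
      commKernel (Cfsg.pCore p ↥H ⊔ M.subgroupOf H) (Cfsg.pCore p ↥H) := by
    refine sup_le (hQK _) ?_
    intro x hx b hb
    have h1 := hA hb x hx
    have e : x * b * x⁻¹ * b⁻¹ = (b * x * b⁻¹ * x⁻¹)⁻¹ := by group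
    rw [e]
    exact Subgroup.inv_mem _ h1
  refine ⟨hcon, Cfsg.pCore p ↥H ⊔ M.subgroupOf H, inferInstance, le_sup_left, ?_, ?_, ?_⟩
  · intro a ha b hb
    rw [commutatorElement_def]
    exact hB ha b hb
  · rw [Subgroup.relIndex_sup_left, ← Subgroup.inf_relIndex_right]
    have h1 : (Cfsg.pCore p ↥H ⊓ M.subgroupOf H).relIndex (M.subgroupOf H) ∣
        ((Cfsg.pCore p Y).subgroupOf H).relIndex (M.subgroupOf H) :=
      Subgroup.relIndex_dvd_of_le_left _ (le_inf hP'Q (Subgroup.comap_mono hPM))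
    exact Nat.Coprime.coprime_dvd_left (h1.trans (relIndex_subgroupOf_dvd hPn hPM H)) hcop
  · have h1 : (Cfsg.pCore p ↥H ⊔ M.subgroupOf H).index ∣ p ^ k := by
      rw [← hk]
      exact (Subgroup.index_dvd_of_le le_sup_right).trans
        (Subgroup.relIndex_dvd_index_of_normal M H)
    obtain ⟨j, -, hj⟩ := (Nat.dvd_prime_pow hp.out).1 h1
    exact ⟨j, hj⟩

/-- `p`-stability on normal `p`-subgroups for elements of a Sylow `p`-subgroup, `p` odd. -/
theorem abNPC_stable (hp2 : p ≠ 2) (hY : AbNPC p Y) (T : Sylow p Y) (V : Subgroup Y) [V.Normal]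
    (hV : IsPGroup p V) (a : Y) (haT : a ∈ (T : Subgroup Y))
    (hq : ⁅⁅V, Subgroup.zpowers a⁆, Subgroup.zpowers a⁆ = ⊥) :
    (QuotientGroup.mk a : Y ⧸ Subgroup.centralizer (V : Set Y)) ∈
      Cfsg.pCore p (Y ⧸ Subgroup.centralizer (V : Set Y)) := by
  obtain ⟨-, M, hMn, hPM, hcomm, hcop, k, hk⟩ := hY
  haveI := hMn
  haveI hPn := Cfsg.Agent.helper1.pCore_normal (G := Y) p
  have hPp := Cfsg.Agent.helper1.pCore_isPGroup (G := Y) p
  have hsurj : Function.Surjective (QuotientGroup.mk' (Cfsg.pCore p Y)) :=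
    QuotientGroup.mk'_surjective _
  apply mk_mem_pCore_of_centralizes_chief V hV a
  intro U W hUW hUV
  have hVP : V ≤ Cfsg.pCore p Y := Cfsg.Agent.helper1.le_pCore inferInstance hV
  haveI hKn : (M.map (QuotientGroup.mk' (Cfsg.pCore p Y))).Normal := hMn.map _ hsurj
  have hKab : ∀ x ∈ M.map (QuotientGroup.mk' (Cfsg.pCore p Y)),
      ∀ y ∈ M.map (QuotientGroup.mk' (Cfsg.pCore p Y)), x * y = y * x := by
    rintro _ ⟨m₁, hm₁, rfl⟩ _ ⟨m₂, hm₂, rfl⟩
    rw [← map_mul, ← map_mul]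
    show (QuotientGroup.mk (m₁ * m₂) : Y ⧸ Cfsg.pCore p Y) = QuotientGroup.mk (m₂ * m₁)
    rw [QuotientGroup.eq]
    have h1 := hcomm m₂⁻¹ (M.inv_mem hm₂) m₁⁻¹ (M.inv_mem hm₁)
    have e : (m₁ * m₂)⁻¹ * (m₂ * m₁) = ⁅m₂⁻¹, m₁⁻¹⁆ := by
      rw [commutatorElement_def]; group
    rw [e]; exact h1
  have hKcop : (Nat.card (M.map (QuotientGroup.mk' (Cfsg.pCore p Y)))).Coprime p := by
    have e1 : Cfsg.pCore p Y =
        (⊥ : Subgroup (Y ⧸ Cfsg.pCore p Y)).comap (QuotientGroup.mk' (Cfsg.pCore p Y)) := by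
      rw [MonoidHom.comap_bot, QuotientGroup.ker_mk']
    have e2 : (Cfsg.pCore p Y).relIndex M =
        Nat.card (M.map (QuotientGroup.mk' (Cfsg.pCore p Y))) := by
      conv_lhs => rw [e1]
      rw [Subgroup.relIndex_comap, Subgroup.relIndex_bot_left]
    rw [← e2]; exact hcop
  have hTM : (T : Subgroup Y) ⊔ M = ⊤ := by
    rw [← Subgroup.index_eq_one]
    have h1 : ((T : Subgroup Y) ⊔ M).index ∣ p ^ k := by
      rw [← hk]; exact Subgroup.index_dvd_of_le le_sup_right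
    obtain ⟨j, -, hj⟩ := (Nat.dvd_prime_pow hp.out).1 h1
    have h2 : ((T : Subgroup Y) ⊔ M).index ∣ (T : Subgroup Y).index :=
      Subgroup.index_dvd_of_le le_sup_left
    have hj0 : j = 0 := by
      by_contra hne
      apply T.not_dvd_index
      exact (hj ▸ dvd_pow_self p hne : p ∣ ((T : Subgroup Y) ⊔ M).index).trans h2
    rw [hj, hj0, pow_zero]
  have hTK : ∀ z : Y ⧸ Cfsg.pCore p Y,
      ∃ t ∈ (T : Subgroup Y).map (QuotientGroup.mk' (Cfsg.pCore p Y)),
        ∃ c ∈ M.map (QuotientGroup.mk' (Cfsg.pCore p Y)), z = t * c := by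
    intro z
    obtain ⟨y, rfl⟩ := hsurj z
    have hy : y ∈ (T : Subgroup Y) ⊔ M := by rw [hTM]; trivial
    rw [← SetLike.mem_coe, Subgroup.mul_normal] at hy
    obtain ⟨t, ht, m, hm, rfl⟩ := Set.mem_mul.1 hy
    exact ⟨_, ⟨t, ht, rfl⟩, _, ⟨m, hm, rfl⟩, by rw [map_mul]⟩
  apply Cfsg.Agent.helper10.hh_abelian_chief (Cfsg.pCore p Y) hPp
    (M.map (QuotientGroup.mk' (Cfsg.pCore p Y))) hKab hKcop
    ((T : Subgroup Y).map (QuotientGroup.mk' (Cfsg.pCore p Y))) (T.isPGroup'.map _) hTK a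
    ⟨a, haT, rfl⟩ U W hUW (hUV.trans hVP)
  have h2 : 2 ≤ p := hp.out.two_le
  obtain ⟨j, hj⟩ : ∃ j, p - 1 = 2 + j := ⟨p - 3, by omega⟩
  have hqU : ⁅⁅U, Subgroup.zpowers a⁆, Subgroup.zpowers a⁆ = ⊥ := by
    rw [eq_bot_iff, ← hq]
    exact Subgroup.commutator_mono (Subgroup.commutator_mono hUV le_rfl) le_rfl
  rw [hj, iterCommutator_eq_bot_of_quad U _ hqU j]
  exact bot_le

theorem goodClassN_abNPC (hp2 : p ≠ 2) : GoodClassN.{u} p (fun X _ => AbNPC p X) where
  con := fun X _ _ hK => hK.1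
  stab := fun X _ _ hK T V _ hV a ha hq => abNPC_stable hp2 hK T V hV a ha hq
  sub := fun X _ _ hK T H hTH =>
    abNPC_subgroup hK H (pPrimeCore_subgroup_eq_bot hK.1 T H hTH)
  nor := fun X _ _ hK N hN => by
    haveI := hN
    exact abNPC_subgroup hK N
      (pPrimeCore_normal_subgroup_eq_bot (pPrimeCore_eq_bot_of_constrained hK.1) N)

end cls

/-- The functor `Q ↦ Z(J_e(Q))`. -/
def zjeFunctor (p : ℕ) : ∀ (Q : Type u) [Group Q], Subgroup Q :=
  fun Q _ => Cfsg.thompsonSubgroup p Q ⊓ Subgroup.centralizer (Cfsg.thompsonSubgroup p Q : Set Q)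

theorem inducedFunctor_zjeFunctor {G : Type u} [Group G] (p : ℕ) (P : Subgroup G) :
    Cfsg.inducedFunctor (zjeFunctor p) P = Cfsg.centerThompsonOf p P := by
  unfold Cfsg.inducedFunctor zjeFunctor Cfsg.centerThompsonOf Cfsg.thompsonSubgroupOf
  exact (Cfsg.Agent.helper4.ZJ.map_inf_centralizer P _).symm

theorem thompsonSubgroup_map_equiv {Q R : Type u} [Group Q] [Group R] (p : ℕ) (φ : Q ≃* R) :
    (Cfsg.thompsonSubgroup p Q).map φ.toMonoidHom = Cfsg.thompsonSubgroup p R := by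
  unfold Cfsg.thompsonSubgroup
  apply le_antisymm
  · rw [Subgroup.map_le_iff_le_comap]
    apply sSup_le
    intro A hA
    rw [← Subgroup.map_le_iff_le_comap]
    exact le_sSup (maxEA_map_equiv φ hA)
  · apply sSup_le
    intro B hB
    have h1 := maxEA_map_equiv φ.symm hB
    rw [← map_symm_map' φ B]
    exact Subgroup.map_mono (le_sSup h1)

theorem isCharPFunctor_zjeFunctor (p : ℕ) [hp : Fact p.Prime] :
    Cfsg.IsCharPFunctor.{u} p (zjeFunctor p) := by
  refine ⟨?_, fun Q R _ _ _ _ φ => ?_⟩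
  · intro Q _ _ hQ hnt
    haveI := hnt
    haveI hcn : Nontrivial (Subgroup.center Q) := hQ.center_nontrivial
    have hcp : IsPGroup p (Subgroup.center Q) := hQ.to_subgroup _
    have hdvd : p ∣ Nat.card (Subgroup.center Q) := by
      obtain ⟨k, hk⟩ := IsPGroup.iff_card.1 hcp
      have hk0 : k ≠ 0 := by
        rintro rfl
        rw [pow_zero] at hk
        have := (Nat.card_eq_one_iff_unique.1 hk).1
        exact not_subsingleton _ this
      rw [hk]; exact dvd_pow_self p hk0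
    obtain ⟨z, hz⟩ := exists_prime_orderOf_dvd_card' p hdvd
    have hzp : (z : Q) ^ p = 1 := by
      have := pow_orderOf_eq_one z
      rw [hz] at this
      exact_mod_cast congrArg Subtype.val this
    have hz1 : (z : Q) ≠ 1 := by
      intro h
      have : z = 1 := Subtype.ext h
      rw [this, orderOf_one] at hz
      exact hp.out.one_lt.ne hz
    obtain ⟨A, hA⟩ := exists_maxEA p Q
    have hAc : ∀ u ∈ A, ∀ v ∈ A, u * v = v * u := fun u hu v hv =>
      congrArg Subtype.val (hA.1.1.is_comm.comm (⟨u, hu⟩ : A) ⟨v, hv⟩)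
    have hza : ∀ a ∈ A, (z : Q) * a = a * z := fun a _ =>
      (Subgroup.mem_center_iff.1 z.2 a).symm
    have hEA : Cfsg.IsElementaryAbelian p (A ⊔ Subgroup.zpowers (z : Q)) :=
      ⟨⟨⟨fun u v => Subtype.ext
        (Cfsg.Agent.helper4.ZJ.sup_zpowers_comm A z hAc hza u u.2 v v.2)⟩⟩,
        Cfsg.Agent.helper4.ZJ.sup_zpowers_pow p A z hAc hza hA.1.2 hzp⟩
    have heq : A = A ⊔ Subgroup.zpowers (z : Q) := maxEA_eq_of_le hA hEA le_sup_left
    have hzA : (z : Q) ∈ A := by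
      rw [heq]; exact Subgroup.mem_sup_right (Subgroup.mem_zpowers _)
    intro hbot
    have hzW : (z : Q) ∈ zjeFunctor p Q := by
      refine Subgroup.mem_inf.2 ⟨maxEA_le_thompson hA hzA, ?_⟩
      rw [Subgroup.mem_centralizer_iff]
      intro j _
      exact Subgroup.mem_center_iff.1 z.2 j
    rw [hbot, Subgroup.mem_bot] at hzW
    exact hz1 hzW
  · unfold zjeFunctor
    rw [Subgroup.map_inf _ _ _ φ.injective, map_centralizer_equiv', thompsonSubgroup_map_equiv]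

theorem hypT_zjeFunctor {p : ℕ} [hp : Fact p.Prime] (hp2 : p ≠ 2) (X : Type u) [Group X] :
    Cfsg.Agent.helper10.HypT p (zjeFunctor p) X := by
  intro K Y _ _ f hf hcon hnpc T hT
  rw [inducedFunctor_zjeFunctor]
  apply centerThompsonOf_normalN hp2 (goodClassN_abNPC hp2) Y _ T
  haveI hPn := Cfsg.Agent.helper1.pCore_normal (G := Y) p
  have hPp := Cfsg.Agent.helper1.pCore_isPGroup (G := Y) p
  have hPT : Cfsg.pCore p Y ≤ (T : Subgroup Y) := Cfsg.Agent.helper1.pCore_le_sylow T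
  have hsurj : Function.Surjective (QuotientGroup.mk' (Cfsg.pCore p Y)) :=
    QuotientGroup.mk'_surjective _
  obtain ⟨Tb, hTb⟩ : ∃ Tb : Sylow p (Y ⧸ Cfsg.pCore p Y),
      (Tb : Subgroup (Y ⧸ Cfsg.pCore p Y)) =
        (T : Subgroup Y).map (QuotientGroup.mk' (Cfsg.pCore p Y)) :=
    ⟨T.mapSurjective hsurj, rfl⟩
  have hTbc : IsCoatom (Tb : Subgroup (Y ⧸ Cfsg.pCore p Y)) := by
    rw [hTb]; exact Cfsg.Agent.helper10.isCoatom_map_mk _ _ hPT hT
  obtain ⟨Kb, hKn, hKcop, hKab, hTK⟩ := Cfsg.Agent.helper10.coatom_sylow_structure Tb hTbc hnpc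
  haveI := hKn
  refine ⟨hcon, Kb.comap (QuotientGroup.mk' (Cfsg.pCore p Y)), inferInstance, ?_, ?_, ?_, ?_⟩
  · intro x hx
    rw [Subgroup.mem_comap]
    have : QuotientGroup.mk' (Cfsg.pCore p Y) x = 1 := by
      rw [QuotientGroup.mk'_apply, QuotientGroup.eq_one_iff]; exact hx
    rw [this]; exact Kb.one_mem
  · intro a ha b hb
    rw [← QuotientGroup.eq_one_iff, ← QuotientGroup.mk'_apply, map_commutatorElement,
      commutatorElement_eq_one_iff_mul_comm]
    exact hKab _ ha _ hb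
  · have e2 : (Cfsg.pCore p Y).relIndex (Kb.comap (QuotientGroup.mk' (Cfsg.pCore p Y))) =
        Nat.card Kb := by
      have h := Subgroup.relIndex_comap (⊥ : Subgroup (Y ⧸ Cfsg.pCore p Y))
        (QuotientGroup.mk' (Cfsg.pCore p Y)) (Kb.comap (QuotientGroup.mk' (Cfsg.pCore p Y)))
      rw [MonoidHom.comap_bot, QuotientGroup.ker_mk', Subgroup.relIndex_bot_left,
        Subgroup.map_comap_eq_self_of_surjective hsurj] at h
      exact h
    rw [e2]; exact hKcop
  · rw [Subgroup.index_comap_of_surjective _ hsurj]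
    have htop : (Tb : Subgroup (Y ⧸ Cfsg.pCore p Y)) ⊔ Kb = ⊤ := by
      rw [eq_top_iff]
      intro z _
      obtain ⟨t, ht, c, hc, rfl⟩ := hTK z
      exact Subgroup.mul_mem _ (Subgroup.mem_sup_left ht) (Subgroup.mem_sup_right hc)
    have h7 : Kb.relIndex (Tb : Subgroup (Y ⧸ Cfsg.pCore p Y)) = Kb.index := by
      rw [← Subgroup.relIndex_sup_right (Tb : Subgroup (Y ⧸ Cfsg.pCore p Y)) Kb, htop,
        Subgroup.relIndex_top_right]
    have h8 : Kb.index ∣ Nat.card (Tb : Subgroup (Y ⧸ Cfsg.pCore p Y)) := by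
      rw [← h7]; exact Subgroup.relIndex_dvd_card _ _
    obtain ⟨k, hk⟩ := IsPGroup.iff_card.1 Tb.isPGroup'
    rw [hk] at h8
    obtain ⟨j, -, hj⟩ := (Nat.dvd_prime_pow hp.out).1 h8
    exact ⟨j, hj⟩

/-- **The Glauberman–Thompson normal `p`-complement theorem** for `Z(J_e(P))`. -/
theorem glauberman_thompson_npc {G : Type u} [Group G] [Finite G] {p : ℕ} [Fact p.Prime]
    (hp : p ≠ 2) (P : Sylow p G)
    (hN : Cfsg.HasNormalPComplement p
      ↥(Subgroup.normalizer (Cfsg.centerThompsonOf p (P : Subgroup G) : Set G))) :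
    Cfsg.HasNormalPComplement p G := by
  apply Cfsg.Agent.helper10.thompson_main (isCharPFunctor_zjeFunctor p) _ G rfl
    (hypT_zjeFunctor hp G) P
  rw [inducedFunctor_zjeFunctor]
  exact hN

end Cfsg.Agent.helper18.ZJe
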