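import Mathlib
import Cfsg.Agent.Lib_helper1_PGroup
import Cfsg.Agent.Lib_helper1_ElemAb

set_option autoImplicit false
set_option linter.style.haveILetI false

namespace Cfsg.Agent.helper21

open Subgroup

/-- A group of order `p ^ r` is generated by `r` elements. -/
theorem exists_generators_of_card {Q : Type*} [Group Q] [Finite Q] {p r : ℕ} [hp : Fact p.Prime]
    (hQ : Nat.card Q = p ^ r) : ∃ f : Fin r → Q, Subgroup.closure (Set.range f) = ⊤ := by
  have hpg : IsPGroup p Q := IsPGroup.of_card hQ
  have key : ∀ k : ℕ, k ≤ r → ∃ f : Fin k → Q, p ^ k ∣ Nat.card (Subgroup.closure (Set.range f)) := by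
    intro k
    induction k with
    | zero =>
      intro _
      exact ⟨Fin.elim0, by simp⟩
    | succ k ih =>
      intro hk
      obtain ⟨f, hf⟩ := ih (Nat.le_of_succ_le hk)
      obtain ⟨m, hm⟩ := (hpg.to_subgroup (Subgroup.closure (Set.range f))).exists_card_eq
      rw [hm] at hf
      have hkm : k ≤ m := (Nat.pow_dvd_pow_iff_le_right hp.out.one_lt).mp hf
      by_cases htop : Subgroup.closure (Set.range f) = ⊤
      · refine ⟨Fin.snoc f 1, ?_⟩
        have hle : Subgroup.closure (Set.range f) ≤
            Subgroup.closure (Set.range (Fin.snoc f 1 : Fin (k + 1) → Q)) := by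
          apply Subgroup.closure_mono
          rintro _ ⟨i, rfl⟩
          exact ⟨Fin.castSucc i, by simp⟩
        rw [htop, top_le_iff] at hle
        rw [hle, Subgroup.card_top, hQ]
        exact pow_dvd_pow p hk
      · obtain ⟨x, hx⟩ : ∃ x : Q, x ∉ Subgroup.closure (Set.range f) := by
          by_contra hcon
          push Not at hcon
          exact htop (eq_top_iff.mpr fun x _ => hcon x)
        refine ⟨Fin.snoc f x, ?_⟩
        have hle : Subgroup.closure (Set.range f) ≤
            Subgroup.closure (Set.range (Fin.snoc f x : Fin (k + 1) → Q)) := by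
          apply Subgroup.closure_mono
          rintro _ ⟨i, rfl⟩
          exact ⟨Fin.castSucc i, by simp⟩
        have hxmem : x ∈ Subgroup.closure (Set.range (Fin.snoc f x : Fin (k + 1) → Q)) :=
          Subgroup.subset_closure ⟨Fin.last k, by simp⟩
        obtain ⟨m', hm'⟩ := (hpg.to_subgroup
          (Subgroup.closure (Set.range (Fin.snoc f x : Fin (k + 1) → Q)))).exists_card_eq
        rw [hm']
        apply pow_dvd_pow
        have hdvd := Subgroup.card_dvd_of_le hle
        rw [hm, hm'] at hdvd
        have hmm' : m ≤ m' := (Nat.pow_dvd_pow_iff_le_right hp.out.one_lt).mp hdvd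
        have hne : m ≠ m' := by
          intro heq
          have hcard : Nat.card (Subgroup.closure (Set.range (Fin.snoc f x : Fin (k + 1) → Q))) ≤
              Nat.card (Subgroup.closure (Set.range f)) := by rw [hm, hm', heq]
          have := Subgroup.eq_of_le_of_card_ge hle hcard
          exact hx (this ▸ hxmem)
        omega
  obtain ⟨f, hf⟩ := key r le_rfl
  refine ⟨f, ?_⟩
  apply Subgroup.eq_top_of_le_card
  rw [hQ]
  exact Nat.le_of_dvd Nat.card_pos hf

/-- If the images of `f i` generate `P ⧸ N`, then `closure (range f) ⊔ N = ⊤`. -/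
theorem closure_sup_eq_top_of_map {P : Type*} [Group P] (N : Subgroup P) [N.Normal] {ι : Type*}
    (f : ι → P)
    (h : Subgroup.closure (Set.range fun i => (QuotientGroup.mk' N) (f i)) = ⊤) :
    Subgroup.closure (Set.range f) ⊔ N = ⊤ := by
  have h1 : (Subgroup.closure (Set.range f)).map (QuotientGroup.mk' N) = ⊤ := by
    rw [MonoidHom.map_closure, ← Set.range_comp]
    exact h
  have h2 := Subgroup.comap_map_eq (QuotientGroup.mk' N) (Subgroup.closure (Set.range f))
  rw [h1, Subgroup.comap_top, QuotientGroup.ker_mk'] at h2
  exact h2.symm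

/-- Automorphisms inducing the identity on the Frattini quotient of a `p`-group. -/
theorem card_dvd_of_fix_frattini {P : Type*} [Group P] [Finite P] {p n r : ℕ} [hp : Fact p.Prime]
    (hP : Nat.card P = p ^ n) (hr : (frattini P).index = p ^ r) (A : Subgroup (MulAut P))
    (hA : ∀ α ∈ A, ∀ x : P, α x * x⁻¹ ∈ frattini P) : Nat.card A ∣ p ^ (r * (n - r)) := by
  have hcardQ : Nat.card (P ⧸ frattini P) = p ^ r := by rw [← Subgroup.index_eq_card, hr]
  obtain ⟨fb, hfb⟩ := exists_generators_of_card hcardQ
  set x : Fin r → P := fun i => (fb i).out with hx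
  have hxq : ∀ i, (QuotientGroup.mk' (frattini P)) (x i) = fb i := fun i => QuotientGroup.out_eq' _
  -- the set X
  let X := {f : Fin r → P // ∀ i, f i * (x i)⁻¹ ∈ frattini P}
  have hgen : ∀ f : X, Subgroup.closure (Set.range f.1) = ⊤ := by
    intro f
    apply frattini_nongenerating
    apply closure_sup_eq_top_of_map
    have : (fun i => (QuotientGroup.mk' (frattini P)) (f.1 i)) = fb := by
      funext i
      rw [← hxq i]
      change ((f.1 i : P) : P ⧸ frattini P) = ((x i : P) : P ⧸ frattini P)
      rw [QuotientGroup.eq_iff_div_mem, div_eq_mul_inv]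
      exact f.2 i
    rw [this]; exact hfb
  letI inst : MulAction A X :=
    { smul := fun α f => ⟨fun i => (α : MulAut P) (f.1 i), fun i => by
        have e : (α : MulAut P) (f.1 i) * (x i)⁻¹ =
            ((α : MulAut P) (f.1 i) * (f.1 i)⁻¹) * (f.1 i * (x i)⁻¹) := by group
        rw [e]
        exact (frattini P).mul_mem (hA α α.2 (f.1 i)) (f.2 i)⟩
      one_smul := fun f => Subtype.ext (funext fun i => rfl)
      mul_smul := fun α β f => Subtype.ext (funext fun i => rfl) }
  have hsmul : ∀ (α : A) (f : X) (i : Fin r), (α • f).1 i = (α : MulAut P) (f.1 i) := fun _ _ _ => rfl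
  have hstab : ∀ f : X, MulAction.stabilizer A f = ⊥ := by
    intro f
    rw [eq_bot_iff]
    intro α hα
    rw [MulAction.mem_stabilizer_iff] at hα
    rw [Subgroup.mem_bot]
    apply Subtype.ext
    have hfix : ∀ i, (α : MulAut P) (f.1 i) = f.1 i := by
      intro i
      rw [← hsmul, hα]
    have : ((α : MulAut P) : P →* P) = MonoidHom.id P := by
      apply MonoidHom.eq_of_eqOn_dense (hgen f)
      rintro _ ⟨i, rfl⟩
      exact hfix i
    ext y
    have := DFunLike.congr_fun this y
    simpa using this
  have hcardX : Nat.card X = Nat.card (frattini P) ^ r := by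
    have e : X ≃ (Fin r → frattini P) :=
      { toFun := fun f i => ⟨f.1 i * (x i)⁻¹, f.2 i⟩
        invFun := fun g => ⟨fun i => (g i : P) * x i, fun i => by simp⟩
        left_inv := fun f => by
          apply Subtype.ext; funext i; simp
        right_inv := fun g => by
          funext i; apply Subtype.ext; simp }
    rw [Nat.card_congr e, Nat.card_fun, Nat.card_eq_fintype_card (α := Fin r), Fintype.card_fin]
  have hrn : r ≤ n := by
    have := Subgroup.index_dvd_card (frattini P)
    rw [hr, hP] at this
    exact (Nat.pow_dvd_pow_iff_le_right hp.out.one_lt).mp this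
  have hcardF : Nat.card (frattini P) = p ^ (n - r) := by
    have := Subgroup.card_mul_index (frattini P)
    rw [hr, hP] at this
    have h2 : p ^ n = p ^ (n - r) * p ^ r := by rw [← pow_add, Nat.sub_add_cancel hrn]
    rw [h2] at this
    exact Nat.eq_of_mul_eq_mul_right (pow_pos hp.out.pos r) this
  have hprod := Nat.card_congr (MulAction.selfEquivOrbitsQuotientProd hstab)
  rw [Nat.card_prod] at hprod
  have : Nat.card A ∣ Nat.card X := Dvd.intro_left _ hprod.symm
  rw [hcardX, hcardF, ← pow_mul, mul_comm] at this
  exact this

open Module in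
theorem card_add_generating_tuples {V : Type*} [AddCommGroup V] [Finite V] {p r : ℕ}
    [hp : Fact p.Prime] [Module (ZMod p) V] (hcard : Nat.card V = p ^ r) :
    Nat.card {s : Fin r → V // AddSubgroup.closure (Set.range s) = ⊤} =
      ∏ i ∈ Finset.range r, (p ^ r - p ^ i) := by
  have hrank : finrank (ZMod p) V = r := by
    have h1 := Module.natCard_eq_pow_finrank (K := ZMod p) (V := V)
    rw [Nat.card_zmod, hcard] at h1
    exact (Nat.pow_right_injective hp.out.two_le h1).symm
  have hcount := card_linearIndependent (K := ZMod p) (V := V) (k := r) (by rw [hrank])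
  have hcardfin : Fintype.card (Fin r) = finrank (ZMod p) V := by
    rw [hrank, Fintype.card_fin]
  have hiff : ∀ s : Fin r → V, AddSubgroup.closure (Set.range s) = ⊤ ↔
      LinearIndependent (ZMod p) s := by
    intro s
    constructor
    · intro hg
      refine linearIndependent_of_top_le_span_of_card_eq_finrank ?_ hcardfin
      intro v _
      have hle : AddSubgroup.closure (Set.range s) ≤ (Submodule.span (ZMod p) (Set.range s)).toAddSubgroup := by
        rw [AddSubgroup.closure_le]
        exact Submodule.subset_span
      have : v ∈ AddSubgroup.closure (Set.range s) := by rw [hg]; exact AddSubgroup.mem_top _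
      exact hle this
    · intro hli
      have hspan := hli.span_eq_top_of_card_eq_finrank' hcardfin
      have hle : Submodule.span (ZMod p) (Set.range s) ≤
          AddSubgroup.toZModSubmodule p (AddSubgroup.closure (Set.range s)) := by
        rw [Submodule.span_le]
        exact AddSubgroup.subset_closure
      rw [hspan] at hle
      rw [eq_top_iff]
      intro v _
      exact hle (Submodule.mem_top : v ∈ (⊤ : Submodule (ZMod p) V))
  have e : {s : Fin r → V // AddSubgroup.closure (Set.range s) = ⊤} ≃
      {s : Fin r → V // LinearIndependent (ZMod p) s} :=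
    Equiv.subtypeEquiv (Equiv.refl _) (fun g => hiff g)
  rw [Nat.card_congr e, hcount, hrank, ZMod.card, Fin.prod_univ_eq_prod_range (fun i => p ^ r - p ^ i) r]

open Module in
theorem card_generating_tuples_comm {E : Type*} [CommGroup E] [Finite E] {p r : ℕ} [hp : Fact p.Prime]
    (he : ∀ a : E, a ^ p = 1) (hcard : Nat.card E = p ^ r) :
    Nat.card {g : Fin r → E // Subgroup.closure (Set.range g) = ⊤} =
      ∏ i ∈ Finset.range r, (p ^ r - p ^ i) := by
  letI : Module (ZMod p) (Additive E) := AddCommGroup.zmodModule (n := p) (fun x => by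
    have : x = Additive.ofMul (Additive.toMul x) := rfl
    rw [this, ← ofMul_pow, he]; rfl)
  have hfin : Finite (Additive E) := inferInstanceAs (Finite E)
  have h := card_add_generating_tuples (V := Additive E) (p := p) (r := r) hcard
  rw [← h]
  apply Nat.card_congr
  refine Equiv.subtypeEquiv (Equiv.arrowCongr (Equiv.refl _) Additive.ofMul) (fun g => ?_)
  have hcl := Subgroup.toAddSubgroup_closure (Set.range g)
  have hset : (Additive.toMul ⁻¹' Set.range g) = Set.range (fun i => Additive.ofMul (g i)) := by
    ext v
    constructor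
    · rintro ⟨i, hi⟩
      exact ⟨i, by simp [hi]⟩
    · rintro ⟨i, rfl⟩
      exact ⟨i, rfl⟩
  rw [hset] at hcl
  constructor
  · intro hg
    have : AddSubgroup.closure (Set.range fun i => Additive.ofMul (g i)) = ⊤ := by
      rw [← hcl, hg]; rfl
    exact this
  · intro hg
    have hg' : AddSubgroup.closure (Set.range fun i => Additive.ofMul (g i)) = ⊤ := hg
    rw [← hcl] at hg'
    have : Subgroup.toAddSubgroup (Subgroup.closure (Set.range g)) = Subgroup.toAddSubgroup ⊤ := by
      rw [hg']; rfl
    exact Subgroup.toAddSubgroup.injective this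

theorem card_generating_tuples {E : Type*} [Group E] [Finite E] {p r : ℕ} [hp : Fact p.Prime]
    (hc : ∀ a b : E, a * b = b * a) (he : ∀ a : E, a ^ p = 1) (hcard : Nat.card E = p ^ r) :
    Nat.card {g : Fin r → E // Subgroup.closure (Set.range g) = ⊤} =
      ∏ i ∈ Finset.range r, (p ^ r - p ^ i) :=
  @card_generating_tuples_comm E { (inferInstance : Group E) with mul_comm := hc } _ p r hp he hcard


/-- The order of the automorphism group of a `p`-group. -/
theorem card_mulAut_dvd {P : Type*} [Group P] [Finite P] {p n r : ℕ} [hp : Fact p.Prime]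
    (hP : Nat.card P = p ^ n) (hr : (frattini P).index = p ^ r) :
    Nat.card (MulAut P) ∣ p ^ (r * (n - r)) * ∏ i ∈ Finset.range r, (p ^ r - p ^ i) := by
  have hpg : IsPGroup p P := IsPGroup.of_card hP
  have hcardQ : Nat.card (P ⧸ frattini P) = p ^ r := by rw [← Subgroup.index_eq_card, hr]
  have hc : ∀ a b : P ⧸ frattini P, a * b = b * a :=
    Cfsg.Agent.helper1.quot_comm_of_commutator_le _
      (Cfsg.Agent.helper1.commutator_le_frattini_of_isPGroup hpg)
  have he : ∀ a : P ⧸ frattini P, a ^ p = 1 :=
    Cfsg.Agent.helper1.quot_pow_eq_one_of_pow_mem _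
      (Cfsg.Agent.helper1.pow_mem_frattini_of_isPGroup hpg)
  have hcountE := card_generating_tuples hc he hcardQ
  -- generating tuples of P
  let GP := {f : Fin r → P // Subgroup.closure (Set.range f) = ⊤}
  let GE := {g : Fin r → P ⧸ frattini P // Subgroup.closure (Set.range g) = ⊤}
  have hmk : ∀ e : P ⧸ frattini P, (QuotientGroup.mk' (frattini P)) e.out = e :=
    fun e => QuotientGroup.out_eq' _
  have e : GP ≃ GE × (Fin r → frattini P) :=
    { toFun := fun f => (⟨fun i => (QuotientGroup.mk' (frattini P)) (f.1 i), by
          have h1 : (Subgroup.closure (Set.range f.1)).map (QuotientGroup.mk' (frattini P)) = ⊤ := by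
            rw [f.2]
            exact Subgroup.map_top_of_surjective _ (QuotientGroup.mk'_surjective _)
          rw [MonoidHom.map_closure, ← Set.range_comp] at h1
          exact h1⟩,
        fun i => ⟨f.1 i * ((QuotientGroup.mk' (frattini P)) (f.1 i)).out⁻¹, by
          rw [← QuotientGroup.eq_one_iff]
          have := hmk ((QuotientGroup.mk' (frattini P)) (f.1 i))
          rw [QuotientGroup.mk_mul, QuotientGroup.mk_inv]
          change (QuotientGroup.mk' (frattini P)) (f.1 i) *
            ((QuotientGroup.mk' (frattini P)) ((QuotientGroup.mk' (frattini P)) (f.1 i)).out)⁻¹ = 1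
          rw [this, mul_inv_cancel]⟩)
      invFun := fun gφ => ⟨fun i => (gφ.2 i : P) * (gφ.1.1 i).out, by
          apply frattini_nongenerating
          apply closure_sup_eq_top_of_map
          have : (fun i => (QuotientGroup.mk' (frattini P)) ((gφ.2 i : P) * (gφ.1.1 i).out)) = gφ.1.1 := by
            funext i
            rw [map_mul, hmk]
            have : (QuotientGroup.mk' (frattini P)) (gφ.2 i : P) = 1 :=
              (QuotientGroup.eq_one_iff _).mpr (gφ.2 i).2
            rw [this, one_mul]
          rw [this]
          exact gφ.1.2⟩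
      left_inv := fun f => by
        apply Subtype.ext
        funext i
        simp
      right_inv := fun gφ => by
        have hq : ∀ i, (QuotientGroup.mk' (frattini P)) ((gφ.2 i : P) * (gφ.1.1 i).out) = gφ.1.1 i := by
          intro i
          rw [map_mul, hmk]
          have : (QuotientGroup.mk' (frattini P)) (gφ.2 i : P) = 1 :=
            (QuotientGroup.eq_one_iff _).mpr (gφ.2 i).2
          rw [this, one_mul]
        apply Prod.ext
        · apply Subtype.ext
          funext i
          exact hq i
        · funext i
          apply Subtype.ext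
          change (gφ.2 i : P) * (gφ.1.1 i).out *
            ((QuotientGroup.mk' (frattini P)) ((gφ.2 i : P) * (gφ.1.1 i).out)).out⁻¹ = gφ.2 i
          rw [hq i]
          group }
  letI inst : MulAction (MulAut P) GP :=
    { smul := fun α f => ⟨fun i => α (f.1 i), by
        have h1 : (Subgroup.closure (Set.range f.1)).map (α : P →* P) = ⊤ := by
          rw [f.2]
          exact Subgroup.map_top_of_surjective _ α.surjective
        rw [MonoidHom.map_closure, ← Set.range_comp] at h1
        exact h1⟩
      one_smul := fun f => Subtype.ext (funext fun i => rfl)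
      mul_smul := fun α β f => Subtype.ext (funext fun i => rfl) }
  have hsmul : ∀ (α : MulAut P) (f : GP) (i : Fin r), (α • f).1 i = α (f.1 i) := fun _ _ _ => rfl
  have hstab : ∀ f : GP, MulAction.stabilizer (MulAut P) f = ⊥ := by
    intro f
    rw [eq_bot_iff]
    intro α hα
    rw [MulAction.mem_stabilizer_iff] at hα
    rw [Subgroup.mem_bot]
    have hfix : ∀ i, α (f.1 i) = f.1 i := by
      intro i
      rw [← hsmul, hα]
    have : (α : P →* P) = MonoidHom.id P := by
      apply MonoidHom.eq_of_eqOn_dense f.2
      rintro _ ⟨i, rfl⟩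
      exact hfix i
    ext y
    have := DFunLike.congr_fun this y
    simpa using this
  have hrn : r ≤ n := by
    have := Subgroup.index_dvd_card (frattini P)
    rw [hr, hP] at this
    exact (Nat.pow_dvd_pow_iff_le_right hp.out.one_lt).mp this
  have hcardF : Nat.card (frattini P) = p ^ (n - r) := by
    have := Subgroup.card_mul_index (frattini P)
    rw [hr, hP] at this
    have h2 : p ^ n = p ^ (n - r) * p ^ r := by rw [← pow_add, Nat.sub_add_cancel hrn]
    rw [h2] at this
    exact Nat.eq_of_mul_eq_mul_right (pow_pos hp.out.pos r) this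
  have hcardGP : Nat.card GP = (∏ i ∈ Finset.range r, (p ^ r - p ^ i)) * p ^ (r * (n - r)) := by
    rw [Nat.card_congr e, Nat.card_prod, Nat.card_fun, Nat.card_eq_fintype_card (α := Fin r),
      Fintype.card_fin, hcardF, ← pow_mul, mul_comm (n - r) r]
    congr 1
  have hprod := Nat.card_congr (MulAction.selfEquivOrbitsQuotientProd hstab)
  rw [Nat.card_prod] at hprod
  have : Nat.card (MulAut P) ∣ Nat.card GP := Dvd.intro_left _ hprod.symm
  rw [hcardGP, mul_comm] at this
  exact this

end Cfsg.Agent.helper21
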