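import Mathlib
import Cfsg.Prelude.Def_Solvable
import Cfsg.Agent.Lib_helper4_RedE

set_option autoImplicit false
set_option linter.unusedSectionVars false

/-!
# Quadratic elements and `p`-stability: the general (non-faithful) form
-/

namespace Cfsg.Agent.helper4.Red

open Matrix Cfsg.Agent.helper4.Dk

variable {G : Type*} [Group G] {p : ℕ} [Fact p.Prime]

/-- **Quadratic pairs give a section `SL₂(p)`**, non-faithful form. -/
theorem core_section' [Finite G] (hp : p ≠ 2) (V H : Subgroup G)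
    (hV : Cfsg.IsElementaryAbelian p V) (hHV : H ≤ Subgroup.normalizer (V : Set G))
    (a b : G) (hab : H = Subgroup.closure {a, b})
    (ha : ⁅⁅V, Subgroup.zpowers a⁆, Subgroup.zpowers a⁆ = ⊥)
    (hb : ⁅⁅V, Subgroup.zpowers b⁆, Subgroup.zpowers b⁆ = ⊥)
    (hnu : ∃ g ∈ H, ∀ j : ℕ, g ^ p ^ j ∉ Subgroup.centralizer (V : Set G)) :
    ∃ (K L : Subgroup G) (_ : (L.subgroupOf K).Normal), K ≤ H ∧
      Nonempty ((K ⧸ L.subgroupOf K) ≃* SpecialLinearGroup (Fin 2) (ZMod p)) := by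
  haveI : Fact (Cfsg.IsElementaryAbelian p V) := ⟨hV⟩
  have haH : a ∈ H := by rw [hab]; exact Subgroup.subset_closure (by simp)
  have hbH : b ∈ H := by rw [hab]; exact Subgroup.subset_closure (by simp)
  have hgen : Subgroup.closure ({⟨a, haH⟩, ⟨b, hbH⟩} : Set H) = ⊤ := by
    apply Subgroup.map_injective H.subtype_injective
    rw [MonoidHom.map_closure, ← MonoidHom.range_eq_map, Subgroup.range_subtype]
    have : (H.subtype '' ({⟨a, haH⟩, ⟨b, hbH⟩} : Set H)) = {a, b} := by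
      ext x
      simp [Set.image_insert_eq]
    rw [this, ← hab]
  have hnu' : ∃ g : H, ∀ j : ℕ, conjRep p V H hHV (g ^ p ^ j) ≠ 1 := by
    obtain ⟨g, hgH, hg⟩ := hnu
    refine ⟨⟨g, hgH⟩, fun j h => hg j ?_⟩
    have h1 := mem_centralizer_of_conjRep_eq_one V H hHV _ h
    simpa using h1
  obtain ⟨φ, f, hfi, hfr⟩ := comb (k := ZMod p) hp hgen (conjRep p V H hHV)
    (conjRep_quadratic V H hHV ⟨a, haH⟩ ha) (conjRep_quadratic V H hHV ⟨b, hbH⟩ hb) hnu'
  exact exists_section_of_hom H φ f hfi hfr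

/-- **`p`-stability, elementary abelian form.**  If `a ∈ N₀ ≤ N(V)` acts quadratically on the
elementary abelian `p`-subgroup `V`, `π : N₀ → Y` is onto with kernel inside `C(V)`, and `π a` is not
in `O_p(Y)`, then `N₀` has a section `SL₂(p)`. -/
theorem section_of_not_pstable [Finite G] (hp : p ≠ 2) (V N₀ : Subgroup G)
    (hV : Cfsg.IsElementaryAbelian p V) (hN₀ : N₀ ≤ Subgroup.normalizer (V : Set G))
    {Y : Type*} [Group Y] (π : N₀ →* Y) (hπ : Function.Surjective π)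
    (hker' : ∀ x : N₀, (x : G) ∈ Subgroup.centralizer (V : Set G) → π x = 1)
    (a : G) (haN : a ∈ N₀) (hq : ⁅⁅V, Subgroup.zpowers a⁆, Subgroup.zpowers a⁆ = ⊥)
    (hns : π ⟨a, haN⟩ ∉ Cfsg.pCore p Y) :
    ∃ (K L : Subgroup G) (_ : (L.subgroupOf K).Normal), K ≤ N₀ ∧
      Nonempty ((K ⧸ L.subgroupOf K) ≃* SpecialLinearGroup (Fin 2) (ZMod p)) := by
  haveI : Finite Y := Finite.of_surjective π hπ
  -- Baer-Suzuki in Y
  have hBS : ∃ y : Y, ¬ IsPGroup p
      ↥(Subgroup.closure ({π ⟨a, haN⟩, y * π ⟨a, haN⟩ * y⁻¹} : Set Y)) := by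
    by_contra hcon
    simp only [not_exists, not_not] at hcon
    apply hns
    rw [Cfsg.Agent.helper1.pCore_eq_iInf_sylow]
    exact Cfsg.Agent.helper15.mem_iInf_sylow_of_baer_suzuki _ hcon
  obtain ⟨y, hy⟩ := hBS
  obtain ⟨g, rfl⟩ := hπ y
  set b : G := (g : G) * a * (g : G)⁻¹ with hb
  have hbN : b ∈ N₀ := N₀.mul_mem (N₀.mul_mem g.2 haN) (N₀.inv_mem g.2)
  set Γ : Subgroup G := Subgroup.closure {a, b} with hΓ
  have hΓN : Γ ≤ N₀ := by
    rw [hΓ, Subgroup.closure_le]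
    rintro z (rfl | rfl)
    · exact haN
    · exact hbN
  -- the image of Γ in Y
  have himg : Subgroup.closure ({π ⟨a, haN⟩, π g * π ⟨a, haN⟩ * (π g)⁻¹} : Set Y) =
      (Γ.subgroupOf N₀).map π := by
    have h1 : Γ.subgroupOf N₀ = Subgroup.closure ({⟨a, haN⟩, ⟨b, hbN⟩} : Set N₀) := by
      apply Subgroup.map_injective N₀.subtype_injective
      rw [MonoidHom.map_closure, Subgroup.subgroupOf, Subgroup.map_comap_eq,
        Subgroup.range_subtype, inf_eq_right.mpr hΓN]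
      have : (N₀.subtype '' ({⟨a, haN⟩, ⟨b, hbN⟩} : Set N₀)) = {a, b} := by
        ext x
        simp [Set.image_insert_eq]
      rw [this]
    rw [h1, MonoidHom.map_closure]
    congr 1
    ext z
    simp only [Set.image_insert_eq, Set.image_singleton, Set.mem_insert_iff,
      Set.mem_singleton_iff]
    have : π ⟨b, hbN⟩ = π g * π ⟨a, haN⟩ * (π g)⁻¹ := by
      rw [← map_inv, ← map_mul, ← map_mul]
      rfl
    rw [this]
  rw [himg] at hy
  have hnu : ∃ h ∈ Γ, ∀ j : ℕ, h ^ p ^ j ∉ Subgroup.centralizer (V : Set G) := by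
    by_contra hcon
    simp only [not_exists, not_and, not_forall, not_not] at hcon
    apply hy
    rintro ⟨_, ⟨h, hh, rfl⟩⟩
    obtain ⟨j, hj⟩ := hcon (h : G) hh
    refine ⟨j, ?_⟩
    apply Subtype.ext
    simp only [Subgroup.coe_pow, Subgroup.coe_one, ← map_pow]
    exact hker' _ (by simpa using hj)
  obtain ⟨K, L, hL, hK, e⟩ := core_section' hp V Γ hV (le_trans hΓN hN₀) a b hΓ hq
    (quadratic_conj V (hN₀ g.2) hq) hnu
  exact ⟨K, L, hL, le_trans hK hΓN, e⟩

/-- `X` has a section isomorphic to `SL₂(p)` -/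
def HasSec (p : ℕ) [Fact p.Prime] (X : Type*) [Group X] : Prop :=
  ∃ (K : Subgroup X) (ψ : K →* SpecialLinearGroup (Fin 2) (ZMod p)), Function.Surjective ψ

theorem hasSec_of_section {X : Type*} [Group X] (K L : Subgroup X) (hL : (L.subgroupOf K).Normal)
    (e : Nonempty ((K ⧸ L.subgroupOf K) ≃* SpecialLinearGroup (Fin 2) (ZMod p))) : HasSec p X := by
  obtain ⟨e⟩ := e
  exact ⟨K, e.toMonoidHom.comp (QuotientGroup.mk' _),
    e.surjective.comp (QuotientGroup.mk'_surjective _)⟩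

theorem HasSec.exists_section {X : Type*} [Group X] (h : HasSec p X) :
    ∃ (K L : Subgroup X) (_ : (L.subgroupOf K).Normal),
      Nonempty ((K ⧸ L.subgroupOf K) ≃* SpecialLinearGroup (Fin 2) (ZMod p)) := by
  obtain ⟨K, ψ, hψ⟩ := h
  have hRk : (ψ.ker.map K.subtype).subgroupOf K = ψ.ker :=
    Subgroup.comap_map_eq_self_of_injective K.subtype_injective _
  haveI hRn : ((ψ.ker.map K.subtype).subgroupOf K).Normal := by rw [hRk]; infer_instance
  exact ⟨K, ψ.ker.map K.subtype, hRn,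
    ⟨(QuotientGroup.quotientMulEquivOfEq hRk).trans
      (QuotientGroup.quotientKerEquivOfSurjective ψ hψ)⟩⟩

theorem HasSec.of_surjective {X X₂ : Type*} [Group X] [Group X₂] (π : X →* X₂)
    (hπ : Function.Surjective π) (h : HasSec p X₂) : HasSec p X := by
  obtain ⟨K, ψ, hψ⟩ := h
  refine ⟨K.comap π, ψ.comp (π.subgroupComap K), ?_⟩
  exact hψ.comp (π.subgroupComap_surjective_of_surjective K hπ)

theorem HasSec.of_injective {X X₂ : Type*} [Group X] [Group X₂] (ι : X₂ →* X)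
    (hι : Function.Injective ι) (h : HasSec p X₂) : HasSec p X := by
  obtain ⟨K, ψ, hψ⟩ := h
  refine ⟨K.map ι, ψ.comp (K.equivMapOfInjective ι hι).symm.toMonoidHom, ?_⟩
  exact hψ.comp (K.equivMapOfInjective ι hι).symm.surjective

theorem not_hasSec_of_twoComm {X : Type*} [Group X] [Finite X] (hp : p ≠ 2) (h : TwoComm X) :
    ¬ HasSec p X := by
  rintro ⟨K, ψ, hψ⟩
  have h2 : TwoComm K := h.of_injective K.subtype K.subtype_injective
  exact not_twoComm_sl2 p hp (h2.of_surjective ψ hψ)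

end Cfsg.Agent.helper4.Red
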