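import Mathlib
import Cfsg.Prelude.Def_PLocal
import Cfsg.Agent.Lib_helper4_RedF
import Cfsg.Agent.Lib_helper1_PGroup

set_option autoImplicit false
set_option linter.unusedSectionVars false

/-!
# Groups without sections `SL₂(p)` are `p`-stable in the action sense
-/

namespace Cfsg.Agent.helper4.Red

open Matrix Cfsg.Agent.helper4.Dk
open scoped commutatorElement

variable {p : ℕ} [Fact p.Prime]

theorem isPStableOn_of_not_hasSec {X : Type*} [Group X] [Finite X] (hp : p ≠ 2)
    (hno : ¬ HasSec p X) (V : Subgroup X) [V.Normal] (hV : Cfsg.IsElementaryAbelian p V) :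
    Cfsg.IsPStableOn p V := by
  intro a hq
  by_contra hns
  apply hno
  set π : (⊤ : Subgroup X) →* X ⧸ Subgroup.centralizer (V : Set X) :=
    (QuotientGroup.mk' _).comp (⊤ : Subgroup X).subtype with hπ
  have hsurj : Function.Surjective π := by
    intro y
    obtain ⟨x, rfl⟩ := QuotientGroup.mk'_surjective _ y
    exact ⟨⟨x, Subgroup.mem_top x⟩, rfl⟩
  have hker' : ∀ x : (⊤ : Subgroup X), (x : X) ∈ Subgroup.centralizer (V : Set X) → π x = 1 := by
    intro x hx
    exact (QuotientGroup.eq_one_iff _).mpr hx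
  obtain ⟨K, L, hL, -, e⟩ := section_of_not_pstable hp V ⊤ hV
    (by rw [Subgroup.normalizer_eq_top]) π hsurj hker' a (Subgroup.mem_top a) hq hns
  exact hasSec_of_section K L hL e

/-- the elements of order dividing `p` in an abelian subgroup -/
theorem isElementaryAbelian_omegaOne {S : Type*} [Group S] (H : Subgroup S)
    (hH : ∀ x ∈ H, ∀ y ∈ H, x * y = y * x) : Cfsg.IsElementaryAbelian p (Cfsg.omegaOne p H) := by
  let E : Subgroup S :=
    { carrier := {x | x ∈ H ∧ x ^ p = 1}
      mul_mem' := by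
        rintro x y ⟨hx, hxp⟩ ⟨hy, hyp⟩
        refine ⟨H.mul_mem hx hy, ?_⟩
        rw [(show Commute x y from hH x hx y hy).mul_pow, hxp, hyp, one_mul]
      one_mem' := ⟨H.one_mem, one_pow _⟩
      inv_mem' := by
        rintro x ⟨hx, hxp⟩
        exact ⟨H.inv_mem hx, by rw [inv_pow, hxp, inv_one]⟩ }
  have hE : Cfsg.omegaOne p H = E := by
    unfold Cfsg.omegaOne
    exact Subgroup.closure_eq E
  rw [hE]
  refine ⟨⟨⟨fun a b => Subtype.ext (hH _ a.2.1 _ b.2.1)⟩⟩, fun a ha => ha.2⟩

theorem isElementaryAbelian_of_map_le {X Y : Type*} [Group X] [Group Y] (f : X →* Y)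
    (hf : Function.Injective f) (V : Subgroup X) (E : Subgroup Y)
    (hE : Cfsg.IsElementaryAbelian p E) (hVE : V.map f ≤ E) : Cfsg.IsElementaryAbelian p V := by
  refine ⟨⟨⟨fun a b => ?_⟩⟩, fun a ha => ?_⟩
  · apply Subtype.ext
    apply hf
    have ha : f a ∈ E := hVE (Subgroup.mem_map_of_mem f a.2)
    have hb : f b ∈ E := hVE (Subgroup.mem_map_of_mem f b.2)
    have := hE.1.is_comm.comm (⟨_, ha⟩ : E) ⟨_, hb⟩
    have h2 : f a * f b = f b * f a := congrArg Subtype.val this
    simpa using h2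
  · apply hf
    rw [map_pow, map_one]
    exact hE.2 _ (hVE (Subgroup.mem_map_of_mem f ha))

theorem relIndex_ker_comap {X : Type*} [Group X] (C : Subgroup X) [C.Normal]
    (O : Subgroup (X ⧸ C)) : C.relIndex (O.comap (QuotientGroup.mk' C)) = Nat.card O := by
  have h : (⊥ : Subgroup (X ⧸ C)).comap (QuotientGroup.mk' C) = C := by
    rw [MonoidHom.comap_bot, QuotientGroup.ker_mk']
  have := Subgroup.relIndex_comap (⊥ : Subgroup (X ⧸ C)) (QuotientGroup.mk' C)
    (O.comap (QuotientGroup.mk' C))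
  rw [h, Subgroup.map_comap_eq_self_of_surjective (QuotientGroup.mk'_surjective C),
    Subgroup.relIndex_bot_left] at this
  exact this

theorem isPStableOnSection_of_not_hasSec {G : Type*} [Group G] [Finite G] (hp : p ≠ 2)
    (hno : ¬ HasSec p G) (K N : Subgroup G) [hNn : N.Normal] [hKn : K.Normal]
    (hKN : Cfsg.IsElementaryAbelian p (K.map (QuotientGroup.mk' N))) :
    Cfsg.IsPStableOnSection p K N := by
  intro a hq
  haveI hVn : (K.map (QuotientGroup.mk' N)).Normal :=
    Subgroup.Normal.map hKn _ (QuotientGroup.mk'_surjective N)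
  have hno' : ¬ HasSec p (G ⧸ N) :=
    fun h => hno (h.of_surjective (QuotientGroup.mk' N) (QuotientGroup.mk'_surjective N))
  have hq' : ⁅⁅K.map (QuotientGroup.mk' N), Subgroup.zpowers (QuotientGroup.mk' N a)⁆,
      Subgroup.zpowers (QuotientGroup.mk' N a)⁆ = ⊥ := by
    rw [← MonoidHom.map_zpowers, ← Subgroup.map_commutator, ← Subgroup.map_commutator, eq_bot_iff,
      Subgroup.map_le_iff_le_comap]
    intro x hx
    have hxN := hq hx
    rw [Subgroup.mem_comap, Subgroup.mem_bot]
    exact (QuotientGroup.eq_one_iff x).mpr hxN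
  have h1 := isPStableOn_of_not_hasSec hp hno' (K.map (QuotientGroup.mk' N)) hKN
    (QuotientGroup.mk' N a) hq'
  set C := Subgroup.centralizer ((K.map (QuotientGroup.mk' N) : Subgroup (G ⧸ N)) : Set (G ⧸ N))
    with hC
  set O := Cfsg.pCore p ((G ⧸ N) ⧸ C) with hO
  have hOp : IsPGroup p O := Cfsg.Agent.helper1.pCore_isPGroup p
  obtain ⟨k, hk⟩ := IsPGroup.iff_card.mp hOp
  have hCO : C ≤ O.comap (QuotientGroup.mk' C) := by
    intro x hx
    rw [Subgroup.mem_comap]
    have : QuotientGroup.mk' C x = 1 := (QuotientGroup.eq_one_iff x).mpr hx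
    rw [this]; exact O.one_mem
  refine ⟨(O.comap (QuotientGroup.mk' C)).comap (QuotientGroup.mk' N), inferInstance, ?_,
    ⟨k, ?_⟩, h1⟩
  · unfold Cfsg.sectionKernel
    exact Subgroup.comap_mono hCO
  · unfold Cfsg.sectionKernel
    rw [Subgroup.relIndex_comap, Subgroup.map_comap_eq_self_of_surjective
      (QuotientGroup.mk'_surjective N)]
    rw [relIndex_ker_comap, hk]

theorem isElementaryAbelian_map {X Y : Type*} [Group X] [Group Y] (f : X →* Y) (E : Subgroup X)
    (hE : Cfsg.IsElementaryAbelian p E) : Cfsg.IsElementaryAbelian p (E.map f) := by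
  refine ⟨⟨⟨fun a b => ?_⟩⟩, fun a ha => ?_⟩
  · obtain ⟨a', ha', haa⟩ := a.2
    obtain ⟨b', hb', hbb⟩ := b.2
    apply Subtype.ext
    have := hE.1.is_comm.comm (⟨_, ha'⟩ : E) ⟨_, hb'⟩
    have h2 : a' * b' = b' * a' := congrArg Subtype.val this
    show (a : Y) * (b : Y) = (b : Y) * (a : Y)
    rw [← haa, ← hbb, ← map_mul, ← map_mul, h2]
  · obtain ⟨a', ha', rfl⟩ := ha
    rw [← map_pow, hE.2 _ ha', map_one]

theorem isElementaryAbelian_frattini_quotient {G : Type*} [Group G] [Finite G] (K : Subgroup G)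
    (hK : IsPGroup p K) [hN : ((frattini ↥K).map K.subtype).Normal] :
    Cfsg.IsElementaryAbelian p (K.map (QuotientGroup.mk' ((frattini ↥K).map K.subtype))) := by
  have hcomm : ∀ x ∈ K, ∀ y ∈ K, x * y * x⁻¹ * y⁻¹ ∈ (frattini ↥K).map K.subtype := by
    intro x hx y hy
    have h1 : ⁅(⟨x, hx⟩ : K), ⟨y, hy⟩⁆ ∈ frattini ↥K :=
      Cfsg.Agent.helper1.commutator_le_frattini_of_isPGroup hK
        (Subgroup.commutator_mem_commutator (Subgroup.mem_top _) (Subgroup.mem_top _))
    exact ⟨_, h1, rfl⟩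
  have hpow : ∀ x ∈ K, x ^ p ∈ (frattini ↥K).map K.subtype := by
    intro x hx
    exact ⟨_, Cfsg.Agent.helper1.pow_mem_frattini_of_isPGroup hK ⟨x, hx⟩, rfl⟩
  refine ⟨⟨⟨fun a b => ?_⟩⟩, fun a ha => ?_⟩
  · obtain ⟨a', ha', haa⟩ := a.2
    obtain ⟨b', hb', hbb⟩ := b.2
    apply Subtype.ext
    show (a : G ⧸ (frattini ↥K).map K.subtype) * (b : G ⧸ (frattini ↥K).map K.subtype) =
      (b : G ⧸ (frattini ↥K).map K.subtype) * (a : G ⧸ (frattini ↥K).map K.subtype)
    rw [← haa, ← hbb, ← map_mul, ← map_mul]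
    have h1 := (QuotientGroup.eq_one_iff _).mpr (hcomm a' ha' b' hb')
    have h2 : QuotientGroup.mk' ((frattini ↥K).map K.subtype) (a' * b') =
        QuotientGroup.mk' ((frattini ↥K).map K.subtype) (a' * b' * a'⁻¹ * b'⁻¹) *
          QuotientGroup.mk' ((frattini ↥K).map K.subtype) (b' * a') := by
      rw [← map_mul]; congr 1; group
    rw [h2]
    have h1' : QuotientGroup.mk' ((frattini ↥K).map K.subtype) (a' * b' * a'⁻¹ * b'⁻¹) = 1 := h1
    rw [h1', one_mul]
  · obtain ⟨a', ha', rfl⟩ := ha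
    rw [← map_pow]
    exact (QuotientGroup.eq_one_iff _).mpr (hpow a' ha')

/-- **Groups without sections `SL₂(p)` are `p`-stable in the action sense.** -/
theorem isActionPStable_of_not_hasSec {G : Type*} [Group G] [Finite G] (hp : p ≠ 2)
    (hno : ¬ HasSec p G) : Cfsg.IsActionPStable p G := by
  refine ⟨?_, ?_, ?_⟩
  · intro V _ hV
    exact isPStableOn_of_not_hasSec hp hno V hV
  · apply isPStableOnSection_of_not_hasSec hp hno
    exact isElementaryAbelian_frattini_quotient _ (Cfsg.Agent.helper1.pCore_isPGroup p)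
  · intro S V _ hle
    have hno' : ¬ HasSec p
        ↥(Subgroup.normalizer (Cfsg.thompsonSubgroupOf p (S : Subgroup G) : Set G)) :=
      fun h => hno (h.of_injective (Subgroup.subtype _) (Subgroup.subtype_injective _))
    apply isPStableOn_of_not_hasSec hp hno' V
    have hE : Cfsg.IsElementaryAbelian p (Cfsg.omegaCenterThompson p ↥(S : Subgroup G)) := by
      unfold Cfsg.omegaCenterThompson
      apply isElementaryAbelian_omegaOne
      intro x hx y hy
      have := Subgroup.mem_centralizer_iff.mp hx.2 y hy.1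
      exact this.symm
    exact isElementaryAbelian_of_map_le (Subgroup.subtype _) (Subgroup.subtype_injective _) V _
      (isElementaryAbelian_map (S : Subgroup G).subtype _ hE) hle

end Cfsg.Agent.helper4.Red
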