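import Mathlib
import Cfsg.Prelude.Def_Solvable
import Cfsg.Prelude.Def_LocalEven
import Cfsg.Agent.Lib_helper4_RedG
import Cfsg.Agent.Lib_helper21_PGroupAut

set_option autoImplicit false
set_option linter.unusedSectionVars false

/-!
# Quadratic elements and `p`-stability: abstract representation form
-/

namespace Cfsg.Agent.helper4.Red

open Matrix Cfsg.Agent.helper4.Dk

variable {p : ℕ} [Fact p.Prime]

/-- **abstract form**: a finite group `Λ` acting on a finite `𝔽_p`-module `M`, `π : Λ → Y` onto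
such that the kernel of the action is mapped to `p`-elements, `a ∈ Λ` quadratic with `π a ∉ O_p(Y)`:
then `Λ` has a section `SL₂(p)`. -/
theorem hasSec_of_rep {Λ : Type*} [Group Λ] [Finite Λ] (hp : p ≠ 2) {M : Type*} [AddCommGroup M]
    [Module (ZMod p) M] [Module.Finite (ZMod p) M] (ρ₀ : Λ →* Module.End (ZMod p) M)
    {Y : Type*} [Group Y] (π : Λ →* Y) (hπ : Function.Surjective π)
    (hker : ∀ x : Λ, ρ₀ x = 1 → ∃ j : ℕ, π x ^ p ^ j = 1) (a : Λ)
    (ha2 : (ρ₀ a - 1) * (ρ₀ a - 1) = 0) (hns : π a ∉ Cfsg.pCore p Y) : HasSec p Λ := by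
  haveI : Finite Y := Finite.of_surjective π hπ
  have hBS : ∃ y : Y, ¬ IsPGroup p ↥(Subgroup.closure ({π a, y * π a * y⁻¹} : Set Y)) := by
    by_contra hcon
    simp only [not_exists, not_not] at hcon
    apply hns
    rw [Cfsg.Agent.helper1.pCore_eq_iInf_sylow]
    exact Cfsg.Agent.helper15.mem_iInf_sylow_of_baer_suzuki _ hcon
  obtain ⟨y, hy⟩ := hBS
  obtain ⟨g, rfl⟩ := hπ y
  set b : Λ := g * a * g⁻¹ with hb
  have hb2 : (ρ₀ b - 1) * (ρ₀ b - 1) = 0 := by
    have h1 : ρ₀ g⁻¹ * ρ₀ g = 1 := by rw [← map_mul, inv_mul_cancel, map_one]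
    have h2 : ρ₀ g * ρ₀ g⁻¹ = 1 := by rw [← map_mul, mul_inv_cancel, map_one]
    have h3 : ρ₀ b - 1 = ρ₀ g * (ρ₀ a - 1) * ρ₀ g⁻¹ := by
      rw [hb, map_mul, map_mul, mul_sub, sub_mul, mul_one, h2]
    rw [h3]
    calc ρ₀ g * (ρ₀ a - 1) * ρ₀ g⁻¹ * (ρ₀ g * (ρ₀ a - 1) * ρ₀ g⁻¹)
        = ρ₀ g * (ρ₀ a - 1) * (ρ₀ g⁻¹ * ρ₀ g) * (ρ₀ a - 1) * ρ₀ g⁻¹ := by noncomm_ring
      _ = ρ₀ g * ((ρ₀ a - 1) * (ρ₀ a - 1)) * ρ₀ g⁻¹ := by rw [h1]; noncomm_ring
      _ = 0 := by rw [ha2]; simp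
  set Γ : Subgroup Λ := Subgroup.closure {a, b} with hΓ
  have haΓ : a ∈ Γ := Subgroup.subset_closure (by simp)
  have hbΓ : b ∈ Γ := Subgroup.subset_closure (by simp)
  have hgen : Subgroup.closure ({⟨a, haΓ⟩, ⟨b, hbΓ⟩} : Set Γ) = ⊤ := by
    apply Subgroup.map_injective Γ.subtype_injective
    rw [MonoidHom.map_closure, ← MonoidHom.range_eq_map, Subgroup.range_subtype]
    have : (Γ.subtype '' ({⟨a, haΓ⟩, ⟨b, hbΓ⟩} : Set Γ)) = {a, b} := by
      ext x
      simp [Set.image_insert_eq]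
    rw [this]
  have himg : Subgroup.closure ({π a, π g * π a * (π g)⁻¹} : Set Y) = Γ.map π := by
    rw [hΓ, MonoidHom.map_closure]
    congr 1
    ext z
    simp only [Set.image_insert_eq, Set.image_singleton, Set.mem_insert_iff,
      Set.mem_singleton_iff, hb, map_mul, map_inv]
  rw [himg] at hy
  have hnu : ∃ h : Γ, ∀ j : ℕ, (ρ₀.comp Γ.subtype) (h ^ p ^ j) ≠ 1 := by
    by_contra hcon
    simp only [not_exists, not_forall, not_not] at hcon
    apply hy
    rintro ⟨_, ⟨h, hh, rfl⟩⟩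
    obtain ⟨j, hj⟩ := hcon ⟨h, hh⟩
    obtain ⟨j', hj'⟩ := hker (h ^ p ^ j) (by simpa using hj)
    refine ⟨j + j', ?_⟩
    apply Subtype.ext
    simp only [Subgroup.coe_pow, Subgroup.coe_one]
    rw [pow_add, pow_mul, ← map_pow π h]
    exact hj'
  obtain ⟨φ, f, hfi, hfr⟩ := comb (k := ZMod p) hp hgen (ρ₀.comp Γ.subtype) ha2 hb2 hnu
  obtain ⟨K, L, hL, -, e⟩ := exists_section_of_hom Γ φ f hfi hfr
  exact hasSec_of_section K L hL e

/-- conjugation representation for a normal elementary abelian subgroup -/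
noncomputable def conjRepN (p : ℕ) [Fact p.Prime] {X : Type*} [Group X] (V : Subgroup X)
    [V.Normal] [Fact (Cfsg.IsElementaryAbelian p V)] : X →* Module.End (ZMod p) (EA p V) :=
  (conjRep p V ⊤ (by rw [Subgroup.normalizer_eq_top])).comp
    (Subgroup.topEquiv (G := X)).symm.toMonoidHom

theorem conjRepN_val {X : Type*} [Group X] (V : Subgroup X) [V.Normal]
    [Fact (Cfsg.IsElementaryAbelian p V)] (g : X) (x : EA p V) :
    ((conjRepN p V g x).val : X) = g * (x.val : X) * g⁻¹ := rfl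

theorem conjRepN_quadratic {X : Type*} [Group X] (V : Subgroup X) [V.Normal]
    [Fact (Cfsg.IsElementaryAbelian p V)] (a : X)
    (hq : ⁅⁅V, Subgroup.zpowers a⁆, Subgroup.zpowers a⁆ = ⊥) :
    (conjRepN p V a - 1) * (conjRepN p V a - 1) = 0 :=
  conjRep_quadratic V ⊤ (by rw [Subgroup.normalizer_eq_top])
    ((Subgroup.topEquiv (G := X)).symm a) hq

/-- **`p`-stability, normalizer form.** -/
theorem hasSec_normalizer_of_not_pstable {G : Type*} [Group G] [Finite G] (hp : p ≠ 2)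
    (P : Subgroup G) (hP : IsPGroup p P) (g : G) (hg : g ∈ Subgroup.normalizer (P : Set G))
    (hq : ⁅⁅P, Subgroup.zpowers g⁆, Subgroup.zpowers g⁆ = ⊥)
    (hns : (QuotientGroup.mk (s := (Subgroup.centralizer (P : Set G)).subgroupOf
        (Subgroup.normalizer (P : Set G))) (⟨g, hg⟩ : ↥(Subgroup.normalizer (P : Set G)))) ∉
      Cfsg.pCore p (↥(Subgroup.normalizer (P : Set G)) ⧸
        (Subgroup.centralizer (P : Set G)).subgroupOf (Subgroup.normalizer (P : Set G)))) :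
    HasSec p ↥(Subgroup.normalizer (P : Set G)) := by
  have hpp : p.Prime := Fact.out
  obtain ⟨N, hN⟩ : ∃ N : Subgroup G, N = Subgroup.normalizer (P : Set G) := ⟨_, rfl⟩
  have hPN : P ≤ Subgroup.normalizer (P : Set G) := Subgroup.le_normalizer
  -- the normal subgroup Pn of N
  set Pn : Subgroup ↥(Subgroup.normalizer (P : Set G)) :=
    P.subgroupOf (Subgroup.normalizer (P : Set G)) with hPn
  haveI hPnn : Pn.Normal := Subgroup.normal_in_normalizer
  have hPnp : IsPGroup p Pn := hP.comap_of_injective _ (Subgroup.subtype_injective _)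
  set Φ : Subgroup ↥(Subgroup.normalizer (P : Set G)) := (frattini ↥Pn).map Pn.subtype with hΦ
  haveI hΦn : Φ.Normal := by rw [hΦ]; infer_instance
  set V₂ : Subgroup (↥(Subgroup.normalizer (P : Set G)) ⧸ Φ) := Pn.map (QuotientGroup.mk' Φ)
    with hV₂
  haveI hV₂n : V₂.Normal := Subgroup.Normal.map hPnn _ (QuotientGroup.mk'_surjective Φ)
  have hV₂ea : Cfsg.IsElementaryAbelian p V₂ := isElementaryAbelian_frattini_quotient Pn hPnp
  haveI : Fact (Cfsg.IsElementaryAbelian p V₂) := ⟨hV₂ea⟩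
  set ρ₀ : ↥(Subgroup.normalizer (P : Set G)) →* Module.End (ZMod p) (EA p V₂) :=
    (conjRepN p V₂).comp (QuotientGroup.mk' Φ) with hρ₀
  -- quadratic
  have hq1 : ⁅⁅Pn, Subgroup.zpowers (⟨g, hg⟩ : ↥(Subgroup.normalizer (P : Set G)))⁆,
      Subgroup.zpowers (⟨g, hg⟩ : ↥(Subgroup.normalizer (P : Set G)))⁆ = ⊥ := by
    apply Subgroup.map_injective (Subgroup.subtype_injective (Subgroup.normalizer (P : Set G)))
    rw [Subgroup.map_commutator, Subgroup.map_commutator, MonoidHom.map_zpowers, hPn,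
      Subgroup.subgroupOf_map_subtype, inf_eq_left.mpr hPN, Subgroup.map_bot]
    exact hq
  have hq2 : ⁅⁅V₂, Subgroup.zpowers (QuotientGroup.mk' Φ ⟨g, hg⟩)⁆,
      Subgroup.zpowers (QuotientGroup.mk' Φ ⟨g, hg⟩)⁆ = ⊥ := by
    rw [hV₂, ← MonoidHom.map_zpowers, ← Subgroup.map_commutator, ← Subgroup.map_commutator, hq1,
      Subgroup.map_bot]
  have ha2 : (ρ₀ ⟨g, hg⟩ - 1) * (ρ₀ ⟨g, hg⟩ - 1) = 0 := conjRepN_quadratic V₂ _ hq2
  -- the kernel consists of p-elements modulo the centralizer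
  have hker : ∀ x : ↥(Subgroup.normalizer (P : Set G)), ρ₀ x = 1 →
      ∃ j : ℕ, (QuotientGroup.mk' ((Subgroup.centralizer (P : Set G)).subgroupOf
        (Subgroup.normalizer (P : Set G))) x) ^ p ^ j = 1 := by
    intro x hx
    -- step A
    have hA : ∀ (k : ℕ) (u : Pn), x ^ k * (u : ↥(Subgroup.normalizer (P : Set G))) * (x ^ k)⁻¹ *
        (u : ↥(Subgroup.normalizer (P : Set G)))⁻¹ ∈ Φ := by
      intro k u
      have h1 : ρ₀ (x ^ k) = 1 := by rw [map_pow, hx, one_pow]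
      have hu : QuotientGroup.mk' Φ (u : ↥(Subgroup.normalizer (P : Set G))) ∈ V₂ :=
        Subgroup.mem_map_of_mem _ u.2
      have h2 := congrArg (fun f => ((f (EA.mk ⟨_, hu⟩ : EA p V₂)).val :
        ↥(Subgroup.normalizer (P : Set G)) ⧸ Φ)) h1
      simp only [hρ₀, MonoidHom.comp_apply, conjRepN_val, EA.val_mk, Module.End.one_apply] at h2
      rw [← QuotientGroup.eq_one_iff]
      have h3 : QuotientGroup.mk' Φ (x ^ k * (u : ↥(Subgroup.normalizer (P : Set G))) * (x ^ k)⁻¹ *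
          (u : ↥(Subgroup.normalizer (P : Set G)))⁻¹) = 1 := by
        rw [map_mul, map_mul, map_inv, map_mul, map_inv, h2, mul_inv_cancel]
      exact h3
    -- step B
    set α : MulAut Pn := MulAut.conjNormal x with hα
    have hB : ∀ β ∈ Subgroup.zpowers α, ∀ u : Pn, β u * u⁻¹ ∈ frattini ↥Pn := by
      intro β hβ u
      rw [← mem_powers_iff_mem_zpowers] at hβ
      obtain ⟨k, rfl⟩ := hβ
      rw [← Subgroup.mem_map_iff_mem Pn.subtype_injective, ← hΦ]
      have : Pn.subtype ((α ^ k) u * u⁻¹) = x ^ k * (u : ↥(Subgroup.normalizer (P : Set G))) *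
          (x ^ k)⁻¹ * (u : ↥(Subgroup.normalizer (P : Set G)))⁻¹ := by
        have e : (MulAut.conjNormal x : MulAut Pn) ^ k = MulAut.conjNormal (x ^ k) :=
          (map_pow _ _ _).symm
        rw [hα, e, map_mul, map_inv]
        show ((MulAut.conjNormal (x ^ k) u : Pn) : ↥(Subgroup.normalizer (P : Set G))) * _ = _
        rw [MulAut.conjNormal_apply]
        rfl
      rw [this]
      exact hA k u
    -- step C
    obtain ⟨n, hn⟩ := IsPGroup.iff_card.mp hPnp
    have hdvd : (frattini ↥Pn).index ∣ p ^ n := by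
      rw [← hn]; exact Subgroup.index_dvd_card _
    obtain ⟨r, -, hr⟩ := (Nat.dvd_prime_pow hpp).mp hdvd
    have hcard := Cfsg.Agent.helper21.card_dvd_of_fix_frattini hn hr (Subgroup.zpowers α) hB
    rw [Nat.card_zpowers] at hcard
    have hpow : α ^ p ^ (r * (n - r)) = 1 := orderOf_dvd_iff_pow_eq_one.mp hcard
    refine ⟨r * (n - r), ?_⟩
    rw [← map_pow]
    apply (QuotientGroup.eq_one_iff _).mpr
    rw [Subgroup.mem_subgroupOf, Subgroup.mem_centralizer_iff]
    intro v hv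
    have h1 := congrArg (fun f : MulAut Pn => ((f ⟨⟨v, hPN hv⟩, hv⟩ : Pn) :
      ↥(Subgroup.normalizer (P : Set G)))) hpow
    have e : (MulAut.conjNormal x : MulAut Pn) ^ p ^ (r * (n - r)) =
        MulAut.conjNormal (x ^ p ^ (r * (n - r))) := (map_pow _ _ _).symm
    rw [hα, e] at h1
    simp only [MulAut.conjNormal_apply, MulAut.one_apply] at h1
    have h2 := congrArg Subtype.val h1
    simp only [Subgroup.coe_mul, Subgroup.coe_inv, Subgroup.coe_pow] at h2 ⊢
    calc v * (x : G) ^ p ^ (r * (n - r))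
        = ((x : G) ^ p ^ (r * (n - r)) * v * ((x : G) ^ p ^ (r * (n - r)))⁻¹) *
          (x : G) ^ p ^ (r * (n - r)) := by rw [h2]
      _ = (x : G) ^ p ^ (r * (n - r)) * v := by group
  exact hasSec_of_rep hp ρ₀ (QuotientGroup.mk' _) (QuotientGroup.mk'_surjective _) hker ⟨g, hg⟩
    ha2 hns

theorem isNormalizerPStable_of_not_hasSec {G : Type*} [Group G] [Finite G] (hp : p ≠ 2)
    (hno : ¬ HasSec p G) : Cfsg.IsNormalizerPStable p G := by
  intro P hP g hg hq
  by_contra hns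
  exact hno ((hasSec_normalizer_of_not_pstable hp P hP g hg hq hns).of_injective
    (Subgroup.subtype _) (Subgroup.subtype_injective _))

theorem twoComm_of_odd_card {G : Type*} [Group G] [Finite G] (hodd : Odd (Nat.card G)) :
    TwoComm G := by
  intro Q hQ x hx y hy
  obtain ⟨k, hk⟩ := IsPGroup.iff_card.mp hQ
  have hdvd : Nat.card Q ∣ Nat.card G := Subgroup.card_subgroup_dvd_card Q
  have hk0 : k = 0 := by
    by_contra hk0
    have h2 : 2 ∣ Nat.card Q := by rw [hk]; exact dvd_pow_self 2 hk0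
    have := hodd.not_two_dvd_nat
    exact this (h2.trans hdvd)
  rw [hk0, pow_zero] at hk
  have hbot : Q = ⊥ := Subgroup.card_eq_one.mp hk
  rw [hbot, Subgroup.mem_bot] at hx hy
  rw [hx, hy]

end Cfsg.Agent.helper4.Red
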