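import Mathlib
import Cfsg.Agent.Lib_helper7_Coprime
import Cfsg.Agent.Lib_helper7_Cores
import Cfsg.Agent.Lib_helper7_Fitting

set_option autoImplicit false

namespace Cfsg.Agent.helper7

variable {G : Type*} [Group G]

theorem card_leftCoset (R : Subgroup G) (u : G) :
    Nat.card ↥{x : G | ∃ r ∈ R, x = u * r} = Nat.card ↥R := by
  apply Nat.card_congr
  refine Equiv.ofBijective (fun x => ⟨u⁻¹ * (x : G), ?_⟩) ⟨?_, ?_⟩
  · obtain ⟨r, hr, hx⟩ := x.2
    rw [hx]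
    simpa using hr
  · intro x y hxy
    have : u⁻¹ * (x : G) = u⁻¹ * (y : G) := congrArg Subtype.val hxy
    exact Subtype.ext (mul_left_cancel this)
  · intro r
    refine ⟨⟨u * (r : G), (r : G), r.2, rfl⟩, ?_⟩
    apply Subtype.ext
    show u⁻¹ * (u * (r : G)) = r
    group

/-- If `Y` normalizes `X` and both are solvable then `X ⊔ Y` is solvable. -/
theorem solvable_sup {X Y : Subgroup G} (hX : Group.IsSolvable ↥X) (hY : Group.IsSolvable ↥Y)
    (hn : Y ≤ Subgroup.normalizer (X : Set G)) : Group.IsSolvable ↥(X ⊔ Y) := by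
  haveI := hX
  haveI := hY
  have hXle : X ≤ X ⊔ Y := le_sup_left
  have hle : X ⊔ Y ≤ Subgroup.normalizer (X : Set G) := sup_le Subgroup.le_normalizer hn
  haveI hnorm : (X.subgroupOf (X ⊔ Y)).Normal := by
    constructor
    intro n hn' g
    rw [Subgroup.mem_subgroupOf] at hn' ⊢
    have hg := hle g.2
    rw [Subgroup.mem_normalizer_iff''] at hg
    have := (Subgroup.mem_normalizer_iff.1 (hle g.2) (n : G)).1 hn'
    simpa using this
  -- quotient is an image of `Y`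
  let φ : ↥Y →* ↥(X ⊔ Y) ⧸ X.subgroupOf (X ⊔ Y) :=
    (QuotientGroup.mk' (X.subgroupOf (X ⊔ Y))).comp (Subgroup.inclusion (le_sup_right : Y ≤ X ⊔ Y))
  have hφ : Function.Surjective φ := by
    intro z
    obtain ⟨g, rfl⟩ := QuotientGroup.mk'_surjective _ z
    obtain ⟨a, ha, b, hb, e⟩ := mem_sup_of_normalizer hn g.2
    refine ⟨⟨b, hb⟩, ?_⟩
    show QuotientGroup.mk' _ _ = QuotientGroup.mk' _ g
    rw [QuotientGroup.mk'_eq_mk']
    refine ⟨⟨b⁻¹ * a * b, ?_⟩, ?_, ?_⟩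
    · exact (X ⊔ Y).mul_mem ((X ⊔ Y).mul_mem ((X ⊔ Y).inv_mem (le_sup_right (a := X) hb))
        (hXle ha)) (le_sup_right (a := X) hb)
    · rw [Subgroup.mem_subgroupOf]
      have h1 := hn (Y.inv_mem hb)
      have := (Subgroup.mem_normalizer_iff.1 h1 a).1 ha
      simpa using this
    · apply Subtype.ext
      show b * (b⁻¹ * a * b) = g
      rw [e]; group
  haveI : Group.IsSolvable (↥(X ⊔ Y) ⧸ X.subgroupOf (X ⊔ Y)) := Group.isSolvable_of_surjective hφ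
  haveI : Group.IsSolvable ↥(X.subgroupOf (X ⊔ Y)) :=
    Group.isSolvable_of_isSolvable_injective (f := (Subgroup.subgroupOfEquivOfLe hXle).toMonoidHom)
      (Subgroup.subgroupOfEquivOfLe hXle).injective
  exact Group.isSolvable_of_ker_le_range (X.subgroupOf (X ⊔ Y)).subtype
    (QuotientGroup.mk' (X.subgroupOf (X ⊔ Y))) (by
      rw [QuotientGroup.ker_mk', Subgroup.range_subtype])

/-- Coprime action: fixed points of a `q`-group `Q` on a product `XY` of two `Q`-invariant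
subgroups, `X ⊓ Y` a `q'`-group, are products of fixed points. -/
theorem fixed_decomp_sup [Finite G] {q : ℕ} [Fact q.Prime] {Q : Subgroup G} (hQ : IsPGroup q ↥Q)
    {X Y : Subgroup G} (hXQ : Q ≤ Subgroup.normalizer (X : Set G))
    (hYQ : Q ≤ Subgroup.normalizer (Y : Set G)) (hcop : ¬ q ∣ Nat.card ↥(X ⊓ Y))
    (hn : Y ≤ Subgroup.normalizer (X : Set G)) {g : G} (hg : g ∈ X ⊔ Y)
    (hgQ : ∀ a ∈ Q, a * g * a⁻¹ = g) :
    ∃ x ∈ X, ∃ y ∈ Y, g = x * y ∧ (∀ a ∈ Q, a * x * a⁻¹ = x) ∧ (∀ a ∈ Q, a * y * a⁻¹ = y) := by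
  obtain ⟨x₀, hx₀, y₀, hy₀, e⟩ := mem_sup_of_normalizer hn hg
  let S : Set G := {x : G | x ∈ X ∧ x⁻¹ * g ∈ Y}
  have hS : S = {x : G | ∃ r ∈ X ⊓ Y, x = x₀ * r} := by
    ext x
    constructor
    · rintro ⟨hx, hy⟩
      refine ⟨x₀⁻¹ * x, ⟨X.mul_mem (X.inv_mem hx₀) hx, ?_⟩, by group⟩
      have : x₀⁻¹ * x = y₀ * (x⁻¹ * g)⁻¹ := by rw [e]; group
      rw [this]
      exact Y.mul_mem hy₀ (Y.inv_mem hy)
    · rintro ⟨r, ⟨hrX, hrY⟩, rfl⟩
      refine ⟨X.mul_mem hx₀ hrX, ?_⟩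
      have : (x₀ * r)⁻¹ * g = r⁻¹ * y₀ := by rw [e]; group
      rw [this]
      exact Y.mul_mem (Y.inv_mem hrY) hy₀
  have hcard : ¬ q ∣ Nat.card ↥S := by
    rw [hS, card_leftCoset]; exact hcop
  have hinv : ∀ a ∈ Q, ∀ x ∈ S, a * x * a⁻¹ ∈ S := by
    rintro a ha x ⟨hx, hy⟩
    refine ⟨(Subgroup.mem_normalizer_iff.1 (hXQ ha) x).1 hx, ?_⟩
    have h1 := (Subgroup.mem_normalizer_iff.1 (hYQ ha) _).1 hy
    have : (a * x * a⁻¹)⁻¹ * g = a * (x⁻¹ * g) * a⁻¹ := by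
      conv_lhs => rw [← hgQ a ha]
      group
    rw [this]; exact h1
  obtain ⟨x, ⟨hxX, hxY⟩, hfix⟩ := exists_fixed_of_invariant hQ S hinv hcard
  refine ⟨x, hxX, x⁻¹ * g, hxY, by group, hfix, ?_⟩
  intro a ha
  have h1 := hfix a ha
  have h2 := hgQ a ha
  calc a * (x⁻¹ * g) * a⁻¹ = (a * x * a⁻¹)⁻¹ * (a * g * a⁻¹) := by group
    _ = x⁻¹ * g := by rw [h1, h2]

theorem isPGroup_zpowers_of_pow_eq_one {p : ℕ} (hp : p.Prime) {a : G} (ha : a ^ p = 1) :
    IsPGroup p ↥(Subgroup.zpowers a) := by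
  haveI : Fact p.Prime := ⟨hp⟩
  rw [IsPGroup.iff_orderOf]
  intro x
  obtain ⟨x, hx⟩ := x
  obtain ⟨k, rfl⟩ := Subgroup.mem_zpowers_iff.1 hx
  have h1 : (a ^ k) ^ p = 1 := by
    rw [← zpow_natCast, ← zpow_mul, mul_comm, zpow_mul, zpow_natCast, ha, one_zpow]
  have h2 : orderOf (a ^ k) ∣ p := orderOf_dvd_of_pow_eq_one h1
  rw [Subgroup.orderOf_mk]
  rcases (Nat.dvd_prime hp).1 h2 with h | h
  · exact ⟨0, by rw [h, pow_zero]⟩
  · exact ⟨1, by rw [h, pow_one]⟩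

theorem mem_centralizer_singleton_of_conj_fixed {a x : G}
    (h : ∀ c ∈ Subgroup.zpowers a, c * x * c⁻¹ = x) :
    x ∈ Subgroup.centralizer ({a} : Set G) := by
  rw [Subgroup.mem_centralizer_iff]
  intro c hc
  rw [Set.mem_singleton_iff] at hc; subst hc
  have := h c (Subgroup.mem_zpowers c)
  calc c * x = c * x * c⁻¹ * c := by group
    _ = x * c := by rw [this]

theorem conj_fixed_of_mem_centralizer_singleton {a x : G}
    (h : x ∈ Subgroup.centralizer ({a} : Set G)) :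
    ∀ c ∈ Subgroup.zpowers a, c * x * c⁻¹ = x := by
  intro c hc
  obtain ⟨k, rfl⟩ := Subgroup.mem_zpowers_iff.1 hc
  have hcomm : Commute a x := Subgroup.mem_centralizer_iff.1 h a (Set.mem_singleton a)
  have : Commute (a ^ k) x := hcomm.zpow_left k
  rw [this.eq]; group

theorem le_normalizer_of_conj_mem {A U : Subgroup G} (hU : ∀ b ∈ A, ∀ u ∈ U, b * u * b⁻¹ ∈ U) :
    A ≤ Subgroup.normalizer (U : Set G) := by
  intro b hb
  rw [Subgroup.mem_normalizer_iff]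
  intro u
  constructor
  · exact hU b hb u
  · intro h
    have := hU b⁻¹ (A.inv_mem hb) _ h
    simpa [mul_assoc] using this

end Cfsg.Agent.helper7
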