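import Mathlib

set_option autoImplicit false

namespace Cfsg.Agent.helper7

section Trace

variable {A : Type*} [CommGroup A] [Finite A]

/-- the finset of elements of a subgroup -/
noncomputable def fs (B : Subgroup A) : Finset A := (Set.toFinite (B : Set A)).toFinset

theorem mem_fs {B : Subgroup A} {a : A} : a ∈ fs B ↔ a ∈ B := by
  unfold fs
  rw [Set.Finite.mem_toFinset]; rfl

theorem card_fs (B : Subgroup A) : (fs B).card = Nat.card ↥B := by
  unfold fs
  rw [← Set.ncard_eq_toFinset_card (B : Set A) (Set.toFinite _)]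
  rfl

theorem fs_mono {B K : Subgroup A} (h : B ≤ K) : fs B ⊆ fs K := by
  intro a ha
  rw [mem_fs] at ha ⊢
  exact h ha

variable {p : ℕ} [Fact p.Prime]

theorem orderOf_eq_of_exp (hexp : ∀ a : A, a ^ p = 1) {c : A} (hc : c ≠ 1) : orderOf c = p := by
  have hdvd : orderOf c ∣ p := orderOf_dvd_of_pow_eq_one (hexp c)
  rcases (Nat.dvd_prime Fact.out).1 hdvd with h | h
  · exact absurd (orderOf_eq_one_iff.1 h) hc
  · exact h

theorem relIndex_sup_zpowers (hexp : ∀ a : A, a ^ p = 1) (B : Subgroup A) {c : A} (hc : c ∉ B) :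
    B.relIndex (B ⊔ Subgroup.zpowers c) = p := by
  have hc1 : c ≠ 1 := by
    rintro rfl; exact hc B.one_mem
  have hord := orderOf_eq_of_exp hexp hc1
  rw [Subgroup.relIndex_sup_left, ← Subgroup.inf_relIndex_right]
  have hbot : B ⊓ Subgroup.zpowers c = ⊥ := by
    rw [eq_bot_iff]
    rintro x ⟨hxB, hxc⟩
    rw [Subgroup.mem_bot]
    by_contra hx1
    have hxord := orderOf_eq_of_exp hexp hx1
    have hle : Subgroup.zpowers x ≤ Subgroup.zpowers c := by
      rw [Subgroup.zpowers_le]; exact hxc
    have heq : Subgroup.zpowers x = Subgroup.zpowers c := by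
      apply Subgroup.eq_of_le_of_card_ge hle
      rw [Nat.card_zpowers, Nat.card_zpowers, hxord, hord]
    apply hc
    have : c ∈ Subgroup.zpowers x := by rw [heq]; exact Subgroup.mem_zpowers c
    exact (Subgroup.zpowers_le.2 hxB) this
  rw [hbot, Subgroup.relIndex_bot_left, Nat.card_zpowers, hord]

theorem sup_zpowers_eq (hexp : ∀ a : A, a ^ p = 1) (B : Subgroup A) {c₀ c : A} (hc₀ : c₀ ∉ B)
    (hc : c ∉ B) (hcK : c ∈ B ⊔ Subgroup.zpowers c₀) :
    B ⊔ Subgroup.zpowers c = B ⊔ Subgroup.zpowers c₀ := by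
  have hle : B ⊔ Subgroup.zpowers c ≤ B ⊔ Subgroup.zpowers c₀ :=
    sup_le le_sup_left (by rw [Subgroup.zpowers_le]; exact hcK)
  apply le_antisymm hle
  have h1 := Subgroup.relIndex_mul_relIndex B (B ⊔ Subgroup.zpowers c) (B ⊔ Subgroup.zpowers c₀)
    le_sup_left hle
  rw [relIndex_sup_zpowers hexp B hc, relIndex_sup_zpowers hexp B hc₀] at h1
  have hp : 0 < p := (Fact.out : p.Prime).pos
  have h2 : (B ⊔ Subgroup.zpowers c).relIndex (B ⊔ Subgroup.zpowers c₀) = 1 := by
    have : p * (B ⊔ Subgroup.zpowers c).relIndex (B ⊔ Subgroup.zpowers c₀) = p * 1 := by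
      rw [h1, mul_one]
    exact Nat.eq_of_mul_eq_mul_left hp this
  exact Subgroup.relIndex_eq_one.1 h2

theorem card_sup_zpowers (hexp : ∀ a : A, a ^ p = 1) (B : Subgroup A) {c : A} (hc : c ∉ B) :
    Nat.card ↥(B ⊔ Subgroup.zpowers c) = p * Nat.card ↥B := by
  have h := Subgroup.relIndex_mul_relIndex ⊥ B (B ⊔ Subgroup.zpowers c) bot_le le_sup_left
  rw [relIndex_sup_zpowers hexp B hc, Subgroup.relIndex_bot_left, Subgroup.relIndex_bot_left] at h
  rw [← h, mul_comm]

open scoped Classical in
/-- The rank two counting identity. -/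
theorem prod_hyperplanes {V : Type*} [CommGroup V] (hexp : ∀ a : A, a ^ p = 1)
    {B A₂ : Subgroup A} (hBA : B ≤ A₂) (hcard : Nat.card ↥A₂ = p ^ 2 * Nat.card ↥B) (F : A → V) :
    ∏ K ∈ (fs A₂ \ fs B).image (fun c => B ⊔ Subgroup.zpowers c), ∏ b ∈ fs K, F b =
      (∏ b ∈ fs A₂, F b) * (∏ b ∈ fs B, F b) ^ p := by
  have hp : (Fact.out : p.Prime) = Fact.out := rfl
  have hp2 : 2 ≤ p := (Fact.out : p.Prime).two_le
  set S := fs A₂ \ fs B with hS
  set g : A → Subgroup A := fun c => B ⊔ Subgroup.zpowers c with hg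
  have hmemS : ∀ c, c ∈ S ↔ c ∈ A₂ ∧ c ∉ B := by
    intro c
    rw [hS, Finset.mem_sdiff, mem_fs, mem_fs]
  -- fibers
  have hfib : ∀ K ∈ S.image g, S.filter (fun c => g c = K) = fs K \ fs B := by
    intro K hK
    obtain ⟨c₀, hc₀S, rfl⟩ := Finset.mem_image.1 hK
    obtain ⟨hc₀A, hc₀B⟩ := (hmemS c₀).1 hc₀S
    ext c
    rw [Finset.mem_filter, hmemS, Finset.mem_sdiff, mem_fs, mem_fs]
    constructor
    · rintro ⟨⟨_, hcB⟩, hgc⟩
      refine ⟨?_, hcB⟩
      rw [← hgc]
      exact le_sup_right (a := B) (Subgroup.mem_zpowers c)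
    · rintro ⟨hcK, hcB⟩
      have hKA : g c₀ ≤ A₂ := sup_le hBA (by rw [Subgroup.zpowers_le]; exact hc₀A)
      exact ⟨⟨hKA hcK, hcB⟩, sup_zpowers_eq hexp B hc₀B hcB hcK⟩
  have hBK : ∀ K ∈ S.image g, fs B ⊆ fs K := by
    intro K hK
    obtain ⟨c₀, _, rfl⟩ := Finset.mem_image.1 hK
    exact fs_mono le_sup_left
  -- cardinality of the set of hyperplanes
  have hcardH : (S.image g).card = p + 1 := by
    have h1 : S.card = ∑ K ∈ S.image g, (S.filter (fun c => g c = K)).card :=
      Finset.card_eq_sum_card_image g S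
    have h2 : ∀ K ∈ S.image g, (S.filter (fun c => g c = K)).card = (p - 1) * Nat.card ↥B := by
      intro K hK
      rw [hfib K hK, Finset.card_sdiff_of_subset (hBK K hK), card_fs, card_fs]
      obtain ⟨c₀, hc₀S, rfl⟩ := Finset.mem_image.1 hK
      obtain ⟨_, hc₀B⟩ := (hmemS c₀).1 hc₀S
      rw [card_sup_zpowers hexp B hc₀B]
      rw [Nat.sub_mul, one_mul]
    rw [Finset.sum_congr rfl h2, Finset.sum_const, smul_eq_mul] at h1
    have h3 : S.card = (p ^ 2 - 1) * Nat.card ↥B := by
      rw [hS, Finset.card_sdiff_of_subset (fs_mono hBA), card_fs, card_fs, hcard, Nat.sub_mul,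
        one_mul]
    rw [h3] at h1
    have hBpos : 0 < Nat.card ↥B := Nat.card_pos
    have h4 : p ^ 2 - 1 = (p + 1) * (p - 1) := by
      obtain ⟨k, rfl⟩ : ∃ k, p = k + 2 := ⟨p - 2, by omega⟩
      have : (k + 2) ^ 2 = (k + 2 + 1) * (k + 2 - 1) + 1 := by
        have : k + 2 - 1 = k + 1 := by omega
        rw [this]; ring
      omega
    rw [h4] at h1
    have h5 : (p + 1) * ((p - 1) * Nat.card ↥B) = (S.image g).card * ((p - 1) * Nat.card ↥B) := by
      rw [← h1]; ring
    have hpos : 0 < (p - 1) * Nat.card ↥B := Nat.mul_pos (by omega) hBpos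
    exact (Nat.eq_of_mul_eq_mul_right hpos h5).symm
  -- the main computation
  have h1 : ∀ K ∈ S.image g, ∏ b ∈ fs K, F b =
      (∏ b ∈ S.filter (fun c => g c = K), F b) * ∏ b ∈ fs B, F b := by
    intro K hK
    rw [hfib K hK]
    exact (Finset.prod_sdiff (hBK K hK)).symm
  rw [Finset.prod_congr rfl h1, Finset.prod_mul_distrib, Finset.prod_const, hcardH]
  have h2 : ∏ K ∈ S.image g, ∏ b ∈ S.filter (fun c => g c = K), F b = ∏ b ∈ S, F b :=
    Finset.prod_fiberwise_of_maps_to (fun c hc => Finset.mem_image_of_mem g hc) F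
  rw [h2]
  have h3 : (∏ b ∈ S, F b) * ∏ b ∈ fs B, F b = ∏ b ∈ fs A₂, F b :=
    Finset.prod_sdiff (fs_mono hBA)
  rw [← h3, pow_succ]
  simp only [mul_comm, mul_left_comm, mul_assoc]

/-- the trace of `v` over the subgroup `B` -/
noncomputable def trc {V : Type*} [CommGroup V] (σ : A → V →* V) (B : Subgroup A) (v : V) : V :=
  ∏ b ∈ fs B, σ b v

theorem trc_fixed {V : Type*} [CommGroup V] (σ : A → V →* V)
    (hmul : ∀ a b v, σ (a * b) v = σ a (σ b v)) (B : Subgroup A) (v : V) {b' : A} (hb' : b' ∈ B) :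
    σ b' (trc σ B v) = trc σ B v := by
  unfold trc
  rw [map_prod]
  apply Finset.prod_nbij' (fun b => b' * b) (fun b => b'⁻¹ * b)
  · intro b hb
    rw [mem_fs] at hb ⊢
    exact B.mul_mem hb' hb
  · intro b hb
    rw [mem_fs] at hb ⊢
    exact B.mul_mem (B.inv_mem hb') hb
  · intro b _
    simp
  · intro b _
    simp
  · intro b _
    exact (hmul b' b v).symm

theorem pow_prime_eq_one_of_coprime {V : Type*} [Group V] [Finite V]
    (hV : (Nat.card V).Coprime p) {t : V} (ht : t ^ p = 1) : t = 1 := by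
  have h1 : orderOf t ∣ p := orderOf_dvd_of_pow_eq_one ht
  have h2 : orderOf t ∣ Nat.card V := orderOf_dvd_natCard t
  have h3 : orderOf t ∣ 1 := by
    have := Nat.dvd_gcd h2 h1
    rwa [Nat.Coprime.gcd_eq_one hV] at this
  exact orderOf_eq_one_iff.1 (Nat.dvd_one.1 h3)

open scoped Classical in
/-- **Trace lemma.** A finite abelian group `A` of exponent `p` acts on the finite abelian `p'`-group `V`
so that every subgroup of index at most `p` has only trivial fixed points.  Then `V` is trivial. -/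
theorem trace_trivial {V : Type*} [CommGroup V] [Finite V] (hexp : ∀ a : A, a ^ p = 1)
    (σ : A → V →* V) (h1 : ∀ v, σ 1 v = v) (hmul : ∀ a b v, σ (a * b) v = σ a (σ b v))
    (hV : (Nat.card V).Coprime p)
    (hfix : ∀ B : Subgroup A, B.index ≤ p → ∀ v, (∀ b ∈ B, σ b v = v) → v = 1) (v : V) : v = 1 := by
  have hp : p.Prime := Fact.out
  have key : ∀ n, ∀ B : Subgroup A, B.index = n → trc σ B v = 1 := by
    intro n
    induction n using Nat.strong_induction_on with
    | _ n ih =>
      intro B hB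
      by_cases hle : B.index ≤ p
      · exact hfix B hle _ (fun b hb => trc_fixed σ hmul B v hb)
      · push_neg at hle
        have hAp : IsPGroup p A := fun a => ⟨1, by rw [pow_one]; exact hexp a⟩
        obtain ⟨m, hm⟩ := IsPGroup.iff_card.1 hAp
        obtain ⟨k, hk⟩ := IsPGroup.iff_card.1 (hAp.to_subgroup B)
        have hci := Subgroup.card_mul_index B
        rw [hk, hm] at hci
        have hkm : k ≤ m := by
          have : p ^ k ∣ p ^ m := Dvd.intro _ hci
          exact (Nat.pow_dvd_pow_iff_le_right hp.one_lt).1 this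
        have hidx : B.index = p ^ (m - k) := by
          have h2 : p ^ k * p ^ (m - k) = p ^ m := by
            rw [← pow_add]; congr 1; omega
          exact Nat.eq_of_mul_eq_mul_left (pow_pos hp.pos k) (hci.trans h2.symm)
        have hmk : 2 ≤ m - k := by
          by_contra hcon
          push_neg at hcon
          have : m - k = 0 ∨ m - k = 1 := by omega
          rcases this with h | h
          · rw [hidx, h, pow_zero] at hle
            exact absurd hle (by have := hp.one_lt; omega)
          · rw [hidx, h, pow_one] at hle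
            exact absurd hle (lt_irrefl p)
        have hdvd : p ^ (k + 2) ∣ Nat.card A := by
          rw [hm]; exact pow_dvd_pow p (by omega)
        obtain ⟨A₂, hA₂card, hBA₂⟩ :=
          Sylow.exists_subgroup_card_pow_prime_le p hdvd B hk (Nat.le_add_right k 2)
        have hcard : Nat.card ↥A₂ = p ^ 2 * Nat.card ↥B := by
          rw [hA₂card, hk, pow_add, mul_comm]
        have hid := prod_hyperplanes hexp hBA₂ hcard (fun b => σ b v)
        have hnpos : 0 < n := by
          rw [← hB]; exact Nat.pos_of_ne_zero (Subgroup.index_ne_zero_of_finite)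
        -- the left hand side is `1`
        have hL : ∏ K ∈ (fs A₂ \ fs B).image (fun c => B ⊔ Subgroup.zpowers c),
            ∏ b ∈ fs K, σ b v = 1 := by
          apply Finset.prod_eq_one
          intro K hK
          obtain ⟨c, hc, rfl⟩ := Finset.mem_image.1 hK
          rw [Finset.mem_sdiff, mem_fs, mem_fs] at hc
          have hr := Subgroup.relIndex_mul_index (H := B) (K := B ⊔ Subgroup.zpowers c) le_sup_left
          rw [relIndex_sup_zpowers hexp B hc.2, hB] at hr
          have hKpos : 0 < (B ⊔ Subgroup.zpowers c).index :=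
            Nat.pos_of_ne_zero (Subgroup.index_ne_zero_of_finite)
          have hlt : (B ⊔ Subgroup.zpowers c).index < n := by
            have := hp.two_le
            nlinarith
          exact ih _ hlt _ rfl
        have hA₂ : trc σ A₂ v = 1 := by
          have hci2 := Subgroup.card_mul_index A₂
          rw [hA₂card, hm] at hci2
          have hA₂pos : 0 < A₂.index := Nat.pos_of_ne_zero (Subgroup.index_ne_zero_of_finite)
          have hlt : A₂.index < n := by
            have h3 : p ^ k * (p ^ 2 * A₂.index) = p ^ k * n := by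
              rw [← hB, hci, ← hci2, pow_add]; ring
            have h4 : p ^ 2 * A₂.index = n := Nat.eq_of_mul_eq_mul_left (pow_pos hp.pos k) h3
            have h2p : 2 ≤ p := hp.two_le
            have h5 : 2 ≤ p ^ 2 := by nlinarith
            have h6 : 2 * A₂.index ≤ p ^ 2 * A₂.index := Nat.mul_le_mul_right _ h5
            omega
          exact ih _ hlt _ rfl
        rw [hL] at hid
        have hid' : (trc σ B v) ^ p = 1 := by
          have : (∏ b ∈ fs A₂, σ b v) = trc σ A₂ v := rfl
          rw [this, hA₂, one_mul] at hid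
          exact hid.symm
        exact pow_prime_eq_one_of_coprime hV hid'
  have h0 := key _ (⊥ : Subgroup A) rfl
  have h2 : fs (⊥ : Subgroup A) = {1} := by
    ext a
    rw [mem_fs, Subgroup.mem_bot, Finset.mem_singleton]
  unfold trc at h0
  rw [h2, Finset.prod_singleton, h1] at h0
  exact h0

end Trace

end Cfsg.Agent.helper7
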