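import Mathlib
import Cfsg.Agent.Lib_helper7_Trace
import Cfsg.Agent.Lib_helper7_Signalizer
import Cfsg.Agent.Lib_helper7_FStar
import Cfsg.Agent.Lib_helper7_Derived
import Cfsg.Agent.Lib_helper7_Comp

set_option autoImplicit false

namespace Cfsg.Agent.helper7

variable {H : Type*} [Group H]

/-- The subgroup of `X` generated by the centralizers in `X` of the subgroups of `A` of index at most `p`. -/
def genC (p : ℕ) (A X : Subgroup H) : Subgroup H :=
  ⨆ B : {B : Subgroup H // B ≤ A ∧ B.relIndex A ≤ p}, X ⊓ Subgroup.centralizer ((B : Subgroup H) : Set H)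

theorem genC_le (p : ℕ) (A X : Subgroup H) : genC p A X ≤ X :=
  iSup_le fun _ => inf_le_left

theorem genC_mono (p : ℕ) (A : Subgroup H) {M X : Subgroup H} (h : M ≤ X) :
    genC p A M ≤ genC p A X :=
  iSup_le fun B => le_trans (inf_le_inf_right _ h) (le_iSup (fun B : {B : Subgroup H // B ≤ A ∧ B.relIndex A ≤ p} =>
    X ⊓ Subgroup.centralizer ((B : Subgroup H) : Set H)) B)

theorem le_genC {p : ℕ} {A X B : Subgroup H} (hBA : B ≤ A) (hidx : B.relIndex A ≤ p) :
    X ⊓ Subgroup.centralizer (B : Set H) ≤ genC p A X :=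
  le_iSup (fun B : {B : Subgroup H // B ≤ A ∧ B.relIndex A ≤ p} =>
    X ⊓ Subgroup.centralizer ((B : Subgroup H) : Set H)) ⟨B, hBA, hidx⟩

theorem le_normalizer_iSup {ι : Sort*} {A : Subgroup H} {K : ι → Subgroup H}
    (h : ∀ i, A ≤ Subgroup.normalizer ((K i : Subgroup H) : Set H)) :
    A ≤ Subgroup.normalizer ((⨆ i, K i : Subgroup H) : Set H) := by
  intro a ha
  apply mem_normalizer_of_cj_eq
  unfold cj
  rw [Subgroup.map_iSup]
  congr 1
  funext i
  exact cj_eq_of_mem_normalizer (h i ha)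

theorem le_normalizer_inf {A K L : Subgroup H} (hK : A ≤ Subgroup.normalizer (K : Set H))
    (hL : A ≤ Subgroup.normalizer (L : Set H)) :
    A ≤ Subgroup.normalizer ((K ⊓ L : Subgroup H) : Set H) := by
  intro a ha
  apply Subgroup.inf_normalizer_le_normalizer_inf
  exact ⟨hK ha, hL ha⟩

theorem comm_of_isMulCommutative {A : Subgroup H} (hA : IsMulCommutative ↥A) {a b : H}
    (ha : a ∈ A) (hb : b ∈ A) : a * b = b * a :=
  congrArg Subtype.val (hA.is_comm.comm (⟨a, ha⟩ : ↥A) ⟨b, hb⟩)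

theorem genC_normalizer {p : ℕ} {A X : Subgroup H} (hA : IsMulCommutative ↥A)
    (hAX : A ≤ Subgroup.normalizer (X : Set H)) :
    A ≤ Subgroup.normalizer ((genC p A X : Subgroup H) : Set H) := by
  unfold genC
  apply le_normalizer_iSup
  rintro ⟨B, hBA, -⟩
  apply le_normalizer_inf hAX
  refine le_trans ?_ (normalizer_le_normalizer_centralizer B)
  refine le_trans ?_ (Subgroup.centralizer_le_normalizer _)
  intro a ha
  rw [Subgroup.mem_centralizer_iff]
  intro b hb
  exact comm_of_isMulCommutative hA (hBA hb) ha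

/-- A coset `uY` invariant under a `p`-group `B` normalizing the `p'`-group `Y` contains an element
centralized by `B`. -/
theorem exists_mem_coset_centralizer [Finite H] {p : ℕ} [Fact p.Prime] {B Y : Subgroup H}
    (hB : IsPGroup p ↥B) (hY : ¬ p ∣ Nat.card ↥Y) (hBY : B ≤ Subgroup.normalizer (Y : Set H))
    (u : H) (hu : ∀ b ∈ B, u⁻¹ * (b * u * b⁻¹) ∈ Y) :
    ∃ y ∈ Y, u * y ∈ Subgroup.centralizer (B : Set H) := by
  have hinv : ∀ b ∈ B, ∀ x ∈ {x : H | ∃ r ∈ Y, x = u * r}, b * x * b⁻¹ ∈ {x : H | ∃ r ∈ Y, x = u * r} := by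
    rintro b hb _ ⟨y, hy, rfl⟩
    refine ⟨(u⁻¹ * (b * u * b⁻¹)) * (b * y * b⁻¹), Y.mul_mem (hu b hb) ?_, by group⟩
    exact (Subgroup.mem_normalizer_iff.1 (hBY hb) y).1 hy
  have hcard : ¬ p ∣ Nat.card ↥{x : H | ∃ r ∈ Y, x = u * r} := by
    rw [card_leftCoset]; exact hY
  obtain ⟨x, ⟨y, hy, rfl⟩, hfix⟩ := exists_fixed_of_invariant hB _ hinv hcard
  refine ⟨y, hy, ?_⟩
  rw [Subgroup.mem_centralizer_iff]
  intro b hb
  have := hfix b hb
  calc b * (u * y) = b * (u * y) * b⁻¹ * b := by group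
    _ = u * y * b := by rw [this]

/-- conjugation by an element of `A ≤ N(Q)` as an endomorphism of `Q` -/
def conjQ {A Q : Subgroup H} (hAQ : A ≤ Subgroup.normalizer (Q : Set H)) (a : ↥A) : ↥Q →* ↥Q where
  toFun x := ⟨(a : H) * x * (a : H)⁻¹, (Subgroup.mem_normalizer_iff.1 (hAQ a.2) x).1 x.2⟩
  map_one' := by
    apply Subtype.ext
    simp
  map_mul' x y := by
    apply Subtype.ext
    simp [mul_assoc]

theorem conjQ_apply {A Q : Subgroup H} (hAQ : A ≤ Subgroup.normalizer (Q : Set H)) (a : ↥A) (x : ↥Q) :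
    ((conjQ hAQ a x : ↥Q) : H) = (a : H) * x * (a : H)⁻¹ := rfl

theorem conjQ_le_comap {A Q Y : Subgroup H} (hAQ : A ≤ Subgroup.normalizer (Q : Set H))
    (hAY : A ≤ Subgroup.normalizer (Y : Set H)) (a : ↥A) :
    Y.subgroupOf Q ≤ (Y.subgroupOf Q).comap (conjQ hAQ a) := by
  intro x hx
  rw [Subgroup.mem_comap, Subgroup.mem_subgroupOf, conjQ_apply]
  rw [Subgroup.mem_subgroupOf] at hx
  exact (Subgroup.mem_normalizer_iff.1 (hAY a.2) x).1 hx

/-- the induced action on the quotient `Q / Y` -/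
def sigQ {A Q Y : Subgroup H} (hAQ : A ≤ Subgroup.normalizer (Q : Set H))
    (hAY : A ≤ Subgroup.normalizer (Y : Set H)) [(Y.subgroupOf Q).Normal] (a : ↥A) :
    (↥Q ⧸ Y.subgroupOf Q) →* (↥Q ⧸ Y.subgroupOf Q) :=
  QuotientGroup.map (Y.subgroupOf Q) (Y.subgroupOf Q) (conjQ hAQ a) (conjQ_le_comap hAQ hAY a)

theorem sigQ_mk {A Q Y : Subgroup H} (hAQ : A ≤ Subgroup.normalizer (Q : Set H))
    (hAY : A ≤ Subgroup.normalizer (Y : Set H)) [(Y.subgroupOf Q).Normal] (a : ↥A) (x : ↥Q) :
    sigQ hAQ hAY a (QuotientGroup.mk x) = QuotientGroup.mk (conjQ hAQ a x) := rfl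

open scoped IsMulCommutative commutatorElement in
/-- **Generation by centralizers of hyperplanes**, for an invariant `q`-subgroup. -/
theorem gen_pgroup [Finite H] {p q : ℕ} [Fact p.Prime] [Fact q.Prime] (hqp : q ≠ p) {A : Subgroup H}
    (hA : Cfsg.IsElementaryAbelian p A) :
    ∀ n : ℕ, ∀ Q : Subgroup H, Nat.card ↥Q = n → IsPGroup q ↥Q →
      A ≤ Subgroup.normalizer (Q : Set H) → Q ≤ genC p A Q := by
  intro n
  induction n using Nat.strong_induction_on with
  | _ n ih =>
  intro Q hQn hQq hAQ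
  by_contra hnot
  have hp : p.Prime := Fact.out
  have hq : q.Prime := Fact.out
  have hYQ : genC p A Q ≤ Q := genC_le p A Q
  have hAY : A ≤ Subgroup.normalizer ((genC p A Q : Subgroup H) : Set H) := genC_normalizer hA.1 hAQ
  have hQp : ¬ p ∣ Nat.card ↥Q := by
    obtain ⟨k, hk⟩ := IsPGroup.iff_card.1 hQq
    rw [hk]
    intro h
    have := (Nat.prime_dvd_prime_iff_eq hp hq).1 (hp.dvd_of_dvd_pow h)
    exact hqp this.symm
  have hYp : ¬ p ∣ Nat.card ↥(genC p A Q) := fun h => hQp (h.trans (Subgroup.card_dvd_of_le hYQ))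
  -- Step 2
  have step2 : ∀ M : Subgroup H, M ≤ Q → M ≠ Q → A ≤ Subgroup.normalizer (M : Set H) →
      M ≤ genC p A Q := by
    intro M hMQ hne hAM
    have hlt : Nat.card ↥M < n := by rw [← hQn]; exact card_lt_of_lt hMQ hne
    exact (ih _ hlt M rfl (hQq.to_le hMQ) hAM).trans (genC_mono p A hMQ)
  haveI : Group.IsNilpotent ↥Q := hQq.isNilpotent
  -- Step 3
  have step3 : Q ≤ Subgroup.normalizer ((genC p A Q : Subgroup H) : Set H) := by
    by_contra hQY
    have hMQ : Subgroup.normalizer ((genC p A Q : Subgroup H) : Set H) ⊓ Q ≤ Q := inf_le_right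
    have hMne : Subgroup.normalizer ((genC p A Q : Subgroup H) : Set H) ⊓ Q ≠ Q := by
      intro h
      apply hQY
      intro x hx
      have hx' : x ∈ Subgroup.normalizer ((genC p A Q : Subgroup H) : Set H) ⊓ Q := by
        rw [h]; exact hx
      exact hx'.1
    have hAM : A ≤ Subgroup.normalizer ((Subgroup.normalizer ((genC p A Q : Subgroup H) : Set H) ⊓ Q :
        Subgroup H) : Set H) :=
      le_normalizer_inf (hAY.trans (Subgroup.le_normalizer
        (H := Subgroup.normalizer ((genC p A Q : Subgroup H) : Set H)))) hAQ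
    have hMY := step2 _ hMQ hMne hAM
    have hnc := Group.normalizerCondition_of_isNilpotent (G := ↥Q)
    have hlt : (genC p A Q).subgroupOf Q < ⊤ := by
      rw [lt_top_iff_ne_top]
      intro h
      apply hnot
      rw [Subgroup.subgroupOf_eq_top] at h
      exact h
    obtain ⟨x, hxN, hxY⟩ := SetLike.exists_of_lt (hnc _ hlt)
    apply hxY
    rw [Subgroup.mem_subgroupOf]
    apply hMY
    refine ⟨?_, x.2⟩
    show (x : H) ∈ Subgroup.normalizer ((genC p A Q : Subgroup H) : Set H)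
    rw [Subgroup.mem_normalizer_iff]
    intro y
    constructor
    · intro hy
      have h1 := (Subgroup.mem_normalizer_iff.1 hxN ⟨y, hYQ hy⟩).1
        (by rw [Subgroup.mem_subgroupOf]; exact hy)
      rw [Subgroup.mem_subgroupOf] at h1
      exact h1
    · intro hy
      have hyQ : y ∈ Q := by
        have : y = (x : H)⁻¹ * ((x : H) * y * (x : H)⁻¹) * x := by group
        rw [this]
        exact Q.mul_mem (Q.mul_mem (Q.inv_mem x.2) (hYQ hy)) x.2
      have h1 := (Subgroup.mem_normalizer_iff.1 hxN ⟨y, hyQ⟩).2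
        (by rw [Subgroup.mem_subgroupOf]; exact hy)
      exact Subgroup.mem_subgroupOf.1 h1
  -- Step 4
  have step4 : ⁅Q, Q⁆ ≤ genC p A Q := by
    apply step2 _ (Subgroup.commutator_le_self Q)
    · intro h
      have hs : Group.IsSolvable ↥Q := inferInstance
      obtain ⟨k, hk⟩ := dser_eq_bot_of_solvable hs
      have h5 : ∀ k, dser Q k = Q := by
        intro k
        induction k with
        | zero => rfl
        | succ k ih =>
          show ⁅dser Q k, dser Q k⁆ = Q
          rw [ih, h]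
      rw [h5 k] at hk
      apply hnot
      rw [hk]; exact bot_le
    · intro a ha
      apply mem_normalizer_of_cj_eq
      rw [cj_commutator, cj_eq_of_mem_normalizer (hAQ ha)]
  -- Step 5 : the quotient
  haveI hYn : ((genC p A Q).subgroupOf Q).Normal := Subgroup.normal_subgroupOf_of_le_normalizer step3
  haveI : IsMulCommutative (↥Q ⧸ (genC p A Q).subgroupOf Q) := ⟨⟨by
    intro a b
    induction a using QuotientGroup.induction_on with
    | _ a =>
    induction b using QuotientGroup.induction_on with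
    | _ b =>
    rw [← QuotientGroup.mk_mul, ← QuotientGroup.mk_mul, QuotientGroup.eq, Subgroup.mem_subgroupOf]
    apply step4
    have : (((a * b)⁻¹ * (b * a) : ↥Q) : H) = ⁅(b : H)⁻¹, (a : H)⁻¹⁆ := by
      rw [commutatorElement_def]
      simp only [Subgroup.coe_mul, Subgroup.coe_inv]
      group
    rw [this]
    exact Subgroup.commutator_mem_commutator (Q.inv_mem b.2) (Q.inv_mem a.2)⟩⟩
  haveI : IsMulCommutative ↥A := hA.1
  have hV : (Nat.card (↥Q ⧸ (genC p A Q).subgroupOf Q)).Coprime p := by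
    rw [Nat.coprime_comm, Nat.Prime.coprime_iff_not_dvd hp]
    intro h
    exact hQp (h.trans (Subgroup.card_quotient_dvd_card _))
  have hexp : ∀ a : ↥A, a ^ p = 1 := by
    intro a
    apply Subtype.ext
    rw [Subgroup.coe_pow]
    exact hA.2 a a.2
  have h1 : ∀ v : ↥Q ⧸ (genC p A Q).subgroupOf Q, sigQ hAQ hAY 1 v = v := by
    intro v
    induction v using QuotientGroup.induction_on with
    | _ u =>
    rw [sigQ_mk]
    congr 1
    apply Subtype.ext
    rw [conjQ_apply]
    simp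
  have hmul : ∀ (a b : ↥A) (v : ↥Q ⧸ (genC p A Q).subgroupOf Q),
      sigQ hAQ hAY (a * b) v = sigQ hAQ hAY a (sigQ hAQ hAY b v) := by
    intro a b v
    induction v using QuotientGroup.induction_on with
    | _ u =>
    rw [sigQ_mk, sigQ_mk, sigQ_mk]
    congr 1
    apply Subtype.ext
    rw [conjQ_apply, conjQ_apply, conjQ_apply]
    simp only [Subgroup.coe_mul]
    group
  have hfix : ∀ B' : Subgroup ↥A, B'.index ≤ p → ∀ v : ↥Q ⧸ (genC p A Q).subgroupOf Q,
      (∀ b ∈ B', sigQ hAQ hAY b v = v) → v = 1 := by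
    intro B' hB' v hv
    induction v using QuotientGroup.induction_on with
    | _ u =>
    have hBA : B'.map A.subtype ≤ A := Subgroup.map_subtype_le B'
    have hidx : (B'.map A.subtype).relIndex A ≤ p := by
      unfold Subgroup.relIndex Subgroup.subgroupOf
      rw [Subgroup.comap_map_eq_self_of_injective (Subgroup.subtype_injective A)]
      exact hB'
    have hBp : IsPGroup p ↥(B'.map A.subtype) := by
      rintro ⟨b, hb⟩
      refine ⟨1, ?_⟩
      apply Subtype.ext
      rw [pow_one]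
      exact hA.2 b (hBA hb)
    have hfixu : ∀ b ∈ B'.map A.subtype, (u : H)⁻¹ * (b * u * b⁻¹) ∈ genC p A Q := by
      rintro _ ⟨b, hb, rfl⟩
      have h2 := hv b hb
      rw [sigQ_mk, eq_comm, QuotientGroup.eq, Subgroup.mem_subgroupOf] at h2
      exact h2
    obtain ⟨y, hy, hc⟩ := exists_mem_coset_centralizer hBp hYp (hBA.trans hAY) (u : H) hfixu
    have h2 : (u : H) * y ∈ genC p A Q := le_genC hBA hidx ⟨Q.mul_mem u.2 (hYQ hy), hc⟩
    have h3 : (u : H) ∈ genC p A Q := by
      have : (u : H) = ((u : H) * y) * y⁻¹ := by group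
      rw [this]
      exact Subgroup.mul_mem _ h2 (Subgroup.inv_mem _ hy)
    rw [QuotientGroup.eq_one_iff, Subgroup.mem_subgroupOf]
    exact h3
  have htriv : ∀ v : ↥Q ⧸ (genC p A Q).subgroupOf Q, v = 1 := fun v =>
    trace_trivial (A := ↥A) (p := p) hexp (sigQ hAQ hAY) h1 hmul hV hfix v
  apply hnot
  intro u hu
  have h2 := htriv (QuotientGroup.mk ⟨u, hu⟩)
  rw [QuotientGroup.eq_one_iff, Subgroup.mem_subgroupOf] at h2
  exact h2

end Cfsg.Agent.helper7
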