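import Mathlib
import Cfsg.Agent.Lib_helper7_Gen

set_option autoImplicit false

namespace Cfsg.Agent.helper7

variable {H : Type*} [Group H]

open scoped Pointwise in
/-- A `p`-group `A` normalizing the `p'`-group `X` normalizes some Sylow `q`-subgroup of `X`. -/
theorem exists_invariant_sylow [Finite H] {p : ℕ} (q : ℕ) [Fact p.Prime] [Fact q.Prime]
    {A X : Subgroup H} (hAp : IsPGroup p ↥A) (hX : ¬ p ∣ Nat.card ↥X)
    (hAX : A ≤ Subgroup.normalizer (X : Set H)) :
    ∃ Q : Subgroup H, Q ≤ X ∧ IsPGroup q ↥Q ∧ Nat.card ↥Q = q ^ (Nat.card ↥X).factorization q ∧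
      A ≤ Subgroup.normalizer (Q : Set H) := by
  letI : MulDistribMulAction ↥A ↥X :=
    { smul := fun a x => conjQ hAX a x
      one_smul := by
        intro x
        apply Subtype.ext
        show ((conjQ hAX 1 x : ↥X) : H) = x
        rw [conjQ_apply]; simp
      mul_smul := by
        intro a b x
        apply Subtype.ext
        show ((conjQ hAX (a * b) x : ↥X) : H) = (conjQ hAX a (conjQ hAX b x) : ↥X)
        rw [conjQ_apply, conjQ_apply, conjQ_apply]
        simp only [Subgroup.coe_mul]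
        group
      smul_mul := fun a x y => map_mul (conjQ hAX a) x y
      smul_one := fun a => map_one (conjQ hAX a) }
  have hsmul : ∀ (a : ↥A) (x : ↥X), ((a • x : ↥X) : H) = (a : H) * x * (a : H)⁻¹ := fun a x => rfl
  have hcard : ¬ p ∣ Nat.card (Sylow q ↥X) := by
    obtain ⟨P⟩ : Nonempty (Sylow q ↥X) := inferInstance
    intro h
    exact hX (h.trans ((Sylow.card_dvd_index P).trans (Subgroup.index_dvd_card _)))
  obtain ⟨P, hP⟩ := hAp.nonempty_fixed_point_of_prime_not_dvd_card (Sylow q ↥X) hcard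
  refine ⟨(P : Subgroup ↥X).map X.subtype, Subgroup.map_subtype_le _, P.isPGroup'.map _, ?_, ?_⟩
  · rw [Subgroup.card_map_of_injective (Subgroup.subtype_injective X), Sylow.card_eq_multiplicity]
  · apply le_normalizer_of_conj_mem
    rintro a ha _ ⟨x, hx, rfl⟩
    have h1 : (⟨a, ha⟩ : ↥A) • P = P := hP ⟨a, ha⟩
    refine ⟨(⟨a, ha⟩ : ↥A) • x, ?_, hsmul ⟨a, ha⟩ x⟩
    have h2 : (⟨a, ha⟩ : ↥A) • x ∈ (⟨a, ha⟩ : ↥A) • (P : Subgroup ↥X) :=
      Subgroup.smul_mem_pointwise_smul x _ _ hx
    rw [← Sylow.pointwise_smul_def, h1] at h2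
    exact h2

/-- **Generation theorem**: a `p'`-group `X` normalized by an elementary abelian `p`-group `A` is
generated by the centralizers in `X` of the subgroups of `A` of index at most `p`. -/
theorem gen_coprime [Finite H] {p : ℕ} [Fact p.Prime] {A X : Subgroup H}
    (hA : Cfsg.IsElementaryAbelian p A) (hX : ¬ p ∣ Nat.card ↥X)
    (hAX : A ≤ Subgroup.normalizer (X : Set H)) : X = genC p A X := by
  have hp : p.Prime := Fact.out
  have hAp : IsPGroup p ↥A := by
    intro a
    refine ⟨1, ?_⟩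
    apply Subtype.ext
    rw [pow_one]
    exact hA.2 a a.2
  symm
  apply Subgroup.eq_of_le_of_card_ge (genC_le p A X)
  apply Nat.le_of_dvd Nat.card_pos
  rw [← Nat.factorization_prime_le_iff_dvd Nat.card_pos.ne' Nat.card_pos.ne']
  intro q hq
  by_cases hqp : q = p
  · subst hqp
    rw [Nat.factorization_eq_zero_of_not_dvd hX]
    exact Nat.zero_le _
  · haveI : Fact q.Prime := ⟨hq⟩
    obtain ⟨Q, hQX, hQq, hQcard, hAQ⟩ := exists_invariant_sylow q hAp hX hAX
    have h1 : Q ≤ genC p A X :=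
      (gen_pgroup hqp hA _ Q rfl hQq hAQ).trans (genC_mono p A hQX)
    have h2 : q ^ (Nat.card ↥X).factorization q ∣ Nat.card ↥(genC p A X) := by
      rw [← hQcard]
      exact Subgroup.card_dvd_of_le h1
    exact (Nat.Prime.pow_dvd_iff_le_factorization hq Nat.card_pos.ne').1 h2

end Cfsg.Agent.helper7
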