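import Mathlib
import Cfsg.Agent.Lib_helper7_Gen2

set_option autoImplicit false

namespace Cfsg.Agent.helper7

variable {H : Type*} [Group H]

theorem isPGroup_of_elemAb {p : ℕ} {A : Subgroup H} (hA : Cfsg.IsElementaryAbelian p A) :
    IsPGroup p ↥A := by
  intro a
  refine ⟨1, ?_⟩
  apply Subtype.ext
  rw [pow_one]
  exact hA.2 a a.2

theorem elemAb_of_le {p : ℕ} {A B : Subgroup H} (hA : Cfsg.IsElementaryAbelian p A) (hBA : B ≤ A) :
    Cfsg.IsElementaryAbelian p B := by
  refine ⟨⟨⟨?_⟩⟩, fun b hb => hA.2 b (hBA hb)⟩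
  rintro ⟨a, ha⟩ ⟨b, hb⟩
  apply Subtype.ext
  exact comm_of_isMulCommutative hA.1 (hBA ha) (hBA hb)

/-- a `p`-group of order at least `p ^ 2` has a subgroup of index `p` -/
theorem exists_relIndex_eq_prime [Finite H] {p : ℕ} [Fact p.Prime] {A : Subgroup H}
    (hAp : IsPGroup p ↥A) (hA2 : p ^ 2 ≤ Nat.card ↥A) :
    ∃ D : Subgroup H, D ≤ A ∧ D.relIndex A = p := by
  have hp : p.Prime := Fact.out
  obtain ⟨k, hk⟩ := IsPGroup.iff_card.1 hAp
  have hk1 : 1 ≤ k := by
    by_contra h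
    have : k = 0 := by omega
    rw [this, pow_zero] at hk
    have := hp.two_le
    nlinarith
  obtain ⟨K, hK⟩ := Sylow.exists_subgroup_card_pow_prime p
    (show p ^ (k - 1) ∣ Nat.card ↥A by rw [hk]; exact pow_dvd_pow p (by omega))
  refine ⟨K.map A.subtype, Subgroup.map_subtype_le K, ?_⟩
  unfold Subgroup.relIndex Subgroup.subgroupOf
  rw [Subgroup.comap_map_eq_self_of_injective (Subgroup.subtype_injective A)]
  have h1 := Subgroup.card_mul_index K
  rw [hK, hk] at h1
  have h2 : p ^ (k - 1) * p = p ^ k := by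
    rw [← pow_succ]; congr 1; omega
  exact Nat.eq_of_mul_eq_mul_left (pow_pos hp.pos (k - 1)) (h1.trans h2.symm)

theorem relIndex_eq_one_or_prime [Finite H] {p : ℕ} [Fact p.Prime] {A D : Subgroup H}
    (hAp : IsPGroup p ↥A) (h : D.relIndex A ≤ p) : D.relIndex A = 1 ∨ D.relIndex A = p := by
  have hp : p.Prime := Fact.out
  obtain ⟨k, hk⟩ := IsPGroup.iff_card.1 hAp
  have h1 : D.relIndex A ∣ p ^ k := by rw [← hk]; exact Subgroup.relIndex_dvd_card D A
  obtain ⟨j, _, hj⟩ := (Nat.dvd_prime_pow hp).1 h1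
  rw [hj] at h ⊢
  rcases j with _ | _ | j
  · left; rfl
  · right; simp
  · exfalso
    have : p ^ 1 < p ^ (j + 1 + 1) := Nat.pow_lt_pow_right hp.one_lt (by omega)
    rw [pow_one] at this
    omega

/-- **Generation theorem**, with hyperplanes only. -/
theorem gen_coprime_hyperplanes [Finite H] {p : ℕ} [Fact p.Prime] {A X : Subgroup H}
    (hA : Cfsg.IsElementaryAbelian p A) (hA2 : p ^ 2 ≤ Nat.card ↥A) (hX : ¬ p ∣ Nat.card ↥X)
    (hAX : A ≤ Subgroup.normalizer (X : Set H)) :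
    X = ⨆ B : {B : Subgroup H // B ≤ A ∧ B.relIndex A = p},
      X ⊓ Subgroup.centralizer ((B : Subgroup H) : Set H) := by
  have hAp := isPGroup_of_elemAb hA
  apply le_antisymm
  · conv_lhs => rw [gen_coprime hA hX hAX]
    unfold genC
    apply iSup_le
    rintro ⟨B, hBA, hidx⟩
    rcases relIndex_eq_one_or_prime hAp hidx with h | h
    · obtain ⟨D, hDA, hD⟩ := exists_relIndex_eq_prime hAp hA2
      have hAB : A ≤ B := Subgroup.relIndex_eq_one.1 h
      refine le_trans ?_ (le_iSup (fun B : {B : Subgroup H // B ≤ A ∧ B.relIndex A = p} =>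
        X ⊓ Subgroup.centralizer ((B : Subgroup H) : Set H)) ⟨D, hDA, hD⟩)
      exact inf_le_inf_left X (Subgroup.centralizer_le (hDA.trans hAB))
    · exact le_iSup (fun B : {B : Subgroup H // B ≤ A ∧ B.relIndex A = p} =>
        X ⊓ Subgroup.centralizer ((B : Subgroup H) : Set H)) ⟨B, hBA, h⟩
  · exact iSup_le fun _ => inf_le_left

end Cfsg.Agent.helper7
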