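import Mathlib
import Cfsg.Agent.Lib_helper7_Gen3

set_option autoImplicit false

namespace Cfsg.Agent.helper7

variable {H : Type*} [Group H]

/-- Normalizers grow in `q`-groups. -/
theorem exists_mem_normalizer_not_mem [Finite H] {q : ℕ} [Fact q.Prime] {Q D : Subgroup H}
    (hQ : IsPGroup q ↥Q) (hDQ : D ≤ Q) (hne : D ≠ Q) :
    ∃ x ∈ Q, x ∈ Subgroup.normalizer (D : Set H) ∧ x ∉ D := by
  haveI : Group.IsNilpotent ↥Q := hQ.isNilpotent
  have hnc := Group.normalizerCondition_of_isNilpotent (G := ↥Q)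
  have hlt : D.subgroupOf Q < ⊤ := by
    rw [lt_top_iff_ne_top]
    intro h
    apply hne
    rw [Subgroup.subgroupOf_eq_top] at h
    exact le_antisymm hDQ h
  obtain ⟨x, hxN, hxY⟩ := SetLike.exists_of_lt (hnc _ hlt)
  refine ⟨x, x.2, ?_, fun h => hxY (by rw [Subgroup.mem_subgroupOf]; exact h)⟩
  rw [Subgroup.mem_normalizer_iff]
  intro y
  constructor
  · intro hy
    have h1 := (Subgroup.mem_normalizer_iff.1 hxN ⟨y, hDQ hy⟩).1
      (by rw [Subgroup.mem_subgroupOf]; exact hy)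
    rw [Subgroup.mem_subgroupOf] at h1
    exact h1
  · intro hy
    have hyQ : y ∈ Q := by
      have : y = (x : H)⁻¹ * ((x : H) * y * (x : H)⁻¹) * x := by group
      rw [this]
      exact Q.mul_mem (Q.mul_mem (Q.inv_mem x.2) (hDQ hy)) x.2
    have h1 := (Subgroup.mem_normalizer_iff.1 hxN ⟨y, hyQ⟩).2
      (by rw [Subgroup.mem_subgroupOf]; exact hy)
    exact Subgroup.mem_subgroupOf.1 h1

/-- If `X` is generated by centralizers of hyperplanes and `X ≰ D` then some hyperplane centralizer is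
not in `D`. -/
theorem exists_hyperplane_not_le [Finite H] {p : ℕ} [Fact p.Prime] {A X D : Subgroup H}
    (hA : Cfsg.IsElementaryAbelian p A) (hA2 : p ^ 2 ≤ Nat.card ↥A) (hX : ¬ p ∣ Nat.card ↥X)
    (hAX : A ≤ Subgroup.normalizer (X : Set H)) (hXD : ¬ X ≤ D) :
    ∃ B : Subgroup H, B ≤ A ∧ B.relIndex A = p ∧
      ¬ X ⊓ Subgroup.centralizer (B : Set H) ≤ D := by
  by_contra hcon
  push_neg at hcon
  apply hXD
  rw [gen_coprime_hyperplanes hA hA2 hX hAX]
  apply iSup_le
  rintro ⟨B, hBA, hB⟩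
  exact hcon B hBA hB

end Cfsg.Agent.helper7
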