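import Mathlib
import Cfsg.Agent.Lib_helper7_Gen4

set_option autoImplicit false
open scoped Pointwise

namespace Cfsg.Agent.helper7

variable {H : Type*} [Group H]

theorem le_normalizer_sup {A X Y : Subgroup H} (hX : A ≤ Subgroup.normalizer (X : Set H))
    (hY : A ≤ Subgroup.normalizer (Y : Set H)) :
    A ≤ Subgroup.normalizer ((X ⊔ Y : Subgroup H) : Set H) := by
  intro a ha
  apply mem_normalizer_of_cj_eq
  unfold cj
  rw [Subgroup.map_sup]
  have h1 : cj a X = X := cj_eq_of_mem_normalizer (hX ha)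
  have h2 : cj a Y = Y := cj_eq_of_mem_normalizer (hY ha)
  unfold cj at h1 h2
  rw [h1, h2]

/-- the order of a `q`-subgroup of `N` is at most the order of a Sylow `q`-subgroup of `N` -/
theorem card_le_sylow [Finite H] {q : ℕ} [Fact q.Prime] {V N : Subgroup H} (hVN : V ≤ N)
    (hV : IsPGroup q ↥V) : Nat.card ↥V ≤ q ^ (Nat.card ↥N).factorization q := by
  have hq : q.Prime := Fact.out
  obtain ⟨j, hj⟩ := IsPGroup.iff_card.1 hV
  have h1 : q ^ j ∣ Nat.card ↥N := by rw [← hj]; exact Subgroup.card_dvd_of_le hVN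
  have h2 := (Nat.Prime.pow_dvd_iff_le_factorization hq Nat.card_pos.ne').1 h1
  rw [hj]
  exact Nat.pow_le_pow_right hq.pos h2

/-- every `q`-subgroup of `K` lies in a Sylow `q`-subgroup of `K` -/
theorem exists_sylow_ge_in [Finite H] {q : ℕ} [Fact q.Prime] {R K : Subgroup H} (hRK : R ≤ K)
    (hR : IsPGroup q ↥R) :
    ∃ T : Subgroup H, R ≤ T ∧ T ≤ K ∧ IsPGroup q ↥T ∧
      Nat.card ↥T = q ^ (Nat.card ↥K).factorization q := by
  obtain ⟨P, hP⟩ := (hR.comap_subtype (H := R) (K := K)).exists_le_sylow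
  refine ⟨(P : Subgroup ↥K).map K.subtype, ?_, Subgroup.map_subtype_le _, P.isPGroup'.map _, ?_⟩
  · intro x hx
    exact ⟨⟨x, hRK hx⟩, hP (by rw [Subgroup.mem_comap]; exact hx), rfl⟩
  · rw [Subgroup.card_map_of_injective (Subgroup.subtype_injective K), Sylow.card_eq_multiplicity]

/-- Sylow `q`-subgroups of `K` are conjugate in `K`. -/
theorem sylow_conj_in [Finite H] {q : ℕ} [Fact q.Prime] {S₁ S₂ K : Subgroup H}
    (h₁ : S₁ ≤ K) (h₂ : S₂ ≤ K) (hc₁ : Nat.card ↥S₁ = q ^ (Nat.card ↥K).factorization q)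
    (hc₂ : Nat.card ↥S₂ = q ^ (Nat.card ↥K).factorization q) :
    ∃ k ∈ K, cj k S₁ = S₂ := by
  have e₁ : Nat.card ↥(S₁.subgroupOf K) = q ^ (Nat.card ↥K).factorization q := by
    rw [Nat.card_congr (Subgroup.subgroupOfEquivOfLe h₁).toEquiv]; exact hc₁
  have e₂ : Nat.card ↥(S₂.subgroupOf K) = q ^ (Nat.card ↥K).factorization q := by
    rw [Nat.card_congr (Subgroup.subgroupOfEquivOfLe h₂).toEquiv]; exact hc₂
  obtain ⟨k, hk⟩ := MulAction.exists_smul_eq ↥K (Sylow.ofCard _ e₁) (Sylow.ofCard _ e₂)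
  have hk' : MulAut.conj k • (S₁.subgroupOf K) = S₂.subgroupOf K := by
    have := congrArg (fun P : Sylow q ↥K => (P : Subgroup ↥K)) hk
    simp only [Sylow.coe_subgroup_smul, Sylow.coe_ofCard] at this
    exact this
  refine ⟨k, k.2, ?_⟩
  apply Subgroup.eq_of_le_of_card_ge
  · rintro _ ⟨x, hx, rfl⟩
    have h3 : MulAut.conj k • (⟨x, h₁ hx⟩ : ↥K) ∈ MulAut.conj k • (S₁.subgroupOf K) :=
      Subgroup.smul_mem_pointwise_smul _ _ _ (by rw [Subgroup.mem_subgroupOf]; exact hx)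
    rw [hk', Subgroup.mem_subgroupOf] at h3
    exact h3
  · rw [Subgroup.card_map_of_injective (MulAut.conj (k : H)).injective, hc₁, hc₂]

/-- An invariant `q`-subgroup lies in an invariant Sylow `q`-subgroup (coprime action). -/
theorem exists_invariant_sylow_ge [Finite H] {p q : ℕ} [Fact p.Prime] [Fact q.Prime]
    {A K R : Subgroup H} (hAp : IsPGroup p ↥A) (hK : ¬ p ∣ Nat.card ↥K)
    (hAK : A ≤ Subgroup.normalizer (K : Set H)) (hRK : R ≤ K) (hRq : IsPGroup q ↥R)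
    (hAR : A ≤ Subgroup.normalizer (R : Set H)) :
    ∃ S : Subgroup H, R ≤ S ∧ S ≤ K ∧ IsPGroup q ↥S ∧
      Nat.card ↥S = q ^ (Nat.card ↥K).factorization q ∧ A ≤ Subgroup.normalizer (S : Set H) := by
  have hfin : {S : Subgroup H | R ≤ S ∧ S ≤ K ∧ IsPGroup q ↥S ∧
      A ≤ Subgroup.normalizer (S : Set H)}.Finite := Set.toFinite _
  obtain ⟨S, ⟨hRS, hSK, hSq, hAS⟩, hmax⟩ := Set.exists_max_image _ (fun S : Subgroup H => Nat.card ↥S)
    hfin ⟨R, le_rfl, hRK, hRq, hAR⟩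
  refine ⟨S, hRS, hSK, hSq, ?_, hAS⟩
  by_contra hne
  obtain ⟨T, hST, hTK, hTq, hTcard⟩ := exists_sylow_ge_in hSK hSq
  have hSne : S ≠ T := by
    intro h
    apply hne
    rw [h]; exact hTcard
  obtain ⟨x, hxT, hxN, hxS⟩ := exists_mem_normalizer_not_mem hTq hST hSne
  -- the normalizer of `S` in `K`
  have hAN : A ≤ Subgroup.normalizer ((Subgroup.normalizer (S : Set H) ⊓ K : Subgroup H) : Set H) :=
    le_normalizer_inf (hAS.trans (Subgroup.le_normalizer (H := Subgroup.normalizer (S : Set H)))) hAK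
  have hNp : ¬ p ∣ Nat.card ↥(Subgroup.normalizer (S : Set H) ⊓ K : Subgroup H) :=
    fun h => hK (h.trans (Subgroup.card_dvd_of_le inf_le_right))
  obtain ⟨S', hS'N, hS'q, hS'card, hAS'⟩ := exists_invariant_sylow q hAp hNp hAN
  have h1 : Nat.card ↥(S ⊔ S') ≤ Nat.card ↥S := by
    apply hmax
    refine ⟨hRS.trans le_sup_left, sup_le hSK (hS'N.trans inf_le_right), ?_, le_normalizer_sup hAS hAS'⟩
    exact IsPGroup.to_sup_of_normal_left' hSq hS'q (hS'N.trans inf_le_left)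
  have h2 : Nat.card ↥S' ≤ Nat.card ↥S :=
    le_trans (Nat.le_of_dvd Nat.card_pos (Subgroup.card_dvd_of_le le_sup_right)) h1
  -- the subgroup generated by `S` and `x`
  have hxq : IsPGroup q ↥(Subgroup.zpowers x) := hTq.to_le (by rw [Subgroup.zpowers_le]; exact hxT)
  have hVq : IsPGroup q ↥(S ⊔ Subgroup.zpowers x) :=
    IsPGroup.to_sup_of_normal_left' hSq hxq (by rw [Subgroup.zpowers_le]; exact hxN)
  have hVN : S ⊔ Subgroup.zpowers x ≤ Subgroup.normalizer (S : Set H) ⊓ K := by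
    apply sup_le
    · exact le_inf Subgroup.le_normalizer hSK
    · rw [Subgroup.zpowers_le]; exact ⟨hxN, hTK hxT⟩
  have h3 : Nat.card ↥(S ⊔ Subgroup.zpowers x) ≤ Nat.card ↥S := by
    refine le_trans (card_le_sylow hVN hVq) ?_
    rw [← hS'card]; exact h2
  have h4 : S = S ⊔ Subgroup.zpowers x := Subgroup.eq_of_le_of_card_ge le_sup_left h3
  apply hxS
  rw [h4]
  exact le_sup_right (a := S) (Subgroup.mem_zpowers x)

/-- Invariant Sylow `q`-subgroups are conjugate under the centralizer of `A` (coprime action). -/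
theorem invariant_sylow_conj [Finite H] {p q : ℕ} [Fact p.Prime] [Fact q.Prime]
    {A K S₁ S₂ : Subgroup H} (hAp : IsPGroup p ↥A) (hK : ¬ p ∣ Nat.card ↥K)
    (hAK : A ≤ Subgroup.normalizer (K : Set H)) (h₁ : S₁ ≤ K) (h₂ : S₂ ≤ K)
    (hc₁ : Nat.card ↥S₁ = q ^ (Nat.card ↥K).factorization q)
    (hc₂ : Nat.card ↥S₂ = q ^ (Nat.card ↥K).factorization q)
    (hA₁ : A ≤ Subgroup.normalizer (S₁ : Set H)) (hA₂ : A ≤ Subgroup.normalizer (S₂ : Set H)) :
    ∃ c ∈ K, c ∈ Subgroup.centralizer (A : Set H) ∧ cj c S₁ = S₂ := by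
  obtain ⟨k₀, hk₀K, hk₀⟩ := sylow_conj_in h₁ h₂ hc₁ hc₂
  have hT : {k : H | k ∈ K ∧ cj k S₁ = S₂} =
      {x : H | ∃ r ∈ Subgroup.normalizer (S₁ : Set H) ⊓ K, x = k₀ * r} := by
    ext k
    constructor
    · rintro ⟨hkK, hk⟩
      refine ⟨k₀⁻¹ * k, ⟨?_, K.mul_mem (K.inv_mem hk₀K) hkK⟩, by group⟩
      apply mem_normalizer_of_cj_eq
      rw [← cj_cj, hk, ← hk₀, cj_inv_cj]
    · rintro ⟨r, ⟨hrN, hrK⟩, rfl⟩
      refine ⟨K.mul_mem hk₀K hrK, ?_⟩
      rw [← cj_cj, cj_eq_of_mem_normalizer hrN, hk₀]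
  have hinv : ∀ a ∈ A, ∀ k ∈ {k : H | k ∈ K ∧ cj k S₁ = S₂},
      a * k * a⁻¹ ∈ {k : H | k ∈ K ∧ cj k S₁ = S₂} := by
    rintro a ha k ⟨hkK, hk⟩
    refine ⟨(Subgroup.mem_normalizer_iff.1 (hAK ha) k).1 hkK, ?_⟩
    have ha' : a⁻¹ ∈ A := A.inv_mem ha
    rw [← cj_cj, ← cj_cj, cj_eq_of_mem_normalizer (hA₁ ha'), hk, cj_eq_of_mem_normalizer (hA₂ ha)]
  have hcard : ¬ p ∣ Nat.card ↥{k : H | k ∈ K ∧ cj k S₁ = S₂} := by
    rw [hT, card_leftCoset]
    exact fun h => hK (h.trans (Subgroup.card_dvd_of_le inf_le_right))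
  obtain ⟨c, ⟨hcK, hc⟩, hfix⟩ := exists_fixed_of_invariant hAp _ hinv hcard
  refine ⟨c, hcK, ?_, hc⟩
  rw [Subgroup.mem_centralizer_iff]
  intro a ha
  have := hfix a ha
  calc a * c = a * c * a⁻¹ * a := by group
    _ = c * a := by rw [this]

end Cfsg.Agent.helper7
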