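import Mathlib
import Cfsg.Agent.Lib_helper7_FStar2
import Cfsg.Agent.Lib_helper7_PQ
import Cfsg.Agent.Lib_helper7_Coprime
import Cfsg.Agent.Lib_helper7_CoprimeSylow

set_option autoImplicit false

namespace Cfsg.Agent.helper7

open scoped commutatorElement Pointwise

variable {G : Type*} [Group G]

/-- Normalizers grow in nilpotent groups. -/
theorem exists_mem_normalizer_not_mem_nilp {Q D : Subgroup G}
    (hQ : Group.IsNilpotent ↥Q) (hDQ : D ≤ Q) (hne : D ≠ Q) :
    ∃ x ∈ Q, x ∈ Subgroup.normalizer (D : Set G) ∧ x ∉ D := by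
  haveI : Group.IsNilpotent ↥Q := hQ
  have hnc := Group.normalizerCondition_of_isNilpotent (G := ↥Q)
  have hlt : D.subgroupOf Q < ⊤ := by
    rw [lt_top_iff_ne_top]
    intro h
    apply hne
    rw [Subgroup.subgroupOf_eq_top] at h
    exact le_antisymm hDQ h
  obtain ⟨x, hxN, hxY⟩ := SetLike.exists_of_lt (hnc _ hlt)
  refine ⟨x, x.2, ?_, fun h => hxY (by rw [Subgroup.mem_subgroupOf]; exact h)⟩
  rw [Subgroup.mem_normalizer_iff]
  intro y
  constructor
  · intro hy
    have h1 := (Subgroup.mem_normalizer_iff.1 hxN ⟨y, hDQ hy⟩).1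
      (by rw [Subgroup.mem_subgroupOf]; exact hy)
    rw [Subgroup.mem_subgroupOf] at h1
    exact h1
  · intro hy
    have hyQ : y ∈ Q := by
      have : y = (x : G)⁻¹ * ((x : G) * y * (x : G)⁻¹) * x := by group
      rw [this]
      exact Q.mul_mem (Q.mul_mem (Q.inv_mem x.2) (hDQ hy)) x.2
    have h1 := (Subgroup.mem_normalizer_iff.1 hxN ⟨y, hyQ⟩).2
      (by rw [Subgroup.mem_subgroupOf]; exact hy)
    rw [Subgroup.mem_subgroupOf] at h1
    exact h1

/-- `A × B`-lemma for a nilpotent group `N`: a `q`-group `X` acting coprimely on `N` and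
centralizing a subgroup `T` containing its own centralizer in `N` centralizes `N`. -/
theorem nilpotent_AxB [Finite G] {q : ℕ} [Fact q.Prime] {X N T : Subgroup G}
    (hX : IsPGroup q ↥X) (hN : Group.IsNilpotent ↥N) (hq : ¬ q ∣ Nat.card ↥N)
    (hXN : X ≤ Subgroup.normalizer (N : Set G)) (hTN : T ≤ N)
    (hXT : X ≤ Subgroup.centralizer (T : Set G))
    (hC : N ⊓ Subgroup.centralizer (T : Set G) ≤ T) :
    X ≤ Subgroup.centralizer (N : Set G) := by
  have hfin : {T' : Subgroup G | T ≤ T' ∧ T' ≤ N ∧ X ≤ Subgroup.centralizer (T' : Set G)}.Finite :=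
    Set.toFinite _
  obtain ⟨T', ⟨hTT', hT'N, hXT'⟩, hmax⟩ := hfin.exists_maximal ⟨T, le_rfl, hTN, hXT⟩
  by_cases hTN' : T' = N
  · rw [← hTN']; exact hXT'
  exfalso
  obtain ⟨x, hxN, hxn, hxT'⟩ := exists_mem_normalizer_not_mem_nilp hN hT'N hTN'
  set T₁ : Subgroup G := N ⊓ Subgroup.normalizer (T' : Set G) with hT₁
  have hT'T₁ : T' ≤ T₁ := le_inf hT'N Subgroup.le_normalizer
  have hXnT' : X ≤ Subgroup.normalizer (T' : Set G) := by
    intro g hg
    rw [Subgroup.mem_normalizer_iff]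
    intro t
    have key : ∀ t ∈ T', g * t * g⁻¹ = t := by
      intro t ht
      have := hXT' hg
      rw [Subgroup.mem_centralizer_iff] at this
      rw [← this t ht]; group
    constructor
    · intro ht; rw [key t ht]; exact ht
    · intro ht
      have h1 : g⁻¹ * (g * t * g⁻¹) * g⁻¹⁻¹ = g * t * g⁻¹ := by
        have h2 : g⁻¹ ∈ X := X.inv_mem hg
        have := hXT' h2
        rw [Subgroup.mem_centralizer_iff] at this
        rw [← this _ ht]; group
      have h3 : g⁻¹ * (g * t * g⁻¹) * g⁻¹⁻¹ = t := by group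
      rw [← h3, h1]; exact ht
  have hXnT₁ : X ≤ Subgroup.normalizer (T₁ : Set G) := by
    apply le_normalizer_inf hXN
    intro g hg
    apply mem_normalizer_of_cj_eq
    rw [cj_normalizer, cj_eq_of_mem_normalizer (hXnT' hg)]
  have h1 : ⁅⁅T₁, X⁆, T'⁆ = ⊥ := by
    apply Subgroup.commutator_commutator_eq_bot_of_rotate
    · have : ⁅X, T'⁆ = ⊥ := by
        rw [Subgroup.commutator_eq_bot_iff_le_centralizer]; exact hXT'
      rw [this]; exact Subgroup.commutator_bot_left _
    · have h2 : ⁅T', T₁⁆ ≤ T' := commutator_le_of_normalizer inf_le_right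
      have h3 : ⁅T', X⁆ = ⊥ := by
        rw [Subgroup.commutator_comm, Subgroup.commutator_eq_bot_iff_le_centralizer]; exact hXT'
      rw [eq_bot_iff, ← h3]
      exact Subgroup.commutator_mono h2 le_rfl
  have h2 : ⁅T₁, X⁆ ≤ T' := by
    have h3 : ⁅T₁, X⁆ ≤ Subgroup.centralizer (T' : Set G) :=
      Subgroup.commutator_eq_bot_iff_le_centralizer.1 h1
    have h4 : ⁅T₁, X⁆ ≤ T₁ := commutator_le_of_normalizer hXnT₁
    have h5 : Subgroup.centralizer (T' : Set G) ≤ Subgroup.centralizer (T : Set G) :=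
      Subgroup.centralizer_le hTT'
    exact (le_inf (h4.trans inf_le_left) (h3.trans h5)).trans (hC.trans hTT')
  have h3 : ⁅⁅T₁, X⁆, X⁆ = ⊥ := by
    have h4 : ⁅T', X⁆ = ⊥ := by
      rw [Subgroup.commutator_comm, Subgroup.commutator_eq_bot_iff_le_centralizer]; exact hXT'
    rw [eq_bot_iff, ← h4]
    exact Subgroup.commutator_mono h2 le_rfl
  have hq₁ : ¬ q ∣ Nat.card ↥T₁ := fun h => hq (h.trans (Subgroup.card_dvd_of_le inf_le_left))
  rw [commutator_commutator_eq hX hXnT₁ hq₁] at h3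
  have hXT₁ : X ≤ Subgroup.centralizer (T₁ : Set G) := le_centralizer_of_comm_eq_bot h3
  have := hmax ⟨hTT'.trans hT'T₁, inf_le_left, hXT₁⟩ hT'T₁
  exact hxT' (this ⟨hxN, hxn⟩)

/-- If `a = b * c` with `b`, `c` commuting, `c ^ m = 1` and `m` prime to the order of `b`, then
`b` is a power of `a`. -/
theorem mem_zpowers_of_coprime_decomp {a b c : G} (habc : a = b * c) (hbc : b * c = c * b) {m : ℕ}
    (hc : c ^ m = 1) (hm : m.Coprime (orderOf b)) : b ∈ Subgroup.zpowers a := by
  have h1 : a ^ m = b ^ m := by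
    rw [habc, (show Commute b c from hbc).mul_pow, hc, mul_one]
  obtain ⟨k, hk⟩ := exists_pow_eq_self_of_coprime hm
  rw [← hk, ← h1]
  exact Subgroup.pow_mem _ (Subgroup.pow_mem _ (Subgroup.mem_zpowers a) m) k

/-- An element of `W ⊔ U` (`U` a `p`-group normalizing `W`) of order prime to `p` lies in `W`. -/
theorem mem_of_coprime_order {W U : Subgroup G} (hU : U ≤ Subgroup.normalizer (W : Set G)) {p : ℕ}
    (hUp : IsPGroup p ↥U) {g : G} (hg : g ∈ W ⊔ U) (hgo : (orderOf g).Coprime p) : g ∈ W := by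
  obtain ⟨w, hw, u, hu, rfl⟩ := mem_sup_of_normalizer hU hg
  obtain ⟨k, hk⟩ := hUp ⟨u, hu⟩
  have hk' : u ^ p ^ k = 1 := congrArg Subtype.val hk
  obtain ⟨c, hc, hpow⟩ := pow_mul_normalizer hU hw hu (p ^ k)
  rw [hk', mul_one] at hpow
  have hcop : (p ^ k).Coprime (orderOf (w * u)) := (Nat.Coprime.pow_right k hgo).symm
  obtain ⟨m, hm⟩ := exists_pow_eq_self_of_coprime hcop
  rw [← hm, hpow]
  exact W.pow_mem hc m

/-- For a maximal subgroup `A` of a simple group, a nontrivial subgroup `K ≤ A` normal in `A` has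
normalizer `A`. -/
theorem normalizer_eq_of_coatom [IsSimpleGroup G] {A K : Subgroup G} (hA : IsCoatom A)
    (hK : K ≠ ⊥) (hKA : K ≤ A) (hAK : A ≤ Subgroup.normalizer (K : Set G)) :
    Subgroup.normalizer (K : Set G) = A := by
  by_contra hne
  have hlt : A < Subgroup.normalizer (K : Set G) := lt_of_le_of_ne hAK (Ne.symm hne)
  have htop := hA.2 _ hlt
  have hKn : K.Normal := Subgroup.normalizer_eq_top_iff.1 htop
  rcases hKn.eq_bot_or_eq_top with h | h
  · exact hK h
  · apply hA.1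
    rw [eq_top_iff, ← h]; exact hKA

end Cfsg.Agent.helper7
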