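import Cfsg.Statements.S1975

set_option autoImplicit false
open Cfsg

namespace Cfsg.Agent.S1975

theorem upper_antitone {P : Type*} [Group P] {Q Q' : Subgroup P} (h : Q ≤ Q') :
    Cfsg.kUpperStarFamily Q' ⊆ Cfsg.kUpperStarFamily Q := by
  intro B hB
  exact ⟨hB.1, le_trans (Subgroup.commutator_mono le_rfl h) hB.2⟩

theorem lower_antitone {P : Type*} [Group P] {Q Q' : Subgroup P} (h : Q ≤ Q') :
    Cfsg.kLowerStarFamily Q' ⊆ Cfsg.kLowerStarFamily Q := by
  intro B hB
  refine ⟨hB.1, le_trans h hB.2.1, ?_⟩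
  intro A hA hAQ
  exact hB.2.2 A hA (le_trans hAQ h)

theorem step_mono {P : Type*} [Group P] {Q Q' : Subgroup P} (h : Q ≤ Q') :
    sSup (Cfsg.kUpperStarFamily (sSup (Cfsg.kLowerStarFamily Q))) ≤
      sSup (Cfsg.kUpperStarFamily (sSup (Cfsg.kLowerStarFamily Q'))) :=
  sSup_le_sSup (upper_antitone (sSup_le_sSup (lower_antitone h)))

theorem odd_antitone (P : Type*) [Group P] (n : ℕ) :
    Cfsg.kSeqOdd P (n + 1) ≤ Cfsg.kSeqOdd P n := by
  induction n with
  | zero => exact le_top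
  | succ n ih => exact step_mono ih

theorem even_monotone (P : Type*) [Group P] (n : ℕ) :
    Cfsg.kSeqEven P n ≤ Cfsg.kSeqEven P (n + 1) :=
  sSup_le_sSup (lower_antitone (odd_antitone P n))

/-- Let P be a finite p-group. In the K-sequence of P the odd-indexed terms decrease and the even-indexed terms increase: with the numbering used here, kSeqOdd P (n+1) ≤ kSeqOdd P n and kSeqEven P n ≤ kSeqEven P (n+1) for every n. -/
theorem result {P : Type*} [Group P] [Finite P] {p : ℕ} [Fact p.Prime] (hP : IsPGroup p P) (n : ℕ) : Cfsg.kSeqOdd P (n + 1) ≤ Cfsg.kSeqOdd P n ∧ Cfsg.kSeqEven P n ≤ Cfsg.kSeqEven P (n + 1) :=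
  ⟨odd_antitone P n, even_monotone P n⟩

end Cfsg.Agent.S1975
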