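import Mathlib
import Cfsg.Prelude.Def_ConjugacyFunctors
import Cfsg.Agent.S1975

/-!
K-infinity theory, part 1: invariance of the star families under injective homomorphisms,
the K-sequence of a subgroup computed inside the ambient group.
-/

set_option autoImplicit false

namespace Cfsg.Agent.helper10

open Cfsg

section maps

variable {Q P : Type*} [Group Q] [Group P]

theorem kmap_le_centralizer_map_iff {f : Q →* P} (hf : Function.Injective f) (X B : Subgroup Q) :
    X.map f ≤ Subgroup.centralizer ((B.map f : Subgroup P) : Set P) ↔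
      X ≤ Subgroup.centralizer (B : Set Q) := by
  constructor
  · intro h x hx
    rw [Subgroup.mem_centralizer_iff]
    intro b hb
    have h1 := h (Subgroup.mem_map_of_mem f hx)
    rw [Subgroup.mem_centralizer_iff] at h1
    have h2 := h1 (f b) (Subgroup.mem_map_of_mem f hb)
    apply hf
    rw [map_mul, map_mul]; exact h2
  · intro h y hy
    obtain ⟨x, hx, rfl⟩ := Subgroup.mem_map.mp hy
    rw [Subgroup.mem_centralizer_iff]
    rintro _ ⟨b, hb, rfl⟩
    have h1 := Subgroup.mem_centralizer_iff.mp (h hx) b hb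
    rw [← map_mul, ← map_mul, h1]

theorem kmap_inf_centralizer {f : Q →* P} (hf : Function.Injective f) (B : Subgroup Q) :
    (B ⊓ Subgroup.centralizer (B : Set Q)).map f =
      B.map f ⊓ Subgroup.centralizer ((B.map f : Subgroup P) : Set P) := by
  apply le_antisymm
  · exact le_inf (Subgroup.map_mono inf_le_left)
      ((kmap_le_centralizer_map_iff hf _ _).mpr inf_le_right)
  · intro y hy
    obtain ⟨hy1, hy2⟩ := Subgroup.mem_inf.mp hy
    obtain ⟨b, hb, rfl⟩ := Subgroup.mem_map.mp hy1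
    refine Subgroup.mem_map.mpr ⟨b, Subgroup.mem_inf.mpr ⟨hb, ?_⟩, rfl⟩
    rw [Subgroup.mem_centralizer_iff]
    intro c hc
    have h2 := Subgroup.mem_centralizer_iff.mp hy2 (f c) (Subgroup.mem_map_of_mem f hc)
    apply hf
    rw [map_mul, map_mul]; exact h2

theorem kmap_le_normalizer_map_iff {f : Q →* P} (hf : Function.Injective f) (X B : Subgroup Q) :
    X.map f ≤ Subgroup.normalizer ((B.map f : Subgroup P) : Set P) ↔
      X ≤ Subgroup.normalizer (B : Set Q) := by
  constructor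
  · intro h x hx
    have h1 := h (Subgroup.mem_map_of_mem f hx)
    rw [Subgroup.mem_normalizer_iff] at h1 ⊢
    intro v
    constructor
    · intro hv
      obtain ⟨v', hv', hv'e⟩ := (h1 (f v)).1 ⟨v, hv, rfl⟩
      have : v' = x * v * x⁻¹ := hf (by rw [hv'e]; simp)
      rw [← this]; exact hv'
    · intro hv
      obtain ⟨v', hv', hv'e⟩ := (h1 (f v)).2 ⟨x * v * x⁻¹, hv, by simp⟩
      have : v' = v := hf hv'e
      rw [← this]; exact hv'
  · intro h
    exact le_trans (Subgroup.map_mono h) (Subgroup.le_normalizer_map f)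

theorem classTwo_map_iff {f : Q →* P} (hf : Function.Injective f) (B : Subgroup Q) :
    B.map f ∈ Cfsg.classTwoSubgroups P ↔ B ∈ Cfsg.classTwoSubgroups Q := by
  show ⁅B.map f, B.map f⁆ ≤ Subgroup.centralizer ((B.map f : Subgroup P) : Set P) ↔
    ⁅B, B⁆ ≤ Subgroup.centralizer (B : Set Q)
  rw [← Subgroup.map_commutator]
  exact kmap_le_centralizer_map_iff hf _ _

theorem upper_map_iff {f : Q →* P} (hf : Function.Injective f) (B R : Subgroup Q) :
    B.map f ∈ Cfsg.kUpperStarFamily (R.map f) ↔ B ∈ Cfsg.kUpperStarFamily R := by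
  show (B.map f ∈ Cfsg.classTwoSubgroups P ∧
      ⁅B.map f, R.map f⁆ ≤ B.map f ⊓ Subgroup.centralizer ((B.map f : Subgroup P) : Set P)) ↔
    (B ∈ Cfsg.classTwoSubgroups Q ∧ ⁅B, R⁆ ≤ B ⊓ Subgroup.centralizer (B : Set Q))
  rw [classTwo_map_iff hf, ← Subgroup.map_commutator, ← kmap_inf_centralizer hf,
    Subgroup.map_le_map_iff_of_injective hf]

theorem lower_map_iff {f : Q →* P} (hf : Function.Injective f) (B R : Subgroup Q) :
    B.map f ∈ Cfsg.kLowerStarFamily (R.map f) ↔ B ∈ Cfsg.kLowerStarFamily R := by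
  constructor
  · rintro ⟨h1, h2, h3⟩
    refine ⟨(classTwo_map_iff hf B).mp h1, (kmap_le_normalizer_map_iff hf R B).mp h2, ?_⟩
    intro A hA hAR hBA hc1 hc2
    have := h3 (A.map f) ((classTwo_map_iff hf A).mpr hA) (Subgroup.map_mono hAR)
      ((kmap_le_normalizer_map_iff hf B A).mpr hBA)
      (by rw [← Subgroup.map_commutator, ← Subgroup.map_commutator, hc1, Subgroup.map_bot])
      (by rw [← kmap_inf_centralizer hf, ← Subgroup.map_commutator, ← Subgroup.map_commutator,
            hc2, Subgroup.map_bot])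
    rw [← Subgroup.map_commutator, ← kmap_inf_centralizer hf,
      Subgroup.map_le_map_iff_of_injective hf] at this
    exact this
  · rintro ⟨h1, h2, h3⟩
    refine ⟨(classTwo_map_iff hf B).mpr h1, (kmap_le_normalizer_map_iff hf R B).mpr h2, ?_⟩
    intro A hA hAR hBA hc1 hc2
    have hAr : A ≤ f.range := le_trans hAR (by
      rintro _ ⟨r, -, rfl⟩; exact ⟨r, rfl⟩)
    have hAeq : (A.comap f).map f = A := by
      rw [Subgroup.map_comap_eq]; exact inf_eq_right.mpr hAr
    have hA'R : A.comap f ≤ R := by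
      intro x hx
      have hx' : f x ∈ A := hx
      obtain ⟨r, hr, hre⟩ := Subgroup.mem_map.mp (hAR hx')
      have : r = x := hf hre
      rw [← this]; exact hr
    rw [← hAeq] at hA hBA hc1 hc2 ⊢
    have := h3 (A.comap f) ((classTwo_map_iff hf _).mp hA) hA'R
      ((kmap_le_normalizer_map_iff hf _ _).mp hBA)
      (by
        rw [← Subgroup.map_commutator, ← Subgroup.map_commutator] at hc1
        exact (Subgroup.map_eq_bot_iff_of_injective _ hf).mp hc1)
      (by
        rw [← kmap_inf_centralizer hf, ← Subgroup.map_commutator, ← Subgroup.map_commutator] at hc2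
        exact (Subgroup.map_eq_bot_iff_of_injective _ hf).mp hc2)
    rw [← Subgroup.map_commutator, ← kmap_inf_centralizer hf,
      Subgroup.map_le_map_iff_of_injective hf]
    exact this

/-- image of `sSup` of a family. -/
theorem map_sSup_eq {f : Q →* P} (𝒮 : Set (Subgroup Q)) :
    (sSup 𝒮).map f = sSup {B' | ∃ B ∈ 𝒮, B.map f = B'} := by
  rw [sSup_eq_iSup', Subgroup.map_iSup]
  apply le_antisymm
  · apply iSup_le
    intro B
    exact le_sSup ⟨B.1, B.2, rfl⟩
  · apply sSup_le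
    rintro _ ⟨B, hB, rfl⟩
    exact le_iSup (fun B : 𝒮 => (B : Subgroup Q).map f) ⟨B, hB⟩

theorem map_sSup_lower {f : Q →* P} (hf : Function.Injective f) (R : Subgroup Q) :
    (sSup (Cfsg.kLowerStarFamily R)).map f =
      sSup {B' | B' ≤ f.range ∧ B' ∈ Cfsg.kLowerStarFamily (R.map f)} := by
  rw [map_sSup_eq]
  congr 1
  ext B'
  constructor
  · rintro ⟨B, hB, rfl⟩
    exact ⟨by rintro _ ⟨b, -, rfl⟩; exact ⟨b, rfl⟩, (lower_map_iff hf B R).mpr hB⟩
  · rintro ⟨h1, h2⟩
    have hBeq : (B'.comap f).map f = B' := by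
      rw [Subgroup.map_comap_eq]; exact inf_eq_right.mpr h1
    refine ⟨B'.comap f, ?_, hBeq⟩
    rw [← hBeq] at h2
    exact (lower_map_iff hf _ R).mp h2

theorem map_sSup_upper {f : Q →* P} (hf : Function.Injective f) (R : Subgroup Q) :
    (sSup (Cfsg.kUpperStarFamily R)).map f =
      sSup {B' | B' ≤ f.range ∧ B' ∈ Cfsg.kUpperStarFamily (R.map f)} := by
  rw [map_sSup_eq]
  congr 1
  ext B'
  constructor
  · rintro ⟨B, hB, rfl⟩
    exact ⟨by rintro _ ⟨b, -, rfl⟩; exact ⟨b, rfl⟩, (upper_map_iff hf B R).mpr hB⟩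
  · rintro ⟨h1, h2⟩
    have hBeq : (B'.comap f).map f = B' := by
      rw [Subgroup.map_comap_eq]; exact inf_eq_right.mpr h1
    refine ⟨B'.comap f, ?_, hBeq⟩
    rw [← hBeq] at h2
    exact (upper_map_iff hf _ R).mp h2

end maps

section relative

variable {G : Type*} [Group G]

/-- lower-star step relative to `S`. -/
def kLowIn (S X : Subgroup G) : Subgroup G :=
  sSup {B | B ≤ S ∧ B ∈ Cfsg.kLowerStarFamily X}

/-- upper-star step relative to `S`. -/
def kUpIn (S X : Subgroup G) : Subgroup G :=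
  sSup {B | B ≤ S ∧ B ∈ Cfsg.kUpperStarFamily X}

/-- The odd terms of the K-sequence of the subgroup `S`, computed inside `G`. -/
def kOddIn (S : Subgroup G) : ℕ → Subgroup G
  | 0 => S
  | n + 1 => kUpIn S (kLowIn S (kOddIn S n))

/-- The even terms of the K-sequence of the subgroup `S`, computed inside `G`. -/
def kEvenIn (S : Subgroup G) (n : ℕ) : Subgroup G := kLowIn S (kOddIn S n)

theorem kLowIn_le (S X : Subgroup G) : kLowIn S X ≤ S := sSup_le fun _ hB => hB.1
theorem kUpIn_le (S X : Subgroup G) : kUpIn S X ≤ S := sSup_le fun _ hB => hB.1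

theorem kLowIn_anti (S : Subgroup G) {X Y : Subgroup G} (h : X ≤ Y) : kLowIn S Y ≤ kLowIn S X :=
  sSup_le_sSup fun _ hB => ⟨hB.1, Cfsg.Agent.S1975.lower_antitone h hB.2⟩

theorem kUpIn_anti (S : Subgroup G) {X Y : Subgroup G} (h : X ≤ Y) : kUpIn S Y ≤ kUpIn S X :=
  sSup_le_sSup fun _ hB => ⟨hB.1, Cfsg.Agent.S1975.upper_antitone h hB.2⟩

theorem kLowIn_mono_left {S S' : Subgroup G} (h : S ≤ S') (X : Subgroup G) :
    kLowIn S X ≤ kLowIn S' X :=
  sSup_le_sSup fun _ hB => ⟨le_trans hB.1 h, hB.2⟩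

theorem kUpIn_mono_left {S S' : Subgroup G} (h : S ≤ S') (X : Subgroup G) :
    kUpIn S X ≤ kUpIn S' X :=
  sSup_le_sSup fun _ hB => ⟨le_trans hB.1 h, hB.2⟩

theorem kOddIn_le (S : Subgroup G) (n : ℕ) : kOddIn S n ≤ S := by
  cases n with
  | zero => exact le_rfl
  | succ n => exact kUpIn_le _ _

theorem kEvenIn_le (S : Subgroup G) (n : ℕ) : kEvenIn S n ≤ S := kLowIn_le _ _

theorem kOddIn_succ_le (S : Subgroup G) (n : ℕ) : kOddIn S (n + 1) ≤ kOddIn S n := by
  induction n with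
  | zero => exact kUpIn_le _ _
  | succ n ih => exact kUpIn_anti S (kLowIn_anti S ih)

theorem kEvenIn_le_succ (S : Subgroup G) (n : ℕ) : kEvenIn S n ≤ kEvenIn S (n + 1) :=
  kLowIn_anti S (kOddIn_succ_le S n)

theorem kOddIn_antitone (S : Subgroup G) : Antitone (kOddIn S) :=
  antitone_nat_of_succ_le (kOddIn_succ_le S)

theorem kEvenIn_monotone (S : Subgroup G) : Monotone (kEvenIn S) :=
  monotone_nat_of_le_succ (kEvenIn_le_succ S)

theorem kSeqOdd_map_subtype (S : Subgroup G) (n : ℕ) :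
    (Cfsg.kSeqOdd ↥S n).map S.subtype = kOddIn S n := by
  induction n with
  | zero =>
    show (⊤ : Subgroup ↥S).map S.subtype = S
    rw [← MonoidHom.range_eq_map, Subgroup.range_subtype]
  | succ n ih =>
    show (sSup (Cfsg.kUpperStarFamily (sSup (Cfsg.kLowerStarFamily (Cfsg.kSeqOdd ↥S n))))).map
      S.subtype = kUpIn S (kLowIn S (kOddIn S n))
    rw [map_sSup_upper (Subgroup.subtype_injective S),
      map_sSup_lower (Subgroup.subtype_injective S), ih, Subgroup.range_subtype]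
    rfl

theorem kSeqEven_map_subtype (S : Subgroup G) (n : ℕ) :
    (Cfsg.kSeqEven ↥S n).map S.subtype = kEvenIn S n := by
  show (sSup (Cfsg.kLowerStarFamily (Cfsg.kSeqOdd ↥S n))).map S.subtype = kLowIn S (kOddIn S n)
  rw [map_sSup_lower (Subgroup.subtype_injective S), kSeqOdd_map_subtype, Subgroup.range_subtype]
  rfl

theorem kLowIn_top (X : Subgroup G) : kLowIn ⊤ X = sSup (Cfsg.kLowerStarFamily X) := by
  unfold kLowIn
  congr 1
  ext B
  exact ⟨fun h => h.2, fun h => ⟨le_top, h⟩⟩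

theorem kUpIn_top (X : Subgroup G) : kUpIn ⊤ X = sSup (Cfsg.kUpperStarFamily X) := by
  unfold kUpIn
  congr 1
  ext B
  exact ⟨fun h => h.2, fun h => ⟨le_top, h⟩⟩

theorem kOddIn_top (n : ℕ) : kOddIn (⊤ : Subgroup G) n = Cfsg.kSeqOdd G n := by
  induction n with
  | zero => rfl
  | succ n ih =>
    show kUpIn ⊤ (kLowIn ⊤ (kOddIn ⊤ n)) = _
    rw [kUpIn_top, kLowIn_top, ih]
    rfl

theorem kEvenIn_top (n : ℕ) : kEvenIn (⊤ : Subgroup G) n = Cfsg.kSeqEven G n := by
  show kLowIn ⊤ (kOddIn ⊤ n) = _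
  rw [kLowIn_top, kOddIn_top]
  rfl

/-- The relative comparison: if `Q ≤ S` contains all terms of nonnegative index of the K-sequence
of `S`, the sequences interleave. -/
theorem kIn_interleave (S Q : Subgroup G) (hQS : Q ≤ S)
    (hQ : ∀ n : ℕ, kEvenIn S n ≤ Q ∧ kOddIn S (n + 1) ≤ Q) (n : ℕ) :
    kOddIn Q n ≤ kOddIn S n ∧ kEvenIn S n ≤ kEvenIn Q n ∧ kOddIn S (n + 1) ≤ kOddIn Q n ∧
      kEvenIn Q n ≤ kEvenIn S (n + 1) := by
  have step2 : ∀ n, kOddIn Q n ≤ kOddIn S n → kEvenIn S n ≤ kEvenIn Q n := by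
    intro n h1
    apply sSup_le
    rintro B ⟨hBS, hB⟩
    have hBE : B ≤ kEvenIn S n := le_sSup ⟨hBS, hB⟩
    exact le_sSup ⟨le_trans hBE (hQ n).1, Cfsg.Agent.S1975.lower_antitone h1 hB⟩
  have step4 : ∀ n, kOddIn S (n + 1) ≤ kOddIn Q n → kEvenIn Q n ≤ kEvenIn S (n + 1) := by
    intro n h3
    exact le_trans (kLowIn_mono_left hQS _) (kLowIn_anti S h3)
  have step1 : ∀ n, kEvenIn S n ≤ kEvenIn Q n → kOddIn Q (n + 1) ≤ kOddIn S (n + 1) := by
    intro n h2
    exact le_trans (kUpIn_mono_left hQS _) (kUpIn_anti S h2)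
  have step3 : ∀ n, kEvenIn Q n ≤ kEvenIn S (n + 1) → kOddIn S (n + 2) ≤ kOddIn Q (n + 1) := by
    intro n h4
    apply sSup_le
    rintro B ⟨hBS, hB⟩
    have hBO : B ≤ kOddIn S (n + 2) := le_sSup ⟨hBS, hB⟩
    exact le_sSup ⟨le_trans hBO (hQ (n + 1)).2, Cfsg.Agent.S1975.upper_antitone h4 hB⟩
  induction n with
  | zero =>
    have h1 : kOddIn Q 0 ≤ kOddIn S 0 := hQS
    have h3 : kOddIn S (0 + 1) ≤ kOddIn Q 0 := (hQ 0).2
    exact ⟨h1, step2 0 h1, h3, step4 0 h3⟩
  | succ n ih =>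
    obtain ⟨-, i2, -, i4⟩ := ih
    have h1 := step1 n i2
    have h3 := step3 n i4
    exact ⟨h1, step2 _ h1, h3, step4 _ h3⟩

theorem kIn_iSup_eq (S Q : Subgroup G) (hQS : Q ≤ S)
    (hQ : ∀ n : ℕ, kEvenIn S n ≤ Q ∧ kOddIn S (n + 1) ≤ Q) :
    (⨆ n, kEvenIn Q n) = ⨆ n, kEvenIn S n := by
  apply le_antisymm
  · apply iSup_le
    intro n
    exact le_trans (kIn_interleave S Q hQS hQ n).2.2.2 (le_iSup (fun n => kEvenIn S n) (n + 1))
  · apply iSup_le
    intro n
    exact le_trans (kIn_interleave S Q hQS hQ n).2.1 (le_iSup (fun n => kEvenIn Q n) n)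

theorem kIn_iInf_eq (S Q : Subgroup G) (hQS : Q ≤ S)
    (hQ : ∀ n : ℕ, kEvenIn S n ≤ Q ∧ kOddIn S (n + 1) ≤ Q) :
    (⨅ n, kOddIn Q n) = ⨅ n, kOddIn S n := by
  apply le_antisymm
  · apply le_iInf
    intro n
    exact le_trans (iInf_le (fun n => kOddIn Q n) n) (kIn_interleave S Q hQS hQ n).1
  · apply le_iInf
    intro n
    exact le_trans (iInf_le (fun n => kOddIn S n) (n + 1)) (kIn_interleave S Q hQS hQ n).2.2.1

theorem inducedFunctor_kInfLower (S : Subgroup G) :
    (Cfsg.kInfLower ↥S).map S.subtype = ⨆ n, kEvenIn S n := by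
  unfold Cfsg.kInfLower
  rw [Subgroup.map_iSup]
  exact iSup_congr fun n => kSeqEven_map_subtype S n

theorem inducedFunctor_kInfUpper (S : Subgroup G) :
    (Cfsg.kInfUpper ↥S).map S.subtype = ⨅ n, kOddIn S n := by
  unfold Cfsg.kInfUpper
  rw [Subgroup.map_iInf _ (Subgroup.subtype_injective S)]
  exact iInf_congr fun n => kSeqOdd_map_subtype S n

end relative

end Cfsg.Agent.helper10
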