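import Mathlib

set_option autoImplicit false

namespace Cfsg.Agent.helper10

open scoped commutatorElement

/-- Iterated commutator `[D, Q, Q, ..., Q]`. -/
def iterCommQ {P : Type*} [Group P] (D Q : Subgroup P) : ℕ → Subgroup P
  | 0 => D
  | n + 1 => ⁅iterCommQ D Q n, Q⁆

theorem iterCommQ_le_lcs {P : Type*} [Group P] (D Q : Subgroup P) (n : ℕ) :
    iterCommQ D Q n ≤ (⊤ : Subgroup P).lowerCentralSeries n := by
  induction n with
  | zero => exact le_top
  | succ n ih =>
    show ⁅iterCommQ D Q n, Q⁆ ≤ ⁅(⊤ : Subgroup P).lowerCentralSeries n, ⊤⁆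
    exact Subgroup.commutator_mono ih le_top

theorem iterCommQ_le {P : Type*} [Group P] (D Q : Subgroup P)
    (hQD : Q ≤ Subgroup.normalizer (D : Set P)) (n : ℕ) : iterCommQ D Q n ≤ D := by
  induction n with
  | zero => exact le_rfl
  | succ n ih =>
    show ⁅iterCommQ D Q n, Q⁆ ≤ D
    rw [Subgroup.commutator_le]
    intro d hd q hq
    have hd' := ih hd
    have h1 : q * d⁻¹ * q⁻¹ ∈ D :=
      (Subgroup.mem_normalizer_iff.mp (hQD hq) d⁻¹).mp (D.inv_mem hd')
    have h2 : ⁅d, q⁆ = d * (q * d⁻¹ * q⁻¹) := by rw [commutatorElement_def]; group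
    rw [h2]; exact D.mul_mem hd' h1

/-- In a nilpotent group, if `Q` normalizes `D` and `D` is not contained in `C`, some element of
`D` outside `C` has all its commutators with `Q` inside `C`. -/
theorem exists_mem_not_mem_comm_mem {P : Type*} [Group P] [Group.IsNilpotent P] (D Q C : Subgroup P)
    (hQD : Q ≤ Subgroup.normalizer (D : Set P)) (hDC : ¬ D ≤ C) :
    ∃ x ∈ D, x ∉ C ∧ ∀ q ∈ Q, ⁅x, q⁆ ∈ C := by
  classical
  obtain ⟨N, hN⟩ := Subgroup.nilpotent_iff_lowerCentralSeries.mp (inferInstance : Group.IsNilpotent P)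
  have hex : ∃ n, iterCommQ D Q n ≤ C := ⟨N, by
    have := iterCommQ_le_lcs D Q N
    rw [hN] at this
    exact le_trans this bot_le⟩
  obtain ⟨n, hn, hmin⟩ : ∃ n, iterCommQ D Q n ≤ C ∧ ∀ m < n, ¬ iterCommQ D Q m ≤ C :=
    ⟨Nat.find hex, Nat.find_spec hex, fun m hm => Nat.find_min hex hm⟩
  cases n with
  | zero => exact absurd hn hDC
  | succ m =>
    have hm' : ¬ iterCommQ D Q m ≤ C := hmin m (Nat.lt_succ_self m)
    obtain ⟨x, hx, hxC⟩ := SetLike.not_le_iff_exists.mp hm'
    refine ⟨x, iterCommQ_le D Q hQD m hx, hxC, fun q hq => ?_⟩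
    apply hn
    exact Subgroup.commutator_mem_commutator hx hq

/-- If `C` is commutative and `x` centralizes `C`, then `C ⊔ ⟨x⟩` is commutative. -/
theorem comm_sup_zpowers {P : Type*} [Group P] (C : Subgroup P) (x : P)
    (hC : ∀ a ∈ C, ∀ b ∈ C, a * b = b * a) (hx : x ∈ Subgroup.centralizer (C : Set P)) :
    ∀ a ∈ C ⊔ Subgroup.zpowers x, ∀ b ∈ C ⊔ Subgroup.zpowers x, a * b = b * a := by
  have h1 : ∀ c ∈ C, C ⊔ Subgroup.zpowers x ≤ Subgroup.centralizer ({c} : Set P) := by
    intro c hc
    apply sup_le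
    · intro a ha
      rw [Subgroup.mem_centralizer_iff]
      intro y hy
      rw [Set.mem_singleton_iff.mp hy]
      exact hC c hc a ha
    · rw [Subgroup.zpowers_le, Subgroup.mem_centralizer_iff]
      intro y hy
      rw [Set.mem_singleton_iff.mp hy]
      exact Subgroup.mem_centralizer_iff.mp hx c hc
  have h2 : C ⊔ Subgroup.zpowers x ≤ Subgroup.centralizer ({x} : Set P) := by
    apply sup_le
    · intro a ha
      rw [Subgroup.mem_centralizer_iff]
      intro y hy
      rw [Set.mem_singleton_iff.mp hy]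
      exact (Subgroup.mem_centralizer_iff.mp hx a ha).symm
    · rw [Subgroup.zpowers_le, Subgroup.mem_centralizer_iff]
      intro y hy
      rw [Set.mem_singleton_iff.mp hy]
  have h3 : C ⊔ Subgroup.zpowers x ≤
      Subgroup.centralizer ((C ⊔ Subgroup.zpowers x : Subgroup P) : Set P) := by
    apply sup_le
    · intro c hc
      rw [Subgroup.mem_centralizer_iff]
      intro y hy
      have := h1 c hc hy
      rw [Subgroup.mem_centralizer_iff] at this
      exact (this c rfl).symm
    · rw [Subgroup.zpowers_le, Subgroup.mem_centralizer_iff]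
      intro y hy
      have := h2 hy
      rw [Subgroup.mem_centralizer_iff] at this
      exact (this x rfl).symm
  intro a ha b hb
  exact Subgroup.mem_centralizer_iff.mp (h3 hb) a ha

/-- If `C` is normal and all commutators `[x, g]` lie in `C`, then `C ⊔ ⟨x⟩` is normal. -/
theorem normal_sup_zpowers {P : Type*} [Group P] (C : Subgroup P) [hC : C.Normal] (x : P)
    (hx : ∀ g : P, ⁅x, g⁆ ∈ C) : (C ⊔ Subgroup.zpowers x).Normal := by
  constructor
  intro n hn g
  have hmap : (C ⊔ Subgroup.zpowers x).map (MulAut.conj g).toMonoidHom ≤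
      C ⊔ Subgroup.zpowers x := by
    rw [Subgroup.map_sup]
    apply sup_le
    · apply le_sup_of_le_left
      rintro _ ⟨c, hc, rfl⟩
      exact hC.conj_mem c hc g
    · rw [MonoidHom.map_zpowers, Subgroup.zpowers_le]
      have h1 : (MulAut.conj g).toMonoidHom x = (⁅x, g⁆)⁻¹ * x := by
        simp only [MulEquiv.coe_toMonoidHom, MulAut.conj_apply, commutatorElement_def]; group
      rw [h1]
      exact Subgroup.mul_mem _ (Subgroup.mem_sup_left (C.inv_mem (hx g)))
        (Subgroup.mem_sup_right (Subgroup.mem_zpowers x))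
  have := hmap ⟨n, hn, rfl⟩
  simpa using this

end Cfsg.Agent.helper10
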