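import Mathlib
import Cfsg.Statements.S1977
import Cfsg.Agent.Lib_helper10_PGroup

set_option autoImplicit false
open Cfsg
open scoped commutatorElement

namespace Cfsg.Agent.S1977

open Cfsg.Agent.helper10

variable {P : Type*} [Group P]

theorem conj_mem_centralizer {B : Subgroup P} {q c : P} (hq : q ∈ Subgroup.normalizer (B : Set P))
    (hc : c ∈ Subgroup.centralizer (B : Set P)) :
    q * c * q⁻¹ ∈ Subgroup.centralizer (B : Set P) := by
  rw [Subgroup.mem_centralizer_iff]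
  intro b hb
  have hb' : q⁻¹ * b * q ∈ B := (Subgroup.mem_normalizer_iff''.mp hq b).mp hb
  have hcomm : (q⁻¹ * b * q) * c = c * (q⁻¹ * b * q) :=
    Subgroup.mem_centralizer_iff.mp hc _ hb'
  have h1 : b * (q * c * q⁻¹) = q * ((q⁻¹ * b * q) * c) * q⁻¹ := by group
  rw [h1, hcomm]; group

theorem normalizer_le_normalizer_centralizer (B : Subgroup P) :
    Subgroup.normalizer (B : Set P) ≤
      Subgroup.normalizer ((Subgroup.centralizer (B : Set P) : Subgroup P) : Set P) := by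
  intro q hq
  rw [Subgroup.mem_normalizer_iff]
  intro c
  constructor
  · intro hc; exact conj_mem_centralizer hq hc
  · intro hc
    have := conj_mem_centralizer (Subgroup.inv_mem _ hq) hc
    have h2 : q⁻¹ * (q * c * q⁻¹) * q⁻¹⁻¹ = c := by group
    rwa [h2] at this

theorem le_normalizer_of_conj_mem {Q H : Subgroup P} (h : ∀ q ∈ Q, ∀ a ∈ H, q * a * q⁻¹ ∈ H) :
    Q ≤ Subgroup.normalizer (H : Set P) := by
  intro q hq
  rw [Subgroup.mem_normalizer_iff]
  intro a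
  constructor
  · exact h q hq a
  · intro ha
    have := h q⁻¹ (Q.inv_mem hq) _ ha
    have h2 : q⁻¹ * (q * a * q⁻¹) * q⁻¹⁻¹ = a := by group
    rwa [h2] at this

theorem mem_sup_zpowers {B : Subgroup P} {x : P} (hx : x ∈ Subgroup.centralizer (B : Set P)) {g : P}
    (hg : g ∈ B ⊔ Subgroup.zpowers x) : ∃ b ∈ B, ∃ z ∈ Subgroup.zpowers x, b * z = g := by
  have hLE : Subgroup.zpowers x ≤ Subgroup.normalizer (B : Set P) := by
    rw [Subgroup.zpowers_le]; exact Subgroup.centralizer_le_normalizer _ hx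
  have h := Subgroup.coe_mul_of_right_le_normalizer_left B (Subgroup.zpowers x) hLE
  have hg' : g ∈ ((B ⊔ Subgroup.zpowers x : Subgroup P) : Set P) := hg
  rw [h] at hg'
  obtain ⟨b, hb, z, hz, rfl⟩ := Set.mem_mul.mp hg'
  exact ⟨b, hb, z, hz, rfl⟩

theorem x_mem_centralizer_sup {B : Subgroup P} {x : P} (hx : x ∈ Subgroup.centralizer (B : Set P)) :
    x ∈ Subgroup.centralizer ((B ⊔ Subgroup.zpowers x : Subgroup P) : Set P) := by
  have h2 : B ⊔ Subgroup.zpowers x ≤ Subgroup.centralizer ({x} : Set P) := by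
    apply sup_le
    · intro a ha
      rw [Subgroup.mem_centralizer_iff]
      intro y hy
      rw [Set.mem_singleton_iff.mp hy]
      exact (Subgroup.mem_centralizer_iff.mp hx a ha).symm
    · rw [Subgroup.zpowers_le, Subgroup.mem_centralizer_iff]
      intro y hy
      rw [Set.mem_singleton_iff.mp hy]
  rw [Subgroup.mem_centralizer_iff]
  intro y hy
  have := h2 hy
  rw [Subgroup.mem_centralizer_iff] at this
  exact (this x rfl).symm

theorem center_le_center_sup {B : Subgroup P} {x : P} (hx : x ∈ Subgroup.centralizer (B : Set P)) :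
    B ⊓ Subgroup.centralizer (B : Set P) ≤
      (B ⊔ Subgroup.zpowers x) ⊓
        Subgroup.centralizer ((B ⊔ Subgroup.zpowers x : Subgroup P) : Set P) := by
  intro c hc
  obtain ⟨hcB, hcC⟩ := Subgroup.mem_inf.mp hc
  refine Subgroup.mem_inf.mpr ⟨Subgroup.mem_sup_left hcB, ?_⟩
  rw [Subgroup.mem_centralizer_iff]
  intro y hy
  obtain ⟨b, hb, z, hz, rfl⟩ := mem_sup_zpowers hx hy
  have hzc : z ∈ Subgroup.centralizer (B : Set P) := (Subgroup.zpowers_le.mpr hx) hz
  have h1 : b * c = c * b := Subgroup.mem_centralizer_iff.mp hcC b hb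
  have h2 : c * z = z * c := Subgroup.mem_centralizer_iff.mp hzc c hcB
  calc b * z * c = b * (z * c) := by group
    _ = b * (c * z) := by rw [h2]
    _ = (b * c) * z := by group
    _ = c * b * z := by rw [h1]
    _ = c * (b * z) := by group

theorem comm_eq_of_decomp {B : Subgroup P} {x : P} (hx : x ∈ Subgroup.centralizer (B : Set P))
    {a a' : P} (ha : a ∈ B ⊔ Subgroup.zpowers x) (ha' : a' ∈ B ⊔ Subgroup.zpowers x) :
    ∃ b ∈ B, ∃ b' ∈ B, ⁅a, a'⁆ = ⁅b, b'⁆ := by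
  obtain ⟨b, hb, z, hz, rfl⟩ := mem_sup_zpowers hx ha
  obtain ⟨b', hb', z', hz', rfl⟩ := mem_sup_zpowers hx ha'
  refine ⟨b, hb, b', hb', ?_⟩
  have hxc := x_mem_centralizer_sup hx
  have hzc : z ∈ Subgroup.centralizer ((B ⊔ Subgroup.zpowers x : Subgroup P) : Set P) :=
    (Subgroup.zpowers_le.mpr hxc) hz
  have hz'c : z' ∈ Subgroup.centralizer (B : Set P) := (Subgroup.zpowers_le.mpr hx) hz'
  have h1 : (b' * z') * z = z * (b' * z') := Subgroup.mem_centralizer_iff.mp hzc _ ha'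
  have h2 : b * z' = z' * b := Subgroup.mem_centralizer_iff.mp hz'c b hb
  have e1 : ⁅b * z, b' * z'⁆ = ⁅b, b' * z'⁆ := by
    have h3 : z * (b' * z') * z⁻¹ = b' * z' := by rw [← h1]; group
    calc ⁅b * z, b' * z'⁆ = b * (z * (b' * z') * z⁻¹) * b⁻¹ * (b' * z')⁻¹ := by
          rw [commutatorElement_def]; group
      _ = b * (b' * z') * b⁻¹ * (b' * z')⁻¹ := by rw [h3]
      _ = ⁅b, b' * z'⁆ := by rw [commutatorElement_def]
  have e2 : ⁅b, b' * z'⁆ = ⁅b, b'⁆ := by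
    have h3 : z' * b⁻¹ = b⁻¹ * z' := by
      calc z' * b⁻¹ = b⁻¹ * (b * z') * b⁻¹ := by group
        _ = b⁻¹ * (z' * b) * b⁻¹ := by rw [h2]
        _ = b⁻¹ * z' := by group
    have h4 : z' * b⁻¹ * z'⁻¹ = b⁻¹ := by rw [h3]; group
    calc ⁅b, b' * z'⁆ = b * b' * (z' * b⁻¹ * z'⁻¹) * b'⁻¹ := by
          rw [commutatorElement_def]; group
      _ = b * b' * b⁻¹ * b'⁻¹ := by rw [h4]
      _ = ⁅b, b'⁆ := by rw [commutatorElement_def]
  rw [e1, e2]

theorem classTwo_sup {B : Subgroup P} {x : P} (hB : B ∈ Cfsg.classTwoSubgroups P)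
    (hx : x ∈ Subgroup.centralizer (B : Set P)) :
    B ⊔ Subgroup.zpowers x ∈ Cfsg.classTwoSubgroups P := by
  show ⁅B ⊔ Subgroup.zpowers x, B ⊔ Subgroup.zpowers x⁆ ≤
    Subgroup.centralizer ((B ⊔ Subgroup.zpowers x : Subgroup P) : Set P)
  rw [Subgroup.commutator_le]
  intro a ha a' ha'
  obtain ⟨b, hb, b', hb', h⟩ := comm_eq_of_decomp hx ha ha'
  rw [h]
  have hB' : ⁅B, B⁆ ≤ Subgroup.centralizer (B : Set P) := hB
  have h1 : ⁅b, b'⁆ ∈ B ⊓ Subgroup.centralizer (B : Set P) := by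
    refine Subgroup.mem_inf.mpr ⟨?_, hB' (Subgroup.commutator_mem_commutator hb hb')⟩
    rw [commutatorElement_def]
    exact B.mul_mem (B.mul_mem (B.mul_mem hb hb') (B.inv_mem hb)) (B.inv_mem hb')
  exact (center_le_center_sup hx h1).2

/-- The elements of `B'` all of whose commutators with `Q` are central in `B'`. -/
def commT (B' Q : Subgroup P) : Subgroup P where
  carrier := {a | a ∈ B' ∧ ∀ q ∈ Q, ⁅a, q⁆ ∈ B' ⊓ Subgroup.centralizer (B' : Set P)}
  one_mem' := ⟨B'.one_mem, fun q _ => by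
    rw [commutatorElement_one_left]; exact Subgroup.one_mem _⟩
  mul_mem' := by
    rintro g h ⟨hg, hgq⟩ ⟨hh, hhq⟩
    refine ⟨B'.mul_mem hg hh, fun q hq => ?_⟩
    have h1 : ⁅g * h, q⁆ = g * ⁅h, q⁆ * g⁻¹ * ⁅g, q⁆ := by
      simp only [commutatorElement_def]; group
    have hc := (hhq q hq).2
    have h2 : g * ⁅h, q⁆ = ⁅h, q⁆ * g := Subgroup.mem_centralizer_iff.mp hc g hg
    have h3 : g * ⁅h, q⁆ * g⁻¹ = ⁅h, q⁆ := by rw [h2]; group
    rw [h1, h3]
    exact Subgroup.mul_mem _ (hhq q hq) (hgq q hq)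
  inv_mem' := by
    rintro g ⟨hg, hgq⟩
    refine ⟨B'.inv_mem hg, fun q hq => ?_⟩
    have h1 : ⁅g⁻¹, q⁆ = g⁻¹ * (⁅g, q⁆)⁻¹ * g := by
      simp only [commutatorElement_def]; group
    have hc : (⁅g, q⁆)⁻¹ ∈ B' ⊓ Subgroup.centralizer (B' : Set P) :=
      Subgroup.inv_mem _ (hgq q hq)
    have h2 : g⁻¹ * (⁅g, q⁆)⁻¹ = (⁅g, q⁆)⁻¹ * g⁻¹ :=
      Subgroup.mem_centralizer_iff.mp hc.2 g⁻¹ (B'.inv_mem hg)
    have h3 : g⁻¹ * (⁅g, q⁆)⁻¹ * g = (⁅g, q⁆)⁻¹ := by rw [h2]; group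
    rw [h1, h3]; exact hc

theorem mem_commT {B' Q : Subgroup P} {a : P} :
    a ∈ commT B' Q ↔ a ∈ B' ∧ ∀ q ∈ Q, ⁅a, q⁆ ∈ B' ⊓ Subgroup.centralizer (B' : Set P) :=
  Iff.rfl

theorem sup_le_commT {B : Subgroup P} {x : P} (hx : x ∈ Subgroup.centralizer (B : Set P))
    (A : Subgroup P) (hBA : ⁅B, A⁆ ≤ B ⊓ Subgroup.centralizer (B : Set P))
    (hxA : ∀ a ∈ A, ⁅x, a⁆ ∈ B ⊓ Subgroup.centralizer (B : Set P)) :
    ⁅B ⊔ Subgroup.zpowers x, A⁆ ≤ (B ⊔ Subgroup.zpowers x) ⊓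
      Subgroup.centralizer ((B ⊔ Subgroup.zpowers x : Subgroup P) : Set P) := by
  have hle : B ⊔ Subgroup.zpowers x ≤ commT (B ⊔ Subgroup.zpowers x) A := by
    apply sup_le
    · intro b hb
      rw [mem_commT]
      exact ⟨Subgroup.mem_sup_left hb, fun a ha =>
        center_le_center_sup hx (hBA (Subgroup.commutator_mem_commutator hb ha))⟩
    · rw [Subgroup.zpowers_le, mem_commT]
      exact ⟨Subgroup.mem_sup_right (Subgroup.mem_zpowers x), fun a ha =>
        center_le_center_sup hx (hxA a ha)⟩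
  rw [Subgroup.commutator_le]
  intro g hg a ha
  exact (mem_commT.mp (hle hg)).2 a ha

theorem exists_x [Finite P] {p : ℕ} [Fact p.Prime] (hP : IsPGroup p P) (B Q : Subgroup P)
    (hQB : Q ≤ Subgroup.normalizer (B : Set P)) (hne : ¬ Subgroup.centralizer (B : Set P) ≤ B) :
    ∃ x, x ∈ Subgroup.centralizer (B : Set P) ∧ x ∉ B ∧
      ∀ q ∈ Q, ⁅x, q⁆ ∈ B ⊓ Subgroup.centralizer (B : Set P) := by
  have : Group.IsNilpotent P := hP.isNilpotent
  have hQC : Q ≤ Subgroup.normalizer ((Subgroup.centralizer (B : Set P) : Subgroup P) : Set P) :=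
    le_trans hQB (normalizer_le_normalizer_centralizer B)
  obtain ⟨x, hxC, hxB, hcomm⟩ :=
    exists_mem_not_mem_comm_mem (Subgroup.centralizer (B : Set P)) Q B hQC hne
  refine ⟨x, hxC, hxB, fun q hq => ⟨hcomm q hq, ?_⟩⟩
  have h1 : q * x⁻¹ * q⁻¹ ∈ Subgroup.centralizer (B : Set P) :=
    conj_mem_centralizer (hQB hq) (Subgroup.inv_mem _ hxC)
  have h2 : ⁅x, q⁆ = x * (q * x⁻¹ * q⁻¹) := by rw [commutatorElement_def]; group
  rw [h2]; exact Subgroup.mul_mem _ hxC h1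

theorem result {P : Type*} [Group P] [Finite P] {p : ℕ} [Fact p.Prime] (hP : IsPGroup p P) (B : Subgroup P) (𝒦 : Set (Subgroup P)) (h𝒦 : 𝒦 = Cfsg.classTwoSubgroups P ∨ (∃ n, 𝒦 = Cfsg.kLowerStarFamily (Cfsg.kSeqOdd P n)) ∨ ∃ n, 𝒦 = Cfsg.kUpperStarFamily (Cfsg.kSeqEven P n)) (hB : B ∈ 𝒦) (hmax : ∀ C ∈ 𝒦, B ≤ C → C = B) : Subgroup.centralizer (B : Set P) ≤ B := by
  by_contra hne
  rcases h𝒦 with h | ⟨n, h⟩ | ⟨n, h⟩
  · subst h
    obtain ⟨x, hxC, hxB⟩ := SetLike.not_le_iff_exists.mp hne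
    have heq := hmax _ (classTwo_sup hB hxC) le_sup_left
    have hx' : x ∈ B ⊔ Subgroup.zpowers x := Subgroup.mem_sup_right (Subgroup.mem_zpowers x)
    rw [heq] at hx'
    exact hxB hx'
  · subst h
    obtain ⟨hB2, hQB, hcond⟩ := hB
    obtain ⟨x, hxC, hxB, hxQ⟩ := exists_x hP B _ hQB hne
    have hmem : B ⊔ Subgroup.zpowers x ∈ Cfsg.kLowerStarFamily (Cfsg.kSeqOdd P n) := by
      refine ⟨classTwo_sup hB2 hxC, ?_, ?_⟩
      · apply le_normalizer_of_conj_mem
        intro q hq a ha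
        obtain ⟨b, hb, z, hz, rfl⟩ := mem_sup_zpowers hxC ha
        have h1 : q * b * q⁻¹ ∈ B := (Subgroup.mem_normalizer_iff.mp (hQB hq) b).mp hb
        have h2 : q * z * q⁻¹ ∈ B ⊔ Subgroup.zpowers x := by
          have hmap : (Subgroup.zpowers x).map (MulAut.conj q).toMonoidHom ≤
              B ⊔ Subgroup.zpowers x := by
            rw [MonoidHom.map_zpowers, Subgroup.zpowers_le]
            have e : (MulAut.conj q).toMonoidHom x = (⁅x, q⁆)⁻¹ * x := by
              simp only [MulEquiv.coe_toMonoidHom, MulAut.conj_apply, commutatorElement_def]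
              group
            rw [e]
            exact Subgroup.mul_mem _ (Subgroup.mem_sup_left (B.inv_mem (hxQ q hq).1))
              (Subgroup.mem_sup_right (Subgroup.mem_zpowers x))
          have := hmap ⟨z, hz, rfl⟩
          simpa using this
        have e : q * (b * z) * q⁻¹ = (q * b * q⁻¹) * (q * z * q⁻¹) := by group
        rw [e]
        exact Subgroup.mul_mem _ (Subgroup.mem_sup_left h1) h2
      · intro A hA2 hAQ hBA hBAA hZAA
        apply sup_le_commT hxC A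
        · apply hcond A hA2 hAQ (le_trans le_sup_left hBA)
          · rw [eq_bot_iff, ← hBAA]; exact Subgroup.commutator_mono le_sup_left le_rfl
          · rw [eq_bot_iff, ← hZAA]
            exact Subgroup.commutator_mono
              (Subgroup.commutator_mono (center_le_center_sup hxC) le_rfl) le_rfl
        · intro a ha; exact hxQ a (hAQ ha)
    have heq := hmax _ hmem le_sup_left
    have hx' : x ∈ B ⊔ Subgroup.zpowers x := Subgroup.mem_sup_right (Subgroup.mem_zpowers x)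
    rw [heq] at hx'
    exact hxB hx'
  · subst h
    obtain ⟨hB2, hBQ⟩ := hB
    have hQB : Cfsg.kSeqEven P n ≤ Subgroup.normalizer (B : Set P) :=
      Subgroup.le_normalizer_iff_commutator_le_left.mpr (le_trans hBQ inf_le_left)
    obtain ⟨x, hxC, hxB, hxQ⟩ := exists_x hP B _ hQB hne
    have hmem : B ⊔ Subgroup.zpowers x ∈ Cfsg.kUpperStarFamily (Cfsg.kSeqEven P n) :=
      ⟨classTwo_sup hB2 hxC, sup_le_commT hxC _ hBQ hxQ⟩
    have heq := hmax _ hmem le_sup_left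
    have hx' : x ∈ B ⊔ Subgroup.zpowers x := Subgroup.mem_sup_right (Subgroup.mem_zpowers x)
    rw [heq] at hx'
    exact hxB hx'

end Cfsg.Agent.S1977
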