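import Mathlib
import Cfsg.Statements.S1978
import Cfsg.Agent.S1975
import Cfsg.Agent.S1977

set_option autoImplicit false
open Cfsg
open scoped commutatorElement

namespace Cfsg.Agent.S1978

variable {P : Type*} [Group P]

theorem exists_stable [Finite P] (K : ℕ → Subgroup P) (hK : ∀ n, K (n + 1) ≤ K n) :
    ∃ N, (⨅ n, K n) = K N := by
  classical
  have hanti : Antitone K := antitone_nat_of_succ_le hK
  have hex : ∃ c, ∃ n, Nat.card (K n) = c := ⟨_, 0, rfl⟩
  obtain ⟨N, hN⟩ := Nat.find_spec hex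
  have hmin : ∀ n, Nat.find hex ≤ Nat.card (K n) := fun n => Nat.find_min' hex ⟨n, rfl⟩
  refine ⟨N, le_antisymm (iInf_le _ N) (le_iInf fun n => ?_)⟩
  rcases le_total n N with h | h
  · exact hanti h
  · have hle : K n ≤ K N := hanti h
    have hcard : Nat.card (K N) ≤ Nat.card (K n) := by rw [hN]; exact hmin n
    exact (Subgroup.eq_of_le_of_card_ge hle hcard).ge

theorem bot_mem_classTwo : (⊥ : Subgroup P) ∈ Cfsg.classTwoSubgroups P := by
  show ⁅(⊥ : Subgroup P), (⊥ : Subgroup P)⁆ ≤ Subgroup.centralizer (((⊥ : Subgroup P)) : Set P)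
  rw [Subgroup.commutator_bot_left]; exact bot_le

theorem bot_mem_lower (Q : Subgroup P) : (⊥ : Subgroup P) ∈ Cfsg.kLowerStarFamily Q := by
  refine ⟨bot_mem_classTwo, ?_, ?_⟩
  · rw [Subgroup.normalizer_eq_top]; exact le_top
  · intro A _ _ _ _ _
    rw [Subgroup.commutator_bot_left]; exact bot_le

theorem bot_mem_upper (Q : Subgroup P) : (⊥ : Subgroup P) ∈ Cfsg.kUpperStarFamily Q := by
  refine ⟨bot_mem_classTwo, ?_⟩
  rw [Subgroup.commutator_bot_left]; exact bot_le

theorem result {P : Type*} [Group P] [Finite P] {p : ℕ} [Fact p.Prime] (hP : IsPGroup p P) : Subgroup.centralizer (Cfsg.kInfLower P : Set P) ≤ Cfsg.kInfLower P ∧ Subgroup.center P ≤ Subgroup.centralizer (Cfsg.kInfLower P : Set P) ∧ Subgroup.centralizer (Cfsg.kInfUpper P : Set P) ≤ Cfsg.kInfUpper P ∧ Subgroup.center P ≤ Subgroup.centralizer (Cfsg.kInfUpper P : Set P) := by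
  refine ⟨?_, Subgroup.center_le_centralizer _, ?_, Subgroup.center_le_centralizer _⟩
  · -- lower
    obtain ⟨B, -, hBmax⟩ := Finite.exists_le_maximal
      (p := fun C : Subgroup P => C ∈ Cfsg.kLowerStarFamily (Cfsg.kSeqOdd P 0))
      (bot_mem_lower (Cfsg.kSeqOdd P 0))
    have hcB : Subgroup.centralizer (B : Set P) ≤ B :=
      Cfsg.Agent.S1977.result hP B _ (Or.inr (Or.inl ⟨0, rfl⟩)) hBmax.1
        (fun C hC hBC => le_antisymm (hBmax.2 hC hBC) hBC)
    have hB1 : B ≤ Cfsg.kSeqEven P 0 := le_sSup hBmax.1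
    have hB2 : B ≤ Cfsg.kInfLower P := le_trans hB1 (le_iSup (fun n => Cfsg.kSeqEven P n) 0)
    intro x hx
    apply hB2
    apply hcB
    exact Subgroup.centralizer_le (by exact_mod_cast hB2) hx
  · -- upper
    obtain ⟨N, hN⟩ := exists_stable (fun n => Cfsg.kSeqOdd P n)
      (fun n => Cfsg.Agent.S1975.odd_antitone P n)
    have hN' : Cfsg.kInfUpper P = Cfsg.kSeqOdd P N := hN
    rw [hN']
    cases N with
    | zero => exact le_top
    | succ k =>
      obtain ⟨B, -, hBmax⟩ := Finite.exists_le_maximal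
        (p := fun C : Subgroup P => C ∈ Cfsg.kUpperStarFamily (Cfsg.kSeqEven P k))
        (bot_mem_upper (Cfsg.kSeqEven P k))
      have hcB : Subgroup.centralizer (B : Set P) ≤ B :=
        Cfsg.Agent.S1977.result hP B _ (Or.inr (Or.inr ⟨k, rfl⟩)) hBmax.1
          (fun C hC hBC => le_antisymm (hBmax.2 hC hBC) hBC)
      have hB1 : B ≤ Cfsg.kSeqOdd P (k + 1) := le_sSup hBmax.1
      intro x hx
      apply hB1
      apply hcB
      exact Subgroup.centralizer_le (by exact_mod_cast hB1) hx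

end Cfsg.Agent.S1978
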