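import Mathlib
import Cfsg.Prelude.Def_ConjugacyFunctors
import Cfsg.Prelude.Def_PLocal
import Cfsg.Agent.S1978
import Cfsg.Agent.Lib_helper10_KInf1

/-!
K-infinity theory, part 2: isomorphism invariance, the K-infinity subgroups as characteristic
p-functors, and the basic dichotomy theorem (existence of an element acting cubically on a
normal class-two subgroup when a K-infinity subgroup of `S` is not normal).
-/

set_option autoImplicit false

namespace Cfsg.Agent.helper10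

open Cfsg

section inj

variable {G H : Type*} [Group G] [Group H]

theorem kUpIn_map {f : G →* H} (hf : Function.Injective f) (S X : Subgroup G) :
    (kUpIn S X).map f = kUpIn (S.map f) (X.map f) := by
  unfold kUpIn
  rw [map_sSup_eq]
  congr 1
  ext B'
  constructor
  · rintro ⟨B, ⟨hBS, hB⟩, rfl⟩
    exact ⟨Subgroup.map_mono hBS, (upper_map_iff hf B X).mpr hB⟩
  · rintro ⟨h1, h2⟩
    have hr : B' ≤ f.range := le_trans h1 (by rintro _ ⟨b, -, rfl⟩; exact ⟨b, rfl⟩)
    have hBeq : (B'.comap f).map f = B' := by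
      rw [Subgroup.map_comap_eq]; exact inf_eq_right.mpr hr
    refine ⟨B'.comap f, ⟨?_, ?_⟩, hBeq⟩
    · intro x hx
      have hx' : f x ∈ B' := hx
      obtain ⟨s, hs, hse⟩ := Subgroup.mem_map.mp (h1 hx')
      have : s = x := hf hse
      rw [← this]; exact hs
    · rw [← hBeq] at h2
      exact (upper_map_iff hf _ X).mp h2

theorem kLowIn_map {f : G →* H} (hf : Function.Injective f) (S X : Subgroup G) :
    (kLowIn S X).map f = kLowIn (S.map f) (X.map f) := by
  unfold kLowIn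
  rw [map_sSup_eq]
  congr 1
  ext B'
  constructor
  · rintro ⟨B, ⟨hBS, hB⟩, rfl⟩
    exact ⟨Subgroup.map_mono hBS, (lower_map_iff hf B X).mpr hB⟩
  · rintro ⟨h1, h2⟩
    have hr : B' ≤ f.range := le_trans h1 (by rintro _ ⟨b, -, rfl⟩; exact ⟨b, rfl⟩)
    have hBeq : (B'.comap f).map f = B' := by
      rw [Subgroup.map_comap_eq]; exact inf_eq_right.mpr hr
    refine ⟨B'.comap f, ⟨?_, ?_⟩, hBeq⟩
    · intro x hx
      have hx' : f x ∈ B' := hx
      obtain ⟨s, hs, hse⟩ := Subgroup.mem_map.mp (h1 hx')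
      have : s = x := hf hse
      rw [← this]; exact hs
    · rw [← hBeq] at h2
      exact (lower_map_iff hf _ X).mp h2

theorem kOddIn_map {f : G →* H} (hf : Function.Injective f) (S : Subgroup G) (n : ℕ) :
    (kOddIn S n).map f = kOddIn (S.map f) n := by
  induction n with
  | zero => rfl
  | succ n ih =>
    show (kUpIn S (kLowIn S (kOddIn S n))).map f = kUpIn (S.map f) (kLowIn (S.map f) (kOddIn (S.map f) n))
    rw [kUpIn_map hf, kLowIn_map hf, ih]

theorem kEvenIn_map {f : G →* H} (hf : Function.Injective f) (S : Subgroup G) (n : ℕ) :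
    (kEvenIn S n).map f = kEvenIn (S.map f) n := by
  show (kLowIn S (kOddIn S n)).map f = kLowIn (S.map f) (kOddIn (S.map f) n)
  rw [kLowIn_map hf, kOddIn_map hf]

end inj

section iso

universe u

theorem kSeqOdd_map_equiv {Q R : Type*} [Group Q] [Group R] (φ : Q ≃* R) (n : ℕ) :
    (Cfsg.kSeqOdd Q n).map φ.toMonoidHom = Cfsg.kSeqOdd R n := by
  rw [← kOddIn_top, ← kOddIn_top, kOddIn_map φ.injective]
  congr 1
  rw [← MonoidHom.range_eq_map]
  exact MonoidHom.range_eq_top.mpr φ.surjective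

theorem kSeqEven_map_equiv {Q R : Type*} [Group Q] [Group R] (φ : Q ≃* R) (n : ℕ) :
    (Cfsg.kSeqEven Q n).map φ.toMonoidHom = Cfsg.kSeqEven R n := by
  rw [← kEvenIn_top, ← kEvenIn_top, kEvenIn_map φ.injective]
  congr 1
  rw [← MonoidHom.range_eq_map]
  exact MonoidHom.range_eq_top.mpr φ.surjective

theorem kInfLower_map_equiv {Q R : Type u} [Group Q] [Group R] (φ : Q ≃* R) :
    (Cfsg.kInfLower Q).map φ.toMonoidHom = Cfsg.kInfLower R := by
  unfold Cfsg.kInfLower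
  rw [Subgroup.map_iSup]
  exact iSup_congr fun n => kSeqEven_map_equiv φ n

theorem kInfUpper_map_equiv {Q R : Type u} [Group Q] [Group R] (φ : Q ≃* R) :
    (Cfsg.kInfUpper Q).map φ.toMonoidHom = Cfsg.kInfUpper R := by
  unfold Cfsg.kInfUpper
  rw [Subgroup.map_iInf _ φ.injective]
  exact iInf_congr fun n => kSeqOdd_map_equiv φ n

theorem center_le_kInfLower {Q : Type u} [Group Q] [Finite Q] {p : ℕ} [Fact p.Prime]
    (hQ : IsPGroup p Q) : Subgroup.center Q ≤ Cfsg.kInfLower Q :=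
  le_trans (Cfsg.Agent.S1978.result hQ).2.1 (Cfsg.Agent.S1978.result hQ).1

theorem center_le_kInfUpper {Q : Type u} [Group Q] [Finite Q] {p : ℕ} [Fact p.Prime]
    (hQ : IsPGroup p Q) : Subgroup.center Q ≤ Cfsg.kInfUpper Q :=
  le_trans (Cfsg.Agent.S1978.result hQ).2.2.2 (Cfsg.Agent.S1978.result hQ).2.2.1

theorem isCharPFunctor_kInfLower (p : ℕ) [Fact p.Prime] :
    Cfsg.IsCharPFunctor.{u} p (fun Q _ => Cfsg.kInfLower Q) := by
  refine ⟨?_, ?_⟩
  · intro Q _ _ hQ hnt h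
    change Cfsg.kInfLower Q = ⊥ at h
    have h1 := center_le_kInfLower hQ
    rw [h] at h1
    haveI := hnt
    have h2 := hQ.center_nontrivial
    rw [le_bot_iff] at h1
    rw [h1] at h2
    exact not_nontrivial _ h2
  · intro Q R _ _ _ _ φ
    exact kInfLower_map_equiv φ

theorem isCharPFunctor_kInfUpper (p : ℕ) [Fact p.Prime] :
    Cfsg.IsCharPFunctor.{u} p (fun Q _ => Cfsg.kInfUpper Q) := by
  refine ⟨?_, ?_⟩
  · intro Q _ _ hQ hnt h
    change Cfsg.kInfUpper Q = ⊥ at h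
    have h1 := center_le_kInfUpper hQ
    rw [h] at h1
    haveI := hnt
    have h2 := hQ.center_nontrivial
    rw [le_bot_iff] at h1
    rw [h1] at h2
    exact not_nontrivial _ h2
  · intro Q R _ _ _ _ φ
    exact kInfUpper_map_equiv φ

end iso

section normal

variable {G : Type*} [Group G]

theorem normal_of_map_conj_le (H : Subgroup G)
    (h : ∀ g : G, H.map (MulAut.conj g).toMonoidHom ≤ H) : H.Normal := by
  constructor
  intro n hn g
  exact h g ⟨n, hn, by simp [MulAut.conj_apply]⟩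

theorem map_conj_eq_of_normal (T : Subgroup G) [hT : T.Normal] (g : G) :
    T.map (MulAut.conj g).toMonoidHom = T := by
  apply le_antisymm
  · rintro _ ⟨t, ht, rfl⟩
    simpa [MulAut.conj_apply] using hT.conj_mem t ht g
  · intro t ht
    refine ⟨g⁻¹ * t * g, ?_, by simp [MulAut.conj_apply, mul_assoc]⟩
    simpa using hT.conj_mem t ht g⁻¹

theorem kEvenIn_iSup_normal (T : Subgroup G) [hT : T.Normal] : (⨆ n, kEvenIn T n).Normal := by
  apply normal_of_map_conj_le
  intro g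
  rw [Subgroup.map_iSup]
  apply iSup_le
  intro n
  rw [kEvenIn_map (MulAut.conj g).injective, map_conj_eq_of_normal]
  exact le_iSup (fun n => kEvenIn T n) n

theorem kOddIn_iInf_normal (T : Subgroup G) [hT : T.Normal] : (⨅ n, kOddIn T n).Normal := by
  apply normal_of_map_conj_le
  intro g
  rw [Subgroup.map_iInf _ (MulAut.conj g).injective]
  apply le_iInf
  intro n
  refine le_trans (iInf_le _ n) ?_
  rw [kOddIn_map (MulAut.conj g).injective, map_conj_eq_of_normal]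

end normal

section main

variable {G : Type*} [Group G]

theorem commutator_le_of_le_normalizer {H K : Subgroup G}
    (h : H ≤ Subgroup.normalizer (K : Set G)) : ⁅H, K⁆ ≤ K := by
  rw [Subgroup.commutator_le]
  intro a ha b hb
  have h1 : a * b * a⁻¹ ∈ K := (Subgroup.mem_normalizer_iff.mp (h ha) b).mp hb
  rw [commutatorElement_def]
  exact K.mul_mem h1 (K.inv_mem hb)

theorem abelian_classTwo {Z : Subgroup G} (hZ : Z ≤ Subgroup.centralizer (Z : Set G)) :
    Z ∈ Cfsg.classTwoSubgroups G := by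
  show ⁅Z, Z⁆ ≤ Subgroup.centralizer (Z : Set G)
  rw [(Subgroup.commutator_eq_bot_iff_le_centralizer).mpr hZ]
  exact bot_le

theorem abelian_normal_mem_lower {Z : Subgroup G} [hZn : Z.Normal]
    (hZ : Z ≤ Subgroup.centralizer (Z : Set G)) (X : Subgroup G) :
    Z ∈ Cfsg.kLowerStarFamily X := by
  refine ⟨abelian_classTwo hZ, ?_, ?_⟩
  · rw [Subgroup.normalizer_eq_top]; exact le_top
  · intro A _ _ _ _ _
    rw [inf_eq_left.mpr hZ]
    exact Subgroup.commutator_le_left Z A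

theorem abelian_normal_mem_upper {Z : Subgroup G} [hZn : Z.Normal]
    (hZ : Z ≤ Subgroup.centralizer (Z : Set G)) (X : Subgroup G) :
    Z ∈ Cfsg.kUpperStarFamily X := by
  refine ⟨abelian_classTwo hZ, ?_⟩
  rw [inf_eq_left.mpr hZ]
  exact Subgroup.commutator_le_left Z X

/-- The centre `A ⊓ C(A)` of a normal subgroup is normal. -/
theorem inf_centralizer_normal (A : Subgroup G) [hA : A.Normal] :
    (A ⊓ Subgroup.centralizer (A : Set G)).Normal := by
  infer_instance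

theorem inf_centralizer_abelian (A : Subgroup G) :
    A ⊓ Subgroup.centralizer (A : Set G) ≤
      Subgroup.centralizer ((A ⊓ Subgroup.centralizer (A : Set G) : Subgroup G) : Set G) := by
  intro x hx
  exact Subgroup.centralizer_le (by exact_mod_cast (inf_le_left : A ⊓ Subgroup.centralizer (A : Set G) ≤ A))
    (Subgroup.mem_inf.mp hx).2

theorem commutator_commutator_eq_bot_of_le_centralizer {X B : Subgroup G}
    (h : ⁅X, B⁆ ≤ Subgroup.centralizer (B : Set G)) : ⁅⁅X, B⁆, B⁆ = ⊥ :=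
  Subgroup.commutator_eq_bot_iff_le_centralizer.mpr h

theorem classTwo_triple {B : Subgroup G} (hB : B ∈ Cfsg.classTwoSubgroups G) :
    ⁅⁅B, B⁆, B⁆ = ⊥ :=
  Subgroup.commutator_eq_bot_iff_le_centralizer.mpr hB

/-- Data produced in the "even" case. -/
theorem kcase_even {S T A : Subgroup G} [hAn : A.Normal]
    (hA3 : ⁅T, A⁆ ≤ A ⊓ Subgroup.centralizer (A : Set G))
    {O B : Subgroup G} (hAO : A ≤ O) (hB : B ∈ Cfsg.kLowerStarFamily O) (hBT : ¬ B ≤ T)
    (hBS : B ≤ S) :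
    ∃ g : G, g ∈ S ∧ g ∉ T ∧ g ∈ B ∧
      Cfsg.iterCommutator A (Subgroup.zpowers g) 3 = ⊥ ∧
      ⁅⁅A ⊓ Subgroup.centralizer (A : Set G), Subgroup.zpowers g⁆, Subgroup.zpowers g⁆ = ⊥ := by
  obtain ⟨g, hgB, hgT⟩ := SetLike.not_le_iff_exists.mp hBT
  have hzg : Subgroup.zpowers g ≤ B := by rw [Subgroup.zpowers_le]; exact hgB
  set Z := A ⊓ Subgroup.centralizer (A : Set G) with hZdef
  haveI hZn : Z.Normal := inf_centralizer_normal A
  have hZab : Z ≤ Subgroup.centralizer (Z : Set G) := inf_centralizer_abelian A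
  obtain ⟨hB2, hOB, hprop⟩ := hB
  have hZZ : ⁅Z, Z⁆ = ⊥ := Subgroup.commutator_eq_bot_iff_le_centralizer.mpr hZab
  have h1 : ⁅B, Z⁆ ≤ B ⊓ Subgroup.centralizer (B : Set G) := by
    apply hprop Z (abelian_classTwo hZab) (le_trans inf_le_left hAO)
    · rw [Subgroup.normalizer_eq_top]; exact le_top
    · rw [hZZ, Subgroup.commutator_bot_right]
    · have : ⁅B ⊓ Subgroup.centralizer (B : Set G), Z⁆ ≤ Z := Subgroup.commutator_le_right _ Z
      rw [eq_bot_iff, ← hZZ]
      exact Subgroup.commutator_mono this le_rfl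
  have h2 : ⁅⁅Z, B⁆, B⁆ = ⊥ := by
    apply commutator_commutator_eq_bot_of_le_centralizer
    rw [Subgroup.commutator_comm]
    exact le_trans h1 inf_le_right
  refine ⟨g, hBS hgB, hgT, hgB, ?_, ?_⟩
  · have hAB : ⁅A, B⁆ ≤ B := commutator_le_of_le_normalizer (le_trans hAO hOB)
    have e1 : Cfsg.iterCommutator A (Subgroup.zpowers g) 3 ≤ ⁅⁅⁅A, B⁆, B⁆, B⁆ := by
      show ⁅⁅⁅A, Subgroup.zpowers g⁆, Subgroup.zpowers g⁆, Subgroup.zpowers g⁆ ≤ _
      exact Subgroup.commutator_mono (Subgroup.commutator_mono (Subgroup.commutator_mono le_rfl hzg) hzg) hzg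
    have e2 : ⁅⁅⁅A, B⁆, B⁆, B⁆ ≤ ⁅⁅B, B⁆, B⁆ :=
      Subgroup.commutator_mono (Subgroup.commutator_mono hAB le_rfl) le_rfl
    rw [classTwo_triple hB2] at e2
    exact le_bot_iff.mp (le_trans e1 e2)
  · rw [eq_bot_iff, ← h2]
    exact Subgroup.commutator_mono (Subgroup.commutator_mono le_rfl hzg) hzg

/-- Data produced in the "odd" case with `A` in the lower family. -/
theorem kcase_odd {S T A : Subgroup G}
    {E B : Subgroup G} (hAE : A ≤ E) (hB : B ∈ Cfsg.kUpperStarFamily E) (hBT : ¬ B ≤ T)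
    (hBS : B ≤ S) :
    ∃ g : G, g ∈ S ∧ g ∉ T ∧
      ⁅⁅A, Subgroup.zpowers g⁆, Subgroup.zpowers g⁆ = ⊥ := by
  obtain ⟨g, hgB, hgT⟩ := SetLike.not_le_iff_exists.mp hBT
  have hzg : Subgroup.zpowers g ≤ B := by rw [Subgroup.zpowers_le]; exact hgB
  obtain ⟨hB2, hBE⟩ := hB
  have h2 : ⁅⁅A, B⁆, B⁆ = ⊥ := by
    apply commutator_commutator_eq_bot_of_le_centralizer
    rw [Subgroup.commutator_comm]
    exact le_trans (Subgroup.commutator_mono le_rfl hAE) (le_trans hBE inf_le_right)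
  refine ⟨g, hBS hgB, hgT, ?_⟩
  rw [eq_bot_iff, ← h2]
  exact Subgroup.commutator_mono (Subgroup.commutator_mono le_rfl hzg) hzg

/-- Data produced when `A` is not in the lower family relative to `S`. -/
theorem kcase_notlower {S T A : Subgroup G} [hAn : A.Normal]
    (hA2 : ⁅A, A⁆ ≤ Subgroup.centralizer (A : Set G))
    (hA3 : ⁅T, A⁆ ≤ A ⊓ Subgroup.centralizer (A : Set G))
    (hA : A ∉ Cfsg.kLowerStarFamily S) :
    ∃ g : G, g ∈ S ∧ g ∉ T ∧
      ⁅⁅A, Subgroup.zpowers g⁆, Subgroup.zpowers g⁆ ≤ A ⊓ Subgroup.centralizer (A : Set G) ∧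
      ⁅⁅A ⊓ Subgroup.centralizer (A : Set G), Subgroup.zpowers g⁆, Subgroup.zpowers g⁆ = ⊥ := by
  have hex : ∃ A₁ ∈ Cfsg.classTwoSubgroups G, A₁ ≤ S ∧ A ≤ Subgroup.normalizer (A₁ : Set G) ∧
      ⁅A, ⁅A₁, A₁⁆⁆ = ⊥ ∧ ⁅⁅A ⊓ Subgroup.centralizer (A : Set G), A₁⁆, A₁⁆ = ⊥ ∧
      ¬ ⁅A, A₁⁆ ≤ A ⊓ Subgroup.centralizer (A : Set G) := by
    by_contra hne
    apply hA
    refine ⟨hA2, ?_, ?_⟩
    · rw [Subgroup.normalizer_eq_top]; exact le_top
    · intro A₁ h1 h2 h3 h4 h5
      by_contra h6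
      exact hne ⟨A₁, h1, h2, h3, h4, h5, h6⟩
  obtain ⟨A₁, hA₁2, hA₁S, hAA₁, hc1, hc2, hnot⟩ := hex
  rw [Subgroup.commutator_le] at hnot
  push Not at hnot
  obtain ⟨a, ha, g, hg, hag⟩ := hnot
  have hzg : Subgroup.zpowers g ≤ A₁ := by rw [Subgroup.zpowers_le]; exact hg
  refine ⟨g, hA₁S hg, ?_, ?_, ?_⟩
  · intro hgT
    apply hag
    apply hA3
    rw [Subgroup.commutator_comm]
    exact Subgroup.commutator_mem_commutator ha hgT
  · have hAA : ⁅A, A₁⁆ ≤ A ⊓ A₁ :=
      le_inf (Subgroup.commutator_le_left A A₁) (commutator_le_of_le_normalizer hAA₁)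
    have e1 : ⁅⁅A, Subgroup.zpowers g⁆, Subgroup.zpowers g⁆ ≤ ⁅A ⊓ A₁, A₁⁆ :=
      Subgroup.commutator_mono (le_trans (Subgroup.commutator_mono le_rfl hzg) hAA) hzg
    have e2 : ⁅A ⊓ A₁, A₁⁆ ≤ A := le_trans (Subgroup.commutator_mono inf_le_left le_rfl)
      (Subgroup.commutator_le_left A A₁)
    have e3 : ⁅A ⊓ A₁, A₁⁆ ≤ Subgroup.centralizer (A : Set G) := by
      refine le_trans (Subgroup.commutator_mono inf_le_right le_rfl) ?_
      have := Subgroup.commutator_eq_bot_iff_le_centralizer.mp hc1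
      exact Subgroup.le_centralizer_iff.mp this
    exact le_trans e1 (le_inf e2 e3)
  · rw [eq_bot_iff, ← hc2]
    exact Subgroup.commutator_mono (Subgroup.commutator_mono le_rfl hzg) hzg

/-- The basic dichotomy of the K-infinity theory. -/
theorem kinf_dichotomy {S T A : Subgroup G} [hTn : T.Normal] [hAn : A.Normal]
    (hTS : T ≤ S) (hAT : A ≤ T)
    (hA2 : ⁅A, A⁆ ≤ Subgroup.centralizer (A : Set G))
    (hA3 : ⁅T, A⁆ ≤ A ⊓ Subgroup.centralizer (A : Set G))
    (hK : ¬ (⨆ n, kEvenIn S n).Normal ∨ ¬ (⨅ n, kOddIn S n).Normal) :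
    ∃ g : G, g ∈ S ∧ g ∉ T ∧
      ⁅⁅A ⊓ Subgroup.centralizer (A : Set G), Subgroup.zpowers g⁆, Subgroup.zpowers g⁆ = ⊥ ∧
      (⁅⁅A, Subgroup.zpowers g⁆, Subgroup.zpowers g⁆ ≤ A ⊓ Subgroup.centralizer (A : Set G) ∨
        (Cfsg.iterCommutator A (Subgroup.zpowers g) 3 = ⊥ ∧
          ∃ (n : ℕ) (B : Subgroup G), B ≤ S ∧ B ∈ Cfsg.kLowerStarFamily (kOddIn S n) ∧
            A ≤ kOddIn S n ∧ g ∈ B)) := by
  by_cases hAl : A ∈ Cfsg.kLowerStarFamily S
  swap
  · obtain ⟨g, h1, h2, h3, h4⟩ := kcase_notlower hA2 hA3 hAl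
    exact ⟨g, h1, h2, h4, Or.inl h3⟩
  have hAS : A ≤ S := le_trans hAT hTS
  have hAE0 : A ≤ kEvenIn S 0 := le_sSup ⟨hAS, hAl⟩
  have hAE : ∀ n, A ≤ kEvenIn S n := fun n => le_trans hAE0 (kEvenIn_monotone S (Nat.zero_le n))
  by_cases hev : ∃ n, ¬ kEvenIn S n ≤ T
  · -- even case
    classical
    have hmin : ∀ m, m < Nat.find hev → ¬ ¬ kEvenIn S m ≤ T := fun m hm => Nat.find_min hev hm
    have hn := Nat.find_spec hev
    set n := Nat.find hev with hndef
    have hAO : A ≤ kOddIn S n := by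
      rcases Nat.eq_zero_or_pos n with h0 | hpos
      · rw [h0]; exact hAS
      · obtain ⟨m, hm⟩ : ∃ m, n = m + 1 := ⟨n - 1, by omega⟩
        have hmT : kEvenIn S m ≤ T := not_not.mp (hmin m (by omega))
        rw [hm]
        apply le_sSup
        refine ⟨hAS, hA2, ?_⟩
        refine le_trans (Subgroup.commutator_mono le_rfl hmT) ?_
        rw [Subgroup.commutator_comm]; exact hA3
    have hexB : ∃ B, B ≤ S ∧ B ∈ Cfsg.kLowerStarFamily (kOddIn S n) ∧ ¬ B ≤ T := by
      by_contra hne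
      push Not at hne
      apply hn
      apply sSup_le
      rintro B ⟨hBS, hB⟩
      exact hne B hBS hB
    obtain ⟨B, hBS, hB, hBT⟩ := hexB
    obtain ⟨g, h1, h2, h3, h4, h5⟩ := kcase_even hA3 hAO hB hBT hBS
    exact ⟨g, h1, h2, h5, Or.inr ⟨h4, n, B, hBS, hB, hAO, h3⟩⟩
  · push Not at hev
    by_cases hod : ∃ n, ¬ kOddIn S (n + 1) ≤ T
    · obtain ⟨n, hn⟩ := hod
      have h1 : ¬ kOddIn S 1 ≤ T := fun h =>
        hn (le_trans (kOddIn_antitone S (by omega : 1 ≤ n + 1)) h)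
      have hexB : ∃ B, B ≤ S ∧ B ∈ Cfsg.kUpperStarFamily (kEvenIn S 0) ∧ ¬ B ≤ T := by
        by_contra hne
        push Not at hne
        apply h1
        apply sSup_le
        rintro B ⟨hBS, hB⟩
        exact hne B hBS hB
      obtain ⟨B, hBS, hB, hBT⟩ := hexB
      obtain ⟨g, hg1, hg2, hg3⟩ := kcase_odd (S := S) (T := T) hAE0 hB hBT hBS
      refine ⟨g, hg1, hg2, ?_, Or.inl (by rw [hg3]; exact bot_le)⟩
      rw [eq_bot_iff, ← hg3]
      exact Subgroup.commutator_mono (Subgroup.commutator_mono inf_le_left le_rfl) le_rfl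
    · push Not at hod
      exfalso
      have hQ : ∀ n : ℕ, kEvenIn S n ≤ T ∧ kOddIn S (n + 1) ≤ T := fun n => ⟨hev n, hod n⟩
      rcases hK with hK | hK
      · apply hK
        rw [← kIn_iSup_eq S T hTS hQ]
        exact kEvenIn_iSup_normal T
      · apply hK
        rw [← kIn_iInf_eq S T hTS hQ]
        exact kOddIn_iInf_normal T

end main

end Cfsg.Agent.helper10
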