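import Mathlib
import Cfsg.Statements.S0093
import Cfsg.Agent.Lib_helper10_PGroup
import Cfsg.Agent.Lib_helper1_ElemAb

set_option autoImplicit false
open Cfsg

namespace Cfsg.Agent.S0093

open scoped commutatorElement

variable {P : Type*} [Group P]

theorem comm_mul_eq (x y g : P) : ⁅x * y, g⁆ = x * ⁅y, g⁆ * x⁻¹ * ⁅x, g⁆ := by
  simp only [commutatorElement_def]; group

theorem comm_inv_eq (x g : P) : ⁅x⁻¹, g⁆ = x⁻¹ * (⁅x, g⁆)⁻¹ * x := by
  simp only [commutatorElement_def]; group

theorem comm_pow_mem (M : Subgroup P) [hM : M.Normal] (x : P) (hx : ∀ g, ⁅x, g⁆ ∈ M) (n : ℕ) :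
    ∀ g, ⁅x ^ n, g⁆ ∈ M := by
  induction n with
  | zero => intro g; simp [commutatorElement_def]
  | succ n ih =>
    intro g
    rw [pow_succ, comm_mul_eq]
    exact M.mul_mem (hM.conj_mem _ (hx g) _) (ih g)

/-- The subgroup `{x ∈ C_P(M) | x^p ∈ M, [x, P] ≤ M}`. -/
def critH (p : ℕ) (M : Subgroup P) [hM : M.Normal] : Subgroup P where
  carrier := {x | x ∈ Subgroup.centralizer (M : Set P) ∧ x ^ p ∈ M ∧ ∀ g, ⁅x, g⁆ ∈ M}
  one_mem' := ⟨one_mem _, by simp, by intro g; simp [commutatorElement_def]⟩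
  mul_mem' := by
    rintro x y ⟨hx1, hx2, hx3⟩ ⟨hy1, hy2, hy3⟩
    refine ⟨mul_mem hx1 hy1, ?_, ?_⟩
    · have hx2' : ((x : P ⧸ M)) ^ p = 1 := by
        rw [← QuotientGroup.mk_pow]; exact (QuotientGroup.eq_one_iff _).mpr hx2
      have hy2' : ((y : P ⧸ M)) ^ p = 1 := by
        rw [← QuotientGroup.mk_pow]; exact (QuotientGroup.eq_one_iff _).mpr hy2
      have hc : Commute (x : P ⧸ M) (y : P ⧸ M) := by
        have h1 : ((⁅x, y⁆ : P) : P ⧸ M) = 1 := (QuotientGroup.eq_one_iff _).mpr (hx3 y)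
        rw [commutatorElement_def] at h1
        simp only [QuotientGroup.mk_mul, QuotientGroup.mk_inv] at h1
        have h2 : (x : P ⧸ M) * (y : P ⧸ M) = (y : P ⧸ M) * (x : P ⧸ M) := by
          calc (x : P ⧸ M) * (y : P ⧸ M)
              = ((x : P ⧸ M) * (y : P ⧸ M) * (x : P ⧸ M)⁻¹ * (y : P ⧸ M)⁻¹) * ((y : P ⧸ M) * (x : P ⧸ M)) := by group
            _ = (y : P ⧸ M) * (x : P ⧸ M) := by rw [h1, one_mul]
        exact h2
      apply (QuotientGroup.eq_one_iff _).mp
      rw [QuotientGroup.mk_pow, QuotientGroup.mk_mul, hc.mul_pow, hx2', hy2', one_mul]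
    · intro g
      rw [comm_mul_eq]
      exact M.mul_mem (hM.conj_mem _ (hy3 g) _) (hx3 g)
  inv_mem' := by
    rintro x ⟨hx1, hx2, hx3⟩
    refine ⟨inv_mem hx1, by rw [inv_pow]; exact inv_mem hx2, ?_⟩
    intro g
    rw [comm_inv_eq]
    have := hM.conj_mem _ (M.inv_mem (hx3 g)) x⁻¹
    simpa using this

theorem mem_critH {p : ℕ} {M : Subgroup P} [hM : M.Normal] {x : P} :
    x ∈ critH p M ↔ x ∈ Subgroup.centralizer (M : Set P) ∧ x ^ p ∈ M ∧ ∀ g, ⁅x, g⁆ ∈ M :=
  Iff.rfl

theorem critH_characteristic (p : ℕ) (M : Subgroup P) [hM : M.Characteristic] :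
    (critH p M).Characteristic := by
  rw [Subgroup.characteristic_iff_map_le]
  intro φ
  rintro _ ⟨x, ⟨hx1, hx2, hx3⟩, rfl⟩
  have hMφ : ∀ y ∈ M, φ y ∈ M := by
    intro y hy
    have := (Subgroup.characteristic_iff_map_le.mp hM) φ
    exact this ⟨y, hy, rfl⟩
  have hCφ : ∀ y ∈ Subgroup.centralizer (M : Set P), φ y ∈ Subgroup.centralizer (M : Set P) := by
    intro y hy
    have := (Subgroup.characteristic_iff_map_le.mp
      (Subgroup.characteristic_centralizer (H := M))) φ
    exact this ⟨y, hy, rfl⟩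
  refine ⟨hCφ x hx1, ?_, ?_⟩
  · have : (φ.toMonoidHom x) ^ p = φ (x ^ p) := by simp
    rw [this]; exact hMφ _ hx2
  · intro g
    have : ⁅φ.toMonoidHom x, g⁆ = φ ⁅x, φ.symm g⁆ := by
      simp [commutatorElement_def]
    rw [this]; exact hMφ _ (hx3 _)

/-- Every finite p-group has a critical subgroup: a characteristic subgroup H whose Frattini subgroup and whose commutator with the whole group lie in the centre of H, and whose centralizer is contained in H. -/
theorem result {P : Type*} [Group P] [Finite P] {p : ℕ} [Fact p.Prime] (hP : IsPGroup p P) : ∃ H : Subgroup P, H.Characteristic ∧ (frattini H).map H.subtype ≤ Subgroup.centralizer (H : Set P) ∧ ⁅H, (⊤ : Subgroup P)⁆ ≤ H ⊓ Subgroup.centralizer (H : Set P) ∧ Subgroup.centralizer (H : Set P) ≤ H := by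
  have hp : p.Prime := Fact.out
  -- a maximal characteristic abelian subgroup
  let s : Set (Subgroup P) := {M | M.Characteristic ∧ ∀ a ∈ M, ∀ b ∈ M, a * b = b * a}
  have hsne : s.Nonempty := ⟨⊥, Subgroup.botCharacteristic, by
    intro a ha b hb
    rw [Subgroup.mem_bot] at ha hb
    rw [ha, hb]⟩
  obtain ⟨M, ⟨hMc, hMab⟩, hMmax⟩ := (Set.toFinite s).exists_maximal hsne
  haveI := hMc
  have hMC : M ≤ Subgroup.centralizer (M : Set P) := by
    intro x hx
    rw [Subgroup.mem_centralizer_iff]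
    intro y hy
    exact hMab y hy x hx
  set H := critH p M with hH
  haveI hHc : H.Characteristic := critH_characteristic p M
  have hMH : M ≤ H := by
    intro x hx
    refine ⟨hMC hx, M.pow_mem hx p, ?_⟩
    intro g
    have h1 : g * x⁻¹ * g⁻¹ ∈ M := Subgroup.Normal.conj_mem inferInstance _ (M.inv_mem hx) g
    have : ⁅x, g⁆ = x * (g * x⁻¹ * g⁻¹) := by rw [commutatorElement_def]; group
    rw [this]; exact M.mul_mem hx h1
  have hHcM : H ≤ Subgroup.centralizer (M : Set P) := fun x hx => hx.1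
  have hMcH : M ≤ Subgroup.centralizer (H : Set P) := by
    intro x hx
    rw [Subgroup.mem_centralizer_iff]
    intro y hy
    have := hHcM hy
    rw [Subgroup.mem_centralizer_iff] at this
    exact (this x hx).symm
  -- centre of H is M
  have hZ : H ⊓ Subgroup.centralizer (H : Set P) = M := by
    have hZs : (H ⊓ Subgroup.centralizer (H : Set P)) ∈ s := by
      refine ⟨inferInstance, ?_⟩
      intro a ha b hb
      have := (Subgroup.mem_inf.mp hb).2
      rw [Subgroup.mem_centralizer_iff] at this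
      exact (this a (Subgroup.mem_inf.mp ha).1)
    have hle : M ≤ H ⊓ Subgroup.centralizer (H : Set P) := le_inf hMH hMcH
    exact le_antisymm (hMmax hZs hle) hle
  refine ⟨H, hHc, ?_, ?_, ?_⟩
  · -- Frattini
    have hfr : frattini H ≤ M.subgroupOf H := by
      haveI : (M.subgroupOf H).Normal := inferInstance
      apply Cfsg.Agent.helper1.frattini_le_of_elemAb_quot (p := p)
      · rw [commutator_def, Subgroup.commutator_le]
        intro x _ y _
        rw [Subgroup.mem_subgroupOf]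
        have := x.2.2.2 (y : P)
        have h2 : ((⁅x, y⁆ : H) : P) = ⁅(x : P), (y : P)⁆ := by
          simp [commutatorElement_def]
        rw [h2]
        exact this
      · intro x
        rw [Subgroup.mem_subgroupOf]
        have := x.2.2.1
        simpa using this
    intro y hy
    obtain ⟨x, hx, rfl⟩ := hy
    have := hfr hx
    rw [Subgroup.mem_subgroupOf] at this
    exact hMcH this
  · rw [Subgroup.commutator_le]
    intro x hx g _
    rw [hZ]
    exact hx.2.2 g
  · -- centralizer H ≤ H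
    by_contra hQ
    haveI : Group.IsNilpotent P := hP.isNilpotent
    obtain ⟨x, hxQ, hxH, hxc⟩ := Cfsg.Agent.helper10.exists_mem_not_mem_comm_mem
      (Subgroup.centralizer (H : Set P)) ⊤ H (by
        rw [Subgroup.normalizer_eq_top]) hQ
    -- [x, g] ∈ H ∩ C(H) = M
    have hxcM : ∀ g, ⁅x, g⁆ ∈ M := by
      intro g
      rw [← hZ]
      refine Subgroup.mem_inf.mpr ⟨hxc g (Subgroup.mem_top g), ?_⟩
      have h1 : g * x⁻¹ * g⁻¹ ∈ Subgroup.centralizer (H : Set P) :=
        Subgroup.Normal.conj_mem inferInstance _ (Subgroup.inv_mem _ hxQ) g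
      have : ⁅x, g⁆ = x * (g * x⁻¹ * g⁻¹) := by rw [commutatorElement_def]; group
      rw [this]; exact Subgroup.mul_mem _ hxQ h1
    -- find the right power of x
    classical
    have hex : ∃ k : ℕ, x ^ p ^ k ∈ H := by
      obtain ⟨k, hk⟩ := hP x
      exact ⟨k, by rw [hk]; exact H.one_mem⟩
    have hk0 : Nat.find hex ≠ 0 := by
      intro h0
      have := Nat.find_spec hex
      rw [h0, pow_zero, pow_one] at this
      exact hxH this
    obtain ⟨k, hk⟩ := Nat.exists_eq_succ_of_ne_zero hk0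
    have hk1 : x ^ p ^ (k + 1) ∈ H := by
      have := Nat.find_spec hex
      rwa [hk] at this
    have hk2 : x ^ p ^ k ∉ H := Nat.find_min hex (by omega)
    apply hk2
    have hQk : x ^ p ^ k ∈ Subgroup.centralizer (H : Set P) := Subgroup.pow_mem _ hxQ _
    have hQk1 : x ^ p ^ (k + 1) ∈ Subgroup.centralizer (H : Set P) := Subgroup.pow_mem _ hxQ _
    refine ⟨?_, ?_, comm_pow_mem M x hxcM _⟩
    · exact Subgroup.centralizer_le (by exact_mod_cast hMH) hQk
    · rw [← pow_mul, ← pow_succ, ← hZ]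
      exact Subgroup.mem_inf.mpr ⟨hk1, hQk1⟩

end Cfsg.Agent.S0093
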