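import Mathlib
import Cfsg.Agent.S0093
import Cfsg.Agent.Lib_helper1_Core
import Cfsg.Agent.Lib_helper10_KInf2
import Cfsg.Agent.Lib_helper10_KInf3

/-!
K-infinity theory, part 4: existence of a critical subgroup of a normal `p`-subgroup, and the
"quartic element" theorem.
-/

set_option autoImplicit false

namespace Cfsg.Agent.helper10

open Cfsg
open scoped commutatorElement

universe u

section critical

variable {G : Type u} [Group G] [Finite G] {p : ℕ} [hp : Fact p.Prime]

/-- A critical subgroup of a normal `p`-subgroup `T` of `G`, in the form used by the K-infinity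
statements. -/
theorem exists_critical_in (T : Subgroup G) [hTn : T.Normal] (hT : IsPGroup p ↥T) :
    ∃ A : Subgroup G, A ≤ T ∧ A.Normal ∧ (A.subgroupOf T).Characteristic ∧
      ⁅A, A⁆ ≤ Subgroup.centralizer ((A : Subgroup G) : Set G) ∧
      ⁅T, A⁆ ≤ A ⊓ Subgroup.centralizer ((A : Subgroup G) : Set G) ∧
      T ⊓ Subgroup.centralizer ((A : Subgroup G) : Set G) =
        A ⊓ Subgroup.centralizer ((A : Subgroup G) : Set G) ∧
      ∃ H : Subgroup ↥T, A = H.map T.subtype ∧ H.Characteristic ∧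
        (frattini H).map H.subtype ≤ Subgroup.centralizer (H : Set ↥T) ∧
        ⁅H, (⊤ : Subgroup ↥T)⁆ ≤ H ⊓ Subgroup.centralizer (H : Set ↥T) ∧
        Subgroup.centralizer (H : Set ↥T) ≤ H := by
  obtain ⟨H, hHc, hH1, hH2, hH3⟩ := Cfsg.Agent.S0093.result hT
  have hinj := Subgroup.subtype_injective T
  have hAT : H.map T.subtype ≤ T := by
    rintro _ ⟨x, -, rfl⟩; exact x.2
  have hAn : (H.map T.subtype).Normal := by
    haveI := hHc
    exact ConjAct.normal_of_characteristic_of_normal
  have hsub : (H.map T.subtype).subgroupOf T = H :=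
    Subgroup.comap_map_eq_self_of_injective hinj H
  have htop : (⊤ : Subgroup ↥T).map T.subtype = T := by
    rw [← MonoidHom.range_eq_map, Subgroup.range_subtype]
  have hA3 : ⁅H.map T.subtype, T⁆ ≤
      H.map T.subtype ⊓ Subgroup.centralizer ((H.map T.subtype : Subgroup G) : Set G) := by
    have := Subgroup.map_mono (f := T.subtype) hH2
    rw [Subgroup.map_commutator, htop, kmap_inf_centralizer hinj] at this
    exact this
  refine ⟨H.map T.subtype, hAT, hAn, by rw [hsub]; exact hHc, ?_, ?_, ?_, H, rfl, hHc, hH1, hH2, hH3⟩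
  · exact le_trans (Subgroup.commutator_mono le_rfl hAT) (le_trans hA3 inf_le_right)
  · rw [Subgroup.commutator_comm]; exact hA3
  · apply le_antisymm
    · intro x hx
      obtain ⟨hxT, hxC⟩ := Subgroup.mem_inf.mp hx
      refine Subgroup.mem_inf.mpr ⟨?_, hxC⟩
      have h1 : (⟨x, hxT⟩ : ↥T) ∈ Subgroup.centralizer (H : Set ↥T) := by
        rw [Subgroup.mem_centralizer_iff]
        intro h hh
        apply Subtype.ext
        exact Subgroup.mem_centralizer_iff.mp hxC (h : G) ⟨h, hh, rfl⟩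
      exact ⟨⟨x, hxT⟩, hH3 h1, rfl⟩
    · exact inf_le_inf_right _ hAT

end critical

section quartic

variable {G : Type u} [Group G] [Finite G] {p : ℕ} [hp : Fact p.Prime]

/-- The first two parts of the K-infinity structure theorem, for a given "critical" normal
subgroup `A` of `T = O_p(G)`. -/
theorem kinf_element (S : Sylow p G) (A : Subgroup G) [hAn : A.Normal]
    (hAT : A ≤ Cfsg.pCore p G)
    (hA2 : ⁅A, A⁆ ≤ Subgroup.centralizer ((A : Subgroup G) : Set G))
    (hA3 : ⁅Cfsg.pCore p G, A⁆ ≤ A ⊓ Subgroup.centralizer ((A : Subgroup G) : Set G))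
    (hK : ¬ (Cfsg.inducedFunctor Cfsg.kInfLower (S : Subgroup G)).Normal ∨
      ¬ (Cfsg.inducedFunctor Cfsg.kInfUpper (S : Subgroup G)).Normal) :
    ∃ g : G, g ∈ (S : Subgroup G) ∧ g ∉ Cfsg.pCore p G ∧
      ⁅⁅A ⊓ Subgroup.centralizer ((A : Subgroup G) : Set G), Subgroup.zpowers g⁆,
        Subgroup.zpowers g⁆ = ⊥ ∧
      (⁅⁅A, Subgroup.zpowers g⁆, Subgroup.zpowers g⁆ ≤
          A ⊓ Subgroup.centralizer ((A : Subgroup G) : Set G) ∨
        (Cfsg.iterCommutator A (Subgroup.zpowers g) 3 = ⊥ ∧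
          ∃ (n : ℕ) (B : Subgroup G), B ≤ (S : Subgroup G) ∧
            B ∈ Cfsg.kLowerStarFamily (kOddIn (S : Subgroup G) n) ∧
            A ≤ kOddIn (S : Subgroup G) n ∧ g ∈ B)) := by
  haveI := Cfsg.Agent.helper1.pCore_normal (G := G) p
  have hTS : Cfsg.pCore p G ≤ (S : Subgroup G) := Cfsg.Agent.helper1.pCore_le_sylow S
  have hK' : ¬ (⨆ n, kEvenIn (S : Subgroup G) n).Normal ∨
      ¬ (⨅ n, kOddIn (S : Subgroup G) n).Normal := by
    rw [← inducedFunctor_kInfLower, ← inducedFunctor_kInfUpper]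
    exact hK
  exact kinf_dichotomy hTS hAT hA2 hA3 hK'

/-- Cubic action on the chief factors inside `A`. -/
theorem kinf_cubic (A : Subgroup G) [hAn : A.Normal] (g : G)
    (hZ : ⁅⁅A ⊓ Subgroup.centralizer ((A : Subgroup G) : Set G), Subgroup.zpowers g⁆,
        Subgroup.zpowers g⁆ = ⊥)
    (hA : ⁅⁅A, Subgroup.zpowers g⁆, Subgroup.zpowers g⁆ ≤
          A ⊓ Subgroup.centralizer ((A : Subgroup G) : Set G) ∨
        Cfsg.iterCommutator A (Subgroup.zpowers g) 3 ≤
          A ⊓ Subgroup.centralizer ((A : Subgroup G) : Set G)) :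
    ∀ U V : Subgroup G, Cfsg.IsChiefFactor U V → U ≤ A →
      Cfsg.iterCommutator U (Subgroup.zpowers g) 3 ≤ V := by
  intro U V hUV hUA
  have hUn : U.Normal := hUV.2.1
  have hVn : V.Normal := hUV.2.2.1
  set Z := A ⊓ Subgroup.centralizer ((A : Subgroup G) : Set G) with hZdef
  haveI hZn : Z.Normal := inferInstance
  have hZ2 : Cfsg.iterCommutator Z (Subgroup.zpowers g) 2 = ⊥ := hZ
  -- a general step: if `iter U k ≤ Z` then `iter U (k + 2) ≤ V`... we use the chief factor trick
  have key : ∀ k, Cfsg.iterCommutator U (Subgroup.zpowers g) k ≤ Z →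
      Cfsg.iterCommutator U (Subgroup.zpowers g) k ≤ V ∨
      Cfsg.iterCommutator U (Subgroup.zpowers g) 2 ≤ V := by
    intro k hk
    by_cases hc : U ⊓ Z ≤ V
    · left
      exact le_trans (le_inf (iter_le_self U _ k) hk) hc
    · right
      have hgen : (U ⊓ Z) ⊔ V = U := by
        rcases hUV.2.2.2 ((U ⊓ Z) ⊔ V) inferInstance le_sup_right
          (sup_le inf_le_left hUV.1.le) with h | h
        · exact absurd (le_trans le_sup_left h.le) hc
        · exact h
      rw [← hgen]
      refine le_trans (iter_sup_le _ V _ 2) (sup_le ?_ le_rfl)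
      refine le_trans (iter_mono_left inf_le_right _ 2) ?_
      rw [hZ2]; exact bot_le
  rcases hA with hA | hA
  · have h2 : Cfsg.iterCommutator U (Subgroup.zpowers g) 2 ≤ Z :=
      le_trans (iter_mono_left hUA _ 2) hA
    rcases key 2 h2 with h | h
    · exact iter_le_of_normal h (by omega)
    · exact iter_le_of_normal h (by omega)
  · have h3 : Cfsg.iterCommutator U (Subgroup.zpowers g) 3 ≤ Z :=
      le_trans (iter_mono_left hUA _ 3) hA
    rcases key 3 h3 with h | h
    · exact h
    · exact iter_le_of_normal h (by omega)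

/-- The quartic element theorem: the first two conclusions of the structure theorem. -/
theorem kinf_quartic (S : Sylow p G)
    (hK : ¬ (Cfsg.inducedFunctor Cfsg.kInfLower (S : Subgroup G)).Normal ∨
      ¬ (Cfsg.inducedFunctor Cfsg.kInfUpper (S : Subgroup G)).Normal) :
    ∃ g : G, g ∈ (S : Subgroup G) ∧ g ∉ Cfsg.pCore p G ∧
      (∀ U V : Subgroup G, Cfsg.IsChiefFactor U V → U ≤ Cfsg.pCore p G →
        Cfsg.iterCommutator U (Subgroup.zpowers g) 4 ≤ V) ∧
      ⁅⁅(Cfsg.pCore p G ⊓ Subgroup.centralizer ((Cfsg.pCore p G : Subgroup G) : Set G)),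
        Subgroup.zpowers g⁆, Subgroup.zpowers g⁆ = ⊥ := by
  haveI hTn := Cfsg.Agent.helper1.pCore_normal (G := G) p
  have hTp : IsPGroup p ↥(Cfsg.pCore p G) := Cfsg.Agent.helper1.pCore_isPGroup p
  obtain ⟨A, hAT, hAn, -, hA2, hA3, hA4, -⟩ := exists_critical_in (Cfsg.pCore p G) hTp
  haveI := hAn
  obtain ⟨g, hgS, hgT, hZ, hA⟩ := kinf_element S A hAT hA2 hA3 hK
  refine ⟨g, hgS, hgT, ?_, ?_⟩
  · have hcub := kinf_cubic A g hZ (by
      rcases hA with h | ⟨h, -⟩
      · exact Or.inl h
      · exact Or.inr (by rw [h]; exact bot_le))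
    have hZj : ∀ U V : Subgroup G, Cfsg.IsChiefFactor U V →
        U ≤ A ⊓ Subgroup.centralizer ((A : Subgroup G) : Set G) →
        Cfsg.iterCommutator U (Subgroup.zpowers g) 2 ≤ V := by
      intro U V _ hU
      refine le_trans (iter_mono_left hU _ 2) ?_
      have : Cfsg.iterCommutator (A ⊓ Subgroup.centralizer ((A : Subgroup G) : Set G))
          (Subgroup.zpowers g) 2 = ⊥ := hZ
      rw [this]; exact bot_le
    exact critical_bound (Cfsg.pCore p G) hTp A hAT hA3 hA4 g 3 2 (by omega) (by omega) hcub hZj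
  · rw [eq_bot_iff, ← hZ]
    refine Subgroup.commutator_mono (Subgroup.commutator_mono ?_ le_rfl) le_rfl
    rw [← hA4]
    exact inf_le_inf_left _ (Subgroup.centralizer_le (by exact_mod_cast hAT))

end quartic

end Cfsg.Agent.helper10
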