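import Mathlib
import Cfsg.Agent.Lib_helper10_PS1
import Cfsg.Agent.Lib_helper10_KInf4

/-!
K-infinity theory under `p`-stability: in a constrained group all of whose sections are
`p`-stable (normalizer form), the K-infinity subgroups of a Sylow `p`-subgroup are normal.
-/

set_option autoImplicit false

namespace Cfsg.Agent.helper10

open Cfsg
open scoped commutatorElement

universe u

section centsub

variable {X : Type*} [Group X]

/-- The elements of `A` whose commutators with `A` lie in the central subgroup `V`. -/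
def centSub (A V : Subgroup X) (hV : V ≤ Subgroup.centralizer (A : Set X)) : Subgroup X where
  carrier := {a | a ∈ A ∧ ∀ c ∈ A, ⁅a, c⁆ ∈ V}
  one_mem' := ⟨A.one_mem, fun c _ => by rw [commutatorElement_one_left]; exact V.one_mem⟩
  mul_mem' := by
    rintro a b ⟨ha, hac⟩ ⟨hb, hbc⟩
    refine ⟨A.mul_mem ha hb, fun c hc => ?_⟩
    rw [kcomm_mul_left]
    have h1 : a * ⁅b, c⁆ * a⁻¹ = ⁅b, c⁆ := by
      have := Subgroup.mem_centralizer_iff.mp (hV (hbc c hc)) a ha
      rw [this]; group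
    rw [h1]; exact V.mul_mem (hbc c hc) (hac c hc)
  inv_mem' := by
    rintro a ⟨ha, hac⟩
    refine ⟨A.inv_mem ha, fun c hc => ?_⟩
    rw [kcomm_inv_left]
    have := Subgroup.mem_centralizer_iff.mp (hV (V.inv_mem (hac c hc))) a⁻¹ (A.inv_mem ha)
    rw [this]
    simpa using V.inv_mem (hac c hc)

theorem mem_centSub {A V : Subgroup X} {hV : V ≤ Subgroup.centralizer (A : Set X)} {a : X} :
    a ∈ centSub A V hV ↔ a ∈ A ∧ ∀ c ∈ A, ⁅a, c⁆ ∈ V := Iff.rfl

theorem centSub_le (A V : Subgroup X) (hV : V ≤ Subgroup.centralizer (A : Set X)) :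
    centSub A V hV ≤ A := fun _ h => h.1

theorem centSub_commutator_le (A V : Subgroup X) (hV : V ≤ Subgroup.centralizer (A : Set X)) :
    ⁅centSub A V hV, A⁆ ≤ V := by
  rw [Subgroup.commutator_le]
  intro a ha c hc
  exact ha.2 c hc

theorem center_le_centSub (A V : Subgroup X) (hV : V ≤ Subgroup.centralizer (A : Set X)) :
    A ⊓ Subgroup.centralizer (A : Set X) ≤ centSub A V hV := by
  intro z hz
  refine ⟨hz.1, fun c hc => ?_⟩
  have := Subgroup.mem_centralizer_iff.mp hz.2 c hc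
  rw [commutatorElement_def]
  have e : z * c * z⁻¹ * c⁻¹ = 1 := by rw [← this]; group
  rw [e]; exact V.one_mem

theorem centSub_conj_mem {A V : Subgroup X} [hA : A.Normal]
    {hV : V ≤ Subgroup.centralizer (A : Set X)} {x : X}
    (hxV : ∀ v ∈ V, x * v * x⁻¹ ∈ V) {a : X} (ha : a ∈ centSub A V hV) :
    x * a * x⁻¹ ∈ centSub A V hV := by
  refine ⟨hA.conj_mem a ha.1 x, fun c hc => ?_⟩
  have hc' : x⁻¹ * c * x ∈ A := by
    have := hA.conj_mem c hc x⁻¹
    rwa [inv_inv] at this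
  have e : ⁅x * a * x⁻¹, c⁆ = x * ⁅a, x⁻¹ * c * x⁆ * x⁻¹ := by
    rw [kconj_comm]; congr 1; group
  rw [e]
  exact hxV _ (ha.2 _ hc')

end centsub

section stable

variable {X : Type u} [Group X] [Finite X] {p : ℕ} [hp : Fact p.Prime]

/-- Quadratic action on a normal `p`-subgroup with `p`-group centralizer forces membership in
`O_p`, in a `p`-stable group. -/
theorem mem_pCore_of_quadratic_normal (hX : Cfsg.IsNormalizerPStable p X) (A : Subgroup X)
    [hAn : A.Normal] (hA : IsPGroup p ↥A)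
    (hCA : IsPGroup p ↥(Subgroup.centralizer (A : Set X))) (g : X)
    (hq : ⁅⁅A, Subgroup.zpowers g⁆, Subgroup.zpowers g⁆ = ⊥) : g ∈ Cfsg.pCore p X := by
  have hN : ∀ x : X, x ∈ Subgroup.normalizer (A : Set X) := fun x => by
    rw [Subgroup.normalizer_eq_top]; trivial
  have hg : g ∈ psRad p A := mem_psRad_of_stable hX hA (hN g) hq
  have hOn : (psRad p A).Normal := ⟨fun x hx n => psRad_conj_mem (hN n) hx⟩
  have hOp : IsPGroup p ↥(psRad p A) := by
    apply isPGroup_of_coprime_trivial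
    intro y hy hc
    exact eq_one_of_isPGroup_of_coprime hCA (mem_centralizer_of_mem_psRad_coprime hy hc) hc
  exact Cfsg.Agent.helper1.le_pCore hOn hOp hg

/-- The chain lemma: quadratic action on `A₀` and on `A/A₀` puts `g` into a `p`-subgroup that is
normal in `N(A₀)`. -/
theorem ps_chain (hX : PSt p X) (A A₀ : Subgroup X) [hAn : A.Normal]
    (hA₀p : IsPGroup p ↥A₀) (hAp : IsPGroup p ↥A)
    (hCA : IsPGroup p ↥(Subgroup.centralizer (A : Set X)))
    (hAn₀ : A ≤ Subgroup.normalizer (A₀ : Set X))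
    (g : X) (hg : g ∈ Subgroup.normalizer (A₀ : Set X))
    (h1 : ⁅⁅A₀, Subgroup.zpowers g⁆, Subgroup.zpowers g⁆ = ⊥)
    (h2 : ⁅⁅A, Subgroup.zpowers g⁆, Subgroup.zpowers g⁆ ≤ A₀) :
    ∃ O : Subgroup X, g ∈ O ∧ IsPGroup p ↥O ∧ O ≤ Subgroup.normalizer (A₀ : Set X) ∧
      ∀ n ∈ Subgroup.normalizer (A₀ : Set X), ∀ x ∈ O, n * x * n⁻¹ ∈ O := by
  haveI hA₀n : (A₀.subgroupOf (Subgroup.normalizer (A₀ : Set X))).Normal :=
    Subgroup.normal_in_normalizer
  have hHh : Cfsg.IsNormalizerPStable p (↥(Subgroup.normalizer (A₀ : Set X)) ⧸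
      A₀.subgroupOf (Subgroup.normalizer (A₀ : Set X))) :=
    pst_top (pst_quotient _ (pst_subgroup (Subgroup.normalizer (A₀ : Set X)) hX))
  have hPhn : ((A.subgroupOf (Subgroup.normalizer (A₀ : Set X))).map
      (QuotientGroup.mk' (A₀.subgroupOf (Subgroup.normalizer (A₀ : Set X))))).Normal :=
    Subgroup.Normal.map Subgroup.normal_subgroupOf _ (QuotientGroup.mk'_surjective _)
  have hPhp : IsPGroup p ↥((A.subgroupOf (Subgroup.normalizer (A₀ : Set X))).map
      (QuotientGroup.mk' (A₀.subgroupOf (Subgroup.normalizer (A₀ : Set X))))) :=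
    (hAp.comap_subtype).map _
  have hqh : ⁅⁅(A.subgroupOf (Subgroup.normalizer (A₀ : Set X))).map
      (QuotientGroup.mk' (A₀.subgroupOf (Subgroup.normalizer (A₀ : Set X)))),
      Subgroup.zpowers (QuotientGroup.mk' (A₀.subgroupOf (Subgroup.normalizer (A₀ : Set X)))
        ⟨g, hg⟩)⁆,
      Subgroup.zpowers (QuotientGroup.mk' (A₀.subgroupOf (Subgroup.normalizer (A₀ : Set X)))
        ⟨g, hg⟩)⁆ = ⊥ := by
    rw [← MonoidHom.map_zpowers, ← Subgroup.map_commutator, ← Subgroup.map_commutator, eq_bot_iff,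
      Subgroup.map_le_iff_le_comap, MonoidHom.comap_bot, QuotientGroup.ker_mk']
    intro x hx
    rw [Subgroup.mem_subgroupOf]
    apply h2
    have hle : (⁅⁅A.subgroupOf (Subgroup.normalizer (A₀ : Set X)),
        Subgroup.zpowers (⟨g, hg⟩ : ↥(Subgroup.normalizer (A₀ : Set X)))⁆,
        Subgroup.zpowers (⟨g, hg⟩ : ↥(Subgroup.normalizer (A₀ : Set X)))⁆).map
          (Subgroup.normalizer (A₀ : Set X)).subtype ≤
        ⁅⁅A, Subgroup.zpowers g⁆, Subgroup.zpowers g⁆ := by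
      rw [Subgroup.map_commutator, Subgroup.map_commutator, MonoidHom.map_zpowers]
      refine Subgroup.commutator_mono (Subgroup.commutator_mono ?_ le_rfl) le_rfl
      rintro _ ⟨y, hy, rfl⟩
      exact hy
    exact hle ⟨x, hx, rfl⟩
  have hPhN : ∀ n : (↥(Subgroup.normalizer (A₀ : Set X)) ⧸
      A₀.subgroupOf (Subgroup.normalizer (A₀ : Set X))),
      n ∈ Subgroup.normalizer ((((A.subgroupOf (Subgroup.normalizer (A₀ : Set X))).map
      (QuotientGroup.mk' (A₀.subgroupOf (Subgroup.normalizer (A₀ : Set X))))) : Subgroup _) :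
        Set _) := fun n => by
    rw [Subgroup.normalizer_eq_top_iff.mpr hPhn]; trivial
  have hgh := mem_psRad_of_stable hHh hPhp (hPhN _) hqh
  have hX' : Cfsg.IsNormalizerPStable p X := pst_top hX
  have hg1 : g ∈ psRad p A₀ := mem_psRad_of_stable hX' hA₀p hg h1
  refine ⟨psRad p A₀ ⊓ ((psRad p ((A.subgroupOf (Subgroup.normalizer (A₀ : Set X))).map
      (QuotientGroup.mk' (A₀.subgroupOf (Subgroup.normalizer (A₀ : Set X)))))).comap
      (QuotientGroup.mk' (A₀.subgroupOf (Subgroup.normalizer (A₀ : Set X))))).map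
      (Subgroup.normalizer (A₀ : Set X)).subtype,
    ⟨hg1, ⟨⟨g, hg⟩, hgh, rfl⟩⟩, ?_, le_trans inf_le_left (psRad_le_normalizer p A₀), ?_⟩
  · apply isPGroup_of_coprime_trivial
    rintro y ⟨hy1, hy2⟩ hc
    have hyC0 : y ∈ Subgroup.centralizer (A₀ : Set X) :=
      mem_centralizer_of_mem_psRad_coprime hy1 hc
    obtain ⟨y', hy', rfl⟩ := hy2
    have hy'' : QuotientGroup.mk' (A₀.subgroupOf (Subgroup.normalizer (A₀ : Set X))) y' ∈
        psRad p ((A.subgroupOf (Subgroup.normalizer (A₀ : Set X))).map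
      (QuotientGroup.mk' (A₀.subgroupOf (Subgroup.normalizer (A₀ : Set X))))) := hy'
    have hc' : (orderOf (QuotientGroup.mk' (A₀.subgroupOf (Subgroup.normalizer (A₀ : Set X)))
        y')).Coprime p := by
      refine Nat.Coprime.coprime_dvd_left ?_ hc
      have := orderOf_map_dvd (QuotientGroup.mk' (A₀.subgroupOf
        (Subgroup.normalizer (A₀ : Set X)))) y'
      rwa [← Subgroup.orderOf_coe] at this
    have hyCh := mem_centralizer_of_mem_psRad_coprime hy'' hc'
    have hyA : ((Subgroup.normalizer (A₀ : Set X)).subtype y' : X) ∈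
        Subgroup.centralizer (A : Set X) := by
      apply coprime_centralizes_chain A₀ A hA₀p _ hc hyC0
      intro a ha
      have haH : a ∈ Subgroup.normalizer (A₀ : Set X) := hAn₀ ha
      have hah : QuotientGroup.mk' (A₀.subgroupOf (Subgroup.normalizer (A₀ : Set X))) ⟨a, haH⟩ ∈
          (A.subgroupOf (Subgroup.normalizer (A₀ : Set X))).map
            (QuotientGroup.mk' (A₀.subgroupOf (Subgroup.normalizer (A₀ : Set X)))) :=
        ⟨⟨a, haH⟩, Subgroup.mem_subgroupOf.mpr ha, rfl⟩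
      have hcomm := Subgroup.mem_centralizer_iff.mp hyCh _ hah
      have h3 : QuotientGroup.mk' (A₀.subgroupOf (Subgroup.normalizer (A₀ : Set X)))
          (y' * ⟨a, haH⟩ * y'⁻¹ * ⟨a, haH⟩⁻¹) = 1 := by
        simp only [map_mul, map_inv]
        rw [← hcomm]; group
      have h4 := (QuotientGroup.eq_one_iff _).mp h3
      rw [Subgroup.mem_subgroupOf] at h4
      simpa using h4
    exact eq_one_of_isPGroup_of_coprime hCA hyA hc
  · rintro n hn x ⟨hx1, hx2⟩
    refine ⟨psRad_conj_mem hn hx1, ?_⟩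
    obtain ⟨x', hx', rfl⟩ := hx2
    refine ⟨⟨n, hn⟩ * x' * ⟨n, hn⟩⁻¹, ?_, rfl⟩
    apply Subgroup.mem_comap.mpr
    rw [map_mul, map_mul, map_inv]
    exact psRad_conj_mem (hPhN _) hx'

theorem conj_mem_inf_centralizer {B : Subgroup X} {c : X}
    (hc : c ∈ Subgroup.normalizer (B : Set X)) {z : X}
    (hz : z ∈ B ⊓ Subgroup.centralizer (B : Set X)) :
    c * z * c⁻¹ ∈ B ⊓ Subgroup.centralizer (B : Set X) := by
  refine Subgroup.mem_inf.mpr ⟨(Subgroup.mem_normalizer_iff.mp hc z).mp hz.1, ?_⟩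
  rw [Subgroup.mem_centralizer_iff]
  intro b hb
  have hb' : c⁻¹ * b * c ∈ B := by
    have := (Subgroup.mem_normalizer_iff.mp (Subgroup.inv_mem _ hc) b).mp hb
    rwa [inv_inv] at this
  have h1 := Subgroup.mem_centralizer_iff.mp hz.2 _ hb'
  calc b * (c * z * c⁻¹) = c * ((c⁻¹ * b * c) * z) * c⁻¹ := by group
    _ = c * (z * (c⁻¹ * b * c)) * c⁻¹ := by rw [h1]
    _ = c * z * c⁻¹ * b := by group

theorem zpowers_quadratic_of_le {A B Z : Subgroup X} (hAB : ⁅A, B⁆ ≤ Z)
    (hZB : Z ≤ Subgroup.centralizer (B : Set X)) {g : X} (hg : g ∈ B) :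
    ⁅⁅A, Subgroup.zpowers g⁆, Subgroup.zpowers g⁆ = ⊥ := by
  have hzg : Subgroup.zpowers g ≤ B := by rw [Subgroup.zpowers_le]; exact hg
  rw [eq_bot_iff]
  have h1 : ⁅⁅A, B⁆, B⁆ = ⊥ :=
    Subgroup.commutator_eq_bot_iff_le_centralizer.mpr (le_trans hAB hZB)
  rw [← h1]
  exact Subgroup.commutator_mono (Subgroup.commutator_mono le_rfl hzg) hzg

/-- The even case: a member of a lower-star family relative to a subgroup containing the critical
subgroup `A` lies in `O_p(X)` when all sections of `X` are `p`-stable. -/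
theorem ps_even (hX : PSt p X) (A : Subgroup X) [hAn : A.Normal]
    (hAT : A ≤ Cfsg.pCore p X)
    (hA2 : ⁅A, A⁆ ≤ Subgroup.centralizer (A : Set X))
    (hA3 : ⁅Cfsg.pCore p X, A⁆ ≤ A ⊓ Subgroup.centralizer (A : Set X))
    (hCA : IsPGroup p ↥(Subgroup.centralizer (A : Set X)))
    (Q B : Subgroup X) (hAQ : A ≤ Q) (hB : B ∈ Cfsg.kLowerStarFamily Q) (hBp : IsPGroup p ↥B) :
    B ≤ Cfsg.pCore p X := by
  haveI hTn : (Cfsg.pCore p X).Normal := Cfsg.Agent.helper1.pCore_normal p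
  have hTp : IsPGroup p ↥(Cfsg.pCore p X) := Cfsg.Agent.helper1.pCore_isPGroup p
  have hAp : IsPGroup p ↥A := hTp.to_le hAT
  have hX' : Cfsg.IsNormalizerPStable p X := pst_top hX
  obtain ⟨hB2, hQB, hBtest⟩ := hB
  have hAB : A ≤ Subgroup.normalizer (B : Set X) := le_trans hAQ hQB
  have hABB : ⁅A, B⁆ ≤ B := commutator_le_of_le_normalizer hAB
  have hABA : ⁅A, B⁆ ≤ A := Subgroup.commutator_le_left A B
  have hZBc : B ⊓ Subgroup.centralizer (B : Set X) ≤ Subgroup.centralizer (B : Set X) :=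
    inf_le_right
  -- Step 1: Z(B) ≤ T
  have hZBT : B ⊓ Subgroup.centralizer (B : Set X) ≤ Cfsg.pCore p X := by
    intro z hz
    apply mem_pCore_of_quadratic_normal hX' A hAp hCA z
    have hzg : Subgroup.zpowers z ≤ B ⊓ Subgroup.centralizer (B : Set X) := by
      rw [Subgroup.zpowers_le]; exact hz
    rw [eq_bot_iff]
    have h1 : ⁅B, B ⊓ Subgroup.centralizer (B : Set X)⁆ = ⊥ := by
      rw [Subgroup.commutator_comm]
      exact Subgroup.commutator_eq_bot_iff_le_centralizer.mpr inf_le_right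
    rw [← h1]
    exact Subgroup.commutator_mono
      (le_trans (Subgroup.commutator_mono le_rfl (le_trans hzg inf_le_left)) hABB) hzg
  -- the subgroups U and U_B
  have hUA : ⁅A, A⁆ ≤ A := Subgroup.commutator_le_left A A
  have hUB : ⁅A, A⁆ ⊓ Subgroup.centralizer (B : Set X) ≤ Subgroup.centralizer (A : Set X) :=
    le_trans inf_le_left hA2
  have hAsA : centSub A (⁅A, A⁆ ⊓ Subgroup.centralizer (B : Set X)) hUB ≤ A := centSub_le _ _ _
  have hAsp : IsPGroup p ↥(centSub A (⁅A, A⁆ ⊓ Subgroup.centralizer (B : Set X)) hUB) :=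
    hAp.to_le hAsA
  have hAs' : ⁅centSub A (⁅A, A⁆ ⊓ Subgroup.centralizer (B : Set X)) hUB,
      centSub A (⁅A, A⁆ ⊓ Subgroup.centralizer (B : Set X)) hUB⁆ ≤
      ⁅A, A⁆ ⊓ Subgroup.centralizer (B : Set X) :=
    le_trans (Subgroup.commutator_mono le_rfl hAsA) (centSub_commutator_le _ _ _)
  have hcA_le : Subgroup.centralizer (A : Set X) ≤ Subgroup.centralizer
      ((centSub A (⁅A, A⁆ ⊓ Subgroup.centralizer (B : Set X)) hUB : Subgroup X) : Set X) :=
    Subgroup.centralizer_le (by exact_mod_cast hAsA)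
  -- B normalizes A*
  have hBfix : ∀ b ∈ B, ∀ v ∈ ⁅A, A⁆ ⊓ Subgroup.centralizer (B : Set X),
      b * v * b⁻¹ ∈ ⁅A, A⁆ ⊓ Subgroup.centralizer (B : Set X) := by
    intro b hb v hv
    have := Subgroup.mem_centralizer_iff.mp hv.2 b hb
    have e : b * v * b⁻¹ = v := by rw [this]; group
    rw [e]; exact hv
  have hBAs : B ≤ Subgroup.normalizer
      ((centSub A (⁅A, A⁆ ⊓ Subgroup.centralizer (B : Set X)) hUB : Subgroup X) : Set X) :=
    le_normalizer_of_conj_mem fun b hb a ha => centSub_conj_mem (hBfix b hb) ha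
  -- Step 2: B acts quadratically on A*
  have hBAsZ : ⁅B, centSub A (⁅A, A⁆ ⊓ Subgroup.centralizer (B : Set X)) hUB⁆ ≤
      B ⊓ Subgroup.centralizer (B : Set X) := by
    have hAscl : centSub A (⁅A, A⁆ ⊓ Subgroup.centralizer (B : Set X)) hUB ∈
        Cfsg.classTwoSubgroups X := le_trans hAs' (le_trans hUB hcA_le)
    apply hBtest _ hAscl (le_trans hAsA hAQ) hBAs
    · rw [Subgroup.commutator_eq_bot_iff_le_centralizer]
      exact Subgroup.le_centralizer_iff.mp (le_trans hAs' inf_le_right)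
    · rw [Subgroup.commutator_eq_bot_iff_le_centralizer]
      have h5 : ⁅B ⊓ Subgroup.centralizer (B : Set X),
          centSub A (⁅A, A⁆ ⊓ Subgroup.centralizer (B : Set X)) hUB⁆ ≤
          A ⊓ Subgroup.centralizer (A : Set X) :=
        le_trans (Subgroup.commutator_mono hZBT hAsA) hA3
      exact le_trans h5 (le_trans inf_le_right hcA_le)
  -- Step 3: [A,B,B] ≤ A*
  have hE : (B ⊓ Subgroup.centralizer (B : Set X)) ⊓ A ≤
      centSub A (⁅A, A⁆ ⊓ Subgroup.centralizer (B : Set X)) hUB := by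
    intro e he
    refine ⟨he.2, fun c hc => ⟨Subgroup.commutator_mem_commutator he.2 hc, ?_⟩⟩
    have h1 : c * e⁻¹ * c⁻¹ ∈ B ⊓ Subgroup.centralizer (B : Set X) :=
      conj_mem_inf_centralizer (hAB hc) (Subgroup.inv_mem _ he.1)
    have e1 : ⁅e, c⁆ = e * (c * e⁻¹ * c⁻¹) := by rw [commutatorElement_def]; group
    rw [e1]
    exact Subgroup.mul_mem _ he.1.2 h1.2
  have hABBE : ⁅⁅A, B⁆, B⁆ ≤ (B ⊓ Subgroup.centralizer (B : Set X)) ⊓ A := by
    refine le_inf (le_inf ?_ ?_) ?_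
    · exact le_trans (Subgroup.commutator_mono hABB le_rfl)
        (commutator_le_of_le_normalizer Subgroup.le_normalizer)
    · exact le_trans (Subgroup.commutator_mono hABB le_rfl) hB2
    · exact le_trans (Subgroup.commutator_mono hABA le_rfl) (Subgroup.commutator_le_left A B)
  intro g hgB
  have hzg : Subgroup.zpowers g ≤ B := by rw [Subgroup.zpowers_le]; exact hgB
  have hgq1 : ⁅⁅centSub A (⁅A, A⁆ ⊓ Subgroup.centralizer (B : Set X)) hUB, Subgroup.zpowers g⁆,
      Subgroup.zpowers g⁆ = ⊥ := by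
    apply zpowers_quadratic_of_le (Z := B ⊓ Subgroup.centralizer (B : Set X)) _ inf_le_right hgB
    rw [Subgroup.commutator_comm]; exact hBAsZ
  have hgq2 : ⁅⁅A, Subgroup.zpowers g⁆, Subgroup.zpowers g⁆ ≤
      centSub A (⁅A, A⁆ ⊓ Subgroup.centralizer (B : Set X)) hUB :=
    le_trans (Subgroup.commutator_mono (Subgroup.commutator_mono le_rfl hzg) hzg)
      (le_trans hABBE hE)
  have hAnAs : A ≤ Subgroup.normalizer
      ((centSub A (⁅A, A⁆ ⊓ Subgroup.centralizer (B : Set X)) hUB : Subgroup X) : Set X) := by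
    apply le_normalizer_of_conj_mem
    intro a ha x hx
    apply centSub_conj_mem _ hx
    intro v hv
    have := Subgroup.mem_centralizer_iff.mp (hUB hv) a ha
    have e : a * v * a⁻¹ = v := by rw [this]; group
    rw [e]; exact hv
  obtain ⟨O, hgO, hOp, hOH, hOc⟩ := ps_chain hX A
    (centSub A (⁅A, A⁆ ⊓ Subgroup.centralizer (B : Set X)) hUB) hAsp hAp hCA hAnAs g
    (hBAs hgB) hgq1 hgq2
  -- Step 4/5: N₀ = C_X(U)
  haveI hUn : (⁅A, A⁆ : Subgroup X).Normal := inferInstance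
  haveI hN₀n : (Subgroup.centralizer ((⁅A, A⁆ : Subgroup X) : Set X)).Normal := inferInstance
  have hN₀H : Subgroup.centralizer ((⁅A, A⁆ : Subgroup X) : Set X) ≤ Subgroup.normalizer
      ((centSub A (⁅A, A⁆ ⊓ Subgroup.centralizer (B : Set X)) hUB : Subgroup X) : Set X) := by
    apply le_normalizer_of_conj_mem
    intro n hn x hx
    apply centSub_conj_mem _ hx
    intro v hv
    have := Subgroup.mem_centralizer_iff.mp hn v hv.1
    have e : n * v * n⁻¹ = v := by rw [← this]; group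
    rw [e]; exact hv
  have hcomm : ∀ n ∈ Subgroup.centralizer ((⁅A, A⁆ : Subgroup X) : Set X),
      ⁅g, n⁆ ∈ Cfsg.pCore p X := by
    intro n hn
    have h1 : ⁅g, n⁆ ∈ O := by
      have e : ⁅g, n⁆ = g * (n * g⁻¹ * n⁻¹) := by rw [commutatorElement_def]; group
      rw [e]
      exact O.mul_mem hgO (hOc n (hN₀H hn) _ (O.inv_mem hgO))
    have h2 : ⁅g, n⁆ ∈ Subgroup.centralizer ((⁅A, A⁆ : Subgroup X) : Set X) := by
      have e : ⁅g, n⁆ = (g * n * g⁻¹) * n⁻¹ := by rw [commutatorElement_def]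
      rw [e]
      exact Subgroup.mul_mem _ (hN₀n.conj_mem n hn g) (Subgroup.inv_mem _ hn)
    have h3 : O ⊓ Subgroup.centralizer ((⁅A, A⁆ : Subgroup X) : Set X) ≤ Cfsg.pCore p X := by
      apply le_pCore_of_normal_in_normal (Subgroup.centralizer ((⁅A, A⁆ : Subgroup X) : Set X))
        _ inf_le_right (hOp.to_le inf_le_left)
      intro m hm y hy
      exact ⟨hOc m (hN₀H hm) y hy.1, hN₀n.conj_mem y hy.2 m⟩
    exact h3 ⟨h1, h2⟩
  -- Step 6
  have hUp : IsPGroup p ↥(⁅A, A⁆ : Subgroup X) := hAp.to_le hUA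
  have hUab : (⁅A, A⁆ : Subgroup X) ≤ Subgroup.centralizer ((⁅A, A⁆ : Subgroup X) : Set X) :=
    le_trans hA2 (Subgroup.centralizer_le (by exact_mod_cast hUA))
  have hUU : ⁅(⁅A, A⁆ : Subgroup X), ⁅A, A⁆⁆ = ⊥ :=
    Subgroup.commutator_eq_bot_iff_le_centralizer.mpr hUab
  have hBUZ : ⁅B, ⁅A, A⁆⁆ ≤ B ⊓ Subgroup.centralizer (B : Set X) := by
    apply hBtest _ (abelian_classTwo hUab) (le_trans hUA hAQ)
    · rw [Subgroup.normalizer_eq_top]; exact le_top
    · rw [hUU]; exact Subgroup.commutator_bot_right B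
    · rw [eq_bot_iff, ← hUU]
      exact Subgroup.commutator_mono (Subgroup.commutator_le_right _ _) le_rfl
  have hgqU : ⁅⁅(⁅A, A⁆ : Subgroup X), Subgroup.zpowers g⁆, Subgroup.zpowers g⁆ = ⊥ := by
    apply zpowers_quadratic_of_le (Z := B ⊓ Subgroup.centralizer (B : Set X)) _ inf_le_right hgB
    rw [Subgroup.commutator_comm]; exact hBUZ
  have hNU : ∀ x : X, x ∈ Subgroup.normalizer ((⁅A, A⁆ : Subgroup X) : Set X) := fun x => by
    rw [Subgroup.normalizer_eq_top]; trivial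
  have hgP₁ : g ∈ psRad p (⁅A, A⁆ : Subgroup X) := mem_psRad_of_stable hX' hUp (hNU g) hgqU
  haveI hP₁n : (psRad p (⁅A, A⁆ : Subgroup X)).Normal :=
    ⟨fun x hx n => psRad_conj_mem (hNU n) hx⟩
  have hTP : Cfsg.pCore p X ≤ psRad p (⁅A, A⁆ : Subgroup X) := by
    intro t ht
    apply mem_psRad_of_subgroup (Cfsg.pCore p X) (fun x _ => hNU x)
      (fun n _ x hx => hTn.conj_mem x hx n) _ ht
    intro x hx
    obtain ⟨k, hk⟩ := hTp ⟨x, hx⟩
    refine ⟨k, ?_⟩
    have : x ^ (p ^ k) = 1 := by simpa using congrArg Subtype.val hk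
    rw [this]; exact Subgroup.one_mem _
  obtain ⟨k, hk⟩ := hBp ⟨g, hgB⟩
  have hgp : ∃ k : ℕ, g ^ (p ^ k) = 1 := ⟨k, by simpa using congrArg Subtype.val hk⟩
  exact mem_pCore_of_comm_le (Subgroup.centralizer ((⁅A, A⁆ : Subgroup X) : Set X))
    (psRad p (⁅A, A⁆ : Subgroup X)) hTP
    (fun x hx => exists_pow_mem_centralizer_of_mem_psRad hx) g hgP₁ hgp hcomm

/-- The centralizer of a self-centralizing normal subgroup `A` of `T = O_p(X)` is a `p`-group in a
constrained group. -/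
theorem centralizer_isPGroup_of_critical
    (hcon : Subgroup.centralizer ((Cfsg.pCore p X : Subgroup X) : Set X) ≤ Cfsg.pCore p X)
    (A : Subgroup X) [hAn : A.Normal] (hAT : A ≤ Cfsg.pCore p X)
    (hA4 : Cfsg.pCore p X ⊓ Subgroup.centralizer (A : Set X) =
      A ⊓ Subgroup.centralizer (A : Set X)) :
    IsPGroup p ↥(Subgroup.centralizer (A : Set X)) := by
  haveI hTn : (Cfsg.pCore p X).Normal := Cfsg.Agent.helper1.pCore_normal p
  have hTp : IsPGroup p ↥(Cfsg.pCore p X) := Cfsg.Agent.helper1.pCore_isPGroup p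
  apply isPGroup_of_coprime_trivial
  intro y hy hc
  have hyT : y ∈ Subgroup.centralizer ((Cfsg.pCore p X : Subgroup X) : Set X) := by
    apply coprime_centralizes_chain (A ⊓ Subgroup.centralizer (A : Set X)) (Cfsg.pCore p X)
      (hTp.to_le (le_trans inf_le_left hAT)) y hc
    · exact Subgroup.centralizer_le (by exact_mod_cast (inf_le_left :
        A ⊓ Subgroup.centralizer (A : Set X) ≤ A)) hy
    · intro t ht
      rw [← hA4]
      refine Subgroup.mem_inf.mpr ⟨?_, ?_⟩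
      · have e : y * t * y⁻¹ * t⁻¹ = (y * t * y⁻¹) * t⁻¹ := rfl
        rw [e]
        exact Subgroup.mul_mem _ (hTn.conj_mem t ht y) (Subgroup.inv_mem _ ht)
      · rw [Subgroup.mem_centralizer_iff]
        intro a ha
        have ha₁ : t⁻¹ * a * t ∈ A := by
          have := hAn.conj_mem a ha t⁻¹
          rwa [inv_inv] at this
        have h1 : (t⁻¹ * a * t) * y = y * (t⁻¹ * a * t) :=
          Subgroup.mem_centralizer_iff.mp hy _ ha₁
        have h2 : a * y = y * a := Subgroup.mem_centralizer_iff.mp hy _ ha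
        have h1' : y⁻¹ * (t⁻¹ * a * t) = (t⁻¹ * a * t) * y⁻¹ := by
          rw [eq_mul_inv_iff_mul_eq, mul_assoc, h1, ← mul_assoc, inv_mul_cancel, one_mul]
        calc a * (y * t * y⁻¹ * t⁻¹) = (a * y) * t * y⁻¹ * t⁻¹ := by group
          _ = (y * a) * t * y⁻¹ * t⁻¹ := by rw [h2]
          _ = y * t * ((t⁻¹ * a * t) * y⁻¹) * t⁻¹ := by group
          _ = y * t * (y⁻¹ * (t⁻¹ * a * t)) * t⁻¹ := by rw [h1']
          _ = y * t * y⁻¹ * t⁻¹ * a := by group
  exact eq_one_of_isPGroup_of_coprime hTp (hcon hyT) hc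

/-- **Normality of the K-infinity subgroups** in a constrained group all of whose sections are
`p`-stable in the normalizer form. -/
theorem kinf_normal_of_pst (hps : PSt p X)
    (hcon : Subgroup.centralizer ((Cfsg.pCore p X : Subgroup X) : Set X) ≤ Cfsg.pCore p X)
    (S : Sylow p X) :
    (Cfsg.inducedFunctor Cfsg.kInfLower (S : Subgroup X)).Normal ∧
      (Cfsg.inducedFunctor Cfsg.kInfUpper (S : Subgroup X)).Normal := by
  by_contra hne
  have hK : ¬ (Cfsg.inducedFunctor Cfsg.kInfLower (S : Subgroup X)).Normal ∨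
      ¬ (Cfsg.inducedFunctor Cfsg.kInfUpper (S : Subgroup X)).Normal := not_and_or.mp hne
  haveI hTn : (Cfsg.pCore p X).Normal := Cfsg.Agent.helper1.pCore_normal p
  have hTp : IsPGroup p ↥(Cfsg.pCore p X) := Cfsg.Agent.helper1.pCore_isPGroup p
  obtain ⟨A, hAT, hAn, -, hA2, hA3, hA4, -⟩ := exists_critical_in (Cfsg.pCore p X) hTp
  haveI := hAn
  have hAp : IsPGroup p ↥A := hTp.to_le hAT
  have hCA := centralizer_isPGroup_of_critical hcon A hAT hA4
  have hTS : Cfsg.pCore p X ≤ (S : Subgroup X) := Cfsg.Agent.helper1.pCore_le_sylow S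
  have hK' : ¬ (⨆ n, kEvenIn (S : Subgroup X) n).Normal ∨
      ¬ (⨅ n, kOddIn (S : Subgroup X) n).Normal := by
    rw [← inducedFunctor_kInfLower, ← inducedFunctor_kInfUpper]
    exact hK
  obtain ⟨g, hgS, hgT, hZ, h | ⟨-, n, B, hBS, hB, hAO, hgB⟩⟩ :=
    kinf_dichotomy hTS hAT hA2 hA3 hK'
  · apply hgT
    have hNZ : ∀ x : X, x ∈ Subgroup.normalizer
        ((A ⊓ Subgroup.centralizer (A : Set X) : Subgroup X) : Set X) := fun x => by
      rw [Subgroup.normalizer_eq_top]; trivial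
    obtain ⟨O, hgO, hOp, -, hOc⟩ := ps_chain hps A (A ⊓ Subgroup.centralizer (A : Set X))
      (hAp.to_le inf_le_left) hAp hCA (fun a _ => hNZ a) g (hNZ g) hZ h
    have hOn : O.Normal := ⟨fun x hx n => hOc n (hNZ n) x hx⟩
    exact Cfsg.Agent.helper1.le_pCore hOn hOp hgO
  · exact hgT (ps_even hps A hAT hA2 hA3 hCA _ B hAO hB (S.isPGroup'.to_le hBS) hgB)

end stable

end Cfsg.Agent.helper10
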