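import Mathlib
import Cfsg.Statements.S1959
import Cfsg.Agent.Lib_helper10_Reach

set_option autoImplicit false
open Cfsg

namespace Cfsg.Agent.S1959

open Cfsg.Agent.helper10

variable {G : Type*} [Group G]

local notation:max K "^[" g "]" => Subgroup.map (MulEquiv.toMonoidHom (MulAut.conj g)) K

/-- The statement `Q(R)`. -/
def QProp (p : ℕ) (S : Sylow p G) (𝓦 : Set (Subgroup G → Subgroup G)) (R : Subgroup G) : Prop :=
  ∀ W ∈ 𝓦, ∀ d ∈ Subgroup.normalizer ((W R : Subgroup G) : Set G), ∀ A : Set G,
    A ⊆ (R : Set G) → lconj d A ⊆ (R : Set G) →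
      Rel (Nglob 𝓦 ⊤ (S : Subgroup G)) ((S : Subgroup G) : Set G) A d

/-- The statement `M(T)`. -/
def MProp (p : ℕ) (S : Sylow p G) (𝓦 : Set (Subgroup G → Subgroup G)) (T : Subgroup G) : Prop :=
  ∀ g : G, lconj g (T : Set G) ⊆ ((S : Subgroup G) : Set G) →
    Rel (Nglob 𝓦 ⊤ (S : Subgroup G)) ((S : Subgroup G) : Set G) (T : Set G) g

theorem qprop_base {p : ℕ} (S : Sylow p G) (𝓦 : Set (Subgroup G → Subgroup G)) :
    QProp p S 𝓦 (S : Subgroup G) := by
  intro W hW d hd A hA hdA
  exact Rel.of_reach (Reach.single hA ⟨W, hW, Subgroup.mem_inf.mpr ⟨Subgroup.mem_top _, hd⟩⟩ hdA)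

/-- Local control for an extremal subgroup `U`, given `Q(N_S(U))`. -/
theorem key_local [Finite G] {p : ℕ} [Fact p.Prime] (S : Sylow p G)
    (𝓦 : Set (Subgroup G → Subgroup G)) (h𝓦 : ∀ W ∈ 𝓦, Cfsg.IsConjugacyFunctor p W)
    (hloc : ∀ T : Subgroup G, T ≤ (S : Subgroup G) → T ≠ ⊥ →
      ¬ p ∣ ((S : Subgroup G) ⊓ Subgroup.normalizer ((T : Subgroup G) : Set G)).relIndex
        (Subgroup.normalizer ((T : Subgroup G) : Set G)) →
      Cfsg.FamilyControlsStrongFusionIn p 𝓦 (Subgroup.normalizer ((T : Subgroup G) : Set G)))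
    (U : Subgroup G) (hUS : U ≤ (S : Subgroup G)) (hU1 : U ≠ ⊥)
    (hext : ¬ p ∣ ((S : Subgroup G) ⊓ Subgroup.normalizer ((U : Subgroup G) : Set G)).relIndex
        (Subgroup.normalizer ((U : Subgroup G) : Set G)))
    (hQ : QProp p S 𝓦 ((S : Subgroup G) ⊓ Subgroup.normalizer ((U : Subgroup G) : Set G)))
    (y : G) (hy : y ∈ Subgroup.normalizer ((U : Subgroup G) : Set G)) (A : Set G)
    (hA : A ⊆ (((S : Subgroup G) ⊓ Subgroup.normalizer ((U : Subgroup G) : Set G) : Subgroup G) : Set G))
    (hyA : lconj y A ⊆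
      (((S : Subgroup G) ⊓ Subgroup.normalizer ((U : Subgroup G) : Set G) : Subgroup G) : Set G)) :
    Rel (Nglob 𝓦 ⊤ (S : Subgroup G)) ((S : Subgroup G) : Set G) A y := by
  have hS : IsPGroup p (S : Subgroup G) := S.isPGroup'
  have hc := hloc U hUS hU1 hext
  obtain ⟨c, hcr, hag⟩ := family_control_transfer h𝓦 hc
    ((S : Subgroup G) ⊓ Subgroup.normalizer ((U : Subgroup G) : Set G)) inf_le_right
    (hS.to_le inf_le_left) hext A y hy hA hyA
  have h1 : Rel (Nglob 𝓦 ⊤ (S : Subgroup G)) ((S : Subgroup G) : Set G) A c := by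
    apply reach_local_to_global (Sl := (((S : Subgroup G) ⊓
      Subgroup.normalizer ((U : Subgroup G) : Set G) : Subgroup G) : Set G)) _ _ hcr
    · intro s hs; exact (Subgroup.mem_inf.mp hs).1
    · rintro d ⟨W, hW, hd⟩ B hB hdB
      exact hQ W hW d (Subgroup.mem_inf.mp hd).2 B hB hdB
  exact h1.congr hag

theorem main [Finite G] {p : ℕ} [Fact p.Prime] (S : Sylow p G)
    (𝓦 : Set (Subgroup G → Subgroup G)) (h𝓦 : ∀ W ∈ 𝓦, Cfsg.IsConjugacyFunctor p W)
    (hloc : ∀ T : Subgroup G, T ≤ (S : Subgroup G) → T ≠ ⊥ →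
      ¬ p ∣ ((S : Subgroup G) ⊓ Subgroup.normalizer ((T : Subgroup G) : Set G)).relIndex
        (Subgroup.normalizer ((T : Subgroup G) : Set G)) →
      Cfsg.FamilyControlsStrongFusionIn p 𝓦 (Subgroup.normalizer ((T : Subgroup G) : Set G))) :
    ∀ (m : ℕ) (T : Subgroup G), T ≤ (S : Subgroup G) →
      Nat.card (S : Subgroup G) - Nat.card T = m → MProp p S 𝓦 T ∧ QProp p S 𝓦 T := by
  have hS : IsPGroup p (S : Subgroup G) := S.isPGroup'
  intro m
  induction m using Nat.strong_induction_on with
  | _ m IH =>
    intro T hTS hm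
    have hTcard : Nat.card T ≤ Nat.card (S : Subgroup G) := Subgroup.card_le_of_le hTS
    -- available instances of Q and M
    have QS : ∀ R : Subgroup G, R ≤ (S : Subgroup G) →
        (R = (S : Subgroup G) ∨ Nat.card T < Nat.card R) → QProp p S 𝓦 R := by
      intro R hRS hR
      rcases hR with rfl | hR
      · exact qprop_base S 𝓦
      · have hRc : Nat.card R ≤ Nat.card (S : Subgroup G) := Subgroup.card_le_of_le hRS
        exact (IH (Nat.card (S : Subgroup G) - Nat.card R) (by omega) R hRS rfl).2
    have MV : ∀ V : Subgroup G, V ≤ (S : Subgroup G) → Nat.card T < Nat.card V →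
        MProp p S 𝓦 V := by
      intro V hVS hV
      have hVc : Nat.card V ≤ Nat.card (S : Subgroup G) := Subgroup.card_le_of_le hVS
      exact (IH (Nat.card (S : Subgroup G) - Nat.card V) (by omega) V hVS rfl).1
    -- Q for the `S`-normalizer of a subgroup at least as large as `T`
    have QNS : ∀ U : Subgroup G, U ≤ (S : Subgroup G) → Nat.card T ≤ Nat.card U →
        QProp p S 𝓦 ((S : Subgroup G) ⊓ Subgroup.normalizer ((U : Subgroup G) : Set G)) := by
      intro U hUS hU
      apply QS _ inf_le_left
      by_cases hUeq : U = (S : Subgroup G)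
      · left
        rw [hUeq]
        exact inf_eq_left.mpr Subgroup.le_normalizer
      · right
        have hlt : U < (S : Subgroup G) := lt_of_le_of_ne hUS hUeq
        have := card_lt_card_of_lt (lt_inf_normalizer_of_lt hS hlt)
        omega
    constructor
    · -- M(T)
      intro g hg
      have hkey : ∀ U ∈ {U : Subgroup G | U ≤ (S : Subgroup G) ∧
            (¬ p ∣ ((S : Subgroup G) ⊓ Subgroup.normalizer ((U : Subgroup G) : Set G)).relIndex
              (Subgroup.normalizer ((U : Subgroup G) : Set G))) ∧ Nat.card T ≤ Nat.card U},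
          ∀ x ∈ Subgroup.normalizer (U : Set G),
            Rel (Nglob 𝓦 ⊤ (S : Subgroup G)) ((S : Subgroup G) : Set G) (U : Set G) x := by
        rintro U ⟨hUS, hUext, hUc⟩ x hx
        by_cases hU1 : U = ⊥
        · apply Rel.bot (Subgroup.one_mem _)
          intro a ha
          rw [hU1] at ha
          exact Subgroup.mem_bot.mp ha
        · apply key_local S 𝓦 h𝓦 hloc U hUS hU1 hUext (QNS U hUS hUc) x hx
          · exact_mod_cast (le_inf hUS Subgroup.le_normalizer :
              U ≤ (S : Subgroup G) ⊓ Subgroup.normalizer ((U : Subgroup G) : Set G))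
          · rw [lconj_coe, (mem_normalizer_iff_map_conj U x).mp hx]
            exact_mod_cast (le_inf hUS Subgroup.le_normalizer :
              U ≤ (S : Subgroup G) ⊓ Subgroup.normalizer ((U : Subgroup G) : Set G))
      have hchain := alperin_chain S {U : Subgroup G | U ≤ (S : Subgroup G) ∧
            ¬ p ∣ ((S : Subgroup G) ⊓ Subgroup.normalizer ((U : Subgroup G) : Set G)).relIndex
              (Subgroup.normalizer ((U : Subgroup G) : Set G))}
        (fun U hU => hU.1) (fun T' hT' => by
          obtain ⟨g', hg'S, hg'ext⟩ := exists_extremal_conj S T' T' (hS.to_le hT')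
            Subgroup.le_normalizer
          exact ⟨_, ⟨hg'S, hg'ext⟩, ⟨g', rfl⟩, hg'ext⟩)
      have hg' : rconj (T : Set G) g⁻¹ ⊆ (S : Subgroup G) := by
        rw [← lconj_inv_eq_rconj, inv_inv]; exact hg
      obtain ⟨l, hl1, hl2, hl3⟩ := hchain _ T g⁻¹ rfl hTS hg'
      have hl2' : ∀ q ∈ l, q.1 ∈ {U : Subgroup G | U ≤ (S : Subgroup G) ∧
            (¬ p ∣ ((S : Subgroup G) ⊓ Subgroup.normalizer ((U : Subgroup G) : Set G)).relIndex
              (Subgroup.normalizer ((U : Subgroup G) : Set G))) ∧ Nat.card T ≤ Nat.card U} ∧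
          q.2 ∈ Subgroup.normalizer ((q.1 : Subgroup G) : Set G) := by
        intro q hq
        obtain ⟨⟨h1, h2⟩, h3⟩ := hl2 q hq
        refine ⟨⟨h1, h2, ?_⟩, h3⟩
        obtain ⟨x, hx⟩ := chainCond_conj_subset l _ hl3 q hq
        rw [rconj_coe, SetLike.coe_subset_coe] at hx
        have := Subgroup.card_le_of_le hx
        rwa [card_map_conj] at this
      have hrel := chain_rel (N := Nglob 𝓦 ⊤ (S : Subgroup G)) (S₀ := ((S : Subgroup G) : Set G))
        (fun U hU => by exact_mod_cast hU.1) hkey l (T : Set G) (by exact_mod_cast hTS) hl2' hl3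
      rw [hl1, inv_inv] at hrel
      exact hrel
    · -- Q(T)
      by_cases hTeq : T = (S : Subgroup G)
      · rw [hTeq]; exact qprop_base S 𝓦
      · intro W hW d hd A hA hdA
        have hTp : IsPGroup p T := hS.to_le hTS
        by_cases hT1 : T = ⊥
        · apply Rel.bot (Subgroup.one_mem _)
          intro a ha
          have := hA ha
          rw [hT1] at this
          exact Subgroup.mem_bot.mp this
        · have hWT := h𝓦 W hW T hTp
          have hT1' : W T ≠ ⊥ := hWT.2.1 hT1
          have hWTle : W T ≤ T := hWT.1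
          have hlt : T < (S : Subgroup G) := lt_of_le_of_ne hTS hTeq
          -- V = N_S(W T)
          have hNN : Subgroup.normalizer (T : Set G) ≤
              Subgroup.normalizer ((W T : Subgroup G) : Set G) := by
            intro g hg
            rw [mem_normalizer_iff_map_conj, ← hWT.2.2 g, (mem_normalizer_iff_map_conj T g).mp hg]
          obtain ⟨V, hVdef⟩ : ∃ V : Subgroup G,
              V = (S : Subgroup G) ⊓ Subgroup.normalizer ((W T : Subgroup G) : Set G) := ⟨_, rfl⟩
          have hVS : V ≤ (S : Subgroup G) := by rw [hVdef]; exact inf_le_left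
          have hVN : V ≤ Subgroup.normalizer ((W T : Subgroup G) : Set G) := by
            rw [hVdef]; exact inf_le_right
          have hTV' : (S : Subgroup G) ⊓ Subgroup.normalizer (T : Set G) ≤ V := by
            rw [hVdef]; exact inf_le_inf_left _ hNN
          have hTV : T ≤ V := le_trans (le_inf hTS Subgroup.le_normalizer) hTV'
          have hVcard : Nat.card T < Nat.card V := by
            have h1 := card_lt_card_of_lt (lt_inf_normalizer_of_lt hS hlt)
            have h2 := Subgroup.card_le_of_le hTV'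
            omega
          obtain ⟨g, hgS, hgext⟩ := exists_extremal_conj S (W T) V (hS.to_le hVS) hVN
          -- M(V)
          have hMV := MV V hVS hVcard g (by rw [lconj_coe]; exact_mod_cast hgS)
          have hAV : A ⊆ (V : Set G) := hA.trans (by exact_mod_cast hTV)
          have hdAV : lconj d A ⊆ (V : Set G) := hdA.trans (by exact_mod_cast hTV)
          have hRA : Rel (Nglob 𝓦 ⊤ (S : Subgroup G)) ((S : Subgroup G) : Set G) A g :=
            hMV.mono hAV
          have hRdA : Rel (Nglob 𝓦 ⊤ (S : Subgroup G)) ((S : Subgroup G) : Set G) (lconj d A) g :=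
            hMV.mono hdAV
          -- the extremal conjugate
          have hT1'S : (W T)^[g] ≤ (S : Subgroup G) :=
            le_trans (Subgroup.map_mono (le_trans hWTle hTV)) hgS
          have hT1'ne : (W T)^[g] ≠ ⊥ := by
            intro hbot
            apply hT1'
            exact (Subgroup.map_eq_bot_iff_of_injective _ (MulAut.conj g).injective).mp hbot
          have hVg : V^[g] ≤ (S : Subgroup G) ⊓
              Subgroup.normalizer ((((W T)^[g] : Subgroup G)) : Set G) := by
            refine le_inf hgS ?_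
            rw [normalizer_map_conj]
            exact Subgroup.map_mono hVN
          have hVgcard : Nat.card T ≤ Nat.card ((S : Subgroup G) ⊓
              Subgroup.normalizer ((((W T)^[g] : Subgroup G)) : Set G) : Subgroup G) := by
            have h1 := Subgroup.card_le_of_le hVg
            rw [card_map_conj] at h1
            omega
          have hQ2 : QProp p S 𝓦 ((S : Subgroup G) ⊓
              Subgroup.normalizer ((((W T)^[g] : Subgroup G)) : Set G)) := by
            apply QS _ inf_le_left
            right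
            have h1 := Subgroup.card_le_of_le hVg
            rw [card_map_conj] at h1
            omega
          have hd' : g * d * g⁻¹ ∈ Subgroup.normalizer ((((W T)^[g] : Subgroup G)) : Set G) := by
            rw [normalizer_map_conj]
            exact conj_mem_map_conj _ g d hd
          have hA' : lconj g A ⊆ (((S : Subgroup G) ⊓
              Subgroup.normalizer ((((W T)^[g] : Subgroup G)) : Set G) : Subgroup G) : Set G) := by
            calc lconj g A ⊆ lconj g (V : Set G) := lconj_mono hAV g
              _ = ((V^[g] : Subgroup G) : Set G) := lconj_coe g V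
              _ ⊆ _ := by exact_mod_cast hVg
          have hd'A' : lconj (g * d * g⁻¹) (lconj g A) ⊆ (((S : Subgroup G) ⊓
              Subgroup.normalizer ((((W T)^[g] : Subgroup G)) : Set G) : Subgroup G) : Set G) := by
            have e : g * d * g⁻¹ * g = g * d := by group
            rw [lconj_lconj, e, ← lconj_lconj]
            calc lconj g (lconj d A) ⊆ lconj g (V : Set G) := lconj_mono hdAV g
              _ = ((V^[g] : Subgroup G) : Set G) := lconj_coe g V
              _ ⊆ _ := by exact_mod_cast hVg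
          have hR2 := key_local S 𝓦 h𝓦 hloc ((W T)^[g]) hT1'S hT1'ne hgext hQ2 (g * d * g⁻¹) hd'
            (lconj g A) hA' hd'A'
          -- compose
          have hR3 := (hRdA.symm (Nglob_inv 𝓦 ⊤ (S : Subgroup G)))
          have e1 : lconj g (lconj d A) = lconj (g * d * g⁻¹) (lconj g A) := by
            have e : g * d * g⁻¹ * g = g * d := by group
            rw [lconj_lconj, lconj_lconj, e]
          rw [e1] at hR3
          have hR4 := (hRA.trans hR2).trans (by rw [← lconj_lconj]; exact hR3)
          have e2 : g⁻¹ * (g * d * g⁻¹ * g) = d := by group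
          rw [e2] at hR4
          exact hR4

theorem result {G : Type*} [Group G] [Finite G] {p : ℕ} [Fact p.Prime] (S : Sylow p G) (𝓦 : Set (Subgroup G → Subgroup G)) (h𝓦 : ∀ W ∈ 𝓦, Cfsg.IsConjugacyFunctor p W) (hloc : ∀ T : Subgroup G, T ≤ (S : Subgroup G) → T ≠ ⊥ → ¬ p ∣ ((S : Subgroup G) ⊓ Subgroup.normalizer ((T : Subgroup G) : Set G)).relIndex (Subgroup.normalizer ((T : Subgroup G) : Set G)) → Cfsg.FamilyControlsStrongFusionIn p 𝓦 (Subgroup.normalizer ((T : Subgroup G) : Set G))) : Cfsg.FamilyControlsStrongFusionIn p 𝓦 ⊤ := by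
  have hS : IsPGroup p (S : Subgroup G) := S.isPGroup'
  refine ⟨S, le_top, hS, by rw [Subgroup.relIndex_top_right]; exact S.not_dvd_index, ?_⟩
  intro A h _ hAS hAh
  have hcl : Subgroup.closure A ≤ (S : Subgroup G) := (Subgroup.closure_le _).mpr hAS
  have h2 : lconj h ((Subgroup.closure A : Subgroup G) : Set G) ⊆ ((S : Subgroup G) : Set G) := by
    rw [lconj_coe, SetLike.coe_subset_coe, MonoidHom.map_closure, Subgroup.closure_le]
    rintro _ ⟨a, ha, rfl⟩
    apply hAh
    exact ⟨a, ha, by simp [MulAut.conj_apply]⟩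
  obtain ⟨c, hc, hag⟩ := ((main S 𝓦 h𝓦 hloc _ _ hcl rfl).1 h h2).mono Subgroup.subset_closure
  obtain ⟨n, f, h0, hstep, hin, hlast⟩ := hc.toFin
  refine ⟨n, f, h0, ?_, ?_, ?_⟩
  · intro i; exact hstep i
  · intro i; exact hin i
  · intro a ha; rw [hlast]; exact hag a ha

end Cfsg.Agent.S1959
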