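import Mathlib
import Cfsg.Agent.Lib_helper10_Sec5
import Cfsg.Agent.S1959

set_option autoImplicit false

/-!
# Glauberman's section theorem: the main induction
-/

namespace Cfsg.Agent.helper10

universe u

section main

variable {p : ℕ} [hp : Fact p.Prime] {𝓦 : Set (∀ (Q : Type u) [Group Q], Subgroup Q)}

local notation:max K "^[" g "]" => Subgroup.map (MulEquiv.toMonoidHom (MulAut.conj g)) K

/-- Case B3: `O_{p'}(X) = 1`, `O_p(X) ≠ 1`, `X` not constrained. -/
theorem ctlAt_case_B3 {X : Type u} [Group X] [Finite X]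
    (h𝓦 : ∀ W ∈ 𝓦, Cfsg.IsCharPFunctor.{u} p W) (S : Sylow p X)
    (hsub : ∀ H : Subgroup X, H ≠ ⊤ → Ctl p 𝓦 H)
    (hquot : ∀ (N : Subgroup X) [N.Normal], N ≠ ⊥ → Ctl p 𝓦 (X ⧸ N))
    (hD : Cfsg.pPrimeCore p X = ⊥) (hP1 : Cfsg.pCore p X ≠ ⊥) (hnc : ¬ Constrained p X) :
    CtlAt 𝓦 X (S : Subgroup X) := by
  have hα := not_le_pCore_of_not_constrained S hD hnc
  obtain ⟨P, hPdef⟩ : ∃ P : Subgroup X, P = Cfsg.pCore p X := ⟨_, rfl⟩
  rw [← hPdef] at hα hP1
  haveI hPn : P.Normal := by rw [hPdef]; exact Cfsg.Agent.helper1.pCore_normal p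
  have hPS : P ≤ (S : Subgroup X) := by rw [hPdef]; exact Cfsg.Agent.helper1.pCore_le_sylow S
  have hSP : ¬ (S : Subgroup X) ≤ P := fun h => hα (inf_le_left.trans h)
  have hSp : IsPGroup p (S : Subgroup X) := S.isPGroup'
  intro A h hA hAh
  by_cases hSC : (S : Subgroup X) ⊔ Subgroup.centralizer (P : Set X) = ⊤
  · -- case (iii)
    obtain ⟨Q, hQ⟩ : ∃ Q : Subgroup X, Q = Subgroup.closure A ⊔ P := ⟨_, rfl⟩
    have hQS : Q ≤ (S : Subgroup X) := by
      rw [hQ]; exact sup_le ((Subgroup.closure_le _).2 hA) hPS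
    have hQh : lconj h (Q : Set X) ⊆ ((S : Subgroup X) : Set X) := by
      rw [lconj_coe, SetLike.coe_subset_coe, hQ, Subgroup.map_sup, MonoidHom.map_closure]
      refine sup_le ?_ ?_
      · rw [Subgroup.closure_le]
        rintro _ ⟨a, ha, rfl⟩
        exact hAh ⟨a, ha, by simp [MulAut.conj_apply]⟩
      · have h1 : P^[h] = P := (mem_normalizer_iff_map_conj P h).1
          (by rw [Subgroup.normalizer_eq_top]; exact Subgroup.mem_top h)
        rw [h1]; exact hPS
    have hmain := rel_of_sup_centralizer_eq_top h𝓦 S P hPdef hSP hsub (hquot P hP1) hSC _ Q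
      (by rw [hQ]; exact le_sup_right) hQS rfl h hQh
    exact hmain.mono (by
      intro a ha
      rw [hQ]
      exact Subgroup.mem_sup_left (Subgroup.subset_closure ha))
  · -- case (ii)
    obtain ⟨M, hM⟩ : ∃ M : Subgroup X, M = Subgroup.normalizer
        ((((S : Subgroup X) ⊓ (P ⊔ Subgroup.centralizer (P : Set X)) : Subgroup X)) : Set X) := ⟨_, rfl⟩
    have hMne : M ≠ ⊤ := by
      intro htop
      apply hα
      rw [hPdef]
      rw [hM] at htop
      exact le_pCore_of_normalizer_eq_top _ (hSp.to_le inf_le_left) (by rw [← hPdef]; exact htop)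
    have hSM : (S : Subgroup X) ≤ M := by
      rw [hM]; exact sylow_le_normalizer_inf _ _
    obtain ⟨m, hm, c, hc, hmc⟩ := exists_mul_normalizer_centralizer S P hPS h
    rw [← hM] at hm
    rw [hmc] at hAh
    obtain ⟨m', hm', c', hc', hmc', hc'A⟩ := exists_factor_sylow S
      ((S : Subgroup X) ⊔ Subgroup.centralizer (P : Set X)) M le_sup_left hSM m c hm
      (Subgroup.mem_sup_right hc) A hA hAh
    have hR1 := rel_of_ctl_subgroup h𝓦 S _ le_sup_left (hsub _ hSC) c' hc' A hA hc'A
    have hR2 := rel_of_ctl_subgroup h𝓦 S M hSM (hsub _ hMne) m' hm' (lconj c' A) hc'A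
      (by rw [lconj_lconj, ← hmc']; exact hAh)
    have := hR1.trans hR2
    rw [← hmc', ← hmc] at this
    exact this

end main

end Cfsg.Agent.helper10

namespace Cfsg.Agent.helper10

universe u

section main2

variable {p : ℕ} [hp : Fact p.Prime] {𝓦 : Set (∀ (Q : Type u) [Group Q], Subgroup Q)}

/-- Glauberman's section theorem, in inductive form. -/
theorem section_main (h𝓦 : ∀ W ∈ 𝓦, Cfsg.IsCharPFunctor.{u} p W) :
    ∀ (n : ℕ) (X : Type u) [Group X] [Finite X], Nat.card X = n → Hyp p 𝓦 X → Ctl p 𝓦 X := by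
  intro n
  induction n using Nat.strong_induction_on with
  | _ n IH =>
    intro X _ _ hn hX
    have hsub : ∀ H : Subgroup X, H ≠ ⊤ → Ctl p 𝓦 H := by
      intro H hH
      have hlt : Nat.card H < n := by
        rw [← hn]
        have h1 : H < ⊤ := lt_top_iff_ne_top.2 hH
        have h2 := card_lt_card_of_lt h1
        rwa [Subgroup.card_top] at h2
      exact IH _ hlt H rfl (hyp_subgroup H hX)
    have hquot : ∀ (N : Subgroup X) [N.Normal], N ≠ ⊥ → Ctl p 𝓦 (X ⧸ N) := by
      intro N _ hN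
      have hlt : Nat.card (X ⧸ N) < n := by
        rw [← hn, ← Subgroup.index_eq_card, ← Subgroup.card_mul_index N]
        have h1 : 1 < Nat.card N := by
          rw [Subgroup.one_lt_card_iff_ne_bot]; exact hN
        have h2 : 0 < N.index := Nat.pos_of_ne_zero Subgroup.index_ne_zero_of_finite
        nlinarith
      exact IH _ hlt (X ⧸ N) rfl (hyp_quotient N hX)
    by_cases hcon : Constrained p X
    · exact hyp_top hX hcon
    obtain ⟨S⟩ : Nonempty (Sylow p X) := inferInstance
    by_cases hD : Cfsg.pPrimeCore p X = ⊥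
    · by_cases hP : Cfsg.pCore p X = ⊥
      · -- case B2
        apply Cfsg.Agent.S1959.result S (fam 𝓦 X) (fam_conj h𝓦)
        intro T hTS hT1 _
        apply fcsf_subgroup h𝓦
        apply hsub
        intro htop
        apply hT1
        have := le_pCore_of_normalizer_eq_top T (S.isPGroup'.to_le hTS) htop
        rw [hP] at this
        exact le_bot_iff.mp this
      · exact ctl_of_ctlAt S (ctlAt_case_B3 h𝓦 S hsub hquot hD hP hcon)
    · -- case B1
      haveI : (Cfsg.pPrimeCore p X).Normal := Cfsg.Agent.helper1.pPrimeCore_normal p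
      have hq := hquot (Cfsg.pPrimeCore p X) hD
      have hsurj : Function.Surjective (QuotientGroup.mk' (Cfsg.pPrimeCore p X)) :=
        QuotientGroup.mk'_surjective _
      have hq' : CtlAt 𝓦 (X ⧸ Cfsg.pPrimeCore p X)
          ((S : Subgroup X).map (QuotientGroup.mk' (Cfsg.pPrimeCore p X))) :=
        ctlAt_of_ctl h𝓦 (S.mapSurjective hsurj) hq
      exact ctl_of_ctlAt S (ctlAt_lift_coprime h𝓦 S _ (Cfsg.Agent.helper1.pPrimeCore_coprime p) hq')

end main2

end Cfsg.Agent.helper10

namespace Cfsg.Agent.helper10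

universe u

section final

variable {p : ℕ} [hp : Fact p.Prime] {𝓦 : Set (∀ (Q : Type u) [Group Q], Subgroup Q)}

/-- The hypothesis in the form of the statements gives `Hyp`. -/
theorem hyp_of_sections {G : Type u} [Group G] [Finite G]
    (h𝓦 : ∀ W ∈ 𝓦, Cfsg.IsCharPFunctor.{u} p W)
    (hloc : ∀ (K R : Subgroup G) [hR : (R.subgroupOf K).Normal],
      Constrained p (↥K ⧸ R.subgroupOf K) → Ctl p 𝓦 (↥K ⧸ R.subgroupOf K)) :
    Hyp p 𝓦 G := by
  intro K Y _ f hf hY
  have hRk : (f.ker.map K.subtype).subgroupOf K = f.ker :=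
    Subgroup.comap_map_eq_self_of_injective K.subtype_injective _
  haveI hRn : ((f.ker.map K.subtype).subgroupOf K).Normal := by rw [hRk]; infer_instance
  let e : (↥K ⧸ (f.ker.map K.subtype).subgroupOf K) ≃* Y :=
    (QuotientGroup.quotientMulEquivOfEq hRk).trans (QuotientGroup.quotientKerEquivOfSurjective f hf)
  have h1 := hloc K (f.ker.map K.subtype) (constrained_iso e.symm hY)
  exact ctl_iso h𝓦 e h1

/-- Glauberman's section theorem. -/
theorem section_theorem {G : Type u} [Group G] [Finite G]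
    (h𝓦 : ∀ W ∈ 𝓦, Cfsg.IsCharPFunctor.{u} p W)
    (hloc : ∀ (K R : Subgroup G) [hR : (R.subgroupOf K).Normal],
      Constrained p (↥K ⧸ R.subgroupOf K) → Ctl p 𝓦 (↥K ⧸ R.subgroupOf K)) :
    Ctl p 𝓦 G :=
  section_main h𝓦 _ G rfl (hyp_of_sections h𝓦 hloc)

end final

end Cfsg.Agent.helper10
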