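import Cfsg.Statements.S1969
import Mathlib
import Cfsg.Agent.Lib_helper10_Sec6

set_option autoImplicit false
open Cfsg

namespace Cfsg.Agent.S1969

open Cfsg.Agent.helper10

universe u

/-- A chain whose steps lie in a subgroup ends in that subgroup. -/
theorem reach_mem {X : Type u} [Group X] {N S A : Set X} {c : X} (H : Subgroup X)
    (hN : N ⊆ (H : Set X)) (h : Reach N S A c) : c ∈ H := by
  induction h with
  | refl _ => exact H.one_mem
  | step g d _ hd _ ih => exact H.mul_mem (hN hd) ih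

/-- Let p be a prime, G a finite group and W an isomorphism-invariant p-group functor (W assigns to every group Q a subgroup W(Q), nontrivial whenever Q is a nontrivial finite p-group, and every isomorphism from a finite p-group Q onto a group R carries W(Q) onto W(R)). Suppose that W(S*) is normal in G* whenever G* = K/R is a section of G with C_{G*}(O_p(G*)) ≤ O_p(G*) and S* is a Sylow p-subgroup of G*. Then W controls strong fusion in every section of G: for every section K/R and every Sylow p-subgroup T of K/R, the subgroup W(T) controls strong fusion in K/R. -/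
theorem result {G : Type u} [Group G] [Finite G] {p : ℕ} [Fact p.Prime] (W : ∀ (Q : Type u) [Group Q], Subgroup Q) (hW : Cfsg.IsCharPFunctor.{u} p W) (hloc : ∀ (K R : Subgroup G) [hR : (R.subgroupOf K).Normal], Subgroup.centralizer ((Cfsg.pCore p (↥K ⧸ R.subgroupOf K) : Subgroup (↥K ⧸ R.subgroupOf K)) : Set (↥K ⧸ R.subgroupOf K)) ≤ Cfsg.pCore p (↥K ⧸ R.subgroupOf K) → ∀ T : Sylow p (↥K ⧸ R.subgroupOf K), (Cfsg.inducedFunctor (G := (↥K ⧸ R.subgroupOf K)) W ((T : Subgroup (↥K ⧸ R.subgroupOf K)))).Normal) : ∀ (K R : Subgroup G) [hR : (R.subgroupOf K).Normal], ∀ T : Sylow p (↥K ⧸ R.subgroupOf K), Cfsg.ControlsStrongFusion p (Cfsg.inducedFunctor (G := (↥K ⧸ R.subgroupOf K)) W ((T : Subgroup (↥K ⧸ R.subgroupOf K)))) := by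
  have h𝓦 : ∀ W' ∈ ({W} : Set (∀ (Q : Type u) [Group Q], Subgroup Q)),
      Cfsg.IsCharPFunctor.{u} p W' := by
    intro W' hW'
    rw [Set.mem_singleton_iff] at hW'
    rw [hW']; exact hW
  have hHyp : Hyp p ({W} : Set (∀ (Q : Type u) [Group Q], Subgroup Q)) G := by
    apply hyp_of_sections h𝓦
    intro K R _ hcon
    obtain ⟨T⟩ : Nonempty (Sylow p (↥K ⧸ R.subgroupOf K)) := inferInstance
    apply ctl_of_ctlAt T
    intro A h hA hAh
    have hn := hloc K R hcon T
    apply Rel.of_reach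
    apply Reach.single hA _ hAh
    refine ⟨_, ⟨W, rfl, rfl⟩, Subgroup.mem_inf.2 ⟨Subgroup.mem_top _, ?_⟩⟩
    rw [Subgroup.normalizer_eq_top]
    exact Subgroup.mem_top h
  intro K R _ T
  have hHypY : Hyp p ({W} : Set (∀ (Q : Type u) [Group Q], Subgroup Q)) (↥K ⧸ R.subgroupOf K) :=
    hyp_quotient _ (hyp_subgroup K hHyp)
  have hctl := section_main h𝓦 _ (↥K ⧸ R.subgroupOf K) rfl hHypY
  have hat := ctlAt_of_ctl h𝓦 T hctl
  have hconjF := induced_isConjugacyFunctor (X := ↥K ⧸ R.subgroupOf K) W hW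
  refine ⟨T, (hconjF _ T.isPGroup').1, fun A hA => ⟨hA, fun g hg => ?_⟩⟩
  obtain ⟨c, hc, hag⟩ := hat A g hA hg
  refine ⟨c, ?_, fun a ha => (hag a ha).symm⟩
  apply reach_mem _ _ hc
  rintro d ⟨_, ⟨W', hW', rfl⟩, hd⟩
  rw [Set.mem_singleton_iff] at hW'
  subst hW'
  exact (Subgroup.mem_inf.1 hd).2

end Cfsg.Agent.S1969
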