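import Cfsg.Statements.S1987
import Mathlib
import Cfsg.Agent.Lib_helper10_PS2
import Cfsg.Agent.Lib_helper10_Sec6
import Cfsg.Agent.S1969

set_option autoImplicit false
universe u
open Cfsg

namespace Cfsg.Agent.S1987

open Cfsg.Agent.helper10

/-- Control of strong fusion by an isomorphism-invariant functor `W` which is normal in every
constrained group all of whose sections are `p`-stable. -/
theorem ctl_of_normal_pst {G : Type u} [Group G] [Finite G] {p : ℕ} [Fact p.Prime]
    (W : ∀ (Q : Type u) [Group Q], Subgroup Q) (hW : Cfsg.IsCharPFunctor.{u} p W)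
    (hnorm : ∀ (Y : Type u) [Group Y] [Finite Y], PSt p Y →
      Subgroup.centralizer ((Cfsg.pCore p Y : Subgroup Y) : Set Y) ≤ Cfsg.pCore p Y →
      ∀ T : Sylow p Y, (Cfsg.inducedFunctor (G := Y) W (T : Subgroup Y)).Normal)
    (hps : PSt p G) (S : Sylow p G) :
    Cfsg.ControlsStrongFusion p (Cfsg.inducedFunctor (G := G) W (S : Subgroup G)) := by
  have h𝓦 : ∀ W' ∈ ({W} : Set (∀ (Q : Type u) [Group Q], Subgroup Q)),
      Cfsg.IsCharPFunctor.{u} p W' := by
    intro W' hW'
    rw [Set.mem_singleton_iff] at hW'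
    rw [hW']; exact hW
  have hHyp : Hyp p ({W} : Set (∀ (Q : Type u) [Group Q], Subgroup Q)) G := by
    intro K Y _ f hf hY
    haveI : Finite Y := Finite.of_surjective f hf
    have hpsY : PSt p Y := pst_image K f hf hps
    obtain ⟨T⟩ : Nonempty (Sylow p Y) := inferInstance
    apply ctl_of_ctlAt T
    intro A h hA hAh
    have hn := hnorm Y hpsY hY T
    apply Rel.of_reach
    apply Reach.single hA _ hAh
    refine ⟨_, ⟨W, rfl, rfl⟩, Subgroup.mem_inf.2 ⟨Subgroup.mem_top _, ?_⟩⟩
    rw [Subgroup.normalizer_eq_top]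
    exact Subgroup.mem_top h
  have hctl := section_main h𝓦 _ G rfl hHyp
  have hat := ctlAt_of_ctl h𝓦 S hctl
  have hconjF := induced_isConjugacyFunctor (X := G) W hW
  refine ⟨S, (hconjF _ S.isPGroup').1, fun A hA => ⟨hA, fun g hg => ?_⟩⟩
  obtain ⟨c, hc, hag⟩ := hat A g hA hg
  refine ⟨c, ?_, fun a ha => (hag a ha).symm⟩
  apply Cfsg.Agent.S1969.reach_mem _ _ hc
  rintro d ⟨_, ⟨W', hW', rfl⟩, hd⟩
  rw [Set.mem_singleton_iff] at hW'
  subst hW'
  exact (Subgroup.mem_inf.1 hd).2

/-- Let p be an odd prime and G a finite group every section of which is p-stable in the normalizer form (in each section, an element of the normalizer of a p-subgroup Q acting quadratically on Q maps into O_p of N(Q)/C(Q)). Then for every Sylow p-subgroup S of G the lower K-infinity subgroup of S controls strong fusion in G. -/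
theorem result {G : Type u} [Group G] [Finite G] {p : ℕ} [Fact p.Prime] (hp : p ≠ 2) (hst : ∀ (K R : Subgroup G) [hR : (R.subgroupOf K).Normal], Cfsg.IsNormalizerPStable p (↥K ⧸ R.subgroupOf K)) (S : Sylow p G) : Cfsg.ControlsStrongFusion p (Cfsg.inducedFunctor Cfsg.kInfLower (S : Subgroup G)) := by
  have hps : PSt p G := pst_of_sections hst
  exact ctl_of_normal_pst (fun Q _ => Cfsg.kInfLower Q) (isCharPFunctor_kInfLower p)
    (fun Y _ _ hY hcon T => (kinf_normal_of_pst hY hcon T).1) hps S

end Cfsg.Agent.S1987
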