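import Mathlib
import Cfsg.Prelude.Def_OddOrder
import Cfsg.Prelude.Def_OddOrderLocal
import Cfsg.Prelude.Def_LieExceptional
import Cfsg.Prelude.Def_Transfer
import Cfsg.Agent.Lib_helper8_CN2
import Cfsg.Agent.Lib_helper14_QuadCore
import Cfsg.Agent.Lib_helper18_ZJe1
import Cfsg.Agent.S0118

set_option autoImplicit false
set_option linter.style.haveILetI false
set_option linter.unusedSectionVars false

namespace Cfsg.Agent.H16CN

open scoped Pointwise commutatorElement

universe u

variable {G : Type u} [Group G] [Finite G]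

theorem cn_subgroup (hCN : Cfsg.IsCNGroup G) (K : Subgroup G) : Cfsg.IsCNGroup ↥K := by
  intro k hk
  have hk1 : (k : G) ≠ 1 := fun h => hk (Subtype.ext h)
  have h1 := hCN (k : G) hk1
  have hle : (Subgroup.centralizer ({k} : Set ↥K)).map K.subtype ≤
      Subgroup.centralizer ({(k : G)} : Set G) := by
    rintro _ ⟨x, hx, rfl⟩
    have hx' : x ∈ Subgroup.centralizer ({k} : Set ↥K) := hx
    rw [Subgroup.mem_centralizer_singleton_iff] at hx' ⊢
    exact congrArg Subtype.val hx'
  have h2 : Group.IsNilpotent ↥((Subgroup.centralizer ({k} : Set ↥K)).map K.subtype) :=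
    Cfsg.Agent.helper8.CN.nilpotent_of_le hle h1
  haveI := h2
  exact Group.nilpotent_of_mulEquiv
    ((Subgroup.centralizer ({k} : Set ↥K)).equivMapOfInjective K.subtype
      K.subtype_injective).symm

theorem odd_card_subgroup (hodd : Odd (Nat.card G)) (K : Subgroup G) : Odd (Nat.card ↥K) :=
  Odd.of_dvd_nat hodd (Subgroup.card_subgroup_dvd_card K)

theorem solvable_of_ne_top (hG : Cfsg.IsMinSimpleOddOrder G) {K : Subgroup G} (hK : K ≠ ⊤) :
    Group.IsSolvable ↥K := hG.2.2.2 K hK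

theorem perfect_of_minSimple (hG : Cfsg.IsMinSimpleOddOrder G) : commutator G = ⊤ := by
  haveI := hG.2.1
  rcases (inferInstance : (commutator G).Normal).eq_bot_or_eq_top with h | h
  · exfalso
    apply hG.2.2.1
    refine ⟨⟨fun a b => ?_⟩⟩
    have h1 : ⁅a, b⁆ ∈ commutator G :=
      Subgroup.commutator_mem_commutator (Subgroup.mem_top a) (Subgroup.mem_top b)
    rw [h, Subgroup.mem_bot, commutatorElement_def] at h1
    calc a * b = (a * b * a⁻¹ * b⁻¹) * b * a := by group
      _ = b * a := by rw [h1, one_mul]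
  · exact h

theorem no_sl2_section (hodd : Odd (Nat.card G)) {r : ℕ} [Fact r.Prime] (hr : r ≠ 2) :
    ¬ ∃ (H K : Subgroup G) (hK : (K.subgroupOf H).Normal),
      Nonempty ((H ⧸ K.subgroupOf H) ≃* Matrix.SpecialLinearGroup (Fin 2) (ZMod r)) := by
  rintro ⟨H, K, hK, ⟨e⟩⟩
  have h1 : Nat.card (Matrix.SpecialLinearGroup (Fin 2) (ZMod r)) ∣ Nat.card ↥H := by
    rw [← Nat.card_congr e.toEquiv]
    exact Subgroup.card_quotient_dvd_card _
  have h2 : 2 ∣ Nat.card G :=
    (Cfsg.Agent.helper14.QuadCore.two_dvd_card_SL2 hr).trans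
      (h1.trans (Subgroup.card_subgroup_dvd_card H))
  rw [← even_iff_two_dvd] at h2
  exact (Nat.not_even_iff_odd.mpr hodd) h2

/-- Transfer: in a minimal simple group of odd order, a Sylow subgroup lies in the derived
subgroup of the normalizer of `Z(J(P))`. -/
theorem sylow_le_commutator_normalizer (hG : Cfsg.IsMinSimpleOddOrder G) (r : ℕ) [Fact r.Prime]
    (P : Sylow r G) :
    (P : Subgroup G) ≤
      ⁅Subgroup.normalizer (Cfsg.centerThompsonOf r (P : Subgroup G) : Set G),
        Subgroup.normalizer (Cfsg.centerThompsonOf r (P : Subgroup G) : Set G)⁆ := by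
  by_cases hr : r = 2
  · subst hr
    have hP : (P : Subgroup G) = ⊥ := by
      obtain ⟨k, hk⟩ := IsPGroup.iff_card.1 P.isPGroup'
      have hk0 : k = 0 := by
        by_contra hne
        have h1 : 2 ∣ Nat.card (P : Subgroup G) := by rw [hk]; exact dvd_pow_self 2 hne
        have h2 : 2 ∣ Nat.card G := h1.trans (Subgroup.card_subgroup_dvd_card _)
        exact (Nat.not_even_iff_odd.2 hG.1) (even_iff_two_dvd.2 h2)
      rw [hk0, pow_zero] at hk
      exact Subgroup.card_eq_one.1 hk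
    rw [hP]; exact bot_le
  obtain ⟨N, hN⟩ : ∃ N : Subgroup G,
    N = Subgroup.normalizer (Cfsg.centerThompsonOf r (P : Subgroup G) : Set G) := ⟨_, rfl⟩
  rw [← hN]
  have hPN : (P : Subgroup G) ≤ N := by
    rw [hN]
    exact Subgroup.le_normalizer.trans
      (Cfsg.Agent.helper18.ZJe.normalizer_le_normalizer_centerThompsonOf (P : Subgroup G))
  have hfoc := Subgroup.commutator_inf_eq_focalSubgroup P
  rw [perfect_of_minSimple hG, top_inf_eq] at hfoc
  rw [hfoc, Subgroup.focalSubgroup_def, Subgroup.closure_le]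
  rintro g ⟨hgP, x, hxP, u, rfl⟩
  -- u x u⁻¹ ∈ P
  have hconj : u * x * u⁻¹ ∈ (P : Subgroup G) := by
    have h1 : x⁻¹ * ⁅x, u⁆ ∈ (P : Subgroup G) := (P : Subgroup G).mul_mem
      ((P : Subgroup G).inv_mem hxP) hgP
    have e : x⁻¹ * ⁅x, u⁆ = (u * x * u⁻¹)⁻¹ := by rw [commutatorElement_def]; group
    rw [e] at h1
    have := (P : Subgroup G).inv_mem h1
    rwa [inv_inv] at this
  have hA : ({x} : Set G) ⊆ ((P : Subgroup G) : Set G) := by
    intro y hy; rw [Set.mem_singleton_iff] at hy; rw [hy]; exact hxP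
  have hAg : (fun a => (u⁻¹)⁻¹ * a * u⁻¹) '' ({x} : Set G) ⊆ ((P : Subgroup G) : Set G) := by
    rintro _ ⟨y, hy, rfl⟩
    rw [Set.mem_singleton_iff] at hy
    rw [hy, inv_inv]; exact hconj
  obtain ⟨n, hn, hnx⟩ := Cfsg.Agent.S0118.result hr (no_sl2_section hG.1 hr) P {x} hA u⁻¹ hAg
  have hnx' := hnx x (Set.mem_singleton x)
  rw [inv_inv] at hnx'
  rw [← hN] at hn
  have e : ⁅x, u⁆ = ⁅x, n⁻¹⁆ := by
    rw [commutatorElement_def, commutatorElement_def, inv_inv]
    calc x * u * x⁻¹ * u⁻¹ = x * (u * x * u⁻¹)⁻¹ := by group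
      _ = x * (n⁻¹ * x * n)⁻¹ := by rw [hnx']
      _ = x * n⁻¹ * x⁻¹ * n := by group
  rw [SetLike.mem_coe, e]
  exact Subgroup.commutator_mem_commutator (hPN hxP) (N.inv_mem hn)

end Cfsg.Agent.H16CN
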