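import Mathlib.GroupTheory.Index
import Mathlib.GroupTheory.Subgroup.Centralizer
import Mathlib.Algebra.Group.Subgroup.Pointwise
import Mathlib.GroupTheory.Coset.Card
import Mathlib.Tactic

set_option autoImplicit false

namespace Cfsg.Agent.helper15

open Pointwise

variable {G : Type*} [Group G]

theorem card_mul_relIndex_of_le {H K : Subgroup G} (h : H ≤ K) :
    Nat.card ↥H * H.relIndex K = Nat.card ↥K := by
  have := Subgroup.relIndex_mul_relIndex (H := (⊥ : Subgroup G)) (K := H) (L := K) bot_le h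
  rwa [Subgroup.relIndex_bot_left, Subgroup.relIndex_bot_left] at this

theorem relIndex_ne_zero_of_finite [Finite G] (H K : Subgroup G) : H.relIndex K ≠ 0 := by
  show (H.subgroupOf K).index ≠ 0
  exact Subgroup.index_ne_zero_of_finite

/-- Product formula inequality: `|H| |K| ≤ |⟨H, K⟩| |H ∩ K|`. -/
theorem card_mul_card_le_sup_inf [Finite G] (H K : Subgroup G) :
    Nat.card ↥H * Nat.card ↥K ≤ Nat.card ↥(H ⊔ K) * Nat.card ↥(H ⊓ K) := by
  have h1 : (H ⊓ K).relIndex K = H.relIndex K := Subgroup.inf_relIndex_right H K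
  have h2 : H.relIndex K ≤ H.relIndex (H ⊔ K) :=
    Subgroup.relIndex_le_of_le_right le_sup_right (relIndex_ne_zero_of_finite _ _)
  have h3 := card_mul_relIndex_of_le (inf_le_right : H ⊓ K ≤ K)
  have h4 := card_mul_relIndex_of_le (le_sup_left : H ≤ H ⊔ K)
  calc Nat.card ↥H * Nat.card ↥K
      = Nat.card ↥H * (Nat.card ↥(H ⊓ K) * H.relIndex K) := by rw [← h3, h1]
    _ ≤ Nat.card ↥H * (Nat.card ↥(H ⊓ K) * H.relIndex (H ⊔ K)) := by gcongr
    _ = Nat.card ↥(H ⊔ K) * Nat.card ↥(H ⊓ K) := by rw [← h4]; ring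

/-- Equality in the product formula forces `⟨H, K⟩ = K H` as sets. -/
theorem sup_eq_mul_of_card_eq' [Finite G] (H K : Subgroup G)
    (h : Nat.card ↥H * Nat.card ↥K = Nat.card ↥(H ⊔ K) * Nat.card ↥(H ⊓ K)) :
    ((H ⊔ K : Subgroup G) : Set G) = (K : Set G) * (H : Set G) := by
  have h3 := card_mul_relIndex_of_le (inf_le_right : H ⊓ K ≤ K)
  have h4 := card_mul_relIndex_of_le (le_sup_left : H ≤ H ⊔ K)
  have h1 : (H ⊓ K).relIndex K = H.relIndex K := Subgroup.inf_relIndex_right H K
  have heq : H.relIndex K = H.relIndex (H ⊔ K) := by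
    rw [← h3, ← h4, h1] at h
    have hpos1 : 0 < Nat.card ↥H := Nat.card_pos
    have hpos2 : 0 < Nat.card ↥(H ⊓ K) := Nat.card_pos
    have : Nat.card ↥H * Nat.card ↥(H ⊓ K) * H.relIndex K
        = Nat.card ↥H * Nat.card ↥(H ⊓ K) * H.relIndex (H ⊔ K) := by
      calc _ = Nat.card ↥H * (Nat.card ↥(H ⊓ K) * H.relIndex K) := by ring
        _ = Nat.card ↥H * H.relIndex (H ⊔ K) * Nat.card ↥(H ⊓ K) := h
        _ = _ := by ring
    exact Nat.eq_of_mul_eq_mul_left (Nat.mul_pos hpos1 hpos2) this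
  have hsurj : Function.Surjective
      (Subgroup.quotientSubgroupOfEmbeddingOfLE H (le_sup_right : K ≤ H ⊔ K)) := by
    have hinj : Function.Injective
        (Subgroup.quotientSubgroupOfEmbeddingOfLE H (le_sup_right : K ≤ H ⊔ K)) :=
      (Subgroup.quotientSubgroupOfEmbeddingOfLE H (le_sup_right : K ≤ H ⊔ K)).injective
    have hcard : Nat.card (↥K ⧸ H.subgroupOf K)
        = Nat.card (↥(H ⊔ K) ⧸ H.subgroupOf (H ⊔ K)) := heq
    exact (hinj.bijective_of_nat_card_le hcard.ge).2
  apply Set.Subset.antisymm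
  · intro g hg
    obtain ⟨q, hq⟩ := hsurj (QuotientGroup.mk ⟨g, hg⟩)
    obtain ⟨k, rfl⟩ := QuotientGroup.mk_surjective q
    rw [Subgroup.quotientSubgroupOfEmbeddingOfLE_apply_mk, QuotientGroup.eq,
      Subgroup.mem_subgroupOf] at hq
    refine Set.mem_mul.2 ⟨(k : G), k.2, (k : G)⁻¹ * g, ?_, by group⟩
    simpa using hq
  · rintro _ ⟨k, hk, h', hh', rfl⟩
    exact Subgroup.mul_mem _ ((le_sup_right : K ≤ H ⊔ K) hk) ((le_sup_left : H ≤ H ⊔ K) hh')

/-- Equality in the product formula forces `⟨H, K⟩ = H K` as sets. -/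
theorem sup_eq_mul_of_card_eq [Finite G] (H K : Subgroup G)
    (h : Nat.card ↥H * Nat.card ↥K = Nat.card ↥(H ⊔ K) * Nat.card ↥(H ⊓ K)) :
    ((H ⊔ K : Subgroup G) : Set G) = (H : Set G) * (K : Set G) := by
  have h' : Nat.card ↥K * Nat.card ↥H = Nat.card ↥(K ⊔ H) * Nat.card ↥(K ⊓ H) := by
    rw [sup_comm K H, inf_comm K H, mul_comm]; exact h
  have := sup_eq_mul_of_card_eq' K H h'
  rw [sup_comm] at this
  exact this

theorem centralizer_sup_eq (H K : Subgroup G) :
    Subgroup.centralizer ((H ⊔ K : Subgroup G) : Set G)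
      = Subgroup.centralizer (H : Set G) ⊓ Subgroup.centralizer (K : Set G) := by
  apply le_antisymm
  · exact le_inf (Subgroup.centralizer_le (SetLike.coe_subset_coe.2 le_sup_left))
      (Subgroup.centralizer_le (SetLike.coe_subset_coe.2 le_sup_right))
  · rw [Subgroup.le_centralizer_iff]
    apply sup_le
    · rw [Subgroup.le_centralizer_iff]; exact inf_le_left
    · rw [Subgroup.le_centralizer_iff]; exact inf_le_right

theorem centralizer_sup_le_centralizer_inf (H K : Subgroup G) :
    Subgroup.centralizer (H : Set G) ⊔ Subgroup.centralizer (K : Set G)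
      ≤ Subgroup.centralizer ((H ⊓ K : Subgroup G) : Set G) :=
  sup_le (Subgroup.centralizer_le (SetLike.coe_subset_coe.2 inf_le_left))
    (Subgroup.centralizer_le (SetLike.coe_subset_coe.2 inf_le_right))

theorem le_centralizer_centralizer' (H : Subgroup G) :
    H ≤ Subgroup.centralizer ((Subgroup.centralizer (H : Set G) : Subgroup G) : Set G) :=
  Subgroup.le_centralizer_iff.1 le_rfl

/-- The Chermak–Delgado measure `|H| |C_G(H)|`. -/
noncomputable def cdMeasure (H : Subgroup G) : ℕ :=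
  Nat.card ↥H * Nat.card ↥(Subgroup.centralizer (H : Set G))

theorem cdMeasure_pos [Finite G] (H : Subgroup G) : 0 < cdMeasure H :=
  Nat.mul_pos Nat.card_pos Nat.card_pos

theorem cdMeasure_mul_le [Finite G] (H K : Subgroup G) :
    cdMeasure H * cdMeasure K ≤ cdMeasure (H ⊔ K) * cdMeasure (H ⊓ K) := by
  unfold cdMeasure
  rw [centralizer_sup_eq]
  have h1 := card_mul_card_le_sup_inf H K
  have h2 := card_mul_card_le_sup_inf (Subgroup.centralizer (H : Set G))
    (Subgroup.centralizer (K : Set G))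
  have h3 : Nat.card ↥(Subgroup.centralizer (H : Set G) ⊔ Subgroup.centralizer (K : Set G))
      ≤ Nat.card ↥(Subgroup.centralizer ((H ⊓ K : Subgroup G) : Set G)) :=
    Subgroup.card_le_of_le (centralizer_sup_le_centralizer_inf H K)
  calc Nat.card ↥H * Nat.card ↥(Subgroup.centralizer (H : Set G))
        * (Nat.card ↥K * Nat.card ↥(Subgroup.centralizer (K : Set G)))
      = (Nat.card ↥H * Nat.card ↥K) * (Nat.card ↥(Subgroup.centralizer (H : Set G))
        * Nat.card ↥(Subgroup.centralizer (K : Set G))) := by ring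
    _ ≤ (Nat.card ↥(H ⊔ K) * Nat.card ↥(H ⊓ K))
        * (Nat.card ↥(Subgroup.centralizer (H : Set G) ⊔ Subgroup.centralizer (K : Set G))
          * Nat.card ↥(Subgroup.centralizer (H : Set G) ⊓ Subgroup.centralizer (K : Set G))) :=
        Nat.mul_le_mul h1 h2
    _ ≤ (Nat.card ↥(H ⊔ K) * Nat.card ↥(H ⊓ K))
        * (Nat.card ↥(Subgroup.centralizer ((H ⊓ K : Subgroup G) : Set G))
          * Nat.card ↥(Subgroup.centralizer (H : Set G) ⊓ Subgroup.centralizer (K : Set G))) := by
        gcongr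
    _ = _ := by ring

theorem cdMeasure_le_centralizer [Finite G] (H : Subgroup G) :
    cdMeasure H ≤ cdMeasure (Subgroup.centralizer (H : Set G)) := by
  unfold cdMeasure
  rw [mul_comm]
  exact Nat.mul_le_mul_left _ (Subgroup.card_le_of_le (le_centralizer_centralizer' H))

/-- `H` has the largest Chermak–Delgado measure. -/
def IsCDMax (H : Subgroup G) : Prop := ∀ K : Subgroup G, cdMeasure K ≤ cdMeasure H

theorem IsCDMax.measure_eq {H K : Subgroup G} (hH : IsCDMax H) (hK : IsCDMax K) :
    cdMeasure H = cdMeasure K := le_antisymm (hK H) (hH K)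

theorem IsCDMax.of_measure_eq {H K : Subgroup G} (hH : IsCDMax H)
    (h : cdMeasure K = cdMeasure H) : IsCDMax K := fun L => h ▸ hH L

theorem exists_isCDMax [Finite G] : ∃ H : Subgroup G, IsCDMax H := by
  obtain ⟨H, hH⟩ := Finite.exists_max (fun H : Subgroup G => cdMeasure H)
  exact ⟨H, hH⟩

theorem IsCDMax.centralizer [Finite G] {H : Subgroup G} (hH : IsCDMax H) :
    IsCDMax (Subgroup.centralizer (H : Set G)) :=
  hH.of_measure_eq (le_antisymm (hH _) (cdMeasure_le_centralizer H))

theorem IsCDMax.eq_centralizer_centralizer [Finite G] {H : Subgroup G} (hH : IsCDMax H) :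
    H = Subgroup.centralizer ((Subgroup.centralizer (H : Set G) : Subgroup G) : Set G) := by
  apply Subgroup.eq_of_le_of_card_ge (le_centralizer_centralizer' H)
  have h := hH (Subgroup.centralizer (H : Set G))
  unfold cdMeasure at h
  have hpos : 0 < Nat.card ↥(Subgroup.centralizer (H : Set G)) := Nat.card_pos
  rw [mul_comm (Nat.card ↥H)] at h
  exact Nat.le_of_mul_le_mul_left h hpos

/-- Main Chermak–Delgado lattice statement. -/
theorem IsCDMax.sup_inf [Finite G] {H K : Subgroup G} (hH : IsCDMax H) (hK : IsCDMax K) :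
    IsCDMax (H ⊔ K) ∧ IsCDMax (H ⊓ K) ∧
    ((H ⊔ K : Subgroup G) : Set G) = (H : Set G) * (K : Set G) ∧
    Subgroup.centralizer ((H ⊓ K : Subgroup G) : Set G)
      = Subgroup.centralizer (H : Set G) ⊔ Subgroup.centralizer (K : Set G) ∧
    ((Subgroup.centralizer (H : Set G) ⊔ Subgroup.centralizer (K : Set G) : Subgroup G) : Set G)
      = (Subgroup.centralizer (H : Set G) : Set G) * (Subgroup.centralizer (K : Set G) : Set G) := by
  have hM := hH.measure_eq hK
  have hpos := cdMeasure_pos H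
  have hmul := cdMeasure_mul_le H K
  have hs := hH (H ⊔ K)
  have hi := hH (H ⊓ K)
  rw [← hM] at hmul
  have hs_eq : cdMeasure (H ⊔ K) = cdMeasure H := by
    apply le_antisymm hs
    by_contra hlt
    push Not at hlt
    have : cdMeasure (H ⊔ K) * cdMeasure (H ⊓ K) < cdMeasure H * cdMeasure H :=
      Nat.mul_lt_mul_of_lt_of_le hlt hi hpos
    omega
  have hi_eq : cdMeasure (H ⊓ K) = cdMeasure H := by
    apply le_antisymm hi
    by_contra hlt
    push Not at hlt
    have : cdMeasure (H ⊔ K) * cdMeasure (H ⊓ K) < cdMeasure H * cdMeasure H :=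
      Nat.mul_lt_mul_of_le_of_lt hs hlt hpos
    omega
  refine ⟨hH.of_measure_eq hs_eq, hH.of_measure_eq hi_eq, ?_⟩
  -- now the tightness of all inequalities
  have h1 := card_mul_card_le_sup_inf H K
  have h2 := card_mul_card_le_sup_inf (Subgroup.centralizer (H : Set G))
    (Subgroup.centralizer (K : Set G))
  have h3 : Nat.card ↥(Subgroup.centralizer (H : Set G) ⊔ Subgroup.centralizer (K : Set G))
      ≤ Nat.card ↥(Subgroup.centralizer ((H ⊓ K : Subgroup G) : Set G)) :=
    Subgroup.card_le_of_le (centralizer_sup_le_centralizer_inf H K)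
  have htot : cdMeasure (H ⊔ K) * cdMeasure (H ⊓ K) = cdMeasure H * cdMeasure K := by
    rw [hs_eq, hi_eq, ← hM]
  unfold cdMeasure at htot
  rw [centralizer_sup_eq] at htot
  set a := Nat.card ↥H
  set b := Nat.card ↥K
  set c := Nat.card ↥(Subgroup.centralizer (H : Set G))
  set d := Nat.card ↥(Subgroup.centralizer (K : Set G))
  set s := Nat.card ↥(H ⊔ K)
  set i := Nat.card ↥(H ⊓ K)
  set cs := Nat.card ↥(Subgroup.centralizer (H : Set G) ⊔ Subgroup.centralizer (K : Set G))
  set ci := Nat.card ↥(Subgroup.centralizer (H : Set G) ⊓ Subgroup.centralizer (K : Set G))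
  set ch := Nat.card ↥(Subgroup.centralizer ((H ⊓ K : Subgroup G) : Set G))
  have ha : 0 < a := Nat.card_pos
  have hb : 0 < b := Nat.card_pos
  have hc : 0 < c := Nat.card_pos
  have hd : 0 < d := Nat.card_pos
  have hs0 : 0 < s := Nat.card_pos
  have hi0 : 0 < i := Nat.card_pos
  have hcs : 0 < cs := Nat.card_pos
  have hci : 0 < ci := Nat.card_pos
  have hch : 0 < ch := Nat.card_pos
  -- h1 : a*b ≤ s*i ; h2 : c*d ≤ cs*ci ; h3 : cs ≤ ch ; htot : s*ci*(i*ch) = a*c*(b*d)
  have e1 : a * b = s * i := by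
    apply le_antisymm h1
    by_contra hlt
    push Not at hlt
    have hx : (a * b) * (c * d) < (s * i) * (cs * ci) :=
      Nat.mul_lt_mul_of_lt_of_le hlt h2 (Nat.mul_pos hcs hci)
    have hy : (s * i) * (cs * ci) ≤ (s * i) * (ch * ci) := by gcongr
    have hz : (s * i) * (ch * ci) = (a * b) * (c * d) := by
      calc (s * i) * (ch * ci) = s * ci * (i * ch) := by ring
        _ = a * c * (b * d) := htot
        _ = _ := by ring
    omega
  have e2 : c * d = cs * ci ∧ cs = ch := by
    have hz : (s * i) * (ch * ci) = (s * i) * (c * d) := by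
      calc (s * i) * (ch * ci) = s * ci * (i * ch) := by ring
        _ = a * c * (b * d) := htot
        _ = (a * b) * (c * d) := by ring
        _ = _ := by rw [e1]
    have hz' : ch * ci = c * d := Nat.eq_of_mul_eq_mul_left (Nat.mul_pos hs0 hi0) hz
    have hle : cs * ci ≤ ch * ci := Nat.mul_le_mul_right _ h3
    have e : c * d = cs * ci := le_antisymm h2 (hz' ▸ hle)
    refine ⟨e, ?_⟩
    have : cs * ci = ch * ci := by rw [← e, hz']
    exact Nat.eq_of_mul_eq_mul_right hci this
  refine ⟨sup_eq_mul_of_card_eq H K e1, ?_, sup_eq_mul_of_card_eq _ _ e2.1⟩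
  exact (Subgroup.eq_of_le_of_card_ge (centralizer_sup_le_centralizer_inf H K) e2.2.ge).symm

end Cfsg.Agent.helper15
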