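import Mathlib
import Cfsg.Prelude.Def_PLocal
import Cfsg.Agent.Lib_helper15_CD
import Cfsg.Agent.Lib_helper15_ExtClosed
import Cfsg.Agent.S0649

set_option autoImplicit false

namespace Cfsg.Agent.helper15

variable {G : Type*} [Group G]

/-- Product formula when `H` normalizes `K`. -/
theorem card_sup_mul_card_inf_of_le_normalizer [Finite G] (H K : Subgroup G)
    (hH : H ≤ Subgroup.normalizer (K : Set G)) :
    Nat.card ↥(H ⊔ K) * Nat.card ↥(H ⊓ K) = Nat.card ↥H * Nat.card ↥K := by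
  have hK : K ≤ Subgroup.normalizer (K : Set G) := Subgroup.le_normalizer
  haveI : (K.subgroupOf (Subgroup.normalizer (K : Set G))).Normal := Subgroup.normal_in_normalizer
  have h1 := Subgroup.relIndex_sup_right (H.subgroupOf (Subgroup.normalizer (K : Set G)))
    (K.subgroupOf (Subgroup.normalizer (K : Set G)))
  rw [← Subgroup.subgroupOf_sup hH hK, Subgroup.relIndex_subgroupOf (sup_le hH hK),
    Subgroup.relIndex_subgroupOf hH] at h1
  have h2 := card_mul_relIndex_of_le (le_sup_right : K ≤ H ⊔ K)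
  have h3 := card_mul_relIndex_of_le (inf_le_left : H ⊓ K ≤ H)
  rw [Subgroup.inf_relIndex_left] at h3
  rw [← h2, ← h3, h1]
  ring

/-- Subgroups generated by two commuting abelian subgroups are abelian. -/
theorem isMulCommutative_sup {X C : Subgroup G} (hX : IsMulCommutative ↥X)
    (hC : IsMulCommutative ↥C) (hXC : ∀ x ∈ X, ∀ c ∈ C, x * c = c * x) :
    IsMulCommutative ↥(X ⊔ C) := by
  have hle : X ⊔ C ≤ Subgroup.centralizer ((X ⊔ C : Subgroup G) : Set G) := by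
    rw [centralizer_sup_eq]
    apply sup_le
    · apply le_inf
      · intro x hx
        rw [Subgroup.mem_centralizer_iff]
        intro y hy
        exact congrArg Subtype.val (hX.is_comm.comm (⟨y, hy⟩ : ↥X) ⟨x, hx⟩)
      · intro x hx
        rw [Subgroup.mem_centralizer_iff]
        intro c hc
        exact (hXC x hx c hc).symm
    · apply le_inf
      · intro c hc
        rw [Subgroup.mem_centralizer_iff]
        intro x hx
        exact hXC x hx c hc
      · intro c hc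
        rw [Subgroup.mem_centralizer_iff]
        intro y hy
        exact congrArg Subtype.val (hC.is_comm.comm (⟨y, hy⟩ : ↥C) ⟨c, hc⟩)
  refine ⟨⟨fun a b => ?_⟩⟩
  apply Subtype.ext
  simp only [Subgroup.coe_mul]
  exact (Subgroup.mem_centralizer_iff.1 (hle a.2) b b.2).symm

/-- Thompson's replacement theorem for a normal abelian subgroup `B`. -/
theorem thompson_replacement {S : Type*} [Group S] [Finite S] {p : ℕ} [Fact p.Prime]
    (hS : IsPGroup p S) (A : Subgroup S) (hA : A ∈ Cfsg.maxAbelianSubgroups S)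
    (B : Subgroup S) [B.Normal] (hB : IsMulCommutative ↥B)
    (hnot : ¬ B ≤ Subgroup.normalizer (A : Set S)) :
    ∃ A' ∈ Cfsg.maxAbelianSubgroups S, A ⊓ B < A' ⊓ B ∧ A' ≤ Subgroup.normalizer (A : Set S) := by
  obtain ⟨hAc, hAmax⟩ := hA
  have hBA : ⁅B, B⁆ ≤ A := by
    have : ⁅B, B⁆ = ⊥ := by
      rw [Subgroup.commutator_eq_bot_iff_le_centralizer]
      intro x hx
      rw [Subgroup.mem_centralizer_iff]
      intro y hy
      exact congrArg Subtype.val (hB.is_comm.comm (⟨y, hy⟩ : ↥B) ⟨x, hx⟩)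
    rw [this]; exact bot_le
  obtain ⟨b, hbB, hbNN, hbN⟩ := Cfsg.Agent.S0649.result hS B (fun _ => hB) A hAc hBA hnot
  have hAcomm : ∀ x ∈ A, ∀ y ∈ A, x * y = y * x := fun x hx y hy =>
    congrArg Subtype.val (hAc.is_comm.comm (⟨x, hx⟩ : ↥A) ⟨y, hy⟩)
  have hBcomm : ∀ x ∈ B, ∀ y ∈ B, x * y = y * x := fun x hx y hy =>
    congrArg Subtype.val (hB.is_comm.comm (⟨x, hx⟩ : ↥B) ⟨y, hy⟩)
  -- the conjugate `Ab = b A b⁻¹`
  set Ab : Subgroup S := A.map (MulAut.conj b).toMonoidHom with hAb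
  have hAbmem : ∀ a ∈ A, b * a * b⁻¹ ∈ Ab := fun a ha => ⟨a, ha, by simp⟩
  have hAbN : Ab ≤ Subgroup.normalizer (A : Set S) := by
    rintro _ ⟨a, ha, rfl⟩
    simp only [MulEquiv.coe_toMonoidHom, MulAut.conj_apply]
    exact (Subgroup.mem_normalizer_iff.1 hbNN a).1 (Subgroup.le_normalizer ha)
  have hAbcomm : ∀ x ∈ Ab, ∀ y ∈ Ab, x * y = y * x := by
    rintro _ ⟨x, hx, rfl⟩ _ ⟨y, hy, rfl⟩
    simp only [MulEquiv.coe_toMonoidHom, MulAut.conj_apply]
    have := hAcomm x hx y hy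
    calc b * x * b⁻¹ * (b * y * b⁻¹) = b * (x * y) * b⁻¹ := by group
      _ = b * (y * x) * b⁻¹ := by rw [this]
      _ = b * y * b⁻¹ * (b * x * b⁻¹) := by group
  have hAbcard : Nat.card ↥Ab = Nat.card ↥A :=
    Subgroup.card_map_of_injective (MulAut.conj b).injective
  -- the commutator subgroup `X = [b, A]`
  set X : Subgroup S := Subgroup.closure {g : S | ∃ a ∈ A, g = b * a * b⁻¹ * a⁻¹} with hX
  have hXB : X ≤ B := by
    rw [hX, Subgroup.closure_le]
    rintro _ ⟨a, ha, rfl⟩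
    have h1 : a * b⁻¹ * a⁻¹ ∈ B := ‹B.Normal›.conj_mem b⁻¹ (B.inv_mem hbB) a
    have e : b * a * b⁻¹ * a⁻¹ = b * (a * b⁻¹ * a⁻¹) := by group
    rw [e]; exact B.mul_mem hbB h1
  have hXN : X ≤ Subgroup.normalizer (A : Set S) := by
    rw [hX, Subgroup.closure_le]
    rintro _ ⟨a, ha, rfl⟩
    exact Subgroup.mul_mem _ (hAbN (hAbmem a ha)) (Subgroup.le_normalizer (A.inv_mem ha))
  have hXle : X ≤ A ⊔ Ab := by
    rw [hX, Subgroup.closure_le]
    rintro _ ⟨a, ha, rfl⟩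
    exact Subgroup.mul_mem _ (Subgroup.mem_sup_right (hAbmem a ha))
      (Subgroup.mem_sup_left (A.inv_mem ha))
  have hXc : IsMulCommutative ↥X := ⟨⟨fun x y => by
    apply Subtype.ext
    simp only [Subgroup.coe_mul]
    exact hBcomm x (hXB x.2) y (hXB y.2)⟩⟩
  -- `C = C_A(X)`
  set C : Subgroup S := A ⊓ Subgroup.centralizer (X : Set S) with hC
  have hCc : IsMulCommutative ↥C := ⟨⟨fun x y => by
    apply Subtype.ext
    simp only [Subgroup.coe_mul]
    exact hAcomm x x.2.1 y y.2.1⟩⟩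
  have hXC : ∀ x ∈ X, ∀ c ∈ C, x * c = c * x := fun x hx c hc =>
    Subgroup.mem_centralizer_iff.1 hc.2 x hx
  have hstar : IsMulCommutative ↥(X ⊔ C) := isMulCommutative_sup hXc hCc hXC
  -- `A ⊔ X = A ⊔ Ab`
  have hsup : A ⊔ X = A ⊔ Ab := by
    apply le_antisymm (sup_le le_sup_left hXle)
    apply sup_le le_sup_left
    rintro _ ⟨a, ha, rfl⟩
    simp only [MulEquiv.coe_toMonoidHom, MulAut.conj_apply]
    have e : b * a * b⁻¹ = (b * a * b⁻¹ * a⁻¹) * a := by group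
    rw [e]
    exact Subgroup.mul_mem _ (Subgroup.mem_sup_right (Subgroup.subset_closure ⟨a, ha, rfl⟩))
      (Subgroup.mem_sup_left ha)
  -- `A ∩ Ab ≤ C`
  have hinfC : A ⊓ Ab ≤ C := by
    intro z hz
    refine Subgroup.mem_inf.2 ⟨hz.1, ?_⟩
    have hle : A ⊔ Ab ≤ Subgroup.centralizer ({z} : Set S) := by
      apply sup_le
      · intro a ha
        rw [Subgroup.mem_centralizer_singleton_iff]
        exact hAcomm a ha z hz.1
      · intro a ha
        rw [Subgroup.mem_centralizer_singleton_iff]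
        exact hAbcomm a ha z hz.2
    rw [Subgroup.mem_centralizer_iff]
    intro x hx
    have := hle (hXle hx)
    rw [Subgroup.mem_centralizer_singleton_iff] at this
    exact this
  -- `X ∩ C = X ∩ A`
  have hXCA : X ⊓ C = X ⊓ A := by
    apply le_antisymm (inf_le_inf_left _ inf_le_left)
    intro z hz
    refine Subgroup.mem_inf.2 ⟨hz.1, Subgroup.mem_inf.2 ⟨hz.2, ?_⟩⟩
    rw [Subgroup.mem_centralizer_iff]
    intro x hx
    exact hBcomm x (hXB hx) z (hXB hz.1)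
  -- cardinality count
  have hcard : Nat.card ↥A ≤ Nat.card ↥(X ⊔ C) := by
    have e0 := card_mul_card_le_sup_inf X C
    rw [hXCA] at e0
    have e1 := card_sup_mul_card_inf_of_le_normalizer X A hXN
    rw [sup_comm, hsup] at e1
    have e2 := card_mul_card_le_sup_inf A Ab
    rw [hAbcard] at e2
    have e4 : Nat.card ↥(A ⊓ Ab) ≤ Nat.card ↥C := Subgroup.card_le_of_le hinfC
    have hxpos : 0 < Nat.card ↥X := Nat.card_pos
    have hjpos : 0 < Nat.card ↥(A ⊓ Ab) := Nat.card_pos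
    have hipos : 0 < Nat.card ↥(X ⊓ A) := Nat.card_pos
    -- t * a ≥ c * s
    have f1 : Nat.card ↥C * Nat.card ↥(A ⊔ Ab) ≤ Nat.card ↥(X ⊔ C) * Nat.card ↥A := by
      apply Nat.le_of_mul_le_mul_right _ (Nat.mul_pos hxpos hipos)
      calc Nat.card ↥C * Nat.card ↥(A ⊔ Ab) * (Nat.card ↥X * Nat.card ↥(X ⊓ A))
          = (Nat.card ↥X * Nat.card ↥C) * (Nat.card ↥(A ⊔ Ab) * Nat.card ↥(X ⊓ A)) := by ring
        _ ≤ (Nat.card ↥(X ⊔ C) * Nat.card ↥(X ⊓ A)) * (Nat.card ↥(A ⊔ Ab) * Nat.card ↥(X ⊓ A)) :=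
          Nat.mul_le_mul_right _ e0
        _ = (Nat.card ↥(X ⊔ C) * Nat.card ↥(X ⊓ A)) * (Nat.card ↥X * Nat.card ↥A) := by rw [e1]
        _ = Nat.card ↥(X ⊔ C) * Nat.card ↥A * (Nat.card ↥X * Nat.card ↥(X ⊓ A)) := by ring
    apply Nat.le_of_mul_le_mul_right _ hjpos
    apply Nat.le_of_mul_le_mul_right _ (Nat.card_pos (α := ↥A))
    calc Nat.card ↥A * Nat.card ↥(A ⊓ Ab) * Nat.card ↥A
        ≤ Nat.card ↥A * Nat.card ↥C * Nat.card ↥A := by gcongr
      _ = Nat.card ↥C * (Nat.card ↥A * Nat.card ↥A) := by ring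
      _ ≤ Nat.card ↥C * (Nat.card ↥(A ⊔ Ab) * Nat.card ↥(A ⊓ Ab)) := Nat.mul_le_mul_left _ e2
      _ = (Nat.card ↥C * Nat.card ↥(A ⊔ Ab)) * Nat.card ↥(A ⊓ Ab) := by ring
      _ ≤ (Nat.card ↥(X ⊔ C) * Nat.card ↥A) * Nat.card ↥(A ⊓ Ab) := Nat.mul_le_mul_right _ f1
      _ = Nat.card ↥(X ⊔ C) * Nat.card ↥(A ⊓ Ab) * Nat.card ↥A := by ring
  refine ⟨X ⊔ C, ⟨hstar, fun B' hB' => (hAmax B' hB').trans hcard⟩, ?_, ?_⟩
  · -- strict increase of the intersection with `B`
    have hle : A ⊓ B ≤ (X ⊔ C) ⊓ B := by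
      apply le_inf _ inf_le_right
      intro z hz
      apply Subgroup.mem_sup_right
      refine Subgroup.mem_inf.2 ⟨hz.1, ?_⟩
      rw [Subgroup.mem_centralizer_iff]
      intro x hx
      exact hBcomm x (hXB hx) z hz.2
    refine lt_of_le_of_ne hle ?_
    intro heq
    apply hbN
    apply mem_normalizer_of_map_conj_le
    rintro _ ⟨a, ha, rfl⟩
    simp only [MulEquiv.coe_toMonoidHom, MulAut.conj_apply]
    have hx : b * a * b⁻¹ * a⁻¹ ∈ X := Subgroup.subset_closure ⟨a, ha, rfl⟩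
    have hx' : b * a * b⁻¹ * a⁻¹ ∈ (X ⊔ C) ⊓ B := ⟨Subgroup.mem_sup_left hx, hXB hx⟩
    rw [← heq] at hx'
    have e : b * a * b⁻¹ = (b * a * b⁻¹ * a⁻¹) * a := by group
    rw [e]
    exact A.mul_mem hx'.1 ha
  · exact sup_le hXN (inf_le_left.trans Subgroup.le_normalizer)

end Cfsg.Agent.helper15
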