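import Mathlib
import Cfsg.Prelude.Def_Transfer

/-! Quadratic action and abelian normal `p'`-subgroups (helper23).

If `a` acts quadratically on an elementary abelian `p`-group `V` (`p` odd) and the elements
`a b⁻¹`, `a² b⁻²` (`b = x⁻¹ a x`) commute on `V`, then `a b⁻¹` acts on `V` as a `p`-element. -/

set_option autoImplicit false
set_option linter.style.haveILetI false
set_option linter.unusedSimpArgs false
open scoped commutatorElement

namespace Cfsg.Agent.helper23

theorem ring_nilp {R : Type*} [Ring R] (n m : R) (hn : n * n = 0) (hm : m * m = 0)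
    (h2 : ∀ r : R, r + r = 0 → r = 0)
    (hc : (1 + (n - m) - n * m) * (1 + 2 * (n - m) - 4 * (n * m))
        = (1 + 2 * (n - m) - 4 * (n * m)) * (1 + (n - m) - n * m)) :
    (n - m - n * m) ^ 4 = 0 := by
  have id1 : (1 + (n - m) - n * m) * (1 + 2 * (n - m) - 4 * (n * m))
        - (1 + 2 * (n - m) - 4 * (n * m)) * (1 + (n - m) - n * m)
        = 2 * (n * m * n - n * (m * m) - (n * n) * m + m * n * m) := by
    noncomm_ring
  have key : 2 * (n * m * n - n * (m * m) - (n * n) * m + m * n * m) = 0 := by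
    rw [← id1]; exact sub_eq_zero.mpr hc
  rw [two_mul] at key
  have h := h2 _ key
  rw [hn, hm, mul_zero, zero_mul, sub_zero, sub_zero] at h
  have h3 : n * (m * n) = -(m * (n * m)) := by
    rw [← mul_assoc, ← mul_assoc]; exact eq_neg_of_add_eq_zero_left h
  have hx' : ∀ r, n * (n * r) = 0 := fun r => by rw [← mul_assoc, hn, zero_mul]
  have hy' : ∀ r, m * (m * r) = 0 := fun r => by rw [← mul_assoc, hm, zero_mul]
  have h' : ∀ r, n * (m * (n * r)) = -(m * (n * (m * r))) := fun r => by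
    rw [← mul_assoc m n r, ← mul_assoc n (m * n) r, h3, neg_mul, mul_assoc, mul_assoc]
  have hu2 : (n - m - n * m) * (n - m - n * m) = m * (n * m) + m * (n * m) - n * m - m * n := by
    simp only [sub_mul, mul_sub, mul_assoc, hx', hy', h', hn, hm, h3,
      neg_mul, mul_neg, neg_neg, neg_zero, sub_zero, zero_sub, mul_zero, zero_mul]
    abel
  have e4 : (n - m - n * m) ^ 4
      = ((n - m - n * m) * (n - m - n * m)) * ((n - m - n * m) * (n - m - n * m)) := by
    noncomm_ring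
  rw [e4, hu2]
  simp only [sub_mul, mul_sub, add_mul, mul_add, mul_assoc, hx', hy', h', hn, hm, h3,
      neg_mul, mul_neg, neg_neg, neg_zero, sub_zero, zero_sub, mul_zero, zero_mul, add_zero,
      sub_self]

theorem ring_aux {R : Type*} [Ring R] (n m : R) (hn : n * n = 0) (hm : m * m = 0) :
    (1 + m) * (1 - m) = 1 ∧ (1 + n) * (1 - m) = 1 + (n - m) - n * m ∧
      (1 + n) ^ 2 * (1 - m) ^ 2 = 1 + 2 * (n - m) - 4 * (n * m) := by
  refine ⟨?_, ?_, ?_⟩
  · have : (1 + m) * (1 - m) = 1 - m * m := by noncomm_ring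
    rw [this, hm, sub_zero]
  · noncomm_ring
  · have e1 : (1 + n) ^ 2 = 1 + 2 * n + n * n := by noncomm_ring
    have e2 : (1 - m) ^ 2 = 1 - 2 * m + m * m := by noncomm_ring
    rw [e1, e2, hn, hm]; noncomm_ring

/-- the additive endomorphism of an automorphism of a commutative group -/
def autEnd {E : Type*} [CommGroup E] : MulAut E →* AddMonoid.End (Additive E) where
  toFun φ := MonoidHom.toAdditive φ.toMonoidHom
  map_one' := rfl
  map_mul' _ _ := rfl

theorem autEnd_apply {E : Type*} [CommGroup E] (φ : MulAut E) (v : Additive E) :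
    autEnd φ v = Additive.ofMul (φ (Additive.toMul v)) := rfl

theorem autEnd_injective {E : Type*} [CommGroup E] : Function.Injective (autEnd (E := E)) := by
  intro φ ψ h
  ext v
  have := congrArg (fun f : AddMonoid.End (Additive E) => f (Additive.ofMul v)) h
  exact Additive.ofMul.injective this

theorem quad_unip {E : Type*} [CommGroup E] {p : ℕ} [hp : Fact p.Prime] (hp2 : p ≠ 2)
    (he : ∀ v : E, v ^ p = 1) (α ξ : MulAut E) (hα : ∀ v, α (α v / v) = α v / v)
    (hcomm : Commute (α * (ξ⁻¹ * α * ξ)⁻¹) (α ^ 2 * ((ξ⁻¹ * α * ξ)⁻¹) ^ 2)) :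
    (α * (ξ⁻¹ * α * ξ)⁻¹) ^ (p ^ 2) = 1 := by
  rcases subsingleton_or_nontrivial E with hE | hE
  · ext v; exact Subsingleton.elim _ _
  set β : MulAut E := ξ⁻¹ * α * ξ with hβdef
  have hβ : ∀ v, β (β v / v) = β v / v := by
    intro v
    have h1 : ∀ w, β w = ξ⁻¹ (α (ξ w)) := fun w => rfl
    have h2 := hα (ξ v)
    rw [h1 v]
    have h3 : ξ⁻¹ (α (ξ v)) / v = ξ⁻¹ (α (ξ v) / ξ v) := by
      rw [map_div]; congr 1; exact (ξ.symm_apply_apply v).symm
    rw [h3, h1, MulAut.apply_inv_self, h2]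
  have hpa : ∀ w : Additive E, p • w = 0 := fun w => by
    change Additive.ofMul ((Additive.toMul w) ^ p) = 0
    rw [he]; rfl
  haveI : Nontrivial (Additive E) := inferInstanceAs (Nontrivial E)
  haveI : Nontrivial (AddMonoid.End (Additive E)) := by
    obtain ⟨w, hw⟩ := exists_ne (0 : Additive E)
    refine ⟨⟨1, 0, fun h => hw ?_⟩⟩
    exact congrArg (fun f : AddMonoid.End (Additive E) => f w) h
  have hpR : (p : AddMonoid.End (Additive E)) = 0 := by
    ext w
    exact hpa w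
  haveI : CharP (AddMonoid.End (Additive E)) p := (CharP.charP_iff_prime_eq_zero hp.out).mpr hpR
  obtain ⟨k, hk⟩ : ∃ k, p = 2 * k + 1 := by
    rcases hp.out.eq_two_or_odd' with h | h
    · exact absurd h hp2
    · exact h
  have h2R : ∀ r : AddMonoid.End (Additive E), r + r = 0 → r = 0 := by
    intro r hr
    ext w
    have h1 : r w + r w = 0 := congrArg (fun f : AddMonoid.End (Additive E) => f w) hr
    have h3 := hpa (r w)
    have h4 : (2 * k + 1) • r w = k • (r w + r w) + r w := by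
      rw [nsmul_add, add_nsmul, one_nsmul, two_mul, add_nsmul]
    rw [hk, h4, h1, nsmul_zero, zero_add] at h3
    exact h3
  set n : AddMonoid.End (Additive E) := autEnd α - 1 with hn
  set m : AddMonoid.End (Additive E) := autEnd β - 1 with hm
  have hnn : n * n = 0 := by
    ext w
    have h1 := hα (Additive.toMul w)
    have h2 : (n * n) w = autEnd α (autEnd α w - w) - (autEnd α w - w) := rfl
    rw [h2]
    have h3 : autEnd α (autEnd α w - w) = autEnd α w - w := by
      change Additive.ofMul (α (α (Additive.toMul w) / Additive.toMul w))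
        = Additive.ofMul (α (Additive.toMul w) / Additive.toMul w)
      rw [h1]
    rw [h3, sub_self]; rfl
  have hmm : m * m = 0 := by
    ext w
    have h1 := hβ (Additive.toMul w)
    have h2 : (m * m) w = autEnd β (autEnd β w - w) - (autEnd β w - w) := rfl
    rw [h2]
    have h3 : autEnd β (autEnd β w - w) = autEnd β w - w := by
      change Additive.ofMul (β (β (Additive.toMul w) / Additive.toMul w))
        = Additive.ofMul (β (Additive.toMul w) / Additive.toMul w)
      rw [h1]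
    rw [h3, sub_self]; rfl
  have hTα : autEnd α = 1 + n := (add_sub_cancel 1 (autEnd α)).symm
  have hTβ : autEnd β = 1 + m := (add_sub_cancel 1 (autEnd β)).symm
  have hTβi : autEnd β⁻¹ = 1 - m := by
    have h1 : autEnd β⁻¹ * autEnd β = 1 := by rw [← map_mul, inv_mul_cancel, map_one]
    have h2 : (1 + m) * (1 - m) = 1 := (ring_aux n m hnn hmm).1
    calc autEnd β⁻¹ = autEnd β⁻¹ * ((1 + m) * (1 - m)) := by rw [h2, mul_one]
      _ = (autEnd β⁻¹ * autEnd β) * (1 - m) := by rw [hTβ, mul_assoc]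
      _ = 1 - m := by rw [h1, one_mul]
  have hT1 : autEnd (α * β⁻¹) = 1 + (n - m) - n * m := by
    rw [map_mul, hTα, hTβi]; exact (ring_aux n m hnn hmm).2.1
  have hT2 : autEnd (α ^ 2 * (β⁻¹) ^ 2) = 1 + 2 * (n - m) - 4 * (n * m) := by
    rw [map_mul, map_pow, map_pow, hTα, hTβi]; exact (ring_aux n m hnn hmm).2.2
  have hc : (1 + (n - m) - n * m) * (1 + 2 * (n - m) - 4 * (n * m))
        = (1 + 2 * (n - m) - 4 * (n * m)) * (1 + (n - m) - n * m) := by
    rw [← hT1, ← hT2, ← map_mul, ← map_mul, hcomm.eq]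
  have hu4 := ring_nilp n m hnn hmm h2R hc
  have hTu : autEnd (α * β⁻¹) = 1 + (n - m - n * m) := by rw [hT1]; abel
  apply autEnd_injective
  rw [map_pow, map_one, hTu, add_pow_char_pow_of_commute p 2 (Commute.one_left _), one_pow]
  have h9 : 4 ≤ p ^ 2 := by
    have h3 : 3 ≤ p := by
      have := hp.out.two_le
      omega
    nlinarith
  rw [pow_eq_zero_of_le h9 hu4, add_zero]

theorem quad_unip' {E : Type*} [Group E] {p : ℕ} [hp : Fact p.Prime] (hp2 : p ≠ 2)
    (hc : ∀ a b : E, a * b = b * a)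
    (he : ∀ v : E, v ^ p = 1) (α ξ : MulAut E) (hα : ∀ v, α (α v * v⁻¹) = α v * v⁻¹)
    (hcomm : Commute (α * (ξ⁻¹ * α * ξ)⁻¹) (α ^ 2 * ((ξ⁻¹ * α * ξ)⁻¹) ^ 2)) :
    (α * (ξ⁻¹ * α * ξ)⁻¹) ^ (p ^ 2) = 1 :=
  @quad_unip E { (inferInstance : Group E) with mul_comm := hc } p hp hp2 he α ξ
    (fun v => by rw [div_eq_mul_inv]; exact hα v) hcomm

/-- `p` odd, `V` a normal elementary abelian `p`-subgroup, `K` normal with `K' ≤ C(V)`; if `a` acts
quadratically on `V` then for `x ∈ K` the element `a (x⁻¹ a x)⁻¹ ∈ K` has `p²`-th power in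
`C(V)`. -/
theorem quad_pow_mem_centralizer {X : Type*} [Group X] {p : ℕ} [hp : Fact p.Prime] (hp2 : p ≠ 2)
    (V : Subgroup X) [hVn : V.Normal] (hV : Cfsg.IsElementaryAbelian p V)
    (K : Subgroup X) [hKn : K.Normal] (hKV : ⁅K, K⁆ ≤ Subgroup.centralizer (V : Set X))
    (a : X) (hquad : ∀ v ∈ V, a * (a * v * a⁻¹ * v⁻¹) * a⁻¹ = a * v * a⁻¹ * v⁻¹)
    (x : X) (hx : x ∈ K) :
    (a * (x⁻¹ * a * x)⁻¹) ^ (p ^ 2) ∈ Subgroup.centralizer (V : Set X) := by
  have hcV : ∀ u v : V, u * v = v * u := fun u v => hV.1.is_comm.comm u v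
  have heV : ∀ v : V, v ^ p = 1 := fun v => by
    apply Subtype.ext
    rw [Subgroup.coe_pow, Subgroup.coe_one]
    exact hV.2 v v.2
  set α : MulAut V := MulAut.conjNormal a with hαdef
  set ξ : MulAut V := MulAut.conjNormal x with hξdef
  have hα : ∀ v : V, α (α v * v⁻¹) = α v * v⁻¹ := by
    intro v
    apply Subtype.ext
    have h1 := hquad v v.2
    simp only [hαdef, MulAut.conjNormal_apply, Subgroup.coe_mul, Subgroup.coe_inv]
    exact h1
  set c₁ : X := a * (x⁻¹ * a * x)⁻¹ with hc₁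
  set c₂ : X := a ^ 2 * ((x⁻¹ * a * x)⁻¹) ^ 2 with hc₂
  have e1 : (MulAut.conjNormal c₁ : MulAut V) = α * (ξ⁻¹ * α * ξ)⁻¹ := by
    rw [hc₁, map_mul, map_inv, map_mul, map_mul, map_inv]
  have e2 : (MulAut.conjNormal c₂ : MulAut V) = α ^ 2 * ((ξ⁻¹ * α * ξ)⁻¹) ^ 2 := by
    rw [hc₂, map_mul, map_pow, map_pow, map_inv, map_mul, map_mul, map_inv]
  have hcent : ∀ g : X, g ∈ Subgroup.centralizer (V : Set X) →
      (MulAut.conjNormal g : MulAut V) = 1 := by
    intro g hg
    ext v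
    rw [MulAut.conjNormal_apply, MulAut.one_apply]
    have := Subgroup.mem_centralizer_iff.mp hg v v.2
    rw [← this, mul_inv_cancel_right]
  have hc₁K : c₁ ∈ K := by
    have h1 : c₁ = (a * x⁻¹ * a⁻¹) * x := by rw [hc₁]; group
    rw [h1]
    exact K.mul_mem (hKn.conj_mem _ (K.inv_mem hx) a) hx
  have hc₂K : c₂ ∈ K := by
    have h1 : c₂ = (a ^ 2 * x⁻¹ * (a ^ 2)⁻¹) * x := by
      rw [hc₂]; simp only [pow_two]; group
    rw [h1]
    exact K.mul_mem (hKn.conj_mem _ (K.inv_mem hx) (a ^ 2)) hx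
  have hcomm : Commute (α * (ξ⁻¹ * α * ξ)⁻¹) (α ^ 2 * ((ξ⁻¹ * α * ξ)⁻¹) ^ 2) := by
    rw [← e1, ← e2, ← commutatorElement_eq_one_iff_commute, ← map_commutatorElement]
    exact hcent _ (hKV (Subgroup.commutator_mem_commutator hc₁K hc₂K))
  have key := quad_unip' hp2 hcV heV α ξ hα hcomm
  rw [← e1, ← map_pow] at key
  rw [Subgroup.mem_centralizer_iff]
  intro v hv
  have h1 := congrArg (fun φ : MulAut V => ((φ ⟨v, hv⟩ : V) : X)) key
  simp only [MulAut.conjNormal_apply, MulAut.one_apply] at h1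
  calc v * c₁ ^ (p ^ 2) = (c₁ ^ (p ^ 2) * v * (c₁ ^ (p ^ 2))⁻¹) * c₁ ^ (p ^ 2) := by rw [h1]
    _ = c₁ ^ (p ^ 2) * v := by rw [inv_mul_cancel_right]

end Cfsg.Agent.helper23
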