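import Mathlib
import Cfsg.Agent.Lib_helper10_Thompson3

/-! Thompson's normal `p`-complement criterion with two functors: `N(W₁(S))` and `C(W₂(S))`
(helper23). Adapted from helper10's functor form. -/

set_option autoImplicit false
set_option linter.style.haveILetI false

namespace Cfsg.Agent.helper23

open Cfsg.Agent.helper10 Cfsg.Agent.lead

universe u

section prep

variable {X : Type u} [Group X] [Finite X] {p : ℕ} [hp : Fact p.Prime]

local notation:max K "^[" g "]" => Subgroup.map (MulEquiv.toMonoidHom (MulAut.conj g)) K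

theorem npc_centralizer_of_normalizer (V : Subgroup X)
    (h : Cfsg.HasNormalPComplement p ↥(Subgroup.normalizer (V : Set X))) :
    Cfsg.HasNormalPComplement p ↥(Subgroup.centralizer (V : Set X)) :=
  npc_of_injective (Subgroup.inclusion (Subgroup.centralizer_le_normalizer (V : Set X)))
    (Subgroup.inclusion_injective _) h

theorem centralizer_map_conj (V : Subgroup X) (g : X) :
    Subgroup.centralizer ((V^[g] : Subgroup X) : Set X) =
      (Subgroup.centralizer (V : Set X))^[g] := by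
  ext x
  rw [mem_map_conj_iff, Subgroup.mem_centralizer_iff, Subgroup.mem_centralizer_iff]
  constructor
  · intro h v hv
    have h1 := h (g * v * g⁻¹) (conj_mem_map_conj V g v hv)
    calc v * (g⁻¹ * x * g) = g⁻¹ * ((g * v * g⁻¹) * x) * g := by group
      _ = g⁻¹ * (x * (g * v * g⁻¹)) * g := by rw [h1]
      _ = g⁻¹ * x * g * v := by group
  · intro h w hw
    have hw' : g⁻¹ * w * g ∈ V := (mem_map_conj_iff V g w).mp hw
    have h1 := h _ hw'
    calc w * x = g * ((g⁻¹ * w * g) * (g⁻¹ * x * g)) * g⁻¹ := by group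
      _ = g * ((g⁻¹ * x * g) * (g⁻¹ * w * g)) * g⁻¹ := by rw [h1]
      _ = x * w := by group

theorem npc_centralizer_conj (V : Subgroup X) (g : X)
    (h : Cfsg.HasNormalPComplement p ↥(Subgroup.centralizer (V : Set X))) :
    Cfsg.HasNormalPComplement p ↥(Subgroup.centralizer ((V^[g] : Subgroup X) : Set X)) := by
  rw [centralizer_map_conj]
  exact npc_map_conj _ g h

/-- If `C_X(V'.map H.subtype)` has a normal `p`-complement, so has `C_H(V')`. -/
theorem npc_centralizer_of_map_subtype (H : Subgroup X) (V' : Subgroup H)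
    (h : Cfsg.HasNormalPComplement p
      ↥(Subgroup.centralizer (((V'.map H.subtype : Subgroup X)) : Set X))) :
    Cfsg.HasNormalPComplement p ↥(Subgroup.centralizer (V' : Set H)) := by
  let f : ↥(Subgroup.centralizer (V' : Set H)) →*
      ↥(Subgroup.centralizer (((V'.map H.subtype : Subgroup X)) : Set X)) :=
    (H.subtype.comp (Subgroup.centralizer (V' : Set H)).subtype).codRestrict _
      (fun x => by
        rw [Subgroup.mem_centralizer_iff]
        rintro _ ⟨v, hv, rfl⟩
        have := Subgroup.mem_centralizer_iff.mp x.2 v hv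
        have h2 := congrArg Subtype.val this
        simpa using h2)
  apply npc_of_injective f _ h
  intro a b hab
  have h0 : ((f a : ↥(Subgroup.centralizer (((V'.map H.subtype : Subgroup X)) : Set X))) : X) =
      ((f b : ↥(Subgroup.centralizer (((V'.map H.subtype : Subgroup X)) : Set X))) : X) := by
    rw [hab]
  have h1 : ((a : H) : X) = ((b : H) : X) := h0
  exact Subtype.ext (Subtype.ext h1)

/-- If `C_X(V)` has a normal `p`-complement, so has `C(V·D/D)` in `X/D`, for `D` a normal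
`p'`-subgroup and `V` normalized by the Sylow subgroup `S ≥ V`. -/
theorem npc_centralizer_map_coprime (S : Sylow p X) (D : Subgroup X) [D.Normal]
    (hD : (Nat.card D).Coprime p) (V : Subgroup X) (hVS : V ≤ (S : Subgroup X))
    (hSV : (S : Subgroup X) ≤ Subgroup.normalizer (V : Set X))
    (h : Cfsg.HasNormalPComplement p ↥(Subgroup.centralizer (V : Set X))) :
    Cfsg.HasNormalPComplement p
      ↥(Subgroup.centralizer (((V.map (QuotientGroup.mk' D) : Subgroup (X ⧸ D))) : Set (X ⧸ D))) := by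
  have hVp : IsPGroup p V := S.isPGroup'.to_le hVS
  let f : ↥(Subgroup.centralizer (V : Set X)) →*
      ↥(Subgroup.centralizer (((V.map (QuotientGroup.mk' D) : Subgroup (X ⧸ D))) : Set (X ⧸ D))) :=
    ((QuotientGroup.mk' D).comp (Subgroup.centralizer (V : Set X)).subtype).codRestrict _
      (fun x => by
        rw [Subgroup.mem_centralizer_iff]
        rintro _ ⟨v, hv, rfl⟩
        have := Subgroup.mem_centralizer_iff.mp x.2 v hv
        show (QuotientGroup.mk' D) v * (QuotientGroup.mk' D) (x : X)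
          = (QuotientGroup.mk' D) (x : X) * (QuotientGroup.mk' D) v
        rw [← map_mul, ← map_mul, this])
  apply npc_of_surjective f _ h
  rintro ⟨y, hy⟩
  obtain ⟨x, rfl⟩ := QuotientGroup.mk'_surjective D y
  have hyN : (QuotientGroup.mk' D) x ∈ Subgroup.normalizer
      (((V.map (QuotientGroup.mk' D) : Subgroup (X ⧸ D))) : Set (X ⧸ D)) :=
    Subgroup.centralizer_le_normalizer _ hy
  have hx : x ∈ Subgroup.normalizer (((V ⊔ D : Subgroup X)) : Set X) := by
    have h1 : x ∈ (Subgroup.normalizer (((V.map (QuotientGroup.mk' D) :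
        Subgroup (X ⧸ D))) : Set (X ⧸ D))).comap (QuotientGroup.mk' D) := hyN
    have h2 := Subgroup.le_normalizer_comap (QuotientGroup.mk' D) h1
    rw [Subgroup.comap_map_eq, QuotientGroup.ker_mk'] at h2
    exact h2
  obtain ⟨d, hdN, hdD, -⟩ := correct_step S D hD V hVS hSV x hx (V : Set X)
    (fun v hv => hVS hv)
    (by
      rintro _ ⟨v, hv, rfl⟩
      have h3 : x * v * x⁻¹ ∈ V ⊔ D :=
        (Subgroup.mem_normalizer_iff.mp hx v).mp (Subgroup.mem_sup_left hv)
      exact (sup_le_sup_right hVS D) h3)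
  have hdx : (QuotientGroup.mk' D) d = (QuotientGroup.mk' D) x := by
    have h3 : d = (d * x⁻¹) * x := by group
    rw [h3, map_mul]
    have h4 : (QuotientGroup.mk' D) (d * x⁻¹) = 1 := by
      have : d * x⁻¹ ∈ (QuotientGroup.mk' D).ker := by rw [QuotientGroup.ker_mk']; exact hdD
      exact this
    rw [h4, one_mul]
  have hdC : d ∈ Subgroup.centralizer (V : Set X) := by
    rw [Subgroup.mem_centralizer_iff]
    intro v hv
    have h5 : d * v * d⁻¹ * v⁻¹ ∈ V :=
      V.mul_mem ((Subgroup.mem_normalizer_iff.mp hdN v).mp hv) (V.inv_mem hv)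
    have h6 : d * v * d⁻¹ * v⁻¹ ∈ D := by
      rw [← QuotientGroup.ker_mk' D, MonoidHom.mem_ker]
      simp only [map_mul, map_inv]
      rw [hdx]
      have h7 := Subgroup.mem_centralizer_iff.mp hy ((QuotientGroup.mk' D) v) ⟨v, hv, rfl⟩
      rw [← h7]; group
    have h8 := eq_one_of_mem_of_coprime V D hVp hD _ h5 h6
    calc v * d = (d * v * d⁻¹ * v⁻¹)⁻¹ * (d * v) := by group
      _ = d * v := by rw [h8]; group
  exact ⟨⟨d, hdC⟩, Subtype.ext hdx⟩

end prep

section steps

variable {X : Type u} [Group X] [Finite X] {p : ℕ} [hp : Fact p.Prime]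
  {W₁ W₂ : ∀ (Q : Type u) [Group Q], Subgroup Q}

local notation:max K "^[" g "]" => Subgroup.map (MulEquiv.toMonoidHom (MulAut.conj g)) K

/-- the pair hypothesis: `N(W₁(S))` and `C(W₂(S))` have normal `p`-complements -/
def HypNC (p : ℕ) (W₁ W₂ : ∀ (Q : Type u) [Group Q], Subgroup Q) (X : Type u) [Group X]
    (S : Subgroup X) : Prop :=
  Cfsg.HasNormalPComplement p ↥(Subgroup.normalizer
      ((Cfsg.inducedFunctor W₁ S : Subgroup X) : Set X)) ∧
    Cfsg.HasNormalPComplement p ↥(Subgroup.centralizer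
      ((Cfsg.inducedFunctor W₂ S : Subgroup X) : Set X))

theorem hypNC_conj (hW₁ : Cfsg.IsCharPFunctor.{u} p W₁) (hW₂ : Cfsg.IsCharPFunctor.{u} p W₂)
    (S : Subgroup X) (hS : IsPGroup p S) (g : X) (h : HypNC p W₁ W₂ X S) :
    HypNC p W₁ W₂ X (S^[g]) := by
  have hF₁ := induced_isConjugacyFunctor (X := X) W₁ hW₁
  have hF₂ := induced_isConjugacyFunctor (X := X) W₂ hW₂
  refine ⟨?_, ?_⟩
  · rw [(hF₁ S hS).2.2 g]
    exact npc_normalizer_conj _ g h.1
  · rw [(hF₂ S hS).2.2 g]
    exact npc_centralizer_conj _ g h.2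

/-- the hypothesis for `T` of the order of a Sylow subgroup of the extremal normalizer. -/
theorem hypNC_of_card (hW₁ : Cfsg.IsCharPFunctor.{u} p W₁) (hW₂ : Cfsg.IsCharPFunctor.{u} p W₂)
    (S : Sylow p X) (hN : HypNC p W₁ W₂ X (S : Subgroup X))
    (T : Subgroup X) (a : ℕ) (hT : Nat.card T = p ^ a) (hT1 : T ≠ ⊥)
    (hM1 : ∀ H' : Subgroup X, IsPGroup p H' → H' ≠ ⊥ →
      p ^ (a + 1) ∣ Nat.card ↥(Subgroup.normalizer (H' : Set X)) →
      Cfsg.HasNormalPComplement p ↥(Subgroup.normalizer (H' : Set X))) :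
    HypNC p W₁ W₂ X T := by
  have hTp : IsPGroup p T := IsPGroup.of_card hT
  have hF₁ := induced_isConjugacyFunctor (X := X) W₁ hW₁
  have hF₂ := induced_isConjugacyFunctor (X := X) W₂ hW₂
  by_cases hidx : p ∣ T.index
  · have h1 := pow_succ_dvd_card_normalizer T a hT hidx
    have h2 : ∀ (W : ∀ (Q : Type u) [Group Q], Subgroup Q),
        Cfsg.IsConjugacyFunctor p (Cfsg.inducedFunctor (G := X) W) →
        Cfsg.HasNormalPComplement p ↥(Subgroup.normalizer
          ((Cfsg.inducedFunctor W T : Subgroup X) : Set X)) := by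
      intro W hF
      have h3 : Subgroup.normalizer (T : Set X) ≤
          Subgroup.normalizer ((Cfsg.inducedFunctor W T : Subgroup X) : Set X) := by
        intro g hg
        rw [mem_normalizer_iff_map_conj] at hg ⊢
        rw [← (hF T hTp).2.2 g, hg]
      exact hM1 _ (hTp.to_le (hF T hTp).1) ((hF T hTp).2.1 hT1)
        (dvd_trans h1 (Subgroup.card_dvd_of_le h3))
    exact ⟨h2 W₁ hF₁, npc_centralizer_of_normalizer _ (h2 W₂ hF₂)⟩
  · obtain ⟨g, hg⟩ := MulAction.exists_smul_eq X S (hTp.toSylow hidx)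
    have h3 : T = (S : Subgroup X)^[g] := by
      have h4 := congrArg (fun Q : Sylow p X => (Q : Subgroup X)) hg
      simp only [sylow_smul_eq_map_conj] at h4
      rw [h4]
      rfl
    rw [h3]
    exact hypNC_conj hW₁ hW₂ _ S.isPGroup' g hN

/-- the hypothesis passes to a subgroup `H` and a `p`-subgroup `S₁` of it -/
theorem hypNC_of_map_subtype (hW₁ : Cfsg.IsCharPFunctor.{u} p W₁)
    (hW₂ : Cfsg.IsCharPFunctor.{u} p W₂) (H : Subgroup X) (S₁ : Subgroup H) (hS₁ : IsPGroup p S₁)
    (h : HypNC p W₁ W₂ X (S₁.map H.subtype)) : HypNC p W₁ W₂ H S₁ := by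
  refine ⟨?_, ?_⟩
  · apply npc_normalizer_of_map_subtype
    rw [← induced_map_of_injOn W₁ hW₁ H.subtype S₁ hS₁ (fun x _ hx => Subtype.ext hx)]
    exact h.1
  · apply npc_centralizer_of_map_subtype
    rw [← induced_map_of_injOn W₂ hW₂ H.subtype S₁ hS₁ (fun x _ hx => Subtype.ext hx)]
    exact h.2

/-- Step 3: the extremal bad subgroup is normal. -/
theorem normalizer_eq_top_of_extremal2 (hW₁ : Cfsg.IsCharPFunctor.{u} p W₁)
    (hW₂ : Cfsg.IsCharPFunctor.{u} p W₂) (S : Sylow p X)
    (hN : HypNC p W₁ W₂ X (S : Subgroup X))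
    (IHsub : ∀ H : Subgroup X, H ≠ ⊤ → ∀ S₁ : Sylow p H,
      HypNC p W₁ W₂ H (S₁ : Subgroup H) → Cfsg.HasNormalPComplement p H)
    (H : Subgroup X) (hHp : IsPGroup p H) (hH1 : H ≠ ⊥)
    (hHbad : ¬ Cfsg.HasNormalPComplement p ↥(Subgroup.normalizer (H : Set X)))
    (hM1 : ∀ H' : Subgroup X, IsPGroup p H' → H' ≠ ⊥ →
      p ^ ((Nat.card ↥(Subgroup.normalizer (H : Set X))).factorization p + 1) ∣
        Nat.card ↥(Subgroup.normalizer (H' : Set X)) →
      Cfsg.HasNormalPComplement p ↥(Subgroup.normalizer (H' : Set X))) :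
    Subgroup.normalizer (H : Set X) = ⊤ := by
  by_contra hne
  apply hHbad
  obtain ⟨S₁⟩ : Nonempty (Sylow p ↥(Subgroup.normalizer (H : Set X))) := inferInstance
  apply IHsub _ hne S₁
  apply hypNC_of_map_subtype hW₁ hW₂ _ _ S₁.isPGroup'
  have hcard : Nat.card ↥((S₁ : Subgroup ↥(Subgroup.normalizer (H : Set X))).map
      (Subgroup.normalizer (H : Set X)).subtype) =
      p ^ ((Nat.card ↥(Subgroup.normalizer (H : Set X))).factorization p) := by
    rw [Subgroup.card_map_of_injective (Subgroup.subtype_injective _)]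
    exact Sylow.card_eq_multiplicity S₁
  apply hypNC_of_card hW₁ hW₂ S hN _ _ hcard _ hM1
  intro hbot
  rw [hbot, Subgroup.card_bot] at hcard
  have hpH : p ∣ Nat.card H := by
    obtain ⟨k, hk⟩ := IsPGroup.iff_card.mp hHp
    have hk0 : k ≠ 0 := by
      intro h0
      rw [h0, pow_zero, Subgroup.card_eq_one] at hk
      exact hH1 hk
    rw [hk]
    exact dvd_pow_self p hk0
  have hpN : p ∣ Nat.card ↥(Subgroup.normalizer (H : Set X)) :=
    dvd_trans hpH (Subgroup.card_dvd_of_le Subgroup.le_normalizer)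
  have hpos := hp.out.factorization_pos_of_dvd Nat.card_pos.ne' hpN
  have := Nat.one_lt_pow hpos.ne' hp.out.one_lt
  omega

/-- Step 5: `X / O_p(X)` has a normal `p`-complement. -/
theorem npc_quotient_pCore2 (hW₁ : Cfsg.IsCharPFunctor.{u} p W₁)
    (hW₂ : Cfsg.IsCharPFunctor.{u} p W₂) (S : Sylow p X)
    (IHquot : ∀ (N : Subgroup X) [N.Normal], N ≠ ⊥ → ∀ S' : Sylow p (X ⧸ N),
      HypNC p W₁ W₂ (X ⧸ N) (S' : Subgroup (X ⧸ N)) → Cfsg.HasNormalPComplement p (X ⧸ N))
    (hP1 : Cfsg.pCore p X ≠ ⊥)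
    (hM2 : ∀ U : Subgroup X, IsPGroup p U →
      (S : Subgroup X) ≤ Subgroup.normalizer (U : Set X) →
      Nat.card (Cfsg.pCore p X) < Nat.card U →
      Cfsg.HasNormalPComplement p ↥(Subgroup.normalizer (U : Set X))) :
    Cfsg.HasNormalPComplement p (X ⧸ Cfsg.pCore p X) := by
  have hPS : Cfsg.pCore p X ≤ (S : Subgroup X) := Cfsg.Agent.helper1.pCore_le_sylow S
  have hsurj : Function.Surjective (QuotientGroup.mk' (Cfsg.pCore p X)) :=
    QuotientGroup.mk'_surjective _
  by_cases hSP : (S : Subgroup X) ≤ Cfsg.pCore p X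
  · apply npc_of_not_dvd
    have hSeq : (S : Subgroup X) = Cfsg.pCore p X := le_antisymm hSP hPS
    rw [← Subgroup.index_eq_card, ← hSeq]
    exact S.not_dvd_index
  · obtain ⟨S', hS'⟩ : ∃ S' : Sylow p (X ⧸ Cfsg.pCore p X),
        (S' : Subgroup (X ⧸ Cfsg.pCore p X)) =
          (S : Subgroup X).map (QuotientGroup.mk' (Cfsg.pCore p X)) :=
      ⟨S.mapSurjective hsurj, rfl⟩
    apply IHquot _ hP1 S'
    rw [hS']
    have key : ∀ (W : ∀ (Q : Type u) [Group Q], Subgroup Q), Cfsg.IsCharPFunctor.{u} p W →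
        Cfsg.HasNormalPComplement p ↥(Subgroup.normalizer
          ((Cfsg.inducedFunctor W ((S : Subgroup X).map (QuotientGroup.mk' (Cfsg.pCore p X))) :
            Subgroup (X ⧸ Cfsg.pCore p X)) : Set (X ⧸ Cfsg.pCore p X))) := by
      intro W hW
      obtain ⟨hne, hSU, -⟩ := preimage_functor_props (𝓦 := {W}) (p := p)
        (fun W' hW' => by rw [Set.mem_singleton_iff.1 hW']; exact hW) S (Cfsg.pCore p X) rfl hPS
        hSP W rfl
      apply npc_normalizer_of_comap (QuotientGroup.mk' (Cfsg.pCore p X)) hsurj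
      have hconjF := induced_isConjugacyFunctor (X := X ⧸ Cfsg.pCore p X) W hW
      have hSbp : IsPGroup p ((S : Subgroup X).map (QuotientGroup.mk' (Cfsg.pCore p X))) :=
        S.isPGroup'.map _
      have hVS := (hconjF _ hSbp).1
      have hSbne : (S : Subgroup X).map (QuotientGroup.mk' (Cfsg.pCore p X)) ≠ ⊥ := by
        intro h
        apply hSP
        have := (Subgroup.map_eq_bot_iff _).1 h
        rwa [QuotientGroup.ker_mk'] at this
      have hVne := (hconjF _ hSbp).2.1 hSbne
      have hUS : (Cfsg.inducedFunctor W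
          ((S : Subgroup X).map (QuotientGroup.mk' (Cfsg.pCore p X)))).comap
            (QuotientGroup.mk' (Cfsg.pCore p X)) ≤ (S : Subgroup X) := by
        refine le_trans (Subgroup.comap_mono hVS) ?_
        rw [Subgroup.comap_map_eq, QuotientGroup.ker_mk', sup_eq_left.2 hPS]
      have hPU : Cfsg.pCore p X ≤ (Cfsg.inducedFunctor W
          ((S : Subgroup X).map (QuotientGroup.mk' (Cfsg.pCore p X)))).comap
            (QuotientGroup.mk' (Cfsg.pCore p X)) := by
        intro x hx
        rw [Subgroup.mem_comap]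
        have : (QuotientGroup.mk' (Cfsg.pCore p X)) x = 1 := by
          have : x ∈ (QuotientGroup.mk' (Cfsg.pCore p X)).ker := by
            rw [QuotientGroup.ker_mk']; exact hx
          exact this
        rw [this]; exact Subgroup.one_mem _
      apply hM2 _ (S.isPGroup'.to_le hUS) hSU
      apply card_lt_card_of_lt
      refine lt_of_le_of_ne hPU ?_
      intro heq
      apply hVne
      rw [← Subgroup.map_comap_eq_self_of_surjective hsurj (Cfsg.inducedFunctor W
          ((S : Subgroup X).map (QuotientGroup.mk' (Cfsg.pCore p X)))), ← heq]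
      rw [Subgroup.map_eq_bot_iff, QuotientGroup.ker_mk']
    exact ⟨key W₁ hW₁, npc_centralizer_of_normalizer _ (key W₂ hW₂)⟩

/-- Step 6: `O_{p'}(X) = 1`. -/
theorem pPrimeCore_eq_bot_of_minimal2 (hW₁ : Cfsg.IsCharPFunctor.{u} p W₁)
    (hW₂ : Cfsg.IsCharPFunctor.{u} p W₂) (S : Sylow p X)
    (hN : HypNC p W₁ W₂ X (S : Subgroup X))
    (hnot : ¬ Cfsg.HasNormalPComplement p X)
    (IHquot : ∀ (N : Subgroup X) [N.Normal], N ≠ ⊥ → ∀ S' : Sylow p (X ⧸ N),
      HypNC p W₁ W₂ (X ⧸ N) (S' : Subgroup (X ⧸ N)) → Cfsg.HasNormalPComplement p (X ⧸ N)) :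
    Cfsg.pPrimeCore p X = ⊥ := by
  by_contra hD
  have : (Cfsg.pPrimeCore p X).Normal := Cfsg.Agent.helper1.pPrimeCore_normal p
  have hDcop : (Nat.card (Cfsg.pPrimeCore p X)).Coprime p :=
    Cfsg.Agent.helper1.pPrimeCore_coprime p
  apply hnot
  apply npc_of_quotient_coprime (Cfsg.pPrimeCore p X) hDcop
  have hsurj : Function.Surjective (QuotientGroup.mk' (Cfsg.pPrimeCore p X)) :=
    QuotientGroup.mk'_surjective _
  obtain ⟨S', hS'⟩ : ∃ S' : Sylow p (X ⧸ Cfsg.pPrimeCore p X),
      (S' : Subgroup (X ⧸ Cfsg.pPrimeCore p X)) =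
        (S : Subgroup X).map (QuotientGroup.mk' (Cfsg.pPrimeCore p X)) :=
    ⟨S.mapSurjective hsurj, rfl⟩
  apply IHquot _ hD S'
  have hF₁ := induced_isConjugacyFunctor (X := X) W₁ hW₁
  have hF₂ := induced_isConjugacyFunctor (X := X) W₂ hW₂
  have hinj : ∀ x ∈ (S : Subgroup X), (QuotientGroup.mk' (Cfsg.pPrimeCore p X)) x = 1 → x = 1 := by
    intro x hxS hx
    have hxD : x ∈ Cfsg.pPrimeCore p X := by
      have : x ∈ (QuotientGroup.mk' (Cfsg.pPrimeCore p X)).ker := hx
      rwa [QuotientGroup.ker_mk'] at this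
    exact eq_one_of_mem_of_coprime (S : Subgroup X) (Cfsg.pPrimeCore p X) S.isPGroup' hDcop x
      hxS hxD
  rw [hS']
  refine ⟨?_, ?_⟩
  · rw [induced_map_of_injOn W₁ hW₁ (QuotientGroup.mk' (Cfsg.pPrimeCore p X)) (S : Subgroup X)
      S.isPGroup' hinj]
    exact npc_normalizer_map_coprime S _ hDcop _ (hF₁ _ S.isPGroup').1
      (sylow_le_normalizer_functor _ hF₁ _ S.isPGroup') hN.1
  · rw [induced_map_of_injOn W₂ hW₂ (QuotientGroup.mk' (Cfsg.pPrimeCore p X)) (S : Subgroup X)
      S.isPGroup' hinj]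
    exact npc_centralizer_map_coprime S _ hDcop _ (hF₂ _ S.isPGroup').1
      (sylow_le_normalizer_functor _ hF₂ _ S.isPGroup') hN.2

/-- Step 7: proper subgroups containing `S` have normal `p`-complements. -/
theorem npc_of_sylow_le_of_ne_top2 (hW₁ : Cfsg.IsCharPFunctor.{u} p W₁)
    (hW₂ : Cfsg.IsCharPFunctor.{u} p W₂) (S : Sylow p X)
    (hN : HypNC p W₁ W₂ X (S : Subgroup X))
    (IHsub : ∀ H : Subgroup X, H ≠ ⊤ → ∀ S₁ : Sylow p H,
      HypNC p W₁ W₂ H (S₁ : Subgroup H) → Cfsg.HasNormalPComplement p H) :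
    ∀ M : Subgroup X, (S : Subgroup X) ≤ M → M ≠ ⊤ → Cfsg.HasNormalPComplement p M := by
  intro M hSM hM
  apply IHsub M hM (S.subtype hSM)
  apply hypNC_of_map_subtype hW₁ hW₂ _ _ (S.subtype hSM).isPGroup'
  have h1 : ((S.subtype hSM : Sylow p M) : Subgroup M).map M.subtype = (S : Subgroup X) := by
    rw [Sylow.coe_subtype, Subgroup.subgroupOf_map_subtype, inf_eq_left.2 hSM]
  rw [h1]
  exact hN

end steps

section main

variable {p : ℕ} [hp : Fact p.Prime] {W₁ W₂ : ∀ (Q : Type u) [Group Q], Subgroup Q}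

/-- Thompson's reduction with two functors: it suffices to treat constrained groups with
`O_{p'} = 1`, `X/O_p(X)` with a normal `p`-complement and a maximal Sylow `p`-subgroup all of
whose proper overgroups have normal `p`-complements. -/
theorem thompson_two (hW₁ : Cfsg.IsCharPFunctor.{u} p W₁) (hW₂ : Cfsg.IsCharPFunctor.{u} p W₂)
    (final : ∀ (X : Type u) [Group X] [Finite X] (S : Sylow p X), Constrained p X →
      Cfsg.pPrimeCore p X = ⊥ → Cfsg.HasNormalPComplement p (X ⧸ Cfsg.pCore p X) →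
      IsCoatom (S : Subgroup X) → HypNC p W₁ W₂ X (S : Subgroup X) →
      (∀ M : Subgroup X, (S : Subgroup X) ≤ M → M ≠ ⊤ → Cfsg.HasNormalPComplement p M) →
      Cfsg.HasNormalPComplement p X) :
    ∀ (n : ℕ) (X : Type u) [Group X] [Finite X], Nat.card X = n →
      ∀ S : Sylow p X, HypNC p W₁ W₂ X (S : Subgroup X) → Cfsg.HasNormalPComplement p X := by
  intro n
  induction n using Nat.strong_induction_on with
  | _ n IH =>
    intro X _ _ hn S hN
    have IHsub : ∀ H : Subgroup X, H ≠ ⊤ → ∀ S₁ : Sylow p H,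
        HypNC p W₁ W₂ H (S₁ : Subgroup H) → Cfsg.HasNormalPComplement p H := by
      intro H hH
      have hlt : Nat.card H < n := by
        rw [← hn]
        have h1 : H < ⊤ := lt_top_iff_ne_top.2 hH
        have h2 := card_lt_card_of_lt h1
        rwa [Subgroup.card_top] at h2
      exact IH _ hlt H rfl
    have IHquot : ∀ (N : Subgroup X) [N.Normal], N ≠ ⊥ → ∀ S' : Sylow p (X ⧸ N),
        HypNC p W₁ W₂ (X ⧸ N) (S' : Subgroup (X ⧸ N)) →
        Cfsg.HasNormalPComplement p (X ⧸ N) := by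
      intro N _ hN1
      have hlt : Nat.card (X ⧸ N) < n := by
        rw [← hn, ← Subgroup.index_eq_card, ← Subgroup.card_mul_index N]
        have h1 : 1 < Nat.card N := by
          rw [Subgroup.one_lt_card_iff_ne_bot]; exact hN1
        have h2 : 0 < N.index := Nat.pos_of_ne_zero Subgroup.index_ne_zero_of_finite
        nlinarith
      exact IH _ hlt (X ⧸ N) rfl
    by_contra hnot
    obtain ⟨H, hHp, hH1, hHbad, hM1, hM2⟩ := exists_extremal_bad hnot
    have htop := normalizer_eq_top_of_extremal2 hW₁ hW₂ S hN IHsub H hHp hH1 hHbad hM1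
    have hHP := eq_pCore_of_extremal hnot H hHp htop hM2
    subst hHP
    have hM2' : ∀ U : Subgroup X, IsPGroup p U →
        (S : Subgroup X) ≤ Subgroup.normalizer (U : Set X) →
        Nat.card (Cfsg.pCore p X) < Nat.card U →
        Cfsg.HasNormalPComplement p ↥(Subgroup.normalizer (U : Set X)) := by
      intro U hUp hSU hlt
      apply hM2 U hUp _ hlt
      have h1 : Nat.card (S : Subgroup X) ∣ Nat.card ↥(Subgroup.normalizer (U : Set X)) :=
        Subgroup.card_dvd_of_le hSU
      rw [htop, Subgroup.card_top, ← Sylow.card_eq_multiplicity S]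
      exact h1
    have hquot := npc_quotient_pCore2 hW₁ hW₂ S IHquot hH1 hM2'
    have hD := pPrimeCore_eq_bot_of_minimal2 hW₁ hW₂ S hN hnot IHquot
    have hcon := constrained_of_quotient_npc hD hquot
    have hprop := npc_of_sylow_le_of_ne_top2 hW₁ hW₂ S hN IHsub
    have hcoatom := sylow_isCoatom_of_constrained S hcon hnot hprop
    exact hnot (final X S hcon hD hquot hcoatom hN hprop)

end main

end Cfsg.Agent.helper23
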