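import Mathlib
import Cfsg.Agent.Lib_helper23_Thompson
import Cfsg.Agent.Lib_helper23_Quad
import Cfsg.Agent.Lib_helper3_ThompsonOf
import Cfsg.Agent.Lib_helper4_ZJ2
import Cfsg.Agent.Lib_helper19_PGroup
import Cfsg.Agent.Lib_helper15_Replace
import Cfsg.Agent.Lib_lead_Coprime2

/-! Thompson's normal `p`-complement theorem for `J` (elementary abelian version) and `Z`
(helper23). -/

set_option autoImplicit false
set_option linter.style.haveILetI false
open scoped commutatorElement

namespace Cfsg.Agent.helper23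

open Cfsg.Agent.helper10 Cfsg.Agent.helper3 Cfsg.Agent.lead

universe u

theorem isCharPFunctor_thompson (p : ℕ) [hp : Fact p.Prime] :
    Cfsg.IsCharPFunctor.{u} p (fun Q _ => Cfsg.thompsonSubgroup p Q) := by
  refine ⟨?_, ?_⟩
  · intro Q _ _ hQ hnt hbot
    obtain ⟨A, hA⟩ := exists_maxEA p Q
    have hpQ : p ∣ Nat.card Q := by
      obtain ⟨k, hk⟩ := IsPGroup.iff_card.mp hQ
      have hk0 : k ≠ 0 := by
        intro h0
        rw [h0, pow_zero] at hk
        have := Finite.one_lt_card_iff_nontrivial.mpr hnt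
        omega
      rw [hk]; exact dvd_pow_self p hk0
    obtain ⟨x, hx⟩ := exists_prime_orderOf_dvd_card' p hpQ
    have hxp : x ^ p = 1 := by rw [← hx]; exact pow_orderOf_eq_one x
    have h1 := hA.2 (Subgroup.zpowers x) (ea_zpowers x hxp)
    have h2 : Nat.card (Subgroup.zpowers x) = p := by rw [Nat.card_zpowers, hx]
    have hAbot : A = ⊥ := le_bot_iff.mp (hbot ▸ maxEA_le_thompson hA)
    rw [hAbot, Subgroup.card_bot, h2] at h1
    have := hp.out.two_le
    omega
  · intro Q R _ _ _ hQ φ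
    apply le_antisymm
    · unfold Cfsg.thompsonSubgroup
      rw [Subgroup.map_le_iff_le_comap]
      apply sSup_le
      intro A hA
      rw [← Subgroup.map_le_iff_le_comap]
      exact le_sSup (maxEA_map_equiv φ hA)
    · unfold Cfsg.thompsonSubgroup
      apply sSup_le
      intro B hB
      have h1 : B = (B.map φ.symm.toMonoidHom).map φ.toMonoidHom := by
        rw [Subgroup.map_map]
        have : φ.toMonoidHom.comp φ.symm.toMonoidHom = MonoidHom.id R := by
          ext r; simp
        rw [this, Subgroup.map_id]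
      rw [h1]
      exact Subgroup.map_mono (le_sSup (maxEA_map_equiv φ.symm hB))

theorem isCharPFunctor_center (p : ℕ) [hp : Fact p.Prime] :
    Cfsg.IsCharPFunctor.{u} p (fun Q _ => Subgroup.center Q) := by
  refine ⟨?_, ?_⟩
  · intro Q _ _ hQ hnt
    show Subgroup.center Q ≠ ⊥
    have := hQ.center_nontrivial
    exact (Subgroup.nontrivial_iff_ne_bot _).mp this
  · intro Q R _ _ _ hQ φ
    show (Subgroup.center Q).map φ.toMonoidHom = Subgroup.center R
    ext x
    constructor
    · rintro ⟨y, hy, rfl⟩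
      rw [SetLike.mem_coe, Subgroup.mem_center_iff] at hy
      rw [Subgroup.mem_center_iff]
      intro r
      have h1 := hy (φ.symm r)
      have h2 := congrArg φ h1
      simpa using h2
    · intro hx
      rw [Subgroup.mem_center_iff] at hx
      refine ⟨φ.symm x, ?_, by simp⟩
      rw [SetLike.mem_coe, Subgroup.mem_center_iff]
      intro q
      have h1 := hx (φ q)
      have h2 := congrArg φ.symm h1
      simpa using h2

section omega

variable {X : Type*} [Group X]

/-- `Ω₁(Z(H))` as a subgroup of the ambient group. -/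
def omegaZ (p : ℕ) (H : Subgroup X) : Subgroup X where
  carrier := {z | z ∈ H ∧ z ∈ Subgroup.centralizer (H : Set X) ∧ z ^ p = 1}
  one_mem' := ⟨H.one_mem, Subgroup.one_mem _, one_pow _⟩
  mul_mem' := by
    rintro a b ⟨ha, hac, hap⟩ ⟨hb, hbc, hbp⟩
    refine ⟨H.mul_mem ha hb, Subgroup.mul_mem _ hac hbc, ?_⟩
    have hcomm : Commute a b := Subgroup.mem_centralizer_iff.mp hbc a ha
    rw [hcomm.mul_pow, hap, hbp, one_mul]
  inv_mem' := by
    rintro a ⟨ha, hac, hap⟩
    exact ⟨H.inv_mem ha, Subgroup.inv_mem _ hac, by rw [inv_pow, hap, inv_one]⟩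

theorem mem_omegaZ (p : ℕ) (H : Subgroup X) (z : X) :
    z ∈ omegaZ p H ↔ z ∈ H ∧ z ∈ Subgroup.centralizer (H : Set X) ∧ z ^ p = 1 := Iff.rfl

theorem omegaZ_le (p : ℕ) (H : Subgroup X) : omegaZ p H ≤ H := fun _ hz => hz.1

theorem le_centralizer_omegaZ (p : ℕ) (H : Subgroup X) :
    H ≤ Subgroup.centralizer (omegaZ p H : Set X) := by
  intro h hh
  rw [Subgroup.mem_centralizer_iff]
  intro z hz
  exact (Subgroup.mem_centralizer_iff.mp hz.2.1 h hh).symm

theorem omegaZ_ea (p : ℕ) (H : Subgroup X) : Cfsg.IsElementaryAbelian p (omegaZ p H) := by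
  refine ⟨⟨⟨fun a b => ?_⟩⟩, fun z hz => hz.2.2⟩
  apply Subtype.ext
  exact Subgroup.mem_centralizer_iff.mp b.2.2.1 a a.2.1

theorem omegaZ_normal (p : ℕ) (H : Subgroup X) [hH : H.Normal] : (omegaZ p H).Normal := by
  constructor
  intro z hz g
  refine ⟨hH.conj_mem z hz.1 g, ?_, ?_⟩
  · exact (Subgroup.normal_centralizer (H := H)).conj_mem z hz.2.1 g
  · rw [conj_pow, hz.2.2, mul_one, mul_inv_cancel]

/-- an automorphism of order prime to `p` of an abelian `p`-group trivial on `Ω₁` is trivial -/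
theorem centralize_of_omega {p : ℕ} [hp : Fact p.Prime] (W : Subgroup X)
    (hWc : ∀ a ∈ W, ∀ b ∈ W, a * b = b * a) (hWp : IsPGroup p W)
    (x : X) (hxN : ∀ w ∈ W, x * w * x⁻¹ ∈ W) (n : ℕ) (hn : x ^ n = 1) (hcop : n.Coprime p)
    (hΩ : ∀ w ∈ W, w ^ p = 1 → x * w * x⁻¹ = w) : ∀ w ∈ W, x * w * x⁻¹ = w := by
  have key : ∀ k : ℕ, ∀ w ∈ W, w ^ (p ^ k) = 1 → x * w * x⁻¹ = w := by
    intro k
    induction k with
    | zero =>
      intro w hw h
      rw [pow_zero, pow_one] at h
      rw [h]; group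
    | succ k ih =>
      intro w hw h
      have hwp : w ^ p ∈ W := W.pow_mem hw p
      have h1 : x * w ^ p * x⁻¹ = w ^ p := ih _ hwp (by rw [← pow_mul, ← pow_succ']; exact h)
      obtain ⟨t, ht⟩ : ∃ t, t = x * w * x⁻¹ * w⁻¹ := ⟨_, rfl⟩
      have htW : t ∈ W := by rw [ht]; exact W.mul_mem (hxN w hw) (W.inv_mem hw)
      have htp : t ^ p = 1 := by
        have hc : Commute (x * w * x⁻¹) w⁻¹ := hWc _ (hxN w hw) _ (W.inv_mem hw)
        rw [ht, hc.mul_pow, conj_pow, h1, inv_pow, mul_inv_cancel]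
      have hxt : x * t * x⁻¹ = t := hΩ t htW htp
      have e3 : x * w * x⁻¹ = t * w := by rw [ht]; group
      have hj : ∀ j : ℕ, x ^ j * w * (x ^ j)⁻¹ = t ^ j * w := by
        intro j
        induction j with
        | zero => simp
        | succ j ihj =>
          have e1 : x ^ (j + 1) * w * (x ^ (j + 1))⁻¹ = x * (x ^ j * w * (x ^ j)⁻¹) * x⁻¹ := by
            rw [pow_succ']; group
          rw [e1, ihj]
          have e2 : x * (t ^ j * w) * x⁻¹ = (x * t * x⁻¹) ^ j * (x * w * x⁻¹) := by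
            rw [conj_pow]; group
          rw [e2, hxt, e3, pow_succ, mul_assoc]
      have h2 := hj n
      rw [hn] at h2
      simp only [one_mul, inv_one, mul_one] at h2
      have htn : t ^ n = 1 := by
        have : t ^ n * w = 1 * w := by rw [one_mul]; exact h2.symm
        exact mul_right_cancel this
      have hto : orderOf t ∣ Nat.gcd n p :=
        Nat.dvd_gcd (orderOf_dvd_of_pow_eq_one htn) (orderOf_dvd_of_pow_eq_one htp)
      rw [hcop] at hto
      have ht1 : t = 1 := orderOf_eq_one_iff.mp (Nat.dvd_one.mp hto)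
      rw [e3, ht1, one_mul]
  intro w hw
  obtain ⟨k, hk⟩ := hWp ⟨w, hw⟩
  apply key k w hw
  have := congrArg Subtype.val hk
  simpa using this

end omega

section final

variable {p : ℕ} [hp : Fact p.Prime]

/-- the final step of Thompson's theorem for `J` and `Z`. -/
theorem final_JZ_aux (hp2 : p ≠ 2) (X : Type u) [Group X] [Finite X]
    (S : Sylow p X) (H : Subgroup X) [hHn : H.Normal] (hHdef : H = Cfsg.pCore p X)
    (hcon : Constrained p X)
    (hquot : Cfsg.HasNormalPComplement p (X ⧸ H))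
    (hcoatom : IsCoatom (S : Subgroup X))
    (hN : HypNC p (fun Q _ => Cfsg.thompsonSubgroup p Q) (fun Q _ => Subgroup.center Q) X
      (S : Subgroup X)) :
    Cfsg.HasNormalPComplement p X := by
  by_contra hnot
  have hHS : H ≤ (S : Subgroup X) := by rw [hHdef]; exact Cfsg.Agent.helper1.pCore_le_sylow S
  have hHp : IsPGroup p H := by rw [hHdef]; exact Cfsg.Agent.helper1.pCore_isPGroup p
  have hSp : IsPGroup p (S : Subgroup X) := S.isPGroup'
  have hcon' : Subgroup.centralizer (H : Set X) ≤ H := by rw [hHdef]; exact hcon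
  -- F1
  have hJ : Cfsg.inducedFunctor (fun Q _ => Cfsg.thompsonSubgroup p Q) (S : Subgroup X)
      = Cfsg.thompsonSubgroupOf p (S : Subgroup X) := rfl
  have hZ : Cfsg.inducedFunctor (fun Q _ => Subgroup.center Q) (S : Subgroup X)
      = (S : Subgroup X) ⊓ Subgroup.centralizer ((S : Subgroup X) : Set X) :=
    Cfsg.Agent.helper19.map_center_eq_inf_centralizer _
  obtain ⟨hN1, hN2⟩ := hN
  rw [hJ] at hN1
  rw [hZ] at hN2
  have htopnpc : ∀ U : Subgroup X, U = ⊤ → Cfsg.HasNormalPComplement p U → False := by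
    intro U hU h
    subst hU
    exact hnot (npc_of_surjective (⊤ : Subgroup X).subtype (fun x => ⟨⟨x, trivial⟩, rfl⟩) h)
  have hNJ : Subgroup.normalizer
      ((Cfsg.thompsonSubgroupOf p (S : Subgroup X) : Subgroup X) : Set X) ≠ ⊤ :=
    fun h => htopnpc _ h hN1
  have hCZ : Subgroup.centralizer ((((S : Subgroup X) ⊓
      Subgroup.centralizer ((S : Subgroup X) : Set X) : Subgroup X)) : Set X) ≠ ⊤ :=
    fun h => htopnpc _ h hN2
  -- F2
  obtain ⟨Sb, Kb, hKbn, hKbS⟩ := hquot
  haveI := hKbn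
  have hKbcop : (Nat.card Kb).Coprime p := card_coprime_of_isComplement' Sb Kb hKbS
  obtain ⟨mk, hmk⟩ : ∃ mk : X →* X ⧸ H, mk = QuotientGroup.mk' H := ⟨_, rfl⟩
  have hsurj : Function.Surjective mk := by rw [hmk]; exact QuotientGroup.mk'_surjective _
  have hker : mk.ker = H := by rw [hmk]; exact QuotientGroup.ker_mk' H
  obtain ⟨K, hK⟩ : ∃ K : Subgroup X, K = Kb.comap mk := ⟨_, rfl⟩
  haveI hKn : K.Normal := by rw [hK]; exact Subgroup.Normal.comap hKbn mk
  have hKmem : ∀ x, x ∈ K ↔ mk x ∈ Kb := fun x => by rw [hK, Subgroup.mem_comap]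
  have hKmap : K.map mk = Kb := by
    rw [hK]; exact Subgroup.map_comap_eq_self_of_surjective hsurj Kb
  have hmk1 : ∀ x, x ∈ H ↔ mk x = 1 := fun x => by
    have h0 : x ∈ mk.ker ↔ mk x = 1 := MonoidHom.mem_ker
    rw [hker] at h0
    exact h0
  have hKp : ∀ k ∈ K, ∀ j : ℕ, k ^ (p ^ j) ∈ H → k ∈ H := by
    intro k hk j hkj
    have h1 : mk k ∈ Kb := (hKmem k).mp hk
    have h2 : (mk k) ^ (p ^ j) = 1 := by rw [← map_pow]; exact (hmk1 _).mp hkj
    have h3 : orderOf (mk k) ∣ p ^ j := orderOf_dvd_of_pow_eq_one h2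
    have h4 : orderOf (mk k) ∣ Nat.card Kb := Subgroup.orderOf_dvd_natCard Kb h1
    have h5 : Nat.Coprime (p ^ j) (Nat.card Kb) := (Nat.Coprime.pow_right j hKbcop).symm
    have h6 : orderOf (mk k) ∣ Nat.gcd (p ^ j) (Nat.card Kb) := Nat.dvd_gcd h3 h4
    rw [h5] at h6
    exact (hmk1 k).mpr (orderOf_eq_one_iff.mp (Nat.dvd_one.mp h6))
  have hKS_le : ∀ L : Subgroup X, L ≤ K → L ≤ (S : Subgroup X) → L ≤ H := by
    intro L hLK hLS x hx
    obtain ⟨j, hj⟩ := hSp ⟨x, hLS hx⟩
    have hj' : x ^ (p ^ j) = 1 := by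
      have := congrArg Subtype.val hj
      simpa using this
    exact hKp x (hLK hx) j (by rw [hj']; exact H.one_mem)
  have hKidx : ∃ j, K.index = p ^ j := by
    rw [hK, Subgroup.index_comap_of_surjective _ hsurj, hKbS.symm.index_eq_card]
    exact IsPGroup.iff_card.mp Sb.isPGroup'
  have hKS : K ⊔ (S : Subgroup X) = ⊤ := by
    by_contra hne
    have h1 : K ⊔ (S : Subgroup X) = S := by
      by_contra h2
      exact hne (hcoatom.2 _ (lt_of_le_of_ne le_sup_right (Ne.symm h2)))
    have h3 : K ≤ (S : Subgroup X) := by rw [← h1]; exact le_sup_left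
    have h4 : K ≤ H := hKS_le K le_rfl h3
    apply hnot
    apply npc_of_isPGroup
    intro x
    obtain ⟨j, hj⟩ := hKidx
    have h5 : x ^ (p ^ j) ∈ K := by rw [← hj]; exact Subgroup.pow_index_mem K x
    obtain ⟨i, hi⟩ := hHp ⟨x ^ (p ^ j), h4 h5⟩
    refine ⟨j + i, ?_⟩
    have := congrArg Subtype.val hi
    rw [pow_add, pow_mul]
    simpa using this
  -- F3 : K/H is abelian
  have hKK : ⁅K, K⁆ ≤ H := by
    obtain ⟨Sbar, hSbar⟩ : ∃ Sbar : Subgroup (X ⧸ H), Sbar = (S : Subgroup X).map mk := ⟨_, rfl⟩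
    have hSbarp : IsPGroup p Sbar := by rw [hSbar]; exact hSp.map mk
    have hmaptop : (⊤ : Subgroup X).map mk = ⊤ := by
      rw [← MonoidHom.range_eq_map, MonoidHom.range_eq_top]; exact hsurj
    have hsup : Kb ⊔ Sbar = ⊤ := by
      rw [← hKmap, hSbar, ← Subgroup.map_sup, hKS, hmaptop]
    have hinf : ∀ y, y ∈ Sbar → y ∈ Kb → y = 1 := fun y h1 h2 =>
      eq_one_of_mem_of_coprime Sbar Kb hSbarp hKbcop y h1 h2
    have hcardY : Nat.card (X ⧸ H) = Nat.card Sbar * Nat.card Kb := by
      have h1 := Cfsg.Agent.helper15.card_sup_mul_card_inf_of_le_normalizer Sbar Kb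
        (by rw [Subgroup.normalizer_eq_top]; exact le_top)
      have h2 : Sbar ⊓ Kb = ⊥ := by
        rw [eq_bot_iff]; intro y hy; rw [Subgroup.mem_bot]; exact hinf y hy.1 hy.2
      rw [sup_comm, hsup, h2, Subgroup.card_bot, mul_one, Subgroup.card_top] at h1
      exact h1
    have hmin : ∀ Lb : Subgroup (X ⧸ H), Lb ≤ Kb →
        Sbar ≤ Subgroup.normalizer (Lb : Set (X ⧸ H)) → Lb = ⊥ ∨ Lb = Kb := by
      intro Lb hLK hLN
      have hM : (S : Subgroup X) ≤ (Lb ⊔ Sbar).comap mk := by
        intro s hs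
        rw [Subgroup.mem_comap]
        exact Subgroup.mem_sup_right (by rw [hSbar]; exact ⟨s, hs, rfl⟩)
      have hinfL : Sbar ⊓ Lb = ⊥ := by
        rw [eq_bot_iff]; intro y hy; rw [Subgroup.mem_bot]; exact hinf y hy.1 (hLK hy.2)
      by_cases hMS : (Lb ⊔ Sbar).comap mk = S
      · left
        have h1 : Lb ⊔ Sbar = Sbar := by
          rw [← Subgroup.map_comap_eq_self_of_surjective hsurj (Lb ⊔ Sbar), hMS, hSbar]
        have h2 : Lb ≤ Sbar := by rw [← h1]; exact le_sup_left
        rw [eq_bot_iff]; intro y hy; rw [Subgroup.mem_bot]; exact hinf y (h2 hy) (hLK hy)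
      · right
        have h1 : (Lb ⊔ Sbar).comap mk = ⊤ :=
          hcoatom.2 _ (lt_of_le_of_ne hM (Ne.symm hMS))
        have h2 : Lb ⊔ Sbar = ⊤ := by
          rw [← Subgroup.map_comap_eq_self_of_surjective hsurj (Lb ⊔ Sbar), h1, hmaptop]
        have h3 := Cfsg.Agent.helper15.card_sup_mul_card_inf_of_le_normalizer Sbar Lb hLN
        rw [sup_comm, h2, hinfL, Subgroup.card_bot, mul_one, Subgroup.card_top, hcardY] at h3
        have h4 : Nat.card Kb = Nat.card Lb := Nat.eq_of_mul_eq_mul_left Nat.card_pos h3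
        exact Subgroup.eq_of_le_of_card_ge hLK h4.le
    have hKbcomm : ∀ y ∈ Kb, ∀ z ∈ Kb, y * z = z * y := by
      by_cases hKb1 : Kb = ⊥
      · intro y hy z hz
        rw [hKb1, Subgroup.mem_bot] at hy hz
        rw [hy, hz]
      have hcardne : Nat.card Kb ≠ 1 := by rw [Ne, Subgroup.card_eq_one]; exact hKb1
      obtain ⟨q, hq⟩ : ∃ q, q = (Nat.card Kb).minFac := ⟨_, rfl⟩
      have hqp : q.Prime := by rw [hq]; exact Nat.minFac_prime hcardne
      haveI : Fact q.Prime := ⟨hqp⟩
      have hqdvd : q ∣ Nat.card Kb := by rw [hq]; exact Nat.minFac_dvd _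
      have hSbarsolv : Group.IsSolvable Sbar := by
        haveI := hSbarp.isNilpotent
        infer_instance
      obtain ⟨Qb, hQK, hQcard, hQN⟩ := Cfsg.Agent.lead.exists_invariant_sylow Sbar Kb
        (by rw [Subgroup.normalizer_eq_top]; exact le_top)
        (by
          obtain ⟨k, hk⟩ := IsPGroup.iff_card.mp hSbarp
          rw [hk]; exact (Nat.Coprime.pow_right k hKbcop).symm)
        (Or.inl hSbarsolv) q
      have hQp : IsPGroup q Qb := IsPGroup.of_card hQcard
      have hQne : Qb ≠ ⊥ := by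
        intro h
        rw [h, Subgroup.card_bot] at hQcard
        have hpos : 0 < (Nat.card Kb).factorization q :=
          hqp.factorization_pos_of_dvd Nat.card_pos.ne' hqdvd
        have := Nat.one_lt_pow hpos.ne' hqp.one_lt
        omega
      obtain ⟨Zb, hZb⟩ : ∃ Zb : Subgroup (X ⧸ H),
        Zb = Qb ⊓ Subgroup.centralizer (Qb : Set (X ⧸ H)) := ⟨_, rfl⟩
      have hZbne : Zb ≠ ⊥ := by
        haveI : Nontrivial Qb := (Subgroup.nontrivial_iff_ne_bot Qb).mpr hQne
        have h1 := hQp.center_nontrivial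
        have h2 : Subgroup.center ↥Qb ≠ ⊥ := (Subgroup.nontrivial_iff_ne_bot _).mp h1
        rw [hZb, ← Cfsg.Agent.helper19.map_center_eq_inf_centralizer Qb]
        intro h3
        exact h2 ((Subgroup.map_eq_bot_iff_of_injective _ Qb.subtype_injective).mp h3)
      have hZbN : Sbar ≤ Subgroup.normalizer (Zb : Set (X ⧸ H)) := by
        apply Cfsg.Agent.helper4.Glaub.le_normalizer_of_conj
        intro t ht z hz
        rw [hZb] at hz ⊢
        have htN := hQN ht
        have hz := Subgroup.mem_inf.mp hz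
        refine Subgroup.mem_inf.mpr ⟨(Subgroup.mem_normalizer_iff.mp htN z).mp hz.1, ?_⟩
        rw [Subgroup.mem_centralizer_iff]
        intro w hw
        have hw' : t⁻¹ * w * t ∈ Qb := by
          apply (Subgroup.mem_normalizer_iff.mp htN (t⁻¹ * w * t)).mpr
          have e : t * (t⁻¹ * w * t) * t⁻¹ = w := by group
          rw [e]; exact hw
        have h1 := Subgroup.mem_centralizer_iff.mp hz.2 _ hw'
        calc w * (t * z * t⁻¹) = t * ((t⁻¹ * w * t) * z) * t⁻¹ := by group
          _ = t * (z * (t⁻¹ * w * t)) * t⁻¹ := by rw [h1]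
          _ = t * z * t⁻¹ * w := by group
      rcases hmin Zb (by rw [hZb]; exact inf_le_left.trans hQK) hZbN with h | h
      · exact absurd h hZbne
      · intro y hy z hz
        rw [← h, hZb] at hy hz
        exact Subgroup.mem_centralizer_iff.mp hz.2 y hy.1
    rw [Subgroup.commutator_le]
    intro k₁ hk₁ k₂ hk₂
    rw [hmk1, map_commutatorElement, commutatorElement_eq_one_iff_commute]
    exact hKbcomm _ ((hKmem k₁).mp hk₁) _ ((hKmem k₂).mp hk₂)
  -- F4
  obtain ⟨V, hV⟩ : ∃ V : Subgroup X, V = omegaZ p H := ⟨_, rfl⟩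
  haveI hVn : V.Normal := by rw [hV]; exact omegaZ_normal p H
  have hVea : Cfsg.IsElementaryAbelian p V := by rw [hV]; exact omegaZ_ea p H
  have hVH : V ≤ H := by rw [hV]; exact omegaZ_le p H
  have hHcV : H ≤ Subgroup.centralizer (V : Set X) := by rw [hV]; exact le_centralizer_omegaZ p H
  have hA : Subgroup.centralizer (V : Set X) ⊓ K ≤ H := by
    by_contra hne
    obtain ⟨D, hDdef⟩ : ∃ D : Subgroup X, D = Subgroup.centralizer (V : Set X) ⊓ K := ⟨_, rfl⟩
    rw [← hDdef] at hne
    have hDK : D ≤ K := by rw [hDdef]; exact inf_le_right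
    have hDS : ¬ D ≤ (S : Subgroup X) := fun h => hne (hKS_le D hDK h)
    have hDStop : D ⊔ (S : Subgroup X) = ⊤ := by
      apply hcoatom.2
      refine lt_of_le_of_ne le_sup_right ?_
      intro h
      apply hDS
      rw [h]; exact le_sup_left
    apply hCZ
    rw [eq_top_iff, ← hDStop]
    haveI hZHn : (H ⊓ Subgroup.centralizer (H : Set X)).Normal := inferInstance
    have hZle : (S : Subgroup X) ⊓ Subgroup.centralizer ((S : Subgroup X) : Set X) ≤
        H ⊓ Subgroup.centralizer (H : Set X) := by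
      intro z hz
      have h1 : z ∈ Subgroup.centralizer (H : Set X) := Subgroup.centralizer_le hHS hz.2
      exact ⟨hcon' h1, h1⟩
    apply sup_le
    · intro c hc
      apply Subgroup.centralizer_le hZle
      rw [hDdef] at hc
      obtain ⟨a, m, hm, hcm⟩ :=
        Nat.exists_eq_pow_mul_and_not_dvd (orderOf_pos c).ne' p hp.out.ne_one
      have hmcop : Nat.Coprime m p := by
        rw [Nat.coprime_comm, hp.out.coprime_iff_not_dvd]; exact hm
      have hc1 : (c ^ p ^ a) ^ m = 1 := by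
        rw [← pow_mul, ← hcm]; exact pow_orderOf_eq_one c
      have hc2 : (c ^ m) ^ p ^ a = 1 := by
        rw [← pow_mul, mul_comm, ← hcm]; exact pow_orderOf_eq_one c
      have hc2H : c ^ m ∈ H := hKp _ (K.pow_mem hc.2 m) a (by rw [hc2]; exact H.one_mem)
      have hc1V : c ^ p ^ a ∈ Subgroup.centralizer (V : Set X) := Subgroup.pow_mem _ hc.1 _
      have h1 : c ^ p ^ a ∈ Subgroup.centralizer
          ((H ⊓ Subgroup.centralizer (H : Set X) : Subgroup X) : Set X) := by
        have key := centralize_of_omega (p := p) (H ⊓ Subgroup.centralizer (H : Set X))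
          (fun a ha b hb => Subgroup.mem_centralizer_iff.mp hb.2 a ha.1)
          (hHp.to_le inf_le_left) (c ^ p ^ a)
          (fun w hw => hZHn.conj_mem w hw _) m hc1 hmcop
          (fun w hw hwp => by
            have hwV : w ∈ V := by rw [hV]; exact ⟨hw.1, hw.2, hwp⟩
            have := Subgroup.mem_centralizer_iff.mp hc1V w hwV
            rw [← this, mul_inv_cancel_right])
        rw [Subgroup.mem_centralizer_iff]
        intro w hw
        have := key w hw
        calc w * c ^ p ^ a = (c ^ p ^ a * w * (c ^ p ^ a)⁻¹) * c ^ p ^ a := by rw [this]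
          _ = c ^ p ^ a * w := by rw [inv_mul_cancel_right]
      have h2 : c ^ m ∈ Subgroup.centralizer
          ((H ⊓ Subgroup.centralizer (H : Set X) : Subgroup X) : Set X) := by
        rw [Subgroup.mem_centralizer_iff]
        intro w hw
        exact (Subgroup.mem_centralizer_iff.mp hw.2 _ hc2H).symm
      have hcop' : Nat.Coprime (p ^ a) m := Nat.Coprime.pow_left a hmcop.symm
      obtain ⟨u, v, huv⟩ := Nat.isCoprime_iff_coprime.mpr hcop'
      have hcz : c = (c ^ p ^ a) ^ u * (c ^ m) ^ v := by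
        rw [← zpow_natCast c (p ^ a), ← zpow_natCast c m, ← zpow_mul, ← zpow_mul, ← zpow_add,
          mul_comm _ u, mul_comm _ v, huv, zpow_one]
      rw [hcz]
      exact Subgroup.mul_mem _ (Subgroup.zpow_mem _ h1 u) (Subgroup.zpow_mem _ h2 v)
    · intro s hs
      rw [Subgroup.mem_centralizer_iff]
      intro z hz
      exact (Subgroup.mem_centralizer_iff.mp hz.2 s hs).symm
  have hCVH : Subgroup.centralizer (V : Set X) ≤ H := by
    have hCVp : IsPGroup p (Subgroup.centralizer (V : Set X)) := by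
      rintro ⟨e, he⟩
      obtain ⟨j, hj⟩ := hKidx
      have h1 : e ^ (p ^ j) ∈ K := by rw [← hj]; exact Subgroup.pow_index_mem K e
      have h2 : e ^ (p ^ j) ∈ H := hA ⟨Subgroup.pow_mem _ he _, h1⟩
      obtain ⟨i, hi⟩ := hHp ⟨_, h2⟩
      refine ⟨j + i, ?_⟩
      apply Subtype.ext
      have := congrArg Subtype.val hi
      rw [pow_add, pow_mul]
      simpa using this
    rw [hHdef]
    exact Cfsg.Agent.helper1.le_pCore inferInstance hCVp
  -- Claim B
  have hB : ∀ A : Subgroup X, IsMaxEAIn p (S : Subgroup X) A → V ≤ A := by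
    by_contra hcon2
    push_neg at hcon2
    obtain ⟨U, hU, hVU⟩ := hcon2
    have hVV : ⁅V, V⁆ = ⊥ := by
      rw [Subgroup.commutator_eq_bot_iff_le_centralizer]
      exact hVH.trans hHcV
    have hVS : V ≤ (S : Subgroup X) := hVH.trans hHS
    have hSV : (S : Subgroup X) ≤ Subgroup.normalizer (V : Set X) := by
      rw [Subgroup.normalizer_eq_top]; exact le_top
    obtain ⟨A, hA', -, hVA, hVNA⟩ := Cfsg.Agent.helper4.ZJ.repl_ambient hp2
      (Cfsg.Agent.helper4.ZJ.goodClass_EA p) (S : Subgroup X) V hSp hVS hSV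
      ⟨U, hU, by rw [hVV]; exact bot_le, hVU⟩
    have hAS : A ≤ (S : Subgroup X) := hA'.1
    have hAea : Cfsg.IsElementaryAbelian p A := hA'.2.1
    have hAH : A ≤ H := by
      intro a ha
      have hquad : ∀ v ∈ V, a * (a * v * a⁻¹ * v⁻¹) * a⁻¹ = a * v * a⁻¹ * v⁻¹ := by
        intro v hv
        have h1 : v * a⁻¹ * v⁻¹ ∈ A :=
          (Subgroup.mem_normalizer_iff.mp (hVNA hv) a⁻¹).mp (A.inv_mem ha)
        have h2 : a * v * a⁻¹ * v⁻¹ ∈ A := by
          have e : a * v * a⁻¹ * v⁻¹ = a * (v * a⁻¹ * v⁻¹) := by group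
          rw [e]; exact A.mul_mem ha h1
        have h3 : a * (a * v * a⁻¹ * v⁻¹) = (a * v * a⁻¹ * v⁻¹) * a := by
          have := hAea.1.is_comm.comm (⟨a, ha⟩ : A) ⟨_, h2⟩
          exact congrArg Subtype.val this
        rw [h3, mul_inv_cancel_right]
      have hKV : ⁅K, K⁆ ≤ Subgroup.centralizer (V : Set X) := hKK.trans hHcV
      have h1 : ∀ x ∈ K, a * (x⁻¹ * a * x)⁻¹ ∈ H := by
        intro x hx
        have h2 := quad_pow_mem_centralizer hp2 V hVea K hKV a hquad x hx
        have h3 : a * (x⁻¹ * a * x)⁻¹ ∈ K := by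
          have e : a * (x⁻¹ * a * x)⁻¹ = (a * x⁻¹ * a⁻¹) * x := by group
          rw [e]; exact K.mul_mem (hKn.conj_mem _ (K.inv_mem hx) a) hx
        exact hKp _ h3 2 (hA ⟨h2, K.pow_mem h3 _⟩)
      obtain ⟨C', hC'⟩ : ∃ C' : Subgroup X,
        C' = (Subgroup.centralizer (Kb : Set (X ⧸ H))).comap mk := ⟨_, rfl⟩
      haveI hC'n : C'.Normal := by rw [hC']; exact Subgroup.Normal.comap inferInstance mk
      have hC'mem : ∀ g, g ∈ C' ↔ ∀ y ∈ Kb, y * mk g = mk g * y := fun g => by
        rw [hC', Subgroup.mem_comap, Subgroup.mem_centralizer_iff]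
        rfl
      have haC' : a ∈ C' := by
        rw [hC'mem]
        intro y hy
        obtain ⟨x, rfl⟩ := hsurj y
        have hxK : x ∈ K := (hKmem x).mpr hy
        have h2 := h1 x⁻¹ (K.inv_mem hxK)
        rw [inv_inv, hmk1] at h2
        simp only [map_mul, map_inv] at h2
        have h3 : mk a = mk x * mk a * (mk x)⁻¹ := mul_inv_eq_one.mp h2
        calc mk x * mk a = (mk x * mk a * (mk x)⁻¹) * mk x := by group
          _ = mk a * mk x := by rw [← h3]
      obtain ⟨R, hR⟩ : ∃ R : Subgroup X, R = (S : Subgroup X) ⊓ C' := ⟨_, rfl⟩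
      have hRp : IsPGroup p R := by rw [hR]; exact hSp.to_le inf_le_left
      have hRN : Subgroup.normalizer (R : Set X) = ⊤ := by
        rw [eq_top_iff, ← hKS]
        apply sup_le
        · apply Cfsg.Agent.helper4.Glaub.le_normalizer_of_conj
          intro k hk r hr
          rw [hR] at hr ⊢
          refine ⟨?_, hC'n.conj_mem r hr.2 k⟩
          have h3 : k * r * k⁻¹ * r⁻¹ ∈ H := by
            rw [hmk1]
            have h4 := (hC'mem r).mp hr.2 (mk k) ((hKmem k).mp hk)
            simp only [map_mul, map_inv]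
            rw [h4]; group
          have e : k * r * k⁻¹ = (k * r * k⁻¹ * r⁻¹) * r := by group
          rw [e]
          exact (S : Subgroup X).mul_mem (hHS h3) hr.1
        · apply Cfsg.Agent.helper4.Glaub.le_normalizer_of_conj
          intro s hs r hr
          rw [hR] at hr ⊢
          exact ⟨(S : Subgroup X).mul_mem ((S : Subgroup X).mul_mem hs hr.1)
            ((S : Subgroup X).inv_mem hs), hC'n.conj_mem r hr.2 s⟩
      have := le_pCore_of_normalizer_eq_top R hRp hRN
      rw [hHdef]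
      apply this
      rw [hR]
      exact ⟨hAS ha, haC'⟩
    apply hVA
    have hAcV : ∀ a ∈ A, ∀ v ∈ V, a * v = v * a := by
      intro a ha v hv
      exact (Subgroup.mem_centralizer_iff.mp (hHcV (hAH ha)) v hv).symm
    have hAV : Cfsg.IsElementaryAbelian p (A ⊔ V) := ea_sup hAea hVea hAcV
    have hle : Nat.card ↥(A ⊔ V) ≤ Nat.card A := hA'.2.2 (A ⊔ V) (sup_le hAS hVS) hAV
    have heq : A = A ⊔ V := Subgroup.eq_of_le_of_card_ge le_sup_left hle
    rw [heq]; exact le_sup_right
  -- F7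
  have hJH : Cfsg.thompsonSubgroupOf p (S : Subgroup X) ≤ H := by
    rw [thompsonSubgroupOf_eq_sSup]
    apply sSup_le
    intro A hA'
    have hVA := hB A hA'
    intro a ha
    apply hCVH
    rw [Subgroup.mem_centralizer_iff]
    intro v hv
    have := hA'.2.1.1.is_comm.comm (⟨v, hVA hv⟩ : A) ⟨a, ha⟩
    exact congrArg Subtype.val this
  have hJeq := thompsonSubgroupOf_eq_of_le (p := p) hHS hJH
  apply hNJ
  rw [← hJeq, eq_top_iff]
  have h1 := normalizer_le_normalizer_thompsonSubgroupOf p H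
  rw [Subgroup.normalizer_eq_top] at h1
  exact h1

theorem final_JZ (hp2 : p ≠ 2) (X : Type u) [Group X] [Finite X]
    (S : Sylow p X) (hcon : Constrained p X) (_hD : Cfsg.pPrimeCore p X = ⊥)
    (hquot : Cfsg.HasNormalPComplement p (X ⧸ Cfsg.pCore p X))
    (hcoatom : IsCoatom (S : Subgroup X))
    (hN : HypNC p (fun Q _ => Cfsg.thompsonSubgroup p Q) (fun Q _ => Subgroup.center Q) X
      (S : Subgroup X))
    (_hprop : ∀ M : Subgroup X, (S : Subgroup X) ≤ M → M ≠ ⊤ → Cfsg.HasNormalPComplement p M) :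
    Cfsg.HasNormalPComplement p X := by
  haveI hHn : (Cfsg.pCore p X).Normal := Cfsg.Agent.helper1.pCore_normal p
  exact final_JZ_aux hp2 X S (Cfsg.pCore p X) rfl hcon hquot hcoatom hN

end final

end Cfsg.Agent.helper23
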