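import Mathlib
import Cfsg.Prelude.Def_Transfer
import Cfsg.Agent.Lib_helper10_NPC
import Cfsg.Agent.Lib_lead_Coprime2
import Cfsg.Agent.S0108
import Cfsg.Agent.Lib_helper3_ThompsonOf
import Cfsg.Agent.Lib_helper19_PGroup
import Cfsg.Agent.Lib_helper19_Basic
import Cfsg.Agent.Lib_helper23_Hall

set_option autoImplicit false
set_option linter.style.haveILetI false

namespace Cfsg.Agent.helper19

open Cfsg

universe u

/-- Elements of coprime orders commute in a nilpotent group. -/
theorem commute_of_coprime_of_isNilpotent (G : Type u) [Group G] [Group.IsNilpotent G] :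
    ∀ x y : G, (orderOf x).Coprime (orderOf y) → Commute x y := by
  apply Group.nilpotent_center_quotient_ind
    (P := fun G _ _ => ∀ x y : G, (orderOf x).Coprime (orderOf y) → Commute x y) G
  · intro G _ _ x y _
    exact Subsingleton.elim _ _
  · intro G _ _ ih x y hxy
    set π := QuotientGroup.mk' (Subgroup.center G) with hπ
    have h1 : (orderOf (π x)).Coprime (orderOf (π y)) :=
      Nat.Coprime.of_dvd (orderOf_map_dvd π x) (orderOf_map_dvd π y) hxy
    have h2 := ih (π x) (π y) h1
    set z := x * y * x⁻¹ * y⁻¹ with hz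
    have hzc : z ∈ Subgroup.center G := by
      rw [← QuotientGroup.eq_one_iff]
      show π (x * y * x⁻¹ * y⁻¹) = 1
      rw [map_mul, map_mul, map_mul, map_inv, map_inv, h2.eq]
      group
    have hzcomm : ∀ w : G, Commute z w := fun w => (Subgroup.mem_center_iff.mp hzc w).symm
    -- x y x⁻¹ = z y
    have e1 : x * y * x⁻¹ = z * y := by rw [hz]; group
    have hzb : z ^ orderOf y = 1 := by
      have h3 : (x * y * x⁻¹) ^ orderOf y = 1 := by
        rw [conj_pow, pow_orderOf_eq_one]; group
      rw [e1, (hzcomm y).mul_pow, pow_orderOf_eq_one, mul_one] at h3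
      exact h3
    -- y x⁻¹ y⁻¹ = x⁻¹ z
    have e2 : y * x⁻¹ * y⁻¹ = x⁻¹ * z := by rw [hz]; group
    have hza : z ^ orderOf x = 1 := by
      have h3 : (y * x⁻¹ * y⁻¹) ^ orderOf x = 1 := by
        rw [conj_pow, inv_pow, pow_orderOf_eq_one]; group
      rw [e2, ((hzcomm x⁻¹).symm).mul_pow, inv_pow, pow_orderOf_eq_one, inv_one, one_mul] at h3
      exact h3
    have hz1 : z = 1 := by
      have h3 : orderOf z ∣ orderOf x := orderOf_dvd_of_pow_eq_one hza
      have h4 : orderOf z ∣ orderOf y := orderOf_dvd_of_pow_eq_one hzb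
      have h5 : orderOf z ∣ 1 := by
        have := Nat.dvd_gcd h3 h4
        rwa [hxy] at this
      exact orderOf_eq_one_iff.mp (Nat.dvd_one.mp h5)
    show x * y = y * x
    have : x * y * x⁻¹ * y⁻¹ = 1 := hz1
    have h6 := mul_inv_eq_one.mp this
    exact mul_inv_eq_iff_eq_mul.mp h6

/-- A finite nilpotent group has a normal `p`-complement. -/
theorem npc_of_isNilpotent {X : Type u} [Group X] [Finite X] [Group.IsNilpotent X] (p : ℕ)
    [hp : Fact p.Prime] : Cfsg.HasNormalPComplement p X := by
  apply Cfsg.Agent.helper10.npc_of_frobCond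
  intro Q hQ g _ hcop
  rw [Subgroup.mem_centralizer_iff]
  intro q hq
  obtain ⟨k, hk⟩ := hQ ⟨q, hq⟩
  have hk' : q ^ p ^ k = 1 := by
    have := congrArg Subtype.val hk
    simpa using this
  have h1 : orderOf q ∣ p ^ k := orderOf_dvd_of_pow_eq_one hk'
  have h2 : (orderOf q).Coprime (orderOf g) :=
    Nat.Coprime.of_dvd_left h1 (Nat.Coprime.pow_left k hcop.symm)
  exact (commute_of_coprime_of_isNilpotent X q g h2).eq

/-- `J(S) ≠ 1` for a nontrivial `p`-subgroup `S`. -/
theorem thompsonSubgroupOf_ne_bot {G : Type u} [Group G] [Finite G] {p : ℕ} [Fact p.Prime]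
    (S : Subgroup G) (hS : IsPGroup p S) (hS1 : S ≠ ⊥) : Cfsg.thompsonSubgroupOf p S ≠ ⊥ := by
  have hpp : p.Prime := Fact.out
  obtain ⟨A, hA⟩ := Cfsg.Agent.helper3.exists_isMaxEAIn p S
  have hAJ := hA.le_thompsonSubgroupOf
  -- an element of order p in S
  have hcard : p ∣ Nat.card S := by
    obtain ⟨k, hk⟩ := hS.exists_card_eq
    have hk0 : k ≠ 0 := by
      intro h0
      rw [h0, pow_zero, Subgroup.card_eq_one] at hk
      exact hS1 hk
    rw [hk]; exact dvd_pow_self p hk0
  obtain ⟨x, hx⟩ := exists_prime_orderOf_dvd_card' p hcard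
  set B := Subgroup.zpowers (x : G) with hB
  have hxG : orderOf (x : G) = p := by rw [Subgroup.orderOf_coe]; exact hx
  have hBS : B ≤ S := by rw [hB, Subgroup.zpowers_le]; exact x.2
  have hBea : Cfsg.IsElementaryAbelian p B := by
    refine ⟨inferInstance, ?_⟩
    intro a ha
    obtain ⟨k, rfl⟩ := ha
    rw [← zpow_natCast, ← zpow_mul, mul_comm, zpow_mul, zpow_natCast, ← hxG, pow_orderOf_eq_one,
      one_zpow]
  have h1 := hA.2.2 B hBS hBea
  rw [hB, Nat.card_zpowers, hxG] at h1
  intro hJ
  rw [hJ, le_bot_iff] at hAJ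
  rw [hAJ, Subgroup.card_bot] at h1
  have := hpp.one_lt
  omega

/-- Core-free nilpotent maximal subgroup: normal `p`-complements for odd `p` dividing `|M|`. -/
theorem exists_npc_of_nilpotent_coatom {G : Type u} [Group G] [Finite G] (M : Subgroup G)
    (hmax : IsCoatom M) (hnil : Group.IsNilpotent M) (hcore : M.normalCore = ⊥) (p : ℕ)
    [Fact p.Prime] (hp2 : p ≠ 2) (hpM : p ∣ Nat.card M) :
    ∃ K : Subgroup G, K.Normal ∧ K.index = p ^ (Nat.card M).factorization p ∧
      ¬ p ∣ Nat.card K := by
  have hpp : p.Prime := Fact.out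
  -- key: normalizers of nontrivial M-invariant subgroups of M are M
  have key : ∀ C : Subgroup G, C ≠ ⊥ → C ≤ M → M ≤ Subgroup.normalizer (C : Set G) →
      Subgroup.normalizer (C : Set G) = M := by
    intro C hC1 hCM hMC
    rcases eq_or_lt_of_le hMC with h | h
    · exact h.symm
    · exfalso
      have htop := hmax.2 _ h
      haveI : C.Normal := Subgroup.normalizer_eq_top_iff.mp htop
      have : C ≤ M.normalCore := Subgroup.normal_le_normalCore.mpr hCM
      rw [hcore, le_bot_iff] at this
      exact hC1 this
  -- the Sylow p-subgroup of M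
  obtain ⟨P₀⟩ : Nonempty (Sylow p ↥M) := inferInstance
  have hP₀n : (P₀ : Subgroup ↥M).Normal :=
    ((Group.isNilpotent_of_finite_tfae (G := ↥M)).out 0 3 rfl rfl).mp hnil p inferInstance P₀
  set P : Subgroup G := (P₀ : Subgroup ↥M).map M.subtype with hP
  have hPM : P ≤ M := Subgroup.map_subtype_le _
  have hPp : IsPGroup p P := P₀.isPGroup'.map _
  have hPcard : Nat.card P = p ^ (Nat.card M).factorization p := by
    rw [hP, Subgroup.card_map_of_injective M.subtype_injective, Sylow.card_eq_multiplicity]
  have hfac : 1 ≤ (Nat.card M).factorization p := by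
    have : 0 < (Nat.card M).factorization p :=
      hpp.factorization_pos_of_dvd Nat.card_pos.ne' hpM
    exact this
  have hP1 : P ≠ ⊥ := by
    intro h
    rw [h, Subgroup.card_bot] at hPcard
    have : 1 < p ^ (Nat.card M).factorization p := Nat.one_lt_pow (by omega) hpp.one_lt
    omega
  have hMP : M ≤ Subgroup.normalizer (P : Set G) := by
    have h1 : (P.subgroupOf M).Normal := by
      have : P.subgroupOf M = (P₀ : Subgroup ↥M) := by
        rw [hP]
        exact Subgroup.comap_map_eq_self_of_injective M.subtype_injective _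
      rw [this]; exact hP₀n
    exact (Subgroup.normal_subgroupOf_iff_le_normalizer hPM).mp h1
  have hNP := key P hP1 hPM hMP
  -- P is Sylow in G
  obtain ⟨S, hPS⟩ := hPp.exists_le_sylow
  have hSP : (S : Subgroup G) = P := by
    by_contra hne
    have hlt : P < (S : Subgroup G) := lt_of_le_of_ne hPS (Ne.symm hne)
    obtain ⟨x, hxS, hxN, hxP⟩ := pgroup_normalizer_lt (S : Subgroup G) P S.isPGroup' hlt
    have hxM : x ∈ M := by rw [← hNP]; exact hxN
    -- ⟨P, x⟩ is a p-subgroup of M bigger than P₀
    set T := (S : Subgroup G) ⊓ M with hT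
    have hTp : IsPGroup p T := S.isPGroup'.to_le inf_le_left
    have hPT : P ≤ T := le_inf hPS hPM
    have hxT : x ∈ T := ⟨hxS, hxM⟩
    have hT' : IsPGroup p (T.subgroupOf M) := hTp.comap_subtype
    have hle : (P₀ : Subgroup ↥M) ≤ T.subgroupOf M := by
      intro y hy
      rw [Subgroup.mem_subgroupOf]
      exact hPT ⟨y, hy, rfl⟩
    have heq := P₀.is_maximal' hT' hle
    have : (⟨x, hxM⟩ : ↥M) ∈ (P₀ : Subgroup ↥M) := by
      rw [← heq, Subgroup.mem_subgroupOf]; exact hxT
    apply hxP
    exact ⟨⟨x, hxM⟩, this, rfl⟩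
  -- Thompson
  have hSne : (S : Subgroup G) ≠ ⊥ := by rw [hSP]; exact hP1
  have hSM : (S : Subgroup G) ≤ M := by rw [hSP]; exact hPM
  have hMS : M ≤ Subgroup.normalizer ((S : Subgroup G) : Set G) := by rw [hSP]; exact hMP
  haveI hMfin : Group.IsNilpotent ↥M := hnil
  have hnpcM : Cfsg.HasNormalPComplement p ↥M := npc_of_isNilpotent p
  have hT := (Cfsg.Agent.S0108.result hp2 S).mpr ⟨?_, ?_⟩
  · obtain ⟨S', K, hKn, hKS⟩ := hT
    refine ⟨K, hKn, ?_, ?_⟩
    · rw [hKS.symm.index_eq_card, Sylow.card_eq_multiplicity, ← hPcard, ← hSP,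
        Sylow.card_eq_multiplicity]
    · intro hd
      have h1 : Nat.card K * p ^ (Nat.card G).factorization p = Nat.card G := by
        rw [← Sylow.card_eq_multiplicity S']; exact hKS.card_mul_card
      have h2 : p ^ ((Nat.card G).factorization p + 1) ∣ Nat.card G := by
        have h3 : p * p ^ (Nat.card G).factorization p ∣
            Nat.card K * p ^ (Nat.card G).factorization p := Nat.mul_dvd_mul hd dvd_rfl
        rw [h1] at h3
        rw [pow_succ, mul_comm]; exact h3
      have := (hpp.pow_dvd_iff_le_factorization Nat.card_pos.ne').mp h2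
      omega
  · -- N(J(S))
    have hJ1 := thompsonSubgroupOf_ne_bot (S : Subgroup G) S.isPGroup' hSne
    have hJM : Cfsg.thompsonSubgroupOf p (S : Subgroup G) ≤ M :=
      le_trans (Cfsg.Agent.helper3.thompsonSubgroupOf_le_self p _) hSM
    have hMJ : M ≤ Subgroup.normalizer (Cfsg.thompsonSubgroupOf p (S : Subgroup G) : Set G) :=
      le_trans hMS (Cfsg.Agent.helper3.normalizer_le_normalizer_thompsonSubgroupOf p _)
    have hNJ := key _ hJ1 hJM hMJ
    rw [hNJ]
    exact hnpcM
  · -- C(Z(S))
    set Z := (S : Subgroup G) ⊓ Subgroup.centralizer ((S : Subgroup G) : Set G) with hZ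
    have hZ1 : Z ≠ ⊥ := by
      rw [hZ, ← map_center_eq_inf_centralizer]
      haveI : Nontrivial ↥(S : Subgroup G) := (Subgroup.nontrivial_iff_ne_bot _).mpr hSne
      haveI := S.isPGroup'.center_nontrivial
      intro h
      rw [Subgroup.map_eq_bot_iff_of_injective _ (Subgroup.subtype_injective _)] at h
      exact (Subgroup.nontrivial_iff_ne_bot _).mp inferInstance h
    have hZM : Z ≤ M := le_trans inf_le_left hSM
    have hMZ : M ≤ Subgroup.normalizer (Z : Set G) := by
      intro g hg
      have hgS := hMS hg
      rw [Subgroup.mem_normalizer_iff] at hgS ⊢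
      intro z
      have hconjC : ∀ y : G, y ∈ Subgroup.centralizer ((S : Subgroup G) : Set G) ↔
          g * y * g⁻¹ ∈ Subgroup.centralizer ((S : Subgroup G) : Set G) := by
        intro y
        rw [Subgroup.mem_centralizer_iff, Subgroup.mem_centralizer_iff]
        constructor
        · intro h s hs
          have h1 : g⁻¹ * s * g ∈ (S : Subgroup G) := by
            rw [hgS]
            have e : g * (g⁻¹ * s * g) * g⁻¹ = s := by group
            rw [e]; exact hs
          have h2 := h _ h1
          calc s * (g * y * g⁻¹) = g * ((g⁻¹ * s * g) * y) * g⁻¹ := by group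
            _ = g * (y * (g⁻¹ * s * g)) * g⁻¹ := by rw [h2]
            _ = g * y * g⁻¹ * s := by group
        · intro h s hs
          have h1 : g * s * g⁻¹ ∈ (S : Subgroup G) := (hgS s).mp hs
          have h2 := h _ h1
          have h3 : g⁻¹ * ((g * s * g⁻¹) * (g * y * g⁻¹)) * g = s * y := by group
          have h4 : g⁻¹ * ((g * y * g⁻¹) * (g * s * g⁻¹)) * g = y * s := by group
          rw [← h3, h2, h4]
      rw [hZ, Subgroup.mem_inf, Subgroup.mem_inf, ← hgS z, ← hconjC z]
    have hNZ := key Z hZ1 hZM hMZ
    have hCM : Subgroup.centralizer (Z : Set G) ≤ M := by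
      rw [← hNZ]; exact Subgroup.centralizer_le_normalizer _
    exact Cfsg.Agent.helper10.npc_of_injective (Subgroup.inclusion hCM)
      (Subgroup.inclusion_injective hCM) hnpcM

theorem solvable_of_nilpotent_odd_coatom_aux :
    ∀ n : ℕ, ∀ (G : Type u) [Group G] [Finite G], Nat.card G = n → ∀ M : Subgroup G, IsCoatom M →
      Group.IsNilpotent M → Odd (Nat.card M) → Group.IsSolvable G := by
  intro n
  induction n using Nat.strong_induction_on with
  | _ n ih =>
    intro G _ _ hn M hmax hnil hodd
    haveI := hnil
    have hMsolv : Group.IsSolvable ↥M := inferInstance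
    by_cases hcore : M.normalCore = ⊥
    · -- core-free
      have hex : ∀ p : (Nat.card M).primeFactors, ∃ K : Subgroup G, K.Normal ∧
          K.index = (p : ℕ) ^ (Nat.card M).factorization p ∧ ¬ (p : ℕ) ∣ Nat.card K := by
        rintro ⟨p, hp⟩
        have hpp := Nat.prime_of_mem_primeFactors hp
        haveI : Fact p.Prime := ⟨hpp⟩
        have hpM := Nat.dvd_of_mem_primeFactors hp
        have hp2 : p ≠ 2 := by
          rintro rfl
          exact (Nat.not_even_iff_odd.mpr hodd) (even_iff_two_dvd.mpr hpM)
        exact exists_npc_of_nilpotent_coatom M hmax hnil hcore p hp2 hpM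
      choose Kf hKn hKi hKc using hex
      set K := ⨅ p, Kf p with hK
      haveI hKnorm : K.Normal := Subgroup.normal_iInf_normal hKn
      have hKidx : K.index ≤ Nat.card M := by
        calc K.index ≤ ∏ p, (Kf p).index := Subgroup.index_iInf_le Kf
          _ = ∏ p : (Nat.card M).primeFactors, (p : ℕ) ^ (Nat.card M).factorization p :=
              Finset.prod_congr rfl (fun p _ => hKi p)
          _ = Nat.card M := by
            rw [Finset.prod_coe_sort (Nat.card M).primeFactors
              (fun p => p ^ (Nat.card M).factorization p)]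
            have := Nat.prod_factorization_pow_eq_self (Nat.card_pos (α := M)).ne'
            rw [Finsupp.prod, Nat.support_factorization] at this
            exact this
      have hcop : (Nat.card M).Coprime (Nat.card K) := by
        apply Nat.coprime_of_dvd
        intro q hq hqM hqK
        have hmem : q ∈ (Nat.card M).primeFactors :=
          Nat.mem_primeFactors.mpr ⟨hq, hqM, (Nat.card_pos (α := M)).ne'⟩
        have hle : K ≤ Kf ⟨q, hmem⟩ := iInf_le _ _
        exact hKc ⟨q, hmem⟩ (dvd_trans hqK (Subgroup.card_dvd_of_le hle))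
      have hinf : K ⊓ M = ⊥ := (Subgroup.disjoint_of_coprime_natCard hcop.symm).eq_bot
      have hprod := Cfsg.Agent.helper23.card_sup_mul_card_inf M K
      rw [hinf, Subgroup.card_bot, mul_one] at hprod
      have hKG := Subgroup.card_mul_index K
      have hsup : M ⊔ K = ⊤ := by
        apply Subgroup.eq_top_of_le_card
        rw [hprod, ← hKG, mul_comm]
        exact Nat.mul_le_mul_right _ hKidx
      have hcardG : Nat.card G = Nat.card M * Nat.card K := by
        rw [← hprod, hsup, Subgroup.card_top]
      have hK1 : K ≠ ⊥ := by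
        intro h
        rw [h, sup_bot_eq] at hsup
        exact hmax.1 hsup
      have hcK : Nat.card K ≠ 1 := by rwa [Ne, Subgroup.card_eq_one]
      obtain ⟨r, hr, hrK⟩ := Nat.exists_prime_and_dvd hcK
      haveI : Fact r.Prime := ⟨hr⟩
      have hMK : M ≤ Subgroup.normalizer (K : Set G) := by
        rw [Subgroup.normalizer_eq_top]; exact le_top
      obtain ⟨R, hRK, hRcard, hMR⟩ :=
        Cfsg.Agent.lead.exists_invariant_sylow M K hMK hcop (Or.inl hMsolv) r
      have hR1 : R ≠ ⊥ := by
        intro h
        rw [h, Subgroup.card_bot] at hRcard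
        have hpos : 0 < (Nat.card K).factorization r :=
          hr.factorization_pos_of_dvd Nat.card_pos.ne' hrK
        have : 1 < r ^ (Nat.card K).factorization r := Nat.one_lt_pow hpos.ne' hr.one_lt
        omega
      have hRM : R ⊓ M = ⊥ := by
        rw [eq_bot_iff, ← hinf]; exact inf_le_inf_right M hRK
      have hRnM : ¬ R ≤ M := fun h => hR1 (by rw [eq_bot_iff, ← hRM]; exact le_inf le_rfl h)
      have hsup2 : M ⊔ R = ⊤ :=
        hmax.2 _ (lt_of_le_of_ne le_sup_left (fun h => hRnM (h ▸ le_sup_right)))
      haveI hRn : R.Normal := by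
        rw [← Subgroup.normalizer_eq_top_iff, eq_top_iff, ← hsup2]
        exact sup_le hMR Subgroup.le_normalizer
      have hprod2 := Cfsg.Agent.helper23.card_sup_mul_card_inf M R
      rw [hRM, Subgroup.card_bot, mul_one, hsup2, Subgroup.card_top, hcardG] at hprod2
      have hRK' : R = K := Subgroup.eq_of_le_of_card_ge hRK (by
        have := Nat.eq_of_mul_eq_mul_left Nat.card_pos hprod2
        omega)
      have hKp : IsPGroup r K := by rw [← hRK']; exact IsPGroup.of_card hRcard
      haveI : Group.IsNilpotent ↥K := hKp.isNilpotent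
      haveI hKsolv : Group.IsSolvable ↥K := inferInstance
      haveI hQsolv : Group.IsSolvable (G ⧸ K) := by
        apply Group.isSolvable_of_surjective (f := (QuotientGroup.mk' K).comp M.subtype)
        intro q
        obtain ⟨g, rfl⟩ := QuotientGroup.mk_surjective q
        have hg : g ∈ M ⊔ K := by rw [hsup]; trivial
        rw [Subgroup.mem_sup_of_normal_right] at hg
        obtain ⟨m, hm, k, hk, rfl⟩ := hg
        refine ⟨⟨m, hm⟩, ?_⟩
        show ((m : G) : G ⧸ K) = ((m * k : G) : G ⧸ K)
        rw [QuotientGroup.eq]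
        simpa using hk
      exact Group.isSolvable_of_ker_le_range K.subtype (QuotientGroup.mk' K)
        (by rw [QuotientGroup.ker_mk', Subgroup.range_subtype])
    · -- pass to the quotient by the core
      set N := M.normalCore with hN
      haveI : N.Normal := Subgroup.normalCore_normal M
      have hNM : N ≤ M := Subgroup.normalCore_le M
      set π := QuotientGroup.mk' N with hπ
      have hπs : Function.Surjective π := QuotientGroup.mk'_surjective N
      have hlt : Nat.card (G ⧸ N) < n := by
        rw [← hn, ← Subgroup.index_eq_card, ← Subgroup.card_mul_index N]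
        have h1 : 1 < Nat.card N := by
          rw [Subgroup.one_lt_card_iff_ne_bot]; exact hcore
        have h2 : 0 < N.index := Nat.pos_of_ne_zero Subgroup.index_ne_zero_of_finite
        nlinarith
      have hcomap : (M.map π).comap π = M := by
        rw [Subgroup.comap_map_eq, QuotientGroup.ker_mk', sup_eq_left.mpr hNM]
      have hmax' : IsCoatom (M.map π) := by
        constructor
        · intro h
          apply hmax.1
          rw [← hcomap, h, Subgroup.comap_top]
        · intro K hK
          have h1 : M < K.comap π := by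
            rw [← hcomap]
            refine lt_of_le_of_ne (Subgroup.comap_mono hK.le) ?_
            intro h
            have := congrArg (Subgroup.map π) h
            rw [Subgroup.map_comap_eq_self_of_surjective hπs,
              Subgroup.map_comap_eq_self_of_surjective hπs] at this
            exact hK.ne this
          have h2 := hmax.2 _ h1
          rw [← Subgroup.map_comap_eq_self_of_surjective hπs K, h2,
            Subgroup.map_top_of_surjective π hπs]
      have hnil' : Group.IsNilpotent ↥(M.map π) :=
        Group.nilpotent_of_surjective (π.subgroupMap M) (π.subgroupMap_surjective M)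
      have hodd' : Odd (Nat.card ↥(M.map π)) := by
        have hd : Nat.card ↥(M.map π) ∣ Nat.card M :=
          Subgroup.card_dvd_of_surjective (π.subgroupMap M) (π.subgroupMap_surjective M)
        exact Odd.of_dvd_nat hodd hd
      haveI hQ := ih _ hlt (G ⧸ N) rfl (M.map π) hmax' hnil' hodd'
      haveI hNs : Group.IsSolvable ↥N :=
        Group.isSolvable_of_isSolvable_injective (Subgroup.inclusion_injective hNM)
      exact Group.isSolvable_of_ker_le_range N.subtype π
        (by rw [QuotientGroup.ker_mk', Subgroup.range_subtype])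

end Cfsg.Agent.helper19
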