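import Cfsg.Statements.S0039
import Mathlib.Tactic.Group

set_option autoImplicit false
open Cfsg

namespace Cfsg.Agent.S0039

open scoped Pointwise

/-- In a finite group that is a semidirect product of a normal subgroup K by a nontrivial subgroup H, H is a Frobenius complement exactly when each nonidentity element of H acts without nonidentity fixed points on K by conjugation. -/
theorem result {G : Type*} [Group G] [Finite G] (K H : Subgroup G) [K.Normal]
    (hc : Subgroup.IsComplement' K H) (hK : K ≠ ⊥) (hH : H ≠ ⊥) :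
    Cfsg.IsFrobeniusComplement H ↔ ∀ h ∈ H, h ≠ 1 → K ⊓ Subgroup.centralizer {h} = ⊥ := by
  have hdisj : K ⊓ H = ⊥ := hc.disjoint.eq_bot
  have hKH : ∀ x, x ∈ K → x ∈ H → x = 1 := by
    intro x hxK hxH
    have : x ∈ K ⊓ H := Subgroup.mem_inf.2 ⟨hxK, hxH⟩
    rw [hdisj] at this; exact Subgroup.mem_bot.1 this
  constructor
  · rintro ⟨_, _, hF⟩ h hh hh1
    rw [eq_bot_iff]
    intro k hk
    rw [Subgroup.mem_bot]
    obtain ⟨hkK, hkC⟩ := Subgroup.mem_inf.1 hk
    by_contra hk1
    have hkH : k ∉ H := fun hkH => hk1 (hKH k hkK hkH)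
    have hcomm : h * k = k * h := by
      rw [Subgroup.mem_centralizer_iff] at hkC
      exact hkC h rfl
    have hmem : h ∈ H ⊓ MulAut.conj k • H := by
      refine Subgroup.mem_inf.2 ⟨hh, ?_⟩
      have h1 : MulAut.conj k • h ∈ MulAut.conj k • H :=
        Subgroup.smul_mem_pointwise_smul h (MulAut.conj k) H hh
      have h2 : MulAut.conj k • h = h := by
        rw [MulAut.smul_def, MulAut.conj_apply, ← hcomm, mul_inv_cancel_right]
      rwa [h2] at h1
    rw [hF k hkH, Subgroup.mem_bot] at hmem
    exact hh1 hmem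
  · intro hfpf
    refine ⟨hH, ?_, ?_⟩
    · intro hT
      apply hK
      rw [eq_bot_iff]
      intro x hx
      rw [Subgroup.mem_bot]
      exact hKH x hx (hT ▸ Subgroup.mem_top x)
    · intro g hg
      obtain ⟨⟨⟨k, hk⟩, ⟨h, hh⟩⟩, hkh⟩ := hc.2 g
      have hg' : g = k * h := hkh.symm
      subst hg'
      have hk1 : k ≠ 1 := by
        rintro rfl
        apply hg; rw [one_mul]; exact hh
      rw [eq_bot_iff]
      intro x hx
      rw [Subgroup.mem_bot]
      obtain ⟨hxH, hxc⟩ := Subgroup.mem_inf.1 hx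
      rw [Subgroup.mem_pointwise_smul_iff_inv_smul_mem, MulAut.smul_def, ← map_inv,
        MulAut.conj_apply] at hxc
      have hz : k⁻¹ * x * k ∈ H := by
        have := H.mul_mem (H.mul_mem hh hxc) (H.inv_mem hh)
        have e : h * ((k * h)⁻¹ * x * (k * h)⁻¹⁻¹) * h⁻¹ = k⁻¹ * x * k := by group
        rwa [e] at this
      have hcomm : x * (k⁻¹ * x * k)⁻¹ = 1 := by
        apply hKH
        · have e : x * (k⁻¹ * x * k)⁻¹ = (x * k⁻¹ * x⁻¹) * k := by group
          rw [e]
          exact K.mul_mem (‹K.Normal›.conj_mem _ (K.inv_mem hk) x) hk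
        · exact H.mul_mem hxH (H.inv_mem hz)
      by_contra hx1
      have hkc : k ∈ K ⊓ Subgroup.centralizer {x} := by
        refine Subgroup.mem_inf.2 ⟨hk, ?_⟩
        rw [Subgroup.mem_centralizer_iff]
        intro y hy
        rw [Set.mem_singleton_iff] at hy
        rw [hy]
        have hxe : x = k⁻¹ * x * k := mul_inv_eq_one.1 hcomm
        calc x * k = k * (k⁻¹ * x * k) := by group
          _ = k * x := by rw [← hxe]
      rw [hfpf x hxH hx1, Subgroup.mem_bot] at hkc
      exact hk1 hkc

end Cfsg.Agent.S0039
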