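import Mathlib

set_option autoImplicit false

namespace Cfsg.Agent.helper15

universe u v

/-- Counting identity over the lines of the plane `(ZMod p)²`. -/
theorem lines_prod_identity {M : Type*} [CommMonoid M] (p : ℕ) [Fact p.Prime]
    (f : ZMod p → ZMod p → M) :
    (∏ k, ∏ i, f i (k * i)) * ∏ j, f 0 j = (f 0 0) ^ p * ∏ i, ∏ j, f i j := by
  haveI : NeZero p := ⟨(Fact.out : p.Prime).ne_zero⟩
  rw [Finset.prod_comm]
  rw [← Finset.mul_prod_erase Finset.univ (fun i => ∏ k, f i (k * i)) (Finset.mem_univ 0)]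
  rw [← Finset.mul_prod_erase Finset.univ (fun i => ∏ j, f i j) (Finset.mem_univ 0)]
  have h0 : (∏ k : ZMod p, f 0 (k * 0)) = (f 0 0) ^ p := by
    simp only [mul_zero, Finset.prod_const, Finset.card_univ, ZMod.card]
  have h1 : ∏ i ∈ Finset.univ.erase (0 : ZMod p), ∏ k, f i (k * i) =
      ∏ i ∈ Finset.univ.erase (0 : ZMod p), ∏ j, f i j := by
    apply Finset.prod_congr rfl
    intro i hi
    have hi0 : i ≠ 0 := (Finset.mem_erase.1 hi).1
    exact Equiv.prod_comp (Equiv.mulRight₀ i hi0) (fun j => f i j)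
  rw [h0, h1, mul_assoc]
  congr 1
  rw [mul_comm]

/-- Extraction of `p`-th roots in a group of order prime to `p`. -/
theorem mem_of_pow_mem {D : Type*} [Group D] [Finite D] {p : ℕ} [Fact p.Prime] (H : Subgroup D)
    (hp : ¬ p ∣ Nat.card D) (d : D) (h : d ^ p ∈ H) : d ∈ H := by
  have hcop : Nat.Coprime p (Nat.card D) :=
    (Nat.Prime.coprime_iff_not_dvd (Fact.out : p.Prime)).2 hp
  obtain ⟨a, b, hab⟩ := Nat.isCoprime_iff_coprime.2 hcop
  have h1 : d = (d ^ p) ^ a := by
    have h2 : d ^ (a * (p : ℤ) + b * (Nat.card D : ℤ)) = d := by rw [hab, zpow_one]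
    rw [zpow_add, zpow_mul', zpow_mul' d b, zpow_natCast, zpow_natCast, pow_card_eq_one',
      one_zpow, mul_one] at h2
    exact h2.symm
  rw [h1]
  exact H.zpow_mem h a

section Action

variable {E : Type v} [Group E]

/-- The fixed points of a single element. -/
def fixSub (D : Type u) [Group D] [MulDistribMulAction E D] (g : E) : Subgroup D where
  carrier := {d | g • d = d}
  one_mem' := smul_one g
  mul_mem' := by
    intro a b ha hb
    show g • (a * b) = a * b
    have ha' : g • a = a := ha
    have hb' : g • b = b := hb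
    rw [smul_mul', ha', hb']
  inv_mem' := by
    intro a ha
    show g • a⁻¹ = a⁻¹
    have ha' : g • a = a := ha
    rw [smul_inv', ha']

theorem mem_fixSub {D : Type u} [Group D] [MulDistribMulAction E D] (g : E) (d : D) :
    d ∈ fixSub D g ↔ g • d = d := Iff.rfl

/-- The subgroup generated by the fixed points of `y` and of the `x * y ^ k`. -/
def genFix (D : Type u) [Group D] [MulDistribMulAction E D] (x y : E) : Subgroup D :=
  fixSub D y ⊔ ⨆ k : ℕ, fixSub D (x * y ^ k)

theorem fixSub_le_genFix_y {D : Type u} [Group D] [MulDistribMulAction E D] (x y : E) :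
    fixSub D y ≤ genFix D x y := le_sup_left

theorem fixSub_le_genFix {D : Type u} [Group D] [MulDistribMulAction E D] (x y : E) (k : ℕ) :
    fixSub D (x * y ^ k) ≤ genFix D x y :=
  le_trans (le_iSup (fun k : ℕ => fixSub D (x * y ^ k)) k) le_sup_right

/-- The action on an invariant subgroup. -/
@[reducible] def subAction {D : Type u} [Group D] [MulDistribMulAction E D] (Q : Subgroup D)
    (h : ∀ (e : E) (d : D), d ∈ Q → e • d ∈ Q) : MulDistribMulAction E ↥Q where
  smul e d := ⟨e • (d : D), h e d d.2⟩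
  one_smul d := Subtype.ext (one_smul E (d : D))
  mul_smul a b d := Subtype.ext (mul_smul a b (d : D))
  smul_mul e a b := Subtype.ext (smul_mul' e (a : D) (b : D))
  smul_one e := Subtype.ext (smul_one e)

theorem map_fixSub_sub_le {D : Type u} [Group D] [MulDistribMulAction E D] (Q : Subgroup D)
    (h : ∀ (e : E) (d : D), d ∈ Q → e • d ∈ Q) (g : E) :
    (@fixSub E _ ↥Q _ (subAction Q h) g).map Q.subtype ≤ fixSub D g := by
  rintro _ ⟨d, hd, rfl⟩
  exact congrArg Subtype.val hd

theorem map_genFix_sub_le {D : Type u} [Group D] [MulDistribMulAction E D] (Q : Subgroup D)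
    (h : ∀ (e : E) (d : D), d ∈ Q → e • d ∈ Q) (x y : E) :
    (@genFix E _ ↥Q _ (subAction Q h) x y).map Q.subtype ≤ genFix D x y := by
  unfold genFix
  rw [Subgroup.map_sup, Subgroup.map_iSup]
  exact sup_le_sup (map_fixSub_sub_le Q h y) (iSup_mono fun k => map_fixSub_sub_le Q h _)

theorem le_genFix_of_sub_eq_top {D : Type u} [Group D] [MulDistribMulAction E D] (Q : Subgroup D)
    (h : ∀ (e : E) (d : D), d ∈ Q → e • d ∈ Q) (x y : E)
    (htop : @genFix E _ ↥Q _ (subAction Q h) x y = ⊤) : Q ≤ genFix D x y := by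
  have := map_genFix_sub_le Q h x y
  rw [htop, ← MonoidHom.range_eq_map, Subgroup.range_subtype] at this
  exact this

end Action

end Cfsg.Agent.helper15
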