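import Mathlib
import Cfsg.Agent.Lib_helper15_Gen1

set_option autoImplicit false

namespace Cfsg.Agent.helper15

universe u v

section Action

variable {E : Type v} [Group E]

open scoped IsMulCommutative in
/-- The commutative case: every `p`-th power lies in the span of the fixed point subgroups. -/
theorem pow_mem_genFix_of_comm {C : Type u} [Group C] [IsMulCommutative C] [MulDistribMulAction E C]
    {p : ℕ} [Fact p.Prime] {x y : E} (hxy : Commute x y) (hx : x ^ p = 1) (hy : y ^ p = 1) (c : C) :
    c ^ p ∈ genFix C x y := by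
  haveI : NeZero p := ⟨(Fact.out : p.Prime).ne_zero⟩
  let f : ZMod p → ZMod p → C := fun i j => (x ^ i.val * y ^ j.val) • c
  have hf : ∀ i j, f i j = (x ^ i.val * y ^ j.val) • c := fun _ _ => rfl
  have F0 : ∀ a b : ℕ, (x ^ a * y ^ b) • c = f (a : ZMod p) (b : ZMod p) := by
    intro a b
    rw [hf, ZMod.val_natCast, ZMod.val_natCast, ← pow_eq_pow_mod a hx, ← pow_eq_pow_mod b hy]
  have F2 : ∀ (a b : ℕ) (i j : ZMod p), (x ^ a * y ^ b) • f i j = f ((a : ZMod p) + i) ((b : ZMod p) + j) := by
    intro a b i j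
    rw [hf, ← mul_smul]
    have e1 : x ^ a * y ^ b * (x ^ i.val * y ^ j.val) = x ^ (a + i.val) * y ^ (b + j.val) := by
      rw [pow_add, pow_add]
      have hc : Commute (y ^ b) (x ^ i.val) := (hxy.symm.pow_pow b i.val)
      calc x ^ a * y ^ b * (x ^ i.val * y ^ j.val)
          = x ^ a * (y ^ b * x ^ i.val) * y ^ j.val := by simp only [mul_assoc]
        _ = x ^ a * (x ^ i.val * y ^ b) * y ^ j.val := by rw [hc.eq]
        _ = x ^ a * x ^ i.val * (y ^ b * y ^ j.val) := by simp only [mul_assoc]
    rw [e1, F0, Nat.cast_add, Nat.cast_add, ZMod.natCast_zmod_val, ZMod.natCast_zmod_val]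
  -- the line products
  have hN : ∀ k : ZMod p, (∏ i, f i (k * i)) ∈ genFix C x y := by
    intro k
    apply fixSub_le_genFix x y k.val
    rw [mem_fixSub, Finset.smul_prod']
    have : ∀ i : ZMod p, (x * y ^ k.val) • f i (k * i) = f (1 + i) (k * (1 + i)) := by
      intro i
      have := F2 1 k.val i (k * i)
      rw [pow_one, Nat.cast_one, ZMod.natCast_zmod_val] at this
      rw [this]
      congr 1
      ring
    simp only [this]
    exact Equiv.prod_comp (Equiv.addLeft (1 : ZMod p)) (fun i => f i (k * i))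
  have hNy : (∏ j, f 0 j) ∈ genFix C x y := by
    apply fixSub_le_genFix_y x y
    rw [mem_fixSub, Finset.smul_prod']
    have : ∀ j : ZMod p, y • f 0 j = f 0 (1 + j) := by
      intro j
      have := F2 0 1 0 j
      rw [pow_zero, one_mul, pow_one, Nat.cast_zero, Nat.cast_one, zero_add] at this
      exact this
    simp only [this]
    exact Equiv.prod_comp (Equiv.addLeft (1 : ZMod p)) (fun j => f 0 j)
  have hNE : (∏ i, ∏ j, f i j) ∈ genFix C x y := by
    apply fixSub_le_genFix_y x y
    rw [mem_fixSub, Finset.smul_prod']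
    apply Finset.prod_congr rfl
    intro i _
    rw [Finset.smul_prod']
    have : ∀ j : ZMod p, y • f i j = f i (1 + j) := by
      intro j
      have := F2 0 1 i j
      rw [pow_zero, one_mul, pow_one, Nat.cast_zero, Nat.cast_one, zero_add] at this
      exact this
    simp only [this]
    exact Equiv.prod_comp (Equiv.addLeft (1 : ZMod p)) (fun j => f i j)
  have hid := lines_prod_identity p f
  have h00 : f 0 0 = c := by
    rw [hf, ZMod.val_zero, pow_zero, pow_zero, one_mul, one_smul]
  rw [h00] at hid
  have : c ^ p = ((∏ k, ∏ i, f i (k * i)) * ∏ j, f 0 j) * (∏ i, ∏ j, f i j)⁻¹ := by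
    rw [hid, mul_inv_cancel_right]
  rw [this]
  exact Subgroup.mul_mem _ (Subgroup.mul_mem _ (Subgroup.prod_mem _ (fun k _ => hN k)) hNy)
    (Subgroup.inv_mem _ hNE)

/-- The commutative case of the generation theorem. -/
theorem genFix_eq_top_of_comm {C : Type u} [Group C] [Finite C] [IsMulCommutative C]
    [MulDistribMulAction E C]
    {p : ℕ} [Fact p.Prime] {x y : E} (hxy : Commute x y) (hx : x ^ p = 1) (hy : y ^ p = 1)
    (hp : ¬ p ∣ Nat.card C) : genFix C x y = ⊤ := by
  rw [eq_top_iff]
  intro c _
  exact mem_of_pow_mem _ hp c (pow_mem_genFix_of_comm hxy hx hy c)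

end Action

end Cfsg.Agent.helper15
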