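import Mathlib
import Cfsg.Agent.Lib_helper15_Gen2
import Cfsg.Agent.Lib_helper1_Core

set_option autoImplicit false

namespace Cfsg.Agent.helper15

universe u v

open scoped Pointwise

section Action

variable {E : Type v} [Group E]

theorem mk_smul_eq {D : Type u} [Group D] [MulDistribMulAction E D] (N : Subgroup D) [N.Normal]
    (h : ∀ (e : E) (d : D), d ∈ N → e • d ∈ N) (e : E) {d d' : D}
    (hd : (QuotientGroup.mk d : D ⧸ N) = QuotientGroup.mk d') :
    (QuotientGroup.mk (e • d) : D ⧸ N) = QuotientGroup.mk (e • d') := by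
  rw [QuotientGroup.eq] at hd ⊢
  have := h e _ hd
  rwa [smul_mul', smul_inv'] at this

theorem le_comap_smul {D : Type u} [Group D] [MulDistribMulAction E D] (N : Subgroup D)
    (h : ∀ (e : E) (d : D), d ∈ N → e • d ∈ N) (e : E) :
    N ≤ N.comap (MulDistribMulAction.toMonoidHom D e) := by
  intro d hd
  rw [Subgroup.mem_comap, MulDistribMulAction.toMonoidHom_apply]
  exact h e d hd

/-- The action on the quotient by an invariant normal subgroup. -/
@[reducible] def quotAction {D : Type u} [Group D] [MulDistribMulAction E D] (N : Subgroup D)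
    [N.Normal] (h : ∀ (e : E) (d : D), d ∈ N → e • d ∈ N) : MulDistribMulAction E (D ⧸ N) where
  smul e q := QuotientGroup.map N N (MulDistribMulAction.toMonoidHom D e) (le_comap_smul N h e) q
  one_smul q := by
    induction q using QuotientGroup.induction_on with
    | H d =>
      show QuotientGroup.map N N (MulDistribMulAction.toMonoidHom D (1 : E)) (le_comap_smul N h 1)
        (QuotientGroup.mk d) = _
      rw [QuotientGroup.map_mk, MulDistribMulAction.toMonoidHom_apply, one_smul]
  mul_smul a b q := by
    induction q using QuotientGroup.induction_on with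
    | H d =>
      show QuotientGroup.map N N (MulDistribMulAction.toMonoidHom D (a * b))
          (le_comap_smul N h (a * b)) (QuotientGroup.mk d) =
        QuotientGroup.map N N (MulDistribMulAction.toMonoidHom D a) (le_comap_smul N h a)
          (QuotientGroup.map N N (MulDistribMulAction.toMonoidHom D b) (le_comap_smul N h b)
            (QuotientGroup.mk d))
      rw [QuotientGroup.map_mk, QuotientGroup.map_mk, QuotientGroup.map_mk,
        MulDistribMulAction.toMonoidHom_apply, MulDistribMulAction.toMonoidHom_apply,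
        MulDistribMulAction.toMonoidHom_apply, mul_smul]
  smul_mul e a b := map_mul _ a b
  smul_one e := map_one _

theorem quotAction_smul_mk {D : Type u} [Group D] [MulDistribMulAction E D] (N : Subgroup D)
    [N.Normal] (h : ∀ (e : E) (d : D), d ∈ N → e • d ∈ N) (e : E) (d : D) :
    (@HSMul.hSMul E (D ⧸ N) (D ⧸ N) (@instHSMul E (D ⧸ N) (quotAction N h).toSMul) e
      (QuotientGroup.mk d : D ⧸ N)) = QuotientGroup.mk (e • d) := rfl

/-- A fixed coset of a normal subgroup of order prime to `p` contains a fixed point of a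
`p`-element. -/
theorem exists_fixed_in_coset {D : Type u} [Group D] [Finite D] [MulDistribMulAction E D]
    {p : ℕ} [Fact p.Prime] (N : Subgroup D) [N.Normal]
    (h : ∀ (e : E) (d : D), d ∈ N → e • d ∈ N) (hN : ¬ p ∣ Nat.card N) (g : E)
    (hg : IsPGroup p (Subgroup.zpowers g)) (d : D)
    (hd : (QuotientGroup.mk (g • d) : D ⧸ N) = QuotientGroup.mk d) :
    ∃ d' : D, (QuotientGroup.mk d' : D ⧸ N) = QuotientGroup.mk d ∧ g • d' = d' := by
  -- the stabilizer of the coset
  let T : Subgroup E :=
    { carrier := {z | (QuotientGroup.mk (z • d) : D ⧸ N) = QuotientGroup.mk d}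
      one_mem' := by show (QuotientGroup.mk ((1 : E) • d) : D ⧸ N) = _; rw [one_smul]
      mul_mem' := by
        intro a b ha hb
        show (QuotientGroup.mk ((a * b) • d) : D ⧸ N) = _
        rw [mul_smul, mk_smul_eq N h a hb]
        exact ha
      inv_mem' := by
        intro a ha
        show (QuotientGroup.mk (a⁻¹ • d) : D ⧸ N) = _
        have ha' : (QuotientGroup.mk d : D ⧸ N) = QuotientGroup.mk (a • d) := ha.symm
        rw [mk_smul_eq N h a⁻¹ ha', inv_smul_smul] }
  have hgT : Subgroup.zpowers g ≤ T := by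
    rw [Subgroup.zpowers_le]
    exact hd
  let X := {d' : D // (QuotientGroup.mk d' : D ⧸ N) = QuotientGroup.mk d}
  letI : MulAction ↥(Subgroup.zpowers g) X :=
    { smul := fun z d' => ⟨(z : E) • d'.1, by
        rw [mk_smul_eq N h (z : E) d'.2]
        exact hgT z.2⟩
      one_smul := fun d' => Subtype.ext (one_smul E d'.1)
      mul_smul := fun a b d' => Subtype.ext (mul_smul (a : E) (b : E) d'.1) }
  have hcard : Nat.card X = Nat.card N := by
    apply Nat.card_congr
    refine
      { toFun := fun d' => ⟨d⁻¹ * d'.1, by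
          have := d'.2
          rw [eq_comm, QuotientGroup.eq] at this
          exact this⟩
        invFun := fun n => ⟨d * n.1, by
          rw [eq_comm, QuotientGroup.eq]
          simpa using n.2⟩
        left_inv := fun d' => Subtype.ext (by simp)
        right_inv := fun n => Subtype.ext (by simp) }
  have hX : ¬ p ∣ Nat.card X := by rw [hcard]; exact hN
  obtain ⟨d', hd'⟩ := hg.nonempty_fixed_point_of_prime_not_dvd_card X hX
  refine ⟨d'.1, d'.2, ?_⟩
  have := hd' ⟨g, Subgroup.mem_zpowers g⟩
  exact congrArg Subtype.val this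

theorem fixSub_quot_le {D : Type u} [Group D] [Finite D] [MulDistribMulAction E D]
    {p : ℕ} [Fact p.Prime] (hE : IsPGroup p E) (N : Subgroup D) [N.Normal]
    (h : ∀ (e : E) (d : D), d ∈ N → e • d ∈ N) (hN : ¬ p ∣ Nat.card N) (g : E) :
    @fixSub E _ (D ⧸ N) _ (quotAction N h) g ≤ (fixSub D g).map (QuotientGroup.mk' N) := by
  intro q hq
  obtain ⟨d, rfl⟩ := QuotientGroup.mk_surjective q
  have hq' : (QuotientGroup.mk (g • d) : D ⧸ N) = QuotientGroup.mk d := hq
  obtain ⟨d', hd', hfix⟩ := exists_fixed_in_coset N h hN g (hE.to_subgroup _) d hq'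
  exact ⟨d', hfix, hd'⟩

theorem genFix_quot_le {D : Type u} [Group D] [Finite D] [MulDistribMulAction E D]
    {p : ℕ} [Fact p.Prime] (hE : IsPGroup p E) (N : Subgroup D) [N.Normal]
    (h : ∀ (e : E) (d : D), d ∈ N → e • d ∈ N) (hN : ¬ p ∣ Nat.card N) (x y : E) :
    @genFix E _ (D ⧸ N) _ (quotAction N h) x y ≤ (genFix D x y).map (QuotientGroup.mk' N) := by
  unfold genFix
  rw [Subgroup.map_sup, Subgroup.map_iSup]
  exact sup_le_sup (fixSub_quot_le hE N h hN y) (iSup_mono fun k => fixSub_quot_le hE N h hN _)

/-- If `N ≤ genFix` and the quotient is generated by fixed points, so is the group. -/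
theorem genFix_eq_top_of_quot {D : Type u} [Group D] [Finite D] [MulDistribMulAction E D]
    {p : ℕ} [Fact p.Prime] (hE : IsPGroup p E) (N : Subgroup D) [N.Normal]
    (h : ∀ (e : E) (d : D), d ∈ N → e • d ∈ N) (hN : ¬ p ∣ Nat.card N) (x y : E)
    (hle : N ≤ genFix D x y)
    (htop : @genFix E _ (D ⧸ N) _ (quotAction N h) x y = ⊤) : genFix D x y = ⊤ := by
  rw [eq_top_iff]
  intro d _
  have h1 : (QuotientGroup.mk d : D ⧸ N) ∈ (genFix D x y).map (QuotientGroup.mk' N) := by
    apply genFix_quot_le hE N h hN x y
    rw [htop]; trivial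
  obtain ⟨d0, hd0, hmk⟩ := h1
  have h2 : d0⁻¹ * d ∈ N := by
    rw [← QuotientGroup.eq]; exact hmk
  have : d = d0 * (d0⁻¹ * d) := by group
  rw [this]
  exact Subgroup.mul_mem _ hd0 (hle h2)

/-- Invariant Sylow subgroups for coprime action of a `p`-group. -/
theorem exists_invariant_sylow {D : Type u} [Group D] [Finite D] [MulDistribMulAction E D]
    {p : ℕ} [Fact p.Prime] (hE : IsPGroup p E) (hD : ¬ p ∣ Nat.card D) (q : ℕ) [Fact q.Prime] :
    ∃ Q : Sylow q D, ∀ (e : E) (d : D), d ∈ (Q : Subgroup D) → e • d ∈ (Q : Subgroup D) := by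
  have hcard : ¬ p ∣ Nat.card (Sylow q D) := by
    intro hdvd
    obtain ⟨P⟩ : Nonempty (Sylow q D) := inferInstance
    exact hD (dvd_trans hdvd (dvd_trans P.card_dvd_index (Subgroup.index_dvd_card _)))
  obtain ⟨Q, hQ⟩ := hE.nonempty_fixed_point_of_prime_not_dvd_card (Sylow q D) hcard
  refine ⟨Q, ?_⟩
  intro e d hd
  have h1 : e • d ∈ e • (Q : Subgroup D) := Subgroup.smul_mem_pointwise_smul d e _ hd
  rw [← Sylow.pointwise_smul_def, hQ e] at h1
  exact h1

theorem center_invariant {D : Type u} [Group D] [MulDistribMulAction E D] (e : E) (d : D)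
    (hd : d ∈ Subgroup.center D) : e • d ∈ Subgroup.center D := by
  rw [Subgroup.mem_center_iff] at hd ⊢
  intro g
  have h1 : g = e • (e⁻¹ • g) := (smul_inv_smul e g).symm
  rw [h1, ← smul_mul', ← smul_mul', hd]

/-- The generation theorem for a `p`-group `E` containing commuting elements `x`, `y` of order
dividing `p`, acting on a group of order prime to `p`. -/
theorem genFix_eq_top {p : ℕ} [Fact p.Prime] (hE : IsPGroup p E) {x y : E} (hxy : Commute x y)
    (hx : x ^ p = 1) (hy : y ^ p = 1) :
    ∀ (n : ℕ) (D : Type u) [Group D] [Finite D] [MulDistribMulAction E D], Nat.card D = n →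
      ¬ p ∣ Nat.card D → genFix D x y = ⊤ := by
  intro n
  induction n using Nat.strong_induction_on with
  | _ n ih =>
    intro D _ _ _ hn hp
    by_cases hsub : Subsingleton D
    · exact Subsingleton.elim _ _
    rw [not_subsingleton_iff_nontrivial] at hsub
    by_cases hq : ∃ q : ℕ, q.Prime ∧ IsPGroup q D
    · obtain ⟨q, hqp, hqD⟩ := hq
      haveI : Fact q.Prime := ⟨hqp⟩
      have hZnt : Nontrivial ↥(Subgroup.center D) := hqD.center_nontrivial
      have hZinv : ∀ (e : E) (d : D), d ∈ Subgroup.center D → e • d ∈ Subgroup.center D :=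
        center_invariant
      have hZp : ¬ p ∣ Nat.card ↥(Subgroup.center D) := fun hdvd =>
        hp (dvd_trans hdvd (Subgroup.card_subgroup_dvd_card _))
      have hZle : Subgroup.center D ≤ genFix D x y := by
        apply le_genFix_of_sub_eq_top _ hZinv
        exact @genFix_eq_top_of_comm E _ ↥(Subgroup.center D) _ _ _ (subAction _ hZinv) p _ x y
          hxy hx hy hZp
      have hcardlt : Nat.card (D ⧸ Subgroup.center D) < n := by
        have h1 := Subgroup.card_eq_card_quotient_mul_card_subgroup (Subgroup.center D)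
        have h2 : 1 < Nat.card ↥(Subgroup.center D) := Finite.one_lt_card
        have h3 : 0 < Nat.card (D ⧸ Subgroup.center D) := Nat.card_pos
        rw [← hn, h1]
        nlinarith
      have hQp : ¬ p ∣ Nat.card (D ⧸ Subgroup.center D) := fun hdvd =>
        hp (dvd_trans hdvd (Subgroup.card_quotient_dvd_card _))
      have htop := @ih _ hcardlt (D ⧸ Subgroup.center D) _ _ (quotAction _ hZinv) rfl hQp
      exact genFix_eq_top_of_quot hE _ hZinv hZp x y hZle htop
    · apply Cfsg.Agent.helper1.eq_top_of_forall_sylow_le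
      intro q hqF
      obtain ⟨Q, hQinv⟩ := exists_invariant_sylow hE hp q
      refine ⟨Q, ?_⟩
      have hQne : (Q : Subgroup D) ≠ ⊤ := by
        intro htop
        apply hq
        refine ⟨q, hqF.out, ?_⟩
        intro d
        have hd : d ∈ (Q : Subgroup D) := by rw [htop]; trivial
        obtain ⟨k, hk⟩ := Q.isPGroup' ⟨d, hd⟩
        refine ⟨k, ?_⟩
        have := congrArg Subtype.val hk
        simpa using this
      have hcardlt : Nat.card ↥(Q : Subgroup D) < n := by
        rw [← hn]
        apply lt_of_le_of_ne (Subgroup.card_le_card_group _)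
        intro heq
        exact hQne (Subgroup.eq_top_of_card_eq _ heq)
      have hQp : ¬ p ∣ Nat.card ↥(Q : Subgroup D) := fun hdvd =>
        hp (dvd_trans hdvd (Subgroup.card_subgroup_dvd_card _))
      apply le_genFix_of_sub_eq_top _ hQinv
      exact @ih _ hcardlt ↥(Q : Subgroup D) _ _ (subAction _ hQinv) rfl hQp

end Action

end Cfsg.Agent.helper15
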