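import Mathlib
import Cfsg.Agent.Lib_helper15_Gen3

set_option autoImplicit false

namespace Cfsg.Agent.helper15

universe u

/-- Conjugation action of a subgroup `B` on a subgroup `K` that it normalizes. -/
@[reducible] def conjActionOn {G : Type u} [Group G] (B K : Subgroup G)
    (hBK : B ≤ Subgroup.normalizer (K : Set G)) : MulDistribMulAction ↥B ↥K where
  smul b k := ⟨(b : G) * k * (b : G)⁻¹, (Subgroup.mem_normalizer_iff.1 (hBK b.2) k).1 k.2⟩
  one_smul k := Subtype.ext (by
    show ((1 : ↥B) : G) * k * ((1 : ↥B) : G)⁻¹ = k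
    simp)
  mul_smul a b k := Subtype.ext (by
    show ((a * b : ↥B) : G) * k * ((a * b : ↥B) : G)⁻¹ = (a : G) * ((b : G) * k * (b : G)⁻¹) * (a : G)⁻¹
    simp [mul_assoc])
  smul_mul b k₁ k₂ := Subtype.ext (by
    show (b : G) * ((k₁ * k₂ : ↥K) : G) * (b : G)⁻¹ =
      ((b : G) * k₁ * (b : G)⁻¹) * ((b : G) * k₂ * (b : G)⁻¹)
    simp [mul_assoc])
  smul_one b := Subtype.ext (by
    show (b : G) * ((1 : ↥K) : G) * (b : G)⁻¹ = 1
    simp)

theorem comm_of_mem_closure_pair {G : Type u} [Group G] {x y : G} (hxy : Commute x y) :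
    ∀ a ∈ Subgroup.closure ({x, y} : Set G), ∀ b ∈ Subgroup.closure ({x, y} : Set G),
      a * b = b * a := by
  have hcomm : ∀ a ∈ ({x, y} : Set G), ∀ b ∈ ({x, y} : Set G), a * b = b * a := by
    rintro a (rfl | rfl) b (rfl | rfl)
    · rfl
    · exact hxy.eq
    · exact hxy.eq.symm
    · rfl
  have h1 : Subgroup.closure ({x, y} : Set G) ≤ Subgroup.centralizer ({x, y} : Set G) := by
    rw [Subgroup.closure_le]
    intro a ha
    rw [SetLike.mem_coe, Subgroup.mem_centralizer_iff]
    intro h hh
    exact hcomm h hh a ha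
  have h2 : Subgroup.closure ({x, y} : Set G) ≤
      Subgroup.centralizer (Subgroup.closure ({x, y} : Set G) : Set G) := by
    rw [Subgroup.closure_le]
    intro a ha
    rw [SetLike.mem_coe, Subgroup.mem_centralizer_iff]
    intro b hb
    have := h1 hb
    rw [Subgroup.mem_centralizer_iff] at this
    exact (this a ha).symm
  intro a ha b hb
  have := h2 hb
  rw [Subgroup.mem_centralizer_iff] at this
  exact this a ha

theorem pow_eq_one_of_mem_closure_pair {G : Type u} [Group G] {x y : G} (hxy : Commute x y)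
    {p : ℕ} (hx : x ^ p = 1) (hy : y ^ p = 1) :
    ∀ z ∈ Subgroup.closure ({x, y} : Set G), z ^ p = 1 := by
  intro z hz
  induction hz using Subgroup.closure_induction with
  | mem a ha =>
    rcases ha with rfl | rfl
    · exact hx
    · exact hy
  | one => exact one_pow p
  | mul a b ha hb iha ihb =>
    have hc : Commute a b := comm_of_mem_closure_pair hxy a ha b hb
    rw [hc.mul_pow, iha, ihb, one_mul]
  | inv a _ iha => rw [inv_pow, iha, inv_one]

theorem isPGroup_closure_pair {G : Type u} [Group G] {x y : G} (hxy : Commute x y)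
    {p : ℕ} (hx : x ^ p = 1) (hy : y ^ p = 1) :
    IsPGroup p ↥(Subgroup.closure ({x, y} : Set G)) := by
  intro z
  refine ⟨1, ?_⟩
  rw [pow_one]
  apply Subtype.ext
  rw [Subgroup.coe_pow, Subgroup.coe_one]
  exact pow_eq_one_of_mem_closure_pair hxy hx hy z.1 z.2

/-- Coprime generation by centralizers, ambient version: commuting elements `x`, `y` of order
dividing `p` normalizing a subgroup `K` of order prime to `p`. -/
theorem le_iSup_centralizer_of_pair {G : Type u} [Group G] [Finite G] {p : ℕ} [Fact p.Prime]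
    {x y : G} (hxy : Commute x y) (hx : x ^ p = 1) (hy : y ^ p = 1) (K : Subgroup G)
    (hxK : x ∈ Subgroup.normalizer (K : Set G)) (hyK : y ∈ Subgroup.normalizer (K : Set G))
    (hp : ¬ p ∣ Nat.card K) :
    K ≤ (K ⊓ Subgroup.centralizer {y}) ⊔ ⨆ k : ℕ, K ⊓ Subgroup.centralizer {x * y ^ k} := by
  have hBK : Subgroup.closure ({x, y} : Set G) ≤ Subgroup.normalizer (K : Set G) := by
    rw [Subgroup.closure_le]
    rintro a (rfl | rfl)
    · exact hxK
    · exact hyK
  have hxB : x ∈ Subgroup.closure ({x, y} : Set G) := Subgroup.subset_closure (by simp)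
  have hyB : y ∈ Subgroup.closure ({x, y} : Set G) := Subgroup.subset_closure (by simp)
  have hE := isPGroup_closure_pair hxy hx hy
  have hxy' : Commute (⟨x, hxB⟩ : ↥(Subgroup.closure ({x, y} : Set G))) ⟨y, hyB⟩ :=
    Subtype.ext hxy.eq
  have hx' : (⟨x, hxB⟩ : ↥(Subgroup.closure ({x, y} : Set G))) ^ p = 1 := Subtype.ext hx
  have hy' : (⟨y, hyB⟩ : ↥(Subgroup.closure ({x, y} : Set G))) ^ p = 1 := Subtype.ext hy
  have htop := @genFix_eq_top ↥(Subgroup.closure ({x, y} : Set G)) _ p _ hE _ _ hxy' hx' hy'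
    (Nat.card K) ↥K _ _ (conjActionOn _ K hBK) rfl hp
  have hfix : ∀ g : ↥(Subgroup.closure ({x, y} : Set G)),
      (@fixSub ↥(Subgroup.closure ({x, y} : Set G)) _ ↥K _ (conjActionOn _ K hBK) g).map K.subtype ≤
        K ⊓ Subgroup.centralizer {(g : G)} := by
    rintro g _ ⟨k, hk, rfl⟩
    refine Subgroup.mem_inf.2 ⟨k.2, ?_⟩
    rw [Subgroup.mem_centralizer_singleton_iff]
    have h1 : (g : G) * k * (g : G)⁻¹ = k := congrArg Subtype.val hk
    calc (k : G) * g = ((g : G) * k * (g : G)⁻¹) * g := by rw [h1]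
      _ = g * k := by group
  have hmap : (⊤ : Subgroup ↥K).map K.subtype = K := by
    rw [← MonoidHom.range_eq_map, Subgroup.range_subtype]
  rw [← htop] at hmap
  unfold genFix at hmap
  rw [Subgroup.map_sup, Subgroup.map_iSup] at hmap
  refine le_trans (le_of_eq hmap.symm) ?_
  apply sup_le_sup
  · exact hfix ⟨y, hyB⟩
  · apply iSup_mono
    intro k
    have := hfix (⟨x, hxB⟩ * ⟨y, hyB⟩ ^ k)
    simpa using this

/-- In a finite commutative group in which, for every prime `q`, at most `q` elements satisfy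
`a ^ q = 1`, at most `n` elements satisfy `a ^ n = 1`. -/
theorem card_pow_eq_one_le_of_prime {A : Type*} [CommGroup A] [Fintype A] [DecidableEq A]
    (h : ∀ q : ℕ, q.Prime → (Finset.univ.filter (fun a : A => a ^ q = 1)).card ≤ q) :
    ∀ n : ℕ, 0 < n → (Finset.univ.filter (fun a : A => a ^ n = 1)).card ≤ n := by
  intro n
  induction n using Nat.strong_induction_on with
  | _ n ih =>
    intro hn
    by_cases hn1 : n = 1
    · subst hn1
      rw [Finset.card_le_one]
      intro a ha b hb
      rw [Finset.mem_filter, pow_one] at ha hb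
      rw [ha.2, hb.2]
    have hq : (Nat.minFac n).Prime := Nat.minFac_prime hn1
    obtain ⟨m, hm⟩ := Nat.minFac_dvd n
    have hm0 : 0 < m := by
      rcases Nat.eq_zero_or_pos m with h0 | h0
      · rw [h0, mul_zero] at hm; omega
      · exact h0
    have hmlt : m < n := by
      have := hq.two_le
      nlinarith
    have him : ((Finset.univ.filter (fun a : A => a ^ n = 1)).image (fun a => a ^ (Nat.minFac n))) ⊆
        Finset.univ.filter (fun a : A => a ^ m = 1) := by
      intro b hb
      obtain ⟨a, ha, rfl⟩ := Finset.mem_image.1 hb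
      rw [Finset.mem_filter] at ha ⊢
      refine ⟨Finset.mem_univ _, ?_⟩
      rw [← pow_mul, ← hm]; exact ha.2
    have hfib : ∀ b ∈ (Finset.univ.filter (fun a : A => a ^ n = 1)).image (fun a => a ^ (Nat.minFac n)),
        ((Finset.univ.filter (fun a : A => a ^ n = 1)).filter
          (fun a => a ^ (Nat.minFac n) = b)).card ≤ Nat.minFac n := by
      intro b hb
      obtain ⟨a0, _, ha0⟩ := Finset.mem_image.1 hb
      refine le_trans ?_ (h _ hq)
      apply Finset.card_le_card_of_injOn (fun a => a * a0⁻¹)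
      · intro a ha
        have ha' := (Finset.mem_filter.1 (Finset.mem_coe.1 ha)).2
        rw [Finset.mem_coe, Finset.mem_filter]
        refine ⟨Finset.mem_univ _, ?_⟩
        have ha0' : a0 ^ (Nat.minFac n) = b := ha0
        rw [mul_pow, inv_pow, ha', ← ha0', mul_inv_cancel]
      · intro a _ a' _ haa'
        exact mul_right_cancel haa'
    have h1 := Finset.card_le_mul_card_image (Finset.univ.filter (fun a : A => a ^ n = 1))
      (Nat.minFac n) hfib
    have h2 := Finset.card_le_card him
    have h3 := ih m hmlt hm0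
    calc (Finset.univ.filter (fun a : A => a ^ n = 1)).card
        ≤ Nat.minFac n * ((Finset.univ.filter (fun a : A => a ^ n = 1)).image
            (fun a => a ^ (Nat.minFac n))).card := h1
      _ ≤ Nat.minFac n * m := Nat.mul_le_mul_left _ (le_trans h2 h3)
      _ = n := hm.symm

end Cfsg.Agent.helper15
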