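import Mathlib
import Cfsg.Agent.Lib_helper15_Gen4

set_option autoImplicit false

namespace Cfsg.Agent.helper15

universe u

open scoped IsMulCommutative in
/-- A finite noncyclic abelian subgroup contains commuting elements `x`, `y` of prime order `p`
spanning a subgroup of order `p²`. -/
theorem exists_pair_of_not_isCyclic {G : Type u} [Group G] [Finite G] (A : Subgroup G)
    [IsMulCommutative A] (hA : ¬ IsCyclic A) :
    ∃ p : ℕ, p.Prime ∧ ∃ x y : G, x ∈ A ∧ y ∈ A ∧ x ^ p = 1 ∧ y ^ p = 1 ∧ y ≠ 1 ∧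
      ∀ k : ℕ, x * y ^ k ≠ 1 := by
  classical
  haveI : Fintype ↥A := Fintype.ofFinite _
  have hex : ∃ q : ℕ, q.Prime ∧ q < (Finset.univ.filter (fun a : ↥A => a ^ q = 1)).card := by
    by_contra hcon
    push Not at hcon
    apply hA
    apply isCyclic_of_card_pow_eq_one_le
    exact card_pow_eq_one_le_of_prime hcon
  obtain ⟨q, hq, hcard⟩ := hex
  have h1 : 1 < (Finset.univ.filter (fun a : ↥A => a ^ q = 1)).card :=
    lt_trans hq.one_lt hcard
  obtain ⟨y, hy, hy1⟩ := Finset.exists_mem_ne h1 (1 : ↥A)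
  have hyq : y ^ q = 1 := (Finset.mem_filter.1 hy).2
  haveI : Fact q.Prime := ⟨hq⟩
  have hord : orderOf y = q := orderOf_eq_prime hyq hy1
  have hexx : ∃ x ∈ Finset.univ.filter (fun a : ↥A => a ^ q = 1), x ∉ Subgroup.zpowers y := by
    by_contra hcon
    push Not at hcon
    have hsub : Finset.univ.filter (fun a : ↥A => a ^ q = 1) ⊆
        Finset.univ.filter (fun a : ↥A => a ∈ Subgroup.zpowers y) := by
      intro a ha
      rw [Finset.mem_filter]
      exact ⟨Finset.mem_univ _, hcon a ha⟩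
    have h2 := Finset.card_le_card hsub
    have h3 : (Finset.univ.filter (fun a : ↥A => a ∈ Subgroup.zpowers y)).card = q := by
      rw [← Fintype.card_subtype, ← Nat.card_eq_fintype_card]
      have : Nat.card ↥(Subgroup.zpowers y) = orderOf y := Nat.card_zpowers y
      rw [← hord, ← this]
    omega
  obtain ⟨x, hx, hxy⟩ := hexx
  have hxq : x ^ q = 1 := (Finset.mem_filter.1 hx).2
  refine ⟨q, hq, x.1, y.1, x.2, y.2, ?_, ?_, ?_, ?_⟩
  · have := congrArg Subtype.val hxq
    rwa [Subgroup.coe_pow, Subgroup.coe_one] at this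
  · have := congrArg Subtype.val hyq
    rwa [Subgroup.coe_pow, Subgroup.coe_one] at this
  · intro h
    apply hy1
    exact Subtype.ext h
  · intro k hk
    apply hxy
    have h2 : x * y ^ k = 1 := Subtype.ext (by
      rw [Subgroup.coe_mul, Subgroup.coe_pow, Subgroup.coe_one]; exact hk)
    have h3 : x = (y ^ k)⁻¹ := eq_inv_of_mul_eq_one_left h2
    rw [h3]
    exact Subgroup.inv_mem _ (Subgroup.pow_mem _ (Subgroup.mem_zpowers y) k)

/-- Generation by centralizers (coprime action of a noncyclic abelian group). -/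
theorem iSup_centralizer_eq_of_not_isCyclic {G : Type u} [Group G] [Finite G] (A K : Subgroup G)
    [IsMulCommutative A] (hA : ¬ IsCyclic A) (hAK : A ≤ Subgroup.normalizer (K : Set G))
    (hcop : (Nat.card A).Coprime (Nat.card K)) :
    (⨆ a ∈ {a : G | a ∈ A ∧ a ≠ 1}, K ⊓ Subgroup.centralizer {a}) = K := by
  apply le_antisymm
  · exact iSup₂_le fun a _ => inf_le_left
  obtain ⟨p, hp, x, y, hxA, hyA, hxp, hyp, hy1, hxy1⟩ := exists_pair_of_not_isCyclic A hA
  haveI : Fact p.Prime := ⟨hp⟩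
  have hpA : p ∣ Nat.card A := by
    have hord : orderOf y = p := orderOf_eq_prime hyp hy1
    have h1 : orderOf (⟨y, hyA⟩ : ↥A) = p := by rw [← hord, ← Subgroup.orderOf_coe]
    rw [← h1]
    exact orderOf_dvd_natCard _
  have hpK : ¬ p ∣ Nat.card K := by
    intro hdvd
    exact hp.one_lt.ne' (Nat.eq_one_of_dvd_coprimes hcop hpA hdvd)
  have hcomm : Commute x y := Subgroup.mul_comm_of_mem_isMulCommutative (H := A) hxA hyA
  refine le_trans (le_iSup_centralizer_of_pair hcomm hxp hyp K (hAK hxA) (hAK hyA) hpK) ?_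
  apply sup_le
  · exact le_iSup₂ (f := fun (a : G) (_ : a ∈ {a : G | a ∈ A ∧ a ≠ 1}) =>
      K ⊓ Subgroup.centralizer {a}) y ⟨hyA, hy1⟩
  · apply iSup_le
    intro k
    exact le_iSup₂ (f := fun (a : G) (_ : a ∈ {a : G | a ∈ A ∧ a ≠ 1}) =>
      K ⊓ Subgroup.centralizer {a}) (x * y ^ k) ⟨A.mul_mem hxA (A.pow_mem hyA k), hxy1 k⟩

end Cfsg.Agent.helper15
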