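import Cfsg.Statements.S0040
import Cfsg.Agent.S0016
import Cfsg.Agent.S0039
import Cfsg.Agent.Lib_helper21_FrobCount
import Cfsg.Agent.Lib_helper15_Gen5
import Cfsg.Agent.Lib_helper1_PCenter

set_option autoImplicit false
open Cfsg

namespace Cfsg.Agent.S0040

/-- two distinct subgroups of order `p` in a finite `p`-group give a noncyclic commutative subgroup -/
theorem exists_noncyclic {Q : Type*} [Group Q] [Finite Q] {p : ℕ} [hp : Fact p.Prime]
    (hQ : IsPGroup p Q) (H₁ H₂ : Subgroup Q) (h₁ : Nat.card H₁ = p) (h₂ : Nat.card H₂ = p)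
    (hne : H₁ ≠ H₂) : ∃ A : Subgroup Q, IsMulCommutative A ∧ ¬ IsCyclic A := by
  have gen : ∀ H : Subgroup Q, Nat.card H = p → ∃ x, orderOf x = p ∧ Subgroup.zpowers x = H := by
    intro H hH
    haveI : Nontrivial H := by
      rw [← Finite.one_lt_card_iff_nontrivial, hH]; exact hp.out.one_lt
    obtain ⟨x, hx⟩ := exists_ne (1 : H)
    have hxo : orderOf (x : Q) = p := by
      have hd : orderOf x ∣ p := by rw [← hH]; exact orderOf_dvd_natCard x
      rw [Subgroup.orderOf_coe]
      rcases (Nat.dvd_prime hp.out).mp hd with h | h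
      · exact absurd (orderOf_eq_one_iff.mp h) hx
      · exact h
    refine ⟨x, hxo, ?_⟩
    apply Subgroup.eq_of_le_of_card_ge (Subgroup.zpowers_le.mpr x.2)
    rw [Nat.card_zpowers, hxo, hH]
  obtain ⟨x₁, hx₁, rfl⟩ := gen H₁ h₁
  obtain ⟨x₂, hx₂, rfl⟩ := gen H₂ h₂
  haveI : Nontrivial Q := by
    refine ⟨⟨x₁, 1, ?_⟩⟩
    intro h
    rw [h, orderOf_one] at hx₁
    exact hp.out.one_lt.ne hx₁
  obtain ⟨k, hk0, hk⟩ :=
    (hQ.to_subgroup (Subgroup.center Q)).nontrivial_iff_card.mp hQ.center_nontrivial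
  obtain ⟨z, hz⟩ := exists_prime_orderOf_dvd_card' (G := Subgroup.center Q) p
    (by rw [hk]; exact dvd_pow_self _ hk0.ne')
  have hzo : orderOf (z : Q) = p := by rw [Subgroup.orderOf_coe]; exact hz
  have key : ∀ x : Q, orderOf x = p → Subgroup.zpowers x ≠ Subgroup.zpowers (z : Q) →
      ∃ A : Subgroup Q, IsMulCommutative A ∧ ¬ IsCyclic A := by
    intro x hx hxz
    have hcomm : ∀ a ∈ ({x, (z : Q)} : Set Q), ∀ b ∈ ({x, (z : Q)} : Set Q), a * b = b * a := by
      have hzc : ∀ g : Q, g * z = z * g := fun g => Subgroup.mem_center_iff.mp z.2 g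
      rintro a (rfl | rfl) b (rfl | rfl)
      · rfl
      · exact hzc _
      · exact (hzc _).symm
      · rfl
    refine ⟨Subgroup.closure {x, (z : Q)}, Subgroup.isMulCommutative_closure hcomm, ?_⟩
    intro hcyc
    have hxA : x ∈ Subgroup.closure {x, (z : Q)} := Subgroup.subset_closure (by simp)
    have hzA : (z : Q) ∈ Subgroup.closure {x, (z : Q)} := Subgroup.subset_closure (by simp)
    have hzp : (z : Q) ^ p = 1 := by rw [← hzo]; exact pow_orderOf_eq_one _
    have hmem := Cfsg.Agent.helper1.mem_zpowers_of_orderOf_eq_prime hp.out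
      (⟨x, hxA⟩ : Subgroup.closure {x, (z : Q)}) ⟨z, hzA⟩
      ((Subgroup.orderOf_coe (⟨x, hxA⟩ : Subgroup.closure {x, (z : Q)})).symm.trans hx)
      (Subtype.ext (by simpa using hzp))
    obtain ⟨i, hi⟩ := Subgroup.mem_zpowers_iff.mp hmem
    have hi' : x ^ i = (z : Q) := by
      have := congrArg Subtype.val hi
      simpa using this
    apply hxz
    symm
    apply Subgroup.eq_of_le_of_card_ge
    · rw [Subgroup.zpowers_le, ← hi']
      exact Subgroup.zpow_mem_zpowers x i
    · rw [Nat.card_zpowers, Nat.card_zpowers, hx, hzo]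
  by_cases h : Subgroup.zpowers x₁ = Subgroup.zpowers (z : Q)
  · apply key x₂ hx₂
    intro h'
    exact hne (h.trans h'.symm)
  · exact key x₁ hx₁ h

theorem result {G : Type*} [Group G] [Finite G] (K H : Subgroup G) [K.Normal]
    (hc : Subgroup.IsComplement' K H) (hK : K ≠ ⊥) (hfpf : ∀ h ∈ H, h ≠ 1 → K ⊓ Subgroup.centralizer {h} = ⊥)
    (p : ℕ) [Fact p.Prime] (P : Sylow p H) :
    IsCyclic P ∨ ∃ n : ℕ, Nonempty (P ≃* QuaternionGroup (2 ^ n)) := by
  by_cases hH : H = ⊥
  · left
    have h1 : Nat.card H = 1 := by rw [hH, Subgroup.card_bot]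
    have h2 : Nat.card (P : Subgroup H) = 1 := by
      have := Subgroup.card_subgroup_dvd_card (P : Subgroup H)
      rw [h1] at this
      exact Nat.dvd_one.mp this
    haveI : Subsingleton (P : Subgroup H) := (Nat.card_eq_one_iff_unique.mp h2).1
    exact isCyclic_of_subsingleton
  have hF : Cfsg.IsFrobeniusComplement H := (Cfsg.Agent.S0039.result K H hc hK hH).mpr hfpf
  have hdvd := Cfsg.Agent.helper21.frobc_card_dvd H hF
  have hidx : H.index = Nat.card K := hc.index_eq_card
  have hcop : (Nat.card H).Coprime (Nat.card K) := by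
    rw [hidx] at hdvd
    have hKpos : 0 < Nat.card K := Nat.card_pos
    have h1 : Nat.gcd (Nat.card H) (Nat.card K) ∣ Nat.card K - (Nat.card K - 1) :=
      Nat.dvd_sub (Nat.gcd_dvd_right _ _) ((Nat.gcd_dvd_left _ _).trans hdvd)
    have h2 : Nat.card K - (Nat.card K - 1) = 1 := by omega
    rw [h2] at h1
    exact Nat.dvd_one.mp h1
  have huniq : ∀ H₁ H₂ : Subgroup (P : Subgroup H), Nat.card H₁ = p → Nat.card H₂ = p → H₁ = H₂ := by
    intro H₁ H₂ h₁ h₂
    by_contra hne
    obtain ⟨A', hA'c, hA'nc⟩ := exists_noncyclic P.2 H₁ H₂ h₁ h₂ hne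
    let f : (P : Subgroup H) →* G := H.subtype.comp (P : Subgroup H).subtype
    have hf : Function.Injective f :=
      (Subgroup.subtype_injective H).comp (Subgroup.subtype_injective (P : Subgroup H))
    haveI := hA'c
    haveI : IsMulCommutative (A'.map f) := Subgroup.map_isMulCommutative A' f
    have hAnc : ¬ IsCyclic (A'.map f) := by
      intro h
      apply hA'nc
      haveI := h
      have e : A' ≃* A'.map f := A'.equivMapOfInjective f hf
      exact isCyclic_of_surjective e.symm e.symm.surjective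
    have hAH : A'.map f ≤ H := by
      rintro _ ⟨a, -, rfl⟩
      exact ((a : (P : Subgroup H)) : H).2
    have hAK : A'.map f ≤ Subgroup.normalizer (K : Set G) := by
      rw [Subgroup.normalizer_eq_top]; exact le_top
    have hcopA : (Nat.card (A'.map f)).Coprime (Nat.card K) :=
      hcop.coprime_dvd_left (Subgroup.card_dvd_of_le hAH)
    have := Cfsg.Agent.helper15.iSup_centralizer_eq_of_not_isCyclic (A'.map f) K hAnc hAK hcopA
    apply hK
    rw [← this]
    simp only [iSup_eq_bot]
    intro a ha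
    exact hfpf a (hAH ha.1) ha.2
  rcases Cfsg.Agent.S0016.result p P.2 huniq with h | ⟨-, h⟩
  · exact Or.inl h
  · exact Or.inr h

end Cfsg.Agent.S0040
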