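import Mathlib
import Cfsg.Agent.Lib_helper15_Gen4

set_option autoImplicit false
set_option linter.style.haveILetI false
set_option linter.deprecated false

namespace Cfsg.Agent.helper23

open scoped IsMulCommutative

/-- A fixed-point-free action (every nonidentity element fixes only `1`) is coprime. -/
theorem fpf_coprime {A : Type*} [Group A] [Finite A] {V : Type*} [Group V] [Finite V]
    [MulDistribMulAction A V] (hfpf : ∀ a : A, a ≠ 1 → ∀ v : V, a • v = v → v = 1) :
    (Nat.card A).Coprime (Nat.card V) := by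
  apply Nat.coprime_of_dvd
  intro r hr hrA hrV
  haveI : Fact r.Prime := ⟨hr⟩
  obtain ⟨a, ha⟩ := exists_prime_orderOf_dvd_card' r hrA
  have hB : IsPGroup r (Subgroup.zpowers a) :=
    IsPGroup.of_card (n := 1) (by rw [Nat.card_zpowers, ha, pow_one])
  have h1 : (1 : V) ∈ MulAction.fixedPoints (Subgroup.zpowers a) V := by
    intro b
    show (b : A) • (1 : V) = 1
    exact smul_one _
  obtain ⟨v, hv, hne⟩ := hB.exists_fixed_point_of_prime_dvd_card_of_fixed_point V hrV h1
  have ha1 : a ≠ 1 := by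
    intro h; rw [h, orderOf_one] at ha; exact hr.one_lt.ne ha
  have := hfpf a ha1 v (hv ⟨a, Subgroup.mem_zpowers a⟩)
  exact hne this.symm

/-- A group of order `pq` (`p < q` primes) acting fixed-point-freely on a nontrivial abelian
group is abelian. -/
theorem fpf_pq_comm {A : Type*} [Group A] [Finite A] {V : Type*} [Group V] [IsMulCommutative V]
    [Finite V] [MulDistribMulAction A V] (hfpf : ∀ a : A, a ≠ 1 → ∀ v : V, a • v = v → v = 1)
    (hV : ∃ v : V, v ≠ 1) {p q : ℕ} (hp : p.Prime) (hq : q.Prime) (hcard : Nat.card A = p * q)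
    (hpq : p < q) : ∀ a b : A, a * b = b * a := by
  by_contra hnc
  classical
  haveI : Fact p.Prime := ⟨hp⟩
  haveI : Fact q.Prime := ⟨hq⟩
  obtain ⟨Q, hQ⟩ := Sylow.exists_subgroup_card_pow_prime (G := A) q (n := 1)
    (by rw [hcard, pow_one]; exact dvd_mul_left q p)
  obtain ⟨P, hP⟩ := Sylow.exists_subgroup_card_pow_prime (G := A) p (n := 1)
    (by rw [hcard, pow_one]; exact dvd_mul_right p q)
  rw [pow_one] at hQ hP
  have hminFac : (p * q).minFac = p := by
    have h1 : (p * q).minFac ≤ p := Nat.minFac_le_of_dvd hp.two_le (dvd_mul_right p q)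
    have h2 : (p * q).minFac.Prime := Nat.minFac_prime (by
      have := hp.two_le; have := hq.two_le; nlinarith)
    have h3 : (p * q).minFac ∣ p * q := Nat.minFac_dvd _
    rcases (Nat.Prime.dvd_mul h2).1 h3 with h | h
    · exact (Nat.prime_dvd_prime_iff_eq h2 hp).1 h
    · have := (Nat.prime_dvd_prime_iff_eq h2 hq).1 h
      omega
  haveI hQn : Q.Normal := by
    apply Subgroup.normal_of_index_eq_minFac_card
    have hidx : Q.index = p := by
      have := Subgroup.index_mul_card Q
      rw [hQ, hcard] at this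
      exact Nat.eq_of_mul_eq_mul_right hq.pos this
    rw [hidx, hcard, hminFac]
  haveI : Fintype Q := Fintype.ofFinite Q
  haveI : Fintype P := Fintype.ofFinite P
  have hpow_P : ∀ g : P, (g : A) ^ p = 1 := by
    intro g
    have h1 : g ^ Nat.card P = 1 := pow_card_eq_one'
    rw [hP] at h1
    have := congrArg Subtype.val h1
    simpa using this
  have hpow_Q : ∀ c : Q, (c : A) ^ q = 1 := by
    intro c
    have h1 : c ^ Nat.card Q = 1 := pow_card_eq_one'
    rw [hQ] at h1
    have := congrArg Subtype.val h1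
    simpa using this
  have hcent : ∀ g : P, g ≠ 1 → ∀ c : Q, (c : A) * g = g * c → c = 1 := by
    intro g hg c hcg
    by_contra hc
    have hg1 : (g : A) ≠ 1 := fun h => hg (Subtype.ext h)
    have hc1 : (c : A) ≠ 1 := fun h => hc (Subtype.ext h)
    have hog : orderOf (g : A) = p := orderOf_eq_prime (hpow_P g) hg1
    have hoc : orderOf (c : A) = q := orderOf_eq_prime (hpow_Q c) hc1
    have hcA : (c : A) ∈ Subgroup.closure ({(c : A), (g : A)} : Set A) :=
      Subgroup.subset_closure (by simp)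
    have hgA : (g : A) ∈ Subgroup.closure ({(c : A), (g : A)} : Set A) :=
      Subgroup.subset_closure (by simp)
    have hd1 : p ∣ Nat.card (Subgroup.closure ({(c : A), (g : A)} : Set A)) := by
      rw [← hog]; exact Subgroup.orderOf_dvd_natCard _ hgA
    have hd2 : q ∣ Nat.card (Subgroup.closure ({(c : A), (g : A)} : Set A)) := by
      rw [← hoc]; exact Subgroup.orderOf_dvd_natCard _ hcA
    have hcop : Nat.Coprime p q := (Nat.coprime_primes hp hq).2 hpq.ne
    have hd3 : p * q ∣ Nat.card (Subgroup.closure ({(c : A), (g : A)} : Set A)) :=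
      Nat.Coprime.mul_dvd_of_dvd_of_dvd hcop hd1 hd2
    have htop : Subgroup.closure ({(c : A), (g : A)} : Set A) = ⊤ := by
      apply Subgroup.eq_top_of_card_eq
      apply Nat.dvd_antisymm (Subgroup.card_subgroup_dvd_card _)
      rw [hcard]; exact hd3
    apply hnc
    intro a b
    exact helper15.comm_of_mem_closure_pair (show Commute (c : A) (g : A) from hcg) a
      (htop ▸ Subgroup.mem_top a) b (htop ▸ Subgroup.mem_top b)
  obtain ⟨v, hv⟩ := hV
  obtain ⟨z₀, hz₀⟩ : ∃ z : Q, z ≠ 1 := by
    haveI : Nontrivial Q := by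
      rw [← Finite.one_lt_card_iff_nontrivial, hQ]; exact hq.one_lt
    exact exists_ne 1
  obtain ⟨g₀, hg₀⟩ : ∃ g : P, g ≠ 1 := by
    haveI : Nontrivial P := by
      rw [← Finite.one_lt_card_iff_nontrivial, hP]; exact hp.one_lt
    exact exists_ne 1
  have hNQ : ∀ w : V, ∏ z : Q, (z : A) • w = 1 := by
    intro w
    apply hfpf (z₀ : A) (fun h => hz₀ (Subtype.ext h))
    rw [Finset.smul_prod']
    rw [← Equiv.prod_comp (Equiv.mulLeft z₀) (fun z : Q => (z : A) • w)]
    apply Finset.prod_congr rfl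
    intro z _
    rw [← mul_smul]
    rfl
  have hNP : ∀ y : Q, ∏ g : P, ((y : A) * g * (y : A)⁻¹) • v = 1 := by
    intro y
    have hc : (y : A) * g₀ * (y : A)⁻¹ ≠ 1 := by
      intro h
      rw [conj_eq_one_iff] at h
      exact hg₀ (Subtype.ext h)
    apply hfpf _ hc
    rw [Finset.smul_prod']
    rw [← Equiv.prod_comp (Equiv.mulLeft g₀) (fun g : P => ((y : A) * g * (y : A)⁻¹) • v)]
    apply Finset.prod_congr rfl
    intro g _
    rw [← mul_smul]
    show _ = ((y : A) * ((g₀ * g : P) : A) * (y : A)⁻¹) • v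
    congr 1
    rw [Subgroup.coe_mul]
    group
  have hswap : ∀ g : P, g ≠ 1 → ∏ y : Q, ((y : A) * g * (y : A)⁻¹) • v = 1 := by
    intro g hg
    let σ : Q → Q := fun y => ⟨(y : A) * g * (y : A)⁻¹ * (g : A)⁻¹, by
      have : (y : A) * g * (y : A)⁻¹ * (g : A)⁻¹ = (y : A) * ((g : A) * (y : A)⁻¹ * (g : A)⁻¹) := by
        group
      rw [this]
      exact Q.mul_mem y.2 (hQn.conj_mem _ (Q.inv_mem y.2) g)⟩
    have hinj : Function.Injective σ := by
      intro y y' h
      have h1 : (y : A) * g * (y : A)⁻¹ * (g : A)⁻¹ = (y' : A) * g * (y' : A)⁻¹ * (g : A)⁻¹ :=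
        congrArg Subtype.val h
      have h2 : (y : A) * g * (y : A)⁻¹ = (y' : A) * g * (y' : A)⁻¹ := mul_right_cancel h1
      have h3 : ((y'⁻¹ * y : Q) : A) * g = g * ((y'⁻¹ * y : Q) : A) := by
        rw [Subgroup.coe_mul, Subgroup.coe_inv]
        calc (y' : A)⁻¹ * y * g = (y' : A)⁻¹ * ((y : A) * g * (y : A)⁻¹) * y := by group
          _ = (y' : A)⁻¹ * ((y' : A) * g * (y' : A)⁻¹) * y := by rw [h2]
          _ = g * ((y' : A)⁻¹ * y) := by group
      have := hcent g hg _ h3
      exact (inv_mul_eq_one.1 this).symm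
    have hbij : Function.Bijective σ := ⟨hinj, Finite.injective_iff_surjective.1 hinj⟩
    have e1 : ∀ y : Q, ((y : A) * g * (y : A)⁻¹) • v = ((σ y : Q) : A) • ((g : A) • v) := by
      intro y
      rw [← mul_smul]
      congr 1
      show (y : A) * g * (y : A)⁻¹ = (y : A) * g * (y : A)⁻¹ * (g : A)⁻¹ * g
      group
    rw [Finset.prod_congr rfl (fun y _ => e1 y)]
    have h4 := Equiv.prod_comp (Equiv.ofBijective σ hbij) (fun z : Q => (z : A) • ((g : A) • v))
    exact h4.trans (hNQ _)
  have hone : ∏ y : Q, ((y : A) * ((1 : P) : A) * (y : A)⁻¹) • v = v ^ q := by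
    have : ∀ y : Q, ((y : A) * ((1 : P) : A) * (y : A)⁻¹) • v = v := by
      intro y
      rw [Subgroup.coe_one, mul_one, mul_inv_cancel, one_smul]
    rw [Finset.prod_congr rfl (fun y _ => this y), Finset.prod_const, Finset.card_univ,
      ← Nat.card_eq_fintype_card, hQ]
  have hvq : v ^ q = 1 := by
    have h1 : ∏ y : Q, ∏ g : P, ((y : A) * g * (y : A)⁻¹) • v = 1 :=
      Finset.prod_eq_one (fun y _ => hNP y)
    rw [Finset.prod_comm] at h1
    have h2 : ∏ g : P, ∏ y : Q, ((y : A) * g * (y : A)⁻¹) • v = v ^ q := by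
      rw [Finset.prod_eq_single (1 : P)]
      · exact hone
      · intro g _ hg; exact hswap g hg
      · intro h; exact absurd (Finset.mem_univ _) h
    rw [← h2]; exact h1
  have hov : orderOf v = q := orderOf_eq_prime hvq hv
  have hqV : q ∣ Nat.card V := by rw [← hov]; exact orderOf_dvd_natCard v
  have hQp : IsPGroup q Q := IsPGroup.of_card (n := 1) (by rw [hQ, pow_one])
  have h1fix : (1 : V) ∈ MulAction.fixedPoints Q V := by
    intro z
    show (z : A) • (1 : V) = 1
    exact smul_one _
  obtain ⟨w, hw, hne⟩ := hQp.exists_fixed_point_of_prime_dvd_card_of_fixed_point V hqV h1fix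
  have := hfpf (z₀ : A) (fun h => hz₀ (Subtype.ext h)) w (hw z₀)
  exact hne this.symm

end Cfsg.Agent.helper23
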