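import Cfsg.Statements.S0041
import Cfsg.Agent.Lib_helper23_FPF
import Cfsg.Agent.Lib_helper15_Gen5

set_option autoImplicit false
open Cfsg

namespace Cfsg.Agent.S0041

/-- A group acting on a nontrivial abelian group so that no nonidentity element has a nonidentity fixed point is cyclic, provided it is abelian or its order is a product of two (possibly equal) primes. -/
theorem result {G : Type*} [Group G] [Finite G] (A V : Subgroup G) [IsMulCommutative V]
    (hV : V ≠ ⊥) (hAV : A ≤ Subgroup.normalizer (V : Set G)) (hfpf : ∀ a ∈ A, a ≠ 1 → V ⊓ Subgroup.centralizer {a} = ⊥)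
    (hA : IsMulCommutative A ∨ ∃ p q : ℕ, p.Prime ∧ q.Prime ∧ Nat.card A = p * q) : IsCyclic A := by
  classical
  letI act : MulDistribMulAction ↥A ↥V := helper15.conjActionOn A V hAV
  have hfpf' : ∀ a : A, a ≠ 1 → ∀ v : V, a • v = v → v = 1 := by
    intro a ha v hv
    have h1 : (a : G) * v * (a : G)⁻¹ = v := congrArg Subtype.val hv
    have h2 : (v : G) ∈ V ⊓ Subgroup.centralizer {(a : G)} := by
      refine Subgroup.mem_inf.2 ⟨v.2, ?_⟩
      rw [Subgroup.mem_centralizer_iff]
      intro z hz
      rw [Set.mem_singleton_iff] at hz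
      rw [hz]
      calc (a : G) * v = ((a : G) * v * (a : G)⁻¹) * a := by group
        _ = v * a := by rw [h1]
    rw [hfpf a a.2 (fun h => ha (Subtype.ext h)), Subgroup.mem_bot] at h2
    exact Subtype.ext h2
  have hVnt : ∃ v : V, v ≠ 1 := by
    by_contra hall
    push Not at hall
    apply hV
    rw [eq_bot_iff]
    intro x hx
    rw [Subgroup.mem_bot]
    exact congrArg Subtype.val (hall ⟨x, hx⟩)
  have hcop : (Nat.card A).Coprime (Nat.card V) := helper23.fpf_coprime hfpf'
  have habel : IsMulCommutative A → IsCyclic A := by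
    intro hAc
    by_contra hnc
    have := helper15.iSup_centralizer_eq_of_not_isCyclic A V hnc hAV hcop
    apply hV
    rw [← this]
    rw [eq_bot_iff]
    apply iSup₂_le
    intro a ha
    rw [hfpf a ha.1 ha.2]
  rcases hA with hAc | ⟨p, q, hp, hq, hcard⟩
  · exact habel hAc
  · apply habel
    have hcomm : ∀ a b : A, a * b = b * a := by
      rcases lt_trichotomy p q with hlt | heq | hgt
      · exact helper23.fpf_pq_comm hfpf' hVnt hp hq hcard hlt
      · subst heq
        haveI : Fact p.Prime := ⟨hp⟩
        exact IsPGroup.commutative_of_card_eq_prime_sq (by rw [hcard, sq])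
      · exact helper23.fpf_pq_comm hfpf' hVnt hq hp (by rw [hcard, mul_comm]) hgt
    exact ⟨⟨hcomm⟩⟩

end Cfsg.Agent.S0041
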