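import Cfsg.Statements.S0068
import Mathlib.Tactic.Group
import Mathlib.GroupTheory.Perm.Cycle.Type

set_option autoImplicit false
open Cfsg

namespace Cfsg.Agent.S0068

/-- Frobenius complements of even order: if H complements a nontrivial normal subgroup K, each nonidentity element of H has trivial centraliser in K, and H has even order, then H contains a unique involution s, K is abelian, and s inverts every element of K. -/
theorem result {G : Type*} [Group G] [Finite G] (K H : Subgroup G) [K.Normal]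
    (hc : Subgroup.IsComplement' K H) (hK : K ≠ ⊥) (hfpf : ∀ h ∈ H, h ≠ 1 → K ⊓ Subgroup.centralizer {h} = ⊥)
    (heven : 2 ∣ Nat.card H) :
    (∃ s ∈ H, orderOf s = 2 ∧ (∀ t ∈ H, orderOf t = 2 → t = s) ∧ ∀ k ∈ K, s * k * s⁻¹ = k⁻¹) ∧ IsMulCommutative K := by
  classical
  -- key lemma: involutions of H invert K
  have key : ∀ t ∈ H, orderOf t = 2 → ∀ k ∈ K, t * k * t⁻¹ = k⁻¹ := by
    intro t ht hot k hk
    have ht1 : t ≠ 1 := by
      intro h; rw [h, orderOf_one] at hot; omega
    have htt : t * t = 1 := by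
      have := pow_orderOf_eq_one t; rw [hot, pow_two] at this; exact this
    have htinv : t⁻¹ = t := inv_eq_of_mul_eq_one_left htt
    let f : K → K := fun x => ⟨(x : G)⁻¹ * (t * x * t⁻¹),
      K.mul_mem (K.inv_mem x.2) (‹K.Normal›.conj_mem _ x.2 t)⟩
    have hinj : Function.Injective f := by
      intro x y hxy
      have h1 : (x : G)⁻¹ * (t * x * t⁻¹) = (y : G)⁻¹ * (t * y * t⁻¹) := congrArg Subtype.val hxy
      have h2 : t * ((y : G) * (x : G)⁻¹) = ((y : G) * (x : G)⁻¹) * t := by
        have h3 : (x : G)⁻¹ * t * x = (y : G)⁻¹ * t * y := by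
          calc (x : G)⁻¹ * t * x = ((x : G)⁻¹ * (t * x * t⁻¹)) * t := by group
            _ = ((y : G)⁻¹ * (t * y * t⁻¹)) * t := by rw [h1]
            _ = (y : G)⁻¹ * t * y := by group
        calc t * ((y : G) * (x : G)⁻¹) = y * ((y : G)⁻¹ * t * y) * (x : G)⁻¹ := by group
          _ = y * ((x : G)⁻¹ * t * x) * (x : G)⁻¹ := by rw [h3]
          _ = ((y : G) * (x : G)⁻¹) * t := by group
      have h4 : (y : G) * (x : G)⁻¹ ∈ K ⊓ Subgroup.centralizer {t} := by
        refine Subgroup.mem_inf.2 ⟨K.mul_mem y.2 (K.inv_mem x.2), ?_⟩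
        rw [Subgroup.mem_centralizer_iff]
        intro z hz
        rw [Set.mem_singleton_iff] at hz
        rw [hz]; exact h2
      rw [hfpf t ht ht1, Subgroup.mem_bot] at h4
      apply Subtype.ext
      exact (mul_inv_eq_one.1 h4).symm
    have hsurj : Function.Surjective f := Finite.injective_iff_surjective.1 hinj
    obtain ⟨x, hx⟩ := hsurj ⟨k, hk⟩
    have hx' : (x : G)⁻¹ * (t * x * t⁻¹) = k := congrArg Subtype.val hx
    rw [← hx', htinv]
    have e1 : t * ((x : G)⁻¹ * (t * x * t)) * t = t * (x : G)⁻¹ * t * x * (t * t) := by group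
    have e2 : ((x : G)⁻¹ * (t * x * t))⁻¹ = t⁻¹ * (x : G)⁻¹ * t⁻¹ * x := by group
    rw [e1, e2, htt, htinv, mul_one]
  haveI : Fact (Nat.Prime 2) := ⟨Nat.prime_two⟩
  obtain ⟨⟨s, hsH⟩, hs'⟩ := exists_prime_orderOf_dvd_card' (G := H) 2 heven
  have hs : orderOf s = 2 := by
    rw [← hs']; exact (Subgroup.orderOf_mk s hsH).symm
  have hKc : ∀ a ∈ K, ∀ b ∈ K, a * b = b * a := by
    intro a ha b hb
    have h1 := key s hsH hs (a * b) (K.mul_mem ha hb)
    have h2 := key s hsH hs a ha
    have h3 := key s hsH hs b hb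
    have h4 : s * (a * b) * s⁻¹ = (s * a * s⁻¹) * (s * b * s⁻¹) := by group
    rw [h4, h2, h3, mul_inv_rev] at h1
    have := congrArg Inv.inv h1
    simpa [mul_inv_rev] using this.symm
  refine ⟨⟨s, hsH, hs, ?_, key s hsH hs⟩, ⟨⟨fun a b => Subtype.ext (hKc a a.2 b b.2)⟩⟩⟩
  intro t ht hot
  by_contra hne
  have hst : s * t ≠ 1 := by
    intro h
    have hss : s * s = 1 := by
      have := pow_orderOf_eq_one s; rwa [hs, pow_two] at this
    apply hne
    have e : t = s⁻¹ := eq_inv_of_mul_eq_one_right h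
    rw [e]; exact inv_eq_of_mul_eq_one_left hss
  have hcen : K ≤ K ⊓ Subgroup.centralizer {s * t} := by
    intro k hk
    refine Subgroup.mem_inf.2 ⟨hk, ?_⟩
    rw [Subgroup.mem_centralizer_iff]
    intro z hz
    rw [Set.mem_singleton_iff] at hz
    rw [hz]
    have h1 := key t ht hot k hk
    have h2 := key s hsH hs k⁻¹ (K.inv_mem hk)
    rw [inv_inv] at h2
    have h3 : (s * t) * k * (s * t)⁻¹ = k := by
      calc (s * t) * k * (s * t)⁻¹ = s * (t * k * t⁻¹) * s⁻¹ := by group
        _ = k := by rw [h1, h2]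
    calc s * t * k = ((s * t) * k * (s * t)⁻¹) * (s * t) := by group
      _ = k * (s * t) := by rw [h3]
  rw [hfpf (s * t) (H.mul_mem hsH ht) hst] at hcen
  exact hK (le_bot_iff.1 hcen)

end Cfsg.Agent.S0068
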