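import Mathlib
import Cfsg.Statements.S0105

set_option autoImplicit false
open Pointwise
open Cfsg
open scoped IsMulCommutative

namespace Cfsg.Agent.S0105

section norm
variable {X : Type*} [CommGroup X] {H : Type*} [Group H] [Fintype H]

/-- The norm map of a finite group of automorphisms of a commutative group. -/
noncomputable def normHom (α : H →* MulAut X) : X →* X where
  toFun x := ∏ h : H, α h x
  map_one' := by simp
  map_mul' x y := by simp [Finset.prod_mul_distrib]

theorem normHom_apply (α : H →* MulAut X) (x : X) : normHom α x = ∏ h : H, α h x := rfl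

theorem normHom_fixed (α : H →* MulAut X) (h' : H) (x : X) :
    α h' (normHom α x) = normHom α x := by
  rw [normHom_apply, map_prod]
  exact Fintype.prod_equiv (Equiv.mulLeft h') _ _ (fun h => by simp [map_mul, MulAut.mul_apply])

theorem normHom_of_fixed (α : H →* MulAut X) (x : X) (hx : ∀ h, α h x = x) :
    normHom α x = x ^ Fintype.card H := by
  simp [normHom_apply, hx, Finset.prod_const, Finset.card_univ]

end norm

variable {G : Type*} [Group G]

theorem mem_smul_sylow {p : ℕ} (g x : G) (P : Sylow p G) :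
    x ∈ ((g • P : Sylow p G) : Subgroup G) ↔ g⁻¹ * x * g ∈ (P : Subgroup G) := by
  rw [Sylow.coe_subgroup_smul, Subgroup.mem_pointwise_smul_iff_inv_smul_mem]
  simp [MulAut.smul_def, mul_assoc]

theorem exists_conj_in [Finite G] {p : ℕ} [Fact p.Prime] (P R : Sylow p G) (K : Subgroup G)
    (hP : (P : Subgroup G) ≤ K) (hR : (R : Subgroup G) ≤ K) :
    ∃ n ∈ K, n • P = R := by
  obtain ⟨n, hn⟩ := MulAction.exists_smul_eq K (P.subtype hP) (R.subtype hR)
  refine ⟨(n : G), n.2, ?_⟩
  rw [Sylow.smul_subtype hP n] at hn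
  exact Sylow.subtype_injective hn

/-- Burnside's fusion lemma, for an element of an abelian Sylow subgroup centralised by the
normaliser of that Sylow subgroup. -/
theorem fusion_central [Finite G] {p : ℕ} [Fact p.Prime] (P : Sylow p G)
    (comm : ∀ a ∈ (P : Subgroup G), ∀ b ∈ (P : Subgroup G), a * b = b * a)
    (c : G) (hcP : c ∈ (P : Subgroup G))
    (hcN : c ∈ Subgroup.centralizer (Subgroup.normalizer ((P : Subgroup G) : Set G) : Set G)) (g : G)
    (hy : g⁻¹ * c * g ∈ (P : Subgroup G)) : g⁻¹ * c * g = c := by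
  set y := g⁻¹ * c * g with hydef
  have h1 : (P : Subgroup G) ≤ Subgroup.centralizer ({y} : Set G) := by
    intro a ha
    rw [Subgroup.mem_centralizer_singleton_iff]
    exact comm a ha y hy
  have h2 : ((g⁻¹ • P : Sylow p G) : Subgroup G) ≤ Subgroup.centralizer ({y} : Set G) := by
    intro a ha
    rw [mem_smul_sylow, inv_inv] at ha
    have h := comm _ ha _ hcP
    rw [Subgroup.mem_centralizer_singleton_iff, hydef]
    calc a * (g⁻¹ * c * g) = g⁻¹ * ((g * a * g⁻¹) * c) * g := by group
      _ = g⁻¹ * (c * (g * a * g⁻¹)) * g := by rw [h]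
      _ = g⁻¹ * c * g * a := by group
  obtain ⟨z, hz, hzP⟩ := exists_conj_in (g⁻¹ • P) P _ h2 h1
  rw [← mul_smul] at hzP
  have hn : z * g⁻¹ ∈ Subgroup.normalizer ((P : Subgroup G) : Set G) :=
    Sylow.smul_eq_iff_mem_normalizer.mp hzP
  have hcomm := Subgroup.mem_centralizer_iff.mp hcN (z * g⁻¹) hn
  rw [Subgroup.mem_centralizer_singleton_iff] at hz
  have e1 : z * y * z⁻¹ = c := by
    rw [hydef]
    calc z * (g⁻¹ * c * g) * z⁻¹ = ((z * g⁻¹) * c) * (g * z⁻¹) := by group
      _ = (c * (z * g⁻¹)) * (g * z⁻¹) := by rw [hcomm]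
      _ = c := by group
  have e2 : z * y * z⁻¹ = y := by rw [hz]; group
  rw [← e2, e1]

theorem result {G : Type*} [Group G] [Finite G] {p : ℕ} [Fact p.Prime] (P : Sylow p G) (hP : IsMulCommutative P) : ∃ (N : Subgroup G) (hN : N.Normal), Nonempty (G ⧸ N ≃* ((P : Subgroup G) ⊓ Subgroup.centralizer (Subgroup.normalizer (P : Set G) : Set G) : Subgroup G)) := by
  classical
  have comm : ∀ a ∈ (P : Subgroup G), ∀ b ∈ (P : Subgroup G), a * b = b * a := by
    intro a ha b hb
    have := hP.is_comm.comm (⟨a, ha⟩ : P) ⟨b, hb⟩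
    exact congrArg Subtype.val this
  haveI hPc : IsMulCommutative (P : Subgroup G) :=
    ⟨⟨fun a b => Subtype.ext (comm a a.2 b b.2)⟩⟩
  set N := Subgroup.normalizer ((P : Subgroup G) : Set G) with hNdef
  set A := (P : Subgroup G) ⊓ Subgroup.centralizer (N : Set G) with hAdef
  have hPN : (P : Subgroup G) ≤ N := Subgroup.le_normalizer
  have hidx : ¬ p ∣ ((P : Subgroup G).subgroupOf N).index := by
    intro h
    have h1 := Subgroup.relIndex_mul_index hPN
    apply P.not_dvd_index
    rw [← h1]
    exact Dvd.dvd.mul_right h _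
  have hcop : Nat.Coprime (Nat.card ((P : Subgroup G).subgroupOf N))
      ((P : Subgroup G).subgroupOf N).index := by
    have hp' : IsPGroup p ((P : Subgroup G).subgroupOf N) := P.2.comap_subtype
    obtain ⟨n, hn⟩ := IsPGroup.iff_card.mp hp'
    rw [hn]
    exact Nat.Coprime.pow_left n ((Nat.Prime.coprime_iff_not_dvd Fact.out).mpr hidx)
  obtain ⟨H, hH⟩ := Subgroup.exists_right_complement'_of_coprime hcop
  haveI : Fintype H := Fintype.ofFinite H
  set α : H →* MulAut (P : Subgroup G) := (P : Subgroup G).normalizerMonoidHom.comp H.subtype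
    with hα
  have hα_coe : ∀ (h : H) (x : (P : Subgroup G)),
      ((α h x : (P : Subgroup G)) : G) = ((h : N) : G) * (x : G) * ((h : N) : G)⁻¹ := by
    intro h x
    rw [hα]
    rfl
  set ν : (P : Subgroup G) →* (P : Subgroup G) := normHom α with hν
  have hνA : ∀ x : (P : Subgroup G), ((ν x : (P : Subgroup G)) : G) ∈ A := by
    intro x
    refine Subgroup.mem_inf.mpr ⟨(ν x).2, ?_⟩
    rw [Subgroup.mem_centralizer_iff]
    intro n hn
    have hn' : (⟨n, hn⟩ : N) ∈ (P : Subgroup G).subgroupOf N ⊔ H := by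
      rw [hH.sup_eq_top]; trivial
    obtain ⟨y, hy, h, hh, hyh⟩ := Subgroup.mem_sup_of_normal_left.1 hn'
    have e1 := normHom_fixed α ⟨h, hh⟩ x
    have e1' : ((h : N) : G) * ((ν x : (P : Subgroup G)) : G) * ((h : N) : G)⁻¹
        = ((ν x : (P : Subgroup G)) : G) := by
      have := congrArg Subtype.val e1
      rw [hα_coe] at this
      exact this
    have hyP : ((y : N) : G) ∈ (P : Subgroup G) := by
      simpa [Subgroup.mem_subgroupOf] using hy
    have e2 : ((y : N) : G) * ((ν x : (P : Subgroup G)) : G)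
        = ((ν x : (P : Subgroup G)) : G) * ((y : N) : G) := comm _ hyP _ (ν x).2
    have e3 : n = ((y : N) : G) * ((h : N) : G) := by
      have := congrArg Subtype.val hyh
      simpa using this.symm
    rw [e3]
    generalize ((y : N) : G) = yy at *
    generalize ((h : N) : G) = hh' at *
    generalize ((ν x : (P : Subgroup G)) : G) = vv at *
    calc yy * hh' * vv = yy * (hh' * vv * hh'⁻¹) * hh' := by group
      _ = yy * vv * hh' := by rw [e1']
      _ = vv * yy * hh' := by rw [e2]
      _ = vv * (yy * hh') := by group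
  haveI hAc : IsMulCommutative A := ⟨⟨fun a b => Subtype.ext (comm a a.2.1 b b.2.1)⟩⟩
  let ϕ : (P : Subgroup G) →* A :=
    { toFun := fun x => ⟨((ν x : (P : Subgroup G)) : G), hνA x⟩
      map_one' := by apply Subtype.ext; simp
      map_mul' := fun x y => by apply Subtype.ext; simp [map_mul] }
  have hϕ_coe : ∀ x : (P : Subgroup G), ((ϕ x : A) : G) = ((ν x : (P : Subgroup G)) : G) :=
    fun x => rfl
  have hpA : IsPGroup p A := P.2.to_le inf_le_left
  have hsurj : Function.Surjective (MonoidHom.transfer ϕ) := by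
    intro a
    have hm : ¬ p ∣ Fintype.card H * (P : Subgroup G).index := by
      rw [Nat.Prime.dvd_mul Fact.out]
      rintro (h | h)
      · have h1 : Nat.card H = ((P : Subgroup G).subgroupOf N).index :=
          hH.symm.index_eq_card.symm
        rw [← Nat.card_eq_fintype_card, h1] at h
        exact hidx h
      · exact P.not_dvd_index h
    obtain ⟨b, hb⟩ := (hpA.powEquiv' hm).surjective a
    refine ⟨(b : G), ?_⟩
    have key : ∀ (k : ℕ) (g₀ : G), g₀⁻¹ * (b : G) ^ k * g₀ ∈ (P : Subgroup G) →
        g₀⁻¹ * (b : G) ^ k * g₀ = (b : G) ^ k := by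
      intro k g₀ hk
      have hbk : (b : G) ^ k ∈ A := A.pow_mem b.2 k
      exact fusion_central P comm _ hbk.1 hbk.2 g₀ hk
    rw [MonoidHom.transfer_eq_pow ϕ (b : G) key]
    apply Subtype.ext
    rw [hϕ_coe]
    have hbi : (b : G) ^ (P : Subgroup G).index ∈ A := A.pow_mem b.2 _
    have hfix : ∀ h : H, α h ⟨(b : G) ^ (P : Subgroup G).index, hbi.1⟩
        = ⟨(b : G) ^ (P : Subgroup G).index, hbi.1⟩ := by
      intro h
      apply Subtype.ext
      rw [hα_coe]
      have := Subgroup.mem_centralizer_iff.mp hbi.2 ((h : N) : G) (h : N).2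
      simp only [Subgroup.coe_mk]
      rw [this]; group
    rw [hν, normHom_of_fixed α _ hfix]
    have hb' : (b : G) ^ (Fintype.card H * (P : Subgroup G).index) = (a : G) := by
      have := congrArg Subtype.val hb
      simpa using this
    rw [← hb']
    simp only [Subgroup.coe_pow, Subgroup.coe_mk]
    rw [← pow_mul, mul_comm]
  exact ⟨(MonoidHom.transfer ϕ).ker, MonoidHom.normal_ker _,
    ⟨QuotientGroup.quotientKerEquivOfSurjective _ hsurj⟩⟩

end Cfsg.Agent.S0105
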