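import Mathlib
import Cfsg.Agent.Lib_lead_Coprime3
import Cfsg.Agent.S0105

set_option autoImplicit false

namespace Cfsg.Agent.lead

open Cfsg.Agent.helper7
open scoped commutatorElement Pointwise

universe u

theorem normHom_comp {X : Type*} [CommGroup X] {H : Type*} [Group H] [Fintype H]
    (α : H →* MulAut X) (h' : H) (x : X) :
    Cfsg.Agent.S0105.normHom α (α h' x) = Cfsg.Agent.S0105.normHom α x := by
  rw [Cfsg.Agent.S0105.normHom_apply, Cfsg.Agent.S0105.normHom_apply]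
  exact Fintype.prod_equiv (Equiv.mulRight h') _ _ (fun h => by simp [map_mul, MulAut.mul_apply])

/-- Coprime action on an abelian group: `C_V(A) ∩ [V,A] = 1`. -/
theorem coprime_abelian_inf {G : Type u} [Group G] [Finite G] (A V : Subgroup G)
    (hV : ∀ x ∈ V, ∀ y ∈ V, x * y = y * x)
    (hAV : A ≤ Subgroup.normalizer (V : Set G)) (hcop : (Nat.card A).Coprime (Nat.card V)) :
    (V ⊓ Subgroup.centralizer (A : Set G)) ⊓ ⁅V, A⁆ = ⊥ := by
  letI : CommGroup V :=
    { (inferInstance : Group V) with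
      mul_comm := fun a b => Subtype.ext (hV a a.2 b b.2) }
  haveI : Fintype A := Fintype.ofFinite A
  let α : A →* MulAut V := V.normalizerMonoidHom.comp (Subgroup.inclusion hAV)
  have hα : ∀ (a : A) (v : V), ((α a v : V) : G) = (a : G) * v * (a : G)⁻¹ := by
    intro a v
    show ((V.normalizerMonoidHom (Subgroup.inclusion hAV a) v : V) : G) = _
    rw [Subgroup.normalizerMonoidHom_apply_apply_coe]
    rfl
  let θ : V →* V := Cfsg.Agent.S0105.normHom α
  have hle : ⁅V, A⁆ ≤ θ.ker.map V.subtype := by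
    rw [Subgroup.commutator_le]
    intro v hv a ha
    have h1 : ⁅v, a⁆ = ((⟨v, hv⟩ * (α ⟨a, ha⟩ ⟨v, hv⟩)⁻¹ : V) : G) := by
      rw [Subgroup.coe_mul, Subgroup.coe_inv, hα, commutatorElement_def]
      simp only [mul_inv_rev, inv_inv]
      group
    rw [h1]
    refine ⟨(⟨v, hv⟩ * (α ⟨a, ha⟩ ⟨v, hv⟩)⁻¹ : V), ?_, rfl⟩
    rw [SetLike.mem_coe, MonoidHom.mem_ker, map_mul, map_inv]
    show θ ⟨v, hv⟩ * (Cfsg.Agent.S0105.normHom α (α ⟨a, ha⟩ ⟨v, hv⟩))⁻¹ = 1
    rw [normHom_comp]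
    exact mul_inv_cancel _
  rw [eq_bot_iff]
  intro c hc
  obtain ⟨hc1, hc2⟩ := Subgroup.mem_inf.mp hc
  obtain ⟨hcV, hcC⟩ := Subgroup.mem_inf.mp hc1
  obtain ⟨c', hc'ker, hc'⟩ := hle hc2
  have hfix : ∀ a : A, α a c' = c' := by
    intro a
    apply Subtype.ext
    rw [hα]
    have hcc : (c' : G) = c := hc'
    rw [hcc]
    rw [Subgroup.mem_centralizer_iff] at hcC
    have := hcC a a.2
    calc (a : G) * c * (a : G)⁻¹ = c * a * (a : G)⁻¹ := by rw [this]
      _ = c := by group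
  have h1 : θ c' = c' ^ Fintype.card A := Cfsg.Agent.S0105.normHom_of_fixed α c' hfix
  have h2 : c' ^ Fintype.card A = 1 := by rw [← h1]; exact hc'ker
  have h3 : c' ^ Nat.card V = 1 := pow_card_eq_one'
  have h4 : c' ^ (Nat.gcd (Fintype.card A) (Nat.card V)) = 1 := pow_gcd_eq_one.mpr ⟨h2, h3⟩
  rw [← Nat.card_eq_fintype_card, Nat.Coprime.gcd_eq_one hcop, pow_one] at h4
  rw [Subgroup.mem_bot, ← hc', h4]
  rfl

theorem solvable_of_comm_subgroup {G : Type*} [Group G] (V : Subgroup G)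
    (hV : ∀ x ∈ V, ∀ y ∈ V, x * y = y * x) : Group.IsSolvable V :=
  Group.isSolvable_of_comm (fun a b => Subtype.ext (hV a a.2 b b.2))

end Cfsg.Agent.lead
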