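import Cfsg.Statements.S0069
import Cfsg.Agent.S0040
import Cfsg.Agent.S0041
import Cfsg.Agent.S0068
import Cfsg.Agent.Lib_lead_Coprime2
import Cfsg.Agent.Lib_lead_Coprime5
import Cfsg.Agent.Lib_helper23_Hall
import Cfsg.Agent.Lib_helper7_Coprime

set_option autoImplicit false
set_option linter.style.haveILetI false
set_option linter.deprecated false
open Cfsg

namespace Cfsg.Agent.S0069

open Cfsg.Agent.lead Cfsg.Agent.helper7
open scoped commutatorElement

theorem conj_mem_centralizer {G : Type*} [Group G] (R : Subgroup G) (a h : G)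
    (ha : a ∈ Subgroup.normalizer (R : Set G)) (hh : h ∈ Subgroup.centralizer (R : Set G)) :
    a * h * a⁻¹ ∈ Subgroup.centralizer (R : Set G) := by
  rw [Subgroup.mem_centralizer_iff] at hh ⊢
  intro x hx
  have hy : a⁻¹ * x * a ∈ R := by
    have := (Subgroup.mem_normalizer_iff.mp (Subgroup.inv_mem _ ha) x).mp hx
    simpa using this
  have := hh _ hy
  calc x * (a * h * a⁻¹) = a * ((a⁻¹ * x * a) * h) * a⁻¹ := by group
    _ = a * (h * (a⁻¹ * x * a)) * a⁻¹ := by rw [this]
    _ = a * h * a⁻¹ * x := by group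

/-- A subgroup of order `p*q` acting fixed-point-freely and coprimely on `K ≠ 1` is cyclic. -/
theorem pq_cyclic {G : Type*} [Group G] [Finite G] (K : Subgroup G) [K.Normal] (hK : K ≠ ⊥)
    (A : Subgroup G) (hcop : (Nat.card A).Coprime (Nat.card K)) (hsolv : Group.IsSolvable A)
    (hfpf : ∀ a ∈ A, a ≠ 1 → K ⊓ Subgroup.centralizer {a} = ⊥)
    (p q : ℕ) (hp : p.Prime) (hq : q.Prime) (hcard : Nat.card A = p * q) : IsCyclic A := by
  have hK1 : Nat.card K ≠ 1 := fun h => hK (Subgroup.card_eq_one.mp h)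
  obtain ⟨r, hr, hrK⟩ := Nat.exists_prime_and_dvd hK1
  haveI : Fact r.Prime := ⟨hr⟩
  have hAK : A ≤ Subgroup.normalizer (K : Set G) := by
    rw [Subgroup.normalizer_eq_top]; exact le_top
  obtain ⟨R, hRK, hRcard, hAR⟩ := exists_invariant_sylow A K hAK hcop (Or.inl hsolv) r
  have hRp : IsPGroup r R := IsPGroup.of_card hRcard
  have hfac : 0 < (Nat.card K).factorization r :=
    hr.factorization_pos_of_dvd Nat.card_pos.ne' hrK
  haveI : Nontrivial R := by
    rw [← Finite.one_lt_card_iff_nontrivial, hRcard]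
    exact Nat.one_lt_pow hfac.ne' hr.one_lt
  haveI := hRp.center_nontrivial
  obtain ⟨z, hz⟩ := exists_ne (1 : Subgroup.center R)
  set V : Subgroup G := R ⊓ Subgroup.centralizer (R : Set G) with hV
  haveI : IsMulCommutative V := ⟨⟨fun a b => Subtype.ext (by
    have := (Subgroup.mem_centralizer_iff.mp b.2.2) a a.2.1
    exact this)⟩⟩
  have hzV : ((z : R) : G) ∈ V := by
    refine ⟨(z : R).2, ?_⟩
    show _ ∈ Subgroup.centralizer (R : Set G)
    rw [Subgroup.mem_centralizer_iff]
    intro x hx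
    have := Subgroup.mem_center_iff.mp z.2 ⟨x, hx⟩
    exact congrArg Subtype.val this
  have hVne : V ≠ ⊥ := by
    intro h
    rw [h, Subgroup.mem_bot] at hzV
    apply hz
    apply Subtype.ext; apply Subtype.ext
    simpa using hzV
  have hAV : A ≤ Subgroup.normalizer (V : Set G) := by
    intro a ha
    have haR := hAR ha
    have key : ∀ a : G, a ∈ Subgroup.normalizer (R : Set G) → ∀ h ∈ V, a * h * a⁻¹ ∈ V := by
      intro a haR h hh
      exact ⟨(Subgroup.mem_normalizer_iff.mp haR h).mp hh.1, conj_mem_centralizer R a h haR hh.2⟩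
    rw [Subgroup.mem_normalizer_iff]
    intro h
    refine ⟨key a haR h, fun hh => ?_⟩
    have := key a⁻¹ (Subgroup.inv_mem _ haR) _ hh
    simpa [mul_assoc] using this
  have hfpfV : ∀ a ∈ A, a ≠ 1 → V ⊓ Subgroup.centralizer {a} = ⊥ := by
    intro a ha ha1
    rw [eq_bot_iff, ← hfpf a ha ha1]
    exact inf_le_inf_right _ (inf_le_left.trans hRK)
  exact Cfsg.Agent.S0041.result A V hVne hAV hfpfV (Or.inr ⟨p, q, hp, hq, hcard⟩)

theorem conj_mem_zpowers {T : Type*} [Group T] (N : Subgroup T) [hN : N.Normal] [IsCyclic N]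
    (t x : T) (hx : x ∈ N) : t * x * t⁻¹ ∈ Subgroup.zpowers x := by
  obtain ⟨g, hg⟩ := IsCyclic.exists_generator (α := N)
  obtain ⟨j, hj⟩ := Subgroup.mem_zpowers_iff.mp (hg ⟨x, hx⟩)
  have h1 : t * g * t⁻¹ ∈ N := hN.conj_mem g g.2 t
  obtain ⟨k, hk⟩ := Subgroup.mem_zpowers_iff.mp (hg ⟨t * g * t⁻¹, h1⟩)
  have hj' : (g : T) ^ j = x := by
    have := congrArg Subtype.val hj; simpa using this
  have hk' : (g : T) ^ k = t * g * t⁻¹ := by
    have := congrArg Subtype.val hk; simpa using this
  rw [Subgroup.mem_zpowers_iff]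
  refine ⟨k, ?_⟩
  rw [← hj', ← zpow_mul, mul_comm, zpow_mul, hk', conj_zpow]

theorem odd_case {G : Type*} [Group G] [Finite G] (K H : Subgroup G) [K.Normal]
    (hK : K ≠ ⊥) (hH : H ≠ ⊥) (hcop : (Nat.card H).Coprime (Nat.card K))
    (hfpf : ∀ h ∈ H, h ≠ 1 → K ⊓ Subgroup.centralizer {h} = ⊥)
    (hZ : IsZGroup H) : Subgroup.center H ≠ ⊥ := by
  haveI := hZ
  haveI : Nontrivial H := (Subgroup.nontrivial_iff_ne_bot H).mpr hH
  obtain ⟨N, hNdef⟩ : ∃ N : Subgroup H, N = commutator H := ⟨_, rfl⟩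
  haveI : N.Normal := by rw [hNdef]; infer_instance
  haveI : IsCyclic N := by rw [hNdef]; exact IsZGroup.isCyclic_commutator H
  have hcopN : (Nat.card N).Coprime N.index := by
    rw [hNdef]; exact IsZGroup.coprime_commutator_index H
  obtain ⟨C, hC⟩ := Subgroup.exists_right_complement'_of_coprime hcopN
  have hNlt : N < ⊤ := by rw [hNdef]; exact IsZGroup.commutator_lt H
  have hCne : C ≠ ⊥ := by
    intro h
    have := hC.sup_eq_top
    rw [h, sup_bot_eq] at this
    exact hNlt.ne this
  have hCcard : Nat.card C ≠ 1 := fun h => hCne (Subgroup.card_eq_one.mp h)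
  obtain ⟨p, hp, hpC⟩ := Nat.exists_prime_and_dvd hCcard
  haveI : Fact p.Prime := ⟨hp⟩
  obtain ⟨b, hb⟩ := exists_prime_orderOf_dvd_card' (G := C) p hpC
  have hbo : orderOf ((b : H)) = p := by rw [Subgroup.orderOf_coe]; exact hb
  have hb1 : (b : H) ≠ 1 := by
    intro h; rw [h, orderOf_one] at hbo; exact hp.one_lt.ne hbo
  have hCcomm : ∀ x ∈ C, ∀ y ∈ C, x * y = y * x := by
    intro x hx y hy
    have h1 : ⁅x, y⁆ ∈ N := by
      rw [hNdef, commutator_def]
      exact Subgroup.commutator_mem_commutator (Subgroup.mem_top x) (Subgroup.mem_top y)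
    have h2 : ⁅x, y⁆ ∈ C := by
      rw [commutatorElement_def]
      exact C.mul_mem (C.mul_mem (C.mul_mem hx hy) (C.inv_mem hx)) (C.inv_mem hy)
    have h3 : ⁅x, y⁆ ∈ N ⊓ C := ⟨h1, h2⟩
    rw [hC.disjoint.eq_bot, Subgroup.mem_bot] at h3
    exact commutatorElement_eq_one_iff_mul_comm.mp h3
  -- key: b centralizes N
  have hbN : ∀ n ∈ N, (b : H) * n = n * b := by
    by_contra hcon
    push Not at hcon
    obtain ⟨n₀, hn₀N, hn₀⟩ := hcon
    set X : Subgroup H := Subgroup.zpowers (b : H) with hX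
    have hXcard : Nat.card X = p := by rw [Nat.card_zpowers, hbo]
    have hXN : X ≤ Subgroup.normalizer (N : Set H) := by
      rw [Subgroup.normalizer_eq_top]; exact le_top
    have hpidx : p ∣ N.index := by rw [hC.symm.index_eq_card]; exact hpC
    have hcopXN : (Nat.card X).Coprime (Nat.card N) := by
      rw [hXcard]
      exact (hcopN.coprime_dvd_right hpidx).symm
    have hNcomm : ∀ x ∈ N, ∀ y ∈ N, x * y = y * x := by
      letI := IsCyclic.commGroup (α := N)
      intro x hx y hy
      exact congrArg Subtype.val (mul_comm (⟨x, hx⟩ : N) ⟨y, hy⟩)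
    have hinf := coprime_abelian_inf X N hNcomm hXN hcopXN
    have hDN : ⁅N, X⁆ ≤ N := commutator_le_of_normalizer hXN
    have hDne : ⁅N, X⁆ ≠ ⊥ := by
      intro h
      rw [Subgroup.commutator_eq_bot_iff_le_centralizer] at h
      have := Subgroup.mem_centralizer_iff.mp (h hn₀N) (b : H) (Subgroup.mem_zpowers _)
      exact hn₀ this
    have hDcard : Nat.card (⁅N, X⁆ : Subgroup H) ≠ 1 := fun h => hDne (Subgroup.card_eq_one.mp h)
    obtain ⟨q, hq, hqD⟩ := Nat.exists_prime_and_dvd hDcard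
    haveI : Fact q.Prime := ⟨hq⟩
    obtain ⟨d, hd⟩ := exists_prime_orderOf_dvd_card' (G := (⁅N, X⁆ : Subgroup H)) q hqD
    have hdo : orderOf ((d : H)) = q := by rw [Subgroup.orderOf_coe]; exact hd
    have hdN : (d : H) ∈ N := hDN d.2
    have hd1 : (d : H) ≠ 1 := by
      intro h; rw [h, orderOf_one] at hdo; exact hq.one_lt.ne hdo
    set Y : Subgroup H := Subgroup.zpowers (d : H) with hY
    have hYcard : Nat.card Y = q := by rw [Nat.card_zpowers, hdo]
    haveI hYn : Y.Normal := by
      constructor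
      intro y hy t
      obtain ⟨i, rfl⟩ := Subgroup.mem_zpowers_iff.mp hy
      rw [← conj_zpow]
      exact Y.zpow_mem (conj_mem_zpowers N t (d : H) hdN) i
    have hqN : q ∣ Nat.card N := by
      rw [← hdo, ← Nat.card_zpowers]
      exact Subgroup.card_dvd_of_le (Subgroup.zpowers_le.mpr hdN)
    have hpq : p.Coprime q := (hcopN.coprime_dvd_left hqN |>.coprime_dvd_right hpidx).symm
    have hXY : Y ⊓ X = ⊥ := by
      apply Subgroup.inf_eq_bot_of_coprime
      rw [hXcard, hYcard]; exact hpq.symm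
    have hcardA' : Nat.card (X ⊔ Y : Subgroup H) = p * q := by
      have := Cfsg.Agent.helper23.card_sup_mul_card_inf X Y
      rw [hXY, Subgroup.card_bot, mul_one, hXcard, hYcard] at this
      exact this
    set A : Subgroup G := (X ⊔ Y).map H.subtype with hA
    have hAcard : Nat.card A = p * q := by
      rw [hA, Subgroup.card_map_of_injective H.subtype_injective, hcardA']
    have hAH : A ≤ H := by
      rintro _ ⟨a, -, rfl⟩
      exact a.2
    have hAsolv : Group.IsSolvable A := by
      have e : (X ⊔ Y : Subgroup H) ≃* A := (X ⊔ Y).equivMapOfInjective H.subtype H.subtype_injective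
      haveI : Group.IsSolvable (X ⊔ Y : Subgroup H) := inferInstance
      exact Group.isSolvable_of_surjective (f := e.toMonoidHom) e.surjective
    have hAcyc := pq_cyclic K hK A (hcop.coprime_dvd_left (Subgroup.card_dvd_of_le hAH)) hAsolv
      (fun a ha => hfpf a (hAH ha)) p q hp hq hAcard
    haveI := hAcyc
    letI := IsCyclic.commGroup (α := A)
    have hbA : ((b : H) : G) ∈ A := ⟨(b : H), le_sup_left (a := X) (Subgroup.mem_zpowers _), rfl⟩
    have hdA : ((d : H) : G) ∈ A := ⟨(d : H), le_sup_right (b := Y) (Subgroup.mem_zpowers _), rfl⟩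
    have hbd : ((b : H) : G) * (d : H) = (d : H) * (b : H) :=
      congrArg Subtype.val (mul_comm (⟨_, hbA⟩ : A) ⟨_, hdA⟩)
    have hbd' : (b : H) * (d : H) = (d : H) * (b : H) := Subtype.ext hbd
    have hdcent : (d : H) ∈ Subgroup.centralizer (X : Set H) := by
      rw [Subgroup.mem_centralizer_iff]
      intro h hh
      obtain ⟨i, rfl⟩ := Subgroup.mem_zpowers_iff.mp hh
      exact (Commute.zpow_left (show Commute (b : H) (d : H) from hbd') i).eq
    have : (d : H) ∈ (N ⊓ Subgroup.centralizer (X : Set H)) ⊓ ⁅N, X⁆ := ⟨⟨hdN, hdcent⟩, d.2⟩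
    rw [hinf, Subgroup.mem_bot] at this
    exact hd1 this
  have hbcenter : (b : H) ∈ Subgroup.center H := by
    rw [Subgroup.mem_center_iff]
    intro t
    obtain ⟨⟨n, c⟩, hnc⟩ := hC.2 t
    have hnc' : (n : H) * (c : H) = t := hnc
    rw [← hnc']
    have h1 := hbN n n.2
    have h2 := hCcomm (b : H) b.2 (c : H) c.2
    calc (n : H) * c * b = n * (c * b) := by group
      _ = n * (b * c) := by rw [h2]
      _ = (n * b) * c := by group
      _ = (b * n) * c := by rw [h1]
      _ = b * (n * c) := by group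
  intro h
  rw [h, Subgroup.mem_bot] at hbcenter
  exact hb1 hbcenter

theorem result {G : Type*} [Group G] [Finite G] (K H : Subgroup G) [K.Normal]
    (hc : Subgroup.IsComplement' K H) (hK : K ≠ ⊥) (hH : H ≠ ⊥) (hfpf : ∀ h ∈ H, h ≠ 1 → K ⊓ Subgroup.centralizer {h} = ⊥) :
    Subgroup.center H ≠ ⊥ := by
  have hF : Cfsg.IsFrobeniusComplement H := (Cfsg.Agent.S0039.result K H hc hK hH).mpr hfpf
  have hdvd := Cfsg.Agent.helper21.frobc_card_dvd H hF
  have hidx : H.index = Nat.card K := hc.index_eq_card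
  have hcop : (Nat.card H).Coprime (Nat.card K) := by
    rw [hidx] at hdvd
    have hKpos : 0 < Nat.card K := Nat.card_pos
    have h1 : Nat.gcd (Nat.card H) (Nat.card K) ∣ Nat.card K - (Nat.card K - 1) :=
      Nat.dvd_sub (Nat.gcd_dvd_right _ _) ((Nat.gcd_dvd_left _ _).trans hdvd)
    have h2 : Nat.card K - (Nat.card K - 1) = 1 := by omega
    rw [h2] at h1
    exact Nat.dvd_one.mp h1
  by_cases heven : 2 ∣ Nat.card H
  · obtain ⟨⟨s, hsH, hso, huniq, -⟩, -⟩ := Cfsg.Agent.S0068.result K H hc hK hfpf heven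
    have hs1 : s ≠ 1 := by
      intro h; rw [h, orderOf_one] at hso; omega
    have hcen : (⟨s, hsH⟩ : H) ∈ Subgroup.center H := by
      rw [Subgroup.mem_center_iff]
      intro t
      have h1 : (t : G) * s * (t : G)⁻¹ ∈ H := H.mul_mem (H.mul_mem t.2 hsH) (H.inv_mem t.2)
      have h2 : orderOf ((t : G) * s * (t : G)⁻¹) = 2 := by
        have := orderOf_injective (MulAut.conj (t : G)).toMonoidHom (MulAut.conj (t : G)).injective s
        rw [← hso, ← this]
        simp [MulAut.conj_apply]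
      have h3 := huniq _ h1 h2
      apply Subtype.ext
      show (t : G) * s = s * (t : G)
      calc (t : G) * s = ((t : G) * s * (t : G)⁻¹) * t := by group
        _ = s * t := by rw [h3]
    intro h
    rw [h, Subgroup.mem_bot] at hcen
    exact hs1 (congrArg Subtype.val hcen)
  · apply odd_case K H hK hH hcop hfpf
    refine ⟨fun p hp P => ?_⟩
    haveI : Fact p.Prime := ⟨hp⟩
    rcases Cfsg.Agent.S0040.result K H hc hK hfpf p P with h | ⟨n, ⟨e⟩⟩
    · exact h
    · exfalso
      apply heven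
      have h1 : Nat.card (P : Subgroup H) = 4 * 2 ^ n := by
        rw [Nat.card_congr e.toEquiv, Nat.card_eq_fintype_card, QuaternionGroup.card]
      have h2 : Nat.card (P : Subgroup H) ∣ Nat.card H := Subgroup.card_subgroup_dvd_card _
      rw [h1] at h2
      exact (Dvd.intro _ (by ring : 2 * (2 * 2 ^ n) = 4 * 2 ^ n)).trans h2

end Cfsg.Agent.S0069
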