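import Mathlib
import Cfsg.Prelude.Def_OddOrderLocal
import Cfsg.Agent.Lib_helper7_Cores
import Cfsg.Agent.Lib_helper7_Quot

set_option autoImplicit false
open Cfsg

namespace Cfsg.Agent.helper7

section abs
variable {M : Type*} [Group M]

theorem le_fittingHall {N : Subgroup M} (hN : N.Normal) (hnil : Group.IsNilpotent N)
    (hcop : (Nat.card N).Coprime N.index) : N ≤ Cfsg.fittingHall M :=
  le_sSup ⟨hN, hnil, hcop⟩

/-- `M_F` is a Hall subgroup of `M`. -/
theorem fittingHall_coprime [Finite M] :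
    (Nat.card (Cfsg.fittingHall M)).Coprime (Cfsg.fittingHall M).index := by
  apply Nat.Coprime.symm
  apply Nat.coprime_of_dvd
  intro p hp hp1 hp2
  -- some N in the family has p ∣ |N|
  by_cases hall : ∀ N : Subgroup M, N.Normal ∧ Group.IsNilpotent N ∧ (Nat.card N).Coprime N.index →
      (Nat.card N).Coprime p
  · have hle : Cfsg.fittingHall M ≤ Cfsg.pPrimeCore p M := by
      apply sSup_le
      intro N hN
      exact le_sSup ⟨hN.1, hall N hN⟩
    have h1 : Nat.card (Cfsg.fittingHall M) ∣ Nat.card (Cfsg.pPrimeCore p M) :=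
      Subgroup.card_dvd_of_le hle
    have h2 := pPrimeCore_coprime (G := M) hp
    have h3 : p ∣ Nat.card (Cfsg.pPrimeCore p M) := dvd_trans hp2 h1
    have := Nat.Coprime.eq_one_of_dvd h2.symm h3
    exact hp.one_lt.ne' this
  · push_neg at hall
    obtain ⟨N, hN, hNp⟩ := hall
    have hpN : p ∣ Nat.card N := by
      by_contra h
      exact hNp ((Nat.Prime.coprime_iff_not_dvd hp).mpr h).symm
    have hle : N ≤ Cfsg.fittingHall M := le_sSup hN
    have hidx : (Cfsg.fittingHall M).index ∣ N.index := Subgroup.index_dvd_of_le hle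
    have : p ∣ N.index := dvd_trans hp1 hidx
    have h4 := Nat.Coprime.eq_one_of_dvd (Nat.Coprime.coprime_dvd_left hpN hN.2.2) this
    exact hp.one_lt.ne' h4

end abs

section amb
variable {G : Type*} [Group G]

theorem fittingHallOf_le (M : Subgroup G) : Cfsg.fittingHallOf M ≤ M := by
  unfold Cfsg.fittingHallOf
  exact Subgroup.map_subtype_le _

theorem le_normalizer_fittingHallOf (M : Subgroup G) :
    M ≤ Subgroup.normalizer (Cfsg.fittingHallOf M : Set G) := by
  intro m hm
  rw [Subgroup.mem_normalizer_iff]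
  intro x
  unfold Cfsg.fittingHallOf
  constructor
  · rintro ⟨y, hy, rfl⟩
    refine ⟨⟨m, hm⟩ * y * ⟨m, hm⟩⁻¹, ?_, rfl⟩
    exact (Cfsg.fittingHall_normal M).conj_mem y hy _
  · rintro ⟨y, hy, hyx⟩
    have hx : x ∈ M := by
      have h1 : m * x * m⁻¹ ∈ M := hyx ▸ y.2
      have := M.mul_mem (M.mul_mem (M.inv_mem hm) h1) hm
      simpa [mul_assoc] using this
    refine ⟨⟨x, hx⟩, ?_, rfl⟩
    have h2 : (⟨x, hx⟩ : M) = ⟨m, hm⟩⁻¹ * y * ⟨m, hm⟩⁻¹⁻¹ := by
      apply Subtype.ext
      simp [show (y : G) = m * x * m⁻¹ from hyx, mul_assoc]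
    rw [h2]
    exact (Cfsg.fittingHall_normal M).conj_mem y hy _

theorem fittingHallOf_coprime [Finite G] (M : Subgroup G) :
    (Nat.card (Cfsg.fittingHallOf M)).Coprime ((Cfsg.fittingHallOf M).relIndex M) := by
  have h := fittingHall_coprime (M := M)
  unfold Cfsg.fittingHallOf
  have h1 : Nat.card ((Cfsg.fittingHall M).map M.subtype) = Nat.card (Cfsg.fittingHall M) :=
    Nat.card_congr (Subgroup.equivMapOfInjective _ _ M.subtype_injective).symm.toEquiv
  have h2 : ((Cfsg.fittingHall M).map M.subtype).relIndex M = (Cfsg.fittingHall M).index := by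
    unfold Subgroup.relIndex Subgroup.subgroupOf
    rw [Subgroup.comap_map_eq_self_of_injective M.subtype_injective]
  rw [h1, h2]
  exact h

/-- Order of a group with complementary subgroups. -/
theorem card_of_isComplIn {A B M : Subgroup G} (h : Cfsg.IsComplIn A B M) :
    Nat.card M = Nat.card A * Nat.card B := by
  obtain ⟨hA, hB, hAB, hprod⟩ := h
  rw [← Nat.card_prod]
  symm
  apply Nat.card_congr
  refine Equiv.ofBijective (fun ab => ⟨(ab.1 : G) * ab.2, M.mul_mem (hA ab.1.2) (hB ab.2.2)⟩) ⟨?_, ?_⟩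
  · rintro ⟨⟨a, ha⟩, ⟨b, hb⟩⟩ ⟨⟨a', ha'⟩, ⟨b', hb'⟩⟩ h
    have h' : a * b = a' * b' := congrArg Subtype.val h
    have h1 : a'⁻¹ * a = b' * b⁻¹ := by
      have : a'⁻¹ * (a * b) * b⁻¹ = a'⁻¹ * (a' * b') * b⁻¹ := by rw [h']
      simpa [mul_assoc] using this
    have h2 : a'⁻¹ * a ∈ A ⊓ B := ⟨A.mul_mem (A.inv_mem ha') ha, h1 ▸ B.mul_mem hb' (B.inv_mem hb)⟩
    rw [hAB, Subgroup.mem_bot] at h2
    have h3 : a = a' := by
      have := inv_mul_eq_one.mp h2
      exact this.symm
    have h4 : b = b' := by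
      rw [h3] at h'
      exact mul_left_cancel h'
    subst h3 h4
    rfl
  · rintro ⟨m, hm⟩
    obtain ⟨a, ha, b, hb, hab⟩ := hprod m hm
    exact ⟨⟨⟨a, ha⟩, ⟨b, hb⟩⟩, Subtype.ext hab.symm⟩

/-- A complement `U` of `H = M_F` inside some subgroup `D ≤ M` has order prime to `|H|`. -/
theorem card_coprime_of_compl [Finite G] {M D U : Subgroup G} (hD : D ≤ M)
    (hc : Cfsg.IsComplIn (Cfsg.fittingHallOf M) U D) :
    (Nat.card U).Coprime (Nat.card (Cfsg.fittingHallOf M)) := by
  have h1 := card_of_isComplIn hc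
  have h2 : Nat.card D ∣ Nat.card M := Subgroup.card_dvd_of_le hD
  have h3 : Nat.card (Cfsg.fittingHallOf M) * (Cfsg.fittingHallOf M).relIndex M = Nat.card M := by
    have := Subgroup.relIndex_mul_relIndex ⊥ (Cfsg.fittingHallOf M) M bot_le (fittingHallOf_le M)
    rwa [Subgroup.relIndex_bot_left, Subgroup.relIndex_bot_left] at this
  rw [h1, ← h3] at h2
  have h4 : Nat.card U ∣ (Cfsg.fittingHallOf M).relIndex M :=
    Nat.dvd_of_mul_dvd_mul_left Nat.card_pos h2
  exact (Nat.Coprime.coprime_dvd_right h4 (fittingHallOf_coprime M)).symm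

/-- Elements of a complement `U` of `H = M_F` inside some subgroup `D ≤ M` have order prime
to `|H|`. -/
theorem orderOf_coprime_of_compl [Finite G] {M D U : Subgroup G} (hD : D ≤ M)
    (hc : Cfsg.IsComplIn (Cfsg.fittingHallOf M) U D) {u : G} (hu : u ∈ U) :
    (orderOf u).Coprime (Nat.card (Cfsg.fittingHallOf M)) := by
  have h5 : orderOf u ∣ Nat.card U := by
    have := orderOf_dvd_natCard (⟨u, hu⟩ : U)
    rwa [← Subgroup.orderOf_coe] at this
  exact Nat.Coprime.coprime_dvd_left h5 (card_coprime_of_compl hD hc)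

/-- If `u = h * c` with `h ∈ H`, `c` centralizing `H`, and `u` of order prime to `|H|`, then
`u` centralizes `H`. -/
theorem mem_centralizer_of_coprime_mul [Finite G] {H : Subgroup G} {u h c : G} (hh : h ∈ H)
    (hc : c ∈ Subgroup.centralizer (H : Set G)) (hu : u = h * c)
    (hcop : (orderOf u).Coprime (Nat.card H)) : u ∈ Subgroup.centralizer (H : Set G) := by
  have hcomm : Commute h c := by
    rw [Subgroup.mem_centralizer_iff] at hc
    exact hc h hh
  have hk : u ^ (Nat.card H) = c ^ (Nat.card H) := by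
    rw [hu, hcomm.mul_pow]
    have : h ^ Nat.card H = 1 := by
      have := pow_card_eq_one' (G := H) (x := ⟨h, hh⟩)
      exact congrArg Subtype.val this
    rw [this, one_mul]
  have hmem : u ^ (Nat.card H) ∈ Subgroup.centralizer (H : Set G) := hk ▸ Subgroup.pow_mem _ hc _
  obtain ⟨m, hm⟩ := exists_pow_eq_self_of_coprime (x := u) hcop.symm
  rw [← hm]
  exact Subgroup.pow_mem _ hmem _

theorem commutator_self_le (M : Subgroup G) : ⁅M, M⁆ ≤ M :=
  Subgroup.commutator_le.mpr (fun a ha b hb =>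
    M.mul_mem (M.mul_mem (M.mul_mem ha hb) (M.inv_mem ha)) (M.inv_mem hb))

/-- The part of `H C_M(H)` inside a complement `U` of `H = M_F` centralizes `H`. -/
theorem compl_inf_sup_le_centralizer [Finite G] {M D U : Subgroup G} (hD : D ≤ M)
    (hc : Cfsg.IsComplIn (Cfsg.fittingHallOf M) U D) :
    U ⊓ (Cfsg.fittingHallOf M ⊔ (M ⊓ Subgroup.centralizer (Cfsg.fittingHallOf M : Set G))) ≤
      Subgroup.centralizer (Cfsg.fittingHallOf M : Set G) := by
  rintro u ⟨hu, hu2⟩
  have hN : M ⊓ Subgroup.centralizer (Cfsg.fittingHallOf M : Set G) ≤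
      Subgroup.normalizer (Cfsg.fittingHallOf M : Set G) :=
    inf_le_left.trans (le_normalizer_fittingHallOf M)
  obtain ⟨h, hh, c, hcm, huc⟩ := mem_sup_of_normalizer hN hu2
  exact mem_centralizer_of_coprime_mul hh hcm.2 huc (orderOf_coprime_of_compl hD hc hu)

end amb

end Cfsg.Agent.helper7
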