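import Cfsg.Statements.S1474
import Mathlib
import Cfsg.Agent.Lib_helper7_TypeP
import Cfsg.Agent.S0069
import Cfsg.Agent.S0039
import Cfsg.Agent.Lib_helper17_MinNonNil
import Cfsg.Agent.Lib_helper8_CN2
import Cfsg.Agent.S3986

set_option autoImplicit false
set_option linter.unusedSectionVars false
set_option linter.style.haveILetI false
open Cfsg

namespace Cfsg.Agent.S1474

open Cfsg.Agent.helper7

variable {G : Type*} [Group G] [Finite G]

/-- a prime dividing `|fittingHall G|` has a normal Sylow subgroup in `G`. -/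
theorem exists_normal_sylow (r : ℕ) [hr : Fact r.Prime] (hrH : r ∣ Nat.card (Cfsg.fittingHall G)) :
    ∃ R : Sylow r G, (R : Subgroup G).Normal := by
  by_cases hall : ∀ N : Subgroup G, N.Normal ∧ Group.IsNilpotent N ∧ (Nat.card N).Coprime N.index →
      (Nat.card N).Coprime r
  · exfalso
    have hle : Cfsg.fittingHall G ≤ Cfsg.pPrimeCore r G := by
      apply sSup_le
      intro N hN
      exact le_sSup ⟨hN.1, hall N hN⟩
    have h1 : Nat.card (Cfsg.fittingHall G) ∣ Nat.card (Cfsg.pPrimeCore r G) :=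
      Subgroup.card_dvd_of_le hle
    have h2 := pPrimeCore_coprime (G := G) hr.out
    have h3 : r ∣ Nat.card (Cfsg.pPrimeCore r G) := dvd_trans hrH h1
    have := Nat.Coprime.eq_one_of_dvd h2.symm h3
    exact hr.out.one_lt.ne' this
  · push Not at hall
    obtain ⟨N, ⟨hNn, hNnil, hNcop⟩, hNr⟩ := hall
    have hrN : r ∣ Nat.card N := by
      by_contra h
      exact hNr ((Nat.Prime.coprime_iff_not_dvd hr.out).mpr h).symm
    haveI := hNn
    haveI := hNnil
    obtain ⟨R0⟩ : Nonempty (Sylow r N) := inferInstance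
    have h4 := ((Group.isNilpotent_of_finite_tfae (G := N)).out 0 3).1 hNnil
    have hR0n : (R0 : Subgroup N).Normal := h4 r inferInstance R0
    haveI hR0c : (R0 : Subgroup N).Characteristic := Sylow.characteristic_of_normal R0 hR0n
    have hnorm : ((R0 : Subgroup N).map N.subtype).Normal :=
      ConjAct.normal_of_characteristic_of_normal
    have hpg : IsPGroup r ↥((R0 : Subgroup N).map N.subtype) := R0.isPGroup'.map N.subtype
    have hidx : ¬ r ∣ ((R0 : Subgroup N).map N.subtype).index := by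
      rw [Subgroup.index_map_subtype]
      intro h
      rcases (Nat.Prime.dvd_mul hr.out).1 h with h | h
      · exact R0.not_dvd_index h
      · have := Nat.Coprime.eq_one_of_dvd (Nat.Coprime.coprime_dvd_left hrN hNcop) h
        exact hr.out.one_lt.ne' this
    refine ⟨hpg.toSylow hidx, ?_⟩
    rw [IsPGroup.toSylow_coe]
    exact hnorm

theorem orderOf_prime_pow {q : ℕ} {x : G} (hx : orderOf x = q) : ∃ k, x ^ (q ^ k) = 1 :=
  ⟨1, by rw [pow_one, ← hx]; exact pow_orderOf_eq_one x⟩

/-- Key step: in a CN-group, no non-identity element of a complement of `fittingHall G` centralizes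
a non-identity element of `fittingHall G`. -/
theorem fpf (hCN : Cfsg.IsCNGroup G) (E : Subgroup G)
    (hc : Subgroup.IsComplement' (Cfsg.fittingHall G) E) (e : G) (heE : e ∈ E) (he1 : e ≠ 1)
    (x : G) (hxH : x ∈ Cfsg.fittingHall G) (hxe : x * e = e * x) : x = 1 := by
  by_contra hx1
  set H := Cfsg.fittingHall G with hH
  have hHE : H ⊓ E = ⊥ := hc.disjoint.eq_bot
  have hcop : (Nat.card H).Coprime (Nat.card E) := by
    rw [← hc.symm.index_eq_card]; exact fittingHall_coprime (M := G)
  -- prime order powers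
  have hoe : orderOf e ≠ 1 := by rw [Ne, orderOf_eq_one_iff]; exact he1
  have hox : orderOf x ≠ 1 := by rw [Ne, orderOf_eq_one_iff]; exact hx1
  obtain ⟨q, hq, hqe⟩ := Nat.exists_prime_and_dvd hoe
  obtain ⟨r, hr, hrx⟩ := Nat.exists_prime_and_dvd hox
  haveI : Fact q.Prime := ⟨hq⟩
  haveI : Fact r.Prime := ⟨hr⟩
  set e₁ := e ^ (orderOf e / q) with he₁
  set x₁ := x ^ (orderOf x / r) with hx₁
  have hoe₁ : orderOf e₁ = q := orderOf_pow_orderOf_div (orderOf_pos e).ne' hqe
  have hox₁ : orderOf x₁ = r := orderOf_pow_orderOf_div (orderOf_pos x).ne' hrx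
  have he₁E : e₁ ∈ E := E.pow_mem heE _
  have hx₁H : x₁ ∈ H := H.pow_mem hxH _
  have he₁1 : e₁ ≠ 1 := by
    intro h; rw [h, orderOf_one] at hoe₁; exact hq.one_lt.ne hoe₁
  have hx₁1 : x₁ ≠ 1 := by
    intro h; rw [h, orderOf_one] at hox₁; exact hr.one_lt.ne hox₁
  have hcomm : x₁ * e₁ = e₁ * x₁ := (Commute.pow_pow (show Commute x e from hxe) _ _).eq
  have hrH : r ∣ Nat.card H := by
    have := Subgroup.orderOf_dvd_natCard H hx₁H
    rwa [hox₁] at this
  have hqE : q ∣ Nat.card E := by
    have := Subgroup.orderOf_dvd_natCard E he₁E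
    rwa [hoe₁] at this
  have hqr : q ≠ r := by
    rintro rfl
    have := Nat.Coprime.eq_one_of_dvd (Nat.Coprime.coprime_dvd_left hrH hcop) hqE
    exact hq.one_lt.ne' this
  obtain ⟨R, hRn⟩ := exists_normal_sylow r hrH
  have hx₁R : x₁ ∈ (R : Subgroup G) := Cfsg.Agent.S3986.mem_normal_sylow r R hRn x₁ 1 (by rw [hox₁, pow_one])
  have hRelt : ∀ y ∈ (R : Subgroup G), ∃ k, y ^ (r ^ k) = 1 := by
    intro y hy
    obtain ⟨k, hk⟩ := (IsPGroup.iff_orderOf.mp R.isPGroup') ⟨y, hy⟩
    refine ⟨k, ?_⟩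
    rw [← hk, Subgroup.orderOf_mk]
    exact pow_orderOf_eq_one y
  have he₁elt : ∃ k, e₁ ^ (q ^ k) = 1 := orderOf_prime_pow hoe₁
  -- Step 1: e₁ centralizes Z(R)
  have hRne : (R : Subgroup G) ≠ ⊥ := by
    intro h; rw [h, Subgroup.mem_bot] at hx₁R; exact hx₁1 hx₁R
  obtain ⟨z₀, hz₀R, hz₀1, hz₀c⟩ := Cfsg.Agent.helper8.CN.exists_center_sylow R hRne
  have memC : ∀ {a b : G}, a * b = b * a → b ∈ Subgroup.centralizer ({a} : Set G) := by
    intro a b hab
    rw [Subgroup.mem_centralizer_iff]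
    intro y hy
    rw [Set.mem_singleton_iff] at hy
    subst hy
    exact hab
  have step1 : e₁ * z₀ = z₀ * e₁ :=
    Cfsg.Agent.helper17.MNN.commute_of_nilpotent_subgroup (Subgroup.centralizer ({x₁} : Set G))
      (hCN x₁ hx₁1) hqr (memC hcomm) (memC (hz₀c x₁ hx₁R).symm) he₁elt (hRelt z₀ hz₀R)
  -- Step 2: e₁ centralizes R
  have step2 : ∀ y ∈ (R : Subgroup G), e₁ * y = y * e₁ := by
    intro y hy
    exact Cfsg.Agent.helper17.MNN.commute_of_nilpotent_subgroup (Subgroup.centralizer ({z₀} : Set G))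
      (hCN z₀ hz₀1) hqr (memC step1.symm) (memC (hz₀c y hy)) he₁elt (hRelt y hy)
  -- Step 3: Sylow q-subgroup containing e₁
  have hpe : IsPGroup q (Subgroup.zpowers e₁) :=
    IsPGroup.of_card (n := 1) (by rw [Nat.card_zpowers, hoe₁, pow_one])
  obtain ⟨Q, hQ⟩ := hpe.exists_le_sylow
  have he₁Q : e₁ ∈ (Q : Subgroup G) := hQ (Subgroup.mem_zpowers e₁)
  have hQne : (Q : Subgroup G) ≠ ⊥ := by
    intro h; rw [h, Subgroup.mem_bot] at he₁Q; exact he₁1 he₁Q
  have hQelt : ∀ y ∈ (Q : Subgroup G), ∃ k, y ^ (q ^ k) = 1 := by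
    intro y hy
    obtain ⟨k, hk⟩ := (IsPGroup.iff_orderOf.mp Q.isPGroup') ⟨y, hy⟩
    refine ⟨k, ?_⟩
    rw [← hk, Subgroup.orderOf_mk]
    exact pow_orderOf_eq_one y
  obtain ⟨u, huQ, hu1, huc⟩ := Cfsg.Agent.helper8.CN.exists_center_sylow Q hQne
  have step3 : ∀ y ∈ (R : Subgroup G), u * y = y * u := by
    intro y hy
    exact Cfsg.Agent.helper17.MNN.commute_of_nilpotent_subgroup (Subgroup.centralizer ({e₁} : Set G))
      (hCN e₁ he₁1) hqr (memC (huc e₁ he₁Q).symm) (memC (step2 y hy)) (hQelt u huQ) (hRelt y hy)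
  -- Step 4: Q centralizes R
  have step4 : ∀ w ∈ (Q : Subgroup G), ∀ y ∈ (R : Subgroup G), w * y = y * w := by
    intro w hw y hy
    exact Cfsg.Agent.helper17.MNN.commute_of_nilpotent_subgroup (Subgroup.centralizer ({u} : Set G))
      (hCN u hu1) hqr (memC (huc w hw)) (memC (step3 y hy)) (hQelt w hw) (hRelt y hy)
  -- Step 5: D = C_G(R) is normal nilpotent, contains Q
  haveI := hRn
  set D : Subgroup G := Subgroup.centralizer ((R : Subgroup G) : Set G) with hD
  haveI hDn : D.Normal := Subgroup.normal_centralizer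
  have hQD : (Q : Subgroup G) ≤ D := by
    intro w hw
    rw [hD, Subgroup.mem_centralizer_iff]
    intro y hy
    exact (step4 w hw y hy).symm
  have hDle : D ≤ Subgroup.centralizer ({z₀} : Set G) := by
    apply Subgroup.centralizer_le
    intro y hy
    rw [Set.mem_singleton_iff] at hy
    subst hy
    exact hz₀R
  have hDnil : Group.IsNilpotent D := Cfsg.Agent.helper8.CN.nilpotent_of_le hDle (hCN z₀ hz₀1)
  have h4 := ((Group.isNilpotent_of_finite_tfae (G := D)).out 0 3).1 hDnil
  have hQ'n : ((Q.subtype hQD : Sylow q D) : Subgroup D).Normal := h4 q inferInstance _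
  haveI hQ'c : ((Q.subtype hQD : Sylow q D) : Subgroup D).Characteristic :=
    Sylow.characteristic_of_normal _ hQ'n
  have hQn : (((Q.subtype hQD : Sylow q D) : Subgroup D).map D.subtype).Normal :=
    ConjAct.normal_of_characteristic_of_normal
  rw [Sylow.coe_subtype, Subgroup.map_subgroupOf_eq_of_le hQD] at hQn
  -- Q ≤ H
  have hQH : (Q : Subgroup G) ≤ H :=
    le_fittingHall hQn (Q.isPGroup'.isNilpotent) Q.card_coprime_index
  have : e₁ ∈ H ⊓ E := ⟨hQH he₁Q, he₁E⟩
  rw [hHE, Subgroup.mem_bot] at this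
  exact he₁1 this

/-- Let G be a finite group in which every non-identity element has nilpotent centralizer, not itself nilpotent, and having a nontrivial normal Sylow p-subgroup for some prime p. Let H be the largest normal nilpotent Hall subgroup of G. Then H is a nontrivial proper normal subgroup with a complement E that is a Frobenius complement in G (no non-identity element of E centralizes a non-identity element of H), and G/H is nilpotent. -/
theorem result {G : Type*} [Group G] [Finite G] (hCN : Cfsg.IsCNGroup G) (hnn : ¬ Group.IsNilpotent G) (p : ℕ) [Fact p.Prime] (P : Sylow p G)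
    (hP1 : (P : Subgroup G) ≠ ⊥) (hPn : (P : Subgroup G).Normal) :
    Cfsg.fittingHall G ≠ ⊥ ∧ Cfsg.fittingHall G ≠ ⊤ ∧
      (∃ E : Subgroup G, Subgroup.IsComplement' (Cfsg.fittingHall G) E ∧ Cfsg.IsFrobeniusComplement E ∧
        ∀ e ∈ E, e ≠ 1 → Cfsg.fittingHall G ⊓ Subgroup.centralizer ({e} : Set G) = ⊥) ∧
      Group.IsNilpotent (G ⧸ Cfsg.fittingHall G) := by
  set H := Cfsg.fittingHall G with hH
  have hPH : (P : Subgroup G) ≤ H := le_fittingHall hPn (P.isPGroup'.isNilpotent) P.card_coprime_index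
  have hH1 : H ≠ ⊥ := by
    intro h
    rw [h, le_bot_iff] at hPH
    exact hP1 hPH
  have hH2 : H ≠ ⊤ := by
    intro h
    apply hnn
    apply ((Group.isNilpotent_of_finite_tfae (G := G)).out 0 3).2
    intro r hr S
    haveI := hr
    by_cases hrG : r ∣ Nat.card G
    · have hrH : r ∣ Nat.card H := by rw [h, Subgroup.card_top]; exact hrG
      obtain ⟨R, hRn⟩ := exists_normal_sylow r hrH
      have := Sylow.unique_of_normal R hRn
      have : S = R := Subsingleton.elim _ _
      rw [this]; exact hRn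
    · have : (S : Subgroup G) = ⊥ := by
        rw [← Subgroup.card_eq_one]
        obtain ⟨n, hn⟩ := IsPGroup.iff_card.mp S.isPGroup'
        rcases Nat.eq_zero_or_pos n with h0 | h0
        · rw [hn, h0, pow_zero]
        · exfalso
          apply hrG
          have h1 : r ∣ Nat.card (S : Subgroup G) := by rw [hn]; exact dvd_pow_self r h0.ne'
          exact h1.trans (Subgroup.card_subgroup_dvd_card _)
      rw [this]
      infer_instance
  obtain ⟨E, hc⟩ := Subgroup.exists_right_complement'_of_coprime (fittingHall_coprime (M := G))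
  have hcard : Nat.card H * Nat.card E = Nat.card G := hc.card_mul_card
  have hE1 : E ≠ ⊥ := by
    intro h
    apply hH2
    apply Subgroup.eq_top_of_card_eq
    rw [h, Subgroup.card_bot, mul_one] at hcard
    exact hcard
  have hfpf : ∀ e ∈ E, e ≠ 1 → H ⊓ Subgroup.centralizer ({e} : Set G) = ⊥ := by
    intro e heE he1
    rw [eq_bot_iff]
    intro x hx
    rw [Subgroup.mem_bot]
    have hxc : x ∈ Subgroup.centralizer ({e} : Set G) := hx.2
    rw [Subgroup.mem_centralizer_iff] at hxc
    exact fpf hCN E hc e heE he1 x hx.1 (hxc e rfl).symm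
  have hFrob : Cfsg.IsFrobeniusComplement E := (Cfsg.Agent.S0039.result H E hc hH1 hE1).mpr hfpf
  refine ⟨hH1, hH2, ⟨E, hc, hFrob, hfpf⟩, ?_⟩
  -- nilpotency of the quotient
  have hZ : Subgroup.center E ≠ ⊥ := Cfsg.Agent.S0069.result H E hc hH1 hE1 hfpf
  obtain ⟨⟨z, hzc⟩, hz1⟩ : ∃ z : Subgroup.center E, z ≠ 1 := by
    haveI : Nontrivial (Subgroup.center E) := (Subgroup.nontrivial_iff_ne_bot _).2 hZ
    exact exists_ne 1
  have hzG : (z : G) ≠ 1 := by
    intro h
    apply hz1
    apply Subtype.ext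
    apply Subtype.ext
    exact h
  have hEle : E ≤ Subgroup.centralizer ({(z : G)} : Set G) := by
    intro w hw
    rw [Subgroup.mem_centralizer_iff]
    intro y hy
    rw [Set.mem_singleton_iff] at hy
    subst hy
    rw [Subgroup.mem_center_iff] at hzc
    have := hzc ⟨w, hw⟩
    exact (congrArg Subtype.val this).symm
  have hEnil : Group.IsNilpotent E := Cfsg.Agent.helper8.CN.nilpotent_of_le hEle (hCN _ hzG)
  haveI := hEnil
  let f : E →* G ⧸ H := (QuotientGroup.mk' H).comp E.subtype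
  apply Group.nilpotent_of_surjective f
  intro y
  obtain ⟨g, rfl⟩ := QuotientGroup.mk'_surjective H y
  obtain ⟨⟨⟨h, hh⟩, ⟨e, he⟩⟩, hhe, -⟩ := hc.existsUnique g
  refine ⟨⟨e, he⟩, ?_⟩
  show QuotientGroup.mk' H e = QuotientGroup.mk' H g
  simp only at hhe
  rw [← hhe, map_mul]
  have : QuotientGroup.mk' H h = 1 := (QuotientGroup.eq_one_iff h).2 hh
  rw [this, one_mul]

end Cfsg.Agent.S1474
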