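import Cfsg.Statements.S1476
import Mathlib
import Cfsg.Agent.Lib_helper1_Core
import Cfsg.Agent.Lib_helper8_CN2
import Cfsg.Agent.Lib_helper19_NilMax
import Cfsg.Agent.Lib_helper23_Hall
import Cfsg.Agent.S0008
import Cfsg.Agent.S0044
import Cfsg.Agent.S0039
import Cfsg.Agent.S0040
import Cfsg.Agent.S0041
import Cfsg.Agent.S0068
import Cfsg.Agent.S0069
import Cfsg.Agent.S1474

set_option autoImplicit false
set_option linter.style.haveILetI false
set_option linter.unusedSectionVars false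
open Cfsg

namespace Cfsg.Agent.S1476

open scoped Pointwise

section Basic

variable {G : Type*} [Group G] [Finite G]

/-- In a CN-group, two elements of coprime orders centralizing a common non-identity element
commute. -/
theorem comm_of_cn (hCN : Cfsg.IsCNGroup G) {z x y : G} (hz : z ≠ 1) (hx : x * z = z * x)
    (hy : y * z = z * y) (hcop : (orderOf x).Coprime (orderOf y)) : x * y = y * x := by
  haveI := hCN z hz
  have hxm : x ∈ Subgroup.centralizer ({z} : Set G) := by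
    rw [Subgroup.mem_centralizer_singleton_iff]; exact hx
  have hym : y ∈ Subgroup.centralizer ({z} : Set G) := by
    rw [Subgroup.mem_centralizer_singleton_iff]; exact hy
  have h := Cfsg.Agent.helper19.commute_of_coprime_of_isNilpotent
    ↥(Subgroup.centralizer ({z} : Set G)) ⟨x, hxm⟩ ⟨y, hym⟩
    (by rw [Subgroup.orderOf_mk, Subgroup.orderOf_mk]; exact hcop)
  exact congrArg Subtype.val h.eq

/-- A subgroup all of whose elements commute with a fixed non-identity element is nilpotent. -/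
theorem nilpotent_of_central_elt (hCN : Cfsg.IsCNGroup G) (B : Subgroup G) {z : G} (hz : z ≠ 1)
    (h : ∀ b ∈ B, b * z = z * b) : Group.IsNilpotent B := by
  have hle : B ≤ Subgroup.centralizer ({z} : Set G) := by
    intro b hb
    rw [Subgroup.mem_centralizer_singleton_iff]
    exact h b hb
  exact Cfsg.Agent.helper8.CN.nilpotent_of_le hle (hCN z hz)

end Basic

section Structure

/-- An `r`-group with `r` odd is not a (generalized) quaternion group. -/
theorem not_quaternion_of_odd {P : Type*} [Group P] [Finite P] {r : ℕ} [hr : Fact r.Prime]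
    (hr2 : r ≠ 2) (hP : IsPGroup r P) (n : ℕ) (e : P ≃* QuaternionGroup (2 ^ n)) : False := by
  have hcard : Nat.card P = 4 * 2 ^ n := by
    rw [Nat.card_congr e.toEquiv, Nat.card_eq_fintype_card, QuaternionGroup.card]
  obtain ⟨k, hk⟩ := IsPGroup.iff_card.1 hP
  have h2 : 2 ∣ r ^ k := by rw [← hk, hcard]; exact ⟨2 * 2 ^ n, by ring⟩
  have h3 := Nat.Prime.dvd_of_dvd_pow Nat.prime_two h2
  exact hr2 ((Nat.prime_dvd_prime_iff_eq Nat.prime_two hr.out).1 h3).symm

variable {E : Type*} [Group E] [Finite E]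

theorem cyclic_of_sylow_cyclic [Group.IsNilpotent E]
    (h : ∀ (r : ℕ) [Fact r.Prime] (P : Sylow r E), IsCyclic P) : IsCyclic E := by
  haveI : IsZGroup E := ⟨fun r hr P => by haveI : Fact r.Prime := ⟨hr⟩; exact h r P⟩
  infer_instance

/-- A finite nilpotent group all of whose Sylow subgroups are cyclic or quaternion is cyclic or the
product of a cyclic group of odd order and a quaternion group. -/
theorem structure_lemma [Group.IsNilpotent E]
    (h : ∀ (r : ℕ) [Fact r.Prime] (P : Sylow r E),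
      IsCyclic P ∨ ∃ n : ℕ, Nonempty (P ≃* QuaternionGroup (2 ^ n))) :
    IsCyclic E ∨ ∃ C Q : Subgroup E, C ⊔ Q = ⊤ ∧ (∀ a ∈ C, ∀ b ∈ Q, a * b = b * a) ∧ IsCyclic C ∧
      Odd (Nat.card C) ∧ ∃ n : ℕ, Nonempty (Q ≃* QuaternionGroup (2 ^ n)) := by
  have hodd : ∀ (r : ℕ) [Fact r.Prime] (P : Sylow r E), r ≠ 2 → IsCyclic P := by
    intro r _ P hr2
    rcases h r P with hc | ⟨n, ⟨e⟩⟩
    · exact hc
    · exact (not_quaternion_of_odd hr2 P.isPGroup' n e).elim
  haveI h2f : Fact (Nat.Prime 2) := ⟨Nat.prime_two⟩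
  obtain ⟨P2⟩ : Nonempty (Sylow 2 E) := inferInstance
  rcases h 2 P2 with hc | ⟨n, ⟨e⟩⟩
  · left
    apply cyclic_of_sylow_cyclic
    intro r hr P
    by_cases hr2 : r = 2
    · subst hr2
      exact (MulEquiv.isCyclic (Sylow.equiv P P2)).2 hc
    · exact hodd r P hr2
  · right
    have hnorm : (P2 : Subgroup E).Normal := inferInstance
    haveI := hnorm
    obtain ⟨C0, hC0⟩ := Subgroup.exists_right_complement'_of_coprime P2.card_coprime_index
    have hcardC0 : (P2 : Subgroup E).index = Nat.card C0 := hC0.symm.index_eq_card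
    have hoddC0 : Odd (Nat.card C0) := by
      rw [← hcardC0, ← Nat.not_even_iff_odd, even_iff_two_dvd]
      exact P2.not_dvd_index
    have hcop : (Nat.card C0).Coprime (Nat.card P2) := by
      rw [← hcardC0]; exact P2.card_coprime_index.symm
    refine ⟨C0, P2, ?_, ?_, ?_, hoddC0, n, ⟨e⟩⟩
    · rw [sup_comm]; exact hC0.sup_eq_top
    · intro a ha b hb
      have h1 : (orderOf a).Coprime (orderOf b) :=
        Nat.Coprime.of_dvd (Subgroup.orderOf_dvd_natCard C0 ha)
          (Subgroup.orderOf_dvd_natCard (P2 : Subgroup E) hb) hcop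
      exact (Cfsg.Agent.helper19.commute_of_coprime_of_isNilpotent E a b h1).eq
    · apply cyclic_of_sylow_cyclic
      intro r hr R
      by_cases hr2 : r = 2
      · subst hr2
        obtain ⟨k, hk⟩ := IsPGroup.iff_card.1 R.isPGroup'
        have hdvd : Nat.card R ∣ Nat.card C0 := Subgroup.card_subgroup_dvd_card _
        have hk0 : k = 0 := by
          by_contra hk0
          have : 2 ∣ Nat.card C0 := dvd_trans (by rw [hk]; exact dvd_pow_self 2 hk0) hdvd
          rw [← even_iff_two_dvd, ← Nat.not_odd_iff_even] at this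
          exact this hoddC0
        rw [hk0, pow_zero] at hk
        haveI : Subsingleton ↥(R : Subgroup C0) := (Nat.card_eq_one_iff_unique.1 hk).1
        exact isCyclic_of_subsingleton
      · have hpg : IsPGroup r ↥((R : Subgroup C0).map C0.subtype) := R.isPGroup'.map C0.subtype
        obtain ⟨P, hP⟩ := hpg.exists_le_sylow
        haveI := hodd r P hr2
        haveI : IsCyclic ↥((R : Subgroup C0).map C0.subtype) := Subgroup.isCyclic_of_le hP
        exact (MulEquiv.isCyclic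
          ((R : Subgroup C0).equivMapOfInjective C0.subtype C0.subtype_injective)).2 inferInstance

end Structure

section Transfer

variable {G : Type*} [Group G] [Finite G]

theorem inf_eq_bot_of_fpf (K B : Subgroup G)
    (hfpf : ∀ b ∈ B, b ≠ 1 → K ⊓ Subgroup.centralizer {b} = ⊥) : K ⊓ B = ⊥ := by
  rw [Subgroup.eq_bot_iff_forall]
  intro x hx
  by_contra hx1
  have h1 : x ∈ K ⊓ Subgroup.centralizer {x} := by
    refine Subgroup.mem_inf.2 ⟨(Subgroup.mem_inf.1 hx).1, ?_⟩
    rw [Subgroup.mem_centralizer_singleton_iff]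
  rw [hfpf x (Subgroup.mem_inf.1 hx).2 hx1, Subgroup.mem_bot] at h1
  exact hx1 h1

/-- complement data inside `K ⊔ B` -/
theorem tr_setup (K B : Subgroup G) [K.Normal] (hK : K ≠ ⊥)
    (hfpf : ∀ b ∈ B, b ≠ 1 → K ⊓ Subgroup.centralizer {b} = ⊥) :
    Subgroup.IsComplement' (K.subgroupOf (K ⊔ B)) (B.subgroupOf (K ⊔ B)) ∧
    K.subgroupOf (K ⊔ B) ≠ ⊥ ∧
    ∀ h ∈ B.subgroupOf (K ⊔ B), h ≠ 1 →
      K.subgroupOf (K ⊔ B) ⊓ Subgroup.centralizer {h} = ⊥ := by
  have hKB := inf_eq_bot_of_fpf K B hfpf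
  refine ⟨?_, ?_, ?_⟩
  · apply Subgroup.isComplement'_of_disjoint_and_mul_eq_univ
    · rw [Subgroup.disjoint_def]
      intro x hxK hxB
      have h1 : (x : G) ∈ K ⊓ B := Subgroup.mem_inf.2
        ⟨Subgroup.mem_subgroupOf.1 hxK, Subgroup.mem_subgroupOf.1 hxB⟩
      rw [hKB, Subgroup.mem_bot] at h1
      exact Subtype.ext h1
    · apply Set.eq_univ_of_forall
      intro x
      have h1 : (x : G) ∈ ((K ⊔ B : Subgroup G) : Set G) := x.2
      rw [Subgroup.normal_mul, Set.mem_mul] at h1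
      obtain ⟨k, hk, b, hb, hkb⟩ := h1
      refine Set.mem_mul.2 ⟨⟨k, le_sup_left (a := K) (b := B) hk⟩, ?_,
        ⟨b, le_sup_right (a := K) (b := B) hb⟩, ?_, ?_⟩
      · exact Subgroup.mem_subgroupOf.2 hk
      · exact Subgroup.mem_subgroupOf.2 hb
      · exact Subtype.ext hkb
  · intro h
    apply hK
    rw [Subgroup.eq_bot_iff_forall]
    intro k hk
    have h1 : (⟨k, le_sup_left (a := K) (b := B) hk⟩ : ↥(K ⊔ B)) ∈ K.subgroupOf (K ⊔ B) :=
      Subgroup.mem_subgroupOf.2 hk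
    rw [h, Subgroup.mem_bot] at h1
    exact congrArg Subtype.val h1
  · intro h hh hh1
    rw [Subgroup.eq_bot_iff_forall]
    intro x hx
    obtain ⟨hxK, hxc⟩ := Subgroup.mem_inf.1 hx
    rw [Subgroup.mem_centralizer_singleton_iff] at hxc
    have h1 : (x : G) ∈ K ⊓ Subgroup.centralizer {(h : G)} := by
      refine Subgroup.mem_inf.2 ⟨Subgroup.mem_subgroupOf.1 hxK, ?_⟩
      rw [Subgroup.mem_centralizer_singleton_iff]
      exact congrArg Subtype.val hxc
    have h2 : (h : G) ≠ 1 := fun h0 => hh1 (Subtype.ext h0)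
    rw [hfpf _ (Subgroup.mem_subgroupOf.1 hh) h2, Subgroup.mem_bot] at h1
    exact Subtype.ext h1

theorem exists_central_of_fpf (K B : Subgroup G) [K.Normal] (hK : K ≠ ⊥) (hB : B ≠ ⊥)
    (hfpf : ∀ b ∈ B, b ≠ 1 → K ⊓ Subgroup.centralizer {b} = ⊥) :
    ∃ z ∈ B, z ≠ 1 ∧ ∀ b ∈ B, b * z = z * b := by
  obtain ⟨hc, hK', hfpf'⟩ := tr_setup K B hK hfpf
  have hB' : B.subgroupOf (K ⊔ B) ≠ ⊥ := by
    intro h
    apply hB
    rw [Subgroup.eq_bot_iff_forall]
    intro b hb
    have h1 : (⟨b, le_sup_right (a := K) (b := B) hb⟩ : ↥(K ⊔ B)) ∈ B.subgroupOf (K ⊔ B) :=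
      Subgroup.mem_subgroupOf.2 hb
    rw [h, Subgroup.mem_bot] at h1
    exact congrArg Subtype.val h1
  have h1 := Cfsg.Agent.S0069.result (K.subgroupOf (K ⊔ B)) (B.subgroupOf (K ⊔ B)) hc hK' hB' hfpf'
  obtain ⟨z, hz, hz1⟩ := (Subgroup.bot_or_exists_ne_one _).resolve_left h1
  refine ⟨z.1.1, Subgroup.mem_subgroupOf.1 z.2, ?_, ?_⟩
  · intro h0
    apply hz1
    apply Subtype.ext
    apply Subtype.ext
    rw [h0]; rfl
  · intro b hb
    have h2 := Subgroup.mem_center_iff.1 hz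
      ⟨⟨b, le_sup_right (a := K) (b := B) hb⟩, Subgroup.mem_subgroupOf.2 hb⟩
    have h3 := congrArg (fun t : ↥(B.subgroupOf (K ⊔ B)) => (t.1.1 : G)) h2
    exact h3

theorem unique_involution_of_fpf (K B : Subgroup G) [K.Normal] (hK : K ≠ ⊥)
    (hfpf : ∀ b ∈ B, b ≠ 1 → K ⊓ Subgroup.centralizer {b} = ⊥) (heven : 2 ∣ Nat.card B) :
    ∃ s ∈ B, orderOf s = 2 ∧ ∀ t ∈ B, orderOf t = 2 → t = s := by
  obtain ⟨hc, hK', hfpf'⟩ := tr_setup K B hK hfpf
  have hcard : Nat.card (B.subgroupOf (K ⊔ B)) = Nat.card B :=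
    Nat.card_congr (Subgroup.subgroupOfEquivOfLe (le_sup_right : B ≤ K ⊔ B)).toEquiv
  have h1 := (Cfsg.Agent.S0068.result (K.subgroupOf (K ⊔ B)) (B.subgroupOf (K ⊔ B)) hc hK' hfpf'
    (by rw [hcard]; exact heven)).1
  obtain ⟨s, hs, hs2, huniq, -⟩ := h1
  refine ⟨s.1, Subgroup.mem_subgroupOf.1 hs, ?_, ?_⟩
  · rw [← hs2]; exact Subgroup.orderOf_coe s
  · intro t ht ht2
    have h2 := huniq ⟨t, le_sup_right (a := K) (b := B) ht⟩ (Subgroup.mem_subgroupOf.2 ht)
      (by rw [Subgroup.orderOf_mk]; exact ht2)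
    exact congrArg Subtype.val h2

theorem cyclic_or_quaternion_of_fpf (K R : Subgroup G) [K.Normal] (hK : K ≠ ⊥) (r : ℕ)
    [Fact r.Prime] (hR : IsPGroup r R)
    (hfpf : ∀ b ∈ R, b ≠ 1 → K ⊓ Subgroup.centralizer {b} = ⊥) :
    IsCyclic R ∨ ∃ n : ℕ, Nonempty (R ≃* QuaternionGroup (2 ^ n)) := by
  obtain ⟨hc, hK', hfpf'⟩ := tr_setup K R hK hfpf
  have hR' : IsPGroup r ↥(R.subgroupOf (K ⊔ R)) := hR.comap_subtype
  have htop : IsPGroup r ↥(⊤ : Subgroup ↥(R.subgroupOf (K ⊔ R))) := hR'.to_subgroup _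
  have hidx : ¬ r ∣ (⊤ : Subgroup ↥(R.subgroupOf (K ⊔ R))).index := by
    rw [Subgroup.index_top]
    exact fun h => (Fact.out : r.Prime).one_lt.ne' (Nat.dvd_one.1 h)
  have h1 := Cfsg.Agent.S0040.result (K.subgroupOf (K ⊔ R)) (R.subgroupOf (K ⊔ R)) hc hK' hfpf' r
    (htop.toSylow hidx)
  have e0 : ↥((htop.toSylow hidx : Sylow r ↥(R.subgroupOf (K ⊔ R))) :
      Subgroup ↥(R.subgroupOf (K ⊔ R))) ≃* ↥R :=
    ((MulEquiv.subgroupCongr (IsPGroup.toSylow_coe htop hidx)).trans Subgroup.topEquiv).trans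
      (Subgroup.subgroupOfEquivOfLe (le_sup_right : R ≤ K ⊔ R))
  rcases h1 with h1 | ⟨n, ⟨e⟩⟩
  · left
    exact (MulEquiv.isCyclic e0).1 h1
  · right
    exact ⟨n, ⟨e0.symm.trans e⟩⟩

end Transfer

section BranchA

variable {G : Type*} [Group G] [Finite G]

theorem branchA (hCN : Cfsg.IsCNGroup G) (hnn : ¬ Group.IsNilpotent G) (p : ℕ) [Fact p.Prime]
    (P : Sylow p G) (hP1 : (P : Subgroup G) ≠ ⊥) (hPn : (P : Subgroup G).Normal) :
    ∃ K E : Subgroup G, K.Normal ∧ Subgroup.IsComplement' K E ∧ Cfsg.IsFrobeniusComplement E ∧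
      (IsCyclic E ∨ ∃ C Q : Subgroup G, C ⊔ Q = E ∧ (∀ a ∈ C, ∀ b ∈ Q, a * b = b * a) ∧
        IsCyclic C ∧ Odd (Nat.card C) ∧ ∃ n : ℕ, Nonempty (↥Q ≃* QuaternionGroup (2 ^ n))) := by
  obtain ⟨hK1, hKtop, ⟨E, hc, hfrob, hfpf⟩, -⟩ := Cfsg.Agent.S1474.result hCN hnn p P hP1 hPn
  have hE1 : E ≠ ⊥ := hfrob.1
  obtain ⟨z, hzE, hz1, hzc⟩ := exists_central_of_fpf (Cfsg.fittingHall G) E hK1 hE1 hfpf
  haveI hEnil : Group.IsNilpotent E := nilpotent_of_central_elt hCN E hz1 hzc
  have hS := structure_lemma (E := ↥E)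
    (fun r _ R => Cfsg.Agent.S0040.result (Cfsg.fittingHall G) E hc hK1 hfpf r R)
  refine ⟨Cfsg.fittingHall G, E, inferInstance, hc, hfrob, ?_⟩
  rcases hS with hcyc | ⟨C0, Q0, hsup, hcomm, hC0c, hC0odd, n, ⟨e⟩⟩
  · left; exact hcyc
  · right
    refine ⟨C0.map E.subtype, Q0.map E.subtype, ?_, ?_, ?_, ?_, n, ?_⟩
    · rw [← Subgroup.map_sup, hsup, ← MonoidHom.range_eq_map, Subgroup.range_subtype]
    · rintro _ ⟨a, ha, rfl⟩ _ ⟨b, hb, rfl⟩
      exact congrArg Subtype.val (hcomm a ha b hb)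
    · exact (MulEquiv.isCyclic (C0.equivMapOfInjective E.subtype E.subtype_injective)).1 hC0c
    · rw [← Nat.card_congr (C0.equivMapOfInjective E.subtype E.subtype_injective).toEquiv]
      exact hC0odd
    · exact ⟨(Q0.equivMapOfInjective E.subtype E.subtype_injective).symm.trans e⟩

end BranchA

section Cores

variable {G : Type*} [Group G] [Finite G]

theorem orderOf_of_mem_pgroup {p : ℕ} [Fact p.Prime] {H : Subgroup G} (hH : IsPGroup p H) {x : G}
    (hx : x ∈ H) : ∃ k, orderOf x = p ^ k := by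
  obtain ⟨k, hk⟩ := (IsPGroup.iff_orderOf.1 hH) ⟨x, hx⟩
  exact ⟨k, by rw [← hk, Subgroup.orderOf_mk]⟩

theorem coprime_of_prime_pows {p q : ℕ} (hp : p.Prime) (hq : q.Prime) (hpq : p ≠ q) {a b : ℕ}
    (ha : ∃ k, a = p ^ k) (hb : ∃ k, b = q ^ k) : a.Coprime b := by
  obtain ⟨k, rfl⟩ := ha
  obtain ⟨l, rfl⟩ := hb
  exact Nat.Coprime.pow _ _ ((Nat.coprime_primes hp hq).2 hpq)

/-- A Sylow subgroup of `G` contained in a nilpotent normal subgroup is normal in `G`. -/
theorem sylow_normal_of_le_nilpotent_normal {p : ℕ} [Fact p.Prime] (P : Sylow p G)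
    (D : Subgroup G) [D.Normal] (hD : Group.IsNilpotent D) (hPD : (P : Subgroup G) ≤ D) :
    (P : Subgroup G).Normal := by
  haveI := hD
  have h1 : ((P.subtype hPD : Sylow p D) : Subgroup D).Normal := inferInstance
  haveI := Sylow.characteristic_of_normal (P.subtype hPD) h1
  have h2 : (((P.subtype hPD : Sylow p D) : Subgroup D).map D.subtype).Normal :=
    ConjAct.normal_of_characteristic_of_normal
  rw [Sylow.coe_subtype, Subgroup.map_subgroupOf_eq_of_le hPD] at h2
  exact h2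

theorem sylow_normal_of_two_cores (hCN : Cfsg.IsCNGroup G) {p q : ℕ} [hp : Fact p.Prime]
    [hq : Fact q.Prime] (hpq : p ≠ q) (hp1 : pCore p G ≠ ⊥) (hq1 : pCore q G ≠ ⊥)
    (P : Sylow p G) : (P : Subgroup G).Normal := by
  haveI hnp := Cfsg.Agent.helper1.pCore_normal (G := G) p
  haveI hnq := Cfsg.Agent.helper1.pCore_normal (G := G) q
  have hDn : (Subgroup.centralizer (pCore q G : Set G)).Normal := inferInstance
  obtain ⟨w, hw, hw1⟩ := (Subgroup.bot_or_exists_ne_one _).resolve_left hq1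
  have hDnil : Group.IsNilpotent (Subgroup.centralizer (pCore q G : Set G)) := by
    apply nilpotent_of_central_elt hCN _ hw1
    intro d hd
    exact ((Subgroup.mem_centralizer_iff.1 hd) w hw).symm
  have hdisj : pCore p G ⊓ pCore q G = ⊥ :=
    (IsPGroup.disjoint_of_ne p q hpq _ _ (Cfsg.Agent.helper1.pCore_isPGroup p)
      (Cfsg.Agent.helper1.pCore_isPGroup q)).eq_bot
  apply sylow_normal_of_le_nilpotent_normal P _ hDnil
  intro x hx
  obtain ⟨k, hk⟩ := orderOf_of_mem_pgroup P.isPGroup' hx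
  obtain ⟨S, b, hbN, hb1, hxS, hSb⟩ := Cfsg.Agent.helper8.CN.exists_sylow_central p (pCore p G)
    (Cfsg.Agent.helper1.pCore_isPGroup p) hp1 x k (by rw [← hk]; exact pow_orderOf_eq_one x)
  rw [Subgroup.mem_centralizer_iff]
  intro f hf
  have hfb : f * b = b * f := by
    have h1 : f * b * f⁻¹ * b⁻¹ ∈ pCore p G ⊓ pCore q G := by
      refine Subgroup.mem_inf.2 ⟨?_, ?_⟩
      · exact (pCore p G).mul_mem (hnp.conj_mem b hbN f) ((pCore p G).inv_mem hbN)
      · have h2 : f * b * f⁻¹ * b⁻¹ = f * (b * f⁻¹ * b⁻¹) := by group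
        rw [h2]
        exact (pCore q G).mul_mem hf (hnq.conj_mem f⁻¹ ((pCore q G).inv_mem hf) b)
    rw [hdisj, Subgroup.mem_bot] at h1
    have h3 : f * b = (f * b * f⁻¹ * b⁻¹) * (b * f) := by group
    rw [h3, h1, one_mul]
  have hxb : x * b = b * x := hSb x hxS
  exact comm_of_cn hCN hb1 hfb hxb (coprime_of_prime_pows hq.out hp.out hpq.symm
    (orderOf_of_mem_pgroup (Cfsg.Agent.helper1.pCore_isPGroup q) hf) ⟨k, hk⟩)

end Cores

section CaseII

variable {G : Type*} [Group G] [Finite G]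

theorem eq_one_of_ppow_of_coprime {p : ℕ} {a : G} (h1 : ∃ k, orderOf a = p ^ k)
    (h2 : (orderOf a).Coprime p) : a = 1 := by
  obtain ⟨k, hk⟩ := h1
  have h3 : (orderOf a).Coprime (p ^ k) := Nat.Coprime.pow_right k h2
  have h4 : orderOf a = 1 := Nat.Coprime.eq_one_of_dvd h3 (by rw [hk])
  exact orderOf_eq_one_iff.1 h4

/-- No non-identity element of order prime to `p` centralizes a non-identity element of
`O_p(G)`, when `O_p(G)` contains its centralizer. -/
theorem fpf_core (hCN : Cfsg.IsCNGroup G) {p : ℕ} [hp : Fact p.Prime] (hH1 : pCore p G ≠ ⊥)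
    (hC : Subgroup.centralizer (pCore p G : Set G) ≤ pCore p G)
    {a : G} (ha : (orderOf a).Coprime p) (ha1 : a ≠ 1) :
    pCore p G ⊓ Subgroup.centralizer {a} = ⊥ := by
  haveI hnp := Cfsg.Agent.helper1.pCore_normal (G := G) p
  have hHp := Cfsg.Agent.helper1.pCore_isPGroup (G := G) p
  by_contra hne
  obtain ⟨y0, hy0, hy01⟩ := (Subgroup.bot_or_exists_ne_one _).resolve_left hne
  obtain ⟨hy0H, hy0a⟩ := Subgroup.mem_inf.1 hy0
  rw [Subgroup.mem_centralizer_singleton_iff] at hy0a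
  obtain ⟨S, z0, hz0H, hz01, -, hSz⟩ := Cfsg.Agent.helper8.CN.exists_sylow_central p (pCore p G)
    hHp hH1 (1 : G) 0 (by simp)
  have hHS : pCore p G ≤ (S : Subgroup G) := Cfsg.Agent.helper1.pCore_le_sylow S
  have hcopH : ∀ h ∈ pCore p G, (orderOf a).Coprime (orderOf h) := by
    intro h hh
    obtain ⟨j, hj⟩ := orderOf_of_mem_pgroup hHp hh
    rw [hj]; exact Nat.Coprime.pow_right j ha
  have h1 : a * z0 = z0 * a :=
    comm_of_cn hCN hy01 hy0a.symm (hSz y0 (hHS hy0H)).symm (hcopH z0 hz0H)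
  have h2 : a ∈ Subgroup.centralizer (pCore p G : Set G) := by
    rw [Subgroup.mem_centralizer_iff]
    intro h hh
    exact (comm_of_cn hCN hz01 h1 (hSz h (hHS hh)) (hcopH h hh)).symm
  exact ha1 (eq_one_of_ppow_of_coprime (orderOf_of_mem_pgroup hHp (hC h2)) ha)

/-- A non-identity `p`-element never commutes with a non-identity `p'`-element. -/
theorem no_comm_p_pprime (hCN : Cfsg.IsCNGroup G) {p : ℕ} [hp : Fact p.Prime]
    (hH1 : pCore p G ≠ ⊥) (hC : Subgroup.centralizer (pCore p G : Set G) ≤ pCore p G)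
    {u b : G} (hu : ∃ k, orderOf u = p ^ k) (hu1 : u ≠ 1) (hb : (orderOf b).Coprime p)
    (hb1 : b ≠ 1) : u * b ≠ b * u := by
  haveI hnp := Cfsg.Agent.helper1.pCore_normal (G := G) p
  have hHp := Cfsg.Agent.helper1.pCore_isPGroup (G := G) p
  intro hub
  obtain ⟨k, hk⟩ := hu
  obtain ⟨S, z, hzH, hz1, huS, hSz⟩ := Cfsg.Agent.helper8.CN.exists_sylow_central p (pCore p G)
    hHp hH1 u k (by rw [← hk]; exact pow_orderOf_eq_one u)
  have hzu : z * u = u * z := (hSz u huS).symm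
  obtain ⟨j, hj⟩ := orderOf_of_mem_pgroup hHp hzH
  have hzb : z * b = b * z :=
    comm_of_cn hCN hu1 hzu hub.symm (by rw [hj]; exact (Nat.Coprime.pow_right j hb).symm)
  have h1 : z ∈ pCore p G ⊓ Subgroup.centralizer {b} := by
    refine Subgroup.mem_inf.2 ⟨hzH, ?_⟩
    rw [Subgroup.mem_centralizer_singleton_iff]; exact hzb
  rw [fpf_core hCN hH1 hC hb hb1, Subgroup.mem_bot] at h1
  exact hz1 h1

end CaseII

section Frattini

variable {G : Type*} [Group G] [Finite G]

theorem mem_normalizer_of_forall_conj_mem (B : Subgroup G) (n : G)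
    (h : ∀ b ∈ B, n * b * n⁻¹ ∈ B) : n ∈ Subgroup.normalizer (B : Set G) := by
  have hle : B.map (MulAut.conj n).toMonoidHom ≤ B := by
    rintro _ ⟨b, hb, rfl⟩
    exact h b hb
  have hcard : Nat.card (B.map (MulAut.conj n).toMonoidHom) = Nat.card B :=
    Subgroup.card_map_of_injective (MulAut.conj n).injective
  have heq := Subgroup.eq_of_le_of_card_ge hle (by rw [hcard])
  rw [Subgroup.mem_normalizer_iff]
  intro x
  constructor
  · exact h x
  · intro hx
    rw [← heq] at hx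
    obtain ⟨b, hb, hbx⟩ := hx
    have h1 : n * b * n⁻¹ = n * x * n⁻¹ := hbx
    have h2 : b = x := by simpa using h1
    exact h2 ▸ hb

/-- In a finite solvable group with `O_p(G) ≠ G` there is a nontrivial abelian `p'`-subgroup `B`
with `G = O_p(G) N_G(B)`. -/
theorem exists_abelian_pprime_frattini [Group.IsSolvable G] {p : ℕ} [hp : Fact p.Prime]
    (hHtop : pCore p G ≠ ⊤) :
    ∃ B : Subgroup G, B ≠ ⊥ ∧ (Nat.card B).Coprime p ∧ (∀ a ∈ B, ∀ b ∈ B, a * b = b * a) ∧
      ∀ g : G, ∃ h ∈ pCore p G, ∃ n ∈ Subgroup.normalizer (B : Set G), g = h * n := by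
  classical
  haveI hnp := Cfsg.Agent.helper1.pCore_normal (G := G) p
  have hHp := Cfsg.Agent.helper1.pCore_isPGroup (G := G) p
  have hex : ∃ n, derivedSeries G n ≤ pCore p G := by
    obtain ⟨n, hn⟩ := (Group.isSolvable_def G).1 inferInstance
    exact ⟨n, by rw [hn]; exact bot_le⟩
  have h0 : Nat.find hex ≠ 0 := by
    intro h
    have := Nat.find_spec hex
    rw [h, derivedSeries_zero, top_le_iff] at this
    exact hHtop this
  obtain ⟨j, hj⟩ := Nat.exists_eq_succ_of_ne_zero h0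
  have hXH' : ¬ derivedSeries G j ≤ pCore p G := Nat.find_min hex (by omega)
  have hXX' : ⁅derivedSeries G j, derivedSeries G j⁆ ≤ pCore p G := by
    have := Nat.find_spec hex
    rw [hj] at this
    exact this
  obtain ⟨X, hX⟩ : ∃ X : Subgroup G, X = derivedSeries G j := ⟨_, rfl⟩
  rw [← hX] at hXH' hXX'
  haveI hXn : X.Normal := by rw [hX]; exact derivedSeries_normal G j
  have hcomm : ∀ x ∈ X, ∀ y ∈ X, x * y * x⁻¹ * y⁻¹ ∈ pCore p G := fun x hx y hy =>
    hXX' (Subgroup.commutator_mem_commutator hx hy)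
  obtain ⟨P⟩ : Nonempty (Sylow p ↥X) := inferInstance
  have hHXP : (pCore p G).subgroupOf X ≤ (P : Subgroup ↥X) :=
    IsPGroup.le_sylow_of_normal hHp.comap_subtype P
  have hPn : (P : Subgroup ↥X).Normal := by
    constructor
    intro x hx k
    have h1 : k * x * k⁻¹ * x⁻¹ ∈ (pCore p G).subgroupOf X := by
      rw [Subgroup.mem_subgroupOf]
      exact hcomm k k.2 x x.2
    have h2 : k * x * k⁻¹ = (k * x * k⁻¹ * x⁻¹) * x := by group
    rw [h2]
    exact (P : Subgroup ↥X).mul_mem (hHXP h1) hx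
  haveI := Sylow.characteristic_of_normal P hPn
  have hPmapn : ((P : Subgroup ↥X).map X.subtype).Normal :=
    ConjAct.normal_of_characteristic_of_normal
  have hPmapH : (P : Subgroup ↥X).map X.subtype ≤ pCore p G :=
    Cfsg.Agent.helper1.le_pCore hPmapn (P.isPGroup'.map X.subtype)
  have hPH : ∀ x : ↥X, x ∈ (P : Subgroup ↥X) → (x : G) ∈ pCore p G :=
    fun x hx => hPmapH ⟨x, hx, rfl⟩
  have hcardX : Nat.card ↥X = (P : Subgroup ↥X).index * Nat.card P := by
    rw [mul_comm]; exact (Subgroup.card_mul_index _).symm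
  have hcop : ((P : Subgroup ↥X).index).Coprime (Nat.card P) := P.card_coprime_index.symm
  obtain ⟨B', hB'⟩ := Cfsg.Agent.helper23.hall_exists _ _ hcardX hcop
  have hidxp : ((P : Subgroup ↥X).index).Coprime p :=
    ((Nat.Prime.coprime_iff_not_dvd hp.out).2 P.not_dvd_index).symm
  have hm1 : (P : Subgroup ↥X).index ≠ 1 := by
    intro h
    rw [Subgroup.index_eq_one] at h
    apply hXH'
    intro x hx
    exact hPH ⟨x, hx⟩ (by rw [h]; exact Subgroup.mem_top _)
  have hcardB : Nat.card (B'.map X.subtype) = (P : Subgroup ↥X).index := by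
    rw [Subgroup.card_map_of_injective X.subtype_injective, hB']
  have hBX : B'.map X.subtype ≤ X := by
    rintro _ ⟨b, -, rfl⟩
    exact b.2
  have hHB : pCore p G ⊓ B'.map X.subtype = ⊥ := by
    apply Disjoint.eq_bot
    apply Subgroup.disjoint_of_coprime_natCard
    obtain ⟨k, hk⟩ := IsPGroup.iff_card.1 hHp
    rw [hk, hcardB]
    exact Nat.Coprime.pow_left k hidxp.symm
  refine ⟨B'.map X.subtype, ?_, ?_, ?_, ?_⟩
  · intro h
    rw [← Subgroup.card_eq_one, hcardB] at h
    exact hm1 h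
  · rw [hcardB]; exact hidxp
  · intro a ha b hb
    have h1 : a * b * a⁻¹ * b⁻¹ ∈ pCore p G ⊓ B'.map X.subtype := by
      refine Subgroup.mem_inf.2 ⟨hcomm a (hBX ha) b (hBX hb), ?_⟩
      exact Subgroup.mul_mem _ (Subgroup.mul_mem _ (Subgroup.mul_mem _ ha hb)
        (Subgroup.inv_mem _ ha)) (Subgroup.inv_mem _ hb)
    rw [hHB, Subgroup.mem_bot] at h1
    have h3 : a * b = (a * b * a⁻¹ * b⁻¹) * (b * a) := by group
    rw [h3, h1, one_mul]
  · intro g
    have hKX : (B'.map X.subtype).map (MulAut.conj g).toMonoidHom ≤ X := by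
      rintro _ ⟨b, hb, rfl⟩
      exact hXn.conj_mem b (hBX hb) g
    have hcardK : Nat.card (((B'.map X.subtype).map (MulAut.conj g).toMonoidHom).subgroupOf X) =
        (P : Subgroup ↥X).index := by
      rw [Nat.card_congr (Subgroup.subgroupOfEquivOfLe hKX).toEquiv,
        Subgroup.card_map_of_injective (MulAut.conj g).injective, hcardB]
    obtain ⟨x, hx⟩ := Cfsg.Agent.helper23.hall_conj _ _ hcardX hcop B' _ hB' hcardK
    have hn : (x : G)⁻¹ * g ∈ Subgroup.normalizer ((B'.map X.subtype : Subgroup G) : Set G) := by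
      apply mem_normalizer_of_forall_conj_mem
      intro b hb
      have h1 : (⟨g * b * g⁻¹, hKX ⟨b, hb, rfl⟩⟩ : ↥X) ∈
          ((B'.map X.subtype).map (MulAut.conj g).toMonoidHom).subgroupOf X :=
        Subgroup.mem_subgroupOf.2 ⟨b, hb, rfl⟩
      rw [← hx, Cfsg.Agent.helper3.mem_conj_smul_iff] at h1
      have h2 : (x : G)⁻¹ * g * b * ((x : G)⁻¹ * g)⁻¹ = (x : G)⁻¹ * (g * b * g⁻¹) * (x : G) := by
        group
      rw [h2]
      exact ⟨_, h1, rfl⟩
    have hc : Subgroup.IsComplement' (P : Subgroup ↥X) B' := by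
      apply Subgroup.isComplement'_of_coprime
      · rw [hB', hcardX, mul_comm]
      · rw [hB']; exact hcop.symm
    obtain ⟨⟨h', b'⟩, hy, -⟩ := (Subgroup.isComplement_iff_existsUnique.1 hc) x
    refine ⟨(h' : ↥X), hPH _ h'.2, (b' : ↥X) * ((x : G)⁻¹ * g), ?_, ?_⟩
    · exact Subgroup.mul_mem _ (Subgroup.le_normalizer ⟨_, b'.2, rfl⟩) hn
    · have h3 : (x : G) = ((h' : ↥X) : G) * ((b' : ↥X) : G) := by
        rw [← hy]; rfl
      rw [← mul_assoc, ← mul_assoc, ← h3]
      group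

end Frattini

section Normalizer

variable {G : Type*} [Group G]

theorem conj_inv_mem_of_mem_normalizer {B : Subgroup G} {n b : G}
    (hn : n ∈ Subgroup.normalizer (B : Set G)) (hb : b ∈ B) : n⁻¹ * b * n ∈ B :=
  (Subgroup.mem_normalizer_iff''.1 hn b).1 hb

theorem conj_mem_of_mem_normalizer {B : Subgroup G} {n b : G}
    (hn : n ∈ Subgroup.normalizer (B : Set G)) (hb : b ∈ B) : n * b * n⁻¹ ∈ B :=
  (Subgroup.mem_normalizer_iff.1 hn b).1 hb

/-- the normalizer of a subgroup normalizes its centralizer -/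
theorem conj_mem_centralizer {B : Subgroup G} {n d : G}
    (hn : n ∈ Subgroup.normalizer (B : Set G)) (hd : d ∈ Subgroup.centralizer (B : Set G)) :
    n * d * n⁻¹ ∈ Subgroup.centralizer (B : Set G) := by
  rw [Subgroup.mem_centralizer_iff] at hd ⊢
  intro b hb
  have h1 := hd (n⁻¹ * b * n) (conj_inv_mem_of_mem_normalizer hn hb)
  have h2 : b * (n * d * n⁻¹) = n * ((n⁻¹ * b * n) * d) * n⁻¹ := by group
  rw [h2, h1]
  group

/-- elements of the normalizer of a cyclic subgroup act on it by power maps -/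
theorem exists_zpow_of_mem_normalizer {B : Subgroup G} [IsCyclic B] {n : G}
    (hn : n ∈ Subgroup.normalizer (B : Set G)) : ∃ i : ℤ, ∀ b ∈ B, n * b * n⁻¹ = b ^ i := by
  obtain ⟨b0, hb0⟩ := IsCyclic.exists_generator (α := ↥B)
  obtain ⟨i, hi⟩ := Subgroup.mem_zpowers_iff.1
    (hb0 ⟨n * (b0 : G) * n⁻¹, conj_mem_of_mem_normalizer hn b0.2⟩)
  have hi' : (b0 : G) ^ i = n * (b0 : G) * n⁻¹ := by
    have := congrArg Subtype.val hi
    simpa using this
  refine ⟨i, ?_⟩
  intro b hb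
  obtain ⟨k, hk⟩ := Subgroup.mem_zpowers_iff.1 (hb0 ⟨b, hb⟩)
  have hk' : (b0 : G) ^ k = b := by
    have := congrArg Subtype.val hk
    simpa using this
  rw [← hk', ← conj_zpow, ← hi', ← zpow_mul, ← zpow_mul, mul_comm]

/-- commutators of elements normalizing a cyclic subgroup centralize it -/
theorem commutator_mem_centralizer_of_cyclic {B : Subgroup G} [IsCyclic B] {n m : G}
    (hn : n ∈ Subgroup.normalizer (B : Set G)) (hm : m ∈ Subgroup.normalizer (B : Set G)) :
    n * m * n⁻¹ * m⁻¹ ∈ Subgroup.centralizer (B : Set G) := by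
  obtain ⟨i, hi⟩ := exists_zpow_of_mem_normalizer hn
  obtain ⟨j, hj⟩ := exists_zpow_of_mem_normalizer hm
  rw [Subgroup.mem_centralizer_iff]
  intro b hb
  have hmn : m * n ∈ Subgroup.normalizer (B : Set G) := Subgroup.mul_mem _ hm hn
  have hb1 : (m * n)⁻¹ * b * (m * n) ∈ B := conj_inv_mem_of_mem_normalizer hmn hb
  set b1 := (m * n)⁻¹ * b * (m * n) with hb1def
  have e1 : b = m * (n * b1 * n⁻¹) * m⁻¹ := by rw [hb1def]; group
  have e2 : (n * m * n⁻¹ * m⁻¹) * b * (n * m * n⁻¹ * m⁻¹)⁻¹ = n * (m * b1 * m⁻¹) * n⁻¹ := by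
    rw [hb1def]; group
  have e3 : b = (b1 ^ i) ^ j := by
    rw [e1, hi b1 hb1, hj (b1 ^ i) (Subgroup.zpow_mem _ hb1 i)]
  have e4 : (n * m * n⁻¹ * m⁻¹) * b * (n * m * n⁻¹ * m⁻¹)⁻¹ = (b1 ^ j) ^ i := by
    rw [e2, hj b1 hb1, hi (b1 ^ j) (Subgroup.zpow_mem _ hb1 j)]
  have e5 : (n * m * n⁻¹ * m⁻¹) * b * (n * m * n⁻¹ * m⁻¹)⁻¹ = b := by
    rw [e4, e3, ← zpow_mul, ← zpow_mul, mul_comm]
  calc b * (n * m * n⁻¹ * m⁻¹)
      = ((n * m * n⁻¹ * m⁻¹) * b * (n * m * n⁻¹ * m⁻¹)⁻¹) * (n * m * n⁻¹ * m⁻¹) := by rw [e5]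
    _ = (n * m * n⁻¹ * m⁻¹) * b := by group

end Normalizer

section HallNormal

variable {N : Type*} [Group N] [Finite N] [Group.IsSolvable N]

/-- If a finite solvable group has a normal `p'`-subgroup containing all commutators then it has a
normal Hall `p'`-subgroup containing it. -/
theorem exists_normal_hall {p : ℕ} [hp : Fact p.Prime] (D : Subgroup N) [D.Normal]
    (hD : (Nat.card D).Coprime p) (hcomm : ∀ n m : N, n * m * n⁻¹ * m⁻¹ ∈ D) :
    ∃ A : Subgroup N, A.Normal ∧ D ≤ A ∧ (Nat.card A).Coprime p ∧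
      ∃ b : ℕ, A.index = p ^ b := by
  obtain ⟨P⟩ : Nonempty (Sylow p N) := inferInstance
  have hcardN : Nat.card N = (P : Subgroup N).index * Nat.card P := by
    rw [mul_comm]; exact (Subgroup.card_mul_index _).symm
  have hcop : ((P : Subgroup N).index).Coprime (Nat.card P) := P.card_coprime_index.symm
  obtain ⟨A, hA⟩ := Cfsg.Agent.helper23.hall_exists _ _ hcardN hcop
  have hidxp : ((P : Subgroup N).index).Coprime p :=
    ((Nat.Prime.coprime_iff_not_dvd hp.out).2 P.not_dvd_index).symm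
  obtain ⟨b, hb⟩ := IsPGroup.iff_card.1 P.isPGroup'
  have hAp : (Nat.card A).Coprime p := by rw [hA]; exact hidxp
  have hsup : (Nat.card (D ⊔ A : Subgroup N)).Coprime p :=
    Cfsg.Agent.helper1.coprime_card_sup D A hD hAp
  have hdvd : Nat.card (D ⊔ A : Subgroup N) ∣ (P : Subgroup N).index := by
    have h1 : Nat.card (D ⊔ A : Subgroup N) ∣ (P : Subgroup N).index * Nat.card P := by
      rw [← hcardN]; exact Subgroup.card_subgroup_dvd_card _
    refine Nat.Coprime.dvd_of_dvd_mul_right ?_ h1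
    rw [hb]; exact Nat.Coprime.pow_right b hsup
  have heq : A = D ⊔ A := by
    apply Subgroup.eq_of_le_of_card_ge le_sup_right
    rw [hA]
    exact Nat.le_of_dvd (Nat.pos_of_ne_zero Subgroup.index_ne_zero_of_finite) hdvd
  have hDA : D ≤ A := by rw [heq]; exact le_sup_left
  refine ⟨A, ?_, hDA, hAp, b, ?_⟩
  · constructor
    intro a ha n
    have h2 : n * a * n⁻¹ = (n * a * n⁻¹ * a⁻¹) * a := by group
    rw [h2]
    exact A.mul_mem (hDA (hcomm n a)) ha
  · have h1 := Subgroup.card_mul_index A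
    rw [hA, hcardN, hb] at h1
    exact Nat.eq_of_mul_eq_mul_left (Nat.pos_of_ne_zero Subgroup.index_ne_zero_of_finite) h1

end HallNormal

section ThreeStep

variable {G : Type*} [Group G] [Finite G]

theorem orderOf_conj_eq (g s : G) : orderOf (g * s * g⁻¹) = orderOf s :=
  orderOf_injective (MulAut.conj g).toMonoidHom (MulAut.conj g).injective s

theorem isCyclic_sylow_two_of_odd {E : Type*} [Group E] [Finite E] (hodd : Odd (Nat.card E))
    [Fact (Nat.Prime 2)] (R : Sylow 2 E) : IsCyclic R := by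
  obtain ⟨k, hk⟩ := IsPGroup.iff_card.1 R.isPGroup'
  have hdvd : Nat.card R ∣ Nat.card E := Subgroup.card_subgroup_dvd_card _
  have hk0 : k = 0 := by
    by_contra hk0
    have : 2 ∣ Nat.card E := dvd_trans (by rw [hk]; exact dvd_pow_self 2 hk0) hdvd
    rw [← even_iff_two_dvd, ← Nat.not_odd_iff_even] at this
    exact this hodd
  rw [hk0, pow_zero] at hk
  haveI : Subsingleton ↥(R : Subgroup E) := (Nat.card_eq_one_iff_unique.1 hk).1
  exact isCyclic_of_subsingleton

theorem three_step (hCN : Cfsg.IsCNGroup G) [Group.IsSolvable G] {p : ℕ} [hp : Fact p.Prime]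
    (hH1 : pCore p G ≠ ⊥) (hC : Subgroup.centralizer (pCore p G : Set G) ≤ pCore p G)
    (hidx : p ∣ (pCore p G).index) : Cfsg.IsThreeStepGroup p G := by
  haveI hnp := Cfsg.Agent.helper1.pCore_normal (G := G) p
  have hHp := Cfsg.Agent.helper1.pCore_isPGroup (G := G) p
  have hHtop : pCore p G ≠ ⊤ := by
    intro h
    rw [h, Subgroup.index_top] at hidx
    exact hp.out.one_lt.ne' (Nat.dvd_one.1 hidx)
  obtain ⟨B, hB1, hBcop, hBab, hfrat⟩ := exists_abelian_pprime_frattini (G := G) (p := p) hHtop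
  have hcopB : ∀ b ∈ B, (orderOf b).Coprime p := fun b hb =>
    Nat.Coprime.coprime_dvd_left (Subgroup.orderOf_dvd_natCard B hb) hBcop
  have hfpfB : ∀ b ∈ B, b ≠ 1 → pCore p G ⊓ Subgroup.centralizer {b} = ⊥ := fun b hb hb1 =>
    fpf_core hCN hH1 hC (hcopB b hb) hb1
  haveI hBcomm : IsMulCommutative B := ⟨⟨fun a b => Subtype.ext (hBab a a.2 b b.2)⟩⟩
  haveI hBcyc : IsCyclic B := by
    haveI : Nontrivial ↥(pCore p G) := (Subgroup.nontrivial_iff_ne_bot _).2 hH1
    have hZ : Subgroup.center ↥(pCore p G) ≠ ⊥ :=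
      (Subgroup.nontrivial_iff_ne_bot _).1 hHp.center_nontrivial
    haveI hVn : ((Subgroup.center ↥(pCore p G)).map (pCore p G).subtype).Normal :=
      ConjAct.normal_of_characteristic_of_normal
    apply Cfsg.Agent.S0041.result B ((Subgroup.center ↥(pCore p G)).map (pCore p G).subtype)
    · rw [Ne, Subgroup.map_eq_bot_iff_of_injective _ (Subgroup.subtype_injective _)]; exact hZ
    · exact Subgroup.le_normalizer_of_normal
    · intro a ha ha1
      rw [eq_bot_iff, ← hfpfB a ha ha1]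
      exact inf_le_inf_right _ (Subgroup.map_subtype_le _)
    · exact Or.inl hBcomm
  obtain ⟨b0, hb0B, hb01⟩ := (Subgroup.bot_or_exists_ne_one _).resolve_left hB1
  have hHB : pCore p G ⊓ B = ⊥ := inf_eq_bot_of_fpf _ _ hfpfB
  have hHN : pCore p G ⊓ Subgroup.normalizer (B : Set G) = ⊥ := by
    rw [Subgroup.eq_bot_iff_forall]
    intro h hh
    obtain ⟨hhH, hhN⟩ := Subgroup.mem_inf.1 hh
    have h1 : h * b0 * h⁻¹ * b0⁻¹ ∈ pCore p G ⊓ B := by
      refine Subgroup.mem_inf.2 ⟨?_, ?_⟩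
      · have h2 : h * b0 * h⁻¹ * b0⁻¹ = h * (b0 * h⁻¹ * b0⁻¹) := by group
        rw [h2]
        exact Subgroup.mul_mem _ hhH (hnp.conj_mem _ (Subgroup.inv_mem _ hhH) b0)
      · exact Subgroup.mul_mem _ (conj_mem_of_mem_normalizer hhN hb0B) (Subgroup.inv_mem _ hb0B)
    rw [hHB, Subgroup.mem_bot] at h1
    have h3 : h * b0 = b0 * h := by
      have h4 : h * b0 = (h * b0 * h⁻¹ * b0⁻¹) * (b0 * h) := by group
      rw [h4, h1, one_mul]
    have h5 : h ∈ pCore p G ⊓ Subgroup.centralizer {b0} := by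
      refine Subgroup.mem_inf.2 ⟨hhH, ?_⟩
      rw [Subgroup.mem_centralizer_singleton_iff]; exact h3
    rw [hfpfB b0 hb0B hb01, Subgroup.mem_bot] at h5
    exact h5
  have hDcop : (Nat.card (Subgroup.centralizer (B : Set G))).Coprime p := by
    rw [Nat.coprime_comm, Nat.Prime.coprime_iff_not_dvd hp.out]
    intro hdvd
    obtain ⟨u, hu⟩ := exists_prime_orderOf_dvd_card' p hdvd
    have hu1 : (u : G) ≠ 1 := by
      intro h
      have : u = 1 := Subtype.ext h
      rw [this, orderOf_one] at hu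
      exact hp.out.one_lt.ne hu
    have hub : b0 * (u : G) = (u : G) * b0 := (Subgroup.mem_centralizer_iff.1 u.2) b0 hb0B
    exact no_comm_p_pprime hCN hH1 hC ⟨1, by rw [pow_one, Subgroup.orderOf_coe, hu]⟩ hu1
      (hcopB b0 hb0B) hb01 hub.symm
  obtain ⟨N2, hN2⟩ : ∃ N2 : Subgroup G, N2 = Subgroup.normalizer (B : Set G) := ⟨_, rfl⟩
  rw [← hN2] at hHN
  have hfrat' : ∀ g : G, ∃ h ∈ pCore p G, ∃ n ∈ N2, g = h * n := by rw [hN2]; exact hfrat
  have hN2mem : ∀ n ∈ N2, n ∈ Subgroup.normalizer (B : Set G) := by rw [hN2]; exact fun n hn => hn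
  have hDN : Subgroup.centralizer (B : Set G) ≤ N2 := by
    rw [hN2]; exact Subgroup.centralizer_le_normalizer _
  haveI hD'n : ((Subgroup.centralizer (B : Set G)).subgroupOf N2).Normal := by
    constructor
    intro d hd n
    rw [Subgroup.mem_subgroupOf] at hd ⊢
    exact conj_mem_centralizer (hN2mem _ n.2) hd
  have hD'cop : (Nat.card ((Subgroup.centralizer (B : Set G)).subgroupOf N2)).Coprime p := by
    rw [Nat.card_congr (Subgroup.subgroupOfEquivOfLe hDN).toEquiv]; exact hDcop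
  obtain ⟨A1, hA1n, hDA1, hA1cop, bb, hA1idx⟩ := exists_normal_hall (p := p)
    ((Subgroup.centralizer (B : Set G)).subgroupOf N2) hD'cop
    (fun n m => by
      rw [Subgroup.mem_subgroupOf]
      exact commutator_mem_centralizer_of_cyclic (hN2mem _ n.2) (hN2mem _ m.2))
  obtain ⟨A, hAdef⟩ : ∃ A : Subgroup G, A = A1.map N2.subtype := ⟨_, rfl⟩
  have hAN : A ≤ N2 := by rw [hAdef]; exact Subgroup.map_subtype_le _
  have hcardA : Nat.card A = Nat.card A1 := by
    rw [hAdef]; exact Subgroup.card_map_of_injective N2.subtype_injective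
  have hAcop : (Nat.card A).Coprime p := by rw [hcardA]; exact hA1cop
  have hmemA : ∀ n : ↥N2, (n : G) ∈ A ↔ n ∈ A1 := by
    intro n
    rw [hAdef]
    constructor
    · rintro ⟨m, hm, hmn⟩
      have : m = n := Subtype.ext hmn
      exact this ▸ hm
    · intro h; exact ⟨n, h, rfl⟩
  have hDA : Subgroup.centralizer (B : Set G) ≤ A := by
    intro d hd
    exact (hmemA ⟨d, hDN hd⟩).2 (hDA1 (Subgroup.mem_subgroupOf.2 hd))
  have hBA : B ≤ A := by
    intro b hb
    apply hDA
    rw [Subgroup.mem_centralizer_iff]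
    intro c hc
    exact hBab c hc b hb
  have hA1 : A ≠ ⊥ := by
    intro h
    apply hB1
    rw [eq_bot_iff, ← h]; exact hBA
  have hAconj : ∀ n ∈ N2, ∀ a ∈ A, n * a * n⁻¹ ∈ A := by
    intro n hn a ha
    have h1 := (hmemA ⟨a, hAN ha⟩).1 ha
    have h2 := hA1n.conj_mem _ h1 ⟨n, hn⟩
    exact (hmemA _).2 h2
  have hcopA : ∀ a ∈ A, (orderOf a).Coprime p := fun a ha =>
    Nat.Coprime.coprime_dvd_left (Subgroup.orderOf_dvd_natCard A ha) hAcop
  have hfpfA : ∀ a ∈ A, a ≠ 1 → pCore p G ⊓ Subgroup.centralizer {a} = ⊥ := fun a ha ha1 =>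
    fpf_core hCN hH1 hC (hcopA a ha) ha1
  have hHA : pCore p G ⊓ A = ⊥ := inf_eq_bot_of_fpf _ _ hfpfA
  have hcompl : Subgroup.IsComplement' (pCore p G) N2 := by
    apply Subgroup.isComplement'_of_disjoint_and_mul_eq_univ
    · rw [disjoint_iff]; exact hHN
    · apply Set.eq_univ_of_forall
      intro g
      obtain ⟨h, hh, n, hn, rfl⟩ := hfrat' g
      exact Set.mul_mem_mul hh hn
  have hcardG : Nat.card (pCore p G) * Nat.card N2 = Nat.card G := hcompl.card_mul_card
  have hidxN : (pCore p G).index = Nat.card N2 := hcompl.symm.index_eq_card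
  have hpN : p ∣ Nat.card N2 := hidxN ▸ hidx
  have hcardN : Nat.card A * p ^ bb = Nat.card N2 := by
    rw [hcardA, ← hA1idx]; exact Subgroup.card_mul_index A1
  have hbb : bb ≠ 0 := by
    intro h
    rw [h, pow_zero, mul_one] at hcardN
    rw [← hcardN] at hpN
    exact hp.out.one_lt.ne' (Nat.Coprime.eq_one_of_dvd hAcop.symm hpN)
  have hAodd : Odd (Nat.card A) := by
    by_contra hne
    rw [Nat.not_odd_iff_even, even_iff_two_dvd] at hne
    obtain ⟨s, hsA, hs2, hsuniq⟩ := unique_involution_of_fpf (pCore p G) A hH1 hfpfA hne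
    obtain ⟨u, hu⟩ := exists_prime_orderOf_dvd_card' (G := ↥N2) p hpN
    have hu1 : (u : G) ≠ 1 := by
      intro h
      have : u = 1 := Subtype.ext h
      rw [this, orderOf_one] at hu
      exact hp.out.one_lt.ne hu
    have hs1 : s ≠ 1 := by
      intro h
      rw [h, orderOf_one] at hs2
      omega
    have h1 : (u : G) * s * (u : G)⁻¹ = s :=
      hsuniq _ (hAconj u u.2 s hsA) (by rw [orderOf_conj_eq]; exact hs2)
    have h2 : (u : G) * s = s * (u : G) := by
      calc (u : G) * s = ((u : G) * s * (u : G)⁻¹) * (u : G) := by group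
        _ = s * u := by rw [h1]
    exact no_comm_p_pprime hCN hH1 hC ⟨1, by rw [pow_one, Subgroup.orderOf_coe, hu]⟩ hu1
      (hcopA s hsA) hs1 h2
  obtain ⟨z, hzA, hz1, hzc⟩ := exists_central_of_fpf (pCore p G) A hH1 hA1 hfpfA
  haveI hAnil : Group.IsNilpotent A := nilpotent_of_central_elt hCN A hz1 hzc
  have hAcyc : IsCyclic A := by
    apply cyclic_of_sylow_cyclic
    intro r hr R
    by_cases hr2 : r = 2
    · subst hr2
      exact isCyclic_sylow_two_of_odd hAodd R
    · have hpg : IsPGroup r ↥((R : Subgroup A).map A.subtype) := R.isPGroup'.map A.subtype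
      have hfpfR : ∀ b ∈ (R : Subgroup A).map A.subtype, b ≠ 1 →
          pCore p G ⊓ Subgroup.centralizer {b} = ⊥ :=
        fun b hb => hfpfA b (Subgroup.map_subtype_le _ hb)
      rcases cyclic_or_quaternion_of_fpf (pCore p G) _ hH1 r hpg hfpfR with h | ⟨n, ⟨e⟩⟩
      · exact (MulEquiv.isCyclic
          ((R : Subgroup A).equivMapOfInjective A.subtype A.subtype_injective)).2 h
      · exact (not_quaternion_of_odd hr2 hpg n e).elim
  have hKn : (pCore p G ⊔ A).Normal := by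
    constructor
    intro x hx g
    have hx' : x ∈ ((pCore p G ⊔ A : Subgroup G) : Set G) := hx
    rw [Subgroup.normal_mul, Set.mem_mul] at hx'
    obtain ⟨h1, hh1, a1, ha1, rfl⟩ := hx'
    obtain ⟨h, hh, n, hn, rfl⟩ := hfrat' g
    have e : h * n * (h1 * a1) * (h * n)⁻¹ = (h * n * h1 * (h * n)⁻¹) *
        (h * (n * a1 * n⁻¹) * h⁻¹ * (n * a1 * n⁻¹)⁻¹) * (n * a1 * n⁻¹) := by group
    rw [e]
    have ha2 := hAconj n hn a1 ha1
    refine Subgroup.mul_mem _ (Subgroup.mul_mem _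
      (Subgroup.mem_sup_left (hnp.conj_mem h1 hh1 _)) (Subgroup.mem_sup_left ?_))
      (Subgroup.mem_sup_right ha2)
    have e2 : h * (n * a1 * n⁻¹) * h⁻¹ * (n * a1 * n⁻¹)⁻¹ =
        h * ((n * a1 * n⁻¹) * h⁻¹ * (n * a1 * n⁻¹)⁻¹) := by group
    rw [e2]
    exact Subgroup.mul_mem _ hh (hnp.conj_mem _ (Subgroup.inv_mem _ hh) _)
  have hcardK : Nat.card (pCore p G ⊔ A : Subgroup G) = Nat.card (pCore p G) * Nat.card A := by
    have h1 := Cfsg.Agent.helper23.card_sup_mul_card_inf A (pCore p G)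
    rw [hHA, Subgroup.card_bot, mul_one, sup_comm] at h1
    rw [h1, mul_comm]
  have hKidx : (pCore p G ⊔ A).index = p ^ bb := by
    have h1 := Subgroup.card_mul_index (pCore p G ⊔ A)
    rw [hcardK, ← hcardG, ← hcardN, ← mul_assoc] at h1
    have hpos : 0 < Nat.card (pCore p G) * Nat.card A := Nat.mul_pos Nat.card_pos Nat.card_pos
    exact Nat.eq_of_mul_eq_mul_left hpos h1
  have hKtop : pCore p G ⊔ A ≠ ⊤ := by
    intro h
    rw [h, Subgroup.index_top] at hKidx
    rcases (Nat.pow_eq_one.1 hKidx.symm) with h2 | h2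
    · exact hp.out.one_lt.ne' h2
    · exact hbb h2
  have hlast : ∀ x : G, x ∉ pCore p G ⊔ A → ∀ a ∈ A, a ≠ 1 →
      x * a * x⁻¹ * a⁻¹ ∉ pCore p G := by
    intro x hx a ha ha1 hmem
    obtain ⟨h, hh, n, hn, rfl⟩ := hfrat' x
    have hnA : n ∉ A := fun hnA =>
      hx (Subgroup.mul_mem _ (Subgroup.mem_sup_left hh) (Subgroup.mem_sup_right hnA))
    have h1 : n * a * n⁻¹ * a⁻¹ ∈ pCore p G ⊓ A := by
      refine Subgroup.mem_inf.2 ⟨?_, ?_⟩
      · have e : n * a * n⁻¹ * a⁻¹ =
            h⁻¹ * (h * n * a * (h * n)⁻¹ * a⁻¹) * (a * h * a⁻¹) := by group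
        rw [e]
        exact Subgroup.mul_mem _ (Subgroup.mul_mem _ (Subgroup.inv_mem _ hh) hmem)
          (hnp.conj_mem h hh a)
      · exact Subgroup.mul_mem _ (hAconj n hn a ha) (Subgroup.inv_mem _ ha)
    rw [hHA, Subgroup.mem_bot] at h1
    have hna : n * a = a * n := by
      have e : n * a = (n * a * n⁻¹ * a⁻¹) * (a * n) := by group
      rw [e, h1, one_mul]
    have hpowA : n ^ (p ^ bb) ∈ A := by
      have h2 := Subgroup.pow_index_mem A1 (⟨n, hn⟩ : ↥N2)
      rw [hA1idx] at h2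
      have h3 := (hmemA _).2 h2
      simpa using h3
    have hu_pow : (n ^ Nat.card A) ^ (p ^ bb) = 1 := by
      rw [← pow_mul, mul_comm, pow_mul]
      exact orderOf_dvd_iff_pow_eq_one.1 (Subgroup.orderOf_dvd_natCard A hpowA)
    by_cases hu1 : n ^ Nat.card A = 1
    · have hcop2 : (p ^ bb).Coprime (orderOf n) := by
        have : orderOf n ∣ Nat.card A := orderOf_dvd_of_pow_eq_one hu1
        exact Nat.Coprime.coprime_dvd_right this (Nat.Coprime.pow_left bb hAcop.symm)
      obtain ⟨k, hk⟩ := exists_pow_eq_self_of_coprime hcop2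
      apply hnA
      rw [← hk]
      exact Subgroup.pow_mem _ hpowA k
    · have huo : ∃ k, orderOf (n ^ Nat.card A) = p ^ k := by
        obtain ⟨k, -, hk⟩ := (Nat.dvd_prime_pow hp.out).1 (orderOf_dvd_of_pow_eq_one hu_pow)
        exact ⟨k, hk⟩
      have hcomm2 : n ^ Nat.card A * a = a * n ^ Nat.card A :=
        (Commute.pow_left (show Commute n a from hna) _).eq
      exact no_comm_p_pprime hCN hH1 hC huo hu1 (hcopA a ha) ha1 hcomm2
  exact ⟨hH1, A, hA1, hAcyc, hAodd, hAcop, hKn, hKtop, ⟨bb, hKidx⟩, hfpfA, hlast⟩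

end ThreeStep

/-- Let G be a finite solvable group in which every non-identity element has nilpotent centralizer. Then either G is nilpotent; or G has a normal subgroup K with a Frobenius complement E (K E = G, K ∩ E = 1, E meets its conjugates by outside elements trivially) such that E is cyclic or E is generated by two elementwise-commuting subgroups, one cyclic of odd order and one isomorphic to a generalized quaternion group; or G is a three-step group with respect to some prime p. -/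
theorem result {G : Type*} [Group G] [Finite G] [Group.IsSolvable G] (hCN : Cfsg.IsCNGroup G) :
    Group.IsNilpotent G ∨
      (∃ K E : Subgroup G, K.Normal ∧ Subgroup.IsComplement' K E ∧ Cfsg.IsFrobeniusComplement E ∧
        (IsCyclic E ∨ ∃ C Q : Subgroup G, C ⊔ Q = E ∧ (∀ a ∈ C, ∀ b ∈ Q, a * b = b * a) ∧ IsCyclic C ∧ Odd (Nat.card C) ∧
          ∃ n : ℕ, Nonempty (↥Q ≃* QuaternionGroup (2 ^ n)))) ∨
      ∃ p : ℕ, p.Prime ∧ Cfsg.IsThreeStepGroup p G := by
  by_cases hnil : Group.IsNilpotent G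
  · exact Or.inl hnil
  right
  by_cases hα : ∃ (p : ℕ) (_ : Fact p.Prime) (P : Sylow p G),
      (P : Subgroup G) ≠ ⊥ ∧ (P : Subgroup G).Normal
  · left
    obtain ⟨p, hp, P, hP1, hPn⟩ := hα
    exact branchA hCN hnil p P hP1 hPn
  · right
    push Not at hα
    have hFn := Cfsg.Agent.helper1.fitting_normal (G := G)
    have hFnil := Cfsg.Agent.S0008.result (G := G)
    have hFC := Cfsg.Agent.S0044.result (G := G)
    have hF1 : fittingSubgroup G ≠ ⊥ := by
      intro h
      rw [h] at hFC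
      have hle : (⊤ : Subgroup G) ≤ ⊥ := by
        intro x _
        apply hFC
        rw [Subgroup.mem_centralizer_iff]
        intro y hy
        rw [Subgroup.coe_bot, Set.mem_singleton_iff] at hy
        rw [hy, one_mul, mul_one]
      apply hnil
      haveI : Subsingleton G := by
        constructor
        intro a b
        have ha := hle (Subgroup.mem_top a)
        have hb := hle (Subgroup.mem_top b)
        rw [Subgroup.mem_bot] at ha hb
        rw [ha, hb]
      infer_instance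
    have hFle := Cfsg.Agent.helper1.le_iSup_pCore_of_nilpotent hFn hFnil
    have hex : ∃ p : Nat.Primes, pCore (p : ℕ) G ≠ ⊥ := by
      by_contra h
      push Not at h
      apply hF1
      rw [eq_bot_iff]
      exact le_trans hFle (iSup_le fun q => (h q).le)
    obtain ⟨⟨p, hpp⟩, hH1⟩ := hex
    haveI hp : Fact p.Prime := ⟨hpp⟩
    have hH1' : pCore p G ≠ ⊥ := hH1
    have hother : ∀ q : Nat.Primes, (q : ℕ) ≠ p → pCore (q : ℕ) G = ⊥ := by
      intro q hq
      by_contra hq1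
      haveI : Fact (q : ℕ).Prime := ⟨q.2⟩
      obtain ⟨P⟩ : Nonempty (Sylow p G) := inferInstance
      have hPn := sylow_normal_of_two_cores hCN (p := p) (q := (q : ℕ)) (Ne.symm hq) hH1' hq1 P
      have hP1 : (P : Subgroup G) ≠ ⊥ := by
        intro h
        apply hH1'
        rw [eq_bot_iff, ← h]; exact Cfsg.Agent.helper1.pCore_le_sylow P
      exact hα p hp P hP1 hPn
    have hFH : fittingSubgroup G ≤ pCore p G := by
      refine le_trans hFle (iSup_le fun q => ?_)
      by_cases hq : (q : ℕ) = p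
      · rw [hq]
      · rw [hother q hq]; exact bot_le
    have hFeq : fittingSubgroup G = pCore p G :=
      le_antisymm hFH (Cfsg.Agent.helper1.pCore_le_fitting p)
    have hC : Subgroup.centralizer (pCore p G : Set G) ≤ pCore p G := by
      rw [← hFeq]; exact hFC
    have hidx : p ∣ (pCore p G).index := by
      by_contra hnd
      have hHp := Cfsg.Agent.helper1.pCore_isPGroup (G := G) p
      exact hα p hp (hHp.toSylow hnd) (by rw [IsPGroup.toSylow_coe]; exact hH1')
        (by rw [IsPGroup.toSylow_coe]; exact Cfsg.Agent.helper1.pCore_normal p)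
    exact ⟨p, hpp, three_step hCN hH1' hC hidx⟩

end Cfsg.Agent.S1476
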