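import Mathlib
import Cfsg.Agent.H16CN1
import Cfsg.Agent.S1476
import Cfsg.Agent.S1458

set_option autoImplicit false
set_option linter.style.haveILetI false
set_option linter.unusedSectionVars false

namespace Cfsg.Agent.H16CN

open scoped Pointwise commutatorElement
open Cfsg

universe u

/-- A solvable CN-group without nontrivial normal Sylow subgroups is a three-step group. -/
theorem structure_of_no_normal_sylow {X : Type u} [Group X] [Finite X] [Group.IsSolvable X]
    [Nontrivial X] (hCN : Cfsg.IsCNGroup X)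
    (hα : ∀ (p : ℕ) (_ : Fact p.Prime) (P : Sylow p X),
      (P : Subgroup X) ≠ ⊥ → ¬ (P : Subgroup X).Normal) :
    ∃ p : ℕ, p.Prime ∧ pCore p X ≠ ⊥ ∧ (∀ q : ℕ, q.Prime → q ≠ p → pCore q X = ⊥) ∧
      Subgroup.centralizer (pCore p X : Set X) ≤ pCore p X ∧ p ∣ (pCore p X).index ∧
      Cfsg.IsThreeStepGroup p X := by
  have hFn := Cfsg.Agent.helper1.fitting_normal (G := X)
  have hFnil := Cfsg.Agent.S0008.result (G := X)
  have hFC := Cfsg.Agent.S0044.result (G := X)
  have hF1 : fittingSubgroup X ≠ ⊥ := by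
    intro h
    rw [h] at hFC
    have hle : (⊤ : Subgroup X) ≤ ⊥ := by
      intro x _
      apply hFC
      rw [Subgroup.mem_centralizer_iff]
      intro y hy
      rw [Subgroup.coe_bot, Set.mem_singleton_iff] at hy
      rw [hy, one_mul, mul_one]
    obtain ⟨a, ha⟩ := exists_ne (1 : X)
    have := hle (Subgroup.mem_top a)
    rw [Subgroup.mem_bot] at this
    exact ha this
  have hFle := Cfsg.Agent.helper1.le_iSup_pCore_of_nilpotent hFn hFnil
  have hex : ∃ p : Nat.Primes, pCore (p : ℕ) X ≠ ⊥ := by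
    by_contra h
    push Not at h
    apply hF1
    rw [eq_bot_iff]
    exact le_trans hFle (iSup_le fun q => (h q).le)
  obtain ⟨⟨p, hpp⟩, hH1⟩ := hex
  haveI hp : Fact p.Prime := ⟨hpp⟩
  have hH1' : pCore p X ≠ ⊥ := hH1
  have hother : ∀ q : ℕ, q.Prime → q ≠ p → pCore q X = ⊥ := by
    intro q hqp hq
    by_contra hq1
    haveI : Fact q.Prime := ⟨hqp⟩
    obtain ⟨P⟩ : Nonempty (Sylow p X) := inferInstance
    have hPn := Cfsg.Agent.S1476.sylow_normal_of_two_cores hCN (p := p) (q := q) (Ne.symm hq)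
      hH1' hq1 P
    have hP1 : (P : Subgroup X) ≠ ⊥ := by
      intro h
      apply hH1'
      rw [eq_bot_iff, ← h]; exact Cfsg.Agent.helper1.pCore_le_sylow P
    exact hα p hp P hP1 hPn
  have hFH : fittingSubgroup X ≤ pCore p X := by
    refine le_trans hFle (iSup_le fun q => ?_)
    by_cases hq : (q : ℕ) = p
    · rw [hq]
    · rw [hother q q.2 hq]; exact bot_le
  have hFeq : fittingSubgroup X = pCore p X :=
    le_antisymm hFH (Cfsg.Agent.helper1.pCore_le_fitting p)
  have hC : Subgroup.centralizer (pCore p X : Set X) ≤ pCore p X := by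
    rw [← hFeq]; exact hFC
  have hidx : p ∣ (pCore p X).index := by
    by_contra hnd
    have hHp := Cfsg.Agent.helper1.pCore_isPGroup (G := X) p
    exact hα p hp (hHp.toSylow hnd) (by rw [IsPGroup.toSylow_coe]; exact hH1')
      (by rw [IsPGroup.toSylow_coe]; exact Cfsg.Agent.helper1.pCore_normal p)
  exact ⟨p, hpp, hH1', hother, hC, hidx, Cfsg.Agent.S1476.three_step hCN hH1' hC hidx⟩

end Cfsg.Agent.H16CN
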