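import Mathlib
import Cfsg.Agent.H16CN2

set_option autoImplicit false
set_option linter.style.haveILetI false
set_option linter.unusedSectionVars false

namespace Cfsg.Agent.H16CN

open scoped Pointwise commutatorElement
open Cfsg

universe u

theorem eq_one_of_pow_coprime {X : Type*} [Group X] {x : X} {a b : ℕ} (ha : x ^ a = 1)
    (hb : x ^ b = 1) (h : a.Coprime b) : x = 1 := by
  have h1 : orderOf x ∣ Nat.gcd a b :=
    Nat.dvd_gcd (orderOf_dvd_of_pow_eq_one ha) (orderOf_dvd_of_pow_eq_one hb)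
  rw [h] at h1
  exact orderOf_eq_one_iff.mp (Nat.dvd_one.mp h1)

/-- A three-step group (for any `p`) has no nontrivial normal Sylow subgroup. -/
theorem no_normal_sylow_of_threeStep {X : Type u} [Group X] [Finite X] {p : ℕ}
    (h3 : Cfsg.IsThreeStepGroup p X) :
    ∀ (q : ℕ) (_ : Fact q.Prime) (Q : Sylow q X),
      (Q : Subgroup X) ≠ ⊥ → ¬ (Q : Subgroup X).Normal := by
  obtain ⟨hH1, A, hA1, -, -, hAcop, hLn, hLtop, ⟨n, hn⟩, hfpf, -⟩ := h3
  intro q hq Q hQ1 hQn
  haveI := hQn
  haveI hHn := Cfsg.Agent.helper1.pCore_normal (G := X) p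
  have hHp := Cfsg.Agent.helper1.pCore_isPGroup (G := X) p
  have hn0 : n ≠ 0 := by
    intro h0
    rw [h0, pow_zero] at hn
    exact hLtop (Subgroup.index_eq_one.mp hn)
  by_cases hqp : q ∣ p
  · have hQp : IsPGroup p (Q : Subgroup X) := by
      intro g
      obtain ⟨k, hk⟩ := Q.isPGroup' g
      obtain ⟨m, hm⟩ := hqp
      refine ⟨k, ?_⟩
      rw [hm, mul_pow, pow_mul, hk, one_pow]
    have hle : (Q : Subgroup X) ≤ pCore p X ⊔ A :=
      (Cfsg.Agent.helper1.le_pCore hQn hQp).trans le_sup_left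
    have hdvd : q ∣ (Q : Subgroup X).index := by
      rw [← Subgroup.relIndex_mul_index hle, hn]
      exact Dvd.dvd.mul_left (hqp.trans (dvd_pow_self p hn0)) _
    exact Q.not_dvd_index hdvd
  · have hcop : Nat.Coprime q p := (Nat.Prime.coprime_iff_not_dvd hq.out).mpr hqp
    have hdisj : Disjoint (Q : Subgroup X) (pCore p X) := by
      rw [disjoint_iff, eq_bot_iff]
      intro x hx
      obtain ⟨hxQ, hxH⟩ := Subgroup.mem_inf.mp hx
      obtain ⟨k, hk⟩ := Q.isPGroup' ⟨x, hxQ⟩
      obtain ⟨j, hj⟩ := hHp ⟨x, hxH⟩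
      have h1 : x ^ q ^ k = 1 := by
        have := congrArg Subtype.val hk
        simpa using this
      have h2 : x ^ p ^ j = 1 := by
        have := congrArg Subtype.val hj
        simpa using this
      rw [Subgroup.mem_bot]
      exact eq_one_of_pow_coprime h1 h2 (Nat.Coprime.pow k j hcop)
    apply hQ1
    rw [eq_bot_iff]
    intro x hxQ
    rw [Subgroup.mem_bot]
    -- x ∈ H₀ ⊔ A
    have hxL : x ∈ pCore p X ⊔ A := by
      haveI := hLn
      obtain ⟨k, hk⟩ := Q.isPGroup' ⟨x, hxQ⟩
      have h1 : x ^ q ^ k = 1 := by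
        have := congrArg Subtype.val hk
        simpa using this
      have h2 : ((x : X) : X ⧸ (pCore p X ⊔ A)) ^ q ^ k = 1 := by
        rw [← QuotientGroup.mk_pow, h1]; rfl
      have h3 : ((x : X) : X ⧸ (pCore p X ⊔ A)) ^ p ^ n = 1 := by
        rw [← hn, Subgroup.index_eq_card]
        exact pow_card_eq_one'
      have h4 := eq_one_of_pow_coprime h2 h3 (Nat.Coprime.pow k n hcop)
      exact (QuotientGroup.eq_one_iff x).mp h4
    have hxmul : x ∈ ((pCore p X : Set X) * (A : Set X)) := by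
      rw [← Subgroup.normal_mul]; exact hxL
    obtain ⟨h, hh, a, ha, e⟩ := hxmul
    have e' : h * a = x := e
    have hcomm : ∀ y ∈ pCore p X, x * y = y * x := fun y hy =>
      (Subgroup.commute_of_normal_of_disjoint _ _ hQn hHn hdisj x y hxQ hy).eq
    have ha1 : a = 1 := by
      by_contra ha1
      have hf := hfpf a ha ha1
      by_cases hh1 : h = 1
      · -- a = x centralizes H₀ ≠ ⊥
        rw [hh1, one_mul] at e'
        obtain ⟨y, hy, hy1⟩ := (Subgroup.bot_or_exists_ne_one _).resolve_left hH1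
        have : y ∈ pCore p X ⊓ Subgroup.centralizer {a} := by
          refine Subgroup.mem_inf.mpr ⟨hy, ?_⟩
          rw [Subgroup.mem_centralizer_singleton_iff, e']
          exact (hcomm y hy).symm
        rw [hf, Subgroup.mem_bot] at this
        exact hy1 this
      · have : h ∈ pCore p X ⊓ Subgroup.centralizer {a} := by
          refine Subgroup.mem_inf.mpr ⟨hh, ?_⟩
          rw [Subgroup.mem_centralizer_singleton_iff]
          have h1 := hcomm h hh
          rw [← e'] at h1
          -- h * a * h = h * (h * a)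
          have h2 : a * h = h * a := by
            have : h * (a * h) = h * (h * a) := by rw [← mul_assoc, h1]
            exact mul_left_cancel this
          exact h2.symm
        rw [hf, Subgroup.mem_bot] at this
        exact hh1 this
    rw [ha1, mul_one] at e'
    have : x ∈ (Q : Subgroup X) ⊓ pCore p X := Subgroup.mem_inf.mpr ⟨hxQ, e' ▸ hh⟩
    rw [disjoint_iff.mp hdisj, Subgroup.mem_bot] at this
    exact this

variable {G : Type u} [Group G] [Finite G]

/-- A "bad" subgroup: proper, nontrivial, with no nontrivial normal Sylow subgroup. -/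
def Bad (K : Subgroup G) : Prop :=
  K ≠ ⊤ ∧ K ≠ ⊥ ∧ ∀ (q : ℕ) (_ : Fact q.Prime) (Q : Sylow q ↥K),
    (Q : Subgroup ↥K) ≠ ⊥ → ¬ (Q : Subgroup ↥K).Normal

theorem bad_of_threeStep (hG : Cfsg.IsMinSimpleOddOrder G) {K : Subgroup G} {p : ℕ}
    (h3 : Cfsg.IsThreeStepGroup p ↥K) : Bad K := by
  refine ⟨?_, ?_, no_normal_sylow_of_threeStep h3⟩
  · intro hK
    subst hK
    haveI := hG.2.1
    haveI : IsSimpleGroup ↥(⊤ : Subgroup G) := (Subgroup.topEquiv : ↥(⊤ : Subgroup G) ≃* G).isSimpleGroup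
    obtain ⟨hH1, A, -, -, -, -, -, hLtop, -, -, -⟩ := h3
    haveI hHn := Cfsg.Agent.helper1.pCore_normal (G := ↥(⊤ : Subgroup G)) p
    rcases hHn.eq_bot_or_eq_top with h | h
    · exact hH1 h
    · apply hLtop
      rw [h, top_sup_eq]
  · intro hK
    obtain ⟨hH1, -⟩ := h3
    apply hH1
    rw [eq_bot_iff]
    intro x _
    rw [Subgroup.mem_bot]
    have hx : (x : G) ∈ (⊥ : Subgroup G) := hK ▸ x.2
    rw [Subgroup.mem_bot] at hx
    exact Subtype.ext hx

end Cfsg.Agent.H16CN
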