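import Mathlib
import Cfsg.Agent.H16CN3

set_option autoImplicit false
set_option linter.style.haveILetI false
set_option linter.unusedSectionVars false

namespace Cfsg.Agent.H16CN

open scoped Pointwise commutatorElement
open Cfsg

universe u

variable {G : Type u} [Group G] [Finite G]

theorem bad_structure (hG : Cfsg.IsMinSimpleOddOrder G) (hCN : Cfsg.IsCNGroup G)
    {K : Subgroup G} (hK : Bad K) :
    ∃ r : ℕ, r.Prime ∧ pCore r ↥K ≠ ⊥ ∧ pPrimeCore r ↥K = ⊥ ∧ Cfsg.IsThreeStepGroup r ↥K := by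
  haveI : Group.IsSolvable ↥K := solvable_of_ne_top hG hK.1
  haveI : Nontrivial ↥K := (Subgroup.nontrivial_iff_ne_bot K).mpr hK.2.1
  obtain ⟨p, hpp, hH1, -, hC, -, h3⟩ :=
    structure_of_no_normal_sylow (cn_subgroup hCN K) hK.2.2
  refine ⟨p, hpp, hH1, ?_, h3⟩
  haveI : Fact p.Prime := ⟨hpp⟩
  haveI hn1 := Cfsg.Agent.helper1.pPrimeCore_normal (G := ↥K) p
  haveI hn2 := Cfsg.Agent.helper1.pCore_normal (G := ↥K) p
  have hcop := Cfsg.Agent.helper1.pPrimeCore_coprime (G := ↥K) p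
  obtain ⟨k, hk⟩ := (Cfsg.Agent.helper1.pCore_isPGroup (G := ↥K) p).exists_card_eq
  have hdisj : Disjoint (pPrimeCore p ↥K) (pCore p ↥K) := by
    rw [disjoint_iff]
    apply Subgroup.inf_eq_bot_of_coprime
    rw [hk]
    exact Nat.Coprime.pow_right k hcop
  have hle : pPrimeCore p ↥K ≤ Subgroup.centralizer (pCore p ↥K : Set ↥K) := by
    intro x hx
    rw [Subgroup.mem_centralizer_iff]
    intro y hy
    exact ((Subgroup.commute_of_normal_of_disjoint _ _ hn1 hn2 hdisj x y hx hy).eq).symm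
  rw [eq_bot_iff]
  intro x hx
  have : x ∈ pPrimeCore p ↥K ⊓ pCore p ↥K := Subgroup.mem_inf.mpr ⟨hx, hC (hle hx)⟩
  rwa [disjoint_iff.mp hdisj] at this

theorem centerThompsonOf_ne_bot {r : ℕ} [Fact r.Prime] (S : Subgroup G) (hS : IsPGroup r S)
    (hS1 : S ≠ ⊥) : Cfsg.centerThompsonOf r S ≠ ⊥ := by
  have hJ1 := Cfsg.Agent.helper19.thompsonSubgroupOf_ne_bot S hS hS1
  have hJS := Cfsg.Agent.helper3.thompsonSubgroupOf_le_self r S
  have hJp : IsPGroup r ↥(Cfsg.thompsonSubgroupOf r S) := hS.to_le hJS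
  haveI : Nontrivial ↥(Cfsg.thompsonSubgroupOf r S) :=
    (Subgroup.nontrivial_iff_ne_bot _).mpr hJ1
  haveI := hJp.center_nontrivial
  obtain ⟨z, hz⟩ := exists_ne (1 : Subgroup.center ↥(Cfsg.thompsonSubgroupOf r S))
  intro hbot
  apply hz
  have hmem : ((z : ↥(Cfsg.thompsonSubgroupOf r S)) : G) ∈ Cfsg.centerThompsonOf r S := by
    unfold Cfsg.centerThompsonOf
    refine Subgroup.mem_inf.mpr ⟨(z : ↥(Cfsg.thompsonSubgroupOf r S)).2, ?_⟩
    rw [Subgroup.mem_centralizer_iff]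
    intro y hy
    have h1 := Subgroup.mem_center_iff.mp z.2 ⟨y, hy⟩
    exact congrArg Subtype.val h1
  rw [hbot, Subgroup.mem_bot] at hmem
  exact Subtype.ext (Subtype.ext hmem)

section climb

variable (hG : Cfsg.IsMinSimpleOddOrder G) (hCN : Cfsg.IsCNGroup G)
  {K : Subgroup G} (hK : Bad K) {r : ℕ} [hr : Fact r.Prime]
  (hr1 : pCore r ↥K ≠ ⊥) (hr2 : pPrimeCore r ↥K = ⊥) (R : Sylow r ↥K)

include hr1 in
theorem climb_R_ne_bot : (R : Subgroup ↥K) ≠ ⊥ := by
  intro h
  apply hr1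
  rw [eq_bot_iff, ← h]
  exact Cfsg.Agent.helper1.pCore_le_sylow R

include hr1 in
theorem climb_R'_ne_bot : (R : Subgroup ↥K).map K.subtype ≠ ⊥ := by
  intro h
  apply climb_R_ne_bot hr1 R
  rwa [Subgroup.map_eq_bot_iff_of_injective _ K.subtype_injective] at h

theorem climb_Z_eq :
    Cfsg.centerThompsonOf r ((R : Subgroup ↥K).map K.subtype) =
      (Cfsg.centerThompsonOf r (R : Subgroup ↥K)).map K.subtype := by
  rw [Cfsg.Agent.helper18.ZJe.centerThompsonOf_map]
  intro x _ hx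
  exact K.subtype_injective (by rw [hx, map_one])

theorem climb_Z_le_R' :
    Cfsg.centerThompsonOf r ((R : Subgroup ↥K).map K.subtype) ≤ (R : Subgroup ↥K).map K.subtype :=
  Cfsg.Agent.helper18.ZJe.centerThompsonOf_le _

theorem climb_R'_le_K : (R : Subgroup ↥K).map K.subtype ≤ K := Subgroup.map_subtype_le _

include hr1 in
theorem climb_Z_ne_bot :
    Cfsg.centerThompsonOf r ((R : Subgroup ↥K).map K.subtype) ≠ ⊥ :=
  centerThompsonOf_ne_bot _ (R.isPGroup'.map _) (climb_R'_ne_bot hr1 R)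

include hG hK hr2 in
theorem climb_K_le :
    K ≤ Subgroup.normalizer
      (Cfsg.centerThompsonOf r ((R : Subgroup ↥K).map K.subtype) : Set G) := by
  haveI : Group.IsSolvable ↥K := solvable_of_ne_top hG hK.1
  have hn := Cfsg.Agent.S1458.result (odd_card_subgroup hG.1 K) r R
  rw [hr2, sup_bot_eq] at hn
  rw [climb_Z_eq R]
  have h1 := Subgroup.le_normalizer_map (H := Cfsg.centerThompsonOf r (R : Subgroup ↥K)) K.subtype
  have h2 : Subgroup.normalizer (Cfsg.centerThompsonOf r (R : Subgroup ↥K) : Set ↥K) = ⊤ :=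
    Subgroup.normalizer_eq_top_iff.mpr hn
  rw [h2, ← MonoidHom.range_eq_map, Subgroup.range_subtype] at h1
  exact h1

theorem climb_normalizer_le :
    Subgroup.normalizer (((R : Subgroup ↥K).map K.subtype : Subgroup G) : Set G) ≤
      Subgroup.normalizer
        (Cfsg.centerThompsonOf r ((R : Subgroup ↥K).map K.subtype) : Set G) :=
  Cfsg.Agent.helper18.ZJe.normalizer_le_normalizer_centerThompsonOf _

include hG hK hr1 in
theorem climb_ne_top :
    Subgroup.normalizer
      (Cfsg.centerThompsonOf r ((R : Subgroup ↥K).map K.subtype) : Set G) ≠ ⊤ := by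
  intro h
  haveI := hG.2.1
  have hn : (Cfsg.centerThompsonOf r ((R : Subgroup ↥K).map K.subtype)).Normal :=
    Subgroup.normalizer_eq_top_iff.mp h
  rcases hn.eq_bot_or_eq_top with h1 | h1
  · exact climb_Z_ne_bot hr1 R h1
  · apply hK.1
    rw [eq_top_iff, ← h1]
    exact (climb_Z_le_R' R).trans (climb_R'_le_K R)

include hK hr1 R in
theorem climb_no_normal_r (N : Subgroup G) (hKN : K ≤ N) (Q : Sylow r ↥N)
    (hQn : (Q : Subgroup ↥N).Normal) : False := by
  have hR'p : IsPGroup r ↥((R : Subgroup ↥K).map K.subtype) := R.isPGroup'.map _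
  have hR'N : (R : Subgroup ↥K).map K.subtype ≤ N := (climb_R'_le_K R).trans hKN
  have hpg : IsPGroup r ↥(((R : Subgroup ↥K).map K.subtype).subgroupOf N) :=
    hR'p.comap_subtype
  obtain ⟨Q', hQ'⟩ := hpg.exists_le_sylow
  haveI := Sylow.unique_of_normal Q hQn
  have hQQ : Q' = Q := Subsingleton.elim _ _
  rw [hQQ] at hQ'
  -- the image of Q in G
  have hQ''p : IsPGroup r ↥((Q : Subgroup ↥N).map N.subtype) := Q.isPGroup'.map _
  have hR'Q : (R : Subgroup ↥K).map K.subtype ≤ (Q : Subgroup ↥N).map N.subtype := by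
    intro x hx
    have hxN : x ∈ N := hR'N hx
    have : (⟨x, hxN⟩ : ↥N) ∈ (Q : Subgroup ↥N) := hQ' (Subgroup.mem_subgroupOf.mpr hx)
    exact ⟨⟨x, hxN⟩, this, rfl⟩
  have hTp : IsPGroup r ↥(((Q : Subgroup ↥N).map N.subtype).subgroupOf K) :=
    hQ''p.comap_subtype
  have hRT : (R : Subgroup ↥K) ≤ ((Q : Subgroup ↥N).map N.subtype).subgroupOf K := by
    intro x hx
    rw [Subgroup.mem_subgroupOf]
    exact hR'Q ⟨x, hx, rfl⟩
  have hTR := R.is_maximal' hTp hRT
  have hTn : (((Q : Subgroup ↥N).map N.subtype).subgroupOf K).Normal := by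
    refine ⟨fun x hx k => ?_⟩
    rw [Subgroup.mem_subgroupOf] at hx ⊢
    obtain ⟨y, hy, hyx⟩ := hx
    have hkN : (k : G) ∈ N := hKN k.2
    refine ⟨⟨(k : G), hkN⟩ * y * ⟨(k : G), hkN⟩⁻¹, hQn.conj_mem y hy _, ?_⟩
    have hyx' : (y : G) = (x : G) := hyx
    simp [hyx']
  rw [hTR] at hTn
  exact hK.2.2 r hr R (climb_R_ne_bot hr1 R) hTn

include hG hCN hK hr1 hr2 R in
theorem climb_bad :
    Bad (Subgroup.normalizer
      (Cfsg.centerThompsonOf r ((R : Subgroup ↥K).map K.subtype) : Set G)) := by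
  have hKN := climb_K_le hG hK hr2 R
  have hZ1 := climb_Z_ne_bot hr1 R
  have hZp : IsPGroup r ↥(Cfsg.centerThompsonOf r ((R : Subgroup ↥K).map K.subtype)) :=
    (R.isPGroup'.map K.subtype).to_le (climb_Z_le_R' R)
  refine ⟨climb_ne_top hG hK hr1 R, ?_, ?_⟩
  · intro h
    apply hK.2.1
    rw [eq_bot_iff, ← h]
    exact hKN
  · generalize hN : Subgroup.normalizer
      (Cfsg.centerThompsonOf r ((R : Subgroup ↥K).map K.subtype) : Set G) = N at hKN
    have hZn : ((Cfsg.centerThompsonOf r ((R : Subgroup ↥K).map K.subtype)).subgroupOf N).Normal := by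
      rw [← hN]; exact Subgroup.normal_in_normalizer
    have hZN : Cfsg.centerThompsonOf r ((R : Subgroup ↥K).map K.subtype) ≤ N := by
      rw [← hN]; exact Subgroup.le_normalizer
    have hcore_r : pCore r ↥N ≠ ⊥ := by
      intro h
      have h1 : (Cfsg.centerThompsonOf r ((R : Subgroup ↥K).map K.subtype)).subgroupOf N ≤
          pCore r ↥N := Cfsg.Agent.helper1.le_pCore hZn hZp.comap_subtype
      rw [h, le_bot_iff, Subgroup.subgroupOf_eq_bot, disjoint_iff, inf_eq_left.mpr hZN] at h1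
      exact hZ1 h1
    intro q hq Q hQ1 hQn
    by_cases hqr : q = r
    · subst hqr
      exact climb_no_normal_r hK hr1 R N hKN Q hQn
    · have hcore_q : pCore q ↥N ≠ ⊥ := by
        intro h
        have h1 : (Q : Subgroup ↥N) ≤ pCore q ↥N := Cfsg.Agent.helper1.le_pCore hQn Q.isPGroup'
        rw [h, le_bot_iff] at h1
        exact hQ1 h1
      obtain ⟨P⟩ : Nonempty (Sylow r ↥N) := inferInstance
      have hPn := Cfsg.Agent.S1476.sylow_normal_of_two_cores (cn_subgroup hCN N) (p := r) (q := q)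
        (Ne.symm hqr) hcore_r hcore_q P
      exact climb_no_normal_r hK hr1 R N hKN P hPn

end climb

/-- A three-step group for the prime `r` has its Sylow `r`-subgroups outside the derived
subgroup. -/
theorem sylow_not_le_commutator_of_threeStep {X : Type u} [Group X] [Finite X] {r : ℕ}
    [hr : Fact r.Prime] (h3 : Cfsg.IsThreeStepGroup r X) (R : Sylow r X)
    (hR : (R : Subgroup X) ≤ commutator X) : False := by
  obtain ⟨-, A, -, -, -, -, hLn, hLtop, ⟨n, hn⟩, -, -⟩ := h3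
  haveI := hLn
  have hQp : IsPGroup r (X ⧸ (pCore r X ⊔ A)) :=
    IsPGroup.of_card (n := n) (by rw [← Subgroup.index_eq_card, hn])
  haveI : Nontrivial (X ⧸ (pCore r X ⊔ A)) := by
    obtain ⟨x, -, hx⟩ := SetLike.exists_of_lt (lt_top_iff_ne_top.mpr hLtop)
    refine nontrivial_of_ne ((x : X) : X ⧸ (pCore r X ⊔ A)) 1 ?_
    intro h
    exact hx ((QuotientGroup.eq_one_iff x).mp h)
  haveI : Group.IsNilpotent (X ⧸ (pCore r X ⊔ A)) := hQp.isNilpotent
  have hlt := IsSolvable.commutator_lt_top_of_nontrivial (X ⧸ (pCore r X ⊔ A))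
  obtain ⟨M, hM⟩ : ∃ M : Subgroup X,
    M = (commutator (X ⧸ (pCore r X ⊔ A))).comap (QuotientGroup.mk' (pCore r X ⊔ A)) := ⟨_, rfl⟩
  have hMtop : M ≠ ⊤ := by
    intro h
    apply hlt.ne
    rw [eq_top_iff]
    intro y _
    obtain ⟨x, rfl⟩ := QuotientGroup.mk'_surjective (pCore r X ⊔ A) y
    have : x ∈ M := by rw [h]; exact Subgroup.mem_top x
    rw [hM] at this
    exact this
  have hLM : pCore r X ⊔ A ≤ M := by
    intro x hx
    rw [hM, Subgroup.mem_comap]
    have : (QuotientGroup.mk' (pCore r X ⊔ A)) x = 1 := (QuotientGroup.eq_one_iff x).mpr hx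
    rw [this]
    exact Subgroup.one_mem _
  have hCM : commutator X ≤ M := by
    rw [commutator_def, Subgroup.commutator_le]
    intro a _ b _
    rw [hM, Subgroup.mem_comap, map_commutatorElement, commutator_def]
    exact Subgroup.commutator_mem_commutator (Subgroup.mem_top _) (Subgroup.mem_top _)
  have h1 : M.index ∣ r ^ n := by rw [← hn]; exact Subgroup.index_dvd_of_le hLM
  have h2 : M.index ∣ (R : Subgroup X).index := Subgroup.index_dvd_of_le (hR.trans hCM)
  obtain ⟨j, -, hj⟩ := (Nat.dvd_prime_pow hr.out).mp h1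
  have hj0 : j ≠ 0 := by
    intro h0
    rw [h0, pow_zero] at hj
    exact hMtop (Subgroup.index_eq_one.mp hj)
  have h3 : r ∣ (R : Subgroup X).index := by
    refine Dvd.dvd.trans ?_ h2
    rw [hj]; exact dvd_pow_self r hj0
  exact R.not_dvd_index h3

theorem no_bad (hG : Cfsg.IsMinSimpleOddOrder G) (hCN : Cfsg.IsCNGroup G) :
    ¬ ∃ K : Subgroup G, Bad K := by
  rintro ⟨K0, hK0⟩
  haveI : Nonempty {K : Subgroup G // Bad K} := ⟨⟨K0, hK0⟩⟩
  obtain ⟨⟨K, hK⟩, hmax⟩ :=
    Finite.exists_max (fun K : {K : Subgroup G // Bad K} => Nat.card ↥(K : Subgroup G))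
  obtain ⟨r, hrp, hr1, hr2, h3⟩ := bad_structure hG hCN hK
  haveI : Fact r.Prime := ⟨hrp⟩
  obtain ⟨R⟩ : Nonempty (Sylow r ↥K) := inferInstance
  have hbad := climb_bad hG hCN hK hr1 hr2 R
  have hKN := climb_K_le hG hK hr2 R
  have hNK : Subgroup.normalizer
      (Cfsg.centerThompsonOf r ((R : Subgroup ↥K).map K.subtype) : Set G) = K :=
    (Subgroup.eq_of_le_of_card_ge hKN (hmax ⟨_, hbad⟩)).symm
  have hR'p : IsPGroup r ↥((R : Subgroup ↥K).map K.subtype) := R.isPGroup'.map _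
  obtain ⟨P, hP⟩ := hR'p.exists_le_sylow
  have hPR : (P : Subgroup G) = (R : Subgroup ↥K).map K.subtype := by
    by_contra hne
    have hlt : (R : Subgroup ↥K).map K.subtype < (P : Subgroup G) :=
      lt_of_le_of_ne hP (Ne.symm hne)
    obtain ⟨x, hxP, hxN, hxR⟩ :=
      Cfsg.Agent.helper19.pgroup_normalizer_lt (P : Subgroup G) _ P.isPGroup' hlt
    have hxK : x ∈ K := by
      rw [← hNK]; exact climb_normalizer_le R hxN
    have hTp : IsPGroup r ↥((P : Subgroup G).subgroupOf K) := P.isPGroup'.comap_subtype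
    have hRT : (R : Subgroup ↥K) ≤ (P : Subgroup G).subgroupOf K := by
      intro y hy
      rw [Subgroup.mem_subgroupOf]
      exact hP ⟨y, hy, rfl⟩
    have hTR := R.is_maximal' hTp hRT
    apply hxR
    have : (⟨x, hxK⟩ : ↥K) ∈ (R : Subgroup ↥K) := by
      rw [← hTR, Subgroup.mem_subgroupOf]; exact hxP
    exact ⟨⟨x, hxK⟩, this, rfl⟩
  have hcomm := sylow_le_commutator_normalizer hG r P
  rw [hPR, hNK, ← Subgroup.map_subtype_commutator,
    Subgroup.map_le_map_iff_of_injective K.subtype_injective] at hcomm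
  exact sylow_not_le_commutator_of_threeStep h3 R hcomm

end Cfsg.Agent.H16CN
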