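import Cfsg.Statements.S1477
import Mathlib
import Cfsg.Agent.Lib_helper8_CN

set_option autoImplicit false
open Cfsg

namespace Cfsg.Agent.S1477

open Cfsg.Agent.helper8.CN

variable {G : Type*} [Group G] [Finite G]

theorem orderOf_conj' (g s : G) : orderOf (g * s * g⁻¹) = orderOf s := by
  have := (MulAut.conj g).orderOf_eq s
  rwa [MulAut.conj_apply] at this

theorem part2 (hCN : Cfsg.IsCNGroup G) (H : Subgroup G) (hH : Group.IsNilpotent H)
    (hmax : ∀ L : Subgroup G, Group.IsNilpotent L → H ≤ L → L = H)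
    (hnpp : ¬ IsPrimePow (Nat.card H)) (h1 : Nat.card H ≠ 1) (g : G)
    (hg : H.map (MulAut.conj g).toMonoidHom ≠ H) :
    H ⊓ H.map (MulAut.conj g).toMonoidHom = ⊥ := by
  by_contra hne
  obtain ⟨⟨u0, hu0m⟩, hu01⟩ := (Subgroup.ne_bot_iff_exists_ne_one).mp hne
  have hu0ne : u0 ≠ 1 := fun h => hu01 (Subtype.ext h)
  have hord : orderOf u0 ≠ 1 := fun h => hu0ne (orderOf_eq_one_iff.mp h)
  obtain ⟨r, hr, hru⟩ := Nat.exists_prime_and_dvd hord
  obtain ⟨u, hu⟩ : ∃ u, u = u0 ^ (orderOf u0 / r) := ⟨_, rfl⟩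
  have hur : orderOf u = r := by
    rw [hu]
    exact orderOf_pow_orderOf_div (orderOf_pos u0).ne' hru
  have huH : u ∈ H := by
    rw [hu]
    exact H.pow_mem hu0m.1 _
  have huHg : u ∈ H.map (MulAut.conj g).toMonoidHom := by
    rw [hu]
    exact Subgroup.pow_mem _ hu0m.2 _
  obtain ⟨u', hu'H, hu'eq⟩ := huHg
  simp only [MulEquiv.coe_toMonoidHom, MulAut.conj_apply] at hu'eq
  have hu'r : orderOf u' = r := by
    rw [← hur, ← hu'eq, orderOf_conj']
  -- a second prime
  obtain ⟨q, hq, hqH, hqr⟩ : ∃ q, q.Prime ∧ q ∣ Nat.card H ∧ q ≠ r := by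
    by_contra hcon
    push Not at hcon
    apply hnpp
    have h2 := Nat.eq_prime_pow_of_unique_prime_dvd (n := Nat.card H) (p := r)
      Nat.card_pos.ne' (fun {d} hd hdvd => hcon d hd hdvd)
    rw [h2]
    apply IsPrimePow.pow hr.prime.isPrimePow
    intro h0
    rw [h0, pow_zero] at h2
    exact h1 h2
  have : Fact q.Prime := ⟨hq⟩
  have : Fact r.Prime := ⟨hr⟩
  obtain ⟨Q, hQH⟩ := exists_sylow_le hCN H hH hmax q hqH
  have hcomm : ∀ a ∈ H, orderOf a = r → ∀ s ∈ (Q : Subgroup G), a * s = s * a := by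
    intro a ha hoa s hs
    obtain ⟨j, hj⟩ := orderOf_of_mem_sylow Q hs
    exact Cfsg.Agent.helper17.MNN.commute_of_nilpotent_subgroup H hH hqr.symm ha (hQH hs)
      ⟨1, by rw [pow_one, ← hoa]; exact pow_orderOf_eq_one a⟩
      ⟨j, by rw [← hj]; exact pow_orderOf_eq_one s⟩
  have hu1 : u ≠ 1 := by
    intro h
    rw [h, orderOf_one] at hur
    exact hr.one_lt.ne hur
  have hL := hCN u hu1
  have hQL : (Q : Subgroup G) ≤ Subgroup.centralizer ({u} : Set G) := by
    intro s hs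
    rw [Subgroup.mem_centralizer_iff]
    intro x hx
    rw [Set.mem_singleton_iff] at hx
    subst hx
    exact hcomm x huH hur s hs
  have hconj : ∀ s ∈ (Q : Subgroup G), g * s * g⁻¹ ∈ (Q : Subgroup G) := by
    intro s hs
    obtain ⟨j, hj⟩ := orderOf_of_mem_sylow Q hs
    apply mem_sylow_of_nilpotent (Subgroup.centralizer ({u} : Set G)) hL q Q hQL
      (g * s * g⁻¹) _ j (by rw [orderOf_conj']; exact hj)
    rw [Subgroup.mem_centralizer_iff]
    intro x hx
    rw [Set.mem_singleton_iff] at hx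
    subst hx
    have h3 := hcomm u' hu'H hu'r s hs
    rw [← hu'eq]
    calc g * u' * g⁻¹ * (g * s * g⁻¹) = g * (u' * s) * g⁻¹ := by group
      _ = g * (s * u') * g⁻¹ := by rw [h3]
      _ = g * s * g⁻¹ * (g * u' * g⁻¹) := by group
  have hsurj : ∀ s ∈ (Q : Subgroup G), ∃ s0 ∈ (Q : Subgroup G), g * s0 * g⁻¹ = s := by
    let f : ↥(Q : Subgroup G) → ↥(Q : Subgroup G) := fun s => ⟨g * s.1 * g⁻¹, hconj s.1 s.2⟩
    have hinj : Function.Injective f := by
      intro a b h
      have h4 : g * a.1 * g⁻¹ = g * b.1 * g⁻¹ := congrArg Subtype.val h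
      apply Subtype.ext
      exact mul_left_cancel (mul_right_cancel h4)
    intro s hs
    obtain ⟨s0, hs0⟩ := Finite.injective_iff_surjective.mp hinj ⟨s, hs⟩
    exact ⟨s0.1, s0.2, congrArg Subtype.val hs0⟩
  have hQne : (Q : Subgroup G) ≠ ⊥ :=
    Q.ne_bot_of_dvd_card (dvd_trans hqH (Subgroup.card_subgroup_dvd_card H))
  obtain ⟨v, hvQ, hv1, hvc⟩ := exists_center_sylow Q hQne
  have hCv := centralizer_eq_of_center_sylow hCN H hH hmax q Q hQH v hvQ hv1 hvc
  have hv' : g * v * g⁻¹ ∈ (Q : Subgroup G) := hconj v hvQ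
  have hv'1 : g * v * g⁻¹ ≠ 1 := fun h => hv1 (conj_eq_one_iff.mp h)
  have hv'c : ∀ s ∈ (Q : Subgroup G), g * v * g⁻¹ * s = s * (g * v * g⁻¹) := by
    intro s hs
    obtain ⟨s0, hs0, rfl⟩ := hsurj s hs
    have h5 := hvc s0 hs0
    calc g * v * g⁻¹ * (g * s0 * g⁻¹) = g * (v * s0) * g⁻¹ := by group
      _ = g * (s0 * v) * g⁻¹ := by rw [h5]
      _ = g * s0 * g⁻¹ * (g * v * g⁻¹) := by group
  have hCv' := centralizer_eq_of_center_sylow hCN H hH hmax q Q hQH _ hv' hv'1 hv'c
  have hle : H.map (MulAut.conj g).toMonoidHom ≤ H := by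
    rintro _ ⟨h, hh, rfl⟩
    simp only [MulEquiv.coe_toMonoidHom, MulAut.conj_apply]
    rw [← hCv', Subgroup.mem_centralizer_iff]
    intro x hx
    rw [Set.mem_singleton_iff] at hx
    subst hx
    have h6 : v * h = h * v := by
      have h7 : h ∈ Subgroup.centralizer ({v} : Set G) := by
        rw [hCv]
        exact hh
      rw [Subgroup.mem_centralizer_iff] at h7
      exact h7 v rfl
    calc g * v * g⁻¹ * (g * h * g⁻¹) = g * (v * h) * g⁻¹ := by group
      _ = g * (h * v) * g⁻¹ := by rw [h6]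
      _ = g * h * g⁻¹ * (g * v * g⁻¹) := by group
  apply hg
  apply Subgroup.eq_of_le_of_card_ge hle
  rw [Subgroup.card_map_of_injective (MulAut.conj g).injective]

theorem part3 (hCN : Cfsg.IsCNGroup G) (H : Subgroup G) (hH : Group.IsNilpotent H)
    (hmax : ∀ L : Subgroup G, Group.IsNilpotent L → H ≤ L → L = H)
    (hTI : ∀ g : G, H.map (MulAut.conj g).toMonoidHom ≠ H →
      H ⊓ H.map (MulAut.conj g).toMonoidHom = ⊥) (x : G) (hx : x ∈ H) (hx1 : x ≠ 1) :
    Subgroup.centralizer ({x} : Set G) ≤ H := by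
  have hnorm : ∀ c ∈ Subgroup.centralizer ({x} : Set G),
      H.map (MulAut.conj c).toMonoidHom = H := by
    intro c hc
    by_contra hne
    have h1 := hTI c hne
    have hxm : x ∈ H ⊓ H.map (MulAut.conj c).toMonoidHom := by
      refine ⟨hx, ⟨x, hx, ?_⟩⟩
      simp only [MulEquiv.coe_toMonoidHom, MulAut.conj_apply]
      rw [Subgroup.mem_centralizer_iff] at hc
      have h2 := hc x rfl
      rw [← h2, mul_inv_cancel_right]
    rw [h1, Subgroup.mem_bot] at hxm
    exact hx1 hxm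
  have hH1 : Nat.card H ≠ 1 := by
    intro h
    have : H = ⊥ := Subgroup.card_eq_one.mp h
    rw [this, Subgroup.mem_bot] at hx
    exact hx1 hx
  obtain ⟨p, hp, hpH⟩ := Nat.exists_prime_and_dvd hH1
  have : Fact p.Prime := ⟨hp⟩
  obtain ⟨Sp, hSp⟩ := exists_sylow_le hCN H hH hmax p hpH
  have hSpne : (Sp : Subgroup G) ≠ ⊥ :=
    Sp.ne_bot_of_dvd_card (dvd_trans hpH (Subgroup.card_subgroup_dvd_card H))
  obtain ⟨z, hzS, hz1, hzc⟩ := exists_center_sylow Sp hSpne
  have hCz := centralizer_eq_of_center_sylow hCN H hH hmax p Sp hSp z hzS hz1 hzc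
  have hzx : z * x = x * z := by
    have h7 : x ∈ Subgroup.centralizer ({z} : Set G) := by
      rw [hCz]
      exact hx
    rw [Subgroup.mem_centralizer_iff] at h7
    exact h7 z rfl
  have hzL : z ∈ Subgroup.centralizer ({x} : Set G) := by
    rw [Subgroup.mem_centralizer_iff]
    intro y hy
    rw [Set.mem_singleton_iff] at hy
    subst hy
    exact hzx.symm
  obtain ⟨b, hzb⟩ := orderOf_of_mem_sylow Sp hzS
  have hL := hCN x hx1
  intro c hc
  apply Cfsg.Agent.S3986.mem_of_primePow_powers H (orderOf c) c rfl (orderOf_pos c).ne'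
  rintro k ⟨r, j, hr, hrj⟩
  have : Fact r.Prime := ⟨hr⟩
  obtain ⟨d, hd⟩ : ∃ d, d = c ^ k := ⟨_, rfl⟩
  rw [← hd] at hrj ⊢
  have hdL : d ∈ Subgroup.centralizer ({x} : Set G) := by
    rw [hd]
    exact Subgroup.pow_mem _ hc k
  by_cases hrH : r ∣ Nat.card H
  · obtain ⟨S, hS⟩ := exists_sylow_le hCN H hH hmax r hrH
    have hdn : ∀ e ∈ Subgroup.centralizer ({x} : Set G), ∀ s ∈ (S : Subgroup G),
        e * s * e⁻¹ ∈ (S : Subgroup G) := by
      intro e he s hs
      obtain ⟨i, hi⟩ := orderOf_of_mem_sylow S hs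
      apply mem_sylow_of_nilpotent H hH r S hS _ _ i (by rw [orderOf_conj']; exact hi)
      rw [← hnorm e he]
      exact ⟨s, hS hs, by simp only [MulEquiv.coe_toMonoidHom, MulAut.conj_apply]⟩
    have hdN : d ∈ Subgroup.normalizer ((S : Subgroup G) : Set G) := by
      rw [Subgroup.mem_set_normalizer_iff]
      intro s
      constructor
      · exact hdn d hdL s
      · intro h
        have h8 := hdn d⁻¹ (inv_mem hdL) _ h
        have h9 : d⁻¹ * (d * s * d⁻¹) * d⁻¹⁻¹ = s := by group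
        rwa [h9] at h8
    have hPd : IsPGroup r (Subgroup.zpowers d) :=
      IsPGroup.of_card (n := j) (by rw [Nat.card_zpowers, hrj])
    have h10 := hPd.inf_normalizer_sylow S
    have hd2 : d ∈ Subgroup.zpowers d ⊓ (S : Subgroup G) := by
      rw [← h10]
      exact ⟨Subgroup.mem_zpowers d, hdN⟩
    exact hS hd2.2
  · have hrp : r ≠ p := fun h => hrH (h ▸ hpH)
    have hcomm := Cfsg.Agent.helper17.MNN.commute_of_nilpotent_subgroup
      (Subgroup.centralizer ({x} : Set G)) hL hrp hdL hzL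
      ⟨j, by rw [← hrj]; exact pow_orderOf_eq_one d⟩
      ⟨b, by rw [← hzb]; exact pow_orderOf_eq_one z⟩
    rw [← hCz, Subgroup.mem_centralizer_iff]
    intro y hy
    rw [Set.mem_singleton_iff] at hy
    subst hy
    exact hcomm.symm


/-- Let G be a finite group in which every non-identity element has nilpotent centralizer, and H a nilpotent subgroup not properly contained in any nilpotent subgroup. Then the order of H is coprime to its index; if the order of H is not a prime power then H ∩ gHg⁻¹ = 1 whenever gHg⁻¹ ≠ H; and if H ∩ gHg⁻¹ = 1 whenever gHg⁻¹ ≠ H, then C_G(x) ≤ H for every non-identity x ∈ H. -/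
theorem result {G : Type*} [Group G] [Finite G] (hCN : Cfsg.IsCNGroup G) (H : Subgroup G) (hH : Group.IsNilpotent H)
    (hmax : ∀ L : Subgroup G, Group.IsNilpotent L → H ≤ L → L = H) :
    (Nat.card H).Coprime H.index ∧
      (¬ IsPrimePow (Nat.card H) → Nat.card H ≠ 1 → ∀ g : G, H.map (MulAut.conj g).toMonoidHom ≠ H → H ⊓ H.map (MulAut.conj g).toMonoidHom = ⊥) ∧
      ((∀ g : G, H.map (MulAut.conj g).toMonoidHom ≠ H → H ⊓ H.map (MulAut.conj g).toMonoidHom = ⊥) → ∀ x ∈ H, x ≠ 1 → Subgroup.centralizer ({x} : Set G) ≤ H) := by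
  exact ⟨coprime_card_index hCN H hH hmax,
    fun hnpp h1 g hg => part2 hCN H hH hmax hnpp h1 g hg,
    fun hTI x hx hx1 => part3 hCN H hH hmax hTI x hx hx1⟩

end Cfsg.Agent.S1477
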