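import Mathlib
import Cfsg.Agent.H16CN4
import Cfsg.Agent.S1477
import Cfsg.Agent.Lib_helper7_TypeP

set_option autoImplicit false
set_option linter.style.haveILetI false
set_option linter.unusedSectionVars false

namespace Cfsg.Agent.H16CN

open scoped Pointwise commutatorElement
open Cfsg

universe u

variable {G : Type u} [Group G] [Finite G]

/-- A proper nontrivial subgroup has a nontrivial normal Sylow subgroup. -/
theorem exists_normal_sylow_of_proper (hG : Cfsg.IsMinSimpleOddOrder G) (hCN : Cfsg.IsCNGroup G)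
    {N : Subgroup G} (hN1 : N ≠ ⊤) (hN2 : N ≠ ⊥) :
    ∃ (q : ℕ) (_ : Fact q.Prime) (Q : Sylow q ↥N),
      (Q : Subgroup ↥N) ≠ ⊥ ∧ (Q : Subgroup ↥N).Normal := by
  by_contra h
  apply no_bad hG hCN
  refine ⟨N, hN1, hN2, ?_⟩
  intro q hq Q hQ1 hQn
  exact h ⟨q, hq, Q, hQ1, hQn⟩

/-- If `O_r(N) ≠ 1` for a proper subgroup `N`, then `N` has a normal Sylow `r`-subgroup. -/
theorem exists_normal_sylow_of_core (hG : Cfsg.IsMinSimpleOddOrder G) (hCN : Cfsg.IsCNGroup G)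
    {N : Subgroup G} (hN1 : N ≠ ⊤) {r : ℕ} [hr : Fact r.Prime] (hcore : pCore r ↥N ≠ ⊥) :
    ∃ S : Sylow r ↥N, (S : Subgroup ↥N).Normal := by
  have hN2 : N ≠ ⊥ := by
    intro h
    apply hcore
    rw [eq_bot_iff]
    intro x _
    rw [Subgroup.mem_bot]
    have hx : (x : G) ∈ (⊥ : Subgroup G) := h ▸ x.2
    rw [Subgroup.mem_bot] at hx
    exact Subtype.ext hx
  obtain ⟨q, hq, Q, hQ1, hQn⟩ := exists_normal_sylow_of_proper hG hCN hN1 hN2
  by_cases hqr : q = r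
  · subst hqr
    exact ⟨Q, hQn⟩
  · have hcore_q : pCore q ↥N ≠ ⊥ := by
      intro h
      have h1 : (Q : Subgroup ↥N) ≤ pCore q ↥N := Cfsg.Agent.helper1.le_pCore hQn Q.isPGroup'
      rw [h, le_bot_iff] at h1
      exact hQ1 h1
    obtain ⟨P⟩ : Nonempty (Sylow r ↥N) := inferInstance
    exact ⟨P, Cfsg.Agent.S1476.sylow_normal_of_two_cores (cn_subgroup hCN N) (p := r) (q := q)
      (Ne.symm hqr) hcore hcore_q P⟩

/-- A normal Sylow subgroup of `N` contains every `r`-subgroup of `N`. -/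
theorem le_map_of_normal_sylow {N : Subgroup G} {r : ℕ} [hr : Fact r.Prime] (S : Sylow r ↥N)
    (hSn : (S : Subgroup ↥N).Normal) {T : Subgroup G} (hT : IsPGroup r ↥T) (hTN : T ≤ N) :
    T ≤ (S : Subgroup ↥N).map N.subtype := by
  have hpg : IsPGroup r ↥(T.subgroupOf N) := hT.comap_subtype
  obtain ⟨Q', hQ'⟩ := hpg.exists_le_sylow
  haveI := Sylow.unique_of_normal S hSn
  have hQQ : Q' = S := Subsingleton.elim _ _
  rw [hQQ] at hQ'
  intro x hx
  have hxN : x ∈ N := hTN hx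
  have : (⟨x, hxN⟩ : ↥N) ∈ (S : Subgroup ↥N) := hQ' (Subgroup.mem_subgroupOf.mpr hx)
  exact ⟨⟨x, hxN⟩, this, rfl⟩

/-- Sylow subgroups of a minimal simple CN-group of odd order are TI. -/
theorem sylow_TI (hG : Cfsg.IsMinSimpleOddOrder G) (hCN : Cfsg.IsCNGroup G) (r : ℕ)
    [hr : Fact r.Prime] (P Q : Sylow r G) (hPQ : P ≠ Q) : (P : Subgroup G) ⊓ Q = ⊥ := by
  by_contra hne
  haveI : Nonempty {pq : Sylow r G × Sylow r G //
      pq.1 ≠ pq.2 ∧ (pq.1 : Subgroup G) ⊓ pq.2 ≠ ⊥} := ⟨⟨(P, Q), hPQ, hne⟩⟩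
  obtain ⟨⟨⟨P1, P2⟩, h12, hD1⟩, hmax⟩ :=
    Finite.exists_max (fun pq : {pq : Sylow r G × Sylow r G //
      pq.1 ≠ pq.2 ∧ (pq.1 : Subgroup G) ⊓ pq.2 ≠ ⊥} =>
        Nat.card ↥((pq.1.1 : Subgroup G) ⊓ pq.1.2))
  simp only at h12 hD1
  obtain ⟨D, hD⟩ : ∃ D : Subgroup G, D = (P1 : Subgroup G) ⊓ P2 := ⟨_, rfl⟩
  rw [← hD] at hD1
  have hDP1 : D ≤ P1 := hD ▸ inf_le_left
  have hDP2 : D ≤ P2 := hD ▸ inf_le_right
  have hlt1 : D < (P1 : Subgroup G) := by
    refine lt_of_le_of_ne hDP1 ?_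
    intro h
    apply h12
    have h1 : (P1 : Subgroup G) ≤ P2 := h ▸ hDP2
    exact (Sylow.ext (P1.is_maximal' P2.isPGroup' h1)).symm
  have hlt2 : D < (P2 : Subgroup G) := by
    refine lt_of_le_of_ne hDP2 ?_
    intro h
    apply h12
    have h1 : (P2 : Subgroup G) ≤ P1 := h ▸ hDP1
    exact Sylow.ext (P2.is_maximal' P1.isPGroup' h1)
  obtain ⟨x1, hx1P, hx1N, hx1D⟩ :=
    Cfsg.Agent.helper19.pgroup_normalizer_lt (P1 : Subgroup G) D P1.isPGroup' hlt1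
  obtain ⟨x2, hx2P, hx2N, hx2D⟩ :=
    Cfsg.Agent.helper19.pgroup_normalizer_lt (P2 : Subgroup G) D P2.isPGroup' hlt2
  have hDp : IsPGroup r ↥D := P1.isPGroup'.to_le hDP1
  -- the normalizer of D is proper
  have hN1 : Subgroup.normalizer (D : Set G) ≠ ⊤ := by
    intro h
    haveI := hG.2.1
    have hn : D.Normal := Subgroup.normalizer_eq_top_iff.mp h
    rcases hn.eq_bot_or_eq_top with h1 | h1
    · exact hD1 h1
    · rw [h1] at hlt1
      exact not_top_lt hlt1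
  generalize hN : Subgroup.normalizer (D : Set G) = N at hN1 hx1N hx2N
  have hDN : D ≤ N := hN ▸ Subgroup.le_normalizer
  have hDn : (D.subgroupOf N).Normal := by rw [← hN]; exact Subgroup.normal_in_normalizer
  have hcore : pCore r ↥N ≠ ⊥ := by
    intro h
    have h1 : D.subgroupOf N ≤ pCore r ↥N := Cfsg.Agent.helper1.le_pCore hDn hDp.comap_subtype
    rw [h, le_bot_iff, Subgroup.subgroupOf_eq_bot, disjoint_iff, inf_eq_left.mpr hDN] at h1
    exact hD1 h1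
  obtain ⟨S, hSn⟩ := exists_normal_sylow_of_core hG hCN hN1 hcore
  have hS'p : IsPGroup r ↥((S : Subgroup ↥N).map N.subtype) := S.isPGroup'.map _
  obtain ⟨P', hP'⟩ := hS'p.exists_le_sylow
  have key : ∀ (P0 : Sylow r G) (x0 : G), D ≤ P0 → x0 ∈ (P0 : Subgroup G) → x0 ∈ N → x0 ∉ D →
      P' = P0 := by
    intro P0 x0 hDP0 hx0P hx0N hx0D
    by_contra hP'P0
    have hle : (P0 : Subgroup G) ⊓ N ≤ P' :=
      (le_map_of_normal_sylow S hSn (P0.isPGroup'.to_le inf_le_left) inf_le_right).trans hP'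
    have hDle : D ≤ (P' : Subgroup G) ⊓ P0 :=
      le_inf ((le_inf hDP0 hDN).trans hle) hDP0
    have hx0 : x0 ∈ (P' : Subgroup G) ⊓ P0 :=
      Subgroup.mem_inf.mpr ⟨hle (Subgroup.mem_inf.mpr ⟨hx0P, hx0N⟩), hx0P⟩
    have hDlt : D < (P' : Subgroup G) ⊓ P0 :=
      lt_of_le_of_ne hDle (fun h => hx0D (h ▸ hx0))
    have hne' : (P' : Subgroup G) ⊓ P0 ≠ ⊥ := by
      intro h
      rw [h] at hDlt
      exact not_lt_bot hDlt
    have h1 := hmax ⟨(P', P0), hP'P0, hne'⟩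
    simp only at h1
    rw [← hD] at h1
    have h2 : Nat.card ↥D < Nat.card ↥((P' : Subgroup G) ⊓ P0) :=
      Set.Finite.card_lt_card (Set.toFinite _) hDlt
    omega
  have e1 := key P1 x1 hDP1 hx1P hx1N hx1D
  have e2 := key P2 x2 hDP2 hx2P hx2N hx2D
  exact h12 (e1.symm.trans e2)

end Cfsg.Agent.H16CN
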