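import Mathlib

set_option autoImplicit false

namespace Cfsg.Agent.helper11.NilCover

open Subgroup

/-- a nontrivial nilpotent group has nontrivial centre -/
theorem center_ne_bot' {N : Type*} [Group N] [hN : Group.IsNilpotent N] [Nontrivial N] :
    Subgroup.center N ≠ ⊥ := by
  intro h
  obtain ⟨n, hn⟩ := hN.nilpotent'
  have hall : ∀ k, Subgroup.upperCentralSeries N k = ⊥ := by
    intro k
    induction k with
    | zero => exact Subgroup.upperCentralSeries_zero N
    | succ k ih =>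
      rw [eq_bot_iff]
      intro x hx
      rw [Subgroup.mem_upperCentralSeries_succ_iff] at hx
      rw [← h, Subgroup.mem_center_iff]
      intro y
      have h1 := hx y
      rw [ih, Subgroup.mem_bot] at h1
      have h2 : x * y = y * x := commutatorElement_eq_one_iff_mul_comm.mp h1
      exact h2.symm
  rw [hall n] at hn
  exact bot_ne_top hn

variable {G : Type*} [Group G]

theorem mem_zpowers_conj (x g c : G) :
    c ∈ zpowers (g * x * g⁻¹) ↔ g⁻¹ * c * g ∈ zpowers x := by
  rw [Subgroup.mem_zpowers_iff, Subgroup.mem_zpowers_iff]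
  constructor
  · rintro ⟨k, rfl⟩
    refine ⟨k, ?_⟩
    rw [conj_zpow]
    group
  · rintro ⟨k, hk⟩
    refine ⟨k, ?_⟩
    rw [conj_zpow, hk]
    group

/-- a nilpotent subgroup containing `y`, where centralisers of nonidentity elements of `⟨y⟩` lie
in `⟨y⟩`, equals `⟨y⟩` -/
theorem eq_zpowers_of_nilpotent (y : G) (hy1 : y ≠ 1)
    (hcent : ∀ c ∈ zpowers y, c ≠ 1 → ∀ d : G, d * c = c * d → d ∈ zpowers y)
    (A : Subgroup G) (hA : Group.IsNilpotent A) (hyA : y ∈ A) : A = zpowers y := by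
  haveI : Nontrivial A := ⟨⟨⟨y, hyA⟩, 1, fun h => hy1 (congrArg Subtype.val h)⟩⟩
  have hc := center_ne_bot' (N := A)
  obtain ⟨⟨z, hz⟩, hz1'⟩ := Subgroup.ne_bot_iff_exists_ne_one.mp hc
  have hz1 : (z : G) ≠ 1 := fun h => hz1' (Subtype.ext (Subtype.ext h))
  rw [Subgroup.mem_center_iff] at hz
  have hzy : (z : G) ∈ zpowers y := by
    apply hcent y (mem_zpowers y) hy1
    have := hz ⟨y, hyA⟩
    exact (congrArg Subtype.val this).symm
  apply le_antisymm
  · intro a ha
    apply hcent z hzy hz1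
    have := hz ⟨a, ha⟩
    exact (congrArg Subtype.val this)
  · rw [zpowers_le]
    exact hyA

theorem main [Finite G] (B : Subgroup G) (hB : B ≠ ⊤) (x : G) (hxB : x ∈ B) (hx1 : x ≠ 1)
    (hcent : ∀ c ∈ zpowers x, c ≠ 1 → ∀ d : G, d * c = c * d → d ∈ zpowers x)
    (hcard : Nat.card (normalizer (zpowers x : Set G)) < Nat.card B) :
    ¬ ∃ 𝓐 : Finset (Subgroup G), ((∀ A ∈ 𝓐, A ≠ ⊤) ∧ (∀ g : G, ∃ A ∈ 𝓐, g ∈ A)) ∧
      (∀ 𝓑 : Finset (Subgroup G), (∀ A ∈ 𝓑, A ≠ ⊤) ∧ (∀ g : G, ∃ A ∈ 𝓑, g ∈ A) →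
        𝓐.card ≤ 𝓑.card) ∧ (∀ A ∈ 𝓐, Group.IsNilpotent ↥A) := by
  classical
  rintro ⟨𝓐, ⟨hprop, hcov⟩, hmin, hnil⟩
  haveI : Fintype G := Fintype.ofFinite G
  -- conjugates of `B`
  let cB : G → Subgroup G := fun g => B.map (MulAut.conj g).toMonoidHom
  have hcB_mem : ∀ g c : G, c ∈ cB g ↔ g⁻¹ * c * g ∈ B := by
    intro g c
    simp only [cB, Subgroup.mem_map, MulEquiv.coe_toMonoidHom, MulAut.conj_apply]
    constructor
    · rintro ⟨b, hb, rfl⟩
      have : g⁻¹ * (g * b * g⁻¹) * g = b := by group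
      rw [this]; exact hb
    · intro h
      exact ⟨_, h, by group⟩
  have hcB_ne : ∀ g, cB g ≠ ⊤ := by
    intro g h
    apply hB
    rw [eq_top_iff]
    intro b _
    have : g * b * g⁻¹ ∈ cB g := by rw [h]; trivial
    rw [hcB_mem] at this
    have e : g⁻¹ * (g * b * g⁻¹) * g = b := by group
    rwa [e] at this
  let conjB : Finset (Subgroup G) := (Finset.univ : Finset (G ⧸ B)).image (fun q => cB q.out)
  have hconjB_mem : ∀ g, cB g ∈ conjB := by
    intro g
    rw [Finset.mem_image]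
    refine ⟨(g : G ⧸ B), Finset.mem_univ _, ?_⟩
    have h1 : ((g : G ⧸ B).out)⁻¹ * g ∈ B := by
      rw [← QuotientGroup.eq]
      exact QuotientGroup.out_eq' _
    ext c
    rw [hcB_mem, hcB_mem]
    constructor
    · intro h
      have e : g⁻¹ * c * g = (((g : G ⧸ B).out)⁻¹ * g)⁻¹ * (((g : G ⧸ B).out)⁻¹ * c * (g : G ⧸ B).out) *
          (((g : G ⧸ B).out)⁻¹ * g) := by group
      rw [e]
      exact B.mul_mem (B.mul_mem (B.inv_mem h1) h) h1
    · intro h
      have e : ((g : G ⧸ B).out)⁻¹ * c * (g : G ⧸ B).out =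
          (((g : G ⧸ B).out)⁻¹ * g) * (g⁻¹ * c * g) * (((g : G ⧸ B).out)⁻¹ * g)⁻¹ := by group
      rw [e]
      exact B.mul_mem (B.mul_mem h1 h) (B.inv_mem h1)
  have hconjB_card : conjB.card * Nat.card B ≤ Nat.card G := by
    have h1 : conjB.card ≤ B.index := by
      calc conjB.card ≤ (Finset.univ : Finset (G ⧸ B)).card := Finset.card_image_le
        _ = B.index := by
          rw [Finset.card_univ, Subgroup.index, Nat.card_eq_fintype_card]
    calc conjB.card * Nat.card B ≤ B.index * Nat.card B := Nat.mul_le_mul_right _ h1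
      _ = Nat.card G := Subgroup.index_mul_card B
  -- conjugates of `⟨x⟩`
  let cT : G → Subgroup G := fun g => zpowers (g * x * g⁻¹)
  let conjT : Finset (Subgroup G) := (Finset.univ : Finset G).image cT
  have hcT_mem : ∀ g, cT g ∈ 𝓐 := by
    intro g
    obtain ⟨A, hA, hgA⟩ := hcov (g * x * g⁻¹)
    have hy1 : g * x * g⁻¹ ≠ 1 := by
      intro h
      apply hx1
      have : x = g⁻¹ * (g * x * g⁻¹) * g := by group
      rw [this, h]; group
    have hc' : ∀ c ∈ zpowers (g * x * g⁻¹), c ≠ 1 → ∀ d : G, d * c = c * d →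
        d ∈ zpowers (g * x * g⁻¹) := by
      intro c hc hc1 d hd
      rw [mem_zpowers_conj] at hc ⊢
      apply hcent _ hc
      · intro h
        apply hc1
        have : c = g * (g⁻¹ * c * g) * g⁻¹ := by group
        rw [this, h]; group
      · calc g⁻¹ * d * g * (g⁻¹ * c * g) = g⁻¹ * (d * c) * g := by group
          _ = g⁻¹ * (c * d) * g := by rw [hd]
          _ = g⁻¹ * c * g * (g⁻¹ * d * g) := by group
    have := eq_zpowers_of_nilpotent _ hy1 hc' A (hnil A hA) hgA
    show zpowers (g * x * g⁻¹) ∈ 𝓐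
    rw [← this]
    exact hA
  have hcT_le : ∀ g, cT g ≤ cB g := by
    intro g
    show zpowers (g * x * g⁻¹) ≤ cB g
    rw [zpowers_le, hcB_mem]
    have : g⁻¹ * (g * x * g⁻¹) * g = x := by group
    rw [this]; exact hxB
  have hconjT_card : Nat.card G ≤ Nat.card (normalizer (zpowers x : Set G)) * conjT.card := by
    rw [Nat.card_eq_fintype_card, ← Finset.card_univ]
    apply Finset.card_le_mul_card_image
    intro K hK
    obtain ⟨g₀, -, rfl⟩ := Finset.mem_image.mp hK
    have : (Finset.univ.filter (fun g => cT g = cT g₀)).card ≤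
        ((normalizer (zpowers x : Set G) : Set G).toFinset).card := by
      apply Finset.card_le_card_of_injOn (fun g => g₀⁻¹ * g)
      · intro g hg
        rw [Finset.coe_filter] at hg
        have hg' : cT g = cT g₀ := hg.2
        rw [Set.coe_toFinset, SetLike.mem_coe, Subgroup.mem_normalizer_iff]
        intro t
        have e1 : t ∈ zpowers x ↔ g * t * g⁻¹ ∈ cT g := by
          show _ ↔ _ ∈ zpowers (g * x * g⁻¹)
          rw [mem_zpowers_conj]
          have : g⁻¹ * (g * t * g⁻¹) * g = t := by group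
          rw [this]
        rw [e1, hg']
        show _ ∈ zpowers (g₀ * x * g₀⁻¹) ↔ _
        rw [mem_zpowers_conj]
        have : g₀⁻¹ * (g * t * g⁻¹) * g₀ = g₀⁻¹ * g * t * (g₀⁻¹ * g)⁻¹ := by group
        rw [this]
      · intro a _ b _ hab
        exact mul_left_cancel hab
    rw [Set.toFinset_card] at this
    rw [Nat.card_eq_fintype_card]
    exact this
  -- the new cover
  let 𝓐₀ : Finset (Subgroup G) := 𝓐.filter (fun A => ∃ g, A ≤ cB g)
  let 𝓑 : Finset (Subgroup G) := conjB ∪ 𝓐.filter (fun A => ¬ ∃ g, A ≤ cB g)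
  have h𝓑 : (∀ A ∈ 𝓑, A ≠ ⊤) ∧ (∀ g : G, ∃ A ∈ 𝓑, g ∈ A) := by
    constructor
    · intro A hA
      rcases Finset.mem_union.mp hA with h | h
      · obtain ⟨q, -, rfl⟩ := Finset.mem_image.mp h
        exact hcB_ne _
      · exact hprop A (Finset.mem_filter.mp h).1
    · intro g
      obtain ⟨A, hA, hgA⟩ := hcov g
      by_cases h : ∃ k, A ≤ cB k
      · obtain ⟨k, hk⟩ := h
        exact ⟨cB k, Finset.mem_union_left _ (hconjB_mem k), hk hgA⟩
      · exact ⟨A, Finset.mem_union_right _ (Finset.mem_filter.mpr ⟨hA, h⟩), hgA⟩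
  have h1 := hmin 𝓑 h𝓑
  have h2 : 𝓑.card ≤ conjB.card + (𝓐.filter (fun A => ¬ ∃ g, A ≤ cB g)).card :=
    Finset.card_union_le _ _
  have h3 : 𝓐₀.card + (𝓐.filter (fun A => ¬ ∃ g, A ≤ cB g)).card = 𝓐.card :=
    Finset.card_filter_add_card_filter_not (s := 𝓐) (fun A => ∃ g, A ≤ cB g)
  have h4 : conjT.card ≤ 𝓐₀.card := by
    apply Finset.card_le_card
    intro K hK
    obtain ⟨g, -, rfl⟩ := Finset.mem_image.mp hK
    exact Finset.mem_filter.mpr ⟨hcT_mem g, g, hcT_le g⟩
  have h5 : conjB.card < conjT.card := by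
    by_contra hlt
    push Not at hlt
    have hpos : 0 < conjT.card := by
      apply Finset.card_pos.mpr
      exact ⟨cT 1, Finset.mem_image.mpr ⟨1, Finset.mem_univ _, rfl⟩⟩
    have : Nat.card G < Nat.card G := by
      calc Nat.card G ≤ Nat.card (normalizer (zpowers x : Set G)) * conjT.card := hconjT_card
        _ < Nat.card B * conjT.card := Nat.mul_lt_mul_of_pos_right hcard hpos
        _ ≤ Nat.card B * conjB.card := Nat.mul_le_mul_left _ hlt
        _ = conjB.card * Nat.card B := Nat.mul_comm _ _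
        _ ≤ Nat.card G := hconjB_card
    exact lt_irrefl _ this
  omega

end Cfsg.Agent.helper11.NilCover
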