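import Mathlib
import Cfsg.Agent.H16CN5
import Cfsg.Agent.Lib_helper11_NilCover
import Cfsg.Agent.S0008

set_option autoImplicit false
set_option linter.style.haveILetI false
set_option linter.unusedSectionVars false

namespace Cfsg.Agent.H16CN

open scoped Pointwise commutatorElement
open Cfsg

universe u

theorem fittingHall_nilpotent (X : Type u) [Group X] [Finite X] :
    Group.IsNilpotent ↥(Cfsg.fittingHall X) := by
  have hle : Cfsg.fittingHall X ≤ Cfsg.fittingSubgroup X :=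
    sSup_le_sSup (fun N hN => ⟨hN.1, hN.2.1⟩)
  exact Cfsg.Agent.helper8.CN.nilpotent_of_le hle Cfsg.Agent.S0008.result

/-- A finite nilpotent group has a normal `p`-complement. -/
theorem nilpotent_exists_normal_pcomplement {X : Type u} [Group X] [Finite X]
    [hX : Group.IsNilpotent X] (p : ℕ) [hp : Fact p.Prime] :
    ∃ L : Subgroup X, L.Normal ∧ (Nat.card L).Coprime p ∧ ∃ n : ℕ, L.index = p ^ n := by
  refine ⟨pPrimeCore p X, Cfsg.Agent.helper1.pPrimeCore_normal p,
    Cfsg.Agent.helper1.pPrimeCore_coprime p, (pPrimeCore p X).index.primeFactorsList.length, ?_⟩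
  apply Nat.eq_prime_pow_of_unique_prime_dvd
  · exact Subgroup.index_ne_zero_of_finite
  · intro q hq hqd
    by_contra hqp
    haveI : Fact q.Prime := ⟨hq⟩
    obtain ⟨Q⟩ : Nonempty (Sylow q X) := inferInstance
    have h4 := ((Group.isNilpotent_of_finite_tfae (G := X)).out 0 3).1 hX
    have hQn : (Q : Subgroup X).Normal := h4 q inferInstance Q
    obtain ⟨k, hk⟩ := Q.isPGroup'.exists_card_eq
    have hcop : (Nat.card (Q : Subgroup X)).Coprime p := by
      rw [hk]
      exact Nat.Coprime.pow_left k ((Nat.coprime_primes hq hp.out).mpr hqp)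
    have hle : (Q : Subgroup X) ≤ pPrimeCore p X := Cfsg.Agent.helper1.le_pPrimeCore hQn hcop
    exact Q.not_dvd_index (hqd.trans (Subgroup.index_dvd_of_le hle))

/-- If `X` has a proper normal subgroup of `r`-power index, then no Sylow `r`-subgroup lies in the
derived subgroup. -/
theorem sylow_not_le_commutator {X : Type u} [Group X] [Finite X] {r : ℕ}
    [hr : Fact r.Prime] (L : Subgroup X) [hLn : L.Normal] (hLtop : L ≠ ⊤) {n : ℕ}
    (hn : L.index = r ^ n) (R : Sylow r X)
    (hR : (R : Subgroup X) ≤ commutator X) : False := by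
  have hQp : IsPGroup r (X ⧸ L) :=
    IsPGroup.of_card (n := n) (by rw [← Subgroup.index_eq_card, hn])
  haveI : Nontrivial (X ⧸ L) := by
    obtain ⟨x, -, hx⟩ := SetLike.exists_of_lt (lt_top_iff_ne_top.mpr hLtop)
    refine nontrivial_of_ne ((x : X) : X ⧸ L) 1 ?_
    intro h
    exact hx ((QuotientGroup.eq_one_iff x).mp h)
  haveI : Group.IsNilpotent (X ⧸ L) := hQp.isNilpotent
  have hlt := Group.IsSolvable.commutator_lt_top_of_nontrivial (X ⧸ L)
  obtain ⟨M, hM⟩ : ∃ M : Subgroup X,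
    M = (commutator (X ⧸ L)).comap (QuotientGroup.mk' L) := ⟨_, rfl⟩
  have hMtop : M ≠ ⊤ := by
    intro h
    apply hlt.ne
    rw [eq_top_iff]
    intro y _
    obtain ⟨x, rfl⟩ := QuotientGroup.mk'_surjective L y
    have : x ∈ M := by rw [h]; exact Subgroup.mem_top x
    rw [hM] at this
    exact this
  have hLM : L ≤ M := by
    intro x hx
    rw [hM, Subgroup.mem_comap]
    have : (QuotientGroup.mk' L) x = 1 := (QuotientGroup.eq_one_iff x).mpr hx
    rw [this]
    exact Subgroup.one_mem _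
  have hCM : commutator X ≤ M := by
    rw [commutator_def, Subgroup.commutator_le]
    intro a _ b _
    rw [hM, Subgroup.mem_comap, map_commutatorElement, commutator_def]
    exact Subgroup.commutator_mem_commutator (Subgroup.mem_top _) (Subgroup.mem_top _)
  have h1 : M.index ∣ r ^ n := by rw [← hn]; exact Subgroup.index_dvd_of_le hLM
  have h2 : M.index ∣ (R : Subgroup X).index := Subgroup.index_dvd_of_le (hR.trans hCM)
  obtain ⟨j, -, hj⟩ := (Nat.dvd_prime_pow hr.out).mp h1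
  have hj0 : j ≠ 0 := by
    intro h0
    rw [h0, pow_zero] at hj
    exact hMtop (Subgroup.index_eq_one.mp hj)
  have h3 : r ∣ (R : Subgroup X).index := by
    refine Dvd.dvd.trans ?_ h2
    rw [hj]; exact dvd_pow_self r hj0
  exact R.not_dvd_index h3

variable {G : Type u} [Group G] [Finite G]

/-- `IsMaxNil H`: `H` is a maximal nilpotent subgroup. -/
def IsMaxNil (H : Subgroup G) : Prop :=
  Group.IsNilpotent H ∧ ∀ L : Subgroup G, Group.IsNilpotent L → H ≤ L → L = H

theorem exists_maxNil (L : Subgroup G) (hL : Group.IsNilpotent L) :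
    ∃ H : Subgroup G, IsMaxNil H ∧ L ≤ H := by
  haveI : Nonempty {H : Subgroup G // Group.IsNilpotent H ∧ L ≤ H} := ⟨⟨L, hL, le_rfl⟩⟩
  obtain ⟨⟨H, hH, hLH⟩, hmax⟩ :=
    Finite.exists_max (fun H : {H : Subgroup G // Group.IsNilpotent H ∧ L ≤ H} =>
      Nat.card ↥(H : Subgroup G))
  refine ⟨H, ⟨hH, ?_⟩, hLH⟩
  intro L' hL' hHL'
  exact (Subgroup.eq_of_le_of_card_ge hHL' (hmax ⟨L', hL', hLH.trans hHL'⟩)).symm

theorem conj_map_eq_smul (H : Subgroup G) (g : G) :
    H.map (MulAut.conj g).toMonoidHom = MulAut.conj g • H := rfl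

theorem maxNil_TI (hG : Cfsg.IsMinSimpleOddOrder G) (hCN : Cfsg.IsCNGroup G)
    {H : Subgroup G} (hH : IsMaxNil H) :
    ∀ g : G, H.map (MulAut.conj g).toMonoidHom ≠ H →
      H ⊓ H.map (MulAut.conj g).toMonoidHom = ⊥ := by
  obtain ⟨-, h2, -⟩ := Cfsg.Agent.S1477.result hCN H hH.1 hH.2
  by_cases hpp : IsPrimePow (Nat.card H)
  · obtain ⟨r, k, hr, hk, hrk⟩ := hpp
    haveI : Fact r.Prime := ⟨hr.nat_prime⟩
    have hHp : IsPGroup r ↥H := IsPGroup.of_card hrk.symm
    have hdvd : r ∣ Nat.card H := by rw [← hrk]; exact dvd_pow_self r hk.ne'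
    obtain ⟨S, hS⟩ := Cfsg.Agent.helper8.CN.exists_sylow_le hCN H hH.1 hH.2 r hdvd
    have hHS : H = S := S.is_maximal' hHp hS
    intro g hg
    rw [conj_map_eq_smul] at hg ⊢
    have e : MulAut.conj g • H = ((g • S : Sylow r G) : Subgroup G) := by
      rw [hHS, Sylow.smul_def, Sylow.pointwise_smul_def]
    rw [e] at hg ⊢
    have hne : S ≠ g • S := by
      intro h
      apply hg
      rw [← h, hHS]
    have := sylow_TI hG hCN r S (g • S) hne
    rw [hHS]; exact this
  · by_cases h1 : Nat.card H = 1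
    · intro g _
      rw [Subgroup.card_eq_one] at h1
      rw [h1, bot_inf_eq]
    · exact h2 hpp h1

theorem maxNil_centralizer_le (hG : Cfsg.IsMinSimpleOddOrder G) (hCN : Cfsg.IsCNGroup G)
    {H : Subgroup G} (hH : IsMaxNil H) :
    ∀ x ∈ H, x ≠ 1 → Subgroup.centralizer ({x} : Set G) ≤ H := by
  obtain ⟨-, -, h3⟩ := Cfsg.Agent.S1477.result hCN H hH.1 hH.2
  exact h3 (maxNil_TI hG hCN hH)

theorem maxNil_unique (hG : Cfsg.IsMinSimpleOddOrder G) (hCN : Cfsg.IsCNGroup G)
    {H H₁ : Subgroup G} (hH : IsMaxNil H) (hH₁ : IsMaxNil H₁) (hne : H ⊓ H₁ ≠ ⊥) : H = H₁ := by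
  obtain ⟨z, hz, hz1⟩ := (Subgroup.bot_or_exists_ne_one _).resolve_left hne
  obtain ⟨hzH, hzH₁⟩ := Subgroup.mem_inf.mp hz
  haveI := hH.1
  haveI : Nontrivial ↥H := ⟨⟨⟨z, hzH⟩, 1, fun h => hz1 (congrArg Subtype.val h)⟩⟩
  have hc := Cfsg.Agent.helper11.NilCover.center_ne_bot' (N := ↥H)
  obtain ⟨w, hw, hw1⟩ := (Subgroup.bot_or_exists_ne_one _).resolve_left hc
  have hwG1 : (w : G) ≠ 1 := fun h => hw1 (Subtype.ext h)
  have hwz : (w : G) ∈ Subgroup.centralizer ({z} : Set G) := by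
    rw [Subgroup.mem_centralizer_singleton_iff]
    have := Subgroup.mem_center_iff.mp hw ⟨z, hzH⟩
    exact (congrArg Subtype.val this).symm
  have hwH₁ : (w : G) ∈ H₁ := maxNil_centralizer_le hG hCN hH₁ z hzH₁ hz1 hwz
  have hle : H ≤ H₁ := by
    intro x hx
    apply maxNil_centralizer_le hG hCN hH₁ (w : G) hwH₁ hwG1
    rw [Subgroup.mem_centralizer_singleton_iff]
    have := Subgroup.mem_center_iff.mp hw ⟨x, hx⟩
    exact congrArg Subtype.val this
  exact (hH.2 H₁ hH₁.1 hle).symm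

end Cfsg.Agent.H16CN
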