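import Mathlib
import Cfsg.Agent.H16CN6
import Cfsg.Agent.S1474

set_option autoImplicit false
set_option linter.style.haveILetI false
set_option linter.unusedSectionVars false

namespace Cfsg.Agent.H16CN

open scoped Pointwise commutatorElement
open Cfsg

universe u

variable {G : Type u} [Group G] [Finite G]

theorem not_nilpotent_of_minSimple (hG : Cfsg.IsMinSimpleOddOrder G) : ¬ Group.IsNilpotent G := by
  intro hnil
  haveI := hG.2.1
  haveI := hnil
  have hcomm : ∀ a b : G, a * b = b * a :=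
    IsSimpleGroup.comm_iff_isSolvable.mpr inferInstance
  exact hG.2.2.1 ⟨⟨hcomm⟩⟩

theorem maxNil_ne_top (hG : Cfsg.IsMinSimpleOddOrder G) {H : Subgroup G} (hH : IsMaxNil H) :
    H ≠ ⊤ := by
  intro h
  apply not_nilpotent_of_minSimple hG
  haveI := hH.1
  rw [h] at this
  exact Group.nilpotent_of_mulEquiv (Subgroup.topEquiv : ↥(⊤ : Subgroup G) ≃* G)

theorem maxNil_ne_bot (hG : Cfsg.IsMinSimpleOddOrder G) {H : Subgroup G} (hH : IsMaxNil H) :
    H ≠ ⊥ := by
  intro h
  haveI := hG.2.1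
  obtain ⟨g, hg⟩ := exists_ne (1 : G)
  have hnil : Group.IsNilpotent ↥(Subgroup.zpowers g) := by
    letI : CommGroup ↥(Subgroup.zpowers g) :=
      { (inferInstance : Group ↥(Subgroup.zpowers g)) with
        mul_comm := fun a b => by
          obtain ⟨a, ha⟩ := a
          obtain ⟨b, hb⟩ := b
          obtain ⟨i, rfl⟩ := Subgroup.mem_zpowers_iff.mp ha
          obtain ⟨j, rfl⟩ := Subgroup.mem_zpowers_iff.mp hb
          apply Subtype.ext
          show g ^ i * g ^ j = g ^ j * g ^ i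
          rw [← zpow_add, ← zpow_add, add_comm] }
    exact CommGroup.isNilpotent
  have h1 := hH.2 _ hnil (h ▸ bot_le)
  rw [h, Subgroup.zpowers_eq_bot] at h1
  exact hg h1

/-- The structure of a proper non-nilpotent subgroup. -/
theorem frob_structure (hG : Cfsg.IsMinSimpleOddOrder G) (hCN : Cfsg.IsCNGroup G)
    {K : Subgroup G} (hK : K ≠ ⊤) (hnn : ¬ Group.IsNilpotent ↥K) :
    Cfsg.fittingHall ↥K ≠ ⊥ ∧ Cfsg.fittingHall ↥K ≠ ⊤ ∧
      (∃ E : Subgroup ↥K, Subgroup.IsComplement' (Cfsg.fittingHall ↥K) E ∧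
        ∀ e ∈ E, e ≠ 1 → Cfsg.fittingHall ↥K ⊓ Subgroup.centralizer ({e} : Set ↥K) = ⊥) ∧
      Group.IsNilpotent (↥K ⧸ Cfsg.fittingHall ↥K) := by
  have hK2 : K ≠ ⊥ := by
    intro h
    apply hnn
    subst h
    infer_instance
  obtain ⟨q, hq, Q, hQ1, hQn⟩ := exists_normal_sylow_of_proper hG hCN hK hK2
  obtain ⟨h1, h2, ⟨E, hE1, -, hE3⟩, h4⟩ :=
    Cfsg.Agent.S1474.result (cn_subgroup hCN K) hnn q Q hQ1 hQn
  exact ⟨h1, h2, ⟨E, hE1, hE3⟩, h4⟩

/-- If a nontrivial subgroup of the maximal nilpotent subgroup `H` is normalized by `K`, then `K`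
normalizes `H`. -/
theorem le_normalizer_of_normal_le (hG : Cfsg.IsMinSimpleOddOrder G) (hCN : Cfsg.IsCNGroup G)
    {H : Subgroup G} (hH : IsMaxNil H) {K F' : Subgroup G} (hF'H : F' ≤ H) (hF'1 : F' ≠ ⊥)
    (hKF' : K ≤ Subgroup.normalizer (F' : Set G)) :
    K ≤ Subgroup.normalizer (H : Set G) := by
  intro m hm
  have hmF := hKF' hm
  have hTI := maxNil_TI hG hCN hH m
  have hF'le : F' ≤ H ⊓ H.map (MulAut.conj m).toMonoidHom := by
    intro x hx
    refine Subgroup.mem_inf.mpr ⟨hF'H hx, ?_⟩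
    refine ⟨m⁻¹ * x * m, hF'H ?_, ?_⟩
    · have := (Subgroup.mem_normalizer_iff.mp (Subgroup.inv_mem _ hmF) x).mp hx
      rwa [inv_inv] at this
    · simp [MulAut.conj_apply, mul_assoc]
  have heq : H.map (MulAut.conj m).toMonoidHom = H := by
    by_contra hne
    apply hF'1
    rw [eq_bot_iff, ← hTI hne]
    exact hF'le
  rw [Subgroup.mem_normalizer_iff]
  intro h
  constructor
  · intro hh
    rw [← heq]
    exact ⟨h, hh, by simp [MulAut.conj_apply]⟩
  · intro hh
    rw [← heq] at hh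
    obtain ⟨h', hh', e⟩ := hh
    have e' : m * h' * m⁻¹ = m * h * m⁻¹ := by simpa [MulAut.conj_apply] using e
    have : h' = h := by
      have := mul_right_cancel e'
      exact mul_left_cancel this
    rwa [← this]

end Cfsg.Agent.H16CN
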