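import Mathlib
import Cfsg.Agent.H16CN7

set_option autoImplicit false
set_option linter.style.haveILetI false
set_option linter.unusedSectionVars false

namespace Cfsg.Agent.H16CN

open scoped Pointwise commutatorElement
open Cfsg

universe u

variable {G : Type u} [Group G] [Finite G]

theorem map_subtype_nilpotent {K : Subgroup G} (F : Subgroup ↥K) (hF : Group.IsNilpotent ↥F) :
    Group.IsNilpotent ↥(F.map K.subtype) := by
  haveI := hF
  exact Group.nilpotent_of_mulEquiv (F.equivMapOfInjective K.subtype K.subtype_injective)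

theorem le_normalizer_map_subtype {K : Subgroup G} (F : Subgroup ↥K) [hF : F.Normal] :
    K ≤ Subgroup.normalizer ((F.map K.subtype : Subgroup G) : Set G) := by
  have h1 := Subgroup.le_normalizer_map (H := F) K.subtype
  rw [Subgroup.normalizer_eq_top_iff.mpr hF, ← MonoidHom.range_eq_map, Subgroup.range_subtype] at h1
  exact h1

/-- The normalizer of a maximal nilpotent subgroup is not nilpotent (transfer argument). -/
theorem normalizer_maxNil_not_nilpotent (hG : Cfsg.IsMinSimpleOddOrder G)
    (hCN : Cfsg.IsCNGroup G) {H : Subgroup G} (hH : IsMaxNil H) :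
    ¬ Group.IsNilpotent ↥(Subgroup.normalizer (H : Set G)) := by
  intro hNnil
  have hH1 := maxNil_ne_bot hG hH
  have hNH : Subgroup.normalizer (H : Set G) = H := hH.2 _ hNnil Subgroup.le_normalizer
  have hcard : Nat.card H ≠ 1 := by
    rw [Ne, Subgroup.card_eq_one]; exact hH1
  obtain ⟨p, hp, hpd⟩ := Nat.exists_prime_and_dvd hcard
  haveI : Fact p.Prime := ⟨hp⟩
  obtain ⟨S, hS⟩ := Cfsg.Agent.helper8.CN.exists_sylow_le hCN H hH.1 hH.2 p hpd
  have hS1 : (S : Subgroup G) ≠ ⊥ :=
    S.ne_bot_of_dvd_card (hpd.trans (Subgroup.card_subgroup_dvd_card H))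
  have hHNS : H ≤ Subgroup.normalizer ((S : Subgroup G) : Set G) := by
    have h4 := ((Group.isNilpotent_of_finite_tfae (G := H)).out 0 3).1 hH.1
    have hn : ((S.subtype hS : Sylow p H) : Subgroup H).Normal :=
      h4 p inferInstance (S.subtype hS)
    rw [Sylow.coe_subtype] at hn
    have h1 := le_normalizer_map_subtype ((S : Subgroup G).subgroupOf H)
    rwa [Subgroup.map_subgroupOf_eq_of_le hS] at h1
  have hZ1 : Cfsg.centerThompsonOf p (S : Subgroup G) ≠ ⊥ :=
    centerThompsonOf_ne_bot _ S.isPGroup' hS1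
  have hZS : Cfsg.centerThompsonOf p (S : Subgroup G) ≤ S :=
    Cfsg.Agent.helper18.ZJe.centerThompsonOf_le _
  have hcomm := sylow_le_commutator_normalizer hG p S
  have hNSM : Subgroup.normalizer ((S : Subgroup G) : Set G) ≤
      Subgroup.normalizer (Cfsg.centerThompsonOf p (S : Subgroup G) : Set G) :=
    Cfsg.Agent.helper18.ZJe.normalizer_le_normalizer_centerThompsonOf _
  have hMtop : Subgroup.normalizer (Cfsg.centerThompsonOf p (S : Subgroup G) : Set G) ≠ ⊤ := by
    intro h
    haveI := hG.2.1
    have hn : (Cfsg.centerThompsonOf p (S : Subgroup G)).Normal :=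
      Subgroup.normalizer_eq_top_iff.mp h
    rcases hn.eq_bot_or_eq_top with h1 | h1
    · exact hZ1 h1
    · apply maxNil_ne_top hG hH
      rw [eq_top_iff, ← h1]
      exact hZS.trans hS
  generalize hM : Subgroup.normalizer (Cfsg.centerThompsonOf p (S : Subgroup G) : Set G) = M
    at hcomm hNSM hMtop
  have hHM : H ≤ M := hHNS.trans hNSM
  have hSM : (S : Subgroup G) ≤ M := Subgroup.le_normalizer.trans hNSM
  have hSMcomm : ((S.subtype hSM : Sylow p ↥M) : Subgroup ↥M) ≤ commutator ↥M := by
    rw [Sylow.coe_subtype]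
    intro x hx
    rw [Subgroup.mem_subgroupOf] at hx
    have h1 := hcomm hx
    rw [← Subgroup.map_subtype_commutator] at h1
    obtain ⟨y, hy, hyx⟩ := h1
    have : y = x := Subtype.ext hyx
    rwa [← this]
  have hSM1 : ((S.subtype hSM : Sylow p ↥M) : Subgroup ↥M) ≠ ⊥ := by
    rw [Sylow.coe_subtype]
    intro h
    rw [Subgroup.subgroupOf_eq_bot, disjoint_iff, inf_eq_left.mpr hSM] at h
    exact hS1 h
  have hpM : p ∣ Nat.card ↥M := by
    obtain ⟨k, hk⟩ := (S.subtype hSM).isPGroup'.exists_card_eq
    have hk0 : k ≠ 0 := by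
      intro h0
      rw [h0, pow_zero, Subgroup.card_eq_one] at hk
      exact hSM1 hk
    have : p ∣ Nat.card ((S.subtype hSM : Sylow p ↥M) : Subgroup ↥M) := by
      rw [hk]; exact dvd_pow_self p hk0
    exact this.trans (Subgroup.card_subgroup_dvd_card _)
  by_cases hMnil : Group.IsNilpotent ↥M
  · haveI := hMnil
    obtain ⟨L, hLn, hLcop, n, hn⟩ := nilpotent_exists_normal_pcomplement (X := ↥M) p
    haveI := hLn
    have hLtop : L ≠ ⊤ := by
      intro h
      rw [h, Subgroup.card_top] at hLcop
      exact hp.one_lt.ne' (Nat.Coprime.eq_one_of_dvd hLcop.symm hpM)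
    exact sylow_not_le_commutator L hLtop hn (S.subtype hSM) hSMcomm
  · obtain ⟨hF1, hFtop, -, hQnil⟩ := frob_structure hG hCN hMtop hMnil
    by_cases hpF : p ∣ Nat.card (Cfsg.fittingHall ↥M)
    · obtain ⟨R, hRn⟩ := Cfsg.Agent.S1474.exists_normal_sylow p hpF
      haveI := Sylow.unique_of_normal R hRn
      have hRS : R = S.subtype hSM := Subsingleton.elim _ _
      rw [hRS] at hRn
      have hle : ((S.subtype hSM : Sylow p ↥M) : Subgroup ↥M) ≤ Cfsg.fittingHall ↥M := by
        apply Cfsg.Agent.helper7.le_fittingHall hRn (S.subtype hSM).isPGroup'.isNilpotent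
        obtain ⟨k, hk⟩ := (S.subtype hSM).isPGroup'.exists_card_eq
        rw [hk]
        apply Nat.Coprime.pow_left
        exact (Nat.Prime.coprime_iff_not_dvd hp).mpr (S.subtype hSM).not_dvd_index
      have hSF' : (S : Subgroup G) ≤ (Cfsg.fittingHall ↥M).map M.subtype := by
        intro x hx
        have hxM := hSM hx
        refine ⟨⟨x, hxM⟩, hle ?_, rfl⟩
        rw [Sylow.coe_subtype, Subgroup.mem_subgroupOf]
        exact hx
      have hF'nil := map_subtype_nilpotent _ (fittingHall_nilpotent ↥M)
      obtain ⟨H₁, hH₁, hF'H₁⟩ := exists_maxNil _ hF'nil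
      have hHH₁ : H = H₁ := by
        apply maxNil_unique hG hCN hH hH₁
        intro h
        apply hS1
        rw [eq_bot_iff, ← h]
        exact le_inf hS (hSF'.trans hF'H₁)
      rw [← hHH₁] at hF'H₁
      have hF'1 : (Cfsg.fittingHall ↥M).map M.subtype ≠ ⊥ := by
        intro h
        apply hS1
        rw [eq_bot_iff, ← h]
        exact hSF'
      have hMle := le_normalizer_of_normal_le hG hCN hH hF'H₁ hF'1
        (le_normalizer_map_subtype (Cfsg.fittingHall ↥M))
      rw [hNH] at hMle
      exact hMnil (Cfsg.Agent.helper8.CN.nilpotent_of_le hMle hH.1)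
    · haveI := hQnil
      obtain ⟨Lb, hLbn, hLbcop, n, hn⟩ :=
        nilpotent_exists_normal_pcomplement (X := ↥M ⧸ Cfsg.fittingHall ↥M) p
      haveI := hLbn
      haveI hLn : (Lb.comap (QuotientGroup.mk' (Cfsg.fittingHall ↥M))).Normal :=
        Subgroup.Normal.comap hLbn _
      have hidx : (Lb.comap (QuotientGroup.mk' (Cfsg.fittingHall ↥M))).index = p ^ n := by
        rw [Subgroup.index_comap_of_surjective _ (QuotientGroup.mk'_surjective _), hn]
      have hLtop : Lb.comap (QuotientGroup.mk' (Cfsg.fittingHall ↥M)) ≠ ⊤ := by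
        intro h
        have hn0 : n = 0 := by
          by_contra hn0
          rw [h, Subgroup.index_top] at hidx
          have : p ∣ 1 := by rw [hidx]; exact dvd_pow_self p hn0
          exact hp.one_lt.ne' (Nat.dvd_one.mp this)
        rw [hn0, pow_zero, Subgroup.index_eq_one] at hn
        rw [hn, Subgroup.card_top] at hLbcop
        have hcard := Subgroup.card_eq_card_quotient_mul_card_subgroup (Cfsg.fittingHall ↥M)
        rw [hcard] at hpM
        rcases (Nat.Prime.dvd_mul hp).mp hpM with h1 | h1
        · exact hp.one_lt.ne' (Nat.Coprime.eq_one_of_dvd hLbcop.symm h1)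
        · exact hpF h1
      exact sylow_not_le_commutator _ hLtop hidx (S.subtype hSM) hSMcomm

end Cfsg.Agent.H16CN
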