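import Mathlib
import Cfsg.Agent.H16CN8

set_option autoImplicit false
set_option linter.style.haveILetI false
set_option linter.unusedSectionVars false

namespace Cfsg.Agent.H16CN

open scoped Pointwise commutatorElement
open Cfsg

universe u

variable {G : Type u} [Group G] [Finite G]

theorem normalizer_maxNil_ne_top (hG : Cfsg.IsMinSimpleOddOrder G) {H : Subgroup G}
    (hH : IsMaxNil H) : Subgroup.normalizer (H : Set G) ≠ ⊤ := by
  intro h
  haveI := hG.2.1
  have hn : H.Normal := Subgroup.normalizer_eq_top_iff.mp h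
  rcases hn.eq_bot_or_eq_top with h1 | h1
  · exact maxNil_ne_bot hG hH h1
  · exact maxNil_ne_top hG hH h1

theorem fittingHall_normalizer_maxNil (hCN : Cfsg.IsCNGroup G)
    {H : Subgroup G} (hH : IsMaxNil H) :
    Cfsg.fittingHall ↥(Subgroup.normalizer (H : Set G)) =
      H.subgroupOf (Subgroup.normalizer (H : Set G)) := by
  have hn : (H.subgroupOf (Subgroup.normalizer (H : Set G))).Normal :=
    Subgroup.normal_in_normalizer
  have hHN : H ≤ Subgroup.normalizer (H : Set G) := Subgroup.le_normalizer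
  generalize Subgroup.normalizer (H : Set G) = N at hn hHN
  have hge : H.subgroupOf N ≤ Cfsg.fittingHall ↥N := by
    apply Cfsg.Agent.helper7.le_fittingHall hn
    · haveI := hH.1
      exact Group.nilpotent_of_mulEquiv (Subgroup.subgroupOfEquivOfLe hHN).symm
    · have h1 : Nat.card ↥(H.subgroupOf N) = Nat.card ↥H :=
        Nat.card_congr (Subgroup.subgroupOfEquivOfLe hHN).toEquiv
      have h2 : (H.subgroupOf N).index ∣ H.index :=
        Dvd.intro _ (Subgroup.relIndex_mul_index hHN)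
      rw [h1]
      exact Nat.Coprime.coprime_dvd_right h2
        (Cfsg.Agent.helper8.CN.coprime_card_index hCN H hH.1 hH.2)
  apply le_antisymm _ hge
  have hF'nil := map_subtype_nilpotent _ (fittingHall_nilpotent ↥N)
  have hHF' : H ≤ (Cfsg.fittingHall ↥N).map N.subtype := by
    intro x hx
    exact ⟨⟨x, hHN hx⟩, hge (Subgroup.mem_subgroupOf.mpr hx), rfl⟩
  have heq := hH.2 _ hF'nil hHF'
  intro x hx
  rw [Subgroup.mem_subgroupOf, ← heq]
  exact ⟨x, hx, rfl⟩

/-- Transport of a complement inside `↥N` to the ambient group. -/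
theorem complIn_of_isComplement' {N H : Subgroup G} (hHN : H ≤ N) {E₀ : Subgroup ↥N}
    (hcompl : Subgroup.IsComplement' (H.subgroupOf N) E₀)
    (hFtop : H.subgroupOf N ≠ ⊤)
    (hfpf : ∀ e ∈ E₀, e ≠ 1 → H.subgroupOf N ⊓ Subgroup.centralizer ({e} : Set ↥N) = ⊥) :
    Cfsg.IsComplIn H (E₀.map N.subtype) N ∧ E₀.map N.subtype ≠ ⊥ ∧
      ∀ e ∈ E₀.map N.subtype, e ≠ 1 → H ⊓ Subgroup.centralizer ({e} : Set G) = ⊥ := by
  refine ⟨⟨hHN, Subgroup.map_subtype_le _, ?_, ?_⟩, ?_, ?_⟩
  · rw [eq_bot_iff]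
    rintro x hx
    obtain ⟨hxH, e, he, rfl⟩ := Subgroup.mem_inf.mp hx
    have : e ∈ H.subgroupOf N ⊓ E₀ :=
      Subgroup.mem_inf.mpr ⟨Subgroup.mem_subgroupOf.mpr hxH, he⟩
    rw [hcompl.disjoint.eq_bot, Subgroup.mem_bot] at this
    rw [this]
    exact Subgroup.one_mem _
  · intro m hm
    obtain ⟨⟨f, e⟩, hfe⟩ := hcompl.2 ⟨m, hm⟩
    refine ⟨(f : ↥N), Subgroup.mem_subgroupOf.mp f.2, (e : ↥N), ⟨e, e.2, rfl⟩, ?_⟩
    have := congrArg Subtype.val hfe
    simpa using this.symm
  · intro h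
    apply hFtop
    rw [Subgroup.map_eq_bot_iff_of_injective _ N.subtype_injective] at h
    rw [h] at hcompl
    exact Subgroup.isComplement'_bot_right.mp hcompl
  · rintro _ ⟨e, he, rfl⟩ he1
    have he1' : e ≠ 1 := fun h => he1 (by rw [h]; rfl)
    rw [eq_bot_iff]
    intro x hx
    obtain ⟨hxH, hxc⟩ := Subgroup.mem_inf.mp hx
    have : (⟨x, hHN hxH⟩ : ↥N) ∈ H.subgroupOf N ⊓ Subgroup.centralizer ({e} : Set ↥N) := by
      refine Subgroup.mem_inf.mpr ⟨Subgroup.mem_subgroupOf.mpr hxH, ?_⟩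
      rw [Subgroup.mem_centralizer_singleton_iff] at hxc ⊢
      exact Subtype.ext hxc
    rw [hfpf e he he1', Subgroup.mem_bot] at this
    rw [Subgroup.mem_bot]
    exact congrArg Subtype.val this

theorem part1_compl (hG : Cfsg.IsMinSimpleOddOrder G) (hCN : Cfsg.IsCNGroup G)
    {H : Subgroup G} (hH : IsMaxNil H) :
    ∃ E : Subgroup G, Cfsg.IsComplIn H E (Subgroup.normalizer (H : Set G)) ∧ E ≠ ⊥ ∧
      ∀ e ∈ E, e ≠ 1 → H ⊓ Subgroup.centralizer ({e} : Set G) = ⊥ := by
  obtain ⟨-, hFtop, ⟨E₀, hcompl, hfpf⟩, -⟩ := frob_structure hG hCN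
    (normalizer_maxNil_ne_top hG hH) (normalizer_maxNil_not_nilpotent hG hCN hH)
  rw [fittingHall_normalizer_maxNil hCN hH] at hFtop hcompl hfpf
  exact ⟨_, complIn_of_isComplement' Subgroup.le_normalizer hcompl hFtop hfpf⟩

theorem part1_coatom (hG : Cfsg.IsMinSimpleOddOrder G) (hCN : Cfsg.IsCNGroup G)
    {H : Subgroup G} (hH : IsMaxNil H) : IsCoatom (Subgroup.normalizer (H : Set G)) := by
  refine ⟨normalizer_maxNil_ne_top hG hH, ?_⟩
  intro K hNK
  by_contra hKtop
  have hH1 := maxNil_ne_bot hG hH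
  have hNnn := normalizer_maxNil_not_nilpotent hG hCN hH
  have hKnn : ¬ Group.IsNilpotent ↥K := fun h =>
    hNnn (Cfsg.Agent.helper8.CN.nilpotent_of_le hNK.le h)
  obtain ⟨hF1, -, -, hQnil⟩ := frob_structure hG hCN hKtop hKnn
  have hF'nil := map_subtype_nilpotent _ (fittingHall_nilpotent ↥K)
  have hF'1 : (Cfsg.fittingHall ↥K).map K.subtype ≠ ⊥ := by
    rwa [Ne, Subgroup.map_eq_bot_iff_of_injective _ K.subtype_injective]
  have hKF' := le_normalizer_map_subtype (Cfsg.fittingHall ↥K)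
  by_cases hcase : H ⊓ (Cfsg.fittingHall ↥K).map K.subtype = ⊥
  · -- N embeds into the nilpotent quotient
    have hHK : H ≤ K := Subgroup.le_normalizer.trans hNK.le
    have hX : Subgroup.normalizer (H : Set G) ⊓ (Cfsg.fittingHall ↥K).map K.subtype = ⊥ := by
      rw [eq_bot_iff]
      intro x hx
      obtain ⟨hxN, hxF⟩ := Subgroup.mem_inf.mp hx
      obtain ⟨h, hh, hh1⟩ := (Subgroup.bot_or_exists_ne_one _).resolve_left hH1
      have hcomm : ∀ h ∈ H, x * h = h * x := by
        intro h hh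
        have hc1 : x * h * x⁻¹ * h⁻¹ ∈ H :=
          H.mul_mem ((Subgroup.mem_normalizer_iff.mp hxN h).mp hh) (H.inv_mem hh)
        have hc2 : x * h * x⁻¹ * h⁻¹ ∈ (Cfsg.fittingHall ↥K).map K.subtype := by
          have h1 : h * x⁻¹ * h⁻¹ ∈ (Cfsg.fittingHall ↥K).map K.subtype :=
            (Subgroup.mem_normalizer_iff.mp (hKF' (hHK hh)) x⁻¹).mp (Subgroup.inv_mem _ hxF)
          have := Subgroup.mul_mem _ hxF h1
          have e : x * (h * x⁻¹ * h⁻¹) = x * h * x⁻¹ * h⁻¹ := by group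
          rwa [e] at this
        have hc : x * h * x⁻¹ * h⁻¹ ∈ H ⊓ (Cfsg.fittingHall ↥K).map K.subtype :=
          Subgroup.mem_inf.mpr ⟨hc1, hc2⟩
        rw [hcase, Subgroup.mem_bot] at hc
        calc x * h = (x * h * x⁻¹ * h⁻¹) * h * x := by group
          _ = h * x := by rw [hc, one_mul]
      have hxH : x ∈ H := by
        apply maxNil_centralizer_le hG hCN hH h hh hh1
        rw [Subgroup.mem_centralizer_singleton_iff]
        exact hcomm h hh
      have : x ∈ H ⊓ (Cfsg.fittingHall ↥K).map K.subtype := Subgroup.mem_inf.mpr ⟨hxH, hxF⟩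
      rwa [hcase] at this
    apply hNnn
    haveI := hQnil
    apply Subgroup.isNilpotent_of_ker_le_center
      ((QuotientGroup.mk' (Cfsg.fittingHall ↥K)).comp (Subgroup.inclusion hNK.le))
    intro n hn
    rw [MonoidHom.mem_ker, MonoidHom.comp_apply, QuotientGroup.mk'_apply,
      QuotientGroup.eq_one_iff] at hn
    have : (n : G) ∈ Subgroup.normalizer (H : Set G) ⊓ (Cfsg.fittingHall ↥K).map K.subtype :=
      Subgroup.mem_inf.mpr ⟨n.2, ⟨_, hn, rfl⟩⟩
    rw [hX, Subgroup.mem_bot] at this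
    have hn1 : n = 1 := Subtype.ext this
    rw [hn1]
    exact Subgroup.one_mem _
  · obtain ⟨H₁, hH₁, hF'H₁⟩ := exists_maxNil _ hF'nil
    have hHH₁ : H = H₁ := by
      apply maxNil_unique hG hCN hH hH₁
      intro h
      apply hcase
      rw [eq_bot_iff, ← h]
      exact inf_le_inf_left _ hF'H₁
    rw [← hHH₁] at hF'H₁
    have hKle := le_normalizer_of_normal_le hG hCN hH hF'H₁ hF'1 hKF'
    exact absurd (lt_of_lt_of_le hNK hKle) (lt_irrefl _)

/-- Every maximal subgroup is the normalizer of a maximal nilpotent subgroup. -/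
theorem part2 (hG : Cfsg.IsMinSimpleOddOrder G) (hCN : Cfsg.IsCNGroup G)
    {M : Subgroup G} (hM : IsCoatom M) :
    ∃ H : Subgroup G, IsMaxNil H ∧ M = Subgroup.normalizer (H : Set G) := by
  have hMnn : ¬ Group.IsNilpotent ↥M := by
    intro hMnil
    obtain ⟨H₁, hH₁, hMH₁⟩ := exists_maxNil M hMnil
    have hMH : M = H₁ := by
      rcases eq_or_lt_of_le hMH₁ with h | h
      · exact h
      · exact absurd (hM.2 H₁ h) (maxNil_ne_top hG hH₁)
    subst hMH
    have hNM : Subgroup.normalizer (M : Set G) = M := by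
      rcases eq_or_lt_of_le (Subgroup.le_normalizer : M ≤ Subgroup.normalizer (M : Set G))
        with h | h
      · exact h.symm
      · exact absurd (hM.2 _ h) (normalizer_maxNil_ne_top hG hH₁)
    apply normalizer_maxNil_not_nilpotent hG hCN hH₁
    rw [hNM]
    exact hMnil
  obtain ⟨hF1, -, -, -⟩ := frob_structure hG hCN hM.1 hMnn
  have hF'nil := map_subtype_nilpotent _ (fittingHall_nilpotent ↥M)
  have hF'1 : (Cfsg.fittingHall ↥M).map M.subtype ≠ ⊥ := by
    rwa [Ne, Subgroup.map_eq_bot_iff_of_injective _ M.subtype_injective]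
  have hMF' := le_normalizer_map_subtype (Cfsg.fittingHall ↥M)
  obtain ⟨H, hH, hF'H⟩ := exists_maxNil _ hF'nil
  have hMle := le_normalizer_of_normal_le hG hCN hH hF'H hF'1 hMF'
  refine ⟨H, hH, ?_⟩
  rcases eq_or_lt_of_le hMle with h | h
  · exact h
  · exact absurd (hM.2 _ h) (normalizer_maxNil_ne_top hG hH)

end Cfsg.Agent.H16CN
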