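import Mathlib
import Cfsg.Agent.H16CN9

set_option autoImplicit false
set_option linter.style.haveILetI false
set_option linter.unusedSectionVars false

namespace Cfsg.Agent.H16CN

open scoped Pointwise commutatorElement
open Cfsg

universe u

variable {G : Type u} [Group G] [Finite G]

theorem mem_conj_map {H : Subgroup G} {g y : G} :
    y ∈ H.map (MulAut.conj g).toMonoidHom ↔ g⁻¹ * y * g ∈ H := by
  constructor
  · rintro ⟨x, hx, rfl⟩
    have : g⁻¹ * (MulAut.conj g).toMonoidHom x * g = x := by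
      simp [MulAut.conj_apply, mul_assoc]
    rwa [this]
  · intro h
    exact ⟨g⁻¹ * y * g, h, by simp [MulAut.conj_apply, mul_assoc]⟩

theorem maxNil_conj {H : Subgroup G} (hH : IsMaxNil H) (g : G) :
    IsMaxNil (H.map (MulAut.conj g).toMonoidHom) := by
  haveI := hH.1
  refine ⟨Group.nilpotent_of_mulEquiv
    (H.equivMapOfInjective _ (MulAut.conj g).injective), ?_⟩
  intro L hL hHL
  haveI := hL
  have hL'nil : Group.IsNilpotent ↥(L.map (MulAut.conj g⁻¹).toMonoidHom) :=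
    Group.nilpotent_of_mulEquiv (L.equivMapOfInjective _ (MulAut.conj g⁻¹).injective)
  have hHL' : H ≤ L.map (MulAut.conj g⁻¹).toMonoidHom := by
    intro x hx
    rw [mem_conj_map, inv_inv]
    apply hHL
    rw [mem_conj_map]
    have : g⁻¹ * (g * x * g⁻¹) * g = x := by group
    rwa [this]
  have heq := hH.2 _ hL'nil hHL'
  apply le_antisymm _ hHL
  intro y hy
  rw [mem_conj_map, ← heq, mem_conj_map, inv_inv]
  have : g * (g⁻¹ * y * g) * g⁻¹ = y := by group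
  rwa [this]

theorem maxNil_conj_or_coprime (hG : Cfsg.IsMinSimpleOddOrder G) (hCN : Cfsg.IsCNGroup G)
    {H₁ H₂ : Subgroup G} (hH₁ : IsMaxNil H₁) (hH₂ : IsMaxNil H₂) :
    (∃ g : G, H₂ = H₁.map (MulAut.conj g).toMonoidHom) ∨
      (Nat.card H₁).Coprime (Nat.card H₂) := by
  by_cases hc : (Nat.card H₁).Coprime (Nat.card H₂)
  · exact Or.inr hc
  · left
    obtain ⟨p, hp, hp1, hp2⟩ := Nat.Prime.not_coprime_iff_dvd.mp hc
    haveI : Fact p.Prime := ⟨hp⟩
    obtain ⟨S₁, hS₁⟩ := Cfsg.Agent.helper8.CN.exists_sylow_le hCN H₁ hH₁.1 hH₁.2 p hp1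
    obtain ⟨S₂, hS₂⟩ := Cfsg.Agent.helper8.CN.exists_sylow_le hCN H₂ hH₂.1 hH₂.2 p hp2
    obtain ⟨g, hg⟩ := MulAction.exists_smul_eq G S₁ S₂
    refine ⟨g, ?_⟩
    have hS₂1 : (S₂ : Subgroup G) ≠ ⊥ :=
      S₂.ne_bot_of_dvd_card (hp2.trans (Subgroup.card_subgroup_dvd_card H₂))
    have hS₂le : (S₂ : Subgroup G) ≤ H₁.map (MulAut.conj g).toMonoidHom := by
      rw [← hg, Sylow.smul_def, Sylow.pointwise_smul_def, ← conj_map_eq_smul]
      exact Subgroup.map_mono hS₁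
    symm
    apply maxNil_unique hG hCN (maxNil_conj hH₁ g) hH₂
    intro h
    apply hS₂1
    rw [eq_bot_iff, ← h]
    exact le_inf hS₂le hS₂

theorem prime_dvd_card_of_mem {q : ℕ} (hq : q.Prime) {H : Subgroup G} {y : G} (hy : y ∈ H)
    (hy1 : y ≠ 1) (hyq : IsPGroup q (Subgroup.zpowers y)) : q ∣ Nat.card H := by
  haveI : Fact q.Prime := ⟨hq⟩
  obtain ⟨k, hk⟩ := hyq.exists_card_eq
  rw [Nat.card_zpowers] at hk
  have hk0 : k ≠ 0 := by
    intro h0
    rw [h0, pow_zero, orderOf_eq_one_iff] at hk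
    exact hy1 hk
  have h1 : orderOf y ∣ Nat.card H := by
    have : orderOf (⟨y, hy⟩ : ↥H) ∣ Nat.card H := orderOf_dvd_natCard _
    rwa [Subgroup.orderOf_mk] at this
  rw [hk] at h1
  exact (dvd_pow_self q hk0).trans h1

theorem commuting_chain (hG : Cfsg.IsMinSimpleOddOrder G) (hCN : Cfsg.IsCNGroup G)
    (p q r : ℕ) (hp : p.Prime) (hq : q.Prime) (hr : r.Prime) (x y y' z : G)
    (hx1 : x ≠ 1) (hy1 : y ≠ 1) (hy'1 : y' ≠ 1) (hz1 : z ≠ 1)
    (hxp : IsPGroup p (Subgroup.zpowers x)) (hyq : IsPGroup q (Subgroup.zpowers y))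
    (hy'q : IsPGroup q (Subgroup.zpowers y')) (hzr : IsPGroup r (Subgroup.zpowers z))
    (hxy : x * y = y * x) (hyz : y' * z = z * y') :
    ∃ x' z' : G, x' ≠ 1 ∧ z' ≠ 1 ∧ IsPGroup p (Subgroup.zpowers x') ∧
      IsPGroup r (Subgroup.zpowers z') ∧ x' * z' = z' * x' := by
  haveI : Fact p.Prime := ⟨hp⟩
  haveI : Fact r.Prime := ⟨hr⟩
  by_cases hpr : p = r
  · subst hpr
    exact ⟨x, x, hx1, hx1, hxp, hxp, rfl⟩
  · obtain ⟨H₁, hH₁, hC₁⟩ := exists_maxNil _ (hCN x hx1)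
    obtain ⟨H₂, hH₂, hC₂⟩ := exists_maxNil _ (hCN y' hy'1)
    have hxH₁ : x ∈ H₁ := hC₁ (Subgroup.mem_centralizer_singleton_iff.mpr rfl)
    have hyH₁ : y ∈ H₁ := hC₁ (Subgroup.mem_centralizer_singleton_iff.mpr hxy.symm)
    have hy'H₂ : y' ∈ H₂ := hC₂ (Subgroup.mem_centralizer_singleton_iff.mpr rfl)
    have hzH₂ : z ∈ H₂ := hC₂ (Subgroup.mem_centralizer_singleton_iff.mpr hyz.symm)
    have hq1 := prime_dvd_card_of_mem hq hyH₁ hy1 hyq
    have hq2 := prime_dvd_card_of_mem hq hy'H₂ hy'1 hy'q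
    have hnc : ¬ (Nat.card H₁).Coprime (Nat.card H₂) :=
      Nat.Prime.not_coprime_iff_dvd.mpr ⟨q, hq, hq1, hq2⟩
    obtain ⟨g, hg⟩ := (maxNil_conj_or_coprime hG hCN hH₁ hH₂).resolve_right hnc
    have hx'H₂ : g * x * g⁻¹ ∈ H₂ := by
      rw [hg, mem_conj_map]
      have : g⁻¹ * (g * x * g⁻¹) * g = x := by group
      rwa [this]
    have hx'1 : g * x * g⁻¹ ≠ 1 := by
      intro h
      apply hx1
      have : x = g⁻¹ * (g * x * g⁻¹) * g := by group
      rw [this, h]; group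
    have hord : orderOf (g * x * g⁻¹) = orderOf x := by
      have := orderOf_injective (MulAut.conj g).toMonoidHom (MulAut.conj g).injective x
      simpa [MulAut.conj_apply] using this
    have hx'p : IsPGroup p (Subgroup.zpowers (g * x * g⁻¹)) := by
      obtain ⟨k, hk⟩ := hxp.exists_card_eq
      rw [Nat.card_zpowers] at hk
      apply IsPGroup.of_card (n := k)
      rw [Nat.card_zpowers, hord, hk]
    refine ⟨g * x * g⁻¹, z, hx'1, hz1, hx'p, hzr, ?_⟩
    haveI := hH₂.1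
    obtain ⟨a, ha⟩ := hxp.exists_card_eq
    obtain ⟨b, hb⟩ := hzr.exists_card_eq
    rw [Nat.card_zpowers] at ha hb
    have hcop : (orderOf (⟨g * x * g⁻¹, hx'H₂⟩ : ↥H₂)).Coprime (orderOf (⟨z, hzH₂⟩ : ↥H₂)) := by
      rw [Subgroup.orderOf_mk, Subgroup.orderOf_mk, hord, ha, hb]
      exact Nat.Coprime.pow a b ((Nat.coprime_primes hp hr).mpr hpr)
    have := (Cfsg.Agent.helper19.commute_of_coprime_of_isNilpotent ↥H₂ _ _ hcop).eq
    exact congrArg Subtype.val this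

end Cfsg.Agent.H16CN
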