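import Mathlib
import Cfsg.Agent.H16CN10

set_option autoImplicit false
set_option linter.style.haveILetI false
set_option linter.unusedSectionVars false

namespace Cfsg.Agent.H16CN

open scoped Pointwise commutatorElement
open Cfsg

universe u

variable {G : Type u} [Group G] [Finite G]

theorem zpowers_nilpotent (g : G) : Group.IsNilpotent ↥(Subgroup.zpowers g) := by
  letI : CommGroup ↥(Subgroup.zpowers g) :=
    { (inferInstance : Group ↥(Subgroup.zpowers g)) with
      mul_comm := fun a b => by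
        obtain ⟨a, ha⟩ := a
        obtain ⟨b, hb⟩ := b
        obtain ⟨i, rfl⟩ := Subgroup.mem_zpowers_iff.mp ha
        obtain ⟨j, rfl⟩ := Subgroup.mem_zpowers_iff.mp hb
        apply Subtype.ext
        show g ^ i * g ^ j = g ^ j * g ^ i
        rw [← zpow_add, ← zpow_add, add_comm] }
  exact CommGroup.isNilpotent

theorem fittingHall_of_eq_normalizer (hCN : Cfsg.IsCNGroup G) {H : Subgroup G} (hH : IsMaxNil H)
    (N : Subgroup G) (hN : N = Subgroup.normalizer (H : Set G)) :
    Cfsg.fittingHall ↥N = H.subgroupOf N := by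
  subst hN
  exact fittingHall_normalizer_maxNil hCN hH

/-- A maximal nilpotent subgroup is determined by its normalizer. -/
theorem maxNil_eq_of_normalizer_eq (hCN : Cfsg.IsCNGroup G) {H H' : Subgroup G}
    (hH : IsMaxNil H) (hH' : IsMaxNil H')
    (h : Subgroup.normalizer (H : Set G) = Subgroup.normalizer (H' : Set G)) : H = H' := by
  have h1 := fittingHall_of_eq_normalizer hCN hH _ rfl
  have h2 := fittingHall_of_eq_normalizer hCN hH' _ h
  rw [h1, Subgroup.subgroupOf_inj, inf_eq_left.mpr Subgroup.le_normalizer,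
    inf_eq_left.mpr (h ▸ Subgroup.le_normalizer)] at h2
  exact h2

/-- For a maximal subgroup `M`, `M_F` is a maximal nilpotent subgroup with normalizer `M`. -/
theorem fittingHallOf_coatom (hG : Cfsg.IsMinSimpleOddOrder G) (hCN : Cfsg.IsCNGroup G)
    {M : Subgroup G} (hM : IsCoatom M) :
    IsMaxNil (Cfsg.fittingHallOf M) ∧ M = Subgroup.normalizer (Cfsg.fittingHallOf M : Set G) := by
  obtain ⟨H, hH, hMH⟩ := part2 hG hCN hM
  have h1 := fittingHall_of_eq_normalizer hCN hH M hMH
  have hHM : H ≤ M := hMH ▸ Subgroup.le_normalizer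
  have h2 : Cfsg.fittingHallOf M = H := by
    unfold Cfsg.fittingHallOf
    rw [h1, Subgroup.map_subgroupOf_eq_of_le hHM]
  rw [h2]
  exact ⟨hH, hMH⟩

theorem normalizer_conj_map (H : Subgroup G) (g : G) :
    Subgroup.normalizer ((H.map (MulAut.conj g).toMonoidHom : Subgroup G) : Set G) =
      (Subgroup.normalizer (H : Set G)).map (MulAut.conj g).toMonoidHom :=
  (Subgroup.map_equiv_normalizer_eq H (MulAut.conj g)).symm

theorem card_conj_map (H : Subgroup G) (g : G) :
    Nat.card ↥(H.map (MulAut.conj g).toMonoidHom) = Nat.card ↥H :=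
  (Nat.card_congr (H.equivMapOfInjective _ (MulAut.conj g).injective).toEquiv).symm

theorem prod_dvd_of_pairwise_coprime {ι : Type*} [DecidableEq ι] (s : Finset ι) (f : ι → ℕ)
    (n : ℕ) (hcop : ∀ i ∈ s, ∀ j ∈ s, i ≠ j → (f i).Coprime (f j)) (hdvd : ∀ i ∈ s, f i ∣ n) :
    ∏ i ∈ s, f i ∣ n := by
  induction s using Finset.induction_on with
  | empty => simp
  | insert a s ha ih =>
    rw [Finset.prod_insert ha]
    apply Nat.Coprime.mul_dvd_of_dvd_of_dvd
    · apply Nat.Coprime.prod_right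
      intro i hi
      exact hcop a (Finset.mem_insert_self a s) i (Finset.mem_insert_of_mem hi)
        (fun h => ha (h ▸ hi))
    · exact hdvd a (Finset.mem_insert_self a s)
    · apply ih
      · intro i hi j hj hij
        exact hcop i (Finset.mem_insert_of_mem hi) j (Finset.mem_insert_of_mem hj) hij
      · intro i hi
        exact hdvd i (Finset.mem_insert_of_mem hi)

section main

variable (hG : Cfsg.IsMinSimpleOddOrder G) (hCN : Cfsg.IsCNGroup G) (k : ℕ)
  (Mrep : Fin k → Subgroup G) (hmax : ∀ i, IsCoatom (Mrep i))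
  (hnc : ∀ i j, i ≠ j → ∀ g : G, Mrep j ≠ (Mrep i).map (MulAut.conj g).toMonoidHom)
  (hall : ∀ M : Subgroup G, IsCoatom M →
    ∃ i, ∃ g : G, M = (Mrep i).map (MulAut.conj g).toMonoidHom)

include hG hCN hmax hnc in
theorem s1484_coprime : ∀ i j, i ≠ j →
    (Nat.card (Cfsg.fittingHallOf (Mrep i))).Coprime (Nat.card (Cfsg.fittingHallOf (Mrep j))) := by
  intro i j hij
  obtain ⟨hHi, hMi⟩ := fittingHallOf_coatom hG hCN (hmax i)
  obtain ⟨hHj, hMj⟩ := fittingHallOf_coatom hG hCN (hmax j)
  rcases maxNil_conj_or_coprime hG hCN hHi hHj with ⟨g, hg⟩ | h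
  · exfalso
    apply hnc i j hij g
    rw [hMj, hg, normalizer_conj_map, ← hMi]
  · exact h

include hG hCN hmax hall in
theorem s1484_maxNil_conj {H : Subgroup G} (hH : IsMaxNil H) :
    ∃ i, ∃ g : G, H = (Cfsg.fittingHallOf (Mrep i)).map (MulAut.conj g).toMonoidHom := by
  obtain ⟨i, g, hig⟩ := hall _ (part1_coatom hG hCN hH)
  obtain ⟨hHi, hMi⟩ := fittingHallOf_coatom hG hCN (hmax i)
  refine ⟨i, g, ?_⟩
  apply maxNil_eq_of_normalizer_eq hCN hH (maxNil_conj hHi g)
  rw [normalizer_conj_map, ← hMi]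
  exact hig

include hG hCN hmax hall in
theorem s1484_cover (x : G) :
    ∃ i, ∃ g : G, g * x * g⁻¹ ∈ Cfsg.fittingHallOf (Mrep i) := by
  obtain ⟨H, hH, hxH⟩ := exists_maxNil _ (zpowers_nilpotent x)
  obtain ⟨i, g, hg⟩ := s1484_maxNil_conj hG hCN k Mrep hmax hall hH
  refine ⟨i, g⁻¹, ?_⟩
  have hx : x ∈ H := hxH (Subgroup.mem_zpowers x)
  rw [hg, mem_conj_map] at hx
  rwa [inv_inv]

include hG hCN hmax hnc hall in
theorem s1484_prod :
    ∏ i, Nat.card (Cfsg.fittingHallOf (Mrep i)) = Nat.card G := by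
  apply Nat.dvd_antisymm
  · apply prod_dvd_of_pairwise_coprime
    · intro i _ j _ hij
      exact s1484_coprime hG hCN k Mrep hmax hnc i j hij
    · intro i _
      exact Subgroup.card_subgroup_dvd_card _
  · rw [Nat.dvd_iff_prime_pow_dvd_dvd]
    intro p n hp hpn
    haveI : Fact p.Prime := ⟨hp⟩
    obtain ⟨P⟩ : Nonempty (Sylow p G) := inferInstance
    have h1 : p ^ n ∣ Nat.card (P : Subgroup G) := by
      have hcard := (P : Subgroup G).card_mul_index
      rw [← hcard] at hpn
      refine Nat.Coprime.dvd_of_dvd_mul_right ?_ hpn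
      apply Nat.Coprime.pow_left
      exact (Nat.Prime.coprime_iff_not_dvd hp).mpr P.not_dvd_index
    obtain ⟨H, hH, hPH⟩ := exists_maxNil _ P.isPGroup'.isNilpotent
    obtain ⟨i, g, hg⟩ := s1484_maxNil_conj hG hCN k Mrep hmax hall hH
    have h2 : Nat.card (P : Subgroup G) ∣ Nat.card (Cfsg.fittingHallOf (Mrep i)) := by
      have h3 := Subgroup.card_dvd_of_le hPH
      rwa [hg, card_conj_map] at h3
    exact (h1.trans h2).trans (Finset.dvd_prod_of_mem _ (Finset.mem_univ i))

end main

end Cfsg.Agent.H16CN
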