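import Mathlib

set_option autoImplicit false

namespace Cfsg.Agent.H16ES

variable {G : Type*} [Group G]

lemma relIndex_mul_card {H K : Subgroup G} (h : H ≤ K) :
    H.relIndex K * Nat.card H = Nat.card K := by
  have := Subgroup.card_mul_index (H.subgroupOf K)
  rw [Nat.card_congr (Subgroup.subgroupOfEquivOfLe h).toEquiv] at this
  rw [Subgroup.relIndex, mul_comm]; exact this

/-- data of an extraspecial-like normal subgroup of order 32 -/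
structure ESD (H Z : Subgroup G) : Prop where
  nH : H.Normal
  cardH : Nat.card H = 32
  ZH : Z ≤ H
  cardZ : Nat.card Z = 2
  Zc : ∀ z ∈ Z, ∀ g : G, g * z = z * g
  comm : ∀ h ∈ H, ∀ k ∈ H, h * k * h⁻¹ * k⁻¹ ∈ Z
  sq : ∀ h ∈ H, h * h ∈ Z

variable {H Z : Subgroup G}

lemma ESD.conj_mem (d : ESD H Z) (g : G) {h : G} (hh : h ∈ H) : g * h * g⁻¹ ∈ H :=
  d.nH.conj_mem h hh g

lemma ESD.cm_mem (d : ESD H Z) (g : G) {h : G} (hh : h ∈ H) : g * h * g⁻¹ * h⁻¹ ∈ H :=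
  H.mul_mem (d.conj_mem g hh) (H.inv_mem hh)

lemma ESD.zsq (d : ESD H Z) {z : G} (hz : z ∈ Z) : z * z = 1 := by
  have h1 : (⟨z, hz⟩ : Z) ^ 2 = 1 := by
    rw [← d.cardZ]; exact pow_card_eq_one'
  have h2 := congrArg Subtype.val h1
  simpa [pow_two] using h2

/-- the preimage of the fixed points of `g` on `H/Z` -/
def ESD.X (d : ESD H Z) (g : G) : Subgroup G where
  carrier := {h | h ∈ H ∧ g * h * g⁻¹ * h⁻¹ ∈ Z}
  one_mem' := ⟨H.one_mem, by simp⟩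
  mul_mem' := by
    rintro h k ⟨hh, hz⟩ ⟨hk, kz⟩
    refine ⟨H.mul_mem hh hk, ?_⟩
    have e : g * (h * k) * g⁻¹ * (h * k)⁻¹ =
        (g * h * g⁻¹ * h⁻¹) * (h * (g * k * g⁻¹ * k⁻¹) * h⁻¹) := by group
    have e2 : h * (g * k * g⁻¹ * k⁻¹) * h⁻¹ = g * k * g⁻¹ * k⁻¹ := by
      rw [d.Zc _ kz h]; group
    rw [e, e2]
    exact Z.mul_mem hz kz
  inv_mem' := by
    rintro h ⟨hh, hz⟩
    refine ⟨H.inv_mem hh, ?_⟩
    have e : g * h⁻¹ * g⁻¹ * h⁻¹⁻¹ = h⁻¹ * (g * h * g⁻¹ * h⁻¹)⁻¹ * h := by group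
    have e2 : h⁻¹ * (g * h * g⁻¹ * h⁻¹)⁻¹ * h = (g * h * g⁻¹ * h⁻¹)⁻¹ := by
      rw [d.Zc _ (Z.inv_mem hz) h⁻¹]; group
    rw [e, e2]
    exact Z.inv_mem hz

lemma ESD.mem_X (d : ESD H Z) {g h : G} : h ∈ d.X g ↔ h ∈ H ∧ g * h * g⁻¹ * h⁻¹ ∈ Z := Iff.rfl

lemma ESD.X_le (d : ESD H Z) (g : G) : d.X g ≤ H := fun _ hh => hh.1

/-- the centralizer of `g` in `H` -/
def CH (H : Subgroup G) (g : G) : Subgroup G := H ⊓ Subgroup.centralizer ({g} : Set G)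

lemma mem_CH {H : Subgroup G} {g h : G} : h ∈ CH H g ↔ h ∈ H ∧ g * h = h * g := by
  simp [CH, Subgroup.mem_centralizer_iff]

lemma ESD.CH_le_X (d : ESD H Z) (g : G) : CH H g ≤ d.X g := by
  intro h hh
  rw [mem_CH] at hh
  refine ⟨hh.1, ?_⟩
  have : g * h * g⁻¹ * h⁻¹ = 1 := by rw [hh.2]; group
  rw [this]; exact Z.one_mem

/-- commutators land in `X g` when `g²` acts trivially mod `Z`. -/
lemma ESD.cm_mem_X (d : ESD H Z) {g : G} (hg : ∀ h ∈ H, g * g * h * (g * g)⁻¹ * h⁻¹ ∈ Z)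
    {h : G} (hh : h ∈ H) : g * h * g⁻¹ * h⁻¹ ∈ d.X g := by
  refine ⟨d.cm_mem g hh, ?_⟩
  set c := g * h * g⁻¹ * h⁻¹ with hc
  have hcH : c ∈ H := d.cm_mem g hh
  -- g c g⁻¹ c = ζ
  have e : g * c * g⁻¹ * c⁻¹ = (g * g * h * (g * g)⁻¹ * h⁻¹) * (c * c)⁻¹ := by
    have e1 : (g * g * h * (g * g)⁻¹ * h⁻¹) = (g * c * g⁻¹) * c := by
      rw [hc]; group
    rw [e1]; group
  rw [e]
  exact Z.mul_mem (hg h hh) (Z.inv_mem (d.sq c hcH))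

end Cfsg.Agent.H16ES
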