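import Mathlib
import Cfsg.Agent.H16ES1

set_option autoImplicit false

namespace Cfsg.Agent.H16ES

variable {G : Type*} [Group G] {H Z : Subgroup G}

lemma dvd32 {n : ℕ} (h : n ∣ 32) : n = 1 ∨ n = 2 ∨ n = 4 ∨ n = 8 ∨ n = 16 ∨ n = 32 := by
  have h1 : n ≤ 32 := Nat.le_of_dvd (by norm_num) h
  interval_cases n <;> first | omega | (exfalso; revert h; decide)

lemma card_eq_ncard (S : Subgroup G) : Nat.card S = (S : Set G).ncard :=
  Nat.card_coe_set_eq (S : Set G)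

/-- counting the commutator map -/
lemma ESD.count_img [Finite G] (d : ESD H Z) (g : G) (A : Set G)
    (hA : ∀ h ∈ H, g * h * g⁻¹ * h⁻¹ ∈ A) :
    Nat.card H ≤ Nat.card (CH H g) * A.ncard := by
  classical
  have hfin : (H : Set G).Finite := Set.toFinite _
  have hCfin : ((CH H g : Subgroup G) : Set G).Finite := Set.toFinite _
  have h1 := Finset.card_le_mul_card_image (f := fun h : G => g * h * g⁻¹ * h⁻¹) hfin.toFinset
    (Nat.card (CH H g)) (by
      intro b hb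
      obtain ⟨h0, hh0, rfl⟩ := Finset.mem_image.mp hb
      rw [Set.Finite.mem_toFinset] at hh0
      rw [card_eq_ncard, Set.ncard_eq_toFinset_card _ hCfin]
      apply Finset.card_le_card_of_injOn (fun x => h0⁻¹ * x)
      · intro x hx
        simp only [Finset.coe_filter, Set.Finite.mem_toFinset, Set.mem_ofPred_eq] at hx
        simp only [Set.Finite.coe_toFinset, SetLike.mem_coe]
        rw [mem_CH]
        refine ⟨H.mul_mem (H.inv_mem hh0) hx.1, ?_⟩
        calc g * (h0⁻¹ * x)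
            = h0⁻¹ * (g * h0 * g⁻¹ * h0⁻¹)⁻¹ * (g * x * g⁻¹ * x⁻¹) * x * g := by group
          _ = h0⁻¹ * x * g := by rw [hx.2]; group
      · intro x _ y _ hxy
        exact mul_left_cancel hxy)
  have h2 : (Finset.image (fun h : G => g * h * g⁻¹ * h⁻¹) hfin.toFinset).card ≤ A.ncard := by
    rw [Set.ncard_eq_toFinset_card A (Set.toFinite A)]
    apply Finset.card_le_card
    intro x hx
    obtain ⟨h, hh, rfl⟩ := Finset.mem_image.mp hx
    rw [Set.Finite.mem_toFinset] at hh ⊢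
    exact hA h hh
  have h3 : hfin.toFinset.card = Nat.card H := by
    rw [card_eq_ncard, Set.ncard_eq_toFinset_card _ hfin]
  calc Nat.card H = hfin.toFinset.card := h3.symm
    _ ≤ _ := h1
    _ ≤ _ := Nat.mul_le_mul_left _ h2

lemma ESD.card_X_dvd [Finite G] (d : ESD H Z) (g : G) : Nat.card (d.X g) ∣ 32 := by
  rw [← d.cardH]; exact Subgroup.card_dvd_of_le (d.X_le g)

lemma ESD.card_X_ge [Finite G] (d : ESD H Z) {g : G}
    (hg : ∀ h ∈ H, g * g * h * (g * g)⁻¹ * h⁻¹ ∈ Z) : 8 ≤ Nat.card (d.X g) := by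
  have h1 := d.count_img g (d.X g : Set G) (fun h hh => d.cm_mem_X hg hh)
  rw [← card_eq_ncard, d.cardH] at h1
  have h2 : Nat.card (CH H g) ≤ Nat.card (d.X g) := Subgroup.card_le_of_le (d.CH_le_X g)
  have h3 : 32 ≤ Nat.card (d.X g) * Nat.card (d.X g) :=
    h1.trans (Nat.mul_le_mul_right _ h2)
  rcases dvd32 (d.card_X_dvd g) with h | h | h | h | h | h <;> rw [h] at h3 ⊢ <;> omega

/-- the full data -/
structure ESD2 (H Z : Subgroup G) (T f : G) : Prop extends ESD H Z where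
  T2 : T * T = 1
  hf : ∀ h ∈ H, f * h * f⁻¹ * h⁻¹ ∈ Z → h ∈ Z
  hfT : f * T * (f * T) ∈ H
  noE8 : ∀ A : Subgroup G, A ≤ H → (∀ a ∈ A, a * a = 1) → Nat.card A ≤ 4

variable {T f : G}

lemma ESD2.hgT (d : ESD2 H Z T f) : ∀ h ∈ H, T * T * h * (T * T)⁻¹ * h⁻¹ ∈ Z := by
  intro h _
  rw [d.T2]
  simp

lemma ESD2.hgfT (d : ESD2 H Z T f) :
    ∀ h ∈ H, (f * T) * (f * T) * h * ((f * T) * (f * T))⁻¹ * h⁻¹ ∈ Z := by
  intro h hh
  exact d.comm _ d.hfT h hh

lemma ESD2.card_XT_le [Finite G] (d : ESD2 H Z T f) : Nat.card (d.toESD.X T) ≤ 8 := by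
  by_contra hgt
  push Not at hgt
  have h16 : 16 ≤ Nat.card (d.toESD.X T) := by
    rcases dvd32 (d.toESD.card_X_dvd T) with h | h | h | h | h | h <;> rw [h] at hgt ⊢ <;> omega
  have h8 : 8 ≤ Nat.card (d.toESD.X (f * T)) := d.toESD.card_X_ge d.hgfT
  have r1 := relIndex_mul_card (d.toESD.X_le T)
  have r2 := relIndex_mul_card (d.toESD.X_le (f * T))
  have r3 := relIndex_mul_card
    (le_trans inf_le_left (d.toESD.X_le T) : d.toESD.X T ⊓ d.toESD.X (f * T) ≤ H)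
  have r4 : (d.toESD.X T ⊓ d.toESD.X (f * T)).relIndex H ≤
      (d.toESD.X T).relIndex H * (d.toESD.X (f * T)).relIndex H := Subgroup.relIndex_inf_le
  rw [d.cardH] at r1 r2 r3
  have hr1 : (d.toESD.X T).relIndex H ≤ 2 := by
    by_contra hc; push Not at hc
    have : 3 * 16 ≤ (d.toESD.X T).relIndex H * Nat.card (d.toESD.X T) :=
      Nat.mul_le_mul hc h16
    omega
  have hr2 : (d.toESD.X (f * T)).relIndex H ≤ 4 := by
    by_contra hc; push Not at hc
    have : 5 * 8 ≤ (d.toESD.X (f * T)).relIndex H * Nat.card (d.toESD.X (f * T)) :=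
      Nat.mul_le_mul hc h8
    omega
  have hr : (d.toESD.X T ⊓ d.toESD.X (f * T)).relIndex H ≤ 8 :=
    r4.trans ((Nat.mul_le_mul hr1 hr2).trans (by norm_num))
  have hc4 : 4 ≤ Nat.card ↥(d.toESD.X T ⊓ d.toESD.X (f * T)) := by
    by_contra hc; push Not at hc
    have : (d.toESD.X T ⊓ d.toESD.X (f * T)).relIndex H *
        Nat.card ↥(d.toESD.X T ⊓ d.toESD.X (f * T)) ≤ 8 * 3 :=
      Nat.mul_le_mul hr (by omega)
    omega
  have hex : ∃ h ∈ d.toESD.X T ⊓ d.toESD.X (f * T), h ∉ Z := by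
    by_contra hno
    push Not at hno
    have hle : d.toESD.X T ⊓ d.toESD.X (f * T) ≤ Z := hno
    have := Subgroup.card_le_of_le hle
    rw [d.cardZ] at this
    omega
  obtain ⟨h, ⟨h1, h2⟩, hnZ⟩ := hex
  apply hnZ
  apply d.hf h h1.1
  have e : f * h * f⁻¹ * h⁻¹ =
      (f * T) * (T * h * T⁻¹ * h⁻¹) * (f * T)⁻¹ * ((f * T) * h * (f * T)⁻¹ * h⁻¹) := by
    calc f * h * f⁻¹ * h⁻¹ = f * (T * T) * h * (T * T)⁻¹ * f⁻¹ * h⁻¹ := by rw [d.T2]; group
      _ = _ := by group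
  have e2 : (f * T) * (T * h * T⁻¹ * h⁻¹) * (f * T)⁻¹ = T * h * T⁻¹ * h⁻¹ := by
    rw [d.Zc _ h1.2 (f * T)]; group
  rw [e, e2]
  exact Z.mul_mem h1.2 h2.2

end Cfsg.Agent.H16ES
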