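import Mathlib
import Cfsg.Agent.H16ES2

set_option autoImplicit false

namespace Cfsg.Agent.H16ES

variable {G : Type*} [Group G] {H Z : Subgroup G} {T f : G}

/-- central elements of square one in `C_H(T)`. -/
def AT (H : Subgroup G) (T : G) : Subgroup G where
  carrier := {x | x ∈ CH H T ∧ x * x = 1 ∧ ∀ u ∈ CH H T, u * x = x * u}
  one_mem' := ⟨(CH H T).one_mem, by simp, by simp⟩
  mul_mem' := by
    rintro x y ⟨hx, hx2, hxc⟩ ⟨hy, hy2, hyc⟩
    refine ⟨(CH H T).mul_mem hx hy, ?_, ?_⟩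
    · have hyx : y * x = x * y := hxc y hy
      calc x * y * (x * y) = x * (y * x) * y := by group
        _ = x * (x * y) * y := by rw [hyx]
        _ = (x * x) * (y * y) := by group
        _ = 1 := by rw [hx2, hy2, one_mul]
    · intro u hu
      calc u * (x * y) = (u * x) * y := by group
        _ = x * (u * y) := by rw [hxc u hu]; group
        _ = x * y * u := by rw [hyc u hu]; group
  inv_mem' := by
    rintro x ⟨hx, hx2, hxc⟩
    have hinv : x⁻¹ = x := inv_eq_of_mul_eq_one_left hx2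
    rw [hinv]
    exact ⟨hx, hx2, hxc⟩

lemma mem_AT {x : G} : x ∈ AT H T ↔ x ∈ CH H T ∧ x * x = 1 ∧ ∀ u ∈ CH H T, u * x = x * u :=
  Iff.rfl

lemma ESD2.caseB [Finite G] (d : ESD2 H Z T f) (hC8 : Nat.card (CH H T) = 8)
    (hCX : CH H T = d.toESD.X T) : False := by
  have hTinv : T⁻¹ = T := inv_eq_of_mul_eq_one_left d.T2
  -- commutators lie in AT
  have hcA : ∀ h ∈ H, T * h * T⁻¹ * h⁻¹ ∈ AT H T := by
    intro h hh
    have hcX : T * h * T⁻¹ * h⁻¹ ∈ d.toESD.X T := d.toESD.cm_mem_X d.hgT hh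
    rw [← hCX] at hcX
    have hcC := hcX
    rw [mem_CH] at hcC
    obtain ⟨hcH, hTc⟩ := hcC
    refine ⟨hcX, ?_, ?_⟩
    · have e : T * (T * h * T⁻¹ * h⁻¹) * T⁻¹ = T * h * T⁻¹ * h⁻¹ := by rw [hTc]; group
      have e2 : (T * (T * h * T⁻¹ * h⁻¹) * T⁻¹) * (T * h * T⁻¹ * h⁻¹) =
          (T * T) * h * (T * T)⁻¹ * h⁻¹ := by group
      rw [e, d.T2] at e2
      rw [e2]; group
    · intro u hu
      rw [mem_CH] at hu
      obtain ⟨huH, hTu⟩ := hu
      have hζ : u * h * u⁻¹ * h⁻¹ ∈ Z := d.comm u huH h hh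
      have e1 : u * (T * h * T⁻¹ * h⁻¹) * u⁻¹ =
          (u * T) * h * (u * T)⁻¹ * (u * h * u⁻¹)⁻¹ := by group
      have e2 : (T * u) * h * (T * u)⁻¹ * (u * h * u⁻¹)⁻¹ =
          T * (u * h * u⁻¹ * h⁻¹) * T⁻¹ * (T * h * T⁻¹ * h⁻¹) * (u * h * u⁻¹ * h⁻¹)⁻¹ := by
        group
      have e3 : T * (u * h * u⁻¹ * h⁻¹) * T⁻¹ = u * h * u⁻¹ * h⁻¹ := by
        rw [d.Zc _ hζ T]; group
      have e4 : (u * h * u⁻¹ * h⁻¹) * (T * h * T⁻¹ * h⁻¹) * (u * h * u⁻¹ * h⁻¹)⁻¹ =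
          T * h * T⁻¹ * h⁻¹ := by
        rw [← d.Zc _ hζ (T * h * T⁻¹ * h⁻¹)]; group
      have e5 : u * (T * h * T⁻¹ * h⁻¹) * u⁻¹ = T * h * T⁻¹ * h⁻¹ := by
        rw [e1, ← hTu, e2, e3, e4]
      calc u * (T * h * T⁻¹ * h⁻¹) = (u * (T * h * T⁻¹ * h⁻¹) * u⁻¹) * u := by group
        _ = T * h * T⁻¹ * h⁻¹ * u := by rw [e5]
  -- a nonidentity element of Z
  have hZnb : Z ≠ ⊥ := by
    rw [← Subgroup.one_lt_card_iff_ne_bot, d.cardZ]; norm_num
  obtain ⟨z, hz, hz1⟩ := (Subgroup.ne_bot_iff_exists_ne_one).mp hZnb |>.imp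
    (fun z hz => hz) |> fun ⟨z, hz⟩ => (⟨(z : G), z.2, fun h0 => hz (Subtype.ext h0)⟩ :
      ∃ z : G, z ∈ Z ∧ z ≠ 1)
  have hZC : Z ≤ CH H T := by
    intro ζ hζ
    rw [mem_CH]
    exact ⟨d.ZH hζ, d.Zc ζ hζ T⟩
  have hzA : z ∈ AT H T :=
    ⟨hZC hz, d.toESD.zsq hz, fun u _ => d.Zc z hz u⟩
  -- commutators avoid z
  have hcz : ∀ h ∈ H, T * h * T⁻¹ * h⁻¹ ∈ ((AT H T : Subgroup G) : Set G) \ {z} := by
    intro h hh
    refine ⟨hcA h hh, ?_⟩
    intro hcz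
    rw [Set.mem_singleton_iff] at hcz
    have hX : h ∈ d.toESD.X T := ⟨hh, by rw [hcz]; exact hz⟩
    rw [← hCX, mem_CH] at hX
    apply hz1
    rw [← hcz, hX.2]; group
  have hcount := d.toESD.count_img T _ hcz
  rw [d.cardH, hC8] at hcount
  have hn1 : (((AT H T : Subgroup G) : Set G) \ {z}).ncard + 1 =
      ((AT H T : Subgroup G) : Set G).ncard :=
    Set.ncard_diff_singleton_add_one hzA (Set.toFinite _)
  have hA4 : Nat.card (AT H T) ≤ 4 := by
    apply d.noE8 (AT H T)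
    · intro x hx; exact (mem_CH.mp hx.1).1
    · intro a ha; exact ha.2.1
  rw [card_eq_ncard] at hA4
  omega

theorem ESD2.main [Finite G] (d : ESD2 H Z T f) (V : Subgroup G) (hV : V ≤ CH H T)
    (hV4 : Nat.card V = 4) : CH H T = V := by
  have hCX : CH H T ≤ d.toESD.X T := d.toESD.CH_le_X T
  have hX8 := d.card_XT_le
  have h1 : Nat.card (CH H T) ≤ Nat.card (d.toESD.X T) := Subgroup.card_le_of_le hCX
  have h2 : 4 ∣ Nat.card (CH H T) := by
    rw [← hV4]; exact Subgroup.card_dvd_of_le hV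
  have h3 : Nat.card (CH H T) ∣ 32 := by
    rw [← d.cardH]; exact Subgroup.card_dvd_of_le inf_le_left
  have h4 : Nat.card (CH H T) = 4 := by
    rcases dvd32 h3 with h | h | h | h | h | h
    · rw [h] at h2; omega
    · rw [h] at h2; omega
    · exact h
    · exfalso
      have hXeq : Nat.card (d.toESD.X T) = 8 := by omega
      have : CH H T = d.toESD.X T :=
        Subgroup.eq_of_le_of_card_ge hCX (by rw [hXeq, h])
      exact d.caseB h this
    · omega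
    · omega
  exact (Subgroup.eq_of_le_of_card_ge hV (by rw [h4, hV4])).symm

end Cfsg.Agent.H16ES
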