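import Mathlib
import Cfsg.Agent.H16ES3

set_option autoImplicit false

namespace Cfsg.Agent.H16ES

variable {G : Type*} [Group G]

lemma fix_mod5 [Finite G] (H : Subgroup G) [H.Normal] (f : G) (hf5 : orderOf f = 5) :
    Nat.card H ≡ Nat.card (CH H f) [MOD 5] := by
  haveI : Fact (Nat.Prime 5) := ⟨by norm_num⟩
  have hP : IsPGroup 5 (Subgroup.zpowers f) :=
    IsPGroup.of_card (n := 1) (by rw [Nat.card_zpowers, hf5]; norm_num)
  letI : MulAction (Subgroup.zpowers f) H :=
    MulAction.compHom H ((MulAut.conjNormal (H := H)).comp (Subgroup.zpowers f).subtype)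
  have h1 := hP.card_modEq_card_fixedPoints (↥H)
  have hsm : ∀ (m : Subgroup.zpowers f) (x : H), ((m • x : H) : G) = (m : G) * x * (m : G)⁻¹ := by
    intro m x
    exact MulAut.conjNormal_apply (m : G) x
  have h2 : Nat.card (MulAction.fixedPoints (Subgroup.zpowers f) ↥H) = Nat.card (CH H f) := by
    apply Nat.card_congr
    refine ⟨fun x => ⟨(x.1 : G), ?_⟩, fun y => ⟨⟨y.1, (mem_CH.mp y.2).1⟩, ?_⟩, ?_, ?_⟩
    · rw [mem_CH]
      refine ⟨x.1.2, ?_⟩
      have hx := x.2
      rw [MulAction.mem_fixedPoints] at hx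
      have h3 := hx ⟨f, Subgroup.mem_zpowers f⟩
      have h4 := congrArg Subtype.val h3
      rw [hsm] at h4
      simp only at h4
      calc f * (x.1 : G) = (f * (x.1 : G) * f⁻¹) * f := by group
        _ = (x.1 : G) * f := by rw [h4]
    · rw [MulAction.mem_fixedPoints]
      intro m
      apply Subtype.ext
      rw [hsm]
      simp only
      have hy := (mem_CH.mp y.2).2
      have hm : (m : G) ∈ Subgroup.centralizer ({(y : G)} : Set G) := by
        have hle : Subgroup.zpowers f ≤ Subgroup.centralizer ({(y : G)} : Set G) := by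
          rw [Subgroup.zpowers_le, Subgroup.mem_centralizer_iff]
          intro k hk
          rw [Set.mem_singleton_iff] at hk
          rw [hk]; exact hy.symm
        exact hle m.2
      rw [Subgroup.mem_centralizer_iff] at hm
      have := hm (y : G) (Set.mem_singleton _)
      calc (m : G) * (y : G) * (m : G)⁻¹ = ((y : G) * (m : G)) * (m : G)⁻¹ := by rw [this]
        _ = (y : G) := by group
    · intro x; rfl
    · intro y; rfl
  rw [h2] at h1
  exact h1

lemma ESD.hf_of [Finite G] {H Z : Subgroup G} (d : ESD H Z) (f : G) (hf5 : orderOf f = 5)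
    (hnc : ¬ ∀ h ∈ H, f * h = h * f) :
    ∀ h ∈ H, f * h * f⁻¹ * h⁻¹ ∈ Z → h ∈ Z := by
  intro h hh hz
  -- step 1 : f commutes with h
  have hpow : ∀ n : ℕ, f ^ n * h * (f ^ n)⁻¹ = (f * h * f⁻¹ * h⁻¹) ^ n * h := by
    intro n
    induction n with
    | zero => simp
    | succ n ih =>
      have hzn : (f * h * f⁻¹ * h⁻¹) ^ n ∈ Z := Z.pow_mem hz n
      calc f ^ (n + 1) * h * (f ^ (n + 1))⁻¹ = f * (f ^ n * h * (f ^ n)⁻¹) * f⁻¹ := by
            rw [pow_succ']; group
        _ = f * ((f * h * f⁻¹ * h⁻¹) ^ n * h) * f⁻¹ := by rw [ih]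
        _ = (f * (f * h * f⁻¹ * h⁻¹) ^ n) * h * f⁻¹ := by group
        _ = ((f * h * f⁻¹ * h⁻¹) ^ n * f) * h * f⁻¹ := by rw [d.Zc _ hzn f]
        _ = (f * h * f⁻¹ * h⁻¹) ^ n * (f * h * f⁻¹ * h⁻¹) * h := by group
        _ = (f * h * f⁻¹ * h⁻¹) ^ (n + 1) * h := by rw [pow_succ]
  have h5 := hpow 5
  have hf1 : f ^ 5 = 1 := by rw [← hf5]; exact pow_orderOf_eq_one f
  rw [hf1] at h5
  have hz5 : (f * h * f⁻¹ * h⁻¹) ^ 5 = 1 := by
    have : (f * h * f⁻¹ * h⁻¹) ^ 5 * h = h := by rw [← h5]; group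
    exact mul_eq_right.mp this
  have hz2 : (f * h * f⁻¹ * h⁻¹) * (f * h * f⁻¹ * h⁻¹) = 1 := d.zsq hz
  have hz1 : f * h * f⁻¹ * h⁻¹ = 1 := by
    have e : ∀ c : G, c * c = 1 → c ^ 5 = 1 → c = 1 := by
      intro c h2 h5
      have e5 : c ^ 5 = (c * c) * (c * c) * c := by
        rw [show (5 : ℕ) = 2 + 2 + 1 from rfl, pow_add, pow_add, pow_one, pow_two]
      rw [e5, h2, one_mul, one_mul] at h5
      exact h5
    exact e _ hz2 hz5
  have hcomm : f * h = h * f := by
    calc f * h = (f * h * f⁻¹ * h⁻¹) * h * f := by group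
      _ = h * f := by rw [hz1, one_mul]
  -- step 2 : the centralizer of f in H is Z
  have := d.nH
  have hmod := fix_mod5 H f hf5
  rw [d.cardH] at hmod
  have hdvd : Nat.card (CH H f) ∣ 32 := by
    rw [← d.cardH]; exact Subgroup.card_dvd_of_le inf_le_left
  have hZle : Z ≤ CH H f := by
    intro ζ hζ
    rw [mem_CH]
    exact ⟨d.ZH hζ, d.Zc ζ hζ f⟩
  have hcard : Nat.card (CH H f) = 2 := by
    rcases dvd32 hdvd with h0 | h0 | h0 | h0 | h0 | h0
    · rw [h0] at hmod; exact absurd hmod (by decide)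
    · exact h0
    · rw [h0] at hmod; exact absurd hmod (by decide)
    · rw [h0] at hmod; exact absurd hmod (by decide)
    · rw [h0] at hmod; exact absurd hmod (by decide)
    · exfalso
      apply hnc
      have hEq : CH H f = H :=
        Subgroup.eq_of_le_of_card_ge inf_le_left (by rw [h0, d.cardH])
      intro k hk
      rw [← hEq] at hk
      exact (mem_CH.mp hk).2
  have hEq : Z = CH H f := Subgroup.eq_of_le_of_card_ge hZle (by rw [hcard, d.cardZ])
  rw [hEq, mem_CH]
  exact ⟨hh, hcomm⟩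

end Cfsg.Agent.H16ES
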