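import Mathlib
import Cfsg.Agent.H16ES4

set_option autoImplicit false

namespace Cfsg.Agent.H16ES

variable {G : Type*} [Group G]

lemma hfT_of [Finite G] (H : Subgroup G) [hnH : H.Normal] (hG : Nat.card G = 320)
    (hH : Nat.card H = 32) (T f : G) (hT2 : T * T = 1) (hTH : T ∉ H) (hf5 : orderOf f = 5)
    (hmax : ∀ D : Subgroup G, D.Normal → IsPGroup 2 D → D ≤ H) :
    f * T * (f * T) ∈ H := by
  haveI : Fact (Nat.Prime 5) := ⟨by norm_num⟩
  haveI : Fact (Nat.Prime 2) := ⟨by norm_num⟩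
  have hfH : f ∉ H := by
    intro hf
    have h1 : orderOf (⟨f, hf⟩ : H) ∣ Nat.card H := orderOf_dvd_natCard _
    rw [Subgroup.orderOf_mk, hf5, hH] at h1
    omega
  obtain ⟨φ, hφ⟩ : ∃ φ : G ⧸ H, φ = (f : G ⧸ H) := ⟨_, rfl⟩
  obtain ⟨τ, hτ⟩ : ∃ τ : G ⧸ H, τ = (T : G ⧸ H) := ⟨_, rfl⟩
  have hcQ : Nat.card (G ⧸ H) = 10 := by
    have := Subgroup.card_eq_card_quotient_mul_card_subgroup H
    rw [hG, hH] at this; omega
  have hφ5 : φ ^ 5 = 1 := by
    rw [hφ, ← QuotientGroup.mk_pow, ← hf5, pow_orderOf_eq_one]; rfl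
  have hφ1 : φ ≠ 1 := by
    rw [hφ]; intro h; exact hfH ((QuotientGroup.eq_one_iff f).mp h)
  have hoφ : orderOf φ = 5 := orderOf_eq_prime hφ5 hφ1
  have hτ2 : τ * τ = 1 := by
    rw [hτ, ← QuotientGroup.mk_mul, hT2]; rfl
  have hτ1 : τ ≠ 1 := by
    rw [hτ]; intro h; exact hTH ((QuotientGroup.eq_one_iff T).mp h)
  have hoτ : orderOf τ = 2 := orderOf_eq_prime (by rw [pow_two]; exact hτ2) hτ1
  have hNidx : (Subgroup.zpowers φ).index = 2 := by
    have := Subgroup.card_mul_index (Subgroup.zpowers φ)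
    rw [Nat.card_zpowers, hoφ, hcQ] at this; omega
  have hNn : (Subgroup.zpowers φ).Normal := Subgroup.normal_of_index_eq_two hNidx
  have hmem : τ * φ * τ⁻¹ ∈ Subgroup.zpowers φ := hNn.conj_mem φ (Subgroup.mem_zpowers φ) τ
  obtain ⟨n, hn⟩ : ∃ n : ℕ, φ ^ n = τ * φ * τ⁻¹ := by
    have h1 := (mem_powers_iff_mem_zpowers (x := φ) (y := τ * φ * τ⁻¹)).mpr hmem
    exact h1
  have hnn : φ ^ (n * n) = φ := by
    calc φ ^ (n * n) = (φ ^ n) ^ n := pow_mul _ _ _
      _ = (τ * φ * τ⁻¹) ^ n := by rw [hn]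
      _ = τ * φ ^ n * τ⁻¹ := conj_pow
      _ = τ * (τ * φ * τ⁻¹) * τ⁻¹ := by rw [hn]
      _ = (τ * τ) * φ * (τ * τ)⁻¹ := by group
      _ = φ := by rw [hτ2]; group
  have hmod : n * n ≡ 1 [MOD 5] := by
    have h1 : φ ^ (n * n) = φ ^ 1 := by rw [hnn, pow_one]
    have := pow_eq_pow_iff_modEq.mp h1
    rwa [hoφ] at this
  have hn5 : n % 5 = 1 ∨ n % 5 = 4 := by
    have h1 : (n % 5) * (n % 5) % 5 = 1 := by
      have h2 := hmod
      unfold Nat.ModEq at h2
      rw [Nat.mul_mod] at h2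
      simpa using h2
    have h2 : n % 5 < 5 := Nat.mod_lt _ (by norm_num)
    interval_cases (n % 5) <;> simp_all
  have hpm : φ ^ (n % 5) = τ * φ * τ⁻¹ := by rw [← hn, ← hoφ, pow_mod_orderOf]
  rcases hn5 with h1 | h4
  · exfalso
    rw [h1, pow_one] at hpm
    have hcomm : Commute φ τ := by
      show φ * τ = τ * φ
      calc φ * τ = (τ * φ * τ⁻¹) * τ := by rw [← hpm]
        _ = τ * φ := by group
    have ho : orderOf (φ * τ) = 10 := by
      rw [hcomm.orderOf_mul_eq_mul_orderOf_of_coprime (by rw [hoφ, hoτ]; norm_num), hoφ, hoτ]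
    haveI hcyc : IsCyclic (G ⧸ H) := isCyclic_of_orderOf_eq_card (φ * τ) (by rw [ho, hcQ])
    have hab : ∀ a b : G ⧸ H, a * b = b * a :=
      fun a b => IsCyclic.isMulCommutative.is_comm.comm a b
    have hDn : ((Subgroup.zpowers τ).comap (QuotientGroup.mk' H)).Normal := by
      refine ⟨fun d hd g => ?_⟩
      rw [Subgroup.mem_comap] at hd ⊢
      have e : (QuotientGroup.mk' H) (g * d * g⁻¹) = (QuotientGroup.mk' H) d := by
        rw [map_mul, map_mul, map_inv, hab ((QuotientGroup.mk' H) g) ((QuotientGroup.mk' H) d)]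
        group
      rw [e]; exact hd
    have hDp : IsPGroup 2 ((Subgroup.zpowers τ).comap (QuotientGroup.mk' H)) := by
      rintro ⟨x, hx⟩
      refine ⟨6, Subtype.ext ?_⟩
      rw [Subgroup.mem_comap] at hx
      obtain ⟨k, hk⟩ := Subgroup.mem_zpowers_iff.mp hx
      have hx2 : (QuotientGroup.mk' H) (x ^ 2) = 1 := by
        rw [map_pow, ← hk, ← zpow_natCast, ← zpow_mul, mul_comm, zpow_mul, zpow_natCast, pow_two,
          hτ2, one_zpow]
      have hx2H : x ^ 2 ∈ H := by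
        rw [← QuotientGroup.ker_mk' H, MonoidHom.mem_ker]; exact hx2
      have h32 := pow_card_eq_one' (G := ↥H) (x := ⟨x ^ 2, hx2H⟩)
      rw [hH] at h32
      have h32' := congrArg Subtype.val h32
      simp only [Subgroup.coe_pow, Subgroup.coe_one] at h32'
      show x ^ 2 ^ 6 = 1
      rw [show (2 : ℕ) ^ 6 = 2 * 32 by norm_num, pow_mul]
      exact h32'
    have hTD : T ∈ (Subgroup.zpowers τ).comap (QuotientGroup.mk' H) := by
      rw [Subgroup.mem_comap, hτ]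
      exact Subgroup.mem_zpowers _
    exact hTH (hmax _ hDn hDp hTD)
  · rw [h4] at hpm
    have h1 : φ * (τ * φ * τ⁻¹) = 1 := by rw [← hpm, ← pow_succ', hφ5]
    have hmemH : f * (T * f * T⁻¹) ∈ H := by
      rw [← QuotientGroup.eq_one_iff]
      rw [hφ, hτ] at h1
      exact h1
    have hTinv : T⁻¹ = T := inv_eq_of_mul_eq_one_left hT2
    rw [hTinv] at hmemH
    have e : f * T * (f * T) = f * (T * f * T) := by group
    rw [e]; exact hmemH

end Cfsg.Agent.H16ES
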