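import Mathlib
import Cfsg.Agent.H16ES5

set_option autoImplicit false

namespace Cfsg.Agent.H16ES

lemma solvable_of_card_ten {Q : Type*} [Group Q] [Finite Q] (h : Nat.card Q = 10) :
    Group.IsSolvable Q := by
  haveI : Fact (Nat.Prime 5) := ⟨by norm_num⟩
  haveI : Fact (Nat.Prime 2) := ⟨Nat.prime_two⟩
  obtain ⟨φ, hφ⟩ := exists_prime_orderOf_dvd_card' (G := Q) 5 (by rw [h]; norm_num)
  have hidx : (Subgroup.zpowers φ).index = 2 := by
    have := Subgroup.card_mul_index (Subgroup.zpowers φ)
    rw [Nat.card_zpowers, hφ, h] at this; omega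
  haveI : (Subgroup.zpowers φ).Normal := Subgroup.normal_of_index_eq_two hidx
  haveI : Group.IsSolvable (Subgroup.zpowers φ) :=
    Group.isSolvable_of_comm (fun a b => IsCyclic.isMulCommutative.is_comm.comm a b)
  haveI : Group.IsSolvable (Q ⧸ Subgroup.zpowers φ) := by
    have hc : Nat.card (Q ⧸ Subgroup.zpowers φ) = 2 := hidx
    haveI : IsCyclic (Q ⧸ Subgroup.zpowers φ) := isCyclic_of_prime_card hc
    exact Group.isSolvable_of_comm (fun a b => IsCyclic.isMulCommutative.is_comm.comm a b)
  exact Group.isSolvable_of_ker_le_range (Subgroup.zpowers φ).subtype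
    (QuotientGroup.mk' (Subgroup.zpowers φ))
    (by rw [QuotientGroup.ker_mk', Subgroup.range_subtype])

lemma comm_of_exp_two {G : Type*} [Group G] {a b : G} (ha : a * a = 1) (hb : b * b = 1)
    (hab : (a * b) * (a * b) = 1) : a * b = b * a := by
  calc a * b = a * ((a * b) * (a * b)) * b := by rw [hab]; group
    _ = (a * a) * (b * a) * (b * b) := by group
    _ = b * a := by rw [ha, hb]; group

end Cfsg.Agent.H16ES
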