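import Mathlib

/-! Abstract glue: Sylow subgroups of an index-two overgroup pairwise meet, given a
self-normalising Sylow subgroup of the normal subgroup with a single "big cell". -/

namespace Cfsg.Agent.H16FL

open scoped Pointwise

section abstract

variable {S : Type*} [Group S] [Finite S] {p : ℕ} [Fact p.Prime]

/-- a one-sided conjugation-stable finite subgroup is normalised -/
lemma conj_mem_iff_of_forall {U : Subgroup S} {g : S} (h : ∀ u ∈ U, g * u * g⁻¹ ∈ U) (u : S) :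
    u ∈ U ↔ g * u * g⁻¹ ∈ U := by
  refine ⟨h u, fun hu => ?_⟩
  have hinj : Function.Injective (fun u : U => (⟨g * u * g⁻¹, h u u.2⟩ : U)) := by
    intro a b hab
    have := congrArg Subtype.val hab
    simp only [mul_left_inj, mul_right_inj] at this
    exact Subtype.ext this
  obtain ⟨a, ha⟩ := (Finite.injective_iff_surjective.mp hinj) ⟨g * u * g⁻¹, hu⟩
  have := congrArg Subtype.val ha
  simp only [mul_left_inj, mul_right_inj] at this
  rw [← this]; exact a.2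

/-- a self-normalising `p`-subgroup is a Sylow subgroup -/
theorem exists_sylow_eq (U : Subgroup S) (hU : IsPGroup p U)
    (hN : ∀ g : S, (∀ u ∈ U, g * u * g⁻¹ ∈ U) → g ∈ U) :
    ∃ P : Sylow p S, (P : Subgroup S) = U := by
  obtain ⟨Q, hQ⟩ := hU.exists_le_sylow
  refine ⟨Q, ?_⟩
  by_contra hne
  have hlt : U.subgroupOf Q < ⊤ := by
    rw [lt_top_iff_ne_top]
    intro h
    rw [Subgroup.subgroupOf_eq_top] at h
    exact hne (le_antisymm h hQ)
  haveI : Group.IsNilpotent Q := Q.isPGroup'.isNilpotent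
  have hnc := normalizerCondition_of_isNilpotent (G := Q) (U.subgroupOf Q) hlt
  obtain ⟨q, hq1, hq2⟩ := SetLike.exists_of_lt hnc
  apply hq2
  rw [Subgroup.mem_subgroupOf]
  apply hN
  intro u hu
  have := (Subgroup.mem_normalizer_iff.mp hq1 ⟨u, hQ hu⟩).mp (by rw [Subgroup.mem_subgroupOf]; exact hu)
  rw [Subgroup.mem_subgroupOf] at this
  simpa using this

omit [Finite S] [Fact p.Prime] in
lemma mem_smul_sylow (a : S) (P₀ : Sylow p S) (y : S) : y ∈ a • P₀ ↔ a⁻¹ * y * a ∈ P₀ := by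
  change y ∈ ((a • P₀ : Sylow p S) : Subgroup S) ↔ _
  rw [Sylow.coe_subgroup_smul, Subgroup.mem_pointwise_smul_iff_inv_smul_mem]
  simp only [MulAut.smul_def, MulAut.conj_apply, inv_inv]
  rfl

lemma sylow_conj (P₀ P : Sylow p S) : ∃ a : S, ∀ y, y ∈ P ↔ a⁻¹ * y * a ∈ P₀ := by
  obtain ⟨a, ha⟩ := MulAction.exists_smul_eq S P₀ P
  refine ⟨a, fun y => ?_⟩
  rw [← ha]
  exact mem_smul_sylow a P₀ y

/-- Main abstract consequence: every Sylow subgroup is self-normalising and acts transitively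
on the Sylow subgroups it meets trivially. -/
theorem sylow_props (U : Subgroup S) (hU : IsPGroup p U)
    (hN : ∀ g : S, (∀ u ∈ U, g * u * g⁻¹ ∈ U) → g ∈ U) (w : S)
    (hW : ∀ g : S, (∀ y, y ∈ U → g⁻¹ * y * g ∈ U → y = 1) → ∃ u ∈ U, ∃ s ∈ U, g = u * w * s) :
    (∀ P : Sylow p S, ∀ g : S, (∀ y ∈ P, g * y * g⁻¹ ∈ P) → g ∈ P) ∧
    (∀ P P₁ P₂ : Sylow p S, (∀ y, y ∈ P → y ∈ P₁ → y = 1) → (∀ y, y ∈ P → y ∈ P₂ → y = 1) →
      ∃ u ∈ P, ∀ y, y ∈ P₁ ↔ u * y * u⁻¹ ∈ P₂) := by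
  obtain ⟨P₀, hP₀⟩ := exists_sylow_eq U hU hN
  have hm : ∀ y, y ∈ P₀ ↔ y ∈ U := fun y => by rw [← hP₀]; rfl
  constructor
  · intro P g hg
    obtain ⟨a, ha⟩ := sylow_conj P₀ P
    rw [ha, hm]
    apply hN
    intro u hu
    have h1 : a * u * a⁻¹ ∈ P := by
      rw [ha, hm]; convert hu using 1; group
    have h2 := hg _ h1
    rw [ha, hm] at h2
    convert h2 using 1; group
  · intro P P₁ P₂ h1 h2
    obtain ⟨a, ha⟩ := sylow_conj P₀ P
    obtain ⟨b, hb⟩ := sylow_conj P₀ P₁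
    obtain ⟨c, hc⟩ := sylow_conj P₀ P₂
    have key : ∀ (d : S) (P' : Sylow p S), (∀ y, y ∈ P' ↔ d⁻¹ * y * d ∈ P₀) →
        (∀ y, y ∈ P → y ∈ P' → y = 1) → ∃ u ∈ U, ∃ s ∈ U, a⁻¹ * d = u * w * s := by
      intro d P' hd h
      apply hW
      intro y hy hy'
      have e1 : a * y * a⁻¹ ∈ P := by
        rw [ha, hm]; convert hy using 1; group
      have e2 : a * y * a⁻¹ ∈ P' := by
        rw [hd, hm]; convert hy' using 1; group
      have := h _ e1 e2
      have : y = a⁻¹ * (a * y * a⁻¹) * a := by group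
      rw [this, ‹a * y * a⁻¹ = 1›]; group
    obtain ⟨u₁, hu₁, s₁, hs₁, e₁⟩ := key b P₁ hb h1
    obtain ⟨u₂, hu₂, s₂, hs₂, e₂⟩ := key c P₂ hc h2
    have hb' : b = a * (u₁ * w * s₁) := by rw [← e₁]; group
    have hc' : c = a * (u₂ * w * s₂) := by rw [← e₂]; group
    refine ⟨a * (u₂ * u₁⁻¹) * a⁻¹, ?_, fun y => ?_⟩
    · rw [ha, hm]
      have : a⁻¹ * (a * (u₂ * u₁⁻¹) * a⁻¹) * a = u₂ * u₁⁻¹ := by group
      rw [this]; exact U.mul_mem hu₂ (U.inv_mem hu₁)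
    · rw [hb, hc, hm, hm]
      have ht : s₂⁻¹ * s₁ ∈ U := U.mul_mem (U.inv_mem hs₂) hs₁
      have e : c⁻¹ * (a * (u₂ * u₁⁻¹) * a⁻¹ * y * (a * (u₂ * u₁⁻¹) * a⁻¹)⁻¹) * c
          = (s₂⁻¹ * s₁) * (b⁻¹ * y * b) * (s₂⁻¹ * s₁)⁻¹ := by
        rw [hb', hc']; group
      rw [e]
      constructor
      · intro h; exact U.mul_mem (U.mul_mem ht h) (U.inv_mem ht)
      · intro h
        have := U.mul_mem (U.mul_mem (U.inv_mem ht) h) ht
        convert this using 1; group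

end abstract

end Cfsg.Agent.H16FL
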