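import Mathlib
import Cfsg.Agent.H16FL1

/-! Glue for an overgroup of index two. -/

namespace Cfsg.Agent.H16FL

open scoped Pointwise

variable {G : Type*} [Group G] [Finite G]

lemma relIndex_dvd_index_normal (N P : Subgroup G) [N.Normal] : P.relIndex N ∣ P.index := by
  have h1 : P.relIndex N * N.index = (P ⊓ N).index := by
    rw [← Subgroup.inf_relIndex_right]; exact Subgroup.relIndex_mul_index inf_le_right
  have h2 : N.relIndex P * P.index = (P ⊓ N).index := by
    rw [← Subgroup.inf_relIndex_left]; exact Subgroup.relIndex_mul_index inf_le_left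
  obtain ⟨m, hm⟩ := Subgroup.relIndex_dvd_index_of_normal (H := N) (K := P)
  have h0 : N.relIndex P ≠ 0 := by
    intro h0
    have : (P ⊓ N).index = 0 := by rw [← h2, h0, zero_mul]
    exact Subgroup.index_ne_zero_of_finite this
  refine ⟨m, ?_⟩
  apply Nat.eq_of_mul_eq_mul_left (Nat.pos_of_ne_zero h0)
  rw [h2, ← h1, hm]; ring

/-- the trace on a normal subgroup of a Sylow subgroup is a Sylow subgroup -/
theorem exists_resN (N : Subgroup G) [N.Normal] (P : Sylow 2 G) :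
    ∃ Q : Sylow 2 N, ∀ y : N, y ∈ Q ↔ (y : G) ∈ P := by
  have h1 : IsPGroup 2 ((P : Subgroup G).subgroupOf N) := P.isPGroup'.comap_subtype
  have h2 : ¬ 2 ∣ ((P : Subgroup G).subgroupOf N).index := by
    intro h
    exact P.not_dvd_index (dvd_trans h (relIndex_dvd_index_normal N (P : Subgroup G)))
  refine ⟨h1.toSylow h2, fun y => ?_⟩
  rw [IsPGroup.mem_toSylow, Subgroup.mem_subgroupOf]
  rfl

/-- the normaliser of the trace of a Sylow subgroup is that Sylow subgroup -/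
theorem normalizer_trace (N : Subgroup G) [N.Normal] (hidx : N.index = 2)
    (hA1 : ∀ P : Sylow 2 N, ∀ g : N, (∀ y ∈ P, g * y * g⁻¹ ∈ P) → g ∈ P)
    (P : Sylow 2 G) (h : G) (hh : ∀ k, k ∈ P → k ∈ N → h * k * h⁻¹ ∈ P) : h ∈ P := by
  obtain ⟨Q, hQ⟩ := exists_resN N P
  -- the subgroup K of elements stabilising the trace
  let K : Subgroup G := Subgroup.normalizer (((P : Subgroup G) ⊓ N : Subgroup G) : Set G)
  have hPK : (P : Subgroup G) ≤ K := by
    rw [Subgroup.le_normalizer_iff]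
    intro a ha k hk
    exact ⟨(P : Subgroup G).mul_mem ((P : Subgroup G).mul_mem ha hk.1) ((P : Subgroup G).inv_mem ha),
      ‹N.Normal›.conj_mem k hk.2 a⟩
  have hhK : h ∈ K := by
    have hf : ∀ u ∈ ((P : Subgroup G) ⊓ N : Subgroup G), h * u * h⁻¹ ∈ ((P : Subgroup G) ⊓ N : Subgroup G) :=
      fun u hu => ⟨hh u hu.1 hu.2, ‹N.Normal›.conj_mem u hu.2 h⟩
    rw [Subgroup.mem_normalizer_iff]
    intro u
    exact conj_mem_iff_of_forall hf u
  -- K is a 2-group
  have hKp : IsPGroup 2 K := by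
    let ϕ : K →* G ⧸ N := (QuotientGroup.mk' N).comp K.subtype
    have htop : IsPGroup 2 (⊤ : Subgroup (G ⧸ N)) := by
      have hc : Nat.card (G ⧸ N) = 2 := hidx
      have : IsPGroup 2 (G ⧸ N) := IsPGroup.of_card (n := 1) (by rw [hc]; rfl)
      exact this.to_subgroup _
    have hker : IsPGroup 2 ϕ.ker := by
      intro ⟨⟨k, hkK⟩, hk⟩
      have hkN : k ∈ N := by
        have := MonoidHom.mem_ker.mp hk
        simpa [ϕ] using this
      -- k normalises the trace, hence lies in it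
      have hkQ : (⟨k, hkN⟩ : N) ∈ Q := by
        apply hA1
        intro y hy
        rw [hQ] at hy ⊢
        have := (Subgroup.mem_normalizer_iff.mp hkK (y : G)).mp ⟨hy, y.2⟩
        exact this.1
      rw [hQ] at hkQ
      obtain ⟨j, hj⟩ := P.isPGroup' ⟨k, hkQ⟩
      refine ⟨j, ?_⟩
      have := congrArg Subtype.val hj
      simp only [Subgroup.coe_pow, Subgroup.coe_one] at this
      apply Subtype.ext; apply Subtype.ext
      simpa using this
    have := htop.comap_of_ker_isPGroup ϕ hker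
    rw [Subgroup.comap_top] at this
    intro k
    obtain ⟨j, hj⟩ := this ⟨k, Subgroup.mem_top _⟩
    refine ⟨j, ?_⟩
    have := congrArg Subtype.val hj
    simpa using this
  have := P.is_maximal' hKp hPK
  rw [this] at hhK
  exact hhK

/-- Sylow `2`-subgroups of the overgroup pairwise meet. -/
theorem glue (N : Subgroup G) [N.Normal] (hidx : N.index = 2)
    (hA1 : ∀ P : Sylow 2 N, ∀ g : N, (∀ y ∈ P, g * y * g⁻¹ ∈ P) → g ∈ P)
    (hA2 : ∀ P P₁ P₂ : Sylow 2 N, (∀ y, y ∈ P → y ∈ P₁ → y = 1) →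
      (∀ y, y ∈ P → y ∈ P₂ → y = 1) → ∃ u ∈ P, ∀ y, y ∈ P₁ ↔ u * y * u⁻¹ ∈ P₂)
    (H : Sylow 2 G) (x : G) : (H : Subgroup G) ⊓ MulAut.conj x • (H : Subgroup G) ≠ ⊥ := by
  intro h0
  set H' : Sylow 2 G := x • H with hH'
  have hH'c : (H' : Subgroup G) = MulAut.conj x • (H : Subgroup G) := Sylow.coe_subgroup_smul
  have hdisj : ∀ y, y ∈ H → y ∈ H' → y = 1 := by
    intro y h1 h2
    have : y ∈ (H : Subgroup G) ⊓ MulAut.conj x • (H : Subgroup G) :=
      ⟨h1, by rw [← hH'c]; exact h2⟩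
    rw [h0] at this; exact Subgroup.mem_bot.mp this
  have hτ : ∃ τ, τ ∈ H ∧ τ ∉ N := by
    by_contra hcon
    push Not at hcon
    have hle : (H : Subgroup G) ≤ N := hcon
    have := Subgroup.relIndex_mul_index hle
    rw [hidx] at this
    exact H.not_dvd_index ⟨_, by rw [← this]; ring⟩
  obtain ⟨τ, hτH, hτN⟩ := hτ
  set H'' : Sylow 2 G := τ • H' with hH''
  have hH''m : ∀ y, y ∈ H'' ↔ τ⁻¹ * y * τ ∈ H' := fun y => mem_smul_sylow τ H' y
  obtain ⟨Q, hQ⟩ := exists_resN N H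
  obtain ⟨Q₁, hQ₁⟩ := exists_resN N H'
  obtain ⟨Q₂, hQ₂⟩ := exists_resN N H''
  obtain ⟨u, hu, huy⟩ := hA2 Q Q₁ Q₂ (fun y h1 h2 => by
      rw [hQ] at h1; rw [hQ₁] at h2; exact Subtype.ext (hdisj _ h1 h2)) (fun y h1 h2 => by
      rw [hQ] at h1; rw [hQ₂, hH''m] at h2
      have h3 : τ⁻¹ * (y : G) * τ ∈ H := mul_mem (mul_mem (inv_mem hτH) h1) hτH
      have h4 := hdisj _ h3 h2
      apply Subtype.ext
      have : (y : G) = τ * (τ⁻¹ * y * τ) * τ⁻¹ := by group
      rw [this, h4]; simp)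
  rw [hQ] at hu
  have hh : τ⁻¹ * (u : G) ∈ H' := by
    apply normalizer_trace N hidx hA1 H'
    intro k hk hkN
    have := (huy ⟨k, hkN⟩).mp ((hQ₁ _).mpr hk)
    rw [hQ₂, hH''m] at this
    convert this using 1
    simp only [Subgroup.coe_mul, Subgroup.coe_inv]
    group
  have hhH : τ⁻¹ * (u : G) ∈ H := mul_mem (inv_mem hτH) hu
  have h5 := hdisj _ hhH hh
  apply hτN
  have : τ = u := by
    have : τ = τ * (τ⁻¹ * (u : G)) * ((u : G)⁻¹ * u) := by rw [h5]; simp
    rw [this]; group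
  rw [this]; exact u.2

end Cfsg.Agent.H16FL
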