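import Mathlib

/-! The upper unitriangular subgroup of `SL_n(𝔽₂)`: it is a `2`-group and self-normalising. -/

set_option autoImplicit false

namespace Cfsg.Agent.H16FL

open Matrix

variable {n : ℕ}

/-- `SL_n(𝔽₂)` -/
abbrev SLn (n : ℕ) := Matrix.SpecialLinearGroup (Fin n) (ZMod 2)

lemma zmod2_eq_one {x : ZMod 2} (h : x ≠ 0) : x = 1 := by
  revert h; revert x; decide

lemma coe_inv_mul (g : SLn n) : (g⁻¹ : SLn n).1 * g.1 = 1 := by
  have : (g⁻¹ * g : SLn n) = 1 := inv_mul_cancel g
  exact congrArg Subtype.val this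

lemma coe_mul_inv (g : SLn n) : g.1 * (g⁻¹ : SLn n).1 = 1 := by
  have : (g * g⁻¹ : SLn n) = 1 := mul_inv_cancel g
  exact congrArg Subtype.val this

/-- the upper triangular matrices in `SL_n(𝔽₂)` -/
def UT (n : ℕ) : Subgroup (SLn n) where
  carrier := {g | (g.1 : Matrix (Fin n) (Fin n) (ZMod 2)).BlockTriangular id}
  one_mem' := blockTriangular_one
  mul_mem' := fun {a b} ha hb => by
    show (a.1 * b.1).BlockTriangular id
    exact BlockTriangular.mul ha hb
  inv_mem' := fun {a} ha => by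
    show ((a⁻¹ : SLn n).1).BlockTriangular id
    haveI : Invertible (a.1).det := by rw [a.2]; exact invertibleOne
    haveI := Matrix.invertibleOfDetInvertible a.1
    have h1 : (a⁻¹ : SLn n).1 = (a.1)⁻¹ := by
      rw [← Matrix.inv_eq_left_inv (coe_inv_mul a)]
    rw [h1]
    exact blockTriangular_inv_of_blockTriangular ha

lemma mem_UT {g : SLn n} : g ∈ UT n ↔ ∀ i j : Fin n, j < i → g.1 i j = 0 := by
  constructor
  · intro h i j hij; exact h hij
  · intro h i j hij; exact h i j hij

lemma UT_diag {g : SLn n} (hg : g ∈ UT n) (i : Fin n) : g.1 i i = 1 := by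
  apply zmod2_eq_one
  intro h0
  have hd : (g.1).det = ∏ i, g.1 i i := det_of_isUpperTriangular hg
  have h1 : ∏ i, g.1 i i = 0 := Finset.prod_eq_zero (Finset.mem_univ i) h0
  have h2 : (g.1).det = 1 := g.2
  rw [h1, h2] at hd
  exact one_ne_zero hd

/-- vectors supported on the first `k` coordinates -/
def Vk (k : ℕ) (v : Fin n → ZMod 2) : Prop := ∀ i : Fin n, k ≤ i.val → v i = 0

lemma Vk_top (v : Fin n → ZMod 2) : Vk n v := fun i hi => absurd i.2 (by omega)

/-- a unitriangular matrix fixes the top coordinate of a vector -/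
lemma UT_mulVec_eq {g : SLn n} (hg : g ∈ UT n) {m : ℕ} {v : Fin n → ZMod 2} (hv : Vk (m + 1) v)
    (i : Fin n) (hi : m ≤ i.val) : (g.1 *ᵥ v) i = v i := by
  rw [Matrix.mulVec, dotProduct]
  rw [Finset.sum_eq_single i]
  · rw [UT_diag hg, one_mul]
  · intro j _ hji
    rcases lt_or_gt_of_ne hji with h | h
    · rw [mem_UT.mp hg i j h, zero_mul]
    · rw [hv j (by have : i.val < j.val := h; omega), mul_zero]
  · intro h; exact absurd (Finset.mem_univ i) h

lemma UT_sub_mem {g : SLn n} (hg : g ∈ UT n) {m : ℕ} {v : Fin n → ZMod 2} (hv : Vk (m + 1) v) :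
    Vk m (g.1 *ᵥ v - v) := by
  intro i hi
  rw [Pi.sub_apply, UT_mulVec_eq hg hv i hi, sub_self]

/-- elementary upper transvection -/
lemma tv_mem_UT {a b : Fin n} (hab : a < b) :
    SpecialLinearGroup.transvection (ne_of_lt hab) (1 : ZMod 2) ∈ UT n := by
  show (Matrix.transvection a b (1 : ZMod 2)).BlockTriangular id
  exact blockTriangular_transvection (le_of_lt hab) 1

lemma tv_mulVec_single {a b : Fin n} (hab : a ≠ b) :
    (SpecialLinearGroup.transvection hab (1 : ZMod 2)).1 *ᵥ (Pi.single b 1)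
      = Pi.single b 1 + Pi.single a 1 := by
  show (Matrix.transvection a b (1 : ZMod 2)) *ᵥ _ = _
  rw [Matrix.transvection, Matrix.add_mulVec, Matrix.one_mulVec, Matrix.single_mulVec]
  funext k
  by_cases hk : k = a
  · subst hk; simp [hab]
  · simp [hk]

/-- **Self-normalising.** -/
theorem UT_selfnorm (g : SLn n) (hg : ∀ u ∈ UT n, g * u * g⁻¹ ∈ UT n) : g ∈ UT n := by
  have key : ∀ d : ℕ, ∀ b : Fin n, b.val + d + 1 = n →
      Vk (b.val + 1) (g.1 *ᵥ (Pi.single b 1)) := by
    intro d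
    induction d with
    | zero =>
      intro b hb
      have : b.val + 1 = n := by omega
      rw [this]; exact Vk_top _
    | succ d ih =>
      intro b hb
      have hb' : b.val + 1 < n := by omega
      set b' : Fin n := ⟨b.val + 1, hb'⟩ with hb'def
      have hlt : b < b' := by
        rw [Fin.lt_def]; simp [hb'def]
      have hv := ih b' (by simp [hb'def]; omega)
      have hu := hg _ (tv_mem_UT hlt)
      have h1 := UT_sub_mem hu (m := b.val + 1) (v := g.1 *ᵥ (Pi.single b' 1)) hv
      have h2 : (g * SpecialLinearGroup.transvection (ne_of_lt hlt) (1 : ZMod 2) * g⁻¹).1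
          *ᵥ (g.1 *ᵥ (Pi.single b' 1)) - g.1 *ᵥ (Pi.single b' 1)
          = g.1 *ᵥ (Pi.single b 1) := by
        show (g.1 * (SpecialLinearGroup.transvection (ne_of_lt hlt) (1 : ZMod 2)).1 * (g⁻¹ : SLn n).1)
          *ᵥ (g.1 *ᵥ (Pi.single b' 1)) - g.1 *ᵥ (Pi.single b' 1) = _
        rw [Matrix.mulVec_mulVec, Matrix.mul_assoc, coe_inv_mul, Matrix.mul_one,
          ← Matrix.mulVec_mulVec, tv_mulVec_single, Matrix.mulVec_add]
        abel
      rw [h2] at h1
      exact h1
  rw [mem_UT]
  intro i j hij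
  have := key (n - 1 - j.val) j (by have := j.2; omega) i (by
    have : j.val < i.val := hij
    omega)
  rwa [Matrix.mulVec_single_one] at this

/-- **`2`-group.** -/
theorem UT_isPGroup : IsPGroup 2 (UT n) := by
  intro ⟨g, hg⟩
  have hch : (g.1).charpoly = (Polynomial.X - Polynomial.C 1) ^ n := by
    rw [charpoly_of_isUpperTriangular _ hg]
    simp only [UT_diag hg]
    rw [Finset.prod_const, Finset.card_univ, Fintype.card_fin]
  have hnil : (g.1 - 1) ^ n = 0 := by
    have := Matrix.aeval_self_charpoly g.1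
    rw [hch] at this
    simpa using this
  obtain ⟨k, hk⟩ : ∃ k, n ≤ 2 ^ k := ⟨n, Nat.lt_two_pow_self.le⟩
  refine ⟨k, ?_⟩
  have hfin : g.1 ^ 2 ^ k = 1 := by
    rcases Nat.eq_zero_or_pos n with h0 | hpos
    · subst h0; exact Subsingleton.elim _ _
    haveI : Nonempty (Fin n) := ⟨⟨0, hpos⟩⟩
    have h2 := sub_pow_char_pow_of_commute (p := 2) (n := k) (Commute.one_right g.1)
    rw [one_pow] at h2
    have h3 : (g.1 - 1) ^ 2 ^ k = 0 := by
      rw [← Nat.sub_add_cancel hk, pow_add, hnil, mul_zero]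
    rw [h3] at h2
    exact (sub_eq_zero.mp h2.symm)
  apply Subtype.ext; apply Subtype.ext
  exact (Matrix.SpecialLinearGroup.coe_pow g (2 ^ k)).trans hfin

end Cfsg.Agent.H16FL
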