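import Mathlib
import Cfsg.Agent.H16FL3

/-! Flags in general position: if the unitriangular group meets a conjugate trivially then the
two flags are opposite. -/

set_option autoImplicit false

namespace Cfsg.Agent.H16FL

open Matrix

variable {n : ℕ}

lemma exists_top {v : Fin n → ZMod 2} (hv : v ≠ 0) :
    ∃ p : Fin n, v p = 1 ∧ ∀ l : Fin n, p < l → v l = 0 := by
  have hne : (Finset.univ.filter (fun i => v i ≠ 0)).Nonempty := by
    by_contra h
    rw [Finset.not_nonempty_iff_eq_empty] at h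
    apply hv; funext i
    by_contra hi
    have hi' : v i ≠ 0 := hi
    have : i ∈ Finset.univ.filter (fun i => v i ≠ 0) := by simp [hi']
    rw [h] at this; simp at this
  refine ⟨(Finset.univ.filter (fun i => v i ≠ 0)).max' hne, ?_, ?_⟩
  · have := Finset.max'_mem _ hne
    simp only [Finset.mem_filter, Finset.mem_univ, true_and] at this
    exact zmod2_eq_one this
  · intro l hl
    by_contra h
    have : l ∈ Finset.univ.filter (fun i => v i ≠ 0) := by simp [h]
    exact absurd (Finset.le_max' _ _ this) (not_le.mpr hl)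

lemma exists_ker {m : ℕ} (hm : m < n) (f : (Fin n → ZMod 2) →ₗ[ZMod 2] (Fin m → ZMod 2)) :
    ∃ y, y ≠ 0 ∧ f y = 0 := by
  have : LinearMap.ker f ≠ ⊥ := LinearMap.ker_ne_bot_of_finrank_lt (by simp [hm])
  obtain ⟨y, hy, hy0⟩ := Submodule.exists_mem_ne_zero_of_ne_bot this
  exact ⟨y, hy0, hy⟩

/-- the linear conditions for the functional of the transvection -/
def PhiA (g : SLn n) (p p' : Fin n) (h : p.val + p'.val + 2 ≤ n) :
    (Fin n → ZMod 2) →ₗ[ZMod 2] (Fin (p.val + p'.val + 1) → ZMod 2) where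
  toFun φ := fun l => if hl : l.val ≤ p.val then φ ⟨l.val, by have := l.2; omega⟩
      else (φ ᵥ* g.1) ⟨l.val - p.val - 1, by have := l.2; omega⟩
  map_add' φ ψ := by
    funext l; simp only [Pi.add_apply]; split_ifs <;> simp [Matrix.add_vecMul]
  map_smul' c φ := by
    funext l; simp only [Pi.smul_apply, RingHom.id_apply]; split_ifs <;> simp [Matrix.smul_vecMul]

theorem opp_of_disj (g : SLn n) (hd : ∀ y, y ∈ UT n → g⁻¹ * y * g ∈ UT n → y = 1)
    (i : ℕ) (x : Fin n → ZMod 2) (hx : Vk (n - i) x) (hgx : Vk i (g.1 *ᵥ x)) : x = 0 := by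
  by_contra hx0
  set v := g.1 *ᵥ x with hv
  have hxv : (g⁻¹ : SLn n).1 *ᵥ v = x := by
    rw [hv, Matrix.mulVec_mulVec, coe_inv_mul, Matrix.one_mulVec]
  have hv0 : v ≠ 0 := by
    intro h
    apply hx0
    rw [← hxv, h, Matrix.mulVec_zero]
  obtain ⟨p, hp1, hp2⟩ := exists_top hv0
  obtain ⟨p', hp'1, hp'2⟩ := exists_top hx0
  have hpi : p.val < i := by
    by_contra h; push Not at h
    have := hgx p h; rw [hp1] at this; exact one_ne_zero this
  have hp'i : p'.val < n - i := by
    by_contra h; push Not at h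
    have := hx p' h; rw [hp'1] at this; exact one_ne_zero this
  have hsum : p.val + p'.val + 2 ≤ n := by omega
  obtain ⟨φ, hφ0, hφ⟩ := exists_ker (m := p.val + p'.val + 1) (by omega) (PhiA g p p' hsum)
  have hφ1 : ∀ l : Fin n, l.val ≤ p.val → φ l = 0 := by
    intro l hl
    have := congrFun hφ ⟨l.val, by omega⟩
    simpa [PhiA, hl] using this
  set ψ := φ ᵥ* g.1 with hψ
  have hψ1 : ∀ l : Fin n, l.val < p'.val → ψ l = 0 := by
    intro l hl
    have := congrFun hφ ⟨p.val + 1 + l.val, by omega⟩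
    have hnot : ¬ (p.val + 1 + l.val ≤ p.val) := by omega
    simp only [PhiA, LinearMap.coe_mk, AddHom.coe_mk, hnot, dite_false, Pi.zero_apply] at this
    have e : (⟨p.val + 1 + l.val - p.val - 1, by omega⟩ : Fin n) = l := Fin.ext (by simp; omega)
    rw [e] at this
    exact this
  have hdot : φ ⬝ᵥ v = 0 := by
    rw [dotProduct]; apply Finset.sum_eq_zero; intro k _
    by_cases hk : k.val ≤ p.val
    · rw [hφ1 k hk, zero_mul]
    · rw [hp2 k (by rw [Fin.lt_def]; omega), mul_zero]
  have hψp : ψ p' = 0 := by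
    have h0 : ψ ⬝ᵥ x = 0 := by rw [hψ, ← Matrix.dotProduct_mulVec]; exact hdot
    rw [dotProduct, Finset.sum_eq_single p'] at h0
    · rwa [hp'1, mul_one] at h0
    · intro l _ hl
      rcases lt_or_gt_of_ne hl with h | h
      · rw [hψ1 l h, zero_mul]
      · rw [hp'2 l h, mul_zero]
    · intro h; exact absurd (Finset.mem_univ _) h
  have hψ2 : ∀ l : Fin n, l.val ≤ p'.val → ψ l = 0 := by
    intro l hl
    rcases Nat.lt_or_ge l.val p'.val with h | h
    · exact hψ1 l h
    · have : l = p' := Fin.ext (by omega)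
      rw [this]; exact hψp
  let t : Matrix (Fin n) (Fin n) (ZMod 2) := 1 + vecMulVec v φ
  have ht_low : ∀ a b : Fin n, b ≤ a → v a * φ b = 0 := by
    intro a b hba
    by_cases ha : a.val ≤ p.val
    · rw [hφ1 b (le_trans (Fin.le_def.mp hba) ha), mul_zero]
    · rw [hp2 a (by rw [Fin.lt_def]; omega), zero_mul]
  have ht_tri : t.BlockTriangular id := by
    intro a b hab
    show (1 + vecMulVec v φ) a b = 0
    have hab' : b < a := hab
    rw [Matrix.add_apply, Matrix.one_apply_ne (ne_of_gt hab'), vecMulVec_apply,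
      ht_low a b (le_of_lt hab'), add_zero]
  have ht_det : t.det = 1 := by
    rw [det_of_isUpperTriangular ht_tri]
    apply Finset.prod_eq_one; intro a _
    show (1 + vecMulVec v φ) a a = 1
    rw [Matrix.add_apply, Matrix.one_apply_eq, vecMulVec_apply, ht_low a a le_rfl, add_zero]
  let T : SLn n := ⟨t, ht_det⟩
  have hT : T ∈ UT n := ht_tri
  have hconj : (g⁻¹ * T * g : SLn n).1 = 1 + vecMulVec x ψ := by
    show (g⁻¹ : SLn n).1 * (1 + vecMulVec v φ) * g.1 = _
    rw [Matrix.mul_add, Matrix.add_mul, Matrix.mul_one, coe_inv_mul, Matrix.mul_vecMulVec,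
      Matrix.vecMulVec_mul, hxv]
  have hT' : g⁻¹ * T * g ∈ UT n := by
    rw [mem_UT]; intro a b hab
    rw [hconj, Matrix.add_apply, Matrix.one_apply_ne (ne_of_gt hab), vecMulVec_apply, zero_add]
    by_cases ha : a.val ≤ p'.val
    · rw [hψ2 b (by have : b.val < a.val := hab; omega), mul_zero]
    · rw [hp'2 a (by rw [Fin.lt_def]; omega), zero_mul]
  have hT1 := hd T hT hT'
  obtain ⟨m, hm⟩ : ∃ m, φ m ≠ 0 := by
    by_contra h; push Not at h; exact hφ0 (funext h)
  have hmp : p.val < m.val := by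
    by_contra h; push Not at h; exact hm (hφ1 m h)
  have hpm : p ≠ m := by intro h; rw [h] at hmp; omega
  have h1 : t p m = 0 := by
    have h3 : T.1 = (1 : SLn n).1 := congrArg Subtype.val hT1
    have h4 : t = 1 := h3
    rw [h4]; exact Matrix.one_apply_ne hpm
  have h2 : t p m = φ m := by
    show (1 + vecMulVec v φ) p m = _
    rw [Matrix.add_apply, Matrix.one_apply_ne hpm, vecMulVec_apply, hp1, one_mul, zero_add]
  rw [h2] at h1
  exact hm h1

end Cfsg.Agent.H16FL
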