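import Mathlib
import Cfsg.Agent.H16FL4

/-! The big cell: a conjugate of the unitriangular group meeting it trivially is obtained through
the longest element. -/

set_option autoImplicit false

namespace Cfsg.Agent.H16FL

open Matrix

variable {n : ℕ}

/-- the linear conditions for the adapted basis vectors -/
def PsiB (g : SLn n) (i : Fin n) :
    (Fin n → ZMod 2) →ₗ[ZMod 2] (Fin (n - 1) → ZMod 2) where
  toFun y := fun l => if hl : l.val < i.val then y ⟨n - i.val + l.val, by have := l.2; have := i.2; omega⟩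
      else (g.1 *ᵥ y) ⟨l.val + 1, by have := l.2; omega⟩
  map_add' φ ψ := by
    funext l; simp only [Pi.add_apply]; split_ifs <;> simp [Matrix.mulVec_add]
  map_smul' c φ := by
    funext l; simp only [Pi.smul_apply, RingHom.id_apply]; split_ifs <;> simp [Matrix.mulVec_smul]

theorem exists_adapted (g : SLn n) (hd : ∀ y, y ∈ UT n → g⁻¹ * y * g ∈ UT n → y = 1) (i : Fin n) :
    ∃ y : Fin n → ZMod 2, Vk (n - i.val) y ∧ Vk (i.val + 1) (g.1 *ᵥ y) ∧ (g.1 *ᵥ y) i = 1 := by
  obtain ⟨y, hy0, hy⟩ := exists_ker (m := n - 1) (by have := i.2; omega) (PsiB g i)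
  have h1 : Vk (n - i.val) y := by
    intro j hj
    have hl : j.val - (n - i.val) < i.val := by have := j.2; have := i.2; omega
    have := congrFun hy ⟨j.val - (n - i.val), by have := i.2; omega⟩
    simp only [PsiB, LinearMap.coe_mk, AddHom.coe_mk, hl, dite_true, Pi.zero_apply] at this
    have e : (⟨n - i.val + (j.val - (n - i.val)), by have := j.2; have := i.2; omega⟩ : Fin n) = j :=
      Fin.ext (by simp; omega)
    rw [e] at this
    exact this
  have h2 : Vk (i.val + 1) (g.1 *ᵥ y) := by
    intro m hm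
    have hl : ¬ (m.val - 1 < i.val) := by omega
    have := congrFun hy ⟨m.val - 1, by have := m.2; omega⟩
    simp only [PsiB, LinearMap.coe_mk, AddHom.coe_mk, hl, dite_false, Pi.zero_apply] at this
    have e : (⟨m.val - 1 + 1, by have := m.2; omega⟩ : Fin n) = m := Fin.ext (by simp; omega)
    rw [e] at this
    exact this
  refine ⟨y, h1, h2, ?_⟩
  apply zmod2_eq_one
  intro h0
  apply hy0
  apply opp_of_disj g hd i.val y h1
  intro m hm
  rcases Nat.lt_or_ge i.val m.val with h | h
  · exact h2 m h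
  · have : m = i := Fin.ext (by omega)
    rw [this]; exact h0

/-- the antidiagonal permutation matrix -/
def Wm (n : ℕ) : Matrix (Fin n) (Fin n) (ZMod 2) :=
  Matrix.of fun a b => if b = a.rev then 1 else 0

lemma Wm_mul_Wm : Wm n * Wm n = 1 := by
  ext a b
  rw [Matrix.mul_apply, Finset.sum_eq_single a.rev]
  · simp only [Wm, Matrix.of_apply, if_true, one_mul, Fin.rev_rev, Matrix.one_apply]
    by_cases h : a = b
    · simp [h]
    · rw [if_neg h, if_neg (Ne.symm h)]
  · intro c _ hc
    simp only [Wm, Matrix.of_apply]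
    rw [if_neg hc, zero_mul]
  · intro h; exact absurd (Finset.mem_univ _) h

lemma Wm_det : (Wm n).det = 1 := by
  apply zmod2_eq_one
  intro h0
  have := congrArg Matrix.det (Wm_mul_Wm (n := n))
  rw [Matrix.det_mul, h0, Matrix.det_one, zero_mul] at this
  exact zero_ne_one this

/-- the longest element -/
def Wel (n : ℕ) : SLn n := ⟨Wm n, Wm_det⟩

lemma mul_Wm_apply (Y : Matrix (Fin n) (Fin n) (ZMod 2)) (k m : Fin n) :
    (Y * Wm n) k m = Y k m.rev := by
  rw [Matrix.mul_apply, Finset.sum_eq_single m.rev]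
  · simp [Wm]
  · intro c _ hc
    have : m ≠ c.rev := by
      intro h; apply hc; rw [h, Fin.rev_rev]
    simp only [Wm, Matrix.of_apply]
    rw [if_neg this, mul_zero]
  · intro h; exact absurd (Finset.mem_univ _) h

/-- **Big cell.** -/
theorem bigcell (g : SLn n) (hd : ∀ y, y ∈ UT n → g⁻¹ * y * g ∈ UT n → y = 1) :
    ∃ u ∈ UT n, ∃ s ∈ UT n, g = u * Wel n * s := by
  choose y hy1 hy2 hy3 using exists_adapted g hd
  let Y : Matrix (Fin n) (Fin n) (ZMod 2) := Matrix.of fun k i => y i k
  have hU : ∀ k i, (g.1 * Y) k i = (g.1 *ᵥ y i) k := by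
    intro k i
    rw [Matrix.mul_apply]; rfl
  have hU_tri : (g.1 * Y).BlockTriangular id := by
    intro k i hik
    have hik' : i < k := hik
    rw [hU]
    exact hy2 i k (by have : i.val < k.val := hik'; omega)
  have hU_det : (g.1 * Y).det = 1 := by
    rw [det_of_isUpperTriangular hU_tri]
    apply Finset.prod_eq_one; intro a _
    rw [hU]; exact hy3 a
  let uel : SLn n := ⟨g.1 * Y, hU_det⟩
  have huel : uel ∈ UT n := hU_tri
  let sel : SLn n := g⁻¹ * uel * Wel n
  have hsel_mat : sel.1 = Y * Wm n := by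
    show (g⁻¹ : SLn n).1 * (g.1 * Y) * Wm n = _
    rw [← Matrix.mul_assoc, coe_inv_mul, Matrix.one_mul]
  have hsel : sel ∈ UT n := by
    rw [mem_UT]
    intro k m hmk
    rw [hsel_mat, mul_Wm_apply]
    show y m.rev k = 0
    apply hy1 m.rev k
    rw [Fin.val_rev]
    have : m.val < k.val := hmk
    have := m.2
    omega
  refine ⟨uel, huel, sel⁻¹, (UT n).inv_mem hsel, ?_⟩
  show g = uel * Wel n * (g⁻¹ * uel * Wel n)⁻¹
  group

end Cfsg.Agent.H16FL
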