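import Mathlib
import Cfsg.Agent.Lib_helper3_Basic

set_option autoImplicit false

namespace Cfsg.Agent.helper23

open scoped Pointwise

universe u

/-- `K * L ⊆ L * K` (elementwise). -/
def PermWith {G : Type*} [Group G] (L K : Subgroup G) : Prop :=
  ∀ l ∈ L, ∀ k ∈ K, ∃ l' ∈ L, ∃ k' ∈ K, k * l = l' * k'

theorem permWith_of_coe_eq {G : Type*} [Group G] (H K S : Subgroup G)
    (h : (S : Set G) = (H : Set G) * (K : Set G)) : PermWith H K := by
  intro l hl k hk
  have hlS : l ∈ S := by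
    rw [← SetLike.mem_coe, h]; exact ⟨l, hl, 1, K.one_mem, mul_one l⟩
  have hkS : k ∈ S := by
    rw [← SetLike.mem_coe, h]; exact ⟨1, H.one_mem, k, hk, one_mul k⟩
  have hkl : k * l ∈ (S : Set G) := S.mul_mem hkS hlS
  rw [h] at hkl
  obtain ⟨l', hl', k', hk', e⟩ := hkl
  exact ⟨l', hl', k', hk', e.symm⟩

theorem exists_coe_eq_of_permWith {G : Type*} [Group G] (L K : Subgroup G) (h : PermWith L K) :
    ∃ T : Subgroup G, (T : Set G) = (L : Set G) * (K : Set G) := by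
  have hmul : ∀ a ∈ (L : Set G) * (K : Set G), ∀ b ∈ (L : Set G) * (K : Set G),
      a * b ∈ (L : Set G) * (K : Set G) := by
    intro a ha b hb
    obtain ⟨l1, hl1, k1, hk1, e1⟩ := ha
    obtain ⟨l2, hl2, k2, hk2, e2⟩ := hb
    have e1' : l1 * k1 = a := e1
    have e2' : l2 * k2 = b := e2
    obtain ⟨l', hl', k', hk', e⟩ := h l2 hl2 k1 hk1
    refine ⟨l1 * l', L.mul_mem hl1 hl', k' * k2, K.mul_mem hk' hk2, ?_⟩
    show l1 * l' * (k' * k2) = a * b
    rw [← e1', ← e2']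
    calc l1 * l' * (k' * k2) = l1 * (l' * k') * k2 := by group
      _ = l1 * (k1 * l2) * k2 := by rw [e]
      _ = l1 * k1 * (l2 * k2) := by group
  have hinv : ∀ a ∈ (L : Set G) * (K : Set G), a⁻¹ ∈ (L : Set G) * (K : Set G) := by
    intro a ha
    obtain ⟨l1, hl1, k1, hk1, e1⟩ := ha
    have e1' : l1 * k1 = a := e1
    obtain ⟨l', hl', k', hk', e⟩ := h l1⁻¹ (L.inv_mem hl1) k1⁻¹ (K.inv_mem hk1)
    refine ⟨l', hl', k', hk', ?_⟩
    show l' * k' = a⁻¹
    rw [← e, ← e1', mul_inv_rev]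
  exact ⟨{ carrier := (L : Set G) * (K : Set G)
           mul_mem' := fun {a b} ha hb => hmul a ha b hb
           one_mem' := ⟨1, L.one_mem, 1, K.one_mem, mul_one 1⟩
           inv_mem' := fun {a} ha => hinv a ha }, rfl⟩

theorem permWith_sup {G : Type*} [Group G] (H1 H2 K : Subgroup G) (h1 : PermWith H1 K)
    (h2 : PermWith H2 K) : PermWith (H1 ⊔ H2) K := by
  intro l hl
  rw [Subgroup.sup_eq_closure] at hl
  induction hl using Subgroup.closure_induction'' with
  | one =>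
    intro k hk
    exact ⟨1, (H1 ⊔ H2).one_mem, k, hk, by rw [mul_one, one_mul]⟩
  | mem x hx =>
    intro k hk
    rcases hx with hx | hx
    · obtain ⟨l', hl', k', hk', e⟩ := h1 x hx k hk
      exact ⟨l', (le_sup_left : H1 ≤ H1 ⊔ H2) hl', k', hk', e⟩
    · obtain ⟨l', hl', k', hk', e⟩ := h2 x hx k hk
      exact ⟨l', (le_sup_right : H2 ≤ H1 ⊔ H2) hl', k', hk', e⟩
  | inv_mem x hx =>
    intro k hk
    rcases hx with hx | hx
    · obtain ⟨l', hl', k', hk', e⟩ := h1 x⁻¹ (H1.inv_mem hx) k hk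
      exact ⟨l', (le_sup_left : H1 ≤ H1 ⊔ H2) hl', k', hk', e⟩
    · obtain ⟨l', hl', k', hk', e⟩ := h2 x⁻¹ (H2.inv_mem hx) k hk
      exact ⟨l', (le_sup_right : H2 ≤ H1 ⊔ H2) hl', k', hk', e⟩
  | mul x y _ _ ihx ihy =>
    intro k hk
    obtain ⟨l1, hl1, k1, hk1, e1⟩ := ihx k hk
    obtain ⟨l2, hl2, k2, hk2, e2⟩ := ihy k1 hk1
    refine ⟨l1 * l2, (H1 ⊔ H2).mul_mem hl1 hl2, k2, hk2, ?_⟩
    rw [← mul_assoc, e1, mul_assoc, e2, mul_assoc]

/-- Kegel's lemma: if `A * B^x` is a proper subgroup for every `x`, then `A` or `B` lies in a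
proper normal subgroup. -/
theorem kegel_lemma {G : Type u} [Group G] [Finite G] (B : Subgroup G) :
    ∀ (n : ℕ) (A : Subgroup G), A.index = n →
      (∀ x : G, ∃ S : Subgroup G, S ≠ ⊤ ∧
        (S : Set G) = (A : Set G) * ((MulAut.conj x • B : Subgroup G) : Set G)) →
      ∃ N : Subgroup G, N.Normal ∧ N ≠ ⊤ ∧ (A ≤ N ∨ B ≤ N) := by
  intro n
  induction n using Nat.strong_induction_on with
  | _ n ih =>
  intro A hAn h
  by_cases hNA : Subgroup.normalClosure (A : Set G) = ⊤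
  swap
  · exact ⟨_, Subgroup.normalClosure_normal, hNA, Or.inl Subgroup.le_normalClosure⟩
  by_cases hNB : Subgroup.normalClosure (B : Set G) = ⊤
  swap
  · exact ⟨_, Subgroup.normalClosure_normal, hNB, Or.inr Subgroup.le_normalClosure⟩
  have hAnn : Subgroup.normalizer (A : Set G) ≠ ⊤ := by
    intro htop
    haveI hAnorm : A.Normal := Subgroup.normalizer_eq_top_iff.mp htop
    have hA_top : A = ⊤ := by
      rw [← hNA]
      apply le_antisymm Subgroup.le_normalClosure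
      exact Subgroup.normalClosure_le_normal (le_refl _)
    obtain ⟨S, hS, hSe⟩ := h 1
    apply hS
    rw [eq_top_iff, ← hA_top]
    intro a ha
    rw [← SetLike.mem_coe, hSe]
    exact ⟨a, ha, 1, Subgroup.one_mem _, mul_one a⟩
  obtain ⟨x, b, hb, hbN⟩ : ∃ x b : G, b ∈ MulAut.conj x • B ∧
      b ∉ Subgroup.normalizer (A : Set G) := by
    by_contra hcon
    push Not at hcon
    apply hAnn
    rw [eq_top_iff, ← hNB, Subgroup.normalClosure, Subgroup.closure_le]
    intro y hy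
    rw [Group.mem_conjugatesOfSet_iff] at hy
    obtain ⟨b0, hb0, hconj⟩ := hy
    obtain ⟨c, hc⟩ := isConj_iff.mp hconj
    rw [← hc]
    exact hcon c _ (Cfsg.Agent.helper3.conj_mem_conj_smul c b0 B hb0)
  have hAb : MulAut.conj b • A ≠ A :=
    fun e => hbN ((Cfsg.Agent.helper3.conj_smul_eq_self_iff b A).mp e)
  obtain ⟨Astar, hAstar⟩ : ∃ X : Subgroup G, X = A ⊔ MulAut.conj b • A := ⟨_, rfl⟩
  have hlt : A < Astar := by
    rw [hAstar]
    apply lt_of_le_of_ne le_sup_left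
    intro e
    apply hAb
    have hle : MulAut.conj b • A ≤ A := by
      have := (le_sup_right : MulAut.conj b • A ≤ A ⊔ MulAut.conj b • A)
      rwa [← e] at this
    exact Subgroup.eq_of_le_of_card_ge hle (by rw [Cfsg.Agent.helper3.card_conj_smul])
  obtain ⟨Hx, hHx, hHxe⟩ := h x
  have hAH : A ≤ Hx := by
    intro a ha
    rw [← SetLike.mem_coe, hHxe]
    exact ⟨a, ha, 1, Subgroup.one_mem _, mul_one a⟩
  have hBH : MulAut.conj x • B ≤ Hx := by
    intro c hc
    rw [← SetLike.mem_coe, hHxe]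
    exact ⟨1, A.one_mem, c, hc, one_mul c⟩
  have hbH : b ∈ Hx := hBH hb
  have hAbH : MulAut.conj b • A ≤ Hx := by
    intro z hz
    rw [Cfsg.Agent.helper3.mem_conj_smul_iff] at hz
    have : z = b * (b⁻¹ * z * b) * b⁻¹ := by group
    rw [this]
    exact Hx.mul_mem (Hx.mul_mem hbH (hAH hz)) (Hx.inv_mem hbH)
  have hAsH : Astar ≤ Hx := by rw [hAstar]; exact sup_le hAH hAbH
  have hperm : ∀ y : G, PermWith Astar (MulAut.conj y • B) := by
    intro y
    rw [hAstar]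
    apply permWith_sup
    · obtain ⟨S, _, hSe⟩ := h y
      exact permWith_of_coe_eq _ _ S hSe
    · obtain ⟨S, _, hSe⟩ := h (b⁻¹ * y)
      have hP := permWith_of_coe_eq _ _ S hSe
      intro l hl k hk
      rw [Cfsg.Agent.helper3.mem_conj_smul_iff] at hl hk
      have hk0 : b⁻¹ * k * b ∈ MulAut.conj (b⁻¹ * y) • B := by
        rw [Cfsg.Agent.helper3.mem_conj_smul_iff]
        have : (b⁻¹ * y)⁻¹ * (b⁻¹ * k * b) * (b⁻¹ * y) = y⁻¹ * k * y := by group
        rw [this]; exact hk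
      obtain ⟨l', hl', k', hk', e⟩ := hP _ hl _ hk0
      refine ⟨b * l' * b⁻¹, Cfsg.Agent.helper3.conj_mem_conj_smul b l' A hl', b * k' * b⁻¹, ?_, ?_⟩
      · rw [Cfsg.Agent.helper3.mem_conj_smul_iff] at hk' ⊢
        have : y⁻¹ * (b * k' * b⁻¹) * y = (b⁻¹ * y)⁻¹ * k' * (b⁻¹ * y) := by group
        rw [this]; exact hk'
      · calc k * l = b * ((b⁻¹ * k * b) * (b⁻¹ * l * b)) * b⁻¹ := by group
          _ = b * (l' * k') * b⁻¹ := by rw [e]
          _ = b * l' * b⁻¹ * (b * k' * b⁻¹) := by group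
  have hT : ∀ y : G, ∃ T : Subgroup G,
      (T : Set G) = (Astar : Set G) * ((MulAut.conj y • B : Subgroup G) : Set G) :=
    fun y => exists_coe_eq_of_permWith _ _ (hperm y)
  by_cases hall : ∀ y : G, ∃ T : Subgroup G, T ≠ ⊤ ∧
      (T : Set G) = (Astar : Set G) * ((MulAut.conj y • B : Subgroup G) : Set G)
  · obtain ⟨N, hN, hNt, hor⟩ :=
      ih Astar.index (by rw [← hAn]; exact Subgroup.index_strictAnti hlt) Astar rfl hall
    refine ⟨N, hN, hNt, ?_⟩
    rcases hor with h1 | h1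
    · exact Or.inl (hlt.le.trans h1)
    · exact Or.inr h1
  · exfalso
    push Not at hall
    obtain ⟨y, hy⟩ := hall
    obtain ⟨T, hTe⟩ := hT y
    have hTtop : T = ⊤ := by
      by_contra hne; exact hy T hne hTe
    have hdec : ∀ g : G, ∃ a ∈ Astar, ∃ c ∈ MulAut.conj y • B, g = a * c := by
      intro g
      have hg : g ∈ (T : Set G) := by rw [hTtop]; exact Set.mem_univ g
      rw [hTe] at hg
      obtain ⟨a, ha, c, hc, e⟩ := hg
      exact ⟨a, ha, c, hc, e.symm⟩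
    have hByH : MulAut.conj y • B ≤ Hx := by
      intro z hz
      obtain ⟨a, ha, c, hc, e⟩ := hdec (x * y⁻¹)
      have hy_eq : y = c⁻¹ * a⁻¹ * x := by
        calc y = (x * y⁻¹)⁻¹ * x := by group
          _ = (a * c)⁻¹ * x := by rw [e]
          _ = c⁻¹ * a⁻¹ * x := by group
      have hz' : c⁻¹ * z * c ∈ MulAut.conj y • B :=
        Subgroup.mul_mem _ (Subgroup.mul_mem _ (Subgroup.inv_mem _ hc) hz) hc
      rw [Cfsg.Agent.helper3.mem_conj_smul_iff] at hz'
      have hkey : x⁻¹ * (a * z * a⁻¹) * x = y⁻¹ * (c⁻¹ * z * c) * y := by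
        rw [hy_eq]; group
      have h1 : a * z * a⁻¹ ∈ MulAut.conj x • B := by
        rw [Cfsg.Agent.helper3.mem_conj_smul_iff, hkey]; exact hz'
      have h2 : a * z * a⁻¹ ∈ Hx := hBH h1
      have haH : a ∈ Hx := hAsH ha
      have : z = a⁻¹ * (a * z * a⁻¹) * a := by group
      rw [this]
      exact Hx.mul_mem (Hx.mul_mem (Hx.inv_mem haH) h2) haH
    apply hHx
    rw [eq_top_iff]
    intro g _
    obtain ⟨a, ha, c, hc, e⟩ := hdec g
    rw [e]
    exact Hx.mul_mem (hAsH ha) (hByH hc)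

end Cfsg.Agent.helper23
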