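import Mathlib

set_option autoImplicit false

namespace Cfsg.Agent.helper21

variable {H : Type*} [Group H]

/-- if indices are coprime then `A.relIndex B = A.index` -/
theorem relIndex_eq_index_of_coprime [Finite H] (A B : Subgroup H)
    (hcop : A.index.Coprime B.index) : A.relIndex B = A.index := by
  have h1 : A.relIndex B * B.index = (A ⊓ B).index := by
    simpa using Subgroup.relIndex_inf_mul_relIndex A B ⊤
  have h2 : B.relIndex A * A.index = (A ⊓ B).index := by
    have := Subgroup.relIndex_inf_mul_relIndex B A ⊤
    rw [inf_comm A B]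
    simpa using this
  have hdvd : A.index ∣ A.relIndex B := by
    have : A.index ∣ A.relIndex B * B.index := by
      rw [h1, ← h2]; exact dvd_mul_left _ _
    exact hcop.dvd_of_dvd_mul_right this
  have hle : A.relIndex B ≤ A.index := by
    have h3 := Subgroup.index_inf_le (H := A) (K := B)
    rw [← h1] at h3
    have hpos : 0 < B.index := Nat.pos_of_ne_zero Subgroup.index_ne_zero_of_finite
    exact Nat.le_of_mul_le_mul_right h3 hpos
  have hpos : 0 < A.relIndex B := Nat.pos_of_ne_zero Subgroup.index_ne_zero_of_finite
  exact Nat.le_antisymm hle (Nat.le_of_dvd hpos hdvd)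

/-- if indices are coprime then `H = B A` -/
theorem exists_mul_of_coprime_index [Finite H] (A B : Subgroup H)
    (hcop : A.index.Coprime B.index) (h : H) : ∃ β ∈ B, ∃ α ∈ A, h = β * α := by
  classical
  let φ : B ⧸ A.subgroupOf B → H ⧸ A := Quotient.map' (fun b : B => (b : H)) (by
    intro x y hxy
    rw [QuotientGroup.leftRel_apply] at hxy ⊢
    exact hxy)
  have hφinj : Function.Injective φ := by
    intro x y
    induction x using QuotientGroup.induction_on with
    | H x =>
    induction y using QuotientGroup.induction_on with
    | H y =>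
    intro hxy
    have hxy' : (QuotientGroup.mk (x : H) : H ⧸ A) = QuotientGroup.mk (y : H) := hxy
    rw [QuotientGroup.eq] at hxy' ⊢
    exact hxy'
  have hcard : Nat.card (H ⧸ A) ≤ Nat.card (B ⧸ A.subgroupOf B) := by
    have := relIndex_eq_index_of_coprime A B hcop
    rw [Subgroup.relIndex, Subgroup.index, Subgroup.index] at this
    rw [this]
  have hbij := hφinj.bijective_of_nat_card_le hcard
  obtain ⟨q, hq⟩ := hbij.2 (QuotientGroup.mk h)
  induction q using QuotientGroup.induction_on with
  | H β =>
  have hq' : (QuotientGroup.mk (β : H) : H ⧸ A) = QuotientGroup.mk h := hq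
  rw [QuotientGroup.eq] at hq'
  exact ⟨β, β.2, _, hq', by group⟩

end Cfsg.Agent.helper21
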