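import Mathlib
import Cfsg.Agent.Lib_helper3_Basic
import Cfsg.Agent.Lib_helper21_Basic
import Cfsg.Agent.Lib_helper23_Hall

set_option autoImplicit false

namespace Cfsg.Agent.helper23

open scoped Pointwise

universe u

/-- In `G = HK`, with `H ≤ N(A)` and `K ≤ N(B)`, all pairs of conjugates `(A^x, B^y)` are
simultaneously conjugate to `(A, B)`. -/
theorem pair_conj {G : Type*} [Group G] (H K A B : Subgroup G)
    (hHK : ∀ g : G, ∃ h ∈ H, ∃ k ∈ K, g = h * k)
    (hAN : H ≤ Subgroup.normalizer (A : Set G)) (hBN : K ≤ Subgroup.normalizer (B : Set G))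
    (x y : G) :
    ∃ g : G, MulAut.conj g • A = MulAut.conj x • A ∧ MulAut.conj g • B = MulAut.conj y • B := by
  obtain ⟨h, hh, k, hk, e⟩ := hHK (x⁻¹ * y)
  refine ⟨x * h, ?_, ?_⟩
  · rw [map_mul, mul_smul, (Cfsg.Agent.helper3.conj_smul_eq_self_iff h A).mpr (hAN hh)]
  · have e2 : x * h = y * k⁻¹ := by
      have : y = x * (h * k) := by rw [← e]; group
      rw [this]; group
    rw [e2, map_mul, mul_smul,
      (Cfsg.Agent.helper3.conj_smul_eq_self_iff k⁻¹ B).mpr (hBN (K.inv_mem hk))]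

theorem coe_conj_smul_mul {G : Type*} [Group G] (A B T : Subgroup G) (g : G)
    (hT : (T : Set G) = (A : Set G) * (B : Set G)) :
    ((MulAut.conj g • T : Subgroup G) : Set G) =
      ((MulAut.conj g • A : Subgroup G) : Set G) * ((MulAut.conj g • B : Subgroup G) : Set G) := by
  ext z
  constructor
  · intro hz
    have hz' : g⁻¹ * z * g ∈ T := (Cfsg.Agent.helper3.mem_conj_smul_iff g z T).mp hz
    rw [← SetLike.mem_coe, hT] at hz'
    obtain ⟨a, ha, b, hb, e⟩ := hz'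
    have e' : a * b = g⁻¹ * z * g := e
    refine ⟨g * a * g⁻¹, Cfsg.Agent.helper3.conj_mem_conj_smul g a A ha, g * b * g⁻¹,
      Cfsg.Agent.helper3.conj_mem_conj_smul g b B hb, ?_⟩
    show g * a * g⁻¹ * (g * b * g⁻¹) = z
    calc g * a * g⁻¹ * (g * b * g⁻¹) = g * (a * b) * g⁻¹ := by group
      _ = g * (g⁻¹ * z * g) * g⁻¹ := by rw [e']
      _ = z := by group
  · rintro ⟨a, ha, b, hb, e⟩
    have e' : a * b = z := e
    rw [SetLike.mem_coe, Cfsg.Agent.helper3.mem_conj_smul_iff] at ha hb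
    rw [SetLike.mem_coe, Cfsg.Agent.helper3.mem_conj_smul_iff]
    have : g⁻¹ * z * g ∈ (T : Set G) := by
      rw [hT]
      refine ⟨g⁻¹ * a * g, ha, g⁻¹ * b * g, hb, ?_⟩
      show g⁻¹ * a * g * (g⁻¹ * b * g) = g⁻¹ * z * g
      rw [← e']; group
    exact this

/-- `G = HK` solvable, `A`, `B` Hall subgroups of `G` normalized by `H`, `K` respectively: all
products `A^x B^y` are subgroups. -/
theorem prod_normal_hall_isSubgroup {G : Type u} [Group G] [Finite G] [Group.IsSolvable G]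
    (H K A B : Subgroup G) (hHK : ∀ g : G, ∃ h ∈ H, ∃ k ∈ K, g = h * k)
    (hAN : H ≤ Subgroup.normalizer (A : Set G)) (hBN : K ≤ Subgroup.normalizer (B : Set G))
    (hAh : (Nat.card A).Coprime A.index) (hBh : (Nat.card B).Coprime B.index) (x y : G) :
    ∃ S : Subgroup G, (S : Set G) =
      ((MulAut.conj x • A : Subgroup G) : Set G) * ((MulAut.conj y • B : Subgroup G) : Set G) := by
  obtain ⟨a, ha⟩ : ∃ a, a = Nat.card A := ⟨_, rfl⟩
  obtain ⟨b, hb⟩ : ∃ b, b = Nat.card B := ⟨_, rfl⟩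
  have haN : a * A.index = Nat.card G := by rw [ha]; exact Subgroup.card_mul_index A
  have hbN : b * B.index = Nat.card G := by rw [hb]; exact Subgroup.card_mul_index B
  have hapos : 0 < a := by rw [ha]; exact Nat.card_pos
  have hbpos : 0 < b := by rw [hb]; exact Nat.card_pos
  have hm_dvd : Nat.lcm a b ∣ Nat.card G := Nat.lcm_dvd (Dvd.intro _ haN) (Dvd.intro _ hbN)
  obtain ⟨n, hn⟩ := hm_dvd
  have hnA : n ∣ A.index := by
    obtain ⟨c, hc⟩ := Nat.dvd_lcm_left a b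
    have : a * A.index = a * (c * n) := by rw [haN, hn, hc, mul_assoc]
    have h2 := Nat.eq_of_mul_eq_mul_left hapos this
    exact ⟨c, by rw [h2, mul_comm]⟩
  have hnB : n ∣ B.index := by
    obtain ⟨c, hc⟩ := Nat.dvd_lcm_right a b
    have : b * B.index = b * (c * n) := by rw [hbN, hn, hc, mul_assoc]
    have h2 := Nat.eq_of_mul_eq_mul_left hbpos this
    exact ⟨c, by rw [h2, mul_comm]⟩
  have hAh' : a.Coprime A.index := by rw [ha]; exact hAh
  have hBh' : b.Coprime B.index := by rw [hb]; exact hBh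
  have hcopA : a.Coprime n := Nat.Coprime.coprime_dvd_right hnA hAh'
  have hcopB : b.Coprime n := Nat.Coprime.coprime_dvd_right hnB hBh'
  have hmn : (Nat.lcm a b).Coprime n := Nat.Coprime.coprime_dvd_left (Nat.lcm_dvd_mul a b) (Nat.Coprime.mul_left hcopA hcopB)
  obtain ⟨S0, hS0⟩ := hall_exists (G := G) (Nat.lcm a b) n hn hmn
  obtain ⟨g1, hg1⟩ := hall_le_conj (Nat.lcm a b) n hn hmn S0 A hS0 (by rw [← ha]; exact hcopA)
  obtain ⟨S1, hS1⟩ : ∃ S1 : Subgroup G, S1 = MulAut.conj g1 • S0 := ⟨_, rfl⟩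
  have hS1card : Nat.card S1 = Nat.lcm a b := by
    rw [hS1, Cfsg.Agent.helper3.card_conj_smul, hS0]
  have hAS1 : A ≤ S1 := by rw [hS1]; exact hg1
  obtain ⟨g2, hg2⟩ :=
    hall_le_conj (Nat.lcm a b) n hn hmn S1 B hS1card (by rw [← hb]; exact hcopB)
  obtain ⟨B', hB'⟩ : ∃ B' : Subgroup G, B' = MulAut.conj g2⁻¹ • B := ⟨_, rfl⟩
  have hB'S1 : B' ≤ S1 := by
    intro z hz
    rw [hB', Cfsg.Agent.helper3.mem_conj_smul_iff, inv_inv] at hz
    have h1 := hg2 hz
    rw [Cfsg.Agent.helper3.mem_conj_smul_iff] at h1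
    have e : g2⁻¹ * (g2 * z * g2⁻¹) * g2 = z := by group
    rwa [e] at h1
  have hB'card : Nat.card B' = b := by rw [hB', Cfsg.Agent.helper3.card_conj_smul, hb]
  have hB'idx : B'.index = B.index := by
    have h1 := Subgroup.card_mul_index B'
    rw [hB'card, ← hbN] at h1
    exact Nat.eq_of_mul_eq_mul_left hbpos h1
  have hcardA : Nat.card A * A.relIndex S1 = Nat.card S1 := by
    have := Subgroup.relIndex_mul_relIndex ⊥ A S1 bot_le hAS1
    rwa [Subgroup.relIndex_bot_left, Subgroup.relIndex_bot_left] at this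
  have hcopI : ((A.subgroupOf S1).index).Coprime ((B'.subgroupOf S1).index) := by
    apply Nat.coprime_of_dvd
    intro r hr hrA hrB
    have hrA' : r ∣ A.relIndex S1 := hrA
    have hrB' : r ∣ B'.relIndex S1 := hrB
    have hrm : r ∣ Nat.lcm a b := by
      rw [← hS1card, ← hcardA]; exact dvd_mul_of_dvd_right hrA' _
    have hrab : r ∣ a * b := dvd_trans hrm (Nat.lcm_dvd_mul a b)
    rcases (Nat.Prime.dvd_mul hr).mp hrab with h | h
    · have h1 : r ∣ A.index := dvd_trans hrA' (Subgroup.relIndex_dvd_index_of_le hAS1)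
      have h2 := Nat.dvd_gcd h h1
      rw [Nat.Coprime.gcd_eq_one hAh'] at h2
      exact hr.one_lt.ne' (Nat.dvd_one.mp h2)
    · have h1 : r ∣ B.index := by
        rw [← hB'idx]; exact dvd_trans hrB' (Subgroup.relIndex_dvd_index_of_le hB'S1)
      have h2 := Nat.dvd_gcd h h1
      rw [Nat.Coprime.gcd_eq_one hBh'] at h2
      exact hr.one_lt.ne' (Nat.dvd_one.mp h2)
  have hS1sub : ∀ s ∈ S1, ∃ α ∈ A, ∃ β ∈ B', s = α * β := by
    intro s hs
    obtain ⟨β, hβ, α, hα, e⟩ := Cfsg.Agent.helper21.exists_mul_of_coprime_index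
      (A.subgroupOf S1) (B'.subgroupOf S1) hcopI ((⟨s, hs⟩ : S1)⁻¹)
    refine ⟨(α : G)⁻¹, A.inv_mem (Subgroup.mem_subgroupOf.mp hα), (β : G)⁻¹,
      B'.inv_mem (Subgroup.mem_subgroupOf.mp hβ), ?_⟩
    have e' : s⁻¹ = (β : G) * (α : G) := by
      have := congrArg Subtype.val e
      simpa using this
    calc s = (s⁻¹)⁻¹ := (inv_inv s).symm
      _ = ((β : G) * (α : G))⁻¹ := by rw [e']
      _ = (α : G)⁻¹ * (β : G)⁻¹ := mul_inv_rev _ _
  have hS1e : (S1 : Set G) = (A : Set G) * (B' : Set G) := by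
    ext s
    constructor
    · intro hs
      obtain ⟨α, hα, β, hβ, e⟩ := hS1sub s hs
      exact ⟨α, hα, β, hβ, e.symm⟩
    · rintro ⟨α, hα, β, hβ, e⟩
      have e' : α * β = s := e
      rw [← e']
      exact S1.mul_mem (hAS1 hα) (hB'S1 hβ)
  obtain ⟨g, hgA, hgB⟩ := pair_conj H K A B hHK hAN hBN 1 g2⁻¹
  rw [map_one, one_smul] at hgA
  have hS1e' : (S1 : Set G) = ((MulAut.conj g • A : Subgroup G) : Set G) *
      ((MulAut.conj g • B : Subgroup G) : Set G) := by
    rw [hgA, hgB, ← hB']; exact hS1e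
  have hT0 := coe_conj_smul_mul (MulAut.conj g • A) (MulAut.conj g • B) S1 g⁻¹ hS1e'
  rw [map_inv, inv_smul_smul, inv_smul_smul] at hT0
  obtain ⟨g', hg'A, hg'B⟩ := pair_conj H K A B hHK hAN hBN x y
  refine ⟨MulAut.conj g' • ((MulAut.conj g)⁻¹ • S1), ?_⟩
  rw [coe_conj_smul_mul A B _ g' hT0, hg'A, hg'B]

end Cfsg.Agent.helper23
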