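import Cfsg.Statements.S0560
import Mathlib
import Cfsg.Agent.Lib_helper3_Basic

set_option autoImplicit false
open Pointwise
open Cfsg

namespace Cfsg.Agent.S0560

open scoped Pointwise
open Cfsg.Agent.helper3

theorem card_setmul {G : Type*} [Group G] [Finite G] (A B : Subgroup G) :
    Nat.card ((A : Set G) * (B : Set G) : Set G) * Nat.card (A ⊓ B : Subgroup G)
      = Nat.card A * Nat.card B := by
  rw [Subgroup.card_mul_eq_card_subgroup_mul_card_quotient B (A : Set G)]
  have h1 : ((fun x : G => (x : G ⧸ B)) '' (A : Set G))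
      = MulAction.orbit A ((1 : G) : G ⧸ B) := by
    ext x
    constructor
    · rintro ⟨a, ha, rfl⟩
      refine ⟨⟨a, ha⟩, ?_⟩
      show ((a * 1 : G) : G ⧸ B) = _
      simp
    · rintro ⟨a, rfl⟩
      refine ⟨a, a.2, ?_⟩
      show _ = ((a * 1 : G) : G ⧸ B)
      simp
  have h2 : MulAction.stabilizer A ((1 : G) : G ⧸ B) = B.subgroupOf A := by
    ext a
    rw [MulAction.mem_stabilizer_iff, Subgroup.mem_subgroupOf]
    show ((a * 1 : G) : G ⧸ B) = _ ↔ _
    rw [mul_one, QuotientGroup.eq]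
    simp
  have h3 : Nat.card (MulAction.orbit A ((1 : G) : G ⧸ B)) = (B.subgroupOf A).index := by
    rw [← h2]
    exact Nat.card_congr (MulAction.orbitEquivQuotientStabilizer A _)
  have h4 : Nat.card (B.subgroupOf A) = Nat.card (A ⊓ B : Subgroup G) := by
    rw [← Subgroup.inf_subgroupOf_left]
    exact Nat.card_congr (Subgroup.subgroupOfEquivOfLe inf_le_left).toEquiv
  have h5 := Subgroup.card_mul_index (B.subgroupOf A)
  rw [h1, h3, ← h4, ← h5]
  ring

theorem conj_sylow {G : Type*} [Group G] (X : Subgroup G) {p : ℕ} [Fact p.Prime]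
    (P : Sylow p X) (x : G) (hx : x ∈ X) :
    ∃ P₂ : Sylow p X, ∀ y, y ∈ (P₂ : Subgroup X).map X.subtype ↔
      x⁻¹ * y * x ∈ (P : Subgroup X).map X.subtype := by
  refine ⟨(⟨x, hx⟩ : X) • P, ?_⟩
  intro y
  constructor
  · rintro ⟨z, hz, rfl⟩
    have hz' : z ∈ MulAut.conj (⟨x, hx⟩ : X) • (P : Subgroup X) := hz
    rw [mem_conj_smul_iff] at hz'
    exact ⟨_, hz', by simp⟩
  · rintro ⟨w, hw, hwe⟩
    refine ⟨(⟨x, hx⟩ : X) * w * (⟨x, hx⟩ : X)⁻¹, ?_, ?_⟩
    · show _ ∈ MulAut.conj (⟨x, hx⟩ : X) • (P : Subgroup X)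
      exact conj_mem_conj_smul _ _ _ hw
    · simp only [Subgroup.subtype_apply, Subgroup.coe_mul, Subgroup.coe_inv] at hwe ⊢
      rw [hwe]; group

theorem exists_sylows {G : Type*} [Group G] [Finite G] (H K : Subgroup G)
    (hHK : ∀ g : G, ∃ h ∈ H, ∃ k ∈ K, g = h * k) (p : ℕ) [Fact p.Prime] :
    ∃ (P : Sylow p H) (Q : Sylow p K) (R : Sylow p G),
      (P : Subgroup H).map H.subtype ≤ R ∧ (Q : Subgroup K).map K.subtype ≤ R := by
  obtain ⟨P₀⟩ := (inferInstance : Nonempty (Sylow p H))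
  obtain ⟨Q₀⟩ := (inferInstance : Nonempty (Sylow p K))
  obtain ⟨R₁, hR₁⟩ := IsPGroup.exists_le_sylow (P₀.isPGroup'.map H.subtype)
  obtain ⟨R₂, hR₂⟩ := IsPGroup.exists_le_sylow (Q₀.isPGroup'.map K.subtype)
  obtain ⟨g, hg⟩ := MulAction.exists_smul_eq G R₁ R₂
  obtain ⟨h₁, hh₁, k₁, hk₁, e⟩ := hHK g⁻¹
  obtain ⟨P, hP⟩ := conj_sylow H P₀ h₁⁻¹ (H.inv_mem hh₁)
  obtain ⟨Q, hQ⟩ := conj_sylow K Q₀ k₁ hk₁
  refine ⟨P, Q, h₁⁻¹ • R₁, ?_, ?_⟩
  · intro y hy
    rw [hP] at hy
    have := hR₁ hy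
    show y ∈ MulAut.conj h₁⁻¹ • (R₁ : Subgroup G)
    rw [mem_conj_smul_iff]; exact this
  · intro y hy
    rw [hQ] at hy
    have h1 := hR₂ hy
    rw [← hg] at h1
    have h2 : k₁⁻¹ * y * k₁ ∈ MulAut.conj g • (R₁ : Subgroup G) := h1
    rw [mem_conj_smul_iff] at h2
    show y ∈ MulAut.conj h₁⁻¹ • (R₁ : Subgroup G)
    rw [mem_conj_smul_iff]
    have eg : g = k₁⁻¹ * h₁⁻¹ := by rw [← inv_inv g, e]; group
    have : g⁻¹ * (k₁⁻¹ * y * k₁) * g = h₁⁻¹⁻¹ * y * h₁⁻¹ := by rw [eg]; group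
    rwa [this] at h2

/-- Let the finite group G be the product HK of two subgroups and p a prime. Then there are Sylow p-subgroups P of H and Q of K and a Sylow p-subgroup R of G whose underlying set is the product set of P and Q. -/
theorem result {G : Type*} [Group G] [Finite G] (H K : Subgroup G) (hHK : ∀ g : G, ∃ h ∈ H, ∃ k ∈ K, g = h * k) (p : ℕ) [Fact p.Prime] : ∃ (P : Sylow p H) (Q : Sylow p K) (R : Sylow p G), ((R : Subgroup G) : Set G) = (((P : Subgroup H).map H.subtype : Subgroup G) : Set G) * (((Q : Subgroup K).map K.subtype : Subgroup G) : Set G) := by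
  classical
  have hp : p.Prime := Fact.out
  obtain ⟨P, Q, R, hPR, hQR⟩ := exists_sylows H K hHK p
  refine ⟨P, Q, R, ?_⟩
  have hP'H : (P : Subgroup H).map H.subtype ≤ H := Subgroup.map_subtype_le _
  have hQ'K : (Q : Subgroup K).map K.subtype ≤ K := Subgroup.map_subtype_le _
  have hcP : Nat.card ((P : Subgroup H).map H.subtype) = p ^ (Nat.card H).factorization p := by
    rw [Subgroup.card_map_of_injective H.subtype_injective]
    exact P.card_eq_multiplicity
  have hcQ : Nat.card ((Q : Subgroup K).map K.subtype) = p ^ (Nat.card K).factorization p := by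
    rw [Subgroup.card_map_of_injective K.subtype_injective]
    exact Q.card_eq_multiplicity
  have hcR : Nat.card (R : Subgroup G) = p ^ (Nat.card G).factorization p := R.card_eq_multiplicity
  have hpg : IsPGroup p ((P : Subgroup H).map H.subtype ⊓ (Q : Subgroup K).map K.subtype :
      Subgroup G) := (P.isPGroup'.map H.subtype).to_le inf_le_left
  obtain ⟨d, hd⟩ := hpg.exists_card_eq
  have hdvd : p ^ d ∣ Nat.card (H ⊓ K : Subgroup G) := by
    rw [← hd]
    exact Subgroup.card_dvd_of_le (inf_le_inf hP'H hQ'K)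
  have hde : d ≤ (Nat.card (H ⊓ K : Subgroup G)).factorization p :=
    (hp.pow_dvd_iff_le_factorization Nat.card_pos.ne').mp hdvd
  have hHKuniv : ((H : Set G) * (K : Set G) : Set G) = Set.univ := by
    ext g
    simp only [Set.mem_univ, iff_true]
    obtain ⟨h, hh, k, hk, rfl⟩ := hHK g
    exact Set.mul_mem_mul hh hk
  have hf1 := card_setmul H K
  rw [hHKuniv, Nat.card_univ] at hf1
  have hf2 := congrArg (fun n : ℕ => n.factorization p) hf1
  rw [Nat.factorization_mul Nat.card_pos.ne' Nat.card_pos.ne',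
    Nat.factorization_mul Nat.card_pos.ne' Nat.card_pos.ne', Finsupp.add_apply,
    Finsupp.add_apply] at hf2
  have hf3 := card_setmul ((P : Subgroup H).map H.subtype) ((Q : Subgroup K).map K.subtype)
  rw [hd, hcP, hcQ] at hf3
  symm
  apply Set.eq_of_subset_of_ncard_le
  · rintro _ ⟨x, hx, y, hy, rfl⟩
    exact (R : Subgroup G).mul_mem (hPR hx) (hQR hy)
  · have hRn : (((R : Subgroup G) : Set G)).ncard = p ^ (Nat.card G).factorization p := by
      rw [← hcR]; exact (Nat.card_coe_set_eq _).symm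
    rw [hRn, ← Nat.card_coe_set_eq]
    have hpos : 0 < p ^ d := pow_pos hp.pos d
    apply Nat.le_of_mul_le_mul_right _ hpos
    rw [hf3, ← pow_add, ← pow_add]
    apply Nat.pow_le_pow_right hp.pos
    omega
  · exact Set.toFinite _

end Cfsg.Agent.S0560
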