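import Mathlib
import Cfsg.Agent.Lib_helper3_Basic
import Cfsg.Agent.Lib_helper8_CN2
import Cfsg.Agent.Lib_helper19_NilMax
import Cfsg.Agent.Lib_helper23_Kegel
import Cfsg.Agent.Lib_helper23_ProdHall
import Cfsg.Agent.S0560

set_option autoImplicit false
set_option linter.style.haveILetI false
set_option linter.unusedSectionVars false

namespace Cfsg.Agent.H16KW

open scoped Pointwise
open Cfsg.Agent.helper3 Cfsg.Agent.helper23

universe u

variable {G : Type u} [Group G] [Finite G]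

/-! ### Elementary facts -/

theorem commute_of_coprime_in (H : Subgroup G) (hH : Group.IsNilpotent H) {x y : G} (hx : x ∈ H)
    (hy : y ∈ H) (h : (orderOf x).Coprime (orderOf y)) : x * y = y * x := by
  have h1 := Cfsg.Agent.helper19.commute_of_coprime_of_isNilpotent ↥H ⟨x, hx⟩ ⟨y, hy⟩
    (by rw [Subgroup.orderOf_mk, Subgroup.orderOf_mk]; exact h)
  exact congrArg Subtype.val h1.eq

theorem conj_mem_of_mem_normalizer {C : Subgroup G} {a c : G}
    (ha : a ∈ Subgroup.normalizer (C : Set G)) (hc : c ∈ C) : a * c * a⁻¹ ∈ C :=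
  (Subgroup.mem_normalizer_iff.mp ha c).mp hc

theorem conj_inv_mem_of_mem_normalizer {C : Subgroup G} {a c : G}
    (ha : a ∈ Subgroup.normalizer (C : Set G)) (hc : c ∈ C) : a⁻¹ * c * a ∈ C := by
  have h := conj_mem_of_mem_normalizer (Subgroup.inv_mem _ ha) hc
  rwa [inv_inv] at h

/-- If `a` normalizes `C` and `c ∈ C` then `(a c)^n ∈ a^n C`. -/
theorem pow_mul_mem (C : Subgroup G) {a c : G} (ha : a ∈ Subgroup.normalizer (C : Set G))
    (hc : c ∈ C) (n : ℕ) : ∃ c' ∈ C, (a * c) ^ n = a ^ n * c' := by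
  induction n with
  | zero => exact ⟨1, C.one_mem, by simp⟩
  | succ n ih =>
    obtain ⟨c', hc', e⟩ := ih
    refine ⟨a⁻¹ * c' * a * c, C.mul_mem (conj_inv_mem_of_mem_normalizer ha hc') hc, ?_⟩
    rw [pow_succ, e, pow_succ]
    group

theorem mem_normalizer_of_conj_le {A : Subgroup G} {g : G}
    (h : ∀ x ∈ A, g * x * g⁻¹ ∈ A) : g ∈ Subgroup.normalizer (A : Set G) := by
  have h1 : MulAut.conj g • A ≤ A := by
    intro x hx
    rw [mem_conj_smul_iff] at hx
    have := h _ hx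
    have e : g * (g⁻¹ * x * g) * g⁻¹ = x := by group
    rwa [e] at this
  have h2 : MulAut.conj g • A = A := by
    apply Subgroup.eq_of_le_of_card_ge h1
    rw [card_conj_smul]
  exact (conj_smul_eq_self_iff g A).mp h2

theorem conj_smul_le_iff {A B : Subgroup G} {g : G} :
    MulAut.conj g • A ≤ B ↔ ∀ x ∈ A, g * x * g⁻¹ ∈ B := by
  constructor
  · intro h x hx
    exact h (conj_mem_conj_smul g x A hx)
  · intro h x hx
    rw [mem_conj_smul_iff] at hx
    have := h _ hx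
    have e : g * (g⁻¹ * x * g) * g⁻¹ = x := by group
    rwa [e] at this

theorem conj_smul_smul (g h : G) (A : Subgroup G) :
    MulAut.conj g • (MulAut.conj h • A) = MulAut.conj (g * h) • A := by
  rw [map_mul, mul_smul]

theorem conj_one_smul (A : Subgroup G) : MulAut.conj (1 : G) • A = A := by
  rw [map_one, one_smul]

theorem conj_smul_ne_top {A : Subgroup G} (g : G) (h : A ≠ ⊤) : MulAut.conj g • A ≠ ⊤ := by
  intro h1
  apply h
  have h2 : Nat.card (MulAut.conj g • A : Subgroup G) = Nat.card G := by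
    rw [h1]; exact Subgroup.card_top
  rw [card_conj_smul] at h2
  exact Subgroup.card_eq_iff_eq_top A |>.mp h2

theorem normalizer_conj_smul (g : G) (A : Subgroup G) :
    Subgroup.normalizer ((MulAut.conj g • A : Subgroup G) : Set G) =
      MulAut.conj g • Subgroup.normalizer (A : Set G) := by
  ext x
  rw [mem_conj_smul_iff, Subgroup.mem_normalizer_iff, Subgroup.mem_normalizer_iff]
  constructor
  · intro h y
    have h1 := h (g * y * g⁻¹)
    rw [mem_conj_smul_iff, mem_conj_smul_iff] at h1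
    have e1 : g⁻¹ * (g * y * g⁻¹) * g = y := by group
    have e2 : g⁻¹ * (x * (g * y * g⁻¹) * x⁻¹) * g = g⁻¹ * x * g * y * (g⁻¹ * x * g)⁻¹ := by group
    rw [e1, e2] at h1
    exact h1
  · intro h y
    rw [mem_conj_smul_iff, mem_conj_smul_iff]
    have h1 := h (g⁻¹ * y * g)
    have e2 : g⁻¹ * x * g * (g⁻¹ * y * g) * (g⁻¹ * x * g)⁻¹ = g⁻¹ * (x * y * x⁻¹) * g := by group
    rw [e2] at h1
    exact h1

/-! ### The Sylow subgroup of a nilpotent subgroup, inside the ambient group -/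

structure SylIn (H : Subgroup G) (p : ℕ) (P : Subgroup G) : Prop where
  le : P ≤ H
  pg : IsPGroup p P
  norm : H ≤ Subgroup.normalizer (P : Set G)
  max : ∀ Q : Subgroup G, Q ≤ H → IsPGroup p Q → Q ≤ P
  ndvd : ¬ p ∣ P.relIndex H

theorem exists_sylIn (H : Subgroup G) (hH : Group.IsNilpotent H) (p : ℕ) [Fact p.Prime] :
    ∃ P : Subgroup G, SylIn H p P := by
  haveI := hH
  obtain ⟨P0⟩ : Nonempty (Sylow p H) := inferInstance
  haveI hn : (P0 : Subgroup H).Normal := inferInstance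
  have hsub : ((P0 : Subgroup H).map H.subtype).subgroupOf H = (P0 : Subgroup H) :=
    Subgroup.comap_map_eq_self_of_injective H.subtype_injective _
  have hle : (P0 : Subgroup H).map H.subtype ≤ H := Subgroup.map_subtype_le _
  refine ⟨(P0 : Subgroup H).map H.subtype, ⟨hle, P0.isPGroup'.map _, ?_, ?_, ?_⟩⟩
  · rw [← Subgroup.normal_subgroupOf_iff_le_normalizer hle, hsub]
    exact hn
  · intro Q hQ hQp
    have hQ' : IsPGroup p (Q.subgroupOf H) := hQp.comap_subtype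
    obtain ⟨P1, hP1⟩ := hQ'.exists_le_sylow
    haveI : Unique (Sylow p H) := Sylow.unique_of_normal P0 hn
    have e : P1 = P0 := Subsingleton.elim _ _
    rw [e] at hP1
    intro x hx
    exact ⟨⟨x, hQ hx⟩, hP1 (Subgroup.mem_subgroupOf.mpr hx), rfl⟩
  · have : ((P0 : Subgroup H).map H.subtype).relIndex H = (P0 : Subgroup H).index := by
      rw [Subgroup.relIndex, hsub]
    rw [this]
    exact P0.not_dvd_index

namespace SylIn

variable {H : Subgroup G} {p : ℕ} {P : Subgroup G}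

theorem mem_of_orderOf [Fact p.Prime] (h : SylIn H p P) {x : G} (hx : x ∈ H) {k : ℕ}
    (hk : x ^ (p ^ k) = 1) : x ∈ P := by
  have h1 : IsPGroup p (Subgroup.zpowers x) := by
    apply IsPGroup.of_card (n := (orderOf x).factorization p)
    rw [Nat.card_zpowers]
    have hd : orderOf x ∣ p ^ k := orderOf_dvd_of_pow_eq_one hk
    obtain ⟨j, _, hj⟩ := (Nat.dvd_prime_pow (Fact.out : p.Prime)).1 hd
    rw [hj, Nat.Prime.factorization_pow (Fact.out : p.Prime)]
    simp
  exact h.max _ (by rw [Subgroup.zpowers_le]; exact hx) h1 (Subgroup.mem_zpowers x)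

theorem conj_mem (h : SylIn H p P) {a x : G} (ha : a ∈ H) (hx : x ∈ P) : a * x * a⁻¹ ∈ P :=
  conj_mem_of_mem_normalizer (h.norm ha) hx

theorem conj_smul_eq (h : SylIn H p P) {a : G} (ha : a ∈ H) : MulAut.conj a • P = P :=
  (conj_smul_eq_self_iff a P).mpr (h.norm ha)

theorem card_dvd (h : SylIn H p P) : Nat.card P ∣ Nat.card H :=
  Subgroup.card_dvd_of_le h.le

theorem ne_bot [Fact p.Prime] (h : SylIn H p P) (hp : p ∣ Nat.card H) : P ≠ ⊥ := by
  intro hb
  have h1 := Subgroup.relIndex_mul_relIndex ⊥ P H bot_le h.le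
  rw [Subgroup.relIndex_bot_left, Subgroup.relIndex_bot_left, hb, Subgroup.card_bot, one_mul] at h1
  apply h.ndvd
  rw [hb, h1]
  exact hp

theorem dvd_card [Fact p.Prime] (h : SylIn H p P) (hP : P ≠ ⊥) : p ∣ Nat.card H := by
  have h1 : p ∣ Nat.card P := by
    obtain ⟨k, hk⟩ := IsPGroup.iff_card.1 h.pg
    have hk0 : k ≠ 0 := by
      intro h0
      rw [h0, pow_zero] at hk
      exact hP (Subgroup.card_eq_one.mp hk)
    rw [hk]; exact dvd_pow_self p hk0
  exact h1.trans h.card_dvd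

/-- Decomposition of an element of a nilpotent group into its `p`-part and `p'`-part. -/
theorem decomp [hp : Fact p.Prime] (hH : Group.IsNilpotent H) (h : SylIn H p P) {x : G}
    (hx : x ∈ H) : ∃ a ∈ P, ∃ b ∈ H, x = a * b ∧ ∀ y ∈ P, b * y = y * b := by
  have hn0 : orderOf x ≠ 0 := (orderOf_pos x).ne'
  obtain ⟨k, m, hm, hn⟩ := Nat.exists_eq_pow_mul_and_not_dvd hn0 p hp.out.ne_one
  have hcop : Nat.Coprime (p ^ k) m :=
    Nat.Coprime.pow_left k ((Nat.Prime.coprime_iff_not_dvd hp.out).2 hm)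
  have hb : (1 : ℤ) = ((p ^ k : ℕ) : ℤ) * Nat.gcdA (p ^ k) m + (m : ℤ) * Nat.gcdB (p ^ k) m := by
    rw [← Nat.gcd_eq_gcd_ab, Nat.Coprime.gcd_eq_one hcop, Nat.cast_one]
  set α := Nat.gcdA (p ^ k) m
  set β := Nat.gcdB (p ^ k) m
  have ha1 : (x ^ ((m : ℤ) * β)) ^ (p ^ k) = 1 := by
    rw [← zpow_natCast, ← zpow_mul]
    have : (m : ℤ) * β * ((p ^ k : ℕ) : ℤ) = ((p ^ k * m : ℕ) : ℤ) * β := by push_cast; ring
    rw [this, zpow_mul, zpow_natCast, ← hn, pow_orderOf_eq_one, one_zpow]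
  have hb1 : (x ^ (((p ^ k : ℕ) : ℤ) * α)) ^ m = 1 := by
    rw [← zpow_natCast, ← zpow_mul]
    have : ((p ^ k : ℕ) : ℤ) * α * (m : ℤ) = ((p ^ k * m : ℕ) : ℤ) * α := by push_cast; ring
    rw [this, zpow_mul, zpow_natCast, ← hn, pow_orderOf_eq_one, one_zpow]
  have haH : x ^ ((m : ℤ) * β) ∈ H := H.zpow_mem hx _
  have hbH : x ^ (((p ^ k : ℕ) : ℤ) * α) ∈ H := H.zpow_mem hx _
  refine ⟨x ^ ((m : ℤ) * β), h.mem_of_orderOf haH ha1, x ^ (((p ^ k : ℕ) : ℤ) * α), hbH, ?_, ?_⟩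
  · rw [← zpow_add, add_comm, ← hb, zpow_one]
  · intro y hy
    apply commute_of_coprime_in H hH hbH (h.le hy)
    have h1 : orderOf (x ^ (((p ^ k : ℕ) : ℤ) * α)) ∣ m := orderOf_dvd_of_pow_eq_one hb1
    obtain ⟨j, hj⟩ := (IsPGroup.iff_orderOf.1 h.pg) ⟨y, hy⟩
    rw [Subgroup.orderOf_mk] at hj
    rw [hj]
    exact Nat.Coprime.pow_right j
      (Nat.Coprime.coprime_dvd_left h1 ((Nat.Prime.coprime_iff_not_dvd hp.out).2 hm).symm)

/-- A nontrivial central element of `H` inside `P`. -/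
theorem exists_central [hp : Fact p.Prime] (hH : Group.IsNilpotent H) (h : SylIn H p P)
    (hP : P ≠ ⊥) : ∃ z ∈ P, z ≠ 1 ∧ ∀ x ∈ H, x * z = z * x := by
  haveI : Nontrivial P := (Subgroup.nontrivial_iff_ne_bot P).mpr hP
  haveI := IsPGroup.center_nontrivial h.pg
  obtain ⟨z, hz⟩ := exists_ne (1 : Subgroup.center P)
  refine ⟨z.1.1, z.1.2, ?_, ?_⟩
  · intro h1
    apply hz
    ext
    exact h1
  · intro x hx
    obtain ⟨a, ha, b, hb, e, hc⟩ := h.decomp hH hx
    have h1 : a * z.1.1 = z.1.1 * a := by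
      have := Subgroup.mem_center_iff.mp z.2 ⟨a, ha⟩
      exact congrArg Subtype.val this
    have h2 := hc z.1.1 z.1.2
    rw [e]
    calc a * b * z.1.1 = a * (b * z.1.1) := by group
      _ = a * (z.1.1 * b) := by rw [h2]
      _ = (a * z.1.1) * b := by group
      _ = z.1.1 * a * b := by rw [h1]
      _ = z.1.1 * (a * b) := by group

/-- Elements of `H` of order prime to `p` centralize `P`; elements of another Sylow commute. -/
theorem commute_of_ne {q : ℕ} {Q : Subgroup G} [hp : Fact p.Prime] [hq : Fact q.Prime]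
    (hH : Group.IsNilpotent H) (h : SylIn H p P) (h' : SylIn H q Q) (hpq : p ≠ q) {x y : G}
    (hx : x ∈ P) (hy : y ∈ Q) : x * y = y * x := by
  apply commute_of_coprime_in H hH (h.le hx) (h'.le hy)
  obtain ⟨j, hj⟩ := (IsPGroup.iff_orderOf.1 h.pg) ⟨x, hx⟩
  obtain ⟨i, hi⟩ := (IsPGroup.iff_orderOf.1 h'.pg) ⟨y, hy⟩
  rw [Subgroup.orderOf_mk] at hj hi
  rw [hj, hi]
  exact Nat.Coprime.pow _ _ ((Nat.coprime_primes hp.out hq.out).2 hpq)

end SylIn

/-! ### Sylow subgroups of the ambient group -/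

structure IsSyl (p : ℕ) (P : Subgroup G) : Prop where
  pg : IsPGroup p P
  ndvd : ¬ p ∣ P.index

namespace IsSyl

variable {p : ℕ} [hp : Fact p.Prime] {P Q : Subgroup G}

theorem conj (h : IsSyl p P) (g : G) : IsSyl p (MulAut.conj g • P) := by
  have h1 : ((g • (h.pg.toSylow h.ndvd) : Sylow p G) : Subgroup G) = MulAut.conj g • P := rfl
  rw [← h1]
  exact ⟨(g • (h.pg.toSylow h.ndvd) : Sylow p G).isPGroup',
    (g • (h.pg.toSylow h.ndvd) : Sylow p G).not_dvd_index⟩

theorem exists_conj (h : IsSyl p P) (h' : IsSyl p Q) : ∃ g : G, Q = MulAut.conj g • P := by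
  obtain ⟨g, hg⟩ := MulAction.exists_smul_eq G (h.pg.toSylow h.ndvd) (h'.pg.toSylow h'.ndvd)
  refine ⟨g, ?_⟩
  have h1 : ((g • (h.pg.toSylow h.ndvd) : Sylow p G) : Subgroup G) = MulAut.conj g • P := rfl
  rw [← h1, hg]
  rfl

theorem exists_le_conj (h : IsSyl p P) {E : Subgroup G} (hE : IsPGroup p E) :
    ∃ g : G, E ≤ MulAut.conj g • P := by
  obtain ⟨S, hS⟩ := hE.exists_le_sylow
  obtain ⟨g, hg⟩ := MulAction.exists_smul_eq G (h.pg.toSylow h.ndvd) S
  refine ⟨g, ?_⟩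
  have h1 : ((g • (h.pg.toSylow h.ndvd) : Sylow p G) : Subgroup G) = MulAut.conj g • P := rfl
  rw [← h1, hg]; exact hS

end IsSyl

theorem SylIn.isSyl {H : Subgroup G} {p : ℕ} {P : Subgroup G} [hp : Fact p.Prime]
    (h : SylIn H p P) (hH : ¬ p ∣ H.index) : IsSyl p P := by
  refine ⟨h.pg, ?_⟩
  rw [← Subgroup.relIndex_mul_index h.le]
  intro h1
  rcases (Nat.Prime.dvd_mul hp.out).1 h1 with h2 | h2
  · exact h.ndvd h2
  · exact hH h2

/-! ### Factorized groups -/

structure Cfg (H K : Subgroup G) : Prop where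
  nilH : Group.IsNilpotent H
  nilK : Group.IsNilpotent K
  cop : (Nat.card H).Coprime (Nat.card K)
  fac : ∀ g : G, ∃ h ∈ H, ∃ k ∈ K, g = h * k

theorem fac_symm {H K : Subgroup G} (h : ∀ g : G, ∃ h ∈ H, ∃ k ∈ K, g = h * k) :
    ∀ g : G, ∃ k ∈ K, ∃ h ∈ H, g = k * h := by
  intro g
  obtain ⟨a, ha, b, hb, e⟩ := h g⁻¹
  refine ⟨b⁻¹, K.inv_mem hb, a⁻¹, H.inv_mem ha, ?_⟩
  rw [← mul_inv_rev, ← e, inv_inv]

namespace Cfg

variable {H K : Subgroup G}

theorem symm (c : Cfg H K) : Cfg K H :=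
  ⟨c.nilK, c.nilH, c.cop.symm, fac_symm c.fac⟩

theorem inf_eq_bot (c : Cfg H K) : H ⊓ K = ⊥ := Subgroup.inf_eq_bot_of_coprime c.cop

theorem eq_one_of_mem (c : Cfg H K) {x : G} (hx : x ∈ H) (hx' : x ∈ K) : x = 1 := by
  have : x ∈ H ⊓ K := ⟨hx, hx'⟩
  rwa [c.inf_eq_bot, Subgroup.mem_bot] at this

theorem card (c : Cfg H K) : Nat.card G = Nat.card H * Nat.card K := by
  have h1 : Subgroup.IsComplement' H K := by
    apply Subgroup.isComplement'_of_disjoint_and_mul_eq_univ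
    · rw [disjoint_iff]; exact c.inf_eq_bot
    · ext g
      simp only [Set.mem_univ, iff_true]
      obtain ⟨h, hh, k, hk, e⟩ := c.fac g
      exact ⟨h, hh, k, hk, e.symm⟩
  exact h1.card_mul.symm

theorem index_left (c : Cfg H K) : H.index = Nat.card K := by
  have h1 := H.card_mul_index
  rw [c.card] at h1
  exact Nat.eq_of_mul_eq_mul_left Nat.card_pos h1

theorem not_dvd_index_left (c : Cfg H K) {p : ℕ} (hp : p.Prime) (h : p ∣ Nat.card H) :
    ¬ p ∣ H.index := by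
  rw [c.index_left]
  intro h1
  have := Nat.eq_one_of_dvd_coprimes c.cop h h1
  exact hp.one_lt.ne' this

theorem not_dvd_right (c : Cfg H K) {p : ℕ} (hp : p.Prime) (h : p ∣ Nat.card H) :
    ¬ p ∣ Nat.card K := by
  rw [← c.index_left]; exact c.not_dvd_index_left hp h

theorem dvd_or (c : Cfg H K) {p : ℕ} (hp : p.Prime) (h : p ∣ Nat.card G) :
    p ∣ Nat.card H ∨ p ∣ Nat.card K := by
  rw [c.card] at h
  exact (Nat.Prime.dvd_mul hp).1 h

theorem sylIn_isSyl (c : Cfg H K) {p : ℕ} [hp : Fact p.Prime] {P : Subgroup G}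
    (h : SylIn H p P) (hd : p ∣ Nat.card H) : IsSyl p P :=
  h.isSyl (c.not_dvd_index_left hp.out hd)

/-- An element of the normalizer of `H` of order prime to `|K|` lies in `H`. -/
theorem mem_of_mem_normalizer (c : Cfg H K) {x : G} (hx : x ∈ Subgroup.normalizer (H : Set G))
    (ho : (orderOf x).Coprime (Nat.card K)) : x ∈ H := by
  obtain ⟨k, hk, h, hh, e⟩ := fac_symm c.fac x
  have hkN : k ∈ Subgroup.normalizer (H : Set G) := by
    have : k = x * h⁻¹ := by rw [e]; group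
    rw [this]
    exact Subgroup.mul_mem _ hx (Subgroup.le_normalizer (H.inv_mem hh))
  obtain ⟨h', hh', e'⟩ := pow_mul_mem H hkN hh (orderOf x)
  rw [← e, pow_orderOf_eq_one] at e'
  have hkn : k ^ orderOf x = h'⁻¹ := by
    have : k ^ orderOf x * h' = 1 := e'.symm
    exact eq_inv_of_mul_eq_one_left this
  have hk1 : k ^ orderOf x = 1 :=
    c.eq_one_of_mem (by rw [hkn]; exact H.inv_mem hh') (K.pow_mem hk _)
  have hk2 : orderOf k ∣ Nat.card K := Subgroup.orderOf_dvd_natCard K hk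
  have hk3 : orderOf k ∣ orderOf x := orderOf_dvd_of_pow_eq_one hk1
  have hk4 : orderOf k = 1 := Nat.eq_one_of_dvd_coprimes ho hk3 hk2
  rw [orderOf_eq_one_iff] at hk4
  rw [e, hk4, one_mul]
  exact hh

end Cfg

/-- Cardinality of a factorized subgroup. -/
theorem card_of_fac {H K W : Subgroup G} (hHK : H ⊓ K = ⊥)
    (hW : ∀ w ∈ W, ∃ h ∈ H ⊓ W, ∃ k ∈ K ⊓ W, w = h * k) :
    Nat.card W = Nat.card (H ⊓ W : Subgroup G) * Nat.card (K ⊓ W : Subgroup G) := by
  have h1 := Cfsg.Agent.S0560.card_setmul (H ⊓ W) (K ⊓ W)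
  have h2 : (H ⊓ W) ⊓ (K ⊓ W) = ⊥ := by
    apply le_antisymm _ bot_le
    rw [← hHK]
    exact inf_le_inf inf_le_left inf_le_left
  rw [h2, Subgroup.card_bot, mul_one] at h1
  rw [← h1]
  have h3 : (((H ⊓ W : Subgroup G) : Set G) * ((K ⊓ W : Subgroup G) : Set G) : Set G) = (W : Set G) := by
    ext x
    constructor
    · rintro ⟨a, ha, b, hb, rfl⟩
      exact W.mul_mem ha.2 hb.2
    · intro hx
      obtain ⟨a, ha, b, hb, e⟩ := hW x hx
      exact ⟨a, ha, b, hb, e.symm⟩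
  rw [h3]
  rfl

/-- Transport of the permutability theorem to a solvable subgroup. -/
theorem perm_of_solvable_sub (H K A B L : Subgroup G) (hsolv : Group.IsSolvable L)
    (hfac : ∀ x ∈ L, ∃ h ∈ H ⊓ L, ∃ k ∈ K ⊓ L, x = h * k)
    (hAL : A ≤ L) (hBL : B ≤ L)
    (hAN : H ⊓ L ≤ Subgroup.normalizer (A : Set G))
    (hBN : K ⊓ L ≤ Subgroup.normalizer (B : Set G))
    (hAh : (Nat.card A).Coprime (A.relIndex L)) (hBh : (Nat.card B).Coprime (B.relIndex L)) :
    PermWith A B := by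
  haveI := hsolv
  have hcA : Nat.card (A.subgroupOf L) = Nat.card A :=
    Nat.card_congr (Subgroup.subgroupOfEquivOfLe hAL).toEquiv
  have hcB : Nat.card (B.subgroupOf L) = Nat.card B :=
    Nat.card_congr (Subgroup.subgroupOfEquivOfLe hBL).toEquiv
  obtain ⟨S, hS⟩ := prod_normal_hall_isSubgroup (G := ↥L) (H.subgroupOf L) (K.subgroupOf L)
    (A.subgroupOf L) (B.subgroupOf L)
    (by
      intro g
      obtain ⟨h, hh, k, hk, e⟩ := hfac g.1 g.2
      refine ⟨⟨h, hh.2⟩, Subgroup.mem_subgroupOf.mpr hh.1, ⟨k, hk.2⟩,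
        Subgroup.mem_subgroupOf.mpr hk.1, ?_⟩
      ext
      exact e)
    (by
      intro x hx
      rw [Subgroup.mem_subgroupOf] at hx
      have h1 := hAN ⟨hx, x.2⟩
      rw [Subgroup.mem_normalizer_iff] at h1 ⊢
      intro y
      rw [Subgroup.mem_subgroupOf, Subgroup.mem_subgroupOf]
      exact h1 y.1)
    (by
      intro x hx
      rw [Subgroup.mem_subgroupOf] at hx
      have h1 := hBN ⟨hx, x.2⟩
      rw [Subgroup.mem_normalizer_iff] at h1 ⊢
      intro y
      rw [Subgroup.mem_subgroupOf, Subgroup.mem_subgroupOf]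
      exact h1 y.1)
    (by rw [hcA]; exact hAh) (by rw [hcB]; exact hBh) 1 1
  rw [conj_one_smul, conj_one_smul] at hS
  have hperm := permWith_of_coe_eq _ _ S hS
  intro l hl k hk
  obtain ⟨l', hl', k', hk', e⟩ := hperm ⟨l, hAL hl⟩ (Subgroup.mem_subgroupOf.mpr hl)
    ⟨k, hBL hk⟩ (Subgroup.mem_subgroupOf.mpr hk)
  exact ⟨l'.1, Subgroup.mem_subgroupOf.mp hl', k'.1, Subgroup.mem_subgroupOf.mp hk',
    congrArg Subtype.val e⟩

end Cfsg.Agent.H16KW
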