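import Cfsg.Agent.Lib_helper14_SPE

set_option autoImplicit false
open Cfsg

namespace Cfsg.Agent.helper14

/-- If `P₀` is a Sylow `p`-subgroup of `M` with `N_X(P₀) ≤ M`, then `P₀` is a Sylow `p`-subgroup of `X`. -/
theorem sylow_of_normalizer_le {X : Type*} [Group X] [Finite X] {p : ℕ} [Fact p.Prime] (M : Subgroup X)
    (P₀ : Sylow p M)
    (hN : Subgroup.normalizer ((((P₀ : Subgroup M).map M.subtype : Subgroup X)) : Set X) ≤ M) :
    ∃ P : Sylow p X, (P : Subgroup X) = (P₀ : Subgroup M).map M.subtype := by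
  set Q := (P₀ : Subgroup M).map M.subtype with hQ
  have hQM : Q ≤ M := Subgroup.map_subtype_le _
  have hQp : IsPGroup p Q := P₀.isPGroup'.map _
  obtain ⟨P, hP⟩ := hQp.exists_le_sylow
  refine ⟨P, ?_⟩
  by_contra hne
  have hlt : Q.subgroupOf (P : Subgroup X) < ⊤ := by
    rw [lt_top_iff_ne_top]
    intro htop
    apply hne
    apply le_antisymm _ hP
    rw [Subgroup.subgroupOf_eq_top] at htop
    exact htop
  have : Group.IsNilpotent (P : Subgroup X) := P.isPGroup'.isNilpotent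
  have hnc := Group.normalizerCondition_of_isNilpotent (G := (P : Subgroup X)) _ hlt
  rw [← Subgroup.subgroupOf_normalizer_eq hP] at hnc
  obtain ⟨x, hxN, hxQ⟩ := SetLike.exists_of_lt hnc
  rw [Subgroup.mem_subgroupOf] at hxN hxQ
  -- x ∈ P ∩ N(Q), x ∉ Q
  have hxM : (x : X) ∈ M := hN hxN
  have hmax : ((P : Subgroup X) ⊓ M).subgroupOf M = (P₀ : Subgroup M) := by
    apply P₀.is_maximal'
    · exact (P.isPGroup'.to_le inf_le_left).comap_of_injective _ (Subgroup.subtype_injective _)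
    · intro y hy
      rw [Subgroup.mem_subgroupOf]
      exact ⟨hP (Subgroup.mem_map_of_mem M.subtype hy), y.2⟩
  apply hxQ
  have : (⟨(x : X), hxM⟩ : M) ∈ (P₀ : Subgroup M) := by
    rw [← hmax, Subgroup.mem_subgroupOf]
    exact ⟨x.2, hxM⟩
  exact ⟨⟨(x : X), hxM⟩, this, rfl⟩

/-- Two Sylow subgroups of `X` inside `M` are conjugate under `M`. -/
theorem exists_conj_eq_of_sylow_le {X : Type*} [Group X] [Finite X] {p : ℕ} [Fact p.Prime]
    (M : Subgroup X) (P₁ P₂ : Sylow p X) (h₁ : (P₁ : Subgroup X) ≤ M) (h₂ : (P₂ : Subgroup X) ≤ M) :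
    ∃ m ∈ M, (P₂ : Subgroup X) = (P₁ : Subgroup X).map (MulAut.conj m).toMonoidHom := by
  obtain ⟨m, hm⟩ := MulAction.exists_smul_eq M (P₁.subtype h₁) (P₂.subtype h₂)
  obtain ⟨m, hmM⟩ := m
  refine ⟨m, hmM, ?_⟩
  have e1 : ((P₁.subtype h₁ : Sylow p M) : Subgroup M).map M.subtype = (P₁ : Subgroup X) := by
    rw [Sylow.coe_subtype, Subgroup.subgroupOf_map_subtype, inf_eq_left.mpr h₁]
  have e2 : ((P₂.subtype h₂ : Sylow p M) : Subgroup M).map M.subtype = (P₂ : Subgroup X) := by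
    rw [Sylow.coe_subtype, Subgroup.subgroupOf_map_subtype, inf_eq_left.mpr h₂]
  rw [← e1, ← sylow_smul_map_subtype' M m hmM, hm, e2]

/-- Strongly `p`-embedded implies the classical intersection property. -/
theorem mem_of_spe_of_dvd_card_inf {X : Type*} [Group X] [Finite X] {p : ℕ} [Fact p.Prime] (M : Subgroup X)
    (h : Cfsg.IsStronglyPEmbedded p M) (g : X)
    (hdvd : p ∣ Nat.card ↥(M ⊓ M.map (MulAut.conj g).toMonoidHom)) : g ∈ M := by
  set I := M ⊓ M.map (MulAut.conj g).toMonoidHom with hI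
  obtain ⟨Q₀⟩ : Nonempty (Sylow p I) := inferInstance
  have hQ₀1 : (Q₀ : Subgroup I) ≠ ⊥ := Q₀.ne_bot_of_dvd_card hdvd
  set Q := (Q₀ : Subgroup I).map I.subtype with hQ
  have hQI : Q ≤ I := Subgroup.map_subtype_le _
  have hQp : IsPGroup p Q := Q₀.isPGroup'.map _
  have hQ1 : Q ≠ ⊥ := by
    intro hbot
    apply hQ₀1
    rw [hQ, Subgroup.map_eq_bot_iff_of_injective _ (Subgroup.subtype_injective _)] at hbot
    exact hbot
  have hQM : Q ≤ M := hQI.trans inf_le_left
  have hQg : Q.map (MulAut.conj g⁻¹).toMonoidHom ≤ M := by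
    have := Subgroup.map_mono (f := (MulAut.conj g⁻¹).toMonoidHom) (hQI.trans inf_le_right)
    rwa [conj_comp_inv'] at this
  have hN1 : Subgroup.normalizer (Q : Set X) ≤ M := normalizer_le_of_spe M h Q hQM hQp hQ1
  have hN2 : Subgroup.normalizer (Q : Set X) ≤ M.map (MulAut.conj g).toMonoidHom := by
    have h1 := normalizer_le_of_spe M h _ hQg (hQp.map _) (map_conj_ne_bot Q g⁻¹ hQ1)
    rw [normalizer_map_conj] at h1
    have h2 := Subgroup.map_mono (f := (MulAut.conj g).toMonoidHom) h1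
    rwa [conj_inv_comp'] at h2
  obtain ⟨P, hP⟩ := sylow_of_normalizer_le I Q₀ (le_inf hN1 hN2)
  -- the conjugate of P by g⁻¹ is also a Sylow subgroup inside M
  have hPM : (P : Subgroup X) ≤ M := by rw [hP]; exact hQM
  have hP'M : ((g⁻¹ • P : Sylow p X) : Subgroup X) ≤ M := by
    rw [Sylow.coe_subgroup_smul, Subgroup.pointwise_smul_def]
    have : (P : Subgroup X).map (MulDistribMulAction.toMonoidEnd (MulAut X) X (MulAut.conj g⁻¹)) =
        Q.map (MulAut.conj g⁻¹).toMonoidHom := by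
      rw [hP]; rfl
    rw [this]; exact hQg
  obtain ⟨m, hmM, hm⟩ := exists_conj_eq_of_sylow_le M (g⁻¹ • P) P hP'M hPM
  have hmg : m * g⁻¹ ∈ Subgroup.normalizer (Q : Set X) := by
    have e : (P : Subgroup X) = (P : Subgroup X).map (MulAut.conj (m * g⁻¹)).toMonoidHom := by
      conv_lhs => rw [hm]
      rw [Sylow.coe_subgroup_smul, Subgroup.pointwise_smul_def]
      have : (P : Subgroup X).map (MulDistribMulAction.toMonoidEnd (MulAut X) X (MulAut.conj g⁻¹)) =
          (P : Subgroup X).map (MulAut.conj g⁻¹).toMonoidHom := rfl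
      rw [this, Subgroup.map_map]
      congr 1
      ext x
      simp [mul_assoc]
    have hPQ : (P : Subgroup X) = Q := hP
    rw [← hPQ]
    rw [Subgroup.mem_normalizer_iff]
    intro x
    constructor
    · intro hx
      rw [e]
      exact ⟨x, hx, rfl⟩
    · intro hx
      rw [e] at hx
      obtain ⟨y, hy, hyx⟩ := hx
      have : y = x := by
        apply (MulAut.conj (m * g⁻¹)).injective
        exact hyx
      rwa [← this]
  have h3 : m * g⁻¹ ∈ M := hN1 hmg
  have h4 : g⁻¹ ∈ M := by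
    have := M.mul_mem (M.inv_mem hmM) h3
    simpa using this
  simpa using M.inv_mem h4

/-- The normalizer criterion implies strongly `p`-embedded. -/
theorem spe_of_normalizer_le {X : Type*} [Group X] [Finite X] {p : ℕ} [Fact p.Prime] (M : Subgroup X)
    (hM : M ≠ ⊤) (hpM : p ∣ Nat.card M)
    (h : ∀ A : Subgroup X, A ≤ M → IsPGroup p ↥A → A ≠ ⊥ → Subgroup.normalizer (A : Set X) ≤ M) :
    Cfsg.IsStronglyPEmbedded p M := by
  obtain ⟨P₀⟩ : Nonempty (Sylow p M) := inferInstance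
  have hP₀1 : (P₀ : Subgroup M) ≠ ⊥ := P₀.ne_bot_of_dvd_card hpM
  set Q := (P₀ : Subgroup M).map M.subtype with hQ
  have hQM : Q ≤ M := Subgroup.map_subtype_le _
  have hQp : IsPGroup p Q := P₀.isPGroup'.map _
  have hQ1 : Q ≠ ⊥ := by
    intro hbot
    apply hP₀1
    rw [hQ, Subgroup.map_eq_bot_iff_of_injective _ (Subgroup.subtype_injective _)] at hbot
    exact hbot
  obtain ⟨P, hP⟩ := sylow_of_normalizer_le M P₀ (h Q hQM hQp hQ1)
  refine ⟨hpM.trans (Subgroup.card_subgroup_dvd_card M), hM, P, ?_⟩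
  rw [kGeneratedCore_one_le_iff _ _ P.isPGroup']
  intro A hAP hA1
  exact h A (hAP.trans (hP ▸ hQM)) (P.isPGroup'.to_le hAP) hA1

end Cfsg.Agent.helper14
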