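import Mathlib

set_option autoImplicit false

namespace Cfsg.Agent.helper18

open MulAction

/-- Burnside's lemma with `Nat.card`. -/
lemma burnside_natCard (H : Type*) [Group H] [Fintype H] (X : Type*) [MulAction H X] [Finite X] :
    ∑ h : H, Nat.card (fixedBy X h) = Nat.card (orbitRel.Quotient H X) * Nat.card H := by
  classical
  have : Fintype X := Fintype.ofFinite X
  have : Fintype (orbitRel.Quotient H X) := Fintype.ofFinite _
  have := MulAction.sum_card_fixedBy_eq_card_orbits_mul_card_group H X
  simp only [← Nat.card_eq_fintype_card] at this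
  exact this

/-- The subgroup generated by the derangements. -/
abbrev derSubgroup (G Ω : Type*) [Group G] [MulAction G Ω] : Subgroup G :=
  Subgroup.closure {g : G | ∀ ω : Ω, g • ω ≠ ω}

lemma derSubgroup_normal (G Ω : Type*) [Group G] [MulAction G Ω] : (derSubgroup G Ω).Normal := by
  have h : Group.conjugatesOfSet {g : G | ∀ ω : Ω, g • ω ≠ ω} = {g : G | ∀ ω : Ω, g • ω ≠ ω} := by
    apply Set.Subset.antisymm
    · intro x hx
      rw [Group.mem_conjugatesOfSet_iff] at hx
      obtain ⟨a, ha, hax⟩ := hx
      rw [isConj_iff] at hax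
      obtain ⟨c, rfl⟩ := hax
      intro ω hω
      apply ha (c⁻¹ • ω)
      have : c⁻¹ • (c * a * c⁻¹) • ω = c⁻¹ • ω := by rw [hω]
      simpa [mul_smul] using this
    · exact Group.subset_conjugatesOfSet
  have : derSubgroup G Ω = Subgroup.normalClosure {g : G | ∀ ω : Ω, g • ω ≠ ω} := by
    unfold Subgroup.normalClosure
    rw [h]
  rw [this]
  exact Subgroup.normalClosure_normal

lemma exists_fixed_of_not_mem_derSubgroup {G Ω : Type*} [Group G] [MulAction G Ω] {g : G}
    (hg : g ∉ derSubgroup G Ω) : ∃ ω : Ω, g • ω = ω := by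
  by_contra h
  push Not at h
  exact hg (Subgroup.subset_closure h)

section counting

open scoped Classical

variable {G : Type*} [Group G]

/-- Splitting Burnside's sum along a subgroup. -/
lemma burnside_split [Fintype G] (N : Subgroup G) (X : Type*) [MulAction G X] [Finite X] :
    Nat.card (orbitRel.Quotient G X) * Nat.card G =
      Nat.card (orbitRel.Quotient N X) * Nat.card N +
        ∑ g ∈ Finset.univ.filter (fun g : G => g ∉ N), Nat.card (fixedBy X g) := by
  rw [← burnside_natCard G X]
  have : Fintype N := Fintype.ofFinite N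
  rw [← burnside_natCard N X]
  rw [← Finset.sum_filter_add_sum_filter_not Finset.univ (fun g : G => g ∈ N)]
  congr 1
  exact Finset.sum_subtype (Finset.univ.filter (fun g : G => g ∈ N)) (by simp)
    (fun g : G => Nat.card (fixedBy X g))

lemma card_filter_not_mem [Fintype G] (N : Subgroup G) :
    (Finset.univ.filter (fun g : G => g ∉ N)).card + Nat.card N = Nat.card G := by
  have h1 : (Finset.univ.filter (fun g : G => g ∈ N)).card = Nat.card N := by
    rw [Nat.card_eq_fintype_card (α := N)]
    exact (Fintype.card_subtype (fun g : G => g ∈ N)).symm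
  have h2 := Finset.card_filter_add_card_filter_not (s := (Finset.univ : Finset G))
    (fun g : G => g ∈ N)
  rw [Finset.card_univ, ← Nat.card_eq_fintype_card] at h2
  rw [← h1, ← h2, add_comm]

lemma one_le_card_fixedBy_of_fixed {X : Type*} [MulAction G X] [Finite X] {g : G} {x : X}
    (hx : g • x = x) : 1 ≤ Nat.card (fixedBy X g) := by
  have : Nonempty (fixedBy X g) := ⟨⟨x, hx⟩⟩
  exact Nat.one_le_iff_ne_zero.mpr Nat.card_pos.ne'

/-- Key counting lemma: if every element outside `N` has a fixed point and `G` is transitive,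
then `N` is transitive and every element outside `N` has exactly one fixed point. -/
theorem key_counting [Finite G] (N : Subgroup G) (Ω : Type*) [MulAction G Ω] [Finite Ω]
    [IsPretransitive G Ω] (hN : ∀ g : G, g ∉ N → ∃ ω : Ω, g • ω = ω) :
    IsPretransitive N Ω ∧ ∀ g : G, g ∉ N → Nat.card (fixedBy Ω g) = 1 := by
  have : Fintype G := Fintype.ofFinite G
  have hsub : Subsingleton (orbitRel.Quotient G Ω) :=
    (pretransitive_iff_subsingleton_quotient G Ω).mp inferInstance
  have hr : Nat.card (orbitRel.Quotient G Ω) ≤ 1 := Finite.card_le_one_iff_subsingleton.mpr hsub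
  have hsplit := burnside_split N Ω
  have hc := card_filter_not_mem N
  have hNpos : 0 < Nat.card N := Nat.card_pos
  have hS : (Finset.univ.filter (fun g : G => g ∉ N)).card ≤
      ∑ g ∈ Finset.univ.filter (fun g : G => g ∉ N), Nat.card (fixedBy Ω g) := by
    rw [Finset.card_eq_sum_ones]
    apply Finset.sum_le_sum
    intro g hg
    obtain ⟨ω, hω⟩ := hN g (Finset.mem_filter.mp hg).2
    exact one_le_card_fixedBy_of_fixed hω
  have hk : Nat.card (orbitRel.Quotient N Ω) ≤ 1 := by
    by_contra hk
    push Not at hk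
    have h1 : Nat.card (orbitRel.Quotient G Ω) * Nat.card G ≤ Nat.card G := by
      calc _ ≤ 1 * Nat.card G := Nat.mul_le_mul_right _ hr
        _ = Nat.card G := one_mul _
    have h2 : 2 * Nat.card N ≤ Nat.card (orbitRel.Quotient N Ω) * Nat.card N :=
      Nat.mul_le_mul_right _ hk
    omega
  refine ⟨(pretransitive_iff_subsingleton_quotient N Ω).mpr
    (Finite.card_le_one_iff_subsingleton.mp hk), ?_⟩
  intro g₀ hg₀
  obtain ⟨ω₀, hω₀⟩ := hN g₀ hg₀
  have hne : Nonempty (orbitRel.Quotient G Ω) := ⟨Quotient.mk'' ω₀⟩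
  have hneN : Nonempty (orbitRel.Quotient N Ω) := ⟨Quotient.mk'' ω₀⟩
  have hr1 : Nat.card (orbitRel.Quotient G Ω) = 1 := le_antisymm hr Nat.card_pos
  have hk1 : Nat.card (orbitRel.Quotient N Ω) = 1 := le_antisymm hk Nat.card_pos
  rw [hr1, hk1, one_mul, one_mul] at hsplit
  have hSeq : ∑ g ∈ Finset.univ.filter (fun g : G => g ∉ N), Nat.card (fixedBy Ω g) =
      (Finset.univ.filter (fun g : G => g ∉ N)).card := by omega
  by_contra hne1
  have hlt : 1 < Nat.card (fixedBy Ω g₀) := by
    have := one_le_card_fixedBy_of_fixed hω₀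
    omega
  have : (Finset.univ.filter (fun g : G => g ∉ N)).card <
      ∑ g ∈ Finset.univ.filter (fun g : G => g ∉ N), Nat.card (fixedBy Ω g) := by
    rw [Finset.card_eq_sum_ones]
    apply Finset.sum_lt_sum
    · intro g hg
      obtain ⟨ω, hω⟩ := hN g (Finset.mem_filter.mp hg).2
      exact one_le_card_fixedBy_of_fixed hω
    · exact ⟨g₀, Finset.mem_filter.mpr ⟨Finset.mem_univ _, hg₀⟩, hlt⟩
  omega

/-- The derangement subgroup is transitive and every element outside has exactly one fixed point. -/
theorem derSubgroup_key [Finite G] (Ω : Type*) [MulAction G Ω] [Finite Ω] [IsPretransitive G Ω] :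
    IsPretransitive (derSubgroup G Ω) Ω ∧
      ∀ g : G, g ∉ derSubgroup G Ω → Nat.card (fixedBy Ω g) = 1 :=
  key_counting (derSubgroup G Ω) Ω (fun _ hg => exists_fixed_of_not_mem_derSubgroup hg)

/-- Fixed points on the square. -/
def fixedByProdEquiv {X : Type*} [MulAction G X] (g : G) :
    fixedBy (X × X) g ≃ fixedBy X g × fixedBy X g where
  toFun p := (⟨p.1.1, congrArg Prod.fst p.2⟩, ⟨p.1.2, congrArg Prod.snd p.2⟩)
  invFun q := ⟨(q.1.1, q.2.1), Prod.ext q.1.2 q.2.2⟩
  left_inv p := by ext <;> rfl
  right_inv q := by ext <;> rfl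

lemma card_fixedBy_prod {X : Type*} [MulAction G X] (g : G) :
    Nat.card (fixedBy (X × X) g) = Nat.card (fixedBy X g) * Nat.card (fixedBy X g) := by
  rw [Nat.card_congr (fixedByProdEquiv g), Nat.card_prod]

/-- The rank formula for the derangement subgroup. -/
theorem derSubgroup_rank [Finite G] (Ω : Type*) [MulAction G Ω] [Finite Ω] [IsPretransitive G Ω] :
    Nat.card (orbitRel.Quotient (derSubgroup G Ω) (Ω × Ω)) - 1 =
      (Nat.card (orbitRel.Quotient G (Ω × Ω)) - 1) * (derSubgroup G Ω).index := by
  have : Fintype G := Fintype.ofFinite G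
  obtain ⟨-, hone⟩ := derSubgroup_key (G := G) Ω
  have hsplit : Nat.card (orbitRel.Quotient G (Ω × Ω)) * Nat.card G =
      Nat.card (orbitRel.Quotient (derSubgroup G Ω) (Ω × Ω)) * Nat.card (derSubgroup G Ω) +
        ∑ g ∈ Finset.univ.filter (fun g : G => g ∉ derSubgroup G Ω),
          Nat.card (fixedBy (Ω × Ω) g) := burnside_split (derSubgroup G Ω) (Ω × Ω)
  have hc := card_filter_not_mem (derSubgroup G Ω)
  have hS : ∑ g ∈ Finset.univ.filter (fun g : G => g ∉ derSubgroup G Ω),
      Nat.card (fixedBy (Ω × Ω) g) =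
      (Finset.univ.filter (fun g : G => g ∉ derSubgroup G Ω)).card := by
    rw [Finset.card_eq_sum_ones]
    apply Finset.sum_congr rfl
    intro g hg
    rw [card_fixedBy_prod, hone g (Finset.mem_filter.mp hg).2]
  rw [hS] at hsplit
  have hidx := Subgroup.card_mul_index (derSubgroup G Ω)
  have hDpos : 0 < Nat.card (derSubgroup G Ω) := Nat.card_pos
  rcases isEmpty_or_nonempty Ω with hΩ | hΩ
  · have h1 : IsEmpty (orbitRel.Quotient (derSubgroup G Ω) (Ω × Ω)) := by
      constructor
      intro q
      induction q using Quotient.inductionOn' with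
      | h x => exact hΩ.false x.1
    have h2 : IsEmpty (orbitRel.Quotient G (Ω × Ω)) := by
      constructor
      intro q
      induction q using Quotient.inductionOn' with
      | h x => exact hΩ.false x.1
    rw [Nat.card_of_isEmpty, Nat.card_of_isEmpty]
    simp
  · obtain ⟨ω⟩ := hΩ
    have h1 : Nonempty (orbitRel.Quotient (derSubgroup G Ω) (Ω × Ω)) := ⟨Quotient.mk'' (ω, ω)⟩
    have h2 : Nonempty (orbitRel.Quotient G (Ω × Ω)) := ⟨Quotient.mk'' (ω, ω)⟩
    have hb : 0 < Nat.card (orbitRel.Quotient (derSubgroup G Ω) (Ω × Ω)) := Nat.card_pos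
    have ha : 0 < Nat.card (orbitRel.Quotient G (Ω × Ω)) := Nat.card_pos
    generalize Nat.card (orbitRel.Quotient (derSubgroup G Ω) (Ω × Ω)) = rD at *
    generalize Nat.card (orbitRel.Quotient G (Ω × Ω)) = rG at *
    obtain ⟨b, rfl⟩ : ∃ b, rD = b + 1 := ⟨_, (Nat.succ_pred_eq_of_pos hb).symm⟩
    obtain ⟨a, rfl⟩ : ∃ a, rG = a + 1 := ⟨_, (Nat.succ_pred_eq_of_pos ha).symm⟩
    simp only [Nat.add_sub_cancel]
    generalize Nat.card (derSubgroup G Ω) = d at *
    generalize (derSubgroup G Ω).index = i at *
    generalize (Finset.univ.filter (fun g : G => g ∉ derSubgroup G Ω)).card = c at *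
    generalize Nat.card G = n at *
    subst hidx
    have : b * d = a * i * d := by
      zify at hsplit hc ⊢
      linear_combination -hsplit - hc
    exact Nat.eq_of_mul_eq_mul_right hDpos this

end counting

end Cfsg.Agent.helper18
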