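import Mathlib
import Cfsg.Agent.Lib_helper24_Char
import Cfsg.Agent.Lib_helper12_CharOps
import Cfsg.Agent.Lib_helper8_Ind

set_option autoImplicit false
set_option linter.unusedSectionVars false
set_option linter.unusedVariables false
set_option linter.style.longLine false
set_option linter.style.haveILetI false

/-!
Induction from a TI subgroup `H` (with `N_G(H) = H`): values and isometry (helper1).
-/

namespace Cfsg.Agent.helper1

open Cfsg
open scoped ComplexConjugate

variable {G : Type*} [Group G]

/-- Induction from a self-normalising TI subgroup does not change values on `H \ {1}`. -/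
theorem indFun_TI_apply [Fintype G] (H : Subgroup G)
    (hTI : ∀ g : G, g ∉ H → ∀ t ∈ H, g * t * g⁻¹ ∈ H → t = 1)
    (ψ : H → ℂ) (hψ : IsClassFunction H ψ) (t : H) (ht1 : t ≠ 1) :
    indFun H ψ (t : G) = ψ t := by
  classical
  haveI : Fintype H := Fintype.ofFinite _
  have hNne : (Nat.card H : ℂ) ≠ 0 := by
    have : Nat.card H ≠ 0 := Nat.card_pos.ne'
    exact_mod_cast this
  have htne : (t : G) ≠ 1 := by
    intro h; apply ht1; exact Subtype.ext h
  have hterm : ∀ x : G, extendByZero H ψ (x⁻¹ * (t : G) * x) = if x ∈ H then ψ t else 0 := by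
    intro x
    by_cases hx : x ∈ H
    · rw [if_pos hx]
      have hmem : x⁻¹ * (t : G) * x ∈ H := H.mul_mem (H.mul_mem (H.inv_mem hx) t.2) hx
      rw [Cfsg.Agent.helper12.extendByZero_of_mem' H ψ _ hmem]
      have := hψ t (⟨x, hx⟩⁻¹ : H)
      rw [← this]
      congr 1
      apply Subtype.ext
      simp
    · rw [if_neg hx]
      have hx' : x⁻¹ ∉ H := fun h => hx (by simpa using H.inv_mem h)
      apply Cfsg.Agent.helper12.extendByZero_of_not_mem'
      intro hmem
      apply htne
      apply hTI x⁻¹ hx' (t : G) t.2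
      simpa using hmem
  unfold indFun
  simp_rw [hterm]
  rw [Finset.sum_ite, Finset.sum_const, Finset.sum_const_zero, add_zero, nsmul_eq_mul]
  have hcard : (Finset.univ.filter (fun x : G => x ∈ H)).card = Nat.card H := by
    rw [Nat.card_eq_fintype_card, Fintype.card_subtype]
  rw [hcard]
  field_simp

/-- Induction from a self-normalising TI subgroup is an isometry on functions vanishing at 1. -/
theorem classInner_indFun_TI [Fintype G] (H : Subgroup G) [Fintype H]
    (hTI : ∀ g : G, g ∉ H → ∀ t ∈ H, g * t * g⁻¹ ∈ H → t = 1)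
    (ψ θ : H → ℂ) (hθ : IsClassFunction H θ) (hψ1 : ψ 1 = 0) :
    classInner (indFun H ψ) (indFun H θ) = classInner ψ θ := by
  classical
  rw [Cfsg.Agent.helper8.frobenius H ψ _ (Cfsg.Agent.helper8.indFun_isClassFunction H θ)]
  unfold classInner
  congr 1
  apply Finset.sum_congr rfl
  intro n _
  by_cases hn1 : n = 1
  · rw [hn1, hψ1, zero_mul, zero_mul]
  · show ψ n * (starRingEnd ℂ) (indFun H θ ↑n) = _
    rw [indFun_TI_apply H hTI θ hθ n hn1]

/-- The induced function vanishes at elements having no conjugate in `H`. -/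
theorem indFun_eq_zero_of_no_conj [Fintype G] (H : Subgroup G) (ψ : H → ℂ) (x : G)
    (hx : ∀ g : G, g⁻¹ * x * g ∉ H) : indFun H ψ x = 0 := by
  unfold indFun
  rw [Finset.sum_eq_zero, mul_zero]
  intro g _
  exact Cfsg.Agent.helper12.extendByZero_of_not_mem' H ψ _ (hx g)

end Cfsg.Agent.helper1
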