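import Mathlib
import Cfsg.Agent.Lib_helper1_TI
import Cfsg.Agent.Lib_helper8_Virtual
import Cfsg.Agent.Lib_helper8_Clifford

set_option autoImplicit false
set_option linter.unusedSectionVars false
set_option linter.unusedVariables false
set_option linter.style.longLine false
set_option linter.style.haveILetI false

/-!
Frobenius' theorem via characters (helper1): for a self-normalising TI subgroup `H` of a finite
group, every irreducible character `φ` of `H` extends to an irreducible character `frobStar φ`
of `G`, and the intersection of their kernels is a normal complement of `H`.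
-/

namespace Cfsg.Agent.helper1

open Cfsg
open scoped ComplexConjugate

variable {G : Type*} [Group G]

/-- The extension `φ* = (φ - φ(1) 1_H)^G + φ(1) 1_G`. -/
noncomputable def frobStar [Fintype G] (H : Subgroup G) (φ : H → ℂ) : G → ℂ :=
  indFun H (φ - (φ 1) • (fun _ : H => (1 : ℂ))) + (φ 1) • (fun _ : G => (1 : ℂ))

section
variable [Fintype G] (H : Subgroup G)
  (hTI : ∀ g : G, g ∉ H → ∀ t ∈ H, g * t * g⁻¹ ∈ H → t = 1)

theorem frobStar_apply_one (φ : H → ℂ) : frobStar H φ 1 = φ 1 := by
  unfold frobStar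
  rw [Pi.add_apply, Cfsg.Agent.helper8.indFun_one_eq]
  simp

include hTI in
theorem frobStar_apply_coe (φ : H → ℂ) (hφ : IsClassFunction H φ) (h : H) :
    frobStar H φ (h : G) = φ h := by
  by_cases h1 : h = 1
  · rw [h1, Subgroup.coe_one, frobStar_apply_one]
  · unfold frobStar
    rw [Pi.add_apply, indFun_TI_apply H hTI _ _ h h1]
    · simp
    · intro a b
      simp only [Pi.sub_apply, Pi.smul_apply, smul_eq_mul, mul_one]
      rw [hφ a b]

theorem frobStar_of_no_conj (φ : H → ℂ) (x : G) (hx : ∀ g : G, g⁻¹ * x * g ∉ H) :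
    frobStar H φ x = φ 1 := by
  unfold frobStar
  rw [Pi.add_apply, indFun_eq_zero_of_no_conj H _ x hx]
  simp

theorem frobStar_isGeneralizedCharacter (φ : H → ℂ) (hφ : IsCharacter H φ) :
    IsGeneralizedCharacter G (frobStar H φ) := by
  obtain ⟨n, hn⟩ := Cfsg.Agent.helper24.char_apply_one hφ
  have hone : IsCharacter H (fun _ : H => (1 : ℂ)) :=
    Cfsg.Agent.helper24.irr_isCharacter Cfsg.Agent.helper24.isIrrCharacter_one
  have honeG : IsCharacter G (fun _ : G => (1 : ℂ)) :=
    Cfsg.Agent.helper24.irr_isCharacter Cfsg.Agent.helper24.isIrrCharacter_one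
  refine ⟨indFun H φ + n • (fun _ : G => (1 : ℂ)), n • indFun H (fun _ : H => (1 : ℂ)),
    Cfsg.Agent.helper12.isCharacter_add (Cfsg.Agent.helper12.isCharacter_indFun H hφ)
      (Cfsg.Agent.helper12.isCharacter_nsmul n honeG),
    Cfsg.Agent.helper12.isCharacter_nsmul n (Cfsg.Agent.helper12.isCharacter_indFun H hone), ?_⟩
  unfold frobStar
  rw [hn, sub_eq_add_neg, Cfsg.Agent.helper8.indFun_add, ← neg_smul,
    Cfsg.Agent.helper8.indFun_smul]
  funext g
  simp only [Pi.add_apply, Pi.smul_apply, Pi.sub_apply]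
  simp only [smul_eq_mul, nsmul_eq_mul, mul_one]
  ring

include hTI in
theorem frobStar_norm [Fintype H] (φ : H → ℂ) (hφ : IsIrrCharacter H φ) :
    classInner (frobStar H φ) (frobStar H φ) = 1 := by
  classical
  obtain ⟨n, hnpos, hn⟩ := Cfsg.Agent.helper24.irr_apply_one hφ
  set one : H → ℂ := fun _ => 1 with hone
  set oneG : G → ℂ := fun _ => 1 with honeG
  have honeirr : IsIrrCharacter H one := Cfsg.Agent.helper24.isIrrCharacter_one
  have honeGirr : IsIrrCharacter G oneG := Cfsg.Agent.helper24.isIrrCharacter_one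
  have hφcf : IsClassFunction H φ :=
    Cfsg.Agent.helper24.char_isClassFunction (Cfsg.Agent.helper24.irr_isCharacter hφ)
  have honecf : IsClassFunction H one :=
    Cfsg.Agent.helper24.char_isClassFunction (Cfsg.Agent.helper24.irr_isCharacter honeirr)
  have honeGcf : IsClassFunction G oneG :=
    Cfsg.Agent.helper24.char_isClassFunction (Cfsg.Agent.helper24.irr_isCharacter honeGirr)
  set α : H → ℂ := φ - (φ 1) • one with hα
  have hα1 : α 1 = 0 := by simp [hα, hone]
  have hαcf : IsClassFunction H α := by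
    intro a b
    simp only [hα, Pi.sub_apply, Pi.smul_apply, smul_eq_mul]
    rw [hφcf a b, honecf a b]
  set δ : ℂ := classInner φ one with hδ
  have hδreal : conj δ = δ := by
    rw [hδ, Cfsg.Agent.helper24.irr_classInner hφ honeirr]
    split_ifs <;> simp
  have hδ' : classInner one φ = δ := by
    rw [← Cfsg.Agent.helper24.classInner_conj_symm, ← hδ, hδreal]
  have hdconj : conj (φ 1) = φ 1 := by rw [hn, Complex.conj_natCast]
  -- ⟨α, α⟩
  have hαα : classInner α α = 1 - 2 * φ 1 * δ + φ 1 ^ 2 := by
    rw [hα, Cfsg.Agent.helper24.classInner_sub_left, Cfsg.Agent.helper8.classInner_sub_right,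
      Cfsg.Agent.helper8.classInner_sub_right, Cfsg.Agent.helper24.classInner_smul_left,
      Cfsg.Agent.helper24.classInner_smul_left, Cfsg.Agent.helper8.classInner_smul_right,
      Cfsg.Agent.helper8.classInner_smul_right, Cfsg.Agent.helper24.irr_classInner_self hφ,
      Cfsg.Agent.helper24.irr_classInner_self honeirr, hδ', ← hδ, hdconj]
    ring
  -- ⟨α, 1⟩
  have hα1' : classInner α one = δ - φ 1 := by
    rw [hα, Cfsg.Agent.helper24.classInner_sub_left, Cfsg.Agent.helper24.classInner_smul_left,
      Cfsg.Agent.helper24.irr_classInner_self honeirr, ← hδ]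
    ring
  have hindαα : classInner (indFun H α) (indFun H α) = 1 - 2 * φ 1 * δ + φ 1 ^ 2 := by
    rw [classInner_indFun_TI H hTI α α hαcf hα1, hαα]
  have hindα1 : classInner (indFun H α) oneG = δ - φ 1 := by
    rw [Cfsg.Agent.helper8.frobenius H α oneG honeGcf]
    exact hα1'
  have h1indα : classInner oneG (indFun H α) = δ - φ 1 := by
    rw [← Cfsg.Agent.helper24.classInner_conj_symm, hindα1, map_sub, hδreal, hdconj]
  show classInner (indFun H α + (φ 1) • oneG) (indFun H α + (φ 1) • oneG) = 1
  rw [Cfsg.Agent.helper24.classInner_add_left, Cfsg.Agent.helper8.classInner_add_right,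
    Cfsg.Agent.helper8.classInner_add_right, Cfsg.Agent.helper24.classInner_smul_left,
    Cfsg.Agent.helper24.classInner_smul_left, Cfsg.Agent.helper8.classInner_smul_right,
    Cfsg.Agent.helper8.classInner_smul_right, hindαα, hindα1, h1indα,
    Cfsg.Agent.helper24.irr_classInner_self honeGirr, hdconj]
  ring

include hTI in
theorem frobStar_isIrrCharacter (φ : H → ℂ) (hφ : IsIrrCharacter H φ) :
    IsIrrCharacter G (frobStar H φ) := by
  classical
  haveI : Fintype H := Fintype.ofFinite _
  obtain ⟨n, hnpos, hn⟩ := Cfsg.Agent.helper24.irr_apply_one hφ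
  rcases Cfsg.Agent.helper8.virt_norm_one
    (frobStar_isGeneralizedCharacter H φ (Cfsg.Agent.helper24.irr_isCharacter hφ))
    (frobStar_norm H hTI φ hφ) with h | h
  · exact h
  · exfalso
    obtain ⟨m, hmpos, hm⟩ := Cfsg.Agent.helper24.irr_apply_one h
    rw [Pi.neg_apply, frobStar_apply_one, hn] at hm
    have : ((n : ℂ) + (m : ℂ)) = 0 := by rw [← hm]; ring
    have h2 : n + m = 0 := by exact_mod_cast this
    omega

end

/-- Frobenius' theorem: a self-normalising TI subgroup of a finite group has a normal complement,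
consisting of `1` and the elements with no conjugate in `H`. -/
theorem frobenius_kernel_exists [Finite G] (H : Subgroup G)
    (hTI : ∀ g : G, g ∉ H → ∀ t ∈ H, g * t * g⁻¹ ∈ H → t = 1) :
    ∃ N : Subgroup G, N.Normal ∧ N ⊓ H = ⊥ ∧
      ∀ x : G, x ∈ N ↔ (x = 1 ∨ ∀ g : G, g⁻¹ * x * g ∉ H) := by
  classical
  haveI := Fintype.ofFinite G
  haveI : Fintype H := Fintype.ofFinite _
  haveI : Fintype (IrrCharacter H) := Fintype.ofFinite _
  have hstarirr : ∀ φ : IrrCharacter H, IsIrrCharacter G (frobStar H (φ : H → ℂ)) :=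
    fun φ => frobStar_isIrrCharacter H hTI _ φ.2
  choose K hKn hK using fun φ : IrrCharacter H =>
    Cfsg.Agent.helper24.char_exists_ker (Cfsg.Agent.helper24.irr_isCharacter (hstarirr φ))
  have hNn : (⨅ φ : IrrCharacter H, K φ).Normal := Subgroup.normal_iInf_normal hKn
  have hmemN : ∀ x : G, x ∈ (⨅ φ : IrrCharacter H, K φ) ↔
      ∀ φ : IrrCharacter H, frobStar H (φ : H → ℂ) x = (φ : H → ℂ) 1 := by
    intro x
    rw [Subgroup.mem_iInf]
    constructor
    · intro h φ
      have := (hK φ x).mp (h φ)
      rw [this, frobStar_apply_one]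
    · intro h φ
      rw [hK φ x, h φ, frobStar_apply_one]
  have hNH : (⨅ φ : IrrCharacter H, K φ) ⊓ H = ⊥ := by
    rw [eq_bot_iff]
    intro x hx
    rw [Subgroup.mem_bot]
    by_contra hx1
    have hxN := (hmemN x).mp hx.1
    have hxH : x ∈ H := hx.2
    have hval : ∀ φ : IrrCharacter H, (φ : H → ℂ) ⟨x, hxH⟩ = (φ : H → ℂ) 1 := by
      intro φ
      have h1 := frobStar_apply_coe H hTI (φ : H → ℂ)
        (Cfsg.Agent.helper24.char_isClassFunction (Cfsg.Agent.helper24.irr_isCharacter φ.2))
        ⟨x, hxH⟩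
      rw [← h1]
      exact hxN φ
    have h1 := Cfsg.Agent.helper24.irr_column_orthogonality (G := H) ⟨x, hxH⟩ 1
    have h2 := Cfsg.Agent.helper24.irr_column_orthogonality (G := H) 1 1
    rw [if_neg (by
      intro hconj
      apply hx1
      have := isConj_one_left.mp hconj
      exact congrArg Subtype.val this)] at h1
    rw [if_pos (IsConj.refl _)] at h2
    simp_rw [hval] at h1
    rw [h1] at h2
    have : (Nat.card (Subgroup.centralizer ({1} : Set H)) : ℂ) ≠ 0 := by
      have : Nat.card (Subgroup.centralizer ({1} : Set H)) ≠ 0 := Nat.card_pos.ne'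
      exact_mod_cast this
    exact this h2.symm
  refine ⟨⨅ φ : IrrCharacter H, K φ, hNn, hNH, ?_⟩
  intro x
  constructor
  · intro hx
    by_cases hx1 : x = 1
    · exact Or.inl hx1
    · right
      intro g hg
      apply hx1
      have hconjN : g⁻¹ * x * g ∈ (⨅ φ : IrrCharacter H, K φ) := by
        have := hNn.conj_mem x hx g⁻¹
        simpa using this
      have : g⁻¹ * x * g ∈ (⨅ φ : IrrCharacter H, K φ) ⊓ H := ⟨hconjN, hg⟩
      rw [hNH, Subgroup.mem_bot] at this
      have e : x = g * (g⁻¹ * x * g) * g⁻¹ := by group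
      rw [e, this]; group
  · rintro (rfl | hx)
    · exact Subgroup.one_mem _
    · rw [hmemN]
      intro φ
      exact frobStar_of_no_conj H _ x hx

end Cfsg.Agent.helper1
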