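import Mathlib
import Cfsg.Agent.Lib_helper18_Derangement
import Cfsg.Agent.Lib_helper1_FrobThm

set_option autoImplicit false
set_option linter.style.haveILetI false
set_option linter.unusedSectionVars false

/-! Burnside's theorem on the minimal normal subgroups of a finite `2`-transitive group. -/

namespace Cfsg.Agent.helper18.B2T

open MulAction
open scoped Pointwise

variable {G Ω : Type*} [Group G] [MulAction G Ω]

/-- Elementary form of `2`-transitivity. -/
def TwoT (G Ω : Type*) [Group G] [MulAction G Ω] : Prop :=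
  ∀ a b c d : Ω, a ≠ b → c ≠ d → ∃ g : G, g • a = c ∧ g • b = d

/-- Elementary transitivity of a subgroup. -/
def Trans (N : Subgroup G) (Ω : Type*) [MulAction G Ω] : Prop :=
  ∀ x y : Ω, ∃ n ∈ N, n • x = y

/-- Elementary semiregularity of a subgroup. -/
def SemiReg (N : Subgroup G) (Ω : Type*) [MulAction G Ω] : Prop :=
  ∀ n ∈ N, ∀ x : Ω, n • x = x → n = 1

lemma eq_one_of_forall_smul [FaithfulSMul G Ω] {g : G} (h : ∀ x : Ω, g • x = x) : g = 1 := by
  apply FaithfulSMul.eq_of_smul_eq_smul (α := Ω)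
  intro x
  rw [h x, one_smul]

lemma exists_moved [FaithfulSMul G Ω] {g : G} (h : g ≠ 1) : ∃ x : Ω, g • x ≠ x := by
  by_contra hcon
  push Not at hcon
  exact h (eq_one_of_forall_smul hcon)

lemma exists_ne_one_of_ne_bot {N : Subgroup G} (hN : N ≠ ⊥) : ∃ n ∈ N, n ≠ 1 := by
  obtain ⟨⟨n, hn⟩, hn1⟩ := (Subgroup.ne_bot_iff_exists_ne_one).mp hN
  exact ⟨n, hn, fun h => hn1 (Subtype.ext h)⟩

/-- A nontrivial normal subgroup of a `2`-transitive group is transitive. -/
lemma trans_of_normal [FaithfulSMul G Ω] (h2 : TwoT G Ω) (N : Subgroup G) [hNn : N.Normal]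
    (hN : N ≠ ⊥) : Trans N Ω := by
  obtain ⟨n, hn, hn1⟩ := exists_ne_one_of_ne_bot hN
  obtain ⟨u, hu⟩ := exists_moved (Ω := Ω) hn1
  intro x y
  by_cases hxy : x = y
  · exact ⟨1, N.one_mem, by rw [one_smul, hxy]⟩
  · obtain ⟨g, hgu, hgv⟩ := h2 u (n • u) x y (Ne.symm hu) hxy
    refine ⟨g * n * g⁻¹, hNn.conj_mem n hn g, ?_⟩
    rw [← hgu, mul_smul, mul_smul, inv_smul_smul, hgv]

/-- A transitive abelian subgroup of a faithful action is semiregular. -/
lemma semiReg_of_comm [FaithfulSMul G Ω] (N : Subgroup G) (ht : Trans N Ω)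
    (hc : ∀ x ∈ N, ∀ y ∈ N, x * y = y * x) : SemiReg N Ω := by
  intro n hn x hx
  apply eq_one_of_forall_smul (Ω := Ω)
  intro y
  obtain ⟨m, hm, rfl⟩ := ht x y
  rw [← mul_smul, hc n hn m hm, mul_smul, hx]

/-- A subgroup centralised by a transitive subgroup is semiregular. -/
lemma semiReg_of_centralized [FaithfulSMul G Ω] (C T : Subgroup G) (ht : Trans T Ω)
    (hc : ∀ c ∈ C, ∀ t ∈ T, c * t = t * c) : SemiReg C Ω := by
  intro c hcC x hx
  apply eq_one_of_forall_smul (Ω := Ω)
  intro y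
  obtain ⟨t, ht', rfl⟩ := ht x y
  rw [← mul_smul, hc c hcC t ht', mul_smul, hx]

section regular

variable [Finite G] [FaithfulSMul G Ω]

/-- In a regular normal subgroup of a `2`-transitive group, all non-identity elements are
conjugate to a given one. -/
lemma conj_of_semiReg (h2 : TwoT G Ω) (N : Subgroup G) [hNn : N.Normal] (hs : SemiReg N Ω)
    (x : G) (hx : x ∈ N) (hx1 : x ≠ 1) (n : G) (hn : n ∈ N) (hn1 : n ≠ 1) :
    ∃ g : G, g * x * g⁻¹ = n := by
  obtain ⟨a, ha⟩ := exists_moved (Ω := Ω) hx1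
  have hna : n • a ≠ a := fun h => hn1 (hs n hn a h)
  obtain ⟨g, hga, hgx⟩ := h2 a (x • a) a (n • a) (Ne.symm ha) (Ne.symm hna)
  refine ⟨g, ?_⟩
  have h1 : (n⁻¹ * (g * x * g⁻¹)) • a = a := by
    rw [mul_smul, mul_smul, mul_smul]
    have : g⁻¹ • a = a := by rw [inv_smul_eq_iff, hga]
    rw [this, hgx, inv_smul_smul]
  have h2' := hs _ (N.mul_mem (N.inv_mem hn) (hNn.conj_mem x hx g)) a h1
  exact (inv_mul_eq_one.mp h2').symm

/-- A semiregular minimal normal subgroup of a `2`-transitive group is elementary abelian. -/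
theorem elementary_of_semiReg (h2 : TwoT G Ω) (N : Subgroup G) [hNn : N.Normal] (hN : N ≠ ⊥)
    (hmin : ∀ M : Subgroup G, M.Normal → M ≤ N → M = ⊥ ∨ M = N) (hs : SemiReg N Ω) :
    (∀ x ∈ N, ∀ y ∈ N, x * y = y * x) ∧ ∃ p : ℕ, p.Prime ∧ ∀ n ∈ N, n ^ p = 1 := by
  classical
  haveI : Nontrivial N := (Subgroup.nontrivial_iff_ne_bot N).mpr hN
  have hcard : Nat.card N ≠ 1 := by
    intro h
    exact hN (Subgroup.card_eq_one.mp h)
  set p := (Nat.card N).minFac with hp
  have hpp : p.Prime := Nat.minFac_prime hcard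
  haveI : Fact p.Prime := ⟨hpp⟩
  obtain ⟨x0, hx0⟩ := exists_prime_orderOf_dvd_card' (G := N) p (Nat.minFac_dvd _)
  have hx0' : orderOf (x0 : G) = p := by rw [Subgroup.orderOf_coe]; exact hx0
  have hx01 : (x0 : G) ≠ 1 := by
    intro h
    rw [h, orderOf_one] at hx0'
    exact hpp.one_lt.ne hx0'
  have hexp : ∀ n ∈ N, n ^ p = 1 := by
    intro n hn
    by_cases hn1 : n = 1
    · rw [hn1, one_pow]
    · obtain ⟨g, hg⟩ := conj_of_semiReg h2 N hs x0 x0.2 hx01 n hn hn1
      rw [← hg, conj_pow, ← hx0', pow_orderOf_eq_one, mul_one, mul_inv_cancel]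
  refine ⟨?_, p, hpp, hexp⟩
  -- `N` is a `p`-group, so its centre is nontrivial
  have hpg : IsPGroup p N := by
    intro n
    refine ⟨1, ?_⟩
    rw [pow_one]
    apply Subtype.ext
    rw [Subgroup.coe_pow]
    exact hexp n n.2
  haveI := hpg.center_nontrivial
  -- the centre of `N`, as a subgroup of `G`
  let Z : Subgroup G := (Subgroup.center N).map N.subtype
  have hZmem : ∀ z : G, z ∈ Z ↔ z ∈ N ∧ ∀ m ∈ N, m * z = z * m := by
    intro z
    constructor
    · rintro ⟨⟨w, hw⟩, hwc, rfl⟩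
      refine ⟨hw, fun m hm => ?_⟩
      have := (Subgroup.mem_center_iff.mp hwc) ⟨m, hm⟩
      exact congrArg Subtype.val this
    · rintro ⟨hz, hc⟩
      refine ⟨⟨z, hz⟩, ?_, rfl⟩
      rw [SetLike.mem_coe, Subgroup.mem_center_iff]
      intro m
      apply Subtype.ext
      exact hc m m.2
  have hZn : Z.Normal := by
    constructor
    intro z hz g
    rw [hZmem] at hz ⊢
    refine ⟨hNn.conj_mem z hz.1 g, fun m hm => ?_⟩
    have h1 := hz.2 (g⁻¹ * m * g) (by
      have := hNn.conj_mem m hm g⁻¹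
      rwa [inv_inv] at this)
    calc m * (g * z * g⁻¹) = g * ((g⁻¹ * m * g) * z) * g⁻¹ := by group
      _ = g * (z * (g⁻¹ * m * g)) * g⁻¹ := by rw [h1]
      _ = g * z * g⁻¹ * m := by group
  have hZle : Z ≤ N := fun z hz => ((hZmem z).mp hz).1
  have hZbot : Z ≠ ⊥ := by
    obtain ⟨⟨z, hz⟩, hz1⟩ := exists_ne (1 : Subgroup.center N)
    intro h
    apply hz1
    have : (z : G) ∈ Z := ⟨z, hz, rfl⟩
    rw [h, Subgroup.mem_bot] at this
    apply Subtype.ext
    apply Subtype.ext
    exact this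
  have hZN : Z = N := (hmin Z hZn hZle).resolve_left hZbot
  intro x hx y hy
  have hy' : y ∈ Z := hZN ▸ hy
  exact ((hZmem y).mp hy').2 x hx

end regular

section blocks

/-- Elementary form of a block for a subgroup. -/
def NB (N : Subgroup G) (B : Set Ω) : Prop :=
  ∀ n ∈ N, n • B = B ∨ Disjoint (n • B) B

lemma NB.smul {N : Subgroup G} [hNn : N.Normal] {B : Set Ω} (hB : NB N B) (g : G) :
    NB N (g • B) := by
  intro n hn
  have hm : g⁻¹ * n * g ∈ N := by
    have := hNn.conj_mem n hn g⁻¹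
    rwa [inv_inv] at this
  have heq : n • g • B = g • (g⁻¹ * n * g) • B := by
    rw [← mul_smul, ← mul_smul]
    congr 1
    group
  rcases hB _ hm with h | h
  · left
    rw [heq, h]
  · right
    rw [heq]
    exact (Set.disjoint_smul_set).mpr h

lemma NB.inter {N : Subgroup G} {B₁ B₂ : Set Ω} (h₁ : NB N B₁) (h₂ : NB N B₂) :
    NB N (B₁ ∩ B₂) := by
  intro n hn
  by_cases hd : Disjoint (n • (B₁ ∩ B₂)) (B₁ ∩ B₂)
  · exact Or.inr hd
  · left
    rw [Set.not_disjoint_iff] at hd
    obtain ⟨z, hz1, hz2⟩ := hd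
    rw [Set.smul_set_inter] at hz1
    have e1 : n • B₁ = B₁ := by
      rcases h₁ n hn with h | h
      · exact h
      · exact absurd (Set.disjoint_left.mp h hz1.1 hz2.1) id
    have e2 : n • B₂ = B₂ := by
      rcases h₂ n hn with h | h
      · exact h
      · exact absurd (Set.disjoint_left.mp h hz1.2 hz2.2) id
    rw [Set.smul_set_inter, e1, e2]

lemma NB.smul_eq_of_fixed {N : Subgroup G} {B : Set Ω} (hB : NB N B) {n : G} (hn : n ∈ N)
    {x : Ω} (hx : x ∈ B) (hnx : n • x = x) : n • B = B := by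
  rcases hB n hn with h | h
  · exact h
  · exfalso
    have : x ∈ n • B := by
      rw [← hnx]
      exact Set.smul_mem_smul_set hx
    exact Set.disjoint_left.mp h this hx

/-- With a minimal nontrivial block of a normal subgroup `N` of a `2`-transitive group,
an element of `N` fixing two points is trivial. -/
theorem eq_one_of_fix_two [Finite Ω] [FaithfulSMul G Ω] (h2 : TwoT G Ω) (N : Subgroup G)
    [hNn : N.Normal] (B : Set Ω) (hB : NB N B) (hBnt : B.Nontrivial) (hBu : B ≠ Set.univ)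
    (hBmin : ∀ B' : Set Ω, NB N B' → B'.Nontrivial → B' ≠ Set.univ → B.ncard ≤ B'.ncard)
    (n : G) (hn : n ∈ N) (x y : Ω) (hxy : x ≠ y) (hx : n • x = x) (hy : n • y = y) : n = 1 := by
  classical
  -- lines
  have hBlt : B.ncard < Nat.card Ω := by
    rw [← Set.ncard_univ]
    apply Set.ncard_lt_ncard _ (Set.toFinite _)
    exact (Set.ssubset_univ_iff).mpr hBu
  have line_card : ∀ g : G, (g • B).ncard = B.ncard := fun g => Set.ncard_smul_set g B
  have line_ne : ∀ g : G, g • B ≠ Set.univ := by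
    intro g h
    have := line_card g
    rw [h, Set.ncard_univ] at this
    omega
  -- two lines sharing two distinct points coincide
  have line_eq : ∀ g₁ g₂ : G, ∀ u v : Ω, u ≠ v → u ∈ g₁ • B → v ∈ g₁ • B → u ∈ g₂ • B →
      v ∈ g₂ • B → g₁ • B = g₂ • B := by
    intro g₁ g₂ u v huv hu1 hv1 hu2 hv2
    have hI : NB N (g₁ • B ∩ g₂ • B) := (hB.smul g₁).inter (hB.smul g₂)
    have hInt : (g₁ • B ∩ g₂ • B).Nontrivial := ⟨u, ⟨hu1, hu2⟩, v, ⟨hv1, hv2⟩, huv⟩
    have hIu : g₁ • B ∩ g₂ • B ≠ Set.univ := by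
      intro h
      apply line_ne g₁
      rw [Set.eq_univ_iff_forall] at h ⊢
      exact fun z => (h z).1
    have hle := hBmin _ hI hInt hIu
    have e1 : g₁ • B ∩ g₂ • B = g₁ • B :=
      Set.eq_of_subset_of_ncard_le Set.inter_subset_left (by rw [line_card]; exact hle)
    have e2 : g₁ • B ∩ g₂ • B = g₂ • B :=
      Set.eq_of_subset_of_ncard_le Set.inter_subset_right (by rw [line_card]; exact hle)
    rw [← e1, e2]
  -- any two distinct points are on a line
  have line_ex : ∀ u v : Ω, u ≠ v → ∃ g : G, u ∈ g • B ∧ v ∈ g • B := by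
    intro u v huv
    obtain ⟨b₁, hb₁, b₂, hb₂, hb⟩ := hBnt
    obtain ⟨g, hg1, hg2⟩ := h2 b₁ b₂ u v hb huv
    exact ⟨g, hg1 ▸ Set.smul_mem_smul_set hb₁, hg2 ▸ Set.smul_mem_smul_set hb₂⟩
  -- key step
  have key : ∀ (m : G), m ∈ N → ∀ (u v : Ω), u ≠ v → m • u = u → m • v = v → ∀ g : G,
      u ∈ g • B → v ∈ g • B → ∀ z, z ∉ g • B → m • z = z := by
    intro m hm u v huv hmu hmv g hug hvg z hz
    have huz : u ≠ z := fun h => hz (h ▸ hug)
    have hvz : v ≠ z := fun h => hz (h ▸ hvg)
    obtain ⟨g₁, hu1, hz1⟩ := line_ex u z huz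
    obtain ⟨g₂, hv2, hz2⟩ := line_ex v z hvz
    have e1 : m • g₁ • B = g₁ • B := (hB.smul g₁).smul_eq_of_fixed hm hu1 hmu
    have e2 : m • g₂ • B = g₂ • B := (hB.smul g₂).smul_eq_of_fixed hm hv2 hmv
    have hmz1 : m • z ∈ g₁ • B := by rw [← e1]; exact Set.smul_mem_smul_set hz1
    have hmz2 : m • z ∈ g₂ • B := by rw [← e2]; exact Set.smul_mem_smul_set hz2
    by_contra hne
    have h12 : g₁ • B = g₂ • B := line_eq g₁ g₂ (m • z) z hne hmz1 hz1 hmz2 hz2
    have hv1 : v ∈ g₁ • B := h12 ▸ hv2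
    have h1g : g₁ • B = g • B := line_eq g₁ g u v huv hu1 hv1 hug hvg
    exact hz (h1g ▸ hz1)
  obtain ⟨g, hxg, hyg⟩ := line_ex x y hxy
  obtain ⟨z, hz⟩ : ∃ z, z ∉ g • B := by
    by_contra hcon
    push Not at hcon
    exact line_ne g (Set.eq_univ_iff_forall.mpr hcon)
  have hnz : n • z = z := key n hn x y hxy hx hy g hxg hyg z hz
  have hxz : x ≠ z := fun h => hz (h ▸ hxg)
  obtain ⟨g', hxg', hzg'⟩ := line_ex x z hxz
  apply eq_one_of_forall_smul (Ω := Ω)
  intro w
  by_cases hw : w ∈ g • B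
  · by_cases hwx : w = x
    · rw [hwx]; exact hx
    · have hwg' : w ∉ g' • B := by
        intro hwg'
        have := line_eq g g' x w (Ne.symm hwx) hxg hw hxg' hwg'
        exact hz (this ▸ hzg')
      exact key n hn x z hxz hx hnz g' hxg' hzg' w hwg'
  · exact key n hn x y hxy hx hy g hxg hyg w hw

end blocks

section primitive

variable [Finite G] [Finite Ω] [FaithfulSMul G Ω]

lemma isPretransitive_of_trans {N : Subgroup G} (ht : Trans N Ω) : IsPretransitive N Ω :=
  ⟨fun x y => by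
    obtain ⟨n, hn, h⟩ := ht x y
    exact ⟨⟨n, hn⟩, h⟩⟩

/-- A transitive subgroup on at least two points contains a fixed-point-free element. -/
lemma exists_derangement {N : Subgroup G} (ht : Trans N Ω) (x y : Ω) (hxy : x ≠ y) :
    ∃ d ∈ N, ∀ ω : Ω, d • ω ≠ ω := by
  haveI := isPretransitive_of_trans ht
  by_contra hcon
  push Not at hcon
  have hempty : {g : N | ∀ ω : Ω, g • ω ≠ ω} = ∅ := by
    rw [Set.eq_empty_iff_forall_notMem]
    intro g hg
    obtain ⟨ω, hω⟩ := hcon g.1 g.2
    exact hg ω hω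
  have hbot : derSubgroup N Ω = ⊥ := by
    unfold derSubgroup
    rw [hempty, Subgroup.closure_empty]
  have hT := (derSubgroup_key (G := N) Ω).1
  obtain ⟨⟨g, hg⟩, hgxy⟩ := hT.exists_smul_eq x y
  rw [hbot, Subgroup.mem_bot] at hg
  subst hg
  exact hxy (by simpa using hgxy)

/-- **Burnside**: a minimal normal subgroup of a `2`-transitive group that is not semiregular
is primitive. -/
theorem isPreprimitive_of_not_semiReg (h2 : TwoT G Ω) (N : Subgroup G) [hNn : N.Normal]
    (hN : N ≠ ⊥) (hmin : ∀ M : Subgroup G, M.Normal → M ≤ N → M = ⊥ ∨ M = N)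
    (hnr : ¬ SemiReg N Ω) : IsPreprimitive N Ω := by
  classical
  have ht : Trans N Ω := trans_of_normal h2 N hN
  haveI hpt : IsPretransitive N Ω := isPretransitive_of_trans ht
  by_contra hnp
  -- a nontrivial block
  have hex : ∃ B : Set Ω, NB N B ∧ B.Nontrivial ∧ B ≠ Set.univ := by
    by_contra hcon
    push Not at hcon
    apply hnp
    refine ⟨fun {B} hB => ?_⟩
    rw [isBlock_iff_smul_eq_or_disjoint] at hB
    have hNB : NB N B := fun n hn => hB ⟨n, hn⟩
    by_cases hs : B.Subsingleton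
    · exact Or.inl hs
    · right
      rw [Set.not_subsingleton_iff] at hs
      exact hcon B hNB hs
  -- a minimal one
  have hex' : ∃ k, ∃ B : Set Ω, NB N B ∧ B.Nontrivial ∧ B ≠ Set.univ ∧ B.ncard = k := by
    obtain ⟨B, h1, h2', h3⟩ := hex
    exact ⟨_, B, h1, h2', h3, rfl⟩
  obtain ⟨B, hB, hBnt, hBu, hBk⟩ := Nat.find_spec hex'
  have hBmin : ∀ B' : Set Ω, NB N B' → B'.Nontrivial → B' ≠ Set.univ → B.ncard ≤ B'.ncard := by
    intro B' h1 h2' h3
    rw [hBk]
    exact Nat.find_min' hex' ⟨B', h1, h2', h3, rfl⟩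
  have hfix2 : ∀ n ∈ N, ∀ x y : Ω, x ≠ y → n • x = x → n • y = y → n = 1 :=
    fun n hn x y hxy hx hy => eq_one_of_fix_two h2 N B hB hBnt hBu hBmin n hn x y hxy hx hy
  -- a point with nontrivial stabiliser
  unfold SemiReg at hnr
  push Not at hnr
  obtain ⟨n₀, hn₀, a, hn₀a, hn₀1⟩ := hnr
  -- Frobenius kernel
  set H : Subgroup N := stabilizer N a with hH
  have hTI : ∀ g : N, g ∉ H → ∀ t ∈ H, g * t * g⁻¹ ∈ H → t = 1 := by
    intro g hg t ht' hgt
    have hga : (g⁻¹ : N) • a ≠ a := by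
      intro h
      apply hg
      have : g⁻¹ ∈ H := h
      simpa using H.inv_mem this
    have hta : (t : G) • a = a := ht'
    have htga : (t : G) • ((g⁻¹ : N) • a) = (g⁻¹ : N) • a := by
      have h1 : (g * t * g⁻¹) • a = a := hgt
      rw [mul_smul, mul_smul, smul_eq_iff_eq_inv_smul] at h1
      exact h1
    have := hfix2 t t.2 a _ (Ne.symm hga) hta htga
    exact Subtype.ext this
  obtain ⟨K, hKn, hKH, hKmem⟩ := Cfsg.Agent.helper1.frobenius_kernel_exists H hTI
  -- fixed-point-free elements lie in the kernel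
  have hder : ∀ d : N, (∀ ω : Ω, d • ω ≠ ω) → d ∈ K := by
    intro d hd
    rw [hKmem]
    right
    intro g hg
    have h1 : (g⁻¹ * d * g) • a = a := hg
    rw [mul_smul, mul_smul, inv_smul_eq_iff] at h1
    exact hd _ h1
  have hKfree : ∀ k ∈ K, k ≠ 1 → ∀ ω : Ω, k • ω ≠ ω := by
    intro k hk hk1 ω hω
    rw [hKmem] at hk
    rcases hk with h | h
    · exact hk1 h
    · obtain ⟨m, hm, rfl⟩ := ht a ω
      apply h ⟨m, hm⟩
      change (_ * k * _) • a = a
      rw [mul_smul, mul_smul, inv_smul_eq_iff]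
      exact hω
  let K' : Subgroup G := K.map N.subtype
  have hK'n : K'.Normal := by
    constructor
    rintro _ ⟨k, hk, rfl⟩ g
    have hmem : g * (k : G) * g⁻¹ ∈ N := hNn.conj_mem k k.2 g
    refine ⟨⟨_, hmem⟩, ?_, rfl⟩
    by_cases hk1 : k = 1
    · have : (⟨g * (k : G) * g⁻¹, hmem⟩ : N) = 1 := by
        apply Subtype.ext
        simp [hk1]
      rw [SetLike.mem_coe, this]
      exact K.one_mem
    · apply hder
      intro ω hω
      have h1 : (g * (k : G) * g⁻¹) • ω = ω := hω
      rw [mul_smul, mul_smul, smul_eq_iff_eq_inv_smul] at h1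
      exact hKfree k hk hk1 _ h1
  have hK'le : K' ≤ N := by
    rintro _ ⟨k, _, rfl⟩
    exact k.2
  rcases hmin K' hK'n hK'le with h | h
  · -- a derangement gives a nontrivial element of the kernel
    obtain ⟨u, hu⟩ := exists_moved (Ω := Ω) hn₀1
    obtain ⟨d, hd, hdfree⟩ := exists_derangement ht (n₀ • u) u hu
    have hdK : (⟨d, hd⟩ : N) ∈ K := hder ⟨d, hd⟩ hdfree
    have : d ∈ K' := ⟨⟨d, hd⟩, hdK, rfl⟩
    rw [h, Subgroup.mem_bot] at this
    apply hdfree u
    rw [this, one_smul]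
  · have hn₀K' : n₀ ∈ K' := h ▸ hn₀
    obtain ⟨k, hk, hkn⟩ := hn₀K'
    have hkH : k ∈ H := by
      change (k : G) • a = a
      have : (k : G) = n₀ := hkn
      rw [this]; exact hn₀a
    have : k ∈ K ⊓ H := ⟨hk, hkH⟩
    rw [hKH, Subgroup.mem_bot] at this
    apply hn₀1
    rw [← hkn, this]
    rfl

end primitive

section simple

variable [Finite G] [Finite Ω] [FaithfulSMul G Ω]

/-- A regular subgroup has as many elements as there are points. -/
lemma card_eq_of_regular (S : Subgroup G) (ht : Trans S Ω) (hs : SemiReg S Ω) (a : Ω) :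
    Nat.card S = Nat.card Ω := by
  apply Nat.card_congr
  refine Equiv.ofBijective (fun s : S => (s : G) • a) ⟨?_, ?_⟩
  · intro s₁ s₂ h
    have h' : (s₁ : G) • a = (s₂ : G) • a := h
    have h1 : ((s₂ : G)⁻¹ * (s₁ : G)) • a = a := by
      rw [mul_smul, h', inv_smul_smul]
    have := hs _ (S.mul_mem (S.inv_mem s₂.2) s₁.2) a h1
    apply Subtype.ext
    exact (inv_mul_eq_one.mp this).symm
  · intro y
    obtain ⟨s, hs', h⟩ := ht a y
    exact ⟨⟨s, hs'⟩, h⟩

/-- A nontrivial normal subgroup of a primitive faithful subgroup is transitive. -/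
lemma trans_of_normal_of_isPreprimitive (N : Subgroup G) (hprim : IsPreprimitive N Ω)
    (S : Subgroup N) (hSn : S.Normal) (hS : S ≠ ⊥) : Trans (S.map N.subtype) Ω := by
  haveI := hprim
  haveI := hSn
  have hT : IsPretransitive S Ω := by
    apply IsQuasiPreprimitive.isPretransitive_of_normal
    intro h
    apply hS
    rw [eq_bot_iff]
    intro m hm
    rw [Subgroup.mem_bot]
    apply Subtype.ext
    apply eq_one_of_forall_smul (Ω := Ω)
    intro x
    have hx : x ∈ fixedPoints S Ω := h ▸ Set.mem_univ x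
    exact hx ⟨m, hm⟩
  intro x y
  obtain ⟨⟨s, hs⟩, h⟩ := hT.exists_smul_eq x y
  exact ⟨(s : G), ⟨s, hs, rfl⟩, h⟩

/-- **Burnside**: a primitive, non-semiregular minimal normal subgroup of a `2`-transitive group
is simple. -/
theorem isSimpleGroup_of_isPreprimitive (h2 : TwoT G Ω) (N : Subgroup G) [hNn : N.Normal]
    (hN : N ≠ ⊥) (hmin : ∀ M : Subgroup G, M.Normal → M ≤ N → M = ⊥ ∨ M = N)
    (hprim : IsPreprimitive N Ω) (hnr : ¬ SemiReg N Ω) : IsSimpleGroup N := by
  classical
  haveI hNnt : Nontrivial N := (Subgroup.nontrivial_iff_ne_bot N).mpr hN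
  -- a minimal normal subgroup of `N`
  have hex : ∃ k, ∃ T : Subgroup N, T.Normal ∧ T ≠ ⊥ ∧ Nat.card T = k :=
    ⟨_, ⊤, inferInstance, top_ne_bot, rfl⟩
  obtain ⟨T, hTn, hT, hTk⟩ := Nat.find_spec hex
  have hTmin : ∀ S : Subgroup N, S.Normal → S ≠ ⊥ → Nat.card T ≤ Nat.card S := by
    intro S hSn hS
    rw [hTk]
    exact Nat.find_min' hex ⟨S, hSn, hS, rfl⟩
  have hTsub : ∀ S : Subgroup N, S.Normal → S ≤ T → S = ⊥ ∨ S = T := by
    intro S hSn hST
    by_cases hS : S = ⊥
    · exact Or.inl hS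
    · exact Or.inr (Subgroup.eq_of_le_of_card_ge hST (hTmin S hSn hS))
  -- conjugates
  let φ : G → (N ≃* N) := fun g => MulAut.conjNormal g
  have hφ : ∀ (g : G) (m : N), ((φ g m : N) : G) = g * m * g⁻¹ :=
    fun g m => MulAut.conjNormal_apply g m
  let cj : G → Subgroup N := fun g => T.map (φ g).toMonoidHom
  have hcjn : ∀ g, (cj g).Normal := fun g => hTn.map _ (φ g).surjective
  have hcjcard : ∀ g, Nat.card (cj g) = Nat.card T :=
    fun g => Subgroup.card_map_of_injective (φ g).injective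
  have hcjbot : ∀ g, cj g ≠ ⊥ := by
    intro g h
    apply hT
    exact (Subgroup.map_eq_bot_iff_of_injective T (φ g).injective).mp h
  have hcjmem : ∀ (g : G) (t : N), t ∈ T → φ g t ∈ cj g := fun g t ht => ⟨t, ht, rfl⟩
  set C : Subgroup N := Subgroup.centralizer (T : Set N) with hC
  haveI := hTn
  have hCn : C.Normal := Subgroup.normal_centralizer
  -- dichotomy
  have hdich : ∀ S : Subgroup N, S.Normal → Nat.card S = Nat.card T → S = T ∨ S ≤ C := by
    intro S hSn hScard
    haveI := hSn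
    rcases hTsub (T ⊓ S) inferInstance inf_le_left with h | h
    · right
      intro s hs
      rw [hC, Subgroup.mem_centralizer_iff]
      intro t ht
      exact (Subgroup.commute_of_normal_of_disjoint T S hTn hSn (disjoint_iff.mpr h) t s ht hs).eq
    · left
      have hTS : T ≤ S := h ▸ inf_le_right
      exact (Subgroup.eq_of_le_of_card_ge hTS (le_of_eq hScard)).symm
  -- if all conjugates coincide with `T` then `T = ⊤`
  have hall : (∀ g, cj g = T) → T = ⊤ := by
    intro hcj
    let T' : Subgroup G := T.map N.subtype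
    have hT'n : T'.Normal := by
      constructor
      rintro _ ⟨t, ht, rfl⟩ g
      refine ⟨φ g t, ?_, hφ g t⟩
      rw [SetLike.mem_coe, ← hcj g]
      exact hcjmem g t ht
    have hT'le : T' ≤ N := by
      rintro _ ⟨t, _, rfl⟩
      exact t.2
    have hT'bot : T' ≠ ⊥ := by
      intro h
      apply hT
      exact (Subgroup.map_eq_bot_iff_of_injective T N.subtype_injective).mp h
    have hT'N : T' = N := (hmin T' hT'n hT'le).resolve_left hT'bot
    rw [eq_top_iff]
    intro m _
    have hmT' : (m : G) ∈ T' := by rw [hT'N]; exact m.2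
    obtain ⟨t, ht, htm⟩ := hmT'
    have : t = m := Subtype.ext htm
    exact this ▸ ht
  have hsimple_of_top : T = ⊤ → IsSimpleGroup N := by
    intro hTtop
    refine { toNontrivial := hNnt, eq_bot_or_eq_top_of_normal := ?_ }
    intro S hSn
    rcases hTsub S hSn (hTtop ▸ le_top) with h | h
    · exact Or.inl h
    · exact Or.inr (h.trans hTtop)
  by_cases hCbot : C = ⊥
  · apply hsimple_of_top
    apply hall
    intro g
    rcases hdich (cj g) (hcjn g) (hcjcard g) with h | h
    · exact h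
    · rw [hCbot, le_bot_iff] at h
      exact absurd h (hcjbot g)
  exfalso
  -- both `T` and `C` are regular
  let T' : Subgroup G := T.map N.subtype
  let C' : Subgroup G := C.map N.subtype
  have hT't : Trans T' Ω := trans_of_normal_of_isPreprimitive N hprim T hTn hT
  have hC't : Trans C' Ω := trans_of_normal_of_isPreprimitive N hprim C hCn hCbot
  have hcomm : ∀ c ∈ C', ∀ t ∈ T', c * t = t * c := by
    rintro _ ⟨c, hc, rfl⟩ _ ⟨t, ht, rfl⟩
    have := (Subgroup.mem_centralizer_iff.mp hc) t ht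
    have h := congrArg (Subtype.val) this
    simpa using h.symm
  have hT's : SemiReg T' Ω := semiReg_of_centralized T' C' hC't
    (fun t ht c hc => (hcomm c hc t ht).symm)
  have hC's : SemiReg C' Ω := semiReg_of_centralized C' T' hT't hcomm
  obtain ⟨n₁, hn₁, hn₁1⟩ := exists_ne_one_of_ne_bot hN
  obtain ⟨a, ha⟩ := exists_moved (Ω := Ω) hn₁1
  have hcardT : Nat.card T = Nat.card Ω := by
    rw [← card_eq_of_regular T' hT't hT's a]
    exact (Subgroup.card_map_of_injective N.subtype_injective).symm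
  have hcardC : Nat.card C = Nat.card Ω := by
    rw [← card_eq_of_regular C' hC't hC's a]
    exact (Subgroup.card_map_of_injective N.subtype_injective).symm
  -- `T = ⊤` is impossible
  have hTtop : T ≠ ⊤ := by
    intro hTtop
    apply hnr
    intro n hn x hx
    have : n ∈ T' := ⟨⟨n, hn⟩, hTtop ▸ Subgroup.mem_top _, rfl⟩
    exact hT's n this x hx
  -- `T ⊓ C = ⊥`
  have hTC : T ⊓ C = ⊥ := by
    haveI := hCn
    rcases hTsub (T ⊓ C) inferInstance inf_le_left with h | h
    · exact h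
    · exfalso
      have hTleC : T ≤ C := h ▸ inf_le_right
      have hTeqC : T = C :=
        Subgroup.eq_of_le_of_card_ge hTleC (by rw [hcardT, hcardC])
      apply hTtop
      apply hall
      intro g
      rcases hdich (cj g) (hcjn g) (hcjcard g) with h' | h'
      · exact h'
      · rw [← hTeqC] at h'
        exact Subgroup.eq_of_le_of_card_ge h' (by rw [hcjcard g])
  -- every conjugate is `T` or `C`
  have hcjTC : ∀ g, cj g = T ∨ cj g = C := by
    intro g
    rcases hdich (cj g) (hcjn g) (hcjcard g) with h | h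
    · exact Or.inl h
    · right
      exact Subgroup.eq_of_le_of_card_ge h (by rw [hcjcard g, hcardT, hcardC])
  -- all non-identity elements of `T` have the same order
  have hTfix : ∀ t : N, t ∈ T → (t : G) • a = a → t = 1 := by
    intro t ht hta
    apply Subtype.ext
    exact hT's (t : G) ⟨t, ht, rfl⟩ a hta
  have hCfix : ∀ c : N, c ∈ C → (c : G) • a = a → c = 1 := by
    intro c hc hca
    apply Subtype.ext
    exact hC's (c : G) ⟨c, hc, rfl⟩ a hca
  have hord : ∀ t₁ t₂ : N, t₁ ∈ T → t₂ ∈ T → t₁ ≠ 1 → t₂ ≠ 1 → orderOf t₁ = orderOf t₂ := by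
    intro t₁ t₂ ht₁ ht₂ h1 h2'
    have h1a : (t₁ : G) • a ≠ a := fun h => h1 (hTfix t₁ ht₁ h)
    have h2a : (t₂ : G) • a ≠ a := fun h => h2' (hTfix t₂ ht₂ h)
    obtain ⟨g, hga, hg12⟩ := h2 a ((t₁ : G) • a) a ((t₂ : G) • a) (Ne.symm h1a) (Ne.symm h2a)
    set s : N := φ g t₁ with hs
    have hsa : (s : G) • a = (t₂ : G) • a := by
      rw [hφ, mul_smul, mul_smul]
      have : g⁻¹ • a = a := by rw [inv_smul_eq_iff, hga]
      rw [this, hg12]
    have hso : orderOf s = orderOf t₁ := MulEquiv.orderOf_eq (φ g) t₁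
    rw [← hso]
    have hsmem : s ∈ cj g := hcjmem g t₁ ht₁
    rcases hcjTC g with h | h
    · rw [h] at hsmem
      have : t₂⁻¹ * s = 1 := by
        apply hTfix _ (T.mul_mem (T.inv_mem ht₂) hsmem)
        rw [Subgroup.coe_mul, mul_smul, hsa, Subgroup.coe_inv, inv_smul_smul]
      rw [inv_mul_eq_one.mp this]
    · rw [h] at hsmem
      have hpow : ∀ k : ℕ, ((s ^ k : N) : G) • a = ((t₂ ^ k : N) : G) • a := by
        intro k
        induction k with
        | zero => simp
        | succ k ih =>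
          have hsk : s ^ k ∈ C := C.pow_mem hsmem k
          have hcom : t₂ * s ^ k = s ^ k * t₂ := (Subgroup.mem_centralizer_iff.mp hsk) t₂ ht₂
          calc ((s ^ (k + 1) : N) : G) • a = ((s ^ k * s : N) : G) • a := by rw [pow_succ]
            _ = ((s ^ k : N) : G) • ((s : G) • a) := by rw [Subgroup.coe_mul, mul_smul]
            _ = ((s ^ k : N) : G) • ((t₂ : G) • a) := by rw [hsa]
            _ = ((s ^ k * t₂ : N) : G) • a := by rw [Subgroup.coe_mul, mul_smul]
            _ = ((t₂ * s ^ k : N) : G) • a := by rw [hcom]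
            _ = (t₂ : G) • (((s ^ k : N) : G) • a) := by rw [Subgroup.coe_mul, mul_smul]
            _ = (t₂ : G) • (((t₂ ^ k : N) : G) • a) := by rw [ih]
            _ = ((t₂ ^ (k + 1) : N) : G) • a := by
                rw [pow_succ', Subgroup.coe_mul, mul_smul]
      rw [orderOf_eq_orderOf_iff]
      intro k
      constructor
      · intro hk
        apply hTfix _ (T.pow_mem ht₂ k)
        rw [← hpow k, hk]
        simp
      · intro hk
        apply hCfix _ (C.pow_mem hsmem k)
        rw [hpow k, hk]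
        simp
  -- hence `T` is a `p`-group
  haveI hTnt : Nontrivial T := (Subgroup.nontrivial_iff_ne_bot T).mpr hT
  have hcardT1 : Nat.card T ≠ 1 := fun h => hT (Subgroup.card_eq_one.mp h)
  set p := (Nat.card T).minFac with hp
  have hpp : p.Prime := Nat.minFac_prime hcardT1
  haveI : Fact p.Prime := ⟨hpp⟩
  obtain ⟨x0, hx0⟩ := exists_prime_orderOf_dvd_card' (G := T) p (Nat.minFac_dvd _)
  have hx0' : orderOf (x0 : N) = p := by rw [Subgroup.orderOf_coe]; exact hx0
  have hx01 : (x0 : N) ≠ 1 := by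
    intro h
    rw [h, orderOf_one] at hx0'
    exact hpp.one_lt.ne hx0'
  have hpg : IsPGroup p T := by
    intro t
    refine ⟨1, ?_⟩
    rw [pow_one]
    by_cases ht1 : (t : N) = 1
    · have : t = 1 := Subtype.ext ht1
      rw [this, one_pow]
    · have := hord (t : N) (x0 : N) t.2 x0.2 ht1 hx01
      apply Subtype.ext
      rw [Subgroup.coe_pow, Subgroup.coe_one, ← hx0', ← this, pow_orderOf_eq_one]
  haveI := hpg.center_nontrivial
  obtain ⟨⟨z, hz⟩, hz1⟩ := exists_ne (1 : Subgroup.center T)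
  have hzC : (z : N) ∈ C := by
    rw [hC, Subgroup.mem_centralizer_iff]
    intro t ht
    have := (Subgroup.mem_center_iff.mp hz) ⟨t, ht⟩
    exact congrArg Subtype.val this
  have hzTC : (z : N) ∈ T ⊓ C := ⟨z.2, hzC⟩
  rw [hTC, Subgroup.mem_bot] at hzTC
  apply hz1
  apply Subtype.ext
  apply Subtype.ext
  exact hzTC

end simple

end Cfsg.Agent.helper18.B2T
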