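import Mathlib
import Cfsg.Agent.Lib_helper18_Burnside2T

set_option autoImplicit false
set_option linter.style.haveILetI false
set_option linter.unusedSectionVars false

/-! Minimal normal subgroups of solvable primitive permutation groups. -/

namespace Cfsg.Agent.helper18.SolvPrim

open MulAction Cfsg.Agent.helper18.B2T

variable {G Ω : Type*} [Group G] [MulAction G Ω]

/-- A minimal normal subgroup of a solvable group is abelian. -/
theorem comm_of_minimal_normal [Group.IsSolvable G] (M : Subgroup G) [hMn : M.Normal]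
    (hM : M ≠ ⊥) (hmin : ∀ K : Subgroup G, K.Normal → K ≤ M → K = ⊥ ∨ K = M) :
    ∀ x ∈ M, ∀ y ∈ M, x * y = y * x := by
  have hcn : (⁅M, M⁆ : Subgroup G).Normal := Subgroup.commutator_normal M M
  have hcle : ⁅M, M⁆ ≤ M := Subgroup.commutator_le_right M M
  rcases hmin _ hcn hcle with h | h
  · have hle : M ≤ Subgroup.centralizer (M : Set G) :=
      (Subgroup.commutator_eq_bot_iff_le_centralizer).mp h
    intro x hx y hy
    have := (Subgroup.mem_centralizer_iff.mp (hle hy)) x hx
    exact this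
  · exfalso
    obtain ⟨n, hn⟩ := (Group.isSolvable_def G).mp inferInstance
    have hall : ∀ k, M ≤ derivedSeries G k := by
      intro k
      induction k with
      | zero => exact le_top
      | succ k ih =>
        rw [derivedSeries_succ]
        calc M = ⁅M, M⁆ := h.symm
          _ ≤ ⁅derivedSeries G k, derivedSeries G k⁆ := Subgroup.commutator_mono ih ih
    apply hM
    rw [eq_bot_iff, ← hn]
    exact hall n

/-- A nontrivial normal subgroup of a primitive faithful group is transitive. -/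
theorem trans_of_normal_prim [FaithfulSMul G Ω] (hprim : IsPreprimitive G Ω) (M : Subgroup G)
    [hMn : M.Normal] (hM : M ≠ ⊥) : Trans M Ω := by
  haveI := hprim
  have hT : IsPretransitive M Ω := by
    apply IsQuasiPreprimitive.isPretransitive_of_normal
    intro h
    apply hM
    rw [eq_bot_iff]
    intro m hm
    rw [Subgroup.mem_bot]
    apply eq_one_of_forall_smul (Ω := Ω)
    intro x
    have hx : x ∈ fixedPoints M Ω := h ▸ Set.mem_univ x
    exact hx ⟨m, hm⟩
  intro x y
  obtain ⟨⟨s, hs⟩, h⟩ := hT.exists_smul_eq x y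
  exact ⟨s, hs, h⟩

/-- An abelian minimal normal subgroup has prime exponent. -/
theorem exists_prime_exponent [Finite G] (M : Subgroup G) [hMn : M.Normal]
    (hM : M ≠ ⊥) (hmin : ∀ K : Subgroup G, K.Normal → K ≤ M → K = ⊥ ∨ K = M)
    (hc : ∀ x ∈ M, ∀ y ∈ M, x * y = y * x) :
    ∃ p : ℕ, p.Prime ∧ ∀ m ∈ M, m ^ p = 1 := by
  classical
  have hcard : Nat.card M ≠ 1 := fun h => hM (Subgroup.card_eq_one.mp h)
  set p := (Nat.card M).minFac with hp
  have hpp : p.Prime := Nat.minFac_prime hcard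
  haveI : Fact p.Prime := ⟨hpp⟩
  obtain ⟨x0, hx0⟩ := exists_prime_orderOf_dvd_card' (G := M) p (Nat.minFac_dvd _)
  have hx0' : orderOf (x0 : G) = p := by rw [Subgroup.orderOf_coe]; exact hx0
  let K : Subgroup G :=
    { carrier := {m | m ∈ M ∧ m ^ p = 1}
      mul_mem' := by
        rintro a b ⟨ha, hap⟩ ⟨hb, hbp⟩
        refine ⟨M.mul_mem ha hb, ?_⟩
        have hcom : Commute a b := hc a ha b hb
        rw [hcom.mul_pow, hap, hbp, one_mul]
      one_mem' := ⟨M.one_mem, one_pow p⟩
      inv_mem' := by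
        rintro a ⟨ha, hap⟩
        exact ⟨M.inv_mem ha, by rw [inv_pow, hap, inv_one]⟩ }
  have hKn : K.Normal := by
    constructor
    rintro m ⟨hm, hmp⟩ g
    exact ⟨hMn.conj_mem m hm g, by rw [conj_pow, hmp, mul_one, mul_inv_cancel]⟩
  have hKle : K ≤ M := fun m hm => hm.1
  have hKbot : K ≠ ⊥ := by
    intro h
    have hx0K : (x0 : G) ∈ K := ⟨x0.2, by rw [← hx0', pow_orderOf_eq_one]⟩
    rw [h, Subgroup.mem_bot] at hx0K
    rw [hx0K, orderOf_one] at hx0'
    exact hpp.one_lt.ne hx0'
  have hKM : K = M := (hmin K hKn hKle).resolve_left hKbot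
  refine ⟨p, hpp, fun m hm => ?_⟩
  have : m ∈ K := hKM ▸ hm
  exact this.2

/-- Structure of a minimal normal subgroup of a solvable primitive group. -/
theorem solvable_primitive_core [Finite G] [Group.IsSolvable G] [FaithfulSMul G Ω]
    (hprim : IsPreprimitive G Ω) (M : Subgroup G) [hMn : M.Normal]
    (hM : M ≠ ⊥) (hmin : ∀ K : Subgroup G, K.Normal → K ≤ M → K = ⊥ ∨ K = M) :
    (∀ x ∈ M, ∀ y ∈ M, x * y = y * x) ∧ Trans M Ω ∧ SemiReg M Ω ∧
      ∃ p d : ℕ, p.Prime ∧ 0 < d ∧ Nat.card M = p ^ d := by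
  have hc := comm_of_minimal_normal M hM hmin
  have ht := trans_of_normal_prim hprim M hM
  have hs := semiReg_of_comm M ht hc
  refine ⟨hc, ht, hs, ?_⟩
  obtain ⟨p, hpp, hexp⟩ := exists_prime_exponent M hM hmin hc
  haveI : Fact p.Prime := ⟨hpp⟩
  have hpg : IsPGroup p M := by
    intro m
    refine ⟨1, ?_⟩
    rw [pow_one]
    apply Subtype.ext
    rw [Subgroup.coe_pow]
    exact hexp m m.2
  obtain ⟨d, hd⟩ := (IsPGroup.iff_card).mp hpg
  refine ⟨p, d, hpp, ?_, hd⟩
  rcases Nat.eq_zero_or_pos d with h0 | h0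
  · exfalso
    rw [h0, pow_zero] at hd
    exact hM (Subgroup.card_eq_one.mp hd)
  · exact h0

end Cfsg.Agent.helper18.SolvPrim
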