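import Mathlib
import Cfsg.Agent.Lib_helper24_Char
import Cfsg.Agent.Lib_helper1_RepBridge

set_option autoImplicit false
set_option linter.style.haveILetI false
set_option linter.unusedSectionVars false
set_option linter.unusedVariables false

namespace Cfsg.Agent.helper1

open scoped ComplexConjugate
open Polynomial Cfsg.Agent.helper24

universe u
variable {G : Type u} [Group G]

/-- unit-norm numbers whose sum has norm equal to their number are all equal -/
theorem multiset_all_eq_of_norm_sum (s : Multiset ℂ) (h1 : ∀ μ ∈ s, ‖μ‖ = 1)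
    (hs0 : Multiset.card s ≠ 0)
    (hsum : ‖s.sum‖ = (Multiset.card s : ℝ)) :
    ∀ μ ∈ s, μ = s.sum / (Multiset.card s : ℂ) := by
  set n := Multiset.card s with hn
  have hnC : (n : ℂ) ≠ 0 := Nat.cast_ne_zero.mpr hs0
  set ω : ℂ := s.sum / (n : ℂ) with hω
  have hωnorm : ‖ω‖ = 1 := by
    rw [hω, norm_div, hsum, Complex.norm_natCast]
    have : (n : ℝ) ≠ 0 := Nat.cast_ne_zero.mpr hs0
    field_simp
  have hωne : ω ≠ 0 := by
    intro h; rw [h] at hωnorm; simp at hωnorm
  have hωconj : ω * conj ω = 1 := by
    rw [Complex.mul_conj, Complex.normSq_eq_norm_sq, hωnorm]; simp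
  let t : Multiset ℂ := s.map (fun μ => μ * conj ω)
  have ht1 : ∀ ν ∈ t, ‖ν‖ = 1 := by
    intro ν hν
    obtain ⟨μ, hμ, rfl⟩ := Multiset.mem_map.mp hν
    rw [norm_mul, h1 μ hμ, Complex.norm_conj, hωnorm, mul_one]
  have htsum : t.sum = (Multiset.card t : ℂ) := by
    simp only [t, Multiset.sum_map_mul_right, Multiset.map_id', Multiset.card_map]
    have : s.sum = ω * (n : ℂ) := by rw [hω]; field_simp
    rw [this, mul_comm ω, mul_assoc, hωconj, mul_one]
  have hall := multiset_all_eq_one_of_sum t ht1 htsum
  intro μ hμ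
  have := hall (μ * conj ω) (Multiset.mem_map.mpr ⟨μ, hμ, rfl⟩)
  calc μ = μ * (conj ω * ω) := by rw [mul_comm (conj ω), hωconj, mul_one]
    _ = (μ * conj ω) * ω := by ring
    _ = ω := by rw [this, one_mul]

/-- If the character value at `g` has absolute value the degree, then `g` acts as a scalar. -/
theorem rep_scalar_of_norm_char_eq [Finite G] {n : ℕ} (ρ : Representation ℂ G (Fin n → ℂ)) (g : G)
    (hg : ‖ρ.character g‖ = n) : ∃ ω : ℂ, ρ g = ω • LinearMap.id := by
  by_cases hn0 : n = 0
  · subst hn0
    refine ⟨0, ?_⟩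
    apply LinearMap.ext
    intro v
    exact Subsingleton.elim _ _
  have hpos : 0 < orderOf g := orderOf_pos g
  set s := (repMatrix ρ g).charpoly.roots with hs
  have hcard : Multiset.card s = n := by
    rw [hs, IsAlgClosed.card_roots_eq_natDegree, Matrix.charpoly_natDegree_eq_dim, Fintype.card_fin]
  have hsum : ρ.character g = s.sum := by
    rw [← repMatrix_trace, Matrix.trace_eq_sum_roots_charpoly]
  set ω : ℂ := s.sum / (n : ℂ) with hω
  have hroots : ∀ μ ∈ s, μ = ω := by
    have := multiset_all_eq_of_norm_sum s (by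
      intro μ hμ
      apply Complex.norm_eq_one_of_pow_eq_one _ hpos.ne'
      apply root_pow_eq_one_of_matrix_pow_eq_one (repMatrix ρ g) _ hμ
      rw [← map_pow, pow_orderOf_eq_one, map_one]) (by rw [hcard]; exact hn0)
      (by rw [← hsum, hg, hcard])
    rw [hcard] at this
    exact this
  have hss : Module.End.IsSemisimple (ρ g) := by
    apply Module.End.isSemisimple_of_squarefree_aeval_eq_zero
      (p := (X ^ orderOf g - 1 : ℂ[X]))
    · apply Polynomial.Separable.squarefree
      exact Polynomial.separable_X_pow_sub_C 1 (by exact_mod_cast hpos.ne') one_ne_zero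
    · simp only [map_sub, map_pow, aeval_X, map_one]
      rw [← map_pow, pow_orderOf_eq_one, map_one, sub_self]
  have htop := hss.iSup_eigenspace_eq_top
  have h1 : Module.End.eigenspace (ρ g) ω = ⊤ := by
    rw [← htop]
    apply le_antisymm
    · exact le_iSup (fun μ => Module.End.eigenspace (ρ g) μ) ω
    · apply iSup_le
      intro μ
      by_cases hμ : μ = ω
      · rw [hμ]
      · have : Module.End.eigenspace (ρ g) μ = ⊥ := by
          by_contra hne
          have hev : Module.End.HasEigenvalue (ρ g) μ := hne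
          rw [Module.End.hasEigenvalue_iff_isRoot_charpoly] at hev
          apply hμ
          apply hroots
          rw [hs, mem_roots']
          refine ⟨?_, ?_⟩
          · exact (Matrix.charpoly_monic _).ne_zero
          · have : (ρ g).charpoly = (repMatrix ρ g).charpoly := by
              rw [← LinearMap.charpoly_toMatrix (ρ g) (Pi.basisFun ℂ (Fin n))]
              rfl
            rw [← this]; exact hev
        rw [this]; exact bot_le
  refine ⟨ω, ?_⟩
  apply LinearMap.ext
  intro v
  have : v ∈ Module.End.eigenspace (ρ g) ω := by rw [h1]; trivial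
  rw [Module.End.mem_eigenspace_iff] at this
  simpa using this

/-- Conversely a scalar action gives a character value of absolute value the degree. -/
theorem rep_norm_char_of_scalar [Finite G] {n : ℕ} (ρ : Representation ℂ G (Fin n → ℂ)) (g : G)
    (ω : ℂ) (hg : ρ g = ω • LinearMap.id) : ‖ρ.character g‖ = n := by
  by_cases hn0 : n = 0
  · subst hn0
    rw [Representation.character, hg]
    simp
  have hpos : 0 < orderOf g := orderOf_pos g
  have hpow : ω ^ orderOf g = 1 := by
    have h1 : (ρ g) ^ orderOf g = 1 := by rw [← map_pow, pow_orderOf_eq_one, map_one]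
    rw [hg] at h1
    have h2 : (ω • (LinearMap.id : (Fin n → ℂ) →ₗ[ℂ] (Fin n → ℂ))) ^ orderOf g
        = (ω ^ orderOf g) • LinearMap.id := by
      rw [_root_.smul_pow]
      congr 1
      exact one_pow _
    rw [h2] at h1
    have hne : Nonempty (Fin n) := ⟨⟨0, Nat.pos_of_ne_zero hn0⟩⟩
    obtain ⟨i⟩ := hne
    have h3 := congrArg (fun f : (Fin n → ℂ) →ₗ[ℂ] (Fin n → ℂ) => f (fun _ => 1) i) h1
    simpa using h3
  have hωnorm : ‖ω‖ = 1 := Complex.norm_eq_one_of_pow_eq_one hpow hpos.ne'
  rw [Representation.character, hg]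
  simp [hωnorm]

end Cfsg.Agent.helper1
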