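import Mathlib

set_option autoImplicit false
set_option linter.style.haveILetI false
set_option linter.unusedSectionVars false
set_option linter.unusedVariables false

namespace Cfsg.Agent.helper1

open IntermediateField

/-- a multiset of `m`-th roots of unity is the image of a multiset of exponents -/
theorem exists_exponents (m : ℕ) (hm : m ≠ 0) (ζ : ℂ) (hζ : IsPrimitiveRoot ζ m)
    (s : Multiset ℂ) (hs : ∀ μ ∈ s, μ ^ m = 1) :
    ∃ e : Multiset ℕ, s = e.map (fun i => ζ ^ i) := by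
  haveI : NeZero m := ⟨hm⟩
  induction s using Multiset.induction_on with
  | empty => exact ⟨0, by simp⟩
  | cons a s ih =>
    obtain ⟨e, he⟩ := ih (fun μ hμ => hs μ (Multiset.mem_cons_of_mem hμ))
    obtain ⟨i, _, hi⟩ := hζ.eq_pow_of_pow_eq_one (hs a (Multiset.mem_cons_self a s))
    exact ⟨i ::ₘ e, by rw [Multiset.map_cons, hi, he]⟩

/-- An algebraic integer which is an average of roots of unity is zero or has absolute value one. -/
theorem avg_roots_of_unity_dichotomy (s : Multiset ℂ) (m : ℕ) (hm : m ≠ 0)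
    (hs : ∀ μ ∈ s, μ ^ m = 1) (n : ℕ) (hn : Multiset.card s = n) (hn0 : n ≠ 0)
    (hint : IsIntegral ℤ (s.sum / (n : ℂ))) : s.sum = 0 ∨ ‖s.sum‖ = n := by
  classical
  set ζ : ℂ := Complex.exp (2 * Real.pi * Complex.I / m) with hζdef
  have hζ : IsPrimitiveRoot ζ m := Complex.isPrimitiveRoot_exp m hm
  obtain ⟨e, he⟩ := exists_exponents m hm ζ hζ s hs
  have hecard : Multiset.card e = n := by rw [← hn, he, Multiset.card_map]
  have hζint : IsIntegral ℚ ζ := by
    refine ⟨Polynomial.X ^ m - 1, Polynomial.monic_X_pow_sub_C 1 hm, ?_⟩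
    simp [hζ.pow_eq_one]
  let K : IntermediateField ℚ ℂ := ℚ⟮ζ⟯
  haveI : FiniteDimensional ℚ K := adjoin.finiteDimensional hζint
  haveI : NumberField K := { to_charZero := inferInstance, to_finiteDimensional := inferInstance }
  have hζK : ζ ∈ K := mem_adjoin_simple_self ℚ ζ
  let ζK : K := ⟨ζ, hζK⟩
  let x : K := (n : K)⁻¹ * (e.map (fun i => ζK ^ i)).sum
  have hnC : (n : ℂ) ≠ 0 := Nat.cast_ne_zero.mpr hn0
  -- evaluation of embeddings on x
  have hσx : ∀ σ : K →ₐ[ℚ] ℂ, σ x = (n : ℂ)⁻¹ * (e.map (fun i => (σ ζK) ^ i)).sum := by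
    intro σ
    simp only [x, map_mul, map_inv₀, map_natCast, map_multiset_sum, Multiset.map_map,
      Function.comp_def, map_pow]
  have hσζ : ∀ σ : K →ₐ[ℚ] ℂ, (σ ζK) ^ m = 1 := by
    intro σ
    rw [← map_pow]
    have : ζK ^ m = 1 := by
      apply Subtype.ext
      simp [ζK, hζ.pow_eq_one]
    rw [this, map_one]
  have hnorm_le : ∀ σ : K →ₐ[ℚ] ℂ, ‖σ x‖ ≤ 1 := by
    intro σ
    rw [hσx, norm_mul, norm_inv, Complex.norm_natCast]
    have h1 : ‖(e.map (fun i => (σ ζK) ^ i)).sum‖ ≤ n := by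
      calc ‖(e.map (fun i => (σ ζK) ^ i)).sum‖
          ≤ ((e.map (fun i => (σ ζK) ^ i)).map (fun μ => ‖μ‖)).sum := norm_multiset_sum_le _
        _ = (e.map (fun _ => (1 : ℝ))).sum := by
            rw [Multiset.map_map]
            congr 1
            apply Multiset.map_congr rfl
            intro i _
            simp only [Function.comp_apply]
            apply Complex.norm_eq_one_of_pow_eq_one (n := m) _ hm
            rw [← pow_mul, mul_comm, pow_mul, hσζ, one_pow]
        _ = n := by simp [hecard]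
    have hnpos : (0 : ℝ) < n := Nat.cast_pos.mpr (Nat.pos_of_ne_zero hn0)
    rw [inv_mul_le_iff₀ hnpos, mul_one]
    exact h1
  -- the inclusion embedding
  let ι : K →ₐ[ℚ] ℂ := K.val
  have hιx : ι x = s.sum / (n : ℂ) := by
    rw [hσx ι, he, div_eq_inv_mul]
    rfl
  -- integrality of x
  have hxint : IsIntegral ℤ x := by
    have h1 : IsIntegral ℤ (algebraMap K ℂ x) := by
      have : algebraMap K ℂ x = ι x := rfl
      rw [this, hιx]; exact hint
    exact (isIntegral_algebraMap_iff (algebraMap K ℂ).injective).mp h1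
  have hNint : IsIntegral ℤ (Algebra.norm ℚ x) := Algebra.isIntegral_norm ℚ hxint
  obtain ⟨z, hz⟩ := IsIntegrallyClosed.isIntegral_iff.mp hNint
  have hprod := Algebra.norm_eq_prod_embeddings ℚ ℂ x
  have hprodnorm : ‖(algebraMap ℚ ℂ) (Algebra.norm ℚ x)‖ ≤ ‖ι x‖ := by
    rw [hprod, ← Finset.mul_prod_erase Finset.univ _ (Finset.mem_univ ι), norm_mul, norm_prod]
    have : ∏ σ ∈ Finset.univ.erase ι, ‖σ x‖ ≤ 1 :=
      Finset.prod_le_one (fun σ _ => norm_nonneg _) (fun σ _ => hnorm_le σ)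
    calc ‖ι x‖ * ∏ σ ∈ Finset.univ.erase ι, ‖σ x‖ ≤ ‖ι x‖ * 1 :=
          mul_le_mul_of_nonneg_left this (norm_nonneg _)
      _ = ‖ι x‖ := mul_one _
  by_cases hlt : ‖ι x‖ < 1
  · left
    have hz0 : z = 0 := by
      have h1 : ‖((z : ℚ) : ℂ)‖ < 1 := by
        have : (algebraMap ℚ ℂ) (Algebra.norm ℚ x) = ((z : ℚ) : ℂ) := by
          rw [← hz]; rfl
        rw [← this]
        exact lt_of_le_of_lt hprodnorm hlt
      have h2 : ‖((z : ℚ) : ℂ)‖ = |(z : ℝ)| := by
        rw [show ((z : ℚ) : ℂ) = ((z : ℝ) : ℂ) by push_cast; rfl, Complex.norm_real, Real.norm_eq_abs]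
      rw [h2] at h1
      have h3 : |z| < 1 := by exact_mod_cast h1
      exact Int.abs_lt_one_iff.mp h3
    have hN0 : Algebra.norm ℚ x = 0 := by rw [← hz, hz0]; simp
    have hx0 : x = 0 := Algebra.norm_eq_zero_iff.mp hN0
    have : ι x = 0 := by rw [hx0, map_zero]
    rw [hιx, div_eq_zero_iff] at this
    exact this.resolve_right hnC
  · right
    have h1 : ‖ι x‖ = 1 := le_antisymm (hnorm_le ι) (not_lt.mp hlt)
    rw [hιx, norm_div, Complex.norm_natCast] at h1
    have hnpos : (0 : ℝ) < n := Nat.cast_pos.mpr (Nat.pos_of_ne_zero hn0)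
    field_simp at h1
    linarith

end Cfsg.Agent.helper1
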