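import Cfsg.Statements.S0141
import Mathlib
import Cfsg.Agent.Lib_helper24_Char
import Cfsg.Agent.Lib_helper1_RepBridge

set_option autoImplicit false
set_option linter.style.haveILetI false
set_option linter.unusedVariables false
open Cfsg

namespace Cfsg.Agent.S0141

/-- For an irreducible complex representation of a finite group and an element g, the size of the class of g times the character value at g, divided by the degree, is an algebraic integer. -/
theorem result {G : Type*} [Group G] [Finite G] {V : Type*} [AddCommGroup V] [Module ℂ V] [FiniteDimensional ℂ V] (ρ : Representation ℂ G V) [ρ.IsIrreducible] (g : G) : IsIntegral ℤ (((Subgroup.centralizer ({g} : Set G)).index : ℂ) * ρ.character g / (Module.finrank ℂ V : ℂ)) := by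
  classical
  haveI := Fintype.ofFinite G
  have hirr := Cfsg.Agent.helper1.isIrrCharacter_character ρ inferInstance
  set χ := ρ.character with hχ
  let f : G → ℤ := fun x => if IsConj x g⁻¹ then 1 else 0
  have hf : Cfsg.IsClassFunction G (fun x => (f x : ℂ)) := by
    rw [Cfsg.Agent.helper24.isClassFunction_iff_isConj]
    intro a b hab
    simp only [f]
    by_cases hb : IsConj b g⁻¹
    · rw [if_pos hb, if_pos (hab.trans hb)]
    · rw [if_neg hb, if_neg (fun ha => hb (hab.symm.trans ha))]
  have h1 := Cfsg.Agent.helper24.irr_central_isIntegral hirr f hf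
  have hcf : Cfsg.IsClassFunction G (fun x => χ x⁻¹) := by
    intro a b
    simp only
    rw [mul_inv_rev, mul_inv_rev, inv_inv, ← mul_assoc]
    exact Cfsg.Agent.helper24.char_isClassFunction (Cfsg.Agent.helper24.irr_isCharacter hirr) a⁻¹ b
  have h2 : ∑ x : G, (f x : ℂ) * χ x⁻¹
      = (Nat.card {x : G // IsConj x g⁻¹} : ℂ) * χ g := by
    have := Cfsg.Agent.helper24.sum_indicator_conj hcf g⁻¹
    simp only [inv_inv] at this
    rw [← this]
    refine Finset.sum_congr rfl (fun x _ => ?_)
    simp only [f]
    split_ifs <;> simp
  have h3 : Subgroup.centralizer ({g⁻¹} : Set G) = Subgroup.centralizer ({g} : Set G) := by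
    ext x
    simp only [Subgroup.mem_centralizer_iff, Set.mem_singleton_iff, forall_eq]
    constructor
    · intro h
      have : x * g⁻¹ = g⁻¹ * x := h.symm
      calc g * x = g * (x * g⁻¹) * g := by group
        _ = g * (g⁻¹ * x) * g := by rw [this]
        _ = x * g := by group
    · intro h
      calc g⁻¹ * x = g⁻¹ * (x * g) * g⁻¹ := by group
        _ = g⁻¹ * (g * x) * g⁻¹ := by rw [h]
        _ = x * g⁻¹ := by group
  rw [h2, Cfsg.Agent.helper24.card_conj_eq_index, h3] at h1
  have h4 : χ 1 = (Module.finrank ℂ V : ℂ) := by simp [hχ]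
  rw [h4] at h1
  exact h1

end Cfsg.Agent.S0141
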