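import Cfsg.Statements.S0142
import Mathlib
import Cfsg.Agent.Lib_helper24_Char
import Cfsg.Agent.Lib_helper1_RepBridge
import Cfsg.Agent.Lib_helper1_AvgRoots
import Cfsg.Agent.S0141

set_option autoImplicit false
set_option linter.style.haveILetI false
set_option linter.unusedVariables false
open Cfsg

namespace Cfsg.Agent.S0142

/-- If the degree of an irreducible complex representation of a finite group is coprime to the size of the conjugacy class of g, then the character at g is zero or has absolute value equal to the degree. -/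
theorem result {G : Type*} [Group G] [Finite G] {V : Type*} [AddCommGroup V] [Module ℂ V] [FiniteDimensional ℂ V] (ρ : Representation ℂ G V) [ρ.IsIrreducible] (g : G) (hcop : Nat.Coprime (Module.finrank ℂ V) (Subgroup.centralizer ({g} : Set G)).index) : ρ.character g = 0 ∨ ‖ρ.character g‖ = (Module.finrank ℂ V : ℝ) := by
  classical
  have hirr := Cfsg.Agent.helper1.isIrrCharacter_character ρ inferInstance
  obtain ⟨d, hd0, hd⟩ := Cfsg.Agent.helper24.irr_apply_one hirr
  have hdn : d = Module.finrank ℂ V := by
    have : (d : ℂ) = (Module.finrank ℂ V : ℂ) := by rw [← hd]; simp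
    exact_mod_cast this
  set n := Module.finrank ℂ V with hn
  have hn0 : n ≠ 0 := by rw [← hdn]; exact hd0.ne'
  set k := (Subgroup.centralizer ({g} : Set G)).index with hk
  obtain ⟨s, hcard, hs, hsum⟩ := Cfsg.Agent.helper24.rep_char_eq_sum_roots (Cfsg.Agent.helper1.finRep ρ) g
  rw [Cfsg.Agent.helper1.finRep_character] at hsum
  have hχint : IsIntegral ℤ (ρ.character g) :=
    Cfsg.Agent.helper24.char_isIntegral (Cfsg.Agent.helper1.isCharacter_character ρ) g
  have h141 := Cfsg.Agent.S0141.result ρ g
  have hcop' : IsCoprime (n : ℤ) (k : ℤ) := Nat.isCoprime_iff_coprime.mpr hcop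
  obtain ⟨a, b, hab⟩ := hcop'
  have hnC : (n : ℂ) ≠ 0 := Nat.cast_ne_zero.mpr hn0
  have hkey : ρ.character g / (n : ℂ)
      = (a : ℂ) * ρ.character g + (b : ℂ) * ((k : ℂ) * ρ.character g / (n : ℂ)) := by
    have habC : (a : ℂ) * (n : ℂ) + (b : ℂ) * (k : ℂ) = 1 := by exact_mod_cast hab
    field_simp
    linear_combination (-(ρ.character g)) * habC
  have hint : IsIntegral ℤ (s.sum / (n : ℂ)) := by
    rw [← hsum, hkey]
    apply IsIntegral.add
    · exact IsIntegral.mul isIntegral_algebraMap hχint
    · exact IsIntegral.mul isIntegral_algebraMap h141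
  have := Cfsg.Agent.helper1.avg_roots_of_unity_dichotomy s (orderOf g) (orderOf_pos g).ne' hs n hcard hn0 hint
  rw [← hsum] at this
  exact this

end Cfsg.Agent.S0142
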