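import Mathlib
import Cfsg.Agent.Lib_helper24_Char
import Cfsg.Agent.Lib_helper23_Linear
import Cfsg.Agent.Lib_helper23_Integral
import Cfsg.Agent.Lib_helper1_Scalar
import Cfsg.Agent.S0142

set_option autoImplicit false
set_option linter.style.haveILetI false
set_option linter.unusedSectionVars false
set_option linter.unusedVariables false

namespace Cfsg.Agent.helper1

open scoped ComplexConjugate
open Cfsg.Agent.helper24

universe u
variable {G : Type u} [Group G]

/-- In a non-commutative simple group every linear character is trivial. -/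
theorem linear_char_trivial_of_simple [IsSimpleGroup G] (hnc : ¬ ∀ a b : G, a * b = b * a)
    {χ : G → ℂ} (hχ : Cfsg.IsCharacter G χ) (h1 : χ 1 = 1) : ∀ x, χ x = 1 := by
  have hmul := Cfsg.Agent.helper23.linear_char_mul hχ h1
  have hinv : ∀ x, χ x * χ x⁻¹ = 1 := fun x => by rw [← hmul, mul_inv_cancel, h1]
  let K : Subgroup G :=
    { carrier := {x | χ x = 1}
      one_mem' := h1
      mul_mem' := by
        intro a b ha hb
        change χ (a * b) = 1
        rw [hmul, ha, hb, one_mul]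
      inv_mem' := by
        intro a ha
        change χ a⁻¹ = 1
        have := hinv a
        rw [ha, one_mul] at this
        exact this }
  have hKn : K.Normal := by
    constructor
    intro x hx g
    change χ (g * x * g⁻¹) = 1
    have hx' : χ x = 1 := hx
    rw [hmul, hmul, hx', mul_one, hinv]
  rcases hKn.eq_bot_or_eq_top with h | h
  · exfalso
    apply hnc
    intro a b
    have : a * b * a⁻¹ * b⁻¹ ∈ K := by
      change χ (a * b * a⁻¹ * b⁻¹) = 1
      rw [hmul, hmul, hmul]
      calc χ a * χ b * χ a⁻¹ * χ b⁻¹ = (χ a * χ a⁻¹) * (χ b * χ b⁻¹) := by ring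
        _ = 1 := by rw [hinv, hinv, one_mul]
    rw [h, Subgroup.mem_bot] at this
    calc a * b = (a * b * a⁻¹ * b⁻¹) * (b * a) := by group
      _ = b * a := by rw [this, one_mul]
  · intro x
    have : x ∈ K := by rw [h]; trivial
    exact this

/-- The elements acting as scalars form a normal subgroup. -/
def scalarSubgroup {n : ℕ} (ρ : Representation ℂ G (Fin n → ℂ)) : Subgroup G where
  carrier := {x | ∃ ω : ℂ, ρ x = ω • LinearMap.id}
  one_mem' := ⟨1, by rw [map_one, one_smul]; rfl⟩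
  mul_mem' := by
    rintro a b ⟨ω, hω⟩ ⟨ω', hω'⟩
    refine ⟨ω * ω', ?_⟩
    rw [map_mul, hω, hω']
    ext v i
    simp [mul_smul]
    ring
  inv_mem' := by
    rintro a ⟨ω, hω⟩
    have h1 : ρ a * ρ a⁻¹ = 1 := by rw [← map_mul, mul_inv_cancel, map_one]
    rw [hω] at h1
    by_cases hω0 : ω = 0
    · refine ⟨0, ?_⟩
      rw [hω0, zero_smul, zero_mul] at h1
      have : ρ a⁻¹ = ρ a⁻¹ * 1 := (mul_one _).symm
      rw [this, ← h1, mul_zero, zero_smul]
    · refine ⟨ω⁻¹, ?_⟩
      have h2 : ω • ρ a⁻¹ = 1 := by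
        rw [← h1]
        ext v i
        simp
      calc ρ a⁻¹ = ω⁻¹ • (ω • ρ a⁻¹) := by rw [smul_smul, inv_mul_cancel₀ hω0, one_smul]
        _ = ω⁻¹ • LinearMap.id := by rw [h2]; rfl

theorem mem_scalarSubgroup {n : ℕ} (ρ : Representation ℂ G (Fin n → ℂ)) (x : G) :
    x ∈ scalarSubgroup ρ ↔ ∃ ω : ℂ, ρ x = ω • LinearMap.id := Iff.rfl

theorem scalarSubgroup_normal {n : ℕ} (ρ : Representation ℂ G (Fin n → ℂ)) :
    (scalarSubgroup ρ).Normal := by
  constructor
  rintro x ⟨ω, hω⟩ g
  refine ⟨ω, ?_⟩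
  rw [map_mul, map_mul, hω]
  have h1 : ρ g * ρ g⁻¹ = 1 := by rw [← map_mul, mul_inv_cancel, map_one]
  calc ρ g * ω • LinearMap.id * ρ g⁻¹ = ω • (ρ g * ρ g⁻¹) := by
        ext v i
        simp
    _ = ω • LinearMap.id := by rw [h1]; rfl

/-- An irreducible representation all of whose operators are scalars has degree one. -/
theorem dim_one_of_all_scalar {n : ℕ} (ρ : Representation ℂ G (Fin n → ℂ)) (hρ : ρ.IsIrreducible)
    (hall : ∀ x : G, ∃ ω : ℂ, ρ x = ω • LinearMap.id) : n = 1 := by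
  have hn0 : 0 < n := by
    obtain ⟨d, hd0, hd⟩ := irr_apply_one (χ := ρ.character) ⟨n, ρ, hρ, rfl⟩
    have : (d : ℂ) = n := by rw [← hd]; simp
    have : d = n := by exact_mod_cast this
    omega
  let σ : Representation ℂ ℂˣ (Fin n → ℂ) :=
    ((algebraMap ℂ (Module.End ℂ (Fin n → ℂ))) : ℂ →* Module.End ℂ (Fin n → ℂ)).comp (Units.coeHom ℂ)
  have hσ : ∀ c : ℂˣ, σ c = (c : ℂ) • LinearMap.id := by
    intro c
    change algebraMap ℂ (Module.End ℂ (Fin n → ℂ)) (c : ℂ) = _
    rw [Algebra.algebraMap_eq_smul_one]; rfl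
  have hirr : σ.IsIrreducible := by
    apply irreducible_of_range_le σ ρ _ hρ
    intro x
    obtain ⟨ω, hω⟩ := hall x
    have hω0 : ω ≠ 0 := by
      intro h0
      rw [h0, zero_smul] at hω
      have h1 : ρ x⁻¹ * ρ x = 1 := by rw [← map_mul, inv_mul_cancel, map_one]
      rw [hω, mul_zero] at h1
      have h2 := congrArg (fun f : Module.End ℂ (Fin n → ℂ) => f (fun _ => 1) ⟨0, hn0⟩) h1
      simp at h2
    exact ⟨Units.mk0 ω hω0, by rw [hσ, hω]; rfl⟩
  have := Representation.IsIrreducible.finrank_eq_one_of_isMulCommutative σ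
  rwa [Module.finrank_fin_fun] at this

end Cfsg.Agent.helper1
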