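import Cfsg.Statements.S0143
import Mathlib
import Cfsg.Agent.Lib_helper1_Burnside

set_option autoImplicit false
set_option linter.style.haveILetI false
set_option linter.unusedVariables false
open Cfsg

namespace Cfsg.Agent.S0143


open scoped ComplexConjugate in
open Cfsg.Agent.helper24 Cfsg.Agent.helper1 in
/-- Burnside: a non-commutative finite simple group has no non-identity element with class of
prime power size. -/
theorem no_prime_power_class {G : Type*} [Group G] [Finite G] [IsSimpleGroup G]
    (hnc : ¬ ∀ a b : G, a * b = b * a) (p k : ℕ) (hp : p.Prime) (g : G) (hg : g ≠ 1)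
    (hclass : (Subgroup.centralizer ({g} : Set G)).index = p ^ k) : False := by
  classical
  haveI : Finite (Cfsg.IrrCharacter G) := irr_finite
  haveI := Fintype.ofFinite (Cfsg.IrrCharacter G)
  -- k ≠ 0
  have hk : k ≠ 0 := by
    intro hk0
    rw [hk0, pow_zero, Subgroup.index_eq_one] at hclass
    have hgc : g ∈ Subgroup.center G := by
      rw [Subgroup.mem_center_iff]
      intro x
      have : x ∈ Subgroup.centralizer ({g} : Set G) := by rw [hclass]; trivial
      rw [Subgroup.mem_centralizer_iff] at this
      exact (this g rfl).symm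
    rcases (inferInstance : (Subgroup.center G).Normal).eq_bot_or_eq_top with h | h
    · rw [h, Subgroup.mem_bot] at hgc
      exact hg hgc
    · apply hnc
      intro a b
      have : a ∈ Subgroup.center G := by rw [h]; trivial
      rw [Subgroup.mem_center_iff] at this
      exact (this b).symm
  -- vanishing
  have hvanish : ∀ χ : Cfsg.IrrCharacter G, χ ≠ irrOne G →
      ¬ p ∣ Cfsg.charDegree (χ : G → ℂ) → (χ : G → ℂ) g = 0 := by
    intro χ hχ1 hpd
    obtain ⟨n, ρ, hρ, hρχ⟩ := χ.2
    have hdeg : Cfsg.charDegree (χ : G → ℂ) = n := by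
      apply charDegree_natCast
      rw [← hρχ]; simp
    rw [hdeg] at hpd
    haveI := hρ
    have hcop : Nat.Coprime (Module.finrank ℂ (Fin n → ℂ))
        (Subgroup.centralizer ({g} : Set G)).index := by
      rw [Module.finrank_fin_fun, hclass]
      exact Nat.Coprime.pow_right k ((Nat.coprime_comm.mp ((Nat.Prime.coprime_iff_not_dvd hp).mpr hpd)))
    rcases Cfsg.Agent.S0142.result ρ g hcop with h0 | hnorm
    · rw [← hρχ]; exact h0
    · exfalso
      rw [Module.finrank_fin_fun] at hnorm
      obtain ⟨ω, hω⟩ := rep_scalar_of_norm_char_eq ρ g hnorm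
      have hZ : scalarSubgroup ρ = ⊤ := by
        rcases (scalarSubgroup_normal ρ).eq_bot_or_eq_top with h | h
        · exfalso
          have : g ∈ scalarSubgroup ρ := ⟨ω, hω⟩
          rw [h, Subgroup.mem_bot] at this
          exact hg this
        · exact h
      have hn1 : n = 1 := dim_one_of_all_scalar ρ hρ (fun x => by
        have : x ∈ scalarSubgroup ρ := by rw [hZ]; trivial
        exact this)
      have hχone : (χ : G → ℂ) 1 = 1 := by
        rw [← hρχ]; simp [hn1]
      have := linear_char_trivial_of_simple hnc (irr_isCharacter χ.2) hχone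
      apply hχ1
      apply Subtype.ext
      funext x
      exact this x
  -- column orthogonality
  have hcol := irr_column_orthogonality g (1 : G)
  rw [if_neg (fun h => hg (isConj_one_left.mp h))] at hcol
  have hconj : ∀ χ : Cfsg.IrrCharacter G, (starRingEnd ℂ) ((χ : G → ℂ) 1) = (χ : G → ℂ) 1 := by
    intro χ
    obtain ⟨n, hn⟩ := char_apply_one (irr_isCharacter χ.2)
    rw [hn]; simp
  simp only [hconj] at hcol
  rw [← Finset.add_sum_erase Finset.univ _ (Finset.mem_univ (irrOne G))] at hcol
  have htriv : ((irrOne G : Cfsg.IrrCharacter G) : G → ℂ) g * ((irrOne G : Cfsg.IrrCharacter G) : G → ℂ) 1 = 1 := by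
    change (1 : ℂ) * 1 = 1
    ring
  rw [htriv] at hcol
  set T : ℂ := ∑ χ ∈ Finset.univ.erase (irrOne G),
    (χ : G → ℂ) g * ((Cfsg.charDegree (χ : G → ℂ) / p : ℕ) : ℂ) with hT
  have hsumT : ∑ χ ∈ Finset.univ.erase (irrOne G), (χ : G → ℂ) g * (χ : G → ℂ) 1 = (p : ℂ) * T := by
    rw [hT, Finset.mul_sum]
    refine Finset.sum_congr rfl (fun χ hχ => ?_)
    have hχ1 : χ ≠ irrOne G := (Finset.mem_erase.mp hχ).1
    by_cases hpd : p ∣ Cfsg.charDegree (χ : G → ℂ)
    · have h1 : (χ : G → ℂ) 1 = (Cfsg.charDegree (χ : G → ℂ) : ℂ) :=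
        (char_charDegree_cast (irr_isCharacter χ.2)).symm
      obtain ⟨c, hc⟩ := hpd
      rw [h1, hc, Nat.mul_div_cancel_left c hp.pos]
      push_cast
      ring
    · rw [hvanish χ hχ1 hpd]; ring
  rw [hsumT] at hcol
  have hTint : IsIntegral ℤ T := by
    rw [hT]
    apply IsIntegral.sum
    intro χ _
    apply IsIntegral.mul
    · exact char_isIntegral (irr_isCharacter χ.2) g
    · generalize (Cfsg.charDegree (χ : G → ℂ) / p : ℕ) = m
      have := isIntegral_algebraMap (R := ℤ) (A := ℂ) (x := (m : ℤ))
      simpa using this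
  have hdvd := Cfsg.Agent.helper23.int_dvd_of_eq_mul_isIntegral (-1) (p : ℤ)
    (by exact_mod_cast hp.ne_zero) T hTint (by
      push_cast
      linear_combination (-1 : ℂ) * hcol)
  have : (p : ℤ) ∣ 1 := by
    have := (dvd_neg (a := (p : ℤ)) (b := 1)).mp hdvd
    exact this
  have hp1 : p = 1 := by
    have := Int.natAbs_dvd_natAbs.mpr this
    simpa using this
  exact hp.one_lt.ne' hp1

/-- If a finite simple group has a non-identity element whose conjugacy class has prime-power size, then the group has prime order. -/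
theorem result {G : Type*} [Group G] [Finite G] [IsSimpleGroup G] (p k : ℕ) (hp : p.Prime) (g : G) (hg : g ≠ 1) (hclass : (Subgroup.centralizer ({g} : Set G)).index = p ^ k) : (Nat.card G).Prime := by
  by_cases hc : ∀ a b : G, a * b = b * a
  · letI : CommGroup G := { ‹Group G› with mul_comm := hc }
    exact IsSimpleGroup.prime_card
  · exact (no_prime_power_class hc p k hp g hg hclass).elim

end Cfsg.Agent.S0143
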