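import Cfsg.Statements.S0144
import Mathlib
import Cfsg.Agent.S0143

set_option autoImplicit false
set_option linter.style.haveILetI false
set_option linter.unusedVariables false
open Cfsg

namespace Cfsg.Agent.S0144


universe u

theorem card_form_of_dvd {p q a b d : ℕ} (hp : p.Prime) (hq : q.Prime) (h : d ∣ p ^ a * q ^ b) :
    ∃ a' b', d = p ^ a' * q ^ b' := by
  obtain ⟨d1, d2, h1, h2, rfl⟩ := Nat.dvd_mul.mp h
  obtain ⟨a', _, rfl⟩ := (Nat.dvd_prime_pow hp).mp h1
  obtain ⟨b', _, rfl⟩ := (Nat.dvd_prime_pow hq).mp h2
  exact ⟨a', b', rfl⟩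

theorem isSolvable_of_prime_pow_card {G : Type u} [Group G] [Finite G] {p n : ℕ} (hp : p.Prime)
    (h : Nat.card G = p ^ n) : Group.IsSolvable G := by
  haveI : Fact p.Prime := ⟨hp⟩
  haveI := (IsPGroup.of_card h).isNilpotent
  exact IsNilpotent.to_isSolvable

theorem burnside_aux (p q : ℕ) (hp : p.Prime) (hq : q.Prime) :
    ∀ (n : ℕ) (G : Type u) [Group G] [Finite G], Nat.card G = n →
      (∃ a b, Nat.card G = p ^ a * q ^ b) → Group.IsSolvable G := by
  intro n
  induction n using Nat.strong_induction_on with
  | _ n ih =>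
  intro G _ _ hn hform
  obtain ⟨a, b, hab⟩ := hform
  by_cases hsimple : ∀ H : Subgroup G, H.Normal → H = ⊥ ∨ H = ⊤
  · -- simple or trivial
    by_cases hnt : Nontrivial G
    · haveI : IsSimpleGroup G := IsSimpleGroup.mk hsimple
      by_cases ha : a = 0
      · rw [ha, pow_zero, one_mul] at hab
        exact isSolvable_of_prime_pow_card hq hab
      by_cases hb : b = 0
      · rw [hb, pow_zero, mul_one] at hab
        exact isSolvable_of_prime_pow_card hp hab
      by_cases hpq : p = q
      · rw [hpq, ← pow_add] at hab
        exact isSolvable_of_prime_pow_card hq hab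
      haveI : Fact p.Prime := ⟨hp⟩
      obtain ⟨P⟩ := (inferInstance : Nonempty (Sylow p G))
      have hpdvd : p ∣ Nat.card G := by
        rw [hab]
        exact Dvd.dvd.mul_right (dvd_pow_self p ha) _
      have hPne : (P : Subgroup G) ≠ ⊥ := P.ne_bot_of_dvd_card hpdvd
      haveI : Nontrivial (P : Subgroup G) := (Subgroup.nontrivial_iff_ne_bot _).mpr hPne
      have hcen := (P.isPGroup').bot_lt_center
      obtain ⟨z', hz'⟩ := (Subgroup.ne_bot_iff_exists_ne_one (H := Subgroup.center (P : Subgroup G))).mp hcen.ne'
      set z : (P : Subgroup G) := (z' : (P : Subgroup G)) with hzdef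
      have hz : z ∈ Subgroup.center (P : Subgroup G) := z'.2
      have hz1 : z ≠ 1 := fun h => hz' (Subtype.ext h)
      set g : G := (z : G) with hg
      have hg1 : g ≠ 1 := fun h => hz1 (Subtype.ext h)
      have hPle : (P : Subgroup G) ≤ Subgroup.centralizer ({g} : Set G) := by
        intro x hx
        rw [Subgroup.mem_centralizer_iff]
        intro y hy
        rw [Set.mem_singleton_iff] at hy
        subst hy
        have := (Subgroup.mem_center_iff.mp hz) ⟨x, hx⟩
        have h2 := congrArg Subtype.val this
        simpa using h2.symm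
      have hidx1 : (Subgroup.centralizer ({g} : Set G)).index ∣ (P : Subgroup G).index :=
        Subgroup.index_dvd_of_le hPle
      have hPidx : (P : Subgroup G).index ∣ q ^ b := by
        have h1 : (P : Subgroup G).index ∣ p ^ a * q ^ b := by
          rw [← hab]; exact Subgroup.index_dvd_card _
        have h2 : Nat.Coprime (P : Subgroup G).index (p ^ a) :=
          Nat.Coprime.pow_right a (Nat.coprime_comm.mp ((Nat.Prime.coprime_iff_not_dvd hp).mpr P.not_dvd_index))
        exact h2.dvd_of_dvd_mul_left h1
      obtain ⟨j, _, hj⟩ := (Nat.dvd_prime_pow hq).mp (hidx1.trans hPidx)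
      have hprime := Cfsg.Agent.S0143.result q j hq g hg1 hj
      haveI : IsCyclic G := isCyclic_of_prime_card (p := Nat.card G) (hp := ⟨hprime⟩) rfl
      letI : CommGroup G := IsCyclic.commGroup
      exact Group.isSolvable_of_comm (fun a b => mul_comm a b)
    · rw [not_nontrivial_iff_subsingleton] at hnt
      exact Group.isSolvable_of_comm (fun a b => Subsingleton.elim _ _)
  · push Not at hsimple
    obtain ⟨N, hN, hNbot, hNtop⟩ := hsimple
    haveI := hN
    have hNcard : Nat.card N < n := by
      rw [← hn]
      apply lt_of_le_of_ne (Subgroup.card_le_card_group N)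
      intro h
      exact hNtop (Subgroup.eq_top_of_card_eq N h)
    have hQcard : Nat.card (G ⧸ N) < n := by
      rw [← hn, ← Subgroup.index_eq_card]
      have h1 := Subgroup.card_mul_index N
      have h2 : 1 < Nat.card N := by
        rcases Nat.lt_or_ge 1 (Nat.card N) with h | h
        · exact h
        · exfalso
          have : Nat.card N = 1 := le_antisymm h Nat.card_pos
          exact hNbot (Subgroup.card_eq_one.mp this)
      have h3 : 0 < N.index := Nat.pos_of_ne_zero Subgroup.index_ne_zero_of_finite
      nlinarith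
    have hNform : ∃ a' b', Nat.card N = p ^ a' * q ^ b' :=
      card_form_of_dvd hp hq (hab ▸ Subgroup.card_subgroup_dvd_card N)
    have hQform : ∃ a' b', Nat.card (G ⧸ N) = p ^ a' * q ^ b' := by
      apply card_form_of_dvd hp hq (a := a) (b := b)
      rw [← hab, ← Subgroup.index_eq_card]
      exact Subgroup.index_dvd_card N
    haveI : Group.IsSolvable N := ih _ hNcard N rfl hNform
    haveI : Group.IsSolvable (G ⧸ N) := ih _ hQcard (G ⧸ N) rfl hQform
    apply Group.isSolvable_of_ker_le_range N.subtype (QuotientGroup.mk' N)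
    rw [QuotientGroup.ker_mk', Subgroup.range_subtype]

/-- The Burnside two-prime Theorem: a finite group of order p ^ a * q ^ b, for primes p and q, is solvable. -/
theorem result {G : Type*} [Group G] [Finite G] (p q a b : ℕ) (hp : p.Prime) (hq : q.Prime) (hcard : Nat.card G = p ^ a * q ^ b) : Group.IsSolvable G := by
  exact burnside_aux p q hp hq _ G rfl ⟨a, b, hcard⟩

end Cfsg.Agent.S0144
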