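import Mathlib
import Cfsg.Prelude.Def_Solvable
import Cfsg.Agent.Lib_helper1_Core
import Cfsg.Agent.Lib_helper21_Basic
import Cfsg.Agent.Lib_helper23_PSolv3
import Cfsg.Agent.S0144

set_option autoImplicit false
set_option linter.style.haveILetI false
set_option linter.deprecated false

namespace Cfsg.Agent.helper23

universe u

/-- every prime has a "complement": a subgroup whose index is the full `p`-part of `|G|`. -/
def PComplProp (G : Type u) [Group G] : Prop :=
  ∀ p : ℕ, p.Prime → ∃ H : Subgroup G, H.index = p ^ (Nat.card G).factorization p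

theorem card_coprime_of_index_eq {G : Type u} [Group G] [Finite G] {p : ℕ} (hp : p.Prime)
    {H : Subgroup G} (hH : H.index = p ^ (Nat.card G).factorization p) :
    (Nat.card H).Coprime p := by
  have h1 := Subgroup.index_mul_card H
  have hn : Nat.card G ≠ 0 := Nat.card_pos.ne'
  have h2 : Nat.card G / p ^ (Nat.card G).factorization p = Nat.card H :=
    Nat.div_eq_of_eq_mul_right (pow_pos hp.pos _) (by rw [← hH]; exact h1.symm)
  rw [← h2]
  exact (Nat.coprime_ordCompl hp hn).symm

theorem factorization_card_of_index_eq {G : Type u} [Group G] [Finite G] {p r : ℕ} (hp : p.Prime)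
    (hrp : r ≠ p) {H : Subgroup G} (hH : H.index = p ^ (Nat.card G).factorization p) :
    (Nat.card H).factorization r = (Nat.card G).factorization r := by
  have h2 := Subgroup.index_mul_card H
  have h3 : (Nat.card G).factorization r = (H.index * Nat.card H).factorization r := by rw [h2]
  rw [h3, hH, Nat.factorization_mul (pow_ne_zero _ hp.ne_zero) Nat.card_pos.ne', Finsupp.add_apply,
    hp.factorization_pow, Finsupp.single_apply, if_neg (Ne.symm hrp), zero_add]

theorem pComplProp_subgroup {G : Type u} [Group G] [Finite G] (hG : PComplProp G) {p : ℕ}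
    (hp : p.Prime) {H : Subgroup G} (hH : H.index = p ^ (Nat.card G).factorization p) :
    PComplProp H := by
  intro r hr
  by_cases hrp : r = p
  · subst hrp
    refine ⟨⊤, ?_⟩
    rw [Subgroup.index_top]
    have hcop := card_coprime_of_index_eq hr hH
    have : (Nat.card H).factorization r = 0 := by
      apply Nat.factorization_eq_zero_of_not_dvd
      intro hd
      have := Nat.Coprime.eq_one_of_dvd hcop.symm hd
      exact hr.one_lt.ne' this
    rw [this, pow_zero]
  · obtain ⟨K, hK⟩ := hG r hr
    refine ⟨K.subgroupOf H, ?_⟩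
    have hcop : K.index.Coprime H.index := by
      rw [hK, hH]; exact Nat.Coprime.pow _ _ ((Nat.coprime_primes hr hp).2 hrp)
    have h1 : K.relIndex H = K.index := helper21.relIndex_eq_index_of_coprime K H hcop
    show K.relIndex H = _
    rw [h1, hK, factorization_card_of_index_eq hp hrp hH]

theorem pComplProp_quotient {G : Type u} [Group G] [Finite G] (hG : PComplProp G)
    (M : Subgroup G) [M.Normal] : PComplProp (G ⧸ M) := by
  intro p hp
  obtain ⟨H, hH⟩ := hG p hp
  refine ⟨H.map (QuotientGroup.mk' M), ?_⟩
  have h1 : (H.map (QuotientGroup.mk' M)).index ∣ H.index :=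
    Subgroup.index_map_dvd H (QuotientGroup.mk'_surjective M)
  rw [hH] at h1
  obtain ⟨j, -, hj⟩ := (Nat.dvd_prime_pow hp).1 h1
  have h2 : Nat.card (H.map (QuotientGroup.mk' M)) ∣ Nat.card H := Subgroup.card_map_dvd H _
  have hcop : (Nat.card (H.map (QuotientGroup.mk' M))).Coprime p :=
    Nat.Coprime.coprime_dvd_left h2 (card_coprime_of_index_eq hp hH)
  have h3 := Subgroup.index_mul_card (H.map (QuotientGroup.mk' M))
  have h4 : (Nat.card (G ⧸ M)).factorization p = j := by
    rw [← h3, hj, Nat.factorization_mul (pow_ne_zero _ hp.ne_zero) Nat.card_pos.ne',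
      Finsupp.add_apply, hp.factorization_pow, Finsupp.single_apply, if_pos rfl]
    have : (Nat.card (H.map (QuotientGroup.mk' M))).factorization p = 0 := by
      apply Nat.factorization_eq_zero_of_not_dvd
      intro hd
      have := Nat.Coprime.eq_one_of_dvd hcop.symm hd
      exact hp.one_lt.ne' this
    rw [this, add_zero]
  rw [h4, hj]

theorem exists_two_prime_pow (n : ℕ) (hn : n ≠ 0) (h : n.primeFactors.card ≤ 2) :
    ∃ p q a b : ℕ, p.Prime ∧ q.Prime ∧ n = p ^ a * q ^ b := by
  have hprod : n = ∏ p ∈ n.primeFactors, p ^ n.factorization p := by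
    conv_lhs => rw [← Nat.prod_factorization_pow_eq_self hn]
    rw [Finsupp.prod, Nat.support_factorization]
  have hcases : n.primeFactors.card = 0 ∨ n.primeFactors.card = 1 ∨ n.primeFactors.card = 2 := by
    omega
  rcases hcases with h0 | h1 | h2
  · rw [Finset.card_eq_zero] at h0
    rw [h0, Finset.prod_empty] at hprod
    exact ⟨2, 3, 0, 0, Nat.prime_two, Nat.prime_three, by rw [hprod]; norm_num⟩
  · obtain ⟨a, ha⟩ := Finset.card_eq_one.1 h1
    have hap : a.Prime := Nat.prime_of_mem_primeFactors (by rw [ha]; exact Finset.mem_singleton_self a)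
    rw [ha, Finset.prod_singleton] at hprod
    exact ⟨a, a, n.factorization a, 0, hap, hap, by rw [pow_zero, mul_one]; exact hprod⟩
  · obtain ⟨x, y, hxy, hs⟩ := Finset.card_eq_two.1 h2
    have hxp : x.Prime := Nat.prime_of_mem_primeFactors (by rw [hs]; simp)
    have hyp : y.Prime := Nat.prime_of_mem_primeFactors (by rw [hs]; simp)
    rw [hs, Finset.prod_pair hxy] at hprod
    exact ⟨x, y, n.factorization x, n.factorization y, hxp, hyp, hprod⟩

theorem exists_sylow_le_of_not_dvd_index {X : Type u} [Group X] [Finite X] {s : ℕ} [hs : Fact s.Prime]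
    (D : Subgroup X) (h : ¬ s ∣ D.index) : ∃ S : Sylow s X, (S : Subgroup X) ≤ D := by
  obtain ⟨S0⟩ : Nonempty (Sylow s D) := Sylow.nonempty
  have h1 : Nat.card (S0 : Subgroup D) = s ^ (Nat.card D).factorization s := S0.card_eq_multiplicity
  have h2 : (Nat.card X).factorization s = (Nat.card D).factorization s := by
    rw [← Subgroup.index_mul_card D, Nat.factorization_mul Subgroup.index_ne_zero_of_finite
      Nat.card_pos.ne', Finsupp.add_apply, Nat.factorization_eq_zero_of_not_dvd h, zero_add]
  have h3 : Nat.card ((S0 : Subgroup D).map D.subtype) = s ^ (Nat.card X).factorization s := by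
    rw [Subgroup.card_subtype, h1, h2]
  refine ⟨Sylow.ofCard _ h3, ?_⟩
  rw [Sylow.coe_ofCard]
  exact Subgroup.map_subtype_le _

/-- **P. Hall**: a finite group with a `p`-complement for every prime `p` is solvable. -/
theorem hall_converse : ∀ (n : ℕ) (G : Type u) [Group G] [Finite G], Nat.card G = n →
    PComplProp G → Group.IsSolvable G := by
  intro n
  induction n using Nat.strong_induction_on with
  | _ n ih =>
    intro G _ _ hn hG
    classical
    by_cases hcard2 : (Nat.card G).primeFactors.card ≤ 2
    · obtain ⟨p, q, a, b, hp, hq, hab⟩ := exists_two_prime_pow (Nat.card G) Nat.card_pos.ne' hcard2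
      exact Cfsg.Agent.S0144.result p q a b hp hq hab
    · push Not at hcard2
      obtain ⟨p, hpmem⟩ : ∃ p, p ∈ (Nat.card G).primeFactors := Finset.card_pos.1 (by omega)
      have hp : p.Prime := Nat.prime_of_mem_primeFactors hpmem
      have hpd : p ∣ Nat.card G := Nat.dvd_of_mem_primeFactors hpmem
      -- general facts about a complement of a prime divisor
      have hsub : ∀ r : ℕ, r ∈ (Nat.card G).primeFactors → ∀ H : Subgroup G,
          H.index = r ^ (Nat.card G).factorization r → Group.IsSolvable H := by
        intro r hrmem H hH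
        have hr : r.Prime := Nat.prime_of_mem_primeFactors hrmem
        have hrd : r ∣ Nat.card G := Nat.dvd_of_mem_primeFactors hrmem
        have hν : 1 ≤ (Nat.card G).factorization r :=
          (hr.dvd_iff_one_le_factorization Nat.card_pos.ne').1 hrd
        have hlt : Nat.card H < n := by
          rw [← hn, ← Subgroup.index_mul_card H]
          have h1 : 1 < H.index := by rw [hH]; exact Nat.one_lt_pow (by omega) hr.one_lt
          have hpos : 0 < Nat.card H := Nat.card_pos
          exact lt_mul_of_one_lt_left hpos h1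
        exact ih _ hlt H rfl (pComplProp_subgroup hG hr hH)
      obtain ⟨Hp, hHp⟩ := hG p hp
      haveI hHps : Group.IsSolvable Hp := hsub p hpmem Hp hHp
      -- Hp is nontrivial
      obtain ⟨q', hq'mem, hq'p⟩ := Finset.exists_mem_ne (by omega : 1 < (Nat.card G).primeFactors.card) p
      have hq' : q'.Prime := Nat.prime_of_mem_primeFactors hq'mem
      haveI : Nontrivial Hp := by
        rw [← Finite.one_lt_card_iff_nontrivial]
        have h1 : (Nat.card Hp).factorization q' = (Nat.card G).factorization q' :=
          factorization_card_of_index_eq hp hq'p hHp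
        have h2 : 1 ≤ (Nat.card G).factorization q' :=
          (hq'.dvd_iff_one_le_factorization Nat.card_pos.ne').1 (Nat.dvd_of_mem_primeFactors hq'mem)
        by_contra hle
        have hc1 : Nat.card Hp = 1 := by
          have : 0 < Nat.card Hp := Nat.card_pos
          omega
        rw [hc1, Nat.factorization_one] at h1
        simp at h1
        omega
      obtain ⟨s, hs⟩ := exists_pCore_ne_bot_of_solvable Hp
      haveI : Fact (s : ℕ).Prime := ⟨s.2⟩
      have hNp : IsPGroup (s : ℕ) (Cfsg.pCore (s : ℕ) Hp) := helper1.pCore_isPGroup _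
      haveI hNn : (Cfsg.pCore (s : ℕ) Hp).Normal := helper1.pCore_normal _
      -- s divides |Hp|, hence s ≠ p and s ∣ |G|
      have hsd : (s : ℕ) ∣ Nat.card Hp := by
        obtain ⟨k, hk⟩ := hNp.exists_card_eq
        have hk0 : k ≠ 0 := by
          intro h0
          rw [h0, pow_zero] at hk
          exact hs ((Subgroup.card_eq_one).1 hk)
        have h1 : (s : ℕ) ∣ Nat.card (Cfsg.pCore (s : ℕ) Hp) := by
          rw [hk]; exact dvd_pow_self _ hk0
        exact dvd_trans h1 (Subgroup.card_subgroup_dvd_card _)
      have hsp : (s : ℕ) ≠ p := by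
        intro e
        have hcop := card_coprime_of_index_eq hp hHp
        rw [e] at hsd
        exact hp.one_lt.ne' (Nat.Coprime.eq_one_of_dvd hcop.symm hsd)
      -- choose q
      obtain ⟨q, hqmem, hqp, hqs⟩ : ∃ q ∈ (Nat.card G).primeFactors, q ≠ p ∧ q ≠ (s : ℕ) := by
        have hpos : 0 < (((Nat.card G).primeFactors.erase p).erase (s : ℕ)).card := by
          have h1 := Finset.card_erase_of_mem hpmem
          have h2 := Finset.pred_card_le_card_erase (s := (Nat.card G).primeFactors.erase p)
            (a := (s : ℕ))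
          omega
        obtain ⟨q, hq⟩ := Finset.card_pos.1 hpos
        rw [Finset.mem_erase, Finset.mem_erase] at hq
        exact ⟨q, hq.2.2, hq.2.1, hq.1⟩
      have hq : q.Prime := Nat.prime_of_mem_primeFactors hqmem
      obtain ⟨Hq, hHq⟩ := hG q hq
      haveI hHqs : Group.IsSolvable Hq := hsub q hqmem Hq hHq
      have hcop : Hp.index.Coprime Hq.index := by
        rw [hHp, hHq]; exact Nat.Coprime.pow _ _ ((Nat.coprime_primes hp hq).2 (Ne.symm hqp))
      -- N = O_s(Hp) as a subgroup of G
      obtain ⟨N, hNdef⟩ : ∃ N : Subgroup G, N = (Cfsg.pCore (s : ℕ) Hp).map Hp.subtype := ⟨_, rfl⟩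
      have hNbot : N ≠ ⊥ := by
        rw [hNdef]
        intro h
        exact hs ((Subgroup.map_eq_bot_iff_of_injective _ Hp.subtype_injective).1 h)
      have hNHq : N ≤ Hq := by
        have h1 : (Hq.subgroupOf Hp).index = Hq.index :=
          helper21.relIndex_eq_index_of_coprime Hq Hp hcop.symm
        have h2 : ¬ (s : ℕ) ∣ (Hq.subgroupOf Hp).index := by
          rw [h1, hHq]
          intro hd
          have := (Nat.prime_dvd_prime_iff_eq s.2 hq).1 (s.2.dvd_of_dvd_pow hd)
          exact hqs this.symm
        obtain ⟨S, hS⟩ := exists_sylow_le_of_not_dvd_index (Hq.subgroupOf Hp) h2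
        have h3 : Cfsg.pCore (s : ℕ) Hp ≤ Hq.subgroupOf Hp := le_trans (helper1.pCore_le_sylow S) hS
        rw [hNdef]
        refine le_trans (Subgroup.map_mono h3) ?_
        rw [Subgroup.subgroupOf_map_subtype]
        exact inf_le_left
      have hNnorm : ∀ a ∈ Hp, ∀ x ∈ N, a * x * a⁻¹ ∈ N := by
        intro a ha x hx
        rw [hNdef] at hx ⊢
        obtain ⟨y, hy, rfl⟩ := Subgroup.mem_map.1 hx
        refine Subgroup.mem_map.2 ⟨⟨a, ha⟩ * y * ⟨a, ha⟩⁻¹, hNn.conj_mem y hy ⟨a, ha⟩, rfl⟩
      -- normal closure of N lies in Hq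
      have hMle : Subgroup.normalClosure (N : Set G) ≤ Hq := by
        rw [Subgroup.normalClosure, Subgroup.closure_le]
        intro y hy
        rw [Group.mem_conjugatesOfSet_iff] at hy
        obtain ⟨x, hx, hxy⟩ := hy
        obtain ⟨g, rfl⟩ := isConj_iff.1 hxy
        obtain ⟨β, hβ, α, hα, rfl⟩ := helper21.exists_mul_of_coprime_index Hp Hq hcop g
        have e : β * α * x * (β * α)⁻¹ = β * (α * x * α⁻¹) * β⁻¹ := by group
        rw [SetLike.mem_coe, e]
        exact Hq.mul_mem (Hq.mul_mem hβ (hNHq (hNnorm α hα x hx))) (Hq.inv_mem hβ)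
      haveI hMn : (Subgroup.normalClosure (N : Set G)).Normal := Subgroup.normalClosure_normal
      have hMbot : Subgroup.normalClosure (N : Set G) ≠ ⊥ := by
        intro h
        apply hNbot
        rw [eq_bot_iff, ← h]
        exact Subgroup.le_normalClosure
      haveI hMs : Group.IsSolvable (Subgroup.normalClosure (N : Set G)) :=
        solvable_of_solvable_injective (Subgroup.inclusion_injective hMle)
      haveI hQs : Group.IsSolvable (G ⧸ Subgroup.normalClosure (N : Set G)) := by
        refine ih (Nat.card (G ⧸ Subgroup.normalClosure (N : Set G))) ?_ _ rfl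
          (pComplProp_quotient hG _)
        rw [← hn, ← Subgroup.index_eq_card, ← Subgroup.index_mul_card (Subgroup.normalClosure (N : Set G))]
        have h1 : 1 < Nat.card (Subgroup.normalClosure (N : Set G)) :=
          (Subgroup.one_lt_card_iff_ne_bot _).2 hMbot
        have hpos : 0 < (Subgroup.normalClosure (N : Set G)).index :=
          Nat.pos_of_ne_zero Subgroup.index_ne_zero_of_finite
        exact lt_mul_of_one_lt_right hpos h1
      exact solvable_of_ker_le_range (Subgroup.normalClosure (N : Set G)).subtype
        (QuotientGroup.mk' (Subgroup.normalClosure (N : Set G)))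
        (by rw [QuotientGroup.ker_mk', Subgroup.range_subtype])

end Cfsg.Agent.helper23
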