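import Mathlib
import Cfsg.Agent.Lib_helper23_PSolv
import Cfsg.Agent.Lib_helper23_HallConv
import Cfsg.Agent.Lib_helper23_Schmidt
import Cfsg.Agent.Lib_helper1_Core
import Cfsg.Agent.Lib_helper3_Basic

set_option autoImplicit false
set_option linter.deprecated false
set_option linter.style.haveILetI false

namespace Cfsg.Agent.helper23
universe u
open scoped Pointwise commutatorElement

theorem conj_smul_mono {G : Type*} [Group G] (g : G) {A B : Subgroup G} (h : A ≤ B) :
    MulAut.conj g • A ≤ MulAut.conj g • B := by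
  intro x hx
  rw [helper3.mem_conj_smul_iff] at hx ⊢
  exact h hx

/-- A nontrivial finite solvable group has a normal subgroup of prime index. -/
theorem exists_normal_prime_index (X : Type*) [Group X] [Finite X] [Group.IsSolvable X]
    [Nontrivial X] : ∃ M : Subgroup X, M.Normal ∧ M.index.Prime := by
  classical
  have hlt : commutator X < ⊤ := Group.IsSolvable.commutator_lt_top_of_nontrivial X
  obtain ⟨M, hM, hle⟩ := (eq_top_or_exists_le_coatom (commutator X)).resolve_left hlt.ne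
  have hMn : M.Normal := by
    constructor
    intro m hm g
    have h1 : g * m * g⁻¹ = ⁅g, m⁆ * m := by rw [commutatorElement_def]; group
    rw [h1]
    refine M.mul_mem (hle ?_) hm
    rw [commutator_def]
    exact Subgroup.commutator_mem_commutator (Subgroup.mem_top g) (Subgroup.mem_top m)
  haveI := hMn
  refine ⟨M, hMn, ?_⟩
  have hidx1 : M.index ≠ 1 := fun h => hM.1 (Subgroup.index_eq_one.mp h)
  obtain ⟨p, hp, hpdvd⟩ := Nat.exists_prime_and_dvd hidx1
  haveI : Fact p.Prime := ⟨hp⟩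
  rw [Subgroup.index_eq_card] at hpdvd
  obtain ⟨xb, hxb⟩ := exists_prime_orderOf_dvd_card' (G := X ⧸ M) p hpdvd
  obtain ⟨x, rfl⟩ := QuotientGroup.mk'_surjective M xb
  have hxM : x ∉ M := by
    intro hx
    have h1 : QuotientGroup.mk' M x = 1 := (QuotientGroup.eq_one_iff x).mpr hx
    rw [h1, orderOf_one] at hxb
    exact hp.one_lt.ne hxb
  have hsup : M ⊔ Subgroup.zpowers x = ⊤ := by
    apply hM.2
    apply lt_of_le_of_ne le_sup_left
    intro he
    apply hxM
    have h1 : x ∈ M ⊔ Subgroup.zpowers x := Subgroup.mem_sup_right (Subgroup.mem_zpowers x)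
    rw [← he] at h1
    exact h1
  have hzp : Subgroup.zpowers (QuotientGroup.mk' M x) = ⊤ := by
    rw [eq_top_iff]
    intro y _
    obtain ⟨g, rfl⟩ := QuotientGroup.mk'_surjective M y
    have hg : g ∈ M ⊔ Subgroup.zpowers x := by rw [hsup]; exact Subgroup.mem_top g
    rw [← SetLike.mem_coe, Subgroup.normal_mul] at hg
    obtain ⟨m, hm, z, hz, e⟩ := hg
    have e : m * z = g := e
    obtain ⟨k, rfl⟩ := Subgroup.mem_zpowers_iff.mp hz
    rw [← e, map_mul, map_zpow]
    have h1 : QuotientGroup.mk' M m = 1 := (QuotientGroup.eq_one_iff m).mpr hm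
    rw [h1, one_mul]
    exact Subgroup.zpow_mem _ (Subgroup.mem_zpowers _) k
  have hcard : Nat.card (X ⧸ M) = p := by
    rw [← hxb, ← Nat.card_zpowers, hzp, Subgroup.card_top]
  rw [Subgroup.index_eq_card, hcard]; exact hp

theorem le_of_forall_prime_relIndex {G : Type*} [Group G] [Finite G] {J K : Subgroup G}
    (hJK : J ≤ K)
    (h : ∀ q : ℕ, q.Prime → ∃ S : Subgroup G, S ≤ J ∧ ¬ q ∣ S.relIndex K) : K ≤ J := by
  rw [← Subgroup.relIndex_eq_one, Nat.eq_one_iff_not_exists_prime_dvd]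
  intro q hq hdvd
  obtain ⟨S, hSJ, hS⟩ := h q hq
  apply hS
  rw [← Subgroup.relIndex_mul_relIndex S J K hSJ hJK]
  exact Dvd.dvd.mul_left hdvd _

/-- Sylow's theorem inside a subgroup `L` containing a Sylow subgroup `P` of `G`. -/
theorem exists_mem_conj_le {G : Type*} [Group G] [Finite G] {p : ℕ} [Fact p.Prime]
    (L : Subgroup G) (P : Sylow p G) (hPL : (P : Subgroup G) ≤ L) (A : Subgroup G) (hAL : A ≤ L)
    (hA : IsPGroup p A) : ∃ y ∈ L, A ≤ MulAut.conj y • (P : Subgroup G) := by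
  obtain ⟨Q, hQ⟩ := (hA.comap_subtype (K := L)).exists_le_sylow
  obtain ⟨y, hy⟩ := MulAction.exists_smul_eq L (P.subtype hPL) Q
  refine ⟨y, y.2, ?_⟩
  intro a ha
  have h1 : (⟨a, hAL ha⟩ : L) ∈ (Q : Subgroup L) := hQ (Subgroup.mem_subgroupOf.mpr ha)
  rw [← hy, Sylow.coe_subgroup_smul, helper3.mem_conj_smul_iff, Sylow.coe_subtype] at h1
  rw [helper3.mem_conj_smul_iff]
  exact Subgroup.mem_subgroupOf.mp h1

theorem relIndex_map_subtype_self {G : Type*} [Group G] (K : Subgroup G) (Q : Subgroup K) :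
    (Q.map K.subtype).relIndex K = Q.index := by
  rw [Subgroup.relIndex, Subgroup.subgroupOf,
    Subgroup.comap_map_eq_self_of_injective K.subtype_injective]

theorem wielandt_step {G : Type u} [Group G] [Finite G] (H : Subgroup G)
    (hH : Group.IsNilpotent H)
    (hHall : (Nat.card H).Coprime H.index) (K M : Subgroup G) (hMH : M ≤ H) (hMK : M ≤ K)
    (hMn : (M.subgroupOf K).Normal) (p : ℕ) [hp : Fact p.Prime]
    (hidx : (M.subgroupOf K).index = p) (hpH : p ∣ Nat.card H) :
    ∃ y : G, K ≤ MulAut.conj y • H := by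
  classical
  have hpi : ¬ p ∣ H.index := by
    intro h
    have h1 := Nat.dvd_gcd hpH h
    rw [hHall.gcd_eq_one] at h1
    exact hp.out.one_lt.ne' (Nat.dvd_one.mp h1)
  obtain ⟨P, hPH⟩ := exists_sylow_le_of_not_dvd_index H hpi
  have hsyl : ∀ (q : ℕ) (_ : Fact q.Prime) (Q : Sylow q H), (Q : Subgroup H).Normal :=
    ((Group.isNilpotent_of_finite_tfae (G := H)).out 0 3).mp hH
  obtain ⟨C', hC'⟩ : ∃ C' : Subgroup H, C' = Cfsg.pPrimeCore p H := ⟨_, rfl⟩
  haveI hC'n : C'.Normal := by rw [hC']; exact helper1.pPrimeCore_normal p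
  have hC'cop : (Nat.card C').Coprime p := by rw [hC']; exact helper1.pPrimeCore_coprime p
  have hC'idx : ∀ q : ℕ, q.Prime → q ≠ p → ¬ q ∣ C'.index := by
    intro q hq hqp hdvd
    haveI : Fact q.Prime := ⟨hq⟩
    obtain ⟨Q⟩ : Nonempty (Sylow q H) := Sylow.nonempty
    have hQn : (Q : Subgroup H).Normal := hsyl q ⟨hq⟩ Q
    have hQle : (Q : Subgroup H) ≤ C' := by
      rw [hC']
      apply helper1.le_pPrimeCore hQn
      obtain ⟨k, hk⟩ := Q.2.exists_card_eq
      rw [hk]
      exact Nat.Coprime.pow_left _ ((Nat.coprime_primes hq hp.out).mpr hqp)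
    have h1 : C'.index ∣ (Q : Subgroup H).index := Subgroup.index_dvd_of_le hQle
    exact Q.not_dvd_index (hdvd.trans h1)
  have hC'pow : ∃ k, C'.index = p ^ k :=
    ⟨_, Nat.eq_prime_pow_of_unique_prime_dvd Subgroup.index_ne_zero_of_finite
      (fun {d} hd hdvd => by
        by_contra hne
        exact hC'idx d hd hne hdvd)⟩
  have hCmem : ∀ (m : H) (a : ℕ), m ^ a = 1 → a.Coprime p → m ∈ C' := by
    intro m a hma hap
    obtain ⟨k, hk⟩ := hC'pow
    apply mem_of_pow_eq_one_of_coprime_index hma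
    rw [hk]; exact Nat.Coprime.pow_right _ hap
  have hPC : ∀ x ∈ (P : Subgroup G), ∀ c : H, c ∈ C' → x * (c : G) = (c : G) * x := by
    intro x hx c hc
    obtain ⟨P', hP'⟩ : ∃ P' : Sylow p H, P' = P.subtype hPH := ⟨_, rfl⟩
    haveI hP'n : (P' : Subgroup H).Normal := hsyl p hp P'
    have hinf : (P' : Subgroup H) ⊓ C' = ⊥ := by
      apply Subgroup.inf_eq_bot_of_coprime
      obtain ⟨k, hk⟩ := P'.2.exists_card_eq
      rw [hk]
      exact Nat.Coprime.pow_left _ hC'cop.symm
    have hcomm : ⁅(P' : Subgroup H), C'⁆ = ⊥ := by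
      rw [eq_bot_iff, ← hinf]
      exact Subgroup.commutator_le_inf _ _
    have hle := Subgroup.commutator_eq_bot_iff_le_centralizer.mp hcomm
    have hxP' : (⟨x, hPH hx⟩ : H) ∈ (P' : Subgroup H) := by
      rw [hP', Sylow.coe_subtype]; exact Subgroup.mem_subgroupOf.mpr hx
    have h1 := Subgroup.mem_centralizer_iff.mp (hle hxP') c hc
    exact (congrArg Subtype.val h1).symm
  obtain ⟨M0, hM0⟩ : ∃ M0 : Subgroup G, M0 = M ⊓ C'.map H.subtype := ⟨_, rfl⟩
  have hM0M : M0 ≤ M := by rw [hM0]; exact inf_le_left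
  have hM0H : M0 ≤ H := hM0M.trans hMH
  have hM0mem : ∀ m ∈ M, ∀ a : ℕ, m ^ a = 1 → a.Coprime p → m ∈ M0 := by
    intro m hm a hma hap
    rw [hM0]
    refine Subgroup.mem_inf.mpr ⟨hm, ?_⟩
    have h1 : (⟨m, hMH hm⟩ : H) ∈ C' :=
      hCmem ⟨m, hMH hm⟩ a
        (Subtype.ext (by rw [Subgroup.coe_pow, Subgroup.coe_one]; exact hma)) hap
    exact ⟨⟨m, hMH hm⟩, h1, rfl⟩
  have hM0pow : ∀ m ∈ M0, m ^ Nat.card C' = 1 := by
    intro m hm
    rw [hM0] at hm
    obtain ⟨c, hc, rfl⟩ := (Subgroup.mem_inf.mp hm).2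
    have h1 : c ^ Nat.card C' = 1 :=
      orderOf_dvd_iff_pow_eq_one.mp (Subgroup.orderOf_dvd_natCard C' hc)
    show ((c : G)) ^ Nat.card C' = 1
    rw [← Subgroup.coe_pow, h1, Subgroup.coe_one]
  have hMnorm : ∀ k ∈ K, ∀ m ∈ M, k * m * k⁻¹ ∈ M := by
    intro k hk m hm
    have h1 := hMn.conj_mem ⟨m, hMK hm⟩ (Subgroup.mem_subgroupOf.mpr hm) ⟨k, hk⟩
    exact Subgroup.mem_subgroupOf.mp h1
  have hKL : K ≤ Subgroup.normalizer (M0 : Set G) := by
    intro k hk
    rw [← helper3.conj_smul_eq_self_iff]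
    apply Subgroup.eq_of_le_of_card_ge
    · intro z hz
      rw [helper3.mem_conj_smul_iff] at hz
      have hz' : z = k * (k⁻¹ * z * k) * k⁻¹ := by group
      rw [hz']
      have hm := hM0M hz
      apply hM0mem _ (hMnorm k hk _ hm) (Nat.card C')
      · rw [conj_pow, hM0pow _ hz, mul_one, mul_inv_cancel]
      · exact hC'cop
    · rw [helper3.card_conj_smul]
  have hPL : (P : Subgroup G) ≤ Subgroup.normalizer (M0 : Set G) := by
    intro x hx
    apply Subgroup.centralizer_le_normalizer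
    rw [Subgroup.mem_centralizer_iff]
    intro m hm
    rw [hM0] at hm
    obtain ⟨c, hc, rfl⟩ := (Subgroup.mem_inf.mp hm).2
    exact (hPC x hx c hc).symm
  obtain ⟨Qp⟩ : Nonempty (Sylow p K) := Sylow.nonempty
  obtain ⟨Kp, hKp⟩ : ∃ Kp : Subgroup G, Kp = (Qp : Subgroup K).map K.subtype := ⟨_, rfl⟩
  have hKpK : Kp ≤ K := by rw [hKp]; exact Subgroup.map_subtype_le _
  have hKpp : IsPGroup p Kp := by rw [hKp]; exact Qp.2.map _
  obtain ⟨y, hyL, hy⟩ := exists_mem_conj_le (Subgroup.normalizer (M0 : Set G)) P hPL Kp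
    (hKpK.trans hKL) hKpp
  refine ⟨y, ?_⟩
  have hyM0 : M0 ≤ MulAut.conj y • H := by
    have h1 : MulAut.conj y • M0 = M0 := (helper3.conj_smul_eq_self_iff y M0).mpr hyL
    rw [← h1]
    exact conj_smul_mono y hM0H
  have hKpy : Kp ≤ MulAut.conj y • H := hy.trans (conj_smul_mono y hPH)
  haveI := hMn
  have hfinal : K ≤ K ⊓ MulAut.conj y • H := by
    apply le_of_forall_prime_relIndex inf_le_left
    intro q hq
    by_cases hqp : q = p
    · refine ⟨Kp, le_inf hKpK hKpy, ?_⟩
      rw [hqp, hKp, relIndex_map_subtype_self]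
      exact Qp.not_dvd_index
    · haveI : Fact q.Prime := ⟨hq⟩
      obtain ⟨Qq⟩ : Nonempty (Sylow q K) := Sylow.nonempty
      have hQqM : (Qq : Subgroup K) ≤ M.subgroupOf K := by
        apply sylow_le_of_not_dvd_index _ Qq
        rw [hidx]
        intro hd
        exact hqp ((Nat.prime_dvd_prime_iff_eq hq hp.out).mp hd)
      refine ⟨(Qq : Subgroup K).map K.subtype, le_inf (Subgroup.map_subtype_le _) ?_, ?_⟩
      · refine le_trans ?_ hyM0
        rintro _ ⟨s, hs, rfl⟩
        have hsM : (s : G) ∈ M := Subgroup.mem_subgroupOf.mp (hQqM hs)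
        obtain ⟨k, hk⟩ := Qq.2 ⟨s, hs⟩
        have hk' : (s : G) ^ (q ^ k) = 1 := by
          have h1 := congrArg Subtype.val (congrArg Subtype.val hk)
          simpa using h1
        exact hM0mem _ hsM (q ^ k) hk'
          (Nat.Coprime.pow_left _ ((Nat.coprime_primes hq hp.out).mpr hqp))
      · rw [relIndex_map_subtype_self]
        exact Qq.not_dvd_index
  exact hfinal.trans inf_le_right

theorem wielandt_aux {G : Type u} [Group G] [Finite G] : ∀ (n : ℕ) (H K : Subgroup G),
    Group.IsNilpotent H → (Nat.card H).Coprime H.index →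
    (∀ p : ℕ, p.Prime → p ∣ Nat.card K → p ∣ Nat.card H) → Nat.card K = n →
    ∃ x : G, K ≤ MulAut.conj x • H := by
  intro n
  induction n using Nat.strong_induction_on with
  | _ n ih =>
  intro H K hH hHall hK hn
  classical
  by_cases hKbot : K = ⊥
  · exact ⟨1, by rw [hKbot]; exact bot_le⟩
  have hprop : ∀ K' : Subgroup G, K' ≤ K → K' ≠ K → ∃ x : G, K' ≤ MulAut.conj x • H := by
    intro K' hle hne
    have hlt : Nat.card K' < n := by
      rw [← hn]
      apply lt_of_le_of_ne (Subgroup.card_le_of_le hle)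
      intro he
      exact hne (Subgroup.eq_of_le_of_card_ge hle he.ge)
    exact ih _ hlt H K' hH hHall
      (fun p hp hd => hK p hp (hd.trans (Subgroup.card_dvd_of_le hle))) rfl
  have hconjnil : ∀ x : G, Group.IsNilpotent (MulAut.conj x • H : Subgroup G) := by
    intro x
    haveI := hH
    exact nilpotent_of_mulEquiv (Subgroup.equivSMul (MulAut.conj x) H)
  have hnil : ∀ K' : Subgroup G, K' ≤ K → K' ≠ K → Group.IsNilpotent K' := by
    intro K' hle hne
    obtain ⟨x, hx⟩ := hprop K' hle hne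
    haveI := hconjnil x
    haveI : Group.IsNilpotent (K'.subgroupOf (MulAut.conj x • H)) := inferInstance
    exact nilpotent_of_mulEquiv (Subgroup.subgroupOfEquivOfLe hx)
  haveI hKsolv : Group.IsSolvable K := by
    apply schmidt _ K rfl
    intro M' hM'
    have hne : M'.map K.subtype ≠ K := by
      intro he
      apply hM'.1
      rw [eq_top_iff]
      intro k _
      have h1 : (k : G) ∈ M'.map K.subtype := by rw [he]; exact k.2
      obtain ⟨k', hk', e⟩ := h1
      have h2 : k' = k := Subtype.ext e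
      rw [← h2]; exact hk'
    haveI := hnil (M'.map K.subtype) (Subgroup.map_subtype_le _) hne
    exact nilpotent_of_mulEquiv (M'.equivMapOfInjective K.subtype K.subtype_injective).symm
  haveI : Nontrivial K := (Subgroup.nontrivial_iff_ne_bot K).mpr hKbot
  obtain ⟨M', hM'n, hM'idx⟩ := exists_normal_prime_index K
  obtain ⟨M, hM⟩ : ∃ M : Subgroup G, M = M'.map K.subtype := ⟨_, rfl⟩
  have hMK : M ≤ K := by rw [hM]; exact Subgroup.map_subtype_le _
  have hMsub : M.subgroupOf K = M' := by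
    rw [hM, Subgroup.subgroupOf, Subgroup.comap_map_eq_self_of_injective K.subtype_injective]
  have hMne : M ≠ K := by
    intro he
    have h1 : M' = ⊤ := by
      rw [← hMsub, he]; exact Subgroup.subgroupOf_self K
    rw [h1, Subgroup.index_top] at hM'idx
    exact Nat.not_prime_one hM'idx
  obtain ⟨x, hx⟩ := hprop M hMK hMne
  have hcardH' : Nat.card (MulAut.conj x • H : Subgroup G) = Nat.card H :=
    helper3.card_conj_smul x H
  have hidxH' : (MulAut.conj x • H : Subgroup G).index = H.index := by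
    have h1 := Subgroup.card_mul_index (MulAut.conj x • H : Subgroup G)
    have h2 := Subgroup.card_mul_index H
    rw [hcardH'] at h1
    exact Nat.eq_of_mul_eq_mul_left Nat.card_pos (h1.trans h2.symm)
  have hpdvd : M'.index ∣ Nat.card H := hK _ hM'idx (Subgroup.index_dvd_card M')
  haveI : Fact M'.index.Prime := ⟨hM'idx⟩
  obtain ⟨y, hy⟩ := wielandt_step (MulAut.conj x • H) (hconjnil x)
    (by rw [hcardH', hidxH']; exact hHall) K M hx hMK (by rw [hMsub]; exact hM'n) M'.index
    (by rw [hMsub]) (by rw [hcardH']; exact hpdvd)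
  refine ⟨y * x, ?_⟩
  rw [map_mul, mul_smul]
  exact hy

/-- **Wielandt**: a nilpotent Hall `π`-subgroup contains a conjugate of every `π`-subgroup. -/
theorem wielandt {G : Type u} [Group G] [Finite G] (H K : Subgroup G)
    (hH : Group.IsNilpotent H) (hHall : (Nat.card H).Coprime H.index)
    (hK : ∀ p : ℕ, p.Prime → p ∣ Nat.card K → p ∣ Nat.card H) :
    ∃ x : G, K ≤ MulAut.conj x • H :=
  wielandt_aux _ H K hH hHall hK rfl

end Cfsg.Agent.helper23
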