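import Cfsg.Statements.S0551
import Mathlib.Tactic.Group
import Cfsg.Agent.Lib_helper18_SolvPrim
import Cfsg.Agent.Lib_helper23_PSolv3
import Cfsg.Agent.Lib_helper23_Hall
import Cfsg.Agent.Lib_helper23_Schmidt
import Cfsg.Agent.Lib_helper1_Core
import Cfsg.Agent.Lib_helper1_PCenter
import Cfsg.Agent.Lib_helper3_Basic

set_option autoImplicit false
open Pointwise
open Cfsg

namespace Cfsg.Agent.S0551

open scoped Pointwise

theorem le_normalizer_inf {G : Type*} [Group G] (L W : Subgroup G) [hL : L.Normal] :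
    W ≤ Subgroup.normalizer ((L ⊓ W : Subgroup G) : Set G) := by
  intro w hw
  rw [Subgroup.mem_normalizer_iff]
  intro h
  constructor
  · intro hh
    obtain ⟨h1, h2⟩ := Subgroup.mem_inf.mp hh
    exact Subgroup.mem_inf.mpr ⟨hL.conj_mem h h1 w, W.mul_mem (W.mul_mem hw h2) (W.inv_mem hw)⟩
  · intro hh
    obtain ⟨h1, h2⟩ := Subgroup.mem_inf.mp hh
    have e : h = w⁻¹ * (w * h * w⁻¹) * w⁻¹⁻¹ := by group
    rw [e]
    exact Subgroup.mem_inf.mpr ⟨hL.conj_mem _ h1 w⁻¹,
      W.mul_mem (W.mul_mem (W.inv_mem hw) h2) (W.inv_mem (W.inv_mem hw))⟩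

/-- In a finite solvable group all core-free maximal subgroups are conjugate. -/
theorem result {G : Type*} [Group G] [Finite G] [Group.IsSolvable G] (U V : Subgroup G) (hU : IsCoatom U) (hV : IsCoatom V) (hUc : U.normalCore = ⊥) (hVc : V.normalCore = ⊥) : ∃ g : G, MulAut.conj g • U = V := by
  classical
  have hGnt : (⊤ : Subgroup G) ≠ ⊥ := by
    intro h
    apply hU.1
    rw [eq_top_iff, h]; exact bot_le
  obtain ⟨N, hNn, hNb, hNmin⟩ : ∃ N : Subgroup G, N.Normal ∧ N ≠ ⊥ ∧
      ∀ K : Subgroup G, K.Normal → K ≤ N → K = ⊥ ∨ K = N := by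
    have hne : ({K : Subgroup G | K.Normal ∧ K ≠ ⊥} : Set (Subgroup G)).Nonempty :=
      ⟨⊤, inferInstance, hGnt⟩
    obtain ⟨N, hN, hmin⟩ := WellFounded.has_min (wellFounded_lt (α := Subgroup G)) _ hne
    refine ⟨N, hN.1, hN.2, fun K hK hKN => ?_⟩
    by_cases hKb : K = ⊥
    · exact Or.inl hKb
    · right
      by_contra hne'
      exact hmin K ⟨hK, hKb⟩ (lt_of_le_of_ne hKN hne')
  haveI := hNn
  have hNab : ∀ x ∈ N, ∀ y ∈ N, x * y = y * x :=
    helper18.SolvPrim.comm_of_minimal_normal N hNb hNmin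
  obtain ⟨p, hp, hNexp⟩ := helper18.SolvPrim.exists_prime_exponent N hNb hNmin hNab
  haveI : Fact p.Prime := ⟨hp⟩
  have hNp : IsPGroup p N := by
    intro ⟨x, hx⟩
    refine ⟨1, ?_⟩
    apply Subtype.ext
    rw [pow_one, Subgroup.coe_pow, Subgroup.coe_one]
    exact hNexp x hx
  have hsup : ∀ W : Subgroup G, IsCoatom W → W.normalCore = ⊥ → N ⊔ W = ⊤ := by
    intro W hW hWc
    apply hW.2
    apply lt_of_le_of_ne le_sup_right
    intro he
    have hNW : N ≤ W := by
      calc N ≤ N ⊔ W := le_sup_left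
        _ = W := he.symm
    have : N ≤ W.normalCore := Subgroup.normal_le_normalCore.mpr hNW
    rw [hWc] at this
    exact hNb (le_bot_iff.mp this)
  have hB : ∀ W : Subgroup G, IsCoatom W → W.normalCore = ⊥ → ∀ X : Subgroup G, X ≤ W →
      (∀ w ∈ W, ∀ x ∈ X, w * x * w⁻¹ ∈ X) → X ≤ Subgroup.centralizer (N : Set G) → X = ⊥ := by
    intro W hW hWc X hXW hinv hcen
    haveI hXn : X.Normal := by
      constructor
      intro x hx g
      have hg : g ∈ N ⊔ W := by rw [hsup W hW hWc]; exact Subgroup.mem_top g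
      rw [← SetLike.mem_coe, Subgroup.normal_mul] at hg
      obtain ⟨n, hn, w, hw, e⟩ := hg
      have e : n * w = g := e
      have h1 : w * x * w⁻¹ ∈ X := hinv w hw x hx
      have h2 := Subgroup.mem_centralizer_iff.mp (hcen h1) n hn
      have : g * x * g⁻¹ = w * x * w⁻¹ := by
        rw [← e]
        calc n * w * x * (n * w)⁻¹ = n * (w * x * w⁻¹) * n⁻¹ := by group
          _ = (w * x * w⁻¹) * n * n⁻¹ := by rw [h2]
          _ = w * x * w⁻¹ := by group
      rw [this]; exact h1
    have : X ≤ W.normalCore := Subgroup.normal_le_normalCore.mpr hXW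
    rw [hWc] at this
    exact le_bot_iff.mp this
  have hinf : ∀ W : Subgroup G, IsCoatom W → W.normalCore = ⊥ → N ⊓ W = ⊥ := by
    intro W hW hWc
    apply hB W hW hWc (N ⊓ W) inf_le_right
    · intro w hw x hx
      obtain ⟨hx1, hx2⟩ := Subgroup.mem_inf.mp hx
      exact Subgroup.mem_inf.mpr ⟨hNn.conj_mem x hx1 w, W.mul_mem (W.mul_mem hw hx2) (W.inv_mem hw)⟩
    · intro x hx
      rw [Subgroup.mem_centralizer_iff]
      intro n hn
      exact hNab n hn x (Subgroup.mem_inf.mp hx).1
  by_cases hNtop : N = ⊤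
  · have hU0 : U = ⊥ := by
      have := hinf U hU hUc
      rwa [hNtop, top_inf_eq] at this
    have hV0 : V = ⊥ := by
      have := hinf V hV hVc
      rwa [hNtop, top_inf_eq] at this
    refine ⟨1, ?_⟩
    rw [hU0, hV0, Subgroup.smul_bot]
  · haveI : Nontrivial (G ⧸ N) := by
      rw [← not_subsingleton_iff_nontrivial]
      intro hss
      exact hNtop (QuotientGroup.subgroup_eq_top_of_subsingleton N hss)
    obtain ⟨q, hq⟩ := helper23.exists_pCore_ne_bot_of_solvable (G ⧸ N)
    haveI : Fact (q : ℕ).Prime := ⟨q.2⟩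
    obtain ⟨O, hO⟩ : ∃ O : Subgroup (G ⧸ N), O = Cfsg.pCore (q : ℕ) (G ⧸ N) := ⟨_, rfl⟩
    have hOb : O ≠ ⊥ := by rw [hO]; exact hq
    haveI hOn : O.Normal := by rw [hO]; exact helper1.pCore_normal _
    have hOq : IsPGroup (q : ℕ) O := by rw [hO]; exact helper1.pCore_isPGroup _
    obtain ⟨L, hL⟩ : ∃ L : Subgroup G, L = O.comap (QuotientGroup.mk' N) := ⟨_, rfl⟩
    haveI hLn : L.Normal := by rw [hL]; exact hOn.comap _
    have hNL : N ≤ L := by
      rw [hL]
      intro x hx
      rw [Subgroup.mem_comap]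
      have : QuotientGroup.mk' N x = 1 := (QuotientGroup.eq_one_iff x).mpr hx
      rw [this]; exact O.one_mem
    have hLN : L ≠ N := by
      intro he
      apply hOb
      rw [eq_bot_iff]
      intro y hy
      obtain ⟨x, rfl⟩ := QuotientGroup.mk'_surjective N y
      have hxL : x ∈ L := by rw [hL]; exact hy
      rw [he] at hxL
      rw [Subgroup.mem_bot]
      exact (QuotientGroup.eq_one_iff x).mpr hxL
    have hLpow : ∀ x ∈ L, ∃ k : ℕ, x ^ ((q : ℕ) ^ k) ∈ N := by
      intro x hx
      have hx' : QuotientGroup.mk' N x ∈ O := by rw [hL] at hx; exact hx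
      obtain ⟨k, hk⟩ := hOq ⟨_, hx'⟩
      refine ⟨k, ?_⟩
      have h1 := congrArg Subtype.val hk
      rw [Subgroup.coe_pow, Subgroup.coe_one] at h1
      have h2 : (QuotientGroup.mk' N x) ^ ((q : ℕ) ^ k) = 1 := h1
      rw [← map_pow] at h2
      exact (QuotientGroup.eq_one_iff _).mp h2
    have hded : ∀ W : Subgroup G, IsCoatom W → W.normalCore = ⊥ → L = (L ⊓ W) ⊔ N := by
      intro W hW hWc
      apply le_antisymm
      · intro x hx
        have hg : x ∈ N ⊔ W := by rw [hsup W hW hWc]; exact Subgroup.mem_top x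
        rw [← SetLike.mem_coe, Subgroup.normal_mul] at hg
        obtain ⟨n, hn, w, hw, e⟩ := hg
        have e : n * w = x := e
        have hwL : w ∈ L := by
          have : w = n⁻¹ * x := by rw [← e]; group
          rw [this]; exact L.mul_mem (L.inv_mem (hNL hn)) hx
        rw [← e]
        exact Subgroup.mul_mem _ (Subgroup.mem_sup_right hn)
          (Subgroup.mem_sup_left (Subgroup.mem_inf.mpr ⟨hwL, hw⟩))
      · exact sup_le inf_le_left hNL
    have hLW : ∀ W : Subgroup G, IsCoatom W → W.normalCore = ⊥ → L ⊓ W ≠ ⊥ := by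
      intro W hW hWc h0
      have := hded W hW hWc
      rw [h0, bot_sup_eq] at this
      exact hLN this
    have hcardL : ∀ W : Subgroup G, IsCoatom W → W.normalCore = ⊥ →
        Nat.card L = Nat.card (L ⊓ W : Subgroup G) * Nat.card N := by
      intro W hW hWc
      have h1 := helper23.card_sup_mul_card_inf (L ⊓ W) N
      rw [← hded W hW hWc] at h1
      have h2 : N ⊓ (L ⊓ W) = ⊥ := by
        rw [eq_bot_iff, ← hinf W hW hWc]
        exact inf_le_inf_left N inf_le_right
      rw [h2, Subgroup.card_bot, mul_one] at h1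
      exact h1
    have hLWq : ∀ W : Subgroup G, IsCoatom W → W.normalCore = ⊥ →
        IsPGroup (q : ℕ) (L ⊓ W : Subgroup G) := by
      intro W hW hWc ⟨x, hx⟩
      obtain ⟨hx1, hx2⟩ := Subgroup.mem_inf.mp hx
      obtain ⟨k, hk⟩ := hLpow x hx1
      refine ⟨k, ?_⟩
      apply Subtype.ext
      rw [Subgroup.coe_pow, Subgroup.coe_one]
      have : x ^ ((q : ℕ) ^ k) ∈ N ⊓ W := Subgroup.mem_inf.mpr ⟨hk, W.pow_mem hx2 _⟩
      rw [hinf W hW hWc, Subgroup.mem_bot] at this
      exact this
    have hqp : (q : ℕ) ≠ p := by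
      intro hqp
      have hLp : IsPGroup p L := by
        intro ⟨x, hx⟩
        obtain ⟨k, hk⟩ := hLpow x hx
        refine ⟨k + 1, ?_⟩
        apply Subtype.ext
        rw [Subgroup.coe_pow, Subgroup.coe_one]
        have := hNexp _ hk
        rw [hqp] at this
        show x ^ (p ^ (k + 1)) = 1
        rw [pow_succ, pow_mul]; exact this
      have hMb : N.subgroupOf L ≠ ⊥ := by
        intro h0
        rw [Subgroup.subgroupOf_eq_bot] at h0
        have : N ≤ ⊥ := h0 le_rfl hNL
        exact hNb (le_bot_iff.mp this)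
      obtain ⟨z, hzM, hzc, hz1⟩ := helper1.exists_central_of_normal_ne_bot hLp (N.subgroupOf L) hMb
      have hKn : (N ⊓ Subgroup.centralizer (L : Set G)).Normal := inferInstance
      have hzK : (z : G) ∈ N ⊓ Subgroup.centralizer (L : Set G) := by
        refine Subgroup.mem_inf.mpr ⟨Subgroup.mem_subgroupOf.mp hzM, ?_⟩
        rw [Subgroup.mem_centralizer_iff]
        intro l hl
        have := Subgroup.mem_center_iff.mp hzc ⟨l, hl⟩
        exact congrArg Subtype.val this
      have hKN : N ⊓ Subgroup.centralizer (L : Set G) = N := by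
        rcases hNmin _ hKn inf_le_left with h0 | h0
        · exfalso
          rw [h0, Subgroup.mem_bot] at hzK
          apply hz1
          exact Subtype.ext hzK
        · exact h0
      have hNcL : N ≤ Subgroup.centralizer (L : Set G) := by
        intro x hx
        have : x ∈ N ⊓ Subgroup.centralizer (L : Set G) := by rw [hKN]; exact hx
        exact (Subgroup.mem_inf.mp this).2
      have hLcN : L ≤ Subgroup.centralizer (N : Set G) := Subgroup.le_centralizer_iff.mp hNcL
      have h0 : L ⊓ U = ⊥ := by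
        apply hB U hU hUc (L ⊓ U) inf_le_right
        · intro w hw x hx
          obtain ⟨hx1, hx2⟩ := Subgroup.mem_inf.mp hx
          exact Subgroup.mem_inf.mpr ⟨hLn.conj_mem x hx1 w,
            U.mul_mem (U.mul_mem hw hx2) (U.inv_mem hw)⟩
        · exact le_trans inf_le_left hLcN
      exact hLW U hU hUc h0
    have hSyl : ∀ W : Subgroup G, IsCoatom W → W.normalCore = ⊥ → ∀ P : Sylow (q : ℕ) G,
        L ⊓ W ≤ (P : Subgroup G) → (P : Subgroup G) ⊓ L = L ⊓ W := by
      intro W hW hWc P hle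
      symm
      apply Subgroup.eq_of_le_of_card_ge (le_inf hle inf_le_left)
      have hPLq : IsPGroup (q : ℕ) ((P : Subgroup G) ⊓ L : Subgroup G) := P.2.to_le inf_le_left
      obtain ⟨c, hc⟩ := hPLq.exists_card_eq
      obtain ⟨a, ha⟩ := hNp.exists_card_eq
      have hdvd : Nat.card ((P : Subgroup G) ⊓ L : Subgroup G) ∣ Nat.card L :=
        Subgroup.card_dvd_of_le inf_le_right
      rw [hcardL W hW hWc, ha] at hdvd
      have hcop : (Nat.card ((P : Subgroup G) ⊓ L : Subgroup G)).Coprime (p ^ a) := by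
        rw [hc]
        exact Nat.Coprime.pow _ _ ((Nat.coprime_primes q.2 hp).mpr hqp)
      exact Nat.le_of_dvd Nat.card_pos (hcop.dvd_of_dvd_mul_right hdvd)
    obtain ⟨PU, hPU⟩ := (hLWq U hU hUc).exists_le_sylow
    obtain ⟨PV, hPV⟩ := (hLWq V hV hVc).exists_le_sylow
    obtain ⟨g, hg⟩ := MulAction.exists_smul_eq G PU PV
    refine ⟨g, ?_⟩
    have hU' : IsCoatom (MulAut.conj g • U) := helper23.isCoatom_conj_smul g hU
    have hD : L ⊓ (MulAut.conj g • U) = L ⊓ V := by
      have h1 : (PV : Subgroup G) = MulAut.conj g • (PU : Subgroup G) := by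
        rw [← hg]; rfl
      calc L ⊓ (MulAut.conj g • U) = (MulAut.conj g • L) ⊓ (MulAut.conj g • U) := by
            rw [Subgroup.Normal.conj_smul_eq_self g L]
        _ = MulAut.conj g • (L ⊓ U) := (Subgroup.smul_inf _ _ _).symm
        _ = MulAut.conj g • ((PU : Subgroup G) ⊓ L) := by rw [hSyl U hU hUc PU hPU]
        _ = (MulAut.conj g • (PU : Subgroup G)) ⊓ (MulAut.conj g • L) := Subgroup.smul_inf _ _ _
        _ = (PV : Subgroup G) ⊓ L := by rw [← h1, Subgroup.Normal.conj_smul_eq_self g L]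
        _ = L ⊓ V := hSyl V hV hVc PV hPV
    have hNV : Subgroup.normalizer ((L ⊓ V : Subgroup G) : Set G) = V := by
      have h1 : V ≤ Subgroup.normalizer ((L ⊓ V : Subgroup G) : Set G) := le_normalizer_inf L V
      rcases hV.le_iff.mp h1 with h2 | h2
      · exfalso
        haveI hn : (L ⊓ V).Normal := Subgroup.normalizer_eq_top_iff.mp h2
        have : L ⊓ V ≤ V.normalCore := Subgroup.normal_le_normalCore.mpr inf_le_right
        rw [hVc] at this
        exact hLW V hV hVc (le_bot_iff.mp this)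
      · exact h2
    have hle : MulAut.conj g • U ≤ V := by
      have h1 : MulAut.conj g • U ≤
          Subgroup.normalizer ((L ⊓ (MulAut.conj g • U) : Subgroup G) : Set G) :=
        le_normalizer_inf L _
      rw [hD, hNV] at h1
      exact h1
    rcases hU'.le_iff.mp hle with h2 | h2
    · exact absurd h2 hV.1
    · exact h2.symm

end Cfsg.Agent.S0551
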