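import Mathlib
import Cfsg.Prelude.Def_SolvableStructure
import Cfsg.Agent.Lib_helper23_PSolv
import Cfsg.Agent.Lib_helper23_PSolv3
import Cfsg.Agent.Lib_helper23_Hall
import Cfsg.Agent.Lib_helper23_HallConv
import Cfsg.Agent.Lib_helper23_Wielandt
import Cfsg.Agent.Lib_helper1_Core
import Cfsg.Agent.Lib_helper3_Basic
import Cfsg.Agent.Lib_helper18_SolvPrim
import Cfsg.Agent.S0551

set_option autoImplicit false
set_option linter.deprecated false
set_option linter.style.haveILetI false

namespace Cfsg.Agent.helper23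
universe u
open scoped Pointwise

/-- A self-normalizing subgroup of a nilpotent group is the whole group. -/
theorem eq_top_of_normalizer_eq_of_nilpotent {G : Type*} [Group G] [Group.IsNilpotent G]
    (D : Subgroup G) (h : Subgroup.normalizer (D : Set G) = D) : D = ⊤ :=
  normalizerCondition_iff_only_full_group_self_normalizing.mp normalizerCondition_of_isNilpotent D h

theorem isNilpotent_conj_smul {G : Type*} [Group G] (x : G) (C : Subgroup G)
    (h : Group.IsNilpotent C) : Group.IsNilpotent (MulAut.conj x • C : Subgroup G) := by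
  haveI := h
  exact nilpotent_of_mulEquiv (Subgroup.equivSMul (MulAut.conj x) C)

/-- Conjugates of Carter subgroups are Carter subgroups. -/
theorem isCarter_conj_smul {G : Type*} [Group G] (x : G) {C : Subgroup G}
    (h : Cfsg.IsCarterSubgroup C) : Cfsg.IsCarterSubgroup (MulAut.conj x • C) := by
  refine ⟨isNilpotent_conj_smul x C h.1, ?_⟩
  apply le_antisymm
  · intro g hg
    rw [← helper3.conj_smul_eq_self_iff] at hg
    rw [helper3.mem_conj_smul_iff]
    have h1 : MulAut.conj (x⁻¹ * g * x) • C = C := by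
      rw [map_mul, map_mul, mul_smul, mul_smul, hg, map_inv, inv_smul_smul]
    have h2 : x⁻¹ * g * x ∈ Subgroup.normalizer (C : Set G) :=
      (helper3.conj_smul_eq_self_iff _ C).mp h1
    rw [h.2] at h2
    exact h2
  · exact Subgroup.le_normalizer

/-- Carter subgroups restrict to intermediate subgroups. -/
theorem isCarter_subgroupOf {G : Type*} [Group G] {C K : Subgroup G} (hCK : C ≤ K)
    (h : Cfsg.IsCarterSubgroup C) : Cfsg.IsCarterSubgroup (C.subgroupOf K) := by
  refine ⟨?_, ?_⟩
  · haveI := h.1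
    exact nilpotent_of_mulEquiv (Subgroup.subgroupOfEquivOfLe hCK).symm
  · rw [← Subgroup.subgroupOf_normalizer_eq hCK, h.2]

/-- Conjugacy inside a subgroup transfers to the ambient group. -/
theorem conj_smul_eq_of_subgroupOf {G : Type*} [Group G] {A B K : Subgroup G} (hA : A ≤ K)
    (hB : B ≤ K) (k : K)
    (h : MulAut.conj k • A.subgroupOf K = B.subgroupOf K) : MulAut.conj (k : G) • A = B := by
  ext y
  rw [helper3.mem_conj_smul_iff]
  constructor
  · intro hy
    have hyK : y ∈ K := by
      have h1 : y = (k : G) * ((k : G)⁻¹ * y * (k : G)) * (k : G)⁻¹ := by group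
      rw [h1]
      exact K.mul_mem (K.mul_mem k.2 (hA hy)) (K.inv_mem k.2)
    have h2 : (⟨y, hyK⟩ : K) ∈ MulAut.conj k • A.subgroupOf K := by
      rw [helper3.mem_conj_smul_iff]
      exact Subgroup.mem_subgroupOf.mpr hy
    rw [h] at h2
    exact Subgroup.mem_subgroupOf.mp h2
  · intro hy
    have h2 : (⟨y, hB hy⟩ : K) ∈ B.subgroupOf K := Subgroup.mem_subgroupOf.mpr hy
    rw [← h, helper3.mem_conj_smul_iff] at h2
    exact Subgroup.mem_subgroupOf.mp h2

theorem map_conj_smul {G X : Type*} [Group G] [Group X] (f : G →* X) (g : G) (C : Subgroup G) :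
    (MulAut.conj g • C).map f = MulAut.conj (f g) • C.map f := by
  ext y
  rw [helper3.mem_conj_smul_iff]
  constructor
  · rintro ⟨z, hz, rfl⟩
    rw [SetLike.mem_coe, helper3.mem_conj_smul_iff] at hz
    exact ⟨g⁻¹ * z * g, hz, by simp⟩
  · rintro ⟨c, hc, hcy⟩
    refine ⟨g * c * g⁻¹, helper3.conj_mem_conj_smul g c C hc, ?_⟩
    rw [map_mul, map_mul, hcy, map_inv]
    group


/-- Conjugacy of Carter subgroups in all solvable groups of order `< n`. -/
def CarterConjBelow.{v} (n : ℕ) : Prop :=
  ∀ m < n, ∀ (X : Type v) [Group X] [Finite X] [Group.IsSolvable X], Nat.card X = m →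
    ∀ C D : Subgroup X, Cfsg.IsCarterSubgroup C → Cfsg.IsCarterSubgroup D →
      ∃ g : X, MulAut.conj g • C = D

/-- Images of Carter subgroups are Carter subgroups (given conjugacy in smaller groups). -/
theorem isCarter_map {G : Type u} [Group G] [Finite G] [Group.IsSolvable G]
    (ih : CarterConjBelow.{u} (Nat.card G)) {X : Type*} [Group X] (f : G →* X)
    (hf : Function.Surjective f)
    {C : Subgroup G} (hC : Cfsg.IsCarterSubgroup C) : Cfsg.IsCarterSubgroup (C.map f) := by
  refine ⟨?_, ?_⟩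
  · haveI := hC.1
    exact nilpotent_of_surjective (f.subgroupMap C) (f.subgroupMap_surjective C)
  · apply le_antisymm _ Subgroup.le_normalizer
    intro y hy
    obtain ⟨x, rfl⟩ := hf y
    obtain ⟨K, hK⟩ : ∃ K : Subgroup G, K = C ⊔ f.ker := ⟨_, rfl⟩
    have hCK : C ≤ K := hK ▸ le_sup_left
    have hKcomap : K = (C.map f).comap f := by rw [hK, Subgroup.comap_map_eq]
    have hxC : MulAut.conj x • C ≤ K := by
      intro z hz
      rw [helper3.mem_conj_smul_iff] at hz
      rw [hKcomap, Subgroup.mem_comap]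
      have h1 : f (x⁻¹ * z * x) ∈ C.map f := Subgroup.mem_map_of_mem _ hz
      have h2 := (Subgroup.mem_normalizer_iff.mp hy _).mp h1
      have h3 : f x * f (x⁻¹ * z * x) * (f x)⁻¹ = f z := by
        rw [← map_inv, ← map_mul, ← map_mul]; congr 1; group
      rw [h3] at h2
      exact h2
    suffices hxK : x ∈ K by
      rw [hKcomap, Subgroup.mem_comap] at hxK; exact hxK
    by_cases hKtop : K = ⊤
    · rw [hKtop]; exact Subgroup.mem_top x
    · have hlt : Nat.card K < Nat.card G := by
        apply lt_of_le_of_ne (Subgroup.card_le_card_group K)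
        intro he
        exact hKtop ((Subgroup.card_eq_iff_eq_top K).mp he)
      obtain ⟨k, hk⟩ := ih _ hlt K rfl (C.subgroupOf K) ((MulAut.conj x • C).subgroupOf K)
        (isCarter_subgroupOf hCK hC) (isCarter_subgroupOf hxC (isCarter_conj_smul x hC))
      have h1 := conj_smul_eq_of_subgroupOf hCK hxC k hk
      have h2 : (k : G)⁻¹ * x ∈ Subgroup.normalizer (C : Set G) := by
        rw [← helper3.conj_smul_eq_self_iff, map_mul, mul_smul, ← h1, map_inv, inv_smul_smul]
      rw [hC.2] at h2
      have h3 : x = (k : G) * ((k : G)⁻¹ * x) := by group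
      rw [h3]
      exact K.mul_mem k.2 (hCK h2)

/-- In a nilpotent group, elements of order prime to `p` lie in `O_{p'}`. -/
theorem mem_pPrimeCore_of_nilpotent {X : Type*} [Group X] [Finite X] (hX : Group.IsNilpotent X)
    (p : ℕ) [hp : Fact p.Prime] (m : X) (a : ℕ) (hma : m ^ a = 1) (hap : a.Coprime p) :
    m ∈ Cfsg.pPrimeCore p X := by
  classical
  have hsyl : ∀ (q : ℕ) (_ : Fact q.Prime) (Q : Sylow q X), (Q : Subgroup X).Normal :=
    ((Group.isNilpotent_of_finite_tfae (G := X)).out 0 3).mp hX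
  haveI hC'n : (Cfsg.pPrimeCore p X).Normal := helper1.pPrimeCore_normal p
  have hC'idx : ∀ q : ℕ, q.Prime → q ≠ p → ¬ q ∣ (Cfsg.pPrimeCore p X).index := by
    intro q hq hqp hdvd
    haveI : Fact q.Prime := ⟨hq⟩
    obtain ⟨Q⟩ : Nonempty (Sylow q X) := Sylow.nonempty
    have hQn : (Q : Subgroup X).Normal := hsyl q ⟨hq⟩ Q
    have hQle : (Q : Subgroup X) ≤ Cfsg.pPrimeCore p X := by
      apply helper1.le_pPrimeCore hQn
      obtain ⟨k, hk⟩ := Q.2.exists_card_eq
      rw [hk]
      exact Nat.Coprime.pow_left _ ((Nat.coprime_primes hq hp.out).mpr hqp)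
    have h1 : (Cfsg.pPrimeCore p X).index ∣ (Q : Subgroup X).index :=
      Subgroup.index_dvd_of_le hQle
    exact Q.not_dvd_index (hdvd.trans h1)
  have hC'pow : ∃ k, (Cfsg.pPrimeCore p X).index = p ^ k :=
    ⟨_, Nat.eq_prime_pow_of_unique_prime_dvd Subgroup.index_ne_zero_of_finite
      (fun {d} hd hdvd => by
        by_contra hne
        exact hC'idx d hd hne hdvd)⟩
  obtain ⟨k, hk⟩ := hC'pow
  apply mem_of_pow_eq_one_of_coprime_index hma
  rw [hk]; exact Nat.Coprime.pow_right _ hap

/-- Hall conjugacy inside `Q N` for a Hall `p'`-subgroup `Q`. -/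
theorem mem_normalizer_sup_of_conj_le_hall {G : Type u} [Group G] [Finite G]
    [Group.IsSolvable G] {p : ℕ} (hp : p.Prime) {Q : Subgroup G}
    (hQ : Q.index = p ^ (Nat.card G).factorization p) (N : Subgroup G) [N.Normal]
    (x : G) (hx : MulAut.conj x • Q ≤ Q ⊔ N) :
    x ∈ Subgroup.normalizer (Q : Set G) ⊔ N := by
  classical
  obtain ⟨H, hH⟩ : ∃ H : Subgroup G, H = Q ⊔ N := ⟨_, rfl⟩
  rw [← hH] at hx
  have hKH : Q ≤ H := hH ▸ le_sup_left
  have hcardA : Nat.card (Q.subgroupOf H) = Nat.card Q := by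
    rw [← Subgroup.card_map_of_injective (K := Q.subgroupOf H) H.subtype_injective,
      Subgroup.subgroupOf_map_subtype, inf_of_le_left hKH]
  have hcardB : Nat.card ((MulAut.conj x • Q).subgroupOf H) = Nat.card Q := by
    rw [← Subgroup.card_map_of_injective (K := (MulAut.conj x • Q).subgroupOf H)
      H.subtype_injective, Subgroup.subgroupOf_map_subtype, inf_of_le_left hx,
      helper3.card_conj_smul]
  have hridx : Q.relIndex H ∣ p ^ (Nat.card G).factorization p := by
    rw [← hQ]; exact Subgroup.relIndex_dvd_index_of_le hKH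
  obtain ⟨j, -, hj⟩ := (Nat.dvd_prime_pow hp).mp hridx
  have hcardH : Nat.card H = Nat.card Q * p ^ j := by
    have h1 : Nat.card (Q.subgroupOf H) * Q.relIndex H = Nat.card H :=
      Subgroup.card_mul_index (Q.subgroupOf H)
    rw [hcardA, hj] at h1
    exact h1.symm
  have hcop : (Nat.card Q).Coprime (p ^ j) :=
    Nat.Coprime.pow_right _ (card_coprime_of_index_eq hp hQ)
  obtain ⟨g, hg⟩ := hall_conj (G := H) _ _ hcardH hcop _ _ hcardA hcardB
  have hle : MulAut.conj x • Q ≤ MulAut.conj (g : G) • Q := by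
    intro y hy
    have hyH : y ∈ H := hx hy
    have h1 : (⟨y, hyH⟩ : H) ∈ (MulAut.conj x • Q).subgroupOf H :=
      Subgroup.mem_subgroupOf.mpr hy
    rw [← hg, helper3.mem_conj_smul_iff] at h1
    rw [helper3.mem_conj_smul_iff]
    exact Subgroup.mem_subgroupOf.mp h1
  have heq : MulAut.conj x • Q = MulAut.conj (g : G) • Q :=
    Subgroup.eq_of_le_of_card_ge hle (by rw [helper3.card_conj_smul, helper3.card_conj_smul])
  have hnorm : (g : G)⁻¹ * x ∈ Subgroup.normalizer (Q : Set G) := by
    rw [← helper3.conj_smul_eq_self_iff, map_mul, mul_smul, heq, map_inv, inv_smul_smul]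
  have hgmem : (g : G) ∈ Subgroup.normalizer (Q : Set G) ⊔ N := by
    have h1 : (g : G) ∈ Q ⊔ N := hH ▸ g.2
    exact (sup_le_sup_right Subgroup.le_normalizer N) h1
  have h2 : x = (g : G) * ((g : G)⁻¹ * x) := by group
  rw [h2]
  exact Subgroup.mul_mem _ hgmem (Subgroup.mem_sup_left hnorm)


/-- Existence of Carter subgroups when `G/N` is nilpotent for a normal `p`-subgroup `N`. -/
theorem exists_carter_of_nilpotent_quotient {G : Type u} [Group G] [Finite G]
    [Group.IsSolvable G] (p : ℕ) [hp : Fact p.Prime] (N : Subgroup G) [hN : N.Normal]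
    (hNp : IsPGroup p N) (hGN : Group.IsNilpotent (G ⧸ N)) :
    ∃ C : Subgroup G, Cfsg.IsCarterSubgroup C := by
  classical
  have hn0 : Nat.card G ≠ 0 := Nat.card_pos.ne'
  obtain ⟨Q, hQcard⟩ := hall_exists (G := G) (Nat.card G / p ^ (Nat.card G).factorization p)
    (p ^ (Nat.card G).factorization p)
    (Nat.div_mul_cancel (Nat.ordProj_dvd _ _)).symm
    (Nat.Coprime.pow_right _ (Nat.coprime_ordCompl hp.out hn0).symm)
  have hQidx : Q.index = p ^ (Nat.card G).factorization p := by
    have h1 := Subgroup.card_mul_index Q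
    rw [hQcard] at h1
    have h2 : Nat.card G / p ^ (Nat.card G).factorization p * p ^ (Nat.card G).factorization p =
        Nat.card G := Nat.div_mul_cancel (Nat.ordProj_dvd _ _)
    have hpos : 0 < Nat.card G / p ^ (Nat.card G).factorization p := Nat.ordCompl_pos p hn0
    exact Nat.eq_of_mul_eq_mul_left hpos (h1.trans h2.symm)
  have hQcop : (Nat.card Q).Coprime p := card_coprime_of_index_eq hp.out hQidx
  obtain ⟨C, hC⟩ : ∃ C : Subgroup G, C = Subgroup.normalizer (Q : Set G) := ⟨_, rfl⟩
  have hQC : Q ≤ C := hC ▸ Subgroup.le_normalizer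
  haveI hQ'n : (Q.subgroupOf C).Normal := by rw [hC]; exact Subgroup.normal_in_normalizer
  have hQ'idx : ∃ j, (Q.subgroupOf C).index = p ^ j := by
    have h1 : Q.relIndex C ∣ Q.index := Subgroup.relIndex_dvd_index_of_le hQC
    rw [hQidx] at h1
    obtain ⟨j, -, hj⟩ := (Nat.dvd_prime_pow hp.out).mp h1
    exact ⟨j, hj⟩
  refine ⟨C, ?_, ?_⟩
  · obtain ⟨j, hj⟩ := hQ'idx
    haveI h1 : Group.IsNilpotent (C ⧸ Q.subgroupOf C) := by
      have h2 : IsPGroup p (C ⧸ Q.subgroupOf C) :=
        IsPGroup.of_card (n := j) (by rw [← Subgroup.index_eq_card]; exact hj)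
      exact h2.isNilpotent
    haveI := hGN
    let φ : C →* (C ⧸ Q.subgroupOf C) × (G ⧸ N) :=
      MonoidHom.prod (QuotientGroup.mk' (Q.subgroupOf C)) ((QuotientGroup.mk' N).comp C.subtype)
    have hφ : Function.Injective φ := by
      rw [injective_iff_map_eq_one]
      intro c hc
      have hc1 : QuotientGroup.mk' (Q.subgroupOf C) c = 1 := congrArg Prod.fst hc
      have hc2 : QuotientGroup.mk' N (c : G) = 1 := congrArg Prod.snd hc
      have h3 : (c : G) ∈ Q := Subgroup.mem_subgroupOf.mp ((QuotientGroup.eq_one_iff c).mp hc1)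
      have h4 : (c : G) ∈ N := (QuotientGroup.eq_one_iff (c : G)).mp hc2
      have h5 : (c : G) ∈ Q ⊓ N := Subgroup.mem_inf.mpr ⟨h3, h4⟩
      have h6 : Q ⊓ N = ⊥ := by
        apply Subgroup.inf_eq_bot_of_coprime
        obtain ⟨k, hk⟩ := hNp.exists_card_eq
        rw [hk]; exact Nat.Coprime.pow_right _ hQcop
      rw [h6, Subgroup.mem_bot] at h5
      exact Subtype.ext h5
    haveI : Group.IsNilpotent φ.range := inferInstance
    exact nilpotent_of_mulEquiv (MonoidHom.ofInjective hφ).symm
  · apply le_antisymm _ Subgroup.le_normalizer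
    intro g hg
    rw [hC, ← helper3.conj_smul_eq_self_iff]
    have hgC : MulAut.conj g • C = C := (helper3.conj_smul_eq_self_iff g C).mpr hg
    apply Subgroup.eq_of_le_of_card_ge
    · intro y hy
      have hyC : y ∈ C := by
        rw [← hgC]; exact conj_smul_mono g hQC hy
      have hypow : y ^ Nat.card Q = 1 := by
        rw [helper3.mem_conj_smul_iff] at hy
        have h1 : (g⁻¹ * y * g) ^ Nat.card Q = 1 :=
          orderOf_dvd_iff_pow_eq_one.mp (Subgroup.orderOf_dvd_natCard Q hy)
        have h2 : y = g * (g⁻¹ * y * g) * g⁻¹ := by group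
        rw [h2, conj_pow, h1, mul_one, mul_inv_cancel]
      obtain ⟨j, hj⟩ := hQ'idx
      have h3 : (⟨y, hyC⟩ : C) ∈ Q.subgroupOf C := by
        apply mem_of_pow_eq_one_of_coprime_index (a := Nat.card Q)
        · apply Subtype.ext; rw [Subgroup.coe_pow, Subgroup.coe_one]; exact hypow
        · rw [hj]; exact Nat.Coprime.pow_right _ hQcop
      exact Subgroup.mem_subgroupOf.mp h3
    · rw [helper3.card_conj_smul]


theorem normal_inf_of_sup_top {G : Type*} [Group G] (N W Y : Subgroup G) [hN : N.Normal]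
    (hNab : ∀ x ∈ N, ∀ y ∈ N, x * y = y * x) (hsup : N ⊔ W = ⊤) (hWY : W ≤ Y) :
    (Y ⊓ N).Normal := by
  constructor
  intro x hx g
  obtain ⟨hxY, hxN⟩ := Subgroup.mem_inf.mp hx
  have hg : g ∈ N ⊔ W := by rw [hsup]; exact Subgroup.mem_top g
  rw [← SetLike.mem_coe, Subgroup.normal_mul] at hg
  obtain ⟨n, hn, w, hw, e⟩ := hg
  have e : n * w = g := e
  have h1 : w * x * w⁻¹ ∈ Y ⊓ N :=
    Subgroup.mem_inf.mpr ⟨Y.mul_mem (Y.mul_mem (hWY hw) hxY) (Y.inv_mem (hWY hw)),
      hN.conj_mem x hxN w⟩
  have h2 : n * (w * x * w⁻¹) = (w * x * w⁻¹) * n := hNab n hn _ (Subgroup.mem_inf.mp h1).2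
  have h3 : g * x * g⁻¹ = w * x * w⁻¹ := by
    rw [← e]
    calc n * w * x * (n * w)⁻¹ = n * (w * x * w⁻¹) * n⁻¹ := by group
      _ = (w * x * w⁻¹) * n * n⁻¹ := by rw [h2]
      _ = w * x * w⁻¹ := by group
  rw [h3]; exact h1

theorem card_quotient_lt {G : Type*} [Group G] [Finite G] (N : Subgroup G) [N.Normal]
    (hN : N ≠ ⊥) : Nat.card (G ⧸ N) < Nat.card G := by
  rw [Subgroup.card_eq_card_quotient_mul_card_subgroup N]
  have h1 : 1 < Nat.card N := (Subgroup.one_lt_card_iff_ne_bot N).mpr hN
  have h2 : 0 < Nat.card (G ⧸ N) := Nat.card_pos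
  nlinarith

theorem card_lt_of_ne_top {G : Type*} [Group G] [Finite G] (K : Subgroup G) (hK : K ≠ ⊤) :
    Nat.card K < Nat.card G := by
  apply lt_of_le_of_ne (Subgroup.card_le_card_group K)
  intro he
  exact hK ((Subgroup.card_eq_iff_eq_top K).mp he)

theorem carter_aux : ∀ (n : ℕ) (G : Type u) [Group G] [Finite G] [Group.IsSolvable G],
    Nat.card G = n →
    (∃ C : Subgroup G, Cfsg.IsCarterSubgroup C) ∧
    ∀ C D : Subgroup G, Cfsg.IsCarterSubgroup C → Cfsg.IsCarterSubgroup D →
      ∃ g : G, MulAut.conj g • C = D := by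
  intro n
  induction n using Nat.strong_induction_on with
  | _ n ih =>
  intro G _ _ _ hn
  classical
  have ihconj : CarterConjBelow.{u} (Nat.card G) := by
    intro m hm X _ _ _ hX C D hC hD
    exact (ih m (hn ▸ hm) X hX).2 C D hC hD
  by_cases hnt : Nontrivial G
  swap
  · haveI : Subsingleton G := not_nontrivial_iff_subsingleton.mp hnt
    refine ⟨⟨⊤, inferInstance, Subgroup.normalizer_eq_top_iff.mpr inferInstance⟩, ?_⟩
    intro C D _ _
    refine ⟨1, ?_⟩
    rw [Subgroup.eq_bot_of_subsingleton C, Subgroup.eq_bot_of_subsingleton D, Subgroup.smul_bot]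
  haveI := hnt
  constructor
  · -- existence
    obtain ⟨q, hq⟩ := exists_pCore_ne_bot_of_solvable G
    haveI : Fact (q : ℕ).Prime := ⟨q.2⟩
    obtain ⟨N, hN⟩ : ∃ N : Subgroup G, N = Cfsg.pCore (q : ℕ) G := ⟨_, rfl⟩
    have hNne : N ≠ ⊥ := by rw [hN]; exact hq
    haveI hNn : N.Normal := by rw [hN]; exact helper1.pCore_normal _
    have hNp : IsPGroup (q : ℕ) N := by rw [hN]; exact helper1.pCore_isPGroup _
    have hlt : Nat.card (G ⧸ N) < n := hn ▸ card_quotient_lt N hNne
    obtain ⟨Kb, hKb⟩ := (ih _ hlt (G ⧸ N) rfl).1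
    obtain ⟨f, hf⟩ : ∃ f : G →* G ⧸ N, f = QuotientGroup.mk' N := ⟨_, rfl⟩
    have hfs : Function.Surjective f := by rw [hf]; exact QuotientGroup.mk'_surjective N
    have hfk : f.ker = N := by rw [hf]; exact QuotientGroup.ker_mk' N
    obtain ⟨K, hK⟩ : ∃ K : Subgroup G, K = Kb.comap f := ⟨_, rfl⟩
    have hNK : N ≤ K := by
      rw [hK]
      intro x hx
      rw [Subgroup.mem_comap]
      have h1 : f x = 1 := by rw [← MonoidHom.mem_ker, hfk]; exact hx
      rw [h1]; exact Subgroup.one_mem _
    have hKmap : K.map f = Kb := by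
      rw [hK]; exact Subgroup.map_comap_eq_self_of_surjective hfs Kb
    by_cases hKtop : K = ⊤
    · have hKbtop : Kb = ⊤ := by
        rw [← hKmap, hKtop]; exact Subgroup.map_top_of_surjective _ hfs
      have hGN : Group.IsNilpotent (G ⧸ N) := by
        haveI : Group.IsNilpotent (⊤ : Subgroup (G ⧸ N)) := hKbtop ▸ hKb.1
        exact nilpotent_of_mulEquiv Subgroup.topEquiv
      exact exists_carter_of_nilpotent_quotient (q : ℕ) N hNp hGN
    · have hKlt : Nat.card K < n := hn ▸ card_lt_of_ne_top K hKtop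
      obtain ⟨C', hC'⟩ := (ih _ hKlt K rfl).1
      have ihK : CarterConjBelow.{u} (Nat.card K) := by
        intro m hm X _ _ _ hX C D hC hD
        exact (ih m (hm.trans hKlt) X hX).2 C D hC hD
      obtain ⟨C, hCdef⟩ : ∃ C : Subgroup G, C = C'.map K.subtype := ⟨_, rfl⟩
      have hCK : C ≤ K := by rw [hCdef]; exact Subgroup.map_subtype_le _
      have hCsub : C.subgroupOf K = C' := by
        rw [hCdef, Subgroup.subgroupOf,
          Subgroup.comap_map_eq_self_of_injective K.subtype_injective]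
      have hsupK : C ⊔ N = K := by
        apply le_antisymm (sup_le hCK hNK)
        haveI hnilKb : Group.IsNilpotent (K.map f) := hKmap ▸ hKb.1
        have hcar := isCarter_map ihK (f.subgroupMap K) (f.subgroupMap_surjective K) hC'
        have htop : C'.map (f.subgroupMap K) = ⊤ :=
          eq_top_of_normalizer_eq_of_nilpotent _ hcar.2
        have h1 : C' ⊔ (f.subgroupMap K).ker = ⊤ := by
          rw [← Subgroup.comap_map_eq, htop, Subgroup.comap_top]
        have hker : ((f.subgroupMap K).ker).map K.subtype ≤ N := by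
          rintro _ ⟨k, hk, rfl⟩
          rw [← hfk, MonoidHom.mem_ker]
          have h2 : (f.subgroupMap K) k = 1 := hk
          have h3 := congrArg Subtype.val h2
          exact h3
        have h4 : K = (C' ⊔ (f.subgroupMap K).ker).map K.subtype := by
          rw [h1, ← MonoidHom.range_eq_map, Subgroup.range_subtype]
        rw [h4, Subgroup.map_sup, ← hCdef]
        exact sup_le_sup_left hker C
      refine ⟨C, ?_, ?_⟩
      · haveI := hC'.1
        rw [hCdef]
        exact nilpotent_of_mulEquiv (C'.equivMapOfInjective K.subtype K.subtype_injective)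
      · apply le_antisymm _ Subgroup.le_normalizer
        intro g hg
        have hgC : MulAut.conj g • C = C := (helper3.conj_smul_eq_self_iff g C).mpr hg
        have hgK : MulAut.conj g • K = K := by
          rw [← hsupK, Subgroup.smul_sup, hgC, Subgroup.Normal.conj_smul_eq_self g N]
        have hgK' : g ∈ Subgroup.normalizer (K : Set G) :=
          (helper3.conj_smul_eq_self_iff g K).mp hgK
        have h1 : f g ∈ Subgroup.normalizer ((K.map f : Subgroup (G ⧸ N)) : Set (G ⧸ N)) :=
          Subgroup.le_normalizer_map f (Subgroup.mem_map_of_mem f hgK')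
        rw [hKmap, hKb.2] at h1
        have hgmem : g ∈ K := by rw [hK]; exact h1
        have h2 : (⟨g, hgmem⟩ : K) ∈ (Subgroup.normalizer (C : Set G)).subgroupOf K :=
          Subgroup.mem_subgroupOf.mpr hg
        rw [Subgroup.subgroupOf_normalizer_eq hCK, hCsub, hC'.2] at h2
        rw [hCdef]
        exact ⟨⟨g, hgmem⟩, h2, rfl⟩
  · -- conjugacy
    intro C D hC hD
    have hGnt : (⊤ : Subgroup G) ≠ ⊥ := top_ne_bot
    obtain ⟨N, hNn, hNb, hNmin⟩ : ∃ N : Subgroup G, N.Normal ∧ N ≠ ⊥ ∧
        ∀ K : Subgroup G, K.Normal → K ≤ N → K = ⊥ ∨ K = N := by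
      have hne : ({K : Subgroup G | K.Normal ∧ K ≠ ⊥} : Set (Subgroup G)).Nonempty :=
        ⟨⊤, inferInstance, hGnt⟩
      obtain ⟨N, hN, hmin⟩ := WellFounded.has_min (wellFounded_lt (α := Subgroup G)) _ hne
      refine ⟨N, hN.1, hN.2, fun K hK hKN => ?_⟩
      by_cases hKb : K = ⊥
      · exact Or.inl hKb
      · right
        by_contra hne'
        exact hmin K ⟨hK, hKb⟩ (lt_of_le_of_ne hKN hne')
    haveI := hNn
    have hNab : ∀ x ∈ N, ∀ y ∈ N, x * y = y * x :=
      helper18.SolvPrim.comm_of_minimal_normal N hNb hNmin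
    have hlt : Nat.card (G ⧸ N) < n := hn ▸ card_quotient_lt N hNb
    obtain ⟨f, hf⟩ : ∃ f : G →* G ⧸ N, f = QuotientGroup.mk' N := ⟨_, rfl⟩
    have hfs : Function.Surjective f := by rw [hf]; exact QuotientGroup.mk'_surjective N
    have hfk : f.ker = N := by rw [hf]; exact QuotientGroup.ker_mk' N
    have hCb := isCarter_map ihconj f hfs hC
    have hDb := isCarter_map ihconj f hfs hD
    obtain ⟨gb, hgb⟩ := (ih _ hlt (G ⧸ N) rfl).2 _ _ hCb hDb
    obtain ⟨g, rfl⟩ := hfs gb
    obtain ⟨C1, hC1⟩ : ∃ C1 : Subgroup G, C1 = MulAut.conj g • C := ⟨_, rfl⟩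
    have hC1c : Cfsg.IsCarterSubgroup C1 := by rw [hC1]; exact isCarter_conj_smul g hC
    have hC1map : C1.map f = D.map f := by rw [hC1, map_conj_smul, hgb]
    have hsupeq : C1 ⊔ N = D ⊔ N := by
      have h1 := congrArg (Subgroup.comap f) hC1map
      rwa [Subgroup.comap_map_eq, Subgroup.comap_map_eq, hfk] at h1
    suffices h : ∃ h : G, MulAut.conj h • C1 = D by
      obtain ⟨h, hh⟩ := h
      exact ⟨h * g, by rw [map_mul, mul_smul, ← hC1, hh]⟩
    obtain ⟨K, hK⟩ : ∃ K : Subgroup G, K = D ⊔ N := ⟨_, rfl⟩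
    have hDK : D ≤ K := hK ▸ le_sup_left
    have hC1K : C1 ≤ K := by rw [hK, ← hsupeq]; exact le_sup_left
    by_cases hKtop : K = ⊤
    swap
    · have hKlt : Nat.card K < n := hn ▸ card_lt_of_ne_top K hKtop
      obtain ⟨k, hk⟩ := (ih _ hKlt K rfl).2 _ _ (isCarter_subgroupOf hC1K hC1c)
        (isCarter_subgroupOf hDK hD)
      exact ⟨k, conj_smul_eq_of_subgroupOf hC1K hDK k hk⟩
    have hDN : D ⊔ N = ⊤ := by rw [← hK, hKtop]
    have hCN : C1 ⊔ N = ⊤ := by rw [hsupeq, hDN]
    have hfacts : ∀ W : Subgroup G, W ⊔ N = ⊤ → ¬ N ≤ W →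
        (IsCoatom W ∧ Nat.card W * Nat.card N = Nat.card G) := by
      intro W hWN hNW
      have hNWsup : N ⊔ W = ⊤ := by rw [sup_comm]; exact hWN
      have hinf : W ⊓ N = ⊥ := by
        have hn' := normal_inf_of_sup_top N W W hNab hNWsup le_rfl
        rcases hNmin _ hn' inf_le_right with h0 | h0
        · exact h0
        · exfalso; apply hNW; rw [← h0]; exact inf_le_left
      constructor
      · constructor
        · intro htop
          apply hNW; rw [htop]; exact le_top
        · intro X hWX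
          have hn' := normal_inf_of_sup_top N W X hNab hNWsup hWX.le
          rcases hNmin _ hn' inf_le_right with h0 | h0
          · exfalso
            apply hWX.not_ge
            intro x hx
            have hg : x ∈ N ⊔ W := by rw [hNWsup]; exact Subgroup.mem_top x
            rw [← SetLike.mem_coe, Subgroup.normal_mul] at hg
            obtain ⟨n', hn'', w, hw, e⟩ := hg
            have e : n' * w = x := e
            have h1 : n' ∈ X ⊓ N := by
              refine Subgroup.mem_inf.mpr ⟨?_, hn''⟩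
              have h2 : n' = x * w⁻¹ := by rw [← e]; group
              rw [h2]; exact X.mul_mem hx (X.inv_mem (hWX.le hw))
            rw [h0, Subgroup.mem_bot] at h1
            rw [← e, h1, one_mul]; exact hw
          · rw [eq_top_iff, ← hWN]
            refine sup_le hWX.le ?_
            rw [← h0]; exact inf_le_left
      · have h1 := card_sup_mul_card_inf W N
        rw [hWN, inf_comm, hinf, Subgroup.card_bot, mul_one, Subgroup.card_top] at h1
        exact h1.symm
    by_cases hNC : N ≤ C1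
    · have hC1top : C1 = ⊤ := by rw [← hCN]; exact (sup_eq_left.mpr hNC).symm
      haveI : Group.IsNilpotent G := by
        haveI : Group.IsNilpotent (⊤ : Subgroup G) := hC1top ▸ hC1c.1
        exact nilpotent_of_mulEquiv Subgroup.topEquiv
      have hDtop := eq_top_of_normalizer_eq_of_nilpotent D hD.2
      exact ⟨1, by rw [map_one, one_smul, hC1top, hDtop]⟩
    by_cases hND : N ≤ D
    · have hDtop : D = ⊤ := by rw [← hDN]; exact (sup_eq_left.mpr hND).symm
      haveI : Group.IsNilpotent G := by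
        haveI : Group.IsNilpotent (⊤ : Subgroup G) := hDtop ▸ hD.1
        exact nilpotent_of_mulEquiv Subgroup.topEquiv
      have hC1top := eq_top_of_normalizer_eq_of_nilpotent C1 hC1c.2
      exact ⟨1, by rw [map_one, one_smul, hC1top, hDtop]⟩
    obtain ⟨hC1co, hC1card⟩ := hfacts C1 hCN hNC
    obtain ⟨hDco, hDcard⟩ := hfacts D hDN hND
    have hcardeq : Nat.card C1 = Nat.card D :=
      Nat.eq_of_mul_eq_mul_right Nat.card_pos (hC1card.trans hDcard.symm)
    have hcore : ∀ W V : Subgroup G, Cfsg.IsCarterSubgroup W → Cfsg.IsCarterSubgroup V →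
        Nat.card W = Nat.card V → W.normalCore ≠ ⊥ → ∃ h : G, MulAut.conj h • V = W := by
      intro W V hW hV hWV hR
      have hltR : Nat.card (G ⧸ W.normalCore) < n := hn ▸ card_quotient_lt _ hR
      have hfRs : Function.Surjective (QuotientGroup.mk' W.normalCore) :=
        QuotientGroup.mk'_surjective _
      have hWb := isCarter_map ihconj _ hfRs hW
      have hVb := isCarter_map ihconj _ hfRs hV
      obtain ⟨hb, hhb⟩ := (ih _ hltR (G ⧸ W.normalCore) rfl).2 _ _ hVb hWb
      obtain ⟨h, rfl⟩ := hfRs hb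
      refine ⟨h, ?_⟩
      rw [← map_conj_smul] at hhb
      have h1 := congrArg (Subgroup.comap (QuotientGroup.mk' W.normalCore)) hhb
      rw [Subgroup.comap_map_eq, Subgroup.comap_map_eq, QuotientGroup.ker_mk',
        sup_eq_left.mpr (Subgroup.normalCore_le W)] at h1
      have h2 : MulAut.conj h • V ≤ W := by rw [← h1]; exact le_sup_left
      exact Subgroup.eq_of_le_of_card_ge h2 (by rw [helper3.card_conj_smul, hWV])
    by_cases hcoreC : C1.normalCore = ⊥
    · by_cases hcoreD : D.normalCore = ⊥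
      · exact Cfsg.Agent.S0551.result C1 D hC1co hDco hcoreC hcoreD
      · exact hcore D C1 hD hC1c hcardeq.symm hcoreD
    · obtain ⟨h, hh⟩ := hcore C1 D hC1c hD hcardeq hcoreC
      refine ⟨h⁻¹, ?_⟩
      rw [← hh, map_inv, inv_smul_smul]

/-- **Carter subgroups** exist and are conjugate in finite solvable groups. -/
theorem carter {G : Type u} [Group G] [Finite G] [Group.IsSolvable G] :
    (∃ C : Subgroup G, Cfsg.IsCarterSubgroup C) ∧
    ∀ C D : Subgroup G, Cfsg.IsCarterSubgroup C → Cfsg.IsCarterSubgroup D →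
      ∃ g : G, MulAut.conj g • C = D :=
  carter_aux _ G rfl

end Cfsg.Agent.helper23
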