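import Mathlib
import Cfsg.Agent.S0071
import Cfsg.Agent.Lib_helper14_SPE2
import Cfsg.Agent.Lib_helper23_PSolv
import Cfsg.Agent.Lib_helper23_Hall
import Cfsg.Agent.Lib_helper23_Carter

set_option autoImplicit false

namespace Cfsg.Agent.helper23

open scoped Pointwise

universe u

/-- Two conjugates of a Sylow subgroup lying in a subgroup `C` are conjugate by an element of `C`. -/
theorem sylow_conj_in_subgroup {G : Type u} [Group G] [Finite G] {q : ℕ} [Fact q.Prime]
    (Q : Sylow q G) (C : Subgroup G) (g : G)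
    (h1 : (Q : Subgroup G) ≤ C) (h2 : MulAut.conj g • (Q : Subgroup G) ≤ C) :
    ∃ c ∈ C, MulAut.conj (c * g) • (Q : Subgroup G) = (Q : Subgroup G) := by
  have h2' : ((g • Q : Sylow q G) : Subgroup G) ≤ C := h2
  obtain ⟨c, hc⟩ := MulAction.exists_smul_eq C ((g • Q).subtype h2') (Q.subtype h1)
  have h3 := congrArg (fun P : Sylow q C => (P : Subgroup C)) hc
  simp only [Sylow.coe_subgroup_smul, Sylow.coe_subtype] at h3
  have h4 := conj_smul_eq_of_subgroupOf h2 h1 c h3
  refine ⟨c, c.2, ?_⟩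
  rw [map_mul, mul_smul]
  exact h4

theorem commute_sylows {G : Type u} [Group G] [Finite G] (H : Subgroup G)
    {p q : ℕ} [hp : Fact p.Prime] [hq : Fact q.Prime] (hpq : p ≠ q)
    (PH : Sylow p H) (QH : Sylow q H)
    (hNP : Subgroup.normalizer (((PH : Subgroup H).map H.subtype : Subgroup G) : Set G) = H)
    (hNQ : Subgroup.normalizer (((QH : Subgroup H).map H.subtype : Subgroup G) : Set G) = H) :
    ∀ x ∈ (PH : Subgroup H).map H.subtype, ∀ y ∈ (QH : Subgroup H).map H.subtype,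
      x * y = y * x := by
  intro x hx y hy
  obtain ⟨P, hP⟩ : ∃ P : Subgroup G, P = (PH : Subgroup H).map H.subtype := ⟨_, rfl⟩
  obtain ⟨Q, hQ⟩ : ∃ Q : Subgroup G, Q = (QH : Subgroup H).map H.subtype := ⟨_, rfl⟩
  rw [← hP] at hx hNP
  rw [← hQ] at hy hNQ
  have hPH : P ≤ H := by rw [hP]; exact Subgroup.map_subtype_le _
  have hQH : Q ≤ H := by rw [hQ]; exact Subgroup.map_subtype_le _
  have hinf : P ⊓ Q = ⊥ := by
    apply Subgroup.inf_eq_bot_of_coprime
    rw [hP, hQ, Subgroup.card_map_of_injective H.subtype_injective,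
      Subgroup.card_map_of_injective H.subtype_injective, Sylow.card_eq_multiplicity,
      Sylow.card_eq_multiplicity]
    exact Nat.Coprime.pow _ _ ((Nat.coprime_primes hp.out hq.out).mpr hpq)
  have hyN : y ∈ Subgroup.normalizer (P : Set G) := by rw [hNP]; exact hQH hy
  have hxN : x ∈ Subgroup.normalizer (Q : Set G) := by rw [hNQ]; exact hPH hx
  have h1 : x * y * x⁻¹ * y⁻¹ ∈ P := by
    have : y * x⁻¹ * y⁻¹ ∈ P := (Subgroup.mem_normalizer_iff.mp hyN x⁻¹).mp (P.inv_mem hx)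
    have h2 := P.mul_mem hx this
    have e : x * (y * x⁻¹ * y⁻¹) = x * y * x⁻¹ * y⁻¹ := by group
    rwa [e] at h2
  have h2 : x * y * x⁻¹ * y⁻¹ ∈ Q := by
    have : x * y * x⁻¹ ∈ Q := (Subgroup.mem_normalizer_iff.mp hxN y).mp hy
    exact Q.mul_mem this (Q.inv_mem hy)
  have h3 : x * y * x⁻¹ * y⁻¹ ∈ P ⊓ Q := ⟨h1, h2⟩
  rw [hinf, Subgroup.mem_bot] at h3
  calc x * y = (x * y * x⁻¹ * y⁻¹) * (y * x) := by group
    _ = y * x := by rw [h3, one_mul]

theorem decomp_of_sylow_normalizers {G : Type u} [Group G] [Finite G] (H : Subgroup G)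
    (hnorm : ∀ p : ℕ, p.Prime → p ∣ Nat.card H → ∀ P : Sylow p H,
      Subgroup.normalizer (((P : Subgroup H).map H.subtype : Subgroup G) : Set G) = H)
    {p : ℕ} [hp : Fact p.Prime] (hpH : p ∣ Nat.card H) (PH : Sylow p H) :
    ∀ h ∈ H, ∃ x ∈ (PH : Subgroup H).map H.subtype,
      ∃ r ∈ Subgroup.centralizer ((((PH : Subgroup H).map H.subtype : Subgroup G)) : Set G),
        h = x * r := by
  have hNP := hnorm p hp.out hpH PH
  obtain ⟨P, hP⟩ : ∃ P : Subgroup G, P = (PH : Subgroup H).map H.subtype := ⟨_, rfl⟩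
  rw [← hP] at hNP ⊢
  have hPH : P ≤ H := by rw [hP]; exact Subgroup.map_subtype_le _
  obtain ⟨R, hR⟩ : ∃ R : Subgroup G, R = H ⊓ Subgroup.centralizer (P : Set G) := ⟨_, rfl⟩
  have hRH : R ≤ H := by rw [hR]; exact inf_le_left
  have hRN : R ≤ Subgroup.normalizer (P : Set G) := by rw [hNP]; exact hRH
  have hle : P ⊔ R ≤ H := sup_le hPH hRH
  have hcard : Nat.card H ∣ Nat.card (P ⊔ R : Subgroup G) := by
    rw [Nat.dvd_iff_prime_pow_dvd_dvd]
    intro q k hq hqk
    by_cases hk : k = 0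
    · rw [hk, pow_zero]; exact one_dvd _
    have hqH : q ∣ Nat.card H := dvd_trans (dvd_pow_self q hk) hqk
    by_cases hqp : q = p
    · rw [hqp] at hqk ⊢
      have h1 : p ^ k ∣ Nat.card PH := PH.pow_dvd_card_of_pow_dvd_card hqk
      have h2 : Nat.card P = Nat.card PH := by
        rw [hP]; exact Subgroup.card_map_of_injective H.subtype_injective
      rw [← h2] at h1
      exact dvd_trans h1 (Subgroup.card_dvd_of_le le_sup_left)
    · haveI : Fact q.Prime := ⟨hq⟩
      obtain ⟨QH⟩ : Nonempty (Sylow q H) := inferInstance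
      have h1 : q ^ k ∣ Nat.card QH := QH.pow_dvd_card_of_pow_dvd_card hqk
      have h2 : Nat.card ((QH : Subgroup H).map H.subtype) = Nat.card QH :=
        Subgroup.card_map_of_injective H.subtype_injective
      rw [← h2] at h1
      have hNQ := hnorm q hq hqH QH
      have hcomm := commute_sylows H (fun e => hqp e.symm) PH QH (by rw [← hP]; exact hNP) hNQ
      have h3 : (QH : Subgroup H).map H.subtype ≤ P ⊔ R := by
        apply le_trans _ le_sup_right
        rw [hR]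
        apply le_inf (Subgroup.map_subtype_le _)
        intro y hy
        rw [Subgroup.mem_centralizer_iff]
        intro x hx
        rw [hP] at hx
        exact hcomm x hx y hy
      exact dvd_trans h1 (Subgroup.card_dvd_of_le h3)
  have heq : P ⊔ R = H := Subgroup.eq_of_le_of_card_ge hle (Nat.le_of_dvd Nat.card_pos hcard)
  intro h hh
  have hh' : h ∈ ((P ⊔ R : Subgroup G) : Set G) := by rw [heq]; exact hh
  rw [Subgroup.coe_mul_of_right_le_normalizer_left P R hRN] at hh'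
  obtain ⟨x, hx, r, hr, e⟩ := hh'
  have hr' : r ∈ H ⊓ Subgroup.centralizer (P : Set G) := by rw [← hR]; exact hr
  exact ⟨x, hx, r, (Subgroup.mem_inf.mp hr').2, e.symm⟩

theorem frobCond_of_sylow_normalizers {G : Type u} [Group G] [Finite G] (H : Subgroup G)
    (hnot : ∀ p : ℕ, p.Prime → ∀ P : Sylow p G, (P : Subgroup G) ≠ H)
    (hnorm : ∀ p : ℕ, p.Prime → p ∣ Nat.card H → ∀ P : Sylow p H,
      Subgroup.normalizer (((P : Subgroup H).map H.subtype : Subgroup G) : Set G) = H)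
    {p : ℕ} [hp : Fact p.Prime] (hpH : p ∣ Nat.card H) :
    Cfsg.Agent.lead.FrobCond p G := by
  obtain ⟨PH⟩ : Nonempty (Sylow p H) := inferInstance
  have hNP0 := hnorm p hp.out hpH PH
  have hdec0 := decomp_of_sylow_normalizers H hnorm hpH PH
  obtain ⟨S, hS⟩ := Cfsg.Agent.helper14.sylow_of_normalizer_le H PH (le_of_eq hNP0)
  have hPp0 : IsPGroup p ((PH : Subgroup H).map H.subtype) := PH.isPGroup'.map _
  have hPcard0 : Nat.card ((PH : Subgroup H).map H.subtype) = p ^ (Nat.card H).factorization p := by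
    rw [Subgroup.card_map_of_injective H.subtype_injective, Sylow.card_eq_multiplicity]
  obtain ⟨q, hq, hqH, hqp⟩ : ∃ q : ℕ, q.Prime ∧ q ∣ Nat.card H ∧ q ≠ p := by
    by_contra hcon
    push Not at hcon
    obtain ⟨k, hk⟩ : ∃ k, Nat.card H = p ^ k :=
      ⟨_, Nat.eq_prime_pow_of_unique_prime_dvd Nat.card_pos.ne' (fun {d} hd hdH => hcon d hd hdH)⟩
    have hPcard : Nat.card ((PH : Subgroup H).map H.subtype) = Nat.card H := by
      rw [hPcard0, hk, hp.out.factorization_pow, Finsupp.single_eq_same]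
    have hPeq : (PH : Subgroup H).map H.subtype = H :=
      Subgroup.eq_of_le_of_card_ge (Subgroup.map_subtype_le _) (le_of_eq hPcard.symm)
    exact hnot p hp.out S (hS.trans hPeq)
  haveI : Fact q.Prime := ⟨hq⟩
  obtain ⟨QH⟩ : Nonempty (Sylow q H) := inferInstance
  have hNQ0 := hnorm q hq hqH QH
  obtain ⟨SQ, hSQ⟩ := Cfsg.Agent.helper14.sylow_of_normalizer_le H QH (le_of_eq hNQ0)
  have hcomm0 := commute_sylows H (fun e => hqp e.symm) PH QH hNP0 hNQ0
  obtain ⟨P, hP⟩ : ∃ P : Subgroup G, P = (PH : Subgroup H).map H.subtype := ⟨_, rfl⟩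
  obtain ⟨Q, hQ⟩ : ∃ Q : Subgroup G, Q = (QH : Subgroup H).map H.subtype := ⟨_, rfl⟩
  rw [← hP] at hNP0 hdec0 hS hPp0 hcomm0
  rw [← hQ] at hNQ0 hSQ hcomm0
  have hPH : P ≤ H := by rw [hP]; exact Subgroup.map_subtype_le _
  have hQH : Q ≤ H := by rw [hQ]; exact Subgroup.map_subtype_le _
  apply Cfsg.Agent.S0071.frobCond_of_sylow S
  intro T hT g hg hcop
  rw [hS] at hT
  obtain ⟨C, hC⟩ : ∃ C : Subgroup G, C = Subgroup.centralizer (T : Set G) := ⟨_, rfl⟩
  rw [← hC]
  have hmemC : ∀ z : G, z ∈ C ↔ ∀ t ∈ T, t * z = z * t := by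
    intro z; rw [hC, Subgroup.mem_centralizer_iff]; exact Iff.rfl
  have hQC : Q ≤ C := by
    intro y hy
    rw [hmemC]
    intro t ht
    exact hcomm0 t (hT ht) y hy
  have hgT : ∀ t ∈ T, g * t * g⁻¹ ∈ T := fun t ht => (Subgroup.mem_normalizer_iff.mp hg t).mp ht
  have hgT' : ∀ t ∈ T, g⁻¹ * t * g ∈ T := by
    intro t ht
    apply (Subgroup.mem_normalizer_iff.mp hg (g⁻¹ * t * g)).mpr
    have e : g * (g⁻¹ * t * g) * g⁻¹ = t := by group
    rw [e]; exact ht
  have hgQC : MulAut.conj g • Q ≤ C := by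
    intro y hy
    rw [Cfsg.Agent.helper3.mem_conj_smul_iff] at hy
    rw [hmemC]
    intro t ht
    have h1 := hcomm0 (g⁻¹ * t * g) (hT (hgT' t ht)) (g⁻¹ * y * g) hy
    calc t * y = g * ((g⁻¹ * t * g) * (g⁻¹ * y * g)) * g⁻¹ := by group
      _ = g * ((g⁻¹ * y * g) * (g⁻¹ * t * g)) * g⁻¹ := by rw [h1]
      _ = y * t := by group
  have hQC' : (SQ : Subgroup G) ≤ C := by rw [hSQ]; exact hQC
  have hgQC' : MulAut.conj g • (SQ : Subgroup G) ≤ C := by rw [hSQ]; exact hgQC
  obtain ⟨c, hcC, hcg⟩ := sylow_conj_in_subgroup SQ C g hQC' hgQC'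
  rw [hSQ] at hcg
  have hh : c * g ∈ H := by
    have h1 := (Cfsg.Agent.helper3.conj_smul_eq_self_iff (c * g) Q).mp hcg
    rw [hNQ0] at h1
    exact h1
  obtain ⟨x, hx, r, hr, e⟩ := hdec0 (c * g) hh
  have hconj : ∀ t ∈ T, g * t * g⁻¹ = x * t * x⁻¹ := by
    intro t ht
    have h1 : c * (g * t * g⁻¹) = (g * t * g⁻¹) * c :=
      ((hmemC c).mp hcC _ (hgT t ht)).symm
    have h2 : r * t = t * r := by
      rw [Subgroup.mem_centralizer_iff] at hr
      exact (hr t (hT ht)).symm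
    have hA : (c * g) * t * (c * g)⁻¹ = g * t * g⁻¹ := by
      calc (c * g) * t * (c * g)⁻¹ = (c * (g * t * g⁻¹)) * c⁻¹ := by group
        _ = ((g * t * g⁻¹) * c) * c⁻¹ := by rw [h1]
        _ = g * t * g⁻¹ := by group
    have hB : (x * r) * t * (x * r)⁻¹ = x * t * x⁻¹ := by
      calc (x * r) * t * (x * r)⁻¹ = x * (r * t) * r⁻¹ * x⁻¹ := by group
        _ = x * (t * r) * r⁻¹ * x⁻¹ := by rw [h2]
        _ = x * t * x⁻¹ := by group
    rw [← hA, e, hB]
  have hpow : ∀ k : ℕ, ∀ t ∈ T, g ^ k * t * (g ^ k)⁻¹ = x ^ k * t * (x ^ k)⁻¹ ∧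
      g ^ k * t * (g ^ k)⁻¹ ∈ T := by
    intro k
    induction k with
    | zero => intro t ht; simp [ht]
    | succ k ih =>
      intro t ht
      obtain ⟨e1, m1⟩ := ih t ht
      have e2 := hconj _ m1
      have hg1 : g ^ (k + 1) * t * (g ^ (k + 1))⁻¹ = g * (g ^ k * t * (g ^ k)⁻¹) * g⁻¹ := by
        rw [pow_succ']; group
      have hx1 : x ^ (k + 1) * t * (x ^ (k + 1))⁻¹ = x * (x ^ k * t * (x ^ k)⁻¹) * x⁻¹ := by
        rw [pow_succ']; group
      refine ⟨?_, ?_⟩
      · rw [hg1, hx1, e2, e1]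
      · rw [hg1]; exact hgT _ m1
  have hxm : x ^ orderOf g ∈ C := by
    rw [hmemC]
    intro t ht
    obtain ⟨e1, _⟩ := hpow (orderOf g) t ht
    rw [pow_orderOf_eq_one, one_mul, inv_one, mul_one] at e1
    calc t * x ^ orderOf g = (x ^ orderOf g * t * (x ^ orderOf g)⁻¹) * x ^ orderOf g := by
          rw [← e1]
      _ = x ^ orderOf g * t := by group
  obtain ⟨a, ha⟩ : ∃ a : ℕ, x ^ p ^ a = 1 := by
    obtain ⟨a, ha⟩ := hPp0 ⟨x, hx⟩
    exact ⟨a, by simpa using congrArg Subtype.val ha⟩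
  have hxC : x ∈ C := by
    have hcop' : (orderOf g).Coprime (p ^ a) := Nat.Coprime.pow_right a hcop
    have hb : (1 : ℤ) = (orderOf g : ℤ) * Nat.gcdA (orderOf g) (p ^ a) +
        ((p ^ a : ℕ) : ℤ) * Nat.gcdB (orderOf g) (p ^ a) := by
      rw [← Nat.gcd_eq_gcd_ab, Nat.Coprime.gcd_eq_one hcop', Nat.cast_one]
    have h2 : x = (x ^ orderOf g) ^ (Nat.gcdA (orderOf g) (p ^ a)) := by
      conv_lhs =>
        rw [← zpow_one x, hb, zpow_add, zpow_mul, zpow_mul, zpow_natCast, zpow_natCast, ha,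
          one_zpow, mul_one]
    rw [h2]
    exact C.zpow_mem hxm _
  rw [hmemC]
  intro t ht
  have h1 := hconj t ht
  have h2 : x * t * x⁻¹ = t := by
    have h3 := (hmemC x).mp hxC t ht
    rw [← h3]; group
  rw [h2] at h1
  calc t * g = (g * t * g⁻¹) * g := by rw [h1]
    _ = g * t := by group

/-- Wielandt: a subgroup `H`, not a Sylow subgroup, all of whose Sylow subgroups have normalizer
`H` in `G`, has a normal complement. -/
theorem normal_complement_of_sylow_normalizers {G : Type u} [Group G] [Finite G] (H : Subgroup G)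
    (hnot : ∀ p : ℕ, p.Prime → ∀ P : Sylow p G, (P : Subgroup G) ≠ H)
    (hnorm : ∀ p : ℕ, p.Prime → p ∣ Nat.card H → ∀ P : Sylow p H,
      Subgroup.normalizer (((P : Subgroup H).map H.subtype : Subgroup G) : Set G) = H) :
    ∃ N : Subgroup G, N.Normal ∧ Subgroup.IsComplement' N H := by
  obtain ⟨N, hNdef⟩ : ∃ N : Subgroup G,
      N = ⨅ p : {p : ℕ // p.Prime ∧ p ∣ Nat.card H}, Cfsg.pResidual p.1 G := ⟨_, rfl⟩
  have hNn : N.Normal := by
    rw [hNdef]
    exact Subgroup.normal_iInf_normal (fun p => Cfsg.Agent.helper10.pResidual_normal p.1 G)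
  have hNle : ∀ p : ℕ, p.Prime → p ∣ Nat.card H → N ≤ Cfsg.pResidual p G := by
    intro p hp hpH
    rw [hNdef]
    exact iInf_le (fun p : {p : ℕ // p.Prime ∧ p ∣ Nat.card H} => Cfsg.pResidual p.1 G)
      ⟨p, hp, hpH⟩
  have hK : ∀ p : ℕ, p.Prime → p ∣ Nat.card H → ∀ [Fact p.Prime] (S : Sylow p G),
      (Cfsg.pResidual p G).IsComplement' (S : Subgroup G) := by
    intro p hp hpH _ S
    exact (Cfsg.Agent.S0071.complement_of_frobCond
      (frobCond_of_sylow_normalizers H hnot hnorm hpH) S).2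
  have hKcop : ∀ p : ℕ, p.Prime → p ∣ Nat.card H → ¬ p ∣ Nat.card (Cfsg.pResidual p G) := by
    intro p hp hpH hdvd
    haveI : Fact p.Prime := ⟨hp⟩
    obtain ⟨S⟩ : Nonempty (Sylow p G) := inferInstance
    have hc := hK p hp hpH S
    have h1 : Nat.card (Cfsg.pResidual p G) = (S : Subgroup G).index := (hc.index_eq_card).symm
    rw [h1] at hdvd
    exact S.not_dvd_index hdvd
  have hNcop : ∀ p : ℕ, p.Prime → p ∣ Nat.card H → ¬ p ∣ Nat.card N := by
    intro p hp hpH hdvd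
    exact hKcop p hp hpH (dvd_trans hdvd (Subgroup.card_dvd_of_le (hNle p hp hpH)))
  have hinf : N ⊓ H = ⊥ := by
    by_contra hne
    have h1 : Nat.card (N ⊓ H : Subgroup G) ≠ 1 := fun h => hne (Subgroup.card_eq_one.mp h)
    obtain ⟨p, hp, hpd⟩ := Nat.exists_prime_and_dvd h1
    have hpH : p ∣ Nat.card H := dvd_trans hpd (Subgroup.card_dvd_of_le inf_le_right)
    exact hNcop p hp hpH (dvd_trans hpd (Subgroup.card_dvd_of_le inf_le_left))
  have hHall : ∀ q : ℕ, q.Prime → q ∣ Nat.card H → ¬ q ∣ H.index := by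
    intro q hq hqH hqi
    haveI : Fact q.Prime := ⟨hq⟩
    obtain ⟨QH⟩ : Nonempty (Sylow q H) := inferInstance
    obtain ⟨S, hS⟩ :=
      Cfsg.Agent.helper14.sylow_of_normalizer_le H QH (le_of_eq (hnorm q hq hqH QH))
    have hSH : (S : Subgroup G) ≤ H := by rw [hS]; exact Subgroup.map_subtype_le _
    apply S.not_dvd_index
    exact dvd_trans hqi (Subgroup.index_dvd_of_le hSH)
  have hidx : H.index ∣ Nat.card N := by
    rw [Nat.dvd_iff_prime_pow_dvd_dvd]
    intro q k hq hqk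
    by_cases hk : k = 0
    · rw [hk, pow_zero]; exact one_dvd _
    have hqi : q ∣ H.index := dvd_trans (dvd_pow_self q hk) hqk
    haveI : Fact q.Prime := ⟨hq⟩
    obtain ⟨Sq⟩ : Nonempty (Sylow q G) := inferInstance
    have hSqN : (Sq : Subgroup G) ≤ N := by
      rw [hNdef]
      apply le_iInf
      rintro ⟨p, hp, hpH⟩
      haveI : Fact p.Prime := ⟨hp⟩
      haveI := Cfsg.Agent.helper10.pResidual_normal p G
      apply sylow_le_of_not_dvd_index _ Sq
      obtain ⟨Sp⟩ : Nonempty (Sylow p G) := inferInstance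
      have hc := hK p hp hpH Sp
      have h1 : (Cfsg.pResidual p G).index = Nat.card (Sp : Subgroup G) := hc.symm.index_eq_card
      rw [h1, Sylow.card_eq_multiplicity]
      intro hdvd
      have hqp : q = p := (Nat.prime_dvd_prime_iff_eq hq hp).mp (hq.dvd_of_dvd_pow hdvd)
      exact hHall q hq (by rw [hqp]; exact hpH) hqi
    have h1 : q ^ k ∣ Nat.card G := dvd_trans hqk (Subgroup.index_dvd_card H)
    have h2 : q ^ k ∣ Nat.card Sq := Sq.pow_dvd_card_of_pow_dvd_card h1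
    exact dvd_trans h2 (Subgroup.card_dvd_of_le hSqN)
  have hcard : Nat.card N * Nat.card H = Nat.card G := by
    haveI := hNn
    have h1 := card_sup_mul_card_inf H N
    rw [hinf, Subgroup.card_bot, mul_one] at h1
    have h2 : Nat.card H * Nat.card N ∣ Nat.card G := by
      rw [← h1]; exact Subgroup.card_subgroup_dvd_card _
    have h3 : Nat.card G ∣ Nat.card H * Nat.card N := by
      rw [← Subgroup.card_mul_index H]
      exact Nat.mul_dvd_mul_left _ hidx
    rw [mul_comm]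
    exact Nat.dvd_antisymm h2 h3
  exact ⟨N, hNn, Subgroup.isComplement'_of_card_mul_and_disjoint hcard (disjoint_iff.mpr hinf)⟩

end Cfsg.Agent.helper23
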