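import Cfsg.Statements.S0562
import Cfsg.Agent.Lib_helper3_Basic

set_option autoImplicit false
open Cfsg

namespace Cfsg.Agent.S0562

open scoped Pointwise
open Cfsg.Agent.helper3

theorem result {G : Type*} [Group G] [Finite G] (H K A B : Subgroup G) (hHK : ∀ g : G, ∃ h ∈ H, ∃ k ∈ K, g = h * k) (hA : A ≤ H) (hAn : (A.subgroupOf H).Normal) (hB : B ≤ K) (hBn : (B.subgroupOf K).Normal) : ∀ g ∈ Subgroup.normalizer ((A ⊔ B : Subgroup G) : Set G), ∃ h ∈ Subgroup.normalizer ((A ⊔ B : Subgroup G) : Set G) ⊓ H, ∃ k ∈ Subgroup.normalizer ((A ⊔ B : Subgroup G) : Set G) ⊓ K, g = h * k := by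
  intro g hg
  obtain ⟨h, hh, k, hk, rfl⟩ := hHK g
  set J := A ⊔ B with hJ
  rw [← conj_smul_eq_self_iff, map_mul, mul_smul] at hg
  -- conj k • J = conj h⁻¹ • J
  have h1 : MulAut.conj k • J = MulAut.conj h⁻¹ • J := by
    conv_rhs => rw [← hg]
    rw [← mul_smul, ← mul_smul, ← map_mul, ← map_mul]
    congr 2
    group
  have hkB : MulAut.conj k • B = B := conj_smul_eq_of_normal_subgroupOf hB hBn hk
  have hhA : MulAut.conj h⁻¹ • A = A := conj_smul_eq_of_normal_subgroupOf hA hAn (H.inv_mem hh)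
  have hle : J ≤ MulAut.conj k • J := by
    rw [hJ]
    apply sup_le
    · rw [← hJ, h1, hJ, Subgroup.smul_sup, hhA]
      exact le_sup_left
    · rw [Subgroup.smul_sup, hkB]
      exact le_sup_right
  have hcard : Nat.card (MulAut.conj k • J : Subgroup G) ≤ Nat.card J := by
    rw [card_conj_smul]
  have hk' : MulAut.conj k • J = J := (Subgroup.eq_of_le_of_card_ge hle hcard).symm
  have hh' : MulAut.conj h⁻¹ • J = J := by rw [← h1, hk']
  refine ⟨h, ⟨?_, hh⟩, k, ⟨?_, hk⟩, rfl⟩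
  · have := (conj_smul_eq_self_iff h⁻¹ J).1 hh'
    have h2 := Subgroup.inv_mem _ this
    rwa [inv_inv] at h2
  · exact (conj_smul_eq_self_iff k J).1 hk'

end Cfsg.Agent.S0562
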