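import Mathlib
import Cfsg.Agent.H16KW1
import Cfsg.Agent.S0562
import Cfsg.Agent.S0566
import Cfsg.Agent.Lib_helper23_NilHallCompl

set_option autoImplicit false
set_option linter.style.haveILetI false
set_option linter.unusedSectionVars false

namespace Cfsg.Agent.H16KW

open scoped Pointwise
open Cfsg.Agent.helper3 Cfsg.Agent.helper23

universe u

variable {G : Type u} [Group G] [Finite G]

theorem IsSyl.coprime_relIndex {p : ℕ} [hp : Fact p.Prime] {P L : Subgroup G} (h : IsSyl p P)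
    (hPL : P ≤ L) : (Nat.card P).Coprime (P.relIndex L) := by
  obtain ⟨k, hk⟩ := IsPGroup.iff_card.1 h.pg
  rw [hk]
  apply Nat.Coprime.pow_left
  rw [Nat.Prime.coprime_iff_not_dvd hp.out]
  intro h1
  apply h.ndvd
  rw [← Subgroup.relIndex_mul_index hPL]
  exact h1.mul_right _

/-- A minimal counterexample to Wielandt's theorem. -/
structure MinCex (H K : Subgroup G) : Prop where
  cfg : Cfg H K
  simple : IsSimpleGroup G
  cent : ∀ z : G, z ≠ 1 → Subgroup.centralizer ({z} : Set G) ≠ ⊤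
  ih : ∀ X : Subgroup G, X ≠ ⊤ → (∀ x ∈ X, ∃ h ∈ H ⊓ X, ∃ k ∈ K ⊓ X, x = h * k) →
    Group.IsSolvable X
  exH : ∃ p : ℕ, p.Prime ∧ p ∣ Nat.card H
  exK : ∃ q : ℕ, q.Prime ∧ q ∣ Nat.card K
  twoH : ∀ p : ℕ, p.Prime → p ∣ Nat.card H → ∃ r : ℕ, r.Prime ∧ r ∣ Nat.card H ∧ r ≠ p
  twoK : ∀ q : ℕ, q.Prime → q ∣ Nat.card K → ∃ s : ℕ, s.Prime ∧ s ∣ Nat.card K ∧ s ≠ q

namespace MinCex

variable {H K : Subgroup G}

theorem symm (m : MinCex H K) : MinCex K H where
  cfg := m.cfg.symm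
  simple := m.simple
  cent := m.cent
  ih := by
    intro X hX hfac
    apply m.ih X hX
    intro x hx
    obtain ⟨k, hk, h, hh, e⟩ := hfac x⁻¹ (X.inv_mem hx)
    refine ⟨h⁻¹, Subgroup.inv_mem _ hh, k⁻¹, Subgroup.inv_mem _ hk, ?_⟩
    rw [← mul_inv_rev, ← e, inv_inv]
  exH := m.exK
  exK := m.exH
  twoH := m.twoK
  twoK := m.twoH

theorem normalizer_ne_top (m : MinCex H K) {E : Subgroup G} (h1 : E ≠ ⊥) (h2 : E ≠ ⊤) :
    Subgroup.normalizer (E : Set G) ≠ ⊤ := by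
  intro h
  have hn : E.Normal := Subgroup.normalizer_eq_top_iff.mp h
  haveI := m.simple
  rcases IsSimpleGroup.eq_bot_or_eq_top_of_normal E hn with h3 | h3
  · exact h1 h3
  · exact h2 h3

theorem ne_top_of_isPGroup (m : MinCex H K) {q : ℕ} [hq : Fact q.Prime] {E : Subgroup G}
    (hE : IsPGroup q E) : E ≠ ⊤ := by
  intro h
  obtain ⟨k, hk⟩ := IsPGroup.iff_card.1 hE
  rw [h, Subgroup.card_top] at hk
  obtain ⟨p, hp, hpH⟩ := m.exH
  obtain ⟨s, hs, hsK⟩ := m.exK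
  have h1 : p ∣ q ^ k := by rw [← hk, m.cfg.card]; exact hpH.mul_right _
  have h2 : s ∣ q ^ k := by rw [← hk, m.cfg.card]; exact hsK.mul_left _
  have e1 : p = q := (Nat.prime_dvd_prime_iff_eq hp hq.out).1 (hp.dvd_of_dvd_pow h1)
  have e2 : s = q := (Nat.prime_dvd_prime_iff_eq hs hq.out).1 (hs.dvd_of_dvd_pow h2)
  rw [e1] at hpH
  rw [e2] at hsK
  exact m.cfg.not_dvd_right hq.out hpH hsK

/-- No proper subgroup contains a Sylow `p`-subgroup and a Sylow `q`-subgroup, `p ∣ |H|`, `q ∣ |K|`. -/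
theorem no_two_sylows (m : MinCex H K) {p q : ℕ} [hp : Fact p.Prime] [hq : Fact q.Prime]
    (hpH : p ∣ Nat.card H) (hqK : q ∣ Nat.card K) {P Q X : Subgroup G} (hP : IsSyl p P)
    (hQ : IsSyl q Q) (hX : X ≠ ⊤) (hPX : P ≤ X) (hQX : Q ≤ X) : False := by
  obtain ⟨Hp, hHp⟩ := exists_sylIn H m.cfg.nilH p
  obtain ⟨Kq, hKq⟩ := exists_sylIn K m.cfg.nilK q
  have sHp : IsSyl p Hp := m.cfg.sylIn_isSyl hHp hpH
  have sKq : IsSyl q Kq := m.cfg.symm.sylIn_isSyl hKq hqK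
  have hHp1 : Hp ≠ ⊥ := hHp.ne_bot hpH
  have hKq1 : Kq ≠ ⊥ := hKq.ne_bot hqK
  obtain ⟨a, ha⟩ := sHp.exists_conj hP
  obtain ⟨b, hb⟩ := sKq.exists_conj hQ
  obtain ⟨h, hh, k, hk, e⟩ := m.cfg.fac (a⁻¹ * b)
  obtain ⟨g, hg⟩ : ∃ g : G, g = a * h := ⟨_, rfl⟩
  have hg2 : g = b * k⁻¹ := by
    have : b = a * (h * k) := by rw [← e]; group
    rw [hg, this]; group
  have hP' : P = MulAut.conj g • Hp := by
    rw [ha, hg, ← conj_smul_smul, hHp.conj_smul_eq hh]
  have hQ' : Q = MulAut.conj g • Kq := by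
    rw [hb, hg2, ← conj_smul_smul, hKq.conj_smul_eq (K.inv_mem hk)]
  obtain ⟨X', hX'def⟩ : ∃ X' : Subgroup G, X' = MulAut.conj g⁻¹ • X := ⟨_, rfl⟩
  have hX' : X' ≠ ⊤ := by rw [hX'def]; exact conj_smul_ne_top _ hX
  have hHpX : Hp ≤ X' := by
    intro x hx
    rw [hX'def, mem_conj_smul_iff, inv_inv]
    apply hPX
    rw [hP']
    exact conj_mem_conj_smul g x Hp hx
  have hKqX : Kq ≤ X' := by
    intro x hx
    rw [hX'def, mem_conj_smul_iff, inv_inv]
    apply hQX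
    rw [hQ']
    exact conj_mem_conj_smul g x Kq hx
  have hX0 : Hp ⊔ Kq ≤ X' := sup_le hHpX hKqX
  have hX0ne : Hp ⊔ Kq ≠ ⊥ := by
    intro h0
    apply hHp1
    rw [eq_bot_iff, ← h0]; exact le_sup_left
  have hX0top : Hp ⊔ Kq ≠ ⊤ := by
    intro h0
    apply hX'
    rw [eq_top_iff, ← h0]; exact hX0
  obtain ⟨L, hL⟩ : ∃ L : Subgroup G, L = Subgroup.normalizer ((Hp ⊔ Kq : Subgroup G) : Set G) :=
    ⟨_, rfl⟩
  have hLtop : L ≠ ⊤ := by rw [hL]; exact m.normalizer_ne_top hX0ne hX0top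
  have hAn : (Hp.subgroupOf H).Normal :=
    (Subgroup.normal_subgroupOf_iff_le_normalizer hHp.le).mpr hHp.norm
  have hBn : (Kq.subgroupOf K).Normal :=
    (Subgroup.normal_subgroupOf_iff_le_normalizer hKq.le).mpr hKq.norm
  have hfacL : ∀ x ∈ L, ∃ h ∈ H ⊓ L, ∃ k ∈ K ⊓ L, x = h * k := by
    intro x hx
    rw [hL] at hx
    obtain ⟨h', hh', k', hk', e'⟩ :=
      Cfsg.Agent.S0562.result H K Hp Kq m.cfg.fac hHp.le hAn hKq.le hBn x hx
    rw [← hL] at hh' hk'
    exact ⟨h', ⟨hh'.2, hh'.1⟩, k', ⟨hk'.2, hk'.1⟩, e'⟩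
  have hsolv : Group.IsSolvable L := m.ih L hLtop hfacL
  have hHpL : Hp ≤ L := by
    rw [hL]; exact le_trans le_sup_left Subgroup.le_normalizer
  have hKqL : Kq ≤ L := by
    rw [hL]; exact le_trans le_sup_right Subgroup.le_normalizer
  have hperm : PermWith Hp Kq :=
    perm_of_solvable_sub H K Hp Kq L hsolv hfacL hHpL hKqL
      (fun x hx => hHp.norm hx.1) (fun x hx => hKq.norm hx.1)
      (sHp.coprime_relIndex hHpL) (sKq.coprime_relIndex hKqL)
  obtain ⟨S0, hS0⟩ := exists_coe_eq_of_permWith Hp Kq hperm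
  have hS0le : S0 ≤ X' := by
    intro x hx
    rw [← SetLike.mem_coe, hS0] at hx
    obtain ⟨a', ha', b', hb', rfl⟩ := hx
    exact X'.mul_mem (hHpX ha') (hKqX hb')
  have hS0top : S0 ≠ ⊤ := by
    intro h0
    apply hX'
    rw [eq_top_iff, ← h0]; exact hS0le
  have key : ∀ x : G, ∃ S : Subgroup G, S ≠ ⊤ ∧
      (S : Set G) = (Hp : Set G) * ((MulAut.conj x • Kq : Subgroup G) : Set G) := by
    intro x
    obtain ⟨h', hh', k', hk', e'⟩ := m.cfg.fac x
    refine ⟨MulAut.conj h' • S0, conj_smul_ne_top _ hS0top, ?_⟩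
    rw [coe_conj_smul_mul Hp Kq S0 h' hS0, hHp.conj_smul_eq hh', e', ← conj_smul_smul,
      hKq.conj_smul_eq hk']
  obtain ⟨N, hNn, hNtop, hN⟩ := Cfsg.Agent.S0566.result Hp Kq hHp1 hKq1 key
  haveI := m.simple
  rcases IsSimpleGroup.eq_bot_or_eq_top_of_normal N hNn with h3 | h3
  · rcases hN with h4 | h4
    · apply hHp1; rw [eq_bot_iff, ← h3]; exact h4
    · apply hKq1; rw [eq_bot_iff, ← h3]; exact h4
  · exact hNtop h3

/-- A Sylow `p`-subgroup (`p ∣ |H|`) does not normalize a nontrivial `q`-subgroup (`q ∣ |K|`). -/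
theorem not_le_normalizer (m : MinCex H K) {p q : ℕ} [hp : Fact p.Prime] [hq : Fact q.Prime]
    (hpH : p ∣ Nat.card H) (hqK : q ∣ Nat.card K) {P E : Subgroup G} (hP : IsSyl p P)
    (hE : IsPGroup q E) (hE1 : E ≠ ⊥) : ¬ P ≤ Subgroup.normalizer (E : Set G) := by
  intro hPE
  obtain ⟨Kq, hKq⟩ := exists_sylIn K m.cfg.nilK q
  have sKq : IsSyl q Kq := m.cfg.symm.sylIn_isSyl hKq hqK
  obtain ⟨g, hg⟩ := sKq.exists_le_conj hE
  obtain ⟨s, hs, hsK, hsq⟩ := m.twoK q hq.out hqK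
  haveI : Fact s.Prime := ⟨hs⟩
  obtain ⟨Ks, hKs⟩ := exists_sylIn K m.cfg.nilK s
  have sKs : IsSyl s Ks := m.cfg.symm.sylIn_isSyl hKs hsK
  have hle : MulAut.conj g • Ks ≤ Subgroup.normalizer (E : Set G) := by
    intro x hx
    apply Subgroup.centralizer_le_normalizer
    rw [Subgroup.mem_centralizer_iff]
    intro e he
    have h1 : g⁻¹ * x * g ∈ Ks := (mem_conj_smul_iff g x Ks).mp hx
    have h2 : g⁻¹ * e * g ∈ Kq := (mem_conj_smul_iff g e Kq).mp (hg he)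
    have h3 := hKs.commute_of_ne m.cfg.nilK hKq hsq h1 h2
    calc e * x = g * ((g⁻¹ * e * g) * (g⁻¹ * x * g)) * g⁻¹ := by group
      _ = g * ((g⁻¹ * x * g) * (g⁻¹ * e * g)) * g⁻¹ := by rw [h3]
      _ = x * e := by group
  exact m.no_two_sylows hpH hsK hP (sKs.conj g) (m.normalizer_ne_top hE1 (m.ne_top_of_isPGroup hE))
    hPE hle

theorem conj_mem_centralizer {A : Subgroup G} {a c : G}
    (ha : a ∈ Subgroup.normalizer (A : Set G)) (hc : c ∈ Subgroup.centralizer (A : Set G)) :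
    a * c * a⁻¹ ∈ Subgroup.centralizer (A : Set G) := by
  rw [Subgroup.mem_centralizer_iff] at hc ⊢
  intro y hy
  have h1 := hc (a⁻¹ * y * a) (conj_inv_mem_of_mem_normalizer ha hy)
  calc y * (a * c * a⁻¹) = a * ((a⁻¹ * y * a) * c) * a⁻¹ := by group
    _ = a * (c * (a⁻¹ * y * a)) * a⁻¹ := by rw [h1]
    _ = a * c * a⁻¹ * y := by group

theorem centralizer_le (m : MinCex H K) {p : ℕ} [hp : Fact p.Prime] (hpH : p ∣ Nat.card H)
    {Hp : Subgroup G} (hHp : SylIn H p Hp) : Subgroup.centralizer (Hp : Set G) ≤ H := by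
  have sHp : IsSyl p Hp := m.cfg.sylIn_isSyl hHp hpH
  obtain ⟨C, hC⟩ : ∃ C : Subgroup G, C = Subgroup.centralizer (Hp : Set G) := ⟨_, rfl⟩
  rw [← hC]
  have hcop : (Nat.card C).Coprime (Nat.card K) := by
    apply Nat.coprime_of_dvd
    intro s hs hsC hsK
    haveI : Fact s.Prime := ⟨hs⟩
    obtain ⟨v, hv⟩ := exists_prime_orderOf_dvd_card' s hsC
    have hv' : orderOf v.1 = s := by rw [Subgroup.orderOf_coe]; exact hv
    have hE : IsPGroup s (Subgroup.zpowers v.1) := by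
      apply IsPGroup.of_card (n := 1)
      rw [Nat.card_zpowers, hv', pow_one]
    have hE1 : Subgroup.zpowers v.1 ≠ ⊥ := by
      intro h0
      rw [Subgroup.zpowers_eq_bot] at h0
      rw [h0, orderOf_one] at hv'
      exact hs.one_lt.ne hv'
    apply m.not_le_normalizer hpH hsK sHp hE hE1
    intro x hx
    apply Subgroup.centralizer_le_normalizer
    rw [Subgroup.mem_centralizer_iff]
    intro e he
    have h1 : v.1 ∈ Subgroup.centralizer ({x} : Set G) := by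
      rw [Subgroup.mem_centralizer_singleton_iff]
      have hvC : v.1 ∈ Subgroup.centralizer (Hp : Set G) := by rw [← hC]; exact v.2
      rw [Subgroup.mem_centralizer_iff] at hvC
      exact (hvC x hx).symm
    have h2 : Subgroup.zpowers v.1 ≤ Subgroup.centralizer ({x} : Set G) := by
      rw [Subgroup.zpowers_le]; exact h1
    have h3 := h2 he
    rw [Subgroup.mem_centralizer_singleton_iff] at h3
    exact h3
  have hHC : H ≤ Subgroup.normalizer (C : Set G) := by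
    intro a ha
    apply mem_normalizer_of_conj_le
    intro c hc
    rw [hC] at hc ⊢
    exact conj_mem_centralizer (hHp.norm ha) hc
  intro x hx
  obtain ⟨h, hh, k, hk, e⟩ := m.cfg.fac x
  have hk' : k = h⁻¹ * x := by rw [e]; group
  obtain ⟨c', hc', e'⟩ := pow_mul_mem C (hHC (H.inv_mem hh)) hx (Nat.card H)
  have h1 : h⁻¹ ^ Nat.card H = 1 := by
    rw [← orderOf_dvd_iff_pow_eq_one]
    exact Subgroup.orderOf_dvd_natCard H (H.inv_mem hh)
  rw [← hk', h1, one_mul] at e'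
  have h2 : (k ^ Nat.card H) ^ Nat.card C = 1 := by
    rw [e', ← orderOf_dvd_iff_pow_eq_one]
    exact Subgroup.orderOf_dvd_natCard C hc'
  rw [← pow_mul] at h2
  have h3 : orderOf k ∣ Nat.card H * Nat.card C := orderOf_dvd_of_pow_eq_one h2
  have h4 : orderOf k ∣ Nat.card K := Subgroup.orderOf_dvd_natCard K hk
  have h5 : (Nat.card H * Nat.card C).Coprime (Nat.card K) :=
    Nat.Coprime.mul_left m.cfg.cop hcop
  have h6 : orderOf k = 1 := Nat.eq_one_of_dvd_coprimes h5 h3 h4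
  rw [orderOf_eq_one_iff] at h6
  rw [e, h6, mul_one]
  exact hh

theorem normalizer_sylIn_le (m : MinCex H K) {p : ℕ} [hp : Fact p.Prime] (hpH : p ∣ Nat.card H)
    {Hp : Subgroup G} (hHp : SylIn H p Hp) :
    Subgroup.normalizer (Hp : Set G) ≤ Subgroup.normalizer (H : Set G) := by
  intro n hn
  apply mem_normalizer_of_conj_le
  intro x hx
  obtain ⟨a, ha, b, hb, e, hc⟩ := hHp.decomp m.cfg.nilH hx
  have hbC : b ∈ Subgroup.centralizer (Hp : Set G) := by
    rw [Subgroup.mem_centralizer_iff]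
    intro y hy
    exact (hc y hy).symm
  have h1 : n * a * n⁻¹ ∈ H := hHp.le (conj_mem_of_mem_normalizer hn ha)
  have h2 : n * b * n⁻¹ ∈ H := m.centralizer_le hpH hHp (conj_mem_centralizer hn hbC)
  have e2 : n * x * n⁻¹ = (n * a * n⁻¹) * (n * b * n⁻¹) := by rw [e]; group
  rw [e2]
  exact H.mul_mem h1 h2

theorem normalizer_le_normalizer_sylIn {p : ℕ} [hp : Fact p.Prime]
    {Hp : Subgroup G} (hHp : SylIn H p Hp) :
    Subgroup.normalizer (H : Set G) ≤ Subgroup.normalizer (Hp : Set G) := by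
  intro n hn
  apply mem_normalizer_of_conj_le
  have h1 : MulAut.conj n • Hp ≤ Hp := by
    apply hHp.max
    · rw [conj_smul_le_iff]
      intro x hx
      exact conj_mem_of_mem_normalizer hn (hHp.le hx)
    · rw [conj_smul_eq_map]
      exact hHp.pg.map _
  exact conj_smul_le_iff.mp h1

theorem normalizer_sylIn_eq (m : MinCex H K) {p : ℕ} [hp : Fact p.Prime] (hpH : p ∣ Nat.card H)
    {Hp : Subgroup G} (hHp : SylIn H p Hp) :
    Subgroup.normalizer (Hp : Set G) = Subgroup.normalizer (H : Set G) :=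
  le_antisymm (m.normalizer_sylIn_le hpH hHp) (normalizer_le_normalizer_sylIn hHp)

theorem conj_pow_aux (g u : G) (n : ℕ) : (g⁻¹ * u * g) ^ n = g⁻¹ * u ^ n * g := by
  induction n with
  | zero => simp
  | succ n ih => rw [pow_succ, ih, pow_succ]; group

/-- Fusion of elements of `Hp` is controlled by the normalizer of `H`. -/
theorem fusion_elt (m : MinCex H K) {p : ℕ} [hp : Fact p.Prime] (hpH : p ∣ Nat.card H)
    {Hp : Subgroup G} (hHp : SylIn H p Hp) {u g : G} (hu : u ∈ Hp) (hug : g⁻¹ * u * g ∈ H) :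
    ∃ c ∈ Subgroup.centralizer ({u} : Set G), MulAut.conj g • H = MulAut.conj c • H := by
  obtain ⟨r, hr, hrH, hrp⟩ := m.twoH p hp.out hpH
  haveI : Fact r.Prime := ⟨hr⟩
  obtain ⟨Hr, hHr⟩ := exists_sylIn H m.cfg.nilH r
  have sHr : IsSyl r Hr := m.cfg.sylIn_isSyl hHr hrH
  have hug' : g⁻¹ * u * g ∈ Hp := by
    obtain ⟨k, hk⟩ := hHp.pg ⟨u, hu⟩
    have hk' : u ^ (p ^ k) = 1 := by simpa using congrArg Subtype.val hk
    apply hHp.mem_of_orderOf hug (k := k)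
    rw [conj_pow_aux, hk']; group
  have h1 : Hr ≤ Subgroup.centralizer ({u} : Set G) := by
    intro y hy
    rw [Subgroup.mem_centralizer_singleton_iff]
    exact hHr.commute_of_ne m.cfg.nilH hHp hrp hy hu
  have h2 : MulAut.conj g • Hr ≤ Subgroup.centralizer ({u} : Set G) := by
    intro x hx
    rw [Subgroup.mem_centralizer_singleton_iff]
    have hx' : g⁻¹ * x * g ∈ Hr := (mem_conj_smul_iff g x Hr).mp hx
    have h3 := hHr.commute_of_ne m.cfg.nilH hHp hrp hx' hug'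
    calc x * u = g * ((g⁻¹ * x * g) * (g⁻¹ * u * g)) * g⁻¹ := by group
      _ = g * ((g⁻¹ * u * g) * (g⁻¹ * x * g)) * g⁻¹ := by rw [h3]
      _ = u * x := by group
  obtain ⟨c, hc, hcg⟩ := sylow_conj_in_subgroup (sHr.pg.toSylow sHr.ndvd)
    (Subgroup.centralizer ({u} : Set G)) g h1 h2
  have hcg' : MulAut.conj (c * g) • Hr = Hr := hcg
  have h4 : c * g ∈ Subgroup.normalizer (H : Set G) :=
    m.normalizer_sylIn_le hrH hHr ((conj_smul_eq_self_iff _ _).mp hcg')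
  have h5 : MulAut.conj (c * g) • H = H := (conj_smul_eq_self_iff _ _).mpr h4
  refine ⟨c⁻¹, Subgroup.inv_mem _ hc, ?_⟩
  have e : c⁻¹ * (c * g) = g := by group
  calc MulAut.conj g • H = MulAut.conj (c⁻¹ * (c * g)) • H := by rw [e]
    _ = MulAut.conj c⁻¹ • (MulAut.conj (c * g) • H) := by rw [conj_smul_smul]
    _ = MulAut.conj c⁻¹ • H := by rw [h5]

/-- Fusion of subgroups of `Hp` is controlled by the normalizer of `H`. -/
theorem fusion_sub (m : MinCex H K) {p : ℕ} [hp : Fact p.Prime] (hpH : p ∣ Nat.card H)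
    {Hp : Subgroup G} (hHp : SylIn H p Hp) {U : Subgroup G} (hU : U ≤ Hp) {t : G}
    (ht : t ∈ Subgroup.normalizer (U : Set G)) :
    ∃ c ∈ Subgroup.centralizer (U : Set G), c * t ∈ Subgroup.normalizer (H : Set G) := by
  obtain ⟨r, hr, hrH, hrp⟩ := m.twoH p hp.out hpH
  haveI : Fact r.Prime := ⟨hr⟩
  obtain ⟨Hr, hHr⟩ := exists_sylIn H m.cfg.nilH r
  have sHr : IsSyl r Hr := m.cfg.sylIn_isSyl hHr hrH
  have h1 : Hr ≤ Subgroup.centralizer (U : Set G) := by
    intro y hy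
    rw [Subgroup.mem_centralizer_iff]
    intro x hx
    exact (hHr.commute_of_ne m.cfg.nilH hHp hrp hy (hU hx)).symm
  have h2 : MulAut.conj t • Hr ≤ Subgroup.centralizer (U : Set G) := by
    intro x hx
    rw [Subgroup.mem_centralizer_iff]
    intro y hy
    have hx' : t⁻¹ * x * t ∈ Hr := (mem_conj_smul_iff t x Hr).mp hx
    have hy' : t⁻¹ * y * t ∈ U := conj_inv_mem_of_mem_normalizer ht hy
    have h3 := hHr.commute_of_ne m.cfg.nilH hHp hrp hx' (hU hy')
    calc y * x = t * ((t⁻¹ * y * t) * (t⁻¹ * x * t)) * t⁻¹ := by group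
      _ = t * ((t⁻¹ * x * t) * (t⁻¹ * y * t)) * t⁻¹ := by rw [h3]
      _ = x * y := by group
  obtain ⟨c, hc, hcg⟩ := sylow_conj_in_subgroup (sHr.pg.toSylow sHr.ndvd)
    (Subgroup.centralizer (U : Set G)) t h1 h2
  have hcg' : MulAut.conj (c * t) • Hr = Hr := hcg
  exact ⟨c, hc, m.normalizer_sylIn_le hrH hHr ((conj_smul_eq_self_iff _ _).mp hcg')⟩

end MinCex

end Cfsg.Agent.H16KW
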