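import Mathlib
import Cfsg.Agent.H16KW2
import Cfsg.Agent.Lib_helper1_Core
import Cfsg.Agent.Lib_helper23_PSolv
import Cfsg.Agent.Lib_helper23_PSolv3

set_option autoImplicit false
set_option linter.style.haveILetI false
set_option linter.unusedSectionVars false

namespace Cfsg.Agent.H16KW

open scoped Pointwise
open Cfsg.Agent.helper3 Cfsg.Agent.helper23

universe u

variable {G : Type u} [Group G] [Finite G]

theorem IsSyl.not_dvd_relIndex {p : ℕ} {P L : Subgroup G} (h : IsSyl p P)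
    (hPL : P ≤ L) : ¬ p ∣ P.relIndex L := by
  intro h1
  apply h.ndvd
  rw [← Subgroup.relIndex_mul_index hPL]
  exact h1.mul_right _

theorem permWith_of_le_normalizer {S A : Subgroup G}
    (h : S ≤ Subgroup.normalizer (A : Set G)) : PermWith S A := by
  intro l hl k hk
  refine ⟨l, hl, l⁻¹ * k * l, conj_inv_mem_of_mem_normalizer (h hl) hk, ?_⟩
  group

theorem centralizer_subgroupOf_normalizer_normal (U : Subgroup G) :
    ((Subgroup.centralizer (U : Set G)).subgroupOf (Subgroup.normalizer (U : Set G))).Normal := by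
  rw [Subgroup.normal_subgroupOf_iff_le_normalizer (Subgroup.centralizer_le_normalizer _)]
  intro a ha
  apply mem_normalizer_of_conj_le
  intro c hc
  exact MinCex.conj_mem_centralizer ha hc

namespace MinCex

variable {H K : Subgroup G}

theorem ne_of_dvd (m : MinCex H K) {p q : ℕ} (hp : p.Prime) (hpH : p ∣ Nat.card H)
    (hqK : q ∣ Nat.card K) : p ≠ q := by
  intro h
  rw [← h] at hqK
  exact m.cfg.not_dvd_right hp hpH hqK

/-- If a `q`-subgroup `T` of `K` permutes with the Sylow `p`-subgroup of `H`, it normalizes `H`. -/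
theorem perm_le_normalizer (m : MinCex H K) {p q : ℕ} [hp : Fact p.Prime] [hq : Fact q.Prime]
    (hpH : p ∣ Nat.card H) (hqK : q ∣ Nat.card K) {Hp : Subgroup G} (hHp : SylIn H p Hp)
    {T : Subgroup G} (hTK : T ≤ K) (hTq : IsPGroup q T) (hperm : PermWith T Hp) :
    T ≤ Subgroup.normalizer (H : Set G) := by
  have hpq : p ≠ q := m.ne_of_dvd hp.out hpH hqK
  have sHp : IsSyl p Hp := m.cfg.sylIn_isSyl hHp hpH
  obtain ⟨M, hM⟩ : ∃ M : Subgroup G, M = Subgroup.normalizer (H : Set G) := ⟨_, rfl⟩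
  rw [← hM]
  obtain ⟨N0, hN0⟩ : ∃ N0 : Subgroup G, N0 = K ⊓ M := ⟨_, rfl⟩
  obtain ⟨S0⟩ : Nonempty (Sylow q N0) := inferInstance
  obtain ⟨S, hS⟩ : ∃ S : Subgroup G, S = (S0 : Subgroup N0).map N0.subtype := ⟨_, rfl⟩
  have hSN0 : S ≤ N0 := by rw [hS]; exact Subgroup.map_subtype_le _
  have hSq : IsPGroup q S := by rw [hS]; exact S0.isPGroup'.map _
  have hScard : Nat.card S = q ^ (Nat.card N0).factorization q := by
    rw [hS, Subgroup.card_map_of_injective N0.subtype_injective]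
    exact S0.card_eq_multiplicity
  obtain ⟨Kq, hKq⟩ := exists_sylIn K m.cfg.nilK q
  have hTKq : T ≤ Kq := hKq.max T hTK hTq
  have hSK : S ≤ K := hSN0.trans (by rw [hN0]; exact inf_le_left)
  have hSM : S ≤ M := hSN0.trans (by rw [hN0]; exact inf_le_right)
  have hSKq : S ≤ Kq := hKq.max S hSK hSq
  obtain ⟨T2, hT2⟩ : ∃ T2 : Subgroup G, T2 = T ⊔ S := ⟨_, rfl⟩
  have hT2Kq : T2 ≤ Kq := by rw [hT2]; exact sup_le hTKq hSKq
  have hT2q : IsPGroup q T2 := hKq.pg.to_le hT2Kq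
  have hT2K : T2 ≤ K := hT2Kq.trans hKq.le
  have hpermS : PermWith S Hp := by
    apply permWith_of_le_normalizer
    rw [hM] at hSM
    exact hSM.trans (normalizer_le_normalizer_sylIn hHp)
  have hperm2 : PermWith T2 Hp := by rw [hT2]; exact permWith_sup T S Hp hperm hpermS
  obtain ⟨Y1, hY1⟩ := exists_coe_eq_of_permWith T2 Hp hperm2
  have hT2Y : T2 ≤ Y1 := by
    intro x hx
    rw [← SetLike.mem_coe, hY1]
    exact ⟨x, hx, 1, Hp.one_mem, mul_one x⟩
  have hHpY : Hp ≤ Y1 := by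
    intro x hx
    rw [← SetLike.mem_coe, hY1]
    exact ⟨1, T2.one_mem, x, hx, one_mul x⟩
  have hinf : T2 ⊓ Hp = ⊥ := by
    apply Subgroup.inf_eq_bot_of_coprime
    obtain ⟨a, ha⟩ := IsPGroup.iff_card.1 hT2q
    obtain ⟨b, hb⟩ := IsPGroup.iff_card.1 hHp.pg
    rw [ha, hb]
    exact Nat.Coprime.pow _ _ ((Nat.coprime_primes hq.out hp.out).2 hpq.symm)
  have hcardY : Nat.card Y1 = Nat.card T2 * Nat.card Hp := by
    have h1 := Cfsg.Agent.S0560.card_setmul T2 Hp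
    rw [hinf, Subgroup.card_bot, mul_one, ← hY1] at h1
    exact h1
  obtain ⟨a, ha⟩ := IsPGroup.iff_card.1 hT2q
  obtain ⟨b, hb⟩ := IsPGroup.iff_card.1 hHp.pg
  have hYtop : Y1 ≠ ⊤ := by
    intro h0
    obtain ⟨r, hr, hrH, hrp⟩ := m.twoH p hp.out hpH
    have h1 : r ∣ Nat.card Y1 := by
      rw [h0, Subgroup.card_top, m.cfg.card]; exact hrH.mul_right _
    rw [hcardY, ha, hb] at h1
    rcases (Nat.Prime.dvd_mul hr).1 h1 with h2 | h2
    · have := (Nat.prime_dvd_prime_iff_eq hr hq.out).1 (hr.dvd_of_dvd_pow h2)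
      rw [this] at hrH
      exact m.cfg.not_dvd_right hq.out hrH hqK
    · exact hrp ((Nat.prime_dvd_prime_iff_eq hr hp.out).1 (hr.dvd_of_dvd_pow h2))
  have hfacY : ∀ x ∈ Y1, ∃ h ∈ H ⊓ Y1, ∃ k ∈ K ⊓ Y1, x = h * k := by
    intro x hx
    have hx' : x⁻¹ ∈ (Y1 : Set G) := Y1.inv_mem hx
    rw [hY1] at hx'
    obtain ⟨t, ht, h, hh, e⟩ := hx'
    have e' : t * h = x⁻¹ := e
    refine ⟨h⁻¹, ⟨H.inv_mem (hHp.le hh), Y1.inv_mem (hHpY hh)⟩, t⁻¹,
      ⟨K.inv_mem (hT2K ht), Y1.inv_mem (hT2Y ht)⟩, ?_⟩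
    rw [← mul_inv_rev, e', inv_inv]
  haveI hsolv : Group.IsSolvable Y1 := m.ih Y1 hYtop hfacY
  have hps : PSReach p (⊤ : Subgroup Y1) := psreach_top_of_solvable p _ Y1 rfl
  have hO : Cfsg.pPrimeCore p Y1 = ⊥ := by
    by_contra hne
    haveI hEn : (Cfsg.pPrimeCore p Y1).Normal := Cfsg.Agent.helper1.pPrimeCore_normal p
    have hEcop := Cfsg.Agent.helper1.pPrimeCore_coprime (G := Y1) p
    obtain ⟨E, hE⟩ : ∃ E : Subgroup G, E = (Cfsg.pPrimeCore p Y1).map Y1.subtype := ⟨_, rfl⟩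
    have hEcard : Nat.card E = Nat.card (Cfsg.pPrimeCore p Y1) := by
      rw [hE, Subgroup.card_map_of_injective Y1.subtype_injective]
    have hE1 : E ≠ ⊥ := by
      intro h0
      apply hne
      rw [← Subgroup.card_eq_one, ← hEcard, h0, Subgroup.card_bot]
    have hEq : IsPGroup q E := by
      have h1 : Nat.card E ∣ Nat.card Y1 := by
        rw [hEcard]; exact Subgroup.card_subgroup_dvd_card _
      rw [hcardY, ha, hb] at h1
      have h2 : (Nat.card E).Coprime (p ^ b) := by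
        rw [hEcard]; exact Nat.Coprime.pow_right b hEcop
      have h3 : Nat.card E ∣ q ^ a := Nat.Coprime.dvd_of_dvd_mul_right h2 h1
      obtain ⟨j, _, hj⟩ := (Nat.dvd_prime_pow hq.out).1 h3
      exact IsPGroup.of_card hj
    apply m.not_le_normalizer hpH hqK sHp hEq hE1
    intro x hx
    apply mem_normalizer_of_conj_le
    intro e he
    rw [hE] at he ⊢
    obtain ⟨e', he', rfl⟩ := he
    exact ⟨⟨x, hHpY hx⟩ * e' * ⟨x, hHpY hx⟩⁻¹, hEn.conj_mem e' he' ⟨x, hHpY hx⟩, rfl⟩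
  have hHH := hall_higman_123 hps hO
  haveI hUn : (Cfsg.pCore p Y1).Normal := Cfsg.Agent.helper1.pCore_normal p
  obtain ⟨U, hU⟩ : ∃ U : Subgroup G, U = (Cfsg.pCore p Y1).map Y1.subtype := ⟨_, rfl⟩
  have hUHp : U ≤ Hp := by
    have hpg : IsPGroup p (Hp.subgroupOf Y1) := hHp.pg.comap_subtype
    have hnd : ¬ p ∣ (Hp.subgroupOf Y1).index := sHp.not_dvd_relIndex hHpY
    have h1 := Cfsg.Agent.helper1.pCore_le_sylow (hpg.toSylow hnd)
    intro x hx
    rw [hU] at hx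
    obtain ⟨y, hy, rfl⟩ := hx
    have h2 := h1 hy
    exact Subgroup.mem_subgroupOf.mp h2
  have hT2N : T2 ≤ Subgroup.normalizer (U : Set G) := by
    intro t ht
    apply mem_normalizer_of_conj_le
    intro e he
    rw [hU] at he ⊢
    obtain ⟨e', he', rfl⟩ := he
    exact ⟨⟨t, hT2Y ht⟩ * e' * ⟨t, hT2Y ht⟩⁻¹, hUn.conj_mem e' he' ⟨t, hT2Y ht⟩, rfl⟩
  have hT2C : ∀ t ∈ T2, t ∈ Subgroup.centralizer (U : Set G) → t = 1 := by
    intro t ht htC
    have h1 : (⟨t, hT2Y ht⟩ : Y1) ∈ Subgroup.centralizer ((Cfsg.pCore p Y1 : Subgroup Y1) : Set Y1) := by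
      rw [Subgroup.mem_centralizer_iff]
      intro y hy
      rw [Subgroup.mem_centralizer_iff] at htC
      have h2 := htC y.1 (by rw [hU]; exact ⟨y, hy, rfl⟩)
      ext
      exact h2
    have h3 := hHH h1
    have h4 : t ∈ U := by rw [hU]; exact ⟨⟨t, hT2Y ht⟩, h3, rfl⟩
    have h5 : t ∈ T2 ⊓ Hp := ⟨ht, hUHp h4⟩
    rwa [hinf, Subgroup.mem_bot] at h5
  -- the order argument
  obtain ⟨N, hN⟩ : ∃ N : Subgroup G, N = Subgroup.normalizer (U : Set G) := ⟨_, rfl⟩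
  obtain ⟨C, hC⟩ : ∃ C : Subgroup G, C = Subgroup.centralizer (U : Set G) := ⟨_, rfl⟩
  haveI hCn : (C.subgroupOf N).Normal := by
    rw [hC, hN]; exact centralizer_subgroupOf_normalizer_normal U
  have hCN : C ≤ N := by rw [hC, hN]; exact Subgroup.centralizer_le_normalizer _
  rw [← hN] at hT2N
  have hdvd1 : Nat.card T2 ∣ Nat.card (N ⧸ C.subgroupOf N) := by
    apply Subgroup.card_dvd_of_injective
      ((QuotientGroup.mk' (C.subgroupOf N)).comp (Subgroup.inclusion hT2N))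
    rw [injective_iff_map_eq_one]
    intro t ht
    rw [MonoidHom.comp_apply, QuotientGroup.mk'_apply, QuotientGroup.eq_one_iff,
      Subgroup.mem_subgroupOf] at ht
    have h1 : (t : G) = 1 := hT2C t.1 t.2 (by rw [← hC]; exact ht)
    ext
    exact h1
  have hdvd2 : Nat.card (N ⧸ C.subgroupOf N) ∣ Nat.card (M ⊓ N : Subgroup G) := by
    apply Subgroup.card_dvd_of_surjective
      ((QuotientGroup.mk' (C.subgroupOf N)).comp (Subgroup.inclusion (inf_le_right : M ⊓ N ≤ N)))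
    intro y
    obtain ⟨n, rfl⟩ := QuotientGroup.mk'_surjective _ y
    obtain ⟨c, hc, hcn⟩ := m.fusion_sub hpH hHp hUHp (by rw [← hN]; exact n.2)
    rw [← hC] at hc
    rw [← hM] at hcn
    have hcnN : c * n.1 ∈ N := N.mul_mem (hCN hc) n.2
    refine ⟨⟨c * n.1, ⟨hcn, hcnN⟩⟩, ?_⟩
    rw [MonoidHom.comp_apply, QuotientGroup.mk'_apply, QuotientGroup.mk'_apply, QuotientGroup.eq,
      Subgroup.mem_subgroupOf]
    show ((⟨c * n.1, hcnN⟩ : N)⁻¹ * n : N).1 ∈ C
    have e : ((⟨c * n.1, hcnN⟩ : N)⁻¹ * n : N).1 = n.1⁻¹ * c⁻¹ * n.1 := by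
      simp only [Subgroup.coe_mul, Subgroup.coe_inv]
      group
    rw [e, hC]
    have := conj_mem_centralizer (A := U) (Subgroup.inv_mem _ (by rw [← hN]; exact n.2))
      (Subgroup.inv_mem _ (by rw [← hC]; exact hc))
    rwa [inv_inv] at this
  have hdvd3 : Nat.card T2 ∣ Nat.card M :=
    (hdvd1.trans hdvd2).trans (Subgroup.card_dvd_of_le inf_le_left)
  have hfacM : ∀ w ∈ M, ∃ h ∈ H ⊓ M, ∃ k ∈ K ⊓ M, w = h * k := by
    intro w hw
    obtain ⟨h, hh, k, hk, e⟩ := m.cfg.fac w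
    have hhM : h ∈ M := by rw [hM]; exact Subgroup.le_normalizer hh
    have hkM : k ∈ M := by
      have : k = h⁻¹ * w := by rw [e]; group
      rw [this]; exact M.mul_mem (M.inv_mem hhM) hw
    exact ⟨h, ⟨hh, hhM⟩, k, ⟨hk, hkM⟩, e⟩
  have hcardM := card_of_fac m.cfg.inf_eq_bot hfacM
  rw [← hN0] at hcardM
  have hdvd4 : Nat.card T2 ∣ Nat.card N0 := by
    rw [hcardM] at hdvd3
    apply Nat.Coprime.dvd_of_dvd_mul_left _ hdvd3
    rw [ha]
    apply Nat.Coprime.pow_left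
    rw [Nat.Prime.coprime_iff_not_dvd hq.out]
    intro h1
    have h2 : q ∣ Nat.card H := h1.trans (Subgroup.card_dvd_of_le inf_le_left)
    exact m.cfg.not_dvd_right hq.out h2 hqK
  have hle : Nat.card T2 ≤ Nat.card S := by
    rw [ha] at hdvd4 ⊢
    rw [hScard]
    have h1 := (Nat.Prime.pow_dvd_iff_le_factorization hq.out (Nat.card_pos.ne')).1 hdvd4
    exact Nat.pow_le_pow_right hq.out.pos h1
  have hST2 : S ≤ T2 := by rw [hT2]; exact le_sup_right
  have heq : S = T2 := Subgroup.eq_of_le_of_card_ge hST2 hle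
  have hTT2 : T ≤ T2 := by rw [hT2]; exact le_sup_left
  rw [← heq] at hTT2
  exact hTT2.trans hSM

end MinCex

end Cfsg.Agent.H16KW
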