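import Mathlib
import Cfsg.Agent.H16KW3

set_option autoImplicit false
set_option linter.style.haveILetI false
set_option linter.unusedSectionVars false

namespace Cfsg.Agent.H16KW

open scoped Pointwise
open Cfsg.Agent.helper3 Cfsg.Agent.helper23

universe u

variable {G : Type u} [Group G] [Finite G]

namespace MinCex

variable {H K : Subgroup G}

/-- A proper factorized subgroup containing the Sylow `p`-subgroup of `H`: its `K`-part normalizes
`H`. -/
theorem inf_le_normalizer_of_fac (m : MinCex H K) {p : ℕ} [hp : Fact p.Prime]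
    (hpH : p ∣ Nat.card H) {Hp : Subgroup G} (hHp : SylIn H p Hp) {W : Subgroup G} (hW : W ≠ ⊤)
    (hfac : ∀ w ∈ W, ∃ h ∈ H ⊓ W, ∃ k ∈ K ⊓ W, w = h * k) (hHpW : Hp ≤ W) :
    K ⊓ W ≤ Subgroup.normalizer (H : Set G) := by
  have sHp : IsSyl p Hp := m.cfg.sylIn_isSyl hHp hpH
  have hsolv : Group.IsSolvable W := m.ih W hW hfac
  have hfac' : ∀ x ∈ W, ∃ k ∈ K ⊓ W, ∃ h ∈ H ⊓ W, x = k * h := by
    intro x hx
    obtain ⟨h, hh, k, hk, e⟩ := hfac x⁻¹ (W.inv_mem hx)
    refine ⟨k⁻¹, Subgroup.inv_mem _ hk, h⁻¹, Subgroup.inv_mem _ hh, ?_⟩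
    rw [← mul_inv_rev, ← e, inv_inv]
  have hcardW := card_of_fac m.cfg.inf_eq_bot hfac
  obtain ⟨WK, hWK⟩ : ∃ WK : Subgroup G, WK = K ⊓ W := ⟨_, rfl⟩
  rw [← hWK] at hcardW ⊢
  have hWKK : WK ≤ K := by rw [hWK]; exact inf_le_left
  have hWKW : WK ≤ W := by rw [hWK]; exact inf_le_right
  haveI hnil : Group.IsNilpotent WK := Cfsg.Agent.helper8.CN.nilpotent_of_le hWKK m.cfg.nilK
  have hrel : WK.relIndex W = Nat.card (H ⊓ W : Subgroup G) := by
    have h1 := Subgroup.relIndex_mul_relIndex ⊥ WK W bot_le hWKW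
    rw [Subgroup.relIndex_bot_left, Subgroup.relIndex_bot_left, hcardW, mul_comm] at h1
    exact Nat.eq_of_mul_eq_mul_right Nat.card_pos h1
  have key : ∀ (q : ℕ) [Fact q.Prime] (Q : Sylow q WK),
      (Q : Subgroup WK).map WK.subtype ≤ Subgroup.normalizer (H : Set G) := by
    intro q hq Q
    obtain ⟨B, hB⟩ : ∃ B : Subgroup G, B = (Q : Subgroup WK).map WK.subtype := ⟨_, rfl⟩
    rw [← hB]
    by_cases hB1 : B = ⊥
    · rw [hB1]; exact bot_le
    have hBWK : B ≤ WK := by rw [hB]; exact Subgroup.map_subtype_le _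
    have hBq : IsPGroup q B := by rw [hB]; exact Q.isPGroup'.map _
    have hqK : q ∣ Nat.card K := by
      have h1 : q ∣ Nat.card B := by
        obtain ⟨k, hk⟩ := IsPGroup.iff_card.1 hBq
        have hk0 : k ≠ 0 := by
          intro h0
          rw [h0, pow_zero] at hk
          exact hB1 (Subgroup.card_eq_one.mp hk)
        rw [hk]; exact dvd_pow_self q hk0
      exact h1.trans (Subgroup.card_dvd_of_le (hBWK.trans hWKK))
    have hsub : B.subgroupOf WK = (Q : Subgroup WK) := by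
      rw [hB]; exact Subgroup.comap_map_eq_self_of_injective WK.subtype_injective _
    haveI hQn : (Q : Subgroup WK).Normal := inferInstance
    have hBN : K ⊓ W ≤ Subgroup.normalizer (B : Set G) := by
      rw [← hWK, ← Subgroup.normal_subgroupOf_iff_le_normalizer hBWK, hsub]
      exact hQn
    have hBrel : ¬ q ∣ B.relIndex W := by
      rw [← Subgroup.relIndex_mul_relIndex B WK W hBWK hWKW, hrel]
      intro h1
      rcases (Nat.Prime.dvd_mul hq.out).1 h1 with h2 | h2
      · have : B.relIndex WK = (Q : Subgroup WK).index := by rw [Subgroup.relIndex, hsub]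
        rw [this] at h2
        exact Q.not_dvd_index h2
      · have h3 : q ∣ Nat.card H := h2.trans (Subgroup.card_dvd_of_le inf_le_left)
        exact m.cfg.not_dvd_right hq.out h3 hqK
    have hBcop : (Nat.card B).Coprime (B.relIndex W) := by
      obtain ⟨k, hk⟩ := IsPGroup.iff_card.1 hBq
      rw [hk]
      exact Nat.Coprime.pow_left k ((Nat.Prime.coprime_iff_not_dvd hq.out).2 hBrel)
    have hperm : PermWith B Hp :=
      perm_of_solvable_sub K H B Hp W hsolv hfac' (hBWK.trans hWKW) hHpW hBN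
        (fun x hx => hHp.norm hx.1) hBcop (sHp.coprime_relIndex hHpW)
    exact m.perm_le_normalizer hpH hqK hHp (hBWK.trans hWKK) hBq hperm
  have htop : (Subgroup.normalizer (H : Set G)).subgroupOf WK = ⊤ := by
    apply Cfsg.Agent.helper1.eq_top_of_forall_sylow_le
    intro q hq
    obtain ⟨Q⟩ : Nonempty (Sylow q WK) := inferInstance
    refine ⟨Q, ?_⟩
    intro x hx
    rw [Subgroup.mem_subgroupOf]
    exact key q Q ⟨x, hx, rfl⟩
  intro x hx
  have h1 : (⟨x, hx⟩ : WK) ∈ (Subgroup.normalizer (H : Set G)).subgroupOf WK := by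
    rw [htop]; exact Subgroup.mem_top _
  exact Subgroup.mem_subgroupOf.mp h1

/-- Every proper subgroup containing `H` normalizes `H`. -/
theorem le_normalizer_of_le (m : MinCex H K) {X : Subgroup G} (hX : X ≠ ⊤) (hHX : H ≤ X) :
    X ≤ Subgroup.normalizer (H : Set G) := by
  obtain ⟨p, hp, hpH⟩ := m.exH
  haveI : Fact p.Prime := ⟨hp⟩
  obtain ⟨Hp, hHp⟩ := exists_sylIn H m.cfg.nilH p
  have hfac : ∀ w ∈ X, ∃ h ∈ H ⊓ X, ∃ k ∈ K ⊓ X, w = h * k := by
    intro w hw
    obtain ⟨h, hh, k, hk, e⟩ := m.cfg.fac w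
    have hkX : k ∈ X := by
      have : k = h⁻¹ * w := by rw [e]; group
      rw [this]; exact X.mul_mem (X.inv_mem (hHX hh)) hw
    exact ⟨h, ⟨hh, hHX hh⟩, k, ⟨hk, hkX⟩, e⟩
  have h1 := m.inf_le_normalizer_of_fac hpH hHp hX hfac (hHp.le.trans hHX)
  intro x hx
  obtain ⟨h, hh, k, hk, e⟩ := hfac x hx
  rw [e]
  exact Subgroup.mul_mem _ (Subgroup.le_normalizer hh.1) (h1 hk)

theorem centralizer_le_normalizer_zpowers (v : G) :
    Subgroup.centralizer ({v} : Set G) ≤ Subgroup.normalizer ((Subgroup.zpowers v : Subgroup G) : Set G) := by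
  intro x hx
  apply mem_normalizer_of_conj_le
  intro e he
  have h1 : v ∈ Subgroup.centralizer ({x} : Set G) := by
    rw [Subgroup.mem_centralizer_singleton_iff] at hx ⊢
    exact hx.symm
  have h2 : Subgroup.zpowers v ≤ Subgroup.centralizer ({x} : Set G) := by
    rw [Subgroup.zpowers_le]; exact h1
  have h3 := h2 he
  rw [Subgroup.mem_centralizer_singleton_iff] at h3
  have : x * e * x⁻¹ = e := by rw [← h3]; group
  rw [this]; exact he

/-- If `v ∈ K` has prime order and normalizes `H`, then its centralizer normalizes `K`. -/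
theorem centralizer_le_normalizer_right (m : MinCex H K) {v : G} {s : ℕ} [hs : Fact s.Prime]
    (hv : orderOf v = s) (hvK : v ∈ K) (hvM : v ∈ Subgroup.normalizer (H : Set G)) :
    Subgroup.centralizer ({v} : Set G) ≤ Subgroup.normalizer (K : Set G) := by
  have hsK : s ∣ Nat.card K := by rw [← hv]; exact Subgroup.orderOf_dvd_natCard K hvK
  obtain ⟨Ks, hKs⟩ := exists_sylIn K m.cfg.nilK s
  have hvKs : v ∈ Ks := by
    apply hKs.mem_of_orderOf hvK (k := 1)
    rw [pow_one, ← hv, pow_orderOf_eq_one]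
  obtain ⟨s', hs', hs'K, hs's⟩ := m.twoK s hs.out hsK
  haveI : Fact s'.Prime := ⟨hs'⟩
  obtain ⟨Ks', hKs'⟩ := exists_sylIn K m.cfg.nilK s'
  have hv1 : v ≠ 1 := by
    intro h0
    rw [h0, orderOf_one] at hv
    exact hs.out.one_lt.ne hv
  have hE : IsPGroup s (Subgroup.zpowers v) := by
    apply IsPGroup.of_card (n := 1)
    rw [Nat.card_zpowers, hv, pow_one]
  have hE1 : Subgroup.zpowers v ≠ ⊥ := by
    intro h0
    rw [Subgroup.zpowers_eq_bot] at h0
    exact hv1 h0
  obtain ⟨W, hW⟩ : ∃ W : Subgroup G,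
      W = Subgroup.normalizer ((Subgroup.zpowers v : Subgroup G) : Set G) := ⟨_, rfl⟩
  have hWtop : W ≠ ⊤ := by
    rw [hW]; exact m.normalizer_ne_top hE1 (m.ne_top_of_isPGroup hE)
  have hCW : Subgroup.centralizer ({v} : Set G) ≤ W := by
    rw [hW]; exact centralizer_le_normalizer_zpowers v
  have hzK : Subgroup.zpowers v ≤ K := by rw [Subgroup.zpowers_le]; exact hvK
  have hfac : ∀ g ∈ W, ∃ k ∈ K ⊓ W, ∃ h ∈ H ⊓ W, g = k * h := by
    intro g hg
    obtain ⟨k, hk, h, hh, e⟩ := fac_symm m.cfg.fac g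
    have hgv : g * v * g⁻¹ ∈ K := by
      rw [hW] at hg
      exact hzK (conj_mem_of_mem_normalizer hg (Subgroup.mem_zpowers v))
    have h1 : h * v * h⁻¹ ∈ K := by
      have : h * v * h⁻¹ = k⁻¹ * (g * v * g⁻¹) * k := by rw [e]; group
      rw [this]
      exact K.mul_mem (K.mul_mem (K.inv_mem hk) hgv) hk
    have h2 : h * v * h⁻¹ * v⁻¹ ∈ K := K.mul_mem h1 (K.inv_mem hvK)
    have h3 : h * v * h⁻¹ * v⁻¹ ∈ H := by
      have : h * v * h⁻¹ * v⁻¹ = h * (v * h⁻¹ * v⁻¹) := by group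
      rw [this]
      exact H.mul_mem hh (conj_mem_of_mem_normalizer hvM (H.inv_mem hh))
    have h4 : h * v * h⁻¹ * v⁻¹ = 1 := m.cfg.eq_one_of_mem h3 h2
    have h5 : h ∈ Subgroup.centralizer ({v} : Set G) := by
      rw [Subgroup.mem_centralizer_singleton_iff]
      calc h * v = (h * v * h⁻¹ * v⁻¹) * (v * h) := by group
        _ = v * h := by rw [h4, one_mul]
    have hhW : h ∈ W := hCW h5
    have hkW : k ∈ W := by
      have : k = g * h⁻¹ := by rw [e]; group
      rw [this]; exact W.mul_mem hg (W.inv_mem hhW)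
    exact ⟨k, ⟨hk, hkW⟩, h, ⟨hh, hhW⟩, e⟩
  have hKs'W : Ks' ≤ W := by
    refine le_trans ?_ hCW
    intro y hy
    rw [Subgroup.mem_centralizer_singleton_iff]
    exact hKs'.commute_of_ne m.cfg.nilK hKs hs's hy hvKs
  have h6 : H ⊓ W ≤ Subgroup.normalizer (K : Set G) :=
    m.symm.inf_le_normalizer_of_fac hs'K hKs' hWtop hfac hKs'W
  intro x hx
  obtain ⟨k, hk, h, hh, e⟩ := hfac x (hCW hx)
  rw [e]
  exact Subgroup.mul_mem _ (Subgroup.le_normalizer hk.1) (h6 hh)

end MinCex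

end Cfsg.Agent.H16KW
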