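import Mathlib
import Cfsg.Agent.H16KW4

set_option autoImplicit false
set_option linter.style.haveILetI false
set_option linter.unusedSectionVars false

namespace Cfsg.Agent.H16KW

open scoped Pointwise
open Cfsg.Agent.helper3 Cfsg.Agent.helper23

universe u

/-- If `E` is normal, `p ∤ |E|` and `q ∤ |G : E|`, then some Sylow `p`-subgroup normalizes some
Sylow `q`-subgroup. -/
theorem exists_sylow_normalizes_of_normal {G' : Type u} [Group G'] [Finite G'] {p q : ℕ}
    [hp : Fact p.Prime] [hq : Fact q.Prime] (E : Subgroup G') [E.Normal]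
    (h1 : ¬ p ∣ Nat.card E) (h2 : ¬ q ∣ E.index) :
    ∃ (P : Sylow p G') (Q : Sylow q G'),
      (P : Subgroup G') ≤ Subgroup.normalizer ((Q : Subgroup G') : Set G') := by
  obtain ⟨P⟩ : Nonempty (Sylow p G') := Sylow.nonempty
  obtain ⟨Q₀⟩ : Nonempty (Sylow q G') := Sylow.nonempty
  have hQ₀K : (Q₀ : Subgroup G') ≤ E := sylow_le_of_not_dvd_index h2 Q₀
  have hfr : Subgroup.normalizer ((Q₀ : Subgroup G') : Set G') ⊔ E = ⊤ :=
    Sylow.normalizer_sup_eq_top' Q₀ hQ₀K
  have hdvd : Nat.card (Sylow q G') ∣ Nat.card E := by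
    rw [Sylow.card_eq_index_normalizer Q₀]
    exact index_dvd_card_of_sup_eq_top _ _ hfr
  have hnd : ¬ p ∣ Nat.card (Sylow q G') := fun h0 => h1 (h0.trans hdvd)
  obtain ⟨Q, hQ⟩ := P.2.nonempty_fixed_point_of_prime_not_dvd_card (Sylow q G') hnd
  refine ⟨P, Q, fun g hg => ?_⟩
  rw [MulAction.mem_fixedPoints] at hQ
  have h3 := hQ ⟨g, hg⟩
  rw [Subgroup.smul_def] at h3
  exact Sylow.smul_eq_iff_mem_normalizer.1 h3

variable {G : Type u} [Group G] [Finite G]

theorem orderOf_conj_aux {g x : G} {s : ℕ} (hs : s.Prime) (hx : orderOf x = s) :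
    orderOf (g⁻¹ * x * g) = s := by
  haveI : Fact s.Prime := ⟨hs⟩
  apply orderOf_eq_prime
  · rw [MinCex.conj_pow_aux, ← hx, pow_orderOf_eq_one]; group
  · intro h0
    have : x = 1 := by
      have : x = g * (g⁻¹ * x * g) * g⁻¹ := by group
      rw [this, h0]; group
    rw [this, orderOf_one] at hx
    exact hs.one_lt.ne hx

namespace MinCex

variable {H K : Subgroup G}

/-- `H` is a TI-subgroup: a conjugate of `H` containing an element of prime order of `H` equals
`H`. -/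
theorem conj_eq_of_mem (m : MinCex H K) {u g : G} {p : ℕ} [hp : Fact p.Prime]
    (hu : orderOf u = p) (huH : u ∈ H) (hug : g⁻¹ * u * g ∈ H) : MulAut.conj g • H = H := by
  have hpH : p ∣ Nat.card H := by rw [← hu]; exact Subgroup.orderOf_dvd_natCard H huH
  obtain ⟨Hp, hHp⟩ := exists_sylIn H m.cfg.nilH p
  have huHp : u ∈ Hp := by
    apply hHp.mem_of_orderOf huH (k := 1)
    rw [pow_one, ← hu, pow_orderOf_eq_one]
  obtain ⟨M, hM⟩ : ∃ M : Subgroup G, M = Subgroup.normalizer (H : Set G) := ⟨_, rfl⟩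
  have hHM : H ≤ M := by rw [hM]; exact Subgroup.le_normalizer
  by_contra hne
  obtain ⟨c, hc, hcg⟩ := m.fusion_elt hpH hHp huHp hug
  have hcM : c ∉ M := by
    intro h0
    apply hne
    rw [hcg]
    rw [hM] at h0
    exact (conj_smul_eq_self_iff c H).mpr h0
  obtain ⟨Y, hY⟩ : ∃ Y : Subgroup G, Y = Subgroup.centralizer ({u} : Set G) := ⟨_, rfl⟩
  have hcY : c ∈ Y := by rw [hY]; exact hc
  have huY : u ∈ Y := by
    rw [hY, Subgroup.mem_centralizer_singleton_iff]
  -- Claim 1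
  have claim1 : ∀ x ∈ Y, x ∈ M → x ∈ H := by
    intro x hxY hxM
    by_contra hxH
    have hnc : ¬ (orderOf x).Coprime (Nat.card K) := by
      intro h0
      rw [hM] at hxM
      exact hxH (m.cfg.mem_of_mem_normalizer hxM h0)
    obtain ⟨s, hs, hsx, hsK⟩ := Nat.Prime.not_coprime_iff_dvd.1 hnc
    haveI : Fact s.Prime := ⟨hs⟩
    obtain ⟨v, hvdef⟩ : ∃ v : G, v = x ^ (orderOf x / s) := ⟨_, rfl⟩
    have hv : orderOf v = s := by
      rw [hvdef]; exact orderOf_pow_orderOf_div (orderOf_pos x).ne' hsx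
    have hvY : v ∈ Y := by rw [hvdef]; exact Y.pow_mem hxY _
    have hvM : v ∈ M := by rw [hvdef]; exact M.pow_mem hxM _
    obtain ⟨Ks, hKs⟩ := exists_sylIn K m.cfg.nilK s
    have sKs : IsSyl s Ks := m.cfg.symm.sylIn_isSyl hKs hsK
    have hE : IsPGroup s (Subgroup.zpowers v) := by
      apply IsPGroup.of_card (n := 1)
      rw [Nat.card_zpowers, hv, pow_one]
    obtain ⟨a, ha⟩ := sKs.exists_le_conj hE
    obtain ⟨h', hh', k', hk', e'⟩ := m.cfg.fac a
    have ha' : MulAut.conj a • Ks = MulAut.conj h' • Ks := by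
      rw [e', ← conj_smul_smul, hKs.conj_smul_eq hk']
    have hv' : h'⁻¹ * v * h' ∈ Ks := by
      have := ha (Subgroup.mem_zpowers v)
      rw [ha'] at this
      exact (mem_conj_smul_iff h' v Ks).mp this
    have hh'M : h' ∈ M := hHM hh'
    have hv'M : h'⁻¹ * v * h' ∈ M := M.mul_mem (M.mul_mem (M.inv_mem hh'M) hvM) hh'M
    have hov' : orderOf (h'⁻¹ * v * h') = s := orderOf_conj_aux hs hv
    have hou' : orderOf (h'⁻¹ * u * h') = p := orderOf_conj_aux hp.out hu
    have hu'H : h'⁻¹ * u * h' ∈ H := H.mul_mem (H.mul_mem (H.inv_mem hh') huH) hh'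
    have hcomm : v * u = u * v := by
      rw [hY, Subgroup.mem_centralizer_singleton_iff] at hvY
      exact hvY
    have h1 := m.centralizer_le_normalizer_right hov' (hKs.le hv') (by rw [← hM]; exact hv'M)
    have hu'N : h'⁻¹ * u * h' ∈ Subgroup.normalizer (K : Set G) := by
      apply h1
      rw [Subgroup.mem_centralizer_singleton_iff]
      calc h'⁻¹ * u * h' * (h'⁻¹ * v * h') = h'⁻¹ * (u * v) * h' := by group
        _ = h'⁻¹ * (v * u) * h' := by rw [hcomm]
        _ = h'⁻¹ * v * h' * (h'⁻¹ * u * h') := by group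
    have h2 := m.symm.centralizer_le_normalizer_right hou' hu'H hu'N
    have hc' : h'⁻¹ * c * h' ∈ Subgroup.centralizer ({h'⁻¹ * u * h'} : Set G) := by
      rw [Subgroup.mem_centralizer_singleton_iff] at hc ⊢
      calc h'⁻¹ * c * h' * (h'⁻¹ * u * h') = h'⁻¹ * (c * u) * h' := by group
        _ = h'⁻¹ * (u * c) * h' := by rw [hc]
        _ = h'⁻¹ * u * h' * (h'⁻¹ * c * h') := by group
    have h3 := h2 hc'
    rw [← hM] at h3
    apply hcM
    have : c = h' * (h'⁻¹ * c * h') * h'⁻¹ := by group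
    rw [this]
    exact M.mul_mem (M.mul_mem hh'M h3) (M.inv_mem hh'M)
  -- central elements
  have hcent : ∀ (l : ℕ) [Fact l.Prime], l ∣ Nat.card H → ∀ Hl : Subgroup G, SylIn H l Hl →
      ∃ z ∈ Hl, z ≠ 1 ∧ z ∈ Y ∧ Subgroup.centralizer ({z} : Set G) ≤ M := by
    intro l hl hlH Hl hHl
    obtain ⟨z, hz, hz1, hzc⟩ := hHl.exists_central m.cfg.nilH (hHl.ne_bot hlH)
    refine ⟨z, hz, hz1, ?_, ?_⟩
    · rw [hY, Subgroup.mem_centralizer_singleton_iff]
      exact (hzc u huH).symm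
    · rw [hM]
      apply m.le_normalizer_of_le (m.cent z hz1)
      intro x hx
      rw [Subgroup.mem_centralizer_singleton_iff]
      exact hzc x hx
  -- Claim 2
  have claim2 : ∀ (l : ℕ) [Fact l.Prime], l ∣ Nat.card H → ∀ Hl : Subgroup G, SylIn H l Hl →
      ∀ P1 : Subgroup G, P1 ≤ Hl → (∀ Q1 : Subgroup G, Q1 ≤ H ⊓ Y → IsPGroup l Q1 → Q1 ≤ P1) →
      ∀ n ∈ Y, n ∈ Subgroup.normalizer (P1 : Set G) → n ∈ H := by
    intro l hl hlH Hl hHl P1 hP1 hmax n hnY hnN
    obtain ⟨z, hz, hz1, hzY, hzM⟩ := hcent l hlH Hl hHl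
    obtain ⟨c', hc', hc'n⟩ := m.fusion_sub hlH hHl hP1 hnN
    have hzP1 : z ∈ P1 := by
      apply hmax (Subgroup.zpowers z)
      · rw [Subgroup.zpowers_le]; exact ⟨hHl.le hz, hzY⟩
      · exact hHl.pg.to_le (by rw [Subgroup.zpowers_le]; exact hz)
      · exact Subgroup.mem_zpowers z
    have hc'M : c' ∈ M := by
      apply hzM
      rw [Subgroup.mem_centralizer_singleton_iff]
      rw [Subgroup.mem_centralizer_iff] at hc'
      exact (hc' z hzP1).symm
    rw [← hM] at hc'n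
    have hnM : n ∈ M := by
      have : n = c'⁻¹ * (c' * n) := by group
      rw [this]; exact M.mul_mem (M.inv_mem hc'M) hc'n
    exact claim1 n hnY hnM
  -- the subgroup HY of Y
  obtain ⟨HY, hHY⟩ : ∃ HY : Subgroup Y, HY = H.subgroupOf Y := ⟨_, rfl⟩
  haveI hnilHY : Group.IsNilpotent HY := by
    have h1 : Group.IsNilpotent (H ⊓ Y : Subgroup G) :=
      Cfsg.Agent.helper8.CN.nilpotent_of_le inf_le_left m.cfg.nilH
    have e : ((H ⊓ Y : Subgroup G).subgroupOf Y) ≃* (H ⊓ Y : Subgroup G) :=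
      Subgroup.subgroupOfEquivOfLe inf_le_right
    have h2 : Group.IsNilpotent ((H ⊓ Y : Subgroup G).subgroupOf Y) :=
      Group.nilpotent_of_mulEquiv e.symm
    rw [Subgroup.inf_subgroupOf_right] at h2
    rw [hHY]; exact h2
  have hcardHY : Nat.card HY = Nat.card (H ⊓ Y : Subgroup G) := by
    rw [hHY, ← Subgroup.inf_subgroupOf_right]
    exact Nat.card_congr (Subgroup.subgroupOfEquivOfLe inf_le_right).toEquiv
  have hcardHYdvd : Nat.card HY ∣ Nat.card H := by
    rw [hcardHY]; exact Subgroup.card_dvd_of_le inf_le_left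
  -- Sylow subgroups of HY, in G
  have hsylHY : ∀ (l : ℕ) [Fact l.Prime] (P : Sylow l HY) (Q1 : Subgroup G), Q1 ≤ H ⊓ Y →
      IsPGroup l Q1 → Q1 ≤ (((P : Subgroup HY).map HY.subtype).map Y.subtype : Subgroup G) := by
    intro l hl P Q1 hQ1 hQ1l
    haveI hPn : (P : Subgroup HY).Normal := inferInstance
    haveI : Unique (Sylow l HY) := Sylow.unique_of_normal P hPn
    have hQ1Y : Q1 ≤ Y := hQ1.trans inf_le_right
    have hQ1H : Q1 ≤ H := hQ1.trans inf_le_left
    have hq' : IsPGroup l ((Q1.subgroupOf Y).subgroupOf HY) :=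
      (hQ1l.comap_subtype).comap_subtype
    obtain ⟨P', hP'⟩ := hq'.exists_le_sylow
    have e : P' = P := Subsingleton.elim _ _
    rw [e] at hP'
    intro x hx
    have hxH : (⟨x, hQ1Y hx⟩ : Y) ∈ HY := by
      rw [hHY, Subgroup.mem_subgroupOf]; exact hQ1H hx
    have h1 : (⟨⟨x, hQ1Y hx⟩, hxH⟩ : HY) ∈ (Q1.subgroupOf Y).subgroupOf HY := by
      rw [Subgroup.mem_subgroupOf, Subgroup.mem_subgroupOf]; exact hx
    exact ⟨⟨x, hQ1Y hx⟩, ⟨⟨⟨x, hQ1Y hx⟩, hxH⟩, hP' h1, rfl⟩, rfl⟩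
  have hnormHY : ∀ l : ℕ, l.Prime → l ∣ Nat.card HY → ∀ P : Sylow l HY,
      Subgroup.normalizer ((((P : Subgroup HY).map HY.subtype : Subgroup Y)) : Set Y) = HY := by
    intro l hl hlHY P
    haveI : Fact l.Prime := ⟨hl⟩
    have hlH : l ∣ Nat.card H := hlHY.trans hcardHYdvd
    obtain ⟨Hl, hHl⟩ := exists_sylIn H m.cfg.nilH l
    obtain ⟨A, hA⟩ : ∃ A : Subgroup Y, A = (P : Subgroup HY).map HY.subtype := ⟨_, rfl⟩
    rw [← hA]
    have hAHY : A ≤ HY := by rw [hA]; exact Subgroup.map_subtype_le _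
    have hsub : A.subgroupOf HY = (P : Subgroup HY) := by
      rw [hA]; exact Subgroup.comap_map_eq_self_of_injective HY.subtype_injective _
    haveI hPn : (P : Subgroup HY).Normal := inferInstance
    apply le_antisymm
    · intro n hn
      obtain ⟨A1, hA1⟩ : ∃ A1 : Subgroup G, A1 = A.map Y.subtype := ⟨_, rfl⟩
      have hA1l : IsPGroup l A1 := by
        rw [hA1, hA]; exact (P.isPGroup'.map _).map _
      have hA1H : A1 ≤ H := by
        intro x hx
        rw [hA1] at hx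
        obtain ⟨y, hy, rfl⟩ := hx
        have := hAHY hy
        rw [hHY, Subgroup.mem_subgroupOf] at this
        exact this
      have hA1Hl : A1 ≤ Hl := hHl.max A1 hA1H hA1l
      have hmax : ∀ Q1 : Subgroup G, Q1 ≤ H ⊓ Y → IsPGroup l Q1 → Q1 ≤ A1 := by
        intro Q1 hQ1 hQ1l
        rw [hA1, hA]
        exact hsylHY l P Q1 hQ1 hQ1l
      have hnN : n.1 ∈ Subgroup.normalizer (A1 : Set G) := by
        apply mem_normalizer_of_conj_le
        intro e he
        rw [hA1] at he ⊢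
        obtain ⟨e', he', rfl⟩ := he
        exact ⟨n * e' * n⁻¹, conj_mem_of_mem_normalizer hn he', rfl⟩
      have := claim2 l hlH Hl hHl A1 hA1Hl hmax n.1 n.2 hnN
      rw [hHY, Subgroup.mem_subgroupOf]
      exact this
    · rw [← Subgroup.normal_subgroupOf_iff_le_normalizer hAHY, hsub]
      exact hPn
  -- a second prime
  obtain ⟨r, hr, hrH, hrp⟩ := m.twoH p hp.out hpH
  haveI : Fact r.Prime := ⟨hr⟩
  obtain ⟨Hr, hHr⟩ := exists_sylIn H m.cfg.nilH r
  have sHr : IsSyl r Hr := m.cfg.sylIn_isSyl hHr hrH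
  have hprimeHY : ∀ l : ℕ, l.Prime → l ∣ Nat.card H → l ∣ Nat.card HY := by
    intro l hl hlH
    haveI : Fact l.Prime := ⟨hl⟩
    obtain ⟨Hl, hHl⟩ := exists_sylIn H m.cfg.nilH l
    obtain ⟨z, hz, hz1, hzY, _⟩ := hcent l hlH Hl hHl
    rw [hcardHY]
    have h1 : orderOf z ∣ Nat.card (H ⊓ Y : Subgroup G) :=
      Subgroup.orderOf_dvd_natCard _ ⟨hHl.le hz, hzY⟩
    obtain ⟨j, hj⟩ := (IsPGroup.iff_orderOf.1 hHl.pg) ⟨z, hz⟩
    rw [Subgroup.orderOf_mk] at hj
    have hj0 : j ≠ 0 := by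
      intro h0
      rw [h0, pow_zero, orderOf_eq_one_iff] at hj
      exact hz1 hj
    rw [hj] at h1
    exact (dvd_pow_self l hj0).trans h1
  have hnotHY : ∀ l : ℕ, l.Prime → ∀ P : Sylow l Y, (P : Subgroup Y) ≠ HY := by
    intro l hl P hP
    haveI : Fact l.Prime := ⟨hl⟩
    have hpg : IsPGroup l HY := by rw [← hP]; exact P.isPGroup'
    obtain ⟨k, hk⟩ := IsPGroup.iff_card.1 hpg
    have h1 : p ∣ l ^ k := by rw [← hk]; exact hprimeHY p hp.out hpH
    have h2 : r ∣ l ^ k := by rw [← hk]; exact hprimeHY r hr hrH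
    have e1 : p = l := (Nat.prime_dvd_prime_iff_eq hp.out hl).1 (hp.out.dvd_of_dvd_pow h1)
    have e2 : r = l := (Nat.prime_dvd_prime_iff_eq hr hl).1 (hr.dvd_of_dvd_pow h2)
    exact hrp (e2.trans e1.symm)
  obtain ⟨E, hEn, hEc⟩ := normal_complement_of_sylow_normalizers HY hnotHY hnormHY
  haveI := hEn
  have hcardY : Nat.card E * Nat.card HY = Nat.card Y := hEc.card_mul
  have hE1 : E ≠ ⊥ := by
    intro h0
    rw [h0, Subgroup.card_bot, one_mul] at hcardY
    have h1 : HY = ⊤ := (Subgroup.card_eq_iff_eq_top HY).mp hcardY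
    have h2 : (⟨c, hcY⟩ : Y) ∈ HY := by rw [h1]; exact Subgroup.mem_top _
    rw [hHY, Subgroup.mem_subgroupOf] at h2
    exact hcM (hHM h2)
  have hndvd : ∀ l : ℕ, l.Prime → l ∣ Nat.card HY → ¬ l ∣ Nat.card E := by
    intro l hl hlHY hlE
    haveI : Fact l.Prime := ⟨hl⟩
    obtain ⟨P⟩ : Nonempty (Sylow l HY) := inferInstance
    obtain ⟨A, hA⟩ : ∃ A : Subgroup Y, A = (P : Subgroup HY).map HY.subtype := ⟨_, rfl⟩
    have hAcard : Nat.card A = l ^ (Nat.card HY).factorization l := by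
      rw [hA, Subgroup.card_map_of_injective HY.subtype_injective]
      exact P.card_eq_multiplicity
    have hAHY : A ≤ HY := by rw [hA]; exact Subgroup.map_subtype_le _
    have hsub : A.subgroupOf HY = (P : Subgroup HY) := by
      rw [hA]; exact Subgroup.comap_map_eq_self_of_injective HY.subtype_injective _
    have hdvd : l ^ ((Nat.card HY).factorization l + 1) ∣ Nat.card Y := by
      rw [← hcardY, pow_succ, mul_comm]
      exact mul_dvd_mul hlE (Nat.ordProj_dvd _ _)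
    have h1 := Sylow.prime_dvd_card_quotient_normalizer hdvd hAcard
    have h2 : Nat.card (↥(Subgroup.normalizer (A : Set Y)) ⧸
        Subgroup.comap (Subgroup.normalizer (A : Set Y)).subtype A) =
        A.relIndex (Subgroup.normalizer (A : Set Y)) := by
      rw [← Subgroup.index_eq_card]; rfl
    rw [h2] at h1
    have h3 := hnormHY l hl hlHY P
    rw [← hA] at h3
    rw [h3, Subgroup.relIndex, hsub] at h1
    exact P.not_dvd_index h1
  have hrE : ¬ r ∣ Nat.card E := hndvd r hr (hprimeHY r hr hrH)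
  obtain ⟨s, hs, hsE⟩ := Nat.exists_prime_and_dvd (fun h0 => hE1 (Subgroup.card_eq_one.mp h0))
  haveI : Fact s.Prime := ⟨hs⟩
  have hsHY : ¬ s ∣ Nat.card HY := fun h0 => hndvd s hs h0 hsE
  have hsY : s ∣ Nat.card Y := by rw [← hcardY]; exact hsE.mul_right _
  have hsK : s ∣ Nat.card K := by
    have h1 : s ∣ Nat.card G := hsY.trans (Subgroup.card_subgroup_dvd_card Y)
    rcases m.cfg.dvd_or hs h1 with h2 | h2
    · exact (hsHY (hprimeHY s hs h2)).elim
    · exact h2
  have hindex : E.index = Nat.card HY := hEc.symm.index_eq_card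
  obtain ⟨P, Q, hPQ⟩ := exists_sylow_normalizes_of_normal (p := r) (q := s) E hrE
    (by rw [hindex]; exact hsHY)
  have hHrY : Hr ≤ Y := by
    intro y hy
    rw [hY, Subgroup.mem_centralizer_singleton_iff]
    exact hHr.commute_of_ne m.cfg.nilH hHp hrp hy huHp
  obtain ⟨R1, hR1⟩ : ∃ R1 : Subgroup G, R1 = (P : Subgroup Y).map Y.subtype := ⟨_, rfl⟩
  have hR1Y : R1 ≤ Y := by rw [hR1]; exact Subgroup.map_subtype_le _
  have sR1 : IsSyl r R1 := by
    refine ⟨by rw [hR1]; exact P.isPGroup'.map _, ?_⟩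
    rw [← Subgroup.relIndex_mul_index hR1Y]
    intro h0
    rcases (Nat.Prime.dvd_mul hr).1 h0 with h1 | h1
    · have : R1.relIndex Y = (P : Subgroup Y).index := by
        rw [Subgroup.relIndex, hR1, Subgroup.subgroupOf,
          Subgroup.comap_map_eq_self_of_injective Y.subtype_injective]
      rw [this] at h1
      exact P.not_dvd_index h1
    · exact sHr.ndvd (h1.trans (Subgroup.index_dvd_of_le hHrY))
  obtain ⟨S1, hS1⟩ : ∃ S1 : Subgroup G, S1 = (Q : Subgroup Y).map Y.subtype := ⟨_, rfl⟩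
  have hS1s : IsPGroup s S1 := by rw [hS1]; exact Q.isPGroup'.map _
  have hS1ne : S1 ≠ ⊥ := by
    intro h0
    have h1 : (Q : Subgroup Y) = ⊥ := by
      rw [hS1] at h0
      exact (Subgroup.map_eq_bot_iff_of_injective _ Y.subtype_injective).mp h0
    exact Q.ne_bot_of_dvd_card hsY h1
  apply m.not_le_normalizer hrH hsK sR1 hS1s hS1ne
  intro x hx
  rw [hR1] at hx
  obtain ⟨x', hx', rfl⟩ := hx
  apply mem_normalizer_of_conj_le
  intro e he
  rw [hS1] at he ⊢
  obtain ⟨e', he', rfl⟩ := he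
  exact ⟨x' * e' * x'⁻¹, conj_mem_of_mem_normalizer (hPQ hx') he', rfl⟩

end MinCex

end Cfsg.Agent.H16KW
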