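import Mathlib
import Cfsg.Agent.H16KW5
import Cfsg.Agent.S0143

set_option autoImplicit false
set_option linter.style.haveILetI false
set_option linter.unusedSectionVars false

namespace Cfsg.Agent.H16KW

open scoped Pointwise
open Cfsg.Agent.helper3 Cfsg.Agent.helper23

universe u

variable {G : Type u} [Group G] [Finite G]

namespace MinCex

variable {H K : Subgroup G}

theorem card_lt (m : MinCex H K) : Nat.card H < Nat.card K := by
  obtain ⟨p, hp, hpH⟩ := m.exH
  obtain ⟨q, hq, hqK⟩ := m.exK
  have hH1 : H ≠ ⊥ := by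
    intro h0
    rw [h0, Subgroup.card_bot] at hpH
    exact hp.one_lt.ne' (Nat.dvd_one.mp hpH)
  have hHtop : H ≠ ⊤ := by
    intro h0
    have h1 := m.cfg.card
    rw [h0, Subgroup.card_top] at h1
    have h2 : Nat.card K = 1 := by
      have : Nat.card G * 1 = Nat.card G * Nat.card K := by rw [mul_one]; exact h1
      exact (Nat.eq_of_mul_eq_mul_left Nat.card_pos this).symm
    rw [h2] at hqK
    exact hq.one_lt.ne' (Nat.dvd_one.mp hqK)
  obtain ⟨M, hM⟩ : ∃ M : Subgroup G, M = Subgroup.normalizer (H : Set G) := ⟨_, rfl⟩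
  have hHM : H ≤ M := by rw [hM]; exact Subgroup.le_normalizer
  have hMtop : M ≠ ⊤ := by rw [hM]; exact m.normalizer_ne_top hH1 hHtop
  obtain ⟨g, hg⟩ : ∃ g : G, g ∉ M := by
    by_contra h0
    push Not at h0
    exact hMtop (eq_top_iff.mpr (fun x _ => h0 x))
  have hTI : ∀ y ∈ H, g⁻¹ * y * g ∈ H → y = 1 := by
    intro y hy hyg
    by_contra hy1
    have ho : orderOf y ≠ 1 := by rwa [Ne, orderOf_eq_one_iff]
    obtain ⟨l, hl, hly⟩ := Nat.exists_prime_and_dvd ho
    haveI : Fact l.Prime := ⟨hl⟩
    have hu : orderOf (y ^ (orderOf y / l)) = l :=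
      orderOf_pow_orderOf_div (orderOf_pos y).ne' hly
    have h1 : g⁻¹ * y ^ (orderOf y / l) * g ∈ H := by
      rw [← conj_pow_aux]; exact H.pow_mem hyg _
    have h2 := m.conj_eq_of_mem hu (H.pow_mem hy _) h1
    apply hg
    rw [hM]
    exact (conj_smul_eq_self_iff g H).mp h2
  have hinj : Function.Injective (fun o : Option H =>
      match o with
      | none => ((1 : G) : G ⧸ M)
      | some h => ((h.1 * g : G) : G ⧸ M)) := by
    intro a b hab
    match a, b with
    | none, none => rfl
    | none, some h =>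
      exfalso
      simp only at hab
      rw [QuotientGroup.eq, inv_one, one_mul] at hab
      apply hg
      have : g = h.1⁻¹ * (h.1 * g) := by group
      rw [this]; exact M.mul_mem (M.inv_mem (hHM h.2)) hab
    | some h, none =>
      exfalso
      simp only at hab
      rw [eq_comm, QuotientGroup.eq, inv_one, one_mul] at hab
      apply hg
      have : g = h.1⁻¹ * (h.1 * g) := by group
      rw [this]; exact M.mul_mem (M.inv_mem (hHM h.2)) hab
    | some h1, some h2 =>
      simp only at hab
      rw [QuotientGroup.eq] at hab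
      have e : (h1.1 * g)⁻¹ * (h2.1 * g) = g⁻¹ * (h1.1⁻¹ * h2.1) * g := by group
      rw [e] at hab
      have hy : h1.1⁻¹ * h2.1 ∈ H := H.mul_mem (H.inv_mem h1.2) h2.2
      have hord : (orderOf (g⁻¹ * (h1.1⁻¹ * h2.1) * g)).Coprime (Nat.card K) := by
        have h3 : (g⁻¹ * (h1.1⁻¹ * h2.1) * g) ^ Nat.card H = 1 := by
          rw [conj_pow_aux]
          have : (h1.1⁻¹ * h2.1) ^ Nat.card H = 1 := by
            rw [← orderOf_dvd_iff_pow_eq_one]
            exact Subgroup.orderOf_dvd_natCard H hy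
          rw [this]; group
        exact Nat.Coprime.coprime_dvd_left (orderOf_dvd_of_pow_eq_one h3) m.cfg.cop
      rw [hM] at hab
      have h4 := m.cfg.mem_of_mem_normalizer hab hord
      have h5 := hTI _ hy h4
      have h6 : h1.1 = h2.1 := by
        have : h2.1 = h1.1 * (h1.1⁻¹ * h2.1) := by group
        rw [this, h5, mul_one]
      congr 1
      ext
      exact h6
  have h1 := Nat.card_le_card_of_injective _ hinj
  rw [Finite.card_option, ← Subgroup.index_eq_card] at h1
  have h2 : M.index * Nat.card M = Nat.card H * Nat.card K := by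
    rw [← m.cfg.card]; exact M.index_mul_card
  have h3 : Nat.card H ≤ Nat.card M := Subgroup.card_le_of_le hHM
  have h4 : M.index ≤ Nat.card K := by
    have : M.index * Nat.card H ≤ Nat.card K * Nat.card H := by
      calc M.index * Nat.card H ≤ M.index * Nat.card M := Nat.mul_le_mul_left _ h3
        _ = Nat.card K * Nat.card H := by rw [h2, mul_comm]
    exact Nat.le_of_mul_le_mul_right this Nat.card_pos
  omega

end MinCex

/-- Auxiliary: nilpotency of `H.subgroupOf X`. -/
theorem nilpotent_subgroupOf {H X : Subgroup G} (hH : Group.IsNilpotent H) :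
    Group.IsNilpotent (H.subgroupOf X) := by
  have h1 : Group.IsNilpotent (H ⊓ X : Subgroup G) :=
    Cfsg.Agent.helper8.CN.nilpotent_of_le inf_le_left hH
  have e : ((H ⊓ X : Subgroup G).subgroupOf X) ≃* (H ⊓ X : Subgroup G) :=
    Subgroup.subgroupOfEquivOfLe inf_le_right
  have h2 : Group.IsNilpotent ((H ⊓ X : Subgroup G).subgroupOf X) :=
    Group.nilpotent_of_mulEquiv e.symm
  rw [Subgroup.inf_subgroupOf_right] at h2
  exact h2

theorem card_subgroupOf_dvd (H X : Subgroup G) : Nat.card (H.subgroupOf X) ∣ Nat.card H := by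
  have : Nat.card (H.subgroupOf X) = Nat.card (H ⊓ X : Subgroup G) := by
    rw [← Subgroup.inf_subgroupOf_right]
    exact Nat.card_congr (Subgroup.subgroupOfEquivOfLe inf_le_right).toEquiv
  rw [this]
  exact Subgroup.card_dvd_of_le inf_le_left

theorem Cfg.subgroupOf {H K X : Subgroup G} (c : Cfg H K)
    (hfac : ∀ x ∈ X, ∃ h ∈ H ⊓ X, ∃ k ∈ K ⊓ X, x = h * k) :
    Cfg (H.subgroupOf X) (K.subgroupOf X) where
  nilH := nilpotent_subgroupOf c.nilH
  nilK := nilpotent_subgroupOf c.nilK
  cop := Nat.Coprime.of_dvd (card_subgroupOf_dvd H X) (card_subgroupOf_dvd K X) c.cop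
  fac := by
    intro g
    obtain ⟨h, hh, k, hk, e⟩ := hfac g.1 g.2
    refine ⟨⟨h, hh.2⟩, Subgroup.mem_subgroupOf.mpr hh.1, ⟨k, hk.2⟩,
      Subgroup.mem_subgroupOf.mpr hk.1, ?_⟩
    ext
    exact e

theorem Cfg.quotient {H K : Subgroup G} (c : Cfg H K) (N : Subgroup G) [N.Normal] :
    Cfg (H.map (QuotientGroup.mk' N)) (K.map (QuotientGroup.mk' N)) where
  nilH := Cfsg.Agent.helper8.CN.nilpotent_map _ H c.nilH
  nilK := Cfsg.Agent.helper8.CN.nilpotent_map _ K c.nilK
  cop := Nat.Coprime.of_dvd
    (Subgroup.card_dvd_of_surjective _ ((QuotientGroup.mk' N).subgroupMap_surjective H))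
    (Subgroup.card_dvd_of_surjective _ ((QuotientGroup.mk' N).subgroupMap_surjective K)) c.cop
  fac := by
    intro g
    obtain ⟨g, rfl⟩ := QuotientGroup.mk'_surjective N g
    obtain ⟨h, hh, k, hk, e⟩ := c.fac g
    exact ⟨_, ⟨h, hh, rfl⟩, _, ⟨k, hk, rfl⟩, by rw [e, map_mul]⟩

/-- A normal subgroup of a coprime factorized group is factorized. -/
theorem Cfg.fac_normal {H K : Subgroup G} (c : Cfg H K) (N : Subgroup G) [N.Normal] :
    ∀ x ∈ N, ∃ h ∈ H ⊓ N, ∃ k ∈ K ⊓ N, x = h * k := by
  intro x hx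
  obtain ⟨h, hh, k, hk, e⟩ := c.fac x
  have h1 : (QuotientGroup.mk' N h) * (QuotientGroup.mk' N k) = 1 := by
    rw [← map_mul, ← e]; exact (QuotientGroup.eq_one_iff x).mpr hx
  have h2 : QuotientGroup.mk' N h = (QuotientGroup.mk' N k)⁻¹ := eq_inv_of_mul_eq_one_left h1
  have h3 : orderOf (QuotientGroup.mk' N h) ∣ Nat.card H :=
    (orderOf_map_dvd _ h).trans (Subgroup.orderOf_dvd_natCard H hh)
  have h4 : orderOf (QuotientGroup.mk' N h) ∣ Nat.card K := by
    rw [h2, orderOf_inv]
    exact (orderOf_map_dvd _ k).trans (Subgroup.orderOf_dvd_natCard K hk)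
  have h5 : orderOf (QuotientGroup.mk' N h) = 1 := Nat.eq_one_of_dvd_coprimes c.cop h3 h4
  rw [orderOf_eq_one_iff] at h5
  have hhN : h ∈ N := (QuotientGroup.eq_one_iff h).mp h5
  have hkN : k ∈ N := by
    have : k = h⁻¹ * x := by rw [e]; group
    rw [this]; exact N.mul_mem (N.inv_mem hhN) hx
  exact ⟨h, ⟨hh, hhN⟩, k, ⟨hk, hkN⟩, e⟩

theorem solvable_of_right_eq_bot {H K : Subgroup G} (c : Cfg H K) (hK : Nat.card K = 1) :
    Group.IsSolvable G := by
  have hK' : K = ⊥ := Subgroup.eq_bot_of_card_eq K hK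
  have hH : H = ⊤ := by
    rw [eq_top_iff]
    intro g _
    obtain ⟨h, hh, k, hk, e⟩ := c.fac g
    rw [hK', Subgroup.mem_bot] at hk
    rw [e, hk, mul_one]; exact hh
  haveI : Group.IsNilpotent H := c.nilH
  have h1 : Group.IsNilpotent (⊤ : Subgroup G) := by rw [← hH]; infer_instance
  haveI : Group.IsNilpotent G := Group.nilpotent_of_mulEquiv Subgroup.topEquiv
  infer_instance

theorem exists_prime_right {H K : Subgroup G} (c : Cfg H K) (hns : ¬ Group.IsSolvable G) :
    ∃ q : ℕ, q.Prime ∧ q ∣ Nat.card K :=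
  Nat.exists_prime_and_dvd (fun h0 => hns (solvable_of_right_eq_bot c h0))

theorem solvable_of_prime_card (hG : (Nat.card G).Prime) : Group.IsSolvable G := by
  haveI : Fact (Nat.card G).Prime := ⟨hG⟩
  haveI : IsCyclic G := isCyclic_of_prime_card rfl
  exact Group.isSolvable_of_comm (fun a b => (IsCyclic.commGroup).mul_comm a b)

theorem two_primes_left {H K : Subgroup G} (c : Cfg H K) [IsSimpleGroup G]
    (hns : ¬ Group.IsSolvable G) :
    ∀ p : ℕ, p.Prime → p ∣ Nat.card H → ∃ r : ℕ, r.Prime ∧ r ∣ Nat.card H ∧ r ≠ p := by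
  intro p hp hpH
  by_contra hcon
  push Not at hcon
  have hcard : Nat.card H = p ^ (Nat.card H).primeFactorsList.length :=
    Nat.eq_prime_pow_of_unique_prime_dvd Nat.card_pos.ne' (fun {d} hd hdH => hcon d hd hdH)
  obtain ⟨q, hq, hqK⟩ := exists_prime_right c hns
  haveI : Fact q.Prime := ⟨hq⟩
  obtain ⟨Kq, hKq⟩ := exists_sylIn K c.nilK q
  obtain ⟨z, hz, hz1, hzc⟩ := hKq.exists_central c.nilK (hKq.ne_bot hqK)
  have hKC : K ≤ Subgroup.centralizer ({z} : Set G) := by
    intro x hx
    rw [Subgroup.mem_centralizer_singleton_iff]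
    exact hzc x hx
  have h1 : (Subgroup.centralizer ({z} : Set G)).index ∣ Nat.card H := by
    rw [← c.symm.index_left]
    exact Subgroup.index_dvd_of_le hKC
  rw [hcard] at h1
  obtain ⟨j, _, hj⟩ := (Nat.dvd_prime_pow hp).1 h1
  exact hns (solvable_of_prime_card (Cfsg.Agent.S0143.result p j hp z hz1 hj))

/-- Wielandt: a finite group which is the product of two nilpotent subgroups of coprime orders is
solvable. -/
theorem wielandt_solvable : ∀ (n : ℕ) (G : Type u) [Group G] [Finite G] (H K : Subgroup G),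
    Cfg H K → Nat.card G = n → Group.IsSolvable G := by
  intro n
  induction n using Nat.strong_induction_on with
  | _ n IH =>
  intro G _ _ H K c hn
  by_contra hns
  have ihsub : ∀ X : Subgroup G, X ≠ ⊤ → (∀ x ∈ X, ∃ h ∈ H ⊓ X, ∃ k ∈ K ⊓ X, x = h * k) →
      Group.IsSolvable X := by
    intro X hX hfac
    have hlt : Nat.card X < n := by
      rw [← hn]
      have h1 : Nat.card X ≤ Nat.card G := Subgroup.card_le_card_group X
      have h2 : Nat.card X ≠ Nat.card G := fun h0 => hX ((Subgroup.card_eq_iff_eq_top X).mp h0)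
      omega
    exact IH _ hlt X _ _ (c.subgroupOf hfac) rfl
  have hsimple : ∀ N : Subgroup G, N.Normal → N = ⊥ ∨ N = ⊤ := by
    intro N hN
    by_contra hcon
    push Not at hcon
    obtain ⟨hN1, hN2⟩ := hcon
    haveI := hN
    haveI hsN : Group.IsSolvable N := ihsub N hN2 (c.fac_normal N)
    have hlt : Nat.card (G ⧸ N) < n := by
      rw [← hn, Subgroup.card_eq_card_quotient_mul_card_subgroup N]
      have h1 : 1 < Nat.card N := N.one_lt_card_iff_ne_bot.2 hN1
      have h2 : 0 < Nat.card (G ⧸ N) := Nat.card_pos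
      nlinarith
    haveI hsQ : Group.IsSolvable (G ⧸ N) := IH _ hlt (G ⧸ N) _ _ (c.quotient N) rfl
    apply hns
    exact solvable_of_ker_le_range N.subtype (QuotientGroup.mk' N) (by simp)
  haveI : Nontrivial G := by
    by_contra h0
    rw [not_nontrivial_iff_subsingleton] at h0
    exact hns inferInstance
  haveI hsim : IsSimpleGroup G := ⟨hsimple⟩
  have hcent : ∀ z : G, z ≠ 1 → Subgroup.centralizer ({z} : Set G) ≠ ⊤ := by
    intro z hz h0
    have hzc : z ∈ Subgroup.center G := by
      rw [Subgroup.mem_center_iff]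
      intro g
      have : g ∈ Subgroup.centralizer ({z} : Set G) := by rw [h0]; exact Subgroup.mem_top g
      rw [Subgroup.mem_centralizer_singleton_iff] at this
      exact this
    rcases hsimple (Subgroup.center G) inferInstance with h1 | h1
    · rw [h1, Subgroup.mem_bot] at hzc; exact hz hzc
    · apply hns
      apply Group.isSolvable_of_comm
      intro a b
      have : a ∈ Subgroup.center G := by rw [h1]; exact Subgroup.mem_top a
      exact (Subgroup.mem_center_iff.mp this b).symm
  have m : MinCex H K :=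
    { cfg := c, simple := hsim, cent := hcent, ih := ihsub,
      exH := exists_prime_right c.symm hns, exK := exists_prime_right c hns,
      twoH := two_primes_left c hns, twoK := two_primes_left c.symm hns }
  exact absurd m.card_lt (not_lt.mpr m.symm.card_lt.le)

end Cfsg.Agent.H16KW
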