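import Mathlib
import Cfsg.Prelude.Def_Solvable
import Cfsg.Agent.Lib_helper1_Core
import Cfsg.Agent.Lib_helper3_Basic
import Cfsg.Agent.Lib_helper23_Hall
import Cfsg.Agent.Lib_helper23_Kegel
import Cfsg.Agent.S0566
import Cfsg.Agent.S0560
import Cfsg.Agent.H16KW1

set_option autoImplicit false
set_option linter.style.haveILetI false
set_option linter.unusedSectionVars false

namespace Cfsg.Agent.H16KW

open scoped Pointwise
open Cfsg.Agent.helper3 Cfsg.Agent.helper23

universe u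

section OpOf

variable {G : Type u} [Group G]

theorem pCore_char' (p : ℕ) : (Cfsg.pCore p G).Characteristic := by
  rw [Subgroup.characteristic_iff_map_le]
  intro φ
  rw [Subgroup.map_le_iff_le_comap]
  unfold Cfsg.pCore
  apply sSup_le
  rintro N ⟨hNn, hNp⟩
  rw [← Subgroup.map_le_iff_le_comap]
  exact le_sSup ⟨hNn.map φ.toMonoidHom φ.surjective, hNp.map _⟩

/-- `O_p(L)` as a subgroup of the ambient group. -/
def OpOf (p : ℕ) (L : Subgroup G) : Subgroup G := (Cfsg.pCore p L).map L.subtype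

theorem OpOf_le (p : ℕ) (L : Subgroup G) : OpOf p L ≤ L := Subgroup.map_subtype_le _

theorem OpOf_isPGroup (p : ℕ) (L : Subgroup G) : IsPGroup p (OpOf p L) :=
  (Cfsg.Agent.helper1.pCore_isPGroup p).map _

theorem le_OpOf {p : ℕ} {X L : Subgroup G} (hXL : X ≤ L)
    (hn : L ≤ Subgroup.normalizer (X : Set G)) (hp : IsPGroup p X) : X ≤ OpOf p L := by
  have h1 : (X.subgroupOf L).Normal := (Subgroup.normal_subgroupOf_iff_le_normalizer hXL).mpr hn
  have h2 : IsPGroup p (X.subgroupOf L) := hp.comap_subtype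
  have h3 := Cfsg.Agent.helper1.le_pCore h1 h2
  intro x hx
  exact ⟨⟨x, hXL hx⟩, h3 (Subgroup.mem_subgroupOf.mpr hx), rfl⟩

theorem OpOf_normal_of_normal (p : ℕ) (L : Subgroup G) [L.Normal] : (OpOf p L).Normal := by
  haveI := pCore_char' (G := ↥L) p
  unfold OpOf
  exact ConjAct.normal_of_characteristic_of_normal

theorem OpOf_le_pCore (p : ℕ) (L : Subgroup G) [L.Normal] : OpOf p L ≤ Cfsg.pCore p G :=
  Cfsg.Agent.helper1.le_pCore (OpOf_normal_of_normal p L) (OpOf_isPGroup p L)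

theorem le_normalizer_OpOf (p : ℕ) (L : Subgroup G) :
    L ≤ Subgroup.normalizer ((OpOf p L : Subgroup G) : Set G) := by
  rw [← Subgroup.normal_subgroupOf_iff_le_normalizer (OpOf_le p L)]
  have : (OpOf p L).subgroupOf L = Cfsg.pCore p L :=
    Subgroup.comap_map_eq_self_of_injective L.subtype_injective _
  rw [this]
  exact Cfsg.Agent.helper1.pCore_normal p

theorem pCore_quot_eq_bot [Finite G] (p : ℕ) [hp : Fact p.Prime] [hV : (Cfsg.pCore p G).Normal] :
    Cfsg.pCore p (G ⧸ Cfsg.pCore p G) = ⊥ := by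
  obtain ⟨W, hW⟩ : ∃ W : Subgroup G, W = (Cfsg.pCore p (G ⧸ Cfsg.pCore p G)).comap
    (QuotientGroup.mk' (Cfsg.pCore p G)) := ⟨_, rfl⟩
  have hWn : W.Normal := by
    rw [hW]; exact (Cfsg.Agent.helper1.pCore_normal p).comap _
  have hWp : IsPGroup p W := by
    obtain ⟨a, ha⟩ := IsPGroup.iff_card.1 (Cfsg.Agent.helper1.pCore_isPGroup (G := G) p)
    obtain ⟨b, hb⟩ := IsPGroup.iff_card.1
      (Cfsg.Agent.helper1.pCore_isPGroup (G := G ⧸ Cfsg.pCore p G) p)
    apply IsPGroup.of_card (n := a + b)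
    rw [hW, card_comap_mk', ha, hb, pow_add]
  have hWle : W ≤ Cfsg.pCore p G := Cfsg.Agent.helper1.le_pCore hWn hWp
  rw [eq_bot_iff]
  intro z hz
  obtain ⟨y, rfl⟩ := QuotientGroup.mk'_surjective _ z
  have hy : y ∈ W := by rw [hW]; exact hz
  rw [Subgroup.mem_bot]
  exact (QuotientGroup.eq_one_iff y).mpr (hWle hy)

end OpOf

section Perm

variable {G : Type u} [Group G]

theorem PermWith.symm' {L K : Subgroup G} (h : PermWith L K) : PermWith K L := by
  obtain ⟨T, hT⟩ := exists_coe_eq_of_permWith L K h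
  intro k hk l hl
  have h1 : l * k ∈ T := by
    rw [← SetLike.mem_coe, hT]; exact ⟨l, hl, k, hk, rfl⟩
  have h2 : (l * k)⁻¹ ∈ (T : Set G) := T.inv_mem h1
  rw [hT] at h2
  obtain ⟨l2, hl2, k2, hk2, e⟩ := h2
  have e' : l2 * k2 = (l * k)⁻¹ := e
  refine ⟨k2⁻¹, K.inv_mem hk2, l2⁻¹, L.inv_mem hl2, ?_⟩
  rw [← mul_inv_rev, e', inv_inv]

theorem PermWith.conj' {L K : Subgroup G} (h : PermWith L K) (g : G) :
    PermWith (MulAut.conj g • L) (MulAut.conj g • K) := by
  intro l hl k hk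
  rw [mem_conj_smul_iff] at hl hk
  obtain ⟨l2, hl2, k2, hk2, e⟩ := h _ hl _ hk
  refine ⟨g * l2 * g⁻¹, conj_mem_conj_smul g l2 L hl2, g * k2 * g⁻¹,
    conj_mem_conj_smul g k2 K hk2, ?_⟩
  calc k * l = g * ((g⁻¹ * k * g) * (g⁻¹ * l * g)) * g⁻¹ := by group
    _ = g * (l2 * k2) * g⁻¹ := by rw [e]
    _ = g * l2 * g⁻¹ * (g * k2 * g⁻¹) := by group

theorem conj_inv_smul_smul (g : G) (A : Subgroup G) :
    MulAut.conj g • (MulAut.conj g⁻¹ • A) = A := by
  rw [← mul_smul, ← map_mul, mul_inv_cancel, map_one, one_smul]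

theorem hyp_symm {A B : Subgroup G} (hyp : ∀ x : G, PermWith A (MulAut.conj x • B)) :
    ∀ x : G, PermWith B (MulAut.conj x • A) := by
  intro y
  have h1 := PermWith.conj' (hyp y⁻¹) y
  rw [conj_inv_smul_smul] at h1
  exact PermWith.symm' h1

theorem hyp_conj {A B : Subgroup G} (hyp : ∀ x : G, PermWith A (MulAut.conj x • B)) (g : G) :
    ∀ x : G, PermWith (MulAut.conj g • A) (MulAut.conj x • B) := by
  intro x
  have h1 := PermWith.conj' (hyp (g⁻¹ * x)) g
  rw [← mul_smul, ← map_mul] at h1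
  have e : g * (g⁻¹ * x) = x := by group
  rw [e] at h1
  exact h1

end Perm

end Cfsg.Agent.H16KW
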