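import Mathlib
import Cfsg.Agent.H16KW7

set_option autoImplicit false
set_option linter.style.haveILetI false
set_option linter.unusedSectionVars false

namespace Cfsg.Agent.H16KW

open scoped Pointwise
open Cfsg.Agent.helper3 Cfsg.Agent.helper23

universe u

/-- Kegel's claim: permuting `p`-subgroups commute modulo `O_p`. -/
def KegelClaim (p : ℕ) (G : Type u) [Group G] : Prop :=
  ∀ A B : Subgroup G, IsPGroup p A → IsPGroup p B →
    (∀ x : G, PermWith A (MulAut.conj x • B)) →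
    ∀ a ∈ A, ∀ b ∈ B, a * b * a⁻¹ * b⁻¹ ∈ Cfsg.pCore p G

section

variable {G : Type u} [Group G]

theorem isPGroup_conj_smul {p : ℕ} {A : Subgroup G} (h : IsPGroup p A) (g : G) :
    IsPGroup p ↥(MulAut.conj g • A) := by
  rw [Subgroup.pointwise_smul_def]
  exact h.map _

theorem kegel_sub {p : ℕ} (L : Subgroup G) (hL : KegelClaim p ↥L) (A B : Subgroup G)
    (hAL : A ≤ L) (hBL : B ≤ L) (hpA : IsPGroup p A) (hpB : IsPGroup p B)
    (hyp : ∀ x ∈ L, PermWith A (MulAut.conj x • B)) :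
    ∀ a ∈ A, ∀ b ∈ B, a * b * a⁻¹ * b⁻¹ ∈ OpOf p L := by
  intro a ha b hb
  have h1 := hL (A.subgroupOf L) (B.subgroupOf L) hpA.comap_subtype hpB.comap_subtype ?_
    ⟨a, hAL ha⟩ (Subgroup.mem_subgroupOf.mpr ha) ⟨b, hBL hb⟩ (Subgroup.mem_subgroupOf.mpr hb)
  · exact ⟨_, h1, rfl⟩
  · intro x l hl k hk
    rw [Subgroup.mem_subgroupOf] at hl
    rw [mem_conj_smul_iff, Subgroup.mem_subgroupOf] at hk
    have hk' : (k : G) ∈ MulAut.conj (x : G) • B := by
      rw [mem_conj_smul_iff]; exact hk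
    obtain ⟨l2, hl2, k2, hk2, e⟩ := hyp x x.2 l hl k hk'
    have hk2L : k2 ∈ L := by
      have e2 : k2 = l2⁻¹ * ((k : G) * (l : G)) := by rw [e]; group
      rw [e2]; exact L.mul_mem (L.inv_mem (hAL hl2)) (L.mul_mem k.2 l.2)
    refine ⟨⟨l2, hAL hl2⟩, Subgroup.mem_subgroupOf.mpr hl2, ⟨k2, hk2L⟩, ?_, ?_⟩
    · rw [mem_conj_smul_iff, Subgroup.mem_subgroupOf]
      rw [mem_conj_smul_iff] at hk2
      exact hk2
    · exact Subtype.ext e

theorem kegel_quot {p : ℕ} [Finite G] [hp : Fact p.Prime] (hVn : (Cfsg.pCore p G).Normal)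
    (hQ : KegelClaim p (G ⧸ Cfsg.pCore p G))
    (A B : Subgroup G) (hpA : IsPGroup p A) (hpB : IsPGroup p B)
    (hyp : ∀ x : G, PermWith A (MulAut.conj x • B)) :
    ∀ a ∈ A, ∀ b ∈ B, a * b * a⁻¹ * b⁻¹ ∈ Cfsg.pCore p G := by
  intro a ha b hb
  have h1 := hQ (A.map (QuotientGroup.mk' _)) (B.map (QuotientGroup.mk' _)) (hpA.map _)
    (hpB.map _) ?_ (QuotientGroup.mk' _ a) (Subgroup.mem_map_of_mem _ ha)
    (QuotientGroup.mk' _ b) (Subgroup.mem_map_of_mem _ hb)
  · rw [pCore_quot_eq_bot, Subgroup.mem_bot] at h1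
    rw [← map_inv, ← map_inv, ← map_mul, ← map_mul, ← map_mul] at h1
    exact (QuotientGroup.eq_one_iff _).mp h1
  · intro y l hl k hk
    obtain ⟨x, rfl⟩ := QuotientGroup.mk'_surjective _ y
    obtain ⟨a', ha', rfl⟩ := hl
    rw [mem_conj_smul_iff] at hk
    obtain ⟨b', hb', e⟩ := hk
    have hk1 : k = QuotientGroup.mk' _ (x * b' * x⁻¹) := by
      rw [map_mul, map_mul, map_inv, e]; group
    obtain ⟨l2, hl2, k2, hk2, e2⟩ := hyp x a' ha' (x * b' * x⁻¹) (conj_mem_conj_smul x b' B hb')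
    refine ⟨QuotientGroup.mk' _ l2, Subgroup.mem_map_of_mem _ hl2, QuotientGroup.mk' _ k2, ?_, ?_⟩
    · rw [mem_conj_smul_iff]
      rw [mem_conj_smul_iff] at hk2
      refine ⟨x⁻¹ * k2 * x, hk2, ?_⟩
      rw [map_mul, map_mul, map_inv]
    · rw [hk1, ← map_mul, ← map_mul, e2]

theorem kegel_core {p : ℕ} [Finite G] [hp : Fact p.Prime]
    (ih : ∀ L : Subgroup G, L ≠ ⊤ → KegelClaim p ↥L)
    (hV : Cfsg.pCore p G = ⊥)
    (A B : Subgroup G) (hpA : IsPGroup p A) (hpB : IsPGroup p B)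
    (hyp : ∀ x : G, PermWith A (MulAut.conj x • B))
    (N : Subgroup G) (hN : N.Normal) (hNtop : N ≠ ⊤) (hAN : A ≤ N) :
    ∀ a ∈ A, ∀ b ∈ B, a * b * a⁻¹ * b⁻¹ = 1 := by
  obtain ⟨M, hM⟩ : ∃ M : Subgroup G, M = Subgroup.normalClosure (A : Set G) := ⟨_, rfl⟩
  have hMn : M.Normal := by rw [hM]; exact Subgroup.normalClosure_normal
  have hAM : A ≤ M := by rw [hM]; exact Subgroup.le_normalClosure
  have hMN : M ≤ N := by rw [hM]; exact Subgroup.normalClosure_le_normal hAN
  have hMtop : M ≠ ⊤ := by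
    intro h
    apply hNtop
    rw [eq_top_iff, ← h]
    exact hMN
  have hOp : ∀ L : Subgroup G, L.Normal → OpOf p L = ⊥ := by
    intro L hL
    haveI := hL
    have := OpOf_le_pCore p L
    rw [hV] at this
    exact le_bot_iff.mp this
  have hconjM : ∀ g : G, MulAut.conj g • A ≤ M := by
    intro g x hx
    rw [mem_conj_smul_iff] at hx
    have := hMn.conj_mem _ (hAM hx) g
    have e : g * (g⁻¹ * x * g) * g⁻¹ = x := by group
    rwa [e] at this
  -- Step 1
  have h1 : ∀ g : G, ∀ a' ∈ MulAut.conj g • A, ∀ b' ∈ B ⊓ M, a' * b' = b' * a' := by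
    intro g a' ha' b' hb'
    have hsub := kegel_sub M (ih M hMtop) (MulAut.conj g • A) (B ⊓ M) (hconjM g) inf_le_right
      (isPGroup_conj_smul hpA g) (hpB.to_le inf_le_left) ?_ a' ha' b' hb'
    · rw [hOp M hMn, Subgroup.mem_bot] at hsub
      calc a' * b' = (a' * b' * a'⁻¹ * b'⁻¹) * b' * a' := by group
        _ = b' * a' := by rw [hsub, one_mul]
    · intro x hx l hl k hk
      rw [mem_conj_smul_iff] at hk
      have hkB : k ∈ MulAut.conj x • B := by rw [mem_conj_smul_iff]; exact hk.1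
      have hkM : k ∈ M := by
        have := M.mul_mem (M.mul_mem hx hk.2) (M.inv_mem hx)
        have e : x * (x⁻¹ * k * x) * x⁻¹ = k := by group
        rwa [e] at this
      obtain ⟨l2, hl2, k2, hk2, e⟩ := hyp_conj hyp g x l hl k hkB
      have hk2M : k2 ∈ M := by
        have e2 : k2 = l2⁻¹ * (k * l) := by rw [e]; group
        rw [e2]; exact M.mul_mem (M.inv_mem (hconjM g hl2)) (M.mul_mem hkM (hconjM g hl))
      refine ⟨l2, hl2, k2, ?_, e⟩
      rw [mem_conj_smul_iff]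
      rw [mem_conj_smul_iff] at hk2
      exact ⟨hk2, M.mul_mem (M.mul_mem (M.inv_mem hx) hk2M) hx⟩
  have h2 : B ⊓ M = ⊥ := by
    have hcent : ∀ b' ∈ B ⊓ M, ∀ m ∈ M, m * b' = b' * m := by
      intro b' hb' m hm
      have hle : M ≤ Subgroup.centralizer {b'} := by
        rw [hM, Subgroup.normalClosure, Subgroup.closure_le]
        intro y hy
        rw [Group.mem_conjugatesOfSet_iff] at hy
        obtain ⟨a0, ha0, hc⟩ := hy
        obtain ⟨c, hc⟩ := isConj_iff.mp hc
        rw [← hc, SetLike.mem_coe, Subgroup.mem_centralizer_iff]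
        intro z hz
        rw [Set.mem_singleton_iff] at hz
        rw [hz]
        exact (h1 c _ (conj_mem_conj_smul c a0 A ha0) b' hb').symm
      have := Subgroup.mem_centralizer_iff.mp (hle hm) b' (Set.mem_singleton _)
      exact this.symm
    have hle : B ⊓ M ≤ OpOf p M := by
      apply le_OpOf inf_le_right _ (hpB.to_le inf_le_left)
      intro m hm
      apply mem_normalizer_of_conj_le
      intro x hx
      have := hcent x hx m hm
      have e : m * x * m⁻¹ = x := by rw [this]; group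
      rw [e]; exact hx
    rw [hOp M hMn] at hle
    exact le_bot_iff.mp hle
  -- Step 2
  have h3 : ∀ g : G, ∀ b ∈ B, ∀ a' ∈ MulAut.conj g • A, b * a' * b⁻¹ ∈ MulAut.conj g • A := by
    intro g b hb a' ha'
    have hp1 := hyp_conj hyp g 1
    rw [conj_one_smul] at hp1
    obtain ⟨l2, hl2, k2, hk2, e⟩ := hp1 a' ha' b hb
    have hmem : k2 * b⁻¹ ∈ B ⊓ M := by
      refine ⟨B.mul_mem hk2 (B.inv_mem hb), ?_⟩
      have e2 : k2 * b⁻¹ = l2⁻¹ * (b * a' * b⁻¹) := by rw [e]; group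
      rw [e2]
      exact M.mul_mem (M.inv_mem (hconjM g hl2)) (hMn.conj_mem _ (hconjM g ha') b)
    rw [h2, Subgroup.mem_bot] at hmem
    have e3 : b * a' * b⁻¹ = l2 * (k2 * b⁻¹) := by rw [e]; group
    rw [e3, hmem, mul_one]; exact hl2
  -- Step 3
  obtain ⟨M', hM'⟩ : ∃ M' : Subgroup G, M' = Subgroup.normalClosure (B : Set G) := ⟨_, rfl⟩
  have hM'n : M'.Normal := by rw [hM']; exact Subgroup.normalClosure_normal
  have hBM' : B ≤ M' := by rw [hM']; exact Subgroup.le_normalClosure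
  have h4 : M' ≤ Subgroup.normalizer (A : Set G) := by
    rw [hM', Subgroup.normalClosure, Subgroup.closure_le]
    intro y hy
    rw [Group.mem_conjugatesOfSet_iff] at hy
    obtain ⟨b0, hb0, hc⟩ := hy
    obtain ⟨c, hc⟩ := isConj_iff.mp hc
    rw [← hc, SetLike.mem_coe]
    apply mem_normalizer_of_conj_le
    intro a ha
    have ha1 : c⁻¹ * a * c ∈ MulAut.conj c⁻¹ • A := by
      have := conj_mem_conj_smul c⁻¹ a A ha
      rwa [inv_inv] at this
    have := h3 c⁻¹ b0 hb0 _ ha1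
    rw [mem_conj_smul_iff, inv_inv] at this
    have e : c * b0 * c⁻¹ * a * (c * b0 * c⁻¹)⁻¹ = c * (b0 * (c⁻¹ * a * c) * b0⁻¹) * c⁻¹ := by
      group
    rw [e]; exact this
  have h5 : A ⊓ M' = ⊥ := by
    have hle : A ⊓ M' ≤ OpOf p M' := by
      apply le_OpOf inf_le_right _ (hpA.to_le inf_le_left)
      intro m hm
      apply mem_normalizer_of_conj_le
      intro x hx
      exact ⟨conj_mem_of_mem_normalizer (h4 hm) hx.1, hM'n.conj_mem _ hx.2 m⟩
    rw [hOp M' hM'n] at hle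
    exact le_bot_iff.mp hle
  intro a ha b hb
  have hmem : a * b * a⁻¹ * b⁻¹ ∈ A ⊓ M' := by
    constructor
    · have := conj_mem_of_mem_normalizer (h4 (hBM' hb)) (A.inv_mem ha)
      have e : a * b * a⁻¹ * b⁻¹ = a * (b * a⁻¹ * b⁻¹) := by group
      rw [e]; exact A.mul_mem ha this
    · exact M'.mul_mem (hM'n.conj_mem _ (hBM' hb) a) (M'.inv_mem (hBM' hb))
  rw [h5, Subgroup.mem_bot] at hmem
  exact hmem

end

theorem kegel_comm (p : ℕ) [hp : Fact p.Prime] :
    ∀ (n : ℕ) (G : Type u) [Group G] [Finite G], Nat.card G = n → KegelClaim p G := by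
  intro n
  induction n using Nat.strong_induction_on with
  | _ n ih =>
  intro G _ _ hn A B hpA hpB hyp
  have hVn : (Cfsg.pCore p G).Normal := Cfsg.Agent.helper1.pCore_normal p
  by_cases hV : Cfsg.pCore p G = ⊥
  swap
  · apply kegel_quot hVn _ A B hpA hpB hyp
    apply ih (Nat.card (G ⧸ Cfsg.pCore p G)) _ _ rfl
    rw [← hn, ← Subgroup.index_eq_card]
    have h1 := Subgroup.card_mul_index (Cfsg.pCore p G)
    have h2 : 1 < Nat.card (Cfsg.pCore p G) := (Cfsg.pCore p G).one_lt_card_iff_ne_bot.mpr hV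
    have h3 : 0 < (Cfsg.pCore p G).index := Nat.pos_of_ne_zero Subgroup.index_ne_zero_of_finite
    nlinarith
  · have ihL : ∀ L : Subgroup G, L ≠ ⊤ → KegelClaim p ↥L := by
      intro L hL
      apply ih (Nat.card L) _ ↥L rfl
      rw [← hn]
      have h1 := Subgroup.card_mul_index L
      have h2 : L.index ≠ 1 := fun h => hL (Subgroup.index_eq_one.mp h)
      have h3 : 0 < L.index := Nat.pos_of_ne_zero Subgroup.index_ne_zero_of_finite
      have h4 : 0 < Nat.card L := Nat.card_pos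
      have h5 : 2 ≤ L.index := by omega
      nlinarith
    intro a ha b hb
    by_cases hA : A = ⊥
    · rw [hA, Subgroup.mem_bot] at ha
      rw [ha]
      have e : (1 : G) * b * 1⁻¹ * b⁻¹ = 1 := by group
      rw [e]; exact Subgroup.one_mem _
    by_cases hB : B = ⊥
    · rw [hB, Subgroup.mem_bot] at hb
      rw [hb]
      have e : a * 1 * a⁻¹ * (1 : G)⁻¹ = 1 := by group
      rw [e]; exact Subgroup.one_mem _
    have hprop : ∀ x : G, ∃ S : Subgroup G, S ≠ ⊤ ∧
        (S : Set G) = (A : Set G) * ((MulAut.conj x • B : Subgroup G) : Set G) := by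
      intro x
      obtain ⟨T, hT⟩ := exists_coe_eq_of_permWith _ _ (hyp x)
      refine ⟨T, ?_, hT⟩
      intro htop
      have hc := Cfsg.Agent.S0560.card_setmul A (MulAut.conj x • B)
      rw [← hT, htop, Subgroup.coe_top, Nat.card_univ] at hc
      obtain ⟨i, hi⟩ := IsPGroup.iff_card.1 hpA
      obtain ⟨j, hj⟩ := IsPGroup.iff_card.1 (isPGroup_conj_smul hpB x)
      rw [hi, hj, ← pow_add] at hc
      have hdvd : Nat.card G ∣ p ^ (i + j) := Dvd.intro _ hc
      obtain ⟨k, _, hk⟩ := (Nat.dvd_prime_pow hp.out).mp hdvd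
      have hGp : IsPGroup p G := IsPGroup.of_card hk
      have htopp : IsPGroup p (⊤ : Subgroup G) := hGp.to_subgroup _
      have hle : (⊤ : Subgroup G) ≤ Cfsg.pCore p G :=
        Cfsg.Agent.helper1.le_pCore Subgroup.normal_top htopp
      rw [hV] at hle
      apply hA
      rw [eq_bot_iff]
      exact le_trans le_top hle
    obtain ⟨N, hNn, hNtop, hor⟩ := Cfsg.Agent.S0566.result A B hA hB hprop
    rw [hV, Subgroup.mem_bot]
    rcases hor with hAN | hBN
    · exact kegel_core ihL hV A B hpA hpB hyp N hNn hNtop hAN a ha b hb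
    · have := kegel_core ihL hV B A hpB hpA (hyp_symm hyp) N hNn hNtop hBN b hb a ha
      have e : a * b * a⁻¹ * b⁻¹ = (b * a * b⁻¹ * a⁻¹)⁻¹ := by group
      rw [e, this, inv_one]

end Cfsg.Agent.H16KW
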