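import Mathlib
import Cfsg.Agent.H16KW6
import Cfsg.Agent.H16KW8

set_option autoImplicit false
set_option linter.style.haveILetI false
set_option linter.unusedSectionVars false

namespace Cfsg.Agent.H16KW

open scoped Pointwise
open Cfsg.Agent.helper3 Cfsg.Agent.helper23

universe u

section

variable {G : Type u} [Group G] [Finite G]

theorem SylIn.eq_map_sylow {H : Subgroup G} {p : ℕ} {P : Subgroup G} [hp : Fact p.Prime]
    (h : SylIn H p P) (hH : Group.IsNilpotent H) (P0 : Sylow p H) :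
    (P0 : Subgroup H).map H.subtype = P := by
  haveI := hH
  apply le_antisymm
  · exact h.max _ (Subgroup.map_subtype_le _) (P0.isPGroup'.map _)
  · haveI hn : (P0 : Subgroup H).Normal := inferInstance
    have hQ' : IsPGroup p (P.subgroupOf H) := h.pg.comap_subtype
    obtain ⟨P1, hP1⟩ := hQ'.exists_le_sylow
    haveI : Unique (Sylow p H) := Sylow.unique_of_normal P0 hn
    have e : P1 = P0 := Subsingleton.elim _ _
    rw [e] at hP1
    intro x hx
    exact ⟨⟨x, h.le hx⟩, hP1 (Subgroup.mem_subgroupOf.mpr hx), rfl⟩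

/-- The Sylow `p`-subgroups of the two nilpotent factors permute with all conjugates. -/
theorem sylIn_permWith {A B : Subgroup G} (hA : Group.IsNilpotent A) (hB : Group.IsNilpotent B)
    (hfac : ∀ g : G, ∃ a ∈ A, ∃ b ∈ B, g = a * b) {p : ℕ} [hp : Fact p.Prime]
    {P Q : Subgroup G} (hP : SylIn A p P) (hQ : SylIn B p Q) :
    ∀ x : G, PermWith P (MulAut.conj x • Q) := by
  have hPQ : PermWith P Q := by
    obtain ⟨P0, Q0, R, hR⟩ := Cfsg.Agent.S0560.result A B hfac p
    rw [hP.eq_map_sylow hA P0, hQ.eq_map_sylow hB Q0] at hR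
    exact permWith_of_coe_eq P Q R hR
  intro x
  obtain ⟨a, ha, b, hb, e⟩ := hfac x
  have h1 := PermWith.conj' hPQ a
  rw [hP.conj_smul_eq ha] at h1
  rw [e, ← conj_smul_smul, hQ.conj_smul_eq hb]
  exact h1

end

theorem kw_solvable : ∀ (n : ℕ) (G : Type u) [Group G] [Finite G] (A B : Subgroup G),
    Group.IsNilpotent A → Group.IsNilpotent B → (∀ g : G, ∃ a ∈ A, ∃ b ∈ B, g = a * b) →
    Nat.card G = n → Group.IsSolvable G := by
  intro n
  induction n using Nat.strong_induction_on with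
  | _ n IH =>
  intro G _ _ A B hA hB hfac hn
  by_contra hns
  have hquot : ∀ (N : Subgroup G) [N.Normal], N ≠ ⊥ → Group.IsSolvable (G ⧸ N) := by
    intro N hN hN1
    have hlt : Nat.card (G ⧸ N) < n := by
      rw [← hn, Subgroup.card_eq_card_quotient_mul_card_subgroup N]
      have h1 : 1 < Nat.card N := N.one_lt_card_iff_ne_bot.2 hN1
      have h2 : 0 < Nat.card (G ⧸ N) := Nat.card_pos
      nlinarith
    refine IH _ hlt (G ⧸ N) (A.map (QuotientGroup.mk' N)) (B.map (QuotientGroup.mk' N))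
      (Cfsg.Agent.helper8.CN.nilpotent_map _ A hA) (Cfsg.Agent.helper8.CN.nilpotent_map _ B hB)
      ?_ rfl
    intro g
    obtain ⟨g, rfl⟩ := QuotientGroup.mk'_surjective N g
    obtain ⟨h, hh, k, hk, e⟩ := hfac g
    exact ⟨_, ⟨h, hh, rfl⟩, _, ⟨k, hk, rfl⟩, by rw [e, map_mul]⟩
  have hnosol : ∀ N : Subgroup G, N.Normal → Group.IsSolvable N → N = ⊥ := by
    intro N hN hsN
    by_contra hN1
    haveI := hN
    haveI := hquot N hN1
    haveI := hsN
    exact hns (Group.isSolvable_of_ker_le_range N.subtype (QuotientGroup.mk' N) (by simp))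
  by_cases hcop : (Nat.card A).Coprime (Nat.card B)
  · exact hns (wielandt_solvable _ G A B ⟨hA, hB, hcop, hfac⟩ rfl)
  obtain ⟨p, hp, hpA, hpB⟩ := Nat.Prime.not_coprime_iff_dvd.mp hcop
  haveI : Fact p.Prime := ⟨hp⟩
  obtain ⟨P, hP⟩ := exists_sylIn A hA p
  obtain ⟨Q, hQ⟩ := exists_sylIn B hB p
  have hP1 : P ≠ ⊥ := hP.ne_bot hpA
  have hQ1 : Q ≠ ⊥ := hQ.ne_bot hpB
  have hyp := sylIn_permWith hA hB hfac hP hQ
  have hV : Cfsg.pCore p G = ⊥ := by
    apply hnosol _ (Cfsg.Agent.helper1.pCore_normal p)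
    haveI : Group.IsNilpotent (Cfsg.pCore p G) :=
      (Cfsg.Agent.helper1.pCore_isPGroup p).isNilpotent
    infer_instance
  have hcomm : ∀ x : G, ∀ a ∈ P, ∀ b ∈ MulAut.conj x • Q, a * b = b * a := by
    intro x a ha b hb
    have h1 := kegel_comm p _ G rfl P (MulAut.conj x • Q) hP.pg (isPGroup_conj_smul hQ.pg x)
      ?_ a ha b hb
    · rw [hV, Subgroup.mem_bot] at h1
      calc a * b = (a * b * a⁻¹ * b⁻¹) * b * a := by group
        _ = b * a := by rw [h1, one_mul]
    · intro y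
      rw [conj_smul_smul]
      exact hyp _
  obtain ⟨N1, hN1⟩ : ∃ N1 : Subgroup G, N1 = Subgroup.normalClosure (P : Set G) := ⟨_, rfl⟩
  obtain ⟨N2, hN2⟩ : ∃ N2 : Subgroup G, N2 = Subgroup.normalClosure (Q : Set G) := ⟨_, rfl⟩
  have hN1n : N1.Normal := by rw [hN1]; exact Subgroup.normalClosure_normal
  have hN2n : N2.Normal := by rw [hN2]; exact Subgroup.normalClosure_normal
  have hPN1 : P ≤ N1 := by rw [hN1]; exact Subgroup.le_normalClosure
  have hQN2 : Q ≤ N2 := by rw [hN2]; exact Subgroup.le_normalClosure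
  have hN1b : N1 ≠ ⊥ := fun h => hP1 (le_bot_iff.mp (h ▸ hPN1))
  have hN2b : N2 ≠ ⊥ := fun h => hQ1 (le_bot_iff.mp (h ▸ hQN2))
  haveI := hN2n
  have hPC : P ≤ Subgroup.centralizer (N2 : Set G) := by
    intro a ha
    rw [Subgroup.mem_centralizer_iff]
    have hle : N2 ≤ Subgroup.centralizer {a} := by
      rw [hN2, Subgroup.normalClosure, Subgroup.closure_le]
      intro y hy
      rw [Group.mem_conjugatesOfSet_iff] at hy
      obtain ⟨b0, hb0, hc⟩ := hy
      obtain ⟨c, hc⟩ := isConj_iff.mp hc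
      rw [← hc, SetLike.mem_coe, Subgroup.mem_centralizer_iff]
      intro z hz
      rw [Set.mem_singleton_iff] at hz
      rw [hz]
      exact hcomm c a ha _ (conj_mem_conj_smul c b0 Q hb0)
    intro y hy
    have := Subgroup.mem_centralizer_iff.mp (hle hy) a (Set.mem_singleton _)
    exact this.symm
  have hN1C : N1 ≤ Subgroup.centralizer (N2 : Set G) := by
    rw [hN1]
    exact Subgroup.normalClosure_le_normal hPC
  have hinf : N1 ⊓ N2 = ⊥ := by
    haveI := hN1n
    apply hnosol _ inferInstance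
    apply Group.isSolvable_of_comm
    intro a b
    have h1 := Subgroup.mem_centralizer_iff.mp (hN1C a.2.1) b.1 b.2.2
    exact Subtype.ext h1.symm
  haveI := hN1n
  haveI := hquot N1 hN1b
  haveI := hquot N2 hN2b
  apply hns
  apply Group.isSolvable_of_isSolvable_injective
    (f := (QuotientGroup.mk' N1).prod (QuotientGroup.mk' N2))
  rw [← MonoidHom.ker_eq_bot_iff, eq_bot_iff]
  intro g hg
  rw [MonoidHom.mem_ker, MonoidHom.prod_apply, Prod.mk_eq_one] at hg
  rw [← hinf]
  exact ⟨(QuotientGroup.eq_one_iff g).mp hg.1, (QuotientGroup.eq_one_iff g).mp hg.2⟩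

end Cfsg.Agent.H16KW
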