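import Mathlib
import Cfsg.Agent.H16KW9
import Cfsg.Agent.Lib_helper19_Pairing
import Cfsg.Agent.Lib_helper23_Hall

set_option autoImplicit false
set_option linter.style.haveILetI false
set_option linter.unusedSectionVars false

namespace Cfsg.Agent.H16KW

open scoped Pointwise
open Cfsg.Agent.helper3 Cfsg.Agent.helper23

universe u

theorem kw_normal : ∀ (n : ℕ) (G : Type u) [Group G] [Finite G] (A B : Subgroup G),
    Group.IsNilpotent A → Group.IsNilpotent B → (∀ g : G, ∃ a ∈ A, ∃ b ∈ B, g = a * b) →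
    (A ≠ ⊤ ∨ B ≠ ⊤) → Nat.card G = n →
    ∃ N : Subgroup G, N.Normal ∧ N ≠ ⊤ ∧ (A ≤ N ∨ B ≤ N) := by
  intro n
  induction n using Nat.strong_induction_on with
  | _ n IH =>
  intro G _ _ A B hA hB hfac hne hn
  haveI hsol : Group.IsSolvable G := kw_solvable _ G A B hA hB hfac rfl
  by_contra hcon
  have hstar : ∀ (K : Subgroup G) [K.Normal], K ≠ ⊥ → A ⊔ K = ⊤ ∧ B ⊔ K = ⊤ := by
    intro K hK hK1
    by_contra hc
    have hne' : A.map (QuotientGroup.mk' K) ≠ ⊤ ∨ B.map (QuotientGroup.mk' K) ≠ ⊤ := by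
      by_contra h0
      push Not at h0
      apply hc
      constructor
      · have := Subgroup.comap_map_eq (QuotientGroup.mk' K) A
        rw [h0.1, Subgroup.comap_top, QuotientGroup.ker_mk'] at this
        exact this.symm
      · have := Subgroup.comap_map_eq (QuotientGroup.mk' K) B
        rw [h0.2, Subgroup.comap_top, QuotientGroup.ker_mk'] at this
        exact this.symm
    have hlt : Nat.card (G ⧸ K) < n := by
      rw [← hn, Subgroup.card_eq_card_quotient_mul_card_subgroup K]
      have h1 : 1 < Nat.card K := K.one_lt_card_iff_ne_bot.2 hK1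
      have h2 : 0 < Nat.card (G ⧸ K) := Nat.card_pos
      nlinarith
    have hfac' : ∀ g : G ⧸ K, ∃ a ∈ A.map (QuotientGroup.mk' K),
        ∃ b ∈ B.map (QuotientGroup.mk' K), g = a * b := by
      intro g
      obtain ⟨g, rfl⟩ := QuotientGroup.mk'_surjective K g
      obtain ⟨h, hh, k, hk, e⟩ := hfac g
      exact ⟨_, ⟨h, hh, rfl⟩, _, ⟨k, hk, rfl⟩, by rw [e, map_mul]⟩
    obtain ⟨N, hNn, hNtop, hor⟩ := IH _ hlt (G ⧸ K) (A.map (QuotientGroup.mk' K))
      (B.map (QuotientGroup.mk' K)) (Cfsg.Agent.helper8.CN.nilpotent_map _ A hA)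
      (Cfsg.Agent.helper8.CN.nilpotent_map _ B hB) hfac' hne' rfl
    apply hcon
    refine ⟨N.comap (QuotientGroup.mk' K), hNn.comap _, ?_, ?_⟩
    · intro h0
      apply hNtop
      rw [eq_top_iff]
      intro y _
      obtain ⟨x, rfl⟩ := QuotientGroup.mk'_surjective K y
      have : x ∈ N.comap (QuotientGroup.mk' K) := by rw [h0]; exact Subgroup.mem_top x
      exact this
    · rcases hor with h | h
      · exact Or.inl (Subgroup.map_le_iff_le_comap.mp h)
      · exact Or.inr (Subgroup.map_le_iff_le_comap.mp h)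
  have hnilcase : ∀ C : Subgroup G, Group.IsNilpotent G → C ≠ ⊤ →
      ∃ M : Subgroup G, M.Normal ∧ M ≠ ⊤ ∧ C ≤ M := by
    intro C hG hC
    rcases eq_top_or_exists_le_coatom C with h | ⟨M, hM, hCM⟩
    · exact absurd h hC
    · haveI := hG
      exact ⟨M, Subgroup.NormalizerCondition.normal_of_coatom M
        Group.normalizerCondition_of_isNilpotent hM, hM.1, hCM⟩
  have hGnil_of : ∀ C : Subgroup G, Group.IsNilpotent C → C = ⊤ → Group.IsNilpotent G := by
    intro C hC hC1
    haveI := hC
    apply Group.nilpotent_of_surjective C.subtype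
    intro g
    exact ⟨⟨g, by rw [hC1]; exact Subgroup.mem_top g⟩, rfl⟩
  have hAtop : A ≠ ⊤ := by
    intro hA1
    have hB1 : B ≠ ⊤ := by
      rcases hne with h | h
      · exact absurd hA1 h
      · exact h
    obtain ⟨M, hMn, hMtop, hBM⟩ := hnilcase B (hGnil_of A hA hA1) hB1
    exact hcon ⟨M, hMn, hMtop, Or.inr hBM⟩
  have hBtop : B ≠ ⊤ := by
    intro hB1
    obtain ⟨M, hMn, hMtop, hAM⟩ := hnilcase A (hGnil_of B hB hB1) hAtop
    exact hcon ⟨M, hMn, hMtop, Or.inl hAM⟩
  haveI : Nontrivial G := by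
    by_contra h0
    rw [not_nontrivial_iff_subsingleton] at h0
    apply hAtop
    rw [eq_top_iff]
    intro x _
    rw [Subsingleton.elim x 1]
    exact A.one_mem
  obtain ⟨q, hq, N, hNn, hN1, hNq, hNab⟩ := exists_abelian_normal_pgroup G
  haveI : Fact q.Prime := ⟨hq⟩
  haveI := hNn
  have key : ∀ C : Subgroup G, Group.IsNilpotent C → C ≠ ⊤ →
      (∀ (K : Subgroup G) [K.Normal], K ≠ ⊥ → C ⊔ K = ⊤) → ¬ q ∣ Nat.card C := by
    intro C hC hCtop hCs hdvd
    obtain ⟨P, hP⟩ := exists_sylIn C hC q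
    have hP1 : P ≠ ⊥ := hP.ne_bot hdvd
    have hT : IsPGroup q ↥(P ⊔ N) := IsPGroup.to_sup_of_normal_right hP.pg hNq
    haveI : (N.subgroupOf (P ⊔ N)).Normal := inferInstance
    have hNT : N.subgroupOf (P ⊔ N) ≠ ⊥ := by
      intro h0
      apply hN1
      rw [eq_bot_iff]
      intro x hx
      have : (⟨x, (le_sup_right : N ≤ P ⊔ N) hx⟩ : ↥(P ⊔ N)) ∈ N.subgroupOf (P ⊔ N) :=
        Subgroup.mem_subgroupOf.mpr hx
      rw [h0, Subgroup.mem_bot] at this
      rw [Subgroup.mem_bot]
      exact congrArg Subtype.val this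
    have hcen := Cfsg.Agent.helper19.inf_center_ne_bot_of_normal hT (N.subgroupOf (P ⊔ N)) hNT
    obtain ⟨K, hK⟩ : ∃ K : Subgroup G, K = N ⊓ Subgroup.centralizer (P : Set G) := ⟨_, rfl⟩
    have hK1 : K ≠ ⊥ := by
      intro h0
      apply hcen
      rw [eq_bot_iff]
      intro z hz
      rw [Subgroup.mem_bot]
      have hzK : z.1 ∈ K := by
        rw [hK]
        refine Subgroup.mem_inf.mpr ⟨Subgroup.mem_subgroupOf.mp hz.1, ?_⟩
        rw [Subgroup.mem_centralizer_iff]
        intro y hy
        have := Subgroup.mem_center_iff.mp hz.2 ⟨y, (le_sup_left : P ≤ P ⊔ N) hy⟩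
        exact congrArg Subtype.val this
      rw [h0, Subgroup.mem_bot] at hzK
      exact Subtype.ext hzK
    have hCsupN := hCs N hN1
    have hKn : K.Normal := by
      rw [← Subgroup.normalizer_eq_top_iff, eq_top_iff, ← hCsupN]
      apply sup_le
      · intro c hc
        apply mem_normalizer_of_conj_le
        intro x hx
        rw [hK] at hx ⊢
        refine Subgroup.mem_inf.mpr ⟨hNn.conj_mem _ hx.1 c, ?_⟩
        rw [Subgroup.mem_centralizer_iff]
        intro y hy
        have hy' : c⁻¹ * y * c ∈ P := conj_inv_mem_of_mem_normalizer (hP.norm hc) hy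
        have := Subgroup.mem_centralizer_iff.mp hx.2 _ hy'
        calc y * (c * x * c⁻¹) = c * ((c⁻¹ * y * c) * x) * c⁻¹ := by group
          _ = c * (x * (c⁻¹ * y * c)) * c⁻¹ := by rw [this]
          _ = c * x * c⁻¹ * y := by group
      · intro m hm
        apply mem_normalizer_of_conj_le
        intro x hx
        have hxN : x ∈ N := by rw [hK] at hx; exact hx.1
        have e : m * x * m⁻¹ = x := by rw [hNab m hm x hxN]; group
        rw [e]; exact hx
    haveI := hKn
    have hCK := hCs K hK1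
    have hPn : P.Normal := by
      rw [← Subgroup.normalizer_eq_top_iff, eq_top_iff, ← hCK]
      apply sup_le hP.norm
      intro k hk
      rw [hK] at hk
      apply mem_normalizer_of_conj_le
      intro x hx
      have := Subgroup.mem_centralizer_iff.mp hk.2 x hx
      have e : k * x * k⁻¹ = x := by rw [← this]; group
      rw [e]; exact hx
    haveI := hPn
    have := hCs P hP1
    rw [sup_eq_left.mpr hP.le] at this
    exact hCtop this
  have hqA := key A hA hAtop (fun K _ hK => (hstar K hK).1)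
  have hqB := key B hB hBtop (fun K _ hK => (hstar K hK).2)
  have hcard : Nat.card G ∣ Nat.card A * Nat.card B := by
    have h1 := Cfsg.Agent.S0560.card_setmul A B
    have h2 : ((A : Set G) * (B : Set G) : Set G) = Set.univ := by
      ext g
      constructor
      · intro _; exact Set.mem_univ g
      · intro _
        obtain ⟨a, ha, b, hb, e⟩ := hfac g
        exact ⟨a, ha, b, hb, e.symm⟩
    rw [h2, Nat.card_univ] at h1
    exact Dvd.intro _ h1
  have hqN : q ∣ Nat.card N := by
    obtain ⟨k, hk⟩ := IsPGroup.iff_card.1 hNq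
    have hk0 : k ≠ 0 := by
      intro h0
      rw [h0, pow_zero] at hk
      exact hN1 (Subgroup.card_eq_one.mp hk)
    rw [hk]; exact dvd_pow_self q hk0
  have hqG : q ∣ Nat.card G := hqN.trans (Subgroup.card_subgroup_dvd_card N)
  rcases (Nat.Prime.dvd_mul hq).mp (hqG.trans hcard) with h | h
  · exact hqA h
  · exact hqB h

end Cfsg.Agent.H16KW
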