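import Mathlib

namespace Cfsg.Agent.H16QD

/-- If the Sylow `p`-subgroups of `G` are TI, then any quotient `Q` of a subgroup of `G`
that has a nontrivial normal `p`-subgroup has a normal Sylow `p`-subgroup. -/
theorem normal_sylow_of_involved {G : Type*} [Group G] [Finite G] {Q : Type*} [Group Q] [Finite Q]
    (p : ℕ) [Fact p.Prime]
    (hTI : ∀ P₁ P₂ : Sylow p G, (P₁ : Subgroup G) ⊓ (P₂ : Subgroup G) ≠ ⊥ → P₁ = P₂)
    (H : Subgroup G) (φ : H →* Q) (hφ : Function.Surjective φ)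
    (V : Subgroup Q) [hVn : V.Normal] (hV1 : V ≠ ⊥) (hVp : IsPGroup p V) :
    ∃ P : Sylow p Q, (P : Subgroup Q).Normal := by
  classical
  let V' : Subgroup H := V.comap φ
  haveI hV'n : V'.Normal := hVn.comap φ
  let R₀ : Sylow p V' := default
  let R₁ : Subgroup H := (R₀ : Subgroup V').map V'.subtype
  have hfr : Subgroup.normalizer (R₁ : Set H) ⊔ V' = ⊤ := Sylow.normalizer_sup_eq_top R₀
  have hR₁p : IsPGroup p R₁ := R₀.2.map _
  -- every element of V is φ of an element of R₁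
  have hVR : ∀ y ∈ V, ∃ c ∈ R₁, φ c = y := by
    intro y hy
    let ψ : V' →* V := φ.subgroupComap V
    have hψ : Function.Surjective ψ := MonoidHom.subgroupComap_surjective_of_surjective φ V hφ
    let PV : Sylow p V := R₀.mapSurjective hψ
    have htop : (PV : Subgroup V) = ⊤ := by
      have h1 : IsPGroup p (⊤ : Subgroup V) := hVp.to_subgroup ⊤
      exact (PV.3 h1 le_top).symm
    have hmem : (⟨y, hy⟩ : V) ∈ (PV : Subgroup V) := by rw [htop]; trivial
    rw [Sylow.coe_mapSurjective, Subgroup.mem_map] at hmem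
    obtain ⟨x, hx, hxy⟩ := hmem
    refine ⟨(x : H), Subgroup.mem_map.mpr ⟨x, hx, rfl⟩, ?_⟩
    have := congrArg Subtype.val hxy
    exact this
  have hR₁ne : R₁ ≠ ⊥ := by
    intro hbot
    apply hV1
    rw [eq_bot_iff]
    intro y hy
    obtain ⟨c, hc, rfl⟩ := hVR y hy
    rw [hbot, Subgroup.mem_bot] at hc
    rw [hc, map_one]
    exact Subgroup.mem_bot.mpr rfl
  let H₁ : Subgroup H := Subgroup.normalizer (R₁ : Set H)
  have hR₁H₁ : R₁ ≤ H₁ := Subgroup.le_normalizer
  -- φ restricted to H₁ is surjective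
  have hsurj : Function.Surjective (φ.comp H₁.subtype) := by
    intro y
    obtain ⟨h, rfl⟩ := hφ y
    have hh : h ∈ Subgroup.normalizer (R₁ : Set H) ⊔ V' := by rw [hfr]; trivial
    have hh2 : h ∈ ((Subgroup.normalizer (R₁ : Set H) ⊔ V' : Subgroup H) : Set H) := hh
    rw [Subgroup.mul_normal] at hh2
    obtain ⟨a, ha, b, hb, rfl⟩ := Set.mem_mul.mp hh2
    have hb' : φ b ∈ V := hb
    obtain ⟨c, hc, hcb⟩ := hVR (φ b) hb'
    refine ⟨⟨a * c, H₁.mul_mem ha (hR₁H₁ hc)⟩, ?_⟩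
    simp [hcb]
  -- pass to G
  let R₂ : Subgroup G := R₁.map H.subtype
  have hR₂p : IsPGroup p R₂ := hR₁p.map _
  have hR₂ne : R₂ ≠ ⊥ := by
    intro hbot
    apply hR₁ne
    rw [eq_bot_iff]
    intro x hx
    have : (x : G) ∈ R₂ := Subgroup.mem_map.mpr ⟨x, hx, rfl⟩
    rw [hbot, Subgroup.mem_bot] at this
    rw [Subgroup.mem_bot]
    exact Subtype.ext this
  obtain ⟨U, hU⟩ := hR₂p.exists_le_sylow
  have hnorm : ∀ h : H, h ∈ H₁ → (h : G) ∈ Subgroup.normalizer ((U : Subgroup G) : Set G) := by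
    intro h hh
    have key : (h : G) • U = U := by
      apply hTI
      intro hbot
      apply hR₂ne
      rw [eq_bot_iff, ← hbot]
      intro x hx
      refine Subgroup.mem_inf.mpr ⟨?_, hU hx⟩
      rw [Sylow.coe_subgroup_smul, Subgroup.mem_pointwise_smul_iff_inv_smul_mem]
      apply hU
      obtain ⟨x₁, hx₁, rfl⟩ := Subgroup.mem_map.mp hx
      have hh' : h⁻¹ ∈ Subgroup.normalizer (R₁ : Set H) := inv_mem hh
      have := (Subgroup.mem_normalizer_iff.mp hh' x₁).mp hx₁
      refine Subgroup.mem_map.mpr ⟨h⁻¹ * x₁ * h⁻¹⁻¹, this, ?_⟩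
      simp [MulAut.smul_def]
    exact Sylow.smul_eq_iff_mem_normalizer.mp key
  -- the normal Sylow of H₁
  let ι : H₁ →* G := H.subtype.comp H₁.subtype
  have hι : Function.Injective ι := by
    intro a b hab
    exact Subtype.ext (Subtype.ext hab)
  let S₁ : Subgroup H₁ := (U : Subgroup G).comap ι
  have hS₁p : IsPGroup p S₁ := U.2.comap_of_injective ι hι
  have hS₁n : S₁.Normal := by
    constructor
    intro x hx h
    show ι (h * x * h⁻¹) ∈ (U : Subgroup G)
    have hn := hnorm (h : H) h.2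
    have := (Subgroup.mem_normalizer_iff.mp hn (ι x)).mp hx
    simpa [ι] using this
  have hS₁idx : ¬ p ∣ S₁.index := by
    let P₁ : Sylow p H₁ := default
    have hle : (P₁ : Subgroup H₁) ≤ S₁ := by
      intro x hx
      show ι x ∈ (U : Subgroup G)
      have hP' : IsPGroup p ((P₁ : Subgroup H₁).map ι) := P₁.2.map ι
      have hle' : (P₁ : Subgroup H₁).map ι ≤ Subgroup.normalizer ((U : Subgroup G) : Set G) := by
        intro y hy
        obtain ⟨z, _, rfl⟩ := Subgroup.mem_map.mp hy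
        exact hnorm (z : H) z.2
      have h2 : (P₁ : Subgroup H₁).map ι ⊓ Subgroup.normalizer ((U : Subgroup G) : Set G) =
          (P₁ : Subgroup H₁).map ι ⊓ (U : Subgroup G) := hP'.inf_normalizer_sylow U
      have h3 : ι x ∈ (P₁ : Subgroup H₁).map ι ⊓ Subgroup.normalizer ((U : Subgroup G) : Set G) :=
        ⟨Subgroup.mem_map.mpr ⟨x, hx, rfl⟩, hle' (Subgroup.mem_map.mpr ⟨x, hx, rfl⟩)⟩
      rw [h2] at h3
      exact h3.2
    intro hdvd
    exact P₁.not_dvd_index (hdvd.trans (Subgroup.index_dvd_of_le hle))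
  -- image in Q
  let Pb : Subgroup Q := S₁.map (φ.comp H₁.subtype)
  have hPbp : IsPGroup p Pb := hS₁p.map _
  have hPbn : Pb.Normal := hS₁n.map _ hsurj
  have hPbidx : ¬ p ∣ Pb.index := fun h => hS₁idx (h.trans (S₁.index_map_dvd hsurj))
  refine ⟨hPbp.toSylow hPbidx, ?_⟩
  rw [IsPGroup.toSylow_coe]
  exact hPbn

end Cfsg.Agent.H16QD
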