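import Mathlib
import Cfsg.Prelude.Def_Classical

set_option autoImplicit false

/-!
# Counting vectors of given norm for the standard Hermitian form

`card_herm_succ` : `C(n+1, c) + q C(n, c) = (q+1) q^(2n)` for `c` in the fixed field.
-/

namespace Cfsg.Agent.helper11.HermCount

open Cfsg

variable {F : Type*} [Field F] [Fintype F] {q : ℕ}

theorem exists_char_pow (hF : Fintype.card F = q ^ 2) :
    ∃ (p j : ℕ), p.Prime ∧ CharP F p ∧ q = p ^ j := by
  obtain ⟨p, hp⟩ := CharP.exists F
  have hpp : p.Prime := CharP.char_is_prime F p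
  obtain ⟨n, -, hn⟩ := FiniteField.card F p
  have hdvd : q ∣ p ^ (n : ℕ) := by
    rw [← hn, hF]
    exact dvd_pow_self q (by norm_num)
  obtain ⟨j, -, hj⟩ := (Nat.dvd_prime_pow hpp).mp hdvd
  exact ⟨p, j, hpp, hp, hj⟩

theorem two_le_q (hF : Fintype.card F = q ^ 2) : 2 ≤ q := by
  have h1 : 1 < Fintype.card F := Fintype.one_lt_card
  rw [hF] at h1
  by_contra h
  have : q ≤ 1 := by omega
  have : q ^ 2 ≤ 1 ^ 2 := Nat.pow_le_pow_left this 2
  omega

theorem add_pow_q (hF : Fintype.card F = q ^ 2) (x y : F) : (x + y) ^ q = x ^ q + y ^ q := by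
  obtain ⟨p, j, hp, hc, rfl⟩ := exists_char_pow hF
  have := Fact.mk hp
  exact add_pow_char_pow x y p j

theorem sub_pow_q (hF : Fintype.card F = q ^ 2) (x y : F) : (x - y) ^ q = x ^ q - y ^ q := by
  obtain ⟨p, j, hp, hc, rfl⟩ := exists_char_pow hF
  have := Fact.mk hp
  exact sub_pow_char_pow x y j

theorem sum_pow_q (hF : Fintype.card F = q ^ 2) {ι : Type*} (s : Finset ι) (f : ι → F) :
    (∑ i ∈ s, f i) ^ q = ∑ i ∈ s, f i ^ q := by
  obtain ⟨p, j, hp, hc, rfl⟩ := exists_char_pow hF
  have := Fact.mk hp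
  exact sum_pow_char_pow p j s f

theorem pow_q_q (hF : Fintype.card F = q ^ 2) (x : F) : (x ^ q) ^ q = x := by
  rw [← pow_mul, ← pow_two, ← hF, FiniteField.pow_card]

/-- values of the Hermitian norm are fixed by `x ↦ x ^ q` -/
theorem herm_pow_q (hF : Fintype.card F = q ^ 2) (n : ℕ) (v : Fin n → F) :
    (hermForm n F q v v) ^ q = hermForm n F q v v := by
  unfold hermForm
  rw [sum_pow_q hF]
  apply Finset.sum_congr rfl
  intro i _
  rw [mul_pow, pow_q_q hF, mul_comm]

theorem card_units_F (hF : Fintype.card F = q ^ 2) : Nat.card Fˣ = (q - 1) * (q + 1) := by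
  rw [Nat.card_units, Nat.card_eq_fintype_card, hF]
  have h2 := two_le_q hF
  obtain ⟨k, rfl⟩ : ∃ k, q = k + 1 := ⟨q - 1, by omega⟩
  have : (k + 1) ^ 2 = k * (k + 1 + 1) + 1 := by ring
  rw [this]
  simp

/-- every nonzero element of the fixed field is a norm -/
theorem exists_norm_eq (hF : Fintype.card F = q ^ 2) (d : Fˣ) (hd : d ^ (q - 1) = 1) :
    ∃ u : Fˣ, u ^ (q + 1) = d := by
  have h2 := two_le_q hF
  have hcard := card_units_F hF
  set N : Fˣ →* Fˣ := powMonoidHom (q + 1) with hN
  set K : Subgroup Fˣ := (powMonoidHom (q - 1) : Fˣ →* Fˣ).ker with hK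
  have hle : N.range ≤ K := by
    rintro _ ⟨u, rfl⟩
    rw [hK, MonoidHom.mem_ker, powMonoidHom_apply, hN, powMonoidHom_apply, ← pow_mul,
      mul_comm, ← hcard]
    exact pow_card_eq_one'
  have hKcard : Nat.card K = q - 1 := by
    rw [hK, IsCyclic.card_powMonoidHom_ker, hcard]
    exact Nat.gcd_eq_right (dvd_mul_right _ _)
  have hkercard : Nat.card N.ker = q + 1 := by
    rw [hN, IsCyclic.card_powMonoidHom_ker, hcard]
    exact Nat.gcd_eq_right (dvd_mul_left _ _)
  have hrangecard : Nat.card N.range = q - 1 := by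
    have h1 := Subgroup.card_mul_index N.ker
    rw [Subgroup.index_ker, hkercard, hcard] at h1
    have : (q + 1) * Nat.card N.range = (q + 1) * (q - 1) := by rw [h1]; ring
    exact Nat.eq_of_mul_eq_mul_left (by omega) this
  have heq : N.range = K := Subgroup.eq_of_le_of_card_ge hle (by rw [hKcard, hrangecard])
  have : d ∈ N.range := by
    rw [heq, hK, MonoidHom.mem_ker, powMonoidHom_apply]
    exact hd
  obtain ⟨u, hu⟩ := this
  exact ⟨u, hu⟩

/-- the fibres of the norm map -/
theorem card_norm_fiber [DecidableEq F] (hF : Fintype.card F = q ^ 2) (d : F) (hd : d ^ q = d) :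
    Nat.card {x : F // x * x ^ q = d} = if d = 0 then 1 else q + 1 := by
  have h2 := two_le_q hF
  by_cases hd0 : d = 0
  · rw [if_pos hd0, hd0]
    have : Unique {x : F // x * x ^ q = 0} :=
      { default := ⟨0, by simp⟩
        uniq := by
          rintro ⟨x, hx⟩
          apply Subtype.ext
          rcases mul_eq_zero.mp hx with h | h
          · exact h
          · exact pow_eq_zero_iff (by omega) |>.mp h }
    exact Nat.card_unique
  · rw [if_neg hd0]
    have hdu : (Units.mk0 d hd0) ^ (q - 1) = 1 := by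
      apply Units.ext
      rw [Units.val_pow_eq_pow_val, Units.val_mk0, Units.val_one]
      have : d ^ (q - 1) * d = 1 * d := by
        rw [← pow_succ, Nat.sub_add_cancel (by omega), hd, one_mul]
      exact mul_right_cancel₀ hd0 this
    obtain ⟨u₀, hu₀⟩ := exists_norm_eq hF (Units.mk0 d hd0) hdu
    have hkercard : Nat.card (powMonoidHom (q + 1) : Fˣ →* Fˣ).ker = q + 1 := by
      rw [IsCyclic.card_powMonoidHom_ker, card_units_F hF]
      exact Nat.gcd_eq_right (dvd_mul_left _ _)
    rw [← hkercard]
    have hne : ∀ x : {x : F // x * x ^ q = d}, x.1 ≠ 0 := by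
      rintro ⟨x, hx⟩ h0
      simp only at h0
      rw [h0, zero_mul] at hx
      exact hd0 hx.symm
    apply Nat.card_congr
    refine
      { toFun := fun x => ⟨Units.mk0 x.1 (hne x) * u₀⁻¹, ?_⟩
        invFun := fun k => ⟨((k.1 * u₀ : Fˣ) : F), ?_⟩
        left_inv := ?_
        right_inv := ?_ }
    · rw [MonoidHom.mem_ker, powMonoidHom_apply, mul_pow, inv_pow, hu₀]
      have : (Units.mk0 x.1 (hne x)) ^ (q + 1) = Units.mk0 d hd0 := by
        apply Units.ext
        rw [Units.val_pow_eq_pow_val, Units.val_mk0, Units.val_mk0, pow_succ', x.2]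
      rw [this, mul_inv_cancel]
    · have hk := k.2
      rw [MonoidHom.mem_ker, powMonoidHom_apply] at hk
      rw [← pow_succ', ← Units.val_pow_eq_pow_val, mul_pow, hk, one_mul, hu₀, Units.val_mk0]
    · intro x
      apply Subtype.ext
      simp
    · intro k
      apply Subtype.ext
      apply Units.ext
      simp

theorem herm_succ (n : ℕ) (v : Fin (n + 1) → F) :
    hermForm (n + 1) F q v v = v 0 * v 0 ^ q + hermForm n F q (Fin.tail v) (Fin.tail v) := by
  unfold hermForm
  rw [Fin.sum_univ_succ]
  rfl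

/-- the recurrence for the number of vectors of given Hermitian norm -/
theorem card_herm_succ (hF : Fintype.card F = q ^ 2) (c : F) (hc : c ^ q = c) (n : ℕ) :
    Nat.card {v : Fin (n + 1) → F // hermForm (n + 1) F q v v = c} +
      q * Nat.card {v : Fin n → F // hermForm n F q v v = c} = (q + 1) * q ^ (2 * n) := by
  classical
  have e : {v : Fin (n + 1) → F // hermForm (n + 1) F q v v = c} ≃
      Σ w : Fin n → F, {x : F // x * x ^ q = c - hermForm n F q w w} :=
    { toFun := fun v => ⟨Fin.tail v.1, ⟨v.1 0, by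
        have := v.2
        rw [herm_succ] at this
        exact eq_sub_of_add_eq this⟩⟩
      invFun := fun s => ⟨Fin.cons s.2.1 s.1, by
        rw [herm_succ, Fin.cons_zero, Fin.tail_cons, s.2.2]
        ring⟩
      left_inv := by
        intro v
        apply Subtype.ext
        simp [Fin.cons_self_tail]
      right_inv := by
        rintro ⟨w, x, hx⟩
        apply Sigma.subtype_ext
        · show Fin.tail (Fin.cons x w : Fin (n + 1) → F) = w
          exact Fin.tail_cons _ _
        · show (Fin.cons x w : Fin (n + 1) → F) 0 = x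
          exact Fin.cons_zero _ _ }
  rw [Nat.card_congr e, Nat.card_sigma]
  have hfix : ∀ w : Fin n → F, (c - hermForm n F q w w) ^ q = c - hermForm n F q w w := by
    intro w
    rw [sub_pow_q hF, hc, herm_pow_q hF]
  simp_rw [fun w => card_norm_fiber hF _ (hfix w)]
  rw [Finset.sum_ite, Finset.sum_const, Finset.sum_const, smul_eq_mul, smul_eq_mul, mul_one]
  have h1 : (Finset.univ.filter (fun w : Fin n → F => c - hermForm n F q w w = 0)).card =
      Nat.card {v : Fin n → F // hermForm n F q v v = c} := by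
    rw [Nat.card_eq_fintype_card, Fintype.card_subtype]
    congr 1
    ext w
    simp only [Finset.mem_filter, Finset.mem_univ, true_and]
    rw [sub_eq_zero]
    exact eq_comm
  have h2 : (Finset.univ.filter (fun w : Fin n → F => c - hermForm n F q w w = 0)).card +
      (Finset.univ.filter (fun w : Fin n → F => ¬ (c - hermForm n F q w w = 0))).card =
      q ^ (2 * n) := by
    rw [Finset.card_filter_add_card_filter_not, Finset.card_univ, Fintype.card_fun, hF,
      Fintype.card_fin, ← pow_mul]
  rw [← h1, ← h2]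
  ring

theorem card_herm_zero_dim (c : F) [Decidable (c = 0)] :
    Nat.card {v : Fin 0 → F // hermForm 0 F q v v = c} = if c = 0 then 1 else 0 := by
  by_cases hc : c = 0
  · rw [if_pos hc, hc]
    have : Unique {v : Fin 0 → F // hermForm 0 F q v v = 0} :=
      { default := ⟨0, by simp [hermForm]⟩
        uniq := by
          rintro ⟨v, hv⟩
          apply Subtype.ext
          exact Subsingleton.elim _ _ }
    exact Nat.card_unique
  · rw [if_neg hc]
    have : IsEmpty {v : Fin 0 → F // hermForm 0 F q v v = c} := by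
      constructor
      rintro ⟨v, hv⟩
      apply hc
      rw [← hv]
      simp [hermForm]
    exact Nat.card_of_isEmpty

/-- closed form (times `q`) for the number of isotropic vectors -/
theorem card_herm_isotropic_int (hF : Fintype.card F = q ^ 2) (n : ℕ) :
    (q : ℤ) * (Nat.card {v : Fin n → F // hermForm n F q v v = 0} : ℤ) =
      (q : ℤ) ^ (2 * n) + (-1) ^ n * ((q : ℤ) ^ (n + 1) - (q : ℤ) ^ n) := by
  classical
  induction n with
  | zero =>
    rw [card_herm_zero_dim, if_pos rfl]
    simp
  | succ n ih =>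
    have h := card_herm_succ hF (0 : F) (zero_pow (by have := two_le_q hF; omega)) n
    have hz : ((Nat.card {v : Fin (n + 1) → F // hermForm (n + 1) F q v v = 0} : ℕ) : ℤ) +
        (q : ℤ) * (Nat.card {v : Fin n → F // hermForm n F q v v = 0} : ℤ) =
        ((q : ℤ) + 1) * (q : ℤ) ^ (2 * n) := by
      exact_mod_cast h
    have : ((Nat.card {v : Fin (n + 1) → F // hermForm (n + 1) F q v v = 0} : ℕ) : ℤ) =
        ((q : ℤ) + 1) * (q : ℤ) ^ (2 * n) -
          (q : ℤ) * (Nat.card {v : Fin n → F // hermForm n F q v v = 0} : ℤ) := by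
      linarith
    rw [this, mul_sub, ih]
    ring

/-- closed form (times `q`) for the number of vectors of norm one -/
theorem card_herm_one_int (hF : Fintype.card F = q ^ 2) (n : ℕ) :
    (q : ℤ) * (Nat.card {v : Fin n → F // hermForm n F q v v = 1} : ℤ) =
      (q : ℤ) ^ (2 * n) - (-1) ^ n * (q : ℤ) ^ n := by
  classical
  induction n with
  | zero =>
    rw [card_herm_zero_dim, if_neg one_ne_zero]
    simp
  | succ n ih =>
    have h := card_herm_succ hF (1 : F) (one_pow q) n
    have hz : ((Nat.card {v : Fin (n + 1) → F // hermForm (n + 1) F q v v = 1} : ℕ) : ℤ) +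
        (q : ℤ) * (Nat.card {v : Fin n → F // hermForm n F q v v = 1} : ℤ) =
        ((q : ℤ) + 1) * (q : ℤ) ^ (2 * n) := by
      exact_mod_cast h
    have : ((Nat.card {v : Fin (n + 1) → F // hermForm (n + 1) F q v v = 1} : ℕ) : ℤ) =
        ((q : ℤ) + 1) * (q : ℤ) ^ (2 * n) -
          (q : ℤ) * (Nat.card {v : Fin n → F // hermForm n F q v v = 1} : ℤ) := by
      linarith
    rw [this, mul_sub, ih]
    ring

end Cfsg.Agent.helper11.HermCount
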