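import Mathlib
import Cfsg.Prelude.Def_Classical
import Cfsg.Prelude.Def_LieClassical
import Cfsg.Agent.Lib_helper11_HermCount

set_option autoImplicit false
set_option linter.unusedSectionVars false

/-!
# The general unitary group of the standard Hermitian form

* sesquilinearity lemmas for `hermForm`;
* `mkGU` : a matrix preserving the form is an element of `GU`;
* `exists_map` : `GU` is transitive on vectors of norm one (quasi-reflections);
* `card_GU_succ` : `|GU_{n+1}| = #{norm-one vectors} * |GU_n|`;
* `card_GU` : the order formula.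
-/

namespace Cfsg.Agent.helper11.Unitary

open Cfsg Matrix
open Cfsg.Agent.helper11.HermCount

variable {F : Type*} [Field F] [Fintype F] {q : ℕ}

section form
variable {n : ℕ}

theorem herm_add_left (u u' v : Fin n → F) :
    hermForm n F q (u + u') v = hermForm n F q u v + hermForm n F q u' v := by
  simp [hermForm, add_mul, Finset.sum_add_distrib]

theorem herm_sub_left (u u' v : Fin n → F) :
    hermForm n F q (u - u') v = hermForm n F q u v - hermForm n F q u' v := by
  simp [hermForm, sub_mul, Finset.sum_sub_distrib]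

theorem herm_smul_left (c : F) (u v : Fin n → F) :
    hermForm n F q (c • u) v = c * hermForm n F q u v := by
  simp [hermForm, Finset.mul_sum, mul_assoc]

theorem herm_add_right (hF : Fintype.card F = q ^ 2) (u v v' : Fin n → F) :
    hermForm n F q u (v + v') = hermForm n F q u v + hermForm n F q u v' := by
  simp only [hermForm, Pi.add_apply, add_pow_q hF, mul_add, Finset.sum_add_distrib]

theorem herm_sub_right (hF : Fintype.card F = q ^ 2) (u v v' : Fin n → F) :
    hermForm n F q u (v - v') = hermForm n F q u v - hermForm n F q u v' := by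
  simp only [hermForm, Pi.sub_apply, sub_pow_q hF, mul_sub, Finset.sum_sub_distrib]

theorem herm_smul_right (c : F) (u v : Fin n → F) :
    hermForm n F q u (c • v) = c ^ q * hermForm n F q u v := by
  simp only [hermForm, Pi.smul_apply, smul_eq_mul, mul_pow, Finset.mul_sum]
  apply Finset.sum_congr rfl
  intro i _
  ring

theorem herm_conj (hF : Fintype.card F = q ^ 2) (u v : Fin n → F) :
    (hermForm n F q u v) ^ q = hermForm n F q v u := by
  unfold hermForm
  rw [sum_pow_q hF]
  apply Finset.sum_congr rfl
  intro i _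
  rw [mul_pow, pow_q_q hF, mul_comm]

theorem herm_zero_left (v : Fin n → F) : hermForm n F q 0 v = 0 := by simp [hermForm]

theorem herm_single_right (hq : q ≠ 0) (u : Fin n → F) (j : Fin n) :
    hermForm n F q u (Pi.single j 1) = u j := by
  unfold hermForm
  rw [Finset.sum_eq_single j]
  · simp
  · intro i _ hij
    rw [Pi.single_eq_of_ne hij, zero_pow hq, mul_zero]
  · simp

theorem q_ne_zero (hF : Fintype.card F = q ^ 2) : q ≠ 0 := by
  have := two_le_q hF
  omega

theorem mem_GU_iff (g : Matrix.GeneralLinearGroup (Fin n) F) :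
    g ∈ GU n F q ↔ ∀ u v, hermForm n F q ((g : Matrix (Fin n) (Fin n) F) *ᵥ u)
      ((g : Matrix (Fin n) (Fin n) F) *ᵥ v) = hermForm n F q u v := Iff.rfl

theorem isUnit_of_preserves (hF : Fintype.card F = q ^ 2) (A : Matrix (Fin n) (Fin n) F)
    (hA : ∀ u v, hermForm n F q (A *ᵥ u) (A *ᵥ v) = hermForm n F q u v) : IsUnit A := by
  rw [← Matrix.mulVec_injective_iff_isUnit]
  intro u u' huu
  have h0 : A *ᵥ (u - u') = 0 := by
    rw [Matrix.mulVec_sub]
    exact sub_eq_zero.mpr huu
  have : u - u' = 0 := by
    funext j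
    have := hA (u - u') (Pi.single j 1)
    rw [h0, herm_zero_left, herm_single_right (q_ne_zero hF)] at this
    exact this.symm
  exact sub_eq_zero.mp this

/-- a form-preserving matrix, as an element of `GU` -/
noncomputable def mkGU (hF : Fintype.card F = q ^ 2) (A : Matrix (Fin n) (Fin n) F)
    (hA : ∀ u v, hermForm n F q (A *ᵥ u) (A *ᵥ v) = hermForm n F q u v) : GU n F q :=
  ⟨(isUnit_of_preserves hF A hA).unit, fun u v => hA u v⟩

theorem coe_mkGU (hF : Fintype.card F = q ^ 2) (A : Matrix (Fin n) (Fin n) F)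
    (hA : ∀ u v, hermForm n F q (A *ᵥ u) (A *ᵥ v) = hermForm n F q u v) :
    (((mkGU hF A hA : GU n F q) : Matrix.GeneralLinearGroup (Fin n) F) :
      Matrix (Fin n) (Fin n) F) = A := rfl

/-- quasi-reflection: maps `x` to `y` when both have norm one and `h x y ≠ 1` -/
theorem exists_map_of_ne_one (hF : Fintype.card F = q ^ 2) (x y : Fin n → F)
    (hx : hermForm n F q x x = 1) (hy : hermForm n F q y y = 1)
    (ha : hermForm n F q x y ≠ 1) :
    ∃ g : GU n F q, ((g : Matrix.GeneralLinearGroup (Fin n) F) :
      Matrix (Fin n) (Fin n) F) *ᵥ x = y := by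
  obtain ⟨a, ha_def⟩ : ∃ a, a = hermForm n F q x y := ⟨_, rfl⟩
  rw [← ha_def] at ha
  obtain ⟨w, hw⟩ : ∃ w, w = x - y := ⟨_, rfl⟩
  obtain ⟨c, hc⟩ : ∃ c, c = (1 - a)⁻¹ := ⟨_, rfl⟩
  obtain ⟨A, hAdef⟩ : ∃ A : Matrix (Fin n) (Fin n) F,
    A = 1 - c • Matrix.vecMulVec w (fun j => w j ^ q) := ⟨_, rfl⟩
  have hA_apply : ∀ z, A *ᵥ z = z - (c * hermForm n F q z w) • w := by
    intro z
    rw [hAdef, Matrix.sub_mulVec, Matrix.one_mulVec, Matrix.smul_mulVec, Matrix.vecMulVec_mulVec,
      op_smul_eq_smul, smul_smul]
    congr 3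
    unfold hermForm dotProduct
    apply Finset.sum_congr rfl
    intro j _
    ring
  have h1a : 1 - a ≠ 0 := sub_ne_zero.mpr (Ne.symm ha)
  have hc1 : c * (1 - a) = 1 := by rw [hc]; exact inv_mul_cancel₀ h1a
  have hb : hermForm n F q y x = a ^ q := by rw [ha_def]; exact (herm_conj hF x y).symm
  have hcq : c ^ q * (1 - a ^ q) = 1 := by
    have := congrArg (· ^ q) hc1
    simp only [mul_pow, one_pow] at this
    rw [sub_pow_q hF, one_pow] at this
    exact this
  have hww : hermForm n F q w w = 2 - a - a ^ q := by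
    rw [hw, herm_sub_left, herm_sub_right hF, herm_sub_right hF, hx, hy, hb, ← ha_def]
    ring
  have hxw : hermForm n F q x w = 1 - a := by rw [hw, herm_sub_right hF, hx, ha_def]
  have hpres : ∀ u v, hermForm n F q (A *ᵥ u) (A *ᵥ v) = hermForm n F q u v := by
    intro u v
    rw [hA_apply, hA_apply, herm_sub_left, herm_sub_right hF, herm_sub_right hF,
      herm_smul_right, herm_smul_left, herm_smul_left, herm_smul_right, mul_pow,
      herm_conj hF v w, hww]
    linear_combination (hermForm n F q u w * hermForm n F q w v * c ^ q) * hc1 +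
      (hermForm n F q u w * hermForm n F q w v * c) * hcq
  refine ⟨mkGU hF A hpres, ?_⟩
  rw [coe_mkGU, hA_apply, hxw, hc1, one_smul, hw]
  abel

theorem exists_norm_one_ne_one (hF : Fintype.card F = q ^ 2) : ∃ l : F, l ≠ 1 ∧ l * l ^ q = 1 := by
  classical
  have hcard := card_norm_fiber hF (1 : F) (one_pow q)
  rw [if_neg one_ne_zero] at hcard
  have h2 := two_le_q hF
  have hfin : Finite {x : F // x * x ^ q = 1} := inferInstance
  have hnt : Nontrivial {x : F // x * x ^ q = 1} := by
    rw [← Finite.one_lt_card_iff_nontrivial, hcard]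
    omega
  obtain ⟨⟨l, hl⟩, hne⟩ := exists_ne (⟨1, by simp⟩ : {x : F // x * x ^ q = 1})
  exact ⟨l, fun h => hne (Subtype.ext h), hl⟩

/-- `GU` is transitive on vectors of norm one -/
theorem exists_map (hF : Fintype.card F = q ^ 2) (x y : Fin n → F)
    (hx : hermForm n F q x x = 1) (hy : hermForm n F q y y = 1) :
    ∃ g : GU n F q, ((g : Matrix.GeneralLinearGroup (Fin n) F) :
      Matrix (Fin n) (Fin n) F) *ᵥ x = y := by
  by_cases ha : hermForm n F q x y = 1
  · obtain ⟨l, hl1, hlN⟩ := exists_norm_one_ne_one hF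
    have hlq : l ^ q ≠ 1 := by
      intro h
      rw [h, mul_one] at hlN
      exact hl1 hlN
    have hx' : hermForm n F q (l • x) (l • x) = 1 := by
      rw [herm_smul_left, herm_smul_right, hx, mul_one, hlN]
    obtain ⟨g₁, hg₁⟩ := exists_map_of_ne_one hF x (l • x) hx hx'
      (by rw [herm_smul_right, hx, mul_one]; exact hlq)
    obtain ⟨g₂, hg₂⟩ := exists_map_of_ne_one hF (l • x) y hx' hy
      (by rw [herm_smul_left, ha, mul_one]; exact hl1)
    refine ⟨g₂ * g₁, ?_⟩
    rw [Subgroup.coe_mul, Units.val_mul, ← Matrix.mulVec_mulVec, hg₁, hg₂]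
  · exact exists_map_of_ne_one hF x y hx hy ha

end form

section block

variable {n : ℕ}

/-- block embedding `diag(K, 1)` -/
def blk (K : Matrix (Fin n) (Fin n) F) : Matrix (Fin (n + 1)) (Fin (n + 1)) F :=
  Matrix.of fun i j => Fin.lastCases (motive := fun _ => F)
    (Fin.lastCases (motive := fun _ => F) 1 (fun _ => 0) j)
    (fun i' => Fin.lastCases (motive := fun _ => F) 0 (fun j' => K i' j') j) i

@[simp] theorem blk_last_last (K : Matrix (Fin n) (Fin n) F) :
    blk K (Fin.last n) (Fin.last n) = 1 := by simp [blk]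

@[simp] theorem blk_last_castSucc (K : Matrix (Fin n) (Fin n) F) (j : Fin n) :
    blk K (Fin.last n) j.castSucc = 0 := by simp [blk]

@[simp] theorem blk_castSucc_last (K : Matrix (Fin n) (Fin n) F) (i : Fin n) :
    blk K i.castSucc (Fin.last n) = 0 := by simp [blk]

@[simp] theorem blk_castSucc_castSucc (K : Matrix (Fin n) (Fin n) F) (i j : Fin n) :
    blk K i.castSucc j.castSucc = K i j := by simp [blk]

theorem blk_mulVec_last (K : Matrix (Fin n) (Fin n) F) (v : Fin (n + 1) → F) :
    (blk K *ᵥ v) (Fin.last n) = v (Fin.last n) := by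
  simp [Matrix.mulVec, dotProduct, Fin.sum_univ_castSucc]

theorem blk_mulVec_castSucc (K : Matrix (Fin n) (Fin n) F) (v : Fin (n + 1) → F) (i : Fin n) :
    (blk K *ᵥ v) i.castSucc = (K *ᵥ Fin.init v) i := by
  simp [Matrix.mulVec, dotProduct, Fin.sum_univ_castSucc, Fin.init]

theorem blk_mulVec_init (K : Matrix (Fin n) (Fin n) F) (v : Fin (n + 1) → F) :
    Fin.init (blk K *ᵥ v) = K *ᵥ Fin.init v :=
  funext fun i => blk_mulVec_castSucc K v i

theorem herm_last (u v : Fin (n + 1) → F) :
    hermForm (n + 1) F q u v = hermForm n F q (Fin.init u) (Fin.init v) +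
      u (Fin.last n) * v (Fin.last n) ^ q := by
  unfold hermForm
  rw [Fin.sum_univ_castSucc]
  rfl

theorem blk_preserves (K : Matrix (Fin n) (Fin n) F)
    (hK : ∀ a b, hermForm n F q (K *ᵥ a) (K *ᵥ b) = hermForm n F q a b)
    (u v : Fin (n + 1) → F) :
    hermForm (n + 1) F q (blk K *ᵥ u) (blk K *ᵥ v) = hermForm (n + 1) F q u v := by
  rw [herm_last, herm_last, blk_mulVec_init, blk_mulVec_init, hK, blk_mulVec_last,
    blk_mulVec_last]

end block

section count

theorem card_GU_succ (hF : Fintype.card F = q ^ 2) (n : ℕ) :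
    Nat.card (GU (n + 1) F q) =
      Nat.card {v : Fin (n + 1) → F // hermForm (n + 1) F q v v = 1} * Nat.card (GU n F q) := by
  classical
  have hsmul : ∀ (g : GU (n + 1) F q) (v : Fin (n + 1) → F), g • v =
      ((g : Matrix.GeneralLinearGroup (Fin (n + 1)) F) :
        Matrix (Fin (n + 1)) (Fin (n + 1)) F) *ᵥ v := fun _ _ => rfl
  set e : Fin (n + 1) → F := Pi.single (Fin.last n) 1 with he
  have hq0 := q_ne_zero hF
  have he1 : hermForm (n + 1) F q e e = 1 := by
    rw [he, herm_single_right hq0, Pi.single_eq_same]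
  have horb : ∀ v, v ∈ MulAction.orbit (GU (n + 1) F q) e ↔ hermForm (n + 1) F q v v = 1 := by
    intro v
    rw [MulAction.mem_orbit_iff]
    constructor
    · rintro ⟨g, rfl⟩
      rw [hsmul, (mem_GU_iff _).mp g.2, he1]
    · intro hv
      obtain ⟨g, hg⟩ := exists_map hF e v he1 hv
      exact ⟨g, hg⟩
  have hstab : Nat.card (MulAction.stabilizer (GU (n + 1) F q) e) = Nat.card (GU n F q) := by
    symm
    let f : GU n F q → MulAction.stabilizer (GU (n + 1) F q) e := fun k =>
      ⟨mkGU hF (blk ((k : Matrix.GeneralLinearGroup (Fin n) F) : Matrix (Fin n) (Fin n) F))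
        (blk_preserves _ ((mem_GU_iff _).mp k.2)), by
        rw [MulAction.mem_stabilizer_iff, hsmul, coe_mkGU]
        funext i
        refine Fin.lastCases ?_ (fun i' => ?_) i
        · rw [blk_mulVec_last]
        · rw [blk_mulVec_castSucc]
          have : Fin.init e = 0 := by
            funext j
            simp [Fin.init, he, Fin.castSucc_ne_last]
          rw [this, Matrix.mulVec_zero]
          simp [he, Fin.castSucc_ne_last]⟩
    apply Nat.card_eq_of_bijective f
    constructor
    · intro k k' hkk
      have h1 : blk ((k : Matrix.GeneralLinearGroup (Fin n) F) : Matrix (Fin n) (Fin n) F) =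
          blk ((k' : Matrix.GeneralLinearGroup (Fin n) F) : Matrix (Fin n) (Fin n) F) := by
        have := congrArg (fun s : MulAction.stabilizer (GU (n + 1) F q) e =>
          (((s : GU (n + 1) F q) : Matrix.GeneralLinearGroup (Fin (n + 1)) F) :
            Matrix (Fin (n + 1)) (Fin (n + 1)) F)) hkk
        exact this
      apply Subtype.ext
      apply Units.ext
      ext i j
      have := congrFun (congrFun h1 i.castSucc) j.castSucc
      rwa [blk_castSucc_castSucc, blk_castSucc_castSucc] at this
    · rintro ⟨g, hg⟩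
      rw [MulAction.mem_stabilizer_iff, hsmul] at hg
      set G : Matrix (Fin (n + 1)) (Fin (n + 1)) F :=
        ((g : Matrix.GeneralLinearGroup (Fin (n + 1)) F) :
          Matrix (Fin (n + 1)) (Fin (n + 1)) F) with hG
      have hcol : ∀ i, G i (Fin.last n) = e i := by
        intro i
        have := congrFun hg i
        rw [he, Matrix.mulVec_single_one] at this
        exact this
      have hrow : ∀ j : Fin n, G (Fin.last n) j.castSucc = 0 := by
        intro j
        have h1 := (mem_GU_iff _).mp g.2 (Pi.single j.castSucc 1) e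
        change hermForm (n + 1) F q (G *ᵥ Pi.single j.castSucc 1) (G *ᵥ e) =
          hermForm (n + 1) F q (Pi.single j.castSucc 1) e at h1
        rw [hg, he, herm_single_right hq0, herm_single_right hq0, Matrix.mulVec_single_one] at h1
        rw [Pi.single_eq_of_ne (Fin.castSucc_ne_last j).symm] at h1
        exact h1
      let K : Matrix (Fin n) (Fin n) F := Matrix.of fun i j => G i.castSucc j.castSucc
      have hGK : blk K = G := by
        ext i j
        refine Fin.lastCases ?_ (fun i' => ?_) i <;> refine Fin.lastCases ?_ (fun j' => ?_) j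
        · rw [blk_last_last, hcol, he, Pi.single_eq_same]
        · rw [blk_last_castSucc, hrow]
        · rw [blk_castSucc_last, hcol, he, Pi.single_eq_of_ne (Fin.castSucc_ne_last i')]
        · rw [blk_castSucc_castSucc]
          rfl
      have hK : ∀ a b, hermForm n F q (K *ᵥ a) (K *ᵥ b) = hermForm n F q a b := by
        intro a b
        have h1 := (mem_GU_iff _).mp g.2 (Fin.snoc a 0) (Fin.snoc b 0)
        change hermForm (n + 1) F q (G *ᵥ _) (G *ᵥ _) = _ at h1
        rw [← hGK, herm_last, herm_last, blk_mulVec_init, blk_mulVec_init, blk_mulVec_last,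
          blk_mulVec_last] at h1
        simp only [Fin.init_snoc, Fin.snoc_last, zero_mul, add_zero] at h1
        exact h1
      refine ⟨mkGU hF K hK, ?_⟩
      apply Subtype.ext
      apply Subtype.ext
      apply Units.ext
      exact hGK
  have h1 := Subgroup.card_eq_card_quotient_mul_card_subgroup
    (MulAction.stabilizer (GU (n + 1) F q) e)
  rw [← Nat.card_congr (MulAction.orbitEquivQuotientStabilizer (GU (n + 1) F q) e), hstab] at h1
  rw [h1]
  congr 1
  exact Nat.card_congr (Equiv.subtypeEquivRight horb)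

/-- the number of vectors of norm one -/
theorem card_norm_one (hF : Fintype.card F = q ^ 2) (n : ℕ) :
    Nat.card {v : Fin (n + 1) → F // hermForm (n + 1) F q v v = 1} =
      q ^ n * (if Even n then q ^ (n + 1) + 1 else q ^ (n + 1) - 1) := by
  have h := card_herm_one_int hF (n + 1)
  have h2 := two_le_q hF
  have hq : (q : ℤ) ≠ 0 := by exact_mod_cast (by omega : q ≠ 0)
  have key : (q : ℤ) * (Nat.card {v : Fin (n + 1) → F // hermForm (n + 1) F q v v = 1} : ℤ) =
      (q : ℤ) * ((q ^ n * (if Even n then q ^ (n + 1) + 1 else q ^ (n + 1) - 1) : ℕ) : ℤ) := by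
    rw [h]
    have h1 : 1 ≤ q ^ (n + 1) := Nat.one_le_pow _ _ (by omega)
    split_ifs with hn
    · have hodd : Odd (n + 1) := hn.add_one
      rw [hodd.neg_one_pow]
      push_cast
      ring
    · have heven : Even (n + 1) := by
        rw [Nat.even_add_one]
        exact hn
      rw [heven.neg_one_pow]
      push_cast [Nat.cast_sub h1]
      ring
  exact_mod_cast mul_left_cancel₀ hq key

/-- the order of the general unitary group -/
theorem card_GU (hF : Fintype.card F = q ^ 2) (n : ℕ) :
    Nat.card (GU n F q) = q ^ (n * (n - 1) / 2) *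
      ∏ i ∈ Finset.range n, (if Even i then q ^ (i + 1) + 1 else q ^ (i + 1) - 1) := by
  induction n with
  | zero =>
    have : Subsingleton (GU 0 F q) := by
      constructor
      intro a b
      apply Subtype.ext
      apply Units.ext
      ext i
      exact i.elim0
    simp
  | succ n ih =>
    rw [card_GU_succ hF, card_norm_one hF, ih, Finset.prod_range_succ, Nat.triangle_succ, pow_add]
    ring

end count

end Cfsg.Agent.helper11.Unitary
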