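import Mathlib
import Cfsg.Agent.Lib_helper11_Unitary

set_option autoImplicit false
set_option linter.unusedSectionVars false

/-!
# `SU_n(q)` inside `GU_n(q)`

* `frobQ` : `x ↦ x ^ q` as a ring homomorphism;
* `gram` : `gᵀ * g^(q) = 1` for `g ∈ GU`;
* `det_pow_eq_one` : `det g ^ (q + 1) = 1`;
* `card_GU_eq` : `|GU_n(q)| = (q + 1) |SU_n(q)|` for `n ≥ 1`.
-/

namespace Cfsg.Agent.helper11.Unitary

open Cfsg Matrix
open Cfsg.Agent.helper11.HermCount

variable {F : Type*} [Field F] [Fintype F] {q : ℕ}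

/-- `x ↦ x ^ q` as a ring homomorphism -/
noncomputable def frobQ (hF : Fintype.card F = q ^ 2) : F →+* F where
  toFun x := x ^ q
  map_one' := one_pow q
  map_mul' x y := mul_pow x y q
  map_zero' := zero_pow (q_ne_zero hF)
  map_add' x y := add_pow_q hF x y

theorem frobQ_apply (hF : Fintype.card F = q ^ 2) (x : F) : frobQ hF x = x ^ q := rfl

variable {n : ℕ}

theorem herm_col (A : Matrix (Fin n) (Fin n) F) (i j : Fin n) :
    hermForm n F q (A.col i) (A.col j) = ∑ k, A k i * A k j ^ q := rfl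

/-- the Gram identity -/
theorem gram (hF : Fintype.card F = q ^ 2) (g : Matrix.GeneralLinearGroup (Fin n) F)
    (hg : g ∈ GU n F q) :
    (g : Matrix (Fin n) (Fin n) F)ᵀ * (g : Matrix (Fin n) (Fin n) F).map (frobQ hF) = 1 := by
  ext i j
  have := (mem_GU_iff g).mp hg (Pi.single i 1) (Pi.single j 1)
  rw [Matrix.mulVec_single_one, Matrix.mulVec_single_one, herm_single_right (q_ne_zero hF),
    herm_col] at this
  rw [Matrix.mul_apply, Matrix.one_apply]
  simp only [Matrix.transpose_apply, Matrix.map_apply, frobQ_apply]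
  rw [this]
  by_cases hij : i = j
  · subst hij; simp
  · rw [if_neg hij, Pi.single_eq_of_ne (Ne.symm hij)]

theorem det_mul_det_pow (hF : Fintype.card F = q ^ 2) (g : Matrix.GeneralLinearGroup (Fin n) F)
    (hg : g ∈ GU n F q) :
    (g : Matrix (Fin n) (Fin n) F).det * (g : Matrix (Fin n) (Fin n) F).det ^ q = 1 := by
  have h := congrArg Matrix.det (gram hF g hg)
  rw [Matrix.det_mul, Matrix.det_transpose, Matrix.det_one, ← RingHom.mapMatrix_apply,
    ← RingHom.map_det, frobQ_apply] at h
  exact h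

/-- the diagonal matrix `diag(l, 1, …, 1)` -/
def dg (l : F) : Matrix (Fin (n + 1)) (Fin (n + 1)) F :=
  Matrix.diagonal (Function.update (fun _ => (1 : F)) 0 l)

theorem dg_preserves (l : F) (hl : l * l ^ q = 1) (u v : Fin (n + 1) → F) :
    hermForm (n + 1) F q (dg l *ᵥ u) (dg l *ᵥ v) = hermForm (n + 1) F q u v := by
  unfold hermForm dg
  apply Finset.sum_congr rfl
  intro i _
  rw [Matrix.mulVec_diagonal, Matrix.mulVec_diagonal, mul_pow]
  have : Function.update (fun _ => (1 : F)) 0 l i * Function.update (fun _ => (1 : F)) 0 l i ^ q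
      = 1 := by
    by_cases hi : i = 0
    · subst hi; simpa using hl
    · simp [Function.update_of_ne hi]
  linear_combination (u i * v i ^ q) * this

theorem det_dg (l : F) : (dg l : Matrix (Fin (n + 1)) (Fin (n + 1)) F).det = l := by
  unfold dg
  rw [Matrix.det_diagonal, Fin.prod_univ_succ]
  simp [Function.update_of_ne (Fin.succ_ne_zero _)]

/-- determinant on `GU` -/
noncomputable def detGU (n : ℕ) : GU n F q →* Fˣ :=
  (Matrix.GeneralLinearGroup.det).comp (GU n F q).subtype

theorem detGU_val (g : GU n F q) :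
    ((detGU n g : Fˣ) : F) = ((g : Matrix.GeneralLinearGroup (Fin n) F) :
      Matrix (Fin n) (Fin n) F).det := rfl

theorem range_detGU (hF : Fintype.card F = q ^ 2) :
    (detGU (F := F) (q := q) (n + 1)).range = (powMonoidHom (q + 1) : Fˣ →* Fˣ).ker := by
  ext d
  rw [MonoidHom.mem_range, MonoidHom.mem_ker, powMonoidHom_apply]
  constructor
  · rintro ⟨g, rfl⟩
    apply Units.ext
    rw [Units.val_pow_eq_pow_val, Units.val_one, detGU_val, pow_succ']
    exact det_mul_det_pow hF g.1 g.2
  · intro hd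
    have hl : (d : F) * (d : F) ^ q = 1 := by
      rw [← pow_succ', ← Units.val_pow_eq_pow_val, hd, Units.val_one]
    refine ⟨mkGU hF (dg (d : F)) (dg_preserves _ hl), ?_⟩
    apply Units.ext
    rw [detGU_val, coe_mkGU, det_dg]

theorem card_ker_detGU (n : ℕ) :
    Nat.card (detGU (F := F) (q := q) n).ker = Nat.card (SU n F q) := by
  symm
  let f : SU n F q → (detGU (F := F) (q := q) n).ker := fun s =>
    ⟨⟨Matrix.SpecialLinearGroup.toGL (s : Matrix.SpecialLinearGroup (Fin n) F), s.2⟩, by
      rw [MonoidHom.mem_ker]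
      apply Units.ext
      rw [detGU_val, Units.val_one]
      exact (s : Matrix.SpecialLinearGroup (Fin n) F).2⟩
  apply Nat.card_eq_of_bijective f
  constructor
  · intro s t hst
    apply Subtype.ext
    apply Matrix.SpecialLinearGroup.toGL_injective
    exact congrArg (fun k : (detGU (F := F) (q := q) n).ker =>
      ((k : GU n F q) : Matrix.GeneralLinearGroup (Fin n) F)) hst
  · rintro ⟨⟨g, hg⟩, hk⟩
    rw [MonoidHom.mem_ker] at hk
    have hdet : (g : Matrix (Fin n) (Fin n) F).det = 1 := by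
      have := congrArg Units.val hk
      rwa [detGU_val, Units.val_one] at this
    refine ⟨⟨⟨(g : Matrix (Fin n) (Fin n) F), hdet⟩, hg⟩, ?_⟩
    apply Subtype.ext
    apply Subtype.ext
    apply Units.ext
    rfl

theorem card_norm_ker (hF : Fintype.card F = q ^ 2) :
    Nat.card (powMonoidHom (q + 1) : Fˣ →* Fˣ).ker = q + 1 := by
  rw [IsCyclic.card_powMonoidHom_ker, card_units_F hF]
  exact Nat.gcd_eq_right (dvd_mul_left _ _)

/-- `|GU_n(q)| = (q + 1) |SU_n(q)|` for `n ≥ 1` -/
theorem card_GU_eq (hF : Fintype.card F = q ^ 2) (n : ℕ) :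
    Nat.card (GU (n + 1) F q) = (q + 1) * Nat.card (SU (n + 1) F q) := by
  have h1 := Subgroup.card_mul_index (detGU (F := F) (q := q) (n + 1)).ker
  rw [Subgroup.index_ker, range_detGU hF, card_norm_ker hF, card_ker_detGU] at h1
  rw [← h1, mul_comm]

end Cfsg.Agent.helper11.Unitary
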