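import Mathlib
import Cfsg.Agent.Lib_helper11_Unitary2

set_option autoImplicit false
set_option linter.unusedSectionVars false

/-!
# The centre of `SU_n(q)`

`card_center_SU` : for `n ≥ 3` the centre of `SU_n(q)` has order `gcd(n, q + 1)`.
-/

namespace Cfsg.Agent.helper11.Unitary

open Cfsg Matrix
open Cfsg.Agent.helper11.HermCount

variable {F : Type*} [Field F] [Fintype F] {q n : ℕ}

/-- constructor for elements of `SU` -/
def mkSU (M : Matrix (Fin n) (Fin n) F) (hdet : M.det = 1)
    (hM : ∀ u v, hermForm n F q (M *ᵥ u) (M *ᵥ v) = hermForm n F q u v) : SU n F q :=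
  ⟨⟨M, hdet⟩, fun u v => hM u v⟩

theorem coe_mkSU (M : Matrix (Fin n) (Fin n) F) (hdet : M.det = 1)
    (hM : ∀ u v, hermForm n F q (M *ᵥ u) (M *ᵥ v) = hermForm n F q u v) :
    (((mkSU M hdet hM : SU n F q) : Matrix.SpecialLinearGroup (Fin n) F) :
      Matrix (Fin n) (Fin n) F) = M := rfl

theorem mem_SU_iff (s : Matrix.SpecialLinearGroup (Fin n) F) :
    s ∈ SU n F q ↔ ∀ u v, hermForm n F q ((s : Matrix (Fin n) (Fin n) F) *ᵥ u)
      ((s : Matrix (Fin n) (Fin n) F) *ᵥ v) = hermForm n F q u v := Iff.rfl

theorem diag_preserves (d : Fin n → F) (hd : ∀ j, d j * d j ^ q = 1) (u v : Fin n → F) :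
    hermForm n F q (Matrix.diagonal d *ᵥ u) (Matrix.diagonal d *ᵥ v) = hermForm n F q u v := by
  unfold hermForm
  apply Finset.sum_congr rfl
  intro i _
  rw [Matrix.mulVec_diagonal, Matrix.mulVec_diagonal, mul_pow]
  linear_combination (u i * v i ^ q) * hd i

theorem prod_update_one (a : Fin n) (l : F) :
    ∏ j, Function.update (fun _ => (1 : F)) a l j = l := by
  rw [Finset.prod_eq_single_of_mem a (Finset.mem_univ a)]
  · simp
  · intro j _ hj
    simp [Function.update_of_ne hj]

theorem comm_mat (z : SU n F q) (hz : z ∈ Subgroup.center (SU n F q)) (s : SU n F q) :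
    ((s : Matrix.SpecialLinearGroup (Fin n) F) : Matrix (Fin n) (Fin n) F) *
      ((z : Matrix.SpecialLinearGroup (Fin n) F) : Matrix (Fin n) (Fin n) F) =
    ((z : Matrix.SpecialLinearGroup (Fin n) F) : Matrix (Fin n) (Fin n) F) *
      ((s : Matrix.SpecialLinearGroup (Fin n) F) : Matrix (Fin n) (Fin n) F) := by
  have := Subgroup.mem_center_iff.mp hz s
  exact congrArg (fun t : SU n F q =>
    ((t : Matrix.SpecialLinearGroup (Fin n) F) : Matrix (Fin n) (Fin n) F)) this

/-- off-diagonal entries of central elements vanish -/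
theorem center_offdiag (hF : Fintype.card F = q ^ 2) (hn : 3 ≤ n) (z : SU n F q)
    (hz : z ∈ Subgroup.center (SU n F q)) (a b : Fin n) (hab : a ≠ b) :
    ((z : Matrix.SpecialLinearGroup (Fin n) F) : Matrix (Fin n) (Fin n) F) a b = 0 := by
  classical
  obtain ⟨k, -, hk⟩ := Finset.exists_mem_notMem_of_card_lt_card
    (s := ({a, b} : Finset (Fin n))) (t := Finset.univ) (by
      rw [Finset.card_univ, Fintype.card_fin]
      exact lt_of_le_of_lt (Finset.card_le_two) (by omega))
  have hka : k ≠ a := fun h => hk (by simp [h])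
  have hkb : k ≠ b := fun h => hk (by simp [h])
  obtain ⟨l, hl1, hlN⟩ := exists_norm_one_ne_one hF
  have hmN : l ^ q * (l ^ q) ^ q = 1 := by rw [pow_q_q hF, mul_comm]; exact hlN
  let d : Fin n → F := fun j =>
    Function.update (fun _ => (1 : F)) a l j * Function.update (fun _ => (1 : F)) k (l ^ q) j
  have hd : ∀ j, d j * d j ^ q = 1 := by
    intro j
    by_cases hja : j = a
    · subst hja
      simp only [d, Function.update_self, Function.update_of_ne hka.symm, mul_one]
      exact hlN
    · by_cases hjk : j = k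
      · subst hjk
        simp only [d, Function.update_self, Function.update_of_ne hja, one_mul]
        exact hmN
      · simp [d, Function.update_of_ne hja, Function.update_of_ne hjk]
  have hdet : (Matrix.diagonal d).det = 1 := by
    rw [Matrix.det_diagonal]
    simp only [d]
    rw [Finset.prod_mul_distrib, prod_update_one, prod_update_one]
    exact hlN
  have hc := comm_mat z hz (mkSU (Matrix.diagonal d) hdet (diag_preserves d hd))
  rw [coe_mkSU] at hc
  have h1 := congrFun (congrFun hc a) b
  rw [Matrix.diagonal_mul, Matrix.mul_diagonal] at h1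
  have hda : d a = l := by
    simp [d, Function.update_of_ne hka.symm]
  have hdb : d b = 1 := by
    simp [d, Function.update_of_ne hab.symm, Function.update_of_ne hkb.symm]
  rw [hda, hdb, mul_one] at h1
  have h2 : (l - 1) * ((z : Matrix.SpecialLinearGroup (Fin n) F) :
      Matrix (Fin n) (Fin n) F) a b = 0 := by
    linear_combination h1
  rcases mul_eq_zero.mp h2 with h | h
  · exact absurd (sub_eq_zero.mp h) hl1
  · exact h

/-- diagonal entries of central elements agree -/
theorem center_diag (hF : Fintype.card F = q ^ 2) (hn : 3 ≤ n) (z : SU n F q)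
    (hz : z ∈ Subgroup.center (SU n F q)) (a b : Fin n) (hab : a ≠ b) :
    ((z : Matrix.SpecialLinearGroup (Fin n) F) : Matrix (Fin n) (Fin n) F) a a =
    ((z : Matrix.SpecialLinearGroup (Fin n) F) : Matrix (Fin n) (Fin n) F) b b := by
  classical
  have hq0 := q_ne_zero hF
  have hea : hermForm n F q (Pi.single a 1) (Pi.single a 1) = 1 := by
    rw [herm_single_right hq0, Pi.single_eq_same]
  have heb : hermForm n F q (Pi.single b 1) (Pi.single b 1) = 1 := by
    rw [herm_single_right hq0, Pi.single_eq_same]
  obtain ⟨g, hg⟩ := exists_map hF (Pi.single b 1) (Pi.single a 1) heb hea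
  set G : Matrix (Fin n) (Fin n) F :=
    ((g : Matrix.GeneralLinearGroup (Fin n) F) : Matrix (Fin n) (Fin n) F) with hG
  have hGab : G a b = 1 := by
    have := congrFun hg a
    rw [Matrix.mulVec_single_one, Pi.single_eq_same] at this
    exact this
  have hdetN : G.det * G.det ^ q = 1 := det_mul_det_pow hF g.1 g.2
  have hdet0 : G.det ≠ 0 := by
    intro h
    rw [h, zero_mul] at hdetN
    exact zero_ne_one hdetN
  set ε : F := G.det⁻¹ with hε
  have hεN : ε * ε ^ q = 1 := by
    rw [hε, inv_pow, ← mul_inv, hdetN, inv_one]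
  let d : Fin n → F := Function.update (fun _ => (1 : F)) a ε
  have hd : ∀ j, d j * d j ^ q = 1 := by
    intro j
    by_cases hja : j = a
    · subst hja
      simp only [d, Function.update_self]
      exact hεN
    · simp [d, Function.update_of_ne hja]
  let M : Matrix (Fin n) (Fin n) F := G * Matrix.diagonal d
  have hMdet : M.det = 1 := by
    rw [Matrix.det_mul, Matrix.det_diagonal, prod_update_one, hε]
    exact mul_inv_cancel₀ hdet0
  have hMpres : ∀ u v, hermForm n F q (M *ᵥ u) (M *ᵥ v) = hermForm n F q u v := by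
    intro u v
    rw [← Matrix.mulVec_mulVec, ← Matrix.mulVec_mulVec, (mem_GU_iff _).mp g.2, diag_preserves d hd]
  have hc := comm_mat z hz (mkSU M hMdet hMpres)
  rw [coe_mkSU] at hc
  set Z : Matrix (Fin n) (Fin n) F :=
    ((z : Matrix.SpecialLinearGroup (Fin n) F) : Matrix (Fin n) (Fin n) F) with hZ
  have hZdiag : Z = Matrix.diagonal (fun i => Z i i) := by
    ext i j
    by_cases hij : i = j
    · subst hij; simp
    · rw [Matrix.diagonal_apply_ne _ hij]
      exact center_offdiag hF hn z hz i j hij
  have hMab : M a b = 1 := by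
    show (G * Matrix.diagonal d) a b = 1
    rw [Matrix.mul_diagonal, hGab]
    simp [d, Function.update_of_ne hab.symm]
  have h1 := congrFun (congrFun hc a) b
  rw [hZdiag, Matrix.mul_diagonal, Matrix.diagonal_mul, hMab] at h1
  simp only [one_mul, mul_one] at h1
  exact h1.symm

theorem card_center_SU (hF : Fintype.card F = q ^ 2) (hn : 3 ≤ n) :
    Nat.card (Subgroup.center (SU n F q)) = Nat.gcd n (q + 1) := by
  classical
  have hq0 := q_ne_zero hF
  set d := Nat.gcd n (q + 1) with hd
  have hcount : Nat.card (powMonoidHom d : Fˣ →* Fˣ).ker = d := by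
    rw [IsCyclic.card_powMonoidHom_ker, card_units_F hF]
    apply Nat.gcd_eq_right
    exact dvd_trans (Nat.gcd_dvd_right n (q + 1)) (dvd_mul_left _ _)
  rw [← hcount]
  symm
  let i0 : Fin n := ⟨0, by omega⟩
  have hpow : ∀ c : (powMonoidHom d : Fˣ →* Fˣ).ker, ((c : Fˣ) : F) ^ n = 1 ∧
      ((c : Fˣ) : F) * ((c : Fˣ) : F) ^ q = 1 := by
    intro c
    have hc := c.2
    rw [MonoidHom.mem_ker, powMonoidHom_apply] at hc
    have hc' : ((c : Fˣ) : F) ^ d = 1 := by
      rw [← Units.val_pow_eq_pow_val, hc, Units.val_one]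
    constructor
    · obtain ⟨k, hk⟩ := Nat.gcd_dvd_left n (q + 1)
      rw [hk, pow_mul, ← hd, hc', one_pow]
    · obtain ⟨k, hk⟩ := Nat.gcd_dvd_right n (q + 1)
      rw [← pow_succ', hk, pow_mul, ← hd, hc', one_pow]
  let f : (powMonoidHom d : Fˣ →* Fˣ).ker → Subgroup.center (SU n F q) := fun c =>
    ⟨mkSU (Matrix.diagonal (fun _ => ((c : Fˣ) : F)))
      (by rw [Matrix.det_diagonal, Finset.prod_const, Finset.card_univ, Fintype.card_fin]
          exact (hpow c).1)
      (diag_preserves _ (fun _ => (hpow c).2)), by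
      rw [Subgroup.mem_center_iff]
      intro s
      apply Subtype.ext
      apply Subtype.ext
      show ((s : Matrix.SpecialLinearGroup (Fin n) F) : Matrix (Fin n) (Fin n) F) *
        Matrix.diagonal (fun _ => ((c : Fˣ) : F)) = Matrix.diagonal (fun _ => ((c : Fˣ) : F)) *
        ((s : Matrix.SpecialLinearGroup (Fin n) F) : Matrix (Fin n) (Fin n) F)
      ext a b
      rw [Matrix.mul_diagonal, Matrix.diagonal_mul, mul_comm]⟩
  apply Nat.card_eq_of_bijective f
  constructor
  · intro c c' hcc
    have := congrArg (fun t : Subgroup.center (SU n F q) =>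
      (((t : SU n F q) : Matrix.SpecialLinearGroup (Fin n) F) : Matrix (Fin n) (Fin n) F) i0 i0) hcc
    simp only [f, coe_mkSU, Matrix.diagonal_apply_eq] at this
    exact Subtype.ext (Units.ext this)
  · rintro ⟨z, hz⟩
    set Z : Matrix (Fin n) (Fin n) F :=
      ((z : Matrix.SpecialLinearGroup (Fin n) F) : Matrix (Fin n) (Fin n) F) with hZ
    set c : F := Z i0 i0 with hc
    have hZdiag : Z = Matrix.diagonal (fun _ => c) := by
      ext i j
      by_cases hij : i = j
      · subst hij
        rw [Matrix.diagonal_apply_eq]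
        by_cases hi0 : i = i0
        · rw [hi0]
        · exact center_diag hF hn z hz i i0 hi0
      · rw [Matrix.diagonal_apply_ne _ hij]
        exact center_offdiag hF hn z hz i j hij
    have hcn : c ^ n = 1 := by
      have := (z : Matrix.SpecialLinearGroup (Fin n) F).2
      change Z.det = 1 at this
      rw [hZdiag, Matrix.det_diagonal, Finset.prod_const, Finset.card_univ, Fintype.card_fin] at this
      exact this
    have hcq : c ^ (q + 1) = 1 := by
      have := (mem_SU_iff _).mp z.2 (Pi.single i0 1) (Pi.single i0 1)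
      change hermForm n F q (Z *ᵥ _) (Z *ᵥ _) = _ at this
      have hZe : Z *ᵥ Pi.single i0 1 = c • Pi.single i0 1 := by
        rw [hZdiag]
        ext x
        rw [Matrix.mulVec_diagonal]
        simp
      rw [hZe, herm_smul_left, herm_smul_right, herm_single_right hq0, Pi.single_eq_same,
        mul_one] at this
      rw [pow_succ']
      exact this
    have hc0 : c ≠ 0 := by
      intro h
      rw [h, zero_pow (by omega)] at hcn
      exact zero_ne_one hcn
    have hcd : (Units.mk0 c hc0) ^ d = 1 := by
      apply pow_gcd_eq_one.mpr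
      constructor
      · apply Units.ext
        rw [Units.val_pow_eq_pow_val, Units.val_mk0, hcn, Units.val_one]
      · apply Units.ext
        rw [Units.val_pow_eq_pow_val, Units.val_mk0, hcq, Units.val_one]
    refine ⟨⟨Units.mk0 c hc0, by rw [MonoidHom.mem_ker, powMonoidHom_apply]; exact hcd⟩, ?_⟩
    apply Subtype.ext
    apply Subtype.ext
    apply Subtype.ext
    show Matrix.diagonal (fun _ => c) = Z
    exact hZdiag.symm

end Cfsg.Agent.helper11.Unitary
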