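import Mathlib
import Cfsg.Prelude.Def_Classical
import Cfsg.Agent.Lib_helper11_Unitary3

set_option autoImplicit false

namespace Cfsg.Agent.H16QD

open Cfsg Matrix
open Cfsg.Agent.helper11.Unitary Cfsg.Agent.helper11.HermCount

variable {K : Type*} [Field K] [Fintype K] {q : ℕ}

/-- the functional `x ↦ h(x, v)` -/
def lam (q : ℕ) (v : Fin 3 → K) : (Fin 3 → K) →ₗ[K] K where
  toFun x := hermForm 3 K q x v
  map_add' x y := herm_add_left x y v
  map_smul' c x := by
    simp only [RingHom.id_apply, smul_eq_mul]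
    exact herm_smul_left c x v

theorem lam_apply (v x : Fin 3 → K) : lam q v x = hermForm 3 K q x v := rfl

theorem herm_single_left (hq : q ≠ 0) (v : Fin 3 → K) (i : Fin 3) :
    hermForm 3 K q (Pi.single i 1) v = (v i) ^ q := by
  unfold hermForm
  rw [Finset.sum_eq_single i]
  · simp
  · intro j _ hj
    simp [Pi.single_apply, hj]
  · intro h; exact absurd (Finset.mem_univ i) h

/-- nondegeneracy in the second variable -/
theorem eq_zero_of_herm_right (hq : q ≠ 0) (y : Fin 3 → K)
    (h : ∀ x, hermForm 3 K q x y = 0) : y = 0 := by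
  funext i
  have := h (Pi.single i 1)
  rw [herm_single_left hq] at this
  exact pow_eq_zero_iff hq |>.mp this

theorem exists_lam_ne_zero (hq : q ≠ 0) (v : Fin 3 → K) (hv : v ≠ 0) :
    ∃ z, lam q v z ≠ 0 := by
  by_contra hc
  push Not at hc
  exact hv (eq_zero_of_herm_right hq v hc)

theorem li_three (v w z : Fin 3 → K)
    (h : ∀ a b c : K, a • v + b • w + c • z = 0 → a = 0 ∧ b = 0 ∧ c = 0) :
    LinearIndependent K ![v, w, z] := by
  rw [Fintype.linearIndependent_iff]
  intro g hg
  rw [Fin.sum_univ_three] at hg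
  obtain ⟨h0, h1, h2⟩ := h (g 0) (g 1) (g 2) (by simpa using hg)
  intro i
  fin_cases i
  · exact h0
  · exact h1
  · exact h2

theorem basis_of_three (v w z : Fin 3 → K) (h : LinearIndependent K ![v, w, z]) :
    ∃ B : Module.Basis (Fin 3) K (Fin 3 → K), B 0 = v ∧ B 1 = w ∧ B 2 = z := by
  refine ⟨basisOfLinearIndependentOfCardEqFinrank h (by simp), ?_, ?_, ?_⟩ <;>
    simp [coe_basisOfLinearIndependentOfCardEqFinrank]

theorem coord_two (B : Module.Basis (Fin 3) K (Fin 3 → K)) (l : (Fin 3 → K) →ₗ[K] K)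
    (h0 : l (B 0) = 0) (h1 : l (B 1) = 0) (x : Fin 3 → K) :
    l x = B.repr x 2 * l (B 2) := by
  conv_lhs => rw [← B.sum_repr x]
  rw [map_sum, Fin.sum_univ_three]
  simp [h0, h1]

/-- existence of an adapted basis `(v, w, z)` with `w ∈ ker λ_v`, `λ_v z ≠ 0` -/
theorem exists_adapted_basis (hq : q ≠ 0) (v : Fin 3 → K) (hv : v ≠ 0)
    (hiso : hermForm 3 K q v v = 0) :
    ∃ B : Module.Basis (Fin 3) K (Fin 3 → K), B 0 = v ∧ lam q v (B 1) = 0 ∧ lam q v (B 2) ≠ 0 := by
  obtain ⟨z, hz⟩ := exists_lam_ne_zero hq v hv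
  have hsurj : Function.Surjective (lam q v) := by
    intro c
    refine ⟨(c / lam q v z) • z, ?_⟩
    rw [map_smul, smul_eq_mul, div_mul_cancel₀ _ hz]
  have hrange : LinearMap.range (lam q v) = ⊤ := LinearMap.range_eq_top.mpr hsurj
  have hfr := LinearMap.finrank_range_add_finrank_ker (lam q v)
  rw [hrange, finrank_top, Module.finrank_self, Module.finrank_fin_fun] at hfr
  have hker : 1 < Module.finrank K (LinearMap.ker (lam q v)) := by omega
  have hvmem : v ∈ LinearMap.ker (lam q v) := by
    rw [LinearMap.mem_ker, lam_apply]; exact hiso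
  have hv' : (⟨v, hvmem⟩ : LinearMap.ker (lam q v)) ≠ 0 := by
    intro h
    apply hv
    exact congrArg Subtype.val h
  obtain ⟨y, hy⟩ := exists_linearIndependent_pair_of_one_lt_finrank hker hv'
  have hy' := LinearIndependent.pair_iff.mp hy
  have hymem : lam q v (y : Fin 3 → K) = 0 := LinearMap.mem_ker.mp y.2
  have hli : LinearIndependent K ![v, (y : Fin 3 → K), z] := by
    apply li_three
    intro a b c habc
    have h1 := congrArg (lam q v) habc
    rw [map_add, map_add, map_smul, map_smul, map_smul, map_zero, hymem,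
      show lam q v v = 0 from hiso] at h1
    simp only [smul_eq_mul, mul_zero, zero_add] at h1
    have hc : c = 0 := by
      rcases mul_eq_zero.mp h1 with h | h
      · exact h
      · exact absurd h hz
    subst hc
    rw [zero_smul, add_zero] at habc
    have h2 : a • (⟨v, hvmem⟩ : LinearMap.ker (lam q v)) + b • y = 0 := by
      apply Subtype.ext
      simpa using habc
    obtain ⟨ha, hb⟩ := hy' a b h2
    exact ⟨ha, hb, rfl⟩
  obtain ⟨B, hB0, hB1, hB2⟩ := basis_of_three v (y : Fin 3 → K) z hli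
  exact ⟨B, hB0, by rw [hB1]; exact hymem, by rw [hB2]; exact hz⟩

end Cfsg.Agent.H16QD
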