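import Mathlib
import Cfsg.Agent.H16QD2

set_option autoImplicit false

namespace Cfsg.Agent.H16QD

open Cfsg Matrix
open Cfsg.Agent.helper11.Unitary Cfsg.Agent.helper11.HermCount

variable {K : Type*} [Field K] [Fintype K] {q : ℕ}

theorem strict_upper_cube (a c d : K) :
    (!![0, a, c; 0, 0, d; 0, 0, 0] : Matrix (Fin 3) (Fin 3) K) ^ 3 = 0 := by
  ext i j
  fin_cases i <;> fin_cases j <;>
    simp [pow_succ, Matrix.mul_apply, Fin.sum_univ_three]

/-- an element of `SU₃` fixing a nonzero isotropic vector is unipotent -/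
theorem unipotent_of_fix (hq : q ≠ 0) (M : Matrix (Fin 3) (Fin 3) K) (hdet : M.det = 1)
    (hM : ∀ u w, hermForm 3 K q (M *ᵥ u) (M *ᵥ w) = hermForm 3 K q u w)
    (v : Fin 3 → K) (hv : v ≠ 0) (hiso : hermForm 3 K q v v = 0) (hfix : M *ᵥ v = v) :
    (M - 1) ^ 3 = 0 := by
  classical
  obtain ⟨B, hB0, hB1, hB2⟩ := exists_adapted_basis hq v hv hiso
  let χ : Matrix (Fin 3) (Fin 3) K ≃ₐ[K] Matrix (Fin 3) (Fin 3) K :=
    (Matrix.toLinAlgEquiv' (R := K) (n := Fin 3)).trans (LinearMap.toMatrixAlgEquiv B)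
  have hχ : ∀ (A : Matrix (Fin 3) (Fin 3) K) (i j : Fin 3), χ A i j = B.repr (A *ᵥ B j) i := by
    intro A i j
    show LinearMap.toMatrixAlgEquiv B (Matrix.toLinAlgEquiv' A) i j = _
    rw [LinearMap.toMatrixAlgEquiv_apply, Matrix.toLinAlgEquiv'_apply]
  have hlam : ∀ x, lam q v (M *ᵥ x) = lam q v x := by
    intro x
    rw [lam_apply, lam_apply]
    have := hM x v
    rw [hfix] at this
    exact this
  have hl0 : lam q v (B 0) = 0 := by rw [hB0]; exact hiso
  have hcoord := coord_two B (lam q v) hl0 hB1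
  have hrepr2 : ∀ x, B.repr x 2 = lam q v x / lam q v (B 2) := by
    intro x
    rw [hcoord x, mul_div_assoc, div_self hB2, mul_one]
  -- entries of M' = χ M
  have hMv : M *ᵥ B 0 = B 0 := by rw [hB0]; exact hfix
  have h00 : χ M 0 0 = 1 := by rw [hχ, hMv]; simp
  have h10 : χ M 1 0 = 0 := by rw [hχ, hMv]; simp
  have h20 : χ M 2 0 = 0 := by rw [hχ, hMv]; simp
  have h21 : χ M 2 1 = 0 := by rw [hχ, hrepr2, hlam, hB1, zero_div]
  have h22 : χ M 2 2 = 1 := by rw [hχ, hrepr2, hlam, div_self hB2]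
  have hdet' : (χ M).det = 1 := by
    have h1 : χ M = LinearMap.toMatrix B B (Matrix.toLin' M) := rfl
    rw [h1, LinearMap.det_toMatrix, LinearMap.det_toLin', hdet]
  rw [Matrix.det_fin_three, h00, h10, h20, h21, h22] at hdet'
  have h11 : χ M 1 1 = 1 := by linear_combination hdet'
  have hD : χ (M - 1) = !![0, χ M 0 1, χ M 0 2; 0, 0, χ M 1 2; 0, 0, 0] := by
    rw [map_sub, map_one]
    ext i j
    fin_cases i <;> fin_cases j <;> simp [h00, h10, h20, h21, h22, h11]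
  have h3 : χ ((M - 1) ^ 3) = 0 := by
    rw [map_pow, hD, strict_upper_cube]
  have := χ.injective (h3.trans (map_zero χ).symm)
  exact this

theorem pow_char_eq_one_of_fix {p : ℕ} [Fact p.Prime] [CharP K p] (hp : p ≠ 2) (hq : q ≠ 0)
    (M : Matrix (Fin 3) (Fin 3) K) (hdet : M.det = 1)
    (hM : ∀ u w, hermForm 3 K q (M *ᵥ u) (M *ᵥ w) = hermForm 3 K q u w)
    (v : Fin 3 → K) (hv : v ≠ 0) (hiso : hermForm 3 K q v v = 0) (hfix : M *ᵥ v = v) :
    M ^ p = 1 := by
  have h3 := unipotent_of_fix hq M hdet hM v hv hiso hfix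
  have hp3 : 3 ≤ p := by
    have := (Fact.out : p.Prime).two_le
    omega
  have h1 : (M - 1) ^ p = 0 := by
    obtain ⟨k, rfl⟩ : ∃ k, p = 3 + k := ⟨p - 3, by omega⟩
    rw [pow_add, h3, zero_mul]
  have h2 : (M - 1) ^ p = M ^ p - 1 ^ p := sub_pow_char_of_commute p (Commute.one_right M)
  rw [h1, one_pow] at h2
  exact (sub_eq_zero.mp h2.symm)

end Cfsg.Agent.H16QD
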