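import Mathlib
import Cfsg.Agent.H16QD3

set_option autoImplicit false

namespace Cfsg.Agent.H16QD

open Cfsg Matrix
open Cfsg.Agent.helper11.Unitary Cfsg.Agent.helper11.HermCount

variable {K : Type*} [Field K] [Fintype K] {q : ℕ}

theorem finrank_ker_lam (hq : q ≠ 0) (v : Fin 3 → K) (hv : v ≠ 0) :
    Module.finrank K (LinearMap.ker (lam q v)) = 2 := by
  obtain ⟨z, hz⟩ := exists_lam_ne_zero hq v hv
  have hsurj : Function.Surjective (lam q v) := by
    intro c
    refine ⟨(c / lam q v z) • z, ?_⟩
    rw [map_smul, smul_eq_mul, div_mul_cancel₀ _ hz]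
  have hrange : LinearMap.range (lam q v) = ⊤ := LinearMap.range_eq_top.mpr hsurj
  have hfr := LinearMap.finrank_range_add_finrank_ker (lam q v)
  rw [hrange, finrank_top, Module.finrank_self, Module.finrank_fin_fun] at hfr
  omega

theorem eq_one_of_fix_basis (M : Matrix (Fin 3) (Fin 3) K)
    (B : Module.Basis (Fin 3) K (Fin 3 → K)) (h : ∀ i, M *ᵥ B i = B i) : M = 1 := by
  have h1 : Matrix.toLin' M = LinearMap.id := by
    apply B.ext
    intro i
    rw [Matrix.toLin'_apply, h i]
    rfl
  apply Matrix.toLin'.injective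
  rw [h1, Matrix.toLin'_one]

theorem eq_one_of_fix_two (hK : Fintype.card K = q ^ 2) (M : Matrix (Fin 3) (Fin 3) K)
    (hdet : M.det = 1)
    (hM : ∀ u w, hermForm 3 K q (M *ᵥ u) (M *ᵥ w) = hermForm 3 K q u w)
    (v₁ v₂ : Fin 3 → K) (hiso₁ : hermForm 3 K q v₁ v₁ = 0) (hiso₂ : hermForm 3 K q v₂ v₂ = 0)
    (hli : LinearIndependent K ![v₁, v₂]) (hfix₁ : M *ᵥ v₁ = v₁) (hfix₂ : M *ᵥ v₂ = v₂) :
    M = 1 := by
  classical
  have hq : q ≠ 0 := q_ne_zero hK
  have hv₁ : v₁ ≠ 0 := by simpa using hli.ne_zero 0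
  have hv₂ : v₂ ≠ 0 := by simpa using hli.ne_zero 1
  have hpair := LinearIndependent.pair_iff.mp hli
  have hlam₁ : ∀ x, lam q v₁ (M *ᵥ x) = lam q v₁ x := by
    intro x
    rw [lam_apply, lam_apply]
    have := hM x v₁
    rw [hfix₁] at this
    exact this
  have hlam₂ : ∀ x, lam q v₂ (M *ᵥ x) = lam q v₂ x := by
    intro x
    rw [lam_apply, lam_apply]
    have := hM x v₂
    rw [hfix₂] at this
    exact this
  have h11 : lam q v₁ v₁ = 0 := hiso₁
  have h22 : lam q v₂ v₂ = 0 := hiso₂
  have hconj : lam q v₂ v₁ = (lam q v₁ v₂) ^ q := by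
    rw [lam_apply, lam_apply, herm_conj hK]
  by_cases h12 : lam q v₁ v₂ = 0
  · -- contradiction
    exfalso
    have h21 : lam q v₂ v₁ = 0 := by rw [hconj, h12, zero_pow hq]
    obtain ⟨z, hz⟩ := exists_lam_ne_zero hq v₁ hv₁
    have hli3 : LinearIndependent K ![v₁, v₂, z] := by
      apply li_three
      intro a b c habc
      have h1 := congrArg (lam q v₁) habc
      rw [map_add, map_add, map_smul, map_smul, map_smul, map_zero, h11, h12] at h1
      simp only [smul_eq_mul, mul_zero, zero_add] at h1
      have hc : c = 0 := by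
        rcases mul_eq_zero.mp h1 with h | h
        · exact h
        · exact absurd h hz
      subst hc
      rw [zero_smul, add_zero] at habc
      obtain ⟨ha, hb⟩ := hpair a b habc
      exact ⟨ha, hb, rfl⟩
    obtain ⟨B, hB0, hB1, hB2⟩ := basis_of_three v₁ v₂ z hli3
    have hc1 := coord_two B (lam q v₁) (by rw [hB0]; exact h11) (by rw [hB1]; exact h12)
    have hc2 := coord_two B (lam q v₂) (by rw [hB0]; exact h21) (by rw [hB1]; exact h22)
    rw [hB2] at hc1 hc2
    set c₀ := lam q v₂ z / lam q v₁ z with hc₀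
    have hprop : ∀ x, lam q v₂ x = c₀ * lam q v₁ x := by
      intro x
      rw [hc1 x, hc2 x, hc₀]
      field_simp
    have hy : v₂ - (c₀ ^ q) • v₁ = 0 := by
      apply eq_zero_of_herm_right hq
      intro x
      rw [herm_sub_right hK, herm_smul_right, pow_q_q hK]
      have := hprop x
      rw [lam_apply, lam_apply] at this
      rw [this, sub_self]
    have := hpair (-(c₀ ^ q)) 1 (by rw [neg_smul, one_smul, neg_add_eq_sub]; exact hy)
    exact one_ne_zero this.2
  · -- hyperbolic pair
    have h21 : lam q v₂ v₁ ≠ 0 := by rw [hconj]; exact pow_ne_zero q h12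
    -- a nonzero vector orthogonal to both
    have hd : ∃ d : Fin 3 → K, d ≠ 0 ∧ lam q v₁ d = 0 ∧ lam q v₂ d = 0 := by
      have e1 := finrank_ker_lam hq v₁ hv₁
      have e2 := finrank_ker_lam hq v₂ hv₂
      have e3 := Submodule.finrank_sup_add_finrank_inf_eq (LinearMap.ker (lam q v₁))
        (LinearMap.ker (lam q v₂))
      have e4 : Module.finrank K ↥(LinearMap.ker (lam q v₁) ⊔ LinearMap.ker (lam q v₂)) ≤ 3 := by
        have := Submodule.finrank_le (LinearMap.ker (lam q v₁) ⊔ LinearMap.ker (lam q v₂))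
        rwa [Module.finrank_fin_fun] at this
      have e5 : 0 < Module.finrank K ↥(LinearMap.ker (lam q v₁) ⊓ LinearMap.ker (lam q v₂)) := by
        omega
      obtain ⟨d, hd⟩ := Module.finrank_pos_iff_exists_ne_zero.mp e5
      refine ⟨(d : Fin 3 → K), ?_, ?_, ?_⟩
      · intro h; exact hd (Subtype.ext h)
      · exact LinearMap.mem_ker.mp d.2.1
      · exact LinearMap.mem_ker.mp d.2.2
    obtain ⟨d, hd0, hd1, hd2⟩ := hd
    have hli3 : LinearIndependent K ![v₁, v₂, d] := by
      apply li_three
      intro a b c habc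
      have e1 := congrArg (lam q v₁) habc
      rw [map_add, map_add, map_smul, map_smul, map_smul, map_zero, h11, hd1] at e1
      simp only [smul_eq_mul, mul_zero, zero_add, add_zero] at e1
      have hb : b = 0 := by
        rcases mul_eq_zero.mp e1 with h | h
        · exact h
        · exact absurd h h12
      have e2 := congrArg (lam q v₂) habc
      rw [map_add, map_add, map_smul, map_smul, map_smul, map_zero, h22, hd2] at e2
      simp only [smul_eq_mul, mul_zero, zero_add, add_zero] at e2
      have ha : a = 0 := by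
        rcases mul_eq_zero.mp e2 with h | h
        · exact h
        · exact absurd h h21
      subst ha hb
      rw [zero_smul, zero_smul, zero_add, zero_add] at habc
      rcases smul_eq_zero.mp habc with h | h
      · exact ⟨rfl, rfl, h⟩
      · exact absurd h hd0
    obtain ⟨B, hB0, hB1, hB2⟩ := basis_of_three v₁ v₂ d hli3
    -- M d is a multiple of d
    have hMd : ∃ γ : K, M *ᵥ d = γ • d := by
      refine ⟨B.repr (M *ᵥ d) 2, ?_⟩
      have hsum := B.sum_repr (M *ᵥ d)
      rw [Fin.sum_univ_three, hB0, hB1, hB2] at hsum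
      have e1 := congrArg (lam q v₁) hsum
      rw [map_add, map_add, map_smul, map_smul, map_smul, h11, hd1, hlam₁, hd1] at e1
      simp only [smul_eq_mul, mul_zero, zero_add, add_zero] at e1
      have hb : B.repr (M *ᵥ d) 1 = 0 := by
        rcases mul_eq_zero.mp e1 with h | h
        · exact h
        · exact absurd h h12
      have e2 := congrArg (lam q v₂) hsum
      rw [map_add, map_add, map_smul, map_smul, map_smul, h22, hd2, hlam₂, hd2] at e2
      simp only [smul_eq_mul, mul_zero, zero_add, add_zero] at e2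
      have ha : B.repr (M *ᵥ d) 0 = 0 := by
        rcases mul_eq_zero.mp e2 with h | h
        · exact h
        · exact absurd h h21
      rw [ha, hb, zero_smul, zero_smul, zero_add, zero_add] at hsum
      exact hsum.symm
    obtain ⟨γ, hγ⟩ := hMd
    have h3 := unipotent_of_fix hq M hdet hM v₁ hv₁ hiso₁ hfix₁
    have hN : (M - 1) *ᵥ d = (γ - 1) • d := by
      rw [Matrix.sub_mulVec, Matrix.one_mulVec, hγ, sub_smul, one_smul]
    have hN3 : ((M - 1) ^ 3) *ᵥ d = ((γ - 1) ^ 3) • d := by
      rw [pow_succ, pow_succ, pow_one, ← Matrix.mulVec_mulVec, ← Matrix.mulVec_mulVec, hN,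
        Matrix.mulVec_smul, hN, Matrix.mulVec_smul, Matrix.mulVec_smul, hN]
      rw [smul_smul, smul_smul]
      congr 1
      ring
    rw [h3, Matrix.zero_mulVec] at hN3
    have hγ1 : γ = 1 := by
      rcases smul_eq_zero.mp hN3.symm with h | h
      · have := pow_eq_zero_iff (n := 3) (by norm_num) |>.mp h
        exact sub_eq_zero.mp this
      · exact absurd h hd0
    apply eq_one_of_fix_basis M B
    intro i
    fin_cases i
    · show M *ᵥ B 0 = B 0
      rw [hB0]; exact hfix₁
    · show M *ᵥ B 1 = B 1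
      rw [hB1]; exact hfix₂
    · show M *ᵥ B 2 = B 2
      rw [hB2, hγ, hγ1, one_smul]

end Cfsg.Agent.H16QD
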