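import Mathlib
import Cfsg.Agent.H16QD4

set_option autoImplicit false

namespace Cfsg.Agent.H16QD

open Cfsg Matrix
open Cfsg.Agent.helper11.Unitary Cfsg.Agent.helper11.HermCount

variable {K : Type*} [Field K] [Fintype K] {q : ℕ}

/-- underlying matrix of an element of `SU₃` -/
def mt (g : SU 3 K q) : Matrix (Fin 3) (Fin 3) K :=
  ((g : Matrix.SpecialLinearGroup (Fin 3) K) : Matrix (Fin 3) (Fin 3) K)

theorem mt_mul (a b : SU 3 K q) : mt (a * b) = mt a * mt b := rfl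

theorem mt_one : mt (1 : SU 3 K q) = 1 := rfl

theorem mt_pow (a : SU 3 K q) (k : ℕ) : mt (a ^ k) = mt a ^ k := by
  induction k with
  | zero => rfl
  | succ k ih => rw [pow_succ, pow_succ, mt_mul, ih]

theorem mt_det (a : SU 3 K q) : (mt a).det = 1 := a.1.2

theorem mt_pres (a : SU 3 K q) (u w : Fin 3 → K) :
    hermForm 3 K q (mt a *ᵥ u) (mt a *ᵥ w) = hermForm 3 K q u w := a.2 u w

theorem mt_injective : Function.Injective (mt : SU 3 K q → Matrix (Fin 3) (Fin 3) K) := by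
  intro a b h
  exact Subtype.ext (Subtype.ext h)

theorem mt_inv_mulVec (a : SU 3 K q) (v : Fin 3 → K) : mt a⁻¹ *ᵥ (mt a *ᵥ v) = v := by
  rw [Matrix.mulVec_mulVec, ← mt_mul, inv_mul_cancel, mt_one, Matrix.one_mulVec]

/-- the stabiliser of a vector -/
def stab (q : ℕ) (v : Fin 3 → K) : Subgroup (SU 3 K q) where
  carrier := {g | mt g *ᵥ v = v}
  mul_mem' := by
    intro a b ha hb
    show mt (a * b) *ᵥ v = v
    rw [mt_mul, ← Matrix.mulVec_mulVec, show mt b *ᵥ v = v from hb, show mt a *ᵥ v = v from ha]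
  one_mem' := by
    show mt 1 *ᵥ v = v
    rw [mt_one, Matrix.one_mulVec]
  inv_mem' := by
    intro a ha
    show mt a⁻¹ *ᵥ v = v
    have := mt_inv_mulVec a v
    rwa [show mt a *ᵥ v = v from ha] at this

theorem mem_stab (v : Fin 3 → K) (g : SU 3 K q) : g ∈ stab q v ↔ mt g *ᵥ v = v := Iff.rfl

theorem stab_isPGroup {p : ℕ} [Fact p.Prime] [CharP K p] (hp : p ≠ 2)
    (hK : Fintype.card K = q ^ 2) (v : Fin 3 → K) (hv : v ≠ 0)
    (hiso : hermForm 3 K q v v = 0) : IsPGroup p (stab q v) := by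
  intro g
  refine ⟨1, ?_⟩
  rw [pow_one]
  apply Subtype.ext
  apply mt_injective
  show mt ((g : SU 3 K q) ^ p) = mt 1
  rw [mt_pow, mt_one]
  exact pow_char_eq_one_of_fix hp (q_ne_zero hK) (mt g.1) (mt_det g.1) (mt_pres g.1) v hv hiso g.2

/-- the action on isotropic vectors (including zero) -/
def actIso (K : Type*) [Field K] [Fintype K] (q : ℕ) :
    MulAction (SU 3 K q) {v : Fin 3 → K // hermForm 3 K q v v = 0} where
  smul g v := ⟨mt g *ᵥ v.1, by rw [mt_pres]; exact v.2⟩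
  one_smul v := Subtype.ext (by
    show mt 1 *ᵥ v.1 = v.1
    rw [mt_one, Matrix.one_mulVec])
  mul_smul a b v := Subtype.ext (by
    show mt (a * b) *ᵥ v.1 = mt a *ᵥ (mt b *ᵥ v.1)
    rw [mt_mul, Matrix.mulVec_mulVec])

theorem card_iso_dvd {p : ℕ} (hK : Fintype.card K = q ^ 2) (hpq : p ∣ q) :
    p ∣ Nat.card {v : Fin 3 → K // hermForm 3 K q v v = 0} := by
  have h := card_herm_isotropic_int hK 3
  have hq : (q : ℤ) ≠ 0 := by exact_mod_cast q_ne_zero hK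
  have h2 : (Nat.card {v : Fin 3 → K // hermForm 3 K q v v = 0} : ℤ) =
      (q : ℤ) * ((q : ℤ) ^ 4 - (q : ℤ) ^ 2 + (q : ℤ)) := by
    apply mul_left_cancel₀ hq
    rw [h]
    ring
  have h3 : (p : ℤ) ∣ (Nat.card {v : Fin 3 → K // hermForm 3 K q v v = 0} : ℤ) := by
    rw [h2]
    exact dvd_mul_of_dvd_left (Int.natCast_dvd_natCast.mpr hpq) _
  exact Int.natCast_dvd_natCast.mp h3

theorem exists_fixed_iso {p : ℕ} [Fact p.Prime] (hK : Fintype.card K = q ^ 2) (hpq : p ∣ q)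
    (P : Subgroup (SU 3 K q)) (hP : IsPGroup p P) :
    ∃ v : Fin 3 → K, v ≠ 0 ∧ hermForm 3 K q v v = 0 ∧ ∀ g ∈ P, mt g *ᵥ v = v := by
  letI := actIso K q
  have h0 : (⟨0, by simp [hermForm, q_ne_zero hK]⟩ : {v : Fin 3 → K // hermForm 3 K q v v = 0}) ∈
      MulAction.fixedPoints P {v : Fin 3 → K // hermForm 3 K q v v = 0} := by
    intro g
    apply Subtype.ext
    show mt (g : SU 3 K q) *ᵥ (0 : Fin 3 → K) = 0
    rw [Matrix.mulVec_zero]
  obtain ⟨b, hb, hne⟩ := hP.exists_fixed_point_of_prime_dvd_card_of_fixed_point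
    (α := {v : Fin 3 → K // hermForm 3 K q v v = 0}) (card_iso_dvd hK hpq) h0
  refine ⟨b.1, ?_, b.2, ?_⟩
  · intro h
    apply hne
    apply Subtype.ext
    exact h.symm
  · intro g hg
    have := hb ⟨g, hg⟩
    exact congrArg Subtype.val this

/-- Sylow `p`-subgroups of `SU₃(q)` are TI -/
theorem su_TI {p : ℕ} [Fact p.Prime] [CharP K p] (hp : p ≠ 2)
    (hK : Fintype.card K = q ^ 2) (hpq : p ∣ q) (P₁ P₂ : Sylow p (SU 3 K q))
    (h : (P₁ : Subgroup (SU 3 K q)) ⊓ (P₂ : Subgroup (SU 3 K q)) ≠ ⊥) : P₁ = P₂ := by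
  classical
  obtain ⟨⟨r, hr⟩, hr1⟩ := (Subgroup.ne_bot_iff_exists_ne_one).mp h
  have hr1' : r ≠ 1 := by
    intro hh
    apply hr1
    exact Subtype.ext hh
  obtain ⟨v₁, hv₁, hiso₁, hfix₁⟩ := exists_fixed_iso hK hpq (P₁ : Subgroup (SU 3 K q)) P₁.2
  obtain ⟨v₂, hv₂, hiso₂, hfix₂⟩ := exists_fixed_iso hK hpq (P₂ : Subgroup (SU 3 K q)) P₂.2
  have hnli : ¬ LinearIndependent K ![v₁, v₂] := by
    intro hli
    apply hr1'
    apply mt_injective
    rw [mt_one]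
    exact eq_one_of_fix_two hK (mt r) (mt_det r) (mt_pres r) v₁ v₂ hiso₁ hiso₂ hli
      (hfix₁ r hr.1) (hfix₂ r hr.2)
  rw [LinearIndependent.pair_iff] at hnli
  push Not at hnli
  obtain ⟨s, t, hst, hne⟩ := hnli
  have ht : t ≠ 0 := by
    intro ht0
    subst ht0
    rw [zero_smul, add_zero] at hst
    rcases smul_eq_zero.mp hst with h0 | h0
    · exact hne h0 rfl
    · exact hv₁ h0
  have hv₂eq : v₂ = (-s / t) • v₁ := by
    have : t • v₂ = (-s) • v₁ := by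
      rw [neg_smul]
      exact eq_neg_of_add_eq_zero_right hst
    calc v₂ = (t⁻¹ * t) • v₂ := by rw [inv_mul_cancel₀ ht, one_smul]
      _ = t⁻¹ • (t • v₂) := by rw [mul_smul]
      _ = t⁻¹ • ((-s) • v₁) := by rw [this]
      _ = (-s / t) • v₁ := by rw [smul_smul]; congr 1; field_simp
  have hc : (-s / t) ≠ 0 := by
    intro h0
    rw [h0, zero_smul] at hv₂eq
    exact hv₂ hv₂eq
  have hfix₂' : ∀ g ∈ (P₂ : Subgroup (SU 3 K q)), mt g *ᵥ v₁ = v₁ := by
    intro g hg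
    have := hfix₂ g hg
    rw [hv₂eq, Matrix.mulVec_smul] at this
    exact smul_right_injective _ hc this
  have hpg := stab_isPGroup (p := p) hp hK v₁ hv₁ hiso₁
  have e1 : stab q v₁ = (P₁ : Subgroup (SU 3 K q)) := P₁.3 hpg (fun g hg => hfix₁ g hg)
  have e2 : stab q v₁ = (P₂ : Subgroup (SU 3 K q)) := P₂.3 hpg (fun g hg => hfix₂' g hg)
  exact Sylow.ext (e1.symm.trans e2)

end Cfsg.Agent.H16QD
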