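import Mathlib
import Cfsg.Agent.H16QD5
import Cfsg.Agent.H16QD1

set_option autoImplicit false

namespace Cfsg.Agent.H16QD

open Cfsg Matrix
open Cfsg.Agent.helper11.Unitary Cfsg.Agent.helper11.HermCount

variable {K : Type*} [Field K] [Fintype K] {q : ℕ}

theorem center_coprime {p : ℕ} [Fact p.Prime] (hK : Fintype.card K = q ^ 2) (hpq : p ∣ q) :
    (Nat.card (Subgroup.center (SU 3 K q))).Coprime p := by
  rw [card_center_SU hK (le_refl 3)]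
  rw [Nat.coprime_comm, (Fact.out : p.Prime).coprime_iff_not_dvd]
  intro hdvd
  have h1 : p ∣ q + 1 := hdvd.trans (Nat.gcd_dvd_right 3 (q + 1))
  have h2 : p ∣ 1 := (Nat.dvd_add_right hpq).mp h1
  exact (Fact.out : p.Prime).one_lt.ne' (Nat.dvd_one.mp h2)

/-- Sylow `p`-subgroups of `PSU₃(q)` are TI -/
theorem psu_TI {p : ℕ} [Fact p.Prime] [CharP K p] (hp : p ≠ 2)
    (hK : Fintype.card K = q ^ 2) (hpq : p ∣ q) (P₁ P₂ : Sylow p (PSU 3 K q))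
    (h : (P₁ : Subgroup (PSU 3 K q)) ⊓ (P₂ : Subgroup (PSU 3 K q)) ≠ ⊥) : P₁ = P₂ := by
  classical
  have hπ : Function.Surjective (QuotientGroup.mk' (Subgroup.center (SU 3 K q))) :=
    QuotientGroup.mk'_surjective _
  obtain ⟨Q₁, rfl⟩ := Sylow.mapSurjective_surjective hπ p P₁
  obtain ⟨Q₂, rfl⟩ := Sylow.mapSurjective_surjective hπ p P₂
  obtain ⟨⟨x, hx⟩, hx1⟩ := (Subgroup.ne_bot_iff_exists_ne_one).mp h
  have hx1' : x ≠ 1 := by
    intro hh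
    apply hx1
    exact Subtype.ext hh
  obtain ⟨hxa, hxb⟩ := Subgroup.mem_inf.mp hx
  have hxa' : x ∈ (Q₁ : Subgroup (SU 3 K q)).map
      (QuotientGroup.mk' (Subgroup.center (SU 3 K q))) := hxa
  have hxb' : x ∈ (Q₂ : Subgroup (SU 3 K q)).map
      (QuotientGroup.mk' (Subgroup.center (SU 3 K q))) := hxb
  obtain ⟨u₁, hu₁, hu₁x⟩ := Subgroup.mem_map.mp hxa'
  obtain ⟨u₂, hu₂, hu₂x⟩ := Subgroup.mem_map.mp hxb'
  set m := Nat.card (Subgroup.center (SU 3 K q)) with hm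
  have hcop : m.Coprime p := center_coprime hK hpq
  have hz : u₁⁻¹ * u₂ ∈ Subgroup.center (SU 3 K q) := by
    rw [← QuotientGroup.eq_one_iff, ← QuotientGroup.mk'_apply, map_mul, map_inv, hu₁x, hu₂x,
      inv_mul_cancel]
  have hzm : (u₁⁻¹ * u₂) ^ m = 1 := by
    have h1 : (⟨u₁⁻¹ * u₂, hz⟩ : Subgroup.center (SU 3 K q)) ^ m = 1 := pow_card_eq_one'
    have h2 := congrArg Subtype.val h1
    rwa [SubmonoidClass.coe_pow, OneMemClass.coe_one] at h2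
  have hu₂eq : u₂ = u₁ * (u₁⁻¹ * u₂) := by group
  have hcomm : Commute u₁ (u₁⁻¹ * u₂) := by
    have := Subgroup.mem_center_iff.mp hz u₁
    exact this
  have hpow : u₂ ^ m = u₁ ^ m := by
    conv_lhs => rw [hu₂eq]
    rw [hcomm.mul_pow, hzm, mul_one]
  have hw1 : u₁ ^ m ∈ (Q₁ : Subgroup (SU 3 K q)) := pow_mem hu₁ m
  have hw2 : u₁ ^ m ∈ (Q₂ : Subgroup (SU 3 K q)) := by rw [← hpow]; exact pow_mem hu₂ m
  have hwne : u₁ ^ m ≠ 1 := by
    intro hw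
    apply hx1'
    obtain ⟨k, hk⟩ := (Q₁.2 ⟨u₁, hu₁⟩)
    have hk' : u₁ ^ (p ^ k) = 1 := by
      have := congrArg Subtype.val hk
      simpa using this
    have hd1 : orderOf u₁ ∣ m := orderOf_dvd_of_pow_eq_one hw
    have hd2 : orderOf u₁ ∣ p ^ k := orderOf_dvd_of_pow_eq_one hk'
    have hcop' : m.Coprime (p ^ k) := hcop.pow_right k
    have : orderOf u₁ = 1 := Nat.eq_one_of_dvd_coprimes hcop' hd1 hd2
    rw [orderOf_eq_one_iff] at this
    rw [← hu₁x, this, map_one]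
  have hne : (Q₁ : Subgroup (SU 3 K q)) ⊓ (Q₂ : Subgroup (SU 3 K q)) ≠ ⊥ := by
    intro hbot
    apply hwne
    have : u₁ ^ m ∈ (Q₁ : Subgroup (SU 3 K q)) ⊓ (Q₂ : Subgroup (SU 3 K q)) := ⟨hw1, hw2⟩
    rw [hbot, Subgroup.mem_bot] at this
    exact this
  rw [su_TI hp hK hpq Q₁ Q₂ hne]

end Cfsg.Agent.H16QD
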