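import Cfsg.Statements.S2762
import Mathlib
import Cfsg.Agent.Lib_helper11_SL2U
import Cfsg.Agent.Lib_helper1_Core
-- import your own Cfsg.Agent.* helpers here

set_option autoImplicit false
open Cfsg

namespace Cfsg.Agent.S2762


open Matrix Cfsg.Agent.helper11.SL2U

section Gen
variable {F : Type*} [Field F]

/-- the affine group as an explicit subgroup -/
def Qs (F : Type*) [Field F] : Subgroup (SpecialLinearGroup (Fin 3) F) where
  carrier := {M | (M : Matrix (Fin 3) (Fin 3) F) 2 0 = 0 ∧ (M : Matrix (Fin 3) (Fin 3) F) 2 1 = 0 ∧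
    (M : Matrix (Fin 3) (Fin 3) F) 2 2 = 1}
  mul_mem' := by
    rintro A B ⟨a0, a1, a2⟩ ⟨b0, b1, b2⟩
    refine ⟨?_, ?_, ?_⟩ <;>
    · show ((A * B : SpecialLinearGroup (Fin 3) F) : Matrix (Fin 3) (Fin 3) F) 2 _ = _
      rw [Matrix.SpecialLinearGroup.coe_mul, Matrix.mul_apply, Fin.sum_univ_three, a0, a1, a2]
      simp [b0, b1, b2]
  one_mem' := by
    refine ⟨?_, ?_, ?_⟩ <;> simp
  inv_mem' := by
    rintro A ⟨a0, a1, a2⟩
    have h : (A : Matrix (Fin 3) (Fin 3) F) *
        ((A⁻¹ : SpecialLinearGroup (Fin 3) F) : Matrix (Fin 3) (Fin 3) F) = 1 := by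
      rw [← Matrix.SpecialLinearGroup.coe_mul, mul_inv_cancel, Matrix.SpecialLinearGroup.coe_one]
    have key : ∀ j, ((A⁻¹ : SpecialLinearGroup (Fin 3) F) : Matrix (Fin 3) (Fin 3) F) 2 j =
        (1 : Matrix (Fin 3) (Fin 3) F) 2 j := by
      intro j
      rw [← h, Matrix.mul_apply, Fin.sum_univ_three, a0, a1, a2]
      simp
    refine ⟨?_, ?_, ?_⟩
    · show ((A⁻¹ : SpecialLinearGroup (Fin 3) F) : Matrix (Fin 3) (Fin 3) F) 2 0 = 0
      rw [key]; simp
    · show ((A⁻¹ : SpecialLinearGroup (Fin 3) F) : Matrix (Fin 3) (Fin 3) F) 2 1 = 0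
      rw [key]; simp
    · show ((A⁻¹ : SpecialLinearGroup (Fin 3) F) : Matrix (Fin 3) (Fin 3) F) 2 2 = 1
      rw [key]; simp

theorem qdOver_eq : Cfsg.qdOver F = Qs F := Subgroup.closure_eq (Qs F)

/-- underlying matrix -/
def mat (M : ↥(Cfsg.qdOver F)) : Matrix (Fin 3) (Fin 3) F :=
  ((M : SpecialLinearGroup (Fin 3) F) : Matrix (Fin 3) (Fin 3) F)

theorem mat_mul (M N : ↥(Cfsg.qdOver F)) : mat (M * N) = mat M * mat N := by
  show (((M * N : ↥(Cfsg.qdOver F)) : SpecialLinearGroup (Fin 3) F) : Matrix (Fin 3) (Fin 3) F) = _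
  rw [Subgroup.coe_mul, Matrix.SpecialLinearGroup.coe_mul]; rfl

theorem mat_one : mat (1 : ↥(Cfsg.qdOver F)) = 1 := by
  show (((1 : ↥(Cfsg.qdOver F)) : SpecialLinearGroup (Fin 3) F) : Matrix (Fin 3) (Fin 3) F) = _
  rw [Subgroup.coe_one, Matrix.SpecialLinearGroup.coe_one]

theorem mat_injective : Function.Injective (mat (F := F)) := by
  intro M N h
  exact Subtype.ext (Subtype.ext h)

theorem mat_row (M : ↥(Cfsg.qdOver F)) : mat M 2 0 = 0 ∧ mat M 2 1 = 0 ∧ mat M 2 2 = 1 := by
  have h : (M : SpecialLinearGroup (Fin 3) F) ∈ Qs F := by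
    rw [← qdOver_eq]; exact M.2
  exact h

theorem det_blk (M : ↥(Cfsg.qdOver F)) :
    mat M 0 0 * mat M 1 1 - mat M 0 1 * mat M 1 0 = 1 := by
  have h := (M : SpecialLinearGroup (Fin 3) F).2
  rw [Matrix.det_fin_three] at h
  obtain ⟨h0, h1, h2⟩ := mat_row M
  unfold mat at *
  rw [h0, h1, h2] at h
  linear_combination h

/-- build an element from a matrix -/
def mk3 (A : Matrix (Fin 3) (Fin 3) F) (hdet : A.det = 1)
    (h : A 2 0 = 0 ∧ A 2 1 = 0 ∧ A 2 2 = 1) : ↥(Cfsg.qdOver F) :=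
  ⟨⟨A, hdet⟩, by rw [qdOver_eq]; exact h⟩

theorem mat_mk3 (A : Matrix (Fin 3) (Fin 3) F) (hdet : A.det = 1)
    (h : A 2 0 = 0 ∧ A 2 1 = 0 ∧ A 2 2 = 1) : mat (mk3 A hdet h) = A := rfl

/-- the linear part -/
def blkHom : ↥(Cfsg.qdOver F) →* SpecialLinearGroup (Fin 2) F where
  toFun M := ⟨!![mat M 0 0, mat M 0 1; mat M 1 0, mat M 1 1], by
    rw [Matrix.det_fin_two_of]; exact det_blk M⟩
  map_one' := by
    apply Subtype.ext
    show !![mat (1 : ↥(Cfsg.qdOver F)) 0 0, mat (1 : ↥(Cfsg.qdOver F)) 0 1;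
      mat (1 : ↥(Cfsg.qdOver F)) 1 0, mat (1 : ↥(Cfsg.qdOver F)) 1 1] = 1
    rw [mat_one]
    ext i j
    fin_cases i <;> fin_cases j <;> simp
  map_mul' M N := by
    apply Subtype.ext
    show !![mat (M * N) 0 0, mat (M * N) 0 1; mat (M * N) 1 0, mat (M * N) 1 1] =
      !![mat M 0 0, mat M 0 1; mat M 1 0, mat M 1 1] * !![mat N 0 0, mat N 0 1; mat N 1 0, mat N 1 1]
    obtain ⟨h0, h1, -⟩ := mat_row N
    rw [mat_mul]
    ext i j
    fin_cases i <;> fin_cases j <;>
      simp [Matrix.mul_apply, Fin.sum_univ_three, Fin.sum_univ_two, h0, h1]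

theorem coe_blkHom (M : ↥(Cfsg.qdOver F)) :
    (blkHom M : Matrix (Fin 2) (Fin 2) F) = !![mat M 0 0, mat M 0 1; mat M 1 0, mat M 1 1] := rfl

/-- block-diagonal embedding of `SL₂` -/
def emb : SpecialLinearGroup (Fin 2) F →* ↥(Cfsg.qdOver F) where
  toFun A := mk3 !![(A : Matrix (Fin 2) (Fin 2) F) 0 0, (A : Matrix (Fin 2) (Fin 2) F) 0 1, 0;
      (A : Matrix (Fin 2) (Fin 2) F) 1 0, (A : Matrix (Fin 2) (Fin 2) F) 1 1, 0; 0, 0, 1]
    (by
      have := A.2
      rw [Matrix.det_fin_two] at this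
      rw [Matrix.det_fin_three]
      simp
      linear_combination this)
    (by simp)
  map_one' := by
    apply mat_injective
    rw [mat_mk3, mat_one]
    ext i j
    fin_cases i <;> fin_cases j <;> simp
  map_mul' A B := by
    apply mat_injective
    rw [mat_mul, mat_mk3, mat_mk3, mat_mk3, Matrix.SpecialLinearGroup.coe_mul]
    ext i j
    fin_cases i <;> fin_cases j <;>
      simp [Matrix.mul_apply, Fin.sum_univ_three, Fin.sum_univ_two]

theorem mat_emb (A : SpecialLinearGroup (Fin 2) F) :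
    mat (emb A) = !![(A : Matrix (Fin 2) (Fin 2) F) 0 0, (A : Matrix (Fin 2) (Fin 2) F) 0 1, 0;
      (A : Matrix (Fin 2) (Fin 2) F) 1 0, (A : Matrix (Fin 2) (Fin 2) F) 1 1, 0; 0, 0, 1] := rfl

theorem blkHom_emb (A : SpecialLinearGroup (Fin 2) F) : blkHom (emb A) = A := by
  apply Subtype.ext
  rw [coe_blkHom, mat_emb]
  ext i j
  fin_cases i <;> fin_cases j <;> simp

/-- translations -/
def tr (w : Fin 2 → F) : ↥(Cfsg.qdOver F) :=
  mk3 !![1, 0, w 0; 0, 1, w 1; 0, 0, 1] (by rw [Matrix.det_fin_three]; simp) (by simp)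

theorem mat_tr (w : Fin 2 → F) : mat (tr w) = !![1, 0, w 0; 0, 1, w 1; 0, 0, 1] := rfl

theorem tr_add (v w : Fin 2 → F) : tr (v + w) = tr v * tr w := by
  apply mat_injective
  rw [mat_mul, mat_tr, mat_tr, mat_tr]
  ext i j
  fin_cases i <;> fin_cases j <;>
    simp [Matrix.mul_apply, Fin.sum_univ_three, add_comm]

theorem tr_zero : tr (0 : Fin 2 → F) = 1 := by
  apply mat_injective
  rw [mat_tr, mat_one]
  ext i j
  fin_cases i <;> fin_cases j <;> simp

theorem tr_pow (w : Fin 2 → F) (k : ℕ) : tr w ^ k = tr (k • w) := by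
  induction k with
  | zero => rw [pow_zero, zero_smul, tr_zero]
  | succ k ih => rw [pow_succ, ih, ← tr_add, succ_nsmul]

theorem blkHom_tr (w : Fin 2 → F) : blkHom (tr w) = 1 := by
  apply Subtype.ext
  rw [coe_blkHom, mat_tr, Matrix.SpecialLinearGroup.coe_one]
  ext i j
  fin_cases i <;> fin_cases j <;> simp

theorem decomp (M : ↥(Cfsg.qdOver F)) :
    M = tr ![mat M 0 2, mat M 1 2] * emb (blkHom M) := by
  apply mat_injective
  obtain ⟨h0, h1, h2⟩ := mat_row M
  rw [mat_mul, mat_tr, mat_emb, coe_blkHom]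
  ext i j
  fin_cases i <;> fin_cases j <;>
    simp [Matrix.mul_apply, Fin.sum_univ_three, h0, h1, h2]

theorem mem_ker_iff (M : ↥(Cfsg.qdOver F)) :
    M ∈ (blkHom (F := F)).ker ↔ mat M 0 0 = 1 ∧ mat M 0 1 = 0 ∧ mat M 1 0 = 0 ∧ mat M 1 1 = 1 := by
  rw [MonoidHom.mem_ker]
  constructor
  · intro h
    have h' : (blkHom M : Matrix (Fin 2) (Fin 2) F) = 1 := by rw [h]; rfl
    rw [coe_blkHom] at h'
    refine ⟨?_, ?_, ?_, ?_⟩
    · simpa using congrFun (congrFun h' 0) 0
    · simpa using congrFun (congrFun h' 0) 1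
    · simpa using congrFun (congrFun h' 1) 0
    · simpa using congrFun (congrFun h' 1) 1
  · rintro ⟨h00, h01, h10, h11⟩
    apply Subtype.ext
    rw [coe_blkHom, Matrix.SpecialLinearGroup.coe_one, h00, h01, h10, h11]
    ext i j
    fin_cases i <;> fin_cases j <;> simp

theorem eq_tr_of_mem_ker {M : ↥(Cfsg.qdOver F)} (h : M ∈ (blkHom (F := F)).ker) :
    M = tr ![mat M 0 2, mat M 1 2] := by
  have := decomp M
  rw [MonoidHom.mem_ker.1 h, map_one, mul_one] at this
  exact this

theorem conj_entry (l v w : ↥(Cfsg.qdOver F)) (hl0 : mat l 0 2 = 0) (hl1 : mat l 1 2 = 0)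
    (hv : v ∈ (blkHom (F := F)).ker) (hw : w = l * v * l⁻¹) :
    ![mat w 0 2, mat w 1 2] =
      (blkHom l : Matrix (Fin 2) (Fin 2) F) *ᵥ ![mat v 0 2, mat v 1 2] := by
  have h1 : w * l = l * v := by rw [hw]; group
  have h2 := congrArg mat h1
  rw [mat_mul, mat_mul] at h2
  obtain ⟨-, -, l22⟩ := mat_row l
  obtain ⟨-, -, v22⟩ := mat_row v
  have e0 := congrFun (congrFun h2 0) 2
  have e1 := congrFun (congrFun h2 1) 2
  simp only [Matrix.mul_apply, Fin.sum_univ_three, hl0, hl1, l22, v22, mul_zero, zero_add,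
    mul_one] at e0 e1
  rw [coe_blkHom]
  ext i
  fin_cases i
  · simp [Matrix.mulVec, dotProduct, Fin.sum_univ_two]
    linear_combination e0
  · simp [Matrix.mulVec, dotProduct, Fin.sum_univ_two]
    linear_combination e1

end Gen

section Fin
variable {F : Type*} [Field F] [Fintype F] {p : ℕ} [Fact p.Prime] [CharP F p]

theorem pCore_sl2_eq_bot : Cfsg.pCore p (SpecialLinearGroup (Fin 2) F) = ⊥ := by
  rw [eq_bot_iff]
  intro x hx
  have hU : x ∈ ((USylow p : Sylow p (SpecialLinearGroup (Fin 2) F)) :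
      Subgroup (SpecialLinearGroup (Fin 2) F)) := Cfsg.Agent.helper1.pCore_le_sylow _ hx
  rw [coe_USylow] at hU
  obtain ⟨s, rfl⟩ := exists_of_mem_U hU
  haveI hn : (Cfsg.pCore p (SpecialLinearGroup (Fin 2) F)).Normal :=
    Cfsg.Agent.helper1.pCore_normal p
  obtain ⟨w, hw⟩ : ∃ w : SpecialLinearGroup (Fin 2) F,
      (w : Matrix (Fin 2) (Fin 2) F) = !![0, 1; -1, 0] :=
    ⟨⟨!![0, 1; -1, 0], by simp [Matrix.det_fin_two_of]⟩, rfl⟩
  have hx' := hn.conj_mem _ hx w
  have hU' : w * uS s * w⁻¹ ∈ ((USylow p : Sylow p (SpecialLinearGroup (Fin 2) F)) :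
      Subgroup (SpecialLinearGroup (Fin 2) F)) := Cfsg.Agent.helper1.pCore_le_sylow _ hx'
  rw [coe_USylow] at hU'
  obtain ⟨t, ht⟩ := exists_of_mem_U hU'
  have h1 : w * uS s = uS t * w := by rw [← ht]; group
  have h2 := congrArg (fun A : SpecialLinearGroup (Fin 2) F => (A : Matrix (Fin 2) (Fin 2) F) 1 1) h1
  simp only [Matrix.SpecialLinearGroup.coe_mul, hw, coe_uS] at h2
  simp [Matrix.mul_apply, Fin.sum_univ_two] at h2
  rw [Subgroup.mem_bot, h2, uS_zero]

theorem pCore_eq_ker : Cfsg.pCore p ↥(Cfsg.qdOver F) = (blkHom (F := F)).ker := by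
  apply le_antisymm
  · intro M hM
    rw [MonoidHom.mem_ker]
    have hsurj : Function.Surjective (blkHom (F := F)) := fun A => ⟨emb A, blkHom_emb A⟩
    have h1 : (Cfsg.pCore p ↥(Cfsg.qdOver F)).map blkHom ≤
        Cfsg.pCore p (SpecialLinearGroup (Fin 2) F) := by
      apply Cfsg.Agent.helper1.le_pCore
      · exact Subgroup.Normal.map (Cfsg.Agent.helper1.pCore_normal p) _ hsurj
      · exact (Cfsg.Agent.helper1.pCore_isPGroup p).map _
    have h2 := h1 (Subgroup.mem_map_of_mem _ hM)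
    rw [pCore_sl2_eq_bot] at h2
    exact Subgroup.mem_bot.1 h2
  · apply Cfsg.Agent.helper1.le_pCore (MonoidHom.normal_ker _)
    rintro ⟨M, hM⟩
    refine ⟨1, ?_⟩
    apply Subtype.ext
    show M ^ p ^ 1 = 1
    rw [pow_one, eq_tr_of_mem_ker hM, tr_pow]
    have : (p • ![mat M 0 2, mat M 1 2] : Fin 2 → F) = 0 := by
      ext i
      simp [nsmul_eq_mul, CharP.cast_eq_zero]
    rw [this, tr_zero]

end Fin

/-- Structure of Qd over a finite field F of characteristic p (the affine subgroup of SL₃(F)): its largest normal p-subgroup is the group of translations (matrices with upper-left block the identity), the block-diagonal matrices form a complement isomorphic to SL₂(F), and the translation subgroup is a natural SL₂(F)-module for that complement. -/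
theorem result {F : Type*} [Field F] [Fintype F] {p : ℕ} [Fact p.Prime] [CharP F p] : (∀ M : ↥(Cfsg.qdOver F), M ∈ Cfsg.pCore p ↥(Cfsg.qdOver F) ↔ ((M : Matrix.SpecialLinearGroup (Fin 3) F) : Matrix (Fin 3) (Fin 3) F) 0 0 = 1 ∧ ((M : Matrix.SpecialLinearGroup (Fin 3) F) : Matrix (Fin 3) (Fin 3) F) 0 1 = 0 ∧ ((M : Matrix.SpecialLinearGroup (Fin 3) F) : Matrix (Fin 3) (Fin 3) F) 1 0 = 0 ∧ ((M : Matrix.SpecialLinearGroup (Fin 3) F) : Matrix (Fin 3) (Fin 3) F) 1 1 = 1) ∧ ∃ K : Subgroup ↥(Cfsg.qdOver F), (∀ M : ↥(Cfsg.qdOver F), M ∈ K ↔ ((M : Matrix.SpecialLinearGroup (Fin 3) F) : Matrix (Fin 3) (Fin 3) F) 0 2 = 0 ∧ ((M : Matrix.SpecialLinearGroup (Fin 3) F) : Matrix (Fin 3) (Fin 3) F) 1 2 = 0) ∧ K ⊓ Cfsg.pCore p ↥(Cfsg.qdOver F) = ⊥ ∧ K ⊔ Cfsg.pCore p ↥(Cfsg.qdOver F) = ⊤ ∧ Nonempty (↥K ≃* Matrix.SpecialLinearGroup (Fin 2) F) ∧ Cfsg.IsNaturalSL2Module F (Cfsg.pCore p ↥(Cfsg.qdOver F)) K := by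
  have hcore := pCore_eq_ker (F := F) (p := p)
  refine ⟨?_, ?_⟩
  · intro M
    rw [hcore]
    exact mem_ker_iff M
  · refine ⟨(emb (F := F)).range, ?_, ?_, ?_, ?_, ?_⟩
    · intro M
      constructor
      · rintro ⟨A, rfl⟩
        show mat (emb A) 0 2 = 0 ∧ mat (emb A) 1 2 = 0
        rw [mat_emb]; simp
      · rintro ⟨h0, h1⟩
        refine ⟨blkHom M, ?_⟩
        have hd := decomp M
        have h0' : mat M 0 2 = 0 := h0
        have h1' : mat M 1 2 = 0 := h1
        rw [h0', h1'] at hd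
        have hz : (![0, 0] : Fin 2 → F) = 0 := by
          ext i; fin_cases i <;> simp
        rw [hz, tr_zero, one_mul] at hd
        exact hd.symm
    · rw [hcore, eq_bot_iff]
      rintro M ⟨⟨A, rfl⟩, hk⟩
      have hk' : emb A ∈ (blkHom (F := F)).ker := hk
      rw [MonoidHom.mem_ker, blkHom_emb] at hk'
      rw [hk', map_one]; exact Subgroup.mem_bot.2 rfl
    · rw [hcore, eq_top_iff]
      intro M _
      rw [decomp M, sup_comm]
      exact Subgroup.mul_mem_sup (MonoidHom.mem_ker.2 (blkHom_tr _)) ⟨blkHom M, rfl⟩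
    · have hinj : Function.Injective (emb (F := F)) := by
        intro A B h
        rw [← blkHom_emb A, ← blkHom_emb B, h]
      exact ⟨(MonoidHom.ofInjective hinj).symm⟩
    · rw [hcore]
      haveI hkn : ((blkHom (F := F)).ker).Normal := MonoidHom.normal_ker _
      refine ⟨?_, ?_⟩
      · rw [Subgroup.normalizer_eq_top]; exact le_top
      · have hKmem : ∀ k : ↥((emb (F := F)).range),
            mat (k : ↥(Cfsg.qdOver F)) 0 2 = 0 ∧ mat (k : ↥(Cfsg.qdOver F)) 1 2 = 0 := by
          rintro ⟨_, A, rfl⟩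
          rw [mat_emb]; simp
        have hvec_inj : ∀ v w : ↥((blkHom (F := F)).ker),
            ![mat (v : ↥(Cfsg.qdOver F)) 0 2, mat (v : ↥(Cfsg.qdOver F)) 1 2] =
              ![mat (w : ↥(Cfsg.qdOver F)) 0 2, mat (w : ↥(Cfsg.qdOver F)) 1 2] → v = w := by
          intro v w h
          apply Subtype.ext
          rw [eq_tr_of_mem_ker v.2, eq_tr_of_mem_ker w.2, h]
        let ψ : Additive ↥((blkHom (F := F)).ker) ≃+ (Fin 2 → F) :=
          { toFun := fun v => ![mat ((Additive.toMul v : ↥((blkHom (F := F)).ker)) :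
                ↥(Cfsg.qdOver F)) 0 2,
              mat ((Additive.toMul v : ↥((blkHom (F := F)).ker)) : ↥(Cfsg.qdOver F)) 1 2]
            invFun := fun w => Additive.ofMul ⟨tr w, MonoidHom.mem_ker.2 (blkHom_tr w)⟩
            left_inv := by
              intro v
              apply Additive.toMul.injective
              apply hvec_inj
              show ![mat (tr _) 0 2, mat (tr _) 1 2] = _
              rw [mat_tr]; simp
            right_inv := by
              intro w
              show ![mat (tr w) 0 2, mat (tr w) 1 2] = w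
              rw [mat_tr]
              ext i; fin_cases i <;> simp
            map_add' := by
              intro v w
              show ![mat (((Additive.toMul v * Additive.toMul w :
                  ↥((blkHom (F := F)).ker)) : ↥(Cfsg.qdOver F))) 0 2,
                mat (((Additive.toMul v * Additive.toMul w :
                  ↥((blkHom (F := F)).ker)) : ↥(Cfsg.qdOver F))) 1 2] = _ + _
              rw [Subgroup.coe_mul]
              conv_lhs => rw [eq_tr_of_mem_ker (Additive.toMul v).2,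
                eq_tr_of_mem_ker (Additive.toMul w).2, ← tr_add, mat_tr]
              ext i; fin_cases i <;> simp }
        refine ⟨(blkHom (F := F)).comp (Subgroup.subtype _), ψ, ?_, ?_, ?_⟩
        · intro A
          exact ⟨⟨emb A, A, rfl⟩, blkHom_emb A⟩
        · -- both sides trivial
          have hker : ((blkHom (F := F)).comp (Subgroup.subtype (emb (F := F)).range)).ker = ⊥ := by
            rw [eq_bot_iff]
            rintro ⟨_, A, rfl⟩ hk
            rw [MonoidHom.mem_ker] at hk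
            have hk' : blkHom (emb A) = 1 := hk
            rw [blkHom_emb] at hk'
            rw [Subgroup.mem_bot]
            apply Subtype.ext
            show emb A = 1
            rw [hk', map_one]
          rw [hker, eq_comm, eq_bot_iff]
          rintro ⟨_, A, rfl⟩ hc
          rw [Subgroup.mem_subgroupOf, Subgroup.mem_centralizer_iff] at hc
          rw [Subgroup.mem_bot]
          apply Subtype.ext
          show emb A = 1
          have key : ∀ w : Fin 2 → F, (A : Matrix (Fin 2) (Fin 2) F) *ᵥ w = w := by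
            intro w
            have hcw := hc (tr w) (MonoidHom.mem_ker.2 (blkHom_tr w))
            have hconj : tr w = emb A * tr w * (emb A)⁻¹ := by
              calc tr w = (tr w * emb A) * (emb A)⁻¹ := by group
                _ = emb A * tr w * (emb A)⁻¹ := by rw [hcw]
            have := conj_entry (emb A) (tr w) (tr w) (by rw [mat_emb]; simp)
              (by rw [mat_emb]; simp) (MonoidHom.mem_ker.2 (blkHom_tr w)) hconj
            rw [blkHom_emb, mat_tr] at this
            have e : (![(!![1, 0, w 0; 0, 1, w 1; 0, 0, 1] : Matrix (Fin 3) (Fin 3) F) 0 2,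
                (!![1, 0, w 0; 0, 1, w 1; 0, 0, 1] : Matrix (Fin 3) (Fin 3) F) 1 2] : Fin 2 → F)
                = w := by
              ext i; fin_cases i <;> simp
            rw [e] at this
            exact this.symm
          have hA : A = 1 := by
            apply Subtype.ext
            rw [Matrix.SpecialLinearGroup.coe_one]
            ext i j
            have := congrFun (key (Pi.single j 1)) i
            rw [Matrix.mulVec_single_one] at this
            simpa [Matrix.one_apply, Pi.single_apply, eq_comm] using this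
          rw [hA, map_one]
        · intro l v
          refine ⟨⟨(l : ↥(Cfsg.qdOver F)) * (v : ↥(Cfsg.qdOver F)) * (l : ↥(Cfsg.qdOver F))⁻¹,
            hkn.conj_mem _ v.2 _⟩, rfl, ?_⟩
          exact conj_entry (l : ↥(Cfsg.qdOver F)) (v : ↥(Cfsg.qdOver F)) _ (hKmem l).1 (hKmem l).2
            v.2 rfl

end Cfsg.Agent.S2762
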