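import Mathlib
import Cfsg.Agent.S2762

set_option autoImplicit false

namespace Cfsg.Agent.H16QD

open Cfsg Matrix
open Cfsg.Agent.S2762
open Cfsg.Agent.helper11.SL2U

variable {p : ℕ} [hp : Fact p.Prime]

theorem qd_tr_ne_one : tr (![1, 0] : Fin 2 → ZMod p) ≠ 1 := by
  intro h
  have h1 := congrArg (fun M => mat M 0 2) h
  simp only [mat_tr, mat_one] at h1
  simp at h1

theorem qd_pcore_ne_bot : Cfsg.pCore p ↥(Cfsg.qdOver (ZMod p)) ≠ ⊥ := by
  rw [pCore_eq_ker]
  intro h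
  have h1 : tr (![1, 0] : Fin 2 → ZMod p) ∈ (blkHom (F := ZMod p)).ker :=
    MonoidHom.mem_ker.mpr (blkHom_tr _)
  rw [h, Subgroup.mem_bot] at h1
  exact qd_tr_ne_one h1

theorem uS_one_pow : (uS (1 : ZMod p)) ^ p = 1 := by
  have h1 : uS (1 : ZMod p) = uHom (Multiplicative.ofAdd (1 : ZMod p)) := rfl
  rw [h1, ← map_pow, ← ofAdd_nsmul]
  have : (p • (1 : ZMod p)) = 0 := by
    rw [nsmul_eq_mul, mul_one]
    exact ZMod.natCast_self p
  rw [this, ofAdd_zero, map_one]

theorem uS_one_ne : uS (1 : ZMod p) ≠ 1 := by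
  intro h
  rw [← uS_zero] at h
  have := uS_injective h
  exact one_ne_zero this

theorem qd_no_normal_sylow (P : Sylow p ↥(Cfsg.qdOver (ZMod p))) :
    ¬ (P : Subgroup ↥(Cfsg.qdOver (ZMod p))).Normal := by
  intro hN
  have hle : (P : Subgroup ↥(Cfsg.qdOver (ZMod p))) ≤ (blkHom (F := ZMod p)).ker := by
    rw [← pCore_eq_ker (p := p)]
    exact Cfsg.Agent.helper1.le_pCore hN P.2
  set g : ↥(Cfsg.qdOver (ZMod p)) := emb (uS (1 : ZMod p)) with hg
  have hgp : g ^ p = 1 := by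
    rw [hg, ← map_pow, uS_one_pow, map_one]
  have hgne : g ≠ 1 := by
    intro h
    have := congrArg (blkHom (F := ZMod p)) h
    rw [hg, blkHom_emb, map_one] at this
    exact uS_one_ne this
  have hord : orderOf g = p := orderOf_eq_prime hgp hgne
  have hz : IsPGroup p (Subgroup.zpowers g) := by
    apply IsPGroup.of_card (n := 1)
    rw [Nat.card_zpowers, hord, pow_one]
  obtain ⟨P', hP'⟩ := hz.exists_le_sylow
  haveI : Subsingleton (Sylow p ↥(Cfsg.qdOver (ZMod p))) :=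
    (Sylow.unique_of_normal P hN).instSubsingleton
  have hPP : P' = P := Subsingleton.elim _ _
  have hgP : g ∈ (P : Subgroup ↥(Cfsg.qdOver (ZMod p))) := by
    rw [← hPP]
    exact hP' (Subgroup.mem_zpowers g)
  have := hle hgP
  rw [MonoidHom.mem_ker, hg, blkHom_emb] at this
  exact uS_one_ne this

end Cfsg.Agent.H16QD
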