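import Mathlib

set_option autoImplicit false

namespace Cfsg.Agent.H16RK

variable {X : Type*} [Group X]

/-- The conjugate `g⁻¹ A g`. -/
def cjr (A : Subgroup X) (g : X) : Subgroup X := A.comap (MulAut.conj g).toMonoidHom

lemma mem_cjr {A : Subgroup X} {g x : X} : x ∈ cjr A g ↔ g * x * g⁻¹ ∈ A := by
  simp [cjr, Subgroup.mem_comap]

lemma cjr_one (A : Subgroup X) : cjr A 1 = A := by
  ext x; simp [mem_cjr]

lemma cjr_mul (A : Subgroup X) (g h : X) : cjr (cjr A g) h = cjr A (g * h) := by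
  ext x
  simp only [mem_cjr]
  rw [show g * (h * x * h⁻¹) * g⁻¹ = g * h * x * (g * h)⁻¹ by group]

lemma cjr_mem {A : Subgroup X} {a : X} (ha : a ∈ A) : cjr A a = A := by
  ext x
  rw [mem_cjr]
  constructor
  · intro h
    have := A.mul_mem (A.mul_mem (A.inv_mem ha) h) ha
    simpa [mul_assoc] using this
  · intro h
    exact A.mul_mem (A.mul_mem ha h) (A.inv_mem ha)

/-- Special rank one pair with abelian unipotent subgroups. -/
structure SR (A B : Subgroup X) : Prop where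
  ne : A ≠ B
  cA : ∀ x ∈ A, ∀ y ∈ A, x * y = y * x
  cB : ∀ x ∈ B, ∀ y ∈ B, x * y = y * x
  cl : ∀ a ∈ A, a ≠ 1 → ∃ b ∈ B, b ≠ 1 ∧ cjr A b = cjr B a
  cr : ∀ b ∈ B, b ≠ 1 → ∃ a ∈ A, a ≠ 1 ∧ cjr B a = cjr A b
  sp : ∀ a ∈ A, a ≠ 1 → ∀ b ∈ B, b ≠ 1 → cjr A b = cjr B a → b⁻¹ * a * b = a⁻¹ * b⁻¹ * a

/-- `b = b(a)`. -/
def R (A B : Subgroup X) (a b : X) : Prop :=
  a ∈ A ∧ b ∈ B ∧ a ≠ 1 ∧ b ≠ 1 ∧ cjr A b = cjr B a

variable {A B : Subgroup X}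

lemma SR.normA_trivial (h : SR A B) {a : X} (ha : a ∈ A) (hB : cjr B a = B) : a = 1 := by
  by_contra hne
  obtain ⟨b, hb, _, hab⟩ := h.cl a ha hne
  apply h.ne
  have : cjr (cjr A b) b⁻¹ = cjr (cjr B a) b⁻¹ := by rw [hab]
  rw [cjr_mul, mul_inv_cancel, cjr_one, hB, cjr_mem (B.inv_mem hb)] at this
  exact this

lemma SR.normB_trivial (h : SR A B) {b : X} (hb : b ∈ B) (hA : cjr A b = A) : b = 1 := by
  by_contra hne
  obtain ⟨a, ha, _, hab⟩ := h.cr b hb hne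
  apply h.ne
  have : cjr (cjr B a) a⁻¹ = cjr (cjr A b) a⁻¹ := by rw [hab]
  rw [cjr_mul, mul_inv_cancel, cjr_one, hA, cjr_mem (A.inv_mem ha)] at this
  exact this.symm

lemma SR.injA (h : SR A B) {a a' : X} (ha : a ∈ A) (ha' : a' ∈ A)
    (he : cjr B a = cjr B a') : a = a' := by
  have h1 : cjr B (a * a'⁻¹) = B := by
    rw [← cjr_mul, he, cjr_mul, mul_inv_cancel, cjr_one]
  have := h.normA_trivial (A.mul_mem ha (A.inv_mem ha')) h1
  exact mul_inv_eq_one.mp this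

lemma SR.injB (h : SR A B) {b b' : X} (hb : b ∈ B) (hb' : b' ∈ B)
    (he : cjr A b = cjr A b') : b = b' := by
  have h1 : cjr A (b * b'⁻¹) = A := by
    rw [← cjr_mul, he, cjr_mul, mul_inv_cancel, cjr_one]
  have := h.normB_trivial (B.mul_mem hb (B.inv_mem hb')) h1
  exact mul_inv_eq_one.mp this

lemma SR.inter (h : SR A B) {c : X} (hA : c ∈ A) (hB : c ∈ B) : c = 1 :=
  h.normB_trivial hB (cjr_mem hA)

lemma SR.braid (h : SR A B) {a b : X} (hR : R A B a b) :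
    a * b⁻¹ * a = b⁻¹ * a * b⁻¹ := by
  obtain ⟨ha, hb, ha1, hb1, hab⟩ := hR
  have hsp := h.sp a ha ha1 b hb hb1 hab
  calc a * b⁻¹ * a = a * (b⁻¹ * a * b) * b⁻¹ := by group
    _ = a * (a⁻¹ * b⁻¹ * a) * b⁻¹ := by rw [hsp]
    _ = b⁻¹ * a * b⁻¹ := by group

lemma SR.a_n (h : SR A B) {a b : X} (hR : R A B a b) :
    a * (a * b⁻¹ * a) = (a * b⁻¹ * a) * b⁻¹ := by
  have hbr := h.braid hR
  calc a * (a * b⁻¹ * a) = a * (b⁻¹ * a * b⁻¹) := by rw [hbr]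
    _ = (a * b⁻¹ * a) * b⁻¹ := by group

lemma SR.b_n (h : SR A B) {a b : X} (hR : R A B a b) :
    b⁻¹ * (a * b⁻¹ * a) = (a * b⁻¹ * a) * a := by
  have hbr := h.braid hR
  calc b⁻¹ * (a * b⁻¹ * a) = (b⁻¹ * a * b⁻¹) * a := by group
    _ = (a * b⁻¹ * a) * a := by rw [hbr]

lemma SR.cjrB_n (h : SR A B) {a b : X} (hR : R A B a b) :
    cjr B (a * b⁻¹ * a) = A := by
  have hbr := h.braid hR
  obtain ⟨ha, hb, ha1, hb1, hab⟩ := hR
  rw [hbr, ← cjr_mul, ← cjr_mul, cjr_mem (B.inv_mem hb), ← hab, cjr_mul, mul_inv_cancel, cjr_one]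

lemma SR.inv (h : SR A B) {a b : X} (hR : R A B a b) : R A B a⁻¹ b⁻¹ := by
  have han := h.a_n hR
  obtain ⟨ha, hb, ha1, hb1, hab⟩ := hR
  have hb1' : b⁻¹ ≠ 1 := by simpa using hb1
  obtain ⟨a', ha', ha'1, hab'⟩ := h.cr b⁻¹ (B.inv_mem hb) hb1'
  -- A^n = B^(a' a)
  have hAn : cjr A (a * b⁻¹ * a) = cjr B (a' * a) := by
    rw [← cjr_mul, ← cjr_mul, cjr_mem ha, ← hab', cjr_mul]
  have hbmem : b⁻¹ ∈ cjr A (a * b⁻¹ * a) := by
    rw [mem_cjr]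
    have : (a * b⁻¹ * a) * b⁻¹ * (a * b⁻¹ * a)⁻¹ = a := by
      rw [← han]; group
    rw [this]; exact ha
  have haa : a' * a = 1 := by
    by_contra hne
    obtain ⟨b'', hb'', _, hab''⟩ := h.cl (a' * a) (A.mul_mem ha' ha) hne
    rw [hAn, ← hab'', mem_cjr] at hbmem
    have hcomm : b'' * b⁻¹ * b''⁻¹ = b⁻¹ := by
      rw [h.cB b'' hb'' b⁻¹ (B.inv_mem hb)]; group
    rw [hcomm] at hbmem
    exact hb1' (h.inter hbmem (B.inv_mem hb))
  have ha'eq : a' = a⁻¹ := eq_inv_of_mul_eq_one_left haa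
  refine ⟨A.inv_mem ha, B.inv_mem hb, by simpa using ha1, hb1', ?_⟩
  rw [← ha'eq, hab']

lemma SR.cjrA_n (h : SR A B) {a b : X} (hR : R A B a b) :
    cjr A (a * b⁻¹ * a) = B := by
  have hinv := h.inv hR
  obtain ⟨ha, hb, ha1, hb1, hab⟩ := hR
  obtain ⟨_, _, _, _, hab'⟩ := hinv
  rw [← cjr_mul, ← cjr_mul, cjr_mem ha, hab', cjr_mul, inv_mul_cancel, cjr_one]

lemma SR.transfer (h : SR A B) {a b : X} (hR : R A B a b) (k : ℕ) :
    a ^ k = 1 ↔ b ^ k = 1 := by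
  have han := h.a_n hR
  set n := a * b⁻¹ * a with hn
  have h1 : b⁻¹ = n⁻¹ * a * (n⁻¹)⁻¹ := by
    rw [inv_inv, mul_assoc, han]; group
  have h2 : (b⁻¹) ^ k = n⁻¹ * a ^ k * (n⁻¹)⁻¹ := by
    rw [h1, conj_pow]
  constructor
  · intro hk
    rw [hk] at h2
    have : (b⁻¹) ^ k = 1 := by rw [h2]; group
    rwa [inv_pow, inv_eq_one] at this
  · intro hk
    rw [inv_pow, hk, inv_one] at h2
    have : a ^ k = n * 1 * n⁻¹ := by rw [h2]; group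
    rw [this]; group

end Cfsg.Agent.H16RK
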