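import Mathlib
import Cfsg.Agent.H16RK1

set_option autoImplicit false

namespace Cfsg.Agent.H16RK

variable {X : Type*} [Group X] {A B : Subgroup X}

/-- root statement -/
def KB (A B : Subgroup X) (k : ℕ) : Prop :=
  ∀ a b, R A B a b → a ^ k ≠ 1 → ∃ w ∈ A, w ^ k = a ∧ R A B w (b ^ k)

/-- no `k`-torsion -/
def NT (A : Subgroup X) (k : ℕ) : Prop := ∀ a ∈ A, a ≠ 1 → a ^ k ≠ 1

lemma KB_one : KB A B 1 := by
  intro a b hR _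
  exact ⟨a, hR.1, pow_one a, by simpa using hR⟩

lemma SR.NTB (h : SR A B) {k : ℕ} (hk : NT A k) : NT B k := by
  intro b hb hb1 hbk
  obtain ⟨a, ha, ha1, hab⟩ := h.cr b hb hb1
  have hR : R A B a b := ⟨ha, hb, ha1, hb1, hab.symm⟩
  exact hk a ha ha1 ((h.transfer hR k).mpr hbk)

lemma SR.rootA (h : SR A B) {k : ℕ} (hk : NT A k) {x y : X} (hx : x ∈ A) (hy : y ∈ A)
    (he : x ^ k = y ^ k) : x = y := by
  by_contra hne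
  have h1 : x * y⁻¹ ≠ 1 := fun h0 => hne (mul_inv_eq_one.mp h0)
  have hc : Commute x y⁻¹ := h.cA x hx y⁻¹ (A.inv_mem hy)
  apply hk (x * y⁻¹) (A.mul_mem hx (A.inv_mem hy)) h1
  rw [hc.mul_pow, he, inv_pow, mul_inv_cancel]

lemma SR.rootB (h : SR A B) {k : ℕ} (hk : NT A k) {x y : X} (hx : x ∈ B) (hy : y ∈ B)
    (he : x ^ k = y ^ k) : x = y := by
  by_contra hne
  have h1 : x * y⁻¹ ≠ 1 := fun h0 => hne (mul_inv_eq_one.mp h0)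
  have hc : Commute x y⁻¹ := h.cB x hx y⁻¹ (B.inv_mem hy)
  apply h.NTB hk (x * y⁻¹) (B.mul_mem hx (B.inv_mem hy)) h1
  rw [hc.mul_pow, he, inv_pow, mul_inv_cancel]

/-- β² a β² = n a β -/
lemma SR.key2 (h : SR A B) {a b : X} (hR : R A B a b) :
    cjr A (b⁻¹ * b⁻¹ * a * (b⁻¹ * b⁻¹)) = A := by
  have hbn := h.b_n hR
  have hAn := h.cjrA_n hR
  have e : b⁻¹ * b⁻¹ * a * (b⁻¹ * b⁻¹) = (a * b⁻¹ * a) * a * b⁻¹ := by
    calc b⁻¹ * b⁻¹ * a * (b⁻¹ * b⁻¹) = b⁻¹ * (b⁻¹ * a * b⁻¹) * b⁻¹ := by group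
      _ = b⁻¹ * (a * b⁻¹ * a) * b⁻¹ := by rw [h.braid hR]
      _ = (a * b⁻¹ * a) * a * b⁻¹ := by rw [hbn]
  obtain ⟨ha, hb, ha1, hb1, hab⟩ := hR
  rw [e, ← cjr_mul, ← cjr_mul, hAn, ← hab, cjr_mul, mul_inv_cancel, cjr_one]

lemma SR.KB_two (h : SR A B) : KB A B 2 := by
  intro a b hR ha2
  have hb2 : b ^ 2 ≠ 1 := fun h0 => ha2 ((h.transfer hR 2).mpr h0)
  have hk2 := h.key2 hR
  obtain ⟨ha, hb, ha1, hb1, hab⟩ := hR
  obtain ⟨w, hw, hw1, hwb⟩ := h.cr (b ^ 2) (B.pow_mem hb 2) hb2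
  have hRw : R A B w (b ^ 2) := ⟨hw, B.pow_mem hb 2, hw1, hb2, hwb.symm⟩
  refine ⟨w, hw, ?_, hRw⟩
  have hRw' := h.inv hRw
  obtain ⟨_, _, _, _, hwb'⟩ := hRw'
  -- B^w = B^(w⁻¹ a)
  have hgoal : cjr B w = cjr B (w⁻¹ * a) := by
    rw [hwb, ← cjr_mul, ← hwb', cjr_mul]
    have e1 : cjr A ((b ^ 2)⁻¹ * a) = cjr (cjr A (b⁻¹ * b⁻¹ * a * (b⁻¹ * b⁻¹))) (b ^ 2) := by
      rw [cjr_mul]; congr 1; rw [pow_two]; group
    rw [e1, hk2]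
  have := h.injA hw (A.mul_mem (A.inv_mem hw) ha) hgoal
  calc w ^ 2 = w * w := pow_two w
    _ = w * (w⁻¹ * a) := by rw [← this]
    _ = a := by group

lemma KB_mul {r s : ℕ} (hr : KB A B r) (hs : KB A B s) : KB A B (r * s) := by
  intro a b hR hars
  have har : a ^ r ≠ 1 := by
    intro h0; apply hars; rw [pow_mul, h0, one_pow]
  obtain ⟨w1, hw1, hw1r, hR1⟩ := hr a b hR har
  have hw1s : w1 ^ s ≠ 1 := by
    intro h0; apply hars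
    rw [← hw1r, ← pow_mul, show r * (r * s) = s * (r * r) by ring, pow_mul, h0, one_pow]
  obtain ⟨w2, hw2, hw2s, hR2⟩ := hs w1 (b ^ r) hR1 hw1s
  refine ⟨w2, hw2, ?_, ?_⟩
  · rw [mul_comm r s, pow_mul, hw2s, hw1r]
  · rwa [← pow_mul] at hR2

/-- the A-version from the B-version -/
lemma SR.KA (h : SR A B) {k : ℕ} (hK : KB A B k) (hN : NT A k) {a b d : X}
    (hR : R A B a b) (hRk : R A B (a ^ k) d) : d ^ k = b := by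
  have hakk : (a ^ k) ^ k ≠ 1 := hN (a ^ k) hRk.1 hRk.2.2.1
  obtain ⟨w, hw, hwk, hRw⟩ := hK (a ^ k) d hRk hakk
  have hwa : w = a := h.rootA hN hw hR.1 hwk
  rw [hwa] at hRw
  exact h.injB hRw.2.1 hR.2.1 (by rw [hRw.2.2.2.2, hR.2.2.2.2])

lemma SR.exists_R (h : SR A B) {a : X} (ha : a ∈ A) (ha1 : a ≠ 1) : ∃ b, R A B a b := by
  obtain ⟨b, hb, hb1, hab⟩ := h.cl a ha ha1
  exact ⟨b, ha, hb, ha1, hb1, hab⟩

end Cfsg.Agent.H16RK
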