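import Mathlib
import Cfsg.Agent.H16RK2

set_option autoImplicit false

namespace Cfsg.Agent.H16RK

variable {X : Type*} [Group X] {A B : Subgroup X}

lemma SR.key2_eq (h : SR A B) {a b : X} (hR : R A B a b) :
    b⁻¹ * b⁻¹ * a * (b⁻¹ * b⁻¹) = (a * b⁻¹ * a) * a * b⁻¹ := by
  have hbn := h.b_n hR
  calc b⁻¹ * b⁻¹ * a * (b⁻¹ * b⁻¹) = b⁻¹ * (b⁻¹ * a * b⁻¹) * b⁻¹ := by group
    _ = b⁻¹ * (a * b⁻¹ * a) * b⁻¹ := by rw [h.braid hR]
    _ = (a * b⁻¹ * a) * a * b⁻¹ := by rw [hbn]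

lemma SR.KB_odd (h : SR A B) {j : ℕ} (hj : 1 ≤ j)
    (hNT : ∀ i, 1 ≤ i → i ≤ 2 * j → NT A i)
    (hKj : KB A B j) (hKj1 : KB A B (j + 1)) : KB A B (2 * j + 1) := by
  intro a b hR hap
  have hNj : NT A j := hNT j hj (by omega)
  have hNj1 : NT A (j + 1) := hNT (j + 1) (by omega) (by omega)
  have hbp : b ^ (2 * j + 1) ≠ 1 := fun h0 => hap ((h.transfer hR _).mpr h0)
  have ha := hR.1
  have hb := hR.2.1
  have ha1 := hR.2.2.1
  obtain ⟨w, hw, hw1, hwb⟩ := h.cr (b ^ (2 * j + 1)) (B.pow_mem hb _) hbp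
  have hRw : R A B w (b ^ (2 * j + 1)) := ⟨hw, B.pow_mem hb _, hw1, hbp, hwb.symm⟩
  refine ⟨w, hw, ?_, hRw⟩
  -- roots of b
  have haj1 : a ^ (j + 1) ≠ 1 := hNj1 a ha ha1
  obtain ⟨e1, hRe1⟩ := h.exists_R (A.pow_mem ha (j + 1)) haj1
  have he1 : e1 ^ (j + 1) = b := h.KA hKj1 hNj1 hR hRe1
  have haj : a ^ j ≠ 1 := hNj a ha ha1
  obtain ⟨e2, hRe2⟩ := h.exists_R (A.pow_mem ha j) haj
  have he2 : e2 ^ j = b := h.KA hKj hNj hR hRe2
  -- b-images of powers of w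
  have hRwi := h.inv hRw
  have hwi1 : (w⁻¹) ^ (j + 1) ≠ 1 := hNj1 _ (A.inv_mem hw) (by simpa using hw1)
  obtain ⟨f1, hRf1⟩ := h.exists_R (A.pow_mem (A.inv_mem hw) (j + 1)) hwi1
  have hf1 : f1 ^ (j + 1) = (b ^ (2 * j + 1))⁻¹ := h.KA hKj1 hNj1 hRwi hRf1
  have hwj : w ^ j ≠ 1 := hNj w hw hw1
  obtain ⟨f2, hRf2⟩ := h.exists_R (A.pow_mem hw j) hwj
  have hf2 : f2 ^ j = b ^ (2 * j + 1) := h.KA hKj hNj hRw hRf2
  have he1B : e1 ∈ B := hRe1.2.1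
  have he2B : e2 ∈ B := hRe2.2.1
  have hf1e : f1 = (e1⁻¹) ^ (2 * j + 1) := by
    apply h.rootB hNj1 hRf1.2.1 (B.pow_mem (B.inv_mem he1B) _)
    rw [hf1, ← he1, ← pow_mul, ← pow_mul, inv_pow, mul_comm]
  have hf2e : f2 = e2 ^ (2 * j + 1) := by
    apply h.rootB hNj hRf2.2.1 (B.pow_mem he2B _)
    rw [hf2, ← he2, ← pow_mul, ← pow_mul, mul_comm]
  -- the swapping element
  have hbn := h.b_n hR
  have hBn : cjr B (a * b⁻¹ * a) = A := h.cjrB_n hR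
  have hAn : cjr A (a * b⁻¹ * a) = B := h.cjrA_n hR
  have hk2 := h.key2_eq hR
  set n := a * b⁻¹ * a with hn
  set y := n⁻¹ * e1⁻¹ * n with hy
  have hyA : y ∈ A := by
    rw [← hBn, mem_cjr]
    have : n * y * n⁻¹ = e1⁻¹ := by rw [hy]; group
    rw [this]; exact B.inv_mem he1B
  have hyp : y ^ (j + 1) = a := by
    have e : y = n⁻¹ * e1⁻¹ * (n⁻¹)⁻¹ := by rw [inv_inv]
    rw [e, conj_pow, inv_pow, he1, inv_inv, mul_assoc, hbn]; group
  -- R (y^j) (e2^(j+1))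
  have hajj : (a ^ j) ^ (j + 1) ≠ 1 := hNj1 _ (A.pow_mem ha j) haj
  obtain ⟨y', hy'A, hy'p, hRy'⟩ := hKj1 (a ^ j) e2 hRe2 hajj
  have hy'eq : y' = y ^ j := by
    apply h.rootA hNj1 hy'A (A.pow_mem hyA j)
    rw [hy'p, ← pow_mul, mul_comm, pow_mul, hyp]
  rw [hy'eq] at hRy'
  have hRyj : cjr A (e2 ^ (j + 1)) = cjr B (y ^ j) := hRy'.2.2.2.2
  -- algebra
  have hε1 : (e1⁻¹) ^ (2 * j + 1) = e1 * (b⁻¹ * b⁻¹) := by
    have h1 : e1⁻¹ * (e1⁻¹) ^ (2 * j + 1) = b⁻¹ * b⁻¹ := by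
      rw [← pow_succ', show 2 * j + 1 + 1 = (j + 1) * 2 by ring, pow_mul, inv_pow, he1, pow_two]
    calc (e1⁻¹) ^ (2 * j + 1) = e1 * (e1⁻¹ * (e1⁻¹) ^ (2 * j + 1)) := by group
      _ = e1 * (b⁻¹ * b⁻¹) := by rw [h1]
  have hε2 : (e2 ^ (2 * j + 1))⁻¹ = (b⁻¹ * b⁻¹) * e2⁻¹ := by
    rw [← inv_pow, pow_succ, pow_mul', inv_pow, he2, pow_two]
  have hword : f1 * a * f2⁻¹ = n * y ^ j * (e2⁻¹) ^ (j + 1) := by
    have hy1 : e1 * n = n * y⁻¹ := by rw [hy]; group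
    have hyj : y⁻¹ * a = y ^ j := by rw [← hyp, pow_succ']; group
    have hb2 : b⁻¹ * e2⁻¹ = (e2⁻¹) ^ (j + 1) := by
      rw [pow_succ, inv_pow, he2]
    calc f1 * a * f2⁻¹ = e1 * (b⁻¹ * b⁻¹ * a * (b⁻¹ * b⁻¹)) * e2⁻¹ := by
          rw [hf1e, hf2e, hε1, hε2]; group
      _ = e1 * (n * a * b⁻¹) * e2⁻¹ := by rw [hk2]
      _ = (e1 * n) * a * (b⁻¹ * e2⁻¹) := by group
      _ = (n * y⁻¹) * a * ((e2⁻¹) ^ (j + 1)) := by rw [hy1, hb2]
      _ = n * (y⁻¹ * a) * (e2⁻¹) ^ (j + 1) := by group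
      _ = n * y ^ j * (e2⁻¹) ^ (j + 1) := by rw [hyj]
  have hkey : cjr A (f1 * a * f2⁻¹) = A := by
    rw [hword, ← cjr_mul, ← cjr_mul, hAn, ← hRyj, cjr_mul, inv_pow, mul_inv_cancel, cjr_one]
  -- conclude
  have hgoal : cjr B ((w⁻¹) ^ (j + 1)) = cjr B (w ^ j * a⁻¹) := by
    rw [← hRf1.2.2.2.2, ← cjr_mul, ← hRf2.2.2.2.2, cjr_mul]
    calc cjr A f1 = cjr (cjr A (f1 * a * f2⁻¹)) (f2 * a⁻¹) := by
          rw [cjr_mul]; congr 1; group
      _ = cjr A (f2 * a⁻¹) := by rw [hkey]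
  have heq := h.injA (A.pow_mem (A.inv_mem hw) (j + 1))
    (A.mul_mem (A.pow_mem hw j) (A.inv_mem ha)) hgoal
  have h1 : w ^ (j + 1) * (w ^ j * a⁻¹) = 1 := by
    rw [← heq, inv_pow, mul_inv_cancel]
  have h2 : w ^ (j + 1) * w ^ j = a := by
    rw [← mul_assoc] at h1
    exact mul_inv_eq_one.mp h1
  rw [← h2, ← pow_add]
  congr 1
  omega

lemma SR.torsion_all (h : SR A B) {m : ℕ} (hK : KB A B m) {a : X} (ha : a ∈ A) (ha1 : a ≠ 1)
    (ham : a ^ m = 1) : ∀ d ∈ A, d ^ m = 1 := by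
  intro d hd
  by_contra hdm
  have hd1 : d ≠ 1 := by rintro rfl; exact hdm (one_pow m)
  have hadm : (a * d) ^ m ≠ 1 := by
    have hc : Commute a d := h.cA a ha d hd
    rw [hc.mul_pow, ham, one_mul]; exact hdm
  have had1 : a * d ≠ 1 := by intro h0; rw [h0, one_pow] at hadm; exact hadm rfl
  obtain ⟨b1, hR1⟩ := h.exists_R hd hd1
  obtain ⟨b2, hR2⟩ := h.exists_R (A.mul_mem ha hd) had1
  obtain ⟨w1, hw1, hw1m, _⟩ := hK d b1 hR1 hdm
  obtain ⟨w2, hw2, hw2m, _⟩ := hK (a * d) b2 hR2 hadm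
  have hfA : w2 * w1⁻¹ ∈ A := A.mul_mem hw2 (A.inv_mem hw1)
  have hfm : (w2 * w1⁻¹) ^ m = a := by
    have hc : Commute w2 w1⁻¹ := h.cA w2 hw2 w1⁻¹ (A.inv_mem hw1)
    rw [hc.mul_pow, inv_pow, hw2m, hw1m]; group
  have hfm1 : (w2 * w1⁻¹) ^ m ≠ 1 := by rw [hfm]; exact ha1
  have hf1 : w2 * w1⁻¹ ≠ 1 := by intro h0; rw [h0, one_pow] at hfm1; exact hfm1 rfl
  obtain ⟨b3, hR3⟩ := h.exists_R hfA hf1
  obtain ⟨w, hw, hwm, hRw⟩ := hK _ b3 hR3 hfm1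
  have hb3 : b3 ^ (m * m) = 1 := by
    apply (h.transfer hR3 (m * m)).mp
    rw [pow_mul, hfm, ham]
  have hwm1 : w ^ m = 1 := by
    apply (h.transfer hRw m).mpr
    rw [← pow_mul]; exact hb3
  rw [hwm] at hwm1
  exact hf1 hwm1

lemma SR.KB_all (h : SR A B) :
    ∀ m, 1 ≤ m → (∀ i, 1 ≤ i → i < m → NT A i) → KB A B m := by
  intro m
  induction m using Nat.strong_induction_on with
  | _ m ih =>
    intro hm hNT
    rcases Nat.even_or_odd' m with ⟨j, hj | hj⟩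
    · subst hj
      have hj1 : 1 ≤ j := by omega
      by_cases hj' : j = 1
      · subst hj'; simpa using h.KB_two
      · have : KB A B j := ih j (by omega) hj1 (fun i hi hij => hNT i hi (by omega))
        exact KB_mul h.KB_two this
    · subst hj
      by_cases hj0 : j = 0
      · subst hj0; simpa using (KB_one : KB A B 1)
      · have hj1 : 1 ≤ j := by omega
        have hKj : KB A B j := ih j (by omega) hj1 (fun i hi hij => hNT i hi (by omega))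
        have hKj1 : KB A B (j + 1) :=
          ih (j + 1) (by omega) (by omega) (fun i hi hij => hNT i hi (by omega))
        exact h.KB_odd hj1 (fun i hi hij => hNT i hi (by omega)) hKj hKj1

theorem SR.main (h : SR A B) :
    (∃ p : ℕ, p.Prime ∧ ∀ a ∈ A, a ^ p = 1) ∨
    ((∀ a ∈ A, a ≠ 1 → ¬ IsOfFinOrder a) ∧
      ∀ a ∈ A, ∀ n : ℕ, 0 < n → ∃ c ∈ A, c ^ n = a) := by
  by_cases hall : ∀ m, 1 ≤ m → NT A m
  · right
    constructor
    · intro a ha ha1 hfin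
      obtain ⟨n, hn, hn1⟩ := isOfFinOrder_iff_pow_eq_one.mp hfin
      exact hall n hn a ha ha1 hn1
    · intro a ha n hn
      by_cases ha1 : a = 1
      · exact ⟨1, A.one_mem, by rw [ha1, one_pow]⟩
      · obtain ⟨b, hR⟩ := h.exists_R ha ha1
        obtain ⟨w, hw, hwn, _⟩ :=
          h.KB_all n hn (fun i hi _ => hall i hi) a b hR (hall n hn a ha ha1)
        exact ⟨w, hw, hwn⟩
  · left
    push_neg at hall
    classical
    have hex : ∃ m, 1 ≤ m ∧ ¬ NT A m := hall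
    have hm : 1 ≤ Nat.find hex ∧ ¬ NT A (Nat.find hex) := Nat.find_spec hex
    have hmin : ∀ i, 1 ≤ i → i < Nat.find hex → NT A i := by
      intro i hi him
      by_contra hc
      exact Nat.find_min hex him ⟨hi, hc⟩
    generalize Nat.find hex = m at hm hmin
    have hK : KB A B m := h.KB_all m hm.1 hmin
    have hnt := hm.2
    unfold NT at hnt
    push_neg at hnt
    obtain ⟨a, ha, ha1, ham⟩ := hnt
    have hallm := h.torsion_all hK ha ha1 ham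
    refine ⟨m, ?_, hallm⟩
    have hm2 : 2 ≤ m := by
      by_contra hlt
      have : m = 1 := by omega
      rw [this, pow_one] at ham; exact ha1 ham
    rw [Nat.prime_def_lt]
    refine ⟨hm2, fun r hr hrm => ?_⟩
    by_contra hr1
    obtain ⟨s, hs⟩ := hrm
    have hr0 : r ≠ 0 := by rintro rfl; simp at hs; omega
    have hrge : 2 ≤ r := by omega
    have hs1 : 1 ≤ s := by
      rcases Nat.eq_zero_or_pos s with h0 | h0
      · rw [h0] at hs; omega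
      · exact h0
    have hslt : s < m := by nlinarith
    have har : a ^ r ≠ 1 := hmin r (by omega) hr a ha ha1
    have : (a ^ r) ^ s = 1 := by rw [← pow_mul, ← hs]; exact ham
    exact hmin s hs1 hslt (a ^ r) (A.pow_mem ha r) har this

end Cfsg.Agent.H16RK
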