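import Mathlib

set_option autoImplicit false

namespace Cfsg.Agent.H16ST

variable {K : Type*} [Field K] {Γ : Type*} [Group Γ]

/-- the relations of the rank one Steinberg presentation -/
structure StData (x y : K → Γ) : Prop where
  xa : ∀ t u, x t * x u = x (t + u)
  ya : ∀ t u, y t * y u = y (t + u)
  Bx : ∀ t u, t ≠ 0 →
    (x t * y (-t⁻¹) * x t) * x u * (x t * y (-t⁻¹) * x t)⁻¹ = y (-(t⁻¹ ^ 2 * u))
  By : ∀ t u, t ≠ 0 →
    (y t * x (-t⁻¹) * y t) * y u * (y t * x (-t⁻¹) * y t)⁻¹ = x (-(t⁻¹ ^ 2 * u))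

/-- `w(t)` -/
def w (x y : K → Γ) (t : K) : Γ := x t * y (-t⁻¹) * x t

/-- `h(t)` -/
def h (x y : K → Γ) (t : K) : Γ := w x y t * w x y (-1)

variable {x y : K → Γ}

lemma StData.x_zero (d : StData x y) : x 0 = 1 := by
  have := d.xa 0 0
  rw [add_zero] at this
  exact mul_eq_left.mp this

lemma StData.y_zero (d : StData x y) : y 0 = 1 := by
  have := d.ya 0 0
  rw [add_zero] at this
  exact mul_eq_left.mp this

lemma StData.x_neg (d : StData x y) (t : K) : x (-t) = (x t)⁻¹ := by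
  have := d.xa (-t) t
  rw [neg_add_cancel, d.x_zero] at this
  exact eq_inv_of_mul_eq_one_left this

lemma StData.y_neg (d : StData x y) (t : K) : y (-t) = (y t)⁻¹ := by
  have := d.ya (-t) t
  rw [neg_add_cancel, d.y_zero] at this
  exact eq_inv_of_mul_eq_one_left this

lemma StData.w_inv (d : StData x y) (t : K) : (w x y t)⁻¹ = w x y (-t) := by
  unfold w
  rw [mul_inv_rev, mul_inv_rev, ← d.x_neg, ← d.y_neg, inv_neg, neg_neg, mul_assoc]

/-- conjugation of `x` by `w` -/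
lemma StData.w_x (d : StData x y) {t : K} (ht : t ≠ 0) (u : K) :
    w x y t * x u * (w x y t)⁻¹ = y (-(t⁻¹ ^ 2 * u)) := d.Bx t u ht

lemma StData.braid (d : StData x y) {t : K} (ht : t ≠ 0) :
    x t * y (-t⁻¹) * x t = y (-t⁻¹) * x t * y (-t⁻¹) := by
  have h1 := d.Bx t t ht
  have e : -(t⁻¹ ^ 2 * t) = -t⁻¹ := by field_simp
  rw [e] at h1
  obtain ⟨W, hW⟩ : ∃ W, W = x t * y (-t⁻¹) * x t := ⟨_, rfl⟩
  rw [← hW] at h1
  have h2 : W * x t = y (-t⁻¹) * W := by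
    calc W * x t = (W * x t * W⁻¹) * W := by group
      _ = y (-t⁻¹) * W := by rw [h1]
  have h3 : (x t * y (-t⁻¹) * x t) * x t = (y (-t⁻¹) * x t * y (-t⁻¹)) * x t := by
    rw [← hW, h2, hW]; group
  exact mul_right_cancel h3

lemma StData.w_eq' (d : StData x y) {t : K} (ht : t ≠ 0) :
    w x y t = y (-t⁻¹) * x (-(-t⁻¹)⁻¹) * y (-t⁻¹) := by
  unfold w
  rw [d.braid ht]
  congr 2
  field_simp

/-- conjugation of `y` by `w` -/
lemma StData.w_y (d : StData x y) {t : K} (ht : t ≠ 0) (u : K) :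
    w x y t * y u * (w x y t)⁻¹ = x (-(t ^ 2 * u)) := by
  have hs : -t⁻¹ ≠ 0 := by simpa using ht
  have h1 := d.By (-t⁻¹) u hs
  rw [← d.w_eq' ht] at h1
  rw [h1]
  congr 1
  field_simp

lemma StData.w_mul_x (d : StData x y) {t : K} (ht : t ≠ 0) (u : K) :
    w x y t * x u = y (-(t⁻¹ ^ 2 * u)) * w x y t := by
  rw [← d.w_x ht u]; group

lemma StData.w_mul_y (d : StData x y) {t : K} (ht : t ≠ 0) (u : K) :
    w x y t * y u = x (-(t ^ 2 * u)) * w x y t := by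
  rw [← d.w_y ht u]; group

/-- `w(u) w(t) w(u)⁻¹ = w(u² t⁻¹)` -/
lemma StData.w_w (d : StData x y) {t u : K} (ht : t ≠ 0) (hu : u ≠ 0) :
    w x y u * w x y t * (w x y u)⁻¹ = w x y (u ^ 2 * t⁻¹) := by
  have hne : u ^ 2 * t⁻¹ ≠ 0 := mul_ne_zero (pow_ne_zero 2 hu) (inv_ne_zero ht)
  have e1 : w x y u * w x y t * (w x y u)⁻¹ =
      (w x y u * x t * (w x y u)⁻¹) * (w x y u * y (-t⁻¹) * (w x y u)⁻¹) *
        (w x y u * x t * (w x y u)⁻¹) := by
    conv_lhs => rw [show w x y t = x t * y (-t⁻¹) * x t from rfl]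
    group
  rw [e1, d.w_x hu, d.w_y hu, d.w_eq' hne]
  have a1 : -(u⁻¹ ^ 2 * t) = -(u ^ 2 * t⁻¹)⁻¹ := by field_simp
  have a2 : -(u ^ 2 * -t⁻¹) = -(-(u ^ 2 * t⁻¹)⁻¹)⁻¹ := by field_simp
  rw [a1, a2]

end Cfsg.Agent.H16ST
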