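import Mathlib
import Cfsg.Agent.H16ST1

set_option autoImplicit false

namespace Cfsg.Agent.H16ST

variable {K : Type*} [Field K] {Γ : Type*} [Group Γ] {x y : K → Γ}

/-- `γ` acts on the two root subgroups as a diagonal element with ratio `μ` -/
def P (x y : K → Γ) (μ : K) (γ : Γ) : Prop :=
  (∀ u, γ * x u * γ⁻¹ = x (μ * u)) ∧ (∀ u, γ * y u * γ⁻¹ = y (μ⁻¹ * u))

lemma P.mul {μ ν : K} {γ δ : Γ} (hγ : P x y μ γ) (hδ : P x y ν δ) :
    P x y (μ * ν) (γ * δ) := by
  constructor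
  · intro u
    calc γ * δ * x u * (γ * δ)⁻¹ = γ * (δ * x u * δ⁻¹) * γ⁻¹ := by group
      _ = x (μ * ν * u) := by rw [hδ.1, hγ.1, mul_assoc]
  · intro u
    calc γ * δ * y u * (γ * δ)⁻¹ = γ * (δ * y u * δ⁻¹) * γ⁻¹ := by group
      _ = y ((μ * ν)⁻¹ * u) := by rw [hδ.2, hγ.2, mul_inv, mul_assoc]

lemma P.one : P x y 1 1 := by
  constructor <;> intro u <;> simp

lemma P.inv {μ : K} {γ : Γ} (hμ : μ ≠ 0) (hγ : P x y μ γ) : P x y μ⁻¹ γ⁻¹ := by
  constructor
  · intro u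
    have := hγ.1 (μ⁻¹ * u)
    rw [mul_inv_cancel_left₀ hμ] at this
    rw [← this]; group
  · intro u
    have := hγ.2 (μ * u)
    rw [inv_mul_cancel_left₀ hμ] at this
    rw [inv_inv, ← this]; group

lemma P.pow {μ : K} {γ : Γ} (hγ : P x y μ γ) (n : ℕ) : P x y (μ ^ n) (γ ^ n) := by
  induction n with
  | zero => simpa using (P.one : P x y 1 1)
  | succ n ih => rw [pow_succ, pow_succ]; exact ih.mul hγ

lemma P.conj_w {μ : K} {γ : Γ} (hγ : P x y μ γ) (u : K) :
    γ * w x y u * γ⁻¹ = w x y (μ * u) := by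
  unfold w
  have e : μ⁻¹ * -u⁻¹ = -(μ * u)⁻¹ := by rw [mul_inv, mul_neg]
  calc γ * (x u * y (-u⁻¹) * x u) * γ⁻¹
      = (γ * x u * γ⁻¹) * (γ * y (-u⁻¹) * γ⁻¹) * (γ * x u * γ⁻¹) := by group
    _ = _ := by rw [hγ.1, hγ.2, e]

lemma P.conj_h (d : StData x y) {μ : K} {γ : Γ} (hγ : P x y μ γ) (u : K) :
    γ * h x y u * γ⁻¹ = h x y (μ * u) * (h x y μ)⁻¹ := by
  unfold h
  calc γ * (w x y u * w x y (-1)) * γ⁻¹
      = (γ * w x y u * γ⁻¹) * (γ * w x y (-1) * γ⁻¹) := by group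
    _ = w x y (μ * u) * w x y (-μ) := by rw [hγ.conj_w, hγ.conj_w, mul_neg_one]
    _ = _ := by
      rw [mul_inv_rev, d.w_inv μ]; group

lemma StData.h_one (d : StData x y) : h x y 1 = 1 := by
  unfold h
  rw [← d.w_inv 1, mul_inv_cancel]

lemma StData.P_h (d : StData x y) {t : K} (ht : t ≠ 0) : P x y (t ^ 2) (h x y t) := by
  have h1 : (-1 : K) ≠ 0 := by simp
  constructor
  · intro u
    unfold h
    calc w x y t * w x y (-1) * x u * (w x y t * w x y (-1))⁻¹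
        = w x y t * (w x y (-1) * x u * (w x y (-1))⁻¹) * (w x y t)⁻¹ := by group
      _ = x (t ^ 2 * u) := by
        rw [d.w_x h1, d.w_y ht]
        congr 1
        simp
  · intro u
    unfold h
    calc w x y t * w x y (-1) * y u * (w x y t * w x y (-1))⁻¹
        = w x y t * (w x y (-1) * y u * (w x y (-1))⁻¹) * (w x y t)⁻¹ := by group
      _ = y ((t ^ 2)⁻¹ * u) := by
        rw [d.w_y h1, d.w_x ht]
        congr 1
        simp

lemma P.commute_h (d : StData x y) {γ : Γ} (hγ : P x y 1 γ) (u : K) :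
    Commute γ (h x y u) := by
  have := hγ.conj_h d u
  rw [one_mul, d.h_one, inv_one, mul_one] at this
  exact mul_inv_eq_iff_eq_mul.mp this

/-- the `h`'s commute (finite field case) -/
lemma StData.h_comm (d : StData x y) [Finite K] {t u : K} (ht : t ≠ 0) (hu : u ≠ 0) :
    Commute (h x y t) (h x y u) := by
  obtain ⟨v, hv⟩ := IsCyclic.exists_monoid_generator (α := Kˣ)
  have key : ∀ s : K, s ≠ 0 → ∃ (n : ℕ) (z : Γ), P x y 1 z ∧
      h x y s = z * (h x y (v : K)) ^ n := by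
    intro s hs
    obtain ⟨n, hn⟩ := hv (Units.mk0 s hs)
    have hn' : (v : K) ^ n = s := by
      have := congrArg Units.val hn
      simpa using this
    refine ⟨n, h x y s * ((h x y (v : K)) ^ n)⁻¹, ?_, by group⟩
    have h1 := d.P_h hs
    have h2 := ((d.P_h v.ne_zero).pow n).inv (pow_ne_zero n (pow_ne_zero 2 v.ne_zero))
    have h3 := h1.mul h2
    have e : s ^ 2 * (((v : K) ^ 2) ^ n)⁻¹ = 1 := by
      rw [← hn', ← pow_mul, ← pow_mul, mul_comm n 2]
      exact mul_inv_cancel₀ (pow_ne_zero _ v.ne_zero)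
    rwa [e] at h3
  obtain ⟨n, z, hz, e1⟩ := key t ht
  obtain ⟨m, z', hz', e2⟩ := key u hu
  have hzA : Commute z (h x y (v : K)) := hz.commute_h d _
  have hz'A : Commute z' (h x y (v : K)) := hz'.commute_h d _
  have hzu : Commute z (h x y u) := hz.commute_h d u
  have e3 : z' = h x y u * ((h x y (v : K)) ^ m)⁻¹ := eq_mul_inv_of_mul_eq e2.symm
  have hzz' : Commute z z' := by
    rw [e3]; exact hzu.mul_right ((hzA.pow_right m).inv_right)
  rw [e1, e2]
  exact (Commute.mul_right hzz' (hzA.pow_right m)).mul_left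
    (Commute.mul_right (hz'A.pow_right n).symm ((Commute.refl _).pow_pow n m))

/-- `h(t² u) = h(t²) h(u)` -/
lemma StData.h_sq_mul (d : StData x y) [Finite K] {t u : K} (ht : t ≠ 0) (hu : u ≠ 0) :
    h x y (t ^ 2 * u) = h x y (t ^ 2) * h x y u := by
  have h1 := (d.P_h ht).conj_h d u
  have h2 : h x y t * h x y u * (h x y t)⁻¹ = h x y u := by
    rw [(d.h_comm ht hu).eq]; group
  rw [h2] at h1
  have h3 : h x y u * h x y (t ^ 2) = h x y (t ^ 2 * u) := eq_mul_inv_iff_mul_eq.mp h1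
  rw [← h3]; exact (d.h_comm hu (pow_ne_zero 2 ht)).eq

lemma StData.h_isSquare_mul (d : StData x y) [Finite K] {σ u : K} (hσ : IsSquare σ)
    (hσ0 : σ ≠ 0) (hu : u ≠ 0) :
    h x y (σ * u) = h x y σ * h x y u := by
  obtain ⟨a, rfl⟩ := hσ
  have ha : a ≠ 0 := by
    rintro rfl; simp at hσ0
  rw [← pow_two]
  exact d.h_sq_mul ha hu

lemma StData.w_eq_h_mul (d : StData x y) (t : K) : w x y t = h x y t * w x y 1 := by
  unfold h
  rw [← d.w_inv 1]; group

lemma StData.w_one_h (d : StData x y) {t : K} (ht : t ≠ 0) :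
    w x y 1 * h x y t = h x y t⁻¹ * w x y 1 := by
  have h1 := d.w_w ht (one_ne_zero)
  rw [one_pow, one_mul] at h1
  unfold h
  rw [← h1, ← d.w_inv 1]; group

lemma StData.w_one_sq (d : StData x y) : w x y 1 * w x y 1 = (h x y (-1))⁻¹ := by
  unfold h
  rw [← d.w_inv 1, ← mul_inv_rev, inv_inv]

lemma StData.y_eq (d : StData x y) (s : K) : y (-s⁻¹) = x (-s) * w x y s * x (-s) := by
  unfold w
  rw [d.x_neg]; group

lemma StData.x_eq (d : StData x y) {q : K} (hq : q ≠ 0) :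
    x (-q) = y (-q⁻¹) * w x y (-q) * y (-q⁻¹) := by
  have hq' : -q ≠ 0 := neg_ne_zero.mpr hq
  have hb := d.braid hq'
  have e : -(-q)⁻¹ = q⁻¹ := by rw [inv_neg, neg_neg]
  rw [e] at hb
  unfold w
  rw [e, hb, d.y_neg]; group

lemma StData.w_triple (d : StData x y) {s r : K} (hs : s ≠ 0) (hr : r ≠ 0) (hq : s + r ≠ 0) :
    w x y s * w x y (-(s + r)) * w x y r = w x y (s * r / (s + r)) := by
  obtain ⟨q, hqd⟩ : ∃ q, q = s + r := ⟨_, rfl⟩
  obtain ⟨p, hpd⟩ : ∃ p, p = s * r / (s + r) := ⟨_, rfl⟩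
  rw [← hpd, ← hqd]
  rw [← hqd] at hq
  have hp : p ≠ 0 := by
    rw [hpd, ← hqd]; exact div_ne_zero (mul_ne_zero hs hr) hq
  have e4 : x (s ^ 2 * q⁻¹) * w x y s = w x y s * y (-q⁻¹) := by
    rw [d.w_mul_y hs]; congr 2; ring
  have e5 : w x y r * x (r ^ 2 * q⁻¹) = y (-q⁻¹) * w x y r := by
    have hr' : -r ≠ 0 := neg_ne_zero.mpr hr
    have := d.w_y hr' (-q⁻¹)
    rw [← d.w_inv r, inv_inv] at this
    have e : -((-r) ^ 2 * -q⁻¹) = r ^ 2 * q⁻¹ := by ring
    rw [e] at this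
    rw [← this]; group
  have hq' : s + r ≠ 0 := hqd ▸ hq
  have ea : -s + s ^ 2 * q⁻¹ = -p := by
    rw [hpd, hqd]; field_simp; ring
  have eb : r ^ 2 * q⁻¹ + -r = -p := by
    rw [hpd, hqd]; field_simp; ring
  have ec : -s⁻¹ + -r⁻¹ = -p⁻¹ := by
    rw [hpd]; field_simp; ring
  have E : x (-p) * (w x y s * w x y (-q) * w x y r) * x (-p) = x (-p) * w x y p * x (-p) := by
    calc x (-p) * (w x y s * w x y (-q) * w x y r) * x (-p)
        = (x (-s) * x (s ^ 2 * q⁻¹)) * (w x y s * w x y (-q) * w x y r) *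
            (x (r ^ 2 * q⁻¹) * x (-r)) := by rw [d.xa, d.xa, ea, eb]
      _ = x (-s) * (x (s ^ 2 * q⁻¹) * w x y s) * w x y (-q) * (w x y r * x (r ^ 2 * q⁻¹)) *
            x (-r) := by group
      _ = x (-s) * (w x y s * y (-q⁻¹)) * w x y (-q) * (y (-q⁻¹) * w x y r) * x (-r) := by
          rw [e4, e5]
      _ = x (-s) * w x y s * (y (-q⁻¹) * w x y (-q) * y (-q⁻¹)) * w x y r * x (-r) := by group
      _ = x (-s) * w x y s * x (-q) * w x y r * x (-r) := by rw [← d.x_eq hq]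
      _ = (x (-s) * w x y s * x (-s)) * (x (-r) * w x y r * x (-r)) := by
          have : x (-q) = x (-s) * x (-r) := by rw [d.xa, hqd]; congr 1; ring
          rw [this]; group
      _ = y (-s⁻¹) * y (-r⁻¹) := by rw [← d.y_eq, ← d.y_eq]
      _ = y (-p⁻¹) := by rw [d.ya, ec]
      _ = x (-p) * w x y p * x (-p) := d.y_eq p
  exact mul_left_cancel (mul_right_cancel E)

/-- the key relation among the `h`'s coming from additivity of `y` -/
lemma StData.h_triple (d : StData x y) {s r : K} (hs : s ≠ 0) (hr : r ≠ 0) (hq : s + r ≠ 0) :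
    h x y s * h x y (-(s + r)⁻¹) * (h x y (-1))⁻¹ * h x y r = h x y (s * r / (s + r)) := by
  have h1 := d.w_triple hs hr hq
  rw [d.w_eq_h_mul s, d.w_eq_h_mul (-(s + r)), d.w_eq_h_mul r, d.w_eq_h_mul (s * r / (s + r))] at h1
  have h2 : w x y 1 * h x y (-(s + r)) = h x y (-(s + r)⁻¹) * w x y 1 := by
    rw [d.w_one_h (neg_ne_zero.mpr hq), inv_neg]
  have h3 : h x y s * w x y 1 * (h x y (-(s + r)) * w x y 1) * (h x y r * w x y 1) =
      h x y s * h x y (-(s + r)⁻¹) * (h x y (-1))⁻¹ * h x y r * w x y 1 := by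
    calc h x y s * w x y 1 * (h x y (-(s + r)) * w x y 1) * (h x y r * w x y 1)
        = h x y s * (w x y 1 * h x y (-(s + r))) * w x y 1 * h x y r * w x y 1 := by group
      _ = h x y s * h x y (-(s + r)⁻¹) * (w x y 1 * w x y 1) * h x y r * w x y 1 := by
          rw [h2]; group
      _ = _ := by rw [d.w_one_sq]
  rw [h3] at h1
  exact mul_right_cancel h1

end Cfsg.Agent.H16ST
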