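import Mathlib
import Cfsg.Agent.H16ST2

set_option autoImplicit false

namespace Cfsg.Agent.H16ST

lemma nonsq_mul {K : Type*} [Field K] [Finite K] {a b : K} (ha : ¬ IsSquare a)
    (hb : ¬ IsSquare b) : IsSquare (a * b) := by
  classical
  have := Fintype.ofFinite K
  have ha0 : a ≠ 0 := by rintro rfl; exact ha IsSquare.zero
  have hb0 : b ≠ 0 := by rintro rfl; exact hb IsSquare.zero
  rw [← quadraticChar_neg_one_iff_not_isSquare] at ha hb
  rw [← quadraticChar_one_iff_isSquare (mul_ne_zero ha0 hb0), map_mul, ha, hb]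
  norm_num

lemma neg_one_eq_cast {K : Type*} [Field K] [Finite K] : ∃ n : ℕ, (n : K) = -1 := by
  classical
  have := Fintype.ofFinite K
  refine ⟨Fintype.card K - 1, ?_⟩
  have hpos : 0 < Fintype.card K := Fintype.card_pos
  have h1 : ((Fintype.card K - 1 : ℕ) : K) + 1 = 0 := by
    have : ((Fintype.card K - 1 + 1 : ℕ) : K) = 0 := by
      rw [Nat.sub_add_cancel hpos]; exact FiniteField.cast_card_eq_zero K
    rwa [Nat.cast_add, Nat.cast_one] at this
  exact eq_neg_of_add_eq_zero_left h1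

/-- abstract multiplicativity lemma over a finite field -/
theorem mult_key {K : Type*} [Field K] [Finite K] {A : Type*} [AddCommGroup A] (f : K → A)
    (h1 : ∀ t u : K, t ≠ 0 → u ≠ 0 → f (t ^ 2 * u) = f (t ^ 2) + f u)
    (h2 : ∀ s r : K, s ≠ 0 → r ≠ 0 → s + r ≠ 0 →
      f s + f (-(s + r)⁻¹) - f (-1) + f r = f (s * r / (s + r)))
    (h3 : f 1 = 0) : ∀ t u : K, t ≠ 0 → u ≠ 0 → f (t * u) = f t + f u := by
  have sq : ∀ σ u : K, IsSquare σ → σ ≠ 0 → u ≠ 0 → f (σ * u) = f σ + f u := by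
    rintro _ u ⟨a, rfl⟩ hσ hu
    have ha : a ≠ 0 := by rintro rfl; simp at hσ
    rw [← pow_two]; exact h1 a u ha hu
  have stepA : ∀ v : K, ¬ IsSquare v → f v + f v = f (v ^ 2) →
      ∀ t u : K, ¬ IsSquare t → ¬ IsSquare u → f (t * u) = f t + f u := by
    intro v hv hg t u ht hu
    have hv0 : v ≠ 0 := by rintro rfl; exact hv IsSquare.zero
    have ht0 : t ≠ 0 := by rintro rfl; exact ht IsSquare.zero
    have hu0 : u ≠ 0 := by rintro rfl; exact hu IsSquare.zero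
    have hvi : ¬ IsSquare v⁻¹ := by rwa [isSquare_inv]
    have hσ := nonsq_mul ht hvi
    have hτ := nonsq_mul hu hvi
    have hσ0 : t * v⁻¹ ≠ 0 := mul_ne_zero ht0 (inv_ne_zero hv0)
    have hτ0 : u * v⁻¹ ≠ 0 := mul_ne_zero hu0 (inv_ne_zero hv0)
    have e1 : (t * v⁻¹) * v = t := by field_simp
    have e2 : (u * v⁻¹) * v = u := by field_simp
    have e3 : (t * v⁻¹) * ((u * v⁻¹) * v ^ 2) = t * u := by field_simp
    have a1 := sq _ v hσ hσ0 hv0
    have a2 := sq _ v hτ hτ0 hv0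
    have a3 := sq _ (v ^ 2) hτ hτ0 (pow_ne_zero 2 hv0)
    have a4 := sq _ ((u * v⁻¹) * v ^ 2) hσ hσ0 (mul_ne_zero hτ0 (pow_ne_zero 2 hv0))
    rw [e1] at a1; rw [e2] at a2; rw [e3] at a4
    rw [a4, a3, a1, a2, ← hg]; abel
  intro t u ht hu
  by_cases hts : IsSquare t
  · exact sq t u hts ht hu
  by_cases hus : IsSquare u
  · rw [mul_comm, sq u t hus hu ht, add_comm]
  have hchar : ringChar K ≠ 2 := fun hc => hts (FiniteField.isSquare_of_char_two hc t)
  have two_ne : (2 : K) ≠ 0 := Ring.two_ne_zero hchar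
  obtain ⟨v, hv, hg⟩ : ∃ v : K, ¬ IsSquare v ∧ f v + f v = f (v ^ 2) := by
    by_cases hm : IsSquare (-1 : K)
    · obtain ⟨ι, hι⟩ := hm
      refine ⟨t, hts, ?_⟩
      have hvv : t + t ≠ 0 := by rw [← two_mul]; exact mul_ne_zero two_ne ht
      have hι0 : ι ≠ 0 := by rintro rfl; simp at hι
      have b := h2 t t ht ht hvv
      obtain ⟨c, hc⟩ : ∃ c, c = t * t / (t + t) := ⟨_, rfl⟩
      rw [← hc] at b
      have hc0 : c ≠ 0 := by rw [hc]; exact div_ne_zero (mul_ne_zero ht ht) hvv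
      have e3 : ι ^ 2 = -1 := by rw [pow_two, ← hι]
      have e1 : -(t + t)⁻¹ = (t⁻¹) ^ 2 * (ι ^ 2 * c) := by
        rw [e3, hc]; field_simp
      have c1 := h1 t⁻¹ (ι ^ 2 * c) (inv_ne_zero ht) (mul_ne_zero (pow_ne_zero 2 hι0) hc0)
      have c2 := h1 ι c hι0 hc0
      have c3 := h1 t⁻¹ (t ^ 2) (inv_ne_zero ht) (pow_ne_zero 2 ht)
      have e2 : (t⁻¹) ^ 2 * t ^ 2 = 1 := by field_simp
      rw [e2, h3] at c3
      rw [e1, c1, c2, e3] at b
      calc f t + f t = (f t + (f (t⁻¹ ^ 2) + (f (-1) + f c)) - f (-1) + f t) - f c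
              - (f (t⁻¹ ^ 2) + f (t ^ 2)) + f (t ^ 2) := by abel
        _ = f (t ^ 2) := by rw [b, ← c3]; abel
    · refine ⟨-1, hm, ?_⟩
      obtain ⟨ρ, hρ, hρ0, hρ1⟩ : ∃ ρ : K, IsSquare ρ ∧ ρ ≠ 0 ∧ ¬ IsSquare (1 + ρ) := by
        by_contra hcon
        push Not at hcon
        have all : ∀ n : ℕ, IsSquare (n : K) := by
          intro n
          induction n with
          | zero => simp
          | succ n ih =>
            by_cases hn : (n : K) = 0
            · rw [Nat.cast_succ, hn, zero_add]; exact IsSquare.one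
            · rw [Nat.cast_succ, add_comm]; exact hcon _ ih hn
        obtain ⟨n, hn⟩ := neg_one_eq_cast (K := K)
        exact hm (hn ▸ all n)
      have hq0 : 1 + ρ ≠ 0 := by
        intro h0; rw [h0] at hρ1; exact hρ1 IsSquare.zero
      have hqi : ¬ IsSquare (1 + ρ)⁻¹ := by rwa [isSquare_inv]
      have hσ : IsSquare (-(1 + ρ)⁻¹) := by
        have := nonsq_mul hm hqi
        rwa [neg_one_mul] at this
      have hσ0 : -(1 + ρ)⁻¹ ≠ 0 := neg_ne_zero.mpr (inv_ne_zero hq0)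
      have hm0 : (-1 : K) ≠ 0 := neg_ne_zero.mpr one_ne_zero
      have b := h2 1 ρ one_ne_zero hρ0 hq0
      have e : 1 * ρ / (1 + ρ) = ρ * (-(1 + ρ)⁻¹ * -1) := by field_simp
      have c1 := sq ρ (-(1 + ρ)⁻¹ * -1) hρ hρ0 (mul_ne_zero hσ0 hm0)
      have c2 := sq (-(1 + ρ)⁻¹) (-1) hσ hσ0 hm0
      rw [e, c1, c2, h3] at b
      have e5 : (-1 : K) ^ 2 = 1 := by ring
      rw [e5, h3]
      calc f (-1) + f (-1) = (f ρ + (f (-(1 + ρ)⁻¹) + f (-1)))
            - (0 + f (-(1 + ρ)⁻¹) - f (-1) + f ρ) := by abel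
        _ = 0 := by rw [b]; abel
  exact stepA v hv hg t u hts hus

end Cfsg.Agent.H16ST
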