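import Mathlib
import Cfsg.Agent.H16ST3

set_option autoImplicit false

namespace Cfsg.Agent.H16ST

variable {K : Type*} [Field K] {Γ : Type*} [Group Γ] {x y : K → Γ}

/-- multiplicativity of `h` over a finite field -/
lemma StData.h_mul (d : StData x y) [Finite K] {t u : K} (ht : t ≠ 0) (hu : u ≠ 0) :
    h x y (t * u) = h x y t * h x y u := by
  classical
  let k : Set Γ := {g | ∃ t : K, t ≠ 0 ∧ g = h x y t}
  have hk : ∀ a ∈ k, ∀ b ∈ k, a * b = b * a := by
    rintro _ ⟨t, ht, rfl⟩ _ ⟨u, hu, rfl⟩; exact (d.h_comm ht hu).eq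
  letI : CommGroup (Subgroup.closure k) := Subgroup.closureCommGroupOfComm hk
  let g : ∀ t : K, t ≠ 0 → Subgroup.closure k :=
    fun t ht => ⟨h x y t, Subgroup.subset_closure ⟨t, ht, rfl⟩⟩
  let f : K → Additive (Subgroup.closure k) := fun t =>
    if ht : t ≠ 0 then Additive.ofMul (g t ht) else 0
  have hf : ∀ t (ht : t ≠ 0), f t = Additive.ofMul (g t ht) := fun t ht => dif_pos ht
  have key := mult_key f ?_ ?_ ?_ t u ht hu
  · rw [hf _ (mul_ne_zero ht hu), hf _ ht, hf _ hu, ← ofMul_mul] at key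
    have := congrArg Subtype.val (Additive.ofMul.injective key)
    exact this
  · intro t u ht hu
    rw [hf _ (mul_ne_zero (pow_ne_zero 2 ht) hu), hf _ (pow_ne_zero 2 ht), hf _ hu, ← ofMul_mul]
    congr 1
    apply Subtype.ext
    exact d.h_sq_mul ht hu
  · intro s r hs hr hq
    have hq' : -(s + r)⁻¹ ≠ 0 := neg_ne_zero.mpr (inv_ne_zero hq)
    have hm : (-1 : K) ≠ 0 := neg_ne_zero.mpr one_ne_zero
    rw [hf _ hs, hf _ hq', hf _ hm, hf _ hr, hf _ (div_ne_zero (mul_ne_zero hs hr) hq),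
      sub_eq_add_neg, ← ofMul_inv, ← ofMul_mul, ← ofMul_mul, ← ofMul_mul]
    congr 1
    apply Subtype.ext
    exact d.h_triple hs hr hq
  · rw [hf _ one_ne_zero]
    have : g 1 one_ne_zero = 1 := Subtype.ext d.h_one
    rw [this]; rfl

lemma StData.h_mul_x (d : StData x y) {t : K} (ht : t ≠ 0) (c : K) :
    h x y t * x c = x (t ^ 2 * c) * h x y t := by
  rw [← (d.P_h ht).1 c]; group

lemma StData.h_neg_one_inv (d : StData x y) [Finite K] : (h x y (-1))⁻¹ = h x y (-1) := by
  have hm : (-1 : K) ≠ 0 := neg_ne_zero.mpr one_ne_zero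
  have := d.h_mul hm hm
  rw [neg_mul_neg, one_mul, d.h_one] at this
  exact inv_eq_of_mul_eq_one_left this.symm

lemma StData.w_one_inv (d : StData x y) : (w x y 1)⁻¹ = w x y 1 * h x y (-1) := by
  unfold h
  rw [← d.w_inv 1]; group

/-- the normal forms -/
def NF (x y : K → Γ) : Set Γ :=
  {g | (∃ a t, t ≠ 0 ∧ g = x a * h x y t) ∨
    (∃ a t b, t ≠ 0 ∧ g = x a * h x y t * w x y 1 * x b)}

lemma NF_one (d : StData x y) : (1 : Γ) ∈ NF x y := by
  left
  exact ⟨0, 1, one_ne_zero, by rw [d.x_zero, d.h_one, mul_one]⟩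

lemma NF_mul_x (d : StData x y) {g : Γ} (hg : g ∈ NF x y) (c : K) : g * x c ∈ NF x y := by
  rcases hg with ⟨a, t, ht, rfl⟩ | ⟨a, t, b, ht, rfl⟩
  · left
    refine ⟨a + t ^ 2 * c, t, ht, ?_⟩
    calc x a * h x y t * x c = x a * (h x y t * x c) := by group
      _ = x a * (x (t ^ 2 * c) * h x y t) := by rw [d.h_mul_x ht]
      _ = _ := by rw [← d.xa]; group
  · right
    exact ⟨a, t, b + c, ht, by rw [← d.xa]; group⟩

lemma NF_mul_h (d : StData x y) [Finite K] {g : Γ} (hg : g ∈ NF x y) {u : K} (hu : u ≠ 0) :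
    g * h x y u ∈ NF x y := by
  rcases hg with ⟨a, t, ht, rfl⟩ | ⟨a, t, b, ht, rfl⟩
  · left
    exact ⟨a, t * u, mul_ne_zero ht hu, by rw [d.h_mul ht hu]; group⟩
  · right
    refine ⟨a, t * u⁻¹, (u⁻¹) ^ 2 * b, mul_ne_zero ht (inv_ne_zero hu), ?_⟩
    have e1 : h x y u * x ((u⁻¹) ^ 2 * b) = x b * h x y u := by
      rw [d.h_mul_x hu]; congr 2; field_simp
    calc x a * h x y t * w x y 1 * x b * h x y u
        = x a * h x y t * w x y 1 * (x b * h x y u) := by group
      _ = x a * h x y t * w x y 1 * (h x y u * x ((u⁻¹) ^ 2 * b)) := by rw [e1]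
      _ = x a * h x y t * (w x y 1 * h x y u) * x ((u⁻¹) ^ 2 * b) := by group
      _ = x a * h x y t * (h x y u⁻¹ * w x y 1) * x ((u⁻¹) ^ 2 * b) := by rw [d.w_one_h hu]
      _ = x a * (h x y t * h x y u⁻¹) * w x y 1 * x ((u⁻¹) ^ 2 * b) := by group
      _ = _ := by rw [← d.h_mul ht (inv_ne_zero hu)]

lemma NF_mul_w (d : StData x y) [Finite K] {g : Γ} (hg : g ∈ NF x y) :
    g * w x y 1 ∈ NF x y := by
  have hm : (-1 : K) ≠ 0 := neg_ne_zero.mpr one_ne_zero
  rcases hg with ⟨a, t, ht, rfl⟩ | ⟨a, t, b, ht, rfl⟩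
  · right
    exact ⟨a, t, 0, ht, by rw [d.x_zero, mul_one]⟩
  · by_cases hb : b = 0
    · subst hb
      left
      refine ⟨a, t * -1, mul_ne_zero ht hm, ?_⟩
      calc x a * h x y t * w x y 1 * x 0 * w x y 1
          = x a * h x y t * (w x y 1 * w x y 1) := by rw [d.x_zero]; group
        _ = x a * h x y t * h x y (-1) := by rw [d.w_one_sq, d.h_neg_one_inv]
        _ = _ := by rw [d.h_mul ht hm]; group
    · have hbi : b⁻¹ ≠ 0 := inv_ne_zero hb
      have key : x a * h x y t * w x y 1 * x b * w x y 1 =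
          (x (a + t ^ 2 * -b⁻¹) * h x y (t * b⁻¹) * w x y 1 * x (-b⁻¹)) * h x y (-1) := by
        have e1 : w x y 1 * x b * w x y 1 = y (-b) * h x y (-1) := by
          have := d.w_x (one_ne_zero) b
          rw [inv_one, one_pow, one_mul] at this
          calc w x y 1 * x b * w x y 1
              = (w x y 1 * x b * (w x y 1)⁻¹) * (w x y 1 * w x y 1) := by group
            _ = _ := by rw [this, d.w_one_sq, d.h_neg_one_inv]
        have e2 : y (-b) = x (-b⁻¹) * (h x y b⁻¹ * w x y 1) * x (-b⁻¹) := by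
          have := d.y_eq b⁻¹
          rw [inv_inv, d.w_eq_h_mul b⁻¹] at this
          exact this
        calc x a * h x y t * w x y 1 * x b * w x y 1
            = x a * h x y t * (w x y 1 * x b * w x y 1) := by group
          _ = x a * h x y t * (x (-b⁻¹) * (h x y b⁻¹ * w x y 1) * x (-b⁻¹) * h x y (-1)) := by
              rw [e1, e2]
          _ = x a * (h x y t * x (-b⁻¹)) * h x y b⁻¹ * w x y 1 * x (-b⁻¹) * h x y (-1) := by
              group
          _ = x a * (x (t ^ 2 * -b⁻¹) * h x y t) * h x y b⁻¹ * w x y 1 * x (-b⁻¹) *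
                h x y (-1) := by rw [d.h_mul_x ht]
          _ = (x a * x (t ^ 2 * -b⁻¹)) * (h x y t * h x y b⁻¹) * w x y 1 * x (-b⁻¹) *
                h x y (-1) := by group
          _ = _ := by rw [d.xa, ← d.h_mul ht hbi]
      rw [key]
      apply NF_mul_h d _ hm
      right
      exact ⟨_, _, _, mul_ne_zero ht hbi, rfl⟩

lemma NF_mul_y (d : StData x y) [Finite K] {g : Γ} (hg : g ∈ NF x y) (c : K) :
    g * y c ∈ NF x y := by
  have hm : (-1 : K) ≠ 0 := neg_ne_zero.mpr one_ne_zero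
  have e : y c = w x y 1 * x (-c) * w x y 1 * h x y (-1) := by
    have := d.w_x (one_ne_zero) (-c)
    rw [inv_one, one_pow, one_mul, neg_neg] at this
    rw [← this, d.w_one_inv]; group
  have : g * y c = g * w x y 1 * x (-c) * w x y 1 * h x y (-1) := by
    rw [e]; group
  rw [this]
  exact NF_mul_h d (NF_mul_w d (NF_mul_x d (NF_mul_w d hg) _)) hm

lemma NF_univ (d : StData x y) [Finite K]
    (hgen : Subgroup.closure (Set.range x ∪ Set.range y) = ⊤) (g : Γ) : g ∈ NF x y := by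
  have hg : g ∈ Subgroup.closure (Set.range x ∪ Set.range y) := by rw [hgen]; trivial
  induction hg using Subgroup.closure_induction_right with
  | one => exact NF_one d
  | mul_right a _ b hb ih =>
    rcases hb with ⟨c, rfl⟩ | ⟨c, rfl⟩
    · exact NF_mul_x d ih c
    · exact NF_mul_y d ih c
  | mul_inv_cancel a _ b hb ih =>
    rcases hb with ⟨c, rfl⟩ | ⟨c, rfl⟩
    · rw [← d.x_neg]; exact NF_mul_x d ih _
    · rw [← d.y_neg]; exact NF_mul_y d ih _

end Cfsg.Agent.H16ST
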