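import Mathlib
import Cfsg.Agent.H16ST4

set_option autoImplicit false

namespace Cfsg.Agent.H16ST

open Matrix

variable {K : Type*} [Field K]

/-- the relators -/
def rels (K : Type*) [Field K] : Set (FreeGroup (Bool × K)) :=
  {g : FreeGroup (Bool × K) | ∃ (b : Bool) (t u : K), g = FreeGroup.of (b, t) * FreeGroup.of (b, u) * (FreeGroup.of (b, t + u))⁻¹} ∪
          {g | ∃ (b : Bool) (t u : K), t ≠ 0 ∧
            g = (FreeGroup.of (b, t) * FreeGroup.of (!b, -t⁻¹) * FreeGroup.of (b, t)) * FreeGroup.of (b, u) *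
                  (FreeGroup.of (b, t) * FreeGroup.of (!b, -t⁻¹) * FreeGroup.of (b, t))⁻¹ * (FreeGroup.of (!b, -(t⁻¹ ^ 2 * u)))⁻¹}

/-- `x(t)` in the presented group -/
def px (t : K) : PresentedGroup (rels K) := PresentedGroup.of (true, t)
/-- `y(t)` in the presented group -/
def py (t : K) : PresentedGroup (rels K) := PresentedGroup.of (false, t)

lemma stdata_P : StData (px (K := K)) py where
  xa t u := by
    have hm : FreeGroup.of (true, t) * FreeGroup.of (true, u) *
        (FreeGroup.of (true, t + u))⁻¹ ∈ rels K := Or.inl ⟨true, t, u, rfl⟩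
    have h := PresentedGroup.one_of_mem hm
    rw [map_mul, map_mul, map_inv] at h
    exact mul_inv_eq_one.mp h
  ya t u := by
    have hm : FreeGroup.of (false, t) * FreeGroup.of (false, u) *
        (FreeGroup.of (false, t + u))⁻¹ ∈ rels K := Or.inl ⟨false, t, u, rfl⟩
    have h := PresentedGroup.one_of_mem hm
    rw [map_mul, map_mul, map_inv] at h
    exact mul_inv_eq_one.mp h
  Bx t u ht := by
    have hm : (FreeGroup.of (true, t) * FreeGroup.of (false, -t⁻¹) * FreeGroup.of (true, t)) *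
        FreeGroup.of (true, u) *
        (FreeGroup.of (true, t) * FreeGroup.of (false, -t⁻¹) * FreeGroup.of (true, t))⁻¹ *
        (FreeGroup.of (false, -(t⁻¹ ^ 2 * u)))⁻¹ ∈ rels K := Or.inr ⟨true, t, u, ht, rfl⟩
    have h := PresentedGroup.one_of_mem hm
    simp only [map_mul, map_inv] at h
    exact mul_inv_eq_one.mp h
  By t u ht := by
    have hm : (FreeGroup.of (false, t) * FreeGroup.of (true, -t⁻¹) * FreeGroup.of (false, t)) *
        FreeGroup.of (false, u) *
        (FreeGroup.of (false, t) * FreeGroup.of (true, -t⁻¹) * FreeGroup.of (false, t))⁻¹ *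
        (FreeGroup.of (true, -(t⁻¹ ^ 2 * u)))⁻¹ ∈ rels K := Or.inr ⟨false, t, u, ht, rfl⟩
    have h := PresentedGroup.one_of_mem hm
    simp only [map_mul, map_inv] at h
    exact mul_inv_eq_one.mp h

lemma hgen_P : Subgroup.closure (Set.range (px (K := K)) ∪ Set.range py) = ⊤ := by
  rw [eq_top_iff, ← PresentedGroup.closure_range_of]
  apply Subgroup.closure_mono
  rintro _ ⟨⟨b, t⟩, rfl⟩
  cases b
  · exact Or.inr ⟨t, rfl⟩
  · exact Or.inl ⟨t, rfl⟩

/-- upper unitriangular -/
def X (t : K) : SpecialLinearGroup (Fin 2) K := ⟨!![1, t; 0, 1], by simp [Matrix.det_fin_two_of]⟩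
/-- lower unitriangular -/
def Y (t : K) : SpecialLinearGroup (Fin 2) K := ⟨!![1, 0; t, 1], by simp [Matrix.det_fin_two_of]⟩

/-- the underlying matrix, as a monoid hom -/
def mat : SpecialLinearGroup (Fin 2) K →* Matrix (Fin 2) (Fin 2) K where
  toFun A := A.1
  map_one' := rfl
  map_mul' _ _ := rfl

lemma mat_injective : Function.Injective (mat (K := K)) := fun _ _ h => Subtype.ext h

lemma X_val (t : K) : mat (X t) = !![1, t; 0, 1] := rfl

lemma Y_val (t : K) : mat (Y t) = !![1, 0; t, 1] := rfl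

lemma X_mul (t u : K) : X t * X u = X (t + u) := by
  apply mat_injective
  rw [map_mul, X_val, X_val, X_val, Matrix.mul_fin_two]
  simp [add_comm]

lemma Y_mul (t u : K) : Y t * Y u = Y (t + u) := by
  apply mat_injective
  rw [map_mul, Y_val, Y_val, Y_val, Matrix.mul_fin_two]
  simp [add_comm]

lemma wX_val {t : K} (ht : t ≠ 0) : mat (w X Y t) = !![0, t; -t⁻¹, 0] := by
  unfold w
  rw [map_mul, map_mul, X_val, Y_val, Matrix.mul_fin_two, Matrix.mul_fin_two]
  simp [ht]

lemma wY_val {t : K} (ht : t ≠ 0) : mat (w Y X t) = !![0, -t⁻¹; t, 0] := by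
  unfold w
  rw [map_mul, map_mul, X_val, Y_val, Matrix.mul_fin_two, Matrix.mul_fin_two]
  simp [ht]

lemma stdata_SL : StData (X (K := K)) Y where
  xa := X_mul
  ya := Y_mul
  Bx t u ht := by
    rw [mul_inv_eq_iff_eq_mul]
    apply mat_injective
    have := wX_val ht
    unfold w at this
    obtain ⟨W, hW⟩ : ∃ W, W = X t * Y (-t⁻¹) * X t := ⟨_, rfl⟩
    rw [← hW] at this ⊢
    rw [map_mul, map_mul, this, X_val, Y_val, Matrix.mul_fin_two, Matrix.mul_fin_two]
    simp
    field_simp
  By t u ht := by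
    rw [mul_inv_eq_iff_eq_mul]
    apply mat_injective
    have := wY_val ht
    unfold w at this
    obtain ⟨W, hW⟩ : ∃ W, W = Y t * X (-t⁻¹) * Y t := ⟨_, rfl⟩
    rw [← hW] at this ⊢
    rw [map_mul, map_mul, this, X_val, Y_val, Matrix.mul_fin_two, Matrix.mul_fin_two]
    simp
    field_simp

end Cfsg.Agent.H16ST
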