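import Mathlib
import Cfsg.Agent.H16ST5

set_option autoImplicit false

namespace Cfsg.Agent.H16ST

open Matrix

variable {K : Type*} [Field K]

/-- images of the generators -/
def gen : Bool × K → SpecialLinearGroup (Fin 2) K := fun p => cond p.1 (X p.2) (Y p.2)

lemma gen_rel : ∀ r ∈ rels K, FreeGroup.lift gen r = 1 := by
  rintro r (⟨b, t, u, rfl⟩ | ⟨b, t, u, ht, rfl⟩)
  · simp only [map_mul, map_inv, FreeGroup.lift_apply_of]
    cases b
    · show Y t * Y u * (Y (t + u))⁻¹ = 1
      rw [Y_mul, mul_inv_cancel]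
    · show X t * X u * (X (t + u))⁻¹ = 1
      rw [X_mul, mul_inv_cancel]
  · simp only [map_mul, map_inv, FreeGroup.lift_apply_of]
    cases b
    · show (Y t * X (-t⁻¹) * Y t) * Y u * (Y t * X (-t⁻¹) * Y t)⁻¹ *
        (X (-(t⁻¹ ^ 2 * u)))⁻¹ = 1
      rw [stdata_SL.By t u ht, mul_inv_cancel]
    · show (X t * Y (-t⁻¹) * X t) * X u * (X t * Y (-t⁻¹) * X t)⁻¹ *
        (Y (-(t⁻¹ ^ 2 * u)))⁻¹ = 1
      rw [stdata_SL.Bx t u ht, mul_inv_cancel]

/-- the comparison map -/
def phi : PresentedGroup (rels K) →* SpecialLinearGroup (Fin 2) K :=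
  PresentedGroup.toGroup gen_rel

lemma phi_px (t : K) : phi (px t) = X t := PresentedGroup.toGroup.of gen_rel
lemma phi_py (t : K) : phi (py t) = Y t := PresentedGroup.toGroup.of gen_rel

lemma map_w {Γ Δ : Type*} [Group Γ] [Group Δ] (f : Γ →* Δ) (x y : K → Γ) (t : K) :
    f (w x y t) = w (f ∘ x) (f ∘ y) t := by simp [w]

lemma map_h {Γ Δ : Type*} [Group Γ] [Group Δ] (f : Γ →* Δ) (x y : K → Γ) (t : K) :
    f (h x y t) = h (f ∘ x) (f ∘ y) t := by simp [h, w]

lemma hXY_val {t : K} (ht : t ≠ 0) : mat (h X Y t) = !![t, 0; 0, t⁻¹] := by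
  unfold h
  rw [map_mul, wX_val ht, wX_val (neg_ne_zero.mpr one_ne_zero), Matrix.mul_fin_two]
  simp

lemma phi_surj : Function.Surjective (phi (K := K)) := by
  have hX : ∀ t, X t ∈ (phi (K := K)).range := fun t => ⟨px t, phi_px t⟩
  have hY : ∀ t, Y t ∈ (phi (K := K)).range := fun t => ⟨py t, phi_py t⟩
  have hdet : ∀ g : SpecialLinearGroup (Fin 2) K,
      mat g 0 0 * mat g 1 1 - mat g 0 1 * mat g 1 0 = 1 := by
    intro g
    have := g.2
    rw [Matrix.det_fin_two] at this
    exact this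
  have key : ∀ g : SpecialLinearGroup (Fin 2) K, mat g 1 0 ≠ 0 → g ∈ (phi (K := K)).range := by
    intro g hc
    have hd := hdet g
    have : g = X ((mat g 0 0 - 1) / mat g 1 0) * Y (mat g 1 0) *
        X ((mat g 1 1 - 1) / mat g 1 0) := by
      apply mat_injective
      rw [map_mul, map_mul, X_val, Y_val, X_val, Matrix.mul_fin_two, Matrix.mul_fin_two]
      conv_lhs => rw [Matrix.eta_fin_two (mat g)]
      have e1 : mat g 0 1 = (mat g 0 0 * mat g 1 1 - 1) / mat g 1 0 := by
        rw [eq_div_iff hc]; linear_combination (-1 : K) * hd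
      rw [e1]
      congr 1
      ext i j
      fin_cases i <;> fin_cases j <;> simp <;> field_simp <;> ring
    rw [this]
    exact mul_mem (mul_mem (hX _) (hY _)) (hX _)
  intro g
  rw [← MonoidHom.mem_range]
  by_cases hc : mat g 1 0 = 0
  · have h1 : Y 1 * g ∈ (phi (K := K)).range := by
      apply key
      have hd := hdet g
      rw [hc, mul_zero, sub_zero] at hd
      have ha : mat g 0 0 ≠ 0 := left_ne_zero_of_mul_eq_one hd
      rw [map_mul, Y_val]
      conv_lhs => rw [Matrix.eta_fin_two (mat g)]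
      rw [Matrix.mul_fin_two]
      simpa [hc] using ha
    have : g = (Y 1)⁻¹ * (Y 1 * g) := by group
    rw [this]; exact mul_mem (inv_mem (hY 1)) h1
  · exact key g hc

lemma phi_inj [Finite K] : Function.Injective (phi (K := K)) := by
  rw [injective_iff_map_eq_one]
  intro γ hγ
  have hX : (⇑(phi (K := K)) ∘ px : K → SpecialLinearGroup (Fin 2) K) = X := funext phi_px
  have hY : (⇑(phi (K := K)) ∘ py : K → SpecialLinearGroup (Fin 2) K) = Y := funext phi_py
  have hnf := NF_univ stdata_P hgen_P γ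
  rcases hnf with ⟨a, t, ht, rfl⟩ | ⟨a, t, b, ht, rfl⟩
  · rw [map_mul, phi_px, map_h, hX, hY] at hγ
    have hm := congrArg mat hγ
    rw [map_mul, X_val, hXY_val ht, map_one, Matrix.mul_fin_two] at hm
    have h00 := congrFun (congrFun hm 0) 0
    have h01 := congrFun (congrFun hm 0) 1
    simp at h00 h01
    subst h00
    simp at h01
    subst h01
    rw [stdata_P.x_zero, stdata_P.h_one, mul_one]
  · exfalso
    rw [map_mul, map_mul, map_mul, phi_px, phi_px, map_h, map_w, hX, hY] at hγ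
    have hm := congrArg mat hγ
    rw [map_mul, map_mul, map_mul, X_val, X_val, hXY_val ht, wX_val one_ne_zero, map_one,
      Matrix.mul_fin_two, Matrix.mul_fin_two, Matrix.mul_fin_two] at hm
    have h10 := congrFun (congrFun hm 1) 0
    simp at h10
    exact ht h10

theorem main [Finite K] :
    ∃ e : PresentedGroup (rels K) ≃* Matrix.SpecialLinearGroup (Fin 2) K,
      (∀ t : K, ((e (PresentedGroup.of (true, t)) : Matrix (Fin 2) (Fin 2) K)) = !![1, t; 0, 1]) ∧
      (∀ t : K, ((e (PresentedGroup.of (false, t)) : Matrix (Fin 2) (Fin 2) K)) = !![1, 0; t, 1]) := by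
  refine ⟨MulEquiv.ofBijective phi ⟨phi_inj, phi_surj⟩, fun t => ?_, fun t => ?_⟩
  · exact congrArg Subtype.val (phi_px t)
  · exact congrArg Subtype.val (phi_py t)

end Cfsg.Agent.H16ST
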