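import Mathlib
import Cfsg.Agent.H16ST6

set_option autoImplicit false

namespace Cfsg.Agent.H16ST

open Matrix

variable {K : Type*} [Field K]

/-- the isomorphism from the presented group to `SL₂` -/
noncomputable def equivSL [Finite K] :
    PresentedGroup (rels K) ≃* SpecialLinearGroup (Fin 2) K :=
  MulEquiv.ofBijective phi ⟨phi_inj, phi_surj⟩

lemma equivSL_apply [Finite K] (γ : PresentedGroup (rels K)) : equivSL γ = phi γ := rfl

/-- any pair of families satisfying the relations gives a homomorphism -/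
lemma lift_of_stdata {Γ : Type*} [Group Γ] {x y : K → Γ} (d : StData x y) :
    ∃ ψ : PresentedGroup (rels K) →* Γ, (∀ t, ψ (px t) = x t) ∧ (∀ t, ψ (py t) = y t) := by
  let g : Bool × K → Γ := fun q => cond q.1 (x q.2) (y q.2)
  have hrel : ∀ r ∈ rels K, FreeGroup.lift g r = 1 := by
    rintro r (⟨b, t, u, rfl⟩ | ⟨b, t, u, ht, rfl⟩)
    · simp only [map_mul, map_inv, FreeGroup.lift_apply_of]
      cases b
      · show y t * y u * (y (t + u))⁻¹ = 1
        rw [d.ya, mul_inv_cancel]
      · show x t * x u * (x (t + u))⁻¹ = 1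
        rw [d.xa, mul_inv_cancel]
    · simp only [map_mul, map_inv, FreeGroup.lift_apply_of]
      cases b
      · show (y t * x (-t⁻¹) * y t) * y u * (y t * x (-t⁻¹) * y t)⁻¹ *
          (x (-(t⁻¹ ^ 2 * u)))⁻¹ = 1
        rw [d.By t u ht, mul_inv_cancel]
      · show (x t * y (-t⁻¹) * x t) * x u * (x t * y (-t⁻¹) * x t)⁻¹ *
          (y (-(t⁻¹ ^ 2 * u)))⁻¹ = 1
        rw [d.Bx t u ht, mul_inv_cancel]
  refine ⟨PresentedGroup.toGroup hrel, fun t => ?_, fun t => ?_⟩
  · exact PresentedGroup.toGroup.of hrel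
  · exact PresentedGroup.toGroup.of hrel

/-- the central element `-1` -/
noncomputable def zc (K : Type*) [Field K] : SpecialLinearGroup (Fin 2) K := phi (h px py (-1))

lemma mat_zc : mat (zc K) = !![-1, 0; 0, -1] := by
  have hX : (⇑(phi (K := K)) ∘ px : K → SpecialLinearGroup (Fin 2) K) = X := funext phi_px
  have hY : (⇑(phi (K := K)) ∘ py : K → SpecialLinearGroup (Fin 2) K) = Y := funext phi_py
  unfold zc
  rw [map_h, hX, hY, hXY_val (neg_ne_zero.mpr one_ne_zero), inv_neg, inv_one]

lemma scalar_neg_one : Matrix.scalar (Fin 2) (-1 : K) = !![-1, 0; 0, -1] := by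
  ext i j
  fin_cases i <;> fin_cases j <;> simp

lemma mem_center_iff' (g : SpecialLinearGroup (Fin 2) K) :
    g ∈ Subgroup.center (SpecialLinearGroup (Fin 2) K) ↔ g = 1 ∨ g = zc K := by
  rw [Matrix.SpecialLinearGroup.mem_center_iff]
  constructor
  · rintro ⟨r, hr, hg⟩
    have hg' : Matrix.scalar (Fin 2) r = mat g := hg
    have hr2 : r = 1 ∨ r = -1 := by
      have : r * r = 1 := by
        rw [← pow_two]; simpa using hr
      exact mul_self_eq_one_iff.mp this
    rcases hr2 with rfl | rfl
    · left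
      apply mat_injective
      rw [← hg', map_one, map_one]
    · right
      apply mat_injective
      rw [← hg', mat_zc, scalar_neg_one]
  · rintro (rfl | rfl)
    · exact ⟨1, one_pow _, by rw [map_one]; rfl⟩
    · refine ⟨-1, by simp, ?_⟩
      have : Matrix.scalar (Fin 2) (-1 : K) = mat (zc K) := by rw [mat_zc, scalar_neg_one]
      exact this

end Cfsg.Agent.H16ST
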