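import Mathlib
import Cfsg.Agent.H16RK3
import Cfsg.Agent.H16ST7

set_option autoImplicit false

namespace Cfsg.Agent.H16RK

open Cfsg.Agent.H16ST

variable {X : Type*} [Group X]

section zp
variable {p : ℕ} [Fact p.Prime]

/-- `g ^ t` for `t : ZMod p` -/
def zp (p : ℕ) (g : X) (t : ZMod p) : X := g ^ t.val

lemma pow_mod_eq {p : ℕ} {g : X} (hg : g ^ p = 1) (m : ℕ) : g ^ (m % p) = g ^ m := by
  conv_rhs => rw [← Nat.mod_add_div m p, pow_add, pow_mul, hg, one_pow, mul_one]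

lemma zp_add {g : X} (hg : g ^ p = 1) (t u : ZMod p) :
    zp p g (t + u) = zp p g t * zp p g u := by
  unfold zp
  rw [ZMod.val_add, pow_mod_eq hg, pow_add]

lemma zp_mul {g : X} (hg : g ^ p = 1) (t u : ZMod p) :
    zp p g (t * u) = (zp p g t) ^ u.val := by
  unfold zp
  rw [ZMod.val_mul, pow_mod_eq hg, pow_mul]

lemma zp_zero (g : X) : zp p g 0 = 1 := by
  unfold zp; rw [ZMod.val_zero, pow_zero]

lemma zp_one (g : X) : zp p g 1 = g := by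
  unfold zp
  haveI : Fact (1 < p) := ⟨(Fact.out : p.Prime).one_lt⟩
  rw [ZMod.val_one, pow_one]

lemma zp_neg {g : X} (hg : g ^ p = 1) (t : ZMod p) : zp p g (-t) = (zp p g t)⁻¹ := by
  have := zp_add hg (-t) t
  rw [neg_add_cancel, zp_zero] at this
  exact eq_inv_of_mul_eq_one_left this.symm

lemma zp_eq_one {g : X} (hg : g ^ p = 1) (hg1 : g ≠ 1) {t : ZMod p} (h : zp p g t = 1) :
    t = 0 := by
  have ho : orderOf g = p := orderOf_eq_prime hg hg1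
  unfold zp at h
  have hd := orderOf_dvd_of_pow_eq_one h
  rw [ho] at hd
  have hlt := ZMod.val_lt t
  have : t.val = 0 := Nat.eq_zero_of_dvd_of_lt hd hlt
  exact (ZMod.val_eq_zero t).mp this

lemma zp_inj {g : X} (hg : g ^ p = 1) (hg1 : g ≠ 1) {t u : ZMod p}
    (h : zp p g t = zp p g u) : t = u := by
  have : zp p g (t - u) = 1 := by
    rw [sub_eq_add_neg, zp_add hg, zp_neg hg, h, mul_inv_cancel]
  exact sub_eq_zero.mp (zp_eq_one hg hg1 this)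

end zp

variable {A B : Subgroup X} {p : ℕ} [Fact p.Prime]

lemma NT_of_exp (hp : ∀ x ∈ A, x ^ p = 1) {k : ℕ} (hk1 : 1 ≤ k) (hkp : k < p) : NT A k := by
  intro x hx hx1 hxk
  have ho : orderOf x = p := orderOf_eq_prime (hp x hx) hx1
  have hd := orderOf_dvd_of_pow_eq_one hxk
  rw [ho] at hd
  exact absurd (Nat.le_of_dvd hk1 hd) (not_le.mpr hkp)

lemma SR.R_zp (h : SR A B) (hp : ∀ x ∈ A, x ^ p = 1) {a b : X} (hR : R A B a b)
    {t : ZMod p} (ht : t ≠ 0) : R A B (zp p a t) (zp p b t⁻¹) := by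
  have hti : t⁻¹ ≠ 0 := inv_ne_zero ht
  obtain ⟨k, hk⟩ : ∃ k, k = (t⁻¹).val := ⟨_, rfl⟩
  have hk1 : 1 ≤ k := by
    rw [hk]
    exact Nat.one_le_iff_ne_zero.mpr (fun h0 => hti ((ZMod.val_eq_zero _).mp h0))
  have hkp : k < p := by rw [hk]; exact ZMod.val_lt _
  have hNT : NT A k := NT_of_exp hp hk1 hkp
  have hKB : KB A B k :=
    h.KB_all k hk1 (fun i hi1 hik => NT_of_exp hp hi1 (lt_trans hik hkp))
  have hak : a ^ k ≠ 1 := hNT a hR.1 hR.2.2.1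
  obtain ⟨w, hw, hwk, hRw⟩ := hKB a b hR hak
  have hap : a ^ p = 1 := hp a hR.1
  have hmem : zp p a t ∈ A := A.pow_mem hR.1 _
  have e : (zp p a t) ^ k = a := by
    rw [hk, ← zp_mul hap, mul_inv_cancel₀ ht, zp_one]
  have hwa : w = zp p a t := h.rootA hNT hw hmem (by rw [hwk, e])
  rw [← hwa]
  have : zp p b t⁻¹ = b ^ k := by rw [hk]; rfl
  rw [this]; exact hRw

lemma SR.stdata (h : SR A B) (hp : ∀ x ∈ A, x ^ p = 1) {a b : X} (hR : R A B a b) :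
    StData (zp p a) (zp p b) := by
  have hap : a ^ p = 1 := hp a hR.1
  have hbp : b ^ p = 1 := (h.transfer hR p).mp hap
  refine ⟨fun t u => (zp_add hap t u).symm, fun t u => (zp_add hbp t u).symm, ?_, ?_⟩
  · intro t u ht
    have hR' := h.R_zp hp hR ht
    have hbn := h.b_n hR'
    have e1 : zp p b (-t⁻¹) = (zp p b t⁻¹)⁻¹ := zp_neg hbp _
    have e2 : zp p a u = (zp p a t) ^ (t⁻¹ * u).val := by
      rw [← zp_mul hap, mul_inv_cancel_left₀ ht]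
    have e3 : zp p b (-(t⁻¹ ^ 2 * u)) = ((zp p b t⁻¹)⁻¹) ^ (t⁻¹ * u).val := by
      rw [← e1, ← zp_mul hbp]; congr 1; ring
    rw [e1, e2, e3]
    obtain ⟨α, hα⟩ : ∃ α, α = zp p a t := ⟨_, rfl⟩
    obtain ⟨β, hβ⟩ : ∃ β, β = zp p b t⁻¹ := ⟨_, rfl⟩
    rw [← hα, ← hβ] at hbn ⊢
    have key : (α * β⁻¹ * α) * α * (α * β⁻¹ * α)⁻¹ = β⁻¹ := by
      rw [← hbn]; group
    rw [← conj_pow, key]
  · intro t u ht
    have hs : -t⁻¹ ≠ 0 := neg_ne_zero.mpr (inv_ne_zero ht)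
    have hR' := h.R_zp hp hR hs
    have es : (-t⁻¹)⁻¹ = -t := by rw [inv_neg, inv_inv]
    rw [es] at hR'
    have hbr := h.braid hR'
    have han := h.a_n hR'
    have e1 : zp p b t = (zp p b (-t))⁻¹ := by rw [zp_neg hbp, inv_inv]
    have e2 : zp p b u = ((zp p b (-t))⁻¹) ^ (t⁻¹ * u).val := by
      rw [← e1, ← zp_mul hbp, mul_inv_cancel_left₀ ht]
    have e3 : zp p a (-(t⁻¹ ^ 2 * u)) = (zp p a (-t⁻¹)) ^ (t⁻¹ * u).val := by
      rw [← zp_mul hap]; congr 1; ring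
    rw [e2, e3, e1]
    obtain ⟨α, hα⟩ : ∃ α, α = zp p a (-t⁻¹) := ⟨_, rfl⟩
    obtain ⟨β, hβ⟩ : ∃ β, β = zp p b (-t) := ⟨_, rfl⟩
    rw [← hα, ← hβ] at hbr han ⊢
    have key : (α * β⁻¹ * α) * β⁻¹ * (α * β⁻¹ * α)⁻¹ = α := by
      rw [← han]; group
    rw [← hbr, ← conj_pow, key]

end Cfsg.Agent.H16RK
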