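import Mathlib
import Cfsg.Agent.H16RK4

set_option autoImplicit false

namespace Cfsg.Agent.H16RK

open Cfsg.Agent.H16ST

variable {X : Type*} [Group X] {A B : Subgroup X} {p : ℕ} [Fact p.Prime]

lemma SR.cjr_w (h : SR A B) (hp : ∀ x ∈ A, x ^ p = 1) {a b : X} (hR : R A B a b)
    {t : ZMod p} (ht : t ≠ 0) :
    cjr A (w (zp p a) (zp p b) t) = B ∧ cjr B (w (zp p a) (zp p b) t) = A := by
  have hap : a ^ p = 1 := hp a hR.1
  have hbp : b ^ p = 1 := (h.transfer hR p).mp hap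
  have hR' := h.R_zp hp hR ht
  unfold w
  rw [zp_neg hbp]
  exact ⟨h.cjrA_n hR', h.cjrB_n hR'⟩

lemma SR.cjr_h (h : SR A B) (hp : ∀ x ∈ A, x ^ p = 1) {a b : X} (hR : R A B a b)
    {t : ZMod p} (ht : t ≠ 0) :
    cjr A (H16ST.h (zp p a) (zp p b) t) = A ∧ cjr B (H16ST.h (zp p a) (zp p b) t) = B := by
  have hm : (-1 : ZMod p) ≠ 0 := neg_ne_zero.mpr one_ne_zero
  have h1 := h.cjr_w hp hR ht
  have h2 := h.cjr_w hp hR hm
  unfold H16ST.h
  rw [← cjr_mul, ← cjr_mul, h1.1, h1.2, h2.1, h2.2]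
  exact ⟨rfl, rfl⟩

lemma SR.ker_cases (h : SR A B) (hp : ∀ x ∈ A, x ^ p = 1) {a b : X} (hR : R A B a b)
    (ψ : PresentedGroup (rels (ZMod p)) →* X) (hx : ∀ t, ψ (px t) = zp p a t)
    (hy : ∀ t, ψ (py t) = zp p b t) {γ : PresentedGroup (rels (ZMod p))} (hγ : ψ γ = 1) :
    γ = 1 ∨ γ = H16ST.h px py (-1) := by
  have hap : a ^ p = 1 := hp a hR.1
  have hX : (⇑ψ ∘ px : ZMod p → X) = zp p a := funext hx
  have hY : (⇑ψ ∘ py : ZMod p → X) = zp p b := funext hy
  have d := h.stdata hp hR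
  rcases NF_univ stdata_P hgen_P γ with ⟨α', t, ht, rfl⟩ | ⟨α', t, β', ht, rfl⟩
  · rw [map_mul, hx, map_h, hX, hY] at hγ
    have hH : H16ST.h (zp p a) (zp p b) t = (zp p a α')⁻¹ := eq_inv_of_mul_eq_one_right hγ
    have hHA : H16ST.h (zp p a) (zp p b) t ∈ A := by
      rw [hH]; exact A.inv_mem (A.pow_mem hR.1 _)
    have hH1 : H16ST.h (zp p a) (zp p b) t = 1 :=
      h.normA_trivial hHA (h.cjr_h hp hR ht).2
    have hα : α' = 0 := by
      rw [hH1] at hH
      have : zp p a α' = 1 := by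
        have := hH.symm
        rwa [inv_eq_one] at this
      exact zp_eq_one hap hR.2.2.1 this
    have ht2 : t ^ 2 * 1 = 1 := by
      have := (d.P_h ht).1 1
      rw [hH1, one_mul, inv_one, mul_one] at this
      exact (zp_inj hap hR.2.2.1 this).symm
    rw [mul_one] at ht2
    have : t = 1 ∨ t = -1 := by
      have : t * t = 1 := by rw [← pow_two]; exact ht2
      exact mul_self_eq_one_iff.mp this
    rcases this with rfl | rfl
    · left
      rw [hα, stdata_P.x_zero, stdata_P.h_one, mul_one]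
    · right
      rw [hα, stdata_P.x_zero, one_mul]
  · exfalso
    rw [map_mul, map_mul, map_mul, hx, hx, map_h, map_w, hX, hY] at hγ
    have h1 : cjr A (zp p a α' * H16ST.h (zp p a) (zp p b) t * w (zp p a) (zp p b) 1 *
        zp p a β') = A := by rw [hγ, cjr_one]
    have hmem : ∀ u : ZMod p, zp p a u ∈ A := fun u => A.pow_mem hR.1 _
    rw [← cjr_mul, ← cjr_mul, ← cjr_mul, cjr_mem (hmem α'), (h.cjr_h hp hR ht).1,
      (h.cjr_w hp hR one_ne_zero).1] at h1
    have h2 : cjr (cjr B (zp p a β')) (zp p a β')⁻¹ = B := by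
      rw [cjr_mul, mul_inv_cancel, cjr_one]
    rw [h1, cjr_mem (A.inv_mem (hmem β'))] at h2
    exact h.ne h2

end Cfsg.Agent.H16RK
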