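import Mathlib
import Cfsg.Agent.H16RK5

set_option autoImplicit false

namespace Cfsg.Agent.H16RK

open Cfsg.Agent.H16ST

variable {X : Type*} [Group X] {A B : Subgroup X} {p : ℕ} [Fact p.Prime]

theorem SR.gen_iso (h : SR A B) (hp : ∀ x ∈ A, x ^ p = 1) {a b : X} (hR : R A B a b) :
    Nonempty (↥(Subgroup.closure ({a, b} : Set X)) ≃*
      Matrix.SpecialLinearGroup (Fin 2) (ZMod p)) ∨
    Nonempty (↥(Subgroup.closure ({a, b} : Set X)) ≃*
      Matrix.ProjectiveSpecialLinearGroup (Fin 2) (ZMod p)) := by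
  have d := h.stdata hp hR
  obtain ⟨ψ, hx, hy⟩ := lift_of_stdata d
  let e : PresentedGroup (rels (ZMod p)) ≃* Matrix.SpecialLinearGroup (Fin 2) (ZMod p) :=
    equivSL
  let ψ' : Matrix.SpecialLinearGroup (Fin 2) (ZMod p) →* X := ψ.comp e.symm.toMonoidHom
  -- the range
  have hrange : ψ'.range = Subgroup.closure ({a, b} : Set X) := by
    have h1 : ψ'.range = ψ.range := by
      ext g
      constructor
      · rintro ⟨s, rfl⟩; exact ⟨e.symm s, rfl⟩
      · rintro ⟨γ, rfl⟩; exact ⟨e γ, by simp [ψ']⟩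
    rw [h1]
    apply le_antisymm
    · rw [MonoidHom.range_eq_map, ← hgen_P, MonoidHom.map_closure, Subgroup.closure_le]
      rintro _ ⟨γ, (⟨t, rfl⟩ | ⟨t, rfl⟩), rfl⟩
      · rw [hx]
        exact Subgroup.pow_mem _ (Subgroup.subset_closure (by simp)) _
      · rw [hy]
        exact Subgroup.pow_mem _ (Subgroup.subset_closure (by simp)) _
    · rw [Subgroup.closure_le]
      rintro g (rfl | rfl)
      · exact ⟨px 1, by rw [hx, zp_one]⟩
      · exact ⟨py 1, by rw [hy, zp_one]⟩
  have hker : ∀ g, g ∈ ψ'.ker → g = 1 ∨ g = zc (ZMod p) := by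
    intro g hg
    have hg' : ψ (e.symm g) = 1 := hg
    rcases h.ker_cases hp hR ψ hx hy hg' with h1 | h1
    · left
      have := congrArg e h1
      rwa [MulEquiv.apply_symm_apply, map_one] at this
    · right
      have := congrArg e h1
      rwa [MulEquiv.apply_symm_apply] at this
  by_cases hk : ψ'.ker = ⊥
  · left
    have hinj : Function.Injective ψ' := (MonoidHom.ker_eq_bot_iff ψ').mp hk
    exact ⟨((MonoidHom.ofInjective hinj).trans (MulEquiv.subgroupCongr hrange)).symm⟩
  · right
    obtain ⟨⟨g, hg⟩, hg1⟩ := Subgroup.ne_bot_iff_exists_ne_one.mp hk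
    have hg1' : g ≠ 1 := fun h0 => hg1 (Subtype.ext h0)
    have hz : zc (ZMod p) ∈ ψ'.ker := by
      rcases hker g hg with h1 | h1
      · exact absurd h1 hg1'
      · rw [← h1]; exact hg
    have hkc : ψ'.ker = Subgroup.center (Matrix.SpecialLinearGroup (Fin 2) (ZMod p)) := by
      ext s
      rw [mem_center_iff']
      constructor
      · exact hker s
      · rintro (rfl | rfl)
        · exact one_mem _
        · exact hz
    exact ⟨(((QuotientGroup.quotientMulEquivOfEq hkc.symm).trans
      (QuotientGroup.quotientKerEquivRange ψ')).trans (MulEquiv.subgroupCongr hrange)).symm⟩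

end Cfsg.Agent.H16RK
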