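import Mathlib

set_option autoImplicit false

namespace Cfsg.Agent.H16SM

/-- transfer into a commutative subgroup: central commutator elements are killed by the index -/
theorem central_pow_index {Γ : Type*} [Group Γ] [Finite Γ] (R : Subgroup Γ)
    (hR : ∀ a ∈ R, ∀ b ∈ R, a * b = b * a) (z : Γ) (hz : z ∈ Subgroup.center Γ)
    (hz' : z ∈ commutator Γ) : z ^ R.index = 1 := by
  letI : CommGroup R :=
    { (inferInstance : Group R) with mul_comm := fun a b => Subtype.ext (hR a a.2 b b.2) }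
  have hzc : ∀ g : Γ, g * z = z * g := Subgroup.mem_center_iff.mp hz
  have hzk : ∀ (k : ℕ) (g : Γ), g * z ^ k = z ^ k * g := by
    intro k g
    exact (Commute.pow_right (hzc g) k)
  have key : ∀ (k : ℕ) (g₀ : Γ), g₀⁻¹ * z ^ k * g₀ ∈ R → g₀⁻¹ * z ^ k * g₀ = z ^ k := by
    intro k g₀ _
    rw [hzk k g₀⁻¹, mul_assoc, inv_mul_cancel, mul_one]
  have h1 := MonoidHom.transfer_eq_pow (MonoidHom.id R) z key
  have h2 : MonoidHom.transfer (MonoidHom.id R) z = 1 := by
    have := Abelianization.commutator_subset_ker (MonoidHom.transfer (MonoidHom.id R)) hz'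
    exact MonoidHom.mem_ker.mp this
  rw [h2] at h1
  have h3 := congrArg Subtype.val h1
  simpa using h3.symm

section cm

variable {Γ : Type*} [Group Γ]

/-- the commutator of two elements -/
def cm (a b : Γ) : Γ := a * b * a⁻¹ * b⁻¹

lemma cm_self (a : Γ) : cm a a = 1 := by unfold cm; group

lemma cm_eq_one_iff (a b : Γ) : cm a b = 1 ↔ a * b = b * a := by
  unfold cm
  constructor
  · intro h
    have : a * b = (a * b * a⁻¹ * b⁻¹) * (b * a) := by group
    rw [this, h, one_mul]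
  · intro h
    calc a * b * a⁻¹ * b⁻¹ = (a * b) * a⁻¹ * b⁻¹ := by group
      _ = (b * a) * a⁻¹ * b⁻¹ := by rw [h]
      _ = 1 := by group

lemma cm_mul_left (a a' b : Γ) (h : cm a' b ∈ Subgroup.center Γ) :
    cm (a * a') b = cm a b * cm a' b := by
  have hc : ∀ g : Γ, g * cm a' b = cm a' b * g := Subgroup.mem_center_iff.mp h
  calc cm (a * a') b = a * cm a' b * (b * a⁻¹ * b⁻¹) := by unfold cm; group
    _ = cm a' b * a * (b * a⁻¹ * b⁻¹) := by rw [hc a]
    _ = cm a' b * cm a b := by unfold cm; group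
    _ = cm a b * cm a' b := (hc _).symm

lemma cm_mul_right (a b b' : Γ) (h : cm a b' ∈ Subgroup.center Γ) :
    cm a (b * b') = cm a b * cm a b' := by
  have hc : ∀ g : Γ, g * cm a b' = cm a b' * g := Subgroup.mem_center_iff.mp h
  calc cm a (b * b') = (a * b * a⁻¹ * b⁻¹) * (b * cm a b') * b⁻¹ := by unfold cm; group
    _ = (a * b * a⁻¹ * b⁻¹) * (cm a b' * b) * b⁻¹ := by rw [hc b]
    _ = cm a b * cm a b' := by unfold cm; group

lemma cm_conj (g a b : Γ) (h : cm a b ∈ Subgroup.center Γ) :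
    cm (g * a * g⁻¹) (g * b * g⁻¹) = cm a b := by
  have hc : ∀ g : Γ, g * cm a b = cm a b * g := Subgroup.mem_center_iff.mp h
  calc cm (g * a * g⁻¹) (g * b * g⁻¹) = g * cm a b * g⁻¹ := by unfold cm; group
    _ = cm a b * g * g⁻¹ := by rw [hc g]
    _ = cm a b := by group

lemma cm_central_left (a k b : Γ) (hk : k ∈ Subgroup.center Γ) : cm (a * k) b = cm a b := by
  have hc : ∀ g : Γ, g * k = k * g := Subgroup.mem_center_iff.mp hk
  unfold cm
  calc a * k * b * (a * k)⁻¹ * b⁻¹ = a * (k * b) * k⁻¹ * a⁻¹ * b⁻¹ := by group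
    _ = a * (b * k) * k⁻¹ * a⁻¹ * b⁻¹ := by rw [hc b]
    _ = a * b * a⁻¹ * b⁻¹ := by group

lemma cm_central_right (a b k : Γ) (hk : k ∈ Subgroup.center Γ) : cm a (b * k) = cm a b := by
  have hc : ∀ g : Γ, g * k = k * g := Subgroup.mem_center_iff.mp hk
  unfold cm
  calc a * (b * k) * a⁻¹ * (b * k)⁻¹ = a * b * (k * a⁻¹) * k⁻¹ * b⁻¹ := by group
    _ = a * b * (a⁻¹ * k) * k⁻¹ * b⁻¹ := by rw [hc a⁻¹]
    _ = a * b * a⁻¹ * b⁻¹ := by group

end cm

end Cfsg.Agent.H16SM
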