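import Mathlib
import Cfsg.Agent.H16SM1

set_option autoImplicit false

namespace Cfsg.Agent.H16SM

section form

variable {Γ G F : Type*} [Group Γ] [Group G] [Field F] (σ : Γ →* G)
  (hs : Function.Surjective σ) (hc : σ.ker ≤ Subgroup.center Γ)
  (X : F → G) (hX : ∀ t u, X (t + u) = X t * X u)
  (Hc : F → G) (hH : ∀ c : F, c ≠ 0 → ∀ t, Hc c * X t * (Hc c)⁻¹ = X (c ^ 2 * t))

/-- chosen lifts -/
noncomputable def lft (hs : Function.Surjective σ) (X : F → G) (t : F) : Γ :=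
  Classical.choose (hs (X t))

lemma lft_spec (t : F) : σ (lft σ hs X t) = X t := Classical.choose_spec (hs (X t))

/-- the commutator form -/
noncomputable def CC (hs : Function.Surjective σ) (X : F → G) (t u : F) : Γ :=
  cm (lft σ hs X t) (lft σ hs X u)

include hX in
lemma X_comm (t u : F) : X t * X u = X u * X t := by
  rw [← hX, ← hX, add_comm]

include hX hc in
lemma cm_mem_center {a b : Γ} {t u : F} (ha : σ a = X t) (hb : σ b = X u) :
    cm a b ∈ Subgroup.center Γ := by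
  apply hc
  rw [MonoidHom.mem_ker]
  unfold cm
  rw [map_mul, map_mul, map_mul, map_inv, map_inv, ha, hb, X_comm X hX t u]
  group

include hX hc in
lemma cm_eq_CC {a b : Γ} {t u : F} (ha : σ a = X t) (hb : σ b = X u) :
    cm a b = CC σ hs X t u := by
  have h1 : (lft σ hs X t)⁻¹ * a ∈ Subgroup.center Γ := by
    apply hc
    rw [MonoidHom.mem_ker, map_mul, map_inv, lft_spec, ha, inv_mul_cancel]
  have h2 : (lft σ hs X u)⁻¹ * b ∈ Subgroup.center Γ := by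
    apply hc
    rw [MonoidHom.mem_ker, map_mul, map_inv, lft_spec, hb, inv_mul_cancel]
  have e1 : a = lft σ hs X t * ((lft σ hs X t)⁻¹ * a) := by group
  have e2 : b = lft σ hs X u * ((lft σ hs X u)⁻¹ * b) := by group
  rw [e1, e2, cm_central_left _ _ _ h1, cm_central_right _ _ _ h2]
  rfl

include hX hc in
lemma CC_center (t u : F) : CC σ hs X t u ∈ Subgroup.center Γ :=
  cm_mem_center σ hc X hX (lft_spec σ hs X t) (lft_spec σ hs X u)

include hX hc in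
lemma CC_add_left (t t' u : F) :
    CC σ hs X (t + t') u = CC σ hs X t u * CC σ hs X t' u := by
  have h : σ (lft σ hs X t * lft σ hs X t') = X (t + t') := by
    rw [map_mul, lft_spec, lft_spec, hX]
  rw [← cm_eq_CC σ hs hc X hX h (lft_spec σ hs X u)]
  exact cm_mul_left _ _ _ (CC_center σ hs hc X hX t' u)

include hX hc in
lemma CC_add_right (t u u' : F) :
    CC σ hs X t (u + u') = CC σ hs X t u * CC σ hs X t u' := by
  have h : σ (lft σ hs X u * lft σ hs X u') = X (u + u') := by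
    rw [map_mul, lft_spec, lft_spec, hX]
  rw [← cm_eq_CC σ hs hc X hX (lft_spec σ hs X t) h]
  exact cm_mul_right _ _ _ (CC_center σ hs hc X hX t u')

include hX hc in
lemma CC_zero_right (t : F) : CC σ hs X t 0 = 1 := by
  have := CC_add_right σ hs hc X hX t 0 0
  rw [add_zero] at this
  exact (mul_eq_left.mp this.symm)

include hX hc in
lemma CC_neg_right (t u : F) : CC σ hs X t (-u) = (CC σ hs X t u)⁻¹ := by
  have := CC_add_right σ hs hc X hX t u (-u)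
  rw [add_neg_cancel, CC_zero_right σ hs hc X hX] at this
  exact (eq_inv_of_mul_eq_one_right this.symm)

include hX hc hH in
lemma CC_conj (c : F) (hc0 : c ≠ 0) (t u : F) :
    CC σ hs X (c ^ 2 * t) (c ^ 2 * u) = CC σ hs X t u := by
  obtain ⟨g, hg⟩ := hs (Hc c)
  have h1 : σ (g * lft σ hs X t * g⁻¹) = X (c ^ 2 * t) := by
    rw [map_mul, map_mul, map_inv, hg, lft_spec, hH c hc0]
  have h2 : σ (g * lft σ hs X u * g⁻¹) = X (c ^ 2 * u) := by
    rw [map_mul, map_mul, map_inv, hg, lft_spec, hH c hc0]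
  rw [← cm_eq_CC σ hs hc X hX h1 h2]
  exact cm_conj _ _ _ (CC_center σ hs hc X hX t u)

include hX hc hH in
lemma CC_shift (c : F) (hc0 : c ≠ 0) (t u : F) :
    CC σ hs X (c ^ 2 * t) u = CC σ hs X t ((c ^ 2)⁻¹ * u) := by
  have h := CC_conj σ hs hc X hX Hc hH c hc0 t ((c ^ 2)⁻¹ * u)
  have hne : c ^ 2 ≠ 0 := pow_ne_zero 2 hc0
  rw [← mul_assoc, mul_inv_cancel₀ hne, one_mul] at h
  exact h

include hX hc hH in
/-- if a sum of two nonzero squares is a nonzero square in a nondegenerate way, the form is trivial -/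
lemma CC_trivial (c₁ c₂ c₃ : F) (h1 : c₁ ≠ 0) (h2 : c₂ ≠ 0) (h3 : c₃ ≠ 0)
    (hsum : c₁ ^ 2 + c₂ ^ 2 = c₃ ^ 2)
    (hd : (c₁ ^ 2)⁻¹ + (c₂ ^ 2)⁻¹ - (c₃ ^ 2)⁻¹ ≠ 0) (t u : F) : CC σ hs X t u = 1 := by
  have key : ∀ v : F, CC σ hs X t (((c₁ ^ 2)⁻¹ + (c₂ ^ 2)⁻¹ - (c₃ ^ 2)⁻¹) * v) = 1 := by
    intro v
    have e1 : CC σ hs X (c₃ ^ 2 * t) v = CC σ hs X t ((c₃ ^ 2)⁻¹ * v) :=
      CC_shift σ hs hc X hX Hc hH c₃ h3 t v
    have e2 : CC σ hs X (c₃ ^ 2 * t) v =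
        CC σ hs X t ((c₁ ^ 2)⁻¹ * v) * CC σ hs X t ((c₂ ^ 2)⁻¹ * v) := by
      rw [← hsum, add_mul, CC_add_left σ hs hc X hX, CC_shift σ hs hc X hX Hc hH c₁ h1,
        CC_shift σ hs hc X hX Hc hH c₂ h2]
    rw [sub_mul, add_mul, sub_eq_add_neg, CC_add_right σ hs hc X hX, CC_add_right σ hs hc X hX,
      CC_neg_right σ hs hc X hX, ← e2, e1, mul_inv_cancel]
  have := key (((c₁ ^ 2)⁻¹ + (c₂ ^ 2)⁻¹ - (c₃ ^ 2)⁻¹)⁻¹ * u)
  rwa [← mul_assoc, mul_inv_cancel₀ hd, one_mul] at this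

include hX hc in
lemma CC_nat (n m : ℕ) (t u : F) :
    CC σ hs X ((n : F) * t) ((m : F) * u) = (CC σ hs X t u) ^ (n * m) := by
  have hr : ∀ m : ℕ, ∀ t' : F, CC σ hs X t' ((m : F) * u) = (CC σ hs X t' u) ^ m := by
    intro m t'
    induction m with
    | zero => rw [Nat.cast_zero, zero_mul, CC_zero_right σ hs hc X hX, pow_zero]
    | succ k ih =>
      rw [Nat.cast_succ, add_mul, one_mul, CC_add_right σ hs hc X hX, ih, pow_succ]
  have hl : ∀ n : ℕ, CC σ hs X ((n : F) * t) u = (CC σ hs X t u) ^ n := by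
    intro n
    induction n with
    | zero =>
      rw [Nat.cast_zero, zero_mul, pow_zero]
      have := CC_add_left σ hs hc X hX 0 0 u
      rw [add_zero] at this
      exact (mul_eq_left.mp this.symm)
    | succ k ih =>
      rw [Nat.cast_succ, add_mul, one_mul, CC_add_left σ hs hc X hX, ih, pow_succ]
  rw [hr, hl, ← pow_mul]

include hs hX hc hH in
/-- the preimage of the root group is commutative -/
theorem comap_comm
    (hyp : (∀ t : F, ∃ n : ℕ, t = (n : F)) ∨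
      ∃ c₁ c₂ c₃ : F, c₁ ≠ 0 ∧ c₂ ≠ 0 ∧ c₃ ≠ 0 ∧ c₁ ^ 2 + c₂ ^ 2 = c₃ ^ 2 ∧
        (c₁ ^ 2)⁻¹ + (c₂ ^ 2)⁻¹ - (c₃ ^ 2)⁻¹ ≠ 0)
    (a b : Γ) (ha : σ a ∈ Set.range X) (hb : σ b ∈ Set.range X) : a * b = b * a := by
  obtain ⟨t, ht⟩ := ha
  obtain ⟨u, hu⟩ := hb
  rw [← cm_eq_one_iff, cm_eq_CC σ hs hc X hX ht.symm hu.symm]
  rcases hyp with hyp | ⟨c₁, c₂, c₃, h1, h2, h3, hsum, hd⟩
  · obtain ⟨n, rfl⟩ := hyp t
    obtain ⟨m, rfl⟩ := hyp u
    have := CC_nat σ hs hc X hX n m 1 1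
    rw [mul_one, mul_one] at this
    rw [this]
    have h11 : CC σ hs X (1 : F) 1 = 1 := cm_self _
    rw [h11, one_pow]
  · exact CC_trivial σ hs hc X hX Hc hH c₁ c₂ c₃ h1 h2 h3 hsum hd t u

end form

end Cfsg.Agent.H16SM
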