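import Mathlib

set_option autoImplicit false

namespace Cfsg.Agent.H16SM

open Polynomial

section fld

variable {F : Type*} [Field F]

lemma delta_ne (c₁ c₂ c₃ : F) (h1 : c₁ ≠ 0) (h2 : c₂ ≠ 0) (h3 : c₃ ≠ 0)
    (hsum : c₁ ^ 2 + c₂ ^ 2 = c₃ ^ 2) (hd : c₃ ^ 4 - c₁ ^ 2 * c₂ ^ 2 ≠ 0) :
    (c₁ ^ 2)⁻¹ + (c₂ ^ 2)⁻¹ - (c₃ ^ 2)⁻¹ ≠ 0 := by
  intro h
  apply hd
  have h' : ((c₁ ^ 2)⁻¹ + (c₂ ^ 2)⁻¹ - (c₃ ^ 2)⁻¹) * (c₁ ^ 2 * c₂ ^ 2 * c₃ ^ 2) = 0 := by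
    rw [h, zero_mul]
  have e : ((c₁ ^ 2)⁻¹ + (c₂ ^ 2)⁻¹ - (c₃ ^ 2)⁻¹) * (c₁ ^ 2 * c₂ ^ 2 * c₃ ^ 2) =
      c₃ ^ 2 * (c₁ ^ 2 + c₂ ^ 2) - c₁ ^ 2 * c₂ ^ 2 := by
    field_simp
    ring
  rw [e, hsum] at h'
  rw [← h']
  ring

lemma all_nat [Fintype F] (p : ℕ) (hp : p.Prime) (hcard : Fintype.card F = p) :
    ∀ t : F, ∃ n : ℕ, t = (n : F) := by
  intro t
  let e := ZMod.ringEquivOfPrime F hp hcard
  haveI : NeZero p := ⟨hp.ne_zero⟩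
  refine ⟨(e.symm t).val, ?_⟩
  have h1 : e (e.symm t) = t := e.apply_symm_apply t
  have h2 : e (e.symm t) = (((e.symm t).val : ℕ) : F) := by
    conv_lhs => rw [← ZMod.natCast_zmod_val (e.symm t)]
    rw [map_natCast]
  exact h1.symm.trans h2

lemma exists_good_two [Fintype F] [CharP F 2] (hcard : 8 ≤ Fintype.card F) :
    ∃ c₁ c₂ c₃ : F, c₁ ≠ 0 ∧ c₂ ≠ 0 ∧ c₃ ≠ 0 ∧ c₁ ^ 2 + c₂ ^ 2 = c₃ ^ 2 ∧
      (c₁ ^ 2)⁻¹ + (c₂ ^ 2)⁻¹ - (c₃ ^ 2)⁻¹ ≠ 0 := by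
  let f : F[X] := X * (X + 1) * (X ^ 4 + X ^ 2 + 1)
  have hf0 : f ≠ 0 := by
    have : f.Monic := by
      show (X * (X + 1) * (X ^ 4 + X ^ 2 + 1) : F[X]).Monic
      monicity!
    exact this.ne_zero
  have hdeg : f.natDegree ≤ 6 := by
    show (X * (X + 1) * (X ^ 4 + X ^ 2 + 1) : F[X]).natDegree ≤ 6
    compute_degree
  have hlt : (f.natDegree : Cardinal) < Cardinal.mk F := by
    rw [Cardinal.mk_fintype]
    exact_mod_cast lt_of_le_of_lt hdeg (by omega)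
  obtain ⟨a, ha⟩ := f.exists_eval_ne_zero_of_natDegree_lt_card hf0 hlt
  have ha' : a * (a + 1) * (a ^ 4 + a ^ 2 + 1) ≠ 0 := by
    simpa [f] using ha
  have h2 : (2 : F) = 0 := CharP.ofNat_eq_zero F 2
  have ha0 : a ≠ 0 := fun h => ha' (by rw [h]; ring)
  have ha1 : a + 1 ≠ 0 := fun h => ha' (by rw [h]; ring)
  have ha2 : a ^ 4 + a ^ 2 + 1 ≠ 0 := fun h => ha' (by rw [h]; ring)
  have hsum : a ^ 2 + 1 ^ 2 = (a + 1) ^ 2 := by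
    have : (a + 1) ^ 2 = a ^ 2 + 1 ^ 2 + 2 * a := by ring
    rw [this, h2, zero_mul, add_zero]
  refine ⟨a, 1, a + 1, ha0, one_ne_zero, ha1, hsum, ?_⟩
  apply delta_ne a 1 (a + 1) ha0 one_ne_zero ha1 hsum
  have : (a + 1) ^ 4 - a ^ 2 * 1 ^ 2 = a ^ 4 + a ^ 2 + 1 + 2 * (2 * a ^ 3 + 3 * a ^ 2 + 2 * a - a ^ 2) := by
    ring
  rw [this, h2, zero_mul, add_zero]
  exact ha2

lemma exists_good_odd [Fintype F] (h2 : (2 : F) ≠ 0) (hcard : 14 ≤ Fintype.card F) :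
    ∃ c₁ c₂ c₃ : F, c₁ ≠ 0 ∧ c₂ ≠ 0 ∧ c₃ ≠ 0 ∧ c₁ ^ 2 + c₂ ^ 2 = c₃ ^ 2 ∧
      (c₁ ^ 2)⁻¹ + (c₂ ^ 2)⁻¹ - (c₃ ^ 2)⁻¹ ≠ 0 := by
  let f : F[X] := X * (X ^ 4 - 1) * (X ^ 8 + 14 * X ^ 4 + 1)
  have hf0 : f ≠ 0 := by
    have : f.Monic := by
      show (X * (X ^ 4 - 1) * (X ^ 8 + 14 * X ^ 4 + 1) : F[X]).Monic
      monicity!
    exact this.ne_zero
  have hdeg : f.natDegree ≤ 13 := by
    show (X * (X ^ 4 - 1) * (X ^ 8 + 14 * X ^ 4 + 1) : F[X]).natDegree ≤ 13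
    compute_degree
  have hlt : (f.natDegree : Cardinal) < Cardinal.mk F := by
    rw [Cardinal.mk_fintype]
    exact_mod_cast lt_of_le_of_lt hdeg (by omega)
  obtain ⟨u, hu⟩ := f.exists_eval_ne_zero_of_natDegree_lt_card hf0 hlt
  have hu' : u * (u ^ 4 - 1) * (u ^ 8 + 14 * u ^ 4 + 1) ≠ 0 := by
    simpa [f] using hu
  have hu0 : u ≠ 0 := fun h => hu' (by rw [h]; ring)
  have hu1 : u ^ 4 - 1 ≠ 0 := fun h => hu' (by rw [h]; ring)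
  have hu2 : u ^ 8 + 14 * u ^ 4 + 1 ≠ 0 := fun h => hu' (by rw [h]; ring)
  have hc1 : 1 - u ^ 2 ≠ 0 := by
    intro h
    apply hu1
    have : u ^ 4 - 1 = -(1 - u ^ 2) * (1 + u ^ 2) := by ring
    rw [this, h]; ring
  have hc3 : 1 + u ^ 2 ≠ 0 := by
    intro h
    apply hu1
    have : u ^ 4 - 1 = -(1 - u ^ 2) * (1 + u ^ 2) := by ring
    rw [this, h]; ring
  have hc2 : 2 * u ≠ 0 := mul_ne_zero h2 hu0
  have hsum : (1 - u ^ 2) ^ 2 + (2 * u) ^ 2 = (1 + u ^ 2) ^ 2 := by ring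
  refine ⟨1 - u ^ 2, 2 * u, 1 + u ^ 2, hc1, hc2, hc3, hsum, ?_⟩
  apply delta_ne _ _ _ hc1 hc2 hc3 hsum
  have : (1 + u ^ 2) ^ 4 - (1 - u ^ 2) ^ 2 * (2 * u) ^ 2 = u ^ 8 + 14 * u ^ 4 + 1 := by ring
  rw [this]
  exact hu2

/-- the field hypothesis -/
theorem field_hyp [Fintype F] (h4 : Fintype.card F ≠ 4) (h9 : Fintype.card F ≠ 9) :
    (∀ t : F, ∃ n : ℕ, t = (n : F)) ∨
      ∃ c₁ c₂ c₃ : F, c₁ ≠ 0 ∧ c₂ ≠ 0 ∧ c₃ ≠ 0 ∧ c₁ ^ 2 + c₂ ^ 2 = c₃ ^ 2 ∧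
        (c₁ ^ 2)⁻¹ + (c₂ ^ 2)⁻¹ - (c₃ ^ 2)⁻¹ ≠ 0 := by
  obtain ⟨p, hchar⟩ := CharP.exists F
  haveI := hchar
  obtain ⟨n, hp, hn⟩ := FiniteField.card F p
  by_cases hn1 : (n : ℕ) = 1
  · left
    rw [hn1, pow_one] at hn
    exact all_nat p hp hn
  right
  have hn2 : 2 ≤ (n : ℕ) := by
    have := n.pos
    omega
  have hpow : p ^ 2 ≤ p ^ (n : ℕ) := Nat.pow_le_pow_right hp.pos hn2
  by_cases hp2 : p = 2
  · subst hp2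
    apply exists_good_two
    rw [hn]
    by_cases hn3 : (n : ℕ) = 2
    · exfalso; apply h4; rw [hn, hn3]; norm_num
    have : 3 ≤ (n : ℕ) := by omega
    calc 8 = 2 ^ 3 := by norm_num
      _ ≤ 2 ^ (n : ℕ) := Nat.pow_le_pow_right (by norm_num) this
  · have h2F : (2 : F) ≠ 0 := by
      intro h
      have : ((2 : ℕ) : F) = 0 := by exact_mod_cast h
      rw [CharP.cast_eq_zero_iff F p] at this
      have := (Nat.prime_dvd_prime_iff_eq hp Nat.prime_two).mp this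
      exact hp2 this
    apply exists_good_odd h2F
    rw [hn]
    have hp3 : 3 ≤ p := by
      have := hp.two_le
      omega
    by_cases hp3' : p = 3
    · subst hp3'
      by_cases hn3 : (n : ℕ) = 2
      · exfalso; apply h9; rw [hn, hn3]; norm_num
      have : 3 ≤ (n : ℕ) := by omega
      calc 14 ≤ 3 ^ 3 := by norm_num
        _ ≤ 3 ^ (n : ℕ) := Nat.pow_le_pow_right (by norm_num) this
    · have hp5 : 5 ≤ p := by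
        rcases Nat.lt_or_ge p 5 with h | h
        · exfalso
          interval_cases p
          · exact hp3' rfl
          · exact absurd hp (by norm_num)
        · exact h
      calc 14 ≤ 5 ^ 2 := by norm_num
        _ ≤ p ^ 2 := Nat.pow_le_pow_left hp5 2
        _ ≤ p ^ (n : ℕ) := hpow

end fld

end Cfsg.Agent.H16SM
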