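import Mathlib
import Cfsg.Agent.H16SM2
import Cfsg.Agent.H16SM3
import Cfsg.Agent.H16ST5
import Cfsg.Agent.Lib_helper12_Card

set_option autoImplicit false

namespace Cfsg.Agent.H16SM

open Matrix Cfsg.Agent.H16ST

variable {F : Type*} [Field F]

/-- the diagonal elements, nonzero parameter -/
def HdU (c : F) (h : c ≠ 0) : SpecialLinearGroup (Fin 2) F :=
  ⟨!![c, 0; 0, c⁻¹], by simp [Matrix.det_fin_two_of, h]⟩

open Classical in
/-- the diagonal elements -/
noncomputable def Hd (c : F) : SpecialLinearGroup (Fin 2) F :=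
  if h : c = 0 then 1 else HdU c h

lemma Hd_val {c : F} (h : c ≠ 0) : mat (Hd c) = !![c, 0; 0, c⁻¹] := by
  unfold Hd
  rw [dif_neg h]
  rfl

lemma Hd_conj (c : F) (hc : c ≠ 0) (t : F) : Hd c * X t * (Hd c)⁻¹ = X (c ^ 2 * t) := by
  rw [mul_inv_eq_iff_eq_mul]
  apply mat_injective
  rw [map_mul, map_mul, Hd_val hc, X_val, X_val]
  ext i j
  fin_cases i <;> fin_cases j <;> simp [Matrix.mul_apply, Fin.sum_univ_two]
  field_simp

lemma X_add (t u : F) : X (t + u) = X t * X u := (X_mul t u).symm

lemma X_injective : Function.Injective (X (K := F)) := by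
  intro t u h
  have := congrArg mat h
  rw [X_val, X_val] at this
  have h2 := congrFun (congrFun this 0) 1
  simpa using h2

/-- the root group as a hom -/
def XHom : Multiplicative F →* SpecialLinearGroup (Fin 2) F where
  toFun t := X (Multiplicative.toAdd t)
  map_one' := by
    show X (0 : F) = 1
    apply mat_injective
    rw [X_val, map_one]
    ext i j
    fin_cases i <;> fin_cases j <;> simp
  map_mul' a b := by
    show X (Multiplicative.toAdd a + Multiplicative.toAdd b) = _
    exact X_add _ _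

lemma mem_range_XHom (g : SpecialLinearGroup (Fin 2) F) :
    g ∈ (XHom (F := F)).range ↔ g ∈ Set.range (X (K := F)) := by
  constructor
  · rintro ⟨t, rfl⟩
    exact ⟨Multiplicative.toAdd t, rfl⟩
  · rintro ⟨t, rfl⟩
    exact ⟨Multiplicative.ofAdd t, rfl⟩

lemma card_range_XHom [Fintype F] : Nat.card (XHom (F := F)).range = Fintype.card F := by
  have hinj : Function.Injective (XHom (F := F)) := by
    intro a b h
    exact Multiplicative.toAdd.injective (X_injective h)
  rw [← Nat.card_eq_fintype_card (α := F)]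
  have e : Multiplicative F ≃ (XHom (F := F)).range :=
    (MonoidHom.ofInjective hinj).toEquiv
  rw [← Nat.card_congr e]
  exact Nat.card_congr Multiplicative.toAdd

lemma index_range_XHom [Fintype F] :
    (XHom (F := F)).range.index = Fintype.card F ^ 2 - 1 := by
  have h1 := Subgroup.card_mul_index (XHom (F := F)).range
  rw [card_range_XHom, Cfsg.Agent.helper12.card_SL2] at h1
  have hq : 0 < Fintype.card F := Fintype.card_pos
  exact Nat.eq_of_mul_eq_mul_left hq h1

/-- the `p`-part: a stem extension of `SL₂(F)` has no kernel element of order `p` -/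
theorem no_p_part [Fintype F] (h4 : Fintype.card F ≠ 4) (h9 : Fintype.card F ≠ 9)
    (p : ℕ) [hp : Fact p.Prime] [CharP F p]
    {Γ : Type*} [Group Γ] [Finite Γ] (σ : Γ →* SpecialLinearGroup (Fin 2) F)
    (hs : Function.Surjective σ) (hc : σ.ker ≤ Subgroup.center Γ)
    (hd : σ.ker ≤ commutator Γ) (z : Γ) (hz : z ∈ σ.ker) (hzp : z ^ p = 1) : z = 1 := by
  set R : Subgroup Γ := (XHom (F := F)).range.comap σ with hR
  have hRc : ∀ a ∈ R, ∀ b ∈ R, a * b = b * a := by
    intro a ha b hb
    rw [hR, Subgroup.mem_comap, mem_range_XHom] at ha hb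
    exact comap_comm σ hs hc X X_add Hd Hd_conj (field_hyp h4 h9) a b ha hb
  have h1 := central_pow_index R hRc z (hc hz) (hd hz)
  have hidx : R.index = Fintype.card F ^ 2 - 1 := by
    rw [hR, Subgroup.index_comap_of_surjective _ hs, index_range_XHom]
  rw [hidx] at h1
  obtain ⟨n, _, hn⟩ := FiniteField.card F p
  have hcop : Nat.Coprime p (Fintype.card F ^ 2 - 1) := by
    rw [Nat.Prime.coprime_iff_not_dvd hp.out]
    intro hdvd
    have hpq : p ∣ Fintype.card F ^ 2 := by
      rw [hn]
      exact dvd_pow (dvd_pow_self p n.pos.ne') (by norm_num)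
    have hpos : 1 ≤ Fintype.card F ^ 2 := Nat.one_le_pow _ _ Fintype.card_pos
    have : p ∣ 1 := by
      have h := (Nat.dvd_sub hpq hdvd)
      rwa [Nat.sub_sub_self hpos] at h
    exact hp.out.one_lt.ne' (Nat.dvd_one.mp this)
  have ho1 : orderOf z ∣ p := orderOf_dvd_of_pow_eq_one hzp
  have ho2 : orderOf z ∣ Fintype.card F ^ 2 - 1 := orderOf_dvd_of_pow_eq_one h1
  have : orderOf z ∣ 1 := by
    have := Nat.dvd_gcd ho1 ho2
    rwa [hcop.gcd_eq_one] at this
  exact orderOf_eq_one_iff.mp (Nat.dvd_one.mp this)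

end Cfsg.Agent.H16SM
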