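import Mathlib
import Cfsg.Prelude.Def_KGroupFacts

set_option autoImplicit false
set_option linter.style.haveILetI false

/-! Schur multiplier via free presentations: `E = F/[R,F]`, the universal lifting property,
finiteness of `M = (R/[R,F]) ∩ E'` (Schur), for use with `Cfsg.HasSchurMultiplier`. -/

namespace Cfsg.Agent.helper20.Schur

universe u v w

open scoped commutatorElement

section General

variable {G : Type*} [Group G]

theorem comm_mul_central (g h z z' : G) (hz : z ∈ Subgroup.center G)
    (hz' : z' ∈ Subgroup.center G) : ⁅g * z, h * z'⁆ = ⁅g, h⁆ := by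
  rw [commutatorElement_def, commutatorElement_def]
  have h1 : ∀ x : G, z * x = x * z := fun x => (Subgroup.mem_center_iff.mp hz x).symm
  have h2 : ∀ x : G, z' * x = x * z' := fun x => (Subgroup.mem_center_iff.mp hz' x).symm
  have h3 : ∀ x : G, z⁻¹ * x = x * z⁻¹ := fun x => by
    have := h1 (z⁻¹ * x * z⁻¹)
    simp only [mul_assoc, mul_inv_cancel_left, inv_mul_cancel, mul_one] at this
    simpa [mul_assoc] using this.symm
  have h4 : ∀ x : G, z'⁻¹ * x = x * z'⁻¹ := fun x => by
    have := h2 (z'⁻¹ * x * z'⁻¹)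
    simp only [mul_assoc, mul_inv_cancel_left, inv_mul_cancel, mul_one] at this
    simpa [mul_assoc] using this.symm
  calc g * z * (h * z') * (g * z)⁻¹ * (h * z')⁻¹
      = g * z * (h * z') * (z⁻¹ * g⁻¹) * (z'⁻¹ * h⁻¹) := by rw [mul_inv_rev, mul_inv_rev]
    _ = g * (z * (h * (z' * (z⁻¹ * (g⁻¹ * (z'⁻¹ * h⁻¹)))))) := by simp only [mul_assoc]
    _ = g * h * g⁻¹ * h⁻¹ := by
        rw [h1 (h * (z' * (z⁻¹ * (g⁻¹ * (z'⁻¹ * h⁻¹)))))]
        simp only [mul_assoc]
        rw [h2 (z⁻¹ * (g⁻¹ * (z'⁻¹ * (h⁻¹ * z))))]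
        simp only [mul_assoc]
        rw [h3 (g⁻¹ * (z'⁻¹ * (h⁻¹ * (z * z'))))]
        simp only [mul_assoc]
        rw [h4 (h⁻¹ * (z * (z' * z⁻¹)))]
        simp only [mul_assoc]
        have h5 : z * (z' * (z⁻¹ * z'⁻¹)) = 1 := by
          rw [h3 z'⁻¹, ← mul_assoc z', mul_inv_cancel, one_mul, mul_inv_cancel]
        rw [h5]
        simp

end General

section Schur

variable {G : Type*} [Group G]

/-- A group whose centre has finite index has finitely many commutators. -/
theorem finite_commutatorSet_of_finiteIndex_center [hZ : (Subgroup.center G).FiniteIndex] :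
    Finite (commutatorSet G) := by
  haveI : Finite (G ⧸ Subgroup.center G) := Subgroup.finite_quotient_of_finiteIndex
  let s : G ⧸ Subgroup.center G → G := Quotient.out
  have hsub : commutatorSet G ⊆ Set.range
      (fun p : (G ⧸ Subgroup.center G) × (G ⧸ Subgroup.center G) => ⁅s p.1, s p.2⁆) := by
    rintro _ ⟨g, h, rfl⟩
    refine ⟨((g : G ⧸ Subgroup.center G), (h : G ⧸ Subgroup.center G)), ?_⟩
    obtain ⟨z, hz⟩ := QuotientGroup.mk_out_eq_mul (Subgroup.center G) g
    obtain ⟨z', hz'⟩ := QuotientGroup.mk_out_eq_mul (Subgroup.center G) h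
    show ⁅Quotient.out (g : G ⧸ Subgroup.center G), Quotient.out (h : G ⧸ Subgroup.center G)⁆ = _
    rw [hz, hz']
    exact comm_mul_central g h z z' z.2 z'.2
  exact (Set.finite_range _).subset hsub

/-- Schur: if the centre has finite index then the commutator subgroup is finite. -/
theorem finite_commutator_of_finiteIndex_center [hZ : (Subgroup.center G).FiniteIndex] :
    Finite (commutator G) := by
  haveI := finite_commutatorSet_of_finiteIndex_center (G := G)
  infer_instance

end Schur

section Pres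

variable {Q : Type u} [Group Q] {α : Type w} (π : FreeGroup α →* Q)

/-- `[R, F]` for `R = ker π`. -/
def relComm : Subgroup (FreeGroup α) := ⁅π.ker, ⊤⁆

instance relComm_normal : (relComm π).Normal := by
  unfold relComm; infer_instance

theorem relComm_le_ker : relComm π ≤ π.ker := Subgroup.commutator_le_left _ _

/-- `E = F/[R,F]`. -/
abbrev EE : Type w := FreeGroup α ⧸ relComm π

/-- the projection `E → Q`. -/
def eps : EE π →* Q := QuotientGroup.lift (relComm π) π (relComm_le_ker π)

@[simp] theorem eps_mk (x : FreeGroup α) : eps π (QuotientGroup.mk x) = π x := rfl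

theorem eps_surjective (hπ : Function.Surjective π) : Function.Surjective (eps π) := by
  intro q
  obtain ⟨x, rfl⟩ := hπ q
  exact ⟨QuotientGroup.mk x, rfl⟩

/-- the kernel of `E → Q` is central. -/
theorem ker_eps_le_center : (eps π).ker ≤ Subgroup.center (EE π) := by
  intro z hz
  obtain ⟨x, rfl⟩ := QuotientGroup.mk_surjective z
  rw [Subgroup.mem_center_iff]
  intro e
  obtain ⟨y, rfl⟩ := QuotientGroup.mk_surjective e
  have hx : x ∈ π.ker := by
    rw [MonoidHom.mem_ker] at hz ⊢
    simpa using hz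
  have h1 : ⁅x, y⁆ ∈ relComm π := Subgroup.commutator_mem_commutator hx (Subgroup.mem_top y)
  have h2 : (QuotientGroup.mk ⁅x, y⁆ : EE π) = 1 := (QuotientGroup.eq_one_iff _).mpr h1
  rw [commutatorElement_def] at h2
  have h3 : (QuotientGroup.mk x : EE π) * QuotientGroup.mk y *
      (QuotientGroup.mk x)⁻¹ * (QuotientGroup.mk y)⁻¹ = 1 := by
    simpa using h2
  have h4 : (QuotientGroup.mk x : EE π) * QuotientGroup.mk y =
      QuotientGroup.mk y * QuotientGroup.mk x := by
    have := congrArg (· * (QuotientGroup.mk y * QuotientGroup.mk x : EE π)) h3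
    simpa [mul_assoc] using this
  exact h4.symm

/-- the multiplier `M = ker(E → Q) ∩ E'`. -/
def MM : Subgroup (EE π) := (eps π).ker ⊓ commutator (EE π)

/-- Universal lifting property of `E`. -/
theorem exists_lift {Δ : Type v} [Group Δ] (τ : Δ →* Q) (hτ : Function.Surjective τ)
    (hc : τ.ker ≤ Subgroup.center Δ) : ∃ f : EE π →* Δ, τ.comp f = eps π := by
  choose d hd using fun a : α => hτ (π (FreeGroup.of a))
  let φ : FreeGroup α →* Δ := FreeGroup.lift d
  have hφ : τ.comp φ = π := by
    ext a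
    simp [φ, hd]
  have hφ' : ∀ x, τ (φ x) = π x := fun x => by rw [← hφ]; rfl
  have hle : relComm π ≤ φ.ker := by
    unfold relComm
    rw [Subgroup.commutator_le]
    intro r hr g _
    rw [MonoidHom.mem_ker, map_commutatorElement]
    have h1 : φ r ∈ τ.ker := by
      rw [MonoidHom.mem_ker, hφ']; exact hr
    have h2 := Subgroup.mem_center_iff.mp (hc h1) (φ g)
    rw [commutatorElement_def, ← h2]; group
  refine ⟨QuotientGroup.lift (relComm π) φ hle, ?_⟩
  apply QuotientGroup.monoidHom_ext
  ext a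
  simp [φ, hd]

end Pres

section Lift

variable {Q : Type u} [Group Q] {α : Type w} (π : FreeGroup α →* Q)
variable {Δ : Type v} [Group Δ] (τ : Δ →* Q) (f : EE π →* Δ)

theorem exists_decomp (hπ : Function.Surjective π) (hf : τ.comp f = eps π) (d : Δ) :
    ∃ e : EE π, ∃ z ∈ τ.ker, d = f e * z := by
  obtain ⟨e, he⟩ := eps_surjective π hπ (τ d)
  refine ⟨e, (f e)⁻¹ * d, ?_, by group⟩
  rw [MonoidHom.mem_ker, map_mul, map_inv]
  have : τ (f e) = eps π e := by rw [← hf]; rfl
  rw [this, he, inv_mul_cancel]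

theorem commutator_eq_map (hπ : Function.Surjective π) (hc : τ.ker ≤ Subgroup.center Δ)
    (hf : τ.comp f = eps π) : commutator Δ = (commutator (EE π)).map f := by
  apply le_antisymm
  · rw [commutator_def, Subgroup.commutator_le]
    intro d _ d' _
    obtain ⟨e, z, hz, rfl⟩ := exists_decomp π τ f hπ hf d
    obtain ⟨e', z', hz', rfl⟩ := exists_decomp π τ f hπ hf d'
    rw [comm_mul_central _ _ _ _ (hc hz) (hc hz'), ← map_commutatorElement]
    refine Subgroup.mem_map_of_mem f ?_
    rw [commutator_def]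
    exact Subgroup.commutator_mem_commutator (Subgroup.mem_top e) (Subgroup.mem_top e')
  · rw [commutator_def, Subgroup.map_commutator, commutator_def]
    exact Subgroup.commutator_mono le_top le_top

theorem ker_inf_commutator (hπ : Function.Surjective π) (hc : τ.ker ≤ Subgroup.center Δ)
    (hf : τ.comp f = eps π) : τ.ker ⊓ commutator Δ = (MM π).map f := by
  have hf' : ∀ e, τ (f e) = eps π e := fun e => by rw [← hf]; rfl
  apply le_antisymm
  · intro d hd
    rw [Subgroup.mem_inf] at hd
    obtain ⟨hd1, hd2⟩ := hd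
    rw [commutator_eq_map π τ f hπ hc hf] at hd2
    obtain ⟨c, hc1, rfl⟩ := hd2
    refine ⟨c, ?_, rfl⟩
    show c ∈ MM π
    unfold MM
    rw [Subgroup.mem_inf]
    refine ⟨?_, hc1⟩
    rw [MonoidHom.mem_ker, ← hf']
    exact hd1
  · intro d hd
    obtain ⟨m, hm, rfl⟩ := hd
    have hm' : m ∈ MM π := hm
    unfold MM at hm'
    rw [Subgroup.mem_inf] at hm'
    obtain ⟨hm1, hm2⟩ := hm'
    rw [Subgroup.mem_inf]
    refine ⟨?_, ?_⟩
    · rw [MonoidHom.mem_ker, hf']
      exact hm1
    · rw [commutator_eq_map π τ f hπ hc hf]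
      exact Subgroup.mem_map_of_mem f hm2

theorem surjective_of_stem (hπ : Function.Surjective π) (hc : τ.ker ≤ Subgroup.center Δ)
    (hs : τ.ker ≤ commutator Δ) (hf : τ.comp f = eps π) : Function.Surjective f := by
  intro d
  obtain ⟨e, z, hz, rfl⟩ := exists_decomp π τ f hπ hf d
  have h1 := hs hz
  rw [commutator_eq_map π τ f hπ hc hf] at h1
  obtain ⟨c, -, rfl⟩ := h1
  exact ⟨e * c, map_mul f e c⟩

theorem ker_eq_map_of_stem (hπ : Function.Surjective π) (hc : τ.ker ≤ Subgroup.center Δ)
    (hs : τ.ker ≤ commutator Δ) (hf : τ.comp f = eps π) : τ.ker = (MM π).map f := by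
  rw [← ker_inf_commutator π τ f hπ hc hf]
  exact (inf_eq_left.mpr hs).symm

theorem exists_surj_of_stem (hπ : Function.Surjective π) (hτ : Function.Surjective τ)
    (hc : τ.ker ≤ Subgroup.center Δ) (hs : τ.ker ≤ commutator Δ) :
    ∃ g : MM π →* τ.ker, Function.Surjective g := by
  obtain ⟨f, hf⟩ := exists_lift π τ hτ hc
  have h1 := ker_eq_map_of_stem π τ f hπ hc hs hf
  refine ⟨(MulEquiv.subgroupCongr h1.symm).toMonoidHom.comp (f.subgroupMap (MM π)), ?_⟩
  rw [MonoidHom.coe_comp]
  exact (MulEquiv.subgroupCongr h1.symm).surjective.comp (f.subgroupMap_surjective (MM π))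

end Lift

end Cfsg.Agent.helper20.Schur
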