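import Mathlib
import Cfsg.Agent.Lib_helper20_Schur1

set_option autoImplicit false
set_option linter.style.haveILetI false

/-! Complements of the torsion part in finitely generated abelian groups, and Schur covers
`E/S`. -/

namespace Cfsg.Agent.helper20.Schur

universe u v w

open scoped commutatorElement

section Compl

theorem exists_add_complement {A : Type*} [AddCommGroup A] [Module.Finite ℤ A]
    (B : Submodule ℤ A) (htf : ∀ (n : ℤ) (a : A), n ≠ 0 → n • a ∈ B → a ∈ B) :
    ∃ S : Submodule ℤ A, (∀ x ∈ S, x ∈ B → x = 0) ∧ ∀ x : A, ∃ s ∈ S, ∃ b ∈ B, x = s + b := by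
  haveI : Module.IsTorsionFree ℤ (A ⧸ B) := Module.IsTorsionFree.of_smul_eq_zero (by
    intro n x hx
    obtain ⟨a, rfl⟩ := Submodule.Quotient.mk_surjective B x
    by_cases hn : n = 0
    · left; exact hn
    · right
      rw [← Submodule.Quotient.mk_smul, Submodule.Quotient.mk_eq_zero] at hx
      exact (Submodule.Quotient.mk_eq_zero B).mpr (htf n a hn hx))
  haveI : Module.Free ℤ (A ⧸ B) := Module.free_of_finite_type_torsion_free'
  obtain ⟨s, hs⟩ := Module.projective_lifting_property B.mkQ LinearMap.id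
    (Submodule.mkQ_surjective B)
  have hs' : ∀ y, B.mkQ (s y) = y := fun y => LinearMap.congr_fun hs y
  refine ⟨LinearMap.range s, ?_, ?_⟩
  · rintro x ⟨y, rfl⟩ hx
    have h0 : B.mkQ (s y) = 0 := (Submodule.Quotient.mk_eq_zero B).mpr hx
    rw [hs'] at h0
    rw [h0, map_zero]
  · intro x
    refine ⟨s (B.mkQ x), ⟨_, rfl⟩, x - s (B.mkQ x), ?_, by abel⟩
    rw [← Submodule.Quotient.mk_eq_zero B, Submodule.Quotient.mk_sub]
    have := hs' (B.mkQ x)
    simp only [Submodule.mkQ_apply] at this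
    simp only [Submodule.mkQ_apply]
    rw [this, sub_self]

theorem exists_mul_complement {Z : Type*} [CommGroup Z] [Group.FG Z] (M : Subgroup Z)
    (htf : ∀ (n : ℕ) (z : Z), 0 < n → z ^ n ∈ M → z ∈ M) :
    ∃ S : Subgroup Z, (∀ x ∈ S, x ∈ M → x = 1) ∧ ∀ x : Z, ∃ s ∈ S, ∃ b ∈ M, x = s * b := by
  haveI : AddGroup.FG (Additive Z) := GroupFG.iff_add_fg.mp inferInstance
  haveI : Module.Finite ℤ (Additive Z) := Module.Finite.iff_addGroup_fg.mpr inferInstance
  let B : Submodule ℤ (Additive Z) := (Subgroup.toAddSubgroup M).toIntSubmodule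
  have hB : ∀ x : Additive Z, x ∈ B ↔ Additive.toMul x ∈ M := fun x => Iff.rfl
  have htf' : ∀ (n : ℤ) (a : Additive Z), n ≠ 0 → n • a ∈ B → a ∈ B := by
    intro n a hn ha
    rw [hB] at ha ⊢
    have h1 : Additive.toMul (n • a) = (Additive.toMul a) ^ n := rfl
    rw [h1] at ha
    have h2 : (Additive.toMul a) ^ n.natAbs ∈ M := by
      rcases Int.natAbs_eq n with h | h
      · rw [h, zpow_natCast] at ha; exact ha
      · rw [h, zpow_neg, zpow_natCast] at ha
        exact (Subgroup.inv_mem_iff M).mp ha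
    exact htf n.natAbs _ (Int.natAbs_pos.mpr hn) h2
  obtain ⟨S, hS1, hS2⟩ := exists_add_complement B htf'
  refine ⟨(Subgroup.toAddSubgroup.symm S.toAddSubgroup), ?_, ?_⟩
  · intro x hx hxM
    have h1 : Additive.ofMul x ∈ S := hx
    have := hS1 _ h1 ((hB _).mpr hxM)
    exact Additive.ofMul.injective this
  · intro x
    obtain ⟨s, hs, b, hb, hx⟩ := hS2 (Additive.ofMul x)
    exact ⟨Additive.toMul s, hs, Additive.toMul b, (hB b).mp hb, congrArg Additive.toMul hx⟩

end Compl

section Free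

variable {α : Type w}

/-- the abelianization of a free group is torsion-free. -/
theorem mem_commutator_free_of_pow {x : FreeGroup α} {n : ℕ} (hn : 0 < n)
    (h : x ^ n ∈ commutator (FreeGroup α)) : x ∈ commutator (FreeGroup α) := by
  rw [← Abelianization.ker_of, MonoidHom.mem_ker] at h ⊢
  rw [map_pow] at h
  let a : FreeAbelianGroup α := Additive.ofMul (Abelianization.of x)
  have ha : n • a = 0 := by
    show Additive.ofMul ((Abelianization.of x) ^ n) = 0
    rw [h]; rfl
  have h1 : n • (FreeAbelianGroup.equivFinsupp α a) = 0 := by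
    rw [← map_nsmul, ha, map_zero]
  have h2 : FreeAbelianGroup.equivFinsupp α a = 0 := by
    rcases (smul_eq_zero.mp h1) with h0 | h0
    · omega
    · exact h0
  have h3 : a = 0 := (FreeAbelianGroup.equivFinsupp α).map_eq_zero_iff.mp h2
  exact Additive.ofMul.injective h3

end Free

section Cover

variable {Q : Type u} [Group Q] {α : Type w} (π : FreeGroup α →* Q)

theorem commutator_EE_eq_map :
    commutator (EE π) = (commutator (FreeGroup α)).map (QuotientGroup.mk' (relComm π)) := by
  rw [commutator_def, commutator_def, Subgroup.map_commutator,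
    ← MonoidHom.range_eq_map, MonoidHom.range_eq_top.mpr (QuotientGroup.mk'_surjective _)]

theorem relComm_le_commutator : relComm π ≤ commutator (FreeGroup α) := by
  unfold relComm
  rw [commutator_def]
  exact Subgroup.commutator_mono le_top le_rfl

/-- `E/E'` is torsion-free. -/
theorem mem_commutator_EE_of_pow {z : EE π} {n : ℕ} (hn : 0 < n)
    (h : z ^ n ∈ commutator (EE π)) : z ∈ commutator (EE π) := by
  obtain ⟨x, rfl⟩ := QuotientGroup.mk_surjective z
  rw [commutator_EE_eq_map] at h ⊢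
  obtain ⟨y, hy, hyx⟩ := h
  have h1 : y⁻¹ * x ^ n ∈ relComm π := by
    rw [← QuotientGroup.eq]
    exact hyx
  have h2 : x ^ n ∈ commutator (FreeGroup α) := by
    have := Subgroup.mul_mem _ hy (relComm_le_commutator π h1)
    simpa using this
  exact Subgroup.mem_map_of_mem _ (mem_commutator_free_of_pow hn h2)

theorem finite_MM [Finite Q] : Finite (MM π) := by
  haveI : (eps π).ker.FiniteIndex := Subgroup.finiteIndex_ker _
  haveI : (Subgroup.center (EE π)).FiniteIndex :=
    Subgroup.finiteIndex_of_le (ker_eps_le_center π)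
  haveI := finite_commutator_of_finiteIndex_center (G := EE π)
  exact Finite.of_injective (Subgroup.inclusion (inf_le_right : MM π ≤ commutator (EE π)))
    (Subgroup.inclusion_injective _)

/-- a complement to `M` in the central kernel. -/
theorem exists_compl [Finite Q] [Finite α] :
    ∃ S : Subgroup (EE π), S ≤ (eps π).ker ∧ (∀ x ∈ S, x ∈ MM π → x = 1) ∧
      ∀ x ∈ (eps π).ker, ∃ s ∈ S, ∃ m ∈ MM π, x = s * m := by
  haveI : (eps π).ker.FiniteIndex := Subgroup.finiteIndex_ker _
  haveI : Group.FG (eps π).ker := Subgroup.fg_of_index_ne_zero _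
  letI : CommGroup (eps π).ker :=
    { (inferInstance : Group (eps π).ker) with
      mul_comm := fun a b => Subtype.ext
        ((Subgroup.mem_center_iff.mp (ker_eps_le_center π a.2) b).symm) }
  obtain ⟨S₀, hS1, hS2⟩ := exists_mul_complement ((MM π).subgroupOf (eps π).ker) (by
    intro n z hn hz
    rw [Subgroup.mem_subgroupOf] at hz ⊢
    have h1 : ((z : EE π)) ^ n ∈ commutator (EE π) := by
      have h0 : ((z ^ n : (eps π).ker) : EE π) ∈ MM π := hz
      rw [Subgroup.coe_pow] at h0
      exact (inf_le_right : MM π ≤ _) h0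
    have h2 := mem_commutator_EE_of_pow π hn h1
    exact Subgroup.mem_inf.mpr ⟨z.2, h2⟩)
  refine ⟨S₀.map (eps π).ker.subtype, ?_, ?_, ?_⟩
  · rintro _ ⟨s, -, rfl⟩
    exact s.2
  · rintro _ ⟨s, hs, rfl⟩ hm
    have := hS1 s hs (Subgroup.mem_subgroupOf.mpr hm)
    rw [this]; rfl
  · intro x hx
    obtain ⟨s, hs, b, hb, hxs⟩ := hS2 ⟨x, hx⟩
    refine ⟨s, Subgroup.mem_map_of_mem _ hs, b, Subgroup.mem_subgroupOf.mp hb, ?_⟩
    exact congrArg Subtype.val hxs

end Cover

section CoverS

variable {Q : Type u} [Group Q] {α : Type w} (π : FreeGroup α →* Q) (S : Subgroup (EE π))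

theorem normal_of_le_ker (hS0 : S ≤ (eps π).ker) : S.Normal := by
  constructor
  intro s hs g
  have := Subgroup.mem_center_iff.mp (ker_eps_le_center π (hS0 hs)) g
  rw [this, mul_inv_cancel_right]
  exact hs

variable [hn : S.Normal]

/-- the projection `E/S → Q`. -/
def covHom (hS0 : S ≤ (eps π).ker) : EE π ⧸ S →* Q := QuotientGroup.lift S (eps π) hS0

@[simp] theorem covHom_mk (hS0 : S ≤ (eps π).ker) (e : EE π) :
    covHom π S hS0 (QuotientGroup.mk e) = eps π e := rfl

theorem covHom_surjective (hπ : Function.Surjective π) (hS0 : S ≤ (eps π).ker) :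
    Function.Surjective (covHom π S hS0) := by
  intro q
  obtain ⟨e, rfl⟩ := eps_surjective π hπ q
  exact ⟨QuotientGroup.mk e, rfl⟩

theorem mem_ker_covHom (hS0 : S ≤ (eps π).ker) (e : EE π) :
    (QuotientGroup.mk e : EE π ⧸ S) ∈ (covHom π S hS0).ker ↔ e ∈ (eps π).ker := by
  rw [MonoidHom.mem_ker, MonoidHom.mem_ker, covHom_mk]

theorem covHom_stem (hπ : Function.Surjective π) (hS0 : S ≤ (eps π).ker)
    (hS3 : ∀ x ∈ (eps π).ker, ∃ s ∈ S, ∃ m ∈ MM π, x = s * m) :
    Cfsg.IsStemExtension (covHom π S hS0) := by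
  refine ⟨covHom_surjective π S hπ hS0, ?_, ?_⟩
  · intro z hz
    obtain ⟨e, rfl⟩ := QuotientGroup.mk_surjective z
    rw [mem_ker_covHom] at hz
    rw [Subgroup.mem_center_iff]
    intro y
    obtain ⟨e', rfl⟩ := QuotientGroup.mk_surjective y
    have := Subgroup.mem_center_iff.mp (ker_eps_le_center π hz) e'
    rw [← QuotientGroup.mk_mul, ← QuotientGroup.mk_mul, this]
  · intro z hz
    obtain ⟨e, rfl⟩ := QuotientGroup.mk_surjective z
    rw [mem_ker_covHom] at hz
    obtain ⟨s, hs, m, hm, rfl⟩ := hS3 e hz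
    have h1 : (QuotientGroup.mk (s * m) : EE π ⧸ S) = QuotientGroup.mk m := by
      rw [QuotientGroup.mk_mul, (QuotientGroup.eq_one_iff s).mpr hs, one_mul]
    rw [h1]
    have h2 : m ∈ commutator (EE π) := (inf_le_right : MM π ≤ _) hm
    have h3 : (commutator (EE π)).map (QuotientGroup.mk' S) ≤ commutator (EE π ⧸ S) := by
      rw [commutator_def, commutator_def, Subgroup.map_commutator]
      exact Subgroup.commutator_mono le_top le_top
    exact h3 (Subgroup.mem_map_of_mem _ h2)

/-- the kernel of `E/S → Q` is isomorphic to `M`. -/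
theorem ker_covHom_equiv (hS0 : S ≤ (eps π).ker) (hS2 : ∀ x ∈ S, x ∈ MM π → x = 1)
    (hS3 : ∀ x ∈ (eps π).ker, ∃ s ∈ S, ∃ m ∈ MM π, x = s * m) :
    Nonempty (MM π ≃* (covHom π S hS0).ker) := by
  let g : MM π →* (covHom π S hS0).ker :=
    { toFun := fun m => ⟨QuotientGroup.mk (m : EE π),
        (mem_ker_covHom π S hS0 _).mpr ((inf_le_left : MM π ≤ _) m.2)⟩
      map_one' := rfl
      map_mul' := fun a b => rfl }
  have hinj : Function.Injective g := by
    rw [injective_iff_map_eq_one]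
    intro m hm
    have h1 : (QuotientGroup.mk (m : EE π) : EE π ⧸ S) = 1 := congrArg Subtype.val hm
    have h2 : (m : EE π) ∈ S := (QuotientGroup.eq_one_iff _).mp h1
    exact Subtype.ext (hS2 _ h2 m.2)
  have hsurj : Function.Surjective g := by
    rintro ⟨z, hz⟩
    obtain ⟨e, rfl⟩ := QuotientGroup.mk_surjective z
    rw [mem_ker_covHom] at hz
    obtain ⟨s, hs, m, hm, rfl⟩ := hS3 e hz
    refine ⟨⟨m, hm⟩, Subtype.ext ?_⟩
    show (QuotientGroup.mk m : EE π ⧸ S) = QuotientGroup.mk (s * m)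
    rw [QuotientGroup.mk_mul, (QuotientGroup.eq_one_iff s).mpr hs, one_mul]
  exact ⟨MulEquiv.ofBijective g ⟨hinj, hsurj⟩⟩

theorem finite_cover [Finite Q] (hS0 : S ≤ (eps π).ker) (hS2 : ∀ x ∈ S, x ∈ MM π → x = 1)
    (hS3 : ∀ x ∈ (eps π).ker, ∃ s ∈ S, ∃ m ∈ MM π, x = s * m) : Finite (EE π ⧸ S) := by
  obtain ⟨e⟩ := ker_covHom_equiv π S hS0 hS2 hS3
  haveI := finite_MM π
  haveI : Finite (covHom π S hS0).ker := Finite.of_equiv _ e.toEquiv
  haveI : (covHom π S hS0).ker.FiniteIndex := Subgroup.finiteIndex_ker _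
  apply Nat.finite_of_card_ne_zero
  rw [← Subgroup.card_mul_index (covHom π S hS0).ker]
  exact mul_ne_zero Nat.card_pos.ne' Subgroup.FiniteIndex.index_ne_zero

end CoverS

end Cfsg.Agent.helper20.Schur
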