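import Mathlib
import Cfsg.Agent.Lib_helper20_Schur1
import Cfsg.Agent.Lib_helper20_Schur2

set_option autoImplicit false
set_option linter.style.haveILetI false

/-! The master lemma: `HasSchurMultiplier Q A ↔ A ≃* M` for a finite free presentation. -/

namespace Cfsg.Agent.helper20.Schur

universe u v w

open scoped commutatorElement

section Master

variable {Q : Type u} [Group Q] [Finite Q] {α : Type u} [Finite α] (π : FreeGroup α →* Q)

/-- existence of a Schur cover built from the presentation. -/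
theorem exists_cover (hπ : Function.Surjective π) :
    ∃ (Γ : Type u) (_ : Group Γ) (_ : Finite Γ) (σ : Γ →* Q), Cfsg.IsStemExtension σ ∧
      Nonempty (σ.ker ≃* MM π) := by
  obtain ⟨S, hS0, hS2, hS3⟩ := exists_compl π
  haveI := normal_of_le_ker π S hS0
  obtain ⟨e⟩ := ker_covHom_equiv π S hS0 hS2 hS3
  exact ⟨EE π ⧸ S, inferInstance, finite_cover π S hS0 hS2 hS3, covHom π S hS0,
    covHom_stem π S hπ hS0 hS3, ⟨e.symm⟩⟩

theorem hasSchurMultiplier_iff (hπ : Function.Surjective π) {A : Type v} [CommGroup A] :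
    Cfsg.HasSchurMultiplier Q A ↔ Nonempty (A ≃* MM π) := by
  haveI := finite_MM π
  constructor
  · rintro ⟨⟨Γ, _, _, σ, hσ, ⟨eA⟩⟩, h2⟩
    obtain ⟨g₁, hg₁⟩ := exists_surj_of_stem π σ hπ hσ.1 hσ.2.1 hσ.2.2
    obtain ⟨Γ₀, _, _, σ₀, hσ₀, ⟨e₀⟩⟩ := exists_cover π hπ
    obtain ⟨π₂, hπ₂⟩ := h2 Γ₀ σ₀ hσ₀
    let f₁ : MM π → A := fun m => eA (g₁ m)
    have hf₁ : Function.Surjective f₁ := eA.surjective.comp hg₁
    let f₂ : A →* MM π := e₀.toMonoidHom.comp π₂
    have hf₂ : Function.Surjective f₂ := e₀.surjective.comp hπ₂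
    haveI : Finite A := Finite.of_surjective f₁ hf₁
    have hc1 : Nat.card A ≤ Nat.card (MM π) := Nat.card_le_card_of_surjective f₁ hf₁
    have hc2 : Nat.card (MM π) ≤ Nat.card A := Nat.card_le_card_of_surjective f₂ hf₂
    have hbij : Function.Bijective f₂ :=
      (Nat.bijective_iff_surjective_and_card f₂).mpr ⟨hf₂, le_antisymm hc1 hc2⟩
    exact ⟨MulEquiv.ofBijective f₂ hbij⟩
  · rintro ⟨e⟩
    refine ⟨?_, ?_⟩
    · obtain ⟨Γ₀, i1, i2, σ₀, hσ₀, ⟨e₀⟩⟩ := exists_cover π hπ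
      exact ⟨Γ₀, i1, i2, σ₀, hσ₀, ⟨e₀.trans e.symm⟩⟩
    · intro Γ _ _ σ hσ
      obtain ⟨g₁, hg₁⟩ := exists_surj_of_stem π σ hπ hσ.1 hσ.2.1 hσ.2.2
      exact ⟨g₁.comp e.toMonoidHom, hg₁.comp e.surjective⟩

end Master

end Cfsg.Agent.helper20.Schur
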