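import Mathlib
import Cfsg.Agent.Lib_helper20_Schur1
import Cfsg.Agent.Lib_helper20_Schur2
import Cfsg.Agent.Lib_helper20_Schur3

set_option autoImplicit false
set_option linter.style.haveILetI false

/-! Canonical presentation, consequences of `HasSchurMultiplier` for arbitrary central
extensions, complements inside a prescribed subgroup. -/

namespace Cfsg.Agent.helper20.Schur

universe u v w

open scoped commutatorElement

section Canon

variable (Q : Type u) [Group Q]

/-- the canonical presentation `FreeGroup Q → Q`. -/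
def canPi : FreeGroup Q →* Q := FreeGroup.lift id

theorem canPi_surjective : Function.Surjective (canPi Q) := fun q =>
  ⟨FreeGroup.of q, by simp [canPi]⟩

end Canon

section Central

variable {Q : Type u} [Group Q] [Finite Q]

/-- For any central extension `Δ → Q` (of any size), `ker ∩ Δ'` is a homomorphic image of the
Schur multiplier. -/
theorem exists_surj_ker_inf_commutator {A : Type v} [CommGroup A]
    (hA : Cfsg.HasSchurMultiplier Q A) {Δ : Type w} [Group Δ] (τ : Δ →* Q)
    (hτ : Function.Surjective τ) (hc : τ.ker ≤ Subgroup.center Δ) :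
    ∃ g : A →* (τ.ker ⊓ commutator Δ : Subgroup Δ), Function.Surjective g := by
  obtain ⟨e⟩ := (hasSchurMultiplier_iff (canPi Q) (canPi_surjective Q)).mp hA
  obtain ⟨f, hf⟩ := exists_lift (canPi Q) τ hτ hc
  have h1 := ker_inf_commutator (canPi Q) τ f (canPi_surjective Q) hc hf
  refine ⟨((MulEquiv.subgroupCongr h1.symm).toMonoidHom.comp
    (f.subgroupMap (MM (canPi Q)))).comp e.toMonoidHom, ?_⟩
  rw [MonoidHom.coe_comp, MonoidHom.coe_comp]
  exact ((MulEquiv.subgroupCongr h1.symm).surjective.comp
    (f.subgroupMap_surjective (MM (canPi Q)))).comp e.surjective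

/-- If the multiplier is trivial, `ker ∩ Δ' = 1` for every central extension. -/
theorem ker_inf_commutator_eq_bot (hA : Cfsg.HasCyclicSchurMultiplier Q 1)
    {Δ : Type w} [Group Δ] (τ : Δ →* Q)
    (hτ : Function.Surjective τ) (hc : τ.ker ≤ Subgroup.center Δ) :
    τ.ker ⊓ commutator Δ = ⊥ := by
  obtain ⟨g, hg⟩ := exists_surj_ker_inf_commutator hA τ hτ hc
  rw [eq_bot_iff]
  intro x hx
  obtain ⟨a, ha⟩ := hg ⟨x, hx⟩
  have h1 : a = 1 := Subsingleton.elim _ _
  rw [h1, map_one] at ha
  rw [Subgroup.mem_bot]
  exact (congrArg Subtype.val ha).symm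

end Central

section Perfect

/-- Two homomorphisms from a perfect group which agree modulo the centre are equal. -/
theorem hom_eq_of_perfect {G X : Type*} [Group G] [Group X] [hG : Group.IsPerfect G]
    (η₁ η₂ : G →* X) (h : ∀ g, η₁ g * (η₂ g)⁻¹ ∈ Subgroup.center X) : η₁ = η₂ := by
  let d : G →* X :=
    { toFun := fun g => η₁ g * (η₂ g)⁻¹
      map_one' := by simp
      map_mul' := fun a b => by
        have hb := Subgroup.mem_center_iff.mp (h b)
        calc η₁ (a * b) * (η₂ (a * b))⁻¹
            = η₁ a * ((η₁ b * (η₂ b)⁻¹) * (η₂ a)⁻¹) := by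
              rw [map_mul, map_mul, mul_inv_rev]; group
          _ = η₁ a * ((η₂ a)⁻¹ * (η₁ b * (η₂ b)⁻¹)) := by rw [hb (η₂ a)⁻¹]
          _ = η₁ a * (η₂ a)⁻¹ * (η₁ b * (η₂ b)⁻¹) := by group }
  have hd : ∀ g, d g = η₁ g * (η₂ g)⁻¹ := fun g => rfl
  have hker : commutator G ≤ d.ker := by
    rw [commutator_def, Subgroup.commutator_le]
    intro a _ b _
    rw [MonoidHom.mem_ker, map_commutatorElement, commutatorElement_def]
    have ha := Subgroup.mem_center_iff.mp (h a)
    rw [hd a, ← ha (d b)]
    group
  rw [hG.commutator_eq_top] at hker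
  ext g
  have := hker (Subgroup.mem_top g)
  rw [MonoidHom.mem_ker, hd] at this
  exact mul_inv_eq_one.mp this

variable {Q : Type u} [Group Q] {α : Type w} (π : FreeGroup α →* Q)

theorem exists_commutator_eps [hQ : Group.IsPerfect Q] (hπ : Function.Surjective π) (q : Q) :
    ∃ c ∈ commutator (EE π), eps π c = q := by
  have h1 : (commutator (EE π)).map (eps π) = commutator Q := by
    rw [commutator_def, commutator_def, Subgroup.map_commutator, ← MonoidHom.range_eq_map,
      MonoidHom.range_eq_top.mpr (eps_surjective π hπ)]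
  have h2 : q ∈ (commutator (EE π)).map (eps π) := by
    rw [h1, hQ.commutator_eq_top]; exact Subgroup.mem_top q
  obtain ⟨c, hc, rfl⟩ := h2
  exact ⟨c, hc, rfl⟩

theorem isPerfect_commutator_EE [hQ : Group.IsPerfect Q] (hπ : Function.Surjective π) :
    Group.IsPerfect (commutator (EE π)) := by
  rw [Subgroup.isPerfect_iff]
  apply le_antisymm (Subgroup.commutator_le_left _ _)
  nth_rewrite 1 [commutator_def]
  rw [Subgroup.commutator_le]
  intro e _ e' _
  obtain ⟨c, hc, hce⟩ := exists_commutator_eps π hπ (eps π e)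
  obtain ⟨c', hc', hce'⟩ := exists_commutator_eps π hπ (eps π e')
  have hz : c⁻¹ * e ∈ Subgroup.center (EE π) := by
    apply ker_eps_le_center π
    rw [MonoidHom.mem_ker, map_mul, map_inv, hce, inv_mul_cancel]
  have hz' : c'⁻¹ * e' ∈ Subgroup.center (EE π) := by
    apply ker_eps_le_center π
    rw [MonoidHom.mem_ker, map_mul, map_inv, hce', inv_mul_cancel]
  have h1 : ⁅e, e'⁆ = ⁅c, c'⁆ := by
    have := comm_mul_central c c' _ _ hz hz'
    rw [mul_inv_cancel_left, mul_inv_cancel_left] at this
    exact this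
  rw [h1]
  exact Subgroup.commutator_mem_commutator hc hc'

end Perfect

end Cfsg.Agent.helper20.Schur
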