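import Cfsg.Statements.S0261
import Cfsg.Agent.Lib_helper11_Torus
import Cfsg.Agent.Lib_helper11_QuatPres
import Cfsg.Agent.Lib_helper12_Card

set_option autoImplicit false
open Cfsg

namespace Cfsg.Agent.S0261

/-- A subgroup of the right order is isomorphic to every Sylow subgroup. -/
theorem sylow_mulEquiv_of_card {G : Type*} [Group G] [Finite G] (r : ℕ) [Fact r.Prime]
    (H : Subgroup G) (hH : Nat.card H = r ^ (Nat.card G).factorization r) (R : Sylow r G) :
    Nonempty ((R : Subgroup G) ≃* H) := by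
  set S : Sylow r G := Sylow.ofCard H hH with hS
  obtain ⟨c, hcS⟩ := MulAction.exists_smul_eq G S R
  have e : (S : Subgroup G) ≃* ((c • S : Sylow r G) : Subgroup G) := Sylow.equivSMul S c
  rw [hcS] at e
  exact ⟨e.symm⟩

theorem two_pow_dvd_aux (q : ℕ) (hq : Odd q) (hq3 : 3 ≤ q) :
    ∃ m : ℕ, 2 ≤ m ∧ ((q - 1) * (q + 1)).factorization 2 = m + 1 ∧
      (2 ^ m ∣ q - 1 ∨ 2 ^ m ∣ q + 1) := by
  set A := (q - 1) * (q + 1) with hA
  have hA0 : A ≠ 0 := by
    apply mul_ne_zero <;> omega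
  have h8 : 2 ^ 3 ∣ A := by
    obtain ⟨k, hk⟩ := hq
    rcases Nat.even_or_odd k with ⟨j, hj⟩ | ⟨j, hj⟩
    · refine ⟨j * (2 * j + 1), ?_⟩
      have e1 : q - 1 = 4 * j := by omega
      have e2 : q + 1 = 2 * (2 * j + 1) := by omega
      rw [hA, e1, e2]; ring
    · refine ⟨(2 * j + 1) * (j + 1), ?_⟩
      have e1 : q - 1 = 2 * (2 * j + 1) := by omega
      have e2 : q + 1 = 4 * (j + 1) := by omega
      rw [hA, e1, e2]; ring
  have ha3 : 3 ≤ A.factorization 2 :=
    (Nat.Prime.pow_dvd_iff_le_factorization Nat.prime_two hA0).mp h8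
  refine ⟨A.factorization 2 - 1, by omega, by omega, ?_⟩
  have hdvd : 2 ^ (A.factorization 2 - 1 + 1) ∣ A := by
    rw [Nat.sub_add_cancel (by omega)]
    exact Nat.ordProj_dvd _ _
  set m := A.factorization 2 - 1 with hm
  obtain ⟨k, hk⟩ := hq
  rcases Nat.even_or_odd k with ⟨j, hj⟩ | ⟨j, hj⟩
  · left
    have e2 : q + 1 = 2 * (2 * j + 1) := by omega
    rw [hA, e2, pow_succ, mul_comm (q - 1), mul_comm (2 ^ m) 2, mul_assoc] at hdvd
    have h1 : 2 ^ m ∣ (2 * j + 1) * (q - 1) := Nat.dvd_of_mul_dvd_mul_left (by norm_num) hdvd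
    have hc : Nat.Coprime (2 ^ m) (2 * j + 1) := by
      apply Nat.Coprime.pow_left
      exact (Nat.Prime.coprime_iff_not_dvd Nat.prime_two).mpr (by omega)
    exact hc.dvd_of_dvd_mul_left h1
  · right
    have e1 : q - 1 = 2 * (2 * j + 1) := by omega
    rw [hA, e1, pow_succ, mul_comm (2 ^ m) 2, mul_assoc] at hdvd
    have h1 : 2 ^ m ∣ (2 * j + 1) * (q + 1) := Nat.dvd_of_mul_dvd_mul_left (by norm_num) hdvd
    have hc : Nat.Coprime (2 ^ m) (2 * j + 1) := by
      apply Nat.Coprime.pow_left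
      exact (Nat.Prime.coprime_iff_not_dvd Nat.prime_two).mpr (by omega)
    exact hc.dvd_of_dvd_mul_left h1

/-- For q odd, the Sylow 2-subgroups of SL_2(q) are generalised quaternion. -/
theorem result {F : Type*} [Field F] [Fintype F] (hF : Odd (Fintype.card F)) (P : Sylow 2 (Matrix.SpecialLinearGroup (Fin 2) F)) : ∃ k : ℕ, 1 ≤ k ∧ Nonempty ((P : Subgroup (Matrix.SpecialLinearGroup (Fin 2) F)) ≃* QuaternionGroup (2 ^ k)) := by
  classical
  set q := Fintype.card F with hq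
  have hq2 : 2 ≤ q := Fintype.one_lt_card
  have hq3 : 3 ≤ q := by
    obtain ⟨k, hk⟩ := hF
    omega
  have hchar : ringChar F ≠ 2 := by
    intro h
    have := (FiniteField.even_card_iff_char_two (F := F)).mp h
    rw [← hq] at this
    obtain ⟨k, hk⟩ := hF
    omega
  have h2 : (2 : F) ≠ 0 := Ring.two_ne_zero hchar
  have hcard : Nat.card (Matrix.SpecialLinearGroup (Fin 2) F) = q * ((q - 1) * (q + 1)) := by
    rw [Cfsg.Agent.helper12.card_SL2, Cfsg.Agent.helper11.Torus.sq_sub_one _ (by omega)]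
  obtain ⟨m, hm2, hfac, hor⟩ := two_pow_dvd_aux q hF hq3
  have hfacG : (Nat.card (Matrix.SpecialLinearGroup (Fin 2) F)).factorization 2 = m + 1 := by
    rw [hcard, Nat.factorization_mul (by omega) (by apply mul_ne_zero <;> omega),
      Finsupp.add_apply, hfac, Nat.factorization_eq_zero_of_not_dvd, zero_add]
    rw [← Nat.not_even_iff_odd] at hF
    exact fun h => hF (even_iff_two_dvd.mpr h)
  have h2n : 2 * 2 ^ (m - 1) = 2 ^ m := by
    rw [← pow_succ', Nat.sub_add_cancel (by omega)]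
  have hn0 : 0 < 2 ^ (m - 1) := by positivity
  have hn2 : 2 ≤ 2 ^ (m - 1) := by
    calc 2 = 2 ^ 1 := by norm_num
      _ ≤ 2 ^ (m - 1) := Nat.pow_le_pow_right (by norm_num) (by omega)
  have : NeZero (2 ^ (m - 1)) := ⟨by omega⟩
  have hpair : ∃ x y : Matrix.SpecialLinearGroup (Fin 2) F, orderOf x = 2 * 2 ^ (m - 1) ∧
      y ^ 2 = x ^ (2 ^ (m - 1)) ∧ y * x * y⁻¹ = x⁻¹ := by
    rcases hor with h | h
    · exact Cfsg.Agent.helper11.Torus.exists_quaternion_pair_split hn0 (by rw [h2n]; exact h)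
    · exact Cfsg.Agent.helper11.Torus.exists_quaternion_pair_nonsplit h2 hn0
        (by rw [h2n]; exact h)
  obtain ⟨x, y, hx, hy, hxy⟩ := hpair
  obtain ⟨H, hHcard, ⟨eH⟩⟩ :=
    Cfsg.Agent.helper11.QuatPres.exists_subgroup_mulEquiv hn2 hx hy hxy
  have hH' : Nat.card H = 2 ^ (Nat.card (Matrix.SpecialLinearGroup (Fin 2) F)).factorization 2 := by
    rw [hHcard, hfacG, pow_succ, ← h2n]
    ring
  obtain ⟨e⟩ := sylow_mulEquiv_of_card 2 H hH' P
  exact ⟨m - 1, by omega, ⟨e.trans eH⟩⟩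

end Cfsg.Agent.S0261
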