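import Cfsg.Statements.S0262
import Cfsg.Agent.Lib_helper11_Torus
import Cfsg.Agent.Lib_helper12_Card

set_option autoImplicit false
open Cfsg

namespace Cfsg.Agent.S0262

/-- A Sylow subgroup is cyclic as soon as the group has an element whose order is the full
`r`-part of the group order. -/
theorem sylow_cyclic_of_exists_orderOf {G : Type*} [Group G] [Finite G] (r : ℕ) [Fact r.Prime]
    (g : G) (hg : orderOf g = r ^ (Nat.card G).factorization r) (R : Sylow r G) :
    IsCyclic (R : Subgroup G) := by
  have hc : Nat.card (Subgroup.zpowers g) = r ^ (Nat.card G).factorization r := by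
    rw [Nat.card_zpowers, hg]
  set S : Sylow r G := Sylow.ofCard (Subgroup.zpowers g) hc with hS
  obtain ⟨c, hcS⟩ := MulAction.exists_smul_eq G S R
  have e : (S : Subgroup G) ≃* ((c • S : Sylow r G) : Subgroup G) := Sylow.equivSMul S c
  rw [hcS] at e
  have : IsCyclic (S : Subgroup G) := by
    rw [hS, Sylow.coe_ofCard]
    infer_instance
  exact e.isCyclic.mp this

/-- For an odd prime r different from the characteristic, the Sylow r-subgroups of SL_2(q) are cyclic. -/
theorem result {F : Type*} [Field F] [Fintype F] (p : ℕ) [Fact p.Prime] [CharP F p] (r : ℕ) [Fact r.Prime] (hr : r ≠ 2) (hrp : r ≠ p) (R : Sylow r (Matrix.SpecialLinearGroup (Fin 2) F)) : IsCyclic (R : Subgroup (Matrix.SpecialLinearGroup (Fin 2) F)) := by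
  classical
  have hrprime : r.Prime := Fact.out
  have hpprime : p.Prime := Fact.out
  set q := Fintype.card F with hq
  have hq2 : 2 ≤ q := Fintype.one_lt_card
  obtain ⟨⟨k, hk0⟩, -, hk⟩ := FiniteField.card F p
  have hcard : Nat.card (Matrix.SpecialLinearGroup (Fin 2) F) = q * ((q - 1) * (q + 1)) := by
    rw [Cfsg.Agent.helper12.card_SL2, Cfsg.Agent.helper11.Torus.sq_sub_one _ (by omega)]
  set a := (Nat.card (Matrix.SpecialLinearGroup (Fin 2) F)).factorization r with ha
  have hdvd : r ^ a ∣ q * ((q - 1) * (q + 1)) := by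
    rw [← hcard]
    exact Nat.ordProj_dvd _ _
  have hcop_q : Nat.Coprime (r ^ a) q := by
    apply Nat.Coprime.pow_left
    rw [hq, hk]
    apply Nat.Coprime.pow_right
    exact (Nat.coprime_primes hrprime hpprime).mpr hrp
  have hdvd2 : r ^ a ∣ (q - 1) * (q + 1) := hcop_q.dvd_of_dvd_mul_left hdvd
  have hor : r ^ a ∣ q - 1 ∨ r ^ a ∣ q + 1 := by
    by_cases h1 : r ∣ q - 1
    · left
      have h2 : ¬ r ∣ q + 1 := by
        intro h2
        have : r ∣ (q + 1) - (q - 1) := Nat.dvd_sub h2 h1
        have e : (q + 1) - (q - 1) = 2 := by omega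
        rw [e] at this
        exact hr ((Nat.prime_dvd_prime_iff_eq hrprime Nat.prime_two).mp this)
      have hc : Nat.Coprime (r ^ a) (q + 1) :=
        Nat.Coprime.pow_left _ ((Nat.Prime.coprime_iff_not_dvd hrprime).mpr h2)
      exact hc.dvd_of_dvd_mul_right hdvd2
    · right
      have hc : Nat.Coprime (r ^ a) (q - 1) :=
        Nat.Coprime.pow_left _ ((Nat.Prime.coprime_iff_not_dvd hrprime).mpr h1)
      exact hc.dvd_of_dvd_mul_left hdvd2
  rcases hor with h | h
  · obtain ⟨g, hg⟩ := Cfsg.Agent.helper11.Torus.exists_orderOf_eq_of_dvd_sub_one (F := F) h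
    exact sylow_cyclic_of_exists_orderOf r g hg R
  · obtain ⟨g, hg⟩ := Cfsg.Agent.helper11.Torus.exists_orderOf_eq_of_dvd_add_one (F := F) h
    exact sylow_cyclic_of_exists_orderOf r g hg R

end Cfsg.Agent.S0262
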