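import Mathlib
import Cfsg.Statements.S3954
import Cfsg.Agent.Lib_helper20_Schur4

set_option autoImplicit false
set_option linter.style.haveILetI false
open Cfsg

namespace Cfsg.Agent.S3954

open Cfsg.Agent.helper20.Schur

/-- a homomorphic image of a finite abelian group embeds in it (duality). -/
theorem embed_of_surjective {B : Type*} [CommGroup B] [Finite B] {W : Type*} [Group W]
    (g : B →* W) (hg : Function.Surjective g) : ∃ j : W →* B, Function.Injective j := by
  let e1 : B ⧸ g.ker ≃* W := QuotientGroup.quotientKerEquivOfSurjective g hg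
  haveI : NeZero (Monoid.exponent (B ⧸ g.ker)) := ⟨Monoid.exponent_ne_zero_of_finite⟩
  haveI : NeZero (Monoid.exponent B) := ⟨Monoid.exponent_ne_zero_of_finite⟩
  obtain ⟨e2⟩ := CommGroup.monoidHom_mulEquiv_of_hasEnoughRootsOfUnity (B ⧸ g.ker) ℂ
  obtain ⟨e3⟩ := CommGroup.monoidHom_mulEquiv_of_hasEnoughRootsOfUnity B ℂ
  let r : ((B ⧸ g.ker) →* ℂˣ) →* (B →* ℂˣ) := MonoidHom.compHom' (QuotientGroup.mk' g.ker)
  have hr : Function.Injective r := by
    intro f1 f2 h
    apply MonoidHom.ext
    intro x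
    obtain ⟨b, rfl⟩ := QuotientGroup.mk_surjective x
    exact DFunLike.congr_fun h b
  refine ⟨(e3.toMonoidHom.comp r).comp (e2.symm.toMonoidHom.comp e1.symm.toMonoidHom), ?_⟩
  intro x y hxy
  simp only [MonoidHom.coe_comp, Function.comp_apply, MulEquiv.coe_toMonoidHom] at hxy
  exact e1.symm.injective (e2.symm.injective (hr (e3.injective hxy)))

theorem result {G : Type*} [Group G] [Finite G] (U : Subgroup G) {A B : Type*} [CommGroup A] [CommGroup B] (hA : Cfsg.HasSchurMultiplier G A) (hB : Cfsg.HasSchurMultiplier U B) : ∃ C : Subgroup B, Nonempty ((powMonoidHom U.index : A →* A).range ≃* C) := by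
  obtain ⟨Γ, _, _, σ, ⟨hs, hc, hd⟩, ⟨e⟩⟩ := hA.1
  obtain ⟨ΓU, _, _, σU, hσU, ⟨eU⟩⟩ := hB.1
  haveI : Finite B := Finite.of_equiv _ eU.toEquiv
  set H : Subgroup Γ := U.comap σ with hH
  let τ : H →* U := σ.subgroupComap U
  have hτs : Function.Surjective τ := MonoidHom.subgroupComap_surjective_of_surjective σ U hs
  have hτk : ∀ x : H, x ∈ τ.ker ↔ (x : Γ) ∈ σ.ker := by
    intro x
    rw [MonoidHom.mem_ker, MonoidHom.mem_ker]
    constructor
    · intro h
      have := congrArg Subtype.val h
      exact this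
    · intro h
      exact Subtype.ext h
  have hτc : τ.ker ≤ Subgroup.center H := by
    intro x hx
    rw [Subgroup.mem_center_iff]
    intro g
    apply Subtype.ext
    exact Subgroup.mem_center_iff.mp (hc ((hτk x).mp hx)) g
  obtain ⟨g, hg⟩ := exists_surj_ker_inf_commutator hB τ hτs hτc
  obtain ⟨j, hj⟩ := embed_of_surjective g hg
  have hidx : H.index = U.index := Subgroup.index_comap_of_surjective U hs
  have hkerH : σ.ker ≤ H := by
    intro z hz
    rw [hH, Subgroup.mem_comap, MonoidHom.mem_ker.mp hz]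
    exact U.one_mem
  -- transfer
  have hpow : ∀ z (hz : z ∈ σ.ker),
      (⟨z ^ U.index, H.pow_mem (hkerH hz) _⟩ : H) ∈ commutator H := by
    intro z hz
    have hzc := hc hz
    have key : ∀ (k : ℕ) (g₀ : Γ), g₀⁻¹ * z ^ k * g₀ ∈ H → g₀⁻¹ * z ^ k * g₀ = z ^ k := by
      intro k g₀ _
      have := Subgroup.mem_center_iff.mp (Subgroup.pow_mem _ hzc k) g₀
      rw [mul_assoc, ← this, inv_mul_cancel_left]
    have h1 := MonoidHom.transfer_eq_pow (Abelianization.of : H →* Abelianization H) z key
    have h2 : MonoidHom.transfer (Abelianization.of : H →* Abelianization H) z = 1 := by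
      have : z ∈ commutator Γ := hd hz
      exact Abelianization.commutator_subset_ker _ this
    rw [h2] at h1
    have h3 : (⟨z ^ H.index, MonoidHom.transfer_eq_pow_aux z key⟩ : H) ∈ commutator H := by
      rw [← Abelianization.ker_of, MonoidHom.mem_ker]
      exact h1.symm
    have h4 : (⟨z ^ U.index, H.pow_mem (hkerH hz) _⟩ : H) =
        ⟨z ^ H.index, MonoidHom.transfer_eq_pow_aux z key⟩ := by
      apply Subtype.ext
      simp only [hidx]
    rw [h4]; exact h3
  -- the embedding of A into Γ
  let ι : A →* Γ := σ.ker.subtype.comp e.symm.toMonoidHom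
  have hι : Function.Injective ι := by
    intro a b hab
    exact e.symm.injective (Subtype.ext hab)
  have hιk : ∀ a, ι a ∈ σ.ker := fun a => (e.symm a).2
  let ι' : A →* H := ι.codRestrict H (fun a => hkerH (hιk a))
  have hmem : ∀ a : (powMonoidHom U.index : A →* A).range,
      (ι'.comp (Subgroup.subtype _)) a ∈ τ.ker ⊓ commutator H := by
    intro a
    obtain ⟨a₀, ha₀⟩ := a.2
    refine Subgroup.mem_inf.mpr ⟨(hτk _).mpr (hιk _), ?_⟩
    have h1 := hpow (ι a₀) (hιk a₀)
    have h2 : (ι'.comp (Subgroup.subtype _)) a =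
        (⟨ι a₀ ^ U.index, H.pow_mem (hkerH (hιk a₀)) _⟩ : H) := by
      apply Subtype.ext
      show ι (a : A) = ι a₀ ^ U.index
      rw [← ha₀, powMonoidHom_apply, map_pow]
    rw [h2]; exact h1
  let f : (powMonoidHom U.index : A →* A).range →* (τ.ker ⊓ commutator H : Subgroup H) :=
    (ι'.comp (Subgroup.subtype _)).codRestrict _ hmem
  have hf : Function.Injective f := by
    intro a b hab
    have h1 := congrArg (fun w : (τ.ker ⊓ commutator H : Subgroup H) => ((w : H) : Γ)) hab
    exact Subtype.ext (hι h1)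
  have hjf : Function.Injective (j.comp f) := hj.comp hf
  exact ⟨(j.comp f).range, ⟨MonoidHom.ofInjective hjf⟩⟩

end Cfsg.Agent.S3954
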