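import Mathlib
import Cfsg.Statements.S3963
import Cfsg.Agent.Lib_helper20_Stem

set_option autoImplicit false
open Cfsg

namespace Cfsg.Agent.S3963

open Cfsg.Agent.helper20

theorem two_n_cast (n : ℕ) : (n : ZMod (2 * n)) + n = 0 := by
  have : ((2 * n : ℕ) : ZMod (2 * n)) = 0 := ZMod.natCast_self _
  push_cast at this
  linear_combination this

theorem quat_gen (n : ℕ) [NeZero n] :
    Subgroup.closure ({QuaternionGroup.a 1, QuaternionGroup.xa 0} : Set (QuaternionGroup n)) = ⊤ := by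
  rw [eq_top_iff]
  intro x _
  have hr : ∀ i : ZMod (2 * n), QuaternionGroup.a i ∈
      Subgroup.closure ({QuaternionGroup.a 1, QuaternionGroup.xa 0} : Set (QuaternionGroup n)) := by
    intro i
    obtain ⟨k, rfl⟩ := ZMod.natCast_zmod_surjective i
    rw [← QuaternionGroup.a_one_pow]
    exact Subgroup.pow_mem _ (Subgroup.subset_closure (by simp)) k
  cases x with
  | a i => exact hr i
  | xa i =>
    have : QuaternionGroup.xa i = QuaternionGroup.xa 0 * QuaternionGroup.a i := by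
      rw [QuaternionGroup.xa_mul_a, zero_add]
    rw [this]
    exact Subgroup.mul_mem _ (Subgroup.subset_closure (by simp)) (hr i)

theorem inv_xa_zero (n : ℕ) :
    (QuaternionGroup.xa (0 : ZMod (2 * n)) : QuaternionGroup n)⁻¹ = .xa (n : ZMod (2 * n)) := by
  apply inv_eq_of_mul_eq_one_right
  rw [QuaternionGroup.xa_mul_xa, QuaternionGroup.one_def]
  congr 1
  linear_combination two_n_cast n

theorem quat_rel (n : ℕ) :
    (QuaternionGroup.xa 0 : QuaternionGroup n) * QuaternionGroup.a 1 * (QuaternionGroup.xa 0)⁻¹ *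
      QuaternionGroup.a 1 = 1 := by
  rw [inv_xa_zero, QuaternionGroup.xa_mul_a, QuaternionGroup.xa_mul_xa, QuaternionGroup.a_mul_a,
    QuaternionGroup.one_def]
  congr 1
  linear_combination two_n_cast n

/-- For every `n ≥ 1` the dicyclic (generalized quaternion) group of order `4 n` has trivial Schur multiplier. -/
theorem result (n : ℕ) [NeZero n] : Cfsg.HasCyclicSchurMultiplier (QuaternionGroup n) 1 := by
  have hn0 : n ≠ 0 := NeZero.ne n
  refine ⟨⟨QuaternionGroup n, inferInstance, inferInstance, MonoidHom.id _,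
    ⟨Function.surjective_id, ?_, ?_⟩, ?_⟩, ?_⟩
  · rw [MonoidHom.ker_id]; exact bot_le
  · rw [MonoidHom.ker_id]; exact bot_le
  · rw [MonoidHom.ker_id]
    have : Unique (Multiplicative (ZMod 1)) := inferInstanceAs (Unique (ZMod 1))
    exact ⟨MulEquiv.ofUnique⟩
  · intro Γ _ _ σ hσ
    have hker : σ.ker = ⊥ := by
      rw [eq_bot_iff]
      intro w hw
      obtain ⟨ρ, hρ⟩ := hσ.1 (QuaternionGroup.a 1)
      obtain ⟨τ, hτ⟩ := hσ.1 (QuaternionGroup.xa 0)
      have hgen : Subgroup.closure ({σ ρ, σ τ} : Set (QuaternionGroup n)) = ⊤ := by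
        rw [hρ, hτ]; exact quat_gen n
      have hrel : σ τ * σ ρ * (σ τ)⁻¹ * σ ρ = 1 := by
        rw [hρ, hτ]; exact quat_rel n
      obtain ⟨k, hk, _⟩ := dihedral_like_key σ hσ ρ τ hgen hrel w hw
      have hzker : τ * ρ * τ⁻¹ * ρ ∈ σ.ker := by
        rw [MonoidHom.mem_ker, map_mul, map_mul, map_mul, map_inv]; exact hrel
      have hsq : (ρ ^ n)⁻¹ * (τ * τ) ∈ σ.ker := by
        rw [MonoidHom.mem_ker, map_mul, map_inv, map_pow, map_mul, hρ, hτ,
          QuaternionGroup.a_one_pow, QuaternionGroup.xa_mul_xa, sub_zero, add_zero, inv_mul_cancel]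
      have hd : τ * ρ ^ n * τ⁻¹ = ρ ^ n := conj_pow_of_sq σ hσ.2.1 ρ τ n hsq
      have hβn := beta_pow_eq_one σ hσ.2.1 ρ τ hzker n hd
      set β := ρ⁻¹ * ρ⁻¹ * (τ * ρ * τ⁻¹ * ρ) with hβ
      have hσβ : σ β = (QuaternionGroup.a 1 : QuaternionGroup n) ^ (-2 : ℤ) := by
        rw [hβ, map_mul, map_mul, map_inv, MonoidHom.mem_ker.mp hzker, mul_one, hρ]
        group
      have h1 : σ (β ^ k) = 1 := by rw [← hk]; exact hw
      rw [map_zpow, hσβ, ← zpow_mul, ← orderOf_dvd_iff_zpow_eq_one, QuaternionGroup.orderOf_a_one] at h1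
      have h4 : (n : ℤ) ∣ k := by
        obtain ⟨c, hc⟩ := h1
        refine ⟨-c, ?_⟩
        push_cast at hc
        have h2 : (2 : ℤ) * k = 2 * (n * -c) := by linear_combination -hc
        exact mul_left_cancel₀ (by norm_num) h2
      obtain ⟨l, hl⟩ := h4
      rw [Subgroup.mem_bot, hk, hl, zpow_mul, zpow_natCast, hβn, one_zpow]
    refine ⟨1, ?_⟩
    intro ⟨x, hx⟩
    refine ⟨1, ?_⟩
    rw [hker, Subgroup.mem_bot] at hx
    subst hx
    rfl

end Cfsg.Agent.S3963
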