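import Mathlib
import Cfsg.Agent.H16SM4
import Cfsg.Agent.S3963
import Cfsg.Agent.S3979
import Cfsg.Agent.S3954
import Cfsg.Agent.S0261
import Cfsg.Agent.S0262
import Cfsg.Agent.Lib_helper20_Schur4

set_option autoImplicit false

namespace Cfsg.Agent.H16SM

open Cfsg.Agent.helper20 Cfsg.Agent.helper20.Schur

universe u

/-- trivial multiplier from trivial kernels -/
theorem triv_mult_of_ker_bot {U : Type u} [Group U] [Finite U]
    (h : ∀ (Γ : Type u) [Group Γ] [Finite Γ] (σ : Γ →* U), Cfsg.IsStemExtension σ → σ.ker = ⊥) :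
    Cfsg.HasCyclicSchurMultiplier U 1 := by
  refine ⟨⟨U, inferInstance, inferInstance, MonoidHom.id U, ⟨Function.surjective_id, ?_, ?_⟩, ?_⟩, ?_⟩
  · rw [MonoidHom.ker_id]; exact bot_le
  · rw [MonoidHom.ker_id]; exact bot_le
  · rw [MonoidHom.ker_id]
    have : Unique (Multiplicative (ZMod 1)) := inferInstanceAs (Unique (ZMod 1))
    exact ⟨MulEquiv.ofUnique⟩
  · intro Γ _ _ σ hσ
    have hker := h Γ σ hσ
    refine ⟨1, ?_⟩
    intro ⟨x, hx⟩
    refine ⟨1, ?_⟩
    rw [hker, Subgroup.mem_bot] at hx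
    subst hx
    rfl

/-- stem extensions of generalized quaternion groups are trivial, in any universe -/
theorem quat_ker_bot (n : ℕ) [NeZero n] {Γ : Type*} [Group Γ] (σ : Γ →* QuaternionGroup n)
    (hσ : Cfsg.IsStemExtension σ) : σ.ker = ⊥ := by
  rw [eq_bot_iff]
  intro w hw
  obtain ⟨ρ, hρ⟩ := hσ.1 (QuaternionGroup.a 1)
  obtain ⟨τ, hτ⟩ := hσ.1 (QuaternionGroup.xa 0)
  have hgen : Subgroup.closure ({σ ρ, σ τ} : Set (QuaternionGroup n)) = ⊤ := by
    rw [hρ, hτ]; exact Cfsg.Agent.S3963.quat_gen n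
  have hrel : σ τ * σ ρ * (σ τ)⁻¹ * σ ρ = 1 := by
    rw [hρ, hτ]; exact Cfsg.Agent.S3963.quat_rel n
  obtain ⟨k, hk, _⟩ := dihedral_like_key σ hσ ρ τ hgen hrel w hw
  have hzker : τ * ρ * τ⁻¹ * ρ ∈ σ.ker := by
    rw [MonoidHom.mem_ker, map_mul, map_mul, map_mul, map_inv]; exact hrel
  have hsq : (ρ ^ n)⁻¹ * (τ * τ) ∈ σ.ker := by
    rw [MonoidHom.mem_ker, map_mul, map_inv, map_pow, map_mul, hρ, hτ,
      QuaternionGroup.a_one_pow, QuaternionGroup.xa_mul_xa, sub_zero, add_zero, inv_mul_cancel]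
  have hd : τ * ρ ^ n * τ⁻¹ = ρ ^ n := conj_pow_of_sq σ hσ.2.1 ρ τ n hsq
  have hβn := beta_pow_eq_one σ hσ.2.1 ρ τ hzker n hd
  set β := ρ⁻¹ * ρ⁻¹ * (τ * ρ * τ⁻¹ * ρ) with hβ
  have hσβ : σ β = (QuaternionGroup.a 1 : QuaternionGroup n) ^ (-2 : ℤ) := by
    rw [hβ, map_mul, map_mul, map_inv, MonoidHom.mem_ker.mp hzker, mul_one, hρ]
    group
  have h1 : σ (β ^ k) = 1 := by rw [← hk]; exact hw
  rw [map_zpow, hσβ, ← zpow_mul, ← orderOf_dvd_iff_zpow_eq_one, QuaternionGroup.orderOf_a_one] at h1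
  have h4 : (n : ℤ) ∣ k := by
    obtain ⟨c, hc⟩ := h1
    refine ⟨-c, ?_⟩
    push_cast at hc
    have h2 : (2 : ℤ) * k = 2 * (n * -c) := by linear_combination -hc
    exact mul_left_cancel₀ (by norm_num) h2
  obtain ⟨l, hl⟩ := h4
  rw [Subgroup.mem_bot, hk, hl, zpow_mul, zpow_natCast, hβn, one_zpow]

/-- a group isomorphic to a generalized quaternion group has trivial multiplier -/
theorem triv_mult_of_quat {U : Type u} [Group U] [Finite U] (n : ℕ) [NeZero n]
    (e : U ≃* QuaternionGroup n) : Cfsg.HasCyclicSchurMultiplier U 1 := by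
  apply triv_mult_of_ker_bot
  intro Γ _ _ σ hσ
  have hker : (e.toMonoidHom.comp σ).ker = σ.ker := by
    ext x
    simp only [MonoidHom.mem_ker, MonoidHom.coe_comp, Function.comp_apply,
      MulEquiv.coe_toMonoidHom]
    exact e.map_eq_one_iff
  have hst : Cfsg.IsStemExtension (e.toMonoidHom.comp σ) := by
    refine ⟨?_, ?_, ?_⟩
    · exact e.surjective.comp hσ.1
    · rw [hker]; exact hσ.2.1
    · rw [hker]; exact hσ.2.2
  rw [← hker]
  exact quat_ker_bot n _ hst

section main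

variable {F : Type u} [Field F] [Fintype F]

local notation "SL2" => Matrix.SpecialLinearGroup (Fin 2) F

/-- for a prime `r` other than the characteristic, some subgroup of index prime to `r` has
trivial multiplier -/
theorem exists_sub_ne (p : ℕ) [Fact p.Prime] [CharP F p] (r : ℕ) [hr : Fact r.Prime]
    (hrp : r ≠ p) :
    ∃ U : Subgroup SL2, Cfsg.HasCyclicSchurMultiplier U 1 ∧ ¬ r ∣ U.index := by
  obtain ⟨R⟩ : Nonempty (Sylow r SL2) := inferInstance
  refine ⟨R, ?_, R.not_dvd_index⟩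
  by_cases hr2 : r = 2
  · subst hr2
    have hodd : Odd (Fintype.card F) := by
      obtain ⟨n, hp, hn⟩ := FiniteField.card F p
      rw [hn]
      apply Odd.pow
      rcases hp.eq_two_or_odd' with h | h
      · exact absurd h.symm hrp
      · exact h
    obtain ⟨k, _, ⟨e⟩⟩ := Cfsg.Agent.S0261.result hodd R
    haveI : NeZero (2 ^ k) := ⟨by positivity⟩
    exact triv_mult_of_quat (2 ^ k) e
  · haveI : IsCyclic (R : Subgroup SL2) := Cfsg.Agent.S0262.result p r hr2 hrp R
    exact Cfsg.Agent.S3979.result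

theorem main (h4 : Fintype.card F ≠ 4) (h9 : Fintype.card F ≠ 9) :
    Cfsg.HasCyclicSchurMultiplier SL2 1 := by
  obtain ⟨p, hchar⟩ := CharP.exists F
  haveI := hchar
  haveI : Fact p.Prime := ⟨CharP.char_is_prime F p⟩
  have hπ := canPi_surjective SL2
  haveI : Finite (MM (canPi SL2)) := finite_MM (canPi SL2)
  letI instM : CommGroup (MM (canPi SL2)) :=
    { (inferInstance : Group (MM (canPi SL2))) with
      mul_comm := fun a b => Subtype.ext
        ((Subgroup.mem_center_iff.mp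
          (ker_eps_le_center (canPi SL2) ((inf_le_left : MM (canPi SL2) ≤ _) a.2)) b).symm) }
  have hA : Cfsg.HasSchurMultiplier SL2 (MM (canPi SL2)) :=
    (hasSchurMultiplier_iff (canPi SL2) hπ).mpr ⟨MulEquiv.refl _⟩
  -- the multiplier has no element of prime order
  have key : ∀ (r : ℕ), r.Prime → ∀ b : MM (canPi SL2), b ^ r = 1 → b = 1 := by
    intro r hr b hb
    haveI : Fact r.Prime := ⟨hr⟩
    by_cases hrp : r = p
    · subst hrp
      obtain ⟨⟨Γ, _, _, σ, hσ, ⟨e⟩⟩, _⟩ := hA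
      have hz : ((e.symm b : σ.ker) : Γ) ∈ σ.ker := (e.symm b).2
      have hzp : ((e.symm b : σ.ker) : Γ) ^ r = 1 := by
        rw [← Subgroup.coe_pow, ← map_pow, hb, map_one, Subgroup.coe_one]
      have := no_p_part h4 h9 r σ hσ.1 hσ.2.1 hσ.2.2 _ hz hzp
      have h1 : e.symm b = 1 := Subtype.ext this
      exact (MulEquiv.map_eq_one_iff e.symm).mp h1
    · obtain ⟨U, hU, hidx⟩ := exists_sub_ne (F := F) p r hrp
      obtain ⟨C, ⟨f⟩⟩ := Cfsg.Agent.S3954.result U hA hU
      have hsub : Subsingleton (Multiplicative (ZMod 1)) :=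
        inferInstanceAs (Subsingleton (ZMod 1))
      have h1 : b ^ U.index = 1 := by
        have hmem : b ^ U.index ∈ (powMonoidHom U.index : MM (canPi SL2) →* _).range :=
          ⟨b, rfl⟩
        have h2 : f ⟨b ^ U.index, hmem⟩ = f 1 := Subsingleton.elim _ _
        have h3 := f.injective h2
        exact congrArg Subtype.val h3
      have ho1 : orderOf b ∣ r := orderOf_dvd_of_pow_eq_one hb
      have ho2 : orderOf b ∣ U.index := orderOf_dvd_of_pow_eq_one h1
      rcases (Nat.dvd_prime hr).mp ho1 with h | h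
      · exact orderOf_eq_one_iff.mp h
      · rw [h] at ho2
        exact absurd ho2 hidx
  have htriv : ∀ b : MM (canPi SL2), b = 1 := by
    intro b
    by_contra hb
    have hne : orderOf b ≠ 1 := fun h => hb (orderOf_eq_one_iff.mp h)
    obtain ⟨r, hr, hdvd⟩ := Nat.exists_prime_and_dvd hne
    obtain ⟨m, hm⟩ := hdvd
    have hpos : 0 < orderOf b := orderOf_pos b
    have h1 : (b ^ m) ^ r = 1 := by
      rw [← pow_mul, mul_comm, ← hm, pow_orderOf_eq_one]
    have h2 := key r hr (b ^ m) h1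
    have h3 : orderOf b ∣ m := orderOf_dvd_of_pow_eq_one h2
    have hm0 : 0 < m := by
      rcases Nat.eq_zero_or_pos m with h | h
      · rw [h, mul_zero] at hm; omega
      · exact h
    have h4' := Nat.le_of_dvd hm0 h3
    rw [hm] at h4'
    have : 2 ≤ r := hr.two_le
    nlinarith
  haveI : Unique (MM (canPi SL2)) := ⟨⟨1⟩, htriv⟩
  haveI : Unique (Multiplicative (ZMod 1)) := inferInstanceAs (Unique (ZMod 1))
  exact (hasSchurMultiplier_iff (canPi SL2) hπ).mpr ⟨MulEquiv.ofUnique⟩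

end main

end Cfsg.Agent.H16SM
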