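import Mathlib
import Cfsg.Prelude.Def_Local
import Cfsg.Agent.Lib_helper4_RedG
import Cfsg.Agent.Lib_helper23_PSolv
import Cfsg.Agent.Lib_helper24_DLBound

set_option autoImplicit false
set_option linter.unusedSectionVars false

/-!
# `p`-solvable groups have no section `SL₂(p)` for `p ≥ 5`
-/

namespace Cfsg.Agent.helper4.Red

open Matrix Cfsg.Agent.helper4.Dk
open scoped commutatorElement

variable {p : ℕ} [Fact p.Prime]

theorem uS_pow {K : Type*} [Field K] (a : K) (n : ℕ) : uS a ^ n = uS (n * a) := by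
  induction n with
  | zero => simp [uS_zero]
  | succ n ih =>
    rw [pow_succ, ih, ← uS_add]
    congr 1
    push_cast
    ring

theorem lS_pow {K : Type*} [Field K] (a : K) (n : ℕ) : lS a ^ n = lS (n * a) := by
  induction n with
  | zero => simp [lS_zero]
  | succ n ih =>
    rw [pow_succ, ih, ← lS_add]
    congr 1
    push_cast
    ring

theorem commutator_sl2_eq_top (hp : 5 ≤ p) :
    commutator (SpecialLinearGroup (Fin 2) (ZMod p)) = ⊤ := by
  have hpp : p.Prime := Fact.out
  have h2 : (2 : ZMod p) ≠ 0 := by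
    intro h
    have h' : ((2 : ℕ) : ZMod p) = 0 := by exact_mod_cast h
    rw [ZMod.natCast_eq_zero_iff] at h'
    have := Nat.le_of_dvd (by norm_num) h'
    omega
  have h3 : (3 : ZMod p) ≠ 0 := by
    intro h
    have h' : ((3 : ℕ) : ZMod p) = 0 := by exact_mod_cast h
    rw [ZMod.natCast_eq_zero_iff] at h'
    have := Nat.le_of_dvd (by norm_num) h'
    omega
  apply Cfsg.Agent.helper11.SL2U.eq_top_of_uS_lS_mem
  · intro s
    rw [uS_eq_helper11]
    have hmem : ⁅(dS (2 : ZMod p) h2)⁻¹, uS (-4 * s / 3)⁆ ∈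
        commutator (SpecialLinearGroup (Fin 2) (ZMod p)) :=
      Subgroup.commutator_mem_commutator (Subgroup.mem_top _) (Subgroup.mem_top _)
    have heq : ⁅(dS (2 : ZMod p) h2)⁻¹, uS (-4 * s / 3)⁆ = uS s := by
      rw [commutatorElement_def, inv_inv, dS_conj_uS, uS_inv, ← uS_add]
      congr 1
      field_simp
      ring
    rw [← heq]; exact hmem
  · intro s
    rw [lS_eq_helper11]
    have hmem : ⁅(dS (2 : ZMod p) h2)⁻¹, lS (s / 3)⁆ ∈
        commutator (SpecialLinearGroup (Fin 2) (ZMod p)) :=
      Subgroup.commutator_mem_commutator (Subgroup.mem_top _) (Subgroup.mem_top _)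
    have heq : ⁅(dS (2 : ZMod p) h2)⁻¹, lS (s / 3)⁆ = lS s := by
      rw [commutatorElement_def, inv_inv, dS_conj_lS, lS_inv, ← lS_add]
      congr 1
      field_simp
      ring
    rw [← heq]; exact hmem

theorem eq_top_of_index_pow {X : Type*} [Group X] [Finite X] (hperf : commutator X = ⊤)
    (K : Subgroup X) [K.Normal] {m : ℕ} (hK : K.index = p ^ m) : K = ⊤ := by
  have hcard : Nat.card (X ⧸ K) = p ^ m := by rw [← Subgroup.index_eq_card, hK]
  have hP : IsPGroup p (X ⧸ K) := IsPGroup.of_card hcard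
  haveI : Group.IsNilpotent (X ⧸ K) := hP.isNilpotent
  by_contra hne
  haveI : Nontrivial (X ⧸ K) := by
    rw [← Finite.one_lt_card_iff_nontrivial, ← Subgroup.index_eq_card]
    have h1 : K.index ≠ 1 := fun h => hne (Subgroup.index_eq_one.mp h)
    have h0 : K.index ≠ 0 := Subgroup.index_ne_zero_of_finite
    omega
  have hlt := IsSolvable.commutator_lt_top_of_nontrivial (X ⧸ K)
  have hc : commutator (X ⧸ K) = ⊤ := by
    have := Subgroup.map_commutator (⊤ : Subgroup X) (⊤ : Subgroup X) (QuotientGroup.mk' K)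
    rw [← MonoidHom.range_eq_map, MonoidHom.range_eq_top.mpr (QuotientGroup.mk'_surjective K)]
      at this
    rw [commutator_def, ← this]
    have h' : ⁅(⊤ : Subgroup X), (⊤ : Subgroup X)⁆ = (⊤ : Subgroup X) := by
      rw [← commutator_def, hperf]
    rw [h', ← MonoidHom.range_eq_map, MonoidHom.range_eq_top.mpr (QuotientGroup.mk'_surjective K)]
  rw [hc] at hlt
  exact lt_irrefl _ hlt

theorem mem_of_index_coprime {X : Type*} [Group X] [Finite X] (K : Subgroup X) [K.Normal]
    (hK : K.index.Coprime p) (x : X) (hx : x ^ p = 1) : x ∈ K := by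
  have h1 : orderOf (QuotientGroup.mk' K x) ∣ p := by
    apply orderOf_dvd_of_pow_eq_one
    rw [← map_pow, hx, map_one]
  have h2 : orderOf (QuotientGroup.mk' K x) ∣ K.index := by
    rw [Subgroup.index_eq_card]
    exact orderOf_dvd_natCard _
  have h3 : orderOf (QuotientGroup.mk' K x) = 1 :=
    Nat.eq_one_of_dvd_coprimes hK h2 h1
  rw [orderOf_eq_one_iff] at h3
  exact (QuotientGroup.eq_one_iff x).mp h3

theorem not_isPSolvable_sl2 (hp : 5 ≤ p) :
    ¬ Cfsg.IsPSolvable p (SpecialLinearGroup (Fin 2) (ZMod p)) := by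
  intro h
  rw [Cfsg.Agent.helper23.isPSolvable_iff_psreach] at h
  have hperf := commutator_sl2_eq_top hp
  have key : ∀ L : Subgroup (SpecialLinearGroup (Fin 2) (ZMod p)),
      Cfsg.Agent.helper23.PSReach p L → L = ⊤ →
        (⊥ : Subgroup (SpecialLinearGroup (Fin 2) (ZMod p))) = ⊤ := by
    intro L hL
    induction hL with
    | bot => exact id
    | step K L hK hKL hLn hidx ih =>
      intro hLtop
      apply ih
      haveI := hK.normal
      rw [hLtop, Subgroup.relIndex_top_right] at hidx
      rcases hidx with ⟨m, hm⟩ | hc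
      · exact eq_top_of_index_pow hperf K hm
      · apply Cfsg.Agent.helper11.SL2U.eq_top_of_uS_lS_mem
        · intro s
          apply mem_of_index_coprime K hc
          rw [uS_eq_helper11, uS_pow]
          have : ((p : ℕ) : ZMod p) * s = 0 := by rw [ZMod.natCast_self, zero_mul]
          rw [this, uS_zero]
        · intro s
          apply mem_of_index_coprime K hc
          rw [lS_eq_helper11, lS_pow]
          have : ((p : ℕ) : ZMod p) * s = 0 := by rw [ZMod.natCast_self, zero_mul]
          rw [this, lS_zero]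
  have hbt := key ⊤ h rfl
  have : uS (1 : ZMod p) ∈ (⊥ : Subgroup (SpecialLinearGroup (Fin 2) (ZMod p))) := by
    rw [hbt]; trivial
  rw [Subgroup.mem_bot] at this
  have h01 := congrArg (fun g : SpecialLinearGroup (Fin 2) (ZMod p) => g 0 1) this
  simp at h01

theorem not_hasSec_of_isPSolvable {G : Type*} [Group G] (hp : 5 ≤ p)
    (h : Cfsg.IsPSolvable p G) : ¬ HasSec p G := by
  rintro ⟨K, ψ, hψ⟩
  have hpp : p.Prime := Fact.out
  have h1 := Cfsg.Agent.helper24.isPSolvable_subgroup hpp h K
  exact not_isPSolvable_sl2 hp (Cfsg.Agent.helper23.isPSolvable_of_surjective hpp ψ hψ h1)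

end Cfsg.Agent.helper4.Red
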