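import Mathlib
import Cfsg.Statements.S0255
import Cfsg.Agent.S0243
import Cfsg.Agent.S0249

set_option autoImplicit false
open Cfsg

namespace Cfsg.Agent.S0255

section
variable {P : Type*} [Group P] (H : Subgroup P)

/-- `a * s` lies in the coset `H * b` -/
def R (a s b : P) : Prop := ∃ u ∈ H, a * s = u * b

theorem R_def' (a s : P) : R H a s (a * s) := ⟨1, H.one_mem, (one_mul _).symm⟩

theorem R_comp {a b c s t : P} (h1 : R H a s b) (h2 : R H b t c) : R H a (s * t) c := by
  obtain ⟨u1, hu1, e1⟩ := h1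
  obtain ⟨u2, hu2, e2⟩ := h2
  refine ⟨u1 * u2, H.mul_mem hu1 hu2, ?_⟩
  rw [← mul_assoc, e1, mul_assoc, e2, mul_assoc]

theorem R_close {a c w s : P} (hr : w * s = 1) (h : R H a w c) : R H c s a := by
  obtain ⟨u, hu, e⟩ := h
  refine ⟨u⁻¹, H.inv_mem hu, ?_⟩
  have : u * (c * s) = a := by
    rw [← mul_assoc, ← e, mul_assoc, hr, mul_one]
  rw [← this, inv_mul_cancel_left]

end

/-- The coset table of `⟨z⟩` in a group satisfying the (2,3,7;4) relations. -/
theorem coset_table {P : Type*} [Group P] (y z : P) (h_yyy0 : y * y * y = 1)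
    (h_zzzzzzz0 : z * z * z * z * z * z * z = 1) (h_zyyzyy0 : z * y * y * z * y * y = 1)
    (h_zzyzzyzzyzzy0 : z * z * y * z * z * y * z * z * y * z * z * y = 1) :
    ∃ W : Fin 24 → P, W 0 = 1 ∧ ∀ i : Fin 24,
      (∃ j, R (Subgroup.zpowers z) (W i) y (W j)) ∧ (∃ j, R (Subgroup.zpowers z) (W i) z (W j)) := by
  set H := Subgroup.zpowers z with hH
  have hzH : z ∈ H := Subgroup.mem_zpowers z
  have h_yyy : y * y * y = 1 := h_yyy0
  have h_yyzyyz : y * y * z * y * y * z = 1 := by
    have e : y * y * z * y * y * z = (z)⁻¹ * (z * y * y * z * y * y) * (z) := by group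
    rw [e, h_zyyzyy0]; group
  have h_yzzyzzyzzyzz : y * z * z * y * z * z * y * z * z * y * z * z = 1 := by
    have e : y * z * z * y * z * z * y * z * z * y * z * z = (z * z)⁻¹ * (z * z * y * z * z * y * z * z * y * z * z * y) * (z * z) := by group
    rw [e, h_zzyzzyzzyzzy0]; group
  have h_zyyzyy : z * y * y * z * y * y = 1 := h_zyyzyy0
  have h_zyzzyzzyzzyz : z * y * z * z * y * z * z * y * z * z * y * z = 1 := by
    have e : z * y * z * z * y * z * z * y * z * z * y * z = (z)⁻¹ * (z * z * y * z * z * y * z * z * y * z * z * y) * (z) := by group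
    rw [e, h_zzyzzyzzyzzy0]; group
  have h_zzyzzyzzyzzy : z * z * y * z * z * y * z * z * y * z * z * y = 1 := h_zzyzzyzzyzzy0
  have h_zzzzzzz : z * z * z * z * z * z * z = 1 := h_zzzzzzz0
  have E0z : R H (1) z (1) := ⟨z, hzH, by simp⟩
  have E0y : R H (1) y (1 * y) := R_def' H _ _
  have E1y : R H (1 * y) y (1 * y * y) := R_def' H _ _
  have E2y : R H (1 * y * y) y (1) := R_close H h_yyy (R_comp H E0y E1y)
  have E2z : R H (1 * y * y) z (1 * y) := R_close H h_yyzyyz (R_comp H (R_comp H (R_comp H (R_comp H E1y E2y) E0z) E0y) E1y)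
  have E1z : R H (1 * y) z (1 * y * z) := R_def' H _ _
  have E3y : R H (1 * y * z) y (1 * y * z * y) := R_def' H _ _
  have E3z : R H (1 * y * z) z (1 * y * z * z) := R_def' H _ _
  have E4y : R H (1 * y * z * y) y (1 * y * z * y * y) := R_def' H _ _
  have E6z : R H (1 * y * z * y * y) z (1 * y * y) := R_close H h_yyzyyz (R_comp H (R_comp H (R_comp H (R_comp H E2y E0y) E1z) E3y) E4y)
  have E6y : R H (1 * y * z * y * y) y (1 * y * z) := R_close H h_yyy (R_comp H E3y E4y)
  have E4z : R H (1 * y * z * y) z (1 * y * z * y * z) := R_def' H _ _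
  have E5y : R H (1 * y * z * z) y (1 * y * z * z * y) := R_def' H _ _
  have E5z : R H (1 * y * z * z) z (1 * y * z * z * z) := R_def' H _ _
  have E7y : R H (1 * y * z * y * z) y (1 * y * z * y * z * y) := R_def' H _ _
  have E7z : R H (1 * y * z * y * z) z (1 * y * z * y * z * z) := R_def' H _ _
  have E8y : R H (1 * y * z * z * y) y (1 * y * z * z * y * y) := R_def' H _ _
  have E12z : R H (1 * y * z * z * y * y) z (1 * y * z * y) := R_close H h_yyzyyz (R_comp H (R_comp H (R_comp H (R_comp H E4y E6y) E3z) E5y) E8y)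
  have E12y : R H (1 * y * z * z * y * y) y (1 * y * z * z) := R_close H h_yyy (R_comp H E5y E8y)
  have E8z : R H (1 * y * z * z * y) z (1 * y * z * z * y * z) := R_def' H _ _
  have E9y : R H (1 * y * z * z * z) y (1 * y * z * z * z * y) := R_def' H _ _
  have E9z : R H (1 * y * z * z * z) z (1 * y * z * z * z * z) := R_def' H _ _
  have E15z : R H (1 * y * z * z * z * z) z (1 * y * z * y * y) := R_close H h_zzzzzzz (R_comp H (R_comp H (R_comp H (R_comp H (R_comp H E6z E2z) E1z) E3z) E5z) E9z)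
  have E10y : R H (1 * y * z * y * z * y) y (1 * y * z * z * z * z) := R_close H h_zyyzyy (R_comp H (R_comp H (R_comp H (R_comp H E15z E6y) E3y) E4z) E7y)
  have E15y : R H (1 * y * z * z * z * z) y (1 * y * z * y * z) := R_close H h_yyy (R_comp H E7y E10y)
  have E13z : R H (1 * y * z * z * y * z) z (1 * y * z * y * z * y) := R_close H h_yzzyzzyzzyzz (R_comp H (R_comp H (R_comp H (R_comp H (R_comp H (R_comp H (R_comp H (R_comp H (R_comp H (R_comp H E10y E15z) E6z) E2y) E0z) E0z) E0y) E1z) E3z) E5y) E8z)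
  have E11y : R H (1 * y * z * y * z * z) y (1 * y * z * y * z * z * y) := R_def' H _ _
  have E16z : R H (1 * y * z * y * z * z * y) z (1 * y * z * z * y * y) := R_close H h_zyzzyzzyzzyz (R_comp H (R_comp H (R_comp H (R_comp H (R_comp H (R_comp H (R_comp H (R_comp H (R_comp H (R_comp H E12z E4y) E6z) E2z) E1y) E2z) E1z) E3y) E4z) E7z) E11y)
  have E16y : R H (1 * y * z * y * z * z * y) y (1 * y * z * z * y * z) := R_close H h_zyyzyy (R_comp H (R_comp H (R_comp H (R_comp H E13z E10y) E15y) E7z) E11y)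
  have E13y : R H (1 * y * z * z * y * z) y (1 * y * z * y * z * z) := R_close H h_yyy (R_comp H E11y E16y)
  have E11z : R H (1 * y * z * y * z * z) z (1 * y * z * y * z * z * z) := R_def' H _ _
  have E14y : R H (1 * y * z * z * z * y) y (1 * y * z * z * z * y * y) := R_def' H _ _
  have E18z : R H (1 * y * z * z * z * y * y) z (1 * y * z * z * y) := R_close H h_yyzyyz (R_comp H (R_comp H (R_comp H (R_comp H E8y E12y) E5z) E9y) E14y)
  have E18y : R H (1 * y * z * z * z * y * y) y (1 * y * z * z * z) := R_close H h_yyy (R_comp H E9y E14y)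
  have E10z : R H (1 * y * z * y * z * y) z (1 * y * z * z * z * y) := R_close H h_yyzyyz (R_comp H (R_comp H (R_comp H (R_comp H E14y E18y) E9z) E15y) E7y)
  have E14z : R H (1 * y * z * z * z * y) z (1 * y * z * z * z * y * z) := R_def' H _ _
  have E17y : R H (1 * y * z * y * z * z * z) y (1 * y * z * y * z * z * z * y) := R_def' H _ _
  have E17z : R H (1 * y * z * y * z * z * z) z (1 * y * z * y * z * z * z * z) := R_def' H _ _
  have E21z : R H (1 * y * z * y * z * z * z * z) z (1 * y * z * y * z * z * y) := R_close H h_zzzzzzz (R_comp H (R_comp H (R_comp H (R_comp H (R_comp H E16z E12z) E4z) E7z) E11z) E17z)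
  have E21y : R H (1 * y * z * y * z * z * z * z) y (1 * y * z * y * z * z * z) := R_close H h_zzyzzyzzyzzy (R_comp H (R_comp H (R_comp H (R_comp H (R_comp H (R_comp H (R_comp H (R_comp H (R_comp H (R_comp H E17z E21z) E16y) E13z) E10z) E14y) E18z) E8z) E13y) E11z) E17z)
  have E20y : R H (1 * y * z * y * z * z * z * y) y (1 * y * z * y * z * z * z * z) := R_close H h_yyy (R_comp H E21y E17y)
  have E20z : R H (1 * y * z * y * z * z * z * y) z (1 * y * z * y * z * z * z * y) := R_close H h_yyzyyz (R_comp H (R_comp H (R_comp H (R_comp H E20y E21y) E17z) E21y) E17y)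
  have E19y : R H (1 * y * z * z * z * y * z) y (1 * y * z * z * z * y * z * y) := R_def' H _ _
  have E19z : R H (1 * y * z * z * z * y * z) z (1 * y * z * z * z * y * z * z) := R_def' H _ _
  have E23z : R H (1 * y * z * z * z * y * z * z) z (1 * y * z * z * z * y * y) := R_close H h_zzzzzzz (R_comp H (R_comp H (R_comp H (R_comp H (R_comp H E18z E8z) E13z) E10z) E14z) E19z)
  have E23y : R H (1 * y * z * z * z * y * z * z) y (1 * y * z * z * z * y * z) := R_close H h_zzyzzyzzyzzy (R_comp H (R_comp H (R_comp H (R_comp H (R_comp H (R_comp H (R_comp H (R_comp H (R_comp H (R_comp H E19z E23z) E18y) E9z) E15z) E6y) E3z) E5z) E9y) E14z) E19z)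
  have E22y : R H (1 * y * z * z * z * y * z * y) y (1 * y * z * z * z * y * z * z) := R_close H h_yyy (R_comp H E23y E19y)
  have E22z : R H (1 * y * z * z * z * y * z * y) z (1 * y * z * z * z * y * z * y) := R_close H h_yyzyyz (R_comp H (R_comp H (R_comp H (R_comp H E22y E23y) E19z) E23y) E19y)
  refine ⟨![1, 1 * y, 1 * y * y, 1 * y * z, 1 * y * z * y, 1 * y * z * z, 1 * y * z * y * y, 1 * y * z * y * z, 1 * y * z * z * y, 1 * y * z * z * z, 1 * y * z * y * z * y, 1 * y * z * y * z * z, 1 * y * z * z * y * y, 1 * y * z * z * y * z, 1 * y * z * z * z * y, 1 * y * z * z * z * z, 1 * y * z * y * z * z * y, 1 * y * z * y * z * z * z, 1 * y * z * z * z * y * y, 1 * y * z * z * z * y * z, 1 * y * z * y * z * z * z * y, 1 * y * z * y * z * z * z * z, 1 * y * z * z * z * y * z * y, 1 * y * z * z * z * y * z * z], rfl, ?_⟩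
  intro i
  fin_cases i
  · exact ⟨⟨1, E0y⟩, ⟨0, E0z⟩⟩
  · exact ⟨⟨2, E1y⟩, ⟨3, E1z⟩⟩
  · exact ⟨⟨0, E2y⟩, ⟨1, E2z⟩⟩
  · exact ⟨⟨4, E3y⟩, ⟨5, E3z⟩⟩
  · exact ⟨⟨6, E4y⟩, ⟨7, E4z⟩⟩
  · exact ⟨⟨8, E5y⟩, ⟨9, E5z⟩⟩
  · exact ⟨⟨3, E6y⟩, ⟨2, E6z⟩⟩
  · exact ⟨⟨10, E7y⟩, ⟨11, E7z⟩⟩
  · exact ⟨⟨12, E8y⟩, ⟨13, E8z⟩⟩
  · exact ⟨⟨14, E9y⟩, ⟨15, E9z⟩⟩
  · exact ⟨⟨15, E10y⟩, ⟨14, E10z⟩⟩
  · exact ⟨⟨16, E11y⟩, ⟨17, E11z⟩⟩
  · exact ⟨⟨5, E12y⟩, ⟨4, E12z⟩⟩
  · exact ⟨⟨11, E13y⟩, ⟨10, E13z⟩⟩
  · exact ⟨⟨18, E14y⟩, ⟨19, E14z⟩⟩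
  · exact ⟨⟨7, E15y⟩, ⟨6, E15z⟩⟩
  · exact ⟨⟨13, E16y⟩, ⟨12, E16z⟩⟩
  · exact ⟨⟨20, E17y⟩, ⟨21, E17z⟩⟩
  · exact ⟨⟨9, E18y⟩, ⟨8, E18z⟩⟩
  · exact ⟨⟨22, E19y⟩, ⟨23, E19z⟩⟩
  · exact ⟨⟨21, E20y⟩, ⟨20, E20z⟩⟩
  · exact ⟨⟨17, E21y⟩, ⟨16, E21z⟩⟩
  · exact ⟨⟨23, E22y⟩, ⟨22, E22z⟩⟩
  · exact ⟨⟨19, E23y⟩, ⟨18, E23z⟩⟩

/-- a group generated by `y, z` satisfying the (2,3,7;4) relations has at most 168 elements -/
theorem card_le_168 {P : Type*} [Group P] (y z : P) (hy : y * y * y = 1)
    (hz : z * z * z * z * z * z * z = 1) (h1 : z * y * y * z * y * y = 1)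
    (h2 : z * z * y * z * z * y * z * z * y * z * z * y = 1)
    (hgen : Subgroup.closure ({y, z} : Set P) = ⊤) :
    Finite P ∧ Nat.card P ≤ 168 := by
  obtain ⟨W, hW0, hW⟩ := coset_table y z hy hz h1 h2
  set H := Subgroup.zpowers z with hH
  let S : Set P := {g | ∃ i : Fin 24, ∃ h ∈ H, g = h * W i}
  have hSy : ∀ t ∈ S, t * y ∈ S := by
    rintro t ⟨i, h, hh, rfl⟩
    obtain ⟨j, u, hu, e⟩ := (hW i).1
    exact ⟨j, h * u, H.mul_mem hh hu, by rw [mul_assoc, e, mul_assoc]⟩
  have hSz : ∀ t ∈ S, t * z ∈ S := by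
    rintro t ⟨i, h, hh, rfl⟩
    obtain ⟨j, u, hu, e⟩ := (hW i).2
    exact ⟨j, h * u, H.mul_mem hh hu, by rw [mul_assoc, e, mul_assoc]⟩
  have hyinv : y⁻¹ = y * y :=
    inv_eq_of_mul_eq_one_right (by rw [← mul_assoc]; exact hy)
  have hzinv : z⁻¹ = z * z * z * z * z * z :=
    inv_eq_of_mul_eq_one_right (by simp only [← mul_assoc]; exact hz)
  have hall : ∀ g : P, (∀ t ∈ S, t * g ∈ S) ∧ (∀ t ∈ S, t * g⁻¹ ∈ S) := by
    intro g
    have hg : g ∈ Subgroup.closure ({y, z} : Set P) := by rw [hgen]; trivial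
    induction hg using Subgroup.closure_induction with
    | mem w hw =>
      rcases hw with rfl | rfl
      · refine ⟨hSy, fun t ht => ?_⟩
        rw [hyinv, ← mul_assoc]
        exact hSy _ (hSy _ ht)
      · refine ⟨hSz, fun t ht => ?_⟩
        rw [hzinv]
        simp only [← mul_assoc]
        exact hSz _ (hSz _ (hSz _ (hSz _ (hSz _ (hSz _ ht)))))
    | one => simp
    | mul a b _ _ iha ihb =>
      refine ⟨fun t ht => ?_, fun t ht => ?_⟩
      · rw [← mul_assoc]; exact ihb.1 _ (iha.1 _ ht)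
      · rw [mul_inv_rev, ← mul_assoc]; exact iha.2 _ (ihb.2 _ ht)
    | inv a _ iha =>
      refine ⟨iha.2, ?_⟩
      rw [inv_inv]; exact iha.1
  have h1S : (1 : P) ∈ S := ⟨0, 1, H.one_mem, by rw [hW0, one_mul]⟩
  have hSuniv : ∀ g : P, g ∈ S := by
    intro g
    have := (hall g).1 1 h1S
    rwa [one_mul] at this
  have hz7 : z ^ 7 = 1 := by
    rw [← hz]; simp [pow_succ, mul_assoc]
  have hfo : IsOfFinOrder z := isOfFinOrder_iff_pow_eq_one.mpr ⟨7, by norm_num, hz7⟩
  have : Finite H := Finite.of_equiv _ (finEquivZPowers hfo)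
  have hHcard : Nat.card H ≤ 7 := by
    rw [hH, Nat.card_zpowers]
    exact Nat.le_of_dvd (by norm_num) (orderOf_dvd_of_pow_eq_one hz7)
  let f : Fin 24 × H → P := fun q => (q.2 : P) * W q.1
  have hf : Function.Surjective f := by
    intro g
    obtain ⟨i, h, hh, rfl⟩ := hSuniv g
    exact ⟨(i, ⟨h, hh⟩), rfl⟩
  refine ⟨Finite.of_surjective f hf, ?_⟩
  calc Nat.card P ≤ Nat.card (Fin 24 × H) := Nat.card_le_card_of_surjective f hf
    _ = 24 * Nat.card H := by rw [Nat.card_prod, Nat.card_fin]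
    _ ≤ 24 * 7 := Nat.mul_le_mul_left _ hHcard
    _ = 168 := by norm_num

/-- the four relator words -/
def relW {G : Type*} [Group G] (y z : G) : Fin 4 → G :=
  ![y * y * y, z * z * z * z * z * z * z, z * y * y * z * y * y,
    z * z * y * z * z * y * z * z * y * z * z * y]

theorem map_relW {G G' : Type*} [Group G] [Group G'] (ψ : G →* G') (y z : G) (i : Fin 4) :
    ψ (relW y z i) = relW (ψ y) (ψ z) i := by
  fin_cases i <;> simp [relW]

/-- the relators of the (2,3,7;4) presentation -/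
def rels : Set (FreeGroup (Fin 2)) := Set.range (relW (FreeGroup.of (0 : Fin 2)) (FreeGroup.of 1))

/-- In a finite simple group, the order divides `k!` for every proper subgroup of index `k`. -/
theorem card_dvd_factorial_index {G : Type*} [Group G] [Finite G] [IsSimpleGroup G]
    (H : Subgroup G) (hH : H ≠ ⊤) : Nat.card G ∣ (H.index).factorial := by
  classical
  let θ := MulAction.toPermHom G (G ⧸ H)
  have hker : θ.ker = ⊥ := by
    rcases θ.normal_ker.eq_bot_or_eq_top with h | h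
    · exact h
    · exfalso
      apply hH
      rw [eq_top_iff, ← h, ← Subgroup.normalCore_eq_ker]
      exact Subgroup.normalCore_le H
  have hinj : Function.Injective θ := (MonoidHom.ker_eq_bot_iff θ).mp hker
  have h1 := Subgroup.card_dvd_of_injective θ hinj
  haveI : Fintype (G ⧸ H) := Fintype.ofFinite _
  rw [Nat.card_eq_fintype_card (α := Equiv.Perm (G ⧸ H)), Fintype.card_perm,
    ← Nat.card_eq_fintype_card, ← Subgroup.index_eq_card] at h1
  exact h1

/-- a simple group of order 168 generated... : any (2,3,7;4)-triple in a simple group of order 168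
identifies it with the presented group -/
theorem iso_of_gens {S : Type*} [Group S] [Finite S] [IsSimpleGroup S] (hS : Nat.card S = 168)
    (y z : S) (hrel : ∀ i, relW y z i = 1) (hy1 : y ≠ 1) (hz1 : z ≠ 1) (hx1 : z * y * y ≠ 1) :
    Nonempty (PresentedGroup rels ≃* S) := by
  set a : PresentedGroup rels := PresentedGroup.of 0 with hadef
  set b : PresentedGroup rels := PresentedGroup.of 1 with hbdef
  have hrelP : ∀ i, relW a b i = 1 := by
    intro i
    have : PresentedGroup.mk rels (relW (FreeGroup.of (0 : Fin 2)) (FreeGroup.of 1) i) = 1 :=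
      PresentedGroup.one_of_mem ⟨i, rfl⟩
    rw [map_relW] at this
    exact this
  have hgen : Subgroup.closure ({a, b} : Set (PresentedGroup rels)) = ⊤ := by
    have h := PresentedGroup.closure_range_of rels
    rw [← h]
    congr 1
    ext g
    constructor
    · rintro (rfl | rfl)
      · exact ⟨0, rfl⟩
      · exact ⟨1, rfl⟩
    · rintro ⟨i, rfl⟩
      fin_cases i
      · left; rfl
      · right; rfl
  obtain ⟨hfin, hcard⟩ := card_le_168 a b (hrelP 0) (hrelP 1) (hrelP 2) (hrelP 3) hgen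
  let f : Fin 2 → S := ![y, z]
  have hf : ∀ r ∈ rels, FreeGroup.lift f r = 1 := by
    rintro r ⟨i, rfl⟩
    rw [map_relW, FreeGroup.lift_apply_of, FreeGroup.lift_apply_of]
    exact hrel i
  let φ : PresentedGroup rels →* S := PresentedGroup.toGroup hf
  have hφa : φ a = y := PresentedGroup.toGroup.of hf
  have hφb : φ b = z := PresentedGroup.toGroup.of hf
  have hsurj : Function.Surjective φ := by
    rw [← MonoidHom.range_eq_top]
    have hyK : y ∈ φ.range := ⟨a, hφa⟩
    have hzK : z ∈ φ.range := ⟨b, hφb⟩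
    have hxK : z * y * y ∈ φ.range := φ.range.mul_mem (φ.range.mul_mem hzK hyK) hyK
    haveI : Fact (Nat.Prime 7) := ⟨by norm_num⟩
    haveI : Fact (Nat.Prime 3) := ⟨by norm_num⟩
    have hy3 : y ^ 3 = 1 := by
      have := hrel 0
      simp only [relW, Matrix.cons_val_zero] at this
      rw [← this]; simp [pow_succ, mul_assoc]
    have hz7 : z ^ 7 = 1 := by
      have := hrel 1
      simp only [relW, Matrix.cons_val_one, Matrix.cons_val_zero] at this
      rw [← this]; simp [pow_succ, mul_assoc]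
    have hx2 : (z * y * y) ^ 2 = 1 := by
      have := hrel 2
      simp only [relW] at this
      rw [← this]; simp [pow_succ, mul_assoc]
    have o3 : orderOf y = 3 := orderOf_eq_prime hy3 hy1
    have o7 : orderOf z = 7 := orderOf_eq_prime hz7 hz1
    have o2 : orderOf (z * y * y) = 2 := orderOf_eq_prime hx2 hx1
    have h3 : 3 ∣ Nat.card φ.range := by
      have := Subgroup.orderOf_dvd_natCard _ hyK; rwa [o3] at this
    have h7 : 7 ∣ Nat.card φ.range := by
      have := Subgroup.orderOf_dvd_natCard _ hzK; rwa [o7] at this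
    have h2 : 2 ∣ Nat.card φ.range := by
      have := Subgroup.orderOf_dvd_natCard _ hxK; rwa [o2] at this
    have h42 : 42 ∣ Nat.card φ.range := by
      have h6 : 6 ∣ Nat.card φ.range :=
        Nat.Coprime.mul_dvd_of_dvd_of_dvd (by norm_num : Nat.Coprime 2 3) h2 h3
      exact Nat.Coprime.mul_dvd_of_dvd_of_dvd (by norm_num : Nat.Coprime 6 7) h6 h7
    have hidx : φ.range.index * Nat.card φ.range = 168 := by
      rw [← hS]; exact φ.range.index_mul_card
    by_contra htop
    have hdiv := card_dvd_factorial_index φ.range htop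
    rw [hS] at hdiv
    obtain ⟨t, ht⟩ := h42
    rw [ht] at hidx
    have hit : φ.range.index * t = 4 := by
      have : 42 * (φ.range.index * t) = 42 * 4 := by
        calc 42 * (φ.range.index * t) = φ.range.index * (42 * t) := by ring
          _ = 168 := hidx
          _ = 42 * 4 := by norm_num
      exact Nat.eq_of_mul_eq_mul_left (by norm_num) this
    have hle : φ.range.index ≤ 4 := Nat.le_of_dvd (by norm_num) ⟨t, hit.symm⟩
    have hfle : (φ.range.index).factorial ≤ Nat.factorial 4 := Nat.factorial_le hle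
    have hpos : 0 < (φ.range.index).factorial := Nat.factorial_pos _
    have := Nat.le_of_dvd hpos hdiv
    have h24 : Nat.factorial 4 = 24 := rfl
    omega
  have hbij : Function.Bijective φ := by
    haveI := hfin
    apply hsurj.bijective_of_nat_card_le
    rw [hS]; exact hcard
  exact ⟨MulEquiv.ofBijective φ hbij⟩

section concrete

open Matrix

/-- off-diagonal non-vanishing forces non-centrality -/
theorem mk_ne_one {n : Type*} [Fintype n] [DecidableEq n] {F : Type*} [Field F]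
    (g : SpecialLinearGroup n F) (i j : n) (hij : i ≠ j) (h : (g : Matrix n n F) i j ≠ 0) :
    (QuotientGroup.mk g : Matrix.ProjectiveSpecialLinearGroup n F) ≠ 1 := by
  intro h1
  rw [QuotientGroup.eq_one_iff, Matrix.SpecialLinearGroup.mem_center_iff] at h1
  obtain ⟨r, -, hr⟩ := h1
  apply h
  rw [← hr, Matrix.scalar_apply, Matrix.diagonal_apply_ne _ hij]

theorem mk_map_ne_one {n : Type*} [Fintype n] [DecidableEq n] {R F : Type*} [CommRing R] [Field F]
    (f : R →+* F) (g : SpecialLinearGroup n R) (i j : n) (hij : i ≠ j)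
    (h : (g : Matrix n n R) i j = 1) :
    (QuotientGroup.mk (SpecialLinearGroup.map f g) : Matrix.ProjectiveSpecialLinearGroup n F) ≠ 1 := by
  apply mk_ne_one _ i j hij
  rw [Matrix.SpecialLinearGroup.map_apply_coe, RingHom.mapMatrix_apply, Matrix.map_apply, h, map_one]
  exact one_ne_zero

theorem mk_map_eq_one {R F : Type*} [CommRing R] [Field F]
    (f : R →+* F) (g : SpecialLinearGroup (Fin 2) R)
    (h : (g : Matrix (Fin 2) (Fin 2) R) = 1 ∨ (g : Matrix (Fin 2) (Fin 2) R) = -1) :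
    (QuotientGroup.mk (SpecialLinearGroup.map f g) :
      Matrix.ProjectiveSpecialLinearGroup (Fin 2) F) = 1 := by
  rw [QuotientGroup.eq_one_iff, Matrix.SpecialLinearGroup.mem_center_iff]
  rcases h with h | h
  · exact ⟨1, one_pow _, by rw [Matrix.SpecialLinearGroup.map_apply_coe, h, map_one, map_one]⟩
  · refine ⟨-1, by simp, ?_⟩
    rw [Matrix.SpecialLinearGroup.map_apply_coe, h, map_neg, map_one, map_neg, map_one]

/-- order 3 in `SL₂(7)` -/
def Y7 : SpecialLinearGroup (Fin 2) (ZMod 7) := ⟨!![0, 1; -1, -1], by decide⟩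
/-- order 7 in `SL₂(7)` -/
def Z7 : SpecialLinearGroup (Fin 2) (ZMod 7) := ⟨!![1, 1; 0, 1], by decide⟩

set_option maxRecDepth 100000 in
theorem rel7 (i : Fin 4) :
    ((relW Y7 Z7 i : SpecialLinearGroup (Fin 2) (ZMod 7)) : Matrix (Fin 2) (Fin 2) (ZMod 7)) = 1 ∨
    ((relW Y7 Z7 i : SpecialLinearGroup (Fin 2) (ZMod 7)) : Matrix (Fin 2) (Fin 2) (ZMod 7)) = -1 := by
  fin_cases i <;> decide +kernel

/-- order 3 in `SL₃(2)` -/
def Y2 : SpecialLinearGroup (Fin 3) (ZMod 2) := ⟨!![0, 0, 1; 1, 0, 0; 0, 1, 0], by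
  rw [Matrix.det_fin_three]; decide⟩
/-- order 7 in `SL₃(2)` -/
def Z2 : SpecialLinearGroup (Fin 3) (ZMod 2) := ⟨!![0, 0, 1; 1, 0, 0; 0, 1, 1], by
  rw [Matrix.det_fin_three]; decide⟩

set_option maxRecDepth 100000 in
theorem rel2 (i : Fin 4) :
    ((relW Y2 Z2 i : SpecialLinearGroup (Fin 3) (ZMod 2)) : Matrix (Fin 3) (Fin 3) (ZMod 2)) = 1 := by
  fin_cases i <;> decide +kernel

set_option maxRecDepth 100000 in
theorem X7_entry : ((Z7 * Y7 * Y7 : SpecialLinearGroup (Fin 2) (ZMod 7)) :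
    Matrix (Fin 2) (Fin 2) (ZMod 7)) 1 0 = 1 := by decide +kernel

set_option maxRecDepth 100000 in
theorem X2_entry : ((Z2 * Y2 * Y2 : SpecialLinearGroup (Fin 3) (ZMod 2)) :
    Matrix (Fin 3) (Fin 3) (ZMod 2)) 2 0 = 1 := by decide +kernel

end concrete

/-- PSL_2(7) is isomorphic to PSL_3(2). -/
theorem result {F K : Type*} [Field F] [Fintype F] [Field K] [Fintype K] (hF : Fintype.card F = 7) (hK : Fintype.card K = 2) : Nonempty (Matrix.ProjectiveSpecialLinearGroup (Fin 2) F ≃* Matrix.ProjectiveSpecialLinearGroup (Fin 3) K) := by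
  classical
  -- cardinalities
  have hcardF : Nat.card (Matrix.ProjectiveSpecialLinearGroup (Fin 2) F) = 168 := by
    have hord := Cfsg.Agent.S0243.result hF 2 le_rfl
    rw [Fin.prod_univ_two] at hord
    generalize Nat.card (Matrix.ProjectiveSpecialLinearGroup (Fin 2) F) = N at hord
    norm_num at hord
    omega
  have hcardK : Nat.card (Matrix.ProjectiveSpecialLinearGroup (Fin 3) K) = 168 := by
    have hord := Cfsg.Agent.S0243.result hK 3 (by norm_num)
    rw [Fin.prod_univ_three] at hord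
    generalize Nat.card (Matrix.ProjectiveSpecialLinearGroup (Fin 3) K) = N at hord
    norm_num at hord
    omega
  have hfinF : Finite (Matrix.ProjectiveSpecialLinearGroup (Fin 2) F) :=
    Nat.finite_of_card_ne_zero (by omega)
  have hfinK : Finite (Matrix.ProjectiveSpecialLinearGroup (Fin 3) K) :=
    Nat.finite_of_card_ne_zero (by omega)
  have hsimpF : IsSimpleGroup (Matrix.ProjectiveSpecialLinearGroup (Fin 2) F) :=
    Matrix.ProjectiveSpecialLinearGroup.rank_two_simple
      (by rw [Nat.card_eq_fintype_card, hF]; norm_num)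
  have hsimpK : IsSimpleGroup (Matrix.ProjectiveSpecialLinearGroup (Fin 3) K) :=
    Cfsg.Agent.S0249.result 3 le_rfl
  -- the ring homs
  let f7 : ZMod 7 →+* F := (ZMod.ringEquivOfPrime F (by norm_num) hF).toRingHom
  let f2 : ZMod 2 →+* K := (ZMod.ringEquivOfPrime K (by norm_num) hK).toRingHom
  let ψF : Matrix.SpecialLinearGroup (Fin 2) (ZMod 7) →* Matrix.ProjectiveSpecialLinearGroup (Fin 2) F :=
    (QuotientGroup.mk' _).comp (Matrix.SpecialLinearGroup.map f7)
  let ψK : Matrix.SpecialLinearGroup (Fin 3) (ZMod 2) →* Matrix.ProjectiveSpecialLinearGroup (Fin 3) K :=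
    (QuotientGroup.mk' _).comp (Matrix.SpecialLinearGroup.map f2)
  obtain ⟨e1⟩ := iso_of_gens hcardF (ψF Y7) (ψF Z7)
    (by
      intro i
      rw [← map_relW]
      exact mk_map_eq_one f7 _ (rel7 i))
    (mk_map_ne_one f7 Y7 0 1 (by decide) (by decide))
    (mk_map_ne_one f7 Z7 0 1 (by decide) (by decide))
    (by
      rw [← map_mul, ← map_mul]
      exact mk_map_ne_one f7 _ 1 0 (by decide) X7_entry)
  obtain ⟨e2⟩ := iso_of_gens hcardK (ψK Y2) (ψK Z2)
    (by
      intro i
      rw [← map_relW]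
      have h1 : relW Y2 Z2 i = 1 := Subtype.ext (by rw [rel2 i]; rfl)
      rw [h1, map_one])
    (mk_map_ne_one f2 Y2 0 2 (by decide) (by decide))
    (mk_map_ne_one f2 Z2 0 2 (by decide) (by decide))
    (by
      rw [← map_mul, ← map_mul]
      exact mk_map_ne_one f2 _ 2 0 (by decide) X2_entry)
  exact ⟨e1.symm.trans e2⟩

end Cfsg.Agent.S0255
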