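import Mathlib
import Cfsg.Statements.S3958
import Cfsg.Agent.Lib_helper20_Schur4

set_option autoImplicit false
set_option linter.style.haveILetI false
universe u v
open Cfsg

namespace Cfsg.Agent.S3958

open Cfsg.Agent.helper20.Schur
open scoped commutatorElement

/-- Let `σ : Γ →* Q` be a finite stem extension of the finite group `Q` with `Γ` of trivial Schur multiplier. Then `σ` is a Schur covering group of `Q`: for every finite stem extension `τ : Δ →* Q` with `Δ` in the same universe as `Q`, the kernel of `τ` is a homomorphic image of the kernel of `σ`. -/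
theorem result {Q : Type u} [Group Q] [Finite Q] {Γ : Type v} [Group Γ] [Finite Γ] (σ : Γ →* Q) (hσ : Cfsg.IsStemExtension σ) (hΓ : Cfsg.HasCyclicSchurMultiplier Γ 1) (Δ : Type u) [Group Δ] [Finite Δ] (τ : Δ →* Q) (hτ : Cfsg.IsStemExtension τ) : ∃ π : σ.ker →* τ.ker, Function.Surjective π := by
  let P : Subgroup (Γ × Δ) :=
    (σ.comp (MonoidHom.fst Γ Δ)).eqLocus (τ.comp (MonoidHom.snd Γ Δ))
  have hP : ∀ p : Γ × Δ, p ∈ P ↔ σ p.1 = τ p.2 := fun p => Iff.rfl
  let p₁ : P →* Γ := (MonoidHom.fst Γ Δ).comp P.subtype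
  let p₂ : P →* Δ := (MonoidHom.snd Γ Δ).comp P.subtype
  have hp₁ : Function.Surjective p₁ := by
    intro g
    obtain ⟨x, hx⟩ := hτ.1 (σ g)
    exact ⟨⟨(g, x), (hP _).mpr hx.symm⟩, rfl⟩
  have hp₂ : Function.Surjective p₂ := by
    intro d
    obtain ⟨x, hx⟩ := hσ.1 (τ d)
    exact ⟨⟨(x, d), (hP _).mpr hx⟩, rfl⟩
  have hp₁c : p₁.ker ≤ Subgroup.center P := by
    intro p hp
    rw [MonoidHom.mem_ker] at hp
    have h1 : (p : Γ × Δ).1 = 1 := hp
    have h2 : (p : Γ × Δ).2 ∈ τ.ker := by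
      rw [MonoidHom.mem_ker, ← (hP _).mp p.2, h1, map_one]
    rw [Subgroup.mem_center_iff]
    intro r
    apply Subtype.ext
    apply Prod.ext
    · show (r : Γ × Δ).1 * (p : Γ × Δ).1 = (p : Γ × Δ).1 * (r : Γ × Δ).1
      rw [h1, one_mul, mul_one]
    · exact Subgroup.mem_center_iff.mp (hτ.2.1 h2) (r : Γ × Δ).2
  have hbot := ker_inf_commutator_eq_bot hΓ p₁ hp₁ hp₁c
  have hmap₁ : (commutator P).map p₁ = commutator Γ := by
    rw [commutator_def, commutator_def, Subgroup.map_commutator, ← MonoidHom.range_eq_map,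
      MonoidHom.range_eq_top.mpr hp₁]
  have hmap₂ : (commutator P).map p₂ = commutator Δ := by
    rw [commutator_def, commutator_def, Subgroup.map_commutator, ← MonoidHom.range_eq_map,
      MonoidHom.range_eq_top.mpr hp₂]
  let q₁ : commutator P →* commutator Γ :=
    (MulEquiv.subgroupCongr hmap₁).toMonoidHom.comp (p₁.subgroupMap (commutator P))
  have hq₁ : ∀ c : commutator P, ((q₁ c : commutator Γ) : Γ) = p₁ (c : P) := fun c => rfl
  have hinj : Function.Injective q₁ := by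
    rw [injective_iff_map_eq_one]
    intro c hc
    have h0 : p₁ (c : P) = 1 := by rw [← hq₁, hc]; rfl
    have h1 : (c : P) ∈ p₁.ker ⊓ commutator P := Subgroup.mem_inf.mpr ⟨h0, c.2⟩
    rw [hbot, Subgroup.mem_bot] at h1
    exact Subtype.ext h1
  have hsurj : Function.Surjective q₁ := by
    rw [MonoidHom.coe_comp]
    exact (MulEquiv.subgroupCongr hmap₁).surjective.comp
      (p₁.subgroupMap_surjective (commutator P))
  let e := MulEquiv.ofBijective q₁ ⟨hinj, hsurj⟩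
  let φ₀ : σ.ker →* Δ := p₂.comp ((commutator P).subtype.comp
    (e.symm.toMonoidHom.comp (Subgroup.inclusion hσ.2.2)))
  have hφ₀ : ∀ w : σ.ker, φ₀ w ∈ τ.ker := by
    intro w
    let c := e.symm (Subgroup.inclusion hσ.2.2 w)
    have h1 : q₁ c = Subgroup.inclusion hσ.2.2 w := e.apply_symm_apply _
    have h2 : p₁ (c : P) = (w : Γ) := by rw [← hq₁, h1]; rfl
    have h3 := (hP _).mp (c : P).2
    have h4 : ((c : P) : Γ × Δ).1 = (w : Γ) := h2
    rw [h4, MonoidHom.mem_ker.mp w.2] at h3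
    rw [MonoidHom.mem_ker]
    exact h3.symm
  refine ⟨φ₀.codRestrict τ.ker hφ₀, ?_⟩
  rintro ⟨z, hz⟩
  have h1 : z ∈ (commutator P).map p₂ := by rw [hmap₂]; exact hτ.2.2 hz
  obtain ⟨c, hc, rfl⟩ := h1
  have hw : p₁ c ∈ σ.ker := by
    rw [MonoidHom.mem_ker]
    have := (hP _).mp c.2
    rw [MonoidHom.mem_ker] at hz
    exact this.trans hz
  refine ⟨⟨p₁ c, hw⟩, ?_⟩
  apply Subtype.ext
  show φ₀ ⟨p₁ c, hw⟩ = p₂ c
  have h2 : e ⟨c, hc⟩ = Subgroup.inclusion hσ.2.2 ⟨p₁ c, hw⟩ := Subtype.ext rfl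
  have h3 : e.symm (Subgroup.inclusion hσ.2.2 ⟨p₁ c, hw⟩) = ⟨c, hc⟩ := by
    rw [← h2, e.symm_apply_apply]
  show p₂ ((e.symm (Subgroup.inclusion hσ.2.2 ⟨p₁ c, hw⟩) : commutator P) : P) = p₂ c
  rw [h3]

end Cfsg.Agent.S3958
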