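import Mathlib
import Cfsg.Agent.H16SM5
import Cfsg.Agent.H16ST7
import Cfsg.Agent.S0255
import Cfsg.Agent.S3958
import Cfsg.Agent.Lib_helper4_RedH

set_option autoImplicit false

namespace Cfsg.Agent.H16SM

open Matrix Cfsg.Agent.H16ST

universe u

/-- the centre of `SL₂` in odd characteristic has two elements -/
theorem card_center_SL2 {K : Type*} [Field K] (h2 : (2 : K) ≠ 0) :
    Nat.card (Subgroup.center (SpecialLinearGroup (Fin 2) K)) = 2 := by
  rw [Nat.card_eq_two_iff]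
  refine ⟨⟨1, Subgroup.one_mem _⟩, ⟨zc K, (mem_center_iff' _).mpr (Or.inr rfl)⟩, ?_, ?_⟩
  · intro h
    have h1 : (1 : SpecialLinearGroup (Fin 2) K) = zc K := congrArg Subtype.val h
    have h3 := congrArg mat h1
    rw [mat_zc, map_one] at h3
    have h4 := congrFun (congrFun h3 0) 0
    simp at h4
    apply h2
    have : (2 : K) = 1 + 1 := by norm_num
    rw [this]
    nth_rewrite 1 [h4]
    ring
  · ext ⟨g, hg⟩
    simp only [Set.mem_insert_iff, Set.mem_singleton_iff, Set.mem_univ, iff_true]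
    rcases (mem_center_iff' g).mp hg with rfl | rfl
    · left; rfl
    · right; rfl

/-- a group with two elements -/
theorem nonempty_mulEquiv_zmod_two {G : Type*} [Group G] (h : Nat.card G = 2) :
    Nonempty (Multiplicative (ZMod 2) ≃* G) := by
  haveI : Fact (Nat.Prime 2) := ⟨Nat.prime_two⟩
  have hc : IsCyclic G := isCyclic_of_prime_card h
  obtain ⟨e⟩ : Nonempty (Multiplicative (ZMod (Nat.card G)) ≃* G) := ⟨zmodCyclicMulEquiv hc⟩
  rw [h] at e
  exact ⟨e⟩

theorem commutator_ulift_eq_top {G : Type*} [Group G] (h : commutator G = ⊤) :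
    commutator (ULift.{u} G) = ⊤ := by
  have hs : Function.Surjective (MulEquiv.ulift.symm : G ≃* ULift.{u} G).toMonoidHom :=
    (MulEquiv.ulift.symm : G ≃* ULift.{u} G).surjective
  rw [commutator_def, ← Subgroup.map_top_of_surjective _ hs, ← Subgroup.map_commutator,
    ← commutator_def, h]

lemma two_ne_zero_zmod7 : (2 : ZMod 7) ≠ 0 := by decide

section main

variable {F : Type u} [Field F] [Fintype F]

theorem main2087 (hF : Fintype.card F = 2) :
    Cfsg.HasCyclicSchurMultiplier (Matrix.ProjectiveSpecialLinearGroup (Fin 3) F) 2 := by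
  haveI : Fact (Nat.Prime 7) := ⟨by norm_num⟩
  have hK : Fintype.card (ZMod 7) = 7 := ZMod.card 7
  obtain ⟨e⟩ := Cfsg.Agent.S0255.result (F := ZMod 7) (K := F) hK hF
  let Γ₀ := SpecialLinearGroup (Fin 2) (ZMod 7)
  let q₀ : Γ₀ →* Matrix.ProjectiveSpecialLinearGroup (Fin 2) (ZMod 7) :=
    QuotientGroup.mk' (Subgroup.center Γ₀)
  let σ₀ : Γ₀ →* Matrix.ProjectiveSpecialLinearGroup (Fin 3) F := e.toMonoidHom.comp q₀
  have hker : σ₀.ker = Subgroup.center Γ₀ := by
    ext x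
    simp only [σ₀, MonoidHom.mem_ker, MonoidHom.coe_comp, Function.comp_apply,
      MulEquiv.coe_toMonoidHom]
    rw [e.map_eq_one_iff]
    show q₀ x = 1 ↔ _
    rw [← MonoidHom.mem_ker, QuotientGroup.ker_mk']
  have hperf : commutator Γ₀ = ⊤ := Cfsg.Agent.helper4.Red.commutator_sl2_eq_top (p := 7) (by norm_num)
  have hst₀ : Cfsg.IsStemExtension σ₀ := by
    refine ⟨e.surjective.comp (QuotientGroup.mk'_surjective _), ?_, ?_⟩
    · rw [hker]
    · rw [hperf]; exact le_top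
  have hΓ₀ : Cfsg.HasCyclicSchurMultiplier Γ₀ 1 := by
    apply main
    · rw [hK]; norm_num
    · rw [hK]; norm_num
  have h2 : (2 : ZMod 7) ≠ 0 := two_ne_zero_zmod7
  have hcard : Nat.card σ₀.ker = 2 := by rw [hker]; exact card_center_SL2 h2
  obtain ⟨e2⟩ := nonempty_mulEquiv_zmod_two hcard
  haveI : Finite (Matrix.ProjectiveSpecialLinearGroup (Fin 3) F) :=
    Finite.of_surjective _ e.surjective
  refine ⟨?_, ?_⟩
  · -- a stem extension in the right universe
    let σ : ULift.{u} Γ₀ →* Matrix.ProjectiveSpecialLinearGroup (Fin 3) F :=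
      σ₀.comp (MulEquiv.ulift : ULift.{u} Γ₀ ≃* Γ₀).toMonoidHom
    have hkerσ : ∀ x : ULift.{u} Γ₀, x ∈ σ.ker ↔ x.down ∈ σ₀.ker := fun x => Iff.rfl
    refine ⟨ULift.{u} Γ₀, inferInstance, inferInstance, σ, ⟨?_, ?_, ?_⟩, ?_⟩
    · exact hst₀.1.comp (MulEquiv.ulift : ULift.{u} Γ₀ ≃* Γ₀).surjective
    · intro x hx
      have h1 := hst₀.2.1 ((hkerσ x).mp hx)
      rw [Subgroup.mem_center_iff] at h1 ⊢
      intro g
      apply ULift.ext
      exact h1 g.down
    · rw [commutator_ulift_eq_top hperf]; exact le_top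
    · -- the kernel
      have hc2 : Nat.card σ.ker = 2 := by
        have hcg : Nat.card σ.ker = Nat.card σ₀.ker :=
          Nat.card_congr ⟨fun x => ⟨x.1.down, (hkerσ x.1).mp x.2⟩,
            fun y => ⟨⟨y.1⟩, (hkerσ ⟨y.1⟩).mpr y.2⟩, fun x => rfl, fun y => rfl⟩
        exact hcg.trans hcard
      obtain ⟨e3⟩ := nonempty_mulEquiv_zmod_two hc2
      exact ⟨e3.symm⟩
  · intro Δ _ _ τ hτ
    obtain ⟨π, hπ⟩ := Cfsg.Agent.S3958.result σ₀ hst₀ hΓ₀ Δ τ hτ
    exact ⟨π.comp e2.toMonoidHom, hπ.comp e2.surjective⟩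

end main

end Cfsg.Agent.H16SM
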