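import Mathlib
import Cfsg.Agent.H16ST7

set_option autoImplicit false

namespace Cfsg.Agent.H16SN

open Cfsg.Agent.H16ST

variable {K : Type*} [Field K] {I : Type*} {Γ : Type*} [Group Γ]

/-- the Steinberg relations for a family `x i j t` (only for `i ≠ j`) -/
structure StN (x : I → I → K → Γ) : Prop where
  add : ∀ i j, i ≠ j → ∀ t u, x i j t * x i j u = x i j (t + u)
  comm : ∀ i j k l, i ≠ j → k ≠ l → i ≠ l → j ≠ k → ∀ t u,
    x i j t * x k l u = x k l u * x i j t
  chev : ∀ i j l, i ≠ j → j ≠ l → i ≠ l → ∀ t u,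
    x i j t * x j l u * (x i j t)⁻¹ * (x j l u)⁻¹ = x i l (t * u)

variable {x : I → I → K → Γ}

lemma StN.zero (s : StN x) {i j : I} (h : i ≠ j) : x i j 0 = 1 := by
  have := s.add i j h 0 0
  rw [add_zero] at this
  exact mul_eq_left.mp this

lemma StN.neg (s : StN x) {i j : I} (h : i ≠ j) (t : K) : x i j (-t) = (x i j t)⁻¹ := by
  have := s.add i j h (-t) t
  rw [neg_add_cancel, s.zero h] at this
  exact eq_inv_of_mul_eq_one_left this

/-- conjugation, commuting case -/
lemma StN.c_comm (s : StN x) {i j k l : I} (hij : i ≠ j) (hkl : k ≠ l) (hil : i ≠ l)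
    (hjk : j ≠ k) (t u : K) : MulAut.conj (x i j t) (x k l u) = x k l u := by
  rw [MulAut.conj_apply, s.comm i j k l hij hkl hil hjk, mul_inv_cancel_right]

/-- conjugation, `x_ij` on `x_jl` -/
lemma StN.c_chev (s : StN x) {i j l : I} (hij : i ≠ j) (hjl : j ≠ l) (hil : i ≠ l)
    (t u : K) : MulAut.conj (x i j t) (x j l u) = x i l (t * u) * x j l u := by
  rw [MulAut.conj_apply, ← s.chev i j l hij hjl hil t u]; group

/-- conjugation, `x_jl` on `x_ij` -/
lemma StN.c_chev' (s : StN x) {i j l : I} (hij : i ≠ j) (hjl : j ≠ l) (hil : i ≠ l)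
    (t u : K) : MulAut.conj (x j l u) (x i j t) = x i l (-(t * u)) * x i j t := by
  rw [MulAut.conj_apply, s.neg hil, ← s.chev i j l hij hjl hil t u]; group

/-- `w_ij(t)` -/
def ww (x : I → I → K → Γ) (i j : I) (t : K) : Γ := x i j t * x j i (-t⁻¹) * x i j t

lemma ww_eq (x : I → I → K → Γ) (i j : I) (t : K) : ww x i j t = w (x i j) (x j i) t := rfl

lemma conj_ww (x : I → I → K → Γ) (i j : I) (t : K) (g : Γ) :
    MulAut.conj (ww x i j t) g =
      MulAut.conj (x i j t) (MulAut.conj (x j i (-t⁻¹)) (MulAut.conj (x i j t) g)) := by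
  unfold ww
  rw [map_mul, map_mul, MulAut.mul_apply, MulAut.mul_apply]

/-- cancel `x(-u) * y * x(u) = y` when they commute -/
lemma StN.sandwich (s : StN x) {i j k l : I} (hij : i ≠ j) (hkl : k ≠ l) (hil : i ≠ l)
    (hjk : j ≠ k) (u v : K) : x i j (-u) * x k l v * x i j u = x k l v := by
  rw [s.comm i j k l hij hkl hil hjk, mul_assoc, s.add i j hij, neg_add_cancel, s.zero hij,
    mul_one]

/-- (C1) -/
lemma StN.C1 (s : StN x) {i j m : I} (hij : i ≠ j) (him : i ≠ m) (hjm : j ≠ m) {t : K}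
    (ht : t ≠ 0) (u : K) : MulAut.conj (ww x i j t) (x j m u) = x i m (t * u) := by
  have e : -t⁻¹ * (t * u) = -u := by field_simp
  rw [conj_ww, s.c_chev hij hjm him, map_mul, s.c_chev hij.symm him hjm,
    s.c_comm hij.symm hjm hjm hij, e, s.sandwich hjm him hjm him.symm,
    s.c_comm hij him him hij.symm]

/-- (C2) -/
lemma StN.C2 (s : StN x) {i j m : I} (hij : i ≠ j) (him : i ≠ m) (hjm : j ≠ m) {t : K}
    (ht : t ≠ 0) (u : K) : MulAut.conj (ww x i j t) (x i m u) = x j m (-(t⁻¹ * u)) := by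
  have e : t * (-t⁻¹ * u) = -u := by field_simp
  have e2 : -t⁻¹ * u = -(t⁻¹ * u) := by ring
  rw [conj_ww, s.c_comm hij him him hij.symm, s.c_chev hij.symm him hjm, map_mul,
    s.c_chev hij hjm him, s.c_comm hij him him hij.symm, e,
    s.sandwich him hjm him hjm.symm, e2]

/-- (C3) -/
lemma StN.C3 (s : StN x) {i j m : I} (hij : i ≠ j) (him : i ≠ m) (hjm : j ≠ m) {t : K}
    (ht : t ≠ 0) (u : K) : MulAut.conj (ww x i j t) (x m i u) = x m j (-(t * u)) := by
  have e : -(-(u * t) * -t⁻¹) = -u := by field_simp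
  rw [conj_ww, s.c_chev' him.symm hij hjm.symm, map_mul,
    s.c_chev' hjm.symm hij.symm him.symm, s.c_comm hij.symm him.symm hij.symm him, e,
    s.sandwich him.symm hjm.symm hjm.symm him, s.c_comm hij hjm.symm hij hjm, mul_comm u t]

/-- (C4) -/
lemma StN.C4 (s : StN x) {i j m : I} (hij : i ≠ j) (him : i ≠ m) (hjm : j ≠ m) {t : K}
    (ht : t ≠ 0) (u : K) : MulAut.conj (ww x i j t) (x m j u) = x m i (t⁻¹ * u) := by
  have e : -(-(u * -t⁻¹) * t) = -u := by field_simp
  have e2 : -(u * -t⁻¹) = t⁻¹ * u := by ring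
  rw [conj_ww, s.c_comm hij hjm.symm hij hjm, s.c_chev' hjm.symm hij.symm him.symm, map_mul,
    s.c_chev' him.symm hij hjm.symm, s.c_comm hij hjm.symm hij hjm, e,
    s.sandwich hjm.symm him.symm him.symm hjm, e2]

/-- (C5): the rank one relation, using a third index -/
lemma StN.C5 (s : StN x) {i j m : I} (hij : i ≠ j) (him : i ≠ m) (hjm : j ≠ m) {t : K}
    (ht : t ≠ 0) (u : K) :
    MulAut.conj (ww x i j t) (x i j u) = x j i (-(t⁻¹ ^ 2 * u)) := by
  have h0 := s.chev i m j him hjm.symm hij u 1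
  rw [mul_one] at h0
  rw [← h0, map_mul, map_mul, map_mul, map_inv, map_inv, s.C2 hij him hjm ht,
    s.C4 hij him hjm ht, s.chev j m i hjm him.symm hij.symm]
  congr 1
  ring

/-- the rank one relations hold for every pair, given a third index -/
lemma StN.stdata (s : StN x) {i j m : I} (hij : i ≠ j) (him : i ≠ m) (hjm : j ≠ m) :
    StData (x i j) (x j i) where
  xa := s.add i j hij
  ya := s.add j i hij.symm
  Bx t u ht := by
    have := s.C5 hij him hjm ht u
    rw [MulAut.conj_apply] at this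
    exact this
  By t u ht := by
    have := s.C5 hij.symm hjm him ht u
    rw [MulAut.conj_apply] at this
    exact this

end Cfsg.Agent.H16SN
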