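import Mathlib
import Cfsg.Agent.H16SN1

set_option autoImplicit false

namespace Cfsg.Agent.H16SN

open Cfsg.Agent.H16ST

variable {K : Type*} [Field K] {I : Type*} [DecidableEq I] {Γ : Type*} [Group Γ]
variable {x : I → I → K → Γ}

/-- `h_ij(t)` -/
def hh (x : I → I → K → Γ) (i j : I) (t : K) : Γ := ww x i j t * ww x i j (-1)

lemma hh_eq (x : I → I → K → Γ) (i j : I) (t : K) : hh x i j t = h (x i j) (x j i) t := rfl

/-- existence of a third index -/
def Third (I : Type*) : Prop := ∀ i j : I, i ≠ j → ∃ m : I, i ≠ m ∧ j ≠ m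

section rankone
variable (s : StN x) (h3 : Third I)
include s h3

lemma StN.sd {i j : I} (hij : i ≠ j) : StData (x i j) (x j i) := by
  obtain ⟨m, him, hjm⟩ := h3 i j hij
  exact s.stdata hij him hjm

lemma StN.hh_mul [Finite K] {i j : I} (hij : i ≠ j) {t u : K} (ht : t ≠ 0) (hu : u ≠ 0) :
    hh x i j (t * u) = hh x i j t * hh x i j u := (s.sd h3 hij).h_mul ht hu

lemma StN.hh_one {i j : I} (hij : i ≠ j) : hh x i j 1 = 1 := (s.sd h3 hij).h_one

lemma StN.hh_inv [Finite K] {i j : I} (hij : i ≠ j) {t : K} (ht : t ≠ 0) :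
    (hh x i j t)⁻¹ = hh x i j t⁻¹ := by
  have := s.hh_mul h3 hij ht (inv_ne_zero ht)
  rw [mul_inv_cancel₀ ht, s.hh_one h3 hij] at this
  exact inv_eq_of_mul_eq_one_right this.symm

lemma StN.hh_comm [Finite K] {i j : I} (hij : i ≠ j) {t u : K} (ht : t ≠ 0) (hu : u ≠ 0) :
    Commute (hh x i j t) (hh x i j u) := (s.sd h3 hij).h_comm ht hu

lemma StN.ww_eq_hh {i j : I} (hij : i ≠ j) (t : K) : ww x i j t = hh x i j t * ww x i j 1 :=
  (s.sd h3 hij).w_eq_h_mul t

lemma StN.ww_inv {i j : I} (hij : i ≠ j) (t : K) : (ww x i j t)⁻¹ = ww x i j (-t) :=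
  (s.sd h3 hij).w_inv t

lemma StN.ww_sq {i j : I} (hij : i ≠ j) : ww x i j 1 * ww x i j 1 = (hh x i j (-1))⁻¹ :=
  (s.sd h3 hij).w_one_sq

lemma StN.ww_braid {i j : I} (hij : i ≠ j) {t : K} (ht : t ≠ 0) :
    ww x i j t = ww x j i (-t⁻¹) := (s.sd h3 hij).w_eq' ht

lemma StN.C6 {i j : I} (hij : i ≠ j) {t : K} (ht : t ≠ 0) (u : K) :
    MulAut.conj (ww x i j t) (x j i u) = x i j (-(t ^ 2 * u)) := by
  rw [MulAut.conj_apply]
  exact (s.sd h3 hij).w_y ht u

lemma StN.C5' {i j : I} (hij : i ≠ j) {t : K} (ht : t ≠ 0) (u : K) :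
    MulAut.conj (ww x i j t) (x i j u) = x j i (-(t⁻¹ ^ 2 * u)) := by
  obtain ⟨m, him, hjm⟩ := h3 i j hij
  exact s.C5 hij him hjm ht u

lemma StN.hh_neg_one_inv [Finite K] {i j : I} (hij : i ≠ j) :
    (hh x i j (-1))⁻¹ = hh x i j (-1) := (s.sd h3 hij).h_neg_one_inv

/-- `w_ij(-s⁻¹) w_ij(1)` lies in the torus -/
lemma StN.ww_mul_ww_one [Finite K] {i j : I} (hij : i ≠ j) {t : K} (ht : t ≠ 0) :
    ww x i j t * ww x i j 1 = hh x i j (-t) := by
  have hm : (-1 : K) ≠ 0 := neg_ne_zero.mpr one_ne_zero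
  rw [s.ww_eq_hh h3 hij t, mul_assoc, s.ww_sq h3 hij, s.hh_neg_one_inv h3 hij,
    ← s.hh_mul h3 hij ht hm, mul_neg_one]

lemma StN.hh_swap [Finite K] {i j : I} (hij : i ≠ j) {t : K} (ht : t ≠ 0) :
    hh x j i t = (hh x i j t)⁻¹ := by
  have hm : (-1 : K) ≠ 0 := neg_ne_zero.mpr one_ne_zero
  have e1 : ww x j i t = ww x i j (-t⁻¹) := s.ww_braid h3 hij.symm ht
  have e2 : ww x j i (-1) = ww x i j 1 := by
    rw [s.ww_braid h3 hij.symm hm]; congr 1; simp
  rw [show hh x j i t = ww x j i t * ww x j i (-1) from rfl, e1, e2]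
  have hne : -t⁻¹ ≠ 0 := neg_ne_zero.mpr (inv_ne_zero ht)
  rw [s.ww_mul_ww_one h3 hij hne, neg_neg, s.hh_inv h3 hij ht]

end rankone

/-- the action of `w_ij(t)` on a root subgroup not meeting `{i,j}` -/
lemma StN.C0 (s : StN x) {i j a b : I} (hij : i ≠ j) (hab : a ≠ b) (hai : a ≠ i) (haj : a ≠ j)
    (hbi : b ≠ i) (hbj : b ≠ j) (t u : K) : MulAut.conj (ww x i j t) (x a b u) = x a b u := by
  rw [conj_ww, s.c_comm hij hab hbi.symm haj.symm, s.c_comm hij.symm hab hbj.symm hai.symm,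
    s.c_comm hij hab hbi.symm haj.symm]

/-- monomial action of `w_ij(t)` on all root subgroups -/
lemma StN.mono (s : StN x) (h3 : Third I) {i j : I} (hij : i ≠ j) {t : K} (ht : t ≠ 0)
    {a b : I} (hab : a ≠ b) :
    ∃ κ : K, κ ≠ 0 ∧
      (∀ u, MulAut.conj (ww x i j t) (x a b u) =
        x (Equiv.swap i j a) (Equiv.swap i j b) (κ * u)) ∧
      (∀ u, MulAut.conj (ww x i j t) (x b a u) =
        x (Equiv.swap i j b) (Equiv.swap i j a) (κ⁻¹ * u)) := by
  have ht2 : t ^ 2 ≠ 0 := pow_ne_zero 2 ht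
  have hti : t⁻¹ ≠ 0 := inv_ne_zero ht
  by_cases hai : a = i
  · subst hai
    by_cases hbj : b = j
    · subst hbj
      refine ⟨-(t⁻¹ ^ 2), neg_ne_zero.mpr (pow_ne_zero 2 hti), fun u => ?_, fun u => ?_⟩
      · rw [Equiv.swap_apply_left, Equiv.swap_apply_right, s.C5' h3 hij ht, neg_mul]
      · rw [Equiv.swap_apply_left, Equiv.swap_apply_right, s.C6 h3 hij ht]
        congr 1; field_simp
    · have hbi : b ≠ a := hab.symm
      refine ⟨-t⁻¹, neg_ne_zero.mpr hti, fun u => ?_, fun u => ?_⟩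
      · rw [Equiv.swap_apply_left, Equiv.swap_apply_of_ne_of_ne hbi hbj,
          s.C2 hij hab (Ne.symm hbj) ht, neg_mul]
      · rw [Equiv.swap_apply_left, Equiv.swap_apply_of_ne_of_ne hbi hbj,
          s.C3 hij hab (Ne.symm hbj) ht]
        congr 1; field_simp
  · by_cases haj : a = j
    · subst haj
      by_cases hbi : b = i
      · subst hbi
        refine ⟨-(t ^ 2), neg_ne_zero.mpr ht2, fun u => ?_, fun u => ?_⟩
        · rw [Equiv.swap_apply_left, Equiv.swap_apply_right, s.C6 h3 hij ht, neg_mul]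
        · rw [Equiv.swap_apply_left, Equiv.swap_apply_right, s.C5' h3 hij ht]
          congr 1; field_simp
      · have hbj : b ≠ a := hab.symm
        refine ⟨t, ht, fun u => ?_, fun u => ?_⟩
        · rw [Equiv.swap_apply_right, Equiv.swap_apply_of_ne_of_ne hbi hbj,
            s.C1 hij (Ne.symm hbi) hab ht]
        · rw [Equiv.swap_apply_right, Equiv.swap_apply_of_ne_of_ne hbi hbj,
            s.C4 hij (Ne.symm hbi) hab ht]
    · by_cases hbi : b = i
      · subst hbi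
        refine ⟨-t, neg_ne_zero.mpr ht, fun u => ?_, fun u => ?_⟩
        · rw [Equiv.swap_apply_left, Equiv.swap_apply_of_ne_of_ne hai haj,
            s.C3 hij (Ne.symm hai) (Ne.symm haj) ht, neg_mul]
        · rw [Equiv.swap_apply_left, Equiv.swap_apply_of_ne_of_ne hai haj,
            s.C2 hij (Ne.symm hai) (Ne.symm haj) ht]
          congr 1; field_simp
      · by_cases hbj : b = j
        · subst hbj
          refine ⟨t⁻¹, hti, fun u => ?_, fun u => ?_⟩
          · rw [Equiv.swap_apply_right, Equiv.swap_apply_of_ne_of_ne hai haj,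
              s.C4 hij (Ne.symm hai) (Ne.symm haj) ht]
          · rw [Equiv.swap_apply_right, Equiv.swap_apply_of_ne_of_ne hai haj,
              s.C1 hij (Ne.symm hai) (Ne.symm haj) ht, inv_inv]
        · refine ⟨1, one_ne_zero, fun u => ?_, fun u => ?_⟩
          · rw [Equiv.swap_apply_of_ne_of_ne hai haj, Equiv.swap_apply_of_ne_of_ne hbi hbj,
              s.C0 hij hab hai haj hbi hbj, one_mul]
          · rw [Equiv.swap_apply_of_ne_of_ne hai haj, Equiv.swap_apply_of_ne_of_ne hbi hbj,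
              s.C0 hij hab.symm hbi hbj hai haj, inv_one, one_mul]

end Cfsg.Agent.H16SN
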