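import Mathlib
import Cfsg.Agent.H16SN2

set_option autoImplicit false

namespace Cfsg.Agent.H16SN

open Cfsg.Agent.H16ST

variable {K : Type*} [Field K] {I : Type*} [DecidableEq I] {Γ : Type*} [Group Γ]
variable {x : I → I → K → Γ}

/-- generic: if `γ` scales `x_ab` by `κ` and `x_ba` by `κ⁻¹` (moving them to `x_cd`, `x_dc`)
then it sends `w_ab(u)` to `w_cd(κ u)` -/
lemma conj_ww_of {γ : Γ} {a b c d : I} {κ : K}
    (h1 : ∀ u, MulAut.conj γ (x a b u) = x c d (κ * u))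
    (h2 : ∀ u, MulAut.conj γ (x b a u) = x d c (κ⁻¹ * u)) (u : K) :
    MulAut.conj γ (ww x a b u) = ww x c d (κ * u) := by
  unfold ww
  rw [map_mul, map_mul, h1, h2]
  have e : κ⁻¹ * -u⁻¹ = -(κ * u)⁻¹ := by rw [mul_inv, mul_neg]
  rw [e]

section
variable (s : StN x) (h3 : Third I)
include s h3

lemma StN.mono_w {i j : I} (hij : i ≠ j) {t : K} (ht : t ≠ 0) {a b : I} (hab : a ≠ b) :
    ∃ κ : K, κ ≠ 0 ∧ ∀ u, MulAut.conj (ww x i j t) (ww x a b u) =
      ww x (Equiv.swap i j a) (Equiv.swap i j b) (κ * u) := by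
  obtain ⟨κ, hκ, h1, h2⟩ := s.mono h3 hij ht hab
  exact ⟨κ, hκ, conj_ww_of h1 h2⟩

/-- `w(κu) w(-κ) = h(κu) h(κ)⁻¹` -/
lemma StN.ww_mul_ww_neg {c d : I} (hcd : c ≠ d) (κ u : K) :
    ww x c d (κ * u) * ww x c d (-κ) = hh x c d (κ * u) * (hh x c d κ)⁻¹ := by
  rw [← s.ww_inv h3 hcd κ, s.ww_eq_hh h3 hcd (κ * u), s.ww_eq_hh h3 hcd κ]
  group

lemma StN.mono_h {i j : I} (hij : i ≠ j) {t : K} (ht : t ≠ 0) {a b : I} (hab : a ≠ b) :
    ∃ κ : K, κ ≠ 0 ∧ ∀ u, MulAut.conj (ww x i j t) (hh x a b u) =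
      hh x (Equiv.swap i j a) (Equiv.swap i j b) (κ * u) *
        (hh x (Equiv.swap i j a) (Equiv.swap i j b) κ)⁻¹ := by
  obtain ⟨κ, hκ, h1⟩ := s.mono_w h3 hij ht hab
  refine ⟨κ, hκ, fun u => ?_⟩
  have hcd : Equiv.swap i j a ≠ Equiv.swap i j b := fun h => hab ((Equiv.swap i j).injective h)
  rw [show hh x a b u = ww x a b u * ww x a b (-1) from rfl, map_mul, h1, h1, mul_neg_one,
    s.ww_mul_ww_neg h3 hcd]

end

/-- `γ` acts diagonally on all root subgroups -/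
def Dg (x : I → I → K → Γ) (γ : Γ) : Prop :=
  ∀ a b : I, a ≠ b → ∃ c : K, c ≠ 0 ∧ (∀ u, MulAut.conj γ (x a b u) = x a b (c * u)) ∧
    (∀ u, MulAut.conj γ (x b a u) = x b a (c⁻¹ * u))

lemma Dg.one : Dg x (1 : Γ) := by
  intro a b _
  exact ⟨1, one_ne_zero, fun u => by simp, fun u => by simp⟩

lemma Dg.mul {γ δ : Γ} (hγ : Dg x γ) (hδ : Dg x δ) : Dg x (γ * δ) := by
  intro a b hab
  obtain ⟨c, hc, h1, h2⟩ := hγ a b hab
  obtain ⟨c', hc', h1', h2'⟩ := hδ a b hab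
  refine ⟨c * c', mul_ne_zero hc hc', fun u => ?_, fun u => ?_⟩
  · rw [map_mul, MulAut.mul_apply, h1', h1, mul_assoc]
  · rw [map_mul, MulAut.mul_apply, h2', h2, mul_inv, mul_assoc]

lemma Dg.inv {γ : Γ} (hγ : Dg x γ) : Dg x γ⁻¹ := by
  intro a b hab
  obtain ⟨c, hc, h1, h2⟩ := hγ a b hab
  refine ⟨c⁻¹, inv_ne_zero hc, fun u => ?_, fun u => ?_⟩
  · have := h1 (c⁻¹ * u)
    rw [mul_inv_cancel_left₀ hc] at this
    rw [← this, map_inv, MulAut.inv_apply, MulEquiv.symm_apply_apply]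
  · have := h2 (c * u)
    rw [inv_mul_cancel_left₀ hc] at this
    rw [inv_inv, ← this, map_inv, MulAut.inv_apply, MulEquiv.symm_apply_apply]

section
variable (s : StN x) (h3 : Third I)
include s h3

lemma StN.Dg_hh {i j : I} (hij : i ≠ j) {t : K} (ht : t ≠ 0) : Dg x (hh x i j t) := by
  intro a b hab
  have hm : (-1 : K) ≠ 0 := neg_ne_zero.mpr one_ne_zero
  obtain ⟨κ₁, hκ₁, h1, h2⟩ := s.mono h3 hij hm hab
  have hcd : Equiv.swap i j a ≠ Equiv.swap i j b := fun h => hab ((Equiv.swap i j).injective h)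
  obtain ⟨κ₂, hκ₂, h1', h2'⟩ := s.mono h3 hij ht hcd
  simp only [Equiv.swap_apply_self] at h1' h2'
  refine ⟨κ₂ * κ₁, mul_ne_zero hκ₂ hκ₁, fun u => ?_, fun u => ?_⟩
  · rw [show hh x i j t = ww x i j t * ww x i j (-1) from rfl, map_mul, MulAut.mul_apply, h1,
      h1', mul_assoc]
  · rw [show hh x i j t = ww x i j t * ww x i j (-1) from rfl, map_mul, MulAut.mul_apply, h2,
      h2', mul_inv, mul_assoc]

/-- diagonal elements centralize the `h`'s -/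
lemma StN.Dg_commute [Finite K] {γ : Γ} (hγ : Dg x γ) {a b : I} (hab : a ≠ b) {u : K}
    (hu : u ≠ 0) : Commute γ (hh x a b u) := by
  obtain ⟨c, hc, h1, h2⟩ := hγ a b hab
  have hw : ∀ v, MulAut.conj γ (ww x a b v) = ww x a b (c * v) := conj_ww_of h1 h2
  have e : MulAut.conj γ (hh x a b u) = hh x a b u := by
    rw [show hh x a b u = ww x a b u * ww x a b (-1) from rfl, map_mul, hw, hw, mul_neg_one,
      s.ww_mul_ww_neg h3 hab, s.hh_mul h3 hab hc hu,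
      (s.hh_comm h3 hab hc hu).eq, mul_inv_cancel_right]
    rfl
  rw [MulAut.conj_apply] at e
  exact mul_inv_eq_iff_eq_mul.mp e

/-- exact action of `h_ij(s)` on `w_jb` -/
lemma StN.hh_conj_ww {i j b : I} (hij : i ≠ j) (hib : i ≠ b) (hjb : j ≠ b) {t : K}
    (ht : t ≠ 0) (u : K) :
    MulAut.conj (hh x i j t) (ww x j b u) = ww x j b (t⁻¹ * u) := by
  have hm : (-1 : K) ≠ 0 := neg_ne_zero.mpr one_ne_zero
  apply conj_ww_of
  · intro v
    rw [show hh x i j t = ww x i j t * ww x i j (-1) from rfl, map_mul, MulAut.mul_apply,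
      s.C1 hij hib hjb hm, s.C2 hij hib hjb ht]
    congr 1; ring
  · intro v
    rw [show hh x i j t = ww x i j t * ww x i j (-1) from rfl, map_mul, MulAut.mul_apply,
      s.C4 hij hib hjb hm, s.C3 hij hib hjb ht]
    congr 1; field_simp

/-- `w_jb(1) w_ij(t) w_jb(1)⁻¹ = w_ib(-t)` -/
lemma StN.ww_conj_ww {i j b : I} (hij : i ≠ j) (hib : i ≠ b) (hjb : j ≠ b) (t : K) :
    MulAut.conj (ww x j b 1) (ww x i j t) = ww x i b (-t) := by
  have h1 : ∀ u, MulAut.conj (ww x j b 1) (x i j u) = x i b (-1 * u) := by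
    intro u
    rw [s.C3 hjb hij.symm hib.symm one_ne_zero]; congr 1; ring
  have h2 : ∀ u, MulAut.conj (ww x j b 1) (x j i u) = x b i ((-1 : K)⁻¹ * u) := by
    intro u
    rw [s.C2 hjb hij.symm hib.symm one_ne_zero]; congr 1; simp
  rw [conj_ww_of h1 h2, neg_one_mul]

/-- `h_ib(t) = h_ij(t) h_jb(t)` -/
lemma StN.hh_triple [Finite K] {i j b : I} (hij : i ≠ j) (hib : i ≠ b) (hjb : j ≠ b) {t : K}
    (ht : t ≠ 0) : hh x i b t = hh x i j t * hh x j b t := by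
  have hnt : -t ≠ 0 := neg_ne_zero.mpr ht
  have e1 : ww x i b t = MulAut.conj (ww x j b 1) (ww x i j (-t)) := by
    rw [s.ww_conj_ww h3 hij hib hjb, neg_neg]
  have e2 : ww x i b (-1) = MulAut.conj (ww x j b 1) (ww x i j 1) := by
    rw [s.ww_conj_ww h3 hij hib hjb]
  have e3 : ww x i j (-t) * ww x i j 1 = hh x i j t := by
    rw [s.ww_mul_ww_one h3 hij hnt, neg_neg]
  have e4 : hh x i b t = MulAut.conj (ww x j b 1) (hh x i j t) := by
    rw [show hh x i b t = ww x i b t * ww x i b (-1) from rfl, e1, e2, ← map_mul, e3]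
  have e5 : MulAut.conj (hh x i j t)⁻¹ (ww x j b 1) = ww x j b t := by
    rw [s.hh_inv h3 hij ht, s.hh_conj_ww h3 hij hib hjb (inv_ne_zero ht), inv_inv, mul_one]
  rw [e4, MulAut.conj_apply]
  have e6 : ww x j b 1 * hh x i j t * (ww x j b 1)⁻¹ =
      hh x i j t * (MulAut.conj (hh x i j t)⁻¹ (ww x j b 1)) * (ww x j b 1)⁻¹ := by
    rw [MulAut.conj_apply]; group
  rw [e6, e5, s.ww_eq_hh h3 hjb t]
  group

end

end Cfsg.Agent.H16SN
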