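import Mathlib
import Cfsg.Agent.H16SN3

set_option autoImplicit false

namespace Cfsg.Agent.H16SN

open Cfsg.Agent.H16ST

variable {K : Type*} [Field K] {n : ℕ} {Γ : Type*} [Group Γ]
variable {x : Fin n → Fin n → K → Γ}

lemma conj_mem_closure {S T : Set Γ} {γ : Γ}
    (h : ∀ g ∈ S, MulAut.conj γ g ∈ Subgroup.closure T) :
    ∀ g ∈ Subgroup.closure S, MulAut.conj γ g ∈ Subgroup.closure T := by
  intro g hg
  induction hg using Subgroup.closure_induction with
  | mem g hg => exact h g hg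
  | one => rw [map_one]; exact one_mem _
  | mul a b _ _ iha ihb => rw [map_mul]; exact mul_mem iha ihb
  | inv a _ iha => rw [map_inv]; exact inv_mem iha

lemma ne_of_val_lt {a b : Fin n} (h : a.val < b.val) : a ≠ b := fun e => by
  rw [e] at h; exact lt_irrefl _ h

lemma ne_of_val_gt {a b : Fin n} (h : b.val < a.val) : a ≠ b := fun e => by
  rw [e] at h; exact lt_irrefl _ h

/-- generators of the upper unitriangular part on indices `≥ f` -/
def GenU (x : Fin n → Fin n → K → Γ) (f : Fin n) : Set Γ :=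
  {g | ∃ a b t, f.val ≤ a.val ∧ a.val < b.val ∧ g = x a b t}

/-- the same without the simple root `(j, j')` -/
def GenUj (x : Fin n → Fin n → K → Γ) (f j j' : Fin n) : Set Γ :=
  {g | ∃ a b t, f.val ≤ a.val ∧ a.val < b.val ∧ ¬(a = j ∧ b = j') ∧ g = x a b t}

/-- generators of the torus on indices `≥ f` -/
def GenH (x : Fin n → Fin n → K → Γ) (f : Fin n) : Set Γ :=
  {g | ∃ a b t, f.val ≤ a.val ∧ f.val ≤ b.val ∧ a ≠ b ∧ t ≠ 0 ∧ g = hh x a b t}

/-- generators of the stabilizer of the `f`-th basis vector -/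
def GenP (x : Fin n → Fin n → K → Γ) (f : Fin n) : Set Γ :=
  {g | ∃ a b t, f.val ≤ a.val ∧ f.val < b.val ∧ a ≠ b ∧ g = x a b t}

/-- generators of the group on indices `≥ f` -/
def GenG (x : Fin n → Fin n → K → Γ) (f : Fin n) : Set Γ :=
  {g | ∃ a b t, f.val ≤ a.val ∧ f.val ≤ b.val ∧ a ≠ b ∧ g = x a b t}

lemma Fin_third (hn : 3 ≤ n) : Third (Fin n) := by
  intro i j _
  by_cases h0 : i.val ≠ 0 ∧ j.val ≠ 0
  · exact ⟨⟨0, by omega⟩, fun e => h0.1 (by rw [e]), fun e => h0.2 (by rw [e])⟩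
  by_cases h1 : i.val ≠ 1 ∧ j.val ≠ 1
  · exact ⟨⟨1, by omega⟩, fun e => h1.1 (by rw [e]), fun e => h1.2 (by rw [e])⟩
  · refine ⟨⟨2, by omega⟩, fun e => ?_, fun e => ?_⟩
    · have : i.val = 2 := by rw [e]
      have hij : i ≠ j := ‹i ≠ j›
      have : i.val ≠ j.val := fun h => hij (Fin.ext h)
      omega
    · have : j.val = 2 := by rw [e]
      have hij : i ≠ j := ‹i ≠ j›
      have : i.val ≠ j.val := fun h => hij (Fin.ext h)
      omega

section
variable (s : StN x) (h3 : Third (Fin n))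
include s h3

lemma StN.H_Dg {f : Fin n} : ∀ h ∈ Subgroup.closure (GenH x f), Dg x h := by
  intro h hh'
  induction hh' using Subgroup.closure_induction with
  | mem g hg =>
    obtain ⟨a, b, t, _, _, hab, ht, rfl⟩ := hg
    exact s.Dg_hh h3 hab ht
  | one => exact Dg.one
  | mul a b _ _ iha ihb => exact iha.mul ihb
  | inv a _ iha => exact iha.inv

omit s h3 in
lemma Dg_conj_U {γ : Γ} (hγ : Dg x γ) {f : Fin n} :
    ∀ u ∈ Subgroup.closure (GenU x f), MulAut.conj γ u ∈ Subgroup.closure (GenU x f) := by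
  apply conj_mem_closure
  rintro g ⟨a, b, t, h1, h2, rfl⟩
  obtain ⟨c, _, hc1, _⟩ := hγ a b (ne_of_val_lt h2)
  rw [hc1]
  exact Subgroup.subset_closure ⟨a, b, _, h1, h2, rfl⟩

omit s h3 in
lemma Dg_conj_P {γ : Γ} (hγ : Dg x γ) {f : Fin n} :
    ∀ u ∈ Subgroup.closure (GenP x f), MulAut.conj γ u ∈ Subgroup.closure (GenP x f) := by
  apply conj_mem_closure
  rintro g ⟨a, b, t, h1, h2, hab, rfl⟩
  obtain ⟨c, _, hc1, _⟩ := hγ a b hab
  rw [hc1]
  exact Subgroup.subset_closure ⟨a, b, _, h1, h2, hab, rfl⟩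

omit h3 in
/-- `x_{jj'}` normalizes `U^{(j)}` -/
lemma StN.x_conj_Uj {f j j' : Fin n} (hfj : f.val ≤ j.val) (hj : j'.val = j.val + 1) (t : K) :
    ∀ u ∈ Subgroup.closure (GenUj x f j j'),
      MulAut.conj (x j j' t) u ∈ Subgroup.closure (GenUj x f j j') := by
  apply conj_mem_closure
  rintro g ⟨a, b, u, h1, h2, h3', rfl⟩
  have hjj' : j ≠ j' := ne_of_val_lt (by omega)
  have hab : a ≠ b := ne_of_val_lt h2
  by_cases hbj : b = j
  · subst hbj
    have haj' : a ≠ j' := ne_of_val_lt (by omega)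
    rw [s.c_chev' hab hjj' haj']
    refine mul_mem (Subgroup.subset_closure ⟨a, j', _, h1, by omega, ?_, rfl⟩)
      (Subgroup.subset_closure ⟨a, b, _, h1, h2, h3', rfl⟩)
    rintro ⟨e, _⟩; exact hab e
  · by_cases haj' : a = j'
    · subst haj'
      have hjb : j ≠ b := ne_of_val_lt (by omega)
      rw [s.c_chev hjj' hab hjb]
      refine mul_mem (Subgroup.subset_closure ⟨j, b, _, hfj, by omega, ?_, rfl⟩)
        (Subgroup.subset_closure ⟨a, b, _, h1, h2, h3', rfl⟩)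
      rintro ⟨_, e⟩; exact hab e.symm
    · rw [s.c_comm hjj' hab (Ne.symm hbj) (Ne.symm haj')]
      exact Subgroup.subset_closure ⟨a, b, _, h1, h2, h3', rfl⟩

omit h3 in
/-- `x_{j'j}` normalizes `U^{(j)}` -/
lemma StN.y_conj_Uj {f j j' : Fin n} (hfj : f.val ≤ j.val) (hj : j'.val = j.val + 1) (t : K) :
    ∀ u ∈ Subgroup.closure (GenUj x f j j'),
      MulAut.conj (x j' j t) u ∈ Subgroup.closure (GenUj x f j j') := by
  apply conj_mem_closure
  rintro g ⟨a, b, u, h1, h2, h3', rfl⟩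
  have hjj' : j ≠ j' := ne_of_val_lt (by omega)
  have hab : a ≠ b := ne_of_val_lt h2
  by_cases hbj' : b = j'
  · subst hbj'
    have haj : a ≠ j := fun e => h3' ⟨e, rfl⟩
    have haj_lt : a.val < j.val := by
      have : a.val ≠ j.val := fun e => haj (Fin.ext e)
      omega
    rw [s.c_chev' hab hjj'.symm haj]
    refine mul_mem (Subgroup.subset_closure ⟨a, j, _, h1, haj_lt, ?_, rfl⟩)
      (Subgroup.subset_closure ⟨a, b, _, h1, h2, h3', rfl⟩)
    rintro ⟨e, _⟩; exact haj e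
  · by_cases haj : a = j
    · subst haj
      have hbv : j'.val < b.val := by
        have : b.val ≠ j'.val := fun e => hbj' (Fin.ext e)
        omega
      have hj'b : j' ≠ b := ne_of_val_lt hbv
      rw [s.c_chev hjj'.symm hab hj'b]
      refine mul_mem (Subgroup.subset_closure ⟨j', b, _, by omega, hbv, ?_, rfl⟩)
        (Subgroup.subset_closure ⟨a, b, _, h1, h2, h3', rfl⟩)
      rintro ⟨e, _⟩; exact hjj' e.symm
    · rw [s.c_comm hjj'.symm hab (Ne.symm hbj') (Ne.symm haj)]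
      exact Subgroup.subset_closure ⟨a, b, _, h1, h2, h3', rfl⟩

omit h3 in
lemma StN.ww_conj_Uj {f j j' : Fin n} (hfj : f.val ≤ j.val) (hj : j'.val = j.val + 1) (t : K) :
    ∀ u ∈ Subgroup.closure (GenUj x f j j'),
      MulAut.conj (ww x j j' t) u ∈ Subgroup.closure (GenUj x f j j') := by
  intro u hu
  rw [conj_ww]
  exact s.x_conj_Uj hfj hj _ _ (s.y_conj_Uj hfj hj _ _ (s.x_conj_Uj hfj hj _ _ hu))

omit h3 in
lemma GenUj_le_U {f j j' : Fin n} :
    Subgroup.closure (GenUj x f j j') ≤ Subgroup.closure (GenU x f) := by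
  apply Subgroup.closure_mono
  rintro g ⟨a, b, t, h1, h2, _, rfl⟩
  exact ⟨a, b, t, h1, h2, rfl⟩

omit h3 in
/-- `U = X_{jj'} U^{(j)}` -/
lemma StN.U_decomp {f j j' : Fin n} (hfj : f.val ≤ j.val) (hj : j'.val = j.val + 1) :
    ∀ u ∈ Subgroup.closure (GenU x f),
      ∃ t : K, ∃ u' ∈ Subgroup.closure (GenUj x f j j'), u = x j j' t * u' := by
  have hjj' : j ≠ j' := ne_of_val_lt (by omega)
  intro u hu
  induction hu using Subgroup.closure_induction with
  | mem g hg =>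
    obtain ⟨a, b, t, h1, h2, rfl⟩ := hg
    by_cases hc : a = j ∧ b = j'
    · obtain ⟨rfl, rfl⟩ := hc
      exact ⟨t, 1, one_mem _, (mul_one _).symm⟩
    · exact ⟨0, x a b t, Subgroup.subset_closure ⟨a, b, t, h1, h2, hc, rfl⟩, by
        rw [s.zero hjj', one_mul]⟩
  | one => exact ⟨0, 1, one_mem _, by rw [s.zero hjj', one_mul]⟩
  | mul a b _ _ iha ihb =>
    obtain ⟨t, u1, hu1, rfl⟩ := iha
    obtain ⟨t', u2, hu2, rfl⟩ := ihb
    refine ⟨t + t', MulAut.conj (x j j' (-t')) u1 * u2,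
      mul_mem (s.x_conj_Uj hfj hj _ _ hu1) hu2, ?_⟩
    rw [MulAut.conj_apply, ← s.add j j' hjj', s.neg hjj']
    group
  | inv a _ iha =>
    obtain ⟨t, u1, hu1, rfl⟩ := iha
    refine ⟨-t, MulAut.conj (x j j' t) u1⁻¹, s.x_conj_Uj hfj hj _ _ (inv_mem hu1), ?_⟩
    rw [MulAut.conj_apply, s.neg hjj']
    group

omit s h3 in
lemma swap_val_ge {f j j' a : Fin n} (hfj : f.val ≤ j.val) (hfj' : f.val ≤ j'.val)
    (hfa : f.val ≤ a.val) : f.val ≤ (Equiv.swap j j' a).val := by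
  rw [Equiv.swap_apply_def]
  split_ifs <;> assumption

/-- `w_{jj'}(t)` normalizes the torus on indices `≥ f` -/
lemma StN.ww_conj_H {f j j' : Fin n} (hfj : f.val ≤ j.val) (hfj' : f.val ≤ j'.val)
    (hjj' : j ≠ j') {t : K} (ht : t ≠ 0) :
    ∀ h ∈ Subgroup.closure (GenH x f),
      MulAut.conj (ww x j j' t) h ∈ Subgroup.closure (GenH x f) := by
  apply conj_mem_closure
  rintro g ⟨a, b, u, h1, h2, hab, hu, rfl⟩
  obtain ⟨κ, hκ, hc⟩ := s.mono_h h3 hjj' ht hab
  rw [hc]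
  have hcd : Equiv.swap j j' a ≠ Equiv.swap j j' b := fun h => hab ((Equiv.swap j j').injective h)
  exact mul_mem
    (Subgroup.subset_closure ⟨_, _, _, swap_val_ge hfj hfj' h1, swap_val_ge hfj hfj' h2, hcd,
      mul_ne_zero hκ hu, rfl⟩)
    (inv_mem (Subgroup.subset_closure ⟨_, _, _, swap_val_ge hfj hfj' h1,
      swap_val_ge hfj hfj' h2, hcd, hκ, rfl⟩))

end

end Cfsg.Agent.H16SN
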