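import Mathlib
import Cfsg.Agent.H16SN4

set_option autoImplicit false

namespace Cfsg.Agent.H16SN

open Cfsg.Agent.H16ST

variable {K : Type*} [Field K] {n : ℕ} {Γ : Type*} [Group Γ]
variable {x : Fin n → Fin n → K → Γ}

/-- representative moving the `f`-th basis vector to the `m`-th -/
def om (x : Fin n → Fin n → K → Γ) (f m : Fin n) : Γ := if m = f then 1 else ww x m f 1

lemma om_self (f : Fin n) : om x f f = 1 := if_pos rfl

lemma om_ne {f m : Fin n} (h : m ≠ f) : om x f m = ww x m f 1 := if_neg h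

/-- the union of the cells `U H ω_m P` -/
def Cell (x : Fin n → Fin n → K → Γ) (f : Fin n) : Set Γ :=
  {g | ∃ u ∈ Subgroup.closure (GenU x f), ∃ h ∈ Subgroup.closure (GenH x f), ∃ m : Fin n,
    f.val ≤ m.val ∧ ∃ p ∈ Subgroup.closure (GenP x f), g = u * h * om x f m * p}

lemma x_mem_P {f a b : Fin n} (h1 : f.val ≤ a.val) (h2 : f.val < b.val) (hab : a ≠ b) (t : K) :
    x a b t ∈ Subgroup.closure (GenP x f) :=
  Subgroup.subset_closure ⟨a, b, t, h1, h2, hab, rfl⟩

lemma ww_mem_P {f a b : Fin n} (h1 : f.val < a.val) (h2 : f.val < b.val) (hab : a ≠ b) (t : K) :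
    ww x a b t ∈ Subgroup.closure (GenP x f) :=
  mul_mem (mul_mem (x_mem_P h1.le h2 hab _) (x_mem_P h2.le h1 hab.symm _)) (x_mem_P h1.le h2 hab _)

lemma hh_mem_H {f a b : Fin n} (h1 : f.val ≤ a.val) (h2 : f.val ≤ b.val) (hab : a ≠ b) {t : K}
    (ht : t ≠ 0) : hh x a b t ∈ Subgroup.closure (GenH x f) :=
  Subgroup.subset_closure ⟨a, b, t, h1, h2, hab, ht, rfl⟩

section
variable (s : StN x) (h3 : Third (Fin n))
include s h3

/-- case A -/
lemma StN.om_conj_A {f j j' m : Fin n} (hfj : f.val ≤ j.val) (hj : j'.val = j.val + 1)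
    (hfm : f.val ≤ m.val) (hm : m ≠ j') (t : K) :
    MulAut.conj (om x f m)⁻¹ (x j j' t) ∈ Subgroup.closure (GenP x f) := by
  have hjj' : j ≠ j' := ne_of_val_lt (by omega)
  by_cases hmf : m = f
  · subst hmf
    rw [om_self, inv_one, map_one, MulAut.one_apply]
    exact x_mem_P hfj (by omega) hjj' t
  · rw [om_ne hmf, s.ww_inv h3 hmf]
    have hm1 : (-1 : K) ≠ 0 := neg_ne_zero.mpr one_ne_zero
    obtain ⟨κ, _, hc, _⟩ := s.mono h3 hmf hm1 hjj'
    rw [hc]
    have hj'f : j' ≠ f := ne_of_val_gt (by omega)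
    have e : Equiv.swap m f j' = j' := Equiv.swap_apply_of_ne_of_ne (Ne.symm hm) hj'f
    rw [e]
    refine x_mem_P (swap_val_ge hfm le_rfl hfj) (by omega) ?_ _
    intro h0
    have := (Equiv.swap m f).injective (h0.trans e.symm)
    exact hjj' this

/-- case B -/
lemma StN.om_conj_B {f j j' : Fin n} (hfj : f.val ≤ j.val) (hj : j'.val = j.val + 1) (t : K) :
    MulAut.conj (om x f j')⁻¹ (x j' j t) ∈ Subgroup.closure (GenP x f) := by
  have hjj' : j ≠ j' := ne_of_val_lt (by omega)
  have hj'f : j' ≠ f := ne_of_val_gt (by omega)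
  have hm1 : (-1 : K) ≠ 0 := neg_ne_zero.mpr one_ne_zero
  rw [om_ne hj'f, s.ww_inv h3 hj'f]
  obtain ⟨κ, _, hc, _⟩ := s.mono h3 hj'f hm1 hjj'.symm
  rw [hc, Equiv.swap_apply_left]
  by_cases hjf : j = f
  · subst hjf
    rw [Equiv.swap_apply_right]
    exact x_mem_P le_rfl (by omega) hjj' _
  · rw [Equiv.swap_apply_of_ne_of_ne hjj' hjf]
    have : f.val ≠ j.val := fun e => hjf (Fin.ext e.symm)
    exact x_mem_P le_rfl (by omega) (Ne.symm hjf) _

omit h3 in
lemma StN.rank_one_id {j j' : Fin n} (hjj' : j ≠ j') {r : K} (hr : r ≠ 0) :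
    x j' j r = x j j' r⁻¹ * ww x j j' (-r⁻¹) * x j j' r⁻¹ := by
  unfold ww
  have e : -(-r⁻¹)⁻¹ = r := by rw [inv_neg, neg_neg, inv_inv]
  rw [e, s.neg hjj']
  group

/-- the products `w_j ω_m` -/
lemma StN.ww_om [Finite K] {f j j' m : Fin n} (hfj : f.val ≤ j.val) (hj : j'.val = j.val + 1)
    (hfm : f.val ≤ m.val) :
    ∃ h₂ ∈ Subgroup.closure (GenH x f), ∃ m' : Fin n, f.val ≤ m'.val ∧
      ∃ p₂ ∈ Subgroup.closure (GenP x f), ww x j j' 1 * om x f m = h₂ * om x f m' * p₂ := by
  have hjj' : j ≠ j' := ne_of_val_lt (by omega)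
  have hj'f : j' ≠ f := ne_of_val_gt (by omega)
  have hm1 : (-1 : K) ≠ 0 := neg_ne_zero.mpr one_ne_zero
  by_cases hmf : m = f
  · subst hmf
    rw [om_self, mul_one]
    by_cases hjf : j = m
    · subst hjf
      refine ⟨hh x j' j (-1), hh_mem_H (by omega) le_rfl hjj'.symm hm1, j', by omega, 1,
        one_mem _, ?_⟩
      rw [om_ne hj'f, mul_one, ← s.ww_eq_hh h3 hjj'.symm, s.ww_braid h3 hjj' one_ne_zero,
        inv_one]
    · have : m.val ≠ j.val := fun e => hjf (Fin.ext e.symm)
      exact ⟨1, one_mem _, m, le_rfl, ww x j j' 1, ww_mem_P (by omega) (by omega) hjj' 1, by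
        rw [om_self, one_mul, one_mul]⟩
  · have hfm' : f.val < m.val := by
      have : f.val ≠ m.val := fun e => hmf (Fin.ext e.symm)
      omega
    rw [om_ne hmf]
    by_cases hmj : m = j
    · subst hmj
      -- conj W (w_{m f}) = w_{j' f}(κ)
      obtain ⟨κ, hκ, hc⟩ := s.mono_w h3 hjj' (one_ne_zero) hmf
      have hc1 := hc 1
      rw [Equiv.swap_apply_left, Equiv.swap_apply_of_ne_of_ne (Ne.symm hmf) (Ne.symm hj'f),
        mul_one] at hc1
      refine ⟨hh x j' f κ, hh_mem_H (by omega) le_rfl hj'f hκ, j', by omega, ww x m j' 1,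
        ww_mem_P hfm' (by omega) hjj' 1, ?_⟩
      rw [om_ne hj'f, ← s.ww_eq_hh h3 hj'f, ← hc1, MulAut.conj_apply]
      group
    · by_cases hmj' : m = j'
      · subst hmj'
        by_cases hjf : j = f
        · subst hjf
          refine ⟨1, one_mem _, j, le_rfl, 1, one_mem _, ?_⟩
          rw [om_self, one_mul, one_mul, s.ww_braid h3 hjj'.symm one_ne_zero, inv_one,
            ← s.ww_inv h3 hjj', mul_inv_cancel]
        · have hfj' : f.val < j.val := by
            have : f.val ≠ j.val := fun e => hjf (Fin.ext e.symm)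
            omega
          obtain ⟨κ, hκ, hc⟩ := s.mono_w h3 hjj' (one_ne_zero) hmf
          have hc1 := hc 1
          rw [Equiv.swap_apply_right, Equiv.swap_apply_of_ne_of_ne (Ne.symm hjf) (Ne.symm hmf),
            mul_one] at hc1
          refine ⟨hh x j f κ, hh_mem_H hfj le_rfl hjf hκ, j, hfj, ww x j m 1,
            ww_mem_P hfj' hfm' hjj' 1, ?_⟩
          rw [om_ne hjf, ← s.ww_eq_hh h3 hjf, ← hc1, MulAut.conj_apply]
          group
      · -- generic position
        obtain ⟨κ, hκ, hc⟩ := s.mono_w h3 hmf hm1 hjj'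
        have hc1 := hc 1
        rw [mul_one, ← s.ww_inv h3 hmf] at hc1
        have hσj : f.val < (Equiv.swap m f j).val := by
          have h1 := swap_val_ge (a := j) hfm (le_refl f.val) hfj
          have h2 : Equiv.swap m f j ≠ f := by
            intro h0
            have : j = m := by
              have := congrArg (Equiv.swap m f) h0
              rwa [Equiv.swap_apply_self, Equiv.swap_apply_right] at this
            exact hmj this.symm
          have : (Equiv.swap m f j).val ≠ f.val := fun e => h2 (Fin.ext e)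
          omega
        have hσj' : f.val < (Equiv.swap m f j').val := by
          rw [Equiv.swap_apply_of_ne_of_ne (Ne.symm hmj') hj'f]; omega
        have hne : Equiv.swap m f j ≠ Equiv.swap m f j' :=
          fun h0 => hjj' ((Equiv.swap m f).injective h0)
        refine ⟨1, one_mem _, m, hfm, _, ww_mem_P hσj hσj' hne κ, ?_⟩
        rw [om_ne hmf, ← hc1, MulAut.conj_apply]
        group

end

end Cfsg.Agent.H16SN
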