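import Mathlib
import Cfsg.Agent.H16SN5

set_option autoImplicit false

namespace Cfsg.Agent.H16SN

open Cfsg.Agent.H16ST

variable {K : Type*} [Field K] {n : ℕ} {Γ : Type*} [Group Γ]
variable {x : Fin n → Fin n → K → Γ}

section
variable (s : StN x) (h3 : Third (Fin n))
include s h3

/-- the `t = 0` form of the closure step -/
lemma StN.ww_Cell0 [Finite K] {f j j' : Fin n} (hfj : f.val ≤ j.val) (hj : j'.val = j.val + 1)
    {u' h p : Γ} (hu' : u' ∈ Subgroup.closure (GenUj x f j j'))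
    (hh' : h ∈ Subgroup.closure (GenH x f)) {m : Fin n} (hfm : f.val ≤ m.val)
    (hp : p ∈ Subgroup.closure (GenP x f)) :
    ww x j j' 1 * (u' * h * om x f m * p) ∈ Cell x f := by
  have hjj' : j ≠ j' := ne_of_val_lt (by omega)
  obtain ⟨h₂, hh₂, m', hfm', p₂, hp₂, e⟩ := s.ww_om h3 hfj hj hfm
  refine ⟨MulAut.conj (ww x j j' 1) u', GenUj_le_U s (s.ww_conj_Uj hfj hj 1 _ hu'),
    MulAut.conj (ww x j j' 1) h * h₂,
    mul_mem (s.ww_conj_H h3 hfj (by omega) hjj' one_ne_zero _ hh') hh₂, m', hfm', p₂ * p,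
    mul_mem hp₂ hp, ?_⟩
  have e' : ww x j j' 1 * (u' * h * om x f m * p) =
      (ww x j j' 1 * u' * (ww x j j' 1)⁻¹) * (ww x j j' 1 * h * (ww x j j' 1)⁻¹) *
        (ww x j j' 1 * om x f m) * p := by group
  rw [e', e, MulAut.conj_apply, MulAut.conj_apply]
  group

/-- the closure step -/
lemma StN.ww_Cell [Finite K] {f j j' : Fin n} (hfj : f.val ≤ j.val) (hj : j'.val = j.val + 1) :
    ∀ g ∈ Cell x f, ww x j j' 1 * g ∈ Cell x f := by
  have hjj' : j ≠ j' := ne_of_val_lt (by omega)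
  have hm1 : (-1 : K) ≠ 0 := neg_ne_zero.mpr one_ne_zero
  rintro g ⟨u, hu, h, hh', m, hfm, p, hp, rfl⟩
  obtain ⟨t, u', hu', rfl⟩ := s.U_decomp hfj hj u hu
  by_cases ht : t = 0
  · subst ht
    rw [s.zero hjj', one_mul]
    exact s.ww_Cell0 h3 hfj hj hu' hh' hfm hp
  have hDi : Dg x h⁻¹ := (s.H_Dg h3 h hh').inv
  by_cases hm : m = j'
  · -- case B
    rw [hm] at hfm ⊢
    obtain ⟨r, hr⟩ : ∃ r, r = -((1 : K)⁻¹ ^ 2 * t) := ⟨_, rfl⟩
    have hr0 : r ≠ 0 := by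
      rw [hr]; simpa using ht
    have hy : MulAut.conj (ww x j j' 1) (x j j' t) = x j' j r := by
      rw [s.C5' h3 hjj' one_ne_zero, hr]
    have hy2 := s.rank_one_id hjj' hr0
    -- y' = W⁻¹ x(r⁻¹) W
    have hy' : MulAut.conj (ww x j j' 1)⁻¹ (x j j' r⁻¹) = x j' j (-((-1 : K)⁻¹ ^ 2 * r⁻¹)) := by
      rw [s.ww_inv h3 hjj', s.C5' h3 hjj' hm1]
    obtain ⟨c, hc, _, hc2⟩ := hDi j j' hjj'
    have hp4 : MulAut.conj (om x f j')⁻¹ (MulAut.conj h⁻¹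
        (MulAut.conj (ww x j j' 1)⁻¹ (x j j' r⁻¹))) ∈ Subgroup.closure (GenP x f) := by
      rw [hy', hc2]
      exact s.om_conj_B h3 hfj hj _
    have hh5 : ww x j j' (-r⁻¹) * ww x j j' 1 ∈ Subgroup.closure (GenH x f) := by
      rw [s.ww_mul_ww_one h3 hjj' (neg_ne_zero.mpr (inv_ne_zero hr0)), neg_neg]
      exact hh_mem_H hfj (by omega) hjj' (inv_ne_zero hr0)
    have hu4 : MulAut.conj (x j' j r) (MulAut.conj (ww x j j' 1) u') ∈
        Subgroup.closure (GenUj x f j j') :=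
      s.y_conj_Uj hfj hj _ _ (s.ww_conj_Uj hfj hj 1 _ hu')
    refine ⟨MulAut.conj (x j' j r) (MulAut.conj (ww x j j' 1) u') * x j j' r⁻¹,
      mul_mem (GenUj_le_U s hu4) (Subgroup.subset_closure ⟨j, j', _, hfj, by omega, rfl⟩),
      (ww x j j' (-r⁻¹) * ww x j j' 1) * h, mul_mem hh5 hh', j', hfm, _, mul_mem hp4 hp, ?_⟩
    rw [MulAut.conj_apply, MulAut.conj_apply, MulAut.conj_apply, MulAut.conj_apply,
      MulAut.conj_apply]
    rw [MulAut.conj_apply] at hy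
    obtain ⟨Y, hY⟩ : ∃ Y, Y = x j' j r := ⟨_, rfl⟩
    rw [← hY] at hy hy2 ⊢
    have e1 : Y * (ww x j j' 1 * u' * (ww x j j' 1)⁻¹) * Y⁻¹ * x j j' r⁻¹ *
        (ww x j j' (-r⁻¹) * ww x j j' 1 * h) * om x f j' *
        ((om x f j')⁻¹ * (h⁻¹ * ((ww x j j' 1)⁻¹ * x j j' r⁻¹ * (ww x j j' 1)⁻¹⁻¹) * h⁻¹⁻¹) *
          (om x f j')⁻¹⁻¹ * p) =
        Y * (ww x j j' 1 * u' * (ww x j j' 1)⁻¹) * Y⁻¹ *
          (x j j' r⁻¹ * ww x j j' (-r⁻¹) * x j j' r⁻¹) * (ww x j j' 1 * h * om x f j' * p) := by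
      group
    rw [e1, ← hy2, ← hy]
    group
  · -- case A
    obtain ⟨c, hc, hc1, _⟩ := hDi j j' hjj'
    have hp3 : MulAut.conj (om x f m)⁻¹ (MulAut.conj h⁻¹ (x j j' t)) ∈
        Subgroup.closure (GenP x f) := by
      rw [hc1]; exact s.om_conj_A h3 hfj hj hfm hm _
    have e : ww x j j' 1 * (x j j' t * u' * h * om x f m * p) =
        ww x j j' 1 * (MulAut.conj (x j j' t) u' * h * om x f m *
          (MulAut.conj (om x f m)⁻¹ (MulAut.conj h⁻¹ (x j j' t)) * p)) := by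
      rw [MulAut.conj_apply, MulAut.conj_apply, MulAut.conj_apply]; group
    rw [e]
    exact s.ww_Cell0 h3 hfj hj (s.x_conj_Uj hfj hj _ _ hu') hh' hfm (mul_mem hp3 hp)

end

end Cfsg.Agent.H16SN
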