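import Mathlib
import Cfsg.Agent.H16SN6

set_option autoImplicit false

namespace Cfsg.Agent.H16SN

open Cfsg.Agent.H16ST

variable {K : Type*} [Field K] {n : ℕ} {Γ : Type*} [Group Γ]
variable {x : Fin n → Fin n → K → Γ}

/-- generating set: upper root elements and the simple reflections -/
def GenM (x : Fin n → Fin n → K → Γ) (f : Fin n) : Set Γ :=
  GenU x f ∪ {g | ∃ j j' : Fin n, f.val ≤ j.val ∧ j'.val = j.val + 1 ∧ g = ww x j j' 1}

section
variable (s : StN x) (h3 : Third (Fin n))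
include s h3

lemma StN.lower_mem_M {f : Fin n} : ∀ d : ℕ, ∀ a b : Fin n, f.val ≤ b.val →
    a.val = b.val + d + 1 → ∀ t, x a b t ∈ Subgroup.closure (GenM x f) := by
  have base : ∀ a b : Fin n, f.val ≤ b.val → a.val = b.val + 1 → ∀ t,
      x a b t ∈ Subgroup.closure (GenM x f) := by
    intro a b hb hab t
    have hba : b ≠ a := ne_of_val_lt (by omega)
    have e := s.C5' h3 hba one_ne_zero (-t)
    have e2 : -((1 : K)⁻¹ ^ 2 * -t) = t := by simp
    rw [e2, MulAut.conj_apply] at e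
    rw [← e]
    have hW : ww x b a 1 ∈ Subgroup.closure (GenM x f) :=
      Subgroup.subset_closure (Or.inr ⟨b, a, hb, hab, rfl⟩)
    have hX : x b a (-t) ∈ Subgroup.closure (GenM x f) :=
      Subgroup.subset_closure (Or.inl ⟨b, a, _, hb, by omega, rfl⟩)
    exact mul_mem (mul_mem hW hX) (inv_mem hW)
  intro d
  induction d with
  | zero => intro a b hb hab t; exact base a b hb (by omega) t
  | succ d ih =>
    intro a b hb hab t
    have hcn : b.val + 1 < n := by have := a.isLt; omega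
    let c : Fin n := ⟨b.val + 1, hcn⟩
    have hac : a ≠ c := ne_of_val_gt (by show b.val + 1 < a.val; omega)
    have hcb : c ≠ b := ne_of_val_gt (by show b.val < b.val + 1; omega)
    have hab' : a ≠ b := ne_of_val_gt (by omega)
    have e := s.chev a c b hac hcb hab' t 1
    rw [mul_one] at e
    rw [← e]
    have h1 : x a c t ∈ Subgroup.closure (GenM x f) :=
      ih a c (by show f.val ≤ b.val + 1; omega) (by show a.val = b.val + 1 + d + 1; omega) t
    have h2 : x c b 1 ∈ Subgroup.closure (GenM x f) := base c b hb rfl 1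
    exact mul_mem (mul_mem (mul_mem h1 h2) (inv_mem h1)) (inv_mem h2)

lemma StN.G_le_M {f : Fin n} :
    Subgroup.closure (GenG x f) ≤ Subgroup.closure (GenM x f) := by
  rw [Subgroup.closure_le]
  rintro g ⟨a, b, t, h1, h2, hab, rfl⟩
  by_cases hlt : a.val < b.val
  · exact Subgroup.subset_closure (Or.inl ⟨a, b, t, h1, hlt, rfl⟩)
  · have : a.val ≠ b.val := fun e => hab (Fin.ext e)
    exact s.lower_mem_M h3 (a.val - b.val - 1) a b h2 (by omega) t

omit s h3 in
lemma one_mem_Cell {f : Fin n} : (1 : Γ) ∈ Cell x f :=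
  ⟨1, one_mem _, 1, one_mem _, f, le_rfl, 1, one_mem _, by rw [om_self]; group⟩

omit s h3 in
lemma U_mul_Cell {f : Fin n} {u₀ : Γ} (hu₀ : u₀ ∈ Subgroup.closure (GenU x f)) :
    ∀ g ∈ Cell x f, u₀ * g ∈ Cell x f := by
  rintro g ⟨u, hu, h, hh', m, hfm, p, hp, rfl⟩
  exact ⟨u₀ * u, mul_mem hu₀ hu, h, hh', m, hfm, p, hp, by group⟩

lemma StN.H_mul_Cell {f : Fin n} {h₀ : Γ} (hh₀ : h₀ ∈ Subgroup.closure (GenH x f)) :
    ∀ g ∈ Cell x f, h₀ * g ∈ Cell x f := by
  rintro g ⟨u, hu, h, hh', m, hfm, p, hp, rfl⟩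
  refine ⟨MulAut.conj h₀ u, Dg_conj_U (s.H_Dg h3 h₀ hh₀) u hu, h₀ * h, mul_mem hh₀ hh', m, hfm,
    p, hp, ?_⟩
  rw [MulAut.conj_apply]; group

/-- Bruhat-type decomposition of the group on indices `≥ f` -/
theorem StN.G_sub_Cell [Finite K] {f : Fin n} :
    ∀ g ∈ Subgroup.closure (GenG x f), g ∈ Cell x f := by
  have hm1 : (-1 : K) ≠ 0 := neg_ne_zero.mpr one_ne_zero
  have key : ∀ γ ∈ Subgroup.closure (GenM x f), ∀ g ∈ Cell x f, γ * g ∈ Cell x f := by
    intro γ hγ
    induction hγ using Subgroup.closure_induction'' with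
    | mem γ hγ =>
      rcases hγ with hγ | ⟨j, j', hfj, hj, rfl⟩
      · exact U_mul_Cell (Subgroup.subset_closure hγ)
      · exact s.ww_Cell h3 hfj hj
    | inv_mem γ hγ =>
      rcases hγ with hγ | ⟨j, j', hfj, hj, rfl⟩
      · exact U_mul_Cell (inv_mem (Subgroup.subset_closure hγ))
      · have hjj' : j ≠ j' := ne_of_val_lt (by omega)
        intro g hg
        rw [s.ww_inv h3 hjj', s.ww_eq_hh h3 hjj' (-1), mul_assoc]
        exact s.H_mul_Cell h3 (hh_mem_H hfj (by omega) hjj' hm1) _ (s.ww_Cell h3 hfj hj g hg)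
    | one => intro g hg; rwa [one_mul]
    | mul a b _ _ iha ihb => intro g hg; rw [mul_assoc]; exact iha _ (ihb g hg)
  intro g hg
  have := key g (s.G_le_M h3 hg) 1 one_mem_Cell
  rwa [mul_one] at this

end

end Cfsg.Agent.H16SN
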