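import Mathlib
import Cfsg.Agent.H16SN7

set_option autoImplicit false

namespace Cfsg.Agent.H16SN

open Cfsg.Agent.H16ST

variable {K : Type*} [Field K] {n : ℕ} {Γ : Type*} [Group Γ]
variable {x : Fin n → Fin n → K → Γ}

/-- the action of the root elements on vectors -/
def Act (x : Fin n → Fin n → K → Γ) [MulAction Γ (Fin n → K)] : Prop :=
  ∀ i j : Fin n, i ≠ j → ∀ (t : K) (v : Fin n → K),
    x i j t • v = Function.update v i (v i + t * v j)

variable [MulAction Γ (Fin n → K)]

lemma Act.x_single_ne (ha : Act x) {i j m : Fin n} (hij : i ≠ j) (hmj : m ≠ j) (t c : K) :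
    x i j t • (Pi.single m c : Fin n → K) = Pi.single m c := by
  rw [ha i j hij]
  have : (Pi.single m c : Fin n → K) j = 0 := by
    rw [Pi.single_apply]; exact if_neg (Ne.symm hmj)
  rw [this, mul_zero, add_zero, Function.update_eq_self]

lemma Act.x_single_eq (ha : Act x) {i j : Fin n} (hij : i ≠ j) (t c : K) :
    x i j t • (Pi.single j c : Fin n → K) = Function.update (Pi.single j c) i (t * c) := by
  rw [ha i j hij]
  have h1 : (Pi.single j c : Fin n → K) j = c := by
    rw [Pi.single_apply]; exact if_pos rfl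
  have h2 : (Pi.single j c : Fin n → K) i = 0 := by
    rw [Pi.single_apply]; exact if_neg hij
  rw [h1, h2, zero_add]

lemma Act.ww_single_snd (ha : Act x) {i j : Fin n} (hij : i ≠ j) {t : K} (ht : t ≠ 0) (c : K) :
    ww x i j t • (Pi.single j c : Fin n → K) = Pi.single i (t * c) := by
  unfold ww
  rw [mul_smul, mul_smul, ha.x_single_eq hij, ha j i hij.symm, ha i j hij]
  have e : c + -(t⁻¹ * (t * c)) = 0 := by field_simp; ring
  funext k
  simp only [Function.update_apply, Pi.single_apply]
  by_cases hki : k = i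
  · subst hki
    simp [hij, hij.symm]
    exact Or.inr e
  · by_cases hkj : k = j
    · subst hkj
      simp [hij, hij.symm, hki]
      exact e
    · simp [hki, hkj]

lemma Act.ww_single_fst (ha : Act x) {i j : Fin n} (hij : i ≠ j) {t : K} (ht : t ≠ 0) (c : K) :
    ww x i j t • (Pi.single i c : Fin n → K) = Pi.single j (-t⁻¹ * c) := by
  unfold ww
  rw [mul_smul, mul_smul, ha.x_single_ne hij hij, ha.x_single_eq hij.symm, ha i j hij]
  have e : c + -(t * (t⁻¹ * c)) = 0 := by field_simp; ring
  funext k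
  simp only [Function.update_apply, Pi.single_apply]
  by_cases hki : k = i
  · subst hki
    simp [hij, hij.symm]
    exact e
  · by_cases hkj : k = j
    · subst hkj
      simp [hij, hij.symm, hki]
    · simp [hki, hkj]

lemma Act.ww_single_ne (ha : Act x) {i j m : Fin n} (hij : i ≠ j) (hmi : m ≠ i) (hmj : m ≠ j)
    (t c : K) : ww x i j t • (Pi.single m c : Fin n → K) = Pi.single m c := by
  unfold ww
  rw [mul_smul, mul_smul, ha.x_single_ne hij hmj, ha.x_single_ne hij.symm hmi,
    ha.x_single_ne hij hmj]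

/-- diagonal action on basis vectors -/
def Di (γ : Γ) : Prop :=
  ∀ m : Fin n, ∃ l : K, l ≠ 0 ∧ ∀ c : K, γ • (Pi.single m c : Fin n → K) = Pi.single m (l * c)

lemma Di.one : Di (n := n) (K := K) (1 : Γ) := fun m => ⟨1, one_ne_zero, fun c => by
  rw [one_smul, one_mul]⟩

lemma Di.mul {γ δ : Γ} (hγ : Di (n := n) (K := K) γ) (hδ : Di (n := n) (K := K) δ) :
    Di (n := n) (K := K) (γ * δ) := by
  intro m
  obtain ⟨l, hl, h1⟩ := hγ m
  obtain ⟨l', hl', h2⟩ := hδ m
  exact ⟨l * l', mul_ne_zero hl hl', fun c => by rw [mul_smul, h2, h1, mul_assoc]⟩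

lemma Di.inv {γ : Γ} (hγ : Di (n := n) (K := K) γ) : Di (n := n) (K := K) γ⁻¹ := by
  intro m
  obtain ⟨l, hl, h1⟩ := hγ m
  refine ⟨l⁻¹, inv_ne_zero hl, fun c => ?_⟩
  rw [inv_smul_eq_iff, h1, mul_inv_cancel_left₀ hl]

lemma Act.hh_single (ha : Act x) {i j : Fin n} (hij : i ≠ j) {t : K} (ht : t ≠ 0) (c : K) :
    hh x i j t • (Pi.single i c : Fin n → K) = Pi.single i (t * c) := by
  have hm1 : (-1 : K) ≠ 0 := neg_ne_zero.mpr one_ne_zero
  rw [show hh x i j t = ww x i j t * ww x i j (-1) from rfl, mul_smul,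
    ha.ww_single_fst hij hm1, ha.ww_single_snd hij ht]
  congr 1
  field_simp

lemma Act.Di_hh (ha : Act x) {i j : Fin n} (hij : i ≠ j) {t : K} (ht : t ≠ 0) :
    Di (n := n) (K := K) (hh x i j t) := by
  have hm1 : (-1 : K) ≠ 0 := neg_ne_zero.mpr one_ne_zero
  intro m
  by_cases hmi : m = i
  · subst hmi
    exact ⟨t, ht, fun c => ha.hh_single hij ht c⟩
  · by_cases hmj : m = j
    · subst hmj
      refine ⟨t⁻¹, inv_ne_zero ht, fun c => ?_⟩
      rw [show hh x i m t = ww x i m t * ww x i m (-1) from rfl, mul_smul,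
        ha.ww_single_snd hij hm1, ha.ww_single_fst hij ht]
      congr 1
      field_simp
    · refine ⟨1, one_ne_zero, fun c => ?_⟩
      rw [show hh x i j t = ww x i j t * ww x i j (-1) from rfl, mul_smul,
        ha.ww_single_ne hij hmi hmj, ha.ww_single_ne hij hmi hmj, one_mul]

lemma Act.H_Di (ha : Act x) {f : Fin n} :
    ∀ h ∈ Subgroup.closure (GenH x f), Di (n := n) (K := K) h := by
  intro h hh'
  induction hh' using Subgroup.closure_induction with
  | mem g hg =>
    obtain ⟨a, b, t, _, _, hab, ht, rfl⟩ := hg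
    exact ha.Di_hh hab ht
  | one => exact Di.one
  | mul a b _ _ iha ihb => exact iha.mul ihb
  | inv a _ iha => exact iha.inv

/-- `P_f` fixes the multiples of the `f`-th basis vector -/
lemma Act.P_fix (ha : Act x) {f : Fin n} (c : K) :
    ∀ p ∈ Subgroup.closure (GenP x f), p • (Pi.single f c : Fin n → K) = Pi.single f c := by
  intro p hp
  have : Subgroup.closure (GenP x f) ≤ MulAction.stabilizer Γ (Pi.single f c : Fin n → K) := by
    rw [Subgroup.closure_le]
    rintro g ⟨a, b, t, _, h2, hab, rfl⟩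
    exact MulAction.mem_stabilizer_iff.mpr (ha.x_single_ne hab (ne_of_val_lt h2) t c)
  exact this hp

lemma GenU_le_P {f : Fin n} :
    Subgroup.closure (GenU x f) ≤ Subgroup.closure (GenP x f) := by
  apply Subgroup.closure_mono
  rintro g ⟨a, b, t, h1, h2, rfl⟩
  exact ⟨a, b, t, h1, by omega, ne_of_val_lt h2, rfl⟩

/-- top index predicate -/
def Top (m : Fin n) (v : Fin n → K) : Prop := v m ≠ 0 ∧ ∀ l : Fin n, m.val < l.val → v l = 0

lemma Act.U_Top (ha : Act x) (s : StN x) {f m : Fin n} :
    ∀ u ∈ Subgroup.closure (GenU x f), ∀ v : Fin n → K, Top m v → Top m (u • v) := by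
  have gen : ∀ a b : Fin n, a.val < b.val → ∀ (t : K) (v : Fin n → K), Top m v →
      Top m (x a b t • v) := by
    intro a b hab t v hv
    rw [ha a b (ne_of_val_lt hab)]
    by_cases hb : m.val < b.val
    · rw [hv.2 b hb, mul_zero, add_zero, Function.update_eq_self]; exact hv
    · have ham : a ≠ m := ne_of_val_lt (by omega)
      refine ⟨?_, fun l hl => ?_⟩
      · rw [Function.update_of_ne ham.symm]; exact hv.1
      · have : l ≠ a := ne_of_val_gt (by omega)
        rw [Function.update_of_ne this]; exact hv.2 l hl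
  intro u hu
  induction hu using Subgroup.closure_induction'' with
  | mem g hg =>
    obtain ⟨a, b, t, _, h2, rfl⟩ := hg
    exact gen a b h2 t
  | inv_mem g hg =>
    obtain ⟨a, b, t, _, h2, rfl⟩ := hg
    rw [← s.neg (ne_of_val_lt h2)]
    exact gen a b h2 (-t)
  | one => intro v hv; rwa [one_smul]
  | mul a b _ _ iha ihb => intro v hv; rw [mul_smul]; exact iha _ (ihb v hv)

end Cfsg.Agent.H16SN
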