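import Mathlib
import Cfsg.Agent.H16SN8

set_option autoImplicit false

namespace Cfsg.Agent.H16SN

open Cfsg.Agent.H16ST

variable {K : Type*} [Field K] {n : ℕ} {Γ : Type*} [Group Γ]
variable {x : Fin n → Fin n → K → Γ}

/-- generators of the torus on indices `> f` -/
def GenHgt (x : Fin n → Fin n → K → Γ) (f : Fin n) : Set Γ :=
  {g | ∃ a b t, f.val < a.val ∧ f.val < b.val ∧ a ≠ b ∧ t ≠ 0 ∧ g = hh x a b t}

/-- generators of the group on indices `> f` -/
def GenGgt (x : Fin n → Fin n → K → Γ) (f : Fin n) : Set Γ :=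
  {g | ∃ a b t, f.val < a.val ∧ f.val < b.val ∧ a ≠ b ∧ g = x a b t}

/-- generators of the row group -/
def GenA (x : Fin n → Fin n → K → Γ) (f : Fin n) (k : ℕ) : Set Γ :=
  {g | ∃ b t, f.val < b.val ∧ b.val < k ∧ g = x f b t}

lemma Hgt_le_P {f : Fin n} :
    Subgroup.closure (GenHgt x f) ≤ Subgroup.closure (GenP x f) := by
  rw [Subgroup.closure_le]
  rintro g ⟨a, b, t, h1, h2, hab, _, rfl⟩
  exact mul_mem (ww_mem_P h1 h2 hab _) (ww_mem_P h1 h2 hab _)

lemma Hgt_le_H {f : Fin n} :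
    Subgroup.closure (GenHgt x f) ≤ Subgroup.closure (GenH x f) := by
  apply Subgroup.closure_mono
  rintro g ⟨a, b, t, h1, h2, hab, ht, rfl⟩
  exact ⟨a, b, t, h1.le, h2.le, hab, ht, rfl⟩

section
variable (s : StN x) (h3 : Third (Fin n))
include s h3

/-- structure of the torus -/
lemma StN.H_decomp [Finite K] {f f' : Fin n} (hf' : f'.val = f.val + 1) :
    ∀ h ∈ Subgroup.closure (GenH x f), ∃ t : K, t ≠ 0 ∧
      ∃ h' ∈ Subgroup.closure (GenHgt x f), h = hh x f f' t * h' := by
  have hff' : f ≠ f' := ne_of_val_lt (by omega)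
  have hcomm : ∀ h' ∈ Subgroup.closure (GenHgt x f), ∀ u : K, u ≠ 0 →
      Commute h' (hh x f f' u) := fun h' hh' u hu =>
    s.Dg_commute h3 (s.H_Dg h3 h' (Hgt_le_H hh')) hff' hu
  -- the case of a generator `h_{f b}(t)`
  have gen1 : ∀ (b : Fin n) (t : K), f.val < b.val → t ≠ 0 → ∃ t' : K, t' ≠ 0 ∧
      ∃ h' ∈ Subgroup.closure (GenHgt x f), hh x f b t = hh x f f' t' * h' := by
    intro b t hb ht
    by_cases hbf' : b = f'
    · subst hbf'
      exact ⟨t, ht, 1, one_mem _, (mul_one _).symm⟩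
    · have hf'b : f' ≠ b := Ne.symm hbf'
      have hfb : f ≠ b := ne_of_val_lt hb
      have : f'.val < b.val := by
        have : b.val ≠ f'.val := fun e => hbf' (Fin.ext e)
        omega
      exact ⟨t, ht, hh x f' b t,
        Subgroup.subset_closure ⟨f', b, t, by omega, hb, hf'b, ht, rfl⟩,
        s.hh_triple h3 hff' hfb hf'b ht⟩
  intro h hh'
  induction hh' using Subgroup.closure_induction with
  | mem g hg =>
    obtain ⟨a, b, t, h1, h2, hab, ht, rfl⟩ := hg
    by_cases haf : a = f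
    · subst haf
      have : a.val ≠ b.val := fun e => hab (Fin.ext e)
      exact gen1 b t (by omega) ht
    · have haf' : f.val < a.val := by
        have : a.val ≠ f.val := fun e => haf (Fin.ext e)
        omega
      by_cases hbf : b = f
      · subst hbf
        rw [s.hh_swap h3 hab.symm ht, s.hh_inv h3 hab.symm ht]
        exact gen1 a t⁻¹ haf' (inv_ne_zero ht)
      · have hbf' : f.val < b.val := by
          have : b.val ≠ f.val := fun e => hbf (Fin.ext e)
          omega
        exact ⟨1, one_ne_zero, hh x a b t,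
          Subgroup.subset_closure ⟨a, b, t, haf', hbf', hab, ht, rfl⟩, by
            rw [s.hh_one h3 hff', one_mul]⟩
  | one => exact ⟨1, one_ne_zero, 1, one_mem _, by rw [s.hh_one h3 hff', one_mul]⟩
  | mul a b _ _ iha ihb =>
    obtain ⟨t, ht, h1, hh1, rfl⟩ := iha
    obtain ⟨u, hu, h2, hh2, rfl⟩ := ihb
    refine ⟨t * u, mul_ne_zero ht hu, h1 * h2, mul_mem hh1 hh2, ?_⟩
    rw [s.hh_mul h3 hff' ht hu]
    have := (hcomm h1 hh1 u hu).eq
    calc hh x f f' t * h1 * (hh x f f' u * h2)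
        = hh x f f' t * (h1 * hh x f f' u) * h2 := by group
      _ = hh x f f' t * (hh x f f' u * h1) * h2 := by rw [this]
      _ = _ := by group
  | inv a _ iha =>
    obtain ⟨t, ht, h1, hh1, rfl⟩ := iha
    refine ⟨t⁻¹, inv_ne_zero ht, h1⁻¹, inv_mem hh1, ?_⟩
    rw [mul_inv_rev, s.hh_inv h3 hff' ht]
    exact ((hcomm h1⁻¹ (inv_mem hh1) t⁻¹ (inv_ne_zero ht)).eq)

variable [MulAction Γ (Fin n → K)]

/-- the stabilizer of the `f`-th basis vector in `G_f` is `P_f` -/
theorem StN.stab_le_P [Finite K] (ha : Act x) {f f' : Fin n} (hf' : f'.val = f.val + 1)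
    {g : Γ} (hg : g ∈ Subgroup.closure (GenG x f))
    (hfix : g • (Pi.single f 1 : Fin n → K) = Pi.single f 1) :
    g ∈ Subgroup.closure (GenP x f) := by
  have hff' : f ≠ f' := ne_of_val_lt (by omega)
  obtain ⟨u, hu, h, hh', m, hfm, p, hp, rfl⟩ := s.G_sub_Cell h3 g hg
  -- the action
  have e1 : p • (Pi.single f 1 : Fin n → K) = Pi.single f 1 := ha.P_fix 1 p hp
  have e2 : om x f m • (Pi.single f 1 : Fin n → K) = Pi.single m 1 := by
    by_cases hmf : m = f
    · subst hmf; rw [om_self, one_smul]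
    · rw [om_ne hmf, ha.ww_single_snd hmf one_ne_zero, one_mul]
  obtain ⟨l, hl, e3⟩ := ha.H_Di h hh' m
  have e4 : (u * h * om x f m * p) • (Pi.single f 1 : Fin n → K) =
      u • (Pi.single m (l * 1) : Fin n → K) := by
    rw [mul_smul, mul_smul, mul_smul, e1, e2, e3]
  rw [e4, mul_one] at hfix
  have hT : Top m (Pi.single m l : Fin n → K) := by
    refine ⟨by rw [Pi.single_apply, if_pos rfl]; exact hl, fun k hk => ?_⟩
    rw [Pi.single_apply, if_neg (ne_of_val_gt hk)]
  have hT2 := ha.U_Top s u hu _ hT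
  rw [hfix] at hT2
  have hmf : m = f := by
    by_contra hne
    apply hT2.1
    rw [Pi.single_apply, if_neg hne]
  subst hmf
  rw [om_self, mul_one]
  -- now `u • single m l = single m 1`, and `u` fixes multiples of `e_m`
  have e5 : u • (Pi.single m l : Fin n → K) = Pi.single m l := ha.P_fix l u (GenU_le_P hu)
  rw [e5] at hfix
  have hl1 : l = 1 := by
    have := congrFun hfix m
    rwa [Pi.single_apply, Pi.single_apply, if_pos rfl, if_pos rfl] at this
  -- structure of `h`
  obtain ⟨t, ht, h', hh'', rfl⟩ := s.H_decomp h3 hf' h hh'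
  have e6 : h' • (Pi.single m 1 : Fin n → K) = Pi.single m 1 := ha.P_fix 1 h' (Hgt_le_P hh'')
  have e7 := e3 1
  rw [mul_smul, e6, ha.hh_single hff' ht, hl1] at e7
  have ht1 : t = 1 := by
    have := congrFun e7 m
    rwa [Pi.single_apply, Pi.single_apply, if_pos rfl, if_pos rfl, mul_one, mul_one] at this
  rw [ht1, s.hh_one h3 hff', one_mul]
  exact mul_mem (mul_mem (GenU_le_P hu) (Hgt_le_P hh'')) hp

end

end Cfsg.Agent.H16SN
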