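import Mathlib
import Cfsg.Agent.H16SN9

set_option autoImplicit false

namespace Cfsg.Agent.H16SN

open Cfsg.Agent.H16ST

variable {K : Type*} [Field K] {n : ℕ} {Γ : Type*} [Group Γ]
variable {x : Fin n → Fin n → K → Γ}

section
variable (s : StN x)
include s

/-- `G_{>f}` normalizes the row group -/
lemma StN.Ggt_conj_A {f : Fin n} {γ : Γ} (hγ : γ ∈ Subgroup.closure (GenGgt x f)) :
    ∀ a ∈ Subgroup.closure (GenA x f n), MulAut.conj γ a ∈ Subgroup.closure (GenA x f n) := by
  have gen : ∀ c d : Fin n, f.val < c.val → f.val < d.val → c ≠ d → ∀ u : K,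
      ∀ a ∈ Subgroup.closure (GenA x f n),
        MulAut.conj (x c d u) a ∈ Subgroup.closure (GenA x f n) := by
    intro c d hc hd hcd u
    apply conj_mem_closure
    rintro g ⟨b, t, hb, hbn, rfl⟩
    have hfb : f ≠ b := ne_of_val_lt hb
    by_cases hcb : c = b
    · subst hcb
      have hfd : f ≠ d := ne_of_val_lt hd
      rw [s.c_chev' hfb hcd hfd]
      exact mul_mem (Subgroup.subset_closure ⟨d, _, hd, d.isLt, rfl⟩)
        (Subgroup.subset_closure ⟨c, _, hb, hbn, rfl⟩)
    · rw [s.c_comm hcd hfb hcb (ne_of_val_gt hd)]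
      exact Subgroup.subset_closure ⟨b, _, hb, hbn, rfl⟩
  induction hγ using Subgroup.closure_induction'' with
  | mem g hg =>
    obtain ⟨c, d, u, hc, hd, hcd, rfl⟩ := hg
    exact gen c d hc hd hcd u
  | inv_mem g hg =>
    obtain ⟨c, d, u, hc, hd, hcd, rfl⟩ := hg
    rw [← s.neg hcd]
    exact gen c d hc hd hcd (-u)
  | one => intro a ha; rwa [map_one, MulAut.one_apply]
  | mul a b _ _ iha ihb =>
    intro c hc
    rw [map_mul, MulAut.mul_apply]
    exact iha _ (ihb c hc)

/-- `P_f = A_f G_{>f}` -/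
lemma StN.P_decomp {f : Fin n} : ∀ p ∈ Subgroup.closure (GenP x f),
    ∃ a ∈ Subgroup.closure (GenA x f n), ∃ g' ∈ Subgroup.closure (GenGgt x f), p = a * g' := by
  intro p hp
  induction hp using Subgroup.closure_induction with
  | mem g hg =>
    obtain ⟨a, b, t, h1, h2, hab, rfl⟩ := hg
    by_cases haf : a = f
    · subst haf
      exact ⟨x a b t, Subgroup.subset_closure ⟨b, t, h2, b.isLt, rfl⟩, 1, one_mem _,
        (mul_one _).symm⟩
    · have : a.val ≠ f.val := fun e => haf (Fin.ext e)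
      exact ⟨1, one_mem _, x a b t,
        Subgroup.subset_closure ⟨a, b, t, by omega, h2, hab, rfl⟩, (one_mul _).symm⟩
  | one => exact ⟨1, one_mem _, 1, one_mem _, (mul_one _).symm⟩
  | mul p q _ _ ihp ihq =>
    obtain ⟨a1, ha1, g1, hg1, rfl⟩ := ihp
    obtain ⟨a2, ha2, g2, hg2, rfl⟩ := ihq
    refine ⟨a1 * MulAut.conj g1 a2, mul_mem ha1 (s.Ggt_conj_A hg1 a2 ha2), g1 * g2,
      mul_mem hg1 hg2, ?_⟩
    rw [MulAut.conj_apply]; group
  | inv p _ ihp =>
    obtain ⟨a1, ha1, g1, hg1, rfl⟩ := ihp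
    refine ⟨MulAut.conj g1⁻¹ a1⁻¹, s.Ggt_conj_A (inv_mem hg1) _ (inv_mem ha1), g1⁻¹,
      inv_mem hg1, ?_⟩
    rw [MulAut.conj_apply]; group

/-- the generators of the row group commute with the whole row group -/
lemma StN.A_commute {f b : Fin n} (hb : f.val < b.val) (t : K) :
    ∀ a ∈ Subgroup.closure (GenA x f n), Commute (x f b t) a := by
  intro a ha
  have : Subgroup.closure (GenA x f n) ≤ Subgroup.centralizer {x f b t} := by
    rw [Subgroup.closure_le]
    rintro g ⟨b', t', hb', _, rfl⟩ y hy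
    rw [Set.mem_singleton_iff] at hy
    subst hy
    exact s.comm f b f b' (ne_of_val_lt hb) (ne_of_val_lt hb') (ne_of_val_lt hb')
      (ne_of_val_gt hb) t t'
  have h := this ha
  rw [Subgroup.mem_centralizer_iff] at h
  exact h _ rfl

lemma GenA_mono {f : Fin n} {k k' : ℕ} (h : k ≤ k') :
    Subgroup.closure (GenA x f k) ≤ Subgroup.closure (GenA x f k') := by
  apply Subgroup.closure_mono
  rintro g ⟨b, t, h1, h2, rfl⟩
  exact ⟨b, t, h1, by omega, rfl⟩

/-- peeling off the last coordinate -/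
lemma StN.A_peel {f b₀ : Fin n} (hb₀ : f.val < b₀.val) :
    ∀ a ∈ Subgroup.closure (GenA x f (b₀.val + 1)),
      ∃ a' ∈ Subgroup.closure (GenA x f b₀.val), ∃ t : K, a = a' * x f b₀ t := by
  have hfb : f ≠ b₀ := ne_of_val_lt hb₀
  have hle : b₀.val ≤ n := b₀.isLt.le
  intro a ha
  induction ha using Subgroup.closure_induction with
  | mem g hg =>
    obtain ⟨b, t, h1, h2, rfl⟩ := hg
    by_cases hbb : b = b₀
    · subst hbb
      exact ⟨1, one_mem _, t, (one_mul _).symm⟩
    · have : b.val ≠ b₀.val := fun e => hbb (Fin.ext e)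
      exact ⟨x f b t, Subgroup.subset_closure ⟨b, t, h1, by omega, rfl⟩, 0, by
        rw [s.zero hfb, mul_one]⟩
  | one => exact ⟨1, one_mem _, 0, by rw [s.zero hfb, mul_one]⟩
  | mul p q _ _ ihp ihq =>
    obtain ⟨a1, ha1, t1, rfl⟩ := ihp
    obtain ⟨a2, ha2, t2, rfl⟩ := ihq
    refine ⟨a1 * a2, mul_mem ha1 ha2, t1 + t2, ?_⟩
    have hc := (s.A_commute hb₀ t1 a2 (GenA_mono s hle ha2)).eq
    rw [← s.add f b₀ hfb]
    calc a1 * x f b₀ t1 * (a2 * x f b₀ t2) = a1 * (x f b₀ t1 * a2) * x f b₀ t2 := by group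
      _ = a1 * (a2 * x f b₀ t1) * x f b₀ t2 := by rw [hc]
      _ = _ := by group
  | inv p _ ihp =>
    obtain ⟨a1, ha1, t1, rfl⟩ := ihp
    refine ⟨a1⁻¹, inv_mem ha1, -t1, ?_⟩
    have hc := (s.A_commute hb₀ (-t1) a1⁻¹ (GenA_mono s hle (inv_mem ha1))).eq
    rw [mul_inv_rev, ← s.neg hfb, hc]

variable [MulAction Γ (Fin n → K)]

omit s in
lemma Act.A_fix (ha : Act x) {f : Fin n} {k : ℕ} (v : Fin n → K)
    (hv : ∀ b : Fin n, f.val < b.val → b.val < k → v b = 0) :
    ∀ a ∈ Subgroup.closure (GenA x f k), a • v = v := by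
  intro a haa
  have : Subgroup.closure (GenA x f k) ≤ MulAction.stabilizer Γ v := by
    rw [Subgroup.closure_le]
    rintro g ⟨b, t, h1, h2, rfl⟩
    apply MulAction.mem_stabilizer_iff.mpr
    rw [ha f b (ne_of_val_lt h1), hv b h1 h2, mul_zero, add_zero, Function.update_eq_self]
  exact this haa

/-- faithfulness of the row group -/
lemma StN.A_faithful (ha : Act x) {f : Fin n} : ∀ k : ℕ, k ≤ n →
    ∀ a ∈ Subgroup.closure (GenA x f k),
      (∀ b : Fin n, f.val < b.val → (a • (Pi.single b 1 : Fin n → K)) f = 0) → a = 1 := by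
  intro k
  induction k with
  | zero =>
    intro _ a haa _
    have : GenA x f 0 = ∅ := by
      ext g; constructor
      · rintro ⟨b, t, _, h2, _⟩; omega
      · intro h; exact h.elim
    rw [this, Subgroup.closure_empty] at haa
    exact haa
  | succ k ih =>
    intro hk a haa hyp
    by_cases hex : f.val < k
    · let b₀ : Fin n := ⟨k, by omega⟩
      have hb₀ : f.val < b₀.val := hex
      obtain ⟨a', ha', t, rfl⟩ := s.A_peel hb₀ a haa
      have hfb : f ≠ b₀ := ne_of_val_lt hb₀
      have h1 := hyp b₀ hb₀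
      rw [mul_smul, ha.x_single_eq hfb] at h1
      have hfix : a' • (Function.update (Pi.single b₀ (1 : K)) f (t * 1) : Fin n → K) =
          Function.update (Pi.single b₀ (1 : K)) f (t * 1) := by
        apply ha.A_fix _ _ a' ha'
        intro b hb1 hb2
        have hbf : b ≠ f := ne_of_val_gt hb1
        have hbb : b ≠ b₀ := ne_of_val_lt hb2
        rw [Function.update_of_ne hbf, Pi.single_apply, if_neg hbb]
      rw [hfix, Function.update_self, mul_one] at h1
      subst h1
      rw [s.zero hfb, mul_one] at hyp ⊢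
      exact ih (by omega) a' ha' hyp
    · apply ih (by omega) a _ hyp
      have : GenA x f (k + 1) ⊆ GenA x f k := by
        rintro g ⟨b, t, h1, h2, rfl⟩
        exact ⟨b, t, h1, by omega, rfl⟩
      exact Subgroup.closure_mono this haa

omit s in
/-- `G_{>f}` does not change the `f`-th coordinate -/
lemma Act.Ggt_coord (ha : Act x) {f : Fin n} :
    ∀ g ∈ Subgroup.closure (GenGgt x f), ∀ v : Fin n → K, (g • v) f = v f := by
  intro g hg
  induction hg using Subgroup.closure_induction with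
  | mem g hg =>
    obtain ⟨a, b, t, h1, _, hab, rfl⟩ := hg
    intro v
    rw [ha a b hab, Function.update_of_ne (ne_of_val_lt h1)]
  | one => intro v; rw [one_smul]
  | mul a b _ _ iha ihb => intro v; rw [mul_smul, iha, ihb]
  | inv a _ iha =>
    intro v
    have := iha (a⁻¹ • v)
    rw [smul_inv_smul] at this
    exact this.symm

/-- the inductive step: faithfulness passes from `G_{>f}` to `P_f` -/
lemma StN.P_faithful (ha : Act x) {f : Fin n}
    (ih : ∀ g' ∈ Subgroup.closure (GenGgt x f), (∀ v : Fin n → K, g' • v = v) → g' = 1)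
    {p : Γ} (hp : p ∈ Subgroup.closure (GenP x f)) (htriv : ∀ v : Fin n → K, p • v = v) :
    p = 1 := by
  obtain ⟨a, haa, g', hg', rfl⟩ := s.P_decomp p hp
  have ha1 : a = 1 := by
    apply s.A_faithful ha n le_rfl a haa
    intro b hb
    have h1 := htriv (g'⁻¹ • (Pi.single b 1 : Fin n → K))
    rw [mul_smul, smul_inv_smul] at h1
    rw [h1, ha.Ggt_coord g'⁻¹ (inv_mem hg'), Pi.single_apply, if_neg (ne_of_val_lt hb)]
  subst ha1
  rw [one_mul] at htriv ⊢
  exact ih g' hg' htriv

end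

end Cfsg.Agent.H16SN
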