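import Mathlib
import Cfsg.Agent.H16SN10

set_option autoImplicit false

namespace Cfsg.Agent.H16SN

open Cfsg.Agent.H16ST

variable {K : Type*} [Field K] {n : ℕ} {Γ : Type*} [Group Γ]
variable {x : Fin n → Fin n → K → Γ}

/-- faithfulness of the action on the subgroup on indices `≥ f` -/
theorem StN.faithful [Finite K] [MulAction Γ (Fin n → K)] (s : StN x) (h3 : Third (Fin n))
    (ha : Act x) : ∀ d : ℕ, ∀ f : Fin n, f.val + d + 1 = n →
    ∀ g ∈ Subgroup.closure (GenG x f), (∀ v : Fin n → K, g • v = v) → g = 1 := by
  intro d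
  induction d with
  | zero =>
    intro f hf g hg _
    have : GenG x f = ∅ := by
      ext g; constructor
      · rintro ⟨a, b, t, h1, h2, hab, _⟩
        have := a.isLt
        have := b.isLt
        exact (hab (Fin.ext (by omega))).elim
      · intro h; exact h.elim
    rw [this, Subgroup.closure_empty] at hg
    exact hg
  | succ d ih =>
    intro f hf g hg htriv
    let f' : Fin n := ⟨f.val + 1, by omega⟩
    have hf' : f'.val = f.val + 1 := rfl
    have hset : GenGgt x f = GenG x f' := by
      ext g; constructor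
      · rintro ⟨a, b, t, h1, h2, hab, rfl⟩
        exact ⟨a, b, t, h1, h2, hab, rfl⟩
      · rintro ⟨a, b, t, h1, h2, hab, rfl⟩
        exact ⟨a, b, t, h1, h2, hab, rfl⟩
    have ih' : ∀ g' ∈ Subgroup.closure (GenGgt x f), (∀ v : Fin n → K, g' • v = v) → g' = 1 := by
      rw [hset]
      exact ih f' (by show f.val + 1 + d + 1 = n; omega)
    have hP := s.stab_le_P h3 ha hf' hg (htriv _)
    exact s.P_faithful ha ih' hP htriv

end Cfsg.Agent.H16SN
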