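import Mathlib
import Cfsg.Agent.H16SN11
import Cfsg.Agent.Lib_helper2_SLn

set_option autoImplicit false

namespace Cfsg.Agent.H16SN

open Cfsg.Agent.H16ST Matrix

variable {K : Type*} [Field K] {n : ℕ}

/-- the relators of the Steinberg presentation -/
def relsN (K : Type*) [Field K] (n : ℕ) :
    Set (FreeGroup ({ij : Fin n × Fin n // ij.1 ≠ ij.2} × K)) :=
  {g : FreeGroup ({ij : Fin n × Fin n // ij.1 ≠ ij.2} × K) | ∃ (a : {ij : Fin n × Fin n // ij.1 ≠ ij.2}) (t u : K),
            g = FreeGroup.of (a, t) * FreeGroup.of (a, u) * (FreeGroup.of (a, t + u))⁻¹} ∪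
          {g | ∃ (a b : {ij : Fin n × Fin n // ij.1 ≠ ij.2}) (t u : K), a.1.1 ≠ b.1.2 ∧ a.1.2 ≠ b.1.1 ∧
            g = FreeGroup.of (a, t) * FreeGroup.of (b, u) * (FreeGroup.of (a, t))⁻¹ * (FreeGroup.of (b, u))⁻¹} ∪
          {g | ∃ (a b : {ij : Fin n × Fin n // ij.1 ≠ ij.2}) (h : a.1.1 ≠ b.1.2) (t u : K), a.1.2 = b.1.1 ∧
            g = FreeGroup.of (a, t) * FreeGroup.of (b, u) * (FreeGroup.of (a, t))⁻¹ * (FreeGroup.of (b, u))⁻¹ *
              (FreeGroup.of (⟨(a.1.1, b.1.2), h⟩, t * u))⁻¹}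

/-- the generators as a total function -/
noncomputable def xs (a b : Fin n) (t : K) : PresentedGroup (relsN K n) :=
  if h : a ≠ b then PresentedGroup.of (⟨(a, b), h⟩, t) else 1

lemma xs_of {a b : Fin n} (h : a ≠ b) (t : K) :
    xs a b t = (PresentedGroup.of (⟨(a, b), h⟩, t) : PresentedGroup (relsN K n)) := dif_pos h

lemma stN_xs : StN (xs (K := K) (n := n)) where
  add i j hij t u := by
    rw [xs_of hij, xs_of hij, xs_of hij]
    have hm : FreeGroup.of ((⟨(i, j), hij⟩ : {ij : Fin n × Fin n // ij.1 ≠ ij.2}), t) *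
        FreeGroup.of (⟨(i, j), hij⟩, u) * (FreeGroup.of (⟨(i, j), hij⟩, t + u))⁻¹ ∈ relsN K n :=
      Or.inl (Or.inl ⟨⟨(i, j), hij⟩, t, u, rfl⟩)
    have h := PresentedGroup.one_of_mem hm
    rw [map_mul, map_mul, map_inv] at h
    exact mul_inv_eq_one.mp h
  comm i j k l hij hkl hil hjk t u := by
    rw [xs_of hij, xs_of hkl]
    have hm : FreeGroup.of ((⟨(i, j), hij⟩ : {ij : Fin n × Fin n // ij.1 ≠ ij.2}), t) *
        FreeGroup.of (⟨(k, l), hkl⟩, u) * (FreeGroup.of (⟨(i, j), hij⟩, t))⁻¹ *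
        (FreeGroup.of (⟨(k, l), hkl⟩, u))⁻¹ ∈ relsN K n :=
      Or.inl (Or.inr ⟨⟨(i, j), hij⟩, ⟨(k, l), hkl⟩, t, u, hil, hjk, rfl⟩)
    have h := PresentedGroup.one_of_mem hm
    simp only [map_mul, map_inv] at h
    have h2 := mul_inv_eq_one.mp h
    exact mul_inv_eq_iff_eq_mul.mp h2
  chev i j l hij hjl hil t u := by
    rw [xs_of hij, xs_of hjl, xs_of hil]
    have hm : FreeGroup.of ((⟨(i, j), hij⟩ : {ij : Fin n × Fin n // ij.1 ≠ ij.2}), t) *
        FreeGroup.of (⟨(j, l), hjl⟩, u) * (FreeGroup.of (⟨(i, j), hij⟩, t))⁻¹ *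
        (FreeGroup.of (⟨(j, l), hjl⟩, u))⁻¹ * (FreeGroup.of (⟨(i, l), hil⟩, t * u))⁻¹ ∈
        relsN K n :=
      Or.inr ⟨⟨(i, j), hij⟩, ⟨(j, l), hjl⟩, hil, t, u, rfl, rfl⟩
    have h := PresentedGroup.one_of_mem hm
    simp only [map_mul, map_inv] at h
    exact mul_inv_eq_one.mp h

/-- matrix identities -/
lemma tv_add {i j : Fin n} (hij : i ≠ j) (t u : K) :
    SpecialLinearGroup.transvection hij t * SpecialLinearGroup.transvection hij u =
      SpecialLinearGroup.transvection hij (t + u) :=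
  Subtype.ext (Matrix.transvection_mul_transvection_same _ _ hij t u)

lemma tv_comm {i j k l : Fin n} (hij : i ≠ j) (hkl : k ≠ l) (hil : i ≠ l) (hjk : j ≠ k)
    (t u : K) :
    SpecialLinearGroup.transvection hij t * SpecialLinearGroup.transvection hkl u =
      SpecialLinearGroup.transvection hkl u * SpecialLinearGroup.transvection hij t := by
  apply Subtype.ext
  show Matrix.transvection i j t * Matrix.transvection k l u =
    Matrix.transvection k l u * Matrix.transvection i j t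
  simp only [Matrix.transvection, mul_add, add_mul, mul_one, one_mul,
    Matrix.single_mul_single_of_ne _ _ _ _ hjk, Matrix.single_mul_single_of_ne _ _ _ _ hil.symm]
  abel

lemma tv_chev {i j l : Fin n} (hij : i ≠ j) (hjl : j ≠ l) (hil : i ≠ l) (t u : K) :
    SpecialLinearGroup.transvection hij t * SpecialLinearGroup.transvection hjl u *
      (SpecialLinearGroup.transvection hij t)⁻¹ * (SpecialLinearGroup.transvection hjl u)⁻¹ =
      SpecialLinearGroup.transvection hil (t * u) := by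
  rw [SpecialLinearGroup.transvection_inv, SpecialLinearGroup.transvection_inv]
  apply Subtype.ext
  show Matrix.transvection i j t * Matrix.transvection j l u * Matrix.transvection i j (-t) *
    Matrix.transvection j l (-u) = Matrix.transvection i l (t * u)
  simp only [Matrix.transvection, mul_add, add_mul, mul_one, one_mul,
    Matrix.single_mul_single_same, Matrix.single_mul_single_of_ne _ _ _ _ hij.symm,
    Matrix.single_mul_single_of_ne _ _ _ _ hjl.symm,
    Matrix.single_mul_single_of_ne _ _ _ _ hil.symm, add_zero, mul_neg]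
  simp only [helper2.single_eq_smul _ _ t, helper2.single_eq_smul _ _ u,
    helper2.single_eq_smul _ _ (-t), helper2.single_eq_smul _ _ (-u),
    helper2.single_eq_smul _ _ (t * u), helper2.single_eq_smul _ _ (-(t * u)),
    helper2.single_eq_smul _ _ (-(-t * u))]
  module

end Cfsg.Agent.H16SN
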