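import Mathlib
import Cfsg.Agent.H16SN12

set_option autoImplicit false

namespace Cfsg.Agent.H16SN

open Cfsg.Agent.H16ST Matrix

variable {K : Type*} [Field K] {n : ℕ}

/-- the images of the generators -/
noncomputable def genN (p : {ij : Fin n × Fin n // ij.1 ≠ ij.2} × K) :
    SpecialLinearGroup (Fin n) K :=
  SpecialLinearGroup.transvection p.1.2 p.2

lemma genN_rels : ∀ r ∈ relsN K n, FreeGroup.lift (genN (K := K) (n := n)) r = 1 := by
  intro r hr
  rcases hr with (hr | hr) | hr
  · obtain ⟨a, t, u, rfl⟩ := hr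
    simp only [map_mul, map_inv, FreeGroup.lift_apply_of]
    rw [mul_inv_eq_one]
    exact tv_add a.2 t u
  · obtain ⟨a, b, t, u, h1, h2, rfl⟩ := hr
    simp only [map_mul, map_inv, FreeGroup.lift_apply_of]
    rw [mul_inv_eq_one, mul_inv_eq_iff_eq_mul]
    exact tv_comm a.2 b.2 h1 h2 t u
  · obtain ⟨⟨⟨i, j⟩, hij⟩, ⟨⟨j', l⟩, hjl⟩, h, t, u, hEq, rfl⟩ := hr
    simp only at hEq
    subst hEq
    simp only [map_mul, map_inv, FreeGroup.lift_apply_of]
    rw [mul_inv_eq_one]
    exact tv_chev hij hjl h t u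

/-- the homomorphism to `SL_n` -/
noncomputable def phiN : PresentedGroup (relsN K n) →* SpecialLinearGroup (Fin n) K :=
  PresentedGroup.toGroup genN_rels

lemma phiN_of (a : {ij : Fin n × Fin n // ij.1 ≠ ij.2}) (t : K) :
    phiN (PresentedGroup.of (a, t)) = SpecialLinearGroup.transvection a.2 t :=
  PresentedGroup.toGroup.of genN_rels

lemma phiN_xs {a b : Fin n} (h : a ≠ b) (t : K) :
    phiN (xs a b t) = SpecialLinearGroup.transvection h t := by
  rw [xs_of h, phiN_of]

lemma tv_smul {i j : Fin n} (hij : i ≠ j) (t : K) (v : Fin n → K) :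
    SpecialLinearGroup.transvection hij t • v = Function.update v i (v i + t * v j) := by
  show (Matrix.transvection i j t) *ᵥ v = _
  rw [Matrix.transvection, Matrix.add_mulVec, Matrix.one_mulVec, Matrix.single_mulVec]
  funext k
  by_cases hk : k = i
  · subst hk
    simp
  · simp [Function.update_of_ne hk]

/-- the action of the presented group on vectors through `phiN` -/
noncomputable def actN : MulAction (PresentedGroup (relsN K n)) (Fin n → K) :=
  MulAction.compHom _ (phiN (K := K) (n := n))

lemma actN_smul (g : PresentedGroup (relsN K n)) (v : Fin n → K) :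
    (actN.toSMul.smul g v) = phiN g • v := rfl

lemma act_xs : letI : MulAction (PresentedGroup (relsN K n)) (Fin n → K) := actN
    Act (xs (K := K) (n := n)) := by
  intro i j hij t v
  show phiN (xs i j t) • v = _
  rw [phiN_xs hij, tv_smul]

lemma closure_GenG_top (hn : 0 < n) :
    Subgroup.closure (GenG (xs (K := K) (n := n)) ⟨0, hn⟩) = ⊤ := by
  rw [eq_top_iff, ← PresentedGroup.closure_range_of, Subgroup.closure_le]
  rintro _ ⟨⟨⟨⟨a, b⟩, hab⟩, t⟩, rfl⟩
  apply Subgroup.subset_closure
  exact ⟨a, b, t, Nat.zero_le _, Nat.zero_le _, hab, (xs_of hab t).symm⟩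

lemma phiN_inj [Finite K] (hn : 3 ≤ n) : Function.Injective (phiN (K := K) (n := n)) := by
  rw [injective_iff_map_eq_one]
  intro g hg
  have hn0 : 0 < n := by omega
  letI : MulAction (PresentedGroup (relsN K n)) (Fin n → K) := actN
  refine stN_xs.faithful (Fin_third hn) act_xs (n - 1) ⟨0, hn0⟩ (by simp; omega) g ?_ ?_
  · rw [closure_GenG_top hn0]; exact Subgroup.mem_top _
  · intro v
    show phiN g • v = v
    rw [hg, one_smul]

lemma phiN_surj (hn : 3 ≤ n) : Function.Surjective (phiN (K := K) (n := n)) := by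
  haveI : Nontrivial (Fin n) := Fin.nontrivial_iff_two_le.mpr (by omega)
  intro A
  have : A ∈ (phiN (K := K) (n := n)).range := by
    refine helper2.transvection_induction (P := fun A => A ∈ (phiN (K := K) (n := n)).range)
      ?_ ?_ A
    · intro i j hij c
      exact ⟨xs i j c, phiN_xs hij c⟩
    · intro A B hA hB
      exact Subgroup.mul_mem _ hA hB
  exact this

theorem main [Finite K] (n : ℕ) (hn : 3 ≤ n) :
    ∃ e : PresentedGroup (relsN K n) ≃* Matrix.SpecialLinearGroup (Fin n) K,
      ∀ (a : {ij : Fin n × Fin n // ij.1 ≠ ij.2}) (t : K),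
        ((e (PresentedGroup.of (a, t)) : Matrix (Fin n) (Fin n) K)) =
          Matrix.transvection a.1.1 a.1.2 t := by
  refine ⟨MulEquiv.ofBijective phiN ⟨phiN_inj hn, phiN_surj hn⟩, fun a t => ?_⟩
  show ((phiN (PresentedGroup.of (a, t)) : SpecialLinearGroup (Fin n) K) :
    Matrix (Fin n) (Fin n) K) = _
  rw [phiN_of]
  rfl

end Cfsg.Agent.H16SN
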