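import Mathlib
import Cfsg.Agent.H16SM1

set_option autoImplicit false

namespace Cfsg.Agent.H16SX

open Cfsg.Agent.H16SM

variable {G Γ : Type*} [Group G] [Group Γ]

/-- a central extension -/
structure CExt (π : Γ →* G) : Prop where
  surj : Function.Surjective π
  central : π.ker ≤ Subgroup.center Γ

variable {π : Γ →* G}

lemma CExt.mem_center (h : CExt π) {z : Γ} (hz : π z = 1) : z ∈ Subgroup.center Γ :=
  h.central (MonoidHom.mem_ker.mpr hz)

lemma map_cm (π : Γ →* G) (a b : Γ) : π (cm a b) = cm (π a) (π b) := by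
  unfold cm; simp only [map_mul, map_inv]

lemma cm_inv (a b : Γ) : (cm a b)⁻¹ = cm b a := by unfold cm; group

/-- commutators only depend on the images -/
lemma CExt.cw (h : CExt π) {u u' v v' : Γ} (hu : π u = π u') (hv : π v = π v') :
    cm u v = cm u' v' := by
  have h1 : u'⁻¹ * u ∈ Subgroup.center Γ :=
    h.mem_center (by rw [map_mul, map_inv, hu, inv_mul_cancel])
  have h2 : v'⁻¹ * v ∈ Subgroup.center Γ :=
    h.mem_center (by rw [map_mul, map_inv, hv, inv_mul_cancel])
  have e1 : u = u' * (u'⁻¹ * u) := by group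
  have e2 : v = v' * (v'⁻¹ * v) := by group
  rw [e1, e2, cm_central_left _ _ _ h1, cm_central_right _ _ _ h2]

lemma CExt.cm_center (h : CExt π) {u v : Γ} (hc : π u * π v = π v * π u) :
    cm u v ∈ Subgroup.center Γ := by
  apply h.mem_center
  rw [map_cm, cm_eq_one_iff]; exact hc

/-- Milnor's trick -/
lemma CExt.milnor (h : CExt π) {w u v x : Γ} (hu : π w * π u = π u * π w)
    (hv : π w * π v = π v * π w) (hx : π x = cm (π u) (π v)) : w * x = x * w := by
  have hz : (cm u v)⁻¹ * x ∈ Subgroup.center Γ :=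
    h.mem_center (by rw [map_mul, map_inv, map_cm, hx, inv_mul_cancel])
  have hzc := Subgroup.mem_center_iff.mp hz
  have hcw : w * cm u v * w⁻¹ = cm u v := by
    have : w * cm u v * w⁻¹ = cm (w * u * w⁻¹) (w * v * w⁻¹) := by unfold cm; group
    rw [this]
    apply h.cw
    · rw [map_mul, map_mul, map_inv, hu, mul_inv_cancel_right]
    · rw [map_mul, map_mul, map_inv, hv, mul_inv_cancel_right]
  have hcw' : w * cm u v = cm u v * w := by
    calc w * cm u v = (w * cm u v * w⁻¹) * w := by group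
      _ = cm u v * w := by rw [hcw]
  calc w * x = w * cm u v * ((cm u v)⁻¹ * x) := by group
    _ = cm u v * (w * ((cm u v)⁻¹ * x)) := by rw [hcw', mul_assoc]
    _ = cm u v * (((cm u v)⁻¹ * x) * w) := by rw [hzc w]
    _ = x * w := by group

/-- invariance of central commutators under conjugation -/
lemma CExt.ci (h : CExt π) {x y x' y' : Γ} (g : G) (hc : π x * π y = π y * π x)
    (hx : π x' = g * π x * g⁻¹) (hy : π y' = g * π y * g⁻¹) : cm x' y' = cm x y := by
  obtain ⟨γ, rfl⟩ := h.surj g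
  rw [← cm_conj γ x y (h.cm_center hc)]
  apply h.cw
  · rw [hx]; simp only [map_mul, map_inv]
  · rw [hy]; simp only [map_mul, map_inv]

/-- an additive map to a group which is invariant under a nontrivial scaling is trivial -/
lemma add_inv_trivial {K : Type*} [Field K] (z : K → Γ) (hadd : ∀ u u', z (u + u') = z u * z u')
    (b : K) (hb : b ≠ 1) (hinv : ∀ u, z (b * u) = z u) (u : K) : z u = 1 := by
  have hzero : z 0 = 1 := by
    have := hadd 0 0
    rw [add_zero] at this
    exact mul_eq_left.mp this.symm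
  have hneg : ∀ t, z (-t) = (z t)⁻¹ := by
    intro t
    have := hadd t (-t)
    rw [add_neg_cancel, hzero] at this
    exact eq_inv_of_mul_eq_one_right this.symm
  have hkey : ∀ t, z ((b - 1) * t) = 1 := by
    intro t
    have e : (b - 1) * t = b * t + -t := by ring
    rw [e, hadd, hinv, hneg, mul_inv_cancel]
  have hb1 : b - 1 ≠ 0 := sub_ne_zero.mpr hb
  have := hkey ((b - 1)⁻¹ * u)
  rwa [← mul_assoc, mul_inv_cancel₀ hb1, one_mul] at this

/-- a pure group identity of Hall--Witt type -/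
lemma hall_witt (U V W : Γ) (h1 : U * W = W * U)
    (h2 : cm U V * cm V W = cm V W * cm U V)
    (h3 : cm V W * cm (cm U V) W = cm (cm U V) W * cm V W) :
    cm U (cm V W) = cm (cm U V) W := by
  have hUW : U * W * U⁻¹ = W := by rw [h1]; group
  have hUW' : U * W⁻¹ * U⁻¹ = W⁻¹ := by
    calc U * W⁻¹ * U⁻¹ = (U * W * U⁻¹)⁻¹ := by group
      _ = W⁻¹ := by rw [hUW]
  have hA : U * cm V W * U⁻¹ = cm V W * cm (cm U V) W := by
    calc U * cm V W * U⁻¹
        = (U * V * U⁻¹) * (U * W * U⁻¹) * (U * V⁻¹ * U⁻¹) * (U * W⁻¹ * U⁻¹) := by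
          unfold cm; group
      _ = (U * V * U⁻¹) * W * (U * V⁻¹ * U⁻¹) * W⁻¹ := by rw [hUW, hUW']
      _ = (cm U V * cm V W) * W * (cm U V)⁻¹ * W⁻¹ := by unfold cm; group
      _ = (cm V W * cm U V) * W * (cm U V)⁻¹ * W⁻¹ := by rw [h2]
      _ = cm V W * cm (cm U V) W := by unfold cm; group
  calc cm U (cm V W) = (U * cm V W * U⁻¹) * (cm V W)⁻¹ := by unfold cm; group
    _ = cm V W * cm (cm U V) W * (cm V W)⁻¹ := by rw [hA]
    _ = cm (cm U V) W * cm V W * (cm V W)⁻¹ := by rw [h3]
    _ = cm (cm U V) W := by group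

lemma cm_mul_right' (a b c : Γ) (h : b * cm a c = cm a c * b) :
    cm a (b * c) = cm a b * cm a c := by
  calc cm a (b * c) = cm a b * (b * cm a c) * b⁻¹ := by unfold cm; group
    _ = cm a b * (cm a c * b) * b⁻¹ := by rw [h]
    _ = cm a b * cm a c := by group

end Cfsg.Agent.H16SX
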