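import Mathlib
import Cfsg.Agent.H16SX1
import Cfsg.Agent.H16SN2

set_option autoImplicit false

namespace Cfsg.Agent.H16SX

open Cfsg.Agent.H16SM Cfsg.Agent.H16SN

variable {K : Type*} [Field K] {I : Type*} {G Γ : Type*} [Group G] [Group Γ]
  {π : Γ →* G} {x : I → I → K → G}

/-- lifts of commuting root elements commute -/
def LL (π : Γ →* G) (x : I → I → K → G) (i j k l : I) : Prop :=
  ∀ (t u : K) (a b : Γ), π a = x i j t → π b = x k l u → a * b = b * a

lemma StN.cm_chev (s : StN x) {i j l : I} (hij : i ≠ j) (hjl : j ≠ l) (hil : i ≠ l) (t u : K) :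
    cm (x i j t) (x j l u) = x i l (t * u) := s.chev i j l hij hjl hil t u

/-- Milnor's trick gives the commutation when there is a free index -/
lemma LL_milnor (h : CExt π) (s : StN x) {i j k l m : I} (hij : i ≠ j) (hkl : k ≠ l)
    (hil : i ≠ l) (hjk : j ≠ k) (hmi : m ≠ i) (hmj : m ≠ j) (hmk : m ≠ k) (hml : m ≠ l) :
    LL π x i j k l := by
  intro t u a b ha hb
  obtain ⟨U, hU⟩ := h.surj (x i m 1)
  obtain ⟨V, hV⟩ := h.surj (x m j t)
  symm
  apply h.milnor (u := U) (v := V)
  · rw [hb, hU]; exact s.comm k l i m hkl hmi.symm hmk.symm hil.symm u 1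
  · rw [hb, hV]; exact s.comm k l m j hkl hmj hjk.symm hml.symm u t
  · rw [ha, hU, hV, StN.cm_chev s hmi.symm hmj hij, one_mul]

/-- the central pairing attached to two commuting roots -/
lemma pairing (h : CExt π) (s : StN x) {i j k l : I} (hij : i ≠ j) (hkl : k ≠ l)
    (hil : i ≠ l) (hjk : j ≠ k) :
    ∃ c : K → K → Γ, (∀ t u A B, π A = x i j t → π B = x k l u → cm A B = c t u) ∧
      (∀ t u, c t u ∈ Subgroup.center Γ) ∧
      (∀ t t' u, c (t + t') u = c t u * c t' u) ∧ (∀ t u u', c t (u + u') = c t u * c t u') := by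
  choose L hL using fun t => h.surj (x i j t)
  choose M hM using fun u => h.surj (x k l u)
  have hcomm : ∀ t u, x i j t * x k l u = x k l u * x i j t :=
    fun t u => s.comm i j k l hij hkl hil hjk t u
  have hcen : ∀ t u, cm (L t) (M u) ∈ Subgroup.center Γ := fun t u =>
    h.cm_center (by rw [hL, hM]; exact hcomm t u)
  refine ⟨fun t u => cm (L t) (M u), ?_, hcen, ?_, ?_⟩
  · intro t u A B hA hB
    exact h.cw (by rw [hA, hL]) (by rw [hB, hM])
  · intro t t' u
    have : cm (L (t + t')) (M u) = cm (L t * L t') (M u) :=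
      h.cw (by rw [map_mul, hL, hL, hL, s.add i j hij]) rfl
    show cm (L (t + t')) (M u) = _
    rw [this]
    exact cm_mul_left _ _ _ (hcen t' u)
  · intro t u u'
    have : cm (L t) (M (u + u')) = cm (L t) (M u * M u') :=
      h.cw rfl (by rw [map_mul, hM, hM, hM, s.add k l hkl])
    show cm (L t) (M (u + u')) = _
    rw [this]
    exact cm_mul_right _ _ _ (hcen t u')

/-- the torus argument -/
lemma LL_torus (h : CExt π) (s : StN x) {i j k l : I} (hij : i ≠ j) (hkl : k ≠ l)
    (hil : i ≠ l) (hjk : j ≠ k) (g : G) (a : K) (ha : a ≠ 1)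
    (h1 : ∀ t, g * x i j t * g⁻¹ = x i j (a * t))
    (h2 : ∀ u, g * x k l u * g⁻¹ = x k l u) : LL π x i j k l := by
  obtain ⟨c, hc, hcen, hl, hr⟩ := pairing h s hij hkl hil hjk
  intro t u A B hA hB
  rw [← cm_eq_one_iff, hc t u A B hA hB]
  refine add_inv_trivial (fun t => c t u) (fun t t' => hl t t' u) a ha ?_ t
  intro t'
  obtain ⟨A', hA'⟩ := h.surj (x i j t')
  obtain ⟨B', hB'⟩ := h.surj (x k l u)
  obtain ⟨A'', hA''⟩ := h.surj (x i j (a * t'))
  show c (a * t') u = c t' u
  rw [← hc t' u A' B' hA' hB', ← hc (a * t') u A'' B' hA'' hB']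
  apply h.ci g
  · rw [hA', hB']; exact s.comm i j k l hij hkl hil hjk t' u
  · rw [hA'', hA', h1]
  · rw [hB', h2]

/-- the swap argument in characteristic three over a small field -/
lemma LL_swap (h : CExt π) (s : StN x) {i j k l : I} (hij : i ≠ j) (hkl : k ≠ l)
    (hil : i ≠ l) (hjk : j ≠ k) (hik : i ≠ k) (hjl : j ≠ l) (h3 : (3 : K) = 0)
    (hK : ∀ t u : K, t = 0 ∨ u = 0 ∨ u = t ∨ u = -t) : LL π x i j k l := by
  obtain ⟨c, hc, hcen, hl, hr⟩ := pairing h s hij hkl hil hjk
  have h1 : (1 : K) ≠ 0 := one_ne_zero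
  -- the swapping element
  set g : G := ww x j l 1 * ww x i k 1 with hg
  have hg1 : ∀ t, g * x i j t * g⁻¹ = x k l t := by
    intro t
    have e1 := s.C2 hik hij hjk.symm h1 t
    have e2 := s.C3 hjl hjk hkl.symm h1 (-t)
    rw [MulAut.conj_apply] at e1 e2
    have : g * x i j t * g⁻¹ =
        ww x j l 1 * (ww x i k 1 * x i j t * (ww x i k 1)⁻¹) * (ww x j l 1)⁻¹ := by
      rw [hg]; group
    rw [this, e1]
    have e3 : -((1 : K)⁻¹ * t) = -t := by rw [inv_one, one_mul]
    rw [e3, e2]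
    congr 1
    ring
  have hg2 : ∀ u, g * x k l u * g⁻¹ = x i j u := by
    intro u
    have e1 := s.C1 hik hil hkl h1 u
    have e2 := s.C4 hjl hij.symm hil.symm h1 u
    rw [MulAut.conj_apply] at e1 e2
    have : g * x k l u * g⁻¹ =
        ww x j l 1 * (ww x i k 1 * x k l u * (ww x i k 1)⁻¹) * (ww x j l 1)⁻¹ := by
      rw [hg]; group
    rw [this, e1, one_mul, e2, inv_one, one_mul]
  -- antisymmetry
  have hanti : ∀ t u, c t u = (c u t)⁻¹ := by
    intro t u
    obtain ⟨A, hA⟩ := h.surj (x i j t)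
    obtain ⟨B, hB⟩ := h.surj (x k l u)
    obtain ⟨A', hA'⟩ := h.surj (x k l t)
    obtain ⟨B', hB'⟩ := h.surj (x i j u)
    have e : cm A' B' = cm A B := by
      apply h.ci g
      · rw [hA, hB]; exact s.comm i j k l hij hkl hil hjk t u
      · rw [hA', hA, hg1]
      · rw [hB', hB, hg2]
    rw [← hc t u A B hA hB, ← e, ← hc u t B' A' hB' hA', cm_inv]
  have hzl : ∀ u, c 0 u = 1 := by
    intro u
    have := hl 0 0 u
    rw [add_zero] at this
    exact mul_eq_left.mp this.symm
  have hzr : ∀ t, c t 0 = 1 := by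
    intro t
    have := hr t 0 0
    rw [add_zero] at this
    exact mul_eq_left.mp this.symm
  have hnr : ∀ t u, c t (-u) = (c t u)⁻¹ := by
    intro t u
    have := hr t u (-u)
    rw [add_neg_cancel, hzr] at this
    exact eq_inv_of_mul_eq_one_right this.symm
  have hdiag : ∀ t, c t t = 1 := by
    intro t
    have e2 : c t t * c t t = 1 := by
      have := hanti t t
      nth_rewrite 1 [this]
      exact inv_mul_cancel _
    have e3 : c t t * c t t * c t t = 1 := by
      have e0 : t + t + t = 0 := by linear_combination t * h3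
      rw [← hl, ← hl, e0, hzl]
    rw [e2, one_mul] at e3
    exact e3
  intro t u A B hA hB
  rw [← cm_eq_one_iff, hc t u A B hA hB]
  rcases hK t u with rfl | rfl | rfl | rfl
  · exact hzl u
  · exact hzr t
  · exact hdiag u
  · rw [hnr, hdiag, inv_one]

end Cfsg.Agent.H16SX
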