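import Mathlib
import Cfsg.Agent.H16SX2

set_option autoImplicit false

namespace Cfsg.Agent.H16SX

open Cfsg.Agent.H16SM Cfsg.Agent.H16SN

variable {K : Type*} [Field K] {I : Type*} {G Γ : Type*} [Group G] [Group Γ]
  {π : Γ →* G} {x : I → I → K → G}

/-- all commuting pairs of roots lift to commuting pairs -/
def LLall (π : Γ →* G) (x : I → I → K → G) : Prop :=
  ∀ i j k l : I, i ≠ j → k ≠ l → i ≠ l → j ≠ k → LL π x i j k l

/-- the commutator of lifts does not depend on the middle index (four distinct indices) -/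
lemma GW (h : CExt π) (s : StN x) (hLL : LLall π x) {i m j l : I} (him : i ≠ m) (hij : i ≠ j)
    (hil : i ≠ l) (hmj : m ≠ j) (hml : m ≠ l) (hjl : j ≠ l) (t u : K) (A B A' B' : Γ)
    (hA : π A = x i j t) (hB : π B = x j l u) (hA' : π A' = x i m 1)
    (hB' : π B' = x m l (t * u)) : cm A B = cm A' B' := by
  obtain ⟨V, hV⟩ := h.surj (x m j t)
  have hP : π (cm A' V) = x i j t := by
    rw [map_cm, hA', hV, StN.cm_chev s him hmj hij, one_mul]
  have hQ : π (cm V B) = x m l (t * u) := by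
    rw [map_cm, hV, hB, StN.cm_chev s hmj hjl hml]
  have hR : π (cm (cm A' V) B) = x i l (t * u) := by
    rw [map_cm, hP, hB, StN.cm_chev s hij hjl hil]
  have hw := hall_witt A' V B (hLL i m j l him hjl hil hmj 1 u A' B hA' hB)
    (hLL i j m l hij hml hil hmj.symm t (t * u) _ _ hP hQ)
    (hLL m l i l hml hil hml hil.symm (t * u) (t * u) _ _ hQ hR)
  calc cm A B = cm (cm A' V) B := h.cw (by rw [hA, hP]) rfl
    _ = cm A' (cm V B) := hw.symm
    _ = cm A' B' := h.cw rfl (by rw [hQ, hB'])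

/-- the torus argument for the commutator relation -/
lemma TG (h : CExt π) (s : StN x) (hLL : LLall π x) {i j l : I} (hij : i ≠ j)
    (hil : i ≠ l) (hjl : j ≠ l) (g : G) (b : K) (hb : b ≠ 1)
    (h1 : ∀ t, g * x i j t * g⁻¹ = x i j t)
    (h2 : ∀ u, g * x j l u * g⁻¹ = x j l (b * u))
    (t u : K) (A B A' B' : Γ)
    (hA : π A = x i j t) (hB : π B = x j l u) (hA' : π A' = x i j 1)
    (hB' : π B' = x j l (t * u)) : cm A B = cm A' B' := by
  choose M hM using fun u => h.surj (x j l u)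
  obtain ⟨γ, hγ⟩ := h.surj g
  -- the two functions
  have hg1 : ∀ v, π (cm A (M v)) = x i l (t * v) := by
    intro v; rw [map_cm, hA, hM, StN.cm_chev s hij hjl hil]
  have hg2 : ∀ v, π (cm A' (M (t * v))) = x i l (t * v) := by
    intro v; rw [map_cm, hA', hM, StN.cm_chev s hij hjl hil, one_mul]
  have hadd1 : ∀ v v', cm A (M (v + v')) = cm A (M v) * cm A (M v') := by
    intro v v'
    have e : cm A (M (v + v')) = cm A (M v * M v') :=
      h.cw rfl (by rw [map_mul, hM, hM, hM, s.add j l hjl])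
    rw [e]
    apply cm_mul_right'
    exact hLL j l i l hjl hil hjl hil.symm v (t * v') _ _ (hM v) (hg1 v')
  have hadd2 : ∀ v v', cm A' (M (t * (v + v'))) = cm A' (M (t * v)) * cm A' (M (t * v')) := by
    intro v v'
    have e : cm A' (M (t * (v + v'))) = cm A' (M (t * v) * M (t * v')) :=
      h.cw rfl (by rw [map_mul, hM, hM, hM, s.add j l hjl, mul_add])
    rw [e]
    apply cm_mul_right'
    exact hLL j l i l hjl hil hjl hil.symm (t * v) (t * v') _ _ (hM (t * v)) (hg2 v')
  set z : K → Γ := fun v => cm A (M v) * (cm A' (M (t * v)))⁻¹ with hz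
  have hzc : ∀ v, z v ∈ Subgroup.center Γ := by
    intro v
    apply h.mem_center
    rw [hz]
    simp only
    rw [map_mul, map_inv, hg1, hg2, mul_inv_cancel]
  have hzadd : ∀ v v', z (v + v') = z v * z v' := by
    intro v v'
    have hc := Subgroup.mem_center_iff.mp (hzc v')
    calc z (v + v') = cm A (M v) * (cm A (M v') * (cm A' (M (t * v')))⁻¹) *
          (cm A' (M (t * v)))⁻¹ := by
          rw [hz]; simp only; rw [hadd1, hadd2]; group
      _ = cm A (M v) * z v' * (cm A' (M (t * v)))⁻¹ := rfl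
      _ = z v' * cm A (M v) * (cm A' (M (t * v)))⁻¹ := by rw [hc]
      _ = z v' * z v := by rw [hz]; simp only; group
      _ = z v * z v' := (Subgroup.mem_center_iff.mp (hzc v') (z v)).symm
  have hzinv : ∀ v, z (b * v) = z v := by
    intro v
    have hc := Subgroup.mem_center_iff.mp (hzc v)
    have e1 : γ * cm A (M v) * γ⁻¹ = cm A (M (b * v)) := by
      have : γ * cm A (M v) * γ⁻¹ = cm (γ * A * γ⁻¹) (γ * M v * γ⁻¹) := by unfold cm; group
      rw [this]
      apply h.cw
      · rw [map_mul, map_mul, map_inv, hγ, hA, h1]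
      · rw [map_mul, map_mul, map_inv, hγ, hM, h2, hM]
    have e2 : γ * cm A' (M (t * v)) * γ⁻¹ = cm A' (M (t * (b * v))) := by
      have : γ * cm A' (M (t * v)) * γ⁻¹ = cm (γ * A' * γ⁻¹) (γ * M (t * v) * γ⁻¹) := by
        unfold cm; group
      rw [this]
      apply h.cw
      · rw [map_mul, map_mul, map_inv, hγ, hA', h1]
      · rw [map_mul, map_mul, map_inv, hγ, hM, h2, hM]
        congr 1; ring
    calc z (b * v) = (γ * cm A (M v) * γ⁻¹) * (γ * cm A' (M (t * v)) * γ⁻¹)⁻¹ := by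
          rw [e1, e2]
      _ = γ * z v * γ⁻¹ := by rw [hz]; simp only; group
      _ = z v * γ * γ⁻¹ := by rw [hc]
      _ = z v := by group
  have hz1 := add_inv_trivial z hzadd b hb hzinv u
  have hfin : cm A (M u) = cm A' (M (t * u)) := by
    have : cm A (M u) * (cm A' (M (t * u)))⁻¹ = 1 := hz1
    exact mul_inv_eq_one.mp this
  calc cm A B = cm A (M u) := h.cw rfl (by rw [hB, hM])
    _ = cm A' (M (t * u)) := hfin
    _ = cm A' B' := h.cw rfl (by rw [hM, hB'])

/-- the general commutator relation for lifts -/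
def GG (π : Γ →* G) (x : I → I → K → G) : Prop :=
  ∀ i j l m : I, i ≠ j → j ≠ l → i ≠ l → m ≠ i → m ≠ l → ∀ (t u : K) (A B A' B' : Γ),
    π A = x i j t → π B = x j l u → π A' = x i m 1 → π B' = x m l (t * u) → cm A B = cm A' B'

/-- the lifting theorem -/
theorem lift_exists (h : CExt π) (s : StN x) (h3 : Third I) (hLL : LLall π x) (hGG : GG π x) :
    ∃ y : I → I → K → Γ, StN y ∧ ∀ i j, i ≠ j → ∀ t, π (y i j t) = x i j t := by
  classical
  choose L hL using fun (p : I × I × K) => h.surj (x p.1 p.2.1 p.2.2)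
  choose aux haux using fun (p : {p : I × I // p.1 ≠ p.2}) => h3 p.1.1 p.1.2 p.2
  let y : I → I → K → Γ := fun i j t =>
    if hij : i ≠ j then cm (L (i, aux ⟨(i, j), hij⟩, 1)) (L (aux ⟨(i, j), hij⟩, j, t)) else 1
  have hy : ∀ i j (hij : i ≠ j) t,
      y i j t = cm (L (i, aux ⟨(i, j), hij⟩, 1)) (L (aux ⟨(i, j), hij⟩, j, t)) :=
    fun i j hij t => dif_pos hij
  have hπ : ∀ i j, i ≠ j → ∀ t, π (y i j t) = x i j t := by
    intro i j hij t
    obtain ⟨h1, h2⟩ := haux ⟨(i, j), hij⟩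
    rw [hy i j hij, map_cm, hL, hL]
    simp only
    rw [StN.cm_chev s h1 h2.symm hij, one_mul]
  refine ⟨y, ⟨?_, ?_, ?_⟩, hπ⟩
  · intro i j hij t u
    obtain ⟨h1, h2⟩ := haux ⟨(i, j), hij⟩
    set m := aux ⟨(i, j), hij⟩ with hm
    rw [hy i j hij, hy i j hij, hy i j hij, ← hm]
    have e : cm (L (i, m, 1)) (L (m, j, t + u)) = cm (L (i, m, 1)) (L (m, j, t) * L (m, j, u)) :=
      h.cw rfl (by rw [map_mul, hL, hL, hL]; simp only; rw [s.add m j h2.symm])
    rw [e]
    symm
    apply cm_mul_right'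
    have hlift : π (cm (L (i, m, 1)) (L (m, j, u))) = x i j u := by
      rw [map_cm, hL, hL]; simp only
      rw [StN.cm_chev s h1 h2.symm hij, one_mul]
    exact hLL m j i j h2.symm hij h2.symm hij.symm t u _ _ (hL (m, j, t)) hlift
  · intro i j k l hij hkl hil hjk t u
    exact hLL i j k l hij hkl hil hjk t u _ _ (hπ i j hij t) (hπ k l hkl u)
  · intro i j l hij hjl hil t u
    obtain ⟨h1, h2⟩ := haux ⟨(i, l), hil⟩
    set m := aux ⟨(i, l), hil⟩ with hm
    rw [hy i l hil, ← hm]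
    exact hGG i j l m hij hjl hil h1.symm h2.symm t u _ _ _ _ (hπ i j hij t) (hπ j l hjl u)
      (hL (i, m, 1)) (hL (m, l, t * u))

end Cfsg.Agent.H16SX
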