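import Mathlib
import Cfsg.Agent.H16SX3
import Cfsg.Agent.H16SN13

set_option autoImplicit false

namespace Cfsg.Agent.H16SX

open Cfsg.Agent.H16SM Cfsg.Agent.H16SN Matrix

variable {K : Type*} [Field K] {n : ℕ}

/-- total transvection function -/
noncomputable def tvt (i j : Fin n) (t : K) : SpecialLinearGroup (Fin n) K :=
  if h : i ≠ j then SpecialLinearGroup.transvection h t else 1

lemma tvt_of {i j : Fin n} (h : i ≠ j) (t : K) :
    tvt i j t = SpecialLinearGroup.transvection h t := dif_pos h

lemma stN_tvt : StN (tvt (K := K) (n := n)) where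
  add i j hij t u := by
    rw [tvt_of hij, tvt_of hij, tvt_of hij]; exact tv_add hij t u
  comm i j k l hij hkl hil hjk t u := by
    rw [tvt_of hij, tvt_of hkl]; exact tv_comm hij hkl hil hjk t u
  chev i j l hij hjl hil t u := by
    rw [tvt_of hij, tvt_of hjl, tvt_of hil]; exact tv_chev hij hjl hil t u

/-- the entries of the basic diagonal elements -/
def dfun (a b : Fin n) (s : K) (x : Fin n) : K := if x = a then s else if x = b then s⁻¹ else 1

lemma dfun_ne_zero {a b : Fin n} {s : K} (hs : s ≠ 0) (x : Fin n) : dfun a b s x ≠ 0 := by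
  unfold dfun; split_ifs <;> simp [hs]

lemma prod_dfun {a b : Fin n} (hab : a ≠ b) {s : K} (hs : s ≠ 0) : ∏ x, dfun a b s x = 1 := by
  rw [Fintype.prod_eq_mul a b hab]
  · simp [dfun, hab.symm, hs]
  · intro x hx; simp [dfun, hx.1, hx.2]

/-- basic diagonal elements -/
noncomputable def hd (a b : Fin n) (hab : a ≠ b) (s : K) (hs : s ≠ 0) :
    SpecialLinearGroup (Fin n) K :=
  ⟨Matrix.diagonal (dfun a b s), by rw [Matrix.det_diagonal]; exact prod_dfun hab hs⟩

lemma hd_conj {a b : Fin n} (hab : a ≠ b) {s : K} (hs : s ≠ 0) {i j : Fin n} (hij : i ≠ j)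
    (t : K) : hd a b hab s hs * tvt i j t * (hd a b hab s hs)⁻¹ =
      tvt i j (dfun a b s i * (dfun a b s j)⁻¹ * t) := by
  rw [mul_inv_eq_iff_eq_mul, tvt_of hij, tvt_of hij]
  apply Subtype.ext
  show Matrix.diagonal (dfun a b s) * Matrix.transvection i j t =
    Matrix.transvection i j (dfun a b s i * (dfun a b s j)⁻¹ * t) * Matrix.diagonal (dfun a b s)
  have hj := dfun_ne_zero (a := a) (b := b) hs j
  ext p q
  rw [Matrix.diagonal_mul, Matrix.mul_diagonal]
  simp only [Matrix.transvection, Matrix.add_apply, Matrix.one_apply, Matrix.single_apply]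
  by_cases hpq : p = q
  · subst hpq
    have : ¬ (i = p ∧ j = p) := fun hh => hij (hh.1.trans hh.2.symm)
    simp [this, mul_comm]
  · by_cases hh : i = p ∧ j = q
    · obtain ⟨rfl, rfl⟩ := hh
      simp [hpq]
      field_simp
    · simp [hpq, hh]

end Cfsg.Agent.H16SX
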