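import Mathlib
import Cfsg.Agent.H16SX4

set_option autoImplicit false

namespace Cfsg.Agent.H16SX

open Cfsg.Agent.H16SM Cfsg.Agent.H16SN Matrix

variable {K : Type*} [Field K] {n : ℕ}

lemma dfun_a (a b : Fin n) (s : K) : dfun a b s a = s := if_pos rfl

lemma dfun_b {a b : Fin n} (hab : a ≠ b) (s : K) : dfun a b s b = s⁻¹ := by
  unfold dfun; rw [if_neg hab.symm, if_pos rfl]

lemma dfun_o {a b x : Fin n} (hxa : x ≠ a) (hxb : x ≠ b) (s : K) : dfun a b s x = 1 := by
  unfold dfun; rw [if_neg hxa, if_neg hxb]

lemma conj_mul_conj {G : Type*} [Group G] (g1 g2 X : G) :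
    (g1 * g2) * X * (g1 * g2)⁻¹ = g1 * (g2 * X * g2⁻¹) * g1⁻¹ := by group

lemma card_le_of_cover2 {i j : Fin n} (h : ∀ m : Fin n, m = i ∨ m = j) : n ≤ 2 := by
  have hsub : (Finset.univ : Finset (Fin n)) ⊆ {i, j} := by
    intro m _; simp only [Finset.mem_insert, Finset.mem_singleton]; exact h m
  have := Finset.card_le_card hsub
  rw [Finset.card_univ, Fintype.card_fin] at this
  exact this.trans Finset.card_le_two

lemma card_le_of_cover3 {i j l : Fin n} (h : ∀ m : Fin n, m = i ∨ m = j ∨ m = l) : n ≤ 3 := by
  have hsub : (Finset.univ : Finset (Fin n)) ⊆ {i, j, l} := by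
    intro m _; simp only [Finset.mem_insert, Finset.mem_singleton]; exact h m
  have := Finset.card_le_card hsub
  rw [Finset.card_univ, Fintype.card_fin] at this
  exact this.trans Finset.card_le_three

lemma card_le_of_cover4 {i j k l : Fin n} (h : ∀ m : Fin n, m = i ∨ m = j ∨ m = k ∨ m = l) :
    n ≤ 4 := by
  have hsub : (Finset.univ : Finset (Fin n)) ⊆ {i, j, k, l} := by
    intro m _; simp only [Finset.mem_insert, Finset.mem_singleton]; exact h m
  have := Finset.card_le_card hsub
  rw [Finset.card_univ, Fintype.card_fin] at this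
  exact this.trans Finset.card_le_four

lemma four_le_of_distinct {i j k l : Fin n} (hij : i ≠ j) (hik : i ≠ k) (hil : i ≠ l)
    (hjk : j ≠ k) (hjl : j ≠ l) (hkl : k ≠ l) : 4 ≤ n := by
  have hc : ({i, j, k, l} : Finset (Fin n)).card = 4 := by
    rw [Finset.card_insert_of_notMem, Finset.card_insert_of_notMem,
      Finset.card_insert_of_notMem, Finset.card_singleton]
    · simpa using hkl
    · simp [hjk, hjl]
    · simp [hij, hik, hil]
  have := Finset.card_le_univ ({i, j, k, l} : Finset (Fin n))
  rw [hc, Fintype.card_fin] at this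
  exact this

section main

variable {Γ : Type*} [Group Γ] {π : Γ →* SpecialLinearGroup (Fin n) K}

/-- the hypotheses on the field -/
structure FieldHyp (K : Type*) [Field K] (n : ℕ) : Prop where
  ex3 : n = 3 → ∃ s : K, s ≠ 0 ∧ s ^ 3 ≠ 1
  ex4 : n = 4 → (∃ s : K, s ≠ 0 ∧ s ^ 2 ≠ 1) ∨
    ((3 : K) = 0 ∧ ∀ t u : K, t = 0 ∨ u = 0 ∨ u = t ∨ u = -t)

theorem LLall_SL (hn : 3 ≤ n) (hK : FieldHyp K n) (h : CExt π) :
    LLall π (tvt (K := K) (n := n)) := by
  intro i j k l hij hkl hil hjk
  by_cases hm : ∃ m, m ≠ i ∧ m ≠ j ∧ m ≠ k ∧ m ≠ l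
  · obtain ⟨m, h1, h2, h3, h4⟩ := hm
    exact LL_milnor h stN_tvt hij hkl hil hjk h1 h2 h3 h4
  · have hcov : ∀ m, m = i ∨ m = j ∨ m = k ∨ m = l := by
      intro m
      by_contra hc
      push Not at hc
      exact hm ⟨m, hc.1, hc.2.1, hc.2.2.1, hc.2.2.2⟩
    by_cases hik : i = k
    · subst hik
      by_cases hjl : j = l
      · subst hjl
        exfalso
        have : n ≤ 2 := card_le_of_cover2 (i := i) (j := j) (fun m => by
          rcases hcov m with h | h | h | h
          · exact Or.inl h
          · exact Or.inr h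
          · exact Or.inl h
          · exact Or.inr h)
        omega
      · -- same row
        have hn3 : n = 3 := by
          have : n ≤ 3 := card_le_of_cover3 (i := i) (j := j) (l := l) (fun m => by
            rcases hcov m with h | h | h | h
            · exact Or.inl h
            · exact Or.inr (Or.inl h)
            · exact Or.inl h
            · exact Or.inr (Or.inr h))
          omega
        obtain ⟨s, hs0, hs3⟩ := hK.ex3 hn3
        have hlj : l ≠ j := fun e => hjl e.symm
        refine LL_torus h stN_tvt hij hkl hil hjk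
          (hd i j hij s hs0 * hd l j hlj s hs0) (s ^ 3) hs3 ?_ ?_
        · intro t
          rw [conj_mul_conj, hd_conj hlj hs0 hij, hd_conj hij hs0 hij]
          congr 1
          rw [dfun_a, dfun_b hij, dfun_o hil hij, dfun_b hlj]
          field_simp
        · intro u
          rw [conj_mul_conj, hd_conj hlj hs0 hkl, hd_conj hij hs0 hkl]
          congr 1
          rw [dfun_a, dfun_o hil.symm hlj, dfun_o hil hij, dfun_a]
          field_simp
    · by_cases hjl : j = l
      · subst hjl
        -- same column
        have hn3 : n = 3 := by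
          have : n ≤ 3 := card_le_of_cover3 (i := i) (j := j) (l := k) (fun m => by
            rcases hcov m with h | h | h | h
            · exact Or.inl h
            · exact Or.inr (Or.inl h)
            · exact Or.inr (Or.inr h)
            · exact Or.inr (Or.inl h))
          omega
        obtain ⟨s, hs0, hs3⟩ := hK.ex3 hn3
        have hki : k ≠ i := fun e => hik e.symm
        have hji : j ≠ i := hij.symm
        have hs3' : (s ^ 3)⁻¹ ≠ 1 := by
          intro e
          apply hs3
          rw [← inv_inv (s ^ 3), e, inv_one]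
        refine LL_torus h stN_tvt hij hkl hil hjk
          (hd k i hki s hs0 * hd j i hji s hs0) ((s ^ 3)⁻¹) hs3' ?_ ?_
        · intro t
          rw [conj_mul_conj, hd_conj hji hs0 hij, hd_conj hki hs0 hij]
          congr 1
          rw [dfun_b hki, dfun_o hjk hji, dfun_b hji, dfun_a]
          field_simp
        · intro u
          rw [conj_mul_conj, hd_conj hji hs0 hkl, hd_conj hki hs0 hkl]
          congr 1
          rw [dfun_a, dfun_o hjk hji, dfun_o hjk.symm hki, dfun_a]
          field_simp
      · -- four distinct indices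
        have hn4 : n = 4 := by
          have h1 : n ≤ 4 := card_le_of_cover4 hcov
          have h2 : 4 ≤ n := four_le_of_distinct hij hik hil hjk hjl hkl
          omega
        rcases hK.ex4 hn4 with ⟨s, hs0, hs2⟩ | ⟨h3, hsm⟩
        · refine LL_torus h stN_tvt hij hkl hil hjk (hd i j hij s hs0) (s ^ 2) hs2 ?_ ?_
          · intro t
            rw [hd_conj hij hs0 hij]
            congr 1
            rw [dfun_a, dfun_b hij]
            field_simp
          · intro u
            rw [hd_conj hij hs0 hkl]
            congr 1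
            rw [dfun_o (fun e => hik e.symm) hjk.symm, dfun_o hil.symm (fun e => hjl e.symm)]
            field_simp
        · exact LL_swap h stN_tvt hij hkl hil hjk hik hjl h3 hsm

theorem GG_SL (hn : 3 ≤ n) (hK : FieldHyp K n) (h : CExt π) :
    GG π (tvt (K := K) (n := n)) := by
  have hLL := LLall_SL hn hK h
  intro i j l m hij hjl hil hmi hml t u A B A' B' hA hB hA' hB'
  by_cases hmj : m = j
  · rw [hmj] at hA' hB'
    by_cases hf : ∃ m', m' ≠ i ∧ m' ≠ j ∧ m' ≠ l
    · obtain ⟨m', h1, h2, h3⟩ := hf
      obtain ⟨A'', hA''⟩ := h.surj (tvt i m' 1)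
      obtain ⟨B'', hB''⟩ := h.surj (tvt m' l (t * u))
      have e1 : cm A B = cm A'' B'' :=
        GW h stN_tvt hLL h1.symm hij hil h2 h3 hjl t u A B A'' B'' hA hB hA'' hB''
      have e2 : cm A' B' = cm A'' B'' :=
        GW h stN_tvt hLL h1.symm hij hil h2 h3 hjl 1 (t * u) A' B' A'' B'' hA' hB' hA''
          (by rw [one_mul]; exact hB'')
      rw [e1, e2]
    · have hcov : ∀ m', m' = i ∨ m' = j ∨ m' = l := by
        intro m'
        by_contra hc
        push Not at hc
        exact hf ⟨m', hc.1, hc.2.1, hc.2.2⟩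
      have hn3 : n = 3 := by
        have : n ≤ 3 := card_le_of_cover3 hcov
        omega
      obtain ⟨s, hs0, hs3⟩ := hK.ex3 hn3
      refine TG h stN_tvt hLL hij hil hjl (hd i l hil s hs0 * hd j l hjl s hs0) (s ^ 3) hs3
        ?_ ?_ t u A B A' B' hA hB hA' hB'
      · intro t'
        rw [conj_mul_conj, hd_conj hjl hs0 hij, hd_conj hil hs0 hij]
        congr 1
        rw [dfun_a, dfun_o hij.symm hjl, dfun_o hij hil, dfun_a]
        field_simp
      · intro u'
        rw [conj_mul_conj, hd_conj hjl hs0 hjl, hd_conj hil hs0 hjl]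
        congr 1
        rw [dfun_o hij.symm hjl, dfun_b hil, dfun_a, dfun_b hjl]
        field_simp
  · exact GW h stN_tvt hLL hmi.symm hij hil hmj hml hjl t u A B A' B' hA hB hA' hB'

end main

end Cfsg.Agent.H16SX
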