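import Mathlib
import Cfsg.Agent.H16SX5
import Cfsg.Agent.H16SM5

set_option autoImplicit false

namespace Cfsg.Agent.H16SX

open Cfsg.Agent.H16SM Cfsg.Agent.H16SN Matrix

open scoped commutatorElement

universe u

variable {K : Type u} [Field K] {n : ℕ}

section split

variable {Γ : Type*} [Group Γ]

theorem SL_ker_bot [Finite K] (hn : 3 ≤ n) (hK : FieldHyp K n)
    (σ : Γ →* SpecialLinearGroup (Fin n) K) (hσ : Cfsg.IsStemExtension σ) : σ.ker = ⊥ := by
  have h : CExt σ := ⟨hσ.1, hσ.2.1⟩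
  obtain ⟨y, hy, hπ⟩ := lift_exists h stN_tvt (Fin_third hn) (LLall_SL hn hK h) (GG_SL hn hK h)
  let gen : {ij : Fin n × Fin n // ij.1 ≠ ij.2} × K → Γ := fun p => y p.1.1.1 p.1.1.2 p.2
  have hrels : ∀ r ∈ relsN K n, FreeGroup.lift gen r = 1 := by
    intro r hr
    rcases hr with (hr | hr) | hr
    · obtain ⟨a, t, u, rfl⟩ := hr
      simp only [map_mul, map_inv, FreeGroup.lift_apply_of]
      rw [mul_inv_eq_one]
      exact hy.add _ _ a.2 t u
    · obtain ⟨a, b, t, u, h1, h2, rfl⟩ := hr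
      simp only [map_mul, map_inv, FreeGroup.lift_apply_of]
      rw [mul_inv_eq_one, mul_inv_eq_iff_eq_mul]
      exact hy.comm _ _ _ _ a.2 b.2 h1 h2 t u
    · obtain ⟨⟨⟨i, j⟩, hij⟩, ⟨⟨j', l⟩, hjl⟩, h', t, u, hEq, rfl⟩ := hr
      simp only at hEq
      subst hEq
      simp only [map_mul, map_inv, FreeGroup.lift_apply_of]
      rw [mul_inv_eq_one]
      exact hy.chev i j l hij hjl h' t u
  let ψ : PresentedGroup (relsN K n) →* Γ := PresentedGroup.toGroup hrels
  have hψ : ∀ a t, ψ (PresentedGroup.of (a, t)) = gen (a, t) := fun a t =>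
    PresentedGroup.toGroup.of hrels
  have hcomp : σ.comp ψ = phiN := by
    apply PresentedGroup.ext
    rintro ⟨a, t⟩
    rw [MonoidHom.comp_apply, hψ, phiN_of]
    show σ (y a.1.1 a.1.2 t) = _
    rw [hπ _ _ a.2, tvt_of a.2]
  have hcomp' : ∀ w, σ (ψ w) = phiN w := fun w => by
    rw [← hcomp]; rfl
  let e : PresentedGroup (relsN K n) ≃* SpecialLinearGroup (Fin n) K :=
    MulEquiv.ofBijective phiN ⟨phiN_inj hn, phiN_surj hn⟩
  let τ : SpecialLinearGroup (Fin n) K →* Γ := ψ.comp e.symm.toMonoidHom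
  have hsplit : ∀ g, σ (τ g) = g := by
    intro g
    show σ (ψ (e.symm g)) = g
    rw [hcomp']
    exact e.apply_symm_apply g
  have hcomm : commutator Γ ≤ τ.range := by
    rw [commutator_eq_closure, Subgroup.closure_le]
    rintro _ ⟨a, b, rfl⟩
    have e1 : ⁅a, b⁆ = cm a b := rfl
    have e2 : cm a b = cm (τ (σ a)) (τ (σ b)) := h.cw (hsplit _).symm (hsplit _).symm
    have e3 : cm (τ (σ a)) (τ (σ b)) = τ (cm (σ a) (σ b)) := (map_cm τ _ _).symm
    rw [SetLike.mem_coe, e1, e2, e3]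
    exact ⟨_, rfl⟩
  rw [eq_bot_iff]
  intro z hz
  obtain ⟨g, rfl⟩ := hcomm (hσ.2.2 hz)
  rw [MonoidHom.mem_ker, hsplit] at hz
  rw [hz, map_one]
  exact Subgroup.mem_bot.mpr rfl

end split

lemma exists_pow_ne [Fintype K] (k : ℕ) (hk : ¬ (Fintype.card K - 1 ∣ k)) :
    ∃ s : K, s ≠ 0 ∧ s ^ k ≠ 1 := by
  classical
  by_contra hcon
  push Not at hcon
  apply hk
  have h1 : Monoid.exponent Kˣ ∣ k := Monoid.exponent_dvd_of_forall_pow_eq_one (fun u =>
    Units.ext (by simpa using hcon u u.ne_zero))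
  rw [IsCyclic.exponent_eq_card, Nat.card_eq_fintype_card, Fintype.card_units] at h1
  exact h1

lemma small_field [Fintype K] (h3 : Fintype.card K = 3) :
    (3 : K) = 0 ∧ ∀ t u : K, t = 0 ∨ u = 0 ∨ u = t ∨ u = -t := by
  classical
  have h30 : (3 : K) = 0 := by
    have := Nat.cast_card_eq_zero K
    rw [h3] at this
    exact_mod_cast this
  refine ⟨h30, ?_⟩
  intro t u
  by_contra hc
  push Not at hc
  obtain ⟨ht, hu, hut, hunt⟩ := hc
  have htt : t ≠ -t := by
    intro e
    have e2 : (2 : K) * t = 0 := by linear_combination e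
    rcases mul_eq_zero.mp e2 with h2 | h2
    · have : (1 : K) = 0 := by linear_combination h30 - h2
      exact one_ne_zero this
    · exact ht h2
  have hcard : ({0, t, -t, u} : Finset K).card = 4 := by
    rw [Finset.card_insert_of_notMem, Finset.card_insert_of_notMem,
      Finset.card_insert_of_notMem, Finset.card_singleton]
    · simpa using fun e : -t = u => hunt e.symm
    · simp only [Finset.mem_insert, Finset.mem_singleton, not_or]
      exact ⟨htt, fun e => hut e.symm⟩
    · simp only [Finset.mem_insert, Finset.mem_singleton, not_or]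
      exact ⟨fun e => ht e.symm, fun e => ht (neg_eq_zero.mp e.symm), fun e => hu e.symm⟩
  have := Finset.card_le_univ ({0, t, -t, u} : Finset K)
  rw [hcard, h3] at this
  omega

theorem fieldHyp_of_card [Fintype K] (h3 : n = 3 → Fintype.card K ≠ 2 ∧ Fintype.card K ≠ 4)
    (h4 : n = 4 → Fintype.card K ≠ 2) : FieldHyp K n := by
  have hq : 2 ≤ Fintype.card K := Fintype.one_lt_card
  refine ⟨fun hn => ?_, fun hn => ?_⟩
  · apply exists_pow_ne
    intro hd
    have := Nat.le_of_dvd (by norm_num) hd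
    obtain ⟨h2, h4'⟩ := h3 hn
    have hc : Fintype.card K - 1 = 1 ∨ Fintype.card K - 1 = 2 ∨ Fintype.card K - 1 = 3 := by omega
    rcases hc with hc | hc | hc
    · omega
    · rw [hc] at hd; omega
    · omega
  · by_cases hq3 : Fintype.card K = 3
    · exact Or.inr (small_field hq3)
    · left
      apply exists_pow_ne
      intro hd
      have := Nat.le_of_dvd (by norm_num) hd
      have := h4 hn
      omega

theorem SL_triv_mult [Fintype K] (hn : 3 ≤ n)
    (h3 : n = 3 → Fintype.card K ≠ 2 ∧ Fintype.card K ≠ 4)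
    (h4 : n = 4 → Fintype.card K ≠ 2) :
    Cfsg.HasCyclicSchurMultiplier (SpecialLinearGroup (Fin n) K) 1 := by
  apply triv_mult_of_ker_bot
  intro Γ _ _ σ hσ
  exact SL_ker_bot hn (fieldHyp_of_card h3 h4) σ hσ

end Cfsg.Agent.H16SX
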