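import Mathlib
import Cfsg.Agent.H16SX6
import Cfsg.Agent.S3958
import Cfsg.Agent.S0248

set_option autoImplicit false

namespace Cfsg.Agent.H16SX

open Cfsg.Agent.H16SM Cfsg.Agent.H16SN Matrix

universe u

lemma nonempty_mulEquiv_zmod {G : Type*} [Group G] (hc : IsCyclic G) {g : ℕ}
    (h : Nat.card G = g) : Nonempty (Multiplicative (ZMod g) ≃* G) := by
  subst h
  exact ⟨zmodCyclicMulEquiv hc⟩

lemma card_rootsOfUnity_finite {F : Type*} [Field F] [Fintype F] (k : ℕ) :
    Nat.card (rootsOfUnity k F) = Nat.gcd k (Fintype.card F - 1) := by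
  classical
  have hm : Nat.card Fˣ = Fintype.card F - 1 := by
    rw [Nat.card_eq_fintype_card, Fintype.card_units]
  have hm0 : 0 < Nat.card Fˣ := Nat.card_pos
  have hker : (powMonoidHom k : Fˣ →* Fˣ).ker = rootsOfUnity k F := by
    ext ζ
    rw [MonoidHom.mem_ker, mem_rootsOfUnity, powMonoidHom_apply]
  have h1 := Subgroup.card_mul_index (powMonoidHom k : Fˣ →* Fˣ).ker
  rw [Subgroup.index_ker, IsCyclic.card_powMonoidHom_range, hker] at h1
  have hg : 0 < (Nat.card Fˣ).gcd k := Nat.gcd_pos_of_pos_left _ hm0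
  have hdiv : (Nat.card Fˣ).gcd k ∣ Nat.card Fˣ := Nat.gcd_dvd_left _ _
  have hq : 0 < Nat.card Fˣ / (Nat.card Fˣ).gcd k := Nat.div_pos (Nat.le_of_dvd hm0 hdiv) hg
  have h2 : (Nat.card Fˣ).gcd k * (Nat.card Fˣ / (Nat.card Fˣ).gcd k) = Nat.card Fˣ :=
    Nat.mul_div_cancel' hdiv
  have h3 : Nat.card (rootsOfUnity k F) = (Nat.card Fˣ).gcd k := by
    apply Nat.eq_of_mul_eq_mul_right hq
    rw [h1, h2]
  rw [h3, hm, Nat.gcd_comm]

theorem main2086 {F : Type u} [Field F] [Fintype F] {q : ℕ} (hF : Fintype.card F = q) (n : ℕ)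
    (hn : 2 ≤ n) (h2 : n = 2 → 4 ≤ q)
    (hexc : (n, q) ∉ ({(2, 4), (2, 9), (3, 2), (3, 4), (4, 2)} : Set (ℕ × ℕ))) :
    Cfsg.HasCyclicSchurMultiplier (Matrix.ProjectiveSpecialLinearGroup (Fin n) F)
      (Nat.gcd n (q - 1)) := by
  classical
  let Γ₀ := SpecialLinearGroup (Fin n) F
  let σ₀ : Γ₀ →* Matrix.ProjectiveSpecialLinearGroup (Fin n) F :=
    QuotientGroup.mk' (Subgroup.center Γ₀)
  have hker : σ₀.ker = Subgroup.center Γ₀ := QuotientGroup.ker_mk' _
  have hperf : commutator Γ₀ = ⊤ := by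
    rcases Nat.lt_or_ge n 3 with h | h
    · have h2' : n = 2 := by omega
      subst h2'
      have hq4 := h2 rfl
      obtain ⟨a, ha, hasq⟩ := exists_pow_ne (K := F) 2 (by
        rw [hF]; intro hd
        have := Nat.le_of_dvd (by norm_num) hd
        omega)
      exact SL2.commutator_eq_top ha hasq
    · exact Cfsg.Agent.S0248.result n h
  have hst₀ : Cfsg.IsStemExtension σ₀ :=
    ⟨QuotientGroup.mk'_surjective _, by rw [hker], by rw [hperf]; exact le_top⟩
  have hΓ₀ : Cfsg.HasCyclicSchurMultiplier Γ₀ 1 := by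
    rcases Nat.lt_or_ge n 3 with h | h
    · have h2' : n = 2 := by omega
      subst h2'
      apply Cfsg.Agent.H16SM.main
      · rw [hF]; intro e; apply hexc; simp [e]
      · rw [hF]; intro e; apply hexc; simp [e]
    · apply SL_triv_mult h
      · intro h3; rw [hF]
        constructor
        · intro e; apply hexc; simp [h3, e]
        · intro e; apply hexc; simp [h3, e]
      · intro h4; rw [hF]; intro e; apply hexc; simp [h4, e]
  have hk : max (Fintype.card (Fin n)) 1 = n := by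
    rw [Fintype.card_fin]; omega
  haveI : NeZero (max (Fintype.card (Fin n)) 1) := ⟨by rw [hk]; omega⟩
  have hcard : Nat.card σ₀.ker = Nat.gcd n (q - 1) := by
    rw [hker, Nat.card_congr
      (SpecialLinearGroup.center_equiv_rootsOfUnity (n := Fin n) (R := F)).toEquiv,
      card_rootsOfUnity_finite, hk, hF]
  have hcyc : IsCyclic σ₀.ker := by
    rw [hker]
    haveI : IsCyclic (rootsOfUnity (max (Fintype.card (Fin n)) 1) F) :=
      rootsOfUnity.isCyclic F _
    exact isCyclic_of_surjective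
      (SpecialLinearGroup.center_equiv_rootsOfUnity (n := Fin n) (R := F)).symm.toMonoidHom
      (SpecialLinearGroup.center_equiv_rootsOfUnity (n := Fin n) (R := F)).symm.surjective
  obtain ⟨e2⟩ := nonempty_mulEquiv_zmod hcyc hcard
  refine ⟨⟨Γ₀, inferInstance, inferInstance, σ₀, hst₀, ⟨e2.symm⟩⟩, ?_⟩
  intro Δ _ _ τ hτ
  obtain ⟨π, hπ⟩ := Cfsg.Agent.S3958.result σ₀ hst₀ hΓ₀ Δ τ hτ
  exact ⟨π.comp e2.toMonoidHom, hπ.comp e2.surjective⟩

end Cfsg.Agent.H16SX
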