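import Cfsg.Statements.S3225
import Mathlib

set_option autoImplicit false
open Cfsg

namespace Cfsg.Agent.S3225

theorem conj_pow_inv {G : Type*} [Group G] (g z : G) (m : ℕ) :
    (g⁻¹ * z * g) ^ m = g⁻¹ * z ^ m * g := by
  have := conj_pow (a := g⁻¹) (b := z) (i := m)
  rwa [inv_inv] at this

/-- The sign character of a subgroup of index two. -/
noncomputable def signHom {G : Type*} [Group G] (H M : Subgroup G)
    (hidx : (M.subgroupOf H).index = 2) : ↥H →* ℤˣ where
  toFun s := by classical exact if (s : G) ∈ M then 1 else -1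
  map_one' := by simp [M.one_mem]
  map_mul' a b := by
    have h := Subgroup.mul_mem_iff_of_index_two hidx (a := a) (b := b)
    simp only [Subgroup.mem_subgroupOf] at h
    by_cases ha : (a : G) ∈ M <;> by_cases hb : (b : G) ∈ M
    · have hab : (a : G) * (b : G) ∈ M := h.mpr (iff_of_true ha hb)
      simp [ha, hb, hab]
    · have hab : (a : G) * (b : G) ∉ M := fun hab => hb ((h.mp hab).mp ha)
      simp [ha, hb, hab]
    · have hab : (a : G) * (b : G) ∉ M := fun hab => ha ((h.mp hab).mpr hb)
      simp [ha, hb, hab]
    · have hab : (a : G) * (b : G) ∈ M := h.mpr (iff_of_false ha hb)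
      simp [ha, hb, hab]

theorem signHom_of_mem {G : Type*} [Group G] (H M : Subgroup G)
    (hidx : (M.subgroupOf H).index = 2) (s : ↥H) (hs : (s : G) ∈ M) : signHom H M hidx s = 1 := by
  simp [signHom, hs]

theorem signHom_of_not_mem {G : Type*} [Group G] (H M : Subgroup G)
    (hidx : (M.subgroupOf H).index = 2) (s : ↥H) (hs : (s : G) ∉ M) : signHom H M hidx s = -1 := by
  simp [signHom, hs]

/-- Let G be a finite group of even order with no subgroup of index 2, S a Sylow 2-subgroup of G and M a subgroup of index 2 in S such that, for some n ≥ 1, every element of S outside M has order greater than 2^(n−1). Then every element of S of order 2ⁿ is conjugate in G to an element of M. -/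
theorem result {G : Type*} [Group G] [Finite G] (hev : Even (Nat.card G))
    (hG : ∀ H : Subgroup G, H.index ≠ 2) (S : Sylow 2 G) (M : Subgroup G) (hMS : M ≤ (S : Subgroup G)) (hM : M.relIndex (S : Subgroup G) = 2)
    (n : ℕ) (hn : 1 ≤ n) (hord : ∀ y ∈ (S : Subgroup G), y ∉ M → 2 ^ (n - 1) < orderOf y)
    (x : G) (hx : x ∈ (S : Subgroup G)) (hxn : orderOf x = 2 ^ n) :
    ∃ g : G, g * x * g⁻¹ ∈ M := by
  by_contra hcon
  simp only [not_exists] at hcon
  classical
  have : Fact (Nat.Prime 2) := ⟨Nat.prime_two⟩
  have hidx : (M.subgroupOf (S : Subgroup G)).index = 2 := hM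
  have hodd : Odd (S : Subgroup G).index := by
    rw [← Nat.not_even_iff_odd, even_iff_two_dvd]
    exact S.not_dvd_index
  have : Fintype (Quotient (MulAction.orbitRel (Subgroup.zpowers x) (G ⧸ (S : Subgroup G)))) :=
    Fintype.ofFinite _
  have hterm : ∀ q : Quotient (MulAction.orbitRel (Subgroup.zpowers x) (G ⧸ (S : Subgroup G))),
      signHom (S : Subgroup G) M hidx
        ⟨q.out.out⁻¹ * x ^ Function.minimalPeriod (x • ·) q.out * q.out.out,
          QuotientGroup.out_conj_pow_minimalPeriod_mem (S : Subgroup G) x q.out⟩ =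
        (-1) ^ (Function.minimalPeriod (x • ·) q.out) := by
    intro q
    have hper : Function.IsPeriodicPt (x • ·) (2 ^ n) q.out := by
      show (x • ·)^[2 ^ n] q.out = q.out
      rw [smul_iterate, ← hxn, pow_orderOf_eq_one]
      simp
    have hdvd := hper.minimalPeriod_dvd
    obtain ⟨j, hj, hk⟩ := (Nat.dvd_prime_pow Nat.prime_two).mp hdvd
    rcases Nat.eq_zero_or_pos j with hj0 | hj0
    · -- period 1
      have hk1 : Function.minimalPeriod (x • ·) q.out = 1 := by rw [hk, hj0, pow_zero]
      rw [signHom_of_not_mem, hk1, pow_one]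
      show q.out.out⁻¹ * x ^ Function.minimalPeriod (x • ·) q.out * q.out.out ∉ M
      rw [hk1, pow_one]
      have := hcon (q.out.out⁻¹)
      rwa [inv_inv] at this
    · -- period 2^j, j ≥ 1
      have hmem : q.out.out⁻¹ * x ^ Function.minimalPeriod (x • ·) q.out * q.out.out ∈ M := by
        by_contra hnot
        have h1 := hord _ (QuotientGroup.out_conj_pow_minimalPeriod_mem (S : Subgroup G) x q.out) hnot
        have h2 : (q.out.out⁻¹ * x ^ Function.minimalPeriod (x • ·) q.out * q.out.out) ^ (2 ^ (n - j)) = 1 := by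
          rw [conj_pow_inv, hk, ← pow_mul, ← pow_add, Nat.add_sub_cancel' hj, ← hxn, pow_orderOf_eq_one]
          group
        have h3 := orderOf_le_of_pow_eq_one (by positivity) h2
        have h4 : 2 ^ (n - j) ≤ 2 ^ (n - 1) := Nat.pow_le_pow_right (by norm_num) (by omega)
        omega
      rw [signHom_of_mem _ _ _ _ hmem, hk]
      have : Even (2 ^ j) := (Nat.even_pow' (by omega)).mpr even_two
      exact (this.neg_one_pow).symm
  have hT : MonoidHom.transfer (signHom (S : Subgroup G) M hidx) x = -1 := by
    rw [MonoidHom.transfer_eq_prod_quotient_orbitRel_zpowers_quot]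
    rw [Finset.prod_congr rfl (fun q _ => hterm q), Finset.prod_pow_eq_pow_sum,
      ← Subgroup.index_eq_sum_minimalPeriod]
    exact hodd.neg_one_pow
  have hker : (MonoidHom.transfer (signHom (S : Subgroup G) M hidx)).ker.index = 2 := by
    rw [Subgroup.index_ker]
    have hr : (MonoidHom.transfer (signHom (S : Subgroup G) M hidx)).range = ⊤ := by
      rw [eq_top_iff]
      intro u _
      rcases Int.units_eq_one_or u with rfl | rfl
      · exact one_mem _
      · exact ⟨x, hT⟩
    rw [hr, Subgroup.card_top, Nat.card_eq_fintype_card, Fintype.card_units_int]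
  exact hG _ hker

end Cfsg.Agent.S3225
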