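import Mathlib
import Cfsg.Agent.S3225

set_option autoImplicit false

namespace Cfsg.Agent.H16Thompson

open Cfsg.Agent.S3225

theorem signHom_eq_one_iff {G : Type*} [Group G] (H M : Subgroup G)
    (hidx : (M.subgroupOf H).index = 2) (s : ↥H) : signHom H M hidx s = 1 ↔ (s : G) ∈ M := by
  constructor
  · intro h
    by_contra hs
    rw [signHom_of_not_mem H M hidx s hs] at h
    exact absurd h (by decide)
  · exact signHom_of_mem H M hidx s

theorem index_ker_of_transfer_neg_one {G : Type*} [Group G] [Finite G] (H : Subgroup G)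
    (ϕ : ↥H →* ℤˣ) (x : G) (hT : MonoidHom.transfer ϕ x = -1) :
    (MonoidHom.transfer ϕ).ker.index = 2 := by
  rw [Subgroup.index_ker]
  have hr : (MonoidHom.transfer ϕ).range = ⊤ := by
    rw [eq_top_iff]
    intro u _
    rcases Int.units_eq_one_or u with rfl | rfl
    · exact one_mem _
    · exact ⟨x, hT⟩
  rw [hr, Subgroup.card_top, Nat.card_eq_fintype_card, Fintype.card_units_int]

theorem conj_mem_iff {G : Type*} [Group G] (H M : Subgroup G) (hidx : (M.subgroupOf H).index = 2)
    (y h : G) (hy : y ∈ H) (hh : h ∈ H) : h⁻¹ * y * h ∈ M ↔ y ∈ M := by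
  have h1 : signHom H M hidx ⟨h⁻¹ * y * h, H.mul_mem (H.mul_mem (H.inv_mem hh) hy) hh⟩ =
      signHom H M hidx ⟨y, hy⟩ := by
    have e : (⟨h⁻¹ * y * h, H.mul_mem (H.mul_mem (H.inv_mem hh) hy) hh⟩ : ↥H) =
        (⟨h, hh⟩ : ↥H)⁻¹ * ⟨y, hy⟩ * ⟨h, hh⟩ := rfl
    rw [e, map_mul, map_mul, map_inv, mul_comm _ (signHom H M hidx ⟨y, hy⟩), mul_assoc,
      inv_mul_cancel, mul_one]
  rw [← signHom_eq_one_iff H M hidx ⟨h⁻¹ * y * h, H.mul_mem (H.mul_mem (H.inv_mem hh) hy) hh⟩, h1,
    signHom_eq_one_iff]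

/-- Thompson transfer lemma for involutions, with control of a centralizing `2`-subgroup:
if `G` has no subgroup of index two, `M` has index two in the Sylow `2`-subgroup `S`,
`u` is an involution (or trivial) and `R` is a `2`-subgroup containing and centralizing `u`,
then some conjugate of `u` lies in `M` while the same conjugation carries `R` into `S`. -/
theorem thompson_extremal {G : Type*} [Group G] [Finite G] (hG : ∀ K : Subgroup G, K.index ≠ 2)
    (S : Sylow 2 G) (M : Subgroup G) (hM : M.relIndex (S : Subgroup G) = 2) (u : G) (hu : u * u = 1)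
    (R : Subgroup G) (hR : IsPGroup 2 ↥R) (huR : u ∈ R) (hRu : ∀ r ∈ R, r * u = u * r) :
    ∃ g : G, (∀ r ∈ R, g⁻¹ * r * g ∈ (S : Subgroup G)) ∧ g⁻¹ * u * g ∈ M := by
  by_contra hcon
  simp only [not_exists, not_and] at hcon
  classical
  have : Fact (Nat.Prime 2) := ⟨Nat.prime_two⟩
  have hidx : (M.subgroupOf (S : Subgroup G)).index = 2 := hM
  have hodd : Odd (S : Subgroup G).index := by
    rw [← Nat.not_even_iff_odd, even_iff_two_dvd]
    exact S.not_dvd_index
  have huinv : u⁻¹ = u := inv_eq_of_mul_eq_one_right hu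
  -- the predicate
  have hPH : ∀ g h : G, h ∈ (S : Subgroup G) →
      (((g * h)⁻¹ * u * (g * h) ∈ (S : Subgroup G) ∧ (g * h)⁻¹ * u * (g * h) ∉ M) ↔
        (g⁻¹ * u * g ∈ (S : Subgroup G) ∧ g⁻¹ * u * g ∉ M)) := by
    intro g h hh
    have e : (g * h)⁻¹ * u * (g * h) = h⁻¹ * (g⁻¹ * u * g) * h := by group
    rw [e]
    constructor
    · rintro ⟨h1, h2⟩
      have h3 : g⁻¹ * u * g ∈ (S : Subgroup G) := by
        have := (S : Subgroup G).mul_mem ((S : Subgroup G).mul_mem hh h1) ((S : Subgroup G).inv_mem hh)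
        have e2 : h * (h⁻¹ * (g⁻¹ * u * g) * h) * h⁻¹ = g⁻¹ * u * g := by group
        rwa [e2] at this
      exact ⟨h3, fun h4 => h2 ((conj_mem_iff _ M hidx _ h h3 hh).mpr h4)⟩
    · rintro ⟨h1, h2⟩
      exact ⟨mul_mem (mul_mem (inv_mem hh) h1) hh,
        fun h4 => h2 ((conj_mem_iff _ M hidx _ h h1 hh).mp h4)⟩
  have hPR : ∀ g r : G, r ∈ R → (r * g)⁻¹ * u * (r * g) = g⁻¹ * u * g := by
    intro g r hr
    have h1 : r⁻¹ * u * r = u := by rw [mul_assoc, ← hRu r hr, inv_mul_cancel_left]
    calc (r * g)⁻¹ * u * (r * g) = g⁻¹ * (r⁻¹ * u * r) * g := by group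
      _ = g⁻¹ * u * g := by rw [h1]
  have hPout : ∀ g : G,
      (((QuotientGroup.mk g : G ⧸ (S : Subgroup G)).out⁻¹ * u * (QuotientGroup.mk g : G ⧸ (S : Subgroup G)).out ∈ (S : Subgroup G) ∧
        (QuotientGroup.mk g : G ⧸ (S : Subgroup G)).out⁻¹ * u * (QuotientGroup.mk g : G ⧸ (S : Subgroup G)).out ∉ M) ↔
        (g⁻¹ * u * g ∈ (S : Subgroup G) ∧ g⁻¹ * u * g ∉ M)) := by
    intro g
    obtain ⟨h, hh⟩ := QuotientGroup.mk_out_eq_mul (S : Subgroup G) g
    rw [hh]; exact hPH g h h.2
  have hfix : ∀ g : G, g⁻¹ * u * g ∈ (S : Subgroup G) →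
      u • (QuotientGroup.mk g : G ⧸ (S : Subgroup G)) = QuotientGroup.mk g := by
    intro g hg
    rw [MulAction.Quotient.smul_mk, smul_eq_mul, QuotientGroup.eq]
    have e : (u * g)⁻¹ * g = g⁻¹ * u * g := by rw [mul_inv_rev, huinv]
    rw [e]; exact hg
  have hfix' : ∀ f : G ⧸ (S : Subgroup G), f.out⁻¹ * u * f.out ∈ (S : Subgroup G) → u • f = f := by
    intro f hf
    have := hfix f.out hf
    rwa [QuotientGroup.out_eq'] at this
  have : Fintype (Quotient (MulAction.orbitRel (Subgroup.zpowers u) (G ⧸ (S : Subgroup G)))) :=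
    Fintype.ofFinite _
  have hterm : ∀ q : Quotient (MulAction.orbitRel (Subgroup.zpowers u) (G ⧸ (S : Subgroup G))),
      signHom (S : Subgroup G) M hidx
        ⟨q.out.out⁻¹ * u ^ Function.minimalPeriod (u • ·) q.out * q.out.out,
          QuotientGroup.out_conj_pow_minimalPeriod_mem (S : Subgroup G) u q.out⟩ =
        if (q.out.out⁻¹ * u * q.out.out ∈ (S : Subgroup G) ∧ q.out.out⁻¹ * u * q.out.out ∉ M)
          then -1 else 1 := by
    intro q
    have hper : Function.IsPeriodicPt (u • ·) 2 q.out := by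
      show (u • ·)^[2] q.out = q.out
      rw [smul_iterate, pow_two, hu]
      simp
    have hdvd := hper.minimalPeriod_dvd
    rcases (Nat.dvd_prime Nat.prime_two).mp hdvd with h1 | h2
    · by_cases hmem : q.out.out⁻¹ * u * q.out.out ∈ M
      · rw [if_neg (fun hp => hp.2 hmem)]
        apply signHom_of_mem
        show q.out.out⁻¹ * u ^ Function.minimalPeriod (u • ·) q.out * q.out.out ∈ M
        rw [h1, pow_one]; exact hmem
      · have hyS : q.out.out⁻¹ * u * q.out.out ∈ (S : Subgroup G) := by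
          have := QuotientGroup.out_conj_pow_minimalPeriod_mem (S : Subgroup G) u q.out
          rwa [h1, pow_one] at this
        rw [if_pos ⟨hyS, hmem⟩]
        apply signHom_of_not_mem
        show q.out.out⁻¹ * u ^ Function.minimalPeriod (u • ·) q.out * q.out.out ∉ M
        rw [h1, pow_one]; exact hmem
    · have hnP : ¬ (q.out.out⁻¹ * u * q.out.out ∈ (S : Subgroup G) ∧ q.out.out⁻¹ * u * q.out.out ∉ M) := by
        intro hp
        have hfx : Function.IsFixedPt (u • ·) q.out := hfix' q.out hp.1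
        have := Function.minimalPeriod_eq_one_iff_isFixedPt.mpr hfx
        omega
      rw [if_neg hnP]
      apply signHom_of_mem
      show q.out.out⁻¹ * u ^ Function.minimalPeriod (u • ·) q.out * q.out.out ∈ M
      rw [h2, pow_two, hu]
      simp
  -- the R-invariant set of "bad" fixed cosets
  let FPs : SubMulAction ↥R (G ⧸ (S : Subgroup G)) :=
    { carrier := {f | f.out⁻¹ * u * f.out ∈ (S : Subgroup G) ∧ f.out⁻¹ * u * f.out ∉ M}
      smul_mem' := by
        intro r f hf
        obtain ⟨g, rfl⟩ := QuotientGroup.mk_surjective f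
        have hf' := (hPout g).mp hf
        show _ ∧ _
        have e : r • (QuotientGroup.mk g : G ⧸ (S : Subgroup G)) = QuotientGroup.mk ((r : G) * g) := rfl
        rw [e, hPout, hPR g r r.2]
        exact hf' }
  have hmemFPs : ∀ f : G ⧸ (S : Subgroup G), f ∈ FPs ↔
      (f.out⁻¹ * u * f.out ∈ (S : Subgroup G) ∧ f.out⁻¹ * u * f.out ∉ M) := fun f => Iff.rfl
  -- fixed points of R all lie in FPs
  have hfixR : ∀ f : G ⧸ (S : Subgroup G), f ∈ MulAction.fixedPoints ↥R (G ⧸ (S : Subgroup G)) →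
      f ∈ FPs := by
    intro f hf
    rw [hmemFPs]
    have hconj : ∀ r ∈ R, f.out⁻¹ * r * f.out ∈ (S : Subgroup G) := by
      intro r hr
      have h1 := hf ⟨r⁻¹, R.inv_mem hr⟩
      have h2 : (r⁻¹ : G) • (QuotientGroup.mk f.out : G ⧸ (S : Subgroup G)) = QuotientGroup.mk f.out := by
        rw [QuotientGroup.out_eq']; exact h1
      rw [MulAction.Quotient.smul_mk, smul_eq_mul, QuotientGroup.eq] at h2
      have e : (r⁻¹ * f.out)⁻¹ * f.out = f.out⁻¹ * r * f.out := by group
      rwa [e] at h2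
    exact ⟨hconj u huR, hcon f.out hconj⟩
  have hcard1 := hR.card_modEq_card_fixedPoints ↥FPs
  have hcard2 := hR.card_modEq_card_fixedPoints (G ⧸ (S : Subgroup G))
  have hequiv : Nat.card (MulAction.fixedPoints ↥R ↥FPs) =
      Nat.card (MulAction.fixedPoints ↥R (G ⧸ (S : Subgroup G))) := by
    apply Nat.card_congr
    refine
      { toFun := fun x => ⟨(x.1 : G ⧸ (S : Subgroup G)), fun r => by
          have := x.2 r
          exact congrArg Subtype.val this⟩
        invFun := fun y => ⟨⟨y.1, hfixR y.1 y.2⟩, fun r => Subtype.ext (y.2 r)⟩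
        left_inv := fun x => rfl
        right_inv := fun y => rfl }
  have hoddF : Odd (Nat.card ↥FPs) := by
    rw [Nat.odd_iff]
    have h3 : Nat.card ↥FPs % 2 = (S : Subgroup G).index % 2 := by
      have h4 : Nat.card ↥FPs ≡ Nat.card (G ⧸ (S : Subgroup G)) [MOD 2] := by
        rw [hequiv] at hcard1
        exact hcard1.trans hcard2.symm
      exact h4
    rw [h3]
    exact Nat.odd_iff.mp hodd
  -- bijection between bad orbits and FPs
  have hout : ∀ f : G ⧸ (S : Subgroup G), f ∈ FPs →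
      (Quotient.mk'' f : Quotient (MulAction.orbitRel (Subgroup.zpowers u) (G ⧸ (S : Subgroup G)))).out = f := by
    intro f hf
    have h1 := Quotient.exact (Quotient.out_eq
      (Quotient.mk'' f : Quotient (MulAction.orbitRel (Subgroup.zpowers u) (G ⧸ (S : Subgroup G)))))
    have h2 : (Quotient.mk'' f : Quotient (MulAction.orbitRel (Subgroup.zpowers u) (G ⧸ (S : Subgroup G)))).out ∈
        MulAction.orbit (Subgroup.zpowers u) f := MulAction.orbitRel_apply.mp h1
    obtain ⟨k, hk⟩ := h2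
    have hfx : u • f = f := hfix' f ((hmemFPs f).mp hf).1
    have hst : Subgroup.zpowers u ≤ MulAction.stabilizer G f :=
      Subgroup.zpowers_le.mpr (MulAction.mem_stabilizer_iff.mpr hfx)
    have h3 := MulAction.mem_stabilizer_iff.mp (hst k.2)
    rw [← hk]
    show (k : G) • f = f
    exact h3
  have hcardQ : Nat.card {q : Quotient (MulAction.orbitRel (Subgroup.zpowers u) (G ⧸ (S : Subgroup G))) //
      (q.out.out⁻¹ * u * q.out.out ∈ (S : Subgroup G) ∧ q.out.out⁻¹ * u * q.out.out ∉ M)} =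
      Nat.card ↥FPs := by
    apply Nat.card_congr
    refine
      { toFun := fun x => ⟨x.1.out, x.2⟩
        invFun := fun y => ⟨Quotient.mk'' y.1, by rw [hout y.1 y.2]; exact y.2⟩
        left_inv := fun x => Subtype.ext (Quotient.out_eq x.1)
        right_inv := fun y => Subtype.ext (hout y.1 y.2) }
  have hT : MonoidHom.transfer (signHom (S : Subgroup G) M hidx) u = -1 := by
    rw [MonoidHom.transfer_eq_prod_quotient_orbitRel_zpowers_quot]
    rw [Finset.prod_congr rfl (fun q _ => hterm q), Finset.prod_ite]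
    simp only [Finset.prod_const_one, mul_one, Finset.prod_const]
    have hc : (Finset.univ.filter (fun q : Quotient (MulAction.orbitRel (Subgroup.zpowers u) (G ⧸ (S : Subgroup G))) =>
        (q.out.out⁻¹ * u * q.out.out ∈ (S : Subgroup G) ∧ q.out.out⁻¹ * u * q.out.out ∉ M))).card =
        Nat.card ↥FPs := by
      rw [← hcardQ, Nat.card_eq_fintype_card, Fintype.card_subtype]
    rw [hc]
    exact hoddF.neg_one_pow
  exact hG _ (index_ker_of_transfer_neg_one _ _ u hT)

end Cfsg.Agent.H16Thompson
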