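import Mathlib

namespace Cfsg.Agent.H16UP

/-- `a!^b * b!` divides `(a*b)!`. -/
theorem fact_pow_dvd (a b : ℕ) (ha : 1 ≤ a) :
    a.factorial ^ b * b.factorial ∣ (a * b).factorial := by
  obtain ⟨a', rfl⟩ : ∃ a', a = a' + 1 := ⟨a - 1, by omega⟩
  induction b with
  | zero => simp
  | succ b ih =>
    have h1 : ((a' + 1) * b + a' + 1) * ((a' + 1) * b + a').choose a' =
        ((a' + 1) * b + a' + 1).choose (a' + 1) * (a' + 1) :=
      Nat.add_one_mul_choose_eq ((a' + 1) * b + a') a'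
    have h2 : ((a' + 1) * b + (a' + 1)).choose (a' + 1) * ((a' + 1) * b).factorial *
        (a' + 1).factorial = ((a' + 1) * b + (a' + 1)).factorial :=
      Nat.add_choose_mul_factorial_mul_factorial _ _
    have h3 : ((a' + 1) * b + (a' + 1)).choose (a' + 1) =
        (b + 1) * ((a' + 1) * b + a').choose a' := by
      have : (a' + 1) * ((a' + 1) * b + a' + 1).choose (a' + 1) =
          (a' + 1) * ((b + 1) * ((a' + 1) * b + a').choose a') := by
        have e : (a' + 1) * b + a' + 1 = (a' + 1) * (b + 1) := by ring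
        rw [e] at h1 ⊢
        linarith [h1]
      exact Nat.eq_of_mul_eq_mul_left (Nat.succ_pos a') this
    have e2 : (a' + 1) * (b + 1) = (a' + 1) * b + (a' + 1) := by ring
    rw [e2, ← h2, h3]
    obtain ⟨c, hc⟩ := ih
    rw [hc, pow_succ, Nat.factorial_succ b]
    exact ⟨((a' + 1) * b + a').choose a' * c, by ring⟩

theorem prime_le_of_dvd_quot (a b r : ℕ) (ha : 1 ≤ a) (hr : r.Prime)
    (hrd : r ∣ (a * b).factorial / (a.factorial ^ b * b.factorial)) : r ≤ a * b := by
  have h1 : (a * b).factorial / (a.factorial ^ b * b.factorial) ∣ (a * b).factorial :=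
    Nat.div_dvd_of_dvd (fact_pow_dvd a b ha)
  exact (hr.dvd_factorial).mp (hrd.trans h1)

/-- The per-`k` condition. -/
def Pk (a b r k : ℕ) : Prop :=
  ∃ m, m * r ≤ b ∧ m * a ≤ k ∧ k ≤ b * (a / r) + m * (a % r)

/-- The closed-form condition. -/
def Rhs (a b r : ℕ) : Prop :=
  r ≤ a ∧ (a % r = 0 ∨ (b % r = 0 ∧ a % r = 1) ∨
        (a % r ≠ 0 ∧ b % r ≠ 0 ∧ (b % r) * (a % r) < r ∧
          (b < r ∨ (b % r + r) * (a % r) ≤ (b % r) * a + r)))

end Cfsg.Agent.H16UP
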