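import Mathlib
import Cfsg.Agent.H16UP1

namespace Cfsg.Agent.H16UP

theorem divmod_decomp (a r : ℕ) (hr : 0 < r) :
    ∃ a₁ a₀, a₀ < r ∧ a = r * a₁ + a₀ ∧ a / r = a₁ ∧ a % r = a₀ :=
  ⟨a / r, a % r, Nat.mod_lt _ hr, (Nat.div_add_mod a r).symm, rfl, rfl⟩

/-- closed form implies every `k` is good. -/
theorem arith1 (a b r : ℕ) (ha : 2 ≤ a) (hb : 2 ≤ b) (hr : 2 ≤ r) (h : Rhs a b r)
    (k : ℕ) (hk1 : 1 ≤ k) (hk : k * r ≤ a * b) : Pk a b r k := by
  obtain ⟨a₁, a₀, ha0, hae, had, ham⟩ := divmod_decomp a r (by omega)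
  obtain ⟨b₁, b₀, hb0, hbe, hbd, hbm⟩ := divmod_decomp b r (by omega)
  unfold Rhs at h
  unfold Pk
  rw [had, ham]
  rw [ham, hbm] at h
  obtain ⟨hra, hcase⟩ := h
  have ha1 : 1 ≤ a₁ := by
    by_contra hc
    have : a₁ = 0 := by omega
    subst this
    omega
  -- common facts
  have hprod : a₀ * b₀ < r := by
    rcases hcase with h0 | ⟨h0, h1⟩ | ⟨_, _, h2, _⟩
    · subst h0; simpa using (by omega : 0 < r)
    · subst h0; simpa using (by omega : 0 < r)
    · rw [Nat.mul_comm]; exact h2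
  have hkey : b₁ = 0 ∨ a₀ ≤ b₀ * a₁ + 1 := by
    rcases hcase with h0 | ⟨h0, h1⟩ | ⟨_, _, _, h3⟩
    · right; omega
    · right; omega
    · rcases h3 with h3 | h3
      · left
        by_contra hc
        have : 1 ≤ b₁ := by omega
        have : r * 1 ≤ r * b₁ := Nat.mul_le_mul_left r this
        omega
      · right
        -- (b₀ + r) * a₀ ≤ b₀ * a + r with a = r a₁ + a₀
        rw [hae] at h3
        have h4 : r * a₀ ≤ r * (b₀ * a₁ + 1) := by nlinarith [h3]
        exact Nat.le_of_mul_le_mul_left h4 (by omega)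
  by_cases hcmp : b₁ ≤ k / a
  · -- m = b₁
    refine ⟨b₁, ?_, ?_, ?_⟩
    · rw [hbe]; nlinarith [Nat.zero_le b₀]
    · calc b₁ * a ≤ (k / a) * a := Nat.mul_le_mul_right a hcmp
        _ ≤ k := Nat.div_mul_le_self k a
    · -- k r ≤ a b = r (a₁ b + a₀ b₁) + a₀ b₀ < r (a₁ b + a₀ b₁ + 1)
      have hab : a * b = r * (a₁ * b + a₀ * b₁) + a₀ * b₀ := by
        have e1 : a₀ * b = a₀ * (r * b₁ + b₀) := by rw [← hbe]
        calc a * b = (r * a₁ + a₀) * b := by rw [← hae]
          _ = r * a₁ * b + a₀ * b := by ring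
          _ = r * a₁ * b + a₀ * (r * b₁ + b₀) := by rw [e1]
          _ = r * (a₁ * b + a₀ * b₁) + a₀ * b₀ := by ring
      have h5 : k * r < (b * a₁ + b₁ * a₀ + 1) * r := by
        calc k * r ≤ a * b := hk
          _ = r * (a₁ * b + a₀ * b₁) + a₀ * b₀ := hab
          _ < r * (a₁ * b + a₀ * b₁) + r := by omega
          _ = (b * a₁ + b₁ * a₀ + 1) * r := by ring
      have h6 : k < b * a₁ + b₁ * a₀ + 1 := Nat.lt_of_mul_lt_mul_right h5
      omega
  · -- m = k / a < b₁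
    push Not at hcmp
    obtain ⟨m, hm⟩ : ∃ m, m = k / a := ⟨_, rfl⟩
    rw [← hm] at hcmp
    have hb1 : b₁ ≠ 0 := by omega
    have hkey' : a₀ ≤ b₀ * a₁ + 1 := by
      rcases hkey with h | h
      · exact absurd h hb1
      · exact h
    have hk2 : k < (m + 1) * a := by
      have := Nat.lt_mul_div_succ k (by omega : 0 < a)
      rw [← hm] at this; nlinarith [this]
    refine ⟨m, ?_, ?_, ?_⟩
    · have : m * r ≤ b₁ * r := Nat.mul_le_mul_right r (by omega)
      rw [hbe]; nlinarith [this]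
    · rw [hm]; exact Nat.div_mul_le_self k a
    · -- (m+1) a ≤ b a₁ + m a₀ + 1
      have hm1 : m + 1 ≤ b₁ := by omega
      have h7 : r * (m + 1) * a₁ ≤ r * b₁ * a₁ :=
        Nat.mul_le_mul_right a₁ (Nat.mul_le_mul_left r hm1)
      have h8 : (m + 1) * a ≤ b * a₁ + m * a₀ + 1 := by
        rw [hae, hbe]
        nlinarith [h7, hkey']
      omega

/-- every `k` good implies the closed form. -/
theorem arith2 (a b r : ℕ) (ha : 2 ≤ a) (hb : 2 ≤ b) (hr : 2 ≤ r) (hrab : r ≤ a * b)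
    (H : ∀ k, 1 ≤ k → k * r ≤ a * b → Pk a b r k) : Rhs a b r := by
  obtain ⟨a₁, a₀, ha0, hae, had, ham⟩ := divmod_decomp a r (by omega)
  obtain ⟨b₁, b₀, hb0, hbe, hbd, hbm⟩ := divmod_decomp b r (by omega)
  unfold Rhs
  unfold Pk at H
  rw [had, ham] at H
  rw [ham, hbm]
  have hab : a * b = r * (a₁ * b + a₀ * b₁) + a₀ * b₀ := by
    have e1 : a₀ * b = a₀ * (r * b₁ + b₀) := by rw [← hbe]
    calc a * b = (r * a₁ + a₀) * b := by rw [← hae]
      _ = r * a₁ * b + a₀ * b := by ring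
      _ = r * a₁ * b + a₀ * (r * b₁ + b₀) := by rw [e1]
      _ = r * (a₁ * b + a₀ * b₁) + a₀ * b₀ := by ring
  -- step 1
  have ha1 : 1 ≤ a₁ := by
    obtain ⟨m, _, hm2, hm3⟩ := H 1 le_rfl (by omega)
    have hm0 : m = 0 := by
      by_contra hc
      have : 1 ≤ m := by omega
      have : 1 * a ≤ m * a := Nat.mul_le_mul_right a this
      omega
    subst hm0
    by_contra hc
    have : a₁ = 0 := by omega
    subst this
    simp at hm3
  have hra : r ≤ a := by
    rw [hae]; nlinarith [ha1]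
  refine ⟨hra, ?_⟩
  by_cases h0 : a₀ = 0
  · left; exact h0
  right
  -- step 3
  have hprod : a₀ * b₀ < r := by
    by_contra hc
    push Not at hc
    obtain ⟨m, hm1, hm2, hm3⟩ := H (a₁ * b + a₀ * b₁ + 1) (by omega) (by
      rw [hab]; nlinarith [hc])
    have hmb : m ≤ b₁ := by
      by_contra hcc
      have : b₁ + 1 ≤ m := by omega
      have : (b₁ + 1) * r ≤ m * r := Nat.mul_le_mul_right r this
      rw [hbe] at hm1
      nlinarith [this, hm1, hb0]
    have : m * a₀ ≤ b₁ * a₀ := Nat.mul_le_mul_right a₀ hmb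
    nlinarith [this, hm3]
  by_cases hb1 : b₁ = 0
  · subst hb1
    have hbb : b = b₀ := by simpa using hbe
    right
    refine ⟨h0, by omega, by rw [Nat.mul_comm]; exact hprod, Or.inl (by omega)⟩
  -- step 5
  have hb1' : 1 ≤ b₁ := by omega
  have hb1a : 2 ≤ b₁ * a := by nlinarith [hb1', ha]
  have hkey : a₀ ≤ b₀ * a₁ + 1 := by
    obtain ⟨m, hm1, hm2, hm3⟩ := H (b₁ * a - 1) (by omega) (by
      have h1 : (b₁ * a - 1) * r ≤ b₁ * a * r := Nat.mul_le_mul_right r (by omega)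
      have h2 : b₁ * a * r ≤ a * b := by
        rw [hbe]; nlinarith [Nat.zero_le (a * b₀)]
      omega)
    have hmb : m + 1 ≤ b₁ := by
      by_contra hcc
      have : b₁ ≤ m := by omega
      have : b₁ * a ≤ m * a := Nat.mul_le_mul_right a this
      omega
    have h9 : m * a₀ + a₀ ≤ b₁ * a₀ := by
      have := Nat.mul_le_mul_right a₀ hmb
      nlinarith [this]
    have h10 : b₁ * a + a₀ ≤ b * a₁ + b₁ * a₀ + 1 := by omega
    rw [hae, hbe] at h10
    nlinarith [h10]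
  by_cases hb00 : b₀ = 0
  · left
    subst hb00
    refine ⟨rfl, by omega⟩
  · right
    refine ⟨h0, hb00, by rw [Nat.mul_comm]; exact hprod, Or.inr ?_⟩
    rw [hae]
    nlinarith [Nat.mul_le_mul_left r hkey]

end Cfsg.Agent.H16UP
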