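import Mathlib
import Cfsg.Agent.H16UP2

namespace Cfsg.Agent.H16UP

theorem fiber_card {n b a : ℕ} (f : Fin n → Fin b)
    (hf : ∀ j : Fin b, Nat.card {x : Fin n // f x = j} = a) (j : Fin b) :
    (Finset.univ.filter (fun x => f x = j)).card = a := by
  rw [← hf j, Nat.card_eq_fintype_card, Fintype.card_subtype]

theorem pow_semiconj {n b : ℕ} (σ : Equiv.Perm (Fin n)) (f : Fin n → Fin b)
    (π : Equiv.Perm (Fin b)) (hπ : ∀ x, f (σ x) = π (f x)) (t : ℕ) (x : Fin n) :
    f ((σ ^ t) x) = (π ^ t) (f x) := by
  induction t with
  | zero => simp
  | succ t ih => rw [pow_succ', pow_succ', Equiv.Perm.mul_apply, Equiv.Perm.mul_apply, hπ, ih]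

theorem necessary {n a b r : ℕ} [hr : Fact r.Prime] (σ : Equiv.Perm (Fin n)) (hσ : σ ^ r = 1)
    (f : Fin n → Fin b) (hf : ∀ j : Fin b, Nat.card {x : Fin n // f x = j} = a)
    (π : Equiv.Perm (Fin b)) (hπ : ∀ x, f (σ x) = π (f x)) (ha : 1 ≤ a) (hn : n = a * b) :
    ∃ m, m * r ≤ b ∧ m * r * a ≤ σ.support.card ∧
      (b - m * r) * (a % r) + σ.support.card ≤ a * b := by
  classical
  have hfib := fiber_card f hf
  -- π ^ r = 1
  have hπr : π ^ r = 1 := by
    ext j
    have hne : (Finset.univ.filter (fun x => f x = j)).Nonempty := by
      rw [← Finset.card_pos, hfib j]; exact ha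
    obtain ⟨x, hx⟩ := hne
    rw [Finset.mem_filter] at hx
    have := pow_semiconj σ f π hπ r x
    rw [hσ, hx.2] at this
    simp only [Equiv.Perm.coe_one, id_eq] at this
    rw [← this, hx.2]
    simp
  -- r ∣ π.support.card
  have hdvd : r ∣ π.support.card := by
    have h1 := Equiv.Perm.card_compl_support_modEq (p := r) (n := 1) (σ := π) (by simpa using hπr)
    rw [Fintype.card_fin] at h1
    have h2 : π.supportᶜ.card ≤ b := by
      have := Finset.card_le_univ (π.supportᶜ)
      simpa using this
    have h3 := (Nat.modEq_iff_dvd' h2).mp h1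
    have h4 : π.supportᶜ.card = b - π.support.card := by
      rw [Finset.card_compl, Fintype.card_fin]
    have h5 : π.support.card ≤ b := by
      have := Finset.card_le_univ (π.support)
      simpa using this
    have h6 : b - π.supportᶜ.card = π.support.card := by omega
    rwa [h6] at h3
  obtain ⟨m, hm⟩ := hdvd
  have hsb : π.support.card ≤ b := by
    have := Finset.card_le_univ (π.support)
    simpa using this
  have hmr : m * r = π.support.card := by rw [hm, Nat.mul_comm]
  refine ⟨m, by omega, ?_, ?_⟩
  · -- lower bound
    have hsub : (Finset.univ.filter (fun x => f x ∈ π.support)) ⊆ σ.support := by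
      intro x hx
      rw [Finset.mem_filter] at hx
      rw [Equiv.Perm.mem_support] at hx ⊢
      intro hfix
      apply hx.2
      rw [← hπ, hfix]
    have hT : (Finset.univ.filter (fun x => f x ∈ π.support)).card = π.support.card * a := by
      have H : ((Finset.univ.filter (fun x => f x ∈ π.support) : Finset (Fin n)) : Set (Fin n)).MapsTo f
          (π.support : Set (Fin b)) := by
        intro x hx
        rw [Finset.mem_coe, Finset.mem_filter] at hx
        exact Finset.mem_coe.mpr hx.2
      rw [Finset.card_eq_sum_card_fiberwise H]
      rw [Finset.sum_congr rfl (g := fun _ => a)]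
      · rw [Finset.sum_const, smul_eq_mul]
      · intro j hj
        rw [← hfib j]
        congr 1
        ext x
        simp only [Finset.mem_filter, Finset.mem_univ, true_and]
        constructor
        · rintro ⟨_, h⟩; exact h
        · intro h; exact ⟨by rw [h]; exact hj, h⟩
    calc m * r * a = π.support.card * a := by rw [hmr]
      _ = _ := hT.symm
      _ ≤ σ.support.card := Finset.card_le_card hsub
  · -- upper bound
    have hfixcard : σ.supportᶜ.card + σ.support.card = a * b := by
      rw [Finset.card_compl, Fintype.card_fin, ← hn]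
      have := Finset.card_le_univ (σ.support)
      simp only [Fintype.card_fin] at this
      omega
    have hper : ∀ j ∈ π.supportᶜ, a % r ≤ (σ.supportᶜ.filter (fun x => f x = j)).card := by
      intro j hj
      rw [Finset.mem_compl, Equiv.Perm.notMem_support] at hj
      have hinv : ∀ x, f (σ x) = j ↔ f x = j := by
        intro x
        rw [hπ]
        constructor
        · intro h
          apply π.injective
          rw [h, hj]
        · intro h; rw [h, hj]
      let σj : Equiv.Perm {x : Fin n // f x = j} := σ.subtypePerm hinv
      have hσj : σj ^ r ^ 1 = 1 := by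
        rw [pow_one]
        ext y
        have : (σj ^ r) y = ⟨(σ ^ r) y.1, by rw [hσ]; exact y.2⟩ := by
          show ((σ.subtypePerm hinv) ^ r) y = _
          rw [Equiv.Perm.subtypePerm_pow]
          rfl
        rw [this]
        simp [hσ]
      have h1 := Equiv.Perm.card_compl_support_modEq (p := r) (n := 1) hσj
      have h2 : Fintype.card {x : Fin n // f x = j} = a := by
        rw [Fintype.card_subtype]; exact hfib j
      rw [h2] at h1
      have h3 : a % r ≤ σj.supportᶜ.card := by
        have : σj.supportᶜ.card % r = a % r := h1
        rw [← this]; exact Nat.mod_le _ _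
      have h4 : σj.supportᶜ.card ≤ (σ.supportᶜ.filter (fun x => f x = j)).card := by
        rw [← Finset.card_map (Function.Embedding.subtype _)]
        apply Finset.card_le_card
        intro x hx
        rw [Finset.mem_map] at hx
        obtain ⟨y, hy, rfl⟩ := hx
        rw [Finset.mem_compl, Equiv.Perm.notMem_support] at hy
        rw [Finset.mem_filter, Finset.mem_compl, Equiv.Perm.notMem_support]
        refine ⟨?_, y.2⟩
        have := congrArg Subtype.val hy
        simpa [σj] using this
      exact h3.trans h4
    have hsum : σ.supportᶜ.card = ∑ j : Fin b, (σ.supportᶜ.filter (fun x => f x = j)).card := by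
      have H : ((σ.supportᶜ : Finset (Fin n)) : Set (Fin n)).MapsTo f
          ((Finset.univ : Finset (Fin b)) : Set (Fin b)) := by
        intro x _
        exact Finset.mem_coe.mpr (Finset.mem_univ _)
      exact Finset.card_eq_sum_card_fiberwise H
    have hle : (b - m * r) * (a % r) ≤ σ.supportᶜ.card := by
      rw [hsum]
      calc (b - m * r) * (a % r) = ∑ _j ∈ π.supportᶜ, a % r := by
            rw [Finset.sum_const, smul_eq_mul, Finset.card_compl, Fintype.card_fin, hmr]
        _ ≤ ∑ j ∈ π.supportᶜ, (σ.supportᶜ.filter (fun x => f x = j)).card :=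
            Finset.sum_le_sum hper
        _ ≤ ∑ j : Fin b, (σ.supportᶜ.filter (fun x => f x = j)).card :=
            Finset.sum_le_sum_of_subset (Finset.subset_univ _)
    omega

end Cfsg.Agent.H16UP
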