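import Mathlib
import Cfsg.Agent.H16UP3

namespace Cfsg.Agent.H16UP

theorem exists_perm_support (N r t : ℕ) (hr : r.Prime) (h : t * r ≤ N) :
    ∃ ρ : Equiv.Perm (Fin N), ρ ^ r = 1 ∧ ρ.support.card = t * r := by
  classical
  obtain ⟨g, hg⟩ := (Equiv.Perm.exists_with_cycleType_iff (α := Fin N)
    (m := Multiset.replicate t r)).mpr
    ⟨by simpa [Multiset.sum_replicate] using h,
     fun x hx => by rw [Multiset.eq_of_mem_replicate hx]; exact hr.two_le⟩
  refine ⟨g, ?_, ?_⟩
  · apply orderOf_dvd_iff_pow_eq_one.mp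
    rw [← Equiv.Perm.lcm_cycleType, hg]
    apply Multiset.lcm_dvd.mpr
    intro x hx; rw [Multiset.eq_of_mem_replicate hx]
  · rw [← Equiv.Perm.sum_cycleType, hg, Multiset.sum_replicate, smul_eq_mul]

theorem exists_bins {ι : Type*} [DecidableEq ι] (S : Finset ι) (cap : ℕ) :
    ∀ d, d ≤ S.card * cap → ∃ c : ι → ℕ, (∀ j, c j ≤ cap) ∧ ∑ j ∈ S, c j = d := by
  induction S using Finset.induction_on with
  | empty =>
    intro d hd
    simp at hd
    subst hd
    exact ⟨fun _ => 0, fun _ => Nat.zero_le _, by simp⟩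
  | insert x S hx ih =>
    intro d hd
    rw [Finset.card_insert_of_notMem hx] at hd
    have hd' : d ≤ S.card * cap + cap := by
      have : (S.card + 1) * cap = S.card * cap + cap := by ring
      omega
    obtain ⟨c, hc1, hc2⟩ := ih (d - min d cap) (by
      rcases le_total d cap with h | h
      · rw [min_eq_left h]; simp
      · rw [min_eq_right h]; omega)
    refine ⟨Function.update c x (min d cap), ?_, ?_⟩
    · intro j
      by_cases hj : j = x
      · subst hj; simp
      · rw [Function.update_of_ne hj]; exact hc1 j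
    · rw [Finset.sum_insert hx, Function.update_self]
      have : ∑ j ∈ S, Function.update c x (min d cap) j = ∑ j ∈ S, c j := by
        apply Finset.sum_congr rfl
        intro j hj
        rw [Function.update_of_ne]
        rintro rfl; exact hx hj
      rw [this, hc2]
      have := min_le_left d cap
      omega

theorem exists_model (a b r m k : ℕ) (hr : r.Prime) (hmr : m * r ≤ b) (hk1 : m * a ≤ k)
    (hk2 : k ≤ m * a + (b - m * r) * (a / r)) :
    ∃ (σ₁ : Equiv.Perm (Fin b × Fin a)) (π₁ : Equiv.Perm (Fin b)),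
      σ₁ ^ r = 1 ∧ σ₁.support.card = k * r ∧ ∀ x, (σ₁ x).1 = π₁ x.1 := by
  classical
  obtain ⟨π₁, hπ1, hπ2⟩ := exists_perm_support b r m hr hmr
  have hScard : (π₁.supportᶜ).card = b - m * r := by
    rw [Finset.card_compl, Fintype.card_fin, hπ2]
  obtain ⟨c, hc1, hc2⟩ := exists_bins (π₁.supportᶜ) (a / r) (k - m * a) (by rw [hScard]; omega)
  have hρ : ∀ j : Fin b, ∃ ρ : Equiv.Perm (Fin a), ρ ^ r = 1 ∧ ρ.support.card = c j * r :=
    fun j => exists_perm_support a r (c j) hr
      (le_trans (Nat.mul_le_mul_right r (hc1 j)) (Nat.div_mul_le_self a r))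
  choose ρ hρ1 hρ2 using hρ
  let e₂ : Fin b → Equiv.Perm (Fin a) := fun j => if π₁ j = j then ρ j else 1
  let σ₁ : Equiv.Perm (Fin b × Fin a) := Equiv.prodShear π₁ e₂
  have hσapp : ∀ x, σ₁ x = (π₁ x.1, e₂ x.1 x.2) := fun x => rfl
  have hpow : ∀ (t : ℕ) (x : Fin b × Fin a), (σ₁ ^ t) x =
      ((π₁ ^ t) x.1, if π₁ x.1 = x.1 then ((ρ x.1) ^ t) x.2 else x.2) := by
    intro t
    induction t with
    | zero => intro x; simp
    | succ t ih =>
      intro x
      rw [pow_succ', Equiv.Perm.mul_apply, ih x, hσapp]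
      by_cases hfix : π₁ x.1 = x.1
      · have h1 : (π₁ ^ t) x.1 = x.1 := Equiv.Perm.pow_apply_eq_self_of_apply_eq_self hfix t
        have h2 : (π₁ ^ (t + 1)) x.1 = x.1 :=
          Equiv.Perm.pow_apply_eq_self_of_apply_eq_self hfix (t + 1)
        simp only [hfix, if_true, h1, h2, e₂]
        rw [pow_succ' (ρ x.1) t, Equiv.Perm.mul_apply]
      · have h1 : π₁ ((π₁ ^ t) x.1) ≠ (π₁ ^ t) x.1 := by
          have : (π₁ ^ t) x.1 ∈ π₁.support :=
            Equiv.Perm.pow_apply_mem_support.mpr (Equiv.Perm.mem_support.mpr hfix)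
          exact Equiv.Perm.mem_support.mp this
        simp only [hfix, if_false, h1, e₂]
        rw [pow_succ' π₁ t, Equiv.Perm.mul_apply]
        rfl
  have hσr : σ₁ ^ r = 1 := by
    ext x
    · rw [hpow r x, hπ1]; rfl
    · rw [hpow r x, hρ1]
      simp
  have hsupp : σ₁.support.card =
      ∑ j : Fin b, (if π₁ j = j then (ρ j).support.card else a) := by
    have h0 : σ₁.support = Finset.univ.filter (fun x => σ₁ x ≠ x) := by
      ext x; simp
    rw [h0, Finset.card_filter, Fintype.sum_prod_type]
    apply Finset.sum_congr rfl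
    intro j _
    by_cases hfix : π₁ j = j
    · rw [if_pos hfix]
      have h1 : (ρ j).support = Finset.univ.filter (fun i => (ρ j) i ≠ i) := by
        ext x; simp
      rw [h1, Finset.card_filter]
      apply Finset.sum_congr rfl
      intro i _
      have : σ₁ (j, i) = (j, ρ j i) := by
        rw [hσapp]; simp only [e₂, hfix, if_true]
      rw [this]
      by_cases hi : ρ j i = i
      · rw [hi]; simp
      · rw [if_pos hi, if_pos]
        intro h; exact hi (congrArg Prod.snd h)
    · rw [if_neg hfix]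
      have : ∀ i : Fin a, σ₁ (j, i) ≠ (j, i) := by
        intro i h
        apply hfix
        have := congrArg Prod.fst h
        rw [hσapp] at this
        exact this
      simp only [this, ne_eq, not_false_eq_true, if_true, Finset.sum_const, Finset.card_univ,
        Fintype.card_fin, smul_eq_mul, mul_one]
  refine ⟨σ₁, π₁, hσr, ?_, fun x => rfl⟩
  rw [hsupp, Finset.sum_ite]
  have hf1 : Finset.univ.filter (fun j => π₁ j = j) = π₁.supportᶜ := by
    ext j; simp
  have hf2 : Finset.univ.filter (fun j => ¬ π₁ j = j) = π₁.support := by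
    ext j; simp
  rw [hf1, hf2, Finset.sum_const, smul_eq_mul, hπ2]
  have : ∑ j ∈ π₁.supportᶜ, (ρ j).support.card = (k - m * a) * r := by
    rw [← hc2, Finset.sum_mul]
    exact Finset.sum_congr rfl (fun j _ => hρ2 j)
  rw [this]
  have hk' : k = (k - m * a) + m * a := by omega
  nth_rewrite 2 [hk']
  ring

end Cfsg.Agent.H16UP
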