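import Mathlib
import Cfsg.Agent.H16UP4

namespace Cfsg.Agent.H16UP

theorem cycleType_of_prime {α : Type*} [Fintype α] [DecidableEq α] (τ : Equiv.Perm α) (r k : ℕ)
    (hr : r.Prime) (hτ : τ ^ r = 1) (hk : 1 ≤ k) (hs : τ.support.card = k * r) :
    τ.cycleType = Multiset.replicate k r := by
  have hne : τ ≠ 1 := by
    rintro rfl
    simp only [Equiv.Perm.support_one, Finset.card_empty] at hs
    have : 0 < k * r := Nat.mul_pos (by omega) hr.pos
    omega
  haveI : Fact r.Prime := ⟨hr⟩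
  have ho : orderOf τ = r := orderOf_eq_prime hτ hne
  obtain ⟨n, hn⟩ := Equiv.Perm.cycleType_prime_order (σ := τ) (by rw [ho]; exact hr)
  rw [ho] at hn
  have hsum := Equiv.Perm.sum_cycleType τ
  rw [hn, Multiset.sum_replicate, smul_eq_mul, hs] at hsum
  have : n + 1 = k := Nat.eq_of_mul_eq_mul_right hr.pos hsum
  rw [hn, this]

theorem pres_of_model {Y : Type*} {a b : ℕ} (E : Fin b × Fin a ≃ Y) (σ : Equiv.Perm Y)
    (σ₁ : Equiv.Perm (Fin b × Fin a)) (π : Equiv.Perm (Fin b))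
    (h1 : ∀ x, σ (E x) = E (σ₁ x)) (h2 : ∀ x, (σ₁ x).1 = π x.1) :
    ∃ f : Y → Fin b, (∀ j : Fin b, Nat.card {x : Y // f x = j} = a) ∧
      ∃ π : Equiv.Perm (Fin b), ∀ x : Y, f (σ x) = π (f x) := by
  refine ⟨fun y => (E.symm y).1, ?_, π, ?_⟩
  · intro j
    have e : {x : Y // (E.symm x).1 = j} ≃ Fin a :=
      { toFun := fun y => (E.symm y.1).2
        invFun := fun i => ⟨E (j, i), by simp⟩
        left_inv := by
          intro y
          apply Subtype.ext
          have : (j, (E.symm y.1).2) = E.symm y.1 := Prod.ext y.2.symm rfl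
          show E (j, (E.symm y.1).2) = y.1
          rw [this, Equiv.apply_symm_apply]
        right_inv := by intro i; simp }
    rw [Nat.card_congr e, Nat.card_eq_fintype_card, Fintype.card_fin]
  · intro y
    obtain ⟨x, rfl⟩ := E.surjective y
    simp only [h1, Equiv.symm_apply_apply, h2]

theorem sufficient (a b r m k : ℕ) (hr : r.Prime) (hmr : m * r ≤ b) (hk0 : 1 ≤ k)
    (hk1 : m * a ≤ k) (hk2 : k ≤ m * a + (b - m * r) * (a / r))
    (σ : Equiv.Perm (Fin (a * b))) (hσ : σ ^ r = 1) (hs : σ.support.card = k * r) :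
    ∃ f : Fin (a * b) → Fin b, (∀ j : Fin b, Nat.card {x : Fin (a * b) // f x = j} = a) ∧
      ∃ π : Equiv.Perm (Fin b), ∀ x, f (σ x) = π (f x) := by
  classical
  obtain ⟨σ₁, π₁, h1, h2, h3⟩ := exists_model a b r m k hr hmr hk1 hk2
  let e : Fin b × Fin a ≃ Fin (a * b) := Fintype.equivFinOfCardEq (by simp [Nat.mul_comm])
  let σ₀ : Equiv.Perm (Fin (a * b)) := e.permCongr σ₁
  have hσ₀app : ∀ x, σ₀ (e x) = e (σ₁ x) := by
    intro x; simp [σ₀, Equiv.permCongr_apply]
  have hσ₀r : σ₀ ^ r = 1 := by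
    have : σ₀ = e.permCongrHom σ₁ := rfl
    rw [this, ← map_pow, h1, map_one]
  have hσ₀s : σ₀.support.card = k * r := by
    rw [← h2, ← Finset.card_map e.toEmbedding]
    congr 1
    ext y
    simp only [Equiv.Perm.mem_support, Finset.mem_map, Equiv.coe_toEmbedding]
    constructor
    · intro hy
      refine ⟨e.symm y, ?_, by simp⟩
      intro h
      apply hy
      have := hσ₀app (e.symm y)
      rw [Equiv.apply_symm_apply] at this
      rw [this, h, Equiv.apply_symm_apply]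
    · rintro ⟨x, hx, rfl⟩
      rw [hσ₀app]
      intro h; exact hx (e.injective h)
  have hc1 := cycleType_of_prime σ r k hr hσ hk0 hs
  have hc0 := cycleType_of_prime σ₀ r k hr hσ₀r hk0 hσ₀s
  have hconj : IsConj σ₀ σ := Equiv.Perm.isConj_iff_cycleType_eq.mpr (by rw [hc0, hc1])
  obtain ⟨τ, hτ⟩ := isConj_iff.mp hconj
  refine pres_of_model (e.trans τ) σ σ₁ π₁ ?_ h3
  intro x
  simp only [Equiv.trans_apply]
  rw [← hτ]
  simp [Equiv.Perm.mul_apply, hσ₀app]

end Cfsg.Agent.H16UP
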