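import Mathlib

set_option autoImplicit false
set_option linter.style.haveILetI false
set_option linter.unusedSectionVars false

namespace Cfsg.Agent.helper1

section
variable {G : Type*} [Group G] [Finite G]

theorem card_sup_eq_of_normal (N H : Subgroup G) [N.Normal] :
    Nat.card (N ⊔ H : Subgroup G) = Nat.card N * N.relIndex H := by
  have h1 : N.relIndex (N ⊔ H) = N.relIndex H := Subgroup.relIndex_sup_left H N
  have := Subgroup.relIndex_mul_relIndex ⊥ N (N ⊔ H) bot_le le_sup_left
  rw [Subgroup.relIndex_bot_left, Subgroup.relIndex_bot_left] at this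
  rw [← this, h1]

theorem isComplement'_of_normal_disjoint_sup (N H : Subgroup G) [N.Normal]
    (h1 : Disjoint N H) (h2 : N ⊔ H = ⊤) : Subgroup.IsComplement' N H := by
  apply Subgroup.isComplement'_of_card_mul_and_disjoint _ h1
  have h3 := card_sup_eq_of_normal N H
  rw [h2] at h3
  rw [← Subgroup.inf_relIndex_right, h1.eq_bot, Subgroup.relIndex_bot_left] at h3
  rw [← h3]
  simp

theorem coatom_sup_eq_top {M N : Subgroup G} (hM : IsCoatom M) (hN : ¬ N ≤ M) : N ⊔ M = ⊤ := by
  by_contra h
  have h1 : M < N ⊔ M := by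
    apply lt_of_le_of_ne le_sup_right
    intro h2
    apply hN
    rw [h2]
    exact le_sup_left
  exact h (hM.2 _ h1)

theorem exists_coatom_not_le_of_not_le_frattini {N : Subgroup G} (hN : ¬ N ≤ frattini G) :
    ∃ M : Subgroup G, IsCoatom M ∧ ¬ N ≤ M := by
  by_contra h
  push Not at h
  apply hN
  unfold frattini Order.radical
  exact le_iInf₂ h

theorem exists_coatom_ge {H : Subgroup G} (hH : H ≠ ⊤) : ∃ M : Subgroup G, IsCoatom M ∧ H ≤ M := by
  rcases eq_top_or_exists_le_coatom H with h | ⟨M, hM, hle⟩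
  · exact absurd h hH
  · exact ⟨M, hM, hle⟩

end

end Cfsg.Agent.helper1
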