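import Mathlib
import Cfsg.Agent.Lib_helper1_Compl
import Cfsg.Agent.Lib_helper1_PGroup
import Cfsg.Agent.Lib_lead_Coprime3

set_option autoImplicit false
set_option linter.unusedSectionVars false
set_option linter.unusedVariables false
set_option linter.style.longLine false
set_option linter.style.haveILetI false
open scoped commutatorElement

/-!
Tools for Huppert's criterion: a finite group all of whose maximal subgroups have prime index is
supersolvable.
-/

namespace Cfsg.Agent.helper18.Hup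

open Subgroup

/-- every maximal subgroup has prime index -/
def MaxPrime (G : Type*) [Group G] : Prop := ∀ M : Subgroup G, IsCoatom M → M.index.Prime

section basic
variable {G : Type*} [Group G]

/-- the comap of a coatom under a surjective hom is a coatom -/
theorem isCoatom_comap {K : Type*} [Group K] (f : G →* K) (hf : Function.Surjective f)
    {M : Subgroup K} (hM : IsCoatom M) : IsCoatom (M.comap f) := by
  constructor
  · intro h
    apply hM.1
    rw [← Subgroup.map_comap_eq_self_of_surjective hf M, h, ← MonoidHom.range_eq_map,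
      MonoidHom.range_eq_top.2 hf]
  · intro L hL
    have hker : f.ker ≤ L := le_trans (Subgroup.ker_le_comap f M) hL.le
    have h1 : M ≤ L.map f := by
      rw [← Subgroup.map_comap_eq_self_of_surjective hf M]
      exact Subgroup.map_mono hL.le
    have h2 : M ≠ L.map f := by
      intro h
      have : M.comap f = L := by
        rw [h, Subgroup.comap_map_eq_self hker]
      exact hL.ne this
    have h3 := hM.2 _ (lt_of_le_of_ne h1 h2)
    rw [← Subgroup.comap_map_eq_self hker, h3, Subgroup.comap_top]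

theorem MaxPrime.of_surjective {K : Type*} [Group K] (hG : MaxPrime G) (f : G →* K)
    (hf : Function.Surjective f) : MaxPrime K := by
  intro M hM
  have := hG _ (isCoatom_comap f hf hM)
  rwa [Subgroup.index_comap_of_surjective M hf] at this

theorem MaxPrime.quotient (hG : MaxPrime G) (N : Subgroup G) [N.Normal] : MaxPrime (G ⧸ N) :=
  hG.of_surjective (QuotientGroup.mk' N) (QuotientGroup.mk'_surjective N)

/-- if all maximal subgroups have prime index, the Sylow subgroup for the largest prime is normal -/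
theorem sylow_normal_of_largest [Finite G] (hG : MaxPrime G) (p : ℕ) [hp : Fact p.Prime]
    (hlarge : ∀ q : ℕ, q.Prime → q ∣ Nat.card G → q ≤ p) (P : Sylow p G) :
    (P : Subgroup G).Normal := by
  by_contra hn
  have hN : Subgroup.normalizer ((P : Subgroup G) : Set G) ≠ ⊤ :=
    fun h => hn (Subgroup.normalizer_eq_top_iff.1 h)
  obtain ⟨M, hM, hNM⟩ := Cfsg.Agent.helper1.exists_coatom_ge hN
  have hq := hG M hM
  have hPM : (P : Subgroup G) ≤ M := le_trans Subgroup.le_normalizer hNM
  have h1 : Nat.card (Sylow p G) = (Subgroup.normalizer ((P : Subgroup G) : Set G)).index :=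
    P.card_eq_index_normalizer
  have h2 : Nat.card (Sylow p M) =
      (Subgroup.normalizer ((P : Subgroup G) : Set G)).relIndex M := by
    rw [(P.subtype hPM).card_eq_index_normalizer]
    have : ((P.subtype hPM : Sylow p M) : Set M) = (((P : Subgroup G).subgroupOf M : Subgroup M) : Set M) := rfl
    rw [this, ← Subgroup.subgroupOf_normalizer_eq hPM]
    rfl
  have h3 := Subgroup.relIndex_mul_index hNM
  have m1 : Nat.card (Sylow p G) ≡ 1 [MOD p] := card_sylow_modEq_one p G
  have m2 : Nat.card (Sylow p M) ≡ 1 [MOD p] := card_sylow_modEq_one p M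
  rw [h1, ← h3, ← h2] at m1
  have m3 : M.index ≡ 1 [MOD p] := by
    have := (m2.mul_right M.index).symm.trans m1
    rwa [one_mul] at this
  have hqd : M.index ∣ Nat.card G := Subgroup.index_dvd_card M
  have hle := hlarge _ hq hqd
  have h1lt : 1 < M.index := hq.one_lt
  have hp1 : 1 < p := hp.out.one_lt
  have : M.index % p = 1 % p := m3
  rw [Nat.mod_eq_of_lt hp1] at this
  rcases hle.lt_or_eq with h | h
  · rw [Nat.mod_eq_of_lt h] at this
    omega
  · rw [h, Nat.mod_self] at this
    omega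

/-- an abelian minimal normal subgroup not contained in a maximal subgroup `M` has order `|G : M|` -/
theorem card_eq_index_of_not_le [Finite G] (N M : Subgroup G) [hN : N.Normal]
    (hab : ∀ a ∈ N, ∀ b ∈ N, a * b = b * a)
    (hmin : ∀ L : Subgroup G, L.Normal → L ≤ N → L = ⊥ ∨ L = N)
    (hM : IsCoatom M) (hNM : ¬ N ≤ M) : Nat.card N = M.index := by
  have htop : N ⊔ M = ⊤ := Cfsg.Agent.helper1.coatom_sup_eq_top hM hNM
  have hnorm : (N ⊓ M).Normal := by
    constructor
    intro x hx g
    have hg : g ∈ N ⊔ M := by rw [htop]; exact Subgroup.mem_top g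
    rw [Subgroup.mem_sup_of_normal_left] at hg
    obtain ⟨n, hn, m, hm, rfl⟩ := hg
    have h1 : m * x * m⁻¹ ∈ N ⊓ M :=
      ⟨hN.conj_mem x hx.1 m, M.mul_mem (M.mul_mem hm hx.2) (M.inv_mem hm)⟩
    have h2 : n * m * x * (n * m)⁻¹ = m * x * m⁻¹ := by
      have h3 := hab n hn (m * x * m⁻¹) h1.1
      calc n * m * x * (n * m)⁻¹ = n * (m * x * m⁻¹) * n⁻¹ := by group
        _ = (m * x * m⁻¹) * n * n⁻¹ := by rw [h3]
        _ = m * x * m⁻¹ := by group
    rw [h2]
    exact h1
  have hbot : N ⊓ M = ⊥ := by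
    rcases hmin _ hnorm inf_le_left with h | h
    · exact h
    · exact absurd (h ▸ inf_le_right) hNM
  have hc : Subgroup.IsComplement' N M :=
    Cfsg.Agent.helper1.isComplement'_of_normal_disjoint_sup N M (disjoint_iff.2 hbot) htop
  exact hc.index_eq_card.symm

/-- commutators and `(p-1)`-th powers centralize a normal subgroup of prime order `p` -/
theorem centralizes_prime_normal {X : Type*} [Group X] (C : Subgroup X) [hC : C.Normal] (p : ℕ)
    [hp : Fact p.Prime] (hcard : Nat.card C = p) (z : X)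
    (hz : (∃ x y : X, z = ⁅x, y⁆) ∨ ∃ x : X, z = x ^ (p - 1)) :
    ∀ c ∈ C, z * c * z⁻¹ = c := by
  haveI : Finite C := Nat.finite_of_card_ne_zero (by rw [hcard]; exact hp.out.ne_zero)
  haveI : IsCyclic C := isCyclic_of_prime_card hcard
  have hcomm : ∀ a b : MulAut C, a * b = b * a := by
    intro a b
    apply (IsCyclic.mulAutMulEquiv C).injective
    rw [map_mul, map_mul, mul_comm]
  have hpow : ∀ a : MulAut C, a ^ (p - 1) = 1 := by
    intro a
    have h1 : Nat.card (MulAut C) = p - 1 := by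
      rw [IsCyclic.card_mulAut, hcard, Nat.totient_prime hp.out]
    haveI : Finite (MulAut C) := Nat.finite_of_card_ne_zero (by
      rw [h1]; have := hp.out.two_le; omega)
    rw [← h1]
    exact pow_card_eq_one'
  have hφ : (MulAut.conjNormal (H := C)) z = 1 := by
    rcases hz with ⟨x, y, rfl⟩ | ⟨x, rfl⟩
    · rw [map_commutatorElement, commutatorElement_def]
      rw [hcomm (MulAut.conjNormal x) (MulAut.conjNormal y)]
      group
    · rw [map_pow]
      exact hpow _
  intro c hc
  have := MulAut.conjNormal_apply (H := C) z ⟨c, hc⟩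
  rw [hφ] at this
  simpa using this.symm

end basic

section trivsec

/-- elements acting trivially on every `G`-normal section of order `p` -/
def trivSec (p : ℕ) (G : Type*) [Group G] : Subgroup G where
  carrier := {g | ∀ A B : Subgroup G, A.Normal → B.Normal → A ≤ B → A.relIndex B = p →
    ∀ b ∈ B, g * b * g⁻¹ * b⁻¹ ∈ A}
  one_mem' := by
    intro A B _ _ _ _ b _
    have : (1 : G) * b * 1⁻¹ * b⁻¹ = 1 := by group
    rw [this]; exact A.one_mem
  mul_mem' := by
    intro g h hg hh A B hA hB hAB hi b hb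
    have h1 := hh A B hA hB hAB hi b hb
    have h2 := hg A B hA hB hAB hi b hb
    have h3 := hA.conj_mem _ h1 g
    have : g * h * b * (g * h)⁻¹ * b⁻¹
        = (g * (h * b * h⁻¹ * b⁻¹) * g⁻¹) * (g * b * g⁻¹ * b⁻¹) := by group
    rw [this]; exact A.mul_mem h3 h2
  inv_mem' := by
    intro g hg A B hA hB hAB hi b hb
    have hb' : g⁻¹ * b * g ∈ B := by simpa using hB.conj_mem b hb g⁻¹
    have h1 := hg A B hA hB hAB hi _ hb'
    have : g⁻¹ * b * g⁻¹⁻¹ * b⁻¹ = (g * (g⁻¹ * b * g) * g⁻¹ * (g⁻¹ * b * g)⁻¹)⁻¹ := by group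
    rw [this]; exact A.inv_mem h1

variable {G : Type*} [Group G]

theorem mem_trivSec_iff (p : ℕ) (g : G) : g ∈ trivSec p G ↔
    ∀ A B : Subgroup G, A.Normal → B.Normal → A ≤ B → A.relIndex B = p →
      ∀ b ∈ B, g * b * g⁻¹ * b⁻¹ ∈ A := Iff.rfl

instance trivSec_normal (p : ℕ) : (trivSec p G).Normal := by
  constructor
  intro g hg x A B hA hB hAB hi b hb
  have hb' : x⁻¹ * b * x ∈ B := by simpa using hB.conj_mem b hb x⁻¹
  have h1 := hg A B hA hB hAB hi _ hb'
  have h2 := hA.conj_mem _ h1 x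
  have : x * g * x⁻¹ * b * (x * g * x⁻¹)⁻¹ * b⁻¹
      = x * (g * (x⁻¹ * b * x) * g⁻¹ * (x⁻¹ * b * x)⁻¹) * x⁻¹ := by group
  rw [this]; exact h2

theorem mem_trivSec_of (p : ℕ) [hp : Fact p.Prime] (z : G)
    (hz : (∃ x y : G, z = ⁅x, y⁆) ∨ ∃ x : G, z = x ^ (p - 1)) : z ∈ trivSec p G := by
  intro A B hA hB hAB hi b hb
  haveI := hA
  have hCn : (B.map (QuotientGroup.mk' A)).Normal :=
    Subgroup.Normal.map hB _ (QuotientGroup.mk'_surjective A)
  have hcard : Nat.card (B.map (QuotientGroup.mk' A)) = p := by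
    rw [← hi]
    have := Subgroup.relIndex_ker B (QuotientGroup.mk' A)
    rw [QuotientGroup.ker_mk'] at this
    exact this.symm
  have hz' : (∃ x y : G ⧸ A, (QuotientGroup.mk' A z) = ⁅x, y⁆) ∨
      ∃ x : G ⧸ A, QuotientGroup.mk' A z = x ^ (p - 1) := by
    rcases hz with ⟨x, y, rfl⟩ | ⟨x, rfl⟩
    · left; exact ⟨_, _, map_commutatorElement _ x y⟩
    · right; exact ⟨_, map_pow _ x _⟩
  have h1 := centralizes_prime_normal (B.map (QuotientGroup.mk' A)) p hcard _ hz'
    (QuotientGroup.mk' A b) ⟨b, hb, rfl⟩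
  have h2 : QuotientGroup.mk' A (z * b * z⁻¹ * b⁻¹) = 1 := by
    rw [map_mul, map_mul, map_mul, map_inv, map_inv, h1, mul_inv_cancel]
  exact (QuotientGroup.eq_one_iff _).1 h2

theorem pgroup_le_trivSec (p : ℕ) [hp : Fact p.Prime] (P : Subgroup G) (hP : IsPGroup p P) :
    P ≤ trivSec p G := by
  intro x hx
  have h2 := hp.out.two_le
  have hcop : p.Coprime (p - 1) :=
    (Nat.Prime.coprime_iff_not_dvd hp.out).2 (Nat.not_dvd_of_pos_of_lt (by omega) (by omega))
  obtain ⟨y, hy⟩ := (hP.powEquiv hcop).surjective ⟨x, hx⟩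
  rw [IsPGroup.powEquiv_apply] at hy
  have : x = (y : G) ^ (p - 1) := by
    have := congrArg Subtype.val hy
    simpa using this.symm
  exact mem_trivSec_of p x (Or.inr ⟨y, this⟩)

/-- a `p'`-subgroup `Q` acting trivially on the `G`-chief factors of order `p` between `N` and the
normal `p`-subgroup `P` satisfies `[P, Q] ≤ N`. -/
theorem commutator_le_of_chief [Finite G] (p : ℕ) [hp : Fact p.Prime] (P N Q : Subgroup G)
    [hPn : P.Normal] [hNn : N.Normal] (hP : IsPGroup p P) (hNP : N ≤ P)
    (hchief : ∀ A : Subgroup G, A.Normal → N ≤ A → A ≤ P → A ≠ P →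
      ∃ B : Subgroup G, B.Normal ∧ A ≤ B ∧ B ≤ P ∧ A.relIndex B = p)
    (hQT : Q ≤ trivSec p G) (hQ : (Nat.card Q).Coprime p) : ⁅P, Q⁆ ≤ N := by
  classical
  let S : Set (Subgroup G) := {A | A.Normal ∧ N ≤ A ∧ A ≤ P ∧ ⁅A, Q⁆ ≤ N}
  have hSfin : S.Finite := Set.toFinite S
  have hSne : S.Nonempty := ⟨N, hNn, le_rfl, hNP, Subgroup.commutator_le_left N Q⟩
  obtain ⟨A, hA⟩ := hSfin.exists_maximal hSne
  obtain ⟨⟨hAn, hNA, hAP, hAQ⟩, hmax⟩ := hA
  by_cases hAeq : A = P
  · rw [← hAeq]; exact hAQ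
  · exfalso
    obtain ⟨B, hBn, hAB, hBP, hi⟩ := hchief A hAn hNA hAP hAeq
    have h1 : ⁅B, Q⁆ ≤ A := by
      rw [Subgroup.commutator_le]
      intro b hb q hq
      have := hQT hq A B hAn hBn hAB hi b hb
      have e : ⁅b, q⁆ = (q * b * q⁻¹ * b⁻¹)⁻¹ := by rw [commutatorElement_def]; group
      rw [e]; exact A.inv_mem this
    have hQB : Q ≤ Subgroup.normalizer (B : Set G) := by
      rw [Subgroup.normalizer_eq_top_iff.2 hBn]; exact le_top
    have hBp : IsPGroup p B := hP.to_le hBP
    have hcop : (Nat.card Q).Coprime (Nat.card B) := by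
      obtain ⟨n, hn⟩ := hBp.exists_card_eq
      rw [hn]
      exact Nat.Coprime.pow_right _ hQ
    haveI : Group.IsNilpotent ↥B := hBp.isNilpotent
    have hsolv : Group.IsSolvable ↥B := IsNilpotent.to_isSolvable
    have h2 := Cfsg.Agent.lead.coprime_commutator_commutator Q B hQB hcop (Or.inr hsolv)
    have h3 : ⁅B, Q⁆ ≤ N := by
      rw [← h2]
      exact le_trans (Subgroup.commutator_mono h1 le_rfl) hAQ
    have hBS : B ∈ S := ⟨hBn, hNA.trans hAB, hBP, h3⟩
    have hBA : B = A := le_antisymm (hmax hBS hAB) hAB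
    rw [hBA, Subgroup.relIndex_self] at hi
    exact hp.out.one_lt.ne hi

/-- The Frattini case: if the normal subgroup `N ≤ Z(P) ∩ Φ(G)` lies below a normal `p`-subgroup `P` with
`p'`-complement `H`, and the chief factors between `N` and `P` have order `p`, then every element
acting trivially on all sections of order `p` centralizes `N`. -/
theorem trivSec_le_centralizer [Finite G] (p : ℕ) [hp : Fact p.Prime] (P N H : Subgroup G)
    [hPn : P.Normal] [hNn : N.Normal] (hP : IsPGroup p P) (hNP : N ≤ P)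
    (hPH : Subgroup.IsComplement' P H) (hH : (Nat.card H).Coprime p)
    (hNΦ : N ≤ frattini G) (hPN : P ≤ Subgroup.centralizer (N : Set G))
    (hchief : ∀ A : Subgroup G, A.Normal → N ≤ A → A ≤ P → A ≠ P →
      ∃ B : Subgroup G, B.Normal ∧ A ≤ B ∧ B ≤ P ∧ A.relIndex B = p) :
    trivSec p G ≤ Subgroup.centralizer (N : Set G) := by
  set Q : Subgroup G := H ⊓ trivSec p G with hQdef
  have hQT : Q ≤ trivSec p G := inf_le_right
  have hQH : Q ≤ H := inf_le_left
  have hQc : (Nat.card Q).Coprime p :=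
    Nat.Coprime.coprime_dvd_left (Subgroup.card_dvd_of_le hQH) hH
  have h2 : ⁅P, Q⁆ ≤ N := commutator_le_of_chief p P N Q hP hNP hchief hQT hQc
  have hQP : Q ≤ Subgroup.normalizer (P : Set G) := by
    rw [Subgroup.normalizer_eq_top_iff.2 hPn]; exact le_top
  have hcop : (Nat.card Q).Coprime (Nat.card P) := by
    obtain ⟨n, hn⟩ := hP.exists_card_eq
    rw [hn]
    exact Nat.Coprime.pow_right _ hQc
  haveI : Group.IsNilpotent ↥P := hP.isNilpotent
  have hsolv : Group.IsSolvable ↥P := IsNilpotent.to_isSolvable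
  have hdec := Cfsg.Agent.lead.coprime_commutator_sup_fixed Q P hQP hcop (Or.inr hsolv)
  set C : Subgroup G := P ⊓ Subgroup.centralizer (Q : Set G) with hCdef
  -- H normalizes C
  have hconj : ∀ h ∈ H, ∀ c ∈ C, h * c * h⁻¹ ∈ C := by
    intro h hh c hc
    refine Subgroup.mem_inf.2 ⟨hPn.conj_mem c hc.1 h, ?_⟩
    rw [Subgroup.mem_centralizer_iff]
    intro q hq
    have hq' : h⁻¹ * q * h ∈ Q := by
      refine ⟨?_, ?_⟩
      · exact H.mul_mem (H.mul_mem (H.inv_mem hh) hq.1) hh
      · have := (trivSec_normal (G := G) p).conj_mem q hq.2 h⁻¹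
        simpa using this
    have h3 := (Subgroup.mem_centralizer_iff.1 hc.2) _ hq'
    calc q * (h * c * h⁻¹) = h * ((h⁻¹ * q * h) * c) * h⁻¹ := by group
      _ = h * (c * (h⁻¹ * q * h)) * h⁻¹ := by rw [h3]
      _ = h * c * h⁻¹ * q := by group
  have hHC : H ≤ Subgroup.normalizer (C : Set G) := by
    intro h hh
    rw [Subgroup.mem_normalizer_iff]
    intro c
    constructor
    · exact hconj h hh c
    · intro hc
      have := hconj h⁻¹ (H.inv_mem hh) _ hc
      have e : h⁻¹ * (h * c * h⁻¹) * h⁻¹⁻¹ = c := by group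
      rwa [e] at this
  have htop : P ⊔ H = ⊤ := hPH.sup_eq_top
  have hK : C ⊔ H = ⊤ := by
    apply frattini_nongenerating
    rw [eq_top_iff, ← htop]
    apply sup_le
    · rw [← hdec]
      apply sup_le
      · exact le_trans h2 (le_trans hNΦ le_sup_right)
      · exact le_trans le_sup_left le_sup_left
    · exact le_trans le_sup_right le_sup_left
  have hCn : C.Normal := by
    rw [← Subgroup.normalizer_eq_top_iff, eq_top_iff, ← hK]
    exact sup_le Subgroup.le_normalizer hHC
  have hdisj : Disjoint C H := by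
    rw [disjoint_iff, eq_bot_iff]
    have : P ⊓ H = ⊥ := hPH.disjoint.eq_bot
    rw [← this]
    exact inf_le_inf_right H inf_le_left
  have hcomp : Subgroup.IsComplement' C H :=
    Cfsg.Agent.helper1.isComplement'_of_normal_disjoint_sup C H hdisj hK
  have hcard : Nat.card C = Nat.card P := by
    have h3 := hcomp.card_mul_card
    have h4 := hPH.card_mul_card
    have hHpos : 0 < Nat.card H := Nat.card_pos
    rw [← h4] at h3
    exact Nat.eq_of_mul_eq_mul_right hHpos h3
  have hCP : C = P := by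
    apply Subgroup.eq_of_le_of_card_ge inf_le_left
    rw [hcard]
  have hPQ : P ≤ Subgroup.centralizer (Q : Set G) := by
    rw [← hCP]; exact inf_le_right
  -- conclusion
  intro d hd
  have hdtop : d ∈ P ⊔ H := by rw [htop]; exact Subgroup.mem_top d
  rw [Subgroup.mem_sup_of_normal_left] at hdtop
  obtain ⟨x, hx, h, hh, rfl⟩ := hdtop
  have hxT : x ∈ trivSec p G := pgroup_le_trivSec p P hP hx
  have hhT : h ∈ trivSec p G := by
    have := (trivSec p G).mul_mem ((trivSec p G).inv_mem hxT) hd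
    simpa using this
  have hhQ : h ∈ Q := ⟨hh, hhT⟩
  rw [Subgroup.mem_centralizer_iff]
  intro n hn
  have e1 : n * x = x * n := Subgroup.mem_centralizer_iff.1 (hPN hx) n hn
  have e2 : h * n = n * h := Subgroup.mem_centralizer_iff.1 (hPQ (hNP hn)) h hhQ
  calc n * (x * h) = (n * x) * h := by group
    _ = x * (n * h) := by rw [e1]; group
    _ = x * (h * n) := by rw [e2]
    _ = x * h * n := by group

end trivsec

section linalg

open Polynomial in
theorem exists_eigenvalue_of_pow (p : ℕ) [hp : Fact p.Prime] {V : Type*} [AddCommGroup V]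
    [Module (ZMod p) V] [Module.Finite (ZMod p) V] [Nontrivial V]
    (f : Module.End (ZMod p) V) (hf : f ^ (p - 1) = 1) : ∃ μ : ZMod p, f.HasEigenvalue μ := by
  have h1 : minpoly (ZMod p) f ∣ (X ^ (p - 1) - 1 : (ZMod p)[X]) :=
    minpoly.dvd _ _ (by simp [hf])
  have hp1 : p - 1 + 1 = p := by have := hp.out.two_le; omega
  have h2 : (X ^ (p - 1) - 1 : (ZMod p)[X]) ∣ X ^ p - X := by
    refine ⟨X, ?_⟩
    have : (X : (ZMod p)[X]) ^ p = X ^ (p - 1) * X := by
      rw [← pow_succ, hp1]
    rw [this]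
    ring
  have hne : (X ^ p - X : (ZMod p)[X]) ≠ 0 :=
    FiniteField.X_pow_card_sub_X_ne_zero (ZMod p) hp.out.one_lt
  have hsplit : (X ^ p - X : (ZMod p)[X]).Splits := by
    rw [Polynomial.splits_iff_card_roots]
    have := FiniteField.roots_X_pow_card_sub_X (ZMod p)
    rw [ZMod.card p] at this
    rw [this, FiniteField.X_pow_card_sub_X_natDegree_eq (ZMod p) hp.out.one_lt]
    simp [ZMod.card p]
  have hms : (minpoly (ZMod p) f).Splits := hsplit.of_dvd hne (h1.trans h2)
  have hdeg : (minpoly (ZMod p) f).degree ≠ 0 :=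
    (minpoly.degree_pos (Algebra.IsIntegral.isIntegral f)).ne'
  obtain ⟨μ, hμ⟩ := hms.exists_eval_eq_zero hdeg
  exact ⟨μ, Module.End.hasEigenvalue_of_isRoot hμ⟩

theorem card_eq_of_commuting_scalar_like (p : ℕ) [hp : Fact p.Prime] {V : Type*} [AddCommGroup V]
    [Module (ZMod p) V] [Finite V] [Nontrivial V]
    (S : Set (Module.End (ZMod p) V))
    (hcomm : ∀ f ∈ S, ∀ g ∈ S, f * g = g * f)
    (hpow : ∀ f ∈ S, f ^ (p - 1) = 1)
    (hirr : ∀ W : Submodule (ZMod p) V, (∀ f ∈ S, ∀ w ∈ W, f w ∈ W) → W = ⊥ ∨ W = ⊤) :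
    Nat.card V = p := by
  have : Module.Finite (ZMod p) V := Module.Finite.of_finite
  have hscalar : ∀ f ∈ S, ∃ μ : ZMod p, ∀ v, f v = μ • v := by
    intro f hf
    obtain ⟨μ, hμ⟩ := exists_eigenvalue_of_pow p f (hpow f hf)
    obtain ⟨x, hx⟩ := hμ.exists_hasEigenvector
    have hinv : ∀ g ∈ S, ∀ w ∈ Module.End.eigenspace f μ, g w ∈ Module.End.eigenspace f μ := by
      intro g hg w hw
      rw [Module.End.mem_eigenspace_iff] at hw ⊢
      have := hcomm f hf g hg
      calc f (g w) = (f * g) w := rfl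
        _ = (g * f) w := by rw [this]
        _ = g (f w) := rfl
        _ = g (μ • w) := by rw [hw]
        _ = μ • g w := map_smul _ _ _
    have hE : Module.End.eigenspace f μ = ⊤ := by
      rcases hirr _ hinv with h | h
      · exfalso
        have h1 : x ∈ Module.End.eigenspace f μ := hx.1
        rw [h] at h1
        exact hx.2 ((Submodule.mem_bot _).1 h1)
      · exact h
    refine ⟨μ, fun v => ?_⟩
    have : v ∈ Module.End.eigenspace f μ := by rw [hE]; trivial
    exact Module.End.mem_eigenspace_iff.1 this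
  obtain ⟨v, hv⟩ := exists_ne (0 : V)
  have hspan : Submodule.span (ZMod p) {v} = ⊤ := by
    have hinv : ∀ f ∈ S, ∀ w ∈ Submodule.span (ZMod p) {v}, f w ∈ Submodule.span (ZMod p) {v} := by
      intro f hf w hw
      obtain ⟨μ, hμ⟩ := hscalar f hf
      rw [hμ]; exact Submodule.smul_mem _ _ hw
    rcases hirr _ hinv with h | h
    · exfalso; apply hv
      have : v ∈ Submodule.span (ZMod p) {v} := Submodule.mem_span_singleton_self v
      rw [h] at this; exact (Submodule.mem_bot _).1 this
    · exact h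
  have hfr : Module.finrank (ZMod p) V = 1 := by
    rw [← finrank_top (ZMod p) V, ← hspan]; exact finrank_span_singleton hv
  have := Module.natCard_eq_pow_finrank (K := ZMod p) (V := V)
  rw [this, hfr, pow_one, Nat.card_zmod]

theorem card_eq_of_aut_aux (p : ℕ) [hp : Fact p.Prime] {A : Type*} [CommGroup A] [Finite A]
    [Nontrivial A] [Module (ZMod p) (Additive A)]
    (S : Set (MulAut A)) (hcomm : ∀ σ ∈ S, ∀ τ ∈ S, σ * τ = τ * σ)
    (hpow : ∀ σ ∈ S, σ ^ (p - 1) = 1)
    (hirr : ∀ B : Subgroup A, (∀ σ ∈ S, ∀ b ∈ B, σ b ∈ B) → B = ⊥ ∨ B = ⊤) : Nat.card A = p := by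
  let lin : MulAut A →* Module.End (ZMod p) (Additive A) :=
    { toFun := fun σ => (MonoidHom.toAdditive σ.toMonoidHom).toZModLinearMap p
      map_one' := by
        apply LinearMap.ext; intro v
        rfl
      map_mul' := by
        intro σ τ; apply LinearMap.ext; intro v
        rfl }
  have key := card_eq_of_commuting_scalar_like p (V := Additive A) (lin '' S) ?_ ?_ ?_
  · exact key
  · rintro _ ⟨σ, hσ, rfl⟩ _ ⟨τ, hτ, rfl⟩
    rw [← lin.map_mul, ← lin.map_mul, hcomm σ hσ τ hτ]
  · rintro _ ⟨σ, hσ, rfl⟩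
    rw [← lin.map_pow, hpow σ hσ, lin.map_one]
  · intro W hW
    let B : Subgroup A :=
      { carrier := {a | Additive.ofMul a ∈ W}
        one_mem' := W.zero_mem
        mul_mem' := fun {a b} ha hb => W.add_mem ha hb
        inv_mem' := fun {a} ha => W.neg_mem ha }
    have hB : ∀ σ ∈ S, ∀ b ∈ B, σ b ∈ B := by
      intro σ hσ b hb
      exact hW (lin σ) ⟨σ, hσ, rfl⟩ (Additive.ofMul b) hb
    rcases hirr B hB with h | h
    · left
      rw [eq_bot_iff]
      intro w hw
      have : Additive.toMul w ∈ B := hw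
      rw [h, Subgroup.mem_bot] at this
      rw [Submodule.mem_bot]
      exact congrArg Additive.ofMul this
    · right
      rw [eq_top_iff]
      intro w _
      have : Additive.toMul w ∈ B := by rw [h]; exact Subgroup.mem_top _
      exact this

set_option linter.style.haveILetI false in
theorem card_eq_of_aut (p : ℕ) [hp : Fact p.Prime] {A : Type*} [Group A] [Finite A] [Nontrivial A]
    (hab : ∀ a b : A, a * b = b * a) (hexp : ∀ a : A, a ^ p = 1)
    (S : Set (MulAut A)) (hcomm : ∀ σ ∈ S, ∀ τ ∈ S, σ * τ = τ * σ)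
    (hpow : ∀ σ ∈ S, σ ^ (p - 1) = 1)
    (hirr : ∀ B : Subgroup A, (∀ σ ∈ S, ∀ b ∈ B, σ b ∈ B) → B = ⊥ ∨ B = ⊤) : Nat.card A = p := by
  letI instC : CommGroup A := { (inferInstance : Group A) with mul_comm := hab }
  letI instM : Module (ZMod p) (Additive A) := AddCommGroup.zmodModule (n := p) (by
    intro x
    exact congrArg Additive.ofMul (hexp (Additive.toMul x)))
  exact card_eq_of_aut_aux p S hcomm hpow hirr

end linalg

section final
variable {G : Type*} [Group G]

/-- A minimal normal abelian `p`-subgroup `N` on which `G` acts through an abelian group of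
exponent dividing `p - 1` has order `p`. -/
theorem card_eq_prime_of_abelian_action [Finite G] (p : ℕ) [hp : Fact p.Prime] (N : Subgroup G)
    [hNn : N.Normal] (hN : N ≠ ⊥) (hNp : IsPGroup p N)
    (hab : ∀ a ∈ N, ∀ b ∈ N, a * b = b * a)
    (hmin : ∀ L : Subgroup G, L.Normal → L ≤ N → L = ⊥ ∨ L = N)
    (hcomm : ∀ g h : G, ⁅g, h⁆ ∈ Subgroup.centralizer (N : Set G))
    (hpow : ∀ g : G, g ^ (p - 1) ∈ Subgroup.centralizer (N : Set G)) : Nat.card N = p := by
  haveI hNnt : Nontrivial ↥N := (Subgroup.nontrivial_iff_ne_bot N).2 hN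
  -- exponent p
  let Ω : Subgroup G :=
    { carrier := {x | x ∈ N ∧ x ^ p = 1}
      one_mem' := ⟨N.one_mem, one_pow p⟩
      mul_mem' := by
        rintro x y ⟨hx, hx1⟩ ⟨hy, hy1⟩
        refine ⟨N.mul_mem hx hy, ?_⟩
        have hc : Commute x y := hab x hx y hy
        rw [hc.mul_pow, hx1, hy1, one_mul]
      inv_mem' := by
        rintro x ⟨hx, hx1⟩
        exact ⟨N.inv_mem hx, by rw [inv_pow, hx1, inv_one]⟩ }
  have hΩn : Ω.Normal := by
    constructor
    rintro x ⟨hx, hx1⟩ g
    exact ⟨hNn.conj_mem x hx g, by rw [conj_pow, hx1, mul_one, mul_inv_cancel]⟩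
  have hΩN : Ω ≤ N := fun x hx => hx.1
  have hΩne : Ω ≠ ⊥ := by
    have hdvd : p ∣ Nat.card ↥N := by
      rcases hNp.card_eq_or_dvd with h | h
      · exfalso
        have := (Nat.card_eq_one_iff_unique.1 h).1
        exact not_subsingleton ↥N this
      · exact h
    obtain ⟨x, hx⟩ := exists_prime_orderOf_dvd_card' p hdvd
    intro hbot
    have hxΩ : (x : G) ∈ Ω := by
      refine ⟨x.2, ?_⟩
      have : x ^ p = 1 := by rw [← hx]; exact pow_orderOf_eq_one x
      have := congrArg Subtype.val this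
      simpa using this
    rw [hbot, Subgroup.mem_bot] at hxΩ
    have hx1 : x = 1 := Subtype.ext hxΩ
    rw [hx1, orderOf_one] at hx
    exact hp.out.one_lt.ne hx
  have hΩeq : Ω = N := by
    rcases hmin Ω hΩn hΩN with h | h
    · exact absurd h hΩne
    · exact h
  have hexp : ∀ a : ↥N, a ^ p = 1 := by
    intro a
    have : (a : G) ∈ Ω := by rw [hΩeq]; exact a.2
    exact Subtype.ext (by simpa using this.2)
  have hab' : ∀ a b : ↥N, a * b = b * a := fun a b => Subtype.ext (hab a a.2 b b.2)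
  -- conjugation by centralizing elements is trivial
  have htriv : ∀ z : G, z ∈ Subgroup.centralizer (N : Set G) →
      MulAut.conjNormal (H := N) z = 1 := by
    intro z hz
    apply MulEquiv.ext
    intro n
    apply Subtype.ext
    rw [MulAut.conjNormal_apply]
    have := Subgroup.mem_centralizer_iff.1 hz n n.2
    rw [← this]
    simp
  apply card_eq_of_aut p hab' hexp (Set.range (MulAut.conjNormal (H := N)))
  · rintro _ ⟨g, rfl⟩ _ ⟨h, rfl⟩
    have e : g * h = ⁅g, h⁆ * (h * g) := by rw [commutatorElement_def]; group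
    rw [← map_mul, ← map_mul, e, map_mul, htriv _ (hcomm g h), one_mul]
  · rintro _ ⟨g, rfl⟩
    rw [← map_pow]
    exact htriv _ (hpow g)
  · intro B hB
    have hLn : (B.map N.subtype).Normal := by
      constructor
      rintro _ ⟨b, hb, rfl⟩ g
      refine ⟨MulAut.conjNormal g b, hB _ ⟨g, rfl⟩ b hb, ?_⟩
      exact MulAut.conjNormal_apply g b
    rcases hmin _ hLn (Subgroup.map_subtype_le B) with h | h
    · left
      exact (Subgroup.map_eq_bot_iff_of_injective B N.subtype_injective).1 h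
    · right
      apply Subgroup.map_injective N.subtype_injective
      rw [h, ← MonoidHom.range_eq_map, Subgroup.range_subtype]

/-- a minimal normal subgroup below a nontrivial normal subgroup -/
theorem exists_min_normal_le [Finite G] (Z : Subgroup G) [hZ : Z.Normal] (hZne : Z ≠ ⊥) :
    ∃ N : Subgroup G, N.Normal ∧ N ≠ ⊥ ∧ N ≤ Z ∧
      ∀ L : Subgroup G, L.Normal → L ≤ N → L = ⊥ ∨ L = N := by
  let S : Set (Subgroup G) := {N | N.Normal ∧ N ≠ ⊥ ∧ N ≤ Z}
  obtain ⟨N, hN⟩ := (Set.toFinite S).exists_minimal ⟨Z, hZ, hZne, le_rfl⟩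
  obtain ⟨⟨hNn, hNne, hNZ⟩, hmin⟩ := hN
  refine ⟨N, hNn, hNne, hNZ, fun L hL hLN => ?_⟩
  by_cases hL0 : L = ⊥
  · left; exact hL0
  · right; exact le_antisymm hLN (hmin ⟨hL, hL0, hLN.trans hNZ⟩ hLN)

end final

end Cfsg.Agent.helper18.Hup
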