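import Cfsg.Statements.S0034
import Mathlib
import Cfsg.Agent.Lib_helper21_FrobCount

set_option autoImplicit false
set_option linter.style.haveILetI false
set_option linter.unusedVariables false
open Cfsg
open scoped Pointwise

namespace Cfsg.Agent.S0034

/-- For a Frobenius complement H, the set of elements lying in no conjugate of H, together with 1, has exactly as many elements as the index of H, and that index is congruent to 1 modulo the order of H. -/
theorem result {G : Type*} [Group G] [Finite G] (H : Subgroup G) (hH : Cfsg.IsFrobeniusComplement H) :
    Nat.card (Cfsg.frobeniusKernel H) = H.index ∧ H.index % Nat.card H = 1 % Nat.card H := by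
  constructor
  · rw [← Cfsg.Agent.helper21.frobc_kernel_card H hH]
    apply Nat.card_congr
    apply Equiv.subtypeEquivRight
    intro x
    show (x = 1 ∨ ∀ g : G, x ∉ MulAut.conj g • H) ↔ _
    simp only [Cfsg.Agent.helper21.frobc_mem_conj]
  · obtain ⟨t, ht⟩ := Cfsg.Agent.helper21.frobc_card_dvd H hH
    have hpos : 0 < H.index := Nat.pos_of_ne_zero Subgroup.index_ne_zero_of_finite
    have : H.index = 1 + Nat.card H * t := by omega
    rw [this, Nat.add_mul_mod_self_left]

end Cfsg.Agent.S0034
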