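import Cfsg.Statements.S0035
import Mathlib
import Cfsg.Agent.Lib_helper1_FrobThm
import Cfsg.Agent.Lib_helper3_Basic
import Cfsg.Agent.S0034

set_option autoImplicit false
set_option linter.style.haveILetI false
set_option linter.unusedVariables false
open Cfsg
open scoped Pointwise

namespace Cfsg.Agent.S0035

/-- Frobenius' Theorem: if H is a Frobenius complement in a finite group, the identity together with the elements lying in no conjugate of H form a normal subgroup, which is a complement to H. -/
theorem result {G : Type*} [Group G] [Finite G] (H : Subgroup G) (hH : Cfsg.IsFrobeniusComplement H) :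
    ∃ N : Subgroup G, (N : Set G) = Cfsg.frobeniusKernel H ∧ N.Normal ∧ Subgroup.IsComplement' N H := by
  classical
  have hTI : ∀ g : G, g ∉ H → ∀ t ∈ H, g * t * g⁻¹ ∈ H → t = 1 := by
    intro g hg t ht hgt
    have hg' : g⁻¹ ∉ H := fun h => hg (by simpa using H.inv_mem h)
    have h1 := hH.2.2 g⁻¹ hg'
    have h3 : t ∈ MulAut.conj g⁻¹ • H := by
      rw [Cfsg.Agent.helper3.mem_conj_smul_iff]
      simpa using hgt
    have h2 : t ∈ H ⊓ MulAut.conj g⁻¹ • H := Subgroup.mem_inf.mpr ⟨ht, h3⟩
    rw [h1, Subgroup.mem_bot] at h2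
    exact h2
  obtain ⟨N, hNn, hNH, hmem⟩ := Cfsg.Agent.helper1.frobenius_kernel_exists H hTI
  have hset : (N : Set G) = Cfsg.frobeniusKernel H := by
    ext x
    show x ∈ N ↔ (x = 1 ∨ ∀ g : G, x ∉ MulAut.conj g • H)
    rw [hmem x]
    simp only [Cfsg.Agent.helper3.mem_conj_smul_iff]
  refine ⟨N, hset, hNn, ?_⟩
  apply Subgroup.isComplement'_of_card_mul_and_disjoint
  · have h1 := (Cfsg.Agent.S0034.result H hH).1
    have h2 : Nat.card N = Nat.card (Cfsg.frobeniusKernel H) := by
      rw [← hset]; rfl
    rw [h2, h1, mul_comm, Subgroup.card_mul_index]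
  · exact disjoint_iff.mpr hNH

end Cfsg.Agent.S0035
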