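import Mathlib
import Cfsg.Agent.S0039
import Cfsg.Agent.S0034
import Cfsg.Agent.S0035
import Cfsg.Agent.S0069
import Cfsg.Agent.S0041
import Cfsg.Agent.Lib_helper18_Huppert
import Cfsg.Agent.Lib_helper18_SolvPrim

/-!
# Solvable groups with disconnected prime graph (helper18)

`NoMix S X`: no element of order `p * q` with `p ∈ S`, `q ∉ S` primes.
`SNum S n`: all prime divisors of `n` lie in `S`.
Main result `main`: a finite solvable group with `NoMix S G`, having a nontrivial normal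
`S`-subgroup and a prime divisor outside `S`, is Frobenius or 2-Frobenius.
-/

set_option autoImplicit false

open scoped commutatorElement

namespace Cfsg.Agent.helper18.PG

open Subgroup

def NoMix (S : Set ℕ) (X : Type*) [Group X] : Prop :=
  ∀ p ∈ S, ∀ q ∉ S, p.Prime → q.Prime → ∀ g : X, orderOf g ≠ p * q

def SNum (S : Set ℕ) (n : ℕ) : Prop := ∀ p : ℕ, p.Prime → p ∣ n → p ∈ S

theorem SNum.of_dvd {S : Set ℕ} {m n : ℕ} (h : SNum S n) (hd : m ∣ n) : SNum S m :=
  fun p hp hpm => h p hp (hpm.trans hd)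

theorem SNum.mul {S : Set ℕ} {m n : ℕ} (hm : SNum S m) (hn : SNum S n) : SNum S (m * n) := by
  intro p hp hd
  rcases (Nat.Prime.dvd_mul hp).mp hd with h | h
  · exact hm p hp h
  · exact hn p hp h

theorem SNum.coprime {S : Set ℕ} {m n : ℕ} (hm : SNum S m) (hn : SNum Sᶜ n) : m.Coprime n := by
  apply Nat.coprime_of_dvd
  intro k hk hkm hkn
  exact hn k hk hkn (hm k hk hkm)

theorem sNum_prime {S : Set ℕ} {q : ℕ} (hq : q.Prime) (h : q ∈ S) : SNum S q := by
  intro p hp hd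
  rw [(Nat.prime_dvd_prime_iff_eq hp hq).mp hd]; exact h

theorem NoMix.compl {S : Set ℕ} {X : Type*} [Group X] (h : NoMix S X) : NoMix Sᶜ X := by
  intro p hp q hq hpp hqp g hg
  have hqS : q ∈ S := Set.notMem_compl_iff.mp hq
  exact h q hqS p hp hqp hpp g (by rw [hg, mul_comm])

theorem NoMix.of_injective {S : Set ℕ} {X Y : Type*} [Group X] [Group Y] (h : NoMix S X)
    (f : Y →* X) (hf : Function.Injective f) : NoMix S Y := by
  intro p hp q hq hpp hqp g hg
  exact h p hp q hq hpp hqp (f g) (by rw [orderOf_injective f hf g, hg])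

theorem NoMix.of_surjective {S : Set ℕ} {X Y : Type*} [Group X] [Finite X] [Group Y]
    (h : NoMix S X) (f : X →* Y) (hf : Function.Surjective f) : NoMix S Y := by
  intro p hp q hq hpp hqp y hy
  obtain ⟨x, rfl⟩ := hf y
  obtain ⟨t, ht⟩ := orderOf_map_dvd f x
  have hx0 : 0 < orderOf x := orderOf_pos x
  have ht0 : t ≠ 0 := by
    rintro rfl
    rw [mul_zero] at ht
    omega
  have hxt : orderOf (x ^ t) = p * q := by
    rw [orderOf_pow_of_dvd ht0 ⟨_, by rw [ht, mul_comm]⟩, ht, hy]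
    exact Nat.mul_div_cancel _ (Nat.pos_of_ne_zero ht0)
  exact h p hp q hq hpp hqp _ hxt

/-- elements of prime orders `p ∈ S`, `q ∉ S` never commute -/
theorem NoMix.no_commute_prime {S : Set ℕ} {X : Type*} [Group X] (h : NoMix S X) (x y : X)
    (hc : Commute x y) {p q : ℕ} (hp : p.Prime) (hq : q.Prime) (hpS : p ∈ S) (hqS : q ∉ S)
    (hx : orderOf x = p) (hy : orderOf y = q) : False := by
  have hcop : (orderOf x).Coprime (orderOf y) := by
    rw [hx, hy]
    exact (Nat.coprime_primes hp hq).mpr (fun e => hqS (e ▸ hpS))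
  have h3 := hc.orderOf_mul_eq_mul_orderOf_of_coprime hcop
  rw [hx, hy] at h3
  exact h p hpS q hqS hp hq _ h3

theorem exists_pow_orderOf_prime {X : Type*} [Group X] [Finite X] (x : X) (hx : x ≠ 1) :
    ∃ p : ℕ, p.Prime ∧ p ∣ orderOf x ∧ ∃ a : ℕ, orderOf (x ^ a) = p := by
  have hox : orderOf x ≠ 1 := by rwa [Ne, orderOf_eq_one_iff]
  obtain ⟨p, hp, hpd⟩ := Nat.exists_prime_and_dvd hox
  obtain ⟨a, ha⟩ := hpd
  have hx0 : 0 < orderOf x := orderOf_pos x
  have ha0 : a ≠ 0 := by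
    rintro rfl
    rw [mul_zero] at ha
    omega
  refine ⟨p, hp, ⟨a, ha⟩, a, ?_⟩
  rw [orderOf_pow_of_dvd ha0 ⟨p, by rw [ha, mul_comm]⟩, ha]
  exact Nat.mul_div_cancel _ (Nat.pos_of_ne_zero ha0)

theorem NoMix.no_commute {S : Set ℕ} {X : Type*} [Group X] [Finite X] (h : NoMix S X) (x y : X)
    (hc : Commute x y) (hx : x ≠ 1) (hy : y ≠ 1) (hxS : SNum S (orderOf x))
    (hyS : SNum Sᶜ (orderOf y)) : False := by
  obtain ⟨p, hp, hpd, a, ha⟩ := exists_pow_orderOf_prime x hx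
  obtain ⟨q, hq, hqd, b, hb⟩ := exists_pow_orderOf_prime y hy
  exact h.no_commute_prime (x ^ a) (y ^ b) ((hc.pow_left a).pow_right b) hp hq (hxS p hp hpd)
    (hyS q hq hqd) ha hb

/-- an abelian subgroup has order an `S`-number or an `S'`-number -/
theorem sNum_or_of_comm {S : Set ℕ} {X : Type*} [Group X] [Finite X] (hX : NoMix S X)
    (M : Subgroup X) (hM : ∀ x ∈ M, ∀ y ∈ M, x * y = y * x) :
    SNum S (Nat.card M) ∨ SNum Sᶜ (Nat.card M) := by
  by_contra hcon
  rw [not_or] at hcon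
  obtain ⟨h1, h2⟩ := hcon
  unfold SNum at h1 h2
  push Not at h1 h2
  obtain ⟨q, hq, hqd, hqS⟩ := h1
  obtain ⟨p, hp, hpd, hpS⟩ := h2
  have hpS' : p ∈ S := Set.notMem_compl_iff.mp hpS
  haveI := Fact.mk hp
  haveI := Fact.mk hq
  obtain ⟨x, hx⟩ := exists_prime_orderOf_dvd_card' p hpd
  obtain ⟨y, hy⟩ := exists_prime_orderOf_dvd_card' q hqd
  exact hX.no_commute_prime (x : X) (y : X) (hM x x.2 y y.2) hp hq hpS' hqS
    (by rw [Subgroup.orderOf_coe, hx]) (by rw [Subgroup.orderOf_coe, hy])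

/-- a nontrivial normal subgroup of a finite solvable group contains a nontrivial abelian normal
subgroup of the whole group -/
theorem exists_abelian_normal_le {G : Type*} [Group G] [Finite G] [Group.IsSolvable G]
    (Z : Subgroup G) [Z.Normal] (hZ : Z ≠ ⊥) :
    ∃ M : Subgroup G, M.Normal ∧ M ≠ ⊥ ∧ M ≤ Z ∧ ∀ x ∈ M, ∀ y ∈ M, x * y = y * x := by
  obtain ⟨N, hNn, hNb, hNZ, hmin⟩ := Cfsg.Agent.helper18.Hup.exists_min_normal_le Z hZ
  haveI := hNn
  exact ⟨N, hNn, hNb, hNZ, Cfsg.Agent.helper18.SolvPrim.comm_of_minimal_normal N hNb hmin⟩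

theorem card_eq_card_mul_relIndex {G : Type*} [Group G] (H L : Subgroup G) (h : H ≤ L) :
    Nat.card L = Nat.card H * H.relIndex L := by
  have := Subgroup.relIndex_mul_relIndex ⊥ H L bot_le h
  rw [Subgroup.relIndex_bot_left, Subgroup.relIndex_bot_left] at this
  exact this.symm

theorem relIndex_eq_card_map {G : Type*} [Group G] (H : Subgroup G) [H.Normal] (L : Subgroup G) :
    H.relIndex L = Nat.card (L.map (QuotientGroup.mk' H)) := by
  have := Subgroup.relIndex_ker L (QuotientGroup.mk' H)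
  rwa [QuotientGroup.ker_mk'] at this

/-- Theorem A: a normal Hall `S`-subgroup (nontrivial, proper) of a `NoMix` group is the kernel of
a Frobenius complement. -/
theorem frobenius_of_noMix {S : Set ℕ} {X : Type*} [Group X] [Finite X] (hX : NoMix S X)
    (N : Subgroup X) [hN : N.Normal] (hNb : N ≠ ⊥) (hNt : N ≠ ⊤)
    (h1 : SNum S (Nat.card N)) (h2 : SNum Sᶜ N.index) :
    ∃ C : Subgroup X, Cfsg.IsFrobeniusComplement C ∧ Cfsg.frobeniusKernel C = (N : Set X) ∧
      N.IsComplement' C ∧ (∀ c ∈ C, c ≠ 1 → N ⊓ Subgroup.centralizer {c} = ⊥) := by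
  obtain ⟨C, hC⟩ := Subgroup.exists_right_complement'_of_coprime (h1.coprime h2)
  have hCcard : N.index = Nat.card C := hC.symm.index_eq_card
  have hCidx : C.index = Nat.card N := hC.index_eq_card
  have hfpf : ∀ c ∈ C, c ≠ 1 → N ⊓ Subgroup.centralizer {c} = ⊥ := by
    intro c hc hc1
    rw [eq_bot_iff]
    intro x hx
    rw [Subgroup.mem_bot]
    by_contra hx1
    obtain ⟨hxN, hxc⟩ := Subgroup.mem_inf.mp hx
    rw [Subgroup.mem_centralizer_iff] at hxc
    have hcomm : Commute x c := (hxc c rfl).symm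
    refine hX.no_commute x c hcomm hx1 hc1 (h1.of_dvd (Subgroup.orderOf_dvd_natCard N hxN)) ?_
    apply h2.of_dvd
    rw [hCcard]
    exact Subgroup.orderOf_dvd_natCard C hc
  have hCb : C ≠ ⊥ := by
    intro h
    apply hNt
    rw [← Subgroup.index_eq_one, hCcard, h]
    exact Subgroup.card_bot
  have hF : Cfsg.IsFrobeniusComplement C := (Cfsg.Agent.S0039.result N C hC hNb hCb).mpr hfpf
  refine ⟨C, hF, ?_, hC, hfpf⟩
  have hsub : (N : Set X) ⊆ Cfsg.frobeniusKernel C := by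
    intro x hx
    by_cases hx1 : x = 1
    · left; exact hx1
    · right
      intro g hg
      rw [Subgroup.mem_pointwise_smul_iff_inv_smul_mem, MulAut.smul_def, MulAut.conj_inv_apply] at hg
      have hgN : g⁻¹ * x * g ∈ N := by
        have := hN.conj_mem x hx g⁻¹
        rwa [inv_inv] at this
      have hbot : g⁻¹ * x * g ∈ N ⊓ C := ⟨hgN, hg⟩
      rw [hC.disjoint.eq_bot, Subgroup.mem_bot] at hbot
      apply hx1
      have : x = g * (g⁻¹ * x * g) * g⁻¹ := by group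
      rw [this, hbot]; group
  symm
  apply Set.eq_of_subset_of_ncard_le hsub _ (Set.toFinite _)
  rw [← Nat.card_coe_set_eq, ← Nat.card_coe_set_eq, (Cfsg.Agent.S0034.result C hF).1, hCidx]
  rfl

/-- Lemma D: in the 2-Frobenius situation the top quotient `G/K` is an `S`-group. -/
theorem index_sNum_of_maximal {S : Set ℕ} {G : Type*} [Group G] [Finite G] (hG : NoMix S G)
    (H K : Subgroup G) [hHn : H.Normal] [hKn : K.Normal] (hHK : H ≤ K)
    (hHS : SNum S (Nat.card H)) (hKS : SNum Sᶜ (H.relIndex K))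
    (hmax : ∀ L : Subgroup G, L.Normal → K ≤ L → SNum Sᶜ (H.relIndex L) → L ≤ K)
    (M : Subgroup G) [hMn : M.Normal] (hMb : M ≠ ⊥) (hMH : M ≤ H)
    (hMc : ∀ x ∈ M, ∀ y ∈ M, x * y = y * x)
    (B' : Subgroup ↥K) (hB' : (H.subgroupOf K).IsComplement' B') (hB'b : B' ≠ ⊥)
    (hfpf : ∀ c ∈ B', c ≠ 1 → (H.subgroupOf K) ⊓ Subgroup.centralizer {c} = ⊥) :
    SNum S K.index := by
  classical
  set π := QuotientGroup.mk' H with hπ
  have hπs : Function.Surjective π := QuotientGroup.mk'_surjective H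
  have hX : NoMix S (G ⧸ H) := hG.of_surjective π hπs
  have hHb : H ≠ ⊥ := fun h => hMb (eq_bot_iff.mpr (h ▸ hMH))
  haveI hHKn : (H.subgroupOf K).Normal := hHn.subgroupOf K
  have hHKb : H.subgroupOf K ≠ ⊥ := by
    rw [Ne, Subgroup.subgroupOf_eq_bot, disjoint_iff, inf_of_le_left hHK]; exact hHb
  -- `B` as a subgroup of `G`
  set B : Subgroup G := B'.map K.subtype with hB
  have hBK : B ≤ K := by
    rintro _ ⟨b, _, rfl⟩; exact b.2
  have hBH : ∀ b ∈ B, b ∈ H → b = 1 := by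
    rintro _ ⟨b, hb, rfl⟩ hbH
    have : b ∈ H.subgroupOf K ⊓ B' := ⟨Subgroup.mem_subgroupOf.mpr hbH, hb⟩
    rw [hB'.disjoint.eq_bot, Subgroup.mem_bot] at this
    rw [this]; rfl
  have hcardB : Nat.card B = H.relIndex K := by
    rw [hB, Subgroup.card_map_of_injective K.subtype_injective]
    exact hB'.symm.index_eq_card.symm
  have hBS : ∀ b ∈ B, SNum Sᶜ (orderOf b) := fun b hb =>
    hKS.of_dvd (hcardB ▸ Subgroup.orderOf_dvd_natCard B hb)
  have hdec : ∀ k ∈ K, ∃ b ∈ B, π k = π b := by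
    intro k hk
    obtain ⟨⟨n, c⟩, hnc⟩ := hB'.2 ⟨k, hk⟩
    refine ⟨((c : ↥K) : G), ⟨(c : ↥K), c.2, rfl⟩, ?_⟩
    have hk' : k = ((n : ↥K) : G) * ((c : ↥K) : G) := by
      have := congrArg (fun z : ↥K => (z : G)) hnc
      simpa using this.symm
    rw [hk', map_mul]
    have : π ((n : ↥K) : G) = 1 :=
      (QuotientGroup.eq_one_iff _).mpr (Subgroup.mem_subgroupOf.mp n.2)
    rw [this, one_mul]
  -- a central element of `B`
  have hcen := Cfsg.Agent.S0069.result (H.subgroupOf K) B' hB' hHKb hB'b hfpf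
  obtain ⟨z', hz'mem, hz'1⟩ := (Subgroup.bot_or_exists_ne_one _).resolve_left hcen
  set z : G := ((z' : ↥K) : G) with hz
  have hzB : z ∈ B := ⟨(z' : ↥K), z'.2, rfl⟩
  have hz1 : z ≠ 1 := by
    intro h
    apply hz'1
    apply Subtype.ext; apply Subtype.ext
    exact h
  have hzcomm : ∀ b ∈ B, b * z = z * b := by
    rintro _ ⟨b, hb, rfl⟩
    have h1 := Subgroup.mem_center_iff.mp hz'mem ⟨b, hb⟩
    have h2 := congrArg (fun w : ↥B' => ((w : ↥K) : G)) h1
    simpa using h2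
  have hπz1 : π z ≠ 1 := by
    intro h
    exact hz1 (hBH z hzB ((QuotientGroup.eq_one_iff z).mp h))
  -- the quotient
  set Kb : Subgroup (G ⧸ H) := K.map π with hKb
  haveI hKbn : Kb.Normal := hKn.map π hπs
  have hKbcard : Nat.card Kb = H.relIndex K := (relIndex_eq_card_map H K).symm
  set Zb : Subgroup (G ⧸ H) := Kb ⊓ Subgroup.centralizer (Kb : Set (G ⧸ H)) with hZb
  haveI hZbn : Zb.Normal := inferInstance
  have hπzZ : π z ∈ Zb := by
    refine Subgroup.mem_inf.mpr ⟨Subgroup.mem_map_of_mem π (hBK hzB), ?_⟩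
    rw [Subgroup.mem_centralizer_iff]
    rintro _ ⟨k, hk, rfl⟩
    obtain ⟨b, hb, hkb⟩ := hdec k hk
    rw [hkb, ← map_mul, ← map_mul, hzcomm b hb]
  have hZcomm : ∀ x ∈ Zb, ∀ y ∈ Zb, x * y = y * x := by
    intro x hx y hy
    exact (Subgroup.mem_centralizer_iff.mp (Subgroup.mem_inf.mp hy).2) x (Subgroup.mem_inf.mp hx).1
  obtain ⟨r, hr, hrd, a, ha⟩ := exists_pow_orderOf_prime (π z) hπz1
  have hrS : r ∉ S := by
    have : SNum Sᶜ (orderOf (π z)) :=
      hKS.of_dvd (hKbcard ▸ Subgroup.orderOf_dvd_natCard Kb (Subgroup.mem_inf.mp hπzZ).1)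
    exact this r hr hrd
  set v : G ⧸ H := (π z) ^ a with hv
  have hvZ : v ∈ Zb := Zb.pow_mem hπzZ a
  have hvo : orderOf v = r := ha
  haveI : Fact r.Prime := ⟨hr⟩
  let Vb : Subgroup (G ⧸ H) :=
    { carrier := {x | x ∈ Zb ∧ x ^ r = 1}
      one_mem' := ⟨Zb.one_mem, one_pow r⟩
      mul_mem' := by
        rintro x y ⟨hx, hxr⟩ ⟨hy, hyr⟩
        refine ⟨Zb.mul_mem hx hy, ?_⟩
        have hc : Commute x y := hZcomm x hx y hy
        rw [hc.mul_pow, hxr, hyr, one_mul]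
      inv_mem' := by
        rintro x ⟨hx, hxr⟩
        exact ⟨Zb.inv_mem hx, by rw [inv_pow, hxr, inv_one]⟩ }
  have hVbmem : ∀ x, x ∈ Vb ↔ x ∈ Zb ∧ x ^ r = 1 := fun x => Iff.rfl
  haveI hVbn : Vb.Normal := by
    constructor
    intro n hn g
    rw [hVbmem] at hn ⊢
    refine ⟨hZbn.conj_mem n hn.1 g, ?_⟩
    rw [conj_pow, hn.2, mul_one, mul_inv_cancel]
  have hvV : v ∈ Vb := (hVbmem v).mpr ⟨hvZ, by rw [← hvo]; exact pow_orderOf_eq_one v⟩
  have hVbb : Vb ≠ ⊥ := by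
    intro h
    have h1 : v ∈ (⊥ : Subgroup (G ⧸ H)) := h ▸ hvV
    rw [Subgroup.mem_bot] at h1
    rw [h1, orderOf_one] at hvo
    exact hr.ne_one hvo.symm
  -- the lift `V` of `Vb` inside `B`
  set V : Subgroup G := B ⊓ Vb.comap π with hV
  have hVcomm : ∀ x ∈ V, ∀ y ∈ V, x * y = y * x := by
    intro x hx y hy
    obtain ⟨hxB, hxV⟩ := Subgroup.mem_inf.mp hx
    obtain ⟨hyB, hyV⟩ := Subgroup.mem_inf.mp hy
    have h1 : π (x * y) = π (y * x) := by
      rw [map_mul, map_mul]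
      exact hZcomm _ ((hVbmem _).mp hxV).1 _ ((hVbmem _).mp hyV).1
    have h2 : (x * y)⁻¹ * (y * x) ∈ H := QuotientGroup.eq.mp h1
    have h3 : (x * y)⁻¹ * (y * x) ∈ B :=
      B.mul_mem (B.inv_mem (B.mul_mem hxB hyB)) (B.mul_mem hyB hxB)
    exact inv_mul_eq_one.mp (hBH _ h3 h2)
  haveI : IsMulCommutative V := ⟨⟨fun a b => Subtype.ext (hVcomm a a.2 b b.2)⟩⟩
  haveI : IsMulCommutative M := ⟨⟨fun a b => Subtype.ext (hMc a a.2 b b.2)⟩⟩
  have hcyc : IsCyclic V := by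
    refine Cfsg.Agent.S0041.result V M hMb ?_ ?_ (Or.inl inferInstance)
    · rw [Subgroup.normalizer_eq_top]; exact le_top
    · intro a ha ha1
      rw [eq_bot_iff]
      intro x hx
      rw [Subgroup.mem_bot]
      by_contra hx1
      obtain ⟨hxM, hxc⟩ := Subgroup.mem_inf.mp hx
      rw [Subgroup.mem_centralizer_iff] at hxc
      exact hG.no_commute x a (hxc a rfl).symm hx1 ha1
        (hHS.of_dvd (Subgroup.orderOf_dvd_natCard H (hMH hxM))) (hBS a (Subgroup.mem_inf.mp ha).1)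
  obtain ⟨g, hg⟩ := hcyc.exists_generator
  have hVble : Vb ≤ Subgroup.zpowers (π g) := by
    intro x hx
    obtain ⟨k, hk, rfl⟩ := (Subgroup.mem_inf.mp ((hVbmem x).mp hx).1).1
    obtain ⟨b, hb, hkb⟩ := hdec k hk
    have hbV : b ∈ V := Subgroup.mem_inf.mpr ⟨hb, by rw [Subgroup.mem_comap, ← hkb]; exact hx⟩
    obtain ⟨n, hn⟩ := Subgroup.mem_zpowers_iff.mp (hg ⟨b, hbV⟩)
    rw [hkb, Subgroup.mem_zpowers_iff]
    refine ⟨n, ?_⟩
    have h1 := congrArg (fun w : ↥V => π (w : G)) hn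
    simpa using h1
  have hπgV : π g ∈ Vb := (Subgroup.mem_inf.mp g.2).2
  have hcardVb : Nat.card Vb = r := by
    have h1 : Nat.card Vb ∣ r := by
      refine (Subgroup.card_dvd_of_le hVble).trans ?_
      rw [Nat.card_zpowers]
      exact orderOf_dvd_of_pow_eq_one ((hVbmem _).mp hπgV).2
    rcases (Nat.dvd_prime hr).mp h1 with h | h
    · exact absurd ((Subgroup.eq_bot_iff_card Vb).mpr h) hVbb
    · exact h
  have hcomm : ∀ x y : G ⧸ H, ∀ c ∈ Vb, ⁅x, y⁆ * c * ⁅x, y⁆⁻¹ = c := fun x y =>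
    Cfsg.Agent.helper18.Hup.centralizes_prime_normal Vb r hcardVb ⁅x, y⁆ (Or.inl ⟨x, y, rfl⟩)
  set Cb : Subgroup (G ⧸ H) := Subgroup.centralizer (Vb : Set (G ⧸ H)) with hCb
  haveI hCbn : Cb.Normal := Subgroup.normal_centralizer
  have hCbS : SNum Sᶜ (Nat.card Cb) := by
    intro p hp hpd hpS
    haveI := Fact.mk hp
    obtain ⟨x, hx⟩ := exists_prime_orderOf_dvd_card' p hpd
    have hxc : v * (x : G ⧸ H) = (x : G ⧸ H) * v := (Subgroup.mem_centralizer_iff.mp x.2) v hvV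
    exact hX.no_commute_prime (x : G ⧸ H) v hxc.symm hp hr hpS hrS
      (by rw [Subgroup.orderOf_coe, hx]) hvo
  have hKbCb : Kb ≤ Cb := by
    intro k hk
    rw [hCb, Subgroup.mem_centralizer_iff]
    intro c hc
    exact ((Subgroup.mem_centralizer_iff.mp (Subgroup.mem_inf.mp ((hVbmem c).mp hc).1).2) k hk).symm
  have hLK : Cb.comap π ≤ K := by
    apply hmax _ (hCbn.comap π)
    · intro k hk
      exact hKbCb (Subgroup.mem_map_of_mem π hk)
    · rw [relIndex_eq_card_map, Subgroup.map_comap_eq_self_of_surjective hπs]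
      exact hCbS
  have hcommK : ∀ x y : G, ⁅x, y⁆ ∈ K := by
    intro x y
    apply hLK
    rw [Subgroup.mem_comap, map_commutatorElement, hCb, Subgroup.mem_centralizer_iff]
    intro c hc
    have h1 := hcomm (π x) (π y) c hc
    rw [mul_inv_eq_iff_eq_mul] at h1
    exact h1.symm
  -- `G/K` is abelian
  intro q hq hqd
  by_contra hqS
  haveI := Fact.mk hq
  have hqd' : q ∣ Nat.card (G ⧸ K) := hqd
  obtain ⟨y, hy⟩ := exists_prime_orderOf_dvd_card' q hqd'
  have hab : ∀ a b : G ⧸ K, a * b = b * a := by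
    intro a b
    obtain ⟨a, rfl⟩ := QuotientGroup.mk_surjective a
    obtain ⟨b, rfl⟩ := QuotientGroup.mk_surjective b
    rw [← QuotientGroup.mk_mul, ← QuotientGroup.mk_mul, QuotientGroup.eq]
    have h1 := hcommK b⁻¹ a⁻¹
    rw [commutatorElement_def] at h1
    simpa [mul_assoc] using h1
  set Qb : Subgroup (G ⧸ K) := Subgroup.zpowers y with hQb
  haveI hQbn : Qb.Normal := by
    constructor
    intro n hn g
    rw [hab g n, mul_assoc, mul_inv_cancel, mul_one]; exact hn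
  set π' := QuotientGroup.mk' K with hπ'
  have hπ's : Function.Surjective π' := QuotientGroup.mk'_surjective K
  have hKL' : K ≤ Qb.comap π' := by
    intro k hk
    rw [Subgroup.mem_comap]
    have h1 : π' k = 1 := (QuotientGroup.eq_one_iff k).mpr hk
    rw [h1]; exact Qb.one_mem
  have hL'K : Qb.comap π' ≤ K := by
    apply hmax _ (hQbn.comap π') hKL'
    rw [← Subgroup.relIndex_mul_relIndex H K _ hHK hKL']
    apply hKS.mul
    rw [relIndex_eq_card_map, Subgroup.map_comap_eq_self_of_surjective hπ's, hQb,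
      Nat.card_zpowers, hy]
    exact sNum_prime hq (Set.mem_compl hqS)
  have hy1 : y = 1 := by
    have hyQ : y ∈ Qb := Subgroup.mem_zpowers y
    obtain ⟨g, rfl⟩ := hπ's y
    have h1 : g ∈ K := hL'K hyQ
    exact (QuotientGroup.eq_one_iff g).mpr h1
  rw [hy1, orderOf_one] at hy
  exact hq.ne_one hy.symm

/-- Main theorem: Frobenius or 2-Frobenius. -/
theorem main {S : Set ℕ} {G : Type*} [Group G] [Finite G] [hsol : Group.IsSolvable G]
    (hG : NoMix S G) (M₀ : Subgroup G) [hM₀n : M₀.Normal] (hM₀ : M₀ ≠ ⊥)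
    (hM₀S : SNum S (Nat.card M₀)) (q₀ : ℕ) (hq₀ : q₀.Prime) (hq₀S : q₀ ∉ S)
    (hq₀d : q₀ ∣ Nat.card G) :
    (∃ C : Subgroup G, Cfsg.IsFrobeniusComplement C) ∨
    (∃ (H K : Subgroup G) (_ : H.Normal), K.Normal ∧ H < K ∧
      (∃ C : Subgroup ↥K, Cfsg.IsFrobeniusComplement C ∧
        Cfsg.frobeniusKernel C = (H.subgroupOf K : Set ↥K)) ∧
      (∃ C : Subgroup (G ⧸ H), Cfsg.IsFrobeniusComplement C ∧
        Cfsg.frobeniusKernel C = (K.map (QuotientGroup.mk' H) : Set (G ⧸ H)))) := by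
  classical
  obtain ⟨H, hM₀H, hHmax⟩ :=
    (Set.toFinite {H : Subgroup G | H.Normal ∧ SNum S (Nat.card H)}).exists_le_maximal
      (a := M₀) ⟨hM₀n, hM₀S⟩
  obtain ⟨⟨hHn, hHS⟩, hHmax'⟩ := hHmax
  haveI := hHn
  have hHb : H ≠ ⊥ := fun h => hM₀ (eq_bot_iff.mpr (h ▸ hM₀H))
  have hHt : H ≠ ⊤ := by
    intro h
    apply hq₀S
    apply hHS q₀ hq₀
    rw [h, Subgroup.card_top]; exact hq₀d
  set π := QuotientGroup.mk' H with hπ
  have hπs : Function.Surjective π := QuotientGroup.mk'_surjective H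
  have hX : NoMix S (G ⧸ H) := hG.of_surjective π hπs
  have htop : (⊤ : Subgroup (G ⧸ H)) ≠ ⊥ := by
    intro h
    apply hHt
    rw [eq_top_iff]
    intro g _
    have h1 : π g ∈ (⊤ : Subgroup (G ⧸ H)) := Subgroup.mem_top _
    rw [h, Subgroup.mem_bot] at h1
    exact (QuotientGroup.eq_one_iff g).mp h1
  obtain ⟨Ab, hAbn, hAbb, -, hAbc⟩ := exists_abelian_normal_le (⊤ : Subgroup (G ⧸ H)) htop
  haveI := hAbn
  have hL₀card : H.relIndex (Ab.comap π) = Nat.card Ab := by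
    rw [relIndex_eq_card_map, Subgroup.map_comap_eq_self_of_surjective hπs]
  have hHL₀ : H ≤ Ab.comap π := by
    intro h hh
    rw [Subgroup.mem_comap]
    have h1 : π h = 1 := (QuotientGroup.eq_one_iff h).mpr hh
    rw [h1]; exact Ab.one_mem
  have hL₀ne : ¬ Ab.comap π ≤ H := by
    intro hle
    apply hAbb
    rw [eq_bot_iff]
    intro x hx
    obtain ⟨g, rfl⟩ := hπs x
    rw [Subgroup.mem_bot]
    exact (QuotientGroup.eq_one_iff g).mpr (hle hx)
  have hAbS : SNum Sᶜ (Nat.card Ab) := by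
    rcases sNum_or_of_comm hX Ab hAbc with h | h
    · exfalso
      apply hL₀ne
      apply hHmax' _ hHL₀
      refine ⟨hAbn.comap π, ?_⟩
      rw [card_eq_card_mul_relIndex H _ hHL₀, hL₀card]
      exact hHS.mul h
    · exact h
  obtain ⟨K, hL₀K, hKmax⟩ :=
    (Set.toFinite {K : Subgroup G | K.Normal ∧ H ≤ K ∧ SNum Sᶜ (H.relIndex K)}).exists_le_maximal
      (a := Ab.comap π) ⟨hAbn.comap π, hHL₀, by rw [hL₀card]; exact hAbS⟩
  obtain ⟨⟨hKn, hHK, hKS⟩, hKmax'⟩ := hKmax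
  haveI := hKn
  have hKH : ¬ K ≤ H := fun h => hL₀ne (hL₀K.trans h)
  have hlt : H < K := lt_of_le_of_ne hHK (fun h => hKH (h ▸ le_rfl))
  have hmax : ∀ L : Subgroup G, L.Normal → K ≤ L → SNum Sᶜ (H.relIndex L) → L ≤ K :=
    fun L hL hKL hLS => hKmax' ⟨hL, hHK.trans hKL, hLS⟩ hKL
  by_cases hKt : K = ⊤
  · left
    have h2 : SNum Sᶜ H.index := by
      rw [← Subgroup.relIndex_top_right, ← hKt]; exact hKS
    obtain ⟨C, hC, -⟩ := frobenius_of_noMix hG H hHb hHt hHS h2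
    exact ⟨C, hC⟩
  · right
    have hGK : NoMix S ↥K := hG.of_injective K.subtype K.subtype_injective
    haveI hHKn : (H.subgroupOf K).Normal := hHn.subgroupOf K
    have hHKb : H.subgroupOf K ≠ ⊥ := by
      rw [Ne, Subgroup.subgroupOf_eq_bot, disjoint_iff, inf_of_le_left hHK]; exact hHb
    have hHKt : H.subgroupOf K ≠ ⊤ := by
      rw [Ne, Subgroup.subgroupOf_eq_top]; exact hKH
    have hHKS : SNum S (Nat.card (H.subgroupOf K)) := by
      rw [Nat.card_congr (Subgroup.subgroupOfEquivOfLe hHK).toEquiv]; exact hHS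
    obtain ⟨B', hB'F, hB'ker, hB'c, hB'fpf⟩ :=
      frobenius_of_noMix hGK (H.subgroupOf K) hHKb hHKt hHKS hKS
    obtain ⟨M, hMn, hMb, hMH, hMc⟩ := exists_abelian_normal_le H hHb
    haveI := hMn
    have hKidx : SNum S K.index :=
      index_sNum_of_maximal hG H K hHK hHS hKS hmax M hMb hMH hMc B' hB'c hB'F.1 hB'fpf
    haveI hKbn : (K.map π).Normal := hKn.map π hπs
    have hKbb : K.map π ≠ ⊥ := by
      rw [Ne, Subgroup.map_eq_bot_iff, QuotientGroup.ker_mk']; exact hKH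
    have hKbidx : (K.map π).index = K.index :=
      Subgroup.index_map_eq K hπs (by rw [QuotientGroup.ker_mk']; exact hHK)
    have hKbt : K.map π ≠ ⊤ := by
      intro h
      apply hKt
      rw [← Subgroup.index_eq_one, ← hKbidx, h, Subgroup.index_top]
    have h1 : SNum Sᶜ (Nat.card (K.map π)) := by
      rw [← relIndex_eq_card_map]; exact hKS
    have h2 : SNum Sᶜᶜ (K.map π).index := by
      rw [compl_compl, hKbidx]; exact hKidx
    obtain ⟨C, hCF, hCker, -⟩ := frobenius_of_noMix hX.compl (K.map π) hKbb hKbt h1 h2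
    exact ⟨H, K, hHn, hKn, hlt, ⟨B', hB'F, hB'ker⟩, ⟨C, hCF, hCker⟩⟩

end Cfsg.Agent.helper18.PG
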