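import Mathlib
import Cfsg.Agent.Lib_helper18_PrimeGraph

/-!
# Groups whose class-size prime graph is disconnected (helper18)

Bertram–Herzog–Mann: if the primes dividing class sizes split into two nonadjacent parts then
`G / Z(G)` is Frobenius with abelian kernel and abelian complement.
-/

set_option autoImplicit false

namespace Cfsg.Agent.helper18.CG

open Subgroup
open Cfsg.Agent.helper18.PG (SNum)

section general

variable {G : Type*} [Group G]

/-- centraliser of an element -/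
abbrev Cn (g : G) : Subgroup G := Subgroup.centralizer ({g} : Set G)

/-- class size -/
noncomputable def idx (g : G) : ℕ := (Subgroup.centralizer ({g} : Set G)).index

theorem mem_Cn {g c : G} : c ∈ Cn g ↔ c * g = g * c := by
  rw [Subgroup.mem_centralizer_iff]
  constructor
  · intro h; exact (h g rfl).symm
  · intro h k hk; rw [Set.mem_singleton_iff.mp hk]; exact h.symm

theorem idx_eq_one_iff (g : G) : idx g = 1 ↔ g ∈ center G := by
  unfold idx
  rw [Subgroup.index_eq_one, Subgroup.centralizer_eq_top_iff_subset, Set.singleton_subset_iff]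
  rfl

theorem conj_eq_of_comm {e a : G} (he : e * a = a * e) (u : G) :
    (u * e) * a * (u * e)⁻¹ = u * a * u⁻¹ := by
  have h1 : e * a * e⁻¹ = a := by rw [he, mul_inv_cancel_right]
  calc (u * e) * a * (u * e)⁻¹ = u * (e * a * e⁻¹) * u⁻¹ := by group
    _ = u * a * u⁻¹ := by rw [h1]

/-- if the index of the intersection is the product of indices then `G = K H` -/
theorem exists_mul_of_index_inf [Finite G] (H K : Subgroup G)
    (h : (H ⊓ K).index = H.index * K.index) (g : G) : ∃ k ∈ K, k⁻¹ * g ∈ H := by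
  classical
  let ψ : G ⧸ (H ⊓ K) → (G ⧸ H) × (G ⧸ K) := fun q =>
    (Subgroup.quotientMapOfLE inf_le_left q, Subgroup.quotientMapOfLE inf_le_right q)
  have hinj : Function.Injective ψ := by
    intro a b hab
    rcases QuotientGroup.mk_surjective a with ⟨a, rfl⟩
    rcases QuotientGroup.mk_surjective b with ⟨b, rfl⟩
    simp only [ψ, Prod.mk.injEq, Subgroup.quotientMapOfLE_apply_mk] at hab
    obtain ⟨h1, h2⟩ := hab
    rw [QuotientGroup.eq] at h1 h2 ⊢
    exact Subgroup.mem_inf.mpr ⟨h1, h2⟩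
  have hcard : Nat.card ((G ⧸ H) × (G ⧸ K)) ≤ Nat.card (G ⧸ (H ⊓ K)) := by
    rw [Nat.card_prod]
    exact le_of_eq h.symm
  have hbij := hinj.bijective_of_nat_card_le hcard
  obtain ⟨q, hq⟩ := hbij.2 ((g : G ⧸ H), ((1 : G) : G ⧸ K))
  rcases QuotientGroup.mk_surjective q with ⟨k, rfl⟩
  simp only [ψ, Prod.mk.injEq, Subgroup.quotientMapOfLE_apply_mk] at hq
  obtain ⟨h1, h2⟩ := hq
  rw [QuotientGroup.eq] at h1 h2
  refine ⟨k, ?_, h1⟩
  have : k⁻¹ ∈ K := by simpa using h2
  simpa using K.inv_mem this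

theorem index_inf_of_coprime [Finite G] (H K : Subgroup G) (h : H.index.Coprime K.index) :
    (H ⊓ K).index = H.index * K.index := by
  apply le_antisymm Subgroup.index_inf_le
  apply Nat.le_of_dvd (Nat.pos_of_ne_zero Subgroup.index_ne_zero_of_finite)
  exact h.mul_dvd_of_dvd_of_dvd (Subgroup.index_dvd_of_le inf_le_left)
    (Subgroup.index_dvd_of_le inf_le_right)

/-- orbit sizes under a normal subgroup divide the full orbit size -/
theorem relIndex_dvd_index_of_normal_right [Finite G] (H B : Subgroup G) [B.Normal] :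
    H.relIndex B ∣ H.index := by
  have key : H.relIndex (H ⊔ B) = H.relIndex B := by
    have e1 := PG.card_eq_card_mul_relIndex H (H ⊔ B) le_sup_left
    have e2 := PG.card_eq_card_mul_relIndex B (H ⊔ B) le_sup_right
    rw [Subgroup.relIndex_sup_right] at e2
    have e3 := PG.card_eq_card_mul_relIndex (H ⊓ B) H inf_le_left
    rw [Subgroup.inf_relIndex_left] at e3
    have e4 := PG.card_eq_card_mul_relIndex (H ⊓ B) B inf_le_right
    rw [Subgroup.inf_relIndex_right] at e4
    have hpos : 0 < Nat.card H := Nat.card_pos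
    have : Nat.card H * H.relIndex (H ⊔ B) = Nat.card H * H.relIndex B := by
      rw [← e1, e2, e4, e3]; ring
    exact Nat.eq_of_mul_eq_mul_left hpos this
  rw [← key]
  exact Subgroup.relIndex_dvd_index_of_le le_sup_left

theorem closure_comm (T : Set G) (h : ∀ a ∈ T, ∀ b ∈ T, a * b = b * a) :
    ∀ a ∈ closure T, ∀ b ∈ closure T, a * b = b * a := by
  have h1 : closure T ≤ centralizer T := by
    rw [closure_le]; intro a ha
    rw [SetLike.mem_coe, mem_centralizer_iff]
    intro b hb; exact h b hb a ha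
  have h2 : closure T ≤ centralizer (closure T : Set G) := by
    rw [closure_le]; intro a ha
    rw [SetLike.mem_coe, mem_centralizer_iff]
    intro b hb
    have := h1 hb
    rw [mem_centralizer_iff] at this
    exact (this a ha).symm
  intro a ha b hb
  have := h2 ha
  rw [mem_centralizer_iff] at this
  exact (this b hb).symm

theorem normal_closure_of_conj (T : Set G) (h : ∀ t ∈ T, ∀ g : G, g * t * g⁻¹ ∈ T) :
    (closure T).Normal := by
  constructor
  intro n hn g
  induction hn using Subgroup.closure_induction with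
  | mem t ht => exact subset_closure (h t ht g)
  | one => simp
  | mul a b _ _ iha ihb =>
    have : g * (a * b) * g⁻¹ = (g * a * g⁻¹) * (g * b * g⁻¹) := by group
    rw [this]; exact mul_mem iha ihb
  | inv a _ iha =>
    have : g * a⁻¹ * g⁻¹ = (g * a * g⁻¹)⁻¹ := by group
    rw [this]; exact inv_mem iha

/-- the conjugacy class as a set -/
def cls (a : G) : Set G := {w | ∃ g : G, g * a * g⁻¹ = w}

theorem ncard_cls [Finite G] (a : G) : (cls a).ncard = idx a := by
  have h1 := MulAction.index_stabilizer (ConjAct G) a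
  rw [ConjAct.stabilizer_eq_centralizer] at h1
  have h2 : MulAction.orbit (ConjAct G) a = cls a := by
    ext w
    rw [ConjAct.mem_orbit_conjAct, isConj_comm, isConj_iff]
    rfl
  rw [h2] at h1
  exact h1.symm

theorem cls_conj (g x : G) : cls (g * x * g⁻¹) = cls x := by
  ext w
  constructor
  · rintro ⟨h, rfl⟩; exact ⟨h * g, by group⟩
  · rintro ⟨h, rfl⟩; exact ⟨h * g⁻¹, by group⟩

theorem idx_conj [Finite G] (g x : G) : idx (g * x * g⁻¹) = idx x := by
  rw [← ncard_cls, ← ncard_cls, cls_conj]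

/-- a `p`-subgroup centralises a conjugate of any element of class size prime to `p` -/
theorem exists_conj_mem_centralizer {p : ℕ} [Fact p.Prime] (Q : Subgroup G) (hQ : IsPGroup p Q)
    (y : G) (hp : ¬ p ∣ idx y) : ∃ g : G, g * y * g⁻¹ ∈ centralizer (Q : Set G) := by
  obtain ⟨q, hq⟩ := hQ.nonempty_fixed_point_of_prime_not_dvd_card (G ⧸ Cn y) hp
  rcases QuotientGroup.mk_surjective q with ⟨g, rfl⟩
  refine ⟨g, ?_⟩
  rw [mem_centralizer_iff]
  intro t ht
  have h1 := hq ⟨t, ht⟩
  have h2 : ((t * g : G) : G ⧸ Cn y) = (g : G ⧸ Cn y) := h1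
  rw [QuotientGroup.eq] at h2
  have h3 := mem_Cn.mp h2
  have h4 : (g⁻¹ * t⁻¹ * g) * y = y * (g⁻¹ * t⁻¹ * g) := by
    have : (t * g)⁻¹ * g = g⁻¹ * t⁻¹ * g := by group
    rw [this] at h3; exact h3
  have h5 : t⁻¹ * (g * y * g⁻¹) = (g * y * g⁻¹) * t⁻¹ := by
    calc t⁻¹ * (g * y * g⁻¹) = g * ((g⁻¹ * t⁻¹ * g) * y) * g⁻¹ := by group
      _ = g * (y * (g⁻¹ * t⁻¹ * g)) * g⁻¹ := by rw [h4]
      _ = (g * y * g⁻¹) * t⁻¹ := by group
  calc t * (g * y * g⁻¹) = t * ((g * y * g⁻¹) * t⁻¹) * t := by group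
    _ = t * (t⁻¹ * (g * y * g⁻¹)) * t := by rw [h5]
    _ = g * y * g⁻¹ * t := by group

/-- covering lemma: a group is not covered by a proper subgroup `D` together with the conjugates
of a subgroup `C₀` missing a central element -/
theorem cover {C : Type*} [Group C] [Finite C] (C₀ D : Subgroup C) (x : C)
    (hxc : x ∈ center C) (hx0 : x ∉ C₀)
    (hcov : ∀ y : C, y ∉ D → ∃ c : C, c * y * c⁻¹ ∈ C₀) : D = ⊤ := by
  classical
  by_contra hD
  set W : Subgroup C := C₀ ⊔ zpowers x with hW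
  have hC0W : C₀ ≤ W := le_sup_left
  have hxW : x ∈ W := (le_sup_right : zpowers x ≤ W) (mem_zpowers x)
  have hle : W ≤ normalizer (C₀ : Set C) := by
    apply sup_le
    · exact le_normalizer
    · rw [zpowers_le, mem_normalizer_iff]
      intro h
      have hx' := mem_center_iff.mp hxc
      have : x * h * x⁻¹ = h := by rw [← hx' h, mul_inv_cancel_right]
      rw [this]
  have hWnorm : ∀ w ∈ W, ∀ t ∈ C₀, w * t * w⁻¹ ∈ C₀ := by
    intro w hw t ht
    exact (mem_normalizer_iff.mp (hle hw) t).mp ht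
  have h2 : 2 * Nat.card C₀ ≤ Nat.card W := by
    obtain ⟨k, hk⟩ := Subgroup.card_dvd_of_le hC0W
    have hWpos : 0 < Nat.card W := Nat.card_pos
    have hk0 : k ≠ 0 := by
      rintro rfl
      rw [mul_zero] at hk; omega
    have hk1 : k ≠ 1 := by
      rintro rfl
      rw [mul_one] at hk
      have : C₀ = W := Subgroup.eq_of_le_of_card_ge hC0W hk.le
      exact hx0 (this ▸ hxW)
    have hk2 : 2 ≤ k := by omega
    rw [hk]
    calc 2 * Nat.card C₀ ≤ k * Nat.card C₀ := Nat.mul_le_mul_right _ hk2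
      _ = Nat.card C₀ * k := mul_comm _ _
  have h3 : 2 * Nat.card D ≤ Nat.card C := by
    obtain ⟨k, hk⟩ := Subgroup.card_subgroup_dvd_card D
    have hCpos : 0 < Nat.card C := Nat.card_pos
    have hk0 : k ≠ 0 := by
      rintro rfl
      rw [mul_zero] at hk; omega
    have hk1 : k ≠ 1 := by
      rintro rfl
      rw [mul_one] at hk
      exact hD (Subgroup.eq_top_of_card_eq D hk.symm)
    have hk2 : 2 ≤ k := by omega
    rw [hk]
    calc 2 * Nat.card D ≤ k * Nat.card D := Nat.mul_le_mul_right _ hk2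
      _ = Nat.card D * k := mul_comm _ _
  -- data for each `y ∉ D`
  have hdata : ∀ y : {y : C // y ∉ D}, ∃ p : (C ⧸ W) × C₀,
      (y : C) = (p.1.out : C) * (p.2 : C) * (p.1.out : C)⁻¹ ∧ (p.2 : C) ≠ 1 := by
    rintro ⟨y, hy⟩
    obtain ⟨c, hc⟩ := hcov y hy
    set q : C ⧸ W := ((c⁻¹ : C) : C ⧸ W) with hq
    have hout : (q.out : C)⁻¹ * c⁻¹ ∈ W := by
      rw [← QuotientGroup.eq, QuotientGroup.out_eq']
    set w : C := (q.out : C)⁻¹ * c⁻¹ with hw
    have ht' : w * (c * y * c⁻¹) * w⁻¹ ∈ C₀ := hWnorm w hout _ hc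
    refine ⟨(q, ⟨w * (c * y * c⁻¹) * w⁻¹, ht'⟩), ?_, ?_⟩
    · show y = (q.out : C) * (w * (c * y * c⁻¹) * w⁻¹) * (q.out : C)⁻¹
      rw [hw]; group
    · show w * (c * y * c⁻¹) * w⁻¹ ≠ 1
      intro h1
      apply hy
      have : y = 1 := by
        have h2 : c * y * c⁻¹ = 1 := by
          have := congrArg (fun t => w⁻¹ * t * w) h1
          simpa [mul_assoc] using this
        have := congrArg (fun t => c⁻¹ * t * c) h2
        simpa [mul_assoc] using this
      rw [this]; exact D.one_mem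
  choose F hF1 hF2 using hdata
  let f : Option {y : C // y ∉ D} → (C ⧸ W) × C₀ := fun o => o.elim (((1 : C) : C ⧸ W), 1) F
  have hf : Function.Injective f := by
    intro o1 o2 h
    cases o1 with
    | none =>
      cases o2 with
      | none => rfl
      | some y2 =>
        exfalso
        have : ((F y2).2 : C) = 1 := by
          have h' : (((1 : C) : C ⧸ W), (1 : C₀)) = F y2 := h
          rw [← h']; rfl
        exact hF2 y2 this
    | some y1 =>
      cases o2 with
      | none =>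
        exfalso
        have : ((F y1).2 : C) = 1 := by
          have h' : F y1 = (((1 : C) : C ⧸ W), (1 : C₀)) := h
          rw [h']; rfl
        exact hF2 y1 this
      | some y2 =>
        have h' : F y1 = F y2 := h
        congr 1
        apply Subtype.ext
        rw [hF1 y1, hF1 y2, h']
  have hcard := Nat.card_le_card_of_injective f hf
  rw [Finite.card_option, Nat.card_prod] at hcard
  have hidx : Nat.card (C ⧸ W) = W.index := rfl
  have hWc := W.index_mul_card
  have hsum : Nat.card D + Nat.card {y : C // y ∉ D} = Nat.card C := by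
    rw [← Nat.card_sum]
    exact Nat.card_congr (Equiv.sumCompl (fun y => y ∈ D))
  rw [hidx] at hcard
  have h4 : W.index * (2 * Nat.card C₀) ≤ W.index * Nat.card W := Nat.mul_le_mul_left _ h2
  nlinarith

end general

section main

variable {G : Type*} [Group G] [Finite G]

def InX (S : Set ℕ) (g : G) : Prop := idx g ≠ 1 ∧ SNum Sᶜ (idx g)
def InY (S : Set ℕ) (g : G) : Prop := idx g ≠ 1 ∧ SNum S (idx g)

/-- the context: every class size is an `S`-number or an `S'`-number, and `a` is an element of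
maximal class size, which is a nontrivial `S`-number -/
structure Ctx (S : Set ℕ) (G : Type*) [Group G] where
  a : G
  split : ∀ g : G, SNum S (idx g) ∨ SNum Sᶜ (idx g)
  haY : InY S a
  hmax : ∀ g : G, idx g ≤ idx a

theorem InX.conj {S : Set ℕ} {x : G} (h : InX S x) (g : G) : InX S (g * x * g⁻¹) := by
  unfold InX; rw [idx_conj]; exact h

theorem InY.conj {S : Set ℕ} {x : G} (h : InY S x) (g : G) : InY S (g * x * g⁻¹) := by
  unfold InY; rw [idx_conj]; exact h

theorem coprime_XY {S : Set ℕ} {x y : G} (hx : InX S x) (hy : InY S y) :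
    (idx x).Coprime (idx y) := (hy.2.coprime hx.2).symm

theorem trichotomy {S : Set ℕ} (cx : Ctx S G) (g : G) : g ∈ center G ∨ InX S g ∨ InY S g := by
  by_cases h1 : idx g = 1
  · left; exact (idx_eq_one_iff g).mp h1
  · rcases cx.split g with h | h
    · right; right; exact ⟨h1, h⟩
    · right; left; exact ⟨h1, h⟩

theorem not_X_and_Y {S : Set ℕ} {g : G} (hx : InX S g) (hy : InY S g) : False := by
  have := coprime_XY hx hy
  rw [Nat.coprime_self] at this
  exact hx.1 this

def gensK (S : Set ℕ) (G : Type*) [Group G] : Set G :=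
  {s | ∃ x g : G, InX S x ∧ s = x⁻¹ * (g * x * g⁻¹)}

def KK (S : Set ℕ) (G : Type*) [Group G] : Subgroup G := closure (gensK S G)

def gensD (S : Set ℕ) (G : Type*) [Group G] : Set G := {d | InX S d ∨ d ∈ center G}

def DD (S : Set ℕ) (G : Type*) [Group G] : Subgroup G := closure (gensD S G)

theorem normal_KK (S : Set ℕ) : (KK S G).Normal := by
  apply normal_closure_of_conj
  rintro s ⟨x, g, hx, rfl⟩ g'
  refine ⟨g' * x * g'⁻¹, g' * g * g'⁻¹, hx.conj g', ?_⟩
  group

theorem gensK_inv {S : Set ℕ} {s : G} (hs : s ∈ gensK S G) : s⁻¹ ∈ gensK S G := by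
  obtain ⟨x, g, hx, rfl⟩ := hs
  refine ⟨g * x * g⁻¹, g⁻¹, hx.conj g, ?_⟩
  group

/-- key step: the class of `a` is stable under left multiplication by generators of `K` -/
theorem stab_gen {S : Set ℕ} (cx : Ctx S G) (x : G) (hx : InX S x) (g h : G) :
    x⁻¹ * (g * x * g⁻¹) * (h * cx.a * h⁻¹) ∈ cls cx.a := by
  set a := cx.a with ha
  have hcop : (idx x).Coprime (idx a) := coprime_XY hx cx.haY
  have hprod : (Cn x ⊓ Cn a).index = idx x * idx a := index_inf_of_coprime _ _ hcop
  have hinf : Cn x ⊓ Cn (x * a) = Cn x ⊓ Cn a := by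
    ext c
    simp only [Subgroup.mem_inf, mem_Cn]
    constructor
    · rintro ⟨h1, h2⟩
      refine ⟨h1, ?_⟩
      apply mul_left_cancel (a := x)
      calc x * (c * a) = (c * x) * a := by rw [h1, mul_assoc]
        _ = c * (x * a) := by rw [mul_assoc]
        _ = x * a * c := h2
        _ = x * (a * c) := by rw [mul_assoc]
    · rintro ⟨h1, h2⟩
      refine ⟨h1, ?_⟩
      rw [← mul_assoc, h1, mul_assoc, h2, ← mul_assoc]
  have hxa : idx (x * a) = idx a := by
    apply le_antisymm (cx.hmax _)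
    have h1 : (Cn x ⊓ Cn (x * a)).index ≤ idx x * idx (x * a) := Subgroup.index_inf_le
    rw [hinf, hprod] at h1
    have hpos : 0 < idx x := Nat.pos_of_ne_zero Subgroup.index_ne_zero_of_finite
    exact Nat.le_of_mul_le_mul_left h1 hpos
  have hprod2 : (Cn (x * a) ⊓ Cn x).index = (Cn (x * a)).index * (Cn x).index := by
    rw [inf_comm, hinf, hprod]
    show idx x * idx a = idx (x * a) * idx x
    rw [hxa, mul_comm]
  have hprod1 : (Cn a ⊓ Cn x).index = (Cn a).index * (Cn x).index := by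
    rw [inf_comm, hprod, mul_comm]; rfl
  obtain ⟨c, hc, he⟩ := exists_mul_of_index_inf (Cn a) (Cn x) hprod1 (g⁻¹ * h)
  obtain ⟨c', hc', hf⟩ := exists_mul_of_index_inf (Cn (x * a)) (Cn x) hprod2 (g * c)
  rw [mem_Cn] at hc he hc' hf
  -- Step A
  have hA : h * a * h⁻¹ = (g * c) * a * (g * c)⁻¹ := by
    have hh : (g * c) * (c⁻¹ * (g⁻¹ * h)) = h := by group
    have := conj_eq_of_comm he (g * c)
    rw [hh] at this
    exact this
  -- Step B
  have hB : (g * x * g⁻¹) * ((g * c) * a * (g * c)⁻¹) = (g * c) * (x * a) * (g * c)⁻¹ := by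
    symm
    calc (g * c) * (x * a) * (g * c)⁻¹ = g * ((c * x) * a * c⁻¹) * g⁻¹ := by group
      _ = g * ((x * c) * a * c⁻¹) * g⁻¹ := by rw [hc]
      _ = (g * x * g⁻¹) * ((g * c) * a * (g * c)⁻¹) := by group
  -- Step C
  have hC : (g * c) * (x * a) * (g * c)⁻¹ = c' * (x * a) * c'⁻¹ := by
    have hh : c' * (c'⁻¹ * (g * c)) = g * c := by group
    have := conj_eq_of_comm hf c'
    rw [hh] at this
    exact this
  -- Step D
  have hD : c' * (x * a) * c'⁻¹ = x * (c' * a * c'⁻¹) := by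
    calc c' * (x * a) * c'⁻¹ = (c' * x) * a * c'⁻¹ := by group
      _ = (x * c') * a * c'⁻¹ := by rw [hc']
      _ = x * (c' * a * c'⁻¹) := by group
  refine ⟨c', ?_⟩
  rw [mul_assoc x⁻¹, hA, hB, hC, hD, inv_mul_cancel_left]

theorem stab_gen' {S : Set ℕ} (cx : Ctx S G) {s w : G} (hs : s ∈ gensK S G) (hw : w ∈ cls cx.a) :
    s * w ∈ cls cx.a := by
  obtain ⟨x, g, hx, rfl⟩ := hs
  obtain ⟨h, rfl⟩ := hw
  exact stab_gen cx x hx g h

theorem stab_K {S : Set ℕ} (cx : Ctx S G) {k : G} (hk : k ∈ KK S G) (w : G) :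
    k * w ∈ cls cx.a ↔ w ∈ cls cx.a := by
  unfold KK at hk
  induction hk using Subgroup.closure_induction generalizing w with
  | mem s hs =>
    constructor
    · intro h
      have := stab_gen' cx (gensK_inv hs) h
      rwa [inv_mul_cancel_left] at this
    · exact stab_gen' cx hs
  | one => rw [one_mul]
  | mul k1 k2 _ _ ih1 ih2 => rw [mul_assoc, ih1, ih2]
  | inv k1 _ ih => rw [← ih (k1⁻¹ * w), mul_inv_cancel_left]

theorem card_KK_dvd {S : Set ℕ} (cx : Ctx S G) : Nat.card (KK S G) ∣ idx cx.a := by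
  haveI := normal_KK (G := G) S
  have hsat : cls cx.a = (QuotientGroup.mk : G → G ⧸ KK S G) ⁻¹'
      ((QuotientGroup.mk : G → G ⧸ KK S G) '' cls cx.a) := by
    ext w
    constructor
    · intro hw; exact ⟨w, hw, rfl⟩
    · rintro ⟨w', hw', he⟩
      rw [QuotientGroup.eq] at he
      have hk : w' * (w'⁻¹ * w) * w'⁻¹ ∈ KK S G := (normal_KK (G := G) S).conj_mem _ he w'
      have := (stab_K cx hk w').mpr hw'
      have e : w' * (w'⁻¹ * w) * w'⁻¹ * w' = w := by group
      rwa [e] at this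
  have h1 := QuotientGroup.card_preimage_mk (KK S G)
    ((QuotientGroup.mk : G → G ⧸ KK S G) '' cls cx.a)
  rw [← hsat, Nat.card_coe_set_eq, ncard_cls] at h1
  exact ⟨_, h1⟩

theorem sNum_card_KK {S : Set ℕ} (cx : Ctx S G) : SNum S (Nat.card (KK S G)) :=
  cx.haY.2.of_dvd (card_KK_dvd cx)

theorem KK_le_Cn {S : Set ℕ} (cx : Ctx S G) {x : G} (hx : InX S x) : KK S G ≤ Cn x := by
  haveI := normal_KK (G := G) S
  rw [← Subgroup.relIndex_eq_one]
  apply Nat.eq_one_of_dvd_coprimes ((sNum_card_KK cx).coprime hx.2) (Subgroup.relIndex_dvd_card _ _)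
  exact relIndex_dvd_index_of_normal_right _ _

theorem KK_comm {S : Set ℕ} (cx : Ctx S G) : ∀ a ∈ KK S G, ∀ b ∈ KK S G, a * b = b * a := by
  have h1 : KK S G ≤ centralizer (KK S G : Set G) := by
    unfold KK
    rw [closure_le]
    rintro s ⟨x, g, hx, rfl⟩
    rw [SetLike.mem_coe, mem_centralizer_iff]
    intro k hk
    have hk1 : k * x = x * k := mem_Cn.mp (KK_le_Cn cx hx hk)
    have hk2 : k * (g * x * g⁻¹) = (g * x * g⁻¹) * k := mem_Cn.mp (KK_le_Cn cx (hx.conj g) hk)
    have hk3 : k * x⁻¹ = x⁻¹ * k := by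
      calc k * x⁻¹ = x⁻¹ * (x * k) * x⁻¹ := by group
        _ = x⁻¹ * (k * x) * x⁻¹ := by rw [hk1]
        _ = x⁻¹ * k := by group
    rw [← mul_assoc, hk3, mul_assoc, hk2, ← mul_assoc]
  intro a ha b hb
  have := h1 ha
  rw [mem_centralizer_iff] at this
  exact (this b hb).symm

/-- every abelian normal subgroup centralises every element of `X` -/
theorem abelian_normal_le_Cn {S : Set ℕ} (cx : Ctx S G) (B : Subgroup G) [hB : B.Normal]
    (hBc : ∀ a ∈ B, ∀ b ∈ B, a * b = b * a) {u : G} (hu : InX S u) : B ≤ Cn u := by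
  have hmemK : ∀ b : G, u⁻¹ * (b * u * b⁻¹) ∈ KK S G := fun b => subset_closure ⟨u, b, hu, rfl⟩
  have hmemB : ∀ b ∈ B, u⁻¹ * (b * u * b⁻¹) ∈ B := by
    intro b hb
    have : u⁻¹ * (b * u * b⁻¹) = (u⁻¹ * b * u⁻¹⁻¹) * b⁻¹ := by group
    rw [this]; exact B.mul_mem (hB.conj_mem b hb u⁻¹) (B.inv_mem hb)
  let ψ : B →* KK S G :=
    { toFun := fun b => ⟨u⁻¹ * ((b : G) * u * (b : G)⁻¹), hmemK b⟩
      map_one' := by apply Subtype.ext; simp
      map_mul' := by
        intro b b'
        apply Subtype.ext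
        show u⁻¹ * (((b : G) * b') * u * ((b : G) * b')⁻¹) =
          (u⁻¹ * ((b : G) * u * (b : G)⁻¹)) * (u⁻¹ * ((b' : G) * u * (b' : G)⁻¹))
        have h1 := hBc _ (hmemB b' b'.2) _ (B.inv_mem b.2)
        calc u⁻¹ * (((b : G) * b') * u * ((b : G) * b')⁻¹)
            = (u⁻¹ * b * u) * ((u⁻¹ * ((b' : G) * u * (b' : G)⁻¹)) * (b : G)⁻¹) := by group
          _ = (u⁻¹ * b * u) * ((b : G)⁻¹ * (u⁻¹ * ((b' : G) * u * (b' : G)⁻¹))) := by rw [h1]
          _ = _ := by group }
  have hker : ψ.ker = (Cn u).subgroupOf B := by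
    ext b
    rw [MonoidHom.mem_ker, Subgroup.mem_subgroupOf, mem_Cn, Subtype.ext_iff]
    show u⁻¹ * ((b : G) * u * (b : G)⁻¹) = 1 ↔ (b : G) * u = u * b
    constructor
    · intro h
      have h' : (b : G) * u * (b : G)⁻¹ = u := by
        have := congrArg (fun t => u * t) h
        simpa using this
      calc (b : G) * u = ((b : G) * u * (b : G)⁻¹) * b := by group
        _ = u * b := by rw [h']
    · intro h; rw [h]; group
  have h1 : (Cn u).relIndex B = Nat.card ψ.range := by
    rw [← Subgroup.index_ker, hker]; rfl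
  rw [← Subgroup.relIndex_eq_one]
  apply Nat.eq_one_of_dvd_coprimes ((sNum_card_KK cx).coprime hu.2)
  · rw [h1]; exact Subgroup.card_subgroup_dvd_card _
  · exact relIndex_dvd_index_of_normal_right _ _

theorem X_comm {S : Set ℕ} (cx : Ctx S G) {u w : G} (hu : InX S u) (hw : InX S w) :
    u * w = w * u := by
  set T : Set G := (KK S G : Set G) ∪ cls w with hT
  have hconjK : ∀ {a b : G}, a ∈ cls w → b ∈ cls w → a⁻¹ * b ∈ KK S G := by
    rintro a b ⟨g, rfl⟩ ⟨h, rfl⟩
    apply Subgroup.subset_closure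
    refine ⟨g * w * g⁻¹, h * g⁻¹, hw.conj g, ?_⟩
    group
  have hXcls : ∀ {a : G}, a ∈ cls w → InX S a := by
    rintro a ⟨g, rfl⟩; exact hw.conj g
  have hTc : ∀ a ∈ T, ∀ b ∈ T, a * b = b * a := by
    intro a ha b hb
    rcases ha with ha | ha <;> rcases hb with hb | hb
    · exact KK_comm cx a ha b hb
    · exact mem_Cn.mp (KK_le_Cn cx (hXcls hb) ha)
    · exact (mem_Cn.mp (KK_le_Cn cx (hXcls ha) hb)).symm
    · have hk := hconjK ha hb
      have hk1 : (a⁻¹ * b) * a = a * (a⁻¹ * b) := mem_Cn.mp (KK_le_Cn cx (hXcls ha) hk)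
      calc a * b = a * (a * (a⁻¹ * b)) := by group
        _ = a * ((a⁻¹ * b) * a) := by rw [hk1]
        _ = b * a := by group
  have hTn : (closure T).Normal := by
    apply normal_closure_of_conj
    intro t ht g
    rcases ht with ht | ht
    · left; exact (normal_KK (G := G) S).conj_mem t ht g
    · right
      obtain ⟨h, rfl⟩ := ht
      exact ⟨g * h, by group⟩
  haveI := hTn
  have hle := abelian_normal_le_Cn cx (closure T) (closure_comm T hTc) hu
  have hwT : w ∈ closure T := subset_closure (Or.inr ⟨1, by group⟩)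
  exact (mem_Cn.mp (hle hwT)).symm

theorem DD_comm {S : Set ℕ} (cx : Ctx S G) : ∀ a ∈ DD S G, ∀ b ∈ DD S G, a * b = b * a := by
  apply closure_comm
  intro a ha b hb
  rcases ha with ha | ha
  · rcases hb with hb | hb
    · exact X_comm cx ha hb
    · exact (mem_center_iff.mp hb a)
  · exact (mem_center_iff.mp ha b).symm

theorem normal_DD (S : Set ℕ) : (DD S G).Normal := by
  apply normal_closure_of_conj
  intro t ht g
  rcases ht with ht | ht
  · left; exact ht.conj g
  · right; exact (inferInstance : (center G).Normal).conj_mem t ht g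

theorem X_mem_DD {S : Set ℕ} {x : G} (hx : InX S x) : x ∈ DD S G := subset_closure (Or.inl hx)

theorem center_le_DD (S : Set ℕ) : center G ≤ DD S G := fun _ hz => subset_closure (Or.inr hz)

theorem DD_le_Cn {S : Set ℕ} (cx : Ctx S G) {d : G} (hd : d ∈ DD S G) : DD S G ≤ Cn d := by
  intro e he
  exact mem_Cn.mpr (DD_comm cx e he d hd)

/-- the centraliser of an element of `X` is exactly `D` -/
theorem Cn_eq_DD {S : Set ℕ} (cx : Ctx S G) {x : G} (hx : InX S x) : Cn x = DD S G := by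
  apply le_antisymm _ (DD_le_Cn cx (X_mem_DD hx))
  obtain ⟨p, hp, hpd⟩ := Nat.exists_prime_and_dvd hx.1
  haveI := Fact.mk hp
  have hpS : p ∉ S := hx.2 p hp hpd
  obtain ⟨Q⟩ : Nonempty (Sylow p G) := inferInstance
  let xC : Cn x := ⟨x, mem_Cn.mpr rfl⟩
  have hcov := cover (C := Cn x) ((centralizer (Q : Set G)).subgroupOf (Cn x))
    ((DD S G).subgroupOf (Cn x)) xC ?_ ?_ ?_
  · exact Subgroup.subgroupOf_eq_top.mp hcov
  · rw [mem_center_iff]
    intro c
    apply Subtype.ext
    exact mem_Cn.mp c.2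
  · rw [Subgroup.mem_subgroupOf]
    show x ∉ centralizer (Q : Set G)
    intro hxQ
    have hQle : (Q : Subgroup G) ≤ Cn x := by
      intro t ht
      rw [mem_centralizer_iff] at hxQ
      exact mem_Cn.mpr (hxQ t ht)
    have h1 : idx x ∣ (Q : Subgroup G).index := Subgroup.index_dvd_of_le hQle
    exact Q.not_dvd_index (hpd.trans h1)
  · intro y hy
    rw [Subgroup.mem_subgroupOf] at hy
    have hyY : InY S (y : G) := by
      rcases trichotomy cx (y : G) with h | h | h
      · exact absurd (center_le_DD S h) hy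
      · exact absurd (X_mem_DD h) hy
      · exact h
    have hpy : ¬ p ∣ idx (y : G) := fun hd => hpS (hyY.2 p hp hd)
    obtain ⟨g, hg⟩ := exists_conj_mem_centralizer (Q : Subgroup G) Q.isPGroup' (y : G) hpy
    have hcop : (idx (y : G)).Coprime (idx x) := (coprime_XY hx hyY).symm
    obtain ⟨c, hc, he⟩ := exists_mul_of_index_inf (Cn (y : G)) (Cn x)
      (index_inf_of_coprime _ _ hcop) g
    rw [mem_Cn] at he
    have hh : c * (c⁻¹ * g) = g := by group
    have h2 := conj_eq_of_comm he c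
    rw [hh] at h2
    refine ⟨⟨c, hc⟩, ?_⟩
    rw [Subgroup.mem_subgroupOf]
    show c * (y : G) * c⁻¹ ∈ centralizer (Q : Set G)
    rw [← h2]; exact hg

theorem mem_DD_iff {S : Set ℕ} (cx : Ctx S G) {x : G} (hx : InX S x) (d : G) :
    d ∈ DD S G ↔ InX S d ∨ d ∈ center G := by
  constructor
  · intro hd
    rcases trichotomy cx d with h | h | h
    · right; exact h
    · left; exact h
    · exfalso
      have h1 : idx d ∣ idx x := by
        have := Subgroup.index_dvd_of_le (DD_le_Cn cx hd)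
        rw [← Cn_eq_DD cx hx] at this
        exact this
      exact not_X_and_Y ⟨h.1, hx.2.of_dvd h1⟩ h
  · rintro (h | h)
    · exact X_mem_DD h
    · exact center_le_DD S h

theorem Y_not_mem_DD {S : Set ℕ} (cx : Ctx S G) {x : G} (hx : InX S x) {y : G} (hy : InY S y) :
    y ∉ DD S G := by
  intro hd
  rcases (mem_DD_iff cx hx y).mp hd with h | h
  · exact not_X_and_Y h hy
  · exact hy.1 ((idx_eq_one_iff y).mpr h)

theorem DD_inf_Cn {S : Set ℕ} (cx : Ctx S G) {x : G} (hx : InX S x) {y : G} (hy : InY S y) :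
    ∀ d ∈ DD S G, d ∈ Cn y → d ∈ center G := by
  intro d hd hdy
  rcases (mem_DD_iff cx hx d).mp hd with h | h
  · exfalso
    apply Y_not_mem_DD cx hx hy
    rw [← Cn_eq_DD cx h]
    exact mem_Cn.mpr (mem_Cn.mp hdy).symm
  · exact h

theorem DD_sup_Cn {S : Set ℕ} (cx : Ctx S G) {x : G} (hx : InX S x) {y : G} (hy : InY S y) :
    DD S G ⊔ Cn y = ⊤ := by
  rw [eq_top_iff]
  intro g _
  obtain ⟨k, hk, he⟩ := exists_mul_of_index_inf (Cn x) (Cn y)
    (index_inf_of_coprime _ _ (coprime_XY hx hy)) g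
  rw [Cn_eq_DD cx hx] at he
  have : g = k * (k⁻¹ * g) := by group
  rw [this]
  exact mul_mem ((le_sup_right : Cn y ≤ _) hk) ((le_sup_left : DD S G ≤ _) he)

/-- `G / D` is abelian -/
theorem comm_mem_DD {S : Set ℕ} (cx : Ctx S G) {x : G} (hx : InX S x) (g h : G) :
    g * h * g⁻¹ * h⁻¹ ∈ DD S G := by
  have hn := normal_DD (G := G) S
  haveI := hn
  by_cases hg : g ∈ DD S G
  · have : g * h * g⁻¹ * h⁻¹ = g * (h * g⁻¹ * h⁻¹) := by group
    rw [this]
    exact mul_mem hg (hn.conj_mem _ (inv_mem hg) h)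
  · have hgY : InY S g := by
      rcases trichotomy cx g with h | h | h
      · exact absurd (center_le_DD S h) hg
      · exact absurd (X_mem_DD h) hg
      · exact h
    have hh : h ∈ DD S G ⊔ Cn g := by rw [DD_sup_Cn cx hx hgY]; exact mem_top h
    rw [← SetLike.mem_coe, Subgroup.normal_mul, Set.mem_mul] at hh
    obtain ⟨d, hd, c, hc, rfl⟩ := hh
    have hcg : c * g = g * c := mem_Cn.mp hc
    have hcg' : c * g⁻¹ = g⁻¹ * c := by
      calc c * g⁻¹ = g⁻¹ * (g * c) * g⁻¹ := by group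
        _ = g⁻¹ * (c * g) * g⁻¹ := by rw [hcg]
        _ = g⁻¹ * c := by group
    have : g * (d * c) * g⁻¹ * (d * c)⁻¹ = (g * d * g⁻¹) * d⁻¹ := by
      calc g * (d * c) * g⁻¹ * (d * c)⁻¹ = g * d * (c * g⁻¹) * c⁻¹ * d⁻¹ := by group
        _ = g * d * (g⁻¹ * c) * c⁻¹ * d⁻¹ := by rw [hcg']
        _ = (g * d * g⁻¹) * d⁻¹ := by group
    rw [this]
    exact mul_mem (hn.conj_mem d hd g) (inv_mem hd)

end main

section final

/-- a normal subgroup with a complement acting fixed-point-freely is a Frobenius kernel -/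
theorem frobenius_of_fpf {X : Type*} [Group X] [Finite X] (N C : Subgroup X) [hN : N.Normal]
    (hC : N.IsComplement' C) (hNb : N ≠ ⊥) (hCb : C ≠ ⊥)
    (hfpf : ∀ c ∈ C, c ≠ 1 → N ⊓ Subgroup.centralizer {c} = ⊥) :
    Cfsg.IsFrobeniusComplement C ∧ Cfsg.frobeniusKernel C = (N : Set X) := by
  have hCidx : C.index = Nat.card N := hC.index_eq_card
  have hF : Cfsg.IsFrobeniusComplement C := (Cfsg.Agent.S0039.result N C hC hNb hCb).mpr hfpf
  refine ⟨hF, ?_⟩
  have hsub : (N : Set X) ⊆ Cfsg.frobeniusKernel C := by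
    intro x hx
    by_cases hx1 : x = 1
    · left; exact hx1
    · right
      intro g hg
      rw [Subgroup.mem_pointwise_smul_iff_inv_smul_mem, MulAut.smul_def, MulAut.conj_inv_apply] at hg
      have hgN : g⁻¹ * x * g ∈ N := by
        have := hN.conj_mem x hx g⁻¹
        rwa [inv_inv] at this
      have hbot : g⁻¹ * x * g ∈ N ⊓ C := ⟨hgN, hg⟩
      rw [hC.disjoint.eq_bot, Subgroup.mem_bot] at hbot
      apply hx1
      have : x = g * (g⁻¹ * x * g) * g⁻¹ := by group
      rw [this, hbot]; group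
  symm
  apply Set.eq_of_subset_of_ncard_le hsub _ (Set.toFinite _)
  rw [← Nat.card_coe_set_eq, ← Nat.card_coe_set_eq, (Cfsg.Agent.S0034.result C hF).1, hCidx]
  rfl

theorem pow_comm_central {G : Type*} [Group G] {h d z : G} (hz : z ∈ center G)
    (e : h * d = z * d * h) (n : ℕ) : h ^ n * d = z ^ n * d * h ^ n := by
  have hzc := mem_center_iff.mp hz
  induction n with
  | zero => simp
  | succ n ih =>
    calc h ^ (n + 1) * d = h ^ n * (h * d) := by rw [pow_succ, mul_assoc]
      _ = h ^ n * (z * d * h) := by rw [e]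
      _ = (h ^ n * z) * d * h := by group
      _ = (z * h ^ n) * d * h := by rw [hzc (h ^ n)]
      _ = z * (h ^ n * d) * h := by group
      _ = z * (z ^ n * d * h ^ n) * h := by rw [ih]
      _ = z ^ (n + 1) * d * h ^ (n + 1) := by rw [pow_succ' z, pow_succ h]; group

theorem mem_of_coprime_pow_mem {G : Type*} [Group G] (D : Subgroup G) {h : G} {m n : ℕ}
    (hmn : m.Coprime n) (hm : h ^ m ∈ D) (hn : h ^ n ∈ D) : h ∈ D := by
  have hb := Nat.gcd_eq_gcd_ab m n
  rw [hmn.gcd_eq_one] at hb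
  have : h = (h ^ m) ^ (Nat.gcdA m n) * (h ^ n) ^ (Nat.gcdB m n) := by
    rw [← zpow_natCast, ← zpow_natCast, ← zpow_mul, ← zpow_mul, ← zpow_add, ← hb]
    simp
  rw [this]
  exact mul_mem (zpow_mem hm _) (zpow_mem hn _)

theorem main_aux {G : Type*} [Group G] [Finite G] {S : Set ℕ} (cx : Ctx S G) {x : G}
    (hx : InX S x) :
    ∃ H : Subgroup (G ⧸ center G), Cfsg.IsFrobeniusComplement H ∧ IsMulCommutative H ∧
      ∀ u ∈ Cfsg.frobeniusKernel H, ∀ v ∈ Cfsg.frobeniusKernel H, u * v = v * u := by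
  set a := cx.a with ha
  have haY : InY S a := cx.haY
  set π : G →* G ⧸ center G := QuotientGroup.mk' (center G) with hπ
  have hπs : Function.Surjective π := QuotientGroup.mk'_surjective _
  have hker : ∀ g, π g = 1 ↔ g ∈ center G := fun g => QuotientGroup.eq_one_iff g
  have hDn := normal_DD (G := G) S
  haveI hNn : ((DD S G).map π).Normal := hDn.map π hπs
  have hxZ : x ∉ center G := fun h => hx.1 ((idx_eq_one_iff x).mpr h)
  have haZ : a ∉ center G := fun h => haY.1 ((idx_eq_one_iff a).mpr h)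
  have hdisj : ∀ d ∈ DD S G, ∀ h ∈ Cn a, π d = π h → h ∈ center G := by
    intro d hd h hh he
    have h1 : d⁻¹ * h ∈ center G := by
      rw [← hker, map_mul, map_inv, he, inv_mul_cancel]
    have h2 : h ∈ DD S G := by
      have := mul_mem hd (center_le_DD S h1)
      rwa [mul_inv_cancel_left] at this
    exact DD_inf_Cn cx hx haY h h2 hh
  have hcompl : ((DD S G).map π).IsComplement' ((Cn a).map π) := by
    apply Subgroup.isComplement'_of_disjoint_and_mul_eq_univ
    · rw [Subgroup.disjoint_def]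
      rintro t ⟨d, hd, rfl⟩ ⟨h, hh, he⟩
      rw [← he, hker]
      exact hdisj d hd h hh he.symm
    · rw [← Subgroup.normal_mul, ← Subgroup.map_sup, DD_sup_Cn cx hx haY,
        Subgroup.map_top_of_surjective π hπs]
      rfl
  have hNb : (DD S G).map π ≠ ⊥ := by
    intro h
    have : π x ∈ (DD S G).map π := ⟨x, X_mem_DD hx, rfl⟩
    rw [h, Subgroup.mem_bot, hker] at this
    exact hxZ this
  have hCb : (Cn a).map π ≠ ⊥ := by
    intro h
    have : π a ∈ (Cn a).map π := ⟨a, mem_Cn.mpr rfl, rfl⟩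
    rw [h, Subgroup.mem_bot, hker] at this
    exact haZ this
  have hfpf : ∀ c ∈ (Cn a).map π, c ≠ 1 →
      (DD S G).map π ⊓ Subgroup.centralizer {c} = ⊥ := by
    rintro c ⟨h, hh, rfl⟩ hc1
    have hhZ : h ∉ center G := fun hz => hc1 ((hker h).mpr hz)
    rw [eq_bot_iff]
    rintro t ⟨⟨d, hd, rfl⟩, ht2⟩
    rw [Subgroup.mem_bot, hker]
    by_contra hdZ
    have hdX : InX S d := by
      rcases (mem_DD_iff cx hx d).mp hd with h | h
      · exact h
      · exact absurd h hdZ
    have ht2' : π d ∈ centralizer {π h} := ht2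
    rw [mem_centralizer_iff] at ht2'
    have hcomm : π h * π d = π d * π h := ht2' (π h) rfl
    set z := h * d * h⁻¹ * d⁻¹ with hz
    have hzZ : z ∈ center G := by
      rw [← hker, hz, map_mul, map_mul, map_mul, map_inv, map_inv, hcomm]
      group
    have hzK : z ∈ KK S G := by
      have h1 : d⁻¹ * (h * d * h⁻¹) ∈ KK S G := Subgroup.subset_closure ⟨d, h, hdX, rfl⟩
      have h2 := (normal_KK (G := G) S).conj_mem _ h1 d
      have e : d * (d⁻¹ * (h * d * h⁻¹)) * d⁻¹ = z := by rw [hz]; group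
      rwa [e] at h2
    have he : h * d = z * d * h := by rw [hz]; group
    have hzn : z ^ Nat.card (KK S G) = 1 := by
      rw [← orderOf_dvd_iff_pow_eq_one]
      exact Subgroup.orderOf_dvd_natCard _ hzK
    have h1 : h ^ Nat.card (KK S G) ∈ DD S G := by
      rw [← Cn_eq_DD cx hdX, mem_Cn]
      have := pow_comm_central hzZ he (Nat.card (KK S G))
      rw [hzn, one_mul] at this
      exact this
    have h2 : h ^ (DD S G).index ∈ DD S G := by
      haveI := hDn
      exact Subgroup.pow_index_mem _ h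
    have hcop : (Nat.card (KK S G)).Coprime (DD S G).index := by
      apply (sNum_card_KK cx).coprime
      rw [← Cn_eq_DD cx hx]
      exact hx.2
    have h3 : h ∈ DD S G := mem_of_coprime_pow_mem _ hcop h1 h2
    exact hhZ (DD_inf_Cn cx hx haY h h3 hh)
  obtain ⟨hF, hK⟩ := frobenius_of_fpf _ _ hcompl hNb hCb hfpf
  refine ⟨(Cn a).map π, hF, ⟨⟨?_⟩⟩, ?_⟩
  · rintro ⟨u, h1, hh1, rfl⟩ ⟨v, h2, hh2, rfl⟩
    apply Subtype.ext
    show π h1 * π h2 = π h2 * π h1
    have hc : h1 * h2 * h1⁻¹ * h2⁻¹ ∈ center G := by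
      apply DD_inf_Cn cx hx haY _ (comm_mem_DD cx hx h1 h2)
      exact mul_mem (mul_mem (mul_mem hh1 hh2) (inv_mem hh1)) (inv_mem hh2)
    have e : π h1 * π h2 * (π h1)⁻¹ * (π h2)⁻¹ = 1 := by
      rw [← hker] at hc
      rw [← hc]; simp
    calc π h1 * π h2 = (π h1 * π h2 * (π h1)⁻¹ * (π h2)⁻¹) * (π h2 * π h1) := by group
      _ = π h2 * π h1 := by rw [e, one_mul]
  · rw [hK]
    rintro u ⟨d1, hd1, rfl⟩ v ⟨d2, hd2, rfl⟩
    rw [← map_mul, ← map_mul, DD_comm cx d1 hd1 d2 hd2]

/-- Bertram–Herzog–Mann -/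
theorem main {G : Type*} [Group G] [Finite G] (S : Set ℕ)
    (hS : ∃ p ∈ S, (p.Prime ∧ ∃ g : G, p ∣ idx g))
    (hS' : ∃ q ∉ S, (q.Prime ∧ ∃ g : G, q ∣ idx g))
    (hdisc : ∀ p q : ℕ, (p.Prime ∧ ∃ g : G, p ∣ idx g) → (q.Prime ∧ ∃ g : G, q ∣ idx g) →
      p ∈ S → q ∉ S → ¬ (∃ g : G, p * q ∣ idx g)) :
    ∃ H : Subgroup (G ⧸ center G), Cfsg.IsFrobeniusComplement H ∧ IsMulCommutative H ∧
      ∀ u ∈ Cfsg.frobeniusKernel H, ∀ v ∈ Cfsg.frobeniusKernel H, u * v = v * u := by
  have hsplit : ∀ g : G, SNum S (idx g) ∨ SNum Sᶜ (idx g) := by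
    intro g
    by_contra hcon
    rw [not_or] at hcon
    obtain ⟨h1, h2⟩ := hcon
    unfold PG.SNum at h1 h2
    push Not at h1 h2
    obtain ⟨q, hq, hqd, hqS⟩ := h1
    obtain ⟨p, hp, hpd, hpS⟩ := h2
    have hpS' : p ∈ S := Set.notMem_compl_iff.mp hpS
    have hne : p ≠ q := fun e => hqS (e ▸ hpS')
    have hcop : p.Coprime q := (Nat.coprime_primes hp hq).mpr hne
    exact hdisc p q ⟨hp, g, hpd⟩ ⟨hq, g, hqd⟩ hpS' hqS
      ⟨g, hcop.mul_dvd_of_dvd_of_dvd hpd hqd⟩
  obtain ⟨a, hamax⟩ := Finite.exists_max (fun g : G => idx g)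
  obtain ⟨p, hpS, hp, g1, hpd⟩ := hS
  obtain ⟨q, hqS, hq, g2, hqd⟩ := hS'
  have hg1 : idx g1 ≠ 1 := fun e => hp.one_lt.ne' (Nat.dvd_one.mp (e ▸ hpd))
  have hg2 : idx g2 ≠ 1 := fun e => hq.one_lt.ne' (Nat.dvd_one.mp (e ▸ hqd))
  have hg1Y : SNum S (idx g1) := by
    rcases hsplit g1 with h | h
    · exact h
    · exact absurd hpS (h p hp hpd)
  have hg2X : SNum Sᶜ (idx g2) := by
    rcases hsplit g2 with h | h
    · exact absurd (h q hq hqd) hqS
    · exact h
  have ha1 : idx a ≠ 1 := by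
    intro e
    have h1 := hamax g1
    simp only [e] at h1
    have hpos : 0 < idx g1 := Nat.pos_of_ne_zero Subgroup.index_ne_zero_of_finite
    omega
  rcases hsplit a with h | h
  · exact main_aux (S := S) ⟨a, hsplit, ⟨ha1, h⟩, hamax⟩ (x := g2) ⟨hg2, hg2X⟩
  · have hsplit' : ∀ g : G, SNum Sᶜ (idx g) ∨ SNum Sᶜᶜ (idx g) := by
      intro g
      rw [compl_compl]
      exact (hsplit g).symm
    refine main_aux (S := Sᶜ) ⟨a, hsplit', ⟨ha1, h⟩, hamax⟩ (x := g1) ⟨hg1, ?_⟩
    rw [compl_compl]; exact hg1Y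

end final

end Cfsg.Agent.helper18.CG
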