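import Mathlib
import Cfsg.Agent.Lib_helper18_ClassGraph

/-!
# Two largest class sizes coprime: basic tools (helper10)
-/

set_option autoImplicit false

namespace Cfsg.Agent.helper10.CS

open Subgroup
open Cfsg.Agent.helper18.CG

variable {G : Type*} [Group G]

theorem idx_pos' [Finite G] (g : G) : 0 < idx g :=
  Nat.pos_of_ne_zero Subgroup.index_ne_zero_of_finite

theorem Cn_le_of_mem_zpowers {g h : G} (hh : h ∈ zpowers g) : Cn g ≤ Cn h := by
  obtain ⟨k, rfl⟩ := hh
  intro c hc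
  rw [mem_Cn] at hc ⊢
  exact (show Commute c g from hc).zpow_right k

theorem idx_dvd_of_mem_zpowers {g h : G} (hh : h ∈ zpowers g) : idx h ∣ idx g :=
  Subgroup.index_dvd_of_le (Cn_le_of_mem_zpowers hh)

theorem pow_mem_zpowers' (g : G) (k : ℕ) : g ^ k ∈ zpowers g := ⟨k, by simp⟩

theorem normal_le_Cn [Finite G] (B : Subgroup G) [B.Normal] (g : G)
    (h : (Nat.card B).Coprime (idx g)) : B ≤ Cn g := by
  rw [← Subgroup.relIndex_eq_one]
  exact Nat.eq_one_of_dvd_coprimes h (Subgroup.relIndex_dvd_card _ _)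
    (relIndex_dvd_index_of_normal_right _ _)

theorem inf_Cn_mul (x a : G) : Cn x ⊓ Cn (x * a) = Cn x ⊓ Cn a := by
  ext c
  simp only [Subgroup.mem_inf, mem_Cn]
  constructor
  · rintro ⟨h1, h2⟩
    refine ⟨h1, ?_⟩
    apply mul_left_cancel (a := x)
    calc x * (c * a) = (c * x) * a := by rw [h1, mul_assoc]
      _ = c * (x * a) := by rw [mul_assoc]
      _ = x * a * c := h2
      _ = x * (a * c) := by rw [mul_assoc]
  · rintro ⟨h1, h2⟩
    refine ⟨h1, ?_⟩
    rw [← mul_assoc, h1, mul_assoc, h2, ← mul_assoc]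

theorem idx_le_idx_mul [Finite G] (x a : G) (hcop : (idx x).Coprime (idx a)) :
    idx a ≤ idx (x * a) := by
  have hprod : (Cn x ⊓ Cn a).index = idx x * idx a := index_inf_of_coprime _ _ hcop
  have h1 : (Cn x ⊓ Cn (x * a)).index ≤ idx x * idx (x * a) := Subgroup.index_inf_le
  rw [inf_Cn_mul, hprod] at h1
  exact Nat.le_of_mul_le_mul_left h1 (idx_pos' x)

theorem idx_mul_dvd [Finite G] (x a : G) (hcop : (idx x).Coprime (idx a)) :
    idx (x * a) ∣ idx x * idx a := by
  have hprod : (Cn x ⊓ Cn a).index = idx x * idx a := index_inf_of_coprime _ _ hcop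
  rw [← hprod]
  apply Subgroup.index_dvd_of_le
  rw [← inf_Cn_mul]
  exact inf_le_right

/-- generalised `stab_gen` -/
theorem stab_gen' [Finite G] (x a : G) (hcop : (idx x).Coprime (idx a))
    (hle : idx (x * a) ≤ idx a) (g h : G) :
    x⁻¹ * (g * x * g⁻¹) * (h * a * h⁻¹) ∈ cls a := by
  have hprod : (Cn x ⊓ Cn a).index = idx x * idx a := index_inf_of_coprime _ _ hcop
  have hinf := inf_Cn_mul x a
  have hxa : idx (x * a) = idx a := le_antisymm hle (idx_le_idx_mul x a hcop)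
  have hprod2 : (Cn (x * a) ⊓ Cn x).index = (Cn (x * a)).index * (Cn x).index := by
    rw [inf_comm, hinf, hprod]
    show idx x * idx a = idx (x * a) * idx x
    rw [hxa, mul_comm]
  have hprod1 : (Cn a ⊓ Cn x).index = (Cn a).index * (Cn x).index := by
    rw [inf_comm, hprod, mul_comm]; rfl
  obtain ⟨c, hc, he⟩ := exists_mul_of_index_inf (Cn a) (Cn x) hprod1 (g⁻¹ * h)
  obtain ⟨c', hc', hf⟩ := exists_mul_of_index_inf (Cn (x * a)) (Cn x) hprod2 (g * c)
  rw [mem_Cn] at hc he hc' hf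
  have hA : h * a * h⁻¹ = (g * c) * a * (g * c)⁻¹ := by
    have hh : (g * c) * (c⁻¹ * (g⁻¹ * h)) = h := by group
    have := conj_eq_of_comm he (g * c)
    rw [hh] at this
    exact this
  have hB : (g * x * g⁻¹) * ((g * c) * a * (g * c)⁻¹) = (g * c) * (x * a) * (g * c)⁻¹ := by
    symm
    calc (g * c) * (x * a) * (g * c)⁻¹ = g * ((c * x) * a * c⁻¹) * g⁻¹ := by group
      _ = g * ((x * c) * a * c⁻¹) * g⁻¹ := by rw [hc]
      _ = (g * x * g⁻¹) * ((g * c) * a * (g * c)⁻¹) := by group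
  have hC : (g * c) * (x * a) * (g * c)⁻¹ = c' * (x * a) * c'⁻¹ := by
    have hh : c' * (c'⁻¹ * (g * c)) = g * c := by group
    have := conj_eq_of_comm hf c'
    rw [hh] at this
    exact this
  have hD : c' * (x * a) * c'⁻¹ = x * (c' * a * c'⁻¹) := by
    calc c' * (x * a) * c'⁻¹ = (c' * x) * a * c'⁻¹ := by group
      _ = (x * c') * a * c'⁻¹ := by rw [hc']
      _ = x * (c' * a * c'⁻¹) := by group
  refine ⟨c', ?_⟩
  rw [mul_assoc x⁻¹, hA, hB, hC, hD, inv_mul_cancel_left]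

/-- the left-multiplication stabiliser of a class -/
def St [Finite G] (v : G) : Subgroup G where
  carrier := {k | ∀ w ∈ cls v, k * w ∈ cls v}
  one_mem' := by intro w hw; simpa using hw
  mul_mem' := by intro a b ha hb w hw; rw [mul_assoc]; exact ha _ (hb _ hw)
  inv_mem' := by
    intro a ha w hw
    have hpow : ∀ k : ℕ, ∀ w ∈ cls v, a ^ k * w ∈ cls v := by
      intro k
      induction k with
      | zero => intro w hw; simpa using hw
      | succ k ih => intro w hw; rw [pow_succ, mul_assoc]; exact ih _ (ha _ hw)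
    have h1 : a ^ (orderOf a - 1) * a = 1 := by
      rw [← pow_succ, Nat.sub_add_cancel (orderOf_pos a), pow_orderOf_eq_one]
    have h2 : a ^ (orderOf a - 1) = a⁻¹ := eq_inv_of_mul_eq_one_left h1
    rw [← h2]
    exact hpow _ w hw

theorem mem_St [Finite G] {v k : G} : k ∈ St v ↔ ∀ w ∈ cls v, k * w ∈ cls v := Iff.rfl

theorem St_normal [Finite G] (v : G) : (St v).Normal := by
  constructor
  intro k hk g w hw
  have h1 : g⁻¹ * w * g ∈ cls v := by
    obtain ⟨h, rfl⟩ := hw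
    exact ⟨g⁻¹ * h, by group⟩
  obtain ⟨h, hh⟩ := hk _ h1
  refine ⟨g * h, ?_⟩
  have : g * k * g⁻¹ * w = g * (k * (g⁻¹ * w * g)) * g⁻¹ := by group
  rw [this, ← hh]; group

theorem card_St_dvd [Finite G] (v : G) : Nat.card (St v) ∣ idx v := by
  haveI := St_normal v
  have hsat : cls v = (QuotientGroup.mk : G → G ⧸ St v) ⁻¹'
      ((QuotientGroup.mk : G → G ⧸ St v) '' cls v) := by
    ext w
    constructor
    · intro hw; exact ⟨w, hw, rfl⟩
    · rintro ⟨w', hw', he⟩
      rw [QuotientGroup.eq] at he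
      have hk : w' * (w'⁻¹ * w) * w'⁻¹ ∈ St v := (St_normal v).conj_mem _ he w'
      have := hk w' hw'
      have e : w' * (w'⁻¹ * w) * w'⁻¹ * w' = w := by group
      rwa [e] at this
  have h1 := QuotientGroup.card_preimage_mk (St v)
    ((QuotientGroup.mk : G → G ⧸ St v) '' cls v)
  rw [← hsat, Nat.card_coe_set_eq, ncard_cls] at h1
  exact ⟨_, h1⟩

theorem comm_mem_St [Finite G] (x a : G) (hcop : (idx x).Coprime (idx a))
    (hle : idx (x * a) ≤ idx a) (g : G) : x⁻¹ * (g * x * g⁻¹) ∈ St a := by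
  rintro w ⟨h, rfl⟩
  exact stab_gen' x a hcop hle g h

/-- order lemma -/
theorem eq_one_of_comm_pow {a k : G} (hc : a * k = k * a) (M : ℕ)
    (hM : (orderOf a).Coprime M) (hk : k ^ M = 1) (hak : (a * k) ^ orderOf a = 1) : k = 1 := by
  have h1 : (a * k) ^ orderOf a = a ^ orderOf a * k ^ orderOf a :=
    (show Commute a k from hc).mul_pow _
  rw [h1, pow_orderOf_eq_one, one_mul] at hak
  have d1 : orderOf k ∣ orderOf a := orderOf_dvd_of_pow_eq_one hak
  have d2 : orderOf k ∣ M := orderOf_dvd_of_pow_eq_one hk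
  have d3 : orderOf k ∣ 1 := by
    have := Nat.dvd_gcd d1 d2
    rwa [hM.gcd_eq_one] at this
  exact orderOf_eq_one_iff.mp (Nat.dvd_one.mp d3)

/-- if `g a g⁻¹ = a k` with `k` commuting with `a`, `k ^ M = 1`, `(o(a), M) = 1` then `k = 1` -/
theorem conj_eq_self_of [Finite G] {a g : G} (M : ℕ) (hM : (orderOf a).Coprime M)
    (hc : a * (a⁻¹ * (g * a * g⁻¹)) = (a⁻¹ * (g * a * g⁻¹)) * a)
    (hk : (a⁻¹ * (g * a * g⁻¹)) ^ M = 1) : g * a * g⁻¹ = a := by
  have h1 : a * (a⁻¹ * (g * a * g⁻¹)) = g * a * g⁻¹ := by group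
  have hak : (a * (a⁻¹ * (g * a * g⁻¹))) ^ orderOf a = 1 := by
    rw [h1, conj_pow, pow_orderOf_eq_one]; group
  have := eq_one_of_comm_pow hc M hM hk hak
  rw [← h1, this, mul_one]

theorem mem_center_of_conj {a : G} (h : ∀ g : G, g * a * g⁻¹ = a) : a ∈ center G := by
  rw [Subgroup.mem_center_iff]
  intro g
  have := h g
  calc g * a = (g * a * g⁻¹) * g := by group
    _ = a * g := by rw [this]

/-- coprime commuting: centraliser of the product -/
theorem Cn_mul_le_of_coprime {a b : G} (hc : a * b = b * a)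
    (hcop : (orderOf a).Coprime (orderOf b)) : Cn (a * b) ≤ Cn a ⊓ Cn b := by
  have hC : Commute a b := hc
  have ha : a ∈ zpowers (a * b) := by
    obtain ⟨k, hk⟩ := exists_pow_eq_self_of_coprime (x := a) (n := orderOf b) hcop.symm
    have h1 : (a * b) ^ (orderOf b * k) = a := by
      rw [pow_mul, hC.mul_pow, pow_orderOf_eq_one, mul_one, hk]
    have h2 := pow_mem_zpowers' (a * b) (orderOf b * k)
    rwa [h1] at h2
  have hb : b ∈ zpowers (a * b) := by
    obtain ⟨k, hk⟩ := exists_pow_eq_self_of_coprime (x := b) (n := orderOf a) hcop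
    have h1 : (a * b) ^ (orderOf a * k) = b := by
      rw [pow_mul, hC.mul_pow, pow_orderOf_eq_one, one_mul, hk]
    have h2 := pow_mem_zpowers' (a * b) (orderOf a * k)
    rwa [h1] at h2
  exact le_inf (Cn_le_of_mem_zpowers ha) (Cn_le_of_mem_zpowers hb)

/-- single-prime splitting of an element -/
theorem exists_split [Finite G] (g : G) (q : ℕ) (hq : q.Prime) :
    ∃ g₁ g₂ : G, g = g₁ * g₂ ∧ g₁ ∈ zpowers g ∧ g₂ ∈ zpowers g ∧
      (∃ k, orderOf g₁ = q ^ k) ∧ ¬ q ∣ orderOf g₂ := by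
  obtain ⟨k, t, ht, he⟩ := Nat.exists_eq_pow_mul_and_not_dvd (orderOf_pos g).ne' q hq.ne_one
  have hcop : (q ^ k).Coprime t := (hq.coprime_iff_not_dvd.mpr ht).pow_left k
  have hb := Nat.gcd_eq_gcd_ab t (q ^ k)
  rw [hcop.symm.gcd_eq_one] at hb
  refine ⟨(g ^ t) ^ (Nat.gcdA t (q ^ k)), (g ^ (q ^ k)) ^ (Nat.gcdB t (q ^ k)), ?_, ?_, ?_, ?_, ?_⟩
  · rw [← zpow_natCast, ← zpow_natCast, ← zpow_mul, ← zpow_mul, ← zpow_add, ← hb]
    simp
  · exact zpow_mem (pow_mem_zpowers' _ _) _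
  · exact zpow_mem (pow_mem_zpowers' _ _) _
  · have h1 : (g ^ t) ^ (q ^ k) = 1 := by
      rw [← pow_mul, mul_comm, ← he, pow_orderOf_eq_one]
    have h2 : ((g ^ t) ^ (Nat.gcdA t (q ^ k))) ^ (q ^ k) = 1 := by
      rw [← zpow_natCast, ← zpow_mul, mul_comm, zpow_mul, zpow_natCast, h1, one_zpow]
    exact (Nat.dvd_prime_pow hq).mp (orderOf_dvd_of_pow_eq_one h2) |>.imp fun j hj => hj.2
  · have h1 : (g ^ (q ^ k)) ^ t = 1 := by
      rw [← pow_mul, ← he, pow_orderOf_eq_one]
    have h2 : ((g ^ (q ^ k)) ^ (Nat.gcdB t (q ^ k))) ^ t = 1 := by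
      rw [← zpow_natCast, ← zpow_mul, mul_comm, zpow_mul, zpow_natCast, h1, one_zpow]
    intro hd
    exact ht (hd.trans (orderOf_dvd_of_pow_eq_one h2))

/-- primary induction: a power-closed property that forces prime-power-order elements into `D`
forces all elements into `D` -/
theorem primary_induction [Finite G] (D : Subgroup G) (P : G → Prop)
    (hpow : ∀ g h : G, P g → h ∈ zpowers g → P h)
    (hprim : ∀ g : G, P g → ∀ q k : ℕ, q.Prime → orderOf g = q ^ k → g ∈ D) :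
    ∀ g : G, P g → g ∈ D := by
  intro g
  induction' hn : orderOf g using Nat.strong_induction_on with N ih generalizing g
  intro hP
  by_cases h1 : N = 1
  · rw [h1, orderOf_eq_one_iff] at hn
    rw [hn]; exact D.one_mem
  · obtain ⟨q, hq, hqN⟩ := Nat.exists_prime_and_dvd h1
    obtain ⟨g₁, g₂, hg, hg1, hg2, ⟨k, hk⟩, hnd⟩ := exists_split g q hq
    rw [hg]
    apply D.mul_mem
    · exact hprim g₁ (hpow g g₁ hP hg1) q k hq hk
    · apply ih (orderOf g₂) _ g₂ rfl (hpow g g₂ hP hg2)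
      have hd : orderOf g₂ ∣ N := by
        rw [← hn]; exact orderOf_dvd_of_mem_zpowers hg2
      have hpos : 0 < N := by rw [← hn]; exact orderOf_pos g
      rcases (Nat.le_of_dvd hpos hd).lt_or_eq with h | h
      · exact h
      · exfalso; rw [h] at hnd; exact hnd hqN

end Cfsg.Agent.helper10.CS
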