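import Mathlib
import Cfsg.Agent.Lib_helper10_CSa

/-!
# Class-size prime graph, diameter: step 1 (dichotomy and `s'`-representative) (helper10)
-/

set_option autoImplicit false

namespace Cfsg.Agent.helper10.CG4a

open Subgroup
open Cfsg.Agent.helper18.CG
open Cfsg.Agent.helper10.CS

variable {G : Type*} [Group G]

/-- (A) dichotomy: coprime class sizes and no "mixed" prime pair in `idx (x*y)`. -/
theorem dichotomy [Finite G] (x y : G) (hcop : (idx x).Coprime (idx y))
    (hno : ∀ r₁ r₂ : ℕ, r₁.Prime → r₂.Prime → r₁ ∣ idx x → r₂ ∣ idx y →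
      ¬ r₁ * r₂ ∣ idx (x * y)) :
    idx (x * y) ≤ idx x ∨ idx (x * y) ≤ idx y := by
  have hd : idx (x * y) ∣ idx x * idx y := idx_mul_dvd x y hcop
  by_cases h1 : Nat.gcd (idx (x * y)) (idx x) = 1
  · right
    have : idx (x * y) ∣ idx y := Nat.Coprime.dvd_of_dvd_mul_left h1 hd
    exact Nat.le_of_dvd (idx_pos' y) this
  · by_cases h2 : Nat.gcd (idx (x * y)) (idx y) = 1
    · left
      have : idx (x * y) ∣ idx x := Nat.Coprime.dvd_of_dvd_mul_right h2 hd
      exact Nat.le_of_dvd (idx_pos' x) this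
    · exfalso
      obtain ⟨r₁, hr₁, hr₁d⟩ := Nat.exists_prime_and_dvd h1
      obtain ⟨r₂, hr₂, hr₂d⟩ := Nat.exists_prime_and_dvd h2
      have a1 : r₁ ∣ idx (x * y) := hr₁d.trans (Nat.gcd_dvd_left _ _)
      have a2 : r₁ ∣ idx x := hr₁d.trans (Nat.gcd_dvd_right _ _)
      have b1 : r₂ ∣ idx (x * y) := hr₂d.trans (Nat.gcd_dvd_left _ _)
      have b2 : r₂ ∣ idx y := hr₂d.trans (Nat.gcd_dvd_right _ _)
      have hne : r₁ ≠ r₂ := by
        rintro rfl
        have h3 := Nat.dvd_gcd a2 b2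
        rw [Nat.Coprime.gcd_eq_one hcop] at h3
        exact hr₁.one_lt.ne' (Nat.dvd_one.mp h3)
      have hc : Nat.Coprime r₁ r₂ := (Nat.coprime_primes hr₁ hr₂).mpr hne
      exact hno r₁ r₂ hr₁ hr₂ a2 b2 (hc.mul_dvd_of_dvd_of_dvd a1 b1)

/-- if `idx (y*x) ≤ idx x` (coprime class sizes) then `y ^ |St x|` is central. -/
theorem pow_card_St_mem_center [Finite G] (x y : G) (hcop : (idx x).Coprime (idx y))
    (hle : idx (y * x) ≤ idx x) : y ^ Nat.card (St x) ∈ center G := by
  haveI := St_normal x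
  have hSt : St x ≤ Cn y := normal_le_Cn (St x) y
    (Nat.Coprime.coprime_dvd_left (card_St_dvd x) hcop)
  apply mem_center_of_conj
  intro g
  have htS : y⁻¹ * (g * y * g⁻¹) ∈ St x := comm_mem_St y x hcop.symm hle g
  have htc : (y⁻¹ * (g * y * g⁻¹)) * y = y * (y⁻¹ * (g * y * g⁻¹)) := mem_Cn.mp (hSt htS)
  have hconj : g * y * g⁻¹ = y * (y⁻¹ * (g * y * g⁻¹)) := by group
  have ht1 : (y⁻¹ * (g * y * g⁻¹)) ^ Nat.card (St x) = 1 :=
    orderOf_dvd_iff_pow_eq_one.mp (Subgroup.orderOf_dvd_natCard _ htS)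
  have hcm : Commute y (y⁻¹ * (g * y * g⁻¹)) := htc.symm
  calc g * y ^ Nat.card (St x) * g⁻¹ = (g * y * g⁻¹) ^ Nat.card (St x) := (conj_pow).symm
    _ = (y * (y⁻¹ * (g * y * g⁻¹))) ^ Nat.card (St x) := by rw [← hconj]
    _ = y ^ Nat.card (St x) * (y⁻¹ * (g * y * g⁻¹)) ^ Nat.card (St x) := hcm.mul_pow _
    _ = y ^ Nat.card (St x) := by rw [ht1, mul_one]

/-- multiplying by a central element does not change the centraliser -/
theorem Cn_central_mul {z g : G} (hz : z ∈ center G) : Cn (z * g) = Cn g := by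
  have hz' := Subgroup.mem_center_iff.mp hz
  ext c
  simp only [mem_Cn]
  constructor
  · intro h
    apply mul_left_cancel (a := z)
    calc z * (c * g) = (z * c) * g := by group
      _ = c * z * g := by rw [← hz' c]
      _ = c * (z * g) := by group
      _ = z * g * c := h
      _ = z * (g * c) := by group
  · intro h
    calc c * (z * g) = (c * z) * g := by group
      _ = z * c * g := by rw [hz' c]
      _ = z * (c * g) := by group
      _ = z * (g * c) := by rw [h]
      _ = z * g * c := by group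

/-- (B) the `s'`-representative: if `idx (y*x) ≤ idx x`, coprime class sizes and `s ∤ idx x`,
then `y` has the same centraliser as some `s'`-element. -/
theorem sprime_rep [Finite G] (x y : G) (s : ℕ) (hs : s.Prime) (hcop : (idx x).Coprime (idx y))
    (hle : idx (y * x) ≤ idx x) (hsx : ¬ s ∣ idx x) :
    ∃ y₁ : G, ¬ s ∣ orderOf y₁ ∧ Cn y₁ = Cn y ∧ idx y₁ = idx y := by
  obtain ⟨g₁, g₂, hg, h1, h2, ⟨e, he⟩, hns⟩ := exists_split y s hs
  have hk : ¬ s ∣ Nat.card (St x) := fun h => hsx (h.trans (card_St_dvd x))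
  have hc : y ^ Nat.card (St x) ∈ center G := pow_card_St_mem_center x y hcop hle
  have hg1c : g₁ ∈ center G := by
    obtain ⟨j, hj⟩ := h1
    have hcop' : (Nat.card (St x)).Coprime (orderOf g₁) := by
      rw [he]; exact ((hs.coprime_iff_not_dvd.mpr hk).pow_left e).symm
    obtain ⟨u, hu⟩ := exists_pow_eq_self_of_coprime (x := g₁) (n := Nat.card (St x)) hcop'
    have h3 : g₁ ^ Nat.card (St x) ∈ center G := by
      have hj' : g₁ = y ^ j := hj.symm
      have h4 : (y ^ j) ^ Nat.card (St x) = (y ^ Nat.card (St x)) ^ j := by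
        rw [← zpow_natCast, ← zpow_mul, mul_comm, zpow_mul, zpow_natCast]
      rw [hj', h4]
      exact Subgroup.zpow_mem _ hc j
    rw [← hu]
    exact Subgroup.pow_mem _ h3 u
  have hC : Cn g₂ = Cn y := by rw [hg]; exact (Cn_central_mul hg1c).symm
  refine ⟨g₂, hns, hC, ?_⟩
  unfold idx
  exact congrArg Subgroup.index hC

end Cfsg.Agent.helper10.CG4a
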