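import Mathlib
import Cfsg.Agent.Lib_helper10_CG4a

/-!
# Class-size prime graph, diameter: core argument (helper21's short finish) (helper10)
-/

set_option autoImplicit false

namespace Cfsg.Agent.helper10.CG4b

open Subgroup
open Cfsg.Agent.helper18.CG
open Cfsg.Agent.helper10.CS
open Cfsg.Agent.helper10.CG4a

variable {G : Type*} [Group G]

theorem idx_mul_comm' [Finite G] (x y : G) : idx (y * x) = idx (x * y) := by
  have h : y * x = x⁻¹ * (x * y) * x⁻¹⁻¹ := by group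
  rw [h, idx_conj]

theorem orderOf_conj' (g y : G) : orderOf (g * y * g⁻¹) = orderOf y := by
  rw [orderOf_eq_orderOf_iff]
  intro n
  rw [conj_pow, conj_eq_one_iff]

/-- Claim: if `y` is an `s'`-element with `q ∣ idx y`, all primes of class sizes divisible by `q`
satisfy `P`, and `¬ P s`, then every `s`-element has class size a `P`-number. -/
theorem claim [Finite G] (y : G) (s q : ℕ) (hs : s.Prime) (P : ℕ → Prop)
    (Hq : ∀ g : G, q ∣ idx g → ∀ r : ℕ, r.Prime → r ∣ idx g → P r)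
    (hqy : q ∣ idx y) (hsy : ¬ s ∣ orderOf y) (hPs : ¬ P s)
    (w : G) (hw : ∃ j : ℕ, orderOf w = s ^ j) (r : ℕ) (hr : r.Prime) (hrw : r ∣ idx w) : P r := by
  haveI : Fact s.Prime := ⟨hs⟩
  obtain ⟨j, hj⟩ := hw
  have hsi : ¬ s ∣ idx y := fun h => hPs (Hq y hqy s hs h)
  have hQ : IsPGroup s (zpowers w) := by
    apply IsPGroup.of_card (n := j)
    rw [Nat.card_zpowers, hj]
  obtain ⟨g, hg⟩ := exists_conj_mem_centralizer (zpowers w) hQ y hsi
  have hcomm : (g * y * g⁻¹) * w = w * (g * y * g⁻¹) :=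
    ((mem_centralizer_iff.mp hg) w (mem_zpowers w)).symm
  have hcop : (orderOf (g * y * g⁻¹)).Coprime (orderOf w) := by
    rw [orderOf_conj', hj]
    exact ((hs.coprime_iff_not_dvd.mpr hsy).pow_left j).symm
  have hle := Cn_mul_le_of_coprime hcomm hcop
  have h1 : idx (g * y * g⁻¹) ∣ idx (g * y * g⁻¹ * w) := index_dvd_of_le (hle.trans inf_le_left)
  have h2 : idx w ∣ idx (g * y * g⁻¹ * w) := index_dvd_of_le (hle.trans inf_le_right)
  rw [idx_conj] at h1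
  exact Hq (g * y * g⁻¹ * w) (hqy.trans h1) r hr (hrw.trans h2)

/-- one half of the dichotomy: every `s`-element is central -/
theorem half [Finite G] (x0 y0 : G) (p q s : ℕ) (hs : s.Prime) (P1 P2 : ℕ → Prop)
    (Hp : ∀ g : G, p ∣ idx g → ∀ r : ℕ, r.Prime → r ∣ idx g → P1 r)
    (Hq : ∀ g : G, q ∣ idx g → ∀ r : ℕ, r.Prime → r ∣ idx g → P2 r)
    (hdisj : ∀ r : ℕ, P1 r → P2 r → False)
    (hpx : p ∣ idx x0) (hqy : q ∣ idx y0) (h1s : ¬ P1 s) (h2s : ¬ P2 s)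
    (hcop : (idx x0).Coprime (idx y0))
    (hle : idx (y0 * x0) ≤ idx x0) :
    ∀ w : G, (∃ j : ℕ, orderOf w = s ^ j) → w ∈ center G := by
  have hsx : ¬ s ∣ idx x0 := fun h => h1s (Hp x0 hpx s hs h)
  obtain ⟨y, hys, -, hyi⟩ := sprime_rep x0 y0 s hs hcop hle hsx
  have hqy' : q ∣ idx y := by rw [hyi]; exact hqy
  have C1 := claim y s q hs P2 Hq hqy' hys h2s
  obtain ⟨g₁, g₂, hg, hm1, hm2, hg1, hns⟩ := exists_split x0 s hs
  have hg1i : idx g₁ = 1 := by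
    by_contra hne
    obtain ⟨r, hr, hrd⟩ := Nat.exists_prime_and_dvd hne
    exact hdisj r (Hp x0 hpx r hr (hrd.trans (idx_dvd_of_mem_zpowers hm1))) (C1 g₁ hg1 r hr hrd)
  have hg1c : g₁ ∈ center G := (idx_eq_one_iff g₁).mp hg1i
  have hC : Cn (g₁ * g₂) = Cn g₂ := Cn_central_mul hg1c
  have hpx' : p ∣ idx g₂ := by
    have h3 : idx g₂ = idx (g₁ * g₂) := by unfold idx; exact (congrArg Subgroup.index hC).symm
    rw [h3, ← hg]; exact hpx
  have C2 := claim g₂ s p hs P1 Hp hpx' hns h1s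
  intro w hw
  rw [← idx_eq_one_iff]
  by_contra hne
  obtain ⟨r, hr, hrd⟩ := Nat.exists_prime_and_dvd hne
  exact hdisj r (C2 w hw r hr hrd) (C1 w hw r hr hrd)

/-- if all `s`-elements are central then `s` divides no class size -/
theorem not_dvd_idx_of_central [Finite G] (s : ℕ) (hs : s.Prime)
    (h : ∀ w : G, (∃ j : ℕ, orderOf w = s ^ j) → w ∈ center G) (g : G) : ¬ s ∣ idx g := by
  haveI : Fact s.Prime := ⟨hs⟩
  let S : Sylow s G := default
  have hS : (S : Subgroup G) ≤ Cn g := by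
    intro w hw
    have hwc : w ∈ center G := by
      apply h w
      obtain ⟨j, hj⟩ := IsPGroup.iff_orderOf.mp S.2 ⟨w, hw⟩
      exact ⟨j, by rw [← hj, Subgroup.orderOf_mk]⟩
    rw [mem_Cn]
    exact (Subgroup.mem_center_iff.mp hwc g).symm
  have hdvd : idx g ∣ (S : Subgroup G).index := index_dvd_of_le hS
  intro hsg
  exact S.not_dvd_index (hsg.trans hdvd)

/-- core: symmetric statement -/
theorem core [Finite G] (p q s : ℕ) (hs : s.Prime) (P1 P2 : ℕ → Prop)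
    (Hp : ∀ g : G, p ∣ idx g → ∀ r : ℕ, r.Prime → r ∣ idx g → P1 r)
    (Hq : ∀ g : G, q ∣ idx g → ∀ r : ℕ, r.Prime → r ∣ idx g → P2 r)
    (hdisj : ∀ r : ℕ, P1 r → P2 r → False)
    (hmix : ∀ (g : G) (r₁ r₂ : ℕ), r₁.Prime → r₂.Prime → P1 r₁ → P2 r₂ → ¬ r₁ * r₂ ∣ idx g)
    (x0 y0 : G) (hpx : p ∣ idx x0) (hqy : q ∣ idx y0) (h1s : ¬ P1 s) (h2s : ¬ P2 s) (g : G) :
    ¬ s ∣ idx g := by
  have hcop : (idx x0).Coprime (idx y0) := by
    by_contra hn
    obtain ⟨r, hr, h1, h2⟩ := Nat.Prime.not_coprime_iff_dvd.mp hn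
    exact hdisj r (Hp x0 hpx r hr h1) (Hq y0 hqy r hr h2)
  have hno : ∀ r₁ r₂ : ℕ, r₁.Prime → r₂.Prime → r₁ ∣ idx x0 → r₂ ∣ idx y0 →
      ¬ r₁ * r₂ ∣ idx (x0 * y0) :=
    fun r₁ r₂ h1 h2 d1 d2 =>
      hmix (x0 * y0) r₁ r₂ h1 h2 (Hp x0 hpx r₁ h1 d1) (Hq y0 hqy r₂ h2 d2)
  apply not_dvd_idx_of_central s hs
  rcases dichotomy x0 y0 hcop hno with hle | hle
  · exact half x0 y0 p q s hs P1 P2 Hp Hq hdisj hpx hqy h1s h2s hcop
      (by rw [idx_mul_comm']; exact hle)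
  · exact half y0 x0 q p s hs P2 P1 Hq Hp (fun r a b => hdisj r b a) hqy hpx h2s h1s hcop.symm hle

end Cfsg.Agent.helper10.CG4b
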