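import Mathlib
import Cfsg.Agent.Lib_helper10_CG4b

/-!
# Class-size prime graph: connected implies diameter at most three (helper10, after helper21/18/19)
-/

set_option autoImplicit false

namespace Cfsg.Agent.helper10.CG4c

open Subgroup
open Cfsg.Agent.helper18.CG
open Cfsg.Agent.helper10.CS
open Cfsg.Agent.helper10.CG4a
open Cfsg.Agent.helper10.CG4b

def Vx (G : Type*) [Group G] (r : ℕ) : Prop :=
  r.Prime ∧ ∃ g : G, r ∣ (Subgroup.centralizer ({g} : Set G)).index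

def Ed (G : Type*) [Group G] (a b : ℕ) : Prop :=
  ∃ g : G, a * b ∣ (Subgroup.centralizer ({g} : Set G)).index

def Q1 (G : Type*) [Group G] (p r : ℕ) : Prop := r.Prime ∧ (r = p ∨ Ed G p r)

def Q2 (G : Type*) [Group G] (q r : ℕ) : Prop := r.Prime ∧ (r = q ∨ Ed G r q)

variable {G : Type*} [Group G]

theorem main [Finite G]
    (hconn : ∀ S : Set ℕ, (∃ p ∈ S, Vx G p) → (∃ q ∉ S, Vx G q) →
      ∃ p q : ℕ, Vx G p ∧ Vx G q ∧ p ∈ S ∧ q ∉ S ∧ Ed G p q)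
    (p q : ℕ) (hp : Vx G p) (hq : Vx G q) (hpq : p ≠ q) :
    Ed G p q ∨ (∃ r : ℕ, Vx G r ∧ r ≠ p ∧ r ≠ q ∧ Ed G p r ∧ Ed G r q) ∨
      (∃ r s : ℕ, Vx G r ∧ Vx G s ∧ r ≠ p ∧ s ≠ q ∧ r ≠ s ∧ r ≠ q ∧ s ≠ p ∧
        Ed G p r ∧ Ed G r s ∧ Ed G s q) := by
  by_contra hcon
  have N1 : ¬ Ed G p q := fun h => hcon (Or.inl h)
  have N2 : ∀ r, Vx G r → r ≠ p → r ≠ q → Ed G p r → Ed G r q → False :=
    fun r h1 h2 h3 h4 h5 => hcon (Or.inr (Or.inl ⟨r, h1, h2, h3, h4, h5⟩))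
  have N3 : ∀ r s, Vx G r → Vx G s → r ≠ p → s ≠ q → r ≠ s → r ≠ q → s ≠ p →
      Ed G p r → Ed G r s → Ed G s q → False :=
    fun r s a b c d e f g h i j => hcon (Or.inr (Or.inr ⟨r, s, a, b, c, d, e, f, g, h, i, j⟩))
  obtain ⟨hpp, x0, hpx⟩ := hp
  obtain ⟨hqp, y0, hqy⟩ := hq
  have Hp : ∀ g : G, p ∣ idx g → ∀ r : ℕ, r.Prime → r ∣ idx g → Q1 G p r := by
    intro g hg r hr hrg
    refine ⟨hr, ?_⟩
    by_cases h : r = p
    · exact Or.inl h
    · right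
      exact ⟨g, ((Nat.coprime_primes hpp hr).mpr (Ne.symm h)).mul_dvd_of_dvd_of_dvd hg hrg⟩
  have Hq : ∀ g : G, q ∣ idx g → ∀ r : ℕ, r.Prime → r ∣ idx g → Q2 G q r := by
    intro g hg r hr hrg
    refine ⟨hr, ?_⟩
    by_cases h : r = q
    · exact Or.inl h
    · right
      exact ⟨g, ((Nat.coprime_primes hr hqp).mpr h).mul_dvd_of_dvd_of_dvd hrg hg⟩
  have hdisj : ∀ r : ℕ, Q1 G p r → Q2 G q r → False := by
    rintro r ⟨hr, h1⟩ ⟨-, h2⟩
    by_cases e1 : r = p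
    · by_cases e2 : r = q
      · exact hpq (e1.symm.trans e2)
      · rcases h2 with h2 | h2
        · exact e2 h2
        · rw [e1] at h2; exact N1 h2
    · by_cases e2 : r = q
      · rcases h1 with h1 | h1
        · exact e1 h1
        · rw [e2] at h1; exact N1 h1
      · rcases h1 with h1 | h1
        · exact e1 h1
        · rcases h2 with h2 | h2
          · exact e2 h2
          · obtain ⟨g, hg⟩ := h1
            exact N2 r ⟨hr, g, (Dvd.intro_left p rfl).trans hg⟩ e1 e2 ⟨g, hg⟩ h2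
  have hmix : ∀ (g : G) (r₁ r₂ : ℕ), r₁.Prime → r₂.Prime → Q1 G p r₁ → Q2 G q r₂ →
      ¬ r₁ * r₂ ∣ idx g := by
    intro g r₁ r₂ hr₁ hr₂ h1 h2 hd
    have E12 : Ed G r₁ r₂ := ⟨g, hd⟩
    by_cases e : r₁ = r₂
    · rw [← e] at h2
      exact hdisj r₁ h1 h2
    · have V1 : Vx G r₁ := ⟨hr₁, g, (Dvd.intro r₂ rfl).trans hd⟩
      have V2 : Vx G r₂ := ⟨hr₂, g, (Dvd.intro_left r₁ rfl).trans hd⟩
      by_cases a1 : r₁ = p
      · rw [a1] at E12 e
        by_cases b1 : r₂ = q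
        · rw [b1] at E12; exact N1 E12
        · rcases h2.2 with h | h
          · exact b1 h
          · exact N2 r₂ V2 (Ne.symm e) b1 E12 h
      · have Ep1 : Ed G p r₁ := by
          rcases h1.2 with h | h
          · exact absurd h a1
          · exact h
        by_cases b1 : r₂ = q
        · rw [b1] at E12 e
          exact N2 r₁ V1 a1 e Ep1 E12
        · have E2q : Ed G r₂ q := by
            rcases h2.2 with h | h
            · exact absurd h b1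
            · exact h
          by_cases c1 : r₁ = q
          · rw [c1] at Ep1; exact N1 Ep1
          · by_cases c2 : r₂ = p
            · rw [c2] at E2q; exact N1 E2q
            · exact N3 r₁ r₂ V1 V2 a1 b1 e c1 c2 Ep1 E12 E2q
  have hqS : q ∉ {r | Q1 G p r} := by
    rintro ⟨-, h⟩
    rcases h with h | h
    · exact hpq h.symm
    · exact N1 h
  obtain ⟨p', s, hp'V, hsV, hp'S, hsS, hE⟩ := hconn {r | Q1 G p r}
    ⟨p, ⟨hpp, Or.inl rfl⟩, ⟨hpp, x0, hpx⟩⟩ ⟨q, hqS, ⟨hqp, y0, hqy⟩⟩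
  have h2s : ¬ Q2 G q s := by
    intro h
    obtain ⟨g, hg⟩ := hE
    exact hmix g p' s hp'V.1 hsV.1 hp'S h hg
  obtain ⟨hsp, g0, hg0⟩ := hsV
  exact core p q s hsp (Q1 G p) (Q2 G q) Hp Hq hdisj hmix x0 y0 hpx hqy hsS h2s g0 hg0

end Cfsg.Agent.helper10.CG4c
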