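import Mathlib
import Cfsg.Agent.Lib_helper10_CSa

/-!
# Two largest class sizes coprime: structure lemmas K1-K5 (helper10)
-/

set_option autoImplicit false

namespace Cfsg.Agent.helper10.CS

open Subgroup
open Cfsg.Agent.helper18.CG

variable {G : Type*} [Group G] [Finite G]

/-- hypotheses: `m > n > 1` are the two largest class sizes, coprime -/
structure Hyp (G : Type*) [Group G] (m n : ℕ) : Prop where
  hmn : n < m
  hn : 1 < n
  hcop : m.Coprime n
  htop : ∀ z : G, idx z ≤ m
  hsecond : ∀ z : G, idx z < m → idx z ≤ n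
  exn : ∃ x : G, idx x = n
  exm : ∃ y : G, idx y = m

theorem le_of_le_of_index_eq {H K : Subgroup G} (h : H ≤ K) (e : H.index = K.index) : K ≤ H := by
  have h1 := Subgroup.relIndex_mul_index h
  rw [e] at h1
  have hpos : 0 < K.index := Nat.pos_of_ne_zero Subgroup.index_ne_zero_of_finite
  have h2 : H.relIndex K = 1 := by
    have : H.relIndex K * K.index = 1 * K.index := by rw [h1, one_mul]
    exact Nat.eq_of_mul_eq_mul_right hpos this
  exact Subgroup.relIndex_eq_one.mp h2

theorem pow_eq_one_of_mem {N : Subgroup G} {k : G} (hk : k ∈ N) {M : ℕ}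
    (hM : Nat.card N ∣ M) : k ^ M = 1 :=
  orderOf_dvd_iff_pow_eq_one.mp ((Subgroup.orderOf_dvd_natCard N hk).trans hM)

variable {m n : ℕ}

theorem comm_T0 (H : Hyp G m n) {a y : G} (hy : idx y = m) (ha : (idx a).Coprime m) (g : G) :
    a⁻¹ * (g * a * g⁻¹) ∈ St y :=
  comm_mem_St a y (by rw [hy]; exact ha) (by rw [hy]; exact H.htop _) g

theorem St_le_Cn_T0 {a y : G} (hy : idx y = m) (ha : (idx a).Coprime m) :
    St y ≤ Cn a := by
  haveI := St_normal y
  apply normal_le_Cn
  have := card_St_dvd y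
  rw [hy] at this
  exact Nat.Coprime.coprime_dvd_left this ha.symm

/-- K2 -/
theorem k2 (H : Hyp G m n) {a : G} (ha : (idx a).Coprime m) (hoa : (orderOf a).Coprime m) :
    a ∈ center G := by
  obtain ⟨y, hy⟩ := H.exm
  apply mem_center_of_conj
  intro g
  have hk := comm_T0 H hy ha g
  have hc := mem_Cn.mp (St_le_Cn_T0 hy ha hk)
  apply conj_eq_self_of m hoa hc.symm
  apply pow_eq_one_of_mem hk
  have := card_St_dvd y
  rwa [hy] at this

theorem k3_prime (H : Hyp G m n) {x a : G} (hx : idx x = n) (ha : a ∈ Cn x) (q k : ℕ)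
    (hq : q.Prime) (hqa : orderOf a = q ^ k) (hqm : ¬ q ∣ m) : a ∈ center G := by
  obtain ⟨x₁, x₂, hxe, hx1, hx2, ⟨j, hj⟩, hnd⟩ := exists_split x q hq
  have hqm' : q.Coprime m := hq.coprime_iff_not_dvd.mpr hqm
  have hx1c : x₁ ∈ center G := by
    apply k2 H
    · have := idx_dvd_of_mem_zpowers hx1
      rw [hx] at this
      exact Nat.Coprime.coprime_dvd_left this H.hcop.symm
    · rw [hj]; exact hqm'.pow_left j
  have hCle : Cn x₂ ≤ Cn x := by
    intro c hc
    rw [mem_Cn] at hc ⊢
    rw [hxe, ← mul_assoc, (Subgroup.mem_center_iff.mp hx1c) c, mul_assoc, hc, ← mul_assoc]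
  have hCeq : Cn x₂ = Cn x := le_antisymm hCle (Cn_le_of_mem_zpowers hx2)
  have hx2n : idx x₂ = n := by
    show (Cn x₂).index = n
    rw [hCeq]; exact hx
  have ha2 : a ∈ Cn x₂ := hCeq ▸ ha
  have hcomm : x₂ * a = a * x₂ := (mem_Cn.mp ha2).symm
  have hcopo : (orderOf x₂).Coprime (orderOf a) := by
    rw [hqa]
    exact ((hq.coprime_iff_not_dvd.mpr hnd).pow_left k).symm
  have hle := Cn_mul_le_of_coprime hcomm hcopo
  have hdvd : n ∣ idx (x₂ * a) := by
    rw [← hx2n]
    exact Subgroup.index_dvd_of_le (le_trans hle inf_le_left)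
  have hlt : idx (x₂ * a) < m := by
    rcases (H.htop (x₂ * a)).lt_or_eq with h | h
    · exact h
    · exfalso
      rw [h] at hdvd
      have := Nat.dvd_gcd hdvd (dvd_refl n)
      rw [H.hcop.gcd_eq_one] at this
      have := Nat.dvd_one.mp this
      have := H.hn
      omega
  have heq : idx (x₂ * a) = n :=
    le_antisymm (H.hsecond _ hlt) (Nat.le_of_dvd (idx_pos' _) hdvd)
  have hge : Cn x₂ ≤ Cn (x₂ * a) :=
    le_of_le_of_index_eq (le_trans hle inf_le_left) (by
      show idx (x₂ * a) = idx x₂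
      rw [heq, hx2n])
  have hxa : Cn x₂ ≤ Cn a := le_trans hge (le_trans hle inf_le_right)
  apply k2 H
  · have : idx a ∣ n := by rw [← hx2n]; exact Subgroup.index_dvd_of_le hxa
    exact Nat.Coprime.coprime_dvd_left this H.hcop.symm
  · rw [hqa]; exact hqm'.pow_left k

/-- K3 -/
theorem k3 (H : Hyp G m n) {x a : G} (hx : idx x = n) (ha : a ∈ Cn x)
    (hoa : (orderOf a).Coprime m) : a ∈ center G := by
  refine primary_induction (center G) (fun a => a ∈ Cn x ∧ (orderOf a).Coprime m) ?_ ?_ a ⟨ha, hoa⟩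
  · rintro g h ⟨hg1, hg2⟩ hh
    refine ⟨(Subgroup.zpowers_le.mpr hg1) hh, ?_⟩
    exact Nat.Coprime.coprime_dvd_left (orderOf_dvd_of_mem_zpowers hh) hg2
  · rintro g ⟨hg1, hg2⟩ q k hq hk
    by_cases hk0 : k = 0
    · rw [hk0, pow_zero, orderOf_eq_one_iff] at hk
      rw [hk]; exact Subgroup.one_mem _
    · apply k3_prime H hx hg1 q k hq hk
      intro hqm
      rw [hk] at hg2
      have h1 : q ∣ q ^ k := dvd_pow_self q hk0
      have := Nat.dvd_gcd h1 hqm
      rw [hg2.gcd_eq_one] at this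
      exact hq.one_lt.ne' (Nat.dvd_one.mp this)

/-- K4 -/
theorem k4 (H : Hyp G m n) (A : Subgroup G) [A.Normal] (hA : (Nat.card A).Coprime m) :
    A ≤ center G := by
  obtain ⟨y, hy⟩ := H.exm
  obtain ⟨x, hx⟩ := H.exn
  have hxy : idx (x * y) = m := by
    apply le_antisymm (H.htop _)
    have := idx_le_idx_mul x y (by rw [hx, hy]; exact H.hcop.symm)
    rwa [hy] at this
  have h1 : A ≤ Cn y := normal_le_Cn A y (by rw [hy]; exact hA)
  have h2 : A ≤ Cn (x * y) := normal_le_Cn A (x * y) (by rw [hxy]; exact hA)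
  intro c hc
  have e1 := mem_Cn.mp (h1 hc)
  have e2 := mem_Cn.mp (h2 hc)
  have hcx : c ∈ Cn x := by
    rw [mem_Cn]
    apply mul_right_cancel (b := y)
    calc c * x * y = c * (x * y) := by rw [mul_assoc]
      _ = x * y * c := e2
      _ = x * (y * c) := by rw [mul_assoc]
      _ = x * (c * y) := by rw [e1]
      _ = x * c * y := by rw [mul_assoc]
  apply k3 H hx hcx
  exact Nat.Coprime.coprime_dvd_left (Subgroup.orderOf_dvd_natCard A hc) hA

theorem k5_setup (H : Hyp G m n) {w x : G} (hx : idx x = n) (h1 : (idx w).Coprime n)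
    (h2 : idx w < m) :
    (∀ g : G, w⁻¹ * (g * w * g⁻¹) ∈ St x) ∧ St x ≤ Cn w ∧ Nat.card (St x) ∣ n := by
  have hcop : (idx w).Coprime (idx x) := by rw [hx]; exact h1
  have hd := idx_mul_dvd w x hcop
  rw [hx] at hd
  have hlt : idx (w * x) < m := by
    rcases (H.htop (w * x)).lt_or_eq with h | h
    · exact h
    · exfalso
      rw [h] at hd
      have := Nat.le_of_dvd (idx_pos' w) (H.hcop.dvd_of_dvd_mul_right hd)
      omega
  have hle : idx (w * x) ≤ idx x := by rw [hx]; exact H.hsecond _ hlt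
  have hcard : Nat.card (St x) ∣ n := by have := card_St_dvd x; rwa [hx] at this
  refine ⟨fun g => comm_mem_St w x hcop hle g, ?_, hcard⟩
  haveI := St_normal x
  apply normal_le_Cn
  exact Nat.Coprime.coprime_dvd_left hcard h1.symm

theorem k5a (H : Hyp G m n) {w : G} (h1 : (idx w).Coprime n) (h2 : idx w < m)
    (ho : (orderOf w).Coprime n) : w ∈ center G := by
  obtain ⟨x, hx⟩ := H.exn
  obtain ⟨hk, hle, hcard⟩ := k5_setup H hx h1 h2
  apply mem_center_of_conj
  intro g
  have hc := mem_Cn.mp (hle (hk g))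
  exact conj_eq_self_of n ho hc.symm (pow_eq_one_of_mem (hk g) hcard)

theorem k5b (H : Hyp G m n) {w : G} (h1 : (idx w).Coprime n) (h2 : idx w < m)
    (ho : (orderOf w).Coprime m) : w ∈ center G := by
  obtain ⟨x, hx⟩ := H.exn
  obtain ⟨hk, hle, hcard⟩ := k5_setup H hx h1 h2
  haveI hN := St_normal x
  set A : Subgroup G := closure (cls w ∪ (St x : Set G)) with hA
  haveI : A.Normal := by
    apply normal_closure_of_conj
    rintro t (ht | ht) g
    · left
      obtain ⟨h, rfl⟩ := ht
      exact ⟨g * h, by group⟩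
    · right
      exact hN.conj_mem t ht g
  have hAle : A ≤ zpowers w ⊔ St x := by
    rw [hA, closure_le]
    rintro t (ht | ht)
    · obtain ⟨g, rfl⟩ := ht
      have : g * w * g⁻¹ = w * (w⁻¹ * (g * w * g⁻¹)) := by group
      rw [this]
      exact mul_mem ((le_sup_left : zpowers w ≤ _) (mem_zpowers w))
        ((le_sup_right : St x ≤ zpowers w ⊔ St x) (hk g))
    · exact (le_sup_right : St x ≤ zpowers w ⊔ St x) ht
  have hcardsup : Nat.card (zpowers w ⊔ St x : Subgroup G) ∣ Nat.card (St x) * orderOf w := by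
    have e1 := Cfsg.Agent.helper18.PG.card_eq_card_mul_relIndex (St x) (zpowers w ⊔ St x) le_sup_right
    rw [Subgroup.relIndex_sup_right] at e1
    rw [e1]
    apply Nat.mul_dvd_mul_left
    have := Subgroup.relIndex_dvd_card (St x) (zpowers w)
    rwa [Nat.card_zpowers] at this
  have hcop : (Nat.card A).Coprime m := by
    have h3 : Nat.card A ∣ Nat.card (St x) * orderOf w :=
      (Subgroup.card_dvd_of_le hAle).trans hcardsup
    apply Nat.Coprime.coprime_dvd_left h3
    apply Nat.Coprime.mul_left _ ho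
    exact Nat.Coprime.coprime_dvd_left hcard H.hcop.symm
  apply k4 H A hcop
  apply Subgroup.subset_closure
  left
  exact ⟨1, by simp⟩

/-- K5: class size prime to `n` and `< m` implies central -/
theorem k5 (H : Hyp G m n) {w : G} (h1 : (idx w).Coprime n) (h2 : idx w < m) :
    w ∈ center G := by
  refine primary_induction (center G) (fun w => (idx w).Coprime n ∧ idx w < m) ?_ ?_ w ⟨h1, h2⟩
  · rintro g h ⟨hg1, hg2⟩ hh
    have hd := idx_dvd_of_mem_zpowers hh
    exact ⟨Nat.Coprime.coprime_dvd_left hd hg1, lt_of_le_of_lt (Nat.le_of_dvd (idx_pos' g) hd) hg2⟩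
  · rintro g ⟨hg1, hg2⟩ q k hq hk
    by_cases hqn : q ∣ n
    · apply k5b H hg1 hg2
      rw [hk]
      apply Nat.Coprime.pow_left
      rw [hq.coprime_iff_not_dvd]
      intro hqm
      have := Nat.dvd_gcd hqm hqn
      rw [H.hcop.gcd_eq_one] at this
      exact hq.one_lt.ne' (Nat.dvd_one.mp this)
    · apply k5a H hg1 hg2
      rw [hk]
      exact (hq.coprime_iff_not_dvd.mpr hqn).pow_left k

end Cfsg.Agent.helper10.CS
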