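import Mathlib
import Cfsg.Agent.Lib_helper10_CSb

/-!
# Two largest class sizes coprime: the norm trick K9 (helper10)
-/

set_option autoImplicit false

namespace Cfsg.Agent.helper10.CS

open Subgroup
open Cfsg.Agent.helper18.CG

variable {G : Type*} [Group G]

/-- Horner-form norm `d * d^u * ... ` -/
def Nrm (u : G) : ℕ → G → G
  | 0, _ => 1
  | (k + 1), d => d * (u * Nrm u k d * u⁻¹)

theorem Nrm_mem (N : Subgroup G) [hN : N.Normal] (u : G) {d : G} (hd : d ∈ N) (k : ℕ) :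
    Nrm u k d ∈ N := by
  induction k with
  | zero => exact N.one_mem
  | succ k ih => exact N.mul_mem hd (hN.conj_mem _ ih u)

theorem Nrm_succ' (u d : G) (k : ℕ) :
    Nrm u (k + 1) d = Nrm u k d * (u ^ k * d * (u ^ k)⁻¹) := by
  induction k with
  | zero => simp [Nrm]
  | succ k ih =>
    calc Nrm u (k + 1 + 1) d = d * (u * Nrm u (k + 1) d * u⁻¹) := rfl
      _ = d * (u * (Nrm u k d * (u ^ k * d * (u ^ k)⁻¹)) * u⁻¹) := by rw [ih]
      _ = (d * (u * Nrm u k d * u⁻¹)) * (u ^ (k + 1) * d * (u ^ (k + 1))⁻¹) := by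
        rw [pow_succ']; group
      _ = Nrm u (k + 1) d * (u ^ (k + 1) * d * (u ^ (k + 1))⁻¹) := rfl

theorem Nrm_conj {u g : G} (hgu : g * u = u * g) (d : G) (k : ℕ) :
    g * Nrm u k d * g⁻¹ = Nrm u k (g * d * g⁻¹) := by
  induction k with
  | zero => simp [Nrm]
  | succ k ih =>
    show g * (d * (u * Nrm u k d * u⁻¹)) * g⁻¹ =
      (g * d * g⁻¹) * (u * Nrm u k (g * d * g⁻¹) * u⁻¹)
    rw [← ih]
    calc g * (d * (u * Nrm u k d * u⁻¹)) * g⁻¹
        = (g * d * g⁻¹) * ((g * u) * Nrm u k d * (g * u)⁻¹) := by group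
      _ = (g * d * g⁻¹) * ((u * g) * Nrm u k d * (u * g)⁻¹) := by rw [hgu]
      _ = (g * d * g⁻¹) * (u * (g * Nrm u k d * g⁻¹) * u⁻¹) := by group

theorem Nrm_mul (N : Subgroup G) [hN : N.Normal] {u c d : G} (hcu : c * u = u * c)
    (hcN : ∀ t ∈ N, c * t = t * c) (hd : d ∈ N) (k : ℕ) :
    Nrm u k (d * c) = Nrm u k d * c ^ k := by
  induction k with
  | zero => simp [Nrm]
  | succ k ih =>
    show (d * c) * (u * Nrm u k (d * c) * u⁻¹) = (d * (u * Nrm u k d * u⁻¹)) * c ^ (k + 1)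
    rw [ih]
    have ht : u * Nrm u k d * u⁻¹ ∈ N := hN.conj_mem _ (Nrm_mem N u hd k) u
    have h1 := hcN _ ht
    have hck : c ^ k * u⁻¹ = u⁻¹ * c ^ k := by
      have : Commute c u := hcu
      exact ((this.pow_left k).inv_right).eq
    calc d * c * (u * (Nrm u k d * c ^ k) * u⁻¹)
        = d * c * (u * Nrm u k d * (c ^ k * u⁻¹)) := by group
      _ = d * c * (u * Nrm u k d * (u⁻¹ * c ^ k)) := by rw [hck]
      _ = d * (c * (u * Nrm u k d * u⁻¹)) * c ^ k := by group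
      _ = d * ((u * Nrm u k d * u⁻¹) * c) * c ^ k := by rw [h1]
      _ = d * (u * Nrm u k d * u⁻¹) * c ^ (k + 1) := by rw [pow_succ']; group

theorem Nrm_fixed (N : Subgroup G) [hN : N.Normal] (hcomm : ∀ a ∈ N, ∀ b ∈ N, a * b = b * a)
    {u d : G} (hd : d ∈ N) {r : ℕ} (hr : u ^ r = 1) :
    u * Nrm u r d * u⁻¹ = Nrm u r d := by
  have h1 : Nrm u (r + 1) d = d * (u * Nrm u r d * u⁻¹) := rfl
  have h2 := Nrm_succ' u d r
  rw [hr] at h2
  simp only [one_mul, inv_one, mul_one] at h2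
  have h3 : d * (u * Nrm u r d * u⁻¹) = d * Nrm u r d := by
    rw [← h1, h2]
    exact hcomm _ (Nrm_mem N u hd r) _ hd
  exact mul_left_cancel h3

variable [Finite G] {m n : ℕ}

theorem conj_comm_x (H : Hyp G m n) {x : G} (hx : idx x = n) (g : G) :
    x * (g * x * g⁻¹) = (g * x * g⁻¹) * x := by
  obtain ⟨y, hy⟩ := H.exm
  have ha : (idx x).Coprime m := by rw [hx]; exact H.hcop.symm
  have hk := comm_T0 H hy ha g
  have hc := mem_Cn.mp (St_le_Cn_T0 hy ha hk)
  set k := x⁻¹ * (g * x * g⁻¹) with hkd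
  have e : g * x * g⁻¹ = x * k := by rw [hkd]; group
  rw [e, mul_assoc x k x, hc]

theorem cls_comm (H : Hyp G m n) {x : G} (hx : idx x = n) :
    ∀ a ∈ cls x, ∀ b ∈ cls x, a * b = b * a := by
  rintro a ⟨g, rfl⟩ b ⟨h, rfl⟩
  have := conj_comm_x H hx (g⁻¹ * h)
  have e1 : g * x * g⁻¹ * (h * x * h⁻¹) =
      g * (x * ((g⁻¹ * h) * x * (g⁻¹ * h)⁻¹)) * g⁻¹ := by group
  have e2 : h * x * h⁻¹ * (g * x * g⁻¹) =
      g * (((g⁻¹ * h) * x * (g⁻¹ * h)⁻¹) * x) * g⁻¹ := by group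
  rw [e1, e2, this]

/-- K9: an element of order prime to `o(x)`, class size `< m`, commutes with a conjugate of `x` -/
theorem k9 (H : Hyp G m n) {x u : G} (hx : idx x = n)
    (hux : (orderOf u).Coprime (orderOf x)) (hlt : idx u < m)
    (hnc : ∀ g : G, u * (g * x * g⁻¹) ≠ (g * x * g⁻¹) * u) : False := by
  classical
  set X : Subgroup G := closure (cls x) with hX
  have hXc : ∀ a ∈ X, ∀ b ∈ X, a * b = b * a := closure_comm _ (cls_comm H hx)
  haveI hXn : X.Normal := normal_closure_of_conj _ (by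
    rintro t ⟨h, rfl⟩ g; exact ⟨g * h, by group⟩)
  have hclsX : ∀ t ∈ cls x, t ∈ X := fun t ht => Subgroup.subset_closure ht
  have hxX : x ∈ X := hclsX x ⟨1, by simp⟩
  have hexp : ∀ c ∈ X, c ^ orderOf x = 1 := by
    intro c hc
    induction hc using Subgroup.closure_induction with
    | mem t ht =>
      obtain ⟨g, rfl⟩ := ht
      rw [conj_pow, pow_orderOf_eq_one]; group
    | one => simp
    | mul a b ha hb iha ihb =>
      rw [(show Commute a b from hXc a ha b hb).mul_pow, iha, ihb, one_mul]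
    | inv a _ iha => rw [inv_pow, iha, inv_one]
  have hur : u ^ orderOf u = 1 := pow_orderOf_eq_one u
  set r := orderOf u with hr
  set d₀ := Nrm u r x with hd₀
  have hd₀X : d₀ ∈ X := Nrm_mem X u hxX r
  have hfix : u * d₀ * u⁻¹ = d₀ := Nrm_fixed X hXc hxX hur
  have hud : u * d₀ = d₀ * u := by
    calc u * d₀ = (u * d₀ * u⁻¹) * u := by group
      _ = d₀ * u := by rw [hfix]
  have hod : (orderOf u).Coprime (orderOf d₀) :=
    Nat.Coprime.coprime_dvd_right (orderOf_dvd_of_pow_eq_one (hexp d₀ hd₀X)) hux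
  have hle := Cn_mul_le_of_coprime hud hod
  set T : Subgroup G := Cn u ⊓ Cn d₀ with hT
  have hnotc : u ∉ center G := by
    intro hc
    apply hnc 1
    have := (Subgroup.mem_center_iff.mp hc) x
    simp only [one_mul, inv_one, mul_one]
    exact this.symm
  have hlt2 : idx (u * d₀) < m := by
    rcases (H.htop (u * d₀)).lt_or_eq with h | h
    · exact h
    · exfalso
      have hd : idx u ∣ idx (u * d₀) := Subgroup.index_dvd_of_le (hle.trans inf_le_left)
      rw [h] at hd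
      exact hnotc (k5 H (Nat.Coprime.coprime_dvd_left hd H.hcop) hlt)
  have hTn : T.index ≤ n :=
    (Nat.le_of_dvd (idx_pos' _) (Subgroup.index_dvd_of_le hle)).trans (H.hsecond _ hlt2)
  let Ω := {ω : G // ω ∈ cls x ∧ Nrm u r ω = d₀}
  have hΩX : ∀ ω : Ω, (ω : G) ∈ X := fun ω => hclsX _ ω.2.1
  have hΩCx : ∀ ω : Ω, (ω : G) ∈ Cn x := by
    intro ω; rw [mem_Cn]; exact hXc _ (hΩX ω) _ hxX
  have hΩnc : ∀ ω : Ω, (ω : G) ∉ Cn u := by
    intro ω hω
    obtain ⟨g, hg⟩ := ω.2.1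
    apply hnc g
    rw [hg]
    exact (mem_Cn.mp hω).symm
  have hZ : ∀ ω ω' : Ω, ((ω' : G)⁻¹ * ω) * u = u * ((ω' : G)⁻¹ * ω) → ω = ω' := by
    intro ω ω' hzu
    set z := (ω' : G)⁻¹ * ω with hz
    have hzX : z ∈ X := X.mul_mem (X.inv_mem (hΩX ω')) (hΩX ω)
    have h1 : (ω : G) = ω' * z := by rw [hz]; group
    have h2 := Nrm_mul X hzu (fun t ht => hXc z hzX t ht) (hΩX ω') r
    rw [← h1, ω.2.2, ω'.2.2] at h2
    have h3 : z ^ r = 1 := by
      have : d₀ * 1 = d₀ * z ^ r := by rw [mul_one]; exact h2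
      exact (mul_left_cancel this).symm
    have h4 : z ^ orderOf x = 1 := hexp z hzX
    have h5 : orderOf z ∣ 1 := by
      have := Nat.dvd_gcd (orderOf_dvd_of_pow_eq_one h3) (orderOf_dvd_of_pow_eq_one h4)
      rwa [hux.gcd_eq_one] at this
    have h6 : z = 1 := orderOf_eq_one_iff.mp (Nat.dvd_one.mp h5)
    apply Subtype.ext
    rw [h1, h6, mul_one]
  -- (C2)
  have hC2 : (Nat.card Ω + 1) * Nat.card ↥(Cn u ⊓ Cn x) ≤ Nat.card ↥(Cn x) := by
    let f : Option Ω × ↥(Cn u ⊓ Cn x) → ↥(Cn x) := fun p =>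
      p.1.elim ⟨(p.2 : G), p.2.2.2⟩ (fun ω => ⟨(ω : G) * (p.2 : G), (Cn x).mul_mem (hΩCx ω) p.2.2.2⟩)
    have hf : Function.Injective f := by
      rintro ⟨o1, c1⟩ ⟨o2, c2⟩ h
      have h' := congrArg Subtype.val h
      cases o1 with
      | none =>
        cases o2 with
        | none =>
          have h'' : (c1 : G) = (c2 : G) := h'
          rw [Subtype.ext h'']
        | some ω =>
          exfalso
          have h'' : (c1 : G) = (ω : G) * (c2 : G) := h'
          apply hΩnc ω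
          have : (ω : G) = (c1 : G) * (c2 : G)⁻¹ := by rw [h'']; group
          rw [this]
          exact (Cn u).mul_mem c1.2.1 ((Cn u).inv_mem c2.2.1)
      | some ω =>
        cases o2 with
        | none =>
          exfalso
          have h'' : (ω : G) * (c1 : G) = (c2 : G) := h'
          apply hΩnc ω
          have : (ω : G) = (c2 : G) * (c1 : G)⁻¹ := by rw [← h'']; group
          rw [this]
          exact (Cn u).mul_mem c2.2.1 ((Cn u).inv_mem c1.2.1)
        | some ω' =>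
          have h'' : (ω : G) * (c1 : G) = (ω' : G) * (c2 : G) := h'
          have hz : (ω' : G)⁻¹ * ω = (c2 : G) * (c1 : G)⁻¹ := by
            calc (ω' : G)⁻¹ * ω = (ω' : G)⁻¹ * ((ω : G) * (c1 : G)) * (c1 : G)⁻¹ := by group
              _ = (c2 : G) * (c1 : G)⁻¹ := by rw [h'']; group
          have hzu : (ω' : G)⁻¹ * ω ∈ Cn u := by
            rw [hz]; exact (Cn u).mul_mem c2.2.1 ((Cn u).inv_mem c1.2.1)
          have hω := hZ ω ω' (mem_Cn.mp hzu)
          subst hω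
          have : (c1 : G) = (c2 : G) := mul_left_cancel h''
          rw [Subtype.ext this]
    have := Nat.card_le_card_of_injective f hf
    rwa [Nat.card_prod, Finite.card_option] at this
  -- (C1)
  have hC1 : Nat.card ↥T ≤ Nat.card Ω * Nat.card ↥(Cn u ⊓ Cn x) := by
    have hω : ∀ g : T, (g : G) * x * (g : G)⁻¹ ∈ cls x ∧
        Nrm u r ((g : G) * x * (g : G)⁻¹) = d₀ := by
      intro g
      refine ⟨⟨g, rfl⟩, ?_⟩
      have hgu : (g : G) * u = u * g := mem_Cn.mp g.2.1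
      have hgd : (g : G) * d₀ = d₀ * g := mem_Cn.mp g.2.2
      rw [← Nrm_conj hgu x r]
      show (g : G) * d₀ * (g : G)⁻¹ = d₀
      rw [hgd]; group
    let ωf : T → Ω := fun g => ⟨_, hω g⟩
    have hch : ∀ ω : Ω, ∃ γ : T, (∃ g : T, ωf g = ω) → ωf γ = ω := by
      intro ω
      by_cases h : ∃ g : T, ωf g = ω
      · obtain ⟨g, hg⟩ := h; exact ⟨g, fun _ => hg⟩
      · exact ⟨1, fun h' => absurd h' h⟩
    choose γ hγ using hch
    have hmem : ∀ g : T, ((γ (ωf g) : T) : G)⁻¹ * (g : G) ∈ Cn u ⊓ Cn x := by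
      intro g
      have h1 : ωf (γ (ωf g)) = ωf g := hγ _ ⟨g, rfl⟩
      set c : G := ((γ (ωf g) : T) : G) with hc
      have h1' : c * x * c⁻¹ = (g : G) * x * (g : G)⁻¹ := congrArg Subtype.val h1
      refine ⟨(Cn u).mul_mem ((Cn u).inv_mem (γ (ωf g)).2.1) g.2.1, ?_⟩
      show c⁻¹ * (g : G) ∈ Cn x
      rw [mem_Cn]
      have h2 : (c⁻¹ * (g : G)) * x * (c⁻¹ * (g : G))⁻¹ = x := by
        calc (c⁻¹ * (g : G)) * x * (c⁻¹ * (g : G))⁻¹ = c⁻¹ * ((g : G) * x * (g : G)⁻¹) * c := by group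
          _ = c⁻¹ * (c * x * c⁻¹) * c := by rw [h1']
          _ = x := by group
      calc c⁻¹ * (g : G) * x = ((c⁻¹ * (g : G)) * x * (c⁻¹ * (g : G))⁻¹) * (c⁻¹ * (g : G)) := by group
        _ = x * (c⁻¹ * (g : G)) := by rw [h2]
    let F : T → Ω × ↥(Cn u ⊓ Cn x) := fun g => (ωf g, ⟨_, hmem g⟩)
    have hF : Function.Injective F := by
      intro g1 g2 h
      have h1 : ωf g1 = ωf g2 := congrArg Prod.fst h
      have h2 : ((γ (ωf g1) : T) : G)⁻¹ * (g1 : G) = ((γ (ωf g2) : T) : G)⁻¹ * (g2 : G) :=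
        congrArg (fun p => ((p.2 : ↥(Cn u ⊓ Cn x)) : G)) h
      rw [h1] at h2
      exact Subtype.ext (mul_left_cancel h2)
    have := Nat.card_le_card_of_injective F hF
    rwa [Nat.card_prod] at this
  have e1 : (Cn x).index * Nat.card (Cn x) = Nat.card G := Subgroup.index_mul_card _
  have e2 : T.index * Nat.card T = Nat.card G := Subgroup.index_mul_card _
  have hx' : (Cn x).index = n := hx
  have hcpos : 0 < Nat.card ↥(Cn u ⊓ Cn x) := Nat.card_pos
  have h3 : n * ((Nat.card Ω + 1) * Nat.card ↥(Cn u ⊓ Cn x)) ≤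
      n * (Nat.card Ω * Nat.card ↥(Cn u ⊓ Cn x)) := by
    calc n * ((Nat.card Ω + 1) * Nat.card ↥(Cn u ⊓ Cn x)) ≤ n * Nat.card (Cn x) :=
          Nat.mul_le_mul_left _ hC2
      _ = Nat.card G := by rw [← hx']; exact e1
      _ = T.index * Nat.card T := e2.symm
      _ ≤ n * (Nat.card Ω * Nat.card ↥(Cn u ⊓ Cn x)) := Nat.mul_le_mul hTn hC1
  have hnpos : 0 < n := by have := H.hn; omega
  have h4 := Nat.le_of_mul_le_mul_left h3 hnpos
  rw [Nat.add_mul, one_mul] at h4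
  omega

end Cfsg.Agent.helper10.CS
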