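import Mathlib
import Cfsg.Agent.Lib_helper10_CSc

/-!
# Two largest class sizes coprime: every class size is `1`, `n` or `m` (helper10)
-/

set_option autoImplicit false

namespace Cfsg.Agent.helper10.CS

open Subgroup
open Cfsg.Agent.helper18.CG

variable {G : Type*} [Group G] [Finite G] {m n : ℕ}

/-- an element of class size `n` whose order is prime to a given prime `q ∤ m` -/
theorem exists_x_coprime (H : Hyp G m n) (q : ℕ) (hq : q.Prime) (hqm : ¬ q ∣ m) :
    ∃ x₂ : G, idx x₂ = n ∧ ¬ q ∣ orderOf x₂ := by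
  obtain ⟨x, hx⟩ := H.exn
  obtain ⟨x₁, x₂, hxe, hx1, hx2, ⟨j, hj⟩, hnd⟩ := exists_split x q hq
  have hqm' : q.Coprime m := hq.coprime_iff_not_dvd.mpr hqm
  have hx1c : x₁ ∈ center G := by
    apply k2 H
    · have := idx_dvd_of_mem_zpowers hx1
      rw [hx] at this
      exact Nat.Coprime.coprime_dvd_left this H.hcop.symm
    · rw [hj]; exact hqm'.pow_left j
  have hCle : Cn x₂ ≤ Cn x := by
    intro c hc
    rw [mem_Cn] at hc ⊢
    rw [hxe, ← mul_assoc, (Subgroup.mem_center_iff.mp hx1c) c, mul_assoc, hc, ← mul_assoc]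
  have hCeq : Cn x₂ = Cn x := le_antisymm hCle (Cn_le_of_mem_zpowers hx2)
  refine ⟨x₂, ?_, hnd⟩
  show (Cn x₂).index = n
  rw [hCeq]; exact hx

/-- S1: an element of order prime to `m` and class size `< m` is central -/
theorem s1 (H : Hyp G m n) {u : G} (ho : (orderOf u).Coprime m) (hlt : idx u < m) :
    u ∈ center G := by
  refine primary_induction (center G) (fun u => (orderOf u).Coprime m ∧ idx u < m) ?_ ?_ u ⟨ho, hlt⟩
  · rintro g h ⟨hg1, hg2⟩ hh
    have hd := idx_dvd_of_mem_zpowers hh
    exact ⟨Nat.Coprime.coprime_dvd_left (orderOf_dvd_of_mem_zpowers hh) hg1,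
      lt_of_le_of_lt (Nat.le_of_dvd (idx_pos' g) hd) hg2⟩
  · rintro g ⟨hg1, hg2⟩ q k hq hk
    by_cases hk0 : k = 0
    · rw [hk0, pow_zero, orderOf_eq_one_iff] at hk
      rw [hk]; exact Subgroup.one_mem _
    · have hqm : ¬ q ∣ m := by
        intro hqm
        rw [hk] at hg1
        have h1 : q ∣ q ^ k := dvd_pow_self q hk0
        have := Nat.dvd_gcd h1 hqm
        rw [hg1.gcd_eq_one] at this
        exact hq.one_lt.ne' (Nat.dvd_one.mp this)
      obtain ⟨x₂, hx2, hnd⟩ := exists_x_coprime H q hq hqm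
      by_contra hgc
      apply k9 H (x := x₂) (u := g) hx2 _ hg2
      · intro t he
        apply hgc
        have hx2' : idx (t * x₂ * t⁻¹) = n := by rw [idx_conj]; exact hx2
        apply k3 H hx2' _ hg1
        rw [mem_Cn]; exact he
      · rw [hk]
        exact (hq.coprime_iff_not_dvd.mpr hnd).pow_left k

/-- every class size is `1`, `n` or `m` -/
theorem class_sizes (H : Hyp G m n) (w : G) (hlt : idx w < m) : idx w = 1 ∨ idx w = n := by
  by_cases hc : w ∈ center G
  · left; exact (idx_eq_one_iff w).mpr hc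
  right
  -- Claim A
  have hA : ∀ b : G, b ∈ Cn w → (orderOf b).Coprime m → b ∈ center G := by
    intro b hb hob
    refine primary_induction (center G) (fun b => b ∈ Cn w ∧ (orderOf b).Coprime m) ?_ ?_ b ⟨hb, hob⟩
    · rintro g h ⟨hg1, hg2⟩ hh
      exact ⟨(Subgroup.zpowers_le.mpr hg1) hh,
        Nat.Coprime.coprime_dvd_left (orderOf_dvd_of_mem_zpowers hh) hg2⟩
    · rintro b ⟨hb1, hb2⟩ q k hq hk
      by_cases hk0 : k = 0
      · rw [hk0, pow_zero, orderOf_eq_one_iff] at hk
        rw [hk]; exact Subgroup.one_mem _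
      have hqm : ¬ q ∣ m := by
        intro hqm
        rw [hk] at hb2
        have h1 : q ∣ q ^ k := dvd_pow_self q hk0
        have := Nat.dvd_gcd h1 hqm
        rw [hb2.gcd_eq_one] at this
        exact hq.one_lt.ne' (Nat.dvd_one.mp this)
      have hqm' : q.Coprime m := hq.coprime_iff_not_dvd.mpr hqm
      by_contra hbc
      have hbm : idx b = m := by
        rcases (H.htop b).lt_or_eq with h | h
        · exact absurd (s1 H hb2 h) hbc
        · exact h
      obtain ⟨w₁, w₂, hwe, hw1, hw2, ⟨j, hj⟩, hnd⟩ := exists_split w q hq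
      have hw1c : w₁ ∈ center G := by
        apply s1 H
        · rw [hj]; exact hqm'.pow_left j
        · exact lt_of_le_of_lt (Nat.le_of_dvd (idx_pos' w) (idx_dvd_of_mem_zpowers hw1)) hlt
      have hCle : Cn w₂ ≤ Cn w := by
        intro c hc
        rw [mem_Cn] at hc ⊢
        rw [hwe, ← mul_assoc, (Subgroup.mem_center_iff.mp hw1c) c, mul_assoc, hc, ← mul_assoc]
      have hCeq : Cn w₂ = Cn w := le_antisymm hCle (Cn_le_of_mem_zpowers hw2)
      have hb2' : b ∈ Cn w₂ := hCeq ▸ hb1
      have hcomm : b * w₂ = w₂ * b := mem_Cn.mp hb2'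
      have hcopo : (orderOf b).Coprime (orderOf w₂) := by
        rw [hk]; exact (hq.coprime_iff_not_dvd.mpr hnd).pow_left k
      have hle := Cn_mul_le_of_coprime hcomm hcopo
      have hdvd : m ∣ idx (b * w₂) := by
        rw [← hbm]; exact Subgroup.index_dvd_of_le (hle.trans inf_le_left)
      have heq : idx (b * w₂) = m :=
        le_antisymm (H.htop _) (Nat.le_of_dvd (idx_pos' _) hdvd)
      have hge : Cn b ≤ Cn (b * w₂) :=
        le_of_le_of_index_eq (hle.trans inf_le_left) (by
          show idx (b * w₂) = idx b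
          rw [heq, hbm])
      have hbw : Cn b ≤ Cn w := by
        rw [← hCeq]; exact hge.trans (hle.trans inf_le_right)
      have hd : idx w ∣ m := by rw [← hbm]; exact Subgroup.index_dvd_of_le hbw
      exact hc (k5 H (Nat.Coprime.coprime_dvd_left hd H.hcop) hlt)
  -- Claim B
  obtain ⟨x, hx⟩ := H.exn
  have hZle : center G ≤ Cn w := Subgroup.center_le_centralizer _
  have hrel : n.Coprime ((center G).relIndex (Cn w)) := by
    apply Nat.Coprime.symm
    apply Nat.coprime_of_dvd
    intro q hq hq1 hq2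
    haveI : Fact q.Prime := ⟨hq⟩
    have hqm : ¬ q ∣ m := by
      intro hqm
      have := Nat.dvd_gcd hqm hq2
      rw [H.hcop.gcd_eq_one] at this
      exact hq.one_lt.ne' (Nat.dvd_one.mp this)
    have hcard : q ∣ Nat.card (↥(Cn w) ⧸ (center G).subgroupOf (Cn w)) := hq1
    obtain ⟨abar, habar⟩ := exists_prime_orderOf_dvd_card' q hcard
    obtain ⟨a, rfl⟩ := QuotientGroup.mk_surjective abar
    have h1 : (a : G) ∉ center G := by
      intro h
      have : ((a : ↥(Cn w)) : ↥(Cn w) ⧸ (center G).subgroupOf (Cn w)) = 1 := by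
        rw [QuotientGroup.eq_one_iff]; exact Subgroup.mem_subgroupOf.mpr h
      rw [this, orderOf_one] at habar
      exact hq.one_lt.ne habar
    have h2 : (a : G) ^ q ∈ center G := by
      have : ((a : ↥(Cn w)) : ↥(Cn w) ⧸ (center G).subgroupOf (Cn w)) ^ q = 1 := by
        rw [← habar]; exact pow_orderOf_eq_one _
      rw [← QuotientGroup.mk_pow, QuotientGroup.eq_one_iff, Subgroup.mem_subgroupOf] at this
      simpa using this
    obtain ⟨k, t, ht, he⟩ := Nat.exists_eq_pow_mul_and_not_dvd (orderOf_pos (a : G)).ne' q hq.ne_one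
    have h3 : (a : G) ^ t ∈ center G := by
      apply hA
      · exact (Cn w).pow_mem a.2 t
      · have h4 : ((a : G) ^ t) ^ (q ^ k) = 1 := by
          rw [← pow_mul, mul_comm, ← he, pow_orderOf_eq_one]
        have h5 := orderOf_dvd_of_pow_eq_one h4
        exact Nat.Coprime.coprime_dvd_left h5 ((hq.coprime_iff_not_dvd.mpr hqm).pow_left k)
    have hcop : t.Coprime q := (hq.coprime_iff_not_dvd.mpr ht).symm
    exact h1 (mem_of_coprime_pow_mem (center G) hcop h3 h2)
  have hn1 : n ∣ (center G).index := by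
    rw [← hx]; exact Subgroup.index_dvd_of_le (Subgroup.center_le_centralizer _)
  have hmul := Subgroup.relIndex_mul_index hZle
  rw [← hmul] at hn1
  have hn2 : n ∣ idx w := hrel.dvd_of_dvd_mul_left hn1
  exact le_antisymm (H.hsecond _ hlt) (Nat.le_of_dvd (idx_pos' w) hn2)

/-- split -/
theorem split (H : Hyp G m n) (g : G) : idx g = m ∨ (idx g).Coprime m := by
  rcases (H.htop g).lt_or_eq with h | h
  · right
    rcases class_sizes H g h with h1 | h1
    · rw [h1]; exact Nat.coprime_one_left m
    · rw [h1]; exact H.hcop.symm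
  · left; exact h

end Cfsg.Agent.helper10.CS

namespace Cfsg.Agent.helper10

open Cfsg.Agent.helper10.CS in
/-- interface: under the hypotheses of S4138 every class size is `m` or prime to `m`
(indeed `1`, `n` or `m`). -/
theorem h10_split {G : Type*} [Group G] [Finite G] (m n : ℕ) (hmn : n < m) (hn : 1 < n)
    (hcop : m.Coprime n)
    (htop : ∀ z : G, (Subgroup.centralizer ({z} : Set G)).index ≤ m)
    (hsecond : ∀ z : G, (Subgroup.centralizer ({z} : Set G)).index < m →
      (Subgroup.centralizer ({z} : Set G)).index ≤ n)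
    (x y : G) (hx : (Subgroup.centralizer ({x} : Set G)).index = n)
    (hy : (Subgroup.centralizer ({y} : Set G)).index = m) :
    ∀ g : G, (Subgroup.centralizer ({g} : Set G)).index = m ∨
      ((Subgroup.centralizer ({g} : Set G)).index).Coprime m :=
  fun g => split (G := G) ⟨hmn, hn, hcop, htop, hsecond, ⟨x, hx⟩, ⟨y, hy⟩⟩ g

open Cfsg.Agent.helper10.CS in
theorem h10_class_sizes {G : Type*} [Group G] [Finite G] (m n : ℕ) (hmn : n < m) (hn : 1 < n)
    (hcop : m.Coprime n)
    (htop : ∀ z : G, (Subgroup.centralizer ({z} : Set G)).index ≤ m)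
    (hsecond : ∀ z : G, (Subgroup.centralizer ({z} : Set G)).index < m →
      (Subgroup.centralizer ({z} : Set G)).index ≤ n)
    (x y : G) (hx : (Subgroup.centralizer ({x} : Set G)).index = n)
    (hy : (Subgroup.centralizer ({y} : Set G)).index = m) :
    ∀ g : G, (Subgroup.centralizer ({g} : Set G)).index < m →
      (Subgroup.centralizer ({g} : Set G)).index = 1 ∨
      (Subgroup.centralizer ({g} : Set G)).index = n :=
  fun g hg => class_sizes (G := G) ⟨hmn, hn, hcop, htop, hsecond, ⟨x, hx⟩, ⟨y, hy⟩⟩ g hg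

end Cfsg.Agent.helper10
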