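import Mathlib

set_option autoImplicit false

/-!
# Vanishing of a 1-cocycle that is trivial on a subgroup of index prime to the coefficients

`cocycle_trivial`: if `Z` is an abelian normal subgroup of the finite group `G`, `T ≤ G` has index
coprime to `|Z|`, and the endomorphism `α` of `G` satisfies `α g * g⁻¹ ∈ Z` for all `g` and fixes
`T` elementwise, then `α` is conjugation by an element of `Z`.
-/

namespace Cfsg.Agent.helper10

theorem exists_average {G : Type*} [Group G] [Finite G] (T Z : Subgroup G)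
    (hZn : ∀ g : G, ∀ z ∈ Z, g * z * g⁻¹ ∈ Z) (hZc : ∀ a ∈ Z, ∀ b ∈ Z, a * b = b * a)
    (α : G →* G) (hα : ∀ g : G, α g * g⁻¹ ∈ Z) (hT : ∀ t ∈ T, α t = t) :
    ∃ W ∈ Z, ∀ h : G, W = (α h * h⁻¹) ^ T.index * (h * W * h⁻¹) := by
  classical
  letI : Fintype (G ⧸ T) := Fintype.ofFinite _
  letI instC : CommGroup ↥Z := { (inferInstance : Group ↥Z) with
    mul_comm := fun a b => Subtype.ext (hZc a.1 a.2 b.1 b.2) }
  let f : G → ↥Z := fun g => ⟨α g * g⁻¹, hα g⟩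
  have hfT : ∀ g : G, ∀ t ∈ T, f (g * t) = f g := by
    intro g t ht
    apply Subtype.ext
    show α (g * t) * (g * t)⁻¹ = α g * g⁻¹
    rw [map_mul, hT t ht]; group
  let F : G ⧸ T → ↥Z := Quotient.lift f (by
    intro a b hab
    have h1 : a⁻¹ * b ∈ T := QuotientGroup.leftRel_apply.1 hab
    calc f a = f (a * (a⁻¹ * b)) := (hfT a _ h1).symm
      _ = f b := by congr 1; group)
  have hF : ∀ g : G, F (QuotientGroup.mk g) = f g := fun g => rfl
  let cz : G → (↥Z →* ↥Z) := fun h =>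
    { toFun := fun z => ⟨h * z.1 * h⁻¹, hZn h z.1 z.2⟩
      map_one' := by
        apply Subtype.ext
        show h * 1 * h⁻¹ = 1
        group
      map_mul' := fun a b => by
        apply Subtype.ext
        show h * (a.1 * b.1) * h⁻¹ = (h * a.1 * h⁻¹) * (h * b.1 * h⁻¹)
        group }
  have hkey : ∀ h g : G, f (h * g) = f h * cz h (f g) := by
    intro h g
    apply Subtype.ext
    show α (h * g) * (h * g)⁻¹ = (α h * h⁻¹) * (h * (α g * g⁻¹) * h⁻¹)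
    rw [map_mul]; group
  have hFsmul : ∀ (h : G) (q : G ⧸ T), F (h • q) = f h * cz h (F q) := by
    intro h q
    induction q using QuotientGroup.induction_on with
    | H g =>
      show F (QuotientGroup.mk (h * g)) = f h * cz h (F (QuotientGroup.mk g))
      rw [hF, hF]; exact hkey h g
  refine ⟨((∏ q : G ⧸ T, F q : ↥Z) : G), (∏ q : G ⧸ T, F q).2, ?_⟩
  intro h
  have h1 : ∏ q : G ⧸ T, F (h • q) = ∏ q : G ⧸ T, F q :=
    Equiv.prod_comp (MulAction.toPerm h) F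
  have h2 : ∏ q : G ⧸ T, F (h • q) =
      (f h) ^ (Fintype.card (G ⧸ T)) * cz h (∏ q : G ⧸ T, F q) := by
    rw [Finset.prod_congr rfl (fun q _ => hFsmul h q), Finset.prod_mul_distrib,
      Finset.prod_const, Finset.card_univ, map_prod]
  have hidx : Fintype.card (G ⧸ T) = T.index := by
    rw [Subgroup.index_eq_card, Nat.card_eq_fintype_card]
  rw [h1, hidx] at h2
  exact congrArg Subtype.val h2

theorem cocycle_trivial {G : Type*} [Group G] [Finite G] (T Z : Subgroup G)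
    (hZn : ∀ g : G, ∀ z ∈ Z, g * z * g⁻¹ ∈ Z) (hZc : ∀ a ∈ Z, ∀ b ∈ Z, a * b = b * a)
    (hcop : (Nat.card ↥Z).Coprime T.index)
    (α : G →* G) (hα : ∀ g : G, α g * g⁻¹ ∈ Z) (hT : ∀ t ∈ T, α t = t) :
    ∃ z ∈ Z, ∀ g : G, α g = z * g * z⁻¹ := by
  obtain ⟨W, hWZ, hW⟩ := exists_average T Z hZn hZc α hα hT
  obtain ⟨z₀, hz₀⟩ := (powCoprime (G := ↥Z) hcop).surjective ⟨W, hWZ⟩
  have hz₀1 : z₀ ^ T.index = ⟨W, hWZ⟩ := hz₀
  have hz₀' : (z₀ : G) ^ T.index = W := by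
    have := congrArg Subtype.val hz₀1
    rwa [Subgroup.coe_pow] at this
  refine ⟨z₀, z₀.2, fun h => ?_⟩
  have hmem : α h * h⁻¹ * (h * (z₀ : G) * h⁻¹) ∈ Z := Z.mul_mem (hα h) (hZn h z₀ z₀.2)
  have hcomm : Commute (α h * h⁻¹) (h * (z₀ : G) * h⁻¹) :=
    hZc _ (hα h) _ (hZn h z₀ z₀.2)
  have h5 : ((⟨α h * h⁻¹ * (h * (z₀ : G) * h⁻¹), hmem⟩ : ↥Z)) ^ T.index = z₀ ^ T.index := by
    apply Subtype.ext
    rw [Subgroup.coe_pow, Subgroup.coe_pow]
    show (α h * h⁻¹ * (h * (z₀ : G) * h⁻¹)) ^ T.index = (z₀ : G) ^ T.index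
    rw [hcomm.mul_pow, conj_pow, hz₀', ← hW h]
  have h6 : (⟨α h * h⁻¹ * (h * (z₀ : G) * h⁻¹), hmem⟩ : ↥Z) = z₀ :=
    (powCoprime (G := ↥Z) hcop).injective h5
  have h7 : α h * h⁻¹ * (h * (z₀ : G) * h⁻¹) = z₀ := congrArg Subtype.val h6
  calc α h = (α h * h⁻¹ * (h * (z₀ : G) * h⁻¹)) * (h * (z₀ : G)⁻¹) := by group
    _ = z₀ * (h * (z₀ : G)⁻¹) := by rw [h7]
    _ = z₀ * h * (z₀ : G)⁻¹ := by group

end Cfsg.Agent.helper10
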