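import Cfsg.Prelude.Def_ConjugacyFunctors
import Mathlib.GroupTheory.Nilpotent
import Cfsg.Agent.Lib_helper10_Sylow

set_option autoImplicit false
open Cfsg

namespace Cfsg.Agent.helper10

variable {G : Type*} [Group G]

/-- Right conjugate of a set: `x⁻¹ A x`. -/
def rconj (A : Set G) (x : G) : Set G := (fun a => x⁻¹ * a * x) '' A

theorem mem_rconj_iff (A : Set G) (x b : G) : b ∈ rconj A x ↔ x * b * x⁻¹ ∈ A := by
  constructor
  · rintro ⟨a, ha, rfl⟩
    have : x * (x⁻¹ * a * x) * x⁻¹ = a := by group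
    rw [this]; exact ha
  · intro h
    exact ⟨x * b * x⁻¹, h, by group⟩

theorem rconj_one (A : Set G) : rconj A 1 = A := by
  ext b; rw [mem_rconj_iff]; simp

theorem rconj_rconj (A : Set G) (x y : G) : rconj (rconj A x) y = rconj A (x * y) := by
  ext b
  rw [mem_rconj_iff, mem_rconj_iff, mem_rconj_iff]
  have : x * (y * b * y⁻¹) * x⁻¹ = x * y * b * (x * y)⁻¹ := by group
  rw [this]

theorem rconj_mono {A B : Set G} (h : A ⊆ B) (x : G) : rconj A x ⊆ rconj B x :=
  Set.image_mono h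

theorem rconj_coe (T : Subgroup G) (g : G) :
    rconj (T : Set G) g = ((T.map (MulAut.conj g⁻¹).toMonoidHom : Subgroup G) : Set G) := by
  ext b
  rw [mem_rconj_iff]
  show g * b * g⁻¹ ∈ T ↔ b ∈ T.map (MulAut.conj g⁻¹).toMonoidHom
  rw [mem_map_conj_iff, inv_inv]

theorem rconj_eq_self_of_mem_normalizer (T : Subgroup G) (x : G)
    (hx : x ∈ Subgroup.normalizer (T : Set G)) : rconj (T : Set G) x = T := by
  rw [rconj_coe]
  have : x⁻¹ ∈ Subgroup.normalizer (T : Set G) := Subgroup.inv_mem _ hx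
  rw [(mem_normalizer_iff_map_conj T x⁻¹).mp this]

theorem mem_normalizer_of_rconj_eq (T : Subgroup G) (x : G) (h : rconj (T : Set G) x = T) :
    x ∈ Subgroup.normalizer (T : Set G) := by
  rw [rconj_coe] at h
  have h1 : x⁻¹ ∈ Subgroup.normalizer (T : Set G) :=
    (mem_normalizer_iff_map_conj T x⁻¹).mpr (SetLike.coe_injective h)
  simpa using Subgroup.inv_mem _ h1

/-- The chain condition. -/
def ChainCond : Set G → List (Subgroup G × G) → Prop
  | _, [] => True
  | A, q :: l => A ⊆ q.1 ∧ ChainCond (rconj A q.2) l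

/-- `A` is carried by `g` through a chain of normalizers of members of `𝓕`. -/
def IsChain (𝓕 : Set (Subgroup G)) (A : Set G) (g : G) : Prop :=
  ∃ l : List (Subgroup G × G), (l.map Prod.snd).prod = g ∧
    (∀ q ∈ l, q.1 ∈ 𝓕 ∧ q.2 ∈ Subgroup.normalizer ((q.1 : Subgroup G) : Set G)) ∧ ChainCond A l

theorem chainCond_mono {A B : Set G} (h : A ⊆ B) : ∀ l : List (Subgroup G × G),
    ChainCond B l → ChainCond A l := by
  intro l
  induction l generalizing A B with
  | nil => intro _; trivial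
  | cons q l ih =>
    rintro ⟨h1, h2⟩
    exact ⟨h.trans h1, ih (rconj_mono h q.2) h2⟩

theorem chainCond_append (A : Set G) (l₁ l₂ : List (Subgroup G × G)) :
    ChainCond A (l₁ ++ l₂) ↔ ChainCond A l₁ ∧ ChainCond (rconj A (l₁.map Prod.snd).prod) l₂ := by
  induction l₁ generalizing A with
  | nil => simp [ChainCond, rconj_one]
  | cons q l ih =>
    simp only [List.cons_append, ChainCond, List.map_cons, List.prod_cons]
    rw [ih, rconj_rconj, and_assoc]

theorem isChain_one (𝓕 : Set (Subgroup G)) (A : Set G) : IsChain 𝓕 A 1 :=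
  ⟨[], by simp, by simp, trivial⟩

theorem isChain_single {𝓕 : Set (Subgroup G)} {A : Set G} {T : Subgroup G} {x : G}
    (hT : T ∈ 𝓕) (hx : x ∈ Subgroup.normalizer (T : Set G)) (hA : A ⊆ T) : IsChain 𝓕 A x :=
  ⟨[(T, x)], by simp, by simpa using ⟨hT, hx⟩, ⟨hA, trivial⟩⟩

theorem isChain_mono {𝓕 : Set (Subgroup G)} {A B : Set G} {g : G} (h : A ⊆ B) :
    IsChain 𝓕 B g → IsChain 𝓕 A g := by
  rintro ⟨l, h1, h2, h3⟩
  exact ⟨l, h1, h2, chainCond_mono h l h3⟩

theorem isChain_trans {𝓕 : Set (Subgroup G)} {A : Set G} {g h : G} :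
    IsChain 𝓕 A g → IsChain 𝓕 (rconj A g) h → IsChain 𝓕 A (g * h) := by
  rintro ⟨l₁, h1, h2, h3⟩ ⟨l₂, k1, k2, k3⟩
  refine ⟨l₁ ++ l₂, by simp [h1, k1], ?_, ?_⟩
  · intro q hq
    rcases List.mem_append.mp hq with hq | hq
    · exact h2 q hq
    · exact k2 q hq
  · rw [chainCond_append, h1]
    exact ⟨h3, k3⟩

theorem isChain_symm {𝓕 : Set (Subgroup G)} {A : Set G} {g : G} :
    IsChain 𝓕 A g → IsChain 𝓕 (rconj A g) g⁻¹ := by
  rintro ⟨l, h1, h2, h3⟩
  induction l generalizing A g with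
  | nil =>
    simp at h1
    subst h1
    simpa using isChain_one 𝓕 (rconj A 1)
  | cons q l ih =>
    simp only [List.map_cons, List.prod_cons] at h1
    obtain ⟨hA, h3'⟩ := h3
    have hq := h2 q (List.mem_cons_self)
    have ih' := ih (A := rconj A q.2) (g := (l.map Prod.snd).prod) rfl
      (fun q' hq' => h2 q' (List.mem_cons_of_mem _ hq')) h3'
    rw [rconj_rconj, h1] at ih'
    subst h1
    have h4 : IsChain 𝓕 (rconj (rconj A (q.2 * (l.map Prod.snd).prod)) ((l.map Prod.snd).prod)⁻¹) q.2⁻¹ := by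
      rw [rconj_rconj]
      have : q.2 * (l.map Prod.snd).prod * ((l.map Prod.snd).prod)⁻¹ = q.2 := by group
      rw [this]
      apply isChain_single hq.1 (Subgroup.inv_mem _ hq.2)
      calc rconj A q.2 ⊆ rconj (q.1 : Set G) q.2 := rconj_mono hA _
        _ = q.1 := rconj_eq_self_of_mem_normalizer _ _ hq.2
    have := isChain_trans ih' h4
    rw [← mul_inv_rev] at this
    exact this

/-- Conversion to the indexed form used in `Cfsg.IsConjugationFamily`. -/
theorem chainCond_fin (A : Set G) : ∀ (l : List (Subgroup G × G)), ChainCond A l →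
    (∀ h : 0 < l.length, A ⊆ (l[0]'h).1) ∧
    ∀ (i : ℕ) (h : i + 1 < l.length),
      (fun a => (((l.map Prod.snd).take (i + 1)).prod)⁻¹ * a * ((l.map Prod.snd).take (i + 1)).prod) '' A ⊆
        ((l[i + 1]'h).1 : Set G) := by
  intro l
  induction l generalizing A with
  | nil =>
    intro _
    exact ⟨fun h => absurd h (by simp), fun i h => absurd h (by simp)⟩
  | cons q l ih =>
    rintro ⟨hA, hl⟩
    refine ⟨fun _ => hA, ?_⟩
    intro i h
    obtain ⟨ih0, ihs⟩ := ih (rconj A q.2) hl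
    have hlen : i < l.length := by simpa using h
    cases i with
    | zero =>
      have := ih0 hlen
      simpa [rconj] using this
    | succ j =>
      have := ihs j (by simpa using h)
      simp only [List.map_cons, List.take_succ_cons, List.prod_cons, List.getElem_cons_succ]
      rintro _ ⟨a, ha, rfl⟩
      apply this
      refine ⟨q.2⁻¹ * a * q.2, ⟨a, ha, rfl⟩, ?_⟩
      simp only [mul_inv_rev]
      group

theorem isChain_to_fin {𝓕 : Set (Subgroup G)} {A : Set G} {g : G} (h : IsChain 𝓕 A g) :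
    ∃ (n : ℕ) (T : Fin n → Subgroup G) (x : Fin n → G), (List.ofFn x).prod = g ∧
      (∀ i, T i ∈ 𝓕) ∧ (∀ i, x i ∈ Subgroup.normalizer ((T i : Subgroup G) : Set G)) ∧
      (∀ h : 0 < n, A ⊆ T ⟨0, h⟩) ∧
      ∀ (i : Fin n) (h : i.val + 1 < n),
        (fun a => (((List.ofFn x).take (i.val + 1)).prod)⁻¹ * a * ((List.ofFn x).take (i.val + 1)).prod) '' A ⊆
          T ⟨i.val + 1, h⟩ := by
  obtain ⟨l, h1, h2, h3⟩ := h
  have hofFn : List.ofFn (fun i : Fin l.length => (l[(i : ℕ)]).2) = l.map Prod.snd :=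
    List.ofFn_getElem_eq_map l Prod.snd
  obtain ⟨c0, cs⟩ := chainCond_fin A l h3
  refine ⟨l.length, fun i => (l[(i : ℕ)]).1, fun i => (l[(i : ℕ)]).2, ?_, ?_, ?_, ?_, ?_⟩
  · rw [hofFn, h1]
  · intro i; exact (h2 _ (List.getElem_mem i.2)).1
  · intro i; exact (h2 _ (List.getElem_mem i.2)).2
  · intro h; exact c0 h
  · intro i h
    rw [hofFn]
    exact cs i.val h

end Cfsg.Agent.helper10
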