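import Mathlib
import Cfsg.Prelude.Def_Transfer
import Cfsg.Agent.Lib_helper10_TameCtl
import Cfsg.Agent.Lib_helper10_PResidual
import Cfsg.Agent.Lib_helper19_Sylow
import Cfsg.Agent.Lib_helper1_PGroup

set_option autoImplicit false

/-!
# The hyperfocal subgroup theorem (group-theoretic core)
-/

namespace Cfsg.Agent.helper10

open scoped commutatorElement

variable {G : Type*} [Group G]

/-- The generators `x⁻¹ (g x g⁻¹)` of the hyperfocal subgroup: `x ∈ U ≤ T`, `g ∈ N(U)` a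
`p'`-element. -/
def HypSet (p : ℕ) (T : Subgroup G) : Set G :=
  {y | ∃ U : Subgroup G, U ≤ T ∧ ∃ g ∈ Subgroup.normalizer (U : Set G),
    Nat.Coprime (orderOf g) p ∧ ∃ x ∈ U, y = x⁻¹ * (g * x * g⁻¹)}

theorem hypSet_subset (p : ℕ) (T : Subgroup G) : HypSet p T ⊆ (T : Set G) := by
  rintro y ⟨U, hU, g, hg, -, x, hx, rfl⟩
  have h1 : g * x * g⁻¹ ∈ U := (Subgroup.mem_normalizer_iff.mp hg x).mp hx
  exact hU (U.mul_mem (U.inv_mem hx) h1)

/-- Elements of `O^p(N(U))` move elements of `U` by hyperfocal generators. -/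
theorem pResidual_normalizer_hyp (p : ℕ) (T U : Subgroup G) (hU : U ≤ T)
    (k : Subgroup.normalizer (U : Set G))
    (hk : k ∈ Cfsg.pResidual p (Subgroup.normalizer (U : Set G))) :
    ∀ x ∈ U, x⁻¹ * ((k : G) * x * (k : G)⁻¹) ∈ Subgroup.closure (HypSet p T) := by
  unfold Cfsg.pResidual at hk
  induction hk using Subgroup.closure_induction with
  | mem g hg =>
    intro x hx
    apply Subgroup.subset_closure
    refine ⟨U, hU, (g : G), g.2, ?_, x, hx, rfl⟩
    rw [Subgroup.orderOf_coe]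
    exact hg
  | one =>
    intro x _
    simp
  | mul k₁ k₂ _ _ h1 h2 =>
    intro x hx
    have hx' : (k₂ : G) * x * (k₂ : G)⁻¹ ∈ U :=
      (Subgroup.mem_normalizer_iff.mp k₂.2 x).mp hx
    have h3 := Subgroup.mul_mem _ (h2 x hx) (h1 _ hx')
    have h4 : x⁻¹ * ((k₂ : G) * x * (k₂ : G)⁻¹) *
        (((k₂ : G) * x * (k₂ : G)⁻¹)⁻¹ * ((k₁ : G) * ((k₂ : G) * x * (k₂ : G)⁻¹) * (k₁ : G)⁻¹))
        = x⁻¹ * (((k₁ * k₂ : Subgroup.normalizer (U : Set G)) : G) * x *
          ((k₁ * k₂ : Subgroup.normalizer (U : Set G)) : G)⁻¹) := by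
      rw [Subgroup.coe_mul]; group
    rw [← h4]
    exact h3
  | inv k _ h1 =>
    intro x hx
    have hk' : (k : G)⁻¹ ∈ Subgroup.normalizer (U : Set G) := Subgroup.inv_mem _ k.2
    have hx' : (k : G)⁻¹ * x * ((k : G)⁻¹)⁻¹ ∈ U :=
      (Subgroup.mem_normalizer_iff.mp hk' x).mp hx
    have h3 := Subgroup.inv_mem _ (h1 _ hx')
    have h4 : (((k : G)⁻¹ * x * ((k : G)⁻¹)⁻¹)⁻¹ *
        ((k : G) * ((k : G)⁻¹ * x * ((k : G)⁻¹)⁻¹) * (k : G)⁻¹))⁻¹
        = x⁻¹ * (((k⁻¹ : Subgroup.normalizer (U : Set G)) : G) * x *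
          ((k⁻¹ : Subgroup.normalizer (U : Set G)) : G)⁻¹) := by
      rw [Subgroup.coe_inv]; group
    rw [← h4]
    exact h3

/-- The local step: the normalizer of a tame subgroup moves its elements by elements of
`⟨HypSet⟩ ⊔ T'`. -/
theorem local_hyp [Finite G] {p : ℕ} [hp : Fact p.Prime] (T : Sylow p G) (U : Subgroup G)
    (hU : U ≤ (T : Subgroup G))
    (htame : ¬ p ∣ ((T : Subgroup G) ⊓ Subgroup.normalizer (U : Set G)).relIndex
      (Subgroup.normalizer (U : Set G)))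
    (z : G) (hz : z ∈ Subgroup.normalizer (U : Set G)) (t : G) (ht : t ∈ U) :
    t * (z * t * z⁻¹)⁻¹ ∈ Subgroup.closure (HypSet p (T : Subgroup G)) ⊔
      ⁅(T : Subgroup G), (T : Subgroup G)⁆ := by
  set N := Subgroup.normalizer (U : Set G) with hN
  have hTp : IsPGroup p (((T : Subgroup G) ⊓ N).subgroupOf N) :=
    (T.isPGroup'.to_le inf_le_left).comap_subtype
  have hidx : ¬ p ∣ (((T : Subgroup G) ⊓ N).subgroupOf N).index := htame
  obtain ⟨s, hs, k, hk, hzsk⟩ := exists_mul_of_pResidual_sylow p (hTp.toSylow hidx) ⟨z, hz⟩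
  have hs' : (s : G) ∈ (T : Subgroup G) := by
    have : s ∈ ((T : Subgroup G) ⊓ N).subgroupOf N := hs
    rw [Subgroup.mem_subgroupOf] at this
    exact this.1
  have hzsk' : z = (s : G) * (k : G) := by
    have := congrArg Subtype.val hzsk
    simpa using this
  have ht' : (k : G) * t * (k : G)⁻¹ ∈ U := (Subgroup.mem_normalizer_iff.mp k.2 t).mp ht
  have h1 := pResidual_normalizer_hyp p (T : Subgroup G) U hU k hk t⁻¹ (U.inv_mem ht)
  have h2 : ⁅(k : G) * t * (k : G)⁻¹, (s : G)⁆ ∈ ⁅(T : Subgroup G), (T : Subgroup G)⁆ :=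
    Subgroup.commutator_mem_commutator (hU ht') hs'
  have h3 : t * (z * t * z⁻¹)⁻¹ = (t⁻¹)⁻¹ * ((k : G) * t⁻¹ * (k : G)⁻¹) *
      ⁅(k : G) * t * (k : G)⁻¹, (s : G)⁆ := by
    rw [hzsk', commutatorElement_def]; group
  rw [h3]
  exact Subgroup.mul_mem _ (Subgroup.mem_sup_left h1) (Subgroup.mem_sup_right h2)

end Cfsg.Agent.helper10

namespace Cfsg.Agent.helper10

open scoped commutatorElement

variable {G : Type*} [Group G]

/-- If `G = O^p(G)` then a Sylow `p`-subgroup lies in the derived subgroup. -/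
theorem sylow_le_commutator_of_pResidual_eq_top [Finite G] {p : ℕ} [hp : Fact p.Prime]
    (T : Sylow p G) (hG : Cfsg.pResidual p G = ⊤) : (T : Subgroup G) ≤ commutator G := by
  -- the elements whose image in the abelianization has order prime to `p`
  let A : Subgroup G :=
    { carrier := {g | Nat.Coprime (orderOf (Abelianization.of g)) p}
      one_mem' := by simp
      mul_mem' := by
        intro a b ha hb
        show Nat.Coprime (orderOf (Abelianization.of (a * b))) p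
        rw [map_mul]
        have h1 : orderOf (Abelianization.of a * Abelianization.of b) ∣
            Nat.lcm (orderOf (Abelianization.of a)) (orderOf (Abelianization.of b)) :=
          (Commute.all _ _).orderOf_mul_dvd_lcm
        have h2 : Nat.Coprime (Nat.lcm (orderOf (Abelianization.of a))
            (orderOf (Abelianization.of b))) p :=
          Nat.Coprime.coprime_dvd_left (Nat.lcm_dvd_mul _ _) (Nat.Coprime.mul_left ha hb)
        exact Nat.Coprime.coprime_dvd_left h1 h2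
      inv_mem' := by
        intro a ha
        show Nat.Coprime (orderOf (Abelianization.of a⁻¹)) p
        rw [map_inv, orderOf_inv]
        exact ha }
  have hA : A = ⊤ := by
    rw [eq_top_iff, ← hG]
    unfold Cfsg.pResidual
    rw [Subgroup.closure_le]
    intro g hg
    show Nat.Coprime (orderOf (Abelianization.of g)) p
    exact Nat.Coprime.coprime_dvd_left (orderOf_map_dvd _ g) hg
  intro x hxT
  have hxA : x ∈ A := by rw [hA]; exact Subgroup.mem_top x
  have h1 : Nat.Coprime (orderOf (Abelianization.of x)) p := hxA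
  have h2 : orderOf (Abelianization.of x) ∣ orderOf x := orderOf_map_dvd _ x
  obtain ⟨k, hk⟩ := T.isPGroup' ⟨x, hxT⟩
  have h3 : orderOf x ∣ p ^ k := by
    apply orderOf_dvd_of_pow_eq_one
    have := congrArg Subtype.val hk
    simpa using this
  have h4 : Nat.Coprime (orderOf (Abelianization.of x)) (p ^ k) := Nat.Coprime.pow_right k h1
  have h5 : orderOf (Abelianization.of x) = 1 := by
    have h6 : orderOf (Abelianization.of x) ∣ Nat.gcd (orderOf (Abelianization.of x)) (p ^ k) :=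
      Nat.dvd_gcd dvd_rfl (h2.trans h3)
    rw [h4] at h6
    exact Nat.dvd_one.mp h6
  rw [orderOf_eq_one_iff] at h5
  have : x ∈ (Abelianization.of : G →* Abelianization G).ker := h5
  rwa [Abelianization.ker_of] at this

end Cfsg.Agent.helper10

namespace Cfsg.Agent.helper10

open scoped commutatorElement

variable {G : Type*} [Group G]

/-- A subgroup `R ≤ T` of a `p`-group `T` with `T ≤ R ⊔ T'` is all of `T`. -/
theorem eq_of_le_sup_commutator [Finite G] {p : ℕ} [hp : Fact p.Prime] (T R : Subgroup G)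
    (hT : IsPGroup p T) (hRT : R ≤ T) (h : T ≤ R ⊔ ⁅T, T⁆) : T ≤ R := by
  have hDT : ⁅T, T⁆ ≤ T := Subgroup.commutator_le.2 (fun a ha b hb =>
    T.mul_mem (T.mul_mem (T.mul_mem ha hb) (T.inv_mem ha)) (T.inv_mem hb))
  have h1 : (R ⊔ ⁅T, T⁆).subgroupOf T = ⊤ := Subgroup.subgroupOf_eq_top.2 h
  rw [Subgroup.subgroupOf_sup hRT hDT] at h1
  have h2 : (⁅T, T⁆ : Subgroup G).subgroupOf T = commutator T := by
    rw [← Subgroup.map_subtype_commutator]
    exact Subgroup.comap_map_eq_self_of_injective T.subtype_injective _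
  rw [h2] at h1
  have h3 : R.subgroupOf T ⊔ frattini T = ⊤ := by
    rw [eq_top_iff, ← h1]
    exact sup_le_sup_left (Cfsg.Agent.helper1.commutator_le_frattini_of_isPGroup hT) _
  have h4 := frattini_nongenerating h3
  exact Subgroup.subgroupOf_eq_top.1 h4

/-- Hyperfocal subgroup theorem, core: if `G = O^p(G)`, a Sylow `p`-subgroup is generated by
the hyperfocal generators. -/
theorem sylow_le_closure_hypSet [Finite G] {p : ℕ} [hp : Fact p.Prime]
    (T : Sylow p G) (hG : Cfsg.pResidual p G = ⊤) :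
    (T : Subgroup G) ≤ Subgroup.closure (HypSet p (T : Subgroup G)) := by
  apply eq_of_le_sup_commutator (T : Subgroup G) _ T.isPGroup'
    ((Subgroup.closure_le _).2 (hypSet_subset p _))
  obtain ⟨RD, hRD⟩ : ∃ RD : Subgroup G, RD = Subgroup.closure (HypSet p (T : Subgroup G)) ⊔
      ⁅(T : Subgroup G), (T : Subgroup G)⁆ := ⟨_, rfl⟩
  rw [← hRD]
  have h0 : (T : Subgroup G) ≤ commutator G ⊓ (T : Subgroup G) :=
    le_inf (sylow_le_commutator_of_pResidual_eq_top T hG) le_rfl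
  refine h0.trans ?_
  rw [Subgroup.commutator_inf_eq_focalSubgroup, Subgroup.focalSubgroup_def,
    Subgroup.closure_le]
  rintro c ⟨hcP, a, ha, u, rfl⟩
  have huau : u * a * u⁻¹ ∈ (T : Subgroup G) := by
    have h2 : (a⁻¹ * ⁅a, u⁆)⁻¹ ∈ (T : Subgroup G) :=
      Subgroup.inv_mem _ (Subgroup.mul_mem _ (Subgroup.inv_mem _ ha) hcP)
    have h3 : (a⁻¹ * ⁅a, u⁆)⁻¹ = u * a * u⁻¹ := by
      rw [commutatorElement_def]; group
    rwa [h3] at h2
  obtain ⟨y, l, hl1, hl2, hl3, hl4⟩ := exists_related T _ (u⁻¹ • T) rfl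
  have haQ : a ∈ (T : Subgroup G) ⊓ ((u⁻¹ • T : Sylow p G) : Subgroup G) := by
    refine Subgroup.mem_inf.2 ⟨ha, ?_⟩
    rw [sylow_smul_eq_map_conj, mem_map_conj_iff, inv_inv]
    exact huau
  have hsteps : ∀ q ∈ toPairs T l, ∀ t ∈ q.1, t * (q.2⁻¹ * t * q.2)⁻¹ ∈ RD := by
    intro q hq t ht
    unfold toPairs at hq
    rw [List.mem_map] at hq
    obtain ⟨q', hq', rfl⟩ := hq
    obtain ⟨h1, h2, -⟩ := hl2 q' hq'
    have h3 := local_hyp T _ inf_le_left h2.1 q'.2⁻¹ (Subgroup.inv_mem _ h1) t ht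
    rw [inv_inv, ← hRD] at h3
    exact h3
  have hfoc := chain_focal RD (toPairs T l) _ hsteps hl3 a haQ
  rw [toPairs_snd, hl1] at hfoc
  have hn : y⁻¹ * u⁻¹ ∈ Subgroup.normalizer (((T : Subgroup G)) : Set G) := by
    rw [mem_normalizer_iff_map_conj, map_conj_mul, ← sylow_smul_eq_map_conj]
    exact hl4
  have ha' : y⁻¹ * a * y ∈ (T : Subgroup G) := by
    rw [← hl4, mem_map_conj_iff, inv_inv]
    have : y * (y⁻¹ * a * y) * y⁻¹ = a := by group
    rw [this]
    exact haQ.2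
  have htameT : ¬ p ∣ ((T : Subgroup G) ⊓ Subgroup.normalizer ((T : Subgroup G) : Set G)).relIndex
      (Subgroup.normalizer ((T : Subgroup G) : Set G)) := by
    have := (tame_self T).1
    rwa [inf_idem] at this
  have h5 := local_hyp T (T : Subgroup G) le_rfl htameT (y⁻¹ * u⁻¹)⁻¹ (Subgroup.inv_mem _ hn)
    (y⁻¹ * a * y) ha'
  rw [← hRD] at h5
  have h6 := RD.mul_mem hfoc h5
  have h7 : a * (y⁻¹ * a * y)⁻¹ * (y⁻¹ * a * y *
      ((y⁻¹ * u⁻¹)⁻¹ * (y⁻¹ * a * y) * ((y⁻¹ * u⁻¹)⁻¹)⁻¹)⁻¹) = ⁅a, u⁆ := by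
    rw [commutatorElement_def]; group
  rw [h7] at h6
  exact h6

end Cfsg.Agent.helper10

namespace Cfsg.Agent.helper10

open scoped commutatorElement

variable {G : Type*} [Group G]

/-- `O^p(O^p(G)) = O^p(G)`. -/
theorem pResidual_pResidual_eq_top (p : ℕ) :
    Cfsg.pResidual p (Cfsg.pResidual p G) = ⊤ := by
  have h1 : (Cfsg.pResidual p (Cfsg.pResidual p G)).map (Cfsg.pResidual p G).subtype =
      Cfsg.pResidual p G := by
    conv_lhs => unfold Cfsg.pResidual
    rw [MonoidHom.map_closure]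
    conv_rhs => unfold Cfsg.pResidual
    congr 1
    ext g
    constructor
    · rintro ⟨a, ha, rfl⟩
      show Nat.Coprime (orderOf ((a : G))) p
      rw [Subgroup.orderOf_coe]; exact ha
    · intro hg
      have hgK : g ∈ Cfsg.pResidual p G := Subgroup.subset_closure hg
      refine ⟨⟨g, hgK⟩, ?_, rfl⟩
      show Nat.Coprime (orderOf (⟨g, hgK⟩ : Cfsg.pResidual p G)) p
      rw [← Subgroup.orderOf_coe]; exact hg
  apply Subgroup.map_injective (Cfsg.pResidual p G).subtype_injective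
  rw [h1, ← MonoidHom.range_eq_map, Subgroup.range_subtype]

/-- Hyperfocal subgroup theorem, hard inclusion: `S ∩ O^p(G)` is generated by hyperfocal
generators. -/
theorem inf_pResidual_le_closure_hypSet [Finite G] {p : ℕ} [hp : Fact p.Prime] (S : Sylow p G) :
    (S : Subgroup G) ⊓ Cfsg.pResidual p G ≤ Subgroup.closure (HypSet p (S : Subgroup G)) := by
  obtain ⟨K, hK⟩ : ∃ K : Subgroup G, K = Cfsg.pResidual p G := ⟨_, rfl⟩
  have hKK : Cfsg.pResidual p K = ⊤ := by rw [hK]; exact pResidual_pResidual_eq_top p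
  haveI : K.Normal := by rw [hK]; exact pResidual_normal p G
  rw [← hK]
  have hTp : IsPGroup p (((S : Subgroup G) ⊓ K).subgroupOf K) :=
    (S.isPGroup'.to_le inf_le_left).comap_subtype
  have hidx : ¬ p ∣ (((S : Subgroup G) ⊓ K).subgroupOf K).index :=
    Cfsg.Agent.helper19.sylow_inf_normal_not_dvd S K
  have hmain := sylow_le_closure_hypSet (hTp.toSylow hidx) hKK
  rw [IsPGroup.toSylow_coe] at hmain
  intro t ht
  have htK : t ∈ K := (Subgroup.mem_inf.1 ht).2
  have h1 : (⟨t, htK⟩ : K) ∈ ((S : Subgroup G) ⊓ K).subgroupOf K := by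
    rw [Subgroup.mem_subgroupOf]; exact ht
  have h2 := hmain h1
  have h3 : t ∈ (Subgroup.closure (HypSet p (((S : Subgroup G) ⊓ K).subgroupOf K))).map K.subtype :=
    ⟨⟨t, htK⟩, h2, rfl⟩
  rw [MonoidHom.map_closure] at h3
  refine (Subgroup.closure_mono ?_) h3
  rintro _ ⟨y, ⟨U, hU, g, hg, hcop, x, hx, rfl⟩, rfl⟩
  refine ⟨U.map K.subtype, ?_, (g : G), ?_, ?_, (x : G), ⟨x, hx, rfl⟩, ?_⟩
  · rintro _ ⟨u, hu, rfl⟩
    have := hU hu
    rw [Subgroup.mem_subgroupOf] at this
    exact this.1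
  · exact Subgroup.le_normalizer_map K.subtype ⟨g, hg, rfl⟩
  · rw [Subgroup.orderOf_coe]; exact hcop
  · simp

end Cfsg.Agent.helper10
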