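import Mathlib
import Cfsg.Agent.Lib_helper10_PS2

/-!
K-infinity theory when only the quotients of `X` are `p`-stable: a Clifford-type lemma for
abelian minimal normal subgroups, the centralizing lemma for `p'`-elements, and normality of the
K-infinity subgroups in a constrained group all of whose quotients are `p`-stable.
-/

set_option autoImplicit false

namespace Cfsg.Agent.helper10

open Cfsg
open scoped commutatorElement
open scoped Pointwise

universe u

section clifford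

variable {Γ : Type*} [Group Γ]

theorem map_conj_eq_of_mem_normalizer {W : Subgroup Γ} {x : Γ}
    (hx : x ∈ Subgroup.normalizer (W : Set Γ)) :
    W.map (MulAut.conj x).toMonoidHom = W := by
  apply le_antisymm
  · rintro _ ⟨w, hw, rfl⟩
    simpa [MulAut.conj_apply] using (Subgroup.mem_normalizer_iff.mp hx w).mp hw
  · intro w hw
    refine ⟨x⁻¹ * w * x, ?_, by simp [MulAut.conj_apply, mul_assoc]⟩
    have := (Subgroup.mem_normalizer_iff.mp (Subgroup.inv_mem _ hx) w).mp hw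
    simpa using this

theorem normalizer_inf_le_normalizer_commutator (H K : Subgroup Γ) :
    Subgroup.normalizer (H : Set Γ) ⊓ Subgroup.normalizer (K : Set Γ) ≤
      Subgroup.normalizer ((⁅H, K⁆ : Subgroup Γ) : Set Γ) := by
  intro g hg
  have h1 := map_conj_eq_of_mem_normalizer hg.1
  have h2 := map_conj_eq_of_mem_normalizer hg.2
  have h3 : (⁅H, K⁆ : Subgroup Γ).map (MulAut.conj g).toMonoidHom = ⁅H, K⁆ := by
    rw [Subgroup.map_commutator, h1, h2]
  rw [Subgroup.mem_normalizer_iff]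
  intro x
  constructor
  · intro hx
    rw [← h3]
    exact ⟨x, hx, by simp [MulAut.conj_apply]⟩
  · intro hx
    rw [← h3] at hx
    obtain ⟨z, hz, hzx⟩ := hx
    have : z = x := by
      have : g * z * g⁻¹ = g * x * g⁻¹ := by simpa [MulAut.conj_apply] using hzx
      simpa using this
    rw [← this]; exact hz

theorem le_normalizer_commutator_left (H K : Subgroup Γ) :
    H ≤ Subgroup.normalizer ((⁅H, K⁆ : Subgroup Γ) : Set Γ) := by
  apply le_normalizer_of_conj_mem
  intro n hn x hx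
  have hle : ⁅H, K⁆ ≤ (⁅H, K⁆ : Subgroup Γ).comap (MulAut.conj n).toMonoidHom := by
    rw [Subgroup.commutator_le]
    intro h hh k hk
    rw [Subgroup.mem_comap]
    have e : (MulAut.conj n).toMonoidHom ⁅h, k⁆ = ⁅n * h, k⁆ * (⁅n, k⁆)⁻¹ := by
      simp only [MulEquiv.coe_toMonoidHom, MulAut.conj_apply, commutatorElement_def]
      group
    rw [e]
    exact Subgroup.mul_mem _ (Subgroup.commutator_mem_commutator (H.mul_mem hn hh) hk)
      (Subgroup.inv_mem _ (Subgroup.commutator_mem_commutator hn hk))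
  have := hle hx
  rw [Subgroup.mem_comap] at this
  simpa [MulAut.conj_apply] using this

theorem le_normalizer_commutator_right (H K : Subgroup Γ) :
    K ≤ Subgroup.normalizer ((⁅H, K⁆ : Subgroup Γ) : Set Γ) := by
  rw [Subgroup.commutator_comm]
  exact le_normalizer_commutator_left K H

theorem conj_mem_centralizer_of_mem_normalizer {P : Subgroup Γ} {n x : Γ}
    (hn : n ∈ Subgroup.normalizer (P : Set Γ)) (hx : x ∈ Subgroup.centralizer (P : Set Γ)) :
    n * x * n⁻¹ ∈ Subgroup.centralizer (P : Set Γ) := by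
  rw [Subgroup.mem_centralizer_iff]
  intro b hb
  have hb' : n⁻¹ * b * n ∈ P := by
    have := (Subgroup.mem_normalizer_iff.mp (Subgroup.inv_mem _ hn) b).mp hb
    rwa [inv_inv] at this
  have h1 := Subgroup.mem_centralizer_iff.mp hx _ hb'
  calc b * (n * x * n⁻¹) = n * ((n⁻¹ * b * n) * x) * n⁻¹ := by group
    _ = n * (x * (n⁻¹ * b * n)) * n⁻¹ := by rw [h1]
    _ = n * x * n⁻¹ * b := by group

theorem normalizer_le_normalizer_centralizer' (P : Subgroup Γ) :
    Subgroup.normalizer (P : Set Γ) ≤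
      Subgroup.normalizer ((Subgroup.centralizer (P : Set Γ) : Subgroup Γ) : Set Γ) :=
  le_normalizer_of_conj_mem fun _ hn _ hx => conj_mem_centralizer_of_mem_normalizer hn hx

/-- `U` is a minimal nontrivial subgroup normalized by `H`. -/
def IsMinInv (H U : Subgroup Γ) : Prop :=
  U ≠ ⊥ ∧ H ≤ Subgroup.normalizer (U : Set Γ) ∧
    ∀ V : Subgroup Γ, V ≤ U → V ≠ ⊥ → H ≤ Subgroup.normalizer (V : Set Γ) → V = U

theorem exists_isMinInv [Finite Γ] {H K : Subgroup Γ} (hK : K ≠ ⊥)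
    (hH : H ≤ Subgroup.normalizer (K : Set Γ)) : ∃ U : Subgroup Γ, U ≤ K ∧ IsMinInv H U := by
  obtain ⟨U, ⟨hUK, hU0, hUH⟩, hUmin⟩ :=
    (Set.toFinite {V : Subgroup Γ | V ≤ K ∧ V ≠ ⊥ ∧
      H ≤ Subgroup.normalizer (V : Set Γ)}).exists_minimal ⟨K, le_rfl, hK, hH⟩
  exact ⟨U, hUK, hU0, hUH, fun V hVU hV0 hVH =>
    le_antisymm hVU (hUmin ⟨le_trans hVU hUK, hV0, hVH⟩ hVU)⟩

theorem isMinInv_map {H U : Subgroup Γ} (e : Γ ≃* Γ) (he : H.map e.toMonoidHom = H)
    (hU : IsMinInv H U) : IsMinInv H (U.map e.toMonoidHom) := by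
  obtain ⟨hU0, hUH, hUmin⟩ := hU
  refine ⟨?_, ?_, ?_⟩
  · rw [Ne, Subgroup.map_eq_bot_iff_of_injective _ (f := e.toMonoidHom) e.injective]
    exact hU0
  · calc H = H.map e.toMonoidHom := he.symm
      _ ≤ (Subgroup.normalizer (U : Set Γ)).map e.toMonoidHom := Subgroup.map_mono hUH
      _ ≤ Subgroup.normalizer ((U.map e.toMonoidHom : Subgroup Γ) : Set Γ) :=
        Subgroup.le_normalizer_map _
  · intro V hVU hV0 hVH
    have h1 : V.comap e.toMonoidHom ≤ U := by
      have := Subgroup.comap_mono (f := e.toMonoidHom) hVU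
      rwa [Subgroup.comap_map_eq_self_of_injective (f := e.toMonoidHom) e.injective] at this
    have hmc : (V.comap e.toMonoidHom).map e.toMonoidHom = V :=
      Subgroup.map_comap_eq_self_of_surjective (f := e.toMonoidHom) e.surjective V
    have h2 : V.comap e.toMonoidHom ≠ ⊥ := by
      intro h
      apply hV0
      rw [← hmc, h, Subgroup.map_bot]
    have h3 : H ≤ Subgroup.normalizer ((V.comap e.toMonoidHom : Subgroup Γ) : Set Γ) := by
      refine le_trans ?_ (Subgroup.le_normalizer_comap e.toMonoidHom)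
      intro h hh
      rw [Subgroup.mem_comap]
      apply hVH
      rw [← he]
      exact ⟨h, hh, rfl⟩
    rw [← hmc, hUmin _ h1 h2 h3]

theorem sSup_isMinInv_map_le {H K : Subgroup Γ} (e : Γ ≃* Γ) (heH : H.map e.toMonoidHom = H)
    (heK : K.map e.toMonoidHom = K) :
    (sSup {U : Subgroup Γ | U ≤ K ∧ IsMinInv H U}).map e.toMonoidHom ≤
      sSup {U : Subgroup Γ | U ≤ K ∧ IsMinInv H U} := by
  rw [Subgroup.map_le_iff_le_comap]
  apply sSup_le
  rintro U ⟨hUK, hU⟩
  rw [← Subgroup.map_le_iff_le_comap]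
  apply le_sSup
  refine ⟨?_, isMinInv_map e heH hU⟩
  rw [← heK]; exact Subgroup.map_mono hUK

/-- A minimal `L`-invariant subgroup is generated by its minimal `H`-invariant subgroups, for
`H` normal in `L`. -/
theorem sSup_isMinInv_eq [Finite Γ] {L H K : Subgroup Γ} (hHL : H ≤ L)
    (hLH : L ≤ Subgroup.normalizer (H : Set Γ)) (hK : IsMinInv L K) :
    sSup {U : Subgroup Γ | U ≤ K ∧ IsMinInv H U} = K := by
  obtain ⟨hK0, hLK, hKmin⟩ := hK
  apply hKmin
  · exact sSup_le fun U hU => hU.1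
  · obtain ⟨U, hUK, hU⟩ := exists_isMinInv hK0 (le_trans hHL hLK)
    intro h
    apply hU.1
    rw [eq_bot_iff, ← h]
    exact le_sSup ⟨hUK, hU⟩
  · apply le_normalizer_of_conj_mem
    intro x hx k hk
    have := sSup_isMinInv_map_le (H := H) (K := K) (MulAut.conj x)
      (map_conj_eq_of_mem_normalizer (hLH hx)) (map_conj_eq_of_mem_normalizer (hLK hx))
    exact this ⟨k, hk, by simp [MulAut.conj_apply]⟩

theorem le_sSup_isMinInv_two [Finite Γ] {L N R M : Subgroup Γ} (hNL : N ≤ L)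
    (hLN : L ≤ Subgroup.normalizer (N : Set Γ)) (hRN : R ≤ N)
    (hNR : N ≤ Subgroup.normalizer (R : Set Γ)) (hM : IsMinInv L M) :
    M ≤ sSup {U : Subgroup Γ | U ≤ M ∧ IsMinInv R U} := by
  conv_lhs => rw [← sSup_isMinInv_eq hNL hLN hM]
  apply sSup_le
  rintro W ⟨hWM, hW⟩
  rw [← sSup_isMinInv_eq hRN hNR hW]
  apply sSup_le
  rintro U ⟨hUW, hU⟩
  exact le_sSup ⟨le_trans hUW hWM, hU⟩

theorem le_normalizer_of_abelian {M P Q : Subgroup Γ}
    (hMab : M ≤ Subgroup.centralizer (M : Set Γ)) (hP : P ≤ M) (hQ : Q ≤ M) :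
    P ≤ Subgroup.normalizer (Q : Set Γ) :=
  le_trans (le_trans hP hMab) (le_trans (Subgroup.centralizer_le (by exact_mod_cast hQ))
    (Subgroup.centralizer_le_normalizer _))

/-- Invariant complements in an abelian subgroup generated by minimal invariant subgroups. -/
theorem exists_inv_compl [Finite Γ] {R M E : Subgroup Γ}
    (hMab : M ≤ Subgroup.centralizer (M : Set Γ))
    (hMgen : M ≤ sSup {U : Subgroup Γ | U ≤ M ∧ IsMinInv R U})
    (hEM : E ≤ M) (hRE : R ≤ Subgroup.normalizer (E : Set Γ)) :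
    ∃ F : Subgroup Γ, F ≤ M ∧ R ≤ Subgroup.normalizer (F : Set Γ) ∧ E ⊓ F = ⊥ ∧ M ≤ E ⊔ F := by
  obtain ⟨F, ⟨hFM, hRF, hEF⟩, hFmax⟩ :=
    (Set.toFinite {F : Subgroup Γ | F ≤ M ∧ R ≤ Subgroup.normalizer (F : Set Γ) ∧
      E ⊓ F = ⊥}).exists_maximal
      ⟨⊥, bot_le, by rw [Subgroup.normalizer_eq_top]; exact le_top, inf_bot_eq _⟩
  refine ⟨F, hFM, hRF, hEF, le_trans hMgen (sSup_le ?_)⟩
  rintro U ⟨hUM, hU0, hRU, hUmin⟩
  by_contra hUle
  have hint : U ⊓ (E ⊔ F) = ⊥ := by
    by_contra hne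
    have h1 : U ⊓ (E ⊔ F) = U := hUmin _ inf_le_left hne
      (le_trans (le_inf hRU (le_trans (le_inf hRE hRF)
        (Subgroup.normalizer_inf_normalizer_le_normalizer_sup E F)))
        Subgroup.inf_normalizer_le_normalizer_inf)
    exact hUle (h1 ▸ inf_le_right)
  have hFU : F ⊔ U ≤ F := by
    refine hFmax ⟨sup_le hFM hUM, ?_, ?_⟩ le_sup_left
    · exact le_trans (le_inf hRF hRU) (Subgroup.normalizer_inf_normalizer_le_normalizer_sup F U)
    · rw [eq_bot_iff]
      rintro e ⟨heE, heFU⟩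
      have hcoe : ((F ⊔ U : Subgroup Γ) : Set Γ) = (F : Set Γ) * (U : Set Γ) :=
        Subgroup.coe_mul_of_left_le_normalizer_right F U (le_normalizer_of_abelian hMab hFM hUM)
      have hmem : e ∈ (F : Set Γ) * (U : Set Γ) := by rw [← hcoe]; exact heFU
      obtain ⟨f, hf, u, hu, rfl⟩ := Set.mem_mul.mp hmem
      have hu' : u ∈ U ⊓ (E ⊔ F) := by
        refine ⟨hu, ?_⟩
        have e1 : u = f⁻¹ * (f * u) := by group
        rw [e1]
        exact Subgroup.mul_mem _ (Subgroup.mem_sup_right (F.inv_mem hf))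
          (Subgroup.mem_sup_left heE)
      rw [hint, Subgroup.mem_bot] at hu'
      subst hu'
      rw [mul_one] at heE ⊢
      have h2 : f ∈ E ⊓ F := ⟨heE, hf⟩
      rw [hEF] at h2
      exact h2
  exact hUle (le_trans (le_trans le_sup_right hFU) le_sup_right)

/-- **Clifford-type lemma**: for an abelian minimal `L`-invariant subgroup `M` and
`R ⊴ N ⊴ L`, the commutator `[M, R]` meets `C_M(R)` trivially. -/
theorem clifford_inf_eq_bot [Finite Γ] {L N R M : Subgroup Γ} (hNL : N ≤ L)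
    (hLN : L ≤ Subgroup.normalizer (N : Set Γ)) (hRN : R ≤ N)
    (hNR : N ≤ Subgroup.normalizer (R : Set Γ)) (hM : IsMinInv L M)
    (hMab : M ≤ Subgroup.centralizer (M : Set Γ)) :
    ⁅M, R⁆ ⊓ (M ⊓ Subgroup.centralizer (R : Set Γ)) = ⊥ := by
  have hRM : R ≤ Subgroup.normalizer (M : Set Γ) := le_trans (le_trans hRN hNL) hM.2.1
  have hRE : R ≤ Subgroup.normalizer
      ((M ⊓ Subgroup.centralizer (R : Set Γ) : Subgroup Γ) : Set Γ) := by
    apply le_normalizer_of_conj_mem
    intro r hr x hx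
    refine Subgroup.mem_inf.mpr ⟨(Subgroup.mem_normalizer_iff.mp (hRM hr) x).mp hx.1, ?_⟩
    have h1 := Subgroup.mem_centralizer_iff.mp hx.2 r hr
    have e : r * x * r⁻¹ = x := by rw [h1]; group
    rw [e]; exact hx.2
  obtain ⟨F, hFM, hRF, hEF, hMEF⟩ := exists_inv_compl hMab
    (le_sSup_isMinInv_two hNL hLN hRN hNR hM) inf_le_left hRE
  have hEnF : M ⊓ Subgroup.centralizer (R : Set Γ) ≤ Subgroup.normalizer (F : Set Γ) :=
    le_normalizer_of_abelian hMab inf_le_left hFM
  have hle : ⁅M, R⁆ ≤ F := by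
    rw [Subgroup.commutator_le]
    intro m hm r hr
    have hcoe := Subgroup.coe_mul_of_left_le_normalizer_right
      (M ⊓ Subgroup.centralizer (R : Set Γ)) F hEnF
    have hmem : m ∈ ((M ⊓ Subgroup.centralizer (R : Set Γ) : Subgroup Γ) : Set Γ) *
        (F : Set Γ) := by rw [← hcoe]; exact hMEF hm
    obtain ⟨e, he, f, hf, rfl⟩ := Set.mem_mul.mp hmem
    rw [kcomm_mul_left]
    have h1 : ⁅e, r⁆ = 1 := by
      have h0 := Subgroup.mem_centralizer_iff.mp he.2 r hr
      rw [commutatorElement_def, ← h0]; group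
    have h2 : ⁅f, r⁆ ∈ F := by
      have h3 : r * f⁻¹ * r⁻¹ ∈ F :=
        (Subgroup.mem_normalizer_iff.mp (hRF hr) _).mp (F.inv_mem hf)
      have e2 : ⁅f, r⁆ = f * (r * f⁻¹ * r⁻¹) := by rw [commutatorElement_def]; group
      rw [e2]; exact F.mul_mem hf h3
    rw [h1, mul_one]
    exact (Subgroup.mem_normalizer_iff.mp (hEnF he) _).mp h2
  rw [eq_bot_iff, ← hEF]
  exact le_inf inf_le_right (le_trans inf_le_left hle)

end clifford

section quot

variable {X : Type u} [Group X] [Finite X] {p : ℕ} [hp : Fact p.Prime]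

/-- For a normal subgroup `A₀`, the section `N(A₀)/A₀` is `p`-stable when `X/A₀` is. -/
theorem stable_normalizer_section_of_normal
    (hQS : ∀ (N : Subgroup X) [N.Normal], Cfsg.IsNormalizerPStable p (X ⧸ N))
    (A₀ : Subgroup X) [hA₀ : A₀.Normal] :
    Cfsg.IsNormalizerPStable p (↥(Subgroup.normalizer (A₀ : Set X)) ⧸
      A₀.subgroupOf (Subgroup.normalizer (A₀ : Set X))) := by
  have htop : ∀ x : X, x ∈ Subgroup.normalizer (A₀ : Set X) := fun x => by
    rw [Subgroup.normalizer_eq_top]; trivial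
  let f : ↥(Subgroup.normalizer (A₀ : Set X)) →* X ⧸ A₀ :=
    (QuotientGroup.mk' A₀).comp (Subgroup.normalizer (A₀ : Set X)).subtype
  have hf : Function.Surjective f := by
    intro q
    obtain ⟨x, rfl⟩ := QuotientGroup.mk'_surjective A₀ q
    exact ⟨⟨x, htop x⟩, rfl⟩
  have hker : A₀.subgroupOf (Subgroup.normalizer (A₀ : Set X)) = f.ker := by
    ext x
    rw [Subgroup.mem_subgroupOf, MonoidHom.mem_ker]
    show _ ↔ QuotientGroup.mk' A₀ (x : X) = 1
    rw [QuotientGroup.mk'_apply, QuotientGroup.eq_one_iff]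
  let e := (QuotientGroup.quotientMulEquivOfEq hker).trans
    (QuotientGroup.quotientKerEquivOfSurjective f hf)
  exact isNormalizerPStable_of_equiv e.symm (hQS A₀)

/-- The chain lemma with explicit stability hypotheses. -/
theorem ps_chain' (hX' : Cfsg.IsNormalizerPStable p X) (A A₀ : Subgroup X) [hAn : A.Normal]
    (hHh : Cfsg.IsNormalizerPStable p (↥(Subgroup.normalizer (A₀ : Set X)) ⧸
      A₀.subgroupOf (Subgroup.normalizer (A₀ : Set X))))
    (hA₀p : IsPGroup p ↥A₀) (hAp : IsPGroup p ↥A)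
    (hCA : IsPGroup p ↥(Subgroup.centralizer (A : Set X)))
    (hAn₀ : A ≤ Subgroup.normalizer (A₀ : Set X))
    (g : X) (hg : g ∈ Subgroup.normalizer (A₀ : Set X))
    (h1 : ⁅⁅A₀, Subgroup.zpowers g⁆, Subgroup.zpowers g⁆ = ⊥)
    (h2 : ⁅⁅A, Subgroup.zpowers g⁆, Subgroup.zpowers g⁆ ≤ A₀) :
    ∃ O : Subgroup X, g ∈ O ∧ IsPGroup p ↥O ∧ O ≤ Subgroup.normalizer (A₀ : Set X) ∧
      ∀ n ∈ Subgroup.normalizer (A₀ : Set X), ∀ x ∈ O, n * x * n⁻¹ ∈ O := by
  have hPhn : ((A.subgroupOf (Subgroup.normalizer (A₀ : Set X))).map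
      (QuotientGroup.mk' (A₀.subgroupOf (Subgroup.normalizer (A₀ : Set X))))).Normal :=
    Subgroup.Normal.map Subgroup.normal_subgroupOf _ (QuotientGroup.mk'_surjective _)
  have hPhp : IsPGroup p ↥((A.subgroupOf (Subgroup.normalizer (A₀ : Set X))).map
      (QuotientGroup.mk' (A₀.subgroupOf (Subgroup.normalizer (A₀ : Set X))))) :=
    (hAp.comap_subtype).map _
  have hqh : ⁅⁅(A.subgroupOf (Subgroup.normalizer (A₀ : Set X))).map
      (QuotientGroup.mk' (A₀.subgroupOf (Subgroup.normalizer (A₀ : Set X)))),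
      Subgroup.zpowers (QuotientGroup.mk' (A₀.subgroupOf (Subgroup.normalizer (A₀ : Set X)))
        ⟨g, hg⟩)⁆,
      Subgroup.zpowers (QuotientGroup.mk' (A₀.subgroupOf (Subgroup.normalizer (A₀ : Set X)))
        ⟨g, hg⟩)⁆ = ⊥ := by
    rw [← MonoidHom.map_zpowers, ← Subgroup.map_commutator, ← Subgroup.map_commutator, eq_bot_iff,
      Subgroup.map_le_iff_le_comap, MonoidHom.comap_bot, QuotientGroup.ker_mk']
    intro x hx
    rw [Subgroup.mem_subgroupOf]
    apply h2
    have hle : (⁅⁅A.subgroupOf (Subgroup.normalizer (A₀ : Set X)),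
        Subgroup.zpowers (⟨g, hg⟩ : ↥(Subgroup.normalizer (A₀ : Set X)))⁆,
        Subgroup.zpowers (⟨g, hg⟩ : ↥(Subgroup.normalizer (A₀ : Set X)))⁆).map
          (Subgroup.normalizer (A₀ : Set X)).subtype ≤
        ⁅⁅A, Subgroup.zpowers g⁆, Subgroup.zpowers g⁆ := by
      rw [Subgroup.map_commutator, Subgroup.map_commutator, MonoidHom.map_zpowers]
      refine Subgroup.commutator_mono (Subgroup.commutator_mono ?_ le_rfl) le_rfl
      rintro _ ⟨y, hy, rfl⟩
      exact hy
    exact hle ⟨x, hx, rfl⟩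
  have hPhN : ∀ n : (↥(Subgroup.normalizer (A₀ : Set X)) ⧸
      A₀.subgroupOf (Subgroup.normalizer (A₀ : Set X))),
      n ∈ Subgroup.normalizer ((((A.subgroupOf (Subgroup.normalizer (A₀ : Set X))).map
      (QuotientGroup.mk' (A₀.subgroupOf (Subgroup.normalizer (A₀ : Set X))))) : Subgroup _) :
        Set _) := fun n => by
    rw [Subgroup.normalizer_eq_top_iff.mpr hPhn]; trivial
  have hgh := mem_psRad_of_stable hHh hPhp (hPhN _) hqh
  have hg1 : g ∈ psRad p A₀ := mem_psRad_of_stable hX' hA₀p hg h1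
  refine ⟨psRad p A₀ ⊓ ((psRad p ((A.subgroupOf (Subgroup.normalizer (A₀ : Set X))).map
      (QuotientGroup.mk' (A₀.subgroupOf (Subgroup.normalizer (A₀ : Set X)))))).comap
      (QuotientGroup.mk' (A₀.subgroupOf (Subgroup.normalizer (A₀ : Set X))))).map
      (Subgroup.normalizer (A₀ : Set X)).subtype,
    ⟨hg1, ⟨⟨g, hg⟩, hgh, rfl⟩⟩, ?_, le_trans inf_le_left (psRad_le_normalizer p A₀), ?_⟩
  · apply isPGroup_of_coprime_trivial
    rintro y ⟨hy1, hy2⟩ hc
    have hyC0 : y ∈ Subgroup.centralizer (A₀ : Set X) :=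
      mem_centralizer_of_mem_psRad_coprime hy1 hc
    obtain ⟨y', hy', rfl⟩ := hy2
    have hy'' : QuotientGroup.mk' (A₀.subgroupOf (Subgroup.normalizer (A₀ : Set X))) y' ∈
        psRad p ((A.subgroupOf (Subgroup.normalizer (A₀ : Set X))).map
      (QuotientGroup.mk' (A₀.subgroupOf (Subgroup.normalizer (A₀ : Set X))))) := hy'
    have hc' : (orderOf (QuotientGroup.mk' (A₀.subgroupOf (Subgroup.normalizer (A₀ : Set X)))
        y')).Coprime p := by
      refine Nat.Coprime.coprime_dvd_left ?_ hc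
      have := orderOf_map_dvd (QuotientGroup.mk' (A₀.subgroupOf
        (Subgroup.normalizer (A₀ : Set X)))) y'
      rwa [← Subgroup.orderOf_coe] at this
    have hyCh := mem_centralizer_of_mem_psRad_coprime hy'' hc'
    have hyA : ((Subgroup.normalizer (A₀ : Set X)).subtype y' : X) ∈
        Subgroup.centralizer (A : Set X) := by
      apply coprime_centralizes_chain A₀ A hA₀p _ hc hyC0
      intro a ha
      have haH : a ∈ Subgroup.normalizer (A₀ : Set X) := hAn₀ ha
      have hah : QuotientGroup.mk' (A₀.subgroupOf (Subgroup.normalizer (A₀ : Set X))) ⟨a, haH⟩ ∈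
          (A.subgroupOf (Subgroup.normalizer (A₀ : Set X))).map
            (QuotientGroup.mk' (A₀.subgroupOf (Subgroup.normalizer (A₀ : Set X)))) :=
        ⟨⟨a, haH⟩, Subgroup.mem_subgroupOf.mpr ha, rfl⟩
      have hcomm := Subgroup.mem_centralizer_iff.mp hyCh _ hah
      have h3 : QuotientGroup.mk' (A₀.subgroupOf (Subgroup.normalizer (A₀ : Set X)))
          (y' * ⟨a, haH⟩ * y'⁻¹ * ⟨a, haH⟩⁻¹) = 1 := by
        simp only [map_mul, map_inv]
        rw [← hcomm]; group
      have h4 := (QuotientGroup.eq_one_iff _).mp h3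
      rw [Subgroup.mem_subgroupOf] at h4
      simpa using h4
    exact eq_one_of_isPGroup_of_coprime hCA hyA hc
  · rintro n hn x ⟨hx1, hx2⟩
    refine ⟨psRad_conj_mem hn hx1, ?_⟩
    obtain ⟨x', hx', rfl⟩ := hx2
    refine ⟨⟨n, hn⟩ * x' * ⟨n, hn⟩⁻¹, ?_, rfl⟩
    apply Subgroup.mem_comap.mpr
    rw [map_mul, map_mul, map_inv]
    exact psRad_conj_mem (hPhN _) hx'

/-- **Centralizing lemma**: when all quotients of `X` are `p`-stable, the `p'`-elements of a
subgroup `R ⊴ N₀ ⊴ X` inside `[N₀, g]` centralizing `Astar ⊇ [A, g, g]` centralize `A`. -/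
theorem coprime_centralizes_of_quot_stable
    (hQS : ∀ (N : Subgroup X) [N.Normal], Cfsg.IsNormalizerPStable p (X ⧸ N))
    (A : Subgroup X) [hAn : A.Normal] (hAT : A ≤ Cfsg.pCore p X)
    (N₀ : Subgroup X) [hN₀ : N₀.Normal] (g : X) (Astar : Subgroup X)
    (hq : ⁅⁅A, Subgroup.zpowers g⁆, Subgroup.zpowers g⁆ ≤ Astar)
    (R : Subgroup X) (hRN : R ≤ N₀) (hNR : N₀ ≤ Subgroup.normalizer (R : Set X))
    (hgR : g ∈ Subgroup.normalizer (R : Set X))
    (hRA : R ≤ Subgroup.centralizer (Astar : Set X))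
    (hRc : R ≤ ⁅N₀, Subgroup.zpowers g⁆) :
    ∀ y ∈ R, (orderOf y).Coprime p → y ∈ Subgroup.centralizer (A : Set X) := by
  by_contra hne
  push Not at hne
  haveI hTn : (Cfsg.pCore p X).Normal := Cfsg.Agent.helper1.pCore_normal p
  have hTp : IsPGroup p ↥(Cfsg.pCore p X) := Cfsg.Agent.helper1.pCore_isPGroup p
  obtain ⟨U, ⟨hUn, hUA, hUbad⟩, hUmin⟩ :=
    (Set.toFinite {U : Subgroup X | ∃ _ : U.Normal, U ≤ A ∧
      ∃ y ∈ R, (orderOf y).Coprime p ∧ y ∉ Subgroup.centralizer (U : Set X)}).exists_minimal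
      ⟨A, hAn, le_rfl, hne⟩
  haveI := hUn
  have hU0 : (⊥ : Subgroup X) < U := by
    rw [bot_lt_iff_ne_bot]
    rintro rfl
    obtain ⟨y, -, -, hy⟩ := hUbad
    apply hy
    rw [Subgroup.mem_centralizer_iff]
    intro x hx
    have hx1 : x = 1 := Subgroup.mem_bot.mp hx
    rw [hx1]; simp
  obtain ⟨V, -, hch⟩ := exists_chief_below hU0
  have hUT : U ≤ Cfsg.pCore p X := le_trans hUA hAT
  have hUVT : ⁅U, Cfsg.pCore p X⁆ ≤ V := chief_centralized (Cfsg.pCore p X) hTp U V hch hUT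
  obtain ⟨hVU, -, hVn, hmin⟩ := hch
  haveI := hVn
  have hVp : IsPGroup p ↥V := hTp.to_le (le_trans hVU.le hUT)
  have hVgood : ∀ y ∈ R, (orderOf y).Coprime p → y ∈ Subgroup.centralizer (V : Set X) := by
    intro y hy hc
    by_contra hcon
    exact (not_le_of_gt hVU) (hUmin ⟨hVn, le_trans hVU.le hUA, y, hy, hc, hcon⟩ hVU.le)
  -- the quotient
  have hsurj : Function.Surjective (QuotientGroup.mk' V) := QuotientGroup.mk'_surjective V
  have hMn : (U.map (QuotientGroup.mk' V)).Normal := Subgroup.Normal.map hUn _ hsurj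
  have hNbn : (N₀.map (QuotientGroup.mk' V)).Normal := Subgroup.Normal.map hN₀ _ hsurj
  have htopN : ∀ (K : Subgroup (X ⧸ V)), K.Normal →
      (⊤ : Subgroup (X ⧸ V)) ≤ Subgroup.normalizer (K : Set (X ⧸ V)) := by
    intro K hK
    rw [Subgroup.normalizer_eq_top_iff.mpr hK]
  have hMmin : IsMinInv (⊤ : Subgroup (X ⧸ V)) (U.map (QuotientGroup.mk' V)) := by
    refine ⟨?_, htopN _ hMn, ?_⟩
    · intro h
      rw [Subgroup.map_eq_bot_iff, QuotientGroup.ker_mk'] at h
      exact (not_le_of_gt hVU) h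
    · intro W hWM hW0 hWtop
      have hWn : W.Normal := Subgroup.normalizer_eq_top_iff.mp (top_le_iff.mp hWtop)
      have hcn : (W.comap (QuotientGroup.mk' V)).Normal := Subgroup.Normal.comap hWn _
      have h1 : V ≤ W.comap (QuotientGroup.mk' V) := by
        have := MonoidHom.ker_le_comap (QuotientGroup.mk' V) W
        rwa [QuotientGroup.ker_mk'] at this
      have h2 : W.comap (QuotientGroup.mk' V) ≤ U := by
        have := Subgroup.comap_mono (f := QuotientGroup.mk' V) hWM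
        rw [Subgroup.comap_map_eq, QuotientGroup.ker_mk', sup_eq_left.mpr hVU.le] at this
        exact this
      have hWeq : (W.comap (QuotientGroup.mk' V)).map (QuotientGroup.mk' V) = W :=
        Subgroup.map_comap_eq_self_of_surjective hsurj W
      rcases hmin _ hcn h1 h2 with h3 | h3
      · exfalso
        apply hW0
        rw [← hWeq, h3, Subgroup.map_eq_bot_iff, QuotientGroup.ker_mk']
      · rw [← hWeq, h3]
  have hMab : U.map (QuotientGroup.mk' V) ≤
      Subgroup.centralizer ((U.map (QuotientGroup.mk' V) : Subgroup (X ⧸ V)) : Set (X ⧸ V)) := by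
    rw [← Subgroup.commutator_eq_bot_iff_le_centralizer, ← Subgroup.map_commutator,
      Subgroup.map_eq_bot_iff, QuotientGroup.ker_mk']
    exact le_trans (Subgroup.commutator_mono le_rfl hUT) hUVT
  have hRbN : R.map (QuotientGroup.mk' V) ≤ N₀.map (QuotientGroup.mk' V) := Subgroup.map_mono hRN
  have hNbR : N₀.map (QuotientGroup.mk' V) ≤
      Subgroup.normalizer ((R.map (QuotientGroup.mk' V) : Subgroup (X ⧸ V)) : Set (X ⧸ V)) :=
    le_trans (Subgroup.map_mono hNR) (Subgroup.le_normalizer_map _)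
  have hcl := clifford_inf_eq_bot (L := (⊤ : Subgroup (X ⧸ V))) le_top (htopN _ hNbn) hRbN hNbR
    hMmin hMab
  -- the subgroup P
  have hPM : ⁅U.map (QuotientGroup.mk' V), R.map (QuotientGroup.mk' V)⁆ ≤
      U.map (QuotientGroup.mk' V) := Subgroup.commutator_le_left _ _
  have hMp : IsPGroup p ↥(U.map (QuotientGroup.mk' V)) := (hTp.to_le hUT).map _
  have hPp : IsPGroup p ↥(⁅U.map (QuotientGroup.mk' V), R.map (QuotientGroup.mk' V)⁆ :
      Subgroup (X ⧸ V)) := hMp.to_le hPM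
  have hgbR : (QuotientGroup.mk' V g) ∈
      Subgroup.normalizer ((R.map (QuotientGroup.mk' V) : Subgroup (X ⧸ V)) : Set (X ⧸ V)) :=
    Subgroup.le_normalizer_map _ ⟨g, hgR, rfl⟩
  have hgbP : (QuotientGroup.mk' V g) ∈ Subgroup.normalizer
      ((⁅U.map (QuotientGroup.mk' V), R.map (QuotientGroup.mk' V)⁆ : Subgroup (X ⧸ V)) :
        Set (X ⧸ V)) :=
    normalizer_inf_le_normalizer_commutator _ _
      ⟨htopN _ hMn (Subgroup.mem_top _), hgbR⟩
  have hNbP : N₀.map (QuotientGroup.mk' V) ≤ Subgroup.normalizer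
      ((⁅U.map (QuotientGroup.mk' V), R.map (QuotientGroup.mk' V)⁆ : Subgroup (X ⧸ V)) :
        Set (X ⧸ V)) :=
    le_trans (le_inf (le_trans le_top (htopN _ hMn)) hNbR)
      (normalizer_inf_le_normalizer_commutator _ _)
  have hZP : Subgroup.zpowers (QuotientGroup.mk' V g) ≤ Subgroup.normalizer
      ((⁅U.map (QuotientGroup.mk' V), R.map (QuotientGroup.mk' V)⁆ : Subgroup (X ⧸ V)) :
        Set (X ⧸ V)) := by
    rw [Subgroup.zpowers_le]; exact hgbP
  have hquad : ⁅⁅(⁅U.map (QuotientGroup.mk' V), R.map (QuotientGroup.mk' V)⁆ : Subgroup (X ⧸ V)),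
      Subgroup.zpowers (QuotientGroup.mk' V g)⁆, Subgroup.zpowers (QuotientGroup.mk' V g)⁆ = ⊥ := by
    rw [eq_bot_iff, ← hcl]
    have hPZ : ⁅(⁅U.map (QuotientGroup.mk' V), R.map (QuotientGroup.mk' V)⁆ : Subgroup (X ⧸ V)),
        Subgroup.zpowers (QuotientGroup.mk' V g)⁆ ≤
        ⁅U.map (QuotientGroup.mk' V), R.map (QuotientGroup.mk' V)⁆ := by
      rw [Subgroup.commutator_comm]
      exact commutator_le_of_le_normalizer hZP
    refine le_inf ?_ ?_
    · refine le_trans (Subgroup.commutator_mono hPZ le_rfl) hPZ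
    · refine le_trans (Subgroup.commutator_mono (Subgroup.commutator_mono hPM le_rfl) le_rfl) ?_
      rw [← MonoidHom.map_zpowers, ← Subgroup.map_commutator, ← Subgroup.map_commutator]
      rintro _ ⟨x, hx, rfl⟩
      have hxU : x ∈ U := by
        have h1 : ⁅⁅U, Subgroup.zpowers g⁆, Subgroup.zpowers g⁆ ≤ U :=
          le_trans (Subgroup.commutator_mono (Subgroup.commutator_le_left U _) le_rfl)
            (Subgroup.commutator_le_left U _)
        exact h1 hx
      have hxA : x ∈ Astar :=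
        hq (Subgroup.commutator_mono (Subgroup.commutator_mono hUA le_rfl) le_rfl hx)
      refine Subgroup.mem_inf.mpr ⟨⟨x, hxU, rfl⟩, ?_⟩
      rw [Subgroup.mem_centralizer_iff]
      rintro _ ⟨r, hr, rfl⟩
      have h0 := Subgroup.mem_centralizer_iff.mp (hRA hr) x hxA
      rw [← map_mul, ← map_mul, h0]
  have hgps := mem_psRad_of_stable (hQS V) hPp hgbP hquad
  have hCps : ⁅N₀.map (QuotientGroup.mk' V), Subgroup.zpowers (QuotientGroup.mk' V g)⁆ ≤
      psRad p (⁅U.map (QuotientGroup.mk' V), R.map (QuotientGroup.mk' V)⁆ :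
        Subgroup (X ⧸ V)) := by
    rw [Subgroup.commutator_le]
    intro n hn h hh
    have hh' := (Subgroup.zpowers_le.mpr hgps) hh
    rw [commutatorElement_def]
    exact Subgroup.mul_mem _ (psRad_conj_mem (hNbP hn) hh') (Subgroup.inv_mem _ hh')
  obtain ⟨y, hyR, hyc, hybad⟩ := hUbad
  apply hybad
  have hyb : QuotientGroup.mk' V y ∈
      ⁅N₀.map (QuotientGroup.mk' V), Subgroup.zpowers (QuotientGroup.mk' V g)⁆ := by
    rw [← MonoidHom.map_zpowers, ← Subgroup.map_commutator]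
    exact ⟨y, hRc hyR, rfl⟩
  have hybc : (orderOf (QuotientGroup.mk' V y)).Coprime p :=
    Nat.Coprime.coprime_dvd_left (orderOf_map_dvd _ y) hyc
  have hybP := mem_centralizer_of_mem_psRad_coprime (hCps hyb) hybc
  have hybM : QuotientGroup.mk' V y ∈
      Subgroup.centralizer ((U.map (QuotientGroup.mk' V) : Subgroup (X ⧸ V)) : Set (X ⧸ V)) := by
    apply coprime_centralizes_chain _ _ hPp _ hybc hybP
    intro a ha
    have h1 : ⁅QuotientGroup.mk' V y, a⁆ ∈
        ⁅R.map (QuotientGroup.mk' V), U.map (QuotientGroup.mk' V)⁆ :=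
      Subgroup.commutator_mem_commutator ⟨y, hyR, rfl⟩ ha
    rw [Subgroup.commutator_comm] at h1
    rw [commutatorElement_def] at h1
    exact h1
  apply coprime_centralizes_chain V U hVp y hyc (hVgood y hyR hyc)
  intro x hx
  have h1 := Subgroup.mem_centralizer_iff.mp hybM _ ⟨x, hx, rfl⟩
  have h2 : QuotientGroup.mk' V (y * x * y⁻¹ * x⁻¹) = 1 := by
    simp only [map_mul, map_inv]
    rw [← h1]; group
  rw [QuotientGroup.mk'_apply, QuotientGroup.eq_one_iff] at h2
  exact h2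

/-- The even case: a member of a lower-star family relative to a subgroup containing the critical
subgroup `A` lies in `O_p(X)` when all quotients of `X` are `p`-stable. -/
theorem ps_even' (hQS : ∀ (N : Subgroup X) [N.Normal], Cfsg.IsNormalizerPStable p (X ⧸ N))
    (A : Subgroup X) [hAn : A.Normal]
    (hAT : A ≤ Cfsg.pCore p X)
    (hA2 : ⁅A, A⁆ ≤ Subgroup.centralizer (A : Set X))
    (hA3 : ⁅Cfsg.pCore p X, A⁆ ≤ A ⊓ Subgroup.centralizer (A : Set X))
    (hCA : IsPGroup p ↥(Subgroup.centralizer (A : Set X)))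
    (Q B : Subgroup X) (hAQ : A ≤ Q) (hB : B ∈ Cfsg.kLowerStarFamily Q) (hBp : IsPGroup p ↥B) :
    B ≤ Cfsg.pCore p X := by
  haveI hTn : (Cfsg.pCore p X).Normal := Cfsg.Agent.helper1.pCore_normal p
  have hTp : IsPGroup p ↥(Cfsg.pCore p X) := Cfsg.Agent.helper1.pCore_isPGroup p
  have hAp : IsPGroup p ↥A := hTp.to_le hAT
  have hX' : Cfsg.IsNormalizerPStable p X :=
    isNormalizerPStable_of_equiv QuotientGroup.quotientBot (hQS ⊥)
  obtain ⟨hB2, hQB, hBtest⟩ := hB
  have hAB : A ≤ Subgroup.normalizer (B : Set X) := le_trans hAQ hQB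
  have hABB : ⁅A, B⁆ ≤ B := commutator_le_of_le_normalizer hAB
  have hABA : ⁅A, B⁆ ≤ A := Subgroup.commutator_le_left A B
  have hZBc : B ⊓ Subgroup.centralizer (B : Set X) ≤ Subgroup.centralizer (B : Set X) :=
    inf_le_right
  -- Step 1: Z(B) ≤ T
  have hZBT : B ⊓ Subgroup.centralizer (B : Set X) ≤ Cfsg.pCore p X := by
    intro z hz
    apply mem_pCore_of_quadratic_normal hX' A hAp hCA z
    have hzg : Subgroup.zpowers z ≤ B ⊓ Subgroup.centralizer (B : Set X) := by
      rw [Subgroup.zpowers_le]; exact hz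
    rw [eq_bot_iff]
    have h1 : ⁅B, B ⊓ Subgroup.centralizer (B : Set X)⁆ = ⊥ := by
      rw [Subgroup.commutator_comm]
      exact Subgroup.commutator_eq_bot_iff_le_centralizer.mpr inf_le_right
    rw [← h1]
    exact Subgroup.commutator_mono
      (le_trans (Subgroup.commutator_mono le_rfl (le_trans hzg inf_le_left)) hABB) hzg
  -- the subgroups U and U_B
  have hUA : ⁅A, A⁆ ≤ A := Subgroup.commutator_le_left A A
  have hUB : ⁅A, A⁆ ⊓ Subgroup.centralizer (B : Set X) ≤ Subgroup.centralizer (A : Set X) :=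
    le_trans inf_le_left hA2
  have hAsA : centSub A (⁅A, A⁆ ⊓ Subgroup.centralizer (B : Set X)) hUB ≤ A := centSub_le _ _ _
  have hAsp : IsPGroup p ↥(centSub A (⁅A, A⁆ ⊓ Subgroup.centralizer (B : Set X)) hUB) :=
    hAp.to_le hAsA
  have hAs' : ⁅centSub A (⁅A, A⁆ ⊓ Subgroup.centralizer (B : Set X)) hUB,
      centSub A (⁅A, A⁆ ⊓ Subgroup.centralizer (B : Set X)) hUB⁆ ≤
      ⁅A, A⁆ ⊓ Subgroup.centralizer (B : Set X) :=
    le_trans (Subgroup.commutator_mono le_rfl hAsA) (centSub_commutator_le _ _ _)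
  have hcA_le : Subgroup.centralizer (A : Set X) ≤ Subgroup.centralizer
      ((centSub A (⁅A, A⁆ ⊓ Subgroup.centralizer (B : Set X)) hUB : Subgroup X) : Set X) :=
    Subgroup.centralizer_le (by exact_mod_cast hAsA)
  -- B normalizes A*
  have hBfix : ∀ b ∈ B, ∀ v ∈ ⁅A, A⁆ ⊓ Subgroup.centralizer (B : Set X),
      b * v * b⁻¹ ∈ ⁅A, A⁆ ⊓ Subgroup.centralizer (B : Set X) := by
    intro b hb v hv
    have := Subgroup.mem_centralizer_iff.mp hv.2 b hb
    have e : b * v * b⁻¹ = v := by rw [this]; group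
    rw [e]; exact hv
  have hBAs : B ≤ Subgroup.normalizer
      ((centSub A (⁅A, A⁆ ⊓ Subgroup.centralizer (B : Set X)) hUB : Subgroup X) : Set X) :=
    le_normalizer_of_conj_mem fun b hb a ha => centSub_conj_mem (hBfix b hb) ha
  -- Step 2: B acts quadratically on A*
  have hBAsZ : ⁅B, centSub A (⁅A, A⁆ ⊓ Subgroup.centralizer (B : Set X)) hUB⁆ ≤
      B ⊓ Subgroup.centralizer (B : Set X) := by
    have hAscl : centSub A (⁅A, A⁆ ⊓ Subgroup.centralizer (B : Set X)) hUB ∈
        Cfsg.classTwoSubgroups X := le_trans hAs' (le_trans hUB hcA_le)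
    apply hBtest _ hAscl (le_trans hAsA hAQ) hBAs
    · rw [Subgroup.commutator_eq_bot_iff_le_centralizer]
      exact Subgroup.le_centralizer_iff.mp (le_trans hAs' inf_le_right)
    · rw [Subgroup.commutator_eq_bot_iff_le_centralizer]
      have h5 : ⁅B ⊓ Subgroup.centralizer (B : Set X),
          centSub A (⁅A, A⁆ ⊓ Subgroup.centralizer (B : Set X)) hUB⁆ ≤
          A ⊓ Subgroup.centralizer (A : Set X) :=
        le_trans (Subgroup.commutator_mono hZBT hAsA) hA3
      exact le_trans h5 (le_trans inf_le_right hcA_le)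
  -- Step 3: [A,B,B] ≤ A*
  have hE : (B ⊓ Subgroup.centralizer (B : Set X)) ⊓ A ≤
      centSub A (⁅A, A⁆ ⊓ Subgroup.centralizer (B : Set X)) hUB := by
    intro e he
    refine ⟨he.2, fun c hc => ⟨Subgroup.commutator_mem_commutator he.2 hc, ?_⟩⟩
    have h1 : c * e⁻¹ * c⁻¹ ∈ B ⊓ Subgroup.centralizer (B : Set X) :=
      conj_mem_inf_centralizer (hAB hc) (Subgroup.inv_mem _ he.1)
    have e1 : ⁅e, c⁆ = e * (c * e⁻¹ * c⁻¹) := by rw [commutatorElement_def]; group
    rw [e1]
    exact Subgroup.mul_mem _ he.1.2 h1.2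
  have hABBE : ⁅⁅A, B⁆, B⁆ ≤ (B ⊓ Subgroup.centralizer (B : Set X)) ⊓ A := by
    refine le_inf (le_inf ?_ ?_) ?_
    · exact le_trans (Subgroup.commutator_mono hABB le_rfl)
        (commutator_le_of_le_normalizer Subgroup.le_normalizer)
    · exact le_trans (Subgroup.commutator_mono hABB le_rfl) hB2
    · exact le_trans (Subgroup.commutator_mono hABA le_rfl) (Subgroup.commutator_le_left A B)
  intro g hgB
  have hzg : Subgroup.zpowers g ≤ B := by rw [Subgroup.zpowers_le]; exact hgB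
  have hgq1 : ⁅⁅centSub A (⁅A, A⁆ ⊓ Subgroup.centralizer (B : Set X)) hUB, Subgroup.zpowers g⁆,
      Subgroup.zpowers g⁆ = ⊥ := by
    apply zpowers_quadratic_of_le (Z := B ⊓ Subgroup.centralizer (B : Set X)) _ inf_le_right hgB
    rw [Subgroup.commutator_comm]; exact hBAsZ
  have hgq2 : ⁅⁅A, Subgroup.zpowers g⁆, Subgroup.zpowers g⁆ ≤
      centSub A (⁅A, A⁆ ⊓ Subgroup.centralizer (B : Set X)) hUB :=
    le_trans (Subgroup.commutator_mono (Subgroup.commutator_mono le_rfl hzg) hzg)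
      (le_trans hABBE hE)
  have hAnAs : A ≤ Subgroup.normalizer
      ((centSub A (⁅A, A⁆ ⊓ Subgroup.centralizer (B : Set X)) hUB : Subgroup X) : Set X) := by
    apply le_normalizer_of_conj_mem
    intro a ha x hx
    apply centSub_conj_mem _ hx
    intro v hv
    have := Subgroup.mem_centralizer_iff.mp (hUB hv) a ha
    have e : a * v * a⁻¹ = v := by rw [this]; group
    rw [e]; exact hv
  -- Step 4/5: N₀ = C_X(U)
  haveI hUn : (⁅A, A⁆ : Subgroup X).Normal := inferInstance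
  haveI hN₀n : (Subgroup.centralizer ((⁅A, A⁆ : Subgroup X) : Set X)).Normal := inferInstance
  have hN₀H : Subgroup.centralizer ((⁅A, A⁆ : Subgroup X) : Set X) ≤ Subgroup.normalizer
      ((centSub A (⁅A, A⁆ ⊓ Subgroup.centralizer (B : Set X)) hUB : Subgroup X) : Set X) := by
    apply le_normalizer_of_conj_mem
    intro n hn x hx
    apply centSub_conj_mem _ hx
    intro v hv
    have := Subgroup.mem_centralizer_iff.mp hn v hv.1
    have e : n * v * n⁻¹ = v := by rw [← this]; group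
    rw [e]; exact hv
  have hgps : g ∈ psRad p (centSub A (⁅A, A⁆ ⊓ Subgroup.centralizer (B : Set X)) hUB) :=
    mem_psRad_of_stable hX' hAsp (hBAs hgB) hgq1
  have hCgN : ⁅Subgroup.centralizer ((⁅A, A⁆ : Subgroup X) : Set X), Subgroup.zpowers g⁆ ≤
      Subgroup.centralizer ((⁅A, A⁆ : Subgroup X) : Set X) := Subgroup.commutator_le_left _ _
  have hCgps : ⁅Subgroup.centralizer ((⁅A, A⁆ : Subgroup X) : Set X), Subgroup.zpowers g⁆ ≤
      psRad p (centSub A (⁅A, A⁆ ⊓ Subgroup.centralizer (B : Set X)) hUB) := by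
    rw [Subgroup.commutator_le]
    intro n hn h hh
    have hh' := (Subgroup.zpowers_le.mpr hgps) hh
    rw [commutatorElement_def]
    exact Subgroup.mul_mem _ (psRad_conj_mem (hN₀H hn) hh') (Subgroup.inv_mem _ hh')
  have hN₀Cg := le_normalizer_commutator_left
    (Subgroup.centralizer ((⁅A, A⁆ : Subgroup X) : Set X)) (Subgroup.zpowers g)
  have hgCg : g ∈ Subgroup.normalizer
      ((⁅Subgroup.centralizer ((⁅A, A⁆ : Subgroup X) : Set X), Subgroup.zpowers g⁆ :
        Subgroup X) : Set X) :=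
    le_normalizer_commutator_right _ _ (Subgroup.mem_zpowers g)
  have hNR : Subgroup.centralizer ((⁅A, A⁆ : Subgroup X) : Set X) ≤ Subgroup.normalizer
      ((⁅Subgroup.centralizer ((⁅A, A⁆ : Subgroup X) : Set X), Subgroup.zpowers g⁆ ⊓
        Subgroup.centralizer
          ((centSub A (⁅A, A⁆ ⊓ Subgroup.centralizer (B : Set X)) hUB : Subgroup X) : Set X) :
        Subgroup X) : Set X) :=
    le_trans (le_inf hN₀Cg (le_trans hN₀H (normalizer_le_normalizer_centralizer' _)))
      Subgroup.inf_normalizer_le_normalizer_inf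
  have hgR : g ∈ Subgroup.normalizer
      ((⁅Subgroup.centralizer ((⁅A, A⁆ : Subgroup X) : Set X), Subgroup.zpowers g⁆ ⊓
        Subgroup.centralizer
          ((centSub A (⁅A, A⁆ ⊓ Subgroup.centralizer (B : Set X)) hUB : Subgroup X) : Set X) :
        Subgroup X) : Set X) :=
    Subgroup.inf_normalizer_le_normalizer_inf
      ⟨hgCg, normalizer_le_normalizer_centralizer' _ (hBAs hgB)⟩
  have hCgp : IsPGroup p
      ↥(⁅Subgroup.centralizer ((⁅A, A⁆ : Subgroup X) : Set X), Subgroup.zpowers g⁆ :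
        Subgroup X) := by
    apply isPGroup_of_coprime_trivial
    intro y hy hc
    have hyR : y ∈ ⁅Subgroup.centralizer ((⁅A, A⁆ : Subgroup X) : Set X), Subgroup.zpowers g⁆ ⊓
        Subgroup.centralizer
          ((centSub A (⁅A, A⁆ ⊓ Subgroup.centralizer (B : Set X)) hUB : Subgroup X) : Set X) :=
      ⟨hy, mem_centralizer_of_mem_psRad_coprime (hCgps hy) hc⟩
    have hyA := coprime_centralizes_of_quot_stable hQS A hAT
      (Subgroup.centralizer ((⁅A, A⁆ : Subgroup X) : Set X)) g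
      (centSub A (⁅A, A⁆ ⊓ Subgroup.centralizer (B : Set X)) hUB) hgq2 _
      (le_trans inf_le_left hCgN) hNR hgR inf_le_right inf_le_left y hyR hc
    exact eq_one_of_isPGroup_of_coprime hCA hyA hc
  have hCgT : ⁅Subgroup.centralizer ((⁅A, A⁆ : Subgroup X) : Set X), Subgroup.zpowers g⁆ ≤
      Cfsg.pCore p X :=
    le_pCore_of_normal_in_normal (Subgroup.centralizer ((⁅A, A⁆ : Subgroup X) : Set X)) _ hCgN
      hCgp (fun n hn y hy => (Subgroup.mem_normalizer_iff.mp (hN₀Cg hn) y).mp hy)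
  have hcomm : ∀ n ∈ Subgroup.centralizer ((⁅A, A⁆ : Subgroup X) : Set X),
      ⁅g, n⁆ ∈ Cfsg.pCore p X := by
    intro n hn
    apply hCgT
    have e : ⁅g, n⁆ = (⁅n, g⁆)⁻¹ := (commutatorElement_inv n g).symm
    rw [e]
    exact Subgroup.inv_mem _ (Subgroup.commutator_mem_commutator hn (Subgroup.mem_zpowers g))
  -- Step 6
  have hUp : IsPGroup p ↥(⁅A, A⁆ : Subgroup X) := hAp.to_le hUA
  have hUab : (⁅A, A⁆ : Subgroup X) ≤ Subgroup.centralizer ((⁅A, A⁆ : Subgroup X) : Set X) :=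
    le_trans hA2 (Subgroup.centralizer_le (by exact_mod_cast hUA))
  have hUU : ⁅(⁅A, A⁆ : Subgroup X), ⁅A, A⁆⁆ = ⊥ :=
    Subgroup.commutator_eq_bot_iff_le_centralizer.mpr hUab
  have hBUZ : ⁅B, ⁅A, A⁆⁆ ≤ B ⊓ Subgroup.centralizer (B : Set X) := by
    apply hBtest _ (abelian_classTwo hUab) (le_trans hUA hAQ)
    · rw [Subgroup.normalizer_eq_top]; exact le_top
    · rw [hUU]; exact Subgroup.commutator_bot_right B
    · rw [eq_bot_iff, ← hUU]
      exact Subgroup.commutator_mono (Subgroup.commutator_le_right _ _) le_rfl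
  have hgqU : ⁅⁅(⁅A, A⁆ : Subgroup X), Subgroup.zpowers g⁆, Subgroup.zpowers g⁆ = ⊥ := by
    apply zpowers_quadratic_of_le (Z := B ⊓ Subgroup.centralizer (B : Set X)) _ inf_le_right hgB
    rw [Subgroup.commutator_comm]; exact hBUZ
  have hNU : ∀ x : X, x ∈ Subgroup.normalizer ((⁅A, A⁆ : Subgroup X) : Set X) := fun x => by
    rw [Subgroup.normalizer_eq_top]; trivial
  have hgP₁ : g ∈ psRad p (⁅A, A⁆ : Subgroup X) := mem_psRad_of_stable hX' hUp (hNU g) hgqU
  haveI hP₁n : (psRad p (⁅A, A⁆ : Subgroup X)).Normal :=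
    ⟨fun x hx n => psRad_conj_mem (hNU n) hx⟩
  have hTP : Cfsg.pCore p X ≤ psRad p (⁅A, A⁆ : Subgroup X) := by
    intro t ht
    apply mem_psRad_of_subgroup (Cfsg.pCore p X) (fun x _ => hNU x)
      (fun n _ x hx => hTn.conj_mem x hx n) _ ht
    intro x hx
    obtain ⟨k, hk⟩ := hTp ⟨x, hx⟩
    refine ⟨k, ?_⟩
    have : x ^ (p ^ k) = 1 := by simpa using congrArg Subtype.val hk
    rw [this]; exact Subgroup.one_mem _
  obtain ⟨k, hk⟩ := hBp ⟨g, hgB⟩
  have hgp : ∃ k : ℕ, g ^ (p ^ k) = 1 := ⟨k, by simpa using congrArg Subtype.val hk⟩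
  exact mem_pCore_of_comm_le (Subgroup.centralizer ((⁅A, A⁆ : Subgroup X) : Set X))
    (psRad p (⁅A, A⁆ : Subgroup X)) hTP
    (fun x hx => exists_pow_mem_centralizer_of_mem_psRad hx) g hgP₁ hgp hcomm

/-- **Normality of the K-infinity subgroups** in a constrained group all of whose quotients are
`p`-stable in the normalizer form. -/
theorem kinf_normal_of_quot
    (hQS : ∀ (N : Subgroup X) [N.Normal], Cfsg.IsNormalizerPStable p (X ⧸ N))
    (hcon : Subgroup.centralizer ((Cfsg.pCore p X : Subgroup X) : Set X) ≤ Cfsg.pCore p X)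
    (S : Sylow p X) :
    (Cfsg.inducedFunctor Cfsg.kInfLower (S : Subgroup X)).Normal ∧
      (Cfsg.inducedFunctor Cfsg.kInfUpper (S : Subgroup X)).Normal := by
  by_contra hne
  have hK : ¬ (Cfsg.inducedFunctor Cfsg.kInfLower (S : Subgroup X)).Normal ∨
      ¬ (Cfsg.inducedFunctor Cfsg.kInfUpper (S : Subgroup X)).Normal := not_and_or.mp hne
  haveI hTn : (Cfsg.pCore p X).Normal := Cfsg.Agent.helper1.pCore_normal p
  have hTp : IsPGroup p ↥(Cfsg.pCore p X) := Cfsg.Agent.helper1.pCore_isPGroup p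
  have hX' : Cfsg.IsNormalizerPStable p X :=
    isNormalizerPStable_of_equiv QuotientGroup.quotientBot (hQS ⊥)
  obtain ⟨A, hAT, hAn, -, hA2, hA3, hA4, -⟩ := exists_critical_in (Cfsg.pCore p X) hTp
  haveI := hAn
  have hAp : IsPGroup p ↥A := hTp.to_le hAT
  have hCA := centralizer_isPGroup_of_critical hcon A hAT hA4
  have hTS : Cfsg.pCore p X ≤ (S : Subgroup X) := Cfsg.Agent.helper1.pCore_le_sylow S
  have hK' : ¬ (⨆ n, kEvenIn (S : Subgroup X) n).Normal ∨
      ¬ (⨅ n, kOddIn (S : Subgroup X) n).Normal := by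
    rw [← inducedFunctor_kInfLower, ← inducedFunctor_kInfUpper]
    exact hK
  obtain ⟨g, hgS, hgT, hZ, h | ⟨-, n, B, hBS, hB, hAO, hgB⟩⟩ :=
    kinf_dichotomy hTS hAT hA2 hA3 hK'
  · apply hgT
    have hNZ : ∀ x : X, x ∈ Subgroup.normalizer
        ((A ⊓ Subgroup.centralizer (A : Set X) : Subgroup X) : Set X) := fun x => by
      rw [Subgroup.normalizer_eq_top]; trivial
    obtain ⟨O, hgO, hOp, -, hOc⟩ := ps_chain' hX' A (A ⊓ Subgroup.centralizer (A : Set X))
      (stable_normalizer_section_of_normal hQS _)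
      (hAp.to_le inf_le_left) hAp hCA (fun a _ => hNZ a) g (hNZ g) hZ h
    have hOn : O.Normal := ⟨fun x hx n => hOc n (hNZ n) x hx⟩
    exact Cfsg.Agent.helper1.le_pCore hOn hOp hgO
  · exact hgT (ps_even' hQS A hAT hA2 hA3 hCA _ B hAO hB (S.isPGroup'.to_le hBS) hgB)

end quot

end Cfsg.Agent.helper10
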