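import Mathlib
import Cfsg.Agent.Lib_helper10_PS3
import Cfsg.Agent.Lib_helper10_KInf3

/-!
Clifford theory along subnormal chains with `p`-power quotient, and the "quadratic on a
submodule and on the quotient implies quadratic" principle for semisimple modules.
-/

set_option autoImplicit false

namespace Cfsg.Agent.helper10

open Cfsg
open scoped commutatorElement
open scoped Pointwise

section subn

variable {Γ : Type*} [Group Γ]

/-- One Clifford step: semisimplicity passes to a normal subgroup of the acting group. -/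
theorem gen_isMinInv_step [Finite Γ] {L H M : Subgroup Γ} (hHL : H ≤ L)
    (hLH : L ≤ Subgroup.normalizer (H : Set Γ))
    (hM : M ≤ sSup {U : Subgroup Γ | U ≤ M ∧ IsMinInv L U}) :
    M ≤ sSup {U : Subgroup Γ | U ≤ M ∧ IsMinInv H U} := by
  refine le_trans hM (sSup_le ?_)
  rintro W ⟨hWM, hW⟩
  rw [← sSup_isMinInv_eq hHL hLH hW]
  apply sSup_le
  rintro U ⟨hUW, hU⟩
  exact le_sSup ⟨le_trans hUW hWM, hU⟩

/-- The normalizer condition between `N` and `P` when `P/N` is a `p`-group. -/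
theorem exists_normalizing_of_pquot [Finite Γ] {p : ℕ} [hp : Fact p.Prime] {N H P : Subgroup Γ}
    (hNH : N ≤ H) (hHP : H < P) (hPN : P ≤ Subgroup.normalizer (N : Set Γ))
    (hpq : ∀ x ∈ P, ∃ k : ℕ, x ^ (p ^ k) ∈ N) :
    ∃ x ∈ P, x ∉ H ∧ x ∈ Subgroup.normalizer (H : Set Γ) := by
  classical
  haveI hNn : (N.subgroupOf P).Normal :=
    (Subgroup.normal_subgroupOf_iff_le_normalizer (le_trans hNH hHP.le)).mpr hPN
  have hQp : IsPGroup p (↥P ⧸ N.subgroupOf P) := by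
    intro q
    obtain ⟨x, rfl⟩ := QuotientGroup.mk_surjective q
    obtain ⟨k, hk⟩ := hpq x x.2
    refine ⟨k, ?_⟩
    rw [← QuotientGroup.mk_pow, QuotientGroup.eq_one_iff, Subgroup.mem_subgroupOf]
    simpa using hk
  haveI : Group.IsNilpotent (↥P ⧸ N.subgroupOf P) := hQp.isNilpotent
  have hnc := Group.normalizerCondition_of_isNilpotent (G := ↥P ⧸ N.subgroupOf P)
  have hmem : ∀ y : ↥P, QuotientGroup.mk' (N.subgroupOf P) y ∈
      (H.subgroupOf P).map (QuotientGroup.mk' (N.subgroupOf P)) ↔ (y : Γ) ∈ H := by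
    intro y
    constructor
    · rintro ⟨h, hh, he⟩
      have h1 : h⁻¹ * y ∈ N.subgroupOf P := QuotientGroup.eq.mp he
      have hh' : (h : Γ) ∈ H := Subgroup.mem_subgroupOf.mp hh
      rw [Subgroup.mem_subgroupOf] at h1
      have e : (y : Γ) = (h : Γ) * ((h⁻¹ * y : ↥P) : Γ) := by simp
      rw [e]
      exact H.mul_mem hh' (hNH h1)
    · intro hy
      exact ⟨y, Subgroup.mem_subgroupOf.mpr hy, rfl⟩
  obtain ⟨y, hyP, hyH⟩ := SetLike.exists_of_lt hHP
  have hlt : (H.subgroupOf P).map (QuotientGroup.mk' (N.subgroupOf P)) < ⊤ := by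
    rw [lt_top_iff_ne_top]
    intro htop
    apply hyH
    have : QuotientGroup.mk' (N.subgroupOf P) ⟨y, hyP⟩ ∈
        (H.subgroupOf P).map (QuotientGroup.mk' (N.subgroupOf P)) := by
      rw [htop]; exact Subgroup.mem_top _
    exact (hmem ⟨y, hyP⟩).mp this
  obtain ⟨x', hx'N, hx'H⟩ := SetLike.exists_of_lt (hnc _ hlt)
  obtain ⟨x, rfl⟩ := QuotientGroup.mk'_surjective (N.subgroupOf P) x'
  refine ⟨x, x.2, fun hxH => hx'H ((hmem x).mpr hxH), ?_⟩
  rw [Subgroup.mem_normalizer_iff]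
  intro h
  constructor
  · intro hh
    have hhP : h ∈ P := hHP.le hh
    have h1 := (Subgroup.mem_normalizer_iff.mp hx'N
      (QuotientGroup.mk' (N.subgroupOf P) ⟨h, hhP⟩)).mp ((hmem ⟨h, hhP⟩).mpr hh)
    rw [← map_inv, ← map_mul, ← map_mul] at h1
    have := (hmem _).mp h1
    simpa using this
  · intro hh
    have hhP : h ∈ P := by
      have e : h = (x : Γ)⁻¹ * ((x : Γ) * h * (x : Γ)⁻¹) * (x : Γ) := by group
      rw [e]
      exact P.mul_mem (P.mul_mem (P.inv_mem x.2) (hHP.le hh)) x.2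
    have h0 : QuotientGroup.mk' (N.subgroupOf P) (x * ⟨h, hhP⟩ * x⁻¹) ∈
        (H.subgroupOf P).map (QuotientGroup.mk' (N.subgroupOf P)) := by
      apply (hmem _).mpr
      simpa using hh
    rw [map_mul, map_mul, map_inv] at h0
    have h1 := (Subgroup.mem_normalizer_iff.mp hx'N
      (QuotientGroup.mk' (N.subgroupOf P) ⟨h, hhP⟩)).mpr h0
    exact (hmem ⟨h, hhP⟩).mp h1

/-- Semisimplicity passes to every subgroup between `N` and `P` when `P/N` is a `p`-group. -/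
theorem gen_isMinInv_of_pquot [Finite Γ] {p : ℕ} [hp : Fact p.Prime] {N P M : Subgroup Γ}
    (hPN : P ≤ Subgroup.normalizer (N : Set Γ))
    (hpq : ∀ x ∈ P, ∃ k : ℕ, x ^ (p ^ k) ∈ N)
    (hM : M ≤ sSup {U : Subgroup Γ | U ≤ M ∧ IsMinInv P U}) :
    ∀ H : Subgroup Γ, N ≤ H → H ≤ P →
      M ≤ sSup {U : Subgroup Γ | U ≤ M ∧ IsMinInv H U} := by
  intro H
  induction H using WellFoundedGT.induction with
  | ind H ih =>
    intro hNH hHP
    rcases eq_or_lt_of_le hHP with rfl | hlt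
    · exact hM
    · obtain ⟨x, hxP, hxH, hxN⟩ := exists_normalizing_of_pquot hNH hlt hPN hpq
      have h1 : H < H ⊔ Subgroup.zpowers x := by
        refine lt_of_le_of_ne le_sup_left ?_
        intro he
        apply hxH
        rw [he]
        exact Subgroup.mem_sup_right (Subgroup.mem_zpowers x)
      have h2 : H ⊔ Subgroup.zpowers x ≤ P :=
        sup_le hHP (by rw [Subgroup.zpowers_le]; exact hxP)
      have h3 := ih (H ⊔ Subgroup.zpowers x) h1 (le_trans hNH le_sup_left) h2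
      have h4 : H ⊔ Subgroup.zpowers x ≤ Subgroup.normalizer (H : Set Γ) :=
        sup_le Subgroup.le_normalizer (by rw [Subgroup.zpowers_le]; exact hxN)
      exact gen_isMinInv_step le_sup_left h4 h3

theorem commutator_sup_abelian {M P Q K : Subgroup Γ}
    (hMab : M ≤ Subgroup.centralizer (M : Set Γ)) (hP : P ≤ M) (hQ : Q ≤ M)
    (hKQ : K ≤ Subgroup.normalizer (Q : Set Γ)) :
    ⁅P ⊔ Q, K⁆ ≤ ⁅P, K⁆ ⊔ ⁅Q, K⁆ := by
  rw [Subgroup.commutator_le]
  intro x hx k hk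
  have hcoe := Subgroup.coe_mul_of_left_le_normalizer_right P Q
    (le_normalizer_of_abelian hMab hP hQ)
  have hmem : x ∈ (P : Set Γ) * (Q : Set Γ) := by rw [← hcoe]; exact hx
  obtain ⟨a, ha, b, hb, rfl⟩ := Set.mem_mul.mp hmem
  rw [kcomm_mul_left]
  have hbk : ⁅b, k⁆ ∈ Q := by
    have h3 : k * b⁻¹ * k⁻¹ ∈ Q :=
      (Subgroup.mem_normalizer_iff.mp (hKQ hk) _).mp (Q.inv_mem hb)
    have e2 : ⁅b, k⁆ = b * (k * b⁻¹ * k⁻¹) := by rw [commutatorElement_def]; group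
    rw [e2]; exact Q.mul_mem hb h3
  have hcomm : a * ⁅b, k⁆ * a⁻¹ = ⁅b, k⁆ := by
    have := Subgroup.mem_centralizer_iff.mp (hMab (hQ hbk)) a (hP ha)
    rw [this]; group
  rw [hcomm]
  exact Subgroup.mul_mem _
    (Subgroup.mem_sup_right (Subgroup.commutator_mem_commutator hb hk))
    (Subgroup.mem_sup_left (Subgroup.commutator_mem_commutator ha hk))

/-- In a semisimple abelian `H`-group `M`, an element (subgroup `K ≤ H`) acting quadratically on an
`H`-invariant subgroup `E` and on `M/E` acts quadratically on `M`. -/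
theorem quadratic_of_semisimple [Finite Γ] {H M E K : Subgroup Γ}
    (hMab : M ≤ Subgroup.centralizer (M : Set Γ))
    (hMgen : M ≤ sSup {U : Subgroup Γ | U ≤ M ∧ IsMinInv H U})
    (hEM : E ≤ M) (hHE : H ≤ Subgroup.normalizer (E : Set Γ)) (hKH : K ≤ H)
    (hE2 : ⁅⁅E, K⁆, K⁆ = ⊥) (hM2 : ⁅⁅M, K⁆, K⁆ ≤ E) : ⁅⁅M, K⁆, K⁆ = ⊥ := by
  obtain ⟨F, hFM, hHF, hEF, hMEF⟩ := exists_inv_compl hMab hMgen hEM hHE
  have hKF : K ≤ Subgroup.normalizer (F : Set Γ) := le_trans hKH hHF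
  have hKE : K ≤ Subgroup.normalizer (E : Set Γ) := le_trans hKH hHE
  have hFK : ⁅F, K⁆ ≤ F := by
    rw [Subgroup.commutator_comm]; exact commutator_le_of_le_normalizer hKF
  have hEK : ⁅E, K⁆ ≤ E := by
    rw [Subgroup.commutator_comm]; exact commutator_le_of_le_normalizer hKE
  have hF2 : ⁅⁅F, K⁆, K⁆ = ⊥ := by
    rw [eq_bot_iff, ← hEF]
    refine le_inf ?_ ?_
    · exact le_trans (Subgroup.commutator_mono (Subgroup.commutator_mono hFM le_rfl) le_rfl) hM2
    · exact le_trans (Subgroup.commutator_mono hFK le_rfl) hFK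
  have h1 : ⁅M, K⁆ ≤ ⁅E, K⁆ ⊔ ⁅F, K⁆ :=
    le_trans (Subgroup.commutator_mono hMEF le_rfl) (commutator_sup_abelian hMab hEM hFM hKF)
  have hKFK : K ≤ Subgroup.normalizer ((⁅F, K⁆ : Subgroup Γ) : Set Γ) :=
    le_normalizer_commutator_right F K
  have h2 : ⁅⁅E, K⁆ ⊔ ⁅F, K⁆, K⁆ ≤ ⁅⁅E, K⁆, K⁆ ⊔ ⁅⁅F, K⁆, K⁆ :=
    commutator_sup_abelian hMab (le_trans hEK hEM) (le_trans hFK hFM) hKFK
  rw [eq_bot_iff]
  refine le_trans (Subgroup.commutator_mono h1 le_rfl) (le_trans h2 ?_)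
  rw [hE2, hF2, sup_bot_eq]

end subn

end Cfsg.Agent.helper10
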