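import Mathlib
import Cfsg.Agent.Lib_helper10_KInf4
import Cfsg.Agent.Lib_helper10_KInf5
import Cfsg.Agent.Lib_helper10_HH3

/-!
K-infinity theory, part 6: quadratic action on chief factors (clause (c) of the structure
theorem).
-/

set_option autoImplicit false

namespace Cfsg.Agent.helper10

open Cfsg
open scoped commutatorElement
open scoped Pointwise

universe u

section cc

variable {G : Type u} [Group G]

/-- The elements centralizing every chief factor `U/V` of `G` with `U ≤ D`. -/
def chiefCent (D : Subgroup G) : Subgroup G where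
  carrier := {h | ∀ U V : Subgroup G, Cfsg.IsChiefFactor U V → U ≤ D → ∀ u ∈ U, ⁅u, h⁆ ∈ V}
  one_mem' := by
    intro U V _ _ u _
    rw [commutatorElement_one_right]; exact V.one_mem
  mul_mem' := by
    intro a b ha hb U V hUV hUD u hu
    rw [kcomm_mul_right]
    exact V.mul_mem (ha U V hUV hUD u hu) (hUV.2.2.1.conj_mem _ (hb U V hUV hUD u hu) a)
  inv_mem' := by
    intro a ha U V hUV hUD u hu
    have e : ⁅u, a⁻¹⁆ = a⁻¹ * (⁅u, a⁆)⁻¹ * a := by
      rw [commutatorElement_def, commutatorElement_def]; group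
    rw [e]
    have := hUV.2.2.1.conj_mem _ (V.inv_mem (ha U V hUV hUD u hu)) a⁻¹
    rwa [inv_inv] at this

theorem mem_chiefCent {D : Subgroup G} {h : G} :
    h ∈ chiefCent D ↔
      ∀ U V : Subgroup G, Cfsg.IsChiefFactor U V → U ≤ D → ∀ u ∈ U, ⁅u, h⁆ ∈ V := Iff.rfl

theorem chiefCent_normal (D : Subgroup G) : (chiefCent D).Normal := by
  constructor
  intro h hh x U V hUV hUD u hu
  have hUn := hUV.2.1
  have hVn := hUV.2.2.1
  have hu' : x⁻¹ * u * x ∈ U := by
    have := hUn.conj_mem u hu x⁻¹
    rwa [inv_inv] at this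
  have e : ⁅u, x * h * x⁻¹⁆ = x * ⁅x⁻¹ * u * x, h⁆ * x⁻¹ := by
    rw [commutatorElement_def, commutatorElement_def]; group
  rw [e]
  exact hVn.conj_mem _ (hh U V hUV hUD _ hu') x

theorem centralizer_le_chiefCent (D : Subgroup G) :
    Subgroup.centralizer (D : Set G) ≤ chiefCent D := by
  intro h hh U V _ hUD u hu
  have h1 := Subgroup.mem_centralizer_iff.mp hh u (hUD hu)
  have e : ⁅u, h⁆ = 1 := by
    rw [commutatorElement_def, h1]; group
  rw [e]; exact V.one_mem

theorem exists_pow_coprime [Finite G] {p : ℕ} [hp : Fact p.Prime] (x : G) :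
    ∃ k : ℕ, (orderOf (x ^ (p ^ k))).Coprime p := by
  have hn : orderOf x ≠ 0 := (orderOf_pos x).ne'
  refine ⟨(orderOf x).factorization p, ?_⟩
  have hpk : p ^ (orderOf x).factorization p ≠ 0 := pow_ne_zero _ hp.out.ne_zero
  have hord : orderOf (x ^ (p ^ (orderOf x).factorization p)) =
      orderOf x / p ^ (orderOf x).factorization p := by
    rw [orderOf_pow' _ hpk]
    congr 1
    exact Nat.gcd_eq_right (Nat.ordProj_dvd _ p)
  rw [hord]
  exact (Nat.coprime_ordCompl hp.out hn).symm

/-- A `p'`-element centralizing all chief factors inside the `p`-group `D` centralizes every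
normal subgroup inside `D`. -/
theorem chiefCent_coprime_centralizes [Finite G] {p : ℕ} [hp : Fact p.Prime] (D : Subgroup G)
    (hDp : IsPGroup p ↥D) {y : G} (hy : y ∈ chiefCent D) (hc : (orderOf y).Coprime p) :
    ∀ X : Subgroup G, X.Normal → X ≤ D → y ∈ Subgroup.centralizer (X : Set G) := by
  intro X
  induction X using WellFoundedLT.induction with
  | ind X ih =>
    intro hXn hXD
    by_cases hX : X = ⊥
    · subst hX
      rw [Subgroup.mem_centralizer_iff]
      intro h hh
      have : h = 1 := by simpa using hh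
      subst this; simp
    · haveI := hXn
      have hlt : (⊥ : Subgroup G) < X := bot_lt_iff_ne_bot.mpr hX
      obtain ⟨Y, -, hXY⟩ := exists_chief_below (A := ⊥) (B := X) hlt
      have hYn := hXY.2.2.1
      have hYc := ih Y hXY.1 hYn (le_trans hXY.1.le hXD)
      apply coprime_centralizes_chain Y X (hDp.to_le (le_trans hXY.1.le hXD)) y hc hYc
      intro a ha
      have h1 := hy X Y hXY hXD a ha
      have e : y * a * y⁻¹ * a⁻¹ = (⁅a, y⁆)⁻¹ := by rw [commutatorElement_def]; group
      rw [e]; exact Y.inv_mem h1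

theorem chiefCent_pquot [Finite G] {p : ℕ} [hp : Fact p.Prime] (D : Subgroup G) [hDn : D.Normal]
    (hDp : IsPGroup p ↥D) :
    ∀ x ∈ chiefCent D, ∃ k : ℕ, x ^ (p ^ k) ∈ Subgroup.centralizer (D : Set G) := by
  intro x hx
  obtain ⟨k, hk⟩ := exists_pow_coprime (p := p) x
  exact ⟨k, chiefCent_coprime_centralizes D hDp ((chiefCent D).pow_mem hx _) hk D hDn le_rfl⟩

theorem chiefCent_le_pCore [Finite G] {p : ℕ} [hp : Fact p.Prime] (A : Subgroup G)
    [hAn : A.Normal] (hAp : IsPGroup p ↥A)
    (hCA : IsPGroup p ↥(Subgroup.centralizer (A : Set G))) :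
    chiefCent A ≤ Cfsg.pCore p G := by
  apply Cfsg.Agent.helper1.le_pCore (chiefCent_normal A)
  apply isPGroup_of_coprime_trivial
  intro y hy hc
  exact eq_one_of_isPGroup_of_coprime hCA
    (chiefCent_coprime_centralizes A hAp hy hc A hAn le_rfl) hc

/-- An element outside `O_p(G)` acts nontrivially on some chief factor inside `A`. -/
theorem exists_chief_nontrivial [Finite G] {p : ℕ} [hp : Fact p.Prime] (A : Subgroup G)
    [hAn : A.Normal] (hAp : IsPGroup p ↥A)
    (hCA : IsPGroup p ↥(Subgroup.centralizer (A : Set G))) {g : G}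
    (hg : g ∉ Cfsg.pCore p G) :
    ∃ U V : Subgroup G, Cfsg.IsChiefFactor U V ∧ U ≤ A ∧ ¬ ⁅U, Subgroup.zpowers g⁆ ≤ V := by
  by_contra hne
  push Not at hne
  apply hg
  apply chiefCent_le_pCore A hAp hCA
  intro U V hUV hUA u hu
  exact hne U V hUV hUA (Subgroup.commutator_mem_commutator hu (Subgroup.mem_zpowers g))

/-- Case 1: quadratic action modulo the centre and on the centre gives quadratic action on every
chief factor inside `A`. -/
theorem chief_quadratic_case1 (A : Subgroup G) [hAn : A.Normal] (g : G)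
    (hZ : ⁅⁅A ⊓ Subgroup.centralizer ((A : Subgroup G) : Set G), Subgroup.zpowers g⁆,
        Subgroup.zpowers g⁆ = ⊥)
    (hA : ⁅⁅A, Subgroup.zpowers g⁆, Subgroup.zpowers g⁆ ≤
          A ⊓ Subgroup.centralizer ((A : Subgroup G) : Set G)) :
    ∀ U V : Subgroup G, Cfsg.IsChiefFactor U V → U ≤ A →
      ⁅⁅U, Subgroup.zpowers g⁆, Subgroup.zpowers g⁆ ≤ V := by
  intro U V hUV hUA
  have hUn : U.Normal := hUV.2.1
  have hVn : V.Normal := hUV.2.2.1
  haveI hZn : (A ⊓ Subgroup.centralizer ((A : Subgroup G) : Set G)).Normal :=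
    inf_centralizer_normal A
  by_cases hc : U ⊓ (A ⊓ Subgroup.centralizer ((A : Subgroup G) : Set G)) ≤ V
  · refine le_trans (le_inf ?_ ?_) hc
    · haveI := hUn
      exact le_trans (Subgroup.commutator_mono (Subgroup.commutator_le_left U _) le_rfl)
        (Subgroup.commutator_le_left U _)
    · exact le_trans (Subgroup.commutator_mono (Subgroup.commutator_mono hUA le_rfl) le_rfl) hA
  · have hgen : (U ⊓ (A ⊓ Subgroup.centralizer ((A : Subgroup G) : Set G))) ⊔ V = U := by
      rcases hUV.2.2.2 ((U ⊓ (A ⊓ Subgroup.centralizer ((A : Subgroup G) : Set G))) ⊔ V)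
        inferInstance le_sup_right (sup_le inf_le_left hUV.1.le) with h | h
      · exact absurd (le_trans le_sup_left h.le) hc
      · exact h
    show Cfsg.iterCommutator U (Subgroup.zpowers g) 2 ≤ V
    rw [← hgen]
    refine le_trans (iter_sup_le _ V _ 2) (sup_le ?_ le_rfl)
    refine le_trans (iter_mono_left inf_le_right _ 2) ?_
    have hZ2 : Cfsg.iterCommutator (A ⊓ Subgroup.centralizer ((A : Subgroup G) : Set G))
        (Subgroup.zpowers g) 2 = ⊥ := hZ
    rw [hZ2]; exact bot_le

end cc

end Cfsg.Agent.helper10
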