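import Mathlib
import Cfsg.Agent.Lib_helper10_KInf6

/-!
K-infinity theory, part 7: the even case of clause (c).
-/

set_option autoImplicit false

namespace Cfsg.Agent.helper10

open Cfsg
open scoped commutatorElement
open scoped Pointwise

universe u

section astar

variable {X : Type u} [Group X] [Finite X]

/-- The auxiliary subgroup `A*` in the even case. -/
theorem even_Astar (A T : Subgroup X) [hAn : A.Normal]
    (hA2 : ⁅A, A⁆ ≤ Subgroup.centralizer (A : Set X))
    (hA3 : ⁅T, A⁆ ≤ A ⊓ Subgroup.centralizer (A : Set X))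
    (Q B : Subgroup X) (hAQ : A ≤ Q) (hB : B ∈ Cfsg.kLowerStarFamily Q)
    (hZBT : B ⊓ Subgroup.centralizer (B : Set X) ≤ T) :
    ∃ As : Subgroup X, As ≤ A ∧ B ≤ Subgroup.normalizer (As : Set X) ∧
      Subgroup.centralizer ((⁅A, A⁆ : Subgroup X) : Set X) ≤ Subgroup.normalizer (As : Set X) ∧
      (∀ g ∈ B, ⁅⁅As, Subgroup.zpowers g⁆, Subgroup.zpowers g⁆ = ⊥) ∧
      (∀ g ∈ B, ⁅⁅A, Subgroup.zpowers g⁆, Subgroup.zpowers g⁆ ≤ As) ∧
      (∀ g ∈ B, ⁅⁅(⁅A, A⁆ : Subgroup X), Subgroup.zpowers g⁆, Subgroup.zpowers g⁆ = ⊥) := by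
  obtain ⟨hB2, hQB, hBtest⟩ := hB
  have hAB : A ≤ Subgroup.normalizer (B : Set X) := le_trans hAQ hQB
  have hABB : ⁅A, B⁆ ≤ B := commutator_le_of_le_normalizer hAB
  have hABA : ⁅A, B⁆ ≤ A := Subgroup.commutator_le_left A B
  have hUA : ⁅A, A⁆ ≤ A := Subgroup.commutator_le_left A A
  have hUB : ⁅A, A⁆ ⊓ Subgroup.centralizer (B : Set X) ≤ Subgroup.centralizer (A : Set X) :=
    le_trans inf_le_left hA2
  have hAsA : centSub A (⁅A, A⁆ ⊓ Subgroup.centralizer (B : Set X)) hUB ≤ A := centSub_le _ _ _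
  have hAs' : ⁅centSub A (⁅A, A⁆ ⊓ Subgroup.centralizer (B : Set X)) hUB,
      centSub A (⁅A, A⁆ ⊓ Subgroup.centralizer (B : Set X)) hUB⁆ ≤
      ⁅A, A⁆ ⊓ Subgroup.centralizer (B : Set X) :=
    le_trans (Subgroup.commutator_mono le_rfl hAsA) (centSub_commutator_le _ _ _)
  have hcA_le : Subgroup.centralizer (A : Set X) ≤ Subgroup.centralizer
      ((centSub A (⁅A, A⁆ ⊓ Subgroup.centralizer (B : Set X)) hUB : Subgroup X) : Set X) :=
    Subgroup.centralizer_le (by exact_mod_cast hAsA)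
  have hBfix : ∀ b ∈ B, ∀ v ∈ ⁅A, A⁆ ⊓ Subgroup.centralizer (B : Set X),
      b * v * b⁻¹ ∈ ⁅A, A⁆ ⊓ Subgroup.centralizer (B : Set X) := by
    intro b hb v hv
    have := Subgroup.mem_centralizer_iff.mp hv.2 b hb
    have e : b * v * b⁻¹ = v := by rw [this]; group
    rw [e]; exact hv
  have hBAs : B ≤ Subgroup.normalizer
      ((centSub A (⁅A, A⁆ ⊓ Subgroup.centralizer (B : Set X)) hUB : Subgroup X) : Set X) :=
    le_normalizer_of_conj_mem fun b hb a ha => centSub_conj_mem (hBfix b hb) ha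
  have hBAsZ : ⁅B, centSub A (⁅A, A⁆ ⊓ Subgroup.centralizer (B : Set X)) hUB⁆ ≤
      B ⊓ Subgroup.centralizer (B : Set X) := by
    have hAscl : centSub A (⁅A, A⁆ ⊓ Subgroup.centralizer (B : Set X)) hUB ∈
        Cfsg.classTwoSubgroups X := le_trans hAs' (le_trans hUB hcA_le)
    apply hBtest _ hAscl (le_trans hAsA hAQ) hBAs
    · rw [Subgroup.commutator_eq_bot_iff_le_centralizer]
      exact Subgroup.le_centralizer_iff.mp (le_trans hAs' inf_le_right)
    · rw [Subgroup.commutator_eq_bot_iff_le_centralizer]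
      have h5 : ⁅B ⊓ Subgroup.centralizer (B : Set X),
          centSub A (⁅A, A⁆ ⊓ Subgroup.centralizer (B : Set X)) hUB⁆ ≤
          A ⊓ Subgroup.centralizer (A : Set X) :=
        le_trans (Subgroup.commutator_mono hZBT hAsA) hA3
      exact le_trans h5 (le_trans inf_le_right hcA_le)
  have hE : (B ⊓ Subgroup.centralizer (B : Set X)) ⊓ A ≤
      centSub A (⁅A, A⁆ ⊓ Subgroup.centralizer (B : Set X)) hUB := by
    intro e he
    refine ⟨he.2, fun c hc => ⟨Subgroup.commutator_mem_commutator he.2 hc, ?_⟩⟩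
    have h1 : c * e⁻¹ * c⁻¹ ∈ B ⊓ Subgroup.centralizer (B : Set X) :=
      conj_mem_inf_centralizer (hAB hc) (Subgroup.inv_mem _ he.1)
    have e1 : ⁅e, c⁆ = e * (c * e⁻¹ * c⁻¹) := by rw [commutatorElement_def]; group
    rw [e1]
    exact Subgroup.mul_mem _ he.1.2 h1.2
  have hABBE : ⁅⁅A, B⁆, B⁆ ≤ (B ⊓ Subgroup.centralizer (B : Set X)) ⊓ A := by
    refine le_inf (le_inf ?_ ?_) ?_
    · exact le_trans (Subgroup.commutator_mono hABB le_rfl)
        (commutator_le_of_le_normalizer Subgroup.le_normalizer)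
    · exact le_trans (Subgroup.commutator_mono hABB le_rfl) hB2
    · exact le_trans (Subgroup.commutator_mono hABA le_rfl) (Subgroup.commutator_le_left A B)
  haveI hUn : (⁅A, A⁆ : Subgroup X).Normal := inferInstance
  have hN₀H : Subgroup.centralizer ((⁅A, A⁆ : Subgroup X) : Set X) ≤ Subgroup.normalizer
      ((centSub A (⁅A, A⁆ ⊓ Subgroup.centralizer (B : Set X)) hUB : Subgroup X) : Set X) := by
    apply le_normalizer_of_conj_mem
    intro n hn x hx
    apply centSub_conj_mem _ hx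
    intro v hv
    have := Subgroup.mem_centralizer_iff.mp hn v hv.1
    have e : n * v * n⁻¹ = v := by rw [← this]; group
    rw [e]; exact hv
  have hUab : (⁅A, A⁆ : Subgroup X) ≤ Subgroup.centralizer ((⁅A, A⁆ : Subgroup X) : Set X) :=
    le_trans hA2 (Subgroup.centralizer_le (by exact_mod_cast hUA))
  have hUU : ⁅(⁅A, A⁆ : Subgroup X), ⁅A, A⁆⁆ = ⊥ :=
    Subgroup.commutator_eq_bot_iff_le_centralizer.mpr hUab
  have hBUZ : ⁅B, ⁅A, A⁆⁆ ≤ B ⊓ Subgroup.centralizer (B : Set X) := by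
    apply hBtest _ (abelian_classTwo hUab) (le_trans hUA hAQ)
    · rw [Subgroup.normalizer_eq_top]; exact le_top
    · rw [hUU]; exact Subgroup.commutator_bot_right B
    · rw [eq_bot_iff, ← hUU]
      exact Subgroup.commutator_mono (Subgroup.commutator_le_right _ _) le_rfl
  refine ⟨centSub A (⁅A, A⁆ ⊓ Subgroup.centralizer (B : Set X)) hUB, hAsA, hBAs, hN₀H, ?_, ?_, ?_⟩
  · intro g hgB
    apply zpowers_quadratic_of_le (Z := B ⊓ Subgroup.centralizer (B : Set X)) _ inf_le_right hgB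
    rw [Subgroup.commutator_comm]; exact hBAsZ
  · intro g hgB
    have hzg : Subgroup.zpowers g ≤ B := by rw [Subgroup.zpowers_le]; exact hgB
    exact le_trans (Subgroup.commutator_mono (Subgroup.commutator_mono le_rfl hzg) hzg)
      (le_trans hABBE hE)
  · intro g hgB
    apply zpowers_quadratic_of_le (Z := B ⊓ Subgroup.centralizer (B : Set X)) _ inf_le_right hgB
    rw [Subgroup.commutator_comm]; exact hBUZ

end astar

section quot

variable {G : Type u} [Group G]

theorem map_mk_abelian_of_comm_le {U V : Subgroup G} [hVn : V.Normal] (h : ⁅U, U⁆ ≤ V) :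
    U.map (QuotientGroup.mk' V) ≤
      Subgroup.centralizer ((U.map (QuotientGroup.mk' V) : Subgroup (G ⧸ V)) : Set (G ⧸ V)) := by
  rintro _ ⟨u, hu, rfl⟩
  rw [Subgroup.mem_centralizer_iff]
  rintro _ ⟨w, hw, rfl⟩
  rw [← map_mul, ← map_mul]
  show ((w * u : G) : G ⧸ V) = ((u * w : G) : G ⧸ V)
  rw [QuotientGroup.eq]
  apply h
  have e : (w * u)⁻¹ * (u * w) = ⁅u⁻¹, w⁻¹⁆ := by rw [commutatorElement_def]; group
  rw [e]
  exact Subgroup.commutator_mem_commutator (U.inv_mem hu) (U.inv_mem hw)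

theorem isMinInv_top_of_chief {U V : Subgroup G} [hVn : V.Normal]
    (hUV : Cfsg.IsChiefFactor U V) :
    IsMinInv (⊤ : Subgroup (G ⧸ V)) (U.map (QuotientGroup.mk' V)) := by
  obtain ⟨hlt, hUn, -, hmin⟩ := hUV
  haveI hMn : (U.map (QuotientGroup.mk' V)).Normal :=
    hUn.map _ (QuotientGroup.mk'_surjective V)
  refine ⟨?_, ?_, ?_⟩
  · intro h
    rw [Subgroup.map_eq_bot_iff, QuotientGroup.ker_mk'] at h
    exact absurd h (not_le_of_gt hlt)
  · rw [Subgroup.normalizer_eq_top]
  · intro W hWM hW0 hWn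
    have hWnorm : W.Normal := Subgroup.normalizer_eq_top_iff.mp (top_le_iff.mp hWn)
    have hNn : (W.comap (QuotientGroup.mk' V)).Normal := hWnorm.comap _
    have hVN : V ≤ W.comap (QuotientGroup.mk' V) := by
      have := Subgroup.ker_le_comap (QuotientGroup.mk' V) W
      rwa [QuotientGroup.ker_mk'] at this
    have hNU : W.comap (QuotientGroup.mk' V) ≤ U := by
      have h1 := Subgroup.comap_mono (f := QuotientGroup.mk' V) hWM
      rw [Subgroup.comap_map_eq, QuotientGroup.ker_mk', sup_eq_left.mpr hlt.le] at h1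
      exact h1
    have hmc : (W.comap (QuotientGroup.mk' V)).map (QuotientGroup.mk' V) = W :=
      Subgroup.map_comap_eq_self_of_surjective (QuotientGroup.mk'_surjective V) W
    rcases hmin _ hNn hVN hNU with h | h
    · exfalso
      apply hW0
      rw [← hmc, h, QuotientGroup.map_mk'_self]
    · rw [← hmc, h]

theorem le_of_map_mk_eq_bot {Y V : Subgroup G} [hVn : V.Normal]
    (h : Y.map (QuotientGroup.mk' V) = ⊥) : Y ≤ V := by
  rw [Subgroup.map_eq_bot_iff, QuotientGroup.ker_mk'] at h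
  exact h

end quot

section main

variable {G : Type u} [Group G] [Finite G] {p : ℕ} [hp : Fact p.Prime]

/-- The even case: an element `g` of a member `B` of the lower-star family, with `Z(B) ≤ O_p(G)`,
either acts quadratically and nontrivially on a chief factor inside `[A, A]`, or acts
quadratically on every chief factor inside `A`. -/
theorem even_chief_quadratic (A : Subgroup G) [hAn : A.Normal]
    (hAT : A ≤ Cfsg.pCore p G)
    (hA2 : ⁅A, A⁆ ≤ Subgroup.centralizer (A : Set G))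
    (hA3 : ⁅Cfsg.pCore p G, A⁆ ≤ A ⊓ Subgroup.centralizer (A : Set G))
    (Q B : Subgroup G) (hAQ : A ≤ Q) (hB : B ∈ Cfsg.kLowerStarFamily Q)
    (hZBT : B ⊓ Subgroup.centralizer (B : Set G) ≤ Cfsg.pCore p G) {g : G} (hgB : g ∈ B) :
    (∃ U V : Subgroup G, Cfsg.IsChiefFactor U V ∧ U ≤ A ∧
        ⁅⁅U, Subgroup.zpowers g⁆, Subgroup.zpowers g⁆ ≤ V ∧ ¬ ⁅U, Subgroup.zpowers g⁆ ≤ V) ∨
      (∀ U V : Subgroup G, Cfsg.IsChiefFactor U V → U ≤ A →
        ⁅⁅U, Subgroup.zpowers g⁆, Subgroup.zpowers g⁆ ≤ V) := by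
  haveI hTn : (Cfsg.pCore p G).Normal := Cfsg.Agent.helper1.pCore_normal p
  have hTp : IsPGroup p ↥(Cfsg.pCore p G) := Cfsg.Agent.helper1.pCore_isPGroup p
  have hAp : IsPGroup p ↥A := hTp.to_le hAT
  obtain ⟨As, hAsA, hBAs, hN₀As, hq1, hq2, hqU⟩ :=
    even_Astar A (Cfsg.pCore p G) hA2 hA3 Q B hAQ hB hZBT
  haveI hUn : (⁅A, A⁆ : Subgroup G).Normal := inferInstance
  have hUA : ⁅A, A⁆ ≤ A := Subgroup.commutator_le_left A A
  have hUp : IsPGroup p ↥(⁅A, A⁆ : Subgroup G) := hAp.to_le hUA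
  by_cases hgP : g ∈ chiefCent (⁅A, A⁆ : Subgroup G)
  swap
  · left
    rw [mem_chiefCent] at hgP
    push Not at hgP
    obtain ⟨U, V, hUV, hUU, u, hu, hug⟩ := hgP
    refine ⟨U, V, hUV, le_trans hUU hUA, ?_, ?_⟩
    · refine le_trans (Subgroup.commutator_mono (Subgroup.commutator_mono hUU le_rfl) le_rfl) ?_
      rw [hqU g hgB]; exact bot_le
    · intro hle
      exact hug (hle (Subgroup.commutator_mem_commutator hu (Subgroup.mem_zpowers g)))
  · right
    intro U V hUV hUA'
    have hUn' : U.Normal := hUV.2.1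
    haveI hVn : V.Normal := hUV.2.2.1
    haveI hN₀n : (Subgroup.centralizer ((⁅A, A⁆ : Subgroup G) : Set G)).Normal := inferInstance
    haveI hP₁n : (chiefCent (⁅A, A⁆ : Subgroup G)).Normal := chiefCent_normal _
    have hsurj := QuotientGroup.mk'_surjective V
    -- the module
    have hMab := map_mk_abelian_of_comm_le
      (chief_commutator_le (Cfsg.pCore p G) hTp U V hUV (le_trans hUA' hAT))
    have hMmin := isMinInv_top_of_chief hUV
    have hgen_top : U.map (QuotientGroup.mk' V) ≤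
        sSup {W : Subgroup (G ⧸ V) | W ≤ U.map (QuotientGroup.mk' V) ∧
          IsMinInv (⊤ : Subgroup (G ⧸ V)) W} := le_sSup ⟨le_rfl, hMmin⟩
    haveI hP₁mn : ((chiefCent (⁅A, A⁆ : Subgroup G)).map (QuotientGroup.mk' V)).Normal :=
      hP₁n.map _ hsurj
    haveI hN₀mn : ((Subgroup.centralizer ((⁅A, A⁆ : Subgroup G) : Set G)).map
        (QuotientGroup.mk' V)).Normal := hN₀n.map _ hsurj
    have hgenP := gen_isMinInv_step (L := (⊤ : Subgroup (G ⧸ V)))
      (H := (chiefCent (⁅A, A⁆ : Subgroup G)).map (QuotientGroup.mk' V)) le_top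
      (by rw [Subgroup.normalizer_eq_top]) hgen_top
    have hpq : ∀ x ∈ (chiefCent (⁅A, A⁆ : Subgroup G)).map (QuotientGroup.mk' V),
        ∃ k : ℕ, x ^ (p ^ k) ∈ (Subgroup.centralizer ((⁅A, A⁆ : Subgroup G) : Set G)).map
          (QuotientGroup.mk' V) := by
      rintro _ ⟨x, hx, rfl⟩
      obtain ⟨k, hk⟩ := chiefCent_pquot (⁅A, A⁆ : Subgroup G) hUp x hx
      exact ⟨k, ⟨x ^ (p ^ k), hk, by rw [map_pow]⟩⟩
    have hgenH := gen_isMinInv_of_pquot (p := p)
      (N := (Subgroup.centralizer ((⁅A, A⁆ : Subgroup G) : Set G)).map (QuotientGroup.mk' V))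
      (P := (chiefCent (⁅A, A⁆ : Subgroup G)).map (QuotientGroup.mk' V))
      (by rw [Subgroup.normalizer_eq_top]; exact le_top) hpq hgenP
      ((Subgroup.centralizer ((⁅A, A⁆ : Subgroup G) : Set G) ⊔ Subgroup.zpowers g).map
        (QuotientGroup.mk' V))
      (Subgroup.map_mono le_sup_left)
      (Subgroup.map_mono (sup_le (centralizer_le_chiefCent _)
        (by rw [Subgroup.zpowers_le]; exact hgP)))
    -- the invariant subgroup E
    have hHnorm : Subgroup.centralizer ((⁅A, A⁆ : Subgroup G) : Set G) ⊔ Subgroup.zpowers g ≤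
        Subgroup.normalizer ((U ⊓ As : Subgroup G) : Set G) := by
      refine le_trans (le_inf ?_ ?_) Subgroup.inf_normalizer_le_normalizer_inf
      · haveI := hUn'
        rw [Subgroup.normalizer_eq_top]; exact le_top
      · exact sup_le hN₀As (by rw [Subgroup.zpowers_le]; exact hBAs hgB)
    have hHE : (Subgroup.centralizer ((⁅A, A⁆ : Subgroup G) : Set G) ⊔ Subgroup.zpowers g).map
        (QuotientGroup.mk' V) ≤
        Subgroup.normalizer (((U ⊓ As).map (QuotientGroup.mk' V) : Subgroup (G ⧸ V)) :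
          Set (G ⧸ V)) :=
      le_trans (Subgroup.map_mono hHnorm) (Subgroup.le_normalizer_map _)
    have hquad := quadratic_of_semisimple (H := (Subgroup.centralizer
        ((⁅A, A⁆ : Subgroup G) : Set G) ⊔ Subgroup.zpowers g).map (QuotientGroup.mk' V))
      (M := U.map (QuotientGroup.mk' V)) (E := (U ⊓ As).map (QuotientGroup.mk' V))
      (K := (Subgroup.zpowers g).map (QuotientGroup.mk' V)) hMab hgenH
      (Subgroup.map_mono inf_le_left) hHE (Subgroup.map_mono le_sup_right)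
      (by
        rw [← Subgroup.map_commutator, ← Subgroup.map_commutator, eq_bot_iff]
        have h1 : ⁅⁅U ⊓ As, Subgroup.zpowers g⁆, Subgroup.zpowers g⁆ ≤ ⊥ := by
          rw [← hq1 g hgB]
          exact Subgroup.commutator_mono (Subgroup.commutator_mono inf_le_right le_rfl) le_rfl
        refine le_trans (Subgroup.map_mono h1) ?_
        rw [Subgroup.map_bot])
      (by
        rw [← Subgroup.map_commutator, ← Subgroup.map_commutator]
        apply Subgroup.map_mono
        refine le_inf ?_ ?_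
        · haveI := hUn'
          exact le_trans (Subgroup.commutator_mono (Subgroup.commutator_le_left U _) le_rfl)
            (Subgroup.commutator_le_left U _)
        · exact le_trans
            (Subgroup.commutator_mono (Subgroup.commutator_mono hUA' le_rfl) le_rfl)
            (hq2 g hgB))
    rw [← Subgroup.map_commutator, ← Subgroup.map_commutator] at hquad
    exact le_of_map_mk_eq_bot hquad

end main

section evenall

variable {G : Type u} [Group G]

/-- Every element of a member `B` of the lower-star family (relative to a subgroup containing the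
normal class-two subgroup `A`) acts cubically on `A` and quadratically on `Z(A)`. -/
theorem kcase_even_all {A : Subgroup G} [hAn : A.Normal]
    {O B : Subgroup G} (hAO : A ≤ O) (hB : B ∈ Cfsg.kLowerStarFamily O) {g : G} (hgB : g ∈ B) :
    Cfsg.iterCommutator A (Subgroup.zpowers g) 3 = ⊥ ∧
      ⁅⁅A ⊓ Subgroup.centralizer (A : Set G), Subgroup.zpowers g⁆, Subgroup.zpowers g⁆ = ⊥ := by
  have hzg : Subgroup.zpowers g ≤ B := by rw [Subgroup.zpowers_le]; exact hgB
  haveI hZn : (A ⊓ Subgroup.centralizer (A : Set G)).Normal := inf_centralizer_normal A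
  have hZab : A ⊓ Subgroup.centralizer (A : Set G) ≤
      Subgroup.centralizer ((A ⊓ Subgroup.centralizer (A : Set G) : Subgroup G) : Set G) :=
    inf_centralizer_abelian A
  obtain ⟨hB2, hOB, hprop⟩ := hB
  have hZZ : ⁅A ⊓ Subgroup.centralizer (A : Set G), A ⊓ Subgroup.centralizer (A : Set G)⁆ = ⊥ :=
    Subgroup.commutator_eq_bot_iff_le_centralizer.mpr hZab
  have h1 : ⁅B, A ⊓ Subgroup.centralizer (A : Set G)⁆ ≤ B ⊓ Subgroup.centralizer (B : Set G) := by
    apply hprop _ (abelian_classTwo hZab) (le_trans inf_le_left hAO)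
    · rw [Subgroup.normalizer_eq_top]; exact le_top
    · rw [hZZ, Subgroup.commutator_bot_right]
    · have : ⁅B ⊓ Subgroup.centralizer (B : Set G), A ⊓ Subgroup.centralizer (A : Set G)⁆ ≤
          A ⊓ Subgroup.centralizer (A : Set G) := Subgroup.commutator_le_right _ _
      rw [eq_bot_iff, ← hZZ]
      exact Subgroup.commutator_mono this le_rfl
  have h2 : ⁅⁅A ⊓ Subgroup.centralizer (A : Set G), B⁆, B⁆ = ⊥ := by
    apply commutator_commutator_eq_bot_of_le_centralizer
    rw [Subgroup.commutator_comm]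
    exact le_trans h1 inf_le_right
  refine ⟨?_, ?_⟩
  · have hAB : ⁅A, B⁆ ≤ B := commutator_le_of_le_normalizer (le_trans hAO hOB)
    have e1 : Cfsg.iterCommutator A (Subgroup.zpowers g) 3 ≤ ⁅⁅⁅A, B⁆, B⁆, B⁆ := by
      show ⁅⁅⁅A, Subgroup.zpowers g⁆, Subgroup.zpowers g⁆, Subgroup.zpowers g⁆ ≤ _
      exact Subgroup.commutator_mono
        (Subgroup.commutator_mono (Subgroup.commutator_mono le_rfl hzg) hzg) hzg
    have e2 : ⁅⁅⁅A, B⁆, B⁆, B⁆ ≤ ⁅⁅B, B⁆, B⁆ :=
      Subgroup.commutator_mono (Subgroup.commutator_mono hAB le_rfl) le_rfl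
    rw [classTwo_triple hB2] at e2
    exact le_bot_iff.mp (le_trans e1 e2)
  · rw [eq_bot_iff, ← h2]
    exact Subgroup.commutator_mono (Subgroup.commutator_mono le_rfl hzg) hzg

end evenall

end Cfsg.Agent.helper10
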