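import Mathlib

set_option autoImplicit false

namespace Cfsg.Agent.helper10

open Matrix

/-- arithmetic core of the odd-automorphism design argument -/
theorem oddaut_arith (n k q l c d : ℤ) (m : ℕ) (hm : Odd m) (hn : 2 ≤ n) (hk1 : 1 ≤ k)
    (hkn : k ≤ n - 1) (hcop : IsCoprime k n) (hq0 : 0 ≤ q) (hl0 : 0 ≤ l) (hql : q + l = k)
    (hqn : q + l * n = k ^ 2) (hc : c ^ 2 = q ^ m) (hd : c + d * n = k ^ m) :
    k = 1 ∨ k = n - 1 := by
  obtain ⟨j, rfl⟩ := hm
  have hqpos : 0 < q := by
    rcases hq0.lt_or_eq with h | h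
    · exact h
    · exfalso
      have hq : q = 0 := h.symm
      subst hq
      have hlk : l = k := by linarith
      subst hlk
      have h1 : l * (n - l) = 0 := by nlinarith
      rcases mul_eq_zero.mp h1 with h2 | h2
      · omega
      · omega
  have hsq : (q ^ j) ^ 2 ∣ c ^ 2 := by
    rw [hc]; exact ⟨q, by ring⟩
  have hdv : q ^ j ∣ c := (Int.pow_dvd_pow_iff (by norm_num)).mp hsq
  obtain ⟨t, ht⟩ := hdv
  have hqj : q ^ j ≠ 0 := pow_ne_zero _ hqpos.ne'
  have htq : t ^ 2 = q := by
    have h1 : (q ^ j) ^ 2 * t ^ 2 = (q ^ j) ^ 2 * q := by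
      have h2 : c ^ 2 = (q ^ j) ^ 2 * t ^ 2 := by rw [ht]; ring
      rw [← h2, hc]; ring
    exact mul_left_cancel₀ (pow_ne_zero 2 hqj) h1
  have hct : c = t ^ (2 * j + 1) := by
    rw [ht, ← htq]; ring
  have hkt : k ^ 2 - t ^ 2 = n * l := by rw [htq]; linarith
  have h1 : n ∣ (k ^ 2) ^ j - (t ^ 2) ^ j :=
    dvd_trans ⟨l, hkt⟩ (sub_dvd_pow_sub_pow (k ^ 2) (t ^ 2) j)
  have h2 : n ∣ k ^ (2 * j + 1) - t ^ (2 * j + 1) := ⟨d, by rw [← hd, hct]; ring⟩
  have h3 : (k - t) * t ^ (2 * j) =
      (k ^ (2 * j + 1) - t ^ (2 * j + 1)) - k * ((k ^ 2) ^ j - (t ^ 2) ^ j) := by ring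
  have h4 : n ∣ (k - t) * t ^ (2 * j) := by
    rw [h3]; exact dvd_sub h2 (Dvd.dvd.mul_left h1 k)
  have hcop2 : IsCoprime (t ^ 2) n := by
    have h5 : IsCoprime (k ^ 2) n := hcop.pow_left
    have h6 : k ^ 2 = t ^ 2 + l * n := by rw [htq]; linarith
    rw [h6] at h5
    exact h5.of_add_mul_right_left
  have hcop3 : IsCoprime t n := (IsCoprime.pow_left_iff (by norm_num)).mp hcop2
  have hcop4 : IsCoprime n (t ^ (2 * j)) := (hcop3.pow_left).symm
  have h7 : n ∣ k - t := hcop4.dvd_of_dvd_mul_right h4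
  obtain ⟨e, he⟩ := h7
  have hqk : q ≤ k := by linarith
  have ht1 : t ≤ k := by nlinarith
  have ht2 : -k ≤ t := by nlinarith
  have he0 : 0 ≤ e := by
    by_contra hneg
    push_neg at hneg
    have : n * e ≤ n * (-1) := by
      apply mul_le_mul_of_nonneg_left _ (by linarith)
      linarith
    linarith
  have he2 : e < 2 := by
    by_contra hge
    push_neg at hge
    have : n * 2 ≤ n * e := by
      apply mul_le_mul_of_nonneg_left hge (by linarith)
    linarith
  have he01 : e = 0 ∨ e = 1 := by omega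
  rcases he01 with h | h
  · left
    subst h
    have htk : t = k := by linarith
    rw [htk] at htq
    have : k ^ 2 ≤ k := by rw [htq]; exact hqk
    nlinarith
  · right
    subst h
    have htk : t = k - n := by linarith
    have hq' : q = (n - k) ^ 2 := by rw [← htq, htk]; ring
    have hl' : l = k - (n - k) ^ 2 := by linarith
    have hE : (n - k) * n * (1 - (n - k)) = 0 := by
      have : q + l * n - k ^ 2 = 0 := by linarith
      rw [hq', hl'] at this
      linear_combination this
    rcases mul_eq_zero.mp hE with h8 | h8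
    · rcases mul_eq_zero.mp h8 with h9 | h9
      · omega
      · omega
    · omega

/-- the design computation: a square 0/1 matrix with constant line sums `k`, with `N Nᵀ` and an odd
power `N^m` both of the form `a I + b J`, and `k` coprime to the size `n`, has `k = 1` or `k = n-1` -/
theorem oddaut_design {Ω : Type*} [Fintype Ω] [DecidableEq Ω] (N : Matrix Ω Ω ℤ) (k : ℤ) (m : ℕ)
    (hm : Odd m) (hn : 2 ≤ Fintype.card Ω) (h01 : ∀ x y, N x y = 0 ∨ N x y = 1)
    (hrow : ∀ x, ∑ y, N x y = k) (hcol : ∀ y, ∑ x, N x y = k)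
    (hNNt : ∃ a l : ℤ, ∀ x x', (N * Nᵀ) x x' = if x = x' then a else l)
    (hM : ∃ e d : ℤ, ∀ x x', (N ^ m) x x' = if x = x' then e else d)
    (hk1 : 1 ≤ k) (hkn : k ≤ (Fintype.card Ω : ℤ) - 1)
    (hcop : IsCoprime k (Fintype.card Ω : ℤ)) :
    k = 1 ∨ k = (Fintype.card Ω : ℤ) - 1 := by
  set n : ℤ := (Fintype.card Ω : ℤ) with hndef
  have hnt : Nontrivial Ω := Fintype.one_lt_card_iff_nontrivial.mp (by omega)
  obtain ⟨x0, x1, hx01⟩ := exists_pair_ne Ω
  set J : Matrix Ω Ω ℤ := Matrix.of fun _ _ => (1 : ℤ) with hJ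
  have hJapp : ∀ x y, J x y = 1 := fun x y => rfl
  have hJJ : J * J = n • J := by
    ext x y
    simp [Matrix.mul_apply, hJapp, hndef]
  have hNJ : N * J = k • J := by
    ext x y
    simp [Matrix.mul_apply, hJapp, hrow x]
  have hJNt : J * Nᵀ = k • J := by
    ext x y
    simp [Matrix.mul_apply, hJapp, Matrix.transpose_apply, hrow y]
  have hNtJ : Nᵀ * J = k • J := by
    ext x y
    simp [Matrix.mul_apply, hJapp, Matrix.transpose_apply, hcol x]
  obtain ⟨a, l, hal⟩ := hNNt
  have hsq : ∀ x y, N x y * N x y = N x y := by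
    intro x y
    rcases h01 x y with h | h <;> simp [h]
  have ha : a = k := by
    have h1 := hal x0 x0
    simp only [if_true] at h1
    rw [← h1, Matrix.mul_apply]
    simp only [Matrix.transpose_apply, hsq]
    exact hrow x0
  have hlval : l = ∑ y, N x0 y * N x1 y := by
    have h1 := hal x0 x1
    simp only [if_neg hx01] at h1
    rw [← h1, Matrix.mul_apply]
    simp only [Matrix.transpose_apply]
  have hN0 : ∀ x y, 0 ≤ N x y := by
    intro x y
    rcases h01 x y with h | h <;> simp [h]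
  have hN1 : ∀ x y, N x y ≤ 1 := by
    intro x y
    rcases h01 x y with h | h <;> simp [h]
  have hl0 : 0 ≤ l := by
    rw [hlval]
    exact Finset.sum_nonneg (fun y _ => mul_nonneg (hN0 x0 y) (hN0 x1 y))
  have hlk : l ≤ k := by
    rw [hlval, ← hrow x0]
    apply Finset.sum_le_sum
    intro y _
    have := hN1 x1 y
    have := hN0 x0 y
    nlinarith
  set q : ℤ := k - l with hq
  have hNNt' : N * Nᵀ = q • (1 : Matrix Ω Ω ℤ) + l • J := by
    ext x x'
    rw [hal x x']
    simp only [Matrix.add_apply, Matrix.smul_apply, Matrix.one_apply, hJapp, smul_eq_mul]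
    by_cases h : x = x'
    · subst h
      simp only [if_true]
      rw [ha, hq]; ring
    · simp only [if_neg h]
      ring
  have hqn : q + l * n = k ^ 2 := by
    have h1 : (N * Nᵀ) * J = (k * k) • J := by
      rw [Matrix.mul_assoc, hNtJ, Matrix.mul_smul, hNJ, smul_smul]
    have h2 : (N * Nᵀ) * J = (q + l * n) • J := by
      rw [hNNt', Matrix.add_mul, Matrix.smul_mul, Matrix.smul_mul, Matrix.one_mul, hJJ,
        smul_smul, ← add_smul]
    have h3 := congrFun (congrFun (h1.symm.trans h2) x0) x0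
    simp only [Matrix.smul_apply, hJapp, smul_eq_mul, mul_one] at h3
    linarith [h3, sq k]
  have hpow : ∀ j : ℕ, ∃ e : ℤ, N ^ j * (Nᵀ) ^ j = (q ^ j) • (1 : Matrix Ω Ω ℤ) + e • J := by
    intro j
    induction j with
    | zero => exact ⟨0, by simp⟩
    | succ j ih =>
      obtain ⟨e, he⟩ := ih
      refine ⟨q ^ j * l + e * (k * k), ?_⟩
      have h1 : N ^ (j + 1) * (Nᵀ) ^ (j + 1) = N * (N ^ j * (Nᵀ) ^ j) * Nᵀ := by
        rw [pow_succ' N j, pow_succ (Nᵀ) j]
        simp only [Matrix.mul_assoc]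
      rw [h1, he, Matrix.mul_add, Matrix.add_mul, Matrix.mul_smul, Matrix.mul_smul,
        Matrix.smul_mul, Matrix.smul_mul, Matrix.mul_one, hNJ, Matrix.smul_mul, hJNt, hNNt']
      ext x y
      simp only [Matrix.add_apply, Matrix.smul_apply, Matrix.one_apply, hJapp, smul_eq_mul]
      split_ifs <;> ring
  have hpowJ : ∀ j : ℕ, N ^ j * J = (k ^ j) • J := by
    intro j
    induction j with
    | zero => simp
    | succ j ih =>
      rw [pow_succ N j, Matrix.mul_assoc, hNJ, Matrix.mul_smul, ih, smul_smul, pow_succ]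
      congr 1
      ring
  obtain ⟨e, d, hed⟩ := hM
  set c : ℤ := e - d with hcdef
  have hMform : N ^ m = c • (1 : Matrix Ω Ω ℤ) + d • J := by
    ext x x'
    rw [hed x x']
    simp only [Matrix.add_apply, Matrix.smul_apply, Matrix.one_apply, hJapp, smul_eq_mul]
    by_cases h : x = x'
    · subst h
      simp only [if_true]
      rw [hcdef]; ring
    · simp only [if_neg h]
      ring
  have hMt : (Nᵀ) ^ m = c • (1 : Matrix Ω Ω ℤ) + d • J := by
    rw [← Matrix.transpose_pow, hMform]
    ext x x'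
    simp only [Matrix.transpose_apply, Matrix.add_apply, Matrix.smul_apply, Matrix.one_apply,
      hJapp, smul_eq_mul]
    by_cases h : x = x'
    · subst h; simp
    · have h' : ¬ x' = x := fun hh => h hh.symm
      simp [h, h']
  obtain ⟨E, hE⟩ := hpow m
  rw [hMform, hMt] at hE
  have hexp : (c • (1 : Matrix Ω Ω ℤ) + d • J) * (c • (1 : Matrix Ω Ω ℤ) + d • J) =
      (c * c) • (1 : Matrix Ω Ω ℤ) + (2 * c * d + d * d * n) • J := by
    rw [Matrix.mul_add, Matrix.add_mul, Matrix.add_mul, Matrix.smul_mul, Matrix.smul_mul,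
      Matrix.smul_mul, Matrix.smul_mul, Matrix.mul_smul, Matrix.mul_smul, Matrix.mul_smul,
      Matrix.mul_smul, Matrix.one_mul, Matrix.one_mul, Matrix.mul_one, hJJ]
    ext x y
    simp only [Matrix.add_apply, Matrix.smul_apply, Matrix.one_apply, hJapp, smul_eq_mul]
    split_ifs <;> ring
  rw [hexp] at hE
  have hE0 := congrFun (congrFun hE x0) x0
  have hE1 := congrFun (congrFun hE x0) x1
  simp only [Matrix.add_apply, Matrix.smul_apply, Matrix.one_apply, hJapp, smul_eq_mul,
    if_true, if_neg hx01, mul_one, mul_zero, zero_add] at hE0 hE1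
  have hc2 : c ^ 2 = q ^ m := by nlinarith
  have hrowM : c + d * n = k ^ m := by
    have h1 := hpowJ m
    rw [hMform, Matrix.add_mul, Matrix.smul_mul, Matrix.smul_mul, Matrix.one_mul, hJJ,
      smul_smul, ← add_smul] at h1
    have h2 := congrFun (congrFun h1 x0) x0
    simp only [Matrix.smul_apply, hJapp, smul_eq_mul, mul_one] at h2
    exact h2
  have hn2 : (2 : ℤ) ≤ n := by rw [hndef]; exact_mod_cast hn
  exact oddaut_arith n k q l c d m hm hn2 hk1 hkn hcop (by rw [hq]; linarith) hl0
    (by rw [hq]; ring) hqn hc2 hrowM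

end Cfsg.Agent.helper10

namespace Cfsg.Agent.helper10

open Matrix

/-- a matrix invariant under the diagonal action of a 2-transitive group has the form `e I + d J` -/
theorem oddaut_two_homog {Ω : Type*} [Fintype Ω] [DecidableEq Ω] (G : Subgroup (Equiv.Perm Ω))
    (h2 : MulAction.IsMultiplyPretransitive G Ω 2) (A : Matrix Ω Ω ℤ)
    (hinv : ∀ (g : G) (x y : Ω), A (g • x) (g • y) = A x y) (x0 x1 : Ω) (hx : x0 ≠ x1) :
    ∃ e d : ℤ, ∀ x x' : Ω, A x x' = if x = x' then e else d := by
  haveI := h2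
  haveI htr : MulAction.IsPretransitive G Ω := MulAction.isPretransitive_of_is_two_pretransitive
  have h2' : ∀ (a b c d : Ω), a ≠ b → c ≠ d → ∃ g : G, g • a = c ∧ g • b = d :=
    fun a b c d hab hcd => MulAction.is_two_pretransitive_iff.mp h2 hab hcd
  refine ⟨A x0 x0, A x0 x1, ?_⟩
  intro x x'
  by_cases h : x = x'
  · subst h
    simp only [if_true]
    obtain ⟨g, hg⟩ := MulAction.exists_smul_eq G x0 x
    rw [← hg, hinv]
  · simp only [if_neg h]
    obtain ⟨g, hg1, hg2⟩ := h2' _ _ _ _ hx h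
    rw [← hg1, ← hg2, hinv]

/-- main combinatorial statement: the orbit length is `1` or `n - 1` -/
theorem oddaut_main {Ω : Type*} [Fintype Ω] (G : Subgroup (Equiv.Perm Ω))
    (h2 : MulAction.IsMultiplyPretransitive G Ω 2) (o : Ω) (α : MulAut G)
    (hα : Odd (orderOf α)) (ω : Ω)
    (hk : (Nat.card (MulAction.orbit ((MulAction.stabilizer G o).map α.toMonoidHom) ω)).Coprime
      (Fintype.card Ω)) :
    Nat.card (MulAction.orbit ((MulAction.stabilizer G o).map α.toMonoidHom) ω) = 1 ∨
    Nat.card (MulAction.orbit ((MulAction.stabilizer G o).map α.toMonoidHom) ω) =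
      Fintype.card Ω - 1 := by
  classical
  haveI := h2
  haveI htr : MulAction.IsPretransitive G Ω := MulAction.isPretransitive_of_is_two_pretransitive
  set H' : Subgroup G := (MulAction.stabilizer G o).map α.toMonoidHom with hH'
  set Δ : Set Ω := MulAction.orbit H' ω with hΔ
  set k : ℕ := Nat.card Δ with hkdef
  -- basic facts on k
  have hkcard : k = (Finset.univ.filter (fun x => x ∈ Δ)).card := by
    rw [hkdef, Nat.card_eq_fintype_card, Fintype.card_subtype]
  have hωΔ : ω ∈ Δ := MulAction.mem_orbit_self ω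
  have hk1 : 1 ≤ k := by
    rw [hkcard]
    exact Finset.card_pos.mpr ⟨ω, by simp [hωΔ]⟩
  have hkn : k ≤ Fintype.card Ω := by
    rw [hkcard]
    exact Finset.card_le_univ _
  by_cases hn : Fintype.card Ω ≤ 1
  · left
    omega
  push_neg at hn
  have hn2 : 2 ≤ Fintype.card Ω := hn
  have hkn1 : k ≤ Fintype.card Ω - 1 := by
    by_contra hcon
    have hkeq : k = Fintype.card Ω := by omega
    rw [hkeq, Nat.coprime_self] at hk
    omega
  -- invariance of Δ under H'
  have F1 : ∀ u : G, u ∈ H' → ∀ x, x ∈ Δ → u • x ∈ Δ := by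
    intro u hu x hx
    obtain ⟨v, rfl⟩ := hx
    refine ⟨⟨u, hu⟩ * v, ?_⟩
    simp only [mul_smul]
    rfl
  -- the incidence relation
  let rel : Ω → Ω → Prop := fun x y => ∃ h : G, h • o = y ∧ (α h)⁻¹ • x ∈ Δ
  have rel_inv1 : ∀ (g : G) (x y : Ω), rel x y → rel ((α g) • x) (g • y) := by
    rintro g x y ⟨h, hy, hx⟩
    refine ⟨g * h, by rw [mul_smul, hy], ?_⟩
    rw [map_mul, _root_.mul_inv_rev, mul_smul, inv_smul_smul]
    exact hx
  have rel_inv : ∀ (g : G) (x y : Ω), rel ((α g) • x) (g • y) ↔ rel x y := by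
    intro g x y
    constructor
    · intro h
      have := rel_inv1 g⁻¹ _ _ h
      rwa [map_inv, inv_smul_smul, inv_smul_smul] at this
    · exact rel_inv1 g x y
  have rel_o : ∀ x, rel x o ↔ x ∈ Δ := by
    intro x
    constructor
    · rintro ⟨h, ho, hx⟩
      have hmem : α h ∈ H' := Subgroup.mem_map_of_mem _ (MulAction.mem_stabilizer_iff.mpr ho)
      have := F1 (α h) hmem _ hx
      rwa [smul_inv_smul] at this
    · intro hx
      exact ⟨1, one_smul _ _, by simpa using hx⟩
  set N : Matrix Ω Ω ℤ := Matrix.of fun x y => if rel x y then (1 : ℤ) else 0 with hN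
  have hNapp : ∀ x y, N x y = if rel x y then (1 : ℤ) else 0 := fun x y => rfl
  have hinvN : ∀ (g : G) (x y : Ω), N ((α g) • x) (g • y) = N x y := by
    intro g x y
    rw [hNapp, hNapp]
    simp only [rel_inv]
  have h01 : ∀ x y, N x y = 0 ∨ N x y = 1 := by
    intro x y
    rw [hNapp]
    split_ifs
    · right; rfl
    · left; rfl
  -- power invariance
  have hpowinv : ∀ (j : ℕ) (g : G),
      (N ^ j).submatrix (MulAction.toPerm ((α ^ j) g) : Ω → Ω) (MulAction.toPerm g : Ω → Ω) =
        N ^ j := by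
    intro j
    induction j with
    | zero =>
      intro g
      simp only [pow_zero, MulAut.one_apply]
      exact Matrix.submatrix_one_equiv _
    | succ j ih =>
      intro g
      have h1 : (α ^ (j + 1)) g = (α ^ j) (α g) := by
        rw [pow_succ, MulAut.mul_apply]
      rw [h1, pow_succ N j,
        ← Matrix.submatrix_mul_equiv (N ^ j) N _ (MulAction.toPerm (α g)) _, ih (α g)]
      congr 1
      ext x y
      simp only [Matrix.submatrix_apply, MulAction.toPerm_apply]
      exact hinvN g x y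
  set m : ℕ := orderOf α with hm
  have hMinv : ∀ (g : G) (x y : Ω), (N ^ m) (g • x) (g • y) = (N ^ m) x y := by
    intro g x y
    have h1 := hpowinv m g
    have h2 : (α ^ m) g = g := by
      rw [hm, pow_orderOf_eq_one, MulAut.one_apply]
    rw [h2] at h1
    have h3 := congrFun (congrFun h1 x) y
    simpa only [Matrix.submatrix_apply, MulAction.toPerm_apply] using h3
  have hnt : Nontrivial Ω := Fintype.one_lt_card_iff_nontrivial.mp (by omega)
  obtain ⟨x0, x1, hx01⟩ := exists_pair_ne Ω
  have hM := oddaut_two_homog G h2 (N ^ m) hMinv x0 x1 hx01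
  -- N Nᵀ invariance
  have hNNtinv : ∀ (g : G) (x y : Ω), (N * Nᵀ) (g • x) (g • y) = (N * Nᵀ) x y := by
    intro g' x y
    obtain ⟨g, rfl⟩ := α.surjective g'
    simp only [Matrix.mul_apply, Matrix.transpose_apply]
    rw [← Equiv.sum_comp (MulAction.toPerm g)]
    apply Finset.sum_congr rfl
    intro z _
    simp only [MulAction.toPerm_apply]
    rw [hinvN, hinvN]
  have hNNt := oddaut_two_homog G h2 (N * Nᵀ) hNNtinv x0 x1 hx01
  -- column sums
  have hcolinv : ∀ (g : G) (y : Ω), ∑ x, N x (g • y) = ∑ x, N x y := by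
    intro g y
    rw [← Equiv.sum_comp (MulAction.toPerm (α g))]
    apply Finset.sum_congr rfl
    intro z _
    simp only [MulAction.toPerm_apply]
    exact hinvN g z y
  have hcol_o : ∑ x, N x o = (k : ℤ) := by
    rw [hkcard]
    simp only [hNapp, rel_o]
    rw [Finset.sum_boole]
  have hcol : ∀ y, ∑ x, N x y = (k : ℤ) := by
    intro y
    obtain ⟨g, hg⟩ := MulAction.exists_smul_eq G o y
    rw [← hg, hcolinv, hcol_o]
  -- row sums
  have hrowinv : ∀ (g : G) (x : Ω), ∑ y, N (g • x) y = ∑ y, N x y := by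
    intro g' x
    obtain ⟨g, rfl⟩ := α.surjective g'
    rw [← Equiv.sum_comp (MulAction.toPerm g)]
    apply Finset.sum_congr rfl
    intro z _
    simp only [MulAction.toPerm_apply]
    exact hinvN g x z
  have hrowconst : ∀ x, ∑ y, N x y = ∑ y, N o y := by
    intro x
    obtain ⟨g, hg⟩ := MulAction.exists_smul_eq G o x
    rw [← hg, hrowinv]
  have hrow : ∀ x, ∑ y, N x y = (k : ℤ) := by
    have htot : ∑ x, ∑ y, N x y = ∑ y, ∑ x, N x y := Finset.sum_comm
    simp only [hcol] at htot
    rw [Finset.sum_congr rfl (fun x _ => hrowconst x)] at htot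
    simp only [Finset.sum_const, Finset.card_univ, nsmul_eq_mul] at htot
    have hpos : ((Fintype.card Ω : ℕ) : ℤ) ≠ 0 := by
      have : 0 < Fintype.card Ω := by omega
      exact_mod_cast this.ne'
    have hr0 : ∑ y, N o y = (k : ℤ) := mul_left_cancel₀ hpos htot
    intro x
    rw [hrowconst x, hr0]
  have hcop : IsCoprime (k : ℤ) (Fintype.card Ω : ℤ) := Nat.isCoprime_iff_coprime.mpr hk
  have hres := oddaut_design N (k : ℤ) m hα hn2 h01 hrow hcol hNNt hM (by exact_mod_cast hk1)
    (by
      have : (k : ℤ) ≤ ((Fintype.card Ω - 1 : ℕ) : ℤ) := by exact_mod_cast hkn1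
      rw [Nat.cast_sub (by omega)] at this
      simpa using this) hcop
  rcases hres with h | h
  · left
    exact_mod_cast h
  · right
    have : (k : ℤ) = ((Fintype.card Ω - 1 : ℕ) : ℤ) := by
      rw [Nat.cast_sub (by omega)]
      simpa using h
    exact_mod_cast this

end Cfsg.Agent.helper10
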