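import Mathlib
import Cfsg.Prelude.Def_LocalStructure
import Cfsg.Agent.Lib_helper7_SN
import Cfsg.Agent.Lib_helper7_Comp
import Cfsg.Agent.Lib_helper7_Cores
import Cfsg.Agent.Lib_helper7_Fitting
import Cfsg.Agent.Lib_helper7_Local
import Cfsg.Agent.Lib_helper14_SPE
import Cfsg.Agent.Lib_helper14_PIrr

set_option autoImplicit false
open Cfsg
open scoped commutatorElement

namespace Cfsg.Agent.helper14

open Cfsg.Agent.helper7

variable {G : Type*} [Group G]

/-- Ambient `O^p(K)`: generated by the `p'`-elements of `K`. -/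
def opOf (p : ℕ) (K : Subgroup G) : Subgroup G :=
  Subgroup.closure {g : G | g ∈ K ∧ (orderOf g).Coprime p}

theorem map_pResidual_eq_opOf (p : ℕ) (K : Subgroup G) :
    (Cfsg.pResidual p ↥K).map K.subtype = opOf p K := by
  unfold Cfsg.pResidual opOf
  rw [MonoidHom.map_closure]
  congr 1
  ext g
  constructor
  · rintro ⟨y, hy, rfl⟩
    show (y : G) ∈ K ∧ (orderOf (y : G)).Coprime p
    rw [Subgroup.orderOf_coe]
    exact ⟨y.2, hy⟩
  · rintro ⟨hg, hco⟩
    refine ⟨⟨g, hg⟩, ?_, rfl⟩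
    show (orderOf (⟨g, hg⟩ : K)).Coprime p
    rw [Subgroup.orderOf_mk]
    exact hco

theorem opOf_le (p : ℕ) (K : Subgroup G) : opOf p K ≤ K := by
  unfold opOf
  rw [Subgroup.closure_le]
  exact fun g hg => hg.1

theorem opOf_mono (p : ℕ) {K M : Subgroup G} (h : K ≤ M) : opOf p K ≤ opOf p M := by
  unfold opOf
  apply Subgroup.closure_mono
  exact fun g hg => ⟨h hg.1, hg.2⟩

theorem mem_opOf_of_coprime {p : ℕ} {K : Subgroup G} {g : G} (hg : g ∈ K)
    (hco : (orderOf g).Coprime p) : g ∈ opOf p K :=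
  Subgroup.subset_closure ⟨hg, hco⟩

theorem opOf_idem (p : ℕ) (K : Subgroup G) : opOf p (opOf p K) = opOf p K := by
  apply le_antisymm (opOf_le p _)
  show Subgroup.closure _ ≤ _
  rw [Subgroup.closure_le]
  intro g hg
  exact mem_opOf_of_coprime (mem_opOf_of_coprime hg.1 hg.2) hg.2

theorem orderOf_conj_apply (g y : G) : orderOf ((MulAut.conj g).toMonoidHom y) = orderOf y :=
  orderOf_injective (MulAut.conj g).toMonoidHom (MulAut.conj g).injective y

theorem cj_opOf (p : ℕ) (g : G) (K : Subgroup G) : cj g (opOf p K) = opOf p (cj g K) := by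
  unfold opOf cj
  rw [MonoidHom.map_closure]
  congr 1
  ext x
  constructor
  · rintro ⟨y, ⟨hy, hco⟩, rfl⟩
    refine ⟨Subgroup.mem_map.mpr ⟨y, hy, rfl⟩, ?_⟩
    rw [orderOf_conj_apply]
    exact hco
  · rintro ⟨hx, hco⟩
    obtain ⟨y, hy, rfl⟩ := Subgroup.mem_map.mp hx
    rw [orderOf_conj_apply] at hco
    exact ⟨y, ⟨hy, hco⟩, rfl⟩

theorem normalizer_le_normalizer_opOf (p : ℕ) (K : Subgroup G) :
    Subgroup.normalizer (K : Set G) ≤ Subgroup.normalizer ((opOf p K : Subgroup G) : Set G) := by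
  intro g hg
  apply mem_normalizer_of_cj_eq
  rw [cj_opOf, cj_eq_of_mem_normalizer hg]

theorem le_normalizer_opOf (p : ℕ) (K : Subgroup G) :
    K ≤ Subgroup.normalizer ((opOf p K : Subgroup G) : Set G) :=
  Subgroup.le_normalizer.trans (normalizer_le_normalizer_opOf p K)

theorem pow_mem_opOf [Finite G] {p : ℕ} [hp : Fact p.Prime] {K : Subgroup G} {g : G} (hg : g ∈ K) :
    g ^ (p ^ (orderOf g).factorization p) ∈ opOf p K := by
  apply Subgroup.subset_closure
  refine ⟨K.pow_mem hg _, ?_⟩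
  have hpos : 0 < orderOf g := orderOf_pos g
  rw [orderOf_pow' g (pow_ne_zero _ hp.out.ne_zero),
    Nat.gcd_eq_right (Nat.ordProj_dvd (orderOf g) p)]
  exact (Nat.coprime_ordCompl hp.out hpos.ne').symm

/-- A `p'`-element some `p`-power of which lies in a subgroup lies in that subgroup. -/
theorem mem_of_pow_mem_of_coprime' {p : ℕ} (N : Subgroup G) (g : G) (j : ℕ)
    (hj : g ^ p ^ j ∈ N) (hco : (orderOf g).Coprime p) : g ∈ N := by
  have h : (p ^ j).Coprime (orderOf g) := Nat.Coprime.pow_left j hco.symm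
  obtain ⟨m, hm⟩ := exists_pow_eq_self_of_coprime h
  rw [← hm]
  exact N.pow_mem hj m

theorem opOf_le_of_sup_pgroup {p : ℕ} (B A : Subgroup G) (hA : IsPGroup p A)
    (hAB : A ≤ Subgroup.normalizer (B : Set G)) : opOf p (B ⊔ A) ≤ B := by
  unfold opOf
  rw [Subgroup.closure_le]
  rintro g ⟨hg, hco⟩
  obtain ⟨b, hb, a, ha, rfl⟩ := mem_sup_of_normalizer hAB hg
  obtain ⟨j, hj⟩ := coe_pow_eq_one_of_isPGroup A hA a ha
  obtain ⟨c, hc, e⟩ := pow_mul_normalizer hAB hb ha (p ^ j)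
  rw [hj, mul_one] at e
  have hmem : (b * a) ^ p ^ j ∈ B := by rw [e]; exact hc
  exact mem_of_pow_mem_of_coprime' B (b * a) j hmem hco

/-- If `K ≤ N(N)`, `N ≤ K` and every element of `K` has a `p`-power in `N` then `O^p(K) ≤ N`. -/
theorem opOf_le_of_pquot {p : ℕ} (N K : Subgroup G)
    (hpq : ∀ g ∈ K, ∃ j : ℕ, g ^ p ^ j ∈ N) : opOf p K ≤ N := by
  unfold opOf
  rw [Subgroup.closure_le]
  rintro g ⟨hg, hco⟩
  obtain ⟨j, hj⟩ := hpq g hg
  exact mem_of_pow_mem_of_coprime' N g j hj hco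

/-- Key lemma: `X = B P`, `P` a normal `p`-subgroup, `B = O^p(B)` subnormal in `X` ⇒ `B ⊴ X`. -/
theorem le_normalizer_of_sn_sup_pgroup [Finite G] {p : ℕ} [hp : Fact p.Prime] :
    ∀ (n : ℕ) (B P X : Subgroup G), Nat.card X ≤ n → IsPGroup p P →
      B ≤ Subgroup.normalizer (P : Set G) → X = B ⊔ P → SN B X → opOf p B = B →
      X ≤ Subgroup.normalizer (B : Set G) := by
  intro n
  induction n with
  | zero =>
    intro B P X hn
    exfalso
    have : 0 < Nat.card X := Nat.card_pos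
    omega
  | succ n ih =>
    intro B P X hn hP hBP hX hsn hB
    by_cases hBX : B = X
    · rw [← hBX]; exact Subgroup.le_normalizer
    obtain ⟨X₁, hBX₁, hX₁X, hXn, hne⟩ := hsn.exists_normal hBX
    have hsn1 : SN B X₁ := hsn.of_le hBX₁ hX₁X
    have hP1 : IsPGroup p ↥(P ⊓ X₁) := hP.to_le inf_le_left
    have hBP1 : B ≤ Subgroup.normalizer ((P ⊓ X₁ : Subgroup G) : Set G) := by
      intro b hb
      have h1 := hBP hb
      have h2 : b ∈ Subgroup.normalizer (X₁ : Set G) := Subgroup.le_normalizer (hBX₁ hb)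
      apply mem_normalizer_of_cj_eq
      rw [cj_inf, cj_eq_of_mem_normalizer h1, cj_eq_of_mem_normalizer h2]
    have hX1 : X₁ = B ⊔ (P ⊓ X₁) := by
      apply le_antisymm
      · intro x hx
        have hx' : x ∈ P ⊔ B := by
          rw [sup_comm, ← hX]; exact hX₁X hx
        obtain ⟨y, hy, b, hb, rfl⟩ := mem_sup_of_normalizer hBP hx'
        have hyX : y ∈ X₁ := by
          have : y = (y * b) * b⁻¹ := by group
          rw [this]; exact X₁.mul_mem hx (X₁.inv_mem (hBX₁ hb))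
        exact Subgroup.mul_mem _ (Subgroup.mem_sup_right ⟨hy, hyX⟩) (Subgroup.mem_sup_left hb)
      · exact sup_le hBX₁ inf_le_right
    have hn1 : X₁ ≤ Subgroup.normalizer (B : Set G) :=
      ih B (P ⊓ X₁) X₁ (by have := card_lt_of_lt hX₁X hne; omega) hP1 hBP1 hX1 hsn1 hB
    have hBeq : B = opOf p X₁ := by
      apply le_antisymm
      · have := opOf_mono p hBX₁
        rwa [hB] at this
      · have : opOf p (B ⊔ (P ⊓ X₁)) ≤ B :=
          opOf_le_of_sup_pgroup B (P ⊓ X₁) hP1 (inf_le_right.trans hn1)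
        rwa [← hX1] at this
    have hfin : X ≤ Subgroup.normalizer ((opOf p X₁ : Subgroup G) : Set G) :=
      hXn.trans (normalizer_le_normalizer_opOf p X₁)
    rwa [← hBeq] at hfin

/-- A subnormal `p`-subgroup normalizes every subnormal `B` with `B = O^p(B)`. -/
theorem le_normalizer_of_sn_pgroup [Finite G] {p : ℕ} [hp : Fact p.Prime] (A B : Subgroup G)
    (hA : SN A ⊤) (hB : SN B ⊤) (hAp : IsPGroup p A) (hBres : opOf p B = B) :
    A ≤ Subgroup.normalizer (B : Set G) := by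
  have hpp : p.Prime := hp.out
  have hAP : A ≤ piCoreIn {p} (⊤ : Subgroup G) :=
    le_piCoreIn_of_sn hA ((isPGroup_iff_piGrp hpp).1 hAp)
  have hPp : IsPGroup p ↥(piCoreIn {p} (⊤ : Subgroup G)) := piCoreIn_isPGroup hpp ⊤
  have hPn : B ≤ Subgroup.normalizer ((piCoreIn {p} (⊤ : Subgroup G) : Subgroup G) : Set G) :=
    le_top.trans (piCoreIn_normal {p} ⊤)
  have hsn : SN B (B ⊔ piCoreIn {p} (⊤ : Subgroup G)) := hB.of_le le_sup_left le_top
  have := le_normalizer_of_sn_sup_pgroup _ B _ _ le_rfl hPp hPn rfl hsn hBres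
  exact hAP.trans (le_sup_right.trans this)

theorem opOf_sup_of_sn [Finite G] {p : ℕ} [hp : Fact p.Prime] (A B : Subgroup G)
    (hA : SN A ⊤) (hB : SN B ⊤) (hAp : IsPGroup p A) (hBres : opOf p B = B) :
    opOf p (A ⊔ B) = B := by
  have hn := le_normalizer_of_sn_pgroup A B hA hB hAp hBres
  apply le_antisymm
  · rw [sup_comm]; exact opOf_le_of_sup_pgroup B A hAp hn
  · have := opOf_mono p (le_sup_right : B ≤ A ⊔ B)
    rwa [hBres] at this

end Cfsg.Agent.helper14
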