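import Mathlib
import Cfsg.Agent.Lib_helper7_FStar2
import Cfsg.Agent.Lib_helper7_Local
import Cfsg.Agent.Lib_helper7_Coprime
import Cfsg.Agent.Lib_helper14_PIrr
import Cfsg.Agent.Lib_helper14_Amalgam2

set_option autoImplicit false

/-!
`p`-subgroups acting on subnormal subgroups of `F*(H)` when `O_p(H) = 1`.
-/

namespace Cfsg.Agent.helper14

open Cfsg.Agent.helper7

open scoped commutatorElement

/-- If `O_p(H) = 1` and `L` is subnormal in `H` then `F(L)` is a `p'`-group. -/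
theorem fitOf_not_dvd_of_piCoreIn_eq_bot {G : Type*} [Group G] [Finite G] {p : ℕ}
    [hp : Fact p.Prime] {H L : Subgroup G} (hO : piCoreIn {p} H = ⊥) (hLsn : SN L H) :
    ¬ p ∣ Nat.card (fitOf L) := by
  have h1 : fitOf L ≤ piCoreIn {q | q ≠ p} L := by
    rw [fitOf_eq_iSup]
    apply iSup_le
    rintro ⟨r, hr⟩
    by_cases hrp : r = p
    · show piCoreIn {r} L ≤ _
      rw [hrp]
      have h2 : piCoreIn {p} L ≤ piCoreIn {p} H := piCoreIn_le_of_sn hLsn
      rw [hO] at h2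
      exact h2.trans bot_le
    · apply le_radOf (piCoreIn_le _ L) (piCoreIn_normal _ L)
      intro x hx q hq hdvd
      have h3 := piCoreIn_piGrp {r} L x hx q hq hdvd
      rw [Set.mem_singleton_iff] at h3
      show q ≠ p
      rw [h3]
      exact hrp
  have h2 : PiGrp {q | q ≠ p} (fitOf L) := (piCoreIn_piGrp _ L).mono h1
  have h3 := (coprime_card_iff_piGrp hp.out).mpr h2
  exact (Nat.Prime.coprime_iff_not_dvd hp.out).mp h3.symm

/-- A component `K` of `L` is contained in `[L,Y]` or centralized by `Y`. -/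
theorem comp_le_comm_or_le_centralizer {G : Type*} [Group G] [Finite G]
    {L Y K : Subgroup G} (hYL : Y ≤ Subgroup.normalizer (L : Set G)) (hK : Comp K L) :
    K ≤ ⁅L, Y⁆ ∨ K ≤ Subgroup.centralizer (Y : Set G) := by
  have hXL : ⁅L, Y⁆ ≤ L := commutator_le_left_of_le_normalizer L Y hYL
  have hLX : L ≤ Subgroup.normalizer ((⁅L, Y⁆ : Subgroup G) : Set G) :=
    left_le_normalizer_commutator L Y
  have hXsn : SN ⁅L, Y⁆ L := SN.of_normal hXL hLX
  rcases comp_le_or_comm hK.1 hK.2 hXsn with h1 | h1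
  · exact Or.inl h1
  · right
    have h1' : ⁅⁅L, Y⁆, K⁆ = ⊥ := by rw [Subgroup.commutator_comm]; exact h1
    have h2 : ⁅⁅K, Y⁆, K⁆ = ⊥ := by
      rw [eq_bot_iff, ← h1']
      exact Subgroup.commutator_mono (Subgroup.commutator_mono hK.1.le le_rfl) le_rfl
    have h3 : ⁅⁅Y, K⁆, K⁆ = ⊥ := by rw [Subgroup.commutator_comm Y K]; exact h2
    have h4 : ⁅⁅K, K⁆, Y⁆ = ⊥ := Subgroup.commutator_commutator_eq_bot_of_rotate h2 h3
    rw [hK.2.1] at h4
    exact Subgroup.commutator_eq_bot_iff_le_centralizer.mp h4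

/-- `L = [L,Y] C_L(Y)` and `[L,Y] = [L,Y,Y]` for `L` subnormal in `F*(H)`, `O_p(H) = 1`, `Y` a
`p`-group normalizing `L`. -/
theorem fstar_split {G : Type*} [Group G] [Finite G] {p : ℕ} [hp : Fact p.Prime]
    (H Y L : Subgroup G) (hO : piCoreIn {p} H = ⊥) (hY : IsPGroup p Y)
    (hLF : L ≤ fstarOf H) (hLsn : SN L H) (hYL : Y ≤ Subgroup.normalizer (L : Set G)) :
    ⁅L, Y⁆ ⊔ (L ⊓ Subgroup.centralizer (Y : Set G)) = L ∧ ⁅L, Y⁆ = ⁅⁅L, Y⁆, Y⁆ := by
  have hXL : ⁅L, Y⁆ ≤ L := commutator_le_left_of_le_normalizer L Y hYL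
  have hLX : L ≤ Subgroup.normalizer ((⁅L, Y⁆ : Subgroup G) : Set G) :=
    left_le_normalizer_commutator L Y
  have hLeq : L = fstarOf L := sn_fstarOf_eq (hLsn.of_le hLF (fstarOf_le H))
  have hFcop : ¬ p ∣ Nat.card (fitOf L) := fitOf_not_dvd_of_piCoreIn_eq_bot hO hLsn
  have hYF : Y ≤ Subgroup.normalizer ((fitOf L : Subgroup G) : Set G) :=
    hYL.trans (normalizer_le_normalizer_fitOf L)
  have hF : fitOf L ≤ ⁅L, Y⁆ ⊔ (L ⊓ Subgroup.centralizer (Y : Set G)) := by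
    intro u hu
    obtain ⟨s, hs, c, hc, rfl⟩ := exists_decomp_comm_fixed hY hYF hFcop hu
    exact Subgroup.mul_mem _
      (Subgroup.mem_sup_left (Subgroup.commutator_mono (fitOf_le L) le_rfl hs))
      (Subgroup.mem_sup_right (inf_le_inf_right _ (fitOf_le L) hc))
  have hE : layerOf L ≤ ⁅L, Y⁆ ⊔ (L ⊓ Subgroup.centralizer (Y : Set G)) := by
    apply sSup_le
    intro K hK
    rcases comp_le_comm_or_le_centralizer hYL hK with h1 | h1
    · exact h1.trans le_sup_left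
    · exact (le_inf hK.1.le h1).trans le_sup_right
  have hsup : ⁅L, Y⁆ ⊔ (L ⊓ Subgroup.centralizer (Y : Set G)) = L := by
    apply le_antisymm (sup_le hXL inf_le_left)
    have h1 : fstarOf L ≤ ⁅L, Y⁆ ⊔ (L ⊓ Subgroup.centralizer (Y : Set G)) := sup_le hE hF
    exact hLeq.le.trans h1
  refine ⟨hsup, le_antisymm ?_ (Subgroup.commutator_mono hXL le_rfl)⟩
  rw [Subgroup.commutator_le]
  intro l hl y hy
  have hl' : l ∈ ⁅L, Y⁆ ⊔ (L ⊓ Subgroup.centralizer (Y : Set G)) := by rw [hsup]; exact hl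
  obtain ⟨x, hx, c, hc, rfl⟩ := mem_sup_of_normalizer (inf_le_left.trans hLX) hl'
  have hcy : c * y = y * c :=
    (Subgroup.mem_centralizer_iff.mp (Subgroup.mem_inf.mp hc).2 y hy).symm
  have e : ⁅x * c, y⁆ = ⁅x, y⁆ := by
    rw [commutatorElement_def, commutatorElement_def]
    calc x * c * y * (x * c)⁻¹ * y⁻¹ = x * (c * y) * c⁻¹ * x⁻¹ * y⁻¹ := by group
      _ = x * (y * c) * c⁻¹ * x⁻¹ * y⁻¹ := by rw [hcy]
      _ = x * y * x⁻¹ * y⁻¹ := by group
  rw [e]
  exact Subgroup.commutator_mem_commutator hx hy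

end Cfsg.Agent.helper14
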