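import Mathlib
import Cfsg.Agent.Lib_helper14_PReduced2

set_option autoImplicit false
open Cfsg

namespace Cfsg.Agent.helper14

/-- If `L` has characteristic `p`, `T ≤ R ≤ L` with `T` Sylow, and `X'` is `p`-reduced normal in `R`, then the
normal closure of `X'` in `L` is `p`-reduced normal in `L`. -/
theorem isPReducedNormal_normalClosure {L : Type*} [Group L] [Finite L] {p : ℕ} [Fact p.Prime]
    (hchar : Subgroup.centralizer (Cfsg.pCore p L : Set L) ≤ Cfsg.pCore p L) (T : Sylow p L)
    (R : Subgroup L) (hTR : (T : Subgroup L) ≤ R) (X' : Subgroup L) (hX : PRedIn p R X') :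
    Cfsg.IsPReducedNormal p (Subgroup.normalClosure (X' : Set L)) := by
  have hQn : (Cfsg.pCore p L).Normal := pCore_normal' p
  have hQp : IsPGroup p (Cfsg.pCore p L) := pCore_isPGroup' p
  have hQT : Cfsg.pCore p L ≤ (T : Subgroup L) := hQp.le_sylow_of_normal T
  have hQR : Cfsg.pCore p L ≤ R := hQT.trans hTR
  have hQOR : Cfsg.pCore p L ≤ Cfsg.pCoreOf p R := by
    have hn : ((Cfsg.pCore p L).subgroupOf R).Normal := hQn.subgroupOf R
    have hp : IsPGroup p ((Cfsg.pCore p L).subgroupOf R) :=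
      hQp.comap_of_injective _ (Subgroup.subtype_injective _)
    have h1 : (Cfsg.pCore p L).subgroupOf R ≤ Cfsg.pCore p ↥R :=
      le_sSup (show (Cfsg.pCore p L).subgroupOf R ∈
        {N : Subgroup ↥R | N.Normal ∧ IsPGroup p ↥N} from ⟨hn, hp⟩)
    have := Subgroup.map_mono (f := R.subtype) h1
    rwa [Subgroup.map_subgroupOf_eq_of_le hQR] at this
  have hQC : Cfsg.pCore p L ≤ Subgroup.centralizer (X' : Set L) :=
    hQOR.trans hX.pCoreOf_le_centralizer
  have hXC : X' ≤ Subgroup.centralizer (Cfsg.pCore p L : Set L) := Subgroup.le_centralizer_iff.mp hQC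
  have hXQ : X' ≤ Cfsg.pCore p L := fun x hx => hchar (hXC hx)
  have hXZ : X' ≤ Cfsg.pCore p L ⊓ Subgroup.centralizer (Cfsg.pCore p L : Set L) := le_inf hXQ hXC
  have hZc : ∀ a ∈ Cfsg.pCore p L ⊓ Subgroup.centralizer (Cfsg.pCore p L : Set L),
      ∀ b ∈ Cfsg.pCore p L ⊓ Subgroup.centralizer (Cfsg.pCore p L : Set L), a * b = b * a := by
    rintro a ⟨haQ, _⟩ b ⟨_, hbC⟩
    exact (Subgroup.mem_centralizer_iff.mp hbC a haQ)
  have hZn : (Cfsg.pCore p L ⊓ Subgroup.centralizer (Cfsg.pCore p L : Set L)).Normal :=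
    inferInstance
  have hAn : (commOmega p _ hZc).Normal := by
    constructor
    rintro x ⟨hxZ, hxp⟩ g
    refine ⟨hZn.conj_mem x hxZ g, ?_⟩
    rw [conj_pow, hxp, mul_one, mul_inv_cancel]
  have hVA : Subgroup.normalClosure (X' : Set L) ≤ commOmega p _ hZc :=
    Subgroup.normalClosure_le_normal (fun x hx => ⟨hXZ hx, hX.2.2.2.1 x hx⟩)
  have hVn : (Subgroup.normalClosure (X' : Set L)).Normal := Subgroup.normalClosure_normal
  apply isPReducedNormal_of_predProp _ hVn
  · refine ⟨⟨⟨fun a b => ?_⟩⟩, ?_⟩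
    · apply Subtype.ext
      exact hZc _ (hVA a.2).1 _ (hVA b.2).1
    · intro a ha
      exact (hVA ha).2
  · intro N hNn hNp
    obtain ⟨D, hD⟩ : ∃ D : Subgroup L, D = Subgroup.centralizer
        ((Subgroup.normalClosure (X' : Set L) : Subgroup L) : Set L) := ⟨_, rfl⟩
    rw [← hD] at hNp ⊢
    have hDn : D.Normal := by rw [hD]; exact Subgroup.normal_centralizer
    have hDX : D ≤ Subgroup.centralizer (X' : Set L) := by
      rw [hD]; exact Subgroup.centralizer_le Subgroup.subset_normalClosure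
    have hN₂ : (N ⊔ D) ⊓ R ≤ Subgroup.centralizer (X' : Set L) := by
      apply hX.2.2.2.2 _ inf_le_right
      · have hsupn : (N ⊔ D).Normal := inferInstance
        apply le_normalizer_of_map_conj_le
        rintro g hg _ ⟨y, ⟨hy1, hy2⟩, rfl⟩
        refine ⟨?_, ?_⟩
        · have := hsupn.conj_mem y hy1 g
          simpa using this
        · have : g * y * g⁻¹ ∈ R := R.mul_mem (R.mul_mem hg hy2) (R.inv_mem hg)
          simpa using this
      · rintro y ⟨hy1, _⟩
        have hy1' : y ∈ ((N ⊔ D : Subgroup L) : Set L) := hy1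
        rw [Subgroup.mul_normal N D] at hy1'
        obtain ⟨n', hn', c, hc, rfl⟩ := hy1'
        obtain ⟨k, hk⟩ := hNp n' hn'
        obtain ⟨c', hc', h⟩ := pow_mul_mem_of_mem_normalizer D n' c
          (Subgroup.le_normalizer_of_normal (Subgroup.mem_top n')) hc (p ^ k)
        refine ⟨k, ?_⟩
        rw [h]
        exact hDX (D.mul_mem hk hc')
    have key : ∀ x ∈ X', ∀ n ∈ N, x * n = n * x := by
      intro x hx n hn
      obtain ⟨t, ht, d, hd, rfl⟩ := exists_sylow_mul_of_pow_mem T D N hNn hNp n hn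
      have h2 : x * d = d * x := Subgroup.mem_centralizer_iff.mp (hDX hd) x hx
      have ht' : t ∈ (N ⊔ D) ⊓ R := by
        refine ⟨?_, hTR ht⟩
        have : t = (t * d) * d⁻¹ := by group
        rw [this]
        exact Subgroup.mul_mem _ ((le_sup_left : N ≤ N ⊔ D) hn)
          ((le_sup_right : D ≤ N ⊔ D) (D.inv_mem hd))
      have h1 : x * t = t * x := Subgroup.mem_centralizer_iff.mp (hN₂ ht') x hx
      rw [← mul_assoc, h1, mul_assoc, h2, ← mul_assoc]
    rw [hD, Subgroup.le_centralizer_iff]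
    have hCNn : (Subgroup.centralizer (N : Set L)).Normal := Subgroup.normal_centralizer
    apply Subgroup.normalClosure_le_normal
    intro x hx
    show x ∈ Subgroup.centralizer (N : Set L)
    rw [Subgroup.mem_centralizer_iff]
    intro n hn
    exact (key x hx n hn).symm

end Cfsg.Agent.helper14
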