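import Mathlib
import Cfsg.Agent.Lib_helper14_PReduced3

set_option autoImplicit false
open Cfsg

namespace Cfsg.Agent.helper14

theorem le_pCoreOf_of_normal {H : Type*} [Group H] {p : ℕ} (L V : Subgroup H) (hVL : V ≤ L)
    (hLV : L ≤ Subgroup.normalizer (V : Set H)) (hV : IsPGroup p V) : V ≤ Cfsg.pCoreOf p L := by
  have hn : (V.subgroupOf L).Normal := (Subgroup.normal_subgroupOf_iff_le_normalizer hVL).mpr hLV
  have hp : IsPGroup p (V.subgroupOf L) := hV.comap_of_injective _ (Subgroup.subtype_injective _)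
  have h1 : V.subgroupOf L ≤ Cfsg.pCore p ↥L :=
    le_sSup (show V.subgroupOf L ∈ {N : Subgroup ↥L | N.Normal ∧ IsPGroup p ↥N} from ⟨hn, hp⟩)
  have h2 := Subgroup.map_mono (f := L.subtype) h1
  rw [Subgroup.map_subgroupOf_eq_of_le hVL] at h2
  exact h2

/-- Frattini argument inside a subgroup `M` of `H`, for `C` normalized by `M`. -/
theorem frattini_ambient {H : Type*} [Group H] {p : ℕ} [Fact p.Prime] (M : Subgroup H) [Finite M]
    (S : Sylow p M) (C : Subgroup H) (hMC : M ≤ Subgroup.normalizer (C : Set H)) :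
    ∀ m ∈ M, ∃ a ∈ M ⊓ Subgroup.normalizer
        ((((S : Subgroup M).map M.subtype ⊓ C : Subgroup H)) : Set H),
      ∃ d ∈ M ⊓ C, m = a * d := by
  have hDn : (C.subgroupOf M).Normal := Subgroup.normal_subgroupOf_of_le_normalizer hMC
  have hfr := Cfsg.Agent.helper19.frattini_inf S (C.subgroupOf M)
  intro m hm
  have hm' : (⟨m, hm⟩ : M) ∈ ((Subgroup.normalizer
      ((((S : Subgroup M) ⊓ C.subgroupOf M : Subgroup M)) : Set M) ⊔ C.subgroupOf M :
        Subgroup M) : Set M) := by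
    rw [hfr]; exact Subgroup.mem_top _
  rw [Subgroup.mul_normal] at hm'
  obtain ⟨a, ha, d, hd, had⟩ := hm'
  have key : ∀ (b : M), b ∈ Subgroup.normalizer
      ((((S : Subgroup M) ⊓ C.subgroupOf M : Subgroup M)) : Set M) →
      ∀ z : H, z ∈ (S : Subgroup M).map M.subtype ⊓ C →
        (b : H) * z * (b : H)⁻¹ ∈ (S : Subgroup M).map M.subtype ⊓ C := by
    rintro b hb z ⟨⟨s, hs, rfl⟩, hzC⟩
    have h1 : b * s * b⁻¹ ∈ (S : Subgroup M) ⊓ C.subgroupOf M :=
      (Subgroup.mem_normalizer_iff.mp hb s).mp ⟨hs, Subgroup.mem_subgroupOf.mpr hzC⟩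
    refine ⟨⟨b * s * b⁻¹, h1.1, by simp⟩, ?_⟩
    have := Subgroup.mem_subgroupOf.mp h1.2
    simpa using this
  refine ⟨(a : H), ⟨a.2, ?_⟩, (d : H), ⟨d.2, Subgroup.mem_subgroupOf.mp hd⟩, ?_⟩
  · show (a : H) ∈ Subgroup.normalizer
      ((((S : Subgroup M).map M.subtype ⊓ C : Subgroup H)) : Set H)
    rw [Subgroup.mem_normalizer_iff]
    intro z
    constructor
    · intro hz
      exact key a ha z hz
    · intro hz
      have := key a⁻¹ (Subgroup.inv_mem _ ha) _ hz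
      simpa [mul_assoc] using this
  · have h2 : ((a * d : M) : H) = m := congrArg Subtype.val had
    rw [Subgroup.coe_mul] at h2
    exact h2.symm

theorem omegaOne_center_map_subtype {H : Type*} [Group H] (p : ℕ) (L : Subgroup H)
    (A₀ : Subgroup L) :
    (Cfsg.omegaOne p (A₀ ⊓ Subgroup.centralizer (A₀ : Set L))).map L.subtype =
      Cfsg.omegaOne p (A₀.map L.subtype ⊓
        Subgroup.centralizer ((A₀.map L.subtype : Subgroup H) : Set H)) := by
  unfold Cfsg.omegaOne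
  rw [MonoidHom.map_closure]
  congr 1
  ext y
  constructor
  · rintro ⟨x, ⟨⟨hxA, hxC⟩, hxp⟩, rfl⟩
    refine ⟨⟨⟨x, hxA, rfl⟩, (mem_centralizer_map_subtype_iff L A₀ x).mp hxC⟩, ?_⟩
    show (L.subtype x) ^ p = 1
    rw [← map_pow, hxp, map_one]
  · rintro ⟨⟨⟨x, hxA, rfl⟩, hyC⟩, hyp⟩
    refine ⟨x, ⟨⟨hxA, (mem_centralizer_map_subtype_iff L A₀ x).mpr hyC⟩, ?_⟩, rfl⟩
    apply Subtype.ext
    rw [Subgroup.coe_pow, Subgroup.coe_one]
    exact hyp

end Cfsg.Agent.helper14
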