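import Cfsg.Statements.S2809
import Mathlib.GroupTheory.Commutator.Basic

set_option autoImplicit false
open Cfsg
open scoped commutatorElement

namespace Cfsg.Agent.S2809

theorem comm_le_left {X : Type*} [Group X] (A B : Subgroup X)
    (h : B ≤ Subgroup.normalizer (A : Set X)) : ⁅A, B⁆ ≤ A := by
  rw [Subgroup.commutator_le]
  intro a ha b hb
  have : b * a⁻¹ * b⁻¹ ∈ A := (Subgroup.mem_normalizer_iff.mp (h hb) a⁻¹).mp (A.inv_mem ha)
  have h2 : ⁅a, b⁆ = a * (b * a⁻¹ * b⁻¹) := by rw [commutatorElement_def]; group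
  rw [h2]
  exact A.mul_mem ha this

theorem map_conj_eq_of_mem_normalizer {X : Type*} [Group X] (A : Subgroup X) (l : X)
    (hl : l ∈ Subgroup.normalizer (A : Set X)) : A.map (MulAut.conj l).toMonoidHom = A := by
  ext x
  constructor
  · rintro ⟨a, ha, rfl⟩
    exact (Subgroup.mem_normalizer_iff.mp hl a).mp ha
  · intro hx
    refine ⟨l⁻¹ * x * l, ?_, by simp [mul_assoc]⟩
    have := (Subgroup.mem_normalizer_iff.mp (Subgroup.inv_mem _ hl) x).mp hx
    simpa using this

theorem comm_normalized {X : Type*} [Group X] (A L : Subgroup X)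
    (h : L ≤ Subgroup.normalizer (A : Set X)) : L ≤ Subgroup.normalizer ((⁅A, L⁆ : Subgroup X) : Set X) := by
  intro l hl
  have hmap : (⁅A, L⁆).map (MulAut.conj l).toMonoidHom = ⁅A, L⁆ := by
    rw [Subgroup.map_commutator, map_conj_eq_of_mem_normalizer A l (h hl),
      map_conj_eq_of_mem_normalizer L l (Subgroup.le_normalizer hl)]
  rw [Subgroup.mem_normalizer_iff]
  intro x
  constructor
  · intro hx
    rw [← hmap]
    exact Subgroup.mem_map_of_mem _ hx
  · intro hx
    rw [← hmap] at hx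
    obtain ⟨y, hy, hyx⟩ := hx
    have : y = x := by
      have := (MulAut.conj l).injective (a₁ := y) (a₂ := x)
      apply this
      simpa using hyx
    rwa [← this]

theorem chain_facts {X : Type*} [Group X] (R L : Subgroup X) (hL : L ≤ Subgroup.normalizer (R : Set X)) :
    ∀ i, Cfsg.iterCommutator R L i ≤ R ∧ L ≤ Subgroup.normalizer ((Cfsg.iterCommutator R L i : Subgroup X) : Set X) := by
  intro i
  induction i with
  | zero => exact ⟨le_rfl, hL⟩
  | succ i ih =>
    refine ⟨?_, ?_⟩
    · show ⁅Cfsg.iterCommutator R L i, L⁆ ≤ R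
      exact (comm_le_left _ _ ih.2).trans ih.1
    · show L ≤ Subgroup.normalizer ((⁅Cfsg.iterCommutator R L i, L⁆ : Subgroup X) : Set X)
      exact comm_normalized _ _ ih.2

theorem result {H : Type*} [Group H] [Finite H] {p : ℕ} [Fact p.Prime] (R : Subgroup H) (hR : IsPGroup p ↥R) (hC : Subgroup.centralizer (R : Set H) ≤ R) (L : Subgroup H) (hL : L ≤ Subgroup.normalizer (R : Set H)) (hnil : ∃ n : ℕ, Cfsg.iterCommutator R L n = ⊥) : IsPGroup p ↥L := by
  obtain ⟨n, hn⟩ := hnil
  obtain ⟨e, he⟩ := IsPGroup.iff_card.mp hR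
  set q := Nat.card R with hq
  have hRq : ∀ r ∈ R, r ^ q = 1 := by
    intro r hr
    have h1 : (⟨r, hr⟩ : R) ^ Nat.card R = 1 := pow_card_eq_one'
    have h2 : ((⟨r, hr⟩ : R) ^ Nat.card R : R).1 = (1 : R).1 := congrArg Subtype.val h1
    rw [Subgroup.coe_pow, Subgroup.coe_one] at h2
    exact h2
  have hfacts := chain_facts R L hL
  have key : ∀ i j, i + j = n → ∀ x ∈ L, ∀ r ∈ Cfsg.iterCommutator R L j, Commute (x ^ q ^ i) r := by
    intro i
    induction i with
    | zero =>
      intro j hj x _ r hr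
      have : j = n := by omega
      rw [this, hn, Subgroup.mem_bot] at hr
      rw [hr]; exact Commute.one_right _
    | succ i ih =>
      intro j hj x hx r hr
      set y := x ^ q ^ i with hy
      have hyL : y ∈ L := L.pow_mem hx _
      have hb : ⁅y, r⁆ ∈ Cfsg.iterCommutator R L (j + 1) := by
        have h1 : ⁅r, y⁆ ∈ ⁅Cfsg.iterCommutator R L j, L⁆ := Subgroup.commutator_mem_commutator hr hyL
        have h2 : ⁅y, r⁆ = ⁅r, y⁆⁻¹ := (commutatorElement_inv r y).symm
        rw [h2]
        exact Subgroup.inv_mem _ h1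
      have hcb : Commute y ⁅y, r⁆ := ih (j + 1) (by omega) x hx _ hb
      have hbR : ⁅y, r⁆ ∈ R := (hfacts (j + 1)).1 hb
      have hconj : ∀ k : ℕ, y ^ k * r = ⁅y, r⁆ ^ k * r * y ^ k := by
        intro k
        induction k with
        | zero => simp
        | succ k ihk =>
          have e1 : y * r = ⁅y, r⁆ * r * y := by rw [commutatorElement_def]; group
          calc y ^ (k + 1) * r = y * (y ^ k * r) := by rw [pow_succ']; group
            _ = y * (⁅y, r⁆ ^ k * r * y ^ k) := by rw [ihk]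
            _ = (y * ⁅y, r⁆ ^ k) * r * y ^ k := by group
            _ = (⁅y, r⁆ ^ k * y) * r * y ^ k := by rw [(hcb.pow_right k).eq]
            _ = ⁅y, r⁆ ^ k * (y * r) * y ^ k := by group
            _ = ⁅y, r⁆ ^ k * (⁅y, r⁆ * r * y) * y ^ k := by rw [← e1]
            _ = ⁅y, r⁆ ^ (k + 1) * r * y ^ (k + 1) := by rw [pow_succ, pow_succ]; group
      have := hconj q
      rw [hRq _ hbR, one_mul] at this
      show x ^ q ^ (i + 1) * r = r * x ^ q ^ (i + 1)
      rw [pow_succ, pow_mul]
      exact this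
  intro g
  have h1 : (g : H) ^ q ^ n ∈ Subgroup.centralizer (R : Set H) := by
    rw [Subgroup.mem_centralizer_iff]
    intro r hr
    exact ((key n 0 (by omega) g g.2 r hr).eq).symm
  have h2 := hRq _ (hC h1)
  refine ⟨e * (n + 1), ?_⟩
  apply Subtype.ext
  simp only [Subgroup.coe_pow, Subgroup.coe_one]
  rw [pow_mul, ← he, pow_succ, pow_mul]
  exact h2

end Cfsg.Agent.S2809
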