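import Mathlib
import Cfsg.Agent.Lib_helper14_PReduced4
import Cfsg.Agent.Lib_helper14_PIrr2
import Cfsg.Agent.S2809

set_option autoImplicit false
open Cfsg

namespace Cfsg.Agent.helper14

theorem pCore_characteristic {H : Type*} [Group H] (p : ℕ) : (Cfsg.pCore p H).Characteristic := by
  rw [Subgroup.characteristic_iff_map_le]
  intro φ
  rw [Subgroup.map_le_iff_le_comap]
  unfold Cfsg.pCore
  apply sSup_le
  rintro N ⟨hNn, hNp⟩
  rw [← Subgroup.map_le_iff_le_comap]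
  exact le_sSup ⟨hNn.map φ.toMonoidHom φ.surjective, hNp.map _⟩

theorem pCoreOf_normal_of_normal {G : Type*} [Group G] (p : ℕ) (H : Subgroup G) [H.Normal] :
    (Cfsg.pCoreOf p H).Normal := by
  have := pCore_characteristic (H := ↥H) p
  unfold Cfsg.pCoreOf
  exact ConjAct.normal_of_characteristic_of_normal

/-- If `G` has characteristic `p` and `H` is normal in `G`, then `C_H(O_p(H))` is a `p`-group. -/
theorem isPGroup_centralizer_of_normal {G : Type*} [Group G] [Finite G] {p : ℕ} [Fact p.Prime]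
    (hchar : Subgroup.centralizer (Cfsg.pCore p G : Set G) ≤ Cfsg.pCore p G) (H : Subgroup G)
    [hH : H.Normal] :
    IsPGroup p ↥(H ⊓ Subgroup.centralizer ((Cfsg.pCoreOf p H : Subgroup G) : Set G)) := by
  have hRn : (Cfsg.pCoreOf p H).Normal := pCoreOf_normal_of_normal p H
  have hQn : (Cfsg.pCore p G).Normal := pCore_normal' p
  have hQp : IsPGroup p (Cfsg.pCore p G) := pCore_isPGroup' p
  have hCn : (H ⊓ Subgroup.centralizer ((Cfsg.pCoreOf p H : Subgroup G) : Set G)).Normal :=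
    inferInstance
  have h1 : ⁅Cfsg.pCore p G,
      H ⊓ Subgroup.centralizer ((Cfsg.pCoreOf p H : Subgroup G) : Set G)⁆ ≤ Cfsg.pCoreOf p H := by
    refine (Subgroup.commutator_le_inf _ _).trans ?_
    have h2 : Cfsg.pCore p G ⊓ H ≤ Cfsg.pCoreOf p H := by
      have hn : (Cfsg.pCore p G ⊓ H).Normal := inferInstance
      exact le_pCoreOf_of_normal H _ inf_le_right Subgroup.le_normalizer_of_normal
        (hQp.to_le inf_le_left)
    exact (inf_le_inf_left _ inf_le_left).trans h2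
  have h3 : ⁅Cfsg.pCoreOf p H,
      H ⊓ Subgroup.centralizer ((Cfsg.pCoreOf p H : Subgroup G) : Set G)⁆ = ⊥ := by
    rw [Subgroup.commutator_eq_bot_iff_le_centralizer, Subgroup.le_centralizer_iff]
    exact inf_le_right
  apply Cfsg.Agent.S2809.result (Cfsg.pCore p G) hQp hchar _ Subgroup.le_normalizer_of_normal
  refine ⟨2, ?_⟩
  show ⁅⁅Cfsg.pCore p G, _⁆, _⁆ = ⊥
  rw [eq_bot_iff, ← h3]
  exact Subgroup.commutator_mono h1 le_rfl

theorem charp_of_isPGroup {G : Type*} [Group G] {p : ℕ} [Fact p.Prime] (H : Subgroup G)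
    (h : IsPGroup p ↥(H ⊓ Subgroup.centralizer ((Cfsg.pCoreOf p H : Subgroup G) : Set G))) :
    Subgroup.centralizer (Cfsg.pCore p ↥H : Set ↥H) ≤ Cfsg.pCore p ↥H := by
  have hn : (Cfsg.pCore p ↥H).Normal := pCore_normal' p
  have hCn : (Subgroup.centralizer (Cfsg.pCore p ↥H : Set ↥H)).Normal :=
    Subgroup.normal_centralizer
  have hCp : IsPGroup p (Subgroup.centralizer (Cfsg.pCore p ↥H : Set ↥H)) := by
    intro x
    have hx : ((x : ↥H) : G) ∈
        H ⊓ Subgroup.centralizer ((Cfsg.pCoreOf p H : Subgroup G) : Set G) :=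
      ⟨(x : ↥H).2, (mem_centralizer_map_subtype_iff H _ (x : ↥H)).mp x.2⟩
    obtain ⟨k, hk⟩ := h ⟨_, hx⟩
    refine ⟨k, ?_⟩
    apply Subtype.ext
    apply Subtype.ext
    have := congrArg Subtype.val hk
    simpa using this
  exact le_sSup (show _ ∈ {N : Subgroup ↥H | N.Normal ∧ IsPGroup p ↥N} from ⟨hCn, hCp⟩)

theorem isPGroup_centralizer_of_residual_normal {G : Type*} [Group G] [Finite G] {p : ℕ}
    [Fact p.Prime] (hchar : Subgroup.centralizer (Cfsg.pCore p G : Set G) ≤ Cfsg.pCore p G)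
    (H : Subgroup G) (hK : ((Cfsg.pResidual p ↥H).map H.subtype).Normal) :
    IsPGroup p ↥(H ⊓ Subgroup.centralizer ((Cfsg.pCoreOf p H : Subgroup G) : Set G)) := by
  obtain ⟨K, hKdef⟩ : ∃ K : Subgroup G, K = (Cfsg.pResidual p ↥H).map H.subtype := ⟨_, rfl⟩
  rw [← hKdef] at hK
  have hKH : K ≤ H := by rw [hKdef]; exact Subgroup.map_subtype_le _
  have hKp := isPGroup_centralizer_of_normal hchar K
  have hOK : Cfsg.pCoreOf p K ≤ Cfsg.pCoreOf p H := by
    have hn : (Cfsg.pCoreOf p K).Normal := pCoreOf_normal_of_normal p K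
    exact le_pCoreOf_of_normal H _ ((pCoreOf_le p K).trans hKH) Subgroup.le_normalizer_of_normal
      (pCoreOf_isPGroup K)
  rintro ⟨x, hxH, hxC⟩
  have hj := Cfsg.Agent.helper10.pow_mem_pResidual p (⟨x, hxH⟩ : ↥H)
  obtain ⟨j, hjdef⟩ : ∃ j : ℕ, j = (orderOf (⟨x, hxH⟩ : ↥H)).factorization p := ⟨_, rfl⟩
  rw [← hjdef] at hj
  have hxK : x ^ p ^ j ∈ K := by
    rw [hKdef]
    exact ⟨_, hj, by simp⟩
  have hy : x ^ p ^ j ∈ K ⊓ Subgroup.centralizer ((Cfsg.pCoreOf p K : Subgroup G) : Set G) :=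
    ⟨hxK, Subgroup.centralizer_le (SetLike.coe_subset_coe.mpr hOK) (Subgroup.pow_mem _ hxC _)⟩
  obtain ⟨i, hi⟩ := hKp ⟨_, hy⟩
  refine ⟨j + i, ?_⟩
  apply Subtype.ext
  have h2 := congrArg Subtype.val hi
  simp only [Subgroup.coe_pow, Subgroup.coe_one] at h2 ⊢
  rw [pow_add, pow_mul]
  exact h2

end Cfsg.Agent.helper14
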