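import Mathlib
import Cfsg.Prelude.Def_LocalStructure
import Cfsg.Agent.Lib_helper7_SN
import Cfsg.Agent.Lib_helper10_Sylow
import Cfsg.Agent.Lib_helper14_PReduced2
import Cfsg.Agent.Lib_helper14_PReduced4
import Cfsg.Agent.Lib_helper14_Amalgam4

set_option autoImplicit false
open Cfsg

namespace Cfsg.Agent.helper14

open Cfsg.Agent.helper7

variable {H : Type*} [Group H]

theorem center_ne_bot_of_isPGroup [Finite H] {p : ℕ} [Fact p.Prime] (P : Subgroup H)
    (hP : IsPGroup p P) (hP1 : P ≠ ⊥) : P ⊓ Subgroup.centralizer (P : Set H) ≠ ⊥ := by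
  haveI : Nontrivial ↥P := (Subgroup.nontrivial_iff_ne_bot P).mpr hP1
  haveI := hP.center_nontrivial
  obtain ⟨z, hz⟩ := exists_ne (1 : ↥(Subgroup.center ↥P))
  intro hbot
  have hzmem : ((z : ↥P) : H) ∈ P ⊓ Subgroup.centralizer (P : Set H) := by
    refine Subgroup.mem_inf.mpr ⟨(z : ↥P).2, ?_⟩
    rw [Subgroup.mem_centralizer_iff]
    intro y hy
    have := (Subgroup.mem_center_iff.mp z.2) ⟨y, hy⟩
    exact congrArg Subtype.val this
  rw [hbot, Subgroup.mem_bot] at hzmem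
  apply hz
  apply Subtype.ext
  apply Subtype.ext
  exact hzmem

theorem normalizer_le_normalizer_center (P : Subgroup H) :
    Subgroup.normalizer (P : Set H) ≤
      Subgroup.normalizer ((P ⊓ Subgroup.centralizer (P : Set H) : Subgroup H) : Set H) := by
  intro n hn
  apply mem_normalizer_of_cj_eq
  rw [cj_inf, cj_centralizer, cj_eq_of_mem_normalizer hn]

theorem isLarge_cj {Q : Subgroup H} (hL : Cfsg.IsLarge Q) (g : H) : Cfsg.IsLarge (cj g Q) := by
  obtain ⟨h1, h2⟩ := hL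
  refine ⟨?_, ?_⟩
  · rw [← cj_centralizer]; exact cj_mono h1
  · intro U hU hU1
    rw [← cj_centralizer, ← cj_cj_inv g U] at hU
    have hU' : cj g⁻¹ U ≤ Subgroup.centralizer (Q : Set H) := by
      have := cj_mono (g := g⁻¹) hU
      rwa [cj_inv_cj, cj_inv_cj] at this
    have hU1' : cj g⁻¹ U ≠ ⊥ := fun h => hU1 (cj_eq_bot_iff.1 h)
    have h3 := h2 _ hU' hU1'
    rw [← cj_normalizer] at h3
    rw [← cj_normalizer]
    have h4 := cj_le_iff.1 h3
    rwa [inv_inv] at h4

/-- For a large `p`-subgroup `Q` inside the Sylow subgroup `T`: `N(T) ≤ N(Q)`. -/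
theorem isLarge_normalizer_sylow_le [Finite H] {p : ℕ} [Fact p.Prime] {Q : Subgroup H}
    (hL : Cfsg.IsLarge Q) (hQ1 : Q ≠ ⊥) (T : Sylow p H) (hQT : Q ≤ (T : Subgroup H)) :
    Subgroup.normalizer ((T : Subgroup H) : Set H) ≤ Subgroup.normalizer (Q : Set H) := by
  have hT1 : (T : Subgroup H) ≠ ⊥ := fun h => hQ1 (le_bot_iff.mp (h ▸ hQT))
  have hZ1 := center_ne_bot_of_isPGroup (T : Subgroup H) T.isPGroup' hT1
  have hZC : (T : Subgroup H) ⊓ Subgroup.centralizer ((T : Subgroup H) : Set H) ≤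
      Subgroup.centralizer (Q : Set H) :=
    inf_le_right.trans (Subgroup.centralizer_le hQT)
  exact (normalizer_le_normalizer_center _).trans (hL.2 _ hZC hZ1)

/-- A large `p`-subgroup is weakly closed, in the strong form: `gQg⁻¹ ≤ T` forces `g ∈ N(Q)`. -/
theorem isLarge_mem_normalizer_of_cj_le [Finite H] {p : ℕ} [Fact p.Prime] {Q : Subgroup H}
    (hL : Cfsg.IsLarge Q) (hQ1 : Q ≠ ⊥) (T : Sylow p H) (hQT : Q ≤ (T : Subgroup H)) (g : H)
    (hg : cj g Q ≤ (T : Subgroup H)) : g ∈ Subgroup.normalizer (Q : Set H) := by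
  have hT' : ((g⁻¹ • T : Sylow p H) : Subgroup H) = cj g⁻¹ (T : Subgroup H) :=
    Cfsg.Agent.helper10.sylow_smul_eq_map_conj T g⁻¹
  have hQT' : Q ≤ ((g⁻¹ • T : Sylow p H) : Subgroup H) := by
    rw [hT']
    have := cj_mono (g := g⁻¹) hg
    rwa [cj_inv_cj] at this
  have h1 := isLarge_normalizer_sylow_le hL hQ1 T hQT
  have h2 := isLarge_normalizer_sylow_le hL hQ1 (g⁻¹ • T) hQT'
  obtain ⟨x, hx, hxe⟩ := Cfsg.Agent.helper10.sylow_conj_in_subgroup T (g⁻¹ • T)
    (Subgroup.normalizer (Q : Set H)) (Subgroup.le_normalizer.trans h1)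
    (Subgroup.le_normalizer.trans h2)
  rw [hT'] at hxe
  have h3 : cj (x * g⁻¹) (T : Subgroup H) = (T : Subgroup H) := by
    rw [← cj_cj]; exact hxe
  have h4 : x * g⁻¹ ∈ Subgroup.normalizer (Q : Set H) := h1 (mem_normalizer_of_cj_eq h3)
  have h5 : g⁻¹ ∈ Subgroup.normalizer (Q : Set H) := by
    have := Subgroup.mul_mem _ (Subgroup.inv_mem _ hx) h4
    rwa [← mul_assoc, inv_mul_cancel, one_mul] at this
  have := Subgroup.inv_mem _ h5
  rwa [inv_inv] at this

theorem le_centralizer_of_le_centralizer {A B : Subgroup H}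
    (h : A ≤ Subgroup.centralizer (B : Set H)) : B ≤ Subgroup.centralizer (A : Set H) := by
  intro b hb
  rw [Subgroup.mem_centralizer_iff]
  intro a ha
  exact ((Subgroup.mem_centralizer_iff.mp (h ha)) b hb).symm

/-- For large `Q` and `g ∉ N(Q)`: `C(Q) ∩ C(gQg⁻¹) = 1`. -/
theorem isLarge_centralizer_inf [Finite H] {p : ℕ} [Fact p.Prime] {Q : Subgroup H}
    (hQp : IsPGroup p Q) (hL : Cfsg.IsLarge Q) (hQ1 : Q ≠ ⊥) (g : H)
    (hg : g ∉ Subgroup.normalizer (Q : Set H)) :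
    Subgroup.centralizer (Q : Set H) ⊓ Subgroup.centralizer ((cj g Q : Subgroup H) : Set H) = ⊥ := by
  by_contra hU1
  have hLg := isLarge_cj hL g
  have hN1 := hL.2 _ inf_le_left hU1
  have hN2 := hLg.2 _ inf_le_right hU1
  have hQU : Q ≤ Subgroup.normalizer ((Subgroup.centralizer (Q : Set H) ⊓
      Subgroup.centralizer ((cj g Q : Subgroup H) : Set H) : Subgroup H) : Set H) :=
    (le_centralizer_of_le_centralizer inf_le_left).trans (Subgroup.centralizer_le_normalizer _)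
  have hQgU : cj g Q ≤ Subgroup.normalizer ((Subgroup.centralizer (Q : Set H) ⊓
      Subgroup.centralizer ((cj g Q : Subgroup H) : Set H) : Subgroup H) : Set H) :=
    (le_centralizer_of_le_centralizer inf_le_right).trans (Subgroup.centralizer_le_normalizer _)
  have hQgp : IsPGroup p (cj g Q) := hQp.map _
  have hR : IsPGroup p (Q ⊔ cj g Q : Subgroup H) :=
    IsPGroup.to_sup_of_normal_right' hQp hQgp (hQU.trans hN2)
  obtain ⟨T, hT⟩ := hR.exists_le_sylow
  exact hg (isLarge_mem_normalizer_of_cj_le hL hQ1 T (le_sup_left.trans hT) g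
    (le_sup_right.trans hT))

end Cfsg.Agent.helper14
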