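import Mathlib
import Cfsg.Prelude.Def_LocalStructure
import Cfsg.Agent.Lib_helper14_Large
import Cfsg.Agent.Lib_helper14_OpSub
import Cfsg.Agent.Lib_helper14_CharP
import Cfsg.Agent.Lib_helper7_Coprime
import Cfsg.Agent.Lib_helper7_Fitting

set_option autoImplicit false
open Cfsg
open scoped commutatorElement

namespace Cfsg.Agent.helper14

open Cfsg.Agent.helper7

variable {H : Type*} [Group H]

/-- A `p`-group `Q` normalizing a nontrivial `p`-group `Y` centralizes a nontrivial element. -/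
theorem inf_centralizer_ne_bot_of_le_normalizer [Finite H] {p : ℕ} [hp : Fact p.Prime]
    (Y Q : Subgroup H) (hYp : IsPGroup p Y) (hQp : IsPGroup p Q) (hY1 : Y ≠ ⊥)
    (hQY : Q ≤ Subgroup.normalizer (Y : Set H)) : Y ⊓ Subgroup.centralizer (Q : Set H) ≠ ⊥ := by
  obtain ⟨k, hk⟩ := IsPGroup.iff_card.mp hYp
  have hk0 : k ≠ 0 := by
    rintro rfl
    rw [pow_zero] at hk
    exact hY1 (Subgroup.card_eq_one.mp hk)
  have hinv : ∀ g ∈ Q, ∀ x ∈ ((Y : Set H) \ {1}), g * x * g⁻¹ ∈ ((Y : Set H) \ {1}) := by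
    rintro g hg x ⟨hxY, hx1⟩
    refine ⟨(Subgroup.mem_normalizer_iff.mp (hQY hg) x).mp hxY, ?_⟩
    intro h
    apply hx1
    have h' : g * x * g⁻¹ = 1 := h
    have e : x = 1 := by
      have e1 : x = g⁻¹ * (g * x * g⁻¹) * g := by group
      rw [e1, h']; group
    exact e
  have hcard : ¬ p ∣ Nat.card ↥((Y : Set H) \ {1}) := by
    rw [Nat.card_coe_set_eq, Set.ncard_diff_singleton_of_mem (Subgroup.one_mem Y),
      ← Nat.card_coe_set_eq]
    have h1 : Nat.card ↥(Y : Set H) = p ^ k := hk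
    rw [h1]
    intro hdvd
    have h2 : p ∣ p ^ k := dvd_pow_self p hk0
    have h3 : 1 ≤ p ^ k := Nat.one_le_pow _ _ hp.out.pos
    have h4 : p ∣ p ^ k - (p ^ k - 1) := Nat.dvd_sub h2 hdvd
    have h5 : p ^ k - (p ^ k - 1) = 1 := by omega
    rw [h5] at h4
    exact hp.out.one_lt.ne' (Nat.dvd_one.mp h4)
  obtain ⟨x, ⟨hxY, hx1⟩, hfix⟩ := exists_fixed_of_invariant hQp _ hinv hcard
  intro hbot
  have hx : x ∈ Y ⊓ Subgroup.centralizer (Q : Set H) := by
    refine Subgroup.mem_inf.mpr ⟨hxY, ?_⟩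
    rw [Subgroup.mem_centralizer_iff]
    intro g hg
    have := hfix g hg
    calc g * x = (g * x * g⁻¹) * g := by group
      _ = x * g := by rw [this]
  rw [hbot, Subgroup.mem_bot] at hx
  exact hx1 hx

theorem isLarge_centralizer_le_normalizer [Finite H] {p : ℕ} [Fact p.Prime] {Q : Subgroup H}
    (hL : Cfsg.IsLarge Q) (hQp : IsPGroup p Q) (Y : Subgroup H) (hYp : IsPGroup p Y) (hY1 : Y ≠ ⊥)
    (hQY : Q ≤ Subgroup.normalizer (Y : Set H)) :
    Subgroup.centralizer (Y : Set H) ≤ Subgroup.normalizer (Q : Set H) := by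
  have hU1 := inf_centralizer_ne_bot_of_le_normalizer Y Q hYp hQp hY1 hQY
  have h1 : Subgroup.centralizer (Y : Set H) ≤
      Subgroup.centralizer ((Y ⊓ Subgroup.centralizer (Q : Set H) : Subgroup H) : Set H) :=
    Subgroup.centralizer_le inf_le_left
  exact (h1.trans (Subgroup.centralizer_le_normalizer _)).trans (hL.2 _ inf_le_right hU1)

theorem commute_of_coprime_of_comm_mem {p : ℕ} [Fact p.Prime] (M : Subgroup H)
    (hM : IsPGroup p ↥M) (g u : H) (hco : (orderOf g).Coprime p)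
    (hcm : g * u * g⁻¹ * u⁻¹ ∈ M) (hgc : ∀ c ∈ M, g * c = c * g) : u * g = g * u := by
  obtain ⟨c, hc⟩ : ∃ c : H, c = g * u * g⁻¹ * u⁻¹ := ⟨_, rfl⟩
  rw [← hc] at hcm
  have hcomm : Commute g c := hgc c hcm
  have hgu : g * u * g⁻¹ = c * u := by rw [hc]; group
  have hpow : ∀ k : ℕ, g ^ k * u * (g ^ k)⁻¹ = c ^ k * u := by
    intro k
    induction k with
    | zero => simp
    | succ k ih =>
      have hck : g * c ^ k = c ^ k * g := (hcomm.pow_right k).eq
      calc g ^ (k + 1) * u * (g ^ (k + 1))⁻¹ = g * (g ^ k * u * (g ^ k)⁻¹) * g⁻¹ := by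
            rw [pow_succ']; group
        _ = g * (c ^ k * u) * g⁻¹ := by rw [ih]
        _ = (g * c ^ k) * (g⁻¹ * (g * u * g⁻¹)) := by group
        _ = (c ^ k * g) * (g⁻¹ * (c * u)) := by rw [hck, hgu]
        _ = c ^ (k + 1) * u := by rw [pow_succ]; group
  have h1 := hpow (orderOf g)
  rw [pow_orderOf_eq_one] at h1
  have h2 : c ^ orderOf g = 1 := by
    have : u = c ^ orderOf g * u := by simpa using h1
    have h3 : c ^ orderOf g * u = 1 * u := by rw [one_mul]; exact this.symm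
    exact mul_right_cancel h3
  obtain ⟨j, hj⟩ := coe_pow_eq_one_of_isPGroup M hM c hcm
  have h3 : orderOf c ∣ Nat.gcd (orderOf g) (p ^ j) :=
    Nat.dvd_gcd (orderOf_dvd_of_pow_eq_one h2) (orderOf_dvd_of_pow_eq_one hj)
  have h4 : Nat.gcd (orderOf g) (p ^ j) = 1 := Nat.Coprime.pow_right j hco
  rw [h4, Nat.dvd_one, orderOf_eq_one_iff] at h3
  rw [h3] at hgu
  have : g * u * g⁻¹ = u := by rw [hgu, one_mul]
  calc u * g = (g * u * g⁻¹) * g := by rw [this]
    _ = g * u := by group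

theorem le_normalizer_inf' {N A B : Subgroup H} (hA : N ≤ Subgroup.normalizer (A : Set H))
    (hB : N ≤ Subgroup.normalizer (B : Set H)) :
    N ≤ Subgroup.normalizer ((A ⊓ B : Subgroup H) : Set H) := by
  intro g hg
  apply mem_normalizer_of_cj_eq
  rw [cj_inf, cj_eq_of_mem_normalizer (hA hg), cj_eq_of_mem_normalizer (hB hg)]

theorem isPGroup_of_forall_coprime_eq_one [Finite H] {p : ℕ} [Fact p.Prime] (C : Subgroup H)
    (h : ∀ x ∈ C, (orderOf x).Coprime p → x = 1) : IsPGroup p C := by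
  have hbot : opOf p C = ⊥ := by
    unfold opOf
    rw [Subgroup.closure_eq_bot_iff]
    rintro x ⟨hx, hco⟩
    exact h x hx hco
  rintro ⟨g, hg⟩
  refine ⟨(orderOf g).factorization p, ?_⟩
  have h1 := pow_mem_opOf (p := p) hg
  rw [hbot, Subgroup.mem_bot] at h1
  apply Subtype.ext
  rw [Subgroup.coe_pow]
  exact h1

theorem pCoreOf_eq_piCoreIn [Finite H] {p : ℕ} [hp : Fact p.Prime] (L : Subgroup H) :
    Cfsg.pCoreOf p L = piCoreIn {p} L := by
  unfold Cfsg.pCoreOf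
  exact map_pCore_eq hp.out L

/-- For large `Q ≤ L` with `O_p(L) ≠ 1`: `C_Q(O_p(L)) ≤ O_p(L)`. -/
theorem isLarge_inf_centralizer_le_pCoreOf [Finite H] {p : ℕ} [hp : Fact p.Prime] {Q : Subgroup H}
    (hL : Cfsg.IsLarge Q) (hQp : IsPGroup p Q) (L : Subgroup H) (hQL : Q ≤ L)
    (hY1 : Cfsg.pCoreOf p L ≠ ⊥) :
    Q ⊓ Subgroup.centralizer ((Cfsg.pCoreOf p L : Subgroup H) : Set H) ≤ Cfsg.pCoreOf p L := by
  have hLY : L ≤ Subgroup.normalizer ((Cfsg.pCoreOf p L : Subgroup H) : Set H) :=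
    le_normalizer_pCoreOf p L
  have hCN := isLarge_centralizer_le_normalizer hL hQp _ (pCoreOf_isPGroup L) hY1 (hQL.trans hLY)
  have h1 : L ⊓ Subgroup.centralizer ((Cfsg.pCoreOf p L : Subgroup H) : Set H) ≤
      Subgroup.normalizer ((Q ⊓ Subgroup.centralizer ((Cfsg.pCoreOf p L : Subgroup H) : Set H) :
        Subgroup H) : Set H) :=
    le_normalizer_inf' (inf_le_right.trans hCN) (inf_le_right.trans Subgroup.le_normalizer)
  have hsn : SN (Q ⊓ Subgroup.centralizer ((Cfsg.pCoreOf p L : Subgroup H) : Set H)) L :=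
    SN.step _ (L ⊓ Subgroup.centralizer ((Cfsg.pCoreOf p L : Subgroup H) : Set H)) L
      (inf_le_inf_right _ hQL) h1
      (SN.of_normal inf_le_left (le_normalizer_inf_centralizer L _ hLY))
  rw [pCoreOf_eq_piCoreIn]
  rw [pCoreOf_eq_piCoreIn] at hsn
  exact le_piCoreIn_of_sn hsn ((isPGroup_iff_piGrp hp.out).1 (hQp.to_le inf_le_left))

/-- For large `Q ≤ L` with `O_p(L) ≠ 1`: `C_H(O_p(L))` is a `p`-group. -/
theorem isLarge_isPGroup_centralizer_pCoreOf [Finite H] {p : ℕ} [hp : Fact p.Prime]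
    {Q : Subgroup H} (hL : Cfsg.IsLarge Q) (hQp : IsPGroup p Q) (L : Subgroup H) (hQL : Q ≤ L)
    (hY1 : Cfsg.pCoreOf p L ≠ ⊥) :
    IsPGroup p ↥(Subgroup.centralizer ((Cfsg.pCoreOf p L : Subgroup H) : Set H)) := by
  have hLY : L ≤ Subgroup.normalizer ((Cfsg.pCoreOf p L : Subgroup H) : Set H) :=
    le_normalizer_pCoreOf p L
  have hYp : IsPGroup p (Cfsg.pCoreOf p L) := pCoreOf_isPGroup L
  have hCN := isLarge_centralizer_le_normalizer hL hQp _ hYp hY1 (hQL.trans hLY)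
  have hD := isLarge_inf_centralizer_le_pCoreOf hL hQp L hQL hY1
  have hQC : Q ≤ Subgroup.normalizer ((Subgroup.centralizer
      ((Cfsg.pCoreOf p L : Subgroup H) : Set H) : Subgroup H) : Set H) :=
    (hQL.trans hLY).trans (normalizer_le_normalizer_centralizer _)
  apply isPGroup_of_forall_coprime_eq_one
  intro x hx hco
  have hxc : ∀ c ∈ Cfsg.pCoreOf p L, x * c = c * x := by
    intro c hc
    exact ((Subgroup.mem_centralizer_iff.mp hx) c hc).symm
  have hxQ : x ∈ Subgroup.centralizer (Q : Set H) := by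
    rw [Subgroup.mem_centralizer_iff]
    intro q hq
    apply commute_of_coprime_of_comm_mem _ hYp x q hco _ hxc
    apply hD
    refine Subgroup.mem_inf.mpr ⟨?_, ?_⟩
    · exact Q.mul_mem ((Subgroup.mem_normalizer_iff.mp (hCN hx) q).mp hq) (Q.inv_mem hq)
    · have h2 : q * x⁻¹ * q⁻¹ ∈ Subgroup.centralizer ((Cfsg.pCoreOf p L : Subgroup H) : Set H) :=
        (Subgroup.mem_normalizer_iff.mp (hQC hq) x⁻¹).mp (Subgroup.inv_mem _ hx)
      have e : x * q * x⁻¹ * q⁻¹ = x * (q * x⁻¹ * q⁻¹) := by group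
      rw [e]
      exact Subgroup.mul_mem _ hx h2
  have hxQ' : x ∈ Q := hL.1 hxQ
  obtain ⟨j, hj⟩ := coe_pow_eq_one_of_isPGroup Q hQp x hxQ'
  have h3 : orderOf x ∣ Nat.gcd (orderOf x) (p ^ j) :=
    Nat.dvd_gcd dvd_rfl (orderOf_dvd_of_pow_eq_one hj)
  have h4 : Nat.gcd (orderOf x) (p ^ j) = 1 := Nat.Coprime.pow_right j hco
  rw [h4, Nat.dvd_one, orderOf_eq_one_iff] at h3
  exact h3

end Cfsg.Agent.helper14
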