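import Mathlib
import Cfsg.Agent.Lib_helper14_FStarP
import Cfsg.Agent.Lib_helper14_Large2

set_option autoImplicit false

/-!
Commutators of `p`-subgroups with `F*` when `O_p = 1`.
-/

namespace Cfsg.Agent.helper14

open Cfsg.Agent.helper7

open scoped commutatorElement

/-- If `X = [X,Y]` and `Y ≤ K` with `K` subnormal in `H ≥ X`, then `X ≤ K`. -/
theorem le_of_sn_of_commutator_eq {G : Type*} [Group G] {K H Y X : Subgroup G} (h : SN K H)
    (hY : Y ≤ K) (hX : X ≤ H) (hXY : ⁅X, Y⁆ = X) : X ≤ K := by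
  induction h with
  | refl K => exact hX
  | step K₁ K₂ H h12 hn _ ih =>
    have h1 : X ≤ K₂ := ih (hY.trans h12) hX
    rw [← hXY, Subgroup.commutator_comm]
    exact comm_le_of_normal hY (h1.trans hn)

/-- A `p`-subgroup of a group of order prime to `p` is trivial. -/
theorem eq_bot_of_isPGroup_of_le_of_not_dvd {G : Type*} [Group G] [Finite G] {p : ℕ}
    [hp : Fact p.Prime] {Y F : Subgroup G} (hY : IsPGroup p Y) (hYF : Y ≤ F)
    (hF : ¬ p ∣ Nat.card F) : Y = ⊥ := by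
  obtain ⟨n, hn⟩ := IsPGroup.iff_card.mp hY
  have h1 : Nat.card Y ∣ Nat.card F := Subgroup.card_dvd_of_le hYF
  rcases Nat.eq_zero_or_pos n with h0 | h0
  · rw [h0, pow_zero] at hn
    exact Subgroup.card_eq_one.mp hn
  · exfalso
    apply hF
    rw [hn] at h1
    exact (dvd_pow_self p h0.ne').trans h1

/-- `Z(F*(H)) ≤ F(H)`. -/
theorem fstarOf_inf_centralizer_le_fitOf {G : Type*} [Group G] [Finite G] (H : Subgroup G) :
    fstarOf H ⊓ Subgroup.centralizer (fstarOf H : Set G) ≤ fitOf H := by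
  apply nilpotent_sn_le_fitOf
  · apply SN.of_normal (inf_le_left.trans (fstarOf_le H))
    exact le_normalizer_inf' (fstarOf_normal H)
      ((fstarOf_normal H).trans (normalizer_le_normalizer_centralizer _))
  · apply nilpotent_of_comm_le_centralizer
    have h1 : ⁅fstarOf H ⊓ Subgroup.centralizer (fstarOf H : Set G),
        fstarOf H ⊓ Subgroup.centralizer (fstarOf H : Set G)⁆ = ⊥ := by
      rw [Subgroup.commutator_eq_bot_iff_le_centralizer]
      exact inf_le_right.trans (Subgroup.centralizer_le inf_le_left)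
    rw [h1]
    exact bot_le

/-- `[F*(H),Y] = [F*(K),Y] = [F*(K),Y,Y]` for `Y ≤ K` subnormal in `H`, `O_p(H) = 1`. -/
theorem fstar_comm_sn {G : Type*} [Group G] [Finite G] {p : ℕ} [hp : Fact p.Prime]
    (H K Y : Subgroup G) (hO : piCoreIn {p} H = ⊥) (hY : IsPGroup p Y)
    (hKH : SN K H) (hYK : Y ≤ K) :
    ⁅fstarOf H, Y⁆ = ⁅fstarOf K, Y⁆ ∧ ⁅fstarOf K, Y⁆ = ⁅⁅fstarOf K, Y⁆, Y⁆ := by
  have hYH : Y ≤ H := hYK.trans hKH.le
  have hYN : Y ≤ Subgroup.normalizer ((fstarOf H : Subgroup G) : Set G) :=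
    hYH.trans (fstarOf_normal H)
  obtain ⟨-, h2⟩ := fstar_split H Y (fstarOf H) hO hY le_rfl (fstarOf_sn H) hYN
  have hXF : ⁅fstarOf H, Y⁆ ≤ fstarOf H := commutator_le_left_of_le_normalizer _ _ hYN
  have hXK : ⁅fstarOf H, Y⁆ ≤ K :=
    le_of_sn_of_commutator_eq hKH hYK (hXF.trans (fstarOf_le H)) h2.symm
  have hS1 : SN (fstarOf H ⊓ K) (fstarOf H) := by
    have := hKH.inf_right (fstarOf H)
    rwa [inf_eq_right.mpr (fstarOf_le H), inf_comm] at this
  have hS2 : SN (fstarOf H ⊓ K) K := by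
    have := (fstarOf_sn H).inf_right K
    rwa [inf_eq_right.mpr hKH.le] at this
  have hS3 : fstarOf H ⊓ K ≤ fstarOf K := by
    have h3 := sn_fstarOf_eq hS1
    have h4 := fstarOf_le_of_sn hS2
    exact h3.le.trans h4
  have hXFK : ⁅fstarOf H, Y⁆ ≤ fstarOf K := (le_inf hXF hXK).trans hS3
  have hle : ⁅fstarOf K, Y⁆ ≤ ⁅fstarOf H, Y⁆ :=
    Subgroup.commutator_mono (fstarOf_le_of_sn hKH) le_rfl
  have heq : ⁅fstarOf H, Y⁆ = ⁅fstarOf K, Y⁆ := by
    apply le_antisymm _ hle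
    calc ⁅fstarOf H, Y⁆ = ⁅⁅fstarOf H, Y⁆, Y⁆ := h2
      _ ≤ ⁅fstarOf K, Y⁆ := Subgroup.commutator_mono hXFK le_rfl
  refine ⟨heq, ?_⟩
  rw [← heq]
  exact h2

/-- If `[F*(H),Y,Y₀] = 1` with `Y₀ ≤ Y` then `Y₀ = 1`. -/
theorem eq_bot_of_fstar_comm_comm_eq_bot {G : Type*} [Group G] [Finite G] {p : ℕ}
    [hp : Fact p.Prime] (H Y Y₀ : Subgroup G) (hO : piCoreIn {p} H = ⊥) (hY : IsPGroup p Y)
    (hYH : Y ≤ H) (hY₀ : Y₀ ≤ Y) (h : ⁅⁅fstarOf H, Y⁆, Y₀⁆ = ⊥) : Y₀ = ⊥ := by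
  have hYN : Y ≤ Subgroup.normalizer ((fstarOf H : Subgroup G) : Set G) :=
    hYH.trans (fstarOf_normal H)
  obtain ⟨h1, -⟩ := fstar_split H Y (fstarOf H) hO hY le_rfl (fstarOf_sn H) hYN
  have h3 : fstarOf H ≤ Subgroup.centralizer (Y₀ : Set G) := by
    rw [← h1]
    apply sup_le
    · exact Subgroup.commutator_eq_bot_iff_le_centralizer.mp h
    · exact inf_le_right.trans (Subgroup.centralizer_le hY₀)
  have h4 : Y₀ ≤ Subgroup.centralizer (fstarOf H : Set G) := Subgroup.le_centralizer_iff.mp h3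
  have h5 : Y₀ ≤ fstarOf H :=
    (le_inf (hY₀.trans hYH) h4).trans (centralizer_fstarOf_le H)
  have h6 : Y₀ ≤ fitOf H := (le_inf h5 h4).trans (fstarOf_inf_centralizer_le_fitOf H)
  exact eq_bot_of_isPGroup_of_le_of_not_dvd (hY.to_le hY₀) h6
    (fitOf_not_dvd_of_piCoreIn_eq_bot hO (SN.refl H))

end Cfsg.Agent.helper14
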