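import Mathlib
import Cfsg.Prelude.Def_LocalStructure
import Cfsg.Agent.Lib_helper14_FStarP2
import Cfsg.Agent.Lib_helper10_PResidual

set_option autoImplicit false

/-!
Groups `H` with `O_p(H) = 1` and `O^p(H)` quasisimple.
-/

namespace Cfsg.Agent.helper14

open Cfsg.Agent.helper7

open scoped commutatorElement

/-- A perfect subgroup lies in `O^p(H)`. -/
theorem perfect_le_pResidual {H : Type*} [Group H] [Finite H] {p : ℕ} [hp : Fact p.Prime]
    (C : Subgroup H) (hC : ⁅C, C⁆ = C) : C ≤ Cfsg.pResidual p H := by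
  haveI := Cfsg.Agent.helper10.pResidual_normal p H
  have hpg : IsPGroup p (H ⧸ Cfsg.pResidual p H) :=
    Cfsg.Agent.helper10.quotient_pResidual_isPGroup p
  haveI : Group.IsNilpotent (H ⧸ Cfsg.pResidual p H) := hpg.isNilpotent
  obtain ⟨n, hn⟩ := (isSolvable_def (H ⧸ Cfsg.pResidual p H)).mp inferInstance
  have h1 : derivedSeries H n ≤ Cfsg.pResidual p H := by
    have h2 := map_derivedSeries_le_derivedSeries (QuotientGroup.mk' (Cfsg.pResidual p H)) n
    rw [hn, le_bot_iff] at h2
    intro x hx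
    have h3 : (QuotientGroup.mk' (Cfsg.pResidual p H)) x ∈
        (derivedSeries H n).map (QuotientGroup.mk' (Cfsg.pResidual p H)) :=
      Subgroup.mem_map_of_mem _ hx
    rw [h2, Subgroup.mem_bot] at h3
    exact (QuotientGroup.eq_one_iff x).mp h3
  have h4 : ∀ k : ℕ, C ≤ derivedSeries H k := by
    intro k
    induction k with
    | zero => exact le_top
    | succ k ih =>
      rw [derivedSeries_succ, ← hC]
      exact Subgroup.commutator_mono ih ih
  exact (h4 n).trans h1

/-- Elements of a subgroup of order prime to `p` lie in `O^p(H)`. -/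
theorem le_pResidual_of_not_dvd {H : Type*} [Group H] [Finite H] {p : ℕ} [hp : Fact p.Prime]
    (F : Subgroup H) (hF : ¬ p ∣ Nat.card F) : F ≤ Cfsg.pResidual p H := by
  intro x hx
  apply Subgroup.subset_closure
  show Nat.Coprime (orderOf x) p
  rw [Nat.coprime_comm, Nat.Prime.coprime_iff_not_dvd hp.out]
  intro hdvd
  exact hF (hdvd.trans (F.orderOf_dvd_natCard hx))

/-- Structure of `H` when `O_p(H) = 1` and `K = O^p(H)` is quasisimple. -/
theorem qs_pResidual_structure {H : Type*} [Group H] [Finite H] {p : ℕ} [hp : Fact p.Prime]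
    (hO : piCoreIn {p} (⊤ : Subgroup H) = ⊥) (hq : QS (Cfsg.pResidual p H)) :
    Cfsg.pResidual p H = fstarOf (⊤ : Subgroup H) ∧
    (∀ Y : Subgroup H, IsPGroup p ↥Y → Y ≠ ⊥ →
      ⁅Cfsg.pResidual p H, Y⁆ = Cfsg.pResidual p H ∧
      Cfsg.pResidual p H ≤ ⨆ k : ↥(Cfsg.pResidual p H), Y.map (MulAut.conj (k : H)).toMonoidHom) ∧
    (∀ C : Subgroup H, C.Normal → ¬ Cfsg.pResidual p H ≤ C → ¬ p ∣ Nat.card C) := by
  have hKn : (Cfsg.pResidual p H).Normal := Cfsg.Agent.helper10.pResidual_normal p H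
  have hKN : (⊤ : Subgroup H) ≤ Subgroup.normalizer ((Cfsg.pResidual p H : Subgroup H) : Set H) := by
    rw [Subgroup.normalizer_eq_top_iff.mpr hKn]
  have hKcomp : Comp (Cfsg.pResidual p H) ⊤ := ⟨SN.of_normal le_top hKN, hq⟩
  have hFcop : ¬ p ∣ Nat.card (fitOf (⊤ : Subgroup H)) :=
    fitOf_not_dvd_of_piCoreIn_eq_bot hO (SN.refl ⊤)
  have h1 : Cfsg.pResidual p H = fstarOf (⊤ : Subgroup H) := by
    apply le_antisymm
    · exact (comp_le_layerOf hKcomp).trans le_sup_left
    · apply sup_le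
      · apply sSup_le
        intro C hC
        exact perfect_le_pResidual C hC.2.1
      · exact le_pResidual_of_not_dvd _ hFcop
  have hZ : ∀ C : Subgroup H, C ≤ Subgroup.centralizer ((Cfsg.pResidual p H : Subgroup H) : Set H) →
      C ≤ fitOf (⊤ : Subgroup H) := by
    intro C hC
    rw [h1] at hC
    have h2 : C ≤ fstarOf (⊤ : Subgroup H) :=
      (le_inf le_top hC).trans (centralizer_fstarOf_le ⊤)
    exact (le_inf h2 hC).trans (fstarOf_inf_centralizer_le_fitOf ⊤)
  refine ⟨h1, ?_, ?_⟩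
  · intro Y hY hY1
    have hYK : Y ≤ Subgroup.normalizer ((Cfsg.pResidual p H : Subgroup H) : Set H) :=
      le_top.trans hKN
    have hXK : ⁅Cfsg.pResidual p H, Y⁆ ≤ Cfsg.pResidual p H :=
      commutator_le_left_of_le_normalizer _ _ hYK
    have hKX : Cfsg.pResidual p H ≤
        Subgroup.normalizer ((⁅Cfsg.pResidual p H, Y⁆ : Subgroup H) : Set H) :=
      left_le_normalizer_commutator _ _
    have hcomm : ⁅Cfsg.pResidual p H, Y⁆ = Cfsg.pResidual p H := by
      rcases hq.2.2 _ hXK hKX with h2 | h2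
      · exact h2
      · exfalso
        apply hY1
        have h3 : ⁅⁅Cfsg.pResidual p H, Y⁆, Cfsg.pResidual p H⁆ = ⊥ :=
          Subgroup.commutator_eq_bot_iff_le_centralizer.mpr h2
        have h4 : ⁅⁅Y, Cfsg.pResidual p H⁆, Cfsg.pResidual p H⁆ = ⊥ := by
          rw [Subgroup.commutator_comm Y]; exact h3
        have h5 : ⁅⁅Cfsg.pResidual p H, Cfsg.pResidual p H⁆, Y⁆ = ⊥ :=
          Subgroup.commutator_commutator_eq_bot_of_rotate h3 h4
        rw [hq.1] at h5
        have h6 : Y ≤ Subgroup.centralizer ((Cfsg.pResidual p H : Subgroup H) : Set H) := by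
          rw [Subgroup.commutator_comm] at h5
          exact Subgroup.commutator_eq_bot_iff_le_centralizer.mp h5
        exact eq_bot_of_isPGroup_of_le_of_not_dvd hY (hZ Y h6) hFcop
    refine ⟨hcomm, ?_⟩
    have h7 : ⁅Cfsg.pResidual p H, Y⁆ ≤
        ⨆ k : ↥(Cfsg.pResidual p H), Y.map (MulAut.conj (k : H)).toMonoidHom := by
      rw [Subgroup.commutator_le]
      intro k hk y hy
      rw [commutatorElement_def]
      have e : k * y * k⁻¹ * y⁻¹ = (k * y * k⁻¹) * y⁻¹ := by group
      rw [e]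
      apply Subgroup.mul_mem
      · apply Subgroup.mem_iSup_of_mem (⟨k, hk⟩ : ↥(Cfsg.pResidual p H))
        exact ⟨y, hy, rfl⟩
      · apply Subgroup.mem_iSup_of_mem (⟨1, Subgroup.one_mem _⟩ : ↥(Cfsg.pResidual p H))
        exact ⟨y⁻¹, Y.inv_mem hy, by simp⟩
    rw [hcomm] at h7
    exact h7
  · intro C hCn hKC
    have hCsn : SN C ⊤ := SN.of_normal le_top (by rw [Subgroup.normalizer_eq_top_iff.mpr hCn])
    rcases comp_le_or_comm hKcomp.1 hKcomp.2 hCsn with h2 | h2
    · exact absurd h2 hKC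
    · have h3 : C ≤ Subgroup.centralizer ((Cfsg.pResidual p H : Subgroup H) : Set H) := by
        rw [Subgroup.commutator_comm] at h2
        exact Subgroup.commutator_eq_bot_iff_le_centralizer.mp h2
      intro hdvd
      exact hFcop (hdvd.trans (Subgroup.card_dvd_of_le (hZ C h3)))

end Cfsg.Agent.helper14
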