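import Mathlib

set_option autoImplicit false

namespace Cfsg.Agent.helper14

/-- Vanishing of a 1-cocycle which is trivial on a subgroup `S` of index prime to `p`
(injectivity of restriction to a Sylow subgroup in degree one), in commutator form:
if `z` centralizes `S ≤ D`, all commutators `[z, d]` (`d ∈ D`) lie in an abelian group `W` of
exponent `p` normalized by `D`, and every element of `W` centralized by `S` is centralized by `D`,
then `z` centralizes `D`. -/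
theorem commute_of_cocycle_vanish {G : Type*} [Group G] {p : ℕ} [hp : Fact p.Prime]
    (D S W : Subgroup G) [Finite ↥D] (hSD : S ≤ D) (hidx : ¬ p ∣ S.relIndex D)
    (hWc : ∀ a ∈ W, ∀ b ∈ W, a * b = b * a) (hWp : ∀ a ∈ W, a ^ p = 1)
    (hDW : D ≤ Subgroup.normalizer (W : Set G)) (z : G)
    (hzW : ∀ d ∈ D, z * d * z⁻¹ * d⁻¹ ∈ W) (hzS : ∀ s ∈ S, z * s = s * z)
    (hfix : ∀ w ∈ W, (∀ s ∈ S, w * s = s * w) → ∀ d ∈ D, w * d = d * w) :
    ∀ d ∈ D, z * d = d * z := by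
  classical
  haveI : Fintype (↥D ⧸ S.subgroupOf D) := Fintype.ofFinite _
  letI : CommGroup ↥W := { (inferInstance : Group ↥W) with
    mul_comm := fun a b => Subtype.ext (hWc a a.2 b b.2) }
  let gW : ↥D → ↥W := fun d => ⟨z * d * z⁻¹ * (d : G)⁻¹, hzW d d.2⟩
  let cj' : ↥D → ↥W → ↥W := fun d w =>
    ⟨d * w * (d : G)⁻¹, (Subgroup.mem_normalizer_iff.mp (hDW d.2) w).mp w.2⟩
  have hc1 : ∀ a b : ↥D, gW (a * b) = gW a * cj' a (gW b) := by
    intro a b
    apply Subtype.ext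
    show z * ((a : G) * b) * z⁻¹ * ((a : G) * b)⁻¹ =
      z * a * z⁻¹ * (a : G)⁻¹ * (a * (z * b * z⁻¹ * (b : G)⁻¹) * (a : G)⁻¹)
    group
  have hc2 : ∀ s : ↥D, (s : G) ∈ S → gW s = 1 := by
    intro s hs
    apply Subtype.ext
    show z * s * z⁻¹ * (s : G)⁻¹ = 1
    rw [hzS s hs]; group
  have hcj1 : ∀ a : ↥D, cj' a 1 = 1 := by
    intro a
    apply Subtype.ext
    show (a : G) * 1 * (a : G)⁻¹ = 1
    group
  have hcjmul : ∀ (d : ↥D) (u v : ↥W), cj' d (u * v) = cj' d u * cj' d v := by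
    intro d u v
    apply Subtype.ext
    show (d : G) * ((u : G) * v) * (d : G)⁻¹ = (d * u * (d : G)⁻¹) * (d * v * (d : G)⁻¹)
    group
  have hc3 : ∀ (d s : ↥D), (s : G) ∈ S → gW (d * s) = gW d := by
    intro d s hs
    rw [hc1, hc2 s hs, hcj1, mul_one]
  have hconst : ∀ a b : ↥D,
      (QuotientGroup.mk a : ↥D ⧸ S.subgroupOf D) = QuotientGroup.mk b → gW a = gW b := by
    intro a b hab
    have h1 : a⁻¹ * b ∈ S.subgroupOf D := QuotientGroup.eq.mp hab
    have h2 : b = a * (a⁻¹ * b) := by group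
    rw [h2]
    exact (hc3 a (a⁻¹ * b) (Subgroup.mem_subgroupOf.mp h1)).symm
  let cjHom : ↥D → (↥W →* ↥W) := fun d =>
    { toFun := cj' d, map_one' := hcj1 d, map_mul' := hcjmul d }
  have key : ∀ d : ↥D, cj' d (∏ q : ↥D ⧸ S.subgroupOf D, gW q.out) =
      (gW d)⁻¹ ^ (Fintype.card (↥D ⧸ S.subgroupOf D)) *
        ∏ q : ↥D ⧸ S.subgroupOf D, gW q.out := by
    intro d
    have h1 : cj' d (∏ q : ↥D ⧸ S.subgroupOf D, gW q.out) =
        ∏ q : ↥D ⧸ S.subgroupOf D, cj' d (gW q.out) :=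
      map_prod (cjHom d) _ _
    have h2 : ∀ q : ↥D ⧸ S.subgroupOf D,
        cj' d (gW q.out) = (gW d)⁻¹ * gW ((d • q).out) := by
      intro q
      have e1 : gW (d * q.out) = gW d * cj' d (gW q.out) := hc1 d q.out
      have e2 : gW (d * q.out) = gW ((d • q).out) := by
        apply hconst
        rw [QuotientGroup.out_eq']
        have : (QuotientGroup.mk (d * q.out) : ↥D ⧸ S.subgroupOf D) =
            d • (QuotientGroup.mk q.out : ↥D ⧸ S.subgroupOf D) := rfl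
        rw [this, QuotientGroup.out_eq']
      rw [← e2, e1, inv_mul_cancel_left]
    rw [h1]
    simp_rw [h2]
    rw [Finset.prod_mul_distrib, Finset.prod_const, Finset.card_univ]
    congr 1
    exact Fintype.prod_equiv (MulAction.toPerm d) _ _ (fun q => rfl)
  -- the product is centralized by `S`
  have hw₀S : ∀ s ∈ S, ((∏ q : ↥D ⧸ S.subgroupOf D, gW q.out : ↥W) : G) * s =
      s * ((∏ q : ↥D ⧸ S.subgroupOf D, gW q.out : ↥W) : G) := by
    intro s hs
    have h1 := key ⟨s, hSD hs⟩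
    rw [hc2 ⟨s, hSD hs⟩ hs, inv_one, one_pow, one_mul] at h1
    have h2 := congrArg Subtype.val h1
    have h3 : s * ((∏ q : ↥D ⧸ S.subgroupOf D, gW q.out : ↥W) : G) * s⁻¹ =
        ((∏ q : ↥D ⧸ S.subgroupOf D, gW q.out : ↥W) : G) := h2
    calc ((∏ q : ↥D ⧸ S.subgroupOf D, gW q.out : ↥W) : G) * s
        = (s * ((∏ q : ↥D ⧸ S.subgroupOf D, gW q.out : ↥W) : G) * s⁻¹) * s := by rw [h3]
      _ = s * ((∏ q : ↥D ⧸ S.subgroupOf D, gW q.out : ↥W) : G) := by group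
  have hw₀D := hfix _ (∏ q : ↥D ⧸ S.subgroupOf D, gW q.out : ↥W).2 hw₀S
  intro d hd
  have h1 := key ⟨d, hd⟩
  have h2 : cj' ⟨d, hd⟩ (∏ q : ↥D ⧸ S.subgroupOf D, gW q.out) =
      ∏ q : ↥D ⧸ S.subgroupOf D, gW q.out := by
    apply Subtype.ext
    show d * ((∏ q : ↥D ⧸ S.subgroupOf D, gW q.out : ↥W) : G) * d⁻¹ = _
    rw [← hw₀D d hd]; group
  rw [h2] at h1
  have h3 : (gW ⟨d, hd⟩)⁻¹ ^ (Fintype.card (↥D ⧸ S.subgroupOf D)) = 1 := by
    have := h1.symm
    rwa [mul_eq_right] at this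
  have h4 : (gW ⟨d, hd⟩) ^ (Fintype.card (↥D ⧸ S.subgroupOf D)) = 1 := by
    rw [inv_pow, inv_eq_one] at h3
    exact h3
  have h5 : (gW ⟨d, hd⟩) ^ p = 1 := by
    apply Subtype.ext
    rw [Subgroup.coe_pow]
    exact hWp _ (gW ⟨d, hd⟩).2
  have hcard : Fintype.card (↥D ⧸ S.subgroupOf D) = S.relIndex D := by
    rw [← Nat.card_eq_fintype_card]
    exact (Subgroup.index_eq_card _).symm
  have hco : Nat.Coprime p (S.relIndex D) := (Nat.Prime.coprime_iff_not_dvd hp.out).mpr hidx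
  have h6 : orderOf (gW ⟨d, hd⟩) ∣ 1 := by
    rw [← Nat.Coprime.gcd_eq_one hco]
    apply Nat.dvd_gcd (orderOf_dvd_of_pow_eq_one h5)
    rw [← hcard]
    exact orderOf_dvd_of_pow_eq_one h4
  have h7 : gW ⟨d, hd⟩ = 1 := orderOf_eq_one_iff.mp (Nat.dvd_one.mp h6)
  have h8 : z * d * z⁻¹ * d⁻¹ = 1 := congrArg Subtype.val h7
  calc z * d = (z * d * z⁻¹ * d⁻¹) * (d * z) := by group
    _ = d * z := by rw [h8, one_mul]

end Cfsg.Agent.helper14
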