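import Mathlib
import Cfsg.Prelude.Def_LocalStructure
import Cfsg.Agent.Lib_helper14_Large2
import Cfsg.Agent.Lib_helper14_Vanish
import Cfsg.Agent.Lib_helper14_PReduced2
import Cfsg.Agent.Lib_helper19_Sylow
import Cfsg.Agent.Lib_helper15_CharP

set_option autoImplicit false
open Cfsg

namespace Cfsg.Agent.helper14

open Cfsg.Agent.helper7

/-- Module lemma behind Kieler's Lemma: `D` normalized by the `p`-group `T`, `S ≤ D` of index prime
to `p` normalized by `T`, `W` an elementary abelian `p`-group normalized by `D` and `T`.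
If `C_W(T) ≤ C_W(D)` then `C_W(S) ≤ C_W(D)`. -/
theorem fixed_of_sylow_fixed {G : Type*} [Group G] [Finite G] {p : ℕ} [hp : Fact p.Prime]
    (D S T W : Subgroup G) (hSD : S ≤ D) (hidx : ¬ p ∣ S.relIndex D)
    (hWc : ∀ a ∈ W, ∀ b ∈ W, a * b = b * a) (hWp : ∀ a ∈ W, a ^ p = 1)
    (hDW : D ≤ Subgroup.normalizer (W : Set G)) (hTW : T ≤ Subgroup.normalizer (W : Set G))
    (hTD : T ≤ Subgroup.normalizer (D : Set G)) (hTS : T ≤ Subgroup.normalizer (S : Set G))
    (hTp : IsPGroup p T)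
    (hT : ∀ w ∈ W, (∀ t ∈ T, w * t = t * w) → ∀ d ∈ D, w * d = d * w) :
    ∀ w ∈ W, (∀ s ∈ S, w * s = s * w) → ∀ d ∈ D, w * d = d * w := by
  classical
  haveI : Fintype (↥D ⧸ S.subgroupOf D) := Fintype.ofFinite _
  letI : CommGroup ↥W := { (inferInstance : Group ↥W) with
    mul_comm := fun a b => Subtype.ext (hWc a a.2 b b.2) }
  let cjD : ↥D → (↥W →* ↥W) := fun d =>
    { toFun := fun w => ⟨d * w * (d : G)⁻¹, (Subgroup.mem_normalizer_iff.mp (hDW d.2) w).mp w.2⟩
      map_one' := by apply Subtype.ext; show (d : G) * 1 * (d : G)⁻¹ = 1; group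
      map_mul' := by
        intro u v
        apply Subtype.ext
        show (d : G) * ((u : G) * v) * (d : G)⁻¹ = (d * u * (d : G)⁻¹) * (d * v * (d : G)⁻¹)
        group }
  let cjT : ↥T → (↥W →* ↥W) := fun t =>
    { toFun := fun w => ⟨t * w * (t : G)⁻¹, (Subgroup.mem_normalizer_iff.mp (hTW t.2) w).mp w.2⟩
      map_one' := by apply Subtype.ext; show (t : G) * 1 * (t : G)⁻¹ = 1; group
      map_mul' := by
        intro u v
        apply Subtype.ext
        show (t : G) * ((u : G) * v) * (t : G)⁻¹ = (t * u * (t : G)⁻¹) * (t * v * (t : G)⁻¹)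
        group }
  have hcjD : ∀ (d : ↥D) (w : ↥W), ((cjD d w : ↥W) : G) = d * w * (d : G)⁻¹ := fun _ _ => rfl
  have hcjT : ∀ (t : ↥T) (w : ↥W), ((cjT t w : ↥W) : G) = t * w * (t : G)⁻¹ := fun _ _ => rfl
  let Nm : ↥W → ↥W := fun w => ∏ q : ↥D ⧸ S.subgroupOf D, cjD q.out w
  have hNmul : ∀ u v : ↥W, Nm (u * v) = Nm u * Nm v := by
    intro u v
    show ∏ q : ↥D ⧸ S.subgroupOf D, cjD q.out (u * v) = _
    simp_rw [map_mul]
    exact Finset.prod_mul_distrib
  have hNone : Nm 1 = 1 := by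
    show ∏ q : ↥D ⧸ S.subgroupOf D, cjD q.out 1 = 1
    simp_rw [map_one]
    exact Finset.prod_const_one
  have hNinv : ∀ u : ↥W, Nm u⁻¹ = (Nm u)⁻¹ := by
    intro u
    have h1 : Nm u⁻¹ * Nm u = 1 := by rw [← hNmul, inv_mul_cancel, hNone]
    exact eq_inv_of_mul_eq_one_left h1
  have hNpow : ∀ (u : ↥W) (k : ℕ), Nm (u ^ k) = (Nm u) ^ k := by
    intro u k
    induction k with
    | zero => rw [pow_zero, pow_zero, hNone]
    | succ k ih => rw [pow_succ, pow_succ, hNmul, ih]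
  -- predicates
  have hconst : ∀ w : ↥W, (∀ s ∈ S, (w : G) * s = s * w) → ∀ a b : ↥D,
      (QuotientGroup.mk a : ↥D ⧸ S.subgroupOf D) = QuotientGroup.mk b → cjD a w = cjD b w := by
    intro w hw a b hab
    have h1 : a⁻¹ * b ∈ S.subgroupOf D := QuotientGroup.eq.mp hab
    have h2 : ((a⁻¹ * b : ↥D) : G) ∈ S := Subgroup.mem_subgroupOf.mp h1
    have h3 := hw _ h2
    apply Subtype.ext
    rw [hcjD, hcjD]
    have e : (b : G) = a * ((a⁻¹ * b : ↥D) : G) := by
      simp only [Subgroup.coe_mul, Subgroup.coe_inv]; group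
    rw [e]
    generalize ((a⁻¹ * b : ↥D) : G) = s at h3
    calc (a : G) * w * (a : G)⁻¹ = a * (w * s) * s⁻¹ * (a : G)⁻¹ := by group
      _ = a * (s * w) * s⁻¹ * (a : G)⁻¹ := by rw [h3]
      _ = a * s * w * (a * s)⁻¹ := by group
  have hND : ∀ w : ↥W, (∀ s ∈ S, (w : G) * s = s * w) → ∀ d : ↥D, cjD d (Nm w) = Nm w := by
    intro w hw d
    show cjD d (∏ q : ↥D ⧸ S.subgroupOf D, cjD q.out w) = _
    rw [map_prod]
    have h2 : ∀ q : ↥D ⧸ S.subgroupOf D, cjD d (cjD q.out w) = cjD ((d • q).out) w := by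
      intro q
      have e1 : cjD d (cjD q.out w) = cjD (d * q.out) w := by
        apply Subtype.ext
        rw [hcjD, hcjD, hcjD]
        simp only [Subgroup.coe_mul]
        group
      rw [e1]
      apply hconst w hw
      rw [QuotientGroup.out_eq']
      have : (QuotientGroup.mk (d * q.out) : ↥D ⧸ S.subgroupOf D) =
          d • (QuotientGroup.mk q.out : ↥D ⧸ S.subgroupOf D) := rfl
      rw [this, QuotientGroup.out_eq']
    simp_rw [h2]
    exact Fintype.prod_equiv (MulAction.toPerm d) _ _ (fun q => rfl)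
  have hND' : ∀ w : ↥W, (∀ s ∈ S, (w : G) * s = s * w) → ∀ d ∈ D,
      ((Nm w : ↥W) : G) * d = d * ((Nm w : ↥W) : G) := by
    intro w hw d hd
    have h1 := congrArg Subtype.val (hND w hw ⟨d, hd⟩)
    rw [hcjD] at h1
    have h2 : d * ((Nm w : ↥W) : G) * d⁻¹ = ((Nm w : ↥W) : G) := h1
    calc ((Nm w : ↥W) : G) * d = (d * ((Nm w : ↥W) : G) * d⁻¹) * d := by rw [h2]
      _ = d * ((Nm w : ↥W) : G) := by group
  have hNB : ∀ b : ↥W, (∀ d ∈ D, (b : G) * d = d * b) →
      Nm b = b ^ Fintype.card (↥D ⧸ S.subgroupOf D) := by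
    intro b hb
    show ∏ q : ↥D ⧸ S.subgroupOf D, cjD q.out b = _
    have h1 : ∀ q : ↥D ⧸ S.subgroupOf D, cjD q.out b = b := by
      intro q
      apply Subtype.ext
      rw [hcjD, ← hb _ q.out.2]
      group
    simp_rw [h1]
    rw [Finset.prod_const, Finset.card_univ]
  have hTCS : ∀ (t : ↥T) (w : ↥W), (∀ s ∈ S, (w : G) * s = s * w) →
      ∀ s ∈ S, ((cjT t w : ↥W) : G) * s = s * ((cjT t w : ↥W) : G) := by
    intro t w hw s hs
    rw [hcjT]
    have h1 : (t : G)⁻¹ * s * (t : G)⁻¹⁻¹ ∈ S :=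
      (Subgroup.mem_normalizer_iff.mp (hTS (T.inv_mem t.2)) s).mp hs
    have h2 := hw _ h1
    calc (t : G) * w * (t : G)⁻¹ * s = t * (w * ((t : G)⁻¹ * s * (t : G)⁻¹⁻¹)) * (t : G)⁻¹ := by
          group
      _ = t * (((t : G)⁻¹ * s * (t : G)⁻¹⁻¹) * w) * (t : G)⁻¹ := by rw [h2]
      _ = s * (t * w * (t : G)⁻¹) := by group
  have hequiv : ∀ (t : ↥T) (w : ↥W), (∀ s ∈ S, (w : G) * s = s * w) →
      cjT t (Nm w) = Nm (cjT t w) := by
    intro t w hw
    have hw' := hTCS t w hw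
    let ct : ↥D → ↥D := fun a =>
      ⟨t * a * (t : G)⁻¹, (Subgroup.mem_normalizer_iff.mp (hTD t.2) a).mp a.2⟩
    let σ : (↥D ⧸ S.subgroupOf D) → (↥D ⧸ S.subgroupOf D) := fun q =>
      QuotientGroup.mk (ct q.out)
    have hσinj : Function.Injective σ := by
      intro q₁ q₂ h
      have h1 : (ct q₁.out)⁻¹ * ct q₂.out ∈ S.subgroupOf D := QuotientGroup.eq.mp h
      have h2 : (((ct q₁.out)⁻¹ * ct q₂.out : ↥D) : G) ∈ S := Subgroup.mem_subgroupOf.mp h1
      have e : (((ct q₁.out)⁻¹ * ct q₂.out : ↥D) : G) =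
          t * (((q₁.out)⁻¹ * q₂.out : ↥D) : G) * (t : G)⁻¹ := by
        simp only [Subgroup.coe_mul, Subgroup.coe_inv, ct]
        group
      rw [e] at h2
      have h3 : (((q₁.out)⁻¹ * q₂.out : ↥D) : G) ∈ S :=
        (Subgroup.mem_normalizer_iff.mp (hTS t.2) _).mpr h2
      have h4 : (QuotientGroup.mk q₁.out : ↥D ⧸ S.subgroupOf D) = QuotientGroup.mk q₂.out :=
        QuotientGroup.eq.mpr (Subgroup.mem_subgroupOf.mpr h3)
      rwa [QuotientGroup.out_eq', QuotientGroup.out_eq'] at h4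
    have hσ : Function.Bijective σ := Finite.injective_iff_bijective.mp hσinj
    show cjT t (∏ q : ↥D ⧸ S.subgroupOf D, cjD q.out w) = _
    rw [map_prod]
    have h2 : ∀ q : ↥D ⧸ S.subgroupOf D,
        cjT t (cjD q.out w) = cjD ((σ q).out) (cjT t w) := by
      intro q
      have e1 : cjT t (cjD q.out w) = cjD (ct q.out) (cjT t w) := by
        apply Subtype.ext
        rw [hcjT, hcjD, hcjD, hcjT]
        show (t : G) * (((q.out : ↥D) : G) * (w : G) * ((q.out : ↥D) : G)⁻¹) * (t : G)⁻¹ =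
          ((t : G) * ((q.out : ↥D) : G) * (t : G)⁻¹) * ((t : G) * (w : G) * (t : G)⁻¹) *
            ((t : G) * ((q.out : ↥D) : G) * (t : G)⁻¹)⁻¹
        group
      rw [e1]
      apply hconst _ hw'
      rw [QuotientGroup.out_eq']
    simp_rw [h2]
    exact hσ.prod_comp (fun q => cjD q.out (cjT t w))
  -- the kernel
  let K : Subgroup G :=
    { carrier := {x | ∃ hx : x ∈ W, (∀ s ∈ S, x * s = s * x) ∧ Nm ⟨x, hx⟩ = 1}
      one_mem' := ⟨W.one_mem, fun s _ => by rw [one_mul, mul_one], hNone⟩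
      mul_mem' := by
        rintro a b ⟨ha, haS, haN⟩ ⟨hb, hbS, hbN⟩
        refine ⟨W.mul_mem ha hb, ?_, ?_⟩
        · intro s hs
          rw [mul_assoc, hbS s hs, ← mul_assoc, haS s hs, mul_assoc]
        · have : (⟨a * b, W.mul_mem ha hb⟩ : ↥W) = ⟨a, ha⟩ * ⟨b, hb⟩ := rfl
          rw [this, hNmul, haN, hbN, one_mul]
      inv_mem' := by
        rintro a ⟨ha, haS, haN⟩
        refine ⟨W.inv_mem ha, ?_, ?_⟩
        · intro s hs
          have := haS s hs
          calc a⁻¹ * s = a⁻¹ * (s * a) * a⁻¹ := by group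
            _ = a⁻¹ * (a * s) * a⁻¹ := by rw [this]
            _ = s * a⁻¹ := by group
        · have : (⟨a⁻¹, W.inv_mem ha⟩ : ↥W) = (⟨a, ha⟩ : ↥W)⁻¹ := rfl
          rw [this, hNinv, haN, inv_one] }
  have hKW : K ≤ W := fun x hx => hx.1
  have hWpg : IsPGroup p W := by
    intro v
    refine ⟨1, ?_⟩
    apply Subtype.ext
    rw [pow_one, Subgroup.coe_pow, Subgroup.coe_one]
    exact hWp v v.2
  have hKp : IsPGroup p K := hWpg.to_le hKW
  have hTK : T ≤ Subgroup.normalizer (K : Set G) := by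
    apply le_normalizer_of_map_conj_le
    rintro t ht _ ⟨x, ⟨hx, hxS, hxN⟩, rfl⟩
    have h1 := hTCS ⟨t, ht⟩ ⟨x, hx⟩ hxS
    have h2 := hequiv ⟨t, ht⟩ ⟨x, hx⟩ hxS
    rw [hxN, map_one] at h2
    refine ⟨(cjT ⟨t, ht⟩ ⟨x, hx⟩).2, h1, h2.symm⟩
  have hn : Nat.Coprime (Fintype.card (↥D ⧸ S.subgroupOf D)) p := by
    have hcard : Fintype.card (↥D ⧸ S.subgroupOf D) = S.relIndex D := by
      rw [← Nat.card_eq_fintype_card]
      exact (Subgroup.index_eq_card _).symm
    rw [hcard]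
    exact ((Nat.Prime.coprime_iff_not_dvd hp.out).mpr hidx).symm
  have hroot : ∀ b : ↥W, b ^ Fintype.card (↥D ⧸ S.subgroupOf D) = 1 → b = 1 := by
    intro b hb
    have h5 : b ^ p = 1 := by
      apply Subtype.ext
      rw [Subgroup.coe_pow]
      exact hWp _ b.2
    have h6 : orderOf b ∣ 1 := by
      rw [← Nat.Coprime.gcd_eq_one hn]
      exact Nat.dvd_gcd (orderOf_dvd_of_pow_eq_one hb) (orderOf_dvd_of_pow_eq_one h5)
    exact orderOf_eq_one_iff.mp (Nat.dvd_one.mp h6)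
  have hKbot : K = ⊥ := by
    by_contra hK1
    have hne := inf_centralizer_ne_bot_of_le_normalizer K T hKp hTp hK1 hTK
    obtain ⟨k, hk, hk1⟩ : ∃ k ∈ (K ⊓ Subgroup.centralizer (T : Set G) : Subgroup G), k ≠ 1 := by
      by_contra hcon
      push Not at hcon
      exact hne ((Subgroup.eq_bot_iff_forall _).mpr hcon)
    obtain ⟨⟨hkW, hkS, hkN⟩, hkT⟩ := hk
    have hkT' : ∀ t ∈ T, k * t = t * k := fun t ht =>
      ((Subgroup.mem_centralizer_iff.mp hkT) t ht).symm
    have hkD := hT k hkW hkT'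
    have h1 := hNB ⟨k, hkW⟩ hkD
    rw [hkN] at h1
    have h2 := hroot ⟨k, hkW⟩ h1.symm
    exact hk1 (congrArg Subtype.val h2)
  intro w hw hwS
  have hNwD := hND' ⟨w, hw⟩ hwS
  have hNwS : ∀ s ∈ S, ((Nm ⟨w, hw⟩ : ↥W) : G) * s = s * ((Nm ⟨w, hw⟩ : ↥W) : G) :=
    fun s hs => hNwD s (hSD hs)
  have hv : (((⟨w, hw⟩ : ↥W) ^ Fintype.card (↥D ⧸ S.subgroupOf D) * (Nm ⟨w, hw⟩)⁻¹ : ↥W) : G) ∈ K := by
    refine ⟨Subtype.mem _, ?_, ?_⟩
    · intro s hs
      have hc1 : Commute w s := hwS s hs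
      have hc2 : Commute ((Nm ⟨w, hw⟩ : ↥W) : G) s := hNwS s hs
      have hc3 : Commute (w ^ Fintype.card (↥D ⧸ S.subgroupOf D) *
          (((Nm ⟨w, hw⟩ : ↥W) : G))⁻¹) s :=
        (hc1.pow_left _).mul_left hc2.inv_left
      simpa using hc3.eq
    · rw [Subtype.coe_eta, hNmul, hNpow, hNinv, hNB _ hNwD, mul_inv_cancel]
  rw [hKbot, Subgroup.mem_bot] at hv
  have hv' : (⟨w, hw⟩ : ↥W) ^ Fintype.card (↥D ⧸ S.subgroupOf D) * (Nm ⟨w, hw⟩)⁻¹ = 1 :=
    Subtype.ext hv
  have hpow : (⟨w, hw⟩ : ↥W) ^ Fintype.card (↥D ⧸ S.subgroupOf D) = Nm ⟨w, hw⟩ := by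
    rwa [mul_inv_eq_one] at hv'
  have hwp : (⟨w, hw⟩ : ↥W) ^ p = 1 := by
    apply Subtype.ext
    rw [Subgroup.coe_pow]
    exact hWp w hw
  have hco : (Fintype.card (↥D ⧸ S.subgroupOf D)).Coprime (orderOf (⟨w, hw⟩ : ↥W)) :=
    Nat.Coprime.coprime_dvd_right (orderOf_dvd_of_pow_eq_one hwp) hn
  obtain ⟨m, hm⟩ := exists_pow_eq_self_of_coprime hco
  rw [hpow] at hm
  intro d hd
  have hc : Commute ((Nm ⟨w, hw⟩ : ↥W) : G) d := hNwD d hd
  have h1 := (hc.pow_left m).eq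
  have h2 : ((Nm ⟨w, hw⟩ : ↥W) : G) ^ m = w := by
    have := congrArg Subtype.val hm
    rwa [Subgroup.coe_pow] at this
  rw [h2] at h1
  exact h1

theorem omegaOne_center_le {H : Type*} [Group H] (p : ℕ) (X : Subgroup H) :
    Cfsg.omegaOne p (X ⊓ Subgroup.centralizer (X : Set H)) ≤
      X ⊓ Subgroup.centralizer (X : Set H) := by
  unfold Cfsg.omegaOne
  rw [Subgroup.closure_le]
  exact fun x hx => hx.1

theorem mem_omegaOne_center {H : Type*} [Group H] {p : ℕ} {X : Subgroup H} {x : H}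
    (hx : x ∈ X) (hc : ∀ y ∈ X, y * x = x * y) (hp : x ^ p = 1) :
    x ∈ Cfsg.omegaOne p (X ⊓ Subgroup.centralizer (X : Set H)) := by
  unfold Cfsg.omegaOne
  exact Subgroup.subset_closure ⟨⟨hx, Subgroup.mem_centralizer_iff.mpr hc⟩, hp⟩

/-- A `p`-subgroup of index prime to `p` contains `O_p`. -/
theorem pCoreOf_le_of_not_dvd {H : Type*} [Group H] [Finite H] {p : ℕ} [Fact p.Prime]
    (L S : Subgroup H) (hSL : S ≤ L) (hSp : IsPGroup p S) (hidx : ¬ p ∣ S.relIndex L) :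
    Cfsg.pCoreOf p L ≤ S := by
  have hP' : IsPGroup p (S.subgroupOf L) :=
    hSp.comap_of_injective _ (Subgroup.subtype_injective _)
  have h1 : Cfsg.pCoreOf p L ≤ (S.subgroupOf L).map L.subtype :=
    pCoreOf_le_sylow L (hP'.toSylow hidx)
  rw [Subgroup.map_subgroupOf_eq_of_le hSL] at h1
  exact h1

/-- Ambient form of: the intersection of a Sylow subgroup with a normal subgroup is Sylow. -/
theorem not_dvd_relIndex_inf_of_normal {H : Type*} [Group H] [Finite H] {p : ℕ} [Fact p.Prime]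
    (K L R : Subgroup H) (hLK : L ≤ K) (hKL : K ≤ Subgroup.normalizer (L : Set H))
    (hRp : IsPGroup p R) (hRidx : ¬ p ∣ R.relIndex K) :
    ¬ p ∣ (R ⊓ L).relIndex L := by
  have hP' : IsPGroup p (R.subgroupOf K) :=
    hRp.comap_of_injective _ (Subgroup.subtype_injective _)
  haveI hn : (L.subgroupOf K).Normal := (Subgroup.normal_subgroupOf_iff_le_normalizer hLK).mpr hKL
  have h1 : ¬ p ∣ (R.subgroupOf K ⊓ L.subgroupOf K).relIndex (L.subgroupOf K) :=
    Cfsg.Agent.helper19.sylow_inf_normal_not_dvd (hP'.toSylow hRidx) (L.subgroupOf K)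
  have h2 : R.subgroupOf K ⊓ L.subgroupOf K = (R ⊓ L).subgroupOf K := by
    ext x; simp [Subgroup.mem_subgroupOf]
  rw [h2, Subgroup.relIndex_subgroupOf hLK] at h1
  exact h1

theorem le_normalizer_commOmega {X : Type*} [Group X] (p : ℕ) (A N : Subgroup X)
    (hA : ∀ a ∈ A, ∀ b ∈ A, a * b = b * a) (hN : N ≤ Subgroup.normalizer (A : Set X)) :
    N ≤ Subgroup.normalizer ((commOmega p A hA : Subgroup X) : Set X) := by
  apply le_normalizer_of_map_conj_le
  rintro g hg _ ⟨x, ⟨hxA, hxp⟩, rfl⟩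
  refine ⟨?_, ?_⟩
  · have := (Subgroup.mem_normalizer_iff.mp (hN hg) x).mp hxA
    simpa using this
  · show ((MulAut.conj g).toMonoidHom x) ^ p = 1
    rw [← map_pow, hxp, map_one]

theorem normalizer_le_normalizer_pCoreOf {H : Type*} [Group H] [Finite H] {p : ℕ}
    [Fact p.Prime] (L : Subgroup H) :
    Subgroup.normalizer (L : Set H) ≤
      Subgroup.normalizer ((Cfsg.pCoreOf p L : Subgroup H) : Set H) := by
  rw [pCoreOf_eq_piCoreIn]
  exact normalizer_le_normalizer_radOf (fun g _ h => h.conj g) L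

theorem comm_inf_centralizer {X : Type*} [Group X] (Q : Subgroup X) :
    ∀ a ∈ Q ⊓ Subgroup.centralizer (Q : Set X), ∀ b ∈ Q ⊓ Subgroup.centralizer (Q : Set X),
      a * b = b * a := by
  rintro a ⟨haQ, _⟩ b ⟨_, hbC⟩
  exact Subgroup.mem_centralizer_iff.mp hbC a haQ

/-- Kieler's Lemma, normal case, in ambient form. -/
theorem kieler_normal {H : Type*} [Group H] [Finite H] {p : ℕ} [hp : Fact p.Prime]
    (K L R : Subgroup H) (hLK : L ≤ K) (hKL : K ≤ Subgroup.normalizer (L : Set H))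
    (hRK : R ≤ K) (hRp : IsPGroup p R) (hRidx : ¬ p ∣ R.relIndex K)
    (hKchar : K ⊓ Subgroup.centralizer ((Cfsg.pCoreOf p K : Subgroup H) : Set H) ≤
      Cfsg.pCoreOf p K)
    (hLchar : L ⊓ Subgroup.centralizer ((Cfsg.pCoreOf p L : Subgroup H) : Set H) ≤
      Cfsg.pCoreOf p L) :
    L ⊓ Subgroup.centralizer
        ((Cfsg.omegaOne p (R ⊓ Subgroup.centralizer (R : Set H)) : Subgroup H) : Set H) =
      L ⊓ Subgroup.centralizer
        ((Cfsg.omegaOne p ((R ⊓ L) ⊓ Subgroup.centralizer ((R ⊓ L : Subgroup H) : Set H)) :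
          Subgroup H) : Set H) := by
  have hSp : IsPGroup p (R ⊓ L : Subgroup H) := hRp.to_le inf_le_left
  have hSidx : ¬ p ∣ (R ⊓ L).relIndex L :=
    not_dvd_relIndex_inf_of_normal K L R hLK hKL hRp hRidx
  have hQLS : Cfsg.pCoreOf p L ≤ R ⊓ L := pCoreOf_le_of_not_dvd L _ inf_le_right hSp hSidx
  have hQKR : Cfsg.pCoreOf p K ≤ R := pCoreOf_le_of_not_dvd K R hRK hRp hRidx
  have hKQL : K ≤ Subgroup.normalizer ((Cfsg.pCoreOf p L : Subgroup H) : Set H) :=
    hKL.trans (normalizer_le_normalizer_pCoreOf L)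
  have hKQK : K ≤ Subgroup.normalizer ((Cfsg.pCoreOf p K : Subgroup H) : Set H) :=
    le_normalizer_pCoreOf p K
  have hRZ : R ≤ Subgroup.centralizer
      ((Cfsg.omegaOne p (R ⊓ Subgroup.centralizer (R : Set H)) : Subgroup H) : Set H) :=
    Subgroup.le_centralizer_iff.mp ((omegaOne_center_le p R).trans inf_le_right)
  have hSZL : R ⊓ L ≤ Subgroup.centralizer
      ((Cfsg.omegaOne p ((R ⊓ L) ⊓ Subgroup.centralizer ((R ⊓ L : Subgroup H) : Set H)) :
        Subgroup H) : Set H) :=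
    Subgroup.le_centralizer_iff.mp ((omegaOne_center_le p (R ⊓ L)).trans inf_le_right)
  have hRL : R ≤ Subgroup.normalizer (L : Set H) := hRK.trans hKL
  have hidx_of : ∀ D : Subgroup H, R ⊓ L ≤ D → D ≤ L → ¬ p ∣ (R ⊓ L).relIndex D := by
    intro D h1 h2 hdvd
    apply hSidx
    rw [← Subgroup.relIndex_mul_relIndex (R ⊓ L) D L h1 h2]
    exact Dvd.dvd.mul_right hdvd _
  apply le_antisymm
  · -- `C_L(Z) ≤ C_L(Z_L)` by the module lemma
    have hKA : K ≤ Subgroup.normalizer ((Cfsg.pCoreOf p L ⊓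
        Subgroup.centralizer ((Cfsg.pCoreOf p L : Subgroup H) : Set H) : Subgroup H) : Set H) :=
      le_normalizer_inf' hKQL (hKQL.trans (normalizer_le_normalizer_centralizer _))
    have hKW := le_normalizer_commOmega p _ K (comm_inf_centralizer (Cfsg.pCoreOf p L)) hKA
    have hDL : L ⊓ Subgroup.centralizer
        ((Cfsg.omegaOne p (R ⊓ Subgroup.centralizer (R : Set H)) : Subgroup H) : Set H) ≤ L :=
      inf_le_left
    have hSD : R ⊓ L ≤ L ⊓ Subgroup.centralizer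
        ((Cfsg.omegaOne p (R ⊓ Subgroup.centralizer (R : Set H)) : Subgroup H) : Set H) :=
      le_inf inf_le_right (inf_le_left.trans hRZ)
    have hfix := fixed_of_sylow_fixed (p := p) _ (R ⊓ L) R
      (commOmega p _ (comm_inf_centralizer (Cfsg.pCoreOf p L))) hSD (hidx_of _ hSD hDL)
      (fun a ha b hb => comm_inf_centralizer _ a ha.1 b hb.1) (fun a ha => ha.2)
      ((hDL.trans hLK).trans hKW) (hRK.trans hKW)
      (le_normalizer_inf' hRL (hRZ.trans Subgroup.le_normalizer))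
      (le_normalizer_inf' Subgroup.le_normalizer hRL) hRp (by
        intro w hw hwR d hd
        have hwR' : w ∈ R := (hQLS hw.1.1).1
        have hwZ : w ∈ Cfsg.omegaOne p (R ⊓ Subgroup.centralizer (R : Set H)) :=
          mem_omegaOne_center hwR' (fun y hy => (hwR y hy).symm) hw.2
        exact Subgroup.mem_centralizer_iff.mp hd.2 w hwZ)
    intro d hd
    refine ⟨hd.1, ?_⟩
    have hle : Cfsg.omegaOne p ((R ⊓ L) ⊓ Subgroup.centralizer ((R ⊓ L : Subgroup H) : Set H)) ≤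
        Subgroup.centralizer ((L ⊓ Subgroup.centralizer
          ((Cfsg.omegaOne p (R ⊓ Subgroup.centralizer (R : Set H)) : Subgroup H) : Set H) :
            Subgroup H) : Set H) := by
      unfold Cfsg.omegaOne
      rw [Subgroup.closure_le]
      rintro x ⟨⟨hxS, hxC⟩, hxp⟩
      have hxQ : x ∈ Cfsg.pCoreOf p L := by
        apply hLchar
        exact ⟨hxS.2, Subgroup.centralizer_le (SetLike.coe_subset_coe.mpr hQLS) hxC⟩
      have hxA : x ∈ Cfsg.pCoreOf p L ⊓
          Subgroup.centralizer ((Cfsg.pCoreOf p L : Subgroup H) : Set H) :=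
        ⟨hxQ, Subgroup.centralizer_le (SetLike.coe_subset_coe.mpr hQLS) hxC⟩
      have h1 := hfix x ⟨hxA, hxp⟩
        (fun s hs => (Subgroup.mem_centralizer_iff.mp hxC s hs).symm)
      show x ∈ Subgroup.centralizer _
      rw [Subgroup.mem_centralizer_iff]
      intro d' hd'
      exact (h1 d' hd').symm
    exact Subgroup.le_centralizer_iff.mp hle hd
  · -- `C_L(Z_L) ≤ C_L(Z)` by vanishing of cocycles
    have hKA : K ≤ Subgroup.normalizer ((Cfsg.pCoreOf p K ⊓
        Subgroup.centralizer ((Cfsg.pCoreOf p K : Subgroup H) : Set H) : Subgroup H) : Set H) :=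
      le_normalizer_inf' hKQK (hKQK.trans (normalizer_le_normalizer_centralizer _))
    have hKW := le_normalizer_commOmega p _ K (comm_inf_centralizer (Cfsg.pCoreOf p K)) hKA
    have hDL : L ⊓ Subgroup.centralizer
        ((Cfsg.omegaOne p ((R ⊓ L) ⊓ Subgroup.centralizer ((R ⊓ L : Subgroup H) : Set H)) :
          Subgroup H) : Set H) ≤ L := inf_le_left
    have hSD : R ⊓ L ≤ L ⊓ Subgroup.centralizer
        ((Cfsg.omegaOne p ((R ⊓ L) ⊓ Subgroup.centralizer ((R ⊓ L : Subgroup H) : Set H)) :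
          Subgroup H) : Set H) := le_inf inf_le_right hSZL
    intro d hd
    refine ⟨hd.1, ?_⟩
    have hle : Cfsg.omegaOne p (R ⊓ Subgroup.centralizer (R : Set H)) ≤
        Subgroup.centralizer ((L ⊓ Subgroup.centralizer
          ((Cfsg.omegaOne p ((R ⊓ L) ⊓ Subgroup.centralizer ((R ⊓ L : Subgroup H) : Set H)) :
            Subgroup H) : Set H) : Subgroup H) : Set H) := by
      unfold Cfsg.omegaOne
      rw [Subgroup.closure_le]
      rintro z ⟨⟨hzR, hzC⟩, hzp⟩
      have hzQ : z ∈ Cfsg.pCoreOf p K := by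
        apply hKchar
        exact ⟨hRK hzR, Subgroup.centralizer_le (SetLike.coe_subset_coe.mpr hQKR) hzC⟩
      have hzW : z ∈ commOmega p _ (comm_inf_centralizer (Cfsg.pCoreOf p K)) :=
        ⟨⟨hzQ, Subgroup.centralizer_le (SetLike.coe_subset_coe.mpr hQKR) hzC⟩, hzp⟩
      have h1 := commute_of_cocycle_vanish (p := p) _ (R ⊓ L)
        (commOmega p _ (comm_inf_centralizer (Cfsg.pCoreOf p K)) ⊓ L) hSD (hidx_of _ hSD hDL)
        (fun a ha b hb => comm_inf_centralizer _ a ha.1.1 b hb.1.1) (fun a ha => ha.1.2)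
        (le_normalizer_inf' ((hDL.trans hLK).trans hKW) (hDL.trans Subgroup.le_normalizer)) z
        (by
          intro d' hd'
          have hd'K : d' ∈ K := hLK hd'.1
          constructor
          · have h2 : d' * z⁻¹ * d'⁻¹ ∈ commOmega p _ (comm_inf_centralizer (Cfsg.pCoreOf p K)) :=
              (Subgroup.mem_normalizer_iff.mp (hKW hd'K) z⁻¹).mp (Subgroup.inv_mem _ hzW)
            have e : z * d' * z⁻¹ * d'⁻¹ = z * (d' * z⁻¹ * d'⁻¹) := by group
            rw [e]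
            exact Subgroup.mul_mem _ hzW h2
          · have h2 : z * d' * z⁻¹ ∈ L :=
              (Subgroup.mem_normalizer_iff.mp (hRL hzR) d').mp hd'.1
            exact L.mul_mem h2 (L.inv_mem hd'.1))
        (fun s hs => (Subgroup.mem_centralizer_iff.mp hzC s hs.1).symm)
        (by
          intro w hw hwS d' hd'
          have hwS' : w ∈ R ⊓ L := ⟨hQKR hw.1.1.1, hw.2⟩
          have hwZ : w ∈ Cfsg.omegaOne p ((R ⊓ L) ⊓
              Subgroup.centralizer ((R ⊓ L : Subgroup H) : Set H)) :=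
            mem_omegaOne_center hwS' (fun y hy => (hwS y hy).symm) hw.1.2
          exact Subgroup.mem_centralizer_iff.mp hd'.2 w hwZ)
      show z ∈ Subgroup.centralizer _
      rw [Subgroup.mem_centralizer_iff]
      intro d' hd'
      exact (h1 d' hd').symm
    exact Subgroup.le_centralizer_iff.mp hle hd

end Cfsg.Agent.helper14
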