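import Mathlib
import Cfsg.Prelude.Def_LocalStructure
import Cfsg.Agent.Lib_helper14_OpSub
import Cfsg.Agent.Lib_helper14_Amalgam2
import Cfsg.Agent.Lib_helper14_Amalgam5

set_option autoImplicit false
open Cfsg
open scoped commutatorElement

namespace Cfsg.Agent.helper14

open Cfsg.Agent.helper7

variable {G : Type*} [Group G]

theorem isSubnormal_of_normalizerCondition {Q : Type*} [Group Q] [Finite Q]
    (hnc : NormalizerCondition Q) :
    ∀ (n : ℕ) (M : Subgroup Q), Nat.card Q - Nat.card M ≤ n → M.IsSubnormal := by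
  intro n
  induction n with
  | zero =>
    intro M h
    have hle : Nat.card Q ≤ Nat.card M := by omega
    have : M = ⊤ := Subgroup.eq_top_of_le_card M hle
    rw [this]; exact Subgroup.IsSubnormal.top
  | succ n ih =>
    intro M h
    by_cases hM : M = ⊤
    · rw [hM]; exact Subgroup.IsSubnormal.top
    have hlt := hnc M (lt_top_iff_ne_top.2 hM)
    have hcard : Nat.card M < Nat.card (Subgroup.normalizer (M : Set Q)) :=
      card_lt_of_lt hlt.le hlt.ne
    have hle : Nat.card (Subgroup.normalizer (M : Set Q)) ≤ Nat.card Q :=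
      Subgroup.card_le_card_group _
    exact Subgroup.IsSubnormal.step M _ Subgroup.le_normalizer (ih _ (by omega))
      Subgroup.normal_in_normalizer

/-- Subgroups between `R` and `K` are subnormal in `K` when `K/R` is a `p`-group. -/
theorem sn_of_pquot [Finite G] {p : ℕ} [hp : Fact p.Prime] (R M K : Subgroup G) (hRM : R ≤ M)
    (hMK : M ≤ K) (hKR : K ≤ Subgroup.normalizer (R : Set G))
    (hpq : ∀ g ∈ K, ∃ j : ℕ, g ^ p ^ j ∈ R) : SN M K := by
  have hRK : R ≤ K := hRM.trans hMK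
  haveI hn : (R.subgroupOf K).Normal := (Subgroup.normal_subgroupOf_iff_le_normalizer hRK).2 hKR
  have hQ : IsPGroup p (↥K ⧸ R.subgroupOf K) := by
    intro x
    induction x using QuotientGroup.induction_on with
    | H g =>
      obtain ⟨j, hj⟩ := hpq g.1 g.2
      refine ⟨j, ?_⟩
      rw [← QuotientGroup.mk_pow, QuotientGroup.eq_one_iff, Subgroup.mem_subgroupOf]
      simpa using hj
  haveI : Group.IsNilpotent (↥K ⧸ R.subgroupOf K) := hQ.isNilpotent
  have hnc : NormalizerCondition (↥K ⧸ R.subgroupOf K) := normalizerCondition_of_isNilpotent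
  have h1 : ((M.subgroupOf K).map (QuotientGroup.mk' (R.subgroupOf K))).IsSubnormal :=
    isSubnormal_of_normalizerCondition hnc _ _ le_rfl
  have h2 := h1.comap (QuotientGroup.mk' (R.subgroupOf K))
  rw [Subgroup.comap_map_eq, QuotientGroup.ker_mk'] at h2
  have h3 : M.subgroupOf K ⊔ R.subgroupOf K = M.subgroupOf K :=
    sup_eq_left.2 (Subgroup.comap_mono hRM)
  rw [h3] at h2
  exact sn_iff.2 ⟨hMK, h2⟩

theorem exists_least_subgroup' [Finite G] (S : Set (Subgroup G)) (hne : S.Nonempty)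
    (hinf : ∀ a ∈ S, ∀ b ∈ S, a ⊓ b ∈ S) : ∃ m ∈ S, ∀ a ∈ S, m ≤ a := by
  obtain ⟨m, hm, hmin⟩ := WellFounded.has_min
    (wellFounded_lt : WellFounded ((· < ·) : Subgroup G → Subgroup G → Prop)) S hne
  refine ⟨m, hm, fun a ha => ?_⟩
  have h1 : m ⊓ a ∈ S := hinf m hm a ha
  have h2 : ¬ (m ⊓ a < m) := hmin _ h1
  have h3 : m ⊓ a = m := eq_of_le_of_not_lt inf_le_left h2
  exact inf_eq_left.1 h3

theorem subnormalClosure_spec [Finite G] (A : Subgroup G) :
    A ≤ Cfsg.subnormalClosure A ∧ SN (Cfsg.subnormalClosure A) ⊤ ∧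
      ∀ M : Subgroup G, A ≤ M → SN M ⊤ → Cfsg.subnormalClosure A ≤ M := by
  obtain ⟨m, hm, hmin⟩ := exists_least_subgroup' {K : Subgroup G | A ≤ K ∧ K.IsSubnormal}
    ⟨⊤, le_top, Subgroup.IsSubnormal.top⟩
    (fun a ha b hb => ⟨le_inf ha.1 hb.1, ha.2.inf hb.2⟩)
  have heq : Cfsg.subnormalClosure A = m := by
    unfold Cfsg.subnormalClosure
    exact le_antisymm (sInf_le hm) (le_sInf hmin)
  rw [heq]
  exact ⟨hm.1, sn_top_iff.2 hm.2, fun M hAM hM => hmin M ⟨hAM, sn_top_iff.1 hM⟩⟩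

theorem subnormalClosure_eq_of_sn [Finite G] (A M : Subgroup G) (hAM : A ≤ M)
    (hM : SN M (Cfsg.subnormalClosure A)) : M = Cfsg.subnormalClosure A :=
  le_antisymm hM.le
    ((subnormalClosure_spec A).2.2 M hAM (hM.trans (subnormalClosure_spec A).2.1))

theorem cj_top (g : G) : cj g (⊤ : Subgroup G) = ⊤ := by
  ext x; rw [mem_cj]; simp

theorem le_normalizer_sup {N A C : Subgroup G} (hA : N ≤ Subgroup.normalizer (A : Set G))
    (hC : N ≤ Subgroup.normalizer (C : Set G)) :
    N ≤ Subgroup.normalizer ((A ⊔ C : Subgroup G) : Set G) := by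
  intro g hg
  apply mem_normalizer_of_cj_eq
  show (A ⊔ C).map (MulAut.conj g).toMonoidHom = A ⊔ C
  rw [Subgroup.map_sup]
  have h1 : A.map (MulAut.conj g).toMonoidHom = A := cj_eq_of_mem_normalizer (hA hg)
  have h2 : C.map (MulAut.conj g).toMonoidHom = C := cj_eq_of_mem_normalizer (hC hg)
  rw [h1, h2]

theorem normalizer_le_normalizer_subnormalClosure [Finite G] (A : Subgroup G) :
    Subgroup.normalizer (A : Set G) ≤
      Subgroup.normalizer ((Cfsg.subnormalClosure A : Subgroup G) : Set G) := by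
  obtain ⟨hAK, hKsn, hmin⟩ := subnormalClosure_spec A
  have key : ∀ g : G, g ∈ Subgroup.normalizer (A : Set G) →
      Cfsg.subnormalClosure A ≤ cj g (Cfsg.subnormalClosure A) := by
    intro g hg
    apply hmin
    · have := cj_mono (g := g) hAK
      rwa [cj_eq_of_mem_normalizer hg] at this
    · have := hKsn.conj g
      rwa [cj_top] at this
  intro g hg
  apply mem_normalizer_of_cj_eq
  apply le_antisymm
  · rw [cj_le_iff]
    exact key g⁻¹ (Subgroup.inv_mem _ hg)
  · exact key g hg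

theorem subnormalClosure_sup_opOf [Finite G] {p : ℕ} [hp : Fact p.Prime] (A : Subgroup G) :
    A ⊔ opOf p (Cfsg.subnormalClosure A) = Cfsg.subnormalClosure A := by
  obtain ⟨hAK, -, -⟩ := subnormalClosure_spec A
  apply subnormalClosure_eq_of_sn A _ le_sup_left
  exact sn_of_pquot (opOf p (Cfsg.subnormalClosure A)) _ _ le_sup_right
    (sup_le hAK (opOf_le p _)) (le_normalizer_opOf p _) (fun g hg => ⟨_, pow_mem_opOf hg⟩)

theorem subnormalClosure_comm_opOf [Finite G] {p : ℕ} [hp : Fact p.Prime] (A : Subgroup G)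
    (hAp : IsPGroup p A) :
    ⁅opOf p (Cfsg.subnormalClosure A), A⁆ = opOf p (Cfsg.subnormalClosure A) := by
  obtain ⟨hAK, -, -⟩ := subnormalClosure_spec A
  obtain ⟨R, hR⟩ : ∃ R : Subgroup G, R = opOf p (Cfsg.subnormalClosure A) := ⟨_, rfl⟩
  rw [← hR]
  have hRK : R ≤ Cfsg.subnormalClosure A := by rw [hR]; exact opOf_le p _
  have hAR : A ≤ Subgroup.normalizer (R : Set G) := by
    rw [hR]; exact hAK.trans (le_normalizer_opOf p _)
  have hCR : ⁅R, A⁆ ≤ R := commutator_le_left_of_le_normalizer R A hAR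
  have hAC : A ≤ Subgroup.normalizer ((⁅R, A⁆ : Subgroup G) : Set G) := by
    rw [Subgroup.commutator_comm]; exact left_le_normalizer_commutator A R
  have hRC : R ≤ Subgroup.normalizer ((⁅R, A⁆ : Subgroup G) : Set G) :=
    left_le_normalizer_commutator R A
  have hKeq : A ⊔ R = Cfsg.subnormalClosure A := by
    rw [hR]; exact subnormalClosure_sup_opOf A
  -- `M = A ⊔ ⁅R, A⁆` is normal in `K`
  have hAM : A ≤ Subgroup.normalizer ((A ⊔ ⁅R, A⁆ : Subgroup G) : Set G) :=
    le_normalizer_sup Subgroup.le_normalizer hAC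
  have hRM : R ≤ Subgroup.normalizer ((A ⊔ ⁅R, A⁆ : Subgroup G) : Set G) := by
    apply le_normalizer_of_map_conj_le
    intro r hr
    rw [Subgroup.map_sup]
    apply sup_le
    · rintro _ ⟨a, ha, rfl⟩
      have e : (MulAut.conj r).toMonoidHom a = ⁅r, a⁆ * a := by
        simp only [MulEquiv.coe_toMonoidHom, MulAut.conj_apply, commutatorElement_def]; group
      rw [e]
      exact Subgroup.mul_mem _
        (Subgroup.mem_sup_right (Subgroup.commutator_mem_commutator hr ha))
        (Subgroup.mem_sup_left ha)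
    · have h2 : (⁅R, A⁆ : Subgroup G).map (MulAut.conj r).toMonoidHom = ⁅R, A⁆ :=
        cj_eq_of_mem_normalizer (hRC hr)
      rw [h2]; exact le_sup_right
  have hMK : A ⊔ ⁅R, A⁆ ≤ Cfsg.subnormalClosure A := sup_le hAK (hCR.trans hRK)
  have hKM : Cfsg.subnormalClosure A ≤
      Subgroup.normalizer ((A ⊔ ⁅R, A⁆ : Subgroup G) : Set G) := by
    rw [← hKeq]; exact sup_le hAM hRM
  have hMeq : A ⊔ ⁅R, A⁆ = Cfsg.subnormalClosure A :=
    subnormalClosure_eq_of_sn A _ le_sup_left (SN.of_normal hMK hKM)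
  apply le_antisymm hCR
  have h5 : opOf p (⁅R, A⁆ ⊔ A) ≤ ⁅R, A⁆ := opOf_le_of_sup_pgroup _ A hAp hAC
  rw [sup_comm, hMeq, ← hR] at h5
  exact h5

end Cfsg.Agent.helper14
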