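import Mathlib
import Cfsg.Agent.Lib_helper15_CharP

set_option autoImplicit false

namespace Cfsg.Agent.helper15

variable {G : Type*} [Group G]

/-- Normal `p`-subgroups of `L` lie in the image of `O_p(L)`. -/
theorem le_map_pCore_subtype {p : ℕ} (L N : Subgroup G) (hNL : N ≤ L)
    (hn : L ≤ Subgroup.normalizer (N : Set G)) (hN : IsPGroup p ↥N) :
    N ≤ (Cfsg.pCore p ↥L).map L.subtype := by
  have h1 : N.subgroupOf L ≤ Cfsg.pCore p ↥L := by
    apply le_pCore'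
    · constructor
      intro n hn' g
      rw [Subgroup.mem_subgroupOf] at hn' ⊢
      have := (Subgroup.mem_normalizer_iff.1 (hn g.2) (n : G)).1 hn'
      simpa using this
    · exact hN.comap_subtype
  intro x hx
  exact ⟨⟨x, hNL hx⟩, h1 (Subgroup.mem_subgroupOf.2 hx), rfl⟩

/-- If all elements of order prime to `p` are trivial, the subgroup is a `p`-group. -/
theorem isPGroup_of_forall_coprime [Finite G] {p : ℕ} [Fact p.Prime] (H : Subgroup G)
    (h : ∀ y ∈ H, (orderOf y).Coprime p → y = 1) : IsPGroup p ↥H := by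
  intro x
  obtain ⟨x, hxH⟩ := x
  have hpos : 0 < orderOf x := orderOf_pos x
  obtain ⟨a, m, hm, hn⟩ := Nat.exists_eq_pow_mul_and_not_dvd hpos.ne' p (Fact.out : p.Prime).ne_one
  refine ⟨a, ?_⟩
  apply Subtype.ext
  show x ^ p ^ a = 1
  apply h _ (H.pow_mem hxH _)
  rw [orderOf_pow' x (pow_ne_zero a (Fact.out : p.Prime).ne_zero), hn,
    Nat.gcd_eq_right (Dvd.intro _ rfl), Nat.mul_div_cancel_left _ (pow_pos (Fact.out : p.Prime).pos a)]
  exact ((Fact.out : p.Prime).coprime_iff_not_dvd.2 hm).symm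

theorem eq_one_of_coprime_of_mem_isPGroup {p : ℕ} [Fact p.Prime] {H : Subgroup G}
    (hH : IsPGroup p ↥H) {y : G} (hy : y ∈ H) (hc : (orderOf y).Coprime p) : y = 1 := by
  obtain ⟨k, hk⟩ := hH ⟨y, hy⟩
  have hk' : y ^ p ^ k = 1 := by simpa using congrArg Subtype.val hk
  have h1 : orderOf y ∣ p ^ k := orderOf_dvd_of_pow_eq_one hk'
  have h2 : orderOf y = 1 := Nat.eq_one_of_dvd_coprimes (hc.pow_right k) dvd_rfl h1
  exact orderOf_eq_one_iff.1 h2

theorem conj_mem_centralizer_of_conj_mem {P : Subgroup G} {l g : G}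
    (hl : ∀ x ∈ P, l⁻¹ * x * l ∈ P) (hg : g ∈ Subgroup.centralizer (P : Set G)) :
    l * g * l⁻¹ ∈ Subgroup.centralizer (P : Set G) := by
  rw [Subgroup.mem_centralizer_iff] at hg ⊢
  intro x hx
  have h1 := hg _ (hl x hx)
  calc x * (l * g * l⁻¹) = l * ((l⁻¹ * x * l) * g) * l⁻¹ := by group
    _ = l * (g * (l⁻¹ * x * l)) * l⁻¹ := by rw [h1]
    _ = l * g * l⁻¹ * x := by group

/-- Let `G` have characteristic `p`, `Q` a `p`-subgroup normalized by `O_p(G)` with
`C_G(Q) ≤ Q`. Then every subgroup `L ≥ Q` has characteristic `p`. -/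
theorem isCharP_of_self_centralizing_le [Finite G] {p : ℕ} [Fact p.Prime] (hG : IsCharP p G)
    (Q L : Subgroup G) (hQp : IsPGroup p ↥Q)
    (hRQ : Cfsg.pCore p G ≤ Subgroup.normalizer (Q : Set G))
    (hCQ : Subgroup.centralizer (Q : Set G) ≤ Q) (hQL : Q ≤ L) : IsCharP p ↥L := by
  have hRn : (Cfsg.pCore p G).Normal := pCore_normal' p
  have hRp : IsPGroup p ↥(Cfsg.pCore p G) := pCore_isPGroup' p
  set P' : Subgroup G := (Cfsg.pCore p ↥L).map L.subtype with hP'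
  have hP'L : P' ≤ L := by
    rintro _ ⟨x, _, rfl⟩; exact x.2
  have hP'p : IsPGroup p ↥P' := (pCore_isPGroup' (G := ↥L) p).map L.subtype
  have hLP' : ∀ l ∈ L, ∀ x ∈ P', l * x * l⁻¹ ∈ P' := by
    rintro l hl _ ⟨x, hx, rfl⟩
    exact ⟨⟨l, hl⟩ * x * ⟨l, hl⟩⁻¹, (pCore_normal' (G := ↥L) p).conj_mem x hx ⟨l, hl⟩, by simp⟩
  have hLP'2 : ∀ l ∈ L, ∀ x ∈ P', l⁻¹ * x * l ∈ P' := by
    intro l hl x hx
    have := hLP' l⁻¹ (L.inv_mem hl) x hx
    simpa using this
  -- the `R`-core of `L`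
  let M : Subgroup G :=
    { carrier := {g | g ∈ L ∧ ∀ r ∈ Cfsg.pCore p G, r⁻¹ * g * r ∈ L}
      one_mem' := ⟨L.one_mem, fun r _ => by simp [L.one_mem]⟩
      mul_mem' := fun {a b} ha hb => ⟨L.mul_mem ha.1 hb.1, fun r hr => by
        have : r⁻¹ * (a * b) * r = (r⁻¹ * a * r) * (r⁻¹ * b * r) := by group
        rw [this]; exact L.mul_mem (ha.2 r hr) (hb.2 r hr)⟩
      inv_mem' := fun {a} ha => ⟨L.inv_mem ha.1, fun r hr => by
        have : r⁻¹ * a⁻¹ * r = (r⁻¹ * a * r)⁻¹ := by group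
        rw [this]; exact L.inv_mem (ha.2 r hr)⟩ }
  have hM : ∀ g, g ∈ M ↔ g ∈ L ∧ ∀ r ∈ Cfsg.pCore p G, r⁻¹ * g * r ∈ L := fun g => Iff.rfl
  have hML : M ≤ L := fun g hg => hg.1
  have hLM : ∀ l ∈ L, ∀ g ∈ M, l * g * l⁻¹ ∈ M := by
    intro l hl g hg
    refine ⟨L.mul_mem (L.mul_mem hl hg.1) (L.inv_mem hl), fun r hr => ?_⟩
    have hr' : l⁻¹ * r * l⁻¹⁻¹ ∈ Cfsg.pCore p G := hRn.conj_mem r hr l⁻¹
    have h1 := hg.2 _ hr'
    have e : r⁻¹ * (l * g * l⁻¹) * r = l * ((l⁻¹ * r * l⁻¹⁻¹)⁻¹ * g * (l⁻¹ * r * l⁻¹⁻¹)) * l⁻¹ := by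
      group
    rw [e]
    exact L.mul_mem (L.mul_mem hl h1) (L.inv_mem hl)
  -- `R ∩ L ≤ O_p(L)`
  have hRL : Cfsg.pCore p G ⊓ L ≤ P' := by
    apply le_map_pCore_subtype L _ inf_le_right
    · intro l hl
      rw [Subgroup.mem_normalizer_iff]
      intro x
      constructor
      · intro hx
        exact ⟨hRn.conj_mem x hx.1 l, L.mul_mem (L.mul_mem hl hx.2) (L.inv_mem hl)⟩
      · intro hx
        have h1 := hRn.conj_mem _ hx.1 l⁻¹
        have h2 := L.mul_mem (L.mul_mem (L.inv_mem hl) hx.2) (L.inv_mem (L.inv_mem hl))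
        have e : l⁻¹ * (l * x * l⁻¹) * l⁻¹⁻¹ = x := by group
        rw [e] at h1 h2
        exact ⟨h1, h2⟩
    · exact hRp.to_le inf_le_left
  -- `D = M ∩ C(P')` is a `p`-group
  have hDp : IsPGroup p ↥(M ⊓ Subgroup.centralizer (P' : Set G)) := by
    apply isPGroup_of_forall_coprime
    intro y hy hycop
    have hyM : y ∈ M := hy.1
    have hyC : y ∈ Subgroup.centralizer (P' : Set G) := hy.2
    have hyR : y ∈ Subgroup.centralizer (Cfsg.pCore p G : Set G) := by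
      rw [Subgroup.mem_centralizer_iff]
      intro r hr
      set d : G := r⁻¹ * (y * r * y⁻¹) with hd
      have hdR : d ∈ Cfsg.pCore p G :=
        Subgroup.mul_mem _ (Subgroup.inv_mem _ hr) (hRn.conj_mem r hr y)
      have hdL : d ∈ L := by
        have e : d = (r⁻¹ * y * r) * y⁻¹ := by rw [hd]; group
        rw [e]
        exact L.mul_mem (hyM.2 r hr) (L.inv_mem hyM.1)
      have hdP : d ∈ P' := hRL ⟨hdR, hdL⟩
      have hcomm : Commute y d := (Subgroup.mem_centralizer_iff.1 hyC d hdP).symm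
      have hconj : y * r * y⁻¹ = r * d := by rw [hd]; group
      have hdp : ∃ k : ℕ, d ^ (p ^ k) = 1 := by
        obtain ⟨k, hk⟩ := hRp ⟨d, hdR⟩
        exact ⟨k, by simpa using congrArg Subtype.val hk⟩
      have hd1 := eq_one_of_coprime_of_commute hycop hconj hcomm hdp
      rw [hd1, mul_one] at hconj
      calc r * y = (y * r * y⁻¹) * y := by rw [hconj]
        _ = y * r := by group
    exact eq_one_of_coprime_of_mem_isPGroup hRp (hG hyR) hycop
  have hDP : M ⊓ Subgroup.centralizer (P' : Set G) ≤ P' := by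
    apply le_map_pCore_subtype L _ (inf_le_left.trans hML) _ hDp
    intro l hl
    rw [Subgroup.mem_normalizer_iff]
    intro x
    constructor
    · intro hx
      exact ⟨hLM l hl x hx.1, conj_mem_centralizer_of_conj_mem (hLP'2 l hl) hx.2⟩
    · intro hx
      have h1 := hLM l⁻¹ (L.inv_mem hl) _ hx.1
      have h2 := conj_mem_centralizer_of_conj_mem (l := l⁻¹)
        (fun z hz => by simpa using hLP' l hl z hz) hx.2
      have e : l⁻¹ * (l * x * l⁻¹) * l⁻¹⁻¹ = x := by group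
      rw [e] at h1 h2
      exact ⟨h1, h2⟩
  -- `C = L ∩ C(P')` is a `p`-group
  have hCp : IsPGroup p ↥(L ⊓ Subgroup.centralizer (P' : Set G)) := by
    apply isPGroup_of_forall_coprime
    intro y hy hycop
    have hyL : y ∈ L := hy.1
    have hyC : y ∈ Subgroup.centralizer (P' : Set G) := hy.2
    have hyQ : y ∈ Subgroup.centralizer (Q : Set G) := by
      rw [Subgroup.mem_centralizer_iff]
      intro q hq
      set d : G := q⁻¹ * (y * q * y⁻¹) with hd
      have hdL : d ∈ L :=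
        L.mul_mem (L.inv_mem (hQL hq)) (L.mul_mem (L.mul_mem hyL (hQL hq)) (L.inv_mem hyL))
      have hdM : d ∈ M := by
        refine ⟨hdL, fun r hr => ?_⟩
        have hr' : y⁻¹ * r * y⁻¹⁻¹ ∈ Cfsg.pCore p G := hRn.conj_mem r hr y⁻¹
        have h1 : r⁻¹ * q⁻¹ * r⁻¹⁻¹ ∈ Q :=
          (Subgroup.mem_normalizer_iff.1 (hRQ (Subgroup.inv_mem _ hr)) q⁻¹).1 (Q.inv_mem hq)
        have h2 : (y⁻¹ * r * y⁻¹⁻¹)⁻¹ * q * (y⁻¹ * r * y⁻¹⁻¹)⁻¹⁻¹ ∈ Q :=
          (Subgroup.mem_normalizer_iff.1 (hRQ (Subgroup.inv_mem _ hr')) q).1 hq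
        have e : r⁻¹ * d * r = (r⁻¹ * q⁻¹ * r⁻¹⁻¹) *
            (y * ((y⁻¹ * r * y⁻¹⁻¹)⁻¹ * q * (y⁻¹ * r * y⁻¹⁻¹)⁻¹⁻¹) * y⁻¹) := by
          rw [hd]; group
        rw [e]
        exact L.mul_mem (hQL h1) (L.mul_mem (L.mul_mem hyL (hQL h2)) (L.inv_mem hyL))
      have hdC : d ∈ Subgroup.centralizer (P' : Set G) := by
        have e : d = (q⁻¹ * y * q⁻¹⁻¹) * y⁻¹ := by rw [hd]; group
        rw [e]
        apply Subgroup.mul_mem _ _ (Subgroup.inv_mem _ hyC)
        apply conj_mem_centralizer_of_conj_mem _ hyC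
        intro z hz
        simpa using hLP' q (hQL hq) z hz
      have hdP : d ∈ P' := hDP ⟨hdM, hdC⟩
      have hcomm : Commute y d := (Subgroup.mem_centralizer_iff.1 hyC d hdP).symm
      have hconj : y * q * y⁻¹ = q * d := by rw [hd]; group
      have hdp : ∃ k : ℕ, d ^ (p ^ k) = 1 := by
        obtain ⟨k, hk⟩ := hP'p ⟨d, hdP⟩
        exact ⟨k, by simpa using congrArg Subtype.val hk⟩
      have hd1 := eq_one_of_coprime_of_commute hycop hconj hcomm hdp
      rw [hd1, mul_one] at hconj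
      calc q * y = (y * q * y⁻¹) * y := by rw [hconj]
        _ = y * q := by group
    exact eq_one_of_coprime_of_mem_isPGroup hQp (hCQ hyQ) hycop
  have hCP : L ⊓ Subgroup.centralizer (P' : Set G) ≤ P' := by
    apply le_map_pCore_subtype L _ inf_le_left _ hCp
    intro l hl
    rw [Subgroup.mem_normalizer_iff]
    intro x
    constructor
    · intro hx
      exact ⟨L.mul_mem (L.mul_mem hl hx.1) (L.inv_mem hl),
        conj_mem_centralizer_of_conj_mem (hLP'2 l hl) hx.2⟩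
    · intro hx
      have h1 := L.mul_mem (L.mul_mem (L.inv_mem hl) hx.1) (L.inv_mem (L.inv_mem hl))
      have h2 := conj_mem_centralizer_of_conj_mem (l := l⁻¹)
        (fun z hz => by simpa using hLP' l hl z hz) hx.2
      have e : l⁻¹ * (l * x * l⁻¹) * l⁻¹⁻¹ = x := by group
      rw [e] at h1 h2
      exact ⟨h1, h2⟩
  -- conclude
  intro c hc
  have hcC : (c : G) ∈ L ⊓ Subgroup.centralizer (P' : Set G) := by
    refine ⟨c.2, ?_⟩
    show (c : G) ∈ Subgroup.centralizer (P' : Set G)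
    rw [Subgroup.mem_centralizer_iff]
    rintro _ ⟨x, hx, rfl⟩
    have := Subgroup.mem_centralizer_iff.1 hc x hx
    exact congrArg Subtype.val this
  obtain ⟨x, hx, hxc⟩ := hCP hcC
  have : x = c := Subtype.ext hxc
  rw [← this]; exact hx

end Cfsg.Agent.helper15
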