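import Mathlib
import Cfsg.Prelude.Def_LocalStructure
import Cfsg.Agent.Lib_helper14_Kieler
import Cfsg.Agent.Lib_helper14_PReduced4
import Cfsg.Agent.Lib_helper15_CharP3
import Cfsg.Agent.Lib_helper7_PQ
import Cfsg.Agent.Lib_helper10_Sylow

set_option autoImplicit false
open Cfsg

namespace Cfsg.Agent.helper14

open Cfsg.Agent.helper7

/-- Ambient form of "the subgroup `L` has characteristic `p`". -/
def AC {G : Type*} [Group G] (p : ℕ) (L : Subgroup G) : Prop :=
  L ⊓ Subgroup.centralizer ((Cfsg.pCoreOf p L : Subgroup G) : Set G) ≤ Cfsg.pCoreOf p L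

theorem ac_of_isCharP {G : Type*} [Group G] {p : ℕ} (L : Subgroup G)
    (h : Cfsg.Agent.helper15.IsCharP p ↥L) : AC p L := charp_ambient L h

theorem isCharP_of_ac {G : Type*} [Group G] {p : ℕ} (L : Subgroup G) (h : AC p L) :
    Cfsg.Agent.helper15.IsCharP p ↥L := by
  intro x hx
  have h1 : (x : G) ∈ L ⊓ Subgroup.centralizer ((Cfsg.pCoreOf p L : Subgroup G) : Set G) := by
    refine ⟨x.2, ?_⟩
    rw [mem_centralizer_map_subtype_iff] at hx
    exact hx
  obtain ⟨y, hy, hyx⟩ := h h1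
  have : y = x := Subtype.ext hyx
  rw [← this]; exact hy

theorem ac_of_sn {G : Type*} [Group G] [Finite G] {p : ℕ} [Fact p.Prime] {L K : Subgroup G}
    (hK : AC p K) (hsn : SN L K) : AC p L := by
  have h1 := isCharP_of_ac K hK
  have h2 := Cfsg.Agent.helper15.isCharP_of_isSubnormal h1 (sn_comap_subtype hsn)
  exact ac_of_isCharP L (h2.of_equiv (Subgroup.subgroupOfEquivOfLe hsn.le))

/-- `p`-local subgroups of groups of characteristic `p` have characteristic `p`. -/
theorem ac_inf_normalizer {G : Type*} [Group G] [Finite G] {p : ℕ} [Fact p.Prime]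
    {X : Subgroup G} (hX : AC p X) (R : Subgroup G) (hRX : R ≤ X) (hRp : IsPGroup p R) :
    AC p (X ⊓ Subgroup.normalizer (R : Set G)) := by
  have hXQ : X ≤ Subgroup.normalizer ((Cfsg.pCoreOf p X : Subgroup G) : Set G) :=
    le_normalizer_pCoreOf p X
  have hQp : IsPGroup p (Cfsg.pCoreOf p X) := pCoreOf_isPGroup X
  have hNX : X ⊓ Subgroup.normalizer (R : Set G) ≤ X := inf_le_left
  have hNR : X ⊓ Subgroup.normalizer (R : Set G) ≤ Subgroup.normalizer (R : Set G) := inf_le_right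
  have hRN : R ≤ X ⊓ Subgroup.normalizer (R : Set G) := le_inf hRX Subgroup.le_normalizer
  have hRY : R ≤ Cfsg.pCoreOf p (X ⊓ Subgroup.normalizer (R : Set G)) :=
    le_pCoreOf_of_normal _ R hRN hNR hRp
  have hQ₀Y : Cfsg.pCoreOf p X ⊓ Subgroup.normalizer (R : Set G) ≤
      Cfsg.pCoreOf p (X ⊓ Subgroup.normalizer (R : Set G)) := by
    apply le_pCoreOf_of_normal _ _ (inf_le_inf_right _ (pCoreOf_le p X))
    · exact le_normalizer_inf' (hNX.trans hXQ) (hNR.trans Subgroup.le_normalizer)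
    · exact hQp.to_le inf_le_left
  have hDn := le_normalizer_inf_centralizer (X ⊓ Subgroup.normalizer (R : Set G)) _
    (le_normalizer_pCoreOf p (X ⊓ Subgroup.normalizer (R : Set G)))
  have hDp : IsPGroup p (X ⊓ Subgroup.normalizer (R : Set G) ⊓ Subgroup.centralizer
      ((Cfsg.pCoreOf p (X ⊓ Subgroup.normalizer (R : Set G)) : Subgroup G) : Set G) :
        Subgroup G) := by
    apply isPGroup_of_forall_coprime_eq_one
    intro x hx hco
    have hxY : Subgroup.zpowers x ≤ Subgroup.centralizer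
        ((Cfsg.pCoreOf p (X ⊓ Subgroup.normalizer (R : Set G)) : Subgroup G) : Set G) :=
      Subgroup.zpowers_le.mpr hx.2
    have hYx : Cfsg.pCoreOf p (X ⊓ Subgroup.normalizer (R : Set G)) ≤
        Subgroup.centralizer ((Subgroup.zpowers x : Subgroup G) : Set G) :=
      Subgroup.le_centralizer_iff.mp hxY
    have hcard : (Nat.card (Subgroup.zpowers x)).Coprime p := by
      rw [Nat.card_zpowers]; exact hco
    have h1 := thompson_PxQ (P := R) (Q := Subgroup.zpowers x) (U := Cfsg.pCoreOf p X) hRp hcard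
      hQp (hRY.trans hYx) (hRX.trans hXQ) (Subgroup.zpowers_le.mpr (hXQ hx.1.1))
      ((inf_le_inf_left _ (Subgroup.centralizer_le_normalizer _)).trans (hQ₀Y.trans hYx))
    have hxQ : x ∈ Cfsg.pCoreOf p X := by
      apply hX
      refine ⟨hx.1.1, ?_⟩
      exact h1 (Subgroup.mem_zpowers x)
    exact Cfsg.Agent.helper15.eq_one_of_coprime_of_mem_isPGroup hQp hxQ hco
  exact le_pCoreOf_of_normal _ _ inf_le_left hDn hDp

/-- If `U ≤ O_p(Y)` and `C_Y(U)` has characteristic `p` then so has `Y`. -/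
theorem ac_of_centralizer {G : Type*} [Group G] [Finite G] {p : ℕ} [Fact p.Prime]
    (Y U : Subgroup G) (hU : U ≤ Cfsg.pCoreOf p Y)
    (h : AC p (Y ⊓ Subgroup.centralizer (U : Set G))) : AC p Y := by
  have hYQ : Y ≤ Subgroup.normalizer ((Cfsg.pCoreOf p Y : Subgroup G) : Set G) :=
    le_normalizer_pCoreOf p Y
  have hDn := le_normalizer_inf_centralizer Y _ hYQ
  have hDle : Y ⊓ Subgroup.centralizer ((Cfsg.pCoreOf p Y : Subgroup G) : Set G) ≤
      Y ⊓ Subgroup.centralizer (U : Set G) :=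
    inf_le_inf_left _ (Subgroup.centralizer_le (SetLike.coe_subset_coe.mpr hU))
  have hsn : SN (Y ⊓ Subgroup.centralizer ((Cfsg.pCoreOf p Y : Subgroup G) : Set G))
      (Y ⊓ Subgroup.centralizer (U : Set G)) :=
    SN.of_normal hDle (inf_le_left.trans hDn)
  have hD := ac_of_sn h hsn
  have hQD : Cfsg.pCoreOf p (Y ⊓ Subgroup.centralizer ((Cfsg.pCoreOf p Y : Subgroup G) : Set G)) ≤
      Cfsg.pCoreOf p Y := by
    apply le_pCoreOf_of_normal _ _ ((pCoreOf_le p _).trans inf_le_left)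
    · exact hDn.trans (normalizer_le_normalizer_pCoreOf _)
    · exact pCoreOf_isPGroup _
  intro x hx
  apply hQD
  apply hD
  exact ⟨hx, Subgroup.centralizer_le (SetLike.coe_subset_coe.mpr hQD) hx.2⟩

/-- The intersection of a Sylow subgroup with a subnormal subgroup has index prime to `p`. -/
theorem sylow_inf_sn_not_dvd {G : Type*} [Group G] [Finite G] {p : ℕ} [Fact p.Prime]
    (S : Sylow p G) (L : Subgroup G) (hL : L.IsSubnormal) :
    ¬ p ∣ ((S : Subgroup G) ⊓ L).relIndex L := by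
  induction hL with
  | top =>
    rw [inf_top_eq, Subgroup.relIndex_top_right]
    exact S.not_dvd_index
  | step L K hLK hK hN ih =>
    have hKL : K ≤ Subgroup.normalizer (L : Set G) :=
      (Subgroup.normal_subgroupOf_iff_le_normalizer hLK).mp hN
    have hRp : IsPGroup p ((S : Subgroup G) ⊓ K : Subgroup G) := S.isPGroup'.to_le inf_le_left
    have h1 := not_dvd_relIndex_inf_of_normal K L ((S : Subgroup G) ⊓ K) hLK hKL hRp ih
    have e3 : ((S : Subgroup G) ⊓ K) ⊓ L = (S : Subgroup G) ⊓ L := by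
      rw [inf_assoc, inf_eq_right.mpr hLK]
    rwa [e3] at h1

/-- Two `p`-subgroups of index prime to `p` in `L` are conjugate under `L`. -/
theorem exists_cj_eq_of_not_dvd {G : Type*} [Group G] [Finite G] {p : ℕ} [Fact p.Prime]
    (L A B : Subgroup G) (hAL : A ≤ L) (hBL : B ≤ L) (hAp : IsPGroup p A) (hBp : IsPGroup p B)
    (hA : ¬ p ∣ A.relIndex L) (hB : ¬ p ∣ B.relIndex L) :
    ∃ g ∈ L, B = cj g A := by
  have hA' : IsPGroup p (A.subgroupOf L) :=
    hAp.comap_of_injective _ (Subgroup.subtype_injective _)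
  have hB' : IsPGroup p (B.subgroupOf L) :=
    hBp.comap_of_injective _ (Subgroup.subtype_injective _)
  obtain ⟨g, hg⟩ := MulAction.exists_smul_eq ↥L (hA'.toSylow hA) (hB'.toSylow hB)
  have h1 : ((g • hA'.toSylow hA : Sylow p ↥L) : Subgroup ↥L) = B.subgroupOf L := by
    rw [hg]; rfl
  rw [Cfsg.Agent.helper10.sylow_smul_eq_map_conj] at h1
  have h2 : (A.subgroupOf L).map (MulAut.conj g).toMonoidHom = B.subgroupOf L := h1
  refine ⟨(g : G), g.2, ?_⟩
  ext x
  rw [mem_cj]
  constructor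
  · intro hx
    have hxL : x ∈ L := hBL hx
    have h3 : (⟨x, hxL⟩ : ↥L) ∈ B.subgroupOf L := Subgroup.mem_subgroupOf.mpr hx
    rw [← h2] at h3
    obtain ⟨y, hy, hyx⟩ := h3
    have h4 : (g : G) * (y : G) * (g : G)⁻¹ = x := by
      have := congrArg Subtype.val hyx
      simpa using this
    rw [← h4]
    have : (g : G)⁻¹ * ((g : G) * (y : G) * (g : G)⁻¹) * (g : G) = (y : G) := by group
    rw [this]
    exact Subgroup.mem_subgroupOf.mp hy
  · intro hx
    have hyL : (g : G)⁻¹ * x * (g : G) ∈ L := hAL hx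
    have h3 : (MulAut.conj g).toMonoidHom (⟨(g : G)⁻¹ * x * (g : G), hyL⟩ : ↥L) ∈
        (A.subgroupOf L).map (MulAut.conj g).toMonoidHom :=
      Subgroup.mem_map_of_mem _ (Subgroup.mem_subgroupOf.mpr hx)
    rw [h2, Subgroup.mem_subgroupOf] at h3
    have h4 : (((MulAut.conj g).toMonoidHom (⟨(g : G)⁻¹ * x * (g : G), hyL⟩ : ↥L) : ↥L) : G) = x := by
      simp only [MulEquiv.coe_toMonoidHom, MulAut.conj_apply, Subgroup.coe_mul, Subgroup.coe_inv]
      group
    rwa [h4] at h3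

/-- Core lemma: for `G` of parabolic characteristic `p`, `G₁` subnormal, the parabolic `p`-locals
of `G₁` have characteristic `p` provided `Ω₁ Z(S ∩ G₁) ≤ Z(S)`. -/
theorem ac_local_of_parabolic {G : Type*} [Group G] [Finite G] {p : ℕ} [hp : Fact p.Prime]
    (hG : Cfsg.IsOfParabolicCharacteristic p G) (S : Sylow p G) (G₁ : Subgroup G)
    (hsn : G₁.IsSubnormal)
    (hcen : ∀ x ∈ ((S : Subgroup G) ⊓ G₁) ⊓
      Subgroup.centralizer (((S : Subgroup G) ⊓ G₁ : Subgroup G) : Set G), x ^ p = 1 →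
        x ∈ Subgroup.centralizer ((S : Subgroup G) : Set G))
    (R : Subgroup G) (hRG : R ≤ G₁) (hRp : IsPGroup p R) (hR1 : R ≠ ⊥)
    (T' : Subgroup G) (hT'p : IsPGroup p T')
    (hT'H : T' ≤ G₁ ⊓ Subgroup.normalizer (R : Set G)) (hT'idx : ¬ p ∣ T'.relIndex G₁) :
    AC p (G₁ ⊓ Subgroup.normalizer (R : Set G)) := by
  have hS₁idx := sylow_inf_sn_not_dvd S G₁ hsn
  have hS₁p : IsPGroup p ((S : Subgroup G) ⊓ G₁ : Subgroup G) := S.isPGroup'.to_le inf_le_left
  obtain ⟨g, hgG₁, hTg⟩ := exists_cj_eq_of_not_dvd G₁ _ T' inf_le_right (hT'H.trans inf_le_left)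
    hS₁p hT'p hS₁idx hT'idx
  have hH₁G : G₁ ⊓ Subgroup.normalizer (R : Set G) ≤ G₁ := inf_le_left
  have hH₁R : G₁ ⊓ Subgroup.normalizer (R : Set G) ≤ Subgroup.normalizer (R : Set G) :=
    inf_le_right
  have hRH₁ : R ≤ G₁ ⊓ Subgroup.normalizer (R : Set G) := le_inf hRG Subgroup.le_normalizer
  have hRY : R ≤ Cfsg.pCoreOf p (G₁ ⊓ Subgroup.normalizer (R : Set G)) :=
    le_pCoreOf_of_normal _ R hRH₁ hH₁R hRp
  have hY1 : Cfsg.pCoreOf p (G₁ ⊓ Subgroup.normalizer (R : Set G)) ≠ ⊥ := by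
    intro h
    apply hR1
    rw [eq_bot_iff, ← h]
    exact hRY
  have hYp : IsPGroup p (Cfsg.pCoreOf p (G₁ ⊓ Subgroup.normalizer (R : Set G))) :=
    pCoreOf_isPGroup _
  have hT'idx' : ¬ p ∣ T'.relIndex (G₁ ⊓ Subgroup.normalizer (R : Set G)) := by
    intro hdvd
    apply hT'idx
    rw [← Subgroup.relIndex_mul_relIndex T' _ G₁ hT'H hH₁G]
    exact Dvd.dvd.mul_right hdvd _
  have hYT' : Cfsg.pCoreOf p (G₁ ⊓ Subgroup.normalizer (R : Set G)) ≤ T' :=
    pCoreOf_le_of_not_dvd _ T' hT'H hT'p hT'idx'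
  have hne := inf_centralizer_ne_bot_of_le_normalizer _ T' hYp hT'p hY1
    (hT'H.trans (le_normalizer_pCoreOf p _))
  -- an element of order `p` in `O_p(H₁) ∩ Z(T')`
  have hBp : IsPGroup p (Cfsg.pCoreOf p (G₁ ⊓ Subgroup.normalizer (R : Set G)) ⊓
      Subgroup.centralizer (T' : Set G) : Subgroup G) := hYp.to_le inf_le_left
  have hdvd : p ∣ Nat.card (Cfsg.pCoreOf p (G₁ ⊓ Subgroup.normalizer (R : Set G)) ⊓
      Subgroup.centralizer (T' : Set G) : Subgroup G) := by
    obtain ⟨k, hk⟩ := IsPGroup.iff_card.mp hBp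
    have hk0 : k ≠ 0 := by
      rintro rfl
      rw [pow_zero] at hk
      exact hne (Subgroup.card_eq_one.mp hk)
    rw [hk]
    exact dvd_pow_self p hk0
  obtain ⟨⟨z, hzB⟩, hzord⟩ := exists_prime_orderOf_dvd_card' p hdvd
  have hzord' : orderOf z = p := by
    rw [← hzord, Subgroup.orderOf_mk]
  have hz1 : z ≠ 1 := by
    intro h
    rw [h, orderOf_one] at hzord'
    exact hp.out.one_lt.ne hzord'
  have hzp : z ^ p = 1 := by rw [← hzord']; exact pow_orderOf_eq_one z
  obtain ⟨hzY, hzT'⟩ := Subgroup.mem_inf.mp hzB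
  -- `g⁻¹ z g` is central in `S`
  have hz'S : (g⁻¹ * z * g) ∈ Subgroup.centralizer ((S : Subgroup G) : Set G) := by
    apply hcen
    · constructor
      · have h1 : z ∈ T' := hYT' hzY
        rw [hTg, mem_cj] at h1
        exact h1
      · show g⁻¹ * z * g ∈ Subgroup.centralizer _
        rw [Subgroup.mem_centralizer_iff]
        intro s hs
        have h1 : g * s * g⁻¹ ∈ T' := by
          rw [hTg]; exact cj_mem_cj hs
        have h2 := Subgroup.mem_centralizer_iff.mp hzT' _ h1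
        calc s * (g⁻¹ * z * g) = g⁻¹ * ((g * s * g⁻¹) * z) * g := by group
          _ = g⁻¹ * (z * (g * s * g⁻¹)) * g := by rw [h2]
          _ = g⁻¹ * z * g * s := by group
    · have : (g⁻¹ * z * g) ^ p = g⁻¹ * z ^ p * g := by
        have := conj_pow (a := g⁻¹) (b := z) (i := p)
        rw [inv_inv] at this
        exact this
      rw [this, hzp]; group
  -- the Sylow subgroup `g S g⁻¹` centralizes `z`
  have hAz : ((g • S : Sylow p G) : Subgroup G) ≤
      Subgroup.centralizer ((Subgroup.zpowers z : Subgroup G) : Set G) := by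
    rw [Cfsg.Agent.helper10.sylow_smul_eq_map_conj]
    apply Subgroup.le_centralizer_iff.mp
    rw [Subgroup.zpowers_le]
    show z ∈ Subgroup.centralizer _
    rw [Subgroup.mem_centralizer_iff]
    rintro _ ⟨s, hs, rfl⟩
    have h2 := Subgroup.mem_centralizer_iff.mp hz'S s hs
    simp only [MulEquiv.coe_toMonoidHom, MulAut.conj_apply]
    calc g * s * g⁻¹ * z = g * (s * (g⁻¹ * z * g)) * g⁻¹ := by group
      _ = g * ((g⁻¹ * z * g) * s) * g⁻¹ := by rw [h2]
      _ = z * (g * s * g⁻¹) := by group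
  have hZp : IsPGroup p (Subgroup.zpowers z) := by
    rw [IsPGroup.iff_card, Nat.card_zpowers, hzord']
    exact ⟨1, (pow_one p).symm⟩
  have hZ1 : Subgroup.zpowers z ≠ ⊥ := by
    intro h
    apply hz1
    have : z ∈ (⊥ : Subgroup G) := by rw [← h]; exact Subgroup.mem_zpowers z
    exact Subgroup.mem_bot.mp this
  have hNchar := hG (Subgroup.zpowers z) hZp hZ1
    ⟨g • S, hAz.trans (Subgroup.centralizer_le_normalizer _)⟩
  have hNac : AC p (Subgroup.normalizer ((Subgroup.zpowers z : Subgroup G) : Set G)) :=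
    ac_of_isCharP _ hNchar
  -- `X = G₁ ∩ C(z)` has characteristic `p`
  have hsnX : SN (G₁ ⊓ Subgroup.centralizer ((Subgroup.zpowers z : Subgroup G) : Set G))
      (Subgroup.normalizer ((Subgroup.zpowers z : Subgroup G) : Set G)) := by
    have h1 := (sn_top_iff.mpr hsn).inf_right
      (Subgroup.centralizer ((Subgroup.zpowers z : Subgroup G) : Set G))
    rw [top_inf_eq] at h1
    exact h1.trans (SN.of_normal (Subgroup.centralizer_le_normalizer _)
      (normalizer_le_normalizer_centralizer _))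
  have hXac := ac_of_sn hNac hsnX
  have hzR : R ≤ Subgroup.centralizer ((Subgroup.zpowers z : Subgroup G) : Set G) := by
    apply Subgroup.le_centralizer_iff.mp
    rw [Subgroup.zpowers_le]
    exact Subgroup.centralizer_le (SetLike.coe_subset_coe.mpr (hRY.trans hYT')) hzT'
  have h2 := ac_inf_normalizer hXac R (le_inf hRG hzR) hRp
  have e : G₁ ⊓ Subgroup.centralizer ((Subgroup.zpowers z : Subgroup G) : Set G) ⊓
      Subgroup.normalizer (R : Set G) =
      (G₁ ⊓ Subgroup.normalizer (R : Set G)) ⊓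
        Subgroup.centralizer ((Subgroup.zpowers z : Subgroup G) : Set G) := inf_right_comm _ _ _
  rw [e] at h2
  exact ac_of_centralizer _ (Subgroup.zpowers z) (Subgroup.zpowers_le.mpr hzY) h2

theorem subgroupOf_map_subtype_self {G : Type*} [Group G] (K : Subgroup G) (H' : Subgroup ↥K) :
    (H'.map K.subtype).subgroupOf K = H' := by
  ext x
  rw [Subgroup.mem_subgroupOf]
  constructor
  · rintro ⟨y, hy, hyx⟩
    have : y = x := Subtype.ext hyx
    rw [← this]; exact hy
  · intro hx; exact ⟨x, hx, rfl⟩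

/-- Subnormal subgroups inherit parabolic characteristic `p` when `Ω₁ Z(S ∩ G₁) ≤ Z(S)`. -/
theorem parabolic_of_sn {G : Type*} [Group G] [Finite G] {p : ℕ} [hp : Fact p.Prime]
    (hG : Cfsg.IsOfParabolicCharacteristic p G) (S : Sylow p G) (G₁ : Subgroup G)
    (hsn : G₁.IsSubnormal)
    (hcen : ∀ x ∈ ((S : Subgroup G) ⊓ G₁) ⊓
      Subgroup.centralizer (((S : Subgroup G) ⊓ G₁ : Subgroup G) : Set G), x ^ p = 1 →
        x ∈ Subgroup.centralizer ((S : Subgroup G) : Set G)) :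
    Cfsg.IsOfParabolicCharacteristic p ↥G₁ := by
  intro R₁ hR₁p hR₁1 hpar
  obtain ⟨T₁, hT₁⟩ := hpar
  have hRG : R₁.map G₁.subtype ≤ G₁ := Subgroup.map_subtype_le _
  have hsub : (R₁.map G₁.subtype).subgroupOf G₁ = R₁ := subgroupOf_map_subtype_self G₁ R₁
  have hN : Subgroup.normalizer (R₁ : Set ↥G₁) =
      (G₁ ⊓ Subgroup.normalizer ((R₁.map G₁.subtype : Subgroup G) : Set G)).subgroupOf G₁ := by
    rw [Subgroup.inf_subgroupOf_left, Subgroup.subgroupOf_normalizer_eq hRG, hsub]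
  have hRp : IsPGroup p (R₁.map G₁.subtype) := hR₁p.map _
  have hR1 : R₁.map G₁.subtype ≠ ⊥ := by
    intro h
    apply hR₁1
    rw [← hsub, h]
    ext x
    simp [Subgroup.mem_subgroupOf]
  have hT'p : IsPGroup p ((T₁ : Subgroup ↥G₁).map G₁.subtype) := T₁.isPGroup'.map _
  have hT'H : (T₁ : Subgroup ↥G₁).map G₁.subtype ≤
      G₁ ⊓ Subgroup.normalizer ((R₁.map G₁.subtype : Subgroup G) : Set G) := by
    rintro _ ⟨t, ht, rfl⟩
    have h1 := hT₁ ht
    rw [hN, Subgroup.mem_subgroupOf] at h1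
    exact h1
  have hT'idx : ¬ p ∣ ((T₁ : Subgroup ↥G₁).map G₁.subtype).relIndex G₁ := by
    unfold Subgroup.relIndex
    rw [subgroupOf_map_subtype_self]
    exact T₁.not_dvd_index
  have hac := ac_local_of_parabolic hG S G₁ hsn hcen (R₁.map G₁.subtype) hRG hRp hR1 _ hT'p
    hT'H hT'idx
  have h1 := isCharP_of_ac _ hac
  have h2 := h1.of_equiv (Subgroup.subgroupOfEquivOfLe
    (inf_le_left : G₁ ⊓ Subgroup.normalizer ((R₁.map G₁.subtype : Subgroup G) : Set G) ≤ G₁)).symm
  have key : ∀ X : Subgroup ↥G₁, X = Subgroup.normalizer (R₁ : Set ↥G₁) →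
      Cfsg.Agent.helper15.IsCharP p ↥X →
      Cfsg.Agent.helper15.IsCharP p ↥(Subgroup.normalizer (R₁ : Set ↥G₁)) := by
    rintro X rfl h
    exact h
  exact key _ hN.symm h2

end Cfsg.Agent.helper14
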