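import Mathlib
import Cfsg.Agent.Lib_helper7_PConstr
import Cfsg.Agent.Lib_helper7_PQ
import Cfsg.Agent.Lib_helper7_Signalizer
import Cfsg.Agent.Lib_helper7_Derived

set_option autoImplicit false

namespace Cfsg.Agent.helper7

variable {G : Type*} [Group G]

/-- If `L_{p'}(G) = 1` then `C(O_p(G/O_{p'}(G))) ≤ O_p(G/O_{p'}(G))`. -/
theorem centralizer_pCore_quot_le [Finite G] {p : ℕ} (hp : p.Prime) (hL : Cfsg.pLayer p G = ⊥) :
    Subgroup.centralizer ((Cfsg.pCore p (G ⧸ Cfsg.pPrimeCore p G) : Subgroup _) : Set _) ≤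
      Cfsg.pCore p (G ⧸ Cfsg.pPrimeCore p G) := by
  haveI : Fact p.Prime := ⟨hp⟩
  have hE : Cfsg.layer (G ⧸ Cfsg.pPrimeCore p G) = ⊥ := by
    rw [← map_pLayer_eq, hL, Subgroup.map_bot]
  have hF : fstarOf (⊤ : Subgroup (G ⧸ Cfsg.pPrimeCore p G)) = piCoreIn {p} ⊤ := by
    rw [fstarOf_eq_piCoreIn_iff hp]
    constructor
    · intro L hLc
      have : L ≤ Cfsg.layer (G ⧸ Cfsg.pPrimeCore p G) := le_sSup (isComponent_iff.2 hLc)
      rw [hE] at this
      exact hLc.2.2.1 (le_bot_iff.1 this)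
    · intro r hr hrp
      have h1 : piCoreIn {r} (⊤ : Subgroup (G ⧸ Cfsg.pPrimeCore p G)) ≤
          Cfsg.pPrimeCore p (G ⧸ Cfsg.pPrimeCore p G) := by
        apply le_pPrimeCore_of_sn hp
        · exact SN.of_normal le_top (piCoreIn_normal {r} ⊤)
        · intro x hx q hq hdvd
          have := piCoreIn_piGrp {r} (⊤ : Subgroup (G ⧸ Cfsg.pPrimeCore p G)) x hx q hq hdvd
          rw [Set.mem_singleton_iff] at this
          rw [this]
          exact hrp
      rw [pPrimeCore_quotient_eq_bot hp] at h1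
      exact le_bot_iff.1 h1
  have hcent := centralizer_fstarOf_le (⊤ : Subgroup (G ⧸ Cfsg.pPrimeCore p G))
  rw [hF, top_inf_eq, ← pCore_eq hp] at hcent
  exact hcent

theorem pCore_isPGroup [Finite G] {p : ℕ} (hp : p.Prime) : IsPGroup p ↥(Cfsg.pCore p G) := by
  rw [pCore_eq hp]; exact piCoreIn_isPGroup hp ⊤

theorem pCore_normal' [Finite G] {p : ℕ} (hp : p.Prime) : (Cfsg.pCore p G).Normal := by
  rw [pCore_eq hp]
  have := piCoreIn_normal {p} (⊤ : Subgroup G)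
  constructor
  intro n hn g
  have hg : g ∈ Subgroup.normalizer ((piCoreIn {p} (⊤ : Subgroup G) : Subgroup G) : Set G) :=
    this (Subgroup.mem_top g)
  exact (Subgroup.mem_normalizer_iff.1 hg n).1 hn

/-- In `Ḡ = G / O_{p'}(G)`, the centralizer of `P̄₁` in `O_p(Ḡ)` is covered by
`C_G(P₁) ∩ O_{p',p}(G)`. -/
theorem exists_lift_centralizer_pCore [Finite G] {p : ℕ} (hp : p.Prime) {P₁ : Subgroup G}
    (hP₁ : IsPGroup p ↥P₁) {u : G ⧸ Cfsg.pPrimeCore p G}
    (hu : u ∈ Cfsg.pCore p (G ⧸ Cfsg.pPrimeCore p G))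
    (hc : u ∈ Subgroup.centralizer ((P₁.map (QuotientGroup.mk' (Cfsg.pPrimeCore p G)) :
      Subgroup _) : Set _)) :
    ∃ y ∈ Subgroup.centralizer (P₁ : Set G), y ∈ Cfsg.pPrimePCore p G ∧
      QuotientGroup.mk' (Cfsg.pPrimeCore p G) y = u := by
  obtain ⟨x, rfl⟩ := QuotientGroup.mk'_surjective _ u
  rw [Subgroup.mem_centralizer_iff] at hc
  obtain ⟨y, hy, o, ho, rfl⟩ := exists_lift_centralizer hp (pPrimeCore_coprime hp) hP₁ x (by
    intro a ha
    rw [← ker_mk_pPrimeCore p, MonoidHom.mem_ker, map_mul, map_mul, map_mul, map_inv, map_inv]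
    have := hc _ (Subgroup.mem_map_of_mem _ ha)
    rw [this]; group)
  have h5 : QuotientGroup.mk' (Cfsg.pPrimeCore p G) (o * x) =
      QuotientGroup.mk' (Cfsg.pPrimeCore p G) x := by
    rw [map_mul]
    have : QuotientGroup.mk' (Cfsg.pPrimeCore p G) o = 1 := by
      rw [← MonoidHom.mem_ker, ker_mk_pPrimeCore]; exact ho
    rw [this, one_mul]
  refine ⟨o * x, hy, ?_, h5⟩
  unfold Cfsg.pPrimePCore
  rw [Subgroup.mem_comap, h5]
  exact hu

/-- Balance lemma, `p'`-version: if `L_{p'}(G) = 1`, `P₁` is a `p`-subgroup and `X` is a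
`p'`-subgroup of `C_G(P₁)` normalized by `C_G(P₁) ∩ O_{p',p}(G)`, then `X ≤ O_{p'}(G)`. -/
theorem balance_pprime [Finite G] {p : ℕ} (hp : p.Prime) (hL : Cfsg.pLayer p G = ⊥)
    {P₁ X : Subgroup G} (hP₁ : IsPGroup p ↥P₁) (hX : (Nat.card ↥X).Coprime p)
    (hXP : X ≤ Subgroup.centralizer (P₁ : Set G))
    (hN : Subgroup.centralizer (P₁ : Set G) ⊓ Cfsg.pPrimePCore p G ≤
      Subgroup.normalizer (X : Set G)) :
    X ≤ Cfsg.pPrimeCore p G := by
  haveI : Fact p.Prime := ⟨hp⟩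
  set π := QuotientGroup.mk' (Cfsg.pPrimeCore p G) with hπ
  have hUp : IsPGroup p ↥(Cfsg.pCore p (G ⧸ Cfsg.pPrimeCore p G)) := pCore_isPGroup hp
  haveI hUn : (Cfsg.pCore p (G ⧸ Cfsg.pPrimeCore p G)).Normal := pCore_normal' hp
  have hXbar : (Nat.card ↥(X.map π)).Coprime p :=
    Nat.Coprime.coprime_dvd_left (Subgroup.card_map_dvd X π) hX
  have hdisj : X.map π ⊓ Cfsg.pCore p (G ⧸ Cfsg.pPrimeCore p G) = ⊥ := by
    apply Subgroup.inf_eq_bot_of_coprime
    obtain ⟨n, hn⟩ := IsPGroup.iff_card.1 hUp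
    rw [hn]
    exact Nat.Coprime.pow_right n hXbar
  have hPX : P₁.map π ≤ Subgroup.centralizer ((X.map π : Subgroup _) : Set _) := by
    rintro _ ⟨a, ha, rfl⟩
    rw [Subgroup.mem_centralizer_iff]
    rintro _ ⟨x, hx, rfl⟩
    have := Subgroup.mem_centralizer_iff.1 (hXP hx) a ha
    rw [← map_mul, ← map_mul, this]
  have hnorm : ∀ S : Subgroup (G ⧸ Cfsg.pPrimeCore p G), S ≤ Subgroup.normalizer
      ((Cfsg.pCore p (G ⧸ Cfsg.pPrimeCore p G) : Subgroup _) : Set _) := by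
    intro S
    rw [Subgroup.normalizer_eq_top]
    exact le_top
  have hC : Cfsg.pCore p (G ⧸ Cfsg.pPrimeCore p G) ⊓
      Subgroup.centralizer ((P₁.map π : Subgroup _) : Set _) ≤
      Subgroup.centralizer ((X.map π : Subgroup _) : Set _) := by
    rintro u ⟨hu, hc⟩
    obtain ⟨y, hy, hyD, rfl⟩ := exists_lift_centralizer_pCore hp hP₁ hu hc
    rw [Subgroup.mem_centralizer_iff]
    rintro _ ⟨x, hx, rfl⟩
    have hyN := hN ⟨hy, hyD⟩
    have h1 : π (y * x * y⁻¹ * x⁻¹) ∈ X.map π ⊓ Cfsg.pCore p (G ⧸ Cfsg.pPrimeCore p G) := by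
      constructor
      · apply Subgroup.mem_map_of_mem
        exact X.mul_mem ((Subgroup.mem_normalizer_iff.1 hyN x).1 hx) (X.inv_mem hx)
      · have : π (y * x * y⁻¹ * x⁻¹) = π y * (π x * (π y)⁻¹ * (π x)⁻¹) := by
          simp only [map_mul, map_inv]; group
        rw [this]
        exact Subgroup.mul_mem _ hu (hUn.conj_mem _ (Subgroup.inv_mem _ hu) _)
    rw [hdisj, Subgroup.mem_bot] at h1
    have h2 : π y * π x * (π y)⁻¹ * (π x)⁻¹ = 1 := by
      rw [← h1]; simp only [map_mul, map_inv]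
    calc π x * π y = (π y * π x * (π y)⁻¹ * (π x)⁻¹)⁻¹ * (π y * π x) := by group
      _ = π y * π x := by rw [h2]; group
  have hth := thompson_PxQ (hP₁.map π) hXbar hUp hPX (hnorm _) (hnorm _) hC
  have h3 : X.map π ≤ ⊥ := by
    rw [← hdisj]
    exact le_inf le_rfl (hth.trans (centralizer_pCore_quot_le hp hL))
  exact le_pPrimeCore_of_map_eq_bot (le_bot_iff.1 h3)

/-- Balance lemma, perfect version. -/
theorem balance_perfect [Finite G] {p : ℕ} (hp : p.Prime) (hL : Cfsg.pLayer p G = ⊥)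
    {P₁ X : Subgroup G} (hP₁ : IsPGroup p ↥P₁) (hperf : ⁅X, X⁆ = X)
    (hXP : X ≤ Subgroup.centralizer (P₁ : Set G))
    (hN : ∀ c ∈ Subgroup.centralizer (P₁ : Set G), c ∈ Cfsg.pPrimePCore p G → ∀ x ∈ X,
      c * x * c⁻¹ * x⁻¹ ∈ Cfsg.pPrimeCore p G) :
    X ≤ Cfsg.pPrimeCore p G := by
  haveI : Fact p.Prime := ⟨hp⟩
  set π := QuotientGroup.mk' (Cfsg.pPrimeCore p G) with hπ
  have hUp : IsPGroup p ↥(Cfsg.pCore p (G ⧸ Cfsg.pPrimeCore p G)) := pCore_isPGroup hp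
  haveI hUn : (Cfsg.pCore p (G ⧸ Cfsg.pPrimeCore p G)).Normal := pCore_normal' hp
  have hperf' : ⁅X.map π, X.map π⁆ = X.map π := by
    rw [← Subgroup.map_commutator, hperf]
  have hPX : P₁.map π ≤ Subgroup.centralizer ((X.map π : Subgroup _) : Set _) := by
    rintro _ ⟨a, ha, rfl⟩
    rw [Subgroup.mem_centralizer_iff]
    rintro _ ⟨x, hx, rfl⟩
    have := Subgroup.mem_centralizer_iff.1 (hXP hx) a ha
    rw [← map_mul, ← map_mul, this]
  have hnorm : ∀ S : Subgroup (G ⧸ Cfsg.pPrimeCore p G), S ≤ Subgroup.normalizer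
      ((Cfsg.pCore p (G ⧸ Cfsg.pPrimeCore p G) : Subgroup _) : Set _) := by
    intro S
    rw [Subgroup.normalizer_eq_top]
    exact le_top
  have hC : Cfsg.pCore p (G ⧸ Cfsg.pPrimeCore p G) ⊓
      Subgroup.centralizer ((P₁.map π : Subgroup _) : Set _) ≤
      Subgroup.centralizer ((X.map π : Subgroup _) : Set _) := by
    rintro u ⟨hu, hc⟩
    obtain ⟨y, hy, hyD, rfl⟩ := exists_lift_centralizer_pCore hp hP₁ hu hc
    rw [Subgroup.mem_centralizer_iff]
    rintro _ ⟨x, hx, rfl⟩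
    have h1 := hN y hy hyD x hx
    rw [← ker_mk_pPrimeCore p, MonoidHom.mem_ker] at h1
    have h2 : π y * π x * (π y)⁻¹ * (π x)⁻¹ = 1 := by
      rw [← h1]; simp only [hπ, map_mul, map_inv]
    calc π x * π y = (π y * π x * (π y)⁻¹ * (π x)⁻¹)⁻¹ * (π y * π x) := by group
      _ = π y * π x := by rw [h2]; group
  have hth := thompson_PxQ_perfect (hP₁.map π) hperf' hUp hPX (hnorm _) (hnorm _) hC
  have hXU : X.map π ≤ Cfsg.pCore p (G ⧸ Cfsg.pPrimeCore p G) :=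
    hth.trans (centralizer_pCore_quot_le hp hL)
  -- a perfect `p`-group is trivial
  have h3 : X.map π = ⊥ := by
    have hXp : IsPGroup p ↥(X.map π) := hUp.to_le hXU
    haveI : Group.IsNilpotent ↥(X.map π) := hXp.isNilpotent
    have hsolv : Group.IsSolvable ↥(X.map π) := inferInstance
    have h4 := dser_eq_bot_of_solvable hsolv
    obtain ⟨n, hn⟩ := h4
    have h5 : ∀ n, dser (X.map π) n = X.map π := by
      intro n
      induction n with
      | zero => rfl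
      | succ n ih => 
        show ⁅dser (X.map π) n, dser (X.map π) n⁆ = _
        rw [ih, hperf']
    rw [← h5 n, hn]
  exact le_pPrimeCore_of_map_eq_bot h3

end Cfsg.Agent.helper7
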