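import Mathlib
import Cfsg.Agent.Lib_helper7_Balance

set_option autoImplicit false

namespace Cfsg.Agent.helper7

variable {G : Type*} [Group G]

theorem subgroupOf_le_centralizer {K P X : Subgroup G}
    (h : X ≤ Subgroup.centralizer (P : Set G)) :
    X.subgroupOf K ≤ Subgroup.centralizer ((P.subgroupOf K : Subgroup ↥K) : Set ↥K) := by
  intro x hx
  rw [Subgroup.mem_subgroupOf] at hx
  rw [Subgroup.mem_centralizer_iff]
  intro a ha
  have ha' : (a : G) ∈ P := Subgroup.mem_subgroupOf.1 ha
  apply Subtype.ext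
  exact Subgroup.mem_centralizer_iff.1 (h hx) _ ha'

theorem centralizer_subgroupOf_le {K P : Subgroup G} (hPK : P ≤ K) :
    Subgroup.centralizer ((P.subgroupOf K : Subgroup ↥K) : Set ↥K) ≤
      (Subgroup.centralizer (P : Set G)).subgroupOf K := by
  intro c hc
  rw [Subgroup.mem_subgroupOf, Subgroup.mem_centralizer_iff]
  intro a ha
  have := Subgroup.mem_centralizer_iff.1 hc ⟨a, hPK ha⟩ (by rw [SetLike.mem_coe, Subgroup.mem_subgroupOf]; exact ha)
  exact congrArg Subtype.val this

theorem subgroupOf_le_normalizer {K N X : Subgroup G}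
    (h : N ≤ Subgroup.normalizer (X : Set G)) :
    N.subgroupOf K ≤ Subgroup.normalizer ((X.subgroupOf K : Subgroup ↥K) : Set ↥K) := by
  intro c hc
  rw [Subgroup.mem_subgroupOf] at hc
  rw [Subgroup.mem_normalizer_iff]
  intro x
  rw [Subgroup.mem_subgroupOf, Subgroup.mem_subgroupOf]
  exact Subgroup.mem_normalizer_iff.1 (h hc) x

/-- Balance lemma (`p'`-version) relative to a subgroup `K`. -/
theorem balance_pprime_sub [Finite G] {p : ℕ} (hp : p.Prime) {K : Subgroup G}
    (hL : Cfsg.pLayer p ↥K = ⊥) {P₁ X : Subgroup G} (hP₁K : P₁ ≤ K) (hXK : X ≤ K)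
    (hP₁ : IsPGroup p ↥P₁) (hX : (Nat.card ↥X).Coprime p)
    (hXP : X ≤ Subgroup.centralizer (P₁ : Set G))
    (hN : K ⊓ Subgroup.centralizer (P₁ : Set G) ≤ Subgroup.normalizer (X : Set G)) :
    X ≤ (Cfsg.pPrimeCore p ↥K).map K.subtype := by
  have h1 : X.subgroupOf K ≤ Cfsg.pPrimeCore p ↥K := by
    apply balance_pprime hp hL (P₁ := P₁.subgroupOf K)
    · exact hP₁.comap_of_injective _ (Subgroup.subtype_injective K)
    · rw [Nat.card_congr (Subgroup.subgroupOfEquivOfLe hXK).toEquiv]; exact hX
    · exact subgroupOf_le_centralizer hXP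
    · refine inf_le_left.trans ((centralizer_subgroupOf_le hP₁K).trans ?_)
      have : (Subgroup.centralizer (P₁ : Set G)).subgroupOf K =
          (K ⊓ Subgroup.centralizer (P₁ : Set G)).subgroupOf K := by
        rw [Subgroup.inf_subgroupOf_left]
      rw [this]
      exact subgroupOf_le_normalizer hN
  have h2 := Subgroup.map_mono (f := K.subtype) h1
  rwa [Subgroup.map_subgroupOf_eq_of_le hXK] at h2

/-- In a solvable group the `p`-layer is trivial. -/
theorem pLayer_eq_bot_of_solvable [Finite G] (p : ℕ) (hs : Group.IsSolvable G) :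
    Cfsg.pLayer p G = ⊥ := by
  rw [eq_bot_iff]
  unfold Cfsg.pLayer
  apply sSup_le
  intro K hK
  exfalso
  have hperf := pcomp_perfect hK
  have hKs : Group.IsSolvable ↥K := inferInstance
  obtain ⟨n, hn⟩ := dser_eq_bot_of_solvable hKs
  have h5 : ∀ n, dser K n = K := by
    intro n
    induction n with
    | zero => rfl
    | succ n ih =>
      show ⁅dser K n, dser K n⁆ = _
      rw [ih, hperf]
  rw [h5 n] at hn
  apply pcomp_not_le_core hK
  rw [hn]; exact bot_le

end Cfsg.Agent.helper7
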