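import Mathlib
import Cfsg.Agent.Lib_helper7_Balance2
import Cfsg.Agent.Lib_helper7_ExtLayer

set_option autoImplicit false

namespace Cfsg.Agent.helper7

variable {H : Type*} [Group H]

/-- `O_{q'}(K)` as a subgroup of the ambient group -/
def relO (q : ℕ) (K : Subgroup H) : Subgroup H := (Cfsg.pPrimeCore q ↥K).map K.subtype

/-- `O_{q',q}(K)` as a subgroup of the ambient group -/
def relD (q : ℕ) (K : Subgroup H) : Subgroup H := (Cfsg.pPrimePCore q ↥K).map K.subtype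

theorem relO_le_relD (q : ℕ) (K : Subgroup H) : relO q K ≤ relD q K := by
  apply Subgroup.map_mono
  intro x hx
  unfold Cfsg.pPrimePCore
  rw [Subgroup.mem_comap]
  have : QuotientGroup.mk' (Cfsg.pPrimeCore q ↥K) x = 1 := by
    rw [← MonoidHom.mem_ker, ker_mk_pPrimeCore]; exact hx
  rw [this]; exact Subgroup.one_mem _

theorem relD_le (q : ℕ) (K : Subgroup H) : relD q K ≤ K := Subgroup.map_subtype_le _

theorem relO_le (q : ℕ) (K : Subgroup H) : relO q K ≤ K := Subgroup.map_subtype_le _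

theorem mem_relO_iff {q : ℕ} {K : Subgroup H} {x : H} (hx : x ∈ K) :
    x ∈ relO q K ↔ (⟨x, hx⟩ : ↥K) ∈ Cfsg.pPrimeCore q ↥K := by
  constructor
  · rintro ⟨y, hy, hyx⟩
    have : y = ⟨x, hx⟩ := Subtype.ext hyx
    rw [← this]; exact hy
  · intro h
    exact ⟨⟨x, hx⟩, h, rfl⟩

theorem mem_relD_iff {q : ℕ} {K : Subgroup H} {x : H} (hx : x ∈ K) :
    x ∈ relD q K ↔ (⟨x, hx⟩ : ↥K) ∈ Cfsg.pPrimePCore q ↥K := by
  constructor
  · rintro ⟨y, hy, hyx⟩
    have : y = ⟨x, hx⟩ := Subtype.ext hyx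
    rw [← this]; exact hy
  · intro h
    exact ⟨⟨x, hx⟩, h, rfl⟩

theorem relO_normal (q : ℕ) (K : Subgroup H) :
    K ≤ Subgroup.normalizer ((relO q K : Subgroup H) : Set H) := by
  apply le_normalizer_of_conj_mem
  rintro b hb _ ⟨x, hx, rfl⟩
  exact ⟨⟨b, hb⟩ * x * ⟨b, hb⟩⁻¹, (Cfsg.pPrimeCore_normal q _).conj_mem x hx ⟨b, hb⟩, rfl⟩

theorem relD_normal (q : ℕ) (K : Subgroup H) :
    K ≤ Subgroup.normalizer ((relD q K : Subgroup H) : Set H) := by
  apply le_normalizer_of_conj_mem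
  rintro b hb _ ⟨x, hx, rfl⟩
  exact ⟨⟨b, hb⟩ * x * ⟨b, hb⟩⁻¹, (pPrimePCore_normal q).conj_mem x hx ⟨b, hb⟩, rfl⟩

theorem normalizer_le_normalizer_relO [Finite H] {q : ℕ} (hq : q.Prime) (K : Subgroup H) :
    Subgroup.normalizer (K : Set H) ≤ Subgroup.normalizer ((relO q K : Subgroup H) : Set H) := by
  unfold relO
  rw [map_pPrimeCore_eq hq]
  exact normalizer_le_normalizer_radOf (fun g N h => h.conj g) K

theorem relO_coprime [Finite H] {q : ℕ} (hq : q.Prime) (K : Subgroup H) :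
    (Nat.card ↥(relO q K)).Coprime q := by
  unfold relO
  rw [card_map_subtype]
  exact pPrimeCore_coprime hq

/-- elements of `O_{q',q}(K)` are `q`-elements modulo `O_{q'}(K)` -/
theorem relD_pow_mem [Finite H] {q : ℕ} (hq : q.Prime) (K : Subgroup H) {d : H}
    (hd : d ∈ relD q K) : ∃ k : ℕ, d ^ q ^ k ∈ relO q K := by
  obtain ⟨x, hx, rfl⟩ := hd
  have hx' : QuotientGroup.mk' (Cfsg.pPrimeCore q ↥K) x ∈ Cfsg.pCore q (↥K ⧸ Cfsg.pPrimeCore q ↥K) := hx
  obtain ⟨k, hk⟩ := (pCore_isPGroup hq) ⟨_, hx'⟩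
  have hk' : QuotientGroup.mk' (Cfsg.pPrimeCore q ↥K) (x ^ q ^ k) = 1 := by
    rw [map_pow]
    exact congrArg Subtype.val hk
  have hmem : x ^ q ^ k ∈ Cfsg.pPrimeCore q ↥K := by
    rw [← ker_mk_pPrimeCore q]; exact MonoidHom.mem_ker.2 hk'
  exact ⟨k, x ^ q ^ k, hmem, by simp⟩

/-- A normal subgroup of `K` which is a `q`-group modulo `O_{q'}(K)` lies in `O_{q',q}(K)`. -/
theorem le_relD [Finite H] {q : ℕ} (hq : q.Prime) {K M : Subgroup H} (hMK : M ≤ K)
    (hKM : K ≤ Subgroup.normalizer (M : Set H)) (hM : ∀ m ∈ M, ∃ k : ℕ, m ^ q ^ k ∈ relO q K) :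
    M ≤ relD q K := by
  haveI hn : (M.subgroupOf K).Normal := Subgroup.normal_subgroupOf_of_le_normalizer hKM
  have h1 : (M.subgroupOf K).map (QuotientGroup.mk' (Cfsg.pPrimeCore q ↥K)) ≤
      Cfsg.pCore q (↥K ⧸ Cfsg.pPrimeCore q ↥K) := by
    apply le_sSup
    refine ⟨Subgroup.Normal.map hn _ (QuotientGroup.mk'_surjective _), ?_⟩
    rintro ⟨_, ⟨m, hm, rfl⟩⟩
    rw [SetLike.mem_coe, Subgroup.mem_subgroupOf] at hm
    obtain ⟨k, hk⟩ := hM m hm
    refine ⟨k, ?_⟩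
    apply Subtype.ext
    show (QuotientGroup.mk' (Cfsg.pPrimeCore q ↥K) m) ^ q ^ k = 1
    rw [← map_pow, ← MonoidHom.mem_ker, ker_mk_pPrimeCore]
    have hmk : ((m ^ q ^ k : ↥K) : H) ∈ relO q K := by
      rw [Subgroup.coe_pow]; exact hk
    exact (mem_relO_iff (m ^ q ^ k).2).1 hmk
  intro m hm
  rw [mem_relD_iff (hMK hm)]
  unfold Cfsg.pPrimePCore
  rw [Subgroup.mem_comap]
  apply h1
  exact Subgroup.mem_map_of_mem _ (by rw [Subgroup.mem_subgroupOf]; exact hm)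

theorem mem_normalizer_of_cj_le [Finite H] {g : H} {D : Subgroup H} (h : cj g D ≤ D) :
    g ∈ Subgroup.normalizer (D : Set H) := by
  apply mem_normalizer_of_cj_eq
  apply Subgroup.eq_of_le_of_card_ge h
  rw [Subgroup.card_map_of_injective (MulAut.conj g).injective]

theorem normalizer_le_normalizer_relD [Finite H] {q : ℕ} (hq : q.Prime) (K : Subgroup H) :
    Subgroup.normalizer (K : Set H) ≤ Subgroup.normalizer ((relD q K : Subgroup H) : Set H) := by
  intro g hg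
  apply mem_normalizer_of_cj_le
  have hgK : cj g K = K := cj_eq_of_mem_normalizer hg
  have hgO : cj g (relO q K) = relO q K :=
    cj_eq_of_mem_normalizer (normalizer_le_normalizer_relO hq K hg)
  apply le_relD hq
  · exact le_trans (cj_mono (relD_le q K)) (le_of_eq hgK)
  · intro k hk
    apply mem_normalizer_of_cj_eq
    -- `k = g k' g⁻¹` with `k' ∈ K`
    have hk' : g⁻¹ * k * g ∈ K := by
      have : k ∈ cj g K := by rw [hgK]; exact hk
      exact mem_cj.1 this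
    have h1 : cj (g⁻¹ * k * g) (relD q K) = relD q K :=
      cj_eq_of_mem_normalizer (relD_normal q K hk')
    have h2 : cj k (cj g (relD q K)) = cj g (cj (g⁻¹ * k * g) (relD q K)) := by
      rw [cj_cj, cj_cj]
      congr 1
      group
    rw [h2, h1]
  · rintro _ ⟨d, hd, rfl⟩
    obtain ⟨k, hk⟩ := relD_pow_mem hq K hd
    refine ⟨k, ?_⟩
    rw [← map_pow, ← hgO]
    exact Subgroup.mem_map_of_mem _ hk

/-- `q'`-elements of `O_{q',q}(K)` lie in `O_{q'}(K)`. -/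
theorem mem_relO_of_coprime [Finite H] {q : ℕ} (hq : q.Prime) (K : Subgroup H) {x : H}
    (hx : x ∈ relD q K) (hord : (orderOf x).Coprime q) : x ∈ relO q K := by
  obtain ⟨k, hk⟩ := relD_pow_mem hq K hx
  have hcop : (orderOf x).Coprime (q ^ k) := Nat.Coprime.pow_right k hord
  obtain ⟨m, hm⟩ := exists_pow_eq_self_of_coprime (Nat.Coprime.symm hcop)
  rw [← hm]
  exact Subgroup.pow_mem _ hk m

/-- If `L_{q'}(K) = 1`, an element of `K` centralizing `O_{q',q}(K)` modulo `O_{q'}(K)` lies in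
`O_{q',q}(K)`. -/
theorem mem_relD_of_comm [Finite H] {q : ℕ} (hq : q.Prime) {K : Subgroup H}
    (hL : Cfsg.pLayer q ↥K = ⊥) {x : H} (hx : x ∈ K)
    (h : ∀ d ∈ relD q K, x * d * x⁻¹ * d⁻¹ ∈ relO q K) : x ∈ relD q K := by
  rw [mem_relD_iff hx]
  unfold Cfsg.pPrimePCore
  rw [Subgroup.mem_comap]
  apply centralizer_pCore_quot_le hq hL
  rw [Subgroup.mem_centralizer_iff]
  intro y hy
  obtain ⟨d, rfl⟩ := QuotientGroup.mk'_surjective _ y
  have hd : (d : H) ∈ relD q K := by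
    rw [mem_relD_iff d.2]
    exact hy
  have h1 := h d hd
  have h2 : (⟨x, hx⟩ * d * ⟨x, hx⟩⁻¹ * d⁻¹ : ↥K) ∈ Cfsg.pPrimeCore q ↥K := by
    have h3 : ((⟨x, hx⟩ * d * ⟨x, hx⟩⁻¹ * d⁻¹ : ↥K) : H) ∈ relO q K := h1
    exact (mem_relO_iff _).1 h3
  rw [← ker_mk_pPrimeCore q, MonoidHom.mem_ker] at h2
  simp only [map_mul, map_inv] at h2
  set a := QuotientGroup.mk' (Cfsg.pPrimeCore q ↥K) ⟨x, hx⟩
  set b := QuotientGroup.mk' (Cfsg.pPrimeCore q ↥K) d
  calc b * a = (a * b * a⁻¹ * b⁻¹)⁻¹ * (a * b) := by group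
    _ = a * b := by rw [h2]; group

/-- `|O_{q',q}(K)| = |O_{q'}(K)| q^m` -/
theorem relD_card [Finite H] {q : ℕ} (hq : q.Prime) (K : Subgroup H) :
    ∃ m : ℕ, Nat.card ↥(relD q K) = Nat.card ↥(relO q K) * q ^ m := by
  haveI : Fact q.Prime := ⟨hq⟩
  haveI hn : ((relO q K).subgroupOf (relD q K)).Normal :=
    Subgroup.normal_subgroupOf_of_le_normalizer ((relD_le q K).trans (relO_normal q K))
  have hpg : IsPGroup q (↥(relD q K) ⧸ (relO q K).subgroupOf (relD q K)) := by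
    intro y
    induction y using QuotientGroup.induction_on with
    | _ d =>
    obtain ⟨k, hk⟩ := relD_pow_mem hq K d.2
    refine ⟨k, ?_⟩
    rw [← QuotientGroup.mk_pow, QuotientGroup.eq_one_iff, Subgroup.mem_subgroupOf, Subgroup.coe_pow]
    exact hk
  obtain ⟨m, hm⟩ := IsPGroup.iff_card.1 hpg
  refine ⟨m, ?_⟩
  have h1 := Subgroup.relIndex_mul_relIndex ⊥ (relO q K) (relD q K) bot_le (relO_le_relD q K)
  rw [Subgroup.relIndex_bot_left, Subgroup.relIndex_bot_left] at h1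
  rw [← h1]
  have h2 : (relO q K).relIndex (relD q K) = q ^ m := by
    unfold Subgroup.relIndex
    rw [Subgroup.index_eq_card]
    exact hm
  rw [h2]

/-- `O_{q',q}(K) = O_{q'}(K) R` for a Sylow `q`-subgroup `R` of `O_{q',q}(K)`. -/
theorem relO_sup_sylow [Finite H] {q : ℕ} (hq : q.Prime) (K : Subgroup H) {R : Subgroup H}
    (hR : R ≤ relD q K)
    (hRcard : Nat.card ↥R = q ^ (Nat.card ↥(relD q K)).factorization q) :
    relO q K ⊔ R = relD q K := by
  obtain ⟨m, hm⟩ := relD_card hq K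
  have hcop := relO_coprime hq K
  have hfac : (Nat.card ↥(relD q K)).factorization q = m := by
    rw [hm, Nat.factorization_mul Nat.card_pos.ne' (pow_pos hq.pos m).ne']
    have h0 : (Nat.card ↥(relO q K)).factorization q = 0 := by
      apply Nat.factorization_eq_zero_of_not_dvd
      intro h
      exact hq.one_lt.ne' (Nat.Coprime.eq_one_of_dvd hcop.symm h)
    simp [h0, hq.factorization_pow]
  rw [hfac] at hRcard
  apply Subgroup.eq_of_le_of_card_ge (sup_le (relO_le_relD q K) hR)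
  apply Nat.le_of_dvd Nat.card_pos
  rw [hm, ← hRcard]
  apply Nat.Coprime.mul_dvd_of_dvd_of_dvd
  · rw [hRcard]; exact Nat.Coprime.pow_right m hcop
  · exact Subgroup.card_dvd_of_le le_sup_left
  · exact Subgroup.card_dvd_of_le le_sup_right

end Cfsg.Agent.helper7
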