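import Mathlib
import Cfsg.Prelude.Def_Transfer

set_option autoImplicit false

namespace Cfsg.Agent.helper6

open scoped IsMulCommutative

/-- transfer evaluated on an element of `H` all of whose relevant conjugates of powers have the expected image -/
theorem transfer_eq_pow_of_control {G : Type*} [Group G] [Finite G] {H : Subgroup G} {A : Type*} [CommGroup A]
    (ϕ : H →* A) (g : G) (hg : g ∈ H)
    (key : ∀ (n : ℕ) (a : G) (hm : a⁻¹ * g ^ n * a ∈ H), ϕ ⟨a⁻¹ * g ^ n * a, hm⟩ = ϕ ⟨g, hg⟩ ^ n) :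
    MonoidHom.transfer ϕ g = ϕ ⟨g, hg⟩ ^ H.index := by
  have : Fintype (Quotient (MulAction.orbitRel (Subgroup.zpowers (g : G)) (G ⧸ H))) := Fintype.ofFinite _
  rw [Subgroup.index_eq_sum_minimalPeriod H g, ← Finset.prod_pow_eq_pow_sum,
    MonoidHom.transfer_eq_prod_quotient_orbitRel_zpowers_quot]
  apply Finset.prod_congr rfl
  intro q _
  exact key _ _ _

theorem pResidual_normal (p : ℕ) (G : Type*) [Group G] : (Cfsg.pResidual p G).Normal := by
  constructor
  intro n hn g
  unfold Cfsg.pResidual at hn ⊢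
  induction hn using Subgroup.closure_induction with
  | mem x hx =>
    apply Subgroup.subset_closure
    simp only [Set.mem_ofPred_eq] at hx ⊢
    have : orderOf (g * x * g⁻¹) = orderOf x := by
      have := orderOf_injective (MulAut.conj g).toMonoidHom (MulAut.conj g).injective x
      simpa using this
    rw [this]; exact hx
  | one => simp
  | mul x y _ _ hx hy =>
    have : g * (x * y) * g⁻¹ = (g * x * g⁻¹) * (g * y * g⁻¹) := by group
    rw [this]; exact Subgroup.mul_mem _ hx hy
  | inv x _ hx =>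
    have : g * x⁻¹ * g⁻¹ = (g * x * g⁻¹)⁻¹ := by group
    rw [this]; exact Subgroup.inv_mem _ hx

/-- the quotient by `O^p(G)` (or anything above it) is a `p`-group -/
theorem isPGroup_quotient_of_pResidual_le {p : ℕ} [Fact p.Prime] {G : Type*} [Group G] [Finite G]
    (N : Subgroup G) [N.Normal] (hN : Cfsg.pResidual p G ≤ N) : IsPGroup p (G ⧸ N) := by
  intro y
  obtain ⟨x, rfl⟩ := QuotientGroup.mk_surjective y
  have hpos : orderOf x ≠ 0 := (orderOf_pos x).ne'
  obtain ⟨k, m, hm, hkm⟩ := Nat.exists_eq_pow_mul_and_not_dvd hpos p (Fact.out : p.Prime).ne_one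
  refine ⟨k, ?_⟩
  rw [← QuotientGroup.mk_pow]
  apply (QuotientGroup.eq_one_iff _).2
  apply hN
  apply Subgroup.subset_closure
  simp only [Set.mem_ofPred_eq]
  have hdiv : orderOf (x ^ p ^ k) ∣ m := by
    apply orderOf_dvd_of_pow_eq_one
    rw [← pow_mul, ← hkm, pow_orderOf_eq_one]
  have hcop : Nat.Coprime m p := ((Fact.out : p.Prime).coprime_iff_not_dvd.2 hm).symm
  exact Nat.Coprime.coprime_dvd_left hdiv hcop

/-- a homomorphism to a `p`-group kills `O^p(G)` -/
theorem pResidual_le_ker {p : ℕ} [Fact p.Prime] {G : Type*} [Group G] [Finite G] {Q : Type*} [Group Q]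
    (hQ : IsPGroup p Q) (V : G →* Q) : Cfsg.pResidual p G ≤ V.ker := by
  unfold Cfsg.pResidual
  rw [Subgroup.closure_le]
  intro x hx
  simp only [Set.mem_ofPred_eq] at hx
  rw [SetLike.mem_coe, MonoidHom.mem_ker]
  obtain ⟨k, hk⟩ := hQ (V x)
  have h1 : orderOf (V x) ∣ p ^ k := orderOf_dvd_of_pow_eq_one hk
  have h2 : orderOf (V x) ∣ orderOf x := orderOf_map_dvd V x
  have h3 : Nat.Coprime (orderOf x) (p ^ k) := Nat.Coprime.pow_right k hx
  have := Nat.dvd_gcd h2 h1
  rw [h3.gcd_eq_one, Nat.dvd_one, orderOf_eq_one_iff] at this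
  exact this

/-- if `O^p(X) G' = X` then `O^p(X) = X` -/
theorem pResidual_eq_top_of_sup_commutator {p : ℕ} [Fact p.Prime] {X : Type*} [Group X] [Finite X]
    (h : Cfsg.pResidual p X ⊔ commutator X = ⊤) : Cfsg.pResidual p X = ⊤ := by
  have hn : (Cfsg.pResidual p X).Normal := pResidual_normal p X
  have hQ : IsPGroup p (X ⧸ Cfsg.pResidual p X) := isPGroup_quotient_of_pResidual_le _ le_rfl
  have hnil : Group.IsNilpotent (X ⧸ Cfsg.pResidual p X) := hQ.isNilpotent
  have hsol : Group.IsSolvable (X ⧸ Cfsg.pResidual p X) := inferInstance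
  have hc : commutator (X ⧸ Cfsg.pResidual p X) = ⊤ := by
    have h1 : (Cfsg.pResidual p X ⊔ commutator X).map (QuotientGroup.mk' (Cfsg.pResidual p X)) = ⊤ := by
      rw [h, Subgroup.map_top_of_surjective _ (QuotientGroup.mk'_surjective _)]
    rw [Subgroup.map_sup, QuotientGroup.map_mk'_self, bot_sup_eq] at h1
    have h3 : (⊤ : Subgroup (X ⧸ Cfsg.pResidual p X)) = (⊤ : Subgroup X).map (QuotientGroup.mk' (Cfsg.pResidual p X)) :=
      (Subgroup.map_top_of_surjective _ (QuotientGroup.mk'_surjective (Cfsg.pResidual p X))).symm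
    rw [commutator_def]
    conv_lhs => rw [h3]
    rw [← Subgroup.map_commutator, ← commutator_def]
    exact h1
  by_contra hne
  have : Nontrivial (X ⧸ Cfsg.pResidual p X) := by
    by_contra hnt
    rw [not_nontrivial_iff_subsingleton] at hnt
    apply hne
    exact QuotientGroup.subgroup_eq_top_of_subsingleton _ hnt
  have := Group.IsSolvable.commutator_lt_top_of_nontrivial (X ⧸ Cfsg.pResidual p X)
  rw [hc] at this
  exact lt_irrefl _ this

end Cfsg.Agent.helper6
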