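import Mathlib
import Cfsg.Prelude.Def_LocalStructure
import Cfsg.Agent.Lib_helper14_PMin
import Cfsg.Agent.Lib_helper14_OpSub
import Cfsg.Agent.Lib_helper7_Local
import Cfsg.Agent.Lib_helper10_PResidual

set_option autoImplicit false
open Cfsg
open scoped commutatorElement

namespace Cfsg.Agent.helper10

open Cfsg.Agent.helper7 Cfsg.Agent.helper14

section pfgeneral

variable {G : Type*} [Group G]

/-- A `p`-subgroup of `p'`-index in `B` meets a normal subgroup `A` of `B` in a subgroup of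
`p'`-index in `A`. -/
theorem pf_inf_normal_index [Finite G] {p : ℕ} (A B S : Subgroup G) (hAB : A ≤ B)
    (hBA : B ≤ Subgroup.normalizer (A : Set G)) (hSB : S ≤ B) (hidx : ¬ p ∣ S.relIndex B) :
    ¬ p ∣ (S ⊓ A).relIndex A := by
  have h1 := relIndex_sup_of_le_normalizer' A S (hSB.trans hBA)
  have h2 : S.relIndex (A ⊔ S) * (A ⊔ S).relIndex B = S.relIndex B :=
    Subgroup.relIndex_mul_relIndex S (A ⊔ S) B le_sup_right (sup_le hAB hSB)
  intro hd
  apply hidx
  rw [← h2, h1, inf_comm]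
  exact Dvd.dvd.mul_right hd _

/-- The join of the proper subgroups of `F` containing `S`. -/
def mm (S F : Subgroup G) : Subgroup G := ⨆ (X : Subgroup G) (_ : S ≤ X ∧ X < F), X

theorem le_mm {S F X : Subgroup G} (h1 : S ≤ X) (h2 : X < F) : X ≤ mm S F :=
  le_iSup₂_of_le X ⟨h1, h2⟩ le_rfl

theorem mm_le {S F Y : Subgroup G} (h : ∀ X : Subgroup G, S ≤ X → X < F → X ≤ Y) : mm S F ≤ Y :=
  iSup₂_le fun X hX => h X hX.1 hX.2

theorem mm_le_self (S F : Subgroup G) : mm S F ≤ F := mm_le fun _ _ h => h.le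

theorem cj_lt_cj {g : G} {X F : Subgroup G} (h : X < F) : cj g X < cj g F := by
  refine lt_of_le_of_ne (cj_mono h.le) fun he => ?_
  have : cj g⁻¹ (cj g X) = cj g⁻¹ (cj g F) := by rw [he]
  rw [cj_inv_cj, cj_inv_cj] at this
  exact h.ne this

theorem cj_mm_le (g : G) (S F : Subgroup G) : cj g (mm S F) ≤ mm (cj g S) (cj g F) := by
  rw [cj_le_iff]
  apply mm_le
  intro X h1 h2
  rw [← cj_le_iff]
  exact le_mm (cj_mono h1) (cj_lt_cj h2)

theorem cj_mm (g : G) (S F : Subgroup G) : cj g (mm S F) = mm (cj g S) (cj g F) := by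
  apply le_antisymm (cj_mm_le g S F)
  have h := cj_mm_le g⁻¹ (cj g S) (cj g F)
  rw [cj_inv_cj, cj_inv_cj] at h
  have h2 := cj_mono (g := g) h
  rwa [cj_cj_inv] at h2

end pfgeneral

end Cfsg.Agent.helper10
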