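import Mathlib
import Cfsg.Prelude.Def_LocalStructure
import Cfsg.Agent.Lib_helper10_PMinFamA
import Cfsg.Agent.Lib_helper1_Core

set_option autoImplicit false
open Cfsg
open scoped commutatorElement

namespace Cfsg.Agent.helper10

open Cfsg.Agent.helper7 Cfsg.Agent.helper14

variable {H : Type*} [Group H]

/-- The standing hypotheses on the conjugation-transitive family `𝒦`. -/
structure PFam (p : ℕ) (𝒦 : Set (Subgroup H)) : Prop where
  ne : 𝒦.Nonempty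
  inv : ∀ h : H, ∀ E ∈ 𝒦, cj h E ∈ 𝒦
  tr : ∀ E ∈ 𝒦, ∀ K ∈ 𝒦, ∃ h : H, K = cj h E
  res : Cfsg.pResidual p H ≤ sSup 𝒦
  norm : ∀ E ∈ 𝒦, sSup 𝒦 ⊔ Cfsg.pCore p H ≤
    Subgroup.normalizer ((E ⊔ Cfsg.pCore p H : Subgroup H) : Set H)

/-- "Sylow data" for a subgroup. -/
def IsSyl (p : ℕ) (T : Subgroup H) : Prop := IsPGroup p T ∧ ¬ p ∣ T.index

theorem IsSyl.conj {p : ℕ} {T : Subgroup H} (h : IsSyl p T) (g : H) :
    IsSyl p (Cfsg.Agent.helper7.cj g T) := by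
  refine ⟨h.1.map _, ?_⟩
  have : (Cfsg.Agent.helper7.cj g T).index = T.index :=
    Subgroup.index_map_equiv T (MulAut.conj g)
  rw [this]; exact h.2

theorem isSyl_sylow {p : ℕ} [Fact p.Prime] [Finite H] (T : Sylow p H) : IsSyl p (T : Subgroup H) :=
  ⟨T.isPGroup', T.not_dvd_index⟩

namespace PFam

variable {p : ℕ} {𝒦 : Set (Subgroup H)}

theorem le_R (_hF : PFam p 𝒦) {E : Subgroup H} (hE : E ∈ 𝒦) : E ≤ sSup 𝒦 := le_sSup hE

theorem cj_R_le (hF : PFam p 𝒦) (g : H) : cj g (sSup 𝒦) ≤ sSup 𝒦 := by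
  rw [cj_le_iff]
  apply sSup_le
  intro E hE
  rw [← cj_le_iff]
  exact le_sSup (hF.inv g E hE)

theorem R_normal (hF : PFam p 𝒦) : (sSup 𝒦).Normal := by
  refine ⟨fun x hx g => ?_⟩
  exact hF.cj_R_le g (cj_mem_cj hx)

theorem RP_normal (hF : PFam p 𝒦) : (sSup 𝒦 ⊔ Cfsg.pCore p H).Normal := by
  have := hF.R_normal
  have := Cfsg.Agent.helper1.pCore_normal (G := H) p
  infer_instance

theorem sup_syl [Finite H] [Fact p.Prime] (hF : PFam p 𝒦) {T : Subgroup H} (hT : IsSyl p T) :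
    sSup 𝒦 ⊔ T = ⊤ := by
  have h : Cfsg.pResidual p H ⊔ T = ⊤ := pResidual_sup_sylow_eq_top p (hT.1.toSylow hT.2)
  rw [eq_top_iff, ← h]
  exact sup_le_sup_right hF.res _

theorem pCore_le_syl [Finite H] [Fact p.Prime] {T : Subgroup H} (hT : IsSyl p T) :
    Cfsg.pCore p H ≤ T := by
  exact Cfsg.Agent.helper1.pCore_le_sylow (hT.1.toSylow hT.2)

/-- `T ∩ EP` has `p'`-index in `EP`. -/
theorem hat_index [Finite H] [Fact p.Prime] (hF : PFam p 𝒦) {T : Subgroup H} (hT : IsSyl p T)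
    {E : Subgroup H} (hE : E ∈ 𝒦) :
    ¬ p ∣ (T ⊓ (E ⊔ Cfsg.pCore p H)).relIndex (E ⊔ Cfsg.pCore p H) := by
  have := hF.RP_normal
  have h1 : ¬ p ∣ (T ⊓ (sSup 𝒦 ⊔ Cfsg.pCore p H)).relIndex (sSup 𝒦 ⊔ Cfsg.pCore p H) := by
    apply pf_inf_normal_index _ ⊤ T le_top _ le_top
    · rw [Subgroup.relIndex_top_right]; exact hT.2
    · rw [Subgroup.normalizer_eq_top]
  have hle : E ⊔ Cfsg.pCore p H ≤ sSup 𝒦 ⊔ Cfsg.pCore p H := sup_le_sup_right (hF.le_R hE) _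
  have h2 := pf_inf_normal_index (E ⊔ Cfsg.pCore p H) (sSup 𝒦 ⊔ Cfsg.pCore p H)
    (T ⊓ (sSup 𝒦 ⊔ Cfsg.pCore p H)) hle (hF.norm E hE) inf_le_right h1
  have h3 : T ⊓ (sSup 𝒦 ⊔ Cfsg.pCore p H) ⊓ (E ⊔ Cfsg.pCore p H) = T ⊓ (E ⊔ Cfsg.pCore p H) := by
    rw [inf_assoc, inf_eq_right.mpr hle]
  rwa [h3] at h2

/-- `T ∩ E` has `p'`-index in `E`. -/
theorem E_index [Finite H] [Fact p.Prime] (hF : PFam p 𝒦) {T : Subgroup H} (hT : IsSyl p T)
    {E : Subgroup H} (hE : E ∈ 𝒦) : ¬ p ∣ (T ⊓ E).relIndex E := by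
  have hPn := Cfsg.Agent.helper1.pCore_normal (G := H) p
  set P := Cfsg.pCore p H with hP
  have hPT : P ≤ T := pCore_le_syl hT
  have hnP : ∀ V : Subgroup H, V ≤ Subgroup.normalizer (P : Set H) := fun V => by
    rw [Subgroup.normalizer_eq_top]; exact le_top
  have hS : T ⊓ (E ⊔ P) = P ⊔ (T ⊓ E) := by
    apply le_antisymm
    · have := dedekind_of_normalizer P E T hPT (hnP E)
      rwa [sup_comm P E] at this
    · exact sup_le (le_inf hPT le_sup_right) (inf_le_inf_left _ le_sup_left)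
  have e1 := relIndex_sup_of_le_normalizer P E (hnP E)
  have e2 := relIndex_sup_of_le_normalizer P (T ⊓ E) (hnP _)
  have e2' : P ⊓ (T ⊓ E) = P ⊓ E := by
    rw [← inf_assoc, inf_eq_left.mpr hPT]
  rw [e2'] at e2
  have e3 := Subgroup.relIndex_mul_relIndex P (P ⊔ (T ⊓ E)) (P ⊔ E) le_sup_left
    (sup_le_sup_left inf_le_right _)
  have e4 := Subgroup.relIndex_mul_relIndex (P ⊓ E) (T ⊓ E) E
    (inf_le_inf_right _ hPT) inf_le_right
  have hne : (P ⊓ E).relIndex (T ⊓ E) ≠ 0 := by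
    unfold Subgroup.relIndex; exact Subgroup.index_ne_zero_of_finite
  have heq : (P ⊔ (T ⊓ E)).relIndex (P ⊔ E) = (T ⊓ E).relIndex E := by
    apply Nat.eq_of_mul_eq_mul_left (Nat.pos_of_ne_zero hne)
    calc (P ⊓ E).relIndex (T ⊓ E) * (P ⊔ (T ⊓ E)).relIndex (P ⊔ E)
        = P.relIndex (P ⊔ (T ⊓ E)) * (P ⊔ (T ⊓ E)).relIndex (P ⊔ E) := by rw [e2]
      _ = P.relIndex (P ⊔ E) := e3
      _ = (P ⊓ E).relIndex E := e1
      _ = (P ⊓ E).relIndex (T ⊓ E) * (T ⊓ E).relIndex E := e4.symm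
  have h := hF.hat_index hT hE
  rw [hS, sup_comm E P, heq] at h
  exact h

end PFam

end Cfsg.Agent.helper10
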