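import Mathlib
import Cfsg.Prelude.Def_LocalStructure
import Cfsg.Agent.Lib_helper10_PMinFamB
import Cfsg.Agent.Lib_helper14_ParaChar

set_option autoImplicit false
open Cfsg
open scoped commutatorElement

namespace Cfsg.Agent.helper10

open Cfsg.Agent.helper7 Cfsg.Agent.helper14

variable {H : Type*} [Group H]

/-- Hypothesis (A): each member of the family is `p`-minimal. -/
def HypA (p : ℕ) (𝒦 : Set (Subgroup H)) : Prop :=
  ∀ E ∈ 𝒦, ∀ T : Sylow p ↥E, Cfsg.IsMinimalOver (T : Subgroup ↥E)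

namespace PFam

variable {p : ℕ} {𝒦 : Set (Subgroup H)}

theorem minOver [Finite H] [Fact p.Prime] (hF : PFam p 𝒦) (hA : HypA p 𝒦) {T : Subgroup H}
    (hT : IsSyl p T) {E : Subgroup H} (hE : E ∈ 𝒦) :
    Cfsg.IsMinimalOver ((T ⊓ E).subgroupOf E) := by
  have hp : IsPGroup p ((T ⊓ E).subgroupOf E) :=
    (hT.1.to_le inf_le_left).comap_of_injective _ (Subgroup.subtype_injective _)
  have hidx : ¬ p ∣ ((T ⊓ E).subgroupOf E).index := hF.E_index hT hE
  exact hA E hE (hp.toSylow hidx)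

/-- A subgroup normalized by `E` and containing `T ∩ E` contains `E`. -/
theorem le_of_normalized [Finite H] [Fact p.Prime] (hF : PFam p 𝒦) (hA : HypA p 𝒦) {T : Subgroup H}
    (hT : IsSyl p T) {E : Subgroup H} (hE : E ∈ 𝒦) (N : Subgroup H)
    (hEN : E ≤ Subgroup.normalizer (N : Set H)) (hTN : T ⊓ E ≤ N) : E ≤ N := by
  have hn : (N.subgroupOf E).Normal := Subgroup.normal_subgroupOf_of_le_normalizer hEN
  have h1 : (T ⊓ E).subgroupOf E ≤ N.subgroupOf E := Subgroup.comap_mono hTN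
  have h2 := Subgroup.normalClosure_le_normal (N := N.subgroupOf E) (s := ((T ⊓ E).subgroupOf E : Set ↥E)) h1
  rw [(hF.minOver hA hT hE).1] at h2
  exact Subgroup.subgroupOf_eq_top.mp (top_le_iff.mp h2)

/-- `E` is not contained in the join of the proper overgroups of `T ∩ E`. -/
theorem not_le_mm [Finite H] [Fact p.Prime] (hF : PFam p 𝒦) (hA : HypA p 𝒦) {T : Subgroup H}
    (hT : IsSyl p T) {E : Subgroup H} (hE : E ∈ 𝒦) : ¬ E ≤ mm (T ⊓ E) E := by
  obtain ⟨C, ⟨hCco, hCT⟩, huniq⟩ := (hF.minOver hA hT hE).2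
  have key : ∀ X : Subgroup H, T ⊓ E ≤ X → X < E → X ≤ C.map E.subtype := by
    intro X h1 h2
    have hXne : X.subgroupOf E ≠ ⊤ := fun h =>
      absurd (Subgroup.subgroupOf_eq_top.mp h) (not_le_of_gt h2)
    obtain ⟨C', hC', hXC'⟩ := (eq_top_or_exists_le_coatom _).resolve_left hXne
    have hCC : C' = C := huniq C' ⟨hC', (Subgroup.comap_mono h1).trans hXC'⟩
    intro x hx
    refine ⟨⟨x, h2.le hx⟩, ?_, rfl⟩
    rw [← hCC]
    exact hXC' (Subgroup.mem_subgroupOf.mpr hx)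
  intro hle
  apply hCco.1
  rw [eq_top_iff]
  intro y _
  obtain ⟨c, hc, hcy⟩ := (hle.trans (mm_le key)) y.2
  have : c = y := Subtype.ext hcy
  rwa [← this]

theorem inf_lt [Finite H] [Fact p.Prime] (hF : PFam p 𝒦) (hA : HypA p 𝒦) {T : Subgroup H}
    (hT : IsSyl p T) {E : Subgroup H} (hE : E ∈ 𝒦) : T ⊓ E < E := by
  refine lt_of_le_of_ne inf_le_right fun he => ?_
  obtain ⟨C, ⟨hCco, hCT⟩, -⟩ := (hF.minOver hA hT hE).2
  apply hCco.1
  rw [eq_top_iff]
  refine le_trans ?_ hCT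
  rw [he]
  intro y _
  exact Subgroup.mem_subgroupOf.mpr y.2

end PFam

theorem mm_cj_inf (g : H) (T F : Subgroup H) :
    mm (cj g T ⊓ cj g F) (cj g F) = cj g (mm (T ⊓ F) F) := by
  rw [cj_mm, cj_inf]

/-- The candidate for the unique maximal subgroup over `T`. -/
def pfM {𝒦 : Set (Subgroup H)} (hinv : ∀ h : H, ∀ E ∈ 𝒦, cj h E ∈ 𝒦) (T : Subgroup H) :
    Subgroup H where
  carrier := {h | ∀ F ∈ 𝒦, mm (cj h T ⊓ F) F = mm (T ⊓ F) F}
  one_mem' := by
    intro F _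
    rw [cj_one]
  mul_mem' := by
    intro a b ha hb F hF
    have : ∃ F' ∈ 𝒦, F = cj a F' := ⟨cj a⁻¹ F, hinv _ _ hF, (cj_cj_inv a F).symm⟩
    obtain ⟨F', hF', rfl⟩ := this
    rw [← cj_cj, mm_cj_inf, hb F' hF', ← mm_cj_inf]
    exact ha _ (hinv a F' hF')
  inv_mem' := by
    intro a ha F hF
    have : ∃ F' ∈ 𝒦, F = cj a⁻¹ F' := ⟨cj a F, hinv _ _ hF, (cj_inv_cj a F).symm⟩
    obtain ⟨F', hF', rfl⟩ := this
    have e : mm (T ⊓ cj a⁻¹ F') (cj a⁻¹ F') = mm (cj a⁻¹ (cj a T) ⊓ cj a⁻¹ F') (cj a⁻¹ F') := by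
      rw [cj_inv_cj]
    rw [e, mm_cj_inf, mm_cj_inf, ha F' hF']

theorem mem_pfM {𝒦 : Set (Subgroup H)} (hinv : ∀ h : H, ∀ E ∈ 𝒦, cj h E ∈ 𝒦) (T : Subgroup H)
    (h : H) : h ∈ pfM hinv T ↔ ∀ F ∈ 𝒦, mm (cj h T ⊓ F) F = mm (T ⊓ F) F := Iff.rfl

namespace PFam

variable {p : ℕ} {𝒦 : Set (Subgroup H)}

theorem T_le_pfM (hF : PFam p 𝒦) (T : Subgroup H) : T ≤ pfM hF.inv T := by
  intro t ht F _
  rw [cj_eq_of_mem_normalizer (Subgroup.le_normalizer ht)]

theorem pfM_ne_top [Finite H] [Fact p.Prime] (hF : PFam p 𝒦) (hA : HypA p 𝒦) {T : Subgroup H}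
    (hT : IsSyl p T) : pfM hF.inv T ≠ ⊤ := by
  intro htop
  obtain ⟨E, hE⟩ := hF.ne
  apply hF.not_le_mm hA hT hE
  apply hF.le_of_normalized hA hT hE
  · intro h hh
    apply mem_normalizer_of_cj_eq
    have hm : h ∈ pfM hF.inv T := by rw [htop]; trivial
    have h1 := hm E hE
    have hEE : cj h E = E := cj_eq_of_mem_normalizer (Subgroup.le_normalizer hh)
    have h2 := mm_cj_inf h T E
    rw [hEE] at h2
    rw [← h2, h1]
  · exact le_mm le_rfl (hF.inf_lt hA hT hE)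

theorem le_pfM [Finite H] [Fact p.Prime] (hF : PFam p 𝒦) {T : Subgroup H}
    (hT : IsSyl p T) (L : Subgroup H) (hTL : T ≤ L) (hL : L ≠ ⊤) : L ≤ pfM hF.inv T := by
  intro l hl F hFm
  have hlL : cj l L = L := cj_eq_of_mem_normalizer (Subgroup.le_normalizer hl)
  have hT'L : cj l T ≤ L := by
    have := cj_mono (g := l) hTL
    rwa [hlL] at this
  have hT' : IsSyl p (cj l T) := hT.conj l
  by_cases hFL : F ≤ L
  · exfalso
    apply hL
    rw [eq_top_iff, ← hF.sup_syl hT]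
    refine sup_le (sSup_le ?_) hTL
    intro F' hF'
    obtain ⟨h, rfl⟩ := hF.tr F hFm F' hF'
    have hn := hF.RP_normal
    have hh : h ∈ (sSup 𝒦 ⊔ Cfsg.pCore p H) ⊔ T := by
      have e : (sSup 𝒦 ⊔ Cfsg.pCore p H) ⊔ T = ⊤ := by
        rw [eq_top_iff, ← hF.sup_syl hT]
        exact sup_le_sup_right le_sup_left _
      rw [e]; trivial
    have hTn : T ≤ Subgroup.normalizer ((sSup 𝒦 ⊔ Cfsg.pCore p H : Subgroup H) : Set H) := by
      rw [Subgroup.normalizer_eq_top]; exact le_top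
    obtain ⟨r, hr, t, ht, rfl⟩ := mem_sup_of_normalizer hTn hh
    have hPL : Cfsg.pCore p H ≤ L := (pCore_le_syl hT).trans hTL
    have htF : cj t F ∈ 𝒦 := hF.inv t F hFm
    have h1 : cj r (cj t F ⊔ Cfsg.pCore p H) = cj t F ⊔ Cfsg.pCore p H :=
      cj_eq_of_mem_normalizer (hF.norm _ htF hr)
    have h3 : cj t F ≤ L := by
      have := cj_mono (g := t) hFL
      rwa [cj_eq_of_mem_normalizer (Subgroup.le_normalizer (hTL ht))] at this
    have h2 : cj (r * t) F ≤ cj t F ⊔ Cfsg.pCore p H := by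
      rw [← cj_cj, ← h1]
      exact cj_mono le_sup_left
    exact h2.trans (sup_le h3 hPL)
  · have hlt : L ⊓ F < F := lt_of_le_of_ne inf_le_right fun he => hFL (he ▸ inf_le_left)
    have hi1 : ¬ p ∣ (T ⊓ F).relIndex (L ⊓ F) := by
      have := Subgroup.relIndex_mul_relIndex (T ⊓ F) (L ⊓ F) F (inf_le_inf_right _ hTL) inf_le_right
      intro hd
      apply hF.E_index hT hFm
      rw [← this]; exact Dvd.dvd.mul_right hd _
    have hi2 : ¬ p ∣ (cj l T ⊓ F).relIndex (L ⊓ F) := by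
      have := Subgroup.relIndex_mul_relIndex (cj l T ⊓ F) (L ⊓ F) F (inf_le_inf_right _ hT'L)
        inf_le_right
      intro hd
      apply hF.E_index hT' hFm
      rw [← this]; exact Dvd.dvd.mul_right hd _
    obtain ⟨x, hx, hxe⟩ := exists_cj_eq_of_not_dvd (L ⊓ F) (T ⊓ F) (cj l T ⊓ F)
      (inf_le_inf_right _ hTL) (inf_le_inf_right _ hT'L) (hT.1.to_le inf_le_left)
      (hT'.1.to_le inf_le_left) hi1 hi2
    have hxF : cj x F = F := cj_eq_of_mem_normalizer (Subgroup.le_normalizer hx.2)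
    have hxm : x ∈ mm (T ⊓ F) F := le_mm (inf_le_inf_right _ hTL) hlt hx
    rw [hxe]
    have h2 := cj_mm x (T ⊓ F) F
    rw [hxF] at h2
    rw [← h2]
    exact cj_eq_of_mem_normalizer (Subgroup.le_normalizer hxm)

/-- Part 1: `H` is `p`-minimal. -/
theorem part1 [Finite H] [Fact p.Prime] (hF : PFam p 𝒦) (hA : HypA p 𝒦) (T : Sylow p H) :
    Cfsg.IsMinimalOver (T : Subgroup H) := by
  have hT := isSyl_sylow T
  have hne := hF.pfM_ne_top hA hT
  have hTne : (T : Subgroup H) ≠ ⊤ := fun h => hne (top_le_iff.mp (h ▸ hF.T_le_pfM (T : Subgroup H)))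
  refine ⟨?_, existsUnique_coatom_of_hyp (T : Subgroup H) (pfM hF.inv T) hTne hne
    (fun X hTX hX => hF.le_pfM hT X hTX hX)⟩
  rw [eq_top_iff, ← hF.sup_syl hT]
  refine sup_le (sSup_le ?_) Subgroup.le_normalClosure
  intro E hE
  apply hF.le_of_normalized hA hT hE
  · have : (Subgroup.normalClosure ((T : Subgroup H) : Set H)).Normal := Subgroup.normalClosure_normal
    rw [Subgroup.normalizer_eq_top]; exact le_top
  · exact inf_le_left.trans Subgroup.le_normalClosure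

end PFam

end Cfsg.Agent.helper10
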