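import Mathlib
import Cfsg.Prelude.Def_LocalStructure
import Cfsg.Agent.Lib_helper10_PMinFamC
import Cfsg.Agent.Lib_helper14_PIrr3

set_option autoImplicit false
open Cfsg
open scoped commutatorElement

namespace Cfsg.Agent.helper10

open Cfsg.Agent.helper7 Cfsg.Agent.helper14

section pfgen2

variable {G : Type*} [Group G]

/-- A subnormal `p`-subgroup lies in `O_p`. -/
theorem pf_sn_le_pCore [Finite G] {p : ℕ} [hp : Fact p.Prime] (Z : Subgroup G) (hsn : SN Z ⊤)
    (hZ : IsPGroup p Z) : Z ≤ Cfsg.pCore p G := by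
  rw [pCore_eq hp.out]
  exact le_piCoreIn_of_sn hsn ((isPGroup_iff_piGrp hp.out).1 hZ)

/-- The commutator trick: if `[s, x]` lies in a subgroup without `p`-elements and commutes with
`s`, for all `s` in a set `S` of `p`-elements, then `x` centralizes `⟨S⟩`. -/
theorem pf_lemmaX {p : ℕ} (x : G) (Z : Subgroup G)
    (hZ : ∀ z ∈ Z, (∃ k : ℕ, z ^ p ^ k = 1) → z = 1) (S : Set G)
    (hS : ∀ s ∈ S, (∃ k : ℕ, s ^ p ^ k = 1) ∧ ⁅s, x⁆ ∈ Z ∧ Commute ⁅s, x⁆ s) :
    Subgroup.closure S ≤ Subgroup.centralizer {x} := by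
  rw [Subgroup.closure_le]
  intro s hs
  obtain ⟨⟨k, hk⟩, hsZ, hcomm⟩ := hS s hs
  have hpow : ∀ n : ℕ, ⁅s ^ n, x⁆ = ⁅s, x⁆ ^ n := by
    intro n
    induction n with
    | zero => simp [commutatorElement_def]
    | succ n ih =>
      have h1 : ⁅s ^ (n + 1), x⁆ = s ^ n * ⁅s, x⁆ * (s ^ n)⁻¹ * ⁅s ^ n, x⁆ := by
        simp only [commutatorElement_def, pow_succ]; group
      have h2 : s ^ n * ⁅s, x⁆ * (s ^ n)⁻¹ = ⁅s, x⁆ := by
        have := (hcomm.pow_right n).eq
        rw [← this, mul_inv_cancel_right]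
      rw [h1, h2, ih, pow_succ']
  have h1 : ⁅s, x⁆ = 1 := by
    apply hZ _ hsZ ⟨k, ?_⟩
    rw [← hpow, hk]; simp [commutatorElement_def]
  rw [SetLike.mem_coe, Subgroup.mem_centralizer_iff]
  intro y hy
  rw [Set.mem_singleton_iff] at hy
  subst hy
  have := commutatorElement_eq_one_iff_mul_comm.mp h1
  exact this.symm

/-- In a strongly `p`-irreducible finite group the `p`-elements generate. -/
theorem pf_pgen {E : Type*} [Group E] [Finite E] {p : ℕ} [Fact p.Prime]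
    (hSI : Cfsg.IsStronglyPIrreducible p E) :
    (⊤ : Subgroup E) ≤ Subgroup.closure {s : E | ∃ k : ℕ, s ^ p ^ k = 1} := by
  set N := Subgroup.closure {s : E | ∃ k : ℕ, s ^ p ^ k = 1} with hN
  have hNn : N.Normal := by
    apply closure_normal_of_conj_invariant
    rintro x ⟨k, hk⟩ g
    refine ⟨k, ?_⟩
    rw [conj_pow, hk]; simp
  have hTN : ∀ T : Sylow p E, (T : Subgroup E) ≤ N := by
    intro T x hx
    apply Subgroup.subset_closure
    obtain ⟨k, hk⟩ := T.isPGroup' ⟨x, hx⟩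
    refine ⟨k, ?_⟩
    have := congrArg Subtype.val hk
    simpa using this
  by_cases h : ⁅N, (⊤ : Subgroup E)⁆ ≤ Cfsg.pCore p E
  · exfalso
    apply hSI.1
    intro T
    refine ⟨fun x hx g => ?_⟩
    have h1 : ⁅x, g⁆ ∈ (T : Subgroup E) :=
      Cfsg.Agent.helper1.pCore_le_sylow T
        (h (Subgroup.commutator_mem_commutator (hTN T hx) (Subgroup.mem_top g)))
    have h2 : g * x * g⁻¹ = ⁅x, g⁆⁻¹ * x := by
      simp only [commutatorElement_def]; group
    rw [h2]
    exact Subgroup.mul_mem _ (Subgroup.inv_mem _ h1) hx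
  · have h1 := hSI.2 N hNn h
    obtain ⟨T⟩ : Nonempty (Sylow p E) := inferInstance
    rw [← pResidual_sup_sylow_eq_top p T]
    exact sup_le h1 (hTN T)

/-- Transfer of `pf_pgen` to the image of a subgroup under a homomorphism. -/
theorem pf_pgen_map {G' : Type*} [Group G'] [Finite G] {p : ℕ} [Fact p.Prime] (E : Subgroup G)
    (hSI : Cfsg.IsStronglyPIrreducible p ↥E) (f : G →* G') :
    E.map f ≤ Subgroup.closure {s : G' | (∃ k : ℕ, s ^ p ^ k = 1) ∧ s ∈ E.map f} := by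
  have h := pf_pgen hSI
  have h2 := Subgroup.map_mono (f := f.comp E.subtype) h
  rw [MonoidHom.map_closure] at h2
  have h3 : (⊤ : Subgroup ↥E).map (f.comp E.subtype) = E.map f := by
    rw [← Subgroup.map_map, ← MonoidHom.range_eq_map, Subgroup.range_subtype]
  rw [h3] at h2
  refine h2.trans (Subgroup.closure_mono ?_)
  rintro _ ⟨s, ⟨k, hk⟩, rfl⟩
  refine ⟨⟨k, ?_⟩, ?_⟩
  · rw [← map_pow, hk, map_one]
  · exact ⟨(s : G), s.2, rfl⟩

end pfgen2

end Cfsg.Agent.helper10
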