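import Mathlib
import Cfsg.Prelude.Def_LocalStructure
import Cfsg.Agent.Lib_helper10_PMinFamD
import Cfsg.Agent.Lib_helper14_OpSub2

set_option autoImplicit false
open Cfsg
open scoped commutatorElement

namespace Cfsg.Agent.helper10

open Cfsg.Agent.helper7 Cfsg.Agent.helper14

variable {H : Type*} [Group H]

instance pf_pCore_normal (p : ℕ) : (Cfsg.pCore p H).Normal := Cfsg.Agent.helper1.pCore_normal p

/-- Hypothesis (B): each member of the family is strongly `p`-irreducible. -/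
def HypB (p : ℕ) (𝒦 : Set (Subgroup H)) : Prop :=
  ∀ E ∈ 𝒦, Cfsg.IsStronglyPIrreducible p ↥E

/-- The quotient map modulo `O_p(H)`. -/
abbrev pq (p : ℕ) (H : Type*) [Group H] : H →* H ⧸ Cfsg.pCore p H :=
  QuotientGroup.mk' (Cfsg.pCore p H)

theorem pq_surj (p : ℕ) : Function.Surjective (pq p H) := QuotientGroup.mk'_surjective _

theorem pq_ker (p : ℕ) : (pq p H).ker = Cfsg.pCore p H := QuotientGroup.ker_mk' _

theorem pCore_quot_eq_bot (p : ℕ) [Fact p.Prime] : Cfsg.pCore p (H ⧸ Cfsg.pCore p H) = ⊥ := by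
  have h := pCore_comap_quot (Cfsg.pCore p H) (Cfsg.Agent.helper1.pCore_isPGroup p)
  apply Subgroup.comap_injective (pq_surj p)
  rw [h, MonoidHom.comap_bot, pq_ker]

theorem map_pq_le_bot_iff (p : ℕ) (X : Subgroup H) : X.map (pq p H) = ⊥ ↔ X ≤ Cfsg.pCore p H := by
  rw [Subgroup.map_eq_bot_iff, pq_ker]

theorem map_sup_pCore (p : ℕ) (X : Subgroup H) :
    (X ⊔ Cfsg.pCore p H).map (pq p H) = X.map (pq p H) := by
  rw [Subgroup.map_sup, (map_pq_le_bot_iff p _).mpr le_rfl, sup_bot_eq]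

/-- A central `p`-element of a subnormal subgroup is trivial when `O_p = 1`. -/
theorem pf_central_pelt {G : Type*} [Group G] [Finite G] {p : ℕ} [hp : Fact p.Prime]
    (hO : Cfsg.pCore p G = ⊥) (X : Subgroup G) (hX : SN X ⊤) (z : G) (hz : z ∈ X)
    (hc : X ≤ Subgroup.centralizer {z}) (hp' : ∃ k : ℕ, z ^ p ^ k = 1) : z = 1 := by
  obtain ⟨k, hk⟩ := hp'
  have hZp : IsPGroup p (Subgroup.zpowers z) := by
    obtain ⟨j, -, hj⟩ := (Nat.dvd_prime_pow hp.out).mp (orderOf_dvd_of_pow_eq_one hk)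
    apply IsPGroup.of_card (n := j)
    rw [Nat.card_zpowers, hj]
  have hZX : Subgroup.zpowers z ≤ X := by
    rw [Subgroup.zpowers_le]; exact hz
  have hn : X ≤ Subgroup.normalizer ((Subgroup.zpowers z : Subgroup G) : Set G) := by
    intro x hx
    have hxz : Commute x z := by
      have := Subgroup.mem_centralizer_iff.mp (hc hx) z (Set.mem_singleton z)
      exact this.symm
    apply mem_normalizer_of_cj_eq
    ext y
    rw [mem_cj]
    constructor
    · intro hy
      obtain ⟨n, hn⟩ := Subgroup.mem_zpowers_iff.mp hy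
      have h1 : Commute x (z ^ n) := hxz.zpow_right n
      have h2 : y = x * (x⁻¹ * y * x) * x⁻¹ := by group
      rw [h2, ← hn, h1.eq, mul_inv_cancel_right]
      exact Subgroup.zpow_mem_zpowers z n
    · intro hy
      obtain ⟨n, hn⟩ := Subgroup.mem_zpowers_iff.mp hy
      have h1 : Commute x (z ^ n) := hxz.zpow_right n
      rw [← hn, mul_assoc, h1.symm.eq, inv_mul_cancel_left]
      exact Subgroup.zpow_mem_zpowers z n
  have h1 := pf_sn_le_pCore _ ((SN.of_normal hZX hn).trans hX) hZp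
  rw [hO] at h1
  exact (Subgroup.mem_bot.mp (h1 (Subgroup.mem_zpowers z)))

namespace PFam

variable {p : ℕ} {𝒦 : Set (Subgroup H)}

theorem E_le_RP (hF : PFam p 𝒦) {E : Subgroup H} (hE : E ∈ 𝒦) :
    E ⊔ Cfsg.pCore p H ≤ sSup 𝒦 ⊔ Cfsg.pCore p H := sup_le_sup_right (hF.le_R hE) _

theorem sn_hat (hF : PFam p 𝒦) {E : Subgroup H} (hE : E ∈ 𝒦) : SN (E ⊔ Cfsg.pCore p H) ⊤ := by
  have hn := hF.RP_normal
  refine (SN.of_normal (hF.E_le_RP hE) (hF.norm E hE)).trans (SN.of_normal le_top ?_)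
  rw [Subgroup.normalizer_eq_top]

/-- `O_p(E) ≤ O_p(H)`. -/
theorem pCoreE_le [Finite H] [hp : Fact p.Prime] (hF : PFam p 𝒦) {E : Subgroup H} (hE : E ∈ 𝒦) :
    (Cfsg.pCore p ↥E).map E.subtype ≤ Cfsg.pCore p H := by
  set O := (Cfsg.pCore p ↥E).map E.subtype with hO
  set P := Cfsg.pCore p H with hP
  have hOp : IsPGroup p O := (Cfsg.Agent.helper1.pCore_isPGroup p).map _
  have hEO : E ≤ Subgroup.normalizer (O : Set H) := by
    have h1 := Subgroup.le_normalizer_map (H := Cfsg.pCore p ↥E) E.subtype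
    have h2 : Subgroup.normalizer ((Cfsg.pCore p ↥E : Subgroup ↥E) : Set ↥E) = ⊤ :=
      Subgroup.normalizer_eq_top _
    rw [h2, ← MonoidHom.range_eq_map, Subgroup.range_subtype] at h1
    exact h1
  have hnP : ∀ V : Subgroup H, V ≤ Subgroup.normalizer (P : Set H) := fun V => by
    rw [Subgroup.normalizer_eq_top]; exact le_top
  have hOPp : IsPGroup p ↥(P ⊔ O) := by
    rw [isPGroup_iff_piGrp hp.out]
    exact PiGrp.sup ((isPGroup_iff_piGrp hp.out).1 (Cfsg.Agent.helper1.pCore_isPGroup p))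
      ((isPGroup_iff_piGrp hp.out).1 hOp) (hnP O)
  have hOE : O ≤ E := Subgroup.map_subtype_le _
  have hn : E ⊔ P ≤ Subgroup.normalizer ((P ⊔ O : Subgroup H) : Set H) := by
    apply sup_le
    · exact Cfsg.Agent.helper14.le_normalizer_sup (hnP E) hEO
    · exact le_sup_left.trans Subgroup.le_normalizer
  have hsn : SN (P ⊔ O) ⊤ :=
    (SN.of_normal (sup_le le_sup_right (hOE.trans le_sup_left)) hn).trans (hF.sn_hat hE)
  exact le_sup_right.trans (pf_sn_le_pCore _ hsn hOPp)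

/-- Strong irreducibility of `E`, in ambient form. -/
theorem strong_irr [Finite H] [hp : Fact p.Prime] (hF : PFam p 𝒦) (hB : HypB p 𝒦) {E : Subgroup H}
    (hE : E ∈ 𝒦) (Y : Subgroup H) (hEY : E ≤ Subgroup.normalizer (Y : Set H)) :
    opOf p E ≤ Y ∨ ⁅Y ⊓ E, E⁆ ≤ Cfsg.pCore p H := by
  have hn : (Y.subgroupOf E).Normal := Subgroup.normal_subgroupOf_of_le_normalizer hEY
  have htop : (⊤ : Subgroup ↥E).map E.subtype = E := by
    rw [← MonoidHom.range_eq_map, Subgroup.range_subtype]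
  by_cases h : ⁅Y.subgroupOf E, (⊤ : Subgroup ↥E)⁆ ≤ Cfsg.pCore p ↥E
  · right
    have h1 := Subgroup.map_mono (f := E.subtype) h
    rw [Subgroup.map_commutator, Subgroup.subgroupOf_map_subtype, htop] at h1
    exact h1.trans (hF.pCoreE_le hE)
  · left
    have h1 := Subgroup.map_mono (f := E.subtype) ((hB E hE).2 _ hn h)
    rw [map_pResidual_eq_opOf, Subgroup.subgroupOf_map_subtype] at h1
    exact h1.trans inf_le_left

end PFam

end Cfsg.Agent.helper10
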