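import Mathlib
import Cfsg.Prelude.Def_LocalStructure
import Cfsg.Agent.Lib_helper10_PMinFamE

set_option autoImplicit false
open Cfsg
open scoped commutatorElement

namespace Cfsg.Agent.helper10

open Cfsg.Agent.helper7 Cfsg.Agent.helper14

variable {H : Type*} [Group H]

section elts

variable {G : Type*} [Group G]

theorem comm_mem_of_mem_normalizer_right {A : Subgroup G} {a b : G} (ha : a ∈ A)
    (hb : b ∈ Subgroup.normalizer (A : Set G)) : ⁅a, b⁆ ∈ A := by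
  have h1 : b * a⁻¹ * b⁻¹ ∈ A := (Subgroup.mem_normalizer_iff.mp hb a⁻¹).mp (A.inv_mem ha)
  have h2 : ⁅a, b⁆ = a * (b * a⁻¹ * b⁻¹) := by simp only [commutatorElement_def]; group
  rw [h2]; exact A.mul_mem ha h1

theorem comm_mem_of_mem_normalizer_left {B : Subgroup G} {a b : G} (hb : b ∈ B)
    (ha : a ∈ Subgroup.normalizer (B : Set G)) : ⁅a, b⁆ ∈ B := by
  have h1 : a * b * a⁻¹ ∈ B := (Subgroup.mem_normalizer_iff.mp ha b).mp hb
  have h2 : ⁅a, b⁆ = (a * b * a⁻¹) * b⁻¹ := by simp only [commutatorElement_def]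
  rw [h2]; exact B.mul_mem h1 (B.inv_mem hb)

end elts

/-- Elements of `π(Y) ∩ π(E)` commute with `π(E)` when `[Y ∩ E, E] ≤ O_p(H)` and `O_p(H) ≤ Y`. -/
theorem map_inf_comm (p : ℕ) (E Y : Subgroup H) (hPY : Cfsg.pCore p H ≤ Y)
    (h : ⁅Y ⊓ E, E⁆ ≤ Cfsg.pCore p H) :
    ∀ x ∈ Y.map (pq p H) ⊓ E.map (pq p H), ∀ y ∈ E.map (pq p H), x * y = y * x := by
  rintro x ⟨⟨y₀, hy₀, hxy⟩, ⟨e, he, rfl⟩⟩ y ⟨e', he', rfl⟩
  have h1 : y₀⁻¹ * e ∈ Cfsg.pCore p H := by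
    have := QuotientGroup.eq (s := Cfsg.pCore p H) (a := y₀) (b := e)
    exact this.mp hxy
  have heY : e ∈ Y := by
    have : e = y₀ * (y₀⁻¹ * e) := by group
    rw [this]; exact Y.mul_mem hy₀ (hPY h1)
  have h2 : ⁅e, e'⁆ ∈ Cfsg.pCore p H :=
    h (Subgroup.commutator_mem_commutator ⟨heY, he⟩ he')
  have h3 : pq p H ⁅e, e'⁆ = 1 := by
    rw [← MonoidHom.mem_ker, pq_ker]; exact h2
  rw [map_commutatorElement] at h3
  exact commutatorElement_eq_one_iff_mul_comm.mp h3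

namespace PFam

variable {p : ℕ} {𝒦 : Set (Subgroup H)}

theorem Rb_normal (hF : PFam p 𝒦) : ((sSup 𝒦).map (pq p H)).Normal :=
  hF.R_normal.map _ (pq_surj p)

theorem Eb_le_Rb (hF : PFam p 𝒦) {E : Subgroup H} (hE : E ∈ 𝒦) :
    E.map (pq p H) ≤ (sSup 𝒦).map (pq p H) := Subgroup.map_mono (hF.le_R hE)

theorem Rb_le_normalizer (hF : PFam p 𝒦) {E : Subgroup H} (hE : E ∈ 𝒦) :
    (sSup 𝒦).map (pq p H) ≤ Subgroup.normalizer ((E.map (pq p H) : Subgroup _) : Set _) := by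
  rw [← map_sup_pCore p E, ← map_sup_pCore p (sSup 𝒦)]
  exact (Subgroup.map_mono (hF.norm E hE)).trans (Subgroup.le_normalizer_map _)

theorem Eb_sn (hF : PFam p 𝒦) {E : Subgroup H} (hE : E ∈ 𝒦) : SN (E.map (pq p H)) ⊤ := by
  have hn := hF.Rb_normal
  refine (SN.of_normal (hF.Eb_le_Rb hE) (hF.Rb_le_normalizer hE)).trans (SN.of_normal le_top ?_)
  rw [Subgroup.normalizer_eq_top]

theorem Rb_sn (hF : PFam p 𝒦) : SN ((sSup 𝒦).map (pq p H)) ⊤ := by
  have hn := hF.Rb_normal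
  refine SN.of_normal le_top ?_
  rw [Subgroup.normalizer_eq_top]

/-- The Lemma-X application to a member `E` of the family. -/
theorem Eb_centralized [Finite H] [hp : Fact p.Prime] (hF : PFam p 𝒦) (hB : HypB p 𝒦)
    {E : Subgroup H} (hE : E ∈ 𝒦) (Yb : Subgroup (H ⧸ Cfsg.pCore p H))
    (hc : ∀ z ∈ Yb ⊓ E.map (pq p H), ∀ y ∈ E.map (pq p H), z * y = y * z)
    (x : H ⧸ Cfsg.pCore p H) (hx : ∀ s ∈ E.map (pq p H), ⁅s, x⁆ ∈ Yb ⊓ E.map (pq p H)) :
    E.map (pq p H) ≤ Subgroup.centralizer {x} := by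
  refine (pf_pgen_map E (hB E hE) (pq p H)).trans ?_
  apply pf_lemmaX x (Yb ⊓ E.map (pq p H))
  · intro z hz hzp
    apply pf_central_pelt (pCore_quot_eq_bot p) _ (hF.Eb_sn hE) z hz.2 _ hzp
    intro y hy
    rw [Subgroup.mem_centralizer_iff]
    intro w hw
    rw [Set.mem_singleton_iff] at hw
    subst hw
    exact hc w hz y hy
  · rintro s ⟨hsp, hs⟩
    exact ⟨hsp, hx s hs, hc _ (hx s hs) s hs⟩

/-- `O^p(EP) ≤ Y` once `O^p(E) ≤ Y` and `O_p(H) ≤ Y`. -/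
theorem opOf_hat_le [Finite H] [hp : Fact p.Prime] (E Y : Subgroup H)
    (h1 : opOf p E ≤ Y) (hPY : Cfsg.pCore p H ≤ Y) : opOf p (E ⊔ Cfsg.pCore p H) ≤ Y := by
  apply opOf_le_of_pquot
  intro g hg
  have hnP : E ≤ Subgroup.normalizer ((Cfsg.pCore p H : Subgroup H) : Set H) := by
    rw [Subgroup.normalizer_eq_top]; exact le_top
  rw [sup_comm] at hg
  obtain ⟨a, ha, b, hb, rfl⟩ := mem_sup_of_normalizer hnP hg
  obtain ⟨c, hc, e⟩ := pow_mul_normalizer hnP ha hb (p ^ (orderOf b).factorization p)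
  refine ⟨(orderOf b).factorization p, ?_⟩
  rw [e]
  exact Y.mul_mem (hPY hc) (h1 (pow_mem_opOf hb))

/-- Part (2b). -/
theorem part2b [Finite H] [hp : Fact p.Prime] (hF : PFam p 𝒦) (hB : HypB p 𝒦)
    {E K : Subgroup H} (hE : E ∈ 𝒦) (hK : K ∈ 𝒦) :
    opOf p (E ⊔ Cfsg.pCore p H) = opOf p (K ⊔ Cfsg.pCore p H) ∨ ⁅E, K⁆ ≤ Cfsg.pCore p H := by
  have hEK : E ≤ Subgroup.normalizer ((K ⊔ Cfsg.pCore p H : Subgroup H) : Set H) :=
    ((hF.le_R hE).trans le_sup_left).trans (hF.norm K hK)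
  rcases hF.strong_irr hB hE (K ⊔ Cfsg.pCore p H) hEK with h | h
  · left
    have h1 : opOf p (E ⊔ Cfsg.pCore p H) ≤ opOf p (K ⊔ Cfsg.pCore p H) := by
      rw [← opOf_idem p (E ⊔ Cfsg.pCore p H)]
      exact opOf_mono p (opOf_hat_le E _ h le_sup_right)
    obtain ⟨g, rfl⟩ := hF.tr E hE K hK
    have h2 : cj g E ⊔ Cfsg.pCore p H = cj g (E ⊔ Cfsg.pCore p H) := by
      have : cj g (Cfsg.pCore p H) = Cfsg.pCore p H := by
        apply cj_eq_of_mem_normalizer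
        rw [Subgroup.normalizer_eq_top]; trivial
      show _ = (E ⊔ Cfsg.pCore p H).map _
      rw [Subgroup.map_sup]
      show _ = cj g E ⊔ cj g (Cfsg.pCore p H)
      rw [this]
    rw [h2, ← cj_opOf] at h1 ⊢
    exact Subgroup.eq_of_le_of_card_ge h1 (card_cj g _).le
  · right
    rw [← map_pq_le_bot_iff p, Subgroup.map_commutator, eq_bot_iff]
    have hc := map_inf_comm p E (K ⊔ Cfsg.pCore p H) le_sup_right h
    rw [map_sup_pCore] at hc
    rw [Subgroup.commutator_le]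
    intro e he k hk
    rw [Subgroup.mem_bot, commutatorElement_eq_one_iff_mul_comm]
    have h3 := hF.Eb_centralized hB hE (K.map (pq p H)) hc k ?_
    · have := Subgroup.mem_centralizer_iff.mp (h3 he) k (Set.mem_singleton k)
      exact this.symm
    · intro s hs
      refine ⟨?_, ?_⟩
      · exact comm_mem_of_mem_normalizer_left hk (hF.Rb_le_normalizer hK (hF.Eb_le_Rb hE hs))
      · exact comm_mem_of_mem_normalizer_right hs (hF.Rb_le_normalizer hE (hF.Eb_le_Rb hK hk))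

end PFam

end Cfsg.Agent.helper10
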