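import Mathlib
import Cfsg.Prelude.Def_LocalStructure
import Cfsg.Agent.Lib_helper10_PMinFamF

set_option autoImplicit false
open Cfsg
open scoped commutatorElement

namespace Cfsg.Agent.helper10

open Cfsg.Agent.helper7 Cfsg.Agent.helper14

variable {H : Type*} [Group H]

namespace PFam

variable {p : ℕ} {𝒦 : Set (Subgroup H)}

/-- `H` is not `p`-closed. -/
theorem not_pclosed [Finite H] [hp : Fact p.Prime] (hF : PFam p 𝒦) (hB : HypB p 𝒦) :
    ¬ Cfsg.IsPClosed p H := by
  intro hcl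
  obtain ⟨T⟩ : Nonempty (Sylow p H) := inferInstance
  have hT := isSyl_sylow T
  obtain ⟨E, hE⟩ := hF.ne
  have hpg : IsPGroup p (((T : Subgroup H) ⊓ E).subgroupOf E) :=
    (hT.1.to_le inf_le_left).comap_of_injective _ (Subgroup.subtype_injective _)
  have hidx : ¬ p ∣ (((T : Subgroup H) ⊓ E).subgroupOf E).index := hF.E_index hT hE
  have h1 := not_normal_of_not_isPClosed (hB E hE).1 (hpg.toSylow hidx)
  apply h1
  show (((T : Subgroup H) ⊓ E).subgroupOf E).Normal
  rw [Subgroup.inf_subgroupOf_right]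
  have := hcl T
  infer_instance

/-- General version of subnormality of the image of a member of the family. -/
theorem map_sn {G' : Type*} [Group G'] (hF : PFam p 𝒦) (f : H →* G') (hf : Function.Surjective f)
    (hk : Cfsg.pCore p H ≤ f.ker) {E : Subgroup H} (hE : E ∈ 𝒦) : SN (E.map f) ⊤ := by
  have hPb : (Cfsg.pCore p H).map f = ⊥ := (Subgroup.map_eq_bot_iff _).mpr hk
  have e1 : ∀ X : Subgroup H, (X ⊔ Cfsg.pCore p H).map f = X.map f := fun X => by
    rw [Subgroup.map_sup, hPb, sup_bot_eq]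
  have hn : ((sSup 𝒦).map f).Normal := hF.R_normal.map f hf
  have h1 : (sSup 𝒦).map f ≤ Subgroup.normalizer ((E.map f : Subgroup G') : Set G') := by
    rw [← e1 E, ← e1 (sSup 𝒦)]
    exact (Subgroup.map_mono (hF.norm E hE)).trans (Subgroup.le_normalizer_map _)
  refine (SN.of_normal (Subgroup.map_mono (hF.le_R hE)) h1).trans (SN.of_normal le_top ?_)
  rw [Subgroup.normalizer_eq_top]

/-- Case (α): `O^p(E₀) ≤ N O_p(H)` for some member forces `O^p(H) ≤ N`. -/
theorem alpha [Finite H] [hp : Fact p.Prime] (hF : PFam p 𝒦) (N : Subgroup H) [hN : N.Normal]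
    {E₀ : Subgroup H} (hE₀ : E₀ ∈ 𝒦) (h0 : opOf p E₀ ≤ N ⊔ Cfsg.pCore p H) :
    Cfsg.pResidual p H ≤ N := by
  set P := Cfsg.pCore p H with hP
  have hN1 : (N ⊔ P).Normal := inferInstance
  have hall : ∀ E ∈ 𝒦, opOf p E ≤ N ⊔ P := by
    intro E hE
    obtain ⟨g, rfl⟩ := hF.tr E₀ hE₀ E hE
    rw [← cj_opOf]
    have := cj_mono (g := g) h0
    have hcj : cj g (N ⊔ P) = N ⊔ P :=
      cj_eq_of_mem_normalizer (by rw [Subgroup.normalizer_eq_top]; trivial)
    rwa [hcj] at this
  set f := QuotientGroup.mk' (N ⊔ P) with hf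
  have hfs : Function.Surjective f := QuotientGroup.mk'_surjective _
  have hfk : f.ker = N ⊔ P := QuotientGroup.ker_mk' _
  have hRb : (sSup 𝒦).map f ≤ Cfsg.pCore p (H ⧸ (N ⊔ P)) := by
    rw [Subgroup.map_le_iff_le_comap]
    apply sSup_le
    intro E hE
    rw [← Subgroup.map_le_iff_le_comap]
    apply pf_sn_le_pCore _ (hF.map_sn f hfs (by rw [hfk]; exact le_sup_right) hE)
    rintro ⟨_, ⟨e, he, rfl⟩⟩
    refine ⟨(orderOf e).factorization p, ?_⟩
    apply Subtype.ext
    show (f e) ^ p ^ (orderOf e).factorization p = 1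
    rw [← map_pow, ← MonoidHom.mem_ker, hfk]
    exact hall E hE (pow_mem_opOf he)
  have hpow : ∀ g : H, ∃ j : ℕ, g ^ p ^ j ∈ N := by
    intro g
    have h1 : g ^ p ^ (orderOf g).factorization p ∈ sSup 𝒦 := hF.res (pow_mem_pResidual p g)
    set r := g ^ p ^ (orderOf g).factorization p with hr
    have h2 : f r ∈ Cfsg.pCore p (H ⧸ (N ⊔ P)) := hRb ⟨r, h1, rfl⟩
    obtain ⟨b, hb⟩ := (Cfsg.Agent.helper1.pCore_isPGroup (G := H ⧸ (N ⊔ P)) p) ⟨f r, h2⟩
    have hb' : (f r) ^ p ^ b = 1 := by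
      have := congrArg Subtype.val hb
      simpa using this
    have h3 : r ^ p ^ b ∈ N ⊔ P := by
      rw [← hfk, MonoidHom.mem_ker, map_pow]; exact hb'
    have hPN : P ≤ Subgroup.normalizer (N : Set H) := by
      rw [Subgroup.normalizer_eq_top]; exact le_top
    obtain ⟨n, hn, y, hy, e⟩ := mem_sup_of_normalizer hPN h3
    obtain ⟨c, hc⟩ := (Cfsg.Agent.helper1.pCore_isPGroup (G := H) p) ⟨y, hy⟩
    have hc' : y ^ p ^ c = 1 := by
      have := congrArg Subtype.val hc
      simpa using this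
    obtain ⟨c', hc'N, e2⟩ := pow_mul_normalizer hPN hn hy (p ^ c)
    refine ⟨(orderOf g).factorization p + b + c, ?_⟩
    rw [pow_add, pow_add, pow_mul, pow_mul, ← hr, e, e2, hc', mul_one]
    exact hc'N
  unfold Cfsg.pResidual
  rw [Subgroup.closure_le]
  intro g hg
  obtain ⟨j, hj⟩ := hpow g
  exact mem_of_pow_mem_of_coprime' N g j hj hg

end PFam

end Cfsg.Agent.helper10
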