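import Mathlib
import Cfsg.Prelude.Def_LocalStructure
import Cfsg.Agent.Lib_helper10_PMinFamG

set_option autoImplicit false
open Cfsg
open scoped commutatorElement

namespace Cfsg.Agent.helper10

open Cfsg.Agent.helper7 Cfsg.Agent.helper14

variable {H : Type*} [Group H]

namespace PFam

variable {p : ℕ} {𝒦 : Set (Subgroup H)}

/-- Case (β), core: `[N, R] ≤ O_p(H)`. -/
theorem beta_comm [Finite H] [hp : Fact p.Prime] (hF : PFam p 𝒦) (hB : HypB p 𝒦) (N : Subgroup H)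
    [hN : N.Normal]
    (h : ∀ E ∈ 𝒦, ⁅(N ⊔ Cfsg.pCore p H) ⊓ E, E⁆ ≤ Cfsg.pCore p H) :
    ⁅N, sSup 𝒦⁆ ≤ Cfsg.pCore p H := by
  set Nb := N.map (pq p H) with hNb
  set Rb := (sSup 𝒦).map (pq p H) with hRb
  have hNbn : Nb.Normal := hN.map _ (pq_surj p)
  have hRbn : Rb.Normal := hF.Rb_normal
  have hnorm_top : ∀ (A : Subgroup (H ⧸ Cfsg.pCore p H)) [A.Normal] (x : H ⧸ Cfsg.pCore p H),
      x ∈ Subgroup.normalizer (A : Set (H ⧸ Cfsg.pCore p H)) := by
    intro A _ x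
    rw [Subgroup.normalizer_eq_top]; trivial
  -- (β1)
  have b1 : ∀ a ∈ Nb ⊓ Rb, Rb ≤ Subgroup.centralizer {a} := by
    intro a ha
    rw [hRb, Subgroup.map_le_iff_le_comap]
    apply sSup_le
    intro E hE
    rw [← Subgroup.map_le_iff_le_comap]
    have hc := map_inf_comm p E (N ⊔ Cfsg.pCore p H) le_sup_right (h E hE)
    rw [map_sup_pCore] at hc
    apply hF.Eb_centralized hB hE Nb hc a
    intro s hs
    exact ⟨comm_mem_of_mem_normalizer_left ha.1 (hnorm_top Nb s),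
      comm_mem_of_mem_normalizer_right hs (hF.Rb_le_normalizer hE ha.2)⟩
  -- (β2)
  have b2 : ∀ t ∈ Nb, Rb ≤ Subgroup.centralizer {t} := by
    intro t ht
    have hgen : Rb ≤ Subgroup.closure
        {s : H ⧸ Cfsg.pCore p H | (∃ k : ℕ, s ^ p ^ k = 1) ∧ s ∈ Rb} := by
      rw [hRb, Subgroup.map_le_iff_le_comap]
      apply sSup_le
      intro E hE
      rw [← Subgroup.map_le_iff_le_comap]
      refine (pf_pgen_map E (hB E hE) (pq p H)).trans (Subgroup.closure_mono ?_)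
      rintro s ⟨hsp, hs⟩
      exact ⟨hsp, hF.Eb_le_Rb hE hs⟩
    refine hgen.trans ?_
    apply pf_lemmaX t (Nb ⊓ Rb)
    · intro z hz hzp
      exact pf_central_pelt (pCore_quot_eq_bot p) Rb hF.Rb_sn z hz.2 (b1 z hz) hzp
    · rintro s ⟨hsp, hs⟩
      have hmem : ⁅s, t⁆ ∈ Nb ⊓ Rb :=
        ⟨comm_mem_of_mem_normalizer_left ht (hnorm_top Nb s),
          comm_mem_of_mem_normalizer_right hs (hnorm_top Rb t)⟩
      refine ⟨hsp, hmem, ?_⟩
      exact Subgroup.mem_centralizer_iff.mp (b1 _ hmem hs) _ (Set.mem_singleton _)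
  -- (β3)
  rw [← map_pq_le_bot_iff p, Subgroup.map_commutator, eq_bot_iff, Subgroup.commutator_le]
  intro t ht r hr
  rw [Subgroup.mem_bot, commutatorElement_eq_one_iff_mul_comm]
  exact Subgroup.mem_centralizer_iff.mp (b2 t ht hr) t (Set.mem_singleton t)

/-- Case (β): `N` is `p`-closed. -/
theorem beta [Finite H] [hp : Fact p.Prime] (hF : PFam p 𝒦) (hB : HypB p 𝒦) (N : Subgroup H)
    [hN : N.Normal]
    (h : ∀ E ∈ 𝒦, ⁅(N ⊔ Cfsg.pCore p H) ⊓ E, E⁆ ≤ Cfsg.pCore p H) :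
    Cfsg.IsPClosed p ↥N := by
  have hc := hF.beta_comm hB N h
  intro Q
  set W := (sSup 𝒦).subgroupOf N with hW
  have hres : Cfsg.pResidual p ↥N ≤ W := by
    unfold Cfsg.pResidual
    rw [Subgroup.closure_le]
    intro g hg
    rw [SetLike.mem_coe, hW, Subgroup.mem_subgroupOf]
    apply hF.res
    apply Subgroup.subset_closure
    show (orderOf (g : H)).Coprime p
    rw [Subgroup.orderOf_coe]
    exact hg
  have hPn : ((Cfsg.pCore p H).subgroupOf N).Normal := inferInstance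
  have hPp : IsPGroup p ((Cfsg.pCore p H).subgroupOf N) :=
    (Cfsg.Agent.helper1.pCore_isPGroup p).comap_of_injective _ (Subgroup.subtype_injective _)
  have hPQ : (Cfsg.pCore p H).subgroupOf N ≤ (Q : Subgroup ↥N) :=
    (Cfsg.Agent.helper1.le_pCore hPn hPp).trans (Cfsg.Agent.helper1.pCore_le_sylow Q)
  have hcomm : ∀ g ∈ W, ∀ q ∈ (Q : Subgroup ↥N), ⁅g, q⁆ ∈ (Q : Subgroup ↥N) := by
    intro g hg q _
    apply hPQ
    rw [Subgroup.mem_subgroupOf]
    have h1 : ⁅(q : H), (g : H)⁆ ∈ Cfsg.pCore p H :=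
      hc (Subgroup.commutator_mem_commutator q.2 (Subgroup.mem_subgroupOf.mp hg))
    have h2 : ((⁅g, q⁆ : ↥N) : H) = ⁅(q : H), (g : H)⁆⁻¹ := by
      simp only [commutatorElement_def, Subgroup.coe_mul, Subgroup.coe_inv]; group
    rw [h2]
    exact Subgroup.inv_mem _ h1
  have hWn : W ≤ Subgroup.normalizer ((Q : Subgroup ↥N) : Set ↥N) := by
    intro g hg
    rw [Subgroup.mem_normalizer_iff]
    intro x
    constructor
    · intro hx
      have h2 : g * x * g⁻¹ = ⁅g, x⁆ * x := by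
        simp only [commutatorElement_def]; group
      rw [h2]
      exact Subgroup.mul_mem _ (hcomm g hg x hx) hx
    · intro hx
      have h2 : x = ⁅g⁻¹, g * x * g⁻¹⁆ * (g * x * g⁻¹) := by
        simp only [commutatorElement_def]; group
      rw [h2]
      exact Subgroup.mul_mem _ (hcomm g⁻¹ (W.inv_mem hg) _ hx) hx
  rw [← Subgroup.normalizer_eq_top_iff, eq_top_iff, ← pResidual_sup_sylow_eq_top p Q]
  exact sup_le (hres.trans hWn) Subgroup.le_normalizer

/-- Part (2a): `H` is `p`-irreducible. -/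
theorem part2a [Finite H] [hp : Fact p.Prime] (hF : PFam p 𝒦) (hB : HypB p 𝒦) :
    Cfsg.IsPIrreducible p H := by
  refine ⟨hF.not_pclosed hB, fun N hN hNcl => ?_⟩
  by_cases h : ∃ E ∈ 𝒦, opOf p E ≤ N ⊔ Cfsg.pCore p H
  · obtain ⟨E, hE, h0⟩ := h
    exact hF.alpha N hE h0
  · exfalso
    apply hNcl
    apply hF.beta hB N
    intro E hE
    have hn : (N ⊔ Cfsg.pCore p H).Normal := inferInstance
    have hEn : E ≤ Subgroup.normalizer ((N ⊔ Cfsg.pCore p H : Subgroup H) : Set H) := by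
      rw [Subgroup.normalizer_eq_top]; exact le_top
    rcases hF.strong_irr hB hE _ hEn with h1 | h1
    · exact absurd ⟨E, hE, h1⟩ h
    · exact h1

end PFam

end Cfsg.Agent.helper10
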