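import Mathlib
import Cfsg.Agent.Lib_helper19_Basic

set_option autoImplicit false

namespace Cfsg.Agent.helper19

open scoped Pointwise

theorem isCoatom_map_conj {G : Type*} [Group G] (M : Subgroup G) (g : G) (hM : IsCoatom M) :
    IsCoatom (M.map (MulAut.conj g).toMonoidHom) :=
  (OrderIso.isCoatom_iff (MulAut.conj g).mapSubgroup M).mpr hM

/-- A subgroup of index prime to `r` contains a conjugate of any Sylow `r`-subgroup. -/
theorem exists_conj_sylow_le {G : Type*} [Group G] [Finite G] {r : ℕ} [Fact r.Prime] (R : Sylow r G)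
    (H : Subgroup G) (hH : ¬ r ∣ H.index) : ∃ g : G, ∀ y ∈ (R : Subgroup G), g⁻¹ * y * g ∈ H := by
  have hfix := IsPGroup.nonempty_fixed_point_of_prime_not_dvd_card (α := G ⧸ H) R.isPGroup' (by
    rw [← Subgroup.index_eq_card]; exact hH)
  obtain ⟨q, hq⟩ := hfix
  induction q using QuotientGroup.induction_on with
  | H g =>
    refine ⟨g, fun y hy => ?_⟩
    have := hq ⟨y, hy⟩
    have h2 : (QuotientGroup.mk (y * g) : G ⧸ H) = QuotientGroup.mk g := this
    rw [QuotientGroup.eq] at h2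
    have e : g⁻¹ * y * g = ((y * g)⁻¹ * g)⁻¹ := by group
    rw [e]
    exact H.inv_mem h2

/-- Two Sylow subgroups of `G` contained in a subgroup `M` are conjugate by an element of `M`. -/
theorem sylow_conj_in_subgroup {G : Type*} [Group G] [Finite G] {r : ℕ} [Fact r.Prime]
    (P₁ P₂ : Sylow r G) (M : Subgroup G) (h1 : (P₁ : Subgroup G) ≤ M) (h2 : (P₂ : Subgroup G) ≤ M) :
    ∃ m ∈ M, m • P₁ = P₂ := by
  obtain ⟨m, hm⟩ := MulAction.exists_smul_eq ↥M (P₁.subtype h1) (P₂.subtype h2)
  refine ⟨(m : G), m.2, ?_⟩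
  rw [Sylow.smul_subtype] at hm
  exact Sylow.subtype_injective hm

theorem index_not_dvd_of_sylow_le {G : Type*} [Group G] [Finite G] {r : ℕ} [Fact r.Prime]
    (R : Sylow r G) (M : Subgroup G) (h : (R : Subgroup G) ≤ M) : ¬ r ∣ M.index := by
  intro hd
  exact R.not_dvd_index (hd.trans (Subgroup.index_dvd_of_le h))

end Cfsg.Agent.helper19
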