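import Mathlib

set_option autoImplicit false

namespace Cfsg.Agent.helper20

/-- The size of a conjugacy class is the index of the centralizer. -/
theorem ncard_carrier_eq_index {G : Type*} [Group G] [Finite G] (x : G) :
    (ConjClasses.mk x).carrier.ncard = (Subgroup.centralizer ({x} : Set G)).index := by
  rw [← ConjAct.orbit_eq_carrier_conjClasses, ← Nat.card_coe_set_eq]
  have h1 : Nat.card (MulAction.orbit (ConjAct G) x) =
      (MulAction.stabilizer (ConjAct G) x).index := by
    rw [Subgroup.index_eq_card]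
    exact Nat.card_congr (MulAction.orbitEquivQuotientStabilizer (ConjAct G) x)
  have h2 := Subgroup.card_mul_index (MulAction.stabilizer (ConjAct G) x)
  have h3 := Subgroup.card_mul_index (Subgroup.centralizer ({x} : Set G))
  have h4 := Subgroup.nat_card_centralizer_nat_card_stabilizer x
  have h5 : Nat.card (ConjAct G) = Nat.card G := rfl
  rw [h1]
  rw [h5, ← h4] at h2
  have hpos : 0 < Nat.card (Subgroup.centralizer ({x} : Set G)) := Nat.card_pos
  exact Nat.eq_of_mul_eq_mul_left hpos (h2.trans h3.symm)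

/-- A finite group is not the union of the conjugates of a proper subgroup. -/
theorem eq_top_of_forall_conj_mem {G : Type*} [Group G] [Finite G] (H : Subgroup G)
    (h : ∀ x : G, ∃ g : G, g⁻¹ * x * g ∈ H) : H = ⊤ := by
  let Φ : (G ⧸ H) × H → G := fun z => z.1.out * (z.2 : G) * (z.1.out)⁻¹
  have hsurj : Function.Surjective Φ := by
    intro x
    obtain ⟨g, hg⟩ := h x
    -- g = q.out * h'
    set q : G ⧸ H := (g : G ⧸ H) with hq
    have h1 : (q.out)⁻¹ * g ∈ H := by
      rw [← QuotientGroup.eq, hq]; exact QuotientGroup.out_eq' _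
    refine ⟨(q, ⟨((q.out)⁻¹ * g) * (g⁻¹ * x * g) * ((q.out)⁻¹ * g)⁻¹,
      H.mul_mem (H.mul_mem h1 hg) (H.inv_mem h1)⟩), ?_⟩
    simp only [Φ]
    group
  have hcard : Nat.card ((G ⧸ H) × H) = Nat.card G := by
    rw [Nat.card_prod, ← Subgroup.card_eq_card_quotient_mul_card_subgroup]
  have hbij := (Nat.bijective_iff_surjective_and_card Φ).mpr ⟨hsurj, hcard⟩
  rw [Subgroup.eq_top_iff']
  intro g
  have h1 : Φ ((g : G ⧸ H), 1) = Φ (((1 : G) : G ⧸ H), 1) := by
    simp only [Φ]; simp
  have h2 := hbij.1 h1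
  have h3 : ((g : G ⧸ H)) = ((1 : G) : G ⧸ H) := congrArg Prod.fst h2
  rw [QuotientGroup.eq] at h3
  have : g = (g⁻¹ * 1)⁻¹ := by group
  rw [this]; exact H.inv_mem h3

end Cfsg.Agent.helper20
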