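import Mathlib
import Cfsg.Statements.S4035
import Cfsg.Agent.Lib_helper20_Class
import Cfsg.Agent.Lib_helper5_Sylow
import Cfsg.Agent.Lib_helper19_Sylow2
import Cfsg.Agent.S3986

set_option autoImplicit false
open Cfsg
open scoped Pointwise

namespace Cfsg.Agent.S4035

theorem result {G : Type*} [Group G] [Finite G] {p : ℕ} [Fact p.Prime]
    (h : ∀ x : G, (orderOf x).Coprime p → ¬ p ∣ (ConjClasses.mk x).carrier.ncard) (P : Sylow p G) :
    (P : Subgroup G).Normal ∧ ∃ H : Subgroup G, H.Normal ∧ ¬ p ∣ Nat.card H ∧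
      (P : Subgroup G) ⊓ H = ⊥ ∧ (P : Subgroup G) ⊔ H = ⊤ := by
  have hpp : p.Prime := Fact.out
  -- Step A: every p-regular element centralizes some Sylow p-subgroup
  have hA : ∀ y : G, (orderOf y).Coprime p →
      ∃ Q : Sylow p G, (Q : Subgroup G) ≤ Subgroup.centralizer ({y} : Set G) := by
    intro y hy
    have h1 := h y hy
    rw [Cfsg.Agent.helper20.ncard_carrier_eq_index] at h1
    obtain ⟨g, hg⟩ := Cfsg.Agent.helper19.exists_conj_sylow_le P _ h1
    refine ⟨g⁻¹ • P, ?_⟩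
    intro z hz
    rw [Cfsg.Agent.helper5.mem_smul_sylow_iff, inv_inv] at hz
    have h2 := hg _ hz
    have : g⁻¹ * (g * z * g⁻¹) * g = z := by group
    rw [this] at h2; exact h2
  -- Step B: every element normalizes some Sylow p-subgroup
  have hB : ∀ g : G, ∃ Q : Sylow p G, g ∈ Subgroup.normalizer ((Q : Subgroup G) : Set G) := by
    intro g
    have hn0 : orderOf g ≠ 0 := (orderOf_pos g).ne'
    obtain ⟨a, m, hpm, hnm⟩ := Nat.exists_eq_pow_mul_and_not_dvd hn0 p hpp.ne_one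
    have hm0 : m ≠ 0 := by
      rintro rfl; rw [mul_zero] at hnm; exact hn0 hnm
    have hpa0 : p ^ a ≠ 0 := pow_ne_zero _ hpp.ne_zero
    have hcop : Nat.Coprime (p ^ a) m :=
      Nat.Coprime.pow_left _ ((Nat.Prime.coprime_iff_not_dvd hpp).mpr hpm)
    have hox : orderOf (g ^ m) = p ^ a := by
      rw [orderOf_pow_of_dvd hm0 (by rw [hnm]; exact dvd_mul_left _ _), hnm,
        Nat.mul_div_cancel _ (Nat.pos_of_ne_zero hm0)]
    have hoy : orderOf (g ^ (p ^ a)) = m := by
      rw [orderOf_pow_of_dvd hpa0 (by rw [hnm]; exact dvd_mul_right _ _), hnm,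
        Nat.mul_div_cancel_left _ (Nat.pos_of_ne_zero hpa0)]
    set x := g ^ m with hxdef
    set y := g ^ (p ^ a) with hydef
    have hycop : (orderOf y).Coprime p := by
      rw [hoy]; exact ((Nat.Prime.coprime_iff_not_dvd hpp).mpr hpm).symm
    obtain ⟨Q₀, hQ₀⟩ := hA y hycop
    have hxy : x ∈ Subgroup.centralizer ({y} : Set G) := by
      rw [Subgroup.mem_centralizer_singleton_iff, hxdef, hydef, ← pow_add, ← pow_add, add_comm]
    have hxp : IsPGroup p (Subgroup.zpowers x) :=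
      IsPGroup.of_card (n := a) (by rw [Nat.card_zpowers, hox])
    have hxle : Subgroup.zpowers x ≤ Subgroup.centralizer ({y} : Set G) := by
      rw [Subgroup.zpowers_le]; exact hxy
    obtain ⟨n, hnC, hn⟩ := Cfsg.Agent.helper5.exists_conj_le_of_le p
      (Subgroup.centralizer ({y} : Set G)) Q₀ hQ₀ (Subgroup.zpowers x) hxp hxle
    refine ⟨n • Q₀, ?_⟩
    have hxQ : x ∈ ((n • Q₀ : Sylow p G) : Subgroup G) := by
      rw [Cfsg.Agent.helper5.mem_smul_sylow_iff]
      exact hn x (Subgroup.mem_zpowers x)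
    have hyQ : ∀ z ∈ ((n • Q₀ : Sylow p G) : Subgroup G), z * y = y * z := by
      intro z hz
      rw [Cfsg.Agent.helper5.mem_smul_sylow_iff] at hz
      have h1 := hQ₀ hz
      rw [Subgroup.mem_centralizer_singleton_iff] at h1 hnC
      -- n⁻¹ z n commutes with y; n commutes with y
      have hny : n⁻¹ * y = y * n⁻¹ := by
        calc n⁻¹ * y = n⁻¹ * (y * n) * n⁻¹ := by group
          _ = n⁻¹ * (n * y) * n⁻¹ := by rw [hnC]
          _ = y * n⁻¹ := by group
      calc z * y = n * ((n⁻¹ * z * n) * y) * n⁻¹ * (n * y⁻¹ * n⁻¹ * y) := by group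
        _ = n * (y * (n⁻¹ * z * n)) * n⁻¹ * (n * y⁻¹ * n⁻¹ * y) := by rw [h1]
        _ = (n * y) * n⁻¹ * z * (n * y⁻¹ * (n⁻¹ * y)) := by group
        _ = (y * n) * n⁻¹ * z * (n * y⁻¹ * (y * n⁻¹)) := by rw [hnC, hny]
        _ = y * z := by group
    have hxN : x ∈ Subgroup.normalizer (((n • Q₀ : Sylow p G) : Subgroup G) : Set G) :=
      Subgroup.le_normalizer hxQ
    have hyN : y ∈ Subgroup.normalizer (((n • Q₀ : Sylow p G) : Subgroup G) : Set G) := by
      apply Subgroup.centralizer_le_normalizer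
      rw [Subgroup.mem_centralizer_iff]
      intro z hz
      exact hyQ z hz
    have hb := Nat.gcd_eq_gcd_ab (p ^ a) m
    rw [hcop.gcd_eq_one] at hb
    have hg : g = y ^ (Nat.gcdA (p ^ a) m) * x ^ (Nat.gcdB (p ^ a) m) := by
      rw [hydef, hxdef, ← zpow_natCast, ← zpow_natCast, ← zpow_mul, ← zpow_mul, ← zpow_add, ← hb]
      simp
    rw [hg]
    exact Subgroup.mul_mem _ (Subgroup.zpow_mem _ hyN _) (Subgroup.zpow_mem _ hxN _)
  -- Step C: P is normal
  have hPn : (P : Subgroup G).Normal := by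
    rw [← Subgroup.normalizer_eq_top_iff]
    apply Cfsg.Agent.helper20.eq_top_of_forall_conj_mem
    intro g
    obtain ⟨Q, hQ⟩ := hB g
    obtain ⟨c, hc⟩ := MulAction.exists_smul_eq G P Q
    refine ⟨c, ?_⟩
    -- g ∈ N(c • P) → c⁻¹ g c ∈ N(P)
    have hQ' : g • (c • P) = c • P := Sylow.smul_eq_iff_mem_normalizer.mpr (by rw [hc]; exact hQ)
    have hgoal : (c⁻¹ * g * c) • P = P := by rw [mul_smul, mul_smul, hQ', inv_smul_smul]
    exact Sylow.smul_eq_iff_mem_normalizer.mp hgoal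
  refine ⟨hPn, ?_⟩
  -- Step D
  have huniq := Sylow.unique_of_normal P hPn
  have hcomm : ∀ x y : G, (∃ a : ℕ, orderOf x = p ^ a) →
      (∃ q b : ℕ, q.Prime ∧ q ≠ p ∧ orderOf y = q ^ b) → x * y = y * x := by
    rintro x y ⟨a, hxa⟩ ⟨q, b, hq, hqp, hyb⟩
    have hxP : x ∈ (P : Subgroup G) := Cfsg.Agent.S3986.mem_normal_sylow p P hPn x a hxa
    have hycop : (orderOf y).Coprime p := by
      rw [hyb]; exact Nat.Coprime.pow_left b ((Nat.coprime_primes hq hpp).mpr hqp)
    obtain ⟨Q, hQ⟩ := hA y hycop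
    have hQP : Q = P := Subsingleton.elim _ _
    rw [hQP] at hQ
    have := hQ hxP
    rw [Subgroup.mem_centralizer_singleton_iff] at this
    exact this
  obtain ⟨P', K, hP'n, hKn, hdisj, hsup⟩ := (Cfsg.Agent.S3986.result p).mpr hcomm
  have hP'P : P' = P := Subsingleton.elim _ _
  rw [hP'P] at hdisj hsup
  refine ⟨K, hKn, ?_, hdisj, hsup⟩
  have hcompl : Subgroup.IsComplement' (P : Subgroup G) K := by
    apply Subgroup.isComplement'_of_disjoint_and_mul_eq_univ (disjoint_iff.mpr hdisj)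
    rw [← Subgroup.normal_mul, hsup, Subgroup.coe_top]
  have hK : Nat.card K = (P : Subgroup G).index := (hcompl.symm.index_eq_card).symm
  rw [hK]
  exact P.not_dvd_index

end Cfsg.Agent.S4035
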