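import Mathlib
import Cfsg.Agent.S4035
import Cfsg.Agent.Lib_helper10_CSa

/-!
# p-singular class sizes: extraction from Camina's lemma (helper10)
-/

set_option autoImplicit false

namespace Cfsg.Agent.helper10.PSing

open Subgroup
open Cfsg.Agent.helper18.CG

theorem camina_extract {G : Type*} [Group G] [Finite G] (p : ℕ) [hp : Fact p.Prime]
    (H : Subgroup G)
    (hH : ∀ c ∈ H, (orderOf c).Coprime p → ¬ p ∣ (Cn c).relIndex H)
    (hidx : ¬ p ∣ H.index) :
    ∃ P : Subgroup G, P ≤ H ∧ IsPGroup p P ∧ ¬ p ∣ P.index ∧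
      (∀ e ∈ H, (∃ j : ℕ, orderOf e = p ^ j) → e ∈ P) ∧
      (∀ k ∈ H, ∃ x ∈ P, ∃ κ ∈ H, k = x * κ ∧ ∀ z ∈ P, κ * z = z * κ) := by
  have hcen : ∀ x : H, Subgroup.centralizer ({x} : Set H) = (Cn (x : G)).subgroupOf H := by
    intro x
    ext y
    rw [Subgroup.mem_centralizer_iff, Subgroup.mem_subgroupOf, mem_Cn]
    constructor
    · intro h
      have := h x rfl
      have h2 := congrArg Subtype.val this
      simp only [Subgroup.coe_mul] at h2
      exact h2.symm
    · intro h z hz
      rw [Set.mem_singleton_iff.mp hz]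
      apply Subtype.ext
      simp only [Subgroup.coe_mul]
      exact h.symm
  have hyp : ∀ x : H, (orderOf x).Coprime p → ¬ p ∣ (ConjClasses.mk x).carrier.ncard := by
    intro x hx
    rw [Cfsg.Agent.helper20.ncard_carrier_eq_index, hcen x]
    have := hH (x : G) x.2 (by rwa [Subgroup.orderOf_coe])
    exact this
  let PH : Sylow p H := default
  obtain ⟨hPn, K, hKn, hKp, hdisj, hsup⟩ := Cfsg.Agent.S4035.result hyp PH
  refine ⟨(PH : Subgroup H).map H.subtype, Subgroup.map_subtype_le _, PH.isPGroup'.map _, ?_, ?_, ?_⟩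
  · rw [Subgroup.index_map_subtype]
    intro hd
    rcases (Nat.Prime.dvd_mul hp.out).mp hd with h | h
    · exact PH.not_dvd_index h
    · exact hidx h
  · rintro e he ⟨j, hj⟩
    have hz : IsPGroup p (zpowers (⟨e, he⟩ : H)) := by
      apply IsPGroup.of_card (n := j)
      rw [Nat.card_zpowers, ← hj, ← Subgroup.orderOf_coe]
    obtain ⟨Q, hQ⟩ := hz.exists_le_sylow
    haveI := Sylow.unique_of_normal PH hPn
    have hQP : Q = PH := Subsingleton.elim _ _
    refine ⟨⟨e, he⟩, ?_, rfl⟩
    rw [← hQP]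
    exact hQ (mem_zpowers _)
  · intro k hk
    have hmem : (⟨k, hk⟩ : H) ∈ ((PH : Subgroup H) ⊔ K : Subgroup H) := by rw [hsup]; trivial
    haveI := hKn
    rw [← SetLike.mem_coe, Subgroup.mul_normal] at hmem
    obtain ⟨x', hx', κ', hκ', hprod⟩ := Set.mem_mul.mp hmem
    refine ⟨(x' : G), ⟨x', hx', rfl⟩, (κ' : G), κ'.2, ?_, ?_⟩
    · have := congrArg Subtype.val hprod
      simp only [Subgroup.coe_mul] at this
      exact this.symm
    · rintro z ⟨z', hz', rfl⟩
      have hc := Subgroup.commute_of_normal_of_disjoint _ _ hPn hKn (disjoint_iff.mpr hdisj) z' κ' hz' hκ'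
      have := congrArg Subtype.val hc.eq
      simp only [Subgroup.coe_mul] at this
      exact this.symm

end Cfsg.Agent.helper10.PSing
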