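import Mathlib
import Cfsg.Agent.Lib_helper10_PSa

/-!
# p-singular class sizes: the hard configuration (helper10)
-/

set_option autoImplicit false

namespace Cfsg.Agent.helper10.PSing

open Subgroup
open Cfsg.Agent.helper18.CG
open Cfsg.Agent.helper10.CS

variable {G : Type*} [Group G] [Finite G]

theorem orderOf_conj' (g e : G) : orderOf (g * e * g⁻¹) = orderOf e := by
  rw [← MulAut.conj_apply, MulEquiv.orderOf_eq]

theorem not_central_of_ppow (p : ℕ) [hp : Fact p.Prime] (hZ : ¬ p ∣ Nat.card ↥(center G))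
    {u : G} (hu : ∃ j : ℕ, orderOf u = p ^ j) (hu1 : u ≠ 1) : u ∉ center G := by
  intro hc
  obtain ⟨j, hj⟩ := hu
  have hj0 : j ≠ 0 := by
    intro h0
    rw [h0, pow_zero, orderOf_eq_one_iff] at hj
    exact hu1 hj
  have h1 : orderOf u ∣ Nat.card ↥(center G) := Subgroup.orderOf_dvd_natCard _ hc
  rw [hj] at h1
  exact hZ ((dvd_pow_self p hj0).trans h1)

theorem p_dvd_orderOf (p : ℕ) {u : G} (hu : ∃ j : ℕ, orderOf u = p ^ j) (hu1 : u ≠ 1) :
    p ∣ orderOf u := by
  obtain ⟨j, hj⟩ := hu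
  have hj0 : j ≠ 0 := by
    intro h0
    rw [h0, pow_zero, orderOf_eq_one_iff] at hj
    exact hu1 hj
  rw [hj]; exact dvd_pow_self p hj0

theorem idx_one_eq : idx (1 : G) = 1 := (idx_eq_one_iff (1 : G)).mpr (Subgroup.one_mem _)

/-- the hard configuration is contradictory -/
theorem bprime (p : ℕ) [hp : Fact p.Prime] (hZ : ¬ p ∣ Nat.card ↥(center G))
    (u v : G) (hu : ∃ j : ℕ, orderOf u = p ^ j) (hu1 : u ≠ 1)
    (hv : ∃ j : ℕ, orderOf v = p ^ j)
    (hpu : ¬ p ∣ idx u) (hpv : p ∣ idx v)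
    (H0 : ∀ e : G, p ∣ orderOf e → p ∣ idx e → (idx e).Coprime (idx u)) : False := by
  have hpp : p.Prime := hp.out
  have hunc : u ∉ center G := not_central_of_ppow p hZ hu hu1
  have hc1 : idx u ≠ 1 := fun h => hunc ((idx_eq_one_iff u).mp h)
  -- elements of 𝒴 are nontrivial hence p-singular
  have hsing : ∀ e : G, (∃ j : ℕ, orderOf e = p ^ j) → p ∣ idx e → p ∣ orderOf e := by
    intro e he hpe
    apply p_dvd_orderOf p he
    rintro rfl
    rw [idx_one_eq] at hpe
    exact hpp.one_lt.ne' (Nat.dvd_one.mp hpe)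
  -- Fact 1
  have hF1 : ∀ e : G, (∃ j : ℕ, orderOf e = p ^ j) → p ∣ idx e →
      ∀ g : G, e * (g * u * g⁻¹) = (g * u * g⁻¹) * e := by
    intro e he hpe g
    have hcop : (idx e).Coprime (idx u) := H0 e (hsing e he hpe) hpe
    have hQ : IsPGroup p (zpowers e) := by
      obtain ⟨j, hj⟩ := he
      apply IsPGroup.of_card (n := j)
      rw [Nat.card_zpowers, hj]
    obtain ⟨g₀, hg₀⟩ := exists_conj_mem_centralizer (zpowers e) hQ u hpu
    set u' := g₀ * u * g₀⁻¹ with hu'
    have heu' : e * u' = u' * e := by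
      rw [Subgroup.mem_centralizer_iff] at hg₀
      exact hg₀ e (mem_zpowers e)
    have hidx' : idx u' = idx u := idx_conj g₀ u
    have hindex : (Cn u' ⊓ Cn e).index = (Cn u').index * (Cn e).index := by
      apply index_inf_of_coprime
      show (idx u').Coprime (idx e)
      rw [hidx']; exact hcop.symm
    obtain ⟨k, hk, hk2⟩ := exists_mul_of_index_inf (Cn u') (Cn e) hindex (g * g₀⁻¹)
    rw [mem_Cn] at hk hk2
    have h1 := conj_eq_of_comm hk2 k
    have h2 : k * (k⁻¹ * (g * g₀⁻¹)) = g * g₀⁻¹ := by group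
    rw [h2] at h1
    have h3 : g * u * g⁻¹ = (g * g₀⁻¹) * u' * (g * g₀⁻¹)⁻¹ := by rw [hu']; group
    rw [h3, h1]
    have hek' : e * k⁻¹ = k⁻¹ * e := by
      calc e * k⁻¹ = k⁻¹ * (k * e) * k⁻¹ := by group
        _ = k⁻¹ * (e * k) * k⁻¹ := by rw [hk]
        _ = k⁻¹ * e := by group
    calc e * (k * u' * k⁻¹) = (e * k) * u' * k⁻¹ := by group
      _ = (k * e) * u' * k⁻¹ := by rw [hk]
      _ = k * (e * u') * k⁻¹ := by group
      _ = k * (u' * e) * k⁻¹ := by rw [heu']
      _ = k * u' * (e * k⁻¹) := by group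
      _ = k * u' * (k⁻¹ * e) := by rw [hek']
      _ = k * u' * k⁻¹ * e := by group
  -- Camina
  have hH : ∀ c ∈ Cn u, (orderOf c).Coprime p → ¬ p ∣ (Cn c).relIndex (Cn u) := by
    intro c hc hco hd
    have hcu : u * c = c * u := (mem_Cn.mp hc).symm
    obtain ⟨j, hj⟩ := hu
    have hcopo : (orderOf u).Coprime (orderOf c) := by
      rw [hj]; exact (Nat.Coprime.pow_left j hco.symm)
    have hord : orderOf (u * c) = orderOf u * orderOf c :=
      (show Commute u c from hcu).orderOf_mul_eq_mul_orderOf_of_coprime hcopo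
    have hpo : p ∣ orderOf (u * c) := by
      rw [hord]; exact (p_dvd_orderOf p ⟨j, hj⟩ hu1).mul_right _
    have hle := Cn_mul_le_of_coprime hcu hcopo
    have hdu : idx u ∣ idx (u * c) := Subgroup.index_dvd_of_le (hle.trans inf_le_left)
    have hnp : ¬ p ∣ idx (u * c) := by
      intro hpd
      have hcop := H0 _ hpo hpd
      have := Nat.dvd_gcd hdu (dvd_refl (idx u))
      rw [hcop.gcd_eq_one] at this
      exact hc1 (Nat.dvd_one.mp this)
    apply hnp
    have h1 : (Cn u ⊓ Cn c).index ∣ idx (u * c) := Subgroup.index_dvd_of_le hle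
    have h2 := Subgroup.relIndex_mul_index (inf_le_right : Cn c ⊓ Cn u ≤ Cn u)
    rw [Subgroup.inf_relIndex_right] at h2
    have h3 : (Cn c).relIndex (Cn u) ∣ (Cn u ⊓ Cn c).index := by
      rw [inf_comm, ← h2]; exact dvd_mul_right _ _
    exact (hd.trans h3).trans h1
  obtain ⟨P, hPH, hPp, hPidx, hPall, hPdec⟩ := camina_extract p (Cn u) hH hpu
  have huP : u ∈ P := hPall u (mem_Cn.mpr rfl) hu
  have hPpow : ∀ b ∈ P, ∃ j : ℕ, orderOf b = p ^ j := by
    intro b hb
    obtain ⟨k, hk⟩ := (IsPGroup.iff_orderOf.mp hPp) ⟨b, hb⟩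
    exact ⟨k, by rw [← hk, Subgroup.orderOf_mk]⟩
  -- (B)
  have hB : ∀ e : G, (∃ j : ℕ, orderOf e = p ^ j) → p ∣ idx e → e ∈ P := by
    intro e he hpe
    apply hPall e _ he
    rw [mem_Cn]
    have := hF1 e he hpe 1
    simpa using this
  have hBconj : ∀ e : G, (∃ j : ℕ, orderOf e = p ^ j) → p ∣ idx e → ∀ g : G, g * e * g⁻¹ ∈ P := by
    intro e he hpe g
    apply hB
    · obtain ⟨j, hj⟩ := he
      exact ⟨j, by rw [orderOf_conj', hj]⟩
    · rw [idx_conj]; exact hpe
  have hvP : v ∈ P := hB v hv hpv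
  -- if P ≤ Cn v we are done
  have hfinal : (∀ b ∈ P, b * v = v * b) → False := by
    intro h
    have hle : P ≤ Cn v := fun b hb => mem_Cn.mpr (h b hb)
    exact hPidx (hpv.trans (Subgroup.index_dvd_of_le hle))
  -- C1
  have hC1 : ∀ a ∈ P, ¬ p ∣ idx a → ∀ y : G, (∃ j : ℕ, orderOf y = p ^ j) → p ∣ idx y →
      a * y = y * a := by
    intro a _ hna y hy hpy
    obtain ⟨g, hg⟩ := exists_conj_mem_centralizer P hPp a hna
    rw [Subgroup.mem_centralizer_iff] at hg
    have h1 := hg _ (hBconj y hy hpy g)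
    -- h1 : g y g⁻¹ * (g a g⁻¹) = g a g⁻¹ * (g y g⁻¹)
    have h2 : g * (y * a) * g⁻¹ = g * (a * y) * g⁻¹ := by
      calc g * (y * a) * g⁻¹ = (g * y * g⁻¹) * (g * a * g⁻¹) := by group
        _ = (g * a * g⁻¹) * (g * y * g⁻¹) := h1
        _ = g * (a * y) * g⁻¹ := by group
    have h3 := mul_left_cancel (mul_right_cancel h2)
    exact h3.symm
  -- S
  set Yset : Set G := {e : G | (∃ j : ℕ, orderOf e = p ^ j) ∧ p ∣ idx e} with hY
  set S : Subgroup G := closure Yset with hS
  have hSn : S.Normal := by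
    apply normal_closure_of_conj
    rintro t ⟨⟨j, hj⟩, ht2⟩ g
    exact ⟨⟨j, by rw [orderOf_conj', hj]⟩, by rw [idx_conj]; exact ht2⟩
  have hSP : S ≤ P := by
    rw [hS, closure_le]
    rintro e ⟨he1, he2⟩
    exact hB e he1 he2
  by_cases hPS : P ≤ S
  swap
  · -- some a ∈ P \ S
    obtain ⟨a, haP, haS⟩ := Set.not_subset.mp hPS
    apply hfinal
    have hout : ∀ b ∈ P, b ∉ S → b * v = v * b := by
      intro b hb hbS
      apply hC1 b hb _ v hv hpv
      intro hpb
      exact hbS (Subgroup.subset_closure ⟨hPpow b hb, hpb⟩)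
    intro b hb
    by_cases hbS : b ∈ S
    · have h1 : b * a ∉ S := by
        intro h
        apply haS
        have := S.mul_mem (S.inv_mem hbS) h
        rwa [inv_mul_cancel_left] at this
      have e1 := hout (b * a) (P.mul_mem hb haP) h1
      have e2 := hout a haP haS
      -- b = (b a) a⁻¹
      have e3 : a⁻¹ * v = v * a⁻¹ := by
        calc a⁻¹ * v = a⁻¹ * (v * a) * a⁻¹ := by group
          _ = a⁻¹ * (a * v) * a⁻¹ := by rw [e2]
          _ = v * a⁻¹ := by group
      calc b * v = (b * a) * (a⁻¹ * v) := by group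
        _ = (b * a) * (v * a⁻¹) := by rw [e3]
        _ = ((b * a) * v) * a⁻¹ := by group
        _ = (v * (b * a)) * a⁻¹ := by rw [e1]
        _ = v * b := by group
    · exact hout b hb hbS
  -- P = S is normal
  have hPS' : P = S := le_antisymm hPS hSP
  have hPn : P.Normal := hPS' ▸ hSn
  -- D1
  have hD1 : ∀ e ∈ P, (∃ z ∈ P, e * z ≠ z * e) → p ∣ idx e := by
    rintro e _ ⟨z, hz, hne⟩
    by_contra hna
    obtain ⟨g, hg⟩ := exists_conj_mem_centralizer P hPp e hna
    rw [Subgroup.mem_centralizer_iff] at hg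
    have h1 := hg _ (hPn.conj_mem z hz g)
    apply hne
    have h2 : g * (z * e) * g⁻¹ = g * (e * z) * g⁻¹ := by
      calc g * (z * e) * g⁻¹ = (g * z * g⁻¹) * (g * e * g⁻¹) := by group
        _ = (g * e * g⁻¹) * (g * z * g⁻¹) := h1
        _ = g * (e * z) * g⁻¹ := by group
    exact (mul_left_cancel (mul_right_cancel h2)).symm
  obtain ⟨t, ht, htc⟩ := Nat.exists_prime_and_dvd hc1
  haveI : Fact t.Prime := ⟨ht⟩
  let T : Sylow t G := default
  have hTu : ¬ ((T : Subgroup G) ≤ Cn u) := by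
    intro hle
    exact T.not_dvd_index (htc.trans (Subgroup.index_dvd_of_le hle))
  obtain ⟨τ, hτT, hτu⟩ := Set.not_subset.mp hTu
  have hcover := cover (C := ↥P) ((centralizer ((T : Subgroup G) : Set G)).subgroupOf P)
    (center ↥P) ⟨u, huP⟩ (by
      rw [Subgroup.mem_center_iff]
      intro z
      apply Subtype.ext
      simp only [Subgroup.coe_mul]
      exact mem_Cn.mp (hPH z.2)) (by
      intro hmem
      rw [Subgroup.mem_subgroupOf, Subgroup.mem_centralizer_iff] at hmem
      apply hτu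
      show τ ∈ Cn u
      rw [mem_Cn]
      exact hmem τ hτT) (by
      intro y hy
      rw [Subgroup.mem_center_iff] at hy
      push Not at hy
      obtain ⟨z, hz⟩ := hy
      have hyz : (y : G) * (z : G) ≠ (z : G) * (y : G) := by
        intro h
        apply hz
        apply Subtype.ext
        simp only [Subgroup.coe_mul]
        exact h.symm
      have hpy : p ∣ idx (y : G) := hD1 y y.2 ⟨z, z.2, hyz⟩
      have hypow := hPpow y y.2
      have hcop : (idx (y : G)).Coprime (idx u) := H0 _ (hsing _ hypow hpy) hpy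
      have hty : ¬ t ∣ idx (y : G) := by
        intro hd
        have := Nat.dvd_gcd hd htc
        rw [hcop.gcd_eq_one] at this
        exact ht.one_lt.ne' (Nat.dvd_one.mp this)
      obtain ⟨g, hg⟩ := exists_conj_mem_centralizer (T : Subgroup G) T.isPGroup' (y : G) hty
      have hindex : (Cn (y : G) ⊓ Cn u).index = (Cn (y : G)).index * (Cn u).index :=
        index_inf_of_coprime _ _ hcop
      obtain ⟨k, hk, hk2⟩ := exists_mul_of_index_inf (Cn (y : G)) (Cn u) hindex g
      rw [mem_Cn] at hk2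
      have h1 := conj_eq_of_comm hk2 k
      have h2 : k * (k⁻¹ * g) = g := by group
      rw [h2] at h1
      obtain ⟨x₀, hx₀, κ, _, hkx, hκ⟩ := hPdec k hk
      have hκy : κ * (y : G) * κ⁻¹ = (y : G) := by
        rw [hκ _ y.2]; group
      have h3 : k * (y : G) * k⁻¹ = x₀ * (y : G) * x₀⁻¹ := by
        rw [hkx]
        calc x₀ * κ * (y : G) * (x₀ * κ)⁻¹ = x₀ * (κ * (y : G) * κ⁻¹) * x₀⁻¹ := by group
          _ = x₀ * (y : G) * x₀⁻¹ := by rw [hκy]
      refine ⟨⟨x₀, hx₀⟩, ?_⟩
      rw [Subgroup.mem_subgroupOf]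
      simp only [Subgroup.coe_mul, Subgroup.coe_inv]
      rw [← h3, ← h1]
      exact hg)
  apply hfinal
  intro b hb
  have hvc : (⟨v, hvP⟩ : ↥P) ∈ center ↥P := by rw [hcover]; trivial
  rw [Subgroup.mem_center_iff] at hvc
  have := hvc ⟨b, hb⟩
  have h2 := congrArg Subtype.val this
  simp only [Subgroup.coe_mul] at h2
  exact h2

end Cfsg.Agent.helper10.PSing
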