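import Mathlib
import Cfsg.Agent.Lib_helper10_PSb
import Cfsg.Agent.Lib_helper10_CSb

/-!
# p-singular class sizes: key lemma (helper10)
-/

set_option autoImplicit false

namespace Cfsg.Agent.helper10.PSing

open Subgroup
open Cfsg.Agent.helper18.CG
open Cfsg.Agent.helper10.CS

variable {G : Type*} [Group G] [Finite G]

theorem idx_inv (u : G) : idx u⁻¹ = idx u := by
  apply Nat.dvd_antisymm
  · exact idx_dvd_of_mem_zpowers (Subgroup.inv_mem _ (mem_zpowers u))
  · apply idx_dvd_of_mem_zpowers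
    have := Subgroup.inv_mem _ (mem_zpowers u⁻¹)
    rwa [inv_inv] at this

theorem central_of_St (p : ℕ) [hp : Fact p.Prime] {u v : G} (hu : ∃ j : ℕ, orderOf u = p ^ j)
    (hcop : (idx u).Coprime (idx v)) (hle : idx (u * v) ≤ idx v) (hpv : ¬ p ∣ idx v) :
    u ∈ center G := by
  haveI := St_normal v
  have hcard := card_St_dvd v
  have hStle : St v ≤ Cn u := by
    apply normal_le_Cn
    exact Nat.Coprime.coprime_dvd_left hcard hcop.symm
  apply mem_center_of_conj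
  intro g
  have hk := comm_mem_St u v hcop hle g
  have hc := mem_Cn.mp (hStle hk)
  obtain ⟨j, hj⟩ := hu
  have hM : (orderOf u).Coprime (Nat.card (St v)) := by
    rw [hj]
    apply Nat.Coprime.pow_left
    rw [hp.out.coprime_iff_not_dvd]
    intro hd
    exact hpv (hd.trans hcard)
  exact conj_eq_self_of (Nat.card (St v)) hM hc.symm (pow_eq_one_of_mem hk dvd_rfl)

theorem kl_comm (p : ℕ) [hp : Fact p.Prime] (hZ : ¬ p ∣ Nat.card ↥(center G))
    (u v : G) (hu : ∃ j : ℕ, orderOf u = p ^ j) (hu1 : u ≠ 1)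
    (hv : ∃ j : ℕ, orderOf v = p ^ j) (hv1 : v ≠ 1)
    (hpu : ¬ p ∣ idx u) (hcop : (idx u).Coprime (idx v)) (hcomm : u * v = v * u) :
    ∃ t t' : ℕ, t.Prime ∧ t'.Prime ∧ t ∣ idx u ∧ t' ∣ idx v ∧
      (t = t' ∨ ∃ w : G, p ∣ orderOf w ∧ t * t' ∣ idx w) := by
  have hpp : p.Prime := hp.out
  have hunc : u ∉ center G := not_central_of_ppow p hZ hu hu1
  have hvnc : v ∉ center G := not_central_of_ppow p hZ hv hv1
  have hc1 : idx u ≠ 1 := fun h => hunc ((idx_eq_one_iff u).mp h)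
  by_contra hcon
  push Not at hcon
  -- w = u v
  have hw1 : u * v ≠ 1 := by
    intro h
    have hv' : v = u⁻¹ := (eq_inv_of_mul_eq_one_right h)
    have : idx v = idx u := by rw [hv', idx_inv]
    rw [this, Nat.coprime_self] at hcop
    exact hc1 hcop
  have hwpow : ∃ j : ℕ, orderOf (u * v) = p ^ j := by
    obtain ⟨j1, h1⟩ := hu
    obtain ⟨j2, h2⟩ := hv
    have : (u * v) ^ (p ^ (j1 + j2)) = 1 := by
      rw [(show Commute u v from hcomm).mul_pow, pow_add, pow_mul, ← h1, pow_orderOf_eq_one, one_pow,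
        mul_comm (orderOf u), pow_mul, ← h2, pow_orderOf_eq_one, one_pow, one_mul]
    obtain ⟨j, _, hj⟩ := (Nat.dvd_prime_pow hpp).mp (orderOf_dvd_of_pow_eq_one this)
    exact ⟨j, hj⟩
  have hwsing : p ∣ orderOf (u * v) := p_dvd_orderOf p hwpow hw1
  have hdvd := idx_mul_dvd u v hcop
  have hge1 := idx_le_idx_mul u v hcop
  have hge2 : idx u ≤ idx (u * v) := by
    have := idx_le_idx_mul v u hcop.symm
    rwa [← hcomm] at this
  by_cases h1 : (idx (u * v)).Coprime (idx u)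
  · have hd2 : idx (u * v) ∣ idx v := h1.dvd_of_dvd_mul_left hdvd
    have hle : idx (u * v) ≤ idx v := Nat.le_of_dvd (idx_pos' v) hd2
    by_cases hpv : p ∣ idx v
    · apply bprime p hZ u v hu hu1 hv hpu hpv
      intro e heo hpe
      by_contra hnc
      obtain ⟨t, ht, ht1, ht2⟩ := Nat.Prime.not_coprime_iff_dvd.mp hnc
      have htp : t ≠ p := by
        rintro rfl
        exact hpu ht2
      have := (hcon t p ht hpp ht2 hpv).2 e heo
      exact this (((Nat.coprime_primes ht hpp).mpr htp).mul_dvd_of_dvd_of_dvd ht1 hpe)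
    · exact hunc (central_of_St p hu hcop hle hpv)
  · obtain ⟨t, ht, ht1, ht2⟩ := Nat.Prime.not_coprime_iff_dvd.mp h1
    by_cases h2 : (idx (u * v)).Coprime (idx v)
    · have hd2 : idx (u * v) ∣ idx u := h2.dvd_of_dvd_mul_right hdvd
      have hle : idx (v * u) ≤ idx u := by
        rw [← hcomm]; exact Nat.le_of_dvd (idx_pos' u) hd2
      exact hvnc (central_of_St p hv hcop.symm hle hpu)
    · obtain ⟨t', ht', ht1', ht2'⟩ := Nat.Prime.not_coprime_iff_dvd.mp h2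
      have hne : t ≠ t' := by
        rintro rfl
        have := Nat.dvd_gcd ht2 ht2'
        rw [hcop.gcd_eq_one] at this
        exact ht.one_lt.ne' (Nat.dvd_one.mp this)
      have := (hcon t t' ht ht' ht2 ht2').2 (u * v) hwsing
      exact this (((Nat.coprime_primes ht ht').mpr hne).mul_dvd_of_dvd_of_dvd ht1 ht1')

theorem kl_aux (p : ℕ) [hp : Fact p.Prime] (hZ : ¬ p ∣ Nat.card ↥(center G))
    (u v : G) (hu : ∃ j : ℕ, orderOf u = p ^ j) (hu1 : u ≠ 1)
    (hv : ∃ j : ℕ, orderOf v = p ^ j) (hv1 : v ≠ 1)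
    (hpu : ¬ p ∣ idx u) (hcop : (idx u).Coprime (idx v)) :
    ∃ t t' : ℕ, t.Prime ∧ t'.Prime ∧ t ∣ idx u ∧ t' ∣ idx v ∧
      (t = t' ∨ ∃ w : G, p ∣ orderOf w ∧ t * t' ∣ idx w) := by
  have hQ : IsPGroup p (zpowers v) := by
    obtain ⟨j, hj⟩ := hv
    apply IsPGroup.of_card (n := j)
    rw [Nat.card_zpowers, hj]
  obtain ⟨g, hg⟩ := exists_conj_mem_centralizer (zpowers v) hQ u hpu
  rw [Subgroup.mem_centralizer_iff] at hg
  have hcomm : (g * u * g⁻¹) * v = v * (g * u * g⁻¹) := (hg v (mem_zpowers v)).symm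
  have hidx : idx (g * u * g⁻¹) = idx u := idx_conj g u
  have hu' : ∃ j : ℕ, orderOf (g * u * g⁻¹) = p ^ j := by
    obtain ⟨j, hj⟩ := hu
    exact ⟨j, by rw [orderOf_conj', hj]⟩
  have hu1' : g * u * g⁻¹ ≠ 1 := by
    intro h
    apply hu1
    have := congrArg (fun z => g⁻¹ * z * g) h
    simpa [mul_assoc] using this
  have := kl_comm p hZ (g * u * g⁻¹) v hu' hu1' hv hv1 (by rw [hidx]; exact hpu)
    (by rw [hidx]; exact hcop) hcomm
  rw [hidx] at this
  exact this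

theorem kl_pelem (p : ℕ) [hp : Fact p.Prime] (hZ : ¬ p ∣ Nat.card ↥(center G))
    (u v : G) (hu : ∃ j : ℕ, orderOf u = p ^ j) (hu1 : u ≠ 1)
    (hv : ∃ j : ℕ, orderOf v = p ^ j) (hv1 : v ≠ 1) :
    ∃ t t' : ℕ, t.Prime ∧ t'.Prime ∧ t ∣ idx u ∧ t' ∣ idx v ∧
      (t = t' ∨ ∃ w : G, p ∣ orderOf w ∧ t * t' ∣ idx w) := by
  by_cases hcop : (idx u).Coprime (idx v)
  · by_cases hpu : p ∣ idx u
    · have hpv : ¬ p ∣ idx v := by
        intro hpv
        have := Nat.dvd_gcd hpu hpv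
        rw [hcop.gcd_eq_one] at this
        exact hp.out.one_lt.ne' (Nat.dvd_one.mp this)
      obtain ⟨t, t', ht, ht', h1, h2, h3⟩ := kl_aux p hZ v u hv hv1 hu hu1 hpv hcop.symm
      refine ⟨t', t, ht', ht, h2, h1, ?_⟩
      rcases h3 with h | ⟨w, hw1, hw2⟩
      · left; exact h.symm
      · right; exact ⟨w, hw1, by rwa [mul_comm]⟩
    · exact kl_aux p hZ u v hu hu1 hv hv1 hpu hcop
  · obtain ⟨t, ht, ht1, ht2⟩ := Nat.Prime.not_coprime_iff_dvd.mp hcop
    exact ⟨t, t, ht, ht, ht1, ht2, Or.inl rfl⟩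

/-- p-part of a p-singular element -/
theorem exists_ppart (p : ℕ) [hp : Fact p.Prime] (x : G) (hx : p ∣ orderOf x) :
    ∃ u : G, (∃ j : ℕ, orderOf u = p ^ j) ∧ u ≠ 1 ∧ idx u ∣ idx x := by
  obtain ⟨x₁, x₂, hxe, hx1, hx2, hk, hnd⟩ := exists_split x p hp.out
  refine ⟨x₁, hk, ?_, idx_dvd_of_mem_zpowers hx1⟩
  rintro rfl
  rw [one_mul] at hxe
  rw [← hxe] at hnd
  exact hnd hx

end Cfsg.Agent.helper10.PSing
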