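import Mathlib
import Cfsg.Agent.Lib_helper10_Alperin
import Cfsg.Agent.Lib_helper10_Control
import Cfsg.Agent.Lib_helper10_Reach

set_option autoImplicit false
open Cfsg

/-!
# Alperin's fusion theorem, centric form

Conjugation inside a Sylow subgroup `S` is carried, up to elements centralizing the set
conjugated, by a chain of normalizers of subgroups from a family `𝓕` containing a tame
representative of every class of subgroups `U` of `S` with `C_S(U) ≤ U`.
-/

namespace Cfsg.Agent.helper10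

variable {G : Type*} [Group G]

local notation:max K "^[" g "]" => Subgroup.map (MulEquiv.toMonoidHom (MulAut.conj g)) K

/-- `g` acts on `A` like an element carried through a chain. -/
def IsChainC (𝓕 : Set (Subgroup G)) (A : Set G) (g : G) : Prop :=
  ∃ k : G, IsChain 𝓕 A k ∧ ∀ a ∈ A, k⁻¹ * a * k = g⁻¹ * a * g

theorem rconj_congr {A : Set G} {k g : G} (h : ∀ a ∈ A, k⁻¹ * a * k = g⁻¹ * a * g) :
    rconj A k = rconj A g := by
  ext b
  constructor
  · rintro ⟨a, ha, rfl⟩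
    exact ⟨a, ha, (h a ha).symm⟩
  · rintro ⟨a, ha, rfl⟩
    exact ⟨a, ha, h a ha⟩

theorem isChainC_of_isChain {𝓕 : Set (Subgroup G)} {A : Set G} {g : G} (h : IsChain 𝓕 A g) :
    IsChainC 𝓕 A g := ⟨g, h, fun _ _ => rfl⟩

theorem isChainC_mono {𝓕 : Set (Subgroup G)} {A B : Set G} {g : G} (h : A ⊆ B) :
    IsChainC 𝓕 B g → IsChainC 𝓕 A g := by
  rintro ⟨k, hk, hkg⟩
  exact ⟨k, isChain_mono h hk, fun a ha => hkg a (h ha)⟩

theorem isChainC_congr {𝓕 : Set (Subgroup G)} {A : Set G} {g g' : G}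
    (h : ∀ a ∈ A, g⁻¹ * a * g = g'⁻¹ * a * g') : IsChainC 𝓕 A g → IsChainC 𝓕 A g' := by
  rintro ⟨k, hk, hkg⟩
  exact ⟨k, hk, fun a ha => (hkg a ha).trans (h a ha)⟩

theorem isChainC_trans {𝓕 : Set (Subgroup G)} {A : Set G} {g h : G} :
    IsChainC 𝓕 A g → IsChainC 𝓕 (rconj A g) h → IsChainC 𝓕 A (g * h) := by
  rintro ⟨k₁, hk₁, hkg₁⟩ ⟨k₂, hk₂, hkg₂⟩
  rw [← rconj_congr hkg₁] at hk₂
  refine ⟨k₁ * k₂, isChain_trans hk₁ hk₂, ?_⟩
  intro a ha
  have h1 : g⁻¹ * a * g ∈ rconj A g := ⟨a, ha, rfl⟩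
  have h2 := hkg₂ _ h1
  calc (k₁ * k₂)⁻¹ * a * (k₁ * k₂) = k₂⁻¹ * (k₁⁻¹ * a * k₁) * k₂ := by group
    _ = k₂⁻¹ * (g⁻¹ * a * g) * k₂ := by rw [hkg₁ a ha]
    _ = h⁻¹ * (g⁻¹ * a * g) * h := h2
    _ = (g * h)⁻¹ * a * (g * h) := by group

theorem isChainC_symm {𝓕 : Set (Subgroup G)} {A : Set G} {g : G} :
    IsChainC 𝓕 A g → IsChainC 𝓕 (rconj A g) g⁻¹ := by
  rintro ⟨k, hk, hkg⟩
  have h1 := isChain_symm hk
  rw [rconj_congr hkg] at h1
  refine ⟨k⁻¹, h1, ?_⟩
  rintro _ ⟨a, ha, rfl⟩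
  show k⁻¹⁻¹ * (g⁻¹ * a * g) * k⁻¹ = g⁻¹⁻¹ * (g⁻¹ * a * g) * g⁻¹
  calc k⁻¹⁻¹ * (g⁻¹ * a * g) * k⁻¹ = k⁻¹⁻¹ * (k⁻¹ * a * k) * k⁻¹ := by rw [hkg a ha]
    _ = g⁻¹⁻¹ * (g⁻¹ * a * g) * g⁻¹ := by group

theorem isChainC_single {𝓕 : Set (Subgroup G)} {A : Set G} {T : Subgroup G} {x : G}
    (hT : T ∈ 𝓕) (hx : x ∈ Subgroup.normalizer (T : Set G)) (hA : A ⊆ T) : IsChainC 𝓕 A x :=
  isChainC_of_isChain (isChain_single hT hx hA)

/-- The Frattini step: an element of `N(U)` for a tame `U` acts on `U` like an element also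
normalizing `C_S(U)`. -/
theorem exists_normalizer_centralizer_factor [Finite G] {p : ℕ} [Fact p.Prime] (S : Sylow p G)
    (U : Subgroup G)
    (hext : ¬ p ∣ ((S : Subgroup G) ⊓ Subgroup.normalizer ((U : Subgroup G) : Set G)).relIndex
        (Subgroup.normalizer ((U : Subgroup G) : Set G)))
    (y : G) (hy : y ∈ Subgroup.normalizer (U : Set G)) :
    ∃ n : G, n ∈ Subgroup.normalizer (U : Set G) ∧
      n ∈ Subgroup.normalizer ((((S : Subgroup G) ⊓ Subgroup.centralizer (U : Set G) : Subgroup G)) : Set G) ∧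
      ∀ a ∈ U, n⁻¹ * a * n = y⁻¹ * a * y := by
  obtain ⟨N, hN⟩ : ∃ N : Subgroup G, N = Subgroup.normalizer (U : Set G) := ⟨_, rfl⟩
  obtain ⟨C, hC⟩ : ∃ C : Subgroup G, C = Subgroup.centralizer (U : Set G) := ⟨_, rfl⟩
  obtain ⟨Q, hQ⟩ : ∃ Q : Subgroup G, Q = (S : Subgroup G) ⊓ N := ⟨_, rfl⟩
  obtain ⟨CS, hCS⟩ : ∃ CS : Subgroup G, CS = (S : Subgroup G) ⊓ C := ⟨_, rfl⟩
  rw [← hN] at hext hy ⊢
  rw [← hC, ← hCS]
  rw [← hQ] at hext
  have hCN : C ≤ N := by rw [hC, hN]; exact Subgroup.centralizer_le_normalizer _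
  have hNC : N ≤ Subgroup.normalizer (C : Set G) := by
    rw [hC, hN]
    intro n hn
    rw [Subgroup.mem_normalizer_iff]
    intro c
    have key : ∀ (n : G), n ∈ Subgroup.normalizer (U : Set G) →
        ∀ c ∈ Subgroup.centralizer (U : Set G), n * c * n⁻¹ ∈ Subgroup.centralizer (U : Set G) := by
      intro n hn c hc
      rw [Subgroup.mem_centralizer_iff]
      intro u hu
      have h1 : n⁻¹ * u * n ∈ U := by
        have := (Subgroup.mem_normalizer_iff.mp (Subgroup.inv_mem _ hn) u).mp hu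
        simpa using this
      have h2 := Subgroup.mem_centralizer_iff.mp hc _ h1
      calc u * (n * c * n⁻¹) = n * ((n⁻¹ * u * n) * c) * n⁻¹ := by group
        _ = n * (c * (n⁻¹ * u * n)) * n⁻¹ := by rw [h2]
        _ = n * c * n⁻¹ * u := by group
    constructor
    · exact key n hn c
    · intro hc
      have := key n⁻¹ (Subgroup.inv_mem _ hn) _ hc
      have h3 : n⁻¹ * (n * c * n⁻¹) * n⁻¹⁻¹ = c := by group
      rwa [h3] at this
  have hQN : Q ≤ N := by rw [hQ]; exact inf_le_right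
  have hQp : IsPGroup p Q := S.isPGroup'.to_le (by rw [hQ]; exact inf_le_left)
  have hCSp : IsPGroup p CS := S.isPGroup'.to_le (by rw [hCS]; exact inf_le_left)
  have hCSC : CS ≤ C := by rw [hCS]; exact inf_le_right
  have hQC : Q ⊓ C = CS := by
    rw [hQ, hCS, inf_assoc, inf_eq_right.mpr hCN]
  -- `Q` is a relative Sylow subgroup of `Q ⊔ C`
  have hQCN : Q ⊔ C ≤ N := sup_le hQN hCN
  have hi : ¬ p ∣ Q.relIndex (Q ⊔ C) := by
    intro hdvd
    apply hext
    rw [← Subgroup.relIndex_mul_relIndex Q (Q ⊔ C) N le_sup_left hQCN]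
    exact Dvd.dvd.mul_right hdvd _
  -- the conjugate of `CS` by `y`
  have hyC : y ∈ Subgroup.normalizer (C : Set G) := hNC hy
  have hCSy : CS^[y] ≤ C := by
    rw [← (mem_normalizer_iff_map_conj C y).mp hyC]
    exact Subgroup.map_mono hCSC
  obtain ⟨m, hm, hmle⟩ := pgroup_conj_into_relSylow (Q ⊔ C) (CS^[y]) Q
    (hCSy.trans le_sup_right) (by
      intro x
      obtain ⟨x, hx⟩ := x
      obtain ⟨z, hz, rfl⟩ := hx
      obtain ⟨k, hk⟩ := hCSp ⟨z, hz⟩
      refine ⟨k, ?_⟩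
      apply Subtype.ext
      have h1 : (z : G) ^ p ^ k = 1 := by
        have := congrArg Subtype.val hk
        simpa using this
      show ((MulAut.conj y).toMonoidHom z) ^ p ^ k = 1
      rw [← map_pow, h1, map_one]) hQp hi
  -- decompose `m = q * c`
  have hmem : m ∈ ((Q ⊔ C : Subgroup G) : Set G) := hm
  rw [Subgroup.coe_mul_of_left_le_normalizer_right Q C (hQN.trans hNC)] at hmem
  obtain ⟨q, hq, c, hc, hqc⟩ := Set.mem_mul.mp hmem
  have hq : q ∈ Q := hq
  have hc : c ∈ C := hc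
  -- `c * y` conjugates `CS` into `Q`
  have h1 : CS^[c * y] ≤ Q := by
    intro x hx
    rw [map_conj_mul] at hx
    have h2 : q * x * q⁻¹ ∈ (CS^[y])^[m] := by
      rw [← hqc, map_conj_mul]
      exact conj_mem_map_conj _ q x hx
    have h3 := hmle h2
    have h4 : x = q⁻¹ * (q * x * q⁻¹) * q := by group
    rw [h4]
    exact Q.mul_mem (Q.mul_mem (Q.inv_mem hq) h3) hq
  have hcyN : c * y ∈ N := N.mul_mem (hCN hc) hy
  have h2 : CS^[c * y] ≤ C := by
    rw [← (mem_normalizer_iff_map_conj C (c * y)).mp (hNC hcyN)]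
    exact Subgroup.map_mono hCSC
  have h3 : CS^[c * y] = CS := by
    apply Subgroup.eq_of_le_of_card_ge
    · have h5 : CS^[c * y] ≤ Q ⊓ C := le_inf h1 h2
      rwa [hQC] at h5
    · rw [card_map_conj]
  refine ⟨c * y, hcyN, (mem_normalizer_iff_map_conj CS (c * y)).mpr h3, ?_⟩
  intro a ha
  have hca : c⁻¹ * a * c = a := by
    rw [hC] at hc
    have := Subgroup.mem_centralizer_iff.mp hc a ha
    rw [mul_assoc, this, inv_mul_cancel_left]
  calc (c * y)⁻¹ * a * (c * y) = y⁻¹ * (c⁻¹ * a * c) * y := by group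
    _ = y⁻¹ * a * y := by rw [hca]

/-- Alperin's fusion theorem in centric chain form. -/
theorem alperin_chainC [Finite G] {p : ℕ} [Fact p.Prime] (S : Sylow p G) (𝓕 : Set (Subgroup G))
    (h : ∀ T : Subgroup G, T ≤ (S : Subgroup G) → ∃ U : Subgroup G, U ≤ (S : Subgroup G) ∧
      (∃ g : G, T^[g] = U) ∧
      ¬ p ∣ ((S : Subgroup G) ⊓ Subgroup.normalizer ((U : Subgroup G) : Set G)).relIndex
        (Subgroup.normalizer ((U : Subgroup G) : Set G)) ∧
      ((S : Subgroup G) ⊓ Subgroup.centralizer (U : Set G) ≤ U → U ∈ 𝓕)) :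
    ∀ (m : ℕ) (T : Subgroup G) (g : G), Nat.card (S : Subgroup G) - Nat.card T = m →
      T ≤ (S : Subgroup G) → rconj (T : Set G) g ⊆ (S : Subgroup G) → IsChainC 𝓕 (T : Set G) g := by
  intro m
  induction m using Nat.strong_induction_on with
  | _ m IH =>
    have K' : ∀ (T U : Subgroup G), Nat.card (S : Subgroup G) - Nat.card T = m →
        T ≤ (S : Subgroup G) → U ≤ (S : Subgroup G) → (∃ g : G, T^[g] = U) →
        ¬ p ∣ ((S : Subgroup G) ⊓ Subgroup.normalizer ((U : Subgroup G) : Set G)).relIndex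
          (Subgroup.normalizer ((U : Subgroup G) : Set G)) →
        ((S : Subgroup G) ⊓ Subgroup.centralizer (U : Set G) ≤ U → U ∈ 𝓕) →
        ∃ k : G, rconj (T : Set G) k = U ∧ IsChainC 𝓕 (T : Set G) k := by
      intro T U hm hTS hUS ⟨g₀, hg₀⟩ hext hUF
      by_cases hTeq : T = S
      · have hUeq : U = (S : Subgroup G) := by
          apply Subgroup.eq_of_le_of_card_ge hUS
          rw [← hg₀, card_map_conj, hTeq]
        have hSF : (S : Subgroup G) ∈ 𝓕 := by
          rw [← hUeq]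
          apply hUF
          rw [hUeq]
          exact inf_le_left
        refine ⟨g₀⁻¹, ?_, ?_⟩
        · rw [rconj_coe, inv_inv, hg₀]
        · have hn : g₀⁻¹ ∈ Subgroup.normalizer ((S : Subgroup G) : Set G) := by
            apply Subgroup.inv_mem
            rw [mem_normalizer_iff_map_conj, ← hTeq, hg₀, hUeq, hTeq]
          rw [hTeq]
          exact isChainC_single hSF hn (le_refl _)
      · have hlt : T < (S : Subgroup G) := lt_of_le_of_ne hTS hTeq
        have hlt' := lt_inf_normalizer_of_lt S.isPGroup' hlt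
        obtain ⟨g₁, hg₁a, hg₁b, -⟩ := Cfsg.Agent.S2014.result p S T U hTS hUS hext g₀ hg₀
        obtain ⟨Tstar, hTstar⟩ : ∃ Tstar : Subgroup G,
            Tstar = (S : Subgroup G) ⊓ Subgroup.normalizer (T : Set G) := ⟨_, rfl⟩
        rw [← hTstar] at hlt' hg₁b
        have hcard : Nat.card T < Nat.card Tstar := card_lt_card_of_lt hlt'
        have hTsS : Tstar ≤ (S : Subgroup G) := by rw [hTstar]; exact inf_le_left
        have hcard2 : Nat.card Tstar ≤ Nat.card (S : Subgroup G) := Subgroup.card_le_of_le hTsS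
        have hfull := IH (Nat.card (S : Subgroup G) - Nat.card Tstar) (by omega) Tstar g₁⁻¹ rfl hTsS
          (by
            rw [rconj_coe, inv_inv]
            exact SetLike.coe_subset_coe.mpr (hg₁b.trans inf_le_left))
        refine ⟨g₁⁻¹, ?_, isChainC_mono (SetLike.coe_subset_coe.mpr hlt'.le) hfull⟩
        rw [rconj_coe, inv_inv, hg₁a]
    intro T g hm hTS hTg
    obtain ⟨U, hUS, ⟨g₀, hg₀⟩, hext, hUF⟩ := h T hTS
    obtain ⟨T', hT'⟩ : ∃ T' : Subgroup G, T' = T^[g⁻¹] := ⟨_, rfl⟩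
    have hT'coe : (T' : Set G) = rconj (T : Set G) g := by rw [hT']; exact (rconj_coe T g).symm
    have hT'S : T' ≤ (S : Subgroup G) := by
      rw [← SetLike.coe_subset_coe, hT'coe]; exact hTg
    have hm' : Nat.card (S : Subgroup G) - Nat.card T' = m := by
      rw [hT', card_map_conj]; exact hm
    obtain ⟨k, hk1, hk2⟩ := K' T U hm hTS hUS ⟨g₀, hg₀⟩ hext hUF
    obtain ⟨k', hk'1, hk'2⟩ := K' T' U hm' hT'S hUS ⟨g₀ * g, by
      rw [map_conj_mul, hT', map_conj_map_conj_inv, hg₀]⟩ hext hUF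
    -- y = k⁻¹ g k' normalizes U
    have hy : rconj (U : Set G) (k⁻¹ * g * k') = U := by
      rw [← hk1, rconj_rconj]
      have : k * (k⁻¹ * g * k') = g * k' := by group
      rw [this, ← rconj_rconj, ← hT'coe, hk'1, hk1]
    have hyN := mem_normalizer_of_rconj_eq U _ hy
    -- the action of `y` on `U`
    have c1 : IsChainC 𝓕 (U : Set G) (k⁻¹ * g * k') := by
      by_cases hcen : (S : Subgroup G) ⊓ Subgroup.centralizer (U : Set G) ≤ U
      · exact isChainC_single (hUF hcen) hyN (le_refl _)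
      · obtain ⟨n, hnU, hnC, hnact⟩ :=
          exists_normalizer_centralizer_factor S U hext (k⁻¹ * g * k') hyN
        obtain ⟨Us, hUs⟩ : ∃ Us : Subgroup G,
            Us = U ⊔ ((S : Subgroup G) ⊓ Subgroup.centralizer (U : Set G)) := ⟨_, rfl⟩
        have hUUs : U < Us := by
          rw [hUs]
          apply lt_of_le_of_ne le_sup_left
          intro heq
          apply hcen
          exact le_sup_right.trans (le_of_eq heq.symm)
        have hUsS : Us ≤ (S : Subgroup G) := by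
          rw [hUs]; exact sup_le hUS inf_le_left
        have hnUs : n ∈ Subgroup.normalizer (Us : Set G) := by
          rw [hUs]
          exact Subgroup.normalizer_inf_normalizer_le_normalizer_sup _ _ (Subgroup.mem_inf.mpr ⟨hnU, hnC⟩)
        have hcardU : Nat.card U = Nat.card T := by rw [← hg₀, card_map_conj]
        have hcard : Nat.card U < Nat.card Us := card_lt_card_of_lt hUUs
        have hcard2 : Nat.card Us ≤ Nat.card (S : Subgroup G) := Subgroup.card_le_of_le hUsS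
        have hfull := IH (Nat.card (S : Subgroup G) - Nat.card Us) (by omega) Us n rfl hUsS
          (by
            rw [rconj_eq_self_of_mem_normalizer Us n hnUs]
            exact SetLike.coe_subset_coe.mpr hUsS)
        have h2 := isChainC_mono (SetLike.coe_subset_coe.mpr hUUs.le) hfull
        exact isChainC_congr hnact h2
    have c1' : IsChainC 𝓕 (rconj (T : Set G) k) (k⁻¹ * g * k') := by rw [hk1]; exact c1
    have c2 := isChainC_trans hk2 c1'
    have c3 : IsChainC 𝓕 (rconj (T : Set G) (k * (k⁻¹ * g * k'))) k'⁻¹ := by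
      have : k * (k⁻¹ * g * k') = g * k' := by group
      rw [this, ← rconj_rconj, ← hT'coe]
      exact isChainC_symm hk'2
    have c4 := isChainC_trans c2 c3
    have : k * (k⁻¹ * g * k') * k'⁻¹ = g := by group
    rw [this] at c4
    exact c4

end Cfsg.Agent.helper10
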