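import Mathlib
import Cfsg.Agent.Lib_helper10_Pair1
import Cfsg.Agent.Lib_helper10_Tr1
import Cfsg.Agent.Lib_helper10_TameCtl

set_option autoImplicit false
open Cfsg

/-!
# A conjugacy functor together with a central functor: control of transfer, local to global
-/

namespace Cfsg.Agent.helper10

open scoped commutatorElement

variable {G : Type*} [Group G]

local notation:max K "^[" g "]" => Subgroup.map (MulEquiv.toMonoidHom (MulAut.conj g)) K

theorem centralizer_map_conj (K : Subgroup G) (g : G) :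
    Subgroup.centralizer ((K^[g] : Subgroup G) : Set G) = (Subgroup.centralizer (K : Set G))^[g] := by
  ext x
  rw [mem_map_conj_iff, Subgroup.mem_centralizer_iff, Subgroup.mem_centralizer_iff]
  constructor
  · intro h k hk
    have h1 := h (g * k * g⁻¹) (conj_mem_map_conj K g k hk)
    calc k * (g⁻¹ * x * g) = g⁻¹ * (g * k * g⁻¹ * x) * g := by group
      _ = g⁻¹ * (x * (g * k * g⁻¹)) * g := by rw [h1]
      _ = g⁻¹ * x * g * k := by group
  · intro h y hy
    have hy' : g⁻¹ * y * g ∈ K := (mem_map_conj_iff K g y).mp hy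
    have h1 := h _ hy'
    calc y * x = g * ((g⁻¹ * y * g) * (g⁻¹ * x * g)) * g⁻¹ := by group
      _ = g * ((g⁻¹ * x * g) * (g⁻¹ * y * g)) * g⁻¹ := by rw [h1]
      _ = x * y := by group

theorem commutator_self_le' (H : Subgroup G) : ⁅H, H⁆ ≤ H := by
  rw [Subgroup.commutator_le]
  intro a ha b hb
  rw [commutatorElement_def]
  exact H.mul_mem (H.mul_mem (H.mul_mem ha hb) (H.inv_mem ha)) (H.inv_mem hb)

/-- The centre of `P`, as a subgroup of `G`, lies in the centre of any subgroup of `P` containing it. -/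
theorem center_le_center_of_le {P Q : Subgroup G} (hQP : Q ≤ P)
    (hZ : P ⊓ Subgroup.centralizer (P : Set G) ≤ Q) :
    P ⊓ Subgroup.centralizer (P : Set G) ≤ Q ⊓ Subgroup.centralizer (Q : Set G) :=
  le_inf hZ (inf_le_right.trans (Subgroup.centralizer_le (SetLike.coe_subset_coe.mpr hQP)))

section pair

variable [Finite G] {p : ℕ} [Fact p.Prime]

/-- Transport of the local pair hypothesis (transfer form) to any relative Sylow subgroup. -/
theorem pair_local_transfer {W V : Subgroup G → Subgroup G}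
    (hW : Cfsg.IsConjugacyFunctor p W) (hV : Cfsg.IsConjugacyFunctor p V)
    (L Q Q' : Subgroup G) (hQL : Q ≤ L) (hQp : IsPGroup p Q) (hQi : ¬ p ∣ Q.relIndex L)
    (hQ'L : Q' ≤ L) (hQ'p : IsPGroup p Q') (hQ'i : ¬ p ∣ Q'.relIndex L)
    (hQ : ∀ x : G, x ∈ Q ⊓ ⁅L, L⁆ →
      ∃ a ∈ Q ⊓ ⁅L ⊓ Subgroup.normalizer ((W Q : Subgroup G) : Set G),
          L ⊓ Subgroup.normalizer ((W Q : Subgroup G) : Set G)⁆,
        ∃ b ∈ Q ⊓ ⁅L ⊓ Subgroup.centralizer ((V Q : Subgroup G) : Set G),
          L ⊓ Subgroup.centralizer ((V Q : Subgroup G) : Set G)⁆, x = a * b)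
    (x : G) (hx : x ∈ Q' ⊓ ⁅L, L⁆) :
    ∃ a ∈ Q' ⊓ ⁅L ⊓ Subgroup.normalizer ((W Q' : Subgroup G) : Set G),
        L ⊓ Subgroup.normalizer ((W Q' : Subgroup G) : Set G)⁆,
      ∃ b ∈ Q' ⊓ ⁅L ⊓ Subgroup.centralizer ((V Q' : Subgroup G) : Set G),
        L ⊓ Subgroup.centralizer ((V Q' : Subgroup G) : Set G)⁆, x = a * b := by
  obtain ⟨n, hn, hnQ⟩ := relSylow_conj L Q Q' hQL hQp hQi hQ'L hQ'p hQ'i
  have hLn : L^[n] = L := map_conj_eq_self_of_mem L n hn
  have h1 : (Q ⊓ ⁅L, L⁆)^[n] = Q' ⊓ ⁅L, L⁆ := by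
    rw [map_conj_inf, map_conj_commutator, hLn, hnQ]
  have h2 : (Q ⊓ ⁅L ⊓ Subgroup.normalizer ((W Q : Subgroup G) : Set G),
      L ⊓ Subgroup.normalizer ((W Q : Subgroup G) : Set G)⁆)^[n] =
      Q' ⊓ ⁅L ⊓ Subgroup.normalizer ((W Q' : Subgroup G) : Set G),
        L ⊓ Subgroup.normalizer ((W Q' : Subgroup G) : Set G)⁆ := by
    rw [map_conj_inf, map_conj_commutator, map_conj_inf, ← normalizer_map_conj, hLn,
      ← (hW Q hQp).2.2 n, hnQ]
  have h3 : (Q ⊓ ⁅L ⊓ Subgroup.centralizer ((V Q : Subgroup G) : Set G),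
      L ⊓ Subgroup.centralizer ((V Q : Subgroup G) : Set G)⁆)^[n] =
      Q' ⊓ ⁅L ⊓ Subgroup.centralizer ((V Q' : Subgroup G) : Set G),
        L ⊓ Subgroup.centralizer ((V Q' : Subgroup G) : Set G)⁆ := by
    rw [map_conj_inf, map_conj_commutator, map_conj_inf, ← centralizer_map_conj, hLn,
      ← (hV Q hQp).2.2 n, hnQ]
  have hx' : n⁻¹ * x * n ∈ Q ⊓ ⁅L, L⁆ := by
    rw [← h1] at hx
    exact (mem_map_conj_iff _ n x).mp hx
  obtain ⟨a, ha, b, hb, hab⟩ := hQ _ hx'
  refine ⟨n * a * n⁻¹, ?_, n * b * n⁻¹, ?_, ?_⟩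
  · rw [← h2]; exact conj_mem_map_conj _ n a ha
  · rw [← h3]; exact conj_mem_map_conj _ n b hb
  · calc x = n * (n⁻¹ * x * n) * n⁻¹ := by group
      _ = n * (a * b) * n⁻¹ := by rw [hab]
      _ = n * a * n⁻¹ * (n * b * n⁻¹) := by group

/-- The terms of the tower of a subgroup containing `Z(P)` contain `Z(P)`. -/
theorem center_le_functorTower {W : Subgroup G → Subgroup G}
    (hW : Cfsg.IsConjugacyFunctor p W) {P H : Subgroup G} (hP : IsPGroup p P)
    (hWZ : ∀ K : Subgroup G, IsPGroup p ↥K → K ⊓ Subgroup.centralizer ((K : Subgroup G) : Set G) ≤ W K)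
    (hHP : H ≤ P) (hZH : P ⊓ Subgroup.centralizer (P : Set G) ≤ H) :
    ∀ i, P ⊓ Subgroup.centralizer (P : Set G) ≤ Cfsg.functorTower W P H i
  | 0 => hZH
  | i + 1 => by
    have ih := center_le_functorTower hW hP hWZ hHP hZH i
    rw [functorTower_succ]
    have hTi : Cfsg.functorTower W P H i ≤ towerNS W P H i :=
      le_inf (functorTower_le hW hP hHP i) Subgroup.le_normalizer
    have h1 : P ⊓ Subgroup.centralizer (P : Set G) ≤
        towerNS W P H i ⊓ Subgroup.centralizer ((towerNS W P H i : Subgroup G) : Set G) :=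
      center_le_center_of_le inf_le_left (ih.trans hTi)
    exact h1.trans (hWZ _ (hP.to_le inf_le_left))

/-- The local step: for a well-placed subgroup containing `Z(P)`, the focal part of its
normalizer lies in the product of the two global focal parts. -/
theorem pair_wellPlaced_transfer (P : Sylow p G) (hP1 : (P : Subgroup G) ≠ ⊥)
    {W V : Subgroup G → Subgroup G}
    (hW : Cfsg.IsConjugacyFunctor p W) (hV : Cfsg.IsConjugacyFunctor p V)
    (hWZ : ∀ H : Subgroup G, IsPGroup p ↥H → H ⊓ Subgroup.centralizer ((H : Subgroup G) : Set G) ≤ W H)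
    (hVmono : ∀ H K : Subgroup G, IsPGroup p ↥H → IsPGroup p ↥K → H ≠ ⊥ → K ≠ ⊥ →
      H ⊓ Subgroup.centralizer ((H : Subgroup G) : Set G) ≤ K ⊓ Subgroup.centralizer ((K : Subgroup G) : Set G) →
      V H ≤ V K)
    (hloc : ∀ H : Subgroup G, (P : Subgroup G) ⊓ Subgroup.centralizer ((P : Subgroup G) : Set G) ≤ H →
      H ≤ (P : Subgroup G) → ∃ Q : Subgroup G, Q ≤ Subgroup.normalizer ((H : Subgroup G) : Set G) ∧
      IsPGroup p ↥Q ∧ ¬ p ∣ (Q).relIndex (Subgroup.normalizer ((H : Subgroup G) : Set G)) ∧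
      ∀ x : G, x ∈ Q ⊓ ⁅Subgroup.normalizer ((H : Subgroup G) : Set G),
          Subgroup.normalizer ((H : Subgroup G) : Set G)⁆ →
        ∃ a ∈ Q ⊓ ⁅Subgroup.normalizer ((H : Subgroup G) : Set G) ⊓
            Subgroup.normalizer ((W Q : Subgroup G) : Set G),
            Subgroup.normalizer ((H : Subgroup G) : Set G) ⊓
            Subgroup.normalizer ((W Q : Subgroup G) : Set G)⁆,
          ∃ b ∈ Q ⊓ ⁅Subgroup.normalizer ((H : Subgroup G) : Set G) ⊓
              Subgroup.centralizer ((V Q : Subgroup G) : Set G),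
              Subgroup.normalizer ((H : Subgroup G) : Set G) ⊓
              Subgroup.centralizer ((V Q : Subgroup G) : Set G)⁆, x = a * b)
    (R : Subgroup G)
    (hAR : (P : Subgroup G) ⊓ ⁅Subgroup.normalizer ((W (P : Subgroup G) : Subgroup G) : Set G),
      Subgroup.normalizer ((W (P : Subgroup G) : Subgroup G) : Set G)⁆ ≤ R)
    (hBR : (P : Subgroup G) ⊓ ⁅Subgroup.centralizer ((V (P : Subgroup G) : Subgroup G) : Set G),
      Subgroup.centralizer ((V (P : Subgroup G) : Subgroup G) : Set G)⁆ ≤ R)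
    (H : Subgroup G) (hZH : (P : Subgroup G) ⊓ Subgroup.centralizer ((P : Subgroup G) : Set G) ≤ H)
    (hwp : Cfsg.IsWellPlaced p W (P : Subgroup G) H) :
    (P : Subgroup G) ⊓ ⁅Subgroup.normalizer ((H : Subgroup G) : Set G),
      Subgroup.normalizer ((H : Subgroup G) : Set G)⁆ ≤ R := by
  have hPp : IsPGroup p (P : Subgroup G) := P.isPGroup'
  have hZT := center_le_functorTower hW hPp hWZ hwp.1 hZH
  -- the descending step
  have step : ∀ i, (P : Subgroup G) ⊓ ⁅Subgroup.normalizer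
        ((Cfsg.functorTower W (P : Subgroup G) H (i + 1) : Subgroup G) : Set G),
        Subgroup.normalizer ((Cfsg.functorTower W (P : Subgroup G) H (i + 1) : Subgroup G) : Set G)⁆ ≤ R →
      (P : Subgroup G) ⊓ ⁅Subgroup.normalizer
        ((Cfsg.functorTower W (P : Subgroup G) H i : Subgroup G) : Set G),
        Subgroup.normalizer ((Cfsg.functorTower W (P : Subgroup G) H i : Subgroup G) : Set G)⁆ ≤ R := by
    intro i hnext x hx
    obtain ⟨T, hT⟩ : ∃ T : Subgroup G, T = Cfsg.functorTower W (P : Subgroup G) H i := ⟨_, rfl⟩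
    obtain ⟨Q', hQ'⟩ : ∃ Q' : Subgroup G, Q' = towerNS W (P : Subgroup G) H i := ⟨_, rfl⟩
    have hQ'def : Q' = (P : Subgroup G) ⊓ Subgroup.normalizer (T : Set G) := by rw [hQ', hT]; rfl
    have hnextT : Cfsg.functorTower W (P : Subgroup G) H (i + 1) = W Q' := by
      rw [functorTower_succ, hQ']
    rw [hnextT] at hnext
    rw [← hT] at hx
    have hTP : T ≤ (P : Subgroup G) := by rw [hT]; exact functorTower_le hW hPp hwp.1 i
    have hZT' : (P : Subgroup G) ⊓ Subgroup.centralizer ((P : Subgroup G) : Set G) ≤ T := by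
      rw [hT]; exact hZT i
    have hTQ' : T ≤ Q' := by rw [hQ'def]; exact le_inf hTP Subgroup.le_normalizer
    have hQ'P : Q' ≤ (P : Subgroup G) := by rw [hQ'def]; exact inf_le_left
    have hQ'p : IsPGroup p Q' := hPp.to_le hQ'P
    have hQ'i : ¬ p ∣ Q'.relIndex (Subgroup.normalizer (T : Set G)) := by
      have := hwp.2 i
      rw [← hT, ← hQ'def] at this
      exact this
    have hQ'L : Q' ≤ Subgroup.normalizer (T : Set G) := by rw [hQ'def]; exact inf_le_right
    obtain ⟨Q, hQL, hQp, hQi, hQ⟩ := hloc T hZT' hTP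
    have hxQ' : x ∈ Q' ⊓ ⁅Subgroup.normalizer (T : Set G), Subgroup.normalizer (T : Set G)⁆ := by
      obtain ⟨hxP, hxc⟩ := Subgroup.mem_inf.mp hx
      refine Subgroup.mem_inf.mpr ⟨?_, hxc⟩
      rw [hQ'def]
      exact Subgroup.mem_inf.mpr ⟨hxP, commutator_self_le' _ hxc⟩
    obtain ⟨a, ha, b, hb, hab⟩ := pair_local_transfer hW hV _ Q Q' hQL hQp hQi hQ'L hQ'p hQ'i hQ x hxQ'
    rw [hab]
    apply R.mul_mem
    · apply hnext
      obtain ⟨haQ, hac⟩ := Subgroup.mem_inf.mp ha
      exact Subgroup.mem_inf.mpr ⟨hQ'P haQ, Subgroup.commutator_mono inf_le_right inf_le_right hac⟩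
    · apply hBR
      obtain ⟨hbQ, hbc⟩ := Subgroup.mem_inf.mp hb
      refine Subgroup.mem_inf.mpr ⟨hQ'P hbQ, ?_⟩
      have hQ'1 : Q' ≠ ⊥ := by
        intro hbot
        have hT1 : T = ⊥ := le_bot_iff.mp (hbot ▸ hTQ')
        apply hP1
        have : Q' = (P : Subgroup G) := by
          rw [hQ'def, hT1]
          have : Subgroup.normalizer (((⊥ : Subgroup G) : Subgroup G) : Set G) = ⊤ :=
            Subgroup.normalizer_eq_top_iff.mpr inferInstance
          rw [this, inf_top_eq]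
        rw [← this, hbot]
      have hVV : V (P : Subgroup G) ≤ V Q' :=
        hVmono _ _ hPp hQ'p hP1 hQ'1 (center_le_center_of_le hQ'P (hZT'.trans hTQ'))
      have hCC : Subgroup.centralizer ((V Q' : Subgroup G) : Set G) ≤
          Subgroup.centralizer ((V (P : Subgroup G) : Subgroup G) : Set G) :=
        Subgroup.centralizer_le (SetLike.coe_subset_coe.mpr hVV)
      exact Subgroup.commutator_mono (inf_le_right.trans hCC) (inf_le_right.trans hCC) hbc
  -- the tower reaches `P`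
  obtain ⟨j, -, hj⟩ := exists_towerNS_stable hW (S := (P : Subgroup G)) (T := H) hPp
  have hjS := towerNS_eq_of_stable hW hPp j hj
  have base : (P : Subgroup G) ⊓ ⁅Subgroup.normalizer
        ((Cfsg.functorTower W (P : Subgroup G) H (j + 1) : Subgroup G) : Set G),
        Subgroup.normalizer ((Cfsg.functorTower W (P : Subgroup G) H (j + 1) : Subgroup G) : Set G)⁆ ≤ R := by
    rw [functorTower_succ, hjS]
    exact hAR
  have down : ∀ d i, i + d = j + 1 → (P : Subgroup G) ⊓ ⁅Subgroup.normalizer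
        ((Cfsg.functorTower W (P : Subgroup G) H i : Subgroup G) : Set G),
        Subgroup.normalizer ((Cfsg.functorTower W (P : Subgroup G) H i : Subgroup G) : Set G)⁆ ≤ R := by
    intro d
    induction d with
    | zero =>
      intro i hi
      have : i = j + 1 := by omega
      rw [this]; exact base
    | succ d ih =>
      intro i hi
      exact step i (ih (i + 1) (by omega))
  exact down (j + 1) 0 (by omega)

end pair

end Cfsg.Agent.helper10
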