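import Mathlib
import Cfsg.Agent.Lib_helper10_Pair2
import Cfsg.Agent.Lib_helper10_Reach

set_option autoImplicit false
open Cfsg

/-!
# A conjugacy functor together with a central functor: control of strong fusion, local to global
-/

namespace Cfsg.Agent.helper10

variable {G : Type*} [Group G]

local notation:max K "^[" g "]" => Subgroup.map (MulEquiv.toMonoidHom (MulAut.conj g)) K

/-- The steps allowed for the pair `(W, V)` relative to `L` and its Sylow subgroup `Q`. -/
def Npair (W V : Subgroup G → Subgroup G) (L Q : Subgroup G) : Set G :=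
  {d | d ∈ L ⊓ Subgroup.normalizer ((W Q : Subgroup G) : Set G) ∨
    d ∈ L ⊓ Subgroup.centralizer ((V Q : Subgroup G) : Set G)}

theorem Npair_inv (W V : Subgroup G → Subgroup G) (L Q : Subgroup G) :
    ∀ d ∈ Npair W V L Q, d⁻¹ ∈ Npair W V L Q := by
  rintro d (hd | hd)
  · exact Or.inl (Subgroup.inv_mem _ hd)
  · exact Or.inr (Subgroup.inv_mem _ hd)

theorem rconj_eq_self_of_mem_centralizer {X : Set G} {c : G} (hc : c ∈ Subgroup.centralizer X) :
    rconj X c = X := by
  have key : ∀ x ∈ X, c⁻¹ * x * c = x := by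
    intro x hx
    have := Subgroup.mem_centralizer_iff.mp hc x hx
    rw [mul_assoc, this, inv_mul_cancel_left]
  ext y
  constructor
  · rintro ⟨x, hx, rfl⟩
    show c⁻¹ * x * c ∈ X
    rw [key x hx]; exact hx
  · intro hy
    exact ⟨y, hy, key y hy⟩

/-- From the list form of a chain (right conjugation) to reachability. -/
theorem reach_of_list {N S X : Set G} (hN : ∀ d ∈ N, d⁻¹ ∈ N) (bs : List G) (hbs : ∀ d ∈ bs, d ∈ N)
    (hin : ∀ k : ℕ, k ≤ bs.length → rconj X (bs.take k).prod ⊆ S) :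
    ∀ k : ℕ, k ≤ bs.length → Reach N S X ((bs.take k).prod)⁻¹ := by
  intro k
  induction k with
  | zero =>
    intro _
    have h0 := hin 0 (Nat.zero_le _)
    simp only [List.take_zero, List.prod_nil, rconj_one] at h0
    simp only [List.take_zero, List.prod_nil, inv_one]
    exact Reach.refl h0
  | succ k ih =>
    intro hk
    have hk' : k < bs.length := hk
    have h1 := ih hk'.le
    rw [List.prod_take_succ bs k hk', mul_inv_rev]
    apply Reach.step _ _ h1 (hN _ (hbs _ (List.getElem_mem hk')))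
    rw [← mul_inv_rev, ← List.prod_take_succ bs k hk', lconj_inv_eq_rconj]
    exact hin (k + 1) hk

/-- From reachability to the list form of a chain (right conjugation). -/
theorem list_of_reach {N S X : Set G} (hN : ∀ d ∈ N, d⁻¹ ∈ N) {g : G} (h : Reach N S X g) :
    ∃ bs : List G, (∀ d ∈ bs, d ∈ N) ∧ bs.prod = g⁻¹ ∧
      ∀ k : ℕ, k ≤ bs.length → rconj X (bs.take k).prod ⊆ S := by
  induction h with
  | refl hX =>
    refine ⟨[], by simp, by simp, ?_⟩
    intro k _
    simp only [List.take_nil, List.prod_nil, rconj_one]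
    exact hX
  | step g d _ hd hS ih =>
    obtain ⟨bs, h1, h2, h3⟩ := ih
    refine ⟨bs ++ [d⁻¹], ?_, ?_, ?_⟩
    · intro e he
      rcases List.mem_append.mp he with he | he
      · exact h1 e he
      · rw [List.mem_singleton] at he
        rw [he]; exact hN d hd
    · rw [List.prod_append, h2]; simp
    · intro k hk
      rw [List.length_append, List.length_singleton] at hk
      rcases Nat.lt_or_ge k (bs.length + 1) with hlt | hge
      · have hk' : k ≤ bs.length := by omega
        rw [List.take_append_of_le_length hk']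
        exact h3 k hk'
      · have hk' : k = bs.length + 1 := by omega
        have e : (bs ++ [d⁻¹]).take k = bs ++ [d⁻¹] := by
          apply List.take_of_length_le
          rw [List.length_append, List.length_singleton]; omega
        rw [e, List.prod_append, h2]
        have e2 : g⁻¹ * [d⁻¹].prod = (d * g)⁻¹ := by simp
        rw [e2, ← lconj_inv_eq_rconj, inv_inv]
        exact hS

/-- The relation in the form of the statements: an element `a` acting (on the right) on `X`. -/
theorem rel_of_listChain {N S X : Set G} (hN : ∀ d ∈ N, d⁻¹ ∈ N) (a c : G)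
    (hc : c ∈ Subgroup.centralizer X) (n : ℕ) (b : Fin n → G) (hb : ∀ i, b i ∈ N)
    (hab : a = c * (List.ofFn b).prod)
    (hin : ∀ k : ℕ, k ≤ n → (fun x => (((List.ofFn b).take k).prod)⁻¹ * x * ((List.ofFn b).take k).prod) ''
      ((fun x => c⁻¹ * x * c) '' X) ⊆ S) :
    Rel N S X a⁻¹ := by
  have hXc : (fun x => c⁻¹ * x * c) '' X = X := rconj_eq_self_of_mem_centralizer hc
  have hlen : (List.ofFn b).length = n := List.length_ofFn
  have h1 := reach_of_list hN (List.ofFn b) (by
      intro d hd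
      obtain ⟨i, rfl⟩ := (List.mem_ofFn' _ _).mp hd
      exact hb i) (by
      intro k hk
      rw [hlen] at hk
      have := hin k hk
      rw [hXc] at this
      exact this) n (by rw [hlen])
  have e : (List.ofFn b).take n = List.ofFn b := by
    apply List.take_of_length_le; rw [hlen]
  rw [e] at h1
  refine ⟨_, h1, ?_⟩
  intro x hx
  have hcx : c⁻¹ * x * c = x := by
    have := Subgroup.mem_centralizer_iff.mp hc x hx
    rw [mul_assoc, this, inv_mul_cancel_left]
  rw [hab]
  calc ((List.ofFn b).prod)⁻¹ * x * ((List.ofFn b).prod)⁻¹⁻¹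
      = ((List.ofFn b).prod)⁻¹ * (c⁻¹ * x * c) * (List.ofFn b).prod := by rw [hcx, inv_inv]
    _ = (c * (List.ofFn b).prod)⁻¹ * x * (c * (List.ofFn b).prod)⁻¹⁻¹ := by group

theorem listChain_of_rel {N S X : Set G} (hN : ∀ d ∈ N, d⁻¹ ∈ N) (a : G) (h : Rel N S X a⁻¹) :
    ∃ c ∈ Subgroup.centralizer X, ∃ (n : ℕ) (b : Fin n → G), (∀ i, b i ∈ N) ∧
      a = c * (List.ofFn b).prod ∧
      ∀ k : ℕ, k ≤ n → (fun x => (((List.ofFn b).take k).prod)⁻¹ * x * ((List.ofFn b).take k).prod) ''
        ((fun x => c⁻¹ * x * c) '' X) ⊆ S := by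
  obtain ⟨g, hg, hga⟩ := h
  obtain ⟨bs, h1, h2, h3⟩ := list_of_reach hN hg
  have hc : a * g ∈ Subgroup.centralizer X := by
    rw [Subgroup.mem_centralizer_iff]
    intro x hx
    have h4 := hga x hx
    have h5 : g * x = a⁻¹ * x * a⁻¹⁻¹ * g := by rw [← h4]; group
    calc x * (a * g) = a * (a⁻¹ * x * a⁻¹⁻¹ * g) := by group
      _ = a * (g * x) := by rw [h5]
      _ = a * g * x := by group
  have hXc : (fun x => (a * g)⁻¹ * x * (a * g)) '' X = X := rconj_eq_self_of_mem_centralizer hc
  refine ⟨a * g, hc, bs.length, fun i => bs.get i, ?_, ?_, ?_⟩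
  · intro i
    exact h1 _ (List.get_mem bs i)
  · rw [List.ofFn_get, h2]; group
  · intro k hk
    rw [List.ofFn_get, hXc]
    exact h3 k hk

section pair

variable [Finite G] {p : ℕ} [Fact p.Prime]

/-- Transport of the local pair hypothesis (fusion form) to any relative Sylow subgroup. -/
theorem pair_local_fusion {W V : Subgroup G → Subgroup G}
    (hW : Cfsg.IsConjugacyFunctor p W) (hV : Cfsg.IsConjugacyFunctor p V)
    (L Q Q' : Subgroup G) (hQL : Q ≤ L) (hQp : IsPGroup p Q) (hQi : ¬ p ∣ Q.relIndex L)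
    (hQ'L : Q' ≤ L) (hQ'p : IsPGroup p Q') (hQ'i : ¬ p ∣ Q'.relIndex L)
    (hQ : ∀ (X : Set G) (a : G), X ⊆ Q → a ∈ L → lconj a X ⊆ Q → Rel (Npair W V L Q) Q X a)
    (X : Set G) (a : G) (hX : X ⊆ Q') (ha : a ∈ L) (haX : lconj a X ⊆ Q') :
    Rel (Npair W V L Q') Q' X a := by
  obtain ⟨n, hn, hnQ⟩ := relSylow_conj L Q Q' hQL hQp hQi hQ'L hQ'p hQ'i
  have hLn : L^[n] = L := map_conj_eq_self_of_mem L n hn
  have hmem : ∀ t, t ∈ Q' ↔ n⁻¹ * t * n ∈ Q := fun t => by rw [← hnQ, mem_map_conj_iff]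
  have hX' : lconj n⁻¹ X ⊆ Q := by
    rintro _ ⟨x, hx, rfl⟩
    have := (hmem x).mp (hX hx)
    rwa [inv_inv]
  have ha' : n⁻¹ * a * n ∈ L := L.mul_mem (L.mul_mem (L.inv_mem hn) ha) hn
  have haX' : lconj (n⁻¹ * a * n) (lconj n⁻¹ X) ⊆ Q := by
    rw [lconj_lconj]
    have e : n⁻¹ * a * n * n⁻¹ = n⁻¹ * a := by group
    rw [e, ← lconj_lconj]
    rintro _ ⟨y, hy, rfl⟩
    have := (hmem y).mp (haX hy)
    rwa [inv_inv]
  obtain ⟨c, hc, hca⟩ := hQ _ _ hX' ha' haX'
  have hreach2 := hc.conj (N' := Npair W V L Q') (S' := (Q' : Set G)) n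
    (by
      rintro d (hd | hd)
      · left
        refine Subgroup.mem_inf.mpr
          ⟨L.mul_mem (L.mul_mem hn (Subgroup.mem_inf.mp hd).1) (L.inv_mem hn), ?_⟩
        rw [← hnQ, (hW Q hQp).2.2 n, normalizer_map_conj]
        exact conj_mem_map_conj _ n d (Subgroup.mem_inf.mp hd).2
      · right
        refine Subgroup.mem_inf.mpr
          ⟨L.mul_mem (L.mul_mem hn (Subgroup.mem_inf.mp hd).1) (L.inv_mem hn), ?_⟩
        rw [← hnQ, (hV Q hQp).2.2 n, centralizer_map_conj]
        exact conj_mem_map_conj _ n d (Subgroup.mem_inf.mp hd).2)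
    (by
      intro s hs
      rw [← hnQ]
      exact conj_mem_map_conj _ n s hs)
  rw [lconj_lconj, mul_inv_cancel, lconj_one] at hreach2
  refine ⟨_, hreach2, ?_⟩
  intro x hx
  have h3 := hca (n⁻¹ * x * n⁻¹⁻¹) ⟨x, hx, rfl⟩
  calc n * c * n⁻¹ * x * (n * c * n⁻¹)⁻¹
      = n * (c * (n⁻¹ * x * n⁻¹⁻¹) * c⁻¹) * n⁻¹ := by group
    _ = n * ((n⁻¹ * a * n) * (n⁻¹ * x * n⁻¹⁻¹) * (n⁻¹ * a * n)⁻¹) * n⁻¹ := by rw [h3]
    _ = a * x * a⁻¹ := by group

/-- The local step (fusion form): for a well-placed subgroup containing `Z(P)`, elements of its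
normalizer act on subsets of its `P`-normalizer like products of elements of `N(W P)` and
`C(V P)`. -/
theorem pair_wellPlaced_fusion (P : Sylow p G) (hP1 : (P : Subgroup G) ≠ ⊥)
    {W V : Subgroup G → Subgroup G}
    (hW : Cfsg.IsConjugacyFunctor p W) (hV : Cfsg.IsConjugacyFunctor p V)
    (hWZ : ∀ H : Subgroup G, IsPGroup p ↥H → H ⊓ Subgroup.centralizer ((H : Subgroup G) : Set G) ≤ W H)
    (hVmono : ∀ H K : Subgroup G, IsPGroup p ↥H → IsPGroup p ↥K → H ≠ ⊥ → K ≠ ⊥ →
      H ⊓ Subgroup.centralizer ((H : Subgroup G) : Set G) ≤ K ⊓ Subgroup.centralizer ((K : Subgroup G) : Set G) →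
      V H ≤ V K)
    (hloc : ∀ H : Subgroup G, (P : Subgroup G) ⊓ Subgroup.centralizer ((P : Subgroup G) : Set G) ≤ H →
      H ≤ (P : Subgroup G) → ∃ Q : Subgroup G, Q ≤ Subgroup.normalizer ((H : Subgroup G) : Set G) ∧
      IsPGroup p ↥Q ∧ ¬ p ∣ (Q).relIndex (Subgroup.normalizer ((H : Subgroup G) : Set G)) ∧
      ∀ (X : Set G) (a : G), X ⊆ Q → a ∈ Subgroup.normalizer ((H : Subgroup G) : Set G) →
        lconj a X ⊆ Q → Rel (Npair W V (Subgroup.normalizer ((H : Subgroup G) : Set G)) Q) Q X a)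
    (H : Subgroup G) (hZH : (P : Subgroup G) ⊓ Subgroup.centralizer ((P : Subgroup G) : Set G) ≤ H)
    (hwp : Cfsg.IsWellPlaced p W (P : Subgroup G) H)
    (X : Set G) (y : G) (hX : X ⊆ H) (hy : y ∈ Subgroup.normalizer (H : Set G)) :
    Rel (Npair W V ⊤ (P : Subgroup G)) (P : Subgroup G) X y := by
  have hPp : IsPGroup p (P : Subgroup G) := P.isPGroup'
  have hZT := center_le_functorTower hW hPp hWZ hwp.1 hZH
  -- the statement at level `i`
  obtain ⟨Cl, hCl⟩ : ∃ Cl : ℕ → Prop, Cl = fun i => ∀ (X : Set G) (y : G),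
      X ⊆ towerNS W (P : Subgroup G) H i →
      y ∈ Subgroup.normalizer ((Cfsg.functorTower W (P : Subgroup G) H i : Subgroup G) : Set G) →
      lconj y X ⊆ towerNS W (P : Subgroup G) H i →
      Rel (Npair W V ⊤ (P : Subgroup G)) (P : Subgroup G) X y := ⟨_, rfl⟩
  have step : ∀ i, Cl (i + 1) → Cl i := by
    intro i hnext
    rw [hCl] at hnext ⊢
    intro X y hX hy hyX
    obtain ⟨T, hT⟩ : ∃ T : Subgroup G, T = Cfsg.functorTower W (P : Subgroup G) H i := ⟨_, rfl⟩
    obtain ⟨Q', hQ'⟩ : ∃ Q' : Subgroup G, Q' = towerNS W (P : Subgroup G) H i := ⟨_, rfl⟩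
    have hQ'def : Q' = (P : Subgroup G) ⊓ Subgroup.normalizer (T : Set G) := by rw [hQ', hT]; rfl
    have hnextT : Cfsg.functorTower W (P : Subgroup G) H (i + 1) = W Q' := by
      rw [functorTower_succ, hQ']
    rw [hnextT] at hnext
    rw [← hT] at hy
    rw [← hQ'] at hX hyX
    have hmono : Q' ≤ towerNS W (P : Subgroup G) H (i + 1) := by
      rw [hQ']; exact towerNS_mono hW hPp i
    have hTP : T ≤ (P : Subgroup G) := by rw [hT]; exact functorTower_le hW hPp hwp.1 i
    have hZT' : (P : Subgroup G) ⊓ Subgroup.centralizer ((P : Subgroup G) : Set G) ≤ T := by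
      rw [hT]; exact hZT i
    have hTQ' : T ≤ Q' := by rw [hQ'def]; exact le_inf hTP Subgroup.le_normalizer
    have hQ'P : Q' ≤ (P : Subgroup G) := by rw [hQ'def]; exact inf_le_left
    have hQ'p : IsPGroup p Q' := hPp.to_le hQ'P
    have hQ'i : ¬ p ∣ Q'.relIndex (Subgroup.normalizer (T : Set G)) := by
      have := hwp.2 i
      rw [← hT, ← hQ'def] at this
      exact this
    have hQ'L : Q' ≤ Subgroup.normalizer (T : Set G) := by rw [hQ'def]; exact inf_le_right
    obtain ⟨Q, hQL, hQp, hQi, hQ⟩ := hloc T hZT' hTP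
    have h1 := pair_local_fusion hW hV _ Q Q' hQL hQp hQi hQ'L hQ'p hQ'i hQ X y hX hy hyX
    obtain ⟨c, hc, hcy⟩ := h1
    have h2 : Rel (Npair W V ⊤ (P : Subgroup G)) (P : Subgroup G) X c := by
      apply reach_local_to_global (Nl := Npair W V (Subgroup.normalizer (T : Set G)) Q')
        (Sl := (Q' : Set G)) (SetLike.coe_subset_coe.mpr hQ'P) _ hc
      rintro d (hd | hd) B hB hdB
      · exact hnext B d (hB.trans (SetLike.coe_subset_coe.mpr hmono)) (Subgroup.mem_inf.mp hd).2
          (hdB.trans (SetLike.coe_subset_coe.mpr hmono))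
      · apply Rel.of_reach
        apply Reach.single (hB.trans (SetLike.coe_subset_coe.mpr hQ'P)) _
          (hdB.trans (SetLike.coe_subset_coe.mpr hQ'P))
        right
        refine Subgroup.mem_inf.mpr ⟨Subgroup.mem_top d, ?_⟩
        have hQ'1 : Q' ≠ ⊥ := by
          intro hbot
          have hT1 : T = ⊥ := le_bot_iff.mp (hbot ▸ hTQ')
          apply hP1
          have : Q' = (P : Subgroup G) := by
            rw [hQ'def, hT1]
            have : Subgroup.normalizer (((⊥ : Subgroup G) : Subgroup G) : Set G) = ⊤ :=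
              Subgroup.normalizer_eq_top_iff.mpr inferInstance
            rw [this, inf_top_eq]
          rw [← this, hbot]
        have hVV : V (P : Subgroup G) ≤ V Q' :=
          hVmono _ _ hPp hQ'p hP1 hQ'1 (center_le_center_of_le hQ'P (hZT'.trans hTQ'))
        exact Subgroup.centralizer_le (SetLike.coe_subset_coe.mpr hVV) (Subgroup.mem_inf.mp hd).2
    exact h2.congr hcy
  -- the tower reaches `P`
  obtain ⟨j, -, hj⟩ := exists_towerNS_stable hW (S := (P : Subgroup G)) (T := H) hPp
  have hjS := towerNS_eq_of_stable hW hPp j hj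
  have base : Cl (j + 1) := by
    rw [hCl]
    intro X y hX hy hyX
    rw [functorTower_succ, hjS] at hy
    have hNS : towerNS W (P : Subgroup G) H (j + 1) ≤ (P : Subgroup G) := inf_le_left
    apply Rel.of_reach
    apply Reach.single (hX.trans (SetLike.coe_subset_coe.mpr hNS)) _
      (hyX.trans (SetLike.coe_subset_coe.mpr hNS))
    left
    exact Subgroup.mem_inf.mpr ⟨Subgroup.mem_top y, hy⟩
  have down : ∀ d i, i + d = j + 1 → Cl i := by
    intro d
    induction d with
    | zero =>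
      intro i hi
      have : i = j + 1 := by omega
      rw [this]; exact base
    | succ d ih =>
      intro i hi
      exact step i (ih (i + 1) (by omega))
  have h0 := down (j + 1) 0 (by omega)
  rw [hCl] at h0
  have hHNS : H ≤ towerNS W (P : Subgroup G) H 0 := le_towerNS_zero W _ H hwp.1
  apply h0 X y (hX.trans (SetLike.coe_subset_coe.mpr hHNS)) hy
  calc lconj y X ⊆ lconj y (H : Set G) := lconj_mono hX y
    _ = H := by
      have := rconj_eq_self_of_mem_normalizer H y⁻¹ (Subgroup.inv_mem _ hy)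
      rw [← lconj_inv_eq_rconj, inv_inv] at this
      exact this
    _ ⊆ towerNS W (P : Subgroup G) H 0 := SetLike.coe_subset_coe.mpr hHNS

end pair

end Cfsg.Agent.helper10
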