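import Mathlib

set_option autoImplicit false

namespace Cfsg.Agent.helper10

/-- abstract criterion: if a subgroup `B` contains all odd-order elements of the finite group `A`
and its image in `A ⧸ I` is solvable, then `A ⧸ I` is solvable -/
theorem pdo_solvable_of_odd {A : Type*} [Group A] [Finite A] (I : Subgroup A) [I.Normal]
    (B : Subgroup A) (hodd : ∀ a : A, Odd (orderOf a) → a ∈ B)
    (hsol : Group.IsSolvable ↥(B.map (QuotientGroup.mk' I))) :
    Group.IsSolvable (A ⧸ I) := by
  classical
  set π : A →* A ⧸ I := QuotientGroup.mk' I with hπ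
  set S : Set A := {a : A | Odd (orderOf a)} with hS
  set T : Subgroup A := Subgroup.normalClosure S with hT
  have hTB : T ≤ B := by
    rw [hT, Subgroup.normalClosure]
    rw [Subgroup.closure_le]
    intro a ha
    rw [Group.mem_conjugatesOfSet_iff] at ha
    obtain ⟨b, hb, hconj⟩ := ha
    apply hodd
    obtain ⟨c, hc⟩ := isConj_iff.mp hconj
    have hb' : Odd (orderOf b) := hb
    have hord : orderOf a = orderOf b := by
      rw [← hc]
      exact orderOf_injective (MulAut.conj c).toMonoidHom (MulAut.conj c).injective b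
    rw [hord]
    exact hb'
  set Tb : Subgroup (A ⧸ I) := T.map π with hTb
  haveI : Tb.Normal := Subgroup.Normal.map inferInstance π (QuotientGroup.mk'_surjective I)
  have hTbB : Tb ≤ B.map π := Subgroup.map_mono hTB
  haveI : Group.IsSolvable ↥Tb :=
    Group.isSolvable_of_isSolvable_injective (f := Subgroup.inclusion hTbB)
      (Subgroup.inclusion_injective hTbB)
  have hp : IsPGroup 2 ((A ⧸ I) ⧸ Tb) := by
    intro y
    obtain ⟨y', rfl⟩ := QuotientGroup.mk'_surjective Tb y
    obtain ⟨a, rfl⟩ := QuotientGroup.mk'_surjective I y'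
    have hpos : orderOf a ≠ 0 := (orderOf_pos a).ne'
    obtain ⟨e, s, hs, hes⟩ := Nat.exists_eq_two_pow_mul_odd hpos
    refine ⟨e, ?_⟩
    have h1 : Odd (orderOf (a ^ (2 ^ e))) := by
      apply Odd.of_dvd_nat hs
      apply orderOf_dvd_of_pow_eq_one
      rw [← pow_mul, ← hes, pow_orderOf_eq_one]
    have h2 : a ^ (2 ^ e) ∈ T := Subgroup.subset_normalClosure h1
    have h3 : π (a ^ (2 ^ e)) ∈ Tb := Subgroup.mem_map_of_mem π h2
    rw [← map_pow, ← map_pow]
    exact (QuotientGroup.eq_one_iff _).mpr h3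
  haveI : Fact (Nat.Prime 2) := ⟨Nat.prime_two⟩
  haveI : Group.IsNilpotent ((A ⧸ I) ⧸ Tb) := hp.isNilpotent
  exact Group.isSolvable_of_ker_le_range Tb.subtype (QuotientGroup.mk' Tb)
    (by rw [QuotientGroup.ker_mk', Subgroup.range_subtype])

/-- the normalizer of a transitive cyclic subgroup is solvable (faithful action) -/
theorem pdo_normalizer_solvable {M Ω : Type*} [Group M] [MulAction M Ω] [FaithfulSMul M Ω]
    (x : M) (ω0 : Ω) (htr : ∀ b : Ω, ∃ i : ℤ, (x ^ i) • ω0 = b) :
    Group.IsSolvable ↥(Subgroup.normalizer ((Subgroup.zpowers x : Subgroup M) : Set M)) := by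
  classical
  set P : Subgroup M := Subgroup.zpowers x with hP
  set R : Subgroup M := Subgroup.normalizer ((P : Subgroup M) : Set M) with hR
  have hPR : P ≤ R := Subgroup.le_normalizer
  -- centralizer of x lies in P
  have hcent : ∀ c : M, c * x = x * c → c ∈ P := by
    intro c hc
    obtain ⟨i, hi⟩ := htr (c • ω0)
    have hcomm : ∀ j : ℤ, c * x ^ j = x ^ j * c := by
      intro j
      exact (Commute.zpow_right (show Commute c x from hc) j).eq
    have : c = x ^ i := by
      apply eq_of_smul_eq_smul (α := Ω)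
      intro ω
      obtain ⟨j, rfl⟩ := htr ω
      rw [← mul_smul, hcomm j, mul_smul, ← hi, ← mul_smul, ← mul_smul, ← zpow_add, ← zpow_add,
        add_comm]
    rw [this]
    exact Subgroup.zpow_mem_zpowers x i
  set PR : Subgroup ↥R := P.subgroupOf R with hPRdef
  haveI : PR.Normal := Subgroup.normal_in_normalizer
  let g : ↥R →* MulAut ↥PR := MulAut.conjNormal
  haveI hcyc : IsCyclic ↥PR := by
    have e : ↥PR ≃* ↥P := Subgroup.subgroupOfEquivOfLe hPR
    haveI : IsCyclic ↥P := by rw [hP]; infer_instance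
    exact isCyclic_of_surjective e.symm e.symm.surjective
  haveI : Group.IsSolvable (MulAut ↥PR) := by
    apply Group.isSolvable_of_isSolvable_injective (f := (IsCyclic.mulAutMulEquiv ↥PR).toMonoidHom)
    exact (IsCyclic.mulAutMulEquiv ↥PR).injective
  set C : Subgroup ↥R := P.subgroupOf R with hC
  haveI : Group.IsSolvable ↥C := by
    have e : ↥C ≃* ↥P := Subgroup.subgroupOfEquivOfLe hPR
    haveI : Group.IsSolvable ↥P := by
      apply Group.isSolvable_of_comm
      intro a b
      obtain ⟨a, ha⟩ := a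
      obtain ⟨b, hb⟩ := b
      rw [hP, Subgroup.mem_zpowers_iff] at ha hb
      obtain ⟨i, rfl⟩ := ha
      obtain ⟨j, rfl⟩ := hb
      apply Subtype.ext
      simp only [Subgroup.coe_mul]
      rw [← zpow_add, ← zpow_add, add_comm]
    exact Group.isSolvable_of_isSolvable_injective (f := e.toMonoidHom) e.injective
  apply Group.isSolvable_of_ker_le_range C.subtype g
  intro r hr
  rw [Subgroup.range_subtype]
  rw [MonoidHom.mem_ker] at hr
  -- r centralizes x
  have hxP : x ∈ P := Subgroup.mem_zpowers x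
  have hxR : x ∈ R := hPR hxP
  have hxPR : (⟨x, hxR⟩ : ↥R) ∈ PR := by
    rw [hPRdef, Subgroup.mem_subgroupOf]
    exact hxP
  have h1 : g r ⟨⟨x, hxR⟩, hxPR⟩ = ⟨⟨x, hxR⟩, hxPR⟩ := by rw [hr]; rfl
  have h2 : (r : M) * x * (r : M)⁻¹ = x := by
    have := congrArg (fun y : ↥PR => ((y : ↥R) : M)) h1
    simpa [g, MulAut.conjNormal_apply] using this
  have h3 : (r : M) * x = x * (r : M) := by
    calc (r : M) * x = ((r : M) * x * (r : M)⁻¹) * (r : M) := by group
      _ = x * (r : M) := by rw [h2]
  rw [hC, Subgroup.mem_subgroupOf]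
  exact hcent _ h3

end Cfsg.Agent.helper10
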