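import Mathlib
import Cfsg.Statements.S4275

set_option autoImplicit false
open Cfsg

namespace Cfsg.Agent.S4275

/-- Let G be a transitive group of permutations of a finite set Ω, let o ∈ Ω, and let α be an automorphism of G. Then α is induced by conjugation by a permutation of Ω normalizing G if and only if the image under α of the stabilizer of o fixes some point of Ω. -/
theorem result {Ω : Type*} [Fintype Ω] (G : Subgroup (Equiv.Perm Ω)) (htr : MulAction.IsPretransitive G Ω) (o : Ω) (α : G ≃* G) : (∃ σ : Equiv.Perm Ω, σ ∈ Subgroup.normalizer (G : Set (Equiv.Perm Ω)) ∧ ∀ g : G, ((α g : G) : Equiv.Perm Ω) = σ * (g : Equiv.Perm Ω) * σ⁻¹) ↔ ∃ ω : Ω, ∀ g ∈ (MulAction.stabilizer G o).map α.toMonoidHom, g • ω = ω := by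
  classical
  constructor
  · rintro ⟨σ, hσn, hσ⟩
    refine ⟨σ o, ?_⟩
    rintro _ ⟨g, hg, rfl⟩
    have hg' : (g : Equiv.Perm Ω) o = o := MulAction.mem_stabilizer_iff.mp hg
    change ((α g : G) : Equiv.Perm Ω) (σ o) = σ o
    rw [hσ g]
    simp [hg']
  · rintro ⟨ω, hω⟩
    have hstab : ∀ g : G, (g : Equiv.Perm Ω) o = o → ((α g : G) : Equiv.Perm Ω) ω = ω := by
      intro g hg
      exact hω (α g) ⟨g, MulAction.mem_stabilizer_iff.mpr hg, rfl⟩
    have hex : ∀ x : Ω, ∃ g : G, (g : Equiv.Perm Ω) o = x := fun x => by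
      obtain ⟨g, hg⟩ := MulAction.exists_smul_eq G o x
      exact ⟨g, hg⟩
    choose c hc using hex
    let f : Ω → Ω := fun x => ((α (c x) : G) : Equiv.Perm Ω) ω
    have hf : ∀ g : G, f ((g : Equiv.Perm Ω) o) = ((α g : G) : Equiv.Perm Ω) ω := by
      intro g
      have h1 : (((g⁻¹ * c ((g : Equiv.Perm Ω) o) : G)) : Equiv.Perm Ω) o = o := by
        rw [Subgroup.coe_mul, Equiv.Perm.mul_apply, hc, Subgroup.coe_inv,
          Equiv.Perm.inv_eq_iff_eq]
      have h2 := hstab _ h1
      rw [map_mul, Subgroup.coe_mul, Equiv.Perm.mul_apply, map_inv, Subgroup.coe_inv,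
        Equiv.Perm.inv_eq_iff_eq] at h2
      exact h2
    have hfsurj : Function.Surjective f := by
      intro y
      obtain ⟨k, hk⟩ := MulAction.exists_smul_eq G ω y
      refine ⟨((α.symm k : G) : Equiv.Perm Ω) o, ?_⟩
      rw [hf, MulEquiv.apply_symm_apply]
      exact hk
    have hfbij : Function.Bijective f := ⟨Finite.injective_iff_surjective.mpr hfsurj, hfsurj⟩
    let σ : Equiv.Perm Ω := Equiv.ofBijective f hfbij
    have hσg : ∀ g : G, ∀ x, σ ((g : Equiv.Perm Ω) x) = ((α g : G) : Equiv.Perm Ω) (σ x) := by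
      intro g x
      change f _ = _
      have hx := hc x
      conv_lhs => rw [← hx]
      have : (g : Equiv.Perm Ω) ((c x : Equiv.Perm Ω) o) = ((g * c x : G) : Equiv.Perm Ω) o := by
        rw [Subgroup.coe_mul, Equiv.Perm.mul_apply]
      rw [this, hf, map_mul, Subgroup.coe_mul, Equiv.Perm.mul_apply]
      rfl
    have hconj : ∀ g : G, ((α g : G) : Equiv.Perm Ω) = σ * (g : Equiv.Perm Ω) * σ⁻¹ := by
      intro g
      ext y
      simp only [Equiv.Perm.mul_apply]
      rw [hσg g (σ⁻¹ y)]
      simp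
    refine ⟨σ, ?_, hconj⟩
    rw [Subgroup.mem_normalizer_iff]
    intro g
    constructor
    · intro hg
      have := hconj ⟨g, hg⟩
      simp only at this
      rw [← this]
      exact (α ⟨g, hg⟩).2
    · intro hg
      have := hconj (α.symm ⟨_, hg⟩)
      rw [MulEquiv.apply_symm_apply] at this
      simp only at this
      have h3 : g = ((α.symm ⟨_, hg⟩ : G) : Equiv.Perm Ω) :=
        mul_left_cancel (mul_right_cancel this)
      rw [h3]
      exact (α.symm ⟨_, hg⟩).2

end Cfsg.Agent.S4275
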