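import Cfsg.Statements.S4276
import Mathlib
import Cfsg.Agent.S4275
import Cfsg.Agent.Lib_helper10_OddAut

set_option autoImplicit false
open Cfsg

namespace Cfsg.Agent.S4276

open Cfsg.Agent.helper10 in
/-- Let G be a doubly transitive group of permutations of a finite set Ω of size n, let o ∈ Ω, and let α be an automorphism of G of odd order. Suppose that the image under α of the stabilizer of o has an orbit on Ω whose length k is coprime to n. Then α is induced by conjugation by a permutation of Ω normalizing G, and k = 1 or k = n − 1. -/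
theorem result {Ω : Type*} [Fintype Ω] (G : Subgroup (Equiv.Perm Ω)) (h2 : MulAction.IsMultiplyPretransitive G Ω 2) (o : Ω) (α : MulAut G) (hα : Odd (orderOf α)) (ω : Ω) (hk : (Nat.card (MulAction.orbit ((MulAction.stabilizer G o).map α.toMonoidHom) ω)).Coprime (Fintype.card Ω)) : (∃ σ : Equiv.Perm Ω, σ ∈ Subgroup.normalizer (G : Set (Equiv.Perm Ω)) ∧ ∀ g : G, ((α g : G) : Equiv.Perm Ω) = σ * (g : Equiv.Perm Ω) * σ⁻¹) ∧ (Nat.card (MulAction.orbit ((MulAction.stabilizer G o).map α.toMonoidHom) ω) = 1 ∨ Nat.card (MulAction.orbit ((MulAction.stabilizer G o).map α.toMonoidHom) ω) = Fintype.card Ω - 1) := by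
  classical
  have hmain := oddaut_main G h2 o α hα ω hk
  refine ⟨?_, hmain⟩
  haveI := h2
  have htr : MulAction.IsPretransitive G Ω := MulAction.isPretransitive_of_is_two_pretransitive
  apply (Cfsg.Agent.S4275.result G htr o α).mpr
  set H' : Subgroup G := (MulAction.stabilizer G o).map α.toMonoidHom with hH'
  set Δ : Set Ω := MulAction.orbit H' ω with hΔ
  have hkcard : Nat.card Δ = (Finset.univ.filter (fun x => x ∈ Δ)).card := by
    rw [Nat.card_eq_fintype_card, Fintype.card_subtype]
  have hωΔ : ω ∈ Δ := MulAction.mem_orbit_self ω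
  have F1 : ∀ u : G, u ∈ H' → ∀ x, x ∈ Δ → u • x ∈ Δ := by
    intro u hu x hx
    obtain ⟨v, rfl⟩ := hx
    refine ⟨⟨u, hu⟩ * v, ?_⟩
    simp only [mul_smul]
    rfl
  rcases hmain with h1 | h1
  · -- orbit is {ω}
    refine ⟨ω, ?_⟩
    intro g hg
    have hmem : g • ω ∈ Δ := F1 g hg ω hωΔ
    rw [hkcard, Finset.card_eq_one] at h1
    obtain ⟨a, ha⟩ := h1
    have h2 : g • ω ∈ Finset.univ.filter (fun x => x ∈ Δ) := by simp [hmem]
    have h3 : ω ∈ Finset.univ.filter (fun x => x ∈ Δ) := by simp [hωΔ]
    rw [ha, Finset.mem_singleton] at h2 h3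
    rw [h2, h3]
  · -- complement of the orbit is a single point
    have hcompl : (Finset.univ.filter (fun x => x ∉ Δ)).card = 1 := by
      have hsum := Finset.card_filter_add_card_filter_not (s := (Finset.univ : Finset Ω))
        (fun x => x ∈ Δ)
      rw [Finset.card_univ, ← hkcard, h1] at hsum
      have hpos : 1 ≤ Nat.card Δ := by
        rw [hkcard]
        exact Finset.card_pos.mpr ⟨ω, by simp [hωΔ]⟩
      omega
    rw [Finset.card_eq_one] at hcompl
    obtain ⟨a, ha⟩ := hcompl
    have haΔ : a ∉ Δ := by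
      have : a ∈ Finset.univ.filter (fun x => x ∉ Δ) := by rw [ha]; simp
      simpa using this
    refine ⟨a, ?_⟩
    intro g hg
    have hnot : g • a ∉ Δ := by
      intro hcon
      have hginv : g⁻¹ ∈ H' := inv_mem hg
      have := F1 g⁻¹ hginv _ hcon
      rw [inv_smul_smul] at this
      exact haΔ this
    have : g • a ∈ Finset.univ.filter (fun x => x ∉ Δ) := by simp [hnot]
    rw [ha, Finset.mem_singleton] at this
    exact this

end Cfsg.Agent.S4276
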