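import Mathlib
import Cfsg.Prelude.Def_KGroupFacts
import Cfsg.Agent.S4276
import Cfsg.Agent.Lib_helper10_PrimeDegOut

set_option autoImplicit false

namespace Cfsg.Agent.helper10

/-- conjugation by the normalizer of `G` in the symmetric group, as automorphisms of `G` -/
noncomputable def pdoConj {Ω : Type*} (G : Subgroup (Equiv.Perm Ω)) :
    ↥(Subgroup.normalizer (G : Set (Equiv.Perm Ω))) →* MulAut ↥G where
  toFun n :=
    { toFun := fun g => ⟨(n : Equiv.Perm Ω) * g * (n : Equiv.Perm Ω)⁻¹,
        (Subgroup.mem_normalizer_iff.mp n.2 g).mp g.2⟩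
      invFun := fun g => ⟨(n : Equiv.Perm Ω)⁻¹ * g * (n : Equiv.Perm Ω), by
        have := (Subgroup.mem_normalizer_iff.mp (inv_mem n.2) g).mp g.2
        simpa using this⟩
      left_inv := by
        intro g
        apply Subtype.ext
        simp only
        group
      right_inv := by
        intro g
        apply Subtype.ext
        simp only
        group
      map_mul' := by
        intro g h
        apply Subtype.ext
        simp only [Subgroup.coe_mul]
        group }
  map_one' := by
    apply MulEquiv.ext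
    intro g
    apply Subtype.ext
    simp
  map_mul' := by
    intro a b
    apply MulEquiv.ext
    intro g
    apply Subtype.ext
    simp only [MulAut.mul_apply, MulEquiv.coe_mk, Equiv.coe_fn_mk, Subgroup.coe_mul]
    group

theorem pdoConj_apply {Ω : Type*} (G : Subgroup (Equiv.Perm Ω))
    (n : ↥(Subgroup.normalizer (G : Set (Equiv.Perm Ω)))) (g : ↥G) :
    ((pdoConj G n g : ↥G) : Equiv.Perm Ω) = (n : Equiv.Perm Ω) * g * (n : Equiv.Perm Ω)⁻¹ := rfl

end Cfsg.Agent.helper10

namespace Cfsg.Agent.helper10

/-- an element of prime order `p` in a group acting faithfully on `p` points is transitive -/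
theorem pdo_transitive_of_order {M Ω : Type*} [Group M] [Fintype Ω] [MulAction M Ω]
    [FaithfulSMul M Ω] (p : ℕ) (hp : p.Prime) (hΩ : Fintype.card Ω = p) (x : M)
    (hx : orderOf x = p) : ∃ ω0 : Ω, ∀ b : Ω, ∃ i : ℤ, (x ^ i) • ω0 = b := by
  classical
  have hx1 : x ≠ 1 := by
    intro h
    rw [h, orderOf_one] at hx
    exact hp.one_lt.ne hx
  have hmove : ∃ ω0 : Ω, x • ω0 ≠ ω0 := by
    by_contra hcon
    push_neg at hcon
    apply hx1
    apply eq_of_smul_eq_smul (α := Ω)
    intro a
    rw [hcon a, one_smul]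
  obtain ⟨ω0, hω0⟩ := hmove
  refine ⟨ω0, ?_⟩
  set P : Subgroup M := Subgroup.zpowers x with hP
  haveI : Finite ↥P := by
    rw [hP]
    exact Nat.finite_of_card_ne_zero (by rw [Nat.card_zpowers, hx]; exact hp.pos.ne')
  have hcardP : Nat.card P = p := by rw [hP, Nat.card_zpowers, hx]
  have hdvd : Nat.card (MulAction.orbit P ω0) ∣ p := by
    rw [← hcardP, Nat.card_coe_set_eq, ← MulAction.index_stabilizer]
    exact Subgroup.index_dvd_card _
  have hgt : 1 < Nat.card (MulAction.orbit P ω0) := by
    rw [Nat.card_eq_fintype_card, Fintype.one_lt_card_iff]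
    refine ⟨⟨ω0, MulAction.mem_orbit_self ω0⟩,
      ⟨x • ω0, ⟨⟨x, Subgroup.mem_zpowers x⟩, rfl⟩⟩, ?_⟩
    intro h
    exact hω0 (congrArg Subtype.val h).symm
  have hcard : Nat.card (MulAction.orbit P ω0) = p := by
    rcases (Nat.dvd_prime hp).mp hdvd with h | h
    · omega
    · exact h
  have huniv : MulAction.orbit P ω0 = Set.univ := by
    apply Set.eq_of_subset_of_ncard_le (Set.subset_univ _) _ Set.finite_univ
    rw [Set.ncard_univ, Nat.card_eq_fintype_card, hΩ, ← Nat.card_coe_set_eq, hcard]
  intro b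
  have hb : b ∈ MulAction.orbit P ω0 := by rw [huniv]; trivial
  obtain ⟨⟨y, hy⟩, hyb⟩ := hb
  rw [hP, Subgroup.mem_zpowers_iff] at hy
  obtain ⟨i, rfl⟩ := hy
  exact ⟨i, hyb⟩

end Cfsg.Agent.helper10

namespace Cfsg.Agent.helper10

/-- a 2-transitive group of prime degree has solvable outer automorphism group -/
theorem pdo_main {Ω : Type*} [Fintype Ω] (p : ℕ) (hp : p.Prime) (hΩ : Fintype.card Ω = p)
    (G : Subgroup (Equiv.Perm Ω)) (h2 : MulAction.IsMultiplyPretransitive G Ω 2) :
    Group.IsSolvable (Cfsg.Out ↥G) := by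
  classical
  haveI : Fact p.Prime := ⟨hp⟩
  haveI := h2
  have htr : MulAction.IsPretransitive G Ω := MulAction.isPretransitive_of_is_two_pretransitive
  haveI : Nonempty Ω := Fintype.card_pos_iff.mp (by rw [hΩ]; exact hp.pos)
  obtain ⟨o⟩ := ‹Nonempty Ω›
  -- cardinalities
  have hidx : (MulAction.stabilizer G o).index = p := by
    rw [MulAction.index_stabilizer_of_transitive, Nat.card_eq_fintype_card, hΩ]
  have hpG : p ∣ Nat.card G := hidx ▸ Subgroup.index_dvd_card _
  have hGfact : Nat.card G ∣ p.factorial := by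
    have h1 : Nat.card G ∣ Nat.card (Equiv.Perm Ω) := Subgroup.card_subgroup_dvd_card G
    rwa [Nat.card_eq_fintype_card (α := Equiv.Perm Ω), Fintype.card_perm, hΩ] at h1
  have hp2 : ¬ p ^ 2 ∣ Nat.card G := by
    intro h
    have h1 : p ^ 2 ∣ p.factorial := h.trans hGfact
    have h2' : p.factorial = p * (p - 1).factorial := (Nat.mul_factorial_pred hp.pos.ne').symm
    rw [h2', pow_two] at h1
    have h3 : p ∣ (p - 1).factorial := Nat.dvd_of_mul_dvd_mul_left hp.pos h1
    have h4 := (hp.dvd_factorial).mp h3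
    have := hp.pos
    omega
  have hpstab : ¬ p ∣ Nat.card (MulAction.stabilizer G o) := by
    intro h
    apply hp2
    rw [← Subgroup.index_mul_card (MulAction.stabilizer G o), hidx, pow_two]
    exact Nat.mul_dvd_mul_left p h
  -- the subgroup of induced automorphisms
  set N : Subgroup (Equiv.Perm Ω) := Subgroup.normalizer (G : Set (Equiv.Perm Ω)) with hN
  set c : ↥N →* MulAut ↥G := pdoConj G with hc
  set B : Subgroup (MulAut ↥G) := c.range with hB
  have hodd : ∀ a : MulAut ↥G, Odd (orderOf a) → a ∈ B := by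
    intro a ha
    set H' : Subgroup G := (MulAction.stabilizer G o).map a.toMonoidHom with hH'
    have hcardH' : Nat.card H' = Nat.card (MulAction.stabilizer G o) := by
      rw [hH']
      exact Subgroup.card_map_of_injective a.injective
    have hdvd : Nat.card (MulAction.orbit H' o) ∣ Nat.card H' := by
      rw [Nat.card_coe_set_eq, ← MulAction.index_stabilizer]
      exact Subgroup.index_dvd_card _
    have hcop : (Nat.card (MulAction.orbit H' o)).Coprime (Fintype.card Ω) := by
      rw [hΩ]
      apply Nat.Coprime.symm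
      rw [Nat.Prime.coprime_iff_not_dvd hp]
      intro h
      apply hpstab
      rw [← hcardH']
      exact h.trans hdvd
    obtain ⟨σ, hσN, hσ⟩ := (Cfsg.Agent.S4276.result G h2 o a ha o hcop).1
    refine ⟨⟨σ, hσN⟩, ?_⟩
    apply MulEquiv.ext
    intro g
    apply Subtype.ext
    rw [hc, pdoConj_apply]
    exact (hσ g).symm
  -- solvability of the image of B
  set π : MulAut ↥G →* Cfsg.Out ↥G := QuotientGroup.mk' (Cfsg.Inn ↥G) with hπ
  have hsol : Group.IsSolvable ↥(B.map π) := by
    set ψ : ↥N →* Cfsg.Out ↥G := π.comp c with hψ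
    have hBψ : B.map π = ψ.range := by
      rw [hψ, MonoidHom.range_comp]
    rw [hBψ]
    have hGN : G ≤ N := Subgroup.le_normalizer
    set GN : Subgroup ↥N := G.subgroupOf N with hGNdef
    haveI : GN.Normal := Subgroup.normal_in_normalizer
    have hkill : GN.map ψ = ⊥ := by
      rw [eq_bot_iff]
      rintro _ ⟨n, hn, rfl⟩
      rw [Subgroup.mem_bot]
      rw [hψ, MonoidHom.comp_apply, hπ, QuotientGroup.mk'_apply, QuotientGroup.eq_one_iff]
      refine ⟨⟨(n : Equiv.Perm Ω), Subgroup.mem_subgroupOf.mp hn⟩, ?_⟩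
      apply MulEquiv.ext
      intro g
      apply Subtype.ext
      rw [hc, pdoConj_apply]
      simp [MulAut.conj_apply]
    -- Sylow p-subgroup of GN
    have eGN : ↥GN ≃* ↥G := Subgroup.subgroupOfEquivOfLe hGN
    have hcardGN : Nat.card GN = Nat.card G := Nat.card_congr eGN.toEquiv
    let P0 : Sylow p ↥GN := default
    have hfac : (Nat.card GN).factorization p = 1 := by
      rw [hcardGN]
      have hne : Nat.card G ≠ 0 := Nat.card_pos.ne'
      have h1 : 1 ≤ (Nat.card G).factorization p :=
        (hp.pow_dvd_iff_le_factorization hne).mp (by simpa using hpG)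
      have h2' : ¬ 2 ≤ (Nat.card G).factorization p := fun h =>
        hp2 ((hp.pow_dvd_iff_le_factorization hne).mpr h)
      omega
    have hcardP0 : Nat.card P0 = p := by
      rw [Sylow.card_eq_multiplicity, hfac, pow_one]
    set P' : Subgroup ↥N := (P0 : Subgroup ↥GN).map GN.subtype with hP'
    have hcardP' : Nat.card P' = p := by
      rw [hP', Subgroup.card_map_of_injective GN.subtype_injective]
      exact hcardP0
    have hfrat : Subgroup.normalizer ((P' : Subgroup ↥N) : Set ↥N) ⊔ GN = ⊤ :=
      Sylow.normalizer_sup_eq_top P0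
    -- a generator of P'
    have hne1 : ∃ x' : ↥N, x' ∈ P' ∧ x' ≠ 1 := by
      by_contra hcon
      push_neg at hcon
      have : P' = ⊥ := by
        rw [eq_bot_iff]
        intro y hy
        rw [Subgroup.mem_bot]
        exact hcon y hy
      rw [this, Subgroup.card_bot] at hcardP'
      exact hp.one_lt.ne hcardP'
    obtain ⟨x', hx'P, hx'1⟩ := hne1
    have hordx' : orderOf x' = p := by
      have h1 : orderOf x' ∣ p := by
        rw [← hcardP']
        have := orderOf_dvd_natCard (⟨x', hx'P⟩ : ↥P')
        rwa [Subgroup.orderOf_mk] at this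
      rcases (Nat.dvd_prime hp).mp h1 with h | h
      · exact absurd (orderOf_eq_one_iff.mp h) hx'1
      · exact h
    have hPz : P' = Subgroup.zpowers x' := by
      symm
      apply Subgroup.eq_of_le_of_card_ge
      · rw [Subgroup.zpowers_le]; exact hx'P
      · rw [hcardP', Nat.card_zpowers, hordx']
    obtain ⟨ω0, hω0⟩ := pdo_transitive_of_order (M := ↥N) (Ω := Ω) p hp hΩ x' hordx'
    haveI hRsol : Group.IsSolvable ↥(Subgroup.normalizer ((P' : Subgroup ↥N) : Set ↥N)) := by
      rw [hPz]
      exact pdo_normalizer_solvable x' ω0 hω0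
    have hrange : ψ.range = (Subgroup.normalizer ((P' : Subgroup ↥N) : Set ↥N)).map ψ := by
      rw [MonoidHom.range_eq_map, ← hfrat, Subgroup.map_sup, hkill, sup_bot_eq]
    rw [hrange]
    exact Group.isSolvable_of_surjective
      (f := ψ.subgroupMap (Subgroup.normalizer ((P' : Subgroup ↥N) : Set ↥N)))
      (MonoidHom.subgroupMap_surjective _ _)
  exact pdo_solvable_of_odd (Cfsg.Inn ↥G) B hodd hsol

end Cfsg.Agent.helper10
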