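import Cfsg.Statements.S1980

set_option autoImplicit false
open Cfsg

namespace Cfsg.Agent.S1980

theorem comm_le_self_of_normal {P : Type*} [Group P] (A : Subgroup P) [A.Normal] (Q : Subgroup P) :
    ⁅A, Q⁆ ≤ A := Subgroup.commutator_le_left A Q

theorem inf_centralizer_eq {P : Type*} [Group P] (A : Subgroup P) (hA : IsMulCommutative ↥A) :
    A ⊓ Subgroup.centralizer (A : Set P) = A := by
  apply inf_eq_left.mpr
  intro x hx
  rw [Subgroup.mem_centralizer_iff]
  intro y hy
  have := hA.is_comm.comm (⟨y, hy⟩ : A) ⟨x, hx⟩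
  exact congrArg Subtype.val this

theorem mem_classTwo {P : Type*} [Group P] (A : Subgroup P) (hA : IsMulCommutative ↥A) :
    A ∈ Cfsg.classTwoSubgroups P := by
  show ⁅A, A⁆ ≤ Subgroup.centralizer (A : Set P)
  have h : ⁅A, A⁆ = ⊥ := by
    rw [Subgroup.commutator_eq_bot_iff_le_centralizer]
    have := inf_centralizer_eq A hA
    exact inf_eq_left.mp this
  rw [h]; exact bot_le

/-- Let P be a finite p-group and A an abelian normal subgroup of P. Then A belongs to every family used to build the K-sequence of P: the class-two family, every lower-star family relative to an odd-indexed term, and every upper-star family relative to an even-indexed term. In particular A lies in every term of the K-sequence. -/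
theorem result {P : Type*} [Group P] [Finite P] {p : ℕ} [Fact p.Prime] (hP : IsPGroup p P) (A : Subgroup P) [A.Normal] (hA : IsMulCommutative ↥A) : A ∈ Cfsg.classTwoSubgroups P ∧ ∀ n : ℕ, A ∈ Cfsg.kLowerStarFamily (Cfsg.kSeqOdd P n) ∧ A ∈ Cfsg.kUpperStarFamily (Cfsg.kSeqEven P n) := by
  refine ⟨mem_classTwo A hA, fun n => ⟨?_, ?_⟩⟩
  · refine ⟨mem_classTwo A hA, ?_, ?_⟩
    · rw [Subgroup.normalizer_eq_top]; exact le_top
    · intro A' _ _ _ _ _
      rw [inf_centralizer_eq A hA]
      exact comm_le_self_of_normal A A'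
  · refine ⟨mem_classTwo A hA, ?_⟩
    rw [inf_centralizer_eq A hA]
    exact comm_le_self_of_normal A _

end Cfsg.Agent.S1980
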