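import Cfsg.Statements.S1981
import Cfsg.Agent.S1980

set_option autoImplicit false
open Cfsg

namespace Cfsg.Agent.S1981

/-- Let P be a finite p-group generated by its abelian normal subgroups. Then both K-infinity subgroups of P equal P. -/
theorem result {P : Type*} [Group P] [Finite P] {p : ℕ} [Fact p.Prime] (hP : IsPGroup p P) (hgen : ⨆ A ∈ {A : Subgroup P | A.Normal ∧ IsMulCommutative ↥A}, A = ⊤) : Cfsg.kInfLower P = ⊤ ∧ Cfsg.kInfUpper P = ⊤ := by
  have hEven : ∀ n, Cfsg.kSeqEven P n = ⊤ := by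
    intro n
    rw [eq_top_iff, ← hgen]
    apply iSup₂_le
    intro A hA
    obtain ⟨hAn, hAc⟩ := hA
    haveI := hAn
    have := (Cfsg.Agent.S1980.result hP A hAc).2 n
    exact le_sSup this.1
  have hOdd : ∀ n, Cfsg.kSeqOdd P n = ⊤ := by
    intro n
    cases n with
    | zero => rfl
    | succ n =>
      rw [eq_top_iff, ← hgen]
      apply iSup₂_le
      intro A hA
      obtain ⟨hAn, hAc⟩ := hA
      haveI := hAn
      have := (Cfsg.Agent.S1980.result hP A hAc).2 n
      exact le_sSup this.2
  constructor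
  · rw [eq_top_iff]
    exact le_trans (le_of_eq (hEven 0).symm) (le_iSup (fun n => Cfsg.kSeqEven P n) 0)
  · unfold Cfsg.kInfUpper
    simp [hOdd]

end Cfsg.Agent.S1981
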