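import Cfsg.Statements.S2231
import Cfsg.Agent.Lib_helper12_Card

set_option autoImplicit false
open Cfsg

namespace Cfsg.Agent.S2231

/-- every `p`-subgroup is abelian -/
def AllPSubAbelian (p : ℕ) (G : Type*) [Group G] : Prop :=
  ∀ P : Subgroup G, IsPGroup p P → ∀ x ∈ P, ∀ y ∈ P, x * y = y * x

theorem allPSubAbelian_of_surjective {p : ℕ} [Fact p.Prime] {G H : Type*} [Group G] [Group H]
    [Finite G] (f : G →* H) (hf : Function.Surjective f) (hG : AllPSubAbelian p G) :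
    AllPSubAbelian p H := by
  intro P hP x hx y hy
  haveI : Finite H := Finite.of_surjective f hf
  let G' : Subgroup G := P.comap f
  let f' : G' →* P := f.subgroupComap P
  have hf' : Function.Surjective f' := f.subgroupComap_surjective_of_surjective P hf
  let Q : Sylow p G' := default
  have hidx : ((Q : Subgroup G').map f').index = 1 := by
    have h1 : ((Q : Subgroup G').map f').index ∣ (Q : Subgroup G').index :=
      Subgroup.index_map_dvd _ hf'
    obtain ⟨n, hn⟩ := hP.index ((Q : Subgroup G').map f')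
    have h2 : ¬ p ∣ (Q : Subgroup G').index := Q.not_dvd_index
    rw [hn] at h1 ⊢
    rcases Nat.eq_zero_or_pos n with rfl | hpos
    · simp
    · exact absurd (dvd_trans (dvd_pow_self p hpos.ne') h1) h2
  have htop : (Q : Subgroup G').map f' = ⊤ := Subgroup.index_eq_one.mp hidx
  have hx' : (⟨x, hx⟩ : P) ∈ (Q : Subgroup G').map f' := by rw [htop]; trivial
  have hy' : (⟨y, hy⟩ : P) ∈ (Q : Subgroup G').map f' := by rw [htop]; trivial
  obtain ⟨a, ha, hax⟩ := hx'
  obtain ⟨b, hb, hby⟩ := hy'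
  have hQ' : IsPGroup p ((Q : Subgroup G').map G'.subtype) := Q.isPGroup'.map _
  have hab := hG _ hQ' (a : G) ⟨a, ha, rfl⟩ (b : G) ⟨b, hb, rfl⟩
  have hxa : f a = x := congrArg Subtype.val hax
  have hyb : f b = y := congrArg Subtype.val hby
  rw [← hxa, ← hyb, ← map_mul, hab, map_mul]

theorem allPSubAbelian_subgroup {p : ℕ} {G : Type*} [Group G] (K : Subgroup G)
    (hG : AllPSubAbelian p G) : AllPSubAbelian p K := by
  intro P hP x hx y hy
  have := hG (P.map K.subtype) (hP.map _) x ⟨x, hx, rfl⟩ y ⟨y, hy, rfl⟩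
  exact Subtype.ext this

theorem allPSubAbelian_of_sylow {p : ℕ} [Fact p.Prime] {G : Type*} [Group G] [Finite G]
    (U : Subgroup G) (hcomm : ∀ x ∈ U, ∀ y ∈ U, x * y = y * x)
    (hU : IsPGroup p U) (hidx : ¬ p ∣ U.index) : AllPSubAbelian p G := by
  intro P hP x hx y hy
  obtain ⟨Q, hQ⟩ := hP.exists_le_sylow
  let U' : Sylow p G := hU.toSylow hidx
  obtain ⟨g, hg⟩ := MulAction.exists_smul_eq G U' Q
  have hmem : ∀ z ∈ P, ∃ u ∈ U, g * u * g⁻¹ = z := by
    intro z hz
    have hzQ : z ∈ (Q : Subgroup G) := hQ hz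
    rw [← hg, Sylow.coe_subgroup_smul, Subgroup.mem_smul_pointwise_iff_exists] at hzQ
    obtain ⟨s, hs, hsz⟩ := hzQ
    exact ⟨s, (IsPGroup.mem_toSylow hU hidx).mp hs, by simpa [MulAut.smul_def] using hsz⟩
  obtain ⟨u, hu, rfl⟩ := hmem x hx
  obtain ⟨v, hv, rfl⟩ := hmem y hy
  have := hcomm u hu v hv
  calc g * u * g⁻¹ * (g * v * g⁻¹) = g * (u * v) * g⁻¹ := by group
    _ = g * (v * u) * g⁻¹ := by rw [this]
    _ = g * v * g⁻¹ * (g * u * g⁻¹) := by group

theorem allPSubAbelian_of_involves {p : ℕ} [Fact p.Prime] {G H : Type*} [Group G] [Group H]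
    [Finite G] (hG : AllPSubAbelian p G) (h : Cfsg.Involves H G) : AllPSubAbelian p H := by
  obtain ⟨K, R, hN, ⟨e⟩⟩ := h
  have h1 := allPSubAbelian_subgroup K hG
  have h2 := allPSubAbelian_of_surjective (QuotientGroup.mk' (R.subgroupOf K))
    (QuotientGroup.mk'_surjective _) h1
  exact allPSubAbelian_of_surjective e.toMonoidHom e.surjective h2

/-! ### `SL₂(K)` -/

section SL2
variable {K : Type*} [Field K]

/-- the upper unitriangular matrix with entry `t` -/
def unipMat (t : K) : Matrix.SpecialLinearGroup (Fin 2) K :=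
  ⟨!![1, t; 0, 1], by simp [Matrix.det_fin_two_of]⟩

theorem coe_unipMat (t : K) :
    (unipMat t : Matrix (Fin 2) (Fin 2) K) = !![1, t; 0, 1] := rfl

/-- the upper unitriangular subgroup, as a homomorphism from the additive group of `K` -/
def unip : Multiplicative K →* Matrix.SpecialLinearGroup (Fin 2) K where
  toFun t := unipMat (Multiplicative.toAdd t)
  map_one' := by
    ext i j
    fin_cases i <;> fin_cases j <;> simp [coe_unipMat]
  map_mul' s t := by
    ext i j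
    fin_cases i <;> fin_cases j <;>
      simp [coe_unipMat, Matrix.SpecialLinearGroup.coe_mul, Matrix.mul_apply, Fin.sum_univ_two,
        add_comm]

theorem unip_injective : Function.Injective (unip (K := K)) := by
  intro s t h
  have := congrArg (fun M : Matrix.SpecialLinearGroup (Fin 2) K =>
    (M : Matrix (Fin 2) (Fin 2) K) 0 1) h
  simpa [unip, coe_unipMat] using this

theorem sl2_allPSubAbelian {p : ℕ} [Fact p.Prime] [Fintype K] [CharP K p] :
    AllPSubAbelian p (Matrix.SpecialLinearGroup (Fin 2) K) := by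
  have hp : p.Prime := Fact.out
  obtain ⟨n, _, hq⟩ := FiniteField.card K p
  have hcardU : Nat.card (unip (K := K)).range = Fintype.card K := by
    rw [← Nat.card_eq_fintype_card (α := K)]
    exact (Nat.card_congr (MonoidHom.ofInjective unip_injective).toEquiv).symm.trans
      (Nat.card_congr Multiplicative.toAdd)
  apply allPSubAbelian_of_sylow (unip (K := K)).range
  · rintro _ ⟨s, rfl⟩ _ ⟨t, rfl⟩
    rw [← map_mul, ← map_mul, mul_comm]
  · apply IsPGroup.of_card (n := (n : ℕ))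
    rw [hcardU, hq]
  · intro hdvd
    have h1 := Subgroup.card_mul_index (unip (K := K)).range
    rw [hcardU, Cfsg.Agent.helper12.card_SL2] at h1
    have hqpos : 0 < Fintype.card K := Fintype.card_pos
    have h2 : (unip (K := K)).range.index = Fintype.card K ^ 2 - 1 :=
      Nat.eq_of_mul_eq_mul_left hqpos h1
    rw [h2] at hdvd
    have h3 : p ∣ Fintype.card K ^ 2 := by
      rw [hq]
      exact dvd_pow (dvd_pow_self p n.ne_zero) (by norm_num)
    have h4 : 1 ≤ Fintype.card K ^ 2 := Nat.one_le_pow _ _ hqpos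
    have h5 : p ∣ 1 := by
      have := (Nat.dvd_sub (m := Fintype.card K ^ 2) (n := Fintype.card K ^ 2 - 1)) h3 hdvd
      rwa [Nat.sub_sub_self h4] at this
    exact hp.one_lt.ne' (Nat.dvd_one.mp h5)

end SL2

/-! ### `Qd(p)` -/

section Qd
variable {p : ℕ} [Fact p.Prime]

/-- upper unitriangular matrices in `SL₃(ZMod p)` -/
def T₀ (p : ℕ) : Subgroup (Matrix.SpecialLinearGroup (Fin 3) (ZMod p)) where
  carrier := {M | (M : Matrix (Fin 3) (Fin 3) (ZMod p)) 1 0 = 0 ∧
    (M : Matrix (Fin 3) (Fin 3) (ZMod p)) 2 0 = 0 ∧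
    (M : Matrix (Fin 3) (Fin 3) (ZMod p)) 2 1 = 0 ∧
    (M : Matrix (Fin 3) (Fin 3) (ZMod p)) 0 0 = 1 ∧
    (M : Matrix (Fin 3) (Fin 3) (ZMod p)) 1 1 = 1 ∧
    (M : Matrix (Fin 3) (Fin 3) (ZMod p)) 2 2 = 1}
  mul_mem' := by
    rintro a b ⟨h1, h2, h3, h4, h5, h6⟩ ⟨k1, k2, k3, k4, k5, k6⟩
    simp only [Set.mem_setOf_eq, Matrix.SpecialLinearGroup.coe_mul, Matrix.mul_apply,
      Fin.sum_univ_three]
    simp [h1, h2, h3, h4, h5, h6, k1, k2, k3, k4, k5, k6]
  one_mem' := by simp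
  inv_mem' := by
    rintro a ⟨h1, h2, h3, h4, h5, h6⟩
    simp only [Set.mem_setOf_eq, Matrix.SpecialLinearGroup.coe_inv, Matrix.adjugate_fin_three]
    simp [h1, h2, h3, h4, h5, h6]

theorem T₀_le_qd : T₀ p ≤ Cfsg.qd p := by
  intro M hM
  obtain ⟨h1, h2, h3, h4, h5, h6⟩ := hM
  exact Subgroup.subset_closure ⟨h2, h3, h6⟩

theorem T₀_pow (hp2 : p ≠ 2) (u : Matrix.SpecialLinearGroup (Fin 3) (ZMod p)) (hu : u ∈ T₀ p) :
    u ^ p = 1 := by
  obtain ⟨h1, h2, h3, h4, h5, h6⟩ := hu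
  have hp : p.Prime := Fact.out
  have hp3 : 3 ≤ p := by
    have := hp.two_le
    omega
  set A : Matrix (Fin 3) (Fin 3) (ZMod p) := (u : Matrix (Fin 3) (Fin 3) (ZMod p)) with hA
  set N : Matrix (Fin 3) (Fin 3) (ZMod p) := A - 1 with hN
  have hN3 : N ^ 3 = 0 := by
    rw [pow_succ, pow_two]
    ext i j
    fin_cases i <;> fin_cases j <;>
      simp [N, Matrix.mul_apply, Fin.sum_univ_three, h1, h2, h3, h4, h5, h6]
  have hNp : N ^ p = 0 := by
    have : N ^ p = N ^ 3 * N ^ (p - 3) := by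
      rw [← pow_add]
      congr 1
      omega
    rw [this, hN3, zero_mul]
  have hAN : A = 1 + N := by simp [N]
  apply Subtype.ext
  rw [Matrix.SpecialLinearGroup.coe_pow, Matrix.SpecialLinearGroup.coe_one, ← hA, hAN,
    add_pow_char_of_commute p (Commute.one_left N), one_pow, hNp, add_zero]

/-- two non-commuting unitriangular matrices -/
def xMat (p : ℕ) : Matrix.SpecialLinearGroup (Fin 3) (ZMod p) :=
  ⟨!![1, 1, 0; 0, 1, 0; 0, 0, 1], by simp [Matrix.det_fin_three]⟩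

def yMat (p : ℕ) : Matrix.SpecialLinearGroup (Fin 3) (ZMod p) :=
  ⟨!![1, 0, 0; 0, 1, 1; 0, 0, 1], by simp [Matrix.det_fin_three]⟩

theorem coe_xMat (p : ℕ) :
    (xMat p : Matrix (Fin 3) (Fin 3) (ZMod p)) = !![1, 1, 0; 0, 1, 0; 0, 0, 1] := rfl

theorem coe_yMat (p : ℕ) :
    (yMat p : Matrix (Fin 3) (Fin 3) (ZMod p)) = !![1, 0, 0; 0, 1, 1; 0, 0, 1] := rfl

theorem xMat_mem : xMat p ∈ T₀ p := by
  refine ⟨?_, ?_, ?_, ?_, ?_, ?_⟩ <;> simp [coe_xMat]

theorem yMat_mem : yMat p ∈ T₀ p := by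
  refine ⟨?_, ?_, ?_, ?_, ?_, ?_⟩ <;> simp [coe_yMat]

theorem xy_ne : xMat p * yMat p ≠ yMat p * xMat p := by
  intro h
  have := congrArg (fun M : Matrix.SpecialLinearGroup (Fin 3) (ZMod p) =>
    (M : Matrix (Fin 3) (Fin 3) (ZMod p)) 0 2) h
  simp [coe_xMat, coe_yMat, Matrix.SpecialLinearGroup.coe_mul, Matrix.mul_apply, Fin.sum_univ_three] at this

theorem qd_not_allPSubAbelian (hp2 : p ≠ 2) : ¬ AllPSubAbelian p (Cfsg.qd p) := by
  intro h
  have hP : IsPGroup p ((T₀ p).subgroupOf (Cfsg.qd p)) := by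
    rintro ⟨⟨g, hg⟩, hgT⟩
    refine ⟨1, ?_⟩
    rw [pow_one]
    apply Subtype.ext
    apply Subtype.ext
    exact T₀_pow hp2 g hgT
  have := h ((T₀ p).subgroupOf (Cfsg.qd p)) hP
    ⟨xMat p, T₀_le_qd xMat_mem⟩ (Subgroup.mem_subgroupOf.mpr xMat_mem)
    ⟨yMat p, T₀_le_qd yMat_mem⟩ (Subgroup.mem_subgroupOf.mpr yMat_mem)
  exact xy_ne (congrArg Subtype.val this)

end Qd

theorem result {p : ℕ} [Fact p.Prime] (hp : p ≠ 2) {K : Type*} [Field K] [Fintype K] [CharP K p] : ¬ Cfsg.Involves ↥(Cfsg.qd p) (Matrix.ProjectiveSpecialLinearGroup (Fin 2) K) := by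
  intro h
  have h1 : AllPSubAbelian p (Matrix.SpecialLinearGroup (Fin 2) K) := sl2_allPSubAbelian
  have h2 : AllPSubAbelian p (Matrix.ProjectiveSpecialLinearGroup (Fin 2) K) :=
    allPSubAbelian_of_surjective
      (QuotientGroup.mk' (Subgroup.center (Matrix.SpecialLinearGroup (Fin 2) K)))
      (QuotientGroup.mk'_surjective _) h1
  exact qd_not_allPSubAbelian hp (allPSubAbelian_of_involves h2 h)

end Cfsg.Agent.S2231
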