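import Cfsg.Statements.S3074
import Cfsg.Agent.S2231
import Cfsg.Agent.Lib_helper1_ElemAb
import Cfsg.Agent.Lib_helper1_PGroup

set_option autoImplicit false
open Cfsg

namespace Cfsg.Agent.S3074

open scoped commutatorElement

/-- A nonabelian group of order `p³` all of whose elements have order dividing `p` is
extraspecial of exponent `p`. -/
theorem es_of_card_cube {P : Type*} [Group P] [Finite P] {p : ℕ} [hp : Fact p.Prime]
    (hcard : Nat.card P = p ^ 3) (hpow : ∀ x : P, x ^ p = 1) (hnc : ∃ a b : P, a * b ≠ b * a) :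
    Cfsg.IsExtraspecial p P ∧ Monoid.exponent P = p := by
  classical
  have hpp : p.Prime := hp.out
  have hPp : IsPGroup p P := (IsPGroup.iff_card).2 ⟨3, hcard⟩
  obtain ⟨a₀, b₀, hab⟩ := hnc
  haveI : Nontrivial P := ⟨⟨a₀ * b₀, b₀ * a₀, hab⟩⟩
  set Z := Subgroup.center P with hZ
  -- the order of the centre
  have hZdvd : Nat.card ↥Z ∣ p ^ 3 := hcard ▸ Subgroup.card_subgroup_dvd_card Z
  obtain ⟨m, hm3, hm⟩ := (Nat.dvd_prime_pow hpp).1 hZdvd
  have hidx : Nat.card (P ⧸ Z) * p ^ m = p ^ 3 := by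
    rw [← hm, ← hcard, ← Subgroup.index_eq_card, mul_comm, Subgroup.card_mul_index]
  have hm1 : m = 1 := by
    have hm0 : m ≠ 0 := by
      intro h0
      rw [h0, pow_zero] at hm
      haveI := hPp.center_nontrivial
      have : 1 < Nat.card ↥Z := Finite.one_lt_card
      omega
    have hm3' : m ≠ 3 := by
      intro h3
      have htop : Z = ⊤ := by
        apply Subgroup.eq_top_of_card_eq
        rw [hm, h3, hcard]
      apply hab
      have hb : b₀ ∈ Z := htop ▸ Subgroup.mem_top b₀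
      exact (Subgroup.mem_center_iff.1 hb a₀).symm ▸ rfl
    have hm2 : m ≠ 2 := by
      intro h2
      rw [h2] at hidx
      have hq : Nat.card (P ⧸ Z) = p := by
        have h3 : p ^ 3 = p * p ^ 2 := by ring
        rw [h3] at hidx
        exact Nat.eq_of_mul_eq_mul_right (pow_pos hpp.pos 2) hidx
      haveI : IsCyclic (P ⧸ Z) := isCyclic_of_prime_card hq
      apply hab
      exact commutative_of_cyclic_center_quotient (QuotientGroup.mk' Z)
        (by rw [QuotientGroup.ker_mk']) a₀ b₀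
    omega
  rw [hm1, pow_one] at hm hidx
  have hq : Nat.card (P ⧸ Z) = p ^ 2 := by
    have h3 : p ^ 3 = p ^ 2 * p := by ring
    rw [h3] at hidx
    exact Nat.eq_of_mul_eq_mul_right hpp.pos hidx
  -- derived subgroup inside the centre
  have hcommZ : commutator P ≤ Z := by
    rw [commutator_eq_closure, Subgroup.closure_le]
    rintro _ ⟨a, b, rfl⟩
    have h1 := IsPGroup.commutative_of_card_eq_prime_sq hq (QuotientGroup.mk' Z a)
      (QuotientGroup.mk' Z b)
    have h2 : QuotientGroup.mk' Z ⁅a, b⁆ = 1 := by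
      rw [map_commutatorElement, commutatorElement_eq_one_iff_mul_comm]
      exact h1
    exact (QuotientGroup.eq_one_iff _).1 h2
  have hcomm_ne : commutator P ≠ ⊥ := by
    intro hbot
    apply hab
    have h1 : ⁅a₀, b₀⁆ ∈ commutator P := by
      rw [commutator_def]
      exact Subgroup.commutator_mem_commutator (Subgroup.mem_top _) (Subgroup.mem_top _)
    rw [hbot, Subgroup.mem_bot, commutatorElement_eq_one_iff_mul_comm] at h1
    exact h1
  have hcommeq : commutator P = Z := by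
    apply Subgroup.eq_of_le_of_card_ge hcommZ
    rw [hm]
    have hd : Nat.card ↥(commutator P) ∣ p := hm ▸ Subgroup.card_dvd_of_le hcommZ
    rcases (Nat.dvd_prime hpp).1 hd with h1 | h1
    · exact absurd (Subgroup.eq_bot_of_card_eq _ h1) hcomm_ne
    · exact h1.ge
  have hfrat : frattini P = Z := by
    apply le_antisymm
    · exact Cfsg.Agent.helper1.frattini_le_of_elemAb_quot (p := p) Z hcommZ
        (fun x => by rw [hpow x]; exact Subgroup.one_mem _)
    · rw [← hcommeq]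
      exact Cfsg.Agent.helper1.commutator_le_frattini_of_isPGroup hPp
  refine ⟨⟨⟨hPp, hfrat, hcommeq⟩, hm⟩, ?_⟩
  have hd : Monoid.exponent P ∣ p := Monoid.exponent_dvd_of_forall_pow_eq_one hpow
  rcases (Nat.dvd_prime hpp).1 hd with h1 | h1
  · exfalso
    have := Monoid.exp_eq_one_iff.1 h1
    exact not_subsingleton P this
  · exact h1

open Cfsg.Agent.S2231 in
/-- The unitriangular matrix with the given entries. -/
def uMat (p : ℕ) (a b c : ZMod p) : Matrix.SpecialLinearGroup (Fin 3) (ZMod p) :=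
  ⟨!![1, a, c; 0, 1, b; 0, 0, 1], by simp [Matrix.det_fin_three]⟩

theorem coe_uMat (p : ℕ) (a b c : ZMod p) :
    (uMat p a b c : Matrix (Fin 3) (Fin 3) (ZMod p)) = !![1, a, c; 0, 1, b; 0, 0, 1] := rfl

theorem uMat_mem (p : ℕ) (a b c : ZMod p) : uMat p a b c ∈ Cfsg.Agent.S2231.T₀ p := by
  refine ⟨?_, ?_, ?_, ?_, ?_, ?_⟩ <;> simp [coe_uMat]

theorem card_T₀ (p : ℕ) [Fact p.Prime] : Nat.card ↥(Cfsg.Agent.S2231.T₀ p) = p ^ 3 := by
  have e : ↥(Cfsg.Agent.S2231.T₀ p) ≃ ZMod p × ZMod p × ZMod p :=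
    { toFun := fun M => ((M.1 : Matrix (Fin 3) (Fin 3) (ZMod p)) 0 1,
        (M.1 : Matrix (Fin 3) (Fin 3) (ZMod p)) 1 2, (M.1 : Matrix (Fin 3) (Fin 3) (ZMod p)) 0 2)
      invFun := fun t => ⟨uMat p t.1 t.2.1 t.2.2, uMat_mem p _ _ _⟩
      left_inv := by
        rintro ⟨M, h1, h2, h3, h4, h5, h6⟩
        apply Subtype.ext
        apply Subtype.ext
        ext i j
        fin_cases i <;> fin_cases j <;> simp [coe_uMat, h1, h2, h3, h4, h5, h6]
      right_inv := by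
        rintro ⟨a, b, c⟩
        simp [coe_uMat] }
  rw [Nat.card_congr e, Nat.card_prod, Nat.card_prod, Nat.card_zmod]
  ring

theorem not_dvd_pow_sub_one {p : ℕ} (hp : p.Prime) (k : ℕ) (hk : 0 < k) : ¬ p ∣ p ^ k - 1 := by
  intro h
  have h1 : p ∣ p ^ k := dvd_pow_self p hk.ne'
  have h2 : 1 ≤ p ^ k := Nat.one_le_pow _ _ hp.pos
  have h3 : p ∣ p ^ k - (p ^ k - 1) := Nat.dvd_sub h1 h
  rw [Nat.sub_sub_self h2] at h3
  exact hp.one_lt.ne' (Nat.dvd_one.1 h3)

theorem not_pow_four_dvd_card_SL3 (p : ℕ) [hp : Fact p.Prime] :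
    ¬ p ^ 4 ∣ Nat.card (Matrix.SpecialLinearGroup (Fin 3) (ZMod p)) := by
  have hpp : p.Prime := hp.out
  intro h
  have h1 := Cfsg.Agent.helper12.card_GL_eq_card_SL_mul (F := ZMod p) 3 (by norm_num)
  have h2 : Nat.card (Matrix.GeneralLinearGroup (Fin 3) (ZMod p)) =
      (p ^ 3 - 1) * (p ^ 3 - p) * (p ^ 3 - p ^ 2) := by
    rw [Matrix.card_GL_field, Fin.prod_univ_three]
    simp [ZMod.card]
  have e1 : p ^ 3 - p = p * (p ^ 2 - 1) := by
    rw [Nat.mul_sub, mul_one]; congr 1; ring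
  have e2 : p ^ 3 - p ^ 2 = p ^ 2 * (p - 1) := by
    rw [Nat.mul_sub, mul_one, ← pow_succ]
  have h3 : p ^ 4 ∣ p ^ 3 * ((p ^ 3 - 1) * (p ^ 2 - 1) * (p - 1)) := by
    have : p ^ 3 * ((p ^ 3 - 1) * (p ^ 2 - 1) * (p - 1)) =
        (p ^ 3 - 1) * (p ^ 3 - p) * (p ^ 3 - p ^ 2) := by
      rw [e1, e2]; ring
    rw [this, ← h2, h1]
    exact Dvd.dvd.mul_right h _
  have h4 : p ∣ (p ^ 3 - 1) * (p ^ 2 - 1) * (p - 1) := by
    have : p ^ 4 = p ^ 3 * p := by ring
    rw [this] at h3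
    exact (Nat.mul_dvd_mul_iff_left (pow_pos hpp.pos 3)).1 h3
  rcases (Nat.Prime.dvd_mul hpp).1 h4 with h5 | h5
  · rcases (Nat.Prime.dvd_mul hpp).1 h5 with h6 | h6
    · exact not_dvd_pow_sub_one hpp 3 (by norm_num) h6
    · exact not_dvd_pow_sub_one hpp 2 (by norm_num) h6
  · have := not_dvd_pow_sub_one hpp 1 (by norm_num)
    rw [pow_one] at this
    exact this h5


/-- Let p be an odd prime. A Sylow p-subgroup of Qd(p), the split extension of an elementary abelian group of order p² by SL₂(p) acting naturally, is extraspecial of order p³ and exponent p. -/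
theorem result (p : ℕ) [Fact p.Prime] (hp : p ≠ 2) (P : Sylow p ↥(Cfsg.qd p)) :
    Cfsg.IsExtraspecial p ↥P ∧ Nat.card P = p ^ 3 ∧ Monoid.exponent ↥P = p := by
  classical
  have hpp : p.Prime := Fact.out
  haveI : Finite ↥(Cfsg.qd p) := inferInstance
  set T' : Subgroup ↥(Cfsg.qd p) := (Cfsg.Agent.S2231.T₀ p).subgroupOf (Cfsg.qd p) with hT'
  -- `T'` is isomorphic to `T₀`
  let eT : ↥T' ≃* ↥(Cfsg.Agent.S2231.T₀ p) :=
    Subgroup.subgroupOfEquivOfLe Cfsg.Agent.S2231.T₀_le_qd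
  have hT'card : Nat.card ↥T' = p ^ 3 := by
    rw [Nat.card_congr eT.toEquiv, card_T₀]
  have hT'p : IsPGroup p ↥T' := (IsPGroup.iff_card).2 ⟨3, hT'card⟩
  obtain ⟨Q, hQ⟩ := hT'p.exists_le_sylow
  -- the order of a Sylow subgroup
  have hQcard : Nat.card ↥(Q : Subgroup ↥(Cfsg.qd p)) = p ^ 3 := by
    obtain ⟨k, hk⟩ := (IsPGroup.iff_card).1 Q.isPGroup'
    have h1 : p ^ 3 ∣ p ^ k := by
      rw [← hk, ← hT'card]
      exact Subgroup.card_dvd_of_le hQ
    have h2 : 3 ≤ k := (Nat.pow_dvd_pow_iff_le_right hpp.one_lt).1 h1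
    have h3 : p ^ k ∣ Nat.card (Matrix.SpecialLinearGroup (Fin 3) (ZMod p)) := by
      rw [← hk]
      exact (Subgroup.card_subgroup_dvd_card _).trans (Subgroup.card_subgroup_dvd_card _)
    have h4 : k ≤ 3 := by
      by_contra hcon
      push Not at hcon
      exact not_pow_four_dvd_card_SL3 p ((pow_dvd_pow p hcon).trans h3)
    have : k = 3 := le_antisymm h4 h2
    rw [hk, this]
  have hTQ : T' = (Q : Subgroup ↥(Cfsg.qd p)) :=
    Subgroup.eq_of_le_of_card_ge hQ (by rw [hQcard, hT'card])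
  let e1 : ↥(P : Subgroup ↥(Cfsg.qd p)) ≃* ↥(Q : Subgroup ↥(Cfsg.qd p)) := Sylow.equiv P Q
  let e2 : ↥(Q : Subgroup ↥(Cfsg.qd p)) ≃* ↥T' := MulEquiv.subgroupCongr hTQ.symm
  let e : ↥(P : Subgroup ↥(Cfsg.qd p)) ≃* ↥(Cfsg.Agent.S2231.T₀ p) := (e1.trans e2).trans eT
  have hPcard : Nat.card ↥(P : Subgroup ↥(Cfsg.qd p)) = p ^ 3 := by
    rw [Nat.card_congr e.toEquiv, card_T₀]
  have hpow : ∀ x : ↥(P : Subgroup ↥(Cfsg.qd p)), x ^ p = 1 := by
    intro x
    apply e.injective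
    rw [map_pow, map_one]
    apply Subtype.ext
    exact Cfsg.Agent.S2231.T₀_pow hp _ (e x).2
  have hnc : ∃ a b : ↥(P : Subgroup ↥(Cfsg.qd p)), a * b ≠ b * a := by
    refine ⟨e.symm ⟨_, Cfsg.Agent.S2231.xMat_mem⟩, e.symm ⟨_, Cfsg.Agent.S2231.yMat_mem⟩, ?_⟩
    intro h
    rw [← map_mul, ← map_mul] at h
    have h2 := e.symm.injective h
    exact Cfsg.Agent.S2231.xy_ne (congrArg Subtype.val h2)
  obtain ⟨hE, hexp⟩ := es_of_card_cube hPcard hpow hnc
  exact ⟨hE, hPcard, hexp⟩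

end Cfsg.Agent.S3074
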