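import Mathlib
import Cfsg.Agent.S2762
import Cfsg.Agent.S3074
import Cfsg.Agent.S1981
import Cfsg.Agent.Lib_helper19_Pairing
import Cfsg.Agent.Lib_helper10_Sylow
import Cfsg.Agent.Lib_helper1_Core

/-!
In any group isomorphic to `Qd(p)` (`p` odd), the lower K-infinity subgroup of a Sylow
`p`-subgroup does not control strong fusion.
-/

set_option autoImplicit false

namespace Cfsg.Agent.helper10

open Cfsg Matrix
open Cfsg.Agent.S2762
open Cfsg.Agent.helper11.SL2U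
open scoped commutatorElement

universe u

section qdnc

variable {p : ℕ} [hp : Fact p.Prime]

theorem conj_emb_tr {F : Type*} [Field F] (A : SpecialLinearGroup (Fin 2) F) (w : Fin 2 → F) :
    emb A * tr w * (emb A)⁻¹ = tr ((A : Matrix (Fin 2) (Fin 2) F) *ᵥ w) := by
  have h : emb A * tr w = tr ((A : Matrix (Fin 2) (Fin 2) F) *ᵥ w) * emb A := by
    apply mat_injective
    rw [mat_mul, mat_mul, mat_emb, mat_tr, mat_tr]
    ext i j
    fin_cases i <;> fin_cases j <;>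
      simp [Matrix.mul_apply, Fin.sum_univ_three, Matrix.mulVec, dotProduct, Fin.sum_univ_two]
  rw [h]; group

theorem exists_sl2_mulVec_eq {F : Type*} [Field F] (w : Fin 2 → F) (hw : w ≠ 0) :
    ∃ B : SpecialLinearGroup (Fin 2) F, (B : Matrix (Fin 2) (Fin 2) F) *ᵥ ![1, 0] = w := by
  by_cases h0 : w 0 = 0
  · have h1 : w 1 ≠ 0 := by
      intro h1; apply hw; ext i; fin_cases i <;> simp [h0, h1]
    refine ⟨⟨!![0, -(w 1)⁻¹; w 1, 0], by rw [Matrix.det_fin_two_of]; field_simp; ring⟩, ?_⟩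
    ext i; fin_cases i <;> simp [Matrix.mulVec, dotProduct, Fin.sum_univ_two, h0]
  · refine ⟨⟨!![w 0, 0; w 1, (w 0)⁻¹], by rw [Matrix.det_fin_two_of]; field_simp; ring⟩, ?_⟩
    ext i; fin_cases i <;> simp [Matrix.mulVec, dotProduct, Fin.sum_univ_two]

theorem tr_injective {F : Type*} [Field F] : Function.Injective (tr (F := F)) := by
  intro v w h
  have h2 := congrArg mat h
  rw [mat_tr, mat_tr] at h2
  ext i
  fin_cases i
  · simpa using congrFun (congrFun h2 0) 2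
  · simpa using congrFun (congrFun h2 1) 2

theorem tr_mem_ker {F : Type*} [Field F] (w : Fin 2 → F) : tr w ∈ (blkHom (F := F)).ker :=
  MonoidHom.mem_ker.mpr (blkHom_tr w)

/-- Any two nontrivial translations are conjugate in the affine group. -/
theorem exists_conj_tr {F : Type*} [Field F] (w₀ w : Fin 2 → F) (hw₀ : w₀ ≠ 0) (hw : w ≠ 0) :
    ∃ g : ↥(Cfsg.qdOver F), g * tr w₀ * g⁻¹ = tr w := by
  obtain ⟨B₀, hB₀⟩ := exists_sl2_mulVec_eq w₀ hw₀
  obtain ⟨B, hB⟩ := exists_sl2_mulVec_eq w hw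
  refine ⟨emb B * (emb B₀)⁻¹, ?_⟩
  have h1 := conj_emb_tr B₀ ![1, 0]
  have h2 := conj_emb_tr B ![1, 0]
  rw [hB₀] at h1
  rw [hB] at h2
  rw [← h1, ← h2]
  group

/-- In `Qd` over the prime field, the normalizer of a Sylow `p`-subgroup does not control strong
fusion in it. -/
theorem qd_not_control (T : Sylow p ↥(Cfsg.qdOver (ZMod p))) :
    ¬ ∀ A : Set ↥(Cfsg.qdOver (ZMod p)), A ⊆ ((T : Subgroup ↥(Cfsg.qdOver (ZMod p))) : Set _) →
      Cfsg.ControlsStrongFusionOf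
        (Subgroup.normalizer ((T : Subgroup ↥(Cfsg.qdOver (ZMod p))) : Set _))
        (T : Subgroup ↥(Cfsg.qdOver (ZMod p))) A := by
  intro hctl
  have hVker := pCore_eq_ker (F := ZMod p) (p := p)
  have hVT : (blkHom (F := ZMod p)).ker ≤ (T : Subgroup ↥(Cfsg.qdOver (ZMod p))) := by
    rw [← hVker]; exact Cfsg.Agent.helper1.pCore_le_sylow T
  have hNn : ((blkHom (F := ZMod p)).ker.subgroupOf
      (T : Subgroup ↥(Cfsg.qdOver (ZMod p)))).Normal := Subgroup.normal_subgroupOf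
  have h10 : (![1, 0] : Fin 2 → ZMod p) ≠ 0 := by
    intro h
    have := congrFun h 0
    simp at this
  have hN0 : (blkHom (F := ZMod p)).ker.subgroupOf (T : Subgroup ↥(Cfsg.qdOver (ZMod p))) ≠ ⊥ := by
    intro h
    have hmem : (⟨tr ![1, 0], hVT (tr_mem_ker _)⟩ : ↥(T : Subgroup ↥(Cfsg.qdOver (ZMod p)))) ∈
        (blkHom (F := ZMod p)).ker.subgroupOf (T : Subgroup ↥(Cfsg.qdOver (ZMod p))) :=
      Subgroup.mem_subgroupOf.mpr (tr_mem_ker _)
    rw [h, Subgroup.mem_bot] at hmem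
    have h2 : tr (![1, 0] : Fin 2 → ZMod p) = 1 := congrArg Subtype.val hmem
    rw [← tr_zero] at h2
    exact h10 (tr_injective h2)
  have hcen := Cfsg.Agent.helper19.inf_center_ne_bot_of_normal T.isPGroup' _ hN0
  obtain ⟨⟨n, hn⟩, hn1⟩ := (Subgroup.ne_bot_iff_exists_ne_one).mp hcen
  obtain ⟨hnV, hnZ⟩ := Subgroup.mem_inf.mp hn
  rw [Subgroup.mem_subgroupOf] at hnV
  have hv1 : (n : ↥(Cfsg.qdOver (ZMod p))) ≠ 1 := by
    intro h
    apply hn1
    apply Subtype.ext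
    apply Subtype.ext
    simpa using congrArg Subtype.val h
  have hvc : ∀ t ∈ (T : Subgroup ↥(Cfsg.qdOver (ZMod p))),
      t * (n : ↥(Cfsg.qdOver (ZMod p))) = (n : ↥(Cfsg.qdOver (ZMod p))) * t := by
    intro t ht
    have := Subgroup.mem_center_iff.mp hnZ ⟨t, ht⟩
    exact congrArg Subtype.val this
  have hvtr := eq_tr_of_mem_ker hnV
  set w₀ : Fin 2 → ZMod p := ![mat (n : ↥(Cfsg.qdOver (ZMod p))) 0 2,
    mat (n : ↥(Cfsg.qdOver (ZMod p))) 1 2] with hw₀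
  have hw₀0 : w₀ ≠ 0 := by
    intro h
    apply hv1
    rw [hvtr, h, tr_zero]
  -- all translations are central in T
  have hall : ∀ w : Fin 2 → ZMod p, ∀ t ∈ (T : Subgroup ↥(Cfsg.qdOver (ZMod p))),
      t * tr w = tr w * t := by
    intro w t ht
    by_cases hw : w = 0
    · rw [hw, tr_zero, mul_one, one_mul]
    obtain ⟨g, hg⟩ := exists_conj_tr w₀ w hw₀0 hw
    rw [← hvtr] at hg
    have hA : ({(n : ↥(Cfsg.qdOver (ZMod p)))} : Set ↥(Cfsg.qdOver (ZMod p))) ⊆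
        ((T : Subgroup ↥(Cfsg.qdOver (ZMod p))) : Set _) := by
      intro a ha
      rw [Set.mem_singleton_iff] at ha
      rw [ha]; exact n.2
    obtain ⟨x, hx, hxa⟩ := (hctl _ hA).2 g (by
      rintro _ ⟨a, ha, rfl⟩
      rw [Set.mem_singleton_iff] at ha
      rw [ha]
      show g * _ * g⁻¹ ∈ (T : Subgroup ↥(Cfsg.qdOver (ZMod p)))
      rw [hg]; exact hVT (tr_mem_ker _))
    have hxv := hxa _ (Set.mem_singleton _)
    rw [hg] at hxv
    have ht' : x⁻¹ * t * x ∈ (T : Subgroup ↥(Cfsg.qdOver (ZMod p))) := by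
      have := (Subgroup.mem_normalizer_iff.mp (Subgroup.inv_mem _ hx) t).mp ht
      rwa [inv_inv] at this
    have hc := hvc _ ht'
    rw [hxv]
    calc t * (x * (n : ↥(Cfsg.qdOver (ZMod p))) * x⁻¹)
        = x * ((x⁻¹ * t * x) * (n : ↥(Cfsg.qdOver (ZMod p)))) * x⁻¹ := by group
      _ = x * ((n : ↥(Cfsg.qdOver (ZMod p))) * (x⁻¹ * t * x)) * x⁻¹ := by rw [hc]
      _ = x * (n : ↥(Cfsg.qdOver (ZMod p))) * x⁻¹ * t := by group
  -- a p-element acting nontrivially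
  have hU := isPGroup_U (F := ZMod p) p
  obtain ⟨k, hk⟩ := hU ⟨uS 1, uS_mem 1⟩
  have hk' : (uS (1 : ZMod p)) ^ (p ^ k) = 1 := by simpa using congrArg Subtype.val hk
  have huk : (emb (uS (1 : ZMod p))) ^ (p ^ k) = 1 := by rw [← map_pow, hk', map_one]
  have hpu : IsPGroup p ↥(Subgroup.zpowers (emb (uS (1 : ZMod p)))) := by
    rintro ⟨y, hy⟩
    obtain ⟨m, rfl⟩ := Subgroup.mem_zpowers_iff.mp hy
    refine ⟨k, Subtype.ext ?_⟩
    show (emb (uS (1 : ZMod p)) ^ m) ^ (p ^ k) = 1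
    rw [← zpow_natCast, ← _root_.zpow_mul, mul_comm, _root_.zpow_mul, zpow_natCast, huk, _root_.one_zpow]
  obtain ⟨h, hh⟩ := pgroup_conj_into_sylow T _ hpu
  have htT : h * emb (uS (1 : ZMod p)) * h⁻¹ ∈ (T : Subgroup ↥(Cfsg.qdOver (ZMod p))) :=
    hh (conj_mem_map_conj _ h _ (Subgroup.mem_zpowers _))
  have hyker : h * tr ![0, 1] * h⁻¹ ∈ (blkHom (F := ZMod p)).ker :=
    (inferInstance : (blkHom (F := ZMod p)).ker.Normal).conj_mem _ (tr_mem_ker _) h
  obtain ⟨w₁, hw₁⟩ : ∃ w₁ : Fin 2 → ZMod p, h * tr ![0, 1] * h⁻¹ = tr w₁ :=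
    ⟨_, eq_tr_of_mem_ker hyker⟩
  have hcomm := hall w₁ _ htT
  rw [← hw₁] at hcomm
  have hcomm2 : emb (uS (1 : ZMod p)) * tr ![0, 1] = tr ![0, 1] * emb (uS (1 : ZMod p)) := by
    have e1 : emb (uS (1 : ZMod p)) * tr ![0, 1] =
        h⁻¹ * ((h * emb (uS (1 : ZMod p)) * h⁻¹) * (h * tr ![0, 1] * h⁻¹)) * h := by group
    rw [e1, hcomm]; group
  have hconj := conj_emb_tr (uS (1 : ZMod p)) ![0, 1]
  rw [hcomm2, mul_inv_cancel_right] at hconj
  have h3 := tr_injective hconj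
  have h4 := congrFun h3 0
  simp [coe_uS, Matrix.mulVec, dotProduct, Fin.sum_univ_two] at h4

end qdnc

section transport

variable {p : ℕ} [hp : Fact p.Prime]

/-- A group of class at most two is generated by its abelian normal subgroups. -/
theorem iSup_abelian_normal_eq_top_of_classTwo {P : Type*} [Group P]
    (h : ∀ x y z : P, ⁅⁅x, y⁆, z⁆ = 1) :
    ⨆ A ∈ {A : Subgroup P | A.Normal ∧ IsMulCommutative ↥A}, A = ⊤ := by
  rw [eq_top_iff]
  intro x _
  have hcen : ∀ g a : P, ⁅g, a⁆ ∈ Subgroup.center P := by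
    intro g a
    rw [Subgroup.mem_center_iff]
    intro z
    exact (commutatorElement_eq_one_iff_mul_comm.mp (h g a z)).symm
  have hS : ∀ s ∈ ({x} ∪ (Subgroup.center P : Set P)), ∀ s' ∈ ({x} ∪ (Subgroup.center P : Set P)),
      s * s' = s' * s := by
    rintro s (hs | hs) s' (hs' | hs')
    · rw [Set.mem_singleton_iff] at hs hs'
      rw [hs, hs']
    · exact Subgroup.mem_center_iff.mp hs' s
    · exact (Subgroup.mem_center_iff.mp hs s').symm
    · exact (Subgroup.mem_center_iff.mp hs s').symm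
  have hxA : x ∈ Subgroup.closure ({x} ∪ (Subgroup.center P : Set P)) :=
    Subgroup.subset_closure (Or.inl rfl)
  have hZA : Subgroup.center P ≤ Subgroup.closure ({x} ∪ (Subgroup.center P : Set P)) :=
    fun z hz => Subgroup.subset_closure (Or.inr hz)
  have hAn : (Subgroup.closure ({x} ∪ (Subgroup.center P : Set P))).Normal := by
    constructor
    intro a ha g
    have e : g * a * g⁻¹ = ⁅g, a⁆ * a := by rw [commutatorElement_def]; group
    rw [e]
    exact Subgroup.mul_mem _ (hZA (hcen g a)) ha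
  have hAc : IsMulCommutative ↥(Subgroup.closure ({x} ∪ (Subgroup.center P : Set P))) :=
    Subgroup.isMulCommutative_closure hS
  exact Subgroup.mem_iSup_of_mem _ (Subgroup.mem_iSup_of_mem ⟨hAn, hAc⟩ hxA)

theorem kinf_eq_self_of_classTwo {Q : Type u} [Group Q] [Finite Q] (T : Sylow p Q)
    (h : ∀ x ∈ (T : Subgroup Q), ∀ y ∈ (T : Subgroup Q), ∀ z ∈ (T : Subgroup Q),
      ⁅⁅x, y⁆, z⁆ = 1) :
    Cfsg.inducedFunctor Cfsg.kInfLower (T : Subgroup Q) = (T : Subgroup Q) := by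
  have h1 := (Cfsg.Agent.S1981.result (P := ↥(T : Subgroup Q)) T.isPGroup'
    (iSup_abelian_normal_eq_top_of_classTwo (fun x y z => Subtype.ext (by
      have h0 := h x x.2 y y.2 z z.2
      simp only [commutatorElement_def] at h0
      simp only [commutatorElement_def, Subgroup.coe_mul, Subgroup.coe_inv, Subgroup.coe_one]
      exact h0)))).1
  show (Cfsg.kInfLower ↥(T : Subgroup Q)).map (T : Subgroup Q).subtype = T
  rw [h1, ← MonoidHom.range_eq_map, Subgroup.range_subtype]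

/-- In a group isomorphic to `Qd(p)`, `p` odd, the lower K-infinity subgroup of a Sylow
`p`-subgroup does not control strong fusion. -/
theorem not_control_of_equiv_qd (hp2 : p ≠ 2) {Q : Type u} [Group Q] [Finite Q]
    (e : Q ≃* ↥(Cfsg.qdOver (ZMod p))) (T : Sylow p Q) :
    ¬ Cfsg.ControlsStrongFusion p (Cfsg.inducedFunctor Cfsg.kInfLower (T : Subgroup Q)) := by
  have hsurj : Function.Surjective e.toMonoidHom := e.surjective
  have hT₀ : ((T.mapSurjective hsurj : Sylow p ↥(Cfsg.qdOver (ZMod p))) :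
      Subgroup ↥(Cfsg.qdOver (ZMod p))) = (T : Subgroup Q).map e.toMonoidHom := rfl
  obtain ⟨⟨⟨-, -, hcomm⟩, -⟩, -, -⟩ := Cfsg.Agent.S3074.result p hp2 (T.mapSurjective hsurj)
  have hcl : ∀ x ∈ (T : Subgroup Q), ∀ y ∈ (T : Subgroup Q), ∀ z ∈ (T : Subgroup Q),
      ⁅⁅x, y⁆, z⁆ = 1 := by
    intro x hx y hy z hz
    apply e.injective
    rw [map_one, map_commutatorElement, map_commutatorElement]
    have hx' : e x ∈ ((T.mapSurjective hsurj : Sylow p ↥(Cfsg.qdOver (ZMod p))) :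
        Subgroup ↥(Cfsg.qdOver (ZMod p))) := ⟨x, hx, rfl⟩
    have hy' : e y ∈ ((T.mapSurjective hsurj : Sylow p ↥(Cfsg.qdOver (ZMod p))) :
        Subgroup ↥(Cfsg.qdOver (ZMod p))) := ⟨y, hy, rfl⟩
    have hz' : e z ∈ ((T.mapSurjective hsurj : Sylow p ↥(Cfsg.qdOver (ZMod p))) :
        Subgroup ↥(Cfsg.qdOver (ZMod p))) := ⟨z, hz, rfl⟩
    have hc : ⁅(⟨e x, hx'⟩ : ↥((T.mapSurjective hsurj : Sylow p ↥(Cfsg.qdOver (ZMod p))) :
        Subgroup ↥(Cfsg.qdOver (ZMod p)))), ⟨e y, hy'⟩⁆ ∈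
        commutator ↥((T.mapSurjective hsurj : Sylow p ↥(Cfsg.qdOver (ZMod p))) :
        Subgroup ↥(Cfsg.qdOver (ZMod p))) := by
      rw [commutator_def]
      exact Subgroup.commutator_mem_commutator (Subgroup.mem_top _) (Subgroup.mem_top _)
    have hc' := hcomm.le hc
    have h2 := congrArg Subtype.val (Subgroup.mem_center_iff.mp hc' ⟨e z, hz'⟩)
    simp only [commutatorElement_def, Subgroup.coe_mul, Subgroup.coe_inv] at h2
    rw [commutatorElement_def, commutatorElement_def]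
    have h3 : e z * (e x * e y * (e x)⁻¹ * (e y)⁻¹) = (e x * e y * (e x)⁻¹ * (e y)⁻¹) * e z := h2
    calc e x * e y * (e x)⁻¹ * (e y)⁻¹ * e z * (e x * e y * (e x)⁻¹ * (e y)⁻¹)⁻¹ * (e z)⁻¹
        = (e x * e y * (e x)⁻¹ * (e y)⁻¹ * e z) * (e x * e y * (e x)⁻¹ * (e y)⁻¹)⁻¹ * (e z)⁻¹ := by
          group
      _ = (e z * (e x * e y * (e x)⁻¹ * (e y)⁻¹)) * (e x * e y * (e x)⁻¹ * (e y)⁻¹)⁻¹ * (e z)⁻¹ := by
          rw [h3]
      _ = 1 := by group
  rw [kinf_eq_self_of_classTwo T hcl]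
  rintro ⟨T', hTT', hctl⟩
  have hTeq : (T' : Subgroup Q) = T := T.is_maximal' T'.isPGroup' hTT'
  rw [hTeq] at hctl
  apply qd_not_control (T.mapSurjective hsurj)
  intro A₀ hA₀
  refine ⟨hA₀, fun g₀ hg₀ => ?_⟩
  have hsub : e.symm '' A₀ ⊆ ((T : Subgroup Q) : Set Q) := by
    rintro _ ⟨a₀, ha₀, rfl⟩
    obtain ⟨t, ht, hte⟩ := hA₀ ha₀
    have : e.symm a₀ = t := by
      rw [← hte]; exact e.symm_apply_apply t
    rw [this]; exact ht
  obtain ⟨-, hc⟩ := hctl (e.symm '' A₀) hsub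
  obtain ⟨x, hx, hxa⟩ := hc (e.symm g₀) (by
    rintro _ ⟨_, ⟨a₀, ha₀, rfl⟩, rfl⟩
    obtain ⟨t, ht, hte⟩ := hg₀ ⟨a₀, ha₀, rfl⟩
    have hte' : e t = g₀ * a₀ * g₀⁻¹ := hte
    have : e.symm g₀ * e.symm a₀ * (e.symm g₀)⁻¹ = t := by
      apply e.injective
      rw [hte']
      simp
    show e.symm g₀ * e.symm a₀ * (e.symm g₀)⁻¹ ∈ (T : Subgroup Q)
    rw [this]; exact ht)
  refine ⟨e x, Subgroup.le_normalizer_map e.toMonoidHom ⟨x, hx, rfl⟩, fun a₀ ha₀ => ?_⟩
  have h5 := congrArg e (hxa (e.symm a₀) ⟨a₀, ha₀, rfl⟩)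
  simpa using h5

end transport

end Cfsg.Agent.helper10
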