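import Mathlib

/-!
# S4871 piece A (for helper12): at least `2|P|` elements of `G = N ⋊ P` square into `F` (helper10)
-/

set_option autoImplicit false

namespace Cfsg.Agent.helper10.S4871a

open Subgroup

theorem pieceA {G : Type*} [Group G] [Finite G] (N P F : Subgroup G) [hNn : N.Normal]
    (hdisj : N ⊓ P = ⊥) (hprod : N ⊔ P = ⊤) (hN1 : N ≠ ⊥) (hFP : F ≤ P)
    (hsq : ∀ p ∈ P, p * p ∈ F) (z : G) (hzP : z ∈ P) (hzc : ∀ p ∈ P, z * p = p * z)
    (hzinv : ∀ n ∈ N, z * n * z⁻¹ = n⁻¹) :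
    2 * Nat.card P ≤ Nat.card {h : G // h * h ∈ F} := by
  classical
  -- a non-identity element of N
  obtain ⟨n0, hn0, hn01⟩ : ∃ n0 ∈ N, n0 ≠ 1 := by
    by_contra hcon
    push_neg at hcon
    exact hN1 ((Subgroup.eq_bot_iff_forall N).mpr hcon)
  -- trivial intersection
  have hNP : ∀ g : G, g ∈ N → g ∈ P → g = 1 := by
    intro g h1 h2
    have : g ∈ N ⊓ P := Subgroup.mem_inf.mpr ⟨h1, h2⟩
    rw [hdisj, Subgroup.mem_bot] at this
    exact this
  -- representative function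
  let r : G → G := fun n => if h : ∃ r ∈ P, r * n0 * r⁻¹ = n then Classical.choose h else 1
  have hrP : ∀ p ∈ P, r (p * n0 * p⁻¹) ∈ P := by
    intro p hp
    have h : ∃ r ∈ P, r * n0 * r⁻¹ = p * n0 * p⁻¹ := ⟨p, hp, rfl⟩
    simp only [r, dif_pos h]
    exact (Classical.choose_spec h).1
  have hrn : ∀ p ∈ P, r (p * n0 * p⁻¹) * n0 * (r (p * n0 * p⁻¹))⁻¹ = p * n0 * p⁻¹ := by
    intro p hp
    have h : ∃ r ∈ P, r * n0 * r⁻¹ = p * n0 * p⁻¹ := ⟨p, hp, rfl⟩
    simp only [r, dif_pos h]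
    exact (Classical.choose_spec h).2
  -- key: elements n * p'' with p'' inverting n square into F
  have hkey : ∀ n ∈ N, ∀ p'' ∈ P, p'' * n * p''⁻¹ = n⁻¹ → (n * p'') * (n * p'') ∈ F := by
    intro n _ p'' hp'' hinv
    have : (n * p'') * (n * p'') = p'' * p'' := by
      calc (n * p'') * (n * p'') = n * (p'' * n * p''⁻¹) * (p'' * p'') := by group
        _ = n * n⁻¹ * (p'' * p'') := by rw [hinv]
        _ = p'' * p'' := by group
    rw [this]
    exact hsq p'' hp''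
  -- the second family
  let e : G → G := fun p => (p * n0 * p⁻¹) * (z * (p * (r (p * n0 * p⁻¹))⁻¹))
  have heN : ∀ p ∈ P, p * n0 * p⁻¹ ∈ N := fun p _ => hNn.conj_mem n0 hn0 p
  have hetP : ∀ p ∈ P, z * (p * (r (p * n0 * p⁻¹))⁻¹) ∈ P := fun p hp =>
    P.mul_mem hzP (P.mul_mem hp (P.inv_mem (hrP p hp)))
  have hemem : ∀ p ∈ P, e p * e p ∈ F := by
    intro p hp
    apply hkey _ (heN p hp) _ (hetP p hp)
    -- (z t) n (z t)⁻¹ = n⁻¹ where t fixes n
    have ht : (p * (r (p * n0 * p⁻¹))⁻¹) * (p * n0 * p⁻¹) * (p * (r (p * n0 * p⁻¹))⁻¹)⁻¹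
        = p * n0 * p⁻¹ := by
      have h1 := hrn p hp
      calc (p * (r (p * n0 * p⁻¹))⁻¹) * (p * n0 * p⁻¹) * (p * (r (p * n0 * p⁻¹))⁻¹)⁻¹
          = p * ((r (p * n0 * p⁻¹))⁻¹ * (p * n0 * p⁻¹) * r (p * n0 * p⁻¹)) * p⁻¹ := by group
        _ = p * ((r (p * n0 * p⁻¹))⁻¹ *
              (r (p * n0 * p⁻¹) * n0 * (r (p * n0 * p⁻¹))⁻¹) * r (p * n0 * p⁻¹)) * p⁻¹ := by
            rw [h1]
        _ = p * n0 * p⁻¹ := by group
    calc z * (p * (r (p * n0 * p⁻¹))⁻¹) * (p * n0 * p⁻¹) * (z * (p * (r (p * n0 * p⁻¹))⁻¹))⁻¹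
        = z * ((p * (r (p * n0 * p⁻¹))⁻¹) * (p * n0 * p⁻¹) * (p * (r (p * n0 * p⁻¹))⁻¹)⁻¹) * z⁻¹ := by
          group
      _ = z * (p * n0 * p⁻¹) * z⁻¹ := by rw [ht]
      _ = (p * n0 * p⁻¹)⁻¹ := hzinv _ (heN p hp)
  have hpmem : ∀ p ∈ P, p * p ∈ F := hsq
  -- the map from P ⊕ P
  let f : P ⊕ P → {h : G // h * h ∈ F} := fun s =>
    match s with
    | Sum.inl p => ⟨(p : G), hpmem p p.2⟩
    | Sum.inr p => ⟨e (p : G), hemem p p.2⟩
  have hne1 : ∀ p ∈ P, p * n0 * p⁻¹ ≠ 1 := by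
    intro p _ h
    apply hn01
    have : n0 = p⁻¹ * (p * n0 * p⁻¹) * p := by group
    rw [this, h]; group
  -- uniqueness of the decomposition n * p
  have huniq : ∀ n ∈ N, ∀ n' ∈ N, ∀ a ∈ P, ∀ b ∈ P, n * a = n' * b → n = n' ∧ a = b := by
    intro n hn n' hn' a ha b hb h
    have h1 : n'⁻¹ * n = b * a⁻¹ := by
      calc n'⁻¹ * n = n'⁻¹ * (n * a) * a⁻¹ := by group
        _ = n'⁻¹ * (n' * b) * a⁻¹ := by rw [h]
        _ = b * a⁻¹ := by group
    have h2 : n'⁻¹ * n = 1 := hNP _ (N.mul_mem (N.inv_mem hn') hn)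
      (by rw [h1]; exact P.mul_mem hb (P.inv_mem ha))
    have h3 : n = n' := by
      calc n = n' * (n'⁻¹ * n) := by group
        _ = n' := by rw [h2, mul_one]
    refine ⟨h3, ?_⟩
    rw [h3] at h
    exact mul_left_cancel h
  have hv : ∀ s s' : P ⊕ P, f s = f s' → ((f s : {h : G // h * h ∈ F}) : G) = (f s' : G) :=
    fun _ _ h => congrArg Subtype.val h
  have hf : Function.Injective f := by
    intro s s' hss
    rcases s with p | p <;> rcases s' with p' | p'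
    · have h1 : (p : G) = (p' : G) := hv (Sum.inl p) (Sum.inl p') hss
      exact congrArg Sum.inl (Subtype.ext h1)
    · exfalso
      have h1 : (p : G) = e (p' : G) := hv (Sum.inl p) (Sum.inr p') hss
      have h2 := huniq 1 N.one_mem _ (heN p' p'.2) p p.2 _ (hetP p' p'.2) (by rw [one_mul]; exact h1)
      exact hne1 p' p'.2 h2.1.symm
    · exfalso
      have h1 : e (p : G) = (p' : G) := hv (Sum.inr p) (Sum.inl p') hss
      have h2 := huniq _ (heN p p.2) 1 N.one_mem _ (hetP p p.2) p' p'.2 (by rw [one_mul]; exact h1)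
      exact hne1 p p.2 h2.1
    · have h1 : e (p : G) = e (p' : G) := hv (Sum.inr p) (Sum.inr p') hss
      have h2 := huniq _ (heN p p.2) _ (heN p' p'.2) _ (hetP p p.2) _ (hetP p' p'.2) h1
      have h3 : (p : G) * (r ((p : G) * n0 * (p : G)⁻¹))⁻¹
          = (p' : G) * (r ((p' : G) * n0 * (p' : G)⁻¹))⁻¹ := mul_left_cancel h2.2
      rw [h2.1] at h3
      have h4 : (p : G) = (p' : G) := mul_right_cancel h3
      exact congrArg Sum.inr (Subtype.ext h4)
  have hcard := Nat.card_le_card_of_injective f hf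
  have hsum : Nat.card (P ⊕ P) = 2 * Nat.card P := by
    rw [Nat.card_sum]; ring
  rw [hsum] at hcard
  exact hcard

end Cfsg.Agent.helper10.S4871a
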