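import Mathlib

/-!
# S4871 piece B (for helper12): the central involution of `P` inverts `N` (helper10)
-/

set_option autoImplicit false

namespace Cfsg.Agent.helper10.S4871b

open Subgroup

theorem pieceB {G : Type*} [Group G] [Finite G] (N P : Subgroup G) [hNn : N.Normal] (q : ℕ)
    [Fact q.Prime] (hq : q ≠ 2) (hNq : IsPGroup q N)
    (hNab : ∀ a ∈ N, ∀ b ∈ N, a * b = b * a) (hP : IsPGroup 2 P) (hP1 : P ≠ ⊥)
    (hdisj : N ⊓ P = ⊥) (hprod : N ⊔ P = ⊤)
    (hmin : N ≠ ⊥ ∧ ∀ M : Subgroup G, M.Normal → M ≠ ⊥ → N ≤ M) :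
    ∃ z ∈ P, z ≠ 1 ∧ (∀ p ∈ P, z * p = p * z) ∧ ∀ n ∈ N, z * n * z⁻¹ = n⁻¹ := by
  haveI : Fact (Nat.Prime 2) := ⟨Nat.prime_two⟩
  haveI : Nontrivial P := (Subgroup.nontrivial_iff_ne_bot P).mpr hP1
  haveI : Nontrivial (Subgroup.center P) := hP.center_nontrivial
  have hcz : IsPGroup 2 (Subgroup.center P) := hP.to_subgroup _
  obtain ⟨k, hk⟩ := IsPGroup.iff_card.mp hcz
  have h2 : 2 ∣ Nat.card (Subgroup.center P) := by
    have h1 : 1 < Nat.card (Subgroup.center P) := Finite.one_lt_card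
    rw [hk] at h1 ⊢
    have hk0 : k ≠ 0 := by rintro rfl; simp at h1
    exact dvd_pow_self 2 hk0
  obtain ⟨z0, hz0⟩ := exists_prime_orderOf_dvd_card' 2 h2
  have hz0c : ∀ p : P, p * (z0 : P) = (z0 : P) * p := fun p => Subgroup.mem_center_iff.mp z0.2 p
  obtain ⟨z, hz⟩ : ∃ z : G, z = ((z0 : P) : G) := ⟨_, rfl⟩
  have hzP : z ∈ P := by rw [hz]; exact (z0 : P).2
  have hord : orderOf z = 2 := by
    rw [hz, Subgroup.orderOf_coe, Subgroup.orderOf_coe, hz0]
  have hz1 : z ≠ 1 := by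
    intro h; rw [h, orderOf_one] at hord; norm_num at hord
  have hzz : z * z = 1 := by
    have := pow_orderOf_eq_one z; rw [hord, pow_two] at this; exact this
  have hzinv : z⁻¹ = z := inv_eq_of_mul_eq_one_left hzz
  have hzc : ∀ p ∈ P, z * p = p * z := by
    intro p hp
    have h3 := congrArg (fun t : P => (t : G)) (hz0c ⟨p, hp⟩)
    simp only [Subgroup.coe_mul] at h3
    rw [hz]; exact h3.symm
  have hdecomp : ∀ g : G, ∃ n ∈ N, ∃ p ∈ P, g = n * p := by
    intro g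
    have hg : g ∈ N ⊔ P := by rw [hprod]; trivial
    rw [← SetLike.mem_coe, Subgroup.normal_mul] at hg
    obtain ⟨n, hn, p, hp, rfl⟩ := Set.mem_mul.mp hg
    exact ⟨n, hn, p, hp, rfl⟩
  -- C = C_N(z) is normal
  have hCn : (N ⊓ Subgroup.centralizer {z}).Normal := by
    constructor
    intro c hc g
    obtain ⟨n, hn, p, hp, rfl⟩ := hdecomp g
    have hcN : c ∈ N := hc.1
    have hcz' : z * c = c * z :=
      Subgroup.mem_centralizer_iff.mp hc.2 z (Set.mem_singleton z)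
    have h1 : p * c * p⁻¹ ∈ N := hNn.conj_mem c hcN p
    have h2 : n * p * c * (n * p)⁻¹ = p * c * p⁻¹ := by
      have h3 : n * (p * c * p⁻¹) = (p * c * p⁻¹) * n := hNab n hn _ h1
      calc n * p * c * (n * p)⁻¹ = n * (p * c * p⁻¹) * n⁻¹ := by group
        _ = (p * c * p⁻¹) * n * n⁻¹ := by rw [h3]
        _ = p * c * p⁻¹ := by group
    rw [h2]
    refine Subgroup.mem_inf.mpr ⟨h1, ?_⟩
    rw [Subgroup.mem_centralizer_iff]
    intro y hy
    rw [Set.mem_singleton_iff] at hy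
    rw [hy]
    have hzp := hzc p hp
    have hzp' : z * p⁻¹ = p⁻¹ * z := hzc p⁻¹ (P.inv_mem hp)
    calc z * (p * c * p⁻¹) = (z * p) * c * p⁻¹ := by group
      _ = (p * z) * c * p⁻¹ := by rw [hzp]
      _ = p * (z * c) * p⁻¹ := by group
      _ = p * (c * z) * p⁻¹ := by rw [hcz']
      _ = p * c * (z * p⁻¹) := by group
      _ = p * c * (p⁻¹ * z) := by rw [hzp']
      _ = p * c * p⁻¹ * z := by group
  by_cases hC : N ⊓ Subgroup.centralizer {z} = ⊥
  · refine ⟨z, hzP, hz1, hzc, ?_⟩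
    intro n hn
    have hzn : z * n * z⁻¹ ∈ N := hNn.conj_mem n hn z
    have hw : n * (z * n * z⁻¹) ∈ N ⊓ Subgroup.centralizer {z} := by
      refine Subgroup.mem_inf.mpr ⟨N.mul_mem hn hzn, ?_⟩
      rw [Subgroup.mem_centralizer_iff]
      intro y hy
      rw [Set.mem_singleton_iff] at hy
      rw [hy]
      have hcomm : n * (z * n * z⁻¹) = (z * n * z⁻¹) * n := hNab n hn _ hzn
      calc z * (n * (z * n * z⁻¹)) = (z * n * z⁻¹) * ((z * z) * n * z⁻¹) := by group
        _ = (z * n * z⁻¹) * (n * z⁻¹) := by rw [hzz, one_mul]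
        _ = ((z * n * z⁻¹) * n) * z⁻¹ := by group
        _ = (n * (z * n * z⁻¹)) * z⁻¹ := by rw [← hcomm]
        _ = (n * (z * n * z⁻¹)) * z := by rw [hzinv]
    rw [hC, Subgroup.mem_bot] at hw
    exact eq_inv_of_mul_eq_one_right hw
  · exfalso
    have hNC : N ≤ N ⊓ Subgroup.centralizer {z} := hmin.2 _ hCn hC
    have hzN : ∀ n ∈ N, z * n = n * z := fun n hn =>
      Subgroup.mem_centralizer_iff.mp (hNC hn).2 z (Set.mem_singleton z)
    have hDn : (P ⊓ Subgroup.centralizer (N : Set G)).Normal := by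
      constructor
      intro d hd g
      obtain ⟨n, hn, p, hp, rfl⟩ := hdecomp g
      have hdP : d ∈ P := hd.1
      have hdc : ∀ m ∈ N, m * d = d * m := fun m hm =>
        Subgroup.mem_centralizer_iff.mp hd.2 m hm
      have h1 : p * d * p⁻¹ ∈ P := P.mul_mem (P.mul_mem hp hdP) (P.inv_mem hp)
      have h1c : ∀ m ∈ (N : Set G), m * (p * d * p⁻¹) = (p * d * p⁻¹) * m := by
        intro m hm
        have hm' : p⁻¹ * m * p ∈ N := by
          have := hNn.conj_mem m hm p⁻¹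
          simpa using this
        have h4 := hdc _ hm'
        calc m * (p * d * p⁻¹) = p * ((p⁻¹ * m * p) * d) * p⁻¹ := by group
          _ = p * (d * (p⁻¹ * m * p)) * p⁻¹ := by rw [h4]
          _ = (p * d * p⁻¹) * m := by group
      have h2 : n * p * d * (n * p)⁻¹ = p * d * p⁻¹ := by
        have h5 := h1c n hn
        calc n * p * d * (n * p)⁻¹ = n * (p * d * p⁻¹) * n⁻¹ := by group
          _ = (p * d * p⁻¹) * n * n⁻¹ := by rw [h5]
          _ = p * d * p⁻¹ := by group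
      rw [h2]
      exact Subgroup.mem_inf.mpr ⟨h1, Subgroup.mem_centralizer_iff.mpr h1c⟩
    have hzD : z ∈ P ⊓ Subgroup.centralizer (N : Set G) :=
      Subgroup.mem_inf.mpr ⟨hzP, Subgroup.mem_centralizer_iff.mpr (fun m hm => (hzN m hm).symm)⟩
    have hD : P ⊓ Subgroup.centralizer (N : Set G) ≠ ⊥ := by
      intro h
      rw [h, Subgroup.mem_bot] at hzD
      exact hz1 hzD
    have hND : N ≤ P ⊓ Subgroup.centralizer (N : Set G) := hmin.2 _ hDn hD
    have h6 : N ≤ N ⊓ P := le_inf le_rfl (hND.trans inf_le_left)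
    rw [hdisj] at h6
    exact hmin.1 (le_bot_iff.mp h6)

end Cfsg.Agent.helper10.S4871b
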