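import Mathlib
import Cfsg.Agent.Lib_helper10_Tr11

set_option autoImplicit false

/-!
# The structure of a minimal counterexample to control of transfer, III
-/

namespace Cfsg.Agent.helper10

universe u

open scoped commutatorElement

section mc2

variable {X : Type u} [Group X] [Finite X] {p : ℕ} [hp : Fact p.Prime]
  {𝓦 : Set (∀ (Q : Type u) [Group Q], Subgroup Q)}

/-- Clause (4): every element of `S ∖ O_p(X)` has a chief factor on which `(u - 1)^(p-1) ≠ 0`. -/
theorem mc_chief (h𝓦 : ∀ W ∈ 𝓦, Cfsg.IsCharPFunctor.{u} p W) (hne : 𝓦.Nonempty)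
    (S : Sylow p X) (hmc : MinCtr p 𝓦 X) (u : X) (huS : u ∈ (S : Subgroup X))
    (huP : u ∉ Cfsg.pCore p X) :
    ∃ U V : Subgroup X, Cfsg.IsChiefFactor U V ∧ U ≤ Cfsg.pCore p X ∧
      ¬ Cfsg.iterCommutator U (Subgroup.zpowers u) (p - 1) ≤ V := by
  by_contra hcon
  push Not at hcon
  have hu : u ∈ NilSet p (Cfsg.pCore p X) := fun U V hUV hUP => hcon U V hUV hUP
  obtain ⟨M, hM⟩ : ∃ M : Subgroup X, M = Subgroup.normalizer
      ((RT (fam 𝓦 X) ⊤ (S : Subgroup X) ⊓ Cfsg.pCore p X : Subgroup X) : Set X) := ⟨_, rfl⟩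
  obtain ⟨hSM, -, h3⟩ := mc_commutators h𝓦 hne S hmc M hM
  have hmax : ∀ H : Subgroup X, (S : Subgroup X) ≤ H → H ≠ ⊤ → H ≤ M := by
    intro H hSH hH
    rw [hM]
    exact mc_le_normalizer h𝓦 S hmc H hSH hH
  have h4 := pCore_inf_commutator_le_of_nil M S hSM hmax u huS huP hu
  apply mc_pCore_not_le h𝓦 S hmc
  exact le_trans (le_inf inf_le_left h4) (h3.trans inf_le_right)

end mc2

section fromsections

variable {G : Type u} [Group G] [Finite G] {p : ℕ} [hp : Fact p.Prime]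
  {𝓦 : Set (∀ (Q : Type u) [Group Q], Subgroup Q)}

/-- The hypotheses of a minimal counterexample in the form of the statements. -/
theorem minCtr_of_sections (h𝓦 : ∀ W ∈ 𝓦, Cfsg.IsCharPFunctor.{u} p W)
    (hsec : ∀ (K R : Subgroup G) [hR : (R.subgroupOf K).Normal], (K = ⊤ → R ≠ ⊥) →
      CtlT p 𝓦 (↥K ⧸ R.subgroupOf K))
    (hG : ¬ CtlT p 𝓦 G) : MinCtr p 𝓦 G := by
  refine ⟨?_, ?_, hG⟩
  · intro H hH
    haveI : ((⊥ : Subgroup G).subgroupOf H).Normal := by
      rw [Subgroup.bot_subgroupOf]; infer_instance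
    have h1 := hsec H ⊥ (fun h => absurd h hH)
    let e : (↥H ⧸ (⊥ : Subgroup G).subgroupOf H) ≃* ↥H :=
      (QuotientGroup.quotientMulEquivOfEq (Subgroup.bot_subgroupOf H)).trans QuotientGroup.quotientBot
    exact ctlT_iso h𝓦 e h1
  · intro N _ hN
    have h1 := hsec ⊤ N (fun _ => hN)
    let f : ↥(⊤ : Subgroup G) →* G ⧸ N := (QuotientGroup.mk' N).comp (⊤ : Subgroup G).subtype
    have hf : Function.Surjective f := by
      intro y
      obtain ⟨x, rfl⟩ := QuotientGroup.mk'_surjective N y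
      exact ⟨⟨x, Subgroup.mem_top x⟩, rfl⟩
    have hker : N.subgroupOf ⊤ = f.ker := by
      ext x
      rw [Subgroup.mem_subgroupOf, MonoidHom.mem_ker]
      show (x : G) ∈ N ↔ (QuotientGroup.mk' N) (x : G) = 1
      rw [← MonoidHom.mem_ker, QuotientGroup.ker_mk']
    let e : (↥(⊤ : Subgroup G) ⧸ N.subgroupOf ⊤) ≃* G ⧸ N :=
      (QuotientGroup.quotientMulEquivOfEq hker).trans (QuotientGroup.quotientKerEquivOfSurjective f hf)
    exact ctlT_iso h𝓦 e h1

end fromsections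

end Cfsg.Agent.helper10
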