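import Mathlib
import Cfsg.Agent.Lib_helper10_Tr5
import Cfsg.Agent.Lib_helper10_Hyperfocal
import Cfsg.Agent.Lib_helper10_PResidual
import Cfsg.Agent.Lib_helper1_PGroup

set_option autoImplicit false

/-!
# Normal subgroups of index `p` from control of transfer
-/

namespace Cfsg.Agent.helper10

universe u

open scoped commutatorElement

section idxp

variable {Y : Type u} [Group Y] [Finite Y] {p : ℕ} [hp : Fact p.Prime]

/-- If a Sylow `p`-subgroup is not inside the derived subgroup, there is a normal subgroup of index `p`. -/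
theorem exists_normal_index_of_not_le (S : Sylow p Y) (h : ¬ (S : Subgroup Y) ≤ commutator Y) :
    ∃ N : Subgroup Y, N.Normal ∧ N.index = p := by
  haveI hKn : (Cfsg.pResidual p Y).Normal := pResidual_normal p Y
  have hK : Cfsg.pResidual p Y ≠ ⊤ := fun htop => h (sylow_le_commutator_of_pResidual_eq_top S htop)
  have hQp : IsPGroup p (Y ⧸ Cfsg.pResidual p Y) := quotient_pResidual_isPGroup p
  rcases eq_top_or_exists_le_coatom (⊥ : Subgroup (Y ⧸ Cfsg.pResidual p Y)) with hbt | ⟨M, hM, -⟩
  · exfalso
    apply hK
    rw [eq_top_iff]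
    intro y _
    have h1 : (QuotientGroup.mk' (Cfsg.pResidual p Y)) y ∈ (⊥ : Subgroup (Y ⧸ Cfsg.pResidual p Y)) := by
      rw [hbt]; exact Subgroup.mem_top _
    rw [Subgroup.mem_bot] at h1
    rw [← QuotientGroup.ker_mk' (Cfsg.pResidual p Y)]
    exact h1
  · haveI := Cfsg.Agent.helper1.coatom_normal_of_isPGroup hQp hM
    have hidx := Cfsg.Agent.helper1.coatom_index_of_isPGroup hQp hM
    refine ⟨M.comap (QuotientGroup.mk' (Cfsg.pResidual p Y)), inferInstance, ?_⟩
    rw [Subgroup.index_comap_of_surjective _ (QuotientGroup.mk'_surjective _), hidx]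

/-- If there is a normal subgroup of index `p`, a Sylow `p`-subgroup is not inside the derived
subgroup. -/
theorem not_le_commutator_of_normal_index (S : Sylow p Y) (N : Subgroup Y) [N.Normal]
    (hN : N.index = p) : ¬ (S : Subgroup Y) ≤ commutator Y := by
  intro hle
  have hcard : Nat.card (Y ⧸ N) = p := by rw [← Subgroup.index_eq_card, hN]
  haveI : IsCyclic (Y ⧸ N) := isCyclic_of_prime_card hcard
  letI : CommGroup (Y ⧸ N) := IsCyclic.commGroup
  have h1 := Abelianization.commutator_subset_ker (QuotientGroup.mk' N)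
  rw [QuotientGroup.ker_mk'] at h1
  have h2 : N.index ∣ (S : Subgroup Y).index := Subgroup.index_dvd_of_le (hle.trans h1)
  rw [hN] at h2
  exact S.not_dvd_index h2

/-- The `p'`-part of an element. -/
theorem orderOf_pow_ordProj_coprime (g : Y) :
    (orderOf (g ^ (p ^ (orderOf g).factorization p))).Coprime p := by
  have hpos : 0 < orderOf g := orderOf_pos g
  rw [orderOf_pow' g (pow_ne_zero _ hp.out.ne_zero),
    Nat.gcd_eq_right (Nat.ordProj_dvd (orderOf g) p)]
  exact (Nat.coprime_ordCompl hp.out hpos.ne').symm

end idxp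

section main

variable {p : ℕ} [hp : Fact p.Prime]

theorem singleton_char (W : ∀ (Q : Type u) [Group Q], Subgroup Q)
    (hW : Cfsg.IsCharPFunctor.{u} p W) :
    ∀ W' ∈ ({W} : Set (∀ (Q : Type u) [Group Q], Subgroup Q)), Cfsg.IsCharPFunctor.{u} p W' := by
  intro W' hW'
  rw [Set.mem_singleton_iff] at hW'
  rw [hW']; exact hW

theorem ctlT_singleton_iff (W : ∀ (Q : Type u) [Group Q], Subgroup Q) (Y : Type u) [Group Y] :
    CtlT p {W} Y ↔ Cfsg.ControlsTransferIn p (Cfsg.inducedFunctor (G := Y) W) ⊤ := by
  unfold CtlT fam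
  rw [Set.image_singleton]
  exact fct_singleton_iff _ _

theorem RT_fam_singleton (W : ∀ (Q : Type u) [Group Q], Subgroup Q) {Y : Type u} [Group Y]
    (H T : Subgroup Y) :
    RT (fam {W} Y) H T = T ⊓ ⁅H ⊓ Subgroup.normalizer
      ((Cfsg.inducedFunctor (G := Y) W T : Subgroup Y) : Set Y),
      H ⊓ Subgroup.normalizer ((Cfsg.inducedFunctor (G := Y) W T : Subgroup Y) : Set Y)⁆ := by
  unfold fam
  rw [Set.image_singleton, RT_singleton]

/-- Control of transfer in all sections, together with `N(S)/C(S)` a `p`-group, gives a normal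
subgroup of index `p`. -/
theorem exists_normal_index_of_ctlT (W : ∀ (Q : Type u) [Group Q], Subgroup Q)
    (hW : Cfsg.IsCharPFunctor.{u} p W) :
    ∀ (n : ℕ) (Y : Type u) [Group Y] [Finite Y], Nat.card Y = n →
      SecHyp (fun _ _ => True) (fun Y _ => CtlT p {W} Y) Y → ∀ S : Sylow p Y,
      (S : Subgroup Y) ≠ ⊥ →
      (∀ g ∈ Subgroup.normalizer ((S : Subgroup Y) : Set Y), (orderOf g).Coprime p →
        g ∈ Subgroup.centralizer ((S : Subgroup Y) : Set Y)) →
      ∃ N : Subgroup Y, N.Normal ∧ N.index = p := by
  have h𝓦 := singleton_char W hW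
  intro n
  induction n using Nat.strong_induction_on with
  | _ n IH =>
    intro Y _ _ hn hY S hS hN
    apply exists_normal_index_of_not_le S
    intro hle
    have hctl : CtlT p {W} Y := secHyp_top hY trivial
    have h1 := ctlT_at h𝓦 S hctl
    rw [RT_fam_singleton, top_inf_eq] at h1
    have hconjF := induced_isConjugacyFunctor (X := Y) W hW
    obtain ⟨V, hV⟩ : ∃ V : Subgroup Y, V = Cfsg.inducedFunctor (G := Y) W (S : Subgroup Y) := ⟨_, rfl⟩
    rw [← hV] at h1
    have hVS : V ≤ (S : Subgroup Y) := by rw [hV]; exact (hconjF _ S.isPGroup').1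
    have hVne : V ≠ ⊥ := by rw [hV]; exact (hconjF _ S.isPGroup').2.1 hS
    have hSV : (S : Subgroup Y) ≤ Subgroup.normalizer (V : Set Y) := by
      rw [hV]; exact sylow_le_normalizer_functor _ hconjF (S : Subgroup Y) S.isPGroup'
    have hS' : (S : Subgroup Y) ≤ ⁅Subgroup.normalizer (V : Set Y), Subgroup.normalizer (V : Set Y)⁆ := by
      intro x hx
      have hx' : x ∈ ⁅(⊤ : Subgroup Y), (⊤ : Subgroup Y)⁆ := hle hx
      exact (Subgroup.mem_inf.1 (h1 (Subgroup.mem_inf.2 ⟨hx, hx'⟩))).2
    by_cases hN₀ : Subgroup.normalizer (V : Set Y) = ⊤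
    · -- `V` is normal
      haveI hVn : V.Normal := Subgroup.normalizer_eq_top_iff.mp hN₀
      by_cases hVeq : V = (S : Subgroup Y)
      · -- `S` is normal
        haveI hSn : (S : Subgroup Y).Normal := by rw [← hVeq]; exact hVn
        have hNS : Subgroup.normalizer ((S : Subgroup Y) : Set Y) = ⊤ := by
          rw [← hVeq]; exact hN₀
        have hres : Cfsg.pResidual p Y ≤ Subgroup.centralizer ((S : Subgroup Y) : Set Y) := by
          unfold Cfsg.pResidual
          rw [Subgroup.closure_le]
          intro g hg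
          exact hN g (by rw [hNS]; exact Subgroup.mem_top g) hg
        have h2 : (S : Subgroup Y) ⊓ ⁅(⊤ : Subgroup Y), (⊤ : Subgroup Y)⁆ ≤
            ⁅(S : Subgroup Y), (S : Subgroup Y)⁆ := by
          refine inf_commutator_le_of_focal ⊤ (S : Subgroup Y) le_top S.isPGroup' ?_ _ ?_
          · rw [Subgroup.relIndex_top_right]; exact S.not_dvd_index
          · intro a ha h _ _
            obtain ⟨s, hs, k, hk, rfl⟩ := exists_mul_of_pResidual_sylow p S h
            have hkc := hres hk
            have h3 : s⁻¹ * a * s ∈ (S : Subgroup Y) :=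
              Subgroup.mul_mem _ (Subgroup.mul_mem _ (Subgroup.inv_mem _ hs) ha) hs
            have h4 : (s⁻¹ * a * s) * k = k * (s⁻¹ * a * s) :=
              (Subgroup.mem_centralizer_iff.1 hkc) _ h3
            have h5 : (s * k)⁻¹ * a * (s * k) = s⁻¹ * a * s := by
              calc (s * k)⁻¹ * a * (s * k) = k⁻¹ * ((s⁻¹ * a * s) * k) := by group
                _ = k⁻¹ * (k * (s⁻¹ * a * s)) := by rw [h4]
                _ = s⁻¹ * a * s := by group
            rw [h5]
            have h6 : a * (s⁻¹ * a * s)⁻¹ = ⁅a, s⁻¹⁆ := by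
              rw [commutatorElement_def]; group
            rw [h6]
            exact Subgroup.commutator_mem_commutator ha (Subgroup.inv_mem _ hs)
        have h3 : (S : Subgroup Y) ≤ ⁅(S : Subgroup Y), (S : Subgroup Y)⁆ := by
          intro x hx
          exact h2 (Subgroup.mem_inf.2 ⟨hx, hle hx⟩)
        haveI : Group.IsNilpotent (S : Subgroup Y) := S.isPGroup'.isNilpotent
        haveI : Nontrivial (S : Subgroup Y) := (Subgroup.nontrivial_iff_ne_bot _).2 hS
        have h4 := Group.IsSolvable.commutator_lt_top_of_nontrivial (S : Subgroup Y)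
        apply h4.ne
        rw [eq_top_iff]
        intro x _
        have h5 := h3 x.2
        rw [← Subgroup.map_subtype_commutator] at h5
        obtain ⟨y, hy, hyx⟩ := h5
        have : y = x := Subtype.ext hyx
        rw [← this]; exact hy
      · -- pass to `Y ⧸ V`
        have hsurj : Function.Surjective (QuotientGroup.mk' V) := QuotientGroup.mk'_surjective V
        have hlt : Nat.card (Y ⧸ V) < n := by
          rw [← hn, ← Subgroup.index_eq_card, ← Subgroup.card_mul_index V]
          have h1 : 1 < Nat.card V := by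
            rw [Subgroup.one_lt_card_iff_ne_bot]; exact hVne
          have h2 : 0 < V.index := Nat.pos_of_ne_zero Subgroup.index_ne_zero_of_finite
          nlinarith
        have hSb : ((S.mapSurjective hsurj : Sylow p (Y ⧸ V)) : Subgroup (Y ⧸ V)) ≠ ⊥ := by
          rw [Sylow.coe_mapSurjective]
          intro hbot
          apply hVeq
          apply le_antisymm hVS
          have := (Subgroup.map_eq_bot_iff _).1 hbot
          rwa [QuotientGroup.ker_mk'] at this
        obtain ⟨M, hMn, hMi⟩ := IH _ hlt (Y ⧸ V) rfl (secHyp_quotient V hY)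
          (S.mapSurjective hsurj) hSb (by
            rw [Sylow.coe_mapSurjective]
            intro gb hgb hgbo
            obtain ⟨g, rfl⟩ := hsurj gb
            have hgN : g ∈ Subgroup.normalizer ((S : Subgroup Y) : Set Y) := by
              have h2 : g ∈ (Subgroup.normalizer ((((S : Subgroup Y).map (QuotientGroup.mk' V) :
                  Subgroup (Y ⧸ V))) : Set (Y ⧸ V))).comap (QuotientGroup.mk' V) := hgb
              have h3 := Subgroup.le_normalizer_comap (QuotientGroup.mk' V) h2
              rw [Subgroup.comap_map_eq, QuotientGroup.ker_mk', sup_eq_left.2 hVS] at h3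
              exact h3
            obtain ⟨q, hq⟩ : ∃ q : ℕ, q = p ^ (orderOf g).factorization p := ⟨_, rfl⟩
            have hg₁ : (orderOf (g ^ q)).Coprime p := by
              rw [hq]; exact orderOf_pow_ordProj_coprime g
            have hg₁c := hN (g ^ q) (Subgroup.pow_mem _ hgN q) hg₁
            have hbc : ((QuotientGroup.mk' V) g) ^ q ∈ Subgroup.centralizer
                ((((S : Subgroup Y).map (QuotientGroup.mk' V) : Subgroup (Y ⧸ V))) : Set (Y ⧸ V)) := by
              rw [Subgroup.mem_centralizer_iff]
              rintro _ ⟨s, hs, rfl⟩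
              have h2 := (Subgroup.mem_centralizer_iff.1 hg₁c) s hs
              rw [← map_pow, ← map_mul, ← map_mul, h2]
            have hcop : ((orderOf ((QuotientGroup.mk' V) g))).Coprime q := by
              rw [hq]; exact Nat.Coprime.pow_right _ hgbo
            obtain ⟨j, hj⟩ := exists_pow_eq_self_of_coprime hcop.symm
            rw [← hj]
            exact Subgroup.pow_mem _ hbc j)
        haveI := hMn
        have hidx : (M.comap (QuotientGroup.mk' V)).index = p := by
          rw [Subgroup.index_comap_of_surjective _ hsurj, hMi]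
        exact not_le_commutator_of_normal_index S (M.comap (QuotientGroup.mk' V)) hidx hle
    · -- induction on `N(V)`
      obtain ⟨N₀, hN₀def⟩ : ∃ N₀ : Subgroup Y, N₀ = Subgroup.normalizer (V : Set Y) := ⟨_, rfl⟩
      rw [← hN₀def] at hN₀ hSV hS'
      have hlt : Nat.card N₀ < n := by
        rw [← hn]
        have h1 : N₀ < ⊤ := lt_top_iff_ne_top.2 hN₀
        have h2 := card_lt_card_of_lt h1
        rwa [Subgroup.card_top] at h2
      have hSb : ((S.subtype hSV : Sylow p N₀) : Subgroup N₀) ≠ ⊥ := by
        rw [Sylow.coe_subtype]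
        intro hbot
        apply hS
        rw [eq_bot_iff]
        intro x hx
        have h2 : (⟨x, hSV hx⟩ : N₀) ∈ (S : Subgroup Y).subgroupOf N₀ := by
          rw [Subgroup.mem_subgroupOf]; exact hx
        rw [hbot, Subgroup.mem_bot] at h2
        have := congrArg Subtype.val h2
        exact Subgroup.mem_bot.2 this
      obtain ⟨M, hMn, hMi⟩ := IH _ hlt N₀ rfl (secHyp_subgroup N₀ hY) (S.subtype hSV) hSb (by
        rw [Sylow.coe_subtype]
        intro g hg hgo
        rw [← Subgroup.subgroupOf_normalizer_eq hSV, Subgroup.mem_subgroupOf] at hg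
        have h2 := hN (g : Y) hg (by rw [Subgroup.orderOf_coe]; exact hgo)
        rw [Subgroup.mem_centralizer_iff]
        intro s hs
        rw [SetLike.mem_coe, Subgroup.mem_subgroupOf] at hs
        have h3 := (Subgroup.mem_centralizer_iff.1 h2) (s : Y) hs
        apply Subtype.ext
        simpa using h3)
      haveI := hMn
      apply not_le_commutator_of_normal_index (S.subtype hSV) M hMi
      rw [Sylow.coe_subtype]
      intro x hx
      rw [Subgroup.mem_subgroupOf] at hx
      have h2 := hS' hx
      rw [← Subgroup.map_subtype_commutator] at h2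
      obtain ⟨y, hy, hyx⟩ := h2
      have : y = x := Subtype.ext hyx
      rw [← this]; exact hy

end main

end Cfsg.Agent.helper10
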