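import Mathlib
import Cfsg.Agent.Lib_helper10_Sylow
import Cfsg.Agent.Lib_helper10_Alperin
import Cfsg.Agent.Lib_helper10_Control
import Cfsg.Agent.Lib_helper10_Reach
import Cfsg.Agent.Lib_helper10_NormalFusion2

set_option autoImplicit false

/-!
# Closures of conjugates and the triple factorization argument

`ncl X Z` is the subgroup generated by the `X`-conjugates of the set `Z`.  The main result,
`tri_main`, says that for two subgroups `V₁, V₂` of a Sylow subgroup `S` and a set `Z` of elements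
central in `S` and lying in both, the closures `ncl (X ⊓ N(V₁)) Z` and `ncl (X ⊓ N(V₂)) Z` agree,
provided a local factorization hypothesis holds.
-/

namespace Cfsg.Agent.helper10

section ncl

variable {G : Type*} [Group G]

/-- The subgroup generated by the `X`-conjugates of the elements of `Z`. -/
def ncl (X : Subgroup G) (Z : Set G) : Subgroup G :=
  Subgroup.closure {y | ∃ x ∈ X, ∃ z ∈ Z, y = x * z * x⁻¹}

theorem conj_mem_ncl {X : Subgroup G} {Z : Set G} {x z : G} (hx : x ∈ X) (hz : z ∈ Z) :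
    x * z * x⁻¹ ∈ ncl X Z :=
  Subgroup.subset_closure ⟨x, hx, z, hz, rfl⟩

theorem subset_ncl (X : Subgroup G) (Z : Set G) : Z ⊆ (ncl X Z : Set G) := by
  intro z hz
  have := conj_mem_ncl (X := X) (Subgroup.one_mem X) hz
  simpa using this

theorem ncl_mono {X Y : Subgroup G} (h : X ≤ Y) (Z : Set G) : ncl X Z ≤ ncl Y Z := by
  apply Subgroup.closure_mono
  rintro y ⟨x, hx, z, hz, rfl⟩
  exact ⟨x, h hx, z, hz, rfl⟩

theorem ncl_le {X : Subgroup G} {Z : Set G} {B : Subgroup G} (hZ : Z ⊆ (B : Set G))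
    (hX : X ≤ Subgroup.normalizer (B : Set G)) : ncl X Z ≤ B := by
  unfold ncl
  rw [Subgroup.closure_le]
  rintro y ⟨x, hx, z, hz, rfl⟩
  exact (Subgroup.mem_normalizer_iff.mp (hX hx) z).mp (hZ hz)

theorem conj_mem_ncl_of_mem {X : Subgroup G} {Z : Set G} {x y : G} (hx : x ∈ X)
    (hy : y ∈ ncl X Z) : x * y * x⁻¹ ∈ ncl X Z := by
  unfold ncl at hy
  induction hy using Subgroup.closure_induction with
  | mem y hy =>
    obtain ⟨x', hx', z, hz, rfl⟩ := hy
    have h1 : x * (x' * z * x'⁻¹) * x⁻¹ = (x * x') * z * (x * x')⁻¹ := by group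
    rw [h1]
    exact conj_mem_ncl (X.mul_mem hx hx') hz
  | one => simp [Subgroup.one_mem]
  | mul a b _ _ iha ihb =>
    have h1 : x * (a * b) * x⁻¹ = (x * a * x⁻¹) * (x * b * x⁻¹) := by group
    rw [h1]
    exact Subgroup.mul_mem _ iha ihb
  | inv a _ iha =>
    have h1 : x * a⁻¹ * x⁻¹ = (x * a * x⁻¹)⁻¹ := by group
    rw [h1]
    exact Subgroup.inv_mem _ iha

theorem le_normalizer_ncl (X : Subgroup G) (Z : Set G) :
    X ≤ Subgroup.normalizer ((ncl X Z : Subgroup G) : Set G) :=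
  le_normalizer_of_forall_conj_mem (fun _ hg _ hx => conj_mem_ncl_of_mem hg hx)

theorem ncl_le_of_forall {X Y : Subgroup G} {Z : Set G}
    (h : ∀ x ∈ X, ∃ n ∈ Y, ∀ z ∈ Z, x * z * x⁻¹ = n * z * n⁻¹) : ncl X Z ≤ ncl Y Z := by
  unfold ncl
  rw [Subgroup.closure_le]
  rintro y ⟨x, hx, z, hz, rfl⟩
  obtain ⟨n, hn, hnz⟩ := h x hx
  rw [hnz z hz]
  exact conj_mem_ncl hn hz

/-- The normalizer of a subgroup normalizes its centralizer. -/
theorem normalizer_le_normalizer_centralizer_tri (U : Subgroup G) :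
    Subgroup.normalizer (U : Set G) ≤
      Subgroup.normalizer ((Subgroup.centralizer (U : Set G) : Subgroup G) : Set G) := by
  apply le_normalizer_of_forall_conj_mem
  intro n hn c hc
  rw [Subgroup.mem_centralizer_iff]
  intro u hu
  have h1 : n⁻¹ * u * n ∈ U := by
    have := (Subgroup.mem_normalizer_iff.mp (Subgroup.inv_mem _ hn) u).mp hu
    simpa using this
  have h2 := Subgroup.mem_centralizer_iff.mp hc _ h1
  calc u * (n * c * n⁻¹) = n * ((n⁻¹ * u * n) * c) * n⁻¹ := by group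
    _ = n * (c * (n⁻¹ * u * n)) * n⁻¹ := by rw [h2]
    _ = n * c * n⁻¹ * u := by group

theorem le_normalizer_inf_of_le {X A B : Subgroup G} (hA : X ≤ Subgroup.normalizer (A : Set G))
    (hB : X ≤ Subgroup.normalizer (B : Set G)) :
    X ≤ Subgroup.normalizer ((A ⊓ B : Subgroup G) : Set G) := by
  apply le_normalizer_of_forall_conj_mem
  intro g hg x hx
  obtain ⟨hxA, hxB⟩ := Subgroup.mem_inf.1 hx
  exact Subgroup.mem_inf.2 ⟨(Subgroup.mem_normalizer_iff.mp (hA hg) x).mp hxA,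
    (Subgroup.mem_normalizer_iff.mp (hB hg) x).mp hxB⟩

end ncl

section frattini

variable {G : Type*} [Group G] [Finite G] {p : ℕ} [hp : Fact p.Prime]

local notation:max K "^[" g "]" => Subgroup.map (MulEquiv.toMonoidHom (MulAut.conj g)) K

/-- A Sylow subgroup has `p'`-index in every subgroup containing it. -/
theorem sylow_not_dvd_relIndex (S : Sylow p G) (H : Subgroup G) (hSH : (S : Subgroup G) ≤ H) :
    ¬ p ∣ (S : Subgroup G).relIndex H := by
  intro h
  apply S.not_dvd_index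
  rw [← Subgroup.relIndex_mul_index hSH]
  exact Dvd.dvd.mul_right h _

/-- The Frattini argument relative to a subgroup `X ≤ N(U)` containing the Sylow subgroup `S`:
every element of `X` acts on `U` like an element of `X` normalizing `C_S(U)`. -/
theorem frattini_rel (S : Sylow p G) (X U : Subgroup G) (hSX : (S : Subgroup G) ≤ X)
    (hXU : X ≤ Subgroup.normalizer (U : Set G)) (y : G) (hy : y ∈ X) :
    ∃ n ∈ X, n ∈ Subgroup.normalizer
        ((((S : Subgroup G) ⊓ Subgroup.centralizer (U : Set G) : Subgroup G)) : Set G) ∧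
      ∀ a ∈ U, n * a * n⁻¹ = y * a * y⁻¹ := by
  obtain ⟨C, hC⟩ : ∃ C : Subgroup G, C = Subgroup.centralizer (U : Set G) := ⟨_, rfl⟩
  obtain ⟨K, hK⟩ : ∃ K : Subgroup G, K = X ⊓ C := ⟨_, rfl⟩
  obtain ⟨CS, hCS⟩ : ∃ CS : Subgroup G, CS = (S : Subgroup G) ⊓ C := ⟨_, rfl⟩
  rw [← hC, ← hCS]
  have hXC : X ≤ Subgroup.normalizer (C : Set G) := by
    rw [hC]; exact hXU.trans (normalizer_le_normalizer_centralizer_tri U)
  have hXK : X ≤ Subgroup.normalizer (K : Set G) := by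
    rw [hK]; exact le_normalizer_inf_of_le Subgroup.le_normalizer hXC
  have hCSp : IsPGroup p CS := S.isPGroup'.to_le (by rw [hCS]; exact inf_le_left)
  have hCSK : CS ≤ K := by rw [hCS, hK]; exact inf_le_inf_right _ hSX
  have hKX : K ≤ X := by rw [hK]; exact inf_le_left
  have hKC : K ≤ C := by rw [hK]; exact inf_le_right
  have hCSy : CS^[y] ≤ K := by
    rw [← (mem_normalizer_iff_map_conj K y).mp (hXK hy)]
    exact Subgroup.map_mono hCSK
  have hi : ¬ p ∣ (S : Subgroup G).relIndex ((S : Subgroup G) ⊔ K) :=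
    sylow_not_dvd_relIndex S _ le_sup_left
  obtain ⟨m, hm, hmle⟩ := pgroup_conj_into_relSylow ((S : Subgroup G) ⊔ K) (CS^[y]) (S : Subgroup G)
    (hCSy.trans le_sup_right) (hCSp.map _) S.isPGroup' hi
  have hmem : m ∈ (((S : Subgroup G) ⊔ K : Subgroup G) : Set G) := hm
  rw [Subgroup.coe_mul_of_left_le_normalizer_right (S : Subgroup G) K (hSX.trans hXK)] at hmem
  obtain ⟨q, hq, c, hc, hqc⟩ := Set.mem_mul.mp hmem
  have hq : q ∈ (S : Subgroup G) := hq
  have hc : c ∈ K := hc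
  have hcyX : c * y ∈ X := X.mul_mem (hKX hc) hy
  have h1 : CS^[c * y] ≤ (S : Subgroup G) := by
    intro x hx
    rw [map_conj_mul] at hx
    have h2 : q * x * q⁻¹ ∈ (CS^[y])^[m] := by
      rw [← hqc, map_conj_mul]
      exact conj_mem_map_conj _ q x hx
    have h3 := hmle h2
    have h4 : x = q⁻¹ * (q * x * q⁻¹) * q := by group
    rw [h4]
    exact Subgroup.mul_mem _ (Subgroup.mul_mem _ (Subgroup.inv_mem _ hq) h3) hq
  have h2 : CS^[c * y] ≤ C := by
    rw [← (mem_normalizer_iff_map_conj C (c * y)).mp (hXC hcyX)]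
    exact Subgroup.map_mono (hCSK.trans hKC)
  have h3 : CS^[c * y] = CS := by
    apply Subgroup.eq_of_le_of_card_ge
    · have h5 : CS^[c * y] ≤ (S : Subgroup G) ⊓ C := le_inf h1 h2
      rwa [← hCS] at h5
    · rw [card_map_conj]
  refine ⟨c * y, hcyX, (mem_normalizer_iff_map_conj CS (c * y)).mpr h3, ?_⟩
  intro a ha
  have hya : y * a * y⁻¹ ∈ U := (Subgroup.mem_normalizer_iff.mp (hXU hy) a).mp ha
  have hcC : c ∈ Subgroup.centralizer (U : Set G) := by rw [← hC]; exact hKC hc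
  have h4 := Subgroup.mem_centralizer_iff.mp hcC _ hya
  calc c * y * a * (c * y)⁻¹ = c * (y * a * y⁻¹) * c⁻¹ := by group
    _ = (y * a * y⁻¹) * c * c⁻¹ := by rw [h4]
    _ = y * a * y⁻¹ := by group

end frattini

section tri

variable {G : Type*} [Group G] [Finite G] {p : ℕ} [hp : Fact p.Prime]

/-- The asymmetric case: `V'` is normal in `X`. -/
theorem tri_caseC (S : Sylow p G) (V' V : Subgroup G) (Z : Set G)
    (hZV' : Z ⊆ (V' : Set G)) (hV'S : V' ≤ (S : Subgroup G))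
    (hZC : ∀ z ∈ Z, ∀ s ∈ (S : Subgroup G), s * z = z * s)
    (X : Subgroup G) (hSX : (S : Subgroup G) ≤ X) (hXV' : X ≤ Subgroup.normalizer (V' : Set G))
    (HF : ∀ P₀ : Subgroup G, P₀ ≤ (S : Subgroup G) → X ≤ Subgroup.normalizer (P₀ : Set G) →
      (S : Subgroup G) ⊓ Subgroup.centralizer (P₀ : Set G) ≤ P₀ →
      ∀ x ∈ X, ∃ n ∈ X ⊓ Subgroup.normalizer (V : Set G), ∀ z ∈ Z, x * z * x⁻¹ = n * z * n⁻¹)
    (IH : ∀ M : Subgroup G, (S : Subgroup G) ≤ M → M < X →
      ncl (M ⊓ Subgroup.normalizer (V' : Set G)) Z = ncl (M ⊓ Subgroup.normalizer (V : Set G)) Z) :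
    ncl X Z ≤ ncl (X ⊓ Subgroup.normalizer (V : Set G)) Z := by
  obtain ⟨A', hA'⟩ : ∃ A' : Subgroup G, A' = ncl X Z := ⟨_, rfl⟩
  have hZA' : Z ⊆ (A' : Set G) := by rw [hA']; exact subset_ncl X Z
  have hA'V' : A' ≤ V' := by rw [hA']; exact ncl_le hZV' hXV'
  have hA'C : A' ≤ Subgroup.centralizer (V' : Set G) := by
    rw [hA']
    apply ncl_le _ (hXV'.trans (normalizer_le_normalizer_centralizer_tri V'))
    intro z hz
    show z ∈ Subgroup.centralizer (V' : Set G)
    rw [Subgroup.mem_centralizer_iff]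
    intro v hv
    exact hZC z hz v (hV'S hv)
  have hXA' : X ≤ Subgroup.normalizer (A' : Set G) := by rw [hA']; exact le_normalizer_ncl X Z
  obtain ⟨P₀, hP₀⟩ : ∃ P₀ : Subgroup G,
      P₀ = (S : Subgroup G) ⊓ Subgroup.centralizer (A' : Set G) := ⟨_, rfl⟩
  have hV'P₀ : V' ≤ P₀ := by
    rw [hP₀]
    exact le_inf hV'S (Subgroup.le_centralizer_iff.mp hA'C)
  have hA'P₀ : A' ≤ P₀ := hA'V'.trans hV'P₀
  have hP₀S : P₀ ≤ (S : Subgroup G) := by rw [hP₀]; exact inf_le_left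
  have hCP₀ : (S : Subgroup G) ⊓ Subgroup.centralizer (P₀ : Set G) ≤ P₀ := by
    rw [hP₀]
    apply inf_le_inf_left
    apply Subgroup.centralizer_le
    rw [← hP₀]
    exact hA'P₀
  obtain ⟨M, hM⟩ : ∃ M : Subgroup G, M = X ⊓ Subgroup.normalizer (P₀ : Set G) := ⟨_, rfl⟩
  have hSP₀ : (S : Subgroup G) ≤ Subgroup.normalizer (P₀ : Set G) := by
    rw [hP₀]
    exact le_normalizer_inf_of_le Subgroup.le_normalizer
      ((hSX.trans hXA').trans (normalizer_le_normalizer_centralizer_tri A'))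
  have hSM : (S : Subgroup G) ≤ M := by rw [hM]; exact le_inf hSX hSP₀
  have hMX : M ≤ X := by rw [hM]; exact inf_le_left
  have h1 : ncl X Z ≤ ncl M Z := by
    apply ncl_le_of_forall
    intro x hx
    obtain ⟨n, hnX, hnP, hna⟩ := frattini_rel S X A' hSX hXA' x hx
    refine ⟨n, ?_, fun z hz => (hna z (hZA' hz)).symm⟩
    rw [hM]
    refine Subgroup.mem_inf.2 ⟨hnX, ?_⟩
    rw [hP₀]
    exact hnP
  by_cases hMeq : M = X
  · have hXP₀ : X ≤ Subgroup.normalizer (P₀ : Set G) := by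
      rw [← hMeq, hM]; exact inf_le_right
    exact ncl_le_of_forall (HF P₀ hP₀S hXP₀ hCP₀)
  · have hlt : M < X := lt_of_le_of_ne hMX hMeq
    have h2 := IH M hSM hlt
    have h3 : M ⊓ Subgroup.normalizer (V' : Set G) = M := inf_eq_left.mpr (hMX.trans hXV')
    rw [h3] at h2
    refine h1.trans ?_
    rw [h2]
    exact ncl_mono (inf_le_inf_right _ hMX) Z

/-- The triple factorization argument: the two closures agree. -/
theorem tri_main (S : Sylow p G) (V₁ V₂ : Subgroup G) (Z : Set G)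
    (hZ₁ : Z ⊆ (V₁ : Set G)) (hZ₂ : Z ⊆ (V₂ : Set G))
    (hV₁S : V₁ ≤ (S : Subgroup G)) (hV₂S : V₂ ≤ (S : Subgroup G))
    (hSV₁ : (S : Subgroup G) ≤ Subgroup.normalizer (V₁ : Set G))
    (hSV₂ : (S : Subgroup G) ≤ Subgroup.normalizer (V₂ : Set G))
    (hZC : ∀ z ∈ Z, ∀ s ∈ (S : Subgroup G), s * z = z * s)
    (HF₁ : ∀ X : Subgroup G, (S : Subgroup G) ≤ X → ∀ P₀ : Subgroup G, P₀ ≤ (S : Subgroup G) →
      X ≤ Subgroup.normalizer (P₀ : Set G) →
      (S : Subgroup G) ⊓ Subgroup.centralizer (P₀ : Set G) ≤ P₀ →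
      ∀ x ∈ X, ∃ n ∈ X ⊓ Subgroup.normalizer (V₁ : Set G), ∀ z ∈ Z, x * z * x⁻¹ = n * z * n⁻¹)
    (HF₂ : ∀ X : Subgroup G, (S : Subgroup G) ≤ X → ∀ P₀ : Subgroup G, P₀ ≤ (S : Subgroup G) →
      X ≤ Subgroup.normalizer (P₀ : Set G) →
      (S : Subgroup G) ⊓ Subgroup.centralizer (P₀ : Set G) ≤ P₀ →
      ∀ x ∈ X, ∃ n ∈ X ⊓ Subgroup.normalizer (V₂ : Set G), ∀ z ∈ Z, x * z * x⁻¹ = n * z * n⁻¹) :
    ∀ (k : ℕ) (X : Subgroup G), Nat.card X = k → (S : Subgroup G) ≤ X →
      ncl (X ⊓ Subgroup.normalizer (V₁ : Set G)) Z = ncl (X ⊓ Subgroup.normalizer (V₂ : Set G)) Z := by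
  intro k
  induction k using Nat.strong_induction_on with
  | _ k IH =>
    intro X hXk hSX
    have IH' : ∀ M : Subgroup G, (S : Subgroup G) ≤ M → M < X →
        ncl (M ⊓ Subgroup.normalizer (V₁ : Set G)) Z =
          ncl (M ⊓ Subgroup.normalizer (V₂ : Set G)) Z := by
      intro M hSM hlt
      exact IH (Nat.card M) (by rw [← hXk]; exact card_lt_card_of_lt hlt) M rfl hSM
    by_cases h1 : X ≤ Subgroup.normalizer (V₁ : Set G)
    · by_cases h2 : X ≤ Subgroup.normalizer (V₂ : Set G)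
      · rw [inf_eq_left.mpr h1, inf_eq_left.mpr h2]
      · rw [inf_eq_left.mpr h1]
        apply le_antisymm
        · exact tri_caseC S V₁ V₂ Z hZ₁ hV₁S hZC X hSX h1 (HF₂ X hSX) IH'
        · exact ncl_mono inf_le_left Z
    · by_cases h2 : X ≤ Subgroup.normalizer (V₂ : Set G)
      · rw [inf_eq_left.mpr h2]
        apply le_antisymm
        · exact ncl_mono inf_le_left Z
        · exact tri_caseC S V₂ V₁ Z hZ₂ hV₂S hZC X hSX h2 (HF₁ X hSX)
            (fun M hSM hlt => (IH' M hSM hlt).symm)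
      · have hlt₁ : X ⊓ Subgroup.normalizer (V₁ : Set G) < X :=
          lt_of_le_of_ne inf_le_left (fun h => h1 (inf_eq_left.mp h))
        have hlt₂ : X ⊓ Subgroup.normalizer (V₂ : Set G) < X :=
          lt_of_le_of_ne inf_le_left (fun h => h2 (inf_eq_left.mp h))
        have e1 := IH' _ (le_inf hSX hSV₁) hlt₁
        have e2 := IH' _ (le_inf hSX hSV₂) hlt₂
        rw [show X ⊓ Subgroup.normalizer (V₁ : Set G) ⊓ Subgroup.normalizer (V₁ : Set G) =
          X ⊓ Subgroup.normalizer (V₁ : Set G) from by rw [inf_assoc, inf_idem]] at e1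
        rw [show X ⊓ Subgroup.normalizer (V₂ : Set G) ⊓ Subgroup.normalizer (V₂ : Set G) =
          X ⊓ Subgroup.normalizer (V₂ : Set G) from by rw [inf_assoc, inf_idem]] at e2
        rw [e1, ← e2, inf_right_comm]

end tri

end Cfsg.Agent.helper10
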