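import Mathlib
import Cfsg.Prelude.Def_PLocal
import Cfsg.Agent.Lib_helper10_Sec6
import Cfsg.Agent.Lib_helper7_Quot
import Cfsg.Agent.Lib_helper10_Tri1

set_option autoImplicit false

/-!
# The local factorization hypothesis for the triple factorization argument

From the factorization `X* = C(Ω₁Z(T)) N(W(T))` in constrained sections we derive: if `P₀ ≤ S` is
normal in `X ≥ S` with `C_S(P₀) ≤ P₀`, then every `x ∈ X` acts on `Ω₁Z(S)` like an element of
`N_X(W(S))`.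
-/

namespace Cfsg.Agent.helper10

universe u

section facz

variable {p : ℕ} [hp : Fact p.Prime]

/-- The factorization `Q = C(Ω₁Z(T)) N(W(T))` for every Sylow `p`-subgroup `T` of `Q`. -/
def FacZ (p : ℕ) (W : ∀ (Q : Type u) [Group Q], Subgroup Q) (Q : Type u) [Group Q] : Prop :=
  ∀ T : Sylow p Q, ∀ x : Q,
    ∃ a ∈ Subgroup.centralizer ((Cfsg.omegaOne p ((T : Subgroup Q) ⊓
        Subgroup.centralizer ((T : Subgroup Q) : Set Q)) : Subgroup Q) : Set Q),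
      ∃ b ∈ Subgroup.normalizer
        ((Cfsg.inducedFunctor (G := Q) W (T : Subgroup Q) : Subgroup Q) : Set Q), x = a * b

/-- If a normal `p`-subgroup `P₀ ≤ S` satisfies `C_S(P₀) ≤ P₀` then `Y / O_{p'}(Y)` is
constrained. -/
theorem constrained_of_centric {Y : Type u} [Group Y] [Finite Y] (S : Sylow p Y)
    (P₀ : Subgroup Y) [hP₀n : P₀.Normal] (hP₀S : P₀ ≤ (S : Subgroup Y))
    (hC : (S : Subgroup Y) ⊓ Subgroup.centralizer (P₀ : Set Y) ≤ P₀) :
    haveI := Cfsg.Agent.helper1.pPrimeCore_normal (G := Y) p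
    Constrained p (Y ⧸ Cfsg.pPrimeCore p Y) := by
  haveI hDn := Cfsg.Agent.helper1.pPrimeCore_normal (G := Y) p
  have hDcop : (Nat.card (Cfsg.pPrimeCore p Y)).Coprime p :=
    Cfsg.Agent.helper1.pPrimeCore_coprime p
  obtain ⟨D, hD⟩ : ∃ D : Subgroup Y, D = Cfsg.pPrimeCore p Y := ⟨_, rfl⟩
  by_contra hnc
  have hsurj : Function.Surjective (QuotientGroup.mk' (Cfsg.pPrimeCore p Y)) :=
    QuotientGroup.mk'_surjective _
  apply not_le_pCore_of_not_constrained (S.mapSurjective hsurj)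
    (Cfsg.Agent.helper7.pPrimeCore_quotient_eq_bot hp.out) hnc
  rw [Sylow.coe_mapSurjective]
  haveI hPn : (Cfsg.pCore p (Y ⧸ Cfsg.pPrimeCore p Y)).Normal := Cfsg.Agent.helper1.pCore_normal p
  have hP₀p : IsPGroup p P₀ := S.isPGroup'.to_le hP₀S
  have hP₀le : P₀.map (QuotientGroup.mk' (Cfsg.pPrimeCore p Y)) ≤
      Cfsg.pCore p (Y ⧸ Cfsg.pPrimeCore p Y) :=
    Cfsg.Agent.helper1.le_pCore (Subgroup.Normal.map hP₀n _ hsurj) (hP₀p.map _)
  have hPS : Cfsg.pCore p (Y ⧸ Cfsg.pPrimeCore p Y) ≤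
      (S : Subgroup Y).map (QuotientGroup.mk' (Cfsg.pPrimeCore p Y)) := by
    have := Cfsg.Agent.helper1.pCore_le_sylow (S.mapSurjective hsurj)
    rwa [Sylow.coe_mapSurjective] at this
  intro y hy
  obtain ⟨hyS, hyPC⟩ := Subgroup.mem_inf.1 hy
  obtain ⟨u, hu, c, hc, rfl⟩ := Subgroup.mem_sup_of_normal_left.mp hyPC
  have hcS : c ∈ (S : Subgroup Y).map (QuotientGroup.mk' (Cfsg.pPrimeCore p Y)) := by
    have h1 : c = u⁻¹ * (u * c) := by group
    rw [h1]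
    exact Subgroup.mul_mem _ (Subgroup.inv_mem _ (hPS hu)) hyS
  obtain ⟨s, hs, rfl⟩ := hcS
  have hsC : s ∈ Subgroup.centralizer (P₀ : Set Y) := by
    rw [Subgroup.mem_centralizer_iff]
    intro u₀ hu₀
    have h1 := Subgroup.mem_centralizer_iff.mp hc _ (hP₀le ⟨u₀, hu₀, rfl⟩)
    have h2 : ((u₀ * s : Y) : Y ⧸ Cfsg.pPrimeCore p Y) = ((s * u₀ : Y) : Y ⧸ Cfsg.pPrimeCore p Y) := h1
    have h3 : (u₀ * s)⁻¹ * (s * u₀) ∈ Cfsg.pPrimeCore p Y := QuotientGroup.eq.mp h2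
    have h4 : (u₀ * s)⁻¹ * (s * u₀) ∈ P₀ := by
      have e : (u₀ * s)⁻¹ * (s * u₀) = s⁻¹ * u₀⁻¹ * s⁻¹⁻¹ * u₀ := by group
      rw [e]
      exact P₀.mul_mem (hP₀n.conj_mem _ (P₀.inv_mem hu₀) _) hu₀
    have h5 := eq_one_of_mem_of_coprime P₀ (Cfsg.pPrimeCore p Y) hP₀p hDcop _ h4 h3
    exact (inv_mul_eq_one.mp h5)
  have hsP₀ : s ∈ P₀ := hC (Subgroup.mem_inf.2 ⟨hs, hsC⟩)
  exact Subgroup.mul_mem _ hu (hP₀le ⟨s, hsP₀, rfl⟩)

/-- The abstract form of the local factorization hypothesis. -/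
theorem hf_abstract {Y Q : Type u} [Group Y] [Finite Y] [Group Q] (S : Sylow p Y)
    (W : ∀ (Q : Type u) [Group Q], Subgroup Q) (hW : Cfsg.IsCharPFunctor.{u} p W)
    (P₀ : Subgroup Y) [hP₀n : P₀.Normal] (hP₀S : P₀ ≤ (S : Subgroup Y))
    (hC : (S : Subgroup Y) ⊓ Subgroup.centralizer (P₀ : Set Y) ≤ P₀)
    (π : Y →* Q) (hπ : Function.Surjective π) (hker : π.ker = Cfsg.pPrimeCore p Y)
    (hq : Constrained p Q → FacZ p W Q) (x : Y) :
    ∃ n ∈ Subgroup.normalizer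
        ((Cfsg.inducedFunctor (G := Y) W (S : Subgroup Y) : Subgroup Y) : Set Y),
      ∀ z ∈ (S : Subgroup Y), (∀ s ∈ (S : Subgroup Y), s * z = z * s) → z ^ p = 1 →
        x * z * x⁻¹ = n * z * n⁻¹ := by
  haveI : Finite Q := Finite.of_surjective π hπ
  haveI hDn := Cfsg.Agent.helper1.pPrimeCore_normal (G := Y) p
  have hDcop : (Nat.card (Cfsg.pPrimeCore p Y)).Coprime p :=
    Cfsg.Agent.helper1.pPrimeCore_coprime p
  have hcon : Constrained p Q := by
    have e : (Y ⧸ Cfsg.pPrimeCore p Y) ≃* Q :=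
      (QuotientGroup.quotientMulEquivOfEq hker.symm).trans
        (QuotientGroup.quotientKerEquivOfSurjective π hπ)
    exact constrained_iso e (constrained_of_centric S P₀ hP₀S hC)
  have hfz := hq hcon
  obtain ⟨D, hD⟩ : ∃ D : Subgroup Y, D = Cfsg.pPrimeCore p Y := ⟨_, rfl⟩
  rw [← hD] at hker hDcop
  haveI hDn' : D.Normal := by rw [hD]; exact hDn
  obtain ⟨T, hT⟩ : ∃ T : Sylow p Q, (T : Subgroup Q) = (S : Subgroup Y).map π :=
    ⟨S.mapSurjective hπ, Sylow.coe_mapSurjective hπ S⟩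
  obtain ⟨V, hV⟩ : ∃ V : Subgroup Y, V = Cfsg.inducedFunctor (G := Y) W (S : Subgroup Y) :=
    ⟨_, rfl⟩
  rw [← hV]
  have hcf := induced_isConjugacyFunctor (X := Y) W hW
  have hVS : V ≤ (S : Subgroup Y) := by rw [hV]; exact (hcf (S : Subgroup Y) S.isPGroup').1
  have hSV : (S : Subgroup Y) ≤ Subgroup.normalizer (V : Set Y) := by
    rw [hV]; exact sylow_le_normalizer_functor _ hcf (S : Subgroup Y) S.isPGroup'
  have hinj : ∀ s ∈ (S : Subgroup Y), π s = 1 → s = 1 := by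
    intro s hs hs1
    have hsD : s ∈ D := by rw [← hker]; exact hs1
    exact eq_one_of_mem_of_coprime (S : Subgroup Y) D S.isPGroup' hDcop s hs hsD
  have hVT : Cfsg.inducedFunctor (G := Q) W (T : Subgroup Q) = V.map π := by
    rw [hT, hV]
    exact induced_map_of_injOn W hW π (S : Subgroup Y) S.isPGroup' hinj
  obtain ⟨a, ha, b, hb, hab⟩ := hfz T (π x)⁻¹
  rw [hVT] at hb
  obtain ⟨e, he⟩ := hπ b⁻¹
  have hcomap : V ⊔ D = (V.map π).comap π := by rw [Subgroup.comap_map_eq, hker]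
  have he_norm : e ∈ Subgroup.normalizer ((V ⊔ D : Subgroup Y) : Set Y) := by
    rw [hcomap, Subgroup.mem_normalizer_iff]
    intro h
    rw [Subgroup.mem_comap, Subgroup.mem_comap, map_mul, map_mul, map_inv, he]
    exact Subgroup.mem_normalizer_iff.mp (Subgroup.inv_mem _ hb) (π h)
  obtain ⟨d, hdN, hdD, -⟩ := correct_step S D hDcop V hVS hSV e he_norm ∅
    (Set.empty_subset _) (by simp [lconj])
  have hπd : π d = b⁻¹ := by
    have h1 : π (d * e⁻¹) = 1 := by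
      have : d * e⁻¹ ∈ π.ker := by rw [hker]; exact hdD
      exact this
    rw [map_mul, map_inv, he, inv_inv] at h1
    exact eq_inv_of_mul_eq_one_left h1
  refine ⟨d, hdN, ?_⟩
  intro z hzS hzc hzp
  have hP₀p : IsPGroup p P₀ := S.isPGroup'.to_le hP₀S
  -- the image of `z` lies in `Ω₁Z(T)`
  have hz1 : π z ∈ Cfsg.omegaOne p ((T : Subgroup Q) ⊓
      Subgroup.centralizer ((T : Subgroup Q) : Set Q)) := by
    apply Subgroup.subset_closure
    refine ⟨Subgroup.mem_inf.2 ⟨?_, ?_⟩, ?_⟩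
    · rw [hT]; exact Subgroup.mem_map_of_mem _ hzS
    · rw [Subgroup.mem_centralizer_iff]
      intro t ht
      have ht' : t ∈ (S : Subgroup Y).map π := by rw [← hT]; exact ht
      obtain ⟨s, hs, rfl⟩ := ht'
      rw [← map_mul, ← map_mul, hzc s hs]
    · rw [← map_pow, hzp, map_one]
  have haz : π z * a = a * π z := Subgroup.mem_centralizer_iff.mp ha _ hz1
  have hπx : π x = (a * b)⁻¹ := by rw [← hab, inv_inv]
  have hkey : π (x * z * x⁻¹) = π (d * z * d⁻¹) := by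
    rw [map_mul, map_mul, map_inv, map_mul, map_mul, map_inv, hπx, hπd]
    have e1 : (a * b)⁻¹ * π z * (a * b)⁻¹⁻¹ = b⁻¹ * (a⁻¹ * (π z * a)) * b := by group
    rw [e1, haz]
    group
  have hzP₀ : z ∈ P₀ := by
    apply hC
    refine Subgroup.mem_inf.2 ⟨hzS, ?_⟩
    rw [Subgroup.mem_centralizer_iff]
    intro u hu
    exact hzc u (hP₀S hu)
  have h3 : (x * z * x⁻¹)⁻¹ * (d * z * d⁻¹) ∈ D := by
    rw [← hker]
    show π ((x * z * x⁻¹)⁻¹ * (d * z * d⁻¹)) = 1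
    rw [map_mul, map_inv, hkey, inv_mul_cancel]
  have h4 : (x * z * x⁻¹)⁻¹ * (d * z * d⁻¹) ∈ P₀ :=
    P₀.mul_mem (P₀.inv_mem (hP₀n.conj_mem _ hzP₀ _)) (hP₀n.conj_mem _ hzP₀ _)
  have h5 := eq_one_of_mem_of_coprime P₀ D hP₀p hDcop _ h4 h3
  exact inv_mul_eq_one.mp h5

/-- The local factorization hypothesis inside a group `G`, from the hypothesis on sections. -/
theorem hf_in_G {G : Type u} [Group G] [Finite G] (S : Sylow p G)
    (W : ∀ (Q : Type u) [Group Q], Subgroup Q) (hW : Cfsg.IsCharPFunctor.{u} p W)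
    (hfacW : ∀ (K R : Subgroup G) [hR : (R.subgroupOf K).Normal],
      Constrained p (↥K ⧸ R.subgroupOf K) → FacZ p W (↥K ⧸ R.subgroupOf K))
    (X : Subgroup G) (hSX : (S : Subgroup G) ≤ X) (P₀ : Subgroup G)
    (hP₀S : P₀ ≤ (S : Subgroup G)) (hXP₀ : X ≤ Subgroup.normalizer (P₀ : Set G))
    (hC : (S : Subgroup G) ⊓ Subgroup.centralizer (P₀ : Set G) ≤ P₀) (x : G) (hx : x ∈ X) :
    ∃ n ∈ X ⊓ Subgroup.normalizer
        ((Cfsg.inducedFunctor (G := G) W (S : Subgroup G) : Subgroup G) : Set G),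
      ∀ z ∈ {z : G | z ∈ (S : Subgroup G) ⊓ Subgroup.centralizer ((S : Subgroup G) : Set G) ∧
        z ^ p = 1}, x * z * x⁻¹ = n * z * n⁻¹ := by
  obtain ⟨SY, hSY⟩ : ∃ SY : Sylow p ↥X, (SY : Subgroup ↥X) = (S : Subgroup G).subgroupOf X :=
    ⟨S.subtype hSX, Sylow.coe_subtype S hSX⟩
  haveI hP₀n : (P₀.subgroupOf X).Normal :=
    (Subgroup.normal_subgroupOf_iff_le_normalizer (hP₀S.trans hSX)).mpr hXP₀
  haveI hDn := Cfsg.Agent.helper1.pPrimeCore_normal (G := ↥X) p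
  obtain ⟨R, hR⟩ : ∃ R : Subgroup G, R = (Cfsg.pPrimeCore p ↥X).map X.subtype := ⟨_, rfl⟩
  have hRk : R.subgroupOf X = Cfsg.pPrimeCore p ↥X := by
    rw [hR]
    exact Subgroup.comap_map_eq_self_of_injective X.subtype_injective _
  haveI hRn : (R.subgroupOf X).Normal := by rw [hRk]; exact hDn
  have hker : (QuotientGroup.mk' (R.subgroupOf X)).ker = Cfsg.pPrimeCore p ↥X := by
    rw [QuotientGroup.ker_mk']; exact hRk
  have hP₀S' : P₀.subgroupOf X ≤ (SY : Subgroup ↥X) := by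
    rw [hSY]
    intro y hy
    exact Subgroup.mem_subgroupOf.mpr (hP₀S (Subgroup.mem_subgroupOf.mp hy))
  have hC' : (SY : Subgroup ↥X) ⊓ Subgroup.centralizer ((P₀.subgroupOf X : Subgroup ↥X) : Set ↥X) ≤
      P₀.subgroupOf X := by
    intro y hy
    obtain ⟨hyS, hyC⟩ := Subgroup.mem_inf.1 hy
    rw [hSY] at hyS
    apply Subgroup.mem_subgroupOf.mpr
    apply hC
    refine Subgroup.mem_inf.2 ⟨Subgroup.mem_subgroupOf.mp hyS, ?_⟩
    rw [Subgroup.mem_centralizer_iff]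
    intro u hu
    have hu' : (⟨u, hSX (hP₀S hu)⟩ : ↥X) ∈ P₀.subgroupOf X := Subgroup.mem_subgroupOf.mpr hu
    have := Subgroup.mem_centralizer_iff.mp hyC _ hu'
    exact congrArg Subtype.val this
  obtain ⟨n, hn, hnz⟩ := hf_abstract SY W hW (P₀.subgroupOf X) hP₀S' hC'
    (QuotientGroup.mk' (R.subgroupOf X)) (QuotientGroup.mk'_surjective _) hker (hfacW X R) ⟨x, hx⟩
  refine ⟨(n : G), Subgroup.mem_inf.2 ⟨n.2, ?_⟩, ?_⟩
  · have h1 := induced_map_of_injOn W hW X.subtype (SY : Subgroup ↥X) SY.isPGroup'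
      (fun y _ hy => by
        apply Subtype.ext
        simpa using hy)
    have h2 : (SY : Subgroup ↥X).map X.subtype = (S : Subgroup G) := by
      rw [hSY]; exact Subgroup.map_subgroupOf_eq_of_le hSX
    rw [h2] at h1
    rw [h1]
    exact Subgroup.le_normalizer_map X.subtype ⟨n, hn, rfl⟩
  · rintro z ⟨hz, hzp⟩
    obtain ⟨hzS, hzC⟩ := Subgroup.mem_inf.1 hz
    have h1 := hnz ⟨z, hSX hzS⟩ (by rw [hSY]; exact Subgroup.mem_subgroupOf.mpr hzS)
      (by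
        intro s hs
        rw [hSY] at hs
        apply Subtype.ext
        exact Subgroup.mem_centralizer_iff.mp hzC _ (Subgroup.mem_subgroupOf.mp hs))
      (by
        apply Subtype.ext
        simpa using hzp)
    have h2 := congrArg Subtype.val h1
    simpa using h2

end facz

end Cfsg.Agent.helper10
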