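import Mathlib
import Cfsg.Agent.Lib_helper10_Tri2

set_option autoImplicit false

/-!
# Auxiliary lemmas for the strongly closed abelian subgroup theorem
-/

namespace Cfsg.Agent.helper10

section aux

variable {G : Type*} [Group G]

theorem reach_mem_closure {N S A : Set G} {c : G} (h : Reach N S A c) :
    c ∈ Subgroup.closure N := by
  induction h with
  | refl _ => exact Subgroup.one_mem _
  | step g d _ hd _ ih => exact Subgroup.mul_mem _ (Subgroup.subset_closure hd) ih

/-- The normal closure in `N₁` of the subgroup generated by `Z₀`, viewed in `G`, is `ncl N₁ Z₀`. -/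
theorem normalClosure_map_eq_ncl (N₁ : Subgroup G) (Z₀ : Set G) (hZN : Z₀ ⊆ (N₁ : Set G)) :
    (Subgroup.normalClosure (((Subgroup.closure Z₀).subgroupOf N₁ : Subgroup ↥N₁) : Set ↥N₁)).map
      N₁.subtype = ncl N₁ Z₀ := by
  have hle : ncl N₁ Z₀ ≤ N₁ := ncl_le hZN Subgroup.le_normalizer
  apply le_antisymm
  · rw [Subgroup.map_le_iff_le_comap]
    haveI : ((ncl N₁ Z₀).subgroupOf N₁).Normal :=
      (Subgroup.normal_subgroupOf_iff_le_normalizer hle).mpr (le_normalizer_ncl N₁ Z₀)
    have h1 : Subgroup.normalClosure (((Subgroup.closure Z₀).subgroupOf N₁ : Subgroup ↥N₁) : Set ↥N₁) ≤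
        (ncl N₁ Z₀).subgroupOf N₁ := by
      apply Subgroup.normalClosure_le_normal
      intro y hy
      have hy' : (y : G) ∈ Subgroup.closure Z₀ := Subgroup.mem_subgroupOf.mp hy
      apply Subgroup.mem_subgroupOf.mpr
      exact (Subgroup.closure_le _).mpr (subset_ncl N₁ Z₀) hy'
    exact h1
  · unfold ncl
    rw [Subgroup.closure_le]
    rintro y ⟨n, hn, z, hz, rfl⟩
    refine ⟨(⟨n, hn⟩ : ↥N₁) * ⟨z, hZN hz⟩ * (⟨n, hn⟩ : ↥N₁)⁻¹, ?_, rfl⟩
    apply Subgroup.normalClosure_normal.conj_mem
    apply Subgroup.subset_normalClosure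
    exact Subgroup.mem_subgroupOf.mpr (Subgroup.subset_closure hz)

/-- In a commutative `ncl`, generated by elements of order dividing `p`, every element has order
dividing `p`. -/
theorem pow_eq_one_of_mem_ncl {X : Subgroup G} {Z : Set G} {p : ℕ}
    (hcomm : ∀ a ∈ ncl X Z, ∀ b ∈ ncl X Z, a * b = b * a) (hZ : ∀ z ∈ Z, z ^ p = 1) :
    ∀ a ∈ ncl X Z, a ^ p = 1 := by
  intro a ha
  unfold ncl at ha
  induction ha using Subgroup.closure_induction with
  | mem y hy =>
    obtain ⟨x, _, z, hz, rfl⟩ := hy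
    rw [conj_pow, hZ z hz]
    group
  | one => exact one_pow p
  | mul a b ha hb iha ihb =>
    have hc : Commute a b := hcomm a ha b hb
    rw [hc.mul_pow, iha, ihb, one_mul]
  | inv a ha iha => rw [inv_pow, iha, inv_one]

end aux

end Cfsg.Agent.helper10
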