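import Mathlib
import Cfsg.Agent.Lib_helper19_HH1

set_option autoImplicit false
set_option linter.style.haveILetI false

namespace Cfsg.Agent.helper21

open scoped commutatorElement

/-- (Ito / Isaacs) A finite `p`-group in which all non-central elements have centralizers of the
same index `n` has central quotient of exponent `p`. -/
theorem pow_mem_center_of_two_class_sizes' {G : Type*} [Group G] [Finite G] (p : ℕ) [Fact p.Prime]
    (hQ : IsPGroup p (G ⧸ Subgroup.center G)) (n : ℕ)
    (h : ∀ x : G, x ∉ Subgroup.center G → (Subgroup.centralizer ({x} : Set G)).index = n) (x : G) :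
    x ^ p ∈ Subgroup.center G := by
  classical
  by_contra hx
  have hxZ : x ∉ Subgroup.center G := fun hh => hx (Subgroup.pow_mem _ hh _)
  have hn0 : n ≠ 0 := by
    rw [← h x hxZ]; exact Subgroup.index_ne_zero_of_finite
  -- Step 0
  have step0 : ∀ u v : G, u ∉ Subgroup.center G → v ∉ Subgroup.center G →
      Subgroup.centralizer ({u} : Set G) ≤ Subgroup.centralizer {v} →
      Subgroup.centralizer ({u} : Set G) = Subgroup.centralizer {v} := by
    intro u v hu hv hle
    have h1 := h u hu
    have h2 := h v hv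
    have h3 := Subgroup.relIndex_mul_index hle
    rw [h1, h2] at h3
    have h4 : (Subgroup.centralizer ({u} : Set G)).relIndex (Subgroup.centralizer {v}) = 1 := by
      have : (Subgroup.centralizer ({u} : Set G)).relIndex (Subgroup.centralizer {v}) * n = 1 * n := by
        rw [h3, one_mul]
      exact Nat.eq_of_mul_eq_mul_right (Nat.pos_of_ne_zero hn0) this
    exact le_antisymm hle (Subgroup.relIndex_eq_one.mp h4)
  -- central elements
  have hcen : ∀ z : G, z ∈ Subgroup.center G → ∀ g : G, g * z = z * g := fun z hz g =>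
    (Subgroup.mem_center_iff.mp hz g)
  -- existence of w
  obtain ⟨w, hwZ, hwp, hw2⟩ : ∃ w : G, w ∉ Subgroup.center G ∧ w ^ p ∈ Subgroup.center G ∧
      ∀ g : G, ⁅w, g⁆ ∈ Subgroup.center G := by
    haveI : Nontrivial (G ⧸ Subgroup.center G) := by
      refine ⟨⟨(x : G ⧸ Subgroup.center G), 1, ?_⟩⟩
      intro heq; exact hxZ ((QuotientGroup.eq_one_iff x).mp heq)
    haveI := hQ.center_nontrivial
    obtain ⟨⟨vb, hvb⟩, hvb1⟩ := exists_ne (1 : Subgroup.center (G ⧸ Subgroup.center G))
    obtain ⟨v, rfl⟩ := QuotientGroup.mk_surjective vb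
    set Z2 : Subgroup G := (Subgroup.center (G ⧸ Subgroup.center G)).comap
      (QuotientGroup.mk' (Subgroup.center G)) with hZ2
    have hvZ2 : v ∈ Z2 := hvb
    have hvZ : v ∉ Subgroup.center G := fun hh =>
      hvb1 (Subtype.ext ((QuotientGroup.eq_one_iff v).mpr hh))
    have hex : ∃ k : ℕ, v ^ (p ^ k) ∈ Subgroup.center G := by
      obtain ⟨k, hk⟩ := hQ (v : G ⧸ Subgroup.center G)
      refine ⟨k, ?_⟩
      rw [← QuotientGroup.eq_one_iff]
      exact hk
    have hj0 : Nat.find hex ≠ 0 := by
      intro h0
      have := Nat.find_spec hex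
      rw [h0, pow_zero, pow_one] at this
      exact hvZ this
    obtain ⟨j, hj⟩ := Nat.exists_eq_succ_of_ne_zero hj0
    refine ⟨v ^ (p ^ j), ?_, ?_, ?_⟩
    · intro hh
      exact Nat.find_min hex (m := j) (by omega) hh
    · rw [← pow_mul, ← pow_succ, ← Nat.succ_eq_add_one, ← hj]
      exact Nat.find_spec hex
    · intro g
      have hw : v ^ (p ^ j) ∈ Z2 := Subgroup.pow_mem _ hvZ2 _
      have hw' : (QuotientGroup.mk' (Subgroup.center G)) (v ^ (p ^ j)) ∈
          Subgroup.center (G ⧸ Subgroup.center G) := hw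
      rw [Subgroup.mem_center_iff] at hw'
      have h3 := hw' ((QuotientGroup.mk' (Subgroup.center G)) g)
      rw [← QuotientGroup.eq_one_iff]
      show ((QuotientGroup.mk' (Subgroup.center G)) ⁅v ^ p ^ j, g⁆) = 1
      rw [map_commutatorElement, commutatorElement_eq_one_iff_commute]
      exact h3.symm
  -- the commutator hom
  have hmul : ∀ a b : G, ⁅w, a * b⁆ = ⁅w, a⁆ * ⁅w, b⁆ := by
    intro a b
    have hz := hcen _ (hw2 b) a⁻¹
    rw [commutatorElement_def, commutatorElement_def, commutatorElement_def] at *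
    calc w * (a * b) * w⁻¹ * (a * b)⁻¹
        = w * a * w⁻¹ * (a⁻¹ * (w * b * w⁻¹ * b⁻¹)) * a * a⁻¹ * (a * a⁻¹) := by
          rw [hz]; group
      _ = w * a * w⁻¹ * a⁻¹ * (w * b * w⁻¹ * b⁻¹) := by group
  let cw : G →* G := MonoidHom.mk' (fun g => ⁅w, g⁆) hmul
  have hcw : ∀ g, cw g = ⁅w, g⁆ := fun g => rfl
  have hker : Subgroup.centralizer ({w} : Set G) = cw.ker := by
    ext g
    rw [Subgroup.mem_centralizer_singleton_iff, MonoidHom.mem_ker, hcw,
      commutatorElement_eq_one_iff_commute]
    exact ⟨fun h1 => h1.symm, fun h1 => h1.symm⟩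
  have hCwN : (Subgroup.centralizer ({w} : Set G)).Normal := by
    rw [hker]; exact MonoidHom.normal_ker cw
  have hpowC : ∀ g : G, g ^ p ∈ Subgroup.centralizer ({w} : Set G) := by
    intro g
    rw [hker, MonoidHom.mem_ker, map_pow, hcw]
    have hc : Commute ⁅w, g⁆ w := ((hcen _ (hw2 g) w)).symm
    rw [← Cfsg.Agent.helper19.commutatorElement_pow_left w g hc p,
      commutatorElement_eq_one_iff_commute]
    exact (hcen _ hwp g).symm
  -- Step 4
  have hC1 : Subgroup.centralizer ({x} : Set G) = Subgroup.centralizer {x ^ p} := by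
    refine step0 x (x ^ p) hxZ hx ?_
    intro c hc
    rw [Subgroup.mem_centralizer_singleton_iff] at hc ⊢
    exact ((Commute.pow_right (show Commute c x from hc) p)).eq
  have hwx : w * x = x * w := by
    have h1 : x ^ p ∈ Subgroup.centralizer ({w} : Set G) := hpowC x
    rw [Subgroup.mem_centralizer_singleton_iff] at h1
    have h2 : w ∈ Subgroup.centralizer ({x ^ p} : Set G) := by
      rw [Subgroup.mem_centralizer_singleton_iff]; exact h1.symm
    rw [← hC1, Subgroup.mem_centralizer_singleton_iff] at h2
    exact h2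
  have hxwp : (x * w) ^ p = x ^ p * w ^ p := (show Commute x w from hwx.symm).mul_pow p
  have hxwpZ : (x * w) ^ p ∉ Subgroup.center G := by
    intro hh
    rw [hxwp] at hh
    apply hx
    have := Subgroup.mul_mem _ hh (Subgroup.inv_mem _ hwp)
    rwa [mul_inv_cancel_right] at this
  have hxwZ : x * w ∉ Subgroup.center G := fun hh => hxwpZ (Subgroup.pow_mem _ hh _)
  have hC2 : Subgroup.centralizer ({x * w} : Set G) = Subgroup.centralizer {(x * w) ^ p} := by
    refine step0 (x * w) ((x * w) ^ p) hxwZ hxwpZ ?_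
    intro c hc
    rw [Subgroup.mem_centralizer_singleton_iff] at hc ⊢
    exact ((Commute.pow_right (show Commute c (x * w) from hc) p)).eq
  have hCxw : Subgroup.centralizer ({x} : Set G) = Subgroup.centralizer {w} := by
    refine step0 x w hxZ hwZ ?_
    intro c hc
    have hc1 : c ∈ Subgroup.centralizer ({x ^ p} : Set G) := by rw [← hC1]; exact hc
    rw [Subgroup.mem_centralizer_singleton_iff] at hc hc1
    have hc2 : c ∈ Subgroup.centralizer ({(x * w) ^ p} : Set G) := by
      rw [Subgroup.mem_centralizer_singleton_iff, hxwp, ← mul_assoc, hc1, mul_assoc,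
        hcen _ hwp c, mul_assoc]
    rw [← hC2, Subgroup.mem_centralizer_singleton_iff] at hc2
    rw [Subgroup.mem_centralizer_singleton_iff]
    -- c * (x * w) = x * w * c, c * x = x * c
    have : x * (c * w) = x * (w * c) := by
      rw [← mul_assoc, ← hc, mul_assoc, hc2, mul_assoc]
    exact mul_left_cancel this
  -- C := C(x)
  set C : Subgroup G := Subgroup.centralizer ({x} : Set G) with hCdef
  have hCN : C.Normal := by rw [hCxw]; exact hCwN
  have hpC : ∀ g : G, g ^ p ∈ C := by rw [hCxw]; exact hpowC
  have hCindex : C.index = n := h x hxZ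
  have hZC : Subgroup.center G ≤ C := by
    intro z hz
    rw [hCdef, Subgroup.mem_centralizer_singleton_iff]
    exact (hcen z hz x).symm
  -- conjugates of x
  have hconjC : ∀ g : G, Subgroup.centralizer ({g * x * g⁻¹} : Set G) = C := by
    intro g
    ext c
    rw [Subgroup.mem_centralizer_singleton_iff]
    constructor
    · intro hc
      have h1 : g⁻¹ * c * g ∈ C := by
        rw [hCdef, Subgroup.mem_centralizer_singleton_iff]
        calc g⁻¹ * c * g * x = g⁻¹ * (c * (g * x * g⁻¹)) * g := by group
          _ = g⁻¹ * (g * x * g⁻¹ * c) * g := by rw [hc]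
          _ = x * (g⁻¹ * c * g) := by group
      have := hCN.conj_mem _ h1 g
      simpa [mul_assoc] using this
    · intro hc
      have h1 : g⁻¹ * c * g⁻¹⁻¹ ∈ C := hCN.conj_mem _ hc g⁻¹
      rw [inv_inv, hCdef, Subgroup.mem_centralizer_singleton_iff] at h1
      calc c * (g * x * g⁻¹) = g * (g⁻¹ * c * g * x) * g⁻¹ := by group
        _ = g * (x * (g⁻¹ * c * g)) * g⁻¹ := by rw [h1]
        _ = g * x * g⁻¹ * c := by group
  have hconjZ : ∀ g : G, g * x * g⁻¹ ∉ Subgroup.center G := by
    intro g hh
    apply hxZ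
    have := (Subgroup.center G).normal_of_characteristic.conj_mem _ hh g⁻¹
    simpa [mul_assoc] using this
  -- Step 9
  have step9 : ∀ g : G, ∀ z ∈ Subgroup.center G, g * x * g⁻¹ = x * z → g ∈ C := by
    intro g z hz hg
    have hpow : ∀ k : ℕ, g ^ k * x * (g ^ k)⁻¹ = x * z ^ k := by
      intro k
      induction k with
      | zero => simp
      | succ k ih =>
        calc g ^ (k + 1) * x * (g ^ (k + 1))⁻¹ = g * (g ^ k * x * (g ^ k)⁻¹) * g⁻¹ := by
              rw [pow_succ']; group
          _ = g * (x * z ^ k) * g⁻¹ := by rw [ih]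
          _ = (g * x * g⁻¹) * (g * z ^ k * g⁻¹) := by group
          _ = (x * z) * z ^ k := by
              rw [hg, hcen _ (Subgroup.pow_mem _ hz k) g, mul_inv_cancel_right]
          _ = x * z ^ (k + 1) := by rw [pow_succ', mul_assoc]
    have hzp : z ^ p = 1 := by
      have h1 := hpow p
      have h2 : g ^ p ∈ C := hpC g
      rw [hCdef, Subgroup.mem_centralizer_singleton_iff] at h2
      have h3 : g ^ p * x * (g ^ p)⁻¹ = x := by rw [h2, mul_inv_cancel_right]
      rw [h3] at h1
      exact (mul_eq_left.mp h1.symm)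
    have h4 : g * x ^ p * g⁻¹ = x ^ p := by
      have : g * x ^ p * g⁻¹ = (g * x * g⁻¹) ^ p := by rw [conj_pow]
      rw [this, hg, (show Commute x z from (hcen z hz x)).mul_pow, hzp, mul_one]
    have h5 : g ∈ Subgroup.centralizer ({x ^ p} : Set G) := by
      rw [Subgroup.mem_centralizer_singleton_iff]
      calc g * x ^ p = (g * x ^ p * g⁻¹) * g := by group
        _ = x ^ p * g := by rw [h4]
    rw [← hC1] at h5
    exact h5
  -- pick t ∉ C
  have hCtop : C ≠ ⊤ := by
    intro htop
    apply hxZ
    rw [Subgroup.mem_center_iff]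
    intro g
    have : g ∈ C := by rw [htop]; exact Subgroup.mem_top g
    rw [hCdef, Subgroup.mem_centralizer_singleton_iff] at this
    exact this
  obtain ⟨t, htC⟩ : ∃ t : G, t ∉ C := by
    by_contra hne
    exact hCtop (eq_top_iff.mpr fun g _ => by_contra fun hg => hne ⟨g, hg⟩)
  have htZ : t ∉ Subgroup.center G := fun hh => htC (hZC hh)
  have htindex : (Subgroup.centralizer ({t} : Set G)).index = n := h t htZ
  -- key: elements commuting with all of C and with t are central
  have hkey : ∀ y : G, (∀ c ∈ C, c * y = y * c) → t * y = y * t → y ∈ Subgroup.center G := by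
    intro y hy hty
    by_contra hyZ
    have hle : C ≤ Subgroup.centralizer ({y} : Set G) := by
      intro c hc
      rw [Subgroup.mem_centralizer_singleton_iff]; exact hy c hc
    have heq := step0 x y hxZ hyZ hle
    apply htC
    rw [hCdef, heq, Subgroup.mem_centralizer_singleton_iff]
    exact hty
  -- the pigeonhole map
  let F : Option (G ⧸ C) → G ⧸ Subgroup.centralizer ({t} : Set G) := fun o =>
    match o with
    | none => ((1 : G) : G ⧸ Subgroup.centralizer ({t} : Set G))
    | some q => ((q.out * x * q.out⁻¹ : G) : G ⧸ Subgroup.centralizer ({t} : Set G))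
  have hcard : Nat.card (G ⧸ Subgroup.centralizer ({t} : Set G)) < Nat.card (Option (G ⧸ C)) := by
    rw [Finite.card_option]
    have h1 : Nat.card (G ⧸ Subgroup.centralizer ({t} : Set G)) = n := htindex
    have h2 : Nat.card (G ⧸ C) = n := hCindex
    omega
  -- a conjugate of x does not commute with t
  have hnone : ∀ q : G ⧸ C, F (some q) ≠ F none := by
    intro q hq
    have h1 : ((q.out * x * q.out⁻¹ : G) : G ⧸ Subgroup.centralizer ({t} : Set G)) =
        ((1 : G) : G ⧸ Subgroup.centralizer ({t} : Set G)) := hq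
    rw [QuotientGroup.eq, mul_one, Subgroup.inv_mem_iff,
      Subgroup.mem_centralizer_singleton_iff] at h1
    apply htC
    rw [← hconjC q.out, Subgroup.mem_centralizer_singleton_iff]
    exact h1.symm
  have hsome : ∀ q q' : G ⧸ C, F (some q) = F (some q') → q = q' := by
    intro q q' hq
    have h1 : ((q.out * x * q.out⁻¹ : G) : G ⧸ Subgroup.centralizer ({t} : Set G)) =
        ((q'.out * x * q'.out⁻¹ : G) : G ⧸ Subgroup.centralizer ({t} : Set G)) := hq
    rw [QuotientGroup.eq, Subgroup.mem_centralizer_singleton_iff] at h1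
    set g := q.out with hg
    set g' := q'.out with hg'
    set y := (g * x * g⁻¹)⁻¹ * (g' * x * g'⁻¹) with hy
    have hyC : ∀ c ∈ C, c * y = y * c := by
      intro c hc
      have h2 : c ∈ Subgroup.centralizer ({g * x * g⁻¹} : Set G) := by rw [hconjC g]; exact hc
      have h3 : c ∈ Subgroup.centralizer ({g' * x * g'⁻¹} : Set G) := by rw [hconjC g']; exact hc
      rw [Subgroup.mem_centralizer_singleton_iff] at h2 h3
      have h2' : c * (g * x * g⁻¹)⁻¹ = (g * x * g⁻¹)⁻¹ * c :=
        ((show Commute c (g * x * g⁻¹) from h2).inv_right).eq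
      rw [hy, ← mul_assoc, h2', mul_assoc, h3]
      simp only [mul_assoc]
    have hyZ : y ∈ Subgroup.center G := hkey y hyC h1.symm
    have h4 : g' * x * g'⁻¹ = g * x * g⁻¹ * y := by rw [hy]; group
    have h5 : (g⁻¹ * g') * x * (g⁻¹ * g')⁻¹ = x * y := by
      calc (g⁻¹ * g') * x * (g⁻¹ * g')⁻¹ = g⁻¹ * (g' * x * g'⁻¹) * g := by group
        _ = g⁻¹ * (g * x * g⁻¹ * y) * g := by rw [h4]
        _ = x * (g⁻¹ * (y * g)) := by group
        _ = x * (g⁻¹ * (g * y)) := by rw [hcen y hyZ g]
        _ = x * y := by group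
    have h6 : g⁻¹ * g' ∈ C := step9 _ y hyZ h5
    have h7 : ((g : G) : G ⧸ C) = ((g' : G) : G ⧸ C) := QuotientGroup.eq.mpr h6
    rw [hg, hg', QuotientGroup.out_eq', QuotientGroup.out_eq'] at h7
    exact h7
  have hinj : Function.Injective F := by
    intro o1 o2 hF
    cases o1 with
    | none =>
      cases o2 with
      | none => rfl
      | some q => exact absurd hF.symm (hnone q)
    | some q =>
      cases o2 with
      | none => exact absurd hF (hnone q)
      | some q' => rw [hsome q q' hF]
  have := Nat.card_le_card_of_injective F hinj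
  omega

/-- (Ito / Isaacs) A finite `p`-group in which all non-central elements have centralizers of the
same index `n` has central quotient of exponent `p`. -/
theorem pow_mem_center_of_two_class_sizes {G : Type*} [Group G] [Finite G] (p : ℕ) [Fact p.Prime]
    (hG : IsPGroup p G) (n : ℕ)
    (h : ∀ x : G, x ∉ Subgroup.center G → (Subgroup.centralizer ({x} : Set G)).index = n) (x : G) :
    x ^ p ∈ Subgroup.center G :=
  pow_mem_center_of_two_class_sizes' p (hG.to_quotient _) n h x

end Cfsg.Agent.helper21
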