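import Mathlib
import Cfsg.Agent.Lib_helper21_TwoClass

set_option autoImplicit false
set_option linter.style.haveILetI false

namespace Cfsg.Agent.helper21

section Ito

variable {G : Type*} [Group G]

/-- Bezout: if `a ^ s` and `a ^ t` lie in `H` for coprime `s`, `t`, then `a ∈ H`. -/
theorem ito_mem_of_pow_mem_of_coprime (H : Subgroup G) (a : G) (s t : ℕ) (hst : s.Coprime t)
    (hs : a ^ s ∈ H) (ht : a ^ t ∈ H) : a ∈ H := by
  obtain ⟨u, v, huv⟩ := (Nat.isCoprime_iff_coprime.mpr hst)
  have : a = (a ^ s) ^ u * (a ^ t) ^ v := by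
    rw [← zpow_natCast, ← zpow_natCast, ← zpow_mul, ← zpow_mul, ← zpow_add,
      mul_comm (s : ℤ), mul_comm (t : ℤ), huv, zpow_one]
  rw [this]
  exact H.mul_mem (H.zpow_mem hs u) (H.zpow_mem ht v)

variable [Finite G]

/-- A non-central element has a non-central power of prime power order. -/
theorem exists_primePow_noncentral_pow (g : G) (hg : g ∉ Subgroup.center G) :
    ∃ (k s j : ℕ), s.Prime ∧ 1 ≤ j ∧ orderOf (g ^ k) = s ^ j ∧ g ^ k ∉ Subgroup.center G := by
  classical
  have hex : ∃ m : ℕ, ∃ k : ℕ, g ^ k ∉ Subgroup.center G ∧ orderOf (g ^ k) = m :=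
    ⟨orderOf (g ^ 1), 1, by simpa using hg, rfl⟩
  obtain ⟨k, hk, hm0⟩ := Nat.find_spec hex
  set m0 := Nat.find hex with hm0def
  have hmin : ∀ m < m0, ∀ k' : ℕ, g ^ k' ∉ Subgroup.center G → orderOf (g ^ k') ≠ m := by
    intro m hm k' hk' ho
    exact Nat.find_min hex hm ⟨k', hk', ho⟩
  have hm0pos : 0 < m0 := by rw [← hm0]; exact orderOf_pos _
  have hm01 : m0 ≠ 1 := by
    intro h1
    rw [h1, orderOf_eq_one_iff] at hm0
    rw [hm0] at hk
    exact hk (Subgroup.one_mem _)
  set s := m0.minFac with hs
  have hsp : s.Prime := Nat.minFac_prime hm01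
  set a := s ^ m0.factorization s with ha
  set b := m0 / a with hb
  have hab : a * b = m0 := Nat.ordProj_mul_ordCompl_eq_self m0 s
  have hcop : a.Coprime b := by
    rw [ha, hb]
    exact (Nat.coprime_ordCompl hsp hm0pos.ne').pow_left _
  have hj : 1 ≤ m0.factorization s :=
    (hsp.factorization_pos_of_dvd hm0pos.ne' (Nat.minFac_dvd m0))
  have ha2 : 2 ≤ a := by
    rw [ha]
    calc 2 ≤ s := hsp.two_le
      _ = s ^ 1 := (pow_one s).symm
      _ ≤ s ^ m0.factorization s := Nat.pow_le_pow_right hsp.pos hj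
  by_cases hb1 : b = 1
  · refine ⟨k, s, m0.factorization s, hsp, hj, ?_, hk⟩
    have hma : m0 = a := by rw [← hab, hb1, mul_one]
    rw [hm0]
    exact hma
  · exfalso
    have hbpos : 0 < b := by
      rcases Nat.eq_zero_or_pos b with h0 | h0
      · rw [h0, mul_zero] at hab; omega
      · exact h0
    have hb2 : 2 ≤ b := by omega
    have halt : a < m0 := by nlinarith
    have hblt : b < m0 := by nlinarith
    -- orders of powers
    have ho1 : orderOf ((g ^ k) ^ a) = b := by
      rw [orderOf_pow' _ (by omega : a ≠ 0), hm0, ← hab, Nat.gcd_mul_right_left,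
        Nat.mul_div_cancel_left _ (by omega : 0 < a)]
    have ho2 : orderOf ((g ^ k) ^ b) = a := by
      rw [orderOf_pow' _ (by omega : b ≠ 0), hm0, ← hab, Nat.gcd_mul_left_left,
        Nat.mul_div_cancel _ hbpos]
    have h1 : (g ^ k) ^ a ∈ Subgroup.center G := by
      by_contra hn
      rw [← pow_mul] at hn ho1
      exact hmin b hblt (k * a) hn ho1
    have h2 : (g ^ k) ^ b ∈ Subgroup.center G := by
      by_contra hn
      rw [← pow_mul] at hn ho2
      exact hmin a halt (k * b) hn ho2
    exact hk (ito_mem_of_pow_mem_of_coprime _ _ a b hcop h1 h2)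

variable (n : ℕ) (h : ∀ x : G, x ∉ Subgroup.center G → (Subgroup.centralizer ({x} : Set G)).index = n)
include h

theorem ito_centralizer_eq_of_le {u v : G} (hu : u ∉ Subgroup.center G)
    (hv : v ∉ Subgroup.center G)
    (hle : Subgroup.centralizer ({u} : Set G) ≤ Subgroup.centralizer {v}) :
    Subgroup.centralizer ({u} : Set G) = Subgroup.centralizer {v} := by
  have h1 := h u hu
  have h2 := h v hv
  have hn0 : n ≠ 0 := by rw [← h1]; exact Subgroup.index_ne_zero_of_finite
  have h3 := Subgroup.relIndex_mul_index hle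
  rw [h1, h2] at h3
  have h4 : (Subgroup.centralizer ({u} : Set G)).relIndex (Subgroup.centralizer {v}) = 1 := by
    have : (Subgroup.centralizer ({u} : Set G)).relIndex (Subgroup.centralizer {v}) * n = 1 * n := by
      rw [h3, one_mul]
    exact Nat.eq_of_mul_eq_mul_right (Nat.pos_of_ne_zero hn0) this
  exact le_antisymm hle (Subgroup.relIndex_eq_one.mp h4)

omit [Finite G] h in
theorem mem_of_mul_mem_of_coprime (H : Subgroup G) {x y : G} (hxy : Commute x y)
    (hco : (orderOf x).Coprime (orderOf y)) (hm : x * y ∈ H) : x ∈ H := by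
  have h1 : (x * y) ^ orderOf y ∈ H := H.pow_mem hm _
  rw [hxy.mul_pow, pow_orderOf_eq_one, mul_one] at h1
  have h2 : x ^ orderOf x ∈ H := by rw [pow_orderOf_eq_one]; exact H.one_mem
  exact ito_mem_of_pow_mem_of_coprime H x _ _ hco.symm h1 h2

theorem ito_centralizer_eq_of_commute_coprime {x y : G} (hx : x ∉ Subgroup.center G)
    (hy : y ∉ Subgroup.center G) (hxy : Commute x y)
    (hco : (orderOf x).Coprime (orderOf y)) :
    Subgroup.centralizer ({x} : Set G) = Subgroup.centralizer {y} := by
  have hxyZ : x * y ∉ Subgroup.center G := fun hm =>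
    hx (mem_of_mul_mem_of_coprime _ hxy hco hm)
  have h1 : Subgroup.centralizer ({x * y} : Set G) ≤ Subgroup.centralizer {x} := by
    intro c hc
    rw [Subgroup.mem_centralizer_singleton_iff] at hc ⊢
    have : x * y ∈ Subgroup.centralizer ({c} : Set G) := by
      rw [Subgroup.mem_centralizer_singleton_iff]; exact hc.symm
    have := mem_of_mul_mem_of_coprime _ hxy hco this
    rw [Subgroup.mem_centralizer_singleton_iff] at this
    exact this.symm
  have h2 : Subgroup.centralizer ({x * y} : Set G) ≤ Subgroup.centralizer {y} := by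
    intro c hc
    rw [Subgroup.mem_centralizer_singleton_iff] at hc ⊢
    have : y * x ∈ Subgroup.centralizer ({c} : Set G) := by
      rw [Subgroup.mem_centralizer_singleton_iff, ← hxy.eq]; exact hc.symm
    have := mem_of_mul_mem_of_coprime _ hxy.symm hco.symm this
    rw [Subgroup.mem_centralizer_singleton_iff] at this
    exact this.symm
  rw [← ito_centralizer_eq_of_le n h hxyZ hx h1, ito_centralizer_eq_of_le n h hxyZ hy h2]

theorem ito_centralizer_abelian_of_pair {x y : G} {q r i j : ℕ} (hq : q.Prime) (hr : r.Prime)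
    (hqr : q ≠ r) (hx : x ∉ Subgroup.center G) (hy : y ∉ Subgroup.center G) (hxy : Commute x y)
    (hox : orderOf x = q ^ i) (hoy : orderOf y = r ^ j) :
    ∀ a ∈ Subgroup.centralizer ({x} : Set G), ∀ b ∈ Subgroup.centralizer ({x} : Set G),
      a * b = b * a := by
  have hqrc : Nat.Coprime q r := (Nat.coprime_primes hq hr).mpr hqr
  have hcop : (orderOf x).Coprime (orderOf y) := by
    rw [hox, hoy]; exact Nat.Coprime.pow _ _ hqrc
  have hCxy := ito_centralizer_eq_of_commute_coprime n h hx hy hxy hcop
  intro a ha b hb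
  have hgoal : a ∈ Subgroup.centralizer ({b} : Set G) := by
    have hNpos : 0 < orderOf a := orderOf_pos a
    have hqm : q ^ (orderOf a).factorization q * (orderOf a / q ^ (orderOf a).factorization q) =
        orderOf a := Nat.ordProj_mul_ordCompl_eq_self (orderOf a) q
    have hcq : Nat.Coprime q (orderOf a / q ^ (orderOf a).factorization q) :=
      Nat.coprime_ordCompl hq hNpos.ne'
    apply ito_mem_of_pow_mem_of_coprime _ a (orderOf a / q ^ (orderOf a).factorization q)
      (q ^ (orderOf a).factorization q) (hcq.pow_left _).symm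
    · by_cases hz : a ^ (orderOf a / q ^ (orderOf a).factorization q) ∈ Subgroup.center G
      · rw [Subgroup.mem_centralizer_singleton_iff]
        exact (Subgroup.mem_center_iff.mp hz b).symm
      · have ho : orderOf (a ^ (orderOf a / q ^ (orderOf a).factorization q)) ∣
            q ^ (orderOf a).factorization q := by
          apply orderOf_dvd_of_pow_eq_one
          rw [← pow_mul, mul_comm, hqm, pow_orderOf_eq_one]
        obtain ⟨k', _, hk'⟩ := (Nat.dvd_prime_pow hq).mp ho
        have hmem : a ^ (orderOf a / q ^ (orderOf a).factorization q) ∈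
            Subgroup.centralizer ({y} : Set G) := by
          rw [← hCxy]; exact Subgroup.pow_mem _ ha _
        have hcomm : Commute (a ^ (orderOf a / q ^ (orderOf a).factorization q)) y := by
          rw [Subgroup.mem_centralizer_singleton_iff] at hmem; exact hmem
        have hcop3 : (orderOf (a ^ (orderOf a / q ^ (orderOf a).factorization q))).Coprime
            (orderOf y) := by
          rw [hk', hoy]; exact Nat.Coprime.pow _ _ hqrc
        have heq := ito_centralizer_eq_of_commute_coprime n h hz hy hcomm hcop3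
        have hb' : b ∈ Subgroup.centralizer
            ({a ^ (orderOf a / q ^ (orderOf a).factorization q)} : Set G) := by
          rw [heq, ← hCxy]; exact hb
        rw [Subgroup.mem_centralizer_singleton_iff] at hb' ⊢
        exact hb'.symm
    · by_cases hz : a ^ (q ^ (orderOf a).factorization q) ∈ Subgroup.center G
      · rw [Subgroup.mem_centralizer_singleton_iff]
        exact (Subgroup.mem_center_iff.mp hz b).symm
      · have ho : orderOf (a ^ (q ^ (orderOf a).factorization q)) ∣
            orderOf a / q ^ (orderOf a).factorization q := by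
          apply orderOf_dvd_of_pow_eq_one
          rw [← pow_mul, hqm, pow_orderOf_eq_one]
        have hmem : a ^ (q ^ (orderOf a).factorization q) ∈
            Subgroup.centralizer ({x} : Set G) := Subgroup.pow_mem _ ha _
        have hcomm : Commute (a ^ (q ^ (orderOf a).factorization q)) x := by
          rw [Subgroup.mem_centralizer_singleton_iff] at hmem; exact hmem
        have hcop3 : (orderOf (a ^ (q ^ (orderOf a).factorization q))).Coprime (orderOf x) := by
          rw [hox]
          exact Nat.Coprime.coprime_dvd_left ho ((hcq.pow_left i).symm)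
        have heq := ito_centralizer_eq_of_commute_coprime n h hz hx hcomm hcop3
        have hb' : b ∈ Subgroup.centralizer
            ({a ^ (q ^ (orderOf a).factorization q)} : Set G) := by
          rw [heq]; exact hb
        rw [Subgroup.mem_centralizer_singleton_iff] at hb' ⊢
        exact hb'.symm
  rw [Subgroup.mem_centralizer_singleton_iff] at hgoal
  exact hgoal

omit [Finite G] h in
theorem ito_center_le_centralizer (x : G) :
    Subgroup.center G ≤ Subgroup.centralizer ({x} : Set G) := by
  intro z hz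
  rw [Subgroup.mem_centralizer_singleton_iff]
  exact (Subgroup.mem_center_iff.mp hz x).symm

omit [Finite G] in
/-- the common value `c` of `|C(g) : Z|`. -/
theorem ito_relIndex_mul {g : G} (hg : g ∉ Subgroup.center G) :
    (Subgroup.center G).relIndex (Subgroup.centralizer ({g} : Set G)) * n =
      (Subgroup.center G).index := by
  have := Subgroup.relIndex_mul_index (ito_center_le_centralizer g)
  rw [h g hg] at this
  exact this

omit [Finite G] h in
theorem ito_prime_dvd_relIndex {x : G} {q i : ℕ} (hq : q.Prime) (hx : x ∉ Subgroup.center G)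
    (hox : orderOf x = q ^ i) :
    q ∣ (Subgroup.center G).relIndex (Subgroup.centralizer ({x} : Set G)) := by
  set xb : ↥(Subgroup.centralizer ({x} : Set G)) ⧸
      (Subgroup.center G).subgroupOf (Subgroup.centralizer ({x} : Set G)) :=
    QuotientGroup.mk ⟨x, Subgroup.mem_centralizer_singleton_iff.mpr rfl⟩ with hxb
  have hxb1 : xb ≠ 1 := by
    intro h1
    rw [hxb, QuotientGroup.eq_one_iff, Subgroup.mem_subgroupOf] at h1
    exact hx h1
  have hxbpow : xb ^ (q ^ i) = 1 := by
    rw [hxb, ← QuotientGroup.mk_pow, QuotientGroup.eq_one_iff, Subgroup.mem_subgroupOf]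
    simp only [Subgroup.coe_pow]
    rw [← hox, pow_orderOf_eq_one]
    exact Subgroup.one_mem _
  obtain ⟨t, _, ht⟩ := (Nat.dvd_prime_pow hq).mp (orderOf_dvd_of_pow_eq_one hxbpow)
  have ht0 : t ≠ 0 := by
    intro h0
    rw [h0, pow_zero, orderOf_eq_one_iff] at ht
    exact hxb1 ht
  have h1 : q ∣ orderOf xb := by rw [ht]; exact dvd_pow_self q ht0
  exact h1.trans (orderOf_dvd_natCard xb)

theorem ito_exists_q_element {x : G} {q i : ℕ} (hq : q.Prime) (hx : x ∉ Subgroup.center G)
    (hox : orderOf x = q ^ i) {g : G} (hg : g ∉ Subgroup.center G) :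
    ∃ (u : G) (l : ℕ), u ∉ Subgroup.center G ∧ Commute g u ∧ orderOf u = q ^ l := by
  classical
  haveI := Fact.mk hq
  have hn0 : 0 < n := by
    rw [← h x hx]; exact Nat.pos_of_ne_zero Subgroup.index_ne_zero_of_finite
  have hceq : (Subgroup.center G).relIndex (Subgroup.centralizer ({x} : Set G)) =
      (Subgroup.center G).relIndex (Subgroup.centralizer ({g} : Set G)) := by
    have h1 := ito_relIndex_mul n h hx
    have h2 := ito_relIndex_mul n h hg
    exact Nat.eq_of_mul_eq_mul_right hn0 (h1.trans h2.symm)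
  have hqc := ito_prime_dvd_relIndex hq hx hox
  rw [hceq] at hqc
  obtain ⟨ub, hub⟩ := exists_prime_orderOf_dvd_card' (G := ↥(Subgroup.centralizer ({g} : Set G)) ⧸
        (Subgroup.center G).subgroupOf (Subgroup.centralizer ({g} : Set G))) q hqc
  obtain ⟨u0, rfl⟩ := QuotientGroup.mk_surjective ub
  have hNpos : 0 < orderOf (u0 : G) := orderOf_pos _
  have hqm : q ^ (orderOf (u0 : G)).factorization q *
      (orderOf (u0 : G) / q ^ (orderOf (u0 : G)).factorization q) = orderOf (u0 : G) :=
    Nat.ordProj_mul_ordCompl_eq_self _ q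
  have hcq : Nat.Coprime q (orderOf (u0 : G) / q ^ (orderOf (u0 : G)).factorization q) :=
    Nat.coprime_ordCompl hq hNpos.ne'
  have ho : orderOf ((u0 : G) ^ (orderOf (u0 : G) / q ^ (orderOf (u0 : G)).factorization q)) ∣
      q ^ (orderOf (u0 : G)).factorization q := by
    apply orderOf_dvd_of_pow_eq_one
    rw [← pow_mul, mul_comm, hqm, pow_orderOf_eq_one]
  obtain ⟨l, _, hl⟩ := (Nat.dvd_prime_pow hq).mp ho
  refine ⟨(u0 : G) ^ (orderOf (u0 : G) / q ^ (orderOf (u0 : G)).factorization q), l, ?_, ?_, hl⟩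
  · intro hz
    have h1 : (QuotientGroup.mk u0 : ↥(Subgroup.centralizer ({g} : Set G)) ⧸
        (Subgroup.center G).subgroupOf (Subgroup.centralizer ({g} : Set G))) ^
        (orderOf (u0 : G) / q ^ (orderOf (u0 : G)).factorization q) = 1 := by
      rw [← QuotientGroup.mk_pow, QuotientGroup.eq_one_iff, Subgroup.mem_subgroupOf]
      simpa only [Subgroup.coe_pow] using hz
    have h2 := orderOf_dvd_of_pow_eq_one h1
    rw [hub] at h2
    exact hq.one_lt.ne' (Nat.Coprime.eq_one_of_dvd hcq h2)
  · have hmem : (u0 : G) ^ (orderOf (u0 : G) / q ^ (orderOf (u0 : G)).factorization q) ∈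
        Subgroup.centralizer ({g} : Set G) := Subgroup.pow_mem _ u0.2 _
    rw [Subgroup.mem_centralizer_singleton_iff] at hmem
    exact hmem.symm

theorem ito_all_centralizers_abelian {x y : G} {q r i j : ℕ} (hq : q.Prime) (hr : r.Prime)
    (hqr : q ≠ r) (hx : x ∉ Subgroup.center G) (hy : y ∉ Subgroup.center G)
    (hox : orderOf x = q ^ i) (hoy : orderOf y = r ^ j) :
    ∀ g : G, g ∉ Subgroup.center G → ∀ a ∈ Subgroup.centralizer ({g} : Set G),
      ∀ b ∈ Subgroup.centralizer ({g} : Set G), a * b = b * a := by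
  intro g hg
  obtain ⟨k, s, j', hs, hj', ho, hnz⟩ := exists_primePow_noncentral_pow g hg
  have hle : Subgroup.centralizer ({g} : Set G) ≤ Subgroup.centralizer {g ^ k} := by
    intro c hc
    rw [Subgroup.mem_centralizer_singleton_iff] at hc ⊢
    exact ((show Commute c g from hc).pow_right k).eq
  rw [ito_centralizer_eq_of_le n h hg hnz hle]
  by_cases hsq : s = q
  · obtain ⟨u, l, hu, hcu, hou⟩ := ito_exists_q_element n h hr hy hoy hnz
    exact ito_centralizer_abelian_of_pair n h hs hr (by rw [hsq]; exact hqr) hnz hu hcu ho hou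
  · obtain ⟨u, l, hu, hcu, hou⟩ := ito_exists_q_element n h hq hx hox hnz
    exact ito_centralizer_abelian_of_pair n h hs hq hsq hnz hu hcu ho hou

theorem ito_comp_eq {g : G} (hg : g ∉ Subgroup.center G)
    (hab : ∀ a ∈ Subgroup.centralizer ({g} : Set G), ∀ b ∈ Subgroup.centralizer ({g} : Set G),
      a * b = b * a) {v : G} (hv : v ∈ Subgroup.centralizer ({g} : Set G))
    (hvZ : v ∉ Subgroup.center G) :
    Subgroup.centralizer ({v} : Set G) = Subgroup.centralizer {g} := by
  refine (ito_centralizer_eq_of_le n h hg hvZ ?_).symm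
  intro c hc
  rw [Subgroup.mem_centralizer_singleton_iff]
  exact hab c hc v hv

theorem ito_c_le_n
    (hall : ∀ g : G, g ∉ Subgroup.center G → ∀ a ∈ Subgroup.centralizer ({g} : Set G),
      ∀ b ∈ Subgroup.centralizer ({g} : Set G), a * b = b * a)
    {g : G} (hg : g ∉ Subgroup.center G) :
    (Subgroup.center G).relIndex (Subgroup.centralizer ({g} : Set G)) ≤ n := by
  have hn0 : 0 < n := by
    rw [← h g hg]; exact Nat.pos_of_ne_zero Subgroup.index_ne_zero_of_finite
  have htop : Subgroup.centralizer ({g} : Set G) ≠ ⊤ := by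
    intro htop
    apply hg
    rw [Subgroup.mem_center_iff]
    intro c
    have : c ∈ Subgroup.centralizer ({g} : Set G) := by rw [htop]; exact Subgroup.mem_top c
    rw [Subgroup.mem_centralizer_singleton_iff] at this
    exact this
  obtain ⟨t, ht⟩ : ∃ t : G, t ∉ Subgroup.centralizer ({g} : Set G) := by
    by_contra hne
    exact htop (eq_top_iff.mpr fun c _ => by_contra fun hc => hne ⟨c, hc⟩)
  have htZ : t ∉ Subgroup.center G := fun hh => ht (ito_center_le_centralizer g hh)
  have hinf : Subgroup.centralizer ({g} : Set G) ⊓ Subgroup.centralizer ({t} : Set G) =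
      Subgroup.center G := by
    apply le_antisymm
    · intro u hu
      rw [Subgroup.mem_inf] at hu
      by_contra huZ
      have h1 := ito_comp_eq n h hg (hall g hg) hu.1 huZ
      have h2 := ito_comp_eq n h htZ (hall t htZ) hu.2 huZ
      apply ht
      rw [← h1, h2]
      exact Subgroup.mem_centralizer_singleton_iff.mpr rfl
    · exact le_inf (ito_center_le_centralizer g) (ito_center_le_centralizer t)
  have h1 := Subgroup.index_inf_le (H := Subgroup.centralizer ({g} : Set G))
    (K := Subgroup.centralizer ({t} : Set G))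
  rw [hinf, h g hg, h t htZ, ← ito_relIndex_mul n h hg] at h1
  exact Nat.le_of_mul_le_mul_right h1 hn0

omit h in
/-- Orbit counting for a conjugation action with constant stabilizer. -/
theorem relIndex_dvd_card_of_conj_action (S K : Subgroup G) (T : Set G)
    (hinv : ∀ g ∈ S, ∀ v ∈ T, g * v * g⁻¹ ∈ T)
    (hstab : ∀ v ∈ T, ∀ g ∈ S, (g * v * g⁻¹ = v ↔ g ∈ K)) :
    K.relIndex S ∣ Nat.card T := by
  classical
  letI : MulAction ↥S ↥T :=
    { smul := fun g v => ⟨(g : G) * v * (g : G)⁻¹, hinv g g.2 v v.2⟩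
      one_smul := fun v => Subtype.ext (by
        show ((1 : ↥S) : G) * (v : G) * ((1 : ↥S) : G)⁻¹ = v
        simp)
      mul_smul := fun g g' v => Subtype.ext (by
        show ((g * g' : ↥S) : G) * (v : G) * ((g * g' : ↥S) : G)⁻¹ =
          (g : G) * ((g' : G) * (v : G) * (g' : G)⁻¹) * (g : G)⁻¹
        simp [mul_assoc]) }
  have hsmul : ∀ (g : ↥S) (v : ↥T), ((g • v : ↥T) : G) = (g : G) * v * (g : G)⁻¹ := fun _ _ => rfl
  have hst : ∀ v : ↥T, (MulAction.stabilizer ↥S v).index = K.relIndex S := by
    intro v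
    have : MulAction.stabilizer ↥S v = K.subgroupOf S := by
      ext g
      rw [MulAction.mem_stabilizer_iff, Subgroup.mem_subgroupOf, Subtype.ext_iff, hsmul]
      exact hstab v v.2 g g.2
    rw [this]
    rfl
  have e := MulAction.selfEquivSigmaOrbitsQuotientStabilizer ↥S ↥T
  haveI : Fintype (Quotient (MulAction.orbitRel ↥S ↥T)) := Fintype.ofFinite _
  rw [Nat.card_congr e, Nat.card_sigma]
  have : ∀ ω : Quotient (MulAction.orbitRel ↥S ↥T),
      Nat.card (↥S ⧸ MulAction.stabilizer ↥S ω.out) = K.relIndex S := fun ω => hst ω.out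
  simp only [this, Finset.sum_const, smul_eq_mul]
  exact Dvd.intro_left _ rfl

omit h in
/-- The `r`-elements of an abelian subgroup form its Sylow `r`-subgroup. -/
theorem ncard_pElements_of_abelian (A : Subgroup G)
    (hA : ∀ a ∈ A, ∀ b ∈ A, a * b = b * a) (r : ℕ) [Fact r.Prime] :
    {v : G | v ∈ A ∧ ∃ l : ℕ, v ^ (r ^ l) = 1}.ncard = r ^ (Nat.card A).factorization r := by
  classical
  obtain ⟨P⟩ : Nonempty (Sylow r ↥A) := inferInstance
  have hPn : (P : Subgroup ↥A).Normal := by
    refine ⟨fun m hm g => ?_⟩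
    have : g * m * g⁻¹ = m := by
      have hc : g * m = m * g := Subtype.ext (hA g g.2 m m.2)
      rw [hc, mul_inv_cancel_right]
    rw [this]; exact hm
  have hset : {v : G | v ∈ A ∧ ∃ l : ℕ, v ^ (r ^ l) = 1} =
      (((P : Subgroup ↥A).map A.subtype : Subgroup G) : Set G) := by
    ext v
    simp only [Set.mem_ofPred_eq, SetLike.mem_coe, Subgroup.mem_map, Subgroup.coe_subtype]
    constructor
    · rintro ⟨hv, l, hl⟩
      refine ⟨⟨v, hv⟩, ?_, rfl⟩
      have hpg : IsPGroup r ↥(Subgroup.zpowers (⟨v, hv⟩ : ↥A)) := by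
        have hord : orderOf (⟨v, hv⟩ : ↥A) ∣ r ^ l := by
          apply orderOf_dvd_of_pow_eq_one
          exact Subtype.ext (by simpa using hl)
        refine IsPGroup.of_card (n := (Nat.factorization (orderOf (⟨v, hv⟩ : ↥A))) r) ?_
        rw [Nat.card_zpowers]
        obtain ⟨t, _, ht⟩ := (Nat.dvd_prime_pow (Fact.out : r.Prime)).mp hord
        rw [ht, Nat.Prime.factorization_pow (Fact.out : r.Prime)]
        simp
      obtain ⟨Q, hQ⟩ := hpg.exists_le_sylow
      haveI := Sylow.unique_of_normal P hPn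
      have hQP : Q = P := Subsingleton.elim _ _
      rw [← hQP]
      exact hQ (Subgroup.mem_zpowers _)
    · rintro ⟨w, hw, rfl⟩
      refine ⟨w.2, ?_⟩
      obtain ⟨l, hl⟩ := P.isPGroup' ⟨w, hw⟩
      refine ⟨l, ?_⟩
      have := congrArg (fun z : ↥(P : Subgroup ↥A) => ((z : ↥A) : G)) hl
      simpa using this
  rw [hset]
  have h1 : ((((P : Subgroup ↥A).map A.subtype : Subgroup G) : Set G)).ncard =
      Nat.card ((P : Subgroup ↥A).map A.subtype : Subgroup G) := by
    rw [← Nat.card_coe_set_eq]; rfl
  rw [h1, Subgroup.card_map_of_injective A.subtype_injective, Sylow.card_eq_multiplicity]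

omit h in
theorem exists_noncentral_normalized {s : ℕ} [Fact s.Prime] (S : Sylow s G)
    (hS : ¬ (S : Subgroup G) ≤ Subgroup.center G) :
    ∃ u ∈ (S : Subgroup G), u ∉ Subgroup.center G ∧
      ∀ g ∈ (S : Subgroup G), g * u * g⁻¹ * u⁻¹ ∈ Subgroup.center G := by
  classical
  set Sb : Subgroup (G ⧸ Subgroup.center G) :=
    (S : Subgroup G).map (QuotientGroup.mk' (Subgroup.center G)) with hSb
  have hpg : IsPGroup s ↥Sb := S.isPGroup'.map _
  obtain ⟨v, hvS, hvZ⟩ := SetLike.not_le_iff_exists.mp hS
  haveI : Nontrivial ↥Sb := by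
    refine ⟨⟨⟨(QuotientGroup.mk' (Subgroup.center G)) v, Subgroup.mem_map_of_mem _ hvS⟩, 1, ?_⟩⟩
    intro heq
    have h1 : (QuotientGroup.mk' (Subgroup.center G)) v = 1 := congrArg Subtype.val heq
    exact hvZ ((QuotientGroup.eq_one_iff v).mp h1)
  haveI := hpg.center_nontrivial
  obtain ⟨⟨ub, hubc⟩, hub1⟩ := exists_ne (1 : Subgroup.center ↥Sb)
  obtain ⟨u, huS, hu⟩ := Subgroup.mem_map.mp ub.2
  refine ⟨u, huS, ?_, ?_⟩
  · intro huZ
    apply hub1
    apply Subtype.ext
    apply Subtype.ext
    show (ub : G ⧸ Subgroup.center G) = 1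
    rw [← hu]
    exact (QuotientGroup.eq_one_iff u).mpr huZ
  · intro g hg
    rw [Subgroup.mem_center_iff] at hubc
    have h1 := hubc ⟨(QuotientGroup.mk' (Subgroup.center G)) g, Subgroup.mem_map_of_mem _ hg⟩
    have h2 : (QuotientGroup.mk' (Subgroup.center G)) g * (ub : G ⧸ Subgroup.center G) =
        (ub : G ⧸ Subgroup.center G) * (QuotientGroup.mk' (Subgroup.center G)) g :=
      congrArg Subtype.val h1
    rw [← hu] at h2
    rw [← QuotientGroup.eq_one_iff]
    show (QuotientGroup.mk' (Subgroup.center G)) (g * u * g⁻¹ * u⁻¹) = 1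
    rw [map_mul, map_mul, map_mul, h2, map_inv, map_inv]
    group

theorem ito_prime_pow_dvd
    (hall : ∀ g : G, g ∉ Subgroup.center G → ∀ a ∈ Subgroup.centralizer ({g} : Set G),
      ∀ b ∈ Subgroup.centralizer ({g} : Set G), a * b = b * a)
    (c : ℕ) (hcn : c * n = (Subgroup.center G).index)
    {r s : ℕ} (hr : r.Prime) (hs : s.Prime) (hsr : s ≠ r) :
    s ^ n.factorization s ∣ r ^ c.factorization r - 1 := by
  classical
  haveI := Fact.mk hs
  haveI := Fact.mk hr
  have hZidx : (Subgroup.center G).index ≠ 0 := Subgroup.index_ne_zero_of_finite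
  have hn0 : 0 < n := by
    rcases Nat.eq_zero_or_pos n with h0 | h0
    · rw [h0, mul_zero] at hcn; exact absurd hcn.symm hZidx
    · exact h0
  have hc0 : 0 < c := by
    rcases Nat.eq_zero_or_pos c with h0 | h0
    · rw [h0, zero_mul] at hcn; exact absurd hcn.symm hZidx
    · exact h0
  have hGcard : Nat.card (Subgroup.center G) * (Subgroup.center G).index = Nat.card G :=
    Subgroup.card_mul_index _
  obtain ⟨S⟩ : Nonempty (Sylow s G) := inferInstance
  have hScard : Nat.card (S : Subgroup G) = s ^ (Nat.card G).factorization s :=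
    Sylow.card_eq_multiplicity S
  by_cases hS : (S : Subgroup G) ≤ Subgroup.center G
  · have hsn : ¬ s ∣ n := by
      intro hsn
      have h1 : s ^ (Nat.card G).factorization s ∣ Nat.card (Subgroup.center G) := by
        rw [← hScard]; exact Subgroup.card_dvd_of_le hS
      have h2 : s ∣ (Subgroup.center G).index := by rw [← hcn]; exact hsn.mul_left c
      have h3 : s ^ ((Nat.card G).factorization s + 1) ∣ Nat.card G := by
        have := Nat.mul_dvd_mul h1 h2
        rw [hGcard, ← pow_succ] at this
        exact this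
      exact Nat.pow_succ_factorization_not_dvd Nat.card_pos.ne' hs h3
    rw [Nat.factorization_eq_zero_of_not_dvd hsn, pow_zero]
    exact one_dvd _
  · obtain ⟨u, huS, huZ, hcomm⟩ := exists_noncentral_normalized S hS
    have hCab := hall u huZ
    have hnorm : ∀ g ∈ (S : Subgroup G), ∀ a ∈ Subgroup.centralizer ({u} : Set G),
        g * a * g⁻¹ ∈ Subgroup.centralizer ({u} : Set G) := by
      intro g hg a ha
      rw [Subgroup.mem_centralizer_singleton_iff] at ha ⊢
      have hz' := hcomm g⁻¹ (Subgroup.inv_mem _ hg)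
      have e1 : g⁻¹ * u * g = (g⁻¹ * u * g⁻¹⁻¹ * u⁻¹) * u := by group
      have hzc := Subgroup.mem_center_iff.mp hz' a
      have e2 : a * ((g⁻¹ * u * g⁻¹⁻¹ * u⁻¹) * u) = ((g⁻¹ * u * g⁻¹⁻¹ * u⁻¹) * u) * a := by
        rw [← mul_assoc, hzc, mul_assoc, ha, ← mul_assoc]
      calc g * a * g⁻¹ * u = g * (a * (g⁻¹ * u * g)) * g⁻¹ := by group
        _ = g * (a * ((g⁻¹ * u * g⁻¹⁻¹ * u⁻¹) * u)) * g⁻¹ := by rw [← e1]
        _ = g * (((g⁻¹ * u * g⁻¹⁻¹ * u⁻¹) * u) * a) * g⁻¹ := by rw [e2]
        _ = g * ((g⁻¹ * u * g) * a) * g⁻¹ := by rw [← e1]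
        _ = u * (g * a * g⁻¹) := by group
    set T : Set G := {v | v ∈ Subgroup.centralizer ({u} : Set G) ∧ (∃ l : ℕ, v ^ (r ^ l) = 1) ∧
      v ∉ Subgroup.center G} with hT
    have hinv : ∀ g ∈ (S : Subgroup G), ∀ v ∈ T, g * v * g⁻¹ ∈ T := by
      rintro g hg v ⟨hvC, ⟨l, hl⟩, hvZ⟩
      refine ⟨hnorm g hg v hvC, ⟨l, ?_⟩, ?_⟩
      · rw [conj_pow, hl, mul_one, mul_inv_cancel]
      · intro hh
        apply hvZ
        have := (Subgroup.center G).normal_of_characteristic.conj_mem _ hh g⁻¹
        simpa [mul_assoc] using this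
    have hstab : ∀ v ∈ T, ∀ g ∈ (S : Subgroup G),
        (g * v * g⁻¹ = v ↔ g ∈ Subgroup.centralizer ({u} : Set G)) := by
      rintro v ⟨hvC, _, hvZ⟩ g _
      rw [← ito_comp_eq n h huZ hCab hvC hvZ, Subgroup.mem_centralizer_singleton_iff]
      constructor
      · intro h1
        calc g * v = g * v * g⁻¹ * g := by group
          _ = v * g := by rw [h1]
      · intro h1
        rw [h1, mul_inv_cancel_right]
    have hdvd := relIndex_dvd_card_of_conj_action (S : Subgroup G)
      (Subgroup.centralizer ({u} : Set G)) T hinv hstab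
    -- card of T
    have hZab : ∀ a ∈ Subgroup.center G, ∀ b ∈ Subgroup.center G, a * b = b * a :=
      fun a _ b hb => (Subgroup.mem_center_iff.mp hb a)
    have hTeq : T = {v : G | v ∈ Subgroup.centralizer ({u} : Set G) ∧ ∃ l : ℕ, v ^ (r ^ l) = 1} \
        {v : G | v ∈ Subgroup.center G ∧ ∃ l : ℕ, v ^ (r ^ l) = 1} := by
      ext v
      constructor
      · rintro ⟨hvC, hl, hvZ⟩
        exact ⟨⟨hvC, hl⟩, fun hh => hvZ hh.1⟩
      · rintro ⟨⟨hvC, hl⟩, hn⟩
        exact ⟨hvC, hl, fun hz => hn ⟨hz, hl⟩⟩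
    have hsub : {v : G | v ∈ Subgroup.center G ∧ ∃ l : ℕ, v ^ (r ^ l) = 1} ⊆
        {v : G | v ∈ Subgroup.centralizer ({u} : Set G) ∧ ∃ l : ℕ, v ^ (r ^ l) = 1} :=
      fun v hv => ⟨ito_center_le_centralizer u hv.1, hv.2⟩
    have hTcard : Nat.card T = r ^ (Nat.card (Subgroup.centralizer ({u} : Set G))).factorization r -
        r ^ (Nat.card (Subgroup.center G)).factorization r := by
      rw [Nat.card_coe_set_eq, hTeq, Set.ncard_sdiff hsub (Set.toFinite _),
        ncard_pElements_of_abelian _ hCab r, ncard_pElements_of_abelian _ hZab r]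
    -- |C| = |Z| * c
    have hCcard : Nat.card (Subgroup.centralizer ({u} : Set G)) =
        Nat.card (Subgroup.center G) * c := by
      have h1 : Nat.card (Subgroup.centralizer ({u} : Set G)) * n = Nat.card G := by
        rw [← h u huZ]; exact Subgroup.card_mul_index _
      have h2 : Nat.card (Subgroup.center G) * c * n = Nat.card G := by
        rw [mul_assoc, hcn]; exact hGcard
      exact Nat.eq_of_mul_eq_mul_right hn0 (h1.trans h2.symm)
    have hZpos : Nat.card (Subgroup.center G) ≠ 0 := Nat.card_pos.ne'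
    have hfac : (Nat.card (Subgroup.centralizer ({u} : Set G))).factorization r =
        (Nat.card (Subgroup.center G)).factorization r + c.factorization r := by
      rw [hCcard, Nat.factorization_mul hZpos hc0.ne', Finsupp.add_apply]
    have hTcard' : Nat.card T = r ^ (Nat.card (Subgroup.center G)).factorization r *
        (r ^ c.factorization r - 1) := by
      rw [hTcard, hfac, pow_add, Nat.mul_sub, mul_one]
    -- s-part
    have hCpos : Nat.card (Subgroup.centralizer ({u} : Set G)) ≠ 0 := Nat.card_pos.ne'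
    have hrel : Nat.card (Subgroup.centralizer ({u} : Set G) ⊓ (S : Subgroup G) : Subgroup G) *
        (Subgroup.centralizer ({u} : Set G)).relIndex (S : Subgroup G) =
        Nat.card (S : Subgroup G) := by
      have := Subgroup.relIndex_mul_relIndex ⊥
        (Subgroup.centralizer ({u} : Set G) ⊓ (S : Subgroup G)) (S : Subgroup G) bot_le inf_le_right
      rw [Subgroup.relIndex_bot_left, Subgroup.relIndex_bot_left, Subgroup.inf_relIndex_right] at this
      exact this
    obtain ⟨e, hea, he⟩ := (Nat.dvd_prime_pow hs).mp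
      (hScard ▸ Subgroup.card_dvd_of_le (inf_le_right :
        Subgroup.centralizer ({u} : Set G) ⊓ (S : Subgroup G) ≤ (S : Subgroup G)))
    have heC : e ≤ (Nat.card (Subgroup.centralizer ({u} : Set G))).factorization s := by
      rw [← hs.pow_dvd_iff_le_factorization hCpos, ← he]
      exact Subgroup.card_dvd_of_le inf_le_left
    have hrelval : (Subgroup.centralizer ({u} : Set G)).relIndex (S : Subgroup G) =
        s ^ ((Nat.card G).factorization s - e) := by
      rw [he, hScard] at hrel
      have h3 : s ^ e * s ^ ((Nat.card G).factorization s - e) = s ^ (Nat.card G).factorization s := by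
        rw [← pow_add, Nat.add_sub_cancel' hea]
      exact Nat.eq_of_mul_eq_mul_left (pow_pos hs.pos e) (hrel.trans h3.symm)
    have hfacG : (Nat.card G).factorization s =
        (Nat.card (Subgroup.centralizer ({u} : Set G))).factorization s + n.factorization s := by
      have h1 : Nat.card (Subgroup.centralizer ({u} : Set G)) * n = Nat.card G := by
        rw [← h u huZ]; exact Subgroup.card_mul_index _
      rw [← h1, Nat.factorization_mul hCpos hn0.ne', Finsupp.add_apply]
    have hpowdvd : s ^ n.factorization s ∣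
        (Subgroup.centralizer ({u} : Set G)).relIndex (S : Subgroup G) := by
      rw [hrelval]
      exact pow_dvd_pow s (by omega)
    have h4 : s ^ n.factorization s ∣ r ^ (Nat.card (Subgroup.center G)).factorization r *
        (r ^ c.factorization r - 1) := by
      rw [← hTcard']; exact hpowdvd.trans hdvd
    have hcop : Nat.Coprime (s ^ n.factorization s)
        (r ^ (Nat.card (Subgroup.center G)).factorization r) :=
      Nat.Coprime.pow _ _ ((Nat.coprime_primes hs hr).mpr hsr)
    exact hcop.dvd_of_dvd_mul_left h4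

omit [Finite G] h in
theorem ito_arith (n c p r : ℕ) (hp : p.Prime) (hr : r.Prime) (hpr : p ≠ r) (hc : 0 < c) (hn : 0 < n)
    (hpc : p ∣ c) (hrc : r ∣ c) (hcn : c ≤ n)
    (h1 : ∀ s : ℕ, s.Prime → s ≠ r → s ^ n.factorization s ∣ r ^ c.factorization r - 1)
    (h2 : ∀ s : ℕ, s.Prime → s ≠ p → s ^ n.factorization s ∣ p ^ c.factorization p - 1) :
    False := by
  have key : ∀ a b : ℕ, 2 ≤ a → 2 ≤ b → (a - 1) * (b - 1) < a * b := by
    intro a b ha hb
    obtain ⟨a', rfl⟩ := Nat.exists_eq_add_of_le ha
    obtain ⟨b', rfl⟩ := Nat.exists_eq_add_of_le hb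
    have e1 : 2 + a' - 1 = a' + 1 := by omega
    have e2 : 2 + b' - 1 = b' + 1 := by omega
    rw [e1, e2]
    nlinarith
  have hA2 : 2 ≤ p ^ c.factorization p := by
    have : 1 ≤ c.factorization p := hp.factorization_pos_of_dvd hc.ne' hpc
    calc 2 ≤ p := hp.two_le
      _ = p ^ 1 := (pow_one p).symm
      _ ≤ p ^ c.factorization p := Nat.pow_le_pow_right hp.pos this
  have hB2 : 2 ≤ r ^ c.factorization r := by
    have : 1 ≤ c.factorization r := hr.factorization_pos_of_dvd hc.ne' hrc
    calc 2 ≤ r := hr.two_le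
      _ = r ^ 1 := (pow_one r).symm
      _ ≤ r ^ c.factorization r := Nat.pow_le_pow_right hr.pos this
  have hAB : p ^ c.factorization p * r ^ c.factorization r ∣ c :=
    Nat.Coprime.mul_dvd_of_dvd_of_dvd
      (Nat.Coprime.pow _ _ ((Nat.coprime_primes hp hr).mpr hpr))
      (Nat.ordProj_dvd c p) (Nat.ordProj_dvd c r)
  have hABle : p ^ c.factorization p * r ^ c.factorization r ≤ c := Nat.le_of_dvd hc hAB
  have hX : r ^ n.factorization r ∣ p ^ c.factorization p - 1 := h2 r hr hpr.symm
  have hY : n / r ^ n.factorization r ∣ r ^ c.factorization r - 1 := by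
    have hne1 : n / r ^ n.factorization r ≠ 0 := (Nat.ordCompl_pos r hn.ne').ne'
    have hne2 : r ^ c.factorization r - 1 ≠ 0 := by omega
    rw [← Nat.factorization_prime_le_iff_dvd hne1 hne2]
    intro s hs
    by_cases hsr : s = r
    · rw [hsr, Nat.factorization_ordCompl, Finsupp.erase_same]
      exact Nat.zero_le _
    · rw [Nat.factorization_ordCompl, Finsupp.erase_ne hsr]
      exact (hs.pow_dvd_iff_le_factorization hne2).mp (h1 s hs hsr)
  have hXle : r ^ n.factorization r ≤ p ^ c.factorization p - 1 := Nat.le_of_dvd (by omega) hX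
  have hYle : n / r ^ n.factorization r ≤ r ^ c.factorization r - 1 := Nat.le_of_dvd (by omega) hY
  have hn' : r ^ n.factorization r * (n / r ^ n.factorization r) = n :=
    Nat.ordProj_mul_ordCompl_eq_self n r
  have h5 : n ≤ (p ^ c.factorization p - 1) * (r ^ c.factorization r - 1) := by
    rw [← hn']; exact Nat.mul_le_mul hXle hYle
  have h6 := key _ _ hA2 hB2
  omega

/-- **Ito**: if all non-central elements of `G` have centralizers of the same index, then
`G / Z(G)` is a `p`-group for some prime `p`. -/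
theorem ito_isPGroup_quotient (hne : ∃ x : G, x ∉ Subgroup.center G) :
    ∃ p : ℕ, p.Prime ∧ IsPGroup p (G ⧸ Subgroup.center G) := by
  classical
  obtain ⟨x0, hx0⟩ := hne
  obtain ⟨k, q, i, hq, hi, hox, hxZ⟩ := exists_primePow_noncentral_pow x0 hx0
  refine ⟨q, hq, ?_⟩
  by_contra hnot
  have hex : ∃ gb : G ⧸ Subgroup.center G, ∀ k : ℕ, gb ^ (q ^ k) ≠ 1 := by
    by_contra hcon
    apply hnot
    intro gb
    by_contra hgb
    exact hcon ⟨gb, fun k hk => hgb ⟨k, hk⟩⟩
  obtain ⟨gb, hgb⟩ := hex
  obtain ⟨g, rfl⟩ := QuotientGroup.mk_surjective gb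
  have hg2 : g ^ (q ^ (orderOf g).factorization q) ∉ Subgroup.center G := by
    intro hh
    apply hgb ((orderOf g).factorization q)
    rw [← QuotientGroup.mk_pow]
    exact (QuotientGroup.eq_one_iff _).mpr hh
  obtain ⟨k', r, j, hr, hj, hoy, hyZ⟩ := exists_primePow_noncentral_pow _ hg2
  have hrq : q ≠ r := by
    intro hqr
    have h1 : orderOf ((g ^ q ^ (orderOf g).factorization q) ^ k') ∣
        orderOf (g ^ q ^ (orderOf g).factorization q) := orderOf_pow_dvd k'
    have h2 : orderOf (g ^ q ^ (orderOf g).factorization q) ∣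
        orderOf g / q ^ (orderOf g).factorization q := by
      apply orderOf_dvd_of_pow_eq_one
      rw [← pow_mul, Nat.ordProj_mul_ordCompl_eq_self, pow_orderOf_eq_one]
    have h3 : q ∣ orderOf g / q ^ (orderOf g).factorization q := by
      have : q ∣ r ^ j := by rw [← hqr]; exact dvd_pow_self q (by omega)
      rw [← hoy] at this
      exact (this.trans h1).trans h2
    have h4 := Nat.coprime_ordCompl hq (orderOf_pos g).ne'
    exact hq.one_lt.ne' (Nat.Coprime.eq_one_of_dvd h4 h3)
  have hall := ito_all_centralizers_abelian n h hq hr hrq hxZ hyZ hox hoy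
  have hcn := ito_relIndex_mul n h hxZ
  have hcn' := ito_relIndex_mul n h hyZ
  have hn0 : 0 < n := by
    rw [← h _ hxZ]; exact Nat.pos_of_ne_zero Subgroup.index_ne_zero_of_finite
  have hcy : (Subgroup.center G).relIndex (Subgroup.centralizer ({(g ^ q ^ (orderOf g).factorization q) ^ k'} : Set G)) =
      (Subgroup.center G).relIndex (Subgroup.centralizer ({x0 ^ k} : Set G)) :=
    Nat.eq_of_mul_eq_mul_right hn0 (hcn'.trans hcn.symm)
  have hqc := ito_prime_dvd_relIndex hq hxZ hox
  have hrc := ito_prime_dvd_relIndex hr hyZ hoy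
  rw [hcy] at hrc
  have hc0 : 0 < (Subgroup.center G).relIndex (Subgroup.centralizer ({x0 ^ k} : Set G)) := by
    rcases Nat.eq_zero_or_pos
      ((Subgroup.center G).relIndex (Subgroup.centralizer ({x0 ^ k} : Set G))) with h0 | h0
    · rw [h0, zero_mul] at hcn
      exact absurd hcn.symm Subgroup.index_ne_zero_of_finite
    · exact h0
  have hcle := ito_c_le_n n h hall hxZ
  exact ito_arith n _ q r hq hr hrq hc0 hn0 hqc hrc hcle
    (fun s hs hsr => ito_prime_pow_dvd n h hall _ hcn hr hs hsr)
    (fun s hs hsq => ito_prime_pow_dvd n h hall _ hcn hq hs hsq)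

end Ito

end Cfsg.Agent.helper21
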