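import Mathlib
import Cfsg.Agent.Lib_helper10_Sylow
import Cfsg.Agent.Lib_helper21_Ito

set_option autoImplicit false

namespace Cfsg.Agent.helper10

open Subgroup
open scoped commutatorElement

section TwoClsA

variable {G : Type*} [Group G]

/-- `x` has order a power of `p`. -/
def tc_PE (p : ℕ) (x : G) : Prop := ∃ k : ℕ, orderOf x = p ^ k

theorem tc_PE_of_mem {p : ℕ} [Fact p.Prime] {P : Subgroup G} (hP : IsPGroup p P) {x : G}
    (hx : x ∈ P) : tc_PE p x := by
  obtain ⟨k, hk⟩ := (IsPGroup.iff_orderOf.mp hP) ⟨x, hx⟩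
  exact ⟨k, by rw [← hk, Subgroup.orderOf_mk]⟩

theorem tc_isPGroup_zpowers {p : ℕ} {x : G} (hx : tc_PE p x) :
    IsPGroup p (zpowers x) := by
  obtain ⟨k, hk⟩ := hx
  exact IsPGroup.of_card (n := k) (by rw [Nat.card_zpowers, hk])

theorem tc_coprime_of_PE {p q : ℕ} (hp : p.Prime) (hq : q.Prime) (hne : p ≠ q) {x y : G}
    (hx : tc_PE p x) (hy : tc_PE q y) : (orderOf x).Coprime (orderOf y) := by
  obtain ⟨i, hi⟩ := hx
  obtain ⟨j, hj⟩ := hy
  rw [hi, hj]
  exact Nat.Coprime.pow _ _ ((Nat.coprime_primes hp hq).mpr hne)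

theorem tc_orderOf_conj (a x : G) : orderOf (a * x * a⁻¹) = orderOf x := by
  have := (MulAut.conj a).orderOf_eq x
  rwa [MulAut.conj_apply] at this

theorem tc_PE_conj {p : ℕ} {x : G} (a : G) (hx : tc_PE p x) : tc_PE p (a * x * a⁻¹) := by
  obtain ⟨k, hk⟩ := hx
  exact ⟨k, by rw [tc_orderOf_conj, hk]⟩

theorem tc_PE_pow {p : ℕ} (hp : p.Prime) {x : G} (hx : tc_PE p x) (n : ℕ) :
    tc_PE p (x ^ n) := by
  obtain ⟨k, hk⟩ := hx
  have h1 : orderOf (x ^ n) ∣ p ^ k := hk ▸ orderOf_pow_dvd n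
  obtain ⟨j, -, hj⟩ := (Nat.dvd_prime_pow hp).mp h1
  exact ⟨j, hj⟩

theorem tc_conj_mem_center_iff (a w : G) : a * w * a⁻¹ ∈ center G ↔ w ∈ center G := by
  constructor
  · intro h
    have h2 := (inferInstance : (center G).Normal).conj_mem _ h a⁻¹
    simpa [mul_assoc] using h2
  · intro h
    exact (inferInstance : (center G).Normal).conj_mem _ h a

theorem tc_commute_conj {h w : G} (a : G) (hc : Commute h w) :
    Commute (a * h * a⁻¹) (a * w * a⁻¹) := by
  show a * h * a⁻¹ * (a * w * a⁻¹) = a * w * a⁻¹ * (a * h * a⁻¹)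
  have := hc.eq
  calc a * h * a⁻¹ * (a * w * a⁻¹) = a * (h * w) * a⁻¹ := by group
    _ = a * (w * h) * a⁻¹ := by rw [this]
    _ = _ := by group

theorem tc_commute_of_mem_center {c : G} (hc : c ∈ center G) (x : G) : Commute x c :=
  Subgroup.mem_center_iff.mp hc x

/-- If `g w g⁻¹ w⁻¹` is central then conjugation by `g` preserves `C(w)`. -/
theorem tc_commute_conj_of_central {g w k : G} (hc : g * w * g⁻¹ * w⁻¹ ∈ center G)
    (hk : Commute k w) : Commute (g * k * g⁻¹) w := by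
  have h1 : Commute (g * k * g⁻¹) (g * w * g⁻¹) := tc_commute_conj g hk
  have h2 : Commute (g * k * g⁻¹) (g * w * g⁻¹ * w⁻¹)⁻¹ :=
    tc_commute_of_mem_center ((center G).inv_mem hc) _
  have h3 := h2.mul_right h1
  have h4 : (g * w * g⁻¹ * w⁻¹)⁻¹ * (g * w * g⁻¹) = w := by group
  rwa [h4] at h3

theorem tc_eq_of_le_of_index_eq [Finite G] {H K : Subgroup G} (hle : H ≤ K)
    (hidx : H.index = K.index) : K ≤ H := by
  have h3 := Subgroup.relIndex_mul_index hle
  have hn0 : K.index ≠ 0 := Subgroup.index_ne_zero_of_finite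
  rw [hidx] at h3
  have h4 : H.relIndex K = 1 := by
    have : H.relIndex K * K.index = 1 * K.index := by rw [h3, one_mul]
    exact Nat.eq_of_mul_eq_mul_right (Nat.pos_of_ne_zero hn0) this
  exact Subgroup.relIndex_eq_one.mp h4

theorem tc_exists_sylow_sub [Finite G] (p : ℕ) [Fact p.Prime] (K : Subgroup G) :
    ∃ Q : Subgroup G, Q ≤ K ∧ IsPGroup p Q ∧
      Nat.card Q = p ^ (Nat.card K).factorization p := by
  obtain ⟨P⟩ : Nonempty (Sylow p K) := inferInstance
  refine ⟨(P : Subgroup K).map K.subtype, Subgroup.map_subtype_le _, P.isPGroup'.map K.subtype, ?_⟩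
  rw [Subgroup.card_map_of_injective K.subtype_injective]
  exact P.card_eq_multiplicity

theorem tc_card_le_of_isPGroup [Finite G] (p : ℕ) [Fact p.Prime] {A K : Subgroup G}
    (hA : IsPGroup p A) (hAK : A ≤ K) :
    Nat.card A ≤ p ^ (Nat.card K).factorization p := by
  obtain ⟨n, hn⟩ := hA.exists_card_eq
  have hp : p.Prime := Fact.out
  have h1 : Nat.card A ∣ Nat.card K := Subgroup.card_dvd_of_le hAK
  rw [hn] at h1 ⊢
  have h2 : n ≤ (Nat.card K).factorization p :=
    (hp.pow_dvd_iff_le_factorization Nat.card_pos.ne').mp h1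
  exact Nat.pow_le_pow_right hp.pos h2

theorem tc_mem_of_card_sylow [Finite G] (p : ℕ) [Fact p.Prime] {K Q : Subgroup G} (hQK : Q ≤ K)
    (hQ : IsPGroup p Q) (hcard : Nat.card Q = p ^ (Nat.card K).factorization p) {x : G}
    (hxK : x ∈ K) (hx : tc_PE p x) (hnorm : ∀ q ∈ Q, x * q * x⁻¹ ∈ Q) : x ∈ Q := by
  have hA : IsPGroup p (zpowers x) := tc_isPGroup_zpowers hx
  have hxn : x ∈ normalizer (Q : Set G) := Subgroup.mem_normalizer_fintype hnorm
  have hAn : zpowers x ≤ normalizer (Q : Set G) := (zpowers_le).mpr hxn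
  have hsup : IsPGroup p (zpowers x ⊔ Q : Subgroup G) := hA.to_sup_of_normal_right' hQ hAn
  have hle : (zpowers x ⊔ Q : Subgroup G) ≤ K := sup_le ((zpowers_le).mpr hxK) hQK
  have hc := tc_card_le_of_isPGroup p hsup hle
  rw [← hcard] at hc
  have heq : Q = zpowers x ⊔ Q := Subgroup.eq_of_le_of_card_ge le_sup_right hc
  rw [heq]
  exact (le_sup_left : zpowers x ≤ zpowers x ⊔ Q) (mem_zpowers x)

theorem tc_card_inf_mul_relIndex (W U : Subgroup G) :
    Nat.card ↥(W ⊓ U) * W.relIndex U = Nat.card U := by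
  have h3 := Subgroup.relIndex_mul_relIndex ⊥ (W ⊓ U) U bot_le inf_le_right
  rw [Subgroup.relIndex_bot_left, Subgroup.relIndex_bot_left, Subgroup.inf_relIndex_right] at h3
  exact h3

theorem tc_lpair [Finite G] {U W X : Subgroup G} (hU : U ≤ X) (hW : W ≤ X) :
    Nat.card U * Nat.card W ≤ Nat.card ↥(U ⊓ W) * Nat.card X := by
  have h1 := tc_card_inf_mul_relIndex W U
  have h2 := tc_card_inf_mul_relIndex W X
  rw [inf_eq_left.mpr hW] at h2
  have hne : W.relIndex X ≠ 0 := by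
    intro h0
    rw [h0, mul_zero] at h2
    exact (Nat.card_pos (α := X)).ne' h2.symm
  have h3 : W.relIndex U ≤ W.relIndex X := Subgroup.relIndex_le_of_le_right hU hne
  rw [inf_comm U W]
  calc Nat.card U * Nat.card W = Nat.card ↥(W ⊓ U) * W.relIndex U * Nat.card W := by rw [h1]
    _ ≤ Nat.card ↥(W ⊓ U) * W.relIndex X * Nat.card W := by gcongr
    _ = Nat.card ↥(W ⊓ U) * (Nat.card W * W.relIndex X) := by ring
    _ = _ := by rw [h2]

theorem tc_card_sup_mul_card_inf (H N : Subgroup G) [N.Normal] :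
    Nat.card (H ⊔ N : Subgroup G) * Nat.card (N ⊓ H : Subgroup G) = Nat.card H * Nat.card N := by
  have h1 := Subgroup.relIndex_sup_right H N
  have h2 := Subgroup.relIndex_mul_relIndex ⊥ N (H ⊔ N) bot_le le_sup_right
  rw [Subgroup.relIndex_bot_left, Subgroup.relIndex_bot_left, h1] at h2
  have h3 := Subgroup.relIndex_mul_relIndex ⊥ (N ⊓ H) H bot_le inf_le_right
  rw [Subgroup.relIndex_bot_left, Subgroup.relIndex_bot_left, Subgroup.inf_relIndex_right] at h3
  rw [← h2, ← h3]; ring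

/-- coprime conjugation lemma -/
theorem tc_coprime_conj_central {a w c : G} (hc : c ∈ center G) (h : a * w * a⁻¹ = w * c)
    (hco : (orderOf a).Coprime (orderOf w)) : c = 1 := by
  have hσc : MulAut.conj a c = c := by
    rw [MulAut.conj_apply, (Subgroup.mem_center_iff.mp hc a), mul_inv_cancel_right]
  have hσw : MulAut.conj a w = w * c := by rw [MulAut.conj_apply]; exact h
  have key : ∀ k : ℕ, MulAut.conj (a ^ k) w = w * c ^ k := by
    intro k
    induction k with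
    | zero => simp
    | succ k ih =>
      rw [pow_succ', map_mul, MulAut.mul_apply, ih, map_mul, map_pow, hσw, hσc, mul_assoc,
        ← pow_succ']
  have h1 : c ^ orderOf a = 1 := by
    have := key (orderOf a)
    rw [pow_orderOf_eq_one, map_one, MulAut.one_apply] at this
    exact mul_left_cancel (this.symm.trans (mul_one w).symm)
  have h2 : c ^ orderOf w = 1 := by
    have hwc : Commute w c := Subgroup.mem_center_iff.mp hc w
    have h3 : (a * w * a⁻¹) ^ orderOf w = (w * c) ^ orderOf w := by rw [h]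
    rw [conj_pow, hwc.mul_pow, pow_orderOf_eq_one] at h3
    simpa using h3.symm
  have h3 : orderOf c ∣ Nat.gcd (orderOf a) (orderOf w) :=
    Nat.dvd_gcd (orderOf_dvd_of_pow_eq_one h1) (orderOf_dvd_of_pow_eq_one h2)
  rw [Nat.Coprime.gcd_eq_one hco] at h3
  exact orderOf_eq_one_iff.mp (Nat.dvd_one.mp h3)

/-- the counting map of the FA lemma -/
noncomputable def tc_faFun (X Y : Subgroup G) (w : G) (K : Subgroup X) :
    Option (↥X ⧸ K) × ↥(Y ⊓ center G) → G
  | (none, c) => c.1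
  | (some q, c) => ((Quotient.out q : ↥X) : G) * w * ((Quotient.out q : ↥X) : G)⁻¹ * c.1

theorem tc_fa [Finite G] (X Y : Subgroup G) (hXY : ∀ g ∈ X, ∀ y ∈ Y, g * y * g⁻¹ ∈ Y) (w : G)
    (hwY : w ∈ Y) (hwZ : w ∉ center G) (hco : ∀ g ∈ X, (orderOf g).Coprime (orderOf w)) :
    ((centralizer ({w} : Set G)).relIndex X + 1) * Nat.card ↥(Y ⊓ center G) ≤ Nat.card Y := by
  classical
  set K : Subgroup ↥X := (centralizer ({w} : Set G)).subgroupOf X with hK
  have hmem : ∀ pc, tc_faFun X Y w K pc ∈ Y := by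
    rintro ⟨(_ | q), c⟩
    · exact c.2.1
    · exact Y.mul_mem (hXY _ (Quotient.out q : ↥X).2 _ hwY) c.2.1
  have hinj : Function.Injective (tc_faFun X Y w K) := by
    rintro ⟨(_ | q), c⟩ ⟨(_ | q'), c'⟩ heq
    · have : c = c' := Subtype.ext heq
      rw [this]
    · exfalso
      change c.1 = ((Quotient.out q' : ↥X) : G) * w * ((Quotient.out q' : ↥X) : G)⁻¹ * c'.1 at heq
      have h1 : ((Quotient.out q' : ↥X) : G) * w * ((Quotient.out q' : ↥X) : G)⁻¹ = c.1 * c'.1⁻¹ := by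
        rw [heq, mul_inv_cancel_right]
      have h2 : c.1 * c'.1⁻¹ ∈ center G := (center G).mul_mem c.2.2 ((center G).inv_mem c'.2.2)
      rw [← h1, tc_conj_mem_center_iff] at h2
      exact hwZ h2
    · exfalso
      change ((Quotient.out q : ↥X) : G) * w * ((Quotient.out q : ↥X) : G)⁻¹ * c.1 = c'.1 at heq
      have h1 : ((Quotient.out q : ↥X) : G) * w * ((Quotient.out q : ↥X) : G)⁻¹ = c'.1 * c.1⁻¹ := by
        rw [← heq, mul_inv_cancel_right]
      have h2 : c'.1 * c.1⁻¹ ∈ center G := (center G).mul_mem c'.2.2 ((center G).inv_mem c.2.2)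
      rw [← h1, tc_conj_mem_center_iff] at h2
      exact hwZ h2
    · change ((Quotient.out q : ↥X) : G) * w * ((Quotient.out q : ↥X) : G)⁻¹ * c.1 =
        ((Quotient.out q' : ↥X) : G) * w * ((Quotient.out q' : ↥X) : G)⁻¹ * c'.1 at heq
      set g : G := ((Quotient.out q : ↥X) : G) with hg
      set g' : G := ((Quotient.out q' : ↥X) : G) with hg'
      have hgX : g ∈ X := (Quotient.out q : ↥X).2
      have hg'X : g' ∈ X := (Quotient.out q' : ↥X).2
      have h1 : g * w * g⁻¹ = g' * w * g'⁻¹ * (c'.1 * c.1⁻¹) := by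
        rw [← mul_assoc, ← heq, mul_inv_cancel_right]
      have hd : c'.1 * c.1⁻¹ ∈ center G := (center G).mul_mem c'.2.2 ((center G).inv_mem c.2.2)
      have h2 : (g'⁻¹ * g) * w * (g'⁻¹ * g)⁻¹ = w * (c'.1 * c.1⁻¹) := by
        calc (g'⁻¹ * g) * w * (g'⁻¹ * g)⁻¹ = g'⁻¹ * (g * w * g⁻¹) * g' := by group
          _ = g'⁻¹ * (g' * w * g'⁻¹ * (c'.1 * c.1⁻¹)) * g' := by rw [h1]
          _ = w * (g'⁻¹ * (c'.1 * c.1⁻¹) * g') := by group
          _ = w * (c'.1 * c.1⁻¹) := by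
            rw [Subgroup.mem_center_iff.mp hd g'⁻¹, inv_mul_cancel_right]
      have haX : g'⁻¹ * g ∈ X := X.mul_mem (X.inv_mem hg'X) hgX
      have h3 : c'.1 * c.1⁻¹ = 1 := tc_coprime_conj_central hd h2 (hco _ haX)
      have hcc : c = c' := by
        apply Subtype.ext
        exact (mul_inv_eq_one.mp h3).symm
      rw [h3, mul_one] at h2
      have h4 : g'⁻¹ * g ∈ centralizer ({w} : Set G) := by
        rw [Subgroup.mem_centralizer_singleton_iff]
        exact mul_inv_eq_iff_eq_mul.mp h2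
      have hqq : q' = q := by
        calc q' = ((Quotient.out q' : ↥X) : ↥X ⧸ K) := (QuotientGroup.out_eq' q').symm
          _ = ((Quotient.out q : ↥X) : ↥X ⧸ K) := by
            apply QuotientGroup.eq.mpr
            have h5 : ((Quotient.out q' : ↥X)⁻¹ * (Quotient.out q : ↥X)) ∈
                (centralizer ({w} : Set G)).subgroupOf X := by
              rw [Subgroup.mem_subgroupOf]
              simpa using h4
            exact h5
          _ = q := QuotientGroup.out_eq' q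
      rw [hqq, hcc]
  have hinj' : Function.Injective
      (fun pc => (⟨tc_faFun X Y w K pc, hmem pc⟩ : ↥Y)) := by
    intro a b hab
    exact hinj (Subtype.ext_iff.mp hab)
  have hcard := Nat.card_le_card_of_injective _ hinj'
  rw [Nat.card_prod, Finite.card_option] at hcard
  exact hcard

/-- descent along the lower central series -/
theorem tc_hub_aux (P M : Subgroup G) [M.Normal] (n : ℕ) (hn : P.lowerCentralSeries n = ⊥) :
    ∀ j k : ℕ, k + j = n → ∀ A : Subgroup G, A ≤ P.lowerCentralSeries k → A ≤ M →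
      ¬ A ≤ center G → ∃ y ∈ P ⊓ M, y ∉ center G ∧ ∀ h ∈ P, ⁅y, h⁆ ∈ center G := by
  intro j
  induction j with
  | zero =>
    intro k hk A hA _ hAZ
    exfalso
    apply hAZ
    have : k = n := by omega
    subst this
    rw [hn] at hA
    exact hA.trans bot_le
  | succ j ih =>
    intro k hk A hA hAM hAZ
    by_cases hB : ⁅A, P⁆ ≤ center G
    · obtain ⟨y, hyA, hyZ⟩ := SetLike.not_le_iff_exists.mp hAZ
      exact ⟨y, ⟨(P.lowerCentralSeries_le_self k) (hA hyA), hAM hyA⟩, hyZ,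
        fun h hh => hB (Subgroup.commutator_mem_commutator hyA hh)⟩
    · refine ih (k + 1) (by omega) ⁅A, P⁆ ?_ ?_ hB
      · rw [Subgroup.lowerCentralSeries_succ]
        exact Subgroup.commutator_mono hA le_rfl
      · exact (Subgroup.commutator_mono hAM le_top).trans (Subgroup.commutator_le_left M ⊤)

theorem tc_hub [Finite G] {p : ℕ} [Fact p.Prime] (P : Subgroup G) (hP : IsPGroup p P)
    (M : Subgroup G) [M.Normal] (h : ¬ (P ⊓ M ≤ center G)) :
    ∃ y ∈ P ⊓ M, y ∉ center G ∧ ∀ h ∈ P, (y * h * y⁻¹ * h⁻¹ ∈ center G ∧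
      h * y * h⁻¹ * y⁻¹ ∈ center G) := by
  have hnil : Group.IsNilpotent ↥P := hP.isNilpotent
  obtain ⟨n, hn⟩ := (Subgroup.isNilpotent_iff_lowerCentralSeries P).mp hnil
  obtain ⟨y, hy, hyZ, hyc⟩ := tc_hub_aux P M n hn n 0 (by omega) (P ⊓ M)
    (by rw [Subgroup.lowerCentralSeries_zero]; exact inf_le_left) inf_le_right h
  refine ⟨y, hy, hyZ, fun h hh => ?_⟩
  have h1 := hyc h hh
  rw [commutatorElement_def] at h1
  refine ⟨h1, ?_⟩
  have h2 := (center G).inv_mem h1
  have h3 : (y * h * y⁻¹ * h⁻¹)⁻¹ = h * y * h⁻¹ * y⁻¹ := by group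
  rwa [h3] at h2

theorem tc_exists_normalizing [Finite G] {p : ℕ} [Fact p.Prime] {R₁ P : Subgroup G}
    (hR : IsPGroup p R₁) (hPR : P ≤ R₁) (hne : ¬ R₁ ≤ P) :
    ∃ g ∈ R₁, g ∉ P ∧ ∀ x ∈ P, g * x * g⁻¹ ∈ P := by
  haveI : Group.IsNilpotent ↥R₁ := hR.isNilpotent
  have hnc : NormalizerCondition ↥R₁ := Group.normalizerCondition_of_isNilpotent
  have hlt : P.subgroupOf R₁ < ⊤ := by
    rw [lt_top_iff_ne_top]
    intro h
    exact hne (Subgroup.subgroupOf_eq_top.mp h)
  obtain ⟨g, hgn, hgP⟩ := SetLike.exists_of_lt (hnc _ hlt)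
  refine ⟨g.1, g.2, fun h => hgP (Subgroup.mem_subgroupOf.mpr h), fun x hx => ?_⟩
  have h1 := (Subgroup.mem_normalizer_iff.mp hgn ⟨x, hPR hx⟩).mp (Subgroup.mem_subgroupOf.mpr hx)
  simpa using Subgroup.mem_subgroupOf.mp h1

end TwoClsA

section Split

variable {H : Type*} [Group H]

/-- the commutator map `h ↦ h⁻¹ β(h)` as a homomorphism, when its values are central. -/
def tc_phi (D : Subgroup H) (hD : D ≤ center H) (β : H →* H) (hβ : ∀ h, h⁻¹ * β h ∈ D) :
    H →* H :=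
  MonoidHom.mk' (fun h => h⁻¹ * β h) (fun a b => by
    have h1 : (a⁻¹ * β a) * b⁻¹ = b⁻¹ * (a⁻¹ * β a) :=
      (Subgroup.mem_center_iff.mp (hD (hβ a)) b⁻¹).symm
    show (a * b)⁻¹ * β (a * b) = a⁻¹ * β a * (b⁻¹ * β b)
    rw [map_mul, mul_inv_rev]
    calc b⁻¹ * a⁻¹ * (β a * β b) = b⁻¹ * (a⁻¹ * β a) * β b := by group
      _ = (a⁻¹ * β a) * b⁻¹ * β b := by rw [h1]
      _ = _ := by group)

theorem tc_phi_apply (D : Subgroup H) (hD : D ≤ center H) (β : H →* H)
    (hβ : ∀ h, h⁻¹ * β h ∈ D) (h : H) : tc_phi D hD β hβ h = h⁻¹ * β h := rfl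

theorem tc_split (D : Subgroup H) (hD : D ≤ center H) (β : H →* H)
    (hβ : ∀ h, h⁻¹ * β h ∈ D) (k q : ℕ) (hkq : k.Coprime q) (hk : ∀ h, h ^ k ∈ D)
    (hq : ∀ h, β^[q] h = h) (h : H) : ∃ d ∈ D, β (d⁻¹ * h) = d⁻¹ * h := by
  set φ := tc_phi D hD β hβ with hφdef
  have hφ : ∀ x, φ x = x⁻¹ * β x := fun x => rfl
  have hφD : ∀ x, φ x ∈ D := fun x => hβ x
  have hβD : ∀ d ∈ D, β d ∈ D := by
    intro d hd
    have : β d = d * (d⁻¹ * β d) := by group
    rw [this]
    exact D.mul_mem hd (hβ d)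
  have hφβ : ∀ x, φ (β x) = β (φ x) := by
    intro x
    rw [hφ, hφ, map_mul, map_inv]
  set F : Subgroup H := D.map φ with hF
  have hFβ : ∀ f ∈ F, β f ∈ F := by
    rintro f ⟨d, hd, rfl⟩
    rw [← hφβ]
    exact Subgroup.mem_map_of_mem φ (hβD d hd)
  set c := φ h with hc
  have hcD : c ∈ D := hφD h
  have hck : c ^ k ∈ F := by
    rw [hc, ← map_pow]
    exact Subgroup.mem_map_of_mem φ (hk h)
  have hφcF : φ c ∈ F := Subgroup.mem_map_of_mem φ hcD
  have hci : ∀ x : H, x * c⁻¹ = c⁻¹ * x := fun x =>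
    Subgroup.mem_center_iff.mp (hD (D.inv_mem hcD)) x
  have key : ∀ n : ℕ, (c ^ n)⁻¹ * (h⁻¹ * β^[n] h) ∈ F ∧ c⁻¹ * φ (β^[n] h) ∈ F := by
    intro n
    induction n with
    | zero =>
      refine ⟨?_, ?_⟩
      · simp only [pow_zero, inv_one, Function.iterate_zero, id_eq, inv_mul_cancel, one_mul]
        exact F.one_mem
      · simp only [Function.iterate_zero, id_eq]
        rw [← hc, inv_mul_cancel]
        exact F.one_mem
    | succ n ih =>
      obtain ⟨ihA, ihB⟩ := ih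
      rw [Function.iterate_succ_apply']
      set u := β^[n] h with hu
      refine ⟨?_, ?_⟩
      · have e1 : (c ^ (n + 1))⁻¹ * (h⁻¹ * β u) =
            ((c ^ n)⁻¹ * (h⁻¹ * u)) * (c⁻¹ * φ u) := by
          rw [hφ]
          calc (c ^ (n + 1))⁻¹ * (h⁻¹ * β u)
              = (c ^ n)⁻¹ * (c⁻¹ * (h⁻¹ * u)) * (u⁻¹ * β u) := by group
            _ = (c ^ n)⁻¹ * ((h⁻¹ * u) * c⁻¹) * (u⁻¹ * β u) := by rw [hci]
            _ = _ := by group
        rw [e1]
        exact F.mul_mem ihA ihB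
      · have e2 : c⁻¹ * φ (β u) = φ c * β (c⁻¹ * φ u) := by
          rw [hφβ, hφ c, map_mul, map_inv]
          group
        rw [e2]
        exact F.mul_mem hφcF (hFβ _ ihB)
  have hcq : c ^ q ∈ F := by
    have h1 := (key q).1
    rw [hq h, inv_mul_cancel, mul_one] at h1
    exact (F.inv_mem_iff).mp h1
  have hcF : c ∈ F := Cfsg.Agent.helper21.ito_mem_of_pow_mem_of_coprime F c k q hkq hck hcq
  obtain ⟨d, hdD, hd⟩ := hcF
  refine ⟨d, hdD, ?_⟩
  have h1 : φ (d⁻¹ * h) = 1 := by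
    rw [map_mul, map_inv, hd, ← hc, inv_mul_cancel]
  rw [hφ] at h1
  exact (inv_mul_eq_one.mp h1).symm

end Split

end Cfsg.Agent.helper10
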