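import Mathlib
import Cfsg.Agent.Lib_helper10_TwoClsA

set_option autoImplicit false

namespace Cfsg.Agent.helper10

open Subgroup

section TwoClsB

variable {G : Type*} [Group G]

theorem tc_mem_Cn {x h : G} : h ∈ centralizer ({x} : Set G) ↔ Commute h x :=
  Subgroup.mem_centralizer_singleton_iff.trans (commute_iff_eq h x).symm

theorem tc_commute_conj_iff (a h w : G) :
    Commute (a * h * a⁻¹) (a * w * a⁻¹) ↔ Commute h w := by
  constructor
  · intro hc
    have := tc_commute_conj a⁻¹ hc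
    have e1 : a⁻¹ * (a * h * a⁻¹) * a⁻¹⁻¹ = h := by group
    have e2 : a⁻¹ * (a * w * a⁻¹) * a⁻¹⁻¹ = w := by group
    rwa [e1, e2] at this
  · exact tc_commute_conj a

theorem tc_map_conj_inf_Cn (N : Subgroup G) [hN : N.Normal] (a w : G) :
    (N ⊓ centralizer ({w} : Set G)).map (MulAut.conj a).toMonoidHom =
      N ⊓ centralizer ({a * w * a⁻¹} : Set G) := by
  ext x
  rw [mem_map_conj_iff, Subgroup.mem_inf, Subgroup.mem_inf, tc_mem_Cn, tc_mem_Cn]
  constructor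
  · rintro ⟨h1, h2⟩
    refine ⟨?_, ?_⟩
    · have := hN.conj_mem _ h1 a
      have e : a * (a⁻¹ * x * a) * a⁻¹ = x := by group
      rwa [e] at this
    · have := tc_commute_conj a h2
      have e : a * (a⁻¹ * x * a) * a⁻¹ = x := by group
      rwa [e] at this
  · rintro ⟨h1, h2⟩
    refine ⟨?_, ?_⟩
    · have := hN.conj_mem _ h1 a⁻¹
      rwa [inv_inv] at this
    · have := tc_commute_conj a⁻¹ h2
      have e2 : a⁻¹ * (a * w * a⁻¹) * a⁻¹⁻¹ = w := by group
      rwa [e2, inv_inv] at this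

/-- The standing hypotheses. -/
structure TCtx (r : ℕ) (N : Subgroup G) (m : ℕ) : Prop where
  nrm : N.Normal
  rsub : ∀ x : G, tc_PE r x → x ∈ N
  cop : (N.index).Coprime r
  hyp : ∀ x ∈ N, x ∉ center G → (centralizer ({x} : Set G)).index = m
  nc : ∃ z₁ : G, z₁ ∉ center G ∧ tc_PE r z₁

/-- `w` is a noncentral element of `N` with `N ∩ C(w) ≤ Z(C(w))`. -/
def tc_Good (N : Subgroup G) (w : G) : Prop :=
  w ∈ N ∧ w ∉ center G ∧ ∀ d ∈ N, Commute d w → ∀ h, Commute h w → Commute d h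

variable [Finite G] {r : ℕ} [hr : Fact r.Prime] {N : Subgroup G} {m : ℕ}

theorem TCtx.cent_eq (C : TCtx r N m) {x w : G} (hx : x ∈ N) (hxZ : x ∉ center G) (hw : w ∈ N)
    (hwZ : w ∉ center G) (hle : ∀ h, Commute h x → Commute h w) :
    ∀ h, Commute h w → Commute h x := by
  have h1 : centralizer ({x} : Set G) ≤ centralizer ({w} : Set G) := by
    intro h hh
    rw [tc_mem_Cn] at hh ⊢
    exact hle h hh
  have h2 := tc_eq_of_le_of_index_eq h1 (by rw [C.hyp x hx hxZ, C.hyp w hw hwZ])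
  intro h hh
  exact tc_mem_Cn.mp (h2 (tc_mem_Cn.mpr hh))

theorem TCtx.card_Cn (C : TCtx r N m) {x w : G} (hx : x ∈ N) (hxZ : x ∉ center G) (hw : w ∈ N)
    (hwZ : w ∉ center G) :
    Nat.card (centralizer ({x} : Set G)) = Nat.card (centralizer ({w} : Set G)) := by
  have h1 := Subgroup.card_mul_index (centralizer ({x} : Set G))
  have h2 := Subgroup.card_mul_index (centralizer ({w} : Set G))
  rw [C.hyp x hx hxZ] at h1
  rw [C.hyp w hw hwZ] at h2
  have hm : 0 < m := by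
    rw [← C.hyp x hx hxZ]
    exact Nat.pos_of_ne_zero Subgroup.index_ne_zero_of_finite
  exact Nat.eq_of_mul_eq_mul_right hm (h1.trans h2.symm)

theorem TCtx.T_le (C : TCtx r N m) {x y : G} (hx : x ∈ N) (hy : y ∈ N) (hxZ : x ∉ center G)
    (hc : Commute x y) (hco : (orderOf x).Coprime (orderOf y)) :
    ∀ h, Commute h x → Commute h y := by
  have hxy : x * y ∈ N := N.mul_mem hx hy
  have hxyZ : x * y ∉ center G := fun hm =>
    hxZ (Cfsg.Agent.helper21.mem_of_mul_mem_of_coprime _ hc hco hm)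
  have le1 : ∀ c, Commute c (x * y) → Commute c x := by
    intro c hcc
    have h1 : x * y ∈ centralizer ({c} : Set G) := tc_mem_Cn.mpr hcc.symm
    exact (tc_mem_Cn.mp (Cfsg.Agent.helper21.mem_of_mul_mem_of_coprime _ hc hco h1)).symm
  have le2 : ∀ c, Commute c (x * y) → Commute c y := by
    intro c hcc
    have h1 : y * x ∈ centralizer ({c} : Set G) := by
      rw [← hc.eq]; exact tc_mem_Cn.mpr hcc.symm
    exact (tc_mem_Cn.mp
      (Cfsg.Agent.helper21.mem_of_mul_mem_of_coprime _ hc.symm hco.symm h1)).symm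
  intro h hh
  exact le2 h (C.cent_eq hxy hxyZ hx hxZ le1 h hh)

theorem TCtx.good_of_pair (C : TCtx r N m) {p q : ℕ} (hp : p.Prime) (hq : q.Prime) (hpq : p ≠ q)
    {x y : G} (hx : x ∈ N) (hxZ : x ∉ center G) (hy : y ∈ N) (hyZ : y ∉ center G)
    (hc : Commute x y) (hxp : tc_PE p x) (hyq : tc_PE q y) : tc_Good N x := by
  have hco : (orderOf x).Coprime (orderOf y) := tc_coprime_of_PE hp hq hpq hxp hyq
  have hxy_le := C.T_le hx hy hxZ hc hco
  refine ⟨hx, hxZ, ?_⟩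
  intro d hd hdx h hh
  -- decompose d
  have hn0 : orderOf d ≠ 0 := (orderOf_pos d).ne'
  set n := orderOf d with hn
  set a := q ^ n.factorization q with ha
  set b := n / a with hb
  have hab : a * b = n := Nat.ordProj_mul_ordCompl_eq_self n q
  have hqb : Nat.Coprime q b := Nat.coprime_ordCompl hq hn0
  have hcop : a.Coprime b := hqb.pow_left _
  obtain ⟨i, hi⟩ := hxp
  obtain ⟨j, hj⟩ := hyq
  -- c₁ = d ^ a
  have hc1N : d ^ a ∈ N := N.pow_mem hd a
  have hc1y : Commute (d ^ a) y := (hxy_le d hdx).pow_left a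
  have hc1o : orderOf (d ^ a) ∣ b := by
    apply orderOf_dvd_of_pow_eq_one
    rw [← pow_mul, hab, hn, pow_orderOf_eq_one]
  have hc1co : (orderOf (d ^ a)).Coprime (orderOf y) := by
    rw [hj]
    exact (Nat.Coprime.coprime_dvd_left hc1o hqb.symm).pow_right j
  have h1 : Commute h (d ^ a) := by
    by_cases hZ : d ^ a ∈ center G
    · exact tc_commute_of_mem_center hZ h
    · have hle := C.T_le hc1N hy hZ hc1y hc1co
      exact C.cent_eq hc1N hZ hy hyZ hle h (hxy_le h hh)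
  -- c₂ = d ^ b
  have hc2N : d ^ b ∈ N := N.pow_mem hd b
  have hc2x : Commute (d ^ b) x := hdx.pow_left b
  have hc2o : orderOf (d ^ b) ∣ a := by
    apply orderOf_dvd_of_pow_eq_one
    rw [← pow_mul, mul_comm, hab, hn, pow_orderOf_eq_one]
  have hpqc : Nat.Coprime q p := (Nat.coprime_primes hq hp).mpr hpq.symm
  have hc2co : (orderOf (d ^ b)).Coprime (orderOf x) := by
    rw [hi]
    exact Nat.Coprime.coprime_dvd_left hc2o (Nat.Coprime.pow _ _ hpqc)
  have h2 : Commute h (d ^ b) := by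
    by_cases hZ : d ^ b ∈ center G
    · exact tc_commute_of_mem_center hZ h
    · have hle := C.T_le hc2N hx hZ hc2x hc2co
      exact C.cent_eq hc2N hZ hx hxZ hle h hh
  have hm : d ∈ centralizer ({h} : Set G) :=
    Cfsg.Agent.helper21.ito_mem_of_pow_mem_of_coprime _ d a b hcop
      (tc_mem_Cn.mpr h1.symm) (tc_mem_Cn.mpr h2.symm)
  exact tc_mem_Cn.mp hm

theorem TCtx.good_commute (C : TCtx r N m) {w d : G} (hw : tc_Good N w) (hd : d ∈ N)
    (hdZ : d ∉ center G) (hc : Commute d w) :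
    (∀ h, Commute h w ↔ Commute h d) ∧ tc_Good N d := by
  have hle : ∀ h, Commute h w → Commute h d := fun h hh => (hw.2.2 d hd hc h hh).symm
  have hge := C.cent_eq hw.1 hw.2.1 hd hdZ hle
  refine ⟨fun h => ⟨hle h, hge h⟩, hd, hdZ, ?_⟩
  intro d' hd' hd'd h hh
  exact hw.2.2 d' hd' (hge d' hd'd) h (hge h hh)

theorem TCtx.le_of_isPGroup (C : TCtx r N m) {A : Subgroup G} (hA : IsPGroup r A) : A ≤ N :=
  fun _ ha => C.rsub _ (tc_PE_of_mem hA ha)

theorem TCtx.exists_relt (C : TCtx r N m) {y : G} (hy : y ∈ N) (hyZ : y ∉ center G) :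
    ∃ x ∈ N, x ∉ center G ∧ Commute x y ∧ tc_PE r x := by
  obtain ⟨z₁, hz₁Z, hz₁⟩ := C.nc
  have hz₁N : z₁ ∈ N := C.rsub z₁ hz₁
  by_contra hcon
  push_neg at hcon
  obtain ⟨Q, hQle, hQ, hQcard⟩ := tc_exists_sylow_sub r (centralizer ({y} : Set G))
  have hQZ : Q ≤ center G := by
    intro q hq
    by_contra hqZ
    exact hcon q (C.le_of_isPGroup hQ hq) hqZ (tc_mem_Cn.mp (hQle hq)) (tc_PE_of_mem hQ hq)
  rw [C.card_Cn hy hyZ hz₁N hz₁Z] at hQcard
  have hQle' : Q ≤ centralizer ({z₁} : Set G) := by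
    intro q hq
    exact tc_mem_Cn.mpr (tc_commute_of_mem_center (hQZ hq) z₁).symm
  have hz₁Q : z₁ ∈ Q := by
    refine tc_mem_of_card_sylow r hQle' hQ hQcard (tc_mem_Cn.mpr (Commute.refl z₁)) hz₁ ?_
    intro q hq
    have : z₁ * q = q * z₁ := Subgroup.mem_center_iff.mp (hQZ hq) z₁
    rw [this, mul_inv_cancel_right]
    exact hq
  exact hz₁Z (hQZ hz₁Q)

theorem TCtx.central_of_not_good (C : TCtx r N m) {g : G} (hg : g ∈ N) (hgZ : g ∉ center G)
    (hgr : tc_PE r g) (hng : ¬ tc_Good N g) {c : G} (hc : c ∈ N) (hcg : Commute c g)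
    (hco : (orderOf c).Coprime r) : c ∈ center G := by
  by_contra hcZ
  obtain ⟨k, t, j, ht, hj, hord, hck⟩ :=
    Cfsg.Agent.helper21.exists_primePow_noncentral_pow c hcZ
  have htr : r ≠ t := by
    intro h
    subst h
    have h1 : r ∣ orderOf (c ^ k) := by rw [hord]; exact dvd_pow_self r (by omega)
    have h2 : r ∣ orderOf c := h1.trans (orderOf_pow_dvd k)
    exact (Nat.Prime.coprime_iff_not_dvd hr.out).mp hco.symm h2
  exact hng (C.good_of_pair hr.out ht htr hg hgZ (N.pow_mem hc k) hck (hcg.pow_left k).symm hgr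
    ⟨j, hord⟩)

theorem TCtx.good_of_PE_ne (C : TCtx r N m) {s : ℕ} (hs : s.Prime) (hsr : s ≠ r) {y : G}
    (hy : y ∈ N) (hyZ : y ∉ center G) (hys : tc_PE s y) : tc_Good N y := by
  obtain ⟨x, hxN, hxZ, hxy, hxr⟩ := C.exists_relt hy hyZ
  exact C.good_of_pair hs hr.out hsr hy hyZ hxN hxZ hxy.symm hys hxr

theorem TCtx.exists_E (C : TCtx r N m) {w : G} (hw : tc_Good N w) :
    ∃ E : Subgroup G, E ≤ N ⊓ centralizer ({w} : Set G) ∧ IsPGroup r E ∧
      Nat.card E = r ^ (Nat.card (centralizer ({w} : Set G))).factorization r ∧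
      ∀ d, Commute d w → tc_PE r d → d ∈ E := by
  obtain ⟨E, hle, hE, hcard⟩ := tc_exists_sylow_sub r (centralizer ({w} : Set G))
  refine ⟨E, le_inf (C.le_of_isPGroup hE) hle, hE, hcard, ?_⟩
  intro d hdw hd
  refine tc_mem_of_card_sylow r hle hE hcard (tc_mem_Cn.mpr hdw) hd ?_
  intro q hq
  have hdq : Commute d q := hw.2.2 d (C.rsub d hd) hdw q (tc_mem_Cn.mp (hle hq))
  rw [hdq.eq, mul_inv_cancel_right]
  exact hq

theorem TCtx.exists_Y (C : TCtx r N m) {w : G} (hw : tc_Good N w) (s : ℕ) [Fact s.Prime] :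
    ∃ Y : Subgroup G, Y ≤ N ⊓ centralizer ({w} : Set G) ∧ IsPGroup s Y ∧
      ∀ d ∈ N, Commute d w → tc_PE s d → d ∈ Y := by
  obtain ⟨Y, hle, hY, hcard⟩ := tc_exists_sylow_sub s (N ⊓ centralizer ({w} : Set G))
  refine ⟨Y, hle, hY, ?_⟩
  intro d hdN hdw hd
  refine tc_mem_of_card_sylow s hle hY hcard ⟨hdN, tc_mem_Cn.mpr hdw⟩ hd ?_
  intro q hq
  have hdq : Commute d q := hw.2.2 d hdN hdw q (tc_mem_Cn.mp (hle hq).2)
  rw [hdq.eq, mul_inv_cancel_right]
  exact hq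

theorem TCtx.good_conj (C : TCtx r N m) {w : G} (a : G) (hw : tc_Good N w) :
    tc_Good N (a * w * a⁻¹) := by
  refine ⟨C.nrm.conj_mem _ hw.1 a, fun h => hw.2.1 ((tc_conj_mem_center_iff a w).mp h), ?_⟩
  intro d hd hdw h hh
  have e1 : d = a * (a⁻¹ * d * a) * a⁻¹ := by group
  have e2 : h = a * (a⁻¹ * h * a) * a⁻¹ := by group
  have hd' : Commute (a⁻¹ * d * a) w := by
    rw [e1] at hdw
    exact (tc_commute_conj_iff a _ w).mp hdw
  have hh' : Commute (a⁻¹ * h * a) w := by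
    rw [e2] at hh
    exact (tc_commute_conj_iff a _ w).mp hh
  have hdN : a⁻¹ * d * a ∈ N := by
    have := C.nrm.conj_mem _ hd a⁻¹
    rwa [inv_inv] at this
  have := hw.2.2 _ hdN hd' _ hh'
  rw [e1, e2]
  exact tc_commute_conj a this

theorem TCtx.card_inf_conj (C : TCtx r N m) (a w : G) :
    Nat.card ↥(N ⊓ centralizer ({a * w * a⁻¹} : Set G)) =
      Nat.card ↥(N ⊓ centralizer ({w} : Set G)) := by
  haveI := C.nrm
  rw [← tc_map_conj_inf_Cn N a w]
  exact Subgroup.card_map_of_injective (MulAut.conj a).injective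

/-- (F4) splitting of `C(a)` -/
theorem TCtx.split (C : TCtx r N m) {a b : G} (ha : tc_Good N a) (hb : b ∈ N) (hbr : tc_PE r b)
    (hnorm : ∀ h, Commute h a → Commute (b * h * b⁻¹) a) :
    ∀ h, Commute h a → ∃ d ∈ N, Commute d a ∧ Commute (d⁻¹ * h) b := by
  haveI := C.nrm
  set Ha : Subgroup G := centralizer ({a} : Set G) with hHa
  set D : Subgroup ↥Ha := N.subgroupOf Ha with hD
  have hDc : D ≤ center ↥Ha := by
    intro d hd
    rw [Subgroup.mem_center_iff]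
    intro x
    apply Subtype.ext
    have hdN : (d : G) ∈ N := Subgroup.mem_subgroupOf.mp hd
    have := ha.2.2 (d : G) hdN (tc_mem_Cn.mp d.2) (x : G) (tc_mem_Cn.mp x.2)
    exact this.eq.symm
  let β : ↥Ha →* ↥Ha := MonoidHom.mk'
    (fun h => ⟨b * (h : G) * b⁻¹, tc_mem_Cn.mpr (hnorm _ (tc_mem_Cn.mp h.2))⟩)
    (fun x y => by
      apply Subtype.ext
      show b * ((x : G) * (y : G)) * b⁻¹ = b * (x : G) * b⁻¹ * (b * (y : G) * b⁻¹)
      group)
  have hβa : ∀ h : ↥Ha, ((β h : ↥Ha) : G) = b * (h : G) * b⁻¹ := fun h => rfl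
  have hβ : ∀ h : ↥Ha, h⁻¹ * β h ∈ D := by
    intro h
    rw [hD, Subgroup.mem_subgroupOf]
    show (h : G)⁻¹ * (b * (h : G) * b⁻¹) ∈ N
    have h1 : (h : G)⁻¹ * b * (h : G) ∈ N := by
      have := ‹N.Normal›.conj_mem b hb (h : G)⁻¹
      rwa [inv_inv] at this
    have e : (h : G)⁻¹ * (b * (h : G) * b⁻¹) = ((h : G)⁻¹ * b * (h : G)) * b⁻¹ := by group
    rw [e]
    exact N.mul_mem h1 (N.inv_mem hb)
  obtain ⟨j, hj⟩ := hbr
  have hkq : (N.index).Coprime (orderOf b) := by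
    rw [hj]
    exact C.cop.pow_right j
  have hk : ∀ h : ↥Ha, h ^ N.index ∈ D := by
    intro h
    rw [hD, Subgroup.mem_subgroupOf]
    show ((h ^ N.index : ↥Ha) : G) ∈ N
    rw [Subgroup.coe_pow]
    exact Subgroup.pow_index_mem N (h : G)
  have hiter : ∀ (n : ℕ) (h : ↥Ha), ((β^[n] h : ↥Ha) : G) = b ^ n * (h : G) * (b ^ n)⁻¹ := by
    intro n
    induction n with
    | zero => intro h; simp
    | succ n ih =>
      intro h
      rw [Function.iterate_succ_apply', hβa, ih]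
      rw [pow_succ']
      group
  have hq : ∀ h : ↥Ha, β^[orderOf b] h = h := by
    intro h
    apply Subtype.ext
    rw [hiter, pow_orderOf_eq_one]
    simp
  intro h hh
  obtain ⟨d, hdD, hd⟩ := tc_split D hDc β hβ N.index (orderOf b) hkq hk hq ⟨h, tc_mem_Cn.mpr hh⟩
  refine ⟨(d : G), Subgroup.mem_subgroupOf.mp hdD, tc_mem_Cn.mp d.2, ?_⟩
  have h1 := congrArg (fun x : ↥Ha => (x : G)) hd
  simp only [hβa] at h1
  have h2 : b * ((d : G)⁻¹ * h) * b⁻¹ = (d : G)⁻¹ * h := by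
    simpa using h1
  have h3 : b * ((d : G)⁻¹ * h) = (d : G)⁻¹ * h * b := mul_inv_eq_iff_eq_mul.mp h2
  exact ((commute_iff_eq _ _).mpr h3).symm

/-- (ADJ) -/
theorem TCtx.adj (C : TCtx r N m) {a b : G} (ha : tc_Good N a) (hb : tc_Good N b)
    (har : tc_PE r a) (hbr : tc_PE r b) (h1 : b * a * b⁻¹ * a⁻¹ ∈ center G)
    (h2 : a * b * a⁻¹ * b⁻¹ ∈ center G) :
    Nat.card ↥(N ⊓ centralizer ({a} : Set G)) = Nat.card ↥(N ⊓ centralizer ({b} : Set G)) := by
  haveI := C.nrm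
  have key : ∀ {a b : G}, tc_Good N a → tc_Good N b → tc_PE r b →
      b * a * b⁻¹ * a⁻¹ ∈ center G →
      centralizer ({a} : Set G) ⊔ N ≤ centralizer ({b} : Set G) ⊔ N := by
    intro a b ha hb hbr h1
    refine sup_le ?_ le_sup_right
    intro h hh
    obtain ⟨d, hdN, -, hdb⟩ := C.split ha hb.1 hbr
      (fun k hk => tc_commute_conj_of_central h1 hk) h (tc_mem_Cn.mp hh)
    have h3 : d * (d⁻¹ * h) ∈ N ⊔ centralizer ({b} : Set G) :=
      Subgroup.mul_mem_sup hdN (tc_mem_Cn.mpr hdb)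
    rw [mul_inv_cancel_left] at h3
    rw [sup_comm]
    exact h3
  have heq : centralizer ({a} : Set G) ⊔ N = centralizer ({b} : Set G) ⊔ N :=
    le_antisymm (key ha hb hbr h1) (key hb ha har h2)
  have e1 := tc_card_sup_mul_card_inf (centralizer ({a} : Set G)) N
  have e2 := tc_card_sup_mul_card_inf (centralizer ({b} : Set G)) N
  rw [heq, C.card_Cn ha.1 ha.2.1 hb.1 hb.2.1] at e1
  have hpos : 0 < Nat.card ↥(centralizer ({b} : Set G) ⊔ N) := Nat.card_pos
  exact Nat.eq_of_mul_eq_mul_left hpos (e1.trans e2.symm)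

end TwoClsB

end Cfsg.Agent.helper10
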