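import Mathlib
import Cfsg.Agent.Lib_helper10_TwoClsB

set_option autoImplicit false

namespace Cfsg.Agent.helper10

open Subgroup

section TwoClsC

/-- final arithmetic of the counting argument -/
theorem tc_arith {z e f μ π cS' cSst cS cSZ cY cYZ cP : ℕ} (hz : 0 < z) (he : 0 < e) (hf : 0 < f)
    (hcSZ : 0 < cSZ) (hcYZ : 0 < cYZ)
    (I5 : (μ + 1) * z ≤ e) (Sμ : cS' * μ = cSst) (hS' : cS' ≤ f)
    (I4 : f * cS ≤ cSZ * cSst) (I3 : cY * cSZ ≤ cYZ * cS) (I2 : (π + 1) * cYZ ≤ cY)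
    (Pc : e * π = cP) (I1 : e * e ≤ z * cP) : False := by
  have h1 : e ≤ z * π := by
    have : e * e ≤ e * (z * π) := by
      calc e * e ≤ z * cP := I1
        _ = e * (z * π) := by rw [← Pc]; ring
    exact Nat.le_of_mul_le_mul_left this he
  have h2 : (π + 1) * cSZ ≤ cS := by
    have : cYZ * ((π + 1) * cSZ) ≤ cYZ * cS := by
      calc cYZ * ((π + 1) * cSZ) = ((π + 1) * cYZ) * cSZ := by ring
        _ ≤ cY * cSZ := Nat.mul_le_mul_right _ I2
        _ ≤ cYZ * cS := I3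
    exact Nat.le_of_mul_le_mul_left this hcYZ
  have h3 : cS ≤ cSZ * μ := by
    have : f * cS ≤ f * (cSZ * μ) := by
      calc f * cS ≤ cSZ * cSst := I4
        _ = cSZ * (cS' * μ) := by rw [Sμ]
        _ ≤ cSZ * (f * μ) := Nat.mul_le_mul_left _ (Nat.mul_le_mul_right _ hS')
        _ = f * (cSZ * μ) := by ring
    exact Nat.le_of_mul_le_mul_left this hf
  have h4 : π + 1 ≤ μ := by
    have : cSZ * (π + 1) ≤ cSZ * μ := by
      calc cSZ * (π + 1) = (π + 1) * cSZ := by ring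
        _ ≤ cS := h2
        _ ≤ cSZ * μ := h3
    exact Nat.le_of_mul_le_mul_left this hcSZ
  have h5 : (π + 2) * z ≤ z * π := by
    calc (π + 2) * z ≤ (μ + 1) * z := Nat.mul_le_mul_right _ (by omega)
      _ ≤ e := I5
      _ ≤ z * π := h1
  have h6 : (π + 2) * z = z * π + 2 * z := by ring
  omega

variable {G : Type*} [Group G] [Finite G] {r : ℕ} [hr : Fact r.Prime] {N : Subgroup G} {m : ℕ}

/-- (NP) in the presence of a noncentral `s`-element (`s ≠ r`), every noncentral `r`-element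
of `N` is good. -/
theorem TCtx.np (C : TCtx r N m) {s : ℕ} (hs : s.Prime) (hsr : s ≠ r) {y₀ : G} (hy₀ : y₀ ∈ N)
    (hy₀Z : y₀ ∉ center G) (hy₀s : tc_PE s y₀) {g : G} (hg : g ∈ N) (hgZ : g ∉ center G)
    (hgr : tc_PE r g) : tc_Good N g := by
  by_contra hng
  haveI : Fact s.Prime := ⟨hs⟩
  haveI := C.nrm
  have hrp : r.Prime := hr.out
  have star : ∀ c ∈ N, Commute c g → (orderOf c).Coprime r → c ∈ center G :=
    fun c hc hcg hco => C.central_of_not_good hg hgZ hgr hng hc hcg hco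
  have hy₀good : tc_Good N y₀ := C.good_of_PE_ne hs hsr hy₀ hy₀Z hy₀s
  obtain ⟨x₀, hx₀N, hx₀Z, hx₀c, hx₀r⟩ := C.exists_relt hy₀ hy₀Z
  obtain ⟨hHeq, hx₀good⟩ := C.good_commute hy₀good hx₀N hx₀Z hx₀c
  set c₀ := Nat.card (centralizer ({y₀} : Set G)) with hc₀
  have hcard : ∀ w ∈ N, w ∉ center G → Nat.card (centralizer ({w} : Set G)) = c₀ :=
    fun w hw hwZ => C.card_Cn hw hwZ hy₀ hy₀Z
  set e := r ^ c₀.factorization r with he
  set f := s ^ c₀.factorization s with hf
  have hepos : 0 < e := pow_pos hrp.pos _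
  have hfpos : 0 < f := pow_pos hs.pos _
  -- E
  obtain ⟨E, hEle, hE, hEcard, hEmem⟩ := C.exists_E hy₀good
  have hEcard' : Nat.card E = e := hEcard
  have hx₀E : x₀ ∈ E := hEmem x₀ hx₀c hx₀r
  have hEgood : ∀ d ∈ E, d ∉ center G → (∀ h, Commute h y₀ ↔ Commute h d) ∧ tc_Good N d :=
    fun d hd hdZ => C.good_commute hy₀good (hEle hd).1 hdZ (tc_mem_Cn.mp (hEle hd).2)
  -- Y
  obtain ⟨Y, hYle, hY, hYmem⟩ := C.exists_Y hy₀good s
  have hy₀Y : y₀ ∈ Y := hYmem y₀ hy₀ (Commute.refl y₀) hy₀s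
  -- Z_r
  obtain ⟨Zr, hZrle, hZr, hZrcard⟩ := tc_exists_sylow_sub r (center G)
  set z := Nat.card Zr with hz
  have hzpos : 0 < z := Nat.card_pos
  have hzle : ∀ A : Subgroup G, IsPGroup r A → A ≤ center G → Nat.card A ≤ z := by
    intro A hA hAZ
    rw [hZrcard]
    exact tc_card_le_of_isPGroup r hA hAZ
  -- S*
  obtain ⟨Sst, hYS⟩ := hY.exists_le_sylow
  have hSp : IsPGroup s (Sst : Subgroup G) := Sst.isPGroup'
  have hnotle : ¬ ((Sst : Subgroup G) ⊓ N ≤ center G) := fun h => hy₀Z (h ⟨hYS hy₀Y, hy₀⟩)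
  obtain ⟨y, hyS, hyZ, hyhub⟩ := tc_hub (Sst : Subgroup G) hSp N hnotle
  have hys : tc_PE s y := tc_PE_of_mem hSp hyS.1
  have hygood : tc_Good N y := C.good_of_PE_ne hs hsr hyS.2 hyZ hys
  have hSnorm : ∀ h ∈ (Sst : Subgroup G), ∀ k, Commute k y → Commute (h * k * h⁻¹) y :=
    fun h hh k hk => tc_commute_conj_of_central (hyhub h hh).2 hk
  obtain ⟨Ey, hEyle, hEy, hEycard, hEymem⟩ := C.exists_E hygood
  rw [hcard y hyS.2 hyZ] at hEycard
  obtain ⟨xy, hxyN, hxyZ, hxyc, hxyr⟩ := C.exists_relt hyS.2 hyZ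
  have hxyE : xy ∈ Ey := hEymem xy hxyc hxyr
  obtain ⟨hCxy, -⟩ := C.good_commute hygood hxyN hxyZ hxyc
  have hCeq : centralizer ({xy} : Set G) = centralizer ({y} : Set G) := by
    ext h
    rw [tc_mem_Cn, tc_mem_Cn]
    exact (hCxy h).symm
  -- (I5)
  have FA1 := tc_fa (Sst : Subgroup G) Ey
    (fun u hu d hd => hEymem _ (hSnorm u hu d (tc_mem_Cn.mp (hEyle hd).2))
      (tc_PE_conj u (tc_PE_of_mem hEy hd)))
    xy hxyE hxyZ
    (fun u hu => tc_coprime_of_PE hs hrp hsr (tc_PE_of_mem hSp hu) hxyr)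
  rw [hCeq] at FA1
  set μ := (centralizer ({y} : Set G)).relIndex (Sst : Subgroup G) with hμ
  have hZrEy : Zr ≤ Ey ⊓ center G := by
    intro c hc
    exact ⟨hEymem c (tc_commute_of_mem_center (hZrle hc) y).symm (tc_PE_of_mem hZr hc),
      hZrle hc⟩
  have I5 : (μ + 1) * z ≤ e := by
    calc (μ + 1) * z ≤ (μ + 1) * Nat.card ↥(Ey ⊓ center G) :=
          Nat.mul_le_mul_left _ (Subgroup.card_le_of_le hZrEy)
      _ ≤ Nat.card Ey := FA1
      _ = e := hEycard
  -- (Sμ)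
  have Sμ := tc_card_inf_mul_relIndex (centralizer ({y} : Set G)) (Sst : Subgroup G)
  have hS' : Nat.card ↥(centralizer ({y} : Set G) ⊓ (Sst : Subgroup G)) ≤ f := by
    have := tc_card_le_of_isPGroup s
      (hSp.to_le (inf_le_right : centralizer ({y} : Set G) ⊓ (Sst : Subgroup G) ≤ Sst))
      (inf_le_left : centralizer ({y} : Set G) ⊓ (Sst : Subgroup G) ≤ centralizer ({y} : Set G))
    rw [hcard y hyS.2 hyZ] at this
    exact this
  -- T
  obtain ⟨T, hTle, hT, hTcard⟩ := tc_exists_sylow_sub s (centralizer ({g} : Set G))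
  rw [hcard g hg hgZ] at hTcard
  have hTN : ∀ t ∈ T, t ∈ N → t ∈ center G := by
    intro t ht htN
    obtain ⟨k, hk⟩ := tc_PE_of_mem hT ht
    refine star t htN (tc_mem_Cn.mp (hTle ht)) ?_
    rw [hk]
    exact Nat.Coprime.pow_left k ((Nat.coprime_primes hs hrp).mpr hsr)
  obtain ⟨a, ha⟩ := pgroup_conj_into_sylow Sst T hT
  set T' := T.map (MulAut.conj a).toMonoidHom with hT'
  have hT'card : Nat.card T' = f := by
    rw [hT', Subgroup.card_map_of_injective (MulAut.conj a).injective]; exact hTcard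
  set S : Subgroup G := (Sst : Subgroup G) ⊓ N with hS
  have hT'S : T' ⊓ S ≤ S ⊓ center G := by
    intro x hx
    refine ⟨hx.2, ?_⟩
    have h1 : a⁻¹ * x * a ∈ T := (mem_map_conj_iff T a x).mp hx.1
    have h2 : a⁻¹ * x * a ∈ N := by
      have := ‹N.Normal›.conj_mem x hx.2.2 a⁻¹
      rwa [inv_inv] at this
    have h3 := hTN _ h1 h2
    exact (tc_conj_mem_center_iff a⁻¹ x).mp (by rwa [inv_inv])
  have I4 : f * Nat.card S ≤ Nat.card ↥(S ⊓ center G) * Nat.card (Sst : Subgroup G) := by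
    have := tc_lpair (U := T') (W := S) (X := (Sst : Subgroup G)) ha inf_le_left
    calc f * Nat.card S = Nat.card T' * Nat.card S := by rw [hT'card]
      _ ≤ Nat.card ↥(T' ⊓ S) * Nat.card (Sst : Subgroup G) := this
      _ ≤ Nat.card ↥(S ⊓ center G) * Nat.card (Sst : Subgroup G) :=
          Nat.mul_le_mul_right _ (Subgroup.card_le_of_le hT'S)
  -- (I3)
  have hYS' : Y ≤ S := le_inf hYS (fun x hx => (hYle hx).1)
  have I3 : Nat.card Y * Nat.card ↥(S ⊓ center G) ≤ Nat.card ↥(Y ⊓ center G) * Nat.card S := by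
    have := tc_lpair (U := Y) (W := S ⊓ center G) (X := S) hYS' inf_le_left
    calc Nat.card Y * Nat.card ↥(S ⊓ center G)
        ≤ Nat.card ↥(Y ⊓ (S ⊓ center G)) * Nat.card S := this
      _ ≤ Nat.card ↥(Y ⊓ center G) * Nat.card S :=
          Nat.mul_le_mul_right _ (Subgroup.card_le_of_le (inf_le_inf_left Y inf_le_right))
  -- R₁, P
  obtain ⟨R₁, hER⟩ := hE.exists_le_sylow
  have hRp : IsPGroup r (R₁ : Subgroup G) := R₁.isPGroup'
  set P : Subgroup G := (R₁ : Subgroup G) ⊓ normalizer (E : Set G) with hP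
  have hEP : E ≤ P := le_inf hER le_normalizer
  have hPnormE : ∀ u ∈ P, ∀ d ∈ E, u * d * u⁻¹ ∈ E :=
    fun u hu d hd => (Subgroup.mem_normalizer_iff.mp hu.2 d).mp hd
  have hPnormH : ∀ u ∈ P, ∀ k, Commute k y₀ → Commute (u * k * u⁻¹) y₀ := by
    intro u hu k hk
    have h1 : u * x₀ * u⁻¹ ∈ E := hPnormE u hu x₀ hx₀E
    have h2 : u * x₀ * u⁻¹ ∉ center G := fun h => hx₀Z ((tc_conj_mem_center_iff u x₀).mp h)
    exact ((hEgood _ h1 h2).1 _).mpr (tc_commute_conj u ((hHeq k).mp hk))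
  have hPH : centralizer ({y₀} : Set G) ⊓ P = E := by
    apply le_antisymm
    · intro x hx
      exact hEmem x (tc_mem_Cn.mp hx.1) (tc_PE_of_mem hRp hx.2.1)
    · exact le_inf (fun x hx => (hEle hx).2) hEP
  set π := (centralizer ({y₀} : Set G)).relIndex P with hπ
  have Pc : e * π = Nat.card P := by
    have := tc_card_inf_mul_relIndex (centralizer ({y₀} : Set G)) P
    rw [hPH, hEcard'] at this
    exact this
  -- (I2)
  have I2 : (π + 1) * Nat.card ↥(Y ⊓ center G) ≤ Nat.card Y :=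
    tc_fa P Y
      (fun u hu d hd => hYmem _ (‹N.Normal›.conj_mem d (hYle hd).1 u)
        (hPnormH u hu d (tc_mem_Cn.mp (hYle hd).2)) (tc_PE_conj u (tc_PE_of_mem hY hd)))
      y₀ hy₀Y hy₀Z
      (fun u hu => tc_coprime_of_PE hrp hs (Ne.symm hsr) (tc_PE_of_mem hRp hu.1) hy₀s)
  -- (I1)
  have I1 : e * e ≤ z * Nat.card P := by
    by_cases hcase : (R₁ : Subgroup G) ≤ normalizer (E : Set G)
    · have hPR : P = (R₁ : Subgroup G) := inf_eq_left.mpr hcase
      obtain ⟨Qg, hQgle, hQg, hQgcard⟩ := tc_exists_sylow_sub r (centralizer ({g} : Set G))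
      rw [hcard g hg hgZ] at hQgcard
      obtain ⟨a', ha'⟩ := pgroup_conj_into_sylow R₁ Qg hQg
      set Q' := Qg.map (MulAut.conj a').toMonoidHom with hQ'
      have hQ'card : Nat.card Q' = e := by
        rw [hQ', Subgroup.card_map_of_injective (MulAut.conj a').injective]; exact hQgcard
      have hEQ : E ⊓ Q' ≤ center G := by
        intro w hw
        by_contra hwZ
        have hwgood := (hEgood w hw.1 hwZ).2
        have h1 : a'⁻¹ * w * a' ∈ Qg := (mem_map_conj_iff Qg a' w).mp hw.2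
        have h2 : tc_Good N (a'⁻¹ * w * a'⁻¹⁻¹) := C.good_conj a'⁻¹ hwgood
        rw [inv_inv] at h2
        have h3 : Commute (a'⁻¹ * w * a') g := tc_mem_Cn.mp (hQgle h1)
        exact hng (C.good_commute h2 hg hgZ h3.symm).2
      have hz' : Nat.card ↥(E ⊓ Q') ≤ z := hzle _ (hE.to_le inf_le_left) hEQ
      have := tc_lpair (U := E) (W := Q') (X := (R₁ : Subgroup G)) hER ha'
      calc e * e = Nat.card E * Nat.card Q' := by rw [hEcard', hQ'card]
        _ ≤ Nat.card ↥(E ⊓ Q') * Nat.card (R₁ : Subgroup G) := this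
        _ ≤ z * Nat.card (R₁ : Subgroup G) := Nat.mul_le_mul_right _ hz'
        _ = z * Nat.card P := by rw [hPR]
    · have hne : ¬ (R₁ : Subgroup G) ≤ P := fun h => hcase (h.trans inf_le_right)
      obtain ⟨g', hg'R, hg'P, hg'n⟩ := tc_exists_normalizing hRp (inf_le_left : P ≤ R₁) hne
      set E' := E.map (MulAut.conj g').toMonoidHom with hE'
      have hE'card : Nat.card E' = e := by
        rw [hE', Subgroup.card_map_of_injective (MulAut.conj g').injective]; exact hEcard'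
      have hE'P : E' ≤ P := by
        intro x hx
        have h1 : g'⁻¹ * x * g' ∈ E := (mem_map_conj_iff E g' x).mp hx
        have h2 := hg'n _ (hEP h1)
        have e1 : g' * (g'⁻¹ * x * g') * g'⁻¹ = x := by group
        rwa [e1] at h2
      have hEE : E ⊓ E' ≤ center G := by
        intro w hw
        by_contra hwZ
        have hd : g'⁻¹ * w * g' ∈ E := (mem_map_conj_iff E g' w).mp hw.2
        have hdZ : g'⁻¹ * w * g' ∉ center G := by
          intro h
          apply hwZ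
          exact (tc_conj_mem_center_iff g'⁻¹ w).mp (by rwa [inv_inv])
        have hw1 := (hEgood w hw.1 hwZ).1
        have hd1 := (hEgood _ hd hdZ).1
        apply hg'P
        refine ⟨hg'R, Subgroup.mem_normalizer_fintype ?_⟩
        intro n hn
        have hn1 : Commute n (g'⁻¹ * w * g') := (hd1 n).mp (tc_mem_Cn.mp (hEle hn).2)
        have hn2 := tc_commute_conj g' hn1
        have e1 : g' * (g'⁻¹ * w * g') * g'⁻¹ = w := by group
        rw [e1] at hn2
        exact hEmem _ ((hw1 _).mpr hn2) (tc_PE_conj g' (tc_PE_of_mem hE hn))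
      have hz' : Nat.card ↥(E ⊓ E') ≤ z := hzle _ (hE.to_le inf_le_left) hEE
      have := tc_lpair (U := E) (W := E') (X := P) hEP hE'P
      calc e * e = Nat.card E * Nat.card E' := by rw [hEcard', hE'card]
        _ ≤ Nat.card ↥(E ⊓ E') * Nat.card P := this
        _ ≤ z * Nat.card P := Nat.mul_le_mul_right _ hz'
  exact tc_arith hzpos hepos hfpos Nat.card_pos Nat.card_pos I5 Sμ hS' I4 I3 I2 Pc I1

end TwoClsC

end Cfsg.Agent.helper10
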