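import Mathlib
import Cfsg.Agent.Lib_helper10_TwoClsC

set_option autoImplicit false

namespace Cfsg.Agent.helper10

open Subgroup

section TwoClsD

variable {G : Type*} [Group G] [Finite G] {r : ℕ} [hr : Fact r.Prime] {N : Subgroup G} {m : ℕ}

theorem tc_nilpotent_of_isPGroup_quotient {K : Type*} [Group K] [Finite K] {p : ℕ}
    (hp : p.Prime) (h : IsPGroup p (K ⧸ center K)) : Group.IsNilpotent K := by
  haveI : Fact p.Prime := ⟨hp⟩
  haveI : Group.IsNilpotent (K ⧸ center K) := h.isNilpotent
  exact Subgroup.isNilpotent_of_ker_le_center (QuotientGroup.mk' (center K))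
    (by rw [QuotientGroup.ker_mk'])

theorem tc_main (C : TCtx r N m) : Group.IsNilpotent N := by
  classical
  haveI := C.nrm
  have hrp : r.Prime := hr.out
  by_cases hB : ∃ (s : ℕ) (y₀ : G), s.Prime ∧ s ≠ r ∧ y₀ ∈ N ∧ y₀ ∉ center G ∧ tc_PE s y₀
  · obtain ⟨s, y₀, hs, hsr, hy₀, hy₀Z, hy₀s⟩ := hB
    have hgood : ∀ w ∈ N, w ∉ center G → tc_Good N w := by
      intro w hw hwZ
      obtain ⟨k, t, j, ht, hj, hord, hwk⟩ :=
        Cfsg.Agent.helper21.exists_primePow_noncentral_pow w hwZ
      have hwkN : w ^ k ∈ N := N.pow_mem hw k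
      have hgk : tc_Good N (w ^ k) := by
        by_cases htr : t = r
        · rw [htr] at hord
          exact C.np hs hsr hy₀ hy₀Z hy₀s hwkN hwk ⟨j, hord⟩
        · exact C.good_of_PE_ne ht htr hwkN hwk ⟨j, hord⟩
      exact (C.good_commute hgk hw hwZ ((Commute.refl w).pow_right k)).2
    obtain ⟨z₁, hz₁Z, hz₁⟩ := C.nc
    obtain ⟨R, hzR⟩ := (tc_isPGroup_zpowers hz₁).exists_le_sylow
    have hz₁R : z₁ ∈ (R : Subgroup G) := hzR (mem_zpowers z₁)
    have hRp : IsPGroup r (R : Subgroup G) := R.isPGroup'
    have hRN : (R : Subgroup G) ≤ N := C.le_of_isPGroup hRp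
    have hnotle : ¬ ((R : Subgroup G) ⊓ N ≤ center G) :=
      fun h => hz₁Z (h ⟨hz₁R, hRN hz₁R⟩)
    obtain ⟨u, huR, huZ, huhub⟩ := tc_hub (R : Subgroup G) hRp N hnotle
    have hur : tc_PE r u := tc_PE_of_mem hRp huR.1
    have hugood := hgood u huR.2 huZ
    set d₀ := Nat.card ↥(N ⊓ centralizer ({u} : Set G)) with hd₀
    have hd₀pos : 0 < d₀ := Nat.card_pos
    have hR_const : ∀ w ∈ (R : Subgroup G), w ∉ center G →
        Nat.card ↥(N ⊓ centralizer ({w} : Set G)) = d₀ := by
      intro w hwR hwZ
      have hwgood := hgood w (hRN hwR) hwZ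
      obtain ⟨h1, h2⟩ := huhub w hwR
      exact (C.adj hugood hwgood hur (tc_PE_of_mem hRp hwR) h2 h1).symm
    have hconst : ∀ w ∈ N, w ∉ center G →
        Nat.card ↥(N ⊓ centralizer ({w} : Set G)) = d₀ := by
      intro w hw hwZ
      have hwgood := hgood w hw hwZ
      obtain ⟨x, hxN, hxZ, hxw, hxr⟩ := C.exists_relt hw hwZ
      obtain ⟨hCx, -⟩ := C.good_commute hwgood hxN hxZ hxw
      have hCeq : centralizer ({x} : Set G) = centralizer ({w} : Set G) := by
        ext h
        rw [tc_mem_Cn, tc_mem_Cn]
        exact (hCx h).symm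
      obtain ⟨a, ha⟩ := pgroup_conj_into_sylow R (zpowers x) (tc_isPGroup_zpowers hxr)
      have h1 : a * x * a⁻¹ ∈ (R : Subgroup G) :=
        ha (conj_mem_map_conj _ a x (mem_zpowers x))
      have h2 : a * x * a⁻¹ ∉ center G := fun h => hxZ ((tc_conj_mem_center_iff a x).mp h)
      have h3 := hR_const _ h1 h2
      rw [C.card_inf_conj a x, hCeq] at h3
      exact h3
    by_cases hab : ∃ x : ↥N, x ∉ center ↥N
    · have hidx : ∀ x : ↥N, x ∉ center ↥N →
          (centralizer ({x} : Set ↥N)).index = Nat.card N / d₀ := by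
        intro x hx
        have hxZ : (x : G) ∉ center G := by
          intro h
          apply hx
          rw [Subgroup.mem_center_iff]
          intro g
          apply Subtype.ext
          exact Subgroup.mem_center_iff.mp h (g : G)
        have hc := hconst (x : G) x.2 hxZ
        have hsub : centralizer ({x} : Set ↥N) =
            (centralizer ({(x : G)} : Set G)).subgroupOf N := by
          ext g
          rw [Subgroup.mem_subgroupOf, Subgroup.mem_centralizer_singleton_iff,
            Subgroup.mem_centralizer_singleton_iff]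
          constructor
          · intro h
            exact congrArg Subtype.val h
          · intro h
            exact Subtype.ext h
        have hrel : (centralizer ({x} : Set ↥N)).index =
            (centralizer ({(x : G)} : Set G)).relIndex N := by
          rw [hsub]
          rfl
        have h1 := tc_card_inf_mul_relIndex (centralizer ({(x : G)} : Set G)) N
        rw [inf_comm, hc] at h1
        rw [hrel]
        exact (Nat.div_eq_of_eq_mul_right hd₀pos h1.symm).symm
      obtain ⟨p, hp, hpG⟩ :=
        Cfsg.Agent.helper21.ito_isPGroup_quotient (Nat.card N / d₀) hidx hab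
      exact tc_nilpotent_of_isPGroup_quotient hp hpG
    · push_neg at hab
      exact Subgroup.isNilpotent_of_ker_le_center (1 : ↥N →* PUnit.{1}) (fun x _ => hab x)
  · push_neg at hB
    have key : ∀ g ∈ N, ∃ k : ℕ, g ^ r ^ k ∈ center G := by
      intro g hg
      set n := orderOf g with hn
      have hn0 : n ≠ 0 := (orderOf_pos g).ne'
      refine ⟨n.factorization r, ?_⟩
      by_contra hZ
      obtain ⟨k, t, j, ht, hj, hord, hck⟩ :=
        Cfsg.Agent.helper21.exists_primePow_noncentral_pow _ hZ
      have htr : t ≠ r := by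
        intro h
        rw [h] at hord
        have h1 : r ∣ orderOf ((g ^ r ^ n.factorization r) ^ k) := by
          rw [hord]; exact dvd_pow_self r (by omega)
        have h2 : orderOf ((g ^ r ^ n.factorization r) ^ k) ∣ n / r ^ n.factorization r := by
          apply orderOf_dvd_of_pow_eq_one
          rw [← pow_mul, ← pow_mul]
          have : r ^ n.factorization r * (k * (n / r ^ n.factorization r)) = n * k := by
            rw [mul_left_comm, Nat.ordProj_mul_ordCompl_eq_self, mul_comm]
          rw [this, pow_mul, hn, pow_orderOf_eq_one, one_pow]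
        have h3 : Nat.Coprime r (n / r ^ n.factorization r) := Nat.coprime_ordCompl hrp hn0
        exact (Nat.Prime.coprime_iff_not_dvd hrp).mp h3 (h1.trans h2)
      exact hB t _ ht htr (N.pow_mem (N.pow_mem hg _) k) hck ⟨j, hord⟩
    have hpG : IsPGroup r (↥N ⧸ center ↥N) := by
      intro q
      obtain ⟨x, rfl⟩ := QuotientGroup.mk_surjective q
      obtain ⟨k, hk⟩ := key (x : G) x.2
      refine ⟨k, ?_⟩
      rw [← QuotientGroup.mk_pow, QuotientGroup.eq_one_iff]
      rw [Subgroup.mem_center_iff]
      intro g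
      apply Subtype.ext
      have := Subgroup.mem_center_iff.mp hk (g : G)
      simpa using this
    exact tc_nilpotent_of_isPGroup_quotient hrp hpG

end TwoClsD

end Cfsg.Agent.helper10
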