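import Mathlib
import Cfsg.Statements.S1968
import Cfsg.Agent.Lib_helper10_Control

set_option autoImplicit false
open Cfsg

namespace Cfsg.Agent.S1968

open Cfsg.Agent.helper10

variable {G : Type*} [Group G]

theorem exists_moving {𝓕 : Set (Subgroup G)} (B : Set G) : ∀ (l : List (Subgroup G × G)),
    (∀ q ∈ l, q.1 ∈ 𝓕 ∧ q.2 ∈ Subgroup.normalizer ((q.1 : Subgroup G) : Set G)) → ChainCond B l →
    rconj B (l.map Prod.snd).prod ≠ B →
    ∃ T ∈ 𝓕, ∃ x ∈ Subgroup.normalizer (T : Set G), B ⊆ T ∧ rconj B x ≠ B := by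
  intro l
  induction l with
  | nil => intro _ _ h; simp [rconj_one] at h
  | cons q l ih =>
    intro hq hc hne
    obtain ⟨hBq, hc'⟩ := hc
    have hq1 := hq q List.mem_cons_self
    by_cases hmove : rconj B q.2 = B
    · rw [hmove] at hc'
      apply ih (fun q' hq' => hq q' (List.mem_cons_of_mem _ hq')) hc'
      simp only [List.map_cons, List.prod_cons] at hne
      rw [← rconj_rconj, hmove] at hne
      exact hne
    · exact ⟨q.1, hq1.1, q.2, hq1.2, hBq, hmove⟩

theorem result {G : Type*} [Group G] [Finite G] {p : ℕ} [Fact p.Prime] (S : Sylow p G) (W : Subgroup G → Subgroup G) (hW : Cfsg.IsConjugacyFunctor p W) (hWZ : ∀ P : Subgroup G, IsPGroup p ↥P → P ⊓ Subgroup.centralizer (P : Set G) ≤ W P) (A : Subgroup G) (hAZ : A ≤ (S : Subgroup G) ⊓ Subgroup.centralizer ((S : Subgroup G) : Set G)) (hAN : Subgroup.normalizer ((W (S : Subgroup G) : Subgroup G) : Set G) ≤ Subgroup.normalizer ((A : Subgroup G) : Set G)) (hnwc : ¬ Cfsg.IsWeaklyClosed A (S : Subgroup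 G)) : ∃ T : Subgroup G, Cfsg.IsWellPlaced p W (S : Subgroup G) T ∧ A ≤ T ∧ Subgroup.normalizer ((W ((S : Subgroup G) ⊓ Subgroup.normalizer ((T : Subgroup G) : Set G)) : Subgroup G) : Set G) ≤ Subgroup.normalizer ((A : Subgroup G) : Set G) ∧ ¬ p ∣ ((S : Subgroup G) ⊓ Subgroup.normalizer ((T : Subgroup G) : Set G)).relIndex (Subgroup.normalizer ((T : Subgroup G) : Set G)) ∧ A ≤ Subgroup.centralizer (((S : Subgroup G) ⊓ Subgroup.normalizer ((T : Subgroup G) : Set G) : Subgroup G) : Set G) ∧ ∃ g ∈ Subgroup.normalizer ((T : Subgroup G) : Set G), A.map (MulAut.conj g).toMonoidHom ≤ (S : Subgroup G) ⊓ Subgroup.normalizer ((T : Subgroup G) : Set G) ∧ A.map (MulAut.conj g).toMonoidHom ≠ A := by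
  classical
  have hS : IsPGroup p (S : Subgroup G) := S.isPGroup'
  have hAS : A ≤ (S : Subgroup G) := hAZ.trans inf_le_left
  have hAC : A ≤ Subgroup.centralizer ((S : Subgroup G) : Set G) := hAZ.trans inf_le_right
  have hex : ∃ g : G, A.map (MulAut.conj g).toMonoidHom ≤ (S : Subgroup G) ∧
      A.map (MulAut.conj g).toMonoidHom ≠ A := by
    by_contra hcon
    push Not at hcon
    exact hnwc ⟨hAS, hcon⟩
  obtain ⟨g, hgS, hgne⟩ := hex
  have hchain := alperin_chain S {T : Subgroup G | Cfsg.IsWellPlaced p W (S : Subgroup G) T}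
    (fun U hU => hU.1) (fun T hT => by
      obtain ⟨g, hg⟩ := exists_isWellPlaced_conj S hW T hT
      exact ⟨_, hg, ⟨g, rfl⟩, hg.2 0⟩)
  have hg' : rconj (A : Set G) g⁻¹ ⊆ (S : Subgroup G) := by
    rw [rconj_coe, inv_inv]; exact_mod_cast hgS
  obtain ⟨l, hl1, hl2, hl3⟩ := hchain _ A g⁻¹ rfl hAS hg'
  have hne' : rconj (A : Set G) (l.map Prod.snd).prod ≠ A := by
    rw [hl1, rconj_coe, inv_inv]
    intro h; exact hgne (SetLike.coe_injective h)
  obtain ⟨T, hTwp, x, hxT, hAT, hxne⟩ := exists_moving (A : Set G) l hl2 hl3 hne'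
  have hTwp' : Cfsg.IsWellPlaced p W (S : Subgroup G) T := hTwp
  have hAT' : A ≤ T := by exact_mod_cast hAT
  have hg₀T : x⁻¹ ∈ Subgroup.normalizer (T : Set G) := Subgroup.inv_mem _ hxT
  have hg₀A : x⁻¹ ∉ Subgroup.normalizer (A : Set G) := by
    intro h
    apply hxne
    rw [rconj_coe, (mem_normalizer_iff_map_conj A x⁻¹).mp h]
  have hAtower : ∀ k, A ≤ Cfsg.functorTower W (S : Subgroup G) T k := by
    intro k
    cases k with
    | zero => exact hAT'
    | succ k =>
      rw [functorTower_succ]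
      refine le_trans ?_ (hWZ (towerNS W (S : Subgroup G) T k) (hS.to_le inf_le_left))
      refine le_inf (hAT'.trans (le_towerNS p hW hS hTwp'.1 k)) ?_
      exact hAC.trans (Subgroup.centralizer_le
        (SetLike.coe_subset_coe.mpr (inf_le_left : towerNS W (S : Subgroup G) T k ≤ S)))
  obtain ⟨j, -, hj⟩ := exists_towerNS_stable hW (S := (S : Subgroup G)) (T := T) hS
  have hjS := towerNS_eq_of_stable hW hS j hj
  have hexP : ∃ k, Subgroup.normalizer
      ((Cfsg.functorTower W (S : Subgroup G) T (k + 1) : Subgroup G) : Set G) ≤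
        Subgroup.normalizer (A : Set G) :=
    ⟨j, by rw [functorTower_succ, hjS]; exact hAN⟩
  obtain ⟨i, hi, himin⟩ : ∃ i, (Subgroup.normalizer
      ((Cfsg.functorTower W (S : Subgroup G) T (i + 1) : Subgroup G) : Set G) ≤
        Subgroup.normalizer (A : Set G)) ∧ ∀ k < i, ¬ (Subgroup.normalizer
      ((Cfsg.functorTower W (S : Subgroup G) T (k + 1) : Subgroup G) : Set G) ≤
        Subgroup.normalizer (A : Set G)) :=
    ⟨Nat.find hexP, Nat.find_spec hexP, fun k hk => Nat.find_min hexP hk⟩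
  have hmover : ∃ y ∈ Subgroup.normalizer
      ((Cfsg.functorTower W (S : Subgroup G) T i : Subgroup G) : Set G),
      y ∉ Subgroup.normalizer (A : Set G) := by
    cases i with
    | zero => exact ⟨x⁻¹, hg₀T, hg₀A⟩
    | succ k =>
      have h := himin k (Nat.lt_succ_self k)
      obtain ⟨y, hy, hyA⟩ := SetLike.not_le_iff_exists.mp h
      exact ⟨y, hy, hyA⟩
  obtain ⟨y, hyT, hyA⟩ := hmover
  have hwp' := wellPlaced_shift hW hS hTwp' i
  refine ⟨Cfsg.functorTower W (S : Subgroup G) T i, hwp', hAtower i, ?_, ?_, ?_, ?_⟩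
  · exact hi
  · exact hwp'.2 0
  · exact hAC.trans (Subgroup.centralizer_le (SetLike.coe_subset_coe.mpr inf_le_left))
  · refine ⟨y, hyT, ?_, ?_⟩
    · have h1 : A.map (MulAut.conj y).toMonoidHom ≤
          (Cfsg.functorTower W (S : Subgroup G) T i).map (MulAut.conj y).toMonoidHom :=
        Subgroup.map_mono (hAtower i)
      rw [(mem_normalizer_iff_map_conj _ y).mp hyT] at h1
      exact h1.trans (le_inf hwp'.1 Subgroup.le_normalizer)
    · intro h; exact hyA ((mem_normalizer_iff_map_conj A y).mpr h)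

end Cfsg.Agent.S1968
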