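import Mathlib
import Cfsg.Prelude.Def_LocalStructure
import Cfsg.Agent.Lib_helper7_SN
import Cfsg.Agent.Lib_helper10_Sylow
import Cfsg.Agent.Lib_helper14_Amalgam2

set_option autoImplicit false
open Cfsg
open scoped commutatorElement

namespace Cfsg.Agent.helper14

open Cfsg.Agent.helper7

variable {H : Type*} [Group H]

/-- Sylow-free relative form of "`Q` is a weakly closed subgroup of `K`". -/
def WCin (p : ℕ) (K Q : Subgroup H) : Prop :=
  Q ≤ K ∧ ∀ k ∈ K, ∀ R : Subgroup H, R ≤ K → IsPGroup p R → Q ≤ R → cj k Q ≤ R → cj k Q = Q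

theorem WCin.mono {p : ℕ} {K K' Q : Subgroup H} (h : WCin p K Q) (hQ : Q ≤ K') (hK : K' ≤ K) :
    WCin p K' Q :=
  ⟨hQ, fun k hk R hR hRp hQR hkR => h.2 k (hK hk) R (hR.trans hK) hRp hQR hkR⟩

theorem cj_injective (g : H) {A B : Subgroup H} (h : cj g A = cj g B) : A = B := by
  have := congrArg (cj g⁻¹) h
  rwa [cj_inv_cj, cj_inv_cj] at this

theorem wcin_top_of_wc [Finite H] {p : ℕ} [Fact p.Prime] {Q : Subgroup H}
    (h : Cfsg.IsWeaklyClosedSubgroup p Q) : WCin p ⊤ Q := by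
  obtain ⟨T, hQT, hT⟩ := h
  refine ⟨le_top, ?_⟩
  intro k _ R _ hRp hQR hkR
  obtain ⟨g, hg⟩ := Cfsg.Agent.helper10.pgroup_conj_into_sylow T R hRp
  have h1 : cj g Q = Q := hT g ((cj_mono hQR).trans hg)
  have h2 : cj (g * k) Q = Q := by
    have h3 : cj (g * k) Q ≤ (T : Subgroup H) := by
      rw [← cj_cj]
      exact (cj_mono hkR).trans hg
    exact hT (g * k) h3
  apply cj_injective g
  rw [cj_cj, h2, h1]

theorem wc_of_wcin_top [Finite H] {p : ℕ} [Fact p.Prime] {Q : Subgroup H} (hQp : IsPGroup p Q)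
    (h : WCin p ⊤ Q) : Cfsg.IsWeaklyClosedSubgroup p Q := by
  obtain ⟨T, hT⟩ := hQp.exists_le_sylow
  exact ⟨T, hT, fun g hg => h.2 g (Subgroup.mem_top g) T le_top T.isPGroup' hT hg⟩

theorem WCin.normalizer_le {p : ℕ} {Q : Subgroup H} (h : WCin p ⊤ Q) (R : Subgroup H)
    (hRp : IsPGroup p R) (hQR : Q ≤ R) :
    Subgroup.normalizer (R : Set H) ≤ Subgroup.normalizer (Q : Set H) := by
  intro n hn
  apply mem_normalizer_of_cj_eq
  apply h.2 n (Subgroup.mem_top n) R le_top hRp hQR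
  have := cj_mono (g := n) hQR
  rwa [cj_eq_of_mem_normalizer hn] at this

theorem map_subtype_cj (K : Subgroup H) (k : ↥K) (Q' : Subgroup ↥K) :
    (cj k Q').map K.subtype = cj (k : H) (Q'.map K.subtype) := by
  show (Q'.map (MulAut.conj k).toMonoidHom).map K.subtype =
    (Q'.map K.subtype).map (MulAut.conj (k : H)).toMonoidHom
  rw [Subgroup.map_map, Subgroup.map_map]
  congr 1

/-- Relative Sylow subgroups: existence and conjugacy, in ambient form. -/
theorem exists_relSylow [Finite H] {p : ℕ} [Fact p.Prime] (K Q : Subgroup H) (hQK : Q ≤ K)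
    (hQp : IsPGroup p Q) :
    ∃ T : Subgroup H, T ≤ K ∧ IsPGroup p T ∧ Q ≤ T ∧
      ∀ R : Subgroup H, R ≤ K → IsPGroup p R → ∃ k ∈ K, cj k R ≤ T := by
  have hQ' : IsPGroup p (Q.subgroupOf K) := hQp.comap_subtype
  obtain ⟨P, hP⟩ := hQ'.exists_le_sylow
  refine ⟨(P : Subgroup ↥K).map K.subtype, Subgroup.map_subtype_le _, P.isPGroup'.map _, ?_, ?_⟩
  · intro q hq
    exact Subgroup.mem_map.mpr ⟨⟨q, hQK hq⟩, hP (Subgroup.mem_subgroupOf.mpr hq), rfl⟩
  · intro R hRK hRp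
    have hR' : IsPGroup p (R.subgroupOf K) := hRp.comap_subtype
    obtain ⟨k, hk⟩ := Cfsg.Agent.helper10.pgroup_conj_into_sylow P (R.subgroupOf K) hR'
    refine ⟨(k : H), k.2, ?_⟩
    have h1 := Subgroup.map_mono (f := K.subtype) hk
    have h2 := map_subtype_cj K k (R.subgroupOf K)
    rw [Subgroup.map_subgroupOf_eq_of_le hRK] at h2
    rw [← h2]
    exact h1

/-- Conjugates of a weakly closed subgroup inside `K` are `K`-conjugate. -/
theorem WCin.conj_in [Finite H] {p : ℕ} [Fact p.Prime] {Q : Subgroup H} (h : WCin p ⊤ Q)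
    (hQp : IsPGroup p Q) (K : Subgroup H) (hQK : Q ≤ K) (g : H) (hg : cj g Q ≤ K) :
    ∃ k ∈ K, cj g Q = cj k Q := by
  obtain ⟨T, hTK, hTp, hQT, hconj⟩ := exists_relSylow K Q hQK hQp
  obtain ⟨n, hn, hle⟩ := hconj (cj g Q) hg (hQp.map _)
  rw [cj_cj] at hle
  have h1 : cj (n * g) Q = Q := h.2 (n * g) (Subgroup.mem_top _) T le_top hTp hQT hle
  refine ⟨n⁻¹, K.inv_mem hn, ?_⟩
  apply cj_injective n
  rw [cj_cj, h1, cj_cj, mul_inv_cancel, cj_one]

/-- Bridge to the subgroup type. -/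
theorem wc_subgroupOf_of_wcin [Finite H] {p : ℕ} [Fact p.Prime] {K Q : Subgroup H}
    (hQp : IsPGroup p Q) (h : WCin p K Q) : Cfsg.IsWeaklyClosedSubgroup p (Q.subgroupOf K) := by
  have hQ' : IsPGroup p (Q.subgroupOf K) := hQp.comap_subtype
  apply wc_of_wcin_top hQ'
  refine ⟨le_top, ?_⟩
  intro k _ R' _ hR'p hQR' hkR'
  have h1 : cj (k : H) Q = Q := by
    apply h.2 (k : H) k.2 (R'.map K.subtype) (Subgroup.map_subtype_le _) (hR'p.map _)
    · have := Subgroup.map_mono (f := K.subtype) hQR'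
      rwa [Subgroup.map_subgroupOf_eq_of_le h.1] at this
    · have := Subgroup.map_mono (f := K.subtype) hkR'
      rwa [map_subtype_cj, Subgroup.map_subgroupOf_eq_of_le h.1] at this
  apply Subgroup.map_injective K.subtype_injective
  rw [map_subtype_cj, Subgroup.map_subgroupOf_eq_of_le h.1, h1]

theorem wcin_of_wc_subgroupOf [Finite H] {p : ℕ} [Fact p.Prime] {K Q : Subgroup H} (hQK : Q ≤ K)
    (h : Cfsg.IsWeaklyClosedSubgroup p (Q.subgroupOf K)) : WCin p K Q := by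
  have h' := wcin_top_of_wc h
  refine ⟨hQK, ?_⟩
  intro k hk R hRK hRp hQR hkR
  have h1 := h'.2 ⟨k, hk⟩ (Subgroup.mem_top _) (R.subgroupOf K) le_top hRp.comap_subtype
    (Subgroup.comap_mono hQR) (by
      intro x hx
      rw [Subgroup.mem_subgroupOf]
      apply hkR
      have h2 : (x : H) ∈ (cj (⟨k, hk⟩ : ↥K) (Q.subgroupOf K)).map K.subtype := ⟨x, hx, rfl⟩
      rwa [map_subtype_cj, Subgroup.map_subgroupOf_eq_of_le hQK] at h2)
  have h3 := congrArg (Subgroup.map K.subtype) h1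
  rwa [map_subtype_cj, Subgroup.map_subgroupOf_eq_of_le hQK] at h3

/-- Normalizers grow in `p`-groups, relative form. -/
theorem lt_inf_normalizer_of_lt' [Finite H] {p : ℕ} [Fact p.Prime] {S T : Subgroup H}
    (hS : IsPGroup p S) (hlt : T < S) : T < S ⊓ Subgroup.normalizer (T : Set H) := by
  have hle : T ≤ S := hlt.le
  haveI : Group.IsNilpotent S := hS.isNilpotent
  have hnc : NormalizerCondition S := Group.normalizerCondition_of_isNilpotent
  have h1 : T.subgroupOf S < ⊤ := by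
    rw [lt_top_iff_ne_top, Ne, Subgroup.subgroupOf_eq_top]
    exact not_le_of_gt hlt
  have h2 := hnc _ h1
  rw [← Subgroup.subgroupOf_normalizer_eq hle] at h2
  refine lt_of_le_of_ne (le_inf hle Subgroup.le_normalizer) ?_
  intro heq
  apply h2.ne
  ext ⟨x, hx⟩
  simp only [Subgroup.mem_subgroupOf]
  constructor
  · intro h; exact Subgroup.le_normalizer h
  · intro h
    have : x ∈ S ⊓ Subgroup.normalizer (T : Set H) := ⟨hx, h⟩
    rw [← heq] at this
    exact this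

theorem comm_le_inf_of_le_normalizer {Q P : Subgroup H}
    (h1 : P ≤ Subgroup.normalizer (Q : Set H)) (h2 : Q ≤ Subgroup.normalizer (P : Set H)) :
    ⁅Q, P⁆ ≤ Q ⊓ P :=
  le_inf (commutator_le_left_of_le_normalizer Q P h1) (commutator_le_right_of_le_normalizer Q P h2)

theorem le_normalizer_of_comm_le {Q P : Subgroup H} (h : ⁅Q, P⁆ ≤ Q) :
    P ≤ Subgroup.normalizer (Q : Set H) := by
  intro x hx
  rw [Subgroup.mem_normalizer_iff]
  have key : ∀ y ∈ P, ∀ q ∈ Q, y * q * y⁻¹ ∈ Q := by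
    intro y hy q hq
    have h1 : ⁅q, y⁆ ∈ ⁅Q, P⁆ := Subgroup.commutator_mem_commutator hq hy
    have h2 : y * q * y⁻¹ = (⁅q, y⁆)⁻¹ * q := by rw [commutatorElement_def]; group
    rw [h2]
    exact Q.mul_mem (Q.inv_mem (h h1)) hq
  intro q
  constructor
  · exact key x hx q
  · intro hq
    have := key x⁻¹ (P.inv_mem hx) _ hq
    have e : x⁻¹ * (x * q * x⁻¹) * x⁻¹⁻¹ = q := by group
    rwa [e] at this

end Cfsg.Agent.helper14
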