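import Mathlib
import Cfsg.Prelude.Def_LocalStructure
import Cfsg.Agent.Lib_helper14_WC
import Cfsg.Agent.Lib_helper7_Cores

set_option autoImplicit false
open Cfsg
open scoped commutatorElement

namespace Cfsg.Agent.helper14

open Cfsg.Agent.helper7

variable {H : Type*} [Group H]

theorem map_mk_cj (N : Subgroup H) [N.Normal] (x : H) (A : Subgroup H) :
    (A.map (QuotientGroup.mk' N)).map (MulAut.conj (QuotientGroup.mk' N x)).toMonoidHom =
      (cj x A).map (QuotientGroup.mk' N) := by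
  show _ = (A.map (MulAut.conj x).toMonoidHom).map (QuotientGroup.mk' N)
  rw [Subgroup.map_map, Subgroup.map_map]
  congr 1

theorem map_mk_cj_of_mem (N : Subgroup H) [N.Normal] (n : H) (hn : n ∈ N) (A : Subgroup H) :
    (cj n A).map (QuotientGroup.mk' N) = A.map (QuotientGroup.mk' N) := by
  rw [← map_mk_cj]
  have hn1 : QuotientGroup.mk' N n = 1 := (QuotientGroup.eq_one_iff n).mpr hn
  rw [hn1]
  exact cj_one _

/-- The image of a weakly closed subgroup in a quotient is weakly closed. -/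
theorem wc_map_mk [Finite H] {p : ℕ} [Fact p.Prime] {Q : Subgroup H}
    (h : Cfsg.IsWeaklyClosedSubgroup p Q) (N : Subgroup H) [N.Normal] :
    Cfsg.IsWeaklyClosedSubgroup p (Q.map (QuotientGroup.mk' N)) := by
  obtain ⟨T, hQT, hT⟩ := h
  have hQp : IsPGroup p Q := T.isPGroup'.to_le hQT
  have hsurj := QuotientGroup.mk'_surjective N
  refine ⟨T.mapSurjective hsurj, ?_, ?_⟩
  · rw [Sylow.coe_mapSurjective]; exact Subgroup.map_mono hQT
  · intro gbar hgbar
    obtain ⟨g, rfl⟩ := hsurj gbar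
    rw [Sylow.coe_mapSurjective] at hgbar
    rw [map_mk_cj] at hgbar ⊢
    have hle : cj g Q ≤ (T : Subgroup H) ⊔ N := by
      have h1 := Subgroup.comap_mono (f := QuotientGroup.mk' N) hgbar
      rw [Subgroup.comap_map_eq, Subgroup.comap_map_eq, QuotientGroup.ker_mk'] at h1
      exact le_sup_left.trans h1
    obtain ⟨x, hx, hxle⟩ := Cfsg.Agent.helper10.pgroup_conj_into_sylow_in_subgroup T
      ((T : Subgroup H) ⊔ N) le_sup_left (cj g Q) (hQp.map _) hle
    have hxle' : cj (x * g) Q ≤ (T : Subgroup H) := by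
      rw [← cj_cj]; exact hxle
    have h2 : cj (x * g) Q = Q := hT (x * g) hxle'
    obtain ⟨t, ht, n, hn, hxe⟩ : ∃ t ∈ (T : Subgroup H), ∃ n ∈ N, x = t * n := by
      have : x ∈ (((T : Subgroup H) ⊔ N : Subgroup H) : Set H) := hx
      rw [Subgroup.mul_normal] at this
      obtain ⟨t, ht, n, hn, e⟩ := this
      exact ⟨t, ht, n, hn, e.symm⟩
    have h3 : cj t⁻¹ Q = Q := by
      apply hT
      intro y hy
      rw [mem_cj, inv_inv] at hy
      have hy' := hQT hy
      have e : y = t⁻¹ * (t * y * t⁻¹) * t := by group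
      rw [e]
      exact Subgroup.mul_mem _ (Subgroup.mul_mem _ (Subgroup.inv_mem _ ht) hy') ht
    -- `cj (n * g) Q = Q`
    have h4 : cj (n * g) Q = Q := by
      have e : cj t (cj (n * g) Q) = Q := by
        rw [cj_cj, ← mul_assoc, ← hxe]; exact h2
      have := congrArg (cj t⁻¹) e
      rwa [cj_inv_cj, h3] at this
    have h5 : cj g Q = cj n⁻¹ Q := by
      have e : cj n (cj g Q) = Q := by rw [cj_cj]; exact h4
      have := congrArg (cj n⁻¹) e
      rwa [cj_inv_cj] at this
    rw [h5]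
    exact map_mk_cj_of_mem N n⁻¹ (N.inv_mem hn) Q

/-- A subnormal subgroup of `K` containing the weakly closed `Q` contains all `K`-conjugates. -/
theorem WCin.cj_le_of_sn [Finite H] {p : ℕ} [Fact p.Prime] {Q : Subgroup H} (h : WCin p ⊤ Q)
    (hQp : IsPGroup p Q) {M K : Subgroup H} (hsn : SN M K) :
    Q ≤ M → ∀ k ∈ K, cj k Q ≤ M := by
  induction hsn with
  | refl K =>
    intro hQK k hk
    have := cj_mono (g := k) hQK
    rwa [cj_eq_of_mem_normalizer (Subgroup.le_normalizer hk)] at this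
  | step M M₁ K hMM₁ hn _ ih =>
    intro hQM k hk
    have h1 := ih (hQM.trans hMM₁) k hk
    obtain ⟨m, hm, he⟩ := h.conj_in hQp M₁ (hQM.trans hMM₁) k h1
    rw [he]
    have := cj_mono (g := m) hQM
    rwa [cj_eq_of_mem_normalizer (hn hm)] at this

theorem cj_le_comm_sup (N' Q : Subgroup H) (n : H) (hn : n ∈ N') : cj n Q ≤ ⁅N', Q⁆ ⊔ Q := by
  rintro _ ⟨q, hq, rfl⟩
  have e : (MulAut.conj n).toMonoidHom q = ⁅n, q⁆ * q := by
    simp only [MulEquiv.coe_toMonoidHom, MulAut.conj_apply, commutatorElement_def]; group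
  rw [e]
  exact Subgroup.mul_mem _ (Subgroup.mem_sup_left (Subgroup.commutator_mem_commutator hn hq))
    (Subgroup.mem_sup_right hq)

end Cfsg.Agent.helper14
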