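import Mathlib
import Cfsg.Prelude.Def_LocalStructure
import Cfsg.Agent.Lib_helper14_WC2
import Cfsg.Agent.Lib_helper14_Amalgam5

set_option autoImplicit false
set_option linter.style.haveILetI false
open Cfsg
open scoped Pointwise

namespace Cfsg.Agent.helper14

open Cfsg.Agent.helper7

variable {H : Type*} [Group H]

theorem weakClosure_mono (Q : Subgroup H) {X X' : Subgroup H} (h : X ≤ X') :
    Cfsg.weakClosure Q X ≤ Cfsg.weakClosure Q X' := by
  unfold Cfsg.weakClosure
  apply iSup_le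
  rintro ⟨g, hg⟩
  exact le_iSup (fun g : {g : H // Q.map (MulAut.conj g).toMonoidHom ≤ X'} =>
    Q.map (MulAut.conj (g : H)).toMonoidHom) ⟨g, hg.trans h⟩

theorem le_weakClosure (Q : Subgroup H) {X : Subgroup H} (h : Q ≤ X) :
    Q ≤ Cfsg.weakClosure Q X := by
  unfold Cfsg.weakClosure
  have h1 : Q.map (MulAut.conj (1 : H)).toMonoidHom = Q := cj_one Q
  have := le_iSup (fun g : {g : H // Q.map (MulAut.conj g).toMonoidHom ≤ X} =>
    Q.map (MulAut.conj (g : H)).toMonoidHom) ⟨1, by rw [h1]; exact h⟩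
  have h2 : Q ≤ Q.map (MulAut.conj (1 : H)).toMonoidHom := by rw [h1]
  exact h2.trans this

theorem le_normalizer_weakClosure (Q X : Subgroup H) :
    X ≤ Subgroup.normalizer ((Cfsg.weakClosure Q X : Subgroup H) : Set H) := by
  apply le_normalizer_of_map_conj_le
  intro x hx
  unfold Cfsg.weakClosure
  rw [Subgroup.map_iSup]
  apply iSup_le
  rintro ⟨g, hg⟩
  have h1 : (cj g Q).map (MulAut.conj x).toMonoidHom = cj (x * g) Q := cj_cj x g Q
  have h2 : cj (x * g) Q ≤ X := by
    rw [← cj_cj]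
    have := cj_mono (g := x) hg
    rwa [cj_eq_of_mem_normalizer (Subgroup.le_normalizer hx)] at this
  show (cj g Q).map (MulAut.conj x).toMonoidHom ≤ _
  rw [h1]
  exact le_iSup (fun g : {g : H // Q.map (MulAut.conj g).toMonoidHom ≤ X} =>
    Q.map (MulAut.conj (g : H)).toMonoidHom) ⟨x * g, h2⟩

theorem weakClosure_eq_of_le_normalizer {p : ℕ} [Fact p.Prime] {Q X : Subgroup H}
    (hw : WCin p ⊤ Q) (hQp : IsPGroup p Q) (hQX : Q ≤ X)
    (hXQ : X ≤ Subgroup.normalizer (Q : Set H)) : Cfsg.weakClosure Q X = Q := by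
  apply le_antisymm _ (le_weakClosure Q hQX)
  unfold Cfsg.weakClosure
  apply iSup_le
  rintro ⟨g, hg⟩
  have hgp : IsPGroup p (cj g Q) := hQp.map _
  have hRp : IsPGroup p ((cj g Q ⊔ Q : Subgroup H)) :=
    IsPGroup.to_sup_of_normal_right' hgp hQp (hg.trans hXQ)
  have := hw.2 g (Subgroup.mem_top g) (cj g Q ⊔ Q) le_top hRp le_sup_right le_sup_left
  show cj g Q ≤ Q
  rw [this]

end Cfsg.Agent.helper14
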