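import Mathlib
import Cfsg.Prelude.Def_LocalStructure
import Cfsg.Agent.Lib_helper14_WkCl
import Cfsg.Agent.Lib_helper14_OpSub
import Cfsg.Agent.Lib_helper7_Local
import Cfsg.Agent.Lib_helper10_PResidual

set_option autoImplicit false
open Cfsg
open scoped commutatorElement

namespace Cfsg.Agent.helper10

open Cfsg.Agent.helper7 Cfsg.Agent.helper14

/-! ### Type-level lemmas: conjugates of a weakly closed subgroup and `O^p` -/

/-- Every conjugate of a weakly closed `p`-subgroup is a conjugate under `O^p(L)`. -/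
theorem wf_conj_resid {L : Type*} [Group L] [Finite L] {p : ℕ} [Fact p.Prime] (Q : Subgroup L)
    (hQp : IsPGroup p Q) (hw : WCin p ⊤ Q) (l : L) :
    ∃ k ∈ Cfsg.pResidual p L, cj l Q = cj k Q := by
  obtain ⟨T, hQT⟩ := hQp.exists_le_sylow
  obtain ⟨s, hs, k, hk, e⟩ := exists_mul_of_pResidual_sylow p T l⁻¹
  refine ⟨k⁻¹, Subgroup.inv_mem _ hk, ?_⟩
  have hl : l = k⁻¹ * s⁻¹ := by rw [← mul_inv_rev, ← e, inv_inv]
  have h1 : cj s⁻¹ Q = Q := by
    apply hw.2 s⁻¹ (Subgroup.mem_top _) T le_top T.isPGroup' hQT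
    have := cj_mono (g := s⁻¹) hQT
    rwa [cj_eq_of_mem_normalizer (Subgroup.le_normalizer (Subgroup.inv_mem _ hs))] at this
  rw [hl, ← cj_cj, h1]

/-- If `L` is generated by the conjugates of the weakly closed `p`-subgroup `Q`, then
`O^p(L) = [O^p(L), Q]`. -/
theorem wf_comm_resid {L : Type*} [Group L] [Finite L] {p : ℕ} [Fact p.Prime] (Q : Subgroup L)
    (hQp : IsPGroup p Q) (hw : WCin p ⊤ Q)
    (hgen : ∀ N : Subgroup L, (∀ l : L, cj l Q ≤ N) → N = ⊤) :
    ⁅Cfsg.pResidual p L, Q⁆ = Cfsg.pResidual p L := by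
  haveI := pResidual_normal p L
  apply le_antisymm (Subgroup.commutator_le_left _ Q)
  have hQn : Q ≤ Subgroup.normalizer ((⁅Cfsg.pResidual p L, Q⁆ : Subgroup L) : Set L) := by
    intro y hy
    apply mem_normalizer_of_cj_eq
    rw [cj_commutator, cj_eq_of_mem_normalizer (Subgroup.le_normalizer hy),
      cj_eq_of_mem_normalizer (H := Cfsg.pResidual p L)
        (by rw [Subgroup.normalizer_eq_top]; exact Subgroup.mem_top y)]
  have htop : ⁅Cfsg.pResidual p L, Q⁆ ⊔ Q = ⊤ := by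
    apply hgen
    intro l
    obtain ⟨k, hk, e⟩ := wf_conj_resid Q hQp hw l
    rw [e]
    exact cj_le_comm_sup _ Q k hk
  have h1 : opOf p (⁅Cfsg.pResidual p L, Q⁆ ⊔ Q) ≤ ⁅Cfsg.pResidual p L, Q⁆ :=
    opOf_le_of_sup_pgroup _ Q hQp hQn
  rw [htop] at h1
  refine le_trans ?_ h1
  unfold Cfsg.pResidual opOf
  apply Subgroup.closure_mono
  intro g hg
  exact ⟨Subgroup.mem_top g, hg⟩

/-! ### Ambient version for `W = weakClosure Q X` -/

variable {G : Type*} [Group G]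

theorem wf_weakClosure_le (Q X : Subgroup G) : Cfsg.weakClosure Q X ≤ X := by
  unfold Cfsg.weakClosure
  apply iSup_le
  rintro ⟨g, hg⟩
  exact hg

theorem wf_cj_le_weakClosure (Q X : Subgroup G) (g : G) (hg : cj g Q ≤ X) :
    cj g Q ≤ Cfsg.weakClosure Q X := by
  unfold Cfsg.weakClosure
  exact le_iSup (fun g : {g : G // Q.map (MulAut.conj g).toMonoidHom ≤ X} =>
    Q.map (MulAut.conj (g : G)).toMonoidHom) ⟨g, hg⟩

/-- A subgroup containing all `X`-conjugates of `Q` contains the weak closure of `Q` in `X`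
(for `Q ≤ X` weakly closed). -/
theorem wf_weakClosure_le_of_conj [Finite G] {p : ℕ} [Fact p.Prime] {Q : Subgroup G}
    (hQp : IsPGroup p Q) (hw : WCin p ⊤ Q) (X : Subgroup G) (hQX : Q ≤ X) (N : Subgroup G)
    (h : ∀ x ∈ X, cj x Q ≤ N) : Cfsg.weakClosure Q X ≤ N := by
  unfold Cfsg.weakClosure
  apply iSup_le
  rintro ⟨g, hg⟩
  obtain ⟨x, hx, e⟩ := hw.conj_in hQp X hQX g hg
  show cj g Q ≤ N
  rw [e]
  exact h x hx

theorem wf_K_facts [Finite G] {p : ℕ} [Fact p.Prime] {Q : Subgroup G}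
    (hQp : IsPGroup p Q) (hw : WCin p ⊤ Q) (X : Subgroup G) (hQX : Q ≤ X) :
    ⁅opOf p (Cfsg.weakClosure Q X), Q⁆ = opOf p (Cfsg.weakClosure Q X) ∧
    ∀ w ∈ Cfsg.weakClosure Q X, ∃ k ∈ opOf p (Cfsg.weakClosure Q X), cj w Q = cj k Q := by
  set W := Cfsg.weakClosure Q X with hW
  have hQW : Q ≤ W := le_weakClosure Q hQX
  have hQ'p : IsPGroup p (Q.subgroupOf W) := hQp.comap_subtype
  have hw' : WCin p ⊤ (Q.subgroupOf W) :=
    wcin_top_of_wc (wc_subgroupOf_of_wcin hQp (hw.mono hQW le_top))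
  have hmapQ : (Q.subgroupOf W).map W.subtype = Q := Subgroup.map_subgroupOf_eq_of_le hQW
  have hgen : ∀ N' : Subgroup ↥W, (∀ l : ↥W, cj l (Q.subgroupOf W) ≤ N') → N' = ⊤ := by
    intro N' hN'
    have h1 : W ≤ N'.map W.subtype := by
      have h2 : Cfsg.weakClosure Q W ≤ N'.map W.subtype := by
        apply wf_weakClosure_le_of_conj hQp hw W hQW
        intro x hx
        have h3 := Subgroup.map_mono (f := W.subtype) (hN' ⟨x, hx⟩)
        rwa [map_subtype_cj, hmapQ] at h3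
      refine le_trans ?_ h2
      -- W ≤ weakClosure Q W
      rw [hW]
      unfold Cfsg.weakClosure
      apply iSup_le
      rintro ⟨g, hg⟩
      have hgW : cj g Q ≤ W := wf_cj_le_weakClosure Q X g hg
      exact le_iSup (fun g : {g : G // Q.map (MulAut.conj g).toMonoidHom ≤
        (⨆ g : {g : G // Q.map (MulAut.conj g).toMonoidHom ≤ X},
          Q.map (MulAut.conj (g : G)).toMonoidHom)} =>
        Q.map (MulAut.conj (g : G)).toMonoidHom) ⟨g, hgW⟩
    rw [Subgroup.eq_top_iff']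
    intro x
    obtain ⟨y, hy, hyx⟩ := Subgroup.mem_map.mp (h1 x.2)
    have : y = x := Subtype.ext hyx
    rwa [← this]
  constructor
  · have h := wf_comm_resid (Q.subgroupOf W) hQ'p hw' hgen
    have h2 := congrArg (Subgroup.map W.subtype) h
    rw [Subgroup.map_commutator, map_pResidual_eq_opOf, hmapQ] at h2
    exact h2
  · intro w hwW
    obtain ⟨k, hk, e⟩ := wf_conj_resid (Q.subgroupOf W) hQ'p hw' ⟨w, hwW⟩
    refine ⟨(k : G), ?_, ?_⟩
    · rw [← map_pResidual_eq_opOf]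
      exact Subgroup.mem_map_of_mem W.subtype hk
    · have h2 := congrArg (Subgroup.map W.subtype) e
      rwa [map_subtype_cj, map_subtype_cj, hmapQ] at h2

/-! ### Centralizer modulo a subgroup -/

/-- `{y ∈ N_G(N) | [a, y] ∈ N for all a ∈ A}` as a subgroup. -/
def cmod (A N : Subgroup G) : Subgroup G where
  carrier := {y | y ∈ Subgroup.normalizer (N : Set G) ∧ ∀ a ∈ A, ⁅a, y⁆ ∈ N}
  one_mem' := ⟨Subgroup.one_mem _, fun a _ => by
    rw [commutatorElement_def]; simp [N.one_mem]⟩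
  mul_mem' := by
    rintro y₁ y₂ ⟨h1, h1'⟩ ⟨h2, h2'⟩
    refine ⟨Subgroup.mul_mem _ h1 h2, fun a ha => ?_⟩
    have e : ⁅a, y₁ * y₂⁆ = ⁅a, y₁⁆ * (y₁ * ⁅a, y₂⁆ * y₁⁻¹) := by
      simp only [commutatorElement_def]; group
    rw [e]
    exact N.mul_mem (h1' a ha) ((Subgroup.mem_normalizer_iff.mp h1 _).mp (h2' a ha))
  inv_mem' := by
    rintro y ⟨h1, h1'⟩
    refine ⟨Subgroup.inv_mem _ h1, fun a ha => ?_⟩
    have e : ⁅a, y⁻¹⁆ = y⁻¹ * (⁅a, y⁆)⁻¹ * y⁻¹⁻¹ := by
      simp only [commutatorElement_def]; group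
    rw [e]
    exact (Subgroup.mem_normalizer_iff.mp (Subgroup.inv_mem _ h1) _).mp (N.inv_mem (h1' a ha))

theorem mem_cmod {A N : Subgroup G} {y : G} :
    y ∈ cmod A N ↔ y ∈ Subgroup.normalizer (N : Set G) ∧ ∀ a ∈ A, ⁅a, y⁆ ∈ N := Iff.rfl

theorem cmod_comm_mem {A N : Subgroup G} {a y : G} (hy : y ∈ cmod A N) (ha : a ∈ A) :
    ⁅a, y⁆ ∈ N := hy.2 a ha

theorem cmod_comm_mem' {A N : Subgroup G} {a y : G} (hy : y ∈ cmod A N) (ha : a ∈ A) :
    ⁅y, a⁆ ∈ N := by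
  have : ⁅y, a⁆ = (⁅a, y⁆)⁻¹ := by simp only [commutatorElement_def]; group
  rw [this]
  exact N.inv_mem (hy.2 a ha)

theorem commutator_le_of_le_cmod {A B N : Subgroup G} (h : B ≤ cmod A N) : ⁅A, B⁆ ≤ N := by
  rw [Subgroup.commutator_le]
  intro a ha b hb
  exact (h hb).2 a ha

theorem commutator_le_of_le_cmod' {A B N : Subgroup G} (h : B ≤ cmod A N) : ⁅B, A⁆ ≤ N := by
  rw [Subgroup.commutator_comm]
  exact commutator_le_of_le_cmod h

end Cfsg.Agent.helper10
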