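import Mathlib
import Cfsg.Prelude.Def_LocalStructure
import Cfsg.Agent.Lib_helper10_WkFacA

set_option autoImplicit false
open Cfsg
open scoped commutatorElement

namespace Cfsg.Agent.helper10

open Cfsg.Agent.helper7 Cfsg.Agent.helper14

variable {G : Type*} [Group G]

theorem wf_le_normalizer_sup {X A B : Subgroup G} (hA : X ≤ Subgroup.normalizer (A : Set G))
    (hB : X ≤ Subgroup.normalizer (B : Set G)) :
    X ≤ Subgroup.normalizer ((A ⊔ B : Subgroup G) : Set G) := by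
  intro x hx
  apply mem_normalizer_of_cj_eq
  show (A ⊔ B).map _ = _
  rw [Subgroup.map_sup]
  have h1 : A.map (MulAut.conj x).toMonoidHom = A := cj_eq_of_mem_normalizer (hA hx)
  have h2 : B.map (MulAut.conj x).toMonoidHom = B := cj_eq_of_mem_normalizer (hB hx)
  rw [h1, h2]

theorem wf_le_normalizer_commutator {X A B : Subgroup G}
    (hA : X ≤ Subgroup.normalizer (A : Set G)) (hB : X ≤ Subgroup.normalizer (B : Set G)) :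
    X ≤ Subgroup.normalizer ((⁅A, B⁆ : Subgroup G) : Set G) := by
  intro x hx
  apply mem_normalizer_of_cj_eq
  rw [cj_commutator, cj_eq_of_mem_normalizer (hA hx), cj_eq_of_mem_normalizer (hB hx)]

theorem wf_conj_mem_of_normalizer {N : Subgroup G} {y u : G}
    (hy : y ∈ Subgroup.normalizer (N : Set G)) (hu : u ∈ N) : y * u * y⁻¹ ∈ N :=
  (Subgroup.mem_normalizer_iff.mp hy u).mp hu

/-- The hypotheses of the factorization lemma for the weak closure of a weakly closed subgroup. -/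
structure WFCtx (p : ℕ) (Q Hc H₁ H₂ : Subgroup G) : Prop where
  hQp : IsPGroup p Q
  hw : WCin p ⊤ Q
  hQHc : Q ≤ Hc
  gen : ∀ N : Subgroup G, (∀ h ∈ Hc, cj h Q ≤ N) → Hc ≤ N
  h1 : H₁ ≤ Hc
  n1 : Hc ≤ Subgroup.normalizer (H₁ : Set G)
  h2 : H₂ ≤ Hc
  n2 : Hc ≤ Subgroup.normalizer (H₂ : Set G)
  prod : H₁ ⊔ H₂ = Hc
  comm : ⁅H₁, H₂⁆ ≤ Subgroup.normalizer (Q : Set G)

namespace WFCtx

variable {p : ℕ} {Q Hc H₁ H₂ : Subgroup G}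

theorem symm (c : WFCtx p Q Hc H₁ H₂) : WFCtx p Q Hc H₂ H₁ where
  hQp := c.hQp
  hw := c.hw
  hQHc := c.hQHc
  gen := c.gen
  h1 := c.h2
  n1 := c.n2
  h2 := c.h1
  n2 := c.n1
  prod := by rw [sup_comm]; exact c.prod
  comm := by rw [Subgroup.commutator_comm]; exact c.comm

theorem conj_le (c : WFCtx p Q Hc H₁ H₂) {h : G} (hh : h ∈ Hc) : cj h Q ≤ Hc := by
  have := cj_mono (g := h) c.hQHc
  rwa [cj_eq_of_mem_normalizer (Subgroup.le_normalizer hh)] at this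

theorem D_le_left (c : WFCtx p Q Hc H₁ H₂) : ⁅H₁, H₂⁆ ≤ H₁ :=
  commutator_le_left_of_le_normalizer H₁ H₂ (c.h2.trans c.n1)

theorem D_le_right (c : WFCtx p Q Hc H₁ H₂) : ⁅H₁, H₂⁆ ≤ H₂ :=
  commutator_le_right_of_le_normalizer H₁ H₂ (c.h1.trans c.n2)

theorem D_le (c : WFCtx p Q Hc H₁ H₂) : ⁅H₁, H₂⁆ ≤ Hc := c.D_le_left.trans c.h1

theorem D_normal (c : WFCtx p Q Hc H₁ H₂) :
    Hc ≤ Subgroup.normalizer ((⁅H₁, H₂⁆ : Subgroup G) : Set G) :=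
  wf_le_normalizer_commutator c.n1 c.n2

variable [Finite G] [hp : Fact p.Prime]

theorem E_le (_c : WFCtx p Q Hc H₁ H₂) : piCoreIn {p} ⁅H₁, H₂⁆ ≤ ⁅H₁, H₂⁆ := piCoreIn_le _ _

theorem E_pgroup (_c : WFCtx p Q Hc H₁ H₂) : IsPGroup p ↥(piCoreIn {p} ⁅H₁, H₂⁆) :=
  piCoreIn_isPGroup hp.out _

theorem E_normal (c : WFCtx p Q Hc H₁ H₂) :
    Hc ≤ Subgroup.normalizer ((piCoreIn {p} ⁅H₁, H₂⁆ : Subgroup G) : Set G) :=
  c.D_normal.trans (normalizer_le_normalizer_radOf (P := PiGrp {p}) (fun g _ h => h.conj g) _)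

theorem E_le_core (c : WFCtx p Q Hc H₁ H₂) : piCoreIn {p} ⁅H₁, H₂⁆ ≤ piCoreIn {p} Hc :=
  piCoreIn_le_of_sn (SN.of_normal c.D_le c.D_normal)

theorem E_le_Hc (c : WFCtx p Q Hc H₁ H₂) : piCoreIn {p} ⁅H₁, H₂⁆ ≤ Hc := c.E_le.trans c.D_le

/-- `[D, Hc] ≤ E`. -/
theorem U1 (c : WFCtx p Q Hc H₁ H₂) : Hc ≤ cmod ⁅H₁, H₂⁆ (piCoreIn {p} ⁅H₁, H₂⁆) := by
  apply c.gen
  intro h hh y hy
  refine ⟨c.E_normal (c.conj_le hh hy), fun d hd => ?_⟩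
  have hDn : ⁅H₁, H₂⁆ ≤ Subgroup.normalizer ((cj h Q : Subgroup G) : Set G) := by
    have := cj_mono (g := h) c.comm
    rwa [cj_eq_of_mem_normalizer (c.D_normal hh), cj_normalizer] at this
  have hQn : cj h Q ≤ Subgroup.normalizer ((⁅H₁, H₂⁆ : Subgroup G) : Set G) :=
    (c.conj_le hh).trans c.D_normal
  have hR_le : ⁅⁅H₁, H₂⁆, cj h Q⁆ ≤ ⁅H₁, H₂⁆ ⊓ cj h Q :=
    comm_le_inf_of_le_normalizer hQn hDn
  have hRp : IsPGroup p ↥(⁅⁅H₁, H₂⁆, cj h Q⁆) :=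
    (c.hQp.map (MulAut.conj h).toMonoidHom).to_le (hR_le.trans inf_le_right)
  have hDR : ⁅H₁, H₂⁆ ≤ Subgroup.normalizer ((⁅⁅H₁, H₂⁆, cj h Q⁆ : Subgroup G) : Set G) :=
    wf_le_normalizer_commutator Subgroup.le_normalizer hDn
  have hle : ⁅⁅H₁, H₂⁆, cj h Q⁆ ≤ piCoreIn {p} ⁅H₁, H₂⁆ :=
    le_piCoreIn_of_sn (SN.of_normal (hR_le.trans inf_le_left) hDR)
      ((isPGroup_iff_piGrp hp.out).1 hRp)
  exact hle (Subgroup.commutator_mem_commutator hd hy)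

theorem A_le (_c : WFCtx p Q Hc H₁ H₂) : ⁅H₁, H₁⁆ ≤ H₁ :=
  commutator_le_left_of_le_normalizer H₁ H₁ Subgroup.le_normalizer

theorem A_normal (c : WFCtx p Q Hc H₁ H₂) :
    Hc ≤ Subgroup.normalizer ((⁅H₁, H₁⁆ : Subgroup G) : Set G) :=
  wf_le_normalizer_commutator c.n1 c.n1

/-- `[H₁', H₂] ≤ E` (three subgroups lemma modulo `E`). -/
theorem U2 (c : WFCtx p Q Hc H₁ H₂) : ⁅H₁, H₁⁆ ≤ cmod H₂ (piCoreIn {p} ⁅H₁, H₂⁆) := by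
  rw [Subgroup.commutator_le]
  intro x hx y hy
  have hxy : ⁅x, y⁆ ∈ H₁ := c.A_le (Subgroup.commutator_mem_commutator hx hy)
  refine ⟨c.E_normal (c.h1 hxy), fun z hz => ?_⟩
  have hd₁ : ⁅z⁻¹, x⁻¹⁆ ∈ ⁅H₁, H₂⁆ := by
    rw [Subgroup.commutator_comm]
    exact Subgroup.commutator_mem_commutator (H₂.inv_mem hz) (H₁.inv_mem hx)
  have hd₂ : ⁅y⁻¹, z⁆ ∈ ⁅H₁, H₂⁆ :=
    Subgroup.commutator_mem_commutator (H₁.inv_mem hy) hz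
  have he₁ : ⁅y, ⁅z⁻¹, x⁻¹⁆⁆ ∈ piCoreIn {p} ⁅H₁, H₂⁆ := cmod_comm_mem' (c.U1 (c.h1 hy)) hd₁
  have he₂ : ⁅x⁻¹, ⁅y⁻¹, z⁆⁆ ∈ piCoreIn {p} ⁅H₁, H₂⁆ :=
    cmod_comm_mem' (c.U1 (c.h1 (H₁.inv_mem hx))) hd₂
  have hxz : x * z ∈ Subgroup.normalizer ((piCoreIn {p} ⁅H₁, H₂⁆ : Subgroup G) : Set G) :=
    c.E_normal (Hc.mul_mem (c.h1 hx) (c.h2 hz))
  have hxy' : x * y ∈ Subgroup.normalizer ((piCoreIn {p} ⁅H₁, H₂⁆ : Subgroup G) : Set G) :=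
    c.E_normal (Hc.mul_mem (c.h1 hx) (c.h1 hy))
  have key : ⁅z, ⁅x, y⁆⁆ = ((x * z) * (⁅y, ⁅z⁻¹, x⁻¹⁆⁆)⁻¹ * (x * z)⁻¹) *
      ((x * y) * (⁅x⁻¹, ⁅y⁻¹, z⁆⁆)⁻¹ * (x * y)⁻¹) := by
    simp only [commutatorElement_def]; group
  rw [key]
  exact Subgroup.mul_mem _ (wf_conj_mem_of_normalizer hxz (Subgroup.inv_mem _ he₁))
    (wf_conj_mem_of_normalizer hxy' (Subgroup.inv_mem _ he₂))

end WFCtx

end Cfsg.Agent.helper10
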