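import Mathlib
import Cfsg.Prelude.Def_LocalStructure
import Cfsg.Agent.Lib_helper10_WkFacB

set_option autoImplicit false
open Cfsg
open scoped commutatorElement

namespace Cfsg.Agent.helper10

open Cfsg.Agent.helper7 Cfsg.Agent.helper14

variable {G : Type*} [Group G]

/-- `K = O^p(weak closure of Q in H Q)`. -/
def wfK (p : ℕ) (Q H : Subgroup G) : Subgroup G := opOf p (Cfsg.weakClosure Q (H ⊔ Q))

namespace WFCtx

variable {p : ℕ} {Q Hc H₁ H₂ : Subgroup G} [Finite G] [hp : Fact p.Prime]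

theorem hQn1 (c : WFCtx p Q Hc H₁ H₂) : Q ≤ Subgroup.normalizer (H₁ : Set G) := c.hQHc.trans c.n1

theorem K_le (c : WFCtx p Q Hc H₁ H₂) : wfK p Q H₁ ≤ H₁ :=
  (opOf_mono p (wf_weakClosure_le Q _)).trans (opOf_le_of_sup_pgroup H₁ Q c.hQp c.hQn1)

theorem K_le_Hc (c : WFCtx p Q Hc H₁ H₂) : wfK p Q H₁ ≤ Hc := c.K_le.trans c.h1

theorem K_comm_Q (c : WFCtx p Q Hc H₁ H₂) : ⁅wfK p Q H₁, Q⁆ = wfK p Q H₁ :=
  (wf_K_facts c.hQp c.hw (H₁ ⊔ Q) le_sup_right).1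

theorem K_norm (_c : WFCtx p Q Hc H₁ H₂) :
    H₁ ⊔ Q ≤ Subgroup.normalizer ((wfK p Q H₁ : Subgroup G) : Set G) :=
  (le_normalizer_weakClosure Q _).trans (normalizer_le_normalizer_opOf p _)

theorem K_idem (_c : WFCtx p Q Hc H₁ H₂) : opOf p (wfK p Q H₁) = wfK p Q H₁ := opOf_idem p _

theorem K_conj (c : WFCtx p Q Hc H₁ H₂) {h : G} (hh : h ∈ H₁) :
    ∃ k ∈ wfK p Q H₁, cj h Q = cj k Q := by
  have h1 : cj h Q ≤ H₁ ⊔ Q := by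
    have := cj_mono (g := h) (le_sup_right : Q ≤ H₁ ⊔ Q)
    rwa [cj_eq_of_mem_normalizer (Subgroup.le_normalizer (Subgroup.mem_sup_left hh))] at this
  have h2 : cj h Q ≤ Cfsg.weakClosure Q (H₁ ⊔ Q) := wf_cj_le_weakClosure Q _ h h1
  obtain ⟨w, hw, e⟩ := c.hw.conj_in c.hQp _ (le_weakClosure Q le_sup_right) h h2
  obtain ⟨k, hk, e2⟩ := (wf_K_facts c.hQp c.hw (H₁ ⊔ Q) le_sup_right).2 w hw
  exact ⟨k, hk, e.trans e2⟩

/-- `K₁ ≤ H₁'`. -/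
theorem K_le_A (c : WFCtx p Q Hc H₁ H₂) : wfK p Q H₁ ≤ ⁅H₁, H₁⁆ := by
  have hAD_n : Hc ≤ Subgroup.normalizer ((⁅H₁, H₁⁆ ⊔ ⁅H₁, H₂⁆ : Subgroup G) : Set G) :=
    wf_le_normalizer_sup c.A_normal c.D_normal
  have hAE_n : Hc ≤ Subgroup.normalizer
      ((⁅H₁, H₁⁆ ⊔ piCoreIn {p} ⁅H₁, H₂⁆ : Subgroup G) : Set G) :=
    wf_le_normalizer_sup c.A_normal c.E_normal
  have step1 : Hc ≤ cmod H₁ (⁅H₁, H₁⁆ ⊔ ⁅H₁, H₂⁆) := by
    rw [← c.prod]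
    apply sup_le
    · intro y hy
      exact ⟨hAD_n (c.h1 hy), fun k hk =>
        Subgroup.mem_sup_left (Subgroup.commutator_mem_commutator hk hy)⟩
    · intro y hy
      exact ⟨hAD_n (c.h2 hy), fun k hk =>
        Subgroup.mem_sup_right (Subgroup.commutator_mem_commutator hk hy)⟩
  have hK1 : wfK p Q H₁ ≤ ⁅H₁, H₁⁆ ⊔ ⁅H₁, H₂⁆ := by
    rw [← c.K_comm_Q, Subgroup.commutator_le]
    intro k hk x hx
    exact (step1 (c.hQHc hx)).2 k (c.K_le hk)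
  have step2 : ⁅H₁, H₁⁆ ⊔ ⁅H₁, H₂⁆ ≤ cmod Hc (⁅H₁, H₁⁆ ⊔ piCoreIn {p} ⁅H₁, H₂⁆) := by
    apply sup_le
    · intro u hu
      refine ⟨hAE_n (c.h1 (c.A_le hu)), fun y hy => ?_⟩
      have e : ⁅y, u⁆ = (y * u * y⁻¹) * u⁻¹ := by simp only [commutatorElement_def]
      rw [e]
      exact Subgroup.mem_sup_left (Subgroup.mul_mem _
        (wf_conj_mem_of_normalizer (c.A_normal hy) hu) (Subgroup.inv_mem _ hu))
    · intro u hu
      exact ⟨hAE_n (c.D_le hu), fun y hy =>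
        Subgroup.mem_sup_right (cmod_comm_mem' (c.U1 hy) hu)⟩
  have hK2 : wfK p Q H₁ ≤ ⁅H₁, H₁⁆ ⊔ piCoreIn {p} ⁅H₁, H₂⁆ := by
    rw [← c.K_comm_Q, Subgroup.commutator_le]
    intro k hk x hx
    exact cmod_comm_mem' (step2 (hK1 hk)) (c.hQHc hx)
  calc wfK p Q H₁ = opOf p (wfK p Q H₁) := c.K_idem.symm
    _ ≤ opOf p (⁅H₁, H₁⁆ ⊔ piCoreIn {p} ⁅H₁, H₂⁆) := opOf_mono p hK2
    _ ≤ ⁅H₁, H₁⁆ := opOf_le_of_sup_pgroup _ _ c.E_pgroup (c.E_le_Hc.trans c.A_normal)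

/-- `K₁ ⊴ Hc`. -/
theorem K_normal (c : WFCtx p Q Hc H₁ H₂) :
    Hc ≤ Subgroup.normalizer ((wfK p Q H₁ : Subgroup G) : Set G) := by
  have hEK : piCoreIn {p} ⁅H₁, H₂⁆ ≤ Subgroup.normalizer ((wfK p Q H₁ : Subgroup G) : Set G) :=
    (c.E_le.trans c.D_le_left).trans (le_sup_left.trans c.K_norm)
  have hKE : wfK p Q H₁ = opOf p (wfK p Q H₁ ⊔ piCoreIn {p} ⁅H₁, H₂⁆) := by
    apply le_antisymm
    · calc wfK p Q H₁ = opOf p (wfK p Q H₁) := c.K_idem.symm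
        _ ≤ _ := opOf_mono p le_sup_left
    · exact opOf_le_of_sup_pgroup _ _ c.E_pgroup hEK
  have hN : Hc ≤ Subgroup.normalizer
      ((wfK p Q H₁ ⊔ piCoreIn {p} ⁅H₁, H₂⁆ : Subgroup G) : Set G) := by
    rw [← c.prod]
    apply sup_le
    · exact wf_le_normalizer_sup (le_sup_left.trans c.K_norm) (c.h1.trans c.E_normal)
    · apply le_normalizer_of_map_conj_le
      intro z hz
      rw [Subgroup.map_sup]
      apply sup_le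
      · rintro _ ⟨k, hk, rfl⟩
        have e : (MulAut.conj z).toMonoidHom k = ⁅z, k⁆ * k := by
          simp only [MulEquiv.coe_toMonoidHom, MulAut.conj_apply, commutatorElement_def]; group
        rw [e]
        exact Subgroup.mul_mem _ (Subgroup.mem_sup_right ((c.U2 (c.K_le_A hk)).2 z hz))
          (Subgroup.mem_sup_left hk)
      · have : (piCoreIn {p} ⁅H₁, H₂⁆).map (MulAut.conj z).toMonoidHom =
            piCoreIn {p} ⁅H₁, H₂⁆ := cj_eq_of_mem_normalizer (c.E_normal (c.h2 hz))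
        rw [this]
        exact le_sup_right
  have := normalizer_le_normalizer_opOf p (wfK p Q H₁ ⊔ piCoreIn {p} ⁅H₁, H₂⁆)
  rw [← hKE] at this
  exact hN.trans this

/-- `[K₁, H₁] = K₁`. -/
theorem K_comm_H (c : WFCtx p Q Hc H₁ H₂) : ⁅wfK p Q H₁, H₁⁆ = wfK p Q H₁ := by
  apply le_antisymm (commutator_le_left_of_le_normalizer _ H₁ (le_sup_left.trans c.K_norm))
  have hB_n : Hc ≤ Subgroup.normalizer ((⁅wfK p Q H₁, H₁⁆ : Subgroup G) : Set G) :=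
    wf_le_normalizer_commutator c.K_normal c.n1
  have hBE_n : Hc ≤ Subgroup.normalizer
      ((⁅wfK p Q H₁, H₁⁆ ⊔ piCoreIn {p} ⁅H₁, H₂⁆ : Subgroup G) : Set G) :=
    wf_le_normalizer_sup hB_n c.E_normal
  have step : Hc ≤ cmod (wfK p Q H₁) (⁅wfK p Q H₁, H₁⁆ ⊔ piCoreIn {p} ⁅H₁, H₂⁆) := by
    rw [← c.prod]
    apply sup_le
    · intro y hy
      exact ⟨hBE_n (c.h1 hy), fun k hk =>
        Subgroup.mem_sup_left (Subgroup.commutator_mem_commutator hk hy)⟩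
    · intro y hy
      exact ⟨hBE_n (c.h2 hy), fun k hk =>
        Subgroup.mem_sup_right (cmod_comm_mem' (c.U2 (c.K_le_A hk)) hy)⟩
  have hK : wfK p Q H₁ ≤ ⁅wfK p Q H₁, H₁⁆ ⊔ piCoreIn {p} ⁅H₁, H₂⁆ := by
    conv_lhs => rw [← c.K_comm_Q]
    rw [Subgroup.commutator_le]
    intro k hk x hx
    exact (step (c.hQHc hx)).2 k hk
  calc wfK p Q H₁ = opOf p (wfK p Q H₁) := c.K_idem.symm
    _ ≤ opOf p (⁅wfK p Q H₁, H₁⁆ ⊔ piCoreIn {p} ⁅H₁, H₂⁆) := opOf_mono p hK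
    _ ≤ ⁅wfK p Q H₁, H₁⁆ := opOf_le_of_sup_pgroup _ _ c.E_pgroup (c.E_le_Hc.trans hB_n)

/-- `O^p(Hc) = K₁ K₂`. -/
theorem prodK (c : WFCtx p Q Hc H₁ H₂) : wfK p Q H₁ ⊔ wfK p Q H₂ = opOf p Hc := by
  have hW1 : Cfsg.weakClosure Q (H₁ ⊔ Q) ≤ Hc :=
    (wf_weakClosure_le Q _).trans (sup_le c.h1 c.hQHc)
  have hW2 : Cfsg.weakClosure Q (H₂ ⊔ Q) ≤ Hc :=
    (wf_weakClosure_le Q _).trans (sup_le c.h2 c.hQHc)
  apply le_antisymm (sup_le (opOf_mono p hW1) (opOf_mono p hW2))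
  have hK_n : Hc ≤ Subgroup.normalizer ((wfK p Q H₁ ⊔ wfK p Q H₂ : Subgroup G) : Set G) :=
    wf_le_normalizer_sup c.K_normal c.symm.K_normal
  have hQK : Q ≤ Subgroup.normalizer ((wfK p Q H₁ ⊔ wfK p Q H₂ : Subgroup G) : Set G) :=
    c.hQHc.trans hK_n
  have hcomm : ⁅wfK p Q H₁ ⊔ wfK p Q H₂, Q⁆ ≤ wfK p Q H₁ ⊔ wfK p Q H₂ :=
    commutator_le_left_of_le_normalizer _ Q hQK
  have hle : Hc ≤ (wfK p Q H₁ ⊔ wfK p Q H₂) ⊔ Q := by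
    apply c.gen
    intro h hh
    rw [← c.prod] at hh
    obtain ⟨a, ha, b, hb, rfl⟩ := mem_sup_of_normalizer (c.h2.trans c.n1) hh
    obtain ⟨k₂, hk₂, e₂⟩ := c.symm.K_conj hb
    obtain ⟨k₁, hk₁, e₁⟩ := c.K_conj ha
    have hk₂' : a * k₂ * a⁻¹ ∈ wfK p Q H₂ :=
      wf_conj_mem_of_normalizer (c.symm.K_normal (c.h1 ha)) hk₂
    have e : cj (a * b) Q = cj ((a * k₂ * a⁻¹) * k₁) Q := by
      rw [← cj_cj a b, e₂, cj_cj, ← cj_cj (a * k₂ * a⁻¹) k₁, ← e₁, cj_cj]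
      congr 1
      group
    rw [e]
    refine (cj_le_comm_sup (wfK p Q H₁ ⊔ wfK p Q H₂) Q _ ?_).trans
      (sup_le (hcomm.trans le_sup_left) le_sup_right)
    exact Subgroup.mul_mem _ (Subgroup.mem_sup_right hk₂') (Subgroup.mem_sup_left hk₁)
  exact (opOf_mono p hle).trans (opOf_le_of_sup_pgroup _ Q c.hQp hQK)

/-- `[K₁, K₂] ≤ O_p(Hc)`. -/
theorem commK (c : WFCtx p Q Hc H₁ H₂) : ⁅wfK p Q H₁, wfK p Q H₂⁆ ≤ piCoreIn {p} Hc := by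
  rw [Subgroup.commutator_le]
  intro k₁ hk₁ k₂ hk₂
  exact c.E_le_core (cmod_comm_mem' (c.U2 (c.K_le_A hk₁)) (c.symm.K_le hk₂))

end WFCtx

end Cfsg.Agent.helper10
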