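import Mathlib

set_option autoImplicit false
set_option linter.unusedSectionVars false
set_option linter.unusedSimpArgs false
set_option linter.unusedVariables false
set_option linter.style.haveILetI false
set_option maxHeartbeats 1000000

/-!
# A group of order `2520` acting faithfully and additively on an elementary abelian group of
order `16` is doubly transitive on the non-zero elements

(Elements of order `5` and `7` give transitivity; a point stabiliser, of order `168`, contains an
element `g` of order `7`; if it is not transitive on the remaining `14` points it fixes the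
subgroup `U = [V, g]` of index two, which gives a symmetric "polarity" `x ↦ W_x` with `x ∉ W_x`,
impossible in characteristic two.)
-/

namespace Cfsg.Agent.helper11.A7T

/-- fixed points of an element of prime order -/
theorem card_modEq_fixed {H α : Type*} [Group H] [MulAction H α] [Finite α] (g : H) (p : ℕ)
    [Fact p.Prime] (hg : orderOf g = p) :
    Nat.card α ≡ Nat.card {a : α // g • a = a} [MOD p] := by
  have hP : IsPGroup p (Subgroup.zpowers g) := by
    apply IsPGroup.of_card (n := 1)
    rw [Nat.card_zpowers, hg, pow_one]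
  have h1 := hP.card_modEq_card_fixedPoints α
  have h2 : Nat.card (MulAction.fixedPoints (Subgroup.zpowers g) α) =
      Nat.card {a : α // g • a = a} := by
    apply Nat.card_congr
    refine Equiv.subtypeEquivRight ?_
    intro a
    rw [MulAction.mem_fixedPoints]
    constructor
    · intro h
      exact h ⟨g, Subgroup.mem_zpowers g⟩
    · rintro h ⟨c, hc⟩
      have hle : Subgroup.zpowers g ≤ MulAction.stabilizer H a := by
        rw [Subgroup.zpowers_le]
        exact h
      exact hle hc
  rw [h2] at h1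
  exact h1

/-- powers of an element of order seven -/
theorem exists_pow_eq {H : Type*} [Group H] (g : H) (hg : orderOf g = 7) (d : ℕ) (hd0 : 0 < d)
    (hd : d < 7) : ∃ e : ℕ, (g ^ d) ^ e = g := by
  have key : ∀ n : ℕ, n % 7 = 1 → g ^ n = g := by
    intro n hn
    rw [← pow_mod_orderOf, hg, hn, pow_one]
  interval_cases d
  · exact ⟨1, by rw [← pow_mul]; exact key _ (by norm_num)⟩
  · exact ⟨4, by rw [← pow_mul]; exact key _ (by norm_num)⟩
  · exact ⟨5, by rw [← pow_mul]; exact key _ (by norm_num)⟩
  · exact ⟨2, by rw [← pow_mul]; exact key _ (by norm_num)⟩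
  · exact ⟨3, by rw [← pow_mul]; exact key _ (by norm_num)⟩
  · exact ⟨6, by rw [← pow_mul]; exact key _ (by norm_num)⟩

/-- an element of order seven is transitive on an invariant set of seven points without fixed
points -/
theorem cyc_trans {H V : Type*} [Group H] [MulAction H V] (g : H) (hg : orderOf g = 7)
    (S : Set V) (hS : S.ncard = 7) (hinv : ∀ a ∈ S, g • a ∈ S) (hfix : ∀ a ∈ S, g • a ≠ a)
    {a b : V} (ha : a ∈ S) (hb : b ∈ S) : ∃ i : ℕ, g ^ i • a = b := by
  classical
  have hmem : ∀ n : ℕ, g ^ n • a ∈ S := by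
    intro n
    induction n with
    | zero => rw [pow_zero, one_smul]; exact ha
    | succ n ih => rw [pow_succ', mul_smul]; exact hinv _ ih
  have hfixpow : ∀ (c : H) (x : V), c • x = x → ∀ e : ℕ, c ^ e • x = x := by
    intro c x hc e
    induction e with
    | zero => rw [pow_zero, one_smul]
    | succ e ih => rw [pow_succ, mul_smul, hc, ih]
  have hne : ∀ i j : ℕ, i < j → j < 7 → g ^ i • a ≠ g ^ j • a := by
    intro i j hij hj h
    have h1 : g ^ j = g ^ i * g ^ (j - i) := by rw [← pow_add]; congr 1; omega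
    rw [h1, mul_smul] at h
    have h2 : g ^ (j - i) • a = a := (smul_left_cancel _ h).symm
    obtain ⟨e, he⟩ := exists_pow_eq g hg (j - i) (by omega) (by omega)
    have h3 := hfixpow _ _ h2 e
    rw [he] at h3
    exact hfix a ha h3
  have hinj : Function.Injective (fun i : Fin 7 => g ^ (i : ℕ) • a) := by
    intro i j h
    by_contra hij
    rcases lt_or_gt_of_ne (fun h' => hij (Fin.ext h')) with h' | h'
    · exact hne i j h' j.2 h
    · exact hne j i h' i.2 h.symm
  have hSfin : S.Finite := Set.finite_of_ncard_ne_zero (by rw [hS]; norm_num)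
  have hsub : ((Finset.univ.image (fun i : Fin 7 => g ^ (i : ℕ) • a) : Finset V) : Set V) ⊆ S := by
    intro x hx
    rw [Finset.mem_coe, Finset.mem_image] at hx
    obtain ⟨i, -, rfl⟩ := hx
    exact hmem i
  have heq := Set.eq_of_subset_of_ncard_le hsub (by
    rw [Set.ncard_coe_finset, Finset.card_image_of_injective _ hinj, hS]
    simp) hSfin
  rw [← heq, Finset.mem_coe, Finset.mem_image] at hb
  obtain ⟨i, -, hi⟩ := hb
  exact ⟨i, hi⟩

section main

variable {H V : Type*} [Group H] [Finite H] [AddCommGroup V] [Finite V] [DistribMulAction H V]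
  [FaithfulSMul H V]

/-- fixed points as an additive subgroup -/
def fixAdd (V : Type*) [AddCommGroup V] [DistribMulAction H V] (g : H) : AddSubgroup V where
  carrier := {x | g • x = x}
  zero_mem' := smul_zero g
  add_mem' := by
    intro a b ha hb
    have ha' : g • a = a := ha
    have hb' : g • b = b := hb
    show g • (a + b) = a + b
    rw [smul_add, ha', hb']
  neg_mem' := by
    intro a ha
    have ha' : g • a = a := ha
    show g • (-a) = -a
    rw [smul_neg, ha']

theorem mem_fixAdd (g : H) (x : V) : x ∈ fixAdd V g ↔ g • x = x := Iff.rfl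

theorem eq_one_of_fix (g : H) (h : ∀ x : V, g • x = x) : g = 1 := by
  apply FaithfulSMul.eq_of_smul_eq_smul (α := V)
  intro x
  rw [h x, one_smul]

theorem card_fix_cases (hV : Nat.card V = 16) (g : H) (p : ℕ) [Fact p.Prime]
    (hg : orderOf g = p) (hp1 : p ≠ 1) :
    Nat.card (fixAdd V g) ∣ 16 ∧ 16 ≡ Nat.card (fixAdd V g) [MOD p] ∧ Nat.card (fixAdd V g) ≠ 16 := by
  refine ⟨?_, ?_, ?_⟩
  · rw [← hV]
    exact AddSubgroup.card_addSubgroup_dvd_card _
  · have h1 := card_modEq_fixed (α := V) g p hg
    rw [hV] at h1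
    exact h1
  · intro h
    have htop : fixAdd V g = ⊤ := AddSubgroup.eq_top_of_card_eq _ (by rw [h, hV])
    have h1 : g = 1 := eq_one_of_fix g (fun x => by
      have hx : x ∈ fixAdd V g := by rw [htop]; trivial
      exact hx)
    rw [h1, orderOf_one] at hg
    exact hp1 hg.symm

theorem card_fix_seven (hV : Nat.card V = 16) (g : H) (hg : orderOf g = 7) :
    Nat.card (fixAdd V g) = 2 := by
  haveI : Fact (Nat.Prime 7) := ⟨by norm_num⟩
  obtain ⟨h1, h2, h3⟩ := card_fix_cases hV g 7 hg (by norm_num)
  obtain ⟨n, hn⟩ : ∃ n, n = Nat.card (fixAdd V g) := ⟨_, rfl⟩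
  rw [← hn] at h1 h2 h3 ⊢
  have hle : n ≤ 16 := Nat.le_of_dvd (by norm_num) h1
  unfold Nat.ModEq at h2
  interval_cases n <;> omega

theorem card_fix_five (hV : Nat.card V = 16) (g : H) (hg : orderOf g = 5) :
    Nat.card (fixAdd V g) = 1 := by
  haveI : Fact (Nat.Prime 5) := ⟨by norm_num⟩
  obtain ⟨h1, h2, h3⟩ := card_fix_cases hV g 5 hg (by norm_num)
  obtain ⟨n, hn⟩ : ∃ n, n = Nat.card (fixAdd V g) := ⟨_, rfl⟩
  rw [← hn] at h1 h2 h3 ⊢
  have hle : n ≤ 16 := Nat.le_of_dvd (by norm_num) h1
  unfold Nat.ModEq at h2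
  interval_cases n <;> omega

/-- the non-zero fixed points of an element of order seven coincide -/
theorem fix_seven_unique (hV : Nat.card V = 16) (g : H) (hg : orderOf g = 7) {x y : V}
    (hx : g • x = x) (hy : g • y = y) (hx0 : x ≠ 0) (hy0 : y ≠ 0) : x = y := by
  have h2 := card_fix_seven hV g hg
  rw [Nat.card_eq_two_iff' (0 : fixAdd V g)] at h2
  obtain ⟨w, -, hw⟩ := h2
  have h3 := hw ⟨x, hx⟩ (fun h => hx0 (congrArg Subtype.val h))
  have h4 := hw ⟨y, hy⟩ (fun h => hy0 (congrArg Subtype.val h))
  exact congrArg Subtype.val (h3.trans h4.symm)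

theorem fix_five_zero (hV : Nat.card V = 16) (g : H) (hg : orderOf g = 5) {x : V}
    (hx : g • x = x) : x = 0 := by
  have h1 := card_fix_five hV g hg
  rw [AddSubgroup.card_eq_one] at h1
  have hx' : x ∈ fixAdd V g := hx
  rw [h1] at hx'
  exact hx'

theorem smul_ne_zero' (h : H) {x : V} (hx : x ≠ 0) : h • x ≠ 0 := by
  intro h0
  apply hx
  have := congrArg (fun y => h⁻¹ • y) h0
  simpa using this

theorem card_nonzero (hV : Nat.card V = 16) : ({0}ᶜ : Set V).ncard = 15 := by
  rw [Set.ncard_compl, hV, Set.ncard_singleton]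

/-- transitivity on the non-zero elements -/
theorem trans_one (hV : Nat.card V = 16) (hH : Nat.card H = 2520) {x y : V} (hx : x ≠ 0)
    (hy : y ≠ 0) : ∃ h : H, h • x = y := by
  haveI : Fact (Nat.Prime 7) := ⟨by norm_num⟩
  haveI : Fact (Nat.Prime 5) := ⟨by norm_num⟩
  obtain ⟨g7, hg7⟩ := exists_prime_orderOf_dvd_card' (G := H) 7 (by rw [hH]; norm_num)
  obtain ⟨g5, hg5⟩ := exists_prime_orderOf_dvd_card' (G := H) 5 (by rw [hH]; norm_num)
  have hO0 : ∀ a : MulAction.orbit H x, (a : V) ≠ 0 := by
    rintro ⟨a, ⟨h, rfl⟩⟩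
    exact smul_ne_zero' h hx
  have hsub : MulAction.orbit H x ⊆ ({0}ᶜ : Set V) := by
    intro a ha
    exact hO0 ⟨a, ha⟩
  -- modulo five
  have h5 := card_modEq_fixed (α := MulAction.orbit H x) g5 5 hg5
  have e5 : Nat.card {a : MulAction.orbit H x // g5 • a = a} = 0 := by
    rw [Nat.card_eq_zero]
    left
    constructor
    rintro ⟨a, ha⟩
    apply hO0 a
    apply fix_five_zero hV g5 hg5
    have := congrArg Subtype.val ha
    rwa [MulAction.orbit.coe_smul] at this
  rw [e5] at h5
  -- modulo seven
  have h7 := card_modEq_fixed (α := MulAction.orbit H x) g7 7 hg7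
  have e7 : Nat.card {a : MulAction.orbit H x // g7 • a = a} ≤ 1 := by
    rw [Finite.card_le_one_iff_subsingleton]
    constructor
    rintro ⟨a, ha⟩ ⟨b, hb⟩
    apply Subtype.ext
    apply Subtype.ext
    have ha' := congrArg Subtype.val ha
    have hb' := congrArg Subtype.val hb
    rw [MulAction.orbit.coe_smul] at ha' hb'
    exact fix_seven_unique hV g7 hg7 ha' hb' (hO0 a) (hO0 b)
  have hle : (MulAction.orbit H x).ncard ≤ 15 := by
    rw [← card_nonzero hV]
    exact Set.ncard_le_ncard hsub (Set.toFinite _)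
  have hpos : 0 < (MulAction.orbit H x).ncard := by
    rw [Set.ncard_pos]
    exact ⟨x, MulAction.mem_orbit_self x⟩
  rw [Nat.card_coe_set_eq] at h5 h7
  have hcard : (MulAction.orbit H x).ncard = 15 := by
    obtain ⟨n, hn⟩ : ∃ n, n = (MulAction.orbit H x).ncard := ⟨_, rfl⟩
    obtain ⟨m, hm⟩ : ∃ m, m = Nat.card {a : MulAction.orbit H x // g7 • a = a} := ⟨_, rfl⟩
    rw [← hn] at h5 h7 hle hpos ⊢
    rw [← hm] at h7 e7
    unfold Nat.ModEq at h5 h7
    interval_cases n <;> interval_cases m <;> omega
  have heq := Set.eq_of_subset_of_ncard_le hsub (by rw [card_nonzero hV, hcard]) (Set.toFinite _)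
  have hy' : y ∈ MulAction.orbit H x := by
    rw [heq]
    exact hy
  obtain ⟨h, hh⟩ := hy'
  exact ⟨h, hh⟩

end main

end Cfsg.Agent.helper11.A7T
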