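import Mathlib
import Cfsg.Agent.Lib_helper11_A7a

set_option autoImplicit false
set_option linter.unusedSectionVars false
set_option linter.unusedSimpArgs false
set_option linter.unusedVariables false
set_option linter.style.haveILetI false
set_option maxHeartbeats 1000000

/-!
# Double transitivity of a group of order `2520` on the non-zero elements of `2⁴` (continued)
-/

namespace Cfsg.Agent.helper11.A7T

section main2

variable {H V : Type*} [Group H] [Finite H] [AddCommGroup V] [Finite V] [DistribMulAction H V]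
  [FaithfulSMul H V]

/-- `x ↦ g • x - x` -/
def delta (V : Type*) [AddCommGroup V] [DistribMulAction H V] (g : H) : V →+ V :=
  (DistribSMul.toAddMonoidHom V g) - AddMonoidHom.id V

theorem delta_apply (g : H) (x : V) : delta V g x = g • x - x := by
  simp [delta]

theorem ker_delta (g : H) : (delta V g).ker = fixAdd V g := by
  ext x
  rw [AddMonoidHom.mem_ker, delta_apply, sub_eq_zero, mem_fixAdd]

theorem card_range_delta (hV : Nat.card V = 16) (g : H) (hg : orderOf g = 7) :
    Nat.card (delta V g).range = 8 := by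
  have h1 := AddSubgroup.card_eq_card_quotient_mul_card_addSubgroup (delta V g).ker
  have h2 : Nat.card (V ⧸ (delta V g).ker) = Nat.card (delta V g).range :=
    Nat.card_congr (QuotientAddGroup.quotientKerEquivRange (delta V g)).toEquiv
  rw [h2, ker_delta, card_fix_seven hV g hg, hV] at h1
  omega

theorem index_range_delta (hV : Nat.card V = 16) (g : H) (hg : orderOf g = 7) :
    (delta V g).range.index = 2 := by
  have h := AddSubgroup.index_mul_card (delta V g).range
  rw [card_range_delta hV g hg, hV] at h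
  omega

theorem pow_fix (c : H) (x : V) (hc : c • x = x) (e : ℕ) : c ^ e • x = x := by
  induction e with
  | zero => rw [pow_zero, one_smul]
  | succ e ih => rw [pow_succ, mul_smul, hc, ih]

theorem not_mem_range (h2 : ∀ x : V, x + x = 0) (g : H) (hg : orderOf g = 7) {v : V}
    (hv : g • v = v) (hv0 : v ≠ 0) : v ∉ (delta V g).range := by
  rintro ⟨x, hx⟩
  rw [delta_apply] at hx
  have h1 : g • x = x + v := by rw [← hx]; abel
  have h3 : (g ^ 2) • x = x := by
    rw [pow_two, mul_smul, h1, smul_add, h1, hv, add_assoc, h2 v, add_zero]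
  obtain ⟨e, he⟩ := exists_pow_eq g hg 2 (by norm_num) (by norm_num)
  have h4 : g • x = x := by
    rw [← he]
    exact pow_fix _ _ h3 e
  rw [h4] at h1
  apply hv0
  simpa using h1

theorem smul_mem_range (g : H) {a : V} (ha : a ∈ (delta V g).range) :
    g • a ∈ (delta V g).range := by
  obtain ⟨x, rfl⟩ := ha
  refine ⟨g • x, ?_⟩
  rw [delta_apply, delta_apply, smul_sub]

theorem pow_smul_mem_range (g : H) {a : V} (ha : a ∈ (delta V g).range) (n : ℕ) :
    g ^ n • a ∈ (delta V g).range := by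
  induction n with
  | zero => rw [pow_zero, one_smul]; exact ha
  | succ n ih => rw [pow_succ', mul_smul]; exact smul_mem_range g ih

theorem mem_range_of_smul (g : H) (hg : orderOf g = 7) {a : V}
    (ha : g • a ∈ (delta V g).range) : a ∈ (delta V g).range := by
  have h1 := pow_smul_mem_range g ha 6
  have h7 : g ^ 6 * g = 1 := by
    rw [← pow_succ]
    have := pow_orderOf_eq_one g
    rw [hg] at this
    exact this
  rw [← mul_smul, h7, one_smul] at h1
  exact h1

/-- the non-zero elements of `U` -/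
theorem S1_facts (hV : Nat.card V = 16) (h2 : ∀ x : V, x + x = 0) (g : H) (hg : orderOf g = 7)
    {v : V} (hv : g • v = v) (hv0 : v ≠ 0) :
    (((delta V g).range : Set V) \ {0}).ncard = 7 ∧
    (∀ a ∈ ((delta V g).range : Set V) \ {0}, g • a ∈ ((delta V g).range : Set V) \ {0}) ∧
    (∀ a ∈ ((delta V g).range : Set V) \ {0}, g • a ≠ a) := by
  have hU8 : ((delta V g).range : Set V).ncard = 8 := by
    rw [← Nat.card_coe_set_eq]
    exact card_range_delta hV g hg
  refine ⟨?_, ?_, ?_⟩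
  · rw [Set.ncard_sdiff_singleton_of_mem (show (0 : V) ∈ ((delta V g).range : Set V) from
      (delta V g).range.zero_mem), hU8]
  · rintro a ⟨ha, ha0⟩
    refine ⟨smul_mem_range g ha, ?_⟩
    intro h
    exact ha0 (by
      have h' : g • a = 0 := h
      have := smul_ne_zero' (H := H) g (x := a) (fun h0 => ha0 h0)
      exact absurd h' this)
  · rintro a ⟨ha, ha0⟩ hfix
    have ha0' : a ≠ 0 := fun h0 => ha0 h0
    have := fix_seven_unique hV g hg hfix hv ha0' hv0
    rw [this] at ha
    exact not_mem_range h2 g hg hv hv0 ha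

/-- the elements outside `U` other than `v` -/
theorem S2_facts (hV : Nat.card V = 16) (h2 : ∀ x : V, x + x = 0) (g : H) (hg : orderOf g = 7)
    {v : V} (hv : g • v = v) (hv0 : v ≠ 0) :
    ((((delta V g).range : Set V)ᶜ) \ {v}).ncard = 7 ∧
    (∀ a ∈ (((delta V g).range : Set V)ᶜ) \ {v},
      g • a ∈ (((delta V g).range : Set V)ᶜ) \ {v}) ∧
    (∀ a ∈ (((delta V g).range : Set V)ᶜ) \ {v}, g • a ≠ a) := by
  have hU8 : ((delta V g).range : Set V).ncard = 8 := by
    rw [← Nat.card_coe_set_eq]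
    exact card_range_delta hV g hg
  have hvU := not_mem_range h2 g hg hv hv0
  refine ⟨?_, ?_, ?_⟩
  · rw [Set.ncard_sdiff_singleton_of_mem (show v ∈ (((delta V g).range : Set V)ᶜ) from hvU),
      Set.ncard_compl, hV, hU8]
  · rintro a ⟨ha, hav⟩
    refine ⟨fun h => ha (mem_range_of_smul g hg h), ?_⟩
    intro h
    apply hav
    have h' : g • a = g • v := by rw [hv]; exact h
    exact smul_left_cancel g h'
  · rintro a ⟨ha, hav⟩ hfix
    by_cases ha0 : a = 0
    · apply ha
      rw [ha0]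
      exact (delta V g).range.zero_mem
    · exact hav (fix_seven_unique hV g hg hfix hv ha0 hv0)

/-- if the stabiliser of `v` moves `U`, it is transitive on the other `14` points -/
theorem stab_trans (hV : Nat.card V = 16) (h2 : ∀ x : V, x + x = 0) (g : H)
    (hg : orderOf g = 7) {v : V} (hv : g • v = v) (hv0 : v ≠ 0) (h : H) (hh : h • v = v) (u : V)
    (hu : u ∈ (delta V g).range) (hhu : h • u ∉ (delta V g).range) {y : V} (hy0 : y ≠ 0)
    (hyv : y ≠ v) : ∃ k : H, k • v = v ∧ k • u = y := by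
  obtain ⟨n1, i1, f1⟩ := S1_facts hV h2 g hg hv hv0
  obtain ⟨n2, i2, f2⟩ := S2_facts hV h2 g hg hv hv0
  have hu0 : u ≠ 0 := by
    intro h0
    apply hhu
    rw [h0, smul_zero]
    exact (delta V g).range.zero_mem
  have hvU := not_mem_range h2 g hg hv hv0
  by_cases hyU : y ∈ (delta V g).range
  · obtain ⟨i, hi⟩ := cyc_trans g hg _ n1 i1 f1 (a := u) (b := y) ⟨hu, fun h0 => hu0 h0⟩
      ⟨hyU, fun h0 => hy0 h0⟩
    exact ⟨g ^ i, pow_fix g v hv i, hi⟩
  · have hu' : h • u ∈ (((delta V g).range : Set V)ᶜ) \ {v} := by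
      refine ⟨hhu, ?_⟩
      intro h0
      have h0' : h • u = h • v := by rw [hh]; exact h0
      have := smul_left_cancel h h0'
      rw [this] at hu
      exact hvU hu
    obtain ⟨i, hi⟩ := cyc_trans g hg _ n2 i2 f2 (a := h • u) (b := y) hu' ⟨hyU, fun h0 => hyv h0⟩
    refine ⟨g ^ i * h, ?_, ?_⟩
    · rw [mul_smul, hh, pow_fix g v hv i]
    · rw [mul_smul, hi]

/-- the configuration left when the action is not doubly transitive -/
structure Cfg (H V : Type*) [Group H] [AddCommGroup V] [DistribMulAction H V] where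
  v : V
  g : H
  hg : orderOf g = 7
  hv : g • v = v
  hv0 : v ≠ 0
  hstab : ∀ k : H, k • v = v → ∀ a ∈ (delta V g).range, k • a ∈ (delta V g).range

/-- `b` lies in the hyperplane attached to `a` -/
def R (c : Cfg H V) (a b : V) : Prop := ∃ h : H, h • c.v = a ∧ h⁻¹ • b ∈ (delta V c.g).range

theorem R_iff (c : Cfg H V) {a b : V} (h : H) (hh : h • c.v = a) :
    R c a b ↔ h⁻¹ • b ∈ (delta V c.g).range := by
  constructor
  · rintro ⟨h', hh', hb⟩
    have hk : (h⁻¹ * h') • c.v = c.v := by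
      rw [mul_smul, hh', ← hh, inv_smul_smul]
    have := c.hstab _ hk _ hb
    rw [mul_smul, smul_inv_smul] at this
    exact this
  · intro hb
    exact ⟨h, hh, hb⟩

theorem R_smul (c : Cfg H V) (t : H) (a b : V) : R c (t • a) (t • b) ↔ R c a b := by
  have key : ∀ (s : H) (a b : V), R c a b → R c (s • a) (s • b) := by
    rintro s a b ⟨h, hh, hb⟩
    refine ⟨s * h, by rw [mul_smul, hh], ?_⟩
    rw [mul_inv_rev, mul_smul, inv_smul_smul]
    exact hb
  constructor
  · intro h
    have := key t⁻¹ _ _ h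
    rwa [inv_smul_smul, inv_smul_smul] at this
  · exact key t a b

theorem R_irrefl (h2 : ∀ x : V, x + x = 0) (c : Cfg H V) (a : V) : ¬ R c a a := by
  rintro ⟨h, hh, hb⟩
  rw [← hh, inv_smul_smul] at hb
  exact not_mem_range h2 c.g c.hg c.hv c.hv0 hb

theorem R_add (hV : Nat.card V = 16) (hH : Nat.card H = 2520) (c : Cfg H V) {a : V}
    (ha : a ≠ 0) (y z : V) : R c a (y + z) ↔ (R c a y ↔ R c a z) := by
  obtain ⟨h, hh⟩ := trans_one hV hH c.hv0 ha
  rw [R_iff c h hh, R_iff c h hh, R_iff c h hh, smul_add]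
  exact AddSubgroup.add_mem_iff_of_index_two (index_range_delta hV c.g c.hg)

theorem pair_trans (hV : Nat.card V = 16) (h2 : ∀ x : V, x + x = 0) (hH : Nat.card H = 2520)
    (c : Cfg H V) {a b a' b' : V} (ha : a ≠ 0) (ha' : a' ≠ 0) (hb : b ≠ 0) (hb' : b' ≠ 0)
    (hab : a ≠ b) (hab' : a' ≠ b') (hR : R c a b ↔ R c a' b') :
    ∃ h : H, h • a = a' ∧ h • b = b' := by
  obtain ⟨h1, hh1⟩ := trans_one hV hH c.hv0 ha
  obtain ⟨h2', hh2⟩ := trans_one hV hH c.hv0 ha'
  rw [R_iff c h1 hh1, R_iff c h2' hh2] at hR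
  obtain ⟨n1, i1, f1⟩ := S1_facts hV h2 c.g c.hg c.hv c.hv0
  obtain ⟨n2, i2, f2⟩ := S2_facts hV h2 c.g c.hg c.hv c.hv0
  have hu1 : h1⁻¹ • b ≠ 0 := smul_ne_zero' _ hb
  have hu2 : h2'⁻¹ • b' ≠ 0 := smul_ne_zero' _ hb'
  have hu1v : h1⁻¹ • b ≠ c.v := by
    intro h
    apply hab
    rw [← hh1, ← h, smul_inv_smul]
  have hu2v : h2'⁻¹ • b' ≠ c.v := by
    intro h
    apply hab'
    rw [← hh2, ← h, smul_inv_smul]
  have hfin : ∀ i : ℕ, c.g ^ i • (h1⁻¹ • b) = h2'⁻¹ • b' →
      ∃ h : H, h • a = a' ∧ h • b = b' := by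
    intro i hi
    refine ⟨h2' * c.g ^ i * h1⁻¹, ?_, ?_⟩
    · rw [mul_smul, mul_smul, ← hh1, inv_smul_smul, pow_fix c.g c.v c.hv i, hh2]
    · rw [mul_smul, mul_smul, hi, smul_inv_smul]
  by_cases hU : h1⁻¹ • b ∈ (delta V c.g).range
  · obtain ⟨i, hi⟩ := cyc_trans c.g c.hg _ n1 i1 f1 (a := h1⁻¹ • b) (b := h2'⁻¹ • b')
      ⟨hU, fun h0 => hu1 h0⟩ ⟨hR.mp hU, fun h0 => hu2 h0⟩
    exact hfin i hi
  · obtain ⟨i, hi⟩ := cyc_trans c.g c.hg _ n2 i2 f2 (a := h1⁻¹ • b) (b := h2'⁻¹ • b')
      ⟨hU, fun h0 => hu1v h0⟩ ⟨fun h => hU (hR.mpr h), fun h0 => hu2v h0⟩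
    exact hfin i hi

theorem R_symm (hV : Nat.card V = 16) (h2 : ∀ x : V, x + x = 0) (hH : Nat.card H = 2520)
    (c : Cfg H V) {a b : V} (ha : a ≠ 0) (hb : b ≠ 0) (hab : a ≠ b) : R c a b ↔ R c b a := by
  haveI : Fact (Nat.Prime 2) := ⟨by norm_num⟩
  obtain ⟨t, ht⟩ := exists_prime_orderOf_dvd_card' (G := H) 2 (by rw [hH]; norm_num)
  have ht1 : t ≠ 1 := by
    intro h
    rw [h, orderOf_one] at ht
    norm_num at ht
  have htt : t * t = 1 := by
    rw [← pow_two, ← ht, pow_orderOf_eq_one]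
  obtain ⟨x, hx⟩ : ∃ x : V, t • x ≠ x := by
    by_contra hcon
    simp only [not_exists, not_not] at hcon
    exact ht1 (eq_one_of_fix t hcon)
  have hx0 : x ≠ 0 := by
    intro h0
    apply hx
    rw [h0, smul_zero]
  have hd0 : t • x ≠ 0 := smul_ne_zero' t hx0
  have htd : t • (t • x) = x := by rw [← mul_smul, htt, one_smul]
  have hcd : R c x (t • x) ↔ R c (t • x) x := by
    have := R_smul c t x (t • x)
    rw [htd] at this
    exact this.symm
  by_contra hcon
  by_cases h1 : R c a b ↔ R c x (t • x)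
  · obtain ⟨h, hha, hhb⟩ := pair_trans hV h2 hH c hx0 ha hd0 hb (Ne.symm hx) hab h1.symm
    apply hcon
    rw [← hha, ← hhb, R_smul, R_smul]
    exact hcd
  · have h3 : R c b a ↔ R c x (t • x) := by
      by_cases hp : R c a b <;> by_cases hq : R c b a <;> by_cases hr : R c x (t • x) <;>
        simp_all
    obtain ⟨h, hha, hhb⟩ := pair_trans hV h2 hH c hx0 hb hd0 ha (Ne.symm hx) (Ne.symm hab) h3.symm
    apply hcon
    rw [← hha, ← hhb, R_smul, R_smul]
    exact hcd.symm

/-- no such configuration exists -/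
theorem no_cfg (hV : Nat.card V = 16) (h2 : ∀ x : V, x + x = 0) (hH : Nat.card H = 2520)
    (c : Cfg H V) : False := by
  -- two distinct non-zero elements
  have hx0 := c.hv0
  obtain ⟨n1, i1, f1⟩ := S1_facts hV h2 c.g c.hg c.hv c.hv0
  have hne : (((delta V c.g).range : Set V) \ {0}).Nonempty := by
    rw [← Set.ncard_pos, n1]
    norm_num
  obtain ⟨y, hyU, hy0⟩ := hne
  have hy0' : y ≠ 0 := fun h => hy0 h
  have hxy : c.v ≠ y := by
    intro h
    rw [← h] at hyU
    exact not_mem_range h2 c.g c.hg c.hv c.hv0 hyU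
  have hz0 : c.v + y ≠ 0 := by
    intro h
    apply hxy
    have : c.v + y = y + y := by rw [h, h2 y]
    exact add_right_cancel this
  have hzx : c.v + y ≠ c.v := by
    intro h
    apply hy0'
    simpa using h
  have hzy : c.v + y ≠ y := by
    intro h
    apply hx0
    simpa using h
  have e1 := R_add hV hH c hx0 c.v y
  have e2 := R_add hV hH c hy0' y c.v
  have e3 := R_add hV hH c hz0 c.v y
  have s1 := R_symm hV h2 hH c hx0 hy0' hxy
  have s2 := R_symm hV h2 hH c hx0 hz0 (Ne.symm hzx)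
  have s3 := R_symm hV h2 hH c hy0' hz0 (Ne.symm hzy)
  have r1 := R_irrefl h2 c c.v
  have r2 := R_irrefl h2 c y
  have r3 := R_irrefl h2 c (c.v + y)
  rw [add_comm y c.v] at e2
  by_cases p1 : R c c.v y <;> by_cases p2 : R c c.v (c.v + y) <;>
    by_cases p3 : R c y (c.v + y) <;> simp_all

end main2

end Cfsg.Agent.helper11.A7T
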