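import Mathlib
import Cfsg.Statements.S0256
import Cfsg.Agent.S0243
import Cfsg.Agent.S0249
import Cfsg.Agent.Lib_helper2_SLn

set_option autoImplicit false
open Cfsg

namespace Cfsg.Agent.S0256

/-- Carmichael's relations for the alternating group, for the first `m` members of a family. -/
structure IsCarm {G : Type*} [Group G] (x : ℕ → G) (m : ℕ) : Prop where
  cube : ∀ i, i < m → x i * x i * x i = 1
  pair : ∀ i j, i < m → j < m → i ≠ j → x i * x j * x i * x j = 1

section ident
variable {G : Type*} [Group G] {a b y : G}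

theorem inv_of_cube (ha : a * a * a = 1) : a⁻¹ = a * a :=
  inv_eq_of_mul_eq_one_right (by rw [← mul_assoc]; exact ha)

theorem mul_eq_inv_of_pair (hab : a * b * a * b = 1) : a * b = b⁻¹ * a⁻¹ := by
  have h : a * b * (a * b) = 1 := by rw [← mul_assoc]; exact hab
  have := eq_inv_of_mul_eq_one_left h
  rw [mul_inv_rev] at this
  exact this

/-- `y x = x⁻¹ y⁻¹` in coset form -/
theorem id_a (hx : a * a * a = 1) (hy : y * y * y = 1) (hyx : y * a * y * a = 1) :
    y * a = (a * a) * (y * y) := by
  rw [mul_eq_inv_of_pair hyx, inv_of_cube hx, inv_of_cube hy]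

theorem id_c (hx : a * a * a = 1) (hy : y * y * y = 1) (hxy : a * y * a * y = 1) :
    y * y * a * a = a * y := by
  rw [mul_eq_inv_of_pair hxy, inv_of_cube hx, inv_of_cube hy]
  group

theorem id_b (hx : a * a * a = 1) (hy : y * y * y = 1) (hxy : a * y * a * y = 1)
    (hyx : y * a * y * a = 1) : y * y * a * y = (a * a) * (y * y * a) := by
  have h1 := mul_eq_inv_of_pair hxy
  have h2 := mul_eq_inv_of_pair hyx
  have hxi := inv_of_cube hx
  have hyi := inv_of_cube hy
  calc y * y * a * y = y * y * (a * y) := by group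
    _ = y * y * (y⁻¹ * a⁻¹) := by rw [h1]
    _ = y * a⁻¹ := by group
    _ = y * (a * a) := by rw [hxi]
    _ = (y * a) * a := by group
    _ = (a⁻¹ * y⁻¹) * a := by rw [h2]
    _ = (a * a) * (y * y) * a := by rw [hxi, hyi]
    _ = (a * a) * (y * y * a) := by group

theorem id_d (ha : a * a * a = 1) (hab : a * b * a * b = 1)
    (hby : b * y * b * y = 1) (hya : y * a * y * a = 1) (hy : y * y * y = 1) :
    y * y * a * b = (b * a * a) * (y * y * a) := by
  have hab' := mul_eq_inv_of_pair hab
  have hby' := mul_eq_inv_of_pair hby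
  have hya' := mul_eq_inv_of_pair hya
  have hai := inv_of_cube ha
  have hyi := inv_of_cube hy
  have key : y⁻¹ * a * b = b * a⁻¹ * y⁻¹ * a := by
    calc y⁻¹ * a * b = y⁻¹ * (a * b) := mul_assoc _ _ _
      _ = y⁻¹ * (b⁻¹ * a⁻¹) := by rw [hab']
      _ = (y⁻¹ * b⁻¹) * a⁻¹ := by group
      _ = (b * y) * a⁻¹ := by rw [hby']
      _ = b * y * (a * a) := by rw [hai]
      _ = b * (y * a) * a := by group
      _ = b * (a⁻¹ * y⁻¹) * a := by rw [hya']
      _ = b * a⁻¹ * y⁻¹ * a := by group
  rw [hyi, hai] at key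
  calc y * y * a * b = b * (a * a) * (y * y) * a := key
    _ = (b * a * a) * (y * y * a) := by group

end ident

/-- coset representatives: `1, y, y², y² x_k` with `y = x m` -/
def c {G : Type*} [Group G] (x : ℕ → G) (m : ℕ) : ℕ → G
  | 0 => 1
  | 1 => x m
  | 2 => x m * x m
  | (k + 3) => x m * x m * x k

/-- the counting bound for Carmichael's presentation -/
theorem carm_card_le (m : ℕ) : ∀ {G : Type*} [Group G] (x : ℕ → G), IsCarm x m →
    Finite (Subgroup.closure (x '' {i | i < m})) ∧
      2 * Nat.card (Subgroup.closure (x '' {i | i < m})) ≤ (m + 2).factorial := by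
  induction m with
  | zero =>
    intro G _ x _
    have : (x '' {i | i < 0}) = ∅ := by simp
    rw [this, Subgroup.closure_empty]
    exact ⟨inferInstance, by simp⟩
  | succ m ih =>
    intro G _ x h
    have hm : IsCarm x m :=
      { cube := fun i hi => h.cube i (by omega)
        pair := fun i j hi hj hij => h.pair i j (by omega) (by omega) hij }
    obtain ⟨hHfin, hHcard⟩ := ih x hm
    set H := Subgroup.closure (x '' {i | i < m}) with hH
    have hxH : ∀ i, i < m → x i ∈ H := fun i hi => Subgroup.subset_closure ⟨i, hi, rfl⟩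
    have hy3 : x m * x m * x m = 1 := h.cube m (by omega)
    let S : Set G := {g | ∃ j, j ≤ m + 2 ∧ ∃ u ∈ H, g = u * c x m j}
    have hS : ∀ i, i < m + 1 → ∀ g ∈ S, g * x i ∈ S := by
      rintro i hi g ⟨j, hj, u, hu, rfl⟩
      rcases Nat.lt_or_ge i m with him | him
      · -- generator in H
        have hx3 := h.cube i hi
        have p1 := h.pair i m hi (by omega) (by omega)
        have p2 := h.pair m i (by omega) hi (by omega)
        match j, hj with
        | 0, _ =>
          exact ⟨0, by omega, u * x i, H.mul_mem hu (hxH i him), by simp [c]⟩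
        | 1, _ =>
          refine ⟨2, by omega, u * (x i * x i), H.mul_mem hu (H.mul_mem (hxH i him) (hxH i him)), ?_⟩
          show u * x m * x i = u * (x i * x i) * (x m * x m)
          rw [mul_assoc, id_a hx3 hy3 p2]; simp only [mul_assoc]
        | 2, _ =>
          refine ⟨i + 3, by omega, u, hu, ?_⟩
          show u * (x m * x m) * x i = u * (x m * x m * x i)
          rw [mul_assoc]
        | (k + 3), hk =>
          have hkm : k < m := by omega
          by_cases hki : k = i
          · subst hki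
            refine ⟨1, by omega, u * x k, H.mul_mem hu (hxH k him), ?_⟩
            show u * (x m * x m * x k) * x k = u * x k * x m
            rw [mul_assoc, id_c hx3 hy3 p1, mul_assoc]
          · have hk3 := h.cube k (by omega)
            have q1 := h.pair k i (by omega) hi hki
            have q2 := h.pair m k (by omega) (by omega) (by omega)
            refine ⟨k + 3, hk, u * (x i * x k * x k),
              H.mul_mem hu (H.mul_mem (H.mul_mem (hxH i him) (hxH k hkm)) (hxH k hkm)), ?_⟩
            show u * (x m * x m * x k) * x i = u * (x i * x k * x k) * (x m * x m * x k)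
            rw [mul_assoc, id_d hk3 q1 p1 q2 hy3]; simp only [mul_assoc]
      · have him' : i = m := by omega
        subst him'
        match j, hj with
        | 0, _ =>
          exact ⟨1, by omega, u, hu, by simp [c]⟩
        | 1, _ =>
          refine ⟨2, by omega, u, hu, ?_⟩
          show u * x i * x i = u * (x i * x i)
          rw [mul_assoc]
        | 2, _ =>
          refine ⟨0, by omega, u, hu, ?_⟩
          show u * (x i * x i) * x i = u * 1
          rw [mul_assoc, hy3]
        | (k + 3), hk =>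
          have hkm : k < i := by omega
          have hk3 := h.cube k (by omega)
          have p1 := h.pair k i (by omega) (by omega) (by omega)
          have p2 := h.pair i k (by omega) (by omega) (by omega)
          refine ⟨k + 3, hk, u * (x k * x k),
            H.mul_mem hu (H.mul_mem (hxH k hkm) (hxH k hkm)), ?_⟩
          show u * (x i * x i * x k) * x i = u * (x k * x k) * (x i * x i * x k)
          rw [mul_assoc, id_b hk3 hy3 p1 p2]; simp only [mul_assoc]
    have hinv : ∀ i, i < m + 1 → (x i)⁻¹ = x i * x i := fun i hi => inv_of_cube (h.cube i hi)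
    set K := Subgroup.closure (x '' {i | i < m + 1}) with hK
    have hall : ∀ g ∈ K, (∀ z ∈ S, z * g ∈ S) ∧ (∀ z ∈ S, z * g⁻¹ ∈ S) := by
      intro g hg
      induction hg using Subgroup.closure_induction with
      | mem w hw =>
        obtain ⟨i, hi, rfl⟩ := hw
        refine ⟨hS i hi, fun z hz => ?_⟩
        rw [hinv i hi, ← mul_assoc]
        exact hS i hi _ (hS i hi z hz)
      | one => simp
      | mul a b _ _ iha ihb =>
        refine ⟨fun z hz => ?_, fun z hz => ?_⟩
        · rw [← mul_assoc]; exact ihb.1 _ (iha.1 _ hz)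
        · rw [mul_inv_rev, ← mul_assoc]; exact iha.2 _ (ihb.2 _ hz)
      | inv a _ iha =>
        refine ⟨iha.2, ?_⟩
        rw [inv_inv]; exact iha.1
    have h1S : (1 : G) ∈ S := ⟨0, by omega, 1, H.one_mem, by simp [c]⟩
    have hKS : ∀ g ∈ K, g ∈ S := by
      intro g hg
      have := (hall g hg).1 1 h1S
      rwa [one_mul] at this
    choose jf hjf uf huf hguf using hKS
    let f : K → Fin (m + 3) × H := fun g =>
      (⟨jf g.1 g.2, by have := hjf g.1 g.2; omega⟩, ⟨uf g.1 g.2, huf g.1 g.2⟩)
    have hf : Function.Injective f := by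
      intro a b hab
      apply Subtype.ext
      rw [hguf a.1 a.2, hguf b.1 b.2]
      have h1 : jf a.1 a.2 = jf b.1 b.2 := congrArg (fun q => (q.1 : ℕ)) hab
      have h2 : uf a.1 a.2 = uf b.1 b.2 := congrArg (fun q => (q.2 : G)) hab
      rw [h1, h2]
    refine ⟨Finite.of_injective f hf, ?_⟩
    have hle : Nat.card K ≤ (m + 3) * Nat.card H := by
      calc Nat.card K ≤ Nat.card (Fin (m + 3) × H) := Nat.card_le_card_of_injective f hf
        _ = (m + 3) * Nat.card H := by rw [Nat.card_prod, Nat.card_fin]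
    calc 2 * Nat.card K ≤ 2 * ((m + 3) * Nat.card H) := Nat.mul_le_mul_left _ hle
      _ = (m + 3) * (2 * Nat.card H) := by ring
      _ ≤ (m + 3) * (m + 2).factorial := Nat.mul_le_mul_left _ hHcard
      _ = (m + 1 + 2).factorial := by rw [Nat.factorial_succ (m + 2)]

section concrete
open Matrix

/-- images of the 3-cycles `(1 2 k)` under an isomorphism `A₈ ≅ GL₄(2)` -/
def M : Fin 6 → Matrix (Fin 4) (Fin 4) (ZMod 2) :=
  ![!![0, 1, 0, 0; 1, 1, 0, 0; 0, 0, 0, 1; 0, 0, 1, 1],
    !![1, 1, 0, 0; 1, 0, 0, 0; 1, 0, 1, 1; 1, 1, 1, 0],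
    !![0, 0, 1, 0; 1, 1, 1, 1; 1, 0, 1, 0; 1, 1, 0, 0],
    !![1, 0, 1, 0; 0, 0, 1, 1; 1, 0, 0, 0; 1, 1, 1, 1],
    !![0, 1, 1, 0; 0, 1, 1, 1; 1, 0, 0, 1; 1, 1, 0, 1],
    !![1, 1, 1, 0; 1, 0, 1, 1; 0, 0, 1, 1; 0, 0, 1, 0]]

/-- words for the elementary transvections -/
def wd : Fin 4 → Fin 4 → List (Fin 6) :=
  ![![[], [0, 1, 2, 5, 0, 1, 3, 4], [1, 0, 3, 2, 1, 4, 5, 2], [0, 1, 2, 4, 3, 1, 2, 5]],
    ![[0, 1, 4, 5, 0, 1, 2, 3], [], [0, 1, 1, 4, 2, 1, 3, 5, 2, 0], [1, 0, 2, 3, 1, 4, 5, 3]],
    ![[1, 0, 2, 3, 5, 4, 2, 3], [0, 1, 2, 4, 3, 5, 2, 4], [], [0, 1, 3, 5, 0, 1, 2, 4]],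
    ![[0, 1, 1, 0, 2, 4, 3, 5, 2, 4], [1, 0, 2, 3, 4, 5, 2, 3], [0, 1, 4, 5, 0, 1, 3, 2], []]]

set_option maxRecDepth 100000 in
theorem M_cube : ∀ i, M i * M i * M i = 1 := by decide +kernel

set_option maxRecDepth 100000 in
theorem M_pair : ∀ i j, i ≠ j → M i * M j * M i * M j = 1 := by decide +kernel

set_option maxRecDepth 100000 in
theorem M_word : ∀ i j, i ≠ j → ((wd i j).map M).prod = Matrix.transvection i j 1 := by
  decide +kernel

theorem M_det (i : Fin 6) : (M i).det = 1 := by
  have h := congrArg Matrix.det (M_cube i)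
  rw [Matrix.det_mul, Matrix.det_mul, Matrix.det_one] at h
  generalize (M i).det = d at h
  revert d; decide

/-- the generators in `SL₄(2)` -/
def X (i : Fin 6) : SpecialLinearGroup (Fin 4) (ZMod 2) := ⟨M i, M_det i⟩

theorem X_cube (i : Fin 6) : X i * X i * X i = 1 := Subtype.ext (M_cube i)

theorem X_pair (i j : Fin 6) (hij : i ≠ j) : X i * X j * X i * X j = 1 :=
  Subtype.ext (M_pair i j hij)

theorem coe_list_prod (l : List (Fin 6)) :
    ((l.map X).prod : SpecialLinearGroup (Fin 4) (ZMod 2)).1 = (l.map M).prod := by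
  induction l with
  | nil => rfl
  | cons a l ih =>
    rw [List.map_cons, List.prod_cons, List.map_cons, List.prod_cons,
      Matrix.SpecialLinearGroup.coe_mul, ih]
    rfl

theorem X_word (i j : Fin 4) (hij : i ≠ j) :
    ((wd i j).map X).prod = SpecialLinearGroup.transvection hij 1 :=
  Subtype.ext ((coe_list_prod _).trans (M_word i j hij))

theorem zmod2_cases : ∀ c : ZMod 2, c = 0 ∨ c = 1 := by decide

theorem closure_X : Subgroup.closure (Set.range X) = ⊤ := by
  haveI : Fact (Nat.Prime 2) := ⟨Nat.prime_two⟩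
  rw [eq_top_iff]
  intro A _
  refine Cfsg.Agent.helper2.transvection_induction
    (fun A => A ∈ Subgroup.closure (Set.range X)) ?_ (fun A B hA hB => Subgroup.mul_mem _ hA hB) A
  intro i j hij c
  have hc : c = 0 ∨ c = 1 := zmod2_cases c
  rcases hc with rfl | rfl
  · rw [SpecialLinearGroup.transvection_coeff_zero]; exact Subgroup.one_mem _
  · rw [← X_word i j hij]
    apply Subgroup.list_prod_mem
    intro g hg
    rw [List.mem_map] at hg
    obtain ⟨k, -, rfl⟩ := hg
    exact Subgroup.subset_closure ⟨k, rfl⟩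

/-- the 3-cycles `(0 1 k+2)` -/
def P (i : Fin 6) : Equiv.Perm (Fin 8) :=
  Equiv.swap 0 1 * Equiv.swap 1 ((![2, 3, 4, 5, 6, 7] : Fin 6 → Fin 8) i)

set_option maxRecDepth 100000 in
theorem P_cube : ∀ i, P i * P i * P i = 1 := by decide +kernel

set_option maxRecDepth 100000 in
theorem P_pair : ∀ i j, i ≠ j → P i * P j * P i * P j = 1 := by decide +kernel

set_option maxRecDepth 100000 in
theorem P_ne_one : P 0 ≠ 1 := by decide +kernel

theorem P_mem (i : Fin 6) : P i ∈ alternatingGroup (Fin 8) := by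
  rw [Equiv.Perm.mem_alternatingGroup, P, Equiv.Perm.sign_mul, Equiv.Perm.sign_swap,
    Equiv.Perm.sign_swap]
  · rfl
  · revert i; decide
  · decide

/-- the generators in `A₈` -/
def Y (i : Fin 6) : alternatingGroup (Fin 8) := ⟨P i, P_mem i⟩

theorem Y_cube (i : Fin 6) : Y i * Y i * Y i = 1 := Subtype.ext (P_cube i)

theorem Y_pair (i j : Fin 6) (hij : i ≠ j) : Y i * Y j * Y i * Y j = 1 :=
  Subtype.ext (P_pair i j hij)

theorem Y_ne_one : Y 0 ≠ 1 := fun h => P_ne_one (congrArg Subtype.val h)

end concrete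

/-- Carmichael's relators for `A₈` -/
def rels : Set (FreeGroup (Fin 6)) :=
  {r | ∃ i, r = FreeGroup.of i * FreeGroup.of i * FreeGroup.of i} ∪
  {r | ∃ i j, i ≠ j ∧ r = FreeGroup.of i * FreeGroup.of j * FreeGroup.of i * FreeGroup.of j}

/-- the hom out of the presented group -/
noncomputable def toG {S : Type*} [Group S] (f : Fin 6 → S) (hc : ∀ i, f i * f i * f i = 1)
    (hp : ∀ i j, i ≠ j → f i * f j * f i * f j = 1) : PresentedGroup rels →* S :=
  PresentedGroup.toGroup (f := f) (by
    rintro r (⟨i, rfl⟩ | ⟨i, j, hij, rfl⟩)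
    · simp only [map_mul, FreeGroup.lift_apply_of]; exact hc i
    · simp only [map_mul, FreeGroup.lift_apply_of]; exact hp i j hij)

theorem toG_of {S : Type*} [Group S] (f : Fin 6 → S) (hc : ∀ i, f i * f i * f i = 1)
    (hp : ∀ i j, i ≠ j → f i * f j * f i * f j = 1) (i : Fin 6) :
    toG f hc hp (PresentedGroup.of i) = f i :=
  PresentedGroup.toGroup.of _

theorem Γ_card : Finite (PresentedGroup rels) ∧ Nat.card (PresentedGroup rels) ≤ 20160 := by
  let x : ℕ → PresentedGroup rels := fun i => if h : i < 6 then PresentedGroup.of ⟨i, h⟩ else 1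
  have hx : ∀ i : Fin 6, x i = PresentedGroup.of i := fun i => by
    simp only [x, dif_pos i.2]
  have hcarm : IsCarm x 6 := by
    constructor
    · intro i hi
      rw [hx ⟨i, hi⟩]
      exact PresentedGroup.one_of_mem (Or.inl ⟨_, rfl⟩)
    · intro i j hi hj hij
      rw [hx ⟨i, hi⟩, hx ⟨j, hj⟩]
      exact PresentedGroup.one_of_mem (Or.inr ⟨⟨i, hi⟩, ⟨j, hj⟩, by simpa using hij, rfl⟩)
  obtain ⟨hfin, hcard⟩ := carm_card_le 6 x hcarm
  have htop : Subgroup.closure (x '' {i | i < 6}) = ⊤ := by
    rw [eq_top_iff, ← PresentedGroup.closure_range_of rels]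
    apply Subgroup.closure_mono
    rintro _ ⟨i, rfl⟩
    exact ⟨i, i.2, hx i⟩
  rw [htop] at hfin hcard
  have hfin' : Finite (PresentedGroup rels) := by
    have : Finite ((⊤ : Subgroup (PresentedGroup rels)) : Set (PresentedGroup rels)) := hfin
    rw [Subgroup.coe_top] at this
    exact Set.finite_univ_iff.mp this
  refine ⟨hfin', ?_⟩
  rw [Subgroup.card_top] at hcard
  have h8 : Nat.factorial 8 = 40320 := by decide
  rw [h8] at hcard
  omega

/-- PSL_4(2) is isomorphic to A_8. -/
theorem result {F : Type*} [Field F] [Fintype F] (hF : Fintype.card F = 2) : Nonempty (Matrix.ProjectiveSpecialLinearGroup (Fin 4) F ≃* alternatingGroup (Fin 8)) := by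
  classical
  obtain ⟨hΓfin, hΓcard⟩ := Γ_card
  have hcardF : Nat.card (Matrix.ProjectiveSpecialLinearGroup (Fin 4) F) = 20160 := by
    have hord := Cfsg.Agent.S0243.result hF 4 (by norm_num)
    rw [Fin.prod_univ_four] at hord
    generalize Nat.card (Matrix.ProjectiveSpecialLinearGroup (Fin 4) F) = N at hord
    norm_num at hord
    omega
  have hfinF : Finite (Matrix.ProjectiveSpecialLinearGroup (Fin 4) F) :=
    Nat.finite_of_card_ne_zero (by omega)
  have hsimpF : IsSimpleGroup (Matrix.ProjectiveSpecialLinearGroup (Fin 4) F) :=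
    Cfsg.Agent.S0249.result 4 (by norm_num)
  let e2 : ZMod 2 ≃+* F := ZMod.ringEquivOfPrime F (by norm_num) hF
  let f2 : ZMod 2 →+* F := e2.toRingHom
  let g2 : F →+* ZMod 2 := e2.symm.toRingHom
  let ψ : Matrix.SpecialLinearGroup (Fin 4) (ZMod 2) →*
      Matrix.ProjectiveSpecialLinearGroup (Fin 4) F :=
    (QuotientGroup.mk' _).comp (Matrix.SpecialLinearGroup.map f2)
  have hψ : Function.Surjective ψ := by
    intro g
    obtain ⟨A, rfl⟩ := QuotientGroup.mk_surjective g
    refine ⟨Matrix.SpecialLinearGroup.map g2 A, ?_⟩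
    show QuotientGroup.mk (Matrix.SpecialLinearGroup.map f2 (Matrix.SpecialLinearGroup.map g2 A)) = _
    congr 1
    apply Subtype.ext
    ext i j
    simp only [Matrix.SpecialLinearGroup.map_apply_coe, RingHom.mapMatrix_apply, Matrix.map_apply]
    exact e2.apply_symm_apply _
  let φ2 : PresentedGroup rels →* Matrix.ProjectiveSpecialLinearGroup (Fin 4) F :=
    toG (fun i => ψ (X i))
      (fun i => by rw [← map_mul, ← map_mul, X_cube, map_one])
      (fun i j hij => by rw [← map_mul, ← map_mul, ← map_mul, X_pair i j hij, map_one])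
  have hφ2of : ∀ i, φ2 (PresentedGroup.of i) = ψ (X i) := fun i => toG_of _ _ _ i
  have hφ2surj : Function.Surjective φ2 := by
    rw [← MonoidHom.range_eq_top, eq_top_iff]
    have h1 : (Subgroup.closure (Set.range X)).map ψ ≤ φ2.range := by
      rw [Subgroup.map_le_iff_le_comap, Subgroup.closure_le]
      rintro _ ⟨i, rfl⟩
      exact ⟨PresentedGroup.of i, hφ2of i⟩
    rw [closure_X, ← MonoidHom.range_eq_map, MonoidHom.range_eq_top.mpr hψ] at h1
    exact h1
  have hφ2bij : Function.Bijective φ2 := by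
    apply hφ2surj.bijective_of_nat_card_le
    rw [hcardF]; exact hΓcard
  let E2 : PresentedGroup rels ≃* Matrix.ProjectiveSpecialLinearGroup (Fin 4) F :=
    MulEquiv.ofBijective φ2 hφ2bij
  have hΓsimp : IsSimpleGroup (PresentedGroup rels) := E2.isSimpleGroup
  have hΓcard' : Nat.card (PresentedGroup rels) = 20160 := by
    rw [Nat.card_congr E2.toEquiv, hcardF]
  let φ1 : PresentedGroup rels →* alternatingGroup (Fin 8) := toG Y Y_cube Y_pair
  have hφ1of : ∀ i, φ1 (PresentedGroup.of i) = Y i := fun i => toG_of _ _ _ i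
  have hker : φ1.ker = ⊥ := by
    rcases φ1.normal_ker.eq_bot_or_eq_top with h | h
    · exact h
    · exfalso
      have : PresentedGroup.of (0 : Fin 6) ∈ φ1.ker := by rw [h]; exact Subgroup.mem_top _
      rw [MonoidHom.mem_ker, hφ1of] at this
      exact Y_ne_one this
  have hφ1inj : Function.Injective φ1 := (MonoidHom.ker_eq_bot_iff φ1).mp hker
  have hA8 : Nat.card (alternatingGroup (Fin 8)) = 20160 := by
    rw [nat_card_alternatingGroup, Nat.card_eq_fintype_card, Fintype.card_fin]
    decide
  have hφ1bij : Function.Bijective φ1 := by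
    apply hφ1inj.bijective_of_nat_card_le
    rw [hA8, hΓcard']
  exact ⟨E2.symm.trans (MulEquiv.ofBijective φ1 hφ1bij)⟩

end Cfsg.Agent.S0256
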