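import Mathlib
import Cfsg.Agent.Lib_helper11_A7b
import Cfsg.Agent.S0256

set_option autoImplicit false
set_option linter.unusedSectionVars false
set_option linter.unusedSimpArgs false
set_option linter.unusedVariables false
set_option linter.style.haveILetI false
set_option maxHeartbeats 1000000

/-!
# Double transitivity of a group of order `2520` on the non-zero elements of `2⁴` (end), and
the subgroups `A₇` of `GL₄(2)`
-/

namespace Cfsg.Agent.helper11.A7T

section main3

variable {H V : Type*} [Group H] [Finite H] [AddCommGroup V] [Finite V] [DistribMulAction H V]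
  [FaithfulSMul H V]

/-- double transitivity -/
theorem two_trans (hV : Nat.card V = 16) (h2 : ∀ x : V, x + x = 0) (hH : Nat.card H = 2520)
    {v w v' w' : V} (hv : v ≠ 0) (hw : w ≠ 0) (hvw : v ≠ w) (hv' : v' ≠ 0) (hw' : w' ≠ 0)
    (hvw' : v' ≠ w') : ∃ g : H, g • v = v' ∧ g • w = w' := by
  obtain ⟨h0, hh0⟩ := trans_one hV hH hv hv'
  by_contra hcon
  have hno : ¬ ∃ k : H, k • v = v ∧ k • w = h0⁻¹ • w' := by
    rintro ⟨k, hk1, hk2⟩
    apply hcon
    refine ⟨h0 * k, ?_, ?_⟩
    · rw [mul_smul, hk1, hh0]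
    · rw [mul_smul, hk2, smul_inv_smul]
  have hw00 : h0⁻¹ • w' ≠ 0 := smul_ne_zero' _ hw'
  have hw0v : h0⁻¹ • w' ≠ v := by
    intro h
    apply hvw'
    rw [← hh0, ← h, smul_inv_smul]
  have horb : Nat.card (MulAction.orbit H v) = 15 := by
    have hset : (MulAction.orbit H v) = ({0}ᶜ : Set V) := by
      ext y
      constructor
      · rintro ⟨h, rfl⟩
        exact smul_ne_zero' h hv
      · intro hy
        obtain ⟨h, hh⟩ := trans_one hV hH hv (y := y) (fun h0 => hy h0)
        exact ⟨h, hh⟩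
    rw [hset, Nat.card_coe_set_eq, card_nonzero hV]
  have hstab : Nat.card (MulAction.stabilizer H v) = 168 := by
    have h1 := Subgroup.card_eq_card_quotient_mul_card_subgroup (MulAction.stabilizer H v)
    have h3 : Nat.card (H ⧸ MulAction.stabilizer H v) = Nat.card (MulAction.orbit H v) :=
      (Nat.card_congr (MulAction.orbitEquivQuotientStabilizer H v)).symm
    rw [h3, horb, hH] at h1
    omega
  haveI : Fact (Nat.Prime 7) := ⟨by norm_num⟩
  obtain ⟨x, hx⟩ := exists_prime_orderOf_dvd_card' (G := MulAction.stabilizer H v) 7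
    (by rw [hstab]; norm_num)
  have hx7 : orderOf (x : H) = 7 := by rw [Subgroup.orderOf_coe, hx]
  have hxv : (x : H) • v = v := x.2
  apply no_cfg hV h2 hH
  refine ⟨v, (x : H), hx7, hxv, hv, ?_⟩
  intro k hk a ha
  by_contra hka
  have hwv : w ≠ v := Ne.symm hvw
  obtain ⟨k1, hk1v, hk1⟩ := stab_trans hV h2 (x : H) hx7 hxv hv k hk a ha hka hw hwv
  obtain ⟨k2, hk2v, hk2⟩ := stab_trans hV h2 (x : H) hx7 hxv hv k hk a ha hka hw00 hw0v
  apply hno
  refine ⟨k2 * k1⁻¹, ?_, ?_⟩
  · rw [mul_smul]
    have h5 : k1⁻¹ • v = v := by rw [inv_smul_eq_iff, hk1v]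
    rw [h5, hk2v]
  · rw [mul_smul, ← hk1, inv_smul_smul, hk2]

end main3

section concrete

variable {F : Type*} [Field F] [Fintype F]

/-- the natural action of `GL₄(F)` on `F⁴` -/
abbrev glAct (F : Type*) [Field F] :
    DistribMulAction (Matrix.GeneralLinearGroup (Fin 4) F) (Fin 4 → F) where
  smul g v := (g : Matrix (Fin 4) (Fin 4) F).mulVec v
  one_smul v := by
    show ((1 : Matrix.GeneralLinearGroup (Fin 4) F) : Matrix (Fin 4) (Fin 4) F).mulVec v = v
    rw [Units.val_one, Matrix.one_mulVec]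
  mul_smul g h v := by
    show ((g * h : Matrix.GeneralLinearGroup (Fin 4) F) : Matrix (Fin 4) (Fin 4) F).mulVec v =
      (g : Matrix (Fin 4) (Fin 4) F).mulVec ((h : Matrix (Fin 4) (Fin 4) F).mulVec v)
    rw [Units.val_mul, Matrix.mulVec_mulVec]
  smul_zero g := Matrix.mulVec_zero _
  smul_add g v w := Matrix.mulVec_add _ v w

theorem glAct_faithful (F : Type*) [Field F] :
    @FaithfulSMul (Matrix.GeneralLinearGroup (Fin 4) F) (Fin 4 → F)
      (glAct F).toMulAction.toSMul := by
  letI := glAct F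
  refine ⟨?_⟩
  intro g h hgh
  apply Units.ext
  apply Matrix.mulVec_injective
  funext v
  exact hgh v

theorem two_trans_GL (hF : Fintype.card F = 2)
    (H : Subgroup (Matrix.GeneralLinearGroup (Fin 4) F))
    (hH : Nonempty (H ≃* alternatingGroup (Fin 7))) (v w v' w' : Fin 4 → F)
    (hv : v ≠ 0) (hw : w ≠ 0) (hvw : v ≠ w) (hv' : v' ≠ 0) (hw' : w' ≠ 0) (hvw' : v' ≠ w') :
    ∃ g ∈ H, (g : Matrix (Fin 4) (Fin 4) F).mulVec v = v' ∧
      (g : Matrix (Fin 4) (Fin 4) F).mulVec w = w' := by
  letI := glAct F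
  haveI := glAct_faithful F
  have hV : Nat.card (Fin 4 → F) = 16 := by
    rw [Nat.card_eq_fintype_card, Fintype.card_fun, hF, Fintype.card_fin]
    norm_num
  have h2F : (2 : F) = 0 := by
    have := Nat.cast_card_eq_zero F
    rw [hF] at this
    exact_mod_cast this
  have h2 : ∀ x : Fin 4 → F, x + x = 0 := by
    intro x
    rw [← two_smul F x, h2F, zero_smul]
  obtain ⟨e⟩ := hH
  have hcard : Nat.card H = 2520 := by
    rw [Nat.card_congr e.toEquiv, nat_card_alternatingGroup]
    simp [Nat.factorial]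
  obtain ⟨g, hg1, hg2⟩ := two_trans (H := H) hV h2 hcard hv hw hvw hv' hw' hvw'
  exact ⟨g.1, g.2, hg1, hg2⟩

end concrete

section exist

variable {F : Type*} [Field F] [Fintype F]

/-- the embedding of `A₇` in `A₈` -/
noncomputable def altEmb : alternatingGroup (Fin 7) →* alternatingGroup (Fin 8) :=
  ((Equiv.Perm.viaEmbeddingHom (Fin.castSuccEmb (n := 7))).comp
    (alternatingGroup (Fin 7)).subtype).codRestrict (alternatingGroup (Fin 8)) (by
    intro x
    rw [Equiv.Perm.mem_alternatingGroup, MonoidHom.comp_apply, Equiv.Perm.viaEmbeddingHom_apply]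
    unfold Equiv.Perm.viaEmbedding
    rw [Equiv.Perm.sign_extendDomain]
    exact Equiv.Perm.mem_alternatingGroup.mp x.2)

theorem altEmb_injective : Function.Injective altEmb := by
  intro x y hxy
  have h1 := congrArg Subtype.val hxy
  simp only [altEmb, MonoidHom.codRestrict_apply, MonoidHom.comp_apply] at h1
  have h2 := Equiv.Perm.viaEmbeddingHom_injective _ h1
  exact Subtype.ext h2

theorem center_SL_eq_bot (hF : Fintype.card F = 2) :
    Subgroup.center (Matrix.SpecialLinearGroup (Fin 4) F) = ⊥ := by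
  rw [eq_bot_iff]
  intro A hA
  rw [Matrix.SpecialLinearGroup.mem_center_iff] at hA
  obtain ⟨r, hr, hrA⟩ := hA
  have hr0 : r ≠ 0 := by
    intro h0
    rw [h0, zero_pow (by simp)] at hr
    exact zero_ne_one hr
  have hr1 : r = 1 := by
    have := FiniteField.pow_card_sub_one_eq_one r hr0
    rw [hF] at this
    simpa using this
  rw [Subgroup.mem_bot]
  apply Subtype.ext
  rw [← hrA, hr1]
  simp

theorem exists_A7 (hF : Fintype.card F = 2) :
    ∃ H : Subgroup (Matrix.GeneralLinearGroup (Fin 4) F),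
      Nonempty (H ≃* alternatingGroup (Fin 7)) := by
  obtain ⟨e⟩ := Cfsg.Agent.S0256.result hF
  have hc := center_SL_eq_bot hF
  have e2 : Matrix.ProjectiveSpecialLinearGroup (Fin 4) F ≃* Matrix.SpecialLinearGroup (Fin 4) F :=
    (QuotientGroup.quotientMulEquivOfEq hc).trans QuotientGroup.quotientBot
  let f : alternatingGroup (Fin 7) →* Matrix.GeneralLinearGroup (Fin 4) F :=
    (Matrix.SpecialLinearGroup.toGL).comp
      ((e2.toMonoidHom).comp ((e.symm.toMonoidHom).comp altEmb))
  have hf : Function.Injective f := by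
    intro x y hxy
    have h1 := Matrix.SpecialLinearGroup.toGL_injective hxy
    have h2 := e2.injective h1
    have h3 := e.symm.injective h2
    exact altEmb_injective h3
  exact ⟨f.range, ⟨(MonoidHom.ofInjective hf).symm⟩⟩

end exist

end Cfsg.Agent.helper11.A7T
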