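import Mathlib

set_option autoImplicit false

namespace Cfsg.Agent.helper11

open Subgroup

theorem centralizer_subgroupOf_normalizer_normal {G : Type*} [Group G] (P : Subgroup G) :
    ((centralizer (P : Set G)).subgroupOf (normalizer (P : Set G))).Normal := by
  constructor
  intro c hc n
  rw [mem_subgroupOf] at hc ⊢
  rw [mem_centralizer_iff] at hc ⊢
  intro y hy
  have hn : (n : G) ∈ normalizer (P : Set G) := n.2
  have hy' : (n : G)⁻¹ * y * n ∈ P := by
    have h2 : (n : G) * ((n : G)⁻¹ * y) ∈ P := by simpa using hy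
    simpa [mul_assoc] using (mem_normalizer_iff'.mp hn ((n : G)⁻¹ * y)).mpr h2
  have h := hc _ hy'
  simp only [coe_mul, InvMemClass.coe_inv]
  calc y * ((n : G) * c * (n : G)⁻¹) = (n : G) * (((n : G)⁻¹ * y * n) * c) * (n : G)⁻¹ := by group
    _ = (n : G) * (c * ((n : G)⁻¹ * y * n)) * (n : G)⁻¹ := by rw [h]
    _ = (n : G) * c * (n : G)⁻¹ * y := by group

theorem conj_pow_odd {G : Type*} [Group G] (x n : G) (h : n⁻¹ * x * n = x⁻¹) (k : ℕ) :
    (n ^ (2 * k + 1))⁻¹ * x * n ^ (2 * k + 1) = x⁻¹ := by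
  induction k with
  | zero => simpa using h
  | succ k ih =>
    have e : n ^ (2 * (k + 1) + 1) = n ^ (2 * k + 1) * n * n := by
      rw [show 2 * (k + 1) + 1 = (2 * k + 1) + 1 + 1 by ring, pow_succ, pow_succ]
    have h' : n⁻¹ * x⁻¹ * n = x := by
      have := congrArg Inv.inv h
      simpa [mul_assoc] using this
    rw [e]
    calc (n ^ (2 * k + 1) * n * n)⁻¹ * x * (n ^ (2 * k + 1) * n * n)
        = n⁻¹ * (n⁻¹ * ((n ^ (2 * k + 1))⁻¹ * x * n ^ (2 * k + 1)) * n) * n := by group
      _ = n⁻¹ * (n⁻¹ * x⁻¹ * n) * n := by rw [ih]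
      _ = x⁻¹ := by rw [h', h]

/-- If an abelian Sylow subgroup contains an element that is conjugate in `G` to its inverse and is
not an involution, then the automizer has even order. -/
theorem even_automizer_of_conj_inv {G : Type*} [Group G] [Finite G] {p : ℕ} [Fact p.Prime]
    (P : Sylow p G) (hP : IsMulCommutative (P : Subgroup G)) (x g : G) (hx : x ∈ P)
    (hne : x⁻¹ ≠ x) (hg : g⁻¹ * x * g = x⁻¹) :
    2 ∣ ((centralizer ((P : Subgroup G) : Set G)).subgroupOf
      (normalizer ((P : Subgroup G) : Set G))).index := by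
  have := hP
  obtain ⟨n, hn, hnx⟩ := P.conj_eq_normalizer_conj_of_mem x g hx (by rw [hg]; exact inv_mem hx)
  rw [hg] at hnx
  have hnorm := centralizer_subgroupOf_normalizer_normal (P : Subgroup G)
  set N := normalizer ((P : Subgroup G) : Set G) with hN
  set C := (centralizer ((P : Subgroup G) : Set G)).subgroupOf N with hC
  let nN : N := ⟨n, hn⟩
  have h1 : orderOf (QuotientGroup.mk nN : N ⧸ C) ∣ Nat.card (N ⧸ C) := orderOf_dvd_natCard _
  rw [Subgroup.index_eq_card]
  refine dvd_trans ?_ h1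
  by_contra hodd
  have hodd' : Odd (orderOf (QuotientGroup.mk nN : N ⧸ C)) := by
    rcases Nat.even_or_odd (orderOf (QuotientGroup.mk nN : N ⧸ C)) with he | ho
    · exact absurd he.two_dvd hodd
    · exact ho
  obtain ⟨k, hk⟩ := hodd'
  have h2 : (QuotientGroup.mk nN : N ⧸ C) ^ (2 * k + 1) = 1 := by
    rw [← hk]; exact pow_orderOf_eq_one _
  rw [← QuotientGroup.mk_pow, QuotientGroup.eq_one_iff] at h2
  rw [hC, mem_subgroupOf, mem_centralizer_iff] at h2
  have h3 := h2 x hx
  have h4 := conj_pow_odd x n hnx.symm k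
  simp only [SubmonoidClass.coe_pow] at h3
  have h5 : (n ^ (2 * k + 1))⁻¹ * x * n ^ (2 * k + 1) = x := by
    have : (nN : G) = n := rfl
    rw [this] at h3
    rw [mul_assoc, h3, ← mul_assoc, inv_mul_cancel, one_mul]
  exact hne (h4.symm.trans h5)

end Cfsg.Agent.helper11
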