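import Mathlib

/-!
# Groups in which commuting is transitive (CA-groups): class counting

Basic facts and the class-counting identity
`|class of x| * |N(C(x))| = |H| * (|C(x)| - 1)`.
-/

namespace Cfsg.Agent.helper11.CA

variable {H : Type*} [Group H]

/-- commuting is transitive on non-identity elements -/
def IsCA (H : Type*) [Group H] : Prop :=
  ∀ x : H, x ≠ 1 → ∀ a b : H, Commute a x → Commute b x → Commute a b

theorem conj_ne_one {x : H} (hx : x ≠ 1) (g : H) : g * x * g⁻¹ ≠ 1 := by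
  intro h
  apply hx
  have := congrArg (fun y => g⁻¹ * y * g) h
  simpa [mul_assoc] using this

theorem conj_ne_one' {x : H} (hx : x ≠ 1) (g : H) : g⁻¹ * x * g ≠ 1 := by
  have := conj_ne_one hx g⁻¹
  simpa using this

theorem cent_iff (hCA : IsCA H) {x y : H} (hx : x ≠ 1) (hy : y ≠ 1) (hxy : Commute y x) (a : H) :
    Commute a y ↔ Commute a x :=
  ⟨fun h => hCA y hy a x h hxy.symm, fun h => hCA x hx a y h hxy⟩

theorem fiber_iff (hCA : IsCA H) {x z g₀ : H} (hx : x ≠ 1) (hz : z ≠ 1)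
    (hg₀ : Commute (g₀⁻¹ * z * g₀) x) (g : H) :
    Commute (g⁻¹ * z * g) x ↔ Commute (g₀⁻¹ * g * x * (g₀⁻¹ * g)⁻¹) x := by
  have hy₀ : g₀⁻¹ * z * g₀ ≠ 1 := conj_ne_one' hz g₀
  rw [← cent_iff hCA hx hy₀ hg₀ (g₀⁻¹ * g * x * (g₀⁻¹ * g)⁻¹)]
  rw [← Commute.conj_iff (g₀⁻¹ * g) (a := g⁻¹ * z * g) (b := x)]
  have : g₀⁻¹ * g * (g⁻¹ * z * g) * (g₀⁻¹ * g)⁻¹ = g₀⁻¹ * z * g₀ := by group
  rw [this]
  exact ⟨Commute.symm, Commute.symm⟩

/-- the class of `x`: non-identity elements conjugate into the centraliser of `x` -/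
def S (x : H) : Set H := {z | z ≠ 1 ∧ ∃ g : H, Commute (g⁻¹ * z * g) x}

noncomputable def cnum (x : H) : ℕ := Nat.card {y : H // Commute y x}

noncomputable def nnum (x : H) : ℕ := Nat.card {n : H // Commute (n * x * n⁻¹) x}

noncomputable def snum (x : H) : ℕ := (S x).ncard

theorem snum_eq (x : H) :
    snum x = Nat.card {z : H // z ≠ 1 ∧ ∃ g : H, Commute (g⁻¹ * z * g) x} :=
  (Nat.card_coe_set_eq (S x)).symm

theorem class_count [Finite H] (hCA : IsCA H) (x : H) (hx : x ≠ 1) :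
    snum x * nnum x = Nat.card H * (cnum x - 1) := by
  classical
  have := Fintype.ofFinite H
  rw [snum_eq]
  unfold nnum cnum
  rw [Nat.card_eq_fintype_card, Nat.card_eq_fintype_card, Nat.card_eq_fintype_card,
    Nat.card_eq_fintype_card, Fintype.card_subtype, Fintype.card_subtype, Fintype.card_subtype]
  have key := Finset.sum_card_bipartiteAbove_eq_sum_card_bipartiteBelow
    (s := (Finset.univ : Finset H)) (t := (Finset.univ : Finset H))
    (fun g z : H => z ≠ 1 ∧ Commute (g⁻¹ * z * g) x)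
  have hL : ∀ g ∈ (Finset.univ : Finset H),
      ((Finset.univ : Finset H).bipartiteAbove
        (fun g z : H => z ≠ 1 ∧ Commute (g⁻¹ * z * g) x) g).card
        = (Finset.univ.filter (fun y : H => Commute y x)).card - 1 := by
    intro g _
    rw [← Finset.card_erase_of_mem (a := (1 : H)) (by simp)]
    apply Finset.card_bij (fun z _ => g⁻¹ * z * g)
    · intro z hz
      simp only [Finset.bipartiteAbove, Finset.mem_filter, Finset.mem_univ, true_and] at hz
      simp only [Finset.mem_erase, Finset.mem_filter, Finset.mem_univ, true_and]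
      exact ⟨conj_ne_one' hz.1 g, hz.2⟩
    · intro a _ b _ h
      exact mul_left_cancel (mul_right_cancel h)
    · intro y hy
      simp only [Finset.mem_erase, Finset.mem_filter, Finset.mem_univ, true_and] at hy
      refine ⟨g * y * g⁻¹, ?_, by group⟩
      simp only [Finset.bipartiteAbove, Finset.mem_filter, Finset.mem_univ, true_and]
      refine ⟨conj_ne_one hy.1 g, ?_⟩
      have : g⁻¹ * (g * y * g⁻¹) * g = y := by group
      rw [this]; exact hy.2
  have hR : ∀ z ∈ (Finset.univ : Finset H),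
      ((Finset.univ : Finset H).bipartiteBelow
        (fun g z : H => z ≠ 1 ∧ Commute (g⁻¹ * z * g) x) z).card
        = if (z ≠ 1 ∧ ∃ g : H, Commute (g⁻¹ * z * g) x) then
            (Finset.univ.filter (fun n : H => Commute (n * x * n⁻¹) x)).card else 0 := by
    intro z _
    split_ifs with hz
    · obtain ⟨hz1, g₀, hg₀⟩ := hz
      apply Finset.card_bij (fun g _ => g₀⁻¹ * g)
      · intro g hg
        simp only [Finset.bipartiteBelow, Finset.mem_filter, Finset.mem_univ, true_and] at hg ⊢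
        exact (fiber_iff hCA hx hz1 hg₀ g).mp hg.2
      · intro a _ b _ h; exact mul_left_cancel h
      · intro n hn
        simp only [Finset.mem_filter, Finset.mem_univ, true_and] at hn
        refine ⟨g₀ * n, ?_, by group⟩
        simp only [Finset.bipartiteBelow, Finset.mem_filter, Finset.mem_univ, true_and]
        refine ⟨hz1, (fiber_iff hCA hx hz1 hg₀ (g₀ * n)).mpr ?_⟩
        have : g₀⁻¹ * (g₀ * n) = n := by group
        rw [this]; exact hn
    · rw [Finset.card_eq_zero, Finset.eq_empty_iff_forall_notMem]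
      intro g hg
      simp only [Finset.bipartiteBelow, Finset.mem_filter, Finset.mem_univ, true_and] at hg
      exact hz ⟨hg.1, g, hg.2⟩
  rw [Finset.sum_congr rfl hL, Finset.sum_congr rfl hR] at key
  rw [Finset.sum_const, Finset.card_univ, smul_eq_mul] at key
  rw [← Finset.sum_filter, Finset.sum_const, smul_eq_mul] at key
  exact key.symm

/-! ### Centraliser and normaliser subgroups -/

/-- centraliser of an element -/
def Cent (x : H) : Subgroup H := Subgroup.centralizer {x}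

theorem mem_Cent {x y : H} : y ∈ Cent x ↔ Commute y x := by
  rw [Cent, Subgroup.mem_centralizer_singleton_iff]
  exact Iff.rfl

theorem cnum_eq (x : H) : cnum x = Nat.card (Cent x) :=
  Nat.card_congr (Equiv.subtypeEquivRight (fun _ => mem_Cent.symm))

theorem norm_conj (hCA : IsCA H) {x : H} (hx : x ≠ 1) {n y : H}
    (hn : Commute (n * x * n⁻¹) x) (hy : Commute y x) : Commute (n * y * n⁻¹) x := by
  have h1 : Commute (n * y * n⁻¹) (n * x * n⁻¹) := (Commute.conj_iff n).mpr hy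
  exact (cent_iff hCA hx (conj_ne_one hx n) hn _).mp h1

/-- normaliser of the centraliser of `x` -/
def Nor (hCA : IsCA H) {x : H} (hx : x ≠ 1) : Subgroup H where
  carrier := {n | Commute (n * x * n⁻¹) x}
  one_mem' := by
    show Commute (1 * x * 1⁻¹) x
    simp
  mul_mem' := by
    intro a b ha hb
    show Commute (a * b * x * (a * b)⁻¹) x
    have h : a * b * x * (a * b)⁻¹ = a * (b * x * b⁻¹) * a⁻¹ := by group
    rw [h]
    exact norm_conj hCA hx ha hb
  inv_mem' := by
    intro a ha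
    show Commute (a⁻¹ * x * a⁻¹⁻¹) x
    have h1 : Commute (a⁻¹ * (a * x * a⁻¹) * a⁻¹⁻¹) (a⁻¹ * x * a⁻¹⁻¹) :=
      (Commute.conj_iff a⁻¹).mpr ha
    have h2 : a⁻¹ * (a * x * a⁻¹) * a⁻¹⁻¹ = x := by group
    rw [h2] at h1
    exact h1.symm

theorem mem_Nor (hCA : IsCA H) {x : H} (hx : x ≠ 1) {n : H} :
    n ∈ Nor hCA hx ↔ Commute (n * x * n⁻¹) x := Iff.rfl

theorem nnum_eq (hCA : IsCA H) {x : H} (hx : x ≠ 1) : nnum x = Nat.card (Nor hCA hx) := rfl

theorem Cent_le_Nor (hCA : IsCA H) {x : H} (hx : x ≠ 1) : Cent x ≤ Nor hCA hx := by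
  intro y hy
  rw [mem_Cent] at hy
  rw [mem_Nor]
  have : y * x * y⁻¹ = x := by rw [hy.eq, mul_inv_cancel_right]
  rw [this]

theorem cent_eq_of_mem (hCA : IsCA H) {x y : H} (hx : x ≠ 1) (hy : y ≠ 1) (hxy : Commute y x) :
    Cent y = Cent x := by
  ext a
  rw [mem_Cent, mem_Cent]
  exact cent_iff hCA hx hy hxy a

/-! ### the class relation -/

theorem mem_S_self {x : H} (hx : x ≠ 1) : x ∈ S x := ⟨hx, 1, by simp⟩

theorem S_symm {x y : H} (hx : x ≠ 1) (h : y ∈ S x) : x ∈ S y := by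
  obtain ⟨_, g, hg⟩ := h
  refine ⟨hx, g⁻¹, ?_⟩
  have h1 : Commute (g * (g⁻¹ * y * g) * g⁻¹) (g * x * g⁻¹) := (Commute.conj_iff g).mpr hg
  have h2 : g * (g⁻¹ * y * g) * g⁻¹ = y := by group
  rw [h2] at h1
  rw [inv_inv]
  exact h1.symm

theorem S_trans (hCA : IsCA H) {x y z : H} (hx : x ≠ 1) (hy : y ∈ S x) (hz : z ∈ S y) :
    z ∈ S x := by
  obtain ⟨hy1, g, hg⟩ := hy
  obtain ⟨hz1, h, hh⟩ := hz
  refine ⟨hz1, h * g, ?_⟩
  have h1 : Commute (g⁻¹ * (h⁻¹ * z * h) * g⁻¹⁻¹) (g⁻¹ * y * g⁻¹⁻¹) :=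
    (Commute.conj_iff g⁻¹).mpr hh
  rw [inv_inv] at h1
  have h2 : (h * g)⁻¹ * z * (h * g) = g⁻¹ * (h⁻¹ * z * h) * g := by group
  rw [h2]
  exact (cent_iff hCA hx (conj_ne_one' hy1 g) hg _).mp h1

theorem S_eq_of_mem (hCA : IsCA H) {x y : H} (hx : x ≠ 1) (hy : y ∈ S x) : S y = S x := by
  ext z
  constructor
  · intro hz; exact S_trans hCA hx hy hz
  · intro hz
    exact S_trans hCA hy.1 (S_symm hx hy) hz

theorem S_disjoint (hCA : IsCA H) {x y : H} (hx : x ≠ 1) (hy : y ≠ 1) (hyx : y ∉ S x) :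
    Disjoint (S x) (S y) := by
  rw [Set.disjoint_left]
  intro z hzx hzy
  apply hyx
  exact S_trans hCA hx hzx (S_symm hy hzy)

theorem S_subset_compl_one (x : H) : S x ⊆ ({1}ᶜ : Set H) := by
  intro z hz
  exact hz.1

theorem pow_eq_one_of_mem_S {x z : H} (hz : z ∈ S x) (k : ℕ)
    (hk : ∀ y : H, Commute y x → y ^ k = 1) : z ^ k = 1 := by
  obtain ⟨_, g, hg⟩ := hz
  have h1 := hk _ hg
  have h2 : (g⁻¹ * z * g) ^ k = g⁻¹ * z ^ k * g := by
    have := conj_pow (a := g⁻¹) (b := z) (i := k)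
    rw [inv_inv] at this
    exact this
  rw [h2] at h1
  have := congrArg (fun y => g * y * g⁻¹) h1
  simpa [mul_assoc] using this

end Cfsg.Agent.helper11.CA
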