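import Mathlib
import Cfsg.Agent.Lib_helper11_CA1

/-!
# CA-groups: free actions, involutions, the odd case
-/

namespace Cfsg.Agent.helper11.CA

variable {H : Type*} [Group H]

/-- a subgroup acting freely by conjugation on a set has order dividing the size of the set -/
theorem free_dvd [Finite H] (A : Subgroup H) :
    ∀ (n : ℕ) (X : Set H), X.ncard = n →
    (∀ a ∈ A, ∀ z ∈ X, a * z * a⁻¹ ∈ X) →
    (∀ a ∈ A, ∀ z ∈ X, a * z * a⁻¹ = z → a = 1) → Nat.card A ∣ n := by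
  intro n
  induction n using Nat.strong_induction_on with
  | _ n ih =>
    intro X hn hX hfree
    by_cases hne : X = ∅
    · subst hne
      rw [Set.ncard_empty] at hn
      rw [← hn]; exact dvd_zero _
    obtain ⟨z, hz⟩ := Set.nonempty_iff_ne_empty.mpr hne
    obtain ⟨f, hf⟩ : ∃ f : A → H, ∀ a : A, f a = (a : H) * z * (a : H)⁻¹ := ⟨_, fun _ => rfl⟩
    have hinj : Function.Injective f := by
      intro a b hab
      rw [hf, hf] at hab
      have h1 : ((b : H)⁻¹ * (a : H)) * z * ((b : H)⁻¹ * (a : H))⁻¹ = z := by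
        have : ((b : H)⁻¹ * (a : H)) * z * ((b : H)⁻¹ * (a : H))⁻¹
            = (b : H)⁻¹ * ((a : H) * z * (a : H)⁻¹) * (b : H) := by group
        rw [this, hab]; group
      have h2 := hfree _ (A.mul_mem (A.inv_mem b.2) a.2) z hz h1
      have h3 : (a : H) = (b : H) := by
        have := congrArg (fun y => (b : H) * y) h2
        simpa using this
      exact Subtype.ext h3
    have hO : (Set.range f).ncard = Nat.card A := by
      rw [← Set.image_univ, Set.ncard_image_of_injective _ hinj, Set.ncard_univ]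
    have hOX : Set.range f ⊆ X := by
      rintro _ ⟨a, rfl⟩
      rw [hf]; exact hX a a.2 z hz
    have hfin : X.Finite := Set.toFinite X
    have hcard : (X \ Set.range f).ncard = n - Nat.card A := by
      rw [Set.ncard_diff hOX, hn, hO]
    have hle : Nat.card A ≤ n := by
      rw [← hO, ← hn]; exact Set.ncard_le_ncard hOX hfin
    have hpos : 0 < Nat.card A := Nat.card_pos
    have hlt : n - Nat.card A < n := by omega
    have hX' : ∀ a ∈ A, ∀ w ∈ X \ Set.range f, a * w * a⁻¹ ∈ X \ Set.range f := by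
      intro a ha w hw
      refine ⟨hX a ha w hw.1, ?_⟩
      rintro ⟨b, hb⟩
      apply hw.2
      refine ⟨⟨a⁻¹ * b, A.mul_mem (A.inv_mem ha) b.2⟩, ?_⟩
      rw [hf] at hb ⊢
      show a⁻¹ * (b : H) * z * (a⁻¹ * (b : H))⁻¹ = w
      have : a⁻¹ * (b : H) * z * (a⁻¹ * (b : H))⁻¹ = a⁻¹ * ((b : H) * z * (b : H)⁻¹) * a := by
        group
      rw [this, hb]; group
    have hfree' : ∀ a ∈ A, ∀ w ∈ X \ Set.range f, a * w * a⁻¹ = w → a = 1 :=
      fun a ha w hw => hfree a ha w hw.1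
    have := ih _ hlt (X \ Set.range f) hcard hX' hfree'
    have h4 : n = (n - Nat.card A) + Nat.card A := by omega
    rw [h4]
    exact dvd_add this (dvd_refl _)

theorem pow_odd_of_sq {x : H} (hx2 : x ^ 2 = 1) {n : ℕ} (hn : Odd n) : x ^ n = x := by
  obtain ⟨j, rfl⟩ := hn
  rw [pow_succ, pow_mul, hx2, one_pow, one_mul]

theorem sq_eq_one_of_commute_invol (h2 : ∀ x : H, x ^ 2 = 1 ∨ Odd (orderOf x)) {x y : H}
    (hx1 : x ≠ 1) (hx2 : x ^ 2 = 1) (hy : Commute y x) : y ^ 2 = 1 := by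
  rcases h2 (x * y) with h | h
  · have : (x * y) ^ 2 = x ^ 2 * y ^ 2 := hy.symm.mul_pow 2
    rw [this, hx2, one_mul] at h; exact h
  · rcases h2 y with h' | h'
    · exact h'
    · exfalso
      have e1 : (x * y) ^ orderOf (x * y) = 1 := pow_orderOf_eq_one _
      rw [hy.symm.mul_pow, pow_odd_of_sq hx2 h] at e1
      have e2 : x = (y ^ orderOf (x * y))⁻¹ := eq_inv_of_mul_eq_one_left e1
      have e3 : x ^ orderOf y = 1 := by
        rw [e2, inv_pow, ← pow_mul, mul_comm, pow_mul, pow_orderOf_eq_one, one_pow, inv_one]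
      rw [pow_odd_of_sq hx2 h'] at e3
      exact hx1 e3

theorem inv_eq_self_of_sq {a : H} (ha : a ^ 2 = 1) : a⁻¹ = a := by
  rw [inv_eq_iff_mul_eq_one, ← sq, ha]

theorem commute_of_sq {a b : H} (ha : a ^ 2 = 1) (hb : b ^ 2 = 1) (hab : (a * b) ^ 2 = 1) :
    Commute a b := by
  have h1 : (a * b)⁻¹ = a * b := inv_eq_self_of_sq hab
  rw [mul_inv_rev, inv_eq_self_of_sq ha, inv_eq_self_of_sq hb] at h1
  exact h1.symm

theorem isPGroup_Cent (h2 : ∀ x : H, x ^ 2 = 1 ∨ Odd (orderOf x)) {x : H}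
    (hx1 : x ≠ 1) (hx2 : x ^ 2 = 1) : IsPGroup 2 (Cent x) := by
  intro y
  refine ⟨1, ?_⟩
  have := sq_eq_one_of_commute_invol h2 hx1 hx2 (mem_Cent.mp y.2)
  apply Subtype.ext
  simpa using this

theorem sq_eq_one_of_two_group (h2 : ∀ x : H, x ^ 2 = 1 ∨ Odd (orderOf x)) {w : H} {k : ℕ}
    (hk : w ^ 2 ^ k = 1) : w ^ 2 = 1 := by
  rcases h2 w with h | h
  · exact h
  · have h3 : orderOf w ∣ 2 ^ k := orderOf_dvd_of_pow_eq_one hk
    have h4 : orderOf w = 1 :=
      Nat.Coprime.eq_one_of_dvd (Nat.Coprime.pow_right k h.coprime_two_right) h3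
    rw [orderOf_eq_one_iff.mp h4, one_pow]

/-- the centraliser of an involution, as a Sylow 2-subgroup -/
noncomputable def sylowOf (h2 : ∀ x : H, x ^ 2 = 1 ∨ Odd (orderOf x)) {x : H}
    (hx1 : x ≠ 1) (hx2 : x ^ 2 = 1) : Sylow 2 H where
  toSubgroup := Cent x
  isPGroup' := isPGroup_Cent h2 hx1 hx2
  is_maximal' := by
    intro Q hQ hle
    apply le_antisymm _ hle
    intro y hy
    rw [mem_Cent]
    have hsq : ∀ w ∈ Q, w ^ 2 = 1 := by
      intro w hw
      obtain ⟨k, hk⟩ := hQ ⟨w, hw⟩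
      have h1 : (w : H) ^ 2 ^ k = 1 := by
        have := congrArg Subtype.val hk; simpa using this
      exact sq_eq_one_of_two_group h2 h1
    have hxQ : x ∈ Q := hle (mem_Cent.mpr (Commute.refl x))
    exact commute_of_sq (hsq y hy) hx2 (hsq _ (Q.mul_mem hy hxQ))

theorem coe_sylowOf (h2 : ∀ x : H, x ^ 2 = 1 ∨ Odd (orderOf x)) {x : H}
    (hx1 : x ≠ 1) (hx2 : x ^ 2 = 1) : ((sylowOf h2 hx1 hx2 : Sylow 2 H) : Subgroup H) = Cent x :=
  rfl

theorem mem_smul_sylow_iff {p : ℕ} (g x : H) (P : Sylow p H) :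
    x ∈ g • P ↔ g⁻¹ * x * g ∈ P := by
  show x ∈ ((g • P : Sylow p H) : Subgroup H) ↔ _
  rw [Sylow.coe_subgroup_smul, Subgroup.mem_pointwise_smul_iff_inv_smul_mem,
    MulAut.smul_def, MulAut.conj_inv_apply]
  rfl

theorem invol_mem_S [Finite H] (h2 : ∀ x : H, x ^ 2 = 1 ∨ Odd (orderOf x)) {x y : H}
    (hx1 : x ≠ 1) (hx2 : x ^ 2 = 1) (hy1 : y ≠ 1) (hy2 : y ^ 2 = 1) : y ∈ S x := by
  haveI : Fact (Nat.Prime 2) := ⟨Nat.prime_two⟩
  obtain ⟨g, hg⟩ := MulAction.exists_smul_eq H (sylowOf h2 hx1 hx2) (sylowOf h2 hy1 hy2)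
  refine ⟨hy1, g, ?_⟩
  have hy : y ∈ (sylowOf h2 hy1 hy2 : Sylow 2 H) := mem_Cent.mpr (Commute.refl y)
  rw [← hg, mem_smul_sylow_iff] at hy
  exact mem_Cent.mp hy

theorem S_invol [Finite H] (h2 : ∀ x : H, x ^ 2 = 1 ∨ Odd (orderOf x)) {x : H}
    (hx1 : x ≠ 1) (hx2 : x ^ 2 = 1) : S x = {z | z ≠ 1 ∧ z ^ 2 = 1} := by
  ext z
  constructor
  · intro hz
    refine ⟨hz.1, ?_⟩
    have := pow_eq_one_of_mem_S hz 2
      (fun y hy => sq_eq_one_of_commute_invol h2 hx1 hx2 hy)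
    exact this
  · rintro ⟨hz1, hz2⟩
    exact invol_mem_S h2 hx1 hx2 hz1 hz2

/-! ### index of the centraliser in its normaliser -/

theorem ne_one_of_sq_ne {x : H} (hx : x ^ 2 ≠ 1) : x ≠ 1 := by
  rintro rfl
  exact hx (one_pow 2)

theorem cnum_dvd_nnum [Finite H] (hCA : IsCA H) {x : H} (hx : x ≠ 1) : cnum x ∣ nnum x := by
  rw [cnum_eq, nnum_eq hCA hx]
  exact Subgroup.card_dvd_of_le (Cent_le_Nor hCA hx)

theorem nnum_dvd_card [Finite H] (hCA : IsCA H) {x : H} (hx : x ≠ 1) : nnum x ∣ Nat.card H := by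
  rw [nnum_eq hCA hx]
  exact Subgroup.card_subgroup_dvd_card _

theorem cnum_pos [Finite H] (x : H) : 0 < cnum x := by
  rw [cnum_eq]; exact Nat.card_pos

theorem nnum_pos [Finite H] (hCA : IsCA H) {x : H} (hx : x ≠ 1) : 0 < nnum x := by
  rw [nnum_eq hCA hx]; exact Nat.card_pos

theorem nnum_le_two_mul [Finite H] (hCA : IsCA H)
    (hinv : ∀ x g : H, x ^ 2 ≠ 1 → Commute (g * x * g⁻¹) x →
      g * x * g⁻¹ = x ∨ g * x * g⁻¹ = x⁻¹)
    {x : H} (hx : x ^ 2 ≠ 1) : nnum x ≤ 2 * cnum x := by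
  have hx1 : x ≠ 1 := ne_one_of_sq_ne hx
  rw [cnum_eq, nnum_eq hCA hx1]
  by_cases hex : ∃ n₀, n₀ ∈ Nor hCA hx1 ∧ n₀ ∉ Cent x
  · obtain ⟨n₀, hn₀, hn₀c⟩ := hex
    have hn₀x : n₀ * x * n₀⁻¹ = x⁻¹ := by
      rcases hinv x n₀ hx hn₀ with h | h
      · exfalso; apply hn₀c
        rw [mem_Cent]
        exact mul_inv_eq_iff_eq_mul.mp h
      · exact h
    have hsub : ((Nor hCA hx1 : Subgroup H) : Set H) ⊆
        ((Cent x : Subgroup H) : Set H) ∪ (fun c => n₀ * c) '' ((Cent x : Subgroup H) : Set H) := by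
      intro n hn
      by_cases hc : n ∈ Cent x
      · exact Or.inl hc
      · right
        have hnx : n * x * n⁻¹ = x⁻¹ := by
          rcases hinv x n hx hn with h | h
          · exfalso; apply hc
            rw [mem_Cent]
            exact mul_inv_eq_iff_eq_mul.mp h
          · exact h
        refine ⟨n₀⁻¹ * n, ?_, by group⟩
        show n₀⁻¹ * n ∈ Cent x
        rw [mem_Cent]
        show n₀⁻¹ * n * x = x * (n₀⁻¹ * n)
        have e1 : n * x = x⁻¹ * n := mul_inv_eq_iff_eq_mul.mp hnx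
        have e2 : n₀ * x = x⁻¹ * n₀ := mul_inv_eq_iff_eq_mul.mp hn₀x
        have e3 : n₀⁻¹ * x⁻¹ = x * n₀⁻¹ := by
          have := congrArg (fun y => n₀⁻¹ * y * n₀⁻¹) e2
          simp only [mul_assoc, inv_mul_cancel_left, mul_inv_cancel, mul_one] at this
          exact this.symm
        calc n₀⁻¹ * n * x = n₀⁻¹ * (n * x) := by rw [mul_assoc]
          _ = n₀⁻¹ * (x⁻¹ * n) := by rw [e1]
          _ = (n₀⁻¹ * x⁻¹) * n := by rw [mul_assoc]
          _ = x * n₀⁻¹ * n := by rw [e3]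
          _ = x * (n₀⁻¹ * n) := by rw [mul_assoc]
    have h1 : Nat.card (Nor hCA hx1) = ((Nor hCA hx1 : Subgroup H) : Set H).ncard :=
      Nat.card_coe_set_eq _
    have h2 : Nat.card (Cent x) = ((Cent x : Subgroup H) : Set H).ncard :=
      Nat.card_coe_set_eq _
    rw [h1, h2]
    calc ((Nor hCA hx1 : Subgroup H) : Set H).ncard
        ≤ (((Cent x : Subgroup H) : Set H) ∪
            (fun c => n₀ * c) '' ((Cent x : Subgroup H) : Set H)).ncard :=
          Set.ncard_le_ncard hsub (Set.toFinite _)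
      _ ≤ ((Cent x : Subgroup H) : Set H).ncard +
            ((fun c => n₀ * c) '' ((Cent x : Subgroup H) : Set H)).ncard := Set.ncard_union_le _ _
      _ ≤ ((Cent x : Subgroup H) : Set H).ncard + ((Cent x : Subgroup H) : Set H).ncard :=
          Nat.add_le_add_left (Set.ncard_image_le (Set.toFinite _)) _
      _ = 2 * ((Cent x : Subgroup H) : Set H).ncard := by ring
  · push Not at hex
    have hle : Nor hCA hx1 ≤ Cent x := fun n hn => hex n hn
    have := Subgroup.card_le_of_le hle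
    omega

theorem nnum_cases [Finite H] (hCA : IsCA H)
    (hinv : ∀ x g : H, x ^ 2 ≠ 1 → Commute (g * x * g⁻¹) x →
      g * x * g⁻¹ = x ∨ g * x * g⁻¹ = x⁻¹)
    {x : H} (hx : x ^ 2 ≠ 1) : nnum x = cnum x ∨ nnum x = 2 * cnum x := by
  have hx1 : x ≠ 1 := ne_one_of_sq_ne hx
  obtain ⟨j, hj⟩ := cnum_dvd_nnum hCA hx1
  have h1 := nnum_le_two_mul hCA hinv hx
  have h2 := nnum_pos hCA hx1
  have h3 := cnum_pos x
  rw [hj] at h1 h2
  have hj1 : 1 ≤ j := by
    rcases Nat.eq_zero_or_pos j with h | h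
    · rw [h, mul_zero] at h2; omega
    · exact h
  have hj2 : j ≤ 2 := by
    by_contra hlt
    push Not at hlt
    have : cnum x * 3 ≤ cnum x * j := Nat.mul_le_mul_left _ hlt
    omega
  interval_cases j
  · left; rw [hj, mul_one]
  · right; rw [hj, mul_comm]

theorem three_le_cnum [Finite H] {x : H} (hx : x ^ 2 ≠ 1) : 3 ≤ cnum x := by
  have hx1 : x ≠ 1 := ne_one_of_sq_ne hx
  have h1 : orderOf x ∣ cnum x := by
    rw [cnum_eq]
    have := orderOf_dvd_natCard (⟨x, mem_Cent.mpr (Commute.refl x)⟩ : Cent x)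
    rwa [Subgroup.orderOf_mk] at this
  have h2 : orderOf x ≠ 1 := fun h => hx1 (orderOf_eq_one_iff.mp h)
  have h3 : orderOf x ≠ 2 := by
    intro h
    apply hx
    rw [← h]; exact pow_orderOf_eq_one x
  have h4 : 0 < orderOf x := orderOf_pos x
  have h5 := Nat.le_of_dvd (cnum_pos x) h1
  omega

/-- a class of elements of odd order covers at least a third of the group -/
theorem card_le_three_snum [Finite H] (hCA : IsCA H)
    (hinv : ∀ x g : H, x ^ 2 ≠ 1 → Commute (g * x * g⁻¹) x →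
      g * x * g⁻¹ = x ∨ g * x * g⁻¹ = x⁻¹)
    {x : H} (hx : x ^ 2 ≠ 1) : Nat.card H ≤ 3 * snum x := by
  have hx1 : x ≠ 1 := ne_one_of_sq_ne hx
  have h1 := class_count hCA x hx1
  have h2 := nnum_le_two_mul hCA hinv hx
  have h3 := three_le_cnum hx
  obtain ⟨c, hc⟩ : ∃ c, cnum x = c + 3 := ⟨cnum x - 3, by omega⟩
  rw [hc] at h1 h2
  have h4 : c + 3 - 1 = c + 2 := by omega
  rw [h4] at h1
  have h5 : snum x * nnum x ≤ snum x * (2 * (c + 3)) := Nat.mul_le_mul_left _ h2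
  nlinarith

end Cfsg.Agent.helper11.CA
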