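import Mathlib
import Cfsg.Agent.Lib_helper11_CA2

/-!
# CA-groups: the odd case, subgroups, Sylow facts and complements
-/

namespace Cfsg.Agent.helper11.CA

variable {H : Type*} [Group H]

/-! ### transfer to subgroups -/

theorem coe_commute {K : Subgroup H} {a b : K} : Commute (a : H) (b : H) ↔ Commute a b := by
  constructor
  · intro h; exact Subtype.ext h.eq
  · intro h
    have := congrArg Subtype.val h.eq
    exact this

theorem IsCA.subgroup (hCA : IsCA H) (K : Subgroup H) : IsCA K := by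
  intro x hx a b ha hb
  have hx' : (x : H) ≠ 1 := fun h => hx (Subtype.ext h)
  exact coe_commute.mp (hCA x hx' a b (coe_commute.mpr ha) (coe_commute.mpr hb))

theorem h2_subgroup (h2 : ∀ x : H, x ^ 2 = 1 ∨ Odd (orderOf x)) (K : Subgroup H) :
    ∀ x : K, x ^ 2 = 1 ∨ Odd (orderOf x) := by
  intro x
  rcases h2 (x : H) with h | h
  · left; exact Subtype.ext h
  · right; rwa [Subgroup.orderOf_coe] at h

theorem hinv_subgroup
    (hinv : ∀ x g : H, x ^ 2 ≠ 1 → Commute (g * x * g⁻¹) x →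
      g * x * g⁻¹ = x ∨ g * x * g⁻¹ = x⁻¹) (K : Subgroup H) :
    ∀ x g : K, x ^ 2 ≠ 1 → Commute (g * x * g⁻¹) x →
      g * x * g⁻¹ = x ∨ g * x * g⁻¹ = x⁻¹ := by
  intro x g hx hg
  have hx' : (x : H) ^ 2 ≠ 1 := fun h => hx (Subtype.ext h)
  rcases hinv (x : H) (g : H) hx' (coe_commute.mpr hg) with h | h
  · left; exact Subtype.ext h
  · right; exact Subtype.ext h

theorem hbor_subgroup
    (hbor : ∀ x g y : H, x ≠ 1 → x ^ 2 = 1 → Commute (g * x * g⁻¹) x → ¬ Commute g x →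
      Commute y g → Commute (y * x * y⁻¹) x) (K : Subgroup H) :
    ∀ x g y : K, x ≠ 1 → x ^ 2 = 1 → Commute (g * x * g⁻¹) x → ¬ Commute g x →
      Commute y g → Commute (y * x * y⁻¹) x := by
  intro x g y hx1 hx2 hg hgx hy
  have hx1' : (x : H) ≠ 1 := fun h => hx1 (Subtype.ext h)
  have hx2' : (x : H) ^ 2 = 1 := by have := congrArg Subtype.val hx2; exact this
  exact coe_commute.mp (hbor (x : H) (g : H) (y : H) hx1' hx2' (coe_commute.mpr hg)
    (fun h => hgx (coe_commute.mp h)) (coe_commute.mpr hy))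

/-! ### the odd case -/

theorem abelian_of_odd [Finite H] (hCA : IsCA H) (hodd : ∀ x : H, Odd (orderOf x))
    (hinv : ∀ x g : H, x ^ 2 ≠ 1 → Commute (g * x * g⁻¹) x →
      g * x * g⁻¹ = x ∨ g * x * g⁻¹ = x⁻¹) :
    ∀ a b : H, Commute a b := by
  by_contra hne
  push Not at hne
  obtain ⟨a, b, hab⟩ := hne
  have ha1 : a ≠ 1 := by rintro rfl; exact hab (Commute.one_left b)
  have hsq : ∀ y : H, y ≠ 1 → y ^ 2 ≠ 1 := by
    intro y hy h
    have h1 : orderOf y ∣ 2 := orderOf_dvd_of_pow_eq_one h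
    have h2 : orderOf y = 1 :=
      Nat.Coprime.eq_one_of_dvd (hodd y).coprime_two_right h1
    exact hy (orderOf_eq_one_iff.mp h2)
  have hnc : ∀ y : H, y ≠ 1 → nnum y = cnum y := by
    intro y hy
    rw [cnum_eq, nnum_eq hCA hy]
    apply le_antisymm _ (Subgroup.card_le_of_le (Cent_le_Nor hCA hy))
    apply Subgroup.card_le_of_le
    intro n hn
    rw [mem_Cent]
    rcases hinv y n (hsq y hy) hn with h | h
    · exact mul_inv_eq_iff_eq_mul.mp h
    · have e1 : n * y = y⁻¹ * n := mul_inv_eq_iff_eq_mul.mp h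
      have e2 : n * y⁻¹ = y * n := by
        have : n * y⁻¹ * n⁻¹ = y := by
          have := congrArg (fun t => t⁻¹) h
          simp only [mul_inv_rev, inv_inv] at this
          rw [← mul_assoc] at this
          exact this
        exact mul_inv_eq_iff_eq_mul.mp this
      have e3 : Commute (n ^ 2) y := by
        show n ^ 2 * y = y * n ^ 2
        rw [sq, mul_assoc, e1, ← mul_assoc, e2, mul_assoc]
      obtain ⟨j, hj⟩ := hodd n
      have e4 : n = (n ^ 2) ^ (j + 1) := by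
        rw [← pow_mul]
        have : 2 * (j + 1) = orderOf n + 1 := by omega
        rw [this, pow_succ, pow_orderOf_eq_one, one_mul]
      rw [e4]
      exact e3.pow_left _
  have hbig : ∀ y : H, y ≠ 1 → 2 * Nat.card H ≤ 3 * snum y := by
    intro y hy
    have h1 := class_count hCA y hy
    rw [hnc y hy] at h1
    have h3 := three_le_cnum (hsq y hy)
    obtain ⟨c, hc⟩ : ∃ c, cnum y = c + 3 := ⟨cnum y - 3, by omega⟩
    rw [hc] at h1
    have h4 : c + 3 - 1 = c + 2 := by omega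
    rw [h4] at h1
    nlinarith
  have hlt : snum a + 2 ≤ Nat.card H := by
    have h1 := class_count hCA a ha1
    rw [hnc a ha1] at h1
    have hdvd : cnum a ∣ Nat.card H := by
      rw [cnum_eq]; exact Subgroup.card_subgroup_dvd_card _
    have hne : cnum a ≠ Nat.card H := by
      rw [cnum_eq]
      intro h
      have := (Subgroup.card_eq_iff_eq_top (Cent a)).mp h
      have hb : b ∈ Cent a := by rw [this]; trivial
      exact hab (mem_Cent.mp hb).symm
    obtain ⟨j, hj⟩ := hdvd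
    have hc := cnum_pos a
    have hn := Nat.card_pos (α := H)
    have hj2 : 2 ≤ j := by
      rcases j with _ | _ | j
      · rw [mul_zero] at hj; omega
      · exfalso; apply hne; rw [hj]; simp
      · omega
    obtain ⟨c, hc'⟩ : ∃ c, cnum a = c + 1 := ⟨cnum a - 1, by omega⟩
    rw [hj, hc'] at h1
    rw [hj, hc']
    have h5 : c + 1 - 1 = c := by omega
    rw [h5] at h1
    have hs : snum a = j * c := by
      have : snum a * (c + 1) = (j * c) * (c + 1) := by rw [h1]; ring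
      exact Nat.eq_of_mul_eq_mul_right (by omega) this
    rw [hs]
    have : (c + 1) * j = j * c + j := by ring
    omega
  have hex : ∃ y : H, y ≠ 1 ∧ y ∉ S a := by
    by_contra hcon
    push Not at hcon
    have hsub : ({1}ᶜ : Set H) ⊆ S a := fun y hy => hcon y hy
    have := Set.ncard_le_ncard hsub (Set.toFinite _)
    rw [Set.ncard_compl, Set.ncard_singleton] at this
    unfold snum at hlt
    omega
  obtain ⟨y, hy1, hya⟩ := hex
  have hd := S_disjoint hCA ha1 hy1 hya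
  have hsub : S a ∪ S y ⊆ ({1}ᶜ : Set H) :=
    Set.union_subset (S_subset_compl_one a) (S_subset_compl_one y)
  have h6 := Set.ncard_le_ncard hsub (Set.toFinite _)
  rw [Set.ncard_union_eq hd, Set.ncard_compl, Set.ncard_singleton] at h6
  have h7 := hbig a ha1
  have h8 := hbig y hy1
  have hn := Nat.card_pos (α := H)
  unfold snum at h7 h8
  omega

/-! ### classes of odd-order elements -/

/-- the set of elements of order greater than two -/
def Oset (H : Type*) [Group H] : Set H := {z | z ^ 2 ≠ 1}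

theorem S_subset_O (h2 : ∀ x : H, x ^ 2 = 1 ∨ Odd (orderOf x)) {z z' : H}
    (hz : z ^ 2 ≠ 1) (hz' : z' ∈ S z) : z' ^ 2 ≠ 1 := by
  intro h
  obtain ⟨hz'1, g, hg⟩ := hz'
  have hy1 : g⁻¹ * z' * g ≠ 1 := conj_ne_one' hz'1 g
  have hy2 : (g⁻¹ * z' * g) ^ 2 = 1 := by
    have := conj_pow (a := g⁻¹) (b := z') (i := 2)
    rw [inv_inv] at this
    rw [this, h]; group
  exact hz (sq_eq_one_of_commute_invol h2 hy1 hy2 hg.symm)

theorem card_partition [Finite H] (h2 : ∀ x : H, x ^ 2 = 1 ∨ Odd (orderOf x)) {x : H}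
    (hx1 : x ≠ 1) (hx2 : x ^ 2 = 1) :
    Nat.card H = 1 + snum x + (Oset H).ncard := by
  have h1 : ({1}ᶜ : Set H) = S x ∪ Oset H := by
    rw [S_invol h2 hx1 hx2]
    ext z
    simp only [Set.mem_compl_iff, Set.mem_singleton_iff, Set.mem_union, Set.mem_setOf_eq, Oset]
    constructor
    · intro hz
      by_cases h : z ^ 2 = 1
      · exact Or.inl ⟨hz, h⟩
      · exact Or.inr h
    · rintro (⟨hz, _⟩ | hz)
      · exact hz
      · exact ne_one_of_sq_ne hz
  have h3 : Disjoint (S x) (Oset H) := by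
    rw [S_invol h2 hx1 hx2, Set.disjoint_left]
    intro z hz hz'
    exact hz' hz.2
  have h4 := Set.ncard_union_eq h3 (Set.toFinite _) (Set.toFinite _)
  rw [← h1, Set.ncard_compl, Set.ncard_singleton] at h4
  have := Nat.card_pos (α := H)
  unfold snum
  omega

theorem exists_of_lt [Finite H] {W : Set H} (hlt : W.ncard < (Oset H).ncard) :
    ∃ z ∈ Oset H, z ∉ W := by
  by_contra hcon
  push Not at hcon
  have h : Oset H ⊆ W := hcon
  have := Set.ncard_le_ncard h (Set.toFinite _)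
  omega

theorem one_class [Finite H] (h2 : ∀ x : H, x ^ 2 = 1 ∨ Odd (orderOf x)) {z : H}
    (hz : z ^ 2 ≠ 1) : snum z ≤ (Oset H).ncard :=
  Set.ncard_le_ncard (fun _ hz' => S_subset_O h2 hz hz') (Set.toFinite _)

theorem two_classes [Finite H] (hCA : IsCA H) (h2 : ∀ x : H, x ^ 2 = 1 ∨ Odd (orderOf x))
    {z₁ z₂ : H} (h₁ : z₁ ^ 2 ≠ 1) (h₂ : z₂ ^ 2 ≠ 1) (hn : z₂ ∉ S z₁) :
    snum z₁ + snum z₂ ≤ (Oset H).ncard := by
  have hd := S_disjoint hCA (ne_one_of_sq_ne h₁) (ne_one_of_sq_ne h₂) hn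
  have hsub : S z₁ ∪ S z₂ ⊆ Oset H := by
    rintro z (hz | hz)
    · exact S_subset_O h2 h₁ hz
    · exact S_subset_O h2 h₂ hz
  have := Set.ncard_le_ncard hsub (Set.toFinite _)
  rw [Set.ncard_union_eq hd] at this
  exact this

theorem three_classes [Finite H] (hCA : IsCA H) (h2 : ∀ x : H, x ^ 2 = 1 ∨ Odd (orderOf x))
    {z₁ z₂ z₃ : H} (h₁ : z₁ ^ 2 ≠ 1) (h₂ : z₂ ^ 2 ≠ 1) (h₃ : z₃ ^ 2 ≠ 1) (hn : z₂ ∉ S z₁)
    (hn3 : z₃ ∉ S z₁ ∪ S z₂) :
    snum z₁ + snum z₂ + snum z₃ ≤ (Oset H).ncard := by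
  have hd := S_disjoint hCA (ne_one_of_sq_ne h₁) (ne_one_of_sq_ne h₂) hn
  have hd13 := S_disjoint hCA (ne_one_of_sq_ne h₁) (ne_one_of_sq_ne h₃)
    (fun h => hn3 (Or.inl h))
  have hd23 := S_disjoint hCA (ne_one_of_sq_ne h₂) (ne_one_of_sq_ne h₃)
    (fun h => hn3 (Or.inr h))
  have hd3 : Disjoint (S z₁ ∪ S z₂) (S z₃) := Set.disjoint_union_left.mpr ⟨hd13, hd23⟩
  have hsub : S z₁ ∪ S z₂ ∪ S z₃ ⊆ Oset H := by
    rintro z ((hz | hz) | hz)
    · exact S_subset_O h2 h₁ hz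
    · exact S_subset_O h2 h₂ hz
    · exact S_subset_O h2 h₃ hz
  have := Set.ncard_le_ncard hsub (Set.toFinite _)
  rw [Set.ncard_union_eq hd3, Set.ncard_union_eq hd] at this
  exact this

/-! ### Sylow facts -/

theorem cnum_invol_eq_pow [Finite H] (h2 : ∀ x : H, x ^ 2 = 1 ∨ Odd (orderOf x)) {x : H}
    (hx1 : x ≠ 1) (hx2 : x ^ 2 = 1) : ∃ m, 1 ≤ m ∧ cnum x = 2 ^ m := by
  haveI : Fact (Nat.Prime 2) := ⟨Nat.prime_two⟩
  obtain ⟨m, hm⟩ := (isPGroup_Cent h2 hx1 hx2).exists_card_eq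
  rw [← cnum_eq] at hm
  refine ⟨m, ?_, hm⟩
  rcases Nat.eq_zero_or_pos m with h | h
  · exfalso
    rw [h, pow_zero, cnum_eq] at hm
    have hsub : Subsingleton (Cent x) := (Nat.card_eq_one_iff_unique.mp hm).1
    have := Subsingleton.elim (⟨x, mem_Cent.mpr (Commute.refl x)⟩ : Cent x) 1
    exact hx1 (congrArg Subtype.val this)
  · exact h

theorem odd_index [Finite H] (h2 : ∀ x : H, x ^ 2 = 1 ∨ Odd (orderOf x)) {x : H}
    (hx1 : x ≠ 1) (hx2 : x ^ 2 = 1) : ¬ 2 ∣ (Cent x).index := by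
  haveI : Fact (Nat.Prime 2) := ⟨Nat.prime_two⟩
  have := (sylowOf h2 hx1 hx2).not_dvd_index
  rwa [coe_sylowOf] at this

theorem sylow_count_mod [Finite H] (hCA : IsCA H) (h2 : ∀ x : H, x ^ 2 = 1 ∨ Odd (orderOf x))
    {x : H} (hx1 : x ≠ 1) (hx2 : x ^ 2 = 1) : cnum x ∣ snum x - (cnum x - 1) := by
  have hsubQ : ((Cent x : Subgroup H) : Set H) \ {1} ⊆ S x := by
    rintro y ⟨hy, hy1⟩
    rw [S_invol h2 hx1 hx2]
    exact ⟨hy1, sq_eq_one_of_commute_invol h2 hx1 hx2 (mem_Cent.mp hy)⟩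
  have hX : S x \ (((Cent x : Subgroup H) : Set H) \ {1}) = S x \ ((Cent x : Subgroup H) : Set H) := by
    ext z
    simp only [Set.mem_diff, Set.mem_singleton_iff, SetLike.mem_coe, not_and, not_not]
    constructor
    · rintro ⟨hz, h⟩
      exact ⟨hz, fun hc => hz.1 (h hc)⟩
    · rintro ⟨hz, h⟩
      exact ⟨hz, fun hc => absurd hc h⟩
  have hcard : (S x \ ((Cent x : Subgroup H) : Set H)).ncard = snum x - (cnum x - 1) := by
    rw [← hX, Set.ncard_diff hsubQ, Set.ncard_diff_singleton_of_mem (Subgroup.one_mem _), cnum_eq]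
    rfl
  rw [cnum_eq] at hcard ⊢
  refine free_dvd (Cent x) _ (S x \ ((Cent x : Subgroup H) : Set H)) hcard ?_ ?_
  · rintro a ha z ⟨hz, hzc⟩
    rw [S_invol h2 hx1 hx2] at hz ⊢
    refine ⟨⟨conj_ne_one hz.1 a, ?_⟩, ?_⟩
    · rw [conj_pow, hz.2]; group
    · intro h
      apply hzc
      have := (Cent x).mul_mem ((Cent x).mul_mem ((Cent x).inv_mem ha) h) ha
      have e : a⁻¹ * (a * z * a⁻¹) * a = z := by group
      rwa [e] at this
  · rintro a ha z ⟨hz, hzc⟩ haz
    by_contra ha1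
    apply hzc
    show z ∈ Cent x
    have hc : Commute a z := by
      show a * z = z * a
      exact mul_inv_eq_iff_eq_mul.mp haz
    rw [← cent_eq_of_mem hCA hx1 ha1 (mem_Cent.mp ha), mem_Cent]
    exact hc.symm

end Cfsg.Agent.helper11.CA
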