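import Mathlib
import Cfsg.Agent.Lib_helper11_CA3

/-!
# CA-groups: complements in the Sylow normaliser
-/

namespace Cfsg.Agent.helper11.CA

variable {H : Type*} [Group H]

theorem arith_cop (q' N' : ℕ) (h : (q' + 1) ∣ N' * q') : (q' + 1) ∣ N' := by
  have hc : Nat.Coprime (q' + 1) q' := by simp
  exact hc.dvd_of_dvd_mul_right h

theorem arith_final (N k u h : ℕ) (hu : 2 ≤ u) (hN : 2 ≤ N) (hmod : 2 * u ∣ N - 1)
    (hk : k ≤ 2 * u - 1) (hh : 0 < h)
    (heq : h * (N * (u - 1) + 1) = N * k * u) :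
    k = 2 * u - 1 ∧ N = 2 * u + 1 ∧ h = 2 * u + 1 := by
  obtain ⟨v, rfl⟩ : ∃ v, u = v + 2 := ⟨u - 2, by omega⟩
  have hN1 : 2 * (v + 2) + 1 ≤ N := by
    obtain ⟨j, hj⟩ := hmod
    rcases Nat.eq_zero_or_pos j with h0 | h0
    · rw [h0, mul_zero] at hj; omega
    · have : 2 * (v + 2) * 1 ≤ 2 * (v + 2) * j := Nat.mul_le_mul_left _ h0
      omega
  have hsub : v + 2 - 1 = v + 1 := by omega
  rw [hsub] at heq
  have hdvd : N ∣ h := by
    have h1 : h * (N * (v + 1) + 1) = N * (h * (v + 1)) + h := by ring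
    have h2 : N ∣ N * (h * (v + 1)) + h := by
      rw [← h1, heq, mul_assoc]; exact dvd_mul_right _ _
    exact (Nat.dvd_add_right (dvd_mul_right _ _)).mp h2
  obtain ⟨c, rfl⟩ := hdvd
  have hc : 0 < c := by
    rcases Nat.eq_zero_or_pos c with h0 | h0
    · rw [h0, mul_zero] at hh; omega
    · exact h0
  have hNpos : 0 < N := by omega
  have heq2 : c * (N * (v + 1) + 1) = k * (v + 2) := by
    have : N * (c * (N * (v + 1) + 1)) = N * (k * (v + 2)) := by
      calc N * (c * (N * (v + 1) + 1)) = N * c * (N * (v + 1) + 1) := by ring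
        _ = N * k * (v + 2) := heq
        _ = N * (k * (v + 2)) := by ring
    exact Nat.eq_of_mul_eq_mul_left hNpos this
  have hk' : k ≤ 2 * v + 3 := by omega
  have hD : 2 * v * v + 7 * v + 6 ≤ N * (v + 1) + 1 := by
    have := Nat.mul_le_mul_right (v + 1) hN1
    nlinarith
  have hK : k * (v + 2) ≤ 2 * v * v + 7 * v + 6 := by
    have := Nat.mul_le_mul_right (v + 2) hk'
    nlinarith
  have hc1 : c = 1 := by
    by_contra hne
    have hc2 : 2 ≤ c := by omega
    have := Nat.mul_le_mul_right (N * (v + 1) + 1) hc2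
    omega
  subst hc1
  rw [one_mul] at heq2
  have e1 : k * (v + 2) = (2 * v + 3) * (v + 2) := by nlinarith
  have e2 : N * (v + 1) = (2 * v + 5) * (v + 1) := by nlinarith
  have hk3 : k = 2 * v + 3 := Nat.eq_of_mul_eq_mul_right (by omega) e1
  have hN3 : N = 2 * v + 5 := Nat.eq_of_mul_eq_mul_right (by omega) e2
  refine ⟨by omega, by omega, by omega⟩

theorem exists_complement [Finite H] (hCA : IsCA H)
    (h2 : ∀ x : H, x ^ 2 = 1 ∨ Odd (orderOf x))
    (hinv : ∀ x g : H, x ^ 2 ≠ 1 → Commute (g * x * g⁻¹) x →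
      g * x * g⁻¹ = x ∨ g * x * g⁻¹ = x⁻¹)
    (hbor : ∀ x g y : H, x ≠ 1 → x ^ 2 = 1 → Commute (g * x * g⁻¹) x → ¬ Commute g x →
      Commute y g → Commute (y * x * y⁻¹) x)
    {x : H} (hx1 : x ≠ 1) (hx2 : x ^ 2 = 1) (hk : cnum x < nnum x) :
    ∃ g : H, Commute (g * x * g⁻¹) x ∧ g ^ 2 ≠ 1 ∧ cnum g * cnum x = nnum x ∧
      cnum g ∣ cnum x - 1 := by
  classical
  haveI : Fact (Nat.Prime 2) := ⟨Nat.prime_two⟩
  obtain ⟨m, hm1, hm⟩ := cnum_invol_eq_pow h2 hx1 hx2
  obtain ⟨Nx, hNx⟩ : ∃ Nx : Subgroup H, Nx = Nor hCA hx1 := ⟨_, rfl⟩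
  have hmemN : ∀ n : H, n ∈ Nx ↔ Commute (n * x * n⁻¹) x := by
    intro n; rw [hNx]; exact Iff.rfl
  have hQN : Cent x ≤ Nx := by rw [hNx]; exact Cent_le_Nor hCA hx1
  have hcardN : Nat.card Nx = nnum x := by rw [hNx]; exact (nnum_eq hCA hx1).symm
  haveI hnormal : ((Cent x).subgroupOf Nx).Normal := by
    refine ⟨fun a ha b => ?_⟩
    rw [Subgroup.mem_subgroupOf] at ha ⊢
    show (b : H) * (a : H) * (b : H)⁻¹ ∈ Cent x
    rw [mem_Cent]
    exact norm_conj hCA hx1 ((hmemN b).mp b.2) (mem_Cent.mp ha)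
  have hcardQ' : Nat.card ((Cent x).subgroupOf Nx) = cnum x := by
    rw [cnum_eq]
    exact Nat.card_congr (Subgroup.subgroupOfEquivOfLe hQN).toEquiv
  have hidx := Subgroup.card_mul_index ((Cent x).subgroupOf Nx)
  rw [hcardQ', hcardN] at hidx
  have hkodd : ¬ 2 ∣ ((Cent x).subgroupOf Nx).index := by
    intro h
    have h1 := Subgroup.relIndex_mul_index hQN
    apply odd_index h2 hx1 hx2
    rw [← h1]
    exact Dvd.dvd.mul_right h _
  have hcop : Nat.Coprime (Nat.card ((Cent x).subgroupOf Nx)) ((Cent x).subgroupOf Nx).index := by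
    rw [hcardQ', hm]
    exact Nat.Coprime.pow_left m ((Nat.Prime.coprime_iff_not_dvd Nat.prime_two).mpr hkodd)
  obtain ⟨K₁, hK₁⟩ := Subgroup.exists_right_complement'_of_coprime hcop
  have hcardK₁ := hK₁.card_mul_card
  rw [hcardQ', hcardN] at hcardK₁
  have hdisj := hK₁.disjoint
  obtain ⟨K', hK'⟩ : ∃ K' : Subgroup H, K' = K₁.map Nx.subtype := ⟨_, rfl⟩
  have hK'card : Nat.card K' = Nat.card K₁ := by
    rw [hK']; exact Subgroup.card_map_of_injective (Subgroup.subtype_injective _)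
  have hK'N : K' ≤ Nx := by rw [hK']; exact Subgroup.map_subtype_le _
  have hK'Q : ∀ a ∈ K', a ∈ Cent x → a = 1 := by
    intro a ha haQ
    rw [hK'] at ha
    obtain ⟨a₁, ha₁, rfl⟩ := Subgroup.mem_map.mp ha
    have : a₁ = 1 := Subgroup.disjoint_def.mp hdisj (Subgroup.mem_subgroupOf.mpr haQ) ha₁
    rw [this]; rfl
  have hcpos := cnum_pos x
  have hk'eq : Nat.card K' = ((Cent x).subgroupOf Nx).index := by
    rw [hK'card]
    have : cnum x * Nat.card K₁ = cnum x * ((Cent x).subgroupOf Nx).index := by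
      rw [hcardK₁, hidx]
    exact Nat.eq_of_mul_eq_mul_left hcpos this
  have hk'odd : Odd (Nat.card K') := by
    rw [hk'eq, Nat.odd_iff]
    exact Nat.two_dvd_ne_zero.mp hkodd
  have hk'gt : 1 < Nat.card K' := by
    rw [hK'card]
    by_contra hle
    push Not at hle
    have : cnum x * Nat.card K₁ ≤ cnum x * 1 := Nat.mul_le_mul_left _ hle
    omega
  -- K' is abelian
  have hoddK' : ∀ y : K', Odd (orderOf y) := fun y =>
    Odd.of_dvd_nat hk'odd (orderOf_dvd_natCard y)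
  have habK' := abelian_of_odd (hCA.subgroup K') hoddK' (hinv_subgroup hinv K')
  haveI : Nontrivial K' := Finite.one_lt_card_iff_nontrivial.mp hk'gt
  obtain ⟨g', hg'⟩ := exists_ne (1 : K')
  have hg1 : (g' : H) ≠ 1 := fun h => hg' (Subtype.ext h)
  have hgN : (g' : H) ∈ Nx := hK'N g'.2
  have hgQ : ¬ Commute (g' : H) x := by
    intro h
    exact hg1 (hK'Q _ g'.2 (mem_Cent.mpr h))
  have hg2 : (g' : H) ^ 2 ≠ 1 := by
    intro h
    have h1 : orderOf (g' : H) ∣ 2 := orderOf_dvd_of_pow_eq_one h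
    have h3 : Odd (orderOf (g' : H)) := by rw [Subgroup.orderOf_coe]; exact hoddK' g'
    have h4 : orderOf (g' : H) = 1 := Nat.Coprime.eq_one_of_dvd h3.coprime_two_right h1
    exact hg1 (orderOf_eq_one_iff.mp h4)
  have hKC : K' ≤ Cent (g' : H) := by
    intro a ha
    rw [mem_Cent]
    exact coe_commute.mpr (habK' ⟨a, ha⟩ g')
  have hCN : Cent (g' : H) ≤ Nx := by
    intro y hy
    rw [hmemN]
    exact hbor x g' y hx1 hx2 ((hmemN _).mp hgN) hgQ (mem_Cent.mp hy)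
  have hCQ : Disjoint (Cent (g' : H)) (Cent x) := by
    rw [Subgroup.disjoint_def]
    intro y hyg hyx
    by_contra hy1
    exact hgQ (hCA y hy1 g' x (mem_Cent.mp hyg).symm (mem_Cent.mp hyx).symm)
  have hle1 : Nat.card K' ≤ cnum (g' : H) := by
    rw [cnum_eq]; exact Subgroup.card_le_of_le hKC
  have hle2 : cnum (g' : H) * cnum x ≤ nnum x := by
    rw [cnum_eq, cnum_eq, ← hcardN, ← Nat.card_prod]
    obtain ⟨f, hf⟩ : ∃ f : Cent (g' : H) × Cent x → Nx,
        ∀ p, ((f p : Nx) : H) = (p.1 : H) * (p.2 : H) :=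
      ⟨fun p => ⟨(p.1 : H) * (p.2 : H), Nx.mul_mem (hCN p.1.2) (hQN p.2.2)⟩, fun _ => rfl⟩
    apply Nat.card_le_card_of_injective f
    intro p₁ p₂ h
    apply Subgroup.mul_injective_of_disjoint hCQ
    show (p₁.1 : H) * (p₁.2 : H) = (p₂.1 : H) * (p₂.2 : H)
    rw [← hf, ← hf, h]
  have hceq : cnum (g' : H) = Nat.card K' := by
    apply le_antisymm _ hle1
    rw [hK'card]
    have h1 : cnum (g' : H) * cnum x ≤ cnum x * Nat.card K₁ := by rw [hcardK₁]; exact hle2
    rw [mul_comm] at h1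
    exact Nat.le_of_mul_le_mul_left h1 hcpos
  refine ⟨g', (hmemN _).mp hgN, hg2, ?_, ?_⟩
  · rw [hceq, hK'card, mul_comm]; exact hcardK₁
  · rw [hceq]
    have hcard : (((Cent x : Subgroup H) : Set H) \ {1}).ncard = cnum x - 1 := by
      rw [Set.ncard_diff_singleton_of_mem (Subgroup.one_mem _), cnum_eq]
      rfl
    refine free_dvd K' _ _ hcard ?_ ?_
    · rintro a ha z ⟨hz, hz1⟩
      refine ⟨?_, conj_ne_one hz1 a⟩
      show a * z * a⁻¹ ∈ Cent x
      rw [mem_Cent]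
      exact norm_conj hCA hx1 ((hmemN a).mp (hK'N ha)) (mem_Cent.mp hz)
    · rintro a ha z ⟨hz, hz1⟩ haz
      apply hK'Q a ha
      have hc : Commute a z := by
        show a * z = z * a
        exact mul_inv_eq_iff_eq_mul.mp haz
      rw [← cent_eq_of_mem hCA hx1 hz1 (mem_Cent.mp hz), mem_Cent]
      exact hc

end Cfsg.Agent.helper11.CA
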