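import Mathlib
import Cfsg.Agent.Lib_helper11_CA4

/-!
# CA-groups of even order: the main counting theorem
-/

namespace Cfsg.Agent.helper11.CA

variable {H : Type*} [Group H]

theorem pow_cnum_eq_one [Finite H] {g y : H} (hy : Commute y g) : y ^ cnum g = 1 := by
  rw [cnum_eq]
  have := pow_card_eq_one' (G := Cent g) (x := ⟨y, mem_Cent.mpr hy⟩)
  exact congrArg Subtype.val this

theorem exists_inverting [Finite H] (hCA : IsCA H)
    (hinv : ∀ x g : H, x ^ 2 ≠ 1 → Commute (g * x * g⁻¹) x →
      g * x * g⁻¹ = x ∨ g * x * g⁻¹ = x⁻¹)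
    {g : H} (hg : g ^ 2 ≠ 1) (hn : nnum g = 2 * cnum g) : ∃ w : H, w * g * w⁻¹ = g⁻¹ := by
  have hg1 := ne_one_of_sq_ne hg
  by_contra hcon
  push Not at hcon
  have hle : Nor hCA hg1 ≤ Cent g := by
    intro w hw
    rw [mem_Cent]
    rcases hinv g w hg hw with h | h
    · exact mul_inv_eq_iff_eq_mul.mp h
    · exact absurd h (hcon w)
  have := Subgroup.card_le_of_le hle
  rw [← nnum_eq hCA hg1, ← cnum_eq] at this
  have := cnum_pos g
  omega

theorem ar1 (A B C h s : ℕ) (hs : s ≤ A + C) (hCB : C < B)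
    (he : s * (h + 3) = 2 * (A + B) * (h + 2)) : False := by
  have h1 : s * (h + 3) ≤ (A + C) * (h + 3) := Nat.mul_le_mul_right _ hs
  have h2 : C * h ≤ B * h := Nat.mul_le_mul_right _ hCB.le
  have e1 : (A + C) * (h + 3) = A * h + 3 * A + C * h + 3 * C := by ring
  have e2 : 2 * (A + B) * (h + 2) = 2 * (A * h) + 4 * A + 2 * (B * h) + 4 * B := by ring
  rw [he, e1, e2] at h1
  omega

set_option maxHeartbeats 1600000 in
theorem main_even [Finite H] (hCA : IsCA H)
    (h2 : ∀ x : H, x ^ 2 = 1 ∨ Odd (orderOf x))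
    (hinv : ∀ x g : H, x ^ 2 ≠ 1 → Commute (g * x * g⁻¹) x →
      g * x * g⁻¹ = x ∨ g * x * g⁻¹ = x⁻¹)
    (hbor : ∀ x g y : H, x ≠ 1 → x ^ 2 = 1 → Commute (g * x * g⁻¹) x → ¬ Commute g x →
      Commute y g → Commute (y * x * y⁻¹) x)
    (x : H) (hx1 : x ≠ 1) (hx2 : x ^ 2 = 1) :
    (∀ g : H, Commute (g * x * g⁻¹) x) ∨
    (∃ z : H, z ^ 2 ≠ 1 ∧ 2 * cnum z = Nat.card H) ∨
    (∃ (m : ℕ) (g w : H), 2 ≤ m ∧ cnum x = 2 ^ m ∧ nnum x = 2 ^ m * (2 ^ m - 1) ∧
      Nat.card H = 2 ^ m * (2 ^ m - 1) * (2 ^ m + 1) ∧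
      Commute (g * x * g⁻¹) x ∧ g ^ 2 ≠ 1 ∧ cnum g = 2 ^ m - 1 ∧
      w * g * w⁻¹ = g⁻¹ ∧
      ∀ z : H, z ^ 2 = 1 ∨ z ^ (2 ^ m - 1) = 1 ∨ z ^ (2 ^ m + 1) = 1) := by
  classical
  obtain ⟨m, hm1, hq⟩ := cnum_invol_eq_pow h2 hx1 hx2
  have hcc := class_count hCA x hx1
  have hpart := card_partition h2 hx1 hx2
  obtain ⟨N, hN⟩ := nnum_dvd_card hCA hx1
  obtain ⟨k, hk⟩ := cnum_dvd_nnum hCA hx1
  have hmod := sylow_count_mod hCA h2 hx1 hx2
  have hνpos := nnum_pos hCA hx1
  have hnpos := Nat.card_pos (α := H)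
  have hqpos := cnum_pos x
  obtain ⟨q', hq'⟩ : ∃ q', cnum x = q' + 1 := ⟨cnum x - 1, by omega⟩
  have hq'1 : 1 ≤ q' := by
    have : 2 ^ 1 ≤ 2 ^ m := Nat.pow_le_pow_right (by norm_num) hm1
    omega
  have hkpos : 0 < k := by
    rcases Nat.eq_zero_or_pos k with h | h
    · rw [h, mul_zero] at hk; omega
    · exact h
  have hNpos : 0 < N := by
    rcases Nat.eq_zero_or_pos N with h | h
    · rw [h, mul_zero] at hN; omega
    · exact h
  -- basic equations
  have hn : Nat.card H = (q' + 1) * k * N := by rw [hN, hk, hq']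
  have hsI : snum x = N * q' := by
    rw [hk, hq', hn] at hcc
    have h1 : q' + 1 - 1 = q' := by omega
    rw [h1] at hcc
    have : snum x * ((q' + 1) * k) = (N * q') * ((q' + 1) * k) := by rw [hcc]; ring
    exact Nat.eq_of_mul_eq_mul_right (by positivity) this
  by_cases hN1 : N = 1
  · left
    intro g
    have h1 : Nat.card (Nor hCA hx1) = Nat.card H := by
      rw [← nnum_eq hCA hx1, hN, hN1, mul_one]
    have h3 := (Subgroup.card_eq_iff_eq_top (Nor hCA hx1)).mp h1
    have : g ∈ Nor hCA hx1 := by rw [h3]; trivial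
    exact this
  right
  obtain ⟨N', hN'⟩ : ∃ N', N = N' + 2 := ⟨N - 2, by omega⟩
  have hmodN : (q' + 1) ∣ N' + 1 := by
    rw [hq', hsI, hN'] at hmod
    have h1 : q' + 1 - 1 = q' := by omega
    rw [h1] at hmod
    have h3 : (N' + 2) * q' - q' = (N' + 1) * q' := by
      have : (N' + 2) * q' = (N' + 1) * q' + q' := by ring
      omega
    rw [h3] at hmod
    exact arith_cop q' (N' + 1) hmod
  have ho : (Oset H).ncard = (q' + 1) * k * N - 1 - N * q' := by
    rw [hn, hsI] at hpart; omega
  by_cases hk1 : k = 1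
  · -- no complement: dihedral case
    left
    have ho' : (Oset H).ncard = N' + 1 := by
      rw [ho, hk1, hN']
      have : (q' + 1) * 1 * (N' + 2) = (N' + 2) * q' + (N' + 2) := by ring
      omega
    have hn' : Nat.card H = (q' + 1) * (N' + 2) := by rw [hn, hk1, hN']; ring
    obtain ⟨z, hzO, -⟩ := exists_of_lt (H := H) (W := ∅) (by rw [Set.ncard_empty, ho']; omega)
    have hz : z ^ 2 ≠ 1 := hzO
    have h3 := card_le_three_snum hCA hinv hz
    have h4 := one_class h2 hz
    rw [ho'] at h4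
    rw [hn'] at h3
    have hq1 : q' = 1 := by
      by_contra hne
      have : 2 ≤ q' := by omega
      have : 3 * (N' + 2) ≤ (q' + 1) * (N' + 2) := Nat.mul_le_mul_right _ (by omega)
      omega
    rw [hq1] at hn'
    have hz1 := ne_one_of_sq_ne hz
    have hcz := class_count hCA z hz1
    have h3c := three_le_cnum hz
    obtain ⟨h', hh'⟩ : ∃ h', cnum z = h' + 3 := ⟨cnum z - 3, by omega⟩
    have h5 : h' + 3 - 1 = h' + 2 := by omega
    rw [hh', h5, hn'] at hcz
    refine ⟨z, hz, ?_⟩
    rcases nnum_cases hCA hinv hz with hnz | hnz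
    · exfalso
      rw [hnz, hh'] at hcz
      have : snum z * (h' + 3) ≤ (N' + 1) * (h' + 3) := Nat.mul_le_mul_right _ h4
      nlinarith
    · rw [hnz, hh'] at hcz
      have hcz' : snum z * (h' + 3) = (N' + 2) * (h' + 2) := by
        have : 2 * (snum z * (h' + 3)) = 2 * ((N' + 2) * (h' + 2)) := by
          rw [← mul_assoc, ← mul_assoc]
          calc 2 * snum z * (h' + 3) = snum z * (2 * (h' + 3)) := by ring
            _ = (1 + 1) * (N' + 2) * (h' + 2) := hcz
            _ = 2 * (N' + 2) * (h' + 2) := by norm_num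
        exact Nat.eq_of_mul_eq_mul_left (by norm_num) this
      have hsz : snum z = N' + 1 := by
        by_contra hne
        have hlt : snum z < (Oset H).ncard := by rw [ho']; omega
        obtain ⟨z', hz'O, hz'S⟩ := exists_of_lt (H := H) (W := S z) hlt
        have hz' : z' ^ 2 ≠ 1 := hz'O
        have h6 := two_classes hCA h2 hz hz' hz'S
        have h7 := card_le_three_snum hCA hinv hz'
        have h8 := card_le_three_snum hCA hinv hz
        rw [ho'] at h6
        rw [hn'] at h7 h8
        omega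
      rw [hsz] at hcz'
      rw [hh', hn']
      have e : (N' + 1) * (h' + 3) = N' * h' + 3 * N' + h' + 3 := by ring
      have e' : (N' + 2) * (h' + 2) = N' * h' + 2 * N' + 2 * h' + 4 := by ring
      rw [e, e'] at hcz'
      omega
  · -- the complement is non-trivial
    right
    have hk2 : 2 ≤ k := by omega
    have hlt : cnum x < nnum x := by
      rw [hk]
      have : cnum x * 2 ≤ cnum x * k := Nat.mul_le_mul_left _ hk2
      omega
    obtain ⟨g, hgN, hg2, hgc, hgd⟩ := exists_complement hCA h2 hinv hbor hx1 hx2 hlt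
    have hgk : cnum g = k := by
      rw [hk, mul_comm] at hgc
      exact Nat.eq_of_mul_eq_mul_left hqpos hgc
    rw [hgk, hq'] at hgd
    have h1 : q' + 1 - 1 = q' := by omega
    rw [h1] at hgd
    have hkq : k ≤ q' := Nat.le_of_dvd (by omega) hgd
    -- m ≥ 2
    have hm2 : 2 ≤ m := by
      by_contra hlt2
      have hm : m = 1 := by omega
      rw [hm, pow_one] at hq
      omega
    obtain ⟨u, hu⟩ : ∃ u, 2 ^ m = 2 * u := by
      refine ⟨2 ^ (m - 1), ?_⟩
      rw [← pow_succ']
      congr 1; omega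
    have hu2 : 2 ≤ u := by
      have : 2 ^ 2 ≤ 2 ^ m := Nat.pow_le_pow_right (by norm_num) hm2
      omega
    have hqu : q' + 1 = 2 * u := by rw [← hq', hq, hu]
    obtain ⟨k₁, hk₁⟩ : ∃ k₁, k = k₁ + 1 := ⟨k - 1, by omega⟩
    have hk₁1 : 1 ≤ k₁ := by omega
    -- rewrite the basic quantities
    have hn2 : Nat.card H = 2 * u * (k₁ + 1) * (N' + 2) := by rw [hn, hqu, hk₁, hN']
    have ho2 : (Oset H).ncard = 2 * u * k₁ * (N' + 2) + (N' + 1) := by
      rw [ho, hqu, hk₁, hN']
      have hq'u : q' = 2 * u - 1 := by omega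
      have e1 : (N' + 2) * q' + (N' + 2) = (N' + 2) * (2 * u) := by
        rw [← hqu]; ring
      have e2 : 2 * u * (k₁ + 1) * (N' + 2) = 2 * u * k₁ * (N' + 2) + (N' + 2) * (2 * u) := by ring
      omega
    have hg1 := ne_one_of_sq_ne hg2
    have hcg := class_count hCA g hg1
    have hk₁s : k₁ + 1 - 1 = k₁ := by omega
    rw [hgk, hk₁, hk₁s, hn2] at hcg
    rcases nnum_cases hCA hinv hg2 with hng | hng
    · exfalso
      rw [hng, hgk, hk₁] at hcg
      have hsg : snum g = 2 * u * k₁ * (N' + 2) := by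
        have : snum g * (k₁ + 1) = (2 * u * k₁ * (N' + 2)) * (k₁ + 1) := by rw [hcg]; ring
        exact Nat.eq_of_mul_eq_mul_right (by omega) this
      have hlt' : snum g < (Oset H).ncard := by rw [ho2, hsg]; omega
      obtain ⟨z, hzO, hzS⟩ := exists_of_lt (H := H) (W := S g) hlt'
      have hz : z ^ 2 ≠ 1 := hzO
      have h6 := two_classes hCA h2 hg2 hz hzS
      have h7 := card_le_three_snum hCA hinv hz
      rw [ho2, hsg] at h6
      rw [hn2] at h7
      have h8 : 8 * (N' + 2) ≤ 2 * u * (k₁ + 1) * (N' + 2) := by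
        apply Nat.mul_le_mul_right
        have h81 : 2 * 2 ≤ 2 * u := Nat.mul_le_mul_left 2 hu2
        have h82 : (2 * 2) * 2 ≤ 2 * u * (k₁ + 1) := Nat.mul_le_mul h81 (by omega)
        omega
      omega
    · rw [hng, hgk, hk₁] at hcg
      have hsg : snum g = u * k₁ * (N' + 2) := by
        have : snum g * (2 * (k₁ + 1)) = (u * k₁ * (N' + 2)) * (2 * (k₁ + 1)) := by
          rw [hcg]; ring
        exact Nat.eq_of_mul_eq_mul_right (by omega) this
      have hlt' : snum g < (Oset H).ncard := by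
        rw [ho2, hsg]
        have : 2 * u * k₁ * (N' + 2) = u * k₁ * (N' + 2) + u * k₁ * (N' + 2) := by ring
        omega
      obtain ⟨z, hzO, hzS⟩ := exists_of_lt (H := H) (W := S g) hlt'
      have hz : z ^ 2 ≠ 1 := hzO
      have hz1 := ne_one_of_sq_ne hz
      have h6 := two_classes hCA h2 hg2 hz hzS
      have h7 := card_le_three_snum hCA hinv hz
      have hR : snum z ≤ u * k₁ * (N' + 2) + (N' + 1) := by
        rw [ho2, hsg] at h6
        have : 2 * u * k₁ * (N' + 2) = u * k₁ * (N' + 2) + u * k₁ * (N' + 2) := by ring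
        omega
      have hcz := class_count hCA z hz1
      have h3c := three_le_cnum hz
      obtain ⟨h', hh'⟩ : ∃ h', cnum z = h' + 3 := ⟨cnum z - 3, by omega⟩
      have h5 : h' + 3 - 1 = h' + 2 := by omega
      rw [hh', h5, hn2] at hcz
      have hukN : 2 * (N' + 2) ≤ u * k₁ * (N' + 2) := by
        apply Nat.mul_le_mul_right
        have := Nat.mul_le_mul hu2 hk₁1
        omega
      have e3' : 2 * (N' + 2) ≤ u * (N' + 2) := Nat.mul_le_mul_right _ hu2
      rcases nnum_cases hCA hinv hz with hnz | hnz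
      · exfalso
        rw [hnz, hh'] at hcz
        exact ar1 (u * k₁ * (N' + 2)) (u * (N' + 2)) (N' + 1) h' (snum z) hR (by omega)
          (by rw [hcz]; ring)
      · rw [hnz, hh'] at hcz
        have hcz' : snum z * (h' + 3) = u * (k₁ + 1) * (N' + 2) * (h' + 2) := by
          have : 2 * (snum z * (h' + 3)) = 2 * (u * (k₁ + 1) * (N' + 2) * (h' + 2)) := by
            calc 2 * (snum z * (h' + 3)) = snum z * (2 * (h' + 3)) := by ring
              _ = 2 * u * (k₁ + 1) * (N' + 2) * (h' + 2) := hcz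
              _ = 2 * (u * (k₁ + 1) * (N' + 2) * (h' + 2)) := by ring
          exact Nat.eq_of_mul_eq_mul_left (by norm_num) this
        have hsz : snum z = u * k₁ * (N' + 2) + (N' + 1) := by
          by_contra hne
          have hlt3 : (S g ∪ S z).ncard < (Oset H).ncard := by
            have hd := S_disjoint hCA hg1 hz1 hzS
            rw [Set.ncard_union_eq hd]
            show snum g + snum z < _
            rw [ho2, hsg]
            have : 2 * u * k₁ * (N' + 2) = u * k₁ * (N' + 2) + u * k₁ * (N' + 2) := by ring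
            omega
          obtain ⟨z', hz'O, hz'S⟩ := exists_of_lt (H := H) (W := S g ∪ S z) hlt3
          have hz' : z' ^ 2 ≠ 1 := hz'O
          have h8 := three_classes hCA h2 hg2 hz hz' hzS hz'S
          have h9 := card_le_three_snum hCA hinv hz'
          rw [ho2, hsg] at h8
          rw [hn2] at h7 h9
          have e1 : 2 * u * k₁ * (N' + 2) = u * k₁ * (N' + 2) + u * k₁ * (N' + 2) := by ring
          have e2 : 2 * u * (k₁ + 1) * (N' + 2) =
              2 * (u * k₁ * (N' + 2)) + 2 * (u * (N' + 2)) := by ring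
          have e3 : 2 * (N' + 2) ≤ u * (N' + 2) := Nat.mul_le_mul_right _ hu2
          omega
        -- the final equation
        rw [hsz] at hcz'
        have hfin : (h' + 3) * ((N' + 2) * (u - 1) + 1) = (N' + 2) * (k₁ + 1) * u := by
          obtain ⟨u', hu'⟩ : ∃ u', u = u' + 1 := ⟨u - 1, by omega⟩
          rw [hu'] at hcz' ⊢
          have : u' + 1 - 1 = u' := by omega
          rw [this]
          linarith
        have hmod2 : 2 * u ∣ (N' + 2) - 1 := by
          rw [← hqu]
          have : N' + 2 - 1 = N' + 1 := by omega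
          rw [this]; exact hmodN
        have hkle : k₁ + 1 ≤ 2 * u - 1 := by omega
        obtain ⟨e1, e2, e3⟩ := arith_final (N' + 2) (k₁ + 1) u (h' + 3) hu2 (by omega) hmod2 hkle
          (by omega) hfin
        obtain ⟨w, hw⟩ := exists_inverting hCA hinv hg2 hng
        refine ⟨m, g, w, hm2, hq, ?_, ?_, hgN, hg2, ?_, hw, ?_⟩
        · rw [hk, hq, hu, hk₁, e1]
        · rw [hn2, hu, e1, e2]
        · rw [hgk, hk₁, e1, hu]
        · intro z''
          by_cases hz'' : z'' ^ 2 = 1
          · exact Or.inl hz''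
          · right
            have hsub : S g ∪ S z ⊆ Oset H := by
              rintro y (hy | hy)
              · exact S_subset_O h2 hg2 hy
              · exact S_subset_O h2 hz hy
            have hd := S_disjoint hCA hg1 hz1 hzS
            have hcard : (Oset H).ncard ≤ (S g ∪ S z).ncard := by
              rw [Set.ncard_union_eq hd]
              show _ ≤ snum g + snum z
              rw [ho2, hsg, hsz]
              have : 2 * u * k₁ * (N' + 2) = u * k₁ * (N' + 2) + u * k₁ * (N' + 2) := by ring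
              omega
            have heqO := Set.eq_of_subset_of_ncard_le hsub hcard (Set.toFinite _)
            have hzin : z'' ∈ S g ∪ S z := by rw [heqO]; exact hz''
            rcases hzin with hy | hy
            · left
              have := pow_eq_one_of_mem_S hy (cnum g) (fun y hy => pow_cnum_eq_one hy)
              rwa [hgk, hk₁, e1, ← hu] at this
            · right
              have := pow_eq_one_of_mem_S hy (cnum z) (fun y hy => pow_cnum_eq_one hy)
              rwa [hh', e3, ← hu] at this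

end Cfsg.Agent.helper11.CA
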