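import Mathlib
import Cfsg.Agent.Lib_helper11_SL2U

set_option autoImplicit false

/-!
# `SL₂(F)` and `PSL₂(F)` in characteristic two

* `center_eq_bot`, `mk_injective`, `slEquiv` : the centre of `SL₂(F)` is trivial, so `SL₂ ≃* PSL₂`.
* `sq_eq_one_of_pow_four` : no elements of order four.
* `exists_cube_root` : an element of order three normalising a four-group forces a primitive
  cube root of unity in `F`.
-/

namespace Cfsg.Agent.helper11.PSL2Char2

open Matrix Cfsg.Agent.helper11.SL2U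

variable {F : Type*} [Field F]

theorem center_eq_bot (h2 : (2 : F) = 0) :
    Subgroup.center (SpecialLinearGroup (Fin 2) F) = ⊥ := by
  rw [Subgroup.eq_bot_iff_forall]
  intro X hX
  obtain ⟨r, hr2, hr⟩ := Matrix.SpecialLinearGroup.mem_center_iff.mp hX
  simp only [Fintype.card_fin] at hr2
  have hr1 : r = 1 := by
    have h : (r - 1) ^ 2 = 0 := by linear_combination hr2 + (1 - r) * h2
    exact sub_eq_zero.mp ((pow_eq_zero_iff (two_ne_zero)).mp h)
  apply Subtype.ext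
  rw [← hr, hr1, map_one, Matrix.SpecialLinearGroup.coe_one]

theorem mk_injective (h2 : (2 : F) = 0) :
    Function.Injective (QuotientGroup.mk :
      SpecialLinearGroup (Fin 2) F → Matrix.ProjectiveSpecialLinearGroup (Fin 2) F) := by
  intro X Y h
  have h1 := QuotientGroup.eq.mp h
  rw [center_eq_bot h2, Subgroup.mem_bot] at h1
  exact inv_mul_eq_one.mp h1

/-- in characteristic two, `SL₂(F) ≃* PSL₂(F)` -/
noncomputable def slEquiv (h2 : (2 : F) = 0) :
    SpecialLinearGroup (Fin 2) F ≃* Matrix.ProjectiveSpecialLinearGroup (Fin 2) F :=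
  MulEquiv.ofBijective (QuotientGroup.mk' (Subgroup.center (SpecialLinearGroup (Fin 2) F)))
    ⟨mk_injective h2, QuotientGroup.mk'_surjective _⟩

theorem ch2 (M : Matrix (Fin 2) (Fin 2) F) : M * M = (M 0 0 + M 1 1) • M - M.det • 1 := by
  ext i j
  fin_cases i <;> fin_cases j <;>
    simp [Matrix.mul_apply, Fin.sum_univ_two, Matrix.det_fin_two] <;> ring

theorem pow4 (M : Matrix (Fin 2) (Fin 2) F) (t : F) (h : M * M = t • M - 1) :
    M ^ 4 = (t ^ 3 - 2 * t) • M - (t ^ 2 - 1) • 1 := by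
  have h2 : M ^ 2 = t • M - 1 := by rw [sq, h]
  have h3 : M ^ 3 = (t ^ 2 - 1) • M - t • 1 := by
    rw [pow_succ, h2, sub_mul, smul_mul_assoc, one_mul, h]; module
  rw [pow_succ, h3, sub_mul, smul_mul_assoc, smul_mul_assoc, one_mul, h]; module

theorem neg_one_eq_one (h2 : (2 : F) = 0) : (-1 : Matrix (Fin 2) (Fin 2) F) = 1 := by
  rw [neg_eq_iff_add_eq_zero, ← two_smul F (1 : Matrix (Fin 2) (Fin 2) F), h2, zero_smul]

/-- in characteristic two, `SL₂(F)` has no element of order four -/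
theorem sq_eq_one_of_pow_four (h2 : (2 : F) = 0) (X : SpecialLinearGroup (Fin 2) F)
    (h4 : X ^ 4 = 1) : X ^ 2 = 1 := by
  obtain ⟨t, ht⟩ : ∃ t : F, t = X.1 0 0 + X.1 1 1 := ⟨_, rfl⟩
  have hsq : (X : Matrix (Fin 2) (Fin 2) F) * (X : Matrix (Fin 2) (Fin 2) F)
      = t • (X : Matrix (Fin 2) (Fin 2) F) - 1 := by
    rw [ch2, X.2, one_smul, ht]
  have h4' : (X : Matrix (Fin 2) (Fin 2) F) ^ 4 = 1 := by
    have h1 := congrArg Subtype.val h4
    rwa [Matrix.SpecialLinearGroup.coe_pow, Matrix.SpecialLinearGroup.coe_one] at h1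
  have h := pow4 X.1 t hsq
  rw [h4'] at h
  apply sl_ext
  rw [Matrix.SpecialLinearGroup.coe_pow, Matrix.SpecialLinearGroup.coe_one, sq]
  by_cases ht0 : t = 0
  · rw [hsq, ht0, zero_smul, zero_sub, neg_one_eq_one h2]
  · obtain ⟨a, haa⟩ : ∃ a : F, a = t ^ 3 - 2 * t := ⟨_, rfl⟩
    obtain ⟨b, hbb⟩ : ∃ b : F, b = t ^ 2 - 1 := ⟨_, rfl⟩
    have ha : a ≠ 0 := by
      rw [haa, h2, zero_mul, sub_zero]
      exact pow_ne_zero 3 ht0
    rw [← haa, ← hbb] at h
    have hc : (X : Matrix (Fin 2) (Fin 2) F) = (a⁻¹ * (1 + b)) • 1 := by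
      have h1 : a • (X : Matrix (Fin 2) (Fin 2) F) = (1 + b) • 1 := by
        rw [add_smul, one_smul]
        exact sub_eq_iff_eq_add.mp h.symm
      rw [mul_smul, ← h1, smul_smul, inv_mul_cancel₀ ha, one_smul]
    obtain ⟨c, hcc⟩ : ∃ c : F, c = a⁻¹ * (1 + b) := ⟨_, rfl⟩
    rw [← hcc] at hc
    have hdet : c ^ 2 = 1 := by
      have h1 := X.2
      rw [hc, Matrix.det_smul, Matrix.det_one, mul_one, Fintype.card_fin] at h1
      exact h1
    rw [hc, smul_mul_smul_comm, mul_one, ← sq, hdet, one_smul]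

theorem mul_apply00 (M N : Matrix (Fin 2) (Fin 2) F) :
    (M * N) 0 0 = M 0 0 * N 0 0 + M 0 1 * N 1 0 := by
  rw [Matrix.mul_apply, Fin.sum_univ_two]

theorem mul_apply01 (M N : Matrix (Fin 2) (Fin 2) F) :
    (M * N) 0 1 = M 0 0 * N 0 1 + M 0 1 * N 1 1 := by
  rw [Matrix.mul_apply, Fin.sum_univ_two]

/-- conjugating an upper unitriangular matrix -/
theorem conj_uS (A : SpecialLinearGroup (Fin 2) F) (s : F) :
    ((A * uS s * A⁻¹ : SpecialLinearGroup (Fin 2) F) : Matrix (Fin 2) (Fin 2) F)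
      = !![1 - A.1 0 0 * A.1 1 0 * s, A.1 0 0 ^ 2 * s;
          -(A.1 1 0 ^ 2 * s), 1 + A.1 0 0 * A.1 1 0 * s] := by
  have hdet : A.1 0 0 * A.1 1 1 - A.1 0 1 * A.1 1 0 = 1 := by
    rw [← Matrix.det_fin_two]; exact A.2
  rw [Matrix.SpecialLinearGroup.coe_mul, Matrix.SpecialLinearGroup.coe_mul,
    Matrix.SpecialLinearGroup.coe_inv, coe_uS, Matrix.adjugate_fin_two]
  ext i j
  fin_cases i <;> fin_cases j <;> simp [Matrix.mul_apply, Fin.sum_univ_two] <;>
    first | ring1 | linear_combination hdet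

/-- an element of order three normalising a four-group forces a primitive cube root of unity -/
theorem exists_cube_root [Fintype F] [CharP F 2] (A V : SpecialLinearGroup (Fin 2) F)
    (hA : A ^ 3 = 1) (hV : V ^ 2 = 1) (hV1 : V ≠ 1)
    (hcomm : V * (A * V * A⁻¹) = (A * V * A⁻¹) * V) (hne : A * V * A⁻¹ ≠ V) :
    ∃ c : F, c ^ 3 = 1 ∧ c ≠ 1 := by
  haveI : Fact (Nat.Prime 2) := ⟨Nat.prime_two⟩
  have hp : IsPGroup 2 (Subgroup.zpowers V) := by
    apply IsPGroup.of_card (n := 1)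
    rw [Nat.card_zpowers, pow_one]
    exact orderOf_eq_prime hV hV1
  obtain ⟨Q, hQ⟩ := hp.exists_le_sylow
  obtain ⟨g, hg⟩ := MulAction.exists_smul_eq (SpecialLinearGroup (Fin 2) F) (USylow (F := F) 2) Q
  have hVQ : V ∈ Q := hQ (Subgroup.mem_zpowers V)
  rw [← hg, mem_smul_sylow_iff] at hVQ
  have hVU : g⁻¹ * V * g ∈ U F := by rw [← coe_USylow 2]; exact hVQ
  obtain ⟨s, hs⟩ := exists_of_mem_U hVU
  obtain ⟨k, hk⟩ : ∃ k : SpecialLinearGroup (Fin 2) F, k = g⁻¹ := ⟨_, rfl⟩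
  have hkV : k * V * k⁻¹ = uS s := by rw [hk, inv_inv]; exact hs
  have hs0 : s ≠ 0 := by
    rintro rfl
    rw [uS_zero] at hkV
    apply hV1
    have : V = k⁻¹ * (k * V * k⁻¹) * k := by group
    rw [this, hkV]; group
  obtain ⟨A', hA'⟩ : ∃ A' : SpecialLinearGroup (Fin 2) F, A' = k * A * k⁻¹ := ⟨_, rfl⟩
  have hA'3 : A' ^ 3 = 1 := by
    rw [hA', conj_pow, hA, mul_one, mul_inv_cancel]
  obtain ⟨W', hW'⟩ : ∃ W' : SpecialLinearGroup (Fin 2) F, W' = A' * uS s * A'⁻¹ := ⟨_, rfl⟩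
  have hW'k : W' = k * (A * V * A⁻¹) * k⁻¹ := by
    rw [hW', hA', ← hkV]; group
  have hcomm' : uS s * W' = W' * uS s := by
    calc uS s * W' = k * (V * (A * V * A⁻¹)) * k⁻¹ := by rw [hW'k, ← hkV]; group
      _ = k * ((A * V * A⁻¹) * V) * k⁻¹ := by rw [hcomm]
      _ = W' * uS s := by rw [hW'k, ← hkV]; group
  have hne' : W' ≠ uS s := by
    intro h
    apply hne
    rw [hW'k, ← hkV] at h
    exact mul_left_cancel (mul_right_cancel h)
  obtain ⟨a, ha⟩ : ∃ a : F, a = A'.1 0 0 := ⟨_, rfl⟩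
  obtain ⟨c, hc⟩ : ∃ c : F, c = A'.1 1 0 := ⟨_, rfl⟩
  have hWmat : (W' : Matrix (Fin 2) (Fin 2) F)
      = !![1 - a * c * s, a ^ 2 * s; -(c ^ 2 * s), 1 + a * c * s] := by
    rw [hW', conj_uS, ← ha, ← hc]
  have w00 : W'.1 0 0 = 1 - a * c * s := by
    show (W' : Matrix (Fin 2) (Fin 2) F) 0 0 = _
    rw [hWmat]; rfl
  have w01 : W'.1 0 1 = a ^ 2 * s := by
    show (W' : Matrix (Fin 2) (Fin 2) F) 0 1 = _
    rw [hWmat]; rfl
  have w10 : W'.1 1 0 = -(c ^ 2 * s) := by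
    show (W' : Matrix (Fin 2) (Fin 2) F) 1 0 = _
    rw [hWmat]; rfl
  have u00 : (uS s : SpecialLinearGroup (Fin 2) F).1 0 0 = 1 := rfl
  have u01 : (uS s : SpecialLinearGroup (Fin 2) F).1 0 1 = s := rfl
  have u10 : (uS s : SpecialLinearGroup (Fin 2) F).1 1 0 = 0 := rfl
  have hc0 : c = 0 := by
    have h00 : (uS s * W' : SpecialLinearGroup (Fin 2) F).1 0 0
        = (W' * uS s : SpecialLinearGroup (Fin 2) F).1 0 0 :=
      congrArg (fun M : SpecialLinearGroup (Fin 2) F => M.1 0 0) hcomm'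
    have e1 : (uS s * W' : SpecialLinearGroup (Fin 2) F).1 0 0
        = (uS s).1 0 0 * W'.1 0 0 + (uS s).1 0 1 * W'.1 1 0 := by
      show ((uS s * W' : SpecialLinearGroup (Fin 2) F) : Matrix (Fin 2) (Fin 2) F) 0 0 = _
      rw [Matrix.SpecialLinearGroup.coe_mul, mul_apply00]
    have e2 : (W' * uS s : SpecialLinearGroup (Fin 2) F).1 0 0
        = W'.1 0 0 * (uS s).1 0 0 + W'.1 0 1 * (uS s).1 1 0 := by
      show ((W' * uS s : SpecialLinearGroup (Fin 2) F) : Matrix (Fin 2) (Fin 2) F) 0 0 = _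
      rw [Matrix.SpecialLinearGroup.coe_mul, mul_apply00]
    rw [e1, e2, u00, u01, u10, w00, w01, w10] at h00
    have h3 : (c * s) ^ 2 = 0 := by linear_combination (-1 : F) * h00
    have h4 : c * s = 0 := (pow_eq_zero_iff (two_ne_zero)).mp h3
    rcases mul_eq_zero.mp h4 with h | h
    · exact h
    · exact absurd h hs0
  have ha3 : a ^ 3 = 1 := by
    have h1 : (A' ^ 3 : SpecialLinearGroup (Fin 2) F).1 0 0
        = (1 : SpecialLinearGroup (Fin 2) F).1 0 0 :=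
      congrArg (fun M : SpecialLinearGroup (Fin 2) F => M.1 0 0) hA'3
    have e1 : (A' ^ 3 : SpecialLinearGroup (Fin 2) F).1 0 0
        = (A'.1 0 0 * A'.1 0 0 + A'.1 0 1 * A'.1 1 0) * A'.1 0 0
          + (A'.1 0 0 * A'.1 0 1 + A'.1 0 1 * A'.1 1 1) * A'.1 1 0 := by
      show ((A' ^ 3 : SpecialLinearGroup (Fin 2) F) : Matrix (Fin 2) (Fin 2) F) 0 0 = _
      rw [Matrix.SpecialLinearGroup.coe_pow, pow_succ, sq, mul_apply00, mul_apply00, mul_apply01]
    rw [e1, ← ha, ← hc, hc0] at h1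
    have e3 : (1 : SpecialLinearGroup (Fin 2) F).1 0 0 = 1 := by
      show ((1 : SpecialLinearGroup (Fin 2) F) : Matrix (Fin 2) (Fin 2) F) 0 0 = 1
      rw [Matrix.SpecialLinearGroup.coe_one]; rfl
    rw [e3] at h1
    linear_combination h1
  refine ⟨a, ha3, ?_⟩
  intro ha1
  apply hne'
  apply sl_ext
  rw [hWmat, coe_uS, hc0, ha1]
  ext i j
  fin_cases i <;> fin_cases j <;> simp

end Cfsg.Agent.helper11.PSL2Char2
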