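import Mathlib

set_option autoImplicit false

/-!
# Orders of elements of `SL₂(q)`: every element satisfies `g^(q-1) = 1`, `g^(q+1) = 1`
or `g^(2p) = 1`.
-/

namespace Cfsg.Agent.helper11.SL2

open Matrix

variable {F : Type*} [Field F]

/-- Cayley–Hamilton for a `2 × 2` matrix of determinant one. -/
theorem sq_eq (A : Matrix (Fin 2) (Fin 2) F) (hdet : A.det = 1) :
    A * A = A.trace • A - 1 := by
  rw [Matrix.det_fin_two] at hdet
  ext i j
  fin_cases i <;> fin_cases j <;>
    simp [Matrix.mul_apply, Fin.sum_univ_two, Matrix.trace_fin_two]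
  · linear_combination -hdet
  · ring
  · ring
  · linear_combination -hdet

/-- the "conjugate" `t - A` is the inverse of `A` -/
theorem mul_conj (A : Matrix (Fin 2) (Fin 2) F) (hdet : A.det = 1) :
    A * (A.trace • (1 : Matrix (Fin 2) (Fin 2) F) - A) = 1 := by
  rw [mul_sub, Matrix.mul_smul, mul_one, sq_eq A hdet]
  abel

theorem conj_mul (A : Matrix (Fin 2) (Fin 2) F) (hdet : A.det = 1) :
    (A.trace • (1 : Matrix (Fin 2) (Fin 2) F) - A) * A = 1 := by
  rw [sub_mul, Matrix.smul_mul, one_mul, sq_eq A hdet]
  abel

/-- powers of `A` lie in the span of `1` and `A` -/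
theorem pow_mem_span (A : Matrix (Fin 2) (Fin 2) F) (hdet : A.det = 1) (k : ℕ) :
    ∃ a b : F, A ^ k = a • (1 : Matrix (Fin 2) (Fin 2) F) + b • A := by
  induction k with
  | zero => exact ⟨1, 0, by simp⟩
  | succ k ih =>
    obtain ⟨a, b, h⟩ := ih
    refine ⟨-b, a + b * A.trace, ?_⟩
    rw [pow_succ, h, add_mul, Matrix.smul_mul, Matrix.smul_mul, one_mul, sq_eq A hdet]
    module

/-- if the characteristic polynomial has no root, nonzero elements of `F[A]` are invertible -/
theorem norm_ne_zero (t : F) (hroot : ∀ l : F, l ^ 2 - t * l + 1 ≠ 0) (a b : F)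
    (hab : a ≠ 0 ∨ b ≠ 0) : a ^ 2 + a * b * t + b ^ 2 ≠ 0 := by
  by_cases hb : b = 0
  · subst hb
    have ha : a ≠ 0 := by tauto
    simpa using ha
  · have := hroot (-a / b)
    intro h
    apply this
    field_simp
    linear_combination h

theorem span_mul_conj (A : Matrix (Fin 2) (Fin 2) F) (hdet : A.det = 1) (a b : F) :
    (a • (1 : Matrix (Fin 2) (Fin 2) F) + b • A) *
      (a • (1 : Matrix (Fin 2) (Fin 2) F) + b • (A.trace • (1 : Matrix (Fin 2) (Fin 2) F) - A)) =
      (a ^ 2 + a * b * A.trace + b ^ 2) • (1 : Matrix (Fin 2) (Fin 2) F) := by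
  have h1 := mul_conj A hdet
  rw [mul_sub, Matrix.mul_smul, mul_one] at h1
  have h2 : A * A = A.trace • A - 1 := sq_eq A hdet
  simp only [add_mul, mul_add, Matrix.smul_mul, Matrix.mul_smul, one_mul, mul_one, smul_sub,
    mul_sub, h2]
  module

section Finite
variable [Fintype F]

theorem pow_card_props (A : Matrix (Fin 2) (Fin 2) F) (hdet : A.det = 1) :
    (A ^ Fintype.card F).det = 1 ∧ (A ^ Fintype.card F).trace = A.trace := by
  constructor
  · rw [Matrix.det_pow, hdet, one_pow]
  · rw [FiniteField.trace_pow_card, FiniteField.pow_card]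

/-- The main trichotomy at the level of matrices. -/
theorem pow_trichotomy (p : ℕ) [Fact p.Prime] [CharP F p] (A : Matrix (Fin 2) (Fin 2) F)
    (hdet : A.det = 1) :
    A ^ (Fintype.card F - 1) = 1 ∨ A ^ (Fintype.card F + 1) = 1 ∨ A ^ (2 * p) = 1 := by
  classical
  have hp : p.Prime := Fact.out
  set q := Fintype.card F with hq
  have hq1 : 1 ≤ q := Fintype.card_pos
  set t := A.trace with ht
  set Abar : Matrix (Fin 2) (Fin 2) F := t • (1 : Matrix (Fin 2) (Fin 2) F) - A with hAbar
  have hAAbar : A * Abar = 1 := mul_conj A hdet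
  have hAbarA : Abar * A = 1 := conj_mul A hdet
  by_cases hroot : ∀ l : F, l ^ 2 - t * l + 1 ≠ 0
  · -- no root: F[A] is a field
    set h := A ^ q with hh
    obtain ⟨hdet', htr'⟩ := pow_card_props A hdet
    have hsq : h * h = t • h - 1 := by
      have := sq_eq h hdet'
      rw [htr'] at this
      exact this
    have hcomm : h * A = A * h := by
      rw [hh, ← pow_succ, ← pow_succ']
    have hprod : (h - A) * (h - Abar) = 0 := by
      rw [hAbar]
      have e : (h - A) * (h - (t • (1 : Matrix (Fin 2) (Fin 2) F) - A))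
          = h * h - t • h + (h * A - A * h) + A * Abar := by
        rw [hAbar]
        simp only [sub_mul, mul_sub, Matrix.mul_smul, Matrix.smul_mul, mul_one, one_mul]
        abel
      rw [e, hsq, hcomm, hAAbar]
      abel
    obtain ⟨a, b, hab⟩ := pow_mem_span A hdet q
    rw [← hh] at hab
    by_cases hx : h - A = 0
    · left
      have h1 : A ^ q = A := sub_eq_zero.mp hx
      have h2 : A ^ (q - 1) * A = A := by
        rw [← pow_succ, Nat.sub_add_cancel hq1]
        exact h1
      calc A ^ (q - 1) = A ^ (q - 1) * (A * Abar) := by rw [hAAbar, mul_one]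
        _ = (A ^ (q - 1) * A) * Abar := by rw [mul_assoc]
        _ = 1 := by rw [h2, hAAbar]
    · right; left
      -- h - A = a • 1 + (b - 1) • A is invertible
      have hxform : h - A = a • (1 : Matrix (Fin 2) (Fin 2) F) + (b - 1) • A := by
        rw [hab]; module
      have hne : a ≠ 0 ∨ b - 1 ≠ 0 := by
        by_contra hcon
        push Not at hcon
        apply hx
        rw [hxform, hcon.1, hcon.2, zero_smul, zero_smul, add_zero]
      have hN := norm_ne_zero t hroot a (b - 1) hne
      have hinv := span_mul_conj A hdet a (b - 1)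
      rw [← hxform, ← ht] at hinv
      -- so (h - Abar) = 0
      have hy : h - Abar = 0 := by
        have hc : (h - A) * (a • (1 : Matrix (Fin 2) (Fin 2) F) + (b - 1) • Abar)
            = (a • (1 : Matrix (Fin 2) (Fin 2) F) + (b - 1) • Abar) * (h - A) := by
          rw [hxform, hAbar]
          simp only [add_mul, mul_add, Matrix.smul_mul, Matrix.mul_smul, one_mul, mul_one,
            smul_sub, mul_sub, sub_mul]
          module
        have h3 : (a ^ 2 + a * (b - 1) * t + (b - 1) ^ 2) • (h - Abar) = 0 := by
          have : ((a • (1 : Matrix (Fin 2) (Fin 2) F) + (b - 1) • Abar) * (h - A)) * (h - Abar)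
              = 0 := by rw [mul_assoc, hprod, mul_zero]
          rw [← hc, hinv, Matrix.smul_mul, one_mul] at this
          exact this
        rcases smul_eq_zero.mp h3 with h4 | h4
        · exact absurd h4 hN
        · exact h4
      have h1 : A ^ q = Abar := sub_eq_zero.mp hy
      rw [pow_succ, h1, hAbarA]
  · -- a root exists
    push Not at hroot
    obtain ⟨l, hl⟩ := hroot
    set m := t - l with hm
    have hlm : l * m = 1 := by rw [hm]; linear_combination -hl
    have hl0 : l ≠ 0 := left_ne_zero_of_mul_eq_one hlm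
    have hm0 : m ≠ 0 := right_ne_zero_of_mul_eq_one hlm
    have hAA : A * A = t • A - 1 := sq_eq A hdet
    by_cases hlm' : l = m
    · -- repeated root: unipotent up to sign
      right; right
      set N : Matrix (Fin 2) (Fin 2) F := A - l • (1 : Matrix (Fin 2) (Fin 2) F) with hN
      have ht2 : t = l + l := by rw [hm] at hlm'; linear_combination -hlm'
      have hll : l * l = 1 := by rw [← hlm'] at hlm; exact hlm
      have hN2 : N * N = 0 := by
        rw [hN]
        simp only [sub_mul, mul_sub, Matrix.mul_smul, Matrix.smul_mul, mul_one, one_mul, hAA,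
          ht2, smul_smul, hll]
        module
      have hNp : N ^ p = 0 := by
        have : N ^ p = N ^ 2 * N ^ (p - 2) := by
          rw [← pow_add]
          congr 1
          have := hp.two_le
          omega
        rw [this, pow_two, hN2, zero_mul]
      have hA : A = l • (1 : Matrix (Fin 2) (Fin 2) F) + N := by rw [hN]; abel
      have hcomm : Commute (l • (1 : Matrix (Fin 2) (Fin 2) F)) N := by
        show l • (1 : Matrix (Fin 2) (Fin 2) F) * N = N * l • (1 : Matrix (Fin 2) (Fin 2) F)
        rw [Matrix.smul_mul, Matrix.mul_smul, one_mul, mul_one]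
      have hAp : A ^ p = (l ^ p) • (1 : Matrix (Fin 2) (Fin 2) F) := by
        rw [hA, add_pow_char_of_commute p hcomm, hNp, add_zero, smul_pow, one_pow]
      rw [mul_comm, pow_mul, hAp, smul_pow, one_pow, ← pow_mul, mul_comm p 2, pow_mul, pow_two,
        hll, one_pow, one_smul]
    · -- distinct roots in F: split torus
      left
      have h1 : A * (A - m • (1 : Matrix (Fin 2) (Fin 2) F))
          = l • (A - m • (1 : Matrix (Fin 2) (Fin 2) F)) := by
        simp only [mul_sub, Matrix.mul_smul, mul_one, hAA, smul_sub, smul_smul, hlm]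
        have : t = l + m := by rw [hm]; ring
        rw [this]
        module
      have h2 : A * (A - l • (1 : Matrix (Fin 2) (Fin 2) F))
          = m • (A - l • (1 : Matrix (Fin 2) (Fin 2) F)) := by
        simp only [mul_sub, Matrix.mul_smul, mul_one, hAA, smul_sub, smul_smul, mul_comm m l, hlm]
        have : t = l + m := by rw [hm]; ring
        rw [this]
        module
      have h1k : ∀ k : ℕ, A ^ k * (A - m • (1 : Matrix (Fin 2) (Fin 2) F))
          = l ^ k • (A - m • (1 : Matrix (Fin 2) (Fin 2) F)) := by
        intro k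
        induction k with
        | zero => simp
        | succ k ih =>
          rw [pow_succ, mul_assoc, h1, Matrix.mul_smul, ih, smul_smul, pow_succ, mul_comm l]
      have h2k : ∀ k : ℕ, A ^ k * (A - l • (1 : Matrix (Fin 2) (Fin 2) F))
          = m ^ k • (A - l • (1 : Matrix (Fin 2) (Fin 2) F)) := by
        intro k
        induction k with
        | zero => simp
        | succ k ih =>
          rw [pow_succ, mul_assoc, h2, Matrix.mul_smul, ih, smul_smul, pow_succ, mul_comm m]
      have hlq : l ^ (q - 1) = 1 := FiniteField.pow_card_sub_one_eq_one l hl0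
      have hmq : m ^ (q - 1) = 1 := FiniteField.pow_card_sub_one_eq_one m hm0
      have e1 := h1k (q - 1)
      have e2 := h2k (q - 1)
      rw [hlq, one_smul] at e1
      rw [hmq, one_smul] at e2
      have e3 : A ^ (q - 1) * ((l - m) • (1 : Matrix (Fin 2) (Fin 2) F))
          = (l - m) • (1 : Matrix (Fin 2) (Fin 2) F) := by
        have : (l - m) • (1 : Matrix (Fin 2) (Fin 2) F)
            = (A - m • (1 : Matrix (Fin 2) (Fin 2) F)) - (A - l • (1 : Matrix (Fin 2) (Fin 2) F)) := by
          module
        rw [this, mul_sub, e1, e2]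
      rw [Matrix.mul_smul, mul_one] at e3
      have hne : l - m ≠ 0 := sub_ne_zero.mpr hlm'
      have := congrArg (fun M => (l - m)⁻¹ • M) e3
      simpa [smul_smul, inv_mul_cancel₀ hne] using this

/-- Trichotomy for elements of `SL₂(q)`. -/
theorem sl2_pow_trichotomy (p : ℕ) [Fact p.Prime] [CharP F p]
    (g : Matrix.SpecialLinearGroup (Fin 2) F) :
    g ^ (Fintype.card F - 1) = 1 ∨ g ^ (Fintype.card F + 1) = 1 ∨ g ^ (2 * p) = 1 := by
  rcases pow_trichotomy p (g : Matrix (Fin 2) (Fin 2) F) g.2 with h | h | h
  · left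
    apply Subtype.ext
    rw [Matrix.SpecialLinearGroup.coe_pow, h, Matrix.SpecialLinearGroup.coe_one]
  · right; left
    apply Subtype.ext
    rw [Matrix.SpecialLinearGroup.coe_pow, h, Matrix.SpecialLinearGroup.coe_one]
  · right; right
    apply Subtype.ext
    rw [Matrix.SpecialLinearGroup.coe_pow, h, Matrix.SpecialLinearGroup.coe_one]

end Finite

end Cfsg.Agent.helper11.SL2
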