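import Mathlib

set_option autoImplicit false

/-!
# Centralisers in `SL₂(F)`: the centraliser of a non-scalar `g` is the norm-one group of `F[g]`
-/

namespace Cfsg.Agent.helper11.SL2Tori

open Matrix

variable {F : Type*} [Field F]

/-- the norm form of `F[g]`, `g` of trace `t` and determinant one -/
def N (t a b : F) : F := a ^ 2 + t * a * b + b ^ 2

theorem N_smul (t c a b : F) : N t (c * a) (c * b) = c ^ 2 * N t a b := by
  unfold N; ring

/-- a matrix commuting with a non-scalar `2 × 2` matrix `g` lies in `F[g]` -/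
theorem exists_span_of_commute (g X : Matrix (Fin 2) (Fin 2) F)
    (hg : ∀ c : F, g ≠ c • (1 : Matrix (Fin 2) (Fin 2) F)) (h : X * g = g * X) :
    ∃ a b : F, X = a • (1 : Matrix (Fin 2) (Fin 2) F) + b • g := by
  have h00 := congrFun (congrFun h 0) 0
  have h01 := congrFun (congrFun h 0) 1
  have h10 := congrFun (congrFun h 1) 0
  simp only [Matrix.mul_apply, Fin.sum_univ_two] at h00 h01 h10
  by_cases hr : g 0 1 = 0
  · by_cases hs : g 1 0 = 0
    · have hpu : g 0 0 ≠ g 1 1 := by
        intro hpu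
        apply hg (g 0 0)
        ext i j; fin_cases i <;> fin_cases j <;> simp [hr, hs, hpu]
      have hd : g 0 0 - g 1 1 ≠ 0 := sub_ne_zero.mpr hpu
      have hy : X 0 1 = 0 := by
        have : X 0 1 * (g 0 0 - g 1 1) = 0 := by rw [hr] at h01; linear_combination -h01
        rcases mul_eq_zero.mp this with h | h
        · exact h
        · exact absurd h hd
      have hz : X 1 0 = 0 := by
        have : X 1 0 * (g 0 0 - g 1 1) = 0 := by rw [hs] at h10; linear_combination h10
        rcases mul_eq_zero.mp this with h | h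
        · exact h
        · exact absurd h hd
      refine ⟨X 0 0 - (X 0 0 - X 1 1) / (g 0 0 - g 1 1) * g 0 0,
        (X 0 0 - X 1 1) / (g 0 0 - g 1 1), ?_⟩
      ext i j; fin_cases i <;> fin_cases j <;> simp [hr, hs, hy, hz]
      field_simp
      ring
    · refine ⟨X 0 0 - X 1 0 / g 1 0 * g 0 0, X 1 0 / g 1 0, ?_⟩
      ext i j; fin_cases i <;> fin_cases j <;> simp
      · field_simp; linear_combination h00
      · field_simp
      · field_simp; linear_combination h10
  · refine ⟨X 0 0 - X 0 1 / g 0 1 * g 0 0, X 0 1 / g 0 1, ?_⟩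
    ext i j; fin_cases i <;> fin_cases j <;> simp
    · field_simp
    · field_simp; linear_combination -h00
    · field_simp; linear_combination -h01

theorem det_span (g : Matrix (Fin 2) (Fin 2) F) (hdet : g.det = 1) (a b : F) :
    (a • (1 : Matrix (Fin 2) (Fin 2) F) + b • g).det = N g.trace a b := by
  rw [Matrix.det_fin_two] at hdet ⊢
  simp only [N, Matrix.trace_fin_two, Matrix.add_apply, Matrix.smul_apply, Matrix.one_apply_eq,
    smul_eq_mul, mul_one, ne_eq, zero_ne_one, one_ne_zero, not_false_eq_true,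
    Matrix.one_apply_ne, mul_zero, zero_add]
  linear_combination b ^ 2 * hdet

/-- the centraliser of a non-scalar element of `SL₂` is the norm-one group of `F[g]` -/
theorem card_centralizer (g : SpecialLinearGroup (Fin 2) F)
    (hg : ∀ c : F, (g : Matrix (Fin 2) (Fin 2) F) ≠ c • (1 : Matrix (Fin 2) (Fin 2) F)) :
    Nat.card (Subgroup.centralizer ({g} : Set (SpecialLinearGroup (Fin 2) F))) =
      Nat.card {p : F × F // N (g : Matrix (Fin 2) (Fin 2) F).trace p.1 p.2 = 1} := by
  symm
  refine Nat.card_congr (Equiv.ofBijective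
    (fun p => ⟨(⟨p.1.1 • (1 : Matrix (Fin 2) (Fin 2) F) + p.1.2 • (g : Matrix (Fin 2) (Fin 2) F),
      by rw [det_span _ g.2]; exact p.2⟩ : SpecialLinearGroup (Fin 2) F), ?_⟩) ⟨?_, ?_⟩)
  · refine Subgroup.mem_centralizer_singleton_iff.mpr ?_
    apply Subtype.ext
    show (p.1.1 • (1 : Matrix (Fin 2) (Fin 2) F) +
      p.1.2 • (g : Matrix (Fin 2) (Fin 2) F)) * (g : Matrix (Fin 2) (Fin 2) F) =
      (g : Matrix (Fin 2) (Fin 2) F) * (p.1.1 • (1 : Matrix (Fin 2) (Fin 2) F) +
      p.1.2 • (g : Matrix (Fin 2) (Fin 2) F))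
    simp only [mul_add, add_mul, Matrix.mul_smul, Matrix.smul_mul, mul_one, one_mul]
  · intro p p' h
    have h1 : p.1.1 • (1 : Matrix (Fin 2) (Fin 2) F) + p.1.2 • (g : Matrix (Fin 2) (Fin 2) F) =
        p'.1.1 • (1 : Matrix (Fin 2) (Fin 2) F) + p'.1.2 • (g : Matrix (Fin 2) (Fin 2) F) :=
      congrArg (fun x => (((x : Subgroup.centralizer ({g} : Set (SpecialLinearGroup (Fin 2) F))) :
        SpecialLinearGroup (Fin 2) F) : Matrix (Fin 2) (Fin 2) F)) h
    have hb : p.1.2 = p'.1.2 := by
      by_contra hb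
      have hb' : p.1.2 - p'.1.2 ≠ 0 := sub_ne_zero.mpr hb
      apply hg ((p'.1.1 - p.1.1) / (p.1.2 - p'.1.2))
      have h2 : (p.1.2 - p'.1.2) • (g : Matrix (Fin 2) (Fin 2) F) =
          (p'.1.1 - p.1.1) • (1 : Matrix (Fin 2) (Fin 2) F) := by
        rw [sub_smul, sub_smul, sub_eq_sub_iff_add_eq_add, add_comm]
        exact h1
      calc (g : Matrix (Fin 2) (Fin 2) F)
          = (p.1.2 - p'.1.2)⁻¹ • ((p.1.2 - p'.1.2) • (g : Matrix (Fin 2) (Fin 2) F)) := by
            rw [smul_smul, inv_mul_cancel₀ hb', one_smul]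
        _ = _ := by rw [h2, smul_smul, div_eq_inv_mul]
    have ha : p.1.1 = p'.1.1 := by
      rw [hb] at h1
      have h3 : p.1.1 • (1 : Matrix (Fin 2) (Fin 2) F) = p'.1.1 • (1 : Matrix (Fin 2) (Fin 2) F) :=
        add_right_cancel h1
      have h4 := congrFun (congrFun h3 0) 0
      simpa using h4
    exact Subtype.ext (Prod.ext ha hb)
  · intro X
    have hX := Subgroup.mem_centralizer_singleton_iff.mp X.2
    have hX' : ((X : SpecialLinearGroup (Fin 2) F) : Matrix (Fin 2) (Fin 2) F) *
        (g : Matrix (Fin 2) (Fin 2) F) =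
        (g : Matrix (Fin 2) (Fin 2) F) * ((X : SpecialLinearGroup (Fin 2) F) : Matrix (Fin 2) (Fin 2) F) := by
      have := congrArg (fun M : SpecialLinearGroup (Fin 2) F => (M : Matrix (Fin 2) (Fin 2) F)) hX
      simpa only [Matrix.SpecialLinearGroup.coe_mul] using this
    obtain ⟨a, b, hab⟩ := exists_span_of_commute _ _ hg hX'
    have hN : N (g : Matrix (Fin 2) (Fin 2) F).trace a b = 1 := by
      rw [← det_span _ g.2, ← hab]; exact (X : SpecialLinearGroup (Fin 2) F).2
    refine ⟨⟨(a, b), hN⟩, ?_⟩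
    apply Subtype.ext
    apply Subtype.ext
    exact hab.symm

end Cfsg.Agent.helper11.SL2Tori
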