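import Mathlib
import Cfsg.Agent.Lib_helper11_SL2Tori1

set_option autoImplicit false

/-!
# Norm-one groups of binary forms `a² + t a b + b²` over finite fields of characteristic two

`card_trace_zero`, `card_split`, `card_aniso` : the three possible orders `q`, `q - 1`, `q + 1`.
-/

namespace Cfsg.Agent.helper11.SL2Tori

open Matrix

variable {F : Type*} [Field F]

section char2

variable (h2 : (2 : F) = 0)
include h2

theorem add_self_eq_zero' (x : F) : x + x = 0 := by linear_combination x * h2

theorem neg_eq' (x : F) : -x = x := by linear_combination -x * h2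

theorem sq_injective : Function.Injective (fun x : F => x ^ 2) := by
  intro x y h
  have h' : x ^ 2 = y ^ 2 := h
  have : (x - y) ^ 2 = 0 := by linear_combination h' + (y ^ 2 - x * y) * h2
  exact sub_eq_zero.mp ((pow_eq_zero_iff (two_ne_zero)).mp this)

variable [Fintype F]

/-- squaring is a bijection of a finite field of characteristic two -/
noncomputable def sqEquiv : F ≃ F :=
  Equiv.ofBijective (fun x : F => x ^ 2) (Finite.injective_iff_bijective.mp (sq_injective h2))

/-- the square root in characteristic two -/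
noncomputable def sqrt (x : F) : F := (sqEquiv h2).symm x

theorem sqrt_sq (x : F) : sqrt h2 x ^ 2 = x := (sqEquiv h2).apply_symm_apply x

theorem sqrt_of_sq (x : F) : sqrt h2 (x ^ 2) = x := (sqEquiv h2).symm_apply_apply x

theorem sqrt_ne_zero {x : F} (hx : x ≠ 0) : sqrt h2 x ≠ 0 := by
  intro h
  apply hx
  rw [← sqrt_sq h2 x, h]
  ring

/-- trace zero: the norm-one group has `q` elements -/
theorem card_trace_zero :
    Nat.card {p : F × F // N 0 p.1 p.2 = 1} = Fintype.card F := by
  have e : {p : F × F // N 0 p.1 p.2 = 1} ≃ F :=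
    { toFun := fun p => p.1.2
      invFun := fun b => ⟨(1 + b, b), by
        show (1 + b) ^ 2 + 0 * (1 + b) * b + b ^ 2 = 1
        linear_combination (b + b ^ 2) * h2⟩
      left_inv := by
        rintro ⟨⟨a, b⟩, hp⟩
        have hp' : a ^ 2 + 0 * a * b + b ^ 2 = 1 := hp
        have h1 : (a + b + 1) ^ 2 = 0 := by
          linear_combination hp' + (a * b + a + b + 1) * h2
        have h3 : a + b + 1 = 0 := (pow_eq_zero_iff (two_ne_zero)).mp h1
        apply Subtype.ext
        apply Prod.ext
        · show 1 + b = a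
          linear_combination -h3 + (b + 1) * h2
        · rfl
      right_inv := fun b => rfl }
  rw [Nat.card_congr e, Nat.card_eq_fintype_card]

/-- split case: the norm-one group has `q - 1` elements -/
theorem card_split (t l : F) (hl : l ^ 2 + t * l + 1 = 0) (ht : t ≠ 0) :
    Nat.card {p : F × F // N t p.1 p.2 = 1} = Fintype.card F - 1 := by
  have hl0 : l ≠ 0 := by
    rintro rfl
    simp at hl
  set m : F := l⁻¹ with hm
  have hlm : l * m = 1 := mul_inv_cancel₀ hl0
  have hsum : l + m = t := by
    have : l * (l + m - t) = 0 := by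
      linear_combination hl + hlm + (-(t * l)) * h2
    rcases mul_eq_zero.mp this with h | h
    · exact absurd h hl0
    · linear_combination h
  have hne : l - m ≠ 0 := by
    intro h
    apply ht
    linear_combination -hsum + h + m * h2
  have hN : ∀ a b : F, N t a b = (a + l * b) * (a + m * b) := by
    intro a b
    unfold N
    linear_combination (-(a * b)) * hsum - b ^ 2 * hlm
  have e : {p : F × F // N t p.1 p.2 = 1} ≃ Fˣ :=
    { toFun := fun p => Units.mkOfMulEqOne (p.1.1 + l * p.1.2) (p.1.1 + m * p.1.2)
        (by rw [← hN]; exact p.2)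
      invFun := fun u => ⟨((u : F) - l * (((u : F) - ((u⁻¹ : Fˣ) : F)) / (l - m)),
        ((u : F) - ((u⁻¹ : Fˣ) : F)) / (l - m)), by
          have hu : (u : F) * ((u⁻¹ : Fˣ) : F) = 1 := by
            rw [← Units.val_mul, mul_inv_cancel, Units.val_one]
          show N t _ _ = 1
          rw [hN]
          field_simp
          linear_combination (l - m) ^ 2 * hu⟩
      left_inv := by
        rintro ⟨⟨a, b⟩, hp⟩
        apply Subtype.ext
        have hb : ((a + l * b) - (a + m * b)) / (l - m) = b := by
          field_simp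
          ring
        apply Prod.ext
        · show (a + l * b) - l * (((a + l * b) - (a + m * b)) / (l - m)) = a
          rw [hb]; ring
        · exact hb
      right_inv := by
        intro u
        apply Units.ext
        show ((u : F) - l * (((u : F) - ((u⁻¹ : Fˣ) : F)) / (l - m))) +
          l * (((u : F) - ((u⁻¹ : Fˣ) : F)) / (l - m)) = u
        ring }
  rw [Nat.card_congr e, Nat.card_units, Nat.card_eq_fintype_card]

/-- anisotropic case: the norm-one group has `q + 1` elements -/
theorem card_aniso (t : F) (ht : ∀ a b : F, N t a b = 0 → a = 0 ∧ b = 0) :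
    Nat.card {p : F × F // N t p.1 p.2 = 1} = Fintype.card F + 1 := by
  classical
  have hne : ∀ p : {p : F × F // p ≠ 0}, N t p.1.1 p.1.2 ≠ 0 := by
    intro p h
    obtain ⟨h1, h3⟩ := ht _ _ h
    exact p.2 (Prod.ext h1 h3)
  have e : {p : F × F // p ≠ 0} ≃ Fˣ × {p : F × F // N t p.1 p.2 = 1} :=
    { toFun := fun p => (Units.mk0 (sqrt h2 (N t p.1.1 p.1.2)) (sqrt_ne_zero h2 (hne p)),
        ⟨((sqrt h2 (N t p.1.1 p.1.2))⁻¹ * p.1.1, (sqrt h2 (N t p.1.1 p.1.2))⁻¹ * p.1.2), by
          show N t _ _ = 1
          rw [N_smul, inv_pow, sqrt_sq]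
          exact inv_mul_cancel₀ (hne p)⟩)
      invFun := fun x => ⟨((x.1 : F) * x.2.1.1, (x.1 : F) * x.2.1.2), by
        intro h
        have h1 : (x.1 : F) * x.2.1.1 = 0 := congrArg Prod.fst h
        have h3 : (x.1 : F) * x.2.1.2 = 0 := congrArg Prod.snd h
        have hx : (x.1 : F) ≠ 0 := x.1.ne_zero
        have h4 : x.2.1.1 = 0 := (mul_eq_zero.mp h1).resolve_left hx
        have h5 : x.2.1.2 = 0 := (mul_eq_zero.mp h3).resolve_left hx
        have := x.2.2
        rw [h4, h5] at this
        simp [N] at this⟩
      left_inv := by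
        intro p
        apply Subtype.ext
        have hs := sqrt_ne_zero h2 (hne p)
        apply Prod.ext
        · show sqrt h2 (N t p.1.1 p.1.2) * ((sqrt h2 (N t p.1.1 p.1.2))⁻¹ * p.1.1) = p.1.1
          rw [← mul_assoc, mul_inv_cancel₀ hs, one_mul]
        · show sqrt h2 (N t p.1.1 p.1.2) * ((sqrt h2 (N t p.1.1 p.1.2))⁻¹ * p.1.2) = p.1.2
          rw [← mul_assoc, mul_inv_cancel₀ hs, one_mul]
      right_inv := by
        rintro ⟨u, ⟨⟨a, b⟩, hp⟩⟩
        have hp' : N t a b = 1 := hp
        have hs : sqrt h2 (N t ((u : F) * a) ((u : F) * b)) = u := by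
          rw [N_smul, hp', mul_one, sqrt_of_sq]
        apply Prod.ext
        · apply Units.ext
          exact hs
        · apply Subtype.ext
          apply Prod.ext
          · show (sqrt h2 (N t ((u : F) * a) ((u : F) * b)))⁻¹ * ((u : F) * a) = a
            rw [hs, ← mul_assoc, inv_mul_cancel₀ u.ne_zero, one_mul]
          · show (sqrt h2 (N t ((u : F) * a) ((u : F) * b)))⁻¹ * ((u : F) * b) = b
            rw [hs, ← mul_assoc, inv_mul_cancel₀ u.ne_zero, one_mul] }
  have h1 := Nat.card_congr e
  rw [Nat.card_prod, Nat.card_units, Nat.card_eq_fintype_card (α := F)] at h1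
  have h3 : Nat.card (F × F) = Nat.card {p : F × F // p ≠ 0} + 1 := by
    rw [← Finite.card_option]
    exact Nat.card_congr (Equiv.optionSubtypeNe (0 : F × F)).symm
  rw [Nat.card_prod, Nat.card_eq_fintype_card (α := F)] at h3
  have hq : 2 ≤ Fintype.card F := Fintype.one_lt_card
  generalize Fintype.card F = q at *
  generalize Nat.card {p : F × F // N t p.1 p.2 = 1} = n at *
  obtain ⟨k, rfl⟩ : ∃ k, q = k + 1 := ⟨q - 1, by omega⟩
  have h4 : (k + 1) * (k + 1) = k * n + 1 := by rw [h3, h1]; simp
  have h5 : k * n = k * (k + 2) := by nlinarith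
  have hk : 0 < k := by omega
  have := Nat.eq_of_mul_eq_mul_left hk h5
  omega

end char2

end Cfsg.Agent.helper11.SL2Tori
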