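import Mathlib
import Cfsg.Agent.Lib_helper11_SL2Tori2
import Cfsg.Agent.Lib_helper11_PSL2Char2
import Cfsg.Agent.Lib_helper11_Torus
import Cfsg.Agent.Lib_helper11_SL2Order

set_option autoImplicit false

/-!
# Element orders and the non-split torus of `SL₂(F)` in characteristic two

* `orderOf_eq_of_trace_eq` : the order of a non-scalar element only depends on the trace
* `card_centralizer_cases` : centraliser orders `q`, `q - 1`, `q + 1`
* `exists_torus` : a companion matrix of order `q + 1` with irreducible characteristic polynomial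
-/

namespace Cfsg.Agent.helper11.SL2Tori

open Matrix

variable {F : Type*} [Field F]

/-- coefficients of `M ^ k` on `1, M` when `M² = t M - 1` -/
def coef (t : F) : ℕ → F × F
  | 0 => (1, 0)
  | k + 1 => (-(coef t k).2, (coef t k).1 + t * (coef t k).2)

theorem pow_eq_coef (M : Matrix (Fin 2) (Fin 2) F) (t : F) (h : M * M = t • M - 1) (k : ℕ) :
    M ^ k = (coef t k).1 • (1 : Matrix (Fin 2) (Fin 2) F) + (coef t k).2 • M := by
  induction k with
  | zero => simp [coef]
  | succ k ih =>
    rw [pow_succ, ih, add_mul, smul_mul_assoc, smul_mul_assoc, one_mul, h]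
    simp only [coef]
    module

theorem pow_eq_one_iff_coef (M : Matrix (Fin 2) (Fin 2) F) (t : F) (h : M * M = t • M - 1)
    (hM : ∀ c : F, M ≠ c • (1 : Matrix (Fin 2) (Fin 2) F)) (k : ℕ) :
    M ^ k = 1 ↔ coef t k = (1, 0) := by
  rw [pow_eq_coef M t h k]
  constructor
  · intro h1
    have hb : (coef t k).2 = 0 := by
      by_contra hb
      apply hM ((1 - (coef t k).1) / (coef t k).2)
      have h3 : (coef t k).2 • M = (1 - (coef t k).1) • (1 : Matrix (Fin 2) (Fin 2) F) := by
        rw [sub_smul, one_smul, eq_sub_iff_add_eq, add_comm]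
        exact h1
      calc M = (coef t k).2⁻¹ • ((coef t k).2 • M) := by
            rw [smul_smul, inv_mul_cancel₀ hb, one_smul]
        _ = _ := by rw [h3, smul_smul, div_eq_inv_mul]
    rw [hb, zero_smul, add_zero] at h1
    have h4 := congrFun (congrFun h1 0) 0
    simp at h4
    exact Prod.ext h4 hb
  · intro h1
    rw [h1]
    simp

/-- the order of a non-scalar element of `SL₂` only depends on its trace -/
theorem orderOf_eq_of_trace_eq (g g' : SpecialLinearGroup (Fin 2) F)
    (hg : ∀ c : F, (g : Matrix (Fin 2) (Fin 2) F) ≠ c • (1 : Matrix (Fin 2) (Fin 2) F))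
    (hg' : ∀ c : F, (g' : Matrix (Fin 2) (Fin 2) F) ≠ c • (1 : Matrix (Fin 2) (Fin 2) F))
    (ht : (g : Matrix (Fin 2) (Fin 2) F).trace = (g' : Matrix (Fin 2) (Fin 2) F).trace) :
    orderOf g = orderOf g' := by
  rw [orderOf_eq_orderOf_iff]
  intro k
  have e1 : g ^ k = 1 ↔ (g : Matrix (Fin 2) (Fin 2) F) ^ k = 1 := by
    constructor
    · intro h
      rw [← Matrix.SpecialLinearGroup.coe_pow, h, Matrix.SpecialLinearGroup.coe_one]
    · intro h
      apply Subtype.ext
      rw [Matrix.SpecialLinearGroup.coe_pow, h, Matrix.SpecialLinearGroup.coe_one]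
  have e2 : g' ^ k = 1 ↔ (g' : Matrix (Fin 2) (Fin 2) F) ^ k = 1 := by
    constructor
    · intro h
      rw [← Matrix.SpecialLinearGroup.coe_pow, h, Matrix.SpecialLinearGroup.coe_one]
    · intro h
      apply Subtype.ext
      rw [Matrix.SpecialLinearGroup.coe_pow, h, Matrix.SpecialLinearGroup.coe_one]
  rw [e1, e2, pow_eq_one_iff_coef _ _ (SL2.sq_eq _ g.2) hg, pow_eq_one_iff_coef _ _ (SL2.sq_eq _ g'.2) hg', ht]

section char2

variable (h2 : (2 : F) = 0)
include h2

/-- in characteristic two a non-identity element of `SL₂` is not scalar -/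
theorem not_scalar (g : SpecialLinearGroup (Fin 2) F) (hg : g ≠ 1) (c : F) :
    (g : Matrix (Fin 2) (Fin 2) F) ≠ c • (1 : Matrix (Fin 2) (Fin 2) F) := by
  intro h
  apply hg
  have hdet := g.2
  rw [h, Matrix.det_smul, Matrix.det_one, Fintype.card_fin, mul_one] at hdet
  have hc : c = 1 := by
    have : (c - 1) ^ 2 = 0 := by linear_combination hdet + (1 - c) * h2
    exact sub_eq_zero.mp ((pow_eq_zero_iff (two_ne_zero)).mp this)
  apply Subtype.ext
  rw [h, hc, one_smul, Matrix.SpecialLinearGroup.coe_one]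

/-- the companion matrix of `X² + t X + 1` -/
def comp (t : F) : SpecialLinearGroup (Fin 2) F :=
  ⟨!![0, 1; 1, t], by rw [Matrix.det_fin_two_of]; linear_combination -h2⟩

theorem coe_comp (t : F) : (comp h2 t : Matrix (Fin 2) (Fin 2) F) = !![0, 1; 1, t] := rfl

theorem trace_comp (t : F) : (comp h2 t : Matrix (Fin 2) (Fin 2) F).trace = t := by
  rw [coe_comp, Matrix.trace_fin_two_of, zero_add]

theorem comp_ne_one (t : F) : comp h2 t ≠ 1 := by
  intro h
  have := congrArg (fun M : SpecialLinearGroup (Fin 2) F => (M : Matrix (Fin 2) (Fin 2) F) 0 1) h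
  simp [coe_comp] at this

omit h2 in
theorem aniso_of_no_root (t : F) (ht : ∀ l : F, l ^ 2 + t * l + 1 ≠ 0) (a b : F)
    (h : N t a b = 0) : a = 0 ∧ b = 0 := by
  have hb : b = 0 := by
    by_contra hb
    apply ht (a / b)
    unfold N at h
    field_simp
    linear_combination h
  subst hb
  refine ⟨?_, rfl⟩
  unfold N at h
  simpa using h

variable [Fintype F]

/-- order of the centraliser of a non-identity element, by trace -/
theorem card_centralizer_cases (g : SpecialLinearGroup (Fin 2) F) (hg : g ≠ 1) :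
    let C := Nat.card (Subgroup.centralizer ({g} : Set (SpecialLinearGroup (Fin 2) F)))
    ((g : Matrix (Fin 2) (Fin 2) F).trace = 0 → C = Fintype.card F) ∧
    (∀ l : F, (g : Matrix (Fin 2) (Fin 2) F).trace ≠ 0 →
      l ^ 2 + (g : Matrix (Fin 2) (Fin 2) F).trace * l + 1 = 0 → C = Fintype.card F - 1) ∧
    ((∀ l : F, l ^ 2 + (g : Matrix (Fin 2) (Fin 2) F).trace * l + 1 ≠ 0) →
      C = Fintype.card F + 1) := by
  intro C
  have hC : C = _ := card_centralizer g (not_scalar h2 g hg)
  refine ⟨?_, ?_, ?_⟩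
  · intro ht
    rw [hC, ht, card_trace_zero h2]
  · intro l ht hl
    rw [hC, card_split h2 _ l hl ht]
  · intro ht
    rw [hC, card_aniso h2 _ (aniso_of_no_root _ ht)]

/-- existence of a non-split torus in companion form -/
theorem exists_torus : ∃ t : F, (∀ l : F, l ^ 2 + t * l + 1 ≠ 0) ∧
    orderOf (comp h2 t) = Fintype.card F + 1 := by
  obtain ⟨g, hg⟩ := Torus.exists_orderOf_eq_of_dvd_add_one (F := F) (dvd_refl (Fintype.card F + 1))
  have hq : 2 ≤ Fintype.card F := Fintype.one_lt_card
  have hg1 : g ≠ 1 := by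
    rintro rfl
    rw [orderOf_one] at hg
    omega
  have hle : Fintype.card F + 1 ≤
      Nat.card (Subgroup.centralizer ({g} : Set (SpecialLinearGroup (Fin 2) F))) := by
    rw [← hg, ← Nat.card_zpowers]
    apply Subgroup.card_le_of_le
    rw [Subgroup.zpowers_le]
    exact Subgroup.mem_centralizer_singleton_iff.mpr rfl
  obtain ⟨c1, c2, c3⟩ := card_centralizer_cases h2 g hg1
  have hroot : ∀ l : F, l ^ 2 + (g : Matrix (Fin 2) (Fin 2) F).trace * l + 1 ≠ 0 := by
    intro l hl
    by_cases ht : (g : Matrix (Fin 2) (Fin 2) F).trace = 0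
    · have := c1 ht
      omega
    · have := c2 l ht hl
      omega
  refine ⟨(g : Matrix (Fin 2) (Fin 2) F).trace, hroot, ?_⟩
  rw [← hg]
  apply orderOf_eq_of_trace_eq _ _ (not_scalar h2 _ (comp_ne_one h2 _)) (not_scalar h2 _ hg1)
  rw [trace_comp]

end char2

end Cfsg.Agent.helper11.SL2Tori
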