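import Mathlib
import Cfsg.Agent.Lib_helper11_SL2Tori3

set_option autoImplicit false

/-!
# `SL₂(F) = A U A` in characteristic two, `A` the non-split torus and `U` the unipotent group
-/

namespace Cfsg.Agent.helper11.SL2Tori

open Matrix

variable {F : Type*} [Field F]

section char2

variable (h2 : (2 : F) = 0)
include h2

/-- the norm-one elements of `F[comp t]` in matrix form -/
def tor (t a b : F) (h : N t a b = 1) : SpecialLinearGroup (Fin 2) F :=
  ⟨!![a, b; b, a + t * b], by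
    rw [Matrix.det_fin_two_of]; unfold N at h; linear_combination h - b ^ 2 * h2⟩

theorem coe_tor (t a b : F) (h : N t a b = 1) :
    (tor h2 t a b h : Matrix (Fin 2) (Fin 2) F) = !![a, b; b, a + t * b] := rfl

theorem tor_mem (t a b : F) (h : N t a b = 1) :
    tor h2 t a b h ∈ Subgroup.centralizer ({comp h2 t} : Set (SpecialLinearGroup (Fin 2) F)) := by
  refine Subgroup.mem_centralizer_singleton_iff.mpr ?_
  apply Subtype.ext
  rw [Matrix.SpecialLinearGroup.coe_mul, Matrix.SpecialLinearGroup.coe_mul, coe_tor, coe_comp]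
  ext i j
  fin_cases i <;> fin_cases j <;> simp [Matrix.mul_apply, Fin.sum_univ_two] <;> ring

variable [Fintype F]

theorem exists_pair (t : F) (ht : ∀ l : F, l ^ 2 + t * l + 1 ≠ 0) (x y z w : F)
    (hdet : x * w - y * z = 1) :
    ∃ a b : F, N t a b = 1 ∧ N t (x * a + y * b) (z * a + w * b) = 1 := by
  have key : ∀ a b : F, N t (x * a + y * b) (z * a + w * b) =
      N t x z * a ^ 2 + t * a * b + N t y w * b ^ 2 := by
    intro a b
    unfold N
    linear_combination (a * b * t) * hdet + (a * b * (t * y * z + x * y + z * w)) * h2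
  set lam := sqrt h2 (N t x z + 1) with hlam
  set mu := sqrt h2 (N t y w + 1) with hmu
  have hl2 : lam ^ 2 = N t x z + 1 := sqrt_sq h2 _
  have hm2 : mu ^ 2 = N t y w + 1 := sqrt_sq h2 _
  by_cases h0 : lam = 0 ∧ mu = 0
  · refine ⟨1, 0, ?_, ?_⟩
    · unfold N; ring
    · rw [key]
      rw [h0.1] at hl2
      linear_combination -hl2 - h2
  · have hne : N t mu lam ≠ 0 := by
      intro h
      obtain ⟨h1, h3⟩ := aniso_of_no_root t ht _ _ h
      exact h0 ⟨h3, h1⟩
    set s := (sqrt h2 (N t mu lam))⁻¹ with hs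
    have hs2 : s ^ 2 * N t mu lam = 1 := by
      rw [hs, inv_pow, sqrt_sq]
      exact inv_mul_cancel₀ hne
    refine ⟨s * mu, s * lam, ?_, ?_⟩
    · rw [N_smul]; exact hs2
    · rw [key]
      have e : N t (s * mu) (s * lam) = 1 := by rw [N_smul]; exact hs2
      unfold N at e
      linear_combination e - (s * mu) ^ 2 * hl2 - (s * lam) ^ 2 * hm2 +
        (s ^ 2 * mu ^ 2 * lam ^ 2 - (s * mu) ^ 2 - (s * lam) ^ 2) * h2

/-- `SL₂(F) = A U A` for the non-split torus `A` and the unipotent group `U` -/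
theorem aba (t : F) (ht : ∀ l : F, l ^ 2 + t * l + 1 ≠ 0) (h : SpecialLinearGroup (Fin 2) F) :
    ∃ a ∈ Subgroup.centralizer ({comp h2 t} : Set (SpecialLinearGroup (Fin 2) F)), ∃ s : F,
      ∃ c ∈ Subgroup.centralizer ({comp h2 t} : Set (SpecialLinearGroup (Fin 2) F)),
        h = a * SL2U.uS s * c := by
  have hdet : (h : Matrix (Fin 2) (Fin 2) F) 0 0 * (h : Matrix (Fin 2) (Fin 2) F) 1 1 -
      (h : Matrix (Fin 2) (Fin 2) F) 0 1 * (h : Matrix (Fin 2) (Fin 2) F) 1 0 = 1 := by
    have := h.2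
    rw [Matrix.det_fin_two] at this
    exact this
  obtain ⟨a, b, hab, hab'⟩ := exists_pair h2 t ht _ _ _ _ hdet
  set A₁ := tor h2 t a b hab with hA₁
  set A₂ := tor h2 t _ _ hab' with hA₂
  set u := A₂⁻¹ * h * A₁ with hu
  have hucoe : (u : Matrix (Fin 2) (Fin 2) F) =
      Matrix.adjugate (A₂ : Matrix (Fin 2) (Fin 2) F) * (h : Matrix (Fin 2) (Fin 2) F) *
        (A₁ : Matrix (Fin 2) (Fin 2) F) := by
    rw [hu, Matrix.SpecialLinearGroup.coe_mul, Matrix.SpecialLinearGroup.coe_mul,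
      Matrix.SpecialLinearGroup.coe_inv]
  rw [hA₁, hA₂, coe_tor, coe_tor, Matrix.adjugate_fin_two_of] at hucoe
  unfold N at hab hab'
  have hu00 : (u : Matrix (Fin 2) (Fin 2) F) 0 0 = 1 := by
    rw [hucoe]
    simp only [Matrix.mul_apply, Fin.sum_univ_two, Matrix.of_apply, Matrix.cons_val',
      Matrix.cons_val_zero, Matrix.cons_val_one, Matrix.empty_val', Matrix.cons_val_fin_one]
    linear_combination hab' - ((h : Matrix (Fin 2) (Fin 2) F) 1 0 * a + (h : Matrix (Fin 2) (Fin 2) F) 1 1 * b) ^ 2 * h2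
  have hu10 : (u : Matrix (Fin 2) (Fin 2) F) 1 0 = 0 := by
    rw [hucoe]
    simp only [Matrix.mul_apply, Fin.sum_univ_two, Matrix.of_apply, Matrix.cons_val',
      Matrix.cons_val_zero, Matrix.cons_val_one, Matrix.empty_val', Matrix.cons_val_fin_one]
    ring
  have hu11 : (u : Matrix (Fin 2) (Fin 2) F) 1 1 = 1 := by
    have := u.2
    rw [Matrix.det_fin_two, hu00, hu10] at this
    linear_combination this
  have hueq : u = SL2U.uS ((u : Matrix (Fin 2) (Fin 2) F) 0 1) := by
    apply Subtype.ext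
    rw [SL2U.coe_uS]
    ext i j
    fin_cases i <;> fin_cases j <;> simp [hu00, hu10, hu11]
  refine ⟨A₂, tor_mem h2 _ _ _ _, (u : Matrix (Fin 2) (Fin 2) F) 0 1, A₁⁻¹,
    Subgroup.inv_mem _ (tor_mem h2 _ _ _ _), ?_⟩
  rw [← hueq, hu]
  group

end char2

end Cfsg.Agent.helper11.SL2Tori
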