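import Mathlib
import Cfsg.Agent.Lib_helper11_CA5
import Cfsg.Agent.Lib_helper11_SL2Tori4

set_option autoImplicit false

/-!
# `SL₂(F)` in characteristic two satisfies the axioms of the CA counting theorem
-/

namespace Cfsg.Agent.helper11.CA

open Matrix Cfsg.Agent.helper11.SL2U

variable {F : Type*} [Field F]

theorem commute_iff_mat {a b : SpecialLinearGroup (Fin 2) F} :
    Commute a b ↔ (a : Matrix (Fin 2) (Fin 2) F) * b = b * a := by
  constructor
  · intro h
    have := congrArg Subtype.val h.eq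
    rwa [Matrix.SpecialLinearGroup.coe_mul, Matrix.SpecialLinearGroup.coe_mul] at this
  · intro h
    show a * b = b * a
    apply Subtype.ext
    rw [Matrix.SpecialLinearGroup.coe_mul, Matrix.SpecialLinearGroup.coe_mul]; exact h

theorem isCA_SL2 (h2 : (2 : F) = 0) : IsCA (SpecialLinearGroup (Fin 2) F) := by
  intro x hx a b ha hb
  have hns := SL2Tori.not_scalar h2 x hx
  obtain ⟨α, β, hα⟩ := SL2Tori.exists_span_of_commute x.1 a.1 hns (commute_iff_mat.mp ha)
  obtain ⟨γ, δ, hγ⟩ := SL2Tori.exists_span_of_commute x.1 b.1 hns (commute_iff_mat.mp hb)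
  rw [commute_iff_mat]
  show (a.1 : Matrix _ _ F) * b.1 = b.1 * a.1
  rw [hα, hγ]
  have h1 : Commute (α • (1 : Matrix (Fin 2) (Fin 2) F) + β • x.1)
      (γ • (1 : Matrix (Fin 2) (Fin 2) F) + δ • x.1) := by
    apply Commute.add_left
    · exact (Commute.one_left _).smul_left α
    · apply Commute.smul_left
      apply Commute.add_right
      · exact (Commute.one_right _).smul_right γ
      · exact (Commute.refl _).smul_right δ
  exact h1.eq

theorem h2_SL2 [Fintype F] [CharP F 2] (x : SpecialLinearGroup (Fin 2) F) :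
    x ^ 2 = 1 ∨ Odd (orderOf x) := by
  haveI : Fact (Nat.Prime 2) := ⟨Nat.prime_two⟩
  have h2 : (2 : F) = 0 := CharTwo.two_eq_zero
  obtain ⟨n, -, hn⟩ := FiniteField.card F 2
  have hn0 : (n : ℕ) ≠ 0 := n.ne_zero
  have heven : Even (Fintype.card F) := by rw [hn]; exact (Nat.even_pow.mpr ⟨even_two, hn0⟩)
  rcases SL2.sl2_pow_trichotomy 2 x with h | h | h
  · right
    have hodd : Odd (Fintype.card F - 1) := by
      have : 2 ≤ Fintype.card F := Fintype.one_lt_card
      exact Nat.Even.sub_odd (by omega) heven odd_one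
    exact Odd.of_dvd_nat hodd (orderOf_dvd_of_pow_eq_one h)
  · right
    exact Odd.of_dvd_nat (heven.add_one) (orderOf_dvd_of_pow_eq_one h)
  · left
    exact PSL2Char2.sq_eq_one_of_pow_four h2 x h

theorem hinv_SL2 (h2 : (2 : F) = 0) (x g : SpecialLinearGroup (Fin 2) F) (hx : x ^ 2 ≠ 1)
    (hc : Commute (g * x * g⁻¹) x) : g * x * g⁻¹ = x ∨ g * x * g⁻¹ = x⁻¹ := by
  have hx1 : x ≠ 1 := by rintro rfl; exact hx (one_pow 2)
  have hns := SL2Tori.not_scalar h2 x hx1
  obtain ⟨y, hy⟩ : ∃ y, y = g * x * g⁻¹ := ⟨_, rfl⟩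
  rw [← hy] at hc ⊢
  obtain ⟨α, β, hαβ⟩ := SL2Tori.exists_span_of_commute x.1 y.1 hns (commute_iff_mat.mp hc)
  obtain ⟨t, ht⟩ : ∃ t, t = (x.1).trace := ⟨_, rfl⟩
  have hsq : x.1 * x.1 = t • x.1 - 1 := by rw [ht]; exact SL2.sq_eq x.1 x.2
  have hty : (y.1).trace = t := by
    rw [hy, ht, Matrix.SpecialLinearGroup.coe_mul, Matrix.SpecialLinearGroup.coe_mul,
      Matrix.trace_mul_cycle, ← Matrix.SpecialLinearGroup.coe_mul, inv_mul_cancel,
      Matrix.SpecialLinearGroup.coe_one, one_mul]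
  have ht0 : t ≠ 0 := by
    intro h0
    apply hx
    apply Subtype.ext
    rw [Matrix.SpecialLinearGroup.coe_pow, sq, hsq, h0, zero_smul, zero_sub,
      PSL2Char2.neg_one_eq_one h2, Matrix.SpecialLinearGroup.coe_one]
  have htr : (y.1).trace = 2 * α + β * t := by
    rw [hαβ, Matrix.trace_add, Matrix.trace_smul, Matrix.trace_smul, Matrix.trace_one, ← ht]
    simp only [Fintype.card_fin, smul_eq_mul, Nat.cast_ofNat]
    ring
  have hβ : β = 1 := by
    have h1 : (β - 1) * t = 0 := by linear_combination (htr.symm.trans hty) - α * h2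
    rcases mul_eq_zero.mp h1 with h | h
    · exact sub_eq_zero.mp h
    · exact absurd h ht0
  have hdet : α ^ 2 + t * α * β + β ^ 2 = 1 := by
    have := SL2Tori.det_span x.1 x.2 α β
    rw [← hαβ, y.2, ← ht] at this
    exact this.symm
  rw [hβ] at hdet hαβ
  have hα : α * (α + t) = 0 := by linear_combination hdet
  rcases mul_eq_zero.mp hα with h | h
  · left
    apply Subtype.ext
    rw [hαβ, h, zero_smul, zero_add, one_smul]
  · right
    apply eq_inv_of_mul_eq_one_left
    apply Subtype.ext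
    rw [Matrix.SpecialLinearGroup.coe_mul, hαβ, one_smul, add_mul, smul_mul_assoc, one_mul, hsq,
      Matrix.SpecialLinearGroup.coe_one]
    have : α • x.1 + (t • x.1 - 1) = (α + t) • x.1 - (1 : Matrix (Fin 2) (Fin 2) F) := by module
    rw [this, h, zero_smul, zero_sub, PSL2Char2.neg_one_eq_one h2]

/-- an involution of `SL₂(F)` is conjugate to an upper unitriangular matrix -/
theorem exists_conj_uS [Fintype F] [CharP F 2] (V : SpecialLinearGroup (Fin 2) F)
    (hV : V ^ 2 = 1) (hV1 : V ≠ 1) :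
    ∃ (k : SpecialLinearGroup (Fin 2) F) (s : F), s ≠ 0 ∧ k * V * k⁻¹ = uS s := by
  haveI : Fact (Nat.Prime 2) := ⟨Nat.prime_two⟩
  have hp : IsPGroup 2 (Subgroup.zpowers V) := by
    apply IsPGroup.of_card (n := 1)
    rw [Nat.card_zpowers, pow_one]
    exact orderOf_eq_prime hV hV1
  obtain ⟨Q, hQ⟩ := hp.exists_le_sylow
  obtain ⟨g, hg⟩ := MulAction.exists_smul_eq (SpecialLinearGroup (Fin 2) F) (USylow (F := F) 2) Q
  have hVQ : V ∈ Q := hQ (Subgroup.mem_zpowers V)
  rw [← hg, SL2U.mem_smul_sylow_iff] at hVQ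
  have hVU : g⁻¹ * V * g ∈ U F := by rw [← coe_USylow 2]; exact hVQ
  obtain ⟨s, hs⟩ := exists_of_mem_U hVU
  refine ⟨g⁻¹, s, ?_, by rw [inv_inv]; exact hs⟩
  rintro rfl
  rw [uS_zero] at hs
  apply hV1
  have : V = g * (g⁻¹ * V * g) * g⁻¹ := by group
  rw [this, hs]; group

theorem commute_conj_uS_iff (s : F) (hs : s ≠ 0) (g : SpecialLinearGroup (Fin 2) F) :
    Commute (g * uS s * g⁻¹) (uS s) ↔ g.1 1 0 = 0 := by
  have hM := PSL2Char2.conj_uS g s
  constructor
  · intro h
    have h1 := commute_iff_mat.mp h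
    rw [hM, coe_uS] at h1
    have h00 := congrFun (congrFun h1 0) 0
    rw [PSL2Char2.mul_apply00, PSL2Char2.mul_apply00] at h00
    simp only [Matrix.of_apply, Matrix.cons_val', Matrix.cons_val_zero, Matrix.cons_val_one,
      Matrix.cons_val_fin_one] at h00
    have h3 : (g.1 1 0 * s) ^ 2 = 0 := by linear_combination h00
    have h4 := (pow_eq_zero_iff (two_ne_zero)).mp h3
    rcases mul_eq_zero.mp h4 with h | h
    · exact h
    · exact absurd h hs
  · intro h
    have : g * uS s * g⁻¹ = uS (g.1 0 0 ^ 2 * s) := by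
      apply Subtype.ext
      rw [hM, coe_uS, h]; simp
    rw [this]
    show uS _ * uS s = uS s * uS _
    rw [← uS_add, ← uS_add, add_comm]

theorem hbor_SL2 [Fintype F] [CharP F 2] (x g y : SpecialLinearGroup (Fin 2) F) (hx1 : x ≠ 1)
    (hx2 : x ^ 2 = 1) (hg : Commute (g * x * g⁻¹) x) (hgx : ¬ Commute g x)
    (hy : Commute y g) : Commute (y * x * y⁻¹) x := by
  have h2 : (2 : F) = 0 := CharTwo.two_eq_zero
  obtain ⟨k, s, hs, hk⟩ := exists_conj_uS x hx2 hx1
  have key : ∀ n : SpecialLinearGroup (Fin 2) F,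
      Commute (n * x * n⁻¹) x ↔ (k * n * k⁻¹).1 1 0 = 0 := by
    intro n
    have e : k * (n * x * n⁻¹) * k⁻¹ = (k * n * k⁻¹) * uS s * (k * n * k⁻¹)⁻¹ := by
      rw [← hk]; group
    rw [← Commute.conj_iff k, e, hk, commute_conj_uS_iff s hs]
  rw [key] at hg ⊢
  have hg1 : k * g * k⁻¹ ≠ 1 := by
    intro h
    apply hgx
    have : g = 1 := by
      have := congrArg (fun z => k⁻¹ * z * k) h
      simpa [mul_assoc] using this
    rw [this]; exact Commute.one_left x
  have hyg : Commute (k * y * k⁻¹) (k * g * k⁻¹) := (Commute.conj_iff k).mpr hy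
  obtain ⟨α, β, hαβ⟩ := SL2Tori.exists_span_of_commute (k * g * k⁻¹).1 (k * y * k⁻¹).1
    (SL2Tori.not_scalar h2 _ hg1) (commute_iff_mat.mp hyg)
  rw [hαβ, Matrix.add_apply, Matrix.smul_apply, Matrix.smul_apply, hg]
  simp

end Cfsg.Agent.helper11.CA
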