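import Mathlib
import Cfsg.Agent.Lib_helper11_CA6
import Cfsg.Agent.Lib_helper12_Card

set_option autoImplicit false

/-!
# Subfield subgroups `SL₂(K) ≤ SL₂(F)` in characteristic two are maximal when `[F:K]` is prime
-/

namespace Cfsg.Agent.helper11.CA

open Matrix Cfsg.Agent.helper11.SL2U

/-! ### arithmetic -/

/-- the order of `SL₂(2^a)` -/
def fq (a : ℕ) : ℕ := 2 ^ a * ((2 ^ a) ^ 2 - 1)

theorem fq_lt {a b : ℕ} (hab : a < b) : fq a < fq b := by
  unfold fq
  have h1 : 2 ^ a < 2 ^ b := Nat.pow_lt_pow_right (by norm_num) hab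
  have h2 : (2 ^ a) ^ 2 ≤ (2 ^ b) ^ 2 := Nat.pow_le_pow_left h1.le 2
  have hb : 1 ≤ b := by omega
  have h3 : 2 ^ 1 ≤ 2 ^ b := Nat.pow_le_pow_right (by norm_num) hb
  have h4 : 2 ^ 2 ≤ (2 ^ b) ^ 2 := Nat.pow_le_pow_left h3 2
  have hpos : 0 < (2 ^ b) ^ 2 - 1 := by omega
  calc 2 ^ a * ((2 ^ a) ^ 2 - 1) ≤ 2 ^ a * ((2 ^ b) ^ 2 - 1) :=
        Nat.mul_le_mul_left _ (Nat.sub_le_sub_right h2 1)
    _ < 2 ^ b * ((2 ^ b) ^ 2 - 1) := Nat.mul_lt_mul_of_pos_right h1 hpos

theorem fq_injective : Function.Injective fq := by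
  intro a b h
  rcases lt_trichotomy a b with h1 | h1 | h1
  · have := fq_lt h1; omega
  · exact h1
  · have := fq_lt h1; omega

theorem fq_eq (m : ℕ) : 2 ^ m * (2 ^ m - 1) * (2 ^ m + 1) = fq m := by
  unfold fq
  have h1 : 1 ≤ 2 ^ m := Nat.one_le_two_pow
  obtain ⟨v, hv⟩ : ∃ v, 2 ^ m = v + 1 := ⟨2 ^ m - 1, by omega⟩
  rw [hv]
  have e1 : v + 1 - 1 = v := by omega
  have e2 : (v + 1) ^ 2 - 1 = v * (v + 1 + 1) := by
    have : (v + 1) ^ 2 = v * (v + 1 + 1) + 1 := by ring
    omega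
  rw [e1, e2]; ring

theorem fq_dvd {a b : ℕ} (ha : 1 ≤ a) (h : fq a ∣ fq b) : a ∣ b := by
  unfold fq at h
  have e4 : ∀ c : ℕ, (2 ^ c) ^ 2 = 4 ^ c := by
    intro c
    rw [← pow_mul, mul_comm, pow_mul]; norm_num
  rw [e4, e4] at h
  have h1 : 4 ^ a - 1 ∣ 2 ^ b * (4 ^ b - 1) := (dvd_mul_left _ _).trans h
  have hodd : Odd (4 ^ a - 1) := by
    have he : Even (4 ^ a) := (Nat.even_pow.mpr ⟨by decide, by omega⟩)
    exact Nat.Even.sub_odd (Nat.one_le_pow _ _ (by norm_num)) he odd_one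
  have hcop : Nat.Coprime (4 ^ a - 1) (2 ^ b) :=
    Nat.Coprime.pow_right b (Odd.coprime_two_right hodd)
  have h2 : 4 ^ a - 1 ∣ 4 ^ b - 1 := (Nat.Coprime.dvd_mul_left hcop).mp h1
  have h3 := Nat.gcd_eq_left h2
  rw [Nat.pow_sub_one_gcd_pow_sub_one] at h3
  have h5 : 1 ≤ 4 ^ a := Nat.one_le_pow _ _ (by norm_num)
  have h6 : 1 ≤ 4 ^ (Nat.gcd a b) := Nat.one_le_pow _ _ (by norm_num)
  have h7 : 4 ^ (Nat.gcd a b) = 4 ^ a := by omega
  have h8 := Nat.pow_right_injective (by norm_num : 2 ≤ 4) h7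
  rw [← h8]
  exact Nat.gcd_dvd_right a b

theorem mid_cases {n m r : ℕ} (hn : 1 ≤ n) (hr : r.Prime) (h1 : n ∣ m) (h2 : m ∣ n * r) :
    m = n ∨ m = n * r := by
  obtain ⟨j, rfl⟩ := h1
  have hj : j ∣ r := Nat.dvd_of_mul_dvd_mul_left (by omega) h2
  rcases (Nat.dvd_prime hr).mp hj with h | h
  · left; rw [h, mul_one]
  · right; rw [h]

/-! ### general CA lemma -/

theorem odd_cnum {H : Type*} [Group H] [Finite H]
    (h2 : ∀ x : H, x ^ 2 = 1 ∨ Odd (orderOf x)) {z : H} (hz : z ^ 2 ≠ 1) :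
    ¬ 2 ∣ cnum z := by
  intro hdvd
  haveI : Fact (Nat.Prime 2) := ⟨Nat.prime_two⟩
  rw [cnum_eq] at hdvd
  obtain ⟨y, hy⟩ := exists_prime_orderOf_dvd_card' (G := Cent z) 2 hdvd
  have hy1 : (y : H) ≠ 1 := by
    intro h
    have : y = 1 := Subtype.ext h
    rw [this, orderOf_one] at hy; omega
  have hy2 : (y : H) ^ 2 = 1 := by
    have := pow_orderOf_eq_one y
    rw [hy] at this
    exact congrArg Subtype.val this
  exact hz (sq_eq_one_of_commute_invol h2 hy1 hy2 ((mem_Cent.mp y.2).symm))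

/-! ### field embeddings -/

theorem exists_ringHom_of_card (K F : Type*) [Field K] [Fintype K] [Field F] [Fintype F]
    [CharP K 2] [CharP F 2] (a b : ℕ) (hK : Fintype.card K = 2 ^ a) (hF : Fintype.card F = 2 ^ b)
    (hab : a ∣ b) : Nonempty (K →+* F) := by
  haveI : Fact (Nat.Prime 2) := ⟨Nat.prime_two⟩
  letI : Algebra (ZMod 2) K := ZMod.algebra K 2
  letI : Algebra (ZMod 2) F := ZMod.algebra F 2
  have h1 : 2 ^ Module.finrank (ZMod 2) K = 2 ^ a := by
    rw [FiniteField.pow_finrank_eq_card 2 K, hK]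
  have h1' := Nat.pow_right_injective (le_refl 2) h1
  have h2 : 2 ^ Module.finrank (ZMod 2) F = 2 ^ b := by
    rw [FiniteField.pow_finrank_eq_card 2 F, hF]
  have h2' := Nat.pow_right_injective (le_refl 2) h2
  obtain ⟨f⟩ := FiniteField.nonempty_algHom_of_finrank_dvd (F := ZMod 2) (K := K) (L := F)
    (by rw [h1', h2']; exact hab)
  exact ⟨f.toRingHom⟩

/-! ### the subfield subgroup -/

section

variable {K F : Type*} [Field K] [Field F]

theorem sl2map_injective (ι : K →+* F) :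
    Function.Injective (Matrix.SpecialLinearGroup.map (n := Fin 2) ι) := by
  intro a b h
  apply Subtype.ext
  ext i j
  have := congrArg (fun M : SpecialLinearGroup (Fin 2) F => M.1 i j) h
  simp only [Matrix.SpecialLinearGroup.map_apply_coe, RingHom.mapMatrix_apply,
    Matrix.map_apply] at this
  exact ι.injective this

theorem map_uS (ι : K →+* F) (s : K) :
    Matrix.SpecialLinearGroup.map (n := Fin 2) ι (uS s) = uS (ι s) := by
  apply Subtype.ext
  ext i j
  fin_cases i <;> fin_cases j <;> simp [coe_uS]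

theorem map_lS (ι : K →+* F) (s : K) :
    Matrix.SpecialLinearGroup.map (n := Fin 2) ι (lS s) = lS (ι s) := by
  apply Subtype.ext
  ext i j
  fin_cases i <;> fin_cases j <;> simp [coe_lS]

theorem card_range_map [Fintype K] (ι : K →+* F) :
    Nat.card (Matrix.SpecialLinearGroup.map (n := Fin 2) ι).range
      = Fintype.card K * (Fintype.card K ^ 2 - 1) := by
  rw [← Cfsg.Agent.helper12.card_SL2]
  exact Nat.card_congr (MonoidHom.ofInjective (sl2map_injective ι)).symm.toEquiv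

end

section maximal

variable {K F : Type*} [Field K] [Fintype K] [Field F] [Fintype F] [CharP F 2]

theorem isCoatom_range_map (ι : K →+* F) (n r : ℕ) (hn : 2 ≤ n) (hr : r.Prime)
    (hK : Fintype.card K = 2 ^ n) (hF : Fintype.card F = 2 ^ (n * r)) :
    IsCoatom (Matrix.SpecialLinearGroup.map (n := Fin 2) ι).range := by
  classical
  have h2F : (2 : F) = 0 := CharTwo.two_eq_zero
  obtain ⟨H₀, hH₀⟩ : ∃ H₀, H₀ = (Matrix.SpecialLinearGroup.map (n := Fin 2) ι).range := ⟨_, rfl⟩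
  rw [← hH₀]
  have hcH : Nat.card H₀ = fq n := by rw [hH₀, card_range_map, hK]; rfl
  have hcG : Nat.card (SpecialLinearGroup (Fin 2) F) = fq (n * r) := by
    rw [Cfsg.Agent.helper12.card_SL2, hF]; rfl
  have hr2 : 2 ≤ r := hr.two_le
  have hlt : n < n * r := by nlinarith
  constructor
  · intro htop
    have h1 : Nat.card H₀ = Nat.card (SpecialLinearGroup (Fin 2) F) := by
      rw [htop, Subgroup.card_top]
    rw [hcH, hcG] at h1
    have := fq_injective h1
    omega
  · intro L hL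
    have hle : H₀ ≤ L := hL.le
    have huH : ∀ s : K, uS (ι s) ∈ H₀ := by
      intro s; rw [hH₀]; exact ⟨uS s, map_uS ι s⟩
    have hlH : ∀ s : K, lS (ι s) ∈ H₀ := by
      intro s; rw [hH₀]; exact ⟨lS s, map_lS ι s⟩
    have hu1 : uS (1 : F) ∈ L := by have := hle (huH 1); rwa [map_one] at this
    have hl1 : lS (1 : F) ∈ L := by have := hle (hlH 1); rwa [map_one] at this
    have hdvd1 : fq n ∣ Nat.card L := by rw [← hcH]; exact Subgroup.card_dvd_of_le hle
    have hdvd2 : Nat.card L ∣ fq (n * r) := by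
      rw [← hcG]; exact Subgroup.card_subgroup_dvd_card L
    obtain ⟨x, hx⟩ : ∃ x : L, x = ⟨uS 1, hu1⟩ := ⟨_, rfl⟩
    have hx1 : x ≠ 1 := by
      intro h
      have h1 : (x : SpecialLinearGroup (Fin 2) F) = 1 := by rw [h]; rfl
      rw [hx] at h1
      have h3 : uS (1 : F) = uS 0 := by rw [uS_zero]; exact h1
      exact one_ne_zero (uS_injective h3)
    have hx2 : x ^ 2 = 1 := by
      apply Subtype.ext
      rw [hx]
      show uS (1 : F) ^ 2 = 1
      rw [sq, ← uS_add, CharTwo.add_self_eq_zero, uS_zero]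
    have hCA := (isCA_SL2 h2F).subgroup L
    have hh2 := h2_subgroup (h2_SL2 (F := F)) L
    have hhinv := hinv_subgroup (hinv_SL2 h2F) L
    have hhbor := hbor_subgroup (hbor_SL2 (F := F)) L
    rcases main_even hCA hh2 hhinv hhbor x hx1 hx2 with
      hA | ⟨z, hz2, hzc⟩ | ⟨m, g, w, hm2, -, -, hcard, -⟩
    · exfalso
      have h' : Commute (lS (1 : F) * uS 1 * (lS 1)⁻¹) (uS 1) := by
        have := coe_commute.mpr (hA ⟨lS 1, hl1⟩)
        rw [hx] at this
        exact this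
      have := (commute_conj_uS_iff 1 one_ne_zero (lS (1 : F))).mp h'
      simp [coe_lS] at this
    · exfalso
      have hodd := odd_cnum hh2 hz2
      have h4 : 4 ∣ fq n := by
        unfold fq
        exact dvd_mul_of_dvd_left (pow_dvd_pow 2 hn) _
      have h4' : 4 ∣ 2 * cnum z := by rw [hzc]; exact h4.trans hdvd1
      apply hodd
      obtain ⟨c, hc⟩ := h4'
      exact ⟨c, by omega⟩
    · rw [fq_eq] at hcard
      rw [hcard] at hdvd1 hdvd2
      have h1 := fq_dvd (by omega) hdvd1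
      have h2 : m ∣ n * r := fq_dvd (by omega) hdvd2
      rcases mid_cases (by omega) hr h1 h2 with h | h
      · exfalso
        have : H₀ = L := Subgroup.eq_of_le_of_card_ge hle (by rw [hcard, hcH, h])
        exact hL.ne this
      · rw [← Subgroup.card_eq_iff_eq_top, hcard, hcG, h]

end maximal

end Cfsg.Agent.helper11.CA
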