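import Mathlib
import Cfsg.Agent.Lib_helper11_CA7

set_option autoImplicit false

/-!
# Structure of `SL₂(F)`, `F` finite of characteristic two: normalisers of centralisers
-/

namespace Cfsg.Agent.helper11.CA

open Matrix Cfsg.Agent.helper11.SL2U

variable {F : Type*} [Field F]

/-- the antidiagonal involution -/
def jS (h2 : (2 : F) = 0) : SpecialLinearGroup (Fin 2) F :=
  ⟨!![0, 1; 1, 0], by rw [Matrix.det_fin_two_of]; linear_combination -h2⟩

theorem coe_jS (h2 : (2 : F) = 0) : (jS h2 : Matrix (Fin 2) (Fin 2) F) = !![0, 1; 1, 0] := rfl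

theorem inv_uS (h2 : (2 : F) = 0) (z : SpecialLinearGroup (Fin 2) F) (e : F)
    (he : e * z.1 1 0 = z.1 0 0 + z.1 1 1) : uS e * z = z⁻¹ * uS e := by
  apply Subtype.ext
  rw [Matrix.SpecialLinearGroup.coe_mul, Matrix.SpecialLinearGroup.coe_mul,
    Matrix.SpecialLinearGroup.coe_inv, coe_uS, Matrix.adjugate_fin_two]
  ext i j
  fin_cases i <;> fin_cases j <;> simp [Matrix.mul_apply, Fin.sum_univ_two]
  · linear_combination he + z.1 0 0 * h2
  · linear_combination z.1 0 1 * h2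
  · linear_combination z.1 1 0 * h2
  · linear_combination he + z.1 1 1 * h2

theorem inv_lS (h2 : (2 : F) = 0) (z : SpecialLinearGroup (Fin 2) F) (e : F)
    (he : e * z.1 0 1 = z.1 0 0 + z.1 1 1) : lS e * z = z⁻¹ * lS e := by
  apply Subtype.ext
  rw [Matrix.SpecialLinearGroup.coe_mul, Matrix.SpecialLinearGroup.coe_mul,
    Matrix.SpecialLinearGroup.coe_inv, coe_lS, Matrix.adjugate_fin_two]
  ext i j
  fin_cases i <;> fin_cases j <;> simp [Matrix.mul_apply, Fin.sum_univ_two]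
  · linear_combination he + z.1 0 0 * h2
  · linear_combination z.1 0 1 * h2
  · linear_combination z.1 1 0 * h2
  · linear_combination he + z.1 1 1 * h2

theorem inv_jS (h2 : (2 : F) = 0) (z : SpecialLinearGroup (Fin 2) F)
    (hb : z.1 0 1 = 0) (hc : z.1 1 0 = 0) : jS h2 * z = z⁻¹ * jS h2 := by
  apply Subtype.ext
  rw [Matrix.SpecialLinearGroup.coe_mul, Matrix.SpecialLinearGroup.coe_mul,
    Matrix.SpecialLinearGroup.coe_inv, coe_jS, Matrix.adjugate_fin_two]
  ext i j
  fin_cases i <;> fin_cases j <;> simp [Matrix.mul_apply, Fin.sum_univ_two, hb, hc]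

theorem lS_mul_self (h2 : (2 : F) = 0) (e : F) : lS e * lS e = 1 := by
  apply Subtype.ext
  rw [Matrix.SpecialLinearGroup.coe_mul, coe_lS, Matrix.SpecialLinearGroup.coe_one]
  ext i j
  fin_cases i <;> fin_cases j <;> simp [Matrix.mul_apply, Fin.sum_univ_two]
  linear_combination e * h2

theorem uS_mul_self (h2 : (2 : F) = 0) (e : F) : uS e * uS e = 1 := by
  rw [← uS_add, ← uS_zero]
  congr 1
  linear_combination e * h2

theorem jS_mul_self (h2 : (2 : F) = 0) : jS h2 * jS h2 = 1 := by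
  apply Subtype.ext
  rw [Matrix.SpecialLinearGroup.coe_mul, coe_jS, Matrix.SpecialLinearGroup.coe_one]
  ext i j
  fin_cases i <;> fin_cases j <;> simp [Matrix.mul_apply, Fin.sum_univ_two]

/-- every element of `SL₂(F)` is inverted by an involution -/
theorem exists_inverting_SL2 (h2 : (2 : F) = 0) (z : SpecialLinearGroup (Fin 2) F) :
    ∃ w : SpecialLinearGroup (Fin 2) F, w * z * w⁻¹ = z⁻¹ ∧ w * w = 1 := by
  by_cases hc : z.1 1 0 = 0
  · by_cases hb : z.1 0 1 = 0
    · refine ⟨jS h2, ?_, jS_mul_self h2⟩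
      rw [inv_jS h2 z hb hc, mul_inv_cancel_right]
    · refine ⟨lS ((z.1 0 0 + z.1 1 1) / z.1 0 1), ?_, lS_mul_self h2 _⟩
      rw [inv_lS h2 z _ (div_mul_cancel₀ _ hb), mul_inv_cancel_right]
  · refine ⟨uS ((z.1 0 0 + z.1 1 1) / z.1 1 0), ?_, uS_mul_self h2 _⟩
    rw [inv_uS h2 z _ (div_mul_cancel₀ _ hc), mul_inv_cancel_right]

theorem trace_ne_zero_of_sq_ne (h2 : (2 : F) = 0) (x : SpecialLinearGroup (Fin 2) F)
    (hx : x ^ 2 ≠ 1) : (x.1).trace ≠ 0 := by
  intro h0
  apply hx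
  apply Subtype.ext
  rw [Matrix.SpecialLinearGroup.coe_pow, sq, SL2.sq_eq x.1 x.2, h0, zero_smul, zero_sub,
    PSL2Char2.neg_one_eq_one h2, Matrix.SpecialLinearGroup.coe_one]

theorem trace_eq_zero_of_sq (h2 : (2 : F) = 0) (x : SpecialLinearGroup (Fin 2) F)
    (hx : x ^ 2 = 1) : (x.1).trace = 0 := by
  have h1 : x.1 * x.1 = 1 := by
    have := congrArg Subtype.val hx
    rwa [Matrix.SpecialLinearGroup.coe_pow, sq, Matrix.SpecialLinearGroup.coe_one] at this
  have h3 := SL2.sq_eq x.1 x.2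
  rw [h1] at h3
  -- 1 = t • x - 1
  have h4 : (x.1).trace • x.1 = 0 := by
    have : (x.1).trace • x.1 = (1 : Matrix (Fin 2) (Fin 2) F) + 1 :=
      sub_eq_iff_eq_add.mp h3.symm
    rw [this, ← two_smul F (1 : Matrix (Fin 2) (Fin 2) F), h2, zero_smul]
  have h5 : ((x.1).trace • x.1) * x.1 = 0 := by rw [h4, zero_mul]
  rw [smul_mul_assoc, h1] at h5
  have := congrFun (congrFun h5 0) 0
  simpa using this

section finite

variable [Fintype F] [CharP F 2]

theorem cnum_SL2 (z : SpecialLinearGroup (Fin 2) F) (hz : z ^ 2 ≠ 1) :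
    cnum z = Fintype.card F - 1 ∨ cnum z = Fintype.card F + 1 := by
  have h2 : (2 : F) = 0 := CharTwo.two_eq_zero
  have hz1 : z ≠ 1 := ne_one_of_sq_ne hz
  obtain ⟨-, c2, c3⟩ := SL2Tori.card_centralizer_cases h2 z hz1
  have ht := trace_ne_zero_of_sq_ne h2 z hz
  rw [cnum_eq]
  by_cases hroot : ∃ l : F, l ^ 2 + (z.1).trace * l + 1 = 0
  · obtain ⟨l, hl⟩ := hroot
    left
    exact c2 l ht hl
  · push Not at hroot
    right
    exact c3 hroot

theorem card_SL2_ge (h4 : 4 ≤ Fintype.card F) :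
    2 * (Fintype.card F + 1) < Nat.card (SpecialLinearGroup (Fin 2) F) := by
  rw [Cfsg.Agent.helper12.card_SL2]
  obtain ⟨k, hk⟩ : ∃ k, Fintype.card F = k + 4 := ⟨Fintype.card F - 4, by omega⟩
  rw [hk]
  have e : (k + 4) ^ 2 - 1 = k * k + 8 * k + 15 := by
    have : (k + 4) ^ 2 = k * k + 8 * k + 16 := by ring
    omega
  rw [e]
  nlinarith

theorem Nor_ne_top (h4 : 4 ≤ Fintype.card F) (z : SpecialLinearGroup (Fin 2) F)
    (hz : z ^ 2 ≠ 1) :
    Nor (isCA_SL2 (CharTwo.two_eq_zero (R := F))) (ne_one_of_sq_ne hz) ≠ ⊤ := by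
  have h2 : (2 : F) = 0 := CharTwo.two_eq_zero
  intro htop
  have h1 := nnum_le_two_mul (isCA_SL2 h2) (hinv_SL2 h2) hz
  rw [nnum_eq (isCA_SL2 h2) (ne_one_of_sq_ne hz), htop, Subgroup.card_top] at h1
  have h3 := card_SL2_ge h4
  rcases cnum_SL2 z hz with h | h <;> omega

theorem Cent_lt_Nor (z : SpecialLinearGroup (Fin 2) F) (hz : z ^ 2 ≠ 1) :
    Cent z < Nor (isCA_SL2 (CharTwo.two_eq_zero (R := F))) (ne_one_of_sq_ne hz) := by
  have h2 : (2 : F) = 0 := CharTwo.two_eq_zero
  refine lt_of_le_of_ne (Cent_le_Nor _ _) ?_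
  intro heq
  obtain ⟨w, hw, -⟩ := exists_inverting_SL2 h2 z
  have hwN : w ∈ Nor (isCA_SL2 h2) (ne_one_of_sq_ne hz) := by
    rw [mem_Nor, hw]
    exact (Commute.refl z).inv_left
  rw [← heq, mem_Cent] at hwN
  apply hz
  have h3 : w * z * w⁻¹ = z := by rw [hwN.eq, mul_inv_cancel_right]
  rw [hw] at h3
  rw [sq]
  calc z * z = z * z⁻¹⁻¹ := by rw [inv_inv]
    _ = z * (z⁻¹)⁻¹ := rfl
    _ = 1 := by rw [h3, mul_inv_cancel]

/-- a maximal subgroup of `SL₂(F)` has even order -/
theorem even_card_of_isCoatom (h4 : 4 ≤ Fintype.card F)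
    (M : Subgroup (SpecialLinearGroup (Fin 2) F)) (hM : IsCoatom M) : 2 ∣ Nat.card M := by
  have h2 : (2 : F) = 0 := CharTwo.two_eq_zero
  by_contra hodd
  have hoddM : ∀ y : M, Odd (orderOf y) := by
    intro y
    have h1 : orderOf y ∣ Nat.card M := orderOf_dvd_natCard y
    rw [← Nat.not_even_iff_odd]
    intro he
    exact hodd ((even_iff_two_dvd.mp he).trans h1)
  have hab := abelian_of_odd ((isCA_SL2 h2).subgroup M) hoddM (hinv_subgroup (hinv_SL2 h2) M)
  obtain ⟨z, hz, hle⟩ : ∃ z : SpecialLinearGroup (Fin 2) F, z ^ 2 ≠ 1 ∧ M ≤ Cent z := by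
    by_cases hbot : M = ⊥
    · refine ⟨uS 1 * lS 1, ?_, by rw [hbot]; exact bot_le⟩
      intro hsq
      have := trace_eq_zero_of_sq h2 _ hsq
      rw [Matrix.SpecialLinearGroup.coe_mul, coe_uS, coe_lS, Matrix.trace_fin_two] at this
      simp [Matrix.mul_apply, Fin.sum_univ_two] at this
      have h3 : (1 : F) = 0 := by linear_combination this - h2
      exact one_ne_zero h3
    · obtain ⟨y, hy1⟩ := (Subgroup.ne_bot_iff_exists_ne_one).mp hbot
      refine ⟨(y : SpecialLinearGroup (Fin 2) F), ?_, ?_⟩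
      · intro hsq
        apply hy1
        have hy2 : y ^ 2 = 1 := Subtype.ext hsq
        have h5 : orderOf y ∣ 2 := orderOf_dvd_of_pow_eq_one hy2
        have h6 := hoddM y
        have h7 : orderOf y = 1 := by
          rcases (Nat.dvd_prime Nat.prime_two).mp h5 with h | h
          · exact h
          · rw [h] at h6; exact absurd h6 (by decide)
        exact orderOf_eq_one_iff.mp h7
      · intro g hg
        rw [mem_Cent]
        exact coe_commute.mpr (hab ⟨g, hg⟩ y)
  have hlt : M < Nor (isCA_SL2 h2) (ne_one_of_sq_ne hz) :=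
    lt_of_le_of_lt hle (Cent_lt_Nor z hz)
  exact Nor_ne_top h4 z hz (hM.2 _ hlt)

theorem card_upper : Nat.card {g : SpecialLinearGroup (Fin 2) F // g.1 1 0 = 0}
    = Fintype.card F * (Fintype.card F - 1) := by
  classical
  have e : {g : SpecialLinearGroup (Fin 2) F // g.1 1 0 = 0} ≃ Fˣ × F :=
    { toFun := fun g => (Units.mk0 (g.1.1 0 0) (by
          intro h0
          have hdet := g.1.2
          rw [Matrix.det_fin_two, h0, g.2] at hdet
          simp at hdet), g.1.1 0 1)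
      invFun := fun p => ⟨⟨!![(p.1 : F), p.2; 0, ((p.1 : F))⁻¹], by
          rw [Matrix.det_fin_two_of]; simp⟩, by simp⟩
      left_inv := by
        intro g
        apply Subtype.ext
        apply Subtype.ext
        have hdet := g.1.2
        rw [Matrix.det_fin_two, g.2, mul_zero, sub_zero] at hdet
        ext i j
        fin_cases i <;> fin_cases j <;> simp
        · exact g.2.symm
        · exact (eq_inv_of_mul_eq_one_right hdet).symm
      right_inv := by
        intro p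
        apply Prod.ext
        · apply Units.ext; simp
        · simp }
  rw [Nat.card_congr e, Nat.card_prod, Nat.card_eq_fintype_card, Nat.card_eq_fintype_card,
    Fintype.card_units, mul_comm]

omit [Fintype F] [CharP F 2] in
theorem nor_iff {x k : SpecialLinearGroup (Fin 2) F} {s : F} (hs : s ≠ 0)
    (hk : k * x * k⁻¹ = uS s) (n : SpecialLinearGroup (Fin 2) F) :
    Commute (n * x * n⁻¹) x ↔ (k * n * k⁻¹).1 1 0 = 0 := by
  have e : k * (n * x * n⁻¹) * k⁻¹ = (k * n * k⁻¹) * uS s * (k * n * k⁻¹)⁻¹ := by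
    rw [← hk]; group
  rw [← Commute.conj_iff k, e, hk, commute_conj_uS_iff s hs]

/-- the normaliser of a Sylow 2-subgroup has order `q (q - 1)` -/
theorem nnum_invol_SL2 (x : SpecialLinearGroup (Fin 2) F) (hx1 : x ≠ 1) (hx2 : x ^ 2 = 1) :
    nnum x = Fintype.card F * (Fintype.card F - 1) := by
  obtain ⟨k, s, hs, hk⟩ := exists_conj_uS x hx2 hx1
  rw [← card_upper]
  unfold nnum
  exact Nat.card_congr (Equiv.subtypeEquiv (MulAut.conj k).toEquiv (fun n => by
    rw [nor_iff hs hk n]; rfl))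

end finite

end Cfsg.Agent.helper11.CA
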