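import Mathlib
import Cfsg.Agent.Lib_helper11_CA8
import Cfsg.Agent.Lib_helper11_DihPres

set_option autoImplicit false

/-!
# Tori of `SL₂(F)` in characteristic two are cyclic; their normalisers are dihedral
-/

namespace Cfsg.Agent.helper11.CA

open Matrix Cfsg.Agent.helper11.SL2U

theorem dihedral_of_gen {G : Type*} [Group G] (N : Subgroup G) [Finite N] (n : ℕ) [NeZero n]
    (t w : G) (ht : orderOf t = n) (hw : w * w = 1) (hwt : w * t * w⁻¹ = t⁻¹)
    (hwn : w ∉ Subgroup.zpowers t) (htN : t ∈ N) (hwN : w ∈ N) (hcard : Nat.card N = 2 * n) :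
    Nonempty (N ≃* DihedralGroup n) := by
  have htn : t ^ n = 1 := by rw [← ht]; exact pow_orderOf_eq_one t
  obtain ⟨φ, hφ⟩ : ∃ φ, φ = DihPres.dihHom t w htn hw hwt := ⟨_, rfl⟩
  have hinj : Function.Injective φ := by
    rw [hφ]; exact DihPres.dihHom_injective htn ht hw hwt hwn
  have hle : φ.range ≤ N := by
    rintro _ ⟨u, rfl⟩
    rcases u with i | i
    · rw [hφ, DihPres.dihHom_r htn hw hwt]; exact N.pow_mem htN _
    · rw [hφ, DihPres.dihHom_sr htn hw hwt]; exact N.mul_mem hwN (N.pow_mem htN _)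
  have hc : Nat.card φ.range = 2 * n := by
    rw [← Nat.card_congr (MonoidHom.ofInjective hinj).toEquiv, DihedralGroup.nat_card]
  have heq : φ.range = N := Subgroup.eq_of_le_of_card_ge hle (by rw [hc, hcard])
  exact ⟨((MonoidHom.ofInjective hinj).trans (MulEquiv.subgroupCongr heq)).symm⟩

variable {F : Type*} [Field F]

theorem span_unique {Z : Matrix (Fin 2) (Fin 2) F}
    (hZ : ∀ c : F, Z ≠ c • (1 : Matrix (Fin 2) (Fin 2) F)) {a b a' b' : F}
    (h : a • (1 : Matrix (Fin 2) (Fin 2) F) + b • Z = a' • 1 + b' • Z) : a = a' ∧ b = b' := by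
  have hb : b = b' := by
    by_contra hne
    have hne' : b - b' ≠ 0 := sub_ne_zero.mpr hne
    apply hZ ((a' - a) / (b - b'))
    have h1 : (b - b') • Z = (a' - a) • (1 : Matrix (Fin 2) (Fin 2) F) := by
      rw [sub_smul, sub_smul, sub_eq_sub_iff_add_eq_add, add_comm]; exact h
    calc Z = (b - b')⁻¹ • ((b - b') • Z) := by rw [smul_smul, inv_mul_cancel₀ hne', one_smul]
      _ = ((a' - a) / (b - b')) • 1 := by rw [h1, smul_smul, div_eq_inv_mul]
  subst hb
  refine ⟨?_, rfl⟩
  have h1 := add_right_cancel h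
  have := congrFun (congrFun h1 0) 0
  simpa using this

theorem span_mul (Z : Matrix (Fin 2) (Fin 2) F) (t : F) (hsq : Z * Z = t • Z - 1)
    (a b a' b' : F) :
    (a • (1 : Matrix (Fin 2) (Fin 2) F) + b • Z) * (a' • 1 + b' • Z)
      = (a * a' - b * b') • 1 + (a * b' + b * a' + b * b' * t) • Z := by
  simp only [add_mul, mul_add, smul_mul_smul_comm, mul_one, one_mul, hsq]
  module

/-- the centraliser of an element of odd order is cyclic -/
theorem cyclic_Cent [Finite F] (h2 : (2 : F) = 0) (z : SpecialLinearGroup (Fin 2) F)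
    (hz : z ^ 2 ≠ 1) : IsCyclic (Cent z) := by
  have hz1 : z ≠ 1 := ne_one_of_sq_ne hz
  have hns := SL2Tori.not_scalar h2 z hz1
  obtain ⟨t, ht⟩ : ∃ t, t = (z.1).trace := ⟨_, rfl⟩
  have ht0 : t ≠ 0 := by rw [ht]; exact trace_ne_zero_of_sq_ne h2 z hz
  have hsq : z.1 * z.1 = t • z.1 - 1 := by rw [ht]; exact SL2.sq_eq z.1 z.2
  obtain ⟨ι, hι⟩ : ∃ ι : F →+* AlgebraicClosure F, ι = algebraMap F (AlgebraicClosure F) :=
    ⟨_, rfl⟩
  have hinj : Function.Injective ι := ι.injective
  have h2E : (2 : AlgebraicClosure F) = 0 := by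
    have h : ι 2 = 0 := by rw [h2, map_zero]
    rwa [map_ofNat] at h
  -- the eigenvalue
  obtain ⟨l, hl⟩ : ∃ l : AlgebraicClosure F, l ^ 2 - ι t * l + 1 = 0 := by
    have hdeg : (Polynomial.C (1 : AlgebraicClosure F) * Polynomial.X ^ 2
        + Polynomial.C (-(ι t)) * Polynomial.X + Polynomial.C 1).degree ≠ 0 := by
      rw [Polynomial.degree_quadratic one_ne_zero]; decide
    obtain ⟨l, hl⟩ := IsAlgClosed.exists_root _ hdeg
    refine ⟨l, ?_⟩
    simp only [Polynomial.IsRoot, Polynomial.eval_add, Polynomial.eval_mul, Polynomial.eval_C,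
      Polynomial.eval_pow, Polynomial.eval_X] at hl
    linear_combination hl
  -- coefficients
  have hex : ∀ y : Cent z, ∃ p : F × F,
      ((y : SpecialLinearGroup (Fin 2) F) : Matrix (Fin 2) (Fin 2) F)
        = p.1 • (1 : Matrix (Fin 2) (Fin 2) F) + p.2 • z.1 := fun y => by
    obtain ⟨a, b, h⟩ := SL2Tori.exists_span_of_commute z.1
      ((y : SpecialLinearGroup (Fin 2) F) : Matrix (Fin 2) (Fin 2) F) hns
      (commute_iff_mat.mp (mem_Cent.mp y.2))
    exact ⟨(a, b), h⟩
  choose c hc using hex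
  have hc1 : c 1 = (1, 0) := by
    have h1 := hc 1
    have h3 : ((1 : Cent z) : SpecialLinearGroup (Fin 2) F).1
        = (1 : F) • (1 : Matrix (Fin 2) (Fin 2) F) + (0 : F) • z.1 := by
      rw [one_smul, zero_smul, add_zero]; rfl
    rw [h3] at h1
    obtain ⟨e1, e2⟩ := span_unique hns h1
    exact Prod.ext e1.symm e2.symm
  have hcmul : ∀ y y' : Cent z, c (y * y') =
      ((c y).1 * (c y').1 - (c y).2 * (c y').2,
        (c y).1 * (c y').2 + (c y).2 * (c y').1 + (c y).2 * (c y').2 * t) := by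
    intro y y'
    have h1 := hc (y * y')
    have h3 : ((y * y' : Cent z) : SpecialLinearGroup (Fin 2) F).1
        = (y : SpecialLinearGroup (Fin 2) F).1 * (y' : SpecialLinearGroup (Fin 2) F).1 := by
      rw [Subgroup.coe_mul, Matrix.SpecialLinearGroup.coe_mul]
    rw [h3, hc y, hc y', span_mul z.1 t hsq] at h1
    obtain ⟨e1, e2⟩ := span_unique hns h1
    exact Prod.ext e1.symm e2.symm
  obtain ⟨φ, hφ⟩ : ∃ φ : Cent z →* AlgebraicClosure F,
      ∀ y, φ y = ι (c y).1 + ι (c y).2 * l := by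
    refine ⟨{ toFun := fun y => ι (c y).1 + ι (c y).2 * l, map_one' := ?_, map_mul' := ?_ },
      fun y => rfl⟩
    · simp only [hc1, map_one, map_zero, zero_mul, add_zero]
    · intro y y'
      simp only [hcmul, map_sub, map_add, map_mul]
      linear_combination (-(ι (c y).2 * ι (c y').2)) * hl
  have hφinj : Function.Injective φ := by
    rw [injective_iff_map_eq_one]
    intro y hy
    rw [hφ] at hy
    have hdet : (c y).1 ^ 2 + t * (c y).1 * (c y).2 + (c y).2 ^ 2 = 1 := by
      have := SL2Tori.det_span z.1 z.2 (c y).1 (c y).2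
      rw [← hc y, (y : SpecialLinearGroup (Fin 2) F).2, ← ht] at this
      exact this.symm
    have hdetE := congrArg ι hdet
    simp only [map_add, map_mul, map_pow, map_one] at hdetE
    have hB : ι (c y).2 * ι t = 0 := by
      linear_combination hdetE - (ι (c y).2) ^ 2 * hl + (ι (c y).2 * l) * h2E
        - (1 - ι (c y).2 * l + ι (c y).1 + ι t * ι (c y).2) * hy
    have hb0 : (c y).2 = 0 := by
      rcases mul_eq_zero.mp hB with h | h
      · exact hinj (by rw [h, map_zero])
      · exact absurd (hinj (by rw [h, map_zero])) ht0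
    rw [hb0, map_zero, zero_mul, add_zero] at hy
    have ha1 : (c y).1 = 1 := hinj (by rw [hy, map_one])
    apply Subtype.ext
    apply Subtype.ext
    rw [hc y, hb0, ha1, one_smul, zero_smul, add_zero]
    rfl
  haveI : Finite (SpecialLinearGroup (Fin 2) F) := by
    haveI := Fintype.ofFinite F
    classical
    exact Finite.of_fintype _
  exact isCyclic_of_subgroup_isDomain φ hφinj

/-- the normaliser of a torus is dihedral -/
theorem nor_dihedral [Fintype F] [CharP F 2] (z : SpecialLinearGroup (Fin 2) F)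
    (hz : z ^ 2 ≠ 1) :
    Nonempty (Nor (isCA_SL2 (CharTwo.two_eq_zero (R := F))) (ne_one_of_sq_ne hz) ≃*
      DihedralGroup (cnum z)) := by
  classical
  have h2 : (2 : F) = 0 := CharTwo.two_eq_zero
  have hCA := isCA_SL2 h2
  have hz1 := ne_one_of_sq_ne hz
  haveI := cyclic_Cent h2 z hz
  obtain ⟨t₀, ht₀⟩ := IsCyclic.exists_generator (α := Cent z)
  have hord : orderOf t₀ = Nat.card (Cent z) := orderOf_eq_card_of_forall_mem_zpowers ht₀
  have hordG : orderOf (t₀ : SpecialLinearGroup (Fin 2) F) = cnum z := by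
    rw [Subgroup.orderOf_coe, hord, cnum_eq]
  have h3 := three_le_cnum hz
  haveI : NeZero (cnum z) := ⟨by omega⟩
  have ht₀sq : (t₀ : SpecialLinearGroup (Fin 2) F) ^ 2 ≠ 1 := by
    intro h
    have h5 := orderOf_dvd_of_pow_eq_one h
    rw [hordG] at h5
    have := Nat.le_of_dvd (by norm_num) h5
    omega
  have ht₀1 := ne_one_of_sq_ne ht₀sq
  have ht₀z : Commute (t₀ : SpecialLinearGroup (Fin 2) F) z := mem_Cent.mp t₀.2
  obtain ⟨w, hw, hww⟩ := exists_inverting_SL2 h2 z
  have hwN : Commute (w * z * w⁻¹) z := by rw [hw]; exact (Commute.refl z).inv_left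
  have hwnc : ¬ Commute w z := by
    intro h
    apply hz
    have h3 : w * z * w⁻¹ = z := by rw [h.eq, mul_inv_cancel_right]
    rw [hw] at h3
    rw [sq]
    calc z * z = z * (z⁻¹)⁻¹ := by rw [inv_inv]
      _ = 1 := by rw [h3, mul_inv_cancel]
  have hc1 : Commute (w * (t₀ : SpecialLinearGroup (Fin 2) F) * w⁻¹) z :=
    norm_conj hCA hz1 hwN ht₀z
  have hc2 : Commute (w * (t₀ : SpecialLinearGroup (Fin 2) F) * w⁻¹) t₀ :=
    hCA z hz1 _ _ hc1 ht₀z
  have hinvt : w * (t₀ : SpecialLinearGroup (Fin 2) F) * w⁻¹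
      = (t₀ : SpecialLinearGroup (Fin 2) F)⁻¹ := by
    rcases hinv_SL2 h2 _ w ht₀sq hc2 with h | h
    · exfalso
      apply hwnc
      have hwt : Commute w (t₀ : SpecialLinearGroup (Fin 2) F) := by
        show w * _ = _ * w
        exact mul_inv_eq_iff_eq_mul.mp h
      exact hCA _ ht₀1 w z hwt ht₀z.symm
    · exact h
  have hwn : w ∉ Subgroup.zpowers (t₀ : SpecialLinearGroup (Fin 2) F) := by
    intro h
    apply hwnc
    have hle : Subgroup.zpowers (t₀ : SpecialLinearGroup (Fin 2) F) ≤ Cent z := by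
      rw [Subgroup.zpowers_le]; exact t₀.2
    exact mem_Cent.mp (hle h)
  have hcard : Nat.card (Nor hCA hz1) = 2 * cnum z := by
    rw [← nnum_eq hCA hz1]
    rcases nnum_cases hCA (hinv_SL2 h2) hz with h | h
    · exfalso
      have hlt := Cent_lt_Nor z hz
      have : Cent z = Nor hCA hz1 :=
        Subgroup.eq_of_le_of_card_ge hlt.le (by rw [← nnum_eq hCA hz1, h, cnum_eq])
      exact hlt.ne this
    · exact h
  exact dihedral_of_gen (Nor hCA hz1) (cnum z) (t₀ : SpecialLinearGroup (Fin 2) F) w hordG hww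
    hinvt hwn (Cent_le_Nor hCA hz1 t₀.2) hwN hcard

end Cfsg.Agent.helper11.CA
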