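import Mathlib
import Cfsg.Agent.Lib_helper11_CA9

set_option autoImplicit false

/-!
# Recognising subfield subgroups of `SL₂(F)` in characteristic two
-/

namespace Cfsg.Agent.helper11.CA

open Matrix Cfsg.Agent.helper11.SL2U

variable {F : Type*} [Field F]

/-- diagonal matrices -/
def dS (γ : F) (hγ : γ ≠ 0) : SpecialLinearGroup (Fin 2) F :=
  ⟨!![γ, 0; 0, γ⁻¹], by rw [Matrix.det_fin_two_of]; simp [hγ]⟩

theorem coe_dS (γ : F) (hγ : γ ≠ 0) :
    (dS γ hγ : Matrix (Fin 2) (Fin 2) F) = !![γ, 0; 0, γ⁻¹] := rfl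

theorem dS_mul_uS (γ : F) (hγ : γ ≠ 0) (a : F) :
    dS γ hγ * uS a = uS (γ ^ 2 * a) * dS γ hγ := by
  apply Subtype.ext
  rw [Matrix.SpecialLinearGroup.coe_mul, Matrix.SpecialLinearGroup.coe_mul, coe_dS, coe_uS, coe_uS]
  ext i j
  fin_cases i <;> fin_cases j <;> simp [Matrix.mul_apply, Fin.sum_univ_two]
  field_simp

theorem dS_mul_lS (γ : F) (hγ : γ ≠ 0) (a : F) :
    dS γ hγ * lS a = lS ((γ⁻¹) ^ 2 * a) * dS γ hγ := by
  apply Subtype.ext
  rw [Matrix.SpecialLinearGroup.coe_mul, Matrix.SpecialLinearGroup.coe_mul, coe_dS, coe_lS, coe_lS]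
  ext i j
  fin_cases i <;> fin_cases j <;> simp [Matrix.mul_apply, Fin.sum_univ_two]
  field_simp

theorem uS_ne_one {s : F} (hs : s ≠ 0) : uS s ≠ 1 := by
  intro h; rw [← uS_zero] at h; exact hs (uS_injective h)

theorem lS_injective : Function.Injective (lS : F → SpecialLinearGroup (Fin 2) F) := by
  intro a b h
  have := congrArg (fun M : SpecialLinearGroup (Fin 2) F => M.1 1 0) h
  simpa [coe_lS] using this

theorem lS_ne_one {s : F} (hs : s ≠ 0) : lS s ≠ 1 := by
  intro h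
  have := congrArg (fun M : SpecialLinearGroup (Fin 2) F => M.1 1 0) h
  simp [coe_lS] at this
  exact hs this

theorem eq_uS_of_commute (h2 : (2 : F) = 0) {s : F} (hs : s ≠ 0)
    (y : SpecialLinearGroup (Fin 2) F) (hy : Commute y (uS s)) : ∃ a, y = uS a := by
  obtain ⟨α, β, h⟩ := SL2Tori.exists_span_of_commute (uS s).1 y.1
    (SL2Tori.not_scalar h2 _ (uS_ne_one hs)) (commute_iff_mat.mp hy)
  have h00 : y.1 0 0 = α + β := by rw [h, coe_uS]; simp
  have h01 : y.1 0 1 = β * s := by rw [h, coe_uS]; simp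
  have h10 : y.1 1 0 = 0 := by rw [h, coe_uS]; simp
  have h11 : y.1 1 1 = α + β := by rw [h, coe_uS]; simp
  have hdet := y.2
  rw [Matrix.det_fin_two, h00, h01, h10, h11] at hdet
  have h1 : α + β = 1 := by
    have : (α + β - 1) ^ 2 = 0 := by linear_combination hdet + (1 - α - β) * h2
    exact sub_eq_zero.mp ((pow_eq_zero_iff two_ne_zero).mp this)
  refine ⟨β * s, ?_⟩
  apply Subtype.ext
  rw [coe_uS]
  ext i j
  fin_cases i <;> fin_cases j <;> simp [h00, h01, h10, h11, h1]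

theorem eq_lS_of_commute (h2 : (2 : F) = 0) {s : F} (hs : s ≠ 0)
    (y : SpecialLinearGroup (Fin 2) F) (hy : Commute y (lS s)) : ∃ a, y = lS a := by
  obtain ⟨α, β, h⟩ := SL2Tori.exists_span_of_commute (lS s).1 y.1
    (SL2Tori.not_scalar h2 _ (lS_ne_one hs)) (commute_iff_mat.mp hy)
  have h00 : y.1 0 0 = α + β := by rw [h, coe_lS]; simp
  have h01 : y.1 0 1 = 0 := by rw [h, coe_lS]; simp
  have h10 : y.1 1 0 = β * s := by rw [h, coe_lS]; simp
  have h11 : y.1 1 1 = α + β := by rw [h, coe_lS]; simp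
  have hdet := y.2
  rw [Matrix.det_fin_two, h00, h01, h10, h11] at hdet
  have h1 : α + β = 1 := by
    have : (α + β - 1) ^ 2 = 0 := by linear_combination hdet + (1 - α - β) * h2
    exact sub_eq_zero.mp ((pow_eq_zero_iff two_ne_zero).mp this)
  refine ⟨β * s, ?_⟩
  apply Subtype.ext
  rw [coe_lS]
  ext i j
  fin_cases i <;> fin_cases j <;> simp [h00, h01, h10, h11, h1]

theorem lS_comm (a b : F) : lS a * lS b = lS b * lS a := by
  apply Subtype.ext
  rw [Matrix.SpecialLinearGroup.coe_mul, Matrix.SpecialLinearGroup.coe_mul, coe_lS, coe_lS]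
  ext i j
  fin_cases i <;> fin_cases j <;> simp [Matrix.mul_apply, Fin.sum_univ_two]
  ring

theorem card_uS_mem (h2 : (2 : F) = 0) (L : Subgroup (SpecialLinearGroup (Fin 2) F)) {s : F}
    (hs : s ≠ 0) (hsL : uS s ∈ L) :
    Nat.card {a : F // uS a ∈ L} = cnum (⟨uS s, hsL⟩ : L) := by
  unfold cnum
  apply Nat.card_congr
  refine Equiv.ofBijective (fun a => ⟨⟨uS a.1, a.2⟩, ?_⟩) ⟨?_, ?_⟩
  · apply coe_commute.mp
    show uS a.1 * uS s = uS s * uS a.1
    rw [← uS_add, ← uS_add, add_comm]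
  · intro a b hab
    have := congrArg (fun y => ((y.1 : L) : SpecialLinearGroup (Fin 2) F)) hab
    exact Subtype.ext (uS_injective this)
  · intro y
    obtain ⟨a, ha⟩ := eq_uS_of_commute h2 hs (y.1 : SpecialLinearGroup (Fin 2) F)
      (coe_commute.mpr y.2)
    refine ⟨⟨a, by rw [← ha]; exact y.1.2⟩, ?_⟩
    apply Subtype.ext; apply Subtype.ext; exact ha.symm

theorem card_lS_mem (h2 : (2 : F) = 0) (L : Subgroup (SpecialLinearGroup (Fin 2) F)) {s : F}
    (hs : s ≠ 0) (hsL : lS s ∈ L) :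
    Nat.card {a : F // lS a ∈ L} = cnum (⟨lS s, hsL⟩ : L) := by
  unfold cnum
  apply Nat.card_congr
  refine Equiv.ofBijective (fun a => ⟨⟨lS a.1, a.2⟩, ?_⟩) ⟨?_, ?_⟩
  · apply coe_commute.mp
    exact lS_comm a.1 s
  · intro a b hab
    have := congrArg (fun y => ((y.1 : L) : SpecialLinearGroup (Fin 2) F)) hab
    exact Subtype.ext (lS_injective this)
  · intro y
    obtain ⟨a, ha⟩ := eq_lS_of_commute h2 hs (y.1 : SpecialLinearGroup (Fin 2) F)
      (coe_commute.mpr y.2)
    refine ⟨⟨a, by rw [← ha]; exact y.1.2⟩, ?_⟩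
    apply Subtype.ext; apply Subtype.ext; exact ha.symm

/-! ### traces -/

theorem trace_sq (h2 : (2 : F) = 0) (y : SpecialLinearGroup (Fin 2) F) :
    ((y ^ 2 : SpecialLinearGroup (Fin 2) F).1).trace = (y.1).trace ^ 2 := by
  rw [Matrix.SpecialLinearGroup.coe_pow, sq, SL2.sq_eq y.1 y.2, Matrix.trace_sub,
    Matrix.trace_smul, Matrix.trace_one, smul_eq_mul]
  simp only [Fintype.card_fin, Nat.cast_ofNat]
  linear_combination -h2

theorem trace_pow_two_pow (h2 : (2 : F) = 0) (y : SpecialLinearGroup (Fin 2) F) (j : ℕ) :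
    ((y ^ (2 ^ j) : SpecialLinearGroup (Fin 2) F).1).trace = (y.1).trace ^ (2 ^ j) := by
  induction j with
  | zero => rw [pow_zero, pow_one, pow_one]
  | succ j ih => rw [pow_succ, pow_mul, trace_sq h2, ih, ← pow_mul]

theorem trace_inv (y : SpecialLinearGroup (Fin 2) F) :
    ((y⁻¹ : SpecialLinearGroup (Fin 2) F).1).trace = (y.1).trace := by
  rw [Matrix.SpecialLinearGroup.coe_inv, Matrix.adjugate_fin_two, Matrix.trace_fin_two_of,
    Matrix.trace_fin_two, add_comm]

theorem trace_fixed (h2 : (2 : F) = 0) (y : SpecialLinearGroup (Fin 2) F) (m : ℕ)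
    (hy : y ^ 2 = 1 ∨ y ^ (2 ^ m - 1) = 1 ∨ y ^ (2 ^ m + 1) = 1) :
    (y.1).trace ^ (2 ^ m) = (y.1).trace := by
  have hpos : 1 ≤ 2 ^ m := Nat.one_le_two_pow
  rcases hy with h | h | h
  · rw [trace_eq_zero_of_sq h2 y h, zero_pow (by omega)]
  · rw [← trace_pow_two_pow h2]
    have : y ^ (2 ^ m) = y := by
      have e : 2 ^ m = (2 ^ m - 1) + 1 := by omega
      rw [e, pow_succ, h, one_mul]
    rw [this]
  · rw [← trace_pow_two_pow h2]
    have : y ^ (2 ^ m) = y⁻¹ := by
      apply eq_inv_of_mul_eq_one_left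
      rw [← pow_succ]; exact h
    rw [this, trace_inv]

theorem trace_uS_lS (h2 : (2 : F) = 0) (a b : F) :
    ((uS a * lS b : SpecialLinearGroup (Fin 2) F).1).trace = a * b := by
  rw [Matrix.SpecialLinearGroup.coe_mul, coe_uS, coe_lS, Matrix.trace_fin_two]
  simp [Matrix.mul_apply, Fin.sum_univ_two]
  linear_combination h2

theorem ncard_fixed_le (n : ℕ) (hn : 1 < n) : {y : F | y ^ n = y}.ncard ≤ n := by
  classical
  have hne := FiniteField.X_pow_card_sub_X_ne_zero F hn
  have hsub : {y : F | y ^ n = y} ⊆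
      ↑((Polynomial.X ^ n - Polynomial.X : Polynomial F).roots.toFinset) := by
    intro y hy
    simp only [Finset.mem_coe, Multiset.mem_toFinset, Polynomial.mem_roots hne,
      Polynomial.IsRoot, Polynomial.eval_sub, Polynomial.eval_pow, Polynomial.eval_X]
    exact sub_eq_zero.mpr hy
  calc {y : F | y ^ n = y}.ncard
      ≤ (↑((Polynomial.X ^ n - Polynomial.X : Polynomial F).roots.toFinset) : Set F).ncard :=
        Set.ncard_le_ncard hsub (Finset.finite_toSet _)
    _ = ((Polynomial.X ^ n - Polynomial.X : Polynomial F).roots.toFinset).card :=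
        Set.ncard_coe_finset _
    _ ≤ Multiset.card (Polynomial.X ^ n - Polynomial.X : Polynomial F).roots :=
        Multiset.toFinset_card_le _
    _ ≤ (Polynomial.X ^ n - Polynomial.X : Polynomial F).natDegree := Polynomial.card_roots' _
    _ = n := FiniteField.X_pow_card_sub_X_natDegree_eq F hn

theorem subfield_core [Finite F] (h2 : (2 : F) = 0)
    (L : Subgroup (SpecialLinearGroup (Fin 2) F)) (m : ℕ) (hm : 1 ≤ m)
    (hA : Nat.card {a : F // uS a ∈ L} = 2 ^ m) (hA' : Nat.card {a : F // lS a ∈ L} = 2 ^ m)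
    (h1 : uS 1 ∈ L)
    (htr : ∀ z ∈ L, (z.1).trace ^ (2 ^ m) = (z.1).trace) :
    ∀ y : F, y ^ (2 ^ m) = y → uS y ∈ L ∧ lS y ∈ L := by
  have hn : 1 < 2 ^ m := by
    have : 2 ^ 1 ≤ 2 ^ m := Nat.pow_le_pow_right (by norm_num) hm
    omega
  have hK := ncard_fixed_le (F := F) (2 ^ m) hn
  have hfin : ({y : F | y ^ (2 ^ m) = y}).Finite := Set.toFinite _
  have hA's : {a : F | lS a ∈ L} = {y : F | y ^ (2 ^ m) = y} := by
    apply Set.eq_of_subset_of_ncard_le _ _ hfin
    · intro a ha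
      have hz : uS 1 * lS a ∈ L := L.mul_mem h1 ha
      have := htr _ hz
      rw [trace_uS_lS h2, one_mul] at this
      exact this
    · rw [← Nat.card_coe_set_eq {a : F | lS a ∈ L}]
      show _ ≤ Nat.card {a : F // lS a ∈ L}
      rw [hA']; exact hK
  have hl1 : lS (1 : F) ∈ L := by
    have : (1 : F) ∈ {a : F | lS a ∈ L} := by rw [hA's]; exact one_pow _
    exact this
  have hAs : {a : F | uS a ∈ L} = {y : F | y ^ (2 ^ m) = y} := by
    apply Set.eq_of_subset_of_ncard_le _ _ hfin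
    · intro a ha
      have hz : uS a * lS 1 ∈ L := L.mul_mem ha hl1
      have := htr _ hz
      rw [trace_uS_lS h2, mul_one] at this
      exact this
    · rw [← Nat.card_coe_set_eq {a : F | uS a ∈ L}]
      show _ ≤ Nat.card {a : F // uS a ∈ L}
      rw [hA]; exact hK
  intro y hy
  constructor
  · have : y ∈ {a : F | uS a ∈ L} := by rw [hAs]; exact hy
    exact this
  · have : y ∈ {a : F | lS a ∈ L} := by rw [hA's]; exact hy
    exact this

theorem range_le_of {K : Type*} [Field K] (ι : K →+* F)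
    (L : Subgroup (SpecialLinearGroup (Fin 2) F)) (hu : ∀ y : K, uS (ι y) ∈ L)
    (hl : ∀ y : K, lS (ι y) ∈ L) :
    (Matrix.SpecialLinearGroup.map (n := Fin 2) ι).range ≤ L := by
  have htop : L.comap (Matrix.SpecialLinearGroup.map (n := Fin 2) ι) = ⊤ := by
    apply eq_top_of_uS_lS_mem
    · intro s
      rw [Subgroup.mem_comap, map_uS]; exact hu s
    · intro s
      rw [Subgroup.mem_comap, map_lS]; exact hl s
  rintro _ ⟨h, rfl⟩
  have : h ∈ L.comap (Matrix.SpecialLinearGroup.map (n := Fin 2) ι) := by rw [htop]; trivial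
  exact this

end Cfsg.Agent.helper11.CA
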