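import Mathlib
import Cfsg.Agent.Lib_helper11_CA10

set_option autoImplicit false

/-!
# Maximal subgroups of `SL₂(F)`, `F` finite of characteristic two
-/

namespace Cfsg.Agent.helper11.CA

open Matrix Cfsg.Agent.helper11.SL2U

variable {F : Type*} [Field F]

theorem conj_commute_of_index_two {H : Type*} [Group H] [Finite H] (z : H)
    (h : 2 * cnum z = Nat.card H) (g : H) : Commute (g * z * g⁻¹) z := by
  have hidx : (Cent z).index = 2 := by
    have h1 := Subgroup.card_mul_index (Cent z)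
    rw [← cnum_eq, ← h] at h1
    have hpos := cnum_pos z
    exact Nat.eq_of_mul_eq_mul_left hpos (by rw [h1]; ring)
  haveI := Subgroup.normal_of_index_eq_two hidx
  have hz : z ∈ Cent z := mem_Cent.mpr (Commute.refl z)
  exact mem_Cent.mp (Subgroup.Normal.conj_mem inferInstance z hz g)

theorem pow_fixed_iter (y : F) (a b : ℕ) (h : y ^ (2 ^ a) = y) : y ^ (2 ^ (a * b)) = y := by
  induction b with
  | zero => simp
  | succ b ih => rw [Nat.mul_succ, pow_add, pow_mul, ih, h]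

theorem mem_range_of_fixed [Finite F] {K : Type*} [Field K] [Fintype K] (ι : K →+* F) (a : ℕ)
    (ha : 1 ≤ a) (hK : Fintype.card K = 2 ^ a) (y : F) (hy : y ^ (2 ^ a) = y) :
    ∃ k : K, ι k = y := by
  have hn : 1 < 2 ^ a := by
    have : 2 ^ 1 ≤ 2 ^ a := Nat.pow_le_pow_right (by norm_num) ha
    omega
  have hle := ncard_fixed_le (F := F) (2 ^ a) hn
  have hfin : ({y : F | y ^ (2 ^ a) = y}).Finite := Set.toFinite _
  have heq : Set.range ι = {y : F | y ^ (2 ^ a) = y} := by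
    apply Set.eq_of_subset_of_ncard_le _ _ hfin
    · rintro _ ⟨k, rfl⟩
      show ι k ^ (2 ^ a) = ι k
      rw [← map_pow, ← hK, FiniteField.pow_card]
    · rw [← Nat.card_coe_set_eq (Set.range ι), Nat.card_range_of_injective ι.injective,
        Nat.card_eq_fintype_card, hK]
      exact hle
  have : y ∈ Set.range ι := by rw [heq]; exact hy
  exact this

section finite

variable [Fintype F] [CharP F 2]

/-- two non-commuting involutions can be put in standard position -/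
theorem exists_conj_pair (x x' : SpecialLinearGroup (Fin 2) F) (hx1 : x ≠ 1) (hx2 : x ^ 2 = 1)
    (hx'2 : x' ^ 2 = 1) (hnc : ¬ Commute x' x) :
    ∃ (k : SpecialLinearGroup (Fin 2) F) (c : F), c ≠ 0 ∧ k * x * k⁻¹ = uS 1 ∧
      k * x' * k⁻¹ = lS c := by
  have h2 : (2 : F) = 0 := CharTwo.two_eq_zero
  obtain ⟨k₁, s, hs, hk₁⟩ := exists_conj_uS x hx2 hx1
  obtain ⟨y, hy⟩ : ∃ y, y = k₁ * x' * k₁⁻¹ := ⟨_, rfl⟩
  have hy2 : y ^ 2 = 1 := by rw [hy, conj_pow, hx'2, mul_one, mul_inv_cancel]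
  have htr : y.1 0 0 + y.1 1 1 = 0 := by
    have := trace_eq_zero_of_sq h2 y hy2
    rwa [Matrix.trace_fin_two] at this
  have hdet : y.1 0 0 * y.1 1 1 - y.1 0 1 * y.1 1 0 = 1 := by
    rw [← Matrix.det_fin_two]; exact y.2
  have hc₀ : y.1 1 0 ≠ 0 := by
    intro h0
    apply hnc
    have hyc : Commute y (uS s) := by
      rw [commute_iff_mat, coe_uS]
      ext i j
      fin_cases i <;> fin_cases j <;> simp [Matrix.mul_apply, Fin.sum_univ_two, h0]
      linear_combination s * htr - (s * y.1 1 1) * h2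
    rw [hy, ← hk₁] at hyc
    exact (Commute.conj_iff k₁).mp hyc
  obtain ⟨e, he⟩ : ∃ e, e * y.1 1 0 = y.1 0 0 + 1 :=
    ⟨(y.1 0 0 + 1) / y.1 1 0, div_mul_cancel₀ _ hc₀⟩
  have h01 : y.1 0 1 + e * y.1 1 1 = e := by
    have : y.1 1 0 * (y.1 0 1 + e * y.1 1 1 - e) = 0 := by
      linear_combination (y.1 1 1 - 1) * he + hdet + htr + (y.1 1 0 * y.1 0 1 - y.1 0 0) * h2
    rcases mul_eq_zero.mp this with h | h
    · exact absurd h hc₀
    · linear_combination h
  have hk₂ : uS e * y = lS (y.1 1 0) * uS e := by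
    apply Subtype.ext
    rw [Matrix.SpecialLinearGroup.coe_mul, Matrix.SpecialLinearGroup.coe_mul, coe_uS, coe_lS]
    ext i j
    fin_cases i <;> fin_cases j <;> simp [Matrix.mul_apply, Fin.sum_univ_two]
    · linear_combination he + y.1 0 0 * h2
    · linear_combination h01
    · linear_combination -he + htr - (y.1 0 0 + 1) * h2
  obtain ⟨γ, hγ⟩ : ∃ γ, γ = SL2Tori.sqrt h2 s⁻¹ := ⟨_, rfl⟩
  have hγ0 : γ ≠ 0 := by rw [hγ]; exact SL2Tori.sqrt_ne_zero h2 (inv_ne_zero hs)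
  have hγ2 : γ ^ 2 = s⁻¹ := by rw [hγ]; exact SL2Tori.sqrt_sq h2 _
  refine ⟨dS γ hγ0 * uS e * k₁, (γ⁻¹) ^ 2 * y.1 1 0, ?_, ?_, ?_⟩
  · exact mul_ne_zero (pow_ne_zero 2 (inv_ne_zero hγ0)) hc₀
  · have e1 : dS γ hγ0 * uS e * k₁ * x * (dS γ hγ0 * uS e * k₁)⁻¹
        = dS γ hγ0 * (uS e * (k₁ * x * k₁⁻¹) * (uS e)⁻¹) * (dS γ hγ0)⁻¹ := by group
    rw [e1, hk₁]
    have e2 : uS e * uS s * (uS e)⁻¹ = uS s := by
      rw [← uS_add, add_comm, uS_add, mul_inv_cancel_right]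
    rw [e2, dS_mul_uS, mul_inv_cancel_right, hγ2, inv_mul_cancel₀ hs]
  · have e1 : dS γ hγ0 * uS e * k₁ * x' * (dS γ hγ0 * uS e * k₁)⁻¹
        = dS γ hγ0 * (uS e * (k₁ * x' * k₁⁻¹) * (uS e)⁻¹) * (dS γ hγ0)⁻¹ := by group
    rw [e1, ← hy, hk₂, mul_inv_cancel_right, dS_mul_lS, mul_inv_cancel_right]

end finite

end Cfsg.Agent.helper11.CA
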