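import Mathlib
import Cfsg.Agent.Lib_helper11_CA11

set_option autoImplicit false

/-!
# Maximal subgroups of `SL₂(F)`, `F` finite of characteristic two: the main theorem
-/

namespace Cfsg.Agent.helper11.CA

open Matrix Cfsg.Agent.helper11.SL2U

theorem cnum_invol_eq {H : Type*} [Group H] [Finite H]
    (h2 : ∀ x : H, x ^ 2 = 1 ∨ Odd (orderOf x)) {x y : H}
    (hx1 : x ≠ 1) (hx2 : x ^ 2 = 1) (hy1 : y ≠ 1) (hy2 : y ^ 2 = 1) : cnum x = cnum y := by
  haveI : Fact (Nat.Prime 2) := ⟨Nat.prime_two⟩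
  rw [cnum_eq, cnum_eq]
  exact (Sylow.card_eq_multiplicity (sylowOf h2 hx1 hx2)).trans
    (Sylow.card_eq_multiplicity (sylowOf h2 hy1 hy2)).symm

variable {F : Type*} [Field F] [Fintype F] [CharP F 2]

theorem exists_subfield_subgroup (N a : ℕ) (ha : 1 ≤ a) (haN : a ∣ N)
    (hN : Fintype.card F = 2 ^ N) :
    ∃ (ι : GaloisField 2 a →+* F), (∀ y : F, y ^ (2 ^ a) = y → ∃ k, ι k = y) ∧
      (∀ k, (ι k) ^ (2 ^ a) = ι k) ∧
      Nat.card (Matrix.SpecialLinearGroup.map (n := Fin 2) ι).range = fq a := by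
  classical
  letI : Fintype (GaloisField 2 a) := Fintype.ofFinite _
  have hc : Fintype.card (GaloisField 2 a) = 2 ^ a := by
    rw [← Nat.card_eq_fintype_card]; exact GaloisField.card 2 a (by omega)
  obtain ⟨ι⟩ := exists_ringHom_of_card (GaloisField 2 a) F a N hc hN haN
  refine ⟨ι, fun y hy => mem_range_of_fixed ι a ha hc y hy, ?_, ?_⟩
  · intro k
    rw [← map_pow, ← hc, FiniteField.pow_card]
  · rw [card_range_map, hc]; rfl

theorem subfield_case (L : Subgroup (SpecialLinearGroup (Fin 2) F)) (hL : IsCoatom L) (m : ℕ)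
    (hm2 : 2 ≤ m) (hcard : Nat.card L = fq m)
    (hK : ∀ y : F, y ^ (2 ^ m) = y → uS y ∈ L ∧ lS y ∈ L) :
    ∃ (F₀ : Type) (_ : Field F₀) (_ : Fintype F₀) (r : ℕ), r.Prime ∧ Fintype.card F₀ ≠ 2 ∧
      Fintype.card F = Fintype.card F₀ ^ r ∧
      Nonempty (L ≃* Matrix.ProjectiveSpecialLinearGroup (Fin 2) F₀) := by
  classical
  have h2 : (2 : F) = 0 := CharTwo.two_eq_zero
  obtain ⟨N, -, hN⟩ := FiniteField.card F 2
  have hcG : Nat.card (SpecialLinearGroup (Fin 2) F) = fq N := by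
    rw [Cfsg.Agent.helper12.card_SL2, hN]; rfl
  have hdvd : fq m ∣ fq N := by
    rw [← hcard, ← hcG]; exact Subgroup.card_subgroup_dvd_card L
  obtain ⟨r, hr⟩ := fq_dvd (by omega) hdvd
  obtain ⟨ι₀, hsurj₀, hfix₀, hc₀⟩ :=
    exists_subfield_subgroup (F := F) N m (by omega) ⟨r, hr⟩ hN
  have hle₀ : (Matrix.SpecialLinearGroup.map (n := Fin 2) ι₀).range ≤ L :=
    range_le_of ι₀ L (fun y => (hK _ (hfix₀ y)).1) (fun y => (hK _ (hfix₀ y)).2)
  have heq₀ : (Matrix.SpecialLinearGroup.map (n := Fin 2) ι₀).range = L :=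
    Subgroup.eq_of_le_of_card_ge hle₀ (by rw [hc₀, hcard])
  have hNpos : 1 ≤ (N : ℕ) := N.pos
  have hr0 : r ≠ 0 := by rintro rfl; rw [mul_zero] at hr; omega
  have hr1 : r ≠ 1 := by
    rintro rfl
    rw [mul_one] at hr
    apply hL.1
    rw [← Subgroup.card_eq_iff_eq_top, hcard, hcG, hr]
  have hrp : r.Prime := by
    by_contra hnp
    obtain ⟨d, hd, hd2, hdr⟩ := Nat.exists_dvd_of_not_prime2 (by omega) hnp
    have hmd : 1 ≤ m * d := Nat.mul_pos (by omega) (by omega)
    obtain ⟨ι₁, hsurj₁, hfix₁, hc₁⟩ := exists_subfield_subgroup (F := F) N (m * d) hmd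
      (by rw [hr]; exact Nat.mul_dvd_mul_left m hd) hN
    have hle₁ : L ≤ (Matrix.SpecialLinearGroup.map (n := Fin 2) ι₁).range := by
      rw [← heq₀]
      apply range_le_of
      · intro y
        obtain ⟨k, hk⟩ := hsurj₁ (ι₀ y) (pow_fixed_iter _ m d (hfix₀ y))
        rw [← hk, ← map_uS]; exact ⟨_, rfl⟩
      · intro y
        obtain ⟨k, hk⟩ := hsurj₁ (ι₀ y) (pow_fixed_iter _ m d (hfix₀ y))
        rw [← hk, ← map_lS]; exact ⟨_, rfl⟩
    have hlt : L < (Matrix.SpecialLinearGroup.map (n := Fin 2) ι₁).range := by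
      refine lt_of_le_of_ne hle₁ ?_
      intro h
      have h5 : fq m = fq (m * d) := by rw [← hcard, ← hc₁, h]
      have h6 := fq_injective h5
      have : m * 2 ≤ m * d := Nat.mul_le_mul_left m hd2
      omega
    have htop := hL.2 _ hlt
    have h7 : fq (m * d) = fq N := by rw [← hc₁, htop, Subgroup.card_top, hcG]
    have h8 := fq_injective h7
    rw [hr] at h8
    have h9 := Nat.eq_of_mul_eq_mul_left (by omega) h8
    omega
  letI : Fintype (GaloisField 2 m) := Fintype.ofFinite _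
  have hcF₀ : Fintype.card (GaloisField 2 m) = 2 ^ m := by
    rw [← Nat.card_eq_fintype_card]; exact GaloisField.card 2 m (by omega)
  refine ⟨GaloisField 2 m, inferInstance, inferInstance, r, hrp, ?_, ?_, ?_⟩
  · rw [hcF₀]
    intro h
    have : 2 ^ 2 ≤ 2 ^ m := Nat.pow_le_pow_right (by norm_num) hm2
    omega
  · rw [hcF₀, hN, hr, pow_mul]
  · have h2F₀ : (2 : GaloisField 2 m) = 0 := CharTwo.two_eq_zero
    have e2 : SpecialLinearGroup (Fin 2) (GaloisField 2 m) ≃*
        (Matrix.SpecialLinearGroup.map (n := Fin 2) ι₀).range :=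
      MonoidHom.ofInjective (sl2map_injective ι₀)
    exact ⟨((MulEquiv.subgroupCongr heq₀).symm.trans e2.symm).trans (PSL2Char2.slEquiv h2F₀)⟩

/-- the conclusion of the theorem on maximal subgroups -/
def PM (F : Type*) [Field F] [Fintype F] (M : Type*) [Group M] : Prop :=
  Nat.card M = Fintype.card F * (Fintype.card F - 1) ∨
    Nonempty (M ≃* DihedralGroup (Fintype.card F - 1)) ∨
    Nonempty (M ≃* DihedralGroup (Fintype.card F + 1)) ∨
    (∃ (F₀ : Type) (_ : Field F₀) (_ : Fintype F₀) (r : ℕ), r.Prime ∧ Fintype.card F₀ ≠ 2 ∧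
        Fintype.card F = Fintype.card F₀ ^ r ∧
        Nonempty (M ≃* Matrix.ProjectiveSpecialLinearGroup (Fin 2) F₀))

omit [CharP F 2] in
theorem PM_congr {M M' : Type*} [Group M] [Group M'] (e : M ≃* M') (h : PM F M') : PM F M := by
  rcases h with h | ⟨⟨f⟩⟩ | ⟨⟨f⟩⟩ | ⟨F₀, i1, i2, r, hr, h2, h3, ⟨f⟩⟩
  · left; rw [← h]; exact Nat.card_congr e.toEquiv
  · right; left; exact ⟨e.trans f⟩
  · right; right; left; exact ⟨e.trans f⟩
  · right; right; right; exact ⟨F₀, i1, i2, r, hr, h2, h3, ⟨e.trans f⟩⟩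

theorem maximal_SL2 (h4 : 4 ≤ Fintype.card F) (M : Subgroup (SpecialLinearGroup (Fin 2) F))
    (hM : IsCoatom M) : PM F M := by
  classical
  haveI : Fact (Nat.Prime 2) := ⟨Nat.prime_two⟩
  have h2 : (2 : F) = 0 := CharTwo.two_eq_zero
  have hCA := isCA_SL2 h2
  have heven := even_card_of_isCoatom h4 M hM
  obtain ⟨x₀, hx₀⟩ := exists_prime_orderOf_dvd_card' (G := M) 2 heven
  obtain ⟨x, hx⟩ : ∃ x : SpecialLinearGroup (Fin 2) F, x = (x₀ : SpecialLinearGroup (Fin 2) F) :=
    ⟨_, rfl⟩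
  have hxM : x ∈ M := by rw [hx]; exact x₀.2
  have hx1 : x ≠ 1 := by
    intro h
    have : x₀ = 1 := Subtype.ext (by rw [← hx]; exact h)
    rw [this, orderOf_one] at hx₀; omega
  have hx2 : x ^ 2 = 1 := by
    have := pow_orderOf_eq_one x₀
    rw [hx₀] at this
    rw [hx]
    exact congrArg Subtype.val this
  by_cases hA : ∀ g ∈ M, Commute (g * x * g⁻¹) x
  · left
    have hle : M ≤ Nor hCA hx1 := fun g hg => hA g hg
    have hcN : Nat.card (Nor hCA hx1) = Fintype.card F * (Fintype.card F - 1) := by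
      rw [← nnum_eq hCA hx1]; exact nnum_invol_SL2 x hx1 hx2
    have hne : Nor hCA hx1 ≠ ⊤ := by
      intro htop
      rw [htop, Subgroup.card_top, Cfsg.Agent.helper12.card_SL2] at hcN
      have h5 := Nat.eq_of_mul_eq_mul_left (by omega) hcN
      have h6 : Fintype.card F ^ 2 = Fintype.card F * Fintype.card F := sq _
      have h7 : 4 * Fintype.card F ≤ Fintype.card F * Fintype.card F :=
        Nat.mul_le_mul_right _ h4
      omega
    have heq : M = Nor hCA hx1 := by
      by_contra hne'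
      exact hne (hM.2 _ (lt_of_le_of_ne hle hne'))
    rw [heq]; exact hcN
  · push Not at hA
    obtain ⟨g, hgM, hg⟩ := hA
    obtain ⟨x', hx'⟩ : ∃ x', x' = g * x * g⁻¹ := ⟨_, rfl⟩
    have hx'M : x' ∈ M := by
      rw [hx']; exact M.mul_mem (M.mul_mem hgM hxM) (M.inv_mem hgM)
    have hx'2 : x' ^ 2 = 1 := by rw [hx', conj_pow, hx2, mul_one, mul_inv_cancel]
    rw [← hx'] at hg
    obtain ⟨k, c, hc, hkx, hkx'⟩ := exists_conj_pair x x' hx1 hx2 hx'2 hg
    obtain ⟨L, hLdef⟩ : ∃ L, L = M.map (MulAut.conj k).toMonoidHom := ⟨_, rfl⟩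
    have hLco : IsCoatom L := by
      have := (OrderIso.isCoatom_iff (MulEquiv.mapSubgroup (MulAut.conj k)) M).mpr hM
      rw [hLdef]; exact this
    have e : M ≃* L := by
      rw [hLdef]; exact Subgroup.equivMapOfInjective M _ (MulAut.conj k).injective
    apply PM_congr e
    have hu1 : uS (1 : F) ∈ L := by
      rw [hLdef, ← hkx]; exact ⟨x, hxM, by simp [MulAut.conj_apply]⟩
    have hlc : lS c ∈ L := by
      rw [hLdef, ← hkx']; exact ⟨x', hx'M, by simp [MulAut.conj_apply]⟩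
    obtain ⟨X, hX⟩ : ∃ X : L, X = ⟨uS 1, hu1⟩ := ⟨_, rfl⟩
    have hX1 : X ≠ 1 := by
      intro h
      have h1 : (X : SpecialLinearGroup (Fin 2) F) = 1 := by rw [h]; rfl
      rw [hX] at h1
      exact uS_ne_one one_ne_zero h1
    have hX2 : X ^ 2 = 1 := by
      apply Subtype.ext
      rw [hX]
      show uS (1 : F) ^ 2 = 1
      rw [sq, uS_mul_self h2]
    have hCAL := hCA.subgroup L
    have hh2 := h2_subgroup (h2_SL2 (F := F)) L
    have hhinv := hinv_subgroup (hinv_SL2 h2) L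
    have hhbor := hbor_subgroup (hbor_SL2 (F := F)) L
    rcases main_even hCAL hh2 hhinv hhbor X hX1 hX2 with
      hA' | ⟨z, hz2, hzc⟩ | ⟨m, g', w, hm2, hcX, -, hcard, -, -, -, -, hpow⟩
    · exfalso
      have h' : Commute (lS c * uS 1 * (lS c)⁻¹) (uS 1) := by
        have := coe_commute.mpr (hA' ⟨lS c, hlc⟩)
        rw [hX] at this
        exact this
      have := (commute_conj_uS_iff 1 one_ne_zero (lS c)).mp h'
      simp [coe_lS] at this
      exact hc this
    · obtain ⟨zG, hzG⟩ : ∃ zG : SpecialLinearGroup (Fin 2) F,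
          zG = (z : SpecialLinearGroup (Fin 2) F) := ⟨_, rfl⟩
      have hzG2 : zG ^ 2 ≠ 1 := by
        intro h
        apply hz2
        apply Subtype.ext
        rw [hzG] at h
        exact h
      have hle : L ≤ Nor hCA (ne_one_of_sq_ne hzG2) := by
        intro g hg
        rw [mem_Nor]
        have := coe_commute.mpr (conj_commute_of_index_two z hzc ⟨g, hg⟩)
        rw [hzG]; exact this
      have heq : L = Nor hCA (ne_one_of_sq_ne hzG2) := by
        by_contra hne'
        exact Nor_ne_top h4 zG hzG2 (hLco.2 _ (lt_of_le_of_ne hle hne'))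
      obtain ⟨f⟩ := nor_dihedral zG hzG2
      rcases cnum_SL2 zG hzG2 with hq | hq
      · right; left
        rw [hq] at f
        exact ⟨(MulEquiv.subgroupCongr heq).trans f⟩
      · right; right; left
        rw [hq] at f
        exact ⟨(MulEquiv.subgroupCongr heq).trans f⟩
    · right; right; right
      rw [fq_eq] at hcard
      apply subfield_case L hLco m hm2 hcard
      have hA := card_uS_mem h2 L one_ne_zero hu1
      have hA'' := card_lS_mem h2 L hc hlc
      have hcX' : cnum (⟨uS 1, hu1⟩ : L) = 2 ^ m := by rw [← hX]; exact hcX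
      have hY1 : (⟨lS c, hlc⟩ : L) ≠ 1 := by
        intro h
        have h1 : ((⟨lS c, hlc⟩ : L) : SpecialLinearGroup (Fin 2) F) = 1 := by rw [h]; rfl
        exact lS_ne_one hc h1
      have hY2 : (⟨lS c, hlc⟩ : L) ^ 2 = 1 := by
        apply Subtype.ext
        show lS c ^ 2 = 1
        rw [sq, lS_mul_self h2]
      have hcl : cnum (⟨lS c, hlc⟩ : L) = 2 ^ m := by
        rw [cnum_invol_eq hh2 hY1 hY2 hX1 hX2]; exact hcX
      apply subfield_core h2 L m (by omega) (hA.trans hcX') (hA''.trans hcl) hu1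
      intro z hz
      apply trace_fixed h2 z m
      rcases hpow ⟨z, hz⟩ with h | h | h
      · left; exact congrArg Subtype.val h
      · right; left; exact congrArg Subtype.val h
      · right; right; exact congrArg Subtype.val h

end Cfsg.Agent.helper11.CA
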