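import Mathlib
import Cfsg.Agent.Lib_helper11_CA12

set_option autoImplicit false

/-!
# Proper subgroups of `SL₂(2^p)`, `p` prime, are solvable
-/

namespace Cfsg.Agent.helper11.CA

open Matrix Cfsg.Agent.helper11.SL2U

section abstract

variable {H : Type*} [Group H]

theorem mem_of_index_two_of_odd (C : Subgroup H) (hidx : C.index = 2) (w : H)
    (hodd : Odd (orderOf w)) : w ∈ C := by
  obtain ⟨j, hj⟩ := hodd
  have h1 : w ^ 2 ∈ C := Subgroup.sq_mem_of_index_two hidx w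
  have h3 : w = (w ^ 2) ^ (j + 1) := by
    rw [← pow_mul, show 2 * (j + 1) = orderOf w + 1 by omega, pow_succ, pow_orderOf_eq_one,
      one_mul]
  rw [h3]; exact C.pow_mem h1 _

theorem index_Cent_eq_two [Finite H] (z : H) (hidx : 2 * cnum z = Nat.card H) :
    (Cent z).index = 2 := by
  have h1 := Subgroup.card_mul_index (Cent z)
  rw [← cnum_eq, ← hidx] at h1
  have hpos := cnum_pos z
  exact Nat.eq_of_mul_eq_mul_left hpos (by rw [h1]; ring)

theorem caseB_props [Finite H] (h2 : ∀ x : H, x ^ 2 = 1 ∨ Odd (orderOf x)) (z : H)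
    (hidx : 2 * cnum z = Nat.card H) :
    (∀ w : H, Odd (orderOf w) → Commute w z) ∧
    (∀ w g : H, Commute w z → Commute (g * w * g⁻¹) z) ∧
    (∀ w : H, ¬ Commute w z → w ^ 2 = 1) := by
  have hidx' := index_Cent_eq_two z hidx
  haveI := Subgroup.normal_of_index_eq_two hidx'
  have h1 : ∀ w : H, Odd (orderOf w) → Commute w z := fun w hw =>
    mem_Cent.mp (mem_of_index_two_of_odd _ hidx' w hw)
  refine ⟨h1, ?_, ?_⟩
  · intro w g hw
    exact mem_Cent.mp (Subgroup.Normal.conj_mem inferInstance w (mem_Cent.mpr hw) g)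
  · intro w hw
    rcases h2 w with h | h
    · exact h
    · exact absurd (h1 w h) hw

theorem odd_orderOf_of_odd_card [Finite H] (hodd : ¬ 2 ∣ Nat.card H) (y : H) :
    Odd (orderOf y) := by
  have h1 : orderOf y ∣ Nat.card H := orderOf_dvd_natCard y
  rw [← Nat.not_even_iff_odd]
  intro he
  exact hodd ((even_iff_two_dvd.mp he).trans h1)

theorem exists_invol_of_even [Finite H] (hev : 2 ∣ Nat.card H) : ∃ i : H, i ≠ 1 ∧ i ^ 2 = 1 := by
  haveI : Fact (Nat.Prime 2) := ⟨Nat.prime_two⟩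
  obtain ⟨i, hi⟩ := exists_prime_orderOf_dvd_card' (G := H) 2 hev
  refine ⟨i, ?_, ?_⟩
  · rintro rfl
    rw [orderOf_one] at hi; omega
  · rw [← hi]; exact pow_orderOf_eq_one i

theorem small_odd_elt [Finite H] (hCA : IsCA H)
    (h2 : ∀ x : H, x ^ 2 = 1 ∨ Odd (orderOf x))
    (hinv : ∀ x g : H, x ^ 2 ≠ 1 → Commute (g * x * g⁻¹) x →
      g * x * g⁻¹ = x ∨ g * x * g⁻¹ = x⁻¹)
    (hbor : ∀ x g y : H, x ≠ 1 → x ^ 2 = 1 → Commute (g * x * g⁻¹) x → ¬ Commute g x →
      Commute y g → Commute (y * x * y⁻¹) x)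
    (hsmall : ∀ m : ℕ, 2 ≤ m → Nat.card H ≠ 2 ^ m * (2 ^ m - 1) * (2 ^ m + 1))
    (x : H) (hxodd : Odd (orderOf x)) :
    (∀ y : H, Commute (y * x * y⁻¹) x) ∨
      ∃ i : H, i ≠ 1 ∧ i ^ 2 = 1 ∧ ∀ g : H, Commute (g * i * g⁻¹) i := by
  by_cases hev : 2 ∣ Nat.card H
  · obtain ⟨i, hi1, hi2⟩ := exists_invol_of_even hev
    rcases main_even hCA h2 hinv hbor i hi1 hi2 with
      hA | ⟨z, hz2, hzc⟩ | ⟨m, g, w, hm2, -, -, hcard, -⟩
    · right; exact ⟨i, hi1, hi2, hA⟩
    · left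
      obtain ⟨p1, p2, -⟩ := caseB_props h2 z hzc
      have hxz : Commute x z := p1 x hxodd
      intro y
      have h5 : Commute (y * x * y⁻¹) z := p2 x y hxz
      exact hCA z (ne_one_of_sq_ne hz2) _ _ h5 hxz
    · exact absurd hcard (hsmall m hm2)
  · left
    have hab := abelian_of_odd hCA (odd_orderOf_of_odd_card hev) hinv
    intro y
    have : y * x * y⁻¹ = x := by rw [(hab y x).eq, mul_inv_cancel_right]
    rw [this]

theorem small_invol [Finite H] (hCA : IsCA H)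
    (h2 : ∀ x : H, x ^ 2 = 1 ∨ Odd (orderOf x))
    (hinv : ∀ x g : H, x ^ 2 ≠ 1 → Commute (g * x * g⁻¹) x →
      g * x * g⁻¹ = x ∨ g * x * g⁻¹ = x⁻¹)
    (hbor : ∀ x g y : H, x ≠ 1 → x ^ 2 = 1 → Commute (g * x * g⁻¹) x → ¬ Commute g x →
      Commute y g → Commute (y * x * y⁻¹) x)
    (hsmall : ∀ m : ℕ, 2 ≤ m → Nat.card H ≠ 2 ^ m * (2 ^ m - 1) * (2 ^ m + 1))
    (x : H) (hx1 : x ≠ 1) (hx2 : x ^ 2 = 1) (y : H) :
    Commute (y * x * y⁻¹) x ∨ y ^ 2 = 1 ∨ x * y * x⁻¹ = y⁻¹ := by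
  rcases main_even hCA h2 hinv hbor x hx1 hx2 with
    hA | ⟨z, hz2, hzc⟩ | ⟨m, g, w, hm2, -, -, hcard, -⟩
  · left; exact hA y
  · right
    obtain ⟨-, -, p3⟩ := caseB_props h2 z hzc
    have hxz : ¬ Commute x z := fun h => hz2 (sq_eq_one_of_commute_invol h2 hx1 hx2 h.symm)
    by_cases hyz : Commute y z
    · right
      have hxy : ¬ Commute (x * y) z := by
        intro h
        apply hxz
        have : x = (x * y) * y⁻¹ := by group
        rw [this]; exact h.mul_left hyz.inv_left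
      have h5 := p3 _ hxy
      have hxinv : x⁻¹ = x := inv_eq_self_of_sq hx2
      rw [hxinv]
      apply eq_inv_of_mul_eq_one_left
      rw [sq] at h5
      calc x * y * x * y = (x * y) * (x * y) := by group
        _ = 1 := h5
    · left; exact p3 y hyz
  · exact absurd hcard (hsmall m hm2)

theorem solvable_of_index_two_abelian [Finite H] (C : Subgroup H) (hidx : C.index = 2)
    (hab : ∀ a ∈ C, ∀ b ∈ C, Commute a b) : Group.IsSolvable H := by
  haveI := Subgroup.normal_of_index_eq_two hidx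
  haveI : Group.IsSolvable C := Group.isSolvable_of_comm (fun a b => by
    apply Subtype.ext
    exact (hab a a.2 b b.2).eq)
  haveI : Group.IsSolvable (H ⧸ C) := by
    haveI : Fact (Nat.Prime 2) := ⟨Nat.prime_two⟩
    have hc : Nat.card (H ⧸ C) = 2 := by rw [← Subgroup.index_eq_card]; exact hidx
    haveI := isCyclic_of_prime_card hc
    exact Group.isSolvable_of_comm (fun a b => (IsCyclic.commGroup.mul_comm a b))
  exact Group.isSolvable_of_ker_le_range C.subtype (QuotientGroup.mk' C) (by simp)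

end abstract

end Cfsg.Agent.helper11.CA
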