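import Mathlib
import Cfsg.Agent.Lib_helper11_CA13

set_option autoImplicit false

/-!
# Solvable subgroups of `SL₂(2^p)`
-/

namespace Cfsg.Agent.helper11.CA

open Matrix Cfsg.Agent.helper11.SL2U

open scoped commutatorElement

variable {F : Type*} [Field F]

/-- upper triangular matrices -/
def Bsub (F : Type*) [Field F] : Subgroup (SpecialLinearGroup (Fin 2) F) where
  carrier := {g | g.1 1 0 = 0}
  one_mem' := by simp
  mul_mem' := by
    intro a b ha hb
    show (a * b).1 1 0 = 0
    rw [Matrix.SpecialLinearGroup.coe_mul, Matrix.mul_apply, Fin.sum_univ_two,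
      show a.1 1 0 = 0 from ha, show b.1 1 0 = 0 from hb]
    ring
  inv_mem' := by
    intro a ha
    show (a⁻¹).1 1 0 = 0
    rw [Matrix.SpecialLinearGroup.coe_inv, Matrix.adjugate_fin_two]
    simp [show a.1 1 0 = 0 from ha]

theorem mem_Bsub {g : SpecialLinearGroup (Fin 2) F} : g ∈ Bsub F ↔ g.1 1 0 = 0 := Iff.rfl

theorem Bsub_diag_ne (g : Bsub F) : g.1.1 0 0 ≠ 0 := by
  intro h0
  have hdet := g.1.2
  rw [Matrix.det_fin_two, h0, mem_Bsub.mp g.2] at hdet
  simp at hdet

/-- the diagonal character of the Borel subgroup -/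
def Bhom : Bsub F →* Fˣ where
  toFun g := Units.mk0 (g.1.1 0 0) (Bsub_diag_ne g)
  map_one' := by apply Units.ext; simp
  map_mul' := by
    intro a b
    apply Units.ext
    simp only [Units.val_mk0, Units.val_mul, Subgroup.coe_mul, Matrix.SpecialLinearGroup.coe_mul,
      Matrix.mul_apply, Fin.sum_univ_two, mem_Bsub.mp b.2, mul_zero, add_zero]

theorem solvable_Bsub : Group.IsSolvable (Bsub F) := by
  haveI : Group.IsSolvable (Bhom (F := F)).ker := Group.isSolvable_of_comm (by
    intro a b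
    have ha : (a.1.1.1 0 0 : F) = 1 := by
      have := (MonoidHom.mem_ker).mp a.2
      have h := congrArg Units.val this
      simpa [Bhom] using h
    have hb : (b.1.1.1 0 0 : F) = 1 := by
      have := (MonoidHom.mem_ker).mp b.2
      have h := congrArg Units.val this
      simpa [Bhom] using h
    have ha10 : (a.1.1.1 1 0 : F) = 0 := mem_Bsub.mp a.1.2
    have hb10 : (b.1.1.1 1 0 : F) = 0 := mem_Bsub.mp b.1.2
    have ha11 : (a.1.1.1 1 1 : F) = 1 := by
      have hdet := a.1.1.2
      rw [Matrix.det_fin_two, ha, ha10] at hdet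
      simpa using hdet
    have hb11 : (b.1.1.1 1 1 : F) = 1 := by
      have hdet := b.1.1.2
      rw [Matrix.det_fin_two, hb, hb10] at hdet
      simpa using hdet
    apply Subtype.ext
    apply Subtype.ext
    apply Subtype.ext
    show a.1.1.1 * b.1.1.1 = b.1.1.1 * a.1.1.1
    ext i j
    fin_cases i <;> fin_cases j <;>
      simp [Matrix.mul_apply, Fin.sum_univ_two, ha, hb, ha10, hb10, ha11, hb11]
    ring)
  exact Group.isSolvable_of_ker_le_range (Bhom (F := F)).ker.subtype (Bhom (F := F)) (by simp)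

section finite

variable [Fintype F] [CharP F 2]

theorem solvable_Nor_invol (x : SpecialLinearGroup (Fin 2) F) (hx1 : x ≠ 1) (hx2 : x ^ 2 = 1) :
    Group.IsSolvable (Nor (isCA_SL2 (CharTwo.two_eq_zero (R := F))) hx1) := by
  obtain ⟨k, s, hs, hk⟩ := exists_conj_uS x hx2 hx1
  haveI := solvable_Bsub (F := F)
  have hmem : ∀ n : Nor (isCA_SL2 (CharTwo.two_eq_zero (R := F))) hx1,
      ((MulAut.conj k).toMonoidHom.comp
        (Nor (isCA_SL2 (CharTwo.two_eq_zero (R := F))) hx1).subtype) n ∈ Bsub F := by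
    intro n
    rw [mem_Bsub]
    exact (nor_iff hs hk n.1).mp n.2
  have hinj : Function.Injective (((MulAut.conj k).toMonoidHom.comp
      (Nor (isCA_SL2 (CharTwo.two_eq_zero (R := F))) hx1).subtype).codRestrict (Bsub F) hmem) := by
    rw [MonoidHom.injective_codRestrict]
    exact (MulAut.conj k).injective.comp Subtype.val_injective
  exact Group.isSolvable_of_isSolvable_injective hinj

theorem exists_ne_zero_one (h4 : 4 ≤ Fintype.card F) : ∃ γ : F, γ ≠ 0 ∧ γ ≠ 1 := by
  obtain ⟨a, b, c, hab, hac, hbc⟩ := (Fintype.two_lt_card_iff (α := F)).mp (by omega)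
  by_cases ha : a = 0 ∨ a = 1
  · by_cases hb : b = 0 ∨ b = 1
    · refine ⟨c, ?_, ?_⟩
      · rintro rfl
        rcases ha with rfl | rfl
        · exact hac rfl
        · rcases hb with rfl | rfl
          · exact hbc rfl
          · exact hab rfl
      · rintro rfl
        rcases ha with rfl | rfl
        · rcases hb with rfl | rfl
          · exact hab rfl
          · exact hbc rfl
        · exact hac rfl
    · push Not at hb; exact ⟨b, hb.1, hb.2⟩
  · push Not at ha; exact ⟨a, ha.1, ha.2⟩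

theorem commutator_SL2_eq_top (h4 : 4 ≤ Fintype.card F) :
    commutator (SpecialLinearGroup (Fin 2) F) = ⊤ := by
  have h2 : (2 : F) = 0 := CharTwo.two_eq_zero
  obtain ⟨γ, hγ0, hγ1⟩ := exists_ne_zero_one h4
  have hγ2 : γ ^ 2 - 1 ≠ 0 := by
    intro h
    apply hγ1
    have : (γ - 1) ^ 2 = 0 := by linear_combination h + (1 - γ) * h2
    exact sub_eq_zero.mp ((pow_eq_zero_iff two_ne_zero).mp this)
  have hγi : (γ⁻¹) ^ 2 - 1 ≠ 0 := by
    intro h
    apply hγ2
    have h5 : γ ^ 2 * ((γ⁻¹) ^ 2 - 1) = 0 := by rw [h, mul_zero]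
    have h6 : γ ^ 2 * (γ⁻¹) ^ 2 = 1 := by
      rw [← mul_pow, mul_inv_cancel₀ hγ0, one_pow]
    linear_combination h6 - h5
  rw [commutator_def]
  apply eq_top_of_uS_lS_mem
  · intro a
    have h5 : ⁅dS γ hγ0, uS (a / (γ ^ 2 - 1))⁆ = uS a := by
      rw [commutatorElement_def, dS_mul_uS, mul_inv_cancel_right, uS_inv, ← uS_add]
      congr 1
      have e : γ ^ 2 * (a / (γ ^ 2 - 1)) + -(a / (γ ^ 2 - 1))
          = (γ ^ 2 - 1) * (a / (γ ^ 2 - 1)) := by ring
      rw [e]
      field_simp
    rw [← h5]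
    exact Subgroup.commutator_mem_commutator (Subgroup.mem_top _) (Subgroup.mem_top _)
  · intro a
    have h5 : ⁅dS γ hγ0, lS (a / ((γ⁻¹) ^ 2 - 1))⁆ = lS a := by
      rw [commutatorElement_def, dS_mul_lS, mul_inv_cancel_right]
      apply Subtype.ext
      rw [Matrix.SpecialLinearGroup.coe_mul, Matrix.SpecialLinearGroup.coe_inv, coe_lS, coe_lS,
        coe_lS, Matrix.adjugate_fin_two]
      ext i j
      fin_cases i <;> fin_cases j <;> simp [Matrix.mul_apply, Fin.sum_univ_two]
      have e : (γ ^ 2)⁻¹ * (a / ((γ ^ 2)⁻¹ - 1)) + -(a / ((γ ^ 2)⁻¹ - 1))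
          = ((γ⁻¹) ^ 2 - 1) * (a / ((γ⁻¹) ^ 2 - 1)) := by rw [inv_pow]; ring
      rw [e]
      have hγ3 : 1 - γ ^ 2 ≠ 0 := by
        intro h; apply hγ2; linear_combination -h
      field_simp
    rw [← h5]
    exact Subgroup.commutator_mem_commutator (Subgroup.mem_top _) (Subgroup.mem_top _)

theorem not_solvable_SL2 (h4 : 4 ≤ Fintype.card F) :
    ¬ Group.IsSolvable (SpecialLinearGroup (Fin 2) F) := by
  intro hsol
  haveI : Nontrivial (SpecialLinearGroup (Fin 2) F) :=
    ⟨⟨uS 1, 1, uS_ne_one one_ne_zero⟩⟩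
  have := Group.IsSolvable.commutator_lt_top_of_nontrivial (SpecialLinearGroup (Fin 2) F)
  rw [commutator_SL2_eq_top h4] at this
  exact lt_irrefl _ this

end finite

end Cfsg.Agent.helper11.CA
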