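import Mathlib
import Cfsg.Agent.Lib_helper11_CA14

set_option autoImplicit false

/-!
# Solubilizers in `SL₂(2^p)`: general analysis, involutions and non-split elements
-/

namespace Cfsg.Agent.helper11.CA

open Matrix Cfsg.Agent.helper11.SL2U

variable {F : Type*} [Field F] [Fintype F] [CharP F 2]

theorem small_of_proper (p : ℕ) (hp : p.Prime) (hF : Fintype.card F = 2 ^ p)
    (L : Subgroup (SpecialLinearGroup (Fin 2) F)) (hL : L ≠ ⊤) :
    ∀ m : ℕ, 2 ≤ m → Nat.card L ≠ 2 ^ m * (2 ^ m - 1) * (2 ^ m + 1) := by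
  intro m hm2 hcard
  rw [fq_eq] at hcard
  have hcG : Nat.card (SpecialLinearGroup (Fin 2) F) = fq p := by
    rw [Cfsg.Agent.helper12.card_SL2, hF]; rfl
  have hdvd : fq m ∣ fq p := by
    rw [← hcard, ← hcG]; exact Subgroup.card_subgroup_dvd_card L
  have h1 := fq_dvd (by omega) hdvd
  rcases (Nat.dvd_prime hp).mp h1 with h | h
  · omega
  · apply hL
    rw [← Subgroup.card_eq_iff_eq_top, hcard, hcG, h]

theorem four_le_card (p : ℕ) (hp : p.Prime) (hF : Fintype.card F = 2 ^ p) :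
    4 ≤ Fintype.card F := by
  rw [hF]
  calc 4 = 2 ^ 2 := by norm_num
    _ ≤ 2 ^ p := Nat.pow_le_pow_right (by norm_num) hp.two_le

theorem solvable_of_proper (p : ℕ) (hp : p.Prime) (hF : Fintype.card F = 2 ^ p)
    (L : Subgroup (SpecialLinearGroup (Fin 2) F)) (hL : L ≠ ⊤) : Group.IsSolvable L := by
  classical
  have h2F : (2 : F) = 0 := CharTwo.two_eq_zero
  have hCA := isCA_SL2 h2F
  have hCAL := hCA.subgroup L
  have hh2 := h2_subgroup (h2_SL2 (F := F)) L
  have hhinv := hinv_subgroup (hinv_SL2 h2F) L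
  have hhbor := hbor_subgroup (hbor_SL2 (F := F)) L
  by_cases hev : 2 ∣ Nat.card L
  · obtain ⟨i, hi1, hi2⟩ := exists_invol_of_even hev
    rcases main_even hCAL hh2 hhinv hhbor i hi1 hi2 with
      hA | ⟨z, hz2, hzc⟩ | ⟨m, g, w, hm2, -, -, hcard, -⟩
    · have hiG1 : (i : SpecialLinearGroup (Fin 2) F) ≠ 1 := fun h => hi1 (Subtype.ext h)
      have hiG2 : (i : SpecialLinearGroup (Fin 2) F) ^ 2 = 1 := congrArg Subtype.val hi2
      haveI := solvable_Nor_invol (i : SpecialLinearGroup (Fin 2) F) hiG1 hiG2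
      have hle : L ≤ Nor hCA hiG1 := by
        intro g hg
        exact coe_commute.mpr (hA ⟨g, hg⟩)
      exact Group.isSolvable_of_isSolvable_injective (Subgroup.inclusion_injective hle)
    · exact solvable_of_index_two_abelian (Cent z) (index_Cent_eq_two z hzc)
        (fun a ha b hb => hCAL z (ne_one_of_sq_ne hz2) a b (mem_Cent.mp ha) (mem_Cent.mp hb))
    · exact absurd hcard (small_of_proper p hp hF L hL m hm2)
  · exact Group.isSolvable_of_comm (fun a b =>
      (abelian_of_odd hCAL (odd_orderOf_of_odd_card hev) hhinv a b).eq)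

theorem solvable_closure_iff (p : ℕ) (hp : p.Prime) (hF : Fintype.card F = 2 ^ p)
    (x y : SpecialLinearGroup (Fin 2) F) :
    Group.IsSolvable (Subgroup.closure ({x, y} : Set (SpecialLinearGroup (Fin 2) F))) ↔
      Subgroup.closure ({x, y} : Set (SpecialLinearGroup (Fin 2) F)) ≠ ⊤ := by
  constructor
  · intro hsol htop
    apply not_solvable_SL2 (four_le_card p hp hF)
    rw [htop] at hsol
    exact Group.isSolvable_of_surjective
      (f := (⊤ : Subgroup (SpecialLinearGroup (Fin 2) F)).subtype) (fun g => ⟨⟨g, trivial⟩, rfl⟩)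
  · exact solvable_of_proper p hp hF _

theorem Nor_invol_ne_top (h4 : 4 ≤ Fintype.card F) (x : SpecialLinearGroup (Fin 2) F)
    (hx1 : x ≠ 1) (hx2 : x ^ 2 = 1) :
    Nor (isCA_SL2 (CharTwo.two_eq_zero (R := F))) hx1 ≠ ⊤ := by
  have hcN : Nat.card (Nor (isCA_SL2 (CharTwo.two_eq_zero (R := F))) hx1)
      = Fintype.card F * (Fintype.card F - 1) := by
    rw [← nnum_eq (isCA_SL2 (CharTwo.two_eq_zero (R := F))) hx1]
    exact nnum_invol_SL2 x hx1 hx2
  intro htop
  rw [htop, Subgroup.card_top, Cfsg.Agent.helper12.card_SL2] at hcN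
  have h5 := Nat.eq_of_mul_eq_mul_left (by omega) hcN
  have h6 : Fintype.card F ^ 2 = Fintype.card F * Fintype.card F := sq _
  have h7 : 4 * Fintype.card F ≤ Fintype.card F * Fintype.card F := Nat.mul_le_mul_right _ h4
  omega

/-- if `x` and `y` normalise the centraliser of `z ≠ 1` then they do not generate -/
theorem closure_ne_top_of_nor (h4 : 4 ≤ Fintype.card F) (x y z : SpecialLinearGroup (Fin 2) F)
    (hz1 : z ≠ 1) (hx : Commute (x * z * x⁻¹) z) (hy : Commute (y * z * y⁻¹) z) :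
    Subgroup.closure ({x, y} : Set (SpecialLinearGroup (Fin 2) F)) ≠ ⊤ := by
  have h2F : (2 : F) = 0 := CharTwo.two_eq_zero
  have hCA := isCA_SL2 h2F
  have hle : Subgroup.closure ({x, y} : Set (SpecialLinearGroup (Fin 2) F)) ≤ Nor hCA hz1 := by
    rw [Subgroup.closure_le]
    rintro g (rfl | rfl)
    · exact hx
    · exact hy
  have hne : Nor hCA hz1 ≠ ⊤ := by
    by_cases hz2 : z ^ 2 = 1
    · exact Nor_invol_ne_top h4 z hz1 hz2
    · exact Nor_ne_top h4 z hz2
  intro htop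
  apply hne
  rw [eq_top_iff, ← htop]; exact hle

theorem closure_mem_left (x y : SpecialLinearGroup (Fin 2) F) :
    x ∈ Subgroup.closure ({x, y} : Set (SpecialLinearGroup (Fin 2) F)) :=
  Subgroup.subset_closure (by simp)

theorem closure_mem_right (x y : SpecialLinearGroup (Fin 2) F) :
    y ∈ Subgroup.closure ({x, y} : Set (SpecialLinearGroup (Fin 2) F)) :=
  Subgroup.subset_closure (by simp)

theorem closure_analysis_odd (p : ℕ) (hp : p.Prime) (hF : Fintype.card F = 2 ^ p)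
    (x y : SpecialLinearGroup (Fin 2) F) (hxodd : Odd (orderOf x))
    (hL : Subgroup.closure ({x, y} : Set (SpecialLinearGroup (Fin 2) F)) ≠ ⊤) :
    Commute (y * x * y⁻¹) x ∨ ∃ i : SpecialLinearGroup (Fin 2) F, i ≠ 1 ∧ i ^ 2 = 1 ∧
      Commute (x * i * x⁻¹) i ∧ Commute (y * i * y⁻¹) i := by
  classical
  have h2F : (2 : F) = 0 := CharTwo.two_eq_zero
  have hCA := isCA_SL2 h2F
  obtain ⟨L, hLdef⟩ : ∃ L, L = Subgroup.closure ({x, y} : Set (SpecialLinearGroup (Fin 2) F)) :=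
    ⟨_, rfl⟩
  rw [← hLdef] at hL
  have hxL : x ∈ L := by rw [hLdef]; exact closure_mem_left x y
  have hyL : y ∈ L := by rw [hLdef]; exact closure_mem_right x y
  have hXodd : Odd (orderOf (⟨x, hxL⟩ : L)) := by rw [Subgroup.orderOf_mk]; exact hxodd
  rcases small_odd_elt (hCA.subgroup L) (h2_subgroup (h2_SL2 (F := F)) L)
    (hinv_subgroup (hinv_SL2 h2F) L) (hbor_subgroup (hbor_SL2 (F := F)) L)
    (small_of_proper p hp hF L hL) ⟨x, hxL⟩ hXodd with h | ⟨i, hi1, hi2, hi⟩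
  · left
    exact coe_commute.mpr (h ⟨y, hyL⟩)
  · right
    refine ⟨(i : SpecialLinearGroup (Fin 2) F), fun h => hi1 (Subtype.ext h),
      congrArg Subtype.val hi2, coe_commute.mpr (hi ⟨x, hxL⟩), coe_commute.mpr (hi ⟨y, hyL⟩)⟩

theorem closure_analysis_invol (p : ℕ) (hp : p.Prime) (hF : Fintype.card F = 2 ^ p)
    (x y : SpecialLinearGroup (Fin 2) F) (hx1 : x ≠ 1) (hx2 : x ^ 2 = 1)
    (hL : Subgroup.closure ({x, y} : Set (SpecialLinearGroup (Fin 2) F)) ≠ ⊤) :
    Commute (y * x * y⁻¹) x ∨ y ^ 2 = 1 ∨ x * y * x⁻¹ = y⁻¹ := by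
  classical
  have h2F : (2 : F) = 0 := CharTwo.two_eq_zero
  have hCA := isCA_SL2 h2F
  obtain ⟨L, hLdef⟩ : ∃ L, L = Subgroup.closure ({x, y} : Set (SpecialLinearGroup (Fin 2) F)) :=
    ⟨_, rfl⟩
  rw [← hLdef] at hL
  have hxL : x ∈ L := by rw [hLdef]; exact closure_mem_left x y
  have hyL : y ∈ L := by rw [hLdef]; exact closure_mem_right x y
  have hX1 : (⟨x, hxL⟩ : L) ≠ 1 := fun h => hx1 (congrArg Subtype.val h)
  have hX2 : (⟨x, hxL⟩ : L) ^ 2 = 1 := Subtype.ext hx2
  rcases small_invol (hCA.subgroup L) (h2_subgroup (h2_SL2 (F := F)) L)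
    (hinv_subgroup (hinv_SL2 h2F) L) (hbor_subgroup (hbor_SL2 (F := F)) L)
    (small_of_proper p hp hF L hL) ⟨x, hxL⟩ hX1 hX2 ⟨y, hyL⟩ with h | h | h
  · left; exact coe_commute.mpr h
  · right; left; exact congrArg Subtype.val h
  · right; right; exact congrArg Subtype.val h

end Cfsg.Agent.helper11.CA
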