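import Mathlib
import Cfsg.Agent.Lib_helper11_CA15

set_option autoImplicit false

/-!
# Solubilizers in `SL₂(2^p)`: counts for involutions and non-split elements
-/

namespace Cfsg.Agent.helper11.CA

open Matrix Cfsg.Agent.helper11.SL2U

theorem orderOf_dvd_cnum {H : Type*} [Group H] [Finite H] (x : H) : orderOf x ∣ cnum x := by
  rw [cnum_eq]
  have := orderOf_dvd_natCard (⟨x, mem_Cent.mpr (Commute.refl x)⟩ : Cent x)
  rwa [Subgroup.orderOf_mk] at this

theorem eq_one_of_dvd_both (d q : ℕ) (hq : 1 ≤ q) (hodd : Odd d) (h1 : d ∣ q - 1)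
    (h2 : d ∣ q + 1) : d = 1 := by
  have h3 : d ∣ (q + 1) - (q - 1) := Nat.dvd_sub h2 h1
  have e : (q + 1) - (q - 1) = 2 := by omega
  rw [e] at h3
  rcases (Nat.dvd_prime Nat.prime_two).mp h3 with h | h
  · exact h
  · rw [h] at hodd; exact absurd hodd (by decide)

variable {F : Type*} [Field F] [Fintype F] [CharP F 2]

theorem nnum_eq_two_cnum (z : SpecialLinearGroup (Fin 2) F) (hz : z ^ 2 ≠ 1) :
    nnum z = 2 * cnum z := by
  have h2 : (2 : F) = 0 := CharTwo.two_eq_zero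
  have hCA := isCA_SL2 h2
  have hz1 := ne_one_of_sq_ne hz
  rcases nnum_cases hCA (hinv_SL2 h2) hz with h | h
  · exfalso
    have hlt := Cent_lt_Nor z hz
    have : Cent z = Nor hCA hz1 :=
      Subgroup.eq_of_le_of_card_ge hlt.le (by rw [← nnum_eq hCA hz1, h, cnum_eq])
    exact hlt.ne this
  · exact h

theorem sq_ne_one_of_odd {x : SpecialLinearGroup (Fin 2) F} (hx1 : x ≠ 1)
    (hodd : Odd (orderOf x)) : x ^ 2 ≠ 1 := by
  intro h
  apply hx1
  have h5 : orderOf x ∣ 2 := orderOf_dvd_of_pow_eq_one h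
  rcases (Nat.dvd_prime Nat.prime_two).mp h5 with h6 | h6
  · exact orderOf_eq_one_iff.mp h6
  · rw [h6] at hodd; exact absurd hodd (by decide)

theorem sol_iff_nonsplit (p : ℕ) (hp : p.Prime) (hF : Fintype.card F = 2 ^ p)
    (x : SpecialLinearGroup (Fin 2) F) (hx1 : x ≠ 1) (hord : orderOf x ∣ 2 ^ p + 1)
    (y : SpecialLinearGroup (Fin 2) F) :
    Subgroup.closure ({x, y} : Set (SpecialLinearGroup (Fin 2) F)) ≠ ⊤ ↔
      Commute (y * x * y⁻¹) x := by
  have h2 : (2 : F) = 0 := CharTwo.two_eq_zero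
  have hCA := isCA_SL2 h2
  have h4 := four_le_card p hp hF
  have hq1 : 1 ≤ 2 ^ p := Nat.one_le_two_pow
  have hodd : Odd (orderOf x) :=
    Odd.of_dvd_nat (Even.add_one (Nat.even_pow.mpr ⟨even_two, hp.ne_zero⟩)) hord
  constructor
  · intro hL
    rcases closure_analysis_odd p hp hF x y hodd hL with h | ⟨i, hi1, hi2, hxi, -⟩
    · exact h
    · exfalso
      apply hx1
      have hxN : x ∈ Nor hCA hi1 := (mem_Nor hCA hi1).mpr hxi
      have h5 : orderOf (⟨x, hxN⟩ : Nor hCA hi1) ∣ Nat.card (Nor hCA hi1) :=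
        orderOf_dvd_natCard _
      rw [Subgroup.orderOf_mk, ← nnum_eq hCA hi1, nnum_invol_SL2 i hi1 hi2, hF] at h5
      have hcop : Nat.Coprime (orderOf x) (2 ^ p) :=
        Nat.Coprime.coprime_dvd_left hord (by simp)
      have h6 : orderOf x ∣ 2 ^ p - 1 := (Nat.Coprime.dvd_mul_left hcop).mp h5
      exact orderOf_eq_one_iff.mp (eq_one_of_dvd_both _ _ hq1 hodd h6 hord)
  · intro h
    exact closure_ne_top_of_nor h4 x y x hx1 (by
      have : x * x * x⁻¹ = x := by group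
      rw [this]) h

theorem sol_card_nonsplit (p : ℕ) (hp : p.Prime) (hF : Fintype.card F = 2 ^ p)
    (x : SpecialLinearGroup (Fin 2) F) (hx1 : x ≠ 1) (hord : orderOf x ∣ 2 ^ p + 1) :
    Nat.card {y : SpecialLinearGroup (Fin 2) F //
      Subgroup.closure ({x, y} : Set (SpecialLinearGroup (Fin 2) F)) ≠ ⊤} = 2 * (2 ^ p + 1) := by
  have hq1 : 1 ≤ 2 ^ p := Nat.one_le_two_pow
  have hodd : Odd (orderOf x) :=
    Odd.of_dvd_nat (Even.add_one (Nat.even_pow.mpr ⟨even_two, hp.ne_zero⟩)) hord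
  have hx2 := sq_ne_one_of_odd hx1 hodd
  have hc : cnum x = 2 ^ p + 1 := by
    rcases cnum_SL2 x hx2 with h | h
    · exfalso
      apply hx1
      have h6 : orderOf x ∣ 2 ^ p - 1 := by rw [← hF, ← h]; exact orderOf_dvd_cnum x
      exact orderOf_eq_one_iff.mp (eq_one_of_dvd_both _ _ hq1 hodd h6 hord)
    · rw [h, hF]
  rw [Nat.card_congr (Equiv.subtypeEquivRight (sol_iff_nonsplit p hp hF x hx1 hord))]
  show nnum x = _
  rw [nnum_eq_two_cnum x hx2, hc]

/-! ### involutions -/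

theorem cnum_invol_SL2 (x : SpecialLinearGroup (Fin 2) F) (hx1 : x ≠ 1) (hx2 : x ^ 2 = 1) :
    cnum x = Fintype.card F := by
  have h2 : (2 : F) = 0 := CharTwo.two_eq_zero
  obtain ⟨c1, -, -⟩ := SL2Tori.card_centralizer_cases h2 x hx1
  rw [cnum_eq]
  exact c1 (trace_eq_zero_of_sq h2 x hx2)

theorem snum_invol_SL2 (x : SpecialLinearGroup (Fin 2) F) (hx1 : x ≠ 1) (hx2 : x ^ 2 = 1) :
    snum x = Fintype.card F ^ 2 - 1 := by
  have h2 : (2 : F) = 0 := CharTwo.two_eq_zero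
  have hcc := class_count (isCA_SL2 h2) x hx1
  rw [nnum_invol_SL2 x hx1 hx2, cnum_invol_SL2 x hx1 hx2, Cfsg.Agent.helper12.card_SL2] at hcc
  have hq : 2 ≤ Fintype.card F := Fintype.one_lt_card
  have h5 : snum x * (Fintype.card F * (Fintype.card F - 1))
      = (Fintype.card F ^ 2 - 1) * (Fintype.card F * (Fintype.card F - 1)) := by
    rw [hcc]; ring
  exact Nat.eq_of_mul_eq_mul_right (Nat.mul_pos (by omega) (by omega)) h5

theorem conj_invol_eq_inv {H : Type*} [Group H] {x i : H} (hx2 : x ^ 2 = 1) (hi2 : i ^ 2 = 1) :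
    x * (x * i) * x⁻¹ = (x * i)⁻¹ := by
  have hxi : x⁻¹ = x := inv_eq_self_of_sq hx2
  have hii : i⁻¹ = i := inv_eq_self_of_sq hi2
  rw [_root_.mul_inv_rev, hxi, hii]
  have : x * (x * i) * x = x ^ 2 * (i * x) := by simp only [sq, mul_assoc]
  rw [this, hx2, one_mul]

theorem sol_iff_invol (p : ℕ) (hp : p.Prime) (hF : Fintype.card F = 2 ^ p)
    (x : SpecialLinearGroup (Fin 2) F) (hx1 : x ≠ 1) (hx2 : x ^ 2 = 1)
    (y : SpecialLinearGroup (Fin 2) F) :
    Subgroup.closure ({x, y} : Set (SpecialLinearGroup (Fin 2) F)) ≠ ⊤ ↔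
      (Commute (y * x * y⁻¹) x ∨ y ^ 2 = 1 ∨ (y ^ 2 ≠ 1 ∧ x * y * x⁻¹ = y⁻¹)) := by
  have h4 := four_le_card p hp hF
  have hxx : Commute (x * x * x⁻¹) x := by
    have : x * x * x⁻¹ = x := by group
    rw [this]
  constructor
  · intro hL
    rcases closure_analysis_invol p hp hF x y hx1 hx2 hL with h | h | h
    · exact Or.inl h
    · exact Or.inr (Or.inl h)
    · by_cases hy2 : y ^ 2 = 1
      · exact Or.inr (Or.inl hy2)
      · exact Or.inr (Or.inr ⟨hy2, h⟩)
  · rintro (h | h | ⟨hy2, h⟩)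
    · exact closure_ne_top_of_nor h4 x y x hx1 hxx h
    · by_cases hu : (x * y) ^ 2 = 1
      · have hc : Commute x y := commute_of_sq hx2 h hu
        have : y * x * y⁻¹ = x := by rw [← hc.eq, mul_inv_cancel_right]
        exact closure_ne_top_of_nor h4 x y x hx1 hxx (by rw [this])
      · have e1 := conj_invol_eq_inv hx2 h
        have e2 : y * (x * y) * y⁻¹ = (x * y)⁻¹ := by
          have hyi : y⁻¹ = y := inv_eq_self_of_sq h
          have hxi : x⁻¹ = x := inv_eq_self_of_sq hx2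
          rw [_root_.mul_inv_rev, hxi, hyi, mul_assoc, mul_assoc, ← sq, h, mul_one]
        exact closure_ne_top_of_nor h4 x y (x * y) (ne_one_of_sq_ne hu)
          (by rw [e1]; exact (Commute.refl _).inv_left)
          (by rw [e2]; exact (Commute.refl _).inv_left)
    · exact closure_ne_top_of_nor h4 x y y (ne_one_of_sq_ne hy2)
        (by rw [h]; exact (Commute.refl y).inv_left)
        (by
          have : y * y * y⁻¹ = y := by group
          rw [this])

theorem sol_card_invol (p : ℕ) (hp : p.Prime) (hF : Fintype.card F = 2 ^ p)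
    (x : SpecialLinearGroup (Fin 2) F) (hx1 : x ≠ 1) (hx2 : x ^ 2 = 1) :
    Nat.card {y : SpecialLinearGroup (Fin 2) F //
      Subgroup.closure ({x, y} : Set (SpecialLinearGroup (Fin 2) F)) ≠ ⊤}
      = 3 * 2 ^ p * (2 ^ p - 1) := by
  classical
  have h2 : (2 : F) = 0 := CharTwo.two_eq_zero
  have hh2 := h2_SL2 (F := F)
  have hxi : x⁻¹ = x := inv_eq_self_of_sq hx2
  obtain ⟨N, hN⟩ : ∃ N : Set (SpecialLinearGroup (Fin 2) F),
      N = {y | Commute (y * x * y⁻¹) x} := ⟨_, rfl⟩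
  obtain ⟨I, hI⟩ : ∃ I : Set (SpecialLinearGroup (Fin 2) F), I = {y | y ^ 2 = 1} := ⟨_, rfl⟩
  obtain ⟨C, hC⟩ : ∃ C : Set (SpecialLinearGroup (Fin 2) F), C = {y | Commute y x} := ⟨_, rfl⟩
  obtain ⟨V, hV⟩ : ∃ V : Set (SpecialLinearGroup (Fin 2) F),
      V = {y | y ^ 2 ≠ 1 ∧ x * y * x⁻¹ = y⁻¹} := ⟨_, rfl⟩
  have hNc : N.ncard = 2 ^ p * (2 ^ p - 1) := by
    rw [hN, ← Nat.card_coe_set_eq, ← hF]
    exact nnum_invol_SL2 x hx1 hx2
  have hCc : C.ncard = 2 ^ p := by
    rw [hC, ← Nat.card_coe_set_eq, ← hF]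
    exact cnum_invol_SL2 x hx1 hx2
  have hIc : I.ncard = (2 ^ p) ^ 2 := by
    have hIS : I = insert 1 (S x) := by
      rw [hI, S_invol hh2 hx1 hx2]
      ext y
      simp only [Set.mem_setOf_eq, Set.mem_insert_iff]
      constructor
      · intro hy
        by_cases hy1 : y = 1
        · exact Or.inl hy1
        · exact Or.inr ⟨hy1, hy⟩
      · rintro (rfl | ⟨-, hy⟩)
        · exact one_pow 2
        · exact hy
    rw [hIS, Set.ncard_insert_of_notMem (fun h => h.1 rfl) (Set.toFinite _)]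
    show snum x + 1 = _
    rw [snum_invol_SL2 x hx1 hx2, hF]
    have : 1 ≤ (2 ^ p) ^ 2 := Nat.one_le_pow _ _ (Nat.one_le_two_pow)
    omega
  have hCI : C ⊆ I := by
    rw [hC, hI]
    intro y hy
    exact sq_eq_one_of_commute_invol hh2 hx1 hx2 hy
  have hNI : N ∩ I = C := by
    ext y
    rw [hN, hI, hC]
    simp only [Set.mem_inter_iff, Set.mem_setOf_eq]
    constructor
    · rintro ⟨hyN, hy2⟩
      have hyi : y⁻¹ = y := inv_eq_self_of_sq hy2
      have hx'' : (y * x * y⁻¹) ^ 2 = 1 := by rw [conj_pow, hx2, mul_one, mul_inv_cancel]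
      have h5 : (x * (y * x * y⁻¹)) ^ 2 = 1 := by
        rw [hyN.symm.mul_pow, hx2, hx'', one_mul]
      have h6 : x * (y * x * y⁻¹) = (x * y) ^ 2 := by
        rw [hyi, sq]; simp only [mul_assoc]
      rw [h6, ← pow_mul] at h5
      have h7 := PSL2Char2.sq_eq_one_of_pow_four h2 (x * y) h5
      exact (commute_of_sq hx2 hy2 h7).symm
    · intro hy
      refine ⟨?_, sq_eq_one_of_commute_invol hh2 hx1 hx2 hy⟩
      have : y * x * y⁻¹ = x := by rw [hy.eq, mul_inv_cancel_right]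
      rw [this]
  have hVim : V = (fun i => x * i) '' (I \ C) := by
    ext y
    rw [hV, hI, hC]
    simp only [Set.mem_setOf_eq, Set.mem_image, Set.mem_diff]
    constructor
    · rintro ⟨hy2, hy⟩
      refine ⟨x * y, ⟨?_, ?_⟩, ?_⟩
      · have : (x * y) ^ 2 = (x * y * x⁻¹) * y := by
          rw [hxi, sq]; simp only [mul_assoc]
        rw [this, hy, inv_mul_cancel]
      · intro hc
        apply hy2
        have h5 : x * y * x⁻¹ = y := by
          rw [hxi, hc.eq, ← mul_assoc, ← sq, hx2, one_mul]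
        rw [h5] at hy
        rw [sq]
        calc y * y = y * y⁻¹ := by rw [← hy]
          _ = 1 := mul_inv_cancel y
      · rw [← mul_assoc, ← sq, hx2, one_mul]
    · rintro ⟨i, ⟨hi2, hic⟩, rfl⟩
      refine ⟨?_, conj_invol_eq_inv hx2 hi2⟩
      intro h
      exact hic (commute_of_sq hx2 hi2 h).symm
  have hVc : V.ncard = (2 ^ p) ^ 2 - 2 ^ p := by
    rw [hVim, Set.ncard_image_of_injective _ (mul_right_injective x),
      Set.ncard_diff hCI (Set.toFinite _), hIc, hCc]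
  have hdisj : Disjoint (N ∪ I) V := by
    rw [Set.disjoint_left]
    rintro y (hyN | hyI) hyV
    · rw [hV] at hyV
      rw [hN] at hyN
      obtain ⟨hy2, hy⟩ := hyV
      have hyN' : Commute (y * x * y⁻¹) x := hyN
      have hx'' : (y * x * y⁻¹) ^ 2 = 1 := by rw [conj_pow, hx2, mul_one, mul_inv_cancel]
      have h5 : (x * (y * x * y⁻¹)) ^ 2 = 1 := by
        rw [hyN'.symm.mul_pow, hx2, hx'', one_mul]
      have h6 : x * (y * x * y⁻¹) = (y⁻¹) ^ 2 := by
        have : x * (y * x * y⁻¹) = (x * y * x⁻¹) * y⁻¹ := by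
          rw [hxi]; simp only [mul_assoc]
        rw [this, hy, sq]
      rw [h6, ← pow_mul] at h5
      have h7 := PSL2Char2.sq_eq_one_of_pow_four h2 (y⁻¹) h5
      apply hy2
      rw [inv_pow] at h7
      exact inv_eq_one.mp h7
    · rw [hV] at hyV
      rw [hI] at hyI
      exact hyV.1 hyI
  have hunion : {y : SpecialLinearGroup (Fin 2) F |
      Subgroup.closure ({x, y} : Set (SpecialLinearGroup (Fin 2) F)) ≠ ⊤} = (N ∪ I) ∪ V := by
    ext y
    rw [hN, hI, hV]
    simp only [Set.mem_setOf_eq, Set.mem_union]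
    rw [sol_iff_invol p hp hF x hx1 hx2 y, or_assoc]
  have hcard := Nat.card_coe_set_eq {y : SpecialLinearGroup (Fin 2) F |
      Subgroup.closure ({x, y} : Set (SpecialLinearGroup (Fin 2) F)) ≠ ⊤}
  have hcard' : Nat.card {y : SpecialLinearGroup (Fin 2) F //
      Subgroup.closure ({x, y} : Set (SpecialLinearGroup (Fin 2) F)) ≠ ⊤}
      = ((N ∪ I) ∪ V).ncard := by rw [← hunion]; exact hcard
  rw [hcard', Set.ncard_union_eq hdisj (Set.toFinite _) (Set.toFinite _), hVc]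
  have hui := Set.ncard_union_add_ncard_inter N I (Set.toFinite _) (Set.toFinite _)
  rw [hNI, hNc, hIc, hCc] at hui
  obtain ⟨k, hk⟩ : ∃ k, 2 ^ p = k + 1 := ⟨2 ^ p - 1, by have := Nat.one_le_two_pow (n := p); omega⟩
  rw [hk] at hui ⊢
  have e1 : k + 1 - 1 = k := by omega
  rw [e1] at hui ⊢
  have e2 : (k + 1) ^ 2 = k * k + 2 * k + 1 := by ring
  have e3 : 3 * (k + 1) * k = 3 * (k * k) + 3 * k := by ring
  have e4 : (k + 1) * k = k * k + k := by ring
  rw [e2] at hui ⊢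
  rw [e3]
  rw [e4] at hui
  omega

end Cfsg.Agent.helper11.CA
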