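import Mathlib
import Cfsg.Agent.Lib_helper11_CA16

set_option autoImplicit false

/-!
# Solubilizers in `SL₂(2^p)`: split semisimple elements, preparation
-/

namespace Cfsg.Agent.helper11.CA

open Matrix Cfsg.Agent.helper11.SL2U

variable {F : Type*} [Field F]

/-- diagonalisation of an element with an eigenvalue in `F` -/
theorem exists_diag (h2 : (2 : F) = 0) (x : SpecialLinearGroup (Fin 2) F) (l : F)
    (ht : x.1 0 0 + x.1 1 1 ≠ 0)
    (hroot : l ^ 2 + (x.1 0 0 + x.1 1 1) * l + 1 = 0) :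
    ∃ (k : SpecialLinearGroup (Fin 2) F) (δ : F) (hδ : δ ≠ 0), k * x * k⁻¹ = dS δ hδ := by
  have hdet : x.1 0 0 * x.1 1 1 - x.1 0 1 * x.1 1 0 = 1 := by
    rw [← Matrix.det_fin_two]; exact x.2
  obtain ⟨a, ha⟩ : ∃ a, a = x.1 0 0 := ⟨_, rfl⟩
  obtain ⟨b, hb⟩ : ∃ b, b = x.1 0 1 := ⟨_, rfl⟩
  obtain ⟨c, hc⟩ : ∃ c, c = x.1 1 0 := ⟨_, rfl⟩
  obtain ⟨d, hd⟩ : ∃ d, d = x.1 1 1 := ⟨_, rfl⟩
  rw [← ha, ← hb, ← hc, ← hd] at hdet
  rw [← ha, ← hd] at ht hroot
  have hxmat : x.1 = !![a, b; c, d] := by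
    rw [ha, hb, hc, hd]
    ext i j
    fin_cases i <;> fin_cases j <;> rfl
  obtain ⟨m, hm⟩ : ∃ m, m = l + (a + d) := ⟨_, rfl⟩
  have hlm : l * m = 1 := by rw [hm]; linear_combination hroot - h2
  have hl0 : l ≠ 0 := by
    rintro rfl
    rw [zero_mul] at hlm
    exact zero_ne_one hlm
  have hlinv : l⁻¹ = m := inv_eq_of_mul_eq_one_right hlm
  have hdSmat : (dS l hl0 : Matrix (Fin 2) (Fin 2) F) = !![l, 0; 0, m] := by
    rw [coe_dS, hlinv]
  by_cases hc0 : c = 0
  · by_cases hb0 : b = 0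
    · -- already diagonal
      have ha0 : a ≠ 0 := by
        rintro rfl
        rw [hb0] at hdet
        simp at hdet
      refine ⟨1, a, ha0, ?_⟩
      rw [one_mul, inv_one, mul_one]
      apply Subtype.ext
      rw [hxmat, coe_dS, hb0, hc0]
      have : d = a⁻¹ := by
        rw [hb0] at hdet
        have h5 : a * d = 1 := by linear_combination hdet
        exact (inv_eq_of_mul_eq_one_right h5).symm
      rw [this]
    · -- eigenvectors `(λ - d, b)`
      obtain ⟨r, hr⟩ : ∃ r, r * (b * (a + d)) = 1 :=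
        ⟨(b * (a + d))⁻¹, inv_mul_cancel₀ (mul_ne_zero hb0 ht)⟩
      obtain ⟨k, hk⟩ : ∃ k : SpecialLinearGroup (Fin 2) F,
          k.1 = !![r * (l - d), r * b; m - d, b] := by
        refine ⟨⟨!![r * (l - d), r * b; m - d, b], ?_⟩, rfl⟩
        rw [Matrix.det_fin_two_of, hm]
        linear_combination (-1 : F) * hr - h2
      refine ⟨k, l, hl0, ?_⟩
      rw [mul_inv_eq_iff_eq_mul]
      apply Subtype.ext
      rw [Matrix.SpecialLinearGroup.coe_mul, Matrix.SpecialLinearGroup.coe_mul, hk, hxmat, hdSmat]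
      ext i j
      fin_cases i <;> fin_cases j <;> simp [Matrix.mul_apply, Fin.sum_univ_two]
      · linear_combination (-r) * hroot + (r * l * (a + d)) * h2 - r * hdet
      · ring
      · rw [hm]; linear_combination (-1 : F) * hroot - hdet
      · ring
  · -- eigenvectors `(c, λ - a)`
    obtain ⟨r, hr⟩ : ∃ r, r * (c * (a + d)) = 1 :=
      ⟨(c * (a + d))⁻¹, inv_mul_cancel₀ (mul_ne_zero hc0 ht)⟩
    obtain ⟨k, hk⟩ : ∃ k : SpecialLinearGroup (Fin 2) F,
        k.1 = !![r * c, r * (l - a); c, m - a] := by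
      refine ⟨⟨!![r * c, r * (l - a); c, m - a], ?_⟩, rfl⟩
      rw [Matrix.det_fin_two_of, hm]
      linear_combination hr
    refine ⟨k, l, hl0, ?_⟩
    rw [mul_inv_eq_iff_eq_mul]
    apply Subtype.ext
    rw [Matrix.SpecialLinearGroup.coe_mul, Matrix.SpecialLinearGroup.coe_mul, hk, hxmat, hdSmat]
    ext i j
    fin_cases i <;> fin_cases j <;> simp [Matrix.mul_apply, Fin.sum_univ_two]
    · ring
    · linear_combination (-r) * hroot + (r * l * (a + d)) * h2 - r * hdet
    · ring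
    · rw [hm]; linear_combination (-1 : F) * hroot - hdet

/-- conjugation invariance of generation -/
theorem closure_conj_eq_top_iff {G : Type*} [Group G] (k x y : G) :
    Subgroup.closure ({k * x * k⁻¹, k * y * k⁻¹} : Set G) = ⊤ ↔
      Subgroup.closure ({x, y} : Set G) = ⊤ := by
  have h1 : Subgroup.closure ({k * x * k⁻¹, k * y * k⁻¹} : Set G)
      = (Subgroup.closure ({x, y} : Set G)).map (MulAut.conj k).toMonoidHom := by
    rw [MonoidHom.map_closure, Set.image_pair]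
    rfl
  rw [h1]
  constructor
  · intro h
    rw [eq_top_iff] at h ⊢
    intro g _
    obtain ⟨g', hg', hgg⟩ := h (Subgroup.mem_top (k * g * k⁻¹))
    have : g' = g := by
      have h5 : k * g' * k⁻¹ = k * g * k⁻¹ := hgg
      exact mul_left_cancel (mul_right_cancel h5)
    rw [← this]; exact hg'
  · intro h
    rw [h, eq_top_iff]
    intro g _
    exact ⟨k⁻¹ * g * k, Subgroup.mem_top _, by
      show k * (k⁻¹ * g * k) * k⁻¹ = g
      group⟩

theorem card_sol_conj {G : Type*} [Group G] (k x : G) :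
    Nat.card {y : G // Subgroup.closure ({x, y} : Set G) ≠ ⊤}
      = Nat.card {y : G // Subgroup.closure ({k * x * k⁻¹, y} : Set G) ≠ ⊤} := by
  apply Nat.card_congr
  refine Equiv.subtypeEquiv (MulAut.conj k).toEquiv (fun y => ?_)
  show _ ↔ Subgroup.closure ({k * x * k⁻¹, k * y * k⁻¹} : Set G) ≠ ⊤
  rw [Ne, Ne, closure_conj_eq_top_iff]

end Cfsg.Agent.helper11.CA
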