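import Mathlib
import Cfsg.Agent.Lib_helper11_CA17

set_option autoImplicit false

/-!
# Solubilizers in `SL₂(2^p)`: split semisimple elements
-/

namespace Cfsg.Agent.helper11.CA

open Matrix Cfsg.Agent.helper11.SL2U

variable {F : Type*} [Field F]

theorem jS_conj_lS (h2 : (2 : F) = 0) (s : F) : jS h2 * lS s * (jS h2)⁻¹ = uS s := by
  rw [mul_inv_eq_iff_eq_mul]
  apply Subtype.ext
  rw [Matrix.SpecialLinearGroup.coe_mul, Matrix.SpecialLinearGroup.coe_mul, coe_jS, coe_lS, coe_uS]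
  ext i j
  fin_cases i <;> fin_cases j <;> simp [Matrix.mul_apply, Fin.sum_univ_two]

theorem jS_conj_10 (h2 : (2 : F) = 0) (g : SpecialLinearGroup (Fin 2) F) :
    (jS h2 * g * (jS h2)⁻¹).1 1 0 = 0 ↔ g.1 0 1 = 0 := by
  rw [Matrix.SpecialLinearGroup.coe_mul, Matrix.SpecialLinearGroup.coe_mul,
    Matrix.SpecialLinearGroup.coe_inv, coe_jS, Matrix.adjugate_fin_two]
  simp only [Matrix.mul_apply, Fin.sum_univ_two]
  simp

theorem commute_conj_lS_iff (h2 : (2 : F) = 0) (s : F) (hs : s ≠ 0)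
    (g : SpecialLinearGroup (Fin 2) F) :
    Commute (g * lS s * g⁻¹) (lS s) ↔ g.1 0 1 = 0 := by
  rw [nor_iff hs (jS_conj_lS h2 s) g, jS_conj_10]

theorem dS_conj (δ : F) (hδ : δ ≠ 0) (A : SpecialLinearGroup (Fin 2) F) :
    (dS δ hδ * A * (dS δ hδ)⁻¹).1
      = !![A.1 0 0, δ ^ 2 * A.1 0 1; (δ⁻¹) ^ 2 * A.1 1 0, A.1 1 1] := by
  rw [Matrix.SpecialLinearGroup.coe_mul, Matrix.SpecialLinearGroup.coe_mul,
    Matrix.SpecialLinearGroup.coe_inv, coe_dS, Matrix.adjugate_fin_two]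
  ext i j
  fin_cases i <;> fin_cases j <;> simp only [Matrix.mul_apply, Fin.sum_univ_two] <;> simp <;>
    field_simp

theorem invol_diag_one (h2 : (2 : F) = 0) (i : SpecialLinearGroup (Fin 2) F) (hi2 : i ^ 2 = 1)
    (h : i.1 0 1 * i.1 1 0 = 0) : i.1 0 0 = 1 ∧ i.1 1 1 = 1 := by
  have htr : i.1 0 0 + i.1 1 1 = 0 := by
    have := trace_eq_zero_of_sq h2 i hi2
    rwa [Matrix.trace_fin_two] at this
  have hdet : i.1 0 0 * i.1 1 1 - i.1 0 1 * i.1 1 0 = 1 := by
    rw [← Matrix.det_fin_two]; exact i.2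
  have h00 : i.1 0 0 = 1 := by
    have : (i.1 0 0 - 1) ^ 2 = 0 := by
      linear_combination (-1 : F) * hdet + i.1 0 0 * htr - h - i.1 0 0 * h2
    exact sub_eq_zero.mp ((pow_eq_zero_iff two_ne_zero).mp this)
  refine ⟨h00, ?_⟩
  rw [h00] at htr
  linear_combination htr - h2

theorem invol_upper (h2 : (2 : F) = 0) (i : SpecialLinearGroup (Fin 2) F) (hi2 : i ^ 2 = 1)
    (h10 : i.1 1 0 = 0) : i = uS (i.1 0 1) := by
  obtain ⟨h00, h11⟩ := invol_diag_one h2 i hi2 (by rw [h10, mul_zero])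
  apply Subtype.ext
  rw [coe_uS]
  ext a b
  fin_cases a <;> fin_cases b <;> simp [h00, h11, h10]

theorem invol_lower (h2 : (2 : F) = 0) (i : SpecialLinearGroup (Fin 2) F) (hi2 : i ^ 2 = 1)
    (h01 : i.1 0 1 = 0) : i = lS (i.1 1 0) := by
  obtain ⟨h00, h11⟩ := invol_diag_one h2 i hi2 (by rw [h01, zero_mul])
  apply Subtype.ext
  rw [coe_lS]
  ext a b
  fin_cases a <;> fin_cases b <;> simp [h00, h11, h01]

section finite

variable [Fintype F] [CharP F 2]

theorem dS_sq_ne_one (δ : F) (hδ0 : δ ≠ 0) (hδ2 : δ ^ 2 ≠ 1) : (dS δ hδ0) ^ 2 ≠ 1 := by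
  have h2 : (2 : F) = 0 := CharTwo.two_eq_zero
  intro h
  have := trace_eq_zero_of_sq h2 _ h
  rw [coe_dS, Matrix.trace_fin_two_of] at this
  apply hδ2
  have h5 : δ * δ⁻¹ = 1 := mul_inv_cancel₀ hδ0
  linear_combination δ * this - h5 - h2

theorem sol_dS_imp (p : ℕ) (hp : p.Prime) (hF : Fintype.card F = 2 ^ p) (δ : F) (hδ0 : δ ≠ 0)
    (hδ2 : δ ^ 2 ≠ 1) (y : SpecialLinearGroup (Fin 2) F)
    (hL : Subgroup.closure ({dS δ hδ0, y} : Set (SpecialLinearGroup (Fin 2) F)) ≠ ⊤) :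
    y.1 1 0 = 0 ∨ y.1 0 1 = 0 ∨ (y.1 0 0 = 0 ∧ y.1 1 1 = 0) := by
  have h2 : (2 : F) = 0 := CharTwo.two_eq_zero
  have hx2 := dS_sq_ne_one δ hδ0 hδ2
  have hodd : Odd (orderOf (dS δ hδ0)) := by
    rcases h2_SL2 (dS δ hδ0) with h | h
    · exact absurd h hx2
    · exact h
  have hdd : δ * δ⁻¹ = 1 := mul_inv_cancel₀ hδ0
  have hne1 : δ⁻¹ - δ ≠ 0 := by
    intro h
    apply hδ2
    linear_combination (-δ) * h + hdd
  have hne2 : δ ^ 2 - (δ⁻¹) ^ 2 ≠ 0 := by
    intro h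
    apply hδ2
    have h5 : (δ ^ 2 - 1) ^ 2 = 0 := by
      linear_combination δ ^ 2 * h + (δ * δ⁻¹ + 1) * hdd + (1 - δ ^ 2) * h2
    exact sub_eq_zero.mp ((pow_eq_zero_iff two_ne_zero).mp h5)
  rcases closure_analysis_odd p hp hF (dS δ hδ0) y hodd hL with h | ⟨i, hi1, hi2, hxi, hyi⟩
  · rcases hinv_SL2 h2 _ y hx2 h with e | e
    · right; left
      have e' : y * dS δ hδ0 = dS δ hδ0 * y := mul_inv_eq_iff_eq_mul.mp e
      have h5 := congrArg (fun M : SpecialLinearGroup (Fin 2) F => M.1 0 1) e'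
      simp only [Matrix.SpecialLinearGroup.coe_mul, coe_dS, Matrix.mul_apply, Fin.sum_univ_two,
        Matrix.of_apply, Matrix.cons_val', Matrix.cons_val_zero, Matrix.cons_val_one,
        Matrix.cons_val_fin_one, mul_zero, zero_add, add_zero, zero_mul] at h5
      have h6 : y.1 0 1 * (δ⁻¹ - δ) = 0 := by linear_combination h5
      rcases mul_eq_zero.mp h6 with h7 | h7
      · exact h7
      · exact absurd h7 hne1
    · right; right
      have e' : y * dS δ hδ0 = (dS δ hδ0)⁻¹ * y := mul_inv_eq_iff_eq_mul.mp e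
      have h5 := congrArg (fun M : SpecialLinearGroup (Fin 2) F => M.1 0 0) e'
      have h5' := congrArg (fun M : SpecialLinearGroup (Fin 2) F => M.1 1 1) e'
      simp only [Matrix.SpecialLinearGroup.coe_mul, Matrix.SpecialLinearGroup.coe_inv, coe_dS,
        Matrix.adjugate_fin_two, Matrix.mul_apply, Fin.sum_univ_two,
        Matrix.of_apply, Matrix.cons_val', Matrix.cons_val_zero, Matrix.cons_val_one,
        Matrix.cons_val_fin_one, mul_zero, zero_add, add_zero, zero_mul, neg_zero] at h5 h5'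
      constructor
      · have h6 : y.1 0 0 * (δ⁻¹ - δ) = 0 := by linear_combination -h5
        rcases mul_eq_zero.mp h6 with h7 | h7
        · exact h7
        · exact absurd h7 hne1
      · have h6 : y.1 1 1 * (δ⁻¹ - δ) = 0 := by linear_combination h5'
        rcases mul_eq_zero.mp h6 with h7 | h7
        · exact h7
        · exact absurd h7 hne1
  · have h5 := commute_iff_mat.mp hxi
    rw [dS_conj] at h5
    have h00 := congrFun (congrFun h5 0) 0
    rw [PSL2Char2.mul_apply00, PSL2Char2.mul_apply00] at h00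
    simp only [Matrix.of_apply, Matrix.cons_val', Matrix.cons_val_zero, Matrix.cons_val_one,
      Matrix.cons_val_fin_one] at h00
    have h6 : (δ ^ 2 - (δ⁻¹) ^ 2) * (i.1 0 1 * i.1 1 0) = 0 := by linear_combination h00
    have h7 : i.1 0 1 * i.1 1 0 = 0 := by
      rcases mul_eq_zero.mp h6 with h | h
      · exact absurd h hne2
      · exact h
    rcases mul_eq_zero.mp h7 with h | h
    · right; left
      have hi := invol_lower h2 i hi2 h
      have hc : i.1 1 0 ≠ 0 := by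
        intro h0
        apply hi1
        rw [hi, h0]
        apply Subtype.ext
        rw [coe_lS, Matrix.SpecialLinearGroup.coe_one]
        ext a b
        fin_cases a <;> fin_cases b <;> simp
      rw [hi] at hyi
      exact (commute_conj_lS_iff h2 _ hc y).mp hyi
    · left
      have hi := invol_upper h2 i hi2 h
      have hc : i.1 0 1 ≠ 0 := by
        intro h0
        apply hi1
        rw [hi, h0, uS_zero]
      rw [hi] at hyi
      exact (commute_conj_uS_iff _ hc y).mp hyi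

theorem sol_dS_of (p : ℕ) (hp : p.Prime) (hF : Fintype.card F = 2 ^ p) (δ : F) (hδ0 : δ ≠ 0)
    (hδ2 : δ ^ 2 ≠ 1) (y : SpecialLinearGroup (Fin 2) F)
    (h : y.1 1 0 = 0 ∨ y.1 0 1 = 0 ∨ (y.1 0 0 = 0 ∧ y.1 1 1 = 0)) :
    Subgroup.closure ({dS δ hδ0, y} : Set (SpecialLinearGroup (Fin 2) F)) ≠ ⊤ := by
  have h2 : (2 : F) = 0 := CharTwo.two_eq_zero
  have h4 := four_le_card p hp hF
  have hx2 := dS_sq_ne_one δ hδ0 hδ2
  rcases h with h | h | ⟨h00, h11⟩
  · exact closure_ne_top_of_nor h4 _ y (uS 1) (uS_ne_one one_ne_zero)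
      ((commute_conj_uS_iff 1 one_ne_zero _).mpr (by simp [coe_dS]))
      ((commute_conj_uS_iff 1 one_ne_zero y).mpr h)
  · exact closure_ne_top_of_nor h4 _ y (lS 1) (lS_ne_one one_ne_zero)
      ((commute_conj_lS_iff h2 1 one_ne_zero _).mpr (by simp [coe_dS]))
      ((commute_conj_lS_iff h2 1 one_ne_zero y).mpr h)
  · have e : y * dS δ hδ0 = (dS δ hδ0)⁻¹ * y := by
      apply Subtype.ext
      rw [Matrix.SpecialLinearGroup.coe_mul, Matrix.SpecialLinearGroup.coe_mul,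
        Matrix.SpecialLinearGroup.coe_inv, coe_dS, Matrix.adjugate_fin_two]
      ext a b
      fin_cases a <;> fin_cases b <;> simp [Matrix.mul_apply, Fin.sum_univ_two, h00, h11] <;>
        ring
    have e' : y * dS δ hδ0 * y⁻¹ = (dS δ hδ0)⁻¹ := mul_inv_eq_iff_eq_mul.mpr e
    exact closure_ne_top_of_nor h4 _ y (dS δ hδ0) (ne_one_of_sq_ne hx2)
      (by
        have : dS δ hδ0 * dS δ hδ0 * (dS δ hδ0)⁻¹ = dS δ hδ0 := by group
        rw [this])
      (by rw [e']; exact (Commute.refl _).inv_left)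

end finite

end Cfsg.Agent.helper11.CA
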