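import Mathlib
import Cfsg.Agent.Lib_helper11_CA18

set_option autoImplicit false

/-!
# Solubilizers in `SL₂(2^p)`: the count for split semisimple elements
-/

namespace Cfsg.Agent.helper11.CA

open Matrix Cfsg.Agent.helper11.SL2U

variable {F : Type*} [Field F] [Fintype F] [CharP F 2]

theorem card_lower : Nat.card {g : SpecialLinearGroup (Fin 2) F // g.1 0 1 = 0}
    = Fintype.card F * (Fintype.card F - 1) := by
  have h2 : (2 : F) = 0 := CharTwo.two_eq_zero
  rw [← card_upper]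
  exact Nat.card_congr (Equiv.subtypeEquiv (MulAut.conj (jS h2)).toEquiv (fun g => by
    show g.1 0 1 = 0 ↔ (jS h2 * g * (jS h2)⁻¹).1 1 0 = 0
    rw [jS_conj_10]))

theorem card_diag : Nat.card {g : SpecialLinearGroup (Fin 2) F // g.1 1 0 = 0 ∧ g.1 0 1 = 0}
    = Fintype.card F - 1 := by
  classical
  have e : {g : SpecialLinearGroup (Fin 2) F // g.1 1 0 = 0 ∧ g.1 0 1 = 0} ≃ Fˣ :=
    { toFun := fun g => Units.mk0 (g.1.1 0 0) (by
        intro h0
        have hdet := g.1.2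
        rw [Matrix.det_fin_two, h0, g.2.1] at hdet
        simp at hdet)
      invFun := fun u => ⟨dS (u : F) u.ne_zero, by simp [coe_dS]⟩
      left_inv := by
        intro g
        apply Subtype.ext
        apply Subtype.ext
        have hdet := g.1.2
        rw [Matrix.det_fin_two, g.2.1, mul_zero, sub_zero] at hdet
        rw [coe_dS]
        ext i j
        fin_cases i <;> fin_cases j <;> simp
        all_goals first
          | exact g.2.2.symm
          | exact g.2.1.symm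
          | exact (eq_inv_of_mul_eq_one_right hdet).symm
          | exact g.2.2
          | exact g.2.1
          | exact (eq_inv_of_mul_eq_one_right hdet)
      right_inv := by
        intro u
        apply Units.ext
        simp [coe_dS] }
  rw [Nat.card_congr e, Nat.card_eq_fintype_card, Fintype.card_units]

theorem mul_jS_entries (g : SpecialLinearGroup (Fin 2) F) :
    (g * jS (CharTwo.two_eq_zero (R := F))).1 1 0 = g.1 1 1 ∧
      (g * jS (CharTwo.two_eq_zero (R := F))).1 0 1 = g.1 0 0 := by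
  rw [Matrix.SpecialLinearGroup.coe_mul, coe_jS]
  simp only [Matrix.mul_apply, Fin.sum_univ_two]
  simp

theorem card_antidiag :
    Nat.card {g : SpecialLinearGroup (Fin 2) F // g.1 0 0 = 0 ∧ g.1 1 1 = 0}
    = Fintype.card F - 1 := by
  rw [← card_diag]
  exact Nat.card_congr (Equiv.subtypeEquiv
    (Equiv.mulRight (jS (CharTwo.two_eq_zero (R := F)))) (fun g => by
      show _ ↔ (g * jS (CharTwo.two_eq_zero (R := F))).1 1 0 = 0 ∧
        (g * jS (CharTwo.two_eq_zero (R := F))).1 0 1 = 0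
      rw [(mul_jS_entries g).1, (mul_jS_entries g).2, and_comm]))

theorem card_monomial_union :
    Nat.card {y : SpecialLinearGroup (Fin 2) F //
      y.1 1 0 = 0 ∨ y.1 0 1 = 0 ∨ (y.1 0 0 = 0 ∧ y.1 1 1 = 0)}
    = 2 * Fintype.card F * (Fintype.card F - 1) := by
  classical
  obtain ⟨U, hU⟩ : ∃ U : Set (SpecialLinearGroup (Fin 2) F), U = {y | y.1 1 0 = 0} := ⟨_, rfl⟩
  obtain ⟨Lw, hLw⟩ : ∃ Lw : Set (SpecialLinearGroup (Fin 2) F), Lw = {y | y.1 0 1 = 0} :=
    ⟨_, rfl⟩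
  obtain ⟨A, hA⟩ : ∃ A : Set (SpecialLinearGroup (Fin 2) F),
      A = {y | y.1 0 0 = 0 ∧ y.1 1 1 = 0} := ⟨_, rfl⟩
  have hUc : U.ncard = Fintype.card F * (Fintype.card F - 1) := by
    rw [hU, ← Nat.card_coe_set_eq]; exact card_upper
  have hLc : Lw.ncard = Fintype.card F * (Fintype.card F - 1) := by
    rw [hLw, ← Nat.card_coe_set_eq]; exact card_lower
  have hAc : A.ncard = Fintype.card F - 1 := by
    rw [hA, ← Nat.card_coe_set_eq]; exact card_antidiag
  have hULc : (U ∩ Lw).ncard = Fintype.card F - 1 := by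
    have : U ∩ Lw = {y | y.1 1 0 = 0 ∧ y.1 0 1 = 0} := by
      rw [hU, hLw]; rfl
    rw [this, ← Nat.card_coe_set_eq]; exact card_diag
  have hdisj : Disjoint (U ∪ Lw) A := by
    rw [Set.disjoint_left]
    rintro y hy hyA
    rw [hA] at hyA
    obtain ⟨h00, h11⟩ := hyA
    have hdet := y.2
    rw [Matrix.det_fin_two, h00, h11] at hdet
    rcases hy with hy | hy
    · rw [hU] at hy
      have : y.1 1 0 = 0 := hy
      rw [this] at hdet; simp at hdet
    · rw [hLw] at hy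
      have : y.1 0 1 = 0 := hy
      rw [this] at hdet; simp at hdet
  have hunion : {y : SpecialLinearGroup (Fin 2) F |
      y.1 1 0 = 0 ∨ y.1 0 1 = 0 ∨ (y.1 0 0 = 0 ∧ y.1 1 1 = 0)} = (U ∪ Lw) ∪ A := by
    ext y
    rw [hU, hLw, hA]
    simp only [Set.mem_setOf_eq, Set.mem_union]
    rw [or_assoc]
  have hcard := Nat.card_coe_set_eq {y : SpecialLinearGroup (Fin 2) F |
      y.1 1 0 = 0 ∨ y.1 0 1 = 0 ∨ (y.1 0 0 = 0 ∧ y.1 1 1 = 0)}
  have hcard' : Nat.card {y : SpecialLinearGroup (Fin 2) F //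
      y.1 1 0 = 0 ∨ y.1 0 1 = 0 ∨ (y.1 0 0 = 0 ∧ y.1 1 1 = 0)} = ((U ∪ Lw) ∪ A).ncard := by
    rw [← hunion]; exact hcard
  rw [hcard', Set.ncard_union_eq hdisj (Set.toFinite _) (Set.toFinite _), hAc]
  have hui := Set.ncard_union_add_ncard_inter U Lw (Set.toFinite _) (Set.toFinite _)
  rw [hULc, hUc, hLc] at hui
  rw [hui]; ring

theorem dS_sq_of (δ : F) (hδ0 : δ ≠ 0) (h : δ ^ 2 = 1) : (dS δ hδ0) ^ 2 = 1 := by
  apply Subtype.ext
  rw [Matrix.SpecialLinearGroup.coe_pow, sq, coe_dS, Matrix.SpecialLinearGroup.coe_one]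
  have h' : δ⁻¹ * δ⁻¹ = 1 := by
    rw [← mul_inv, ← sq, h, inv_one]
  ext i j
  fin_cases i <;> fin_cases j <;> simp [Matrix.mul_apply, Fin.sum_univ_two, h', ← sq, h]

theorem sol_card_split (p : ℕ) (hp : p.Prime) (hF : Fintype.card F = 2 ^ p)
    (x : SpecialLinearGroup (Fin 2) F) (hx1 : x ≠ 1) (hord : orderOf x ∣ 2 ^ p - 1) :
    Nat.card {y : SpecialLinearGroup (Fin 2) F //
      Subgroup.closure ({x, y} : Set (SpecialLinearGroup (Fin 2) F)) ≠ ⊤}
      = 2 * 2 ^ p * (2 ^ p - 1) := by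
  have h2 : (2 : F) = 0 := CharTwo.two_eq_zero
  have hq1 : 1 ≤ 2 ^ p := Nat.one_le_two_pow
  have hodd : Odd (orderOf x) := by
    have h5 : Odd (2 ^ p - 1) :=
      Nat.Even.sub_odd hq1 (Nat.even_pow.mpr ⟨even_two, hp.ne_zero⟩) odd_one
    exact Odd.of_dvd_nat h5 hord
  have hx2 := sq_ne_one_of_odd hx1 hodd
  have hc : cnum x = 2 ^ p - 1 := by
    rcases cnum_SL2 x hx2 with h | h
    · rw [h, hF]
    · exfalso
      apply hx1
      have h6 : orderOf x ∣ 2 ^ p + 1 := by rw [← hF, ← h]; exact orderOf_dvd_cnum x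
      exact orderOf_eq_one_iff.mp (eq_one_of_dvd_both _ _ hq1 hodd hord h6)
  have ht := trace_ne_zero_of_sq_ne h2 x hx2
  rw [Matrix.trace_fin_two] at ht
  obtain ⟨l, hl⟩ : ∃ l : F, l ^ 2 + (x.1 0 0 + x.1 1 1) * l + 1 = 0 := by
    by_contra hcon
    push Not at hcon
    obtain ⟨-, -, c3⟩ := SL2Tori.card_centralizer_cases h2 x hx1
    have h5 := c3 (by rw [Matrix.trace_fin_two]; exact hcon)
    rw [cnum_eq] at hc
    have h6 : Nat.card (Cent x) = Fintype.card F + 1 := h5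
    rw [hc, hF] at h6
    omega
  obtain ⟨k, δ, hδ0, hk⟩ := exists_diag h2 x l ht hl
  have hδ2 : δ ^ 2 ≠ 1 := by
    intro h
    apply hx2
    have h5 := dS_sq_of δ hδ0 h
    rw [← hk, conj_pow] at h5
    have h6 : x ^ 2 = k⁻¹ * (k * x ^ 2 * k⁻¹) * k := by group
    rw [h6, h5]; group
  rw [card_sol_conj k x, hk]
  rw [Nat.card_congr (Equiv.subtypeEquivRight (fun y =>
    ⟨sol_dS_imp p hp hF δ hδ0 hδ2 y, sol_dS_of p hp hF δ hδ0 hδ2 y⟩))]
  rw [card_monomial_union, hF]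

end Cfsg.Agent.helper11.CA
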