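import Cfsg.Prelude.Def_ChevAutomorphisms
import Cfsg.Prelude.Def_LieChev
import Cfsg.Prelude.Def_ChevB2
import Cfsg.Prelude.Def_ChevD4

set_option autoImplicit false

namespace Cfsg.Agent.helper11

open Cfsg.Lie Cfsg.Lie.ChevalleyDatum

/-- one step along the `r`-chain -/
def step (D : ChevalleyDatum) (r s : ℕ) : Option ℕ :=
  if s < D.nroots then D.chainRoot r s 1 else none

/-- `k` steps along the `r`-chain starting from `s` -/
def reach (D : ChevalleyDatum) (r s : ℕ) : ℕ → Option ℕ
  | 0 => some s
  | k + 1 => (reach D r s k).bind (step D r)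

/-- every entry `(u, M)` at position `k` of the chain table of `(r, s)` satisfies `u = k r + s`,
in the sense that `u` is reached from `s` by `k` steps -/
def chainOK (D : ChevalleyDatum) : Bool :=
  (List.range D.nroots).all fun r => (D.chain.getD r #[]).toList.all fun e =>
    e.2.toList.zipIdx.all fun q => reach D r e.1 (q.2 + 1) == some q.1.1

theorem reach_char {F : Type*} [Field F] (D : ChevalleyDatum) (χ : ℕ → Fˣ)
    (hχ : D.IsRootCharacter χ) (r : ℕ) (hr : r < D.nroots) (s : ℕ) :
    ∀ (k u : ℕ), reach D r s k = some u → χ u = χ r ^ k * χ s := by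
  intro k
  induction k with
  | zero =>
    intro u h
    simp only [reach, Option.some.injEq] at h
    subst h
    simp
  | succ k ih =>
    intro u h
    simp only [reach, Option.bind_eq_some_iff] at h
    obtain ⟨v, hv, hstep⟩ := h
    unfold step at hstep
    split_ifs at hstep with hvn
    have h1 := hχ.2 r v u hr hvn hstep
    rw [h1, ih v hv, pow_succ, ← mul_assoc, mul_comm (χ r) (χ r ^ k)]

theorem chainOK_spec (D : ChevalleyDatum) (h : chainOK D = true) (r s u : ℕ) (hr : r < D.nroots)
    (km : ℕ × ℤ) (hkm : km ∈ D.chainCoeff r s u) : reach D r s km.1 = some u := by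
  unfold chainOK at h
  rw [List.all_eq_true] at h
  have h1 := h r (List.mem_range.mpr hr)
  rw [List.all_eq_true] at h1
  unfold ChevalleyDatum.chainCoeff at hkm
  rw [List.mem_flatMap] at hkm
  obtain ⟨e, he, hkm⟩ := hkm
  rw [List.mem_filter] at he
  obtain ⟨heL, hes⟩ := he
  rw [List.mem_map] at hkm
  obtain ⟨q, hq, rfl⟩ := hkm
  rw [List.mem_filter] at hq
  obtain ⟨hqL, hqu⟩ := hq
  have h2 := h1 e heL
  rw [List.all_eq_true] at h2
  have h3 := h2 q hqL
  simp only [beq_iff_eq] at h3
  have hes' : e.1 = s := by simpa using hes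
  have hqu' : q.1.1 = u := by simpa using hqu
  rw [hes', hqu'] at h3
  exact h3

set_option maxRecDepth 1000000 in
theorem okG2 : chainOK chevG2 = true := by decide +kernel
set_option maxRecDepth 1000000 in
theorem okB2 : chainOK chevB2 = true := by decide +kernel
set_option maxRecDepth 1000000 in
theorem okD4 : chainOK chevD4 = true := by decide +kernel
set_option maxRecDepth 1000000 in
theorem okF4 : chainOK chevF4 = true := by decide +kernel
set_option maxRecDepth 1000000 in
theorem okE6 : chainOK chevE6 = true := by decide +kernel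
set_option maxRecDepth 1000000 in
theorem okE7 : chainOK chevE7 = true := by decide +kernel
set_option maxRecDepth 1000000 in
theorem okE8 : chainOK chevE8 = true := by decide +kernel

theorem chainOK_of_mem (D : ChevalleyDatum)
    (hD : D ∈ [chevG2, chevB2, chevD4, chevF4, chevE6, chevE7, chevE8]) : chainOK D = true := by
  simp only [List.mem_cons, List.mem_nil_iff, or_false] at hD
  rcases hD with rfl | rfl | rfl | rfl | rfl | rfl | rfl
  · exact okG2
  · exact okB2
  · exact okD4
  · exact okF4
  · exact okE6
  · exact okE7
  · exact okE8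

end Cfsg.Agent.helper11
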