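import Mathlib
import Cfsg.Prelude.Def_Transfer

set_option autoImplicit false
set_option linter.unusedSectionVars false
set_option linter.unusedSimpArgs false
set_option linter.unusedVariables false
set_option linter.style.haveILetI false
set_option maxHeartbeats 1000000

/-!
# A dihedral group of order `8` acting faithfully on an elementary abelian group of order `9`
-/

namespace Cfsg.Agent.helper11.D8M

open DihedralGroup

/-- the elements of a subgroup of order three -/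
theorem mem_of_card_three {G : Type*} [Group G] (H : Subgroup G) (hH : Nat.card H = 3) {u : G}
    (hu : u ∈ H) (hu1 : u ≠ 1) {g : G} (hg : g ∈ H) : g = 1 ∨ g = u ∨ g = u⁻¹ := by
  haveI : Finite H := Nat.finite_of_card_ne_zero (by rw [hH]; norm_num)
  have hu3 : u ^ 3 = 1 := by
    have h := pow_card_eq_one' (G := H) (x := ⟨u, hu⟩)
    rw [hH] at h
    have := congrArg Subtype.val h
    simpa using this
  have ho : orderOf u = 3 := by
    have hd : orderOf u ∣ 3 := orderOf_dvd_of_pow_eq_one hu3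
    rcases (Nat.dvd_prime Nat.prime_three).mp hd with h | h
    · exact absurd (orderOf_eq_one_iff.mp h) hu1
    · exact h
  have hle : Subgroup.zpowers u ≤ H := Subgroup.zpowers_le.mpr hu
  have heq : Subgroup.zpowers u = H := by
    apply Subgroup.eq_of_le_of_card_ge hle
    rw [Nat.card_zpowers, ho, hH]
  rw [← heq] at hg
  obtain ⟨k, rfl⟩ := Subgroup.mem_zpowers_iff.mp hg
  have hk : u ^ (k % 3) = u ^ k := by
    have := zpow_mod_orderOf u k
    rw [ho] at this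
    exact_mod_cast this
  have h0 : 0 ≤ k % 3 := Int.emod_nonneg k (by norm_num)
  have h3 : k % 3 < 3 := Int.emod_lt_of_pos k (by norm_num)
  rw [← hk]
  have hcases : k % 3 = 0 ∨ k % 3 = 1 ∨ k % 3 = 2 := by omega
  rcases hcases with h | h | h
  · left; rw [h]; simp
  · right; left; rw [h]; simp
  · right; right
    rw [h]
    have : u ^ (2 : ℤ) = u ^ 2 := by norm_cast
    rw [this, eq_inv_iff_mul_eq_one, ← pow_succ, hu3]

section grp

variable {S : Type*} [Group S] (A : Subgroup S) [hAn : A.Normal]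
  (φ : DihedralGroup 4 →* S)

theorem sr_ne_one (i : ZMod 4) : (sr i : DihedralGroup 4) ≠ 1 := by
  revert i
  decide

theorem conj_memA (s : S) {a : S} (ha : a ∈ A) : s * a * s⁻¹ ∈ A := hAn.conj_mem a ha s

variable (hA : Cfsg.IsElementaryAbelian 3 A) (hA9 : Nat.card A = 9)
  (hAC : Subgroup.centralizer (A : Set S) = A) (hφ : Function.Injective φ)

include hA in
theorem commA {a b : S} (ha : a ∈ A) (hb : b ∈ A) : a * b = b * a := by
  have := hA.1.is_comm.comm (⟨a, ha⟩ : A) ⟨b, hb⟩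
  exact congrArg Subtype.val this

include hA in
theorem cubeA {a : S} (ha : a ∈ A) : a ^ 3 = 1 := hA.2 a ha

include hA in
theorem inv_ne_self {a : S} (ha : a ∈ A) (ha1 : a ≠ 1) : a⁻¹ ≠ a := by
  intro h
  apply ha1
  have h2 : a * a = 1 := by
    nth_rewrite 1 [← h]
    exact inv_mul_cancel a
  have h3 := cubeA A hA ha
  rw [pow_succ, pow_two, h2, one_mul] at h3
  exact h3

include hA hAC hφ in
/-- the action on `A` is faithful -/
theorem faithful {d : DihedralGroup 4} (hd : d ≠ 1) : ∃ a ∈ A, φ d * a * (φ d)⁻¹ ≠ a := by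
  by_contra hcon
  simp only [not_exists, not_and, not_not] at hcon
  have hc : φ d ∈ Subgroup.centralizer (A : Set S) := by
    rw [Subgroup.mem_centralizer_iff]
    intro h hh
    have := hcon h hh
    rw [mul_inv_eq_iff_eq_mul] at this
    exact this.symm
  rw [hAC] at hc
  have h3 := cubeA A hA hc
  have h8 : (φ d) ^ 8 = 1 := by
    rw [← map_pow]
    have h8' : ∀ d : DihedralGroup 4, d ^ 8 = 1 := by decide
    rw [h8' d, map_one]
  have h9 : (φ d) ^ 9 = 1 := by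
    have : (φ d) ^ 9 = ((φ d) ^ 3) ^ 3 := by rw [← pow_mul]
    rw [this, h3, one_pow]
  have h1 : φ d = 1 := by
    have : (φ d) ^ 9 = (φ d) ^ 8 * φ d := pow_succ _ 8
    rw [h9, h8, one_mul] at this
    exact this.symm
  apply hd
  apply hφ
  rw [h1, map_one]

theorem z_sq : φ (r 2) * φ (r 2) = 1 := by
  rw [← map_mul]
  have : (r 2 : DihedralGroup 4) * r 2 = 1 := by decide
  rw [this, map_one]

theorem z_inv : (φ (r 2))⁻¹ = φ (r 2) := by
  rw [inv_eq_iff_mul_eq_one]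
  exact z_sq φ

theorem t_sq (i : ZMod 4) : φ (sr i) * φ (sr i) = 1 := by
  rw [← map_mul]
  have : (sr i : DihedralGroup 4) * sr i = 1 := by revert i; decide
  rw [this, map_one]

theorem t_inv (i : ZMod 4) : (φ (sr i))⁻¹ = φ (sr i) := by
  rw [inv_eq_iff_mul_eq_one]
  exact t_sq φ i

theorem x_sq : φ (r 1) * φ (r 1) = φ (r 2) := by
  rw [← map_mul]
  congr 1

theorem z_comm (d : DihedralGroup 4) : φ (r 2) * φ d = φ d * φ (r 2) := by
  rw [← map_mul, ← map_mul]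
  congr 1
  revert d
  decide

theorem x_t_conj (i : ZMod 4) : φ (r 1) * φ (sr i) * (φ (r 1))⁻¹ = φ (sr (i + 2)) := by
  rw [← map_inv, ← map_mul, ← map_mul]
  congr 1
  revert i
  decide

theorem t_z (i : ZMod 4) : φ (sr i) * φ (r 2) = φ (sr (i + 2)) := by
  rw [← map_mul]
  congr 1

include hA hA9 hAC hφ in
/-- the central involution inverts `A` -/
theorem z_inverts {g : S} (hg : g ∈ A) : φ (r 2) * g * (φ (r 2))⁻¹ = g⁻¹ := by
  -- the subgroup of inverted elements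
  let I : Subgroup S :=
    { carrier := {g | g ∈ A ∧ φ (r 2) * g * (φ (r 2))⁻¹ = g⁻¹}
      one_mem' := ⟨A.one_mem, by simp⟩
      mul_mem' := by
        rintro a b ⟨ha, ha'⟩ ⟨hb, hb'⟩
        refine ⟨A.mul_mem ha hb, ?_⟩
        have : φ (r 2) * (a * b) * (φ (r 2))⁻¹ =
            (φ (r 2) * a * (φ (r 2))⁻¹) * (φ (r 2) * b * (φ (r 2))⁻¹) := by group
        rw [this, ha', hb', mul_inv_rev]
        exact commA A hA (A.inv_mem ha) (A.inv_mem hb)
      inv_mem' := by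
        rintro a ⟨ha, ha'⟩
        refine ⟨A.inv_mem ha, ?_⟩
        have : φ (r 2) * a⁻¹ * (φ (r 2))⁻¹ = (φ (r 2) * a * (φ (r 2))⁻¹)⁻¹ := by group
        rw [this, ha'] }
  have hIA : I ≤ A := fun g hg => hg.1
  have hmemI : ∀ g, g ∈ I ↔ g ∈ A ∧ φ (r 2) * g * (φ (r 2))⁻¹ = g⁻¹ := fun g => Iff.rfl
  haveI : Finite A := Nat.finite_of_card_ne_zero (by rw [hA9]; norm_num)
  have hd : Nat.card I ∣ 9 := by
    rw [← hA9]
    exact Subgroup.card_dvd_of_le hIA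
  -- a non-trivial inverted element
  obtain ⟨g0, hg0, hg0'⟩ := faithful A φ hA hAC hφ (d := r 2) (by decide)
  have hu : g0 * (φ (r 2) * g0 * (φ (r 2))⁻¹)⁻¹ ∈ I := by
    refine ⟨A.mul_mem hg0 (A.inv_mem (conj_memA A _ hg0)), ?_⟩
    have e1 : φ (r 2) * (g0 * (φ (r 2) * g0 * (φ (r 2))⁻¹)⁻¹) * (φ (r 2))⁻¹ =
        (φ (r 2) * g0 * (φ (r 2))⁻¹) *
          ((φ (r 2) * φ (r 2)) * g0 * (φ (r 2) * φ (r 2))⁻¹)⁻¹ := by group
    rw [e1, z_sq, one_mul, inv_one, mul_one, mul_inv_rev, inv_inv]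
  have hu1 : g0 * (φ (r 2) * g0 * (φ (r 2))⁻¹)⁻¹ ≠ 1 := by
    intro h
    apply hg0'
    rw [mul_inv_eq_one] at h
    exact h.symm
  have h9 : (9 : ℕ) = 3 ^ 2 := by norm_num
  rw [h9] at hd
  obtain ⟨k, hk, hcard⟩ := (Nat.dvd_prime_pow Nat.prime_three).mp hd
  have hk' : k = 0 ∨ k = 1 ∨ k = 2 := by omega
  rcases hk' with rfl | rfl | rfl
  · exfalso
    have := Subgroup.eq_bot_of_card_eq I (by simpa using hcard)
    rw [this, Subgroup.mem_bot] at hu
    exact hu1 hu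
  · exfalso
    have hc3 : Nat.card I = 3 := by simpa using hcard
    set u := g0 * (φ (r 2) * g0 * (φ (r 2))⁻¹)⁻¹ with hu_def
    have hxu : φ (r 1) * u * (φ (r 1))⁻¹ ∈ I := by
      refine ⟨conj_memA A _ hu.1, ?_⟩
      have e1 : φ (r 2) * (φ (r 1) * u * (φ (r 1))⁻¹) * (φ (r 2))⁻¹ =
          (φ (r 2) * φ (r 1)) * u * (φ (r 2) * φ (r 1))⁻¹ := by group
      rw [e1, z_comm]
      have e2 : φ (r 1) * φ (r 2) * u * (φ (r 1) * φ (r 2))⁻¹ =
          φ (r 1) * (φ (r 2) * u * (φ (r 2))⁻¹) * (φ (r 1))⁻¹ := by group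
      rw [e2, hu.2]
      group
    have hzu : φ (r 2) * u * (φ (r 2))⁻¹ =
        φ (r 1) * (φ (r 1) * u * (φ (r 1))⁻¹) * (φ (r 1))⁻¹ := by
      rw [← x_sq]
      group
    have huu : u⁻¹ ≠ u := inv_ne_self A hA hu.1 hu1
    rcases mem_of_card_three I hc3 hu hu1 hxu with h | h | h
    · apply hu1
      have : u = (φ (r 1))⁻¹ * (φ (r 1) * u * (φ (r 1))⁻¹) * φ (r 1) := by group
      rw [this, h]
      group
    · rw [h, h, hu.2] at hzu
      exact huu hzu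
    · rw [h] at hzu
      have e3 : φ (r 1) * u⁻¹ * (φ (r 1))⁻¹ = (φ (r 1) * u * (φ (r 1))⁻¹)⁻¹ := by group
      rw [e3, h, inv_inv, hu.2] at hzu
      exact huu hzu
  · have hIeq : I = A := by
      apply Subgroup.eq_of_le_of_card_ge hIA
      rw [hA9, hcard]
      norm_num
    have : g ∈ I := by rw [hIeq]; exact hg
    exact this.2

include hA hA9 hAC hφ in
/-- eigenvectors of a non-central involution -/
theorem exists_ab (i : ZMod 4) : ∃ a b : S, a ∈ A ∧ b ∈ A ∧ a ≠ 1 ∧ b ≠ 1 ∧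
    φ (sr i) * a * (φ (sr i))⁻¹ = a ∧ φ (sr i) * b * (φ (sr i))⁻¹ = b⁻¹ := by
  obtain ⟨g0, hg0, hg0'⟩ := faithful A φ hA hAC hφ (d := sr i) (sr_ne_one _)
  have hb : φ (sr i) * (g0 * (φ (sr i) * g0 * (φ (sr i))⁻¹)⁻¹) * (φ (sr i))⁻¹ =
      (g0 * (φ (sr i) * g0 * (φ (sr i))⁻¹)⁻¹)⁻¹ := by
    have e1 : φ (sr i) * (g0 * (φ (sr i) * g0 * (φ (sr i))⁻¹)⁻¹) * (φ (sr i))⁻¹ =
        (φ (sr i) * g0 * (φ (sr i))⁻¹) *
          ((φ (sr i) * φ (sr i)) * g0 * (φ (sr i) * φ (sr i))⁻¹)⁻¹ := by group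
    rw [e1, t_sq, one_mul, inv_one, mul_one, mul_inv_rev, inv_inv]
  have hb1 : g0 * (φ (sr i) * g0 * (φ (sr i))⁻¹)⁻¹ ≠ 1 := by
    intro h
    apply hg0'
    rw [mul_inv_eq_one] at h
    exact h.symm
  have hbA : g0 * (φ (sr i) * g0 * (φ (sr i))⁻¹)⁻¹ ∈ A :=
    A.mul_mem hg0 (A.inv_mem (conj_memA A _ hg0))
  by_cases hex : ∃ a ∈ A, a ≠ 1 ∧ φ (sr i) * a * (φ (sr i))⁻¹ = a
  · obtain ⟨a, ha, ha1, hta⟩ := hex
    exact ⟨a, _, ha, hbA, ha1, hb1, hta, hb⟩
  · exfalso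
    simp only [not_exists, not_and] at hex
    -- then `t` inverts `A`, so `t z` centralises `A`
    obtain ⟨g1, hg1, hg1'⟩ := faithful A φ hA hAC hφ (d := sr (i + 2)) (sr_ne_one _)
    apply hg1'
    have hfix : φ (sr i) * (g1 * (φ (sr i) * g1 * (φ (sr i))⁻¹)) * (φ (sr i))⁻¹ =
        g1 * (φ (sr i) * g1 * (φ (sr i))⁻¹) := by
      have e1 : φ (sr i) * (g1 * (φ (sr i) * g1 * (φ (sr i))⁻¹)) * (φ (sr i))⁻¹ =
          (φ (sr i) * g1 * (φ (sr i))⁻¹) *
            ((φ (sr i) * φ (sr i)) * g1 * (φ (sr i) * φ (sr i))⁻¹) := by group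
      rw [e1, t_sq, one_mul, inv_one, mul_one]
      exact commA A hA (conj_memA A _ hg1) hg1
    have h1 : g1 * (φ (sr i) * g1 * (φ (sr i))⁻¹) = 1 := by
      by_contra hne
      exact hex _ (A.mul_mem hg1 (conj_memA A _ hg1)) hne hfix
    have h2 : φ (sr i) * g1 * (φ (sr i))⁻¹ = g1⁻¹ := by
      rw [eq_inv_iff_mul_eq_one, commA A hA (conj_memA A _ hg1) hg1]
      exact h1
    rw [← t_z]
    have e2 : φ (sr i) * φ (r 2) * g1 * (φ (sr i) * φ (r 2))⁻¹ =
        φ (sr i) * (φ (r 2) * g1 * (φ (r 2))⁻¹) * (φ (sr i))⁻¹ := by group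
    rw [e2, z_inverts A φ hA hA9 hAC hφ hg1]
    have e3 : φ (sr i) * g1⁻¹ * (φ (sr i))⁻¹ = (φ (sr i) * g1 * (φ (sr i))⁻¹)⁻¹ := by group
    rw [e3, h2, inv_inv]

include hA hA9 hAC hφ in
/-- the fixed points of a non-central involution -/
theorem fixed_of_t (i : ZMod 4) {a : S} (ha : a ∈ A) (ha1 : a ≠ 1)
    (hta : φ (sr i) * a * (φ (sr i))⁻¹ = a) {g : S} (hg : g ∈ A)
    (htg : φ (sr i) * g * (φ (sr i))⁻¹ = g) : g = 1 ∨ g = a ∨ g = a⁻¹ := by
  let F : Subgroup S := A ⊓ Subgroup.centralizer {φ (sr i)}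
  have hmemF : ∀ g, g ∈ F ↔ g ∈ A ∧ φ (sr i) * g * (φ (sr i))⁻¹ = g := by
    intro g
    show g ∈ A ⊓ Subgroup.centralizer {φ (sr i)} ↔ _
    rw [Subgroup.mem_inf, Subgroup.mem_centralizer_iff]
    constructor
    · rintro ⟨h1, h2⟩
      refine ⟨h1, ?_⟩
      rw [h2 _ rfl]
      group
    · rintro ⟨h1, h2⟩
      refine ⟨h1, ?_⟩
      intro h hh
      rw [Set.mem_singleton_iff] at hh
      rw [hh]
      rw [mul_inv_eq_iff_eq_mul] at h2
      exact h2
  have hFA : F ≤ A := inf_le_left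
  haveI : Finite A := Nat.finite_of_card_ne_zero (by rw [hA9]; norm_num)
  have hd : Nat.card F ∣ 9 := by
    rw [← hA9]
    exact Subgroup.card_dvd_of_le hFA
  have haF : a ∈ F := (hmemF a).mpr ⟨ha, hta⟩
  have hgF : g ∈ F := (hmemF g).mpr ⟨hg, htg⟩
  have h9 : (9 : ℕ) = 3 ^ 2 := by norm_num
  rw [h9] at hd
  obtain ⟨k, hk, hcard⟩ := (Nat.dvd_prime_pow Nat.prime_three).mp hd
  have hk' : k = 0 ∨ k = 1 ∨ k = 2 := by omega
  rcases hk' with rfl | rfl | rfl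
  · exfalso
    have := Subgroup.eq_bot_of_card_eq F (by simpa using hcard)
    rw [this, Subgroup.mem_bot] at haF
    exact ha1 haF
  · have hc3 : Nat.card F = 3 := by simpa using hcard
    exact mem_of_card_three F hc3 haF ha1 hgF
  · exfalso
    have hFeq : F = A := by
      apply Subgroup.eq_of_le_of_card_ge hFA
      rw [hA9, hcard]
      norm_num
    obtain ⟨g0, hg0, hg0'⟩ := faithful A φ hA hAC hφ (d := sr i) (sr_ne_one _)
    apply hg0'
    have : g0 ∈ F := by rw [hFeq]; exact hg0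
    exact ((hmemF g0).mp this).2

include hA hA9 hAC hφ in
/-- the rotation of order four swaps the two eigenspaces -/
theorem swap_ab (i : ZMod 4) {a b : S} (ha : a ∈ A) (hb : b ∈ A) (ha1 : a ≠ 1) (hb1 : b ≠ 1)
    (hta : φ (sr i) * a * (φ (sr i))⁻¹ = a) (htb : φ (sr i) * b * (φ (sr i))⁻¹ = b⁻¹) :
    (φ (r 1) * a * (φ (r 1))⁻¹ = b ∨ φ (r 1) * a * (φ (r 1))⁻¹ = b⁻¹) ∧
    (φ (r 1) * b * (φ (r 1))⁻¹ = a ∨ φ (r 1) * b * (φ (r 1))⁻¹ = a⁻¹) := by
  have hzb := z_inverts A φ hA hA9 hAC hφ hb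
  have hza := z_inverts A φ hA hA9 hAC hφ ha
  -- `t z` fixes `b`
  have htzb : φ (sr (i + 2)) * b * (φ (sr (i + 2)))⁻¹ = b := by
    rw [← t_z]
    have e2 : φ (sr i) * φ (r 2) * b * (φ (sr i) * φ (r 2))⁻¹ =
        φ (sr i) * (φ (r 2) * b * (φ (r 2))⁻¹) * (φ (sr i))⁻¹ := by group
    rw [e2, hzb]
    have e3 : φ (sr i) * b⁻¹ * (φ (sr i))⁻¹ = (φ (sr i) * b * (φ (sr i))⁻¹)⁻¹ := by group
    rw [e3, htb, inv_inv]
  have hxt : φ (r 1) * φ (sr i) = φ (sr (i + 2)) * φ (r 1) := by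
    rw [← x_t_conj]
    group
  have hxt2 : φ (r 1) * φ (sr (i + 2)) = φ (sr i) * φ (r 1) := by
    have := x_t_conj φ (i + 2)
    have e : i + 2 + 2 = i := by
      have : (2 : ZMod 4) + 2 = 0 := by decide
      rw [add_assoc, this, add_zero]
    rw [e] at this
    rw [← this]
    group
  constructor
  · have hfix : φ (sr (i + 2)) * (φ (r 1) * a * (φ (r 1))⁻¹) * (φ (sr (i + 2)))⁻¹ =
        φ (r 1) * a * (φ (r 1))⁻¹ := by
      have e1 : φ (sr (i + 2)) * (φ (r 1) * a * (φ (r 1))⁻¹) * (φ (sr (i + 2)))⁻¹ =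
          (φ (sr (i + 2)) * φ (r 1)) * a * (φ (sr (i + 2)) * φ (r 1))⁻¹ := by group
      rw [e1, ← hxt]
      have e2 : φ (r 1) * φ (sr i) * a * (φ (r 1) * φ (sr i))⁻¹ =
          φ (r 1) * (φ (sr i) * a * (φ (sr i))⁻¹) * (φ (r 1))⁻¹ := by group
      rw [e2, hta]
    rcases fixed_of_t A φ hA hA9 hAC hφ (i + 2) hb hb1 htzb (conj_memA A _ ha) hfix with h | h | h
    · exfalso
      apply ha1
      have : a = (φ (r 1))⁻¹ * (φ (r 1) * a * (φ (r 1))⁻¹) * φ (r 1) := by group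
      rw [this, h]
      group
    · left; exact h
    · right; exact h
  · have hfix : φ (sr i) * (φ (r 1) * b * (φ (r 1))⁻¹) * (φ (sr i))⁻¹ =
        φ (r 1) * b * (φ (r 1))⁻¹ := by
      have e1 : φ (sr i) * (φ (r 1) * b * (φ (r 1))⁻¹) * (φ (sr i))⁻¹ =
          (φ (sr i) * φ (r 1)) * b * (φ (sr i) * φ (r 1))⁻¹ := by group
      rw [e1, ← hxt2]
      have e2 : φ (r 1) * φ (sr (i + 2)) * b * (φ (r 1) * φ (sr (i + 2)))⁻¹ =
          φ (r 1) * (φ (sr (i + 2)) * b * (φ (sr (i + 2)))⁻¹) * (φ (r 1))⁻¹ := by group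
      rw [e2, htzb]
    rcases fixed_of_t A φ hA hA9 hAC hφ i ha ha1 hta (conj_memA A _ hb) hfix with h | h | h
    · exfalso
      apply hb1
      have : b = (φ (r 1))⁻¹ * (φ (r 1) * b * (φ (r 1))⁻¹) * φ (r 1) := by group
      rw [this, h]
      group
    · left; exact h
    · right; exact h

end grp

end Cfsg.Agent.helper11.D8M
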