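import Mathlib
import Cfsg.Agent.Lib_helper11_D8a

set_option autoImplicit false
set_option linter.unusedSectionVars false
set_option linter.unusedSimpArgs false
set_option linter.unusedVariables false
set_option linter.style.haveILetI false
set_option maxHeartbeats 1000000

/-!
# Faithful irreducible modules over the field with two elements for `3² : D₈`
-/

namespace Cfsg.Agent.helper11.D8M

open DihedralGroup

theorem gen_D8 : ∀ i : ZMod 4, ∀ d : DihedralGroup 4,
    ∃ k : Fin 4, d = r 1 ^ (k : ℕ) ∨ d = sr i * r 1 ^ (k : ℕ) := by decide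

section rep

variable {S : Type*} [Group S] {M : Type*} [AddCommGroup M] [Module (ZMod 2) M]
  (ρ : Representation (ZMod 2) S M)

theorem rho_mul (s t : S) (m : M) : ρ (s * t) m = ρ s (ρ t m) := by
  rw [map_mul]; rfl

theorem rho_one (m : M) : ρ 1 m = m := by
  rw [map_one]; rfl

theorem rho_inv_self (s : S) (m : M) : ρ s⁻¹ (ρ s m) = m := by
  rw [← rho_mul, inv_mul_cancel, rho_one]

theorem rho_self_inv (s : S) (m : M) : ρ s (ρ s⁻¹ m) = m := by
  rw [← rho_mul, mul_inv_cancel, rho_one]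

theorem rho_inj (s : S) {m m' : M} (h : ρ s m = ρ s m') : m = m' := by
  have := congrArg (ρ s⁻¹) h
  rwa [rho_inv_self, rho_inv_self] at this

theorem rho_eq_zero (s : S) {m : M} (h : ρ s m = 0) : m = 0 := by
  apply rho_inj ρ s
  rw [h, map_zero]

theorem eq_of_add_eq_zero {m m' : M} (h : m + m' = 0) : m' = m := by
  have h2 := ZModModule.add_self m
  have : m + m' = m + m := by rw [h, h2]
  exact (add_left_cancel this)

/-- fixed points of an element -/
def fixS (g : S) : Submodule (ZMod 2) M where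
  carrier := {m | ρ g m = m}
  add_mem' := by
    intro m m' h h'
    show ρ g (m + m') = m + m'
    have h1 : ρ g m = m := h
    have h2 : ρ g m' = m' := h'
    rw [map_add, h1, h2]
  zero_mem' := map_zero _
  smul_mem' := by
    intro c m h
    show ρ g (c • m) = c • m
    have h1 : ρ g m = m := h
    rw [map_smul, h1]

theorem mem_fixS {g : S} {m : M} : m ∈ fixS ρ g ↔ ρ g m = m := Iff.rfl

theorem fixS_conj {g g' s : S} (h : s * g * s⁻¹ = g') {m : M} (hm : m ∈ fixS ρ g) :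
    ρ s m ∈ fixS ρ g' := by
  rw [mem_fixS] at hm ⊢
  have : g' * s = s * g := by rw [← h]; group
  rw [← rho_mul, this, rho_mul, hm]

theorem fixS_inv {g : S} {m : M} (hm : m ∈ fixS ρ g) : m ∈ fixS ρ g⁻¹ := by
  rw [mem_fixS] at hm ⊢
  nth_rewrite 1 [← hm]
  exact rho_inv_self ρ g m

theorem fixS_inv' {g : S} {m : M} (hm : m ∈ fixS ρ g⁻¹) : m ∈ fixS ρ g := by
  have := fixS_inv ρ hm
  rwa [inv_inv] at this

theorem fixS_conj_pm {g g' s : S} (h : s * g * s⁻¹ = g' ∨ s * g * s⁻¹ = g'⁻¹) {m : M}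
    (hm : m ∈ fixS ρ g) : ρ s m ∈ fixS ρ g' := by
  rcases h with h | h
  · exact fixS_conj ρ h hm
  · exact fixS_inv' ρ (fixS_conj ρ h hm)

/-- the stabiliser of a subspace -/
def stabSub (W : Submodule (ZMod 2) M) : Subgroup S where
  carrier := {s | (∀ m ∈ W, ρ s m ∈ W) ∧ (∀ m ∈ W, ρ s⁻¹ m ∈ W)}
  one_mem' := ⟨fun m hm => by rw [rho_one]; exact hm,
    fun m hm => by rw [inv_one, rho_one]; exact hm⟩
  mul_mem' := by
    rintro s t ⟨hs, hs'⟩ ⟨ht, ht'⟩
    refine ⟨fun m hm => ?_, fun m hm => ?_⟩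
    · rw [rho_mul]; exact hs _ (ht _ hm)
    · rw [mul_inv_rev, rho_mul]; exact ht' _ (hs' _ hm)
  inv_mem' := by
    rintro s ⟨hs, hs'⟩
    exact ⟨hs', fun m hm => by rw [inv_inv]; exact hs m hm⟩

theorem mem_stab_of_finite [Finite S] (W : Submodule (ZMod 2) M) {s : S}
    (h : ∀ m ∈ W, ρ s m ∈ W) : s ∈ stabSub ρ W := by
  refine ⟨h, ?_⟩
  have hpow : ∀ n : ℕ, ∀ m ∈ W, ρ (s ^ n) m ∈ W := by
    intro n
    induction n with
    | zero => intro m hm; rw [pow_zero, rho_one]; exact hm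
    | succ n ih => intro m hm; rw [pow_succ, rho_mul]; exact ih _ (h m hm)
  have hs : s⁻¹ = s ^ (orderOf s - 1) := by
    have hpos := orderOf_pos s
    rw [inv_eq_iff_mul_eq_one, ← pow_succ', Nat.sub_add_cancel hpos, pow_orderOf_eq_one]
  rw [hs]
  exact hpow _

end rep

/-- the hypotheses, with a chosen non-central involution `sr i` and eigenvectors `a`, `b` -/
structure Hyp {S : Type*} [Group S] (A : Subgroup S) (φ : DihedralGroup 4 →* S) (X : Subgroup S)
    {M : Type*} [AddCommGroup M] [Module (ZMod 2) M] (ρ : Representation (ZMod 2) S M)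
    (i : ZMod 4) (a b : S) : Prop where
  hAn : A.Normal
  hA : Cfsg.IsElementaryAbelian 3 A
  hA9 : Nat.card A = 9
  hAC : Subgroup.centralizer (A : Set S) = A
  hφ : Function.Injective φ
  hX : ∀ s, s ∈ X ↔ ∃ d, φ d = s
  hAX : A ⊔ X = ⊤
  hfaith : Function.Injective ρ
  hirr : ∀ N : Submodule (ZMod 2) M, (∀ s : S, ∀ m ∈ N, ρ s m ∈ N) → N = ⊥ ∨ N = ⊤
  ha : a ∈ A
  hb : b ∈ A
  ha1 : a ≠ 1
  hb1 : b ≠ 1
  hta : φ (sr i) * a * (φ (sr i))⁻¹ = a
  htb : φ (sr i) * b * (φ (sr i))⁻¹ = b⁻¹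

section main

variable {S : Type*} [Group S] [Finite S] {A : Subgroup S} {φ : DihedralGroup 4 →* S}
  {X : Subgroup S} {M : Type*} [AddCommGroup M] [Module (ZMod 2) M] [Finite M]
  {ρ : Representation (ZMod 2) S M} {i : ZMod 4} {a b : S}

theorem Hyp.zinv (h : Hyp A φ X ρ i a b) {g : S} (hg : g ∈ A) :
    φ (r 2) * g * (φ (r 2))⁻¹ = g⁻¹ := by
  haveI := h.hAn
  exact z_inverts A φ h.hA h.hA9 h.hAC h.hφ hg

theorem Hyp.swap (h : Hyp A φ X ρ i a b) :
    (φ (r 1) * a * (φ (r 1))⁻¹ = b ∨ φ (r 1) * a * (φ (r 1))⁻¹ = b⁻¹) ∧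
    (φ (r 1) * b * (φ (r 1))⁻¹ = a ∨ φ (r 1) * b * (φ (r 1))⁻¹ = a⁻¹) := by
  haveI := h.hAn
  exact swap_ab A φ h.hA h.hA9 h.hAC h.hφ i h.ha h.hb h.ha1 h.hb1 h.hta h.htb

theorem Hyp.a_cube (h : Hyp A φ X ρ i a b) : a * a * a = 1 := by
  have := h.hA.2 a h.ha
  rw [pow_succ, pow_two] at this
  exact this

theorem Hyp.b_cube (h : Hyp A φ X ρ i a b) : b * b * b = 1 := by
  have := h.hA.2 b h.hb
  rw [pow_succ, pow_two] at this
  exact this

theorem Hyp.b_inv (h : Hyp A φ X ρ i a b) : b⁻¹ = b * b := by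
  rw [inv_eq_iff_mul_eq_one, ← mul_assoc]
  exact h.b_cube

theorem Hyp.ab_comm (h : Hyp A φ X ρ i a b) : a * b = b * a := by
  haveI := h.hAn
  exact commA A h.hA h.ha h.hb

theorem Hyp.gen_top (h : Hyp A φ X ρ i a b) :
    Subgroup.closure ({a, b, φ (r 1), φ (sr i)} : Set S) = ⊤ := by
  haveI := h.hAn
  have haH : a ∈ Subgroup.closure ({a, b, φ (r 1), φ (sr i)} : Set S) :=
    Subgroup.subset_closure (by simp)
  have hbH : b ∈ Subgroup.closure ({a, b, φ (r 1), φ (sr i)} : Set S) :=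
    Subgroup.subset_closure (by simp)
  have hxH : φ (r 1) ∈ Subgroup.closure ({a, b, φ (r 1), φ (sr i)} : Set S) :=
    Subgroup.subset_closure (by simp)
  have htH : φ (sr i) ∈ Subgroup.closure ({a, b, φ (r 1), φ (sr i)} : Set S) :=
    Subgroup.subset_closure (by simp)
  have hAH : A ≤ Subgroup.closure ({a, b, φ (r 1), φ (sr i)} : Set S) := by
    have hKA : A ⊓ Subgroup.closure ({a, b, φ (r 1), φ (sr i)} : Set S) ≤ A := inf_le_left
    haveI : Finite A := Nat.finite_of_card_ne_zero (by rw [h.hA9]; norm_num)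
    have hd : Nat.card (A ⊓ Subgroup.closure ({a, b, φ (r 1), φ (sr i)} : Set S) : Subgroup S) ∣ 9 := by
      rw [← h.hA9]
      exact Subgroup.card_dvd_of_le hKA
    have haK : a ∈ A ⊓ Subgroup.closure ({a, b, φ (r 1), φ (sr i)} : Set S) := ⟨h.ha, haH⟩
    have hbK : b ∈ A ⊓ Subgroup.closure ({a, b, φ (r 1), φ (sr i)} : Set S) := ⟨h.hb, hbH⟩
    have h9 : (9 : ℕ) = 3 ^ 2 := by norm_num
    rw [h9] at hd
    obtain ⟨k, hk, hcard⟩ := (Nat.dvd_prime_pow Nat.prime_three).mp hd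
    have hk' : k = 0 ∨ k = 1 ∨ k = 2 := by omega
    have hbb : b⁻¹ ≠ b := inv_ne_self A h.hA h.hb h.hb1
    rcases hk' with rfl | rfl | rfl
    · exfalso
      have := Subgroup.eq_bot_of_card_eq
        (A ⊓ Subgroup.closure ({a, b, φ (r 1), φ (sr i)} : Set S)) (by simpa using hcard)
      rw [this, Subgroup.mem_bot] at haK
      exact h.ha1 haK
    · exfalso
      have hc3 : Nat.card (A ⊓ Subgroup.closure ({a, b, φ (r 1), φ (sr i)} : Set S) : Subgroup S) = 3 := by
        simpa using hcard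
      rcases mem_of_card_three _ hc3 haK h.ha1 hbK with hb' | hb' | hb'
      · exact h.hb1 hb'
      · have := h.htb
        rw [hb', h.hta] at this
        rw [hb'] at hbb
        exact hbb this.symm
      · have := h.htb
        have e3 : φ (sr i) * a⁻¹ * (φ (sr i))⁻¹ = (φ (sr i) * a * (φ (sr i))⁻¹)⁻¹ := by group
        rw [hb', e3, h.hta] at this
        rw [hb'] at hbb
        exact hbb this.symm
    · have hKeq : A ⊓ Subgroup.closure ({a, b, φ (r 1), φ (sr i)} : Set S) = A := by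
        apply Subgroup.eq_of_le_of_card_ge hKA
        rw [h.hA9, hcard]
        norm_num
      rw [← hKeq]
      exact inf_le_right
  have hXH : X ≤ Subgroup.closure ({a, b, φ (r 1), φ (sr i)} : Set S) := by
    intro s hs
    obtain ⟨d, rfl⟩ := (h.hX s).mp hs
    obtain ⟨k, hk | hk⟩ := gen_D8 i d
    · rw [hk, map_pow]
      exact Subgroup.pow_mem _ hxH _
    · rw [hk, map_mul, map_pow]
      exact Subgroup.mul_mem _ htH (Subgroup.pow_mem _ hxH _)
  rw [eq_top_iff, ← h.hAX]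
  exact sup_le hAH hXH

/-- a subspace invariant under the four generators is trivial -/
theorem Hyp.irr4 (h : Hyp A φ X ρ i a b) (W : Submodule (ZMod 2) M)
    (h1 : ∀ m ∈ W, ρ a m ∈ W) (h2 : ∀ m ∈ W, ρ b m ∈ W) (h3 : ∀ m ∈ W, ρ (φ (r 1)) m ∈ W)
    (h4 : ∀ m ∈ W, ρ (φ (sr i)) m ∈ W) : W = ⊥ ∨ W = ⊤ := by
  apply h.hirr
  have hle : Subgroup.closure ({a, b, φ (r 1), φ (sr i)} : Set S) ≤ stabSub ρ W := by
    rw [Subgroup.closure_le]
    intro s hs
    simp only [Set.mem_insert_iff, Set.mem_singleton_iff] at hs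
    rcases hs with hs | hs | hs | hs
    · rw [hs]; exact mem_stab_of_finite ρ W h1
    · rw [hs]; exact mem_stab_of_finite ρ W h2
    · rw [hs]; exact mem_stab_of_finite ρ W h3
    · rw [hs]; exact mem_stab_of_finite ρ W h4
  rw [h.gen_top] at hle
  intro s m hm
  exact (hle (Subgroup.mem_top s)).1 m hm

end main

end Cfsg.Agent.helper11.D8M
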