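import Mathlib
import Cfsg.Agent.Lib_helper11_D8b

set_option autoImplicit false
set_option linter.unusedSectionVars false
set_option linter.unusedSimpArgs false
set_option linter.unusedVariables false
set_option linter.style.haveILetI false
set_option maxHeartbeats 1000000

/-!
# Faithful irreducible modules over the field with two elements for `3² : D₈` (the order)
-/

namespace Cfsg.Agent.helper11.D8M

open DihedralGroup

section main

variable {S : Type*} [Group S] [Finite S] {A : Subgroup S} {φ : DihedralGroup 4 →* S}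
  {X : Subgroup S} {M : Type*} [AddCommGroup M] [Module (ZMod 2) M] [Finite M]
  {ρ : Representation (ZMod 2) S M} {i : ZMod 4} {a b : S}

theorem Hyp.Va_b (h : Hyp A φ X ρ i a b) {m : M} (hm : m ∈ fixS ρ a) : ρ b m ∈ fixS ρ a := by
  apply fixS_conj ρ _ hm
  rw [← h.ab_comm, mul_inv_cancel_right]

theorem Hyp.Va_t (h : Hyp A φ X ρ i a b) {m : M} (hm : m ∈ fixS ρ a) :
    ρ (φ (sr i)) m ∈ fixS ρ a := fixS_conj ρ h.hta hm

theorem Hyp.Va_z (h : Hyp A φ X ρ i a b) {m : M} (hm : m ∈ fixS ρ a) :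
    ρ (φ (r 2)) m ∈ fixS ρ a := fixS_inv' ρ (fixS_conj ρ (h.zinv h.ha) hm)

theorem Hyp.Va_x (h : Hyp A φ X ρ i a b) {m : M} (hm : m ∈ fixS ρ a) :
    ρ (φ (r 1)) m ∈ fixS ρ b := fixS_conj_pm ρ h.swap.1 hm

theorem Hyp.Vb_a (h : Hyp A φ X ρ i a b) {m : M} (hm : m ∈ fixS ρ b) : ρ a m ∈ fixS ρ b := by
  apply fixS_conj ρ _ hm
  rw [h.ab_comm, mul_inv_cancel_right]

theorem Hyp.Vb_t (h : Hyp A φ X ρ i a b) {m : M} (hm : m ∈ fixS ρ b) :
    ρ (φ (sr i)) m ∈ fixS ρ b := fixS_inv' ρ (fixS_conj ρ h.htb hm)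

theorem Hyp.Vb_z (h : Hyp A φ X ρ i a b) {m : M} (hm : m ∈ fixS ρ b) :
    ρ (φ (r 2)) m ∈ fixS ρ b := fixS_inv' ρ (fixS_conj ρ (h.zinv h.hb) hm)

theorem Hyp.Vb_x (h : Hyp A φ X ρ i a b) {m : M} (hm : m ∈ fixS ρ b) :
    ρ (φ (r 1)) m ∈ fixS ρ a := fixS_conj_pm ρ h.swap.2 hm

theorem Hyp.xx (h : Hyp A φ X ρ i a b) (m : M) :
    ρ (φ (r 1)) (ρ (φ (r 1)) m) = ρ (φ (r 2)) m := by
  rw [← rho_mul, x_sq]

theorem Hyp.zz (h : Hyp A φ X ρ i a b) (m : M) : ρ (φ (r 2)) (ρ (φ (r 2)) m) = m := by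
  rw [← rho_mul, z_sq, rho_one]

theorem Hyp.tt (h : Hyp A φ X ρ i a b) (j : ZMod 4) (m : M) :
    ρ (φ (sr j)) (ρ (φ (sr j)) m) = m := by
  rw [← rho_mul, t_sq, rho_one]

theorem Hyp.tx (h : Hyp A φ X ρ i a b) (m : M) :
    ρ (φ (sr i)) (ρ (φ (r 1)) m) = ρ (φ (r 1)) (ρ (φ (sr (i + 2))) m) := by
  rw [← rho_mul, ← rho_mul, ← map_mul, ← map_mul]
  have e : ∀ j : ZMod 4, (sr j : DihedralGroup 4) * r 1 = r 1 * sr (j + 2) := by decide
  rw [e i]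

theorem Hyp.tz_eq (h : Hyp A φ X ρ i a b) (m : M) :
    ρ (φ (sr (i + 2))) m = ρ (φ (sr i)) (ρ (φ (r 2)) m) := by
  rw [← rho_mul, t_z]

theorem Hyp.zx (h : Hyp A φ X ρ i a b) (d : DihedralGroup 4) (m : M) :
    ρ (φ (r 2)) (ρ (φ d) m) = ρ (φ d) (ρ (φ (r 2)) m) := by
  rw [← rho_mul, ← rho_mul, z_comm]

theorem Hyp.zb (h : Hyp A φ X ρ i a b) (m : M) :
    ρ (φ (r 2)) (ρ b m) = ρ b⁻¹ (ρ (φ (r 2)) m) := by
  rw [← rho_mul, ← rho_mul]
  congr 2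
  rw [← h.zinv h.hb]
  group

theorem Hyp.ax (h : Hyp A φ X ρ i a b) :
    ∃ b' : S, (b' = b ∨ b' = b⁻¹) ∧ a * φ (r 1) = φ (r 1) * b' := by
  rcases h.swap.2 with h' | h'
  · refine ⟨b, Or.inl rfl, ?_⟩
    rw [← h']
    group
  · refine ⟨b⁻¹, Or.inr rfl, ?_⟩
    have : a = (φ (r 1) * b * (φ (r 1))⁻¹)⁻¹ := by rw [h', inv_inv]
    rw [this]
    group

theorem Hyp.bx (h : Hyp A φ X ρ i a b) :
    ∃ a' : S, (a' = a ∨ a' = a⁻¹) ∧ b * φ (r 1) = φ (r 1) * a' := by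
  rcases h.swap.1 with h' | h'
  · refine ⟨a, Or.inl rfl, ?_⟩
    rw [← h']
    group
  · refine ⟨a⁻¹, Or.inr rfl, ?_⟩
    have : b = (φ (r 1) * a * (φ (r 1))⁻¹)⁻¹ := by rw [h', inv_inv]
    rw [this]
    group

/-- the two eigenspaces meet trivially -/
theorem Hyp.inter_bot (h : Hyp A φ X ρ i a b) : fixS ρ a ⊓ fixS ρ b = ⊥ := by
  have hinv := h.irr4 (fixS ρ a ⊓ fixS ρ b)
    (fun m hm => by
      have : ρ a m = m := hm.1
      rw [this]; exact hm)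
    (fun m hm => by
      have : ρ b m = m := hm.2
      rw [this]; exact hm)
    (fun m hm => ⟨h.Vb_x hm.2, h.Va_x hm.1⟩)
    (fun m hm => ⟨h.Va_t hm.1, h.Vb_t hm.2⟩)
  rcases hinv with h0 | h0
  · exact h0
  · exfalso
    apply h.ha1
    apply h.hfaith
    apply LinearMap.ext
    intro m
    have hm : m ∈ fixS ρ a ⊓ fixS ρ b := by rw [h0]; exact Submodule.mem_top
    have : ρ a m = m := hm.1
    rw [this, rho_one]

theorem Hyp.inter_zero (h : Hyp A φ X ρ i a b) {m : M} (h1 : m ∈ fixS ρ a) (h2 : m ∈ fixS ρ b) :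
    m = 0 := by
  have : m ∈ fixS ρ a ⊓ fixS ρ b := ⟨h1, h2⟩
  rw [h.inter_bot] at this
  exact (Submodule.mem_bot _).mp this

/-- the two eigenspaces span the module -/
theorem Hyp.sup_top (h : Hyp A φ X ρ i a b) (hne : fixS ρ a ≠ ⊥ ∨ fixS ρ b ≠ ⊥) :
    fixS ρ a ⊔ fixS ρ b = ⊤ := by
  have hinv := h.irr4 (fixS ρ a ⊔ fixS ρ b)
    (fun m hm => by
      obtain ⟨v, hv, w, hw, rfl⟩ := Submodule.mem_sup.mp hm
      rw [map_add]
      have hv' : ρ a v = v := hv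
      rw [hv']
      exact Submodule.mem_sup.mpr ⟨v, hv, _, h.Vb_a hw, rfl⟩)
    (fun m hm => by
      obtain ⟨v, hv, w, hw, rfl⟩ := Submodule.mem_sup.mp hm
      rw [map_add]
      have hw' : ρ b w = w := hw
      rw [hw']
      exact Submodule.mem_sup.mpr ⟨_, h.Va_b hv, w, hw, rfl⟩)
    (fun m hm => by
      obtain ⟨v, hv, w, hw, rfl⟩ := Submodule.mem_sup.mp hm
      rw [map_add, add_comm]
      exact Submodule.mem_sup.mpr ⟨_, h.Vb_x hw, _, h.Va_x hv, rfl⟩)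
    (fun m hm => by
      obtain ⟨v, hv, w, hw, rfl⟩ := Submodule.mem_sup.mp hm
      rw [map_add]
      exact Submodule.mem_sup.mpr ⟨_, h.Va_t hv, _, h.Vb_t hw, rfl⟩)
  rcases hinv with h0 | h0
  · exfalso
    rw [sup_eq_bot_iff] at h0
    rcases hne with h1 | h1
    · exact h1 h0.1
    · exact h1 h0.2
  · exact h0

theorem Hyp.Va_ne_bot (h : Hyp A φ X ρ i a b) (hne : fixS ρ a ≠ ⊥ ∨ fixS ρ b ≠ ⊥) :
    fixS ρ a ≠ ⊥ := by
  intro hV
  rcases hne with h1 | h1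
  · exact h1 hV
  · obtain ⟨w, hw, hw0⟩ := (Submodule.ne_bot_iff _).mp h1
    apply hw0
    have : ρ (φ (r 1)) w ∈ fixS ρ a := h.Vb_x hw
    rw [hV, Submodule.mem_bot] at this
    exact rho_eq_zero ρ _ this

theorem Hyp.decomp (h : Hyp A φ X ρ i a b) (hne : fixS ρ a ≠ ⊥ ∨ fixS ρ b ≠ ⊥) (m : M) :
    ∃ v ∈ fixS ρ a, ∃ w ∈ fixS ρ a, m = v + ρ (φ (r 1)) w := by
  have hm : m ∈ fixS ρ a ⊔ fixS ρ b := by rw [h.sup_top hne]; exact Submodule.mem_top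
  obtain ⟨v, hv, w', hw', rfl⟩ := Submodule.mem_sup.mp hm
  refine ⟨v, hv, ρ (φ (r 1))⁻¹ w', ?_, ?_⟩
  · have h1 : ρ (φ (r 1)) (ρ (φ (r 2)) w') ∈ fixS ρ a := h.Vb_x (h.Vb_z hw')
    have e : (φ (r 1))⁻¹ = φ (r 1) * φ (r 2) := by
      rw [← map_inv, ← map_mul]
      congr 1
    rw [e, rho_mul]
    exact h1
  · rw [rho_self_inv]

/-- uniqueness of the decomposition -/
theorem Hyp.decomp_unique (h : Hyp A φ X ρ i a b) {v w v' w' : M} (hv : v ∈ fixS ρ a)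
    (hw : w ∈ fixS ρ a) (hv' : v' ∈ fixS ρ a) (hw' : w' ∈ fixS ρ a)
    (he : v + ρ (φ (r 1)) w = v' + ρ (φ (r 1)) w') : v = v' ∧ w = w' := by
  have h1 : v - v' = ρ (φ (r 1)) (w' - w) := by
    rw [map_sub]
    have := he
    rw [← sub_eq_zero] at this ⊢
    rw [← this]
    abel
  have h2 : v - v' ∈ fixS ρ a := Submodule.sub_mem _ hv hv'
  have h3 : v - v' ∈ fixS ρ b := by
    rw [h1]
    exact h.Va_x (Submodule.sub_mem _ hw' hw)
  have h4 := h.inter_zero h2 h3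
  constructor
  · exact sub_eq_zero.mp h4
  · rw [h4] at h1
    have := rho_eq_zero ρ _ h1.symm
    exact (sub_eq_zero.mp this).symm

/-- a non-zero subspace of the eigenspace, invariant under the stabiliser, is everything -/
theorem Hyp.clifford (h : Hyp A φ X ρ i a b) (V0 : Submodule (ZMod 2) M)
    (hle : V0 ≤ fixS ρ a) (hne : V0 ≠ ⊥) (hb' : ∀ m ∈ V0, ρ b m ∈ V0)
    (ht' : ∀ m ∈ V0, ρ (φ (sr i)) m ∈ V0) (hz' : ∀ m ∈ V0, ρ (φ (r 2)) m ∈ V0) :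
    V0 = fixS ρ a := by
  have hbinv : ∀ m ∈ V0, ρ b⁻¹ m ∈ V0 := by
    intro m hm
    rw [h.b_inv, rho_mul]
    exact hb' _ (hb' _ hm)
  have hainv : ∀ m ∈ V0, ρ a⁻¹ m = m := by
    intro m hm
    exact fixS_inv ρ (hle hm)
  have hinv := h.irr4 (V0 ⊔ V0.map (ρ (φ (r 1))))
    (fun m hm => by
      obtain ⟨v, hv, w, hw, rfl⟩ := Submodule.mem_sup.mp hm
      obtain ⟨w0, hw0, rfl⟩ := Submodule.mem_map.mp hw
      obtain ⟨b', hb'', hax⟩ := h.ax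
      rw [map_add]
      have hv' : ρ a v = v := hle hv
      rw [hv', ← rho_mul, hax, rho_mul]
      refine Submodule.mem_sup.mpr ⟨v, hv, _, Submodule.mem_map.mpr ⟨ρ b' w0, ?_, rfl⟩, rfl⟩
      rcases hb'' with rfl | rfl
      · exact hb' _ hw0
      · exact hbinv _ hw0)
    (fun m hm => by
      obtain ⟨v, hv, w, hw, rfl⟩ := Submodule.mem_sup.mp hm
      obtain ⟨w0, hw0, rfl⟩ := Submodule.mem_map.mp hw
      obtain ⟨a', ha'', hbx⟩ := h.bx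
      rw [map_add, ← rho_mul, hbx, rho_mul]
      refine Submodule.mem_sup.mpr ⟨_, hb' _ hv, _, Submodule.mem_map.mpr ⟨ρ a' w0, ?_, rfl⟩, rfl⟩
      rcases ha'' with rfl | rfl
      · have : ρ a' w0 = w0 := hle hw0
        rw [this]; exact hw0
      · rw [hainv _ hw0]; exact hw0)
    (fun m hm => by
      obtain ⟨v, hv, w, hw, rfl⟩ := Submodule.mem_sup.mp hm
      obtain ⟨w0, hw0, rfl⟩ := Submodule.mem_map.mp hw
      rw [map_add, h.xx, add_comm]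
      exact Submodule.mem_sup.mpr ⟨_, hz' _ hw0, _, Submodule.mem_map.mpr ⟨v, hv, rfl⟩, rfl⟩)
    (fun m hm => by
      obtain ⟨v, hv, w, hw, rfl⟩ := Submodule.mem_sup.mp hm
      obtain ⟨w0, hw0, rfl⟩ := Submodule.mem_map.mp hw
      rw [map_add, h.tx, h.tz_eq]
      exact Submodule.mem_sup.mpr ⟨_, ht' _ hv, _,
        Submodule.mem_map.mpr ⟨_, ht' _ (hz' _ hw0), rfl⟩, rfl⟩)
  rcases hinv with h0 | h0
  · exfalso
    rw [sup_eq_bot_iff] at h0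
    exact hne h0.1
  · apply le_antisymm hle
    intro v hv
    have hvW : v ∈ V0 ⊔ V0.map (ρ (φ (r 1))) := by rw [h0]; exact Submodule.mem_top
    obtain ⟨v0, hv0, w, hw, he⟩ := Submodule.mem_sup.mp hvW
    obtain ⟨w0, hw0, rfl⟩ := Submodule.mem_map.mp hw
    have hz0 : (0 : M) ∈ fixS ρ a := Submodule.zero_mem _
    have he' : v0 + ρ (φ (r 1)) w0 = v + ρ (φ (r 1)) 0 := by rw [map_zero, add_zero]; exact he
    have := (h.decomp_unique (hle hv0) (hle hw0) hv hz0 he').1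
    rw [← this]
    exact hv0

end main

end Cfsg.Agent.helper11.D8M
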