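import Mathlib
import Cfsg.Agent.Lib_helper11_D8c

set_option autoImplicit false
set_option linter.unusedSectionVars false
set_option linter.unusedSimpArgs false
set_option linter.unusedVariables false
set_option linter.style.haveILetI false
set_option maxHeartbeats 1000000

/-!
# Faithful irreducible modules over the field with two elements for `3² : D₈` (the eigenspace)
-/

namespace Cfsg.Agent.helper11.D8M

open DihedralGroup

section rep2

variable {S : Type*} [Group S] {M : Type*} [AddCommGroup M] [Module (ZMod 2) M]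
  (ρ : Representation (ZMod 2) S M)

/-- an involution has a non-zero fixed vector on a non-zero invariant subspace -/
theorem invol_fix (W : Submodule (ZMod 2) M) (hW : W ≠ ⊥) (g : S)
    (hg : ∀ m ∈ W, ρ g m ∈ W) (hgg : ∀ m : M, ρ g (ρ g m) = m) :
    ∃ v ∈ W, v ≠ 0 ∧ ρ g v = v := by
  obtain ⟨v, hv, hv0⟩ := (Submodule.ne_bot_iff _).mp hW
  by_cases hu : v + ρ g v = 0
  · exact ⟨v, hv, hv0, eq_of_add_eq_zero hu⟩
  · refine ⟨v + ρ g v, W.add_mem hv (hg v hv), hu, ?_⟩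
    rw [map_add, hgg, add_comm]

end rep2

section main

variable {S : Type*} [Group S] [Finite S] {A : Subgroup S} {φ : DihedralGroup 4 →* S}
  {X : Subgroup S} {M : Type*} [AddCommGroup M] [Module (ZMod 2) M] [Finite M]
  {ρ : Representation (ZMod 2) S M} {i : ZMod 4} {a b : S}

theorem Hyp.tz_b (h : Hyp A φ X ρ i a b) : φ (sr (i + 2)) * b = b * φ (sr (i + 2)) := by
  have hzb := h.zinv h.hb
  have h1 : φ (sr (i + 2)) * b * (φ (sr (i + 2)))⁻¹ = b := by
    rw [← t_z]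
    have e2 : φ (sr i) * φ (r 2) * b * (φ (sr i) * φ (r 2))⁻¹ =
        φ (sr i) * (φ (r 2) * b * (φ (r 2))⁻¹) * (φ (sr i))⁻¹ := by group
    rw [e2, hzb]
    have e3 : φ (sr i) * b⁻¹ * (φ (sr i))⁻¹ = (φ (sr i) * b * (φ (sr i))⁻¹)⁻¹ := by group
    rw [e3, h.htb, inv_inv]
  rw [mul_inv_eq_iff_eq_mul] at h1
  exact h1

theorem Hyp.Va_tz (h : Hyp A φ X ρ i a b) {m : M} (hm : m ∈ fixS ρ a) :
    ρ (φ (sr (i + 2))) m ∈ fixS ρ a := by
  rw [h.tz_eq]
  exact h.Va_t (h.Va_z hm)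

/-- `t z` acts trivially on the eigenspace of `a` -/
theorem Hyp.tz_triv (h : Hyp A φ X ρ i a b) (hne : fixS ρ a ≠ ⊥ ∨ fixS ρ b ≠ ⊥) {v : M}
    (hv : v ∈ fixS ρ a) : ρ (φ (sr (i + 2))) v = v := by
  have hVne := h.Va_ne_bot hne
  have hV0ne : fixS ρ a ⊓ fixS ρ (φ (sr (i + 2))) ≠ ⊥ := by
    obtain ⟨u, hu, hu0, hfu⟩ := invol_fix ρ (fixS ρ a) hVne (φ (sr (i + 2)))
      (fun m hm => h.Va_tz hm) (fun m => h.tt (i + 2) m)
    rw [Submodule.ne_bot_iff]
    exact ⟨u, ⟨hu, hfu⟩, hu0⟩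
  have hcl := h.clifford (fixS ρ a ⊓ fixS ρ (φ (sr (i + 2)))) inf_le_left hV0ne
    (fun m hm => by
      refine ⟨h.Va_b hm.1, ?_⟩
      show ρ (φ (sr (i + 2))) (ρ b m) = ρ b m
      have hm2 : ρ (φ (sr (i + 2))) m = m := hm.2
      rw [← rho_mul, h.tz_b, rho_mul, hm2])
    (fun m hm => by
      refine ⟨h.Va_t hm.1, ?_⟩
      show ρ (φ (sr (i + 2))) (ρ (φ (sr i)) m) = ρ (φ (sr i)) m
      have hm2 : ρ (φ (sr (i + 2))) m = m := hm.2
      have e : ∀ j : ZMod 4, (sr (j + 2) : DihedralGroup 4) * sr j = sr j * sr (j + 2) := by decide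
      rw [← rho_mul, ← map_mul, e i, map_mul, rho_mul, hm2])
    (fun m hm => by
      refine ⟨h.Va_z hm.1, ?_⟩
      show ρ (φ (sr (i + 2))) (ρ (φ (r 2)) m) = ρ (φ (r 2)) m
      have hm2 : ρ (φ (sr (i + 2))) m = m := hm.2
      rw [← h.zx, hm2])
  have : v ∈ fixS ρ a ⊓ fixS ρ (φ (sr (i + 2))) := by rw [hcl]; exact hv
  exact this.2

theorem Hyp.t_eq_z (h : Hyp A φ X ρ i a b) (hne : fixS ρ a ≠ ⊥ ∨ fixS ρ b ≠ ⊥) {v : M}
    (hv : v ∈ fixS ρ a) : ρ (φ (sr i)) v = ρ (φ (r 2)) v := by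
  have h1 := h.tz_triv hne hv
  rw [h.tz_eq] at h1
  have h2 := congrArg (ρ (φ (sr i))) h1
  rw [h.tt] at h2
  exact h2.symm

theorem Hyp.exists_v (h : Hyp A φ X ρ i a b) (hne : fixS ρ a ≠ ⊥ ∨ fixS ρ b ≠ ⊥) :
    ∃ v ∈ fixS ρ a, v ≠ 0 ∧ ρ (φ (r 2)) v = v :=
  invol_fix ρ (fixS ρ a) (h.Va_ne_bot hne) (φ (r 2)) (fun m hm => h.Va_z hm) (fun m => h.zz m)

theorem Hyp.b_sq (h : Hyp A φ X ρ i a b) {v : M} (hv : v ∈ fixS ρ a) :
    ρ b (ρ b v) = v + ρ b v := by
  have h3 : ρ b (ρ b (ρ b v)) = v := by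
    rw [← rho_mul, ← rho_mul, h.b_cube, rho_one]
  have hs : v + ρ b v + ρ b (ρ b v) ∈ fixS ρ a :=
    Submodule.add_mem _ (Submodule.add_mem _ hv (h.Va_b hv)) (h.Va_b (h.Va_b hv))
  have hs' : v + ρ b v + ρ b (ρ b v) ∈ fixS ρ b := by
    show ρ b (v + ρ b v + ρ b (ρ b v)) = v + ρ b v + ρ b (ρ b v)
    rw [map_add, map_add, h3]
    abel
  have := h.inter_zero hs hs'
  exact eq_of_add_eq_zero this

theorem Hyp.b_ne (h : Hyp A φ X ρ i a b) {v : M} (hv : v ∈ fixS ρ a) (hv0 : v ≠ 0) :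
    ρ b v ≠ v := by
  intro hbv
  exact hv0 (h.inter_zero hv hbv)

/-- the elements of the eigenspace -/
theorem Hyp.V_elems (h : Hyp A φ X ρ i a b) (hne : fixS ρ a ≠ ⊥ ∨ fixS ρ b ≠ ⊥) {v : M}
    (hv : v ∈ fixS ρ a) (hv0 : v ≠ 0) (hzv : ρ (φ (r 2)) v = v) {w : M} (hw : w ∈ fixS ρ a) :
    w = 0 ∨ w = v ∨ w = ρ b v ∨ w = v + ρ b v := by
  have hbb := h.b_sq hv
  have hle : Submodule.span (ZMod 2) ({v, ρ b v} : Set M) ≤ fixS ρ a := by
    rw [Submodule.span_le]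
    intro m hm
    simp only [Set.mem_insert_iff, Set.mem_singleton_iff] at hm
    rcases hm with rfl | rfl
    · exact hv
    · exact h.Va_b hv
  have hV1ne : Submodule.span (ZMod 2) ({v, ρ b v} : Set M) ≠ ⊥ := by
    rw [Submodule.ne_bot_iff]
    exact ⟨v, Submodule.subset_span (by simp), hv0⟩
  have hzbv : ρ (φ (r 2)) (ρ b v) = v + ρ b v := by
    rw [h.zb, hzv, h.b_inv, rho_mul, hbb]
  have hzinv : ∀ m ∈ Submodule.span (ZMod 2) ({v, ρ b v} : Set M),
      ρ (φ (r 2)) m ∈ Submodule.span (ZMod 2) ({v, ρ b v} : Set M) := by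
    intro m hm
    obtain ⟨c, d, rfl⟩ := Submodule.mem_span_pair.mp hm
    rw [map_add, map_smul, map_smul, hzv, hzbv]
    refine Submodule.mem_span_pair.mpr ⟨c + d, d, ?_⟩
    rw [add_smul, smul_add]
    abel
  have hcl := h.clifford (Submodule.span (ZMod 2) ({v, ρ b v} : Set M)) hle hV1ne
    (fun m hm => by
      obtain ⟨c, d, rfl⟩ := Submodule.mem_span_pair.mp hm
      rw [map_add, map_smul, map_smul, hbb]
      refine Submodule.mem_span_pair.mpr ⟨d, c + d, ?_⟩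
      rw [add_smul, smul_add]
      abel)
    (fun m hm => by
      rw [h.t_eq_z hne (hle hm)]
      exact hzinv m hm)
    hzinv
  have hw1 : w ∈ Submodule.span (ZMod 2) ({v, ρ b v} : Set M) := by rw [hcl]; exact hw
  obtain ⟨c, d, rfl⟩ := Submodule.mem_span_pair.mp hw1
  have h01 : ∀ e : ZMod 2, e = 0 ∨ e = 1 := by decide
  have hc : c = 0 ∨ c = 1 := h01 c
  have hd : d = 0 ∨ d = 1 := h01 d
  rcases hc with rfl | rfl <;> rcases hd with rfl | rfl
  · left; simp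
  · right; right; left; simp
  · right; left; simp
  · right; right; right; simp

/-- the order of the eigenspace -/
theorem Hyp.card_V (h : Hyp A φ X ρ i a b) (hne : fixS ρ a ≠ ⊥ ∨ fixS ρ b ≠ ⊥) :
    Nat.card (fixS ρ a) = 4 := by
  obtain ⟨v, hv, hv0, hzv⟩ := h.exists_v hne
  have hbv := h.b_ne hv hv0
  have hset : ((fixS ρ a : Submodule (ZMod 2) M) : Set M) = {0, v, ρ b v, v + ρ b v} := by
    ext w
    simp only [SetLike.mem_coe, Set.mem_insert_iff, Set.mem_singleton_iff]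
    constructor
    · intro hw
      exact h.V_elems hne hv hv0 hzv hw
    · rintro (rfl | rfl | rfl | rfl)
      · exact Submodule.zero_mem _
      · exact hv
      · exact h.Va_b hv
      · exact Submodule.add_mem _ hv (h.Va_b hv)
  have hbv0 : ρ b v ≠ 0 := by
    intro h0
    exact hv0 (rho_eq_zero ρ _ h0)
  have hcard : Nat.card (fixS ρ a) = Set.ncard ((fixS ρ a : Submodule (ZMod 2) M) : Set M) :=
    Nat.card_coe_set_eq _
  rw [hcard, hset]
  have h1 : (0 : M) ∉ ({v, ρ b v, v + ρ b v} : Set M) := by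
    simp only [Set.mem_insert_iff, Set.mem_singleton_iff, not_or]
    refine ⟨fun h' => hv0 h'.symm, fun h' => hbv0 h'.symm, ?_⟩
    intro h'
    exact hbv (eq_of_add_eq_zero h'.symm)
  have h2 : v ∉ ({ρ b v, v + ρ b v} : Set M) := by
    simp only [Set.mem_insert_iff, Set.mem_singleton_iff, not_or]
    refine ⟨fun h' => hbv h'.symm, ?_⟩
    intro h'
    apply hbv0
    have : v + 0 = v + ρ b v := by rw [add_zero]; exact h'
    exact (add_left_cancel this).symm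
  have h3 : ρ b v ≠ v + ρ b v := by
    intro h'
    apply hv0
    have : 0 + ρ b v = v + ρ b v := by rw [zero_add]; exact h'
    exact (add_right_cancel this).symm
  rw [Set.ncard_insert_of_notMem h1 (Set.toFinite _), Set.ncard_insert_of_notMem h2 (Set.toFinite _),
    Set.ncard_pair h3]

/-- the order of the module -/
theorem Hyp.card_M (h : Hyp A φ X ρ i a b) (hne : fixS ρ a ≠ ⊥ ∨ fixS ρ b ≠ ⊥) :
    Nat.card M = 16 := by
  have hbij : Function.Bijective (fun p : (fixS ρ a) × (fixS ρ a) =>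
      (p.1 : M) + ρ (φ (r 1)) (p.2 : M)) := by
    constructor
    · rintro ⟨⟨v, hv⟩, ⟨w, hw⟩⟩ ⟨⟨v', hv'⟩, ⟨w', hw'⟩⟩ he
      have := h.decomp_unique hv hw hv' hw' he
      simp only [Prod.mk.injEq, Subtype.mk.injEq]
      exact this
    · intro m
      obtain ⟨v, hv, w, hw, rfl⟩ := h.decomp hne m
      exact ⟨(⟨v, hv⟩, ⟨w, hw⟩), rfl⟩
  rw [← Nat.card_congr (Equiv.ofBijective _ hbij), Nat.card_prod, h.card_V hne]

end main

end Cfsg.Agent.helper11.D8M
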