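import Mathlib
import Cfsg.Agent.Lib_helper11_D8d

set_option autoImplicit false
set_option linter.unusedSectionVars false
set_option linter.unusedSimpArgs false
set_option linter.unusedVariables false
set_option linter.style.haveILetI false
set_option maxHeartbeats 1000000

/-!
# Faithful irreducible modules over the field with two elements for `3² : D₈` (the four-groups)
-/

namespace Cfsg.Agent.helper11.D8M

open DihedralGroup

theorem K4_mul : ∀ i : ZMod 4, ∀ d e : DihedralGroup 4,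
    (d = 1 ∨ d = r 2 ∨ d = sr i ∨ d = sr (i + 2)) → (e = 1 ∨ e = r 2 ∨ e = sr i ∨ e = sr (i + 2)) →
    (d * e = 1 ∨ d * e = r 2 ∨ d * e = sr i ∨ d * e = sr (i + 2)) := by decide

theorem K4_inv : ∀ i : ZMod 4, ∀ d : DihedralGroup 4,
    (d = 1 ∨ d = r 2 ∨ d = sr i ∨ d = sr (i + 2)) →
    (d⁻¹ = 1 ∨ d⁻¹ = r 2 ∨ d⁻¹ = sr i ∨ d⁻¹ = sr (i + 2)) := by decide

/-- the four-subgroups of the dihedral group of order eight -/
def K4 (i : ZMod 4) : Subgroup (DihedralGroup 4) where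
  carrier := {d | d = 1 ∨ d = r 2 ∨ d = sr i ∨ d = sr (i + 2)}
  one_mem' := Or.inl rfl
  mul_mem' := fun {d e} hd he => K4_mul i d e hd he
  inv_mem' := fun {d} hd => K4_inv i d hd

theorem mem_K4 {i : ZMod 4} {d : DihedralGroup 4} :
    d ∈ K4 i ↔ d = 1 ∨ d = r 2 ∨ d = sr i ∨ d = sr (i + 2) := Iff.rfl

theorem card_K4_aux : ∀ i : ZMod 4,
    ({1, r 2, sr i, sr (i + 2)} : Finset (DihedralGroup 4)).card = 4 := by decide

theorem card_K4 (i : ZMod 4) : Nat.card (K4 i) = 4 := by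
  have hset : ((K4 i : Subgroup (DihedralGroup 4)) : Set (DihedralGroup 4)) =
      ↑({1, r 2, sr i, sr (i + 2)} : Finset (DihedralGroup 4)) := by
    ext d
    simp only [SetLike.mem_coe, mem_K4, Finset.coe_insert, Finset.coe_singleton,
      Set.mem_insert_iff, Set.mem_singleton_iff]
  have hcard : Nat.card (K4 i) =
      Set.ncard ((K4 i : Subgroup (DihedralGroup 4)) : Set (DihedralGroup 4)) := by
    rw [← Nat.card_coe_set_eq]
    rfl
  rw [hcard, hset, Set.ncard_coe_finset]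
  exact card_K4_aux i

theorem K4_sq : ∀ i : ZMod 4, ∀ d : DihedralGroup 4,
    (d = 1 ∨ d = r 2 ∨ d = sr i ∨ d = sr (i + 2)) → d ^ 2 = 1 := by decide

set_option maxRecDepth 100000 in
theorem four_classify : ∀ i : ZMod 4, ∀ K : Finset (DihedralGroup 4), K.card = 4 →
    (∀ d ∈ K, d * d = 1) → (∀ d ∈ K, ∀ e ∈ K, d * e ∈ K) →
    K = {1, r 2, sr i, sr (i + 2)} ∨ K = {1, r 2, sr (i + 1), sr (i + 1 + 2)} := by decide

section main

variable {S : Type*} [Group S] [Finite S] {A : Subgroup S} {φ : DihedralGroup 4 →* S}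
  {X : Subgroup S} {M : Type*} [AddCommGroup M] [Module (ZMod 2) M] [Finite M]
  {ρ : Representation (ZMod 2) S M} {i : ZMod 4} {a b : S}

theorem mem_map_K4 (φ : DihedralGroup 4 →* S) (j : ZMod 4) {g : S} :
    g ∈ (K4 j).map φ ↔ g = 1 ∨ g = φ (r 2) ∨ g = φ (sr j) ∨ g = φ (sr (j + 2)) := by
  rw [Subgroup.mem_map]
  constructor
  · rintro ⟨d, hd, rfl⟩
    rcases mem_K4.mp hd with rfl | rfl | rfl | rfl
    · left; exact map_one φ
    · right; left; rfl
    · right; right; left; rfl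
    · right; right; right; rfl
  · rintro (rfl | rfl | rfl | rfl)
    · exact ⟨1, Subgroup.one_mem _, map_one φ⟩
    · exact ⟨r 2, mem_K4.mpr (Or.inr (Or.inl rfl)), rfl⟩
    · exact ⟨sr j, mem_K4.mpr (Or.inr (Or.inr (Or.inl rfl))), rfl⟩
    · exact ⟨sr (j + 2), mem_K4.mpr (Or.inr (Or.inr (Or.inr rfl))), rfl⟩

theorem Hyp.map_K4_le (h : Hyp A φ X ρ i a b) (j : ZMod 4) : (K4 j).map φ ≤ X := by
  intro g hg
  obtain ⟨d, -, rfl⟩ := Subgroup.mem_map.mp hg
  exact (h.hX _).mpr ⟨d, rfl⟩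

theorem Hyp.card_map_K4 (h : Hyp A φ X ρ i a b) (j : ZMod 4) :
    Nat.card ((K4 j).map φ) = 4 := by
  rw [Subgroup.card_map_of_injective h.hφ, card_K4]

theorem map_K4_sq (φ : DihedralGroup 4 →* S) (j : ZMod 4) {g : S} (hg : g ∈ (K4 j).map φ) :
    g ^ 2 = 1 := by
  obtain ⟨d, hd, rfl⟩ := Subgroup.mem_map.mp hg
  rw [← map_pow, K4_sq j d (mem_K4.mp hd), map_one]

/-- the subgroups of order four and exponent two of `X` -/
theorem Hyp.classify (h : Hyp A φ X ρ i a b) (B : Subgroup S) (hBX : B ≤ X)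
    (hB4 : Nat.card B = 4) (hB2 : ∀ g ∈ B, g ^ 2 = 1) :
    B = (K4 i).map φ ∨ B = (K4 (i + 1)).map φ := by
  classical
  have hcard : (Finset.univ.filter (fun d : DihedralGroup 4 => φ d ∈ B)).card = 4 := by
    rw [← Fintype.card_subtype, ← Nat.card_eq_fintype_card]
    have hbij : Function.Bijective (fun d : {d : DihedralGroup 4 // φ d ∈ B} =>
        (⟨φ d.1, d.2⟩ : B)) := by
      constructor
      · rintro ⟨d, hd⟩ ⟨e, he⟩ hde
        have : φ d = φ e := congrArg Subtype.val hde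
        exact Subtype.ext (h.hφ this)
      · rintro ⟨g, hg⟩
        obtain ⟨d, rfl⟩ := (h.hX g).mp (hBX hg)
        exact ⟨⟨d, hg⟩, rfl⟩
    rw [Nat.card_congr (Equiv.ofBijective _ hbij)]
    exact hB4
  have hsq : ∀ d ∈ Finset.univ.filter (fun d : DihedralGroup 4 => φ d ∈ B), d * d = 1 := by
    intro d hd
    rw [Finset.mem_filter] at hd
    apply h.hφ
    rw [map_mul, map_one, ← pow_two]
    exact hB2 _ hd.2
  have hmul : ∀ d ∈ Finset.univ.filter (fun d : DihedralGroup 4 => φ d ∈ B),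
      ∀ e ∈ Finset.univ.filter (fun d : DihedralGroup 4 => φ d ∈ B),
      d * e ∈ Finset.univ.filter (fun d : DihedralGroup 4 => φ d ∈ B) := by
    intro d hd e he
    rw [Finset.mem_filter] at hd he ⊢
    refine ⟨Finset.mem_univ _, ?_⟩
    rw [map_mul]
    exact B.mul_mem hd.2 he.2
  have hmem : ∀ g, g ∈ B ↔ ∃ d ∈ Finset.univ.filter (fun d : DihedralGroup 4 => φ d ∈ B),
      φ d = g := by
    intro g
    constructor
    · intro hg
      obtain ⟨d, rfl⟩ := (h.hX g).mp (hBX hg)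
      exact ⟨d, Finset.mem_filter.mpr ⟨Finset.mem_univ _, hg⟩, rfl⟩
    · rintro ⟨d, hd, rfl⟩
      exact (Finset.mem_filter.mp hd).2
  rcases four_classify i _ hcard hsq hmul with hK | hK
  · left
    ext g
    rw [hmem g, hK, Subgroup.mem_map]
    constructor
    · rintro ⟨d, hd, rfl⟩
      refine ⟨d, ?_, rfl⟩
      simpa [mem_K4] using hd
    · rintro ⟨d, hd, rfl⟩
      refine ⟨d, ?_, rfl⟩
      simpa [mem_K4] using hd
  · right
    ext g
    rw [hmem g, hK, Subgroup.mem_map]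
    constructor
    · rintro ⟨d, hd, rfl⟩
      refine ⟨d, ?_, rfl⟩
      simpa [mem_K4] using hd
    · rintro ⟨d, hd, rfl⟩
      refine ⟨d, ?_, rfl⟩
      simpa [mem_K4] using hd

end main

end Cfsg.Agent.helper11.D8M
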