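import Mathlib
import Cfsg.Agent.Lib_helper11_D8e

set_option autoImplicit false
set_option linter.unusedSectionVars false
set_option linter.unusedSimpArgs false
set_option linter.unusedVariables false
set_option linter.style.haveILetI false
set_option maxHeartbeats 1000000

/-!
# Faithful irreducible modules over the field with two elements for `3² : D₈` (fixed points)
-/

namespace Cfsg.Agent.helper11.D8M

open DihedralGroup

section main

variable {S : Type*} [Group S] [Finite S] {A : Subgroup S} {φ : DihedralGroup 4 →* S}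
  {X : Subgroup S} {M : Type*} [AddCommGroup M] [Module (ZMod 2) M] [Finite M]
  {ρ : Representation (ZMod 2) S M} {i : ZMod 4} {a b : S}

theorem Hyp.z_bv (h : Hyp A φ X ρ i a b) {v : M} (hv : v ∈ fixS ρ a)
    (hzv : ρ (φ (r 2)) v = v) : ρ (φ (r 2)) (ρ b v) = v + ρ b v := by
  rw [h.zb, hzv, h.b_inv, rho_mul, h.b_sq hv]

theorem Hyp.t'_eq (h : Hyp A φ X ρ i a b) (m : M) :
    ρ (φ (sr (i + 1))) m = ρ (φ (sr i)) (ρ (φ (r 1)) m) := by
  rw [← rho_mul, ← map_mul]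
  rfl

theorem Hyp.t'_on_V (h : Hyp A φ X ρ i a b) (hne : fixS ρ a ≠ ⊥ ∨ fixS ρ b ≠ ⊥) {v : M}
    (hv : v ∈ fixS ρ a) : ρ (φ (sr (i + 1))) v = ρ (φ (r 1)) v := by
  rw [h.t'_eq, h.tx, h.tz_triv hne hv]

theorem Hyp.t'_on_xV (h : Hyp A φ X ρ i a b) (hne : fixS ρ a ≠ ⊥ ∨ fixS ρ b ≠ ⊥) {w : M}
    (hw : w ∈ fixS ρ a) : ρ (φ (sr (i + 1))) (ρ (φ (r 1)) w) = w := by
  rw [h.t'_eq, h.xx, ← h.tz_eq, h.tz_triv hne hw]

theorem Hyp.t'z_eq (h : Hyp A φ X ρ i a b) (m : M) :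
    ρ (φ (sr (i + 1 + 2))) m = ρ (φ (sr (i + 1))) (ρ (φ (r 2)) m) := by
  rw [← rho_mul, t_z]

/-- the fixed points of the second four-group -/
theorem Hyp.fix_B2 (h : Hyp A φ X ρ i a b) (hne : fixS ρ a ≠ ⊥ ∨ fixS ρ b ≠ ⊥) {v : M}
    (hv : v ∈ fixS ρ a) (hv0 : v ≠ 0) (hzv : ρ (φ (r 2)) v = v) (m : M) :
    (∀ g ∈ (K4 (i + 1)).map φ, ρ g m = m) ↔ m = 0 ∨ m = v + ρ (φ (r 1)) v := by
  constructor
  · intro hm
    have hz : ρ (φ (r 2)) m = m :=
      hm _ ((mem_map_K4 φ (i + 1)).mpr (Or.inr (Or.inl rfl)))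
    have ht : ρ (φ (sr (i + 1))) m = m :=
      hm _ ((mem_map_K4 φ (i + 1)).mpr (Or.inr (Or.inr (Or.inl rfl))))
    obtain ⟨v1, hv1, w1, hw1, rfl⟩ := h.decomp hne m
    rw [map_add, h.t'_on_V hne hv1, h.t'_on_xV hne hw1, add_comm] at ht
    have h1 := (h.decomp_unique hw1 hv1 hv1 hw1 ht).1
    rw [map_add, h.zx] at hz
    have h2 := (h.decomp_unique (h.Va_z hv1) (h.Va_z hw1) hv1 hw1 hz).1
    rw [h1]
    rcases h.V_elems hne hv hv0 hzv hv1 with h3 | h3 | h3 | h3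
    · left
      rw [h3, map_zero, add_zero]
    · right
      rw [h3]
    · exfalso
      rw [h3, h.z_bv hv hzv] at h2
      apply hv0
      have : v + ρ b v = 0 + ρ b v := by rw [zero_add]; exact h2
      exact add_right_cancel this
    · exfalso
      rw [h3, map_add, hzv, h.z_bv hv hzv] at h2
      apply hv0
      have : v + (v + ρ b v) = 0 + (v + ρ b v) := by rw [zero_add]; exact h2
      exact add_right_cancel this
  · rintro (rfl | rfl)
    · intro g _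
      exact map_zero _
    · intro g hg
      have hz : ρ (φ (r 2)) (v + ρ (φ (r 1)) v) = v + ρ (φ (r 1)) v := by
        rw [map_add, h.zx, hzv]
      have ht : ρ (φ (sr (i + 1))) (v + ρ (φ (r 1)) v) = v + ρ (φ (r 1)) v := by
        rw [map_add, h.t'_on_V hne hv, h.t'_on_xV hne hv, add_comm]
      rcases (mem_map_K4 φ (i + 1)).mp hg with rfl | rfl | rfl | rfl
      · exact rho_one ρ _
      · exact hz
      · exact ht
      · rw [h.t'z_eq, hz, ht]

theorem Hyp.card_fix_B2 (h : Hyp A φ X ρ i a b) (hne : fixS ρ a ≠ ⊥ ∨ fixS ρ b ≠ ⊥) :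
    Nat.card {m : M // ∀ g ∈ (K4 (i + 1)).map φ, ρ g m = m} = 2 := by
  obtain ⟨v, hv, hv0, hzv⟩ := h.exists_v hne
  have hset : {m : M | ∀ g ∈ (K4 (i + 1)).map φ, ρ g m = m} = {0, v + ρ (φ (r 1)) v} := by
    ext m
    simp only [Set.mem_ofPred_eq, Set.mem_insert_iff, Set.mem_singleton_iff]
    exact h.fix_B2 hne hv hv0 hzv m
  have hm0 : (0 : M) ≠ v + ρ (φ (r 1)) v := by
    intro h0
    apply hv0
    have hz0 : (0 : M) ∈ fixS ρ a := Submodule.zero_mem _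
    have he : (0 : M) + ρ (φ (r 1)) 0 = v + ρ (φ (r 1)) v := by
      rw [map_zero, add_zero]; exact h0
    exact ((h.decomp_unique hz0 hz0 hv hv he).1).symm
  have hcard : Nat.card {m : M // ∀ g ∈ (K4 (i + 1)).map φ, ρ g m = m} =
      Set.ncard {m : M | ∀ g ∈ (K4 (i + 1)).map φ, ρ g m = m} := by
    rw [← Nat.card_coe_set_eq]
    rfl
  rw [hcard, hset, Set.ncard_pair hm0]

theorem Hyp.card_fix_B1 (h : Hyp A φ X ρ i a b) (hne : fixS ρ a ≠ ⊥ ∨ fixS ρ b ≠ ⊥) :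
    Nat.card {m : M // ∀ g ∈ (K4 i).map φ, ρ g m = m} ≠ 2 := by
  obtain ⟨v, hv, hv0, hzv⟩ := h.exists_v hne
  have hcard : Nat.card {m : M // ∀ g ∈ (K4 i).map φ, ρ g m = m} =
      Set.ncard {m : M | ∀ g ∈ (K4 i).map φ, ρ g m = m} := by
    rw [← Nat.card_coe_set_eq]
    rfl
  have htv : ρ (φ (sr i)) v = v := by rw [h.t_eq_z hne hv, hzv]
  have htzv : ρ (φ (sr (i + 2))) v = v := h.tz_triv hne hv
  have hzx : ρ (φ (r 2)) (ρ (φ (r 1)) v) = ρ (φ (r 1)) v := by rw [h.zx, hzv]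
  have htx : ρ (φ (sr i)) (ρ (φ (r 1)) v) = ρ (φ (r 1)) v := by rw [h.tx, htzv]
  have htzx : ρ (φ (sr (i + 2))) (ρ (φ (r 1)) v) = ρ (φ (r 1)) v := by
    rw [h.tz_eq, hzx, htx]
  have hsub : ({0, v, ρ (φ (r 1)) v} : Set M) ⊆ {m : M | ∀ g ∈ (K4 i).map φ, ρ g m = m} := by
    intro m hm
    simp only [Set.mem_insert_iff, Set.mem_singleton_iff] at hm
    intro g hg
    rcases hm with rfl | rfl | rfl
    · exact map_zero _
    · rcases (mem_map_K4 φ i).mp hg with rfl | rfl | rfl | rfl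
      · exact rho_one ρ _
      · exact hzv
      · exact htv
      · exact htzv
    · rcases (mem_map_K4 φ i).mp hg with rfl | rfl | rfl | rfl
      · exact rho_one ρ _
      · exact hzx
      · exact htx
      · exact htzx
  have hxv0 : ρ (φ (r 1)) v ≠ 0 := fun h0 => hv0 (rho_eq_zero ρ _ h0)
  have hxv : v ≠ ρ (φ (r 1)) v := by
    intro h'
    apply hv0
    apply h.inter_zero hv
    rw [h']
    exact h.Va_x hv
  have h3 : ({0, v, ρ (φ (r 1)) v} : Set M).ncard = 3 := by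
    have h1 : (0 : M) ∉ ({v, ρ (φ (r 1)) v} : Set M) := by
      simp only [Set.mem_insert_iff, Set.mem_singleton_iff, not_or]
      exact ⟨fun h' => hv0 h'.symm, fun h' => hxv0 h'.symm⟩
    rw [Set.ncard_insert_of_notMem h1 (Set.toFinite _), Set.ncard_pair hxv]
  have hle := Set.ncard_le_ncard hsub (Set.toFinite _)
  rw [hcard]
  omega

/-- the statement, when the eigenspaces of `a`, `b` carry the module -/
theorem Hyp.main (h : Hyp A φ X ρ i a b) (hne : fixS ρ a ≠ ⊥ ∨ fixS ρ b ≠ ⊥) :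
    Nat.card M = 16 ∧
      ∃! B : Subgroup S, B ≤ X ∧ Nat.card ↥B = 4 ∧ (∀ b ∈ B, b ^ 2 = 1) ∧
        Nat.card {m : M // ∀ b ∈ B, ρ b m = m} = 2 := by
  refine ⟨h.card_M hne, (K4 (i + 1)).map φ,
    ⟨h.map_K4_le _, h.card_map_K4 _, fun g hg => map_K4_sq φ _ hg, h.card_fix_B2 hne⟩, ?_⟩
  rintro B ⟨hBX, hB4, hB2, hBf⟩
  rcases h.classify B hBX hB4 hB2 with rfl | rfl
  · exfalso
    exact h.card_fix_B1 hne hBf
  · rfl

end main

end Cfsg.Agent.helper11.D8M
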