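import Mathlib
import Cfsg.Agent.Lib_helper11_D8f

set_option autoImplicit false
set_option linter.unusedSectionVars false
set_option linter.unusedSimpArgs false
set_option linter.unusedVariables false
set_option linter.style.haveILetI false
set_option maxHeartbeats 1000000

/-!
# Faithful irreducible modules over the field with two elements for `3² : D₈` (conclusion)
-/

namespace Cfsg.Agent.helper11.D8M

open DihedralGroup

section rep3

variable {S : Type*} [Group S] {M : Type*} [AddCommGroup M] [Module (ZMod 2) M]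
  (ρ : Representation (ZMod 2) S M)

theorem sigma_mem {g : S} (hg : g ^ 3 = 1) (m : M) : m + ρ g m + ρ (g ^ 2) m ∈ fixS ρ g := by
  show ρ g (m + ρ g m + ρ (g ^ 2) m) = m + ρ g m + ρ (g ^ 2) m
  rw [map_add, map_add, ← rho_mul, ← rho_mul]
  have e1 : g * g = g ^ 2 := (pow_two g).symm
  have e2 : g * g ^ 2 = 1 := by rw [← pow_succ', hg]
  rw [e1, e2, rho_one]
  abel

theorem sigma_zero {g : S} (hg : g ^ 3 = 1) (hfix : fixS ρ g = ⊥) (m : M) :
    m + ρ g m + ρ (g ^ 2) m = 0 := by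
  have := sigma_mem ρ hg m
  rw [hfix, Submodule.mem_bot] at this
  exact this

/-- some element of order three has a non-zero fixed vector -/
theorem sum_identity {a b : S} (hab : Commute a b) (ha : a ^ 3 = 1) (hb : b ^ 3 = 1)
    (h1 : fixS ρ a = ⊥) (h2 : fixS ρ b = ⊥) (h3 : fixS ρ (a * b) = ⊥)
    (h4 : fixS ρ (a * b ^ 2) = ⊥) (m : M) : m = 0 := by
  have hc1 : (a * b) ^ 3 = 1 := by rw [hab.mul_pow, ha, hb, one_mul]
  have hc1' : (a * b) ^ 2 = a ^ 2 * b ^ 2 := hab.mul_pow 2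
  have hab2 : Commute a (b ^ 2) := hab.pow_right 2
  have hb4 : (b ^ 2) ^ 2 = b := by
    rw [← pow_mul]
    have : b ^ (2 * 2) = b ^ 3 * b := by rw [← pow_succ]
    rw [this, hb, one_mul]
  have hb6 : (b ^ 2) ^ 3 = 1 := by
    rw [← pow_mul, mul_comm, pow_mul, hb, one_pow]
  have hc2 : (a * b ^ 2) ^ 3 = 1 := by rw [hab2.mul_pow, ha, hb6, one_mul]
  have hc2' : (a * b ^ 2) ^ 2 = a ^ 2 * b := by rw [hab2.mul_pow, hb4]
  have E1 := sigma_zero ρ ha h1 m
  have E2 := sigma_zero ρ hb h2 m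
  have E3 := sigma_zero ρ hc1 h3 m
  have E4 := sigma_zero ρ hc2 h4 m
  rw [hc1'] at E3
  rw [hc2'] at E4
  have E0 : (m + ρ b m + ρ (b ^ 2) m) + ρ a (m + ρ b m + ρ (b ^ 2) m) +
      ρ (a ^ 2) (m + ρ b m + ρ (b ^ 2) m) = 0 := by
    rw [E2]
    simp
  rw [map_add, map_add, map_add, map_add, ← rho_mul, ← rho_mul, ← rho_mul, ← rho_mul] at E0
  have h2y : ∀ y : M, y + y = 0 := fun y => ZModModule.add_self y
  generalize ρ a m = P1 at *
  generalize ρ (a ^ 2) m = P2 at *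
  generalize ρ b m = P3 at *
  generalize ρ (b ^ 2) m = P4 at *
  generalize ρ (a * b) m = P5 at *
  generalize ρ (a ^ 2 * b ^ 2) m = P6 at *
  generalize ρ (a * b ^ 2) m = P7 at *
  generalize ρ (a ^ 2 * b) m = P8 at *
  have key : m = (m + P3 + P4 + (P1 + P5 + P7) + (P2 + P8 + P6)) + (m + P1 + P2) + (m + P3 + P4) +
      (m + P5 + P6) + (m + P7 + P8) -
      ((m + m) + (m + m) + (P1 + P1) + (P2 + P2) + (P3 + P3) + (P4 + P4) + (P5 + P5) + (P6 + P6) +
        (P7 + P7) + (P8 + P8)) := by abel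
  rw [key, E0, E1, E2, E3, E4]
  simp only [h2y, add_zero, sub_zero]

end rep3

/-- the statement -/
theorem main_thm {S : Type*} [Group S] [Finite S]
    (A : Subgroup S) [A.Normal] (hA : Cfsg.IsElementaryAbelian 3 A) (hA9 : Nat.card ↥A = 9)
    (hAC : Subgroup.centralizer (A : Set S) = A) (X : Subgroup S)
    (hX : Nonempty (↥X ≃* DihedralGroup 4)) (hAX : A ⊔ X = ⊤)
    {M : Type*} [AddCommGroup M] [Module (ZMod 2) M] [Finite M] (ρ : Representation (ZMod 2) S M)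
    (hfaith : Function.Injective ρ)
    (hirr : ∀ N : Submodule (ZMod 2) M, (∀ s : S, ∀ m ∈ N, ρ s m ∈ N) → N = ⊥ ∨ N = ⊤)
    (hM : Nontrivial M) :
    Nat.card M = 16 ∧
      ∃! B : Subgroup S, B ≤ X ∧ Nat.card ↥B = 4 ∧ (∀ b ∈ B, b ^ 2 = 1) ∧
        Nat.card {m : M // ∀ b ∈ B, ρ b m = m} = 2 := by
  obtain ⟨e⟩ := hX
  obtain ⟨φ, hφdef⟩ : ∃ φ : DihedralGroup 4 →* S, φ = X.subtype.comp e.symm.toMonoidHom :=
    ⟨_, rfl⟩
  have hφ : Function.Injective φ := by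
    rw [hφdef]
    intro d d' hdd
    have : (e.symm d : S) = e.symm d' := hdd
    exact e.symm.injective (Subtype.ext this)
  have hXφ : ∀ s, s ∈ X ↔ ∃ d, φ d = s := by
    intro s
    constructor
    · intro hs
      refine ⟨e ⟨s, hs⟩, ?_⟩
      rw [hφdef]
      show ((e.symm (e ⟨s, hs⟩) : X) : S) = s
      rw [e.symm_apply_apply]
    · rintro ⟨d, rfl⟩
      rw [hφdef]
      exact (e.symm d).2
  obtain ⟨a, b, ha, hb, ha1, hb1, hta, htb⟩ := exists_ab A φ hA hA9 hAC hφ 0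
  have h0 : Hyp A φ X ρ 0 a b :=
    ⟨inferInstance, hA, hA9, hAC, hφ, hXφ, hAX, hfaith, hirr, ha, hb, ha1, hb1, hta, htb⟩
  by_cases hne : fixS ρ a ≠ ⊥ ∨ fixS ρ b ≠ ⊥
  · exact h0.main hne
  · simp only [not_or, not_not] at hne
    have hab : Commute a b := h0.ab_comm
    have ha3 : a ^ 3 = 1 := hA.2 a ha
    have hb3 : b ^ 3 = 1 := hA.2 b hb
    have hbb : b⁻¹ ≠ b := inv_ne_self A hA hb hb1
    have haa : a⁻¹ ≠ a := inv_ne_self A hA ha ha1
    have hne' : fixS ρ (a * b) ≠ ⊥ ∨ fixS ρ (a * b ^ 2) ≠ ⊥ := by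
      by_contra hcon
      simp only [not_or, not_not] at hcon
      obtain ⟨m, hm⟩ := exists_ne (0 : M)
      exact hm (sum_identity ρ hab ha3 hb3 hne.1 hne.2 hcon.1 hcon.2 m)
    have hb2inv : b ^ 2 = b⁻¹ := by
      rw [eq_inv_iff_mul_eq_one, ← pow_succ, hb3]
    have ha2inv : a ^ 2 = a⁻¹ := by
      rw [eq_inv_iff_mul_eq_one, ← pow_succ, ha3]
    have hc1A : a * b ∈ A := A.mul_mem ha hb
    have hc2A : a * b ^ 2 ∈ A := A.mul_mem ha (A.pow_mem hb 2)
    have hc1 : a * b ≠ 1 := by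
      intro h'
      have hb' : b = a⁻¹ := (eq_inv_of_mul_eq_one_right h')
      have := htb
      have e3 : φ (sr 0) * a⁻¹ * (φ (sr 0))⁻¹ = (φ (sr 0) * a * (φ (sr 0))⁻¹)⁻¹ := by group
      rw [hb', e3, hta, inv_inv] at this
      rw [hb', inv_inv] at hbb
      exact hbb this.symm
    have hc2 : a * b ^ 2 ≠ 1 := by
      intro h'
      rw [hb2inv, mul_inv_eq_one] at h'
      have := htb
      rw [← h', hta] at this
      rw [← h'] at hbb
      exact hbb this.symm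
    -- conjugation by `t' = t x`
    have ht' : ∀ g : S, φ (sr 1) * g * (φ (sr 1))⁻¹ =
        φ (sr 0) * (φ (r 1) * g * (φ (r 1))⁻¹) * (φ (sr 0))⁻¹ := by
      intro g
      have : φ (sr 1) = φ (sr 0) * φ (r 1) := by
        rw [← map_mul]
        rfl
      rw [this]
      group
    have htinv : ∀ g : S, φ (sr 0) * g⁻¹ * (φ (sr 0))⁻¹ = (φ (sr 0) * g * (φ (sr 0))⁻¹)⁻¹ := by
      intro g
      group
    have hmul : ∀ g g' : S, φ (sr 1) * (g * g') * (φ (sr 1))⁻¹ =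
        (φ (sr 1) * g * (φ (sr 1))⁻¹) * (φ (sr 1) * g' * (φ (sr 1))⁻¹) := by
      intro g g'
      group
    have hpow2 : ∀ g : S, φ (sr 1) * g ^ 2 * (φ (sr 1))⁻¹ = (φ (sr 1) * g * (φ (sr 1))⁻¹) ^ 2 := by
      intro g
      rw [pow_two, pow_two, hmul]
    have hsq1 : φ (sr 1) * φ (sr 1) = 1 := t_sq φ 1
    have hinvol : ∀ g : S, φ (sr 1) * (φ (sr 1) * g * (φ (sr 1))⁻¹) * (φ (sr 1))⁻¹ = g := by
      intro g
      have : φ (sr 1) * (φ (sr 1) * g * (φ (sr 1))⁻¹) * (φ (sr 1))⁻¹ =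
          (φ (sr 1) * φ (sr 1)) * g * (φ (sr 1) * φ (sr 1))⁻¹ := by group
      rw [this, hsq1]
      group
    obtain ⟨hs1, hs2⟩ := h0.swap
    rcases hs1 with hs1 | hs1 <;> rcases hs2 with hs2 | hs2
    · -- impossible
      exfalso
      have e1 : φ (sr 1) * a * (φ (sr 1))⁻¹ = b⁻¹ := by rw [ht', hs1, htb]
      have e2 : φ (sr 1) * b * (φ (sr 1))⁻¹ = a := by rw [ht', hs2, hta]
      have := hinvol a
      rw [e1] at this
      have e3 : φ (sr 1) * b⁻¹ * (φ (sr 1))⁻¹ = (φ (sr 1) * b * (φ (sr 1))⁻¹)⁻¹ := by group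
      rw [e3, e2] at this
      exact haa this
    · -- `t'` fixes `a b²` and inverts `a b`
      have e1 : φ (sr 1) * a * (φ (sr 1))⁻¹ = b⁻¹ := by rw [ht', hs1, htb]
      have e2 : φ (sr 1) * b * (φ (sr 1))⁻¹ = a⁻¹ := by rw [ht', hs2, htinv, hta]
      have f1 : φ (sr 1) * (a * b ^ 2) * (φ (sr 1))⁻¹ = a * b ^ 2 := by
        rw [hmul, hpow2, e1, e2, inv_pow, ha2inv, inv_inv, hb2inv]
        exact (hab.inv_right).symm.eq
      have f2 : φ (sr 1) * (a * b) * (φ (sr 1))⁻¹ = (a * b)⁻¹ := by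
        rw [hmul, e1, e2, mul_inv_rev]
      have h1 : Hyp A φ X ρ 1 (a * b ^ 2) (a * b) :=
        ⟨inferInstance, hA, hA9, hAC, hφ, hXφ, hAX, hfaith, hirr, hc2A, hc1A, hc2, hc1, f1, f2⟩
      exact h1.main hne'.symm
    · -- `t'` fixes `a b` and inverts `a b²`
      have e1 : φ (sr 1) * a * (φ (sr 1))⁻¹ = b := by rw [ht', hs1, htinv, htb, inv_inv]
      have e2 : φ (sr 1) * b * (φ (sr 1))⁻¹ = a := by rw [ht', hs2, hta]
      have f1 : φ (sr 1) * (a * b) * (φ (sr 1))⁻¹ = a * b := by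
        rw [hmul, e1, e2]
        exact hab.symm.eq
      have f2 : φ (sr 1) * (a * b ^ 2) * (φ (sr 1))⁻¹ = (a * b ^ 2)⁻¹ := by
        rw [hmul, hpow2, e1, e2, mul_inv_rev, hb2inv, inv_inv, ha2inv]
      have h1 : Hyp A φ X ρ 1 (a * b) (a * b ^ 2) :=
        ⟨inferInstance, hA, hA9, hAC, hφ, hXφ, hAX, hfaith, hirr, hc1A, hc2A, hc1, hc2, f1, f2⟩
      exact h1.main hne'
    · -- impossible
      exfalso
      have e1 : φ (sr 1) * a * (φ (sr 1))⁻¹ = b := by rw [ht', hs1, htinv, htb, inv_inv]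
      have e2 : φ (sr 1) * b * (φ (sr 1))⁻¹ = a⁻¹ := by rw [ht', hs2, htinv, hta]
      have := hinvol a
      rw [e1, e2] at this
      exact haa this

end Cfsg.Agent.helper11.D8M
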