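import Mathlib

/-!
# A Clifford-type matrix algebra over `ZMod 3` (helper11)

Twisted group algebra of `(ZMod 2)^n` realised by its regular representation; used to build the
double cover of the alternating groups.
-/

namespace Cfsg.Agent.helper11.DCov

open scoped BigOperators

abbrev W (n : ℕ) := Fin n → ZMod 2
abbrev M (n : ℕ) := Matrix (W n) (W n) (ZMod 3)

def bet {n : ℕ} (S T : W n) : ZMod 2 := ∑ i, ∑ j, if j < i then S i * T j else 0

lemma bet_add_left {n : ℕ} (S S' T : W n) : bet (S + S') T = bet S T + bet S' T := by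
  unfold bet
  rw [← Finset.sum_add_distrib]
  refine Finset.sum_congr rfl fun i _ => ?_
  rw [← Finset.sum_add_distrib]
  refine Finset.sum_congr rfl fun j _ => ?_
  split_ifs
  · simp [add_mul]
  · simp

lemma bet_add_right {n : ℕ} (S T T' : W n) : bet S (T + T') = bet S T + bet S T' := by
  unfold bet
  rw [← Finset.sum_add_distrib]
  refine Finset.sum_congr rfl fun i _ => ?_
  rw [← Finset.sum_add_distrib]
  refine Finset.sum_congr rfl fun j _ => ?_
  split_ifs
  · simp [mul_add]
  · simp

lemma bet_zero_left {n : ℕ} (T : W n) : bet 0 T = 0 := by simp [bet]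
lemma bet_zero_right {n : ℕ} (S : W n) : bet S 0 = 0 := by simp [bet]

def sg (a : ZMod 2) : ZMod 3 := if a = 0 then 1 else -1

lemma sg_add (a b : ZMod 2) : sg (a + b) = sg a * sg b := by revert a b; decide
lemma sg_zero : sg 0 = 1 := by decide
lemma sg_one : sg 1 = -1 := by decide
lemma sg_sq (a : ZMod 2) : sg a * sg a = 1 := by revert a; decide
lemma sg_inj {a b : ZMod 2} : sg a = sg b → a = b := by revert a b; decide
lemma sg_ne_zero (a : ZMod 2) : sg a ≠ 0 := by revert a; decide

lemma add_self_W {n : ℕ} (S : W n) : S + S = 0 := by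
  funext i; exact CharTwo.add_self_eq_zero _

lemma add_eq_iff_W {n : ℕ} (U V S : W n) : U + V = S ↔ U = S + V := by
  constructor
  · intro h; rw [← h, add_assoc, add_self_W, add_zero]
  · intro h; rw [h, add_assoc, add_self_W, add_zero]

def L {n : ℕ} (S : W n) : M n := Matrix.of fun U T => if U = S + T then sg (bet S T) else 0

lemma L_apply {n : ℕ} (S U T : W n) : L S U T = if U = S + T then sg (bet S T) else 0 := rfl

lemma L_zero {n : ℕ} : L (0 : W n) = 1 := by
  ext U V
  rw [L_apply, Matrix.one_apply, zero_add, bet_zero_left, sg_zero]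

lemma L_mul {n : ℕ} (S T : W n) : L S * L T = sg (bet S T) • L (S + T) := by
  ext U V
  rw [Matrix.mul_apply, Matrix.smul_apply]
  simp only [L_apply]
  rw [Finset.sum_eq_single (T + V)]
  · by_cases h : U = S + (T + V)
    · rw [if_pos h, if_pos rfl, if_pos (by rw [h, add_assoc]), smul_eq_mul, ← sg_add, ← sg_add,
        bet_add_right, bet_add_left]
      congr 1; ring
    · have h' : ¬ U = S + T + V := by rwa [add_assoc]
      rw [if_neg h, if_neg h', zero_mul, smul_zero]
  · intro X _ hX
    rw [if_neg hX, mul_zero]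
  · intro h; exact absurd (Finset.mem_univ _) h

def e {n : ℕ} (m : Fin n) : W n := Pi.single m 1

lemma e_apply_self {n : ℕ} (m : Fin n) : e m m = 1 := by simp [e]
lemma e_apply_ne {n : ℕ} {m i : Fin n} (h : i ≠ m) : e m i = 0 := by simp [e, h]

lemma e_inj {n : ℕ} {a b : Fin n} (h : e a = e b) : a = b := by
  by_contra hab
  have h1 := congrFun h a
  rw [e_apply_self, e_apply_ne hab] at h1
  exact one_ne_zero h1

lemma bet_e_left {n : ℕ} (m : Fin n) (S : W n) :
    bet (e m) S = ∑ j, if j < m then S j else 0 := by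
  unfold bet
  rw [Finset.sum_eq_single m]
  · refine Finset.sum_congr rfl fun j _ => ?_
    rw [e_apply_self, one_mul]
  · intro i _ hi
    refine Finset.sum_eq_zero fun j _ => ?_
    rw [e_apply_ne hi, zero_mul, ite_self]
  · intro h; exact absurd (Finset.mem_univ _) h

lemma bet_e_right {n : ℕ} (m : Fin n) (S : W n) :
    bet S (e m) = ∑ i, if m < i then S i else 0 := by
  unfold bet
  refine Finset.sum_congr rfl fun i _ => ?_
  rw [Finset.sum_eq_single m]
  · rw [e_apply_self, mul_one]
  · intro j _ hj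
    rw [e_apply_ne hj, mul_zero, ite_self]
  · intro h; exact absurd (Finset.mem_univ _) h

lemma bet_e_e {n : ℕ} (a b : Fin n) : bet (e a) (e b) = if b < a then 1 else 0 := by
  rw [bet_e_left, Finset.sum_eq_single b]
  · rw [e_apply_self]
  · intro j _ hj
    rw [e_apply_ne hj, ite_self]
  · intro h; exact absurd (Finset.mem_univ _) h

def ev {n : ℕ} (S : W n) : ZMod 2 := ∑ i, S i

lemma ev_add {n : ℕ} (S T : W n) : ev (S + T) = ev S + ev T := by
  unfold ev; rw [← Finset.sum_add_distrib]; rfl

lemma ev_e {n : ℕ} (m : Fin n) : ev (e m) = 1 := by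
  unfold ev
  rw [Finset.sum_eq_single m]
  · exact e_apply_self m
  · intro j _ hj; exact e_apply_ne hj
  · intro h; exact absurd (Finset.mem_univ _) h

lemma bet_e_sum {n : ℕ} (m : Fin n) (S : W n) : bet (e m) S + bet S (e m) + S m = ev S := by
  rw [bet_e_left, bet_e_right]
  have h3 : S m = ∑ i, if i = m then S i else 0 := by
    rw [Finset.sum_ite_eq' Finset.univ m S, if_pos (Finset.mem_univ _)]
  rw [h3, ← Finset.sum_add_distrib, ← Finset.sum_add_distrib]
  unfold ev
  refine Finset.sum_congr rfl fun i _ => ?_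
  rcases lt_trichotomy i m with h | h | h
  · rw [if_pos h, if_neg (not_lt.mpr h.le), if_neg h.ne, add_zero, add_zero]
  · rw [if_neg (by rw [h]; exact lt_irrefl _), if_neg (by rw [h]; exact lt_irrefl _), if_pos h,
      zero_add, zero_add]
  · rw [if_neg (not_lt.mpr h.le), if_pos h, if_neg h.ne', zero_add, add_zero]

lemma L_e_sq {n : ℕ} (a : Fin n) : L (e a) * L (e a) = 1 := by
  rw [L_mul, bet_e_e, if_neg (lt_irrefl a), add_self_W, L_zero, sg_zero, one_smul]

lemma L_e_anti {n : ℕ} {a b : Fin n} (h : a ≠ b) : L (e a) * L (e b) = -(L (e b) * L (e a)) := by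
  rw [L_mul, L_mul, add_comm (e b) (e a), bet_e_e, bet_e_e]
  rcases lt_or_gt_of_ne h with h1 | h1
  · rw [if_neg (not_lt.mpr h1.le), if_pos h1, sg_zero, sg_one, one_smul, neg_smul, one_smul, neg_neg]
  · rw [if_pos h1, if_neg (not_lt.mpr h1.le), sg_zero, sg_one, one_smul, neg_smul, one_smul]

lemma three_M {n : ℕ} : (1 : M n) + 1 = -1 := by
  rw [eq_neg_iff_add_eq_zero]
  ext U V
  have h3 : (1 : ZMod 3) + 1 + 1 = 0 := by decide
  by_cases h : U = V
  · simp [h, h3]
  · simp [h]

def t {n : ℕ} (i j : Fin n) : M n := L (e i) - L (e j)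

lemma t_mul_self {n : ℕ} {i j : Fin n} (h : i ≠ j) : t i j * t i j = -1 := by
  unfold t
  rw [sub_mul, mul_sub, mul_sub, L_e_sq, L_e_sq, L_e_anti h.symm, ← three_M]
  abel

lemma t_mul_L {n : ℕ} {i j : Fin n} (h : i ≠ j) (m : Fin n) :
    t i j * L (e m) = -(L (e (Equiv.swap i j m)) * t i j) := by
  unfold t
  by_cases h1 : m = i
  · subst h1
    rw [Equiv.swap_apply_left, sub_mul, mul_sub, L_e_sq, L_e_sq]
    abel
  · by_cases h2 : m = j
    · subst h2
      rw [Equiv.swap_apply_right, sub_mul, mul_sub, L_e_sq, L_e_sq]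
      abel
    · rw [Equiv.swap_apply_of_ne_of_ne h1 h2, sub_mul, mul_sub, L_e_anti h1, L_e_anti h2]
      abel

lemma t_anti {n : ℕ} {i j k l : Fin n} (hik : i ≠ k) (hil : i ≠ l) (hjk : j ≠ k) (hjl : j ≠ l) :
    t i j * t k l = -(t k l * t i j) := by
  unfold t
  rw [sub_mul, mul_sub, mul_sub, sub_mul, mul_sub, mul_sub, L_e_anti hik, L_e_anti hil,
    L_e_anti hjk, L_e_anti hjl]
  abel

/-- the even part of the algebra -/
def Cev (n : ℕ) : Submodule (ZMod 3) (M n) :=
  Submodule.span (ZMod 3) {x | ∃ S : W n, ev S = 0 ∧ x = L S}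

lemma L_mem_Cev {n : ℕ} {S : W n} (h : ev S = 0) : L S ∈ Cev n :=
  Submodule.subset_span ⟨S, h, rfl⟩

lemma one_mem_Cev {n : ℕ} : (1 : M n) ∈ Cev n := by
  rw [← L_zero]; exact L_mem_Cev (by simp [ev])

lemma Cev_mul {n : ℕ} {x y : M n} (hx : x ∈ Cev n) (hy : y ∈ Cev n) : x * y ∈ Cev n := by
  induction hx using Submodule.span_induction with
  | mem x hx =>
    obtain ⟨S, hS, rfl⟩ := hx
    induction hy using Submodule.span_induction with
    | mem y hy =>
      obtain ⟨T, hT, rfl⟩ := hy
      rw [L_mul]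
      exact Submodule.smul_mem _ _ (L_mem_Cev (by rw [ev_add, hS, hT, add_zero]))
    | zero => rw [mul_zero]; exact zero_mem _
    | add a b _ _ ha hb => rw [mul_add]; exact add_mem ha hb
    | smul c a _ ha => rw [Matrix.mul_smul]; exact Submodule.smul_mem _ _ ha
  | zero => rw [zero_mul]; exact zero_mem _
  | add a b _ _ ha hb => rw [add_mul]; exact add_mem ha hb
  | smul c a _ ha => rw [Matrix.smul_mul]; exact Submodule.smul_mem _ _ ha

lemma Cev_pow {n : ℕ} {x : M n} (hx : x ∈ Cev n) (k : ℕ) : x ^ k ∈ Cev n := by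
  induction k with
  | zero => rw [pow_zero]; exact one_mem_Cev
  | succ k ih => rw [pow_succ]; exact Cev_mul ih hx

lemma t_mul_t_mem {n : ℕ} {i j k l : Fin n} : t i j * t k l ∈ Cev n := by
  unfold t
  rw [sub_mul, mul_sub, mul_sub]
  have h : ∀ a b : Fin n, L (e a) * L (e b) ∈ Cev n := by
    intro a b
    rw [L_mul]
    refine Submodule.smul_mem _ _ (L_mem_Cev ?_)
    rw [ev_add, ev_e, ev_e]; decide
  exact sub_mem (sub_mem (h _ _) (h _ _)) (sub_mem (h _ _) (h _ _))

lemma Cev_prop {n : ℕ} {x : M n} (hx : x ∈ Cev n) :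
    (∀ U V, x U V = x (U + V) 0 * sg (bet (U + V) V)) ∧ ∀ S, ev S ≠ 0 → x S 0 = 0 := by
  induction hx using Submodule.span_induction with
  | mem x hx =>
    obtain ⟨S, hS, rfl⟩ := hx
    constructor
    · intro U V
      rw [L_apply, L_apply, add_zero, bet_zero_right, sg_zero]
      by_cases h : U = S + V
      · rw [if_pos h, if_pos ((add_eq_iff_W U V S).mpr h), one_mul, (add_eq_iff_W U V S).mpr h]
      · rw [if_neg h, if_neg (fun h' => h ((add_eq_iff_W U V S).mp h')), zero_mul]
    · intro S' hS'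
      rw [L_apply, add_zero, if_neg]
      rintro rfl; exact hS' hS
  | zero => exact ⟨fun U V => by simp, fun S _ => by simp⟩
  | add a b _ _ ha hb =>
    refine ⟨fun U V => ?_, fun S hS => ?_⟩
    · rw [Matrix.add_apply, Matrix.add_apply, ha.1 U V, hb.1 U V, add_mul]
    · rw [Matrix.add_apply, ha.2 S hS, hb.2 S hS, add_zero]
  | smul c a _ ha =>
    refine ⟨fun U V => ?_, fun S hS => ?_⟩
    · rw [Matrix.smul_apply, Matrix.smul_apply, ha.1 U V, smul_eq_mul, smul_eq_mul, mul_assoc]
    · rw [Matrix.smul_apply, ha.2 S hS, smul_zero]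

/-- an even element commuting with all generators is a scalar -/
lemma Cev_central {n : ℕ} {x : M n} (hx : x ∈ Cev n)
    (hc : ∀ m : Fin n, x * L (e m) = L (e m) * x) : x = (x 0 0) • (1 : M n) := by
  obtain ⟨h1, h2⟩ := Cev_prop hx
  have key : ∀ S : W n, S ≠ 0 → x S 0 = 0 := by
    intro S hS
    by_cases hev : ev S = 0
    · by_contra hne
      have : ∃ m, S m ≠ 0 := by
        by_contra hcon
        push Not at hcon
        exact hS (funext hcon)
      obtain ⟨m, hm⟩ := this
      have h3 := congrFun (congrFun (hc m) (S + e m)) 0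
      rw [Matrix.mul_apply, Matrix.mul_apply, Finset.sum_eq_single (e m),
        Finset.sum_eq_single S] at h3
      · rw [L_apply, L_apply, add_zero, if_pos rfl, if_pos (add_comm _ _), bet_zero_right, sg_zero,
          mul_one, h1 (S + e m) (e m), add_assoc, add_self_W, add_zero, mul_comm] at h3
        have h4 := sg_inj (mul_right_cancel₀ hne h3)
        have h5 := bet_e_sum m S
        rw [h4, CharTwo.add_self_eq_zero, zero_add, hev] at h5
        exact hm h5
      · intro X _ hX
        rw [L_apply, if_neg, zero_mul]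
        intro h; apply hX
        rw [add_comm (e m) X] at h
        exact (add_right_cancel h).symm
      · intro h; exact absurd (Finset.mem_univ _) h
      · intro X _ hX
        rw [L_apply, add_zero, if_neg hX, mul_zero]
      · intro h; exact absurd (Finset.mem_univ _) h
    · exact h2 S hev
  ext U V
  rw [Matrix.smul_apply, Matrix.one_apply, h1 U V]
  by_cases h : U = V
  · subst h
    rw [if_pos rfl, add_self_W, bet_zero_left, sg_zero, smul_eq_mul]
  · rw [if_neg h, smul_zero, key, zero_mul]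
    intro h'
    apply h
    have := (add_eq_iff_W U V 0).mp h'
    rwa [zero_add] at this

end Cfsg.Agent.helper11.DCov
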