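import Cfsg.Agent.Lib_helper11_DCovA

/-!
# The double cover of the alternating group as a matrix group over `ZMod 3` (helper11)
-/

namespace Cfsg.Agent.helper11.DCov

open scoped BigOperators

abbrev GLn (n : ℕ) := (M n)ˣ

lemma L_e_inj {n : ℕ} {a b : Fin n} (h : L (e a) = L (e b)) : a = b := by
  apply e_inj
  have h1 := congrFun (congrFun h (e a)) 0
  rw [L_apply, L_apply, add_zero, add_zero, if_pos rfl, bet_zero_right, sg_zero] at h1
  by_contra hne
  rw [if_neg hne] at h1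
  exact one_ne_zero h1

lemma sigma_unique {n : ℕ} (g : GLn n) {σ τ : Equiv.Perm (Fin n)}
    (hσ : ∀ m, (g : M n) * L (e m) = L (e (σ m)) * (g : M n))
    (hτ : ∀ m, (g : M n) * L (e m) = L (e (τ m)) * (g : M n)) : σ = τ := by
  refine Equiv.ext fun m => ?_
  have h1 : L (e (σ m)) * (g : M n) = L (e (τ m)) * (g : M n) := by rw [← hσ, ← hτ]
  have h2 : L (e (σ m)) * (g : M n) * ((g⁻¹ : GLn n) : M n)
      = L (e (τ m)) * (g : M n) * ((g⁻¹ : GLn n) : M n) := by rw [h1]
  rw [mul_assoc, mul_assoc, Units.mul_inv, mul_one, mul_one] at h2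
  exact L_e_inj h2

/-- the normalizer-type subgroup -/
def N (n : ℕ) : Subgroup (GLn n) where
  carrier := {g | (g : M n) ∈ Cev n ∧
    ∃ σ : Equiv.Perm (Fin n), ∀ m, (g : M n) * L (e m) = L (e (σ m)) * (g : M n)}
  one_mem' := ⟨by rw [Units.val_one]; exact one_mem_Cev, 1, fun m => by simp⟩
  mul_mem' := by
    rintro g h ⟨hg1, σ, hσ⟩ ⟨hh1, τ, hτ⟩
    refine ⟨by rw [Units.val_mul]; exact Cev_mul hg1 hh1, σ * τ, fun m => ?_⟩
    rw [Units.val_mul, mul_assoc, hτ, ← mul_assoc, hσ, mul_assoc]; rfl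
  inv_mem' := by
    rintro g ⟨hg1, σ, hσ⟩
    refine ⟨?_, σ⁻¹, fun m => ?_⟩
    · have hk : 0 < orderOf g := orderOf_pos g
      have h1 : g⁻¹ = g ^ (orderOf g - 1) := by
        apply inv_eq_of_mul_eq_one_right
        rw [← pow_succ', Nat.sub_add_cancel hk, pow_orderOf_eq_one]
      rw [h1, Units.val_pow_eq_pow_val]
      exact Cev_pow hg1 _
    · have h1 := hσ (σ⁻¹ m)
      have hm : σ (σ⁻¹ m) = m := Equiv.apply_symm_apply σ m
      rw [hm] at h1
      calc ((g⁻¹ : GLn n) : M n) * L (e m)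
          = ((g⁻¹ : GLn n) : M n) * (L (e m) * (g : M n)) * ((g⁻¹ : GLn n) : M n) := by
            rw [mul_assoc, mul_assoc, Units.mul_inv, mul_one]
        _ = ((g⁻¹ : GLn n) : M n) * ((g : M n) * L (e (σ⁻¹ m))) * ((g⁻¹ : GLn n) : M n) := by
            rw [h1]
        _ = L (e (σ⁻¹ m)) * ((g⁻¹ : GLn n) : M n) := by
            rw [← mul_assoc, Units.inv_mul, one_mul]

lemma mem_N {n : ℕ} (g : GLn n) : g ∈ N n ↔ (g : M n) ∈ Cev n ∧
    ∃ σ : Equiv.Perm (Fin n), ∀ m, (g : M n) * L (e m) = L (e (σ m)) * (g : M n) := Iff.rfl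

noncomputable def sig {n : ℕ} (g : N n) : Equiv.Perm (Fin n) := Classical.choose g.2.2

lemma sig_spec {n : ℕ} (g : N n) (m : Fin n) :
    ((g : GLn n) : M n) * L (e m) = L (e (sig g m)) * ((g : GLn n) : M n) :=
  Classical.choose_spec g.2.2 m

lemma sig_eq {n : ℕ} (g : N n) {σ : Equiv.Perm (Fin n)}
    (hσ : ∀ m, ((g : GLn n) : M n) * L (e m) = L (e (σ m)) * ((g : GLn n) : M n)) : sig g = σ :=
  sigma_unique _ (sig_spec g) hσ

noncomputable def piN (n : ℕ) : N n →* Equiv.Perm (Fin n) where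
  toFun := sig
  map_one' := sig_eq 1 (fun m => by simp)
  map_mul' g h := sig_eq (g * h) (fun m => by
    rw [Subgroup.coe_mul, Units.val_mul, mul_assoc, sig_spec h, ← mul_assoc, sig_spec g, mul_assoc]
    rfl)

lemma piN_apply {n : ℕ} (g : N n) : piN n g = sig g := rfl

/-- the element `-1` of `N n` -/
def negOneN (n : ℕ) : N n := ⟨-1, by
  rw [mem_N]
  refine ⟨by rw [Units.val_neg, Units.val_one]; exact neg_mem one_mem_Cev, 1, fun m => ?_⟩
  simp⟩

lemma piN_negOne (n : ℕ) : piN n (negOneN n) = 1 :=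
  sig_eq _ (fun m => by simp [negOneN])

lemma neg_one_ne_one_M (n : ℕ) : (-1 : M n) ≠ 1 := by
  intro h
  have h1 := congrFun (congrFun h 0) 0
  rw [Matrix.neg_apply, Matrix.one_apply_eq] at h1
  revert h1; decide

lemma negOneN_ne_one (n : ℕ) : negOneN n ≠ 1 := by
  intro h
  have h1 : ((negOneN n : GLn n) : M n) = 1 := by rw [h]; rfl
  exact neg_one_ne_one_M n (by simpa [negOneN] using h1)

lemma ker_piN {n : ℕ} (g : N n) (hg : piN n g = 1) : g = 1 ∨ g = negOneN n := by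
  have hc : ∀ m : Fin n, ((g : GLn n) : M n) * L (e m) = L (e m) * ((g : GLn n) : M n) := by
    intro m
    have := sig_spec g m
    rw [← piN_apply, hg] at this
    exact this
  have h1 := Cev_central g.2.1 hc
  obtain ⟨c, hc'⟩ : ∃ c : ZMod 3, c = ((g : GLn n) : M n) 0 0 := ⟨_, rfl⟩
  rw [← hc'] at h1
  have hall : ∀ c : ZMod 3, c = 0 ∨ c = 1 ∨ c = -1 := by decide
  have hcases : c = 0 ∨ c = 1 ∨ c = -1 := hall c
  rcases hcases with h0 | h0 | h0
  · exfalso
    rw [h0, zero_smul] at h1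
    have h2 := (g : GLn n).mul_inv
    rw [h1, zero_mul] at h2
    exact zero_ne_one h2
  · left
    rw [h0, one_smul] at h1
    exact Subtype.ext (Units.ext h1)
  · right
    rw [h0, neg_smul, one_smul] at h1
    refine Subtype.ext (Units.ext ?_)
    rw [h1]; simp [negOneN]

/-- the invertible "reflection" elements -/
def T {n : ℕ} (i j : Fin n) (h : i ≠ j) : GLn n :=
  ⟨t i j, -t i j, by rw [mul_neg, t_mul_self h, neg_neg], by rw [neg_mul, t_mul_self h, neg_neg]⟩

lemma tt_L {n : ℕ} {i j k l : Fin n} (hij : i ≠ j) (hkl : k ≠ l) (m : Fin n) :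
    t i j * t k l * L (e m) = L (e ((Equiv.swap i j * Equiv.swap k l) m)) * (t i j * t k l) := by
  rw [mul_assoc, t_mul_L hkl, mul_neg, ← mul_assoc, t_mul_L hij, neg_mul, neg_neg, mul_assoc]
  rfl

/-- the lifts of products of two transpositions -/
def P {n : ℕ} (i j k l : Fin n) (hij : i ≠ j) (hkl : k ≠ l) : N n :=
  ⟨T i j hij * T k l hkl, by
    rw [mem_N]
    refine ⟨?_, Equiv.swap i j * Equiv.swap k l, fun m => ?_⟩
    · rw [Units.val_mul]; exact t_mul_t_mem
    · rw [Units.val_mul]; exact tt_L hij hkl m⟩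

lemma P_val {n : ℕ} (i j k l : Fin n) (hij : i ≠ j) (hkl : k ≠ l) :
    ((P i j k l hij hkl : GLn n) : M n) = t i j * t k l := rfl

lemma piN_P {n : ℕ} (i j k l : Fin n) (hij : i ≠ j) (hkl : k ≠ l) :
    piN n (P i j k l hij hkl) = Equiv.swap i j * Equiv.swap k l :=
  sig_eq _ (fun m => by rw [P_val]; exact tt_L hij hkl m)

lemma P_mul_self {n : ℕ} (i j k l : Fin n) (hij : i ≠ j) (hkl : k ≠ l)
    (hik : i ≠ k) (hil : i ≠ l) (hjk : j ≠ k) (hjl : j ≠ l) :
    P i j k l hij hkl * P i j k l hij hkl = negOneN n := by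
  refine Subtype.ext (Units.ext ?_)
  rw [Subgroup.coe_mul, Units.val_mul, P_val]
  have h1 : t i j * t k l * (t i j * t k l) = t i j * (t k l * t i j) * t k l := by
    simp only [mul_assoc]
  have h2 : t k l * t i j = -(t i j * t k l) := by
    rw [t_anti hik hil hjk hjl, neg_neg]
  rw [h1, h2, mul_neg, neg_mul, ← mul_assoc, t_mul_self hij, mul_assoc, t_mul_self hkl]
  simp [negOneN]

lemma alt_le_range (n : ℕ) : alternatingGroup (Fin n) ≤ (piN n).range := by
  intro σ hσ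
  suffices hind : ∀ (k : ℕ) (l : List (Equiv.Perm (Fin n))) (_ : ∀ g, g ∈ l → Equiv.Perm.IsSwap g)
      (_ : l.length = 2 * k), l.prod ∈ (piN n).range by
    obtain ⟨l, rfl, hl⟩ := Equiv.Perm.truncSwapFactors σ
    obtain ⟨k, hk⟩ := (Equiv.Perm.prod_list_swap_mem_alternatingGroup_iff_even_length hl).1 hσ
    rw [← two_mul] at hk
    exact hind k l hl hk
  intro k
  induction k with
  | zero =>
    intro l hl hk
    rw [List.length_eq_zero_iff.1 hk, List.prod_nil]
    exact one_mem _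
  | succ k ih =>
    intro l hl hk
    rw [Nat.mul_succ] at hk
    obtain ⟨a, l, rfl⟩ := l.exists_of_length_succ hk
    rw [List.length_cons, Nat.succ_inj] at hk
    obtain ⟨b, l, rfl⟩ := l.exists_of_length_succ hk
    rw [List.length_cons, Nat.succ_inj] at hk
    rw [List.prod_cons, List.prod_cons, ← mul_assoc]
    refine mul_mem ?_ (ih l (fun g hg => hl g (by simp [hg])) hk)
    obtain ⟨x, y, hxy, rfl⟩ := hl a (by simp)
    obtain ⟨x', y', hxy', rfl⟩ := hl b (by simp)
    exact ⟨P x y x' y' hxy hxy', piN_P _ _ _ _ _ _⟩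

end Cfsg.Agent.helper11.DCov
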