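import Cfsg.Agent.Lib_helper11_DCovB

/-!
# The double cover `Gam n` of the alternating group of degree `n` (helper11)
-/

namespace Cfsg.Agent.helper11.DCov

/-- the double cover -/
noncomputable def Gam (n : ℕ) : Subgroup (N n) := (alternatingGroup (Fin n)).comap (piN n)

noncomputable def phi (n : ℕ) : Gam n →* alternatingGroup (Fin n) :=
  ((piN n).comp (Gam n).subtype).codRestrict (alternatingGroup (Fin n)) (fun x => x.2)

lemma phi_val {n : ℕ} (g : Gam n) : ((phi n g : alternatingGroup (Fin n)) : Equiv.Perm (Fin n))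
    = piN n (g : N n) := rfl

lemma phi_surj (n : ℕ) : Function.Surjective (phi n) := by
  intro τ
  obtain ⟨g, hg⟩ := alt_le_range n τ.2
  refine ⟨⟨g, ?_⟩, Subtype.ext ?_⟩
  · change piN n g ∈ alternatingGroup (Fin n)
    rw [hg]; exact τ.2
  · rw [phi_val]; exact hg

/-- the central involution -/
noncomputable def zG (n : ℕ) : Gam n := ⟨negOneN n, by
  change piN n (negOneN n) ∈ alternatingGroup (Fin n)
  rw [piN_negOne]; exact one_mem _⟩

lemma zG_ne_one (n : ℕ) : zG n ≠ 1 := by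
  intro h
  exact negOneN_ne_one n (congrArg Subtype.val h)

lemma zG_mul_self (n : ℕ) : zG n * zG n = 1 := by
  refine Subtype.ext (Subtype.ext (Units.ext ?_))
  simp [zG, negOneN]

lemma zG_comm {n : ℕ} (g : Gam n) : g * zG n = zG n * g := by
  refine Subtype.ext (Subtype.ext (Units.ext ?_))
  simp [zG, negOneN]

lemma zG_central (n : ℕ) : zG n ∈ Subgroup.center (Gam n) := by
  rw [Subgroup.mem_center_iff]
  intro g; exact zG_comm g

lemma orderOf_zG (n : ℕ) : orderOf (zG n) = 2 := by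
  apply orderOf_eq_prime
  · rw [pow_two]; exact zG_mul_self n
  · exact zG_ne_one n

lemma phi_zG (n : ℕ) : phi n (zG n) = 1 := by
  apply Subtype.ext
  rw [phi_val]
  exact piN_negOne n

lemma phi_eq_one {n : ℕ} (g : Gam n) (hg : phi n g = 1) : g = 1 ∨ g = zG n := by
  have h1 : piN n (g : N n) = 1 := by
    rw [← phi_val, hg]; rfl
  rcases ker_piN _ h1 with h | h
  · left; exact Subtype.ext h
  · right; exact Subtype.ext h

lemma phi_eq {n : ℕ} (x y : Gam n) (h : phi n x = phi n y) : x = y ∨ x = zG n * y := by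
  have h1 : phi n (x * y⁻¹) = 1 := by rw [map_mul, map_inv, h, mul_inv_cancel]
  rcases phi_eq_one _ h1 with h2 | h2
  · left; exact mul_inv_eq_one.mp h2
  · right; exact mul_inv_eq_iff_eq_mul.mp h2

lemma ker_phi (n : ℕ) : (phi n).ker = Subgroup.zpowers (zG n) := by
  apply le_antisymm
  · intro g hg
    rcases phi_eq_one g (MonoidHom.mem_ker.mp hg) with h | h
    · rw [h]; exact one_mem _
    · rw [h]; exact Subgroup.mem_zpowers _
  · rw [Subgroup.zpowers_le]
    exact MonoidHom.mem_ker.mpr (phi_zG n)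

/-- lifts of products of two transpositions, in `Gam n` -/
noncomputable def PG {n : ℕ} (i j k l : Fin n) (hij : i ≠ j) (hkl : k ≠ l) : Gam n :=
  ⟨P i j k l hij hkl, by
    change piN n (P i j k l hij hkl) ∈ alternatingGroup (Fin n)
    rw [piN_P, Equiv.Perm.mem_alternatingGroup, map_mul, Equiv.Perm.sign_swap hij,
      Equiv.Perm.sign_swap hkl]
    rfl⟩

lemma phi_PG {n : ℕ} (i j k l : Fin n) (hij : i ≠ j) (hkl : k ≠ l) :
    ((phi n (PG i j k l hij hkl) : alternatingGroup (Fin n)) : Equiv.Perm (Fin n))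
      = Equiv.swap i j * Equiv.swap k l := by
  rw [phi_val]; exact piN_P _ _ _ _ _ _

lemma PG_mul_self {n : ℕ} (i j k l : Fin n) (hij : i ≠ j) (hkl : k ≠ l)
    (hik : i ≠ k) (hil : i ≠ l) (hjk : j ≠ k) (hjl : j ≠ l) :
    PG i j k l hij hkl * PG i j k l hij hkl = zG n :=
  Subtype.ext (P_mul_self i j k l hij hkl hik hil hjk hjl)

lemma klein_swap {α : Type*} [DecidableEq α] {a b c d : α} (hab : a ≠ b) (hac : a ≠ c)
    (had : a ≠ d) (hbc : b ≠ c) (hbd : b ≠ d) (hcd : c ≠ d) :
    Equiv.swap a b * Equiv.swap c d * (Equiv.swap a c * Equiv.swap b d)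
      = Equiv.swap a d * Equiv.swap b c := by
  have hba := hab.symm
  have hca := hac.symm
  have hda := had.symm
  have hcb := hbc.symm
  have hdb := hbd.symm
  have hdc := hcd.symm
  refine Equiv.ext fun m => ?_
  simp only [Equiv.Perm.mul_apply]
  by_cases h1 : m = a
  · rw [h1]; simp [Equiv.swap_apply_of_ne_of_ne, *]
  · by_cases h2 : m = b
    · rw [h2]; simp [Equiv.swap_apply_of_ne_of_ne, *]
    · by_cases h3 : m = c
      · rw [h3]; simp [Equiv.swap_apply_of_ne_of_ne, *]
      · by_cases h4 : m = d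
        · rw [h4]; simp [Equiv.swap_apply_of_ne_of_ne, *]
        · simp [Equiv.swap_apply_of_ne_of_ne, *]

lemma exists_fin (n k : ℕ) (h : k < n) : ∃ i : Fin n, i.val = k := ⟨⟨k, h⟩, rfl⟩

lemma comm_eq_zG {n : ℕ} (hn : 4 ≤ n) : ∃ a b : Gam n, a * b * a⁻¹ * b⁻¹ = zG n := by
  obtain ⟨i0, h0⟩ := exists_fin n 0 (by omega)
  obtain ⟨i1, h1⟩ := exists_fin n 1 (by omega)
  obtain ⟨i2, h2⟩ := exists_fin n 2 (by omega)
  obtain ⟨i3, h3⟩ := exists_fin n 3 (by omega)
  have h01 : i0 ≠ i1 := fun h => by rw [h] at h0; omega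
  have h02 : i0 ≠ i2 := fun h => by rw [h] at h0; omega
  have h03 : i0 ≠ i3 := fun h => by rw [h] at h0; omega
  have h12 : i1 ≠ i2 := fun h => by rw [h] at h1; omega
  have h13 : i1 ≠ i3 := fun h => by rw [h] at h1; omega
  have h23 : i2 ≠ i3 := fun h => by rw [h] at h2; omega
  obtain ⟨a, ha⟩ : ∃ a : Gam n, a = PG i0 i1 i2 i3 h01 h23 := ⟨_, rfl⟩
  obtain ⟨b, hb⟩ : ∃ b : Gam n, b = PG i0 i2 i1 i3 h02 h13 := ⟨_, rfl⟩
  obtain ⟨c, hc⟩ : ∃ c : Gam n, c = PG i0 i3 i1 i2 h03 h12 := ⟨_, rfl⟩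
  obtain ⟨z, hz⟩ : ∃ z : Gam n, z = zG n := ⟨_, rfl⟩
  have haa : a * a = z := by rw [ha, hz]; exact PG_mul_self _ _ _ _ _ _ h02 h03 h12 h13
  have hbb : b * b = z := by rw [hb, hz]; exact PG_mul_self _ _ _ _ _ _ h01 h03 h12.symm h23
  have hcc : c * c = z := by rw [hc, hz]; exact PG_mul_self _ _ _ _ _ _ h01 h02 h13.symm h23.symm
  have hz2 : z * z = 1 := by rw [hz]; exact zG_mul_self n
  have hzc : ∀ g : Gam n, g * z = z * g := by intro g; rw [hz]; exact zG_comm g
  have hz1 : z ≠ 1 := by rw [hz]; exact zG_ne_one n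
  have hab : phi n (a * b) = phi n c := by
    apply Subtype.ext
    rw [map_mul, Subgroup.coe_mul, ha, hb, hc, phi_PG, phi_PG, phi_PG]
    exact klein_swap h01 h02 h03 h12 h13 h23
  have hba : phi n (b * a) = phi n c := by
    apply Subtype.ext
    rw [map_mul, Subgroup.coe_mul, ha, hb, hc, phi_PG, phi_PG, phi_PG,
      klein_swap h02 h01 h03 h12.symm h23 h13, Equiv.swap_comm i2 i1]
  have hzczc : z * c * (z * c) = z := by
    calc z * c * (z * c) = z * (c * z) * c := by simp only [mul_assoc]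
      _ = z * (z * c) * c := by rw [hzc c]
      _ = (z * z) * (c * c) := by simp only [mul_assoc]
      _ = z := by rw [hz2, hcc, one_mul]
  have hcomm_absurd : ∀ x : Gam n, x * x = z → a * b = x → b * a = x → False := by
    intro x hxx h1 h2
    apply hz1
    calc z = x * x := hxx.symm
      _ = (a * b) * (b * a) := by rw [h1, h2]
      _ = a * (b * b) * a := by simp only [mul_assoc]
      _ = a * z * a := by rw [hbb]
      _ = z * (a * a) := by rw [hzc a, mul_assoc]
      _ = z * z := by rw [haa]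
      _ = 1 := hz2
  have hfin : a * b = z * (b * a) → a * b * a⁻¹ * b⁻¹ = z := by
    intro h
    rw [h]; group
  refine ⟨a, b, ?_⟩
  rw [← hz]
  rcases phi_eq _ _ hab with h1 | h1 <;> rcases phi_eq _ _ hba with h2 | h2
  · exact absurd (hcomm_absurd c hcc h1 h2) id
  · apply hfin
    rw [h1, h2, ← hz, ← mul_assoc, hz2, one_mul]
  · apply hfin
    rw [h1, h2, ← hz]
  · rw [← hz] at h1 h2
    exact absurd (hcomm_absurd (z * c) hzczc h1 h2) id

lemma zG_mem_commutator {n : ℕ} (hn : 4 ≤ n) : zG n ∈ commutator (Gam n) := by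
  obtain ⟨a, b, hab⟩ := comm_eq_zG hn
  rw [commutator_def, ← hab, ← commutatorElement_def]
  exact Subgroup.commutator_mem_commutator (Subgroup.mem_top a) (Subgroup.mem_top b)

instance finite_Gam (n : ℕ) : Finite (Gam n) := inferInstance

theorem exists_double_cover (n : ℕ) (hn : 4 ≤ n) :
    ∃ (Γ : Type) (_ : Group Γ) (_ : Finite Γ) (z : Γ) (_hz : z ∈ Subgroup.center Γ),
      orderOf z = 2 ∧ z ∈ commutator Γ ∧ ∃ _ : (Subgroup.zpowers z).Normal,
        Nonempty (Γ ⧸ Subgroup.zpowers z ≃* alternatingGroup (Fin n)) := by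
  have hker := ker_phi n
  have hN : (Subgroup.zpowers (zG n)).Normal := hker ▸ MonoidHom.normal_ker (phi n)
  refine ⟨↥(Gam n), inferInstance, inferInstance, zG n, zG_central n, orderOf_zG n,
    zG_mem_commutator hn, hN, ⟨?_⟩⟩
  exact (QuotientGroup.quotientMulEquivOfEq hker.symm).trans
    (QuotientGroup.quotientKerEquivOfSurjective (phi n) (phi_surj n))

end Cfsg.Agent.helper11.DCov
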