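import Mathlib
import Cfsg.Agent.Lib_helper10_Cocycle

set_option autoImplicit false

/-!
Gaschütz's theorem: an abelian normal subgroup `K ≤ U ≤ G` with `(|K|, |G:U|) = 1` has a complement
in `G` if it has one in `U`; two complements in `G` meeting `U` in the same subgroup are conjugate.
-/

namespace Cfsg.Agent.lead

variable {G : Type*} [Group G]

/-- the `K`-part of an element of `U = A K` -/
theorem exists_kpart (K U A : Subgroup G) [hKn : K.Normal] (hAK : A ⊓ K = ⊥) (hKA : K ⊔ A = U) :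
    ∃ κ : G → G, (∀ u ∈ U, κ u ∈ K ∧ u * (κ u)⁻¹ ∈ A) ∧ (∀ a ∈ A, ∀ k ∈ K, κ (a * k) = k) := by
  classical
  have hex : ∀ u : G, u ∈ U → ∃ k : G, k ∈ K ∧ u * k⁻¹ ∈ A := by
    intro u hu
    rw [← hKA, Subgroup.mem_sup_of_normal_left] at hu
    obtain ⟨k, hk, a, ha, rfl⟩ := hu
    refine ⟨a⁻¹ * k * a, ?_, ?_⟩
    · have := hKn.conj_mem k hk a⁻¹
      simpa using this
    · have : k * a * (a⁻¹ * k * a)⁻¹ = a := by group
      rw [this]; exact ha
  let κ : G → G := fun u => if h : u ∈ U then Classical.choose (hex u h) else 1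
  have hκ : ∀ u (h : u ∈ U), κ u ∈ K ∧ u * (κ u)⁻¹ ∈ A := by
    intro u h
    have : κ u = Classical.choose (hex u h) := dif_pos h
    rw [this]
    exact Classical.choose_spec (hex u h)
  refine ⟨κ, hκ, ?_⟩
  intro a ha k hk
  have hu : a * k ∈ U := by
    rw [← hKA]
    exact Subgroup.mul_mem _ (Subgroup.mem_sup_right ha) (Subgroup.mem_sup_left hk)
  obtain ⟨h1, h2⟩ := hκ (a * k) hu
  have h3 : k * (κ (a * k))⁻¹ ∈ A ⊓ K := by
    constructor
    · have : k * (κ (a * k))⁻¹ = a⁻¹ * (a * k * (κ (a * k))⁻¹) := by group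
      rw [this]; exact A.mul_mem (A.inv_mem ha) h2
    · exact K.mul_mem hk (K.inv_mem h1)
  rw [hAK, Subgroup.mem_bot] at h3
  exact (mul_inv_eq_one.mp h3).symm

/-- **Gaschütz**, existence of a complement. -/
theorem gaschutz_exists [Finite G] (K U A : Subgroup G) [hKn : K.Normal]
    (hKc : ∀ a ∈ K, ∀ b ∈ K, a * b = b * a) (hKU : K ≤ U)
    (hcop : (Nat.card K).Coprime U.index) (hAU : A ≤ U) (hAK : A ⊓ K = ⊥) (hKA : K ⊔ A = U) :
    ∃ H : Subgroup G, Subgroup.IsComplement' K H := by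
  classical
  letI : Fintype (G ⧸ U) := Fintype.ofFinite _
  letI instC : CommGroup ↥K := { (inferInstance : Group ↥K) with
    mul_comm := fun a b => Subtype.ext (hKc a.1 a.2 b.1 b.2) }
  obtain ⟨κ, hκ, hκu⟩ := exists_kpart K U A hAK hKA
  -- multiplicative behaviour of κ
  have hκK : ∀ u ∈ U, ∀ k ∈ K, κ (u * k) = κ u * k := by
    intro u hu k hk
    obtain ⟨h1, h2⟩ := hκ u hu
    have : u * k = (u * (κ u)⁻¹) * (κ u * k) := by group
    rw [this]
    exact hκu _ h2 _ (K.mul_mem h1 hk)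
  have hκA : ∀ u ∈ U, ∀ a ∈ A, κ (u * a) = a⁻¹ * κ u * a := by
    intro u hu a ha
    obtain ⟨h1, h2⟩ := hκ u hu
    have : u * a = (u * (κ u)⁻¹ * a) * (a⁻¹ * κ u * a) := by group
    rw [this]
    refine hκu _ (A.mul_mem h2 ha) _ ?_
    have := hKn.conj_mem _ h1 a⁻¹
    simpa using this
  let r : G ⧸ U → G := fun q => q.out
  have hr : ∀ g : G, (r (QuotientGroup.mk g))⁻¹ * g ∈ U := by
    intro g
    rw [← QuotientGroup.eq]
    exact QuotientGroup.out_eq' _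
  obtain ⟨t, ht_def⟩ : ∃ t : G → G, ∀ g, t g = g * (κ ((r (QuotientGroup.mk g))⁻¹ * g))⁻¹ :=
    ⟨_, fun g => rfl⟩
  have ht1 : ∀ g, g⁻¹ * t g ∈ K := by
    intro g
    have : g⁻¹ * t g = (κ ((r (QuotientGroup.mk g))⁻¹ * g))⁻¹ := by
      rw [ht_def]
      group
    rw [this]
    exact K.inv_mem (hκ _ (hr g)).1
  have ht2 : ∀ g, ∀ k ∈ K, t (g * k) = t g := by
    intro g k hk
    have hq : (QuotientGroup.mk (g * k) : G ⧸ U) = QuotientGroup.mk g := by
      rw [eq_comm, QuotientGroup.eq]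
      have : g⁻¹ * (g * k) = k := by group
      rw [this]; exact hKU hk
    rw [ht_def, ht_def, hq, ← mul_assoc, hκK _ (hr g) k hk]
    group
  have ht3 : ∀ g, ∀ a ∈ A, t (g * a) = t g * a := by
    intro g a ha
    have hq : (QuotientGroup.mk (g * a) : G ⧸ U) = QuotientGroup.mk g := by
      rw [eq_comm, QuotientGroup.eq]
      have : g⁻¹ * (g * a) = a := by group
      rw [this]; exact hAU ha
    rw [ht_def, ht_def, hq, ← mul_assoc, hκA _ (hr g) a ha]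
    group
  have ht23 : ∀ g, ∀ u ∈ U, ∃ a : G, t (g * u) = t g * a ∧ ∀ g' : G, t (g' * u) = t g' * a := by
    intro g u hu
    obtain ⟨h1, h2⟩ := hκ u hu
    refine ⟨u * (κ u)⁻¹, ?_, ?_⟩ <;>
    · first
      | intro g'
        have : g' * u = g' * (u * (κ u)⁻¹) * κ u := by group
        rw [this, ht2 _ _ h1, ht3 _ _ h2]
      | have : g * u = g * (u * (κ u)⁻¹) * κ u := by group
        rw [this, ht2 _ _ h1, ht3 _ _ h2]
  have hFmem : ∀ x g : G, x * t (x⁻¹ * g) * (t g)⁻¹ ∈ K := by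
    intro x g
    have h1 := ht1 (x⁻¹ * g)
    have h2 := ht1 g
    have h3 : x * t (x⁻¹ * g) * (t g)⁻¹ =
        g * (((x⁻¹ * g)⁻¹ * t (x⁻¹ * g)) * (g⁻¹ * t g)⁻¹) * g⁻¹ := by group
    rw [h3]
    exact hKn.conj_mem _ (K.mul_mem h1 (K.inv_mem h2)) g
  let F : G → G → ↥K := fun x g => ⟨x * t (x⁻¹ * g) * (t g)⁻¹, hFmem x g⟩
  have hFU : ∀ x g : G, ∀ u ∈ U, F x (g * u) = F x g := by
    intro x g u hu
    apply Subtype.ext
    show x * t (x⁻¹ * (g * u)) * (t (g * u))⁻¹ = x * t (x⁻¹ * g) * (t g)⁻¹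
    obtain ⟨a, h1, h2⟩ := ht23 g u hu
    have e : x⁻¹ * (g * u) = (x⁻¹ * g) * u := by group
    rw [e, h2 (x⁻¹ * g), h1]
    group
  let Fq : G → G ⧸ U → ↥K := fun x => Quotient.lift (F x) (by
    intro a b hab
    have h1 : a⁻¹ * b ∈ U := QuotientGroup.leftRel_apply.1 hab
    calc F x a = F x (a * (a⁻¹ * b)) := (hFU x a _ h1).symm
      _ = F x b := by congr 1; group)
  have hFq : ∀ x g : G, Fq x (QuotientGroup.mk g) = F x g := fun x g => rfl
  let cz : G → (↥K →* ↥K) := fun h =>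
    { toFun := fun z => ⟨h * z.1 * h⁻¹, hKn.conj_mem z.1 z.2 h⟩
      map_one' := by
        apply Subtype.ext
        show h * 1 * h⁻¹ = 1
        group
      map_mul' := fun a b => by
        apply Subtype.ext
        show h * (a.1 * b.1) * h⁻¹ = (h * a.1 * h⁻¹) * (h * b.1 * h⁻¹)
        group }
  have hcoc : ∀ x y g : G, F (x * y) g = cz x (F y (x⁻¹ * g)) * F x g := by
    intro x y g
    apply Subtype.ext
    show x * y * t ((x * y)⁻¹ * g) * (t g)⁻¹ =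
      (x * (y * t (y⁻¹ * (x⁻¹ * g)) * (t (x⁻¹ * g))⁻¹) * x⁻¹) * (x * t (x⁻¹ * g) * (t g)⁻¹)
    have : (x * y)⁻¹ * g = y⁻¹ * (x⁻¹ * g) := by group
    rw [this]
    group
  have hcocq : ∀ (x y : G) (q : G ⧸ U), Fq (x * y) q = cz x (Fq y (x⁻¹ • q)) * Fq x q := by
    intro x y q
    induction q using QuotientGroup.induction_on with
    | H g =>
      show Fq (x * y) (QuotientGroup.mk g) = cz x (Fq y (QuotientGroup.mk (x⁻¹ * g))) * Fq x (QuotientGroup.mk g)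
      rw [hFq, hFq, hFq]; exact hcoc x y g
  let c : G → ↥K := fun x => ∏ q : G ⧸ U, Fq x q
  have hc_mul : ∀ x y : G, c (x * y) = cz x (c y) * c x := by
    intro x y
    show ∏ q : G ⧸ U, Fq (x * y) q = cz x (∏ q : G ⧸ U, Fq y q) * ∏ q : G ⧸ U, Fq x q
    rw [Finset.prod_congr rfl (fun q _ => hcocq x y q), Finset.prod_mul_distrib, map_prod]
    congr 1
    exact Equiv.prod_comp (MulAction.toPerm x⁻¹) (fun q => cz x (Fq y q))
  have hidx : Fintype.card (G ⧸ U) = U.index := by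
    rw [Subgroup.index_eq_card, Nat.card_eq_fintype_card]
  have hc_K : ∀ k : ↥K, c (k : G) = k ^ U.index := by
    intro k
    have h1 : ∀ q : G ⧸ U, Fq (k : G) q = k := by
      intro q
      induction q using QuotientGroup.induction_on with
      | H g =>
        rw [hFq]
        apply Subtype.ext
        show (k : G) * t ((k : G)⁻¹ * g) * (t g)⁻¹ = k
        have h2 : (k : G)⁻¹ * g = g * (g⁻¹ * (k : G)⁻¹ * g) := by group
        have h3 : g⁻¹ * (k : G)⁻¹ * g ∈ K := by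
          have := hKn.conj_mem _ (K.inv_mem k.2) g⁻¹
          simpa using this
        rw [h2, ht2 _ _ h3]
        group
    show ∏ q : G ⧸ U, Fq (k : G) q = k ^ U.index
    rw [Finset.prod_congr rfl (fun q _ => h1 q), Finset.prod_const, Finset.card_univ, hidx]
  have hc_one : c 1 = 1 := by
    have := hc_K 1
    simpa using this
  have hcz_one : ∀ x : G, cz x 1 = 1 := fun x => map_one _
  let H : Subgroup G :=
    { carrier := {x | c x = 1}
      mul_mem' := by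
        intro x y hx hy
        show c (x * y) = 1
        rw [hc_mul, show c y = 1 from hy, show c x = 1 from hx, hcz_one, one_mul]
      one_mem' := hc_one
      inv_mem' := by
        intro x hx
        show c x⁻¹ = 1
        have h1 := hc_mul x⁻¹ x
        rw [inv_mul_cancel, hc_one, show c x = 1 from hx, hcz_one, one_mul] at h1
        exact h1.symm }
  have hHmem : ∀ x, x ∈ H ↔ c x = 1 := fun x => Iff.rfl
  refine ⟨H, Subgroup.isComplement'_of_disjoint_and_mul_eq_univ ?_ ?_⟩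
  · rw [Subgroup.disjoint_def]
    intro x hxK hxH
    have h1 : c x = 1 := hxH
    have h2 := hc_K ⟨x, hxK⟩
    rw [show ((⟨x, hxK⟩ : ↥K) : G) = x from rfl, h1] at h2
    have h3 : powCoprime hcop ⟨x, hxK⟩ = powCoprime hcop 1 := by
      show (⟨x, hxK⟩ : ↥K) ^ U.index = 1 ^ U.index
      rw [← h2, one_pow]
    have h4 := (powCoprime hcop).injective h3
    exact congrArg Subtype.val h4
  · rw [Set.eq_univ_iff_forall]
    intro g
    obtain ⟨k, hk⟩ := (powCoprime hcop).surjective (c g)⁻¹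
    have hk' : k ^ U.index = (c g)⁻¹ := hk
    have h1 : c ((k : G) * g) = 1 := by
      rw [hc_mul, hc_K, hk']
      have : cz (k : G) (c g) = c g := by
        apply Subtype.ext
        show (k : G) * (c g : G) * (k : G)⁻¹ = c g
        rw [hKc _ k.2 _ (c g).2]
        group
      rw [this, mul_inv_cancel]
    refine ⟨(k : G)⁻¹, K.inv_mem k.2, (k : G) * g, h1, ?_⟩
    show (k : G)⁻¹ * ((k : G) * g) = g
    group

/-- **Gaschütz**, conjugacy of complements. -/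
theorem gaschutz_conj [Finite G] (K U : Subgroup G) [hKn : K.Normal]
    (hKc : ∀ a ∈ K, ∀ b ∈ K, a * b = b * a) (hKU : K ≤ U)
    (hcop : (Nat.card K).Coprime U.index) (H₀ H₁ : Subgroup G)
    (h₀ : Subgroup.IsComplement' K H₀) (h₁ : Subgroup.IsComplement' K H₁)
    (hU : H₀ ⊓ U = H₁ ⊓ U) : ∃ z ∈ K, ∀ h ∈ H₀, z * h * z⁻¹ ∈ H₁ := by
  have hd₀ : H₀ ⊓ K = ⊥ := by rw [inf_comm]; exact h₀.disjoint.eq_bot
  have hd₁ : H₁ ⊓ K = ⊥ := by rw [inf_comm]; exact h₁.disjoint.eq_bot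
  obtain ⟨κ₀, hκ₀, hκ₀u⟩ := exists_kpart K ⊤ H₀ hd₀ h₀.sup_eq_top
  obtain ⟨κ₁, hκ₁, hκ₁u⟩ := exists_kpart K ⊤ H₁ hd₁ h₁.sup_eq_top
  have crossed : ∀ (H : Subgroup G) (κ : G → G),
      (∀ u ∈ (⊤ : Subgroup G), κ u ∈ K ∧ u * (κ u)⁻¹ ∈ H) → (∀ a ∈ H, ∀ k ∈ K, κ (a * k) = k) →
      ∀ g g' : G, κ (g * g') = g'⁻¹ * κ g * g' * κ g' := by
    intro H κ hκ hκu g g'
    obtain ⟨h1, h2⟩ := hκ g (Subgroup.mem_top g)
    obtain ⟨h1', h2'⟩ := hκ g' (Subgroup.mem_top g')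
    have hc : g'⁻¹ * κ g * g' ∈ K := by
      have := hKn.conj_mem _ h1 g'⁻¹
      simpa using this
    have e : g * g' = (g * (κ g)⁻¹ * (g' * (κ g')⁻¹)) *
        (κ g' * (g'⁻¹ * κ g * g') * (κ g')⁻¹ * κ g') := by group
    have e2 : κ g' * (g'⁻¹ * κ g * g') * (κ g')⁻¹ = g'⁻¹ * κ g * g' := by
      rw [hKc _ h1' _ hc]; group
    rw [e2] at e
    rw [e]
    exact hκu _ (H.mul_mem h2 h2') _ (K.mul_mem hc h1')
  have cr₀ := crossed H₀ κ₀ hκ₀ hκ₀u
  have cr₁ := crossed H₁ κ₁ hκ₁ hκ₁u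
  let α : G →* G := MonoidHom.mk' (fun g => g * (κ₁ g)⁻¹ * κ₀ g) (by
    intro g g'
    show g * g' * (κ₁ (g * g'))⁻¹ * κ₀ (g * g') = (g * (κ₁ g)⁻¹ * κ₀ g) * (g' * (κ₁ g')⁻¹ * κ₀ g')
    rw [cr₀, cr₁]
    have hz : (κ₁ g)⁻¹ * κ₀ g ∈ K :=
      K.mul_mem (K.inv_mem (hκ₁ g (Subgroup.mem_top g)).1) (hκ₀ g (Subgroup.mem_top g)).1
    have hz' : g'⁻¹ * ((κ₁ g)⁻¹ * κ₀ g) * g' ∈ K := by
      have := hKn.conj_mem _ hz g'⁻¹
      simpa using this
    have hw : (κ₁ g')⁻¹ ∈ K := K.inv_mem (hκ₁ g' (Subgroup.mem_top g')).1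
    have e1 : g * g' * (g'⁻¹ * κ₁ g * g' * κ₁ g')⁻¹ * (g'⁻¹ * κ₀ g * g' * κ₀ g') =
        g * g' * ((κ₁ g')⁻¹ * (g'⁻¹ * ((κ₁ g)⁻¹ * κ₀ g) * g')) * κ₀ g' := by group
    rw [e1, hKc _ hw _ hz']
    group)
  have hαdef : ∀ g, α g = g * (κ₁ g)⁻¹ * κ₀ g := fun g => rfl
  have hα : ∀ g : G, α g * g⁻¹ ∈ K := by
    intro g
    have hz : (κ₁ g)⁻¹ * κ₀ g ∈ K :=
      K.mul_mem (K.inv_mem (hκ₁ g (Subgroup.mem_top g)).1) (hκ₀ g (Subgroup.mem_top g)).1
    have : α g * g⁻¹ = g * ((κ₁ g)⁻¹ * κ₀ g) * g⁻¹ := by rw [hαdef]; group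
    rw [this]
    exact hKn.conj_mem _ hz g
  have hT : ∀ u ∈ U, α u = u := by
    intro u hu
    obtain ⟨h1, h2⟩ := hκ₀ u (Subgroup.mem_top u)
    have h3 : u * (κ₀ u)⁻¹ ∈ H₀ ⊓ U := ⟨h2, U.mul_mem hu (U.inv_mem (hKU h1))⟩
    rw [hU] at h3
    have h4 : κ₁ u = κ₀ u := by
      have e : u = (u * (κ₀ u)⁻¹) * κ₀ u := by group
      conv_lhs => rw [e]
      exact hκ₁u _ h3.1 _ h1
    rw [hαdef, h4]
    group
  obtain ⟨z, hz, hzα⟩ := Cfsg.Agent.helper10.cocycle_trivial U K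
    (fun g z hz => hKn.conj_mem z hz g) hKc hcop α hα hT
  refine ⟨z, hz, ?_⟩
  intro h hh
  rw [← hzα h, hαdef]
  have h5 : κ₀ h = 1 := by
    have := hκ₀u h hh 1 K.one_mem
    rwa [mul_one] at this
  rw [h5, mul_one]
  exact (hκ₁ h (Subgroup.mem_top h)).2

end Cfsg.Agent.lead
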