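import Mathlib
import Cfsg.Agent.S0051

/-!
# Tools for nonsplit double covers of small alternating groups (helper11)
-/

namespace Cfsg.Agent.helper11.DCov2

open Equiv

/-- a group generated by `r, s` with `r^q = 1`, `s^2 = 1`, `(sr)^2 = 1` has at most `2q` elements -/
lemma card_closure_dihedral_le {H : Type*} [Group H] (r s : H) (q : ℕ) (hq : 0 < q)
    (hr : r ^ q = 1) (hs : s * s = 1) (hsr : s * r * (s * r) = 1) :
    Nat.card (Subgroup.closure ({r, s} : Set H)) ≤ 2 * q := by
  have hsinv : s⁻¹ = s := inv_eq_of_mul_eq_one_right hs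
  have hrinv : r⁻¹ = r ^ (q - 1) :=
    inv_eq_of_mul_eq_one_right (by rw [← pow_succ', Nat.sub_add_cancel hq, hr])
  have h0 : s * r * s = r⁻¹ := by
    rw [eq_inv_iff_mul_eq_one]
    simpa [mul_assoc] using hsr
  have h1 : r * s = s * r⁻¹ := by
    calc r * s = (s * s) * r * s := by rw [hs, one_mul]
      _ = s * (s * r * s) := by simp only [mul_assoc]
      _ = s * r⁻¹ := by rw [h0]
  have h2 : r⁻¹ * s = s * r := by
    calc r⁻¹ * s = r⁻¹ * (s * r⁻¹) * r := by group
      _ = r⁻¹ * (r * s) * r := by rw [h1]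
      _ = s * r := by group
  have hform : ∀ g ∈ Subgroup.closure ({r, s} : Set H), ∃ i : ℕ, g = r ^ i ∨ g = s * r ^ i := by
    intro g hg
    induction hg using Subgroup.closure_induction_left with
    | one => exact ⟨0, Or.inl (by simp)⟩
    | mul_left x hx y _ ih =>
      obtain ⟨i, hi | hi⟩ := ih
      · rcases hx with rfl | hx
        · exact ⟨i + 1, Or.inl (by rw [hi, pow_succ'])⟩
        · rw [Set.mem_singleton_iff] at hx
          exact ⟨i, Or.inr (by rw [hi, hx])⟩
      · rcases hx with rfl | hx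
        · refine ⟨q - 1 + i, Or.inr ?_⟩
          rw [hi, ← mul_assoc, h1, pow_add, ← hrinv, mul_assoc]
        · rw [Set.mem_singleton_iff] at hx
          exact ⟨i, Or.inl (by rw [hi, hx, ← mul_assoc, hs, one_mul])⟩
    | inv_mul_cancel x hx y _ ih =>
      obtain ⟨i, hi | hi⟩ := ih
      · rcases hx with rfl | hx
        · exact ⟨q - 1 + i, Or.inl (by rw [hi, pow_add, ← hrinv])⟩
        · rw [Set.mem_singleton_iff] at hx
          exact ⟨i, Or.inr (by rw [hi, hx, hsinv])⟩
      · rcases hx with rfl | hx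
        · refine ⟨i + 1, Or.inr ?_⟩
          rw [hi, ← mul_assoc, h2, pow_succ', mul_assoc]
        · rw [Set.mem_singleton_iff] at hx
          exact ⟨i, Or.inl (by rw [hi, hx, hsinv, ← mul_assoc, hs, one_mul])⟩
  have hform2 : ∀ g : Subgroup.closure ({r, s} : Set H),
      ∃ p : Fin q × Fin 2, (g : H) = s ^ (p.2 : ℕ) * r ^ (p.1 : ℕ) := by
    intro g
    obtain ⟨i, hi | hi⟩ := hform g.1 g.2
    · refine ⟨(⟨i % q, Nat.mod_lt _ hq⟩, 0), ?_⟩
      rw [hi, pow_eq_pow_mod i hr]; simp
    · refine ⟨(⟨i % q, Nat.mod_lt _ hq⟩, 1), ?_⟩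
      rw [hi, pow_eq_pow_mod i hr]; simp
  choose F hF using hform2
  have hinj : Function.Injective F := by
    intro g g' h
    apply Subtype.ext
    rw [hF g, hF g', h]
  have := Nat.card_le_card_of_injective F hinj
  rw [Nat.card_prod, Nat.card_fin, Nat.card_fin, mul_comm] at this
  exact this

/-- Gaschütz-based splitting criterion -/
lemma complement_of_small {H Q : Type*} [Group H] [Finite H] [Group Q] (ψ : H →* Q)
    (hψ : Function.Surjective ψ) (Z : Subgroup H) [Z.Normal] [IsMulCommutative Z]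
    (hker : ψ.ker = Z) (hZ : Nat.card Z = 2) (A : Subgroup H) (m : ℕ) (hA : Nat.card A ≤ m)
    (c d : Q) (hc : c ∈ A.map ψ) (hd : d ∈ A.map ψ) (hcm : 2 * orderOf c = m)
    (hdc : d ∉ Subgroup.zpowers c) (t : ℕ) (ht : Odd t) (hQ : Nat.card Q = m * t) :
    ∃ L : Subgroup H, Subgroup.IsComplement' Z L := by
  have : Finite Q := Finite.of_surjective ψ hψ
  have hle : Subgroup.zpowers c ≤ A.map ψ := Subgroup.zpowers_le.mpr hc
  have ho : 0 < orderOf c := orderOf_pos c
  have hcard1 : Nat.card (A.map ψ) ≤ Nat.card A :=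
    Nat.card_le_card_of_surjective _ (ψ.subgroupMap_surjective A)
  have hdvd : orderOf c ∣ Nat.card (A.map ψ) := by
    rw [← Nat.card_zpowers]; exact Subgroup.card_dvd_of_le hle
  have hne : Nat.card (A.map ψ) ≠ orderOf c := by
    intro h
    have := Subgroup.eq_of_le_of_card_ge hle (by rw [Nat.card_zpowers, h])
    rw [this] at hdc
    exact hdc hd
  have hpos : 0 < Nat.card (A.map ψ) := Nat.card_pos
  have hge : m ≤ Nat.card (A.map ψ) := by
    obtain ⟨k, hk⟩ := hdvd
    rw [hk] at hne hpos ⊢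
    have hk2 : 2 ≤ k := by
      rcases Nat.lt_or_ge k 2 with h | h
      · interval_cases k
        · simp at hpos
        · simp at hne
      · exact h
    calc m = 2 * orderOf c := hcm.symm
      _ ≤ k * orderOf c := Nat.mul_le_mul_right _ hk2
      _ = orderOf c * k := mul_comm _ _
  have hcardA : Nat.card (A.map ψ) = m := le_antisymm (hcard1.trans hA) hge
  have hbij : Function.Bijective (ψ.subgroupMap A) :=
    (ψ.subgroupMap_surjective A).bijective_of_nat_card_le (by rw [hcardA]; exact hA)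
  have hAZ : A ⊓ Z = ⊥ := by
    rw [eq_bot_iff]
    intro a ha
    rw [Subgroup.mem_bot]
    have ha2 : ψ a = 1 := by
      have : a ∈ ψ.ker := by rw [hker]; exact ha.2
      exact MonoidHom.mem_ker.mp this
    have h1 : ψ.subgroupMap A ⟨a, ha.1⟩ = ψ.subgroupMap A 1 := by
      apply Subtype.ext
      rw [map_one]
      exact ha2
    have := hbij.1 h1
    exact congrArg Subtype.val this
  have hU : (A.map ψ).comap ψ = Z ⊔ A := by
    rw [Subgroup.comap_map_eq, hker, sup_comm]
  have hidx : ((A.map ψ).comap ψ).index = t := by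
    rw [Subgroup.index_comap_of_surjective _ hψ]
    have h1 := Subgroup.index_mul_card (A.map ψ)
    rw [hcardA, hQ, mul_comm] at h1
    have hm : 0 < m := by rw [← hcm]; omega
    exact Nat.eq_of_mul_eq_mul_left hm h1
  refine Cfsg.Agent.S0051.result Z (Z ⊔ A) le_sup_left ?_ A le_sup_right hAZ rfl
  rw [hZ, ← hU, hidx]
  exact Nat.coprime_two_left.mpr ht

/-- the "all lifts square to one" predicate -/
def Good {H α : Type*} [Group H] (ψ : H →* Equiv.Perm α) (τ : Equiv.Perm α) : Prop :=
  ∀ g : H, ψ g = τ → g * g = 1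

lemma good_conj {H α : Type*} [Group H] (ψ : H →* Equiv.Perm α) {τ : Equiv.Perm α}
    (hτ : Good ψ τ) (k : H) : Good ψ (ψ k * τ * (ψ k)⁻¹) := by
  intro g hg
  have h1 : ψ (k⁻¹ * g * k) = τ := by
    rw [map_mul, map_mul, map_inv, hg]; group
  have h2 := hτ _ h1
  have h3 : g * g = k * ((k⁻¹ * g * k) * (k⁻¹ * g * k)) * k⁻¹ := by group
  rw [h3, h2]; group

lemma good_of_invol {H α : Type*} [Group H] (ψ : H →* Equiv.Perm α) (z : H)
    (hz : ∀ g, ψ g = 1 → g = 1 ∨ g = z) (hzc : ∀ g, g * z = z * g) (hzz : z * z = 1)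
    (x : H) (hx : x * x = 1) : Good ψ (ψ x) := by
  intro g hg
  have h1 : ψ (g * x⁻¹) = 1 := by rw [map_mul, map_inv, hg, mul_inv_cancel]
  rcases hz _ h1 with h | h
  · rw [mul_inv_eq_one] at h; rw [h]; exact hx
  · rw [mul_inv_eq_iff_eq_mul] at h
    rw [h]
    calc z * x * (z * x) = z * (x * z) * x := by simp only [mul_assoc]
      _ = z * (z * x) * x := by rw [hzc x]
      _ = (z * z) * (x * x) := by simp only [mul_assoc]
      _ = 1 := by rw [hzz, hx, one_mul]

lemma swap_conj_formula {α : Type*} [DecidableEq α] (f : Equiv.Perm α) (a b c d : α) :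
    f * (swap a b * swap c d) * f⁻¹ = swap (f a) (f b) * swap (f c) (f d) := by
  calc f * (swap a b * swap c d) * f⁻¹ = (f * swap a b) * (swap c d * f⁻¹) := by
        simp only [mul_assoc]
    _ = (swap (f a) (f b) * f) * (swap c d * f⁻¹) := by rw [Equiv.mul_swap_eq_swap_mul f a b]
    _ = swap (f a) (f b) * ((f * swap c d) * f⁻¹) := by simp only [mul_assoc]
    _ = swap (f a) (f b) * ((swap (f c) (f d) * f) * f⁻¹) := by
        rw [Equiv.mul_swap_eq_swap_mul f c d]
    _ = swap (f a) (f b) * swap (f c) (f d) := by rw [mul_assoc, mul_inv_cancel, mul_one]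

lemma good_swap {H α : Type*} [Group H] [DecidableEq α] [Fintype α] (ψ : H →* Equiv.Perm α)
    (hrange : ∀ f : Equiv.Perm α, Equiv.Perm.sign f = 1 → ∃ k, ψ k = f)
    {a b c d : α} (h : Good ψ (swap a b * swap c d)) (f : Equiv.Perm α)
    (hf : Equiv.Perm.sign f = 1) : Good ψ (swap (f a) (f b) * swap (f c) (f d)) := by
  obtain ⟨k, hk⟩ := hrange f hf
  have := good_conj ψ h k
  rwa [hk, swap_conj_formula] at this

/-- involutions of small alternating groups -/
lemma invol_form {n : ℕ} (hn : n ≤ 7) (σ : Equiv.Perm (Fin n)) (h1 : σ ≠ 1) (h2 : σ * σ = 1)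
    (h3 : Equiv.Perm.sign σ = 1) :
    ∃ a b c d : Fin n, a ≠ b ∧ a ≠ c ∧ a ≠ d ∧ b ≠ c ∧ b ≠ d ∧ c ≠ d ∧
      σ = swap a b * swap c d := by
  have ho : orderOf σ = 2 := orderOf_eq_prime (by rw [pow_two]; exact h2) h1
  obtain ⟨k, hk⟩ := Equiv.Perm.cycleType_prime_order (σ := σ) (by rw [ho]; exact Nat.prime_two)
  rw [ho] at hk
  have hsum := Equiv.Perm.sum_cycleType_le σ
  rw [hk, Multiset.sum_replicate, Fintype.card_fin, smul_eq_mul] at hsum
  have hsign := Equiv.Perm.sign_of_cycleType σ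
  rw [hk, Multiset.sum_replicate, Multiset.card_replicate, smul_eq_mul, h3] at hsign
  have hk1 : k = 1 := by
    have hk3 : k + 1 ≤ 3 := by omega
    have hkk : k = 0 ∨ k = 1 ∨ k = 2 := by omega
    rcases hkk with rfl | rfl | rfl
    · exfalso; revert hsign; decide
    · rfl
    · exfalso; revert hsign; decide
  subst hk1
  obtain ⟨l, hl0, hl1, hl2⟩ := σ.cycleFactors
  have hct := Equiv.Perm.cycleType_eq l hl0 hl1 hl2
  rw [hk] at hct
  have hlen : l.length = 2 := by
    have := congrArg Multiset.card hct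
    simpa using this.symm
  obtain ⟨x, y, rfl⟩ := List.length_eq_two.mp hlen
  have hxs : x.support.card = 2 := by
    have : (Finset.card ∘ Equiv.Perm.support) x ∈ Multiset.replicate (1 + 1) 2 := by
      rw [hct]; simp
    exact Multiset.eq_of_mem_replicate this
  have hys : y.support.card = 2 := by
    have : (Finset.card ∘ Equiv.Perm.support) y ∈ Multiset.replicate (1 + 1) 2 := by
      rw [hct]; simp
    exact Multiset.eq_of_mem_replicate this
  obtain ⟨a, b, hab, rfl⟩ := Equiv.Perm.card_support_eq_two.mp hxs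
  obtain ⟨c, d, hcd, rfl⟩ := Equiv.Perm.card_support_eq_two.mp hys
  have hdis : Equiv.Perm.Disjoint (swap a b) (swap c d) := by
    have := hl2
    simpa using this
  have hfix : ∀ p, swap a b p ≠ p → p ≠ c ∧ p ≠ d := by
    intro p hp
    rcases hdis p with h | h
    · exact absurd h hp
    · constructor
      · rintro rfl; rw [swap_apply_left] at h; exact hcd h.symm
      · rintro rfl; rw [swap_apply_right] at h; exact hcd h
  have ha := hfix a (by rw [swap_apply_left]; exact hab.symm)
  have hb := hfix b (by rw [swap_apply_right]; exact hab)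
  refine ⟨a, b, c, d, hab, ha.1, ha.2, hb.1, hb.2, hcd, ?_⟩
  rw [← hl0]; simp

end Cfsg.Agent.helper11.DCov2
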