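import Cfsg.Agent.Lib_helper11_DCovD

/-!
# Involutions in nonsplit double covers of `A_n`, `n ≤ 7` (helper11)
-/

set_option linter.unusedSimpArgs false
set_option linter.unusedVariables false

namespace Cfsg.Agent.helper11.DCov2

open Equiv

lemma klein_swap' {α : Type*} [DecidableEq α] {a b c d : α} (hab : a ≠ b) (hac : a ≠ c) (had : a ≠ d) (hbc : b ≠ c) (hbd : b ≠ d) (hcd : c ≠ d) :
    swap a d * swap b c * (swap a b * swap c d) = swap a c * swap d b := by
  refine Equiv.ext fun m => ?_
  simp only [Equiv.Perm.mul_apply]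
  by_cases h1 : m = a
  · rw [h1]; simp [Equiv.swap_apply_of_ne_of_ne, hab, hab.symm, hac, hac.symm, had, had.symm, hbc, hbc.symm, hbd, hbd.symm, hcd, hcd.symm]
  by_cases h2 : m = b
  · rw [h2]; simp [Equiv.swap_apply_of_ne_of_ne, hab, hab.symm, hac, hac.symm, had, had.symm, hbc, hbc.symm, hbd, hbd.symm, hcd, hcd.symm]
  by_cases h3 : m = c
  · rw [h3]; simp [Equiv.swap_apply_of_ne_of_ne, hab, hab.symm, hac, hac.symm, had, had.symm, hbc, hbc.symm, hbd, hbd.symm, hcd, hcd.symm]
  by_cases h4 : m = d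
  · rw [h4]; simp [Equiv.swap_apply_of_ne_of_ne, hab, hab.symm, hac, hac.symm, had, had.symm, hbc, hbc.symm, hbd, hbd.symm, hcd, hcd.symm]
  simp [Equiv.swap_apply_of_ne_of_ne, h1, h2, h3, h4]

lemma d8_sq {α : Type*} [DecidableEq α] {a b c d u v : α} (hab : a ≠ b) (hac : a ≠ c) (had : a ≠ d) (hau : a ≠ u) (hav : a ≠ v) (hbc : b ≠ c) (hbd : b ≠ d) (hbu : b ≠ u) (hbv : b ≠ v) (hcd : c ≠ d) (hcu : c ≠ u) (hcv : c ≠ v) (hdu : d ≠ u) (hdv : d ≠ v) (huv : u ≠ v) :
    (swap a b * swap u v * (swap a c * swap d b)) * (swap a b * swap u v * (swap a c * swap d b))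
      = swap a b * swap c d := by
  refine Equiv.ext fun m => ?_
  simp only [Equiv.Perm.mul_apply]
  by_cases h1 : m = a
  · rw [h1]; simp [Equiv.swap_apply_of_ne_of_ne, hab, hab.symm, hac, hac.symm, had, had.symm, hau, hau.symm, hav, hav.symm, hbc, hbc.symm, hbd, hbd.symm, hbu, hbu.symm, hbv, hbv.symm, hcd, hcd.symm, hcu, hcu.symm, hcv, hcv.symm, hdu, hdu.symm, hdv, hdv.symm, huv, huv.symm]
  by_cases h2 : m = b
  · rw [h2]; simp [Equiv.swap_apply_of_ne_of_ne, hab, hab.symm, hac, hac.symm, had, had.symm, hau, hau.symm, hav, hav.symm, hbc, hbc.symm, hbd, hbd.symm, hbu, hbu.symm, hbv, hbv.symm, hcd, hcd.symm, hcu, hcu.symm, hcv, hcv.symm, hdu, hdu.symm, hdv, hdv.symm, huv, huv.symm]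
  by_cases h3 : m = c
  · rw [h3]; simp [Equiv.swap_apply_of_ne_of_ne, hab, hab.symm, hac, hac.symm, had, had.symm, hau, hau.symm, hav, hav.symm, hbc, hbc.symm, hbd, hbd.symm, hbu, hbu.symm, hbv, hbv.symm, hcd, hcd.symm, hcu, hcu.symm, hcv, hcv.symm, hdu, hdu.symm, hdv, hdv.symm, huv, huv.symm]
  by_cases h4 : m = d
  · rw [h4]; simp [Equiv.swap_apply_of_ne_of_ne, hab, hab.symm, hac, hac.symm, had, had.symm, hau, hau.symm, hav, hav.symm, hbc, hbc.symm, hbd, hbd.symm, hbu, hbu.symm, hbv, hbv.symm, hcd, hcd.symm, hcu, hcu.symm, hcv, hcv.symm, hdu, hdu.symm, hdv, hdv.symm, huv, huv.symm]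
  by_cases h5 : m = u
  · rw [h5]; simp [Equiv.swap_apply_of_ne_of_ne, hab, hab.symm, hac, hac.symm, had, had.symm, hau, hau.symm, hav, hav.symm, hbc, hbc.symm, hbd, hbd.symm, hbu, hbu.symm, hbv, hbv.symm, hcd, hcd.symm, hcu, hcu.symm, hcv, hcv.symm, hdu, hdu.symm, hdv, hdv.symm, huv, huv.symm]
  by_cases h6 : m = v
  · rw [h6]; simp [Equiv.swap_apply_of_ne_of_ne, hab, hab.symm, hac, hac.symm, had, had.symm, hau, hau.symm, hav, hav.symm, hbc, hbc.symm, hbd, hbd.symm, hbu, hbu.symm, hbv, hbv.symm, hcd, hcd.symm, hcu, hcu.symm, hcv, hcv.symm, hdu, hdu.symm, hdv, hdv.symm, huv, huv.symm]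
  simp [Equiv.swap_apply_of_ne_of_ne, h1, h2, h3, h4, h5, h6]

lemma card_alt (n : ℕ) (h2 : 2 ≤ n) : 2 * Nat.card (alternatingGroup (Fin n)) = n.factorial := by
  have : Nontrivial (Fin n) := Fin.nontrivial_iff_two_le.mpr h2
  rw [Nat.card_eq_fintype_card, two_mul_card_alternatingGroup, Fintype.card_perm, Fintype.card_fin]

theorem invol_mem_center {H : Type*} [Group H] [Finite H] {n : ℕ} (hn : n ≤ 7)
    (hc : Nat.card (Subgroup.center H) = 2)
    (e : H ⧸ Subgroup.center H ≃* alternatingGroup (Fin n))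
    (hns : ∀ L : Subgroup H, ¬ (Subgroup.center H).IsComplement' L)
    (x : H) (hx : orderOf x = 2) : x ∈ Subgroup.center H := by
  classical
  by_contra hxZ
  obtain ⟨z0, hz0, hz0u⟩ := (Nat.card_eq_two_iff' (1 : Subgroup.center H)).mp hc
  obtain ⟨z, hz⟩ : ∃ z : H, z = z0.1 := ⟨_, rfl⟩
  have hzZ : z ∈ Subgroup.center H := hz ▸ z0.2
  have hz1 : z ≠ 1 := by
    intro h; apply hz0; apply Subtype.ext; rw [← hz, h]; rfl
  have hZel : ∀ w ∈ Subgroup.center H, w = 1 ∨ w = z := by
    intro w hw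
    by_cases h : w = 1
    · left; exact h
    · right
      have := hz0u ⟨w, hw⟩ (by intro h'; exact h (congrArg Subtype.val h'))
      rw [hz]; exact congrArg Subtype.val this
  have hzc : ∀ g : H, g * z = z * g := fun g => Subgroup.mem_center_iff.mp hzZ g
  have hzz : z * z = 1 := by
    rcases hZel (z * z) (mul_mem hzZ hzZ) with h | h
    · exact h
    · exfalso; apply hz1; simpa using h
  obtain ⟨ψ, hψ⟩ : ∃ ψ : H →* alternatingGroup (Fin n),
      ψ = e.toMonoidHom.comp (QuotientGroup.mk' (Subgroup.center H)) := ⟨_, rfl⟩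
  have hψs : Function.Surjective ψ := by
    rw [hψ]; exact e.surjective.comp (QuotientGroup.mk'_surjective _)
  have hker : ψ.ker = Subgroup.center H := by
    ext g
    rw [MonoidHom.mem_ker, hψ]
    simp
  obtain ⟨ψv, hψv⟩ : ∃ ψv : H →* Equiv.Perm (Fin n),
      ψv = (alternatingGroup (Fin n)).subtype.comp ψ := ⟨_, rfl⟩
  have hψv_apply : ∀ g, ψv g = (ψ g : Equiv.Perm (Fin n)) := by intro g; rw [hψv]; rfl
  have hkerv : ∀ g, ψv g = 1 → g = 1 ∨ g = z := by
    intro g hg
    apply hZel
    rw [← hker, MonoidHom.mem_ker]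
    apply Subtype.ext
    rw [← hψv_apply, hg]; rfl
  have hrange : ∀ f : Equiv.Perm (Fin n), Equiv.Perm.sign f = 1 → ∃ k, ψv k = f := by
    intro f hf
    obtain ⟨k, hk⟩ := hψs ⟨f, Equiv.Perm.mem_alternatingGroup.mpr hf⟩
    exact ⟨k, by rw [hψv_apply, hk]⟩
  have hsignv : ∀ g, Equiv.Perm.sign (ψv g) = 1 := by
    intro g; rw [hψv_apply]; exact Equiv.Perm.mem_alternatingGroup.mp (ψ g).2
  have hxx : x * x = 1 := by rw [← pow_two, ← hx, pow_orderOf_eq_one]
  have hσ1 : ψv x ≠ 1 := by
    intro h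
    rcases hkerv x h with h' | h'
    · rw [h', orderOf_one] at hx; omega
    · exact hxZ (h' ▸ hzZ)
  have hσ2 : ψv x * ψv x = 1 := by rw [← map_mul, hxx, map_one]
  obtain ⟨a, b, c, d, hab, hac, had, hbc, hbd, hcd, hσ⟩ :=
    invol_form hn (ψv x) hσ1 hσ2 (hsignv x)
  have hG1 : Good ψv (swap a b * swap c d) := by
    rw [← hσ]; exact good_of_invol ψv z hkerv hzc hzz x hxx
  have hsgn2 : ∀ p q r s : Fin n, p ≠ q → r ≠ s → Equiv.Perm.sign (swap p q * swap r s) = 1 := by
    intro p q r s hpq hrs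
    rw [map_mul, Equiv.Perm.sign_swap hpq, Equiv.Perm.sign_swap hrs]; rfl
  have hG3 : Good ψv (swap a d * swap b c) := by
    have h1 := good_swap ψv hrange hG1 (swap c d * swap b c) (hsgn2 _ _ _ _ hcd hbc)
    have e1 : (swap c d * swap b c) a = a := by
      simp [Equiv.swap_apply_of_ne_of_ne, hab, hac, had]
    have e2 : (swap c d * swap b c) b = d := by simp
    have e3 : (swap c d * swap b c) c = b := by
      simp [Equiv.swap_apply_of_ne_of_ne, hbc, hbd]
    have e4 : (swap c d * swap b c) d = c := by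
      simp [Equiv.swap_apply_of_ne_of_ne, hbd.symm, hcd.symm]
    rwa [e1, e2, e3, e4] at h1
  have hG2 : Good ψv (swap a c * swap d b) := by
    have h1 := good_swap ψv hrange hG1 (swap b c * swap c d) (hsgn2 _ _ _ _ hbc hcd)
    have e1 : (swap b c * swap c d) a = a := by
      simp [Equiv.swap_apply_of_ne_of_ne, hab, hac, had]
    have e2 : (swap b c * swap c d) b = c := by
      simp [Equiv.swap_apply_of_ne_of_ne, hbc, hbd]
    have e3 : (swap b c * swap c d) c = d := by
      simp [Equiv.swap_apply_of_ne_of_ne, hbd.symm, hcd.symm]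
    have e4 : (swap b c * swap c d) d = b := by simp
    rwa [e1, e2, e3, e4] at h1
  have hn4 : 4 ≤ n := by
    have h1 : ({a, b, c, d} : Finset (Fin n)).card = 4 := by
      simp [Finset.card_insert_of_notMem, hab, hac, had, hbc, hbd, hcd]
    have h2 := Finset.card_le_univ ({a, b, c, d} : Finset (Fin n))
    rw [h1, Fintype.card_fin] at h2
    exact h2
  have hcardQ := card_alt n (by omega)
  by_cases hn5 : n ≤ 5
  · -- Klein case
    obtain ⟨y, hy⟩ := hrange (swap a d * swap b c) (hsgn2 _ _ _ _ had hbc)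
    have hyy : y * y = 1 := hG3 y hy
    have hyx : y * x * (y * x) = 1 := by
      apply hG2
      rw [map_mul, hy, hσ]
      exact klein_swap' hab hac had hbc hbd hcd
    have hA := card_closure_dihedral_le x y 2 (by norm_num) (by rw [pow_two]; exact hxx) hyy hyx
    have hxA : x ∈ Subgroup.closure ({x, y} : Set H) := Subgroup.subset_closure (by simp)
    have hyA : y ∈ Subgroup.closure ({x, y} : Set H) := Subgroup.subset_closure (by simp)
    have hox : orderOf (ψ x) = 2 := by
      apply orderOf_eq_prime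
      · rw [← map_pow, pow_two, hxx, map_one]
      · intro h
        apply hσ1
        rw [hψv_apply, h]; rfl
    have hdc : ψ y ∉ Subgroup.zpowers (ψ x) := by
      intro hmem
      obtain ⟨k, hk⟩ := Subgroup.mem_zpowers_iff.mp hmem
      have hk' : (ψv x) ^ k = ψv y := by
        rw [hψv_apply, hψv_apply, ← hk]; rfl
      have hya : ψv y a = d := by
        rw [hy]; simp [Equiv.swap_apply_of_ne_of_ne, hab, hac]
      obtain ⟨j, hj | hj⟩ := Int.even_or_odd' k
      · rw [hj, zpow_mul, zpow_two, hσ2, one_zpow] at hk'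
        rw [← hk'] at hya
        exact had (by simpa using hya)
      · rw [hj, zpow_add, zpow_mul, zpow_two, hσ2, one_zpow, one_mul, zpow_one] at hk'
        rw [← hk', hσ] at hya
        have : (swap a b * swap c d) a = b := by
          simp [Equiv.swap_apply_of_ne_of_ne, hac, had]
        rw [this] at hya
        exact hbd hya
    have hcases : n = 4 ∨ n = 5 := by omega
    obtain ⟨t, ht, hQ⟩ : ∃ t, Odd t ∧ Nat.card (alternatingGroup (Fin n)) = 2 * 2 * t := by
      rcases hcases with rfl | rfl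
      · refine ⟨3, by decide, ?_⟩
        have : Nat.factorial 4 = 24 := by decide
        omega
      · refine ⟨15, by decide, ?_⟩
        have : Nat.factorial 5 = 120 := by decide
        omega
    obtain ⟨L, hL⟩ := complement_of_small ψ hψs (Subgroup.center H) hker hc
      (Subgroup.closure ({x, y} : Set H)) (2 * 2) hA (ψ x) (ψ y)
      (Subgroup.mem_map_of_mem ψ hxA) (Subgroup.mem_map_of_mem ψ hyA) (by rw [hox]) hdc t ht hQ
    exact hns L hL
  · -- dihedral case
    have hn6 : 6 ≤ n := by omega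
    have hcard2 : 1 < (Finset.univ \ ({a, b, c, d} : Finset (Fin n))).card := by
      have h1 : ({a, b, c, d} : Finset (Fin n)).card = 4 := by
        simp [Finset.card_insert_of_notMem, hab, hac, had, hbc, hbd, hcd]
      rw [Finset.card_sdiff_of_subset (Finset.subset_univ _), Finset.card_univ, Fintype.card_fin, h1]
      omega
    obtain ⟨u, hu, v, hv, huv⟩ := Finset.one_lt_card.mp hcard2
    simp only [Finset.mem_sdiff, Finset.mem_univ, true_and, Finset.mem_insert,
      Finset.mem_singleton, not_or] at hu hv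
    obtain ⟨hua, hub, huc, hud⟩ := hu
    obtain ⟨hva, hvb, hvc, hvd⟩ := hv
    have hau := Ne.symm hua
    have hbu := Ne.symm hub
    have hcu := Ne.symm huc
    have hdu := Ne.symm hud
    have hav := Ne.symm hva
    have hbv := Ne.symm hvb
    have hcv := Ne.symm hvc
    have hdv := Ne.symm hvd
    have hGs : Good ψv (swap a b * swap u v) := by
      have h1 := good_swap ψv hrange hG1 (swap c u * swap d v) (hsgn2 _ _ _ _ hcu hdv)
      have e1 : (swap c u * swap d v) a = a := by
        simp [Equiv.swap_apply_of_ne_of_ne, hac, had, hau, hav]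
      have e2 : (swap c u * swap d v) b = b := by
        simp [Equiv.swap_apply_of_ne_of_ne, hbc, hbd, hbu, hbv]
      have e3 : (swap c u * swap d v) c = u := by
        simp [Equiv.swap_apply_of_ne_of_ne, hcd, hcv]
      have e4 : (swap c u * swap d v) d = v := by
        simp [Equiv.swap_apply_of_ne_of_ne, hvc, huv.symm]
      rwa [e1, e2, e3, e4] at h1
    obtain ⟨s, hs⟩ := hrange (swap a b * swap u v) (hsgn2 _ _ _ _ hab huv)
    obtain ⟨y, hy⟩ := hrange (swap a c * swap d b) (hsgn2 _ _ _ _ hac hbd.symm)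
    obtain ⟨r, hr⟩ : ∃ r : H, r = s * y := ⟨_, rfl⟩
    have hss : s * s = 1 := hGs s hs
    have hyy : y * y = 1 := hG2 y hy
    have hsr : s * r * (s * r) = 1 := by
      have : s * r = y := by rw [hr, ← mul_assoc, hss, one_mul]
      rw [this]; exact hyy
    have hψr : ψv r = swap a b * swap u v * (swap a c * swap d b) := by
      rw [hr, map_mul, hs, hy]
    have hrr : ψv (r * r) = swap a b * swap c d := by
      rw [map_mul, hψr]
      exact d8_sq hab hac had hau hav hbc hbd hbu hbv hcd hcu hcv hdu hdv huv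
    have hr4 : r ^ 4 = 1 := by
      have := hG1 (r * r) hrr
      rw [show (4 : ℕ) = 2 * 2 from rfl, pow_mul, pow_two, pow_two]; exact this
    have hA := card_closure_dihedral_le r s 4 (by norm_num) hr4 hss hsr
    have hrA : r ∈ Subgroup.closure ({r, s} : Set H) := Subgroup.subset_closure (by simp)
    have hsA : s ∈ Subgroup.closure ({r, s} : Set H) := Subgroup.subset_closure (by simp)
    have hor : orderOf (ψ r) = 2 ^ (1 + 1) := by
      apply orderOf_eq_prime_pow
      · intro h
        have h' : ψv (r * r) = 1 := by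
          rw [hψv_apply, ← pow_two, map_pow]
          rw [pow_one] at h
          rw [h]; rfl
        rw [hrr] at h'
        have h2 := DFunLike.congr_fun h' a
        simp [Equiv.swap_apply_of_ne_of_ne, hac, had] at h2
        exact hab h2.symm
      · have h44 : (2 : ℕ) ^ (1 + 1) = 4 := by norm_num
        rw [h44, ← map_pow, hr4, map_one]
    have hdc : ψ s ∉ Subgroup.zpowers (ψ r) := by
      intro hmem
      obtain ⟨k, hk⟩ := Subgroup.mem_zpowers_iff.mp hmem
      have hcomm : ψ s * ψ r = ψ r * ψ s := by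
        rw [← hk]; exact ((Commute.refl (ψ r)).zpow_left k).eq
      have hcomm' : ψv s * ψv r = ψv r * ψv s := by
        rw [hψv_apply, hψv_apply]
        exact congrArg Subtype.val hcomm
      rw [hψr, hs] at hcomm'
      have h2 := DFunLike.congr_fun hcomm' a
      simp [Equiv.swap_apply_of_ne_of_ne, hab, hab.symm, hac, hac.symm, had, had.symm, hau, hau.symm, hav, hav.symm, hbc, hbc.symm, hbd, hbd.symm, hbu, hbu.symm, hbv, hbv.symm, hcd, hcd.symm, hcu, hcu.symm, hcv, hcv.symm, hdu, hdu.symm, hdv, hdv.symm, huv, huv.symm] at h2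
    have hcases : n = 6 ∨ n = 7 := by omega
    obtain ⟨t, ht, hQ⟩ : ∃ t, Odd t ∧ Nat.card (alternatingGroup (Fin n)) = 2 * 4 * t := by
      rcases hcases with rfl | rfl
      · refine ⟨45, by decide, ?_⟩
        have : Nat.factorial 6 = 720 := by decide
        omega
      · refine ⟨315, by decide, ?_⟩
        have : Nat.factorial 7 = 5040 := by decide
        omega
    obtain ⟨L, hL⟩ := complement_of_small ψ hψs (Subgroup.center H) hker hc
      (Subgroup.closure ({r, s} : Set H)) (2 * 4) hA (ψ r) (ψ s)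
      (Subgroup.mem_map_of_mem ψ hrA) (Subgroup.mem_map_of_mem ψ hsA) (by rw [hor]; norm_num) hdc t ht hQ
    exact hns L hL

end Cfsg.Agent.helper11.DCov2
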