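import Cfsg.Agent.Lib_helper11_DCovC
import Cfsg.Prelude.Def_SporadicB

/-!
# The explicit double cover is nonsplit; extra involutions for `n ≥ 8` (helper11)
-/

namespace Cfsg.Agent.helper11.DCov

lemma center_Gam {n : ℕ} (hn : 4 ≤ n) : Subgroup.center (Gam n) = Subgroup.zpowers (zG n) := by
  apply le_antisymm
  · intro g hg
    have h1 : phi n g ∈ Subgroup.center (alternatingGroup (Fin n)) := by
      rw [Subgroup.mem_center_iff]
      intro τ
      obtain ⟨h, rfl⟩ := phi_surj n τ
      rw [← map_mul, ← map_mul, Subgroup.mem_center_iff.mp hg h]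
    rw [alternatingGroup.center_eq_bot (by rw [Nat.card_fin]; exact hn), Subgroup.mem_bot] at h1
    rw [← ker_phi]
    exact MonoidHom.mem_ker.mpr h1
  · rw [Subgroup.zpowers_le]; exact zG_central n

lemma t_comm {n : ℕ} {i j k l p q r s : Fin n}
    (h1 : t k l * t p q = -(t p q * t k l)) (h2 : t i j * t p q = -(t p q * t i j))
    (h3 : t k l * t r s = -(t r s * t k l)) (h4 : t i j * t r s = -(t r s * t i j)) :
    t i j * t k l * (t p q * t r s) = t p q * t r s * (t i j * t k l) := by
  calc t i j * t k l * (t p q * t r s) = t i j * (t k l * t p q) * t r s := by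
        simp only [mul_assoc]
    _ = t i j * (-(t p q * t k l)) * t r s := by rw [h1]
    _ = -(t i j * t p q) * t k l * t r s := by simp only [mul_neg, neg_mul, mul_assoc]
    _ = (t p q * t i j) * t k l * t r s := by rw [h2, neg_neg]
    _ = t p q * t i j * (t k l * t r s) := by simp only [mul_assoc]
    _ = t p q * t i j * (-(t r s * t k l)) := by rw [h3]
    _ = t p q * (-(t i j * t r s)) * t k l := by simp only [mul_neg, neg_mul, mul_assoc]
    _ = t p q * (t r s * t i j) * t k l := by rw [h4, neg_neg]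
    _ = t p q * t r s * (t i j * t k l) := by simp only [mul_assoc]

theorem nonsplit_Gam {n : ℕ} (hn : 4 ≤ n) :
    Cfsg.IsNonsplitDoubleCover (Gam n) (alternatingGroup (Fin n)) := by
  have hcen := center_Gam hn
  refine ⟨?_, ⟨?_⟩, ?_⟩
  · rw [hcen, Nat.card_zpowers, orderOf_zG]
  · exact (QuotientGroup.quotientMulEquivOfEq (hcen.trans (ker_phi n).symm)).trans
      (QuotientGroup.quotientKerEquivOfSurjective (phi n) (phi_surj n))
  · intro L hL
    obtain ⟨i0, h0⟩ := exists_fin n 0 (by omega)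
    obtain ⟨i1, h1⟩ := exists_fin n 1 (by omega)
    obtain ⟨i2, h2⟩ := exists_fin n 2 (by omega)
    obtain ⟨i3, h3⟩ := exists_fin n 3 (by omega)
    have h01 : i0 ≠ i1 := fun h => by rw [h] at h0; omega
    have h02 : i0 ≠ i2 := fun h => by rw [h] at h0; omega
    have h03 : i0 ≠ i3 := fun h => by rw [h] at h0; omega
    have h12 : i1 ≠ i2 := fun h => by rw [h] at h1; omega
    have h13 : i1 ≠ i3 := fun h => by rw [h] at h1; omega
    have h23 : i2 ≠ i3 := fun h => by rw [h] at h2; omega
    obtain ⟨a, ha⟩ : ∃ a : Gam n, a = PG i0 i1 i2 i3 h01 h23 := ⟨_, rfl⟩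
    have haa : a * a = zG n := by rw [ha]; exact PG_mul_self _ _ _ _ _ _ h02 h03 h12 h13
    obtain ⟨⟨⟨c, hc⟩, ⟨l, hl⟩⟩, hcl, -⟩ := (Subgroup.isComplement_iff_existsUnique.mp hL a)
    simp only at hcl
    have hcc : c * c = 1 := by
      have h1 : phi n c = 1 := by
        have : c ∈ (phi n).ker := by rw [ker_phi, ← hcen]; exact hc
        exact MonoidHom.mem_ker.mp this
      rcases phi_eq_one c h1 with h | h
      · rw [h, one_mul]
      · rw [h]; exact zG_mul_self n
    have hz : zG n = l * l := by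
      rw [← haa, ← hcl]
      calc c * l * (c * l) = c * (l * c) * l := by simp only [mul_assoc]
        _ = c * (c * l) * l := by rw [Subgroup.mem_center_iff.mp hc l]
        _ = (c * c) * (l * l) := by simp only [mul_assoc]
        _ = l * l := by rw [hcc, one_mul]
    have hzL : zG n ∈ Subgroup.center (Gam n) ⊓ L :=
      ⟨zG_central n, by rw [hz]; exact mul_mem hl hl⟩
    rw [hL.disjoint.eq_bot, Subgroup.mem_bot] at hzL
    exact zG_ne_one n hzL

theorem two_invol_Gam {n : ℕ} (hn : 8 ≤ n) :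
    ∃ x y : Gam n, x ≠ y ∧ orderOf x = 2 ∧ orderOf y = 2 := by
  obtain ⟨i0, h0⟩ := exists_fin n 0 (by omega)
  obtain ⟨i1, h1⟩ := exists_fin n 1 (by omega)
  obtain ⟨i2, h2⟩ := exists_fin n 2 (by omega)
  obtain ⟨i3, h3⟩ := exists_fin n 3 (by omega)
  obtain ⟨i4, h4⟩ := exists_fin n 4 (by omega)
  obtain ⟨i5, h5⟩ := exists_fin n 5 (by omega)
  obtain ⟨i6, h6⟩ := exists_fin n 6 (by omega)
  obtain ⟨i7, h7⟩ := exists_fin n 7 (by omega)
  have hne : ∀ {i j : Fin n} {a b : ℕ}, i.val = a → j.val = b → a ≠ b → i ≠ j := by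
    intro i j a b hi hj hab h
    rw [h] at hi; omega
  have h01 := hne h0 h1 (by decide)
  have h02 := hne h0 h2 (by decide)
  have h03 := hne h0 h3 (by decide)
  have h12 := hne h1 h2 (by decide)
  have h13 := hne h1 h3 (by decide)
  have h23 := hne h2 h3 (by decide)
  have h45 := hne h4 h5 (by decide)
  have h46 := hne h4 h6 (by decide)
  have h47 := hne h4 h7 (by decide)
  have h56 := hne h5 h6 (by decide)
  have h57 := hne h5 h7 (by decide)
  have h67 := hne h6 h7 (by decide)
  have h04 := hne h0 h4 (by decide)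
  have h05 := hne h0 h5 (by decide)
  have h06 := hne h0 h6 (by decide)
  have h07 := hne h0 h7 (by decide)
  have h14 := hne h1 h4 (by decide)
  have h15 := hne h1 h5 (by decide)
  have h16 := hne h1 h6 (by decide)
  have h17 := hne h1 h7 (by decide)
  have h24 := hne h2 h4 (by decide)
  have h25 := hne h2 h5 (by decide)
  have h26 := hne h2 h6 (by decide)
  have h27 := hne h2 h7 (by decide)
  have h34 := hne h3 h4 (by decide)
  have h35 := hne h3 h5 (by decide)
  have h36 := hne h3 h6 (by decide)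
  have h37 := hne h3 h7 (by decide)
  obtain ⟨a, ha⟩ : ∃ a : Gam n, a = PG i0 i1 i2 i3 h01 h23 := ⟨_, rfl⟩
  obtain ⟨b, hb⟩ : ∃ b : Gam n, b = PG i4 i5 i6 i7 h45 h67 := ⟨_, rfl⟩
  have haa : a * a = zG n := by rw [ha]; exact PG_mul_self _ _ _ _ _ _ h02 h03 h12 h13
  have hbb : b * b = zG n := by rw [hb]; exact PG_mul_self _ _ _ _ _ _ h46 h47 h56 h57
  have hab : a * b = b * a := by
    rw [ha, hb]
    refine Subtype.ext (Subtype.ext (Units.ext ?_))
    change t i0 i1 * t i2 i3 * (t i4 i5 * t i6 i7) = t i4 i5 * t i6 i7 * (t i0 i1 * t i2 i3)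
    exact t_comm (t_anti h24 h25 h34 h35) (t_anti h04 h05 h14 h15)
      (t_anti h26 h27 h36 h37) (t_anti h06 h07 h16 h17)
  have hww : (a * b) * (a * b) = 1 := by
    calc a * b * (a * b) = a * (b * a) * b := by simp only [mul_assoc]
      _ = a * (a * b) * b := by rw [hab]
      _ = (a * a) * (b * b) := by simp only [mul_assoc]
      _ = 1 := by rw [haa, hbb, zG_mul_self]
  have hφw : phi n (a * b) ≠ 1 := by
    intro h
    have h1 : ((phi n (a * b) : alternatingGroup (Fin n)) : Equiv.Perm (Fin n)) i0 = i0 := by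
      rw [h]; rfl
    rw [map_mul, Subgroup.coe_mul, ha, hb, phi_PG, phi_PG] at h1
    simp [Equiv.swap_apply_of_ne_of_ne, h04, h05, h06, h07, h02, h03] at h1
    exact h01 h1.symm
  refine ⟨a * b, zG n, ?_, ?_, orderOf_zG n⟩
  · intro h
    apply hφw
    rw [h, phi_zG]
  · apply orderOf_eq_prime
    · rw [pow_two]; exact hww
    · intro h
      apply hφw
      rw [h, map_one]

end Cfsg.Agent.helper11.DCov
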