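import Mathlib

/-! Fixed-point-free automorphisms of prime order: coprime invariant subgroups centralize
invariant abelian normal subgroups (helper23). -/

set_option autoImplicit false
set_option linter.style.haveILetI false

namespace Cfsg.Agent.helper23

open scoped BigOperators

theorem mulAut_pow_fixed {Q : Type*} [Group Q] (ψ : MulAut Q) (k : ℕ) (u : Q) (h : ψ u = u) :
    (ψ ^ k) u = u := by
  induction k with
  | zero => rfl
  | succ k ih => rw [pow_succ, MulAut.mul_apply, h, ih]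

/-- powers `0 < i < r` of a fixed-point-free automorphism of prime order `r` are
fixed-point-free -/
theorem fpf_pow {Q : Type*} [Group Q] (φ : MulAut Q) (r : ℕ) (hr : r.Prime) (hφ : φ ^ r = 1)
    (hf : ∀ u, φ u = u → u = 1) (i : ℕ) (hi0 : 0 < i) (hir : i < r) :
    ∀ u, (φ ^ i) u = u → u = 1 := by
  intro u hu
  have hcop : Nat.Coprime i r := (Nat.coprime_of_lt_prime hi0.ne' hir hr).symm
  obtain ⟨j, -, hj⟩ := Nat.exists_mul_mod_eq_one_of_coprime hcop hr.one_lt
  have h1 : ((φ ^ i) ^ j) u = u := mulAut_pow_fixed _ j u hu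
  have h2 : (φ ^ i) ^ j = φ := by
    rw [← pow_mul, ← Nat.mod_add_div (i * j) r, hj, pow_add, pow_one, pow_mul, hφ, one_pow,
      mul_one]
  rw [h2] at h1
  exact hf u h1

theorem fpf_central_abstract {V Q : Type*} [CommGroup V] [Finite V] [Group Q] [Finite Q]
    (ρ : Q →* MulAut V) (φV : MulAut V) (φQ : MulAut Q)
    (hcompat : ∀ u v, φV (ρ u v) = ρ (φQ u) (φV v))
    (r : ℕ) (hr : r.Prime) (hφV : φV ^ r = 1) (hφQ : φQ ^ r = 1)
    (hfV : ∀ v, φV v = v → v = 1) (hfQ : ∀ u, φQ u = u → u = 1)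
    (hcop : (Nat.card Q).Coprime (Nat.card V)) : ∀ u v, ρ u v = v := by
  classical
  haveI : Fintype Q := Fintype.ofFinite Q
  -- compat for powers
  have hcompat' : ∀ (i : ℕ) u v, (φV ^ i) (ρ u v) = ρ ((φQ ^ i) u) ((φV ^ i) v) := by
    intro i
    induction i with
    | zero => intro u v; rfl
    | succ i ih =>
      intro u v
      rw [pow_succ', pow_succ', MulAut.mul_apply, MulAut.mul_apply, MulAut.mul_apply, ih, hcompat]
  -- norm on V
  have hsurjV : Function.Surjective (fun x : V => x⁻¹ * φV x) := by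
    apply Finite.surjective_of_injective
    intro x y hxy
    have h1 : φV (x * y⁻¹) = x * y⁻¹ := by
      have h2 : x⁻¹ * φV x = y⁻¹ * φV y := hxy
      rw [map_mul, map_inv]
      have h3 : φV x = x * (y⁻¹ * φV y) := by rw [← h2, mul_inv_cancel_left]
      rw [h3, mul_assoc, mul_assoc, mul_inv_cancel, mul_one]
    have h4 := hfV _ h1
    exact mul_inv_eq_one.mp h4
  have hnorm : ∀ v : V, ∏ i ∈ Finset.range r, (φV ^ i) v = 1 := by
    intro v
    obtain ⟨x, hx⟩ := hsurjV v
    have h1 : ∀ i, (φV ^ i) v = (φV ^ (i + 1)) x / (φV ^ i) x := by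
      intro i
      have h0 : x⁻¹ * φV x = v := hx
      rw [← h0, map_mul, map_inv, ← MulAut.mul_apply, ← pow_succ, inv_mul_eq_div]
    rw [Finset.prod_congr rfl (fun i _ => h1 i),
      Finset.prod_range_div (fun i => (φV ^ i) x) r, hφV]
    simp
  -- step c
  have hc : ∀ (w : Q) (v : V),
      ∏ i ∈ Finset.range r, ρ (w⁻¹ * (φQ ^ i) w) ((φV ^ i) v) = 1 := by
    intro w v
    have h1 : ∀ i, ρ (w⁻¹ * (φQ ^ i) w) ((φV ^ i) v) = ρ w⁻¹ ((φV ^ i) (ρ w v)) := by
      intro i
      rw [hcompat', map_mul, MulAut.mul_apply]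
    rw [Finset.prod_congr rfl (fun i _ => h1 i), ← map_prod, hnorm, map_one]
  -- the norm over Q
  let N : V → V := fun x => ∏ u : Q, ρ u x
  have hN : ∀ (t : Q) (x : V), ρ t (N x) = N x := by
    intro t x
    show ρ t (∏ u : Q, ρ u x) = ∏ u : Q, ρ u x
    rw [map_prod]
    have h1 : ∀ u : Q, ρ t (ρ u x) = ρ (t * u) x := fun u => by
      rw [map_mul, MulAut.mul_apply]
    rw [Finset.prod_congr rfl (fun u _ => h1 u)]
    exact Equiv.prod_comp (Equiv.mulLeft t) (fun u => ρ u x)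
  have hbij : ∀ i, 0 < i → i < r → Function.Bijective (fun w : Q => w⁻¹ * (φQ ^ i) w) := by
    intro i hi0 hir
    rw [← Finite.injective_iff_bijective]
    intro w z hwz
    have h2 : w⁻¹ * (φQ ^ i) w = z⁻¹ * (φQ ^ i) z := hwz
    have h1 : (φQ ^ i) (z * w⁻¹) = z * w⁻¹ := by
      rw [map_mul, map_inv]
      have h3 : (φQ ^ i) z = z * (w⁻¹ * (φQ ^ i) w) := by rw [h2, mul_inv_cancel_left]
      rw [h3, mul_assoc, mul_assoc, mul_inv_cancel, mul_one]
    have h4 := fpf_pow φQ r hr hφQ hfQ i hi0 hir _ h1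
    exact (mul_inv_eq_one.mp h4).symm
  -- main identity
  have hmain : ∀ v : V, v ^ Nat.card Q * ∏ i ∈ Finset.range (r - 1), N ((φV ^ (i + 1)) v) = 1 := by
    intro v
    have h1 : ∏ w : Q, ∏ i ∈ Finset.range r, ρ (w⁻¹ * (φQ ^ i) w) ((φV ^ i) v) = 1 := by
      rw [Finset.prod_congr rfl (fun w _ => hc w v)]
      simp
    rw [Finset.prod_comm] at h1
    have hr1 : r = (r - 1) + 1 := by have := hr.one_lt; omega
    rw [hr1, Finset.prod_range_succ'] at h1
    have h2 : ∏ w : Q, ρ (w⁻¹ * (φQ ^ 0) w) ((φV ^ 0) v) = v ^ Nat.card Q := by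
      have : ∀ w : Q, ρ (w⁻¹ * (φQ ^ 0) w) ((φV ^ 0) v) = v := by
        intro w
        rw [pow_zero, pow_zero, MulAut.one_apply, MulAut.one_apply, inv_mul_cancel, map_one,
          MulAut.one_apply]
      rw [Finset.prod_congr rfl (fun w _ => this w), Finset.prod_const, Finset.card_univ,
        Nat.card_eq_fintype_card]
    have h3 : ∀ i ∈ Finset.range (r - 1),
        ∏ w : Q, ρ (w⁻¹ * (φQ ^ (i + 1)) w) ((φV ^ (i + 1)) v) = N ((φV ^ (i + 1)) v) := by
      intro i hi
      rw [Finset.mem_range] at hi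
      exact (hbij (i + 1) (Nat.succ_pos i) (by omega)).prod_comp
        (fun u => ρ u ((φV ^ (i + 1)) v))
    rw [h2, Finset.prod_congr rfl h3, mul_comm] at h1
    exact h1
  intro t v
  have h1 := hmain v
  have h2 : ρ t (v ^ Nat.card Q) = v ^ Nat.card Q := by
    have h3 : v ^ Nat.card Q = (∏ i ∈ Finset.range (r - 1), N ((φV ^ (i + 1)) v))⁻¹ :=
      eq_inv_of_mul_eq_one_left h1
    rw [h3, map_inv, map_prod]
    congr 1
    exact Finset.prod_congr rfl (fun i _ => hN t _)
  have h4 : (ρ t v / v) ^ Nat.card Q = 1 := by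
    rw [div_pow, ← map_pow, h2, div_self']
  have h5 : orderOf (ρ t v / v) ∣ Nat.gcd (Nat.card Q) (Nat.card V) :=
    Nat.dvd_gcd (orderOf_dvd_of_pow_eq_one h4) (orderOf_dvd_natCard _)
  rw [hcop] at h5
  have h6 : ρ t v / v = 1 := orderOf_eq_one_iff.mp (Nat.dvd_one.mp h5)
  exact div_eq_one.mp h6

end Cfsg.Agent.helper23
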