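import Cfsg.Statements.S0031
import Mathlib

set_option autoImplicit false
set_option linter.style.haveILetI false
set_option linter.unusedVariables false
open Cfsg

namespace Cfsg.Agent.S0031

/-- A fixed-point-free automorphism of a finite group maps some Sylow p-subgroup to itself. -/
theorem result {G : Type*} [Group G] [Finite G] (φ : G ≃* G)
    (hφ : MonoidHom.FixedPointFree (φ : G →* G)) (p : ℕ) [Fact p.Prime] :
    ∃ P : Sylow p G, (P : Subgroup G).map (φ : G →* G) = P := by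
  obtain ⟨P0⟩ := (inferInstance : Nonempty (Sylow p G))
  have hsurj : Function.Surjective (φ : G →* G) := φ.surjective
  let P1 : Sylow p G := P0.mapSurjective hsurj
  obtain ⟨g, hg⟩ := MulAction.exists_smul_eq G P0 P1
  obtain ⟨x, hx⟩ := hφ.commutatorMap_surjective g⁻¹
  have hx' : x * (φ x)⁻¹ = g⁻¹ := by
    have : MonoidHom.commutatorMap (φ : G →* G) x = x / φ x := rfl
    rw [← hx, this, div_eq_mul_inv]
  have hP1 : ∀ y, y ∈ (P1 : Subgroup G) ↔ g⁻¹ * y * g ∈ (P0 : Subgroup G) := by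
    intro y
    rw [← hg, Sylow.coe_subgroup_smul, Subgroup.mem_pointwise_smul_iff_inv_smul_mem]
    simp [MulAut.smul_def]
  have hP1' : ∀ z, φ z ∈ (P1 : Subgroup G) ↔ z ∈ (P0 : Subgroup G) := by
    intro z
    change φ z ∈ (P0 : Subgroup G).map (φ : G →* G) ↔ _
    rw [Subgroup.mem_map]
    constructor
    · rintro ⟨w, hw, hwz⟩
      have : w = z := φ.injective hwz
      rwa [← this]
    · intro hz
      exact ⟨z, hz, rfl⟩
  refine ⟨x⁻¹ • P0, ?_⟩
  ext y
  rw [Subgroup.mem_map]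
  have hmem : ∀ w, w ∈ ((x⁻¹ • P0 : Sylow p G) : Subgroup G) ↔ x * w * x⁻¹ ∈ (P0 : Subgroup G) := by
    intro w
    rw [Sylow.coe_subgroup_smul, Subgroup.mem_pointwise_smul_iff_inv_smul_mem]
    simp [MulAut.smul_def]
  have key : ∀ z, (x * z * x⁻¹ ∈ (P0 : Subgroup G) ↔ x * (φ z) * x⁻¹ ∈ (P0 : Subgroup G)) := by
    intro z
    rw [← hP1' (x * z * x⁻¹), hP1]
    have : g⁻¹ * φ (x * z * x⁻¹) * g = x * (φ z) * x⁻¹ := by
      have hg' : g = φ x * x⁻¹ := by
        have := congrArg (·⁻¹) hx'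
        simpa using this.symm
      rw [← hx', map_mul, map_mul, map_inv, hg']
      group
    rw [this]
  constructor
  · rintro ⟨z, hz, rfl⟩
    rw [hmem] at hz ⊢
    exact (key z).mp hz
  · intro hy
    obtain ⟨z, rfl⟩ := φ.surjective y
    refine ⟨z, ?_, rfl⟩
    rw [hmem] at hy ⊢
    exact (key z).mpr hy

end Cfsg.Agent.S0031
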