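import Mathlib
import Cfsg.Agent.Lib_helper23_FpfPrime
import Cfsg.Agent.S0031
import Cfsg.Agent.S0032
import Cfsg.Agent.Lib_helper1_PCenter

/-! Fixed-point-free automorphisms of prime order: restriction, quotients, and the solvable case
(helper23). -/

set_option autoImplicit false
set_option linter.style.haveILetI false

namespace Cfsg.Agent.helper23

section res

variable {G : Type*} [Group G]

/-- restriction of an automorphism to a finite invariant subgroup -/
noncomputable def resAut (φ : MulAut G) (U : Subgroup G) [Finite U] (hU : ∀ u ∈ U, φ u ∈ U) :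
    MulAut ↥U :=
  MulEquiv.ofBijective ((φ.toMonoidHom.comp U.subtype).codRestrict U (fun u => hU u u.2)) (by
    rw [← Finite.injective_iff_bijective]
    intro a b h
    apply Subtype.ext
    apply φ.injective
    exact congrArg Subtype.val h)

theorem resAut_apply (φ : MulAut G) (U : Subgroup G) [Finite U] (hU : ∀ u ∈ U, φ u ∈ U)
    (u : U) : ((resAut φ U hU u : ↥U) : G) = φ u := rfl

theorem resAut_pow_apply (φ : MulAut G) (U : Subgroup G) [Finite U] (hU : ∀ u ∈ U, φ u ∈ U)
    (k : ℕ) (u : U) : ((((resAut φ U hU) ^ k) u : ↥U) : G) = (φ ^ k) u := by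
  induction k generalizing u with
  | zero => rfl
  | succ k ih =>
    rw [pow_succ, pow_succ, MulAut.mul_apply, MulAut.mul_apply, ih, resAut_apply]

theorem resAut_pow_eq_one (φ : MulAut G) (U : Subgroup G) [Finite U] (hU : ∀ u ∈ U, φ u ∈ U)
    (r : ℕ) (h : φ ^ r = 1) : (resAut φ U hU) ^ r = 1 := by
  ext u
  rw [resAut_pow_apply, h]
  rfl

theorem resAut_fpf (φ : MulAut G) (U : Subgroup G) [Finite U] (hU : ∀ u ∈ U, φ u ∈ U)
    (hf : ∀ g, φ g = g → g = 1) : ∀ u, resAut φ U hU u = u → u = 1 := by
  intro u hu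
  apply Subtype.ext
  apply hf
  have := congrArg Subtype.val hu
  rwa [resAut_apply] at this

theorem map_eq_of_invariant [Finite G] (φ : MulAut G) (U : Subgroup G)
    (hU : ∀ u ∈ U, φ u ∈ U) : U.map φ.toMonoidHom = U := by
  apply Subgroup.eq_of_le_of_card_ge
  · rintro _ ⟨u, hu, rfl⟩
    exact hU u hu
  · exact (Subgroup.card_map_of_injective φ.injective).ge

/-- the induced automorphism on a quotient by an invariant normal subgroup -/
noncomputable def quotAut [Finite G] (φ : MulAut G) (N : Subgroup G) [N.Normal]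
    (hN : ∀ n ∈ N, φ n ∈ N) : MulAut (G ⧸ N) :=
  QuotientGroup.congr N N φ (map_eq_of_invariant φ N hN)

theorem quotAut_mk [Finite G] (φ : MulAut G) (N : Subgroup G) [N.Normal]
    (hN : ∀ n ∈ N, φ n ∈ N) (x : G) :
    quotAut φ N hN (QuotientGroup.mk x) = QuotientGroup.mk (φ x) := rfl

theorem quotAut_pow_mk [Finite G] (φ : MulAut G) (N : Subgroup G) [N.Normal]
    (hN : ∀ n ∈ N, φ n ∈ N) (k : ℕ) (x : G) :
    ((quotAut φ N hN) ^ k) (QuotientGroup.mk x) = QuotientGroup.mk ((φ ^ k) x) := by
  induction k generalizing x with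
  | zero => rfl
  | succ k ih =>
    rw [pow_succ, pow_succ, MulAut.mul_apply, MulAut.mul_apply, quotAut_mk, ih]

theorem quotAut_pow_eq_one [Finite G] (φ : MulAut G) (N : Subgroup G) [N.Normal]
    (hN : ∀ n ∈ N, φ n ∈ N) (r : ℕ) (h : φ ^ r = 1) : (quotAut φ N hN) ^ r = 1 := by
  ext y
  induction y using QuotientGroup.induction_on with
  | H x => rw [quotAut_pow_mk, h]; rfl

theorem quotAut_fpf [Finite G] (φ : MulAut G) (N : Subgroup G) [N.Normal]
    (hN : ∀ n ∈ N, φ n ∈ N) (hf : ∀ g, φ g = g → g = 1) :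
    ∀ y, quotAut φ N hN y = y → y = 1 := by
  intro y hy
  induction y using QuotientGroup.induction_on with
  | H x =>
    rw [quotAut_mk, QuotientGroup.eq] at hy
    have h1 : x ∈ N := Cfsg.Agent.S0032.result φ hf N hN x hy
    exact (QuotientGroup.eq_one_iff x).mpr h1

end res

section central

variable {G : Type*} [Group G] [Finite G]

/-- a `φ`-invariant subgroup of order prime to a `φ`-invariant abelian normal subgroup `V`
centralizes `V`, for `φ` fixed-point-free of prime order -/
theorem fpf_centralizes (φ : MulAut G) (hf : ∀ g, φ g = g → g = 1) (r : ℕ) (hr : r.Prime)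
    (hφr : φ ^ r = 1) (V : Subgroup G) [hVn : V.Normal] (hVc : ∀ a ∈ V, ∀ b ∈ V, a * b = b * a)
    (hVφ : ∀ v ∈ V, φ v ∈ V) (Q : Subgroup G) (hQφ : ∀ u ∈ Q, φ u ∈ Q)
    (hcop : (Nat.card Q).Coprime (Nat.card V)) : Q ≤ Subgroup.centralizer (V : Set G) := by
  have key := @fpf_central_abstract ↥V ↥Q
    { (inferInstance : Group V) with mul_comm := fun a b => Subtype.ext (hVc a a.2 b b.2) }
    inferInstance inferInstance inferInstance
    ((MulAut.conjNormal (H := V)).comp Q.subtype) (resAut φ V hVφ) (resAut φ Q hQφ)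
    (by
      intro u v
      apply Subtype.ext
      simp only [resAut_apply, MonoidHom.comp_apply, Subgroup.subtype_apply,
        MulAut.conjNormal_apply, map_mul, map_inv])
    r hr (resAut_pow_eq_one φ V hVφ r hφr) (resAut_pow_eq_one φ Q hQφ r hφr)
    (resAut_fpf φ V hVφ hf) (resAut_fpf φ Q hQφ hf) hcop
  intro u hu
  rw [Subgroup.mem_centralizer_iff]
  intro v hv
  have h1 := congrArg Subtype.val (key ⟨u, hu⟩ ⟨v, hv⟩)
  simp only [MonoidHom.comp_apply, Subgroup.subtype_apply, MulAut.conjNormal_apply] at h1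
  calc v * u = (u * v * u⁻¹) * u := by rw [h1]
    _ = u * v := by rw [inv_mul_cancel_right]

end central

end Cfsg.Agent.helper23
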