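import Mathlib
import Cfsg.Agent.Lib_helper23_FpfPrime2
import Cfsg.Agent.Lib_helper23_ThompsonJZ
import Cfsg.Agent.Lib_helper23_Carter
import Cfsg.Agent.Lib_helper20_Hyper
import Cfsg.Agent.Lib_helper10_NPC
import Cfsg.Agent.Lib_helper10_Sec1
import Cfsg.Agent.Lib_helper3_ThompsonOf
import Cfsg.Agent.Lib_helper19_PGroup
import Cfsg.Agent.S0108
import Cfsg.Agent.S0086

/-! Thompson's theorem: a finite group with a fixed-point-free automorphism of prime order is
nilpotent (helper23). -/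

set_option autoImplicit false
set_option linter.style.haveILetI false

namespace Cfsg.Agent.helper23

universe u

section npc

theorem npc_of_nilpotent {K : Type*} [Group K] [Finite K] (hK : Group.IsNilpotent K) (p : ℕ)
    [Fact p.Prime] : Cfsg.HasNormalPComplement p K := by
  apply Cfsg.Agent.helper10.npc_of_frobCond
  intro Q hQ g _ hcop
  rw [Subgroup.mem_centralizer_iff]
  intro a ha
  obtain ⟨b, hb⟩ := (IsPGroup.iff_orderOf.mp hQ) ⟨a, ha⟩
  rw [Subgroup.orderOf_mk] at hb
  exact Cfsg.Agent.helper20.commute_of_coprime_order p a g b hb hcop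

theorem solvable_of_normal_of_quot {G : Type*} [Group G] (N : Subgroup G) [N.Normal]
    (hN : Group.IsSolvable N) (hq : Group.IsSolvable (G ⧸ N)) : Group.IsSolvable G := by
  apply Group.isSolvable_of_ker_le_range N.subtype (QuotientGroup.mk' N)
  rw [QuotientGroup.ker_mk', Subgroup.range_subtype]

end npc

section inv

variable {G : Type*} [Group G] [Finite G]

theorem invariant_preimage (φ : MulAut G) (U : Subgroup G) (hU : ∀ u ∈ U, φ u ∈ U) :
    ∀ y ∈ U, ∃ x ∈ U, φ x = y := by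
  intro y hy
  rw [← map_eq_of_invariant φ U hU] at hy
  obtain ⟨x, hx, hxy⟩ := hy
  exact ⟨x, hx, hxy⟩

theorem invariant_of_image_mem (φ : MulAut G) (U : Subgroup G) (hU : ∀ u ∈ U, φ u ∈ U) :
    ∀ x, φ x ∈ U → x ∈ U := by
  intro x hx
  obtain ⟨y, hy, hyx⟩ := invariant_preimage φ U hU _ hx
  have : y = x := φ.injective hyx
  rwa [← this]

theorem normalizer_invariant (φ : MulAut G) (J : Subgroup G) (hJ : ∀ u ∈ J, φ u ∈ J) :
    ∀ g ∈ Subgroup.normalizer (J : Set G), φ g ∈ Subgroup.normalizer (J : Set G) := by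
  intro g hg
  rw [Subgroup.mem_normalizer_iff] at hg ⊢
  intro h
  obtain ⟨h', rfl⟩ := φ.surjective h
  have e : φ g * φ h' * (φ g)⁻¹ = φ (g * h' * g⁻¹) := by
    rw [map_mul, map_mul, map_inv]
  rw [e]
  constructor
  · intro hh
    exact hJ _ ((hg h').mp (invariant_of_image_mem φ J hJ _ hh))
  · intro hh
    exact hJ _ ((hg h').mpr (invariant_of_image_mem φ J hJ _ hh))

theorem centralizer_invariant (φ : MulAut G) (Z : Subgroup G) (hZ : ∀ u ∈ Z, φ u ∈ Z) :
    ∀ g ∈ Subgroup.centralizer (Z : Set G), φ g ∈ Subgroup.centralizer (Z : Set G) := by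
  intro g hg
  rw [Subgroup.mem_centralizer_iff] at hg ⊢
  intro z hz
  obtain ⟨z', hz', rfl⟩ := invariant_preimage φ Z hZ z hz
  rw [← map_mul, ← map_mul, hg z' hz']

theorem center_invariant (φ : MulAut G) : ∀ z ∈ Subgroup.center G, φ z ∈ Subgroup.center G := by
  intro z hz
  rw [Subgroup.mem_center_iff] at hz ⊢
  intro g
  obtain ⟨g', rfl⟩ := φ.surjective g
  rw [← map_mul, ← map_mul, hz g']

end inv

section center

variable {G : Type*} [Group G] [Finite G]

theorem center_ne_bot_of_solvable_fpf [Nontrivial G] (hs : Group.IsSolvable G) (φ : MulAut G)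
    (hf : ∀ g, φ g = g → g = 1) (r : ℕ) (hr : r.Prime) (hφr : φ ^ r = 1) :
    Subgroup.center G ≠ ⊥ := by
  classical
  have hex : ∃ n, derivedSeries G n = ⊥ := hs.solvable
  have hm1 : derivedSeries G (Nat.find hex) = ⊥ := Nat.find_spec hex
  have hm0 : Nat.find hex ≠ 0 := by
    intro h0
    rw [h0, derivedSeries_zero] at hm1
    obtain ⟨x, hx⟩ := exists_ne (1 : G)
    have hxt : x ∈ (⊤ : Subgroup G) := Subgroup.mem_top x
    rw [hm1] at hxt
    exact hx (Subgroup.mem_bot.mp hxt)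
  obtain ⟨k, hk⟩ := Nat.exists_eq_succ_of_ne_zero hm0
  obtain ⟨A, hAdef⟩ : ∃ A : Subgroup G, A = derivedSeries G k := ⟨_, rfl⟩
  have hAne : A ≠ ⊥ := by
    rw [hAdef]
    exact Nat.find_min hex (by rw [hk]; exact Nat.lt_succ_self k)
  have hAn : A.Normal := by rw [hAdef]; exact derivedSeries_normal G k
  have hAc : ∀ a ∈ A, ∀ b ∈ A, a * b = b * a := by
    have h1 : ⁅A, A⁆ = ⊥ := by
      rw [hAdef, ← derivedSeries_succ, ← Nat.succ_eq_add_one, ← hk]
      exact hm1
    have h2 := Subgroup.commutator_eq_bot_iff_le_centralizer.mp h1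
    intro a ha b hb
    exact (Subgroup.mem_centralizer_iff.mp (h2 ha) b hb).symm
  have hAφ : ∀ a ∈ A, φ a ∈ A := by
    intro a ha
    have hch : A.Characteristic := by rw [hAdef]; infer_instance
    exact (Subgroup.characteristic_iff_map_le.mp hch φ) (Subgroup.mem_map_of_mem _ ha)
  -- the prime q
  have hcA : Nat.card A ≠ 1 := by
    intro h
    exact hAne (Subgroup.card_eq_one.mp h)
  have hq : (Nat.card A).minFac.Prime := Nat.minFac_prime hcA
  obtain ⟨q, hqdef⟩ : ∃ q, q = (Nat.card A).minFac := ⟨_, rfl⟩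
  rw [← hqdef] at hq
  haveI hqf : Fact q.Prime := ⟨hq⟩
  have hqA : q ∣ Nat.card A := by rw [hqdef]; exact Nat.minFac_dvd _
  -- the subgroup V = Ω₁(A)
  let V : Subgroup G :=
    { carrier := {a | a ∈ A ∧ a ^ q = 1}
      one_mem' := ⟨A.one_mem, one_pow q⟩
      mul_mem' := by
        rintro a b ⟨ha, ha1⟩ ⟨hb, hb1⟩
        refine ⟨A.mul_mem ha hb, ?_⟩
        have hc : Commute a b := hAc a ha b hb
        rw [hc.mul_pow, ha1, hb1, one_mul]
      inv_mem' := by
        rintro a ⟨ha, ha1⟩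
        exact ⟨A.inv_mem ha, by rw [inv_pow, ha1, inv_one]⟩ }
  have hVmem : ∀ a, a ∈ V ↔ a ∈ A ∧ a ^ q = 1 := fun a => Iff.rfl
  have hVA : V ≤ A := fun a ha => ((hVmem a).mp ha).1
  haveI hVn : V.Normal := by
    constructor
    intro a ha g
    rw [hVmem] at ha ⊢
    refine ⟨hAn.conj_mem a ha.1 g, ?_⟩
    rw [conj_pow, ha.2, mul_one, mul_inv_cancel]
  have hVφ : ∀ v ∈ V, φ v ∈ V := by
    intro v hv
    rw [hVmem] at hv ⊢
    refine ⟨hAφ v hv.1, ?_⟩
    rw [← map_pow, hv.2, map_one]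
  have hVc : ∀ a ∈ V, ∀ b ∈ V, a * b = b * a := fun a ha b hb => hAc a (hVA ha) b (hVA hb)
  have hVp : IsPGroup q V := by
    intro v
    refine ⟨1, ?_⟩
    apply Subtype.ext
    rw [pow_one, Subgroup.coe_pow, Subgroup.coe_one]
    exact ((hVmem v).mp v.2).2
  obtain ⟨x0, hx0V, hx01⟩ : ∃ x ∈ V, x ≠ 1 := by
    obtain ⟨x, hx⟩ := exists_prime_orderOf_dvd_card' (G := A) q hqA
    refine ⟨(x : G), ?_, ?_⟩
    · rw [hVmem]
      refine ⟨x.2, ?_⟩
      have : x ^ q = 1 := by rw [← hx]; exact pow_orderOf_eq_one x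
      have h2 := congrArg Subtype.val this
      rwa [Subgroup.coe_pow, Subgroup.coe_one] at h2
    · intro h1
      have : x = 1 := Subtype.ext h1
      rw [this, orderOf_one] at hx
      exact hq.one_lt.ne hx
  obtain ⟨j, hj⟩ := IsPGroup.iff_card.mp hVp
  -- invariant Sylow subgroups
  have hsyl : ∀ s : ℕ, ∀ hs : s.Prime, ∃ P : Sylow s G, ∀ u ∈ (P : Subgroup G), φ u ∈ (P : Subgroup G) := by
    intro s hs
    haveI : Fact s.Prime := ⟨hs⟩
    obtain ⟨P, hP⟩ := Cfsg.Agent.S0031.result φ hf s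
    refine ⟨P, ?_⟩
    intro u hu
    have : φ u ∈ (P : Subgroup G).map (φ : G →* G) := Subgroup.mem_map_of_mem _ hu
    rwa [hP] at this
  obtain ⟨Pq, hPq⟩ := hsyl q hq
  have hVPq : V ≤ (Pq : Subgroup G) := hVp.le_sylow_of_normal Pq
  -- a central element of `Pq` inside `V`
  have hMne : V.subgroupOf (Pq : Subgroup G) ≠ ⊥ := by
    intro hbot
    have h1 : (⟨x0, hVPq hx0V⟩ : (Pq : Subgroup G)) ∈ V.subgroupOf (Pq : Subgroup G) := by
      rw [Subgroup.mem_subgroupOf]
      exact hx0V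
    rw [hbot, Subgroup.mem_bot] at h1
    exact hx01 (congrArg Subtype.val h1)
  obtain ⟨z', hz'M, hz'c, hz'1⟩ :=
    Cfsg.Agent.helper1.exists_central_of_normal_ne_bot Pq.isPGroup'
      (V.subgroupOf (Pq : Subgroup G)) hMne
  have hzV : (z' : G) ∈ V := Subgroup.mem_subgroupOf.mp hz'M
  have hz1 : (z' : G) ≠ 1 := by
    intro h
    exact hz'1 (Subtype.ext h)
  have hzPq : ∀ g ∈ (Pq : Subgroup G), g * (z' : G) = (z' : G) * g := by
    intro g hg
    have := Subgroup.mem_center_iff.mp hz'c ⟨g, hg⟩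
    exact congrArg Subtype.val this
  -- the centralizer of z has index 1
  have hCall : ∀ s : ℕ, s.Prime → ¬ s ∣ (Subgroup.centralizer ({(z' : G)} : Set G)).index := by
    intro s hs
    haveI : Fact s.Prime := ⟨hs⟩
    by_cases hsq : s = q
    · subst hsq
      have hle : (Pq : Subgroup G) ≤ Subgroup.centralizer ({(z' : G)} : Set G) := by
        intro g hg
        rw [Subgroup.mem_centralizer_iff]
        intro h hh
        rw [Set.mem_singleton_iff] at hh
        rw [hh]
        exact (hzPq g hg).symm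
      intro hdvd
      exact Pq.not_dvd_index (dvd_trans hdvd (Subgroup.index_dvd_of_le hle))
    · obtain ⟨Ps, hPs⟩ := hsyl s hs
      obtain ⟨i, hi⟩ := IsPGroup.iff_card.mp Ps.isPGroup'
      have hcop : (Nat.card (Ps : Subgroup G)).Coprime (Nat.card V) := by
        rw [hi, hj]
        exact Nat.Coprime.pow _ _ ((Nat.coprime_primes hs hq).mpr hsq)
      have hcen := fpf_centralizes φ hf r hr hφr V hVc hVφ (Ps : Subgroup G) hPs hcop
      have hle : (Ps : Subgroup G) ≤ Subgroup.centralizer ({(z' : G)} : Set G) := by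
        intro g hg
        rw [Subgroup.mem_centralizer_iff]
        intro h hh
        rw [Set.mem_singleton_iff] at hh
        rw [hh]
        exact Subgroup.mem_centralizer_iff.mp (hcen hg) _ hzV
      intro hdvd
      exact Ps.not_dvd_index (dvd_trans hdvd (Subgroup.index_dvd_of_le hle))
  have hCtop : Subgroup.centralizer ({(z' : G)} : Set G) = ⊤ := by
    rw [← Subgroup.index_eq_one]
    by_contra hne
    obtain ⟨s, hs, hsd⟩ := Nat.exists_prime_and_dvd hne
    exact hCall s hs hsd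
  have hzc : (z' : G) ∈ Subgroup.center G := by
    rw [Subgroup.mem_center_iff]
    intro g
    have hg : g ∈ Subgroup.centralizer ({(z' : G)} : Set G) := by rw [hCtop]; exact Subgroup.mem_top g
    exact (Subgroup.mem_centralizer_iff.mp hg _ (Set.mem_singleton _)).symm
  intro hbot
  rw [hbot, Subgroup.mem_bot] at hzc
  exact hz1 hzc

end center

end Cfsg.Agent.helper23
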