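import Mathlib
import Cfsg.Agent.Lib_helper23_FpfPrime3

/-! Thompson's theorem: a finite group with a fixed-point-free automorphism of prime order is
nilpotent: the induction (helper23). -/

set_option autoImplicit false
set_option linter.style.haveILetI false

namespace Cfsg.Agent.helper23

universe u

section solv

variable {G : Type u} [Group G] [Finite G]

theorem fpf_solvable_of_IH (φ : MulAut G) (hf : ∀ g, φ g = g → g = 1)
    (IHsub : ∀ U : Subgroup G, (∀ u ∈ U, φ u ∈ U) → U ≠ ⊤ → Group.IsNilpotent U)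
    (IHquot : ∀ (N : Subgroup G) [N.Normal], (∀ u ∈ N, φ u ∈ N) → N ≠ ⊥ →
      Group.IsNilpotent (G ⧸ N)) :
    Group.IsSolvable G := by
  classical
  by_cases h : ∃ p, p.Prime ∧ p ≠ 2 ∧ p ∣ Nat.card G
  · obtain ⟨p, hp, hp2, hpd⟩ := h
    haveI : Fact p.Prime := ⟨hp⟩
    obtain ⟨P, hP⟩ := Cfsg.Agent.S0031.result φ hf p
    have hPφ : ∀ u ∈ (P : Subgroup G), φ u ∈ (P : Subgroup G) := by
      intro u hu
      have : φ u ∈ (P : Subgroup G).map (φ : G →* G) := Subgroup.mem_map_of_mem _ hu
      rwa [hP] at this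
    have hPne : (P : Subgroup G) ≠ ⊥ := P.ne_bot_of_dvd_card hpd
    -- J
    obtain ⟨J, hJdef⟩ : ∃ J : Subgroup G, J = Cfsg.thompsonSubgroupOf p (P : Subgroup G) :=
      ⟨_, rfl⟩
    have hJP : J ≤ P := by
      rw [hJdef]; exact Cfsg.Agent.helper3.thompsonSubgroupOf_le_self p _
    have hJφ : ∀ u ∈ J, φ u ∈ J := by
      intro u hu
      have h1 := Cfsg.Agent.helper3.thompsonSubgroupOf_map_le p (P : Subgroup G) φ
      rw [map_eq_of_invariant φ (P : Subgroup G) hPφ] at h1
      rw [hJdef] at hu ⊢
      exact h1 (Subgroup.mem_map_of_mem _ hu)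
    have hJne : J ≠ ⊥ := by
      rw [hJdef]
      exact (Cfsg.Agent.helper10.induced_isConjugacyFunctor (X := G)
        (fun Q _ => Cfsg.thompsonSubgroup p Q) (isCharPFunctor_thompson p)
        (P : Subgroup G) P.isPGroup').2.1 hPne
    have hJp : IsPGroup p J := P.isPGroup'.to_le hJP
    -- Z
    obtain ⟨Z, hZdef⟩ : ∃ Z : Subgroup G,
        Z = (P : Subgroup G) ⊓ Subgroup.centralizer ((P : Subgroup G) : Set G) := ⟨_, rfl⟩
    have hZP : Z ≤ P := by rw [hZdef]; exact inf_le_left
    have hZφ : ∀ u ∈ Z, φ u ∈ Z := by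
      intro u hu
      rw [hZdef] at hu ⊢
      exact Subgroup.mem_inf.mpr ⟨hPφ u (Subgroup.mem_inf.mp hu).1,
        centralizer_invariant φ _ hPφ u (Subgroup.mem_inf.mp hu).2⟩
    have hZne : Z ≠ ⊥ := by
      haveI : Nontrivial (P : Subgroup G) := (Subgroup.nontrivial_iff_ne_bot _).mpr hPne
      have h1 : Subgroup.center (P : Subgroup G) ≠ ⊥ :=
        (Subgroup.nontrivial_iff_ne_bot _).mp P.isPGroup'.center_nontrivial
      rw [hZdef, ← Cfsg.Agent.helper19.map_center_eq_inf_centralizer]
      intro h2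
      exact h1 ((Subgroup.map_eq_bot_iff_of_injective _ (Subgroup.subtype_injective _)).mp h2)
    have hZp : IsPGroup p Z := P.isPGroup'.to_le hZP
    by_cases hN1 : Subgroup.normalizer (J : Set G) = ⊤
    · haveI hJn : J.Normal := Subgroup.normalizer_eq_top_iff.mp hN1
      have hq := IHquot J hJφ hJne
      exact solvable_of_normal_of_quot J (by haveI := hJp.isNilpotent; infer_instance)
        (by haveI := hq; infer_instance)
    by_cases hN2 : Subgroup.centralizer (Z : Set G) = ⊤
    · haveI hZn : Z.Normal := by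
        constructor
        intro z hz g
        have hg : g ∈ Subgroup.centralizer (Z : Set G) := by
          rw [hN2]; exact Subgroup.mem_top g
        have := Subgroup.mem_centralizer_iff.mp hg z hz
        rw [← this, mul_inv_cancel_right]
        exact hz
      have hq := IHquot Z hZφ hZne
      exact solvable_of_normal_of_quot Z (by haveI := hZp.isNilpotent; infer_instance)
        (by haveI := hq; infer_instance)
    -- both proper
    have hnil1 := IHsub _ (normalizer_invariant φ J hJφ) hN1
    have hnil2 := IHsub _ (centralizer_invariant φ Z hZφ) hN2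
    have hnpc1 := npc_of_nilpotent hnil1 p
    have hnpc2 := npc_of_nilpotent hnil2 p
    have hnpc : Cfsg.HasNormalPComplement p G := by
      subst hJdef
      subst hZdef
      exact (Cfsg.Agent.S0108.result hp2 P).mpr ⟨hnpc1, hnpc2⟩
    obtain ⟨S, K, hKn, hKS⟩ := hnpc
    haveI := hKn
    have hKφ : ∀ u ∈ K, φ u ∈ K := by
      intro u hu
      rw [Cfsg.Agent.S0086.result S K hKS] at hu ⊢
      rwa [MulEquiv.orderOf_eq]
    have hKtop : K ≠ ⊤ := by
      intro htop
      have h1 : K.index = Nat.card (S : Subgroup G) := hKS.symm.index_eq_card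
      rw [htop, Subgroup.index_top] at h1
      exact S.ne_bot_of_dvd_card hpd (Subgroup.card_eq_one.mp h1.symm)
    have hKnil := IHsub K hKφ hKtop
    have hqp : IsPGroup p (G ⧸ K) := by
      obtain ⟨k, hk⟩ := IsPGroup.iff_card.mp S.isPGroup'
      apply IsPGroup.of_card (n := k)
      rw [← hk, ← hKS.symm.index_eq_card]
      rfl
    exact solvable_of_normal_of_quot K (by haveI := hKnil; infer_instance)
      (by haveI := hqp.isNilpotent; infer_instance)
  · push_neg at h
    have h2 : ∀ {d : ℕ}, d.Prime → d ∣ Nat.card G → d = 2 := by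
      intro d hd hdd
      by_contra hne
      exact h d hd hne hdd
    have hc := Nat.eq_prime_pow_of_unique_prime_dvd (Nat.card_pos (α := G)).ne' h2
    have h3 : IsPGroup 2 G := IsPGroup.of_card hc
    haveI := h3.isNilpotent
    infer_instance

end solv

theorem fpf_prime_nilpotent_aux (r : ℕ) (hr : r.Prime) :
    ∀ (n : ℕ) (G : Type u) [Group G] [Finite G], Nat.card G = n → ∀ φ : MulAut G,
      (∀ g, φ g = g → g = 1) → φ ^ r = 1 → Group.IsNilpotent G := by
  intro n
  induction n using Nat.strong_induction_on with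
  | _ n ih =>
    intro G _ _ hn φ hf hφr
    have IHsub : ∀ U : Subgroup G, (∀ u ∈ U, φ u ∈ U) → U ≠ ⊤ → Group.IsNilpotent U := by
      intro U hU hUtop
      exact ih (Nat.card U) (by rw [← hn]; exact card_lt_of_ne_top U hUtop) U rfl
        (resAut φ U hU) (resAut_fpf φ U hU hf) (resAut_pow_eq_one φ U hU r hφr)
    have IHquot : ∀ (N : Subgroup G) [N.Normal], (∀ u ∈ N, φ u ∈ N) → N ≠ ⊥ →
        Group.IsNilpotent (G ⧸ N) := by
      intro N _ hN hNbot
      exact ih (Nat.card (G ⧸ N)) (by rw [← hn]; exact card_quotient_lt N hNbot) (G ⧸ N) rfl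
        (quotAut φ N hN) (quotAut_fpf φ N hN hf) (quotAut_pow_eq_one φ N hN r hφr)
    rcases subsingleton_or_nontrivial G with hsub | hnt
    · infer_instance
    · have hs := fpf_solvable_of_IH φ hf IHsub IHquot
      have hc := center_ne_bot_of_solvable_fpf hs φ hf r hr hφr
      have hq := IHquot (Subgroup.center G) (center_invariant φ) hc
      exact Group.of_quotient_center_nilpotent hq

/-- **Thompson**: a finite group with a fixed-point-free automorphism of prime order is
nilpotent. -/
theorem fpf_prime_nilpotent {G : Type u} [Group G] [Finite G] (φ : MulAut G)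
    (hf : ∀ g, φ g = g → g = 1) (r : ℕ) (hr : r.Prime) (hφr : φ ^ r = 1) :
    Group.IsNilpotent G :=
  fpf_prime_nilpotent_aux r hr (Nat.card G) G rfl φ hf hφr

end Cfsg.Agent.helper23
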