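import Mathlib
import Cfsg.Agent.S0033

set_option autoImplicit false

namespace Cfsg.Agent.helper11.FpfNilp

/-- conjugation by an element normalizing `Q` (with its inverse) as an automorphism of `Q` -/
def cjAut {G : Type*} [Group G] (Q : Subgroup G) (h : G)
    (h1 : ∀ x ∈ Q, h * x * h⁻¹ ∈ Q) (h2 : ∀ x ∈ Q, h⁻¹ * x * h ∈ Q) : ↥Q ≃* ↥Q where
  toFun q := ⟨h * q * h⁻¹, h1 q q.2⟩
  invFun q := ⟨h⁻¹ * q * h, h2 q q.2⟩
  left_inv q := by
    apply Subtype.ext
    show h⁻¹ * (h * q * h⁻¹) * h = q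
    group
  right_inv q := by
    apply Subtype.ext
    show h * (h⁻¹ * q * h) * h⁻¹ = q
    group
  map_mul' q r := by
    apply Subtype.ext
    show h * (q * r) * h⁻¹ = (h * q * h⁻¹) * (h * r * h⁻¹)
    group

/-- A subgroup normalised by an element of prime order acting on it without non-trivial fixed
points is nilpotent (Thompson). -/
theorem nilpotent_of_fpf_prime {G : Type*} [Group G] [Finite G] (Q : Subgroup G) (x' : G) (p : ℕ)
    (hp : p.Prime) (hx'o : orderOf x' = p)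
    (hn1 : ∀ q ∈ Q, x' * q * x'⁻¹ ∈ Q) (hn2 : ∀ q ∈ Q, x'⁻¹ * q * x' ∈ Q)
    (hfpf : Q ⊓ Subgroup.centralizer {x'} = ⊥) (hQne : ∃ s ∈ Q, s ≠ 1) :
    Group.IsNilpotent ↥Q := by
  classical
  obtain ⟨s, hsQ, hs1⟩ := hQne
  obtain ⟨φ, hφ⟩ : ∃ φ : ↥Q ≃* ↥Q, φ = cjAut Q x' hn1 hn2 := ⟨_, rfl⟩
  have hφapp : ∀ q : ↥Q, ((φ q : ↥Q) : G) = x' * q * x'⁻¹ := by
    intro q; rw [hφ]; rfl
  have hφpow : ∀ k : ℕ, ∀ q : ↥Q, (((φ ^ k) q : ↥Q) : G) = x' ^ k * q * (x' ^ k)⁻¹ := by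
    intro k
    induction k with
    | zero => intro q; simp
    | succ k ih =>
      intro q
      rw [pow_succ', MulAut.mul_apply, hφapp, ih, pow_succ']
      group
  have hFPF : MonoidHom.FixedPointFree ((φ : ↥Q →* ↥Q) : ↥Q → ↥Q) := by
    intro q hq
    have h1 : x' * (q : G) * x'⁻¹ = q := by
      rw [← hφapp]; exact congrArg Subtype.val hq
    have hmem : (q : G) ∈ Q ⊓ Subgroup.centralizer {x'} := by
      refine Subgroup.mem_inf.mpr ⟨q.2, Subgroup.mem_centralizer_iff.mpr ?_⟩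
      intro h hh
      rw [Set.mem_singleton_iff.mp hh]
      calc x' * (q : G) = (x' * q * x'⁻¹) * x' := by group
        _ = q * x' := by rw [h1]
    rw [hfpf, Subgroup.mem_bot] at hmem
    exact Subtype.ext hmem
  have hφord : orderOf φ = p := by
    have hdvd : orderOf φ ∣ p := by
      apply orderOf_dvd_of_pow_eq_one
      ext q
      rw [hφpow, ← hx'o, pow_orderOf_eq_one]
      simp
    rcases (Nat.dvd_prime hp).mp hdvd with h1 | hp'
    · exfalso
      have hφ1 : φ = 1 := orderOf_eq_one_iff.mp h1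
      apply hs1
      have := hFPF ⟨s, hsQ⟩ (by rw [hφ1]; rfl)
      exact congrArg Subtype.val this
    · exact hp'
  exact Cfsg.Agent.S0033.result φ hFPF p hp hφord

end Cfsg.Agent.helper11.FpfNilp
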