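import Mathlib

set_option autoImplicit false

/-!
# Sylow `p`-subgroups of `GL₂(q)` in the defining characteristic
-/

namespace Cfsg.Agent.helper11.GL2

open Matrix

variable {F : Type*} [Field F]

/-- the upper unitriangular matrix with entry `s`, as an element of `GL₂` -/
def uMat (s : F) : GL (Fin 2) F :=
  Matrix.GeneralLinearGroup.mkOfDetNeZero !![1, s; 0, 1] (by simp [Matrix.det_fin_two_of])

theorem coe_uMat (s : F) :
    ((uMat s : GL (Fin 2) F) : Matrix (Fin 2) (Fin 2) F) = !![1, s; 0, 1] := rfl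

theorem uMat_add (s t : F) : uMat (s + t) = uMat s * uMat t := by
  ext i j
  rw [Units.val_mul, coe_uMat, coe_uMat, coe_uMat, Matrix.mul_fin_two]
  fin_cases i <;> fin_cases j <;> simp [add_comm]

theorem uMat_zero : uMat (0 : F) = 1 := by
  ext i j
  rw [coe_uMat]
  fin_cases i <;> fin_cases j <;> simp

theorem uMat_injective : Function.Injective (uMat : F → GL (Fin 2) F) := by
  intro s t h
  have := congrArg (fun g : GL (Fin 2) F => (g : Matrix (Fin 2) (Fin 2) F) 0 1) h
  simpa [coe_uMat] using this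

/-- the unitriangular subgroup as a homomorphism from the additive group of `F` -/
def uHom : Multiplicative F →* GL (Fin 2) F where
  toFun s := uMat (Multiplicative.toAdd s)
  map_one' := uMat_zero
  map_mul' s t := uMat_add _ _

theorem uHom_injective : Function.Injective (uHom (F := F)) := fun _ _ h =>
  Multiplicative.toAdd.injective (uMat_injective h)

/-- the upper unitriangular subgroup -/
def U (F : Type*) [Field F] : Subgroup (GL (Fin 2) F) := (uHom (F := F)).range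

theorem uMat_mem (s : F) : uMat s ∈ U F := ⟨Multiplicative.ofAdd s, rfl⟩

theorem mem_U_iff (g : GL (Fin 2) F) :
    g ∈ U F ↔ (g : Matrix (Fin 2) (Fin 2) F) 0 0 = 1 ∧ (g : Matrix (Fin 2) (Fin 2) F) 1 0 = 0 ∧
      (g : Matrix (Fin 2) (Fin 2) F) 1 1 = 1 := by
  constructor
  · rintro ⟨s, rfl⟩
    have : uHom s = uMat (Multiplicative.toAdd s) := rfl
    rw [this, coe_uMat]
    simp
  · rintro ⟨h1, h2, h3⟩
    refine ⟨Multiplicative.ofAdd ((g : Matrix (Fin 2) (Fin 2) F) 0 1), ?_⟩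
    show uMat _ = g
    ext i j
    rw [coe_uMat]
    fin_cases i <;> fin_cases j <;> simp [h1, h2, h3]

theorem exists_of_mem_U {g : GL (Fin 2) F} (hg : g ∈ U F) : ∃ s : F, g = uMat s := by
  obtain ⟨s, rfl⟩ := hg
  exact ⟨Multiplicative.toAdd s, rfl⟩

theorem diag_ne_zero (g : GL (Fin 2) F) (h : (g : Matrix (Fin 2) (Fin 2) F) 1 0 = 0) :
    (g : Matrix (Fin 2) (Fin 2) F) 0 0 ≠ 0 ∧ (g : Matrix (Fin 2) (Fin 2) F) 1 1 ≠ 0 := by
  have hdet : (g : Matrix (Fin 2) (Fin 2) F).det ≠ 0 := (Matrix.isUnits_det_units g).ne_zero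
  rw [Matrix.det_fin_two, h, mul_zero, sub_zero] at hdet
  exact ⟨left_ne_zero_of_mul hdet, right_ne_zero_of_mul hdet⟩

/-- an upper triangular matrix conjugates `uMat s` to `uMat (a s d⁻¹)` -/
theorem borel_mul_uMat (g : GL (Fin 2) F) (h : (g : Matrix (Fin 2) (Fin 2) F) 1 0 = 0) (s : F) :
    g * uMat s = uMat ((g : Matrix (Fin 2) (Fin 2) F) 0 0 * s *
      ((g : Matrix (Fin 2) (Fin 2) F) 1 1)⁻¹) * g := by
  obtain ⟨ha, hd⟩ := diag_ne_zero g h
  ext i j
  rw [Units.val_mul, Units.val_mul, coe_uMat, coe_uMat]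
  rw [Matrix.eta_fin_two (g : Matrix (Fin 2) (Fin 2) F), Matrix.mul_fin_two, Matrix.mul_fin_two]
  fin_cases i <;> fin_cases j <;> simp [h]
  field_simp
  ring

theorem mem_normalizer_U_iff (g : GL (Fin 2) F) :
    g ∈ Subgroup.normalizer ((U F : Subgroup (GL (Fin 2) F)) : Set (GL (Fin 2) F)) ↔
      (g : Matrix (Fin 2) (Fin 2) F) 1 0 = 0 := by
  constructor
  · intro hg
    have h1 := (Subgroup.mem_normalizer_iff.mp hg (uMat 1)).mp (uMat_mem 1)
    obtain ⟨s, hs⟩ := exists_of_mem_U h1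
    have h2 : g * uMat 1 = uMat s * g := by
      rw [← hs]; group
    have h3 := congrArg (fun x : GL (Fin 2) F => (x : Matrix (Fin 2) (Fin 2) F) 1 1) h2
    simp only [Units.val_mul, coe_uMat] at h3
    rw [Matrix.eta_fin_two (g : Matrix (Fin 2) (Fin 2) F), Matrix.mul_fin_two,
      Matrix.mul_fin_two] at h3
    simpa using h3
  · intro h
    have key : ∀ g : GL (Fin 2) F, (g : Matrix (Fin 2) (Fin 2) F) 1 0 = 0 →
        ∀ x, x ∈ U F → g * x * g⁻¹ ∈ U F := by
      intro g h x hx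
      obtain ⟨s, rfl⟩ := exists_of_mem_U hx
      rw [borel_mul_uMat g h s, mul_inv_cancel_right]
      exact uMat_mem _
    have hinv : ((g⁻¹ : GL (Fin 2) F) : Matrix (Fin 2) (Fin 2) F) 1 0 = 0 := by
      rw [Matrix.coe_units_inv, Matrix.inv_def, Matrix.adjugate_fin_two]
      simp [h]
    rw [Subgroup.mem_normalizer_iff]
    intro x
    constructor
    · exact key g h x
    · intro hx
      have := key g⁻¹ hinv _ hx
      simpa [mul_assoc] using this

/-- the Borel subgroup (as a subtype) is in bijection with `Fˣ × Fˣ × F` -/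
def borelEquiv :
    {g : GL (Fin 2) F // (g : Matrix (Fin 2) (Fin 2) F) 1 0 = 0} ≃ Fˣ × Fˣ × F where
  toFun g := (Units.mk0 _ (diag_ne_zero g.1 g.2).1, Units.mk0 _ (diag_ne_zero g.1 g.2).2,
    (g.1 : Matrix (Fin 2) (Fin 2) F) 0 1)
  invFun t := ⟨Matrix.GeneralLinearGroup.mkOfDetNeZero !![(t.1 : F), t.2.2; 0, (t.2.1 : F)]
    (by simp [Matrix.det_fin_two_of]), by simp⟩
  left_inv g := by
    apply Subtype.ext
    ext i j
    fin_cases i <;> fin_cases j <;> simp [g.2]
  right_inv t := by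
    refine Prod.ext ?_ (Prod.ext ?_ ?_)
    · apply Units.ext; simp
    · apply Units.ext; simp
    · simp

/-- the centralizer of a nontrivial unitriangular element (as a subtype) -/
def centEquiv :
    {g : GL (Fin 2) F // (g : Matrix (Fin 2) (Fin 2) F) 1 0 = 0 ∧
      (g : Matrix (Fin 2) (Fin 2) F) 0 0 = (g : Matrix (Fin 2) (Fin 2) F) 1 1} ≃ Fˣ × F where
  toFun g := (Units.mk0 _ (diag_ne_zero g.1 g.2.1).1, (g.1 : Matrix (Fin 2) (Fin 2) F) 0 1)
  invFun t := ⟨Matrix.GeneralLinearGroup.mkOfDetNeZero !![(t.1 : F), t.2; 0, (t.1 : F)]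
    (by simp [Matrix.det_fin_two_of]), by simp⟩
  left_inv g := by
    apply Subtype.ext
    ext i j
    fin_cases i <;> fin_cases j <;> simp [g.2.1, g.2.2]
  right_inv t := by
    refine Prod.ext ?_ ?_
    · apply Units.ext; simp
    · simp

theorem mem_centralizer_uMat_iff {s : F} (hs : s ≠ 0) (g : GL (Fin 2) F) :
    g ∈ Subgroup.centralizer ({uMat s} : Set (GL (Fin 2) F)) ↔
      (g : Matrix (Fin 2) (Fin 2) F) 1 0 = 0 ∧
      (g : Matrix (Fin 2) (Fin 2) F) 0 0 = (g : Matrix (Fin 2) (Fin 2) F) 1 1 := by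
  rw [Subgroup.mem_centralizer_singleton_iff]
  constructor
  · intro h
    have h00 := congrArg (fun x : GL (Fin 2) F => (x : Matrix (Fin 2) (Fin 2) F) 0 0) h
    have h01 := congrArg (fun x : GL (Fin 2) F => (x : Matrix (Fin 2) (Fin 2) F) 0 1) h
    simp only [Units.val_mul, coe_uMat] at h00 h01
    rw [Matrix.eta_fin_two (g : Matrix (Fin 2) (Fin 2) F), Matrix.mul_fin_two,
      Matrix.mul_fin_two] at h00 h01
    simp at h00 h01
    have h10 : (g : Matrix (Fin 2) (Fin 2) F) 1 0 = 0 := by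
      rcases h00 with h | h
      · exact absurd h hs
      · exact h
    refine ⟨h10, ?_⟩
    have : s * (g : Matrix (Fin 2) (Fin 2) F) 1 1 = (g : Matrix (Fin 2) (Fin 2) F) 0 0 * s := by
      linear_combination -h01
    have h2 : s * ((g : Matrix (Fin 2) (Fin 2) F) 1 1 - (g : Matrix (Fin 2) (Fin 2) F) 0 0) = 0 := by
      linear_combination this
    rcases mul_eq_zero.mp h2 with h | h
    · exact absurd h hs
    · exact (sub_eq_zero.mp h).symm
  · rintro ⟨h10, h00⟩
    ext i j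
    rw [Units.val_mul, Units.val_mul, coe_uMat]
    rw [Matrix.eta_fin_two (g : Matrix (Fin 2) (Fin 2) F), Matrix.mul_fin_two, Matrix.mul_fin_two]
    fin_cases i <;> fin_cases j <;> simp [h10, h00]
    ring

section Finite
variable [Fintype F]

theorem card_GL2 : Nat.card (GL (Fin 2) F) =
    (Fintype.card F ^ 2 - 1) * (Fintype.card F ^ 2 - Fintype.card F) := by
  rw [Matrix.card_GL_field, Fin.prod_univ_two]
  simp

theorem card_U : Nat.card (U F) = Fintype.card F := by
  rw [← Nat.card_eq_fintype_card (α := F)]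
  exact (Nat.card_congr (MonoidHom.ofInjective uHom_injective).toEquiv).symm.trans
    (Nat.card_congr Multiplicative.toAdd)

theorem card_borel : Nat.card {g : GL (Fin 2) F // (g : Matrix (Fin 2) (Fin 2) F) 1 0 = 0} =
    (Fintype.card F - 1) * ((Fintype.card F - 1) * Fintype.card F) := by
  rw [Nat.card_congr borelEquiv, Nat.card_prod, Nat.card_prod, Nat.card_units,
    Nat.card_eq_fintype_card]

theorem card_centralizer_uMat {s : F} (hs : s ≠ 0) :
    Nat.card (Subgroup.centralizer ({uMat s} : Set (GL (Fin 2) F))) =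
      (Fintype.card F - 1) * Fintype.card F := by
  have e : (Subgroup.centralizer ({uMat s} : Set (GL (Fin 2) F))) ≃
      {g : GL (Fin 2) F // (g : Matrix (Fin 2) (Fin 2) F) 1 0 = 0 ∧
        (g : Matrix (Fin 2) (Fin 2) F) 0 0 = (g : Matrix (Fin 2) (Fin 2) F) 1 1} :=
    Equiv.subtypeEquivRight (mem_centralizer_uMat_iff hs)
  rw [Nat.card_congr e, Nat.card_congr centEquiv, Nat.card_prod, Nat.card_units,
    Nat.card_eq_fintype_card]

theorem card_normalizer_U :
    Nat.card (Subgroup.normalizer ((U F : Subgroup (GL (Fin 2) F)) : Set (GL (Fin 2) F))) =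
      (Fintype.card F - 1) * ((Fintype.card F - 1) * Fintype.card F) := by
  have e : (Subgroup.normalizer ((U F : Subgroup (GL (Fin 2) F)) : Set (GL (Fin 2) F))) ≃
      {g : GL (Fin 2) F // (g : Matrix (Fin 2) (Fin 2) F) 1 0 = 0} :=
    Equiv.subtypeEquivRight mem_normalizer_U_iff
  rw [Nat.card_congr e, card_borel]

variable (p : ℕ) [Fact p.Prime] [CharP F p]

theorem isPGroup_U : IsPGroup p (U F) := by
  obtain ⟨n, _, hq⟩ := FiniteField.card F p
  apply IsPGroup.of_card (n := (n : ℕ))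
  rw [card_U, hq]

theorem not_dvd_index_U : ¬ p ∣ (U F).index := by
  have hp : p.Prime := Fact.out
  obtain ⟨n, _, hq⟩ := FiniteField.card F p
  have hq2 : 2 ≤ Fintype.card F := Fintype.one_lt_card
  set q := Fintype.card F with hqdef
  have hpq : p ∣ q := by rw [hq]; exact dvd_pow_self p n.ne_zero
  have h1 := Subgroup.card_mul_index (U F)
  rw [card_U, card_GL2, ← hqdef] at h1
  have h2 : q ^ 2 - q = q * (q - 1) := by
    rw [pow_two, Nat.mul_sub_one]
  rw [h2] at h1
  have h3 : (U F).index = (q ^ 2 - 1) * (q - 1) := by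
    apply Nat.eq_of_mul_eq_mul_left (by omega : 0 < q)
    rw [h1]; ring
  rw [h3]
  intro hdvd
  have hnd : ∀ m : ℕ, 1 ≤ m → p ∣ m → ¬ p ∣ m - 1 := by
    intro m hm hpm hpm1
    have := (Nat.dvd_sub (m := m) (n := m - 1)) hpm hpm1
    rw [Nat.sub_sub_self hm] at this
    exact hp.one_lt.ne' (Nat.dvd_one.mp this)
  rcases (Nat.Prime.dvd_mul hp).mp hdvd with h | h
  · exact hnd (q ^ 2) (Nat.one_le_pow _ _ (by omega)) (dvd_pow hpq (by norm_num)) h
  · exact hnd q (by omega) hpq h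

/-- the unitriangular subgroup as a Sylow `p`-subgroup -/
noncomputable def USylow : Sylow p (GL (Fin 2) F) :=
  (isPGroup_U p).toSylow (not_dvd_index_U p)

theorem coe_USylow : ((USylow p : Sylow p (GL (Fin 2) F)) : Subgroup (GL (Fin 2) F)) = U F :=
  IsPGroup.toSylow_coe _ _

theorem card_sylow : Nat.card (Sylow p (GL (Fin 2) F)) = Fintype.card F + 1 := by
  have h0 := Sylow.card_eq_index_normalizer (USylow (F := F) p)
  have h1 := Subgroup.card_mul_index
    (Subgroup.normalizer ((USylow (F := F) p : Subgroup (GL (Fin 2) F)) : Set (GL (Fin 2) F)))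
  rw [Sylow.coe_coe, ← h0, ← Sylow.coe_coe, coe_USylow, card_normalizer_U, card_GL2] at h1
  have hq2 : 2 ≤ Fintype.card F := Fintype.one_lt_card
  obtain ⟨k, hk⟩ : ∃ k, Fintype.card F = k + 2 := ⟨Fintype.card F - 2, by omega⟩
  rw [hk] at h1 ⊢
  have e1 : (k + 2) ^ 2 - 1 = (k + 1) * (k + 3) := by
    have : (k + 2) ^ 2 = (k + 1) * (k + 3) + 1 := by ring
    omega
  have e2 : (k + 2) ^ 2 - (k + 2) = (k + 2) * (k + 1) := by
    have : (k + 2) ^ 2 = (k + 2) * (k + 1) + (k + 2) := by ring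
    omega
  have e3 : k + 2 - 1 = k + 1 := by omega
  rw [e1, e2, e3] at h1
  have h2 : (k + 1) * ((k + 1) * (k + 2)) * Nat.card (Sylow p (GL (Fin 2) F)) =
      (k + 1) * ((k + 1) * (k + 2)) * (k + 2 + 1) := by
    rw [h1]; ring
  exact Nat.eq_of_mul_eq_mul_left (by positivity) h2

theorem card_normalizer_sylow (P : Sylow p (GL (Fin 2) F)) :
    Nat.card (Subgroup.normalizer ((P : Subgroup (GL (Fin 2) F)) : Set (GL (Fin 2) F))) =
      Fintype.card F * (Fintype.card F - 1) ^ 2 := by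
  have h0 := Sylow.card_eq_index_normalizer P
  have h1 := Subgroup.card_mul_index
    (Subgroup.normalizer ((P : Subgroup (GL (Fin 2) F)) : Set (GL (Fin 2) F)))
  rw [Sylow.coe_coe, ← h0, ← Sylow.coe_coe, card_sylow, card_GL2] at h1
  have hq2 : 2 ≤ Fintype.card F := Fintype.one_lt_card
  obtain ⟨k, hk⟩ : ∃ k, Fintype.card F = k + 2 := ⟨Fintype.card F - 2, by omega⟩
  rw [hk] at h1 ⊢
  have e1 : (k + 2) ^ 2 - 1 = (k + 1) * (k + 3) := by
    have : (k + 2) ^ 2 = (k + 1) * (k + 3) + 1 := by ring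
    omega
  have e2 : (k + 2) ^ 2 - (k + 2) = (k + 2) * (k + 1) := by
    have : (k + 2) ^ 2 = (k + 2) * (k + 1) + (k + 2) := by ring
    omega
  have e3 : k + 2 - 1 = k + 1 := by omega
  rw [e1, e2] at h1
  rw [e3]
  have h2 : (k + 2 + 1) * Nat.card (Subgroup.normalizer
      ((P : Subgroup (GL (Fin 2) F)) : Set (GL (Fin 2) F))) =
      (k + 2 + 1) * ((k + 2) * (k + 1) ^ 2) := by
    rw [mul_comm, h1]; ring
  exact Nat.eq_of_mul_eq_mul_left (by positivity) h2

end Finite

section General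

theorem mem_smul_sylow_iff {G : Type*} [Group G] {p : ℕ} (g x : G) (P : Sylow p G) :
    x ∈ g • P ↔ g⁻¹ * x * g ∈ P := by
  show x ∈ ((g • P : Sylow p G) : Subgroup G) ↔ _
  rw [Sylow.coe_subgroup_smul, Subgroup.mem_pointwise_smul_iff_inv_smul_mem,
    MulAut.smul_def, MulAut.conj_inv_apply]
  rfl

/-- conjugation gives a bijection between centralizers -/
def centConjEquiv {G : Type*} [Group G] (g a : G) :
    Subgroup.centralizer ({a} : Set G) ≃ Subgroup.centralizer ({g⁻¹ * a * g} : Set G) where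
  toFun x := ⟨g⁻¹ * x.1 * g, by
    have h := Subgroup.mem_centralizer_singleton_iff.mp x.2
    rw [Subgroup.mem_centralizer_singleton_iff]
    calc g⁻¹ * x.1 * g * (g⁻¹ * a * g) = g⁻¹ * (x.1 * a) * g := by group
      _ = g⁻¹ * (a * x.1) * g := by rw [h]
      _ = g⁻¹ * a * g * (g⁻¹ * x.1 * g) := by group⟩
  invFun y := ⟨g * y.1 * g⁻¹, by
    have h := Subgroup.mem_centralizer_singleton_iff.mp y.2
    rw [Subgroup.mem_centralizer_singleton_iff]
    calc g * y.1 * g⁻¹ * a = g * (y.1 * (g⁻¹ * a * g)) * g⁻¹ := by group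
      _ = g * (g⁻¹ * a * g * y.1) * g⁻¹ := by rw [h]
      _ = a * (g * y.1 * g⁻¹) := by group⟩
  left_inv x := by
    apply Subtype.ext
    show g * (g⁻¹ * x.1 * g) * g⁻¹ = x.1
    group
  right_inv y := by
    apply Subtype.ext
    show g⁻¹ * (g * y.1 * g⁻¹) * g = y.1
    group

end General

section Finite2
variable [Fintype F] (p : ℕ) [Fact p.Prime] [CharP F p]

/-- the unitriangular Sylow subgroup meets every other Sylow `p`-subgroup trivially -/
theorem U_inf_eq_bot (Q : Sylow p (GL (Fin 2) F)) (hQ : Q ≠ USylow p)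
    (x : GL (Fin 2) F) (hxU : x ∈ U F) (hxQ : x ∈ Q) : x = 1 := by
  by_contra hx1
  obtain ⟨h, hh⟩ := MulAction.exists_smul_eq (GL (Fin 2) F) (USylow (F := F) p) Q
  rw [← hh, mem_smul_sylow_iff] at hxQ
  have hxQ' : h⁻¹ * x * h ∈ U F := by
    rw [← coe_USylow p]
    exact hxQ
  obtain ⟨s, rfl⟩ := exists_of_mem_U hxU
  obtain ⟨r, hr⟩ := exists_of_mem_U hxQ'
  have hs : s ≠ 0 := by
    rintro rfl
    exact hx1 uMat_zero
  have h1 : uMat s * h = h * uMat r := by
    rw [← hr]; group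
  have h2 := congrArg (fun y : GL (Fin 2) F => (y : Matrix (Fin 2) (Fin 2) F) 0 0) h1
  simp only [Units.val_mul, coe_uMat] at h2
  rw [Matrix.eta_fin_two (h : Matrix (Fin 2) (Fin 2) F), Matrix.mul_fin_two,
    Matrix.mul_fin_two] at h2
  simp at h2
  have h10 : (h : Matrix (Fin 2) (Fin 2) F) 1 0 = 0 := by
    rcases h2 with h3 | h3
    · exact absurd h3 hs
    · exact h3
  have hn : h ∈ Subgroup.normalizer ((USylow (F := F) p : Sylow p (GL (Fin 2) F)) :
      Set (GL (Fin 2) F)) := by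
    rw [← Sylow.coe_coe, coe_USylow]
    exact (mem_normalizer_U_iff h).mpr h10
  have := Sylow.smul_eq_iff_mem_normalizer.mpr hn
  exact hQ (hh.symm.trans this)

theorem sylow_inf_eq_bot (P Q : Sylow p (GL (Fin 2) F)) (h : P ≠ Q) :
    (P : Subgroup (GL (Fin 2) F)) ⊓ (Q : Subgroup (GL (Fin 2) F)) = ⊥ := by
  rw [eq_bot_iff]
  rintro x ⟨hxP, hxQ⟩
  rw [Subgroup.mem_bot]
  obtain ⟨g, hg⟩ := MulAction.exists_smul_eq (GL (Fin 2) F) (USylow (F := F) p) P
  have hQ' : g⁻¹ • Q ≠ USylow p := by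
    intro h'
    apply h
    rw [← hg, ← h', smul_inv_smul]
  have hxP' : x ∈ g • USylow (F := F) p := by rw [hg]; exact hxP
  rw [mem_smul_sylow_iff] at hxP'
  have hy : g⁻¹ * x * g ∈ g⁻¹ • Q := by
    rw [mem_smul_sylow_iff]
    have : g⁻¹⁻¹ * (g⁻¹ * x * g) * g⁻¹ = x := by group
    rw [this]
    exact hxQ
  have h1 := U_inf_eq_bot p (g⁻¹ • Q) hQ' (g⁻¹ * x * g)
    (by rw [← coe_USylow p]; exact hxP') hy
  calc x = g * (g⁻¹ * x * g) * g⁻¹ := by group
    _ = 1 := by rw [h1]; group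

theorem card_centralizer_of_mem_sylow (P : Sylow p (GL (Fin 2) F)) (a : GL (Fin 2) F)
    (ha : a ∈ P) (ha1 : a ≠ 1) :
    Nat.card (Subgroup.centralizer ({a} : Set (GL (Fin 2) F))) =
      Fintype.card F * (Fintype.card F - 1) := by
  obtain ⟨g, hg⟩ := MulAction.exists_smul_eq (GL (Fin 2) F) (USylow (F := F) p) P
  have haP : a ∈ g • USylow (F := F) p := by rw [hg]; exact ha
  rw [mem_smul_sylow_iff] at haP
  have haU : g⁻¹ * a * g ∈ U F := by
    rw [← coe_USylow p]
    exact haP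
  obtain ⟨s, hs⟩ := exists_of_mem_U haU
  have hs0 : s ≠ 0 := by
    rintro rfl
    apply ha1
    rw [uMat_zero] at hs
    calc a = g * (g⁻¹ * a * g) * g⁻¹ := by group
      _ = 1 := by rw [hs]; group
  rw [Nat.card_congr (centConjEquiv g a), hs, card_centralizer_uMat hs0, mul_comm]

end Finite2

end Cfsg.Agent.helper11.GL2
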