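import Mathlib

set_option autoImplicit false

/-!
# Counting solutions of `x ⬝ᵥ y = c` over a finite field
-/

namespace Cfsg.Agent.helper11

open Module

section
variable {F : Type*} [Field F] [Fintype F] [DecidableEq F] {ι : Type*} [Fintype ι] [DecidableEq ι]

/-- An affine hyperplane `x ⬝ᵥ y = c` (with `x ≠ 0`) has `q ^ (|ι| - 1)` points. -/
theorem card_dotProduct_eq (x : ι → F) (hx : x ≠ 0) (c : F) :
    Nat.card {y : ι → F // x ⬝ᵥ y = c} = Fintype.card F ^ (Fintype.card ι - 1) := by
  classical
  let φ : (ι → F) →ₗ[F] F :=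
    { toFun := fun y => x ⬝ᵥ y
      map_add' := fun y z => dotProduct_add x y z
      map_smul' := fun a y => by simp [dotProduct_smul] }
  obtain ⟨i, hi⟩ : ∃ i, x i ≠ 0 := by
    by_contra h
    push Not at h
    exact hx (funext h)
  have hsurj : ∀ d : F, ∃ y, φ y = d := by
    intro d
    refine ⟨Pi.single i (d / x i), ?_⟩
    show x ⬝ᵥ Pi.single i (d / x i) = d
    rw [dotProduct_single]
    field_simp
  have hrange : LinearMap.range φ = ⊤ := LinearMap.range_eq_top.mpr hsurj
  have hrk := LinearMap.finrank_range_add_finrank_ker φ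
  rw [hrange, finrank_top, Module.finrank_self, Module.finrank_fintype_fun_eq_card] at hrk
  have hker : finrank F (LinearMap.ker φ) = Fintype.card ι - 1 := by omega
  obtain ⟨y₀, hy₀⟩ := hsurj c
  let e : {y : ι → F // x ⬝ᵥ y = c} ≃ LinearMap.ker φ :=
    { toFun := fun y => ⟨y.1 - y₀, by
        rw [LinearMap.mem_ker, map_sub, hy₀]
        show x ⬝ᵥ y.1 - c = 0
        rw [y.2, sub_self]⟩
      invFun := fun k => ⟨k.1 + y₀, by
        have h1 : φ (k.1 + y₀) = c := by
          rw [map_add, LinearMap.mem_ker.mp k.2, hy₀, zero_add]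
        exact h1⟩
      left_inv := fun y => by
        apply Subtype.ext
        simp
      right_inv := fun k => by
        apply Subtype.ext
        simp }
  rw [Nat.card_congr e, Module.natCard_eq_pow_finrank (K := F), hker, Nat.card_eq_fintype_card]

/-- Number of `y` with `x ⬝ᵥ y = c`, for arbitrary `x`. -/
theorem card_dotProduct_eq' (x : ι → F) (c : F) :
    Nat.card {y : ι → F // x ⬝ᵥ y = c} =
      if x = 0 then (if c = 0 then Fintype.card F ^ Fintype.card ι else 0)
      else Fintype.card F ^ (Fintype.card ι - 1) := by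
  classical
  by_cases hx : x = 0
  · rw [if_pos hx, hx]
    by_cases hc : c = 0
    · rw [if_pos hc, hc]
      have : Nat.card {y : ι → F // (0 : ι → F) ⬝ᵥ y = 0} = Nat.card (ι → F) := by
        apply Nat.card_congr
        exact (Equiv.subtypeUnivEquiv (fun y => by simp))
      rw [this, Nat.card_eq_fintype_card, Fintype.card_fun]
    · rw [if_neg hc]
      haveI : IsEmpty {y : ι → F // (0 : ι → F) ⬝ᵥ y = c} := by
        constructor
        rintro ⟨y, hy⟩
        rw [zero_dotProduct] at hy
        exact hc hy.symm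
      exact Nat.card_of_isEmpty
  · rw [if_neg hx]
    exact card_dotProduct_eq x hx c

/-- The number of solutions `(s, x, y)` of `x ⬝ᵥ y = c s`. -/
theorem card_param_dotProduct {S : Type*} [Fintype S] (c : S → F) :
    Nat.card {p : S × (ι → F) × (ι → F) // p.2.1 ⬝ᵥ p.2.2 = c p.1} =
      Nat.card {s : S // c s = 0} * Fintype.card F ^ Fintype.card ι +
        Fintype.card S * ((Fintype.card F ^ Fintype.card ι - 1) *
          Fintype.card F ^ (Fintype.card ι - 1)) := by
  classical
  let e : {p : S × (ι → F) × (ι → F) // p.2.1 ⬝ᵥ p.2.2 = c p.1} ≃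
      Σ sx : S × (ι → F), {y : ι → F // sx.2 ⬝ᵥ y = c sx.1} :=
    { toFun := fun p => ⟨(p.1.1, p.1.2.1), ⟨p.1.2.2, p.2⟩⟩
      invFun := fun t => ⟨(t.1.1, t.1.2, t.2.1), t.2.2⟩
      left_inv := fun p => rfl
      right_inv := fun t => rfl }
  rw [Nat.card_congr e, Nat.card_sigma]
  simp only [card_dotProduct_eq']
  rw [Fintype.sum_prod_type]
  have hinner : ∀ s : S, ∑ x : ι → F, (if x = 0 then
        (if c s = 0 then Fintype.card F ^ Fintype.card ι else 0)
        else Fintype.card F ^ (Fintype.card ι - 1)) =
      (if c s = 0 then Fintype.card F ^ Fintype.card ι else 0) +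
        (Fintype.card F ^ Fintype.card ι - 1) * Fintype.card F ^ (Fintype.card ι - 1) := by
    intro s
    rw [Finset.sum_ite, Finset.sum_const, Finset.sum_const, Finset.filter_eq', if_pos (Finset.mem_univ _),
      Finset.card_singleton, one_smul, Finset.filter_ne', Finset.card_erase_of_mem (Finset.mem_univ _),
      Finset.card_univ, Fintype.card_fun, smul_eq_mul]
  rw [Finset.sum_congr rfl (fun s _ => hinner s), Finset.sum_add_distrib, Finset.sum_const,
    Finset.card_univ, smul_eq_mul, Finset.sum_ite, Finset.sum_const, Finset.sum_const_zero, add_zero,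
    smul_eq_mul, Nat.card_eq_fintype_card, Fintype.card_subtype]

end

end Cfsg.Agent.helper11
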