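import Mathlib
import Cfsg.Agent.Lib_helper11_Unitary
import Cfsg.Agent.Lib_helper11_QuadCount

set_option autoImplicit false

namespace Cfsg.Agent.helper11.HermLines

open Cfsg Matrix
open Cfsg.Agent.helper11.HermCount Cfsg.Agent.helper11.Unitary

variable {F : Type*} [Field F] [Fintype F] {q : ℕ}

theorem ne_zero_of_trace_one (hF : Fintype.card F = q ^ 2) (θ : F) (h : θ + θ ^ q = 1) :
    θ ≠ 0 := by
  intro h0
  rw [h0, zero_pow (q_ne_zero hF), add_zero] at h
  exact zero_ne_one h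

theorem norm_of_trace (hF : Fintype.card F = q ^ 2) (θ : F) (h : θ + θ ^ q = 1) :
    (1 - θ⁻¹) * (1 - θ⁻¹) ^ q = 1 := by
  have h0 := ne_zero_of_trace_one hF θ h
  have h0' : θ ^ q ≠ 0 := pow_ne_zero q h0
  rw [sub_pow_q hF, one_pow, inv_pow]
  field_simp
  linear_combination (-1 : F) * h

theorem trace_of_norm (hF : Fintype.card F = q ^ 2) (m : F) (hm1 : m ≠ 1)
    (hN : m * m ^ q = 1) : (1 - m)⁻¹ + ((1 - m)⁻¹) ^ q = 1 := by
  have h1 : 1 - m ≠ 0 := sub_ne_zero.mpr (Ne.symm hm1)
  have h2 : 1 - m ^ q ≠ 0 := by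
    intro h
    have h3 : m ^ q = 1 := by linear_combination (-1 : F) * h
    rw [h3, mul_one] at hN
    exact hm1 hN
  rw [inv_pow, sub_pow_q hF, one_pow]
  field_simp
  linear_combination (-1 : F) * hN

/-- elements of trace one correspond to elements of norm one other than `1` -/
noncomputable def traceOneEquiv (hF : Fintype.card F = q ^ 2) :
    {θ : F // θ + θ ^ q = 1} ≃
      {l : {x : F // x * x ^ q = 1} // l ≠ ⟨1, by rw [one_pow, mul_one]⟩} where
  toFun θ := ⟨⟨1 - θ.1⁻¹, norm_of_trace hF θ.1 θ.2⟩, by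
      have h0 := ne_zero_of_trace_one hF θ.1 θ.2
      intro h
      have h1 : 1 - θ.1⁻¹ = 1 := congrArg Subtype.val h
      have h2 : θ.1⁻¹ = 0 := by linear_combination (-1 : F) * h1
      exact h0 (inv_eq_zero.mp h2)⟩
  invFun l := ⟨(1 - l.1.1)⁻¹,
    trace_of_norm hF l.1.1 (fun h => l.2 (Subtype.ext h)) l.1.2⟩
  left_inv θ := by
    apply Subtype.ext
    simp
  right_inv l := by
    apply Subtype.ext
    apply Subtype.ext
    simp

theorem card_trace_one (hF : Fintype.card F = q ^ 2) :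
    Nat.card {θ : F // θ + θ ^ q = 1} = q := by
  classical
  have h1 := card_norm_fiber hF (1 : F) (one_pow q)
  rw [if_neg one_ne_zero] at h1
  rw [Nat.card_congr (traceOneEquiv hF)]
  have h2 := Nat.card_congr (Equiv.optionSubtypeNe
    (⟨1, by rw [one_pow, mul_one]⟩ : {x : F // x * x ^ q = 1}))
  rw [Finite.card_option, h1] at h2
  omega

theorem card_trace_fiber (hF : Fintype.card F = q ^ 2) (d : F) (hd : d ^ q = d) :
    Nat.card {κ : F // κ + κ ^ q = d} = q := by
  have hq1 := card_trace_one hF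
  have hne : Nonempty {θ : F // θ + θ ^ q = 1} := by
    by_contra h
    rw [not_nonempty_iff] at h
    rw [Nat.card_of_isEmpty] at hq1
    exact q_ne_zero hF hq1.symm
  obtain ⟨⟨θ₀, hθ₀⟩⟩ := hne
  have e : {κ : F // κ + κ ^ q = d} ≃ {θ : F // θ + θ ^ q = 1} :=
    { toFun := fun κ => ⟨κ.1 + (1 - d) * θ₀, by
        rw [add_pow_q hF, mul_pow, sub_pow_q hF, one_pow, hd]
        linear_combination κ.2 + (1 - d) * hθ₀⟩
      invFun := fun θ => ⟨θ.1 - (1 - d) * θ₀, by
        rw [sub_pow_q hF, mul_pow, sub_pow_q hF, one_pow, hd]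
        linear_combination θ.2 - (1 - d) * hθ₀⟩
      left_inv := fun κ => by apply Subtype.ext; simp
      right_inv := fun θ => by apply Subtype.ext; simp }
  rw [Nat.card_congr e, hq1]

/-- the fibres of `λ ↦ λ c^q + λ^q c` over the fixed field -/
theorem card_twisted_trace_fiber (hF : Fintype.card F = q ^ 2) (c : F) (hc : c ≠ 0) (e : F)
    (he : e ^ q = e) : Nat.card {l : F // l * c ^ q + l ^ q * c = e} = q := by
  have hcq : c ^ q ≠ 0 := pow_ne_zero q hc
  have eqv : {l : F // l * c ^ q + l ^ q * c = e} ≃ {κ : F // κ + κ ^ q = e} :=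
    { toFun := fun l => ⟨l.1 * c ^ q, by
        rw [mul_pow, pow_q_q hF]
        exact l.2⟩
      invFun := fun κ => ⟨κ.1 * (c ^ q)⁻¹, by
        rw [mul_assoc, inv_mul_cancel₀ hcq, mul_one, mul_pow, inv_pow, pow_q_q hF, mul_assoc,
          inv_mul_cancel₀ hc, mul_one]
        exact κ.2⟩
      left_inv := fun l => by apply Subtype.ext; simp [hcq]
      right_inv := fun κ => by apply Subtype.ext; simp [hcq] }
  rw [Nat.card_congr eqv, card_trace_fiber hF e he]

end Cfsg.Agent.helper11.HermLines
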