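import Mathlib
import Cfsg.Agent.Lib_helper11_HermLines1

set_option autoImplicit false

namespace Cfsg.Agent.helper11.HermLines

open Cfsg Matrix
open Cfsg.Agent.helper11.HermCount Cfsg.Agent.helper11.Unitary

variable {F : Type*} [Field F] [Fintype F] {q : ℕ} {n : ℕ}

theorem neg_pow_q (hF : Fintype.card F = q ^ 2) (x : F) : (-x) ^ q = -(x ^ q) := by
  have h := sub_pow_q hF 0 x
  rw [zero_pow (q_ne_zero hF), zero_sub, zero_sub] at h
  exact h

theorem herm_translate (hF : Fintype.card F = q ^ 2) (v w : Fin n → F) (l : F)
    (hvv : hermForm n F q v v = 0) :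
    hermForm n F q (w + l • v) (w + l • v)
      = hermForm n F q w w
        + (l * (hermForm n F q w v) ^ q + l ^ q * hermForm n F q w v) := by
  rw [herm_add_left, herm_add_right hF, herm_add_right hF, herm_smul_left, herm_smul_left,
    herm_smul_right, herm_smul_right, hvv, herm_conj hF w v]
  ring

/-- the fibre over `w` -/
theorem card_fib (hF : Fintype.card F = q ^ 2) (v w : Fin n → F)
    (hvv : hermForm n F q v v = 0) [Decidable (hermForm n F q w v = 0)]
    [Decidable (hermForm n F q w w = 0)] :
    Nat.card {l : F // hermForm n F q (w + l • v) (w + l • v) = 0}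
      = if hermForm n F q w v = 0 then (if hermForm n F q w w = 0 then Fintype.card F else 0)
        else q := by
  by_cases hc : hermForm n F q w v = 0
  · rw [if_pos hc]
    by_cases hw : hermForm n F q w w = 0
    · rw [if_pos hw]
      have e : {l : F // hermForm n F q (w + l • v) (w + l • v) = 0} ≃ F :=
        Equiv.subtypeUnivEquiv (fun l => by
          rw [herm_translate hF v w l hvv, hc, hw, zero_pow (q_ne_zero hF)]
          ring)
      rw [Nat.card_congr e, Nat.card_eq_fintype_card]
    · rw [if_neg hw]
      haveI : IsEmpty {l : F // hermForm n F q (w + l • v) (w + l • v) = 0} := by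
        constructor
        rintro ⟨l, hl⟩
        rw [herm_translate hF v w l hvv, hc, zero_pow (q_ne_zero hF)] at hl
        apply hw
        linear_combination hl
      exact Nat.card_of_isEmpty
  · rw [if_neg hc]
    have he : (-(hermForm n F q w w)) ^ q = -(hermForm n F q w w) := by
      rw [neg_pow_q hF, herm_pow_q hF]
    have e : {l : F // hermForm n F q (w + l • v) (w + l • v) = 0} ≃
        {l : F // l * (hermForm n F q w v) ^ q + l ^ q * hermForm n F q w v
          = -(hermForm n F q w w)} := by
      apply Equiv.subtypeEquivRight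
      intro l
      rw [herm_translate hF v w l hvv]
      constructor
      · intro h
        linear_combination h
      · intro h
        linear_combination h
    rw [Nat.card_congr e, card_twisted_trace_fiber hF (hermForm n F q w v) hc _ he]

theorem card_hyperplane (hF : Fintype.card F = q ^ 2) (v : Fin n → F) (hv : v ≠ 0) :
    Nat.card {w : Fin n → F // hermForm n F q w v = 0} = Fintype.card F ^ (n - 1) := by
  classical
  have hx : (fun i => v i ^ q) ≠ 0 := by
    intro h
    apply hv
    funext i
    have := congrFun h i
    simp only [Pi.zero_apply] at this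
    exact pow_eq_zero_iff (q_ne_zero hF) |>.mp this
  have h1 := Cfsg.Agent.helper11.card_dotProduct_eq (fun i => v i ^ q) hx (0 : F)
  rw [Fintype.card_fin] at h1
  rw [← h1]
  apply Nat.card_congr
  apply Equiv.subtypeEquivRight
  intro w
  have : hermForm n F q w v = (fun i => v i ^ q) ⬝ᵥ w := by
    unfold hermForm dotProduct
    apply Finset.sum_congr rfl
    intro i _
    ring
  rw [this]

/-- counting the isotropic vectors orthogonal to a nonzero isotropic vector -/
theorem card_perp_iso (hF : Fintype.card F = q ^ 2) (v : Fin n → F) (hv : v ≠ 0)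
    (hvv : hermForm n F q v v = 0) :
    Fintype.card F * Nat.card {w : Fin n → F // hermForm n F q w v = 0 ∧ hermForm n F q w w = 0}
      + q * (Fintype.card F ^ n - Fintype.card F ^ (n - 1))
      = Nat.card {w : Fin n → F // hermForm n F q w w = 0} * Fintype.card F := by
  classical
  -- the set of pairs
  have e1 : {p : (Fin n → F) × F // hermForm n F q (p.1 + p.2 • v) (p.1 + p.2 • v) = 0} ≃
      {w : Fin n → F // hermForm n F q w w = 0} × F :=
    { toFun := fun p => (⟨p.1.1 + p.1.2 • v, p.2⟩, p.1.2)
      invFun := fun p => ⟨(p.1.1 - p.2 • v, p.2), by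
        show hermForm n F q (p.1.1 - p.2 • v + p.2 • v) (p.1.1 - p.2 • v + p.2 • v) = 0
        rw [sub_add_cancel]; exact p.1.2⟩
      left_inv := by
        rintro ⟨⟨w, l⟩, hl⟩
        apply Subtype.ext
        simp
      right_inv := by
        rintro ⟨⟨w, hw⟩, l⟩
        simp }
  have e2 := Equiv.subtypeProdEquivSigmaSubtype
    (fun (w : Fin n → F) (l : F) => hermForm n F q (w + l • v) (w + l • v) = 0)
  have h1 := (Nat.card_congr e2).symm.trans (Nat.card_congr e1)
  rw [Nat.card_sigma, Nat.card_prod, Nat.card_eq_fintype_card (α := F)] at h1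
  rw [← h1]
  simp only [card_fib hF v _ hvv]
  rw [Finset.sum_ite, Finset.sum_ite, Finset.sum_const, Finset.sum_const, Finset.sum_const,
    smul_eq_mul, smul_eq_mul, smul_eq_mul, mul_zero, add_zero]
  congr 1
  · rw [mul_comm]
    congr 1
    rw [Finset.filter_filter, Nat.card_eq_fintype_card, Fintype.card_subtype]
  · rw [mul_comm]
    congr 1
    have h2 := card_hyperplane hF v hv
    rw [Nat.card_eq_fintype_card, Fintype.card_subtype] at h2
    have hall : Fintype.card (Fin n → F) = Fintype.card F ^ n := by
      rw [Fintype.card_fun, Fintype.card_fin]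
    rw [Finset.filter_not, Finset.card_sdiff_of_subset (Finset.filter_subset _ _),
      Finset.card_univ, hall, ← h2]

end Cfsg.Agent.helper11.HermLines
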