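import Mathlib
import Cfsg.Agent.Lib_helper11_HermLines2

set_option autoImplicit false

namespace Cfsg.Agent.helper11.HermLines

open Cfsg Matrix
open Cfsg.Agent.helper11.HermCount Cfsg.Agent.helper11.Unitary

variable {F : Type*} [Field F] [Fintype F] {q : ℕ} {n : ℕ}

/-- totally isotropic subspaces -/
def TI (n : ℕ) (F : Type*) [Field F] (q : ℕ) (W : Submodule F (Fin n → F)) : Prop :=
  ∀ u ∈ W, ∀ w ∈ W, hermForm n F q u w = 0

theorem span_pair_TI (hF : Fintype.card F = q ^ 2) (v w : Fin n → F)
    (hv : hermForm n F q v v = 0) (hw : hermForm n F q w w = 0)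
    (hwv : hermForm n F q w v = 0) : TI n F q (Submodule.span F {v, w}) := by
  intro x hx y hy
  obtain ⟨a, b, rfl⟩ := Submodule.mem_span_pair.mp hx
  obtain ⟨c, d, rfl⟩ := Submodule.mem_span_pair.mp hy
  have hvw : hermForm n F q v w = 0 := by
    rw [← herm_conj hF w v, hwv, zero_pow (q_ne_zero hF)]
  simp only [herm_add_left, herm_add_right hF, herm_smul_left, herm_smul_right, hv, hw, hwv, hvw,
    mul_zero, add_zero]

theorem finrank_span_pair (v w : Fin n → F) (hv : v ≠ 0)
    (hw : w ∉ Submodule.span F {v}) : Module.finrank F (Submodule.span F {v, w}) = 2 := by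
  have hli : LinearIndependent F ![v, w] := by
    rw [LinearIndependent.pair_iff' hv]
    intro a ha
    apply hw
    rw [Submodule.mem_span_singleton]
    exact ⟨a, ha⟩
  have := finrank_span_eq_card hli
  rw [Fintype.card_fin] at this
  have h2 : Set.range ![v, w] = {v, w} := by
    ext x
    simp [eq_comm, or_comm]
  rw [h2] at this
  exact this

open scoped Classical in
theorem card_filter_mem (W : Submodule F (Fin n → F)) (k : ℕ)
    (hk : Module.finrank F W = k) :
    (Finset.univ.filter (fun x => x ∈ W)).card = Fintype.card F ^ k := by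
  rw [← Fintype.card_subtype, ← hk]
  exact Module.card_eq_pow_finrank (K := F) (V := ↥W)

noncomputable instance instFintypeSubmodule : Fintype (Submodule F (Fin n → F)) :=
  Fintype.ofFinite _

set_option maxHeartbeats 1000000 in
open scoped Classical in
/-- the totally isotropic lines through an isotropic point -/
theorem lines_through (hF : Fintype.card F = q ^ 2) (v : Fin n → F) (hv : v ≠ 0)
    (hvv : hermForm n F q v v = 0) :
    (Finset.univ.filter (fun W : Submodule F (Fin n → F) =>
      Module.finrank F W = 2 ∧ v ∈ W ∧ TI n F q W)).card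
        * (Fintype.card F ^ 2 - Fintype.card F) + Fintype.card F
      = Nat.card {w : Fin n → F // hermForm n F q w v = 0 ∧ hermForm n F q w w = 0} := by
  obtain ⟨Q, hQ⟩ : ∃ Q, Q = Fintype.card F := ⟨_, rfl⟩
  rw [← hQ]
  have hspan : ∀ w ∈ Submodule.span F {v},
      hermForm n F q w v = 0 ∧ hermForm n F q w w = 0 := by
    intro w hw
    obtain ⟨a, rfl⟩ := Submodule.mem_span_singleton.mp hw
    rw [herm_smul_left, herm_smul_left, herm_smul_right, hvv]
    exact ⟨by ring, by ring⟩
  have hcard := Finset.card_mul_eq_card_mul
    (fun (W : Submodule F (Fin n → F)) (w : Fin n → F) => w ∈ W)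
    (s := Finset.univ.filter (fun W : Submodule F (Fin n → F) =>
      Module.finrank F W = 2 ∧ v ∈ W ∧ TI n F q W))
    (t := Finset.univ.filter (fun w : Fin n → F =>
      (hermForm n F q w v = 0 ∧ hermForm n F q w w = 0) ∧ w ∉ Submodule.span F {v}))
    (m := Q ^ 2 - Q) (n := 1) ?_ ?_
  · have ht : (Finset.univ.filter (fun w : Fin n → F =>
        (hermForm n F q w v = 0 ∧ hermForm n F q w w = 0) ∧ w ∉ Submodule.span F {v})).card + Q
        = Nat.card {w : Fin n → F // hermForm n F q w v = 0 ∧ hermForm n F q w w = 0} := by
      have h0 : (Finset.univ.filter (fun w : Fin n → F =>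
          (hermForm n F q w v = 0 ∧ hermForm n F q w w = 0) ∧ w ∉ Submodule.span F {v})) =
          (Finset.univ.filter (fun w : Fin n → F =>
            hermForm n F q w v = 0 ∧ hermForm n F q w w = 0)) \
            (Finset.univ.filter (fun w => w ∈ Submodule.span F {v})) := by
        ext w
        simp
      have hsub : (Finset.univ.filter (fun w => w ∈ Submodule.span F {v})) ⊆
          (Finset.univ.filter (fun w : Fin n → F =>
            hermForm n F q w v = 0 ∧ hermForm n F q w w = 0)) := by
        intro w hw
        simp only [Finset.mem_filter, Finset.mem_univ, true_and] at hw ⊢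
        exact hspan w hw
      have h1 := card_filter_mem (Submodule.span F {v}) 1 (finrank_span_singleton hv)
      rw [pow_one, ← hQ] at h1
      rw [h0, Finset.card_sdiff_of_subset hsub, h1, Nat.card_eq_fintype_card,
        Fintype.card_subtype]
      have := Finset.card_le_card hsub
      rw [h1] at this
      omega
    rw [mul_one] at hcard
    rw [hcard, ht]
  · intro W hW
    simp only [Finset.mem_filter, Finset.mem_univ, true_and] at hW
    obtain ⟨hW2, hvW, hTI⟩ := hW
    have : Finset.bipartiteAbove (fun (W : Submodule F (Fin n → F))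
        (w : Fin n → F) => w ∈ W) (Finset.univ.filter (fun w : Fin n → F =>
        (hermForm n F q w v = 0 ∧ hermForm n F q w w = 0) ∧ w ∉ Submodule.span F {v})) W =
        (Finset.univ.filter (fun w => w ∈ W)) \
          (Finset.univ.filter (fun w => w ∈ Submodule.span F {v})) := by
      ext w
      simp only [Finset.bipartiteAbove, Finset.mem_filter, Finset.mem_univ, true_and,
        Finset.mem_sdiff]
      constructor
      · rintro ⟨⟨_, h2⟩, h3⟩
        exact ⟨h3, h2⟩
      · rintro ⟨h3, h2⟩
        exact ⟨⟨⟨hTI w h3 v hvW, hTI w h3 w h3⟩, h2⟩, h3⟩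
    have h3 := card_filter_mem W 2 hW2
    have h1 := card_filter_mem (Submodule.span F {v}) 1 (finrank_span_singleton hv)
    rw [this, Finset.card_sdiff_of_subset, h3, h1, ← hQ, pow_one]
    intro w hw
    simp only [Finset.mem_filter, Finset.mem_univ, true_and] at hw ⊢
    exact (Submodule.span_singleton_le_iff_mem v W).mpr hvW hw
  · intro w hw
    simp only [Finset.mem_filter, Finset.mem_univ, true_and] at hw
    obtain ⟨⟨hwv, hww⟩, hwnot⟩ := hw
    rw [Finset.card_eq_one]
    refine ⟨Submodule.span F {v, w}, ?_⟩
    ext W
    simp only [Finset.bipartiteBelow, Finset.mem_filter, Finset.mem_univ, true_and,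
      Finset.mem_singleton]
    constructor
    · rintro ⟨⟨hW2, hvW, _⟩, hwW⟩
      symm
      apply Submodule.eq_of_le_of_finrank_eq
      · rw [Submodule.span_le]
        rintro x (rfl | rfl)
        · exact hvW
        · exact hwW
      · rw [finrank_span_pair v w hv hwnot, hW2]
    · rintro rfl
      refine ⟨⟨finrank_span_pair v w hv hwnot, Submodule.subset_span (by simp),
        span_pair_TI hF v w hvv hww hwv⟩, Submodule.subset_span (by simp)⟩

set_option maxHeartbeats 1000000 in
open scoped Classical in
/-- counting all totally isotropic lines -/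
theorem lines_all (L : ℕ)
    (hL : ∀ v : Fin n → F, v ≠ 0 → hermForm n F q v v = 0 →
      (Finset.univ.filter (fun W : Submodule F (Fin n → F) =>
        Module.finrank F W = 2 ∧ v ∈ W ∧ TI n F q W)).card = L) :
    (Finset.univ.filter (fun W : Submodule F (Fin n → F) =>
      Module.finrank F W = 2 ∧ TI n F q W)).card * (Fintype.card F ^ 2 - 1) + L
      = Nat.card {v : Fin n → F // hermForm n F q v v = 0} * L := by
  obtain ⟨Q, hQ⟩ : ∃ Q, Q = Fintype.card F := ⟨_, rfl⟩
  rw [← hQ]
  have hcard := Finset.card_mul_eq_card_mul
    (fun (W : Submodule F (Fin n → F)) (w : Fin n → F) => w ∈ W)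
    (s := Finset.univ.filter (fun W : Submodule F (Fin n → F) =>
      Module.finrank F W = 2 ∧ TI n F q W))
    (t := Finset.univ.filter (fun w : Fin n → F => hermForm n F q w w = 0 ∧ w ≠ 0))
    (m := Q ^ 2 - 1) (n := L) ?_ ?_
  · have ht : (Finset.univ.filter
        (fun w : Fin n → F => hermForm n F q w w = 0 ∧ w ≠ 0)).card + 1
        = Nat.card {v : Fin n → F // hermForm n F q v v = 0} := by
      have h0 : (Finset.univ.filter (fun w : Fin n → F => hermForm n F q w w = 0 ∧ w ≠ 0))
          = (Finset.univ.filter (fun w : Fin n → F => hermForm n F q w w = 0)).erase 0 := by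
        ext w
        simp [and_comm]
      have hmem : (0 : Fin n → F) ∈
          (Finset.univ.filter (fun w : Fin n → F => hermForm n F q w w = 0)) := by
        simp [herm_zero_left]
      rw [h0, Finset.card_erase_of_mem hmem, Nat.card_eq_fintype_card, Fintype.card_subtype]
      have := Finset.card_pos.mpr ⟨_, hmem⟩
      omega
    rw [hcard, ← ht]
    ring
  · intro W hW
    simp only [Finset.mem_filter, Finset.mem_univ, true_and] at hW
    obtain ⟨hW2, hTI⟩ := hW
    have : Finset.bipartiteAbove (fun (W : Submodule F (Fin n → F))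
        (w : Fin n → F) => w ∈ W)
        (Finset.univ.filter (fun w : Fin n → F => hermForm n F q w w = 0 ∧ w ≠ 0)) W =
        (Finset.univ.filter (fun w => w ∈ W)).erase 0 := by
      ext w
      simp only [Finset.bipartiteAbove, Finset.mem_filter, Finset.mem_univ, true_and,
        Finset.mem_erase]
      constructor
      · rintro ⟨⟨_, h2⟩, h3⟩
        exact ⟨h2, h3⟩
      · rintro ⟨h2, h3⟩
        exact ⟨⟨hTI w h3 w h3, h2⟩, h3⟩
    have h3 := card_filter_mem W 2 hW2
    rw [this, Finset.card_erase_of_mem (by simp), h3, ← hQ]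
  · intro v hv
    simp only [Finset.mem_filter, Finset.mem_univ, true_and] at hv
    rw [← hL v hv.2 hv.1]
    congr 1
    ext W
    simp only [Finset.bipartiteBelow, Finset.mem_filter, Finset.mem_univ, true_and]
    tauto

end Cfsg.Agent.helper11.HermLines
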