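import Mathlib

set_option autoImplicit false
set_option linter.unusedSectionVars false
set_option linter.unusedSimpArgs false

/-!
# Solubilizers in `PSL₂(3^p)`: general group-theoretic lemmas
-/

namespace Cfsg.Agent.helper11.Sol3

section general
variable {G : Type*} [Group G]

theorem closure_comm {S : Set G} (h : ∀ a ∈ S, ∀ b ∈ S, a * b = b * a) :
    ∀ a ∈ Subgroup.closure S, ∀ b ∈ Subgroup.closure S, a * b = b * a := by
  have h1 : ∀ a ∈ S, Subgroup.closure S ≤ Subgroup.centralizer {a} := by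
    intro a ha
    rw [Subgroup.closure_le]
    intro b hb
    rw [SetLike.mem_coe, Subgroup.mem_centralizer_singleton_iff]
    exact h b hb a ha
  intro a ha b hb
  have h2 : Subgroup.closure S ≤ Subgroup.centralizer {b} := by
    rw [Subgroup.closure_le]
    intro c hc
    have := h1 c hc hb
    rw [Subgroup.mem_centralizer_singleton_iff] at this
    rw [SetLike.mem_coe, Subgroup.mem_centralizer_singleton_iff]
    exact this.symm
  have := h2 ha
  rw [Subgroup.mem_centralizer_singleton_iff] at this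
  exact this

theorem closure_pair_ne_top_of_le {x y : G} (M : Subgroup G) (hM : M ≠ ⊤) (hx : x ∈ M) (hy : y ∈ M) :
    Subgroup.closure ({x, y} : Set G) ≠ ⊤ := by
  intro h
  apply hM
  rw [eq_top_iff, ← h, Subgroup.closure_le]
  intro z hz
  rcases hz with rfl | rfl
  · exact hx
  · exact hy

variable [IsSimpleGroup G]

theorem closure_pair_ne_top_of_commute (hnc : ¬ ∀ a b : G, a * b = b * a) {x y : G}
    (h : x * y = y * x) : Subgroup.closure ({x, y} : Set G) ≠ ⊤ := by
  intro htop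
  apply hnc
  have hc := closure_comm (S := ({x, y} : Set G)) (by
    intro a ha b hb
    rcases ha with rfl | rfl <;> rcases hb with rfl | rfl
    · rfl
    · exact h
    · exact h.symm
    · rfl)
  intro a b
  exact hc a (by rw [htop]; exact Subgroup.mem_top _) b (by rw [htop]; exact Subgroup.mem_top _)

theorem closure_pair_ne_top_of_normalizer (hnc : ¬ ∀ a b : G, a * b = b * a) (V : Subgroup G)
    (hV : ∀ a ∈ V, ∀ b ∈ V, a * b = b * a) (hV1 : V ≠ ⊥) {x y : G}
    (hx : x ∈ Subgroup.normalizer (V : Set G)) (hy : y ∈ Subgroup.normalizer (V : Set G)) :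
    Subgroup.closure ({x, y} : Set G) ≠ ⊤ := by
  apply closure_pair_ne_top_of_le _ _ hx hy
  intro htop
  have hn : V.Normal := Subgroup.normalizer_eq_top_iff.mp htop
  rcases hn.eq_bot_or_eq_top with h | h
  · exact hV1 h
  · apply hnc
    intro a b
    exact hV a (by rw [h]; exact Subgroup.mem_top _) b (by rw [h]; exact Subgroup.mem_top _)

theorem mem_normalizer_zpowers {z g : G} (h : g * z * g⁻¹ = z ∨ g * z * g⁻¹ = z⁻¹) :
    g ∈ Subgroup.normalizer ((Subgroup.zpowers z : Subgroup G) : Set G) := by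
  rw [Subgroup.mem_normalizer_iff_map_conj_eq]
  have h1 : (Subgroup.zpowers z).map ((MulAut.conj g : G ≃* G) : G →* G) = Subgroup.zpowers (g * z * g⁻¹) := by
    rw [MonoidHom.map_zpowers]
    rfl
  have h2 : (Subgroup.zpowers z).map (MulAut.conj g) = (Subgroup.zpowers z).map ((MulAut.conj g : G ≃* G) : G →* G) := rfl
  rw [h2, h1]
  rcases h with h | h
  · rw [h]
  · rw [h, Subgroup.zpowers_inv]

theorem closure_pair_ne_top_of_inv (hnc : ¬ ∀ a b : G, a * b = b * a) {x y z : G} (hz : z ≠ 1)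
    (hx : x * z * x⁻¹ = z ∨ x * z * x⁻¹ = z⁻¹) (hy : y * z * y⁻¹ = z ∨ y * z * y⁻¹ = z⁻¹) :
    Subgroup.closure ({x, y} : Set G) ≠ ⊤ := by
  apply closure_pair_ne_top_of_normalizer hnc (Subgroup.zpowers z) _ _
    (mem_normalizer_zpowers hx) (mem_normalizer_zpowers hy)
  · intro a ha b hb
    obtain ⟨i, rfl⟩ := Subgroup.mem_zpowers_iff.mp ha
    obtain ⟨j, rfl⟩ := Subgroup.mem_zpowers_iff.mp hb
    rw [← zpow_add, ← zpow_add, add_comm]
  · intro h
    apply hz
    have : z ∈ Subgroup.zpowers z := Subgroup.mem_zpowers z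
    rw [h, Subgroup.mem_bot] at this
    exact this

/-- two involutions generate a proper subgroup -/
theorem closure_pair_ne_top_of_invol (hnc : ¬ ∀ a b : G, a * b = b * a) {x y : G}
    (hx : x * x = 1) (hy : y * y = 1) : Subgroup.closure ({x, y} : Set G) ≠ ⊤ := by
  have hxi : x⁻¹ = x := inv_eq_of_mul_eq_one_right hx
  have hyi : y⁻¹ = y := inv_eq_of_mul_eq_one_right hy
  by_cases hz : x * y = 1
  · have hxy : x = y := by
      have := eq_inv_of_mul_eq_one_left hz
      rw [hyi] at this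
      exact this
    exact closure_pair_ne_top_of_commute hnc (by rw [hxy])
  · apply closure_pair_ne_top_of_inv hnc hz
    · right
      rw [mul_inv_rev, hxi, hyi, ← mul_assoc, hx, one_mul]
    · right
      rw [mul_inv_rev, hxi, hyi, mul_assoc, mul_assoc, hy, mul_one]

/-- `x` inverts `y` -/
theorem closure_pair_ne_top_of_inverts (hnc : ¬ ∀ a b : G, a * b = b * a) {x y : G}
    (h : x * y * x⁻¹ = y⁻¹) : Subgroup.closure ({x, y} : Set G) ≠ ⊤ := by
  by_cases hy : y = 1
  · apply closure_pair_ne_top_of_commute hnc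
    rw [hy, mul_one, one_mul]
  · apply closure_pair_ne_top_of_inv hnc hy (Or.inr h)
    left
    rw [mul_inv_cancel_right]

/-- `A₄`-type relations: `t² = 1`, `x³ = 1`, `(t x)³ = 1` -/
theorem closure_pair_ne_top_A4 (hnc : ¬ ∀ a b : G, a * b = b * a) {t x : G}
    (ht : t * t = 1) (ht1 : t ≠ 1) (hx : x ^ 3 = 1) (htx : (t * x) ^ 3 = 1) :
    Subgroup.closure ({t, x} : Set G) ≠ ⊤ := by
  have hti : t⁻¹ = t := inv_eq_of_mul_eq_one_right ht
  have hxi : x⁻¹ = x * x := by
    apply inv_eq_of_mul_eq_one_right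
    rw [← mul_assoc, ← pow_two, ← pow_succ, hx]
  have hx3 : x * x * x = 1 := by rw [← pow_two, ← pow_succ]; exact hx
  -- `t x t x = x x t`
  have h4 : t * x * (t * x) = x * x * t := by
    have h5 : t * x * (t * x) * (t * x) = 1 := by
      rw [← htx, pow_succ, pow_two]
    have h6 := eq_inv_of_mul_eq_one_left h5
    rw [h6, mul_inv_rev, hti, hxi]
  obtain ⟨a, ha⟩ : ∃ a, a = t := ⟨_, rfl⟩
  obtain ⟨b, hb⟩ : ∃ b, b = x * t * x⁻¹ := ⟨_, rfl⟩
  obtain ⟨c, hc⟩ : ∃ c, c = x⁻¹ * t * x := ⟨_, rfl⟩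
  have haa : a * a = 1 := by rw [ha]; exact ht
  have hbb : b * b = 1 := by
    rw [hb]
    calc x * t * x⁻¹ * (x * t * x⁻¹) = x * (t * t) * x⁻¹ := by group
      _ = 1 := by rw [ht]; group
  have hcc : c * c = 1 := by
    rw [hc]
    calc x⁻¹ * t * x * (x⁻¹ * t * x) = x⁻¹ * (t * t) * x := by group
      _ = 1 := by rw [ht]; group
  have hab : a * b = c := by
    rw [ha, hb, hc, hxi]
    calc t * (x * t * (x * x)) = t * x * (t * x) * x := by simp only [mul_assoc]
      _ = x * x * t * x := by rw [h4]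
  have hai : a⁻¹ = a := inv_eq_of_mul_eq_one_right haa
  have hbi : b⁻¹ = b := inv_eq_of_mul_eq_one_right hbb
  have hci : c⁻¹ = c := inv_eq_of_mul_eq_one_right hcc
  have hba : b * a = c := by
    have := congrArg (fun g => g⁻¹) hab
    simp only [mul_inv_rev, hai, hbi, hci] at this
    exact this
  have hac : a * c = b := by rw [← hab, ← mul_assoc, haa, one_mul]
  have hca : c * a = b := by rw [← hba, mul_assoc, haa, mul_one]
  have hbc : b * c = a := by rw [← hba, ← mul_assoc, hbb, one_mul]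
  have hcb : c * b = a := by rw [← hab, mul_assoc, hbb, mul_one]
  obtain ⟨V, hV⟩ : ∃ V : Subgroup G, V = Subgroup.closure ({a, b, c} : Set G) := ⟨_, rfl⟩
  have hVc : ∀ u ∈ V, ∀ v ∈ V, u * v = v * u := by
    rw [hV]
    apply closure_comm
    intro u hu v hv
    rcases hu with rfl | rfl | rfl <;> rcases hv with rfl | rfl | rfl
    · rfl
    · rw [hab, hba]
    · rw [hac, hca]
    · rw [hab, hba]
    · rfl
    · rw [hbc, hcb]
    · rw [hac, hca]
    · rw [hbc, hcb]
    · rfl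
  have haV : a ∈ V := by rw [hV]; exact Subgroup.subset_closure (by simp)
  have hV1 : V ≠ ⊥ := by
    intro h
    rw [h, Subgroup.mem_bot] at haV
    exact ht1 (ha ▸ haV)
  have hxa : x * a * x⁻¹ = b := by rw [ha, hb]
  have hxb : x * b * x⁻¹ = c := by
    rw [hb, hc]
    have : x⁻¹ = x * x := hxi
    calc x * (x * t * x⁻¹) * x⁻¹ = (x * x) * t * (x⁻¹ * x⁻¹) := by group
      _ = x⁻¹ * t * x := by
          rw [← hxi]
          congr 1
          rw [hxi]
          calc x * x * (x * x) = (x * x * x) * x := by simp only [mul_assoc]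
            _ = x := by rw [hx3, one_mul]
  have hxc : x * c * x⁻¹ = a := by
    rw [hc, ha]; group
  have htN : t ∈ Subgroup.normalizer (V : Set G) := by
    apply Subgroup.le_normalizer
    rw [← ha]; exact haV
  have hxN : x ∈ Subgroup.normalizer (V : Set G) := by
    rw [hV]
    apply Subgroup.normalizer_le_normalizer_closure
    rw [Subgroup.mem_normalizer_iff_conj_image_eq]
    rw [Set.image_insert_eq, Set.image_insert_eq, Set.image_singleton]
    simp only [MulAut.conj_apply]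
    rw [hxa, hxb, hxc]
    ext g
    simp only [Set.mem_insert_iff, Set.mem_singleton_iff]
    tauto
  exact closure_pair_ne_top_of_normalizer hnc V hVc hV1 htN hxN

end general

/-! ### The relations holding in dihedral groups, `A₄`, and Borel-type groups -/

section relations
variable {H K : Type*} [Group H] [Group K]

/-- relations between two elements of a dihedral group -/
def DRel (x y : H) : Prop :=
  x * y = y * x ∨ (y * y = 1 ∧ y * x * y⁻¹ = x⁻¹) ∨ (x * x = 1 ∧ x * y * x⁻¹ = y⁻¹) ∨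
    (x * x = 1 ∧ y * y = 1)

theorem DRel_iff (φ : H →* K) (hφ : Function.Injective φ) (x y : H) :
    DRel (φ x) (φ y) ↔ DRel x y := by
  simp only [DRel, ← map_mul, ← map_inv, hφ.eq_iff, map_eq_one_iff φ hφ]

theorem dihedral_DRel (k : ℕ) (a b : DihedralGroup k) : DRel a b := by
  unfold DRel
  cases a with
  | r i =>
    cases b with
    | r j => left; simp [add_comm]
    | sr j => right; left; simp
  | sr i =>
    cases b with
    | r j => right; right; left; simp
    | sr j => right; right; right; simp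

/-- relations between two elements of `A₄` -/
def ARel (x y : H) : Prop :=
  (x = 1 ∨ x * x = 1 ∨ x ^ 3 = 1) ∧ (y = 1 ∨ y * y = 1 ∨ y ^ 3 = 1) ∧
  (x * x ≠ 1 ∨ x = 1 ∨ y ^ 3 ≠ 1 ∨ y = 1 ∨ (x * y) ^ 3 = 1) ∧
  (y * y ≠ 1 ∨ y = 1 ∨ x ^ 3 ≠ 1 ∨ x = 1 ∨ (y * x) ^ 3 = 1) ∧
  (x ^ 3 ≠ 1 ∨ x = 1 ∨ y ^ 3 ≠ 1 ∨ y = 1 ∨ (y * x⁻¹) * (y * x⁻¹) = 1 ∨ (y * x) * (y * x) = 1)

theorem ARel_iff (φ : H →* K) (hφ : Function.Injective φ) (x y : H) :
    ARel (φ x) (φ y) ↔ ARel x y := by
  simp only [ARel, ← map_mul, ← map_inv, ← map_pow, hφ.eq_iff, map_eq_one_iff φ hφ, ne_eq]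

set_option maxRecDepth 100000 in
theorem a4_fact0 : ∀ a : alternatingGroup (Fin 4), a = 1 ∨ a * a = 1 ∨ a ^ 3 = 1 := by decide

set_option maxRecDepth 100000 in
theorem a4_fact1 : ∀ a : alternatingGroup (Fin 4), ∀ b : alternatingGroup (Fin 4),
    a * a ≠ 1 ∨ a = 1 ∨ b ^ 3 ≠ 1 ∨ b = 1 ∨ (a * b) ^ 3 = 1 := by decide

set_option maxRecDepth 100000 in
theorem a4_fact2 : ∀ a : alternatingGroup (Fin 4), ∀ b : alternatingGroup (Fin 4),
    a ^ 3 ≠ 1 ∨ a = 1 ∨ b ^ 3 ≠ 1 ∨ b = 1 ∨ (b * a⁻¹) * (b * a⁻¹) = 1 ∨ (b * a) * (b * a) = 1 := by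
  decide

theorem a4_ARel (a b : alternatingGroup (Fin 4)) : ARel a b :=
  ⟨a4_fact0 a, a4_fact0 b, a4_fact1 a b, a4_fact1 b a, a4_fact2 a b⟩

/-- relations between two elements of a Borel-type group -/
def BRel (m : ℕ) (x y : H) : Prop :=
  x ^ m = 1 ∧ y ^ m = 1 ∧ (x ^ 3 = 1 → (y * x * y⁻¹) * x = x * (y * x * y⁻¹)) ∧
  (x * y * x⁻¹ * y⁻¹) ^ 3 = 1 ∧
  (x * (x * y * x⁻¹ * y⁻¹) * x⁻¹) * (x * y * x⁻¹ * y⁻¹) =
    (x * y * x⁻¹ * y⁻¹) * (x * (x * y * x⁻¹ * y⁻¹) * x⁻¹) ∧
  (y * (x * y * x⁻¹ * y⁻¹) * y⁻¹) * (x * y * x⁻¹ * y⁻¹) =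
    (x * y * x⁻¹ * y⁻¹) * (y * (x * y * x⁻¹ * y⁻¹) * y⁻¹)

theorem BRel_iff (m : ℕ) (φ : H →* K) (hφ : Function.Injective φ) (x y : H) :
    BRel m (φ x) (φ y) ↔ BRel m x y := by
  simp only [BRel, ← map_mul, ← map_inv, ← map_pow, hφ.eq_iff, map_eq_one_iff φ hφ]

end relations

end Cfsg.Agent.helper11.Sol3
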