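import Mathlib

set_option autoImplicit false

namespace Cfsg.Agent.helper1

open DihedralGroup

section
variable {G : Type*} [Group G] (x y : G)

/-- exponent map from `ZMod (orderOf a)`, additive version -/
noncomputable def zexpAdd (a : G) : ZMod (orderOf a) →+ Additive G :=
  ZMod.lift (orderOf a) ⟨zmultiplesHom (Additive G) (Additive.ofMul a), by
    change ((orderOf a : ℕ) : ℤ) • Additive.ofMul a = 0
    rw [natCast_zsmul, ← ofMul_pow, pow_orderOf_eq_one]; rfl⟩

/-- exponent map from `ZMod (orderOf a)` -/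
noncomputable def zexp (a : G) (i : ZMod (orderOf a)) : G := (zexpAdd a i).toMul

theorem zexp_intCast (a : G) (k : ℤ) : zexp a (k : ZMod (orderOf a)) = a ^ k := by
  unfold zexp zexpAdd
  rw [ZMod.lift_coe]
  change (k • Additive.ofMul a).toMul = a ^ k
  rw [← ofMul_zpow]; rfl

theorem zexp_add (a : G) (i j : ZMod (orderOf a)) :
    zexp a (i + j) = zexp a i * zexp a j := by
  unfold zexp
  rw [map_add]; rfl

theorem zexp_zero (a : G) : zexp a 0 = 1 := by
  unfold zexp
  rw [map_zero]; rfl

theorem zexp_neg (a : G) (i : ZMod (orderOf a)) :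
    zexp a (-i) = (zexp a i)⁻¹ := by
  unfold zexp
  rw [map_neg]; rfl

theorem zexp_sub (a : G) (i j : ZMod (orderOf a)) :
    zexp a (i - j) = zexp a i * (zexp a j)⁻¹ := by
  rw [sub_eq_add_neg, zexp_add, zexp_neg]

theorem zexp_comm (a : G) (i j : ZMod (orderOf a)) :
    zexp a i * zexp a j = zexp a j * zexp a i := by
  rw [← zexp_add, ← zexp_add, add_comm]

theorem zexp_eq_one_iff (a : G) (i : ZMod (orderOf a)) : zexp a i = 1 ↔ i = 0 := by
  obtain ⟨k, rfl⟩ := ZMod.intCast_surjective i
  rw [zexp_intCast, ← orderOf_dvd_iff_zpow_eq_one, ZMod.intCast_zmod_eq_zero_iff_dvd]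

theorem zexp_mem_zpowers (a : G) (i : ZMod (orderOf a)) : zexp a i ∈ Subgroup.zpowers a := by
  obtain ⟨k, rfl⟩ := ZMod.intCast_surjective i
  rw [zexp_intCast]
  exact Subgroup.zpow_mem_zpowers a k

theorem conj_zexp (hx : x * x = 1) (hy : y * y = 1) (i : ZMod (orderOf (x * y))) :
    x * zexp (x * y) i * x = (zexp (x * y) i)⁻¹ := by
  obtain ⟨k, rfl⟩ := ZMod.intCast_surjective i
  rw [zexp_intCast]
  have hxinv : x⁻¹ = x := inv_eq_of_mul_eq_one_left hx
  have hyinv : y⁻¹ = y := inv_eq_of_mul_eq_one_left hy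
  have h1 : MulAut.conj x (x * y) = (x * y)⁻¹ := by
    rw [MulAut.conj_apply, mul_inv_rev, hxinv, hyinv, mul_assoc, mul_assoc, ← mul_assoc x x, hx, one_mul]
  have h2 := map_zpow (MulAut.conj x) (x * y) k
  rw [h1, MulAut.conj_apply, hxinv, inv_zpow] at h2
  exact h2

theorem zexp_mul_x (hx : x * x = 1) (hy : y * y = 1) (i : ZMod (orderOf (x * y))) :
    zexp (x * y) i * x = x * (zexp (x * y) i)⁻¹ := by
  rw [← conj_zexp x y hx hy i]
  simp only [mul_assoc]
  rw [← mul_assoc x x, hx, one_mul]

/-- the underlying function of the homomorphism from the dihedral group -/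
noncomputable def dihedralFun : DihedralGroup (orderOf (x * y)) → G
  | r i => zexp (x * y) i
  | sr i => x * zexp (x * y) i

/-- the homomorphism from the dihedral group -/
noncomputable def dihedralHom (hx : x * x = 1) (hy : y * y = 1) :
    DihedralGroup (orderOf (x * y)) →* G :=
  MonoidHom.mk' (dihedralFun x y) (by
    have hc := conj_zexp x y hx hy
    rintro (i | i) (j | j)
    · change zexp (x * y) (i + j) = zexp (x * y) i * zexp (x * y) j
      rw [zexp_add]
    · change x * zexp (x * y) (j - i) = zexp (x * y) i * (x * zexp (x * y) j)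
      rw [zexp_sub, ← mul_assoc (zexp (x * y) i), zexp_mul_x x y hx hy, mul_assoc]
      congr 1
      rw [← zexp_neg]
      exact zexp_comm _ _ _
    · change x * zexp (x * y) (i + j) = x * zexp (x * y) i * zexp (x * y) j
      rw [zexp_add, mul_assoc]
    · change zexp (x * y) (j - i) = x * zexp (x * y) i * (x * zexp (x * y) j)
      rw [← mul_assoc, hc i, zexp_sub, ← zexp_neg]
      exact zexp_comm _ _ _)

theorem dihedralHom_r (hx : x * x = 1) (hy : y * y = 1) (i : ZMod (orderOf (x * y))) :
    dihedralHom x y hx hy (r i) = zexp (x * y) i := rfl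

theorem dihedralHom_sr (hx : x * x = 1) (hy : y * y = 1) (i : ZMod (orderOf (x * y))) :
    dihedralHom x y hx hy (sr i) = x * zexp (x * y) i := rfl

theorem dihedralHom_injective (hx : x * x = 1) (hy : y * y = 1) (hx1 : x ≠ 1) (hy1 : y ≠ 1) :
    Function.Injective (dihedralHom x y hx hy) := by
  rw [injective_iff_map_eq_one]
  rintro (i | i) h
  · rw [dihedralHom_r, zexp_eq_one_iff] at h
    rw [h]; rfl
  · exfalso
    rw [dihedralHom_sr] at h
    have hxinv : x⁻¹ = x := inv_eq_of_mul_eq_one_left hx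
    have hyinv : y⁻¹ = y := inv_eq_of_mul_eq_one_left hy
    -- x = (zexp i)⁻¹
    have h1 : zexp (x * y) i = x := by
      have : zexp (x * y) i = x⁻¹ := eq_inv_of_mul_eq_one_right h
      rw [this, hxinv]
    have hm : x ∈ Subgroup.zpowers (x * y) := by
      have := zexp_mem_zpowers (x * y) i
      rwa [h1] at this
    obtain ⟨k, hk⟩ := Subgroup.mem_zpowers_iff.mp hm
    -- x commutes with x*y
    have h2 : x * (x * y) = (x * y) * x := by
      have : Commute ((x * y) ^ k) (x * y) := (Commute.refl (x * y)).zpow_left k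
      rw [hk] at this
      exact this.eq
    have h3 : y = x * y * x := by
      rw [← h2, ← mul_assoc, hx, one_mul]
    have h4 : (x * y) ^ (2 : ℤ) = 1 := by
      rw [zpow_two]
      calc x * y * (x * y) = (x * y * x) * y := by simp only [mul_assoc]
        _ = 1 := by rw [← h3, hy]
    have h5 : (x * y) ^ k = (x * y) ^ (k % 2) := by
      conv_lhs => rw [← Int.mul_ediv_add_emod k 2, zpow_add, zpow_mul, h4, one_zpow, one_mul]
    rw [h5] at hk
    rcases Int.emod_two_eq_zero_or_one k with h6 | h6
    · rw [h6, zpow_zero] at hk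
      exact hx1 hk.symm
    · rw [h6, zpow_one] at hk
      apply hy1
      calc y = x * (x * y) := by rw [← mul_assoc, hx, one_mul]
        _ = 1 := by rw [hk, hx]

theorem zexp_one (a : G) : zexp a 1 = a := by
  have := zexp_intCast a 1
  rwa [Int.cast_one, zpow_one] at this

theorem dihedralHom_range (hx : x * x = 1) (hy : y * y = 1) :
    (dihedralHom x y hx hy).range = Subgroup.closure ({x, y} : Set G) := by
  have hxm : x ∈ Subgroup.closure ({x, y} : Set G) := Subgroup.subset_closure (by simp)
  have hym : y ∈ Subgroup.closure ({x, y} : Set G) := Subgroup.subset_closure (by simp)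
  have hz : Subgroup.zpowers (x * y) ≤ Subgroup.closure ({x, y} : Set G) := by
    rw [Subgroup.zpowers_le]
    exact Subgroup.mul_mem _ hxm hym
  apply le_antisymm
  · rintro _ ⟨(i | i), rfl⟩
    · rw [dihedralHom_r]
      exact hz (zexp_mem_zpowers _ _)
    · rw [dihedralHom_sr]
      exact Subgroup.mul_mem _ hxm (hz (zexp_mem_zpowers _ _))
  · rw [Subgroup.closure_le]
    rintro z (rfl | rfl)
    · refine ⟨sr 0, ?_⟩
      rw [dihedralHom_sr, zexp_zero, mul_one]
    · refine ⟨sr 1, ?_⟩
      rw [dihedralHom_sr, zexp_one, ← mul_assoc, hx, one_mul]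

/-- the isomorphism -/
noncomputable def dihedralEquiv (hx : x * x = 1) (hy : y * y = 1) (hx1 : x ≠ 1) (hy1 : y ≠ 1) :
    DihedralGroup (orderOf (x * y)) ≃* Subgroup.closure ({x, y} : Set G) :=
  (MonoidHom.ofInjective (dihedralHom_injective x y hx hy hx1 hy1)).trans
    (MulEquiv.subgroupCongr (dihedralHom_range x y hx hy))

theorem sq_eq_one_of_orderOf_eq_two {z : G} (h : orderOf z = 2) : z * z = 1 := by
  rw [← pow_two, ← h, pow_orderOf_eq_one]

theorem ne_one_of_orderOf_eq_two {z : G} (h : orderOf z = 2) : z ≠ 1 := by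
  rintro rfl
  simp at h

end

end Cfsg.Agent.helper1
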