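import Mathlib
import Cfsg.Agent.Lib_helper4_DkG

set_option autoImplicit false
set_option linter.unusedSectionVars false

/-!
# Two `p`-elements of `SL₂(K)` not generating a `p`-group give `SL₂(p)`
-/

namespace Cfsg.Agent.helper4.Dk

open Matrix
open scoped LinearAlgebra.Projectivization MatrixGroups

variable {K : Type*} [Field K]

theorem tr_eq_two_of_pow [IsAlgClosed K] {p : ℕ} [Fact p.Prime] [CharP K p] (h2 : (2 : K) ≠ 0)
    (g : SpecialLinearGroup (Fin 2) K) (k : ℕ) (hg : g ^ p ^ k = 1) : tr g = 2 := by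
  obtain ⟨σ, hσ0, hσtr, hσpow⟩ := exists_eigen h2 g
  have h1 := hσpow _ hg
  have h3 : (σ - 1) ^ p ^ k = 0 := by rw [sub_pow_char_pow, h1, one_pow, sub_self]
  have h4 : σ = 1 := sub_eq_zero.mp (pow_eq_zero_iff (pow_ne_zero k (Fact.out : p.Prime).ne_zero) |>.mp h3)
  rw [hσtr, h4]; norm_num

theorem eq_uS_of_fix (g : SpecialLinearGroup (Fin 2) K)
    (hfix : g • (pInf : ℙ K (Fin 2 → K)) = pInf) (htr : tr g = 2) : g = uS (g 0 1) := by
  have h10 := (fixed_pInf_iff g).mp hfix
  have hd := diag_mul_of_tri g h10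
  apply eq_uS_of g h10
  unfold tr at htr
  have : (g 0 0 - 1) ^ 2 = 0 := by
    have h11 : g 1 1 = 2 - g 0 0 := by linear_combination htr
    rw [h11] at hd
    linear_combination -hd
  exact sub_eq_zero.mp (pow_eq_zero_iff (by norm_num) |>.mp this)

theorem fixed_pt_zero_iff (g : SpecialLinearGroup (Fin 2) K) :
    g • (pt 0 : ℙ K (Fin 2 → K)) = pt 0 ↔ g 0 1 = 0 := by
  constructor
  · intro h
    by_cases h11 : g 1 0 * 0 + g 1 1 = 0
    · rw [smul_pt_of_eq g 0 h11] at h
      exact absurd h.symm (pt_ne_pInf 0)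
    · rw [smul_pt_of_ne g 0 h11] at h
      have := pt_injective h
      rw [mul_zero, zero_add, mul_zero, zero_add] at this
      rw [mul_zero, zero_add] at h11
      exact (div_eq_zero_iff.mp this).resolve_right h11
  · intro h
    have hd := det_eq g
    rw [h, zero_mul, sub_zero] at hd
    have h11 : g 1 0 * 0 + g 1 1 ≠ 0 := by
      rw [mul_zero, zero_add]
      intro h0; rw [h0, mul_zero] at hd; exact zero_ne_one hd
    rw [smul_pt_of_ne g 0 h11, h]
    congr 1
    simp

theorem eq_lS_of_fix (g : SpecialLinearGroup (Fin 2) K)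
    (hfix : g • (pt 0 : ℙ K (Fin 2 → K)) = pt 0) (htr : tr g = 2) : g = lS (g 1 0) := by
  have h01 := (fixed_pt_zero_iff g).mp hfix
  have hd := det_eq g
  rw [h01, zero_mul, sub_zero] at hd
  unfold tr at htr
  have h11 : g 1 1 = 2 - g 0 0 := by linear_combination htr
  have h00 : g 0 0 = 1 := by
    have : (g 0 0 - 1) ^ 2 = 0 := by
      rw [h11] at hd
      linear_combination -hd
    exact sub_eq_zero.mp (pow_eq_zero_iff (by norm_num) |>.mp this)
  have h11' : g 1 1 = 1 := by rw [h11, h00]; norm_num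
  apply sl_ext' <;> simp [h01, h00, h11']

theorem exists_two_trans {y₁ y₂ : ℙ K (Fin 2 → K)} (h : y₁ ≠ y₂) :
    ∃ c : SpecialLinearGroup (Fin 2) K, c • (pInf : ℙ K (Fin 2 → K)) = y₁ ∧
      c • (pt 0 : ℙ K (Fin 2 → K)) = y₂ := by
  obtain ⟨s, hs⟩ := exists_smul_pInf y₁
  rcases eq_pInf_or_pt (s⁻¹ • y₂) with h1 | ⟨z, hz⟩
  · exfalso
    apply h
    rw [← hs, ← h1, smul_inv_smul]
  · refine ⟨s * uS z, ?_, ?_⟩
    · rw [mul_smul, smul_pInf_of_eq (uS z) (by simp), hs]
    · rw [mul_smul, uS_smul_pt, zero_add, ← hz, smul_inv_smul]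

/-- the group of upper unitriangular matrices -/
def UU (K : Type*) [Field K] : Subgroup (SpecialLinearGroup (Fin 2) K) where
  carrier := {g | ∃ a, g = uS a}
  mul_mem' := by
    rintro _ _ ⟨a, rfl⟩ ⟨b, rfl⟩
    exact ⟨a + b, (uS_add a b).symm⟩
  one_mem' := ⟨0, uS_zero.symm⟩
  inv_mem' := by
    rintro _ ⟨a, rfl⟩
    exact ⟨-a, uS_inv a⟩

theorem isPGroup_UU {p : ℕ} [Fact p.Prime] [CharP K p] : IsPGroup p (UU K) := by
  rintro ⟨_, ⟨a, rfl⟩⟩
  refine ⟨1, ?_⟩
  apply Subtype.ext
  have h : ∀ n : ℕ, uS a ^ n = uS (n * a) := by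
    intro n
    induction n with
    | zero => simp [uS_zero]
    | succ n ih =>
      rw [pow_succ, ih, ← uS_add]
      congr 1
      push_cast
      ring
  simp only [pow_one, Subgroup.coe_pow, Subgroup.coe_one]
  rw [h, CharP.cast_eq_zero, zero_mul, uS_zero]

/-- **two `p`-elements not generating a `p`-group** -/
theorem exists_sl2p_of_not_pgroup [IsAlgClosed K] {p : ℕ} [Fact p.Prime] [CharP K p] (hp2 : p ≠ 2)
    (H : Subgroup (SpecialLinearGroup (Fin 2) K)) [Finite H]
    {x x' : SpecialLinearGroup (Fin 2) K} (hx : x ∈ H) (hx' : x' ∈ H) {k k' : ℕ}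
    (hxp : x ^ p ^ k = 1) (hxp' : x' ^ p ^ k' = 1)
    (hnp : ¬ IsPGroup p (Subgroup.closure ({x, x'} : Set (SpecialLinearGroup (Fin 2) K)))) :
    ∃ f : SpecialLinearGroup (Fin 2) (ZMod p) →* SpecialLinearGroup (Fin 2) K,
      Function.Injective f ∧ f.range ≤ H := by
  have hpp : p.Prime := Fact.out
  have h2 : (2 : K) ≠ 0 := by
    intro h
    have h' : ((2 : ℕ) : K) = 0 := by exact_mod_cast h
    rw [CharP.cast_eq_zero_iff K p 2] at h'
    exact hp2 ((Nat.prime_dvd_prime_iff_eq hpp Nat.prime_two).mp h')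
  have htr := tr_eq_two_of_pow h2 x k hxp
  have htr' := tr_eq_two_of_pow h2 x' k' hxp'
  obtain ⟨y, hy⟩ := exists_fixed h2 x
  obtain ⟨y', hy'⟩ := exists_fixed h2 x'
  -- x, x' are nontrivial
  have hx1 : x ≠ 1 := by
    rintro rfl
    apply hnp
    have : Subgroup.closure ({1, x'} : Set (SpecialLinearGroup (Fin 2) K)) = Subgroup.zpowers x' := by
      rw [Subgroup.zpowers_eq_closure]
      apply le_antisymm
      · rw [Subgroup.closure_le]
        rintro z (rfl | rfl)
        · exact Subgroup.one_mem _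
        · exact Subgroup.subset_closure rfl
      · exact Subgroup.closure_mono (by simp)
    rw [this]
    rintro ⟨_, ⟨n, rfl⟩⟩
    refine ⟨k', ?_⟩
    apply Subtype.ext
    simp only [Subgroup.coe_pow, Subgroup.coe_one]
    rw [← zpow_natCast, ← _root_.zpow_mul, mul_comm, _root_.zpow_mul, zpow_natCast, hxp', _root_.one_zpow]
  -- distinct fixed points
  have hyy : y ≠ y' := by
    rintro rfl
    apply hnp
    obtain ⟨s, rfl⟩ := exists_smul_pInf y
    have hle : Subgroup.closure ({x, x'} : Set (SpecialLinearGroup (Fin 2) K)) ≤ cjS s (UU K) := by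
      rw [Subgroup.closure_le]
      rintro z (rfl | rfl)
      · rw [SetLike.mem_coe, mem_cjS]
        have hfix : (s⁻¹ * z * s) • (pInf : ℙ K (Fin 2 → K)) = pInf := by
          rw [mul_smul, mul_smul, hy, inv_smul_smul]
        have htr2 : tr (s⁻¹ * z * s) = 2 := by
          have := tr_conj s⁻¹ z
          rw [inv_inv] at this
          rw [this, htr]
        exact ⟨_, eq_uS_of_fix _ hfix htr2⟩
      · rw [SetLike.mem_coe, mem_cjS]
        have hfix : (s⁻¹ * z * s) • (pInf : ℙ K (Fin 2 → K)) = pInf := by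
          rw [mul_smul, mul_smul, hy', inv_smul_smul]
        have htr2 : tr (s⁻¹ * z * s) = 2 := by
          have := tr_conj s⁻¹ z
          rw [inv_inv] at this
          rw [this, htr']
        exact ⟨_, eq_uS_of_fix _ hfix htr2⟩
    have hP : IsPGroup p (cjS s (UU K)) := by
      unfold cjS
      exact (isPGroup_UU (p := p)).comap_of_injective _ (MulAut.conj s⁻¹).injective
    exact hP.to_le hle
  obtain ⟨c, hc1, hc2⟩ := exists_two_trans hyy
  -- conjugate
  have hfix1 : (c⁻¹ * x * c) • (pInf : ℙ K (Fin 2 → K)) = pInf := by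
    rw [mul_smul, mul_smul, hc1, hy, ← hc1, inv_smul_smul]
  have hfix2 : (c⁻¹ * x' * c) • (pt 0 : ℙ K (Fin 2 → K)) = pt 0 := by
    rw [mul_smul, mul_smul, hc2, hy', ← hc2, inv_smul_smul]
  have htr1 : tr (c⁻¹ * x * c) = 2 := by
    have := tr_conj c⁻¹ x
    rw [inv_inv] at this
    rw [this, htr]
  have htr2 : tr (c⁻¹ * x' * c) = 2 := by
    have := tr_conj c⁻¹ x'
    rw [inv_inv] at this
    rw [this, htr']
  have e1 := eq_uS_of_fix _ hfix1 htr1
  have e2 := eq_lS_of_fix _ hfix2 htr2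
  set a := (c⁻¹ * x * c) 0 1 with ha
  set b := (c⁻¹ * x' * c) 1 0 with hb
  have ha0 : a ≠ 0 := by
    intro h0
    rw [h0, uS_zero] at e1
    apply hx1
    calc x = c * (c⁻¹ * x * c) * c⁻¹ := by group
      _ = 1 := by rw [e1]; group
  have hx'1 : x' ≠ 1 := by
    rintro rfl
    apply hyy
    -- x' = 1 fixes everything, in particular we could have chosen y' = y; use instead closure
    exfalso
    apply hnp
    have : Subgroup.closure ({x, 1} : Set (SpecialLinearGroup (Fin 2) K)) = Subgroup.zpowers x := by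
      rw [Subgroup.zpowers_eq_closure]
      apply le_antisymm
      · rw [Subgroup.closure_le]
        rintro z (rfl | rfl)
        · exact Subgroup.subset_closure rfl
        · exact Subgroup.one_mem _
      · exact Subgroup.closure_mono (by simp)
    rw [this]
    rintro ⟨_, ⟨n, rfl⟩⟩
    refine ⟨k, ?_⟩
    apply Subtype.ext
    simp only [Subgroup.coe_pow, Subgroup.coe_one]
    rw [← zpow_natCast, ← _root_.zpow_mul, mul_comm, _root_.zpow_mul, zpow_natCast, hxp, _root_.one_zpow]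
  have hb0 : b ≠ 0 := by
    intro h0
    rw [h0, lS_zero] at e2
    apply hx'1
    calc x' = c * (c⁻¹ * x' * c) * c⁻¹ := by group
      _ = 1 := by rw [e2]; group
  -- apply the corollary of Dickson's lemma to c⁻¹ H c
  have hu : uS a ∈ cjS c⁻¹ H := by
    rw [mem_cjS, inv_inv, ← e1]
    have : c * (c⁻¹ * x * c) * c⁻¹ = x := by group
    rw [this]; exact hx
  have hl : lS b ∈ cjS c⁻¹ H := by
    rw [mem_cjS, inv_inv, ← e2]
    have : c * (c⁻¹ * x' * c) * c⁻¹ = x' := by group
    rw [this]; exact hx'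
  obtain ⟨f, hf, hfr⟩ := exists_sl2p hp2 ha0 hb0 (cjS c⁻¹ H) hu hl
  exact exists_hom_of_cjS H c⁻¹ f hf hfr

end Cfsg.Agent.helper4.Dk
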