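import Mathlib
import Cfsg.Agent.Lib_helper4_DkF

set_option autoImplicit false
set_option linter.unusedSectionVars false

/-!
# Eigenvalues in `SL₂` in any characteristic, and elements of a finite subfield
-/

namespace Cfsg.Agent.helper4.Dk

open Matrix Polynomial
open scoped MatrixGroups

variable {K : Type*} [Field K]

theorem exists_eigen' [IsAlgClosed K] (g : SpecialLinearGroup (Fin 2) K) :
    ∃ σ : K, σ ≠ 0 ∧ tr g = σ + σ⁻¹ ∧ ∀ m : ℕ, g ^ m = 1 → σ ^ m = 1 := by
  -- a root of the characteristic polynomial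
  have hdeg : (X ^ 2 - C (tr g) * X + 1 : K[X]).degree ≠ 0 := by
    have : (X ^ 2 - C (tr g) * X + 1 : K[X]).degree = 2 := by
      compute_degree!
    rw [this]; norm_num
  obtain ⟨σ, hσ⟩ := IsAlgClosed.exists_root _ hdeg
  have hσ' : σ ^ 2 - tr g * σ + 1 = 0 := by
    simpa [IsRoot] using hσ
  have hσ0 : σ ≠ 0 := by
    rintro rfl
    norm_num at hσ'
  have htr : tr g = σ + σ⁻¹ := by
    field_simp
    linear_combination -hσ'
  refine ⟨σ, hσ0, htr, ?_⟩
  -- an eigenvector
  have hdet : ((g : Matrix (Fin 2) (Fin 2) K) - σ • (1 : Matrix (Fin 2) (Fin 2) K)).det = 0 := by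
    rw [det_fin_two]
    have hd := det_eq g
    unfold tr at hσ'
    simp only [Matrix.sub_apply, Matrix.smul_apply, Matrix.one_apply_eq, smul_eq_mul, mul_one, ne_eq,
      one_ne_zero, not_false_eq_true, Matrix.one_apply_ne, mul_zero, sub_zero, zero_ne_one]
    linear_combination hσ' + hd
  obtain ⟨v, hv0, hv⟩ := Matrix.exists_mulVec_eq_zero_iff.mpr hdet
  have hgv : g • v = σ • v := by
    rw [Matrix.SpecialLinearGroup.smul_def, Matrix.smul_eq_mulVec]
    rw [sub_mulVec, smul_mulVec, one_mulVec] at hv
    exact sub_eq_zero.mp hv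
  have hcomm : ∀ (h : SpecialLinearGroup (Fin 2) K) (c : K) (w : Fin 2 → K),
      h • (c • w) = c • (h • w) := by
    intro h c w
    exact smul_comm h c w
  have hpow : ∀ m : ℕ, (g ^ m) • v = σ ^ m • v := by
    intro m
    induction m with
    | zero => simp
    | succ m ih =>
      rw [pow_succ, mul_smul, hgv, hcomm, ih, smul_smul, pow_succ, mul_comm]
  intro m hm
  have h1 := hpow m
  rw [hm, one_smul] at h1
  have h2 : (1 - σ ^ m) • v = 0 := by rw [sub_smul, one_smul, ← h1, sub_self]
  rcases smul_eq_zero.mp h2 with h | h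
  · exact (sub_eq_zero.mp h).symm
  · exact absurd h hv0

theorem tr_eq_two_of_pow' [IsAlgClosed K] {p : ℕ} [Fact p.Prime] [CharP K p]
    (g : SpecialLinearGroup (Fin 2) K) (k : ℕ) (hg : g ^ p ^ k = 1) : tr g = 2 := by
  obtain ⟨σ, hσ0, hσtr, hσpow⟩ := exists_eigen' g
  have h1 := hσpow _ hg
  have h3 : (σ - 1) ^ p ^ k = 0 := by rw [sub_pow_char_pow, h1, one_pow, sub_self]
  have h4 : σ = 1 :=
    sub_eq_zero.mp (pow_eq_zero_iff (pow_ne_zero k (Fact.out : p.Prime).ne_zero) |>.mp h3)
  rw [hσtr, h4]; norm_num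

/-- elements fixed by the `q`-power map lie in the subfield with `q` elements -/
theorem mem_range_of_pow_card {F L : Type*} [Field F] [Fintype F] [Field L] [Algebra F L] (x : L)
    (hx : x ^ Fintype.card F = x) : x ∈ Set.range (algebraMap F L) := by
  classical
  by_contra hnot
  have hq : 1 < Fintype.card F := Fintype.one_lt_card
  set P : L[X] := X ^ Fintype.card F - X with hP
  have hP0 : P ≠ 0 := FiniteField.X_pow_card_sub_X_ne_zero L hq
  have hdeg : P.natDegree = Fintype.card F := FiniteField.X_pow_card_sub_X_natDegree_eq L hq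
  set S : Finset L := Finset.univ.image (algebraMap F L) with hS
  have hScard : S.card = Fintype.card F := by
    rw [hS, Finset.card_image_of_injective _ (algebraMap F L).injective, Finset.card_univ]
  have hxS : x ∉ S := by
    intro h
    rw [hS, Finset.mem_image] at h
    obtain ⟨a, -, ha⟩ := h
    exact hnot ⟨a, ha⟩
  have hsub : insert x S ⊆ P.roots.toFinset := by
    intro y hy
    rw [Multiset.mem_toFinset, mem_roots hP0, IsRoot, hP]
    simp only [eval_sub, eval_pow, eval_X]
    rw [Finset.mem_insert] at hy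
    rcases hy with rfl | hy
    · rw [hx, sub_self]
    · rw [hS, Finset.mem_image] at hy
      obtain ⟨a, -, rfl⟩ := hy
      rw [← map_pow, FiniteField.pow_card, sub_self]
  have h1 := Finset.card_le_card hsub
  rw [Finset.card_insert_of_notMem hxS, hScard] at h1
  have h2 : P.roots.toFinset.card ≤ P.roots.card := Multiset.toFinset_card_le _
  have h3 : P.roots.card ≤ P.natDegree := Polynomial.card_roots' P
  omega

end Cfsg.Agent.helper4.Dk
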