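import Mathlib
import Cfsg.Agent.Lib_helper4_DkI

set_option autoImplicit false
set_option linter.unusedSectionVars false

/-!
# Fixed-point counting for finite subgroups of `SL₂(K)` in any characteristic
-/

namespace Cfsg.Agent.helper4.Dn

open Matrix Polynomial
open scoped LinearAlgebra.Projectivization MatrixGroups
open Cfsg.Agent.helper4.Dk

variable {K : Type*} [Field K]

theorem exists_fixed' [IsAlgClosed K] (g : SpecialLinearGroup (Fin 2) K) :
    ∃ y : ℙ K (Fin 2 → K), g • y = y := by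
  have hdeg : (X ^ 2 - C (tr g) * X + 1 : K[X]).degree ≠ 0 := by
    have : (X ^ 2 - C (tr g) * X + 1 : K[X]).degree = 2 := by
      compute_degree!
    rw [this]; norm_num
  obtain ⟨σ, hσ⟩ := IsAlgClosed.exists_root _ hdeg
  have hσ' : σ ^ 2 - tr g * σ + 1 = 0 := by
    simpa [IsRoot] using hσ
  have hσ0 : σ ≠ 0 := by
    rintro rfl
    norm_num at hσ'
  have hdet : ((g : Matrix (Fin 2) (Fin 2) K) - σ • (1 : Matrix (Fin 2) (Fin 2) K)).det = 0 := by
    rw [det_fin_two]
    have hd := det_eq g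
    unfold tr at hσ'
    simp only [Matrix.sub_apply, Matrix.smul_apply, Matrix.one_apply_eq, smul_eq_mul, mul_one, ne_eq,
      one_ne_zero, not_false_eq_true, Matrix.one_apply_ne, mul_zero, sub_zero, zero_ne_one]
    linear_combination hσ' + hd
  obtain ⟨v, hv0, hv⟩ := Matrix.exists_mulVec_eq_zero_iff.mpr hdet
  have hgv : g • v = σ • v := by
    rw [Matrix.SpecialLinearGroup.smul_def, Matrix.smul_eq_mulVec]
    rw [sub_mulVec, smul_mulVec, one_mulVec] at hv
    exact sub_eq_zero.mp hv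
  refine ⟨Projectivization.mk K v hv0, ?_⟩
  rw [Projectivization.smul_mk, Projectivization.mk_eq_mk_iff']
  exact ⟨σ, hgv.symm ▸ rfl⟩

theorem ncard_fix' [IsAlgClosed K] (g : SpecialLinearGroup (Fin 2) K)
    (hg1 : g ≠ 1) (hg2 : g ≠ -1) :
    (tr g ^ 2 = 4 → {y : ℙ K (Fin 2 → K) | g • y = y}.ncard = 1) ∧
      (tr g ^ 2 ≠ 4 → {y : ℙ K (Fin 2 → K) | g • y = y}.ncard = 2) := by
  obtain ⟨y, hy⟩ := exists_fixed' g
  obtain ⟨s, rfl⟩ := exists_smul_pInf y
  set h := s⁻¹ * g * s with hh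
  have hg : g = s * h * s⁻¹ := by rw [hh]; group
  have hfix : h • (pInf : ℙ K (Fin 2 → K)) = pInf := by
    rw [hh, mul_smul, mul_smul, hy, inv_smul_smul]
  have h10 := (fixed_pInf_iff h).mp hfix
  have htr : tr g = tr h := by rw [hg, tr_conj]
  have hcard : {y : ℙ K (Fin 2 → K) | g • y = y}.ncard = {y : ℙ K (Fin 2 → K) | h • y = y}.ncard := by
    rw [hg, fix_conj]
    exact Set.ncard_image_of_injective _ (MulAction.injective s)
  rw [htr, hcard]
  have hd := det_eq h
  rw [h10, mul_zero, sub_zero] at hd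
  constructor
  · intro heq'
    have heq : h 0 0 = h 1 1 := (tr_sq_tri h h10).mp heq'
    have h01 : h 0 1 ≠ 0 := by
      intro h01
      have hsq : h 1 1 ^ 2 = 1 := by rw [heq] at hd; linear_combination hd
      have : (h 1 1 - 1) * (h 1 1 + 1) = 0 := by linear_combination hsq
      rcases mul_eq_zero.mp this with h1 | h1
      · apply hg1
        rw [hg]
        have : h = 1 := by
          apply sl_ext' <;> simp [h01, h10, heq, sub_eq_zero.mp h1]
        rw [this]; group
      · apply hg2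
        rw [hg]
        have : h = -1 := by
          apply sl_ext' <;>
            simp [h01, h10, heq, eq_neg_of_add_eq_zero_left h1, Matrix.SpecialLinearGroup.coe_neg]
        rw [this]
        simp
    rw [fix_tri_eq h h10 heq h01, Set.ncard_singleton]
  · intro hne'
    have hne : h 0 0 ≠ h 1 1 := fun he => hne' ((tr_sq_tri h h10).mpr he)
    rw [fix_tri_ne h h10 hne]
    exact Set.ncard_pair (Ne.symm (pt_ne_pInf _))

/-- the number of scalar matrices in `SL₂(K)` -/
noncomputable def zc (K : Type*) [Field K] : ℕ := by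
  classical
  exact if (2 : K) = 0 then 1 else 2

theorem zc_cases (K : Type*) [Field K] : (zc K = 2 ∧ (2 : K) ≠ 0) ∨ (zc K = 1 ∧ (2 : K) = 0) := by
  classical
  unfold zc
  by_cases h : (2 : K) = 0
  · right; exact ⟨by simp [h], h⟩
  · left; exact ⟨by simp [h], h⟩

theorem zc_pos (K : Type*) [Field K] : 1 ≤ zc K := by
  rcases zc_cases K with ⟨h, _⟩ | ⟨h, _⟩ <;> omega

theorem zc_le (K : Type*) [Field K] : zc K ≤ 2 := by
  rcases zc_cases K with ⟨h, _⟩ | ⟨h, _⟩ <;> omega

theorem neg_one_eq_one (h2 : (2 : K) = 0) : (-1 : SpecialLinearGroup (Fin 2) K) = 1 := by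
  have hk : (-1 : K) = 1 := by linear_combination -h2
  apply sl_ext' <;> simp [hk]

theorem neg_one_smul' (y : ℙ K (Fin 2 → K)) : (-1 : SpecialLinearGroup (Fin 2) K) • y = y := by
  induction y using Projectivization.ind with | h v hv =>
  rw [Projectivization.smul_mk, Projectivization.mk_eq_mk_iff']
  refine ⟨-1, ?_⟩
  rw [smul_vec]
  ext i
  fin_cases i <;> simp

/-- the nonscalar elements of `H` -/
def NS (H : Subgroup (SpecialLinearGroup (Fin 2) K)) : Set (SpecialLinearGroup (Fin 2) K) :=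
  {g | g ∈ H ∧ g ≠ 1 ∧ g ≠ -1}

theorem card_split_z {G : Type*} (S : Set G) (T : Set G) (o m : G) (hS : S.Finite)
    (hTS : T ⊆ S) (ho : o ∈ S) (hm : m ∈ S)
    (hT : ∀ g, g ∈ S → (g ∈ T ↔ g ≠ o ∧ g ≠ m)) :
    (o ≠ m → T.ncard + 2 = S.ncard) ∧ (o = m → T.ncard + 1 = S.ncard) := by
  classical
  have hTfin : T.Finite := hS.subset hTS
  have hset : S = insert o (insert m T) := by
    ext g
    simp only [Set.mem_insert_iff]
    constructor
    · intro hg
      by_cases h1 : g = o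
      · exact Or.inl h1
      · by_cases h2 : g = m
        · exact Or.inr (Or.inl h2)
        · exact Or.inr (Or.inr ((hT g hg).mpr ⟨h1, h2⟩))
    · rintro (rfl | rfl | h)
      · exact ho
      · exact hm
      · exact hTS h
  have hmT : m ∉ T := fun h => ((hT m hm).mp h).2 rfl
  have hoT : o ∉ T := fun h => ((hT o ho).mp h).1 rfl
  constructor
  · intro hom
    rw [hset, Set.ncard_insert_of_notMem _ (hTfin.insert _), Set.ncard_insert_of_notMem hmT hTfin]
    simp only [Set.mem_insert_iff, not_or]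
    exact ⟨hom, hoT⟩
  · intro hom
    subst hom
    rw [hset, Set.insert_eq_of_mem (Set.mem_insert _ _), Set.ncard_insert_of_notMem hoT hTfin]

theorem one_ne_neg_one_iff : (1 : SpecialLinearGroup (Fin 2) K) ≠ -1 ↔ (2 : K) ≠ 0 := by
  constructor
  · intro h h2
    exact h (neg_one_eq_one h2).symm
  · intro h2 h
    exact neg_one_ne_one h2 h.symm

theorem card_split_zc {S T : Set (SpecialLinearGroup (Fin 2) K)} (hS : S.Finite)
    (hTS : T ⊆ S) (ho : (1 : SpecialLinearGroup (Fin 2) K) ∈ S)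
    (hm : (-1 : SpecialLinearGroup (Fin 2) K) ∈ S)
    (hT : ∀ g, g ∈ S → (g ∈ T ↔ g ≠ 1 ∧ g ≠ -1)) : T.ncard + zc K = S.ncard := by
  obtain ⟨h1, h2⟩ := card_split_z S T 1 (-1) hS hTS ho hm hT
  rcases zc_cases K with ⟨hz, h⟩ | ⟨hz, h⟩
  · rw [hz]; exact h1 (one_ne_neg_one_iff.mpr h)
  · rw [hz]; exact h2 (neg_one_eq_one h).symm

theorem card_ZP_two (h2 : (2 : K) = 0) (H : Subgroup (SpecialLinearGroup (Fin 2) K)) :
    Nat.card (ZP H) = Nat.card (AA H) := by
  have hk : (-1 : K) = 1 := by linear_combination -h2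
  apply Nat.card_congr
  refine ⟨fun g => ⟨(g : SpecialLinearGroup (Fin 2) K) 0 1, ?_⟩,
    fun a => ⟨uS a.1, a.2, by simp, Or.inl (by simp)⟩, ?_, ?_⟩
  · obtain ⟨hg, hg0, hg1⟩ := g.2
    have h00 : (g : SpecialLinearGroup (Fin 2) K) 0 0 = 1 := by
      rcases hg1 with h | h
      · exact h
      · rw [h, hk]
    rw [mem_AA, ← eq_uS_of _ hg0 h00]; exact hg
  · intro g
    obtain ⟨hg, hg0, hg1⟩ := g.2
    have h00 : (g : SpecialLinearGroup (Fin 2) K) 0 0 = 1 := by
      rcases hg1 with h | h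
      · exact h
      · rw [h, hk]
    apply Subtype.ext
    exact (eq_uS_of _ hg0 h00).symm
  · intro a
    apply Subtype.ext
    simp

theorem card_ZP_z (H : Subgroup (SpecialLinearGroup (Fin 2) K)) (hH : -1 ∈ H) :
    Nat.card (ZP H) = zc K * Nat.card (AA H) := by
  rcases zc_cases K with ⟨hz, h⟩ | ⟨hz, h⟩
  · rw [hz]; exact card_ZP h H hH
  · rw [hz, one_mul]; exact card_ZP_two h H

theorem N1_add_z (H : Subgroup (SpecialLinearGroup (Fin 2) K)) [Finite H]
    (hH : -1 ∈ H) (y : ℙ K (Fin 2 → K)) : N1 H y + zc K = Nat.card (stabIn H y) := by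
  have hfin : (stabIn H y : Set (SpecialLinearGroup (Fin 2) K)).Finite :=
    Set.finite_coe_iff.mp (finite_stabIn H y)
  have hc : Nat.card (stabIn H y) = (stabIn H y : Set (SpecialLinearGroup (Fin 2) K)).ncard := rfl
  rw [hc]
  unfold N1
  apply card_split_zc hfin
  · rintro g ⟨h1, _, _, h4⟩
    exact mem_stabIn.mpr ⟨h1, h4⟩
  · exact mem_stabIn.mpr ⟨H.one_mem, one_smul _ _⟩
  · exact mem_stabIn.mpr ⟨hH, neg_one_smul' y⟩
  · intro g hg
    obtain ⟨h1, h4⟩ := mem_stabIn.mp hg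
    simp only [Set.mem_ofPred_eq]
    constructor
    · rintro ⟨_, h2, h3, _⟩; exact ⟨h2, h3⟩
    · rintro ⟨h2, h3⟩; exact ⟨h1, h2, h3, h4⟩

theorem N2_pInf_add_z (H : Subgroup (SpecialLinearGroup (Fin 2) K)) [Finite H]
    (hH : -1 ∈ H) : N2 H pInf + zc K = Nat.card (ZP H) := by
  have hfin : (ZP H : Set (SpecialLinearGroup (Fin 2) K)).Finite :=
    Set.finite_coe_iff.mp (finite_ZP H)
  have hc : Nat.card (ZP H) = (ZP H : Set (SpecialLinearGroup (Fin 2) K)).ncard := rfl
  rw [hc]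
  unfold N2
  have hmemZ : ∀ g : SpecialLinearGroup (Fin 2) K, g ∈ H → g • (pInf : ℙ K (Fin 2 → K)) = pInf →
      (tr g ^ 2 = 4 ↔ (g 0 0 = 1 ∨ g 0 0 = -1)) := by
    intro g _ h4
    have h10 := (fixed_pInf_iff g).mp h4
    have hd := diag_mul_of_tri g h10
    rw [tr_sq_tri g h10]
    constructor
    · intro he
      rw [← he] at hd
      have : (g 0 0 - 1) * (g 0 0 + 1) = 0 := by linear_combination hd
      rcases mul_eq_zero.mp this with h5 | h5
      · left; exact sub_eq_zero.mp h5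
      · right; exact eq_neg_of_add_eq_zero_left h5
    · rintro (h4 | h4)
      · rw [h4, one_mul] at hd; rw [h4, hd]
      · rw [h4] at hd; rw [h4]; linear_combination hd
  apply card_split_zc hfin
  · rintro g ⟨h1, _, _, h3, h4⟩
    exact ⟨h1, (fixed_pInf_iff g).mp h4, (hmemZ g h1 h4).mp h3⟩
  · exact ⟨H.one_mem, by simp, Or.inl (by simp)⟩
  · exact ⟨hH, by simp, Or.inr (by simp)⟩
  · intro g hg
    obtain ⟨h1, h10, h5⟩ := hg
    have h4 := (fixed_pInf_iff g).mpr h10
    simp only [Set.mem_ofPred_eq]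
    constructor
    · rintro ⟨_, h2, h3, _⟩; exact ⟨h2, h3⟩
    · rintro ⟨h2, h3⟩; exact ⟨h1, h2, h3, (hmemZ g h1 h4).mpr h5, h4⟩

theorem z_dvd_card_stabIn (H : Subgroup (SpecialLinearGroup (Fin 2) K)) [Finite H]
    (hH : -1 ∈ H) (y : ℙ K (Fin 2 → K)) : zc K ∣ Nat.card (stabIn H y) := by
  rcases zc_cases K with ⟨hz, h⟩ | ⟨hz, h⟩
  · rw [hz]
    have hmem : (-1 : SpecialLinearGroup (Fin 2) K) ∈ stabIn H y :=
      mem_stabIn.mpr ⟨hH, neg_one_smul' y⟩
    have h1 : orderOf (⟨-1, hmem⟩ : stabIn H y) = 2 := by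
      apply orderOf_eq_prime
      · apply Subtype.ext; simp
      · intro h'
        exact neg_one_ne_one h (congrArg Subtype.val h')
    have h3 := orderOf_dvd_natCard (⟨-1, hmem⟩ : stabIn H y)
    rwa [h1] at h3
  · rw [hz]; exact one_dvd _

section counting

variable [IsAlgClosed K] (H : Subgroup (SpecialLinearGroup (Fin 2) K)) [Finite H]

theorem fix_finite' (g : SpecialLinearGroup (Fin 2) K) (hg1 : g ≠ 1) (hg2 : g ≠ -1) :
    {y : ℙ K (Fin 2 → K) | g • y = y}.Finite := by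
  apply Set.finite_of_ncard_ne_zero
  by_cases h : tr g ^ 2 = 4
  · rw [(ncard_fix' g hg1 hg2).1 h]; norm_num
  · rw [(ncard_fix' g hg1 hg2).2 h]; norm_num

theorem YY_finite' : (YY H).Finite := by
  have : YY H = ⋃ g ∈ {g : SpecialLinearGroup (Fin 2) K | g ∈ H ∧ g ≠ 1 ∧ g ≠ -1},
      {y : ℙ K (Fin 2 → K) | g • y = y} := by
    ext y
    simp only [YY, Set.mem_ofPred_eq, Set.mem_iUnion, exists_prop]
    constructor
    · rintro ⟨g, hg, h1, h3, h4⟩; exact ⟨g, ⟨hg, h1, h3⟩, h4⟩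
    · rintro ⟨g, ⟨hg, h1, h3⟩, h4⟩; exact ⟨g, hg, h1, h3, h4⟩
  rw [this]
  apply Set.Finite.biUnion (nonscalar_finite H)
  rintro g ⟨_, h1, h3⟩
  exact fix_finite' g h1 h3

theorem count_identity_z (hH : -1 ∈ H) :
    ∑ y ∈ (YY_finite' H).toFinset, (N1 H y + N2 H y) + 2 * zc K = 2 * Nat.card H := by
  classical
  set Sf := (nonscalar_finite H).toFinset with hSf
  set Yf := (YY_finite' H).toFinset with hYf
  have hN1 : ∀ y, N1 H y = (Sf.filter (fun g => g • y = y)).card := by
    intro y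
    unfold N1
    rw [← Set.ncard_coe_finset]
    congr 1
    ext g
    simp [hSf, and_assoc]
  have hN2 : ∀ y, N2 H y = ((Sf.filter (fun g => tr g ^ 2 = 4)).filter (fun g => g • y = y)).card := by
    intro y
    unfold N2
    rw [← Set.ncard_coe_finset]
    congr 1
    ext g
    simp [hSf, and_assoc]
  have hfixS : ∀ g ∈ Sf, (Yf.filter (fun y => g • y = y)).card =
      {y : ℙ K (Fin 2 → K) | g • y = y}.ncard := by
    intro g hg
    rw [← Set.ncard_coe_finset]
    congr 1
    ext y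
    simp only [Finset.coe_filter, Set.mem_ofPred_eq, and_iff_right_iff_imp, hYf,
      Set.Finite.mem_toFinset]
    intro hy
    rw [hSf, Set.Finite.mem_toFinset] at hg
    exact ⟨g, hg.1, hg.2.1, hg.2.2, hy⟩
  have h1 : ∑ y ∈ Yf, N1 H y = ∑ g ∈ Sf, (Yf.filter (fun y => g • y = y)).card := by
    simp_rw [hN1]
    exact (Finset.sum_card_bipartiteAbove_eq_sum_card_bipartiteBelow (fun g y => g • y = y)).symm
  have h3 : ∑ y ∈ Yf, N2 H y =
      ∑ g ∈ Sf.filter (fun g => tr g ^ 2 = 4), (Yf.filter (fun y => g • y = y)).card := by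
    simp_rw [hN2]
    exact (Finset.sum_card_bipartiteAbove_eq_sum_card_bipartiteBelow (fun g y => g • y = y)).symm
  have h4 : ∑ g ∈ Sf.filter (fun g => tr g ^ 2 = 4), (Yf.filter (fun y => g • y = y)).card =
      ∑ g ∈ Sf, (if tr g ^ 2 = 4 then 1 else 0) := by
    rw [Finset.sum_filter]
    apply Finset.sum_congr rfl
    intro g hg
    have hg' := hg
    rw [hSf, Set.Finite.mem_toFinset] at hg'
    split_ifs with h
    · rw [hfixS g hg, (ncard_fix' g hg'.2.1 hg'.2.2).1 h]
    · rfl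
  have h5 : ∀ g ∈ Sf, (Yf.filter (fun y => g • y = y)).card + (if tr g ^ 2 = 4 then 1 else 0) = 2 := by
    intro g hg
    have hg' := hg
    rw [hSf, Set.Finite.mem_toFinset] at hg'
    rw [hfixS g hg]
    split_ifs with h
    · rw [(ncard_fix' g hg'.2.1 hg'.2.2).1 h]
    · rw [(ncard_fix' g hg'.2.1 hg'.2.2).2 h]
  have h6 : ∑ y ∈ Yf, (N1 H y + N2 H y) = 2 * Sf.card := by
    rw [Finset.sum_add_distrib, h1, h3, h4, ← Finset.sum_add_distrib, Finset.sum_congr rfl h5,
      Finset.sum_const, smul_eq_mul, mul_comm]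
  have h7 : Sf.card + zc K = Nat.card H := by
    have hHf : (H : Set (SpecialLinearGroup (Fin 2) K)).Finite := Set.finite_coe_iff.mp inferInstance
    have hc : Nat.card H = (H : Set (SpecialLinearGroup (Fin 2) K)).ncard := rfl
    rw [hc, ← Set.ncard_coe_finset]
    apply card_split_zc hHf
    · intro g hg
      rw [hSf, Set.Finite.coe_toFinset] at hg
      exact hg.1
    · exact H.one_mem
    · exact hH
    · intro g hg
      rw [hSf, Set.Finite.coe_toFinset]
      simp only [Set.mem_ofPred_eq]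
      constructor
      · rintro ⟨_, h2, h3⟩; exact ⟨h2, h3⟩
      · rintro ⟨h2, h3⟩; exact ⟨hg, h2, h3⟩
  rw [h6, ← h7]
  ring

end counting

end Cfsg.Agent.helper4.Dn
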