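import Mathlib
import Cfsg.Agent.Lib_helper4_DnA

set_option autoImplicit false
set_option linter.unusedSectionVars false

/-!
# Orbit bookkeeping for the fixed-point count
-/

namespace Cfsg.Agent.helper4.Dn

open Matrix
open scoped LinearAlgebra.Projectivization MatrixGroups
open Cfsg.Agent.helper4.Dk

variable {K : Type*} [Field K] [IsAlgClosed K]
variable (H : Subgroup (SpecialLinearGroup (Fin 2) K)) [Finite H]

/-- the contribution of the orbit of `y` to the fixed point count -/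
noncomputable def wt (y : ℙ K (Fin 2 → K)) : ℕ := (orb H y).ncard * (N1 H y + N2 H y)

theorem wt_eq_sum (y : ℙ K (Fin 2 → K)) :
    wt H y = ∑ z ∈ (orb_finite H y).toFinset, (N1 H z + N2 H z) := (orbit_sum H y).symm

theorem sum_wt_le (R : Finset (ℙ K (Fin 2 → K))) (hH : -1 ∈ H) (hR : ∀ y ∈ R, y ∈ YY H)
    (hd : ∀ y ∈ R, ∀ y' ∈ R, y ≠ y' → y' ∉ orb H y) :
    ∑ y ∈ R, wt H y + 2 * zc K ≤ 2 * Nat.card H := by
  classical
  rw [← count_identity_z H hH]
  apply Nat.add_le_add_right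
  have hdisj : (R : Set (ℙ K (Fin 2 → K))).PairwiseDisjoint
      (fun y => (orb_finite H y).toFinset) := by
    intro y hy y' hy' hne
    simp only [Function.onFun]
    rw [Set.Finite.disjoint_toFinset]
    exact orb_disjoint (hd y hy y' hy' hne)
  simp_rw [wt_eq_sum]
  rw [← Finset.sum_biUnion hdisj]
  apply Finset.sum_le_sum_of_subset
  intro x hx
  rw [Finset.mem_biUnion] at hx
  obtain ⟨y, hy, hxy⟩ := hx
  rw [Set.Finite.mem_toFinset] at hxy ⊢
  exact orb_subset_YY (hR y hy) hxy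

theorem sum_wt_eq (R : Finset (ℙ K (Fin 2 → K))) (hH : -1 ∈ H) (hR : ∀ y ∈ R, y ∈ YY H)
    (hd : ∀ y ∈ R, ∀ y' ∈ R, y ≠ y' → y' ∉ orb H y)
    (hcov : ∀ x ∈ YY H, ∃ y ∈ R, x ∈ orb H y) :
    ∑ y ∈ R, wt H y + 2 * zc K = 2 * Nat.card H := by
  classical
  rw [← count_identity_z H hH]
  congr 1
  have hdisj : (R : Set (ℙ K (Fin 2 → K))).PairwiseDisjoint
      (fun y => (orb_finite H y).toFinset) := by
    intro y hy y' hy' hne
    simp only [Function.onFun]
    rw [Set.Finite.disjoint_toFinset]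
    exact orb_disjoint (hd y hy y' hy' hne)
  simp_rw [wt_eq_sum]
  rw [← Finset.sum_biUnion hdisj]
  apply Finset.sum_congr _ (fun _ _ => rfl)
  ext x
  rw [Finset.mem_biUnion, Set.Finite.mem_toFinset]
  constructor
  · rintro ⟨y, hy, hxy⟩
    rw [Set.Finite.mem_toFinset] at hxy
    exact orb_subset_YY (hR y hy) hxy
  · intro hx
    obtain ⟨y, hy, hxy⟩ := hcov x hx
    exact ⟨y, hy, by rw [Set.Finite.mem_toFinset]; exact hxy⟩

/-- if the orbits of `R` do not exhaust the count there is a further orbit -/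
theorem exists_new_orbit (R : Finset (ℙ K (Fin 2 → K))) (hH : -1 ∈ H) (hR : ∀ y ∈ R, y ∈ YY H)
    (hd : ∀ y ∈ R, ∀ y' ∈ R, y ≠ y' → y' ∉ orb H y)
    (hlt : ∑ y ∈ R, wt H y + 2 * zc K ≠ 2 * Nat.card H) :
    ∃ x ∈ YY H, ∀ y ∈ R, x ∉ orb H y := by
  by_contra hcon
  push Not at hcon
  exact hlt (sum_wt_eq H R hH hR hd hcon)

theorem wt_add (y : ℙ K (Fin 2 → K)) (hH : -1 ∈ H) :
    wt H y + (orb H y).ncard * zc K = Nat.card H + (orb H y).ncard * N2 H y := by
  have h1 := orbit_stabilizer H y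
  have h2 := N1_add_z H hH y
  unfold wt
  rw [← h1, ← h2]
  ring

theorem N2_cases_z (hH : -1 ∈ H) (y : ℙ K (Fin 2 → K)) :
    N2 H y = 0 ∨ ∃ q, 2 ≤ q ∧ N2 H y + zc K = zc K * q ∧ zc K * q ≤ Nat.card (stabIn H y) := by
  obtain ⟨s, rfl⟩ := exists_smul_pInf y
  rw [N2_conj, card_stabIn_conj]
  have h1 := N2_pInf_add_z (cj s H) (neg_one_mem_cj hH)
  have h3 := card_ZP_z (cj s H) (neg_one_mem_cj hH)
  have hle : Nat.card (ZP (cj s H)) ≤ Nat.card (stabIn (cj s H) pInf) := by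
    rw [stabIn_pInf]; exact Subgroup.card_le_of_le (ZP_le_GB _)
  have hpos : 1 ≤ Nat.card (AA (cj s H)) := Nat.card_pos
  by_cases hA : Nat.card (AA (cj s H)) = 1
  · left
    rw [hA, mul_one] at h3
    omega
  · right
    refine ⟨Nat.card (AA (cj s H)), by omega, by rw [h1, h3], by rw [← h3]; exact hle⟩

/-- facts about a point with a nonscalar stabiliser and no parabolics -/
theorem semisimple_point (hH : -1 ∈ H) {y : ℙ K (Fin 2 → K)} (hy : y ∈ YY H)
    (hN2 : N2 H y = 0) :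
    ∃ s, 2 ≤ s ∧ Nat.card (stabIn H y) = zc K * s ∧
      (orb H y).ncard * (zc K * s) = Nat.card H ∧
      wt H y + (orb H y).ncard * zc K = Nat.card H := by
  obtain ⟨s, hs⟩ := z_dvd_card_stabIn H hH y
  have h1 := N1_add_z H hH y
  have h2 := N1_pos H hy
  have h3 := wt_add H y hH
  rw [hN2, mul_zero, add_zero] at h3
  have hz := zc_pos K
  refine ⟨s, ?_, hs, by rw [← hs]; exact orbit_stabilizer H y, h3⟩
  by_contra hlt
  push Not at hlt
  have : s = 0 ∨ s = 1 := by omega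
  rcases this with rfl | rfl
  · rw [mul_zero] at hs; omega
  · rw [mul_one] at hs; omega

theorem pInf_mem_YY {a₀ : K} (ha : uS a₀ ∈ H) (ha0 : a₀ ≠ 0) :
    (pInf : ℙ K (Fin 2 → K)) ∈ YY H := by
  refine ⟨uS a₀, ha, uS_ne_one ha0, ?_, smul_pInf_of_eq _ (by simp)⟩
  intro h
  have h1 := congrArg (fun g : SpecialLinearGroup (Fin 2) K => g 0 1) h
  simp at h1
  exact ha0 h1

theorem two_le_card_AA {a₀ : K} (ha : uS a₀ ∈ H) (ha0 : a₀ ≠ 0) : 2 ≤ Nat.card (AA H) := by
  have : Nontrivial (AA H) := ⟨⟨⟨a₀, ha⟩, 0, fun h => ha0 (congrArg Subtype.val h)⟩⟩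
  exact Finite.one_lt_card

theorem main_count_z (hH : -1 ∈ H) {a₀ : K} (ha : uS a₀ ∈ H) (ha0 : a₀ ≠ 0) :
    (orb H pInf).ncard * Nat.card (GB H) = Nat.card H ∧
    ((YY H ⊆ orb H pInf ∧ (orb H pInf).ncard = 1) ∨
      ∃ (y₁ : ℙ K (Fin 2 → K)) (s : ℕ), y₁ ∉ orb H pInf ∧ 2 ≤ s ∧
      Nat.card (stabIn H y₁) = zc K * s ∧
      (orb H pInf).ncard * Nat.card (GB H) =
        zc K * s * (2 + (orb H pInf).ncard * (Nat.card (AA H) - 2)) ∧
      YY H = orb H pInf ∪ orb H y₁ ∧ N2 H y₁ = 0) := by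
  classical
  obtain ⟨q, hq⟩ : ∃ q, q = Nat.card (AA H) := ⟨_, rfl⟩
  obtain ⟨a, hadef⟩ : ∃ a, a = Nat.card (GB H) := ⟨_, rfl⟩
  obtain ⟨n, hn⟩ : ∃ n, n = (orb H pInf).ncard := ⟨_, rfl⟩
  obtain ⟨Hc, hHc⟩ : ∃ Hc, Hc = Nat.card H := ⟨_, rfl⟩
  obtain ⟨z, hz⟩ : ∃ z, z = zc K := ⟨_, rfl⟩
  have hz1 : 1 ≤ z := hz ▸ zc_pos K
  rw [← hq, ← hadef, ← hn, ← hz]
  have hq2 : 2 ≤ q := hq ▸ two_le_card_AA H ha ha0
  have hZP : Nat.card (ZP H) = z * q := by rw [hz, hq]; exact card_ZP_z H hH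
  have hale : z * q ≤ a := by
    rw [← hZP, hadef]; exact Subgroup.card_le_of_le (ZP_le_GB H)
  have hOS : n * a = Hc := by
    rw [hn, hadef, hHc, ← stabIn_pInf]; exact orbit_stabilizer H pInf
  have hpY : (pInf : ℙ K (Fin 2 → K)) ∈ YY H := pInf_mem_YY H ha ha0
  have hOY : orb H pInf ⊆ YY H := orb_subset_YY hpY
  have hn1 : 1 ≤ n := hn ▸ orb_ncard_pos H pInf
  have hN2p : N2 H pInf + z = z * q := by rw [← hZP, hz]; exact N2_pInf_add_z H hH
  have hwp := wt_add H pInf hH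
  rw [← hn, ← hz, ← hHc] at hwp
  -- `wt pInf = Hc + n z (q-2)`
  obtain ⟨q', rfl⟩ : ∃ q', q = q' + 2 := ⟨q - 2, by omega⟩
  have hwp' : wt H pInf = Hc + n * z * q' := by
    have h1 : n * N2 H pInf + n * z = n * (z * (q' + 2)) := by rw [← hN2p]; ring
    have h2 : n * (z * (q' + 2)) = n * z * q' + 2 * (n * z) := by ring
    have h3 : n * z = n * z := rfl
    nlinarith [h1, h2, hwp]
  rw [hHc] at hOS
  refine ⟨hOS, ?_⟩
  rw [← hHc] at hOS
  rw [Nat.add_sub_cancel]
  have hnzq : n * (z * (q' + 2)) ≤ Hc := by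
    rw [← hOS]; exact Nat.mul_le_mul_left _ hale
  by_cases hY : YY H ⊆ orb H pInf
  · left
    refine ⟨hY, ?_⟩
    have hsum := sum_wt_eq H {pInf} hH (by simpa using hpY) (by simp)
      (by intro x hx; exact ⟨pInf, by simp, hY hx⟩)
    rw [Finset.sum_singleton, hwp', ← hz, ← hHc] at hsum
    have h2 : n * (z * (q' + 2)) = n * z * q' + 2 * (n * z) := by ring
    have h3 : n * z ≤ z := by nlinarith
    have h4 : n ≤ 1 := by
      by_contra h
      push Not at h
      have : 2 * z ≤ n * z := Nat.mul_le_mul_right z h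
      omega
    omega
  · right
    rw [Set.not_subset] at hY
    obtain ⟨y₁, hy₁Y, hy₁O⟩ := hY
    have hR2 : ∀ y ∈ ({pInf, y₁} : Finset (ℙ K (Fin 2 → K))), y ∈ YY H := by
      intro y hy
      rw [Finset.mem_insert, Finset.mem_singleton] at hy
      rcases hy with rfl | rfl
      · exact hpY
      · exact hy₁Y
    have hne1 : (pInf : ℙ K (Fin 2 → K)) ≠ y₁ := by
      rintro rfl; exact hy₁O (mem_orb_self H _)
    have hy₁O' : (pInf : ℙ K (Fin 2 → K)) ∉ orb H y₁ := by
      intro h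
      apply hy₁O
      rw [orb_eq_of_mem h]; exact mem_orb_self H _
    have hd2 : ∀ y ∈ ({pInf, y₁} : Finset (ℙ K (Fin 2 → K))), ∀ y' ∈ ({pInf, y₁} : Finset _),
        y ≠ y' → y' ∉ orb H y := by
      intro y hy y' hy' hne
      rw [Finset.mem_insert, Finset.mem_singleton] at hy hy'
      rcases hy with rfl | rfl <;> rcases hy' with rfl | rfl
      · exact absurd rfl hne
      · exact hy₁O
      · exact hy₁O'
      · exact absurd rfl hne
    have hle2 := sum_wt_le H {pInf, y₁} hH hR2 hd2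
    rw [Finset.sum_pair hne1, hwp', ← hz, ← hHc] at hle2
    -- N2 y₁ = 0
    have hw1 := wt_add H y₁ hH
    rw [← hz, ← hHc] at hw1
    have hOS1 := orbit_stabilizer H y₁
    rw [← hHc] at hOS1
    have hN21 : N2 H y₁ = 0 := by
      rcases N2_cases_z H hH y₁ with h | ⟨q₁, hq₁, h1, h2⟩
      · exact h
      · exfalso
        rw [← hz] at h1 h2
        have h3 : (orb H y₁).ncard * (z * q₁) ≤ Hc := by
          rw [← hOS1]; exact Nat.mul_le_mul_left _ h2
        have h4 : (orb H y₁).ncard * N2 H y₁ + (orb H y₁).ncard * z =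
            (orb H y₁).ncard * (z * q₁) := by rw [← h1]; ring
        have h5 : 2 * ((orb H y₁).ncard * z) ≤ (orb H y₁).ncard * (z * q₁) := by
          calc 2 * ((orb H y₁).ncard * z) = (orb H y₁).ncard * (z * 2) := by ring
            _ ≤ (orb H y₁).ncard * (z * q₁) :=
              Nat.mul_le_mul_left _ (Nat.mul_le_mul_left _ hq₁)
        have h6 : Hc ≤ wt H y₁ := by omega
        omega
    obtain ⟨s, hs2, hstab, hns, hw1'⟩ := semisimple_point H hH hy₁Y hN21
    rw [← hz] at hstab hns hw1'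
    rw [← hHc] at hns hw1'
    obtain ⟨n₁, hn₁⟩ : ∃ x, x = (orb H y₁).ncard := ⟨_, rfl⟩
    rw [← hn₁] at hns hw1'
    have hhalf : 2 * (n₁ * z) ≤ Hc := by
      rw [← hns]
      calc 2 * (n₁ * z) = n₁ * (z * 2) := by ring
        _ ≤ n₁ * (z * s) := Nat.mul_le_mul_left _ (Nat.mul_le_mul_left _ hs2)
    -- only two orbits
    have hYeq : YY H = orb H pInf ∪ orb H y₁ := by
      apply Set.Subset.antisymm _ (Set.union_subset hOY (orb_subset_YY hy₁Y))
      intro y₂ hy₂Y
      by_contra hy₂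
      rw [Set.mem_union, not_or] at hy₂
      obtain ⟨hy₂O, hy₂O1⟩ := hy₂
      have hne2 : (pInf : ℙ K (Fin 2 → K)) ≠ y₂ := by
        rintro rfl; exact hy₂O (mem_orb_self H _)
      have hne3 : y₁ ≠ y₂ := by
        rintro rfl; exact hy₂O1 (mem_orb_self H _)
      have hsym : ∀ {u v : ℙ K (Fin 2 → K)}, u ∉ orb H v → v ∉ orb H u := by
        intro u v h h'
        apply h
        rw [orb_eq_of_mem h']; exact mem_orb_self H _
      have hR3 : ∀ y ∈ ({pInf, y₁, y₂} : Finset (ℙ K (Fin 2 → K))), y ∈ YY H := by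
        intro y hy
        simp only [Finset.mem_insert, Finset.mem_singleton] at hy
        rcases hy with rfl | rfl | rfl
        · exact hpY
        · exact hy₁Y
        · exact hy₂Y
      have hd3 : ∀ y ∈ ({pInf, y₁, y₂} : Finset (ℙ K (Fin 2 → K))),
          ∀ y' ∈ ({pInf, y₁, y₂} : Finset _), y ≠ y' → y' ∉ orb H y := by
        intro y hy y' hy' hne
        simp only [Finset.mem_insert, Finset.mem_singleton] at hy hy'
        rcases hy with rfl | rfl | rfl <;> rcases hy' with rfl | rfl | rfl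
        · exact absurd rfl hne
        · exact hy₁O
        · exact hy₂O
        · exact hy₁O'
        · exact absurd rfl hne
        · exact hy₂O1
        · exact hsym hy₂O
        · exact hsym hy₂O1
        · exact absurd rfl hne
      have hle3 := sum_wt_le H {pInf, y₁, y₂} hH hR3 hd3
      rw [Finset.sum_insert (by simp [hne1, hne2]), Finset.sum_pair hne3, hwp', ← hz, ← hHc] at hle3
      -- weight of y₂ at least Hc/2
      have hw2 := wt_add H y₂ hH
      rw [← hz, ← hHc] at hw2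
      have hOS2 := orbit_stabilizer H y₂
      rw [← hHc] at hOS2
      have h2half : Hc ≤ 2 * wt H y₂ := by
        rcases N2_cases_z H hH y₂ with h | ⟨q₂, hq₂, h1, h2⟩
        · obtain ⟨s₂, hs₂, _, hns₂, hw2'⟩ := semisimple_point H hH hy₂Y h
          rw [← hz, ← hHc] at hns₂ hw2'
          have : 2 * ((orb H y₂).ncard * z) ≤ Hc := by
            rw [← hns₂]
            calc 2 * ((orb H y₂).ncard * z) = (orb H y₂).ncard * (z * 2) := by ring
              _ ≤ (orb H y₂).ncard * (z * s₂) :=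
                Nat.mul_le_mul_left _ (Nat.mul_le_mul_left _ hs₂)
          omega
        · rw [← hz] at h1 h2
          have h4 : (orb H y₂).ncard * N2 H y₂ + (orb H y₂).ncard * z =
              (orb H y₂).ncard * (z * q₂) := by rw [← h1]; ring
          have h5 : 2 * ((orb H y₂).ncard * z) ≤ (orb H y₂).ncard * (z * q₂) := by
            calc 2 * ((orb H y₂).ncard * z) = (orb H y₂).ncard * (z * 2) := by ring
              _ ≤ (orb H y₂).ncard * (z * q₂) :=
                Nat.mul_le_mul_left _ (Nat.mul_le_mul_left _ hq₂)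
          omega
      omega
    refine ⟨y₁, s, hy₁O, hs2, hstab, ?_, hYeq, hN21⟩
    have hsum := sum_wt_eq H {pInf, y₁} hH hR2 hd2
      (by
        intro x hx
        rw [hYeq] at hx
        rcases hx with hx | hx
        · exact ⟨pInf, by simp, hx⟩
        · exact ⟨y₁, by simp, hx⟩)
    rw [Finset.sum_pair hne1, hwp', ← hz, ← hHc] at hsum
    -- n₁ z = n z q' + 2 z
    have h9 : n₁ * z = n * z * q' + 2 * z := by omega
    rw [hOS, ← hns]
    have : n₁ * (z * s) = (n₁ * z) * s := by ring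
    rw [this, h9]
    ring

end Cfsg.Agent.helper4.Dn
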