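import Mathlib
import Cfsg.Agent.Lib_helper4_DnB

set_option autoImplicit false
set_option linter.unusedSectionVars false

/-!
# Structure of finite subgroups of `SL₂(K)` with a parabolic element, any characteristic
-/

namespace Cfsg.Agent.helper4.Dn

open Matrix
open scoped LinearAlgebra.Projectivization MatrixGroups
open Cfsg.Agent.helper4.Dk

variable {K : Type*} [Field K] [IsAlgClosed K]
variable (H : Subgroup (SpecialLinearGroup (Fin 2) K)) [Finite H]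

/-- The structure theorem in the case where `H` has a parabolic element fixing `∞` and does not
fix `∞`. -/
theorem structure_z (hH : -1 ∈ H) {a₀ : K} (ha : uS a₀ ∈ H) (ha0 : a₀ ≠ 0)
    (hmove : ∃ g ∈ H, g • (pInf : ℙ K (Fin 2 → K)) ≠ pInf) :
    ∃ (y₁ : ℙ K (Fin 2 → K)) (s c k : ℕ), y₁ ∉ orb H pInf ∧ 2 ≤ s ∧ 1 ≤ c ∧ 1 ≤ k ∧
      Nat.card (stabIn H y₁) = zc K * s ∧
      YY H = orb H pInf ∪ orb H y₁ ∧ N2 H y₁ = 0 ∧
      Nat.card (GB H) = zc K * Nat.card (AA H) * c ∧ c + 1 ≤ Nat.card (AA H) ∧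
      (orb H pInf).ncard = 1 + k * Nat.card (AA H) ∧
      (orb H pInf).ncard * Nat.card (AA H) * c =
        s * (2 + (orb H pInf).ncard * (Nat.card (AA H) - 2)) ∧
      Nat.card H = zc K * ((orb H pInf).ncard * Nat.card (AA H) * c) ∧
      (Nat.card (AA H) = 2 ∨ k = 1 ∨ (Nat.card (AA H) = 3 ∧ k = 3 ∧ c = 2 ∧ s = 5)) := by
  obtain ⟨hOS, hmain⟩ := main_count_z H hH ha ha0
  obtain ⟨g₀, hg₀, hg₀m⟩ := hmove
  have hn2 : (orb H pInf).ncard ≠ 1 := by
    intro h1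
    obtain ⟨w, hw⟩ := Set.ncard_eq_one.mp h1
    have h2 : (pInf : ℙ K (Fin 2 → K)) ∈ orb H pInf := mem_orb_self H _
    have h3 : g₀ • (pInf : ℙ K (Fin 2 → K)) ∈ orb H pInf := ⟨g₀, hg₀, rfl⟩
    rw [hw, Set.mem_singleton_iff] at h2 h3
    exact hg₀m (h3.trans h2.symm)
  rcases hmain with ⟨_, hn1⟩ | ⟨y₁, s, hy₁O, hs2, hstab, heq, hYeq, hN2⟩
  · exact absurd hn1 hn2
  obtain ⟨q, hq⟩ : ∃ q, q = Nat.card (AA H) := ⟨_, rfl⟩
  obtain ⟨a, hadef⟩ : ∃ a, a = Nat.card (GB H) := ⟨_, rfl⟩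
  obtain ⟨n, hn⟩ : ∃ n, n = (orb H pInf).ncard := ⟨_, rfl⟩
  obtain ⟨z, hz⟩ : ∃ z, z = zc K := ⟨_, rfl⟩
  have hz1 : 1 ≤ z := hz ▸ zc_pos K
  rw [← hq, ← hadef, ← hn, ← hz]
  rw [← hq, ← hadef, ← hn, ← hz] at heq
  rw [← hadef, ← hn] at hOS
  rw [← hz] at hstab
  rw [← hn] at hn2
  have hq2 : 2 ≤ q := hq ▸ two_le_card_AA H ha ha0
  have hZP : Nat.card (ZP H) = z * q := by rw [hz, hq]; exact card_ZP_z H hH
  obtain ⟨c, hc⟩ : z * q ∣ a := by
    rw [← hZP, hadef]; exact Subgroup.card_dvd_of_le (ZP_le_GB H)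
  have hGBle := card_GB_le H ha ha0
  rw [← hadef, hZP, ← hq] at hGBle
  have hc1 : 1 ≤ c := by
    rcases Nat.eq_zero_or_pos c with h0 | h0
    · exfalso
      rw [h0, mul_zero] at hc
      have : 0 < a := by rw [hadef]; exact Nat.card_pos
      omega
    · exact h0
  have hcq : c + 1 ≤ q := by
    rw [hc] at hGBle
    have : z * q * (c + 1) ≤ z * q * q := by
      calc z * q * (c + 1) = z * q * c + z * q := by ring
        _ ≤ z * q * q := hGBle
    exact Nat.le_of_mul_le_mul_left this (by positivity)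
  obtain ⟨k, hk⟩ := orb_mod H
  rw [← hn, ← hq] at hk
  have hk1 : 1 ≤ k := by
    rcases Nat.eq_zero_or_pos k with h0 | h0
    · exfalso
      rw [h0, zero_mul, add_zero] at hk
      exact hn2 hk
    · exact h0
  have h3 : n * q * c = s * (2 + n * (q - 2)) := by
    rw [hc] at heq
    have : z * (n * q * c) = z * (s * (2 + n * (q - 2))) := by
      calc z * (n * q * c) = n * (z * q * c) := by ring
        _ = z * s * (2 + n * (q - 2)) := heq
        _ = z * (s * (2 + n * (q - 2))) := by ring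
    exact Nat.eq_of_mul_eq_mul_left (by omega) this
  have hcard : Nat.card H = z * (n * q * c) := by
    rw [← hOS, hc]; ring
  refine ⟨y₁, s, c, k, hy₁O, hs2, hc1, hk1, hstab, hYeq, hN2, hc, hcq, hk, h3, hcard, ?_⟩
  by_cases hq2' : q = 2
  · left; exact hq2'
  right
  have hq3 : 3 ≤ q := by omega
  have hnum : (k : ℤ) = 1 ∨ ((q : ℤ) = 3 ∧ (k : ℤ) = 3 ∧ (c : ℤ) = 2 ∧ (s : ℤ) = 5) := by
    apply numerics_int (q : ℤ) (c : ℤ) (s : ℤ) (k : ℤ) (by exact_mod_cast hq3)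
      (by exact_mod_cast hc1) (by omega) (by exact_mod_cast hs2) (by exact_mod_cast hk1)
    rw [hk] at h3
    have h4 : ((q - 2 : ℕ) : ℤ) = (q : ℤ) - 2 := by
      rw [Nat.cast_sub (by omega)]; norm_num
    have h5 := congrArg (fun x : ℕ => (x : ℤ)) h3
    simp only [Nat.cast_mul, Nat.cast_add, Nat.cast_one, Nat.cast_ofNat, h4] at h5
    exact h5
  rcases hnum with hk' | ⟨hq', hk', hc', hs'⟩
  · left; exact_mod_cast hk'
  · right
    exact ⟨by exact_mod_cast hq', by exact_mod_cast hk', by exact_mod_cast hc', by exact_mod_cast hs'⟩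

/-- all parabolic fixed points are conjugate to `∞` -/
theorem parabolic_mem_orb (hH : -1 ∈ H) {a₀ : K} (ha : uS a₀ ∈ H) (ha0 : a₀ ≠ 0)
    {y : ℙ K (Fin 2 → K)} (hy : N2 H y ≠ 0) : y ∈ orb H pInf := by
  obtain ⟨_, hmain⟩ := main_count_z H hH ha ha0
  have hyY : y ∈ YY H := by
    by_contra hnot
    apply hy
    unfold N2
    have : {g : SpecialLinearGroup (Fin 2) K | g ∈ H ∧ g ≠ 1 ∧ g ≠ -1 ∧ tr g ^ 2 = 4 ∧ g • y = y} = ∅ := by
      ext g
      simp only [Set.mem_ofPred_eq, Set.mem_empty_iff_false, iff_false]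
      rintro ⟨h1, h2, h3, _, h5⟩
      exact hnot ⟨g, h1, h2, h3, h5⟩
    rw [this, Set.ncard_empty]
  rcases hmain with ⟨hsub, _⟩ | ⟨y₁, s, hy₁O, hs2, hstab, heq, hYeq, hN2⟩
  · exact hsub hyY
  · rw [hYeq] at hyY
    rcases hyY with h | ⟨r, hr, rfl⟩
    · exact h
    · exfalso
      rw [N2_smul hr] at hy
      exact hy hN2

end Cfsg.Agent.helper4.Dn
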