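import Mathlib
import Cfsg.Agent.Lib_helper4_DnC

set_option autoImplicit false
set_option linter.unusedSectionVars false

/-!
# Finite subgroups of `SL₂(K)` without parabolic elements
-/

namespace Cfsg.Agent.helper4.Dn

open Matrix
open scoped LinearAlgebra.Projectivization MatrixGroups
open Cfsg.Agent.helper4.Dk

/-- the polyhedral types -/
def Typ (a b c hb : ℕ) : Prop :=
  a = 2 ∧ ((b = 2 ∧ hb = 2 * c ∧ 2 ≤ c) ∨ (b = 3 ∧ c = 3 ∧ hb = 12) ∨ (b = 3 ∧ c = 4 ∧ hb = 24) ∨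
    (b = 3 ∧ c = 5 ∧ hb = 60))

theorem numerics_sorted (hb n₁ n₂ n₃ s₁ s₂ s₃ : ℕ) (h1 : n₁ * s₁ = hb) (h2 : n₂ * s₂ = hb)
    (h3 : n₃ * s₃ = hb) (hs₁ : 2 ≤ s₁) (h12 : s₁ ≤ s₂) (h23 : s₂ ≤ s₃)
    (hsum : n₁ + n₂ + n₃ = hb + 2) : Typ s₁ s₂ s₃ hb := by
  have hs1 : s₁ = 2 := by
    by_contra hne
    have e1 : n₁ * 3 ≤ n₁ * s₁ := Nat.mul_le_mul_left _ (by omega)
    have e2 : n₂ * 3 ≤ n₂ * s₂ := Nat.mul_le_mul_left _ (by omega)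
    have e3 : n₃ * 3 ≤ n₃ * s₃ := Nat.mul_le_mul_left _ (by omega)
    omega
  subst hs1
  have hs2 : s₂ ≤ 3 := by
    by_contra hne
    have e2 : n₂ * 4 ≤ n₂ * s₂ := Nat.mul_le_mul_left _ (by omega)
    have e3 : n₃ * 4 ≤ n₃ * s₃ := Nat.mul_le_mul_left _ (by omega)
    omega
  have : s₂ = 2 ∨ s₂ = 3 := by omega
  rcases this with rfl | rfl
  · refine ⟨rfl, Or.inl ⟨rfl, ?_, by omega⟩⟩
    have hn3 : n₃ = 2 := by omega
    rw [hn3] at h3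
    omega
  · have hs3 : s₃ ≤ 5 := by
      by_contra hne
      have e3 : n₃ * 6 ≤ n₃ * s₃ := Nat.mul_le_mul_left _ (by omega)
      omega
    have : s₃ = 3 ∨ s₃ = 4 ∨ s₃ = 5 := by omega
    rcases this with rfl | rfl | rfl
    · exact ⟨rfl, Or.inr (Or.inl ⟨rfl, rfl, by omega⟩)⟩
    · exact ⟨rfl, Or.inr (Or.inr (Or.inl ⟨rfl, rfl, by omega⟩))⟩
    · exact ⟨rfl, Or.inr (Or.inr (Or.inr ⟨rfl, rfl, by omega⟩))⟩

variable {K : Type*} [Field K] [IsAlgClosed K]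
variable (H : Subgroup (SpecialLinearGroup (Fin 2) K)) [Finite H]

/-- orbit data of the polyhedral kind -/
def Poly (y₁ y₂ y₃ : ℙ K (Fin 2 → K)) (s₁ s₂ s₃ hb : ℕ) : Prop :=
  y₁ ∈ YY H ∧ y₂ ∈ YY H ∧ y₃ ∈ YY H ∧ y₂ ∉ orb H y₁ ∧ y₃ ∉ orb H y₁ ∧ y₃ ∉ orb H y₂ ∧
  (∀ x ∈ YY H, x ∈ orb H y₁ ∨ x ∈ orb H y₂ ∨ x ∈ orb H y₃) ∧
  Nat.card (stabIn H y₁) = zc K * s₁ ∧ Nat.card (stabIn H y₂) = zc K * s₂ ∧
  Nat.card (stabIn H y₃) = zc K * s₃ ∧ Nat.card H = zc K * hb ∧ Typ s₁ s₂ s₃ hb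

theorem orb_symm' {H : Subgroup (SpecialLinearGroup (Fin 2) K)} {u v : ℙ K (Fin 2 → K)}
    (h : u ∉ orb H v) : v ∉ orb H u := by
  intro h'
  apply h
  rw [orb_eq_of_mem h']; exact mem_orb_self H _

theorem pprime_z (hH : -1 ∈ H) (hpp : ∀ y, N2 H y = 0) :
    (∃ y : ℙ K (Fin 2 → K), ∀ g ∈ H, g • y = y) ∨
    ∃ (y₁ y₂ y₃ : ℙ K (Fin 2 → K)) (s₁ s₂ s₃ hb : ℕ), Poly H y₁ y₂ y₃ s₁ s₂ s₃ hb := by
  classical
  obtain ⟨z, hz⟩ : ∃ z, z = zc K := ⟨_, rfl⟩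
  have hz1 : 1 ≤ z := hz ▸ zc_pos K
  obtain ⟨Hc, hHc⟩ : ∃ Hc, Hc = Nat.card H := ⟨_, rfl⟩
  -- no nonscalar stabilisers: everything is scalar
  by_cases hYe : YY H = ∅
  · left
    refine ⟨pInf, ?_⟩
    intro g hg
    by_cases h1 : g = 1
    · rw [h1, one_smul]
    by_cases h2 : g = -1
    · rw [h2]; exact neg_one_smul' _
    exfalso
    obtain ⟨y, hy⟩ := exists_fixed' g
    have : y ∈ YY H := ⟨g, hg, h1, h2, hy⟩
    rw [hYe] at this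
    exact this
  obtain ⟨y₁, hy₁⟩ := Set.nonempty_iff_ne_empty.mpr hYe
  obtain ⟨s₁, hs₁, hst₁, hns₁, hw₁⟩ := semisimple_point H hH hy₁ (hpp y₁)
  obtain ⟨n₁, hn₁⟩ : ∃ x, x = (orb H y₁).ncard := ⟨_, rfl⟩
  rw [← hn₁, ← hz, ← hHc] at hns₁ hw₁
  rw [← hz] at hst₁
  have hn₁1 : 1 ≤ n₁ := hn₁ ▸ orb_ncard_pos H y₁
  have hh₁ : 2 * (n₁ * z) ≤ Hc := by
    rw [← hns₁]
    calc 2 * (n₁ * z) = n₁ * (z * 2) := by ring
      _ ≤ n₁ * (z * s₁) := Nat.mul_le_mul_left _ (Nat.mul_le_mul_left _ hs₁)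
  have hzz : z ≤ n₁ * z := Nat.le_mul_of_pos_left z hn₁1
  -- second orbit
  have hR1 : ∀ y ∈ ({y₁} : Finset (ℙ K (Fin 2 → K))), y ∈ YY H := by
    intro y hy; rw [Finset.mem_singleton] at hy; rw [hy]; exact hy₁
  obtain ⟨y₂, hy₂, hy₂O⟩ := exists_new_orbit H {y₁} hH hR1 (by simp) (by
    rw [Finset.sum_singleton, ← hz, ← hHc]
    omega)
  have hy₂O1 : y₂ ∉ orb H y₁ := hy₂O y₁ (by simp)
  obtain ⟨s₂, hs₂, hst₂, hns₂, hw₂⟩ := semisimple_point H hH hy₂ (hpp y₂)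
  obtain ⟨n₂, hn₂⟩ : ∃ x, x = (orb H y₂).ncard := ⟨_, rfl⟩
  rw [← hn₂, ← hz, ← hHc] at hns₂ hw₂
  rw [← hz] at hst₂
  have hn₂1 : 1 ≤ n₂ := hn₂ ▸ orb_ncard_pos H y₂
  have hh₂ : 2 * (n₂ * z) ≤ Hc := by
    rw [← hns₂]
    calc 2 * (n₂ * z) = n₂ * (z * 2) := by ring
      _ ≤ n₂ * (z * s₂) := Nat.mul_le_mul_left _ (Nat.mul_le_mul_left _ hs₂)
  have hzz2 : z ≤ n₂ * z := Nat.le_mul_of_pos_left z hn₂1
  have hne12 : y₁ ≠ y₂ := by rintro rfl; exact hy₂O1 (mem_orb_self H _)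
  have hR2 : ∀ y ∈ ({y₁, y₂} : Finset (ℙ K (Fin 2 → K))), y ∈ YY H := by
    intro y hy
    rw [Finset.mem_insert, Finset.mem_singleton] at hy
    rcases hy with rfl | rfl
    · exact hy₁
    · exact hy₂
  have hd2 : ∀ y ∈ ({y₁, y₂} : Finset (ℙ K (Fin 2 → K))), ∀ y' ∈ ({y₁, y₂} : Finset _),
      y ≠ y' → y' ∉ orb H y := by
    intro y hy y' hy' hne
    rw [Finset.mem_insert, Finset.mem_singleton] at hy hy'
    rcases hy with rfl | rfl <;> rcases hy' with rfl | rfl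
    · exact absurd rfl hne
    · exact hy₂O1
    · exact orb_symm' hy₂O1
    · exact absurd rfl hne
  by_cases h2orb : ∑ y ∈ ({y₁, y₂} : Finset (ℙ K (Fin 2 → K))), wt H y + 2 * zc K = 2 * Nat.card H
  · -- two orbits : `H` fixes `y₁`
    left
    rw [Finset.sum_pair hne12, ← hz, ← hHc] at h2orb
    have hn11 : n₁ = 1 := by
      by_contra hne
      have : 2 * z ≤ n₁ * z := Nat.mul_le_mul_right z (by omega)
      omega
    refine ⟨y₁, ?_⟩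
    have hcard : Nat.card (stabIn H y₁) = Nat.card H := by
      rw [hst₁, ← hHc, ← hns₁, hn11, one_mul]
    have hle : stabIn H y₁ ≤ H := inf_le_left
    have heq : stabIn H y₁ = H := Subgroup.eq_of_le_of_card_ge hle (by rw [hcard])
    intro g hg
    rw [← heq] at hg
    exact (mem_stabIn.mp hg).2
  right
  obtain ⟨y₃, hy₃, hy₃O⟩ := exists_new_orbit H {y₁, y₂} hH hR2 hd2 h2orb
  have hy₃O1 : y₃ ∉ orb H y₁ := hy₃O y₁ (by simp)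
  have hy₃O2 : y₃ ∉ orb H y₂ := hy₃O y₂ (by simp)
  obtain ⟨s₃, hs₃, hst₃, hns₃, hw₃⟩ := semisimple_point H hH hy₃ (hpp y₃)
  obtain ⟨n₃, hn₃⟩ : ∃ x, x = (orb H y₃).ncard := ⟨_, rfl⟩
  rw [← hn₃, ← hz, ← hHc] at hns₃ hw₃
  rw [← hz] at hst₃
  have hh₃ : 2 * (n₃ * z) ≤ Hc := by
    rw [← hns₃]
    calc 2 * (n₃ * z) = n₃ * (z * 2) := by ring
      _ ≤ n₃ * (z * s₃) := Nat.mul_le_mul_left _ (Nat.mul_le_mul_left _ hs₃)
  have hne13 : y₁ ≠ y₃ := by rintro rfl; exact hy₃O1 (mem_orb_self H _)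
  have hne23 : y₂ ≠ y₃ := by rintro rfl; exact hy₃O2 (mem_orb_self H _)
  have hR3 : ∀ y ∈ ({y₁, y₂, y₃} : Finset (ℙ K (Fin 2 → K))), y ∈ YY H := by
    intro y hy
    simp only [Finset.mem_insert, Finset.mem_singleton] at hy
    rcases hy with rfl | rfl | rfl
    · exact hy₁
    · exact hy₂
    · exact hy₃
  have hd3 : ∀ y ∈ ({y₁, y₂, y₃} : Finset (ℙ K (Fin 2 → K))),
      ∀ y' ∈ ({y₁, y₂, y₃} : Finset _), y ≠ y' → y' ∉ orb H y := by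
    intro y hy y' hy' hne
    simp only [Finset.mem_insert, Finset.mem_singleton] at hy hy'
    rcases hy with rfl | rfl | rfl <;> rcases hy' with rfl | rfl | rfl
    · exact absurd rfl hne
    · exact hy₂O1
    · exact hy₃O1
    · exact orb_symm' hy₂O1
    · exact absurd rfl hne
    · exact hy₃O2
    · exact orb_symm' hy₃O1
    · exact orb_symm' hy₃O2
    · exact absurd rfl hne
  have hsum3 : ∑ y ∈ ({y₁, y₂, y₃} : Finset (ℙ K (Fin 2 → K))), wt H y =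
      wt H y₁ + wt H y₂ + wt H y₃ := by
    rw [Finset.sum_insert (by simp [hne12, hne13]), Finset.sum_pair hne23, add_assoc]
  -- no fourth orbit
  have hcov : ∀ x ∈ YY H, ∃ y ∈ ({y₁, y₂, y₃} : Finset (ℙ K (Fin 2 → K))), x ∈ orb H y := by
    by_contra hcon
    push Not at hcon
    obtain ⟨y₄, hy₄, hy₄O⟩ := hcon
    have hy₄O1 : y₄ ∉ orb H y₁ := hy₄O y₁ (by simp)
    have hy₄O2 : y₄ ∉ orb H y₂ := hy₄O y₂ (by simp)
    have hy₄O3 : y₄ ∉ orb H y₃ := hy₄O y₃ (by simp)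
    obtain ⟨s₄, hs₄, hst₄, hns₄, hw₄⟩ := semisimple_point H hH hy₄ (hpp y₄)
    obtain ⟨n₄, hn₄⟩ : ∃ x, x = (orb H y₄).ncard := ⟨_, rfl⟩
    rw [← hn₄, ← hz, ← hHc] at hns₄ hw₄
    have hh₄ : 2 * (n₄ * z) ≤ Hc := by
      rw [← hns₄]
      calc 2 * (n₄ * z) = n₄ * (z * 2) := by ring
        _ ≤ n₄ * (z * s₄) := Nat.mul_le_mul_left _ (Nat.mul_le_mul_left _ hs₄)
    have hne14 : y₁ ≠ y₄ := by rintro rfl; exact hy₄O1 (mem_orb_self H _)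
    have hne24 : y₂ ≠ y₄ := by rintro rfl; exact hy₄O2 (mem_orb_self H _)
    have hne34 : y₃ ≠ y₄ := by rintro rfl; exact hy₄O3 (mem_orb_self H _)
    have hR4 : ∀ y ∈ ({y₁, y₂, y₃, y₄} : Finset (ℙ K (Fin 2 → K))), y ∈ YY H := by
      intro y hy
      simp only [Finset.mem_insert, Finset.mem_singleton] at hy
      rcases hy with rfl | rfl | rfl | rfl
      · exact hy₁
      · exact hy₂
      · exact hy₃
      · exact hy₄
    have hd4 : ∀ y ∈ ({y₁, y₂, y₃, y₄} : Finset (ℙ K (Fin 2 → K))),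
        ∀ y' ∈ ({y₁, y₂, y₃, y₄} : Finset _), y ≠ y' → y' ∉ orb H y := by
      intro y hy y' hy' hne
      simp only [Finset.mem_insert, Finset.mem_singleton] at hy hy'
      rcases hy with rfl | rfl | rfl | rfl <;> rcases hy' with rfl | rfl | rfl | rfl
      · exact absurd rfl hne
      · exact hy₂O1
      · exact hy₃O1
      · exact hy₄O1
      · exact orb_symm' hy₂O1
      · exact absurd rfl hne
      · exact hy₃O2
      · exact hy₄O2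
      · exact orb_symm' hy₃O1
      · exact orb_symm' hy₃O2
      · exact absurd rfl hne
      · exact hy₄O3
      · exact orb_symm' hy₄O1
      · exact orb_symm' hy₄O2
      · exact orb_symm' hy₄O3
      · exact absurd rfl hne
    have hle4 := sum_wt_le H {y₁, y₂, y₃, y₄} hH hR4 hd4
    rw [Finset.sum_insert (by simp [hne12, hne13, hne14]),
      Finset.sum_insert (by simp [hne23, hne24]), Finset.sum_pair hne34, ← hz, ← hHc] at hle4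
    omega
  have heq3 := sum_wt_eq H {y₁, y₂, y₃} hH hR3 hd3 hcov
  rw [hsum3, ← hz, ← hHc] at heq3
  -- numerics
  obtain ⟨hb, hhb⟩ : ∃ hb, hb = n₁ * s₁ := ⟨_, rfl⟩
  have hHb : Hc = z * hb := by rw [← hns₁, hhb]; ring
  have e1 : n₁ * s₁ = hb := hhb.symm
  have e2 : n₂ * s₂ = hb := by
    have : z * (n₂ * s₂) = z * hb := by rw [← hHb, ← hns₂]; ring
    exact Nat.eq_of_mul_eq_mul_left (by omega) this
  have e3 : n₃ * s₃ = hb := by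
    have : z * (n₃ * s₃) = z * hb := by rw [← hHb, ← hns₃]; ring
    exact Nat.eq_of_mul_eq_mul_left (by omega) this
  have esum : n₁ + n₂ + n₃ = hb + 2 := by
    have : z * (n₁ + n₂ + n₃) = z * (hb + 2) := by
      have h5 : z * (n₁ + n₂ + n₃) = n₁ * z + n₂ * z + n₃ * z := by ring
      have h6 : z * (hb + 2) = z * hb + 2 * z := by ring
      rw [h5, h6, ← hHb]
      omega
    exact Nat.eq_of_mul_eq_mul_left (by omega) this
  have hcov' : ∀ x ∈ YY H, x ∈ orb H y₁ ∨ x ∈ orb H y₂ ∨ x ∈ orb H y₃ := by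
    intro x hx
    obtain ⟨y, hy, hxy⟩ := hcov x hx
    simp only [Finset.mem_insert, Finset.mem_singleton] at hy
    rcases hy with rfl | rfl | rfl
    · exact Or.inl hxy
    · exact Or.inr (Or.inl hxy)
    · exact Or.inr (Or.inr hxy)
  rw [hHb] at hHc
  have hHc' : Nat.card H = zc K * hb := by rw [← hHc, hz]
  rw [hz] at hst₁ hst₂ hst₃
  -- sort
  rcases le_total s₁ s₂ with h12 | h12 <;> rcases le_total s₂ s₃ with h23 | h23 <;>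
    rcases le_total s₁ s₃ with h13 | h13
  · exact ⟨y₁, y₂, y₃, s₁, s₂, s₃, hb, hy₁, hy₂, hy₃, hy₂O1, hy₃O1, hy₃O2, hcov', hst₁, hst₂, hst₃,
      hHc', numerics_sorted hb n₁ n₂ n₃ s₁ s₂ s₃ e1 e2 e3 hs₁ h12 h23 esum⟩
  · exact ⟨y₁, y₂, y₃, s₁, s₂, s₃, hb, hy₁, hy₂, hy₃, hy₂O1, hy₃O1, hy₃O2, hcov', hst₁, hst₂, hst₃,
      hHc', numerics_sorted hb n₁ n₂ n₃ s₁ s₂ s₃ e1 e2 e3 hs₁ h12 h23 esum⟩
  · -- s₁ ≤ s₃ ≤ s₂
    exact ⟨y₁, y₃, y₂, s₁, s₃, s₂, hb, hy₁, hy₃, hy₂, hy₃O1, hy₂O1, orb_symm' hy₃O2,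
      fun x hx => by
        rcases hcov' x hx with h | h | h
        · exact Or.inl h
        · exact Or.inr (Or.inr h)
        · exact Or.inr (Or.inl h),
      hst₁, hst₃, hst₂, hHc',
      numerics_sorted hb n₁ n₃ n₂ s₁ s₃ s₂ e1 e3 e2 hs₁ h13 h23 (by omega)⟩
  · -- s₃ ≤ s₁ ≤ s₂
    exact ⟨y₃, y₁, y₂, s₃, s₁, s₂, hb, hy₃, hy₁, hy₂, orb_symm' hy₃O1, orb_symm' hy₃O2, hy₂O1,
      fun x hx => by
        rcases hcov' x hx with h | h | h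
        · exact Or.inr (Or.inl h)
        · exact Or.inr (Or.inr h)
        · exact Or.inl h,
      hst₃, hst₁, hst₂, hHc',
      numerics_sorted hb n₃ n₁ n₂ s₃ s₁ s₂ e3 e1 e2 hs₃ h13 h12 (by omega)⟩
  · -- s₂ ≤ s₁, s₂ ≤ s₃, s₁ ≤ s₃
    exact ⟨y₂, y₁, y₃, s₂, s₁, s₃, hb, hy₂, hy₁, hy₃, orb_symm' hy₂O1, hy₃O2, hy₃O1,
      fun x hx => by
        rcases hcov' x hx with h | h | h
        · exact Or.inr (Or.inl h)
        · exact Or.inl h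
        · exact Or.inr (Or.inr h),
      hst₂, hst₁, hst₃, hHc',
      numerics_sorted hb n₂ n₁ n₃ s₂ s₁ s₃ e2 e1 e3 hs₂ h12 h13 (by omega)⟩
  · -- s₂ ≤ s₃ ≤ s₁
    exact ⟨y₂, y₃, y₁, s₂, s₃, s₁, hb, hy₂, hy₃, hy₁, hy₃O2, orb_symm' hy₂O1, orb_symm' hy₃O1,
      fun x hx => by
        rcases hcov' x hx with h | h | h
        · exact Or.inr (Or.inr h)
        · exact Or.inl h
        · exact Or.inr (Or.inl h),
      hst₂, hst₃, hst₁, hHc',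
      numerics_sorted hb n₂ n₃ n₁ s₂ s₃ s₁ e2 e3 e1 hs₂ h23 h13 (by omega)⟩
  · -- s₂ ≤ s₁, s₃ ≤ s₂, s₁ ≤ s₃ : all equal
    exact ⟨y₁, y₂, y₃, s₁, s₂, s₃, hb, hy₁, hy₂, hy₃, hy₂O1, hy₃O1, hy₃O2, hcov', hst₁, hst₂, hst₃,
      hHc', numerics_sorted hb n₁ n₂ n₃ s₁ s₂ s₃ e1 e2 e3 hs₁ (by omega) (by omega) esum⟩
  · -- s₃ ≤ s₂ ≤ s₁
    exact ⟨y₃, y₂, y₁, s₃, s₂, s₁, hb, hy₃, hy₂, hy₁, orb_symm' hy₃O2, orb_symm' hy₃O1,
      orb_symm' hy₂O1,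
      fun x hx => by
        rcases hcov' x hx with h | h | h
        · exact Or.inr (Or.inr h)
        · exact Or.inr (Or.inl h)
        · exact Or.inl h,
      hst₃, hst₂, hst₁, hHc',
      numerics_sorted hb n₃ n₂ n₁ s₃ s₂ s₁ e3 e2 e1 hs₃ h23 h12 (by omega)⟩

end Cfsg.Agent.helper4.Dn
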