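import Mathlib
import Cfsg.Agent.Lib_helper4_DnD

set_option autoImplicit false
set_option linter.unusedSectionVars false

/-!
# Subgroups of `SL₂(F)`, `F` finite, inside `SL₂(K)`, `K` algebraically closed
-/

namespace Cfsg.Agent.helper4.Dn

open Matrix
open scoped LinearAlgebra.Projectivization MatrixGroups
open Cfsg.Agent.helper4.Dk

variable {F : Type*} [Field F] [Fintype F] {K : Type*} [Field K] [Algebra F K]

/-- the embedding `SL₂(F) → SL₂(K)` -/
noncomputable def iota (F : Type*) [Field F] (K : Type*) [Field K] [Algebra F K] :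
    SpecialLinearGroup (Fin 2) F →* SpecialLinearGroup (Fin 2) K :=
  Matrix.SpecialLinearGroup.map (algebraMap F K)

theorem iota_apply (g : SpecialLinearGroup (Fin 2) F) (i j : Fin 2) :
    (iota F K g) i j = algebraMap F K (g i j) := rfl

theorem iota_injective : Function.Injective (iota F K) := by
  intro g h hgh
  have key : ∀ i j, g i j = h i j := by
    intro i j
    have := congrArg (fun x : SpecialLinearGroup (Fin 2) K => x i j) hgh
    simp only [iota_apply] at this
    exact (algebraMap F K).injective this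
  apply sl_ext' <;> exact key _ _

theorem iota_neg_one : iota F K (-1) = -1 := by
  apply sl_ext'
  all_goals simp [iota_apply, Matrix.SpecialLinearGroup.coe_neg]

theorem pow_card_algebraMap (a : F) : (algebraMap F K a) ^ Fintype.card F = algebraMap F K a := by
  rw [← map_pow, FiniteField.pow_card]

/-- eigenvalues of elements of `SL₂(F)` -/
theorem eigen_pow_card (t₀ : F) (σ : K) (h : σ ^ 2 - algebraMap F K t₀ * σ + 1 = 0) :
    σ ^ (Fintype.card F - 1) = 1 ∨ σ ^ (Fintype.card F + 1) = 1 := by
  have hσ0 : σ ≠ 0 := by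
    rintro rfl
    norm_num at h
  have h2 : (σ ^ Fintype.card F) ^ 2 - algebraMap F K t₀ * σ ^ Fintype.card F + 1 = 0 := by
    have e := congrArg (FiniteField.frobeniusAlgHom F K) h
    rw [map_add, map_sub, map_mul, map_pow, map_one, map_zero, AlgHom.commutes,
      FiniteField.frobeniusAlgHom_apply] at e
    exact e
  have h3 : (σ ^ Fintype.card F - σ) * (σ ^ Fintype.card F * σ - 1) = 0 := by
    linear_combination σ * h2 - σ ^ Fintype.card F * h
  have hq : 1 ≤ Fintype.card F := Fintype.card_pos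
  rcases mul_eq_zero.mp h3 with h4 | h4
  · left
    have h5 : σ ^ (Fintype.card F - 1) * σ = 1 * σ := by
      rw [← pow_succ, Nat.sub_add_cancel hq, one_mul]
      exact sub_eq_zero.mp h4
    exact mul_right_cancel₀ hσ0 h5
  · right
    rw [pow_succ]
    exact sub_eq_zero.mp h4

variable [IsAlgClosed K]

/-- a stabiliser without parabolic elements is cyclic of order dividing `q ± 1` -/
theorem card_stab_dvd (Ht : Subgroup (SpecialLinearGroup (Fin 2) F))
    (hH : -1 ∈ Ht) (y : ℙ K (Fin 2 → K)) (hN2 : N2 (Ht.map (iota F K)) y = 0) :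
    Nat.card (stabIn (Ht.map (iota F K)) y) ∣ Fintype.card F - 1 ∨
      Nat.card (stabIn (Ht.map (iota F K)) y) ∣ Fintype.card F + 1 := by
  classical
  set H := Ht.map (iota F K) with hHdef
  haveI : Finite H := by
    rw [hHdef]
    exact Finite.of_surjective (fun g : Ht => (⟨iota F K g, Subgroup.mem_map_of_mem _ g.2⟩ :
      Ht.map (iota F K))) (by
        rintro ⟨_, g, hg, rfl⟩
        exact ⟨⟨g, hg⟩, rfl⟩)
  have hH' : -1 ∈ H := by
    rw [hHdef, ← iota_neg_one (F := F) (K := K)]
    exact Subgroup.mem_map_of_mem _ hH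
  obtain ⟨s, rfl⟩ := exists_smul_pInf y
  rw [N2_conj] at hN2
  rw [card_stabIn_conj, stabIn_pInf]
  set H' := cj s H with hH'def
  have hH'' : -1 ∈ H' := neg_one_mem_cj hH'
  -- `AA H'` is trivial
  have hAA : ∀ a : K, uS a ∈ H' → a = 0 := by
    intro a ha
    have h1 := N2_pInf_add_z H' hH''
    have h3 := card_ZP_z H' hH''
    rw [hN2, zero_add] at h1
    have hz := zc_pos K
    have h4 : Nat.card (AA H') = 1 := by
      have : zc K * Nat.card (AA H') = zc K * 1 := by rw [← h3, ← h1, mul_one]
      exact Nat.eq_of_mul_eq_mul_left hz this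
    rw [Nat.card_eq_one_iff_unique] at h4
    obtain ⟨hsub, _⟩ := h4
    have := hsub.elim (⟨a, ha⟩ : AA H') 0
    exact congrArg Subtype.val this
  -- the character
  let χ : GB H' →* K :=
    { toFun := fun g => (g : SpecialLinearGroup (Fin 2) K) 0 0
      map_one' := by simp
      map_mul' := by
        intro g h
        have h10 : (h : SpecialLinearGroup (Fin 2) K) 1 0 = 0 := h.2.2
        change ((g : SpecialLinearGroup (Fin 2) K) * (h : SpecialLinearGroup (Fin 2) K)) 0 0 = _
        rw [mul_00, h10, mul_zero, add_zero] }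
  have hχ : Function.Injective χ := by
    intro g h hgh
    have hg10 : (g : SpecialLinearGroup (Fin 2) K) 1 0 = 0 := g.2.2
    have hh10 : (h : SpecialLinearGroup (Fin 2) K) 1 0 = 0 := h.2.2
    have hgh' : (g : SpecialLinearGroup (Fin 2) K) 0 0 = (h : SpecialLinearGroup (Fin 2) K) 0 0 := hgh
    have hdg := diag_mul_of_tri _ hg10
    set u := (g : SpecialLinearGroup (Fin 2) K)⁻¹ * (h : SpecialLinearGroup (Fin 2) K) with hu
    have hu10 : u 1 0 = 0 := by
      rw [hu, mul_10, inv_10, inv_11, hg10, hh10]; ring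
    have hu00 : u 0 0 = 1 := by
      rw [hu, mul_00, inv_00, inv_01, hh10, mul_zero, add_zero, ← hgh', mul_comm]
      exact hdg
    have huH : u ∈ H' := H'.mul_mem (H'.inv_mem g.2.1) h.2.1
    have hu' := eq_uS_of u hu10 hu00
    have h0 := hAA (u 0 1) (by rw [← hu']; exact huH)
    rw [h0, uS_zero] at hu'
    apply Subtype.ext
    have : (g : SpecialLinearGroup (Fin 2) K) * u = (h : SpecialLinearGroup (Fin 2) K) := by
      rw [hu]; group
    rw [← this, hu', mul_one]
  haveI : IsCyclic (GB H') := isCyclic_of_injective_ringHom χ hχ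
  obtain ⟨g₀, hg₀⟩ := IsCyclic.exists_generator (α := GB H')
  have hord : orderOf g₀ = Nat.card (GB H') := orderOf_eq_card_of_forall_mem_zpowers hg₀
  -- eigenvalue of the generator
  have hg₀H : s * (g₀ : SpecialLinearGroup (Fin 2) K) * s⁻¹ ∈ H := g₀.2.1
  rw [hHdef] at hg₀H
  obtain ⟨g₁, _, hg₁⟩ := hg₀H
  have h10 : (g₀ : SpecialLinearGroup (Fin 2) K) 1 0 = 0 := g₀.2.2
  have hd := diag_mul_of_tri _ h10
  have htr : tr (g₀ : SpecialLinearGroup (Fin 2) K) = algebraMap F K (g₁ 0 0 + g₁ 1 1) := by
    rw [← tr_conj s, ← hg₁]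
    unfold tr
    rw [iota_apply, iota_apply, map_add]
  have hroot : ((g₀ : SpecialLinearGroup (Fin 2) K) 0 0) ^ 2 -
      algebraMap F K (g₁ 0 0 + g₁ 1 1) * (g₀ : SpecialLinearGroup (Fin 2) K) 0 0 + 1 = 0 := by
    rw [← htr]
    unfold tr
    linear_combination -hd
  have hpow : ∀ m : ℕ, ((g₀ : SpecialLinearGroup (Fin 2) K) 0 0) ^ m = 1 → g₀ ^ m = 1 := by
    intro m hm
    apply hχ
    rw [map_pow, map_one]
    exact hm
  rcases eigen_pow_card _ _ hroot with h | h
  · left
    rw [← hord]
    exact orderOf_dvd_of_pow_eq_one (hpow _ h)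
  · right
    rw [← hord]
    exact orderOf_dvd_of_pow_eq_one (hpow _ h)

end Cfsg.Agent.helper4.Dn
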