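import Mathlib
import Cfsg.Agent.Lib_helper4_DnE

set_option autoImplicit false
set_option linter.unusedSectionVars false

/-!
# Rationality and arithmetic lemmas for subgroups of `SL₂(F)`
-/

namespace Cfsg.Agent.helper4.Dn

open Matrix
open scoped LinearAlgebra.Projectivization MatrixGroups
open Cfsg.Agent.helper4.Dk

/-- `p^a + 1 ∣ p^(2f) - 1` forces `a ∣ f`. -/
theorem dvd_of_pow_add_one_dvd {p a f : ℕ} (hp : 2 ≤ p) (ha : 1 ≤ a)
    (h : p ^ a + 1 ∣ p ^ (2 * f) - 1) : a ∣ f := by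
  set d := p ^ a + 1 with hd
  have hpa : 2 ≤ p ^ a := by
    calc 2 ≤ p := hp
      _ = p ^ 1 := (pow_one p).symm
      _ ≤ p ^ a := Nat.pow_le_pow_right (by omega) ha
  have hd3 : 3 ≤ d := by omega
  haveI : NeZero d := ⟨by omega⟩
  have h1 : ((p : ZMod d)) ^ a = -1 := by
    have : ((p ^ a + 1 : ℕ) : ZMod d) = 0 := by rw [← hd]; exact ZMod.natCast_self d
    push_cast at this
    exact eq_neg_of_add_eq_zero_left this
  have h2a : ((p : ZMod d)) ^ (2 * a) = 1 := by
    rw [mul_comm, pow_mul, h1]; norm_num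
  have h2f : ((p : ZMod d)) ^ (2 * f) = 1 := by
    have hpos : 1 ≤ p ^ (2 * f) := Nat.one_le_pow _ _ (by omega)
    have : ((p ^ (2 * f) - 1 : ℕ) : ZMod d) = 0 := (ZMod.natCast_eq_zero_iff _ _).mpr h
    rw [Nat.cast_sub hpos] at this
    push_cast at this
    exact sub_eq_zero.mp this
  -- division with remainder
  obtain ⟨u, r, hr, hf⟩ : ∃ u r, r < a ∧ f = a * u + r :=
    ⟨f / a, f % a, Nat.mod_lt _ (by omega), (Nat.div_add_mod f a).symm⟩
  have h2r : ((p : ZMod d)) ^ (2 * r) = 1 := by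
    have : 2 * f = (2 * a) * u + 2 * r := by rw [hf]; ring
    rw [this, pow_add, pow_mul, h2a, one_pow, one_mul] at h2f
    exact h2f
  by_cases hr0 : r = 0
  · rw [hr0, add_zero] at hf
    exact ⟨u, hf⟩
  exfalso
  have hlt : ∀ j, 1 ≤ j → j ≤ a → p ^ j ≤ p ^ a := fun j _ hj => Nat.pow_le_pow_right (by omega) hj
  have hgt : ∀ j, 1 ≤ j → 2 ≤ p ^ j := by
    intro j hj
    calc 2 ≤ p := hp
      _ = p ^ 1 := (pow_one p).symm
      _ ≤ p ^ j := Nat.pow_le_pow_right (by omega) hj
  by_cases hcase : 2 * r ≤ a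
  · -- p^(2r) - 1 is a positive number smaller than d divisible by d
    have h3 : ((p ^ (2 * r) - 1 : ℕ) : ZMod d) = 0 := by
      have hpos : 1 ≤ p ^ (2 * r) := Nat.one_le_pow _ _ (by omega)
      rw [Nat.cast_sub hpos]
      push_cast
      rw [h2r, sub_self]
    have h4 := (ZMod.natCast_eq_zero_iff _ _).mp h3
    have h5 := hlt (2 * r) (by omega) hcase
    have h6 := hgt (2 * r) (by omega)
    have := Nat.le_of_dvd (by omega) h4
    omega
  · push Not at hcase
    have h3 : ((p : ZMod d)) ^ (2 * r - a) = -1 := by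
      have : 2 * r = a + (2 * r - a) := by omega
      rw [this, pow_add, h1] at h2r
      have : (p : ZMod d) ^ (2 * r - a) = -(-1 * (p : ZMod d) ^ (2 * r - a)) := by ring
      rw [this, h2r]
    have h4 : ((p ^ (2 * r - a) + 1 : ℕ) : ZMod d) = 0 := by
      push_cast
      rw [h3]; ring
    have h5 := (ZMod.natCast_eq_zero_iff _ _).mp h4
    have h6 : p ^ (2 * r - a) < p ^ a := Nat.pow_lt_pow_right (by omega) (by omega)
    have := Nat.le_of_dvd (by omega) h5
    omega

variable {F : Type*} [Field F] [Fintype F] {K : Type*} [Field K] [Algebra F K]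

theorem iota_wS (b : F) : iota F K (wS b) = wS (algebraMap F K b) := by
  apply sl_ext' <;> rw [iota_apply] <;> simp

theorem iota_uS (b : F) : iota F K (uS b) = uS (algebraMap F K b) := by
  apply sl_ext' <;> rw [iota_apply] <;> simp

theorem wS_smul_pInf (b : K) : wS b • (pInf : ℙ K (Fin 2 → K)) = pt b := by
  rw [smul_pInf_of_ne]
  · congr 1
    simp
  · simp

instance finite_map_iota (Ht : Subgroup (SpecialLinearGroup (Fin 2) F)) :
    Finite (Ht.map (iota F K)) :=
  Finite.of_surjective (fun g : Ht => (⟨iota F K g, Subgroup.mem_map_of_mem _ g.2⟩ :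
    Ht.map (iota F K))) (by
      rintro ⟨_, g, hg, rfl⟩
      exact ⟨⟨g, hg⟩, rfl⟩)

theorem card_map_iota (Ht : Subgroup (SpecialLinearGroup (Fin 2) F)) :
    Nat.card (Ht.map (iota F K)) = Nat.card Ht :=
  Subgroup.card_map_of_injective iota_injective

theorem neg_one_mem_map {Ht : Subgroup (SpecialLinearGroup (Fin 2) F)} (hH : -1 ∈ Ht) :
    -1 ∈ Ht.map (iota F K) := by
  rw [← iota_neg_one (F := F) (K := K)]
  exact Subgroup.mem_map_of_mem _ hH

/-- conjugating by a rational element -/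
theorem cj_map_iota (s : SpecialLinearGroup (Fin 2) F)
    (Ht : Subgroup (SpecialLinearGroup (Fin 2) F)) :
    cj (iota F K s) (Ht.map (iota F K)) = (cj s Ht).map (iota F K) := by
  ext x
  rw [mem_cj]
  constructor
  · rintro ⟨g, hg, hgx⟩
    refine ⟨s⁻¹ * g * s, ?_, ?_⟩
    · change s⁻¹ * g * s ∈ cj s Ht
      rw [mem_cj]
      have : s * (s⁻¹ * g * s) * s⁻¹ = g := by group
      rw [this]; exact hg
    · rw [map_mul, map_mul, hgx, map_inv]
      group
  · rintro ⟨g', hg', rfl⟩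
    have hg'' : s * g' * s⁻¹ ∈ Ht := hg'
    refine ⟨s * g' * s⁻¹, hg'', ?_⟩
    rw [map_mul, map_mul, map_inv]

variable [IsAlgClosed K]

/-- the fixed point of a rational parabolic element is rational -/
theorem exists_rational_conj (g : SpecialLinearGroup (Fin 2) F) (hg1 : iota F K g ≠ 1)
    (hg2 : iota F K g ≠ -1) (htr : tr (iota F K g) ^ 2 = 4) (y : ℙ K (Fin 2 → K))
    (hy : iota F K g • y = y) :
    ∃ s : SpecialLinearGroup (Fin 2) F, iota F K s • (pInf : ℙ K (Fin 2 → K)) = y := by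
  rcases eq_pInf_or_pt y with rfl | ⟨b, rfl⟩
  · exact ⟨1, by rw [map_one, one_smul]⟩
  set g' := iota F K g with hg'
  have hfix1 := (ncard_fix' g' hg1 hg2).1 htr
  obtain ⟨w, hw⟩ := Set.ncard_eq_one.mp hfix1
  have hden : g' 1 0 * b + g' 1 1 ≠ 0 := by
    intro h0
    rw [smul_pt_of_eq g' b h0] at hy
    exact pt_ne_pInf b hy.symm
  have heq : g' 0 0 * b + g' 0 1 = b * (g' 1 0 * b + g' 1 1) := by
    rw [smul_pt_of_ne g' b hden] at hy
    have := pt_injective hy
    rw [div_eq_iff hden] at this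
    exact this
  set φ := FiniteField.frobeniusAlgHom F K with hφ
  have hent : ∀ i j, φ (g' i j) = g' i j := by
    intro i j
    rw [hg', iota_apply, AlgHom.commutes]
  have hden' : g' 1 0 * φ b + g' 1 1 ≠ 0 := by
    intro h0
    apply hden
    have : φ (g' 1 0 * b + g' 1 1) = 0 := by
      rw [map_add, map_mul, hent, hent]; exact h0
    exact (map_eq_zero φ).mp this
  have heq' : g' 0 0 * φ b + g' 0 1 = φ b * (g' 1 0 * φ b + g' 1 1) := by
    have := congrArg φ heq
    rw [map_add, map_mul, map_mul, map_add, map_mul, hent, hent, hent, hent] at this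
    exact this
  have hfix' : g' • (pt (φ b) : ℙ K (Fin 2 → K)) = pt (φ b) := by
    rw [smul_pt_of_ne g' _ hden']
    congr 1
    rw [div_eq_iff hden']
    exact heq'
  have h1 : (pt b : ℙ K (Fin 2 → K)) ∈ {y : ℙ K (Fin 2 → K) | g' • y = y} := hy
  have h2 : (pt (φ b) : ℙ K (Fin 2 → K)) ∈ {y : ℙ K (Fin 2 → K) | g' • y = y} := hfix'
  rw [hw, Set.mem_singleton_iff] at h1 h2
  have hb : φ b = b := pt_injective (h2.trans h1.symm)
  rw [hφ, FiniteField.frobeniusAlgHom_apply] at hb
  obtain ⟨b₀, hb₀⟩ := mem_range_of_pow_card (F := F) b hb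
  refine ⟨wS b₀, ?_⟩
  rw [iota_wS, hb₀, wS_smul_pInf]

end Cfsg.Agent.helper4.Dn
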