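import Mathlib
import Cfsg.Agent.Lib_helper4_DnF
import Cfsg.Agent.Lib_helper12_Card

set_option autoImplicit false
set_option linter.unusedSectionVars false

/-!
# Arithmetic for the order bound
-/

namespace Cfsg.Agent.helper4.Dn

open Matrix
open scoped LinearAlgebra.Projectivization MatrixGroups
open Cfsg.Agent.helper4.Dk

/-- the case `n = 1 + q₁` -/
theorem arith_k1 {p f q q₁ c s z N : ℕ} (hp : p.Prime) (hf : 1 ≤ f) (hq : q = p ^ f)
    (hq₁ : q₁ ∣ q) (hq₁2 : 2 ≤ q₁) (hc1 : 1 ≤ c) (hcq : c + 1 ≤ q₁) (hz : z = 1 ∨ z = 2)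
    (hzq : z = 1 → 2 ∣ q)
    (heq : (1 + q₁) * q₁ * c = s * (2 + (1 + q₁) * (q₁ - 2)))
    (hN : N = z * ((1 + q₁) * q₁ * c)) (hdvd : N ∣ q * (q ^ 2 - 1)) :
    N ≤ q * (q - 1) ∨ N = q * (q ^ 2 - 1) := by
  have hp2 : 2 ≤ p := hp.two_le
  rw [hq] at hq₁
  obtain ⟨a, haf, rfl⟩ := (Nat.dvd_prime_pow hp).mp hq₁
  have ha1 : 1 ≤ a := by
    rcases Nat.eq_zero_or_pos a with h | h
    · rw [h, pow_zero] at hq₁2; omega
    · exact h
  have hq1 : 1 ≤ q := by rw [hq]; exact Nat.one_le_pow _ _ (by omega)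
  have hqsq : q ^ 2 - 1 = p ^ (2 * f) - 1 := by rw [hq, ← pow_mul, mul_comm]
  -- `p^a + 1 ∣ q^2 - 1`
  have hd1 : p ^ a + 1 ∣ q * (q ^ 2 - 1) := by
    refine dvd_trans ?_ hdvd
    rw [hN]
    refine dvd_mul_of_dvd_right (dvd_mul_of_dvd_left (dvd_mul_of_dvd_left ?_ _) _) _
    rw [add_comm]
  have hcop : Nat.Coprime (p ^ a + 1) q := by
    rw [hq]
    apply Nat.Coprime.pow_right
    rw [Nat.coprime_comm, Nat.Prime.coprime_iff_not_dvd hp]
    intro hdiv
    have h1 : p ∣ p ^ a := dvd_pow_self p (by omega)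
    have h2 : p ∣ 1 := (Nat.dvd_add_right h1).mp hdiv
    exact hp.one_lt.ne' (Nat.dvd_one.mp h2)
  have hd2 : p ^ a + 1 ∣ p ^ (2 * f) - 1 := by
    rw [← hqsq]
    exact hcop.dvd_of_dvd_mul_left hd1
  have haf' := dvd_of_pow_add_one_dvd hp2 ha1 hd2
  obtain ⟨u, hu⟩ := haf'
  have hu1 : 1 ≤ u := by
    rcases Nat.eq_zero_or_pos u with h | h
    · rw [h, mul_zero] at hu; omega
    · exact h
  set Q := p ^ a with hQ
  by_cases hu2 : 2 ≤ u
  · -- proper subfield case
    left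
    have hQ2 : Q ^ 2 ≤ q := by
      rw [hq, hQ, ← pow_mul]
      apply Nat.pow_le_pow_right (by omega)
      rw [hu]; nlinarith
    have hc' : c ≤ Q - 1 := by omega
    have h1 : N ≤ 2 * ((1 + Q) * Q * (Q - 1)) := by
      rw [hN]
      have : z ≤ 2 := by omega
      calc z * ((1 + Q) * Q * c) ≤ 2 * ((1 + Q) * Q * c) := Nat.mul_le_mul_right _ this
        _ ≤ 2 * ((1 + Q) * Q * (Q - 1)) :=
          Nat.mul_le_mul_left _ (Nat.mul_le_mul_left _ hc')
    obtain ⟨m, hm⟩ : ∃ m, Q = m + 2 := ⟨Q - 2, by omega⟩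
    have h2 : 2 * ((1 + Q) * Q * (Q - 1)) ≤ Q ^ 2 * (Q ^ 2 - 1) := by
      rw [hm]
      have e1 : m + 2 - 1 = m + 1 := by omega
      have e2 : (m + 2) ^ 2 - 1 = (m + 1) * (m + 3) := by
        have : (m + 2) ^ 2 = (m + 1) * (m + 3) + 1 := by ring
        omega
      rw [e1, e2]
      nlinarith [Nat.zero_le m, Nat.zero_le (m * m), Nat.zero_le (m * m * m)]
    have h3 : Q ^ 2 * (Q ^ 2 - 1) ≤ q * (q - 1) :=
      Nat.mul_le_mul hQ2 (Nat.sub_le_sub_right hQ2 1)
    omega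
  · -- `Q = q`
    have hu1' : u = 1 := by omega
    rw [hu1', mul_one] at hu
    have hQq : Q = q := by rw [hQ, hq, hu]
    rw [hQq] at heq hN hcq
    obtain ⟨m, hm⟩ : ∃ m, q = m + 2 := ⟨q - 2, by
      have : 2 ≤ q := by rw [← hQq]; exact hq₁2
      omega⟩
    rw [hm] at heq hN hcq hdvd hzq ⊢
    have e0 : m + 2 - 2 = m := by omega
    rw [e0] at heq
    have e1 : 2 + (1 + (m + 2)) * m = (m + 2) * (m + 1) := by ring
    rw [e1] at heq
    -- `(m+3) c = s (m+1)`
    have h4 : (m + 3) * c = s * (m + 1) := by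
      have : (m + 2) * ((m + 3) * c) = (m + 2) * (s * (m + 1)) := by
        calc (m + 2) * ((m + 3) * c) = (1 + (m + 2)) * (m + 2) * c := by ring
          _ = s * ((m + 2) * (m + 1)) := heq
          _ = (m + 2) * (s * (m + 1)) := by ring
      exact Nat.eq_of_mul_eq_mul_left (by omega) this
    -- `(m+1) ∣ 2c`
    have h5 : (m + 1) ∣ 2 * c := by
      have h6 : (m + 1) ∣ (m + 3) * c := ⟨s, by rw [h4]; ring⟩
      have h7 : (m + 3) * c = (m + 1) * c + 2 * c := by ring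
      rw [h7] at h6
      exact (Nat.dvd_add_right (dvd_mul_right _ _)).mp h6
    obtain ⟨j, hj⟩ := h5
    have hj1 : 1 ≤ j := by
      rcases Nat.eq_zero_or_pos j with h | h
      · rw [h, mul_zero] at hj; omega
      · exact h
    have hj2 : j ≤ 2 := by
      by_contra hlt
      push Not at hlt
      have : (m + 1) * 3 ≤ (m + 1) * j := Nat.mul_le_mul_left _ hlt
      omega
    have e2 : (m + 2) ^ 2 - 1 = (m + 1) * (m + 3) := by
      have : (m + 2) ^ 2 = (m + 1) * (m + 3) + 1 := by ring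
      omega
    rw [e2] at hdvd ⊢
    have hNpos : 0 < (m + 2) * ((m + 1) * (m + 3)) := by positivity
    have hle := Nat.le_of_dvd hNpos hdvd
    right
    have hj' : j = 1 ∨ j = 2 := by omega
    rcases hj' with rfl | rfl
    · -- `2c = m+1`
      rw [mul_one] at hj
      rcases hz with rfl | rfl
      · exfalso
        obtain ⟨w, hw⟩ := hzq rfl
        omega
      · rw [hN]
        have : 2 * ((1 + (m + 2)) * (m + 2) * c) = (1 + (m + 2)) * (m + 2) * (2 * c) := by ring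
        rw [this, hj]; ring
    · -- `c = m+1`
      have hc'' : c = m + 1 := by omega
      rw [hc''] at hN
      rcases hz with rfl | rfl
      · rw [hN]; ring
      · exfalso
        rw [hN] at hle
        nlinarith [Nat.zero_le m, Nat.zero_le (m * m), Nat.zero_le (m * m * m)]

end Cfsg.Agent.helper4.Dn
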