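import Mathlib
import Cfsg.Agent.Lib_helper4_DnG

set_option autoImplicit false
set_option linter.unusedSectionVars false

/-!
# The order bound for proper subgroups of `SL₂(F)`
-/

namespace Cfsg.Agent.helper4.Dn

open Matrix
open scoped LinearAlgebra.Projectivization MatrixGroups
open Cfsg.Agent.helper4.Dk

variable {F : Type*} [Field F] [Fintype F] {K : Type*} [Field K] [Algebra F K]

theorem two_eq_zero_iff : (2 : K) = 0 ↔ (2 : F) = 0 := by
  constructor
  · intro h
    apply (algebraMap F K).injective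
    rw [map_ofNat, map_zero]; exact h
  · intro h
    have := congrArg (algebraMap F K) h
    rwa [map_ofNat, map_zero] at this

theorem two_eq_zero_iff_dvd : (2 : F) = 0 ↔ 2 ∣ Fintype.card F := by
  obtain ⟨p, hc⟩ := CharP.exists F
  obtain ⟨n, hp, hq⟩ := FiniteField.card F p
  have h2 : (2 : F) = ((2 : ℕ) : F) := by norm_num
  rw [h2, CharP.cast_eq_zero_iff F p 2, hq]
  constructor
  · intro h
    have : p = 2 := (Nat.prime_dvd_prime_iff_eq hp Nat.prime_two).mp h
    rw [this]
    exact dvd_pow_self 2 n.pos.ne'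
  · intro h
    have := Nat.Prime.dvd_of_dvd_pow Nat.prime_two h
    have : 2 = p := (Nat.prime_dvd_prime_iff_eq Nat.prime_two hp).mp this
    rw [← this]

theorem zc_eq_one_imp (h : zc K = 1) : 2 ∣ Fintype.card F := by
  rcases zc_cases K with ⟨hz, _⟩ | ⟨_, h2⟩
  · omega
  · exact two_eq_zero_iff_dvd.mp ((two_eq_zero_iff (F := F) (K := K)).mp h2)

theorem zc_eq_two_imp (h : zc K = 2) : ¬ 2 ∣ Fintype.card F := by
  rcases zc_cases K with ⟨_, h2⟩ | ⟨hz, _⟩
  · intro hd
    exact h2 ((two_eq_zero_iff (F := F) (K := K)).mpr (two_eq_zero_iff_dvd.mpr hd))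
  · omega

/-- `AA` of a rational subgroup -/
theorem card_AA_dvd (Ht : Subgroup (SpecialLinearGroup (Fin 2) F)) :
    Nat.card (AA (Ht.map (iota F K))) ∣ Fintype.card F := by
  have h1 : Nat.card (AA Ht) ∣ Nat.card F := AddSubgroup.card_addSubgroup_dvd_card (AA Ht)
  rw [Nat.card_eq_fintype_card (α := F)] at h1
  have h2 : Nat.card (AA (Ht.map (iota F K))) = Nat.card (AA Ht) := by
    symm
    apply Nat.card_congr
    refine Equiv.ofBijective (fun a => ⟨algebraMap F K a.1, ?_⟩) ⟨?_, ?_⟩
    · rw [mem_AA, ← iota_uS]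
      exact Subgroup.mem_map_of_mem _ a.2
    · intro a b hab
      apply Subtype.ext
      exact (algebraMap F K).injective (congrArg Subtype.val hab)
    · rintro ⟨a, ha⟩
      rw [mem_AA] at ha
      obtain ⟨g, hg, hga⟩ := ha
      have h00 : g 0 0 = 1 := by
        apply (algebraMap F K).injective
        rw [map_one, ← iota_apply, hga]; simp
      have h10 : g 1 0 = 0 := by
        apply (algebraMap F K).injective
        rw [map_zero, ← iota_apply, hga]; simp
      have h01 : algebraMap F K (g 0 1) = a := by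
        rw [← iota_apply, hga]; simp
      have hgu := eq_uS_of g h10 h00
      refine ⟨⟨g 0 1, ?_⟩, ?_⟩
      · rw [mem_AA, ← hgu]; exact hg
      · apply Subtype.ext
        exact h01
  rw [h2]; exact h1

/-- the order of the Borel subgroup -/
theorem card_GB_top : Nat.card (GB (⊤ : Subgroup (SpecialLinearGroup (Fin 2) F))) =
    (Fintype.card F - 1) * Fintype.card F := by
  have e : GB (⊤ : Subgroup (SpecialLinearGroup (Fin 2) F)) ≃ Fˣ × F := by
    refine ⟨fun g => (Units.mk0 ((g : SpecialLinearGroup (Fin 2) F) 0 0) ?_,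
        (g : SpecialLinearGroup (Fin 2) F) 0 1),
      fun x => ⟨⟨!![(x.1 : F), x.2; 0, ((x.1⁻¹ : Fˣ) : F)], by simp [det_fin_two_of]⟩,
        Subgroup.mem_top _, by simp⟩, ?_, ?_⟩
    · intro h0
      have := diag_mul_of_tri _ g.2.2
      rw [h0, zero_mul] at this
      exact zero_ne_one this
    · intro g
      apply Subtype.ext
      have h10 : (g : SpecialLinearGroup (Fin 2) F) 1 0 = 0 := g.2.2
      have hd := diag_mul_of_tri _ h10
      have h00 : (g : SpecialLinearGroup (Fin 2) F) 0 0 ≠ 0 := by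
        intro h0; rw [h0, zero_mul] at hd; exact zero_ne_one hd
      apply sl_ext'
      · simp
      · simp
      · simp [h10]
      · simp only [Units.val_inv_eq_inv_val, Units.val_mk0]
        change ((g : SpecialLinearGroup (Fin 2) F) 0 0)⁻¹ = _
        exact inv_eq_of_mul_eq_one_right hd
    · intro x
      apply Prod.ext
      · apply Units.ext; simp
      · simp
  rw [Nat.card_congr e, Nat.card_prod, Nat.card_units, Nat.card_eq_fintype_card]

theorem card_dvd_of_tri (Ht : Subgroup (SpecialLinearGroup (Fin 2) F))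
    (h : ∀ g ∈ Ht, g 1 0 = 0) : Nat.card Ht ∣ (Fintype.card F - 1) * Fintype.card F := by
  rw [← card_GB_top]
  apply Subgroup.card_dvd_of_le
  intro g hg
  exact ⟨Subgroup.mem_top _, h g hg⟩

variable [IsAlgClosed K]

/-- in characteristic 2 a subgroup without parabolics has odd order -/
theorem odd_card_of_pp (H : Subgroup (SpecialLinearGroup (Fin 2) K)) [Finite H]
    (h2 : (2 : K) = 0) (hpp : ∀ y, N2 H y = 0) : ¬ 2 ∣ Nat.card H := by
  intro hdvd
  haveI : Fact (Nat.Prime 2) := ⟨Nat.prime_two⟩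
  obtain ⟨g, hg⟩ := exists_prime_orderOf_dvd_card' 2 hdvd
  haveI : CharP K 2 := by
    have : ((2 : ℕ) : K) = 0 := by exact_mod_cast h2
    exact CharTwo.of_one_ne_zero_of_two_eq_zero one_ne_zero h2
  have hg2 : (g : SpecialLinearGroup (Fin 2) K) ^ 2 ^ 1 = 1 := by
    rw [pow_one]
    have := pow_orderOf_eq_one g
    rw [hg] at this
    exact_mod_cast congrArg Subtype.val this
  have htr := tr_eq_two_of_pow' (p := 2) (g : SpecialLinearGroup (Fin 2) K) 1 hg2
  have hg1 : (g : SpecialLinearGroup (Fin 2) K) ≠ 1 := by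
    intro h
    have : g = 1 := Subtype.ext h
    rw [this, orderOf_one] at hg
    omega
  have hgm : (g : SpecialLinearGroup (Fin 2) K) ≠ -1 := by
    rw [neg_one_eq_one h2]; exact hg1
  obtain ⟨y, hy⟩ := exists_fixed' (g : SpecialLinearGroup (Fin 2) K)
  have := hpp y
  unfold N2 at this
  have hfin : {g : SpecialLinearGroup (Fin 2) K | g ∈ H ∧ g ≠ 1 ∧ g ≠ -1 ∧ tr g ^ 2 = 4 ∧
      g • y = y}.Finite :=
    (nonscalar_finite H).subset (fun g hg => ⟨hg.1, hg.2.1, hg.2.2.1⟩)
  rw [Set.ncard_eq_zero hfin] at this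
  have hmem : (g : SpecialLinearGroup (Fin 2) K) ∈
      ({g : SpecialLinearGroup (Fin 2) K | g ∈ H ∧ g ≠ 1 ∧ g ≠ -1 ∧ tr g ^ 2 = 4 ∧ g • y = y}) := by
    refine ⟨g.2, hg1, hgm, ?_, hy⟩
    rw [htr]; norm_num
  rw [this] at hmem
  exact hmem

end Cfsg.Agent.helper4.Dn
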