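import Mathlib
import Cfsg.Agent.Lib_helper4_DnH

set_option autoImplicit false
set_option linter.unusedSectionVars false

/-!
# Proper subgroups of `SL₂(F)` containing `-1` have index at least `q + 1`
-/

namespace Cfsg.Agent.helper4.Dn

open Matrix
open scoped LinearAlgebra.Projectivization MatrixGroups
open Cfsg.Agent.helper4.Dk

variable {F : Type*} [Field F] [Fintype F] {K : Type*} [Field K] [Algebra F K] [IsAlgClosed K]

theorem card_dvd_SL2 (Ht : Subgroup (SpecialLinearGroup (Fin 2) F)) :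
    Nat.card Ht ∣ Fintype.card F * (Fintype.card F ^ 2 - 1) := by
  rw [← Cfsg.Agent.helper12.card_SL2]
  exact Subgroup.card_subgroup_dvd_card Ht

theorem card_le_of_uS (hq : Fintype.card F ∉ ({2, 3, 5, 7, 9, 11} : Finset ℕ))
    (Ht : Subgroup (SpecialLinearGroup (Fin 2) F)) (hH : -1 ∈ Ht) {a₀ : K}
    (ha : uS a₀ ∈ Ht.map (iota F K)) (ha0 : a₀ ≠ 0) :
    Nat.card Ht ≤ Fintype.card F * (Fintype.card F - 1) ∨
      Nat.card Ht = Fintype.card F * (Fintype.card F ^ 2 - 1) := by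
  classical
  obtain ⟨p, hc⟩ := CharP.exists F
  obtain ⟨f, hp, hqf⟩ := FiniteField.card F p
  obtain ⟨q, hqdef⟩ : ∃ q, q = Fintype.card F := ⟨_, rfl⟩
  rw [← hqdef] at hq hqf ⊢
  have hq2 : 2 ≤ q := hqdef ▸ Fintype.one_lt_card
  simp only [Finset.mem_insert, Finset.mem_singleton, not_or] at hq
  obtain ⟨hq_2, hq_3, hq_5, hq_7, hq_9, hq_11⟩ := hq
  have hq4 : 4 ≤ q := by omega
  by_cases hfix : ∀ g ∈ Ht, g 1 0 = 0
  · left
    have := Nat.le_of_dvd (by
      have : 0 < q - 1 := by omega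
      rw [← hqdef]; positivity) (card_dvd_of_tri Ht hfix)
    rw [← hqdef, mul_comm] at this
    exact this
  push Not at hfix
  obtain ⟨g, hg, hg10⟩ := hfix
  set H := Ht.map (iota F K) with hHdef
  have hH' : -1 ∈ H := neg_one_mem_map hH
  have hmove : ∃ g ∈ H, g • (pInf : ℙ K (Fin 2 → K)) ≠ pInf := by
    refine ⟨iota F K g, Subgroup.mem_map_of_mem _ hg, ?_⟩
    rw [Ne, fixed_pInf_iff, iota_apply]
    intro h0
    apply hg10
    apply (algebraMap F K).injective
    rw [h0, map_zero]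
  obtain ⟨y₁, s, c, k, hy₁O, hs2, hc1, hk1, hstab, hYeq, hN2, hGB, hcq, hn, heq, hcard, hcases⟩ :=
    structure_z H hH' ha ha0 hmove
  obtain ⟨q₁, hq₁⟩ : ∃ q₁, q₁ = Nat.card (AA H) := ⟨_, rfl⟩
  obtain ⟨n, hndef⟩ : ∃ n, n = (orb H pInf).ncard := ⟨_, rfl⟩
  obtain ⟨z, hz⟩ : ∃ z, z = zc K := ⟨_, rfl⟩
  simp only [← hq₁, ← hndef, ← hz] at hstab hGB hcq hn heq hcard hcases
  have hq₁dvd : q₁ ∣ q := by rw [hq₁, hqdef]; exact card_AA_dvd (K := K) Ht
  have hq₁2 : 2 ≤ q₁ := hq₁ ▸ two_le_card_AA H ha ha0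
  have hz12 : z = 1 ∨ z = 2 := by
    rcases zc_cases K with ⟨h, _⟩ | ⟨h, _⟩ <;> omega
  have hzs : z * s ≤ q + 1 := by
    rcases card_stab_dvd Ht hH y₁ hN2 with h | h
    · rw [← hHdef, hstab, ← hqdef] at h
      have := Nat.le_of_dvd (by omega) h
      omega
    · rw [← hHdef, hstab, ← hqdef] at h
      exact Nat.le_of_dvd (by omega) h
  have hNcard : Nat.card Ht = z * (n * q₁ * c) := by
    rw [← hcard, hHdef, card_map_iota]
  have hNdvd : z * (n * q₁ * c) ∣ q * (q ^ 2 - 1) := by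
    rw [← hNcard, hqdef]; exact card_dvd_SL2 Ht
  rw [hNcard]
  rcases hcases with hq₁' | hk' | ⟨hq₁', hk', hc', hs'⟩
  · -- q₁ = 2
    left
    rw [hq₁'] at heq hcq ⊢
    have hc1' : c = 1 := by omega
    rw [hc1'] at heq ⊢
    have hns : n = s := by omega
    rw [hns]
    have : z * (s * 2 * 1) = 2 * (z * s) := by ring
    rw [this]
    have h1 : 2 * (z * s) ≤ 2 * (q + 1) := Nat.mul_le_mul_left _ hzs
    have h2 : 2 * (q + 1) ≤ q * (q - 1) := by
      obtain ⟨m, rfl⟩ : ∃ m, q = m + 4 := ⟨q - 4, by omega⟩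
      have : m + 4 - 1 = m + 3 := by omega
      rw [this]; nlinarith
    omega
  · -- n = 1 + q₁
    rw [hk', one_mul] at hn
    rw [hn] at heq hNdvd ⊢
    exact arith_k1 hp f.pos hqf hq₁dvd hq₁2 hc1 hcq hz12
      (fun h => by rw [hqdef]; exact zc_eq_one_imp (F := F) (K := K) (by rw [← hz]; exact h))
      heq rfl hNdvd
  · -- exceptional
    left
    rw [hq₁', hk'] at hn
    rw [hn, hq₁', hc']
    have h3q : 3 ∣ q := hq₁' ▸ hq₁dvd
    rw [hqf] at h3q
    have hp3 : 3 = p :=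
      (Nat.prime_dvd_prime_iff_eq Nat.prime_three hp).mp (Nat.Prime.dvd_of_dvd_pow Nat.prime_three h3q)
    have hf3 : 3 ≤ (f : ℕ) := by
      by_contra hlt
      push Not at hlt
      have hf1 : 1 ≤ (f : ℕ) := f.pos
      have : (f : ℕ) = 1 ∨ (f : ℕ) = 2 := by omega
      rcases this with h | h
      · rw [h, ← hp3] at hqf; omega
      · rw [h, ← hp3] at hqf; omega
    have hq27 : 27 ≤ q := by
      rw [hqf, ← hp3]
      calc 27 = 3 ^ 3 := by norm_num
        _ ≤ 3 ^ (f : ℕ) := Nat.pow_le_pow_right (by norm_num) hf3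
    have h1 : z * ((1 + 3 * 3) * 3 * 2) ≤ 120 := by
      rcases hz12 with rfl | rfl <;> norm_num
    have h2 : 120 ≤ q * (q - 1) := by
      obtain ⟨m, rfl⟩ : ∃ m, q = m + 27 := ⟨q - 27, by omega⟩
      have : m + 27 - 1 = m + 26 := by omega
      rw [this]; nlinarith
    omega

theorem card_le_main (L : Type*) [Field L] [Algebra F L] [IsAlgClosed L] (hq : Fintype.card F ∉ ({2, 3, 5, 7, 9, 11} : Finset ℕ))
    (Ht : Subgroup (SpecialLinearGroup (Fin 2) F)) (hH : -1 ∈ Ht) :
    Nat.card Ht ≤ Fintype.card F * (Fintype.card F - 1) ∨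
      Nat.card Ht = Fintype.card F * (Fintype.card F ^ 2 - 1) := by
  classical
  set H := Ht.map (iota F L) with hHdef
  have hH' : -1 ∈ H := neg_one_mem_map hH
  by_cases hpar : ∃ y, N2 H y ≠ 0
  · obtain ⟨y, hy⟩ := hpar
    -- a parabolic element
    have hne : {g : SpecialLinearGroup (Fin 2) L | g ∈ H ∧ g ≠ 1 ∧ g ≠ -1 ∧ tr g ^ 2 = 4 ∧
        g • y = y}.Nonempty := by
      by_contra hemp
      rw [Set.not_nonempty_iff_eq_empty] at hemp
      apply hy
      unfold N2
      rw [hemp, Set.ncard_empty]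
    obtain ⟨g', hg'H, hg'1, hg'2, hg'tr, hg'y⟩ := hne
    obtain ⟨g, hg, rfl⟩ := hg'H
    obtain ⟨s, hs⟩ := exists_rational_conj g hg'1 hg'2 hg'tr y hg'y
    -- conjugate
    set Ht' := cj s Ht with hHt'
    have hH'' : -1 ∈ Ht' := neg_one_mem_cj hH
    have hcard' : Nat.card Ht' = Nat.card Ht := card_cj s Ht
    set u := s⁻¹ * g * s with hu
    have huH : u ∈ Ht' := by
      rw [hHt', mem_cj]
      have : s * u * s⁻¹ = g := by rw [hu]; group
      rw [this]; exact hg
    have hu1 : iota F L u ≠ 1 := by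
      rw [hu, map_mul, map_mul, map_inv]
      exact (conj_ne_one_iff _ _).mpr hg'1
    have hu2 : iota F L u ≠ -1 := by
      rw [hu, map_mul, map_mul, map_inv]
      exact (conj_ne_neg_one_iff _ _).mpr hg'2
    have hutr : tr (iota F L u) ^ 2 = 4 := by
      rw [hu, map_mul, map_mul, map_inv]
      have := tr_conj (iota F L s)⁻¹ (iota F L g)
      rw [inv_inv] at this
      rw [this]; exact hg'tr
    have hufix : iota F L u • (pInf : ℙ L (Fin 2 → L)) = pInf := by
      rw [hu, map_mul, map_mul, map_inv, mul_smul, mul_smul, hs, hg'y, ← hs, inv_smul_smul]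
    have hu10 : (iota F L u) 1 0 = 0 := (fixed_pInf_iff _).mp hufix
    have hud := diag_mul_of_tri _ hu10
    have hu00 : (iota F L u) 0 0 = (iota F L u) 1 1 := (tr_sq_tri _ hu10).mp hutr
    have hsq : ((iota F L u) 0 0 - 1) * ((iota F L u) 0 0 + 1) = 0 := by
      rw [← hu00] at hud
      linear_combination hud
    have huS : ∃ a₀ : L, uS a₀ ∈ Ht'.map (iota F L) ∧ a₀ ≠ 0 := by
      rcases mul_eq_zero.mp hsq with h | h
      · have h00 : (iota F L u) 0 0 = 1 := sub_eq_zero.mp h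
        refine ⟨(iota F L u) 0 1, ?_, ?_⟩
        · rw [← eq_uS_of _ hu10 h00]; exact Subgroup.mem_map_of_mem _ huH
        · intro h0
          apply hu1
          rw [eq_uS_of _ hu10 h00, h0, uS_zero]
      · have h00 : (iota F L u) 0 0 = -1 := eq_neg_of_add_eq_zero_left h
        refine ⟨-(iota F L u) 0 1, ?_, ?_⟩
        · have h3 := eq_neg_uS_of _ hu10 h00
          have h4 : uS (-(iota F L u) 0 1) = -(iota F L u) := by rw [h3]; simp
          rw [h4]
          exact neg_mem (neg_one_mem_map hH'') (Subgroup.mem_map_of_mem _ huH)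
        · intro h0
          apply hu2
          rw [eq_neg_uS_of _ hu10 h00, h0, uS_zero]
    obtain ⟨a₀, ha, ha0⟩ := huS
    rw [← hcard']
    exact card_le_of_uS hq Ht' hH'' ha ha0
  · -- no parabolics
    push Not at hpar
    obtain ⟨q, hqdef⟩ : ∃ q, q = Fintype.card F := ⟨_, rfl⟩
    rw [← hqdef] at hq ⊢
    have hq2 : 2 ≤ q := hqdef ▸ Fintype.one_lt_card
    simp only [Finset.mem_insert, Finset.mem_singleton, not_or] at hq
    obtain ⟨hq_2, hq_3, hq_5, hq_7, hq_9, hq_11⟩ := hq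
    have hbound : ∀ m, m ∣ q - 1 ∨ m ∣ q + 1 → m ≤ q + 1 := by
      intro m hm
      rcases hm with h | h
      · have := Nat.le_of_dvd (by omega) h
        omega
      · exact Nat.le_of_dvd (by omega) h
    have h2q : 2 * (q + 1) ≤ q * (q - 1) := by
      obtain ⟨m, rfl⟩ : ∃ m, q = m + 4 := ⟨q - 4, by omega⟩
      have : m + 4 - 1 = m + 3 := by omega
      rw [this]; nlinarith
    left
    rw [← card_map_iota (K := L) Ht, ← hHdef]
    rcases pprime_z H hH' hpar with ⟨y, hy⟩ | ⟨y₁, y₂, y₃, s₁, s₂, s₃, hb, hP⟩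
    · -- `H` fixes a point
      have hstab : stabIn H y = H := by
        apply le_antisymm inf_le_left
        intro g hg
        exact mem_stabIn.mpr ⟨hg, hy g hg⟩
      have := card_stab_dvd Ht hH y (hpar y)
      rw [← hHdef, hstab, ← hqdef] at this
      have := hbound _ this
      omega
    · obtain ⟨_, _, _, _, _, _, _, hst₁, hst₂, hst₃, hcard, hT⟩ := hP
      rcases zc_cases L with ⟨hz, h2⟩ | ⟨hz, h2⟩
      · -- odd characteristic
        have hodd : ¬ 2 ∣ q := by rw [hqdef]; exact zc_eq_two_imp (F := F) (K := L) hz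
        have hq13 : 13 ≤ q := by omega
        have h156 : 156 ≤ q * (q - 1) := by
          obtain ⟨m, rfl⟩ : ∃ m, q = m + 13 := ⟨q - 13, by omega⟩
          have : m + 13 - 1 = m + 12 := by omega
          rw [this]; nlinarith
        rw [hcard, hz]
        obtain ⟨rfl, hT'⟩ := hT
        rcases hT' with ⟨rfl, rfl, _⟩ | ⟨_, _, rfl⟩ | ⟨_, _, rfl⟩ | ⟨_, _, rfl⟩
        · have := card_stab_dvd Ht hH y₃ (hpar y₃)
          rw [← hHdef, hst₃, hz, ← hqdef] at this
          have := hbound _ this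
          omega
        · omega
        · omega
        · omega
      · -- characteristic 2 : impossible
        exfalso
        apply odd_card_of_pp H h2 hpar
        rw [hcard, hz, one_mul]
        obtain ⟨rfl, hT'⟩ := hT
        rcases hT' with ⟨rfl, rfl, _⟩ | ⟨_, _, rfl⟩ | ⟨_, _, rfl⟩ | ⟨_, _, rfl⟩
        · exact dvd_mul_right _ _
        · norm_num
        · norm_num
        · norm_num

/-- **Index bound.** A proper subgroup of `SL₂(F)` containing `-1` has index at least `q + 1`. -/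
theorem index_ge (hq : Fintype.card F ∉ ({2, 3, 5, 7, 9, 11} : Finset ℕ))
    (Ht : Subgroup (SpecialLinearGroup (Fin 2) F)) (hH : -1 ∈ Ht) (hne : Ht ≠ ⊤) :
    Fintype.card F + 1 ≤ Ht.index := by
  have hidx := Subgroup.card_mul_index Ht
  rw [Cfsg.Agent.helper12.card_SL2] at hidx
  obtain ⟨q, hqdef⟩ : ∃ q, q = Fintype.card F := ⟨_, rfl⟩
  have hq2 : 2 ≤ q := hqdef ▸ Fintype.one_lt_card
  rcases card_le_main (AlgebraicClosure F) hq Ht hH with h | h
  · rw [← hqdef] at h hidx ⊢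
    by_contra hlt
    push Not at hlt
    have hpos : 0 < Nat.card Ht := Nat.card_pos
    obtain ⟨m, rfl⟩ : ∃ m, q = m + 2 := ⟨q - 2, by omega⟩
    have e1 : m + 2 - 1 = m + 1 := by omega
    have e2 : (m + 2) ^ 2 - 1 = (m + 1) * (m + 3) := by
      have : (m + 2) ^ 2 = (m + 1) * (m + 3) + 1 := by ring
      omega
    rw [e1] at h
    rw [e2] at hidx
    have h1 : Nat.card Ht * Ht.index ≤ ((m + 2) * (m + 1)) * (m + 2) :=
      Nat.mul_le_mul h (by omega)
    nlinarith
  · exfalso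
    apply hne
    apply Subgroup.eq_top_of_card_eq
    rw [h, Cfsg.Agent.helper12.card_SL2]

end Cfsg.Agent.helper4.Dn
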