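import Mathlib
import Cfsg.Agent.Lib_helper4_DnI

set_option autoImplicit false
set_option linter.unusedSectionVars false

/-!
# Numerical Dickson theorem, conjugation invariant form
-/

namespace Cfsg.Agent.helper4.Dn

open Matrix
open scoped LinearAlgebra.Projectivization MatrixGroups
open Cfsg.Agent.helper4.Dk

/-- the case `n = 1 + q₁` -/
theorem arith_k1_dich {p f q q₁ c s z N : ℕ} (hp : p.Prime) (hf : 1 ≤ f) (hq : q = p ^ f)
    (hq₁ : q₁ ∣ q) (hq₁2 : 2 ≤ q₁) (hc1 : 1 ≤ c) (hcq : c + 1 ≤ q₁) (hz : z = 1 ∨ z = 2)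
    (hzq : z = 1 → 2 ∣ q)
    (heq : (1 + q₁) * q₁ * c = s * (2 + (1 + q₁) * (q₁ - 2)))
    (hN : N = z * ((1 + q₁) * q₁ * c)) (hdvd : N ∣ q * (q ^ 2 - 1)) :
    q₁ ^ 2 ≤ q ∨ N = q * (q ^ 2 - 1) := by
  have hp2 : 2 ≤ p := hp.two_le
  rw [hq] at hq₁
  obtain ⟨a, haf, rfl⟩ := (Nat.dvd_prime_pow hp).mp hq₁
  have ha1 : 1 ≤ a := by
    rcases Nat.eq_zero_or_pos a with h | h
    · rw [h, pow_zero] at hq₁2; omega
    · exact h
  have hq1 : 1 ≤ q := by rw [hq]; exact Nat.one_le_pow _ _ (by omega)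
  have hqsq : q ^ 2 - 1 = p ^ (2 * f) - 1 := by rw [hq, ← pow_mul, mul_comm]
  -- `p^a + 1 ∣ q^2 - 1`
  have hd1 : p ^ a + 1 ∣ q * (q ^ 2 - 1) := by
    refine dvd_trans ?_ hdvd
    rw [hN]
    refine dvd_mul_of_dvd_right (dvd_mul_of_dvd_left (dvd_mul_of_dvd_left ?_ _) _) _
    rw [add_comm]
  have hcop : Nat.Coprime (p ^ a + 1) q := by
    rw [hq]
    apply Nat.Coprime.pow_right
    rw [Nat.coprime_comm, Nat.Prime.coprime_iff_not_dvd hp]
    intro hdiv
    have h1 : p ∣ p ^ a := dvd_pow_self p (by omega)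
    have h2 : p ∣ 1 := (Nat.dvd_add_right h1).mp hdiv
    exact hp.one_lt.ne' (Nat.dvd_one.mp h2)
  have hd2 : p ^ a + 1 ∣ p ^ (2 * f) - 1 := by
    rw [← hqsq]
    exact hcop.dvd_of_dvd_mul_left hd1
  have haf' := dvd_of_pow_add_one_dvd hp2 ha1 hd2
  obtain ⟨u, hu⟩ := haf'
  have hu1 : 1 ≤ u := by
    rcases Nat.eq_zero_or_pos u with h | h
    · rw [h, mul_zero] at hu; omega
    · exact h
  set Q := p ^ a with hQ
  by_cases hu2 : 2 ≤ u
  · -- proper subfield case
    left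
    have hQ2 : Q ^ 2 ≤ q := by
      rw [hq, hQ, ← pow_mul]
      apply Nat.pow_le_pow_right (by omega)
      rw [hu]; nlinarith
    exact hQ2
  · -- `Q = q`
    have hu1' : u = 1 := by omega
    rw [hu1', mul_one] at hu
    have hQq : Q = q := by rw [hQ, hq, hu]
    rw [hQq] at heq hN hcq
    obtain ⟨m, hm⟩ : ∃ m, q = m + 2 := ⟨q - 2, by
      have : 2 ≤ q := by rw [← hQq]; exact hq₁2
      omega⟩
    rw [hm] at heq hN hcq hdvd hzq ⊢
    have e0 : m + 2 - 2 = m := by omega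
    rw [e0] at heq
    have e1 : 2 + (1 + (m + 2)) * m = (m + 2) * (m + 1) := by ring
    rw [e1] at heq
    -- `(m+3) c = s (m+1)`
    have h4 : (m + 3) * c = s * (m + 1) := by
      have : (m + 2) * ((m + 3) * c) = (m + 2) * (s * (m + 1)) := by
        calc (m + 2) * ((m + 3) * c) = (1 + (m + 2)) * (m + 2) * c := by ring
          _ = s * ((m + 2) * (m + 1)) := heq
          _ = (m + 2) * (s * (m + 1)) := by ring
      exact Nat.eq_of_mul_eq_mul_left (by omega) this
    -- `(m+1) ∣ 2c`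
    have h5 : (m + 1) ∣ 2 * c := by
      have h6 : (m + 1) ∣ (m + 3) * c := ⟨s, by rw [h4]; ring⟩
      have h7 : (m + 3) * c = (m + 1) * c + 2 * c := by ring
      rw [h7] at h6
      exact (Nat.dvd_add_right (dvd_mul_right _ _)).mp h6
    obtain ⟨j, hj⟩ := h5
    have hj1 : 1 ≤ j := by
      rcases Nat.eq_zero_or_pos j with h | h
      · rw [h, mul_zero] at hj; omega
      · exact h
    have hj2 : j ≤ 2 := by
      by_contra hlt
      push Not at hlt
      have : (m + 1) * 3 ≤ (m + 1) * j := Nat.mul_le_mul_left _ hlt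
      omega
    have e2 : (m + 2) ^ 2 - 1 = (m + 1) * (m + 3) := by
      have : (m + 2) ^ 2 = (m + 1) * (m + 3) + 1 := by ring
      omega
    rw [e2] at hdvd ⊢
    have hNpos : 0 < (m + 2) * ((m + 1) * (m + 3)) := by positivity
    have hle := Nat.le_of_dvd hNpos hdvd
    right
    have hj' : j = 1 ∨ j = 2 := by omega
    rcases hj' with rfl | rfl
    · -- `2c = m+1`
      rw [mul_one] at hj
      rcases hz with rfl | rfl
      · exfalso
        obtain ⟨w, hw⟩ := hzq rfl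
        omega
      · rw [hN]
        have : 2 * ((1 + (m + 2)) * (m + 2) * c) = (1 + (m + 2)) * (m + 2) * (2 * c) := by ring
        rw [this, hj]; ring
    · -- `c = m+1`
      have hc'' : c = m + 1 := by omega
      rw [hc''] at hN
      rcases hz with rfl | rfl
      · rw [hN]; ring
      · exfalso
        rw [hN] at hle
        nlinarith [Nat.zero_le m, Nat.zero_le (m * m), Nat.zero_le (m * m * m)]


/-- numerical data of a subgroup with parabolic elements and no fixed point -/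
def Par (q z q₁ c k s n N : ℕ) : Prop :=
  2 ≤ q₁ ∧ q₁ ∣ q ∧ 1 ≤ c ∧ c + 1 ≤ q₁ ∧ 2 ≤ s ∧ 1 ≤ k ∧ n = 1 + k * q₁ ∧
  n * q₁ * c = s * (2 + n * (q₁ - 2)) ∧ N = z * (n * q₁ * c) ∧
  (z * s ∣ q - 1 ∨ z * s ∣ q + 1) ∧ (q₁ = 2 ∨ k = 1 ∨ (q₁ = 3 ∧ k = 3 ∧ c = 2 ∧ s = 5))

variable {F : Type*} [Field F] [Fintype F] {K : Type*} [Field K] [Algebra F K] [IsAlgClosed K]

theorem mem_YY_cj {s : SpecialLinearGroup (Fin 2) K} {H : Subgroup (SpecialLinearGroup (Fin 2) K)}
    {w : ℙ K (Fin 2 → K)} : w ∈ YY (cj s H) ↔ s • w ∈ YY H := by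
  constructor
  · rintro ⟨g, hg, h1, h2, h3⟩
    refine ⟨s * g * s⁻¹, hg, ?_, ?_, ?_⟩
    · have := (conj_ne_one_iff s⁻¹ g).mpr h1
      simpa using this
    · have := (conj_ne_neg_one_iff s⁻¹ g).mpr h2
      simpa using this
    · rw [mul_smul, mul_smul, inv_smul_smul, h3]
  · rintro ⟨g, hg, h1, h2, h3⟩
    refine ⟨s⁻¹ * g * s, ?_, (conj_ne_one_iff s g).mpr h1, (conj_ne_neg_one_iff s g).mpr h2, ?_⟩
    · rw [mem_cj]
      have : s * (s⁻¹ * g * s) * s⁻¹ = g := by group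
      rw [this]; exact hg
    · rw [mul_smul, mul_smul, h3, inv_smul_smul]

theorem nd_par_uS (Ht : Subgroup (SpecialLinearGroup (Fin 2) F)) (hH : -1 ∈ Ht) {a₀ : K}
    (ha : uS a₀ ∈ Ht.map (iota F K)) (ha0 : a₀ ≠ 0) :
    (∀ g ∈ Ht.map (iota F K), g • (pInf : ℙ K (Fin 2 → K)) = pInf) ∨
    ∃ q₁ c k s n : ℕ, Par (Fintype.card F) (zc K) q₁ c k s n (Nat.card Ht) ∧
      ∀ w ∈ YY (Ht.map (iota F K)),
        Nat.card (stabIn (Ht.map (iota F K)) w) = zc K * q₁ * c ∨
        Nat.card (stabIn (Ht.map (iota F K)) w) = zc K * s := by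
  classical
  set H := Ht.map (iota F K) with hHdef
  have hH' : -1 ∈ H := neg_one_mem_map hH
  by_cases hfix : ∀ g ∈ H, g • (pInf : ℙ K (Fin 2 → K)) = pInf
  · left; exact hfix
  right
  push Not at hfix
  obtain ⟨y₁, s, c, k, hy₁O, hs2, hc1, hk1, hstab, hYeq, hN2, hGB, hcq, hn, heq, hcard, hcases⟩ :=
    structure_z H hH' ha ha0 hfix
  refine ⟨Nat.card (AA H), c, k, s, (orb H pInf).ncard,
    ⟨two_le_card_AA H ha ha0, card_AA_dvd (K := K) Ht, hc1, hcq, hs2, hk1, hn, heq, ?_, ?_, hcases⟩, ?_⟩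
  · rw [← hcard, hHdef, card_map_iota]
  · have := card_stab_dvd Ht hH y₁ hN2
    rw [← hHdef, hstab] at this
    exact this
  · intro w hw
    rw [hYeq] at hw
    rcases hw with hw | ⟨r, hr, rfl⟩
    · left
      rw [card_stabIn_of_mem_orb H hw, hGB]
    · right
      rw [card_stabIn_conj, cj_eq_of_mem hr, hstab]

/-- **Numerical Dickson theorem**, conjugation invariant form. -/
theorem nd_main (Ht : Subgroup (SpecialLinearGroup (Fin 2) F)) (hH : -1 ∈ Ht) :
    (∃ w : ℙ K (Fin 2 → K), ∀ g ∈ Ht.map (iota F K), g • w = w) ∨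
    (∃ q₁ c k s n : ℕ, Par (Fintype.card F) (zc K) q₁ c k s n (Nat.card Ht) ∧
      ∀ w ∈ YY (Ht.map (iota F K)),
        Nat.card (stabIn (Ht.map (iota F K)) w) = zc K * q₁ * c ∨
        Nat.card (stabIn (Ht.map (iota F K)) w) = zc K * s) ∨
    ((∀ y, N2 (Ht.map (iota F K)) y = 0) ∧
      ∃ (y₁ y₂ y₃ : ℙ K (Fin 2 → K)) (s₁ s₂ s₃ hb : ℕ),
        Poly (Ht.map (iota F K)) y₁ y₂ y₃ s₁ s₂ s₃ hb) := by
  classical
  set H := Ht.map (iota F K) with hHdef
  have hH' : -1 ∈ H := neg_one_mem_map hH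
  by_cases hpar : ∃ y, N2 H y ≠ 0
  · obtain ⟨y, hy⟩ := hpar
    have hne : {g : SpecialLinearGroup (Fin 2) K | g ∈ H ∧ g ≠ 1 ∧ g ≠ -1 ∧ tr g ^ 2 = 4 ∧
        g • y = y}.Nonempty := by
      by_contra hemp
      rw [Set.not_nonempty_iff_eq_empty] at hemp
      apply hy
      unfold N2
      rw [hemp, Set.ncard_empty]
    obtain ⟨g', hg'H, hg'1, hg'2, hg'tr, hg'y⟩ := hne
    obtain ⟨g, hg, rfl⟩ := hg'H
    obtain ⟨s, hs⟩ := exists_rational_conj g hg'1 hg'2 hg'tr y hg'y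
    set Ht' := cj s Ht with hHt'
    have hH'' : -1 ∈ Ht' := neg_one_mem_cj hH
    have hcard' : Nat.card Ht' = Nat.card Ht := card_cj s Ht
    have hcjmap : cj (iota F K s) H = Ht'.map (iota F K) := cj_map_iota s Ht
    set u := s⁻¹ * g * s with hu
    have huH : u ∈ Ht' := by
      rw [hHt', mem_cj]
      have : s * u * s⁻¹ = g := by rw [hu]; group
      rw [this]; exact hg
    have hu1 : iota F K u ≠ 1 := by
      rw [hu, map_mul, map_mul, map_inv]
      exact (conj_ne_one_iff _ _).mpr hg'1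
    have hu2 : iota F K u ≠ -1 := by
      rw [hu, map_mul, map_mul, map_inv]
      exact (conj_ne_neg_one_iff _ _).mpr hg'2
    have hutr : tr (iota F K u) ^ 2 = 4 := by
      rw [hu, map_mul, map_mul, map_inv]
      have := tr_conj (iota F K s)⁻¹ (iota F K g)
      rw [inv_inv] at this
      rw [this]; exact hg'tr
    have hufix : iota F K u • (pInf : ℙ K (Fin 2 → K)) = pInf := by
      rw [hu, map_mul, map_mul, map_inv, mul_smul, mul_smul, hs, hg'y, ← hs, inv_smul_smul]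
    have hu10 : (iota F K u) 1 0 = 0 := (fixed_pInf_iff _).mp hufix
    have hud := diag_mul_of_tri _ hu10
    have hu00 : (iota F K u) 0 0 = (iota F K u) 1 1 := (tr_sq_tri _ hu10).mp hutr
    have hsq : ((iota F K u) 0 0 - 1) * ((iota F K u) 0 0 + 1) = 0 := by
      rw [← hu00] at hud
      linear_combination hud
    have huS : ∃ a₀ : K, uS a₀ ∈ Ht'.map (iota F K) ∧ a₀ ≠ 0 := by
      rcases mul_eq_zero.mp hsq with h | h
      · have h00 : (iota F K u) 0 0 = 1 := sub_eq_zero.mp h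
        refine ⟨(iota F K u) 0 1, ?_, ?_⟩
        · rw [← eq_uS_of _ hu10 h00]; exact Subgroup.mem_map_of_mem _ huH
        · intro h0
          apply hu1
          rw [eq_uS_of _ hu10 h00, h0, uS_zero]
      · have h00 : (iota F K u) 0 0 = -1 := eq_neg_of_add_eq_zero_left h
        refine ⟨-(iota F K u) 0 1, ?_, ?_⟩
        · have h3 := eq_neg_uS_of _ hu10 h00
          have h4 : uS (-(iota F K u) 0 1) = -(iota F K u) := by rw [h3]; simp
          rw [h4]
          exact neg_mem (neg_one_mem_map hH'') (Subgroup.mem_map_of_mem _ huH)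
        · intro h0
          apply hu2
          rw [eq_neg_uS_of _ hu10 h00, h0, uS_zero]
    obtain ⟨a₀, ha, ha0⟩ := huS
    rcases nd_par_uS Ht' hH'' ha ha0 with hfix | ⟨q₁, c, k, s', n, hPar, hst⟩
    · left
      refine ⟨iota F K s • pInf, ?_⟩
      intro m hm
      have hm' : (iota F K s)⁻¹ * m * iota F K s ∈ Ht'.map (iota F K) := by
        rw [← hcjmap, mem_cj]
        have : iota F K s * ((iota F K s)⁻¹ * m * iota F K s) * (iota F K s)⁻¹ = m := by group
        rw [this]; exact hm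
      have := hfix _ hm'
      rw [mul_smul, mul_smul] at this
      have h2 := congrArg (fun z => iota F K s • z) this
      simpa using h2
    · right; left
      rw [hcard'] at hPar
      refine ⟨q₁, c, k, s', n, hPar, ?_⟩
      intro w hw
      have hw' : (iota F K s)⁻¹ • w ∈ YY (Ht'.map (iota F K)) := by
        rw [← hcjmap, mem_YY_cj, smul_inv_smul]; exact hw
      have := hst _ hw'
      rw [← hcjmap, ← card_stabIn_conj, smul_inv_smul] at this
      exact this
  · push Not at hpar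
    rcases pprime_z H hH' hpar with h | h
    · left; exact h
    · right; right; exact ⟨hpar, h⟩

end Cfsg.Agent.helper4.Dn
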