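import Mathlib
import Cfsg.Agent.Lib_helper4_DnJ

set_option autoImplicit false
set_option linter.unusedSectionVars false
set_option maxHeartbeats 1600000

/-!
# Maximality of torus normalisers in `SL₂(F)`
-/

namespace Cfsg.Agent.helper4.Dn

open Matrix
open scoped LinearAlgebra.Projectivization MatrixGroups
open Cfsg.Agent.helper4.Dk

variable {K : Type*} [Field K] [IsAlgClosed K]

/-- a nonscalar element fixing two distinct points fixes no further point -/
theorem fix_sub {c : SpecialLinearGroup (Fin 2) K} (hc1 : c ≠ 1) (hc2 : c ≠ -1)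
    {y y' w : ℙ K (Fin 2 → K)} (hyy : y ≠ y') (hy : c • y = y) (hy' : c • y' = y')
    (hw : c • w = w) : w = y ∨ w = y' := by
  by_contra hcon
  push Not at hcon
  have hfin := fix_finite' c hc1 hc2
  have hsub : ({y, y', w} : Set (ℙ K (Fin 2 → K))) ⊆ {x | c • x = x} := by
    intro x hx
    simp only [Set.mem_insert_iff, Set.mem_singleton_iff] at hx
    rcases hx with rfl | rfl | rfl
    · exact hy
    · exact hy'
    · exact hw
  have h3 : ({y, y', w} : Set (ℙ K (Fin 2 → K))).ncard = 3 := by
    rw [Set.ncard_eq_three]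
    exact ⟨y, y', w, hyy, Ne.symm hcon.1, Ne.symm hcon.2, rfl⟩
  have hle := Set.ncard_le_ncard hsub hfin
  rw [h3] at hle
  by_cases h : tr c ^ 2 = 4
  · rw [(ncard_fix' c hc1 hc2).1 h] at hle; omega
  · rw [(ncard_fix' c hc1 hc2).2 h] at hle; omega

theorem scalar_of_three {c : SpecialLinearGroup (Fin 2) K}
    {y y' w : ℙ K (Fin 2 → K)} (hyy : y ≠ y') (hwy : w ≠ y) (hwy' : w ≠ y') (hy : c • y = y)
    (hy' : c • y' = y') (hw : c • w = w) : c = 1 ∨ c = -1 := by
  by_contra hcon
  push Not at hcon
  rcases fix_sub hcon.1 hcon.2 hyy hy hy' hw with h | h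
  · exact hwy h
  · exact hwy' h

variable {F : Type*} [Field F] [Fintype F] [Algebra F K]

theorem coprime_pm {q e : ℕ} (hq : 1 ≤ q) (he : e = q - 1 ∨ e = q + 1) : Nat.Coprime e q := by
  rcases he with rfl | rfl
  · obtain ⟨m, rfl⟩ : ∃ m, q = m + 1 := ⟨q - 1, by omega⟩
    simp
  · simp

set_option maxRecDepth 4000 in
theorem max_main (Ht : Subgroup (SpecialLinearGroup (Fin 2) F)) (hH : -1 ∈ Ht)
    {y y' : ℙ K (Fin 2 → K)} (hyy : y ≠ y') {e : ℕ}
    (he : e = Fintype.card F - 1 ∨ e = Fintype.card F + 1)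
    (hq4 : 4 ≤ Fintype.card F) (hq9 : Fintype.card F ≠ 9)
    (hqp : e = Fintype.card F + 1 → Fintype.card F ≠ 7)
    (hqm : e = Fintype.card F - 1 → Fintype.card F ≠ 5 ∧ Fintype.card F ≠ 7 ∧ Fintype.card F ≠ 11)
    {c : SpecialLinearGroup (Fin 2) K} (hcM : c ∈ Ht.map (iota F K)) (hcord : orderOf c = e)
    (hcy : c • y = y) (hcy' : c • y' = y')
    {g : SpecialLinearGroup (Fin 2) K} (hgM : g ∈ Ht.map (iota F K)) (hgy : g • y = y')
    (hgy' : g • y' = y) (hbig : 4 * e ≤ Nat.card Ht) :
    Nat.card Ht = Fintype.card F * (Fintype.card F ^ 2 - 1) := by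
  classical
  obtain ⟨p, hchar⟩ := CharP.exists F
  obtain ⟨f, hp, hqf⟩ := FiniteField.card F p
  obtain ⟨q, hqdef⟩ : ∃ q, q = Fintype.card F := ⟨_, rfl⟩
  rw [← hqdef] at he hq4 hq9 hqp hqm hqf ⊢
  set M := Ht.map (iota F K) with hMdef
  have hH' : -1 ∈ M := neg_one_mem_map hH
  obtain ⟨z, hz⟩ : ∃ z, z = zc K := ⟨_, rfl⟩
  have hz12 : z = 1 ∨ z = 2 := by
    rcases zc_cases K with ⟨h, _⟩ | ⟨h, _⟩ <;> omega
  have hNdvd : Nat.card Ht ∣ q * (q ^ 2 - 1) := by rw [hqdef]; exact card_dvd_SL2 Ht
  obtain ⟨N, hN⟩ : ∃ N, N = Nat.card Ht := ⟨_, rfl⟩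
  rw [← hN] at hNdvd hbig ⊢
  have he3 : 3 ≤ e := by rcases he with rfl | rfl <;> omega
  have heq1 : q - 1 ≤ e := by rcases he with rfl | rfl <;> omega
  -- `c` is not scalar
  have hc1 : c ≠ 1 := by
    intro h; rw [h, orderOf_one] at hcord; omega
  have hc2 : c ≠ -1 := by
    intro h
    have : c ^ 2 = 1 := by rw [h]; simp
    have := orderOf_dvd_of_pow_eq_one this
    rw [hcord] at this
    have := Nat.le_of_dvd (by norm_num) this
    omega
  -- no global fixed point
  have hNF : ¬ ∃ w : ℙ K (Fin 2 → K), ∀ m ∈ M, m • w = w := by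
    rintro ⟨w, hw⟩
    rcases fix_sub hc1 hc2 hyy hcy hcy' (hw c hcM) with rfl | rfl
    · exact hyy ((hw g hgM).symm.trans hgy)
    · exact hyy ((hw g hgM).symm.trans hgy').symm
  have hyY : y ∈ YY M := ⟨c, hcM, hc1, hc2, hcy⟩
  -- `e` divides the stabiliser order
  obtain ⟨E, hE⟩ : ∃ E, E = Nat.card (stabIn M y) := ⟨_, rfl⟩
  have heE : e ∣ E := by
    have hmem : c ∈ stabIn M y := mem_stabIn.mpr ⟨hcM, hcy⟩
    have h1 := orderOf_dvd_natCard (⟨c, hmem⟩ : stabIn M y)
    rw [Subgroup.orderOf_mk, hcord, ← hE] at h1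
    exact h1
  have hEpos : 0 < E := by rw [hE]; exact Nat.card_pos
  have heE' : e ≤ E := Nat.le_of_dvd hEpos heE
  have hcop : Nat.Coprime e q := coprime_pm (by omega) he
  have hbd : ∀ m, m ∣ q - 1 ∨ m ∣ q + 1 → m ≤ q + 1 := by
    intro m hm
    rcases hm with h | h
    · have := Nat.le_of_dvd (by omega) h
      omega
    · exact Nat.le_of_dvd (by omega) h
  rcases nd_main (K := K) Ht hH with hfix | ⟨q₁, c', k, s, n, hPar, hst⟩ | ⟨hpp, y₁, y₂, y₃, s₁, s₂, s₃, hb, hP⟩
  · exact absurd hfix hNF
  · -- parabolic case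
    obtain ⟨hq₁2, hq₁dvd, hc'1, hc'q, hs2, hk1, hn, heq, hNeq, hzs, hcases⟩ := hPar
    rw [← hz, ← hN] at hNeq
    rw [← hqdef, ← hz] at hzs
    rw [← hqdef] at hq₁dvd
    have hzs' : z * s ≤ q + 1 := hbd _ hzs
    have hEcases := hst y hyY
    rw [← hMdef, ← hE, ← hz] at hEcases
    have hcop₁ : Nat.Coprime e q₁ := Nat.Coprime.coprime_dvd_right hq₁dvd hcop
    by_cases hq₁' : q₁ = 2
    · exfalso
      rw [hq₁'] at heq hc'q hNeq
      have hc1' : c' = 1 := by omega
      rw [hc1'] at heq hNeq
      have hns : n = s := by omega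
      rw [hns] at hNeq
      have : z * (s * 2 * 1) = 2 * (z * s) := by ring
      rw [this] at hNeq
      omega
    have h3q₁ : 3 ≤ q₁ := by omega
    have hexc : q₁ = 3 → 27 ≤ q := by
      intro h3
      have h3q : 3 ∣ q := h3 ▸ hq₁dvd
      rw [hqf] at h3q
      have hp3 : 3 = p := (Nat.prime_dvd_prime_iff_eq Nat.prime_three hp).mp
        (Nat.Prime.dvd_of_dvd_pow Nat.prime_three h3q)
      have hf3 : 3 ≤ (f : ℕ) := by
        by_contra hlt
        push Not at hlt
        have hf1 : 1 ≤ (f : ℕ) := f.pos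
        have : (f : ℕ) = 1 ∨ (f : ℕ) = 2 := by omega
        rcases this with h | h
        · rw [h, ← hp3] at hqf; omega
        · rw [h, ← hp3] at hqf; omega
      rw [hqf, ← hp3]
      calc 27 = 3 ^ 3 := by norm_num
        _ ≤ 3 ^ (f : ℕ) := Nat.pow_le_pow_right (by norm_num) hf3
    rcases hcases with h | hk' | ⟨hq₁3, hk', hc'2, hs5⟩
    · exact absurd h hq₁'
    · -- `n = 1 + q₁`
      rw [hk', one_mul] at hn
      rw [hn] at heq hNeq
      rcases arith_k1_dich hp f.pos hqf hq₁dvd hq₁2 hc'1 hc'q hz12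
        (fun h => by rw [hqdef]; exact zc_eq_one_imp (F := F) (K := K) (by rw [← hz]; exact h))
        heq hNeq hNdvd with hsq | hdone
      · exfalso
        have hq₁sq : q₁ ^ 2 - 1 ≤ e := le_trans (Nat.sub_le_sub_right hsq 1) heq1
        rcases hEcases with hE1 | hE1
        · -- `E = z q₁ c'`
          have h1 : e ∣ q₁ * (z * c') := by
            have : z * q₁ * c' = q₁ * (z * c') := by ring
            rw [← this, ← hE1]; exact heE
          have h2 : e ∣ z * c' := hcop₁.dvd_of_dvd_mul_left h1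
          have h3 : e ≤ z * c' := Nat.le_of_dvd (by rcases hz12 with rfl | rfl <;> omega) h2
          have h4 : z * c' ≤ 2 * (q₁ - 1) := by
            calc z * c' ≤ 2 * c' := Nat.mul_le_mul_right _ (by omega)
              _ ≤ 2 * (q₁ - 1) := Nat.mul_le_mul_left _ (by omega)
          obtain ⟨m, rfl⟩ : ∃ m, q₁ = m + 2 := ⟨q₁ - 2, by omega⟩
          have e2 : (m + 2) ^ 2 - 1 = (m + 1) * (m + 3) := by
            have : (m + 2) ^ 2 = (m + 1) * (m + 3) + 1 := by ring
            omega
          rw [e2] at hq₁sq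
          have : m + 2 - 1 = m + 1 := by omega
          rw [this] at h4
          nlinarith
        · -- `E = z s`
          obtain ⟨m, rfl⟩ : ∃ m, q₁ = m + 2 := ⟨q₁ - 2, by omega⟩
          have e0 : m + 2 - 2 = m := by omega
          rw [e0] at heq
          have e1 : 2 + (1 + (m + 2)) * m = (m + 2) * (m + 1) := by ring
          rw [e1] at heq
          have h4 : (m + 3) * c' = s * (m + 1) := by
            have : (m + 2) * ((m + 3) * c') = (m + 2) * (s * (m + 1)) := by
              calc (m + 2) * ((m + 3) * c') = (1 + (m + 2)) * (m + 2) * c' := by ring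
                _ = s * ((m + 2) * (m + 1)) := heq
                _ = (m + 2) * (s * (m + 1)) := by ring
            exact Nat.eq_of_mul_eq_mul_left (by omega) this
          have h5 : s ≤ m + 3 := by
            have : s * (m + 1) ≤ (m + 3) * (m + 1) := by
              rw [← h4]; exact Nat.mul_le_mul_left _ (by omega)
            exact Nat.le_of_mul_le_mul_right this (by omega)
          have h6 : e ≤ 2 * (m + 3) := by
            calc e ≤ E := heE'
              _ = z * s := hE1
              _ ≤ 2 * s := Nat.mul_le_mul_right _ (by omega)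
              _ ≤ 2 * (m + 3) := Nat.mul_le_mul_left _ h5
          have e2 : (m + 2) ^ 2 - 1 = (m + 1) * (m + 3) := by
            have : (m + 2) ^ 2 = (m + 1) * (m + 3) + 1 := by ring
            omega
          rw [e2] at hq₁sq
          have hm1 : m ≤ 1 := by
            by_contra hlt
            push Not at hlt
            nlinarith
          have hm1' : m = 1 := by omega
          subst hm1'
          have := hexc rfl
          omega
      · exact hdone
    · -- exceptional
      exfalso
      have := hexc hq₁3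
      rw [hq₁3, hc'2, hs5] at hEcases
      rcases hEcases with h | h <;> rcases hz12 with rfl | rfl <;> omega
  · -- no parabolics
    obtain ⟨hy₁, hy₂, hy₃, hy₂O1, hy₃O1, hy₃O2, hcov, hst₁, hst₂, hst₃, hcard, hT⟩ := hP
    rw [← hMdef] at hpp hy₁ hy₂ hy₃ hy₂O1 hy₃O1 hy₃O2 hcov hst₁ hst₂ hst₃ hcard
    rw [card_map_iota, ← hN, ← hz] at hcard
    rw [← hz] at hst₁ hst₂ hst₃
    rcases zc_cases K with ⟨hz2, h2⟩ | ⟨hz1, h2⟩
    swap
    · exfalso
      apply odd_card_of_pp M h2 hpp
      rw [card_map_iota, ← hN, hcard, hz, hz1, one_mul]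
      obtain ⟨rfl, hT'⟩ := hT
      rcases hT' with ⟨rfl, rfl, _⟩ | ⟨_, _, rfl⟩ | ⟨_, _, rfl⟩ | ⟨_, _, rfl⟩
      · exact dvd_mul_right _ _
      · norm_num
      · norm_num
      · norm_num
    have hz2' : z = 2 := by rw [hz, hz2]
    subst hz2'
    have hodd : ¬ 2 ∣ q := by rw [hqdef]; exact zc_eq_two_imp (F := F) (K := K) hz2
    have hq5 : 5 ≤ q := by omega
    -- the stabiliser order of `y`
    have hEc : E = 2 * s₁ ∨ E = 2 * s₂ ∨ E = 2 * s₃ := by
      rcases hcov y hyY with ⟨r, hr, rfl⟩ | ⟨r, hr, rfl⟩ | ⟨r, hr, rfl⟩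
      · left; rw [hE, card_stabIn_conj, cj_eq_of_mem hr, hst₁]
      · right; left; rw [hE, card_stabIn_conj, cj_eq_of_mem hr, hst₂]
      · right; right; rw [hE, card_stabIn_conj, cj_eq_of_mem hr, hst₃]
    obtain ⟨rfl, hT'⟩ := hT
    rcases hT' with ⟨rfl, rfl, _⟩ | ⟨rfl, rfl, rfl⟩ | ⟨rfl, rfl, rfl⟩ | ⟨rfl, rfl, rfl⟩
    · -- dihedral
      exfalso
      have := card_stab_dvd Ht hH y₃ (hpp y₃)
      rw [← hMdef, hst₃, ← hqdef] at this
      have := hbd _ this
      omega
    · -- (2,3,3)
      exfalso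
      rcases he with rfl | rfl
      · obtain ⟨h5, h7, h11⟩ := hqm rfl
        omega
      · -- q = 5
        have hq5' : q = 5 := by omega
        have hE6 : E = 6 := by
          rcases hEc with h | h | h
          · rw [h] at heE; have := Nat.le_of_dvd (by norm_num) heE; omega
          · exact h
          · exact h
        have hn4 : (orb M y).ncard = 4 := by
          have h1 := orbit_stabilizer M y
          rw [← hE, hE6, card_map_iota, ← hN, hcard] at h1
          omega
        -- the two other points of the orbit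
        have hyO : y ∈ orb M y := mem_orb_self M y
        have hy'O : y' ∈ orb M y := ⟨g, hgM, hgy⟩
        have hsub2 : ({y, y'} : Set (ℙ K (Fin 2 → K))) ⊆ orb M y := by
          intro x hx
          simp only [Set.mem_insert_iff, Set.mem_singleton_iff] at hx
          rcases hx with rfl | rfl
          · exact hyO
          · exact hy'O
        have hdiff : (orb M y \ {y, y'}).ncard = 2 := by
          have h1 := Set.ncard_sdiff_add_ncard_of_subset hsub2 (orb_finite M y)
          rw [Set.ncard_pair hyy, hn4] at h1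
          omega
        obtain ⟨w₁, w₂, hw12, hS⟩ := Set.ncard_eq_two.mp hdiff
        have hmemS : ∀ x, x ∈ orb M y \ {y, y'} ↔ x = w₁ ∨ x = w₂ := by
          intro x; rw [hS]; simp
        have hcS : ∀ x, x ∈ orb M y \ {y, y'} → c • x ∈ orb M y \ {y, y'} := by
          rintro x ⟨hxO, hxn⟩
          refine ⟨smul_mem_orb hcM hxO, ?_⟩
          simp only [Set.mem_insert_iff, Set.mem_singleton_iff, not_or] at hxn ⊢
          constructor
          · intro h
            apply hxn.1
            have := congrArg (fun u => c⁻¹ • u) h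
            simp only [inv_smul_smul] at this
            rw [this, inv_smul_eq_iff, hcy]
          · intro h
            apply hxn.2
            have := congrArg (fun u => c⁻¹ • u) h
            simp only [inv_smul_smul] at this
            rw [this, inv_smul_eq_iff, hcy']
        have hw₁S : w₁ ∈ orb M y \ {y, y'} := (hmemS w₁).mpr (Or.inl rfl)
        have hw₂S : w₂ ∈ orb M y \ {y, y'} := (hmemS w₂).mpr (Or.inr rfl)
        have hw₁n : w₁ ≠ y ∧ w₁ ≠ y' := by
          have := hw₁S.2
          simp only [Set.mem_insert_iff, Set.mem_singleton_iff, not_or] at this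
          exact this
        have hw₂n : w₂ ≠ y ∧ w₂ ≠ y' := by
          have := hw₂S.2
          simp only [Set.mem_insert_iff, Set.mem_singleton_iff, not_or] at this
          exact this
        have hnofix : ∀ w, w ≠ y → w ≠ y' → c • w ≠ w := by
          intro w h1 h2 h3
          rcases scalar_of_three hyy h1 h2 hcy hcy' h3 with h | h
          · exact hc1 h
          · exact hc2 h
        have hcw₁ : c • w₁ = w₂ := by
          rcases (hmemS _).mp (hcS w₁ hw₁S) with h | h
          · exact absurd h (hnofix w₁ hw₁n.1 hw₁n.2)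
          · exact h
        have hcw₂ : c • w₂ = w₁ := by
          rcases (hmemS _).mp (hcS w₂ hw₂S) with h | h
          · exact h
          · exact absurd h (hnofix w₂ hw₂n.1 hw₂n.2)
        have hc2w : (c ^ 2) • w₁ = w₁ := by
          rw [pow_two, mul_smul, hcw₁, hcw₂]
        have hc2y : (c ^ 2) • y = y := by rw [pow_two, mul_smul, hcy, hcy]
        have hc2y' : (c ^ 2) • y' = y' := by rw [pow_two, mul_smul, hcy', hcy']
        have hc4 : c ^ 4 = 1 := by
          rcases scalar_of_three hyy hw₁n.1 hw₁n.2 hc2y hc2y' hc2w with h | h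
          · have : c ^ 4 = (c ^ 2) ^ 2 := by rw [← pow_mul]
            rw [this, h, one_pow]
          · have : c ^ 4 = (c ^ 2) ^ 2 := by rw [← pow_mul]
            rw [this, h]; simp
        have := orderOf_dvd_of_pow_eq_one hc4
        rw [hcord, hq5'] at this
        norm_num at this
    · -- (2,3,4)
      exfalso
      have hE8 : E ≤ 8 := by rcases hEc with h | h | h <;> omega
      rcases he with rfl | rfl
      · obtain ⟨h5, h7, h11⟩ := hqm rfl
        omega
      · have h7 := hqp rfl
        have hq5' : q = 5 := by omega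
        rw [hcard, hq5'] at hNdvd
        norm_num at hNdvd
    · -- (2,3,5)
      have hE10 : E ≤ 10 := by rcases hEc with h | h | h <;> omega
      rcases he with rfl | rfl
      · exfalso
        obtain ⟨h5, h7, h11⟩ := hqm rfl
        omega
      · have h7 := hqp rfl
        have hq5' : q = 5 := by omega
        rw [hcard, hq5']
        norm_num

end Cfsg.Agent.helper4.Dn
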