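import Mathlib
import Cfsg.Agent.Lib_helper4_DnK
import Cfsg.Agent.Lib_helper4_DkH
import Cfsg.Agent.Lib_helper1_Dihedral
import Cfsg.Agent.Lib_helper2_Classical

set_option autoImplicit false
set_option linter.unusedSectionVars false

/-!
# Dihedral maximal subgroups of `PSL₂(F)`
-/

namespace Cfsg.Agent.helper4.Dn

open Matrix
open scoped LinearAlgebra.Projectivization MatrixGroups
open Cfsg.Agent.helper4.Dk

section general

variable {K : Type*} [Field K]

theorem swap_std {g : SpecialLinearGroup (Fin 2) K}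
    (h1 : g • (pInf : ℙ K (Fin 2 → K)) = pt 0) (h2 : g • (pt 0 : ℙ K (Fin 2 → K)) = pInf) :
    g 0 0 = 0 ∧ g 1 1 = 0 := by
  constructor
  · by_cases h10 : g 1 0 = 0
    · rw [smul_pInf_of_eq g h10] at h1
      exact absurd h1.symm (pt_ne_pInf 0)
    · rw [smul_pInf_of_ne g h10] at h1
      have := pt_injective h1
      exact (div_eq_zero_iff.mp this).resolve_right h10
  · by_contra h11
    have : g 1 0 * 0 + g 1 1 ≠ 0 := by rw [mul_zero, zero_add]; exact h11
    rw [smul_pt_of_ne g 0 this] at h2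
    exact pt_ne_pInf _ h2

theorem swap_sq_std {g : SpecialLinearGroup (Fin 2) K} (h00 : g 0 0 = 0) (h11 : g 1 1 = 0) :
    g * g = -1 := by
  have hd := det_eq g
  rw [h00, h11] at hd
  apply sl_ext'
  · rw [mul_00, h00]; simp; linear_combination -hd
  · rw [mul_01, h00, h11]; simp
  · rw [mul_10, h00, h11]; simp
  · rw [mul_11, h11]; simp; linear_combination -hd

theorem swap_conj_std {g c : SpecialLinearGroup (Fin 2) K} (h00 : g 0 0 = 0) (h11 : g 1 1 = 0)
    (hc10 : c 1 0 = 0) (hc01 : c 0 1 = 0) : g * c * g⁻¹ = c⁻¹ := by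
  have hd := det_eq g
  rw [h00, h11] at hd
  apply sl_ext'
  all_goals
    simp only [mul_00, mul_01, mul_10, mul_11, inv_00, inv_01, inv_10, inv_11, h00, h11, hc10, hc01]
  · linear_combination (c 1 1) * hd
  · ring
  · ring
  · linear_combination (c 0 0) * hd

theorem swap_sq {g : SpecialLinearGroup (Fin 2) K} {y y' : ℙ K (Fin 2 → K)} (hyy : y ≠ y')
    (h1 : g • y = y') (h2 : g • y' = y) : g * g = -1 := by
  obtain ⟨s, hs1, hs2⟩ := exists_two_trans hyy
  have h1' : (s⁻¹ * g * s) • (pInf : ℙ K (Fin 2 → K)) = pt 0 := by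
    rw [mul_smul, mul_smul, hs1, h1, ← hs2, inv_smul_smul]
  have h2' : (s⁻¹ * g * s) • (pt 0 : ℙ K (Fin 2 → K)) = pInf := by
    rw [mul_smul, mul_smul, hs2, h2, ← hs1, inv_smul_smul]
  obtain ⟨h00, h11⟩ := swap_std h1' h2'
  have := swap_sq_std h00 h11
  have h3 : g * g = s * ((s⁻¹ * g * s) * (s⁻¹ * g * s)) * s⁻¹ := by group
  rw [h3, this]; simp

theorem swap_conj {g c : SpecialLinearGroup (Fin 2) K} {y y' : ℙ K (Fin 2 → K)} (hyy : y ≠ y')
    (h1 : g • y = y') (h2 : g • y' = y) (hc1 : c • y = y) (hc2 : c • y' = y') :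
    g * c * g⁻¹ = c⁻¹ := by
  obtain ⟨s, hs1, hs2⟩ := exists_two_trans hyy
  have h1' : (s⁻¹ * g * s) • (pInf : ℙ K (Fin 2 → K)) = pt 0 := by
    rw [mul_smul, mul_smul, hs1, h1, ← hs2, inv_smul_smul]
  have h2' : (s⁻¹ * g * s) • (pt 0 : ℙ K (Fin 2 → K)) = pInf := by
    rw [mul_smul, mul_smul, hs2, h2, ← hs1, inv_smul_smul]
  have hc1' : (s⁻¹ * c * s) • (pInf : ℙ K (Fin 2 → K)) = pInf := by
    rw [mul_smul, mul_smul, hs1, hc1, ← hs1, inv_smul_smul]
  have hc2' : (s⁻¹ * c * s) • (pt 0 : ℙ K (Fin 2 → K)) = pt 0 := by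
    rw [mul_smul, mul_smul, hs2, hc2, ← hs2, inv_smul_smul]
  obtain ⟨h00, h11⟩ := swap_std h1' h2'
  have := swap_conj_std h00 h11 ((fixed_pInf_iff _).mp hc1') ((fixed_pt_zero_iff _).mp hc2')
  have h3 : g * c * g⁻¹ = s * ((s⁻¹ * g * s) * (s⁻¹ * c * s) * (s⁻¹ * g * s)⁻¹) * s⁻¹ := by group
  rw [h3, this]; group

/-- in odd characteristic the only involution of `SL₂` is `-1` -/
theorem eq_of_sq_eq_one (h2 : (2 : K) ≠ 0) {g : SpecialLinearGroup (Fin 2) K} (hg : g * g = 1) :
    g = 1 ∨ g = -1 := by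
  have e00 := congrArg (fun x : SpecialLinearGroup (Fin 2) K => x 0 0) hg
  have e01 := congrArg (fun x : SpecialLinearGroup (Fin 2) K => x 0 1) hg
  have e10 := congrArg (fun x : SpecialLinearGroup (Fin 2) K => x 1 0) hg
  have e11 := congrArg (fun x : SpecialLinearGroup (Fin 2) K => x 1 1) hg
  simp only [mul_00, mul_01, mul_10, mul_11, one_00, one_01, one_10, one_11] at e00 e01 e10 e11
  have hd := det_eq g
  -- trace times g = 2
  have ht0 : (g 0 0 + g 1 1) * g 0 0 = 2 := by linear_combination e00 + hd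
  have ht : g 0 0 + g 1 1 ≠ 0 := by
    intro h; rw [h, zero_mul] at ht0; exact h2 ht0.symm
  have h01 : g 0 1 = 0 := by
    have : (g 0 0 + g 1 1) * g 0 1 = 0 := by linear_combination e01
    exact (mul_eq_zero.mp this).resolve_left ht
  have h10 : g 1 0 = 0 := by
    have : (g 0 0 + g 1 1) * g 1 0 = 0 := by linear_combination e10
    exact (mul_eq_zero.mp this).resolve_left ht
  have h00 : g 0 0 * g 0 0 = 1 := by rw [h01] at e00; linear_combination e00
  have h11 : g 1 1 * g 1 1 = 1 := by rw [h10] at e11; linear_combination e11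
  have hdd : g 0 0 * g 1 1 = 1 := by rw [h01] at hd; linear_combination hd
  have heq : g 0 0 = g 1 1 := by
    have : g 0 0 * (g 0 0 * g 1 1) = g 1 1 * (g 0 0 * g 0 0) := by ring
    rw [hdd, h00] at this
    linear_combination this
  have : (g 0 0 - 1) * (g 0 0 + 1) = 0 := by linear_combination h00
  rcases mul_eq_zero.mp this with h | h
  · left
    have h00' : g 0 0 = 1 := sub_eq_zero.mp h
    apply sl_ext' <;> simp [h01, h10, h00', ← heq]
  · right
    have h00' : g 0 0 = -1 := eq_neg_of_add_eq_zero_left h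
    apply sl_ext' <;> simp [h01, h10, h00', ← heq]

end general

end Cfsg.Agent.helper4.Dn
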