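import Mathlib
import Cfsg.Agent.Lib_helper4_DnL

set_option autoImplicit false
set_option linter.unusedSectionVars false
set_option maxHeartbeats 1600000

/-!
# Dihedral maximal subgroups of `PSL₂(F)`: assembly
-/

namespace Cfsg.Agent.helper4.Dn

open Matrix
open scoped LinearAlgebra.Projectivization MatrixGroups
open Cfsg.Agent.helper4.Dk

variable {F : Type*} [Field F] [Fintype F]

/-- the projection `SL₂(F) → PSL₂(F)` -/
noncomputable def piF (F : Type*) [Field F] :
    SpecialLinearGroup (Fin 2) F →* Matrix.ProjectiveSpecialLinearGroup (Fin 2) F :=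
  QuotientGroup.mk' (Subgroup.center (SpecialLinearGroup (Fin 2) F))

theorem piF_surjective : Function.Surjective (piF F) := QuotientGroup.mk'_surjective _

theorem piF_eq_one_iff (g : SpecialLinearGroup (Fin 2) F) : piF F g = 1 ↔ g = 1 ∨ g = -1 := by
  unfold piF
  rw [QuotientGroup.mk'_apply, QuotientGroup.eq_one_iff]
  constructor
  · intro hg
    obtain ⟨r, hr, hrg⟩ := Matrix.SpecialLinearGroup.mem_center_iff.mp hg
    rw [Fintype.card_fin] at hr
    have h00 := congrFun (congrFun hrg 0) 0
    have h01 := congrFun (congrFun hrg 0) 1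
    have h10 := congrFun (congrFun hrg 1) 0
    have h11 := congrFun (congrFun hrg 1) 1
    simp at h00 h01 h10 h11
    have : (r - 1) * (r + 1) = 0 := by linear_combination hr
    rcases mul_eq_zero.mp this with h | h
    · left
      have hr1 : r = 1 := sub_eq_zero.mp h
      apply sl_ext' <;> simp [← h00, ← h01, ← h10, ← h11, hr1]
    · right
      have hr1 : r = -1 := eq_neg_of_add_eq_zero_left h
      apply sl_ext' <;> simp [← h00, ← h01, ← h10, ← h11, hr1]
  · rintro (rfl | rfl)
    · exact Subgroup.one_mem _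
    · rw [Subgroup.mem_center_iff]
      intro g
      simp

theorem piF_neg_one : piF F (-1) = 1 := (piF_eq_one_iff _).mpr (Or.inr rfl)

theorem ker_piF_le {Ht : Subgroup (SpecialLinearGroup (Fin 2) F)} (hH : -1 ∈ Ht) :
    (piF F).ker ≤ Ht := by
  intro g hg
  rw [MonoidHom.mem_ker, piF_eq_one_iff] at hg
  rcases hg with rfl | rfl
  · exact Ht.one_mem
  · exact hH

/-- the order of the image of a torus generator -/
theorem orderOf_piF {c : SpecialLinearGroup (Fin 2) F} {e : ℕ} (hc : orderOf c = e) (he3 : 3 ≤ e)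
    (hpar : (2 : F) ≠ 0 → 2 ∣ e) :
    orderOf (piF F c) = e / Nat.gcd 2 (Fintype.card F - 1) := by
  by_cases h2 : (2 : F) = 0
  · -- characteristic 2
    have hq : 2 ∣ Fintype.card F := two_eq_zero_iff_dvd.mp h2
    have hq1 : 1 ≤ Fintype.card F := Fintype.card_pos
    have hg : Nat.gcd 2 (Fintype.card F - 1) = 1 := by
      obtain ⟨m, hm⟩ := hq
      have : Fintype.card F - 1 = 2 * (m - 1) + 1 := by omega
      rw [this]
      simp
    rw [hg, Nat.div_one, ← hc]
    apply orderOf_injective
    rw [injective_iff_map_eq_one]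
    intro g hg
    rcases (piF_eq_one_iff g).mp hg with h | h
    · exact h
    · rw [h]; exact neg_one_eq_one h2
  · have hq : ¬ 2 ∣ Fintype.card F := fun h => h2 (two_eq_zero_iff_dvd.mpr h)
    have hq1 : 2 ≤ Fintype.card F := Fintype.one_lt_card
    have hg : Nat.gcd 2 (Fintype.card F - 1) = 2 := by
      have : 2 ∣ Fintype.card F - 1 := by omega
      exact Nat.gcd_eq_left this
    rw [hg]
    obtain ⟨m, hm⟩ := hpar h2
    have hm' : e / 2 = m := by omega
    rw [hm']
    have hcm : c ^ m = -1 := by
      have h1 : (c ^ m) * (c ^ m) = 1 := by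
        rw [← pow_add, ← two_mul, ← hm, ← hc, pow_orderOf_eq_one]
      rcases eq_of_sq_eq_one h2 h1 with h | h
      · exfalso
        have := orderOf_dvd_of_pow_eq_one h
        rw [hc] at this
        have := Nat.le_of_dvd (by omega) this
        omega
      · exact h
    rw [orderOf_eq_iff (by omega)]
    constructor
    · rw [← map_pow, hcm, piF_neg_one]
    · intro k hk hk0 hcon
      rw [← map_pow, piF_eq_one_iff] at hcon
      have hc2k : c ^ (2 * k) = 1 := by
        rw [mul_comm, pow_mul]
        rcases hcon with h | h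
        · rw [h, one_pow]
        · rw [h]; simp
      have := orderOf_dvd_of_pow_eq_one hc2k
      rw [hc] at this
      have := Nat.le_of_dvd (by omega) this
      omega

variable {K : Type*} [Field K] [Algebra F K] [IsAlgClosed K]

theorem iota_smul_ne (g : SpecialLinearGroup (Fin 2) F) {y y' : ℙ K (Fin 2 → K)} (hyy : y ≠ y')
    (hg : iota F K g • y = y') : piF F g ≠ 1 := by
  intro h
  rcases (piF_eq_one_iff g).mp h with rfl | rfl
  · rw [map_one, one_smul] at hg; exact hyy hg
  · rw [iota_neg_one, neg_one_smul'] at hg; exact hyy hg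

/-- **Assembly**: a torus generator and a swapping element give a dihedral maximal subgroup. -/
theorem coatom_dihedral {y y' : ℙ K (Fin 2 → K)} (hyy : y ≠ y') {e : ℕ}
    (he : e = Fintype.card F - 1 ∨ e = Fintype.card F + 1)
    (hq4 : 4 ≤ Fintype.card F) (hq9 : Fintype.card F ≠ 9)
    (hqp : e = Fintype.card F + 1 → Fintype.card F ≠ 7)
    (hqm : e = Fintype.card F - 1 → Fintype.card F ≠ 5 ∧ Fintype.card F ≠ 7 ∧ Fintype.card F ≠ 11)
    {c₀ g₀ : SpecialLinearGroup (Fin 2) F} (hcord : orderOf c₀ = e)
    (hcy : iota F K c₀ • y = y) (hcy' : iota F K c₀ • y' = y')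
    (hgy : iota F K g₀ • y = y') (hgy' : iota F K g₀ • y' = y) :
    ∃ D : Subgroup (Matrix.ProjectiveSpecialLinearGroup (Fin 2) F), IsCoatom D ∧
      Nonempty (D ≃* DihedralGroup (e / Nat.gcd 2 (Fintype.card F - 1))) := by
  classical
  have he3 : 3 ≤ e := by rcases he with rfl | rfl <;> omega
  have hpar : (2 : F) ≠ 0 → 2 ∣ e := by
    intro h2
    have hq : ¬ 2 ∣ Fintype.card F := fun h => h2 (two_eq_zero_iff_dvd.mpr h)
    rcases he with rfl | rfl <;> omega
  -- relations in `SL₂(F)`
  have hg0sq : g₀ * g₀ = -1 := by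
    apply iota_injective (K := K)
    rw [map_mul, iota_neg_one]
    exact swap_sq hyy hgy hgy'
  have hgc_y : iota F K (g₀ * c₀) • y = y' := by rw [map_mul, mul_smul, hcy, hgy]
  have hgc_y' : iota F K (g₀ * c₀) • y' = y := by rw [map_mul, mul_smul, hcy', hgy']
  have hgcsq : (g₀ * c₀) * (g₀ * c₀) = -1 := by
    apply iota_injective (K := K)
    rw [map_mul (iota F K) (g₀ * c₀), iota_neg_one]
    exact swap_sq hyy hgc_y hgc_y'
  have hconj : g₀ * c₀ * g₀⁻¹ = c₀⁻¹ := by
    apply iota_injective (K := K)
    rw [map_mul, map_mul, map_inv, map_inv]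
    exact swap_conj hyy hgy hgy' hcy hcy'
  set x := piF F (g₀ * c₀) with hx
  set w := piF F g₀ with hw
  have hxx : x * x = 1 := by rw [hx, ← map_mul, hgcsq, piF_neg_one]
  have hww : w * w = 1 := by rw [hw, ← map_mul, hg0sq, piF_neg_one]
  have hx1 : x ≠ 1 := iota_smul_ne (K := K) _ hyy hgc_y
  have hw1 : w ≠ 1 := iota_smul_ne (K := K) _ hyy hgy
  have hxw : x * w = (piF F c₀)⁻¹ := by
    rw [hx, hw, ← map_mul, ← map_inv]
    have : g₀ * c₀ * g₀ = c₀⁻¹ * (g₀ * g₀) := by
      rw [← hconj]; group
    rw [this, hg0sq, map_mul, piF_neg_one, mul_one]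
  have hord : orderOf (x * w) = e / Nat.gcd 2 (Fintype.card F - 1) := by
    rw [hxw, orderOf_inv]
    exact orderOf_piF hcord he3 hpar
  set D := Subgroup.closure ({x, w} : Set (Matrix.ProjectiveSpecialLinearGroup (Fin 2) F)) with hD
  have hiso : Nonempty (D ≃* DihedralGroup (e / Nat.gcd 2 (Fintype.card F - 1))) := by
    have e1 := Cfsg.Agent.helper1.dihedralEquiv x w hxx hww hx1 hw1
    rw [hord] at e1
    exact ⟨e1.symm⟩
  refine ⟨D, ⟨?_, ?_⟩, hiso⟩
  · -- `D ≠ ⊤`
    intro htop
    obtain ⟨e1⟩ := hiso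
    have hcardD : Nat.card D = 2 * (e / Nat.gcd 2 (Fintype.card F - 1)) := by
      rw [Nat.card_congr e1.toEquiv, DihedralGroup.nat_card]
    rw [htop, Subgroup.card_top] at hcardD
    have h1 := Cfsg.Agent.helper2.card_SL_eq_card_PSL_mul (F := F) 2
    rw [Cfsg.Agent.helper12.card_SL2, hcardD, Cfsg.Agent.helper2.card_center_SL 2 (by norm_num),
      Nat.gcd_comm (Fintype.card F - 1) 2] at h1
    have h2 : e / Nat.gcd 2 (Fintype.card F - 1) * Nat.gcd 2 (Fintype.card F - 1) ≤ e :=
      Nat.div_mul_le_self _ _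
    have h3 : Fintype.card F * (Fintype.card F ^ 2 - 1) ≤ 2 * e := by
      rw [h1]
      calc 2 * (e / Nat.gcd 2 (Fintype.card F - 1)) * Nat.gcd 2 (Fintype.card F - 1)
          = 2 * (e / Nat.gcd 2 (Fintype.card F - 1) * Nat.gcd 2 (Fintype.card F - 1)) := by ring
        _ ≤ 2 * e := Nat.mul_le_mul_left _ h2
    obtain ⟨q, hqdef⟩ : ∃ q, q = Fintype.card F := ⟨_, rfl⟩
    rw [← hqdef] at h3 he hq4
    obtain ⟨m, rfl⟩ : ∃ m, q = m + 4 := ⟨q - 4, by omega⟩
    have e2 : (m + 4) ^ 2 - 1 = (m + 3) * (m + 5) := by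
      have : (m + 4) ^ 2 = (m + 3) * (m + 5) + 1 := by ring
      omega
    rw [e2] at h3
    have : e ≤ m + 5 := by rcases he with rfl | rfl <;> omega
    nlinarith
  · -- maximality
    intro Mb hDM
    set Mt := Mb.comap (piF F) with hMt
    have hneg : -1 ∈ Mt := by
      rw [hMt, Subgroup.mem_comap, piF_neg_one]; exact Mb.one_mem
    have hxM : x ∈ Mb := hDM.le (Subgroup.subset_closure (by simp))
    have hwM : w ∈ Mb := hDM.le (Subgroup.subset_closure (by simp))
    have hg₀M : g₀ ∈ Mt := hwM
    have hc₀M : c₀ ∈ Mt := by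
      rw [hMt, Subgroup.mem_comap]
      have : piF F c₀ = (x * w)⁻¹ := by rw [hxw, inv_inv]
      rw [this]
      exact Mb.inv_mem (Mb.mul_mem hxM hwM)
    -- the preimage of `D`
    set Dt := D.comap (piF F) with hDt
    have hDtM : Dt < Mt := by
      rw [hDt, hMt]
      constructor
      · exact Subgroup.comap_mono hDM.le
      · intro hle
        apply hDM.not_ge
        intro b hb
        obtain ⟨a, rfl⟩ := piF_surjective b
        exact hle hb
    have hc₀D : c₀ ∈ Dt := by
      rw [hDt, Subgroup.mem_comap]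
      have : piF F c₀ = (x * w)⁻¹ := by rw [hxw, inv_inv]
      rw [this]
      exact D.inv_mem (D.mul_mem (Subgroup.subset_closure (by simp)) (Subgroup.subset_closure (by simp)))
    have hg₀D : g₀ ∈ Dt := by
      rw [hDt, Subgroup.mem_comap]
      exact Subgroup.subset_closure (Set.mem_insert_of_mem _ rfl)
    -- `2e ≤ |Dt|`
    have hDt2 : 2 * e ≤ Nat.card Dt := by
      have hzle : Subgroup.zpowers c₀ ≤ Dt := by
        rw [Subgroup.zpowers_le]; exact hc₀D
      have hdvd : e ∣ Nat.card Dt := by
        rw [← hcord, ← Nat.card_zpowers]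
        exact Subgroup.card_dvd_of_le hzle
      obtain ⟨j, hj⟩ := hdvd
      have hne : Subgroup.zpowers c₀ ≠ Dt := by
        intro heq
        have : g₀ ∈ Subgroup.zpowers c₀ := by rw [heq]; exact hg₀D
        obtain ⟨k, hk⟩ := Subgroup.mem_zpowers_iff.mp this
        have hfix : iota F K g₀ • y = y := by
          rw [← hk, map_zpow]
          have : ∀ n : ℕ, (iota F K c₀) ^ n • y = y := by
            intro n
            induction n with
            | zero => simp
            | succ n ih => rw [pow_succ, mul_smul, hcy, ih]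
          rcases Int.eq_nat_or_neg k with ⟨n, rfl | rfl⟩
          · rw [zpow_natCast]; exact this n
          · rw [_root_.zpow_neg, zpow_natCast, inv_smul_eq_iff, this n]
        exact hyy (hfix.symm.trans hgy)
      have hj2 : 2 ≤ j := by
        by_contra hlt
        push Not at hlt
        have hpos : 0 < Nat.card Dt := Nat.card_pos
        have hj1 : j = 1 := by
          rcases Nat.eq_zero_or_pos j with h | h
          · rw [h, mul_zero] at hj; omega
          · omega
        rw [hj1, mul_one] at hj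
        apply hne
        apply Subgroup.eq_of_le_of_card_ge hzle
        rw [Nat.card_zpowers, hcord, hj]
      calc 2 * e = e * 2 := by ring
        _ ≤ e * j := Nat.mul_le_mul_left _ hj2
        _ = Nat.card Dt := hj.symm
    have hMt4 : 4 * e ≤ Nat.card Mt := by
      have hdvd : Nat.card Dt ∣ Nat.card Mt := Subgroup.card_dvd_of_le hDtM.le
      obtain ⟨j, hj⟩ := hdvd
      have hj2 : 2 ≤ j := by
        by_contra hlt
        push Not at hlt
        have hpos : 0 < Nat.card Mt := Nat.card_pos
        have hj1 : j = 1 := by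
          rcases Nat.eq_zero_or_pos j with h | h
          · rw [h, mul_zero] at hj; omega
          · omega
        rw [hj1, mul_one] at hj
        apply hDtM.ne
        exact Subgroup.eq_of_le_of_card_ge hDtM.le (by rw [hj])
      calc 4 * e = 2 * e * 2 := by ring
        _ ≤ Nat.card Dt * j := Nat.mul_le_mul hDt2 hj2
        _ = Nat.card Mt := hj.symm
    have hcM : iota F K c₀ ∈ Mt.map (iota F K) := Subgroup.mem_map_of_mem _ hc₀M
    have hgM : iota F K g₀ ∈ Mt.map (iota F K) := Subgroup.mem_map_of_mem _ hg₀M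
    have hcord' : orderOf (iota F K c₀) = e := by
      rw [orderOf_injective (iota F K) iota_injective, hcord]
    have hfull := max_main (K := K) Mt hneg hyy he hq4 hq9 hqp hqm hcM hcord' hcy hcy' hgM hgy hgy' hMt4
    have hMtop : Mt = ⊤ := by
      apply Subgroup.eq_top_of_card_eq
      rw [hfull, Cfsg.Agent.helper12.card_SL2]
    rw [← Subgroup.map_comap_eq_self_of_surjective piF_surjective Mb, ← hMt, hMtop,
      Subgroup.map_top_of_surjective _ piF_surjective]

end Cfsg.Agent.helper4.Dn
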