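import Mathlib
import Cfsg.Agent.Lib_helper4_DnM

set_option autoImplicit false
set_option linter.unusedSectionVars false
set_option maxHeartbeats 1600000

/-!
# The split and nonsplit tori of `SL₂(F)`
-/

namespace Cfsg.Agent.helper4.Dn

open Matrix
open scoped LinearAlgebra.Projectivization MatrixGroups
open Cfsg.Agent.helper4.Dk

section general

variable {K : Type*} [Field K] [IsAlgClosed K]

/-- a stabiliser without parabolic elements is cyclic -/
theorem exists_generator_stab (H : Subgroup (SpecialLinearGroup (Fin 2) K)) [Finite H]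
    (hH : -1 ∈ H) (y : ℙ K (Fin 2 → K)) (hN2 : N2 H y = 0) :
    ∃ c ∈ stabIn H y, orderOf c = Nat.card (stabIn H y) := by
  classical
  obtain ⟨s, rfl⟩ := exists_smul_pInf y
  rw [N2_conj] at hN2
  rw [card_stabIn_conj, stabIn_pInf]
  set H' := cj s H with hH'def
  have hH'' : -1 ∈ H' := neg_one_mem_cj hH
  have hAA : ∀ a : K, uS a ∈ H' → a = 0 := by
    intro a ha
    have h1 := N2_pInf_add_z H' hH''
    have h3 := card_ZP_z H' hH''
    rw [hN2, zero_add] at h1
    have hz := zc_pos K
    have h4 : Nat.card (AA H') = 1 := by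
      have : zc K * Nat.card (AA H') = zc K * 1 := by rw [← h3, ← h1, mul_one]
      exact Nat.eq_of_mul_eq_mul_left hz this
    rw [Nat.card_eq_one_iff_unique] at h4
    obtain ⟨hsub, _⟩ := h4
    have := hsub.elim (⟨a, ha⟩ : AA H') 0
    exact congrArg Subtype.val this
  let χ : GB H' →* K :=
    { toFun := fun g => (g : SpecialLinearGroup (Fin 2) K) 0 0
      map_one' := by simp
      map_mul' := by
        intro g h
        have h10 : (h : SpecialLinearGroup (Fin 2) K) 1 0 = 0 := h.2.2
        change ((g : SpecialLinearGroup (Fin 2) K) * (h : SpecialLinearGroup (Fin 2) K)) 0 0 = _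
        rw [mul_00, h10, mul_zero, add_zero] }
  have hχ : Function.Injective χ := by
    intro g h hgh
    have hg10 : (g : SpecialLinearGroup (Fin 2) K) 1 0 = 0 := g.2.2
    have hh10 : (h : SpecialLinearGroup (Fin 2) K) 1 0 = 0 := h.2.2
    have hgh' : (g : SpecialLinearGroup (Fin 2) K) 0 0 = (h : SpecialLinearGroup (Fin 2) K) 0 0 := hgh
    have hdg := diag_mul_of_tri _ hg10
    set u := (g : SpecialLinearGroup (Fin 2) K)⁻¹ * (h : SpecialLinearGroup (Fin 2) K) with hu
    have hu10 : u 1 0 = 0 := by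
      rw [hu, mul_10, inv_10, inv_11, hg10, hh10]; ring
    have hu00 : u 0 0 = 1 := by
      rw [hu, mul_00, inv_00, inv_01, hh10, mul_zero, add_zero, ← hgh', mul_comm]
      exact hdg
    have huH : u ∈ H' := H'.mul_mem (H'.inv_mem g.2.1) h.2.1
    have hu' := eq_uS_of u hu10 hu00
    have h0 := hAA (u 0 1) (by rw [← hu']; exact huH)
    rw [h0, uS_zero] at hu'
    apply Subtype.ext
    have : (g : SpecialLinearGroup (Fin 2) K) * u = (h : SpecialLinearGroup (Fin 2) K) := by
      rw [hu]; group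
    rw [← this, hu', mul_one]
  haveI : IsCyclic (GB H') := isCyclic_of_injective_ringHom χ hχ
  obtain ⟨g₀, hg₀⟩ := IsCyclic.exists_generator (α := GB H')
  have hord : orderOf g₀ = Nat.card (GB H') := orderOf_eq_card_of_forall_mem_zpowers hg₀
  refine ⟨s * (g₀ : SpecialLinearGroup (Fin 2) K) * s⁻¹, ?_, ?_⟩
  · rw [mem_stabIn]
    refine ⟨g₀.2.1, ?_⟩
    rw [mul_smul, mul_smul, inv_smul_smul, smul_pInf_of_eq _ g₀.2.2]
  · rw [← hord, ← Subgroup.orderOf_coe g₀]
    have := orderOf_injective (MulAut.conj s).toMonoidHom (MulAut.conj s).injective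
      (g₀ : SpecialLinearGroup (Fin 2) K)
    simpa [MulAut.conj_apply] using this

end general

variable {F : Type*} [Field F] [Fintype F]

/-- the diagonal embedding -/
def dHom (F : Type*) [Field F] : Fˣ →* SpecialLinearGroup (Fin 2) F where
  toFun u := dS (u : F) u.ne_zero
  map_one' := by apply sl_ext' <;> simp
  map_mul' u v := by
    apply sl_ext' <;> simp [mul_00, mul_01, mul_10, mul_11, mul_comm]

theorem dHom_injective : Function.Injective (dHom F) := by
  intro u v h
  have := congrArg (fun g : SpecialLinearGroup (Fin 2) F => g 0 0) h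
  simp only [dHom, MonoidHom.coe_mk, OneHom.coe_mk, dS_00] at this
  exact Units.ext this

theorem exists_split_gen : ∃ c₀ : SpecialLinearGroup (Fin 2) F,
    orderOf c₀ = Fintype.card F - 1 ∧ c₀ 1 0 = 0 ∧ c₀ 0 1 = 0 := by
  obtain ⟨u, hu⟩ := IsCyclic.exists_generator (α := Fˣ)
  refine ⟨dHom F u, ?_, rfl, rfl⟩
  rw [orderOf_injective (dHom F) dHom_injective, orderOf_eq_card_of_forall_mem_zpowers hu,
    Nat.card_units, Nat.card_eq_fintype_card]

variable {K : Type*} [Field K] [Algebra F K] [IsAlgClosed K]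

theorem split_data : ∃ c₀ g₀ : SpecialLinearGroup (Fin 2) F,
    orderOf c₀ = Fintype.card F - 1 ∧
    iota F K c₀ • (pInf : ℙ K (Fin 2 → K)) = pInf ∧ iota F K c₀ • (pt 0 : ℙ K (Fin 2 → K)) = pt 0 ∧
    iota F K g₀ • (pInf : ℙ K (Fin 2 → K)) = pt 0 ∧ iota F K g₀ • (pt 0 : ℙ K (Fin 2 → K)) = pInf := by
  obtain ⟨c₀, hord, h10, h01⟩ := exists_split_gen (F := F)
  refine ⟨c₀, wS 0, hord, ?_, ?_, ?_, ?_⟩
  · rw [fixed_pInf_iff, iota_apply, h10, map_zero]
  · rw [fixed_pt_zero_iff, iota_apply, h01, map_zero]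
  · rw [iota_wS, map_zero, wS_smul_pInf]
  · rw [iota_wS, map_zero]
    apply smul_pt_of_eq
    simp

end Cfsg.Agent.helper4.Dn
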