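import Mathlib
import Cfsg.Agent.Lib_helper4_DnN

set_option autoImplicit false
set_option linter.unusedSectionVars false
set_option maxHeartbeats 1600000

/-!
# The nonsplit torus of `SL₂(F)`
-/

namespace Cfsg.Agent.helper4.Dn

open Matrix
open scoped LinearAlgebra.Projectivization MatrixGroups
open Cfsg.Agent.helper4.Dk

variable {F : Type*} [Field F] [Fintype F] {K : Type*} [Field K] [Algebra F K]

theorem GB_map (Ht : Subgroup (SpecialLinearGroup (Fin 2) F)) :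
    GB (Ht.map (iota F K)) = (GB Ht).map (iota F K) := by
  ext g
  constructor
  · rintro ⟨⟨g₁, hg₁, rfl⟩, h10⟩
    refine ⟨g₁, ⟨hg₁, ?_⟩, rfl⟩
    rw [iota_apply] at h10
    apply (algebraMap F K).injective
    rw [h10, map_zero]
  · rintro ⟨g₁, ⟨hg₁, h10⟩, rfl⟩
    refine ⟨Subgroup.mem_map_of_mem _ hg₁, ?_⟩
    rw [iota_apply, h10, map_zero]

variable [IsAlgClosed K]

theorem nonsplit_data : ∃ (y y' : ℙ K (Fin 2 → K)) (c₀ g₀ : SpecialLinearGroup (Fin 2) F),
    y ≠ y' ∧ orderOf c₀ = Fintype.card F + 1 ∧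
    iota F K c₀ • y = y ∧ iota F K c₀ • y' = y' ∧
    iota F K g₀ • y = y' ∧ iota F K g₀ • y' = y := by
  classical
  obtain ⟨q, hqdef⟩ : ∃ q, q = Fintype.card F := ⟨_, rfl⟩
  have hq2 : 2 ≤ q := hqdef ▸ Fintype.one_lt_card
  set H := (⊤ : Subgroup (SpecialLinearGroup (Fin 2) F)).map (iota F K) with hHdef
  have hH' : -1 ∈ H := neg_one_mem_map (Subgroup.mem_top _)
  have ha : uS (1 : K) ∈ H := by
    have : iota F K (uS 1) = uS 1 := by rw [iota_uS, map_one]
    rw [← this]; exact Subgroup.mem_map_of_mem _ (Subgroup.mem_top _)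
  have hmove : ∃ g ∈ H, g • (pInf : ℙ K (Fin 2 → K)) ≠ pInf := by
    refine ⟨iota F K (wS 0), Subgroup.mem_map_of_mem _ (Subgroup.mem_top _), ?_⟩
    rw [iota_wS, map_zero, wS_smul_pInf]
    exact pt_ne_pInf 0
  obtain ⟨y₁, s, c, k, hy₁O, hs2, hc1, hk1, hstab, hYeq, hN2, hGB, hcq, hn, heq, hcard, hcases⟩ :=
    structure_z H hH' ha one_ne_zero hmove
  obtain ⟨q₁, hq₁⟩ : ∃ q₁, q₁ = Nat.card (AA H) := ⟨_, rfl⟩
  obtain ⟨n, hndef⟩ : ∃ n, n = (orb H pInf).ncard := ⟨_, rfl⟩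
  obtain ⟨z, hz⟩ : ∃ z, z = zc K := ⟨_, rfl⟩
  simp only [← hq₁, ← hndef, ← hz] at hstab hGB hcq hn heq hcard hcases
  have hz12 : z = 1 ∨ z = 2 := by
    rcases zc_cases K with ⟨h, _⟩ | ⟨h, _⟩ <;> omega
  have hq₁2 : 2 ≤ q₁ := hq₁ ▸ two_le_card_AA H ha one_ne_zero
  -- cardinalities
  have hGBc : z * q₁ * c = (q - 1) * q := by
    rw [← hGB, hHdef, GB_map, Subgroup.card_map_of_injective iota_injective, card_GB_top, hqdef]
  have hHc : z * (n * q₁ * c) = q * (q ^ 2 - 1) := by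
    rw [← hcard, hHdef, card_map_iota, Subgroup.card_top, Cfsg.Agent.helper12.card_SL2, hqdef]
  obtain ⟨m, rfl⟩ : ∃ m, q = m + 2 := ⟨q - 2, by omega⟩
  have e1 : m + 2 - 1 = m + 1 := by omega
  have e2 : (m + 2) ^ 2 - 1 = (m + 1) * (m + 3) := by
    have : (m + 2) ^ 2 = (m + 1) * (m + 3) + 1 := by ring
    omega
  rw [e1] at hGBc
  rw [e2] at hHc
  have hn3 : n = m + 3 := by
    have h1 : n * ((m + 1) * (m + 2)) = (m + 3) * ((m + 1) * (m + 2)) := by
      calc n * ((m + 1) * (m + 2)) = z * (n * q₁ * c) := by rw [← hGBc]; ring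
        _ = (m + 2) * ((m + 1) * (m + 3)) := hHc
        _ = (m + 3) * ((m + 1) * (m + 2)) := by ring
    exact Nat.eq_of_mul_eq_mul_right (by positivity) h1
  have hkq : k * q₁ = m + 2 := by omega
  have hq₁q : q₁ = m + 2 := by
    rcases hcases with h | h | ⟨h3, hk3, hc2, hs5⟩
    · rw [h] at hcq hGBc hkq
      have hc1' : c = 1 := by omega
      rw [hc1'] at hGBc
      have : (m + 1) * (m + 2) ≤ 4 := by
        rw [← hGBc]; rcases hz12 with rfl | rfl <;> omega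
      have hm0 : m = 0 := by
        by_contra hne
        have : 1 ≤ m := by omega
        nlinarith
      omega
    · rw [h, one_mul] at hkq; exact hkq
    · exfalso
      rw [h3, hk3] at hkq
      have hm7 : m = 7 := by omega
      rw [h3, hc2, hm7] at hGBc
      rcases hz12 with rfl | rfl <;> omega
  rw [hq₁q] at hGBc heq
  have hzc : z * c = m + 1 := by
    have : (m + 2) * (z * c) = (m + 2) * (m + 1) := by
      calc (m + 2) * (z * c) = z * (m + 2) * c := by ring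
        _ = (m + 1) * (m + 2) := hGBc
        _ = (m + 2) * (m + 1) := by ring
    exact Nat.eq_of_mul_eq_mul_left (by omega) this
  have hzs : z * s = m + 3 := by
    rw [hn3] at heq
    have e0 : m + 2 - 2 = m := by omega
    rw [e0] at heq
    have e3 : 2 + (m + 3) * m = (m + 2) * (m + 1) := by ring
    rw [e3] at heq
    have h4 : (m + 3) * c = s * (m + 1) := by
      have : (m + 2) * ((m + 3) * c) = (m + 2) * (s * (m + 1)) := by
        calc (m + 2) * ((m + 3) * c) = (m + 3) * (m + 2) * c := by ring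
          _ = s * ((m + 2) * (m + 1)) := heq
          _ = (m + 2) * (s * (m + 1)) := by ring
      exact Nat.eq_of_mul_eq_mul_left (by omega) this
    have : (m + 1) * (z * s) = (m + 1) * (m + 3) := by
      calc (m + 1) * (z * s) = z * (s * (m + 1)) := by ring
        _ = z * ((m + 3) * c) := by rw [h4]
        _ = (m + 3) * (z * c) := by ring
        _ = (m + 1) * (m + 3) := by rw [hzc]; ring
    exact Nat.eq_of_mul_eq_mul_left (by omega) this
  rw [hzs] at hstab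
  -- generator of the stabiliser
  obtain ⟨c', hc'S, hc'ord⟩ := exists_generator_stab H hH' y₁ hN2
  rw [hstab] at hc'ord
  obtain ⟨hc'H, hc'y⟩ := mem_stabIn.mp hc'S
  obtain ⟨c₀, -, hc₀⟩ := hc'H
  have hc₀ord : orderOf c₀ = m + 3 := by
    rw [← orderOf_injective (iota F K) iota_injective, hc₀, hc'ord]
  have hc'1 : c' ≠ 1 := by
    intro h; rw [h, orderOf_one] at hc'ord; omega
  have hc'2 : c' ≠ -1 := by
    intro h
    have : c' ^ 2 = 1 := by rw [h]; simp
    have := Nat.le_of_dvd (by norm_num) (orderOf_dvd_of_pow_eq_one this)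
    omega
  -- not parabolic
  have htr : tr c' ^ 2 ≠ 4 := by
    intro h4
    unfold N2 at hN2
    have hfin : {g : SpecialLinearGroup (Fin 2) K | g ∈ H ∧ g ≠ 1 ∧ g ≠ -1 ∧ tr g ^ 2 = 4 ∧
        g • y₁ = y₁}.Finite :=
      (nonscalar_finite H).subset (fun g hg => ⟨hg.1, hg.2.1, hg.2.2.1⟩)
    rw [Set.ncard_eq_zero hfin] at hN2
    have hmem : c' ∈ ({g : SpecialLinearGroup (Fin 2) K | g ∈ H ∧ g ≠ 1 ∧ g ≠ -1 ∧ tr g ^ 2 = 4 ∧
        g • y₁ = y₁}) := ⟨mem_stabIn.mp hc'S |>.1, hc'1, hc'2, h4, hc'y⟩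
    rw [hN2] at hmem
    exact hmem
  have hfix2 := (ncard_fix' c' hc'1 hc'2).2 htr
  obtain ⟨u, v, huv, hfix⟩ := Set.ncard_eq_two.mp hfix2
  have hy₁mem : y₁ ∈ ({u, v} : Set (ℙ K (Fin 2 → K))) := by rw [← hfix]; exact hc'y
  -- the other fixed point
  obtain ⟨y₁', hy₁ne, hc'y'⟩ : ∃ y₁', y₁ ≠ y₁' ∧ c' • y₁' = y₁' := by
    simp only [Set.mem_insert_iff, Set.mem_singleton_iff] at hy₁mem
    rcases hy₁mem with rfl | rfl
    · refine ⟨v, huv, ?_⟩
      have : v ∈ ({y₁, v} : Set (ℙ K (Fin 2 → K))) := by simp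
      rw [← hfix] at this; exact this
    · refine ⟨u, Ne.symm huv, ?_⟩
      have : u ∈ ({u, y₁} : Set (ℙ K (Fin 2 → K))) := by simp
      rw [← hfix] at this; exact this
  have hc'H' : c' ∈ H := (mem_stabIn.mp hc'S).1
  -- `y₁'` lies in the orbit of `y₁`
  have hy₁'Y : y₁' ∈ YY H := ⟨c', hc'H', hc'1, hc'2, hc'y'⟩
  have hy₁'O : y₁' ∈ orb H y₁ := by
    rw [hYeq] at hy₁'Y
    rcases hy₁'Y with h | h
    · exfalso
      have hcs := card_stabIn_of_mem_orb H h
      rw [hGB, hq₁q, hGBc] at hcs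
      have hmem : c' ∈ stabIn H y₁' := mem_stabIn.mpr ⟨hc'H', hc'y'⟩
      have h1 := orderOf_dvd_natCard (⟨c', hmem⟩ : stabIn H y₁')
      rw [Subgroup.orderOf_mk, hc'ord, hcs] at h1
      -- (m+3) ∣ (m+1)(m+2)
      have h2 : (m + 1) * (m + 2) = (m + 3) * m + 2 := by ring
      rw [h2] at h1
      have h3 : (m + 3) ∣ 2 := (Nat.dvd_add_right (dvd_mul_right _ _)).mp h1
      have := Nat.le_of_dvd (by norm_num) h3
      omega
    · exact h
  obtain ⟨g, hgH, hgy⟩ := hy₁'O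
  obtain ⟨g₀, -, hg₀⟩ := hgH
  -- stabilisers
  have hzp : ∀ w, c' • w = w → Nat.card (stabIn H w) = m + 3 → ∀ x ∈ stabIn H w, x ∈ Subgroup.zpowers c' := by
    intro w hw hcw x hx
    have hle : Subgroup.zpowers c' ≤ stabIn H w := by
      rw [Subgroup.zpowers_le]; exact mem_stabIn.mpr ⟨hc'H', hw⟩
    have : Subgroup.zpowers c' = stabIn H w := by
      apply Subgroup.eq_of_le_of_card_ge hle
      rw [Nat.card_zpowers, hc'ord, hcw]
    rw [this]; exact hx
  have hcs' : Nat.card (stabIn H y₁') = m + 3 := by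
    rw [← hgy, card_stabIn_conj, cj_eq_of_mem (Subgroup.mem_map_of_mem _ (Subgroup.mem_top g₀) |> fun h => hg₀ ▸ h), hstab]
  have hgswap : g • y₁' = y₁ := by
    -- `g c' g⁻¹` fixes `y₁'` hence is a power of `c'`, hence fixes `y₁`
    have hgH' : g ∈ H := hg₀ ▸ Subgroup.mem_map_of_mem _ (Subgroup.mem_top g₀)
    have h1 : g * c' * g⁻¹ ∈ stabIn H y₁' := by
      rw [mem_stabIn]
      refine ⟨H.mul_mem (H.mul_mem hgH' hc'H') (H.inv_mem hgH'), ?_⟩
      rw [mul_smul, mul_smul, ← hgy, inv_smul_smul, hc'y]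
    have h2 := hzp y₁' hc'y' hcs' _ h1
    obtain ⟨j, hj⟩ := Subgroup.mem_zpowers_iff.mp h2
    have hpowfix : ∀ j : ℤ, (c' ^ j) • y₁ = y₁ := by
      have hn' : ∀ n : ℕ, (c' ^ n) • y₁ = y₁ := by
        intro n
        induction n with
        | zero => simp
        | succ n ih => rw [pow_succ, mul_smul, hc'y, ih]
      intro j
      rcases Int.eq_nat_or_neg j with ⟨n, rfl | rfl⟩
      · rw [zpow_natCast]; exact hn' n
      · rw [_root_.zpow_neg, zpow_natCast, inv_smul_eq_iff, hn' n]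
    have h3 : (g * c' * g⁻¹) • y₁ = y₁ := by rw [← hj]; exact hpowfix j
    rw [mul_smul, mul_smul] at h3
    have h4 : c' • (g⁻¹ • y₁) = g⁻¹ • y₁ := by
      have := congrArg (fun w => g⁻¹ • w) h3
      simpa using this
    rcases fix_sub hc'1 hc'2 hy₁ne hc'y hc'y' h4 with h | h
    · exfalso
      have : g • y₁ = y₁ := by rw [← h, smul_inv_smul, h]
      exact hy₁ne (this.symm.trans hgy)
    · rw [← h, smul_inv_smul]
  refine ⟨y₁, y₁', c₀, g₀, hy₁ne, ?_, ?_, ?_, ?_, ?_⟩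
  · rw [hc₀ord, ← hqdef]
  · rw [hc₀]; exact hc'y
  · rw [hc₀]; exact hc'y'
  · rw [hg₀]; exact hgy
  · rw [hg₀]; exact hgswap

end Cfsg.Agent.helper4.Dn
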