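import Mathlib
import Cfsg.Agent.Lib_helper4_DnO

set_option autoImplicit false
set_option linter.unusedSectionVars false
set_option maxHeartbeats 1600000

/-!
# The case `q = 3` of the dihedral subgroup of order `2(q+1)/d`
-/

namespace Cfsg.Agent.helper4.Dn

open Matrix
open scoped LinearAlgebra.Projectivization MatrixGroups
open Cfsg.Agent.helper4.Dk

variable {F : Type*} [Field F] [Fintype F]
variable {K : Type*} [Field K] [Algebra F K] [IsAlgClosed K]

theorem coatom_dihedral_three (hq3 : Fintype.card F = 3) {y y' : ℙ K (Fin 2 → K)} (hyy : y ≠ y')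
    {c₀ g₀ : SpecialLinearGroup (Fin 2) F} (hcord : orderOf c₀ = 4)
    (hcy : iota F K c₀ • y = y) (hcy' : iota F K c₀ • y' = y')
    (hgy : iota F K g₀ • y = y') (hgy' : iota F K g₀ • y' = y) :
    ∃ D : Subgroup (Matrix.ProjectiveSpecialLinearGroup (Fin 2) F), IsCoatom D ∧
      Nonempty (D ≃* DihedralGroup (4 / Nat.gcd 2 (Fintype.card F - 1))) := by
  classical
  have he3 : 3 ≤ 4 := by norm_num
  have hpar : (2 : F) ≠ 0 → 2 ∣ 4 := fun _ => by norm_num
  have hg0sq : g₀ * g₀ = -1 := by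
    apply iota_injective (K := K)
    rw [map_mul, iota_neg_one]
    exact swap_sq hyy hgy hgy'
  have hgc_y : iota F K (g₀ * c₀) • y = y' := by rw [map_mul, mul_smul, hcy, hgy]
  have hgc_y' : iota F K (g₀ * c₀) • y' = y := by rw [map_mul, mul_smul, hcy', hgy']
  have hgcsq : (g₀ * c₀) * (g₀ * c₀) = -1 := by
    apply iota_injective (K := K)
    rw [map_mul (iota F K) (g₀ * c₀), iota_neg_one]
    exact swap_sq hyy hgc_y hgc_y'
  have hconj : g₀ * c₀ * g₀⁻¹ = c₀⁻¹ := by
    apply iota_injective (K := K)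
    rw [map_mul, map_mul, map_inv, map_inv]
    exact swap_conj hyy hgy hgy' hcy hcy'
  set x := piF F (g₀ * c₀) with hx
  set w := piF F g₀ with hw
  have hxx : x * x = 1 := by rw [hx, ← map_mul, hgcsq, piF_neg_one]
  have hww : w * w = 1 := by rw [hw, ← map_mul, hg0sq, piF_neg_one]
  have hx1 : x ≠ 1 := iota_smul_ne (K := K) _ hyy hgc_y
  have hw1 : w ≠ 1 := iota_smul_ne (K := K) _ hyy hgy
  have hxw : x * w = (piF F c₀)⁻¹ := by
    rw [hx, hw, ← map_mul, ← map_inv]
    have : g₀ * c₀ * g₀ = c₀⁻¹ * (g₀ * g₀) := by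
      rw [← hconj]; group
    rw [this, hg0sq, map_mul, piF_neg_one, mul_one]
  have hord : orderOf (x * w) = 4 / Nat.gcd 2 (Fintype.card F - 1) := by
    rw [hxw, orderOf_inv]
    exact orderOf_piF hcord he3 hpar
  set D := Subgroup.closure ({x, w} : Set (Matrix.ProjectiveSpecialLinearGroup (Fin 2) F)) with hD
  have hiso : Nonempty (D ≃* DihedralGroup (4 / Nat.gcd 2 (Fintype.card F - 1))) := by
    have e1 := Cfsg.Agent.helper1.dihedralEquiv x w hxx hww hx1 hw1
    rw [hord] at e1
    exact ⟨e1.symm⟩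
  have hcardD : Nat.card D = 4 := by
    obtain ⟨e1⟩ := hiso
    rw [Nat.card_congr e1.toEquiv, DihedralGroup.nat_card, hq3]
    norm_num
  have hcardG : Nat.card (Matrix.ProjectiveSpecialLinearGroup (Fin 2) F) = 12 := by
    have h1 := Cfsg.Agent.helper2.card_SL_eq_card_PSL_mul (F := F) 2
    rw [Cfsg.Agent.helper12.card_SL2, Cfsg.Agent.helper2.card_center_SL 2 (by norm_num), hq3] at h1
    have h2 : (3 * (3 ^ 2 - 1) : ℕ) = 24 := by norm_num
    have h3 : Nat.gcd (3 - 1) 2 = 2 := by norm_num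
    rw [h2, h3] at h1
    omega
  refine ⟨D, ⟨?_, ?_⟩, hiso⟩
  · intro htop
    rw [htop, Subgroup.card_top, hcardG] at hcardD
    omega
  · intro Mb hDM
    have h1 : Nat.card D ∣ Nat.card Mb := Subgroup.card_dvd_of_le hDM.le
    have h2 : Nat.card Mb ∣ 12 := by
      rw [← hcardG]; exact Subgroup.card_subgroup_dvd_card Mb
    have h3 : Nat.card Mb ≠ 4 := by
      intro h
      apply hDM.ne
      exact Subgroup.eq_of_le_of_card_ge hDM.le (by rw [h, hcardD])
    rw [hcardD] at h1
    have h4 : Nat.card Mb = 12 := by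
      have hle : Nat.card Mb ≤ 12 := Nat.le_of_dvd (by norm_num) h2
      have hpos : 0 < Nat.card Mb := Nat.card_pos
      obtain ⟨j, hj⟩ := h1
      have hj3 : j ≤ 3 := by omega
      interval_cases j
      · omega
      · omega
      · rw [hj] at h2; norm_num at h2
      · omega
    apply Subgroup.eq_top_of_card_eq
    rw [h4, hcardG]

end Cfsg.Agent.helper4.Dn
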