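import Mathlib
import Cfsg.Agent.Lib_helper4_DnP

set_option autoImplicit false
set_option linter.unusedSectionVars false
set_option maxHeartbeats 1600000

/-!
# Subfield subgroups of `SL₂(F)`: numerics (odd characteristic)
-/

namespace Cfsg.Agent.helper4.Dn

open Matrix
open scoped LinearAlgebra.Projectivization MatrixGroups
open Cfsg.Agent.helper4.Dk

theorem x_cube_id (x : ℕ) (hx : 1 ≤ x) : (x + 1) * x * (x - 1) = x * (x ^ 2 - 1) := by
  obtain ⟨y, rfl⟩ : ∃ y, x = y + 1 := ⟨x - 1, by omega⟩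
  have h1 : (y + 1) ^ 2 - 1 = y * (y + 2) := by
    have : (y + 1) ^ 2 = y * (y + 2) + 1 := by ring
    omega
  rw [h1, Nat.add_sub_cancel]
  ring

/-- Par data in odd characteristic -/
theorem par_odd {q q₁ c k s n N : ℕ} (hq : Odd q) (h : Par q 2 q₁ c k s n N) :
    (q₁ = 3 ∧ N = 120 ∧ (10 ∣ q - 1 ∨ 10 ∣ q + 1)) ∨
    (3 ≤ q₁ ∧ q₁ ∣ q ∧ N = (q₁ + 1) * q₁ * (q₁ - 1) ∧ (q₁ + 1 ∣ q - 1 ∨ q₁ + 1 ∣ q + 1)) ∨
    (3 ≤ q₁ ∧ q₁ ∣ q ∧ N = 2 * ((q₁ + 1) * q₁ * (q₁ - 1)) ∧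
      (2 * (q₁ + 1) ∣ q - 1 ∨ 2 * (q₁ + 1) ∣ q + 1)) := by
  obtain ⟨h2, hdvd, hc1, hcq, hs2, hk1, hn, heq, hN, hzs, hcases⟩ := h
  have hodd : Odd q₁ := Odd.of_dvd_nat hq hdvd
  obtain ⟨t, ht⟩ := hodd
  obtain ⟨u, rfl⟩ : ∃ u, t = u + 1 := ⟨t - 1, by omega⟩
  rcases hcases with h | h | ⟨h3, hk3, hc2, hs5⟩
  · omega
  · subst h
    subst ht
    right
    have e1 : 2 * (u + 1) + 1 - 2 = 2 * u + 1 := by omega
    rw [e1] at heq
    subst hn
    have h3 : (u + 2) * c = s * (u + 1) := by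
      have : (2 * (2 * u + 3)) * ((u + 2) * c) = (2 * (2 * u + 3)) * (s * (u + 1)) := by
        calc (2 * (2 * u + 3)) * ((u + 2) * c)
            = (1 + 1 * (2 * (u + 1) + 1)) * (2 * (u + 1) + 1) * c := by ring
          _ = s * (2 + (1 + 1 * (2 * (u + 1) + 1)) * (2 * u + 1)) := heq
          _ = (2 * (2 * u + 3)) * (s * (u + 1)) := by ring
      exact Nat.eq_of_mul_eq_mul_left (by omega) this
    have hcop : Nat.Coprime (u + 1) (u + 2) := by
      rw [Nat.coprime_iff_gcd_eq_one]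
      have : u + 2 = (u + 1) + 1 := by ring
      rw [this]
      simp
    have hdc : (u + 1) ∣ c := by
      apply hcop.dvd_of_dvd_mul_left
      rw [h3]
      exact dvd_mul_left _ _
    obtain ⟨j, hj⟩ := hdc
    have hj1 : j = 1 ∨ j = 2 := by
      have h1 : 1 ≤ j := by
        rcases Nat.eq_zero_or_pos j with h0 | h0
        · rw [h0, mul_zero] at hj; omega
        · exact h0
      have h2 : j ≤ 2 := by
        by_contra hlt
        push Not at hlt
        have : (u + 1) * 3 ≤ (u + 1) * j := Nat.mul_le_mul_left _ hlt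
        omega
      omega
    have e2 : 2 * (u + 1) + 1 - 1 = 2 * (u + 1) := by omega
    rcases hj1 with rfl | rfl
    · left
      rw [mul_one] at hj
      subst hj
      have hs : s = u + 2 := by
        have : (u + 1) * s = (u + 1) * (u + 2) := by
          calc (u + 1) * s = s * (u + 1) := by ring
            _ = (u + 2) * (u + 1) := h3.symm
            _ = (u + 1) * (u + 2) := by ring
        exact Nat.eq_of_mul_eq_mul_left (by omega) this
      subst hs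
      refine ⟨by omega, hdvd, ?_, ?_⟩
      · rw [hN, e2]; ring
      · have : 2 * (u + 1) + 1 + 1 = 2 * (u + 2) := by ring
        rw [this]; exact hzs
    · right
      subst hj
      have hs : s = 2 * (u + 2) := by
        have : (u + 1) * s = (u + 1) * (2 * (u + 2)) := by
          calc (u + 1) * s = s * (u + 1) := by ring
            _ = (u + 2) * ((u + 1) * 2) := h3.symm
            _ = (u + 1) * (2 * (u + 2)) := by ring
        exact Nat.eq_of_mul_eq_mul_left (by omega) this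
      subst hs
      refine ⟨by omega, hdvd, ?_, ?_⟩
      · rw [hN, e2]; ring
      · have : 2 * (2 * (u + 1) + 1 + 1) = 2 * (2 * (u + 2)) := by ring
        rw [this]; exact hzs
  · left
    subst h3 hk3 hc2 hs5
    refine ⟨rfl, ?_, ?_⟩
    · rw [hN, hn]
    · exact hzs

theorem mod_lemma {x r : ℕ} (hx : Odd x) (hx3 : 3 ≤ x) (hr : Odd r) :
    ¬ (2 * (x + 1) ∣ x ^ r - 1) ∧ ¬ (2 * (x + 1) ∣ x ^ r + 1) := by
  obtain ⟨t, rfl⟩ := hx
  obtain ⟨j, rfl⟩ := hr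
  have h1 : (2 * t + 1) ^ 2 ≡ 1 [MOD 2 * (2 * t + 1 + 1)] := by
    have : (2 * t + 1) ^ 2 = 1 + 2 * (2 * t + 1 + 1) * t := by ring
    rw [this]
    show (1 + 2 * (2 * t + 1 + 1) * t) % (2 * (2 * t + 1 + 1)) = 1 % (2 * (2 * t + 1 + 1))
    exact Nat.add_mul_mod_self_left _ _ _
  have h2 : (2 * t + 1) ^ (2 * j + 1) ≡ 2 * t + 1 [MOD 2 * (2 * t + 1 + 1)] := by
    have := (h1.pow j).mul_right (2 * t + 1)
    rw [one_pow, one_mul, ← pow_mul, ← pow_succ] at this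
    exact this
  have h3 : (2 * t + 1) ^ (2 * j + 1) % (2 * (2 * t + 1 + 1)) = 2 * t + 1 := by
    rw [h2]
    exact Nat.mod_eq_of_lt (by omega)
  have h4 := Nat.mod_add_div ((2 * t + 1) ^ (2 * j + 1)) (2 * (2 * t + 1 + 1))
  rw [h3] at h4
  constructor
  · intro hd
    rw [← h4] at hd
    have e : 2 * t + 1 + 2 * (2 * t + 1 + 1) * ((2 * t + 1) ^ (2 * j + 1) / (2 * (2 * t + 1 + 1))) - 1
        = 2 * (2 * t + 1 + 1) * ((2 * t + 1) ^ (2 * j + 1) / (2 * (2 * t + 1 + 1))) + 2 * t := by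
      omega
    rw [e] at hd
    have := (Nat.dvd_add_right (dvd_mul_right _ _)).mp hd
    have := Nat.le_of_dvd (by omega) this
    omega
  · intro hd
    rw [← h4] at hd
    have e : 2 * t + 1 + 2 * (2 * t + 1 + 1) * ((2 * t + 1) ^ (2 * j + 1) / (2 * (2 * t + 1 + 1))) + 1
        = 2 * (2 * t + 1 + 1) * ((2 * t + 1) ^ (2 * j + 1) / (2 * (2 * t + 1 + 1))) + (2 * t + 2) := by
      omega
    rw [e] at hd
    have := (Nat.dvd_add_right (dvd_mul_right _ _)).mp hd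
    have := Nat.le_of_dvd (by omega) this
    omega

theorem three_pow_mod {r : ℕ} (hr : Odd r) : 3 ^ r % 10 = 3 ∨ 3 ^ r % 10 = 7 := by
  obtain ⟨j, rfl⟩ := hr
  have h9 : ∀ j : ℕ, 9 ^ j % 10 = 1 ∨ 9 ^ j % 10 = 9 := by
    intro j
    induction j with
    | zero => left; norm_num
    | succ j ih =>
      rw [pow_succ, Nat.mul_mod]
      rcases ih with h | h <;> rw [h] <;> norm_num
  have : 3 ^ (2 * j + 1) = 9 ^ j * 3 := by
    rw [pow_succ, pow_mul]; norm_num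
  rw [this, Nat.mul_mod]
  rcases h9 j with h | h <;> rw [h] <;> norm_num

/-- `x^m - 1 ∣ 2 (x^n - 1)` forces `m ∣ n` -/
theorem dvd_of_pow_sub_one_dvd_two {x m n : ℕ} (hx : 2 ≤ x) (hm : 1 ≤ m) (hn : 1 ≤ n)
    (h : x ^ m - 1 ∣ 2 * (x ^ n - 1)) : m ∣ n := by
  set g := Nat.gcd m n with hg
  have hgm : g ∣ m := Nat.gcd_dvd_left m n
  have hgn : g ∣ n := Nat.gcd_dvd_right m n
  have hgpos : 1 ≤ g := Nat.gcd_pos_of_pos_left _ hm
  have h1 : x ^ m - 1 ∣ 2 * (x ^ g - 1) := by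
    have := Nat.dvd_gcd (dvd_mul_left (x ^ m - 1) 2) h
    rw [Nat.gcd_mul_left, Nat.pow_sub_one_gcd_pow_sub_one] at this
    exact this
  by_contra hmn
  have hgne : g ≠ m := by
    intro hgm'
    apply hmn
    rw [← hgm']; exact hgn
  obtain ⟨j, hj⟩ := hgm
  have hj2 : 2 ≤ j := by
    rcases Nat.lt_or_ge j 2 with hlt | hge
    · exfalso
      interval_cases j
      · omega
      · apply hgne; omega
    · exact hge
  have hxg : 2 ≤ x ^ g := by
    calc 2 ≤ x := hx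
      _ = x ^ 1 := (pow_one x).symm
      _ ≤ x ^ g := Nat.pow_le_pow_right (by omega) hgpos
  have hpos : 0 < 2 * (x ^ g - 1) := by omega
  have hle := Nat.le_of_dvd hpos h1
  have hxm : x ^ m = (x ^ g) ^ j := by rw [hj, pow_mul]
  have hsq : (x ^ g) ^ 2 ≤ (x ^ g) ^ j := Nat.pow_le_pow_right (by omega) hj2
  rw [hxm] at hle
  obtain ⟨Y, hY⟩ : ∃ Y, Y = x ^ g := ⟨_, rfl⟩
  rw [← hY] at hle hsq hxg
  have h2Y : 2 * Y ≤ Y ^ 2 := by nlinarith
  omega

/-- common part of the subfield numerics -/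
theorem sub_common {p b m q₁ : ℕ} (hp : p.Prime) (hb : 1 ≤ b)
    (hq₁ : q₁ ∣ (p ^ b) ^ m) (h3 : 3 ≤ q₁)
    (hs : q₁ + 1 ∣ (p ^ b) ^ m - 1 ∨ q₁ + 1 ∣ (p ^ b) ^ m + 1)
    (hd : p ^ b * ((p ^ b) ^ 2 - 1) ∣ 2 * ((q₁ + 1) * q₁ * (q₁ - 1))) :
    ∃ a, q₁ = p ^ a ∧ a ∣ b * m ∧ b ∣ a := by
  rw [← pow_mul] at hq₁ hs
  obtain ⟨a, ha_le, rfl⟩ := (Nat.dvd_prime_pow hp).mp hq₁
  have ha1 : 1 ≤ a := by
    rcases Nat.eq_zero_or_pos a with h0 | h0
    · rw [h0, pow_zero] at h3; omega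
    · exact h0
  have hp2 := hp.two_le
  refine ⟨a, rfl, ?_, ?_⟩
  · apply dvd_of_pow_add_one_dvd hp2 ha1
    have hpos : 1 ≤ p ^ (b * m) := Nat.one_le_pow _ _ (by omega)
    have e : p ^ (2 * (b * m)) - 1 = (p ^ (b * m) - 1) * (p ^ (b * m) + 1) := by
      obtain ⟨Y, hY⟩ : ∃ Y, p ^ (b * m) = Y + 1 := ⟨p ^ (b * m) - 1, by omega⟩
      rw [mul_comm 2, pow_mul, hY]
      have : (Y + 1) ^ 2 = Y * (Y + 1 + 1) + 1 := by ring
      rw [this]
      simp
    rw [e]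
    rcases hs with h | h
    · exact h.mul_right _
    · exact h.mul_left _
  · have hpa1 : 1 ≤ p ^ a := Nat.one_le_pow _ _ (by omega)
    rw [x_cube_id _ hpa1] at hd
    have e1 : (p ^ b) ^ 2 = p ^ (2 * b) := by rw [← pow_mul, mul_comm]
    have e2 : (p ^ a) ^ 2 = p ^ (2 * a) := by rw [← pow_mul, mul_comm]
    rw [e1, e2] at hd
    have h1 : p ^ (2 * b) - 1 ∣ p ^ a * (2 * (p ^ (2 * a) - 1)) := by
      have : 2 * (p ^ a * (p ^ (2 * a) - 1)) = p ^ a * (2 * (p ^ (2 * a) - 1)) := by ring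
      rw [← this]
      exact (dvd_mul_left _ _).trans hd
    have hcop : Nat.Coprime (p ^ (2 * b) - 1) (p ^ a) := by
      apply Nat.Coprime.pow_right
      rw [Nat.coprime_comm, Nat.Prime.coprime_iff_not_dvd hp]
      intro hdv
      have hpos : 1 ≤ p ^ (2 * b) := Nat.one_le_pow _ _ (by omega)
      have h2 : p ∣ p ^ (2 * b) := dvd_pow_self p (by omega)
      have : p ∣ 1 := by
        have := Nat.dvd_sub h2 hdv
        have e : p ^ (2 * b) - (p ^ (2 * b) - 1) = 1 := by omega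
        rwa [e] at this
      have := Nat.le_of_dvd (by norm_num) this
      omega
    have h2 := hcop.dvd_of_dvd_mul_left h1
    have := dvd_of_pow_sub_one_dvd_two hp2 (by omega) (by omega) h2
    exact (Nat.mul_dvd_mul_iff_left (by norm_num)).mp this

end Cfsg.Agent.helper4.Dn
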