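import Mathlib
import Cfsg.Agent.Lib_helper4_DnQ

set_option autoImplicit false
set_option linter.unusedSectionVars false
set_option maxHeartbeats 1600000

/-!
# Subfield subgroups of `SL₂(F)`: overgroups (odd characteristic)
-/

namespace Cfsg.Agent.helper4.Dn

open Matrix
open scoped LinearAlgebra.Projectivization MatrixGroups
open Cfsg.Agent.helper4.Dk

theorem mono_cube {x y : ℕ} (h : x ≤ y) : x * (x ^ 2 - 1) ≤ y * (y ^ 2 - 1) := by
  apply Nat.mul_le_mul h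
  have : x ^ 2 ≤ y ^ 2 := Nat.pow_le_pow_left h 2
  omega

theorem exc_p {p b m : ℕ} (hp : p.Prime) (h : 3 ∣ (p ^ b) ^ m) : p = 3 := by
  have h1 : 3 ∣ p := by
    have := Nat.prime_three.dvd_of_dvd_pow h
    exact Nat.prime_three.dvd_of_dvd_pow this
  exact ((Nat.prime_dvd_prime_iff_eq Nat.prime_three hp).mp h1).symm

/-- overgroups of `SL₂(q₀)` in `SL₂(q₀^r)`, `r` an odd prime -/
theorem num_sub_odd {p b r q₁ c k s n N : ℕ} (hp : p.Prime) (hp2 : p ≠ 2) (hb : 1 ≤ b)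
    (hr : r.Prime) (hr2 : r ≠ 2)
    (hPar : Par ((p ^ b) ^ r) 2 q₁ c k s n N) (hdvd : p ^ b * ((p ^ b) ^ 2 - 1) ∣ N)
    (hlt : p ^ b * ((p ^ b) ^ 2 - 1) < N) :
    (p ^ b) ^ r * (((p ^ b) ^ r) ^ 2 - 1) ≤ N := by
  have hpodd : Odd p := hp.odd_of_ne_two hp2
  have hqodd : Odd ((p ^ b) ^ r) := (hpodd.pow).pow
  have hrodd : Odd r := hr.odd_of_ne_two hr2
  have hp3 : 3 ≤ p := by
    have := hp.two_le
    omega
  have hq₀3 : 3 ≤ p ^ b := by
    calc 3 ≤ p := hp3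
      _ = p ^ 1 := (pow_one p).symm
      _ ≤ p ^ b := Nat.pow_le_pow_right (by omega) hb
  have key : ∀ q₁, 3 ≤ q₁ → q₁ ∣ (p ^ b) ^ r →
      (q₁ + 1 ∣ (p ^ b) ^ r - 1 ∨ q₁ + 1 ∣ (p ^ b) ^ r + 1) →
      p ^ b * ((p ^ b) ^ 2 - 1) ∣ 2 * ((q₁ + 1) * q₁ * (q₁ - 1)) →
      q₁ = p ^ b ∨ q₁ = (p ^ b) ^ r := by
    intro q₁ h3 hq₁ hs hd
    obtain ⟨a, rfl, ha1, ha2⟩ := sub_common hp hb hq₁ h3 hs hd
    obtain ⟨j, rfl⟩ := ha2
    have hj : j ∣ r := (Nat.mul_dvd_mul_iff_left (by omega)).mp ha1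
    rcases (Nat.dvd_prime hr).mp hj with rfl | rfl
    · left; rw [mul_one]
    · right; rw [pow_mul]
  rcases par_odd hqodd hPar with ⟨h3, hN, h10⟩ | ⟨h3, hq₁, hN, hs⟩ | ⟨h3, hq₁, hN, hs⟩
  · exfalso
    obtain ⟨h2, hq₁dvd, -⟩ := hPar
    rw [h3] at hq₁dvd
    have hp3' := exc_p hp hq₁dvd
    subst hp3'
    rw [hN] at hdvd
    have hb1 : b = 1 := by
      by_contra hne
      have hb2 : 2 ≤ b := by omega
      have h9 : 3 ^ 2 ≤ 3 ^ b := Nat.pow_le_pow_right (by norm_num) hb2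
      have := mono_cube h9
      have hle := Nat.le_of_dvd (by norm_num) hdvd
      norm_num at this
      omega
    subst hb1
    rw [pow_one] at h10
    have h37 := three_pow_mod hrodd
    obtain ⟨Y, hY⟩ : ∃ Y, Y = 3 ^ r := ⟨_, rfl⟩
    rw [← hY] at h10 h37
    rcases h37 with h | h <;> rcases h10 with h' | h' <;> omega
  · rcases key q₁ h3 hq₁ hs (by rw [hN] at hdvd; exact hdvd.trans (dvd_mul_left _ 2)) with h | h
    · exfalso
      rw [h, x_cube_id _ (by omega)] at hN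
      omega
    · rw [h, x_cube_id _ (by rw [← h]; omega)] at hN
      omega
  · have hs' : q₁ + 1 ∣ (p ^ b) ^ r - 1 ∨ q₁ + 1 ∣ (p ^ b) ^ r + 1 := by
      rcases hs with h | h
      · left; exact (dvd_mul_left _ 2).trans h
      · right; exact (dvd_mul_left _ 2).trans h
    rcases key q₁ h3 hq₁ hs' (by rw [hN] at hdvd; exact hdvd) with h | h
    · exfalso
      rw [h] at hs
      have := mod_lemma (hpodd.pow (n := b)) hq₀3 hrodd
      rcases hs with h' | h'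
      · exact this.1 h'
      · exact this.2 h'
    · rw [h, x_cube_id _ (by rw [← h]; omega)] at hN
      omega

/-- overgroups of the normaliser of `SL₂(q₀)` in `SL₂(q₀^2)` -/
theorem num_sub_two {p b q₁ c k s n N : ℕ} (hp : p.Prime) (hp2 : p ≠ 2) (hb : 1 ≤ b)
    (hPar : Par ((p ^ b) ^ 2) 2 q₁ c k s n N) (hdvd : 2 * (p ^ b * ((p ^ b) ^ 2 - 1)) ∣ N)
    (hlt : 2 * (p ^ b * ((p ^ b) ^ 2 - 1)) < N) :
    (p ^ b) ^ 2 * (((p ^ b) ^ 2) ^ 2 - 1) ≤ N := by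
  have hpodd : Odd p := hp.odd_of_ne_two hp2
  have hqodd : Odd ((p ^ b) ^ 2) := (hpodd.pow).pow
  have hp3 : 3 ≤ p := by
    have := hp.two_le
    omega
  have hq₀3 : 3 ≤ p ^ b := by
    calc 3 ≤ p := hp3
      _ = p ^ 1 := (pow_one p).symm
      _ ≤ p ^ b := Nat.pow_le_pow_right (by omega) hb
  have key : ∀ q₁, 3 ≤ q₁ → q₁ ∣ (p ^ b) ^ 2 →
      (q₁ + 1 ∣ (p ^ b) ^ 2 - 1 ∨ q₁ + 1 ∣ (p ^ b) ^ 2 + 1) →
      p ^ b * ((p ^ b) ^ 2 - 1) ∣ 2 * ((q₁ + 1) * q₁ * (q₁ - 1)) →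
      q₁ = p ^ b ∨ q₁ = (p ^ b) ^ 2 := by
    intro q₁ h3 hq₁ hs hd
    obtain ⟨a, rfl, ha1, ha2⟩ := sub_common hp hb hq₁ h3 hs hd
    obtain ⟨j, rfl⟩ := ha2
    have hj : j ∣ 2 := (Nat.mul_dvd_mul_iff_left (by omega)).mp ha1
    rcases (Nat.dvd_prime Nat.prime_two).mp hj with rfl | rfl
    · left; rw [mul_one]
    · right; rw [pow_mul]
  have hdvd' : p ^ b * ((p ^ b) ^ 2 - 1) ∣ N := (dvd_mul_left _ 2).trans hdvd
  rcases par_odd hqodd hPar with ⟨h3, hN, h10⟩ | ⟨h3, hq₁, hN, hs⟩ | ⟨h3, hq₁, hN, hs⟩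
  · exfalso
    obtain ⟨h2, hq₁dvd, -⟩ := hPar
    rw [h3] at hq₁dvd
    have hp3' := exc_p hp hq₁dvd
    subst hp3'
    rw [hN] at hdvd
    have hb1 : b = 1 := by
      by_contra hne
      have hb2 : 2 ≤ b := by omega
      have h9 : 3 ^ 2 ≤ 3 ^ b := Nat.pow_le_pow_right (by norm_num) hb2
      have := mono_cube h9
      have hle := Nat.le_of_dvd (by norm_num) hdvd
      norm_num at this
      omega
    subst hb1
    norm_num at hdvd
  · rcases key q₁ h3 hq₁ hs (by rw [hN] at hdvd'; exact hdvd'.trans (dvd_mul_left _ 2)) with h | h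
    · exfalso
      rw [h, x_cube_id _ (by omega)] at hN
      omega
    · rw [h, x_cube_id _ (by rw [← h]; omega)] at hN
      omega
  · have hs' : q₁ + 1 ∣ (p ^ b) ^ 2 - 1 ∨ q₁ + 1 ∣ (p ^ b) ^ 2 + 1 := by
      rcases hs with h | h
      · left; exact (dvd_mul_left _ 2).trans h
      · right; exact (dvd_mul_left _ 2).trans h
    rcases key q₁ h3 hq₁ hs' (by rw [hN] at hdvd'; exact hdvd') with h | h
    · exfalso
      rw [h, x_cube_id _ (by omega)] at hN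
      omega
    · rw [h, x_cube_id _ (by rw [← h]; omega)] at hN
      omega

variable {F : Type*} [Field F] [Fintype F]

/-- Par data for a subgroup containing `u(1)` and `w` -/
theorem par_of_uS_wS (K : Type*) [Field K] [Algebra F K] [IsAlgClosed K]
    (Ht : Subgroup (SpecialLinearGroup (Fin 2) F)) (hneg : -1 ∈ Ht)
    (hu : uS (1 : F) ∈ Ht) (hw : wS (0 : F) ∈ Ht) :
    ∃ q₁ c k s n : ℕ, Par (Fintype.card F) (zc K) q₁ c k s n (Nat.card Ht) := by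
  have ha : uS (1 : K) ∈ Ht.map (iota F K) := by
    have : iota F K (uS 1) = uS 1 := by rw [iota_uS, map_one]
    rw [← this]; exact Subgroup.mem_map_of_mem _ hu
  rcases nd_par_uS Ht hneg ha one_ne_zero with h | ⟨q₁, c, k, s, n, h, -⟩
  · exfalso
    have := h (iota F K (wS 0)) (Subgroup.mem_map_of_mem _ hw)
    rw [iota_wS, map_zero, wS_smul_pInf] at this
    exact pt_ne_pInf 0 this
  · exact ⟨q₁, c, k, s, n, h⟩

theorem zc_of_odd (K : Type*) [Field K] [Algebra F K] (h : Odd (Fintype.card F)) : zc K = 2 := by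
  rcases zc_cases K with ⟨hz, _⟩ | ⟨hz, _⟩
  · exact hz
  · exfalso
    have := zc_eq_one_imp (F := F) (K := K) hz
    rcases h with ⟨t, ht⟩
    omega

/-- an overgroup of `SL₂(q₀)` in `SL₂(q₀^r)` (`r` an odd prime, `q₀` odd) is everything -/
theorem sub_top_odd {p b r : ℕ} (hp : p.Prime) (hp2 : p ≠ 2) (hb : 1 ≤ b)
    (hr : r.Prime) (hr2 : r ≠ 2) (hF : Fintype.card F = (p ^ b) ^ r)
    (Mt : Subgroup (SpecialLinearGroup (Fin 2) F)) (hneg : -1 ∈ Mt)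
    (hu : uS (1 : F) ∈ Mt) (hw : wS (0 : F) ∈ Mt)
    (hdvd : p ^ b * ((p ^ b) ^ 2 - 1) ∣ Nat.card Mt)
    (hlt : p ^ b * ((p ^ b) ^ 2 - 1) < Nat.card Mt) : Mt = ⊤ := by
  obtain ⟨q₁, c, k, s, n, hPar⟩ := par_of_uS_wS (AlgebraicClosure F) Mt hneg hu hw
  have hodd : Odd (Fintype.card F) := by
    rw [hF]; exact ((hp.odd_of_ne_two hp2).pow).pow
  rw [zc_of_odd _ hodd, hF] at hPar
  have := num_sub_odd hp hp2 hb hr hr2 hPar hdvd hlt
  apply Subgroup.eq_top_of_le_card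
  rw [Cfsg.Agent.helper12.card_SL2, hF]
  exact this

/-- a proper overgroup of the normaliser of `SL₂(q₀)` in `SL₂(q₀^2)` is everything -/
theorem sub_top_two {p b : ℕ} (hp : p.Prime) (hp2 : p ≠ 2) (hb : 1 ≤ b)
    (hF : Fintype.card F = (p ^ b) ^ 2)
    (Mt : Subgroup (SpecialLinearGroup (Fin 2) F)) (hneg : -1 ∈ Mt)
    (hu : uS (1 : F) ∈ Mt) (hw : wS (0 : F) ∈ Mt)
    (hdvd : 2 * (p ^ b * ((p ^ b) ^ 2 - 1)) ∣ Nat.card Mt)
    (hlt : 2 * (p ^ b * ((p ^ b) ^ 2 - 1)) < Nat.card Mt) : Mt = ⊤ := by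
  obtain ⟨q₁, c, k, s, n, hPar⟩ := par_of_uS_wS (AlgebraicClosure F) Mt hneg hu hw
  have hodd : Odd (Fintype.card F) := by
    rw [hF]; exact ((hp.odd_of_ne_two hp2).pow).pow
  rw [zc_of_odd _ hodd, hF] at hPar
  have := num_sub_two hp hp2 hb hPar hdvd hlt
  apply Subgroup.eq_top_of_le_card
  rw [Cfsg.Agent.helper12.card_SL2, hF]
  exact this

end Cfsg.Agent.helper4.Dn
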