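import Mathlib
import Cfsg.Agent.Lib_helper4_DnR

set_option autoImplicit false
set_option linter.unusedSectionVars false
set_option maxHeartbeats 1600000

/-!
# Subfield subgroups: group-theoretic glue
-/

namespace Cfsg.Agent.helper4.Dn

open Matrix
open scoped LinearAlgebra.Projectivization MatrixGroups
open Cfsg.Agent.helper4.Dk

section maps
variable {F K : Type*} [Field F] [Field K]

theorem slmap_apply (ι : K →+* F) (g : SpecialLinearGroup (Fin 2) K) (i j : Fin 2) :
    (SpecialLinearGroup.map ι g) i j = ι (g i j) := rfl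

theorem slmap_injective (ι : K →+* F) : Function.Injective (SpecialLinearGroup.map (n := Fin 2) ι) := by
  intro g h hgh
  have key : ∀ i j, g i j = h i j := by
    intro i j
    have := congrArg (fun x : SpecialLinearGroup (Fin 2) F => x i j) hgh
    simp only [slmap_apply] at this
    exact ι.injective this
  apply sl_ext' <;> exact key _ _

theorem slmap_uS (ι : K →+* F) (a : K) : SpecialLinearGroup.map ι (uS a) = uS (ι a) := by
  apply sl_ext' <;> rw [slmap_apply] <;> simp

theorem slmap_wS (ι : K →+* F) (a : K) : SpecialLinearGroup.map ι (wS a) = wS (ι a) := by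
  apply sl_ext' <;> rw [slmap_apply] <;> simp

theorem slmap_neg_one (ι : K →+* F) :
    SpecialLinearGroup.map ι (-1 : SpecialLinearGroup (Fin 2) K) = -1 := by
  apply sl_ext'
  all_goals simp [slmap_apply, Matrix.SpecialLinearGroup.coe_neg]

end maps

variable {F : Type*} [Field F] [Fintype F]

theorem isCoatom_of_comap (H : Subgroup (Matrix.ProjectiveSpecialLinearGroup (Fin 2) F))
    (hne : H ≠ ⊤)
    (hmax : ∀ Mt : Subgroup (SpecialLinearGroup (Fin 2) F), H.comap (piF F) < Mt → Mt = ⊤) :
    IsCoatom H := by
  refine ⟨hne, ?_⟩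
  intro Mb hlt
  have h1 : H.comap (piF F) < Mb.comap (piF F) := by
    constructor
    · exact Subgroup.comap_mono hlt.le
    · intro hle
      apply hlt.not_ge
      intro b hb
      obtain ⟨a, rfl⟩ := piF_surjective b
      exact hle hb
  have h2 := hmax _ h1
  rw [← Subgroup.map_comap_eq_self_of_surjective piF_surjective Mb, h2,
    Subgroup.map_top_of_surjective _ piF_surjective]

theorem card_SL2_eq_two_mul (hodd : Odd (Fintype.card F)) :
    Nat.card (SpecialLinearGroup (Fin 2) F) =
      2 * Nat.card (Matrix.ProjectiveSpecialLinearGroup (Fin 2) F) := by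
  have hgcd : Nat.gcd (Fintype.card F - 1) 2 = 2 := by
    obtain ⟨t, ht⟩ := hodd
    rw [ht]
    have : 2 * t + 1 - 1 = 2 * t := by omega
    rw [this]
    exact Nat.gcd_eq_right (dvd_mul_right 2 t)
  rw [Cfsg.Agent.helper2.card_SL_eq_card_PSL_mul 2,
    Cfsg.Agent.helper2.card_center_SL 2 (by norm_num), hgcd, mul_comm]

theorem card_comap_piF (hodd : Odd (Fintype.card F))
    (H : Subgroup (Matrix.ProjectiveSpecialLinearGroup (Fin 2) F)) :
    Nat.card (H.comap (piF F)) = 2 * Nat.card H := by
  have h1 : (H.comap (piF F)).index = H.index := Subgroup.index_comap_of_surjective H piF_surjective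
  have h2 := Subgroup.card_mul_index (H.comap (piF F))
  have h3 := Subgroup.card_mul_index H
  rw [h1, card_SL2_eq_two_mul hodd, ← h3] at h2
  have hidx : 0 < H.index := Nat.pos_of_ne_zero Subgroup.index_ne_zero_of_finite
  have : Nat.card (H.comap (piF F)) * H.index = (2 * Nat.card H) * H.index := by
    rw [h2]; ring
  exact Nat.eq_of_mul_eq_mul_right hidx this

end Cfsg.Agent.helper4.Dn
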