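import Mathlib
import Cfsg.Agent.Lib_helper4_DnS

set_option autoImplicit false
set_option linter.unusedSectionVars false
set_option maxHeartbeats 1600000

/-!
# Point stabilisers: commutators and commutativity
-/

namespace Cfsg.Agent.helper4.Dn

open Matrix
open scoped LinearAlgebra.Projectivization MatrixGroups
open Cfsg.Agent.helper4.Dk

variable {K : Type*} [Field K]

theorem comm_tri {a b : SpecialLinearGroup (Fin 2) K} (ha : a 1 0 = 0) (hb : b 1 0 = 0) :
    (a * b * a⁻¹ * b⁻¹) 1 0 = 0 ∧ (a * b * a⁻¹ * b⁻¹) 0 0 = 1 := by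
  have hda := diag_mul_of_tri a ha
  have hdb := diag_mul_of_tri b hb
  constructor
  · rw [mul_10, mul_10, mul_10, mul_11, mul_11, inv_00, inv_10, inv_10, inv_00, ha, hb]
    ring
  · rw [mul_00, mul_00, mul_00, mul_01, mul_01, inv_00, inv_10, inv_10, inv_00, ha, hb]
    linear_combination (a 0 0 * a 1 1) * hdb + hda

/-- in odd characteristic a commutator of two elements fixing a point cannot be of order 2 mod ±1 -/
theorem comm_sq_fix (h2 : (2 : K) ≠ 0) {a b : SpecialLinearGroup (Fin 2) K} {w : ℙ K (Fin 2 → K)}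
    (ha : a • w = w) (hb : b • w = w)
    (hc : (a * b * a⁻¹ * b⁻¹) * (a * b * a⁻¹ * b⁻¹) = 1 ∨
      (a * b * a⁻¹ * b⁻¹) * (a * b * a⁻¹ * b⁻¹) = -1) :
    a * b * a⁻¹ * b⁻¹ = 1 := by
  obtain ⟨s, rfl⟩ := exists_smul_pInf w
  set a' := s⁻¹ * a * s with ha'
  set b' := s⁻¹ * b * s with hb'
  have ha10 : a' 1 0 = 0 := by
    rw [← fixed_pInf_iff, ha', mul_smul, mul_smul, ha, inv_smul_smul]
  have hb10 : b' 1 0 = 0 := by
    rw [← fixed_pInf_iff, hb', mul_smul, mul_smul, hb, inv_smul_smul]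
  obtain ⟨h10, h00⟩ := comm_tri ha10 hb10
  have hcc : a' * b' * a'⁻¹ * b'⁻¹ = s⁻¹ * (a * b * a⁻¹ * b⁻¹) * s := by
    rw [ha', hb']; group
  have hu := eq_uS_of _ h10 h00
  set t := (a' * b' * a'⁻¹ * b'⁻¹) 0 1 with ht
  have hsq : (a' * b' * a'⁻¹ * b'⁻¹) * (a' * b' * a'⁻¹ * b'⁻¹) =
      s⁻¹ * ((a * b * a⁻¹ * b⁻¹) * (a * b * a⁻¹ * b⁻¹)) * s := by
    rw [hcc]; group
  have ht0 : t = 0 := by
    rcases hc with hc | hc
    · rw [hc, mul_one, inv_mul_cancel, hu, ← uS_add] at hsq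
      have := congrArg (fun g : SpecialLinearGroup (Fin 2) K => g 0 1) hsq
      simp only [uS_01, one_01] at this
      have h3 : 2 * t = 0 := by linear_combination this
      rcases mul_eq_zero.mp h3 with h | h
      · exact absurd h h2
      · exact h
    · exfalso
      rw [hc, hu, ← uS_add] at hsq
      have e : s⁻¹ * (-1 : SpecialLinearGroup (Fin 2) K) * s = -1 := by simp
      rw [e] at hsq
      have := congrArg (fun g : SpecialLinearGroup (Fin 2) K => g 0 0) hsq
      simp only [uS_00, neg_00, one_00] at this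
      apply h2
      linear_combination this
  rw [ht0, uS_zero, hcc] at hu
  have : a * b * a⁻¹ * b⁻¹ = s * (s⁻¹ * (a * b * a⁻¹ * b⁻¹) * s) * s⁻¹ := by group
  rw [this, hu]; group

variable [IsAlgClosed K]

/-- a stabiliser without parabolic elements is commutative -/
theorem stab_comm (H : Subgroup (SpecialLinearGroup (Fin 2) K)) [Finite H] (hH : -1 ∈ H)
    (y : ℙ K (Fin 2 → K)) (hN2 : N2 H y = 0) {g h : SpecialLinearGroup (Fin 2) K}
    (hg : g ∈ stabIn H y) (hh : h ∈ stabIn H y) : g * h = h * g := by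
  classical
  obtain ⟨s, rfl⟩ := exists_smul_pInf y
  rw [N2_conj] at hN2
  set H' := cj s H with hH'def
  haveI : Finite H' := Finite.of_equiv _ (cjEquiv s H)
  have hH'' : -1 ∈ H' := neg_one_mem_cj hH
  have hAA : ∀ a : K, uS a ∈ H' → a = 0 := by
    intro a ha
    have h1 := N2_pInf_add_z H' hH''
    have h3 := card_ZP_z H' hH''
    rw [hN2, zero_add] at h1
    have hz := zc_pos K
    have h4 : Nat.card (AA H') = 1 := by
      have : zc K * Nat.card (AA H') = zc K * 1 := by rw [← h3, ← h1, mul_one]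
      exact Nat.eq_of_mul_eq_mul_left hz this
    rw [Nat.card_eq_one_iff_unique] at h4
    obtain ⟨hsub, _⟩ := h4
    have := hsub.elim (⟨a, ha⟩ : AA H') 0
    exact congrArg Subtype.val this
  obtain ⟨hgH, hgy⟩ := mem_stabIn.mp hg
  obtain ⟨hhH, hhy⟩ := mem_stabIn.mp hh
  set g' := s⁻¹ * g * s with hg'
  set h' := s⁻¹ * h * s with hh'
  have hg'H : g' ∈ H' := by
    rw [hH'def, mem_cj, hg']
    have : s * (s⁻¹ * g * s) * s⁻¹ = g := by group
    rw [this]; exact hgH
  have hh'H : h' ∈ H' := by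
    rw [hH'def, mem_cj, hh']
    have : s * (s⁻¹ * h * s) * s⁻¹ = h := by group
    rw [this]; exact hhH
  have hg10 : g' 1 0 = 0 := by
    rw [← fixed_pInf_iff, hg', mul_smul, mul_smul, hgy, inv_smul_smul]
  have hh10 : h' 1 0 = 0 := by
    rw [← fixed_pInf_iff, hh', mul_smul, mul_smul, hhy, inv_smul_smul]
  obtain ⟨h10, h00⟩ := comm_tri hg10 hh10
  have hu := eq_uS_of _ h10 h00
  have hmem : g' * h' * g'⁻¹ * h'⁻¹ ∈ H' :=
    H'.mul_mem (H'.mul_mem (H'.mul_mem hg'H hh'H) (H'.inv_mem hg'H)) (H'.inv_mem hh'H)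
  have ht0 := hAA _ (by rw [← hu]; exact hmem)
  rw [ht0, uS_zero] at hu
  have h1 : g' * h' = h' * g' := by
    have : g' * h' = (g' * h' * g'⁻¹ * h'⁻¹) * (h' * g') := by group
    rw [this, hu, one_mul]
  have e1 : g * h = s * (g' * h') * s⁻¹ := by rw [hg', hh']; group
  have e2 : h * g = s * (h' * g') * s⁻¹ := by rw [hg', hh']; group
  rw [e1, e2, h1]

end Cfsg.Agent.helper4.Dn
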