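import Mathlib
import Cfsg.Agent.Lib_helper4_DnT

set_option autoImplicit false
set_option linter.unusedSectionVars false
set_option maxHeartbeats 1600000

/-!
# Overgroups of nonabelian `p'`-subgroups of `SL₂(F)` (odd characteristic)
-/

namespace Cfsg.Agent.helper4.Dn

open Matrix
open scoped LinearAlgebra.Projectivization MatrixGroups
open Cfsg.Agent.helper4.Dk

variable {F : Type*} [Field F] [Fintype F]

/-- squares land in a subgroup of half the order -/
theorem sq_mem_of_card_half {G : Type*} [Group G] (H S : Subgroup G) [Finite H] (hSH : S ≤ H)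
    (hcard : Nat.card H = 2 * Nat.card S) {x : G} (hx : x ∈ H) : x * x ∈ S := by
  haveI : Finite S := Finite.of_injective (fun g : S => (⟨g.1, hSH g.2⟩ : H))
    (fun a b hab => Subtype.ext (congrArg (fun t : H => (t : G)) hab))
  have h1 := Subgroup.card_mul_index (S.subgroupOf H)
  rw [Nat.card_congr (Subgroup.subgroupOfEquivOfLe hSH).toEquiv, hcard] at h1
  have hpos : 0 < Nat.card S := Nat.card_pos
  have h2 : (S.subgroupOf H).index = 2 := by
    have : Nat.card S * (S.subgroupOf H).index = Nat.card S * 2 := by rw [h1]; ring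
    exact Nat.eq_of_mul_eq_mul_left hpos this
  have := Subgroup.mul_self_mem_of_index_two h2 (⟨x, hx⟩ : H)
  rw [Subgroup.mem_subgroupOf] at this
  exact this

theorem nonab_cases (Mt : Subgroup (SpecialLinearGroup (Fin 2) F)) (hneg : -1 ∈ Mt)
    (hodd : Odd (Fintype.card F))
    (h1 : ∃ x ∈ Mt, ∃ y ∈ Mt, (x * x) * (y * y) ≠ (y * y) * (x * x))
    (h2 : ∃ a ∈ Mt, ∃ b ∈ Mt, a * b * a⁻¹ * b⁻¹ ≠ 1 ∧
      ((a * b * a⁻¹ * b⁻¹) * (a * b * a⁻¹ * b⁻¹) = 1 ∨
        (a * b * a⁻¹ * b⁻¹) * (a * b * a⁻¹ * b⁻¹) = -1)) :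
    (∃ q₁ c k s n : ℕ, Par (Fintype.card F) 2 q₁ c k s n (Nat.card Mt)) ∨
      Nat.card Mt = 24 ∨ Nat.card Mt = 48 ∨ Nat.card Mt = 120 := by
  classical
  obtain ⟨K, hKdef⟩ : ∃ K : Type _, K = AlgebraicClosure F := ⟨_, rfl⟩
  have hz : zc (AlgebraicClosure F) = 2 := zc_of_odd _ hodd
  have h2K : (2 : AlgebraicClosure F) ≠ 0 := by
    rcases zc_cases (AlgebraicClosure F) with ⟨_, h⟩ | ⟨h, _⟩
    · exact h
    · omega
  rcases nd_main (K := AlgebraicClosure F) Mt hneg with ⟨w, hw⟩ | ⟨q₁, c, k, s, n, hPar, -⟩ |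
    ⟨hnp, y₁, y₂, y₃, s₁, s₂, s₃, hb, hPoly⟩
  · exfalso
    obtain ⟨a, ha, b, hb, hne, hsq⟩ := h2
    have hia := hw _ (Subgroup.mem_map_of_mem (iota F (AlgebraicClosure F)) ha)
    have hib := hw _ (Subgroup.mem_map_of_mem (iota F (AlgebraicClosure F)) hb)
    have hc : iota F (AlgebraicClosure F) a * iota F (AlgebraicClosure F) b *
        (iota F (AlgebraicClosure F) a)⁻¹ * (iota F (AlgebraicClosure F) b)⁻¹ =
        iota F (AlgebraicClosure F) (a * b * a⁻¹ * b⁻¹) := by
      simp only [map_mul, map_inv]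
    have := comm_sq_fix h2K hia hib (by
      rw [hc, ← map_mul]
      rcases hsq with h | h
      · left; rw [h, map_one]
      · right; rw [h, iota_neg_one])
    rw [hc] at this
    apply hne
    apply iota_injective (K := AlgebraicClosure F)
    rw [this, map_one]
  · left
    rw [hz] at hPar
    exact ⟨q₁, c, k, s, n, hPar⟩
  · right
    obtain ⟨-, -, hy₃, -, -, -, -, hc1, hc2, hc3, hcard, htyp⟩ := hPoly
    rw [hz, card_map_iota] at hcard
    obtain ⟨hs1, htyp⟩ := htyp
    rcases htyp with ⟨hs2, hhb, hs3⟩ | ⟨-, -, hhb⟩ | ⟨-, -, hhb⟩ | ⟨-, -, hhb⟩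
    · exfalso
      obtain ⟨x, hx, y, hy, hne⟩ := h1
      set H := Mt.map (iota F (AlgebraicClosure F)) with hH
      have hH' : -1 ∈ H := neg_one_mem_map hneg
      have hSH : stabIn H y₃ ≤ H := fun g hg => (mem_stabIn.mp hg).1
      have hcardH : Nat.card H = 2 * Nat.card (stabIn H y₃) := by
        rw [hc3, hz, hH, card_map_iota, hcard, hhb]
      have hxx := sq_mem_of_card_half H (stabIn H y₃) hSH hcardH
        (Subgroup.mem_map_of_mem (iota F (AlgebraicClosure F)) hx)
      have hyy := sq_mem_of_card_half H (stabIn H y₃) hSH hcardH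
        (Subgroup.mem_map_of_mem (iota F (AlgebraicClosure F)) hy)
      have := stab_comm H hH' y₃ (hnp y₃) hxx hyy
      apply hne
      apply iota_injective (K := AlgebraicClosure F)
      simp only [map_mul]
      exact this
    · left; rw [hcard, hhb]
    · right; left; rw [hcard, hhb]
    · right; right; rw [hcard, hhb]

end Cfsg.Agent.helper4.Dn
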