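import Mathlib
import Cfsg.Agent.Lib_helper4_DnU

set_option autoImplicit false
set_option linter.unusedSectionVars false
set_option maxHeartbeats 1600000

/-!
# Overgroups of `A₄`, `S₄`, `A₅` in `PSL₂(F)`
-/

namespace Cfsg.Agent.helper4.Dn

open Matrix
open scoped LinearAlgebra.Projectivization MatrixGroups
open Cfsg.Agent.helper4.Dk

/-- witnesses of non-commutativity used for the polyhedral groups -/
def Wit (G : Type*) [Group G] : Prop :=
  ∃ x y a b : G, (x * x) * (y * y) ≠ (y * y) * (x * x) ∧ a * b * a⁻¹ * b⁻¹ ≠ 1 ∧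
    (a * b * a⁻¹ * b⁻¹) * (a * b * a⁻¹ * b⁻¹) = 1

theorem Wit.of_equiv {G G' : Type*} [Group G] [Group G'] (e : G ≃* G') (h : Wit G') : Wit G := by
  obtain ⟨x, y, a, b, h1, h2, h3⟩ := h
  refine ⟨e.symm x, e.symm y, e.symm a, e.symm b, ?_, ?_, ?_⟩
  · intro h
    apply h1
    have := congrArg e h
    simpa using this
  · intro h
    apply h2
    have := congrArg e h
    simpa using this
  · apply e.injective
    simpa using h3

theorem swap_mul_swap_mem (n : ℕ) (a b c d : Fin n) (hab : a ≠ b) (hcd : c ≠ d) :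
    Equiv.swap a b * Equiv.swap c d ∈ alternatingGroup (Fin n) := by
  rw [Equiv.Perm.mem_alternatingGroup, Equiv.Perm.sign_mul, Equiv.Perm.sign_swap hab,
    Equiv.Perm.sign_swap hcd]
  decide

set_option maxRecDepth 100000 in
theorem wit_S4 : Wit (Equiv.Perm (Fin 4)) := by
  refine ⟨Equiv.swap 0 1 * Equiv.swap 1 2, Equiv.swap 0 1 * Equiv.swap 1 3,
    Equiv.swap 0 1 * Equiv.swap 1 2, Equiv.swap 0 1 * Equiv.swap 2 3, ?_, ?_, ?_⟩ <;> decide

set_option maxRecDepth 100000 in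
theorem wit_A4 : Wit (alternatingGroup (Fin 4)) := by
  refine ⟨⟨Equiv.swap 0 1 * Equiv.swap 1 2, swap_mul_swap_mem _ _ _ _ _ (by decide) (by decide)⟩,
    ⟨Equiv.swap 0 1 * Equiv.swap 1 3, swap_mul_swap_mem _ _ _ _ _ (by decide) (by decide)⟩,
    ⟨Equiv.swap 0 1 * Equiv.swap 1 2, swap_mul_swap_mem _ _ _ _ _ (by decide) (by decide)⟩,
    ⟨Equiv.swap 0 1 * Equiv.swap 2 3, swap_mul_swap_mem _ _ _ _ _ (by decide) (by decide)⟩,
    ?_, ?_, ?_⟩ <;> decide

set_option maxRecDepth 100000 in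
theorem wit_A5 : Wit (alternatingGroup (Fin 5)) := by
  refine ⟨⟨Equiv.swap 0 1 * Equiv.swap 1 2, swap_mul_swap_mem _ _ _ _ _ (by decide) (by decide)⟩,
    ⟨Equiv.swap 0 1 * Equiv.swap 1 3, swap_mul_swap_mem _ _ _ _ _ (by decide) (by decide)⟩,
    ⟨Equiv.swap 0 1 * Equiv.swap 1 2, swap_mul_swap_mem _ _ _ _ _ (by decide) (by decide)⟩,
    ⟨Equiv.swap 0 1 * Equiv.swap 2 3, swap_mul_swap_mem _ _ _ _ _ (by decide) (by decide)⟩,
    ?_, ?_, ?_⟩ <;> decide

variable {F : Type*} [Field F] [Fintype F]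

theorem over_cases (hodd : Odd (Fintype.card F))
    (H : Subgroup (Matrix.ProjectiveSpecialLinearGroup (Fin 2) F)) (hW : Wit H)
    (Mt : Subgroup (SpecialLinearGroup (Fin 2) F)) (hlt : H.comap (piF F) < Mt) :
    (2 * Nat.card H ∣ Nat.card Mt) ∧ (2 * Nat.card H < Nat.card Mt) ∧
    ((∃ q₁ c k s n : ℕ, Par (Fintype.card F) 2 q₁ c k s n (Nat.card Mt)) ∨
      Nat.card Mt = 24 ∨ Nat.card Mt = 48 ∨ Nat.card Mt = 120) := by
  have hcard := card_comap_piF hodd H
  refine ⟨?_, ?_, ?_⟩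
  · rw [← hcard]; exact Subgroup.card_dvd_of_le hlt.le
  · rw [← hcard]
    by_contra hge
    push Not at hge
    exact hlt.ne (Subgroup.eq_of_le_of_card_ge hlt.le hge)
  · have hneg : -1 ∈ Mt := by
      apply hlt.le
      rw [Subgroup.mem_comap, piF_neg_one]
      exact H.one_mem
    obtain ⟨x, y, a, b, h1, h2, h3⟩ := hW
    obtain ⟨xt, hxt⟩ := piF_surjective (x : Matrix.ProjectiveSpecialLinearGroup (Fin 2) F)
    obtain ⟨yt, hyt⟩ := piF_surjective (y : Matrix.ProjectiveSpecialLinearGroup (Fin 2) F)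
    obtain ⟨at', hat⟩ := piF_surjective (a : Matrix.ProjectiveSpecialLinearGroup (Fin 2) F)
    obtain ⟨bt, hbt⟩ := piF_surjective (b : Matrix.ProjectiveSpecialLinearGroup (Fin 2) F)
    have hxM : xt ∈ Mt := hlt.le (by rw [Subgroup.mem_comap, hxt]; exact x.2)
    have hyM : yt ∈ Mt := hlt.le (by rw [Subgroup.mem_comap, hyt]; exact y.2)
    have haM : at' ∈ Mt := hlt.le (by rw [Subgroup.mem_comap, hat]; exact a.2)
    have hbM : bt ∈ Mt := hlt.le (by rw [Subgroup.mem_comap, hbt]; exact b.2)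
    apply nonab_cases Mt hneg hodd
    · refine ⟨xt, hxM, yt, hyM, ?_⟩
      intro h
      apply h1
      apply Subtype.ext
      have := congrArg (piF F) h
      simp only [map_mul, hxt, hyt] at this
      simpa using this
    · refine ⟨at', haM, bt, hbM, ?_, ?_⟩
      · intro h
        apply h2
        apply Subtype.ext
        have := congrArg (piF F) h
        simp only [map_mul, map_inv, hat, hbt, map_one] at this
        simpa using this
      · have : piF F ((at' * bt * at'⁻¹ * bt⁻¹) * (at' * bt * at'⁻¹ * bt⁻¹)) = 1 := by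
          have := congrArg (fun t : H => (t : Matrix.ProjectiveSpecialLinearGroup (Fin 2) F)) h3
          simp only [map_mul, map_inv, hat, hbt]
          simpa using this
        exact (piF_eq_one_iff _).mp this

/-- prime field: parabolic data force everything -/
theorem par_prime {p q₁ c k s n N : ℕ} (hp : p.Prime) (hp5 : 5 ≤ p)
    (hPar : Par p 2 q₁ c k s n N) : p * (p ^ 2 - 1) ≤ N := by
  have hodd : Odd p := hp.odd_of_ne_two (by omega)
  have key : ∀ q₁, 3 ≤ q₁ → q₁ ∣ p → q₁ = p := by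
    intro q₁ h3 hd
    rcases (Nat.dvd_prime hp).mp hd with h | h
    · omega
    · exact h
  rcases par_odd hodd hPar with ⟨h3, hN, h10⟩ | ⟨h3, hq₁, hN, hs⟩ | ⟨h3, hq₁, hN, hs⟩
  · exfalso
    obtain ⟨h2, hq₁dvd, -⟩ := hPar
    have := key q₁ (by omega) hq₁dvd
    omega
  · have := key q₁ h3 hq₁
    rw [this, x_cube_id _ (by omega)] at hN
    omega
  · have := key q₁ h3 hq₁
    rw [this, x_cube_id _ (by omega)] at hN
    omega

theorem top_of_card_ge (Mt : Subgroup (SpecialLinearGroup (Fin 2) F))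
    (h : Fintype.card F * (Fintype.card F ^ 2 - 1) ≤ Nat.card Mt) : Mt = ⊤ := by
  apply Subgroup.eq_top_of_le_card
  rw [Cfsg.Agent.helper12.card_SL2]
  exact h

theorem card_dvd_SL2' (Mt : Subgroup (SpecialLinearGroup (Fin 2) F)) :
    Nat.card Mt ∣ Fintype.card F * (Fintype.card F ^ 2 - 1) := by
  rw [← Cfsg.Agent.helper12.card_SL2]
  exact Subgroup.card_subgroup_dvd_card Mt

end Cfsg.Agent.helper4.Dn
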