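import Mathlib
import Cfsg.Agent.Lib_helper4_DnV

set_option autoImplicit false
set_option linter.unusedSectionVars false
set_option linter.style.haveILetI false
set_option maxHeartbeats 1600000

/-!
# Solvability tools
-/

namespace Cfsg.Agent.helper4.Dn

open Matrix
open scoped LinearAlgebra.Projectivization MatrixGroups commutatorElement
open Cfsg.Agent.helper4.Dk

/-- a group whose commutators commute pairwise is solvable -/
theorem solvable_of_comm_comm {G : Type*} [Group G]
    (h : ∀ a b c d : G, (a * b * a⁻¹ * b⁻¹) * (c * d * c⁻¹ * d⁻¹) =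
      (c * d * c⁻¹ * d⁻¹) * (a * b * a⁻¹ * b⁻¹)) : Group.IsSolvable G := by
  have hcomm : ∀ x ∈ commutatorSet G, ∀ y ∈ commutatorSet G, x * y = y * x := by
    rintro x ⟨a, b, rfl⟩ y ⟨c, d, rfl⟩
    exact h a b c d
  haveI hc : IsMulCommutative (Subgroup.closure (commutatorSet G)) :=
    Subgroup.isMulCommutative_closure hcomm
  haveI : Group.IsSolvable (Subgroup.closure (commutatorSet G)) :=
    Group.isSolvable_of_comm (fun a b => hc.is_comm.comm a b)
  have hker : (Abelianization.of : G →* Abelianization G).ker = Subgroup.closure (commutatorSet G) := by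
    rw [Abelianization.ker_of, commutator_eq_closure]
  exact Group.isSolvable_of_ker_le_range (Subgroup.closure (commutatorSet G)).subtype Abelianization.of
    (by rw [hker, Subgroup.range_subtype])

/-- a finite group with a commutative subgroup of half the order is solvable -/
theorem solvable_of_half_comm {G : Type*} [Group G] [Finite G] (S : Subgroup G)
    (hcard : Nat.card G = 2 * Nat.card S) (hS : ∀ a ∈ S, ∀ b ∈ S, a * b = b * a) :
    Group.IsSolvable G := by
  have h1 := Subgroup.card_mul_index S
  have hpos : 0 < Nat.card S := Nat.card_pos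
  have h2 : S.index = 2 := by
    have : Nat.card S * S.index = Nat.card S * 2 := by rw [h1, hcard]; ring
    exact Nat.eq_of_mul_eq_mul_left hpos this
  haveI : S.Normal := Subgroup.normal_of_index_eq_two h2
  haveI : Group.IsSolvable S := Group.isSolvable_of_comm (fun a b => Subtype.ext (hS a a.2 b b.2))
  haveI : Group.IsSolvable (G ⧸ S) := by
    have hc : Nat.card (G ⧸ S) = 2 := h2
    haveI : Fact (Nat.Prime 2) := ⟨Nat.prime_two⟩
    haveI : IsCyclic (G ⧸ S) := isCyclic_of_prime_card hc
    exact Group.isSolvable_of_comm (fun a b => IsCyclic.isMulCommutative.is_comm.comm a b)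
  exact Group.isSolvable_of_ker_le_range S.subtype (QuotientGroup.mk' S)
    (by rw [QuotientGroup.ker_mk', Subgroup.range_subtype])

theorem solvable_perm_fin_three : Group.IsSolvable (Equiv.Perm (Fin 3)) := by
  haveI : Group.IsSolvable (alternatingGroup (Fin 3)) := by
    have hc : Nat.card (alternatingGroup (Fin 3)) = 3 := by
      rw [nat_card_alternatingGroup, Nat.card_fin]; rfl
    haveI : Fact (Nat.Prime 3) := ⟨Nat.prime_three⟩
    haveI : IsCyclic (alternatingGroup (Fin 3)) := isCyclic_of_prime_card hc
    exact Group.isSolvable_of_comm (fun a b => IsCyclic.isMulCommutative.is_comm.comm a b)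
  exact Group.isSolvable_of_ker_le_range (alternatingGroup (Fin 3)).subtype
    (Equiv.Perm.sign : Equiv.Perm (Fin 3) →* ℤˣ)
    (by rw [Subgroup.range_subtype]; exact le_of_eq rfl)

/-- groups of order `2^a * 3` are solvable -/
theorem solvable_of_card_two_pow_mul_three {G : Type*} [Group G] [Finite G] (a : ℕ)
    (hcard : Nat.card G = 2 ^ a * 3) : Group.IsSolvable G := by
  classical
  haveI : Fact (Nat.Prime 2) := ⟨Nat.prime_two⟩
  obtain ⟨P⟩ : Nonempty (Sylow 2 G) := inferInstance
  have hfac : (Nat.card G).factorization 2 = a := by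
    rw [hcard, Nat.factorization_mul (by positivity) (by norm_num), Nat.factorization_pow]
    simp [Nat.factorization_eq_zero_of_not_dvd (by norm_num : ¬ 2 ∣ 3),
      Nat.Prime.factorization_self Nat.prime_two]
  have hP : Nat.card P = 2 ^ a := by
    rw [Sylow.card_eq_multiplicity, hfac]
  have hidx : (P : Subgroup G).index = 3 := by
    have h1 := Subgroup.card_mul_index (P : Subgroup G)
    rw [hP, hcard] at h1
    exact Nat.eq_of_mul_eq_mul_left (by positivity) h1
  set φ := MulAction.toPermHom G (G ⧸ (P : Subgroup G)) with hφ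
  have hker : φ.ker ≤ (P : Subgroup G) := by
    rw [hφ, ← Subgroup.normalCore_eq_ker]
    exact Subgroup.normalCore_le _
  haveI : Group.IsSolvable φ.ker := by
    have hp : IsPGroup 2 φ.ker := P.isPGroup'.to_le hker
    haveI : Group.IsNilpotent φ.ker := hp.isNilpotent
    infer_instance
  haveI : Group.IsSolvable (Equiv.Perm (G ⧸ (P : Subgroup G))) := by
    have hc : Nat.card (G ⧸ (P : Subgroup G)) = 3 := hidx
    haveI : Fintype (G ⧸ (P : Subgroup G)) := Fintype.ofFinite _
    have hc' : Fintype.card (G ⧸ (P : Subgroup G)) = 3 := by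
      rw [← Nat.card_eq_fintype_card, hc]
    have e : (G ⧸ (P : Subgroup G)) ≃ Fin 3 := Fintype.equivFinOfCardEq hc'
    haveI := solvable_perm_fin_three
    exact Group.isSolvable_of_isSolvable_injective (f := (Equiv.permCongrHom e).toMonoidHom)
      (Equiv.permCongrHom e).injective
  exact Group.isSolvable_of_ker_le_range φ.ker.subtype φ (by rw [Subgroup.range_subtype])

end Cfsg.Agent.helper4.Dn
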