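import Mathlib
import Cfsg.Agent.Lib_helper4_DnW

set_option autoImplicit false
set_option linter.unusedSectionVars false
set_option linter.style.haveILetI false
set_option maxHeartbeats 1600000

/-!
# Numerical Dickson with a semisimple point; solvable subgroups of `SL₂(F)`
-/

namespace Cfsg.Agent.helper4.Dn

open Matrix
open scoped LinearAlgebra.Projectivization MatrixGroups
open Cfsg.Agent.helper4.Dk

variable {F : Type*} [Field F] [Fintype F] {K : Type*} [Field K] [Algebra F K] [IsAlgClosed K]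

theorem nd_par_uS2 (Ht : Subgroup (SpecialLinearGroup (Fin 2) F)) (hH : -1 ∈ Ht) {a₀ : K}
    (ha : uS a₀ ∈ Ht.map (iota F K)) (ha0 : a₀ ≠ 0) :
    (∀ g ∈ Ht.map (iota F K), g • (pInf : ℙ K (Fin 2 → K)) = pInf) ∨
    ∃ q₁ c k s n : ℕ, Par (Fintype.card F) (zc K) q₁ c k s n (Nat.card Ht) ∧
      ∃ y₁ : ℙ K (Fin 2 → K), N2 (Ht.map (iota F K)) y₁ = 0 ∧
        Nat.card (stabIn (Ht.map (iota F K)) y₁) = zc K * s := by
  classical
  set H := Ht.map (iota F K) with hHdef
  have hH' : -1 ∈ H := neg_one_mem_map hH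
  by_cases hfix : ∀ g ∈ H, g • (pInf : ℙ K (Fin 2 → K)) = pInf
  · left; exact hfix
  right
  push Not at hfix
  obtain ⟨y₁, s, c, k, hy₁O, hs2, hc1, hk1, hstab, hYeq, hN2, hGB, hcq, hn, heq, hcard, hcases⟩ :=
    structure_z H hH' ha ha0 hfix
  refine ⟨Nat.card (AA H), c, k, s, (orb H pInf).ncard,
    ⟨two_le_card_AA H ha ha0, card_AA_dvd (K := K) Ht, hc1, hcq, hs2, hk1, hn, heq, ?_, ?_, hcases⟩,
    y₁, hN2, hstab⟩
  · rw [← hcard, hHdef, card_map_iota]
  · have := card_stab_dvd Ht hH y₁ hN2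
    rw [← hHdef, hstab] at this
    exact this

/-- the parabolic case of the numerical Dickson theorem, with a semisimple point -/
theorem nd_par2 (Ht : Subgroup (SpecialLinearGroup (Fin 2) F)) (hH : -1 ∈ Ht)
    (hpar : ∃ y, N2 (Ht.map (iota F K)) y ≠ 0) :
    (∃ w : ℙ K (Fin 2 → K), ∀ g ∈ Ht.map (iota F K), g • w = w) ∨
    (∃ q₁ c k s n : ℕ, Par (Fintype.card F) (zc K) q₁ c k s n (Nat.card Ht) ∧
      ∃ y₁ : ℙ K (Fin 2 → K), N2 (Ht.map (iota F K)) y₁ = 0 ∧
        Nat.card (stabIn (Ht.map (iota F K)) y₁) = zc K * s) := by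
  classical
  set H := Ht.map (iota F K) with hHdef
  have hH' : -1 ∈ H := neg_one_mem_map hH
  obtain ⟨y, hy⟩ := hpar
  have hne : {g : SpecialLinearGroup (Fin 2) K | g ∈ H ∧ g ≠ 1 ∧ g ≠ -1 ∧ tr g ^ 2 = 4 ∧
      g • y = y}.Nonempty := by
    by_contra hemp
    rw [Set.not_nonempty_iff_eq_empty] at hemp
    apply hy
    unfold N2
    rw [hemp, Set.ncard_empty]
  obtain ⟨g', hg'H, hg'1, hg'2, hg'tr, hg'y⟩ := hne
  obtain ⟨g, hg, rfl⟩ := hg'H
  obtain ⟨s, hs⟩ := exists_rational_conj g hg'1 hg'2 hg'tr y hg'y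
  set Ht' := cj s Ht with hHt'
  have hH'' : -1 ∈ Ht' := neg_one_mem_cj hH
  have hcard' : Nat.card Ht' = Nat.card Ht := card_cj s Ht
  have hcjmap : cj (iota F K s) H = Ht'.map (iota F K) := cj_map_iota s Ht
  set u := s⁻¹ * g * s with hu
  have huH : u ∈ Ht' := by
    rw [hHt', mem_cj]
    have : s * u * s⁻¹ = g := by rw [hu]; group
    rw [this]; exact hg
  have hu1 : iota F K u ≠ 1 := by
    rw [hu, map_mul, map_mul, map_inv]
    exact (conj_ne_one_iff _ _).mpr hg'1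
  have hu2 : iota F K u ≠ -1 := by
    rw [hu, map_mul, map_mul, map_inv]
    exact (conj_ne_neg_one_iff _ _).mpr hg'2
  have hutr : tr (iota F K u) ^ 2 = 4 := by
    rw [hu, map_mul, map_mul, map_inv]
    have := tr_conj (iota F K s)⁻¹ (iota F K g)
    rw [inv_inv] at this
    rw [this]; exact hg'tr
  have hufix : iota F K u • (pInf : ℙ K (Fin 2 → K)) = pInf := by
    rw [hu, map_mul, map_mul, map_inv, mul_smul, mul_smul, hs, hg'y, ← hs, inv_smul_smul]
  have hu10 : (iota F K u) 1 0 = 0 := (fixed_pInf_iff _).mp hufix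
  have hud := diag_mul_of_tri _ hu10
  have hu00 : (iota F K u) 0 0 = (iota F K u) 1 1 := (tr_sq_tri _ hu10).mp hutr
  have hsq : ((iota F K u) 0 0 - 1) * ((iota F K u) 0 0 + 1) = 0 := by
    rw [← hu00] at hud
    linear_combination hud
  have huS : ∃ a₀ : K, uS a₀ ∈ Ht'.map (iota F K) ∧ a₀ ≠ 0 := by
    rcases mul_eq_zero.mp hsq with h | h
    · have h00 : (iota F K u) 0 0 = 1 := sub_eq_zero.mp h
      refine ⟨(iota F K u) 0 1, ?_, ?_⟩
      · rw [← eq_uS_of _ hu10 h00]; exact Subgroup.mem_map_of_mem _ huH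
      · intro h0
        apply hu1
        rw [eq_uS_of _ hu10 h00, h0, uS_zero]
    · have h00 : (iota F K u) 0 0 = -1 := eq_neg_of_add_eq_zero_left h
      refine ⟨-(iota F K u) 0 1, ?_, ?_⟩
      · have h3 := eq_neg_uS_of _ hu10 h00
        have h4 : uS (-(iota F K u) 0 1) = -(iota F K u) := by rw [h3]; simp
        rw [h4]
        exact neg_mem (neg_one_mem_map hH'') (Subgroup.mem_map_of_mem _ huH)
      · intro h0
        apply hu2
        rw [eq_neg_uS_of _ hu10 h00, h0, uS_zero]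
  obtain ⟨a₀, ha, ha0⟩ := huS
  rcases nd_par_uS2 Ht' hH'' ha ha0 with hfix | ⟨q₁, c, k, s', n, hPar, y₁, hN2, hst⟩
  · left
    refine ⟨iota F K s • pInf, ?_⟩
    intro m hm
    have hm' : (iota F K s)⁻¹ * m * iota F K s ∈ Ht'.map (iota F K) := by
      rw [← hcjmap, mem_cj]
      have : iota F K s * ((iota F K s)⁻¹ * m * iota F K s) * (iota F K s)⁻¹ = m := by group
      rw [this]; exact hm
    have := hfix _ hm'
    rw [mul_smul, mul_smul] at this
    have h2 := congrArg (fun z => iota F K s • z) this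
    simpa using h2
  · right
    rw [hcard'] at hPar
    refine ⟨q₁, c, k, s', n, hPar, iota F K s • y₁, ?_, ?_⟩
    · rw [N2_conj, hcjmap]; exact hN2
    · rw [card_stabIn_conj, hcjmap]; exact hst

end Cfsg.Agent.helper4.Dn
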