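import Mathlib
import Cfsg.Agent.Lib_helper4_DnX

set_option autoImplicit false
set_option linter.unusedSectionVars false
set_option linter.style.haveILetI false
set_option maxHeartbeats 1600000

/-!
# Solvable subgroups of `SL₂(F)`
-/

namespace Cfsg.Agent.helper4.Dn

open Matrix
open scoped LinearAlgebra.Projectivization MatrixGroups
open Cfsg.Agent.helper4.Dk

section fix
variable {K : Type*} [Field K]

theorem comm_comm_fix {a b c d : SpecialLinearGroup (Fin 2) K} {w : ℙ K (Fin 2 → K)}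
    (ha : a • w = w) (hb : b • w = w) (hc : c • w = w) (hd : d • w = w) :
    (a * b * a⁻¹ * b⁻¹) * (c * d * c⁻¹ * d⁻¹) = (c * d * c⁻¹ * d⁻¹) * (a * b * a⁻¹ * b⁻¹) := by
  obtain ⟨s, rfl⟩ := exists_smul_pInf w
  have key : ∀ g : SpecialLinearGroup (Fin 2) K, g • (s • (pInf : ℙ K (Fin 2 → K))) = s • pInf →
      (s⁻¹ * g * s) 1 0 = 0 := by
    intro g hg
    rw [← fixed_pInf_iff, mul_smul, mul_smul, hg, inv_smul_smul]
  obtain ⟨h10, h00⟩ := comm_tri (key a ha) (key b hb)
  obtain ⟨h10', h00'⟩ := comm_tri (key c hc) (key d hd)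
  have hu := eq_uS_of _ h10 h00
  have hu' := eq_uS_of _ h10' h00'
  have e1 : a * b * a⁻¹ * b⁻¹ =
      s * ((s⁻¹ * a * s) * (s⁻¹ * b * s) * (s⁻¹ * a * s)⁻¹ * (s⁻¹ * b * s)⁻¹) * s⁻¹ := by group
  have e2 : c * d * c⁻¹ * d⁻¹ =
      s * ((s⁻¹ * c * s) * (s⁻¹ * d * s) * (s⁻¹ * c * s)⁻¹ * (s⁻¹ * d * s)⁻¹) * s⁻¹ := by group
  rw [e1, e2, hu, hu']
  have : ∀ t₁ t₂ : K, s * uS t₁ * s⁻¹ * (s * uS t₂ * s⁻¹) = s * uS t₂ * s⁻¹ * (s * uS t₁ * s⁻¹) := by
    intro t₁ t₂
    have h1 : s * uS t₁ * s⁻¹ * (s * uS t₂ * s⁻¹) = s * (uS t₁ * uS t₂) * s⁻¹ := by group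
    have h2 : s * uS t₂ * s⁻¹ * (s * uS t₁ * s⁻¹) = s * (uS t₂ * uS t₁) * s⁻¹ := by group
    rw [h1, h2, ← uS_add, ← uS_add, add_comm]
  exact this _ _

theorem solvable_of_fix (H : Subgroup (SpecialLinearGroup (Fin 2) K)) {w : ℙ K (Fin 2 → K)}
    (hw : ∀ g ∈ H, g • w = w) : Group.IsSolvable H := by
  apply solvable_of_comm_comm
  intro a b c d
  apply Subtype.ext
  simp only [Subgroup.coe_mul, Subgroup.coe_inv]
  exact comm_comm_fix (hw _ a.2) (hw _ b.2) (hw _ c.2) (hw _ d.2)

end fix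

variable {F : Type*} [Field F] [Fintype F]

theorem solvable_of_map (Ht : Subgroup (SpecialLinearGroup (Fin 2) F))
    (h : Group.IsSolvable (Ht.map (iota F (AlgebraicClosure F)))) : Group.IsSolvable Ht := by
  haveI := h
  exact Group.isSolvable_of_isSolvable_injective
    (f := (Subgroup.equivMapOfInjective Ht (iota F (AlgebraicClosure F)) iota_injective).toMonoidHom)
    (Subgroup.equivMapOfInjective Ht _ iota_injective).injective

theorem solvable_of_stab_half (H : Subgroup (SpecialLinearGroup (Fin 2) (AlgebraicClosure F)))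
    [Finite H] (hH : -1 ∈ H) (y : ℙ (AlgebraicClosure F) (Fin 2 → AlgebraicClosure F))
    (hN2 : N2 H y = 0) (hcard : Nat.card H = 2 * Nat.card (stabIn H y)) : Group.IsSolvable H := by
  have hSH : stabIn H y ≤ H := fun g hg => (mem_stabIn.mp hg).1
  apply solvable_of_half_comm ((stabIn H y).subgroupOf H)
  · rw [Nat.card_congr (Subgroup.subgroupOfEquivOfLe hSH).toEquiv]; exact hcard
  · intro a ha b hb
    apply Subtype.ext
    rw [Subgroup.mem_subgroupOf] at ha hb
    exact stab_comm H hH y hN2 ha hb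

/-- a subgroup of `SL₂(F)` containing `-1` is solvable, or has parabolic data with `q₁ ≠ 2`,
or has order `60 z` -/
theorem solvable_or (Ht : Subgroup (SpecialLinearGroup (Fin 2) F)) (hneg : -1 ∈ Ht) :
    Group.IsSolvable Ht ∨
    (∃ q₁ c k s n : ℕ, Par (Fintype.card F) (zc (AlgebraicClosure F)) q₁ c k s n (Nat.card Ht) ∧
      q₁ ≠ 2) ∨
    Nat.card Ht = zc (AlgebraicClosure F) * 60 := by
  classical
  set H := Ht.map (iota F (AlgebraicClosure F)) with hHdef
  have hH' : -1 ∈ H := neg_one_mem_map hneg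
  have hcH : Nat.card H = Nat.card Ht := card_map_iota Ht
  have hz12 : zc (AlgebraicClosure F) = 1 ∨ zc (AlgebraicClosure F) = 2 := by
    rcases zc_cases (AlgebraicClosure F) with ⟨h, _⟩ | ⟨h, _⟩ <;> omega
  by_cases hpar : ∃ y, N2 H y ≠ 0
  · rcases nd_par2 (K := AlgebraicClosure F) Ht hneg hpar with ⟨w, hw⟩ |
      ⟨q₁, c, k, s, n, hPar, y₁, hN2, hst⟩
    · left
      exact solvable_of_map Ht (solvable_of_fix H hw)
    · by_cases hq2 : q₁ = 2
      · left
        apply solvable_of_map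
        apply solvable_of_stab_half H hH' y₁ hN2
        obtain ⟨h2, hdvd, hc1, hcq, hs2, hk1, hn, heq, hN, hzs, hcases⟩ := hPar
        subst hq2
        have hc : c = 1 := by omega
        subst hc
        rw [hst, hcH, hN]
        have : n = s := by
          have e : (2 : ℕ) - 2 = 0 := rfl
          rw [e, mul_zero, add_zero] at heq
          omega
        rw [this]; ring
      · right; left
        exact ⟨q₁, c, k, s, n, hPar, hq2⟩
  · push Not at hpar
    rcases pprime_z H hH' hpar with ⟨w, hw⟩ | ⟨y₁, y₂, y₃, s₁, s₂, s₃, hb, hPoly⟩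
    · left
      exact solvable_of_map Ht (solvable_of_fix H hw)
    · obtain ⟨-, -, hy₃, -, -, -, -, hc1, hc2, hc3, hcard, htyp⟩ := hPoly
      obtain ⟨hs1, htyp⟩ := htyp
      rcases htyp with ⟨hs2, hhb, hs3⟩ | ⟨-, -, hhb⟩ | ⟨-, -, hhb⟩ | ⟨-, -, hhb⟩
      · left
        apply solvable_of_map
        apply solvable_of_stab_half H hH' y₃ (hpar y₃)
        rw [hcard, hc3, hhb]; ring
      · left
        apply solvable_of_map
        rcases hz12 with hz | hz
        · exact solvable_of_card_two_pow_mul_three 2 (by rw [hcard, hz, hhb]; norm_num)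
        · exact solvable_of_card_two_pow_mul_three 3 (by rw [hcard, hz, hhb]; norm_num)
      · left
        apply solvable_of_map
        rcases hz12 with hz | hz
        · exact solvable_of_card_two_pow_mul_three 3 (by rw [hcard, hz, hhb]; norm_num)
        · exact solvable_of_card_two_pow_mul_three 4 (by rw [hcard, hz, hhb]; norm_num)
      · right; right
        rw [← hcH, hcard, hhb]

end Cfsg.Agent.helper4.Dn
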