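import Mathlib
import Cfsg.Agent.Lib_helper4_DnY

set_option autoImplicit false
set_option linter.unusedSectionVars false
set_option linter.style.haveILetI false
set_option maxHeartbeats 1600000

/-!
# Proper subgroups of `SL₂(q)` for `q` in Thompson's list are solvable
-/

namespace Cfsg.Agent.helper4.Dn

open Matrix
open scoped LinearAlgebra.Projectivization MatrixGroups
open Cfsg.Agent.helper4.Dk

theorem four_pow_mod {r : ℕ} (h : 4 ^ r % 5 = 1) : Even r := by
  by_contra hodd
  rw [Nat.not_even_iff_odd] at hodd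
  obtain ⟨j, rfl⟩ := hodd
  have : 4 ^ (2 * j + 1) = 16 ^ j * 4 := by rw [pow_succ, pow_mul]; norm_num
  rw [this, Nat.mul_mod, Nat.pow_mod] at h
  norm_num at h

/-- Par data in characteristic 2 -/
theorem par_even {r q₁ c k s n N : ℕ} (h : Par (2 ^ r) 1 q₁ c k s n N) (hq2 : q₁ ≠ 2) :
    ∃ a, 2 ≤ a ∧ q₁ = 2 ^ a ∧ N = (q₁ + 1) * q₁ * (q₁ - 1) ∧
      (q₁ + 1 ∣ 2 ^ r - 1 ∨ q₁ + 1 ∣ 2 ^ r + 1) := by
  obtain ⟨h2, hdvd, hc1, hcq, hs2, hk1, hn, heq, hN, hzs, hcases⟩ := h
  obtain ⟨a, ha_le, rfl⟩ := (Nat.dvd_prime_pow Nat.prime_two).mp hdvd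
  have ha2 : 2 ≤ a := by
    by_contra hlt
    push Not at hlt
    interval_cases a
    · norm_num at h2
    · norm_num at hq2
  have h4 : 4 ∣ 2 ^ a := by
    have : (2 : ℕ) ^ 2 ∣ 2 ^ a := pow_dvd_pow 2 ha2
    exact this
  obtain ⟨t, ht⟩ := h4
  have ht1 : 1 ≤ t := by
    rcases Nat.eq_zero_or_pos t with h0 | h0
    · rw [h0, mul_zero] at ht; omega
    · exact h0
  refine ⟨a, ha2, rfl, ?_⟩
  rcases hcases with h | h | ⟨h3, -⟩
  · exact absurd h hq2
  · subst h
    rw [ht] at hn heq hN hcq ⊢
    subst hn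
    obtain ⟨m, hm⟩ : ∃ m, 4 * t = m + 2 := ⟨4 * t - 2, by omega⟩
    rw [hm] at heq hN hcq ⊢
    have e1 : m + 2 - 2 = m := by omega
    rw [e1] at heq
    have h3 : (m + 3) * c = s * (m + 1) := by
      have : (m + 2) * ((m + 3) * c) = (m + 2) * (s * (m + 1)) := by
        calc (m + 2) * ((m + 3) * c) = (1 + 1 * (m + 2)) * (m + 2) * c := by ring
          _ = s * (2 + (1 + 1 * (m + 2)) * m) := heq
          _ = (m + 2) * (s * (m + 1)) := by ring
      exact Nat.eq_of_mul_eq_mul_left (by omega) this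
    have hcop : Nat.Coprime (m + 1) (m + 3) := by
      have hmodd : Odd (m + 1) := by
        have : m + 1 = 2 * (2 * t - 1) + 1 := by omega
        exact ⟨_, this⟩
      have e : m + 3 = (m + 1) + 2 := by ring
      rw [e, Nat.coprime_self_add_right]
      exact (Nat.coprime_two_left.mpr hmodd).symm
    have hdc : (m + 1) ∣ c := by
      apply hcop.dvd_of_dvd_mul_left
      rw [h3]
      exact dvd_mul_left _ _
    obtain ⟨j, hj⟩ := hdc
    have hj1 : j = 1 := by
      have h1 : 1 ≤ j := by
        rcases Nat.eq_zero_or_pos j with h0 | h0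
        · rw [h0, mul_zero] at hj; omega
        · exact h0
      have h2' : j ≤ 1 := by
        by_contra hlt
        push Not at hlt
        have : (m + 1) * 2 ≤ (m + 1) * j := Nat.mul_le_mul_left _ hlt
        omega
      omega
    rw [hj1, mul_one] at hj
    subst hj
    have hs : s = m + 3 := by
      have : (m + 1) * s = (m + 1) * (m + 3) := by
        calc (m + 1) * s = s * (m + 1) := by ring
          _ = (m + 3) * (m + 1) := h3.symm
          _ = (m + 1) * (m + 3) := by ring
      exact Nat.eq_of_mul_eq_mul_left (by omega) this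
    subst hs
    have e2 : m + 2 - 1 = m + 1 := by omega
    refine ⟨?_, ?_⟩
    · rw [hN, e2]; ring
    · rw [one_mul] at hzs
      have : m + 2 + 1 = m + 3 := by ring
      rw [this]; exact hzs
  · exfalso
    rw [ht] at h3
    omega

variable {F : Type*} [Field F] [Fintype F]

theorem zc_of_even (K : Type*) [Field K] [Algebra F K] (h : 2 ∣ Fintype.card F) : zc K = 1 := by
  rcases zc_cases K with ⟨hz, _⟩ | ⟨hz, _⟩
  · exact absurd h (zc_eq_two_imp (F := F) (K := K) hz)
  · exact hz

/-- the list of `q` for which `PSL₂(q)` is minimal simple -/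
def TList (q : ℕ) : Prop :=
  (∃ r : ℕ, r.Prime ∧ q = 2 ^ r) ∨ (∃ r : ℕ, r.Prime ∧ r ≠ 2 ∧ q = 3 ^ r) ∨
    (q.Prime ∧ 5 < q ∧ (q % 5 = 2 ∨ q % 5 = 3)) ∨ q = 5

theorem proper_solvable (hq : TList (Fintype.card F))
    (Ht : Subgroup (SpecialLinearGroup (Fin 2) F)) (hneg : -1 ∈ Ht) (hne : Ht ≠ ⊤) :
    Group.IsSolvable Ht := by
  classical
  have hdS := card_dvd_SL2' Ht
  have hlt : Nat.card Ht < Fintype.card F * (Fintype.card F ^ 2 - 1) := by
    by_contra hge
    push Not at hge
    exact hne (top_of_card_ge Ht hge)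
  have hq2' : 2 ≤ Fintype.card F := Fintype.one_lt_card
  have hsqpos : 1 ≤ Fintype.card F ^ 2 := Nat.one_le_pow _ _ (by omega)
  rcases solvable_or Ht hneg with h | ⟨q₁, c, k, s, n, hPar, hq2⟩ | h60
  · exact h
  · rcases hq with ⟨r, hr, hqr⟩ | ⟨r, hr, hr2, hqr⟩ | ⟨hp, h5, hmod⟩ | h5
    · -- `q = 2^r`
      exfalso
      have hz : zc (AlgebraicClosure F) = 1 :=
        zc_of_even _ (by rw [hqr]; exact dvd_pow_self 2 hr.ne_zero)
      rw [hz, hqr] at hPar
      obtain ⟨a, ha2, rfl, hN, hs⟩ := par_even hPar hq2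
      have hdiv : a ∣ r := by
        apply dvd_of_pow_add_one_dvd (le_refl 2) (by omega)
        have hpos : 1 ≤ 2 ^ r := Nat.one_le_pow _ _ (by norm_num)
        have e : 2 ^ (2 * r) - 1 = (2 ^ r - 1) * (2 ^ r + 1) := by
          obtain ⟨Y, hY⟩ : ∃ Y, 2 ^ r = Y + 1 := ⟨2 ^ r - 1, by omega⟩
          rw [mul_comm 2, pow_mul, hY]
          have : (Y + 1) ^ 2 = Y * (Y + 1 + 1) + 1 := by ring
          rw [this]
          simp
        rw [e]
        rcases hs with h | h
        · exact h.mul_right _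
        · exact h.mul_left _
      rcases (Nat.dvd_prime hr).mp hdiv with h1 | h1
      · omega
      · rw [h1, x_cube_id _ (Nat.one_le_pow _ _ (by norm_num))] at hN
        rw [hqr, hN] at hlt
        omega
    · -- `q = 3^r`
      have hodd : Odd (Fintype.card F) := by rw [hqr]; exact (by decide : Odd 3).pow
      have hrodd : Odd r := hr.odd_of_ne_two hr2
      rw [zc_of_odd _ hodd, hqr] at hPar
      have key : ∀ q₁, 3 ≤ q₁ → q₁ ∣ 3 ^ r → (q₁ + 1 ∣ 3 ^ r - 1 ∨ q₁ + 1 ∣ 3 ^ r + 1) →
          q₁ = 3 ∨ q₁ = 3 ^ r := by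
        intro q₁ h3 hd hs
        obtain ⟨a, ha_le, rfl⟩ := (Nat.dvd_prime_pow Nat.prime_three).mp hd
        have ha1 : 1 ≤ a := by
          rcases Nat.eq_zero_or_pos a with h0 | h0
          · rw [h0, pow_zero] at h3; omega
          · exact h0
        have hdiv : a ∣ r := by
          apply dvd_of_pow_add_one_dvd (by norm_num : 2 ≤ 3) ha1
          have hpos : 1 ≤ 3 ^ r := Nat.one_le_pow _ _ (by norm_num)
          have e : 3 ^ (2 * r) - 1 = (3 ^ r - 1) * (3 ^ r + 1) := by
            obtain ⟨Y, hY⟩ : ∃ Y, 3 ^ r = Y + 1 := ⟨3 ^ r - 1, by omega⟩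
            rw [mul_comm 2, pow_mul, hY]
            have : (Y + 1) ^ 2 = Y * (Y + 1 + 1) + 1 := by ring
            rw [this]
            simp
          rw [e]
          rcases hs with h | h
          · exact h.mul_right _
          · exact h.mul_left _
        rcases (Nat.dvd_prime hr).mp hdiv with h1 | h1
        · left; rw [h1, pow_one]
        · right; rw [h1]
      rcases par_odd (by rw [← hqr]; exact hodd) hPar with ⟨h3, hN, h10⟩ | ⟨h3, hq₁, hN, hs⟩ |
        ⟨h3, hq₁, hN, hs⟩
      · exfalso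
        have h37 := three_pow_mod hrodd
        obtain ⟨Y, hY⟩ : ∃ Y, Y = 3 ^ r := ⟨_, rfl⟩
        rw [← hY] at h10 h37
        rcases h37 with h | h <;> rcases h10 with h' | h' <;> omega
      · rcases key q₁ h3 hq₁ hs with h | h
        · rw [h] at hN
          exact solvable_of_card_two_pow_mul_three 3 (by rw [hN]; norm_num)
        · exfalso
          rw [h, x_cube_id _ (Nat.one_le_pow _ _ (by norm_num))] at hN
          rw [hqr, hN] at hlt
          omega
      · have hs' : q₁ + 1 ∣ 3 ^ r - 1 ∨ q₁ + 1 ∣ 3 ^ r + 1 := by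
          rcases hs with h | h
          · left; exact (dvd_mul_left _ 2).trans h
          · right; exact (dvd_mul_left _ 2).trans h
        rcases key q₁ h3 hq₁ hs' with h | h
        · rw [h] at hN
          exact solvable_of_card_two_pow_mul_three 4 (by rw [hN]; norm_num)
        · exfalso
          rw [h, x_cube_id _ (Nat.one_le_pow _ _ (by norm_num))] at hN
          rw [hqr, hN] at hlt
          omega
    · exfalso
      have hodd : Odd (Fintype.card F) := hp.odd_of_ne_two (by omega)
      rw [zc_of_odd _ hodd] at hPar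
      have := par_prime hp (by omega) hPar
      omega
    · exfalso
      have hodd : Odd (Fintype.card F) := by rw [h5]; decide
      rw [zc_of_odd _ hodd, h5] at hPar
      have := par_prime Nat.prime_five (le_refl 5) hPar
      rw [h5] at hlt
      omega
  · exfalso
    rw [h60] at hdS hlt
    rcases hq with ⟨r, hr, hqr⟩ | ⟨r, hr, hr2, hqr⟩ | ⟨hp, h5, hmod⟩ | h5
    · have hz : zc (AlgebraicClosure F) = 1 :=
        zc_of_even _ (by rw [hqr]; exact dvd_pow_self 2 hr.ne_zero)
      rw [hz, one_mul] at hdS hlt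
      have h5d : 5 ∣ Fintype.card F * (Fintype.card F ^ 2 - 1) := (by norm_num : 5 ∣ 60).trans hdS
      have hcop : Nat.Coprime 5 (Fintype.card F) := by
        rw [hqr]
        exact Nat.Coprime.pow_right r (by norm_num)
      obtain ⟨t, ht⟩ := hcop.dvd_of_dvd_mul_left h5d
      have h4 : Fintype.card F ^ 2 % 5 = 1 := by omega
      have h4' : 4 ^ r % 5 = 1 := by
        rw [hqr, ← pow_mul, mul_comm, pow_mul] at h4
        exact h4
      have hev := four_pow_mod h4'
      have hr2 : r = 2 := by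
        obtain ⟨j, hj⟩ := hev
        have : 2 ∣ r := ⟨j, by omega⟩
        exact ((Nat.prime_dvd_prime_iff_eq Nat.prime_two hr).mp this).symm
      rw [hqr, hr2] at hlt
      norm_num at hlt
    · have hodd : Odd (Fintype.card F) := by rw [hqr]; exact (by decide : Odd 3).pow
      have hrodd : Odd r := hr.odd_of_ne_two hr2
      rw [zc_of_odd _ hodd] at hdS
      have h5d : 5 ∣ Fintype.card F * (Fintype.card F ^ 2 - 1) := (by norm_num : 5 ∣ 2 * 60).trans hdS
      have hcop : Nat.Coprime 5 (Fintype.card F) := by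
        rw [hqr]
        exact Nat.Coprime.pow_right r (by norm_num)
      obtain ⟨t, ht⟩ := hcop.dvd_of_dvd_mul_left h5d
      have h4 : Fintype.card F ^ 2 % 5 = 1 := by omega
      have h4' : 4 ^ r % 5 = 1 := by
        rw [hqr, ← pow_mul, mul_comm, pow_mul, Nat.pow_mod] at h4
        exact h4
      have hev := four_pow_mod h4'
      exact (Nat.not_even_iff_odd.mpr hrodd) hev
    · have hodd : Odd (Fintype.card F) := hp.odd_of_ne_two (by omega)
      rw [zc_of_odd _ hodd] at hdS
      have h5d : 5 ∣ Fintype.card F * (Fintype.card F ^ 2 - 1) := (by norm_num : 5 ∣ 2 * 60).trans hdS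
      rcases (Nat.Prime.dvd_mul Nat.prime_five).mp h5d with h' | h'
      · have : Fintype.card F = 5 := ((Nat.prime_dvd_prime_iff_eq Nat.prime_five hp).mp h').symm
        omega
      · obtain ⟨t, ht⟩ := h'
        have h4 : Fintype.card F ^ 2 % 5 = 1 := by omega
        rw [Nat.pow_mod] at h4
        rcases hmod with h | h <;> rw [h] at h4 <;> norm_num at h4
    · have hodd : Odd (Fintype.card F) := by rw [h5]; decide
      rw [zc_of_odd _ hodd, h5] at hlt
      norm_num at hlt

end Cfsg.Agent.helper4.Dn
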