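import Cfsg.Statements.S0804
import Cfsg.Agent.Lib_helper11_A5inPSL2
import Cfsg.Agent.Lib_helper12_Card
import Cfsg.Agent.S0243

set_option autoImplicit false
open Cfsg

namespace Cfsg.Agent.S0804

open Matrix Polynomial
open Cfsg.Agent.helper11.A5inPSL2

variable {F : Type*} [Field F]

/-- Cayley–Hamilton for `2 × 2` matrices -/
theorem ch2 (M : Matrix (Fin 2) (Fin 2) F) : M * M = (M 0 0 + M 1 1) • M - M.det • 1 := by
  ext i j
  fin_cases i <;> fin_cases j <;>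
    simp [Matrix.mul_apply, Fin.sum_univ_two, Matrix.det_fin_two] <;> ring

/-- fifth power of a `2 × 2` matrix with `M² = t M - 1` -/
theorem pow5 (M : Matrix (Fin 2) (Fin 2) F) (t : F) (h : M * M = t • M - 1) :
    M ^ 5 = (t ^ 4 - 3 * t ^ 2 + 1) • M - (t ^ 3 - 2 * t) • 1 := by
  have h2 : M ^ 2 = t • M - 1 := by rw [sq, h]
  have h3 : M ^ 3 = (t ^ 2 - 1) • M - t • 1 := by
    rw [pow_succ, h2, sub_mul, smul_mul_assoc, one_mul, h]; module
  have h4 : M ^ 4 = (t ^ 3 - 2 * t) • M - (t ^ 2 - 1) • 1 := by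
    rw [pow_succ, h3, sub_mul, smul_mul_assoc, smul_mul_assoc, one_mul, h]; module
  rw [pow_succ, h4, sub_mul, smul_mul_assoc, smul_mul_assoc, one_mul, h]; module

theorem sl_sq (Y : SpecialLinearGroup (Fin 2) F) :
    (Y : Matrix (Fin 2) (Fin 2) F) * (Y : Matrix (Fin 2) (Fin 2) F)
      = (Y.1 0 0 + Y.1 1 1) • (Y : Matrix (Fin 2) (Fin 2) F) - 1 := by
  rw [ch2, Y.2, one_smul]

/-- the trace of an element of order five yields a golden ratio -/
theorem exists_tau (Y : SpecialLinearGroup (Fin 2) F) (hY : orderOf Y = 5) :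
    ∃ τ : F, τ ^ 2 + τ - 1 = 0 := by
  obtain ⟨t, ht⟩ : ∃ t : F, t = Y.1 0 0 + Y.1 1 1 := ⟨_, rfl⟩
  have hsq := sl_sq Y
  rw [← ht] at hsq
  have h := pow5 Y.1 t hsq
  have h5 : (Y : Matrix (Fin 2) (Fin 2) F) ^ 5 = 1 := by
    have h1 := pow_orderOf_eq_one Y
    rw [hY] at h1
    have h2 := congrArg Subtype.val h1
    rwa [Matrix.SpecialLinearGroup.coe_pow, Matrix.SpecialLinearGroup.coe_one] at h2
  rw [h5] at h
  by_cases ha : t ^ 4 - 3 * t ^ 2 + 1 = 0
  · have h0 : (t ^ 2 + t - 1) * (t ^ 2 - t - 1) = 0 := by linear_combination ha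
    rcases mul_eq_zero.mp h0 with h1 | h1
    · exact ⟨t, h1⟩
    · exact ⟨-t, by linear_combination h1⟩
  · exfalso
    obtain ⟨a, haa⟩ : ∃ a : F, a = t ^ 4 - 3 * t ^ 2 + 1 := ⟨_, rfl⟩
    obtain ⟨b, hbb⟩ : ∃ b : F, b = t ^ 3 - 2 * t := ⟨_, rfl⟩
    rw [← haa] at ha
    rw [← haa, ← hbb] at h
    have hc : (Y : Matrix (Fin 2) (Fin 2) F) = (a⁻¹ * (1 + b)) • 1 := by
      have h1 : a • (Y : Matrix (Fin 2) (Fin 2) F) = (1 + b) • 1 := by
        rw [add_smul, one_smul]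
        exact sub_eq_iff_eq_add.mp h.symm
      rw [mul_smul, ← h1, smul_smul, inv_mul_cancel₀ ha, one_smul]
    obtain ⟨c, hcc⟩ : ∃ c : F, c = a⁻¹ * (1 + b) := ⟨_, rfl⟩
    rw [← hcc] at hc
    have hdet : c ^ 2 = 1 := by
      have h1 := Y.2
      rw [hc, Matrix.det_smul, Matrix.det_one, mul_one, Fintype.card_fin] at h1
      exact h1
    have hY2 : Y ^ 2 = 1 := by
      apply sl_ext
      rw [Matrix.SpecialLinearGroup.coe_pow, Matrix.SpecialLinearGroup.coe_one, hc, _root_.smul_pow,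
        one_pow, hdet, one_smul]
    have hd := orderOf_dvd_of_pow_eq_one hY2
    rw [hY] at hd
    omega

/-- a point on the relevant conic -/
theorem exists_conic [Fintype F] (τ : F) (hτ : τ ^ 2 + τ - 1 = 0) :
    ∃ y3 y4 : F, y4 ^ 2 + y3 * y4 + y3 ^ 2 - τ * y4 + 1 = 0 := by
  by_cases h2 : (2 : F) = 0
  · exact ⟨1, 0, by linear_combination h2⟩
  by_cases h3 : (3 : F) = 0
  · have hτ0 : τ ≠ 0 := by
      rintro rfl
      simp at hτ
    refine ⟨τ⁻¹, τ⁻¹, ?_⟩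
    have h1 : τ * τ⁻¹ = 1 := mul_inv_cancel₀ hτ0
    linear_combination (τ⁻¹ ^ 2) * h3 - h1
  · have hchar : ringChar F ≠ 2 := by
      intro h
      apply h2
      have h1 := (ringChar.spec F 2).mpr (by rw [h])
      exact_mod_cast h1
    have hodd : Fintype.card F % 2 = 1 := FiniteField.odd_card_of_char_ne_two hchar
    obtain ⟨i2, hi2⟩ : ∃ i2 : F, 2 * i2 = 1 := ⟨2⁻¹, mul_inv_cancel₀ h2⟩
    have hi20 : i2 ≠ 0 := by
      rintro rfl
      simp at hi2
    have hg : degree (C (3 * i2 ^ 2) * X ^ 2 + C (-τ) * X + C (1 : F)) = 2 :=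
      degree_quadratic (mul_ne_zero h3 (pow_ne_zero 2 hi20))
    obtain ⟨u, y4, h⟩ := FiniteField.exists_root_sum_quadratic (f := (X : F[X]) ^ 2)
      (degree_X_pow 2) hg hodd
    simp only [eval_add, eval_mul, eval_pow, eval_C, eval_X] at h
    refine ⟨u - y4 * i2, y4, ?_⟩
    linear_combination h - ((i2 + 1) * y4 ^ 2 + u * y4) * hi2

/-- `A₅` embeds into `PSL₂(F)` as soon as `F` contains a golden ratio -/
theorem exists_A5 [Fintype F] (τ : F) (hτ : τ ^ 2 + τ - 1 = 0) :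
    ∃ ψ : alternatingGroup (Fin 5) →* Matrix.ProjectiveSpecialLinearGroup (Fin 2) F,
      Function.Injective ψ := by
  obtain ⟨y3, y4, h⟩ := exists_conic τ hτ
  obtain ⟨Y, hYd⟩ : ∃ Y : SpecialLinearGroup (Fin 2) F,
      (Y : Matrix (Fin 2) (Fin 2) F) = !![τ - y4, y3 + y4; y3, y4] :=
    ⟨⟨!![τ - y4, y3 + y4; y3, y4], by rw [det_fin_two_of]; linear_combination (-1 : F) * h⟩, rfl⟩
  have htr : Y.1 0 0 + Y.1 1 1 = τ := by
    have : Y.1 = !![τ - y4, y3 + y4; y3, y4] := hYd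
    rw [this]; simp
  have hsq := sl_sq Y
  rw [htr] at hsq
  have hY5 : Y ^ 5 = 1 := by
    apply sl_ext
    rw [Matrix.SpecialLinearGroup.coe_pow, Matrix.SpecialLinearGroup.coe_one, pow5 _ τ hsq]
    have h1 : τ ^ 4 - 3 * τ ^ 2 + 1 = 0 := by linear_combination (τ ^ 2 - τ - 1) * hτ
    have h2 : τ ^ 3 - 2 * τ = -1 := by linear_combination (τ - 1) * hτ
    rw [h1, h2, zero_smul, zero_sub, neg_smul, one_smul, neg_neg]
  have htrZ : (xS * Y : SpecialLinearGroup (Fin 2) F).1 0 0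
      + (xS * Y : SpecialLinearGroup (Fin 2) F).1 1 1 = 0 := by
    have h1 : (xS * Y : SpecialLinearGroup (Fin 2) F).1
        = !![0, -1; 1, -1] * !![τ - y4, y3 + y4; y3, y4] := by
      show ((xS * Y : SpecialLinearGroup (Fin 2) F) : Matrix (Fin 2) (Fin 2) F) = _
      rw [Matrix.SpecialLinearGroup.coe_mul, coe_xS, hYd]
    rw [h1]
    simp [Matrix.mul_apply, Fin.sum_univ_two]
  have hXY : (xS * Y) ^ 2 = -1 := by
    apply sl_ext
    rw [Matrix.SpecialLinearGroup.coe_pow, sq, sl_sq, htrZ, zero_smul, zero_sub,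
      Matrix.SpecialLinearGroup.coe_neg, Matrix.SpecialLinearGroup.coe_one]
  exact exists_injective_of_triple xS Y xS_pow hY5 hXY xS_not_mem_center

/-- PSL_2(q) has a subgroup isomorphic to A_5 iff 5 ∣ q(q² − 1). -/
theorem result {F : Type*} [Field F] [Fintype F] {q : ℕ} (hF : Fintype.card F = q) : (∃ H : Subgroup (Matrix.ProjectiveSpecialLinearGroup (Fin 2) F), Nonempty (H ≃* alternatingGroup (Fin 5))) ↔ 5 ∣ q * (q ^ 2 - 1) := by
  have hq2 : 2 ≤ q := by rw [← hF]; exact Fintype.one_lt_card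
  constructor
  · rintro ⟨H, ⟨e⟩⟩
    have h60 : Nat.card H = 60 := by
      rw [Nat.card_congr e.toEquiv, nat_card_alternatingGroup]
      simp
      decide
    have hdvd : 60 ∣ Nat.card (Matrix.ProjectiveSpecialLinearGroup (Fin 2) F) :=
      h60 ▸ Subgroup.card_subgroup_dvd_card H
    have h5 : 5 ∣ Nat.card (Matrix.ProjectiveSpecialLinearGroup (Fin 2) F) :=
      dvd_trans (by norm_num) hdvd
    have h := Cfsg.Agent.S0243.result hF 2 (le_refl 2)
    rw [Fin.prod_univ_two] at h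
    have h5' : 5 ∣ (q ^ 2 - q ^ ((0 : Fin 2) : ℕ)) * (q ^ 2 - q ^ ((1 : Fin 2) : ℕ)) := by
      rw [← h]
      exact dvd_mul_of_dvd_right (dvd_mul_of_dvd_right h5 _) _
    obtain ⟨k, rfl⟩ : ∃ k, q = k + 2 := ⟨q - 2, by omega⟩
    have e1 : (k + 2) ^ 2 - (k + 2) ^ ((0 : Fin 2) : ℕ) = (k + 1) * (k + 3) := by
      simp only [Fin.val_zero, pow_zero]
      exact Nat.sub_eq_of_eq_add (by ring)
    have e2 : (k + 2) ^ 2 - (k + 2) ^ ((1 : Fin 2) : ℕ) = (k + 2) * (k + 1) := by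
      simp only [Fin.val_one, pow_one]
      exact Nat.sub_eq_of_eq_add (by ring)
    have e3 : (k + 2) ^ 2 - 1 = (k + 1) * (k + 3) := Nat.sub_eq_of_eq_add (by ring)
    rw [e1, e2] at h5'
    rw [e3]
    have hp : Nat.Prime 5 := by norm_num
    rcases (Nat.Prime.dvd_mul hp).mp h5' with h1 | h1
    · exact dvd_mul_of_dvd_right h1 _
    · rcases (Nat.Prime.dvd_mul hp).mp h1 with h2 | h2
      · exact dvd_mul_of_dvd_left h2 _
      · exact dvd_mul_of_dvd_right (dvd_mul_of_dvd_left h2 _) _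
  · intro h5
    have hcard := Cfsg.Agent.helper12.card_SL2 (F := F)
    rw [hF] at hcard
    have : Fact (Nat.Prime 5) := ⟨by norm_num⟩
    obtain ⟨Y₀, hY₀⟩ := exists_prime_orderOf_dvd_card'
      (G := Matrix.SpecialLinearGroup (Fin 2) F) 5 (by rw [hcard]; exact h5)
    obtain ⟨τ, hτ⟩ := exists_tau Y₀ hY₀
    obtain ⟨ψ, hψ⟩ := exists_A5 τ hτ
    exact ⟨ψ.range, ⟨(MonoidHom.ofInjective hψ).symm⟩⟩

end Cfsg.Agent.S0804
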