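import Cfsg.Statements.S0805
-- import your own Cfsg.Agent.* helpers here
import Mathlib
import Cfsg.Agent.Lib_helper12_Card
import Cfsg.Agent.Lib_helper2_Classical

set_option autoImplicit false
open Cfsg

namespace Cfsg.Agent.S0805

open Matrix

section emb
variable {F K : Type*} [Field F] [Fintype F] [Field K] [Fintype K]

theorem exists_ringHom (m : ℕ) (hK : Fintype.card K ^ m = Fintype.card F) :
    Nonempty (K →+* F) := by
  obtain ⟨p, hpK⟩ := CharP.exists K
  have hp : p.Prime := CharP.char_is_prime K p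
  haveI : Fact p.Prime := ⟨hp⟩
  obtain ⟨n, -, hn⟩ := FiniteField.card K p
  obtain ⟨p', hpF⟩ := CharP.exists F
  have hp' : p'.Prime := CharP.char_is_prime F p'
  obtain ⟨n', -, hn'⟩ := FiniteField.card F p'
  have hpp : p = p' := by
    rw [hn, hn', ← pow_mul] at hK
    have h1 : p ∣ p' ^ (n' : ℕ) := by
      rw [← hK]
      exact dvd_pow_self p (Nat.mul_ne_zero n.ne_zero (by
        rintro rfl
        rw [mul_zero, pow_zero] at hK
        have : 1 < p' ^ (n' : ℕ) := Nat.one_lt_pow n'.ne_zero hp'.one_lt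
        omega))
    exact (Nat.prime_dvd_prime_iff_eq hp hp').mp (hp.dvd_of_dvd_pow h1)
  subst hpp
  letI : Algebra (ZMod p) K := ZMod.algebra K p
  letI : Algebra (ZMod p) F := ZMod.algebra F p
  have h1 : p ^ Module.finrank (ZMod p) K = Fintype.card K := FiniteField.pow_finrank_eq_card p K
  have h2 : p ^ Module.finrank (ZMod p) F = Fintype.card F := FiniteField.pow_finrank_eq_card p F
  have h3 : Module.finrank (ZMod p) K * m = Module.finrank (ZMod p) F := by
    rw [← h1, ← h2, ← pow_mul] at hK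
    exact Nat.pow_right_injective hp.two_le hK
  obtain ⟨f⟩ := FiniteField.nonempty_algHom_of_finrank_dvd (F := ZMod p) (K := K) (L := F)
    ⟨m, h3.symm⟩
  exact ⟨f.toRingHom⟩

end emb

section partA
variable {F K : Type*} [Field F] [Field K] (ι : K →+* F)

theorem ker_sl_map :
    ((QuotientGroup.mk' (Subgroup.center (SpecialLinearGroup (Fin 2) F))).comp
      (SpecialLinearGroup.map ι)).ker = Subgroup.center (SpecialLinearGroup (Fin 2) K) := by
  ext A
  rw [MonoidHom.mem_ker, MonoidHom.comp_apply, QuotientGroup.mk'_apply, QuotientGroup.eq_one_iff,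
    Matrix.SpecialLinearGroup.mem_center_iff, Matrix.SpecialLinearGroup.mem_center_iff]
  constructor
  · rintro ⟨r, hr, hrA⟩
    rw [Matrix.SpecialLinearGroup.map_apply_coe] at hrA
    have h00 := congrFun (congrFun hrA 0) 0
    have h01 := congrFun (congrFun hrA 0) 1
    have h10 := congrFun (congrFun hrA 1) 0
    have h11 := congrFun (congrFun hrA 1) 1
    simp only [Matrix.scalar_apply, Matrix.diagonal_apply_eq, RingHom.mapMatrix_apply,
      Matrix.map_apply] at h00 h11
    rw [Matrix.scalar_apply, Matrix.diagonal_apply_ne _ (by decide), RingHom.mapMatrix_apply,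
      Matrix.map_apply] at h01 h10
    have e01 : (A : Matrix (Fin 2) (Fin 2) K) 0 1 = 0 := ι.injective (by rw [← h01, map_zero])
    have e10 : (A : Matrix (Fin 2) (Fin 2) K) 1 0 = 0 := ι.injective (by rw [← h10, map_zero])
    have e11 : (A : Matrix (Fin 2) (Fin 2) K) 1 1 = (A : Matrix (Fin 2) (Fin 2) K) 0 0 :=
      ι.injective (by rw [← h00, ← h11])
    refine ⟨(A : Matrix (Fin 2) (Fin 2) K) 0 0, ?_, ?_⟩
    · apply ι.injective
      rw [map_pow, ← h00, hr, map_one]
    · ext i j
      fin_cases i <;> fin_cases j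
      · simp
      · simp [e01]
      · simp [e10]
      · simp [e11]
  · rintro ⟨r, hr, hrA⟩
    refine ⟨ι r, by rw [← map_pow, hr, map_one], ?_⟩
    rw [Matrix.SpecialLinearGroup.map_apply_coe, ← hrA]
    ext i j
    simp only [RingHom.mapMatrix_apply, Matrix.map_apply, Matrix.scalar_apply, Matrix.diagonal_apply]
    split_ifs <;> simp

theorem partA (ι : K →+* F) : ∃ H : Subgroup (Matrix.ProjectiveSpecialLinearGroup (Fin 2) F),
    Nonempty (H ≃* Matrix.ProjectiveSpecialLinearGroup (Fin 2) K) := by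
  refine ⟨((QuotientGroup.mk' (Subgroup.center (SpecialLinearGroup (Fin 2) F))).comp
      (SpecialLinearGroup.map ι)).range, ⟨?_⟩⟩
  exact ((QuotientGroup.quotientMulEquivOfEq (ker_sl_map ι).symm).trans
    (QuotientGroup.quotientKerEquivRange _)).symm

end partA

section partB
variable {F K : Type*} [Field F] [Field K] (ι : K →+* F)

open scoped MatrixGroups

theorem ker_gl_map :
    ((ProjGenLinGroup.mk : GL (Fin 2) F →* ProjGenLinGroup (Fin 2) F).comp
      (GeneralLinearGroup.map ι)).ker = Subgroup.center (GL (Fin 2) K) := by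
  ext g
  rw [MonoidHom.mem_ker, MonoidHom.comp_apply, ProjGenLinGroup.mk_eq_one,
    GeneralLinearGroup.center_eq_range_scalar, GeneralLinearGroup.center_eq_range_scalar]
  constructor
  · rintro ⟨u, hu⟩
    have h : ∀ i j, ((GeneralLinearGroup.scalar (Fin 2) u : GL (Fin 2) F) : Matrix (Fin 2) (Fin 2) F) i j =
        ι ((g : Matrix (Fin 2) (Fin 2) K) i j) := by
      intro i j
      rw [hu, GeneralLinearGroup.map_apply]
    simp only [GeneralLinearGroup.coe_scalar, Matrix.scalar_apply] at h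
    have h00 := h 0 0
    have h01 := h 0 1
    have h10 := h 1 0
    have h11 := h 1 1
    rw [Matrix.diagonal_apply_eq] at h00 h11
    rw [Matrix.diagonal_apply_ne _ (by decide)] at h01 h10
    have e01 : (g : Matrix (Fin 2) (Fin 2) K) 0 1 = 0 := ι.injective (by rw [← h01, map_zero])
    have e10 : (g : Matrix (Fin 2) (Fin 2) K) 1 0 = 0 := ι.injective (by rw [← h10, map_zero])
    have e11 : (g : Matrix (Fin 2) (Fin 2) K) 1 1 = (g : Matrix (Fin 2) (Fin 2) K) 0 0 :=
      ι.injective (by rw [← h00, ← h11])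
    have hc : (g : Matrix (Fin 2) (Fin 2) K) 0 0 ≠ 0 := by
      intro h0
      rw [h0, map_zero] at h00
      exact u.ne_zero h00
    refine ⟨Units.mk0 _ hc, ?_⟩
    apply Units.ext
    ext i j
    rw [GeneralLinearGroup.coe_scalar, Matrix.scalar_apply, Units.val_mk0]
    fin_cases i <;> fin_cases j
    · simp
    · simp [e01]
    · simp [e10]
    · simp [e11]
  · rintro ⟨u, rfl⟩
    refine ⟨Units.map ι.toMonoidHom u, ?_⟩
    apply Units.ext
    ext i j
    rw [GeneralLinearGroup.map_apply, GeneralLinearGroup.coe_scalar, GeneralLinearGroup.coe_scalar,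
      Matrix.scalar_apply, Matrix.scalar_apply, Matrix.diagonal_apply, Matrix.diagonal_apply]
    split_ifs <;> simp

theorem range_le (hsq : ∀ d : K, d ≠ 0 → IsSquare (ι d)) :
    ((ProjGenLinGroup.mk : GL (Fin 2) F →* ProjGenLinGroup (Fin 2) F).comp
      (GeneralLinearGroup.map ι)).range ≤
    (ProjectiveSpecialLinearGroup.toPGL :
      ProjectiveSpecialLinearGroup (Fin 2) F →* ProjGenLinGroup (Fin 2) F).range := by
  rintro _ ⟨g, rfl⟩
  have hd0 : (g : Matrix (Fin 2) (Fin 2) K).det ≠ 0 := by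
    have := (Matrix.isUnit_iff_isUnit_det _).mp (Units.isUnit g)
    exact this.ne_zero
  obtain ⟨s, hs⟩ := hsq _ hd0
  have hs0 : s ≠ 0 := by
    rintro rfl
    rw [mul_zero] at hs
    exact hd0 (ι.injective (by rw [hs, map_zero]))
  have hmapdet : ((GeneralLinearGroup.map ι g : GL (Fin 2) F) : Matrix (Fin 2) (Fin 2) F).det = s * s := by
    have : ((GeneralLinearGroup.map ι g : GL (Fin 2) F) : Matrix (Fin 2) (Fin 2) F) =
        ι.mapMatrix (g : Matrix (Fin 2) (Fin 2) K) := by
      ext i j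
      rw [GeneralLinearGroup.map_apply]; rfl
    rw [this, ← RingHom.map_det, hs]
  have hdet : (s⁻¹ • ((GeneralLinearGroup.map ι g : GL (Fin 2) F) : Matrix (Fin 2) (Fin 2) F)).det = 1 := by
    rw [Matrix.det_smul, Fintype.card_fin, hmapdet]
    field_simp
  refine ⟨QuotientGroup.mk (⟨_, hdet⟩ : Matrix.SpecialLinearGroup (Fin 2) F), ?_⟩
  change ProjGenLinGroup.mk (Matrix.SpecialLinearGroup.toGL
    (⟨_, hdet⟩ : Matrix.SpecialLinearGroup (Fin 2) F)) = _
  rw [MonoidHom.comp_apply, ProjGenLinGroup.mk_eq_mk_iff]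
  refine ⟨Units.mk0 s hs0, ?_⟩
  apply Units.ext
  ext i j
  rw [Units.val_mul, GeneralLinearGroup.coe_scalar, Units.val_mk0]
  change ((s⁻¹ • ((GeneralLinearGroup.map ι g : GL (Fin 2) F) : Matrix (Fin 2) (Fin 2) F)) *
    Matrix.scalar (Fin 2) s) i j = _
  rw [Matrix.scalar_apply, Matrix.mul_diagonal, Matrix.smul_apply, smul_eq_mul]
  field_simp

theorem partB_mpr (hsq : ∀ d : K, d ≠ 0 → IsSquare (ι d)) :
    ∃ H : Subgroup (Matrix.ProjectiveSpecialLinearGroup (Fin 2) F),
      Nonempty (H ≃* Matrix.ProjGenLinGroup (Fin 2) K) := by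
  obtain ⟨j, hj⟩ : ∃ j : GL (Fin 2) K →* ProjGenLinGroup (Fin 2) F,
      j = (ProjGenLinGroup.mk : GL (Fin 2) F →* ProjGenLinGroup (Fin 2) F).comp
        (GeneralLinearGroup.map ι) := ⟨_, rfl⟩
  have hker : j.ker = Subgroup.center (GL (Fin 2) K) := by rw [hj]; exact ker_gl_map ι
  have hle : j.range ≤ (ProjectiveSpecialLinearGroup.toPGL :
      ProjectiveSpecialLinearGroup (Fin 2) F →* ProjGenLinGroup (Fin 2) F).range := by
    rw [hj]; exact range_le ι hsq
  refine ⟨j.range.comap ProjectiveSpecialLinearGroup.toPGL, ⟨?_⟩⟩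
  have e1 : j.range.comap (ProjectiveSpecialLinearGroup.toPGL :
      ProjectiveSpecialLinearGroup (Fin 2) F →* ProjGenLinGroup (Fin 2) F) ≃* j.range := by
    apply MulEquiv.ofBijective ((ProjectiveSpecialLinearGroup.toPGL :
      ProjectiveSpecialLinearGroup (Fin 2) F →* ProjGenLinGroup (Fin 2) F).subgroupComap j.range)
    constructor
    · intro a b hab
      apply Subtype.ext
      apply ProjectiveSpecialLinearGroup.toPGL_injective
      exact congrArg Subtype.val hab
    · rintro ⟨y, hy⟩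
      obtain ⟨x, rfl⟩ := hle hy
      exact ⟨⟨x, hy⟩, rfl⟩
  have e2 : (GL (Fin 2) K ⧸ Subgroup.center (GL (Fin 2) K)) ≃* j.range :=
    (QuotientGroup.quotientMulEquivOfEq hker.symm).trans (QuotientGroup.quotientKerEquivRange j)
  exact e1.trans e2.symm

end partB

section arith
variable {F K : Type*} [Field F] [Fintype F] [Field K] [Fintype K]

theorem isSquare_of_even (ι : K →+* F) (m' : ℕ) (hm' : 1 ≤ m')
    (hK : Fintype.card K ^ (m' + m') = Fintype.card F) (hodd : Odd (Fintype.card F))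
    (d : K) (hd : d ≠ 0) : IsSquare (ι d) := by
  have hchar : ringChar F ≠ 2 := by
    intro h
    rw [FiniteField.even_card_iff_char_two] at h
    rcases hodd with ⟨t, ht⟩
    omega
  rw [FiniteField.isSquare_iff hchar ((map_ne_zero ι).mpr hd)]
  have hk1 : d ^ (Fintype.card K - 1) = 1 := FiniteField.pow_card_sub_one_eq_one d hd
  have hkodd : Odd (Fintype.card K) := by
    rw [← hK] at hodd
    exact (Nat.odd_pow_iff (by omega)).mp hodd
  obtain ⟨c, hc⟩ : ∃ c, Fintype.card F / 2 = (Fintype.card K - 1) * c := by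
    have h1 : Fintype.card K ^ 2 - 1 ∣ (Fintype.card K ^ 2) ^ m' - 1 :=
      Nat.sub_one_dvd_pow_sub_one _ _
    obtain ⟨t, ht⟩ := hkodd
    have h2 : Fintype.card K ^ 2 - 1 = (Fintype.card K - 1) * (2 * (t + 1)) := by
      rw [ht]
      have e1 : (2 * t + 1) ^ 2 = 2 * t * (2 * (t + 1)) + 1 := by ring
      rw [e1]
      have e2 : 2 * t + 1 - 1 = 2 * t := by omega
      rw [e2]
      omega
    obtain ⟨e, he⟩ := h1
    refine ⟨(t + 1) * e, ?_⟩
    have hq : Fintype.card F = (Fintype.card K ^ 2) ^ m' := by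
      rw [← hK, ← pow_mul, two_mul]
    have hpos : 0 < (Fintype.card K ^ 2) ^ m' := by
      have : 0 < Fintype.card K := Fintype.card_pos
      positivity
    have h3 : Fintype.card F = 2 * ((Fintype.card K - 1) * ((t + 1) * e)) + 1 := by
      rw [hq]
      have h4 : (Fintype.card K ^ 2) ^ m' = (Fintype.card K ^ 2 - 1) * e + 1 := by omega
      rw [h4, h2]
      ring
    omega
  rw [hc, pow_mul, ← map_pow, hk1, map_one, one_pow]

theorem partB_mp (m : ℕ) (hK : Fintype.card K ^ m = Fintype.card F)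
    (hodd : Odd (Fintype.card F))
    (H : Subgroup (Matrix.ProjectiveSpecialLinearGroup (Fin 2) F))
    (e : H ≃* Matrix.ProjGenLinGroup (Fin 2) K) : Even m := by
  by_contra hm
  rw [Nat.not_even_iff_odd] at hm
  have hm0 : m ≠ 0 := by
    rintro rfl
    exact absurd hm (by decide)
  have hkodd : Odd (Fintype.card K) := by
    rw [← hK] at hodd
    exact (Nat.odd_pow_iff hm0).mp hodd
  have hk2 : 2 ≤ Fintype.card K := Fintype.one_lt_card
  have hcardH : Nat.card H = Fintype.card K * (Fintype.card K ^ 2 - 1) := by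
    rw [Nat.card_congr e.toEquiv, Cfsg.Agent.helper2.card_PGL_eq_card_SL,
      Cfsg.Agent.helper12.card_SL2]
  have hgcd : Nat.gcd (Fintype.card F - 1) 2 = 2 := by
    obtain ⟨t, ht⟩ := hodd
    rw [ht]
    have : 2 * t + 1 - 1 = 2 * t := by omega
    rw [this]
    exact Nat.gcd_eq_right (dvd_mul_right 2 t)
  have hPSL : Nat.card (Matrix.ProjectiveSpecialLinearGroup (Fin 2) F) * 2 =
      Fintype.card F * (Fintype.card F ^ 2 - 1) := by
    rw [← Cfsg.Agent.helper12.card_SL2, Cfsg.Agent.helper2.card_SL_eq_card_PSL_mul 2,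
      Cfsg.Agent.helper2.card_center_SL 2 (by norm_num), hgcd]
  have hdvd : Nat.card H ∣ Nat.card (Matrix.ProjectiveSpecialLinearGroup (Fin 2) F) :=
    Subgroup.card_subgroup_dvd_card H
  have h1 : Fintype.card K * (Fintype.card K ^ 2 - 1) * 2 ∣
      Fintype.card F * (Fintype.card F ^ 2 - 1) := by
    rw [← hcardH, ← hPSL]
    exact Nat.mul_dvd_mul_right hdvd 2
  -- the geometric sum
  have hgeo := geom_sum_mul_of_one_le (x := Fintype.card K ^ 2)
    (by have : 0 < Fintype.card K := Fintype.card_pos; exact Nat.one_le_pow _ _ this) m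
  have hSodd : Odd (∑ i ∈ Finset.range m, (Fintype.card K ^ 2) ^ i) := by
    rw [Nat.odd_iff, Finset.sum_nat_mod]
    have : ∀ i ∈ Finset.range m, (Fintype.card K ^ 2) ^ i % 2 = 1 := by
      intro i _
      exact Nat.odd_iff.mp ((hkodd.pow).pow)
    rw [Finset.sum_congr rfl this, Finset.sum_const, Finset.card_range, smul_eq_mul, mul_one]
    exact Nat.odd_iff.mp hm
  have hq2 : Fintype.card F ^ 2 - 1 =
      (∑ i ∈ Finset.range m, (Fintype.card K ^ 2) ^ i) * (Fintype.card K ^ 2 - 1) := by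
    rw [hgeo, ← hK, ← pow_mul, ← pow_mul, mul_comm m 2]
  rw [hq2] at h1
  have hpos : 0 < Fintype.card K ^ 2 - 1 := by
    have : 4 ≤ Fintype.card K ^ 2 := by nlinarith
    omega
  have h2 : Fintype.card K * 2 ∣
      Fintype.card F * (∑ i ∈ Finset.range m, (Fintype.card K ^ 2) ^ i) := by
    apply Nat.dvd_of_mul_dvd_mul_right hpos
    have e1 : Fintype.card K * 2 * (Fintype.card K ^ 2 - 1) =
        Fintype.card K * (Fintype.card K ^ 2 - 1) * 2 := by ring
    have e2 : Fintype.card F * (∑ i ∈ Finset.range m, (Fintype.card K ^ 2) ^ i) *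
        (Fintype.card K ^ 2 - 1) = Fintype.card F *
        ((∑ i ∈ Finset.range m, (Fintype.card K ^ 2) ^ i) * (Fintype.card K ^ 2 - 1)) := by ring
    rw [e1, e2]
    exact h1
  have h3 : 2 ∣ Fintype.card F * (∑ i ∈ Finset.range m, (Fintype.card K ^ 2) ^ i) :=
    (dvd_mul_left 2 _).trans h2
  have h4 : Odd (Fintype.card F * (∑ i ∈ Finset.range m, (Fintype.card K ^ 2) ^ i)) :=
    Nat.odd_mul.mpr ⟨hodd, hSodd⟩
  rw [Nat.odd_iff] at h4
  omega

end arith


/-- Subfield subgroups: let F be a finite field of odd order q and K a finite field with |K|^m = q, m ≥ 1. Then PSL_2(F) has a subgroup isomorphic to PSL_2(K), and has a subgroup isomorphic to PGL_2(K) if and only if m is even. -/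
theorem result {F K : Type*} [Field F] [Fintype F] [Field K] [Fintype K] {q : ℕ} (hF : Fintype.card F = q) (hodd : Odd q) (m : ℕ) (hm : 1 ≤ m) (hK : Fintype.card K ^ m = q) : (∃ H : Subgroup (Matrix.ProjectiveSpecialLinearGroup (Fin 2) F), Nonempty (H ≃* Matrix.ProjectiveSpecialLinearGroup (Fin 2) K)) ∧ ((∃ H : Subgroup (Matrix.ProjectiveSpecialLinearGroup (Fin 2) F), Nonempty (H ≃* Matrix.ProjGenLinGroup (Fin 2) K)) ↔ Even m) := by
  subst hF
  obtain ⟨ι⟩ := exists_ringHom (F := F) (K := K) m hK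
  refine ⟨partA ι, ?_, ?_⟩
  · rintro ⟨H, ⟨e⟩⟩
    exact partB_mp m hK hodd H e
  · rintro ⟨m', rfl⟩
    exact partB_mpr ι (isSquare_of_even ι m' (by omega) hK hodd)

end Cfsg.Agent.S0805
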