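import Mathlib
import Cfsg.Agent.Lib_helper4_DnZ
import Cfsg.Agent.S0805
import Cfsg.Agent.S0804
import Cfsg.Prelude.Def_CaseTheorems

set_option autoImplicit false
set_option linter.unusedSectionVars false
set_option linter.style.haveILetI false
set_option maxHeartbeats 1600000

/-!
# `PSL₂(q)` minimal simple: both directions
-/

namespace Cfsg.Agent.helper4.Dn

open Matrix
open scoped LinearAlgebra.Projectivization MatrixGroups
open Cfsg.Agent.helper4.Dk

variable {F : Type*} [Field F] [Fintype F]

theorem piF_not_comm :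
    piF F (uS 1) * piF F (wS 0) ≠ piF F (wS 0) * piF F (uS 1) := by
  intro h
  have h1 : piF F ((wS 0 * uS 1)⁻¹ * (uS 1 * wS 0)) = 1 := by
    rw [map_mul, map_inv, map_mul, map_mul, h, inv_mul_cancel]
  have e10 : ((wS (0 : F) * uS 1)⁻¹ * (uS 1 * wS 0) : SpecialLinearGroup (Fin 2) F) 1 0 = -1 := by
    rw [mul_10, inv_10, inv_11, mul_10, mul_00, mul_00, mul_10]; simp
  rcases (piF_eq_one_iff _).mp h1 with h2 | h2
  · rw [h2] at e10
    simp at e10
  · rw [h2] at e10
    simp at e10

theorem psl2_not_solvable (h4 : 4 ≤ Fintype.card F) :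
    ¬ Group.IsSolvable (Matrix.ProjectiveSpecialLinearGroup (Fin 2) F) := by
  intro hs
  haveI : IsSimpleGroup (Matrix.ProjectiveSpecialLinearGroup (Fin 2) F) :=
    Matrix.ProjectiveSpecialLinearGroup.rank_two_simple (by rw [Nat.card_eq_fintype_card]; exact h4)
  have := (IsSimpleGroup.comm_iff_isSolvable).mpr hs
  exact piF_not_comm (this _ _)

theorem A5_not_solvable : ¬ Group.IsSolvable (alternatingGroup (Fin 5)) := by
  intro hs
  have := (IsSimpleGroup.comm_iff_isSolvable).mpr hs
  obtain ⟨x, y, a, b, h1, -, -⟩ := wit_A5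
  exact h1 (this _ _)

theorem solvable_of_comap (H : Subgroup (Matrix.ProjectiveSpecialLinearGroup (Fin 2) F))
    (h : Group.IsSolvable (H.comap (piF F))) : Group.IsSolvable H := by
  haveI := h
  exact Group.isSolvable_of_surjective
    ((piF F).subgroupComap_surjective_of_surjective H piF_surjective)

/-- `PSL₂(q)` is minimal simple for `q` in the list -/
theorem minimalSimple_of_list (hq : TList (Fintype.card F)) :
    Cfsg.IsMinimalSimple (Matrix.ProjectiveSpecialLinearGroup (Fin 2) F) := by
  have h4 : 4 ≤ Fintype.card F := by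
    rcases hq with ⟨r, hr, hqr⟩ | ⟨r, hr, hr2, hqr⟩ | ⟨hp, h5, hmod⟩ | h5
    · rw [hqr]
      calc 4 = 2 ^ 2 := by norm_num
        _ ≤ 2 ^ r := Nat.pow_le_pow_right (by norm_num) hr.two_le
    · rw [hqr]
      calc 4 ≤ 3 ^ 2 := by norm_num
        _ ≤ 3 ^ r := Nat.pow_le_pow_right (by norm_num) hr.two_le
    · omega
    · omega
  refine ⟨Matrix.ProjectiveSpecialLinearGroup.rank_two_simple
    (by rw [Nat.card_eq_fintype_card]; exact h4), ?_, ?_⟩
  · intro hc
    exact piF_not_comm (hc.is_comm.comm _ _)
  · intro H hH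
    apply solvable_of_comap
    apply proper_solvable hq
    · rw [Subgroup.mem_comap, piF_neg_one]; exact H.one_mem
    · intro htop
      apply hH
      rw [← Subgroup.map_comap_eq_self_of_surjective piF_surjective H, htop,
        Subgroup.map_top_of_surjective _ piF_surjective]

section sub
variable {K : Type*} [Field K] [Fintype K]

theorem range_slmap_ne_top (ι : K →+* F) (hlt : Fintype.card K < Fintype.card F) :
    ((piF F).comp (SpecialLinearGroup.map (n := Fin 2) ι)).range ≠ ⊤ := by
  intro htop
  have hsurj : Function.Surjective ι := by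
    intro t
    have hm : piF F (uS t) ∈ ((piF F).comp (SpecialLinearGroup.map (n := Fin 2) ι)).range := by
      rw [htop]; exact Subgroup.mem_top _
    obtain ⟨a, ha⟩ := hm
    rw [MonoidHom.comp_apply] at ha
    have h1 : piF F ((SpecialLinearGroup.map ι a)⁻¹ * uS t) = 1 := by
      rw [map_mul, map_inv, ha, inv_mul_cancel]
    rcases (piF_eq_one_iff _).mp h1 with h | h
    · have h2 : uS t = SpecialLinearGroup.map ι a := (inv_mul_eq_one.mp h).symm
      have := congrArg (fun g : SpecialLinearGroup (Fin 2) F => g 0 1) h2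
      simp only [uS_01, slmap_apply] at this
      exact ⟨_, this.symm⟩
    · have h2 : uS t = SpecialLinearGroup.map ι a * -1 := by
        rw [← h]; group
      have := congrArg (fun g : SpecialLinearGroup (Fin 2) F => g 0 1) h2
      simp only [uS_01] at this
      refine ⟨-(a 0 1), ?_⟩
      rw [map_neg, this]
      have e : (SpecialLinearGroup.map ι a * -1 : SpecialLinearGroup (Fin 2) F) 0 1 =
          -(ι (a 0 1)) := by
        have : (SpecialLinearGroup.map ι a * -1 : SpecialLinearGroup (Fin 2) F) =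
            -(SpecialLinearGroup.map ι a) := by simp
        rw [this, neg_01, slmap_apply]
      rw [e]
  have := Fintype.card_le_of_surjective ι hsurj
  omega

/-- a proper subfield of size at least 4 gives a proper non-solvable subgroup -/
theorem not_minimal_of_subfield (ι : K →+* F) (h4 : 4 ≤ Fintype.card K)
    (hlt : Fintype.card K < Fintype.card F) :
    ∃ H : Subgroup (Matrix.ProjectiveSpecialLinearGroup (Fin 2) F), H ≠ ⊤ ∧ ¬ Group.IsSolvable H := by
  obtain ⟨φ, hφ⟩ : ∃ φ : SpecialLinearGroup (Fin 2) K →* Matrix.ProjectiveSpecialLinearGroup (Fin 2) F,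
      φ = (piF F).comp (SpecialLinearGroup.map ι) := ⟨_, rfl⟩
  have hker : φ.ker = Subgroup.center (SpecialLinearGroup (Fin 2) K) := by
    rw [hφ]; exact Cfsg.Agent.S0805.ker_sl_map ι
  have e : φ.range ≃* Matrix.ProjectiveSpecialLinearGroup (Fin 2) K :=
    ((QuotientGroup.quotientMulEquivOfEq hker.symm).trans
      (QuotientGroup.quotientKerEquivRange φ)).symm
  refine ⟨φ.range, ?_, ?_⟩
  · rw [hφ]; exact range_slmap_ne_top ι hlt
  · intro hs
    haveI := hs
    exact psl2_not_solvable h4 (Group.isSolvable_of_surjective (f := e.toMonoidHom) e.surjective)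

end sub

/-- `A₅` as a proper non-solvable subgroup -/
theorem not_minimal_of_A5 (h5 : 5 ∣ Fintype.card F * (Fintype.card F ^ 2 - 1))
    (h7 : 7 ≤ Fintype.card F) :
    ∃ H : Subgroup (Matrix.ProjectiveSpecialLinearGroup (Fin 2) F), H ≠ ⊤ ∧ ¬ Group.IsSolvable H := by
  obtain ⟨H, ⟨e⟩⟩ := (Cfsg.Agent.S0804.result (F := F) rfl).mpr h5
  refine ⟨H, ?_, ?_⟩
  · intro htop
    have hcardH : Nat.card H = 60 := by
      rw [Nat.card_congr e.toEquiv, nat_card_alternatingGroup, Nat.card_fin]; rfl
    rw [htop, Subgroup.card_top] at hcardH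
    have h1 := Cfsg.Agent.helper2.card_SL_eq_card_PSL_mul (F := F) 2
    rw [Cfsg.Agent.helper12.card_SL2, hcardH, Cfsg.Agent.helper2.card_center_SL 2 (by norm_num)] at h1
    have h2 : Nat.gcd (Fintype.card F - 1) 2 ≤ 2 := Nat.le_of_dvd (by norm_num) (Nat.gcd_dvd_right _ _)
    have := mono_cube h7
    norm_num at this
    nlinarith
  · intro hs
    haveI := hs
    exact A5_not_solvable (Group.isSolvable_of_surjective (f := e.toMonoidHom) e.surjective)

end Cfsg.Agent.helper4.Dn
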