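import Mathlib

set_option autoImplicit false

namespace Cfsg.Agent.helper4.Mx

open Subgroup

/-- a coatom of a simple group normalising a proper nontrivial subgroup is its normaliser -/
theorem normalizer_eq_of_coatom {G : Type*} [Group G] [IsSimpleGroup G] {M C : Subgroup G}
    (hM : IsCoatom M) (hC : C ≠ ⊥) (hCT : C ≠ ⊤) (hMC : M ≤ normalizer (C : Set G)) :
    normalizer (C : Set G) = M := by
  by_contra hne
  have hlt : M < normalizer (C : Set G) := lt_of_le_of_ne hMC (Ne.symm hne)
  have htop := hM.2 _ hlt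
  rw [normalizer_eq_top_iff] at htop
  rcases htop.eq_bot_or_eq_top with h | h
  · exact hC h
  · exact hCT h

/-- a nonabelian finite simple group has no abelian maximal subgroup -/
theorem no_abelian_coatom {G : Type*} [Group G] [Finite G] [IsSimpleGroup G]
    (hnc : ∃ x y : G, x * y ≠ y * x) {M : Subgroup G} (hM : IsCoatom M)
    (hab : ∀ x ∈ M, ∀ y ∈ M, x * y = y * x) : False := by
  classical
  have hMtop : M ≠ ⊤ := hM.1
  have hMbot : M ≠ ⊥ := by
    rintro rfl
    obtain ⟨x, y, hxy⟩ := hnc
    have hx : x ≠ 1 := by rintro rfl; simp at hxy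
    have hz : zpowers x = ⊤ := by
      apply hM.2
      rw [bot_lt_iff_ne_bot]
      intro h
      exact hx (zpowers_eq_bot.mp h)
    have hy : y ∈ zpowers x := by rw [hz]; trivial
    obtain ⟨k, rfl⟩ := hy
    apply hxy
    exact (Commute.self_zpow x k).eq
  have hcard : Nat.card M ≠ 1 := fun h => hMbot (card_eq_one.mp h)
  obtain ⟨r, hr, hrM⟩ := Nat.exists_prime_and_dvd hcard
  have : Fact r.Prime := ⟨hr⟩
  obtain ⟨R⟩ : Nonempty (Sylow r M) := inferInstance
  obtain ⟨R', hR'⟩ : ∃ R' : Subgroup G, R' = (R : Subgroup M).map M.subtype := ⟨_, rfl⟩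
  have hR'M : R' ≤ M := by rw [hR']; exact map_subtype_le _
  have hRne : (R : Subgroup M) ≠ ⊥ := R.ne_bot_of_dvd_card hrM
  have hR'ne : R' ≠ ⊥ := by
    rw [hR']
    intro h
    apply hRne
    exact (map_eq_bot_iff_of_injective _ (subtype_injective M)).mp h
  have hR'top : R' ≠ ⊤ := fun h => hMtop (top_le_iff.mp (h ▸ hR'M))
  have hMN : M ≤ normalizer (R' : Set G) := by
    intro m hm
    rw [mem_normalizer_iff]
    intro h
    constructor
    · intro hh
      have : m * h * m⁻¹ = h := by
        rw [hab m hm h (hR'M hh)]; group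
      rw [this]; exact hh
    · intro hh
      have hmem : m * h * m⁻¹ ∈ M := hR'M hh
      have hhM : h ∈ M := by
        have : h = m⁻¹ * (m * h * m⁻¹) * m := by group
        rw [this]
        exact M.mul_mem (M.mul_mem (M.inv_mem hm) hmem) hm
      have : m * h * m⁻¹ = h := by
        rw [hab m hm h hhM]; group
      rwa [this] at hh
  have hN : normalizer (R' : Set G) = M := normalizer_eq_of_coatom hM hR'ne hR'top hMN
  -- `R'` is a Sylow subgroup of `G`
  have hsub : R'.subgroupOf M = (R : Subgroup M) := by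
    rw [hR']
    exact comap_map_eq_self_of_injective (subtype_injective M) _
  have hcardR : Nat.card R' = r ^ (Nat.card M).factorization r := by
    rw [hR', card_map_of_injective (subtype_injective M)]
    exact R.card_eq_multiplicity
  have hmod := Sylow.card_quotient_normalizer_modEq_card_quotient hcardR
  have hmod' : R'.relIndex (normalizer (R' : Set G)) ≡ R'.index [MOD r] := hmod
  rw [hN] at hmod'
  have hrel : R'.relIndex M = (R : Subgroup M).index := by
    unfold relIndex
    rw [hsub]
  rw [hrel] at hmod'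
  have hnd : ¬ r ∣ R'.index := by
    intro hdvd
    have h0 : R'.index ≡ 0 [MOD r] := (Nat.modEq_zero_iff_dvd).mpr hdvd
    have h1 : (R : Subgroup M).index ≡ 0 [MOD r] := hmod'.trans h0
    exact R.not_dvd_index ((Nat.modEq_zero_iff_dvd).mp h1)
  have hpg : IsPGroup r R' := IsPGroup.of_card hcardR
  obtain ⟨P, hP⟩ : ∃ P : Sylow r G, (P : Subgroup G) = R' := ⟨hpg.toSylow hnd, hpg.toSylow_coe hnd⟩
  have hNC : normalizer (P : Set G) ≤ centralizer (P : Set G) := by
    have : ((P : Subgroup G) : Set G) = (R' : Set G) := by rw [hP]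
    change normalizer ((P : Subgroup G) : Set G) ≤ centralizer ((P : Subgroup G) : Set G)
    rw [this, hN]
    intro m hm
    rw [mem_centralizer_iff]
    intro h hh
    exact (hab m hm h (hR'M hh)).symm
  have hcompl := MonoidHom.ker_transferSylow_isComplement' P hNC
  have hndk := MonoidHom.not_dvd_card_ker_transferSylow P hNC
  rcases (MonoidHom.normal_ker (MonoidHom.transferSylow P hNC)).eq_bot_or_eq_top with h | h
  · rw [h, isComplement'_bot_left] at hcompl
    rw [hP] at hcompl
    exact hR'top hcompl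
  · rw [h, isComplement'_top_left, hP] at hcompl
    exact hR'ne hcompl

/-- a maximal subgroup normalising a Sylow subgroup cannot be beaten by the corresponding
normaliser inside a larger proper subgroup -/
theorem coatom_sylow_false {G : Type*} [Group G] [Finite G] {r : ℕ} [Fact r.Prime]
    {M C X R : Subgroup G} (hM : IsCoatom M)
    (hN : normalizer (C : Set G) = M)
    (hCp : IsPGroup r C) (hCi : ¬ r ∣ C.index)
    (hX : X ≠ ⊤) (hMX : Nat.card M < Nat.card X)
    (hRX : R ≤ X) (hRc : Nat.card R = Nat.card C)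
    (hbig : Nat.card M ≤ Nat.card ((normalizer (R : Set G) ⊓ X : Subgroup G))) : False := by
  classical
  obtain ⟨P, hP⟩ : ∃ P : Sylow r G, (P : Subgroup G) = C := ⟨hCp.toSylow hCi, hCp.toSylow_coe hCi⟩
  obtain ⟨n, hn⟩ := IsPGroup.iff_card.mp hCp
  have hRp : IsPGroup r R := IsPGroup.of_card (hRc.trans hn)
  obtain ⟨Q, hQ⟩ := hRp.exists_le_sylow
  obtain ⟨g, hg⟩ := MulAction.exists_smul_eq G P Q
  have hQcard : Nat.card (Q : Subgroup G) = Nat.card C := by
    rw [← hP, Q.card_eq_multiplicity, P.card_eq_multiplicity]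
  have hRQ : R = (Q : Subgroup G) :=
    eq_of_le_of_card_ge hQ (by rw [hQcard, hRc])
  have hmem : ∀ x : G, x ∈ R ↔ g⁻¹ * x * g ∈ C := by
    intro x
    rw [hRQ, ← hg, Sylow.coe_subgroup_smul, mem_pointwise_smul_iff_inv_smul_mem, hP]
    simp [MulAut.smul_def, MulAut.conj_apply]
  have hnorm : ∀ x : G, x ∈ normalizer (R : Set G) → g⁻¹ * x * g ∈ M := by
    intro x hx
    rw [← hN, mem_normalizer_iff]
    intro c
    rw [mem_normalizer_iff] at hx
    have h1 := hx (g * c * g⁻¹)
    rw [hmem, hmem] at h1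
    have e1 : g⁻¹ * (g * c * g⁻¹) * g = c := by group
    have e2 : g⁻¹ * (x * (g * c * g⁻¹) * x⁻¹) * g = g⁻¹ * x * g * c * (g⁻¹ * x * g)⁻¹ := by group
    rw [e1, e2] at h1
    exact h1
  let φ : ↥(normalizer (R : Set G) ⊓ X) → ↥M := fun x => ⟨g⁻¹ * x.1 * g, hnorm x.1 x.2.1⟩
  have hφ : Function.Injective φ := by
    intro x y hxy
    have h := congrArg Subtype.val hxy
    change g⁻¹ * x.1 * g = g⁻¹ * y.1 * g at h
    apply Subtype.ext
    have := congrArg (fun z => g * z * g⁻¹) h
    simpa [mul_assoc] using this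
  have hbij : Function.Bijective φ :=
    hφ.bijective_of_nat_card_le hbig
  obtain ⟨X', hX'⟩ : ∃ X' : Subgroup G, X' = X.map (MulAut.conj g⁻¹).toMonoidHom := ⟨_, rfl⟩
  have hMX' : M ≤ X' := by
    intro m hm
    obtain ⟨x, hx⟩ := hbij.2 ⟨m, hm⟩
    have h := congrArg Subtype.val hx
    change g⁻¹ * x.1 * g = m at h
    rw [hX', mem_map]
    refine ⟨x.1, x.2.2, ?_⟩
    rw [← h]
    simp [MulAut.conj_apply]
  have hcardX' : Nat.card X' = Nat.card X := by
    rw [hX']
    exact card_map_of_injective (MulAut.conj g⁻¹).injective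
  have hX'top : X' ≠ ⊤ := by
    intro h
    apply hX
    rw [← card_eq_iff_eq_top, ← hcardX', h, card_top]
  rcases eq_or_lt_of_le hMX' with h | h
  · rw [← hcardX', ← h] at hMX
    exact lt_irrefl _ hMX
  · exact hX'top (hM.2 _ h)

end Cfsg.Agent.helper4.Mx
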