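import Mathlib
import Cfsg.Agent.Lib_helper4_DnAA

set_option autoImplicit false
set_option linter.unusedSectionVars false
set_option linter.style.haveILetI false
set_option maxHeartbeats 1600000

/-!
# Dihedral subgroups of `PSL₂(F)` of prescribed order
-/

namespace Cfsg.Agent.helper4.Dn

open Matrix
open scoped LinearAlgebra.Projectivization MatrixGroups
open Cfsg.Agent.helper4.Dk

variable {F : Type*} [Field F] [Fintype F]
variable {K : Type*} [Field K] [Algebra F K] [IsAlgClosed K]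

/-- a torus element and a swapping element generate a dihedral subgroup of `PSL₂(F)` -/
theorem dihedral_sub {y y' : ℙ K (Fin 2 → K)} (hyy : y ≠ y') {e : ℕ} (he3 : 3 ≤ e)
    (hpar : (2 : F) ≠ 0 → 2 ∣ e)
    {c₀ g₀ : SpecialLinearGroup (Fin 2) F} (hcord : orderOf c₀ = e)
    (hcy : iota F K c₀ • y = y) (hcy' : iota F K c₀ • y' = y')
    (hgy : iota F K g₀ • y = y') (hgy' : iota F K g₀ • y' = y) :
    ∃ D : Subgroup (Matrix.ProjectiveSpecialLinearGroup (Fin 2) F),
      Nonempty (D ≃* DihedralGroup (e / Nat.gcd 2 (Fintype.card F - 1))) := by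
  classical
  have hg0sq : g₀ * g₀ = -1 := by
    apply iota_injective (K := K)
    rw [map_mul, iota_neg_one]
    exact swap_sq hyy hgy hgy'
  have hgc_y : iota F K (g₀ * c₀) • y = y' := by rw [map_mul, mul_smul, hcy, hgy]
  have hgc_y' : iota F K (g₀ * c₀) • y' = y := by rw [map_mul, mul_smul, hcy', hgy']
  have hgcsq : (g₀ * c₀) * (g₀ * c₀) = -1 := by
    apply iota_injective (K := K)
    rw [map_mul (iota F K) (g₀ * c₀), iota_neg_one]
    exact swap_sq hyy hgc_y hgc_y'
  have hconj : g₀ * c₀ * g₀⁻¹ = c₀⁻¹ := by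
    apply iota_injective (K := K)
    rw [map_mul, map_mul, map_inv, map_inv]
    exact swap_conj hyy hgy hgy' hcy hcy'
  set x := piF F (g₀ * c₀) with hx
  set w := piF F g₀ with hw
  have hxx : x * x = 1 := by rw [hx, ← map_mul, hgcsq, piF_neg_one]
  have hww : w * w = 1 := by rw [hw, ← map_mul, hg0sq, piF_neg_one]
  have hx1 : x ≠ 1 := iota_smul_ne (K := K) _ hyy hgc_y
  have hw1 : w ≠ 1 := iota_smul_ne (K := K) _ hyy hgy
  have hxw : x * w = (piF F c₀)⁻¹ := by
    rw [hx, hw, ← map_mul, ← map_inv]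
    have : g₀ * c₀ * g₀ = c₀⁻¹ * (g₀ * g₀) := by
      rw [← hconj]; group
    rw [this, hg0sq, map_mul, piF_neg_one, mul_one]
  have hord : orderOf (x * w) = e / Nat.gcd 2 (Fintype.card F - 1) := by
    rw [hxw, orderOf_inv]
    exact orderOf_piF hcord he3 hpar
  have e1 := Cfsg.Agent.helper1.dihedralEquiv x w hxx hww hx1 hw1
  rw [hord] at e1
  exact ⟨_, ⟨e1.symm⟩⟩

theorem pow_smul_fix {g : SpecialLinearGroup (Fin 2) K} {y : ℙ K (Fin 2 → K)} (h : g • y = y)
    (n : ℕ) : g ^ n • y = y := by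
  induction n with
  | zero => simp
  | succ n ih => rw [pow_succ, mul_smul, h, ih]

/-- `PSL₂(F)` (`|F|` odd) has a subgroup of every even order `m ≥ 3` dividing `q - 1` or `q + 1` -/
theorem exists_sub_of_dvd (hodd : Odd (Fintype.card F)) {e : ℕ}
    (he : e = Fintype.card F - 1 ∨ e = Fintype.card F + 1) {m : ℕ} (hm : m ∣ e) (hm3 : 3 ≤ m)
    (hm2 : 2 ∣ m) :
    ∃ D : Subgroup (Matrix.ProjectiveSpecialLinearGroup (Fin 2) F), Nat.card D = m := by
  classical
  have hq2 : 2 ≤ Fintype.card F := Fintype.one_lt_card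
  have he0 : e ≠ 0 := by
    rcases hodd with ⟨t, ht⟩
    rcases he with rfl | rfl <;> omega
  have hgcd : Nat.gcd 2 (Fintype.card F - 1) = 2 := by
    obtain ⟨t, ht⟩ := hodd
    rw [ht]
    have : 2 * t + 1 - 1 = 2 * t := by omega
    rw [this]
    exact Nat.gcd_eq_left (dvd_mul_right 2 t)
  have key : ∀ (y y' : ℙ (AlgebraicClosure F) (Fin 2 → AlgebraicClosure F))
      (c₀ g₀ : SpecialLinearGroup (Fin 2) F), y ≠ y' → orderOf c₀ = e →
      iota F (AlgebraicClosure F) c₀ • y = y → iota F (AlgebraicClosure F) c₀ • y' = y' →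
      iota F (AlgebraicClosure F) g₀ • y = y' → iota F (AlgebraicClosure F) g₀ • y' = y →
      ∃ D : Subgroup (Matrix.ProjectiveSpecialLinearGroup (Fin 2) F), Nat.card D = m := by
    intro y y' c₀ g₀ hyy hord hc1 hc2 hg1 hg2
    have hkd : e / m ∣ orderOf c₀ := by rw [hord]; exact Nat.div_dvd_of_dvd hm
    have hk0 : e / m ≠ 0 := by
      intro h0
      have := Nat.div_mul_cancel hm
      rw [h0, zero_mul] at this
      exact he0 this.symm
    have hord1 : orderOf (c₀ ^ (e / m)) = m := by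
      rw [orderOf_pow_of_dvd hk0 hkd, hord, Nat.div_div_self hm he0]
    have hf1 : iota F (AlgebraicClosure F) (c₀ ^ (e / m)) • y = y := by
      rw [map_pow]; exact pow_smul_fix hc1 _
    have hf2 : iota F (AlgebraicClosure F) (c₀ ^ (e / m)) • y' = y' := by
      rw [map_pow]; exact pow_smul_fix hc2 _
    obtain ⟨D, ⟨e1⟩⟩ := dihedral_sub (K := AlgebraicClosure F) hyy hm3 (fun _ => hm2) hord1 hf1 hf2 hg1 hg2
    refine ⟨D, ?_⟩
    rw [Nat.card_congr e1.toEquiv, DihedralGroup.nat_card, hgcd]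
    exact Nat.mul_div_cancel' hm2
  rcases he with rfl | rfl
  · obtain ⟨c₀, g₀, hord, hc1, hc2, hg1, hg2⟩ := split_data (F := F) (K := AlgebraicClosure F)
    exact key _ _ c₀ g₀ (Ne.symm (pt_ne_pInf 0)) hord hc1 hc2 hg1 hg2
  · obtain ⟨y, y', c₀, g₀, hyy, hord, hc1, hc2, hg1, hg2⟩ :=
      nonsplit_data (F := F) (K := AlgebraicClosure F)
    exact key y y' c₀ g₀ hyy hord hc1 hc2 hg1 hg2

end Cfsg.Agent.helper4.Dn
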