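import Mathlib
import Cfsg.Agent.Lib_helper4_DnAB

set_option autoImplicit false
set_option linter.unusedSectionVars false
set_option linter.style.haveILetI false
set_option maxHeartbeats 1600000

/-!
# Parabolic elements force a common divisor with `q`
-/

namespace Cfsg.Agent.helper4.Dn

open Matrix
open scoped LinearAlgebra.Projectivization MatrixGroups
open Cfsg.Agent.helper4.Dk

variable {F : Type*} [Field F] [Fintype F] {K : Type*} [Field K] [Algebra F K] [IsAlgClosed K]

theorem card_AA_dvd_card (H : Subgroup (SpecialLinearGroup (Fin 2) K)) [Finite H] (hH : -1 ∈ H) :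
    Nat.card (AA H) ∣ Nat.card H := by
  have h1 : Nat.card (ZP H) ∣ Nat.card H := by
    apply Subgroup.card_dvd_of_le
    intro g hg
    exact hg.1
  rw [card_ZP_z H hH] at h1
  exact (dvd_mul_left _ _).trans h1

/-- a subgroup with parabolic elements has order not coprime to `q` -/
theorem par_gcd (Ht : Subgroup (SpecialLinearGroup (Fin 2) F)) (hH : -1 ∈ Ht)
    (hpar : ∃ y, N2 (Ht.map (iota F K)) y ≠ 0) :
    ∃ q₁ : ℕ, 2 ≤ q₁ ∧ q₁ ∣ Fintype.card F ∧ q₁ ∣ Nat.card Ht := by
  classical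
  set H := Ht.map (iota F K) with hHdef
  have hH' : -1 ∈ H := neg_one_mem_map hH
  obtain ⟨y, hy⟩ := hpar
  have hne : {g : SpecialLinearGroup (Fin 2) K | g ∈ H ∧ g ≠ 1 ∧ g ≠ -1 ∧ tr g ^ 2 = 4 ∧
      g • y = y}.Nonempty := by
    by_contra hemp
    rw [Set.not_nonempty_iff_eq_empty] at hemp
    apply hy
    unfold N2
    rw [hemp, Set.ncard_empty]
  obtain ⟨g', hg'H, hg'1, hg'2, hg'tr, hg'y⟩ := hne
  obtain ⟨g, hg, rfl⟩ := hg'H
  obtain ⟨s, hs⟩ := exists_rational_conj g hg'1 hg'2 hg'tr y hg'y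
  set Ht' := cj s Ht with hHt'
  have hH'' : -1 ∈ Ht' := neg_one_mem_cj hH
  have hcard' : Nat.card Ht' = Nat.card Ht := card_cj s Ht
  set u := s⁻¹ * g * s with hu
  have huH : u ∈ Ht' := by
    rw [hHt', mem_cj]
    have : s * u * s⁻¹ = g := by rw [hu]; group
    rw [this]; exact hg
  have hu1 : iota F K u ≠ 1 := by
    rw [hu, map_mul, map_mul, map_inv]
    exact (conj_ne_one_iff _ _).mpr hg'1
  have hu2 : iota F K u ≠ -1 := by
    rw [hu, map_mul, map_mul, map_inv]
    exact (conj_ne_neg_one_iff _ _).mpr hg'2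
  have hutr : tr (iota F K u) ^ 2 = 4 := by
    rw [hu, map_mul, map_mul, map_inv]
    have := tr_conj (iota F K s)⁻¹ (iota F K g)
    rw [inv_inv] at this
    rw [this]; exact hg'tr
  have hufix : iota F K u • (pInf : ℙ K (Fin 2 → K)) = pInf := by
    rw [hu, map_mul, map_mul, map_inv, mul_smul, mul_smul, hs, hg'y, ← hs, inv_smul_smul]
  have hu10 : (iota F K u) 1 0 = 0 := (fixed_pInf_iff _).mp hufix
  have hud := diag_mul_of_tri _ hu10
  have hu00 : (iota F K u) 0 0 = (iota F K u) 1 1 := (tr_sq_tri _ hu10).mp hutr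
  have hsq : ((iota F K u) 0 0 - 1) * ((iota F K u) 0 0 + 1) = 0 := by
    rw [← hu00] at hud
    linear_combination hud
  have huS : ∃ a₀ : K, uS a₀ ∈ Ht'.map (iota F K) ∧ a₀ ≠ 0 := by
    rcases mul_eq_zero.mp hsq with h | h
    · have h00 : (iota F K u) 0 0 = 1 := sub_eq_zero.mp h
      refine ⟨(iota F K u) 0 1, ?_, ?_⟩
      · rw [← eq_uS_of _ hu10 h00]; exact Subgroup.mem_map_of_mem _ huH
      · intro h0
        apply hu1
        rw [eq_uS_of _ hu10 h00, h0, uS_zero]
    · have h00 : (iota F K u) 0 0 = -1 := eq_neg_of_add_eq_zero_left h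
      refine ⟨-(iota F K u) 0 1, ?_, ?_⟩
      · have h3 := eq_neg_uS_of _ hu10 h00
        have h4 : uS (-(iota F K u) 0 1) = -(iota F K u) := by rw [h3]; simp
        rw [h4]
        exact neg_mem (neg_one_mem_map hH'') (Subgroup.mem_map_of_mem _ huH)
      · intro h0
        apply hu2
        rw [eq_neg_uS_of _ hu10 h00, h0, uS_zero]
  obtain ⟨a₀, ha, ha0⟩ := huS
  refine ⟨Nat.card (AA (Ht'.map (iota F K))), two_le_card_AA _ ha ha0, card_AA_dvd (K := K) Ht', ?_⟩
  have := card_AA_dvd_card (Ht'.map (iota F K)) (neg_one_mem_map hH'')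
  rw [card_map_iota, hcard'] at this
  exact this

end Cfsg.Agent.helper4.Dn
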