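import Mathlib
import Cfsg.Agent.Lib_helper4_DnAC

set_option autoImplicit false
set_option linter.unusedSectionVars false
set_option linter.style.haveILetI false
set_option maxHeartbeats 1600000

/-!
# `{2,3}`-parts of natural numbers
-/

namespace Cfsg.Agent.helper4.Dn

/-- all prime divisors are 2 or 3 -/
def Is23 (a : ℕ) : Prop := ∀ r : ℕ, r.Prime → r ∣ a → r = 2 ∨ r = 3

theorem is23_pow (a b : ℕ) : Is23 (2 ^ a * 3 ^ b) := by
  intro r hr hd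
  rcases (Nat.Prime.dvd_mul hr).mp hd with h | h
  · left
    exact (Nat.prime_dvd_prime_iff_eq hr Nat.prime_two).mp (hr.dvd_of_dvd_pow h)
  · right
    exact (Nat.prime_dvd_prime_iff_eq hr Nat.prime_three).mp (hr.dvd_of_dvd_pow h)

theorem Is23.coprime {a n : ℕ} (ha : Is23 a) (h2 : ¬ 2 ∣ n) (h3 : ¬ 3 ∣ n) : Nat.Coprime a n := by
  apply Nat.coprime_of_dvd
  intro k hk hka hkn
  rcases ha k hk hka with rfl | rfl
  · exact h2 hkn
  · exact h3 hkn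

theorem uniq23 {a b u v : ℕ} (ha : Is23 a) (hb : Is23 b) (h : a * u = b * v)
    (hu2 : ¬ 2 ∣ u) (hu3 : ¬ 3 ∣ u) (hv2 : ¬ 2 ∣ v) (hv3 : ¬ 3 ∣ v) : a = b := by
  apply Nat.dvd_antisymm
  · have : a ∣ b * v := ⟨u, h.symm⟩
    exact (ha.coprime hv2 hv3).dvd_of_dvd_mul_right this
  · have : b ∣ a * u := ⟨v, h⟩
    exact (hb.coprime hu2 hu3).dvd_of_dvd_mul_right this

theorem part23 (N : ℕ) (hN : N ≠ 0) :
    ∃ v, 2 ^ (N.factorization 2) * 3 ^ (N.factorization 3) * v = N ∧ ¬ 2 ∣ v ∧ ¬ 3 ∣ v := by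
  have h2 : 2 ^ (N.factorization 2) ∣ N := Nat.ordProj_dvd N 2
  have h3 : 3 ^ (N.factorization 3) ∣ N := Nat.ordProj_dvd N 3
  have hcop : Nat.Coprime (2 ^ (N.factorization 2)) (3 ^ (N.factorization 3)) :=
    Nat.Coprime.pow _ _ (by norm_num)
  obtain ⟨v, hv⟩ := hcop.mul_dvd_of_dvd_of_dvd h2 h3
  refine ⟨v, hv.symm, ?_, ?_⟩
  · rintro ⟨w, rfl⟩
    apply Nat.pow_succ_factorization_not_dvd hN Nat.prime_two
    exact ⟨3 ^ (N.factorization 3) * w, hv.trans (by ring)⟩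
  · rintro ⟨w, rfl⟩
    apply Nat.pow_succ_factorization_not_dvd hN Nat.prime_three
    exact ⟨2 ^ (N.factorization 2) * w, hv.trans (by ring)⟩

theorem not_dvd_mul {r a b : ℕ} (hr : r.Prime) (ha : ¬ r ∣ a) (hb : ¬ r ∣ b) : ¬ r ∣ a * b := by
  intro h
  rcases (Nat.Prime.dvd_mul hr).mp h with h | h
  · exact ha h
  · exact hb h

end Cfsg.Agent.helper4.Dn
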