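import Mathlib
import Cfsg.Agent.Lib_helper4_DnAD
import Cfsg.Prelude.Def_OddOrderLocal

set_option autoImplicit false
set_option linter.unusedSectionVars false
set_option linter.style.haveILetI false
set_option maxHeartbeats 1600000

/-!
# Hall `{2,3}`-subgroups of `PSL₂(q)`: necessity
-/

namespace Cfsg.Agent.helper4.Dn

open Matrix
open scoped LinearAlgebra.Projectivization MatrixGroups
open Cfsg.Agent.helper4.Dk

variable {F : Type*} [Field F] [Fintype F]

theorem sq_sub_one_eq (t : ℕ) : (2 * t + 1) ^ 2 - 1 = 4 * t * (t + 1) := by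
  have : (2 * t + 1) ^ 2 = 4 * t * (t + 1) + 1 := by ring
  omega

theorem mod_lemma_M (t q : ℕ) (ht : q = 2 * t + 1) (h6 : ¬ 2 ∣ t + 1) (h7 : ¬ 3 ∣ t + 1) (h3q' : ¬ 3 ∣ 2 * t + 1) :
    3 ∣ 2 * t ∧ q % 4 = 1 := by
  have h3 : t % 3 = 0 ∨ t % 3 = 1 ∨ t % 3 = 2 := by omega
  have h2 : t % 2 = 0 ∨ t % 2 = 1 := by omega
  rcases h3 with h | h | h
  · rcases h2 with h' | h'
    · constructor <;> omega
    · exfalso; apply h6; omega
  · exfalso; apply h3q'; omega
  · exfalso; apply h7; omega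
theorem mod_lemma_P (t q : ℕ) (ht : q = 2 * t + 1) (h6 : ¬ 2 ∣ t) (h7 : ¬ 3 ∣ t) (h3q' : ¬ 3 ∣ 2 * t + 1) :
    3 ∣ 2 * t + 2 ∧ q % 4 = 3 := by
  have h3 : t % 3 = 0 ∨ t % 3 = 1 ∨ t % 3 = 2 := by omega
  have h2 : t % 2 = 0 ∨ t % 2 = 1 := by omega
  rcases h3 with h | h | h
  · exfalso; apply h7; omega
  · exfalso; apply h3q'; omega
  · rcases h2 with h' | h'
    · exfalso; apply h6; omega
    · constructor <;> omega

theorem hall_mp {p : ℕ} [Fact p.Prime] [CharP F p] (hp : 5 ≤ p)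
    (H : Subgroup (Matrix.ProjectiveSpecialLinearGroup (Fin 2) F))
    (hH : Cfsg.IsPiHall ({2, 3} : Set ℕ) H) :
    (3 ∣ Fintype.card F - 1 ∧ Fintype.card F % 4 = 1) ∨
    (3 ∣ Fintype.card F + 1 ∧ Fintype.card F % 4 = 3) ∨
    2 ^ (Fintype.card F ^ 2 - 1).factorization 2 * 3 ^ (Fintype.card F ^ 2 - 1).factorization 3 = 24 ∨
    2 ^ (Fintype.card F ^ 2 - 1).factorization 2 * 3 ^ (Fintype.card F ^ 2 - 1).factorization 3 = 48 := by
  classical
  obtain ⟨h1, h2⟩ := hH
  have hpp : p.Prime := Fact.out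
  obtain ⟨f, -, hcard⟩ := FiniteField.card F p
  have hpodd : Odd p := hpp.odd_of_ne_two (by omega)
  have hodd : Odd (Fintype.card F) := by rw [hcard]; exact hpodd.pow
  have h2q : ¬ 2 ∣ Fintype.card F := by
    rcases hodd with ⟨t, ht⟩
    omega
  have h3q : ¬ 3 ∣ Fintype.card F := by
    rw [hcard]
    intro h
    have := Nat.prime_three.dvd_of_dvd_pow h
    have := (Nat.prime_dvd_prime_iff_eq Nat.prime_three hpp).mp this
    omega
  set Ht := H.comap (piF F) with hHt
  have hneg : -1 ∈ Ht := by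
    rw [hHt, Subgroup.mem_comap, piF_neg_one]; exact H.one_mem
  have hX : Nat.card Ht = 2 * Nat.card H := card_comap_piF hodd H
  have hG := card_SL2_eq_two_mul hodd
  rw [Cfsg.Agent.helper12.card_SL2] at hG
  have hmul := Subgroup.card_mul_index H
  obtain ⟨X, hXdef⟩ : ∃ X, X = Nat.card Ht := ⟨_, rfl⟩
  obtain ⟨idx, hidx⟩ : ∃ idx, idx = H.index := ⟨_, rfl⟩
  have hXi : X * idx = Fintype.card F * (Fintype.card F ^ 2 - 1) := by
    rw [hXdef, hX, hidx, hG, ← hmul]; ring
  have hX23 : Is23 X := by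
    intro r hr hd
    rw [hXdef, hX] at hd
    rcases (Nat.Prime.dvd_mul hr).mp hd with h | h
    · left; exact (Nat.prime_dvd_prime_iff_eq hr Nat.prime_two).mp h
    · have := h1 r hr h
      simpa using this
  have hi2 : ¬ 2 ∣ idx := by rw [hidx]; exact h2 2 Nat.prime_two (by simp)
  have hi3 : ¬ 3 ∣ idx := by rw [hidx]; exact h2 3 Nat.prime_three (by simp)
  have hXpos : 0 < X := by rw [hXdef]; exact Nat.card_pos
  have nopar : ∀ q₁, 2 ≤ q₁ → q₁ ∣ Fintype.card F → q₁ ∣ X → False := by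
    intro q₁ hq₁ hdq hdX
    have hr := Nat.minFac_prime (by omega : q₁ ≠ 1)
    have hrq : q₁.minFac ∣ q₁ := Nat.minFac_dvd q₁
    rcases hX23 _ hr (hrq.trans hdX) with h | h
    · exact h2q (h ▸ hrq.trans hdq)
    · exact h3q (h ▸ hrq.trans hdq)
  obtain ⟨t, ht⟩ := hodd
  have hz : zc (AlgebraicClosure F) = 2 := zc_of_odd _ ⟨t, ht⟩
  have hXi' : X * idx = (2 * t + 1) * (4 * t * (t + 1)) := by
    rw [hXi, ht, sq_sub_one_eq]
  have e1 : Fintype.card F - 1 = 2 * t := by omega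
  have e2 : Fintype.card F + 1 = 2 * t + 2 := by omega
  have h3q' : ¬ 3 ∣ 2 * t + 1 := by rw [← ht]; exact h3q
  -- the two torus cases
  have caseM : ∀ m : ℕ, 0 < m → X = 2 * m → m ∣ Fintype.card F - 1 →
      (3 ∣ Fintype.card F - 1 ∧ Fintype.card F % 4 = 1) := by
    intro m hm hXm hd
    rw [e1] at hd ⊢
    obtain ⟨u, hu⟩ := hd
    have h5 : idx = (2 * t + 1) * u * (t + 1) := by
      have : (2 * m) * idx = (2 * m) * ((2 * t + 1) * u * (t + 1)) := by
        calc (2 * m) * idx = X * idx := by rw [hXm]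
          _ = (2 * t + 1) * (4 * t * (t + 1)) := hXi'
          _ = (2 * t + 1) * (2 * (2 * t) * (t + 1)) := by ring
          _ = (2 * t + 1) * (2 * (m * u) * (t + 1)) := by rw [← hu]
          _ = (2 * m) * ((2 * t + 1) * u * (t + 1)) := by ring
      exact Nat.eq_of_mul_eq_mul_left (by omega) this
    have h6 : ¬ 2 ∣ t + 1 := fun h => hi2 (h5 ▸ Dvd.dvd.mul_left h _)
    have h7 : ¬ 3 ∣ t + 1 := fun h => hi3 (h5 ▸ Dvd.dvd.mul_left h _)
    exact mod_lemma_M t _ ht h6 h7 h3q'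
  have caseP : ∀ m : ℕ, 0 < m → X = 2 * m → m ∣ Fintype.card F + 1 →
      (3 ∣ Fintype.card F + 1 ∧ Fintype.card F % 4 = 3) := by
    intro m hm hXm hd
    rw [e2] at hd ⊢
    obtain ⟨u, hu⟩ := hd
    have h5 : idx = (2 * t + 1) * u * t := by
      have : (2 * m) * idx = (2 * m) * ((2 * t + 1) * u * t) := by
        calc (2 * m) * idx = X * idx := by rw [hXm]
          _ = (2 * t + 1) * (4 * t * (t + 1)) := hXi'
          _ = (2 * t + 1) * (2 * t * (2 * t + 2)) := by ring
          _ = (2 * t + 1) * (2 * t * (m * u)) := by rw [← hu]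
          _ = (2 * m) * ((2 * t + 1) * u * t) := by ring
      exact Nat.eq_of_mul_eq_mul_left (by omega) this
    have h6 : ¬ 2 ∣ t := fun h => hi2 (h5 ▸ Dvd.dvd.mul_left h _)
    have h7 : ¬ 3 ∣ t := fun h => hi3 (h5 ▸ Dvd.dvd.mul_left h _)
    exact mod_lemma_P t _ ht h6 h7 h3q'
  -- the `{2,3}`-part
  have hN0 : Fintype.card F ^ 2 - 1 ≠ 0 := by
    rw [ht, sq_sub_one_eq]
    have : 1 ≤ t := by
      have : 2 ≤ Fintype.card F := Fintype.one_lt_card
      omega
    positivity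
  obtain ⟨v, hv, hv2, hv3⟩ := part23 _ hN0
  have hP : ∀ Y, Is23 Y → X = Y →
      2 ^ (Fintype.card F ^ 2 - 1).factorization 2 * 3 ^ (Fintype.card F ^ 2 - 1).factorization 3 = Y := by
    intro Y hY hXY
    apply uniq23 (is23_pow _ _) hY (u := Fintype.card F * v) (v := idx)
    · calc 2 ^ (Fintype.card F ^ 2 - 1).factorization 2 *
            3 ^ (Fintype.card F ^ 2 - 1).factorization 3 * (Fintype.card F * v)
          = Fintype.card F * (2 ^ (Fintype.card F ^ 2 - 1).factorization 2 *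
            3 ^ (Fintype.card F ^ 2 - 1).factorization 3 * v) := by ring
        _ = Fintype.card F * (Fintype.card F ^ 2 - 1) := by rw [hv]
        _ = X * idx := hXi.symm
        _ = Y * idx := by rw [hXY]
    · exact not_dvd_mul Nat.prime_two h2q hv2
    · exact not_dvd_mul Nat.prime_three h3q hv3
    · exact hi2
    · exact hi3
  set H' := Ht.map (iota F (AlgebraicClosure F)) with hH'
  have hcH' : Nat.card H' = X := by rw [hXdef]; exact card_map_iota Ht
  rcases nd_main (K := AlgebraicClosure F) Ht hneg with ⟨w, hw⟩ | ⟨q₁, c, k, s, n, hPar, -⟩ |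
    ⟨hnp, y₁, y₂, y₃, s₁, s₂, s₃, hb, hPoly⟩
  · exfalso
    by_cases h0 : N2 H' w = 0
    · have hd := card_stab_dvd Ht hneg w h0
      have hst : stabIn H' w = H' := by
        ext g
        rw [mem_stabIn]
        exact ⟨fun h => h.1, fun h => ⟨h, hw g h⟩⟩
      rw [← hH', hst, hcH'] at hd
      rcases hd with hd | hd
      · rw [e1] at hd
        obtain ⟨u, hu⟩ := hd
        have : X * idx = X * ((2 * t + 1) * u * (2 * t + 2)) := by
          calc X * idx = (2 * t + 1) * (4 * t * (t + 1)) := hXi'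
            _ = (2 * t + 1) * ((2 * t) * (2 * t + 2)) := by ring
            _ = X * ((2 * t + 1) * u * (2 * t + 2)) := by rw [hu]; ring
        have := Nat.eq_of_mul_eq_mul_left hXpos this
        exact hi2 (this ▸ Dvd.dvd.mul_left ⟨t + 1, by ring⟩ _)
      · rw [e2] at hd
        obtain ⟨u, hu⟩ := hd
        have : X * idx = X * ((2 * t + 1) * u * (2 * t)) := by
          calc X * idx = (2 * t + 1) * (4 * t * (t + 1)) := hXi'
            _ = (2 * t + 1) * ((2 * t) * (2 * t + 2)) := by ring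
            _ = X * ((2 * t + 1) * u * (2 * t)) := by rw [hu]; ring
        have := Nat.eq_of_mul_eq_mul_left hXpos this
        exact hi2 (this ▸ Dvd.dvd.mul_left ⟨t, rfl⟩ _)
    · obtain ⟨q₁, hq₁, hdq, hdX⟩ := par_gcd (K := AlgebraicClosure F) Ht hneg ⟨w, h0⟩
      exact nopar q₁ hq₁ hdq (hXdef ▸ hdX)
  · exfalso
    obtain ⟨hq₁, hdq, -, -, -, -, -, -, hN, -⟩ := hPar
    apply nopar q₁ hq₁ hdq
    rw [hXdef, hN]
    exact ⟨zc (AlgebraicClosure F) * (n * c), by ring⟩
  · obtain ⟨-, -, hy₃, -, -, -, -, hc1, hc2, hc3, hcard, htyp⟩ := hPoly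
    rw [← hH', hcH', hz] at hcard
    obtain ⟨hs1, htyp⟩ := htyp
    rcases htyp with ⟨hs2, hhb, hs3⟩ | ⟨-, -, hhb⟩ | ⟨-, -, hhb⟩ | ⟨-, -, hhb⟩
    · have hd := card_stab_dvd Ht hneg y₃ (hnp y₃)
      rw [← hH', hc3, hz] at hd
      rcases hd with hd | hd
      · left
        exact caseM (2 * s₃) (by omega) (by rw [hcard, hhb]) hd
      · right; left
        exact caseP (2 * s₃) (by omega) (by rw [hcard, hhb]) hd
    · right; right; left
      exact hP 24 (by have := is23_pow 3 1; norm_num at this; exact this) (by rw [hcard, hhb])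
    · right; right; right
      exact hP 48 (by have := is23_pow 4 1; norm_num at this; exact this) (by rw [hcard, hhb])
    · exfalso
      have : (5 : ℕ) ∣ X := by rw [hcard, hhb]; norm_num
      rcases hX23 5 Nat.prime_five this with h | h <;> omega

end Cfsg.Agent.helper4.Dn
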