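import Cfsg.Statements.S0802
import Cfsg.Agent.Lib_helper11_A4S4
import Cfsg.Agent.Lib_helper11_PSL2Char2
import Cfsg.Agent.Lib_helper11_A5inPSL2

set_option autoImplicit false
open Cfsg

namespace Cfsg.Agent.S0802

open Matrix Polynomial
open Cfsg.Agent.helper11.A5inPSL2 (xS coe_xS xS_pow neg_one_mem_center)
open Cfsg.Agent.helper11.PSL2Char2 (ch2 slEquiv exists_cube_root)
open Cfsg.Agent.helper11.A4S4 (exists_injective_A4)

variable {F : Type*} [Field F]

/-- `A₄` embeds into `PSL₂(F)` given a point on a conic -/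
theorem exists_A4 (y3 y4 : F) (h : y4 ^ 2 + y3 * y4 + y3 ^ 2 + y4 + 1 = 0)
    (hnc : y4 ≠ 0 ∨ (2 : F) ≠ 0) :
    ∃ ψ : alternatingGroup (Fin 4) →* Matrix.ProjectiveSpecialLinearGroup (Fin 2) F,
      Function.Injective ψ := by
  obtain ⟨Y, hYd⟩ : ∃ Y : SpecialLinearGroup (Fin 2) F,
      (Y : Matrix (Fin 2) (Fin 2) F) = !![-1 - y4, y3 + y4; y3, y4] :=
    ⟨⟨!![-1 - y4, y3 + y4; y3, y4], by rw [det_fin_two_of]; linear_combination (-1 : F) * h⟩, rfl⟩
  have hY1 : Y.1 = !![-1 - y4, y3 + y4; y3, y4] := hYd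
  have htr : Y.1 0 0 + Y.1 1 1 = -1 := by
    rw [hY1]; simp
  have hsq : (Y : Matrix (Fin 2) (Fin 2) F) * (Y : Matrix (Fin 2) (Fin 2) F)
      = (-1 : F) • (Y : Matrix (Fin 2) (Fin 2) F) - 1 := by
    rw [ch2, Y.2, one_smul, htr]
  have hY3 : Y ^ 3 = 1 := by
    apply Subtype.ext
    rw [Matrix.SpecialLinearGroup.coe_pow, Matrix.SpecialLinearGroup.coe_one, pow_succ, sq, hsq,
      sub_mul, smul_mul_assoc, one_mul, hsq]
    module
  have hZ1 : (xS * Y : SpecialLinearGroup (Fin 2) F).1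
      = !![0, -1; 1, -1] * !![-1 - y4, y3 + y4; y3, y4] := by
    show ((xS * Y : SpecialLinearGroup (Fin 2) F) : Matrix (Fin 2) (Fin 2) F) = _
    rw [Matrix.SpecialLinearGroup.coe_mul, coe_xS, hYd]
  have z00 : (xS * Y : SpecialLinearGroup (Fin 2) F).1 0 0 = -y3 := by
    rw [hZ1]; simp [Matrix.mul_apply, Fin.sum_univ_two] <;> ring
  have z01 : (xS * Y : SpecialLinearGroup (Fin 2) F).1 0 1 = -y4 := by
    rw [hZ1]; simp [Matrix.mul_apply, Fin.sum_univ_two] <;> ring
  have z10 : (xS * Y : SpecialLinearGroup (Fin 2) F).1 1 0 = -1 - y4 - y3 := by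
    rw [hZ1]; simp [Matrix.mul_apply, Fin.sum_univ_two] <;> ring
  have z11 : (xS * Y : SpecialLinearGroup (Fin 2) F).1 1 1 = y3 := by
    rw [hZ1]; simp [Matrix.mul_apply, Fin.sum_univ_two] <;> ring
  have hZ2 : (xS * Y) ^ 2 = -1 := by
    have hdet : (xS * Y : SpecialLinearGroup (Fin 2) F).1.det = 1 := (xS * Y).2
    apply Subtype.ext
    rw [Matrix.SpecialLinearGroup.coe_pow, sq, ch2, hdet, one_smul, z00, z11, neg_add_cancel,
      zero_smul, zero_sub, Matrix.SpecialLinearGroup.coe_neg, Matrix.SpecialLinearGroup.coe_one]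
  have hZnc : xS * Y ∉ Subgroup.center (SpecialLinearGroup (Fin 2) F) := by
    rw [Matrix.SpecialLinearGroup.mem_center_iff]
    rintro ⟨r, -, hr⟩
    have e01 := congrFun (congrFun hr 0) 1
    have e10 := congrFun (congrFun hr 1) 0
    have e00 := congrFun (congrFun hr 0) 0
    have e11 := congrFun (congrFun hr 1) 1
    have s01 : (Matrix.scalar (Fin 2) r) 0 1 = 0 := by simp [Matrix.scalar_apply]
    have s10 : (Matrix.scalar (Fin 2) r) 1 0 = 0 := by simp [Matrix.scalar_apply]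
    have s00 : (Matrix.scalar (Fin 2) r) 0 0 = r := by simp [Matrix.scalar_apply]
    have s11 : (Matrix.scalar (Fin 2) r) 1 1 = r := by simp [Matrix.scalar_apply]
    rw [s01] at e01
    rw [s10] at e10
    rw [s00] at e00
    rw [s11] at e11
    have f01 : (0 : F) = -y4 := e01.trans z01
    have f10 : (0 : F) = -1 - y4 - y3 := e10.trans z10
    have f00 : r = -y3 := e00.trans z00
    have f11 : r = y3 := e11.trans z11
    have hy4 : y4 = 0 := by linear_combination f01
    have h2 : (2 : F) = 0 := by linear_combination f11 - f00 + 2 * f10 - 2 * f01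
    rcases hnc with h' | h'
    · exact h' hy4
    · exact h' h2
  let x₀ : Matrix.ProjectiveSpecialLinearGroup (Fin 2) F := QuotientGroup.mk (xS⁻¹)
  let x₁ : Matrix.ProjectiveSpecialLinearGroup (Fin 2) F := QuotientGroup.mk (xS * Y)
  have h0 : x₀ ^ 3 = 1 := by
    show (QuotientGroup.mk (xS⁻¹) : Matrix.ProjectiveSpecialLinearGroup (Fin 2) F) ^ 3 = 1
    rw [← QuotientGroup.mk_pow, inv_pow, xS_pow, inv_one]
    rfl
  have h1 : x₁ ^ 2 = 1 := by
    show (QuotientGroup.mk (xS * Y) : Matrix.ProjectiveSpecialLinearGroup (Fin 2) F) ^ 2 = 1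
    rw [← QuotientGroup.mk_pow, hZ2, QuotientGroup.eq_one_iff]
    exact neg_one_mem_center
  have h01 : (x₀ * x₁) ^ 3 = 1 := by
    show ((QuotientGroup.mk (xS⁻¹) : Matrix.ProjectiveSpecialLinearGroup (Fin 2) F)
      * QuotientGroup.mk (xS * Y)) ^ 3 = 1
    rw [← QuotientGroup.mk_mul, inv_mul_cancel_left, ← QuotientGroup.mk_pow, hY3]
    rfl
  have hne : x₁ ≠ 1 := by
    intro hx
    rw [QuotientGroup.eq_one_iff] at hx
    exact hZnc hx
  exact exists_injective_A4 x₀ x₁ h0 h1 h01 hne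

theorem exists_conic_odd [Fintype F] (h2 : (2 : F) ≠ 0) :
    ∃ y3 y4 : F, y4 ^ 2 + y3 * y4 + y3 ^ 2 + y4 + 1 = 0 := by
  by_cases h3 : (3 : F) = 0
  · exact ⟨-1, -1, by linear_combination h3⟩
  · have hchar : ringChar F ≠ 2 := by
      intro h
      apply h2
      have h1 := (ringChar.spec F 2).mpr (by rw [h])
      exact_mod_cast h1
    have hodd : Fintype.card F % 2 = 1 := FiniteField.odd_card_of_char_ne_two hchar
    obtain ⟨i2, hi2⟩ : ∃ i2 : F, 2 * i2 = 1 := ⟨2⁻¹, mul_inv_cancel₀ h2⟩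
    have hi20 : i2 ≠ 0 := by
      rintro rfl
      simp at hi2
    have hg : degree (C (3 * i2 ^ 2) * X ^ 2 + C (1 : F) * X + C (1 : F)) = 2 :=
      degree_quadratic (mul_ne_zero h3 (pow_ne_zero 2 hi20))
    obtain ⟨u, y4, h⟩ := FiniteField.exists_root_sum_quadratic (f := (X : F[X]) ^ 2)
      (degree_X_pow 2) hg hodd
    simp only [eval_add, eval_mul, eval_pow, eval_C, eval_X] at h
    refine ⟨u - y4 * i2, y4, ?_⟩
    linear_combination h - ((i2 + 1) * y4 ^ 2 + u * y4) * hi2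

theorem exists_omega [Fintype F] (n : ℕ) (hF : Fintype.card F = 2 ^ n) (hn : Even n) :
    ∃ w : F, w ^ 2 + w + 1 = 0 := by
  classical
  have hcard : Nat.card Fˣ = 2 ^ n - 1 := by
    rw [Nat.card_eq_fintype_card, Fintype.card_units, hF]
  have h3 : 3 ∣ 2 ^ n - 1 := by
    obtain ⟨k, rfl⟩ := hn
    apply Nat.dvd_of_mod_eq_zero
    apply Nat.sub_mod_eq_zero_of_mod_eq
    rw [← two_mul, pow_mul, Nat.pow_mod]
    norm_num
  have : Fact (Nat.Prime 3) := ⟨by norm_num⟩
  obtain ⟨w, hw⟩ := exists_prime_orderOf_dvd_card' (G := Fˣ) 3 (by rw [hcard]; exact h3)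
  have hw3 : (w : F) ^ 3 = 1 := by
    have h1 := pow_orderOf_eq_one w
    rw [hw] at h1
    have h2 := congrArg Units.val h1
    rwa [Units.val_pow_eq_pow_val, Units.val_one] at h2
  have hw1 : (w : F) ≠ 1 := by
    intro h
    have h1 : w = 1 := Units.ext (by rw [h, Units.val_one])
    rw [h1, orderOf_one] at hw
    norm_num at hw
  refine ⟨(w : F), ?_⟩
  have h0 : ((w : F) - 1) * ((w : F) ^ 2 + w + 1) = 0 := by linear_combination hw3
  rcases mul_eq_zero.mp h0 with h | h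
  · exact absurd (sub_eq_zero.mp h) hw1
  · exact h

/-- a three-cycle of `A₄` -/
def a4a : alternatingGroup (Fin 4) :=
  ⟨Equiv.swap 0 1 * Equiv.swap 1 2, Equiv.Perm.mem_alternatingGroup.mpr (by decide)⟩

/-- a double transposition of `A₄` -/
def a4v : alternatingGroup (Fin 4) :=
  ⟨Equiv.swap 0 1 * Equiv.swap 2 3, Equiv.Perm.mem_alternatingGroup.mpr (by decide)⟩

theorem a4a_pow : a4a ^ 3 = 1 := by decide
theorem a4v_pow : a4v ^ 2 = 1 := by decide
theorem a4v_ne : a4v ≠ 1 := by decide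
theorem a4_comm : a4v * (a4a * a4v * a4a⁻¹) = (a4a * a4v * a4a⁻¹) * a4v := by decide
theorem a4_ne : a4a * a4v * a4a⁻¹ ≠ a4v := by decide

theorem no_A4 [Fintype F] [CharP F 2] (n : ℕ) (hF : Fintype.card F = 2 ^ n) (hn : Odd n)
    (H : Subgroup (Matrix.ProjectiveSpecialLinearGroup (Fin 2) F))
    (e : H ≃* alternatingGroup (Fin 4)) : False := by
  have h2 : (2 : F) = 0 := CharTwo.two_eq_zero
  let ρ : alternatingGroup (Fin 4) →* SpecialLinearGroup (Fin 2) F :=
    (slEquiv h2).symm.toMonoidHom.comp (H.subtype.comp e.symm.toMonoidHom)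
  have hρ : Function.Injective ρ :=
    (slEquiv h2).symm.injective.comp (H.subtype_injective.comp e.symm.injective)
  obtain ⟨c, hc3, hc1⟩ := exists_cube_root (ρ a4a) (ρ a4v)
    (by rw [← map_pow, a4a_pow, map_one]) (by rw [← map_pow, a4v_pow, map_one])
    (by
      intro h
      rw [← map_one ρ] at h
      exact a4v_ne (hρ h))
    (by
      rw [← map_inv, ← map_mul, ← map_mul, ← map_mul, ← map_mul, a4_comm])
    (by
      rw [← map_inv, ← map_mul, ← map_mul]
      intro h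
      exact a4_ne (hρ h))
  have : Fact (Nat.Prime 3) := ⟨by norm_num⟩
  have ho : orderOf c = 3 := orderOf_eq_prime hc3 hc1
  have hc0 : c ≠ 0 := by
    rintro rfl
    norm_num at hc3
  have hd : 3 ∣ Fintype.card F - 1 := by
    rw [← ho]
    exact orderOf_dvd_of_pow_eq_one (FiniteField.pow_card_sub_one_eq_one c hc0)
  rw [hF] at hd
  obtain ⟨k, rfl⟩ := hn
  have h4 : 2 ^ (2 * k + 1) % 3 = 2 := by
    rw [pow_succ, pow_mul, Nat.mul_mod, Nat.pow_mod]
    norm_num
  have hpos : 1 ≤ 2 ^ (2 * k + 1) := Nat.one_le_two_pow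
  obtain ⟨N, hN⟩ : ∃ N, N = 2 ^ (2 * k + 1) := ⟨_, rfl⟩
  rw [← hN] at hd h4 hpos
  omega

/-- PSL_2(p^n) has a subgroup isomorphic to A_4 if and only if it is not the case that p = 2 and n is odd. -/
theorem result {F : Type*} [Field F] [Fintype F] (p n : ℕ) [Fact p.Prime] [CharP F p] (hF : Fintype.card F = p ^ n) : (∃ H : Subgroup (Matrix.ProjectiveSpecialLinearGroup (Fin 2) F), Nonempty (H ≃* alternatingGroup (Fin 4))) ↔ ¬ (p = 2 ∧ Odd n) := by
  constructor
  · rintro ⟨H, ⟨e⟩⟩ ⟨rfl, hn⟩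
    exact no_A4 n hF hn H e
  · intro h
    have hex : ∃ ψ : alternatingGroup (Fin 4) →* Matrix.ProjectiveSpecialLinearGroup (Fin 2) F,
        Function.Injective ψ := by
      by_cases hp : p = 2
      · subst hp
        have hn : Even n := by
          rw [← Nat.not_odd_iff_even]
          intro ho
          exact h ⟨rfl, ho⟩
        obtain ⟨w, hw⟩ := exists_omega n hF hn
        refine exists_A4 0 w (by linear_combination hw) (Or.inl ?_)
        rintro rfl
        simp at hw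
      · have h2 : (2 : F) ≠ 0 := by
          intro h2
          have h3 : ((2 : ℕ) : F) = 0 := by exact_mod_cast h2
          have h4 := (CharP.cast_eq_zero_iff F p 2).mp h3
          exact hp ((Nat.prime_dvd_prime_iff_eq Fact.out Nat.prime_two).mp h4)
        obtain ⟨y3, y4, hy⟩ := exists_conic_odd h2
        exact exists_A4 y3 y4 hy (Or.inr h2)
    obtain ⟨ψ, hψ⟩ := hex
    exact ⟨ψ.range, ⟨(MonoidHom.ofInjective hψ).symm⟩⟩

end Cfsg.Agent.S0802
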