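import Cfsg.Statements.S0803
import Cfsg.Agent.Lib_helper11_A4S4
import Cfsg.Agent.Lib_helper11_PSL2Char2
import Cfsg.Agent.Lib_helper11_A5inPSL2
import Cfsg.Agent.S0243

set_option autoImplicit false
open Cfsg

namespace Cfsg.Agent.S0803

open Matrix Polynomial
open Cfsg.Agent.helper11.A5inPSL2 (neg_one_mem_center)
open Cfsg.Agent.helper11.PSL2Char2 (ch2 slEquiv sq_eq_one_of_pow_four)
open Cfsg.Agent.helper11.A4S4 (exists_injective_S4)

variable {F : Type*} [Field F]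

theorem trace_mul (M N : Matrix (Fin 2) (Fin 2) F) :
    (M * N) 0 0 + (M * N) 1 1
      = M 0 0 * N 0 0 + M 0 1 * N 1 0 + M 1 0 * N 0 1 + M 1 1 * N 1 1 := by
  rw [Matrix.mul_apply, Matrix.mul_apply, Fin.sum_univ_two, Fin.sum_univ_two]; ring

theorem trace_mul_of (x1 y1 z1 w1 x2 y2 z2 w2 : F) (M N : SpecialLinearGroup (Fin 2) F)
    (hM : (M : Matrix (Fin 2) (Fin 2) F) = !![x1, y1; z1, w1])
    (hN : (N : Matrix (Fin 2) (Fin 2) F) = !![x2, y2; z2, w2]) :
    (M * N : SpecialLinearGroup (Fin 2) F).1 0 0 + (M * N : SpecialLinearGroup (Fin 2) F).1 1 1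
      = x1 * x2 + y1 * z2 + z1 * y2 + w1 * w2 := by
  show ((M * N : SpecialLinearGroup (Fin 2) F) : Matrix (Fin 2) (Fin 2) F) 0 0
    + ((M * N : SpecialLinearGroup (Fin 2) F) : Matrix (Fin 2) (Fin 2) F) 1 1 = _
  rw [Matrix.SpecialLinearGroup.coe_mul, hM, hN, trace_mul]
  rfl

theorem sl_sq (X : SpecialLinearGroup (Fin 2) F) (t : F) (ht : X.1 0 0 + X.1 1 1 = t) :
    (X : Matrix (Fin 2) (Fin 2) F) * (X : Matrix (Fin 2) (Fin 2) F)
      = t • (X : Matrix (Fin 2) (Fin 2) F) - 1 := by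
  have hdet : X.1.det = 1 := X.2
  rw [ch2, hdet, one_smul, ht]

theorem sq_of_trace_zero (X : SpecialLinearGroup (Fin 2) F) (ht : X.1 0 0 + X.1 1 1 = 0) :
    X ^ 2 = -1 := by
  apply Subtype.ext
  rw [Matrix.SpecialLinearGroup.coe_pow, sq, sl_sq X 0 ht, zero_smul, zero_sub,
    Matrix.SpecialLinearGroup.coe_neg, Matrix.SpecialLinearGroup.coe_one]

theorem cube_of_trace_one (X : SpecialLinearGroup (Fin 2) F) (ht : X.1 0 0 + X.1 1 1 = 1) :
    X ^ 3 = -1 := by
  apply Subtype.ext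
  rw [Matrix.SpecialLinearGroup.coe_pow, pow_succ, sq, sl_sq X 1 ht, sub_mul, smul_mul_assoc,
    one_mul, sl_sq X 1 ht, Matrix.SpecialLinearGroup.coe_neg, Matrix.SpecialLinearGroup.coe_one]
  module

theorem cube_of_trace_neg_one (X : SpecialLinearGroup (Fin 2) F)
    (ht : X.1 0 0 + X.1 1 1 = -1) : X ^ 3 = 1 := by
  apply Subtype.ext
  rw [Matrix.SpecialLinearGroup.coe_pow, pow_succ, sq, sl_sq X (-1) ht, sub_mul, smul_mul_assoc,
    one_mul, sl_sq X (-1) ht, Matrix.SpecialLinearGroup.coe_one]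
  module

theorem not_mem_center_of_sq (h2 : (2 : F) ≠ 0) (Z : SpecialLinearGroup (Fin 2) F)
    (hZ : Z ^ 2 = -1) : Z ∉ Subgroup.center (SpecialLinearGroup (Fin 2) F) := by
  rw [Matrix.SpecialLinearGroup.mem_center_iff]
  rintro ⟨r, hr2, hr⟩
  simp only [Fintype.card_fin] at hr2
  have h1 : (Z : Matrix (Fin 2) (Fin 2) F) * (Z : Matrix (Fin 2) (Fin 2) F) = 1 := by
    rw [← hr, ← map_mul, ← sq, hr2, map_one]
  have h3 : (Z : Matrix (Fin 2) (Fin 2) F) * (Z : Matrix (Fin 2) (Fin 2) F) = -1 := by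
    have h4 := congrArg Subtype.val hZ
    rwa [Matrix.SpecialLinearGroup.coe_pow, sq, Matrix.SpecialLinearGroup.coe_neg,
      Matrix.SpecialLinearGroup.coe_one] at h4
  rw [h1] at h3
  have h5 := congrFun (congrFun h3 0) 0
  simp at h5
  apply h2
  linear_combination h5

/-- `S₄` embeds in `PSL₂(F)` when `F` contains `1/√2` and `-1` is a sum of two squares -/
theorem exists_S4 (h2 : (2 : F) ≠ 0) (a b s : F) (hab : a ^ 2 + b ^ 2 + 1 = 0)
    (hs : 2 * s ^ 2 = 1) :
    ∃ ψ : Equiv.Perm (Fin 4) →* Matrix.ProjectiveSpecialLinearGroup (Fin 2) F,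
      Function.Injective ψ := by
  obtain ⟨R₁, hR₁⟩ : ∃ R : SpecialLinearGroup (Fin 2) F,
      (R : Matrix (Fin 2) (Fin 2) F) = !![s * a, s * (b - 1); s * (b + 1), -(s * a)] :=
    ⟨⟨!![s * a, s * (b - 1); s * (b + 1), -(s * a)], by
      rw [det_fin_two_of]; linear_combination hs - s ^ 2 * hab⟩, rfl⟩
  obtain ⟨R₂, hR₂⟩ : ∃ R : SpecialLinearGroup (Fin 2) F,
      (R : Matrix (Fin 2) (Fin 2) F) = !![s * (a - b), s * (a + b); s * (a + b), s * (b - a)] :=
    ⟨⟨!![s * (a - b), s * (a + b); s * (a + b), s * (b - a)], by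
      rw [det_fin_two_of]; linear_combination hs - 2 * s ^ 2 * hab⟩, rfl⟩
  obtain ⟨R₃, hR₃⟩ : ∃ R : SpecialLinearGroup (Fin 2) F,
      (R : Matrix (Fin 2) (Fin 2) F) = !![-(s * a), s * (-1 - b); s * (1 - b), s * a] :=
    ⟨⟨!![-(s * a), s * (-1 - b); s * (1 - b), s * a], by
      rw [det_fin_two_of]; linear_combination hs - s ^ 2 * hab⟩, rfl⟩
  have t1 : R₁.1 0 0 + R₁.1 1 1 = 0 := by
    have : R₁.1 = !![s * a, s * (b - 1); s * (b + 1), -(s * a)] := hR₁
    rw [this]; simp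
  have t2 : R₂.1 0 0 + R₂.1 1 1 = 0 := by
    have : R₂.1 = !![s * (a - b), s * (a + b); s * (a + b), s * (b - a)] := hR₂
    rw [this]; simp; ring
  have t3 : R₃.1 0 0 + R₃.1 1 1 = 0 := by
    have : R₃.1 = !![-(s * a), s * (-1 - b); s * (1 - b), s * a] := hR₃
    rw [this]; simp
  have t12 : (R₁ * R₂ : SpecialLinearGroup (Fin 2) F).1 0 0
      + (R₁ * R₂ : SpecialLinearGroup (Fin 2) F).1 1 1 = -1 := by
    rw [trace_mul_of _ _ _ _ _ _ _ _ R₁ R₂ hR₁ hR₂]
    linear_combination (-1 : F) * hs + 2 * s ^ 2 * hab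
  have t23 : (R₂ * R₃ : SpecialLinearGroup (Fin 2) F).1 0 0
      + (R₂ * R₃ : SpecialLinearGroup (Fin 2) F).1 1 1 = 1 := by
    rw [trace_mul_of _ _ _ _ _ _ _ _ R₂ R₃ hR₂ hR₃]
    linear_combination hs - 2 * s ^ 2 * hab
  have t13 : (R₁ * R₃ : SpecialLinearGroup (Fin 2) F).1 0 0
      + (R₁ * R₃ : SpecialLinearGroup (Fin 2) F).1 1 1 = 0 := by
    rw [trace_mul_of _ _ _ _ _ _ _ _ R₁ R₃ hR₁ hR₃]
    linear_combination (-2 : F) * s ^ 2 * hab
  have hmk : ∀ (X : SpecialLinearGroup (Fin 2) F) (n : ℕ), (X ^ n = 1 ∨ X ^ n = -1) →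
      (QuotientGroup.mk X : Matrix.ProjectiveSpecialLinearGroup (Fin 2) F) ^ n = 1 := by
    intro X n h
    rw [← QuotientGroup.mk_pow, QuotientGroup.eq_one_iff]
    rcases h with h | h
    · rw [h]; exact Subgroup.one_mem _
    · rw [h]; exact neg_one_mem_center
  have hne : (QuotientGroup.mk R₁ : Matrix.ProjectiveSpecialLinearGroup (Fin 2) F)
      * QuotientGroup.mk R₃ ≠ 1 := by
    rw [← QuotientGroup.mk_mul]
    intro h
    rw [QuotientGroup.eq_one_iff] at h
    exact not_mem_center_of_sq h2 _ (sq_of_trace_zero _ t13) h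
  refine exists_injective_S4 (QuotientGroup.mk R₁) (QuotientGroup.mk R₂) (QuotientGroup.mk R₃)
    (hmk _ _ (Or.inr (sq_of_trace_zero _ t1))) (hmk _ _ (Or.inr (sq_of_trace_zero _ t2)))
    (hmk _ _ (Or.inr (sq_of_trace_zero _ t3))) ?_ ?_ ?_ hne
  · rw [← QuotientGroup.mk_mul]
    exact hmk _ _ (Or.inl (cube_of_trace_neg_one _ t12))
  · rw [← QuotientGroup.mk_mul]
    exact hmk _ _ (Or.inr (cube_of_trace_one _ t23))
  · rw [← QuotientGroup.mk_mul]
    exact hmk _ _ (Or.inr (sq_of_trace_zero _ t13))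

/-- a four-cycle -/
def s4c : Equiv.Perm (Fin 4) := Equiv.swap 0 1 * Equiv.swap 1 2 * Equiv.swap 2 3

theorem s4c_pow : s4c ^ 4 = 1 := by decide
theorem s4c_sq : s4c ^ 2 ≠ 1 := by decide

theorem mod16 (q : ℕ) (hq : q ^ 2 % 16 = 1) :
    q % 16 = 1 ∨ q % 16 = 7 ∨ q % 16 = 9 ∨ q % 16 = 15 := by
  have h1 : (q % 16) ^ 2 % 16 = 1 := by rw [← Nat.pow_mod]; exact hq
  have h2 : q % 16 < 16 := Nat.mod_lt _ (by norm_num)
  interval_cases (q % 16) <;> simp_all

/-- PSL_2(q) has a subgroup isomorphic to S_4 iff q² ≡ 1 (mod 16). -/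
theorem result {F : Type*} [Field F] [Fintype F] {q : ℕ} (hF : Fintype.card F = q) : (∃ H : Subgroup (Matrix.ProjectiveSpecialLinearGroup (Fin 2) F), Nonempty (H ≃* Equiv.Perm (Fin 4))) ↔ q ^ 2 % 16 = 1 := by
  have hq2 : 2 ≤ q := by rw [← hF]; exact Fintype.one_lt_card
  constructor
  · rintro ⟨H, ⟨e⟩⟩
    by_cases h2 : (2 : F) = 0
    · exfalso
      let ρ : Equiv.Perm (Fin 4) →* SpecialLinearGroup (Fin 2) F :=
        (slEquiv h2).symm.toMonoidHom.comp (H.subtype.comp e.symm.toMonoidHom)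
      have hρ : Function.Injective ρ :=
        (slEquiv h2).symm.injective.comp (H.subtype_injective.comp e.symm.injective)
      have h4 : ρ s4c ^ 4 = 1 := by rw [← map_pow, s4c_pow, map_one]
      have h5 := sq_eq_one_of_pow_four h2 _ h4
      rw [← map_pow, ← map_one ρ] at h5
      exact s4c_sq (hρ h5)
    · have hchar : ringChar F ≠ 2 := by
        intro h
        apply h2
        have h1 := (ringChar.spec F 2).mpr (by rw [h])
        exact_mod_cast h1
      have hodd : q % 2 = 1 := by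
        rw [← hF]; exact FiniteField.odd_card_of_char_ne_two hchar
      have h24 : Nat.card H = 24 := by
        rw [Nat.card_congr e.toEquiv, Nat.card_perm]
        simp
        decide
      have hdvd : 24 ∣ Nat.card (Matrix.ProjectiveSpecialLinearGroup (Fin 2) F) :=
        h24 ▸ Subgroup.card_subgroup_dvd_card H
      have h := Cfsg.Agent.S0243.result hF 2 (le_refl 2)
      rw [Fin.prod_univ_two] at h
      obtain ⟨k, rfl⟩ : ∃ k, q = k + 2 := ⟨q - 2, by omega⟩
      have e1 : (k + 2) ^ 2 - (k + 2) ^ ((0 : Fin 2) : ℕ) = (k + 1) * (k + 3) := by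
        simp only [Fin.val_zero, pow_zero]
        exact Nat.sub_eq_of_eq_add (by ring)
      have e2 : (k + 2) ^ 2 - (k + 2) ^ ((1 : Fin 2) : ℕ) = (k + 2) * (k + 1) := by
        simp only [Fin.val_one, pow_one]
        exact Nat.sub_eq_of_eq_add (by ring)
      have e3 : k + 2 - 1 = k + 1 := by omega
      have e4 : Nat.gcd 2 (k + 1) = 2 := by
        apply Nat.gcd_eq_left
        omega
      rw [e1, e2, e3, e4] at h
      obtain ⟨N, hN⟩ : ∃ N, N = Nat.card (Matrix.ProjectiveSpecialLinearGroup (Fin 2) F) :=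
        ⟨_, rfl⟩
      rw [← hN] at h hdvd
      have h6 : 2 * N = (k + 2) * ((k + 1) * (k + 3)) := by
        have h7 : (k + 1) * (2 * N) = (k + 1) * ((k + 2) * ((k + 1) * (k + 3))) := by
          calc (k + 1) * (2 * N) = 2 * ((k + 1) * N) := by ring
            _ = (k + 1) * (k + 3) * ((k + 2) * (k + 1)) := h
            _ = _ := by ring
        exact Nat.eq_of_mul_eq_mul_left (by omega) h7
      have h8 : 16 ∣ ((k + 1) * (k + 3)) * (k + 2) := by
        obtain ⟨m, hm⟩ := hdvd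
        refine ⟨3 * m, ?_⟩
        rw [mul_comm ((k + 1) * (k + 3)) (k + 2), ← h6, hm]; ring
      have hcop : Nat.Coprime 16 (k + 2) := by
        have : Nat.Coprime 2 (k + 2) := by
          rw [Nat.coprime_two_left]
          exact Nat.odd_iff.mpr hodd
        exact Nat.Coprime.pow_left 4 this
      have h9 : 16 ∣ (k + 1) * (k + 3) := hcop.dvd_of_dvd_mul_right h8
      have e5 : (k + 2) ^ 2 = (k + 1) * (k + 3) + 1 := by ring
      rw [e5]
      omega
  · intro hq
    have hm := mod16 q hq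
    have hodd : Fintype.card F % 2 = 1 := by rw [hF]; omega
    have hchar : ringChar F ≠ 2 := by
      intro h
      have := FiniteField.even_card_of_char_two h
      omega
    have h2 : (2 : F) ≠ 0 := Ring.two_ne_zero hchar
    have hsq : IsSquare (2 : F) := by
      rw [FiniteField.isSquare_two_iff, hF]
      omega
    obtain ⟨r, hr⟩ := hsq
    have hr0 : r ≠ 0 := by
      rintro rfl
      apply h2
      simpa using hr
    obtain ⟨s, hrs⟩ : ∃ s : F, r * s = 1 := ⟨r⁻¹, mul_inv_cancel₀ hr0⟩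
    have hs : 2 * s ^ 2 = 1 := by linear_combination (s ^ 2) * hr + (r * s + 1) * hrs
    have hg : degree ((X : F[X]) ^ 2 + C (1 : F)) = 2 := by
      have := degree_X_pow_add_C (R := F) (n := 2) (by norm_num) (1 : F)
      simpa using this
    obtain ⟨a, b, hab⟩ := FiniteField.exists_root_sum_quadratic (f := (X : F[X]) ^ 2)
      (degree_X_pow 2) hg hodd
    simp only [eval_add, eval_pow, eval_C, eval_X] at hab
    obtain ⟨ψ, hψ⟩ := exists_S4 h2 a b s (by linear_combination hab) hs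
    exact ⟨ψ.range, ⟨(MonoidHom.ofInjective hψ).symm⟩⟩

end Cfsg.Agent.S0803
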