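import Mathlib
import Cfsg.Agent.Lib_helper4_DnAE
import Cfsg.Agent.S0802
import Cfsg.Agent.S0803

set_option autoImplicit false
set_option linter.unusedSectionVars false
set_option linter.style.haveILetI false
set_option maxHeartbeats 1600000

/-!
# Hall `{2,3}`-subgroups of `PSL₂(q)`: sufficiency
-/

namespace Cfsg.Agent.helper4.Dn

open Matrix
open scoped LinearAlgebra.Projectivization MatrixGroups
open Cfsg.Agent.helper4.Dk

theorem isPiHall_of {G : Type*} [Group G] (H : Subgroup G) (h23 : Is23 (Nat.card H))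
    (hi2 : ¬ 2 ∣ H.index) (hi3 : ¬ 3 ∣ H.index) : Cfsg.IsPiHall ({2, 3} : Set ℕ) H := by
  constructor
  · intro r hr hd
    rcases h23 r hr hd with rfl | rfl <;> simp
  · intro r hr hmem
    have : r = 2 ∨ r = 3 := by simpa using hmem
    rcases this with rfl | rfl
    · exact hi2
    · exact hi3

variable {F : Type*} [Field F] [Fintype F]

theorem hall_mpr {p : ℕ} [Fact p.Prime] [CharP F p] (hp : 5 ≤ p)
    (h : (3 ∣ Fintype.card F - 1 ∧ Fintype.card F % 4 = 1) ∨
      (3 ∣ Fintype.card F + 1 ∧ Fintype.card F % 4 = 3) ∨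
      2 ^ (Fintype.card F ^ 2 - 1).factorization 2 * 3 ^ (Fintype.card F ^ 2 - 1).factorization 3 = 24 ∨
      2 ^ (Fintype.card F ^ 2 - 1).factorization 2 * 3 ^ (Fintype.card F ^ 2 - 1).factorization 3 = 48) :
    ∃ H : Subgroup (Matrix.ProjectiveSpecialLinearGroup (Fin 2) F),
      Cfsg.IsPiHall ({2, 3} : Set ℕ) H := by
  classical
  have hpp : p.Prime := Fact.out
  obtain ⟨f, -, hcard⟩ := FiniteField.card F p
  have hpodd : Odd p := hpp.odd_of_ne_two (by omega)
  have hodd : Odd (Fintype.card F) := by rw [hcard]; exact hpodd.pow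
  have h2q : ¬ 2 ∣ Fintype.card F := by
    rcases hodd with ⟨t, ht⟩
    omega
  have h3q : ¬ 3 ∣ Fintype.card F := by
    rw [hcard]
    intro h
    have := Nat.prime_three.dvd_of_dvd_pow h
    have := (Nat.prime_dvd_prime_iff_eq Nat.prime_three hpp).mp this
    omega
  have hG := card_SL2_eq_two_mul hodd
  rw [Cfsg.Agent.helper12.card_SL2] at hG
  have hq2 : 2 ≤ Fintype.card F := Fintype.one_lt_card
  obtain ⟨t, ht⟩ := hodd
  have ht1 : 1 ≤ t := by omega
  have e1 : Fintype.card F - 1 = 2 * t := by omega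
  have e2 : Fintype.card F + 1 = 2 * t + 2 := by omega
  have hG' : Nat.card (Matrix.ProjectiveSpecialLinearGroup (Fin 2) F) =
      (2 * t + 1) * (2 * t) * (t + 1) := by
    rw [ht, sq_sub_one_eq] at hG
    have : 2 * Nat.card (Matrix.ProjectiveSpecialLinearGroup (Fin 2) F) =
        2 * ((2 * t + 1) * (2 * t) * (t + 1)) := by rw [← hG]; ring
    exact Nat.eq_of_mul_eq_mul_left (by norm_num) this
  have h2q' : ¬ 2 ∣ 2 * t + 1 := by omega
  have h3q' : ¬ 3 ∣ 2 * t + 1 := by rw [← ht]; exact h3q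
  -- index computation
  have hidx : ∀ (D : Subgroup (Matrix.ProjectiveSpecialLinearGroup (Fin 2) F)) (j : ℕ),
      0 < Nat.card D → Nat.card (Matrix.ProjectiveSpecialLinearGroup (Fin 2) F) = Nat.card D * j →
      D.index = j := by
    intro D j hpos hj
    have := Subgroup.card_mul_index D
    rw [hj] at this
    exact Nat.eq_of_mul_eq_mul_left hpos this
  rcases h with ⟨h3, h4⟩ | ⟨h3, h4⟩ | h24 | h48
  · -- `3 ∣ q - 1`, `q ≡ 1 (mod 4)`
    rw [e1] at h3
    obtain ⟨v, hv, hv2, hv3⟩ := part23 (2 * t) (by omega)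
    obtain ⟨m, hmdef⟩ : ∃ m, m = 2 ^ (2 * t).factorization 2 * 3 ^ (2 * t).factorization 3 := ⟨_, rfl⟩
    rw [← hmdef] at hv
    have hm23 : Is23 m := hmdef ▸ is23_pow _ _
    have hm2 : 2 ∣ m := by
      have : 2 ∣ m * v := by rw [hv]; exact dvd_mul_right 2 t
      rcases (Nat.Prime.dvd_mul Nat.prime_two).mp this with h | h
      · exact h
      · exact absurd h hv2
    have hm3 : 3 ∣ m := by
      have : 3 ∣ m * v := by rw [hv]; exact h3
      rcases (Nat.Prime.dvd_mul Nat.prime_three).mp this with h | h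
      · exact h
      · exact absurd h hv3
    have hmpos : 0 < m := by
      rcases Nat.eq_zero_or_pos m with h0 | h0
      · rw [h0, zero_mul] at hv; omega
      · exact h0
    have hm6 : 3 ≤ m := Nat.le_of_dvd hmpos hm3
    obtain ⟨D, hD⟩ := exists_sub_of_dvd (F := F) ⟨t, ht⟩ (Or.inl rfl) (m := m)
      (by rw [e1]; exact ⟨v, hv.symm⟩) hm6 hm2
    refine ⟨D, isPiHall_of D (hD ▸ hm23) ?_ ?_⟩
    · rw [hidx D ((2 * t + 1) * v * (t + 1)) (by rw [hD]; exact hmpos)
        (by rw [hG', hD, ← hv]; ring)]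
      have : ¬ 2 ∣ t + 1 := by omega
      exact not_dvd_mul Nat.prime_two (not_dvd_mul Nat.prime_two h2q' hv2) this
    · rw [hidx D ((2 * t + 1) * v * (t + 1)) (by rw [hD]; exact hmpos)
        (by rw [hG', hD, ← hv]; ring)]
      have : ¬ 3 ∣ t + 1 := by
        have h3t : t % 3 = 0 ∨ t % 3 = 1 ∨ t % 3 = 2 := by omega
        rcases h3t with h | h | h
        · omega
        · exfalso; apply h3q'; omega
        · exfalso
          obtain ⟨w, hw⟩ := h3
          omega
      exact not_dvd_mul Nat.prime_three (not_dvd_mul Nat.prime_three h3q' hv3) this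
  · -- `3 ∣ q + 1`, `q ≡ 3 (mod 4)`
    rw [e2] at h3
    obtain ⟨v, hv, hv2, hv3⟩ := part23 (2 * t + 2) (by omega)
    obtain ⟨m, hmdef⟩ : ∃ m, m = 2 ^ (2 * t + 2).factorization 2 * 3 ^ (2 * t + 2).factorization 3 :=
      ⟨_, rfl⟩
    rw [← hmdef] at hv
    have hm23 : Is23 m := hmdef ▸ is23_pow _ _
    have hm2 : 2 ∣ m := by
      have : 2 ∣ m * v := by rw [hv]; exact ⟨t + 1, by ring⟩
      rcases (Nat.Prime.dvd_mul Nat.prime_two).mp this with h | h
      · exact h
      · exact absurd h hv2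
    have hm3 : 3 ∣ m := by
      have : 3 ∣ m * v := by rw [hv]; exact h3
      rcases (Nat.Prime.dvd_mul Nat.prime_three).mp this with h | h
      · exact h
      · exact absurd h hv3
    have hmpos : 0 < m := by
      rcases Nat.eq_zero_or_pos m with h0 | h0
      · rw [h0, zero_mul] at hv; omega
      · exact h0
    have hm6 : 3 ≤ m := Nat.le_of_dvd hmpos hm3
    obtain ⟨D, hD⟩ := exists_sub_of_dvd (F := F) ⟨t, ht⟩ (Or.inr rfl) (m := m)
      (by rw [e2]; exact ⟨v, hv.symm⟩) hm6 hm2
    refine ⟨D, isPiHall_of D (hD ▸ hm23) ?_ ?_⟩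
    · rw [hidx D ((2 * t + 1) * v * t) (by rw [hD]; exact hmpos)
        (by rw [hG']
            calc (2 * t + 1) * (2 * t) * (t + 1) = (2 * t + 1) * t * (2 * t + 2) := by ring
              _ = (2 * t + 1) * t * (m * v) := by rw [hv]
              _ = Nat.card D * ((2 * t + 1) * v * t) := by rw [hD]; ring)]
      have : ¬ 2 ∣ t := by omega
      exact not_dvd_mul Nat.prime_two (not_dvd_mul Nat.prime_two h2q' hv2) this
    · rw [hidx D ((2 * t + 1) * v * t) (by rw [hD]; exact hmpos)
        (by rw [hG']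
            calc (2 * t + 1) * (2 * t) * (t + 1) = (2 * t + 1) * t * (2 * t + 2) := by ring
              _ = (2 * t + 1) * t * (m * v) := by rw [hv]
              _ = Nat.card D * ((2 * t + 1) * v * t) := by rw [hD]; ring)]
      have : ¬ 3 ∣ t := by
        have h3t : t % 3 = 0 ∨ t % 3 = 1 ∨ t % 3 = 2 := by omega
        rcases h3t with h | h | h
        · exfalso
          obtain ⟨w, hw⟩ := h3
          omega
        · exfalso; apply h3q'; omega
        · omega
      exact not_dvd_mul Nat.prime_three (not_dvd_mul Nat.prime_three h3q' hv3) this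
  · -- `A₄`
    have hN0 : Fintype.card F ^ 2 - 1 ≠ 0 := by
      rw [ht, sq_sub_one_eq]; positivity
    obtain ⟨v, hv, hv2, hv3⟩ := part23 _ hN0
    rw [h24, ht, sq_sub_one_eq] at hv
    obtain ⟨H, ⟨e⟩⟩ := (Cfsg.Agent.S0802.result (F := F) p f hcard).mpr (fun h => by omega)
    have hcardH : Nat.card H = 12 := by
      rw [Nat.card_congr e.toEquiv, nat_card_alternatingGroup, Nat.card_fin]; rfl
    have hi := hidx H ((2 * t + 1) * v) (by rw [hcardH]; norm_num) (by
      rw [hG', hcardH]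
      have : 2 * ((2 * t + 1) * (2 * t) * (t + 1)) = 2 * (12 * ((2 * t + 1) * v)) := by
        calc 2 * ((2 * t + 1) * (2 * t) * (t + 1)) = (2 * t + 1) * (4 * t * (t + 1)) := by ring
          _ = (2 * t + 1) * (24 * v) := by rw [hv]
          _ = 2 * (12 * ((2 * t + 1) * v)) := by ring
      exact Nat.eq_of_mul_eq_mul_left (by norm_num) this)
    refine ⟨H, isPiHall_of H ?_ ?_ ?_⟩
    · rw [hcardH]
      have := is23_pow 2 1
      norm_num at this
      exact this
    · rw [hi]; exact not_dvd_mul Nat.prime_two h2q' hv2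
    · rw [hi]; exact not_dvd_mul Nat.prime_three h3q' hv3
  · -- `S₄`
    have hN0 : Fintype.card F ^ 2 - 1 ≠ 0 := by
      rw [ht, sq_sub_one_eq]; positivity
    obtain ⟨v, hv, hv2, hv3⟩ := part23 _ hN0
    rw [h48] at hv
    have h16 : Fintype.card F ^ 2 % 16 = 1 := by
      have h1 : 1 ≤ Fintype.card F ^ 2 := Nat.one_le_pow _ _ (by omega)
      omega
    rw [ht, sq_sub_one_eq] at hv
    obtain ⟨H, ⟨e⟩⟩ := (Cfsg.Agent.S0803.result (F := F) rfl).mpr h16
    have hcardH : Nat.card H = 24 := by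
      rw [Nat.card_congr e.toEquiv, Nat.card_perm, Nat.card_fin]; rfl
    have hi := hidx H ((2 * t + 1) * v) (by rw [hcardH]; norm_num) (by
      rw [hG', hcardH]
      have : 2 * ((2 * t + 1) * (2 * t) * (t + 1)) = 2 * (24 * ((2 * t + 1) * v)) := by
        calc 2 * ((2 * t + 1) * (2 * t) * (t + 1)) = (2 * t + 1) * (4 * t * (t + 1)) := by ring
          _ = (2 * t + 1) * (48 * v) := by rw [hv]
          _ = 2 * (24 * ((2 * t + 1) * v)) := by ring
      exact Nat.eq_of_mul_eq_mul_left (by norm_num) this)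
    refine ⟨H, isPiHall_of H ?_ ?_ ?_⟩
    · rw [hcardH]
      have := is23_pow 3 1
      norm_num at this
      exact this
    · rw [hi]; exact not_dvd_mul Nat.prime_two h2q' hv2
    · rw [hi]; exact not_dvd_mul Nat.prime_three h3q' hv3

end Cfsg.Agent.helper4.Dn
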