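import Mathlib
import Cfsg.Agent.Lib_helper1_Dihedral
import Cfsg.Agent.Lib_helper12_O60b
import Cfsg.Agent.S0494

set_option autoImplicit false
set_option linter.unusedSectionVars false
set_option maxHeartbeats 1600000

/-!
# Abstract recognition of dihedral groups, `A₄`, `S₄` and `A₅` from an action
-/

namespace Cfsg.Agent.helper4.Dn

/-- a group with a cyclic subgroup of index two all of whose outside elements are involutions -/
theorem dihedral_of_index_two {G : Type*} [Group G] [Finite G] (C : Subgroup G) [IsCyclic C]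
    (hcard : Nat.card G = 2 * Nat.card C) (hinv : ∀ x : G, x ∉ C → x * x = 1) :
    Nonempty (G ≃* DihedralGroup (Nat.card C)) := by
  obtain ⟨r, hr⟩ := IsCyclic.exists_generator (α := C)
  have hord : orderOf (r : G) = Nat.card C := by
    rw [Subgroup.orderOf_coe]; exact orderOf_eq_card_of_forall_mem_zpowers hr
  have hCne : C ≠ ⊤ := by
    intro h
    have h1 := (Subgroup.card_eq_iff_eq_top C).mpr h
    have hpos : 0 < Nat.card C := Nat.card_pos
    omega
  obtain ⟨w, hw⟩ : ∃ w : G, w ∉ C := by
    by_contra hcon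
    push Not at hcon
    exact hCne ((Subgroup.eq_top_iff' C).mpr hcon)
  have hx : (r : G) * w ∉ C := fun h => hw (by
    have := C.mul_mem (C.inv_mem r.2) h
    simpa using this)
  have hxx := hinv _ hx
  have hww := hinv _ hw
  have hx1 : (r : G) * w ≠ 1 := fun h => hx (h ▸ C.one_mem)
  have hw1 : w ≠ 1 := fun h => hw (h ▸ C.one_mem)
  have hxw : (r : G) * w * w = r := by rw [mul_assoc, hww, mul_one]
  have e := Cfsg.Agent.helper1.dihedralEquiv ((r : G) * w) w hxx hww hx1 hw1
  rw [hxw, hord] at e
  have hcl : Subgroup.closure ({(r : G) * w, w} : Set G) = ⊤ := by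
    rw [← Subgroup.card_eq_iff_eq_top, ← Nat.card_congr e.toEquiv, DihedralGroup.nat_card, hcard]
  exact ⟨(Subgroup.topEquiv.symm.trans (MulEquiv.subgroupCongr hcl.symm)).trans e.symm⟩

section action
variable {G : Type*} [Group G] [Finite G] {P : Type*} [MulAction G P]

theorem zpow_smul_fix {c : G} {u : P} (hu : c • u = u) (k : ℤ) : (c ^ k) • u = u := by
  have h1 : c ∈ MulAction.stabilizer G u := hu
  exact (MulAction.stabilizer G u).zpow_mem h1 k

/-- a normal cyclic subgroup: its generator fixes a whole orbit -/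
theorem fix_orbit_of_normal {c : G} (hn : (Subgroup.zpowers c).Normal) {u : P} (hu : c • u = u)
    (g : G) : c • (g • u) = g • u := by
  have h1 : g⁻¹ * c * g ∈ Subgroup.zpowers c := by
    have := hn.conj_mem c (Subgroup.mem_zpowers c) g⁻¹
    simpa using this
  obtain ⟨k, hk⟩ := Subgroup.mem_zpowers_iff.mp h1
  have h2 : (c ^ k) • u = u := zpow_smul_fix hu k
  have h3 : c • (g • u) = g • ((g⁻¹ * c * g) • u) := by simp [mul_smul]
  rw [h3, ← hk, h2]

/-- three distinct points in a large orbit -/
theorem exists_three_orbit (u : P) (h : 2 * Nat.card (MulAction.stabilizer G u) < Nat.card G) :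
    ∃ g₁ g₂ g₃ : G, g₁ • u ≠ g₂ • u ∧ g₁ • u ≠ g₃ • u ∧ g₂ • u ≠ g₃ • u := by
  have h1 := (MulAction.stabilizer G u).card_mul_index
  rw [MulAction.index_stabilizer] at h1
  have hfin : (MulAction.orbit G u).Finite := Set.finite_range _
  have h2 : 2 < (MulAction.orbit G u).ncard := by
    by_contra hle
    push Not at hle
    have : Nat.card (MulAction.stabilizer G u) * (MulAction.orbit G u).ncard ≤
        Nat.card (MulAction.stabilizer G u) * 2 := Nat.mul_le_mul_left _ hle
    omega
  obtain ⟨a, b, c, ⟨g₁, rfl⟩, ⟨g₂, rfl⟩, ⟨g₃, rfl⟩, hab, hac, hbc⟩ :=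
    (Set.two_lt_ncard_iff hfin).mp h2
  exact ⟨g₁, g₂, g₃, hab, hac, hbc⟩

/-- a normal cyclic subgroup with a fixed point in a large orbit is trivial -/
theorem eq_one_of_normal_fix
    (hfix3 : ∀ (g : G) (a b c : P), a ≠ b → a ≠ c → b ≠ c → g • a = a → g • b = b → g • c = c →
      g = 1)
    {c : G} (hn : (Subgroup.zpowers c).Normal) {u : P} (hu : c • u = u)
    (h : 2 * Nat.card (MulAction.stabilizer G u) < Nat.card G) : c = 1 := by
  obtain ⟨g₁, g₂, g₃, h12, h13, h23⟩ := exists_three_orbit u h
  exact hfix3 c _ _ _ h12 h13 h23 (fix_orbit_of_normal hn hu g₁) (fix_orbit_of_normal hn hu g₂)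
    (fix_orbit_of_normal hn hu g₃)

/-- recognition of `A₅` -/
theorem alt_five_of
    (hfix3 : ∀ (g : G) (a b c : P), a ≠ b → a ≠ c → b ≠ c → g • a = a → g • b = b → g • c = c →
      g = 1)
    (hcard : Nat.card G = 60) (u : P) (hu : Nat.card (MulAction.stabilizer G u) = 5) :
    Nonempty (G ≃* alternatingGroup (Fin 5)) := by
  classical
  haveI : Fact (Nat.Prime 5) := ⟨by norm_num⟩
  have hn5 : Nat.card (Sylow 5 G) ≠ 1 := by
    intro h1
    haveI : Subsingleton (Sylow 5 G) := (Nat.card_eq_one_iff_unique.mp h1).1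
    set S := MulAction.stabilizer G u with hS
    have hSp : IsPGroup 5 S := IsPGroup.of_card (n := 1) (by rw [hu, pow_one])
    obtain ⟨Q, hSQ⟩ := hSp.exists_le_sylow
    haveI : (Q : Subgroup G).Normal := Sylow.normal_of_subsingleton Q
    have hQcard : Nat.card (Q : Subgroup G) = 5 := by
      obtain ⟨k, hk⟩ := IsPGroup.iff_card.mp Q.isPGroup'
      have hdvd : Nat.card (Q : Subgroup G) ∣ Nat.card G := Subgroup.card_subgroup_dvd_card _
      have hle : Nat.card S ≤ Nat.card (Q : Subgroup G) :=
        Nat.le_of_dvd Nat.card_pos (Subgroup.card_dvd_of_le hSQ)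
      rw [hk, hcard] at hdvd
      rw [hk, hu] at hle
      rw [hk]
      have hk2 : k < 2 := by
        by_contra hge
        push Not at hge
        have : 5 ^ 2 ∣ 60 := (pow_dvd_pow 5 hge).trans hdvd
        norm_num at this
      interval_cases k
      · norm_num at hle
      · norm_num
    have hSeq : S = (Q : Subgroup G) := Subgroup.eq_of_le_of_card_ge hSQ (by rw [hQcard, hu])
    haveI : Fact (Nat.card S).Prime := ⟨by rw [hu]; norm_num⟩
    haveI : IsCyclic S := isCyclic_of_prime_card rfl
    obtain ⟨r, hr⟩ := IsCyclic.exists_generator (α := S)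
    have hord : orderOf (r : G) = 5 := by
      rw [Subgroup.orderOf_coe, orderOf_eq_card_of_forall_mem_zpowers hr, hu]
    have hz : Subgroup.zpowers (r : G) = S := by
      apply Subgroup.eq_of_le_of_card_ge
      · rw [Subgroup.zpowers_le]; exact r.2
      · rw [Nat.card_zpowers, hord, hu]
    have hn : (Subgroup.zpowers (r : G)).Normal := by rw [hz, hSeq]; infer_instance
    have hru : (r : G) • u = u := r.2
    have := eq_one_of_normal_fix hfix3 hn hru (by rw [← hS, hu, hcard]; norm_num)
    rw [this, orderOf_one] at hord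
    norm_num at hord
  haveI := Cfsg.Agent.helper12.o60_simple hcard hn5
  exact Cfsg.Agent.S0494.result hcard

end action

end Cfsg.Agent.helper4.Dn
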