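import Mathlib
import Cfsg.Agent.Lib_helper4_DnAG

set_option autoImplicit false
set_option linter.unusedSectionVars false
set_option maxHeartbeats 1600000

/-!
# Abstract recognition of `A₄` and `S₄` from an action
-/

namespace Cfsg.Agent.helper4.Dn

section action
variable {G : Type*} [Group G] [Finite G] {P : Type*} [MulAction G P]

theorem orderOf_eq_three_of {c : G} (h1 : c ≠ 1) (h3 : orderOf c ∣ 3) : orderOf c = 3 := by
  rcases (Nat.dvd_prime Nat.prime_three).mp h3 with h | h
  · exact absurd (orderOf_eq_one_iff.mp h) h1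
  · exact h

/-- recognition of `A₄` and `S₄` -/
theorem alt_or_sym_four
    (hfix1 : ∀ g : G, ∃ u : P, g • u = u)
    (hfix3 : ∀ (g : G) (a b c : P), a ≠ b → a ≠ c → b ≠ c → g • a = a → g • b = b → g • c = c →
      g = 1)
    (hstab : ∀ u : P, Nat.card (MulAction.stabilizer G u) ≤ 5)
    (hcard : Nat.card G = 12 ∨ Nat.card G = 24) :
    (Nat.card G = 12 → Nonempty (G ≃* alternatingGroup (Fin 4))) ∧
    (Nat.card G = 24 → Nonempty (G ≃* Equiv.Perm (Fin 4))) := by
  classical
  haveI : Fact (Nat.Prime 3) := ⟨Nat.prime_three⟩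
  have h12 : 12 ≤ Nat.card G := by rcases hcard with h | h <;> omega
  -- Sylow 3-subgroups have order 3
  have hQcard : ∀ Q : Sylow 3 G, Nat.card (Q : Subgroup G) = 3 := by
    intro Q
    obtain ⟨k, hk⟩ := IsPGroup.iff_card.mp Q.isPGroup'
    have hdvd : Nat.card (Q : Subgroup G) ∣ Nat.card G := Subgroup.card_subgroup_dvd_card _
    have hidx : ¬ 3 ∣ (Q : Subgroup G).index := Q.not_dvd_index
    have hmul := (Q : Subgroup G).card_mul_index
    rw [hk] at hdvd hmul ⊢
    have hk2 : k < 2 := by
      by_contra hge
      push Not at hge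
      have h9 : 3 ^ 2 ∣ Nat.card G := (pow_dvd_pow 3 hge).trans hdvd
      rcases hcard with h | h <;> rw [h] at h9 <;> norm_num at h9
    interval_cases k
    · exfalso
      apply hidx
      rw [pow_zero, one_mul] at hmul
      rw [hmul]
      rcases hcard with h | h <;> rw [h] <;> norm_num
    · norm_num
  -- generators and fixed points
  have key : ∀ Q : Sylow 3 G, ∃ c : G, orderOf c = 3 ∧ c ∈ (Q : Subgroup G) ∧
      (Q : Subgroup G) = Subgroup.zpowers c ∧
      ∃ u : P, c • u = u ∧ MulAction.stabilizer G u = (Q : Subgroup G) := by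
    intro Q
    have hne : (Q : Subgroup G) ≠ ⊥ := by
      intro h
      have := hQcard Q
      rw [h, Subgroup.card_bot] at this
      omega
    obtain ⟨c, hc1⟩ := (Subgroup.ne_bot_iff_exists_ne_one.mp hne)
    have hc1' : (c : G) ≠ 1 := fun h => hc1 (Subtype.ext h)
    have hord : orderOf (c : G) = 3 := by
      apply orderOf_eq_three_of hc1'
      have := Subgroup.orderOf_dvd_natCard (Q : Subgroup G) c.2
      rwa [hQcard Q] at this
    have hz : Subgroup.zpowers (c : G) = (Q : Subgroup G) := by
      apply Subgroup.eq_of_le_of_card_ge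
      · rw [Subgroup.zpowers_le]; exact c.2
      · rw [Nat.card_zpowers, hord, hQcard Q]
    obtain ⟨u, hu⟩ := hfix1 (c : G)
    refine ⟨c, hord, c.2, hz.symm, u, hu, ?_⟩
    symm
    have hle : (Q : Subgroup G) ≤ MulAction.stabilizer G u := by
      rw [← hz, Subgroup.zpowers_le]; exact hu
    apply Subgroup.eq_of_le_of_card_ge hle
    have h5 := hstab u
    have hd := Subgroup.card_dvd_of_le hle
    rw [hQcard Q] at hd ⊢
    obtain ⟨m, hm⟩ := hd
    omega
  -- more than one Sylow 3-subgroup
  have hn1 : Nat.card (Sylow 3 G) ≠ 1 := by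
    intro h1
    haveI : Subsingleton (Sylow 3 G) := (Nat.card_eq_one_iff_unique.mp h1).1
    obtain ⟨Q⟩ : Nonempty (Sylow 3 G) := inferInstance
    haveI : (Q : Subgroup G).Normal := Sylow.normal_of_subsingleton Q
    obtain ⟨c, hord, -, hz, u, hu, hst⟩ := key Q
    have hn : (Subgroup.zpowers c).Normal := by rw [← hz]; infer_instance
    have := eq_one_of_normal_fix hfix3 hn hu (by rw [hst, hQcard Q]; omega)
    rw [this, orderOf_one] at hord
    norm_num at hord
  have hn4 : Nat.card (Sylow 3 G) = 4 := by
    obtain ⟨Q⟩ : Nonempty (Sylow 3 G) := inferInstance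
    have hmod := card_sylow_modEq_one 3 G
    have hdvd := Sylow.card_dvd_index Q
    have hmul := (Q : Subgroup G).card_mul_index
    rw [hQcard Q] at hmul
    unfold Nat.ModEq at hmod
    have hidx : (Q : Subgroup G).index = 4 ∨ (Q : Subgroup G).index = 8 := by
      rcases hcard with h | h <;> omega
    obtain ⟨n, hn⟩ : ∃ n, n = Nat.card (Sylow 3 G) := ⟨_, rfl⟩
    rw [← hn] at hmod hdvd hn1 ⊢
    rcases hidx with h | h
    · rw [h] at hdvd
      have := Nat.le_of_dvd (by norm_num) hdvd
      interval_cases n <;> omega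
    · rw [h] at hdvd
      have := Nat.le_of_dvd (by norm_num) hdvd
      interval_cases n <;> omega
  -- the permutation representation
  obtain ⟨φ, hφ⟩ : ∃ φ : G →* Equiv.Perm (Sylow 3 G), φ = MulAction.toPermHom G (Sylow 3 G) :=
    ⟨_, rfl⟩
  have hmemker : ∀ k : G, k ∈ φ.ker ↔ ∀ Q : Sylow 3 G, k • Q = Q := by
    intro k
    rw [MonoidHom.mem_ker, hφ]
    constructor
    · intro h Q
      have := congrArg (fun σ : Equiv.Perm (Sylow 3 G) => σ Q) h
      simpa using this
    · intro h
      ext Q
      simpa using congrArg (fun S : Sylow 3 G => (S : Subgroup G)) (h Q) ▸ Iff.rfl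
  -- elements of the kernel are involutions
  have hsq : ∀ k ∈ φ.ker, k * k = 1 := by
    intro k hk
    rw [hmemker] at hk
    have hQ : ∀ Q : Sylow 3 G, k * k ∈ (Q : Subgroup G) := by
      intro Q
      obtain ⟨c, hord, hcQ, hz, u, hu, hst⟩ := key Q
      have hkN : k ∈ Subgroup.normalizer ((Q : Subgroup G) : Set G) :=
        Sylow.smul_eq_iff_mem_normalizer.mp (hk Q)
      have hN : ∀ m ∈ Subgroup.normalizer ((Q : Subgroup G) : Set G), c • (m • u) = m • u := by
        intro m hm
        have hm' := (Subgroup.normalizer ((Q : Subgroup G) : Set G)).inv_mem hm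
        have h1 : m⁻¹ * c * m⁻¹⁻¹ ∈ (Q : Subgroup G) := (Subgroup.mem_normalizer_iff.mp hm' c).mp hcQ
        rw [inv_inv, ← hst] at h1
        have h2 : (m⁻¹ * c * m) • u = u := h1
        have h3 : c • (m • u) = m • ((m⁻¹ * c * m) • u) := by simp [mul_smul]
        rw [h3, h2]
      have hk1 := hN k hkN
      have hk2 := hN (k * k) ((Subgroup.normalizer ((Q : Subgroup G) : Set G)).mul_mem hkN hkN)
      have hc1 : c ≠ 1 := by
        intro h
        rw [h, orderOf_one] at hord
        norm_num at hord
      have hfix : (k * k) • u = u := by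
        by_contra hne
        by_cases h1 : u = k • u
        · apply hne
          rw [mul_smul, ← h1, ← h1]
        by_cases h2 : k • u = (k * k) • u
        · apply h1
          have := congrArg (fun x => k⁻¹ • x) h2
          simp only [mul_smul, inv_smul_smul] at this
          exact this
        exact hc1 (hfix3 c u (k • u) ((k * k) • u) h1 (fun h => hne h.symm) h2 hu hk1 hk2)
      rw [← hst]
      exact hfix
    by_contra hne
    -- two distinct Sylow subgroups
    haveI : Fintype (Sylow 3 G) := Fintype.ofFinite _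
    have hcard2 : 1 < Fintype.card (Sylow 3 G) := by
      rw [← Nat.card_eq_fintype_card, hn4]; norm_num
    obtain ⟨Q₁, Q₂, hQ12⟩ := Fintype.one_lt_card_iff.mp hcard2
    have hord : orderOf (k * k) = 3 := by
      apply orderOf_eq_three_of hne
      have := Subgroup.orderOf_dvd_natCard (Q₁ : Subgroup G) (hQ Q₁)
      rwa [hQcard Q₁] at this
    have hz : ∀ Q : Sylow 3 G, Subgroup.zpowers (k * k) = (Q : Subgroup G) := by
      intro Q
      apply Subgroup.eq_of_le_of_card_ge
      · rw [Subgroup.zpowers_le]; exact hQ Q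
      · rw [Nat.card_zpowers, hord, hQcard Q]
    apply hQ12
    apply Sylow.ext
    rw [← hz Q₁, ← hz Q₂]
  -- the kernel is trivial
  have hker : φ.ker = ⊥ := by
    rw [Subgroup.eq_bot_iff_forall]
    intro k hk
    by_contra hk1
    obtain ⟨v, hv⟩ := hfix1 k
    obtain ⟨Q⟩ : Nonempty (Sylow 3 G) := inferInstance
    obtain ⟨c, hord, hcQ, hz, u, hu, hst⟩ := key Q
    have hkN : k ∈ Subgroup.normalizer ((Q : Subgroup G) : Set G) :=
      Sylow.smul_eq_iff_mem_normalizer.mp ((hmemker k).mp hk Q)
    obtain ⟨m, hm⟩ : ∃ m, m = k * (c * k⁻¹ * c⁻¹) := ⟨_, rfl⟩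
    have hmker : m ∈ φ.ker := by
      rw [hm]
      exact φ.ker.mul_mem hk (φ.normal_ker.conj_mem _ (φ.ker.inv_mem hk) c)
    have hmQ : m ∈ (Q : Subgroup G) := by
      have h1 : k * c * k⁻¹ ∈ (Q : Subgroup G) := (Subgroup.mem_normalizer_iff.mp hkN c).mp hcQ
      have h2 : m = (k * c * k⁻¹) * c⁻¹ := by rw [hm]; group
      rw [h2]
      exact (Q : Subgroup G).mul_mem h1 ((Q : Subgroup G).inv_mem hcQ)
    have hm1 : m = 1 := by
      by_contra hne
      have h3 : orderOf m = 3 := by
        apply orderOf_eq_three_of hne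
        have := Subgroup.orderOf_dvd_natCard (Q : Subgroup G) hmQ
        rwa [hQcard Q] at this
      have h2 : orderOf m ∣ 2 := orderOf_dvd_of_pow_eq_one (by rw [pow_two]; exact hsq m hmker)
      rw [h3] at h2
      norm_num at h2
    have hcomm : k * c = c * k := by
      have : m * (c * k) = k * c := by rw [hm]; group
      rw [← this, hm1, one_mul]
    have hc3 : c * c * c = 1 := by
      have := pow_orderOf_eq_one c
      rw [hord] at this
      rw [← this, pow_succ, pow_two]
    have hkc : k • (c • v) = c • v := by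
      rw [← mul_smul, hcomm, mul_smul, hv]
    have hkcc : k • ((c * c) • v) = (c * c) • v := by
      rw [mul_smul, ← mul_smul k c, hcomm, mul_smul, hkc]
    have hcv : c • v = v := by
      by_contra hne
      have hne' : v ≠ c • v := fun h => hne h.symm
      by_cases h2 : v = (c * c) • v
      · apply hne
        have := congrArg (fun x => c • x) h2
        simp only [← mul_smul] at this
        have hc3' : c * (c * c) = 1 := by rw [← mul_assoc]; exact hc3
        rw [hc3', one_smul] at this
        exact this
      by_cases h3 : c • v = (c * c) • v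
      · apply hne'
        have := congrArg (fun x => c⁻¹ • x) h3
        simp only [mul_smul, inv_smul_smul] at this
        exact this
      exact hk1 (hfix3 k v (c • v) ((c * c) • v) hne' h2 h3 hv hkc hkcc)
    have hd3 : 3 ∣ Nat.card (MulAction.stabilizer G v) := by
      rw [← hord]; exact Subgroup.orderOf_dvd_natCard _ hcv
    have hd2 : 2 ∣ Nat.card (MulAction.stabilizer G v) := by
      have hk2 : orderOf k = 2 := by
        apply orderOf_eq_prime
        · rw [pow_two]; exact hsq k hk
        · exact hk1
      rw [← hk2]; exact Subgroup.orderOf_dvd_natCard _ hv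
    have h5 := hstab v
    have hpos : 0 < Nat.card (MulAction.stabilizer G v) := Nat.card_pos
    omega
  have hinj : Function.Injective φ := (MonoidHom.ker_eq_bot_iff φ).mp hker
  have hperm : Nat.card (Equiv.Perm (Sylow 3 G)) = 24 := by
    rw [Nat.card_perm, hn4]; rfl
  have e4 : Sylow 3 G ≃ Fin 4 := Finite.equivFinOfCardEq hn4
  constructor
  · intro h
    haveI : Fintype (Sylow 3 G) := Fintype.ofFinite _
    have hr : Nat.card φ.range = 12 := by
      rw [← Nat.card_congr (MonoidHom.ofInjective hinj).toEquiv, h]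
    have hidx : φ.range.index = 2 := by
      have := φ.range.card_mul_index
      rw [hr, hperm] at this
      omega
    have hrange := Equiv.Perm.eq_alternatingGroup_of_index_eq_two hidx
    exact ⟨((MonoidHom.ofInjective hinj).trans (MulEquiv.subgroupCongr hrange)).trans
      (Equiv.altCongrHom e4)⟩
  · intro h
    have hbij : Function.Bijective φ :=
      hinj.bijective_of_nat_card_le (by rw [hperm, h])
    exact ⟨(MulEquiv.ofBijective φ hbij).trans (Equiv.permCongrHom e4)⟩

end action

end Cfsg.Agent.helper4.Dn
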