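import Mathlib
import Cfsg.Agent.Lib_helper4_DnAF
import Cfsg.Agent.Lib_helper4_DnAH

set_option autoImplicit false
set_option linter.unusedSectionVars false
set_option maxHeartbeats 1600000

/-!
# The action of `PSL₂(L)` on the projective line; transfer between `SL₂` and `PSL₂`
-/

namespace Cfsg.Agent.helper4.Dn

open Matrix
open scoped LinearAlgebra.Projectivization MatrixGroups
open Cfsg.Agent.helper4.Dk

section general

/-- cardinality of a preimage under a surjective homomorphism -/
theorem card_comap_of_surj {A B : Type*} [Group A] [Group B] (f : A →* B)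
    (hf : Function.Surjective f) (S : Subgroup B) :
    Nat.card (S.comap f) = Nat.card S * Nat.card f.ker := by
  have hsurj : Function.Surjective (f.subgroupComap S) :=
    MonoidHom.subgroupComap_surjective_of_surjective f S hf
  have h1 := Subgroup.card_eq_card_quotient_mul_card_subgroup (f.subgroupComap S).ker
  have h2 : Nat.card (S.comap f ⧸ (f.subgroupComap S).ker) = Nat.card S :=
    Nat.card_congr (QuotientGroup.quotientKerEquivOfSurjective (f.subgroupComap S) hsurj).toEquiv
  have h3 : Nat.card (f.subgroupComap S).ker = Nat.card f.ker := by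
    apply Nat.card_congr
    refine ⟨fun t => ⟨t.1.1, ?_⟩, fun t => ⟨⟨t.1, ?_⟩, ?_⟩, ?_, ?_⟩
    · have h4 : (f.subgroupComap S) t.1 = 1 := (MonoidHom.mem_ker).mp t.2
      rw [MonoidHom.mem_ker]
      exact congrArg Subtype.val h4
    · rw [Subgroup.mem_comap, (MonoidHom.mem_ker).mp t.2]; exact S.one_mem
    · rw [MonoidHom.mem_ker]
      apply Subtype.ext
      exact (MonoidHom.mem_ker).mp t.2
    · intro t; rfl
    · intro t; rfl
  rw [h1, h2, h3]

end general

variable {L : Type*} [Field L]

theorem piF_surj' : Function.Surjective (piF L) := QuotientGroup.mk'_surjective _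

theorem piF_eq_one_iff' (g : SpecialLinearGroup (Fin 2) L) : piF L g = 1 ↔ g = 1 ∨ g = -1 := by
  unfold piF
  rw [QuotientGroup.mk'_apply, QuotientGroup.eq_one_iff]
  constructor
  · intro hg
    obtain ⟨r, hr, hrg⟩ := Matrix.SpecialLinearGroup.mem_center_iff.mp hg
    rw [Fintype.card_fin] at hr
    have h00 := congrFun (congrFun hrg 0) 0
    have h01 := congrFun (congrFun hrg 0) 1
    have h10 := congrFun (congrFun hrg 1) 0
    have h11 := congrFun (congrFun hrg 1) 1
    simp at h00 h01 h10 h11
    have : (r - 1) * (r + 1) = 0 := by linear_combination hr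
    rcases mul_eq_zero.mp this with h | h
    · left
      have hr1 : r = 1 := sub_eq_zero.mp h
      apply sl_ext' <;> simp [← h00, ← h01, ← h10, ← h11, hr1]
    · right
      have hr1 : r = -1 := eq_neg_of_add_eq_zero_left h
      apply sl_ext' <;> simp [← h00, ← h01, ← h10, ← h11, hr1]
  · rintro (rfl | rfl)
    · exact Subgroup.one_mem _
    · rw [Subgroup.mem_center_iff]
      intro g
      simp

theorem piF_neg_one' : piF L (-1) = 1 := (piF_eq_one_iff' _).mpr (Or.inr rfl)

theorem card_ker_piF : Nat.card (piF L).ker = zc L := by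
  have hset : ((piF L).ker : Set (SpecialLinearGroup (Fin 2) L)) = {1, -1} := by
    ext g
    rw [SetLike.mem_coe, MonoidHom.mem_ker, piF_eq_one_iff']
    simp
  have h1 : Nat.card (piF L).ker = ((piF L).ker : Set (SpecialLinearGroup (Fin 2) L)).ncard := rfl
  rw [h1, hset]
  rcases zc_cases L with ⟨hz, h2⟩ | ⟨hz, h2⟩
  · rw [hz, Set.ncard_pair]
    exact (one_ne_neg_one_iff).mpr h2
  · rw [hz, neg_one_eq_one h2]
    simp

theorem card_comap_piF_gen (S : Subgroup (Matrix.ProjectiveSpecialLinearGroup (Fin 2) L)) :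
    Nat.card (S.comap (piF L)) = zc L * Nat.card S := by
  rw [card_comap_of_surj (piF L) piF_surj' S, card_ker_piF, mul_comm]

theorem finite_comap_piF (S : Subgroup (Matrix.ProjectiveSpecialLinearGroup (Fin 2) L)) [Finite S] :
    Finite (S.comap (piF L)) := by
  apply Nat.finite_of_card_ne_zero
  rw [card_comap_piF_gen]
  have := zc_pos L
  have h2 : 0 < Nat.card S := Nat.card_pos
  positivity

theorem piF_eq_iff (a b : SpecialLinearGroup (Fin 2) L) : piF L a = piF L b ↔ a = b ∨ a = -b := by
  have h1 : piF L a = piF L b ↔ piF L (a * b⁻¹) = 1 := by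
    rw [map_mul, map_inv, mul_inv_eq_one]
  rw [h1, piF_eq_one_iff']
  constructor
  · rintro (h | h)
    · left; exact mul_inv_eq_one.mp h
    · right
      have : a = (a * b⁻¹) * b := by group
      rw [this, h]; simp
  · rintro (h | h)
    · left; rw [h]; simp
    · right; rw [h]; simp

theorem center_le_ker_toPerm :
    Subgroup.center (SpecialLinearGroup (Fin 2) L) ≤
      (MulAction.toPermHom (SpecialLinearGroup (Fin 2) L) (ℙ L (Fin 2 → L))).ker := by
  intro g hg
  have h1 : piF L g = 1 := by
    unfold piF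
    rw [QuotientGroup.mk'_apply, QuotientGroup.eq_one_iff]
    exact hg
  rw [MonoidHom.mem_ker]
  rcases (piF_eq_one_iff' g).mp h1 with rfl | rfl
  · exact map_one _
  · ext y
    exact neg_one_smul' y

/-- the action of `PSL₂(L)` on the projective line -/
noncomputable def rho (L : Type*) [Field L] :
    Matrix.ProjectiveSpecialLinearGroup (Fin 2) L →* Equiv.Perm (ℙ L (Fin 2 → L)) :=
  QuotientGroup.lift _ (MulAction.toPermHom (SpecialLinearGroup (Fin 2) L) (ℙ L (Fin 2 → L)))
    center_le_ker_toPerm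

theorem rho_piF (g : SpecialLinearGroup (Fin 2) L) (y : ℙ L (Fin 2 → L)) :
    rho L (piF L g) y = g • y := rfl

/-- the induced action of a subgroup -/
noncomputable def actOf (G : Subgroup (Matrix.ProjectiveSpecialLinearGroup (Fin 2) L)) :
    MulAction G (ℙ L (Fin 2 → L)) :=
  MulAction.compHom _ ((rho L).comp G.subtype)

theorem actOf_smul (G : Subgroup (Matrix.ProjectiveSpecialLinearGroup (Fin 2) L)) (x : G)
    (y : ℙ L (Fin 2 → L)) : (actOf G).smul x y = rho L (x : Matrix.ProjectiveSpecialLinearGroup (Fin 2) L) y := rfl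

section closed
variable [IsAlgClosed L]

theorem rho_fix1 (x : Matrix.ProjectiveSpecialLinearGroup (Fin 2) L) :
    ∃ u : ℙ L (Fin 2 → L), rho L x u = u := by
  obtain ⟨g, rfl⟩ := piF_surj' x
  obtain ⟨u, hu⟩ := exists_fixed' g
  exact ⟨u, hu⟩

theorem rho_fix3 (x : Matrix.ProjectiveSpecialLinearGroup (Fin 2) L) (a b c : ℙ L (Fin 2 → L))
    (hab : a ≠ b) (hac : a ≠ c) (hbc : b ≠ c) (ha : rho L x a = a) (hb : rho L x b = b)
    (hc : rho L x c = c) : x = 1 := by
  obtain ⟨g, rfl⟩ := piF_surj' x
  rw [rho_piF] at ha hb hc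
  exact (piF_eq_one_iff' g).mpr (scalar_of_three hab (Ne.symm hac) (Ne.symm hbc) ha hb hc)

theorem rho_swap (x : Matrix.ProjectiveSpecialLinearGroup (Fin 2) L) (a b : ℙ L (Fin 2 → L))
    (hab : a ≠ b) (ha : rho L x a = b) (hb : rho L x b = a) : x * x = 1 := by
  obtain ⟨g, rfl⟩ := piF_surj' x
  rw [rho_piF] at ha hb
  rw [← map_mul, swap_sq hab ha hb, piF_neg_one']

end closed

/-- stabilisers in `G` and in its preimage -/
theorem card_stabIn_comap (G : Subgroup (Matrix.ProjectiveSpecialLinearGroup (Fin 2) L))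
    (u : ℙ L (Fin 2 → L)) :
    Nat.card (stabIn (G.comap (piF L)) u) =
      zc L * Nat.card (@MulAction.stabilizer G _ _ (actOf G) u) := by
  letI := actOf G
  set S := (MulAction.stabilizer G u).map G.subtype with hS
  have h1 : Nat.card S = Nat.card (MulAction.stabilizer G u) :=
    Nat.card_congr ((MulAction.stabilizer G u).equivMapOfInjective G.subtype
      G.subtype_injective).symm.toEquiv
  have h2 : S.comap (piF L) = stabIn (G.comap (piF L)) u := by
    ext g
    rw [Subgroup.mem_comap, mem_stabIn, hS, Subgroup.mem_map, Subgroup.mem_comap]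
    constructor
    · rintro ⟨x, hx, hxg⟩
      have hx' : rho L (x : Matrix.ProjectiveSpecialLinearGroup (Fin 2) L) u = u := hx
      have hxg' : (x : Matrix.ProjectiveSpecialLinearGroup (Fin 2) L) = piF L g := hxg
      rw [hxg', rho_piF] at hx'
      exact ⟨hxg' ▸ x.2, hx'⟩
    · rintro ⟨hg, hgu⟩
      exact ⟨⟨piF L g, hg⟩, hgu, rfl⟩
  rw [← h2, card_comap_piF_gen, h1]

section psi
variable {F : Type*} [Field F]

/-- lifting a homomorphism of `SL₂`'s preserving `-1` to `PSL₂` -/
noncomputable def psiOf (Θ : SpecialLinearGroup (Fin 2) F →* SpecialLinearGroup (Fin 2) L)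
    (h : Θ (-1) = -1) :
    Matrix.ProjectiveSpecialLinearGroup (Fin 2) F →* Matrix.ProjectiveSpecialLinearGroup (Fin 2) L :=
  QuotientGroup.lift _ ((piF L).comp Θ) (by
    intro g hg
    have h1 : piF F g = 1 := by
      unfold piF
      rw [QuotientGroup.mk'_apply, QuotientGroup.eq_one_iff]
      exact hg
    rw [MonoidHom.mem_ker, MonoidHom.comp_apply]
    rcases (piF_eq_one_iff' g).mp h1 with rfl | rfl
    · rw [map_one, map_one]
    · rw [h, piF_neg_one'])

theorem psiOf_piF (Θ : SpecialLinearGroup (Fin 2) F →* SpecialLinearGroup (Fin 2) L)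
    (h : Θ (-1) = -1) (g : SpecialLinearGroup (Fin 2) F) :
    psiOf Θ h (piF F g) = piF L (Θ g) := rfl

theorem psiOf_injective (Θ : SpecialLinearGroup (Fin 2) F →* SpecialLinearGroup (Fin 2) L)
    (h : Θ (-1) = -1) (hinj : Function.Injective Θ) : Function.Injective (psiOf Θ h) := by
  rw [injective_iff_map_eq_one]
  intro x hx
  obtain ⟨g, rfl⟩ := piF_surj' x
  rw [psiOf_piF, piF_eq_one_iff'] at hx
  rw [piF_eq_one_iff']
  rcases hx with hx | hx
  · left; exact hinj (by rw [hx, map_one])
  · right; exact hinj (by rw [hx, h])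

theorem comap_map_psiOf (Θ : SpecialLinearGroup (Fin 2) F →* SpecialLinearGroup (Fin 2) L)
    (h : Θ (-1) = -1) (H : Subgroup (Matrix.ProjectiveSpecialLinearGroup (Fin 2) F)) :
    (H.map (psiOf Θ h)).comap (piF L) = (H.comap (piF F)).map Θ := by
  ext g'
  rw [Subgroup.mem_comap, Subgroup.mem_map, Subgroup.mem_map]
  constructor
  · rintro ⟨x, hx, hxg⟩
    obtain ⟨g, rfl⟩ := piF_surj' x
    rw [psiOf_piF, piF_eq_iff] at hxg
    rcases hxg with hxg | hxg
    · exact ⟨g, hx, hxg⟩
    · refine ⟨-g, ?_, ?_⟩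
      · rw [Subgroup.mem_comap]
        have : piF F (-g) = piF F g := by
          rw [piF_eq_iff]; right; rfl
        rw [this]; exact hx
      · have h1 : (-g : SpecialLinearGroup (Fin 2) F) = (-1) * g := by simp
        rw [h1, map_mul, h, hxg]; simp
  · rintro ⟨g, hg, rfl⟩
    exact ⟨piF F g, hg, psiOf_piF Θ h g⟩

end psi

end Cfsg.Agent.helper4.Dn
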