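import Mathlib
import Cfsg.Agent.Lib_helper4_DnAI

set_option autoImplicit false
set_option linter.unusedSectionVars false
set_option maxHeartbeats 1600000

/-!
# Recognition of the polyhedral and dihedral subgroups of `PSL₂(L)`
-/

namespace Cfsg.Agent.helper4.Dn

open Matrix
open scoped LinearAlgebra.Projectivization MatrixGroups
open Cfsg.Agent.helper4.Dk

/-- a point stabiliser of index two which is cyclic, with swapping elements involutions -/
theorem dihedral_of_action {G : Type*} [Group G] [Finite G] {P : Type*} [MulAction G P]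
    (hswap : ∀ (g : G) (a b : P), a ≠ b → g • a = b → g • b = a → g * g = 1)
    (u : P) [IsCyclic (MulAction.stabilizer G u)]
    (hcard : Nat.card G = 2 * Nat.card (MulAction.stabilizer G u)) :
    Nonempty (G ≃* DihedralGroup (Nat.card (MulAction.stabilizer G u))) := by
  apply dihedral_of_index_two _ hcard
  intro x hx
  have hidx : (MulAction.stabilizer G u).index = 2 := by
    have h1 := (MulAction.stabilizer G u).card_mul_index
    rw [hcard] at h1
    have hpos : 0 < Nat.card (MulAction.stabilizer G u) := Nat.card_pos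
    have : Nat.card (MulAction.stabilizer G u) * (MulAction.stabilizer G u).index =
        Nat.card (MulAction.stabilizer G u) * 2 := by rw [h1]; ring
    exact Nat.eq_of_mul_eq_mul_left hpos this
  have h2 : x * x ∈ MulAction.stabilizer G u := Subgroup.mul_self_mem_of_index_two hidx x
  have h3 : x • (x • u) = u := by rw [← mul_smul]; exact h2
  have h4 : u ≠ x • u := fun h => hx h.symm
  exact hswap x u (x • u) h4 rfl h3

variable {L : Type*} [Field L] [IsAlgClosed L]
variable (G : Subgroup (Matrix.ProjectiveSpecialLinearGroup (Fin 2) L)) [Finite G]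

theorem neg_one_mem_comap : (-1 : SpecialLinearGroup (Fin 2) L) ∈ G.comap (piF L) := by
  rw [Subgroup.mem_comap, piF_neg_one']; exact G.one_mem

theorem actOf_fix1 : ∀ x : G, ∃ u : ℙ L (Fin 2 → L), (actOf G).smul x u = u := by
  intro x
  exact rho_fix1 (x : Matrix.ProjectiveSpecialLinearGroup (Fin 2) L)

theorem actOf_fix3 : ∀ (x : G) (a b c : ℙ L (Fin 2 → L)), a ≠ b → a ≠ c → b ≠ c →
    (actOf G).smul x a = a → (actOf G).smul x b = b → (actOf G).smul x c = c → x = 1 := by
  intro x a b c hab hac hbc ha hb hc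
  apply Subtype.ext
  exact rho_fix3 _ a b c hab hac hbc ha hb hc

theorem actOf_swap : ∀ (x : G) (a b : ℙ L (Fin 2 → L)), a ≠ b →
    (actOf G).smul x a = b → (actOf G).smul x b = a → x * x = 1 := by
  intro x a b hab ha hb
  apply Subtype.ext
  exact rho_swap _ a b hab ha hb

/-- the stabiliser of a point without parabolic elements is cyclic -/
theorem isCyclic_stab (u : ℙ L (Fin 2 → L)) (hN2 : N2 (G.comap (piF L)) u = 0) :
    IsCyclic (@MulAction.stabilizer G _ _ (actOf G) u) := by
  letI := actOf G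
  haveI := finite_comap_piF G
  obtain ⟨c, hc, hord⟩ := exists_generator_stab (G.comap (piF L)) (neg_one_mem_comap G) u hN2
  haveI : IsCyclic (stabIn (G.comap (piF L)) u) := by
    apply isCyclic_of_orderOf_eq_card (⟨c, hc⟩ : stabIn (G.comap (piF L)) u)
    rw [Subgroup.orderOf_mk]; exact hord
  let ψ : stabIn (G.comap (piF L)) u →* MulAction.stabilizer G u :=
    { toFun := fun g => ⟨⟨piF L g.1, (mem_stabIn.mp g.2).1⟩, (mem_stabIn.mp g.2).2⟩
      map_one' := by apply Subtype.ext; apply Subtype.ext; simp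
      map_mul' := by intro a b; apply Subtype.ext; apply Subtype.ext; simp }
  apply isCyclic_of_surjective ψ
  rintro ⟨⟨x, hx⟩, hxu⟩
  obtain ⟨g, rfl⟩ := piF_surj' x
  exact ⟨⟨g, mem_stabIn.mpr ⟨hx, hxu⟩⟩, rfl⟩

/-- dihedral recognition -/
theorem dihedral_of_stab (u : ℙ L (Fin 2 → L)) (hN2 : N2 (G.comap (piF L)) u = 0) {c : ℕ}
    (hst : Nat.card (stabIn (G.comap (piF L)) u) = zc L * c)
    (hcard : Nat.card (G.comap (piF L)) = zc L * (2 * c)) :
    Nonempty (G ≃* DihedralGroup c) := by
  letI := actOf G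
  haveI := isCyclic_stab G u hN2
  have hz := zc_pos L
  have h1 : Nat.card (MulAction.stabilizer G u) = c := by
    have := card_stabIn_comap G u
    rw [hst] at this
    exact (Nat.eq_of_mul_eq_mul_left hz this).symm
  have h2 : Nat.card G = 2 * c := by
    have := card_comap_piF_gen G
    rw [hcard] at this
    exact (Nat.eq_of_mul_eq_mul_left hz this).symm
  have := dihedral_of_action (actOf_swap G) u (by rw [h1, h2])
  rwa [h1] at this

/-- `A₅` recognition -/
theorem alt5_of_stab (u : ℙ L (Fin 2 → L))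
    (hst : Nat.card (stabIn (G.comap (piF L)) u) = zc L * 5)
    (hcard : Nat.card (G.comap (piF L)) = zc L * 60) :
    Nonempty (G ≃* alternatingGroup (Fin 5)) := by
  letI := actOf G
  have hz := zc_pos L
  have h1 : Nat.card (MulAction.stabilizer G u) = 5 := by
    have := card_stabIn_comap G u
    rw [hst] at this
    exact (Nat.eq_of_mul_eq_mul_left hz this).symm
  have h2 : Nat.card G = 60 := by
    have := card_comap_piF_gen G
    rw [hcard] at this
    exact (Nat.eq_of_mul_eq_mul_left hz this).symm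
  exact alt_five_of (actOf_fix3 G) h2 u h1

/-- cyclic recognition -/
theorem cyclic_of_fix (w : ℙ L (Fin 2 → L)) (hN2 : N2 (G.comap (piF L)) w = 0)
    (hfix : ∀ g ∈ G.comap (piF L), g • w = w) : IsCyclic G := by
  letI := actOf G
  haveI := isCyclic_stab G w hN2
  have htop : MulAction.stabilizer G w = ⊤ := by
    rw [Subgroup.eq_top_iff']
    rintro ⟨x, hx⟩
    obtain ⟨g, rfl⟩ := piF_surj' x
    exact hfix g hx
  have e : MulAction.stabilizer G w ≃* G := (MulEquiv.subgroupCongr htop).trans Subgroup.topEquiv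
  exact isCyclic_of_surjective e e.surjective

/-- the polyhedral case -/
theorem poly_iso (hnp : ∀ y, N2 (G.comap (piF L)) y = 0) {y₁ y₂ y₃ : ℙ L (Fin 2 → L)}
    {s₁ s₂ s₃ hb : ℕ} (hPoly : Poly (G.comap (piF L)) y₁ y₂ y₃ s₁ s₂ s₃ hb) :
    (2 ≤ s₃ ∧ Nonempty (G ≃* DihedralGroup s₃)) ∨ Nonempty (G ≃* alternatingGroup (Fin 4)) ∨
      Nonempty (G ≃* Equiv.Perm (Fin 4)) ∨ Nonempty (G ≃* alternatingGroup (Fin 5)) := by
  letI := actOf G
  haveI := finite_comap_piF G
  have hz := zc_pos L
  obtain ⟨hy₁, hy₂, hy₃, -, -, -, hall, hc1, hc2, hc3, hcard, htyp⟩ := hPoly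
  obtain ⟨hs1, htyp⟩ := htyp
  have hG : Nat.card G = hb := by
    have := card_comap_piF_gen G
    rw [hcard] at this
    exact (Nat.eq_of_mul_eq_mul_left hz this).symm
  -- stabiliser orders
  have hstabY : ∀ u : ℙ L (Fin 2 → L), u ∈ YY (G.comap (piF L)) →
      Nat.card (MulAction.stabilizer G u) = s₁ ∨
      Nat.card (MulAction.stabilizer G u) = s₂ ∨ Nat.card (MulAction.stabilizer G u) = s₃ := by
    intro u hu
    have hcs := card_stabIn_comap G u
    rcases hall u hu with ⟨g, hg, rfl⟩ | ⟨g, hg, rfl⟩ | ⟨g, hg, rfl⟩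
    · left
      rw [card_stabIn_conj, cj_eq_of_mem hg, hc1] at hcs
      exact (Nat.eq_of_mul_eq_mul_left hz hcs).symm
    · right; left
      rw [card_stabIn_conj, cj_eq_of_mem hg, hc2] at hcs
      exact (Nat.eq_of_mul_eq_mul_left hz hcs).symm
    · right; right
      rw [card_stabIn_conj, cj_eq_of_mem hg, hc3] at hcs
      exact (Nat.eq_of_mul_eq_mul_left hz hcs).symm
  have hstabN : ∀ u : ℙ L (Fin 2 → L), u ∉ YY (G.comap (piF L)) →
      Nat.card (MulAction.stabilizer G u) = 1 := by
    intro u hu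
    have : MulAction.stabilizer G u = ⊥ := by
      rw [Subgroup.eq_bot_iff_forall]
      rintro ⟨x, hx⟩ hxu
      obtain ⟨g, rfl⟩ := piF_surj' x
      have hgu : g • u = u := hxu
      apply Subtype.ext
      rw [Subgroup.coe_mk, Subgroup.coe_one, piF_eq_one_iff']
      by_contra hcon
      push Not at hcon
      exact hu ⟨g, hx, hcon.1, hcon.2, hgu⟩
    rw [this, Subgroup.card_bot]
  have hstab5 : s₁ ≤ 5 → s₂ ≤ 5 → s₃ ≤ 5 →
      ∀ u : ℙ L (Fin 2 → L), Nat.card (MulAction.stabilizer G u) ≤ 5 := by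
    intro h1 h2 h3 u
    by_cases hu : u ∈ YY (G.comap (piF L))
    · rcases hstabY u hu with h | h | h <;> omega
    · rw [hstabN u hu]; norm_num
  rcases htyp with ⟨hs2, hhb, hs3⟩ | ⟨hs2, hs3, hhb⟩ | ⟨hs2, hs3, hhb⟩ | ⟨hs2, hs3, hhb⟩
  · left
    refine ⟨hs3, ?_⟩
    exact dihedral_of_stab G y₃ (hnp y₃) hc3 (by rw [hcard, hhb])
  · right; left
    have := alt_or_sym_four (actOf_fix1 G) (actOf_fix3 G)
      (hstab5 (by omega) (by omega) (by omega)) (Or.inl (by rw [hG, hhb]))
    exact this.1 (by rw [hG, hhb])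
  · right; right; left
    have := alt_or_sym_four (actOf_fix1 G) (actOf_fix3 G)
      (hstab5 (by omega) (by omega) (by omega)) (Or.inr (by rw [hG, hhb]))
    exact this.2 (by rw [hG, hhb])
  · right; right; right
    exact alt5_of_stab G y₃ (by rw [hc3, hs3]) (by rw [hcard, hhb])

end Cfsg.Agent.helper4.Dn
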