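import Mathlib
import Cfsg.Agent.Lib_helper4_DnAJ

set_option autoImplicit false
set_option linter.unusedSectionVars false
set_option maxHeartbeats 1600000

/-!
# The subfield attached to a doubly transitive subgroup with parabolic elements (any characteristic)
-/

namespace Cfsg.Agent.helper4.Dn

open Matrix
open scoped LinearAlgebra.Projectivization MatrixGroups
open Cfsg.Agent.helper4.Dk

variable {K : Type*} [Field K]

theorem lS_ne_neg_one' {a : K} (ha : a ≠ 0) : lS a ≠ -1 := by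
  intro h
  have := congrArg (fun g : SpecialLinearGroup (Fin 2) K => g 1 0) h
  simp at this
  exact ha this

theorem subfield_of_two_trans' (H : Subgroup (SpecialLinearGroup (Fin 2) K))
    [Finite H] (hu1 : uS 1 ∈ H) {t : K} (ht : t ≠ 0) (hlt : lS t ∈ H)
    (hP1 : ∀ y, (∃ g ∈ H, g ≠ 1 ∧ g ≠ -1 ∧ tr g ^ 2 = 4 ∧ g • y = y) → y ∈ orb H pInf)
    (hn : (orb H pInf).ncard = 1 + Nat.card (AA H)) :
    ∃ F : Subfield K, (F : Set K) = (AA H : Set K) ∧ (∀ a ∈ F, uS a ∈ H ∧ lS a ∈ H) ∧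
      ∀ b : K, pt b ∈ orb H pInf ↔ b ∈ F := by
  have h1A : (1 : K) ∈ AA H := hu1
  -- E1
  have hp0 : (pt 0 : ℙ K (Fin 2 → K)) ∈ orb H pInf := by
    apply hP1
    refine ⟨lS t, hlt, lS_ne_one ht, lS_ne_neg_one' ht, ?_, lS_smul_pt_zero t⟩
    unfold tr; simp; norm_num
  -- E2
  obtain ⟨hSfin, hdec⟩ := orb_pInf_decomp H
  have hAS : (AA H : Set K) ⊆ {b : K | pt b ∈ orb H pInf} := by
    intro a ha
    have : (pt a : ℙ K (Fin 2 → K)) = uS a • pt 0 := by rw [uS_smul_pt, zero_add]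
    rw [Set.mem_ofPred_eq, this]
    exact smul_mem_orb ha hp0
  have hSA : {b : K | pt b ∈ orb H pInf} = (AA H : Set K) := by
    symm
    apply Set.eq_of_subset_of_ncard_le hAS _ hSfin
    have : Nat.card (AA H) = (AA H : Set K).ncard := rfl
    omega
  have hmemA : ∀ b : K, pt b ∈ orb H pInf ↔ b ∈ AA H := by
    intro b
    have : b ∈ {b : K | pt b ∈ orb H pInf} ↔ b ∈ (AA H : Set K) := by rw [hSA]
    exact this
  -- E3
  obtain ⟨g, hg, hg0⟩ := hp0
  have hγ : g 1 0 ≠ 0 := by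
    intro h
    rw [smul_pInf_of_eq g h] at hg0
    exact pt_ne_pInf 0 hg0.symm
  have hg00 : g 0 0 = 0 := by
    rw [smul_pInf_of_ne g hγ] at hg0
    have := pt_injective hg0
    rcases div_eq_zero_iff.mp this with h | h
    · exact h
    · exact absurd h hγ
  obtain ⟨γ, hγdef⟩ : ∃ γ, γ = g 1 0 := ⟨_, rfl⟩
  rw [← hγdef] at hγ
  have hγ2 : γ ^ 2 ≠ 0 := pow_ne_zero 2 hγ
  have hAB : ∀ a ∈ AA H, γ ^ 2 * a ∈ BB H := by
    intro a ha
    have h3 : lS (-(γ ^ 2 * a)) ∈ H := by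
      rw [hγdef, ← conj_uS_of_zero g hg00]
      exact H.mul_mem (H.mul_mem hg ha) (H.inv_mem hg)
    have := (BB H).neg_mem h3
    rwa [neg_neg] at this
  have hBA : ∀ b ∈ BB H, b / γ ^ 2 ∈ AA H := by
    intro b hb
    have h3 : uS (-(b / γ ^ 2)) = g⁻¹ * lS b * g := by
      have h4 := conj_uS_of_zero g hg00 (-(b / γ ^ 2))
      rw [← hγdef] at h4
      have h5 : -(γ ^ 2 * -(b / γ ^ 2)) = b := by field_simp
      rw [h5] at h4
      rw [← h4]; group
    have h6 : uS (-(b / γ ^ 2)) ∈ H := by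
      rw [h3]; exact H.mul_mem (H.mul_mem (H.inv_mem hg) hb) hg
    have := (AA H).neg_mem h6
    rwa [neg_neg] at this
  -- E4
  have hinvB : ∀ b ∈ BB H, b ≠ 0 → 1 / b ∈ AA H := by
    intro b hb hb0
    rw [← hmemA, ← lS_smul_pInf hb0]
    exact smul_mem_orb hb (mem_orb_self H pInf)
  -- E5/E6 : iota
  have hiota_inj : ∀ a ∈ AA H, a ≠ 0 → (1 / (γ ^ 2 * a) ∈ AA H ∧ 1 / (γ ^ 2 * a) ≠ 0) := by
    intro a ha ha0
    exact ⟨hinvB _ (hAB a ha) (mul_ne_zero hγ2 ha0), one_div_ne_zero (mul_ne_zero hγ2 ha0)⟩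
  have hio : ∀ a ∈ AA H, a ≠ 0 → 1 / (γ ^ 2 * a) ∈ AA H := fun a ha ha0 => (hiota_inj a ha ha0).1
  -- Hua
  have hHua : ∀ a ∈ AA H, ∀ a' ∈ AA H, γ ^ 2 * a ^ 2 * a' ∈ AA H := by
    intro a ha a' ha'
    by_cases ha0 : a = 0
    · rw [ha0]; simp [(AA H).zero_mem]
    by_cases ha0' : a' = 0
    · rw [ha0']; simp [(AA H).zero_mem]
    by_cases huv : (γ * a) * (γ * a') = 1
    · have : γ ^ 2 * a ^ 2 * a' = a := by linear_combination a * huv
      rw [this]; exact ha
    · obtain ⟨h3, h4, h5⟩ := hua (γ * a) (γ * a') (mul_ne_zero hγ ha0) (mul_ne_zero hγ ha0') huv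
      have hι' := hio a' ha' ha0'
      have ha₁ : 1 / (γ ^ 2 * a') - a ∈ AA H := (AA H).sub_mem hι' ha
      have ha₁' : 1 / (γ * a') - γ * a = γ * (1 / (γ ^ 2 * a') - a) := by
        field_simp
      have ha₁0 : 1 / (γ ^ 2 * a') - a ≠ 0 := by
        intro h0
        rw [ha₁', h0, mul_zero] at h3
        exact h3 rfl
      have hι₁ := hio _ ha₁ ha₁0
      have ha₂ : 1 / (γ ^ 2 * a) + 1 / (γ ^ 2 * (1 / (γ ^ 2 * a') - a)) ∈ AA H :=
        (AA H).add_mem (hio a ha ha0) hι₁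
      have ha₂' : 1 / (γ * a) + 1 / (1 / (γ * a') - γ * a) =
          γ * (1 / (γ ^ 2 * a) + 1 / (γ ^ 2 * (1 / (γ ^ 2 * a') - a))) := by
        rw [ha₁']
        field_simp
      have ha₂0 : 1 / (γ ^ 2 * a) + 1 / (γ ^ 2 * (1 / (γ ^ 2 * a') - a)) ≠ 0 := by
        intro h0
        rw [ha₂', h0, mul_zero] at h4
        exact h4 rfl
      have hι₂ := hio _ ha₂ ha₂0
      have hfinal : a - 1 / (γ ^ 2 * (1 / (γ ^ 2 * a) + 1 / (γ ^ 2 * (1 / (γ ^ 2 * a') - a)))) ∈
          AA H := (AA H).sub_mem ha hι₂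
      have heq : γ ^ 2 * a ^ 2 * a' =
          a - 1 / (γ ^ 2 * (1 / (γ ^ 2 * a) + 1 / (γ ^ 2 * (1 / (γ ^ 2 * a') - a)))) := by
        have h6 : γ * (γ ^ 2 * a ^ 2 * a') = (γ * a) ^ 2 * (γ * a') := by ring
        have h7 : γ * (a - 1 / (γ ^ 2 * (1 / (γ ^ 2 * a) + 1 / (γ ^ 2 * (1 / (γ ^ 2 * a') - a))))) =
            γ * a - 1 / (1 / (γ * a) + 1 / (1 / (γ * a') - γ * a)) := by
          rw [ha₂']
          field_simp
        apply mul_left_cancel₀ hγ
        rw [h6, h7, h5]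
      rw [heq]; exact hfinal
  -- E7
  have hg2A : ∀ a ∈ AA H, γ ^ 2 * a ∈ AA H := by
    intro a ha
    have := hHua 1 h1A a ha
    simpa using this
  have hdivg : ∀ a ∈ AA H, a / γ ^ 2 ∈ AA H := div_mem_of_mul_mem hγ2 hg2A
  have hsq : ∀ a ∈ AA H, ∀ a' ∈ AA H, a ^ 2 * a' ∈ AA H := by
    intro a ha a' ha'
    have := hdivg _ (hHua a ha a' ha')
    have h3 : γ ^ 2 * a ^ 2 * a' / γ ^ 2 = a ^ 2 * a' := by field_simp
    rwa [h3] at this
  have hmul : ∀ a ∈ AA H, ∀ b ∈ AA H, a * b ∈ AA H := by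
    by_cases h2 : (2 : K) = 0
    · -- characteristic two: squaring is a bijection of `AA H`
      have hsqA : ∀ a ∈ AA H, a ^ 2 ∈ AA H := by
        intro a ha
        have := hsq a ha 1 h1A
        rwa [mul_one] at this
      have hinj : Function.Injective (fun a : AA H => (⟨(a : K) ^ 2, hsqA a a.2⟩ : AA H)) := by
        intro a b hab
        have h3 : (a : K) ^ 2 = (b : K) ^ 2 := congrArg Subtype.val hab
        have h4 : ((a : K) - b) ^ 2 = 0 := by
          have : ((a : K) - b) ^ 2 = (a : K) ^ 2 + (b : K) ^ 2 - 2 * (a * b) := by ring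
          rw [this, h2, zero_mul, sub_zero, h3]
          have : (b : K) ^ 2 + (b : K) ^ 2 = 2 * (b : K) ^ 2 := by ring
          rw [this, h2, zero_mul]
        have h5 : (a : K) - b = 0 := by
          rcases pow_eq_zero_iff (two_ne_zero) |>.mp h4 with h
          exact h
        exact Subtype.ext (sub_eq_zero.mp h5)
      have hsurj := Finite.surjective_of_injective hinj
      intro a ha b hb
      obtain ⟨e, he⟩ := hsurj ⟨a, ha⟩
      have he' : (e : K) ^ 2 = a := congrArg Subtype.val he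
      rw [← he']
      exact hsq e e.2 b hb
    · have htwo : ∀ a ∈ AA H, a / 2 ∈ AA H := by
        apply div_mem_of_mul_mem h2
        intro a ha
        have : 2 * a = a + a := by ring
        rw [this]; exact (AA H).add_mem ha ha
      intro a ha b hb
      have h3 := hsq (a + b) ((AA H).add_mem ha hb) 1 h1A
      have h4 := hsq a ha 1 h1A
      have h5 := hsq b hb 1 h1A
      have h6 : (a + b) ^ 2 * 1 - a ^ 2 * 1 - b ^ 2 * 1 ∈ AA H :=
        (AA H).sub_mem ((AA H).sub_mem h3 h4) h5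
      have h7 := htwo _ h6
      have h8 : ((a + b) ^ 2 * 1 - a ^ 2 * 1 - b ^ 2 * 1) / 2 = a * b := by
        field_simp; ring
      rwa [h8] at h7
  have hinv : ∀ a ∈ AA H, a⁻¹ ∈ AA H := by
    intro a ha
    by_cases ha0 : a = 0
    · rw [ha0, _root_.inv_zero]; exact (AA H).zero_mem
    · have := div_mem_of_mul_mem ha0 (fun b hb => hmul a ha b hb) 1 h1A
      rwa [one_div] at this
  have hAsub : ∀ a ∈ AA H, a ∈ BB H := by
    intro a ha
    have := hAB _ (hdivg a ha)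
    have h3 : γ ^ 2 * (a / γ ^ 2) = a := by field_simp
    rwa [h3] at this
  refine ⟨{ carrier := (AA H : Set K)
            mul_mem' := fun ha hb => hmul _ ha _ hb
            one_mem' := h1A
            add_mem' := fun ha hb => (AA H).add_mem ha hb
            zero_mem' := (AA H).zero_mem
            neg_mem' := fun ha => (AA H).neg_mem ha
            inv_mem' := fun a ha => hinv a ha }, rfl, ?_, ?_⟩
  · intro a ha
    exact ⟨ha, hAsub a ha⟩
  · intro b
    exact hmemA b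

end Cfsg.Agent.helper4.Dn
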