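import Mathlib
import Cfsg.Agent.Lib_helper4_DnAK

set_option autoImplicit false
set_option linter.unusedSectionVars false
set_option maxHeartbeats 1600000

/-!
# Subgroups with parabolic elements: normalisation and the subfield subgroup
-/

namespace Cfsg.Agent.helper4.Dn

open Matrix
open scoped LinearAlgebra.Projectivization MatrixGroups
open Cfsg.Agent.helper4.Dk

variable {K : Type*} [Field K]

theorem cj_cj (d₁ d₂ : SpecialLinearGroup (Fin 2) K) (H : Subgroup (SpecialLinearGroup (Fin 2) K)) :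
    cj d₂ (cj d₁ H) = cj (d₁ * d₂) H := by
  ext g
  rw [mem_cj, mem_cj, mem_cj]
  have : d₁ * (d₂ * g * d₂⁻¹) * d₁⁻¹ = d₁ * d₂ * g * (d₁ * d₂)⁻¹ := by group
  rw [this]

/-- matrices with entries in a subfield lie in `H` once the elementary ones do -/
theorem sl2_le (A : Subfield K) (H : Subgroup (SpecialLinearGroup (Fin 2) K))
    (hA : ∀ a ∈ A, uS a ∈ H ∧ lS a ∈ H) (g : SpecialLinearGroup (Fin 2) K)
    (hg : ∀ i j, g i j ∈ A) : g ∈ H := by
  have key : ∀ g : SpecialLinearGroup (Fin 2) K, (∀ i j, g i j ∈ A) → g 1 0 ≠ 0 → g ∈ H := by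
    intro g hg h10
    have hd := det_eq g
    have hx : (g 0 0 - 1) / g 1 0 ∈ A := A.div_mem (A.sub_mem (hg 0 0) A.one_mem) (hg 1 0)
    have hy : (g 1 1 - 1) / g 1 0 ∈ A := A.div_mem (A.sub_mem (hg 1 1) A.one_mem) (hg 1 0)
    have : g = uS ((g 0 0 - 1) / g 1 0) * lS (g 1 0) * uS ((g 1 1 - 1) / g 1 0) := by
      apply sl_ext'
      · simp only [mul_00, mul_01, mul_10, mul_11, uS_00, uS_01, uS_10, uS_11, lS_00, lS_01,
          lS_10, lS_11]
        field_simp
        ring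
      · simp only [mul_00, mul_01, mul_10, mul_11, uS_00, uS_01, uS_10, uS_11, lS_00, lS_01,
          lS_10, lS_11]
        field_simp
        linear_combination (-1 : K) * hd
      · simp only [mul_00, mul_01, mul_10, mul_11, uS_00, uS_01, uS_10, uS_11, lS_00, lS_01,
          lS_10, lS_11]
        ring
      · simp only [mul_00, mul_01, mul_10, mul_11, uS_00, uS_01, uS_10, uS_11, lS_00, lS_01,
          lS_10, lS_11]
        field_simp
        ring
    rw [this]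
    exact H.mul_mem (H.mul_mem (hA _ hx).1 (hA _ (hg 1 0)).2) (hA _ hy).1
  by_cases h10 : g 1 0 = 0
  · have hd := diag_mul_of_tri g h10
    have h00 : g 0 0 ≠ 0 := by
      intro h
      rw [h, zero_mul] at hd
      exact zero_ne_one hd
    have h1 : lS 1 * g ∈ H := by
      apply key
      · intro i j
        fin_cases i <;> fin_cases j
        · have : (lS 1 * g : SpecialLinearGroup (Fin 2) K) 0 0 = g 0 0 := by rw [mul_00]; simp
          show (lS 1 * g : SpecialLinearGroup (Fin 2) K) 0 0 ∈ A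
          rw [this]; exact hg 0 0
        · have : (lS 1 * g : SpecialLinearGroup (Fin 2) K) 0 1 = g 0 1 := by rw [mul_01]; simp
          show (lS 1 * g : SpecialLinearGroup (Fin 2) K) 0 1 ∈ A
          rw [this]; exact hg 0 1
        · have : (lS 1 * g : SpecialLinearGroup (Fin 2) K) 1 0 = g 0 0 + g 1 0 := by
            rw [mul_10]; simp
          show (lS 1 * g : SpecialLinearGroup (Fin 2) K) 1 0 ∈ A
          rw [this]; exact A.add_mem (hg 0 0) (hg 1 0)
        · have : (lS 1 * g : SpecialLinearGroup (Fin 2) K) 1 1 = g 0 1 + g 1 1 := by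
            rw [mul_11]; simp
          show (lS 1 * g : SpecialLinearGroup (Fin 2) K) 1 1 ∈ A
          rw [this]; exact A.add_mem (hg 0 1) (hg 1 1)
      · rw [mul_10]; simp [h10]; exact h00
    have h2 : g = (lS 1)⁻¹ * (lS 1 * g) := by group
    rw [h2]
    exact H.mul_mem (H.inv_mem (hA 1 A.one_mem).2) h1
  · exact key g hg h10

variable [IsAlgClosed K]

/-- the subfield and its `SL₂` inside a normalised doubly transitive subgroup -/
theorem field_case (H : Subgroup (SpecialLinearGroup (Fin 2) K)) [Finite H] (hH : -1 ∈ H)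
    (hu1 : uS 1 ∈ H) {g₂ : SpecialLinearGroup (Fin 2) K} (hg₂ : g₂ ∈ H)
    (hg₂0 : g₂ • (pInf : ℙ K (Fin 2 → K)) = pt 0)
    (hn : (orb H pInf).ncard = 1 + Nat.card (AA H)) :
    ∃ A : Subfield K, (A : Set K) = (AA H : Set K) ∧
      (∀ g : SpecialLinearGroup (Fin 2) K, (∀ i j, g i j ∈ A) → g ∈ H) ∧
      ∀ b : K, pt b ∈ orb H pInf ↔ b ∈ A := by
  have hγ : g₂ 1 0 ≠ 0 := by
    intro h
    rw [smul_pInf_of_eq g₂ h] at hg₂0
    exact pt_ne_pInf 0 hg₂0.symm
  have hg00 : g₂ 0 0 = 0 := by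
    rw [smul_pInf_of_ne g₂ hγ] at hg₂0
    have := pt_injective hg₂0
    rcases div_eq_zero_iff.mp this with h | h
    · exact h
    · exact absurd h hγ
  have ht : -(g₂ 1 0 ^ 2 * 1) ≠ 0 := by
    rw [mul_one, neg_ne_zero]; exact pow_ne_zero 2 hγ
  have hlt : lS (-(g₂ 1 0 ^ 2 * 1)) ∈ H := by
    rw [← conj_uS_of_zero g₂ hg00]
    exact H.mul_mem (H.mul_mem hg₂ hu1) (H.inv_mem hg₂)
  have hP1 : ∀ y, (∃ g ∈ H, g ≠ 1 ∧ g ≠ -1 ∧ tr g ^ 2 = 4 ∧ g • y = y) → y ∈ orb H pInf := by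
    rintro y ⟨g, hg, h1, h2, h3, h4⟩
    apply parabolic_mem_orb H hH hu1 one_ne_zero
    unfold N2
    have hfin : {g : SpecialLinearGroup (Fin 2) K | g ∈ H ∧ g ≠ 1 ∧ g ≠ -1 ∧ tr g ^ 2 = 4 ∧
        g • y = y}.Finite := by
      apply Set.Finite.subset (Set.toFinite (H : Set (SpecialLinearGroup (Fin 2) K)))
      intro x hx
      exact hx.1
    exact Set.ncard_ne_zero_of_mem (a := g) ⟨hg, h1, h2, h3, h4⟩ hfin
  obtain ⟨A, hAset, hA, hpt⟩ := subfield_of_two_trans' H hu1 ht hlt hP1 hn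
  exact ⟨A, hAset, fun g hg => sl2_le A H hA g hg, hpt⟩

/-- an element outside the subfield subgroup yields a diagonal element outside it -/
theorem exists_diag_of_not_mem (H : Subgroup (SpecialLinearGroup (Fin 2) K)) [Finite H]
    (hu1 : uS 1 ∈ H) (A : Subfield K) (hAset : (A : Set K) = (AA H : Set K))
    (hsl : ∀ g : SpecialLinearGroup (Fin 2) K, (∀ i j, g i j ∈ A) → g ∈ H)
    (hpt : ∀ b : K, pt b ∈ orb H pInf ↔ b ∈ A)
    {h : SpecialLinearGroup (Fin 2) K} (hh : h ∈ H) (hhA : ¬ ∀ i j, h i j ∈ A) :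
    ∃ (t : K) (ht : t ≠ 0), dS t ht ∈ H ∧ t ^ 2 ∈ A ∧ t ∉ A := by
  have hmemA : ∀ a : K, a ∈ A ↔ uS a ∈ H := by
    intro a
    have : a ∈ (A : Set K) ↔ a ∈ (AA H : Set K) := by rw [hAset]
    exact this
  -- move `h ∞` back to `∞`
  obtain ⟨g, hgH, hgA, hg10⟩ : ∃ g ∈ H, (¬ ∀ i j, g i j ∈ A) ∧ g 1 0 = 0 := by
    by_cases h10 : h 1 0 = 0
    · exact ⟨h, hh, hhA, h10⟩
    · have hb : h 0 0 / h 1 0 ∈ A := by
        rw [← hpt, ← smul_pInf_of_ne h h10]
        exact ⟨h, hh, rfl⟩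
      obtain ⟨b, hbdef⟩ : ∃ b, b = h 0 0 / h 1 0 := ⟨_, rfl⟩
      rw [← hbdef] at hb
      have hwA : ∀ i j, (wS b)⁻¹ i j ∈ A := by
        intro i j
        fin_cases i <;> fin_cases j
        · have : ((wS b)⁻¹ : SpecialLinearGroup (Fin 2) K) 0 0 = 0 := by rw [inv_00]; simp
          show ((wS b)⁻¹ : SpecialLinearGroup (Fin 2) K) 0 0 ∈ A
          rw [this]; exact A.zero_mem
        · have : ((wS b)⁻¹ : SpecialLinearGroup (Fin 2) K) 0 1 = 1 := by rw [inv_01]; simp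
          show ((wS b)⁻¹ : SpecialLinearGroup (Fin 2) K) 0 1 ∈ A
          rw [this]; exact A.one_mem
        · have : ((wS b)⁻¹ : SpecialLinearGroup (Fin 2) K) 1 0 = -1 := by rw [inv_10]; simp
          show ((wS b)⁻¹ : SpecialLinearGroup (Fin 2) K) 1 0 ∈ A
          rw [this]; exact A.neg_mem A.one_mem
        · have : ((wS b)⁻¹ : SpecialLinearGroup (Fin 2) K) 1 1 = b := by rw [inv_11]; simp
          show ((wS b)⁻¹ : SpecialLinearGroup (Fin 2) K) 1 1 ∈ A
          rw [this]; exact hb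
      have hwH : (wS b)⁻¹ ∈ H := hsl _ hwA
      refine ⟨(wS b)⁻¹ * h, H.mul_mem hwH hh, ?_, ?_⟩
      · intro hall
        apply hhA
        have h2 : h = wS b * ((wS b)⁻¹ * h) := by group
        intro i j
        rw [h2]
        have hwb : ∀ i j, (wS b) i j ∈ A := by
          intro i j
          fin_cases i <;> fin_cases j
          · exact hb
          · show (-1 : K) ∈ A
            exact A.neg_mem A.one_mem
          · exact A.one_mem
          · exact A.zero_mem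
        fin_cases i <;> fin_cases j
        · show (wS b * ((wS b)⁻¹ * h) : SpecialLinearGroup (Fin 2) K) 0 0 ∈ A
          rw [mul_00]
          exact A.add_mem (A.mul_mem (hwb 0 0) (hall 0 0)) (A.mul_mem (hwb 0 1) (hall 1 0))
        · show (wS b * ((wS b)⁻¹ * h) : SpecialLinearGroup (Fin 2) K) 0 1 ∈ A
          rw [mul_01]
          exact A.add_mem (A.mul_mem (hwb 0 0) (hall 0 1)) (A.mul_mem (hwb 0 1) (hall 1 1))
        · show (wS b * ((wS b)⁻¹ * h) : SpecialLinearGroup (Fin 2) K) 1 0 ∈ A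
          rw [mul_10]
          exact A.add_mem (A.mul_mem (hwb 1 0) (hall 0 0)) (A.mul_mem (hwb 1 1) (hall 1 0))
        · show (wS b * ((wS b)⁻¹ * h) : SpecialLinearGroup (Fin 2) K) 1 1 ∈ A
          rw [mul_11]
          exact A.add_mem (A.mul_mem (hwb 1 0) (hall 0 1)) (A.mul_mem (hwb 1 1) (hall 1 1))
      · rw [← fixed_pInf_iff, mul_smul, smul_pInf_of_ne h h10, ← hbdef]
        have := wS_smul_pInf b
        rw [← this, inv_smul_smul]
  have hd := diag_mul_of_tri g hg10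
  obtain ⟨t, htdef⟩ : ∃ t, t = g 0 0 := ⟨_, rfl⟩
  have ht0 : t ≠ 0 := by
    intro h0
    rw [← htdef, h0, zero_mul] at hd
    exact zero_ne_one hd
  have h11 : g 1 1 = t⁻¹ := by
    rw [← htdef] at hd
    field_simp
    rw [mul_comm]; exact hd
  have ht2 : t ^ 2 ∈ A := by
    rw [hmemA]
    have := conj_uS g hg10 1
    rw [mul_one, ← htdef] at this
    rw [← this]
    exact H.mul_mem (H.mul_mem hgH hu1) (H.inv_mem hgH)
  have hp0 : (pt 0 : ℙ K (Fin 2 → K)) ∈ orb H pInf := (hpt 0).mpr A.zero_mem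
  have hbt : g 0 1 * t ∈ A := by
    rw [← hpt]
    have h1 : g • (pt 0 : ℙ K (Fin 2 → K)) = pt (g 0 1 * t) := by
      rw [smul_pt_of_ne]
      · congr 1
        rw [hg10, h11]
        field_simp
        ring
      · rw [hg10, h11]; simp [ht0]
    rw [← h1]
    exact smul_mem_orb hgH hp0
  have htA : t ∉ A := by
    intro htA
    apply hgA
    have htinv : t⁻¹ ∈ A := A.inv_mem htA
    intro i j
    fin_cases i <;> fin_cases j
    · show g 0 0 ∈ A
      rw [← htdef]; exact htA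
    · show g 0 1 ∈ A
      have : g 0 1 = g 0 1 * t * t⁻¹ := by field_simp
      rw [this]; exact A.mul_mem hbt htinv
    · show g 1 0 ∈ A
      rw [hg10]; exact A.zero_mem
    · show g 1 1 ∈ A
      rw [h11]; exact htinv
  refine ⟨t, ht0, ?_, ht2, htA⟩
  have : dS t ht0 = uS (-(g 0 1 * t)) * g := by
    apply sl_ext'
    · rw [mul_00]; simp [hg10, htdef]
    · rw [mul_01]; simp [h11]; field_simp; ring
    · rw [mul_10]; simp [hg10]
    · rw [mul_11]; simp [h11]
  rw [this]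
  exact H.mul_mem ((hmemA _).mp (A.neg_mem hbt)) hgH

/-- normalisation of a subgroup with parabolic elements and no common fixed point -/
theorem exists_normal_form (H : Subgroup (SpecialLinearGroup (Fin 2) K)) [Finite H] (hH : -1 ∈ H)
    {y₀ : ℙ K (Fin 2 → K)} (hy₀ : N2 H y₀ ≠ 0) {g₀ : SpecialLinearGroup (Fin 2) K} (hg₀ : g₀ ∈ H)
    (hmove : g₀ • y₀ ≠ y₀) :
    ∃ d : SpecialLinearGroup (Fin 2) K, uS 1 ∈ cj d H ∧
      ∃ g₂ ∈ cj d H, g₂ • (pInf : ℙ K (Fin 2 → K)) = pt 0 := by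
  classical
  -- a parabolic element fixing `y₀`
  have hne : {g : SpecialLinearGroup (Fin 2) K | g ∈ H ∧ g ≠ 1 ∧ g ≠ -1 ∧ tr g ^ 2 = 4 ∧
      g • y₀ = y₀}.Nonempty := by
    by_contra hemp
    rw [Set.not_nonempty_iff_eq_empty] at hemp
    apply hy₀
    unfold N2
    rw [hemp, Set.ncard_empty]
  obtain ⟨g, hgH, hg1, hg2, hgtr, hgy⟩ := hne
  obtain ⟨d₁, hd₁⟩ := exists_smul_pInf y₀
  set H₁ := cj d₁ H with hH₁
  have hH₁neg : -1 ∈ H₁ := neg_one_mem_cj hH
  set u := d₁⁻¹ * g * d₁ with hu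
  have huH : u ∈ H₁ := by
    rw [hH₁, mem_cj]
    have : d₁ * u * d₁⁻¹ = g := by rw [hu]; group
    rw [this]; exact hgH
  have hu1 : u ≠ 1 := (conj_ne_one_iff _ _).mpr hg1
  have hu2 : u ≠ -1 := (conj_ne_neg_one_iff _ _).mpr hg2
  have hutr : tr u ^ 2 = 4 := by
    have := tr_conj d₁⁻¹ g
    rw [inv_inv] at this
    rw [hu, this]; exact hgtr
  have hufix : u • (pInf : ℙ K (Fin 2 → K)) = pInf := by
    rw [hu, mul_smul, mul_smul, hd₁, hgy, ← hd₁, inv_smul_smul]
  have hu10 : u 1 0 = 0 := (fixed_pInf_iff _).mp hufix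
  have hud := diag_mul_of_tri _ hu10
  have hu00 : u 0 0 = u 1 1 := (tr_sq_tri _ hu10).mp hutr
  have hsq : (u 0 0 - 1) * (u 0 0 + 1) = 0 := by
    rw [← hu00] at hud
    linear_combination hud
  obtain ⟨a₀, ha₀H, ha₀⟩ : ∃ a₀ : K, uS a₀ ∈ H₁ ∧ a₀ ≠ 0 := by
    rcases mul_eq_zero.mp hsq with h | h
    · have h00 : u 0 0 = 1 := sub_eq_zero.mp h
      refine ⟨u 0 1, ?_, ?_⟩
      · rw [← eq_uS_of u hu10 h00]; exact huH
      · intro h0
        apply hu1
        rw [eq_uS_of u hu10 h00, h0, uS_zero]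
    · have h00 : u 0 0 = -1 := eq_neg_of_add_eq_zero_left h
      refine ⟨-u 0 1, ?_, ?_⟩
      · have h3 := eq_neg_uS_of u hu10 h00
        have h4 : uS (-u 0 1) = -u := by
          have := congrArg (fun x : SpecialLinearGroup (Fin 2) K => -x) h3
          simp only [neg_neg] at this
          exact this.symm
        rw [h4]
        have : -u = -1 * u := by simp
        rw [this]
        exact H₁.mul_mem hH₁neg huH
      · intro h0
        apply hu2
        rw [eq_neg_uS_of u hu10 h00, h0, uS_zero]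
  -- an element moving `∞`
  set g₁ := d₁⁻¹ * g₀ * d₁ with hg₁
  have hg₁H : g₁ ∈ H₁ := by
    rw [hH₁, mem_cj]
    have : d₁ * g₁ * d₁⁻¹ = g₀ := by rw [hg₁]; group
    rw [this]; exact hg₀
  have hg₁m : g₁ • (pInf : ℙ K (Fin 2 → K)) ≠ pInf := by
    intro h
    apply hmove
    rw [hg₁, mul_smul, mul_smul, hd₁] at h
    have := congrArg (fun x => d₁ • x) h
    simp only [smul_inv_smul] at this
    rw [this, hd₁]
  obtain ⟨b, hb⟩ : ∃ b, g₁ • (pInf : ℙ K (Fin 2 → K)) = pt b := by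
    rcases eq_pInf_or_pt (g₁ • (pInf : ℙ K (Fin 2 → K))) with h | h
    · exact absurd h hg₁m
    · exact h
  obtain ⟨lam, hlam⟩ := IsAlgClosed.exists_pow_nat_eq a₀ (n := 2) (by norm_num)
  have hlam0 : lam ≠ 0 := by
    intro h0
    rw [h0] at hlam
    apply ha₀
    rw [← hlam]; ring
  set d₂ := uS b * dS lam hlam0 with hd₂
  have hd₂10 : d₂ 1 0 = 0 := by rw [hd₂, mul_10]; simp
  have hd₂00 : d₂ 0 0 = lam := by rw [hd₂, mul_00]; simp
  have hd₂inf : d₂ • (pInf : ℙ K (Fin 2 → K)) = pInf := smul_pInf_of_eq _ hd₂10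
  have hd₂0 : d₂ • (pt 0 : ℙ K (Fin 2 → K)) = pt b := by
    rw [hd₂, mul_smul]
    have : dS lam hlam0 • (pt 0 : ℙ K (Fin 2 → K)) = pt 0 := by
      rw [smul_pt_of_ne]
      · congr 1; simp
      · simp [hlam0]
    rw [this, uS_smul_pt, zero_add]
  refine ⟨d₁ * d₂, ?_, d₂⁻¹ * g₁ * d₂, ?_, ?_⟩
  · rw [← cj_cj, mem_cj, conj_uS d₂ hd₂10, hd₂00, mul_one, hlam]
    exact ha₀H
  · rw [← cj_cj, mem_cj]
    have : d₂ * (d₂⁻¹ * g₁ * d₂) * d₂⁻¹ = g₁ := by group
    rw [this]; exact hg₁H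
  · rw [mul_smul, mul_smul, hd₂inf, hb, ← hd₂0, inv_smul_smul]

end Cfsg.Agent.helper4.Dn
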