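import Mathlib
import Cfsg.Agent.Lib_helper4_DnAL
import Cfsg.Agent.S0805

set_option autoImplicit false
set_option linter.unusedSectionVars false
set_option maxHeartbeats 1600000

/-!
# The subgroups `PSL₂(K₀)` and `PGL₂(K₀)` of `PSL₂(K)` and their preimages in `SL₂(K)`
-/

namespace Cfsg.Agent.helper4.Dn

open Matrix
open scoped LinearAlgebra.Projectivization MatrixGroups
open Cfsg.Agent.helper4.Dk

variable {K : Type*} [Field K] {Kf : Type*} [Field Kf] (ι : Kf →+* K)

theorem mem_range_slmap_iff (g : SpecialLinearGroup (Fin 2) K) :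
    g ∈ (SpecialLinearGroup.map (n := Fin 2) ι).range ↔ ∀ i j, g i j ∈ Set.range ι := by
  constructor
  · rintro ⟨g₀, rfl⟩ i j
    exact ⟨g₀ i j, (slmap_apply ι g₀ i j).symm⟩
  · intro h
    choose m hm using h
    have hmap : ι.mapMatrix (Matrix.of m) = (g : Matrix (Fin 2) (Fin 2) K) := by
      ext i j
      simp [hm]
    have hdet : (Matrix.of m).det = 1 := by
      apply ι.injective
      rw [map_one, RingHom.map_det, hmap]
      exact g.2
    obtain ⟨g₀, hg₀⟩ : ∃ g₀ : SpecialLinearGroup (Fin 2) Kf,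
        (g₀ : Matrix (Fin 2) (Fin 2) Kf) = Matrix.of m := ⟨⟨Matrix.of m, hdet⟩, rfl⟩
    have hent : ∀ i j, g₀ i j = m i j := by
      intro i j
      have := congrFun (congrFun hg₀ i) j
      simpa using this
    refine ⟨g₀, ?_⟩
    apply sl_ext'
    all_goals
      rw [slmap_apply, hent]
      exact hm _ _

theorem card_range_slmap [Fintype Kf] :
    Nat.card (SpecialLinearGroup.map (n := Fin 2) ι).range =
      Fintype.card Kf * (Fintype.card Kf ^ 2 - 1) := by
  rw [← Cfsg.Agent.helper12.card_SL2]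
  exact (Nat.card_congr (MonoidHom.ofInjective (slmap_injective ι)).toEquiv).symm

/-- the copy of `PSL₂(K₀)` -/
noncomputable def pslD : Subgroup (Matrix.ProjectiveSpecialLinearGroup (Fin 2) K) :=
  ((piF K).comp (SpecialLinearGroup.map (n := Fin 2) ι)).range

theorem pslD_equiv : Nonempty (pslD ι ≃* Matrix.ProjectiveSpecialLinearGroup (Fin 2) Kf) := by
  have hker : ((piF K).comp (SpecialLinearGroup.map (n := Fin 2) ι)).ker =
      Subgroup.center (SpecialLinearGroup (Fin 2) Kf) := Cfsg.Agent.S0805.ker_sl_map ι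
  exact ⟨((QuotientGroup.quotientMulEquivOfEq hker.symm).trans
    (QuotientGroup.quotientKerEquivRange _)).symm⟩

theorem comap_pslD :
    (pslD ι).comap (piF K) = (SpecialLinearGroup.map (n := Fin 2) ι).range := by
  ext g
  rw [Subgroup.mem_comap]
  constructor
  · rintro ⟨g₀, hg₀⟩
    rw [MonoidHom.comp_apply, piF_eq_iff] at hg₀
    rcases hg₀ with h | h
    · exact ⟨g₀, h⟩
    · refine ⟨-1 * g₀, ?_⟩
      rw [map_mul, slmap_neg_one, h]
      simp
  · rintro ⟨g₀, rfl⟩
    exact ⟨g₀, rfl⟩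

/-- the homomorphism `GL₂(K₀) → PGL₂(K)` -/
noncomputable def pglJ : GL (Fin 2) Kf →* ProjGenLinGroup (Fin 2) K :=
  (ProjGenLinGroup.mk : GL (Fin 2) K →* ProjGenLinGroup (Fin 2) K).comp (GeneralLinearGroup.map ι)

/-- the copy of `PGL₂(K₀)` -/
noncomputable def pglD : Subgroup (Matrix.ProjectiveSpecialLinearGroup (Fin 2) K) :=
  (pglJ ι).range.comap ProjectiveSpecialLinearGroup.toPGL

theorem pglD_equiv (hsq : ∀ d : Kf, d ≠ 0 → IsSquare (ι d)) :
    Nonempty (pglD ι ≃* ProjGenLinGroup (Fin 2) Kf) := by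
  have hker : (pglJ ι).ker = Subgroup.center (GL (Fin 2) Kf) := Cfsg.Agent.S0805.ker_gl_map ι
  have hle : (pglJ ι).range ≤ (ProjectiveSpecialLinearGroup.toPGL :
      ProjectiveSpecialLinearGroup (Fin 2) K →* ProjGenLinGroup (Fin 2) K).range :=
    Cfsg.Agent.S0805.range_le ι hsq
  have e1 : pglD ι ≃* (pglJ ι).range := by
    apply MulEquiv.ofBijective ((ProjectiveSpecialLinearGroup.toPGL :
      ProjectiveSpecialLinearGroup (Fin 2) K →* ProjGenLinGroup (Fin 2) K).subgroupComap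
        (pglJ ι).range)
    constructor
    · intro a b hab
      apply Subtype.ext
      apply ProjectiveSpecialLinearGroup.toPGL_injective
      exact congrArg Subtype.val hab
    · rintro ⟨y, hy⟩
      obtain ⟨x, rfl⟩ := hle hy
      exact ⟨⟨x, hy⟩, rfl⟩
  have e2 : (GL (Fin 2) Kf ⧸ Subgroup.center (GL (Fin 2) Kf)) ≃* (pglJ ι).range :=
    (QuotientGroup.quotientMulEquivOfEq hker.symm).trans
      (QuotientGroup.quotientKerEquivRange (pglJ ι))
  exact ⟨e1.trans e2.symm⟩

theorem range_slmap_le_comap_pglD :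
    (SpecialLinearGroup.map (n := Fin 2) ι).range ≤ (pglD ι).comap (piF K) := by
  rintro _ ⟨g₀, rfl⟩
  rw [Subgroup.mem_comap]
  show ProjectiveSpecialLinearGroup.toPGL (piF K (SpecialLinearGroup.map ι g₀)) ∈ (pglJ ι).range
  refine ⟨SpecialLinearGroup.toGL g₀, ?_⟩
  show ProjGenLinGroup.mk (GeneralLinearGroup.map ι (SpecialLinearGroup.toGL g₀)) =
    ProjGenLinGroup.mk (SpecialLinearGroup.toGL (SpecialLinearGroup.map ι g₀))
  congr 1
  apply Units.ext
  ext i j
  rw [GeneralLinearGroup.map_apply]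
  rfl

theorem dS_mem_comap_pglD {t : K} (ht : t ≠ 0) (hτ : t ^ 2 ∈ Set.range ι) :
    dS t ht ∈ (pglD ι).comap (piF K) := by
  obtain ⟨τ, hτ⟩ := hτ
  have hτ0 : τ ≠ 0 := by
    intro h0
    rw [h0, map_zero] at hτ
    exact ht (pow_eq_zero_iff (two_ne_zero) |>.mp hτ.symm)
  rw [Subgroup.mem_comap]
  show ProjectiveSpecialLinearGroup.toPGL (piF K (dS t ht)) ∈ (pglJ ι).range
  have hdet : (!![τ, 0; 0, 1] : Matrix (Fin 2) (Fin 2) Kf).det ≠ 0 := by
    rw [det_fin_two_of]; simpa using hτ0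
  refine ⟨GeneralLinearGroup.mkOfDetNeZero !![τ, 0; 0, 1] hdet, ?_⟩
  show ProjGenLinGroup.mk (GeneralLinearGroup.map ι (GeneralLinearGroup.mkOfDetNeZero _ hdet)) =
    ProjGenLinGroup.mk (SpecialLinearGroup.toGL (dS t ht))
  symm
  rw [ProjGenLinGroup.mk_eq_mk_iff]
  refine ⟨Units.mk0 t ht, ?_⟩
  apply Units.ext
  ext i j
  rw [Units.val_mul, GeneralLinearGroup.coe_scalar, Units.val_mk0, GeneralLinearGroup.map_apply]
  change (((dS t ht : SpecialLinearGroup (Fin 2) K) : Matrix (Fin 2) (Fin 2) K) *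
    Matrix.scalar (Fin 2) t) i j = ι ((!![τ, 0; 0, 1] : Matrix (Fin 2) (Fin 2) Kf) i j)
  rw [Matrix.scalar_apply, Matrix.mul_diagonal]
  fin_cases i <;> fin_cases j
  · show (dS t ht) 0 0 * t = ι τ
    rw [dS_00, hτ]; ring
  · show (dS t ht) 0 1 * t = ι 0
    rw [dS_01, map_zero, zero_mul]
  · show (dS t ht) 1 0 * t = ι 0
    rw [dS_10, map_zero, zero_mul]
  · show (dS t ht) 1 1 * t = ι 1
    rw [dS_11, map_one]; field_simp

theorem card_comap_pglD [Fintype Kf] (hsq : ∀ d : Kf, d ≠ 0 → IsSquare (ι d)) :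
    Nat.card ((pglD ι).comap (piF K)) =
      zc K * (Fintype.card Kf * (Fintype.card Kf ^ 2 - 1)) := by
  obtain ⟨e⟩ := pglD_equiv ι hsq
  rw [card_comap_piF_gen, Nat.card_congr e.toEquiv, Cfsg.Agent.helper2.card_PGL_eq_card_SL,
    Cfsg.Agent.helper12.card_SL2]

/-- an overgroup of index two of the subfield subgroup containing a suitable diagonal element -/
theorem eq_comap_pglD [Fintype Kf] (hsq : ∀ d : Kf, d ≠ 0 → IsSquare (ι d))
    (H : Subgroup (SpecialLinearGroup (Fin 2) K)) [Finite H]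
    (hsl : (SpecialLinearGroup.map (n := Fin 2) ι).range ≤ H) {t : K} (ht : t ≠ 0)
    (htH : dS t ht ∈ H) (hτ : t ^ 2 ∈ Set.range ι) (htA : t ∉ Set.range ι) (hz : zc K = 2)
    (hcard : Nat.card H = 2 * (Fintype.card Kf * (Fintype.card Kf ^ 2 - 1))) :
    H = (pglD ι).comap (piF K) := by
  set SA := (SpecialLinearGroup.map (n := Fin 2) ι).range with hSA
  set M := SA ⊔ Subgroup.zpowers (dS t ht) with hM
  have hcardSA : Nat.card SA = Fintype.card Kf * (Fintype.card Kf ^ 2 - 1) := card_range_slmap ι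
  have hq : 2 ≤ Fintype.card Kf := Fintype.one_lt_card
  have hpos : 0 < Fintype.card Kf * (Fintype.card Kf ^ 2 - 1) := by
    have : 1 < Fintype.card Kf ^ 2 := by nlinarith
    have : 0 < Fintype.card Kf ^ 2 - 1 := by omega
    positivity
  have hMH : M ≤ H := sup_le hsl (by rw [Subgroup.zpowers_le]; exact htH)
  have hD : Nat.card ((pglD ι).comap (piF K)) =
      2 * (Fintype.card Kf * (Fintype.card Kf ^ 2 - 1)) := by
    rw [card_comap_pglD ι hsq, hz]
  haveI : Finite ((pglD ι).comap (piF K)) := by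
    apply Nat.finite_of_card_ne_zero
    rw [hD]; omega
  have hMD : M ≤ (pglD ι).comap (piF K) :=
    sup_le (range_slmap_le_comap_pglD ι)
      (by rw [Subgroup.zpowers_le]; exact dS_mem_comap_pglD ι ht hτ)
  haveI : Finite M := Finite.of_injective (fun x : M => (⟨x.1, hMH x.2⟩ : H))
    (fun a b hab => Subtype.ext (congrArg (fun y : H => (y : SpecialLinearGroup (Fin 2) K)) hab))
  have hSAM : SA ≤ M := le_sup_left
  have hne : SA ≠ M := by
    intro h
    have h1 : dS t ht ∈ SA := by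
      rw [h]
      exact (le_sup_right : Subgroup.zpowers (dS t ht) ≤ M) (Subgroup.mem_zpowers _)
    rw [hSA, mem_range_slmap_iff] at h1
    apply htA
    have := h1 0 0
    rwa [dS_00] at this
  have hMcard : 2 * (Fintype.card Kf * (Fintype.card Kf ^ 2 - 1)) ≤ Nat.card M := by
    obtain ⟨k, hk⟩ := Subgroup.card_dvd_of_le hSAM
    rw [hcardSA] at hk
    have hMpos : 0 < Nat.card M := Nat.card_pos
    rcases Nat.lt_or_ge k 2 with hk2 | hk2
    · exfalso
      interval_cases k
      · omega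
      · apply hne
        apply Subgroup.eq_of_le_of_card_ge hSAM
        rw [hk, hcardSA]; omega
    · rw [hk]
      calc 2 * (Fintype.card Kf * (Fintype.card Kf ^ 2 - 1))
          = (Fintype.card Kf * (Fintype.card Kf ^ 2 - 1)) * 2 := by ring
        _ ≤ (Fintype.card Kf * (Fintype.card Kf ^ 2 - 1)) * k := Nat.mul_le_mul_left _ hk2
  have h1 : M = H := Subgroup.eq_of_le_of_card_ge hMH (by rw [hcard]; exact hMcard)
  have h2 : M = (pglD ι).comap (piF K) := Subgroup.eq_of_le_of_card_ge hMD (by rw [hD]; exact hMcard)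
  rw [← h1, h2]

end Cfsg.Agent.helper4.Dn
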