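import Mathlib
import Cfsg.Agent.Lib_helper4_DnAM

set_option autoImplicit false
set_option linter.unusedSectionVars false
set_option maxHeartbeats 3200000

/-!
# Isomorphism types of the finite subgroups of `PSL₂(K)` with parabolic elements
-/

namespace Cfsg.Agent.helper4.Dn

open Matrix
open scoped LinearAlgebra.Projectivization MatrixGroups
open Cfsg.Agent.helper4.Dk

variable {K : Type*} [Field K] [IsAlgClosed K]

theorem par_iso {p : ℕ} [Fact p.Prime] [CharP K p]
    (G : Subgroup (Matrix.ProjectiveSpecialLinearGroup (Fin 2) K)) [Finite G]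
    (hu1 : uS 1 ∈ G.comap (piF K)) {g₂ : SpecialLinearGroup (Fin 2) K}
    (hg₂ : g₂ ∈ G.comap (piF K)) (hg₂0 : g₂ • (pInf : ℙ K (Fin 2 → K)) = pt 0) :
    (∃ (y₁ : ℙ K (Fin 2 → K)) (s : ℕ), 2 ≤ s ∧ N2 (G.comap (piF K)) y₁ = 0 ∧
        Nat.card (stabIn (G.comap (piF K)) y₁) = zc K * s ∧
        Nonempty (G ≃* DihedralGroup s)) ∨
    Nonempty (G ≃* alternatingGroup (Fin 5)) ∨
    (∃ (Kf : Type) (_ : Field Kf) (_ : Fintype Kf) (a : ℕ), 1 ≤ a ∧ Fintype.card Kf = p ^ a ∧
        Fintype.card Kf * (Fintype.card Kf ^ 2 - 1) ∣ Nat.card (G.comap (piF K)) ∧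
        (Nonempty (G ≃* Matrix.ProjectiveSpecialLinearGroup (Fin 2) Kf) ∨
          Nonempty (G ≃* Matrix.ProjGenLinGroup (Fin 2) Kf))) := by
  classical
  haveI := finite_comap_piF G
  obtain ⟨H, hHdef⟩ : ∃ H, H = G.comap (piF K) := ⟨_, rfl⟩
  rw [← hHdef] at hu1 hg₂ ⊢
  haveI : Finite H := by rw [hHdef]; infer_instance
  have hH : -1 ∈ H := by rw [hHdef]; exact neg_one_mem_comap G
  have hmove : ∃ g ∈ H, g • (pInf : ℙ K (Fin 2 → K)) ≠ pInf :=
    ⟨g₂, hg₂, by rw [hg₂0]; exact pt_ne_pInf 0⟩
  obtain ⟨y₁, s, c, k, hy₁O, hs2, hc1, hk1, hstab, hYeq, hN2, hGB, hcq, hn, heq, hcard, hcases⟩ :=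
    structure_z H hH hu1 one_ne_zero hmove
  obtain ⟨q₁, hq₁⟩ : ∃ q₁, q₁ = Nat.card (AA H) := ⟨_, rfl⟩
  obtain ⟨n, hndef⟩ : ∃ n, n = (orb H pInf).ncard := ⟨_, rfl⟩
  rw [← hq₁] at hGB hcq hn heq hcard hcases
  rw [← hndef] at hn heq hcard
  have hz1 := zc_pos K
  have hfield : n = 1 + q₁ →
      (∃ (Kf : Type) (_ : Field Kf) (_ : Fintype Kf) (a : ℕ), 1 ≤ a ∧ Fintype.card Kf = p ^ a ∧
        Fintype.card Kf * (Fintype.card Kf ^ 2 - 1) ∣ Nat.card H ∧
        (Nonempty (G ≃* Matrix.ProjectiveSpecialLinearGroup (Fin 2) Kf) ∨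
          Nonempty (G ≃* Matrix.ProjGenLinGroup (Fin 2) Kf))) := by
    intro hn1
    obtain ⟨A, hAset, hsl, hpt⟩ := field_case H hH hu1 hg₂ hg₂0 (by rw [← hndef, ← hq₁, hn1])
    haveI : Finite ((A : Set K)) := by rw [hAset]; exact (inferInstance : Finite (AA H))
    haveI : Finite A := this
    have hAcard : Nat.card A = q₁ := by
      have h1 : Nat.card A = (A : Set K).ncard := rfl
      have h2 : Nat.card (AA H) = (AA H : Set K).ncard := rfl
      rw [h1, hAset, ← h2, hq₁]
    letI : Fintype A := Fintype.ofFinite A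
    haveI : CharP A p := RingHom.charP A.subtype Subtype.val_injective p
    obtain ⟨a, -, ha⟩ := FiniteField.card A p
    letI : Fintype (GaloisField p a) := Fintype.ofFinite _
    have hKfcard : Fintype.card (GaloisField p a) = p ^ (a : ℕ) := by
      rw [← Nat.card_eq_fintype_card]
      exact GaloisField.card p a a.ne_zero
    have e : GaloisField p a ≃+* A := FiniteField.ringEquivOfCardEq (by rw [hKfcard, ha])
    obtain ⟨ι, hι⟩ : ∃ ι : GaloisField p a →+* K, ι = A.subtype.comp (e : GaloisField p a →+* A) :=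
      ⟨_, rfl⟩
    have hrange : ∀ x : K, x ∈ Set.range ι ↔ x ∈ A := by
      intro x
      constructor
      · rintro ⟨y, rfl⟩
        rw [hι]
        exact (e y).2
      · intro hx
        refine ⟨e.symm ⟨x, hx⟩, ?_⟩
        rw [hι]
        simp
    have hq₁card : q₁ = Fintype.card (GaloisField p a) := by
      rw [← hAcard, Nat.card_eq_fintype_card, ha, hKfcard]
    have hSA : (SpecialLinearGroup.map (n := Fin 2) ι).range ≤ H := by
      intro g hg
      rw [mem_range_slmap_iff] at hg
      exact hsl g (fun i j => (hrange _).mp (hg i j))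
    have hSAcard := card_range_slmap ι
    refine ⟨GaloisField p a, inferInstance, inferInstance, a, a.pos, hKfcard, ?_, ?_⟩
    · rw [← hSAcard]
      exact Subgroup.card_dvd_of_le hSA
    by_cases hEq : H = (SpecialLinearGroup.map (n := Fin 2) ι).range
    · left
      have hG : G = pslD ι := by
        apply Subgroup.comap_injective (piF_surj' (L := K))
        rw [comap_pslD, ← hHdef]
        exact hEq
      obtain ⟨e'⟩ := pslD_equiv ι
      exact ⟨(MulEquiv.subgroupCongr hG).trans e'⟩
    · right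
      obtain ⟨h, hh, hhS⟩ := SetLike.exists_of_lt (lt_of_le_of_ne hSA (Ne.symm hEq))
      have hhA : ¬ ∀ i j, h i j ∈ A := by
        intro hall
        apply hhS
        rw [mem_range_slmap_iff]
        exact fun i j => (hrange _).mpr (hall i j)
      obtain ⟨t, ht0, htH, ht2, htA⟩ := exists_diag_of_not_mem H hu1 A hAset hsl hpt hh hhA
      -- cardinalities
      have hq2 : 2 ≤ q₁ := by
        rw [hq₁card]; exact Fintype.one_lt_card
      obtain ⟨m, hm⟩ := Subgroup.card_dvd_of_le hSA
      rw [hSAcard, ← hq₁card] at hm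
      have hm2 : 2 ≤ m := by
        by_contra hlt
        push Not at hlt
        have hpos : 0 < Nat.card H := Nat.card_pos
        interval_cases m
        · omega
        · apply hEq
          symm
          apply Subgroup.eq_of_le_of_card_ge hSA
          rw [hSAcard, ← hq₁card, hm]; omega
      have hS : q₁ * (q₁ ^ 2 - 1) = (1 + q₁) * q₁ * (q₁ - 1) := by
        rw [← x_cube_id q₁ (by omega)]; ring
      have hzc : zc K * c = m * (q₁ - 1) := by
        have h1 : (1 + q₁) * q₁ * (zc K * c) = (1 + q₁) * q₁ * (m * (q₁ - 1)) := by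
          calc (1 + q₁) * q₁ * (zc K * c) = zc K * (n * q₁ * c) := by rw [hn1]; ring
            _ = Nat.card H := hcard.symm
            _ = q₁ * (q₁ ^ 2 - 1) * m := hm
            _ = (1 + q₁) * q₁ * (m * (q₁ - 1)) := by rw [hS]; ring
        exact Nat.eq_of_mul_eq_mul_left (by positivity) h1
      have hz2 : zc K = 2 ∧ m = 2 := by
        have hmq : 2 * (q₁ - 1) ≤ m * (q₁ - 1) := Nat.mul_le_mul_right _ hm2
        rcases zc_cases K with ⟨hz, _⟩ | ⟨hz, _⟩
        · refine ⟨hz, ?_⟩
          rw [hz] at hzc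
          by_contra hne
          have hm3 : 3 ≤ m := by omega
          have : 3 * (q₁ - 1) ≤ m * (q₁ - 1) := Nat.mul_le_mul_right _ hm3
          omega
        · exfalso
          rw [hz, one_mul] at hzc
          omega
      have hcard' : Nat.card H = 2 * (Fintype.card (GaloisField p a) *
          (Fintype.card (GaloisField p a) ^ 2 - 1)) := by
        rw [hm, hz2.2, ← hq₁card]; ring
      have hsq : ∀ d : GaloisField p a, d ≠ 0 → IsSquare (ι d) := by
        intro d _
        obtain ⟨z, hz⟩ := IsAlgClosed.exists_eq_mul_self (ι d)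
        exact ⟨z, hz⟩
      have hHD := eq_comap_pglD ι hsq H hSA ht0 htH ((hrange _).mpr ht2)
        (fun h => htA ((hrange _).mp h)) hz2.1 hcard'
      have hG : G = pglD ι := by
        apply Subgroup.comap_injective (piF_surj' (L := K))
        rw [← hHdef]
        exact hHD
      obtain ⟨e'⟩ := pglD_equiv ι hsq
      exact ⟨(MulEquiv.subgroupCongr hG).trans e'⟩
  rcases hcases with hq2 | hk | ⟨hq3, hk3, hc2, hs5⟩
  · left
    have hc : c = 1 := by omega
    have hns : n = s := by
      rw [hq2, hc] at heq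
      have : n * 2 = s * 2 := by
        calc n * 2 = n * 2 * 1 := by ring
          _ = s * (2 + n * (2 - 2)) := heq
          _ = s * 2 := by norm_num
      omega
    refine ⟨y₁, s, hs2, hN2, hstab, ?_⟩
    subst hHdef
    apply dihedral_of_stab G y₁ hN2 hstab
    rw [hcard, hq2, hc, hns]; ring
  · right; right
    apply hfield
    rw [hn, hk, one_mul]
  · right; left
    subst hHdef
    apply alt5_of_stab G y₁ (by rw [hstab, hs5])
    rw [hcard, hn, hq3, hk3, hc2]

end Cfsg.Agent.helper4.Dn
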