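import Mathlib
import Cfsg.Agent.Lib_helper4_DnAN

set_option autoImplicit false
set_option linter.unusedSectionVars false
set_option maxHeartbeats 1600000

/-!
# The Borel case and the numerical side conditions of Dickson's list
-/

namespace Cfsg.Agent.helper4.Dn

open Matrix
open scoped LinearAlgebra.Projectivization MatrixGroups
open Cfsg.Agent.helper4.Dk

variable {F : Type*} [Field F] [Fintype F]

theorem card_UU : Nat.card (UU F) = Fintype.card F := by
  rw [← Nat.card_eq_fintype_card]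
  symm
  apply Nat.card_congr
  refine Equiv.ofBijective (fun a => (⟨uS a, a, rfl⟩ : UU F)) ⟨?_, ?_⟩
  · intro a b hab
    exact uS_injective (congrArg Subtype.val hab)
  · rintro ⟨_, a, rfl⟩
    exact ⟨a, rfl⟩

theorem gcd_eq_zc (K : Type*) [Field K] [Algebra F K] :
    Nat.gcd 2 (Fintype.card F - 1) = zc K := by
  have hq2 : 2 ≤ Fintype.card F := Fintype.one_lt_card
  rcases zc_cases K with ⟨hz, _⟩ | ⟨hz, _⟩
  · rw [hz]
    have hq : ¬ 2 ∣ Fintype.card F := zc_eq_two_imp (F := F) (K := K) hz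
    have : 2 ∣ Fintype.card F - 1 := by omega
    exact Nat.gcd_eq_left this
  · rw [hz]
    have hq : 2 ∣ Fintype.card F := zc_eq_one_imp (F := F) (K := K) hz
    obtain ⟨m, hm⟩ := hq
    have : Fintype.card F - 1 = 2 * (m - 1) + 1 := by omega
    rw [this]
    simp

/-- the Borel case -/
theorem borel_case {p : ℕ} [Fact p.Prime] [CharP F p]
    (H : Subgroup (Matrix.ProjectiveSpecialLinearGroup (Fin 2) F))
    (s : SpecialLinearGroup (Fin 2) F)
    (htri : ∀ g ∈ cj s (H.comap (piF F)), g 1 0 = 0) :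
    ∃ (P : Sylow p (Matrix.ProjectiveSpecialLinearGroup (Fin 2) F))
      (K' : Subgroup (Matrix.ProjectiveSpecialLinearGroup (Fin 2) F)),
      K' ≤ Subgroup.normalizer ((P : Subgroup (Matrix.ProjectiveSpecialLinearGroup (Fin 2) F)) :
        Set (Matrix.ProjectiveSpecialLinearGroup (Fin 2) F)) ∧ Nonempty (H ≃* K') := by
  classical
  obtain ⟨Q₀, hQ₀⟩ : ∃ Q₀, Q₀ = (UU F).map (MulAut.conj s).toMonoidHom := ⟨_, rfl⟩
  obtain ⟨Q, hQ⟩ : ∃ Q, Q = Q₀.map (piF F) := ⟨_, rfl⟩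
  have hQ₀p : IsPGroup p Q₀ := by rw [hQ₀]; exact (isPGroup_UU (K := F) (p := p)).map _
  have hQp : IsPGroup p Q := by rw [hQ]; exact hQ₀p.map _
  -- the index
  obtain ⟨n, -, hn⟩ := FiniteField.card F p
  have hq2 : 2 ≤ Fintype.card F := Fintype.one_lt_card
  have hcardQ₀ : Nat.card Q₀ = Fintype.card F := by
    rw [hQ₀, Subgroup.card_map_of_injective (MulAut.conj s).injective, card_UU]
  have hidxQ₀ : Q₀.index = Fintype.card F ^ 2 - 1 := by
    have h1 := Q₀.card_mul_index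
    rw [hcardQ₀, Cfsg.Agent.helper12.card_SL2] at h1
    exact Nat.eq_of_mul_eq_mul_left (by omega) h1
  have hidx : ¬ p ∣ Q.index := by
    intro hdvd
    have h1 : (Q.comap (piF F)).index = Q.index :=
      Subgroup.index_comap_of_surjective Q piF_surjective
    have h2 : Q₀ ≤ Q.comap (piF F) := by
      intro g hg
      rw [Subgroup.mem_comap, hQ]
      exact Subgroup.mem_map_of_mem _ hg
    have h3 := Subgroup.index_dvd_of_le h2
    rw [h1, hidxQ₀] at h3
    have h4 : p ∣ Fintype.card F ^ 2 - 1 := hdvd.trans h3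
    have h5 : p ∣ Fintype.card F ^ 2 := by
      rw [hn]
      exact dvd_pow (dvd_pow_self p n.ne_zero) (by norm_num)
    have h6 : 1 ≤ Fintype.card F ^ 2 := Nat.one_le_pow _ _ (by omega)
    have h7 : p ∣ 1 := by
      have := (Nat.dvd_sub h5 h4)
      rwa [Nat.sub_sub_self h6] at this
    exact (Fact.out : p.Prime).one_lt.ne' (Nat.dvd_one.mp h7)
  refine ⟨hQp.toSylow hidx, H, ?_, ⟨MulEquiv.refl _⟩⟩
  rw [IsPGroup.toSylow_coe]
  -- conjugation by elements of `H` preserves `Q`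
  have key : ∀ h ∈ H, ∀ x ∈ Q, h * x * h⁻¹ ∈ Q := by
    intro h hh x hx
    obtain ⟨g, rfl⟩ := piF_surjective h
    rw [hQ] at hx
    obtain ⟨x₀, hx₀, rfl⟩ := hx
    rw [hQ₀] at hx₀
    obtain ⟨_, ⟨a, rfl⟩, rfl⟩ := hx₀
    set b := s⁻¹ * g * s with hb
    have hbm : b ∈ cj s (H.comap (piF F)) := by
      rw [mem_cj]
      have : s * b * s⁻¹ = g := by rw [hb]; group
      rw [this, Subgroup.mem_comap]
      exact hh
    have hb10 := htri b hbm
    have h1 : g * ((MulAut.conj s).toMonoidHom (uS a)) * g⁻¹ =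
        (MulAut.conj s).toMonoidHom (uS (b 0 0 ^ 2 * a)) := by
      rw [← conj_uS b hb10 a]
      simp only [MulEquiv.coe_toMonoidHom, MulAut.conj_apply, hb]
      group
    rw [← map_inv, ← map_mul, ← map_mul, h1, hQ]
    apply Subgroup.mem_map_of_mem
    rw [hQ₀]
    exact Subgroup.mem_map_of_mem _ ⟨_, rfl⟩
  intro h hh
  rw [Subgroup.mem_normalizer_iff]
  intro x
  constructor
  · exact key h hh x
  · intro hx
    have := key h⁻¹ (H.inv_mem hh) _ hx
    have h2 : h⁻¹ * (h * x * h⁻¹) * h⁻¹⁻¹ = x := by group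
    rwa [h2] at this

/-- the field numerics: `|K₀|^m = q` -/
theorem field_numerics {p a f q₁ q N : ℕ} (hp : p.Prime) (ha : 1 ≤ a) (hf : 1 ≤ f)
    (hq₁ : q₁ = p ^ a) (hq : q = p ^ f) (h1 : q₁ * (q₁ ^ 2 - 1) ∣ N)
    (h2 : N ∣ q * (q ^ 2 - 1)) : ∃ m, q₁ ^ m = q := by
  have hp2 := hp.two_le
  have hd : q₁ ^ 2 - 1 ∣ q * (q ^ 2 - 1) := (dvd_mul_left _ _).trans (h1.trans h2)
  have hq₁1 : 1 ≤ q₁ ^ 2 := by rw [hq₁]; exact Nat.one_le_pow _ _ (by positivity)
  have hcop : Nat.Coprime (q₁ ^ 2 - 1) q := by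
    rw [hq]
    apply Nat.Coprime.pow_right
    rw [Nat.coprime_comm, Nat.Prime.coprime_iff_not_dvd hp]
    intro hdvd
    have h5 : p ∣ q₁ ^ 2 := by
      rw [hq₁]
      exact dvd_pow (dvd_pow_self p (by omega)) (by norm_num)
    have h7 : p ∣ 1 := by
      have := (Nat.dvd_sub h5 hdvd)
      rwa [Nat.sub_sub_self hq₁1] at this
    exact hp.one_lt.ne' (Nat.dvd_one.mp h7)
  have hd2 : q₁ ^ 2 - 1 ∣ q ^ 2 - 1 := hcop.dvd_of_dvd_mul_left hd
  rw [hq₁, hq, ← pow_mul, ← pow_mul] at hd2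
  have h3 : a * 2 ∣ f * 2 :=
    dvd_of_pow_sub_one_dvd_two hp2 (by omega) (by omega) (hd2.trans (dvd_mul_left _ 2))
  obtain ⟨m, hm⟩ := h3
  refine ⟨m, ?_⟩
  rw [hq₁, hq, ← pow_mul]
  congr 1
  nlinarith

end Cfsg.Agent.helper4.Dn
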