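import Mathlib
import Cfsg.Agent.Lib_helper4_DnAO

set_option autoImplicit false
set_option linter.unusedSectionVars false
set_option maxHeartbeats 1600000

/-!
# Quaternion coordinates on `M₂(K)` and the normal form of a quaternion subgroup of `SL₂(K)`
-/

namespace Cfsg.Agent.helper4.Mx

open Matrix
open scoped LinearAlgebra.Projectivization MatrixGroups
open Cfsg.Agent.helper4.Dk Cfsg.Agent.helper4.Dn

variable {K : Type*} [Field K]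

/-- quaternion matrices -/
def qm (i x₀ x₁ x₂ x₃ : K) : Matrix (Fin 2) (Fin 2) K :=
  !![x₀ + i * x₁, x₂ + i * x₃; -x₂ + i * x₃, x₀ - i * x₁]

theorem qm_mul {i : K} (hi : i ^ 2 = -1) (x₀ x₁ x₂ x₃ y₀ y₁ y₂ y₃ : K) :
    qm i x₀ x₁ x₂ x₃ * qm i y₀ y₁ y₂ y₃ =
      qm i (x₀ * y₀ - x₁ * y₁ - x₂ * y₂ - x₃ * y₃) (x₀ * y₁ + x₁ * y₀ + x₂ * y₃ - x₃ * y₂)
        (x₀ * y₂ - x₁ * y₃ + x₂ * y₀ + x₃ * y₁) (x₀ * y₃ + x₁ * y₂ - x₂ * y₁ + x₃ * y₀) := by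
  ext r s
  fin_cases r <;> fin_cases s
  · simp [qm, Matrix.mul_apply, Fin.sum_univ_two]
    linear_combination (x₁ * y₁ + x₃ * y₃) * hi
  · simp [qm, Matrix.mul_apply, Fin.sum_univ_two]
    linear_combination (x₁ * y₃ - x₃ * y₁) * hi
  · simp [qm, Matrix.mul_apply, Fin.sum_univ_two]
    linear_combination (x₃ * y₁ - x₁ * y₃) * hi
  · simp [qm, Matrix.mul_apply, Fin.sum_univ_two]
    linear_combination (x₁ * y₁ + x₃ * y₃) * hi

theorem qm_det {i : K} (hi : i ^ 2 = -1) (x₀ x₁ x₂ x₃ : K) :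
    (qm i x₀ x₁ x₂ x₃).det = x₀ ^ 2 + x₁ ^ 2 + x₂ ^ 2 + x₃ ^ 2 := by
  rw [det_fin_two]
  simp [qm]
  linear_combination (-(x₁ ^ 2) - x₃ ^ 2) * hi

theorem qm_one (i : K) : qm i 1 0 0 0 = 1 := by
  ext r s
  fin_cases r <;> fin_cases s <;> simp [qm]

theorem qm_smul (i l x₀ x₁ x₂ x₃ : K) :
    l • qm i x₀ x₁ x₂ x₃ = qm i (l * x₀) (l * x₁) (l * x₂) (l * x₃) := by
  ext r s
  fin_cases r <;> fin_cases s <;> simp [qm] <;> ring

theorem qm_adjugate (i x₀ x₁ x₂ x₃ : K) :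
    (qm i x₀ x₁ x₂ x₃).adjugate = qm i x₀ (-x₁) (-x₂) (-x₃) := by
  rw [adjugate_fin_two]
  ext r s
  fin_cases r <;> fin_cases s <;> simp [qm] <;> ring

theorem qm_injective {i : K} (hi : i ^ 2 = -1) (h2 : (2 : K) ≠ 0) {x₀ x₁ x₂ x₃ y₀ y₁ y₂ y₃ : K}
    (h : qm i x₀ x₁ x₂ x₃ = qm i y₀ y₁ y₂ y₃) : x₀ = y₀ ∧ x₁ = y₁ ∧ x₂ = y₂ ∧ x₃ = y₃ := by
  have hi0 : i ≠ 0 := by
    rintro rfl
    norm_num at hi
  have e00 := congrFun (congrFun h 0) 0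
  have e01 := congrFun (congrFun h 0) 1
  have e10 := congrFun (congrFun h 1) 0
  have e11 := congrFun (congrFun h 1) 1
  simp [qm] at e00 e01 e10 e11
  have h0 : 2 * (x₀ - y₀) = 0 := by linear_combination e00 + e11
  have h1 : 2 * i * (x₁ - y₁) = 0 := by linear_combination e00 - e11
  have h2' : 2 * (x₂ - y₂) = 0 := by linear_combination e01 - e10
  have h3 : 2 * i * (x₃ - y₃) = 0 := by linear_combination e01 + e10
  have hi2 : 2 * i ≠ 0 := mul_ne_zero h2 hi0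
  refine ⟨?_, ?_, ?_, ?_⟩
  · exact sub_eq_zero.mp ((mul_eq_zero.mp h0).resolve_left h2)
  · exact sub_eq_zero.mp ((mul_eq_zero.mp h1).resolve_left hi2)
  · exact sub_eq_zero.mp ((mul_eq_zero.mp h2').resolve_left h2)
  · exact sub_eq_zero.mp ((mul_eq_zero.mp h3).resolve_left hi2)

/-- every matrix has quaternion coordinates -/
theorem eq_qm {i : K} (hi : i ^ 2 = -1) (h2 : (2 : K) ≠ 0) (m : Matrix (Fin 2) (Fin 2) K) :
    m = qm i ((m 0 0 + m 1 1) / 2) (-(i * (m 0 0 - m 1 1)) / 2) ((m 0 1 - m 1 0) / 2)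
      (-(i * (m 0 1 + m 1 0)) / 2) := by
  ext r s
  fin_cases r <;> fin_cases s
  · simp [qm]
    field_simp
    linear_combination ((m 0 0) - m 1 1) * hi
  · simp [qm]
    field_simp
    linear_combination ((m 0 1) + m 1 0) * hi
  · simp [qm]
    field_simp
    linear_combination ((m 0 1) + m 1 0) * hi
  · simp [qm]
    field_simp
    linear_combination ((m 1 1) - m 0 0) * hi

/-- the group of norm one elements of `K^× · B(S)`, `B(S)` the quaternion algebra over `S` -/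
def QY (i : K) (hi : i ^ 2 = -1) (S : Subfield K) : Subgroup (SpecialLinearGroup (Fin 2) K) where
  carrier := {h | ∃ l x₀ x₁ x₂ x₃ : K, x₀ ∈ S ∧ x₁ ∈ S ∧ x₂ ∈ S ∧ x₃ ∈ S ∧
    (h : Matrix (Fin 2) (Fin 2) K) = l • qm i x₀ x₁ x₂ x₃}
  one_mem' := ⟨1, 1, 0, 0, 0, S.one_mem, S.zero_mem, S.zero_mem, S.zero_mem, by
    rw [qm_one, one_smul]; rfl⟩
  mul_mem' := by
    rintro g h ⟨l, x₀, x₁, x₂, x₃, hx₀, hx₁, hx₂, hx₃, hg⟩ ⟨m, y₀, y₁, y₂, y₃, hy₀, hy₁, hy₂, hy₃, hh⟩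
    refine ⟨l * m, (x₀ * y₀ - x₁ * y₁ - x₂ * y₂ - x₃ * y₃), (x₀ * y₁ + x₁ * y₀ + x₂ * y₃ - x₃ * y₂),
        (x₀ * y₂ - x₁ * y₃ + x₂ * y₀ + x₃ * y₁), (x₀ * y₃ + x₁ * y₂ - x₂ * y₁ + x₃ * y₀),
        ?_, ?_, ?_, ?_, ?_⟩
    rotate_left 4
    · refine (Matrix.SpecialLinearGroup.coe_mul g h).trans ?_
      rw [hg, hh, smul_mul_smul_comm, qm_mul hi]
    · exact S.sub_mem (S.sub_mem (S.sub_mem (S.mul_mem hx₀ hy₀) (S.mul_mem hx₁ hy₁))
        (S.mul_mem hx₂ hy₂)) (S.mul_mem hx₃ hy₃)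
    · exact S.sub_mem (S.add_mem (S.add_mem (S.mul_mem hx₀ hy₁) (S.mul_mem hx₁ hy₀))
        (S.mul_mem hx₂ hy₃)) (S.mul_mem hx₃ hy₂)
    · exact S.add_mem (S.add_mem (S.sub_mem (S.mul_mem hx₀ hy₂) (S.mul_mem hx₁ hy₃))
        (S.mul_mem hx₂ hy₀)) (S.mul_mem hx₃ hy₁)
    · exact S.add_mem (S.sub_mem (S.add_mem (S.mul_mem hx₀ hy₃) (S.mul_mem hx₁ hy₂))
        (S.mul_mem hx₂ hy₁)) (S.mul_mem hx₃ hy₀)
  inv_mem' := by
    rintro g ⟨l, x₀, x₁, x₂, x₃, hx₀, hx₁, hx₂, hx₃, hg⟩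
    refine ⟨l, x₀, -x₁, -x₂, -x₃, hx₀, S.neg_mem hx₁, S.neg_mem hx₂, S.neg_mem hx₃, ?_⟩
    refine (Matrix.SpecialLinearGroup.coe_inv g).trans ?_
    rw [hg, qm_smul, qm_adjugate, qm_smul]
    congr 1 <;> ring

theorem mem_QY {i : K} {hi : i ^ 2 = -1} {S : Subfield K} {h : SpecialLinearGroup (Fin 2) K} :
    h ∈ QY i hi S ↔ ∃ l x₀ x₁ x₂ x₃ : K, x₀ ∈ S ∧ x₁ ∈ S ∧ x₂ ∈ S ∧ x₃ ∈ S ∧
      (h : Matrix (Fin 2) (Fin 2) K) = l • qm i x₀ x₁ x₂ x₃ := Iff.rfl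

theorem finite_card_QY_le [IsAlgClosed K] {i : K} (hi : i ^ 2 = -1) (S : Subfield K) [Finite S] :
    Finite (QY i hi S) ∧ Nat.card (QY i hi S) ≤ Nat.card S ^ 4 * 2 := by
  classical
  obtain ⟨sq, hsq⟩ : ∃ sq : K → K, ∀ z, z = sq z * sq z :=
    ⟨fun z => Classical.choose (IsAlgClosed.exists_eq_mul_self z),
      fun z => Classical.choose_spec (IsAlgClosed.exists_eq_mul_self z)⟩
  let φ : (S × S × S × S) × Bool → Matrix (Fin 2) (Fin 2) K := fun x =>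
    (if x.2 then sq ((x.1.1.1 : K) ^ 2 + (x.1.2.1 : K) ^ 2 + (x.1.2.2.1 : K) ^ 2 + (x.1.2.2.2 : K) ^ 2)⁻¹
      else -sq ((x.1.1.1 : K) ^ 2 + (x.1.2.1 : K) ^ 2 + (x.1.2.2.1 : K) ^ 2 + (x.1.2.2.2 : K) ^ 2)⁻¹) •
      qm i x.1.1.1 x.1.2.1 x.1.2.2.1 x.1.2.2.2
  have hmem : ∀ h : QY i hi S, ((h : SpecialLinearGroup (Fin 2) K) : Matrix (Fin 2) (Fin 2) K) ∈
      Set.range φ := by
    rintro ⟨h, l, x₀, x₁, x₂, x₃, hx₀, hx₁, hx₂, hx₃, hh⟩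
    have hdet : (h : Matrix (Fin 2) (Fin 2) K).det = 1 := h.2
    rw [hh, Matrix.det_smul, qm_det hi, Fintype.card_fin] at hdet
    obtain ⟨N, hN⟩ : ∃ N, N = x₀ ^ 2 + x₁ ^ 2 + x₂ ^ 2 + x₃ ^ 2 := ⟨_, rfl⟩
    rw [← hN] at hdet
    have hN0 : N ≠ 0 := by
      rintro rfl
      simp at hdet
    have hl : l ^ 2 = N⁻¹ := by
      field_simp
      exact hdet
    have hs := hsq N⁻¹
    have hfac : (l - sq N⁻¹) * (l + sq N⁻¹) = 0 := by
      linear_combination hl + hs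
    rcases mul_eq_zero.mp hfac with h1 | h1
    · refine ⟨((⟨x₀, hx₀⟩, ⟨x₁, hx₁⟩, ⟨x₂, hx₂⟩, ⟨x₃, hx₃⟩), true), ?_⟩
      simp only [φ, if_true]
      rw [← hN, ← sub_eq_zero.mp h1]
      exact hh.symm
    · refine ⟨((⟨x₀, hx₀⟩, ⟨x₁, hx₁⟩, ⟨x₂, hx₂⟩, ⟨x₃, hx₃⟩), false), ?_⟩
      simp only [φ, Bool.false_eq_true, if_false]
      rw [← hN]
      have : l = -sq N⁻¹ := by linear_combination h1
      rw [← this]
      exact hh.symm
  let ψ : QY i hi S → Set.range φ := fun h => ⟨_, hmem h⟩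
  have hψ : Function.Injective ψ := by
    intro g h hgh
    have := congrArg Subtype.val hgh
    apply Subtype.ext
    apply Subtype.ext
    exact this
  have hfin : Finite (QY i hi S) := Finite.of_injective ψ hψ
  refine ⟨hfin, ?_⟩
  have h1 := Nat.card_le_card_of_injective ψ hψ
  have h2 := Nat.card_le_card_of_surjective (Set.rangeFactorization φ) Set.rangeFactorization_surjective
  have h3 : Nat.card ((S × S × S × S) × Bool) = Nat.card S ^ 4 * 2 := by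
    rw [Nat.card_prod, Nat.card_prod, Nat.card_prod, Nat.card_prod]
    simp
    ring
  omega

theorem card_QY_le [IsAlgClosed K] {i : K} (hi : i ^ 2 = -1) (S : Subfield K) [Finite S] :
    Nat.card (QY i hi S) ≤ Nat.card S ^ 4 * 2 := (finite_card_QY_le hi S).2

theorem finite_QY [IsAlgClosed K] {i : K} (hi : i ^ 2 = -1) (S : Subfield K) [Finite S] :
    Finite (QY i hi S) := (finite_card_QY_le hi S).1

theorem neg_one_mem_QY (i : K) (hi : i ^ 2 = -1) (S : Subfield K) : -1 ∈ QY i hi S := by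
  refine ⟨-1, 1, 0, 0, 0, S.one_mem, S.zero_mem, S.zero_mem, S.zero_mem, ?_⟩
  rw [qm_one]
  simp [Matrix.SpecialLinearGroup.coe_neg]

section normalform

variable [IsAlgClosed K]

theorem neg_entries (g : SpecialLinearGroup (Fin 2) K) (r s : Fin 2) : (-g) r s = - g r s := by
  simp [Matrix.SpecialLinearGroup.coe_neg]

/-- normal form of a quaternion pair in `SL₂` over an algebraically closed field -/
theorem quat_normal_form (h2 : (2 : K) ≠ 0) {a b : SpecialLinearGroup (Fin 2) K}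
    (ha : a * a = -1) (hab : a * b = -(b * a)) :
    ∃ (d : SpecialLinearGroup (Fin 2) K) (i : K), i ^ 2 = -1 ∧
      ((d⁻¹ * a * d : SpecialLinearGroup (Fin 2) K) : Matrix (Fin 2) (Fin 2) K) = qm i 0 1 0 0 ∧
      ((d⁻¹ * b * d : SpecialLinearGroup (Fin 2) K) : Matrix (Fin 2) (Fin 2) K) = qm i 0 0 1 0 := by
  -- step 1: make `a` upper triangular
  obtain ⟨y, hy⟩ := exists_fixed' a
  obtain ⟨d₁, hd₁⟩ := exists_smul_pInf y
  obtain ⟨a₁, ha₁⟩ : ∃ a₁, a₁ = d₁⁻¹ * a * d₁ := ⟨_, rfl⟩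
  obtain ⟨b₁, hb₁⟩ : ∃ b₁, b₁ = d₁⁻¹ * b * d₁ := ⟨_, rfl⟩
  have ha₁10 : a₁ 1 0 = 0 := by
    rw [← fixed_pInf_iff, ha₁, mul_smul, mul_smul, hd₁, hy, ← hd₁, inv_smul_smul]
  have ha₁sq : a₁ * a₁ = -1 := by
    rw [ha₁]
    have : d₁⁻¹ * a * d₁ * (d₁⁻¹ * a * d₁) = d₁⁻¹ * (a * a) * d₁ := by group
    rw [this, ha]
    simp
  have hab₁ : a₁ * b₁ = -(b₁ * a₁) := by
    rw [ha₁, hb₁]
    have e1 : d₁⁻¹ * a * d₁ * (d₁⁻¹ * b * d₁) = d₁⁻¹ * (a * b) * d₁ := by group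
    have e2 : d₁⁻¹ * b * d₁ * (d₁⁻¹ * a * d₁) = d₁⁻¹ * (b * a) * d₁ := by group
    rw [e1, e2, hab]
    simp
  -- entries of `a₁`
  obtain ⟨i, hi⟩ : ∃ i, i = a₁ 0 0 := ⟨_, rfl⟩
  have hdet₁ := det_eq a₁
  rw [ha₁10, mul_zero, sub_zero, ← hi] at hdet₁
  have e00 := congrArg (fun x : SpecialLinearGroup (Fin 2) K => x 0 0) ha₁sq
  simp only [mul_00, neg_entries, one_00, ha₁10, mul_zero, add_zero, ← hi] at e00
  have hisq : i ^ 2 = -1 := by rw [pow_two]; exact e00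
  have hi0 : i ≠ 0 := by
    rintro rfl
    norm_num at hisq
  have h11 : a₁ 1 1 = -i := by
    have : i * (a₁ 1 1 + i) = 0 := by linear_combination hdet₁ + hisq
    have := (mul_eq_zero.mp this).resolve_left hi0
    linear_combination this
  -- step 2: make `a` diagonal
  obtain ⟨t, ht⟩ : ∃ t, t = -(a₁ 0 1) / (2 * i) := ⟨_, rfl⟩
  obtain ⟨a₂, ha₂⟩ : ∃ a₂, a₂ = (uS t)⁻¹ * a₁ * uS t := ⟨_, rfl⟩
  obtain ⟨b₂, hb₂⟩ : ∃ b₂, b₂ = (uS t)⁻¹ * b₁ * uS t := ⟨_, rfl⟩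
  have h2i : 2 * i ≠ 0 := mul_ne_zero h2 hi0
  have ha₂00 : a₂ 0 0 = i := by
    rw [ha₂, uS_inv]
    simp [mul_00, mul_01, mul_10, mul_11, ha₁10, ← hi]
  have ha₂01 : a₂ 0 1 = 0 := by
    rw [ha₂, uS_inv]
    simp [mul_00, mul_01, mul_10, mul_11, ha₁10, ← hi, h11]
    rw [ht]
    field_simp
    ring
  have ha₂10 : a₂ 1 0 = 0 := by
    rw [ha₂, uS_inv]
    simp [mul_00, mul_01, mul_10, mul_11, ha₁10]
  have ha₂11 : a₂ 1 1 = -i := by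
    rw [ha₂, uS_inv]
    simp [mul_00, mul_01, mul_10, mul_11, ha₁10, h11]
  have hab₂ : a₂ * b₂ = -(b₂ * a₂) := by
    rw [ha₂, hb₂]
    have e1 : (uS t)⁻¹ * a₁ * uS t * ((uS t)⁻¹ * b₁ * uS t) = (uS t)⁻¹ * (a₁ * b₁) * uS t := by group
    have e2 : (uS t)⁻¹ * b₁ * uS t * ((uS t)⁻¹ * a₁ * uS t) = (uS t)⁻¹ * (b₁ * a₁) * uS t := by group
    rw [e1, e2, hab₁]
    simp
  -- entries of `b₂`
  have f00 := congrArg (fun x : SpecialLinearGroup (Fin 2) K => x 0 0) hab₂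
  have f11 := congrArg (fun x : SpecialLinearGroup (Fin 2) K => x 1 1) hab₂
  simp only [mul_00, mul_11, neg_entries, ha₂00, ha₂01, ha₂10, ha₂11, mul_zero, zero_mul,
    add_zero, zero_add] at f00 f11
  have hb00 : b₂ 0 0 = 0 := by
    have : 2 * i * b₂ 0 0 = 0 := by linear_combination f00
    exact (mul_eq_zero.mp this).resolve_left h2i
  have hb11 : b₂ 1 1 = 0 := by
    have : 2 * i * b₂ 1 1 = 0 := by linear_combination -f11
    exact (mul_eq_zero.mp this).resolve_left h2i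
  have hdetb := det_eq b₂
  rw [hb00, hb11, mul_zero, zero_sub] at hdetb
  have hb01 : b₂ 0 1 ≠ 0 := by
    intro h
    rw [h, zero_mul, neg_zero] at hdetb
    exact zero_ne_one hdetb
  -- step 3: scale
  obtain ⟨τ, hτ⟩ := IsAlgClosed.exists_eq_mul_self (b₂ 0 1)
  have hτ0 : τ ≠ 0 := by
    rintro rfl
    rw [mul_zero] at hτ
    exact hb01 hτ
  refine ⟨d₁ * uS t * dS τ hτ0, i, hisq, ?_, ?_⟩
  · have e : (d₁ * uS t * dS τ hτ0)⁻¹ * a * (d₁ * uS t * dS τ hτ0) = (dS τ hτ0)⁻¹ * a₂ * dS τ hτ0 := by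
      rw [ha₂, ha₁]; group
    rw [e]
    ext r s
    fin_cases r <;> fin_cases s
    · show ((dS τ hτ0)⁻¹ * a₂ * dS τ hτ0) 0 0 = _
      simp [mul_00, mul_01, mul_10, mul_11, inv_00, inv_01, inv_10, inv_11, qm, ha₂00, ha₂01, ha₂10, ha₂11, hτ0]
      try field_simp
    · show ((dS τ hτ0)⁻¹ * a₂ * dS τ hτ0) 0 1 = _
      simp [mul_00, mul_01, mul_10, mul_11, inv_00, inv_01, inv_10, inv_11, qm, ha₂00, ha₂01, ha₂10, ha₂11, hτ0]
      try field_simp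
    · show ((dS τ hτ0)⁻¹ * a₂ * dS τ hτ0) 1 0 = _
      simp [mul_00, mul_01, mul_10, mul_11, inv_00, inv_01, inv_10, inv_11, qm, ha₂00, ha₂01, ha₂10, ha₂11, hτ0]
      try field_simp
    · show ((dS τ hτ0)⁻¹ * a₂ * dS τ hτ0) 1 1 = _
      simp [mul_00, mul_01, mul_10, mul_11, inv_00, inv_01, inv_10, inv_11, qm, ha₂00, ha₂01, ha₂10, ha₂11, hτ0]
      try field_simp
  · have e : (d₁ * uS t * dS τ hτ0)⁻¹ * b * (d₁ * uS t * dS τ hτ0) = (dS τ hτ0)⁻¹ * b₂ * dS τ hτ0 := by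
      rw [hb₂, hb₁]; group
    rw [e]
    ext r s
    fin_cases r <;> fin_cases s
    · show ((dS τ hτ0)⁻¹ * b₂ * dS τ hτ0) 0 0 = _
      simp [mul_00, mul_01, mul_10, mul_11, inv_00, inv_01, inv_10, inv_11, qm, hb00, hb11]
    · show ((dS τ hτ0)⁻¹ * b₂ * dS τ hτ0) 0 1 = _
      simp [mul_00, mul_01, mul_10, mul_11, inv_00, inv_01, inv_10, inv_11, qm, hb00, hb11]
      rw [hτ]
      field_simp
    · show ((dS τ hτ0)⁻¹ * b₂ * dS τ hτ0) 1 0 = _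
      simp [mul_00, mul_01, mul_10, mul_11, inv_00, inv_01, inv_10, inv_11, qm, hb00, hb11]
      have : b₂ 1 0 = -(τ * τ)⁻¹ := by
        rw [← hτ]
        field_simp
        linear_combination -hdetb
      rw [this]
      field_simp
    · show ((dS τ hτ0)⁻¹ * b₂ * dS τ hτ0) 1 1 = _
      simp [mul_00, mul_01, mul_10, mul_11, inv_00, inv_01, inv_10, inv_11, qm, hb00, hb11]

end normalform

end Cfsg.Agent.helper4.Mx
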