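import Mathlib
import Cfsg.Agent.Lib_helper4_MxD

set_option autoImplicit false
set_option linter.unusedSectionVars false
set_option maxHeartbeats 1600000

/-!
# Quaternion coordinates for rational subgroups of `SL₂`
-/

namespace Cfsg.Agent.helper4.Mx

open Matrix
open scoped LinearAlgebra.Projectivization MatrixGroups
open Cfsg.Agent.helper4.Dk Cfsg.Agent.helper4.Dn

variable {F : Type*} [Field F] [Fintype F] {K : Type*} [Field K] [Algebra F K]

theorem iota_neg (g : SpecialLinearGroup (Fin 2) F) : iota F K (-g) = -iota F K g := by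
  apply sl_ext' <;> simp [iota_apply, neg_entries]

theorem iota_coe (g : SpecialLinearGroup (Fin 2) F) :
    ((iota F K g : SpecialLinearGroup (Fin 2) K) : Matrix (Fin 2) (Fin 2) K) =
      (algebraMap F K).mapMatrix (g : Matrix (Fin 2) (Fin 2) F) := rfl

theorem tr_iota (g : SpecialLinearGroup (Fin 2) F) : tr (iota F K g) = algebraMap F K (tr g) := by
  unfold tr
  rw [iota_apply, iota_apply, map_add]

/-- the conjugated embedding on matrices -/
noncomputable def thm (d : SpecialLinearGroup (Fin 2) K) (m : Matrix (Fin 2) (Fin 2) F) :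
    Matrix (Fin 2) (Fin 2) K :=
  ((d⁻¹ : SpecialLinearGroup (Fin 2) K) : Matrix (Fin 2) (Fin 2) K) *
    (algebraMap F K).mapMatrix m * (d : Matrix (Fin 2) (Fin 2) K)

theorem thm_coe (d : SpecialLinearGroup (Fin 2) K) (g : SpecialLinearGroup (Fin 2) F) :
    thm d (g : Matrix (Fin 2) (Fin 2) F) =
      ((d⁻¹ * iota F K g * d : SpecialLinearGroup (Fin 2) K) : Matrix (Fin 2) (Fin 2) K) := by
  unfold thm
  rw [← iota_coe]
  rfl

theorem thm_add (d : SpecialLinearGroup (Fin 2) K) (m m' : Matrix (Fin 2) (Fin 2) F) :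
    thm d (m + m') = thm d m + thm d m' := by
  unfold thm
  rw [map_add, Matrix.mul_add, Matrix.add_mul]

theorem thm_smul (d : SpecialLinearGroup (Fin 2) K) (x : F) (m : Matrix (Fin 2) (Fin 2) F) :
    thm d (x • m) = algebraMap F K x • thm d m := by
  unfold thm
  have : (algebraMap F K).mapMatrix (x • m) = algebraMap F K x • (algebraMap F K).mapMatrix m := by
    ext r s
    simp [RingHom.mapMatrix_apply]
  rw [this, Matrix.mul_smul, Matrix.smul_mul]

theorem thm_one (d : SpecialLinearGroup (Fin 2) K) : thm d (1 : Matrix (Fin 2) (Fin 2) F) = 1 := by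
  have := thm_coe (F := F) d 1
  rw [map_one, mul_one, inv_mul_cancel] at this
  simpa using this

theorem thm_det (d : SpecialLinearGroup (Fin 2) K) (m : Matrix (Fin 2) (Fin 2) F) :
    (thm d m).det = algebraMap F K m.det := by
  unfold thm
  rw [Matrix.det_mul, Matrix.det_mul, ← RingHom.map_det]
  have h1 : ((d⁻¹ : SpecialLinearGroup (Fin 2) K) : Matrix (Fin 2) (Fin 2) K).det = 1 := (d⁻¹).2
  have h2 : (d : Matrix (Fin 2) (Fin 2) K).det = 1 := d.2
  rw [h1, h2, one_mul, mul_one]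

theorem qm_decomp (i y₀ y₁ y₂ y₃ : K) :
    y₀ • (1 : Matrix (Fin 2) (Fin 2) K) + y₁ • qm i 0 1 0 0 + y₂ • qm i 0 0 1 0 + y₃ • qm i 0 0 0 1 =
      qm i y₀ y₁ y₂ y₃ := by
  ext r s
  fin_cases r <;> fin_cases s <;> simp [qm] <;> ring

variable [IsAlgClosed K]

/-- **Set-up**: quaternion coordinates adapted to a quaternion subgroup of `SL₂(F)` -/
theorem quat_setup (h2 : (2 : F) ≠ 0) {a b : SpecialLinearGroup (Fin 2) F}
    (ha : a * a = -1) (hab : a * b = -(b * a)) :
    ∃ (i : K) (hi : i ^ 2 = -1) (Θ : SpecialLinearGroup (Fin 2) F →* SpecialLinearGroup (Fin 2) K),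
      Function.Injective Θ ∧ Θ (-1) = -1 ∧
      (∀ g, tr (Θ g) = algebraMap F K (tr g)) ∧
      (∀ (g : SpecialLinearGroup (Fin 2) F) (x₀ x₁ x₂ x₃ : F),
        (g : Matrix (Fin 2) (Fin 2) F) = x₀ • (1 : Matrix (Fin 2) (Fin 2) F) +
          x₁ • (a : Matrix (Fin 2) (Fin 2) F) + x₂ • (b : Matrix (Fin 2) (Fin 2) F) +
          x₃ • ((a * b : SpecialLinearGroup (Fin 2) F) : Matrix (Fin 2) (Fin 2) F) →
        ((Θ g : SpecialLinearGroup (Fin 2) K) : Matrix (Fin 2) (Fin 2) K) =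
          qm i (algebraMap F K x₀) (algebraMap F K x₁) (algebraMap F K x₂) (algebraMap F K x₃)) ∧
      (∀ x₀ x₁ x₂ x₃ : F, x₀ ^ 2 + x₁ ^ 2 + x₂ ^ 2 + x₃ ^ 2 = 1 →
        ∃ g : SpecialLinearGroup (Fin 2) F,
          (g : Matrix (Fin 2) (Fin 2) F) = x₀ • (1 : Matrix (Fin 2) (Fin 2) F) +
          x₁ • (a : Matrix (Fin 2) (Fin 2) F) + x₂ • (b : Matrix (Fin 2) (Fin 2) F) +
          x₃ • ((a * b : SpecialLinearGroup (Fin 2) F) : Matrix (Fin 2) (Fin 2) F)) := by
  have h2K : (2 : K) ≠ 0 := by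
    intro h
    apply h2
    apply (algebraMap F K).injective
    rw [map_ofNat, h, map_zero]
  have ha' : iota F K a * iota F K a = -1 := by
    rw [← map_mul, ha, iota_neg_one]
  have hab' : iota F K a * iota F K b = -(iota F K b * iota F K a) := by
    rw [← map_mul, ← map_mul, hab, iota_neg]
  obtain ⟨d, i, hi, hda, hdb⟩ := quat_normal_form h2K ha' hab'
  obtain ⟨Θ, hΘdef⟩ : ∃ Θ : SpecialLinearGroup (Fin 2) F →* SpecialLinearGroup (Fin 2) K,
      Θ = (MulAut.conj d⁻¹).toMonoidHom.comp (iota F K) := ⟨_, rfl⟩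
  have hΘapp : ∀ g, Θ g = d⁻¹ * iota F K g * d := by
    intro g
    rw [hΘdef]
    simp [MulAut.conj_apply]
  have hΘinj : Function.Injective Θ := by
    intro x y hxy
    rw [hΘapp, hΘapp] at hxy
    apply iota_injective (K := K)
    have := congrArg (fun z => d * z * d⁻¹) hxy
    beta_reduce at this
    have e1 : ∀ z : SpecialLinearGroup (Fin 2) K, d * (d⁻¹ * z * d) * d⁻¹ = z := by
      intro z; group
    rwa [e1, e1] at this
  have hdab : thm d ((a * b : SpecialLinearGroup (Fin 2) F) : Matrix (Fin 2) (Fin 2) F) =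
      qm i 0 0 0 1 := by
    rw [thm_coe, map_mul]
    have e : d⁻¹ * (iota F K a * iota F K b) * d = (d⁻¹ * iota F K a * d) * (d⁻¹ * iota F K b * d) := by
      group
    rw [e]
    refine (Matrix.SpecialLinearGroup.coe_mul _ _).trans ?_
    rw [hda, hdb, qm_mul hi]
    congr 1 <;> ring
  have hlin : ∀ x₀ x₁ x₂ x₃ : F, thm d (x₀ • (1 : Matrix (Fin 2) (Fin 2) F) +
          x₁ • (a : Matrix (Fin 2) (Fin 2) F) + x₂ • (b : Matrix (Fin 2) (Fin 2) F) +
          x₃ • ((a * b : SpecialLinearGroup (Fin 2) F) : Matrix (Fin 2) (Fin 2) F)) =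
      qm i (algebraMap F K x₀) (algebraMap F K x₁) (algebraMap F K x₂) (algebraMap F K x₃) := by
    intro x₀ x₁ x₂ x₃
    rw [thm_add, thm_add, thm_add, thm_smul, thm_smul, thm_smul, thm_smul, thm_one, thm_coe,
      thm_coe, hda, hdb, hdab]
    exact qm_decomp i _ _ _ _
  refine ⟨i, hi, Θ, hΘinj, ?_, ?_, ?_, ?_⟩
  · rw [hΘapp, iota_neg_one]
    simp
  · intro g
    rw [hΘapp]
    have := tr_conj d⁻¹ (iota F K g)
    rw [inv_inv] at this
    rw [this, tr_iota]
  · intro g x₀ x₁ x₂ x₃ hg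
    rw [hΘapp, ← thm_coe, hg, hlin]
  · intro x₀ x₁ x₂ x₃ hx
    have hdet : (x₀ • (1 : Matrix (Fin 2) (Fin 2) F) +
          x₁ • (a : Matrix (Fin 2) (Fin 2) F) + x₂ • (b : Matrix (Fin 2) (Fin 2) F) +
          x₃ • ((a * b : SpecialLinearGroup (Fin 2) F) : Matrix (Fin 2) (Fin 2) F)).det = 1 := by
      apply (algebraMap F K).injective
      rw [← thm_det d, hlin, qm_det hi, map_one, ← map_pow, ← map_pow, ← map_pow, ← map_pow,
        ← map_add, ← map_add, ← map_add, hx, map_one]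
    exact ⟨⟨_, hdet⟩, rfl⟩

end Cfsg.Agent.helper4.Mx
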