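import Mathlib
import Cfsg.Agent.Lib_helper4_MxE

set_option autoImplicit false
set_option linter.unusedSectionVars false
set_option maxHeartbeats 1600000

/-!
# Frobenius-fixed subfields, traces of elements of finite order, special elements
-/

namespace Cfsg.Agent.helper4.Mx

open Matrix Polynomial
open scoped LinearAlgebra.Projectivization MatrixGroups
open Cfsg.Agent.helper4.Dk Cfsg.Agent.helper4.Dn

section frob

variable {K : Type*} [Field K] (p : ℕ) [Fact p.Prime] [CharP K p]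

/-- the subfield fixed by the `n`-th power of Frobenius -/
def frobS (n : ℕ) : Subfield K where
  carrier := {x | x ^ p ^ n = x}
  mul_mem' := by
    intro x y hx hy
    change (x * y) ^ p ^ n = x * y
    rw [mul_pow, hx, hy]
  one_mem' := one_pow _
  add_mem' := by
    intro x y hx hy
    change (x + y) ^ p ^ n = x + y
    rw [add_pow_char_pow, hx, hy]
  zero_mem' := by
    change (0 : K) ^ p ^ n = 0
    exact zero_pow (pow_ne_zero _ (Fact.out : p.Prime).ne_zero)
  neg_mem' := by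
    intro x hx
    change (-x) ^ p ^ n = -x
    rw [neg_pow, neg_one_pow_char_pow, hx]
    ring
  inv_mem' := by
    intro x hx
    change (x⁻¹) ^ p ^ n = x⁻¹
    rw [inv_pow, hx]

theorem mem_frobS {n : ℕ} {x : K} : x ∈ frobS (K := K) p n ↔ x ^ p ^ n = x := Iff.rfl

theorem frobS_finite {n : ℕ} (hn : n ≠ 0) : (frobS (K := K) p n : Set K).Finite ∧
    (frobS (K := K) p n : Set K).ncard ≤ p ^ n := by
  classical
  have hp1 : 1 < p := (Fact.out : p.Prime).one_lt
  have hne : (X ^ p ^ n - X : K[X]) ≠ 0 := FiniteField.X_pow_card_pow_sub_X_ne_zero K hn hp1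
  have hsub : (frobS (K := K) p n : Set K) ⊆ ((X ^ p ^ n - X : K[X]).roots.toFinset : Set K) := by
    intro x hx
    rw [Finset.mem_coe, Multiset.mem_toFinset, mem_roots hne]
    simp only [IsRoot.def, eval_sub, eval_pow, eval_X]
    rw [sub_eq_zero]
    exact hx
  refine ⟨(Finset.finite_toSet _).subset hsub, ?_⟩
  calc (frobS (K := K) p n : Set K).ncard ≤ ((X ^ p ^ n - X : K[X]).roots.toFinset : Set K).ncard :=
        Set.ncard_le_ncard hsub (Finset.finite_toSet _)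
    _ = (X ^ p ^ n - X : K[X]).roots.toFinset.card := Set.ncard_coe_finset _
    _ ≤ Multiset.card (X ^ p ^ n - X : K[X]).roots := Multiset.toFinset_card_le _
    _ ≤ (X ^ p ^ n - X : K[X]).natDegree := card_roots' _
    _ = p ^ n := FiniteField.X_pow_card_pow_sub_X_natDegree_eq K hn hp1

theorem natCast_mem_frobS (n k : ℕ) : (k : K) ∈ frobS (K := K) p n := natCast_mem _ k

end frob

section tracepow

variable {K : Type*} [Field K] [IsAlgClosed K]

theorem tri_pow (h : SpecialLinearGroup (Fin 2) K) (h10 : h 1 0 = 0) (n : ℕ) :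
    (h ^ n) 1 0 = 0 ∧ (h ^ n) 0 0 = (h 0 0) ^ n := by
  induction n with
  | zero => simp
  | succ n ih =>
    rw [pow_succ]
    constructor
    · rw [mul_10, ih.1, h10]; ring
    · rw [mul_00, ih.2, h10]; ring

/-- the trace of an element whose order divides `(N ± 1) p^j` is fixed by the `N`-th power map -/
theorem trace_pow_eq (p : ℕ) [Fact p.Prime] [CharP K p] (e : ℕ) (h : SpecialLinearGroup (Fin 2) K)
    {n j : ℕ} (hn : h ^ (n * p ^ j) = 1) (hdvd : n ∣ p ^ e - 1 ∨ n ∣ p ^ e + 1) :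
    (tr h) ^ p ^ e = tr h := by
  obtain ⟨y, hy⟩ := exists_fixed' h
  obtain ⟨d₁, hd₁⟩ := exists_smul_pInf y
  obtain ⟨h₁, hh₁⟩ : ∃ h₁, h₁ = d₁⁻¹ * h * d₁ := ⟨_, rfl⟩
  have h10 : h₁ 1 0 = 0 := by
    rw [← fixed_pInf_iff, hh₁, mul_smul, mul_smul, hd₁, hy, ← hd₁, inv_smul_smul]
  have htr : tr h = tr h₁ := by
    rw [hh₁]
    have := tr_conj d₁⁻¹ h
    rw [inv_inv] at this
    exact this.symm
  have hpow : h₁ ^ (n * p ^ j) = 1 := by
    rw [hh₁]
    have : (d₁⁻¹ * h * d₁) ^ (n * p ^ j) = d₁⁻¹ * h ^ (n * p ^ j) * d₁ := by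
      have := conj_pow (a := d₁⁻¹) (b := h) (i := n * p ^ j)
      rw [inv_inv] at this
      exact this
    rw [this, hn]; group
  obtain ⟨lam, hlam⟩ : ∃ lam, lam = h₁ 0 0 := ⟨_, rfl⟩
  have hdet := det_eq h₁
  rw [h10, mul_zero, sub_zero, ← hlam] at hdet
  have hlam0 : lam ≠ 0 := by
    rintro rfl
    rw [zero_mul] at hdet
    exact zero_ne_one hdet
  have h11 : h₁ 1 1 = lam⁻¹ := by
    field_simp
    linear_combination hdet
  have hlamn' : (lam ^ n) ^ p ^ j = 1 := by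
    have := (tri_pow h₁ h10 (n * p ^ j)).2
    rw [hpow, one_00, ← hlam] at this
    rw [← pow_mul]
    exact this.symm
  have hlamn : lam ^ n = 1 := by
    have h0 : (lam ^ n - 1) ^ p ^ j = 0 := by
      rw [sub_pow_char_pow, hlamn', one_pow, sub_self]
    have := pow_eq_zero_iff (pow_ne_zero j (Fact.out : p.Prime).ne_zero) |>.mp h0
    exact sub_eq_zero.mp this
  have hpe : 1 ≤ p ^ e := Nat.one_le_pow _ _ (Fact.out : p.Prime).pos
  rw [htr]
  unfold tr
  rw [← hlam, h11, add_pow_char_pow, inv_pow]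
  rcases hdvd with ⟨k, hk⟩ | ⟨k, hk⟩
  · have h1 : lam ^ p ^ e = lam := by
      have : p ^ e = n * k + 1 := by omega
      rw [this, pow_succ, pow_mul, hlamn, one_pow, one_mul]
    rw [h1]
  · have h1 : lam ^ p ^ e = lam⁻¹ := by
      have h2 : lam ^ (p ^ e + 1) = 1 := by rw [hk, pow_mul, hlamn, one_pow]
      rw [pow_succ] at h2
      field_simp
      exact h2
    rw [h1, inv_inv, add_comm]

end tracepow

section qs

variable {F : Type*} [Field F] [Fintype F] {K : Type*} [Field K] [Algebra F K]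

/-- quaternion coordinates adapted to the pair `a, b` -/
structure QS (F : Type*) [Field F] [Fintype F] (K : Type*) [Field K] [Algebra F K]
    (a b : SpecialLinearGroup (Fin 2) F) where
  i : K
  hi : i ^ 2 = -1
  Θ : SpecialLinearGroup (Fin 2) F →* SpecialLinearGroup (Fin 2) K
  inj : Function.Injective Θ
  neg : Θ (-1) = -1
  tr_eq : ∀ g, tr (Θ g) = algebraMap F K (tr g)
  lin : ∀ (g : SpecialLinearGroup (Fin 2) F) (x₀ x₁ x₂ x₃ : F),
        (g : Matrix (Fin 2) (Fin 2) F) = x₀ • (1 : Matrix (Fin 2) (Fin 2) F) +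
          x₁ • (a : Matrix (Fin 2) (Fin 2) F) + x₂ • (b : Matrix (Fin 2) (Fin 2) F) +
          x₃ • ((a * b : SpecialLinearGroup (Fin 2) F) : Matrix (Fin 2) (Fin 2) F) →
        ((Θ g : SpecialLinearGroup (Fin 2) K) : Matrix (Fin 2) (Fin 2) K) =
          qm i (algebraMap F K x₀) (algebraMap F K x₁) (algebraMap F K x₂) (algebraMap F K x₃)
  ex : ∀ x₀ x₁ x₂ x₃ : F, x₀ ^ 2 + x₁ ^ 2 + x₂ ^ 2 + x₃ ^ 2 = 1 →
        ∃ g : SpecialLinearGroup (Fin 2) F,
          (g : Matrix (Fin 2) (Fin 2) F) = x₀ • (1 : Matrix (Fin 2) (Fin 2) F) +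
          x₁ • (a : Matrix (Fin 2) (Fin 2) F) + x₂ • (b : Matrix (Fin 2) (Fin 2) F) +
          x₃ • ((a * b : SpecialLinearGroup (Fin 2) F) : Matrix (Fin 2) (Fin 2) F)

theorem exists_QS [IsAlgClosed K] (h2 : (2 : F) ≠ 0) {a b : SpecialLinearGroup (Fin 2) F}
    (ha : a * a = -1) (hab : a * b = -(b * a)) : Nonempty (QS F K a b) := by
  obtain ⟨i, hi, Θ, h1, h2, h3, h4, h5⟩ := quat_setup (K := K) h2 ha hab
  exact ⟨⟨i, hi, Θ, h1, h2, h3, h4, h5⟩⟩

variable {a b : SpecialLinearGroup (Fin 2) F} (Q : QS F K a b)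

theorem QS.coe_a : ((Q.Θ a : SpecialLinearGroup (Fin 2) K) : Matrix (Fin 2) (Fin 2) K) = qm Q.i 0 1 0 0 := by
  have := Q.lin a 0 1 0 0 (by simp)
  simpa using this

theorem QS.coe_b : ((Q.Θ b : SpecialLinearGroup (Fin 2) K) : Matrix (Fin 2) (Fin 2) K) = qm Q.i 0 0 1 0 := by
  have := Q.lin b 0 0 1 0 (by simp)
  simpa using this

theorem QS.coe_ab : ((Q.Θ (a * b) : SpecialLinearGroup (Fin 2) K) : Matrix (Fin 2) (Fin 2) K) =
    qm Q.i 0 0 0 1 := by
  have := Q.lin (a * b) 0 0 0 1 (by simp)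
  simpa using this

theorem QS.coe_mul (g h : SpecialLinearGroup (Fin 2) F) :
    ((Q.Θ (g * h) : SpecialLinearGroup (Fin 2) K) : Matrix (Fin 2) (Fin 2) K) =
      ((Q.Θ g : SpecialLinearGroup (Fin 2) K) : Matrix (Fin 2) (Fin 2) K) *
      ((Q.Θ h : SpecialLinearGroup (Fin 2) K) : Matrix (Fin 2) (Fin 2) K) := by
  rw [map_mul]
  exact Matrix.SpecialLinearGroup.coe_mul _ _

/-- equality of elements of `SL₂(F)` can be tested on quaternion coordinates -/
theorem QS.ext {g h : SpecialLinearGroup (Fin 2) F}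
    (hgh : ((Q.Θ g : SpecialLinearGroup (Fin 2) K) : Matrix (Fin 2) (Fin 2) K) =
      ((Q.Θ h : SpecialLinearGroup (Fin 2) K) : Matrix (Fin 2) (Fin 2) K)) : g = h :=
  Q.inj (Subtype.ext hgh)

theorem QS.coe_neg_one : ((Q.Θ (-1) : SpecialLinearGroup (Fin 2) K) : Matrix (Fin 2) (Fin 2) K) =
    qm Q.i (-1) 0 0 0 := by
  rw [Q.neg]
  ext r s
  fin_cases r <;> fin_cases s <;> simp [qm, Matrix.SpecialLinearGroup.coe_neg]

theorem QS.coe_one : ((Q.Θ 1 : SpecialLinearGroup (Fin 2) K) : Matrix (Fin 2) (Fin 2) K) =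
    qm Q.i 1 0 0 0 := by
  rw [map_one, qm_one]
  rfl

/-- coordinates from traces -/
theorem QS.coords (h2 : (2 : K) ≠ 0) (g : SpecialLinearGroup (Fin 2) F) :
    ((Q.Θ g : SpecialLinearGroup (Fin 2) K) : Matrix (Fin 2) (Fin 2) K) =
      qm Q.i (algebraMap F K (tr g) / 2) (-(algebraMap F K (tr (g * a))) / 2)
        (-(algebraMap F K (tr (g * b))) / 2) (-(algebraMap F K (tr (g * (a * b)))) / 2) := by
  have h0 := eq_qm Q.hi h2 ((Q.Θ g : SpecialLinearGroup (Fin 2) K) : Matrix (Fin 2) (Fin 2) K)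
  have t0 : algebraMap F K (tr g) = (Q.Θ g) 0 0 + (Q.Θ g) 1 1 := by
    rw [← Q.tr_eq]; rfl
  have t1 : algebraMap F K (tr (g * a)) = Q.i * ((Q.Θ g) 0 0 - (Q.Θ g) 1 1) := by
    rw [← Q.tr_eq, map_mul]
    unfold tr
    rw [mul_00, mul_11]
    have e := Q.coe_a
    have e00 := congrFun (congrFun e 0) 0
    have e01 := congrFun (congrFun e 0) 1
    have e10 := congrFun (congrFun e 1) 0
    have e11 := congrFun (congrFun e 1) 1
    simp [qm] at e00 e01 e10 e11
    rw [e00, e01, e10, e11]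
    ring
  have t2 : algebraMap F K (tr (g * b)) = -((Q.Θ g) 0 1 - (Q.Θ g) 1 0) := by
    rw [← Q.tr_eq, map_mul]
    unfold tr
    rw [mul_00, mul_11]
    have e := Q.coe_b
    have e00 := congrFun (congrFun e 0) 0
    have e01 := congrFun (congrFun e 0) 1
    have e10 := congrFun (congrFun e 1) 0
    have e11 := congrFun (congrFun e 1) 1
    simp [qm] at e00 e01 e10 e11
    rw [e00, e01, e10, e11]
    ring
  have t3 : algebraMap F K (tr (g * (a * b))) = Q.i * ((Q.Θ g) 0 1 + (Q.Θ g) 1 0) := by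
    have e := Q.coe_ab
    obtain ⟨c, hc⟩ : ∃ c, c = a * b := ⟨_, rfl⟩
    rw [← hc] at e ⊢
    rw [← Q.tr_eq, map_mul]
    unfold tr
    rw [mul_00, mul_11]
    have e00 := congrFun (congrFun e 0) 0
    have e01 := congrFun (congrFun e 0) 1
    have e10 := congrFun (congrFun e 1) 0
    have e11 := congrFun (congrFun e 1) 1
    simp [qm] at e00 e01 e10 e11
    rw [e00, e01, e10, e11]
    ring
  rw [t0, t1, t2, t3]
  convert h0 using 2
  ring

theorem QS.mem_of_traces (h2 : (2 : K) ≠ 0) (S : Subfield K) (g : SpecialLinearGroup (Fin 2) F)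
    (h0 : algebraMap F K (tr g) ∈ S) (h1 : algebraMap F K (tr (g * a)) ∈ S)
    (h2' : algebraMap F K (tr (g * b)) ∈ S) (h3 : algebraMap F K (tr (g * (a * b))) ∈ S) :
    Q.Θ g ∈ QY Q.i Q.hi S := by
  have h2S : (2 : K) ∈ S := ofNat_mem S 2
  refine ⟨1, _, _, _, _, S.div_mem h0 h2S, S.div_mem (S.neg_mem h1) h2S,
    S.div_mem (S.neg_mem h2') h2S, S.div_mem (S.neg_mem h3) h2S, ?_⟩
  rw [one_smul]
  exact Q.coords h2 g

end qs

end Cfsg.Agent.helper4.Mx
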