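import Mathlib
import Cfsg.Agent.Lib_helper4_MxF

set_option autoImplicit false
set_option linter.unusedSectionVars false
set_option maxHeartbeats 1600000

/-!
# Special elements in quaternion coordinates
-/

namespace Cfsg.Agent.helper4.Mx

open Matrix
open scoped LinearAlgebra.Projectivization MatrixGroups
open Cfsg.Agent.helper4.Dk Cfsg.Agent.helper4.Dn

variable {F : Type*} [Field F] [Fintype F] {K : Type*} [Field K] [Algebra F K]
variable {a b : SpecialLinearGroup (Fin 2) F} (Q : QS F K a b)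

/-- the element `(1 + a + b + ab)/2` -/
theorem QS.exists_omega (h2 : (2 : F) ≠ 0) :
    ∃ w : SpecialLinearGroup (Fin 2) F, w * w * w = -1 ∧ w * a = b * w ∧ w * b = (a * b) * w ∧
      w ≠ 1 ∧ w ≠ -1 ∧ ∀ S : Subfield K, Q.Θ w ∈ QY Q.i Q.hi S := by
  have h2K : (2 : K) ≠ 0 := by
    intro h
    apply h2
    apply (algebraMap F K).injective
    rw [map_ofNat, h, map_zero]
  obtain ⟨w, hw⟩ := Q.ex (2⁻¹) (2⁻¹) (2⁻¹) (2⁻¹) (by field_simp; norm_num)
  have hcw := Q.lin w _ _ _ _ hw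
  rw [map_inv₀, map_ofNat] at hcw
  have hi := Q.hi
  refine ⟨w, ?_, ?_, ?_, ?_, ?_, ?_⟩
  · apply Q.ext
    rw [Q.coe_mul, Q.coe_mul, hcw, Q.coe_neg_one, qm_mul hi, qm_mul hi]
    congr 1 <;> field_simp <;> ring
  · apply Q.ext
    rw [Q.coe_mul, Q.coe_mul, hcw, Q.coe_a, Q.coe_b, qm_mul hi, qm_mul hi]
    congr 1 <;> ring
  · apply Q.ext
    rw [Q.coe_mul, Q.coe_mul, hcw, Q.coe_ab, Q.coe_b, qm_mul hi, qm_mul hi]
    congr 1 <;> ring
  · intro h
    rw [h, Q.coe_one] at hcw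
    have := (qm_injective hi h2K hcw).2.1
    exact inv_ne_zero h2K this.symm
  · intro h
    rw [h, Q.coe_neg_one] at hcw
    have := (qm_injective hi h2K hcw).2.1
    exact inv_ne_zero h2K this.symm
  · intro S
    have h2S : (2 : K)⁻¹ ∈ S := S.inv_mem (ofNat_mem S 2)
    exact ⟨1, _, _, _, _, h2S, h2S, h2S, h2S, by rw [one_smul]; exact hcw⟩

/-- the element `(1 + a)/√2` -/
theorem QS.exists_rho (h2 : (2 : F) ≠ 0) (s : F) (hs : 2 * s ^ 2 = 1) :
    ∃ r : SpecialLinearGroup (Fin 2) F, r * r = a ∧ r * a = a * r ∧ r * b = (a * b) * r ∧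
      ∀ S : Subfield K, Q.Θ r ∈ QY Q.i Q.hi S := by
  obtain ⟨r, hr⟩ := Q.ex s s 0 0 (by linear_combination hs)
  have hcr := Q.lin r _ _ _ _ hr
  rw [map_zero] at hcr
  have hi := Q.hi
  have hsK : 2 * (algebraMap F K s) ^ 2 = 1 := by
    rw [← map_pow, ← map_ofNat (algebraMap F K) 2, ← map_mul, hs, map_one]
  refine ⟨r, ?_, ?_, ?_, ?_⟩
  · apply Q.ext
    rw [Q.coe_mul, hcr, Q.coe_a, qm_mul hi]
    congr 1
    · ring
    · linear_combination hsK
    · ring
    · ring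
  · apply Q.ext
    rw [Q.coe_mul, Q.coe_mul, hcr, Q.coe_a, qm_mul hi, qm_mul hi]
    congr 1 <;> ring
  · apply Q.ext
    rw [Q.coe_mul, Q.coe_mul, hcr, Q.coe_ab, Q.coe_b, qm_mul hi, qm_mul hi]
    congr 1 <;> ring
  · intro S
    refine ⟨algebraMap F K s, 1, 1, 0, 0, S.one_mem, S.one_mem, S.zero_mem, S.zero_mem, ?_⟩
    rw [hcr, qm_smul]
    congr 1 <;> ring

/-- a unipotent element with coordinates in the prime field -/
theorem QS.exists_unip (p : ℕ) [Fact p.Prime] [CharP F p] (h2 : (2 : F) ≠ 0) :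
    ∃ g : SpecialLinearGroup (Fin 2) F, g ≠ 1 ∧ g ^ p = 1 ∧
      ∀ S : Subfield K, Q.Θ g ∈ QY Q.i Q.hi S := by
  have h2K : (2 : K) ≠ 0 := by
    intro h
    apply h2
    apply (algebraMap F K).injective
    rw [map_ofNat, h, map_zero]
  haveI : CharP K p := charP_of_injective_algebraMap (algebraMap F K).injective p
  haveI : NeZero p := ⟨(Fact.out : p.Prime).ne_zero⟩
  obtain ⟨k₂, k₃, hk⟩ := CharP.sq_add_sq F p (-1)
  have hk' : (k₂ : F) ^ 2 + (k₃ : F) ^ 2 = -1 := by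
    rw [hk]; simp
  obtain ⟨g, hg⟩ := Q.ex 1 1 (k₂ : F) (k₃ : F) (by linear_combination hk')
  have hcg := Q.lin g _ _ _ _ hg
  rw [map_one, map_natCast, map_natCast] at hcg
  have hi := Q.hi
  have hkK : (k₂ : K) ^ 2 + (k₃ : K) ^ 2 = -1 := by
    have := congrArg (algebraMap F K) hk'
    simpa using this
  have hpow : ∀ n : ℕ, ((Q.Θ (g ^ n) : SpecialLinearGroup (Fin 2) K) : Matrix (Fin 2) (Fin 2) K) =
      qm Q.i 1 (n : K) (n * k₂ : K) (n * k₃ : K) := by
    intro n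
    induction n with
    | zero =>
      rw [pow_zero, Q.coe_one]
      simp
    | succ n ih =>
      rw [pow_succ, Q.coe_mul, ih, hcg, qm_mul hi]
      congr 1
      · linear_combination (-(n : K)) * hkK
      · push_cast; ring
      · push_cast; ring
      · push_cast; ring
  refine ⟨g, ?_, ?_, ?_⟩
  · intro h
    rw [h, Q.coe_one] at hcg
    have := (qm_injective hi h2K hcg).2.1
    exact one_ne_zero this.symm
  · apply Q.ext
    rw [hpow, Q.coe_one, CharP.cast_eq_zero]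
    simp
  · intro S
    exact ⟨1, 1, 1, k₂, k₃, S.one_mem, S.one_mem, natCast_mem S k₂, natCast_mem S k₃, by
      rw [one_smul]; exact hcg⟩

theorem QS.mem_a (S : Subfield K) : Q.Θ a ∈ QY Q.i Q.hi S :=
  ⟨1, 0, 1, 0, 0, S.zero_mem, S.one_mem, S.zero_mem, S.zero_mem, by rw [one_smul]; exact Q.coe_a⟩

theorem QS.mem_b (S : Subfield K) : Q.Θ b ∈ QY Q.i Q.hi S :=
  ⟨1, 0, 0, 1, 0, S.zero_mem, S.zero_mem, S.one_mem, S.zero_mem, by rw [one_smul]; exact Q.coe_b⟩

end Cfsg.Agent.helper4.Mx
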