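import Mathlib

set_option autoImplicit false
set_option maxRecDepth 100000

/-!
# Klein four subgroups and facts on `A₄`, `S₄`, `A₅`
-/

namespace Cfsg.Agent.helper4.Mx

/-- the Klein four group generated by two commuting involutions -/
def kleinSub {G : Type*} [Group G] (x y : G) (hx : x * x = 1) (hy : y * y = 1)
    (hxy : x * y = y * x) : Subgroup G where
  carrier := {g | g = 1 ∨ g = x ∨ g = y ∨ g = x * y}
  one_mem' := Or.inl rfl
  mul_mem' := by
    rintro g h (rfl | rfl | rfl | rfl) (rfl | rfl | rfl | rfl)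
    · left; simp
    · right; left; simp
    · right; right; left; simp
    · right; right; right; simp
    · right; left; simp
    · left; exact hx
    · right; right; right; rfl
    · right; right; left; rw [← mul_assoc, hx, one_mul]
    · right; right; left; simp
    · right; right; right; exact hxy.symm
    · left; exact hy
    · right; left; rw [← mul_assoc, ← hxy, mul_assoc, hy, mul_one]
    · right; right; right; simp
    · right; right; left; rw [mul_assoc, ← hxy, ← mul_assoc, hx, one_mul]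
    · right; left; rw [mul_assoc, hy, mul_one]
    · left; rw [mul_assoc, ← mul_assoc y, ← hxy, mul_assoc, hy, mul_one, hx]
  inv_mem' := by
    rintro g (rfl | rfl | rfl | rfl)
    · left; simp
    · right; left; exact inv_eq_of_mul_eq_one_right hx
    · right; right; left; exact inv_eq_of_mul_eq_one_right hy
    · right; right; right
      apply inv_eq_of_mul_eq_one_right
      rw [mul_assoc, ← mul_assoc y, ← hxy, mul_assoc, hy, mul_one, hx]

theorem mem_kleinSub {G : Type*} [Group G] {x y : G} {hx : x * x = 1} {hy : y * y = 1}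
    {hxy : x * y = y * x} {g : G} :
    g ∈ kleinSub x y hx hy hxy ↔ g = 1 ∨ g = x ∨ g = y ∨ g = x * y := Iff.rfl

theorem card_kleinSub {G : Type*} [Group G] {x y : G} (hx : x * x = 1) (hy : y * y = 1)
    (hxy : x * y = y * x) (hx1 : x ≠ 1) (hy1 : y ≠ 1) (hne : x ≠ y) :
    Nat.card (kleinSub x y hx hy hxy) = 4 := by
  classical
  have hset : ((kleinSub x y hx hy hxy : Subgroup G) : Set G) = ({1, x, y, x * y} : Finset G) := by
    ext g
    simp [mem_kleinSub]
  have hxy1 : x * y ≠ 1 := by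
    intro h
    apply hne
    have : x = y⁻¹ := eq_inv_of_mul_eq_one_left h
    rw [this]
    exact inv_eq_of_mul_eq_one_right hy
  have hxyx : x * y ≠ x := by
    intro h
    apply hy1
    have := mul_left_cancel (a := x) (b := y) (c := 1) (by rw [h, mul_one])
    exact this
  have hxyy : x * y ≠ y := by
    intro h
    apply hx1
    have := mul_right_cancel (a := x) (b := y) (c := 1) (by rw [h, one_mul])
    exact this
  have hcard : ({1, x, y, x * y} : Finset G).card = 4 := by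
    rw [Finset.card_insert_of_notMem, Finset.card_insert_of_notMem, Finset.card_insert_of_notMem,
      Finset.card_singleton]
    · simp only [Finset.mem_singleton]
      exact fun h => hxyy h.symm
    · simp only [Finset.mem_insert, Finset.mem_singleton, not_or]
      exact ⟨hne, fun h => hxyx h.symm⟩
    · simp only [Finset.mem_insert, Finset.mem_singleton, not_or]
      exact ⟨fun h => hx1 h.symm, fun h => hy1 h.symm, fun h => hxy1 h.symm⟩
  have : Nat.card (kleinSub x y hx hy hxy) = Set.ncard ((kleinSub x y hx hy hxy : Subgroup G) : Set G) :=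
    rfl
  rw [this, hset, Set.ncard_coe_finset, hcard]

/-! ### `A₄` -/

def xA4 : alternatingGroup (Fin 4) := ⟨Equiv.swap 0 1 * Equiv.swap 2 3, by rw [Equiv.Perm.mem_alternatingGroup]; decide⟩
def yA4 : alternatingGroup (Fin 4) := ⟨Equiv.swap 0 2 * Equiv.swap 1 3, by rw [Equiv.Perm.mem_alternatingGroup]; decide⟩

theorem a4_rel : xA4 * xA4 = 1 ∧ yA4 * yA4 = 1 ∧ xA4 * yA4 = yA4 * xA4 ∧ xA4 ≠ 1 ∧ yA4 ≠ 1 ∧
    xA4 ≠ yA4 := by decide

theorem a4_normal : ∀ g : alternatingGroup (Fin 4),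
    (g * xA4 * g⁻¹ = xA4 ∨ g * xA4 * g⁻¹ = yA4 ∨ g * xA4 * g⁻¹ = xA4 * yA4) ∧
    (g * yA4 * g⁻¹ = xA4 ∨ g * yA4 * g⁻¹ = yA4 ∨ g * yA4 * g⁻¹ = xA4 * yA4) := by decide

theorem a4_no_sqrt : ∀ g : alternatingGroup (Fin 4), g * g ≠ xA4 := by decide

theorem a4_card : Nat.card (alternatingGroup (Fin 4)) = 12 := by
  rw [Nat.card_eq_fintype_card]; decide

/-! ### `S₄` -/

def xS4 : Equiv.Perm (Fin 4) := Equiv.swap 0 1 * Equiv.swap 2 3
def yS4 : Equiv.Perm (Fin 4) := Equiv.swap 0 2 * Equiv.swap 1 3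

theorem s4_rel : xS4 * xS4 = 1 ∧ yS4 * yS4 = 1 ∧ xS4 * yS4 = yS4 * xS4 ∧ xS4 ≠ 1 ∧ yS4 ≠ 1 ∧
    xS4 ≠ yS4 := by decide

theorem s4_normal : ∀ g : Equiv.Perm (Fin 4),
    (g * xS4 * g⁻¹ = xS4 ∨ g * xS4 * g⁻¹ = yS4 ∨ g * xS4 * g⁻¹ = xS4 * yS4) ∧
    (g * yS4 * g⁻¹ = xS4 ∨ g * yS4 * g⁻¹ = yS4 ∨ g * yS4 * g⁻¹ = xS4 * yS4) := by decide

theorem s4_sqrt_sign : ∀ g : Equiv.Perm (Fin 4), g * g = xS4 → Equiv.Perm.sign g = -1 := by decide

theorem s4_card : Nat.card (Equiv.Perm (Fin 4)) = 24 := by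
  rw [Nat.card_eq_fintype_card]; decide

/-! ### `A₅` -/

def xA5 : alternatingGroup (Fin 5) := ⟨Equiv.swap 0 1 * Equiv.swap 2 3, by rw [Equiv.Perm.mem_alternatingGroup]; decide⟩
def yA5 : alternatingGroup (Fin 5) := ⟨Equiv.swap 0 2 * Equiv.swap 1 3, by rw [Equiv.Perm.mem_alternatingGroup]; decide⟩

theorem a5_rel : xA5 * xA5 = 1 ∧ yA5 * yA5 = 1 ∧ xA5 * yA5 = yA5 * xA5 ∧ xA5 ≠ 1 ∧ yA5 ≠ 1 ∧
    xA5 ≠ yA5 := by decide

theorem a5_orders : ∀ g : alternatingGroup (Fin 5), g ^ 2 = 1 ∨ g ^ 3 = 1 ∨ g ^ 5 = 1 := by decide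

theorem a5_no_sqrt : ∀ g : alternatingGroup (Fin 5), g * g ≠ xA5 := by decide

theorem a5_card : Nat.card (alternatingGroup (Fin 5)) = 60 := by
  rw [Nat.card_eq_fintype_card]; decide

end Cfsg.Agent.helper4.Mx
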