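import Mathlib
import Cfsg.Agent.Lib_helper4_MxA
import Cfsg.Agent.Lib_helper4_MxG
import Cfsg.Agent.Lib_helper4_MxH

set_option autoImplicit false
set_option linter.unusedSectionVars false
set_option maxHeartbeats 1600000

/-!
# Maximal subgroups of `PSL₂(F)` containing a Klein four group: the quaternion bound
-/

namespace Cfsg.Agent.helper4.Mx

open Matrix
open scoped LinearAlgebra.Projectivization MatrixGroups
open Cfsg.Agent.helper4.Dk Cfsg.Agent.helper4.Dn

variable {F : Type*} [Field F] [Fintype F]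

/-- lifting a Klein four group of `PSL₂(F)` to a quaternion group -/
theorem klein_lift (h2 : (2 : F) ≠ 0) {x y : Matrix.ProjectiveSpecialLinearGroup (Fin 2) F}
    (hx : x * x = 1) (hy : y * y = 1) (hxy : x * y = y * x) (hx1 : x ≠ 1) (hy1 : y ≠ 1)
    (hne : x ≠ y) :
    ∃ a b : SpecialLinearGroup (Fin 2) F, piF F a = x ∧ piF F b = y ∧ a * a = -1 ∧ b * b = -1 ∧
      a * b = -(b * a) := by
  obtain ⟨a, rfl⟩ := piF_surj' (L := F) x
  obtain ⟨b, rfl⟩ := piF_surj' (L := F) y
  have key : ∀ g : SpecialLinearGroup (Fin 2) F, piF F g * piF F g = 1 → piF F g ≠ 1 →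
      g * g = -1 := by
    intro g hg hg1
    rw [← map_mul, piF_eq_one_iff'] at hg
    rcases hg with hg | hg
    · exfalso
      apply hg1
      rcases eq_of_sq_eq_one h2 hg with h | h
      · rw [h, map_one]
      · rw [h, piF_neg_one']
    · exact hg
  have ha := key a hx hx1
  have hb := key b hy hy1
  have hab1 : piF F (a * b) ≠ 1 := by
    rw [map_mul]
    intro h
    apply hne
    have h1 : piF F a = (piF F b)⁻¹ := eq_inv_of_mul_eq_one_left h
    rw [h1]
    exact inv_eq_of_mul_eq_one_right hy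
  have hab : (a * b) * (a * b) = -1 := by
    apply key (a * b) _ hab1
    rw [map_mul]
    calc piF F a * piF F b * (piF F a * piF F b)
        = piF F a * (piF F b * piF F a) * piF F b := by group
      _ = piF F a * (piF F a * piF F b) * piF F b := by rw [hxy]
      _ = (piF F a * piF F a) * (piF F b * piF F b) := by group
      _ = 1 := by rw [hx, hy, one_mul]
  refine ⟨a, b, rfl, rfl, ha, hb, ?_⟩
  have hai : a⁻¹ = -a := inv_eq_of_mul_eq_one_right (by rw [mul_neg, ha, neg_neg])
  have hbi : b⁻¹ = -b := inv_eq_of_mul_eq_one_right (by rw [mul_neg, hb, neg_neg])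
  have habi : (a * b)⁻¹ = -(a * b) := inv_eq_of_mul_eq_one_right (by rw [mul_neg, hab, neg_neg])
  have h1 : b * a = -(a * b) := by
    rw [← habi, _root_.mul_inv_rev, hai, hbi, neg_mul_neg]
  rw [h1, neg_neg]

variable {K : Type*} [Field K] [Algebra F K] [IsAlgClosed K]
variable {a b : SpecialLinearGroup (Fin 2) F}

/-- **The quaternion bound**: if a maximal subgroup lies in the quaternion group over a small
subfield, it contains all rational points of that group. -/
theorem quat_bound (Q : QS F K a b) {M : Subgroup (Matrix.ProjectiveSpecialLinearGroup (Fin 2) F)}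
    (hM : IsCoatom M) (S : Subfield K) [Finite S]
    (hMS : ∀ m ∈ M, ∃ g : SpecialLinearGroup (Fin 2) F, piF F g = m ∧ Q.Θ g ∈ QY Q.i Q.hi S)
    (hsmall : Nat.card S ^ 4 * 2 < Fintype.card F * (Fintype.card F ^ 2 - 1)) :
    ∀ g : SpecialLinearGroup (Fin 2) F, Q.Θ g ∈ QY Q.i Q.hi S → piF F g ∈ M := by
  obtain ⟨X', hX'⟩ : ∃ X' : Subgroup (SpecialLinearGroup (Fin 2) F),
      X' = (QY Q.i Q.hi S).comap Q.Θ := ⟨_, rfl⟩
  obtain ⟨X, hX⟩ : ∃ X : Subgroup (Matrix.ProjectiveSpecialLinearGroup (Fin 2) F),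
      X = X'.map (piF F) := ⟨_, rfl⟩
  have hMX : M ≤ X := by
    intro m hm
    obtain ⟨g, hg, hgS⟩ := hMS m hm
    rw [hX, Subgroup.mem_map]
    exact ⟨g, by rw [hX']; exact hgS, hg⟩
  have hcardX' : Nat.card X' ≤ Nat.card S ^ 4 * 2 := by
    refine le_trans ?_ (card_QY_le Q.hi S)
    haveI : Finite (QY Q.i Q.hi S) := finite_QY Q.hi S
    have hX'mem : ∀ g, g ∈ X' ↔ Q.Θ g ∈ QY Q.i Q.hi S := by
      intro g; rw [hX']; rfl
    let φ : X' → QY Q.i Q.hi S := fun g => ⟨Q.Θ g.1, (hX'mem g.1).mp g.2⟩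
    apply Nat.card_le_card_of_injective φ
    intro g h hgh
    have := congrArg Subtype.val hgh
    exact Subtype.ext (Q.inj this)
  have hX'top : X' ≠ ⊤ := by
    intro h
    rw [h, Subgroup.card_top, Cfsg.Agent.helper12.card_SL2] at hcardX'
    omega
  have hneg : -1 ∈ X' := by
    rw [hX', Subgroup.mem_comap, Q.neg]
    exact neg_one_mem_QY _ _ _
  have hker : (piF F).ker ≤ X' := by
    intro g hg
    rw [MonoidHom.mem_ker, piF_eq_one_iff'] at hg
    rcases hg with rfl | rfl
    · exact X'.one_mem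
    · exact hneg
  have hcomap : X.comap (piF F) = X' := by
    rw [hX, Subgroup.comap_map_eq, sup_eq_left.mpr hker]
  have hXtop : X ≠ ⊤ := by
    intro h
    apply hX'top
    rw [← hcomap, h, Subgroup.comap_top]
  have hXM : X = M := by
    rcases eq_or_lt_of_le hMX with h | h
    · exact h.symm
    · exact absurd (hM.2 _ h) hXtop
  intro g hg
  rw [← hXM, hX, Subgroup.mem_map]
  exact ⟨g, by rw [hX']; exact hg, rfl⟩

end Cfsg.Agent.helper4.Mx
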