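import Mathlib
import Cfsg.Agent.Lib_helper4_MxI

set_option autoImplicit false
set_option linter.unusedSectionVars false
set_option maxHeartbeats 1600000

/-!
# The master lemma for maximal subgroups containing a Klein four group
-/

namespace Cfsg.Agent.helper4.Mx

open Matrix
open scoped LinearAlgebra.Projectivization MatrixGroups
open Cfsg.Agent.helper4.Dk Cfsg.Agent.helper4.Dn

theorem mem_normalizer_of_conj_mem {G : Type*} [Group G] [Finite G] (V : Subgroup G) (m : G)
    (h : ∀ v ∈ V, m * v * m⁻¹ ∈ V) : m ∈ Subgroup.normalizer (V : Set G) := by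
  have hpow : ∀ n : ℕ, ∀ v ∈ V, m ^ n * v * (m ^ n)⁻¹ ∈ V := by
    intro n
    induction n with
    | zero => intro v hv; simpa using hv
    | succ n ih =>
      intro v hv
      have := ih _ (h v hv)
      have e : m ^ (n + 1) * v * (m ^ (n + 1))⁻¹ = m ^ n * (m * v * m⁻¹) * (m ^ n)⁻¹ := by
        rw [pow_succ]; group
      rw [e]; exact this
  have hinv : ∀ v ∈ V, m⁻¹ * v * m ∈ V := by
    intro v hv
    have hk : 0 < orderOf m := orderOf_pos m
    have e : m⁻¹ = m ^ (orderOf m - 1) := by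
      apply inv_eq_of_mul_eq_one_right
      rw [← pow_succ', Nat.sub_add_cancel hk, pow_orderOf_eq_one]
    have := hpow (orderOf m - 1) v hv
    rw [← e, inv_inv] at this
    exact this
  rw [Subgroup.mem_normalizer_iff]
  intro v
  constructor
  · exact h v
  · intro hv
    have := hinv _ hv
    have e : m⁻¹ * (m * v * m⁻¹) * m = v := by group
    rwa [e] at this

theorem klein_normalized {G : Type*} [Group G] [Finite G] {x y : G} (hx : x * x = 1)
    (hy : y * y = 1) (hxy : x * y = y * x) (m : G)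
    (h1 : m * x * m⁻¹ ∈ kleinSub x y hx hy hxy) (h2 : m * y * m⁻¹ ∈ kleinSub x y hx hy hxy) :
    m ∈ Subgroup.normalizer ((kleinSub x y hx hy hxy : Subgroup G) : Set G) := by
  apply mem_normalizer_of_conj_mem
  rintro v (rfl | rfl | rfl | rfl)
  · simp [Subgroup.one_mem]
  · exact h1
  · exact h2
  · have := (kleinSub x y hx hy hxy).mul_mem h1 h2
    have e : m * x * m⁻¹ * (m * y * m⁻¹) = m * (x * y) * m⁻¹ := by group
    rwa [e] at this

variable {F : Type*} [Field F] [Fintype F]

/-- traces of elements of finite order in `SL₂(F)` -/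
theorem trace_pow_eq_F (p : ℕ) [Fact p.Prime] [CharP F p] (e : ℕ)
    (g : SpecialLinearGroup (Fin 2) F) {n j : ℕ} (hn : g ^ (n * p ^ j) = 1)
    (hdvd : n ∣ p ^ e - 1 ∨ n ∣ p ^ e + 1) : (tr g) ^ p ^ e = tr g := by
  haveI : CharP (AlgebraicClosure F) p :=
    charP_of_injective_algebraMap (algebraMap F (AlgebraicClosure F)).injective p
  have h1 : (iota F (AlgebraicClosure F) g) ^ (n * p ^ j) = 1 := by
    rw [← map_pow, hn, map_one]
  have h2 := trace_pow_eq p e _ h1 hdvd
  rw [tr_iota, ← map_pow] at h2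
  exact (algebraMap F (AlgebraicClosure F)).injective h2

/-- **Master lemma** for maximal subgroups of `PSL₂(F)` containing a Klein four group. -/
theorem klein_master (p : ℕ) [Fact p.Prime] [CharP F p] (h2 : (2 : F) ≠ 0)
    {M : Subgroup (Matrix.ProjectiveSpecialLinearGroup (Fin 2) F)} (hM : IsCoatom M)
    {x y : Matrix.ProjectiveSpecialLinearGroup (Fin 2) F}
    (hx : x * x = 1) (hy : y * y = 1) (hxy : x * y = y * x) (hx1 : x ≠ 1) (hy1 : y ≠ 1)
    (hne : x ≠ y) (hxM : x ∈ M) (hyM : y ∈ M) :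
    ∃ X : ℕ → Subgroup (Matrix.ProjectiveSpecialLinearGroup (Fin 2) F),
      (∀ e, x ∈ X e ∧ y ∈ X e) ∧
      (∃ w : Matrix.ProjectiveSpecialLinearGroup (Fin 2) F, orderOf w = 3 ∧ w * x * w⁻¹ = y ∧
        w * y * w⁻¹ = x * y ∧ ∀ e, w ∈ X e) ∧
      (∀ s : F, 2 * s ^ 2 = 1 → ∃ r : Matrix.ProjectiveSpecialLinearGroup (Fin 2) F,
        r * r = x ∧ r * x * r⁻¹ = x ∧ r * y * r⁻¹ = x * y ∧ ∀ e, r ∈ X e) ∧
      (∀ e, e ≠ 0 → M ≤ X e →
        p ^ (4 * e) * 2 < Fintype.card F * (Fintype.card F ^ 2 - 1) →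
        X e = M ∧ ∃ m ∈ X e, orderOf m = p) ∧
      (∀ e, e ≠ 0 → (∀ g' : SpecialLinearGroup (Fin 2) F, piF F g' ∈ M →
        (tr g') ^ p ^ e = tr g') → M ≤ X e) := by
  classical
  obtain ⟨a, b, rfl, rfl, ha, hb, hab⟩ := klein_lift h2 hx hy hxy hx1 hy1 hne
  obtain ⟨Q⟩ := exists_QS (K := AlgebraicClosure F) h2 ha hab
  haveI : CharP (AlgebraicClosure F) p :=
    charP_of_injective_algebraMap (algebraMap F (AlgebraicClosure F)).injective p
  have h2K : (2 : AlgebraicClosure F) ≠ 0 := by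
    intro h
    apply h2
    apply (algebraMap F (AlgebraicClosure F)).injective
    rw [map_ofNat, h, map_zero]
  have hpodd : Odd p := by
    apply (Fact.out : p.Prime).odd_of_ne_two
    rintro rfl
    apply h2
    have := CharP.cast_eq_zero F 2
    exact_mod_cast this
  refine ⟨fun e => ((QY Q.i Q.hi (frobS p e)).comap Q.Θ).map (piF F), ?_, ?_, ?_, ?_, ?_⟩
  · intro e
    exact ⟨Subgroup.mem_map_of_mem _ (Q.mem_a _), Subgroup.mem_map_of_mem _ (Q.mem_b _)⟩
  · obtain ⟨w, hw3, hwa, hwb, hw1, hw2, hwS⟩ := Q.exists_omega h2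
    refine ⟨piF F w, ?_, ?_, ?_, ?_⟩
    · apply orderOf_eq_prime
      · have : piF F w ^ 3 = piF F (w * w * w) := by
          rw [map_mul, map_mul, pow_succ, pow_two]
        rw [this, hw3, piF_neg_one']
      · intro h
        rcases (piF_eq_one_iff' w).mp h with h | h
        · exact hw1 h
        · exact hw2 h
    · rw [← map_mul, hwa, map_mul]; group
    · rw [← map_mul, hwb, map_mul, map_mul]; group
    · intro e
      exact Subgroup.mem_map_of_mem _ (hwS _)
  · intro s hs
    obtain ⟨r, hrr, hra, hrb, hrS⟩ := Q.exists_rho h2 s hs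
    refine ⟨piF F r, ?_, ?_, ?_, ?_⟩
    · rw [← map_mul, hrr]
    · rw [← map_mul, hra, map_mul]; group
    · rw [← map_mul, hrb, map_mul, map_mul]; group
    · intro e
      exact Subgroup.mem_map_of_mem _ (hrS _)
  · intro e he hMX hsmall
    obtain ⟨hfin, hcard⟩ := frobS_finite (K := AlgebraicClosure F) p he
    haveI : Finite (frobS (K := AlgebraicClosure F) p e) := hfin
    have hcard' : Nat.card (frobS (K := AlgebraicClosure F) p e) ≤ p ^ e := hcard
    have hsmall' : Nat.card (frobS (K := AlgebraicClosure F) p e) ^ 4 * 2 <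
        Fintype.card F * (Fintype.card F ^ 2 - 1) := by
      refine lt_of_le_of_lt ?_ hsmall
      have : Nat.card (frobS (K := AlgebraicClosure F) p e) ^ 4 ≤ (p ^ e) ^ 4 :=
        Nat.pow_le_pow_left hcard' 4
      rw [← pow_mul, mul_comm e 4] at this
      omega
    have hMS : ∀ m ∈ M, ∃ g : SpecialLinearGroup (Fin 2) F, piF F g = m ∧
        Q.Θ g ∈ QY Q.i Q.hi (frobS p e) := by
      intro m hm
      obtain ⟨g, hg, rfl⟩ := Subgroup.mem_map.mp (hMX hm)
      exact ⟨g, rfl, hg⟩
    have hall := quat_bound Q hM (frobS p e) hMS hsmall'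
    have hXM : ((QY Q.i Q.hi (frobS p e)).comap Q.Θ).map (piF F) = M := by
      apply le_antisymm
      · rintro m ⟨g, hg, rfl⟩
        exact hall g hg
      · exact hMX
    refine ⟨hXM, ?_⟩
    obtain ⟨g, hg1, hgp, hgS⟩ := Q.exists_unip p h2
    refine ⟨piF F g, Subgroup.mem_map_of_mem _ (hgS _), ?_⟩
    apply orderOf_eq_prime
    · rw [← map_pow, hgp, map_one]
    · intro h
      rcases (piF_eq_one_iff' g).mp h with h | h
      · exact hg1 h
      · rw [h, hpodd.neg_one_pow] at hgp
        exact neg_one_ne_one h2 hgp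
  · intro e he htr m hm
    obtain ⟨g, rfl⟩ := piF_surj' (L := F) m
    have hmem : ∀ g' : SpecialLinearGroup (Fin 2) F, piF F g' ∈ M →
        algebraMap F (AlgebraicClosure F) (tr g') ∈ frobS (K := AlgebraicClosure F) p e := by
      intro g' hg'
      rw [mem_frobS, ← map_pow, htr g' hg']
    refine Subgroup.mem_map_of_mem _ ?_
    rw [Subgroup.mem_comap]
    apply Q.mem_of_traces h2K
    · exact hmem _ hm
    · apply hmem
      rw [map_mul]; exact M.mul_mem hm hxM
    · apply hmem
      rw [map_mul]; exact M.mul_mem hm hyM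
    · apply hmem
      rw [map_mul, map_mul]; exact M.mul_mem hm (M.mul_mem hxM hyM)

end Cfsg.Agent.helper4.Mx
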