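import Mathlib
import Cfsg.Agent.Lib_helper4_MxJ
import Cfsg.Agent.S0803
import Cfsg.Agent.S0804

set_option autoImplicit false
set_option linter.unusedSectionVars false
set_option maxHeartbeats 1600000

/-!
# Maximal subgroups of `PSL₂(F)` isomorphic to `A₄`, `S₄`, `A₅`
-/

namespace Cfsg.Agent.helper4.Mx

open Matrix
open scoped LinearAlgebra.Projectivization MatrixGroups
open Cfsg.Agent.helper4.Dk Cfsg.Agent.helper4.Dn

theorem order_dvd_of_mem {G : Type*} [Group G] (Z : Subgroup G) {w : G} (hw : w ∈ Z) :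
    orderOf w ∣ Nat.card Z := by
  have := orderOf_dvd_natCard (⟨w, hw⟩ : Z)
  rwa [Subgroup.orderOf_mk] at this

theorem small_bound_one {p Q : ℕ} (hp : 3 ≤ p) (hQ : p ^ 2 ≤ Q) :
    p ^ (4 * 1) * 2 < Q * (Q ^ 2 - 1) := by
  have h1 : p ^ 2 * ((p ^ 2) ^ 2 - 1) ≤ Q * (Q ^ 2 - 1) :=
    Nat.mul_le_mul hQ (Nat.sub_le_sub_right (Nat.pow_le_pow_left hQ 2) 1)
  refine lt_of_lt_of_le ?_ h1
  have h9 : 9 ≤ p ^ 2 := by nlinarith
  obtain ⟨t, ht⟩ : ∃ t, t = p ^ 2 := ⟨_, rfl⟩
  have e1 : p ^ (4 * 1) = t ^ 2 := by rw [ht]; ring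
  rw [e1, ← ht]
  have h2 : 1 ≤ t ^ 2 := Nat.one_le_pow _ _ (by omega)
  have h3 : t * (t ^ 2 - 1) = t ^ 3 - t := by
    rw [Nat.mul_sub, mul_one]; ring_nf
  rw [h3]
  have h4 : t ^ 2 * 2 + t < t ^ 3 := by nlinarith
  omega

theorem small_bound_two {p Q : ℕ} (hp : 3 ≤ p) (hQ : p ^ 3 ≤ Q) :
    p ^ (4 * 2) * 2 < Q * (Q ^ 2 - 1) := by
  have h1 : p ^ 3 * ((p ^ 3) ^ 2 - 1) ≤ Q * (Q ^ 2 - 1) :=
    Nat.mul_le_mul hQ (Nat.sub_le_sub_right (Nat.pow_le_pow_left hQ 2) 1)
  refine lt_of_lt_of_le ?_ h1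
  have h3 : p ^ 3 * ((p ^ 3) ^ 2 - 1) = p ^ 9 - p ^ 3 := by
    rw [Nat.mul_sub, mul_one]; ring_nf
  rw [h3]
  have e1 : p ^ (4 * 2) = p ^ 8 := by norm_num
  rw [e1]
  have h27 : 27 ≤ p ^ 3 := by nlinarith [Nat.pow_le_pow_left hp 3]
  have h4 : p ^ 8 * 2 + p ^ 3 < p ^ 9 := by
    have h5 : p ^ 9 = p * p ^ 8 := by ring
    have h6 : p ^ 3 < p ^ 8 := Nat.pow_lt_pow_right (by omega) (by norm_num)
    have h8 : 3 * p ^ 8 ≤ p * p ^ 8 := Nat.mul_le_mul_right _ hp
    omega
  omega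

variable {F : Type*} [Field F] [Fintype F]

local notation "G" => Matrix.ProjectiveSpecialLinearGroup (Fin 2) F

theorem pow_card_facts (p : ℕ) [Fact p.Prime] [CharP F p] (h2 : (2 : F) ≠ 0) :
    3 ≤ p ∧ p % 2 = 1 := by
  have hp := (Fact.out : p.Prime)
  have hp2 : p ≠ 2 := by
    rintro rfl
    apply h2
    have := CharP.cast_eq_zero F 2
    exact_mod_cast this
  have := hp.two_le
  have hodd := hp.odd_of_ne_two hp2
  rw [Nat.odd_iff] at hodd
  omega

/-- maximal subgroups isomorphic to `A₄` -/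
theorem a4_case (p : ℕ) [Fact p.Prime] [CharP F p] (h2 : (2 : F) ≠ 0) (hsimp : IsSimpleGroup G)
    {M : Subgroup G} (hM : IsCoatom M) (e : M ≃* alternatingGroup (Fin 4)) (hp3 : p ≠ 3) {f : ℕ}
    (hq : Fintype.card F = p ^ f) : Fintype.card F = p ∧ (p % 8 = 3 ∨ p % 8 = 5) := by
  classical
  haveI := hsimp
  obtain ⟨hp3', hpodd⟩ := pow_card_facts (F := F) p h2
  have hpp := (Fact.out : p.Prime)
  obtain ⟨r1, r2, r3, r4, r5, r6⟩ := a4_rel
  obtain ⟨x₀, hx₀⟩ : ∃ x₀ : M, x₀ = e.symm xA4 := ⟨_, rfl⟩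
  obtain ⟨y₀, hy₀⟩ : ∃ y₀ : M, y₀ = e.symm yA4 := ⟨_, rfl⟩
  have hx : (x₀ : G) * x₀ = 1 := by
    have : x₀ * x₀ = 1 := by rw [hx₀, ← map_mul, r1, map_one]
    exact_mod_cast congrArg Subtype.val this
  have hy : (y₀ : G) * y₀ = 1 := by
    have : y₀ * y₀ = 1 := by rw [hy₀, ← map_mul, r2, map_one]
    exact_mod_cast congrArg Subtype.val this
  have hxy : (x₀ : G) * y₀ = y₀ * x₀ := by
    have : x₀ * y₀ = y₀ * x₀ := by rw [hx₀, hy₀, ← map_mul, r3, map_mul]
    exact_mod_cast congrArg Subtype.val this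
  have hx1 : (x₀ : G) ≠ 1 := by
    intro h
    apply r4
    have : x₀ = 1 := Subtype.ext h
    rw [hx₀] at this
    simpa using this
  have hy1 : (y₀ : G) ≠ 1 := by
    intro h
    apply r5
    have : y₀ = 1 := Subtype.ext h
    rw [hy₀] at this
    simpa using this
  have hne : (x₀ : G) ≠ y₀ := by
    intro h
    apply r6
    have : x₀ = y₀ := Subtype.ext h
    rw [hx₀, hy₀] at this
    exact e.symm.injective this
  obtain ⟨V, hV⟩ : ∃ V, V = kleinSub (x₀ : G) y₀ hx hy hxy := ⟨_, rfl⟩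
  have hVM : V ≤ M := by
    rw [hV]
    rintro v (rfl | rfl | rfl | rfl)
    · exact M.one_mem
    · exact x₀.2
    · exact y₀.2
    · exact M.mul_mem x₀.2 y₀.2
  have hxV : (x₀ : G) ∈ V := by rw [hV]; exact Or.inr (Or.inl rfl)
  have hyV : (y₀ : G) ∈ V := by rw [hV]; exact Or.inr (Or.inr (Or.inl rfl))
  have hMN : M ≤ Subgroup.normalizer (V : Set G) := by
    intro m hm
    rw [hV]
    obtain ⟨n1, n2⟩ := a4_normal (e ⟨m, hm⟩)
    have key : ∀ z : alternatingGroup (Fin 4), (e ⟨m, hm⟩ * z * (e ⟨m, hm⟩)⁻¹ = xA4 ∨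
        e ⟨m, hm⟩ * z * (e ⟨m, hm⟩)⁻¹ = yA4 ∨ e ⟨m, hm⟩ * z * (e ⟨m, hm⟩)⁻¹ = xA4 * yA4) →
        m * ((e.symm z : M) : G) * m⁻¹ ∈ kleinSub (x₀ : G) y₀ hx hy hxy := by
      intro z hz
      have e1 : (⟨m, hm⟩ : M) * e.symm z * (⟨m, hm⟩ : M)⁻¹ =
          e.symm (e ⟨m, hm⟩ * z * (e ⟨m, hm⟩)⁻¹) := by
        rw [map_mul, map_mul, map_inv, e.symm_apply_apply]
      have e2 : m * ((e.symm z : M) : G) * m⁻¹ =
          ((e.symm (e ⟨m, hm⟩ * z * (e ⟨m, hm⟩)⁻¹) : M) : G) := by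
        rw [← e1]; rfl
      rw [e2]
      rcases hz with h | h | h
      · rw [h, ← hx₀]; exact Or.inr (Or.inl rfl)
      · rw [h, ← hy₀]; exact Or.inr (Or.inr (Or.inl rfl))
      · rw [h, map_mul, ← hx₀, ← hy₀]; exact Or.inr (Or.inr (Or.inr rfl))
    apply klein_normalized
    · have := key _ n1
      rwa [← hx₀] at this
    · have := key _ n2
      rwa [← hy₀] at this
  have hVbot : V ≠ ⊥ := by
    intro h
    rw [h, Subgroup.mem_bot] at hxV
    exact hx1 hxV
  have hVtop : V ≠ ⊤ := fun h => hM.1 (top_le_iff.mp (h ▸ hVM))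
  have hN := normalizer_eq_of_coatom hM hVbot hVtop hMN
  have hVcard : Nat.card V = 4 := by
    rw [hV]; exact card_kleinSub hx hy hxy hx1 hy1 hne
  have hMcard : Nat.card M = 12 := by
    rw [Nat.card_congr e.toEquiv, a4_card]
  obtain ⟨X, hX1, ⟨w, hw3, hwx, hwy, hwX⟩, hX3, hX4, -⟩ :=
    klein_master p h2 hM hx hy hxy hx1 hy1 hne x₀.2 y₀.2
  have hVX : ∀ k, V ≤ X k := by
    intro k
    rw [hV]
    rintro v (rfl | rfl | rfl | rfl)
    · exact (X k).one_mem
    · exact (hX1 k).1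
    · exact (hX1 k).2
    · exact (X k).mul_mem (hX1 k).1 (hX1 k).2
  have hwM : w ∈ M := by
    rw [← hN, hV]
    apply klein_normalized
    · rw [hwx]; exact Or.inr (Or.inr (Or.inl rfl))
    · rw [hwy]; exact Or.inr (Or.inr (Or.inr rfl))
  have hMX : M ≤ X 1 := by
    have hZ : M ⊓ X 1 = M := by
      apply Subgroup.eq_of_le_of_card_ge inf_le_left
      have h4 : 4 ∣ Nat.card (M ⊓ X 1 : Subgroup G) := by
        rw [← hVcard]
        exact Subgroup.card_dvd_of_le (le_inf hVM (hVX 1))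
      have h3 : 3 ∣ Nat.card (M ⊓ X 1 : Subgroup G) := by
        rw [← hw3]
        exact order_dvd_of_mem _ ⟨hwM, hwX 1⟩
      have h12 : 12 ∣ Nat.card (M ⊓ X 1 : Subgroup G) :=
        Nat.Coprime.mul_dvd_of_dvd_of_dvd (by norm_num) h4 h3
      have hpos : 0 < Nat.card (M ⊓ X 1 : Subgroup G) := Nat.card_pos
      rw [hMcard]
      exact Nat.le_of_dvd hpos h12
    rw [← hZ]; exact inf_le_right
  have hf1 : f = 1 := by
    by_contra hf
    have hf0 : f ≠ 0 := by
      rintro rfl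
      have := Fintype.one_lt_card (α := F)
      rw [hq] at this; simp at this
    have hf2 : 2 ≤ f := by omega
    have hQ : p ^ 2 ≤ Fintype.card F := by
      rw [hq]; exact Nat.pow_le_pow_right (by omega) hf2
    obtain ⟨hXM, m, hmX, hmp⟩ := hX4 1 one_ne_zero hMX (small_bound_one hp3' hQ)
    rw [hXM] at hmX
    have := order_dvd_of_mem M hmX
    rw [hmp, hMcard] at this
    have hle := Nat.le_of_dvd (by norm_num) this
    interval_cases p <;> try omega
  refine ⟨by rw [hq, hf1, pow_one], ?_⟩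
  by_contra hmod
  have hq8 : Fintype.card F % 8 ≠ 3 ∧ Fintype.card F % 8 ≠ 5 := by
    rw [hq, hf1, pow_one]; omega
  obtain ⟨t, ht⟩ := FiniteField.isSquare_two_iff.mpr hq8
  have hs : 2 * (t / 2) ^ 2 = 1 := by
    field_simp
    rw [pow_two, ← ht]
  obtain ⟨r, hrr, hrx, hry, -⟩ := hX3 _ hs
  have hrM : r ∈ M := by
    rw [← hN, hV]
    apply klein_normalized
    · rw [hrx]; exact Or.inr (Or.inl rfl)
    · rw [hry]; exact Or.inr (Or.inr (Or.inr rfl))
  apply a4_no_sqrt (e ⟨r, hrM⟩)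
  rw [← map_mul]
  have : (⟨r, hrM⟩ : M) * ⟨r, hrM⟩ = x₀ := Subtype.ext hrr
  rw [this, hx₀, e.apply_symm_apply]

theorem mod8_of_sq {q : ℕ} (h : q ^ 2 % 16 = 1) : q % 8 = 1 ∨ q % 8 = 7 := by
  have h1 : q ^ 2 % 16 = (q % 16) ^ 2 % 16 := Nat.pow_mod q 2 16
  rw [h1] at h
  have h2 : q % 16 < 16 := Nat.mod_lt _ (by norm_num)
  have h3 : q % 8 = (q % 16) % 8 := by omega
  rw [h3]
  interval_cases (q % 16) <;> simp_all

/-- maximal subgroups isomorphic to `S₄` -/
theorem s4_case (p : ℕ) [Fact p.Prime] [CharP F p] (h2 : (2 : F) ≠ 0) (hsimp : IsSimpleGroup G)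
    {M : Subgroup G} (hM : IsCoatom M) (e : M ≃* Equiv.Perm (Fin 4)) (hp3 : p ≠ 3) {f : ℕ}
    (hq : Fintype.card F = p ^ f) : Fintype.card F = p ∧ (p % 8 = 1 ∨ p % 8 = 7) := by
  classical
  haveI := hsimp
  obtain ⟨hp3', hpodd⟩ := pow_card_facts (F := F) p h2
  have hpp := (Fact.out : p.Prime)
  obtain ⟨r1, r2, r3, r4, r5, r6⟩ := s4_rel
  obtain ⟨x₀, hx₀⟩ : ∃ x₀ : M, x₀ = e.symm xS4 := ⟨_, rfl⟩
  obtain ⟨y₀, hy₀⟩ : ∃ y₀ : M, y₀ = e.symm yS4 := ⟨_, rfl⟩
  have hx : (x₀ : G) * x₀ = 1 := by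
    have : x₀ * x₀ = 1 := by rw [hx₀, ← map_mul, r1, map_one]
    exact_mod_cast congrArg Subtype.val this
  have hy : (y₀ : G) * y₀ = 1 := by
    have : y₀ * y₀ = 1 := by rw [hy₀, ← map_mul, r2, map_one]
    exact_mod_cast congrArg Subtype.val this
  have hxy : (x₀ : G) * y₀ = y₀ * x₀ := by
    have : x₀ * y₀ = y₀ * x₀ := by rw [hx₀, hy₀, ← map_mul, r3, map_mul]
    exact_mod_cast congrArg Subtype.val this
  have hx1 : (x₀ : G) ≠ 1 := by
    intro h
    apply r4
    have : x₀ = 1 := Subtype.ext h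
    rw [hx₀] at this
    simpa using this
  have hy1 : (y₀ : G) ≠ 1 := by
    intro h
    apply r5
    have : y₀ = 1 := Subtype.ext h
    rw [hy₀] at this
    simpa using this
  have hne : (x₀ : G) ≠ y₀ := by
    intro h
    apply r6
    have : x₀ = y₀ := Subtype.ext h
    rw [hx₀, hy₀] at this
    exact e.symm.injective this
  obtain ⟨V, hV⟩ : ∃ V, V = kleinSub (x₀ : G) y₀ hx hy hxy := ⟨_, rfl⟩
  have hVM : V ≤ M := by
    rw [hV]
    rintro v (rfl | rfl | rfl | rfl)
    · exact M.one_mem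
    · exact x₀.2
    · exact y₀.2
    · exact M.mul_mem x₀.2 y₀.2
  have hxV : (x₀ : G) ∈ V := by rw [hV]; exact Or.inr (Or.inl rfl)
  have hyV : (y₀ : G) ∈ V := by rw [hV]; exact Or.inr (Or.inr (Or.inl rfl))
  have hMN : M ≤ Subgroup.normalizer (V : Set G) := by
    intro m hm
    rw [hV]
    obtain ⟨n1, n2⟩ := s4_normal (e ⟨m, hm⟩)
    have key : ∀ z : Equiv.Perm (Fin 4), (e ⟨m, hm⟩ * z * (e ⟨m, hm⟩)⁻¹ = xS4 ∨
        e ⟨m, hm⟩ * z * (e ⟨m, hm⟩)⁻¹ = yS4 ∨ e ⟨m, hm⟩ * z * (e ⟨m, hm⟩)⁻¹ = xS4 * yS4) →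
        m * ((e.symm z : M) : G) * m⁻¹ ∈ kleinSub (x₀ : G) y₀ hx hy hxy := by
      intro z hz
      have e1 : (⟨m, hm⟩ : M) * e.symm z * (⟨m, hm⟩ : M)⁻¹ =
          e.symm (e ⟨m, hm⟩ * z * (e ⟨m, hm⟩)⁻¹) := by
        rw [map_mul, map_mul, map_inv, e.symm_apply_apply]
      have e2 : m * ((e.symm z : M) : G) * m⁻¹ =
          ((e.symm (e ⟨m, hm⟩ * z * (e ⟨m, hm⟩)⁻¹) : M) : G) := by
        rw [← e1]; rfl
      rw [e2]
      rcases hz with h | h | h
      · rw [h, ← hx₀]; exact Or.inr (Or.inl rfl)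
      · rw [h, ← hy₀]; exact Or.inr (Or.inr (Or.inl rfl))
      · rw [h, map_mul, ← hx₀, ← hy₀]; exact Or.inr (Or.inr (Or.inr rfl))
    apply klein_normalized
    · have := key _ n1
      rwa [← hx₀] at this
    · have := key _ n2
      rwa [← hy₀] at this
  have hVbot : V ≠ ⊥ := by
    intro h
    rw [h, Subgroup.mem_bot] at hxV
    exact hx1 hxV
  have hVtop : V ≠ ⊤ := fun h => hM.1 (top_le_iff.mp (h ▸ hVM))
  have hN := normalizer_eq_of_coatom hM hVbot hVtop hMN
  have hVcard : Nat.card V = 4 := by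
    rw [hV]; exact card_kleinSub hx hy hxy hx1 hy1 hne
  have hMcard : Nat.card M = 24 := by
    rw [Nat.card_congr e.toEquiv, s4_card]
  obtain ⟨X, hX1, ⟨w, hw3, hwx, hwy, hwX⟩, hX3, hX4, -⟩ :=
    klein_master p h2 hM hx hy hxy hx1 hy1 hne x₀.2 y₀.2
  have hVX : ∀ k, V ≤ X k := by
    intro k
    rw [hV]
    rintro v (rfl | rfl | rfl | rfl)
    · exact (X k).one_mem
    · exact (hX1 k).1
    · exact (hX1 k).2
    · exact (X k).mul_mem (hX1 k).1 (hX1 k).2
  have hwM : w ∈ M := by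
    rw [← hN, hV]
    apply klein_normalized
    · rw [hwx]; exact Or.inr (Or.inr (Or.inl rfl))
    · rw [hwy]; exact Or.inr (Or.inr (Or.inr rfl))
  have hq8 : Fintype.card F % 8 = 1 ∨ Fintype.card F % 8 = 7 := by
    apply mod8_of_sq
    exact (Cfsg.Agent.S0803.result (F := F) rfl).mp ⟨M, ⟨e⟩⟩
  obtain ⟨t, ht⟩ := FiniteField.isSquare_two_iff.mpr (by omega : Fintype.card F % 8 ≠ 3 ∧ Fintype.card F % 8 ≠ 5)
  have hs : 2 * (t / 2) ^ 2 = 1 := by
    field_simp
    rw [pow_two, ← ht]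
  obtain ⟨r, hrr, hrx, hry, hrX⟩ := hX3 _ hs
  have hrM : r ∈ M := by
    rw [← hN, hV]
    apply klein_normalized
    · rw [hrx]; exact Or.inr (Or.inl rfl)
    · rw [hry]; exact Or.inr (Or.inr (Or.inr rfl))
  have hsq : e ⟨r, hrM⟩ * e ⟨r, hrM⟩ = xS4 := by
    rw [← map_mul]
    have : (⟨r, hrM⟩ : M) * ⟨r, hrM⟩ = x₀ := Subtype.ext hrr
    rw [this, hx₀, e.apply_symm_apply]
  have hMX : M ≤ X 1 := by
    have hZ : M ⊓ X 1 = M := by
      apply Subgroup.eq_of_le_of_card_ge inf_le_left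
      have h4 : 4 ∣ Nat.card (M ⊓ X 1 : Subgroup G) := by
        rw [← hVcard]
        exact Subgroup.card_dvd_of_le (le_inf hVM (hVX 1))
      have h3 : 3 ∣ Nat.card (M ⊓ X 1 : Subgroup G) := by
        rw [← hw3]
        exact order_dvd_of_mem _ ⟨hwM, hwX 1⟩
      have h12 : 12 ∣ Nat.card (M ⊓ X 1 : Subgroup G) :=
        Nat.Coprime.mul_dvd_of_dvd_of_dvd (by norm_num) h4 h3
      have hdvd : Nat.card (M ⊓ X 1 : Subgroup G) ∣ 24 := by
        rw [← hMcard]
        exact Subgroup.card_dvd_of_le inf_le_left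
      have hpos : 0 < Nat.card (M ⊓ X 1 : Subgroup G) := Nat.card_pos
      rw [hMcard]
      by_contra hlt
      push Not at hlt
      have h12' : Nat.card (M ⊓ X 1 : Subgroup G) = 12 := by
        obtain ⟨c, hc⟩ := h12
        obtain ⟨d, hd⟩ := hdvd
        have : c = 1 := by
          rcases c with _ | _ | c
          · omega
          · rfl
          · omega
        omega
      -- index two
      obtain ⟨Z', hZ'⟩ : ∃ Z' : Subgroup (Equiv.Perm (Fin 4)),
          Z' = ((M ⊓ X 1 : Subgroup G).subgroupOf M).map e.toMonoidHom := ⟨_, rfl⟩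
      have hZ'card : Nat.card Z' = 12 := by
        rw [hZ', Subgroup.card_map_of_injective e.injective,
          Nat.card_congr (Subgroup.subgroupOfEquivOfLe (inf_le_left : M ⊓ X 1 ≤ M)).toEquiv, h12']
      have hidx : Z'.index = 2 := by
        have := Z'.index_mul_card
        rw [hZ'card, s4_card] at this
        omega
      have hZA := Equiv.Perm.eq_alternatingGroup_of_index_eq_two hidx
      have hrZ' : e ⟨r, hrM⟩ ∈ Z' := by
        rw [hZ']
        apply Subgroup.mem_map_of_mem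
        rw [Subgroup.mem_subgroupOf]
        exact ⟨hrM, hrX 1⟩
      rw [hZA, Equiv.Perm.mem_alternatingGroup] at hrZ'
      have := s4_sqrt_sign _ hsq
      rw [hrZ'] at this
      exact absurd this (by decide)
    rw [← hZ]; exact inf_le_right
  have hf1 : f = 1 := by
    by_contra hf
    have hf0 : f ≠ 0 := by
      rintro rfl
      have := Fintype.one_lt_card (α := F)
      rw [hq] at this; simp at this
    have hf2 : 2 ≤ f := by omega
    have hQ : p ^ 2 ≤ Fintype.card F := by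
      rw [hq]; exact Nat.pow_le_pow_right (by omega) hf2
    obtain ⟨hXM, m, hmX, hmp⟩ := hX4 1 one_ne_zero hMX (small_bound_one hp3' hQ)
    rw [hXM] at hmX
    have := order_dvd_of_mem M hmX
    rw [hmp, hMcard] at this
    have hle := Nat.le_of_dvd (by norm_num) this
    interval_cases p <;> try omega
  refine ⟨by rw [hq, hf1, pow_one], ?_⟩
  rw [hq, hf1, pow_one] at hq8
  exact hq8

theorem pow_mod_aux (f : ℕ) : (3 ^ f % 8 = 1 ∧ 9 ^ f % 5 = 1) ∨ (3 ^ f % 8 = 3 ∧ 9 ^ f % 5 = 4) := by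
  induction f with
  | zero => left; simp
  | succ f ih =>
    rw [pow_succ, pow_succ]
    rcases ih with ⟨h1, h2⟩ | ⟨h1, h2⟩
    · right; omega
    · left; omega

/-- maximal subgroups isomorphic to `A₅` -/
theorem a5_case (p : ℕ) [Fact p.Prime] [CharP F p] (h2 : (2 : F) ≠ 0)
    {M : Subgroup G} (hM : IsCoatom M) (e : M ≃* alternatingGroup (Fin 5)) (hp5 : p ≠ 5) {f : ℕ}
    (hq : Fintype.card F = p ^ f) (h5 : 5 ≤ Fintype.card F) :
    (Fintype.card F = p ∧ (p % 10 = 1 ∨ p % 10 = 9)) ∨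
      (Fintype.card F = p ^ 2 ∧ (p % 10 = 3 ∨ p % 10 = 7)) := by
  classical
  obtain ⟨hp3', hpodd⟩ := pow_card_facts (F := F) p h2
  have hpp := (Fact.out : p.Prime)
  obtain ⟨r1, r2, r3, r4, r5, r6⟩ := a5_rel
  obtain ⟨x₀, hx₀⟩ : ∃ x₀ : M, x₀ = e.symm xA5 := ⟨_, rfl⟩
  obtain ⟨y₀, hy₀⟩ : ∃ y₀ : M, y₀ = e.symm yA5 := ⟨_, rfl⟩
  have hx : (x₀ : G) * x₀ = 1 := by
    have : x₀ * x₀ = 1 := by rw [hx₀, ← map_mul, r1, map_one]
    exact_mod_cast congrArg Subtype.val this
  have hy : (y₀ : G) * y₀ = 1 := by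
    have : y₀ * y₀ = 1 := by rw [hy₀, ← map_mul, r2, map_one]
    exact_mod_cast congrArg Subtype.val this
  have hxy : (x₀ : G) * y₀ = y₀ * x₀ := by
    have : x₀ * y₀ = y₀ * x₀ := by rw [hx₀, hy₀, ← map_mul, r3, map_mul]
    exact_mod_cast congrArg Subtype.val this
  have hx1 : (x₀ : G) ≠ 1 := by
    intro h
    apply r4
    have : x₀ = 1 := Subtype.ext h
    rw [hx₀] at this
    simpa using this
  have hy1 : (y₀ : G) ≠ 1 := by
    intro h
    apply r5
    have : y₀ = 1 := Subtype.ext h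
    rw [hy₀] at this
    simpa using this
  have hne : (x₀ : G) ≠ y₀ := by
    intro h
    apply r6
    have : x₀ = y₀ := Subtype.ext h
    rw [hx₀, hy₀] at this
    exact e.symm.injective this
  have hMcard : Nat.card M = 60 := by
    rw [Nat.card_congr e.toEquiv, a5_card]
  obtain ⟨X, hX1, -, hX3, hX4, hX5⟩ :=
    klein_master p h2 hM hx hy hxy hx1 hy1 hne x₀.2 y₀.2
  have hdiv5 : 5 ∣ Fintype.card F * (Fintype.card F ^ 2 - 1) :=
    (Cfsg.Agent.S0804.result (F := F) rfl).mp ⟨M, ⟨e⟩⟩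
  have hf0 : f ≠ 0 := by
    rintro rfl
    have := Fintype.one_lt_card (α := F)
    rw [hq] at this; simp at this
  have hp10 : p % 10 = 1 ∨ p % 10 = 3 ∨ p % 10 = 7 ∨ p % 10 = 9 := by
    have h5' : p % 5 ≠ 0 := by
      intro h
      have : 5 ∣ p := Nat.dvd_of_mod_eq_zero h
      rcases (Nat.dvd_prime hpp).mp this with h | h
      · omega
      · exact hp5 h.symm
    omega
  -- traces
  have htrace : ∀ ev : ℕ, (4 ∣ p ^ ev - 1 ∨ 4 ∣ p ^ ev + 1) →
      (p = 3 ∨ (6 ∣ p ^ ev - 1 ∨ 6 ∣ p ^ ev + 1)) → (10 ∣ p ^ ev - 1 ∨ 10 ∣ p ^ ev + 1) →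
      (2 ∣ p ^ ev - 1 ∨ 2 ∣ p ^ ev + 1) →
      ∀ g' : SpecialLinearGroup (Fin 2) F, piF F g' ∈ M → (tr g') ^ p ^ ev = tr g' := by
    intro ev h4 h6 h10 h2' g' hg'
    have hpow : ∀ k : ℕ, (e ⟨piF F g', hg'⟩) ^ k = 1 → g' ^ (k * 2) = 1 := by
      intro k hk
      have h1 : (⟨piF F g', hg'⟩ : M) ^ k = 1 := by
        apply e.injective
        rw [map_pow, hk, map_one]
      have h2 : piF F (g' ^ k) = 1 := by
        rw [map_pow]
        have := congrArg Subtype.val h1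
        simpa using this
      rw [pow_mul]
      rcases (piF_eq_one_iff' _).mp h2 with h | h
      · rw [h, one_pow]
      · rw [h, pow_two, neg_mul_neg, one_mul]
    rcases a5_orders (e ⟨piF F g', hg'⟩) with h | h | h
    · have := hpow 2 h
      exact trace_pow_eq_F p ev g' (n := 4) (j := 0) (by simpa using this) h4
    · have := hpow 3 h
      rcases h6 with rfl | h6
      · exact trace_pow_eq_F 3 ev g' (n := 2) (j := 1) (by simpa using this) h2'
      · exact trace_pow_eq_F p ev g' (n := 6) (j := 0) (by simpa using this) h6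
    · have := hpow 5 h
      exact trace_pow_eq_F p ev g' (n := 10) (j := 0) (by simpa using this) h10
  have hp60 : ∀ m ∈ M, orderOf m = p → p = 3 := by
    intro m hm hmp
    have := order_dvd_of_mem M hm
    rw [hmp, hMcard] at this
    have hle := Nat.le_of_dvd (by norm_num) this
    interval_cases p <;> try omega
  have hp6 : p % 3 = 0 ∨ (p % 6 = 1 ∨ p % 6 = 5) := by omega
  have hp6' : p = 3 ∨ (p % 6 = 1 ∨ p % 6 = 5) := by
    rcases hp6 with h | h
    · left
      have : 3 ∣ p := Nat.dvd_of_mod_eq_zero h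
      rcases (Nat.dvd_prime hpp).mp this with h | h
      · omega
      · exact h.symm
    · right; exact h
  rcases hp10 with h10 | h10 | h10 | h10
  · -- p ≡ 1 mod 10
    left
    have hMX : M ≤ X 1 := by
      apply hX5 1 one_ne_zero
      apply htrace 1 <;> rw [pow_one]
      · omega
      · rcases hp6' with h | h
        · left; exact h
        · right; omega
      · omega
      · omega
    have hf1 : f = 1 := by
      by_contra hf
      have hf2 : 2 ≤ f := by omega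
      have hQ : p ^ 2 ≤ Fintype.card F := by
        rw [hq]; exact Nat.pow_le_pow_right (by omega) hf2
      obtain ⟨hXM, m, hmX, hmp⟩ := hX4 1 one_ne_zero hMX (small_bound_one hp3' hQ)
      rw [hXM] at hmX
      have := hp60 m hmX hmp
      omega
    exact ⟨by rw [hq, hf1, pow_one], Or.inl h10⟩
  · -- p ≡ 3 mod 10
    right
    have hpsq4 : p ^ 2 % 4 = 1 := by
      rw [Nat.pow_mod]
      have : p % 4 = 1 ∨ p % 4 = 3 := by omega
      rcases this with h | h <;> rw [h]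
    have hpsq10 : p ^ 2 % 10 = 9 := by
      rw [Nat.pow_mod, h10]
    have hpsq6 : p = 3 ∨ p ^ 2 % 6 = 1 := by
      by_cases h3 : p = 3
      · left; exact h3
      · right
        have h3' : p % 3 ≠ 0 := by
          intro h
          have : 3 ∣ p := Nat.dvd_of_mod_eq_zero h
          rcases (Nat.dvd_prime hpp).mp this with h | h
          · omega
          · exact h3 h.symm
        rw [Nat.pow_mod]
        have : p % 6 = 1 ∨ p % 6 = 5 := by omega
        rcases this with h | h <;> rw [h]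
    have hp1 : 1 ≤ p ^ 2 := Nat.one_le_pow _ _ (by omega)
    have hMX : M ≤ X 2 := by
      apply hX5 2 (by norm_num)
      apply htrace 2
      · omega
      · rcases hpsq6 with h | h
        · left; exact h
        · right; omega
      · omega
      · omega
    have hf2 : f ≤ 2 := by
      by_contra hf
      push Not at hf
      have hQ : p ^ 3 ≤ Fintype.card F := by
        rw [hq]; exact Nat.pow_le_pow_right (by omega) hf
      obtain ⟨hXM, m, hmX, hmp⟩ := hX4 2 (by norm_num) hMX (small_bound_two hp3' hQ)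
      have hmM := hmX
      rw [hXM] at hmM
      have hp3 := hp60 m hmM hmp
      -- `p = 3`: use an element of order four
      have hq8 : Fintype.card F % 8 = 1 := by
        rw [hq, hp3] at hdiv5 ⊢
        rcases pow_mod_aux f with ⟨h1, -⟩ | ⟨-, h2'⟩
        · exact h1
        · exfalso
          have e9 : (3 ^ f) ^ 2 = 9 ^ f := by
            rw [← pow_mul, mul_comm, pow_mul]; norm_num
          rw [e9] at hdiv5
          have hnd : ¬ 5 ∣ 3 ^ f := by
            intro h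
            have := (Nat.Prime.dvd_of_dvd_pow (by norm_num) h)
            omega
          rcases (Nat.Prime.dvd_mul (by norm_num)).mp hdiv5 with h | h
          · exact hnd h
          · have h1 : 1 ≤ 9 ^ f := Nat.one_le_pow _ _ (by norm_num)
            omega
      obtain ⟨t, ht⟩ := FiniteField.isSquare_two_iff.mpr
        (by omega : Fintype.card F % 8 ≠ 3 ∧ Fintype.card F % 8 ≠ 5)
      have hs : 2 * (t / 2) ^ 2 = 1 := by
        field_simp
        rw [pow_two, ← ht]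
      obtain ⟨r, hrr, -, -, hrX⟩ := hX3 _ hs
      have hrM : r ∈ M := by rw [← hXM]; exact hrX 2
      apply a5_no_sqrt (e ⟨r, hrM⟩)
      rw [← map_mul]
      have : (⟨r, hrM⟩ : M) * ⟨r, hrM⟩ = x₀ := Subtype.ext hrr
      rw [this, hx₀, e.apply_symm_apply]
    have hf2' : f = 2 := by
      by_contra hf
      have hf1 : f = 1 := by omega
      rw [hq, hf1, pow_one] at hdiv5 h5
      have hnd : ¬ 5 ∣ p := by omega
      rcases (Nat.Prime.dvd_mul (by norm_num)).mp hdiv5 with h | h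
      · exact hnd h
      · omega
    exact ⟨by rw [hq, hf2'], Or.inl h10⟩
  · -- p ≡ 7 mod 10
    right
    have hpsq4 : p ^ 2 % 4 = 1 := by
      rw [Nat.pow_mod]
      have : p % 4 = 1 ∨ p % 4 = 3 := by omega
      rcases this with h | h <;> rw [h]
    have hpsq10 : p ^ 2 % 10 = 9 := by
      rw [Nat.pow_mod, h10]
    have hpsq6 : p ^ 2 % 6 = 1 := by
      have h3' : p % 3 ≠ 0 := by
        intro h
        have : 3 ∣ p := Nat.dvd_of_mod_eq_zero h
        rcases (Nat.dvd_prime hpp).mp this with h | h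
        · omega
        · omega
      rw [Nat.pow_mod]
      have : p % 6 = 1 ∨ p % 6 = 5 := by omega
      rcases this with h | h <;> rw [h]
    have hp1 : 1 ≤ p ^ 2 := Nat.one_le_pow _ _ (by omega)
    have hMX : M ≤ X 2 := by
      apply hX5 2 (by norm_num)
      apply htrace 2
      · omega
      · right; omega
      · omega
      · omega
    have hf2 : f ≤ 2 := by
      by_contra hf
      push Not at hf
      have hQ : p ^ 3 ≤ Fintype.card F := by
        rw [hq]; exact Nat.pow_le_pow_right (by omega) hf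
      obtain ⟨hXM, m, hmX, hmp⟩ := hX4 2 (by norm_num) hMX (small_bound_two hp3' hQ)
      rw [hXM] at hmX
      have := hp60 m hmX hmp
      omega
    have hf2' : f = 2 := by
      by_contra hf
      have hf1 : f = 1 := by omega
      rw [hq, hf1, pow_one] at hdiv5 h5
      have hnd : ¬ 5 ∣ p := by omega
      rcases (Nat.Prime.dvd_mul (by norm_num)).mp hdiv5 with h | h
      · exact hnd h
      · omega
    exact ⟨by rw [hq, hf2'], Or.inr h10⟩
  · -- p ≡ 9 mod 10
    left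
    have hMX : M ≤ X 1 := by
      apply hX5 1 one_ne_zero
      apply htrace 1 <;> rw [pow_one]
      · omega
      · rcases hp6' with h | h
        · left; exact h
        · right; omega
      · omega
      · omega
    have hf1 : f = 1 := by
      by_contra hf
      have hf2 : 2 ≤ f := by omega
      have hQ : p ^ 2 ≤ Fintype.card F := by
        rw [hq]; exact Nat.pow_le_pow_right (by omega) hf2
      obtain ⟨hXM, m, hmX, hmp⟩ := hX4 1 one_ne_zero hMX (small_bound_one hp3' hQ)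
      rw [hXM] at hmX
      have := hp60 m hmX hmp
      omega
    exact ⟨by rw [hq, hf1, pow_one], Or.inr h10⟩

end Cfsg.Agent.helper4.Mx
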