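import Mathlib
import Cfsg.Agent.Lib_helper4_MxJ

set_option autoImplicit false
set_option linter.unusedSectionVars false
set_option maxHeartbeats 1600000

/-!
# The master lemma, second version: unipotent subgroups and scaled elements
-/

namespace Cfsg.Agent.helper4.Mx

open Matrix
open scoped LinearAlgebra.Projectivization MatrixGroups
open Cfsg.Agent.helper4.Dk Cfsg.Agent.helper4.Dn

section qs

variable {F : Type*} [Field F] [Fintype F] {K : Type*} [Field K] [Algebra F K]
variable {a b : SpecialLinearGroup (Fin 2) F} (Q : QS F K a b)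

/-- a one-parameter unipotent subgroup -/
theorem QS.exists_unip_hom (p : ℕ) [Fact p.Prime] [CharP F p] (h2 : (2 : F) ≠ 0) :
    ∃ ψ : Multiplicative F →* SpecialLinearGroup (Fin 2) F,
      (∀ s, ψ s = 1 ∨ ψ s = -1 → s = 1) ∧
      ∀ (S : Subfield K) (s : Multiplicative F), algebraMap F K (Multiplicative.toAdd s) ∈ S →
        Q.Θ (ψ s) ∈ QY Q.i Q.hi S := by
  have h2K : (2 : K) ≠ 0 := by
    intro h
    apply h2
    apply (algebraMap F K).injective
    rw [map_ofNat, h, map_zero]
  haveI : CharP K p := charP_of_injective_algebraMap (algebraMap F K).injective p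
  obtain ⟨k₂, k₃, hk⟩ := CharP.sq_add_sq F p (-1)
  have hk' : (k₂ : F) ^ 2 + (k₃ : F) ^ 2 = -1 := by
    rw [hk]; simp
  have hkK : (k₂ : K) ^ 2 + (k₃ : K) ^ 2 = -1 := by
    have := congrArg (algebraMap F K) hk'
    simpa using this
  have hi := Q.hi
  have hex : ∀ s : F, ∃ g : SpecialLinearGroup (Fin 2) F,
      (g : Matrix (Fin 2) (Fin 2) F) = (1 : F) • (1 : Matrix (Fin 2) (Fin 2) F) +
          s • (a : Matrix (Fin 2) (Fin 2) F) + (s * k₂) • (b : Matrix (Fin 2) (Fin 2) F) +
          (s * k₃) • ((a * b : SpecialLinearGroup (Fin 2) F) : Matrix (Fin 2) (Fin 2) F) :=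
    fun s => Q.ex 1 s (s * k₂) (s * k₃) (by linear_combination s ^ 2 * hk')
  choose u hu using hex
  have hcu : ∀ s, ((Q.Θ (u s) : SpecialLinearGroup (Fin 2) K) : Matrix (Fin 2) (Fin 2) K) =
      qm Q.i 1 (algebraMap F K s) (algebraMap F K s * k₂) (algebraMap F K s * k₃) := by
    intro s
    have := Q.lin (u s) _ _ _ _ (hu s)
    rw [map_one, map_mul, map_mul, map_natCast, map_natCast] at this
    exact this
  have hmul : ∀ s t, u (s + t) = u s * u t := by
    intro s t
    apply Q.ext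
    rw [Q.coe_mul, hcu, hcu, hcu, qm_mul hi, map_add]
    congr 1
    · linear_combination (algebraMap F K s * algebraMap F K t) * hkK
    · ring
    · ring
    · ring
  refine ⟨MonoidHom.mk' (fun s => u (Multiplicative.toAdd s)) (fun s t => hmul _ _), ?_, ?_⟩
  · intro s hs
    change u (Multiplicative.toAdd s) = 1 ∨ u (Multiplicative.toAdd s) = -1 at hs
    have h0 : Multiplicative.toAdd s = 0 := by
      rcases hs with h | h
      · have h1 := hcu (Multiplicative.toAdd s)
        rw [h, Q.coe_one] at h1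
        have := (qm_injective hi h2K h1).2.1
        apply (algebraMap F K).injective
        rw [map_zero, ← this]
      · exfalso
        have h1 := hcu (Multiplicative.toAdd s)
        rw [h, Q.coe_neg_one] at h1
        have := (qm_injective hi h2K h1).1
        apply h2K
        linear_combination -this
    exact Multiplicative.toAdd.injective h0
  · intro S s hs
    change Q.Θ (u (Multiplicative.toAdd s)) ∈ QY Q.i Q.hi S
    exact ⟨1, 1, _, _, _, S.one_mem, hs, S.mul_mem hs (natCast_mem S k₂),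
      S.mul_mem hs (natCast_mem S k₃), by rw [one_smul]; exact hcu _⟩

/-- scaled elements `l (x₀ + x₁ a)` -/
theorem QS.exists_scaled (l x₀ x₁ : F) (h : l ^ 2 * (x₀ ^ 2 + x₁ ^ 2) = 1) :
    ∃ g : SpecialLinearGroup (Fin 2) F, tr g = 2 * l * x₀ ∧
      ∀ S : Subfield K, algebraMap F K x₀ ∈ S → algebraMap F K x₁ ∈ S →
        Q.Θ g ∈ QY Q.i Q.hi S := by
  obtain ⟨g, hg⟩ := Q.ex (l * x₀) (l * x₁) 0 0 (by linear_combination h)
  have hcg := Q.lin g _ _ _ _ hg
  rw [map_zero, map_mul, map_mul] at hcg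
  refine ⟨g, ?_, ?_⟩
  · apply (algebraMap F K).injective
    rw [← Q.tr_eq]
    unfold tr
    have e00 := congrFun (congrFun hcg 0) 0
    have e11 := congrFun (congrFun hcg 1) 1
    simp [qm] at e00 e11
    rw [e00, e11, map_mul, map_mul, map_ofNat]
    ring
  · intro S h0 h1
    refine ⟨algebraMap F K l, _, _, 0, 0, h0, h1, S.zero_mem, S.zero_mem, ?_⟩
    rw [hcg, qm_smul]
    congr 1 <;> ring

end qs

variable {F : Type*} [Field F] [Fintype F]

/-- **Master lemma**, second version. -/
theorem klein_master2 (p : ℕ) [Fact p.Prime] [CharP F p] (h2 : (2 : F) ≠ 0)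
    {M : Subgroup (Matrix.ProjectiveSpecialLinearGroup (Fin 2) F)} (hM : IsCoatom M)
    {x y : Matrix.ProjectiveSpecialLinearGroup (Fin 2) F}
    (hx : x * x = 1) (hy : y * y = 1) (hxy : x * y = y * x) (hx1 : x ≠ 1) (hy1 : y ≠ 1)
    (hne : x ≠ y) (hxM : x ∈ M) (hyM : y ∈ M) :
    ∃ X : ℕ → Subgroup (Matrix.ProjectiveSpecialLinearGroup (Fin 2) F),
      (∀ e, e ≠ 0 → M ≤ X e →
        p ^ (4 * e) * 2 < Fintype.card F * (Fintype.card F ^ 2 - 1) → X e = M) ∧
      (∀ e, e ≠ 0 → (∀ g' : SpecialLinearGroup (Fin 2) F, piF F g' ∈ M →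
        (tr g') ^ p ^ e = tr g') → M ≤ X e) ∧
      (∀ (e : ℕ) (Kf : Type) [Field Kf] [Fintype Kf], Fintype.card Kf = p ^ e → (Kf →+* F) →
        ∃ U : Subgroup (Matrix.ProjectiveSpecialLinearGroup (Fin 2) F), U ≤ X e ∧
          Nat.card U = p ^ e) ∧
      (∀ (e : ℕ) (l x₀ x₁ : F), x₀ ^ p ^ e = x₀ → x₁ ^ p ^ e = x₁ →
        l ^ 2 * (x₀ ^ 2 + x₁ ^ 2) = 1 →
        ∃ g' : SpecialLinearGroup (Fin 2) F, piF F g' ∈ X e ∧ tr g' = 2 * l * x₀) := by
  classical
  obtain ⟨a, b, rfl, rfl, ha, hb, hab⟩ := klein_lift h2 hx hy hxy hx1 hy1 hne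
  obtain ⟨Q⟩ := exists_QS (K := AlgebraicClosure F) h2 ha hab
  haveI : CharP (AlgebraicClosure F) p :=
    charP_of_injective_algebraMap (algebraMap F (AlgebraicClosure F)).injective p
  have h2K : (2 : AlgebraicClosure F) ≠ 0 := by
    intro h
    apply h2
    apply (algebraMap F (AlgebraicClosure F)).injective
    rw [map_ofNat, h, map_zero]
  refine ⟨fun e => ((QY Q.i Q.hi (frobS p e)).comap Q.Θ).map (piF F), ?_, ?_, ?_, ?_⟩
  · intro e he hMX hsmall
    obtain ⟨hfin, hcard⟩ := frobS_finite (K := AlgebraicClosure F) p he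
    haveI : Finite (frobS (K := AlgebraicClosure F) p e) := hfin
    have hcard' : Nat.card (frobS (K := AlgebraicClosure F) p e) ≤ p ^ e := hcard
    have hsmall' : Nat.card (frobS (K := AlgebraicClosure F) p e) ^ 4 * 2 <
        Fintype.card F * (Fintype.card F ^ 2 - 1) := by
      refine lt_of_le_of_lt ?_ hsmall
      have : Nat.card (frobS (K := AlgebraicClosure F) p e) ^ 4 ≤ (p ^ e) ^ 4 :=
        Nat.pow_le_pow_left hcard' 4
      rw [← pow_mul, mul_comm e 4] at this
      omega
    have hMS : ∀ m ∈ M, ∃ g : SpecialLinearGroup (Fin 2) F, piF F g = m ∧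
        Q.Θ g ∈ QY Q.i Q.hi (frobS p e) := by
      intro m hm
      obtain ⟨g, hg, rfl⟩ := Subgroup.mem_map.mp (hMX hm)
      exact ⟨g, rfl, hg⟩
    have hall := quat_bound Q hM (frobS p e) hMS hsmall'
    apply le_antisymm
    · rintro m ⟨g, hg, rfl⟩
      exact hall g hg
    · exact hMX
  · intro e he htr m hm
    obtain ⟨g, rfl⟩ := piF_surj' (L := F) m
    have hmem : ∀ g' : SpecialLinearGroup (Fin 2) F, piF F g' ∈ M →
        algebraMap F (AlgebraicClosure F) (tr g') ∈ frobS (K := AlgebraicClosure F) p e := by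
      intro g' hg'
      rw [mem_frobS, ← map_pow, htr g' hg']
    refine Subgroup.mem_map_of_mem _ ?_
    rw [Subgroup.mem_comap]
    apply Q.mem_of_traces h2K
    · exact hmem _ hm
    · apply hmem
      rw [map_mul]; exact M.mul_mem hm hxM
    · apply hmem
      rw [map_mul]; exact M.mul_mem hm hyM
    · apply hmem
      rw [map_mul, map_mul]; exact M.mul_mem hm (M.mul_mem hxM hyM)
  · intro e Kf _ _ hKf ι₀
    obtain ⟨ψ, hψ1, hψS⟩ := Q.exists_unip_hom p h2
    obtain ⟨φ, hφ⟩ : ∃ φ : Multiplicative Kf →* Matrix.ProjectiveSpecialLinearGroup (Fin 2) F,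
        φ = (piF F).comp (ψ.comp (AddMonoidHom.toMultiplicative ι₀.toAddMonoidHom)) := ⟨_, rfl⟩
    have hφapp : ∀ s : Multiplicative Kf,
        φ s = piF F (ψ (Multiplicative.ofAdd (ι₀ (Multiplicative.toAdd s)))) := by
      intro s
      rw [hφ]
      rfl
    have hinj : Function.Injective φ := by
      rw [injective_iff_map_eq_one]
      intro s hs
      rw [hφapp] at hs
      have := hψ1 _ ((piF_eq_one_iff' _).mp hs)
      have h0 : ι₀ (Multiplicative.toAdd s) = 0 := by
        have := congrArg Multiplicative.toAdd this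
        simpa using this
      have h1 : Multiplicative.toAdd s = 0 := by
        apply ι₀.injective
        rw [h0, map_zero]
      exact Multiplicative.toAdd.injective h1
    refine ⟨φ.range, ?_, ?_⟩
    · rintro _ ⟨s, rfl⟩
      rw [hφapp]
      refine Subgroup.mem_map_of_mem _ ?_
      rw [Subgroup.mem_comap]
      apply hψS
      rw [mem_frobS]
      simp only [toAdd_ofAdd]
      rw [← map_pow, ← map_pow, ← hKf, FiniteField.pow_card]
    · rw [← Nat.card_congr (MonoidHom.ofInjective hinj).toEquiv]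
      rw [Nat.card_congr (Multiplicative.toAdd (α := Kf)), Nat.card_eq_fintype_card]
      exact hKf
  · intro e l x₀ x₁ h0 h1 hl
    obtain ⟨g, hg1, hg2⟩ := Q.exists_scaled l x₀ x₁ hl
    refine ⟨g, ?_, hg1⟩
    refine Subgroup.mem_map_of_mem _ ?_
    rw [Subgroup.mem_comap]
    apply hg2
    · rw [mem_frobS, ← map_pow, h0]
    · rw [mem_frobS, ← map_pow, h1]

end Cfsg.Agent.helper4.Mx
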