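import Mathlib
import Cfsg.Agent.Lib_helper4_MxM
import Cfsg.Agent.Lib_helper4_MxK
import Cfsg.Agent.S0805

set_option autoImplicit false
set_option linter.unusedSectionVars false
set_option maxHeartbeats 1600000

/-!
# Maximal subgroups of subfield type
-/

namespace Cfsg.Agent.helper4.Mx

open Matrix
open scoped LinearAlgebra.Projectivization MatrixGroups
open Cfsg.Agent.helper4.Dk Cfsg.Agent.helper4.Dn

variable {F : Type*} [Field F] [Fintype F]

theorem two_mul_card_PSL (h2 : (2 : F) ≠ 0) :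
    2 * Nat.card (Matrix.ProjectiveSpecialLinearGroup (Fin 2) F) =
      Fintype.card F * (Fintype.card F ^ 2 - 1) := by
  have h1 := card_comap_piF_gen (L := F) (⊤ : Subgroup (Matrix.ProjectiveSpecialLinearGroup (Fin 2) F))
  rw [Subgroup.comap_top, Subgroup.card_top, Subgroup.card_top, Cfsg.Agent.helper12.card_SL2] at h1
  rcases zc_cases F with ⟨hz, _⟩ | ⟨_, hz⟩
  · rw [hz] at h1
    exact h1.symm
  · exact absurd hz h2

theorem small_bound_aux {R q : ℕ} (hR : 4 ≤ R) (h1 : R ≤ q) :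
    R ^ 2 * 2 < q * (q ^ 2 - 1) := by
  have h5 : R ^ 2 ≤ q ^ 2 := Nat.pow_le_pow_left h1 2
  have h6 : 1 ≤ R ^ 2 := by nlinarith
  have h7 : R * (R ^ 2 - 1) ≤ q * (q ^ 2 - 1) := Nat.mul_le_mul h1 (by omega)
  have h8 : R ^ 2 * 2 < R * (R ^ 2 - 1) := by
    have : R * 2 < R ^ 2 - 1 := by
      have : R * 2 + 1 < R ^ 2 := by nlinarith
      omega
    calc R ^ 2 * 2 = R * (R * 2) := by ring
      _ < R * (R ^ 2 - 1) := Nat.mul_lt_mul_of_pos_left this (by omega)
  omega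

theorem small_bound_gen {Q k q : ℕ} (hQ : 2 ≤ Q) (hk : 2 ≤ k) (hq : q = Q ^ k) :
    Q ^ 4 * 2 < q * (q ^ 2 - 1) := by
  have h1 : Q ^ 2 ≤ q := by
    rw [hq]; exact Nat.pow_le_pow_right (by omega) hk
  have h4 : 4 ≤ Q ^ 2 := by nlinarith
  have hQ4 : Q ^ 4 = (Q ^ 2) ^ 2 := by ring
  rw [hQ4]
  exact small_bound_aux h4 h1

theorem pow_pow_fix {R : Type*} [Monoid R] {x : R} {N : ℕ} (h : x ^ N = x) (k : ℕ) (hk : k ≠ 0) :
    x ^ N ^ k = x := by
  induction k with
  | zero => exact absurd rfl hk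
  | succ k ih =>
    by_cases hk0 : k = 0
    · subst hk0; simpa using h
    · rw [pow_succ, pow_mul, ih hk0, h]

section frob

variable (p : ℕ) [Fact p.Prime] [CharP F p]

theorem range_eq_frob {Kf : Type*} [Field Kf] [Fintype Kf] (ι₀ : Kf →+* F) {e : ℕ} (he : e ≠ 0)
    (hKf : Fintype.card Kf = p ^ e) {x : F} (hx : x ^ p ^ e = x) : x ∈ Set.range ι₀ := by
  obtain ⟨hfin, hcard⟩ := frobS_finite (K := F) p he
  have hsub : Set.range ι₀ ⊆ (frobS (K := F) p e : Set F) := by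
    rintro _ ⟨y, rfl⟩
    change (ι₀ y) ^ p ^ e = ι₀ y
    rw [← map_pow, ← hKf, FiniteField.pow_card]
  have hr : (Set.range ι₀).ncard = p ^ e := by
    rw [← Set.image_univ, Set.ncard_image_of_injective _ ι₀.injective, Set.ncard_univ,
      Nat.card_eq_fintype_card, hKf]
  have := Set.eq_of_subset_of_ncard_le hsub (by rw [hr]; exact hcard) hfin
  rw [this]
  exact hx

theorem exists_not_fixed {e : ℕ} (he : e ≠ 0) (hlt : p ^ e < Fintype.card F) :
    ∃ μ : F, μ ^ p ^ e ≠ μ := by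
  by_contra hall
  push Not at hall
  obtain ⟨hfin, hcard⟩ := frobS_finite (K := F) p he
  have : (frobS (K := F) p e : Set F) = Set.univ := by
    ext x
    simp only [Set.mem_univ, iff_true]
    exact hall x
  rw [this, Set.ncard_univ, Nat.card_eq_fintype_card] at hcard
  omega

end frob

/-- the common part of the subfield arguments -/
theorem field_nonmax (p : ℕ) [Fact p.Prime] [CharP F p] (h2 : (2 : F) ≠ 0)
    {M : Subgroup (Matrix.ProjectiveSpecialLinearGroup (Fin 2) F)} (hM : IsCoatom M)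
    {x y : Matrix.ProjectiveSpecialLinearGroup (Fin 2) F}
    (hx : x * x = 1) (hy : y * y = 1) (hxy : x * y = y * x) (hx1 : x ≠ 1) (hy1 : y ≠ 1)
    (hne : x ≠ y) (hxM : x ∈ M) (hyM : y ∈ M) {e k : ℕ} (he : e ≠ 0) (hk : 2 ≤ k)
    (hq : Fintype.card F = (p ^ e) ^ k)
    (htr : ∀ g' : SpecialLinearGroup (Fin 2) F, piF F g' ∈ M → (tr g') ^ p ^ e = tr g') :
    p ^ e ∣ Nat.card M ∧
      ∀ l x₀ x₁ : F, x₀ ^ p ^ e = x₀ → x₁ ^ p ^ e = x₁ → l ^ 2 * (x₀ ^ 2 + x₁ ^ 2) = 1 →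
        (2 * l * x₀) ^ p ^ e = 2 * l * x₀ := by
  classical
  have hpp := (Fact.out : p.Prime)
  obtain ⟨X, hX1, hX2, hX3, hX4⟩ := klein_master2 p h2 hM hx hy hxy hx1 hy1 hne hxM hyM
  have hMX : M ≤ X e := hX2 e he htr
  have hQ2 : 2 ≤ p ^ e := by
    calc 2 ≤ p := hpp.two_le
      _ = p ^ 1 := (pow_one p).symm
      _ ≤ p ^ e := Nat.pow_le_pow_right hpp.pos (by omega)
  have hsmall : p ^ (4 * e) * 2 < Fintype.card F * (Fintype.card F ^ 2 - 1) := by
    have := small_bound_gen hQ2 hk hq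
    rwa [← pow_mul, mul_comm e 4] at this
  have hXM : X e = M := hX1 e he hMX hsmall
  constructor
  · letI : Fintype (GaloisField p e) := Fintype.ofFinite _
    have hKfcard : Fintype.card (GaloisField p e) = p ^ e := by
      rw [← Nat.card_eq_fintype_card]
      exact GaloisField.card p e he
    obtain ⟨ι₀⟩ := Cfsg.Agent.S0805.exists_ringHom (F := F) (K := GaloisField p e) k
      (by rw [hKfcard, hq])
    obtain ⟨U, hUX, hUcard⟩ := hX3 e (GaloisField p e) hKfcard ι₀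
    rw [hXM] at hUX
    rw [← hUcard]
    exact Subgroup.card_dvd_of_le hUX
  · intro l x₀ x₁ h0 h1 hl
    obtain ⟨g', hg', htrg⟩ := hX4 e l x₀ x₁ h0 h1 hl
    rw [hXM] at hg'
    rw [← htrg]
    exact htr g' hg'

/-- `p ^ j` cannot divide `p ^ a * (p ^ (2 a) - 1)` (or half of it) for `j > a` -/
theorem pow_dvd_aux {p a j N : ℕ} (hp : p.Prime) (ha : 1 ≤ a) (hj : a < j) (hdvd : p ^ j ∣ N)
    (hN : N ∣ p ^ a * ((p ^ a) ^ 2 - 1)) : False := by
  have h1 : p ^ (a + 1) ∣ p ^ a * ((p ^ a) ^ 2 - 1) :=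
    (pow_dvd_pow p (by omega)).trans (hdvd.trans hN)
  rw [pow_succ] at h1
  have h2 : p ∣ (p ^ a) ^ 2 - 1 := Nat.dvd_of_mul_dvd_mul_left (pow_pos hp.pos a) h1
  have h3 : p ∣ (p ^ a) ^ 2 := by
    rw [← pow_mul]
    exact dvd_pow_self p (by omega)
  have h4 : 1 ≤ (p ^ a) ^ 2 := Nat.one_le_pow _ _ (pow_pos hp.pos a)
  have h5 : p ∣ 1 := by
    have := Nat.dvd_sub h3 h2
    have e : (p ^ a) ^ 2 - ((p ^ a) ^ 2 - 1) = 1 := by omega
    rwa [e] at this
  exact hp.one_lt.ne' (Nat.dvd_one.mp h5)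

/-- subfield subgroups of `PSL₂` type -/
theorem psl_field_case (p : ℕ) [Fact p.Prime] [CharP F p] (h2 : (2 : F) ≠ 0)
    {M : Subgroup (Matrix.ProjectiveSpecialLinearGroup (Fin 2) F)} (hM : IsCoatom M)
    {x y : Matrix.ProjectiveSpecialLinearGroup (Fin 2) F}
    (hx : x * x = 1) (hy : y * y = 1) (hxy : x * y = y * x) (hx1 : x ≠ 1) (hy1 : y ≠ 1)
    (hne : x ≠ y) (hxM : x ∈ M) (hyM : y ∈ M) {a m : ℕ} (ha : 1 ≤ a)
    (hq : Fintype.card F = (p ^ a) ^ m)
    (hcardM : 2 * Nat.card M = p ^ a * ((p ^ a) ^ 2 - 1))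
    (htr : ∀ g' : SpecialLinearGroup (Fin 2) F, piF F g' ∈ M → (tr g') ^ p ^ a = tr g') :
    m.Prime ∧ Odd m := by
  classical
  have hpp := (Fact.out : p.Prime)
  have hpodd : Odd p := by
    apply hpp.odd_of_ne_two
    rintro rfl
    apply h2
    have := CharP.cast_eq_zero F 2
    exact_mod_cast this
  have hm0 : m ≠ 0 := by
    rintro rfl
    have := Fintype.one_lt_card (α := F)
    rw [hq] at this; simp at this
  have hm1 : m ≠ 1 := by
    rintro rfl
    rw [pow_one] at hq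
    have hG := two_mul_card_PSL (F := F) h2
    rw [hq, ← hcardM] at hG
    have : Nat.card M = Nat.card (Matrix.ProjectiveSpecialLinearGroup (Fin 2) F) := by omega
    exact hM.1 (Subgroup.eq_top_of_card_eq M this)
  have ha0 : a ≠ 0 := by omega
  have hm2 : m ≠ 2 := by
    rintro rfl
    obtain ⟨-, hlam⟩ := field_nonmax p h2 hM hx hy hxy hx1 hy1 hne hxM hyM ha0 le_rfl hq htr
    have hQ2 : 2 ≤ p ^ a := by
      calc 2 ≤ p := hpp.two_le
        _ = p ^ 1 := (pow_one p).symm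
        _ ≤ p ^ a := Nat.pow_le_pow_right hpp.pos ha
    obtain ⟨μ, hμ⟩ := exists_not_fixed (F := F) p ha0 (by rw [hq]; nlinarith)
    obtain ⟨lam, hlamdef⟩ : ∃ lam : F, lam = μ ^ p ^ a - μ := ⟨_, rfl⟩
    have hlam0 : lam ≠ 0 := by
      rw [hlamdef]; exact sub_ne_zero.mpr hμ
    have hμq : (μ ^ p ^ a) ^ p ^ a = μ := by
      rw [← pow_mul, ← pow_two, ← hq, FiniteField.pow_card]
    have hlamp : lam ^ p ^ a = -lam := by
      rw [hlamdef, sub_pow_char_pow, hμq]; ring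
    letI : Fintype (GaloisField p a) := Fintype.ofFinite _
    have hKfcard : Fintype.card (GaloisField p a) = p ^ a := by
      rw [← Nat.card_eq_fintype_card]
      exact GaloisField.card p a ha0
    obtain ⟨ι₀⟩ := Cfsg.Agent.S0805.exists_ringHom (F := F) (K := GaloisField p a) 2
      (by rw [hKfcard, hq])
    have hνfix : ((lam ^ 2)⁻¹) ^ p ^ a = (lam ^ 2)⁻¹ := by
      rw [inv_pow, ← pow_mul, mul_comm, pow_mul, hlamp]
      ring
    obtain ⟨n', hn'⟩ := range_eq_frob p ι₀ ha0 hKfcard hνfix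
    have hn'0 : n' ≠ 0 := by
      rintro rfl
      rw [map_zero] at hn'
      exact inv_ne_zero (pow_ne_zero 2 hlam0) hn'.symm
    have hoddK : Fintype.card (GaloisField p a) % 2 = 1 := by
      rw [hKfcard]
      exact Nat.odd_iff.mp (hpodd.pow)
    obtain ⟨c, d, hcd⟩ : ∃ c d : GaloisField p a, c ^ 2 + d ^ 2 = n' := by
      obtain ⟨c, d, hcd⟩ := FiniteField.exists_root_sum_quadratic
        (f := (Polynomial.X ^ 2 : Polynomial (GaloisField p a)))
        (g := (Polynomial.X ^ 2 - Polynomial.C n' : Polynomial (GaloisField p a)))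
        (Polynomial.degree_X_pow 2) (Polynomial.degree_X_pow_sub_C (by decide) _) hoddK
      refine ⟨c, d, ?_⟩
      simp only [Polynomial.eval_pow, Polynomial.eval_X, Polynomial.eval_sub,
        Polynomial.eval_C] at hcd
      linear_combination hcd
    -- arrange `c ≠ 0`
    obtain ⟨c, d, hcd, hc0⟩ : ∃ c d : GaloisField p a, c ^ 2 + d ^ 2 = n' ∧ c ≠ 0 := by
      by_cases hc : c = 0
      · refine ⟨d, c, by rw [← hcd]; ring, ?_⟩
        rintro rfl
        apply hn'0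
        rw [← hcd, hc]; ring
      · exact ⟨c, d, hcd, hc⟩
    have hfixι : ∀ z : GaloisField p a, (ι₀ z) ^ p ^ a = ι₀ z := by
      intro z
      rw [← map_pow, ← hKfcard, FiniteField.pow_card]
    have hl : lam ^ 2 * ((ι₀ c) ^ 2 + (ι₀ d) ^ 2) = 1 := by
      rw [← map_pow, ← map_pow, ← map_add, hcd, hn']
      exact mul_inv_cancel₀ (pow_ne_zero 2 hlam0)
    have h3 := hlam lam (ι₀ c) (ι₀ d) (hfixι c) (hfixι d) hl
    have h2fix : (2 : F) ^ p ^ a = 2 := by
      have := natCast_mem_frobS (K := F) p a 2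
      rw [mem_frobS] at this
      exact_mod_cast this
    rw [mul_pow, mul_pow, h2fix, hlamp, hfixι] at h3
    have h4 : (2 : F) * (2 * lam * ι₀ c) = 0 := by linear_combination -h3
    have hc0' : ι₀ c ≠ 0 := by
      intro h
      apply hc0
      apply ι₀.injective
      rw [h, map_zero]
    exact mul_ne_zero h2 (mul_ne_zero (mul_ne_zero h2 hlam0) hc0') h4
  have hprime : m.Prime := by
    by_contra hnp
    obtain ⟨m₁, hm₁dvd, hm₁2, hm₁lt⟩ := Nat.exists_dvd_of_not_prime2 (by omega) hnp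
    obtain ⟨m₂, rfl⟩ := hm₁dvd
    have hm₂ : 2 ≤ m₂ := by
      by_contra h
      push Not at h
      interval_cases m₂ <;> omega
    have hq' : Fintype.card F = (p ^ (a * m₁)) ^ m₂ := by
      rw [hq, pow_mul, pow_mul]
    have htr' : ∀ g' : SpecialLinearGroup (Fin 2) F, piF F g' ∈ M →
        (tr g') ^ p ^ (a * m₁) = tr g' := by
      intro g' hg'
      rw [pow_mul]
      exact pow_pow_fix (htr g' hg') m₁ (by omega)
    obtain ⟨hdvd, -⟩ := field_nonmax p h2 hM hx hy hxy hx1 hy1 hne hxM hyM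
      (e := a * m₁) (k := m₂) (by positivity) hm₂ hq' htr'
    apply pow_dvd_aux hpp ha (j := a * m₁) (N := Nat.card M) (by nlinarith) hdvd
    rw [← hcardM]
    exact Dvd.intro_left 2 rfl
  refine ⟨hprime, ?_⟩
  rcases hprime.eq_two_or_odd' with h | h
  · exact absurd h hm2
  · exact h

/-- subfield subgroups of `PGL₂` type -/
theorem pgl_field_case (p : ℕ) [Fact p.Prime] [CharP F p] (h2 : (2 : F) ≠ 0)
    {M : Subgroup (Matrix.ProjectiveSpecialLinearGroup (Fin 2) F)} (hM : IsCoatom M)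
    {x y : Matrix.ProjectiveSpecialLinearGroup (Fin 2) F}
    (hx : x * x = 1) (hy : y * y = 1) (hxy : x * y = y * x) (hx1 : x ≠ 1) (hy1 : y ≠ 1)
    (hne : x ≠ y) (hxM : x ∈ M) (hyM : y ∈ M) {a m : ℕ} (ha : 1 ≤ a)
    (hq : Fintype.card F = (p ^ a) ^ m) (hm : Even m)
    (hcardM : Nat.card M = p ^ a * ((p ^ a) ^ 2 - 1))
    (htr : ∀ g' : SpecialLinearGroup (Fin 2) F, piF F g' ∈ M → (tr g') ^ p ^ (2 * a) = tr g') :
    m = 2 := by
  classical
  have hpp := (Fact.out : p.Prime)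
  obtain ⟨k, hk⟩ := hm
  have hm0 : m ≠ 0 := by
    rintro rfl
    have := Fintype.one_lt_card (α := F)
    rw [hq] at this; simp at this
  by_contra hm2
  have hk2 : 2 ≤ k := by omega
  have hq' : Fintype.card F = (p ^ (2 * a)) ^ k := by
    rw [hq, hk, ← two_mul, ← pow_mul, ← pow_mul]
    ring_nf
  obtain ⟨hdvd, -⟩ := field_nonmax p h2 hM hx hy hxy hx1 hy1 hne hxM hyM
    (e := 2 * a) (k := k) (by omega) hk2 hq' htr
  apply pow_dvd_aux hpp ha (j := 2 * a) (N := Nat.card M) (by omega) hdvd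
  rw [hcardM]

end Cfsg.Agent.helper4.Mx
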