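import Mathlib
import Cfsg.Agent.Lib_helper11_SolA
import Cfsg.Agent.Lib_helper4_DnAA
import Cfsg.Agent.Lib_helper4_MxN
import Cfsg.Agent.Lib_helper11_CA14

set_option autoImplicit false
set_option linter.unusedSectionVars false
set_option linter.unusedSimpArgs false
set_option linter.style.haveILetI false

/-!
# Solubilizers in `PSL₂(3^p)`: the field, numerics, and the projection
-/

namespace Cfsg.Agent.helper11.Sol3

open Matrix Cfsg.Agent.helper11.SL2U Cfsg.Agent.helper4.Dn

theorem three_pow_mod8 {p : ℕ} (hodd : Odd p) : 3 ^ p % 8 = 3 := by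
  obtain ⟨k, rfl⟩ := hodd
  rw [pow_succ, pow_mul, Nat.mul_mod, Nat.pow_mod]
  norm_num

/-- the standing hypotheses -/
def Hyp (F : Type*) [Field F] [Fintype F] (p : ℕ) : Prop :=
  p.Prime ∧ Odd p ∧ Fintype.card F = 3 ^ p

variable {F : Type*} [Field F] [Fintype F] {p : ℕ}

theorem Hyp.mod8 (h : Hyp F p) : Fintype.card F % 8 = 3 := by
  rw [h.2.2]; exact three_pow_mod8 h.2.1

theorem Hyp.ge (h : Hyp F p) : 27 ≤ Fintype.card F := by
  rw [h.2.2]
  have h3 : 3 ≤ p := by
    have := h.1.two_le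
    obtain ⟨k, hk⟩ := h.2.1
    omega
  calc 27 = 3 ^ 3 := by norm_num
    _ ≤ 3 ^ p := Nat.pow_le_pow_right (by norm_num) h3

theorem Hyp.odd (h : Hyp F p) : Odd (Fintype.card F) := by
  rw [Nat.odd_iff]
  have := h.mod8
  omega

theorem Hyp.charP (h : Hyp F p) : CharP F 3 := by
  obtain ⟨r, hr⟩ := CharP.exists F
  haveI := hr
  obtain ⟨n, hrp, hn⟩ := FiniteField.card F r
  have h1 : r ∣ 3 ^ p := by
    rw [← h.2.2, hn]
    exact dvd_pow_self r n.ne_zero
  have h2 : r ∣ 3 := hrp.dvd_of_dvd_pow h1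
  have h3 : r = 3 := (Nat.prime_dvd_prime_iff_eq hrp Nat.prime_three).mp h2
  rw [← h3]
  exact hr

theorem Hyp.three (h : Hyp F p) : (3 : F) = 0 := by
  haveI := h.charP
  exact_mod_cast CharP.cast_eq_zero F 3

theorem Hyp.two_ne (h : Hyp F p) : (2 : F) ≠ 0 := by
  intro h2
  have h3 := h.three
  have : (1 : F) = 0 := by linear_combination h3 - h2
  exact one_ne_zero this

theorem Hyp.neg_one_eq_two (h : Hyp F p) : (-1 : F) = 2 := by
  linear_combination -h.three

theorem Hyp.nonsq (h : Hyp F p) (a : F) : a ^ 2 ≠ -1 := by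
  classical
  intro ha
  have ha0 : a ≠ 0 := by
    rintro rfl
    have : (0 : F) = -1 := by simpa using ha
    have h1 : (1 : F) = 0 := by linear_combination this
    exact one_ne_zero h1
  obtain ⟨u, hu⟩ : ∃ u : Fˣ, (u : F) = a := ⟨Units.mk0 a ha0, rfl⟩
  have hu2 : u ^ (2 ^ 1) ≠ 1 := by
    intro h1
    have := congrArg Units.val h1
    rw [Units.val_pow_eq_pow_val, hu, Units.val_one, pow_one, ha] at this
    apply h.two_ne
    linear_combination -this
  have hu4 : u ^ (2 ^ (1 + 1)) = 1 := by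
    apply Units.ext
    rw [Units.val_pow_eq_pow_val, hu, Units.val_one]
    have : a ^ (2 ^ (1 + 1)) = (a ^ 2) ^ 2 := by ring
    rw [this, ha]; ring
  have hord : orderOf u = 2 ^ (1 + 1) := orderOf_eq_prime_pow hu2 hu4
  have hdvd : orderOf u ∣ Fintype.card Fˣ := orderOf_dvd_card
  rw [hord, Fintype.card_units] at hdvd
  have := h.mod8
  obtain ⟨k, hk⟩ := hdvd
  omega

theorem Hyp.sq_add_sq (h : Hyp F p) {a b : F} (hab : a ^ 2 + b ^ 2 = 0) : a = 0 ∧ b = 0 := by
  by_cases hb : b = 0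
  · rw [hb] at hab
    simp at hab
    exact ⟨hab, hb⟩
  · exfalso
    apply h.nonsq (a / b)
    field_simp
    linear_combination hab

theorem Hyp.tlist (h : Hyp F p) : TList (Fintype.card F) := by
  right; left
  refine ⟨p, h.1, ?_, h.2.2⟩
  rintro rfl
  exact (by decide : ¬ Odd 2) h.2.1

theorem Hyp.simple (h : Hyp F p) : IsSimpleGroup (Matrix.ProjectiveSpecialLinearGroup (Fin 2) F) :=
  (minimalSimple_of_list h.tlist).1

theorem Hyp.nc (h : Hyp F p) :
    ¬ ∀ a b : Matrix.ProjectiveSpecialLinearGroup (Fin 2) F, a * b = b * a := by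
  intro hc
  exact (minimalSimple_of_list h.tlist).2.1 ⟨⟨hc⟩⟩

theorem Hyp.solvable_iff (h : Hyp F p) (H : Subgroup (Matrix.ProjectiveSpecialLinearGroup (Fin 2) F)) :
    Group.IsSolvable H ↔ H ≠ ⊤ := by
  constructor
  · rintro hs rfl
    have h4 : 4 ≤ Fintype.card F := by have := h.ge; omega
    apply psl2_not_solvable h4
    exact Group.isSolvable_of_surjective
      (f := (Subgroup.topEquiv : (⊤ : Subgroup (Matrix.ProjectiveSpecialLinearGroup (Fin 2) F)) ≃*
        Matrix.ProjectiveSpecialLinearGroup (Fin 2) F).toMonoidHom)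
      (Subgroup.topEquiv : (⊤ : Subgroup (Matrix.ProjectiveSpecialLinearGroup (Fin 2) F)) ≃*
        Matrix.ProjectiveSpecialLinearGroup (Fin 2) F).surjective
  · intro hne
    exact (minimalSimple_of_list h.tlist).2.2 H hne

theorem Hyp.card_G (h : Hyp F p) :
    2 * Nat.card (Matrix.ProjectiveSpecialLinearGroup (Fin 2) F) =
      Fintype.card F * (Fintype.card F ^ 2 - 1) :=
  Cfsg.Agent.helper4.Mx.two_mul_card_PSL h.two_ne

/-! ### the projection -/

theorem piF_eq_iff (A B : SpecialLinearGroup (Fin 2) F) :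
    piF F A = piF F B ↔ A = B ∨ A = -B := by
  have h1 : piF F A = piF F B ↔ piF F (A * B⁻¹) = 1 := by
    rw [map_mul, map_inv, mul_inv_eq_one]
  rw [h1, piF_eq_one_iff, mul_inv_eq_one, mul_inv_eq_iff_eq_mul, neg_mul, one_mul]

theorem piF_neg (A : SpecialLinearGroup (Fin 2) F) : piF F (-A) = piF F A := by
  rw [piF_eq_iff]; right; rfl

theorem neg_apply (A : SpecialLinearGroup (Fin 2) F) (i j : Fin 2) : (-A).1 i j = -(A.1 i j) := by
  rw [Matrix.SpecialLinearGroup.coe_neg]; rfl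

end Cfsg.Agent.helper11.Sol3
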