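import Mathlib
import Cfsg.Agent.Lib_helper11_SolB

set_option autoImplicit false
set_option linter.unusedSectionVars false
set_option linter.unusedSimpArgs false
set_option linter.style.haveILetI false

/-!
# Solubilizers in `PSL₂(3^p)`: Borel-type subgroups
-/

namespace Cfsg.Agent.helper11.Sol3

open Matrix Cfsg.Agent.helper11.SL2U Cfsg.Agent.helper4.Dn Cfsg.Agent.helper11.CA

variable {F : Type*} [Field F] [Fintype F] {p : ℕ}

/-- number of upper triangular matrices -/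
theorem card_Bsub : Nat.card (Bsub F) = Fintype.card F * (Fintype.card F - 1) := by
  classical
  have e : Bsub F ≃ Fˣ × F :=
    { toFun := fun g => (Units.mk0 (g.1.1 0 0) (Bsub_diag_ne g), g.1.1 0 1)
      invFun := fun p => ⟨(⟨!![(p.1 : F), p.2; 0, ((p.1 : F))⁻¹], by
          rw [Matrix.det_fin_two_of]; simp⟩ : SpecialLinearGroup (Fin 2) F), by
          change (!![(p.1 : F), p.2; 0, ((p.1 : F))⁻¹] : Matrix (Fin 2) (Fin 2) F) 1 0 = 0
          simp⟩
      left_inv := by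
        intro g
        apply Subtype.ext
        apply Subtype.ext
        have h10 : g.1.1 1 0 = 0 := mem_Bsub.mp g.2
        have hdet := g.1.2
        rw [Matrix.det_fin_two, h10, mul_zero, sub_zero] at hdet
        ext i j
        fin_cases i <;> fin_cases j <;> simp
        · exact h10.symm
        · exact (eq_inv_of_mul_eq_one_right hdet).symm
      right_inv := by
        intro p
        apply Prod.ext
        · apply Units.ext; simp
        · simp }
  rw [Nat.card_congr e, Nat.card_prod, Nat.card_eq_fintype_card, Nat.card_eq_fintype_card,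
    Fintype.card_units, mul_comm]

/-- the image of `uS γ` -/
noncomputable def ub (γ : F) : Matrix.ProjectiveSpecialLinearGroup (Fin 2) F := piF F (uS γ)

theorem ub_mul (γ δ : F) : ub γ * ub δ = ub (γ + δ) := by
  unfold ub; rw [← map_mul, ← uS_add]

theorem ub_comm (γ δ : F) : ub γ * ub δ = ub δ * ub γ := by
  rw [ub_mul, ub_mul, add_comm]

theorem ub_zero : ub (0 : F) = 1 := by
  unfold ub; rw [uS_zero, map_one]

theorem ub_pow3 (h : Hyp F p) (γ : F) : ub γ ^ 3 = 1 := by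
  rw [pow_succ, pow_two, ub_mul, ub_mul]
  have : γ + γ + γ = 0 := by linear_combination γ * h.three
  rw [this, ub_zero]

/-- images of upper triangular matrices -/
def IsUp (t : Matrix.ProjectiveSpecialLinearGroup (Fin 2) F) : Prop :=
  ∃ T : SpecialLinearGroup (Fin 2) F, T.1 1 0 = 0 ∧ piF F T = t

theorem eq_uS_of (C : SpecialLinearGroup (Fin 2) F) (h10 : C.1 1 0 = 0) (h00 : C.1 0 0 = 1) :
    C = uS (C.1 0 1) := by
  have hdet := C.2
  rw [Matrix.det_fin_two, h10, h00, mul_zero, sub_zero, one_mul] at hdet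
  apply sl_ext
  rw [coe_uS]
  ext i j
  fin_cases i <;> fin_cases j <;> simp [h10, h00, hdet]

theorem IsUp.conj_ub {a : Matrix.ProjectiveSpecialLinearGroup (Fin 2) F} (ha : IsUp a) :
    ∃ κ : F, ∀ γ : F, a * ub γ * a⁻¹ = ub (γ * κ) := by
  obtain ⟨A, hA, rfl⟩ := ha
  refine ⟨A.1 0 0 ^ 2, fun γ => ?_⟩
  unfold ub
  rw [← map_inv, ← map_mul, ← map_mul, borel_conj A hA]

theorem IsUp.commutator {a b : Matrix.ProjectiveSpecialLinearGroup (Fin 2) F} (ha : IsUp a)
    (hb : IsUp b) : ∃ γ : F, a * b * a⁻¹ * b⁻¹ = ub γ := by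
  obtain ⟨A, hA, rfl⟩ := ha
  obtain ⟨B, hB, rfl⟩ := hb
  obtain ⟨A', hA'⟩ : ∃ A' : Bsub F, A' = ⟨A, hA⟩ := ⟨_, rfl⟩
  obtain ⟨B', hB'⟩ : ∃ B' : Bsub F, B' = ⟨B, hB⟩ := ⟨_, rfl⟩
  have h1 : Bhom (A' * B' * A'⁻¹ * B'⁻¹) = 1 := by
    rw [map_mul, map_mul, map_mul, map_inv, map_inv]
    rw [mul_comm (Bhom A') (Bhom B'), mul_assoc (Bhom B'), mul_inv_cancel, mul_one, mul_inv_cancel]
  have h2 : ((A' * B' * A'⁻¹ * B'⁻¹ : Bsub F) : SpecialLinearGroup (Fin 2) F) =
      A * B * A⁻¹ * B⁻¹ := by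
    rw [hA', hB']; rfl
  have h00 : (A * B * A⁻¹ * B⁻¹).1 0 0 = 1 := by
    have := congrArg Units.val h1
    rw [← h2]
    simpa [Bhom] using this
  have h10 : (A * B * A⁻¹ * B⁻¹).1 1 0 = 0 := by
    rw [← h2]
    exact mem_Bsub.mp (A' * B' * A'⁻¹ * B'⁻¹).2
  refine ⟨(A * B * A⁻¹ * B⁻¹).1 0 1, ?_⟩
  unfold ub
  rw [← eq_uS_of _ h10 h00]
  simp only [map_mul, map_inv]

theorem IsUp.pow_eq_one (h : Hyp F p) {a : Matrix.ProjectiveSpecialLinearGroup (Fin 2) F}
    (ha : IsUp a) : a ^ (Fintype.card F * (Fintype.card F - 1) / 2) = 1 := by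
  obtain ⟨A, hA, rfl⟩ := ha
  obtain ⟨m, hm⟩ : ∃ m, m = Fintype.card F * (Fintype.card F - 1) / 2 := ⟨_, rfl⟩
  rw [← hm]
  have h2m : 2 * m = Fintype.card F * (Fintype.card F - 1) := by
    rw [hm]
    have hq := h.mod8
    obtain ⟨k, hk⟩ : ∃ k, Fintype.card F = 2 * k + 1 := ⟨Fintype.card F / 2, by omega⟩
    have : Fintype.card F * (Fintype.card F - 1) = 2 * ((2 * k + 1) * k) := by
      rw [hk]
      have : 2 * k + 1 - 1 = 2 * k := by omega
      rw [this]; ring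
    rw [this, Nat.mul_div_cancel_left _ (by norm_num : 0 < 2)]
  have h1 : (⟨A, hA⟩ : Bsub F) ^ Nat.card (Bsub F) = 1 := pow_card_eq_one'
  rw [card_Bsub, ← h2m] at h1
  have h3 : A ^ (2 * m) = 1 := by
    have := congrArg Subtype.val h1
    simpa using this
  have h4 : A ^ m * A ^ m = 1 := by rw [← pow_add, ← two_mul]; exact h3
  rw [← map_pow, piF_eq_one_iff]
  exact eq_of_sq_eq_one h.two_ne h4

theorem IsUp.order3 (h : Hyp F p) {a : Matrix.ProjectiveSpecialLinearGroup (Fin 2) F}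
    (ha : IsUp a) (h3 : a ^ 3 = 1) : ∃ β : F, a = ub β := by
  obtain ⟨A, hA, rfl⟩ := ha
  rw [← map_pow, piF_eq_one_iff] at h3
  have hpow : (A ^ 3).1 0 0 = (A.1 0 0) ^ 3 := by
    have h5 : Bhom ((⟨A, hA⟩ : Bsub F) ^ 3) = (Bhom (⟨A, hA⟩ : Bsub F)) ^ 3 := map_pow _ _ _
    have := congrArg Units.val h5
    simpa [Bhom] using this
  have hc : A.1 0 0 = 1 ∨ A.1 0 0 = -1 := by
    rcases h3 with h3 | h3
    · left
      rw [h3] at hpow
      have h6 : (A.1 0 0 - 1) ^ 3 = 0 := by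
        have : (1 : F) = A.1 0 0 ^ 3 := by simpa using hpow
        linear_combination (-(A.1 0 0) ^ 2 + A.1 0 0) * h.three - this
      exact sub_eq_zero.mp (pow_eq_zero_iff (by norm_num) |>.mp h6)
    · right
      rw [h3] at hpow
      have h6 : (A.1 0 0 + 1) ^ 3 = 0 := by
        have : (-1 : F) = A.1 0 0 ^ 3 := by
          rw [← hpow, neg_apply]; simp
        linear_combination (A.1 0 0 ^ 2 + A.1 0 0) * h.three - this
      exact eq_neg_of_add_eq_zero_left (pow_eq_zero_iff (by norm_num) |>.mp h6)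
  rcases hc with hc | hc
  · exact ⟨A.1 0 1, by unfold ub; rw [← eq_uS_of A hA hc]⟩
  · refine ⟨(-A).1 0 1, ?_⟩
    unfold ub
    rw [← eq_uS_of (-A) (by rw [neg_apply, hA, neg_zero]) (by rw [neg_apply, hc, neg_neg]), piF_neg]

theorem up_BRel (h : Hyp F p) {a b : Matrix.ProjectiveSpecialLinearGroup (Fin 2) F}
    (ha : IsUp a) (hb : IsUp b) :
    BRel (Fintype.card F * (Fintype.card F - 1) / 2) a b := by
  obtain ⟨γ, hγ⟩ := ha.commutator hb
  obtain ⟨κa, hκa⟩ := ha.conj_ub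
  obtain ⟨κb, hκb⟩ := hb.conj_ub
  refine ⟨ha.pow_eq_one h, hb.pow_eq_one h, ?_, ?_, ?_, ?_⟩
  · intro h3
    obtain ⟨β, rfl⟩ := ha.order3 h h3
    rw [hκb, ub_comm]
  · rw [hγ]; exact ub_pow3 h γ
  · rw [hγ, hκa, ub_comm]
  · rw [hγ, hκb, ub_comm]

/-! ### Sylow 3-subgroups -/

theorem up_of_conj_ub {t : Matrix.ProjectiveSpecialLinearGroup (Fin 2) F} (h2 : (2 : F) ≠ 0)
    (ht : ∃ b : F, t * ub 1 * t⁻¹ = ub b) : IsUp t := by
  obtain ⟨b, hb⟩ := ht
  obtain ⟨T, rfl⟩ := piF_surjective t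
  refine ⟨T, ?_, rfl⟩
  unfold ub at hb
  rw [← map_inv, ← map_mul, ← map_mul, piF_eq_iff] at hb
  rcases hb with hb | hb
  · have h5 : T * uS 1 = uS b * T := by rw [← hb]; group
    have := congrArg (fun M : SpecialLinearGroup (Fin 2) F => M.1 1 1) h5
    simp only [Matrix.SpecialLinearGroup.coe_mul, coe_uS, Matrix.mul_apply, Fin.sum_univ_two] at this
    simp at this
    exact this
  · have h5 : T * uS 1 = -(uS b * T) := by
      have : T * uS 1 = (T * uS 1 * T⁻¹) * T := by group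
      rw [this, hb, neg_mul]
    have := congrArg (fun M : SpecialLinearGroup (Fin 2) F => M.1 1 0) h5
    simp only [neg_apply, Matrix.SpecialLinearGroup.coe_mul, coe_uS, Matrix.mul_apply,
      Fin.sum_univ_two] at this
    simp at this
    have h6 : 2 * T.1 1 0 = 0 := by linear_combination this
    rcases mul_eq_zero.mp h6 with h7 | h7
    · exact absurd h7 h2
    · exact h7

/-- the standard Sylow `3`-subgroup of `PSL₂(F)` -/
theorem exists_sylow (h : Hyp F p) [Fact (Nat.Prime 3)] :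
    ∃ Q : Sylow 3 (Matrix.ProjectiveSpecialLinearGroup (Fin 2) F),
      (Q : Subgroup (Matrix.ProjectiveSpecialLinearGroup (Fin 2) F)) = (U F).map (piF F) := by
  haveI := h.charP
  have hp1 : IsPGroup 3 ((U F).map (piF F)) := (isPGroup_U (F := F) 3).map _
  have hidx : ¬ 3 ∣ ((U F).map (piF F)).index := by
    intro hdvd
    have h1 : (((U F).map (piF F)).comap (piF F)).index = ((U F).map (piF F)).index :=
      Subgroup.index_comap_of_surjective _ piF_surjective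
    have h2 : U F ≤ ((U F).map (piF F)).comap (piF F) := Subgroup.le_comap_map _ _
    have h3 := Subgroup.index_dvd_of_le h2
    rw [h1] at h3
    exact not_dvd_index_U (F := F) 3 (hdvd.trans h3)
  exact ⟨hp1.toSylow hidx, IsPGroup.toSylow_coe _ _⟩

theorem mem_map_U_iff (t : Matrix.ProjectiveSpecialLinearGroup (Fin 2) F) :
    t ∈ (U F).map (piF F) ↔ ∃ b : F, t = ub b := by
  constructor
  · rintro ⟨T, hT, rfl⟩
    obtain ⟨s, rfl⟩ := exists_of_mem_U hT
    exact ⟨s, rfl⟩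
  · rintro ⟨b, rfl⟩
    exact ⟨uS b, uS_mem b, rfl⟩

theorem exists_embed (h : Hyp F p) [Fact (Nat.Prime 3)]
    (P : Sylow 3 (Matrix.ProjectiveSpecialLinearGroup (Fin 2) F))
    (K : Subgroup (Matrix.ProjectiveSpecialLinearGroup (Fin 2) F))
    (hK : K ≤ Subgroup.normalizer ((P : Subgroup (Matrix.ProjectiveSpecialLinearGroup (Fin 2) F)) :
      Set (Matrix.ProjectiveSpecialLinearGroup (Fin 2) F))) :
    ∃ g : Matrix.ProjectiveSpecialLinearGroup (Fin 2) F, ∀ k ∈ K, IsUp (g⁻¹ * k * g) := by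
  obtain ⟨Q, hQ⟩ := exists_sylow h
  obtain ⟨g, hg⟩ := MulAction.exists_smul_eq (Matrix.ProjectiveSpecialLinearGroup (Fin 2) F) Q P
  refine ⟨g, fun k hk => up_of_conj_ub h.two_ne ?_⟩
  rw [← mem_map_U_iff, ← hQ]
  have h1 : g * ub 1 * g⁻¹ ∈ P := by
    rw [← hg, Cfsg.Agent.helper11.SL2U.mem_smul_sylow_iff]
    have : g⁻¹ * (g * ub 1 * g⁻¹) * g = ub 1 := by group
    rw [this]
    show ub 1 ∈ (Q : Subgroup (Matrix.ProjectiveSpecialLinearGroup (Fin 2) F))
    rw [hQ, mem_map_U_iff]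
    exact ⟨1, rfl⟩
  have h2 : k * (g * ub 1 * g⁻¹) * k⁻¹ ∈ P := by
    have := (Subgroup.mem_normalizer_iff.mp (hK hk) (g * ub 1 * g⁻¹)).mp h1
    exact this
  rw [← hg, Cfsg.Agent.helper11.SL2U.mem_smul_sylow_iff] at h2
  have h3 : g⁻¹ * (k * (g * ub 1 * g⁻¹) * k⁻¹) * g = g⁻¹ * k * g * ub 1 * (g⁻¹ * k * g)⁻¹ := by
    group
  rw [h3] at h2
  exact h2

end Cfsg.Agent.helper11.Sol3
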