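import Cfsg.Statements.S0799
-- import your own Cfsg.Agent.* helpers here
import Mathlib
import Cfsg.Agent.Lib_helper4_DnAO

set_option autoImplicit false
open Cfsg

set_option maxHeartbeats 3200000
namespace Cfsg.Agent.S0799

open Matrix
open scoped LinearAlgebra.Projectivization MatrixGroups
open Cfsg.Agent.helper4.Dk Cfsg.Agent.helper4.Dn


/-- Dickson's classification of the subgroups of PSL_2(q), q a power of the prime p, d = gcd(2, q − 1): every subgroup H is (a) cyclic or dihedral with k dividing (q+1)/d or (q−1)/d (cyclic of order k, or dihedral of order 2k), (b) isomorphic to a subgroup of the normaliser of a Sylow p-subgroup, (c) isomorphic to A_4, S_4 or A_5, or (d) isomorphic to PSL_2(K) or PGL_2(K) for a finite field K with |K|^m = q. -/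
theorem result {F : Type*} [Field F] [Fintype F] {q : ℕ} (hF : Fintype.card F = q) (p : ℕ) [Fact p.Prime] [CharP F p] (H : Subgroup (Matrix.ProjectiveSpecialLinearGroup (Fin 2) F)) : (∃ k : ℕ, (k ∣ (q + 1) / Nat.gcd 2 (q - 1) ∨ k ∣ (q - 1) / Nat.gcd 2 (q - 1)) ∧ ((IsCyclic H ∧ Nat.card H = k) ∨ Nonempty (H ≃* DihedralGroup k))) ∨ (∃ (P : Sylow p (Matrix.ProjectiveSpecialLinearGroup (Fin 2) F)) (K : Subgroup (Matrix.ProjectiveSpecialLinearGroup (Fin 2) F)), K ≤ Subgroup.normalizer ((P : Subgroup (Matrix.ProjectiveSpecialLinearGroup (Fin 2) F)) : Set (Matrix.ProjectiveSpecialLinearGroup (Fin 2) F)) ∧ Nonempty (H ≃* K)) ∨ Nonempty (H ≃* alternatingGroup (Fin 4)) ∨ Nonempty (H ≃* Equiv.Perm (Fin 4)) ∨ Nonempty (H ≃* alternatingGroup (Fin 5)) ∨ (∃ (K : Type) (_ : Field K) (_ : Fintype K) (m : ℕ), Fintype.card K ^ m = q ∧ (Nonempty (H ≃* Matrix.ProjectiveSpecialLinearGroup (Fin 2) K) ∨ Nonempty (H ≃* Matrix.ProjGenLinGroup (Fin 2) K))) := by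
  classical
  subst hF
  obtain ⟨K, hKdef⟩ : ∃ K : Type _, K = AlgebraicClosure F := ⟨_, rfl⟩
  subst hKdef
  haveI : CharP (AlgebraicClosure F) p :=
    charP_of_injective_algebraMap (algebraMap F (AlgebraicClosure F)).injective p
  have hp : p.Prime := Fact.out
  obtain ⟨Ht, hHt⟩ : ∃ Ht, Ht = H.comap (piF F) := ⟨_, rfl⟩
  have hneg : -1 ∈ Ht := by
    rw [hHt, Subgroup.mem_comap, piF_neg_one]; exact H.one_mem
  obtain ⟨Hbar, hHbar⟩ : ∃ Hbar, Hbar = Ht.map (iota F (AlgebraicClosure F)) := ⟨_, rfl⟩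
  haveI : Finite Hbar := by rw [hHbar]; infer_instance
  have hneg' : -1 ∈ Hbar := by rw [hHbar]; exact neg_one_mem_map hneg
  have hgcd : Nat.gcd 2 (Fintype.card F - 1) = zc (AlgebraicClosure F) := gcd_eq_zc _
  have hz1 := zc_pos (AlgebraicClosure F)
  have hdiv : ∀ k : ℕ, (zc (AlgebraicClosure F) * k ∣ Fintype.card F - 1 ∨
      zc (AlgebraicClosure F) * k ∣ Fintype.card F + 1) →
      (k ∣ (Fintype.card F + 1) / Nat.gcd 2 (Fintype.card F - 1) ∨
        k ∣ (Fintype.card F - 1) / Nat.gcd 2 (Fintype.card F - 1)) := by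
    intro k hk
    rw [hgcd]
    rcases hk with hk | hk
    · right; exact Nat.dvd_div_of_mul_dvd hk
    · left; exact Nat.dvd_div_of_mul_dvd hk
  -- the image of `H` in `PSL₂` of the algebraic closure
  have key : ∀ (Θ : SpecialLinearGroup (Fin 2) F →* SpecialLinearGroup (Fin 2) (AlgebraicClosure F))
      (hΘ : Θ (-1) = -1) (hinj : Function.Injective Θ),
      ∃ G : Subgroup (Matrix.ProjectiveSpecialLinearGroup (Fin 2) (AlgebraicClosure F)),
        Nonempty (H ≃* G) ∧ G.comap (piF (AlgebraicClosure F)) = Ht.map Θ := by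
    intro Θ hΘ hinj
    refine ⟨H.map (psiOf Θ hΘ), ⟨H.equivMapOfInjective _ (psiOf_injective Θ hΘ hinj)⟩, ?_⟩
    rw [comap_map_psiOf, hHt]
  by_cases hpar : ∃ y, N2 Hbar y ≠ 0
  · obtain ⟨y₀, hy₀⟩ := hpar
    by_cases hfix : ∀ g ∈ Hbar, g • y₀ = y₀
    · -- the Borel case
      right; left
      have hne : {g : SpecialLinearGroup (Fin 2) (AlgebraicClosure F) | g ∈ Hbar ∧ g ≠ 1 ∧ g ≠ -1 ∧
          tr g ^ 2 = 4 ∧ g • y₀ = y₀}.Nonempty := by
        by_contra hemp
        rw [Set.not_nonempty_iff_eq_empty] at hemp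
        apply hy₀
        unfold N2
        rw [hemp, Set.ncard_empty]
      obtain ⟨g', hg'H, hg'1, hg'2, hg'tr, hg'y⟩ := hne
      rw [hHbar] at hg'H
      obtain ⟨g, hg, rfl⟩ := hg'H
      obtain ⟨s, hs⟩ := exists_rational_conj g hg'1 hg'2 hg'tr y₀ hg'y
      apply borel_case H s
      intro b hb
      rw [← hHt, mem_cj] at hb
      have h1 : iota F (AlgebraicClosure F) (s * b * s⁻¹) • y₀ = y₀ :=
        hfix _ (by rw [hHbar]; exact Subgroup.mem_map_of_mem _ hb)
      have h2 : iota F (AlgebraicClosure F) b • (pInf : ℙ (AlgebraicClosure F) (Fin 2 → AlgebraicClosure F)) = pInf := by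
        rw [map_mul, map_mul, map_inv, mul_smul, mul_smul, ← hs, inv_smul_smul] at h1
        have := congrArg (fun x => (iota F (AlgebraicClosure F) s)⁻¹ • x) h1
        simpa using this
      have h3 := (fixed_pInf_iff _).mp h2
      rw [iota_apply] at h3
      exact (algebraMap F (AlgebraicClosure F)).injective (by rw [h3, map_zero])
    · push Not at hfix
      obtain ⟨g₀, hg₀, hmove⟩ := hfix
      obtain ⟨d, hu1, g₂, hg₂, hg₂0⟩ := exists_normal_form Hbar hneg' hy₀ hg₀ hmove
      obtain ⟨Θ, hΘdef⟩ : ∃ Θ : SpecialLinearGroup (Fin 2) F →* SpecialLinearGroup (Fin 2) (AlgebraicClosure F),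
          Θ = (MulAut.conj d⁻¹).toMonoidHom.comp (iota F (AlgebraicClosure F)) := ⟨_, rfl⟩
      have hΘapp : ∀ g, Θ g = d⁻¹ * iota F (AlgebraicClosure F) g * d := by
        intro g
        rw [hΘdef]
        simp [MulAut.conj_apply]
      have hΘneg : Θ (-1) = -1 := by
        rw [hΘapp, iota_neg_one]; simp
      have hΘinj : Function.Injective Θ := by
        intro a b hab
        rw [hΘapp, hΘapp] at hab
        apply iota_injective (K := AlgebraicClosure F)
        have := congrArg (fun x => d * x * d⁻¹) hab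
        beta_reduce at this
        have e1 : ∀ x : SpecialLinearGroup (Fin 2) (AlgebraicClosure F), d * (d⁻¹ * x * d) * d⁻¹ = x := by
          intro x; group
        rwa [e1, e1] at this
      obtain ⟨G, ⟨eG⟩, hGc⟩ := key Θ hΘneg hΘinj
      have hGc' : G.comap (piF (AlgebraicClosure F)) = cj d Hbar := by
        rw [hGc]
        ext x
        rw [mem_cj, Subgroup.mem_map, hHbar, Subgroup.mem_map]
        constructor
        · rintro ⟨g, hg, rfl⟩
          refine ⟨g, hg, ?_⟩
          rw [hΘapp]; group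
        · rintro ⟨g, hg, hgx⟩
          refine ⟨g, hg, ?_⟩
          rw [hΘapp, hgx]; group
      haveI : Finite G := Finite.of_equiv _ eG.toEquiv
      rw [← hGc'] at hu1 hg₂
      rcases par_iso (p := p) G hu1 hg₂ hg₂0 with
        ⟨y₁, s, hs2, hN2, hst, ⟨e⟩⟩ | ⟨⟨e⟩⟩ | ⟨Kf, _, _, a, ha1, hKf, hdvd, hiso⟩
      · left
        refine ⟨s, ?_, Or.inr ⟨eG.trans e⟩⟩
        apply hdiv
        rw [hGc'] at hN2 hst
        rw [← N2_conj] at hN2
        rw [← card_stabIn_conj] at hst
        have := card_stab_dvd Ht hneg (d • y₁) (by rw [← hHbar]; exact hN2)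
        rw [← hHbar, hst] at this
        exact this
      · right; right; right; right; left
        exact ⟨eG.trans e⟩
      · right; right; right; right; right
        obtain ⟨n, -, hn⟩ := FiniteField.card F p
        have hcard : Nat.card (G.comap (piF (AlgebraicClosure F))) = Nat.card Ht := by
          rw [hGc', card_cj, hHbar, card_map_iota]
        rw [hcard] at hdvd
        obtain ⟨m, hm⟩ := field_numerics hp ha1 n.pos hKf hn hdvd (card_dvd_SL2 Ht)
        refine ⟨Kf, inferInstance, inferInstance, m, hm, ?_⟩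
        rcases hiso with ⟨⟨e⟩⟩ | ⟨⟨e⟩⟩
        · left; exact ⟨eG.trans e⟩
        · right; exact ⟨eG.trans e⟩
  · push Not at hpar
    obtain ⟨G, ⟨eG⟩, hGc⟩ := key (iota F (AlgebraicClosure F)) iota_neg_one iota_injective
    rw [← hHbar] at hGc
    haveI : Finite G := Finite.of_equiv _ eG.toEquiv
    rcases pprime_z Hbar hneg' hpar with ⟨w, hw⟩ | ⟨y₁, y₂, y₃, s₁, s₂, s₃, hb, hPoly⟩
    · -- cyclic
      left
      haveI : IsCyclic G := cyclic_of_fix G w (by rw [hGc]; exact hpar w) (by rw [hGc]; exact hw)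
      haveI : IsCyclic H := isCyclic_of_surjective eG.symm eG.symm.surjective
      refine ⟨Nat.card H, ?_, Or.inl ⟨inferInstance, rfl⟩⟩
      apply hdiv
      have h1 : stabIn Hbar w = Hbar := by
        ext g
        rw [mem_stabIn]
        exact ⟨fun h => h.1, fun h => ⟨h, hw g h⟩⟩
      have h2 := card_stab_dvd Ht hneg w (by rw [← hHbar]; exact hpar w)
      rw [← hHbar, h1] at h2
      have h3 : Nat.card Hbar = zc (AlgebraicClosure F) * Nat.card H := by
        rw [← hGc, card_comap_piF_gen, Nat.card_congr eG.toEquiv]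
      rw [h3] at h2
      exact h2
    · have hc3 : Nat.card (stabIn Hbar y₃) = zc (AlgebraicClosure F) * s₃ := hPoly.2.2.2.2.2.2.2.2.2.1
      have hPoly' : Poly (G.comap (piF (AlgebraicClosure F))) y₁ y₂ y₃ s₁ s₂ s₃ hb := by
        rw [hGc]; exact hPoly
      rcases poly_iso G (by rw [hGc]; exact hpar) hPoly' with ⟨hs3, ⟨e⟩⟩ | ⟨⟨e⟩⟩ | ⟨⟨e⟩⟩ | ⟨⟨e⟩⟩
      · left
        refine ⟨s₃, ?_, Or.inr ⟨eG.trans e⟩⟩
        apply hdiv
        have h2 := card_stab_dvd Ht hneg y₃ (by rw [← hHbar]; exact hpar y₃)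
        rw [← hHbar, hc3] at h2
        exact h2
      · right; right; left
        exact ⟨eG.trans e⟩
      · right; right; right; left
        exact ⟨eG.trans e⟩
      · right; right; right; right; left
        exact ⟨eG.trans e⟩

end Cfsg.Agent.S0799
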