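import Mathlib
import Cfsg.Agent.Lib_helper11_SolC
import Cfsg.Agent.S0799
import Cfsg.Agent.S0251

set_option autoImplicit false
set_option linter.unusedSectionVars false
set_option linter.unusedSimpArgs false
set_option linter.style.haveILetI false
set_option maxHeartbeats 1000000

/-!
# Solubilizers in `PSL₂(3^p)`: the structure of proper two-generated subgroups
-/

namespace Cfsg.Agent.helper11.Sol3

open Matrix Cfsg.Agent.helper11.SL2U Cfsg.Agent.helper4.Dn Cfsg.Agent.helper11.CA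

variable {F : Type*} [Field F] [Fintype F] {p : ℕ}

theorem Hyp.not_eight_dvd (h : Hyp F p) :
    ¬ 8 ∣ Nat.card (Matrix.ProjectiveSpecialLinearGroup (Fin 2) F) := by
  rintro ⟨n, hn⟩
  have hc := h.card_G
  have hq8 := h.mod8
  obtain ⟨j, hj⟩ : ∃ j, Fintype.card F = 8 * j + 3 := ⟨Fintype.card F / 8, by omega⟩
  have hsq : Fintype.card F ^ 2 - 1 = 8 * (8 * j ^ 2 + 6 * j + 1) := by
    have : Fintype.card F ^ 2 = 64 * j ^ 2 + 48 * j + 9 := by rw [hj]; ring
    omega
  rw [hn, hsq, hj] at hc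
  have h1 : 2 * n = (8 * j + 3) * (8 * j ^ 2 + 6 * j + 1) := by
    have : 8 * (2 * n) = 8 * ((8 * j + 3) * (8 * j ^ 2 + 6 * j + 1)) := by
      calc 8 * (2 * n) = 2 * (8 * n) := by ring
        _ = (8 * j + 3) * (8 * (8 * j ^ 2 + 6 * j + 1)) := hc
        _ = 8 * ((8 * j + 3) * (8 * j ^ 2 + 6 * j + 1)) := by ring
    exact Nat.eq_of_mul_eq_mul_left (by norm_num) this
  have h2 : ((8 * j + 3) * (8 * j ^ 2 + 6 * j + 1)) % 2 = 1 := by
    rw [Nat.mul_mod]
    have e1 : (8 * j + 3) % 2 = 1 := by omega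
    have e2 : (8 * j ^ 2 + 6 * j + 1) % 2 = 1 := by omega
    rw [e1, e2]
  omega

theorem field_card_cases {K : Type} [Field K] [Fintype K] {m p : ℕ} (hp : p.Prime)
    (hKm : Fintype.card K ^ m = 3 ^ p) : Fintype.card K = 3 ∨ Fintype.card K = 3 ^ p := by
  have hm0 : m ≠ 0 := by
    rintro rfl
    rw [pow_zero] at hKm
    have : 1 < 3 ^ p := Nat.one_lt_pow hp.ne_zero (by norm_num)
    omega
  have hdvd : Fintype.card K ∣ 3 ^ p := by
    rw [← hKm]; exact dvd_pow_self _ hm0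
  obtain ⟨j, -, hj⟩ := (Nat.dvd_prime_pow Nat.prime_three).mp hdvd
  rw [hj, ← pow_mul] at hKm
  have hjm : j * m = p := Nat.pow_right_injective (a := 3) (by norm_num) hKm
  have hjd : j ∣ p := ⟨m, hjm.symm⟩
  rcases (Nat.dvd_prime hp).mp hjd with h1 | h1
  · left; rw [hj, h1, pow_one]
  · right; rw [hj, h1]

theorem struct (h : Hyp F p) (x y : Matrix.ProjectiveSpecialLinearGroup (Fin 2) F)
    (hne : Subgroup.closure ({x, y} : Set (Matrix.ProjectiveSpecialLinearGroup (Fin 2) F)) ≠ ⊤) :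
    DRel x y ∨ BRel (Fintype.card F * (Fintype.card F - 1) / 2) x y ∨ ARel x y := by
  classical
  haveI := h.charP
  haveI : Fact (Nat.Prime 3) := ⟨Nat.prime_three⟩
  obtain ⟨H, hH⟩ : ∃ H, H = Subgroup.closure
    ({x, y} : Set (Matrix.ProjectiveSpecialLinearGroup (Fin 2) F)) := ⟨_, rfl⟩
  have hx : x ∈ H := by rw [hH]; exact Subgroup.subset_closure (by simp)
  have hy : y ∈ H := by rw [hH]; exact Subgroup.subset_closure (by simp)
  have hHne : H ≠ ⊤ := by rw [hH]; exact hne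
  have hsolv : Group.IsSolvable H := (h.solvable_iff H).mpr hHne
  suffices hs : DRel (⟨x, hx⟩ : H) ⟨y, hy⟩ ∨
      BRel (Fintype.card F * (Fintype.card F - 1) / 2) (⟨x, hx⟩ : H) ⟨y, hy⟩ ∨
      ARel (⟨x, hx⟩ : H) ⟨y, hy⟩ by
    rcases hs with hs | hs | hs
    · left; exact (DRel_iff H.subtype H.subtype_injective ⟨x, hx⟩ ⟨y, hy⟩).mpr hs
    · right; left; exact (BRel_iff _ H.subtype H.subtype_injective ⟨x, hx⟩ ⟨y, hy⟩).mpr hs
    · right; right; exact (ARel_iff H.subtype H.subtype_injective ⟨x, hx⟩ ⟨y, hy⟩).mpr hs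
  have hcardG := h.card_G
  have h8 := h.not_eight_dvd
  have hHdvd : Nat.card H ∣ Nat.card (Matrix.ProjectiveSpecialLinearGroup (Fin 2) F) :=
    Subgroup.card_subgroup_dvd_card H
  have h24 : Nat.card H ≠ 24 := by
    intro h24
    rw [h24] at hHdvd
    exact h8 (Dvd.dvd.trans (by norm_num) hHdvd)
  have hGpos : 0 < Nat.card (Matrix.ProjectiveSpecialLinearGroup (Fin 2) F) := Nat.card_pos
  rcases Cfsg.Agent.S0799.result (F := F) (q := Fintype.card F) rfl 3 H with
    ⟨k, -, ⟨hcyc, -⟩ | ⟨⟨e⟩⟩⟩ | ⟨P, K, hK, ⟨e⟩⟩ | ⟨⟨e⟩⟩ | ⟨⟨e⟩⟩ | ⟨⟨e⟩⟩ | ⟨K, iK, iK', m, hKm, ⟨⟨e⟩⟩ | ⟨⟨e⟩⟩⟩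
  · -- cyclic
    left; left
    obtain ⟨g, hg⟩ := IsCyclic.exists_generator (α := H)
    obtain ⟨i, hi⟩ := Subgroup.mem_zpowers_iff.mp (hg ⟨x, hx⟩)
    obtain ⟨j, hj⟩ := Subgroup.mem_zpowers_iff.mp (hg ⟨y, hy⟩)
    rw [← hi, ← hj, ← _root_.zpow_add, ← _root_.zpow_add, add_comm]
  · -- dihedral
    left
    exact (DRel_iff e.toMonoidHom e.injective _ _).mp (dihedral_DRel k _ _)
  · -- Borel
    right; left
    obtain ⟨g, hg⟩ := exists_embed h P K hK
    obtain ⟨φ, hφ⟩ : ∃ φ : H →* Matrix.ProjectiveSpecialLinearGroup (Fin 2) F,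
        φ = (MulAut.conj g⁻¹).toMonoidHom.comp (K.subtype.comp e.toMonoidHom) := ⟨_, rfl⟩
    have hφinj : Function.Injective φ := by
      rw [hφ]
      exact (MulAut.conj g⁻¹).injective.comp (K.subtype_injective.comp e.injective)
    have hφup : ∀ a : H, IsUp (φ a) := by
      intro a
      have : φ a = g⁻¹ * ((e a : K) : Matrix.ProjectiveSpecialLinearGroup (Fin 2) F) * g := by
        rw [hφ]
        simp [MulAut.conj_apply]
      rw [this]
      exact hg _ (e a).2
    exact (BRel_iff _ φ hφinj _ _).mp (up_BRel h (hφup _) (hφup _))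
  · -- A4
    right; right
    exact (ARel_iff e.toMonoidHom e.injective _ _).mp (a4_ARel _ _)
  · -- S4
    exfalso
    apply h24
    rw [Nat.card_congr e.toEquiv, Nat.card_eq_fintype_card, Fintype.card_perm, Fintype.card_fin]
    rfl
  · -- A5
    exfalso
    apply A5_not_solvable
    exact Group.isSolvable_of_surjective (f := e.toMonoidHom) e.surjective
  · -- PSL2(K)
    rw [h.2.2] at hKm
    rcases field_card_cases h.1 hKm with hK3 | hKq
    · right; right
      obtain ⟨e'⟩ := Cfsg.Agent.S0251.result (F := K) hK3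
      exact (ARel_iff (e.trans e').toMonoidHom (e.trans e').injective _ _).mp (a4_ARel _ _)
    · exfalso
      apply hHne
      rw [← Subgroup.card_eq_iff_eq_top]
      have hKodd : Odd (Fintype.card K) := by rw [hKq, ← h.2.2]; exact h.odd
      have h2K : (2 : K) ≠ 0 := Cfsg.Agent.helper12.two_ne_zero_of_odd_card hKodd
      have hcK := Cfsg.Agent.helper4.Mx.two_mul_card_PSL (F := K) h2K
      rw [hKq, ← h.2.2, ← hcardG] at hcK
      rw [Nat.card_congr e.toEquiv]
      omega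
  · -- PGL2(K)
    exfalso
    rw [h.2.2] at hKm
    have hcK : Nat.card (Matrix.ProjGenLinGroup (Fin 2) K) =
        Fintype.card K * (Fintype.card K ^ 2 - 1) := by
      rw [Cfsg.Agent.helper2.card_PGL_eq_card_SL, Cfsg.Agent.helper12.card_SL2]
    rcases field_card_cases h.1 hKm with hK3 | hKq
    · apply h24
      rw [Nat.card_congr e.toEquiv, hcK, hK3]
      norm_num
    · have hle : Nat.card H ≤ Nat.card (Matrix.ProjectiveSpecialLinearGroup (Fin 2) F) :=
        Subgroup.card_le_card_group H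
      rw [Nat.card_congr e.toEquiv, hcK, hKq, ← h.2.2, ← hcardG] at hle
      omega

end Cfsg.Agent.helper11.Sol3
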