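import Mathlib
import Cfsg.Agent.Lib_helper11_SolD
import Cfsg.Agent.Lib_helper11_CA17

set_option autoImplicit false
set_option linter.unusedSectionVars false
set_option linter.unusedSimpArgs false
set_option linter.style.haveILetI false

/-!
# Solubilizers in `PSL₂(3^p)`: matrix toolkit
-/

namespace Cfsg.Agent.helper11.Sol3

open Matrix Cfsg.Agent.helper11.SL2U Cfsg.Agent.helper4.Dn Cfsg.Agent.helper11.CA

variable {F : Type*} [Field F]

theorem e_mul_00 (A B : SpecialLinearGroup (Fin 2) F) :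
    (A * B).1 0 0 = A.1 0 0 * B.1 0 0 + A.1 0 1 * B.1 1 0 := by
  rw [Matrix.SpecialLinearGroup.coe_mul, Matrix.mul_apply, Fin.sum_univ_two]
theorem e_mul_01 (A B : SpecialLinearGroup (Fin 2) F) :
    (A * B).1 0 1 = A.1 0 0 * B.1 0 1 + A.1 0 1 * B.1 1 1 := by
  rw [Matrix.SpecialLinearGroup.coe_mul, Matrix.mul_apply, Fin.sum_univ_two]
theorem e_mul_10 (A B : SpecialLinearGroup (Fin 2) F) :
    (A * B).1 1 0 = A.1 1 0 * B.1 0 0 + A.1 1 1 * B.1 1 0 := by
  rw [Matrix.SpecialLinearGroup.coe_mul, Matrix.mul_apply, Fin.sum_univ_two]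
theorem e_mul_11 (A B : SpecialLinearGroup (Fin 2) F) :
    (A * B).1 1 1 = A.1 1 0 * B.1 0 1 + A.1 1 1 * B.1 1 1 := by
  rw [Matrix.SpecialLinearGroup.coe_mul, Matrix.mul_apply, Fin.sum_univ_two]

theorem e_inv_00 (A : SpecialLinearGroup (Fin 2) F) : (A⁻¹).1 0 0 = A.1 1 1 := by
  rw [Matrix.SpecialLinearGroup.coe_inv, Matrix.adjugate_fin_two]; simp
theorem e_inv_01 (A : SpecialLinearGroup (Fin 2) F) : (A⁻¹).1 0 1 = -A.1 0 1 := by
  rw [Matrix.SpecialLinearGroup.coe_inv, Matrix.adjugate_fin_two]; simp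
theorem e_inv_10 (A : SpecialLinearGroup (Fin 2) F) : (A⁻¹).1 1 0 = -A.1 1 0 := by
  rw [Matrix.SpecialLinearGroup.coe_inv, Matrix.adjugate_fin_two]; simp
theorem e_inv_11 (A : SpecialLinearGroup (Fin 2) F) : (A⁻¹).1 1 1 = A.1 0 0 := by
  rw [Matrix.SpecialLinearGroup.coe_inv, Matrix.adjugate_fin_two]; simp

theorem e_one_00 : (1 : SpecialLinearGroup (Fin 2) F).1 0 0 = 1 := by simp
theorem e_one_01 : (1 : SpecialLinearGroup (Fin 2) F).1 0 1 = 0 := by simp
theorem e_one_10 : (1 : SpecialLinearGroup (Fin 2) F).1 1 0 = 0 := by simp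
theorem e_one_11 : (1 : SpecialLinearGroup (Fin 2) F).1 1 1 = 1 := by simp

theorem e_neg (A : SpecialLinearGroup (Fin 2) F) (i j : Fin 2) : (-A).1 i j = -(A.1 i j) := by
  rw [Matrix.SpecialLinearGroup.coe_neg]; rfl

theorem e_det (A : SpecialLinearGroup (Fin 2) F) : A.1 0 0 * A.1 1 1 - A.1 0 1 * A.1 1 0 = 1 := by
  have := A.2
  rw [Matrix.det_fin_two] at this
  exact this

theorem e_ext {A B : SpecialLinearGroup (Fin 2) F} (h00 : A.1 0 0 = B.1 0 0)
    (h01 : A.1 0 1 = B.1 0 1) (h10 : A.1 1 0 = B.1 1 0) (h11 : A.1 1 1 = B.1 1 1) : A = B := by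
  apply Subtype.ext
  ext i j
  fin_cases i <;> fin_cases j <;> assumption

theorem e_entries {A B : SpecialLinearGroup (Fin 2) F} (h : A = B) :
    A.1 0 0 = B.1 0 0 ∧ A.1 0 1 = B.1 0 1 ∧ A.1 1 0 = B.1 1 0 ∧ A.1 1 1 = B.1 1 1 := by
  subst h; exact ⟨rfl, rfl, rfl, rfl⟩

theorem uS_00 (β : F) : (uS β).1 0 0 = 1 := by simp [coe_uS]
theorem uS_01 (β : F) : (uS β).1 0 1 = β := by simp [coe_uS]
theorem uS_10 (β : F) : (uS β).1 1 0 = 0 := by simp [coe_uS]
theorem uS_11 (β : F) : (uS β).1 1 1 = 1 := by simp [coe_uS]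

theorem dS_00 (a : F) (ha : a ≠ 0) : (dS a ha).1 0 0 = a := by simp [coe_dS]
theorem dS_01 (a : F) (ha : a ≠ 0) : (dS a ha).1 0 1 = 0 := by simp [coe_dS]
theorem dS_10 (a : F) (ha : a ≠ 0) : (dS a ha).1 1 0 = 0 := by simp [coe_dS]
theorem dS_11 (a : F) (ha : a ≠ 0) : (dS a ha).1 1 1 = a⁻¹ := by simp [coe_dS]

/-- the quarter turn -/
def Jm : SpecialLinearGroup (Fin 2) F := ⟨!![0, 1; -1, 0], by simp [Matrix.det_fin_two_of]⟩

theorem Jm_00 : (Jm : SpecialLinearGroup (Fin 2) F).1 0 0 = 0 := by simp [Jm]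
theorem Jm_01 : (Jm : SpecialLinearGroup (Fin 2) F).1 0 1 = 1 := by simp [Jm]
theorem Jm_10 : (Jm : SpecialLinearGroup (Fin 2) F).1 1 0 = -1 := by simp [Jm]
theorem Jm_11 : (Jm : SpecialLinearGroup (Fin 2) F).1 1 1 = 0 := by simp [Jm]

/-- trace -/
def tr (A : SpecialLinearGroup (Fin 2) F) : F := A.1 0 0 + A.1 1 1

/-- Cayley–Hamilton: `A * A = tr A • A - 1`, entrywise -/
theorem sq_entries (A : SpecialLinearGroup (Fin 2) F) :
    (A * A).1 0 0 = tr A * A.1 0 0 - 1 ∧ (A * A).1 0 1 = tr A * A.1 0 1 ∧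
    (A * A).1 1 0 = tr A * A.1 1 0 ∧ (A * A).1 1 1 = tr A * A.1 1 1 - 1 := by
  have hd := e_det A
  unfold tr
  refine ⟨?_, ?_, ?_, ?_⟩
  · rw [e_mul_00]; linear_combination -hd
  · rw [e_mul_01]; ring
  · rw [e_mul_10]; ring
  · rw [e_mul_11]; linear_combination -hd

theorem cube_entries (A : SpecialLinearGroup (Fin 2) F) :
    (A * A * A).1 0 0 = (tr A ^ 2 - 1) * A.1 0 0 - tr A ∧
    (A * A * A).1 0 1 = (tr A ^ 2 - 1) * A.1 0 1 ∧
    (A * A * A).1 1 0 = (tr A ^ 2 - 1) * A.1 1 0 ∧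
    (A * A * A).1 1 1 = (tr A ^ 2 - 1) * A.1 1 1 - tr A := by
  obtain ⟨h00, h01, h10, h11⟩ := sq_entries A
  have hd := e_det A
  refine ⟨?_, ?_, ?_, ?_⟩
  · rw [e_mul_00, h00, h01]; unfold tr; linear_combination (-(A.1 0 0 + A.1 1 1)) * hd
  · rw [e_mul_01, h00, h01]; unfold tr; linear_combination (0 : F) * hd
  · rw [e_mul_10, h10, h11]; unfold tr; linear_combination (0 : F) * hd
  · rw [e_mul_11, h10, h11]; unfold tr; linear_combination (-(A.1 0 0 + A.1 1 1)) * hd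

theorem scalar_eq (h2 : (2 : F) ≠ 0) (A : SpecialLinearGroup (Fin 2) F) (h01 : A.1 0 1 = 0)
    (h10 : A.1 1 0 = 0) (h : A.1 0 0 = A.1 1 1) : A = 1 ∨ A = -1 := by
  have hd := e_det A
  rw [h01, h] at hd
  have : (A.1 1 1 - 1) * (A.1 1 1 + 1) = 0 := by linear_combination hd
  rcases mul_eq_zero.mp this with h1 | h1
  · left
    have h11 : A.1 1 1 = 1 := sub_eq_zero.mp h1
    exact e_ext (by rw [h, h11, e_one_00]) (by rw [h01, e_one_01]) (by rw [h10, e_one_10])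
      (by rw [h11, e_one_11])
  · right
    have h11 : A.1 1 1 = -1 := eq_neg_of_add_eq_zero_left h1
    exact e_ext (by rw [h, h11, e_neg, e_one_00]) (by rw [h01, e_neg, e_one_01, neg_zero])
      (by rw [h10, e_neg, e_one_10, neg_zero]) (by rw [h11, e_neg, e_one_11])

/-- `A² = ±1` forces `A = ±1` or `tr A = 0` -/
theorem sq_lemma (h2 : (2 : F) ≠ 0) (A : SpecialLinearGroup (Fin 2) F)
    (h : A * A = 1 ∨ A * A = -1) : (A = 1 ∨ A = -1) ∨ tr A = 0 := by
  by_cases ht : tr A = 0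
  · right; exact ht
  left
  obtain ⟨h00, h01, h10, h11⟩ := sq_entries A
  have key : tr A * A.1 0 1 = 0 ∧ tr A * A.1 1 0 = 0 ∧ tr A * A.1 0 0 = tr A * A.1 1 1 := by
    rcases h with h | h
    · obtain ⟨g00, g01, g10, g11⟩ := e_entries h
      rw [e_one_00] at g00; rw [e_one_01] at g01; rw [e_one_10] at g10; rw [e_one_11] at g11
      refine ⟨by rw [← h01, g01], by rw [← h10, g10], ?_⟩
      linear_combination h11 - h00 + g00 - g11
    · obtain ⟨g00, g01, g10, g11⟩ := e_entries h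
      rw [e_neg, e_one_00] at g00; rw [e_neg, e_one_01] at g01
      rw [e_neg, e_one_10] at g10; rw [e_neg, e_one_11] at g11
      refine ⟨by rw [← h01, g01, neg_zero], by rw [← h10, g10, neg_zero], ?_⟩
      linear_combination h11 - h00 + g00 - g11
  obtain ⟨k1, k2, k3⟩ := key
  exact scalar_eq h2 A ((mul_eq_zero.mp k1).resolve_left ht) ((mul_eq_zero.mp k2).resolve_left ht)
    (mul_left_cancel₀ ht k3)

theorem sq_of_tr (A : SpecialLinearGroup (Fin 2) F) (h : tr A = 0) : A * A = -1 := by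
  obtain ⟨h00, h01, h10, h11⟩ := sq_entries A
  rw [h] at h00 h01 h10 h11
  apply e_ext
  · rw [h00, e_neg, e_one_00]; ring
  · rw [h01, e_neg, e_one_01]; ring
  · rw [h10, e_neg, e_one_10]; ring
  · rw [h11, e_neg, e_one_11]; ring

/-- `A³ = ±1` forces `A = ±1` or `(tr A)² = 1` -/
theorem cube_lemma (h2 : (2 : F) ≠ 0) (A : SpecialLinearGroup (Fin 2) F)
    (h : A * A * A = 1 ∨ A * A * A = -1) : (A = 1 ∨ A = -1) ∨ tr A ^ 2 = 1 := by
  by_cases ht : tr A ^ 2 - 1 = 0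
  · right; exact sub_eq_zero.mp ht
  left
  obtain ⟨h00, h01, h10, h11⟩ := cube_entries A
  have key : (tr A ^ 2 - 1) * A.1 0 1 = 0 ∧ (tr A ^ 2 - 1) * A.1 1 0 = 0 ∧
      (tr A ^ 2 - 1) * A.1 0 0 = (tr A ^ 2 - 1) * A.1 1 1 := by
    rcases h with h | h
    · obtain ⟨g00, g01, g10, g11⟩ := e_entries h
      rw [e_one_00] at g00; rw [e_one_01] at g01; rw [e_one_10] at g10; rw [e_one_11] at g11
      refine ⟨by rw [← h01, g01], by rw [← h10, g10], ?_⟩
      linear_combination h11 - h00 + g00 - g11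
    · obtain ⟨g00, g01, g10, g11⟩ := e_entries h
      rw [e_neg, e_one_00] at g00; rw [e_neg, e_one_01] at g01
      rw [e_neg, e_one_10] at g10; rw [e_neg, e_one_11] at g11
      refine ⟨by rw [← h01, g01, neg_zero], by rw [← h10, g10, neg_zero], ?_⟩
      linear_combination h11 - h00 + g00 - g11
  obtain ⟨k1, k2, k3⟩ := key
  exact scalar_eq h2 A ((mul_eq_zero.mp k1).resolve_left ht) ((mul_eq_zero.mp k2).resolve_left ht)
    (mul_left_cancel₀ ht k3)

/-- if `(tr A)² = 1` then `A³ = ±1` (in characteristic three, `A³ = -tr A`) -/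
theorem cube_of_tr (h3 : (3 : F) = 0) (A : SpecialLinearGroup (Fin 2) F) (h : tr A ^ 2 = 1) :
    A * A * A = 1 ∨ A * A * A = -1 := by
  obtain ⟨h00, h01, h10, h11⟩ := cube_entries A
  rw [h, sub_self, zero_mul] at h00 h01 h10 h11
  have : (tr A - 1) * (tr A + 1) = 0 := by linear_combination h
  rcases mul_eq_zero.mp this with h1 | h1
  · right
    have ht : tr A = 1 := sub_eq_zero.mp h1
    rw [ht] at h00 h11
    apply e_ext
    · rw [h00, e_neg, e_one_00]; ring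
    · rw [h01, e_neg, e_one_01]; ring
    · rw [h10, e_neg, e_one_10]; ring
    · rw [h11, e_neg, e_one_11]; ring
  · left
    have ht : tr A = -1 := eq_neg_of_add_eq_zero_left h1
    rw [ht] at h00 h11
    apply e_ext
    · rw [h00, e_one_00]; ring
    · rw [h01, e_one_01]
    · rw [h10, e_one_10]
    · rw [h11, e_one_11]; ring

/-- anticommuting matrices have trace zero -/
theorem tr_of_anticomm (h2 : (2 : F) ≠ 0) (A B : SpecialLinearGroup (Fin 2) F)
    (h : A * B = -(B * A)) : tr A = 0 := by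
  obtain ⟨g00, g01, g10, g11⟩ := e_entries h
  rw [e_neg, e_mul_00, e_mul_00] at g00
  rw [e_neg, e_mul_01, e_mul_01] at g01
  rw [e_neg, e_mul_10, e_mul_10] at g10
  rw [e_neg, e_mul_11, e_mul_11] at g11
  have hd := e_det B
  unfold tr
  -- `tr A = tr (A B B⁻¹)`
  have key : 2 * (A.1 0 0 + A.1 1 1) = 0 := by
    linear_combination (B.1 1 1) * g00 - (B.1 1 0) * g01 - (B.1 0 1) * g10 + (B.1 0 0) * g11
      - 2 * (A.1 0 0 + A.1 1 1) * hd
  exact (mul_eq_zero.mp key).resolve_left h2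

end Cfsg.Agent.helper11.Sol3
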