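import Mathlib
import Cfsg.Agent.Lib_helper11_SolE

set_option autoImplicit false
set_option linter.unusedSectionVars false
set_option linter.unusedSimpArgs false
set_option linter.unusedVariables false
set_option linter.style.haveILetI false
set_option maxHeartbeats 1000000

/-!
# Solubilizers in `PSL₂(3^p)`: the solubilizer of an involution
-/

namespace Cfsg.Agent.helper11.Sol3

open Matrix Cfsg.Agent.helper11.SL2U Cfsg.Agent.helper4.Dn Cfsg.Agent.helper11.CA

variable {F : Type*} [Field F] [Fintype F] {p : ℕ}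

theorem pi_comm_iff (A B : SpecialLinearGroup (Fin 2) F) :
    piF F A * piF F B = piF F B * piF F A ↔ A * B = B * A ∨ A * B = -(B * A) := by
  rw [← map_mul, ← map_mul, piF_eq_iff]

theorem pi_sq_iff (A : SpecialLinearGroup (Fin 2) F) :
    piF F A * piF F A = 1 ↔ A * A = 1 ∨ A * A = -1 := by
  rw [← map_mul, piF_eq_one_iff]

theorem pi_cube_iff (A : SpecialLinearGroup (Fin 2) F) :
    piF F A ^ 3 = 1 ↔ A * A * A = 1 ∨ A * A * A = -1 := by
  rw [← map_pow, piF_eq_one_iff, pow_succ, pow_two]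

theorem pi_inverts_iff (Y X : SpecialLinearGroup (Fin 2) F) :
    piF F Y * piF F X * (piF F Y)⁻¹ = (piF F X)⁻¹ ↔ Y * X = X⁻¹ * Y ∨ Y * X = -(X⁻¹ * Y) := by
  rw [mul_inv_eq_iff_eq_mul, ← map_inv, ← map_mul, ← map_mul, piF_eq_iff]

theorem pm_one_entries {A : SpecialLinearGroup (Fin 2) F} (h : A = 1 ∨ A = -1) :
    A.1 0 0 = A.1 1 1 ∧ A.1 0 1 = 0 ∧ A.1 1 0 = 0 := by
  rcases h with rfl | rfl
  · simp
  · refine ⟨?_, ?_, ?_⟩ <;> simp [e_neg]

theorem odd_m (h : Hyp F p) : ∃ k, Fintype.card F * (Fintype.card F - 1) / 2 = 2 * k + 1 := by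
  have hq := h.mod8
  obtain ⟨j, hj⟩ : ∃ j, Fintype.card F = 8 * j + 3 := ⟨Fintype.card F / 8, by omega⟩
  refine ⟨16 * j ^ 2 + 10 * j + 1, ?_⟩
  have : Fintype.card F * (Fintype.card F - 1) = 2 * (2 * (16 * j ^ 2 + 10 * j + 1) + 1) := by
    rw [hj]
    have : 8 * j + 3 - 1 = 8 * j + 2 := by omega
    rw [this]; ring
  rw [this, Nat.mul_div_cancel_left _ (by norm_num : 0 < 2)]

theorem piJ_sq : piF F (Jm : SpecialLinearGroup (Fin 2) F) * piF F Jm = 1 := by
  rw [pi_sq_iff]
  right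
  apply sq_of_tr
  unfold tr
  rw [Jm_00, Jm_11, add_zero]

theorem piJ_ne_one (h2 : (2 : F) ≠ 0) : piF F (Jm : SpecialLinearGroup (Fin 2) F) ≠ 1 := by
  intro h
  rw [piF_eq_one_iff] at h
  obtain ⟨-, h01, -⟩ := pm_one_entries h
  rw [Jm_01] at h01
  exact one_ne_zero h01

theorem case1_imp (h : Hyp F p) (Y : SpecialLinearGroup (Fin 2) F)
    (hne : Subgroup.closure ({piF F Jm, piF F Y} :
      Set (Matrix.ProjectiveSpecialLinearGroup (Fin 2) F)) ≠ ⊤) :
    (Y.1 0 0 = Y.1 1 1 ∧ Y.1 1 0 = -Y.1 0 1) ∨ tr Y = 0 ∨ Y.1 1 0 - Y.1 0 1 = 0 ∨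
      (tr Y ^ 2 = 1 ∧ (Y.1 1 0 - Y.1 0 1) ^ 2 = 1) := by
  have h2 := h.two_ne
  have hpm : (Y = 1 ∨ Y = -1) → (Y.1 0 0 = Y.1 1 1 ∧ Y.1 1 0 = -Y.1 0 1) := by
    intro hY
    obtain ⟨e1, e2, e3⟩ := pm_one_entries hY
    exact ⟨e1, by rw [e2, e3, neg_zero]⟩
  have hsq : piF F Y * piF F Y = 1 →
      (Y.1 0 0 = Y.1 1 1 ∧ Y.1 1 0 = -Y.1 0 1) ∨ tr Y = 0 := by
    intro hy2
    rcases sq_lemma h2 Y ((pi_sq_iff Y).mp hy2) with hY | hY
    · left; exact hpm hY
    · right; exact hY
  have htrJY : tr (Jm * Y) = Y.1 1 0 - Y.1 0 1 := by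
    unfold tr
    rw [e_mul_00, e_mul_11, Jm_00, Jm_01, Jm_10, Jm_11]; ring
  rcases struct h _ _ hne with hD | hB | hA
  · rcases hD with hc | ⟨hy2, -⟩ | ⟨-, hinv⟩ | ⟨-, hy2⟩
    · rcases (pi_comm_iff _ _).mp hc with hc | hc
      · left
        obtain ⟨g00, g01, g10, g11⟩ := e_entries hc
        simp only [e_mul_00, e_mul_01, e_mul_10, e_mul_11, Jm_00, Jm_01, Jm_10, Jm_11] at g00 g01 g10 g11
        constructor
        · linear_combination -g01
        · linear_combination g00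
      · right; left
        apply tr_of_anticomm h2 Y Jm
        rw [hc, neg_neg]
    · rcases hsq hy2 with h5 | h5
      · left; exact h5
      · right; left; exact h5
    · rcases (pi_inverts_iff _ _).mp hinv with hc | hc
      · right; right; left
        obtain ⟨g00, g01, g10, g11⟩ := e_entries hc
        simp only [e_mul_00, e_mul_01, e_mul_10, e_mul_11, Jm_00, Jm_01, Jm_10, Jm_11,
          e_inv_00, e_inv_01, e_inv_10, e_inv_11] at g00 g01 g10 g11
        linear_combination g00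
      · right; left
        obtain ⟨g00, g01, g10, g11⟩ := e_entries hc
        simp only [e_mul_00, e_mul_01, e_mul_10, e_mul_11, Jm_00, Jm_01, Jm_10, Jm_11,
          e_inv_00, e_inv_01, e_inv_10, e_inv_11, e_neg] at g00 g01 g10 g11
        have e4 : 2 * Y.1 1 1 = 0 := by linear_combination g01
        have e1 : 2 * Y.1 0 0 = 0 := by linear_combination -g10
        unfold tr
        rw [(mul_eq_zero.mp e4).resolve_left h2, (mul_eq_zero.mp e1).resolve_left h2, add_zero]
    · rcases hsq hy2 with h5 | h5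
      · left; exact h5
      · right; left; exact h5
  · exfalso
    obtain ⟨hxm, -⟩ := hB
    obtain ⟨k, hk⟩ := odd_m h
    rw [hk, pow_succ, pow_mul, pow_two, piJ_sq, one_pow, one_mul] at hxm
    exact piJ_ne_one h2 hxm
  · obtain ⟨-, hy, h3, -, -⟩ := hA
    rcases hy with hy | hy | hy
    · left; exact hpm ((piF_eq_one_iff Y).mp hy)
    · rcases hsq hy with h5 | h5
      · left; exact h5
      · right; left; exact h5
    · rcases cube_lemma h2 Y ((pi_cube_iff Y).mp hy) with hY | hY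
      · left; exact hpm hY
      · rcases h3 with h3 | h3 | h3 | h3 | h3
        · exact absurd piJ_sq h3
        · exact absurd h3 (piJ_ne_one h2)
        · exact absurd hy h3
        · left; exact hpm ((piF_eq_one_iff Y).mp h3)
        · rw [← map_mul] at h3
          rcases cube_lemma h2 (Jm * Y) ((pi_cube_iff _).mp h3) with hJY | hJY
          · right; left
            obtain ⟨e1, e2, e3⟩ := pm_one_entries hJY
            simp only [e_mul_00, e_mul_01, e_mul_10, e_mul_11, Jm_00, Jm_01, Jm_10, Jm_11] at e1 e2 e3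
            unfold tr
            linear_combination e2 - e3
          · right; right; right
            rw [htrJY] at hJY
            exact ⟨hY, hJY⟩

theorem case1_of (h : Hyp F p) (Y : SpecialLinearGroup (Fin 2) F)
    (hY : (Y.1 0 0 = Y.1 1 1 ∧ Y.1 1 0 = -Y.1 0 1) ∨ tr Y = 0 ∨ Y.1 1 0 - Y.1 0 1 = 0 ∨
      (tr Y ^ 2 = 1 ∧ (Y.1 1 0 - Y.1 0 1) ^ 2 = 1)) :
    Subgroup.closure ({piF F Jm, piF F Y} :
      Set (Matrix.ProjectiveSpecialLinearGroup (Fin 2) F)) ≠ ⊤ := by
  haveI := h.simple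
  have hnc := h.nc
  have h2 := h.two_ne
  have htrJY : tr (Jm * Y) = Y.1 1 0 - Y.1 0 1 := by
    unfold tr
    rw [e_mul_00, e_mul_11, Jm_00, Jm_01, Jm_10, Jm_11]; ring
  rcases hY with ⟨e1, e2⟩ | hY | hY | ⟨hY1, hY2⟩
  · apply closure_pair_ne_top_of_commute hnc
    rw [pi_comm_iff]
    left
    apply e_ext <;>
      simp only [e_mul_00, e_mul_01, e_mul_10, e_mul_11, Jm_00, Jm_01, Jm_10, Jm_11]
    · linear_combination e2
    · linear_combination -e1
    · linear_combination -e1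
    · linear_combination -e2
  · apply closure_pair_ne_top_of_invol hnc piJ_sq
    rw [pi_sq_iff]; right; exact sq_of_tr Y hY
  · apply closure_pair_ne_top_of_inverts hnc
    have h5 : piF F (Jm * Y) * piF F (Jm * Y) = 1 := by
      rw [pi_sq_iff]; right; apply sq_of_tr; rw [htrJY]; exact hY
    rw [map_mul] at h5
    have hJi : (piF F (Jm : SpecialLinearGroup (Fin 2) F))⁻¹ = piF F Jm :=
      inv_eq_of_mul_eq_one_right piJ_sq
    rw [hJi]
    have := eq_inv_of_mul_eq_one_left h5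
    rw [_root_.mul_inv_rev, hJi] at this
    calc piF F Jm * piF F Y * piF F Jm = (piF F Y)⁻¹ * piF F Jm * piF F Jm := by rw [this]
      _ = (piF F Y)⁻¹ := by rw [mul_assoc, piJ_sq, mul_one]
  · apply closure_pair_ne_top_A4 hnc piJ_sq (piJ_ne_one h2)
    · rw [pi_cube_iff]; exact cube_of_tr h.three Y hY1
    · rw [← map_mul, pi_cube_iff]
      apply cube_of_tr h.three
      rw [htrJY]; exact hY2

end Cfsg.Agent.helper11.Sol3
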