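import Mathlib
import Cfsg.Agent.Lib_helper11_SolF

set_option autoImplicit false
set_option linter.unusedSectionVars false
set_option linter.unusedSimpArgs false
set_option linter.unusedVariables false
set_option linter.style.haveILetI false
set_option maxHeartbeats 1000000

/-!
# Solubilizers in `PSL₂(3^p)`: elements of order three
-/

namespace Cfsg.Agent.helper11.Sol3

open Matrix Cfsg.Agent.helper11.SL2U Cfsg.Agent.helper4.Dn Cfsg.Agent.helper11.CA

variable {F : Type*} [Field F] [Fintype F] {p : ℕ}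

/-- the image of the Borel subgroup -/
noncomputable def Bbar (F : Type*) [Field F] :
    Subgroup (Matrix.ProjectiveSpecialLinearGroup (Fin 2) F) := (Bsub F).map (piF F)

theorem mem_Bbar {T : SpecialLinearGroup (Fin 2) F} (hT : T.1 1 0 = 0) : piF F T ∈ Bbar F :=
  Subgroup.mem_map_of_mem _ hT

theorem Bbar_ne_top (h2 : (2 : F) ≠ 0) : Bbar F ≠ ⊤ := by
  intro htop
  have hm : piF F (lS 1) ∈ Bbar F := by rw [htop]; exact Subgroup.mem_top _
  obtain ⟨T, hT, hTl⟩ := hm
  have hT10 : T.1 1 0 = 0 := hT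
  rw [piF_eq_iff] at hTl
  rcases hTl with hTl | hTl
  · have := (e_entries hTl).2.2.1
    rw [hT10] at this
    simp [coe_lS] at this
  · have := (e_entries hTl).2.2.1
    rw [hT10, e_neg] at this
    simp [coe_lS] at this

theorem closure_ne_top_of_up (h2 : (2 : F) ≠ 0) {A B : SpecialLinearGroup (Fin 2) F}
    (hA : A.1 1 0 = 0) (hB : B.1 1 0 = 0) :
    Subgroup.closure ({piF F A, piF F B} :
      Set (Matrix.ProjectiveSpecialLinearGroup (Fin 2) F)) ≠ ⊤ :=
  closure_pair_ne_top_of_le (Bbar F) (Bbar_ne_top h2) (mem_Bbar hA) (mem_Bbar hB)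

theorem tr_mul_uS (Y : SpecialLinearGroup (Fin 2) F) (β : F) : tr (Y * uS β) = tr Y + β * Y.1 1 0 := by
  unfold tr
  rw [e_mul_00, e_mul_11, uS_00, uS_01, uS_10, uS_11]; ring

theorem tr_uS (β : F) : tr (uS β) = 2 := by
  unfold tr; rw [uS_00, uS_11]; norm_num

theorem pi_uS_cube (h : Hyp F p) (β : F) : piF F (uS β) ^ 3 = 1 := by
  rw [pi_cube_iff]
  apply cube_of_tr h.three
  rw [tr_uS]; linear_combination h.three

theorem pi_uS_ne_one {β : F} (hβ : β ≠ 0) : piF F (uS β) ≠ 1 := by
  intro h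
  rw [piF_eq_one_iff] at h
  obtain ⟨-, h01, -⟩ := pm_one_entries h
  rw [uS_01] at h01
  exact hβ h01

theorem pi_uS_sq_ne_one (h2 : (2 : F) ≠ 0) {β : F} (hβ : β ≠ 0) :
    piF F (uS β) * piF F (uS β) ≠ 1 := by
  intro h
  rw [← map_mul, ← uS_add] at h
  apply pi_uS_ne_one (β := β + β) _ h
  intro h5
  have : 2 * β = 0 := by linear_combination h5
  rcases mul_eq_zero.mp this with h6 | h6
  · exact h2 h6
  · exact hβ h6

theorem case2_imp (h : Hyp F p) {β : F} (hβ : β ≠ 0) (Y : SpecialLinearGroup (Fin 2) F)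
    (hne : Subgroup.closure ({piF F (uS β), piF F Y} :
      Set (Matrix.ProjectiveSpecialLinearGroup (Fin 2) F)) ≠ ⊤) :
    Y.1 1 0 = 0 ∨ ((β * Y.1 1 0 = 1 ∨ β * Y.1 1 0 = -1) ∧ (tr Y = 0 ∨ tr Y = 1 ∨ tr Y = -1)) := by
  have h2 := h.two_ne
  have hpm : ∀ Z : SpecialLinearGroup (Fin 2) F, (Z = 1 ∨ Z = -1) → Z.1 1 0 = 0 :=
    fun Z hZ => (pm_one_entries hZ).2.2
  have hsq1 : ∀ e : F, e ^ 2 = 1 → e = 1 ∨ e = -1 := by
    intro e he
    have : (e - 1) * (e + 1) = 0 := by linear_combination he
    rcases mul_eq_zero.mp this with h5 | h5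
    · left; exact sub_eq_zero.mp h5
    · right; exact eq_neg_of_add_eq_zero_left h5
  have hcomm : ∀ V : SpecialLinearGroup (Fin 2) F,
      piF F V * piF F (uS β) = piF F (uS β) * piF F V → V.1 1 0 = 0 := by
    intro V hc
    rcases (pi_comm_iff _ _).mp hc with hc | hc
    · obtain ⟨g00, g01, g10, g11⟩ := e_entries hc
      simp only [e_mul_00, e_mul_01, e_mul_10, e_mul_11, uS_00, uS_01, uS_10, uS_11] at g00 g01 g10 g11
      have : β * V.1 1 0 = 0 := by linear_combination -g00
      exact (mul_eq_zero.mp this).resolve_left hβ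
    · obtain ⟨g00, g01, g10, g11⟩ := e_entries hc
      simp only [e_mul_00, e_mul_01, e_mul_10, e_mul_11, uS_00, uS_01, uS_10, uS_11, e_neg] at g00 g01 g10 g11
      have : 2 * V.1 1 0 = 0 := by linear_combination g10
      exact (mul_eq_zero.mp this).resolve_left h2
  rcases struct h _ _ hne with hD | hB | hA
  · rcases hD with hc | ⟨-, hinv⟩ | ⟨hx2, -⟩ | ⟨hx2, -⟩
    · left; exact hcomm Y hc.symm
    · left
      rcases (pi_inverts_iff _ _).mp hinv with hc | hc
      · obtain ⟨g00, g01, g10, g11⟩ := e_entries hc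
        simp only [e_mul_00, e_mul_01, e_mul_10, e_mul_11, uS_00, uS_01, uS_10, uS_11,
          e_inv_00, e_inv_01, e_inv_10, e_inv_11] at g00 g01 g10 g11
        have : β * Y.1 1 0 = 0 := by linear_combination g00
        exact (mul_eq_zero.mp this).resolve_left hβ
      · obtain ⟨g00, g01, g10, g11⟩ := e_entries hc
        simp only [e_mul_00, e_mul_01, e_mul_10, e_mul_11, uS_00, uS_01, uS_10, uS_11,
          e_inv_00, e_inv_01, e_inv_10, e_inv_11, e_neg] at g00 g01 g10 g11
        have : 2 * Y.1 1 0 = 0 := by linear_combination g10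
        exact (mul_eq_zero.mp this).resolve_left h2
    · exact absurd hx2 (pi_uS_sq_ne_one h2 hβ)
    · exact absurd hx2 (pi_uS_sq_ne_one h2 hβ)
  · left
    obtain ⟨-, -, h3c, -, -, -⟩ := hB
    have h5 := h3c (pi_uS_cube h β)
    rw [← map_inv, ← map_mul, ← map_mul] at h5
    have h6 := hcomm _ h5
    simp only [e_mul_00, e_mul_01, e_mul_10, e_mul_11, uS_00, uS_01, uS_10, uS_11,
      e_inv_00, e_inv_01, e_inv_10, e_inv_11] at h6
    have h7 : β * (Y.1 1 0) ^ 2 = 0 := by linear_combination -h6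
    rcases mul_eq_zero.mp h7 with h8 | h8
    · exact absurd h8 hβ
    · exact pow_eq_zero_iff (by norm_num) |>.mp h8
  · obtain ⟨-, hy, -, h4, h5⟩ := hA
    rcases hy with hy | hy | hy
    · left; exact hpm Y ((piF_eq_one_iff Y).mp hy)
    · rcases sq_lemma h2 Y ((pi_sq_iff Y).mp hy) with hY | hY
      · left; exact hpm Y hY
      · rcases h4 with h4 | h4 | h4 | h4 | h4
        · exact absurd hy h4
        · left; exact hpm Y ((piF_eq_one_iff Y).mp h4)
        · exact absurd (pi_uS_cube h β) h4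
        · exact absurd h4 (pi_uS_ne_one hβ)
        · rw [← map_mul] at h4
          rcases cube_lemma h2 _ ((pi_cube_iff _).mp h4) with hZ | hZ
          · left
            have := hpm _ hZ
            simp only [e_mul_10, uS_00, uS_10] at this
            linear_combination this
          · right
            rw [tr_mul_uS, hY, zero_add] at hZ
            exact ⟨hsq1 _ hZ, Or.inl hY⟩
    · rcases cube_lemma h2 Y ((pi_cube_iff Y).mp hy) with hY | hY
      · left; exact hpm Y hY
      · rcases h5 with h5 | h5 | h5 | h5 | h5 | h5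
        · exact absurd (pi_uS_cube h β) h5
        · exact absurd h5 (pi_uS_ne_one hβ)
        · exact absurd hy h5
        · left; exact hpm Y ((piF_eq_one_iff Y).mp h5)
        · rw [← map_inv, ← map_mul, uS_inv] at h5
          rcases sq_lemma h2 _ ((pi_sq_iff _).mp h5) with hZ | hZ
          · left
            have := hpm _ hZ
            simp only [e_mul_10, uS_00, uS_10] at this
            linear_combination this
          · right
            rw [tr_mul_uS] at hZ
            have e1 : β * Y.1 1 0 = tr Y := by linear_combination -hZ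
            rw [e1]
            exact ⟨hsq1 _ hY, Or.inr (hsq1 _ hY)⟩
        · rw [← map_mul] at h5
          rcases sq_lemma h2 _ ((pi_sq_iff _).mp h5) with hZ | hZ
          · left
            have := hpm _ hZ
            simp only [e_mul_10, uS_00, uS_10] at this
            linear_combination this
          · right
            rw [tr_mul_uS] at hZ
            have e1 : β * Y.1 1 0 = -tr Y := by linear_combination hZ
            rw [e1]
            refine ⟨?_, Or.inr (hsq1 _ hY)⟩
            rcases hsq1 _ hY with h6 | h6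
            · right; rw [h6]
            · left; rw [h6, neg_neg]

theorem case2_of (h : Hyp F p) {β : F} (hβ : β ≠ 0) (Y : SpecialLinearGroup (Fin 2) F)
    (hY : Y.1 1 0 = 0 ∨
      ((β * Y.1 1 0 = 1 ∨ β * Y.1 1 0 = -1) ∧ (tr Y = 0 ∨ tr Y = 1 ∨ tr Y = -1))) :
    Subgroup.closure ({piF F (uS β), piF F Y} :
      Set (Matrix.ProjectiveSpecialLinearGroup (Fin 2) F)) ≠ ⊤ := by
  haveI := h.simple
  have hnc := h.nc
  have h2 := h.two_ne
  have h3 := h.three
  rcases hY with hY | ⟨hε, hs⟩
  · exact closure_ne_top_of_up h2 (uS_10 β) hY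
  obtain ⟨ε, hεdef⟩ : ∃ ε, ε = β * Y.1 1 0 := ⟨_, rfl⟩
  rw [← hεdef] at hε
  have hε2 : ε ^ 2 = 1 := by
    rcases hε with h5 | h5 <;> rw [h5] <;> ring
  have hy3 : Y.1 1 0 ≠ 0 := by
    intro h0
    rw [h0, mul_zero] at hεdef
    rw [hεdef] at hε2
    simp at hε2
  have hcases : tr Y = 0 ∨ tr Y = ε ∨ tr Y = -ε := by
    rcases hε with h5 | h5 <;> rcases hs with h6 | h6 | h6 <;> rw [h5, h6] <;> simp
  have hne1 : ∀ Z : SpecialLinearGroup (Fin 2) F, Z.1 1 0 = Y.1 1 0 → piF F Z ≠ 1 := by
    intro Z hZ h1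
    rw [piF_eq_one_iff] at h1
    have := (pm_one_entries h1).2.2
    rw [hZ] at this
    exact hy3 this
  rcases hcases with hs | hs | hs
  · -- `t = y`
    rw [Set.pair_comm]
    apply closure_pair_ne_top_A4 hnc _ (hne1 Y rfl) (pi_uS_cube h β)
    · rw [← map_mul, pi_cube_iff]
      apply cube_of_tr h3
      rw [tr_mul_uS, hs, zero_add, ← hεdef]; exact hε2
    · rw [pi_sq_iff]; right; exact sq_of_tr Y hs
  · -- `t = y x⁻¹`
    obtain ⟨T, hT⟩ : ∃ T, T = Y * uS (-β) := ⟨_, rfl⟩
    have hTtr : tr T = 0 := by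
      rw [hT, tr_mul_uS, hs, hεdef]; ring
    have hT10 : T.1 1 0 = Y.1 1 0 := by
      rw [hT, e_mul_10, uS_00, uS_10]; ring
    have hTU : T * uS β = Y := by
      rw [hT, mul_assoc, ← uS_add, neg_add_cancel, uS_zero, mul_one]
    have hM : Subgroup.closure ({piF F T, piF F (uS β)} :
        Set (Matrix.ProjectiveSpecialLinearGroup (Fin 2) F)) ≠ ⊤ := by
      apply closure_pair_ne_top_A4 hnc _ (hne1 T hT10) (pi_uS_cube h β)
      · rw [← map_mul, hTU, pi_cube_iff]
        apply cube_of_tr h3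
        rw [hs]; exact hε2
      · rw [pi_sq_iff]; right; exact sq_of_tr T hTtr
    apply closure_pair_ne_top_of_le _ hM
    · exact Subgroup.subset_closure (by simp)
    · rw [← hTU, map_mul]
      exact Subgroup.mul_mem _ (Subgroup.subset_closure (by simp)) (Subgroup.subset_closure (by simp))
  · -- `t = y x`
    obtain ⟨T, hT⟩ : ∃ T, T = Y * uS β := ⟨_, rfl⟩
    have hTtr : tr T = 0 := by
      rw [hT, tr_mul_uS, hs, hεdef]; ring
    have hT10 : T.1 1 0 = Y.1 1 0 := by
      rw [hT, e_mul_10, uS_00, uS_10]; ring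
    have hTU : T * uS (-β) = Y := by
      rw [hT, mul_assoc, ← uS_add, add_neg_cancel, uS_zero, mul_one]
    have hM : Subgroup.closure ({piF F T, piF F (uS β)} :
        Set (Matrix.ProjectiveSpecialLinearGroup (Fin 2) F)) ≠ ⊤ := by
      apply closure_pair_ne_top_A4 hnc _ (hne1 T hT10) (pi_uS_cube h β)
      · rw [← map_mul, hT, mul_assoc, ← uS_add, pi_cube_iff]
        apply cube_of_tr h3
        rw [tr_mul_uS, hs]
        have e5 : -ε + (β + β) * Y.1 1 0 = ε := by
          rw [hεdef]; ring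
        rw [e5]; exact hε2
      · rw [pi_sq_iff]; right; exact sq_of_tr T hTtr
    apply closure_pair_ne_top_of_le _ hM
    · exact Subgroup.subset_closure (by simp)
    · rw [← hTU, map_mul, ← uS_inv, map_inv]
      exact Subgroup.mul_mem _ (Subgroup.subset_closure (by simp))
        (Subgroup.inv_mem _ (Subgroup.subset_closure (by simp)))

end Cfsg.Agent.helper11.Sol3
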