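import Mathlib
import Cfsg.Agent.Lib_helper11_SolG

set_option autoImplicit false
set_option linter.unusedSectionVars false
set_option linter.unusedSimpArgs false
set_option linter.unusedVariables false
set_option linter.style.haveILetI false
set_option maxHeartbeats 1000000

/-!
# Solubilizers in `PSL₂(3^p)`: split semisimple elements
-/

namespace Cfsg.Agent.helper11.Sol3

open Matrix Cfsg.Agent.helper11.SL2U Cfsg.Agent.helper4.Dn Cfsg.Agent.helper11.CA

variable {F : Type*} [Field F] [Fintype F] {p : ℕ}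

theorem tr_dS (a : F) (ha : a ≠ 0) : tr (dS a ha) = a + a⁻¹ := by
  unfold tr; rw [dS_00, dS_11]

theorem pi_dS_ne_one {a : F} (ha : a ≠ 0) (ha2 : a ^ 2 ≠ 1) : piF F (dS a ha) ≠ 1 := by
  intro h
  rw [piF_eq_one_iff] at h
  apply ha2
  rcases h with h | h
  · have := (e_entries h).1
    rw [dS_00, e_one_00] at this
    rw [this]; ring
  · have := (e_entries h).1
    rw [dS_00, e_neg, e_one_00] at this
    rw [this]; ring

theorem pi_dS_sq_ne_one (h : Hyp F p) {a : F} (ha : a ≠ 0) (ha2 : a ^ 2 ≠ 1) :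
    piF F (dS a ha) * piF F (dS a ha) ≠ 1 := by
  intro h5
  rw [pi_sq_iff] at h5
  rcases h5 with h5 | h5
  · have := (e_entries h5).1
    rw [e_mul_00, dS_00, dS_01, dS_10, e_one_00] at this
    apply ha2; linear_combination this
  · have := (e_entries h5).1
    rw [e_mul_00, dS_00, dS_01, dS_10, e_neg, e_one_00] at this
    apply h.nonsq a; linear_combination this

theorem pi_dS_cube_ne_one (h : Hyp F p) {a : F} (ha : a ≠ 0) (ha2 : a ^ 2 ≠ 1) :
    piF F (dS a ha) ^ 3 ≠ 1 := by
  intro h5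
  rcases cube_lemma h.two_ne _ ((pi_cube_iff _).mp h5) with h6 | h6
  · exact pi_dS_ne_one ha ha2 ((piF_eq_one_iff _).mpr h6)
  · rw [tr_dS] at h6
    apply ha2
    have hab : a * a⁻¹ = 1 := mul_inv_cancel₀ ha
    have h7 : (a ^ 2 - 1) ^ 2 = 0 := by
      linear_combination a ^ 2 * h6 - (a ^ 3 * a⁻¹ + a ^ 2 + 2 * a ^ 2 + a ^ 2 * (a * a⁻¹) ) * 0
        - (2 * a ^ 2 + a ^ 3 * a⁻¹ + a ^ 2) * (hab) * 0 - a ^ 2 * h.three
        - (a * a⁻¹ + 1 + 2 * a ^ 2) * hab
    exact sub_eq_zero.mp (pow_eq_zero_iff (by norm_num) |>.mp h7)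

theorem case3_imp (h : Hyp F p) {a : F} (ha : a ≠ 0) (ha2 : a ^ 2 ≠ 1)
    (Y : SpecialLinearGroup (Fin 2) F)
    (hne : Subgroup.closure ({piF F (dS a ha), piF F Y} :
      Set (Matrix.ProjectiveSpecialLinearGroup (Fin 2) F)) ≠ ⊤) :
    Y.1 1 0 = 0 ∨ Y.1 0 1 = 0 ∨ (Y.1 0 0 = 0 ∧ Y.1 1 1 = 0) := by
  have h2 := h.two_ne
  have h3 := h.three
  obtain ⟨b, hb⟩ : ∃ b, b = a⁻¹ := ⟨_, rfl⟩
  have hab : a * b = 1 := by rw [hb]; exact mul_inv_cancel₀ ha
  have hb0 : b ≠ 0 := by rw [hb]; exact inv_ne_zero ha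
  have hamb : a - b ≠ 0 := by
    intro h5
    apply ha2
    linear_combination a * h5 + hab
  have hapb : a + b ≠ 0 := by
    intro h5
    apply h.nonsq a
    linear_combination a * h5 - hab
  rcases struct h _ _ hne with hD | hB | hA
  · rcases hD with hc | ⟨-, hinv⟩ | ⟨hx2, -⟩ | ⟨hx2, -⟩
    · rcases (pi_comm_iff _ _).mp hc with hc | hc
      · right; left
        obtain ⟨g00, g01, g10, g11⟩ := e_entries hc
        simp only [e_mul_00, e_mul_01, e_mul_10, e_mul_11, dS_00, dS_01, dS_10, dS_11, ← hb]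
          at g00 g01 g10 g11
        have : (a - b) * Y.1 0 1 = 0 := by linear_combination g01
        exact (mul_eq_zero.mp this).resolve_left hamb
      · right; right
        obtain ⟨g00, g01, g10, g11⟩ := e_entries hc
        simp only [e_mul_00, e_mul_01, e_mul_10, e_mul_11, dS_00, dS_01, dS_10, dS_11, ← hb, e_neg]
          at g00 g01 g10 g11
        have e1 : (2 * a) * Y.1 0 0 = 0 := by linear_combination g00
        have e4 : (2 * b) * Y.1 1 1 = 0 := by linear_combination g11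
        exact ⟨(mul_eq_zero.mp e1).resolve_left (mul_ne_zero h2 ha),
          (mul_eq_zero.mp e4).resolve_left (mul_ne_zero h2 hb0)⟩
    · rcases (pi_inverts_iff _ _).mp hinv with hc | hc
      · right; right
        obtain ⟨g00, g01, g10, g11⟩ := e_entries hc
        simp only [e_mul_00, e_mul_01, e_mul_10, e_mul_11, dS_00, dS_01, dS_10, dS_11, ← hb,
          e_inv_00, e_inv_01, e_inv_10, e_inv_11] at g00 g01 g10 g11
        have e1 : (a - b) * Y.1 0 0 = 0 := by linear_combination g00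
        have e4 : (a - b) * Y.1 1 1 = 0 := by linear_combination -g11
        exact ⟨(mul_eq_zero.mp e1).resolve_left hamb, (mul_eq_zero.mp e4).resolve_left hamb⟩
      · right; left
        obtain ⟨g00, g01, g10, g11⟩ := e_entries hc
        simp only [e_mul_00, e_mul_01, e_mul_10, e_mul_11, dS_00, dS_01, dS_10, dS_11, ← hb,
          e_inv_00, e_inv_01, e_inv_10, e_inv_11, e_neg] at g00 g01 g10 g11
        have e1 : (2 * b) * Y.1 0 1 = 0 := by linear_combination g01
        exact (mul_eq_zero.mp e1).resolve_left (mul_ne_zero h2 hb0)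
    · exact absurd hx2 (pi_dS_sq_ne_one h ha ha2)
    · exact absurd hx2 (pi_dS_sq_ne_one h ha ha2)
  · obtain ⟨-, -, -, hu3, hxc, -⟩ := hB
    obtain ⟨W, hW⟩ : ∃ W, W = dS a ha * Y * (dS a ha)⁻¹ * Y⁻¹ := ⟨_, rfl⟩
    have hWpi : piF F (dS a ha) * piF F Y * (piF F (dS a ha))⁻¹ * (piF F Y)⁻¹ = piF F W := by
      rw [hW]; simp only [map_mul, map_inv]
    rw [hWpi] at hu3 hxc
    rw [← map_inv, ← map_mul, ← map_mul] at hxc
    have hd := e_det Y
    -- entries of `W`
    have w00 : W.1 0 0 = Y.1 0 0 * Y.1 1 1 - a ^ 2 * (Y.1 0 1 * Y.1 1 0) := by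
      rw [hW]
      simp only [e_mul_00, e_mul_01, e_mul_10, e_mul_11, dS_00, dS_01, dS_10, dS_11, ← hb,
        e_inv_00, e_inv_01, e_inv_10, e_inv_11]
      linear_combination (Y.1 0 0 * Y.1 1 1) * hab
    have w11 : W.1 1 1 = Y.1 0 0 * Y.1 1 1 - b ^ 2 * (Y.1 0 1 * Y.1 1 0) := by
      rw [hW]
      simp only [e_mul_00, e_mul_01, e_mul_10, e_mul_11, dS_00, dS_01, dS_10, dS_11, ← hb,
        e_inv_00, e_inv_01, e_inv_10, e_inv_11]
      linear_combination (Y.1 0 0 * Y.1 1 1) * hab
    have w01 : W.1 0 1 = Y.1 0 0 * Y.1 0 1 * (a ^ 2 - 1) := by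
      rw [hW]
      simp only [e_mul_00, e_mul_01, e_mul_10, e_mul_11, dS_00, dS_01, dS_10, dS_11, ← hb,
        e_inv_00, e_inv_01, e_inv_10, e_inv_11]
      linear_combination (-(Y.1 0 0 * Y.1 0 1)) * hab
    have w10 : W.1 1 0 = Y.1 1 0 * Y.1 1 1 * (b ^ 2 - 1) := by
      rw [hW]
      simp only [e_mul_00, e_mul_01, e_mul_10, e_mul_11, dS_00, dS_01, dS_10, dS_11, ← hb,
        e_inv_00, e_inv_01, e_inv_10, e_inv_11]
      linear_combination (-(Y.1 1 0 * Y.1 1 1)) * hab
    have hcube := cube_lemma h2 W ((pi_cube_iff W).mp hu3)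
    -- the commutation
    have hprod : W.1 0 1 * W.1 1 0 = 0 := by
      rcases (pi_comm_iff _ _).mp hxc with hc | hc
      · have g00 := (e_entries hc).1
        simp only [e_mul_00, e_mul_01, e_mul_10, e_mul_11, dS_00, dS_01, dS_10, dS_11, ← hb,
          e_inv_00, e_inv_01, e_inv_10, e_inv_11] at g00
        have e1 : (a ^ 2 - b ^ 2) * (W.1 0 1 * W.1 1 0) = 0 := by linear_combination g00
        have e2 : a ^ 2 - b ^ 2 ≠ 0 := by
          have : a ^ 2 - b ^ 2 = (a - b) * (a + b) := by ring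
          rw [this]; exact mul_ne_zero hamb hapb
        exact (mul_eq_zero.mp e1).resolve_left e2
      · exfalso
        have ht := tr_of_anticomm h2 _ _ hc
        have ht' : tr W = 0 := by
          unfold tr at ht ⊢
          simp only [e_mul_00, e_mul_01, e_mul_10, e_mul_11, dS_00, dS_01, dS_10, dS_11, ← hb,
            e_inv_00, e_inv_01, e_inv_10, e_inv_11] at ht
          linear_combination ht - (W.1 0 0 + W.1 1 1) * hab
        rcases hcube with hW1 | hW1
        · obtain ⟨e1, -, -⟩ := pm_one_entries hW1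
          unfold tr at ht'
          have e00 : 2 * W.1 0 0 = 0 := by linear_combination ht' + e1
          have e5 : W.1 0 0 = 0 := (mul_eq_zero.mp e00).resolve_left h2
          rcases hW1 with hW1 | hW1
          · have := (e_entries hW1).1
            rw [e5, e_one_00] at this
            exact zero_ne_one this
          · have := (e_entries hW1).1
            rw [e5, e_neg, e_one_00] at this
            have : (1 : F) = 0 := by linear_combination this
            exact one_ne_zero this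
        · rw [ht'] at hW1
          simp at hW1
    rw [w01, w10] at hprod
    have ham1 : a ^ 2 - 1 ≠ 0 := sub_ne_zero.mpr ha2
    have hbm1 : b ^ 2 - 1 ≠ 0 := by
      intro h5
      apply ha2
      linear_combination (-(a ^ 2)) * h5 + (a * b + 1) * hab
    have hbad : Y.1 0 0 * Y.1 1 1 = 0 → False := by
      intro h0
      have hyy : Y.1 0 1 * Y.1 1 0 = -1 := by linear_combination h0 - hd
      rw [h0, hyy] at w00 w11
      rcases hcube with hW1 | hW1
      · obtain ⟨e1, -, -⟩ := pm_one_entries hW1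
        rw [w00, w11] at e1
        have : (a - b) * (a + b) = 0 := by linear_combination e1
        exact (mul_ne_zero hamb hapb) this
      · unfold tr at hW1
        rw [w00, w11] at hW1
        have h7 : (a ^ 4 - 1) ^ 2 = 0 := by
          linear_combination a ^ 4 * hW1 - a ^ 4 * h3
            - (a ^ 7 * b ^ 3 + a ^ 6 * b ^ 2 + a ^ 5 * b + a ^ 4
               + 2 * a ^ 5 * b + 2 * a ^ 4) * (hab) * 0
            - (a ^ 3 * b ^ 3 + a ^ 2 * b ^ 2 + a * b + 1 + 2 * a ^ 5 * b + 2 * a ^ 4) * hab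
        have h8 : a ^ 4 - 1 = 0 := pow_eq_zero_iff (by norm_num) |>.mp h7
        have : (a ^ 2 - 1) * (a ^ 2 + 1) = 0 := by linear_combination h8
        rcases mul_eq_zero.mp this with h9 | h9
        · exact ham1 h9
        · apply h.nonsq a; linear_combination h9
    have e5 : Y.1 0 0 * Y.1 0 1 * (Y.1 1 0 * Y.1 1 1) = 0 := by
      have : (a ^ 2 - 1) * (b ^ 2 - 1) * (Y.1 0 0 * Y.1 0 1 * (Y.1 1 0 * Y.1 1 1)) = 0 := by
        linear_combination hprod
      exact (mul_eq_zero.mp this).resolve_left (mul_ne_zero ham1 hbm1)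
    rcases mul_eq_zero.mp e5 with e6 | e6
    · rcases mul_eq_zero.mp e6 with e7 | e7
      · exfalso; apply hbad; rw [e7, zero_mul]
      · right; left; exact e7
    · rcases mul_eq_zero.mp e6 with e7 | e7
      · left; exact e7
      · exfalso; apply hbad; rw [e7, mul_zero]
  · exfalso
    obtain ⟨hx, -⟩ := hA
    rcases hx with hx | hx | hx
    · exact pi_dS_ne_one ha ha2 hx
    · exact pi_dS_sq_ne_one h ha ha2 hx
    · exact pi_dS_cube_ne_one h ha ha2 hx

theorem case3_of (h : Hyp F p) {a : F} (ha : a ≠ 0) (ha2 : a ^ 2 ≠ 1)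
    (Y : SpecialLinearGroup (Fin 2) F)
    (hY : Y.1 1 0 = 0 ∨ Y.1 0 1 = 0 ∨ (Y.1 0 0 = 0 ∧ Y.1 1 1 = 0)) :
    Subgroup.closure ({piF F (dS a ha), piF F Y} :
      Set (Matrix.ProjectiveSpecialLinearGroup (Fin 2) F)) ≠ ⊤ := by
  haveI := h.simple
  have hnc := h.nc
  have h2 := h.two_ne
  rcases hY with hY | hY | ⟨hY1, hY4⟩
  · exact closure_ne_top_of_up h2 (dS_10 a ha) hY
  · intro htop
    have h5 := (closure_conj_eq_top_iff (piF F Jm) (piF F (dS a ha)) (piF F Y)).mpr htop
    rw [← map_inv, ← map_mul, ← map_mul, ← map_mul, ← map_mul] at h5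
    revert h5
    apply closure_ne_top_of_up h2
    · simp only [e_mul_00, e_mul_01, e_mul_10, e_mul_11, dS_00, dS_01, dS_10, dS_11,
        e_inv_00, e_inv_01, e_inv_10, e_inv_11, Jm_00, Jm_01, Jm_10, Jm_11]
      ring
    · simp only [e_mul_00, e_mul_01, e_mul_10, e_mul_11,
        e_inv_00, e_inv_01, e_inv_10, e_inv_11, Jm_00, Jm_01, Jm_10, Jm_11, hY]
      ring
  · rw [Set.pair_comm]
    apply closure_pair_ne_top_of_inverts hnc
    rw [pi_inverts_iff]
    left
    apply e_ext <;>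
      simp only [e_mul_00, e_mul_01, e_mul_10, e_mul_11, dS_00, dS_01, dS_10, dS_11,
        e_inv_00, e_inv_01, e_inv_10, e_inv_11, hY1, hY4] <;> ring

end Cfsg.Agent.helper11.Sol3
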