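import Cfsg.Agent.Lib_helper12_PslCS3

set_option autoImplicit false
set_option linter.unusedSectionVars false

namespace Cfsg.Agent.helper12

open Matrix Cfsg

variable {F : Type*} [Field F] [Fintype F]

theorem psl2_range_eq_pslIdx :
    Set.range (fun g : (Matrix.ProjectiveSpecialLinearGroup (Fin 2) F) =>
      (Subgroup.centralizer ({g} : Set (Matrix.ProjectiveSpecialLinearGroup (Fin 2) F))).index) =
    Set.range (fun x : Matrix.SpecialLinearGroup (Fin 2) F => pslIdx x) := by
  ext n
  constructor
  · rintro ⟨X, rfl⟩
    obtain ⟨x, rfl⟩ := QuotientGroup.mk_surjective X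
    exact ⟨x, rfl⟩
  · rintro ⟨x, rfl⟩
    exact ⟨QuotientGroup.mk x, rfl⟩

theorem psl2_class_sizes (hodd : Odd (Fintype.card F)) (h7 : 7 ≤ Fintype.card F) :
    (Fintype.card F % 4 = 1 →
      Set.range (fun g : (Matrix.ProjectiveSpecialLinearGroup (Fin 2) F) => (Subgroup.centralizer ({g} : Set (Matrix.ProjectiveSpecialLinearGroup (Fin 2) F))).index) =
        {1, (Fintype.card F ^ 2 - 1) / 2, Fintype.card F * (Fintype.card F + 1) / 2,
          Fintype.card F * (Fintype.card F - 1), Fintype.card F * (Fintype.card F + 1)}) ∧
    (Fintype.card F % 4 = 3 →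
      Set.range (fun g : (Matrix.ProjectiveSpecialLinearGroup (Fin 2) F) => (Subgroup.centralizer ({g} : Set (Matrix.ProjectiveSpecialLinearGroup (Fin 2) F))).index) =
        {1, (Fintype.card F ^ 2 - 1) / 2, Fintype.card F * (Fintype.card F - 1) / 2,
          Fintype.card F * (Fintype.card F + 1), Fintype.card F * (Fintype.card F - 1)}) := by
  have hx₀ : (sl2Quarter : Matrix.SpecialLinearGroup (Fin 2) F) * sl2Quarter = sl2NegOne := sl2Quarter_mul_self
  have hone : pslIdx (1 : Matrix.SpecialLinearGroup (Fin 2) F) = 1 := by
    apply pslIdx_scalar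
    refine ⟨?_, ?_, ?_⟩ <;> simp
  constructor
  · intro h4
    rw [psl2_range_eq_pslIdx]
    ext n
    simp only [Set.mem_range, Set.mem_insert_iff, Set.mem_singleton_iff]
    constructor
    · rintro ⟨x, rfl⟩
      rcases pslIdx_cases hodd x with h | h | h | h | ⟨_, h⟩ | ⟨h', _⟩
      · left; exact h
      · right; left; exact h
      · right; right; right; right; exact h
      · right; right; right; left; exact h
      · right; right; left; exact h
      · omega
    · rintro (rfl | rfl | rfl | rfl | rfl)
      · exact ⟨1, hone⟩
      · exact exists_pslIdx_parabolic hodd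
      · exact ⟨sl2Quarter, (pslIdx_involution hodd _ hx₀).1 h4⟩
      · exact exists_pslIdx_nonsplit hodd h7
      · exact exists_pslIdx_split hodd h7
  · intro h4
    rw [psl2_range_eq_pslIdx]
    ext n
    simp only [Set.mem_range, Set.mem_insert_iff, Set.mem_singleton_iff]
    constructor
    · rintro ⟨x, rfl⟩
      rcases pslIdx_cases hodd x with h | h | h | h | ⟨h', _⟩ | ⟨_, h⟩
      · left; exact h
      · right; left; exact h
      · right; right; right; left; exact h
      · right; right; right; right; exact h
      · omega
      · right; right; left; exact h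
    · rintro (rfl | rfl | rfl | rfl | rfl)
      · exact ⟨1, hone⟩
      · exact exists_pslIdx_parabolic hodd
      · exact ⟨sl2Quarter, (pslIdx_involution hodd _ hx₀).2 h4⟩
      · exact exists_pslIdx_split hodd h7
      · exact exists_pslIdx_nonsplit hodd h7

end Cfsg.Agent.helper12
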