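import Mathlib
import Cfsg.Agent.Lib_helper11_SolH
import Cfsg.Agent.Lib_helper12_PslCS4

set_option autoImplicit false
set_option linter.unusedSectionVars false
set_option linter.unusedSimpArgs false
set_option linter.unusedVariables false
set_option linter.style.haveILetI false
set_option maxHeartbeats 1000000

/-!
# Solubilizers in `PSL₂(3^p)`: counting, part 1
-/

namespace Cfsg.Agent.helper11.Sol3

open Matrix Cfsg.Agent.helper11.SL2U Cfsg.Agent.helper4.Dn Cfsg.Agent.helper11.CA

variable {F : Type*} [Field F] [Fintype F] {p : ℕ}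

/-- counting in `PSL₂` by counting in `SL₂` -/
theorem card_lift (h2 : (2 : F) ≠ 0) (P : Matrix.ProjectiveSpecialLinearGroup (Fin 2) F → Prop) :
    Nat.card {Y : SpecialLinearGroup (Fin 2) F // P (piF F Y)} = 2 * Nat.card {y // P y} := by
  apply Cfsg.Agent.helper12.natCard_preimage_of_fibers (fun Y => piF F Y) 2
  intro b
  exact (Cfsg.Agent.helper12.card_fiber_mk (Subgroup.center (SpecialLinearGroup (Fin 2) F)) b).trans
    (Cfsg.Agent.helper12.card_sl2_center h2)

/-- points of the circle `e² + f² = m` -/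
def Circ (F : Type*) [Field F] (m : F) : Type _ := {q : F × F // q.1 ^ 2 + q.2 ^ 2 = m}

noncomputable instance (m : F) : Finite (Circ F m) := by unfold Circ; infer_instance

/-- multiplication by a point of norm `m₀` -/
def circMul {m m₀ : F} (hm₀ : m₀ ≠ 0) (e₀ f₀ : F) (h₀ : e₀ ^ 2 + f₀ ^ 2 = m₀) :
    Circ F m ≃ Circ F (m * m₀) where
  toFun q := ⟨(q.1.1 * e₀ - q.1.2 * f₀, q.1.1 * f₀ + q.1.2 * e₀), by
    have := q.2
    show (q.1.1 * e₀ - q.1.2 * f₀) ^ 2 + (q.1.1 * f₀ + q.1.2 * e₀) ^ 2 = m * m₀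
    linear_combination (e₀ ^ 2 + f₀ ^ 2) * this + m * h₀⟩
  invFun q := ⟨((q.1.1 * e₀ + q.1.2 * f₀) / m₀, (q.1.2 * e₀ - q.1.1 * f₀) / m₀), by
    have := q.2
    show ((q.1.1 * e₀ + q.1.2 * f₀) / m₀) ^ 2 + ((q.1.2 * e₀ - q.1.1 * f₀) / m₀) ^ 2 = m
    field_simp
    linear_combination (e₀ ^ 2 + f₀ ^ 2) * this + m * m₀ * h₀⟩
  left_inv q := by
    apply Subtype.ext
    apply Prod.ext
    · show ((q.1.1 * e₀ - q.1.2 * f₀) * e₀ + (q.1.1 * f₀ + q.1.2 * e₀) * f₀) / m₀ = q.1.1
      rw [div_eq_iff hm₀]; linear_combination q.1.1 * h₀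
    · show ((q.1.1 * f₀ + q.1.2 * e₀) * e₀ - (q.1.1 * e₀ - q.1.2 * f₀) * f₀) / m₀ = q.1.2
      rw [div_eq_iff hm₀]; linear_combination q.1.2 * h₀
  right_inv q := by
    apply Subtype.ext
    apply Prod.ext
    · show (q.1.1 * e₀ + q.1.2 * f₀) / m₀ * e₀ - (q.1.2 * e₀ - q.1.1 * f₀) / m₀ * f₀ = q.1.1
      field_simp
      linear_combination q.1.1 * h₀
    · show (q.1.1 * e₀ + q.1.2 * f₀) / m₀ * f₀ + (q.1.2 * e₀ - q.1.1 * f₀) / m₀ * e₀ = q.1.2
      field_simp
      linear_combination q.1.2 * h₀

theorem card_Circ_eq (h : Hyp F p) {m : F} (hm : m ≠ 0) :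
    Nat.card (Circ F m) = Nat.card (Circ F 1) := by
  obtain ⟨e₀, f₀, h₀⟩ := Cfsg.Agent.helper12.exists_quadratic_form_eq h.odd (0 : F) m (by
    have h2 := h.two_ne
    intro h5
    apply h2
    have : (2 : F) * 2 = 0 := by linear_combination -h5
    exact (mul_self_eq_zero.mp this))
  have h₀' : e₀ ^ 2 + f₀ ^ 2 = m := by linear_combination h₀
  have e := circMul (m := 1) hm e₀ f₀ h₀'
  rw [one_mul] at e
  exact (Nat.card_congr e).symm

theorem card_Circ (h : Hyp F p) {m : F} (hm : m ≠ 0) :
    Nat.card (Circ F m) = Fintype.card F + 1 := by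
  classical
  rw [card_Circ_eq h hm]
  -- count nonzero pairs by their norm
  have hnorm : ∀ q : {q : F × F // q ≠ 0}, q.1.1 ^ 2 + q.1.2 ^ 2 ≠ 0 := by
    intro q h0
    obtain ⟨e1, e2⟩ := h.sq_add_sq h0
    exact q.2 (Prod.ext e1 e2)
  have hfib := Cfsg.Agent.helper12.natCard_eq_mul_of_fibers
    (fun q : {q : F × F // q ≠ 0} => (⟨q.1.1 ^ 2 + q.1.2 ^ 2, hnorm q⟩ : {m : F // m ≠ 0}))
    (Nat.card (Circ F 1)) (by
      intro m
      rw [← card_Circ_eq h m.2]
      apply Nat.card_congr
      refine ⟨fun q => ⟨q.1.1, congrArg Subtype.val q.2⟩, fun q => ⟨⟨q.1, ?_⟩, Subtype.ext q.2⟩,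
        fun q => rfl, fun q => rfl⟩
      intro h0
      have := q.2
      rw [h0] at this
      apply m.2
      rw [← this]
      simp)
  have hc1 : Nat.card {q : F × F // q ≠ 0} = Fintype.card F ^ 2 - 1 := by
    rw [Nat.card_eq_fintype_card, Fintype.card_subtype_compl, Fintype.card_prod,
      Fintype.card_subtype_eq, pow_two]
  have hc2 : Nat.card {m : F // m ≠ 0} = Fintype.card F - 1 := by
    rw [Nat.card_eq_fintype_card, Fintype.card_subtype_compl, Fintype.card_subtype_eq]
  rw [hc1, hc2] at hfib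
  have hq := h.ge
  have hsq : Fintype.card F ^ 2 - 1 = (Fintype.card F + 1) * (Fintype.card F - 1) := by
    obtain ⟨k, hk⟩ : ∃ k, Fintype.card F = k + 1 := ⟨Fintype.card F - 1, by omega⟩
    rw [hk]
    have : k + 1 - 1 = k := by omega
    rw [this]
    have : (k + 1) ^ 2 - 1 = (k + 1 + 1) * k := by
      have : (k + 1) ^ 2 = (k + 1 + 1) * k + 1 := by ring
      omega
    exact this
  rw [hsq] at hfib
  exact (Nat.eq_of_mul_eq_mul_right (by omega) hfib).symm

theorem card_sq_one (h2 : (2 : F) ≠ 0) : Nat.card {s : F // s ^ 2 = 1} = 2 := by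
  rw [Nat.card_eq_two_iff]
  refine ⟨⟨1, by ring⟩, ⟨-1, by ring⟩, ?_, ?_⟩
  · intro h5
    have := congrArg Subtype.val h5
    apply h2
    linear_combination this
  · ext s
    simp only [Set.mem_insert_iff, Set.mem_singleton_iff, Set.mem_univ, iff_true]
    have : (s.1 - 1) * (s.1 + 1) = 0 := by linear_combination s.2
    rcases mul_eq_zero.mp this with h5 | h5
    · left; exact Subtype.ext (sub_eq_zero.mp h5)
    · right; exact Subtype.ext (eq_neg_of_add_eq_zero_left h5)

/-- the standard shape of matrices commuting with `Jm` -/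
def comMat (e f : F) (hef : e ^ 2 + f ^ 2 = 1) : SpecialLinearGroup (Fin 2) F :=
  ⟨!![e, f; -f, e], by rw [Matrix.det_fin_two_of]; linear_combination hef⟩

theorem card_E0 (h : Hyp F p) :
    Nat.card {Y : SpecialLinearGroup (Fin 2) F // Y.1 0 0 = Y.1 1 1 ∧ Y.1 1 0 = -Y.1 0 1}
      = Fintype.card F + 1 := by
  rw [← card_Circ h (one_ne_zero (α := F))]
  apply Nat.card_congr
  refine
    { toFun := fun Y => ⟨(Y.1.1 0 0, Y.1.1 0 1), ?_⟩
      invFun := fun q => ⟨comMat q.1.1 q.1.2 q.2, ?_⟩
      left_inv := ?_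
      right_inv := ?_ }
  · have hd := e_det Y.1
    rw [← Y.2.1, Y.2.2] at hd
    show Y.1.1 0 0 ^ 2 + Y.1.1 0 1 ^ 2 = 1
    linear_combination hd
  · constructor <;> simp [comMat]
  · intro Y
    apply Subtype.ext
    apply e_ext <;> simp [comMat]
    · exact Y.2.2.symm
    · exact Y.2.1
  · intro q
    apply Subtype.ext
    apply Prod.ext <;> simp [comMat]

theorem card_E1 (h : Hyp F p) :
    Nat.card {Y : SpecialLinearGroup (Fin 2) F // tr Y = 0}
      = Fintype.card F * (Fintype.card F - 1) := by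
  classical
  have hne : ∀ a : F, 1 + a ^ 2 ≠ 0 := by
    intro a h0
    apply h.nonsq a
    linear_combination h0
  have e : {Y : SpecialLinearGroup (Fin 2) F // tr Y = 0} ≃ F × {b : F // b ≠ 0} :=
    { toFun := fun Y => (Y.1.1 0 0, ⟨Y.1.1 0 1, by
        intro h0
        have hd := e_det Y.1
        have ht : Y.1.1 0 0 + Y.1.1 1 1 = 0 := Y.2
        apply hne (Y.1.1 0 0)
        rw [h0] at hd
        linear_combination (-1 : F) * hd + Y.1.1 0 0 * ht⟩)
      invFun := fun q => ⟨⟨!![q.1, q.2.1; -(1 + q.1 ^ 2) / q.2.1, -q.1], by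
          rw [Matrix.det_fin_two_of]
          have := q.2.2
          field_simp
          ring⟩, by unfold tr; simp⟩
      left_inv := by
        intro Y
        apply Subtype.ext
        have hd := e_det Y.1
        have ht : Y.1.1 0 0 + Y.1.1 1 1 = 0 := Y.2
        have h01 : Y.1.1 0 1 ≠ 0 := by
          intro h0
          apply hne (Y.1.1 0 0)
          rw [h0] at hd
          linear_combination (-1 : F) * hd + Y.1.1 0 0 * ht
        apply e_ext <;> simp
        · rw [div_eq_iff h01]
          linear_combination hd - Y.1.1 0 0 * ht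
        · linear_combination -ht
      right_inv := by
        intro q
        apply Prod.ext
        · simp
        · apply Subtype.ext; simp }
  rw [Nat.card_congr e, Nat.card_prod, Nat.card_eq_fintype_card, Nat.card_eq_fintype_card,
    Fintype.card_subtype_compl, Fintype.card_subtype_eq]

theorem tr_Jm_mul (Y : SpecialLinearGroup (Fin 2) F) : tr (Jm * Y) = Y.1 1 0 - Y.1 0 1 := by
  unfold tr
  rw [e_mul_00, e_mul_11, Jm_00, Jm_01, Jm_10, Jm_11]; ring

theorem card_E2 (h : Hyp F p) :
    Nat.card {Y : SpecialLinearGroup (Fin 2) F // Y.1 1 0 - Y.1 0 1 = 0}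
      = Fintype.card F * (Fintype.card F - 1) := by
  rw [← card_E1 h]
  exact Nat.card_congr (Equiv.subtypeEquiv (Equiv.mulLeft Jm) (fun Y => by
    show _ ↔ tr (Jm * Y) = 0
    rw [tr_Jm_mul]))

theorem card_E12 (h : Hyp F p) :
    Nat.card {Y : SpecialLinearGroup (Fin 2) F // tr Y = 0 ∧ Y.1 1 0 - Y.1 0 1 = 0}
      = Fintype.card F + 1 := by
  have hm1 : (-1 : F) ≠ 0 := neg_ne_zero.mpr one_ne_zero
  rw [← card_Circ h hm1]
  apply Nat.card_congr
  refine
    { toFun := fun Y => ⟨(Y.1.1 0 0, Y.1.1 0 1), ?_⟩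
      invFun := fun q => ⟨⟨!![q.1.1, q.1.2; q.1.2, -q.1.1], ?_⟩, ?_⟩
      left_inv := ?_
      right_inv := ?_ }
  · have hd := e_det Y.1
    have ht : Y.1.1 0 0 + Y.1.1 1 1 = 0 := Y.2.1
    have hu := Y.2.2
    show Y.1.1 0 0 ^ 2 + Y.1.1 0 1 ^ 2 = -1
    linear_combination (-1 : F) * hd + Y.1.1 0 0 * ht - Y.1.1 0 1 * hu
  · rw [Matrix.det_fin_two_of]
    have := q.2
    linear_combination (-1 : F) * this
  · constructor
    · unfold tr; simp
    · simp
  · intro Y
    apply Subtype.ext
    have ht : Y.1.1 0 0 + Y.1.1 1 1 = 0 := Y.2.1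
    have hu := Y.2.2
    apply e_ext <;> simp
    · linear_combination -hu
    · linear_combination -ht
  · intro q
    apply Subtype.ext
    apply Prod.ext <;> simp

theorem card_E3 (h : Hyp F p) :
    Nat.card {Y : SpecialLinearGroup (Fin 2) F // tr Y ^ 2 = 1 ∧ (Y.1 1 0 - Y.1 0 1) ^ 2 = 1}
      = 4 * (Fintype.card F + 1) := by
  have h3 := h.three
  have e : {Y : SpecialLinearGroup (Fin 2) F // tr Y ^ 2 = 1 ∧ (Y.1 1 0 - Y.1 0 1) ^ 2 = 1} ≃
      {s : F // s ^ 2 = 1} × {u : F // u ^ 2 = 1} × Circ F 1 :=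
    { toFun := fun Y => (⟨tr Y.1, Y.2.1⟩, ⟨Y.1.1 1 0 - Y.1.1 0 1, Y.2.2⟩,
        ⟨(Y.1.1 0 0 + tr Y.1, Y.1.1 0 1 - (Y.1.1 1 0 - Y.1.1 0 1)), by
          have hd := e_det Y.1
          have hs := Y.2.1
          have hu := Y.2.2
          unfold tr at hs ⊢
          show (Y.1.1 0 0 + (Y.1.1 0 0 + Y.1.1 1 1)) ^ 2 +
            (Y.1.1 0 1 - (Y.1.1 1 0 - Y.1.1 0 1)) ^ 2 = 1
          linear_combination hs + hu + 2 * hd + (Y.1.1 0 0 ^ 2 + Y.1.1 0 1 ^ 2 + 1) * h3⟩)
      invFun := fun q => ⟨⟨!![q.2.2.1.1 - q.1.1, q.2.2.1.2 + q.2.1.1;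
          q.2.2.1.2 + q.2.1.1 + q.2.1.1, q.1.1 - (q.2.2.1.1 - q.1.1)], by
          rw [Matrix.det_fin_two_of]
          have hs := q.1.2
          have hu := q.2.1.2
          have hc : q.2.2.1.1 ^ 2 + q.2.2.1.2 ^ 2 = 1 := q.2.2.2
          linear_combination (-1 : F) * hc - 2 * hs - 2 * hu
            + (q.2.2.1.1 * q.1.1 - q.2.2.1.2 * q.2.1.1 - 2) * h3⟩, by
          constructor
          · have hs := q.1.2
            unfold tr
            simp only [Matrix.of_apply, Matrix.cons_val', Matrix.cons_val_zero, Matrix.cons_val_one,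
              Matrix.cons_val_fin_one]
            linear_combination hs
          · have hu := q.2.1.2
            simp only [Matrix.of_apply, Matrix.cons_val', Matrix.cons_val_zero, Matrix.cons_val_one,
              Matrix.cons_val_fin_one]
            linear_combination hu⟩
      left_inv := by
        intro Y
        apply Subtype.ext
        apply e_ext <;> unfold tr <;> simp <;> ring
      right_inv := by
        intro q
        apply Prod.ext
        · apply Subtype.ext
          unfold tr; simp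
        · apply Prod.ext
          · apply Subtype.ext; simp
          · apply Subtype.ext
            apply Prod.ext <;> unfold tr <;> simp }
  rw [Nat.card_congr e, Nat.card_prod, Nat.card_prod, card_sq_one h.two_ne]
  have : Nat.card (Circ F 1) = Fintype.card F + 1 := card_Circ h one_ne_zero
  rw [this]; ring

theorem card_E04 (h : Hyp F p) :
    Nat.card {Y : SpecialLinearGroup (Fin 2) F //
      (Y.1 0 0 = Y.1 1 1 ∧ Y.1 1 0 = -Y.1 0 1) ∧ (tr Y = 0 ∨ Y.1 1 0 - Y.1 0 1 = 0)} = 4 := by
  classical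
  have h2 := h.two_ne
  have e : {Y : SpecialLinearGroup (Fin 2) F //
      (Y.1 0 0 = Y.1 1 1 ∧ Y.1 1 0 = -Y.1 0 1) ∧ (tr Y = 0 ∨ Y.1 1 0 - Y.1 0 1 = 0)} ≃
      {s : F // s ^ 2 = 1} ⊕ {s : F // s ^ 2 = 1} :=
    { toFun := fun Y =>
        if h0 : Y.1.1 0 0 = 0 then Sum.inl ⟨Y.1.1 0 1, by
          have hd := e_det Y.1
          rw [← Y.2.1.1, Y.2.1.2, h0] at hd
          linear_combination hd⟩
        else Sum.inr ⟨Y.1.1 0 0, by
          have hd := e_det Y.1
          have h01 : Y.1.1 0 1 = 0 := by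
            rcases Y.2.2 with ht | hu
            · exfalso
              unfold tr at ht
              rw [← Y.2.1.1] at ht
              have : 2 * Y.1.1 0 0 = 0 := by linear_combination ht
              exact h0 ((mul_eq_zero.mp this).resolve_left h2)
            · rw [Y.2.1.2] at hu
              have : 2 * Y.1.1 0 1 = 0 := by linear_combination -hu
              exact (mul_eq_zero.mp this).resolve_left h2
          rw [← Y.2.1.1, h01] at hd
          linear_combination hd⟩
      invFun := fun s => match s with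
        | Sum.inl s => ⟨comMat 0 s.1 (by linear_combination s.2), by
            refine ⟨⟨by simp [comMat], by simp [comMat]⟩, Or.inl (by unfold tr; simp [comMat])⟩⟩
        | Sum.inr s => ⟨comMat s.1 0 (by linear_combination s.2), by
            refine ⟨⟨by simp [comMat], by simp [comMat]⟩, Or.inr (by simp [comMat])⟩⟩
      left_inv := by
        intro Y
        by_cases h0 : Y.1.1 0 0 = 0
        · simp only [h0, dite_true]
          apply Subtype.ext
          apply e_ext <;> simp [comMat]
          · exact h0.symm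
          · exact Y.2.1.2.symm
          · rw [← Y.2.1.1, h0]
        · simp only [h0, dite_false]
          have h01 : Y.1.1 0 1 = 0 := by
            rcases Y.2.2 with ht | hu
            · exfalso
              unfold tr at ht
              rw [← Y.2.1.1] at ht
              have : 2 * Y.1.1 0 0 = 0 := by linear_combination ht
              exact h0 ((mul_eq_zero.mp this).resolve_left h2)
            · rw [Y.2.1.2] at hu
              have : 2 * Y.1.1 0 1 = 0 := by linear_combination -hu
              exact (mul_eq_zero.mp this).resolve_left h2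
          apply Subtype.ext
          apply e_ext <;> simp [comMat]
          · exact h01.symm
          · rw [Y.2.1.2, h01, neg_zero]
          · exact Y.2.1.1
      right_inv := by
        intro s
        rcases s with s | s
        · simp [comMat]
        · have hs0 : s.1 ≠ 0 := by
            intro h0
            have := s.2
            rw [h0] at this
            simp at this
          simp [comMat, hs0] }
  rw [Nat.card_congr e, Nat.card_sum, card_sq_one h2]

end Cfsg.Agent.helper11.Sol3
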