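import Mathlib
import Cfsg.Agent.Lib_helper11_SolI

set_option autoImplicit false
set_option linter.unusedSectionVars false
set_option linter.unusedSimpArgs false
set_option linter.unusedVariables false
set_option linter.style.haveILetI false
set_option maxHeartbeats 1000000

/-!
# `A₅`-subgroups of `PSL₂(11)`: matrix side

Elements of order `3` and `5` of `PSL₂(F)`, `F` of characteristic `11`, through traces of
their lifts of the same order; the set of `(3,5,2)`-pairs of `PSL₂(F)` is in bijection with a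
set of pairs of matrices cut out by trace conditions.
-/

namespace Cfsg.Agent.helper11.L11

open Matrix Cfsg.Agent.helper11.Sol3 Cfsg.Agent.helper4.Dn

variable {F : Type*} [Field F]

theorem two_ne (h11 : (11 : F) = 0) : (2 : F) ≠ 0 := by
  intro h
  exact one_ne_zero (by linear_combination h11 - 5 * h : (1 : F) = 0)

theorem three_ne (h11 : (11 : F) = 0) : (3 : F) ≠ 0 := by
  intro h
  exact one_ne_zero (by linear_combination 4 * h - h11 : (1 : F) = 0)

theorem five_ne (h11 : (11 : F) = 0) : (5 : F) ≠ 0 := by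
  intro h
  exact one_ne_zero (by linear_combination h11 - 2 * h : (1 : F) = 0)

/-- one more multiplication by `A`, with Cayley–Hamilton -/
theorem lin_step (A B : SpecialLinearGroup (Fin 2) F) (a b : F)
    (h : B.1 0 0 = a * A.1 0 0 - b ∧ B.1 0 1 = a * A.1 0 1 ∧ B.1 1 0 = a * A.1 1 0 ∧
      B.1 1 1 = a * A.1 1 1 - b) :
    (B * A).1 0 0 = (tr A * a - b) * A.1 0 0 - a ∧ (B * A).1 0 1 = (tr A * a - b) * A.1 0 1 ∧
    (B * A).1 1 0 = (tr A * a - b) * A.1 1 0 ∧
    (B * A).1 1 1 = (tr A * a - b) * A.1 1 1 - a := by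
  obtain ⟨h00, h01, h10, h11⟩ := h
  have hd := e_det A
  refine ⟨?_, ?_, ?_, ?_⟩
  · rw [e_mul_00, h00, h01]; unfold tr; linear_combination (-a) * hd
  · rw [e_mul_01, h00, h01]; unfold tr; ring
  · rw [e_mul_10, h10, h11]; unfold tr; ring
  · rw [e_mul_11, h10, h11]; unfold tr; linear_combination (-a) * hd

theorem pow3_eq (A : SpecialLinearGroup (Fin 2) F) : A ^ 3 = A * A * A := by
  simp only [pow_succ, pow_zero, one_mul]

theorem pow5_eq (A : SpecialLinearGroup (Fin 2) F) : A ^ 5 = A * A * A * A * A := by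
  simp only [pow_succ, pow_zero, one_mul]

theorem pow5_entries (A : SpecialLinearGroup (Fin 2) F) :
    (A ^ 5).1 0 0 = (tr A ^ 4 - 3 * tr A ^ 2 + 1) * A.1 0 0 - (tr A ^ 3 - 2 * tr A) ∧
    (A ^ 5).1 0 1 = (tr A ^ 4 - 3 * tr A ^ 2 + 1) * A.1 0 1 ∧
    (A ^ 5).1 1 0 = (tr A ^ 4 - 3 * tr A ^ 2 + 1) * A.1 1 0 ∧
    (A ^ 5).1 1 1 = (tr A ^ 4 - 3 * tr A ^ 2 + 1) * A.1 1 1 - (tr A ^ 3 - 2 * tr A) := by
  have h3 := cube_entries A
  have h4 := lin_step A (A * A * A) _ _ h3
  have h5 := lin_step A (A * A * A * A) _ _ h4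
  rw [pow5_eq]
  obtain ⟨g00, g01, g10, g11⟩ := h5
  refine ⟨?_, ?_, ?_, ?_⟩
  · rw [g00]; ring
  · rw [g01]; ring
  · rw [g10]; ring
  · rw [g11]; ring

/-- an element of order three of `SL₂` has trace `-1` -/
theorem tr_of_cube (h2 : (2 : F) ≠ 0) (A : SpecialLinearGroup (Fin 2) F) (h : A ^ 3 = 1)
    (hA : A ≠ 1) : tr A = -1 := by
  rw [pow3_eq] at h
  obtain ⟨h00, h01, h10, h11⟩ := cube_entries A
  rw [h, e_one_00] at h00
  rcases cube_lemma h2 A (Or.inl h) with (h1 | h1) | h1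
  · exact absurd h1 hA
  · exfalso
    have t2 : tr A = -2 := by
      rw [h1]; unfold tr; rw [e_neg, e_neg, e_one_00, e_one_11]; ring
    have a00 : A.1 0 0 = -1 := by rw [h1, e_neg, e_one_00]
    rw [t2, a00] at h00
    apply h2
    linear_combination h00
  · have h5 : (tr A - 1) * (tr A + 1) = 0 := by linear_combination h1
    rcases mul_eq_zero.mp h5 with h4 | h4
    · exfalso
      have ht : tr A = 1 := sub_eq_zero.mp h4
      rw [ht] at h00
      apply h2
      linear_combination h00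
    · exact eq_neg_of_add_eq_zero_left h4

theorem cube_of_tr' (A : SpecialLinearGroup (Fin 2) F) (h : tr A = -1) : A ^ 3 = 1 := by
  rw [pow3_eq]
  obtain ⟨h00, h01, h10, h11⟩ := cube_entries A
  rw [h] at h00 h01 h10 h11
  apply e_ext
  · rw [h00, e_one_00]; ring
  · rw [h01, e_one_01]; ring
  · rw [h10, e_one_10]; ring
  · rw [h11, e_one_11]; ring

theorem tr_one : tr (1 : SpecialLinearGroup (Fin 2) F) = 2 := by
  unfold tr; rw [e_one_00, e_one_11]; ring

theorem tr_neg (A : SpecialLinearGroup (Fin 2) F) : tr (-A) = -tr A := by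
  unfold tr; rw [e_neg, e_neg]; ring

/-- an element of order five of `SL₂` in characteristic `11` has trace `3` or `7` -/
theorem tr_of_pow5 (h11 : (11 : F) = 0) (A : SpecialLinearGroup (Fin 2) F) (h : A ^ 5 = 1)
    (hA : A ≠ 1) : tr A = 3 ∨ tr A = 7 := by
  have h2 : (2 : F) ≠ 0 := two_ne h11
  obtain ⟨h00, h01, h10, h11'⟩ := pow5_entries A
  rw [h, e_one_00] at h00
  rw [h, e_one_01] at h01
  rw [h, e_one_10] at h10
  rw [h, e_one_11] at h11'
  obtain ⟨t, ht⟩ : ∃ t, t = tr A := ⟨_, rfl⟩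
  rw [← ht] at h00 h01 h10 h11' ⊢
  by_cases ha : t ^ 4 - 3 * t ^ 2 + 1 = 0
  · rw [ha, zero_mul, zero_sub] at h00
    have k1 : (t ^ 2 + t - 1) * (t ^ 2 - t - 1) = 0 := by linear_combination ha
    have k2 : (t - 1) * (t ^ 2 + t - 1) = 0 := by linear_combination h00
    have k3 : t ^ 2 + t - 1 = 0 := by
      by_contra hne
      have t1 : t = 1 := sub_eq_zero.mp ((mul_eq_zero.mp k2).resolve_right hne)
      have h6 := (mul_eq_zero.mp k1).resolve_left hne
      rw [t1] at h6
      exact one_ne_zero (by linear_combination -h6 : (1 : F) = 0)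
    have k4 : (t - 3) * (t - 7) = 0 := by linear_combination k3 - (t - 2) * h11
    rcases mul_eq_zero.mp k4 with h | h
    · left; exact sub_eq_zero.mp h
    · right; exact sub_eq_zero.mp h
  · exfalso
    have g01 : A.1 0 1 = 0 := (mul_eq_zero.mp h01.symm).resolve_left ha
    have g10 : A.1 1 0 = 0 := (mul_eq_zero.mp h10.symm).resolve_left ha
    have g : A.1 0 0 = A.1 1 1 := mul_left_cancel₀ ha (by linear_combination h11' - h00)
    rcases scalar_eq h2 A g01 g10 g with h1 | h1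
    · exact hA h1
    · have t2 : t = -2 := by
        rw [ht, h1, tr_neg, tr_one]
      have a00 : A.1 0 0 = -1 := by rw [h1, e_neg, e_one_00]
      rw [t2, a00] at h00
      apply h2
      linear_combination h00

theorem pow5_of_tr (h11 : (11 : F) = 0) (A : SpecialLinearGroup (Fin 2) F)
    (h : tr A = 3 ∨ tr A = 7) : A ^ 5 = 1 := by
  obtain ⟨h00, h01, h10, h11'⟩ := pow5_entries A
  rcases h with h | h
  · rw [h] at h00 h01 h10 h11'
    apply e_ext
    · rw [h00, e_one_00]; linear_combination (5 * A.1 0 0 - 2) * h11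
    · rw [h01, e_one_01]; linear_combination (5 * A.1 0 1) * h11
    · rw [h10, e_one_10]; linear_combination (5 * A.1 1 0) * h11
    · rw [h11', e_one_11]; linear_combination (5 * A.1 1 1 - 2) * h11
  · rw [h] at h00 h01 h10 h11'
    apply e_ext
    · rw [h00, e_one_00]; linear_combination (205 * A.1 0 0 - 30) * h11
    · rw [h01, e_one_01]; linear_combination (205 * A.1 0 1) * h11
    · rw [h10, e_one_10]; linear_combination (205 * A.1 1 0) * h11
    · rw [h11', e_one_11]; linear_combination (205 * A.1 1 1 - 30) * h11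

variable (F)

/-- pairs of matrices with the trace conditions of a `(3,5,2)`-pair -/
abbrev MS : Type _ := {P : SpecialLinearGroup (Fin 2) F × SpecialLinearGroup (Fin 2) F //
  tr P.1 = -1 ∧ (tr P.2 = 3 ∨ tr P.2 = 7) ∧ tr (P.1 * P.2) = 0}

/-- the `(3,5,2)`-pairs of `PSL₂(F)` -/
abbrev SS : Type _ := {p : Matrix.ProjectiveSpecialLinearGroup (Fin 2) F ×
    Matrix.ProjectiveSpecialLinearGroup (Fin 2) F //
  p.1 ^ 3 = 1 ∧ p.2 ^ 5 = 1 ∧ (p.1 * p.2) ^ 2 = 1 ∧ p.1 ≠ 1}

variable {F}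

theorem piF_ne_one_of_tr (h11 : (11 : F) = 0) (X : SpecialLinearGroup (Fin 2) F)
    (h : tr X = -1) : piF F X ≠ 1 := by
  intro h1
  rcases (piF_eq_one_iff' X).mp h1 with h1 | h1
  · rw [h1, tr_one] at h
    exact three_ne h11 (by linear_combination h)
  · rw [h1, tr_neg, tr_one] at h
    exact one_ne_zero (by linear_combination -h : (1 : F) = 0)

/-- from matrices to `PSL₂` -/
noncomputable def msToSs (h11 : (11 : F) = 0) : MS F → SS F := fun P =>
  ⟨(piF F P.1.1, piF F P.1.2), by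
    obtain ⟨⟨X, Y⟩, hX, hY, hXY⟩ := P
    refine ⟨?_, ?_, ?_, ?_⟩
    · show piF F X ^ 3 = 1
      rw [← map_pow, cube_of_tr' X hX, map_one]
    · show piF F Y ^ 5 = 1
      rw [← map_pow, pow5_of_tr h11 Y hY, map_one]
    · show (piF F X * piF F Y) ^ 2 = 1
      rw [← map_mul, ← map_pow, pow_two, sq_of_tr (X * Y) hXY]
      exact piF_neg_one'
    · exact piF_ne_one_of_tr h11 X hX⟩

theorem msToSs_injective (h11 : (11 : F) = 0) : Function.Injective (msToSs h11) := by
  rintro ⟨⟨X, Y⟩, hX, hY, hXY⟩ ⟨⟨X', Y'⟩, hX', hY', hXY'⟩ h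
  have h1 : piF F X = piF F X' := congrArg (fun q => q.1.1) h
  have h2 : piF F Y = piF F Y' := congrArg (fun q => q.1.2) h
  have eX : X = X' := by
    rcases (Cfsg.Agent.helper4.Dn.piF_eq_iff X X').mp h1 with e | e
    · exact e
    · exfalso
      rw [e, tr_neg, hX'] at hX
      exact two_ne h11 (by linear_combination hX)
  have eY : Y = Y' := by
    rcases (Cfsg.Agent.helper4.Dn.piF_eq_iff Y Y').mp h2 with e | e
    · exact e
    · exfalso
      rw [e, tr_neg] at hY
      rcases hY with hY | hY <;> rcases hY' with hY' | hY'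
      · rw [hY'] at hY
        exact one_ne_zero (by linear_combination -2 * hY - h11 : (1 : F) = 0)
      · rw [hY'] at hY
        exact one_ne_zero (by linear_combination h11 + hY : (1 : F) = 0)
      · rw [hY'] at hY
        exact one_ne_zero (by linear_combination h11 + hY : (1 : F) = 0)
      · rw [hY'] at hY
        exact one_ne_zero (by linear_combination -4 * hY - 5 * h11 : (1 : F) = 0)
  subst eX
  subst eY
  rfl

theorem exists_lift_cube (x : Matrix.ProjectiveSpecialLinearGroup (Fin 2) F) (hx : x ^ 3 = 1) :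
    ∃ X : SpecialLinearGroup (Fin 2) F, piF F X = x ∧ X ^ 3 = 1 := by
  obtain ⟨X₀, rfl⟩ := piF_surj' x
  rw [← map_pow] at hx
  rcases (piF_eq_one_iff' _).mp hx with h | h
  · exact ⟨X₀, rfl, h⟩
  · refine ⟨-X₀, ?_, ?_⟩
    · exact (Cfsg.Agent.helper4.Dn.piF_eq_iff _ _).mpr (Or.inr rfl)
    · rw [Odd.neg_pow (by decide), h, neg_neg]

theorem exists_lift_pow5 (x : Matrix.ProjectiveSpecialLinearGroup (Fin 2) F) (hx : x ^ 5 = 1) :
    ∃ X : SpecialLinearGroup (Fin 2) F, piF F X = x ∧ X ^ 5 = 1 := by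
  obtain ⟨X₀, rfl⟩ := piF_surj' x
  rw [← map_pow] at hx
  rcases (piF_eq_one_iff' _).mp hx with h | h
  · exact ⟨X₀, rfl, h⟩
  · refine ⟨-X₀, ?_, ?_⟩
    · exact (Cfsg.Agent.helper4.Dn.piF_eq_iff _ _).mpr (Or.inr rfl)
    · rw [Odd.neg_pow (by decide), h, neg_neg]

theorem msToSs_surjective (h11 : (11 : F) = 0) : Function.Surjective (msToSs h11) := by
  rintro ⟨⟨x, y⟩, hx3, hy5, hxy, hx1⟩
  have h2 : (2 : F) ≠ 0 := two_ne h11
  change x ^ 3 = 1 at hx3
  change y ^ 5 = 1 at hy5
  change (x * y) ^ 2 = 1 at hxy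
  change x ≠ 1 at hx1
  -- `y` has order five
  have hy1 : y ≠ 1 := by
    intro h
    rw [h, mul_one] at hxy
    apply hx1
    calc x = x ^ 3 * (x ^ 2)⁻¹ := by group
      _ = 1 := by rw [hx3, hxy]; simp
  obtain ⟨X, hXx, hX3⟩ := exists_lift_cube x hx3
  obtain ⟨Y, hYy, hY5⟩ := exists_lift_pow5 y hy5
  have hX1 : X ≠ 1 := by
    intro h
    rw [h, map_one] at hXx
    exact hx1 hXx.symm
  have hY1 : Y ≠ 1 := by
    intro h
    rw [h, map_one] at hYy
    exact hy1 hYy.symm
  have hXt := tr_of_cube h2 X hX3 hX1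
  have hYt := tr_of_pow5 h11 Y hY5 hY1
  have hXYt : tr (X * Y) = 0 := by
    have h5 : piF F ((X * Y) * (X * Y)) = 1 := by
      rw [← pow_two, map_pow, map_mul, hXx, hYy, hxy]
    rcases sq_lemma h2 (X * Y) ((piF_eq_one_iff' _).mp h5) with h6 | h6
    · exfalso
      have h7 : x * y = 1 := by
        rw [← hXx, ← hYy, ← map_mul]
        exact (piF_eq_one_iff' _).mpr h6
      have h8 : y = x⁻¹ := (eq_inv_of_mul_eq_one_right h7)
      have hy3 : y ^ 3 = 1 := by rw [h8, inv_pow, hx3, inv_one]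
      apply hy1
      calc y = (y ^ 3) ^ 2 * (y ^ 5)⁻¹ := by group
        _ = 1 := by rw [hy3, hy5]; simp
    · exact h6
  refine ⟨⟨(X, Y), hXt, hYt, hXYt⟩, ?_⟩
  apply Subtype.ext
  exact Prod.ext hXx hYy

theorem card_SS_eq (h11 : (11 : F) = 0) : Nat.card (SS F) = Nat.card (MS F) :=
  (Nat.card_congr (Equiv.ofBijective (msToSs h11)
    ⟨msToSs_injective h11, msToSs_surjective h11⟩)).symm

end Cfsg.Agent.helper11.L11
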