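import Mathlib
import Cfsg.Agent.Lib_helper11_L11A

set_option autoImplicit false
set_option linter.unusedSectionVars false
set_option linter.unusedSimpArgs false
set_option linter.unusedVariables false
set_option linter.style.haveILetI false
set_option maxHeartbeats 1000000

/-!
# `A₅`-subgroups of `PSL₂(11)`: counting the matrix pairs

`Nat.card (MS F) = 2640` for a field with eleven elements.
-/

namespace Cfsg.Agent.helper11.L11

open Matrix Cfsg.Agent.helper11.Sol3 Cfsg.Agent.helper4.Dn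

variable {F : Type*} [Field F]

/-- the fibre over a matrix `M`: matrices `Y` of determinant one, trace `3` or `7`, with
`tr (M Y) = 0` -/
abbrev FibM (M : Matrix (Fin 2) (Fin 2) F) : Type _ :=
  {Y : Matrix (Fin 2) (Fin 2) F // Y.det = 1 ∧ (Y.trace = 3 ∨ Y.trace = 7) ∧ (M * Y).trace = 0}

theorem conj_det (g h Y : Matrix (Fin 2) (Fin 2) F) (hgh : g * h = 1) :
    (g * Y * h).det = Y.det := by
  have h1 : g.det * h.det = 1 := by rw [← det_mul, hgh, det_one]
  rw [det_mul, det_mul]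
  linear_combination Y.det * h1

theorem conj_trace (g h Y : Matrix (Fin 2) (Fin 2) F) (hhg : h * g = 1) :
    (g * Y * h).trace = Y.trace := by
  rw [Matrix.trace_mul_cycle, hhg, Matrix.one_mul]

theorem conj_mul (g h M Y : Matrix (Fin 2) (Fin 2) F) (hhg : h * g = 1) :
    g * M * h * (g * Y * h) = g * (M * Y) * h := by
  calc g * M * h * (g * Y * h) = g * M * (h * g) * Y * h := by simp only [Matrix.mul_assoc]
    _ = g * (M * Y) * h := by rw [hhg]; simp only [Matrix.mul_one, Matrix.mul_assoc]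

/-- conjugation moves fibres -/
def fibConj (M g h : Matrix (Fin 2) (Fin 2) F) (hgh : g * h = 1) (hhg : h * g = 1) :
    FibM M ≃ FibM (g * M * h) where
  toFun Y := ⟨g * Y.1 * h, by
    obtain ⟨Y, h1, h2, h3⟩ := Y
    refine ⟨?_, ?_, ?_⟩
    · rw [conj_det g h Y hgh]; exact h1
    · rw [conj_trace g h Y hhg]; exact h2
    · rw [conj_mul g h M Y hhg, conj_trace g h _ hhg]; exact h3⟩
  invFun Y := ⟨h * Y.1 * g, by
    obtain ⟨Y, h1, h2, h3⟩ := Y
    refine ⟨?_, ?_, ?_⟩
    · rw [conj_det h g Y hhg]; exact h1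
    · rw [conj_trace h g Y hgh]; exact h2
    · have e1 : M * (h * Y * g) = h * (g * M * h * Y) * g := by
        calc M * (h * Y * g) = (h * g) * M * (h * Y * g) := by rw [hhg, Matrix.one_mul]
          _ = h * (g * M * h * Y) * g := by simp only [Matrix.mul_assoc]
      rw [e1, conj_trace h g _ hgh]; exact h3⟩
  left_inv Y := by
    apply Subtype.ext
    show h * (g * Y.1 * h) * g = Y.1
    calc h * (g * Y.1 * h) * g = (h * g) * Y.1 * (h * g) := by simp only [Matrix.mul_assoc]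
      _ = Y.1 := by rw [hhg, Matrix.one_mul, Matrix.mul_one]
  right_inv Y := by
    apply Subtype.ext
    show g * (h * Y.1 * g) * h = Y.1
    calc g * (h * Y.1 * g) * h = (g * h) * Y.1 * (g * h) := by simp only [Matrix.mul_assoc]
      _ = Y.1 := by rw [hgh, Matrix.one_mul, Matrix.mul_one]

/-- the companion matrix of `x² + x + 1` -/
def Cm : Matrix (Fin 2) (Fin 2) F := !![0, -1; 1, -1]

theorem intertwine (a b c d v0 v1 : F) (hdet : a * d - b * c = 1) (htr : a + d = -1) :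
    !![a, b; c, d] * !![v0, a * v0 + b * v1; v1, c * v0 + d * v1] =
      !![v0, a * v0 + b * v1; v1, c * v0 + d * v1] * (Cm : Matrix (Fin 2) (Fin 2) F) := by
  unfold Cm
  rw [Matrix.mul_fin_two, Matrix.mul_fin_two]
  ext i j
  fin_cases i <;> fin_cases j
  · show a * v0 + b * v1 = v0 * 0 + (a * v0 + b * v1) * 1
    ring
  · show a * (a * v0 + b * v1) + b * (c * v0 + d * v1) = v0 * -1 + (a * v0 + b * v1) * -1
    linear_combination (-v0) * hdet + (a * v0 + b * v1) * htr
  · show c * v0 + d * v1 = v1 * 0 + (c * v0 + d * v1) * 1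
    ring
  · show c * (a * v0 + b * v1) + d * (c * v0 + d * v1) = v1 * -1 + (c * v0 + d * v1) * -1
    linear_combination (-v1) * hdet + (c * v0 + d * v1) * htr

theorem conj_of_intertwine (M P C : Matrix (Fin 2) (Fin 2) F) (hP : P.det ≠ 0)
    (h : M * P = P * C) : ∃ g h : Matrix (Fin 2) (Fin 2) F, g * h = 1 ∧ h * g = 1 ∧
      g * M * h = C := by
  have hu : IsUnit P.det := isUnit_iff_ne_zero.mpr hP
  refine ⟨P⁻¹, P, Matrix.nonsing_inv_mul P hu, Matrix.mul_nonsing_inv P hu, ?_⟩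
  rw [Matrix.mul_assoc, h, ← Matrix.mul_assoc, Matrix.nonsing_inv_mul P hu, Matrix.one_mul]

theorem exists_conj (h3 : (3 : F) ≠ 0) (M : Matrix (Fin 2) (Fin 2) F) (hdet : M.det = 1)
    (htr : M.trace = -1) : ∃ g h : Matrix (Fin 2) (Fin 2) F, g * h = 1 ∧ h * g = 1 ∧
      g * M * h = Cm := by
  obtain ⟨a, ha⟩ : ∃ a, a = M 0 0 := ⟨_, rfl⟩
  obtain ⟨b, hb⟩ : ∃ b, b = M 0 1 := ⟨_, rfl⟩
  obtain ⟨c, hc⟩ : ∃ c, c = M 1 0 := ⟨_, rfl⟩
  obtain ⟨d, hd⟩ : ∃ d, d = M 1 1 := ⟨_, rfl⟩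
  have hM : M = !![a, b; c, d] := by
    rw [ha, hb, hc, hd]
    exact Matrix.eta_fin_two M
  rw [Matrix.det_fin_two, ← ha, ← hb, ← hc, ← hd] at hdet
  rw [Matrix.trace_fin_two, ← ha, ← hd] at htr
  rw [hM]
  by_cases hc0 : c = 0
  · by_cases hb0 : b = 0
    · apply conj_of_intertwine _ !![1, a * 1 + b * 1; 1, c * 1 + d * 1] _ _
        (intertwine a b c d 1 1 hdet htr)
      rw [Matrix.det_fin_two_of, hc0, hb0]
      intro h
      have had : a = d := by linear_combination -h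
      rw [hc0, hb0, had] at hdet
      rw [had] at htr
      apply h3
      have h4 : (2 * d) ^ 2 = 1 := by rw [show 2 * d = d + d by ring, htr]; ring
      linear_combination h4 - 4 * hdet
    · apply conj_of_intertwine _ !![0, a * 0 + b * 1; 1, c * 0 + d * 1] _ _
        (intertwine a b c d 0 1 hdet htr)
      rw [Matrix.det_fin_two_of]
      intro h
      apply hb0
      linear_combination -h
  · apply conj_of_intertwine _ !![1, a * 1 + b * 0; 0, c * 1 + d * 0] _ _
      (intertwine a b c d 1 0 hdet htr)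
    rw [Matrix.det_fin_two_of]
    intro h
    apply hc0
    linear_combination h

variable (F)

/-- parameters of the fibre over the companion matrix -/
abbrev Q3 : Type _ := {q : F × F × F //
  q.1 * q.2.2 - (q.2.1 + q.2.2) * q.2.1 = 1 ∧ (q.1 + q.2.2 = 3 ∨ q.1 + q.2.2 = 7)}

/-- parameters of the matrices of trace `-1` -/
abbrev R3 : Type _ := {q : F × F × F // q.1 * (-1 - q.1) - q.2.1 * q.2.2 = 1}

/-- matrices of trace `-1` -/
abbrev T3 : Type _ := {X : SpecialLinearGroup (Fin 2) F // tr X = -1}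

variable {F}

theorem Cm_mul_trace (Y : Matrix (Fin 2) (Fin 2) F) :
    ((Cm : Matrix (Fin 2) (Fin 2) F) * Y).trace = -Y 1 0 + Y 0 1 - Y 1 1 := by
  unfold Cm
  rw [Matrix.trace_fin_two, Matrix.mul_apply, Matrix.mul_apply, Fin.sum_univ_two,
    Fin.sum_univ_two]
  simp
  ring

def fibCmEquiv : FibM (Cm : Matrix (Fin 2) (Fin 2) F) ≃ Q3 F where
  toFun Y := ⟨(Y.1 0 0, Y.1 1 0, Y.1 1 1), by
    obtain ⟨Y, h1, h2, h3⟩ := Y
    rw [Matrix.det_fin_two] at h1
    rw [Matrix.trace_fin_two] at h2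
    rw [Cm_mul_trace] at h3
    refine ⟨?_, h2⟩
    show Y 0 0 * Y 1 1 - (Y 1 0 + Y 1 1) * Y 1 0 = 1
    linear_combination h1 + Y 1 0 * h3⟩
  invFun q := ⟨!![q.1.1, q.1.2.1 + q.1.2.2; q.1.2.1, q.1.2.2], by
    obtain ⟨⟨a, c, d⟩, h1, h2⟩ := q
    refine ⟨?_, ?_, ?_⟩
    · rw [Matrix.det_fin_two_of]
      linear_combination h1
    · rw [Matrix.trace_fin_two_of]
      exact h2
    · rw [Cm_mul_trace]
      show -c + (c + d) - d = 0
      ring⟩
  left_inv Y := by
    obtain ⟨Y, h1, h2, h3⟩ := Y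
    apply Subtype.ext
    rw [Cm_mul_trace] at h3
    show !![Y 0 0, Y 1 0 + Y 1 1; Y 1 0, Y 1 1] = Y
    have h4 : Y 1 0 + Y 1 1 = Y 0 1 := by linear_combination -h3
    rw [h4]
    exact (Matrix.eta_fin_two Y).symm
  right_inv q := by
    obtain ⟨⟨a, c, d⟩, h1, h2⟩ := q
    rfl

def t3Equiv : T3 F ≃ R3 F where
  toFun X := ⟨(X.1.1 0 0, X.1.1 0 1, X.1.1 1 0), by
    obtain ⟨X, hX⟩ := X
    have hd := e_det X
    unfold tr at hX
    show X.1 0 0 * (-1 - X.1 0 0) - X.1 0 1 * X.1 1 0 = 1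
    have h11 : X.1 1 1 = -1 - X.1 0 0 := by linear_combination hX
    rw [← h11]
    exact hd⟩
  invFun q := ⟨⟨!![q.1.1, q.1.2.1; q.1.2.2, -1 - q.1.1], by
      obtain ⟨⟨a, b, c⟩, h1⟩ := q
      rw [Matrix.det_fin_two_of]
      exact h1⟩, by
    obtain ⟨⟨a, b, c⟩, h1⟩ := q
    show a + (-1 - a) = -1
    ring⟩
  left_inv X := by
    obtain ⟨X, hX⟩ := X
    apply Subtype.ext
    apply Subtype.ext
    unfold tr at hX
    show !![X.1 0 0, X.1 0 1; X.1 1 0, -1 - X.1 0 0] = X.1
    have h11 : -1 - X.1 0 0 = X.1 1 1 := by linear_combination -hX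
    rw [h11]
    exact (Matrix.eta_fin_two X.1).symm
  right_inv q := by
    obtain ⟨⟨a, b, c⟩, h1⟩ := q
    rfl

set_option maxRecDepth 1000000 in
theorem card_R3_zmod : Fintype.card {q : ZMod 11 × ZMod 11 × ZMod 11 //
    q.1 * (-1 - q.1) - q.2.1 * q.2.2 = 1} = 110 := by
  decide

set_option maxRecDepth 1000000 in
theorem card_Q3_zmod : Fintype.card {q : ZMod 11 × ZMod 11 × ZMod 11 //
    q.1 * q.2.2 - (q.2.1 + q.2.2) * q.2.1 = 1 ∧ (q.1 + q.2.2 = 3 ∨ q.1 + q.2.2 = 7)} = 24 := by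
  decide

theorem card_R3 [Fintype F] (hF : Fintype.card F = 11) : Nat.card (R3 F) = 110 := by
  obtain ⟨e⟩ : Nonempty (ZMod 11 ≃+* F) := ⟨ZMod.ringEquivOfPrime F (by norm_num) hF⟩
  rw [← card_R3_zmod, ← Nat.card_eq_fintype_card]
  symm
  apply Nat.card_congr
  refine Equiv.subtypeEquiv (e.toEquiv.prodCongr (e.toEquiv.prodCongr e.toEquiv)) ?_
  rintro ⟨a, b, c⟩
  show a * (-1 - a) - b * c = 1 ↔ e a * (-1 - e a) - e b * e c = 1
  have h1 : e a * (-1 - e a) - e b * e c = e (a * (-1 - a) - b * c) := by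
    simp only [map_sub, map_mul, map_neg, map_one]
  rw [h1]
  constructor
  · intro h; rw [h, map_one]
  · intro h; apply e.injective; rw [h, map_one]

theorem card_Q3 [Fintype F] (hF : Fintype.card F = 11) : Nat.card (Q3 F) = 24 := by
  obtain ⟨e⟩ : Nonempty (ZMod 11 ≃+* F) := ⟨ZMod.ringEquivOfPrime F (by norm_num) hF⟩
  rw [← card_Q3_zmod, ← Nat.card_eq_fintype_card]
  symm
  apply Nat.card_congr
  refine Equiv.subtypeEquiv (e.toEquiv.prodCongr (e.toEquiv.prodCongr e.toEquiv)) ?_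
  rintro ⟨a, c, d⟩
  show (a * d - (c + d) * c = 1 ∧ (a + d = 3 ∨ a + d = 7)) ↔
    (e a * e d - (e c + e d) * e c = 1 ∧ (e a + e d = 3 ∨ e a + e d = 7))
  have h1 : e a * e d - (e c + e d) * e c = e (a * d - (c + d) * c) := by
    simp only [map_sub, map_mul, map_add]
  have h2 : e a + e d = e (a + d) := by rw [map_add]
  have k1 : ∀ z : ZMod 11, e z = 1 ↔ z = 1 := by
    intro z
    constructor
    · intro h; apply e.injective; rw [h, map_one]
    · intro h; rw [h, map_one]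
  have k3 : ∀ z : ZMod 11, e z = 3 ↔ z = 3 := by
    intro z
    constructor
    · intro h; apply e.injective; rw [h, map_ofNat]
    · intro h; rw [h, map_ofNat]
  have k7 : ∀ z : ZMod 11, e z = 7 ↔ z = 7 := by
    intro z
    constructor
    · intro h; apply e.injective; rw [h, map_ofNat]
    · intro h; rw [h, map_ofNat]
  rw [h1, h2, k1, k3, k7]

theorem card_T3 [Fintype F] (hF : Fintype.card F = 11) : Nat.card (T3 F) = 110 := by
  rw [Nat.card_congr t3Equiv, card_R3 hF]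

theorem card_FibM [Fintype F] (hF : Fintype.card F = 11) (h3 : (3 : F) ≠ 0)
    (M : Matrix (Fin 2) (Fin 2) F) (hdet : M.det = 1) (htr : M.trace = -1) :
    Nat.card (FibM M) = 24 := by
  obtain ⟨g, h, hgh, hhg, hC⟩ := exists_conj h3 M hdet htr
  rw [Nat.card_congr (fibConj M g h hgh hhg), hC, Nat.card_congr fibCmEquiv, card_Q3 hF]

/-- the fibre of `MS F → T3 F` over `X` -/
def fibEquiv (X : T3 F) :
    {P : MS F // (⟨P.1.1, P.2.1⟩ : T3 F) = X} ≃ FibM (X.1.1 : Matrix (Fin 2) (Fin 2) F) where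
  toFun P := ⟨P.1.1.2.1, by
    obtain ⟨⟨⟨X', Y⟩, hX, hY, hXY⟩, hP⟩ := P
    have hX' : X' = X.1 := congrArg Subtype.val hP
    subst hX'
    refine ⟨Y.2, ?_, ?_⟩
    · rw [Matrix.trace_fin_two]; exact hY
    · show (X.1.1 * Y.1).trace = 0
      rw [← Matrix.SpecialLinearGroup.coe_mul, Matrix.trace_fin_two]
      exact hXY⟩
  invFun Y := ⟨⟨(X.1, ⟨Y.1, Y.2.1⟩), X.2, by
      have := Y.2.2.1
      rw [Matrix.trace_fin_two] at this
      exact this, by
      have := Y.2.2.2
      rw [Matrix.trace_fin_two] at this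
      exact this⟩, rfl⟩
  left_inv P := by
    obtain ⟨⟨⟨X', Y⟩, hX, hY, hXY⟩, hP⟩ := P
    have hX' : X' = X.1 := congrArg Subtype.val hP
    subst hX'
    rfl
  right_inv Y := rfl

theorem card_MS [Fintype F] (hF : Fintype.card F = 11) : Nat.card (MS F) = 2640 := by
  classical
  have h11 : (11 : F) = 0 := by
    have := Nat.cast_card_eq_zero F
    rw [hF] at this
    exact_mod_cast this
  haveI : Finite (MS F) := by unfold MS; infer_instance
  haveI : Finite (T3 F) := by unfold T3; infer_instance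
  have key := Cfsg.Agent.helper12.natCard_eq_mul_of_fibers
    (fun P : MS F => (⟨P.1.1, P.2.1⟩ : T3 F)) 24 (by
      intro X
      rw [Nat.card_congr (fibEquiv X)]
      refine card_FibM hF (three_ne h11) _ X.1.2 ?_
      rw [Matrix.trace_fin_two]
      exact X.2)
  have h110 := card_T3 hF
  rw [key, h110]

end Cfsg.Agent.helper11.L11
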