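import Mathlib

set_option autoImplicit false

/-!
# The alternating group of degree five has `120` pairs `(x, y)` with `x³ = y⁵ = (xy)² = 1`, `x ≠ 1`
-/

namespace Cfsg.Agent.helper11.L11

set_option maxRecDepth 1000000 in
set_option maxHeartbeats 4000000 in
theorem card_SSg_A5_fintype :
    Fintype.card {p : alternatingGroup (Fin 5) × alternatingGroup (Fin 5) //
      p.1 ^ 3 = 1 ∧ p.2 ^ 5 = 1 ∧ (p.1 * p.2) ^ 2 = 1 ∧ p.1 ≠ 1} = 120 := by
  decide

end Cfsg.Agent.helper11.L11
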