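import Mathlib

set_option autoImplicit false

namespace Cfsg.Agent.helper12

/-- cardinality of the source of a map with constant fibre size -/
theorem natCard_eq_mul_of_fibers {α β : Type*} [Finite α] [Finite β] (f : α → β) (k : ℕ)
    (h : ∀ b, Nat.card {a // f a = b} = k) : Nat.card α = k * Nat.card β := by
  classical
  haveI := Fintype.ofFinite β
  rw [← Nat.card_congr (Equiv.sigmaFiberEquiv f), Nat.card_sigma]
  simp only [h, Finset.sum_const, Finset.card_univ, smul_eq_mul, Nat.card_eq_fintype_card]
  ring

/-- the four-group generated by two commuting involutions (after helper17's S3919) -/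
def kleinSub {G : Type*} [Group G] (g z : G) (hg : g * g = 1) (hz : z * z = 1)
    (hc : z * g = g * z) : Subgroup G where
  carrier := {v | v = 1 ∨ v = g ∨ v = z ∨ v = g * z}
  one_mem' := Or.inl rfl
  mul_mem' := by
    have hg' : ∀ w, g * (g * w) = w := fun w => by rw [← mul_assoc, hg, one_mul]
    have hz' : ∀ w, z * (z * w) = w := fun w => by rw [← mul_assoc, hz, one_mul]
    have hc' : ∀ w, z * (g * w) = g * (z * w) := fun w => by rw [← mul_assoc, hc, mul_assoc]
    rintro a b (rfl | rfl | rfl | rfl) (rfl | rfl | rfl | rfl) <;>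
      simp [mul_assoc, hg, hz, hc, hg', hz', hc']
  inv_mem' := by
    have hgi : g⁻¹ = g := inv_eq_of_mul_eq_one_right hg
    have hzi : z⁻¹ = z := inv_eq_of_mul_eq_one_right hz
    rintro a (rfl | rfl | rfl | rfl)
    · left; simp
    · right; left; exact hgi
    · right; right; left; exact hzi
    · right; right; right; rw [mul_inv_rev, hgi, hzi, hc]

theorem mem_kleinSub {G : Type*} [Group G] (g z : G) (hg : g * g = 1) (hz : z * z = 1)
    (hc : z * g = g * z) (v : G) :
    v ∈ kleinSub g z hg hz hc ↔ v = 1 ∨ v = g ∨ v = z ∨ v = g * z := Iff.rfl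

theorem kleinSub_card {G : Type*} [Group G] (g z : G) (hg : g * g = 1) (hz : z * z = 1)
    (hc : z * g = g * z) (hg1 : g ≠ 1) (hz1 : z ≠ 1) (hgz : g ≠ z) :
    Nat.card (kleinSub g z hg hz hc) = 4 := by
  have hset : ((kleinSub g z hg hz hc : Subgroup G) : Set G) = {1, g, z, g * z} := by
    ext v
    simp only [Set.mem_insert_iff, Set.mem_singleton_iff]
    rfl
  have hgi : g⁻¹ = g := inv_eq_of_mul_eq_one_right hg
  have h2 : ({1, g, z, g * z} : Set G).ncard = 4 := by
    rw [Set.ncard_insert_of_notMem, Set.ncard_insert_of_notMem, Set.ncard_pair]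
    · intro h
      apply hg1
      have : g * z = 1 * z := by rw [one_mul]; exact h.symm
      exact mul_right_cancel this
    · simp only [Set.mem_insert_iff, Set.mem_singleton_iff, not_or]
      refine ⟨hgz, ?_⟩
      intro h
      apply hz1
      have : g * 1 = g * z := by rw [mul_one]; exact h
      exact (mul_left_cancel this).symm
    · simp only [Set.mem_insert_iff, Set.mem_singleton_iff, not_or]
      refine ⟨fun h => hg1 h.symm, fun h => hz1 h.symm, ?_⟩
      intro h
      apply hgz
      have h3 : g⁻¹ = z := by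
        rw [inv_eq_iff_mul_eq_one]
        exact h.symm
      rw [← h3, hgi]
  calc Nat.card (kleinSub g z hg hz hc)
      = ((kleinSub g z hg hz hc : Subgroup G) : Set G).ncard := Nat.card_coe_set_eq _
    _ = ({1, g, z, g * z} : Set G).ncard := by rw [hset]
    _ = 4 := h2

theorem kleinSub_isKleinFour {G : Type*} [Group G] (g z : G) (hg : g * g = 1) (hz : z * z = 1)
    (hc : z * g = g * z) (hg1 : g ≠ 1) (hz1 : z ≠ 1) (hgz : g ≠ z) :
    IsKleinFour (kleinSub g z hg hz hc) := by
  have hcard := kleinSub_card g z hg hz hc hg1 hz1 hgz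
  refine ⟨hcard, ?_⟩
  have hdvd : Monoid.exponent (kleinSub g z hg hz hc) ∣ 2 := by
    apply Monoid.exponent_dvd_of_forall_pow_eq_one
    intro v
    apply Subtype.ext
    rw [Subgroup.coe_pow, pow_two, Subgroup.coe_one]
    rcases (mem_kleinSub g z hg hz hc v.1).1 v.2 with h | h | h | h
    · rw [h, one_mul]
    · rw [h, hg]
    · rw [h, hz]
    · rw [h, mul_assoc, ← mul_assoc z g z, hc, mul_assoc, hz, mul_one, hg]
  rcases (Nat.dvd_prime Nat.prime_two).mp hdvd with h | h
  · exfalso
    rw [Monoid.exp_eq_one_iff] at h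
    have : Nat.card (kleinSub g z hg hz hc) = 1 := Nat.card_unique
    omega
  · exact h

theorem closure_pair_eq_kleinSub {G : Type*} [Group G] (g z : G) (hg : g * g = 1) (hz : z * z = 1)
    (hc : z * g = g * z) : Subgroup.closure {g, z} = kleinSub g z hg hz hc := by
  apply le_antisymm
  · rw [Subgroup.closure_le]
    intro v hv
    rcases hv with rfl | rfl
    · exact Or.inr (Or.inl rfl)
    · exact Or.inr (Or.inr (Or.inl rfl))
  · intro v hv
    have h1 : g ∈ Subgroup.closure {g, z} := Subgroup.subset_closure (by simp)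
    have h2 : z ∈ Subgroup.closure {g, z} := Subgroup.subset_closure (by simp)
    rcases (mem_kleinSub g z hg hz hc v).1 hv with rfl | rfl | rfl | rfl
    · exact Subgroup.one_mem _
    · exact h1
    · exact h2
    · exact Subgroup.mul_mem _ h1 h2

end Cfsg.Agent.helper12
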