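import Mathlib
import Cfsg.Agent.S3377
import Cfsg.Agent.Lib_helper12_Klein1
import Cfsg.Agent.Lib_helper11_L11D

set_option autoImplicit false
set_option linter.unusedSectionVars false
set_option linter.unusedSimpArgs false
set_option linter.unusedVariables false
set_option linter.style.haveILetI false
set_option maxHeartbeats 1000000

/-!
# Counting subgroups isomorphic to `A₅` through `(3,5,2)`-pairs

* `card_subA5_mul` : in a finite group, `#{(3,5,2)-pairs} = 120 · #{subgroups ≅ A₅}`.
* `two_classes` : `22` subgroups of order `60` in a simple group of order `660`, closed under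
  conjugation, form exactly two conjugacy classes.
-/

namespace Cfsg.Agent.helper11.L11

open scoped Pointwise

/-- the `(3,5,2)`-pairs of a group -/
abbrev SSg (K : Type*) [Group K] : Type _ :=
  {p : K × K // p.1 ^ 3 = 1 ∧ p.2 ^ 5 = 1 ∧ (p.1 * p.2) ^ 2 = 1 ∧ p.1 ≠ 1}

/-- transport of pairs along an isomorphism -/
def ssgCongr {K K' : Type*} [Group K] [Group K'] (ι : K ≃* K') : SSg K ≃ SSg K' where
  toFun p := ⟨(ι p.1.1, ι p.1.2), by
    obtain ⟨⟨a, b⟩, h1, h2, h3, h4⟩ := p
    have h1' : a ^ 3 = 1 := h1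
    have h2' : b ^ 5 = 1 := h2
    have h3' : (a * b) ^ 2 = 1 := h3
    have h4' : a ≠ 1 := h4
    refine ⟨?_, ?_, ?_, ?_⟩
    · show ι a ^ 3 = 1
      rw [← map_pow, h1', map_one]
    · show ι b ^ 5 = 1
      rw [← map_pow, h2', map_one]
    · show (ι a * ι b) ^ 2 = 1
      rw [← map_mul, ← map_pow, h3', map_one]
    · show ι a ≠ 1
      intro h
      exact h4' ((MulEquiv.map_eq_one_iff ι).mp h)⟩
  invFun p := ⟨(ι.symm p.1.1, ι.symm p.1.2), by
    obtain ⟨⟨a, b⟩, h1, h2, h3, h4⟩ := p
    have h1' : a ^ 3 = 1 := h1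
    have h2' : b ^ 5 = 1 := h2
    have h3' : (a * b) ^ 2 = 1 := h3
    have h4' : a ≠ 1 := h4
    refine ⟨?_, ?_, ?_, ?_⟩
    · show ι.symm a ^ 3 = 1
      rw [← map_pow, h1', map_one]
    · show ι.symm b ^ 5 = 1
      rw [← map_pow, h2', map_one]
    · show (ι.symm a * ι.symm b) ^ 2 = 1
      rw [← map_mul, ← map_pow, h3', map_one]
    · show ι.symm a ≠ 1
      intro h
      exact h4' ((MulEquiv.map_eq_one_iff ι.symm).mp h)⟩
  left_inv p := by
    apply Subtype.ext
    apply Prod.ext
    · show ι.symm (ι p.1.1) = p.1.1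
      exact ι.symm_apply_apply _
    · show ι.symm (ι p.1.2) = p.1.2
      exact ι.symm_apply_apply _
  right_inv p := by
    apply Subtype.ext
    apply Prod.ext
    · show ι (ι.symm p.1.1) = p.1.1
      exact ι.apply_symm_apply _
    · show ι (ι.symm p.1.2) = p.1.2
      exact ι.apply_symm_apply _

/-- a `(3,5,2)`-pair generates a copy of `A₅` -/
theorem exists_hom_of_pair {G : Type*} [Group G] (x y : G) (hx : x ^ 3 = 1) (hy : y ^ 5 = 1)
    (hxy : (x * y) ^ 2 = 1) (hx1 : x ≠ 1) :
    ∃ ψ : alternatingGroup (Fin 5) →* G, Function.Injective ψ ∧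
      ψ.range = Subgroup.closure {x, y} := by
  classical
  obtain ⟨e⟩ := Cfsg.Agent.S3377.result
  let f : Fin 2 → G := ![x, y]
  have hrel : ∀ r ∈ ({FreeGroup.of (0 : Fin 2) ^ 3, FreeGroup.of (1 : Fin 2) ^ 5,
        (FreeGroup.of (0 : Fin 2) * FreeGroup.of 1) ^ 2} : Set (FreeGroup (Fin 2))),
      FreeGroup.lift f r = 1 := by
    intro r hr
    rcases hr with rfl | rfl | rfl
    · rw [map_pow, FreeGroup.lift_apply_of]
      exact hx
    · rw [map_pow, FreeGroup.lift_apply_of]
      exact hy
    · rw [map_pow, map_mul, FreeGroup.lift_apply_of, FreeGroup.lift_apply_of]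
      exact hxy
  let φ := PresentedGroup.toGroup hrel
  let ψ : alternatingGroup (Fin 5) →* G := φ.comp e.symm.toMonoidHom
  have hφ0 : φ (PresentedGroup.of 0) = x := by
    show PresentedGroup.toGroup hrel (PresentedGroup.of 0) = x
    rw [PresentedGroup.toGroup.of]
    rfl
  have hφ1 : φ (PresentedGroup.of 1) = y := by
    show PresentedGroup.toGroup hrel (PresentedGroup.of 1) = y
    rw [PresentedGroup.toGroup.of]
    rfl
  have hψx : ψ (e (PresentedGroup.of 0)) = x := by
    show φ (e.symm (e (PresentedGroup.of 0))) = x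
    rw [MulEquiv.symm_apply_apply, hφ0]
  have : IsSimpleGroup (alternatingGroup (Fin 5)) := alternatingGroup.isSimpleGroup (by simp)
  have hker : ψ.ker = ⊥ := by
    rcases ψ.normal_ker.eq_bot_or_eq_top with h | h
    · exact h
    · exfalso
      apply hx1
      rw [← hψx, ← MonoidHom.mem_ker, h]
      trivial
  refine ⟨ψ, (MonoidHom.ker_eq_bot_iff ψ).mp hker, ?_⟩
  have hr1 : ψ.range = φ.range := by
    ext g
    constructor
    · rintro ⟨a, rfl⟩
      exact ⟨e.symm a, rfl⟩
    · rintro ⟨b, rfl⟩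
      refine ⟨e b, ?_⟩
      show φ (e.symm (e b)) = φ b
      rw [MulEquiv.symm_apply_apply]
  rw [hr1]
  apply le_antisymm
  · rw [MonoidHom.range_eq_map, ← PresentedGroup.closure_range_of, MonoidHom.map_closure,
      Subgroup.closure_le]
    rintro _ ⟨_, ⟨i, rfl⟩, rfl⟩
    apply Subgroup.subset_closure
    fin_cases i
    · left; exact hφ0
    · right; exact hφ1
  · rw [Subgroup.closure_le]
    rintro g (rfl | rfl)
    · exact ⟨PresentedGroup.of 0, hφ0⟩
    · exact ⟨PresentedGroup.of 1, hφ1⟩

theorem card_A5 : Nat.card (alternatingGroup (Fin 5)) = 60 := by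
  rw [nat_card_alternatingGroup, Nat.card_eq_fintype_card, Fintype.card_fin]
  rfl

theorem card_closure_pair {G : Type*} [Group G] (x y : G) (hx : x ^ 3 = 1) (hy : y ^ 5 = 1)
    (hxy : (x * y) ^ 2 = 1) (hx1 : x ≠ 1) :
    Nat.card (Subgroup.closure {x, y}) = 60 ∧
      Nonempty (Subgroup.closure {x, y} ≃* alternatingGroup (Fin 5)) := by
  obtain ⟨ψ, hψ, hr⟩ := exists_hom_of_pair x y hx hy hxy hx1
  rw [← hr]
  refine ⟨?_, ⟨(MonoidHom.ofInjective hψ).symm⟩⟩
  rw [← card_A5]
  exact (Nat.card_congr (MonoidHom.ofInjective hψ).toEquiv).symm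

theorem card_SSg_A5 : Nat.card (SSg (alternatingGroup (Fin 5))) = 120 := by
  rw [Nat.card_eq_fintype_card]
  exact card_SSg_A5_fintype

/-- the pairs generating a given subgroup `H` are the pairs of `H` -/
def pairsEquiv {G : Type*} [Group G] (H : Subgroup G) [Finite H] (h60 : Nat.card H = 60) :
    {p : SSg G // Subgroup.closure {p.1.1, p.1.2} = H} ≃ SSg H where
  toFun p := ⟨(⟨p.1.1.1, by
      have hm : p.1.1.1 ∈ Subgroup.closure {p.1.1.1, p.1.1.2} :=
        Subgroup.subset_closure (Set.mem_insert _ _)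
      rw [p.2] at hm
      exact hm⟩, ⟨p.1.1.2, by
      have hm : p.1.1.2 ∈ Subgroup.closure {p.1.1.1, p.1.1.2} :=
        Subgroup.subset_closure (Set.mem_insert_of_mem _ rfl)
      rw [p.2] at hm
      exact hm⟩), by
    obtain ⟨⟨⟨a, b⟩, h1, h2, h3, h4⟩, hc⟩ := p
    have h1' : a ^ 3 = 1 := h1
    have h2' : b ^ 5 = 1 := h2
    have h3' : (a * b) ^ 2 = 1 := h3
    have h4' : a ≠ 1 := h4
    refine ⟨?_, ?_, ?_, ?_⟩
    · apply Subtype.ext
      exact h1'
    · apply Subtype.ext
      exact h2'
    · apply Subtype.ext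
      exact h3'
    · intro h
      exact h4' (congrArg Subtype.val h)⟩
  invFun q := ⟨⟨(q.1.1.1, q.1.2.1), by
      obtain ⟨⟨a, b⟩, h1, h2, h3, h4⟩ := q
      have h1' : a ^ 3 = 1 := h1
      have h2' : b ^ 5 = 1 := h2
      have h3' : (a * b) ^ 2 = 1 := h3
      have h4' : a ≠ 1 := h4
      refine ⟨?_, ?_, ?_, ?_⟩
      · exact congrArg Subtype.val h1'
      · exact congrArg Subtype.val h2'
      · exact congrArg Subtype.val h3'
      · intro h
        exact h4' (Subtype.ext h)⟩, by
    obtain ⟨⟨a, b⟩, h1, h2, h3, h4⟩ := q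
    have h1' : a ^ 3 = 1 := h1
    have h2' : b ^ 5 = 1 := h2
    have h3' : (a * b) ^ 2 = 1 := h3
    have h4' : a ≠ 1 := h4
    show Subgroup.closure {(a : G), (b : G)} = H
    have hle : Subgroup.closure {(a : G), (b : G)} ≤ H := by
      rw [Subgroup.closure_le]
      rintro g (rfl | rfl)
      · exact a.2
      · exact b.2
    apply Subgroup.eq_of_le_of_card_ge hle
    rw [h60, (card_closure_pair (a : G) (b : G) (congrArg Subtype.val h1')
      (congrArg Subtype.val h2') (congrArg Subtype.val h3')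
      (fun h => h4' (Subtype.ext h))).1]⟩
  left_inv p := rfl
  right_inv q := rfl

/-- the number of `(3,5,2)`-pairs is `120` times the number of subgroups isomorphic to `A₅` -/
theorem card_subA5_mul {G : Type*} [Group G] [Finite G] :
    Nat.card (SSg G) =
      120 * Nat.card {H : Subgroup G // Nonempty (H ≃* alternatingGroup (Fin 5))} := by
  classical
  apply Cfsg.Agent.helper12.natCard_eq_mul_of_fibers
    (fun p : SSg G => (⟨Subgroup.closure {p.1.1, p.1.2},
      (card_closure_pair p.1.1 p.1.2 p.2.1 p.2.2.1 p.2.2.2.1 p.2.2.2.2).2⟩ :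
      {H : Subgroup G // Nonempty (H ≃* alternatingGroup (Fin 5))}))
  rintro ⟨H, ⟨ι⟩⟩
  have h60 : Nat.card H = 60 := by
    rw [← card_A5]
    exact Nat.card_congr ι.toEquiv
  rw [← card_SSg_A5, ← Nat.card_congr (ssgCongr ι), ← Nat.card_congr (pairsEquiv H h60)]
  apply Nat.card_congr
  refine Equiv.subtypeEquivRight ?_
  intro p
  constructor
  · intro h
    exact congrArg Subtype.val h
  · intro h
    exact Subtype.ext h

/-- `22` conjugation-stable subgroups of order `60` in a simple group of order `660` form two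
classes -/
theorem two_classes {G : Type*} [Group G] [Finite G] [IsSimpleGroup G] (hG : Nat.card G = 660)
    (P : Subgroup G → Prop) (hP60 : ∀ H, P H → Nat.card H = 60)
    (hPconj : ∀ (H : Subgroup G) (g : G), P H → P (MulAut.conj g • H))
    (h22 : Nat.card {H : Subgroup G // P H} = 22) :
    ∃ H K : Subgroup G, P H ∧ P K ∧ (∀ g : G, MulAut.conj g • H ≠ K) ∧
      ∀ L : Subgroup G, P L → ∃ g : G, MulAut.conj g • L = H ∨ MulAut.conj g • L = K := by
  classical
  letI act : MulAction G (Subgroup G) := MulAction.compHom _ (MulAut.conj (G := G))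
  have hsmul : ∀ (g : G) (H : Subgroup G), g • H = MulAut.conj g • H := fun g H => rfl
  -- orbits have eleven elements
  have horb : ∀ H, P H → (MulAction.orbit G H).ncard = 11 := by
    intro H hH
    have hstab : H ≤ MulAction.stabilizer G H := by
      intro h hh
      rw [MulAction.mem_stabilizer_iff, hsmul]
      exact Subgroup.conj_smul_eq_self_of_mem hh
    have h1 : Nat.card H ∣ Nat.card (MulAction.stabilizer G H) := Subgroup.card_dvd_of_le hstab
    have h2 : Nat.card (MulAction.stabilizer G H) ∣ Nat.card G :=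
      Subgroup.card_subgroup_dvd_card _
    rw [hP60 H hH] at h1
    rw [hG] at h2
    obtain ⟨k, hk⟩ := h1
    have hk11 : k ∣ 11 := by
      rw [hk] at h2
      exact Nat.dvd_of_mul_dvd_mul_left (by norm_num : 0 < 60) (by simpa using h2)
    have hk' : k = 1 ∨ k = 11 := (Nat.dvd_prime (by norm_num)).mp hk11
    have hidx := Subgroup.index_mul_card (MulAction.stabilizer G H)
    rw [hG, hk] at hidx
    have hcard_orb : (MulAction.orbit G H).ncard = (MulAction.stabilizer G H).index := by
      rw [← Nat.card_coe_set_eq]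
      exact Nat.card_congr (MulAction.orbitEquivQuotientStabilizer G H)
    rcases hk' with hk1 | hk1
    · rw [hcard_orb]
      rw [hk1] at hidx
      omega
    · exfalso
      have htop : MulAction.stabilizer G H = ⊤ := by
        apply Subgroup.eq_top_of_card_eq
        rw [hk, hk1, hG]
      have hnorm : H.Normal := by
        constructor
        intro n hn g
        have hg : g ∈ MulAction.stabilizer G H := by rw [htop]; trivial
        rw [MulAction.mem_stabilizer_iff, hsmul] at hg
        rw [← hg, Subgroup.mem_smul_pointwise_iff_exists]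
        exact ⟨n, hn, rfl⟩
      rcases hnorm.eq_bot_or_eq_top with h | h
      · have := hP60 H hH
        rw [h, Subgroup.card_bot] at this
        omega
      · have := hP60 H hH
        rw [h, Subgroup.card_top, hG] at this
        omega
  obtain ⟨A, hA⟩ : ∃ A : Set (Subgroup G), A = {H | P H} := ⟨_, rfl⟩
  have hAcard : A.ncard = 22 := by
    rw [← Nat.card_coe_set_eq, hA]
    exact h22
  have horbA : ∀ H, P H → MulAction.orbit G H ⊆ A := by
    rintro H hH _ ⟨g, rfl⟩
    rw [hA]
    exact hPconj H g hH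
  have hAne : A.Nonempty := by
    rw [← Set.ncard_pos, hAcard]
    norm_num
  obtain ⟨H, hHA⟩ := hAne
  have hH : P H := by rw [hA] at hHA; exact hHA
  obtain ⟨K, hKA, hKH⟩ := Set.exists_mem_notMem_of_ncard_lt_ncard
    (s := MulAction.orbit G H) (t := A) (by rw [horb H hH, hAcard]; norm_num)
  have hK : P K := by rw [hA] at hKA; exact hKA
  have hdisj : Disjoint (MulAction.orbit G H) (MulAction.orbit G K) := by
    rw [Set.disjoint_left]
    intro L hL1 hL2
    apply hKH
    rw [← MulAction.orbit_eq_iff] at hL1 hL2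
    rw [← hL1, hL2]
    exact MulAction.mem_orbit_self K
  have hun : MulAction.orbit G H ∪ MulAction.orbit G K = A := by
    apply Set.eq_of_subset_of_ncard_le (Set.union_subset (horbA H hH) (horbA K hK))
    rw [Set.ncard_union_eq hdisj, horb H hH, horb K hK, hAcard]
  refine ⟨H, K, hH, hK, ?_, ?_⟩
  · intro g hg
    apply hKH
    exact ⟨g, hg⟩
  · intro L hL
    have hLA : L ∈ A := by rw [hA]; exact hL
    rw [← hun] at hLA
    rcases hLA with ⟨g, hg⟩ | ⟨g, hg⟩
    · refine ⟨g⁻¹, Or.inl ?_⟩
      have hg' : g • H = L := hg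
      rw [← hg', ← hsmul, inv_smul_smul]
    · refine ⟨g⁻¹, Or.inr ?_⟩
      have hg' : g • K = L := hg
      rw [← hg', ← hsmul, inv_smul_smul]

end Cfsg.Agent.helper11.L11
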