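import Mathlib

set_option autoImplicit false

namespace Cfsg.Agent.helper11.L34

/-- a concrete model of the field with four elements: `0, 1, ω, ω + 1` -/
inductive F4 | z | o | w | v
deriving DecidableEq

namespace F4

instance : Fintype F4 := ⟨{z, o, w, v}, by intro x; cases x <;> decide⟩

def add : F4 → F4 → F4
  | z, x => x
  | x, z => x
  | o, o => z
  | o, w => v
  | o, v => w
  | w, o => v
  | w, w => z
  | w, v => o
  | v, o => w
  | v, w => o
  | v, v => z

def mul : F4 → F4 → F4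
  | z, _ => z
  | _, z => z
  | o, x => x
  | x, o => x
  | w, w => v
  | w, v => o
  | v, w => o
  | v, v => w

def inv : F4 → F4
  | z => z
  | o => o
  | w => v
  | v => w

instance : Zero F4 := ⟨z⟩
instance : One F4 := ⟨o⟩
instance : Add F4 := ⟨add⟩
instance : Mul F4 := ⟨mul⟩
instance : Neg F4 := ⟨id⟩
instance : Inv F4 := ⟨inv⟩

instance : CommRing F4 where
  add_assoc := by decide
  zero_add := by decide
  add_zero := by decide
  add_comm := by decide
  neg_add_cancel := by decide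
  mul_assoc := by decide
  one_mul := by decide
  mul_one := by decide
  mul_comm := by decide
  left_distrib := by decide
  right_distrib := by decide
  zero_mul := by decide
  mul_zero := by decide
  nsmul := nsmulRec
  zsmul := zsmulRec

instance : Field F4 where
  exists_pair_ne := ⟨z, o, by decide⟩
  mul_inv_cancel := by decide
  inv_zero := rfl
  nnqsmul := _
  qsmul := _

theorem card : Fintype.card F4 = 4 := rfl

end F4

/-- coefficients of `x ^ (k+1)` from those of `x ^ k`, modulo `x³ = a x² + b x + 1` -/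
def stp3 {R : Type*} [CommRing R] (a b : R) : R × R × R → R × R × R :=
  fun c => (a * c.1 + c.2.1, b * c.1 + c.2.2, c.1)

/-- coefficients of `x ^ k` modulo `x³ = a x² + b x + 1` -/
def pw3 {R : Type*} [CommRing R] (a b : R) (k : ℕ) : R × R × R := (stp3 a b)^[k] (0, 0, 1)

/-- coefficients of `x ^ (k+1)` from those of `x ^ k`, modulo `x² = c x + d` -/
def stp2 {R : Type*} [CommRing R] (c d : R) : R × R → R × R :=
  fun r => (c * r.1 + r.2, d * r.1)

/-- coefficients of `x ^ k` modulo `x² = c x + d` -/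
def pw2 {R : Type*} [CommRing R] (c d : R) (k : ℕ) : R × R := (stp2 c d)^[k] (0, 1)

theorem F4_cubic : ∀ a b : F4, (pw3 a b 15).1 = 0 → (pw3 a b 15).2.1 = 0 →
    ((pw3 a b 5).1 = 0 ∧ (pw3 a b 5).2.1 = 0) ∨ (a = 0 ∧ b = 0) := by decide

theorem F4_quad : ∀ c d : F4, (pw2 c d 15).1 = 0 → (pw2 c d 5).1 = 0 ∨ (pw2 c d 3).1 = 0 := by
  decide

theorem pw3_succ {R : Type*} [CommRing R] (a b : R) (k : ℕ) :
    pw3 a b (k + 1) = stp3 a b (pw3 a b k) :=
  Function.iterate_succ_apply' _ _ _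

theorem pw2_succ {R : Type*} [CommRing R] (c d : R) (k : ℕ) :
    pw2 c d (k + 1) = stp2 c d (pw2 c d k) :=
  Function.iterate_succ_apply' _ _ _

theorem pw3_map {R S : Type*} [CommRing R] [CommRing S] (e : R →+* S) (a b : R) (k : ℕ) :
    pw3 (e a) (e b) k = (e (pw3 a b k).1, e (pw3 a b k).2.1, e (pw3 a b k).2.2) := by
  induction k with
  | zero => simp [pw3]
  | succ k ih => rw [pw3_succ, pw3_succ, ih]; simp [stp3]

theorem pw2_map {R S : Type*} [CommRing R] [CommRing S] (e : R →+* S) (c d : R) (k : ℕ) :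
    pw2 (e c) (e d) k = (e (pw2 c d k).1, e (pw2 c d k).2) := by
  induction k with
  | zero => simp [pw2]
  | succ k ih => rw [pw2_succ, pw2_succ, ih]; simp [stp2]

theorem cubic_of_card4 {F : Type*} [Field F] [Fintype F] (hF : Fintype.card F = 4) (a b : F)
    (h1 : (pw3 a b 15).1 = 0) (h2 : (pw3 a b 15).2.1 = 0) :
    ((pw3 a b 5).1 = 0 ∧ (pw3 a b 5).2.1 = 0) ∨ (a = 0 ∧ b = 0) := by
  obtain ⟨e⟩ : Nonempty (F ≃+* F4) := ⟨FiniteField.ringEquivOfCardEq (by rw [hF, F4.card])⟩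
  have key := F4_cubic (e a) (e b)
  have hm := fun k => pw3_map (e : F →+* F4) a b k
  simp only [RingEquiv.coe_toRingHom] at hm
  rw [hm 15, hm 5] at key
  simp only [EmbeddingLike.map_eq_zero_iff] at key
  exact key h1 h2

theorem quad_of_card4 {F : Type*} [Field F] [Fintype F] (hF : Fintype.card F = 4) (c d : F)
    (h1 : (pw2 c d 15).1 = 0) : (pw2 c d 5).1 = 0 ∨ (pw2 c d 3).1 = 0 := by
  obtain ⟨e⟩ : Nonempty (F ≃+* F4) := ⟨FiniteField.ringEquivOfCardEq (by rw [hF, F4.card])⟩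
  have key := F4_quad (e c) (e d)
  have hm := fun k => pw2_map (e : F →+* F4) c d k
  simp only [RingEquiv.coe_toRingHom] at hm
  rw [hm 15, hm 5, hm 3] at key
  simp only [EmbeddingLike.map_eq_zero_iff] at key
  exact key h1

/-- Cayley–Hamilton for 3 × 3 matrices, explicitly -/
theorem cayley3 {R : Type*} [CommRing R] (A : Matrix (Fin 3) (Fin 3) R) :
    A ^ 3 = A.trace • A ^ 2 + (-(A 0 0 * A 1 1 - A 0 1 * A 1 0 + (A 0 0 * A 2 2 - A 0 2 * A 2 0)
      + (A 1 1 * A 2 2 - A 1 2 * A 2 1))) • A + A.det • 1 := by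
  ext i j
  fin_cases i <;> fin_cases j <;>
    simp [pow_succ, Matrix.mul_apply, Fin.sum_univ_three, Matrix.trace, Matrix.det_fin_three] <;>
    ring

theorem pow_eq_pw3 {R : Type*} [CommRing R] (A : Matrix (Fin 3) (Fin 3) R) (a b : R)
    (h : A ^ 3 = a • A ^ 2 + b • A + 1) (k : ℕ) :
    A ^ k = (pw3 a b k).1 • A ^ 2 + (pw3 a b k).2.1 • A + (pw3 a b k).2.2 • 1 := by
  induction k with
  | zero => simp [pw3]
  | succ k ih =>
    have h3 : A ^ 2 * A = a • A ^ 2 + b • A + 1 := by rw [← pow_succ]; exact h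
    have h2 : A * A = A ^ 2 := (sq A).symm
    rw [pow_succ, ih, pw3_succ]
    simp only [stp3]
    rw [add_mul, add_mul, smul_mul_assoc, smul_mul_assoc, smul_mul_assoc, one_mul, h3, h2]
    module

theorem pow_eq_pw2 {R : Type*} [CommRing R] (A : Matrix (Fin 3) (Fin 3) R) (c d : R)
    (h : A ^ 2 = c • A + d • 1) (k : ℕ) :
    A ^ k = (pw2 c d k).1 • A + (pw2 c d k).2 • 1 := by
  induction k with
  | zero => simp [pw2]
  | succ k ih =>
    have h2 : A * A = c • A + d • 1 := by rw [← sq]; exact h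
    rw [pow_succ, ih, pw2_succ]
    simp only [stp2]
    rw [add_mul, smul_mul_assoc, smul_mul_assoc, one_mul, h2]
    module

theorem scalar_of_smul_add {F : Type*} [Field F] (A : Matrix (Fin 3) (Fin 3) F) (r s l : F)
    (hr : r ≠ 0) (h : l • (1 : Matrix (Fin 3) (Fin 3) F) = r • A + s • 1) :
    A = (r⁻¹ * (l - s)) • 1 := by
  have h1 : r • A = (l - s) • 1 := by rw [sub_smul, h]; abel
  rw [mul_smul, ← h1, smul_smul, inv_mul_cancel₀ hr, one_smul]

/-- a `3 × 3` matrix of determinant one over the field with four elements whose fifteenth power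
is scalar has a scalar fifth power or a scalar cube -/
theorem scalar_pow_of_pow15 {F : Type*} [Field F] [Fintype F] (hF : Fintype.card F = 4)
    (A : Matrix (Fin 3) (Fin 3) F) (hdet : A.det = 1) (l : F) (h15 : A ^ 15 = l • 1) :
    (∃ m : F, A ^ 5 = m • 1) ∨ (∃ m : F, A ^ 3 = m • 1) := by
  obtain ⟨a, b, hab⟩ : ∃ a b : F, A ^ 3 = a • A ^ 2 + b • A + 1 :=
    ⟨_, _, by rw [cayley3 A, hdet, one_smul]⟩
  have hp := pow_eq_pw3 A a b hab
  by_cases hB : (pw3 a b 15).1 = 0 ∧ (pw3 a b 15).2.1 = 0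
  · rcases cubic_of_card4 hF a b hB.1 hB.2 with h5 | h0
    · left
      refine ⟨(pw3 a b 5).2.2, ?_⟩
      rw [hp 5, h5.1, h5.2]; simp
    · right
      refine ⟨1, ?_⟩
      rw [hab, h0.1, h0.2]; simp
  · have h15' := hp 15
    rw [h15] at h15'
    by_cases hc2 : (pw3 a b 15).1 = 0
    · have hc1 : (pw3 a b 15).2.1 ≠ 0 := fun h => hB ⟨hc2, h⟩
      rw [hc2, zero_smul, zero_add] at h15'
      have hA := scalar_of_smul_add A _ _ l hc1 h15'
      right
      refine ⟨(((pw3 a b 15).2.1)⁻¹ * (l - (pw3 a b 15).2.2)) ^ 3, ?_⟩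
      rw [hA, smul_pow, one_pow]
    · obtain ⟨c₂, hc₂⟩ : ∃ x, x = (pw3 a b 15).1 := ⟨_, rfl⟩
      obtain ⟨c₁, hc₁⟩ : ∃ x, x = (pw3 a b 15).2.1 := ⟨_, rfl⟩
      obtain ⟨c₀, hc₀⟩ : ∃ x, x = (pw3 a b 15).2.2 := ⟨_, rfl⟩
      rw [← hc₂] at hc2
      rw [← hc₂, ← hc₁, ← hc₀] at h15'
      obtain ⟨c, d, hcd⟩ : ∃ c d : F, A ^ 2 = c • A + d • 1 := by
        refine ⟨-(c₂⁻¹ * c₁), c₂⁻¹ * (l - c₀), ?_⟩
        have h1 : c₂ • A ^ 2 = (l - c₀) • 1 - c₁ • A := by rw [sub_smul, h15']; abel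
        calc A ^ 2 = c₂⁻¹ • (c₂ • A ^ 2) := by rw [smul_smul, inv_mul_cancel₀ hc2, one_smul]
          _ = _ := by rw [h1]; module
      have hq := pow_eq_pw2 A c d hcd
      by_cases hr : (pw2 c d 15).1 = 0
      · rcases quad_of_card4 hF c d hr with h5 | h3
        · left
          exact ⟨(pw2 c d 5).2, by rw [hq 5, h5]; simp⟩
        · right
          exact ⟨(pw2 c d 3).2, by rw [hq 3, h3]; simp⟩
      · have h15'' := hq 15
        rw [h15] at h15''
        have hA := scalar_of_smul_add A _ _ l hr h15''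
        right
        refine ⟨(((pw2 c d 15).1)⁻¹ * (l - (pw2 c d 15).2)) ^ 3, ?_⟩
        rw [hA, smul_pow, one_pow]

/-- No element of `PSL₃(4)` has order 15. -/
theorem no_order_15 {F : Type*} [Field F] [Fintype F] (hF : Fintype.card F = 4)
    (g : Matrix.ProjectiveSpecialLinearGroup (Fin 3) F) : orderOf g ≠ 15 := by
  intro h
  obtain ⟨G, rfl⟩ := QuotientGroup.mk_surjective g
  have h15 : G ^ 15 ∈ Subgroup.center (Matrix.SpecialLinearGroup (Fin 3) F) := by
    rw [← QuotientGroup.eq_one_iff, QuotientGroup.mk_pow, ← h, pow_orderOf_eq_one]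
  obtain ⟨l, -, hl⟩ := Matrix.SpecialLinearGroup.mem_center_iff.mp h15
  have hmat : (G : Matrix (Fin 3) (Fin 3) F) ^ 15 = l • 1 := by
    rw [← Matrix.SpecialLinearGroup.coe_pow, ← hl, Matrix.scalar_apply,
      Matrix.smul_one_eq_diagonal]
  have hcen : ∀ k : ℕ, (∃ m : F, (G : Matrix (Fin 3) (Fin 3) F) ^ k = m • 1) →
      (QuotientGroup.mk G : Matrix.ProjectiveSpecialLinearGroup (Fin 3) F) ^ k = 1 := by
    rintro k ⟨m, hm⟩
    rw [← QuotientGroup.mk_pow, QuotientGroup.eq_one_iff,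
      Matrix.SpecialLinearGroup.mem_center_iff]
    refine ⟨m, ?_, ?_⟩
    · have hd : (G ^ k : Matrix.SpecialLinearGroup (Fin 3) F).1.det = 1 := (G ^ k).2
      rw [Matrix.SpecialLinearGroup.coe_pow, hm, Matrix.det_smul, Matrix.det_one, mul_one] at hd
      simpa using hd
    · rw [Matrix.SpecialLinearGroup.coe_pow, hm, Matrix.scalar_apply,
        Matrix.smul_one_eq_diagonal]
  rcases scalar_pow_of_pow15 hF G.1 G.2 l hmat with h5 | h3
  · have := orderOf_dvd_of_pow_eq_one (hcen 5 h5)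
    rw [h] at this
    omega
  · have := orderOf_dvd_of_pow_eq_one (hcen 3 h3)
    rw [h] at this
    omega

end Cfsg.Agent.helper11.L34
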