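import Mathlib

set_option autoImplicit false

namespace Cfsg.Agent.helper11.NilpInv

/-- A finite nilpotent group of even order has a central involution. -/
theorem exists_central_involution {H : Type*} [Group H] [Finite H] [Group.IsNilpotent H]
    (h2 : 2 ∣ Nat.card H) :
    ∃ z : H, z ≠ 1 ∧ z * z = 1 ∧ ∀ x : H, z * x = x * z := by
  classical
  haveI : Fact (Nat.Prime 2) := ⟨Nat.prime_two⟩
  obtain ⟨S⟩ : Nonempty (Sylow 2 H) := inferInstance
  have hSn : (S : Subgroup H).Normal := inferInstance
  have hSne : (S : Subgroup H) ≠ ⊥ := Sylow.ne_bot_of_dvd_card S h2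
  haveI : Nontrivial ↥(S : Subgroup H) := (Subgroup.nontrivial_iff_ne_bot _).mpr hSne
  have hP : IsPGroup 2 ↥(S : Subgroup H) := S.isPGroup'
  have hZ := hP.bot_lt_center
  have hZP : IsPGroup 2 ↥(Subgroup.center ↥(S : Subgroup H)) := hP.to_subgroup _
  have hZcard : 2 ∣ Nat.card ↥(Subgroup.center ↥(S : Subgroup H)) := by
    rcases hZP.card_eq_or_dvd with h | h
    · exfalso
      have := (Subgroup.card_eq_one).mp h
      exact (ne_of_gt hZ) this
    · exact h
  obtain ⟨z', hz'⟩ := exists_prime_orderOf_dvd_card' (G := ↥(Subgroup.center ↥(S : Subgroup H))) 2 hZcard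
  obtain ⟨z, hz⟩ : ∃ z : H, z = ((z' : ↥(S : Subgroup H)) : H) := ⟨_, rfl⟩
  have hzo : orderOf z = 2 := by
    rw [hz, Subgroup.orderOf_coe, Subgroup.orderOf_coe, hz']
  have hz1 : z ≠ 1 := by
    intro h
    rw [h, orderOf_one] at hzo
    omega
  have hz2 : z * z = 1 := by
    have := pow_orderOf_eq_one z
    rwa [hzo, pow_two] at this
  have hzS : ∀ x ∈ (S : Subgroup H), x * z = z * x := by
    intro x hx
    have h1 := Subgroup.mem_center_iff.mp z'.2 ⟨x, hx⟩
    have h2 := congrArg (Subtype.val : ↥(S : Subgroup H) → H) h1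
    rw [hz]
    exact h2
  have hzmem : z ∈ (S : Subgroup H) := by rw [hz]; exact (z' : ↥(S : Subgroup H)).2
  refine ⟨z, hz1, hz2, ?_⟩
  -- the centraliser of z has index one
  have hC : (Subgroup.centralizer {z} : Subgroup H).index = 1 := by
    rw [Nat.eq_one_iff_not_exists_prime_dvd]
    intro r hr hdvd
    haveI : Fact (Nat.Prime r) := ⟨hr⟩
    by_cases h2r : r = 2
    · subst h2r
      have hle : (S : Subgroup H) ≤ Subgroup.centralizer {z} := by
        intro x hx
        rw [Subgroup.mem_centralizer_iff]
        intro y hy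
        rw [Set.mem_singleton_iff.mp hy]
        exact (hzS x hx).symm
      have := Subgroup.index_dvd_of_le hle
      exact S.not_dvd_index (dvd_trans hdvd this)
    · obtain ⟨R⟩ : Nonempty (Sylow r H) := inferInstance
      have hRn : (R : Subgroup H).Normal := inferInstance
      have hdisj : Disjoint (R : Subgroup H) (S : Subgroup H) :=
        IsPGroup.disjoint_of_ne r 2 h2r _ _ R.isPGroup' S.isPGroup'
      have hle : (R : Subgroup H) ≤ Subgroup.centralizer {z} := by
        intro x hx
        rw [Subgroup.mem_centralizer_iff]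
        intro y hy
        rw [Set.mem_singleton_iff.mp hy]
        exact ((Subgroup.commute_of_normal_of_disjoint _ _ hRn hSn hdisj x z hx hzmem).eq).symm
      have := Subgroup.index_dvd_of_le hle
      exact R.not_dvd_index (dvd_trans hdvd this)
  intro x
  have hx : x ∈ Subgroup.centralizer {z} := by
    rw [Subgroup.index_eq_one.mp hC]; trivial
  exact (Subgroup.mem_centralizer_iff.mp hx z rfl)

end Cfsg.Agent.helper11.NilpInv
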