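import Mathlib
import Cfsg.Agent.Lib_helper5_Sylow

set_option autoImplicit false

namespace Cfsg.Agent.helper5

/-- In a non-abelian simple group, no nontrivial Sylow subgroup satisfies Burnside's hypothesis
`N(P) ≤ C(P)`. -/
theorem burnside_simple {G : Type*} [Group G] [Finite G] [IsSimpleGroup G]
    (hG : ∃ a b : G, a * b ≠ b * a) {p : ℕ} [Fact p.Prime] (P : Sylow p G)
    (hP1 : (P : Subgroup G) ≠ ⊥) :
    ¬ Subgroup.normalizer ((P : Subgroup G) : Set G) ≤ Subgroup.centralizer ((P : Subgroup G) : Set G) := by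
  intro hNC
  have hcompl := MonoidHom.ker_transferSylow_isComplement' P hNC
  have hnormal : (MonoidHom.transferSylow P hNC).ker.Normal := MonoidHom.normal_ker _
  rcases hnormal.eq_bot_or_eq_top with h | h
  · -- P = ⊤, so G is abelian
    rw [h] at hcompl
    have hPtop : (P : Subgroup G) = ⊤ := Subgroup.isComplement'_bot_left.mp hcompl
    obtain ⟨a, b, hab⟩ := hG
    apply hab
    have ha : a ∈ (P : Subgroup G) := hPtop ▸ Subgroup.mem_top a
    have hb : b ∈ (P : Subgroup G) := hPtop ▸ Subgroup.mem_top b
    have := hNC (Subgroup.le_normalizer hb)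
    exact (Subgroup.mem_centralizer_iff.mp this a ha)
  · rw [h] at hcompl
    exact hP1 (Subgroup.isComplement'_top_left.mp hcompl)

theorem nonabelian_of_not_isMulCommutative {G : Type*} [Group G] (hG : ¬ IsMulCommutative G) :
    ∃ a b : G, a * b ≠ b * a := by
  by_contra h
  push Not at h
  exact hG ⟨⟨h⟩⟩

/-- A Sylow subgroup is nontrivial when the prime divides the order. -/
theorem sylow_ne_bot {G : Type*} [Group G] [Finite G] {p : ℕ} [Fact p.Prime] (P : Sylow p G)
    (h : p ∣ Nat.card G) : (P : Subgroup G) ≠ ⊥ :=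
  Sylow.ne_bot_of_dvd_card P h

/-- A finite simple group whose order is not prime is non-abelian. -/
theorem nonabelian_of_card_not_prime {G : Type*} [Group G] [Finite G] [IsSimpleGroup G]
    (h : ¬ (Nat.card G).Prime) : ∃ a b : G, a * b ≠ b * a := by
  by_contra hcon
  push Not at hcon
  let inst : CommGroup G := { ‹Group G› with mul_comm := hcon }
  exact h (@IsSimpleGroup.prime_card G inst ‹_›)

/-- Order of a Sylow subgroup and its index from a factorization of the group order. -/
theorem sylow_card_of_card_eq {G : Type*} [Group G] [Finite G] {p : ℕ} [Fact p.Prime]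
    (P : Sylow p G) (k m : ℕ) (hG : Nat.card G = p ^ k * m) (hm : ¬ p ∣ m) :
    Nat.card P = p ^ k ∧ (P : Subgroup G).index = m := by
  have hp : p.Prime := Fact.out
  have hm0 : m ≠ 0 := fun h => hm (h ▸ dvd_zero p)
  have hfac : (Nat.card G).factorization p = k := by
    rw [hG, Nat.factorization_mul (pow_pos hp.pos k).ne' hm0, Nat.Prime.factorization_pow hp]
    simp [Nat.factorization_eq_zero_of_not_dvd hm]
  have h1 : Nat.card P = p ^ k := by rw [P.card_eq_multiplicity, hfac]
  refine ⟨h1, ?_⟩
  have h2 := (P : Subgroup G).card_mul_index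
  rw [h1, hG] at h2
  exact Nat.eq_of_mul_eq_mul_left (pow_pos hp.pos k) h2

/-- Basic numerical facts on the number of Sylow subgroups. -/
theorem sylow_count_facts {G : Type*} [Group G] [Finite G] {p : ℕ} [Fact p.Prime]
    (P : Sylow p G) :
    Nat.card (Sylow p G) % p = 1 ∧ Nat.card (Sylow p G) ∣ (P : Subgroup G).index ∧
      Nat.card (Sylow p G) * Nat.card (Subgroup.normalizer ((P : Subgroup G) : Set G)) =
        Nat.card G := by
  have hp : p.Prime := Fact.out
  refine ⟨?_, P.card_dvd_index, ?_⟩
  · have := card_sylow_modEq_one p G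
    rw [Nat.ModEq, Nat.mod_eq_of_lt hp.one_lt] at this
    exact this
  · rw [P.card_eq_index_normalizer, mul_comm]
    exact Subgroup.card_mul_index _

/-- In a simple group, a nontrivial proper Sylow subgroup is not unique. -/
theorem sylow_count_ne_one {G : Type*} [Group G] [Finite G] [IsSimpleGroup G] {p : ℕ}
    [Fact p.Prime] (P : Sylow p G) (h1 : (P : Subgroup G) ≠ ⊥) (h2 : (P : Subgroup G) ≠ ⊤) :
    Nat.card (Sylow p G) ≠ 1 := by
  intro h
  rw [P.card_eq_index_normalizer, Subgroup.index_eq_one] at h
  have hn : (P : Subgroup G).Normal := Subgroup.normalizer_eq_top_iff.mp h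
  rcases hn.eq_bot_or_eq_top with h' | h'
  · exact h1 h'
  · exact h2 h'

/-- The automizer index `|N(P) : C(P)|` of a cyclic Sylow subgroup in a non-abelian simple group:
it is not `1`, divides `φ(|P|)`, and times the number of Sylow subgroups divides the index. -/
theorem automizer_facts {G : Type*} [Group G] [Finite G] [IsSimpleGroup G]
    (hG : ∃ a b : G, a * b ≠ b * a) {p : ℕ} [Fact p.Prime] (P : Sylow p G)
    (hP1 : (P : Subgroup G) ≠ ⊥) (hcyc : IsCyclic (P : Subgroup G)) :
    ∃ r : ℕ, r = (Subgroup.centralizer ((P : Subgroup G) : Set G)).relIndex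
        (Subgroup.normalizer ((P : Subgroup G) : Set G)) ∧ r ≠ 1 ∧
      r ∣ Nat.totient (Nat.card P) ∧ r * Nat.card (Sylow p G) ∣ (P : Subgroup G).index := by
  refine ⟨_, rfl, ?_, ?_, ?_⟩
  · intro h
    exact burnside_simple hG P hP1 (Subgroup.relIndex_eq_one.mp h)
  · have key := Subgroup.card_dvd_of_injective _
      (QuotientGroup.kerLift_injective (P : Subgroup G).normalizerMonoidHom)
    rw [Subgroup.normalizerMonoidHom_ker, ← Subgroup.index, ← Subgroup.relIndex] at key
    rwa [IsCyclic.card_mulAut] at key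
  · have hPC : (P : Subgroup G) ≤ Subgroup.centralizer ((P : Subgroup G) : Set G) := by
      intro a ha
      rw [Subgroup.mem_centralizer_iff]
      intro b hb
      obtain ⟨g, hg⟩ := hcyc.exists_generator
      obtain ⟨i, hi⟩ := Subgroup.mem_zpowers_iff.mp (hg ⟨a, ha⟩)
      obtain ⟨j, hj⟩ := Subgroup.mem_zpowers_iff.mp (hg ⟨b, hb⟩)
      have ha' : a = ((g ^ i : (P : Subgroup G)) : G) := by rw [hi]
      have hb' : b = ((g ^ j : (P : Subgroup G)) : G) := by rw [hj]
      rw [ha', hb', ← Subgroup.coe_mul, ← Subgroup.coe_mul, ← zpow_add, ← zpow_add, add_comm]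
    have h1 : (Subgroup.centralizer ((P : Subgroup G) : Set G)).relIndex
        (Subgroup.normalizer ((P : Subgroup G) : Set G)) ∣
        (P : Subgroup G).relIndex (Subgroup.normalizer ((P : Subgroup G) : Set G)) :=
      Subgroup.relIndex_dvd_of_le_left _ hPC
    have h2 : (P : Subgroup G).relIndex (Subgroup.normalizer ((P : Subgroup G) : Set G)) *
        (Subgroup.normalizer ((P : Subgroup G) : Set G)).index = (P : Subgroup G).index :=
      Subgroup.relIndex_mul_index Subgroup.le_normalizer
    rw [P.card_eq_index_normalizer, ← h2]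
    exact Nat.mul_dvd_mul_right h1 _

end Cfsg.Agent.helper5
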