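import Mathlib
import Cfsg.Agent.Lib_helper5_Simple

set_option autoImplicit false

/-!
# Simple groups of order 504, part a: general lemmas

* `card_dvd_factorial_index` : a simple group embeds in the symmetric group on the cosets of any
  proper subgroup;
* `exists_injective_alternating` : and in fact in the alternating group;
* `eight_le_index` : proper subgroups of a simple group of order 504 have index at least 8;
* `centralizer_le_of_card_sylow` : if a Sylow `p`-subgroup `P` of prime order has exactly `p + 1`
  conjugates in a simple group, then `C(P) = P`.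
-/

namespace Cfsg.Agent.helper11.O504

open MulAction

variable {G : Type*} [Group G]

theorem card_dvd_factorial_index [Finite G] [IsSimpleGroup G] (H : Subgroup G) (hH : H ≠ ⊤) :
    Nat.card G ∣ Nat.factorial H.index := by
  classical
  let θ := MulAction.toPermHom G (G ⧸ H)
  have hθker : θ.ker = ⊥ := by
    rcases θ.normal_ker.eq_bot_or_eq_top with h | h
    · exact h
    · exfalso
      apply hH
      rw [eq_top_iff, ← h, ← Subgroup.normalCore_eq_ker]
      exact Subgroup.normalCore_le H
  have hθinj : Function.Injective θ := (MonoidHom.ker_eq_bot_iff θ).mp hθker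
  have hdvd := Subgroup.card_dvd_of_injective θ hθinj
  rw [Nat.card_perm] at hdvd
  exact hdvd

theorem exists_injective_alternating [Finite G] [IsSimpleGroup G] (h2 : 2 < Nat.card G)
    (H : Subgroup G) (hHtop : H ≠ ⊤) (n : ℕ) (hH : H.index = n) :
    ∃ f : G →* alternatingGroup (Fin n), Function.Injective f := by
  classical
  have hn0 : n ≠ 0 := by
    rintro rfl
    exact Subgroup.index_ne_zero_of_finite hH
  let θ := MulAction.toPermHom G (G ⧸ H)
  have hθker : θ.ker = ⊥ := by
    rcases θ.normal_ker.eq_bot_or_eq_top with h | h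
    · exact h
    · exfalso
      apply hHtop
      rw [eq_top_iff, ← h, ← Subgroup.normalCore_eq_ker]
      exact Subgroup.normalCore_le H
  have hθinj : Function.Injective θ := (MonoidHom.ker_eq_bot_iff θ).mp hθker
  have hcardq : Nat.card (G ⧸ H) = n := by rw [← Subgroup.index_eq_card, hH]
  have : Finite (G ⧸ H) := Nat.finite_of_card_ne_zero (by rw [hcardq]; exact hn0)
  let e6 : (G ⧸ H) ≃ Fin n := Finite.equivFinOfCardEq hcardq
  let θ' : G →* Equiv.Perm (Fin n) := (e6.permCongrHom.toMonoidHom).comp θ
  have hθ'inj : Function.Injective θ' := by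
    intro a b hab
    apply hθinj
    exact e6.permCongrHom.injective hab
  let s : G →* ℤˣ := Equiv.Perm.sign.comp θ'
  have hsker : s.ker = ⊤ := by
    rcases s.normal_ker.eq_bot_or_eq_top with h | h
    · exfalso
      have hsinj : Function.Injective s := (MonoidHom.ker_eq_bot_iff s).mp h
      have := Nat.card_le_card_of_injective s hsinj
      rw [Nat.card_eq_fintype_card (α := ℤˣ), Fintype.card_units_int] at this
      omega
    · exact h
  have hmem : ∀ g : G, θ' g ∈ alternatingGroup (Fin n) := by
    intro g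
    rw [Equiv.Perm.mem_alternatingGroup]
    have : g ∈ s.ker := by rw [hsker]; trivial
    exact this
  let θ'' : G →* alternatingGroup (Fin n) := θ'.codRestrict _ hmem
  have hθ''inj : Function.Injective θ'' := by
    intro a b hab
    apply hθ'inj
    exact congrArg Subtype.val hab
  exact ⟨θ'', hθ''inj⟩

theorem eight_le_index [Finite G] [IsSimpleGroup G] (h : Nat.card G = 504) (H : Subgroup G)
    (hH : H ≠ ⊤) : 8 ≤ H.index := by
  classical
  by_contra hlt
  push Not at hlt
  have h0 : H.index ≠ 0 := Subgroup.index_ne_zero_of_finite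
  have hdvd := card_dvd_factorial_index H hH
  rw [h] at hdvd
  obtain ⟨m, hm⟩ : ∃ m, H.index = m := ⟨_, rfl⟩
  rw [hm] at hlt h0 hdvd
  interval_cases m
  · exact h0 rfl
  · norm_num [Nat.factorial] at hdvd
  · norm_num [Nat.factorial] at hdvd
  · norm_num [Nat.factorial] at hdvd
  · norm_num [Nat.factorial] at hdvd
  · norm_num [Nat.factorial] at hdvd
  · norm_num [Nat.factorial] at hdvd
  · -- index 7: embed in A₇
    obtain ⟨f, hf⟩ := exists_injective_alternating (by rw [h]; norm_num) H hH 7 hm
    have hcardA7 : Nat.card (alternatingGroup (Fin 7)) = 2520 := by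
      rw [nat_card_alternatingGroup, Nat.card_eq_fintype_card, Fintype.card_fin]
      rfl
    have hR : Nat.card f.range = 504 := by
      rw [← h]
      exact (Nat.card_congr (MonoidHom.ofInjective hf).toEquiv).symm
    have hidx : f.range.index = 5 := by
      have := Subgroup.card_mul_index f.range
      rw [hR, hcardA7] at this
      omega
    have hne : f.range ≠ ⊤ := by
      intro h'
      rw [h', Subgroup.index_top] at hidx
      omega
    haveI : IsSimpleGroup (alternatingGroup (Fin 7)) := alternatingGroup.isSimpleGroup (by simp)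
    have := card_dvd_factorial_index f.range hne
    rw [hcardA7, hidx] at this
    norm_num [Nat.factorial] at this

theorem eq_top_of_le_card [Finite G] [IsSimpleGroup G] (h : Nat.card G = 504) (H : Subgroup G)
    (hc : 64 ≤ Nat.card H) : H = ⊤ := by
  by_contra hH
  have h8 := eight_le_index h H hH
  have := Subgroup.card_mul_index H
  rw [h] at this
  nlinarith

/-- If a Sylow `p`-subgroup `P` of prime order `p` of a simple group has exactly `p + 1`
conjugates, it is self-centralizing. -/
theorem centralizer_le_of_card_sylow [Finite G] [IsSimpleGroup G] {p : ℕ} [Fact p.Prime]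
    (P : Sylow p G) (hP : Nat.card P = p) (hn : Nat.card (Sylow p G) = p + 1) :
    Subgroup.centralizer ((P : Subgroup G) : Set G) ≤ P := by
  classical
  have hp : p.Prime := Fact.out
  haveI : Fintype (Sylow p G) := Fintype.ofFinite _
  -- P is commutative
  haveI : IsCyclic ↥(P : Subgroup G) := isCyclic_of_prime_card hP
  have hcomm : ∀ a b : G, a ∈ (P : Subgroup G) → b ∈ (P : Subgroup G) → a * b = b * a := by
    intro a b ha hb
    obtain ⟨g, hg⟩ := IsCyclic.exists_generator (α := ↥(P : Subgroup G))
    obtain ⟨i, hi⟩ := Subgroup.mem_zpowers_iff.mp (hg ⟨a, ha⟩)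
    obtain ⟨j, hj⟩ := Subgroup.mem_zpowers_iff.mp (hg ⟨b, hb⟩)
    have ha' : a = ((g ^ i : ↥(P : Subgroup G)) : G) := by rw [hi]
    have hb' : b = ((g ^ j : ↥(P : Subgroup G)) : G) := by rw [hj]
    rw [ha', hb', ← Subgroup.coe_mul, ← Subgroup.coe_mul, ← zpow_add, ← zpow_add, add_comm]
  -- another Sylow subgroup
  obtain ⟨Q₀, hQ₀⟩ : ∃ Q₀ : Sylow p G, Q₀ ≠ P := by
    haveI : Nontrivial (Sylow p G) := by
      rw [← Finite.one_lt_card_iff_nontrivial, hn]
      have := hp.two_le
      omega
    exact exists_ne P
  -- the stabilizer of `Q₀` in `P` is trivial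
  have hstab : ∀ g : G, g ∈ (P : Subgroup G) → g • Q₀ = Q₀ → g = 1 := by
    intro g hg hfix
    have h1 : g ∈ (P : Subgroup G) ⊓ (Q₀ : Subgroup G) := by
      rw [← IsPGroup.inf_normalizer_sylow P.2 Q₀]
      exact ⟨hg, Sylow.smul_eq_iff_mem_normalizer.mp hfix⟩
    have hle : (P : Subgroup G) ⊓ (Q₀ : Subgroup G) ≤ (P : Subgroup G) := inf_le_left
    have hdvd := Subgroup.card_dvd_of_le hle
    rw [hP] at hdvd
    rcases (Nat.dvd_prime hp).mp hdvd with h1' | hp'
    · have := Subgroup.card_eq_one.mp h1'
      rw [this] at h1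
      exact Subgroup.mem_bot.mp h1
    · exfalso
      have heq : (P : Subgroup G) ⊓ (Q₀ : Subgroup G) = (P : Subgroup G) :=
        Subgroup.eq_of_le_of_card_ge hle (by rw [hp', hP])
      have hPQ : (P : Subgroup G) ≤ (Q₀ : Subgroup G) := by
        rw [← heq]; exact inf_le_right
      apply hQ₀
      exact Sylow.ext (P.3 Q₀.2 hPQ)
  -- the map g ↦ g • Q₀ from P to the other Sylow subgroups is bijective
  have hne : ∀ g : G, g ∈ (P : Subgroup G) → g • Q₀ ≠ P := by
    intro g hg h
    apply hQ₀
    have h1 : g • P = P := Sylow.smul_eq_iff_mem_normalizer.mpr (Subgroup.le_normalizer hg)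
    rw [← h1] at h
    exact MulAction.injective g h
  let φ : ↥(P : Subgroup G) → {Q : Sylow p G // ¬ Q = P} := fun g => ⟨(g : G) • Q₀, hne g g.2⟩
  have hφinj : Function.Injective φ := by
    intro a b hab
    have h1 : (a : G) • Q₀ = (b : G) • Q₀ := congrArg Subtype.val hab
    have h2 : ((b : G)⁻¹ * (a : G)) • Q₀ = Q₀ := by
      rw [mul_smul, h1, inv_smul_smul]
    have h3 := hstab _ ((P : Subgroup G).mul_mem ((P : Subgroup G).inv_mem b.2) a.2) h2
    apply Subtype.ext
    exact (inv_mul_eq_one.mp h3).symm
  have hcard : Nat.card {Q : Sylow p G // ¬ Q = P} ≤ Nat.card ↥(P : Subgroup G) := by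
    rw [Nat.card_eq_fintype_card, Fintype.card_subtype_compl, Fintype.card_subtype_eq,
      ← Nat.card_eq_fintype_card, hn, hP]
    omega
  have hφbij := hφinj.bijective_of_nat_card_le hcard
  -- main argument
  intro y hy
  have hyP : y • P = P := by
    apply Sylow.smul_eq_iff_mem_normalizer.mpr
    show y ∈ Subgroup.normalizer ((P : Subgroup G) : Set G)
    rw [Subgroup.mem_normalizer_iff]
    intro h
    have e : ∀ h ∈ (P : Subgroup G), y * h * y⁻¹ = h := by
      intro h hh
      have := Subgroup.mem_centralizer_iff.mp hy h hh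
      rw [← this]; group
    constructor
    · intro hh
      rw [e h hh]; exact hh
    · intro hh
      have e2 : h = y⁻¹ * (y * h * y⁻¹) * y := by group
      have hyinv : ∀ k ∈ (P : Subgroup G), y⁻¹ * k * y = k := by
        intro k hk
        have := Subgroup.mem_centralizer_iff.mp hy k hk
        calc y⁻¹ * k * y = y⁻¹ * (k * y) := by group
          _ = y⁻¹ * (y * k) := by rw [this]
          _ = k := by group
      rw [e2, hyinv _ hh]; exact hh
  have hyQ : ¬ y • Q₀ = P := by
    intro h
    apply hQ₀
    rw [← hyP] at h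
    exact MulAction.injective y h
  obtain ⟨g₀, hg₀⟩ := hφbij.2 ⟨y • Q₀, hyQ⟩
  have hg₀' : (g₀ : G) • Q₀ = y • Q₀ := congrArg Subtype.val hg₀
  obtain ⟨z, hz⟩ : ∃ z : G, z = (g₀ : G)⁻¹ * y := ⟨_, rfl⟩
  have hzQ₀ : z • Q₀ = Q₀ := by
    rw [hz, mul_smul, ← hg₀', inv_smul_smul]
  have hzc : ∀ k ∈ (P : Subgroup G), z * k = k * z := by
    intro k hk
    have h1 := Subgroup.mem_centralizer_iff.mp hy k hk
    have h2 := hcomm (g₀ : G)⁻¹ k ((P : Subgroup G).inv_mem g₀.2) hk
    rw [hz]
    calc (g₀ : G)⁻¹ * y * k = (g₀ : G)⁻¹ * (y * k) := by group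
      _ = (g₀ : G)⁻¹ * (k * y) := by rw [h1]
      _ = ((g₀ : G)⁻¹ * k) * y := by group
      _ = (k * (g₀ : G)⁻¹) * y := by rw [h2]
      _ = k * ((g₀ : G)⁻¹ * y) := by group
  have hzP : z • P = P := by
    rw [hz, mul_smul, hyP]
    exact Sylow.smul_eq_iff_mem_normalizer.mpr
      (Subgroup.le_normalizer ((P : Subgroup G).inv_mem g₀.2))
  have hzall : ∀ Q : Sylow p G, z • Q = Q := by
    intro Q
    by_cases hQ : Q = P
    · rw [hQ]; exact hzP
    · obtain ⟨g, hg⟩ := hφbij.2 ⟨Q, hQ⟩
      have hg' : (g : G) • Q₀ = Q := congrArg Subtype.val hg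
      rw [← hg', ← mul_smul, hzc _ g.2, mul_smul, hzQ₀]
  -- the kernel of the action on Sylow subgroups is trivial
  let ρ := MulAction.toPermHom G (Sylow p G)
  have hρker : ρ.ker = ⊥ := by
    rcases ρ.normal_ker.eq_bot_or_eq_top with h | h
    · exact h
    · exfalso
      have hall : ∀ g : G, g • P = P := by
        intro g
        have : g ∈ ρ.ker := by rw [h]; trivial
        rw [MonoidHom.mem_ker] at this
        have h2 := congrArg (fun σ : Equiv.Perm (Sylow p G) => σ P) this
        simpa [ρ] using h2
      have hN : Subgroup.normalizer ((P : Subgroup G) : Set G) = ⊤ := by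
        rw [eq_top_iff]
        intro g _
        exact Sylow.smul_eq_iff_mem_normalizer.mp (hall g)
      have hidx : Nat.card (Sylow p G) =
          (Subgroup.normalizer ((P : Subgroup G) : Set G)).index := P.card_eq_index_normalizer
      rw [hN, Subgroup.index_top, hn] at hidx
      have := hp.two_le
      omega
  have hz1 : z = 1 := by
    have : z ∈ ρ.ker := by
      rw [MonoidHom.mem_ker]
      ext Q
      simp [ρ, hzall Q]
    rw [hρker] at this
    exact Subgroup.mem_bot.mp this
  have : y = (g₀ : G) := by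
    rw [hz] at hz1
    have := inv_mul_eq_one.mp hz1
    exact this.symm
  rw [this]
  exact g₀.2

end Cfsg.Agent.helper11.O504
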