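import Mathlib
import Cfsg.Agent.Lib_helper11_O504a

set_option autoImplicit false

/-!
# Simple groups of order 504, part b: Sylow numbers
-/

namespace Cfsg.Agent.helper11.O504

open Cfsg.Agent.helper5

variable {G : Type*} [Group G] [Finite G] [IsSimpleGroup G]

theorem nonabelian (h : Nat.card G = 504) : ∃ a b : G, a * b ≠ b * a :=
  nonabelian_of_card_not_prime (by rw [h]; norm_num)

theorem le_centralizer_of_cyclic (P : Subgroup G) (hcyc : IsCyclic P) :
    P ≤ Subgroup.centralizer (P : Set G) := by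
  intro a ha
  rw [Subgroup.mem_centralizer_iff]
  intro b hb
  obtain ⟨g, hg⟩ := hcyc.exists_generator
  obtain ⟨i, hi⟩ := Subgroup.mem_zpowers_iff.mp (hg ⟨a, ha⟩)
  obtain ⟨j, hj⟩ := Subgroup.mem_zpowers_iff.mp (hg ⟨b, hb⟩)
  have ha' : a = ((g ^ i : P) : G) := by rw [hi]
  have hb' : b = ((g ^ j : P) : G) := by rw [hj]
  rw [ha', hb', ← Subgroup.coe_mul, ← Subgroup.coe_mul, ← zpow_add, ← zpow_add, add_comm]

theorem sylow7 (h : Nat.card G = 504) (P : Sylow 7 G) :
    Nat.card P = 7 ∧ Nat.card (Sylow 7 G) = 36 ∧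
      Subgroup.centralizer ((P : Subgroup G) : Set G) = P := by
  classical
  haveI : Fact (Nat.Prime 7) := ⟨by norm_num⟩
  obtain ⟨hc, hi⟩ := sylow_card_of_card_eq P 1 72 (by rw [h]; norm_num) (by norm_num)
  rw [pow_one] at hc
  obtain ⟨hmod, hdvd, hmul⟩ := sylow_count_facts P
  rw [hi] at hdvd
  rw [h] at hmul
  have hPbot : (P : Subgroup G) ≠ ⊥ := by
    intro hb
    rw [hb] at hc
    simp at hc
  have hPtop : (P : Subgroup G) ≠ ⊤ := by
    intro hb
    rw [hb, Subgroup.card_top, h] at hc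
    omega
  have hn1 := sylow_count_ne_one P hPbot hPtop
  haveI hcyc : IsCyclic ↥(P : Subgroup G) := isCyclic_of_prime_card hc
  obtain ⟨r, hr, hr1, hrφ, hrn⟩ := automizer_facts (nonabelian h) P hPbot hcyc
  rw [hc, Nat.totient_prime (by norm_num)] at hrφ
  rw [hi] at hrn
  have hPC := le_centralizer_of_cyclic (P : Subgroup G) hcyc
  have hCN : Subgroup.centralizer ((P : Subgroup G) : Set G) ≤
      Subgroup.normalizer ((P : Subgroup G) : Set G) := Subgroup.centralizer_le_normalizer _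
  have hrel := Subgroup.relIndex_mul_index hCN
  rw [← hr] at hrel
  have hNidx : (Subgroup.normalizer ((P : Subgroup G) : Set G)).index = Nat.card (Sylow 7 G) :=
    P.card_eq_index_normalizer.symm
  rw [hNidx] at hrel
  have hCcard := Subgroup.card_mul_index (Subgroup.centralizer ((P : Subgroup G) : Set G))
  rw [h, ← hrel] at hCcard
  obtain ⟨n, hn⟩ : ∃ n, Nat.card (Sylow 7 G) = n := ⟨_, rfl⟩
  rw [hn] at hmod hdvd hmul hn1 hrn hrel hCcard
  have hn3 : n = 8 ∨ n = 36 := by
    have hle := Nat.le_of_dvd (by norm_num) hdvd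
    interval_cases n <;> omega
  rcases hn3 with rfl | rfl
  · exfalso
    have hCP := centralizer_le_of_card_sylow P hc (by rw [hn])
    have hCeq : Subgroup.centralizer ((P : Subgroup G) : Set G) = P := le_antisymm hCP hPC
    rw [hCeq, hc] at hCcard
    have hr9 : r = 9 := by omega
    rw [hr9] at hrφ
    omega
  · refine ⟨hc, hn, ?_⟩
    have hr2 : r = 2 := by
      have hle : r * 36 ≤ 72 := Nat.le_of_dvd (by norm_num) hrn
      have hr0 : r ≠ 0 := by
        rintro rfl
        simp at hrn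
      omega
    rw [hr2] at hCcard
    have hC7 : Nat.card (Subgroup.centralizer ((P : Subgroup G) : Set G)) = 7 := by omega
    exact (Subgroup.eq_of_le_of_card_ge hPC (by rw [hC7, hc])).symm

/-- an element commuting with an element of order 7 is one of its powers -/
theorem mem_zpowers_of_commute (h : Nat.card G = 504) {x g : G} (hx : orderOf x = 7)
    (hc : g * x = x * g) : g ∈ Subgroup.zpowers x := by
  haveI : Fact (Nat.Prime 7) := ⟨by norm_num⟩
  have hpg : IsPGroup 7 (Subgroup.zpowers x) :=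
    IsPGroup.of_card (n := 1) (by rw [Nat.card_zpowers, hx, pow_one])
  obtain ⟨P, hP⟩ := hpg.exists_le_sylow
  obtain ⟨hc7, -, hcent⟩ := sylow7 h P
  have hPeq : Subgroup.zpowers x = (P : Subgroup G) :=
    Subgroup.eq_of_le_of_card_ge hP (by rw [hc7, Nat.card_zpowers, hx])
  rw [hPeq, ← hcent, Subgroup.mem_centralizer_iff]
  intro k hk
  rw [← hPeq] at hk
  obtain ⟨i, rfl⟩ := Subgroup.mem_zpowers_iff.mp hk
  have hcomm : Commute g x := hc
  exact ((hcomm.zpow_right i).eq).symm

theorem not_dvd_card_centralizer (h : Nat.card G = 504) {g : G} (hg1 : g ≠ 1)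
    (hg7 : ¬ 7 ∣ orderOf g) : ¬ 7 ∣ Nat.card (Subgroup.centralizer ({g} : Set G)) := by
  haveI : Fact (Nat.Prime 7) := ⟨by norm_num⟩
  intro hdvd
  obtain ⟨x, hx⟩ := exists_prime_orderOf_dvd_card' (G := ↥(Subgroup.centralizer ({g} : Set G))) 7 hdvd
  have hx' : orderOf (x : G) = 7 := by rw [Subgroup.orderOf_coe, hx]
  have hcomm : g * (x : G) = (x : G) * g := by
    have := Subgroup.mem_centralizer_iff.mp x.2 g (Set.mem_singleton g)
    exact this
  have hmem := mem_zpowers_of_commute h hx' hcomm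
  have hd := orderOf_dvd_of_mem_zpowers hmem
  rw [hx'] at hd
  rcases (Nat.dvd_prime (by norm_num : Nat.Prime 7)).mp hd with h1 | h7
  · exact hg1 (orderOf_eq_one_iff.mp h1)
  · exact hg7 (by rw [h7])

theorem sylow3 (h : Nat.card G = 504) (Q : Sylow 3 G) :
    Nat.card Q = 9 ∧ Nat.card (Sylow 3 G) = 28 ∧
      Nat.card (Subgroup.normalizer ((Q : Subgroup G) : Set G)) = 18 := by
  classical
  haveI : Fact (Nat.Prime 3) := ⟨by norm_num⟩
  obtain ⟨hc, hi⟩ := sylow_card_of_card_eq Q 2 56 (by rw [h]; norm_num) (by norm_num)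
  have hc9 : Nat.card Q = 9 := by rw [hc]; norm_num
  obtain ⟨hmod, hdvd, hmul⟩ := sylow_count_facts Q
  rw [hi] at hdvd
  rw [h] at hmul
  have hQbot : (Q : Subgroup G) ≠ ⊥ := by
    intro hb
    rw [hb] at hc9
    simp at hc9
  have hQtop : (Q : Subgroup G) ≠ ⊤ := by
    intro hb
    rw [hb, Subgroup.card_top, h] at hc9
    omega
  have hn1 := sylow_count_ne_one Q hQbot hQtop
  have hNidx : (Subgroup.normalizer ((Q : Subgroup G) : Set G)).index = Nat.card (Sylow 3 G) :=
    Q.card_eq_index_normalizer.symm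
  have hNtop : Subgroup.normalizer ((Q : Subgroup G) : Set G) ≠ ⊤ := by
    intro ht
    rw [ht, Subgroup.index_top] at hNidx
    exact hn1 hNidx.symm
  have h8 := eight_le_index h _ hNtop
  rw [hNidx] at h8
  obtain ⟨n, hn⟩ : ∃ n, Nat.card (Sylow 3 G) = n := ⟨_, rfl⟩
  rw [hn] at hmod hdvd hmul h8
  have hn28 : n = 28 := by
    have hle := Nat.le_of_dvd (by norm_num) hdvd
    interval_cases n <;> omega
  subst hn28
  exact ⟨hc9, hn, by omega⟩

theorem sylow3_comm (h : Nat.card G = 504) (Q : Sylow 3 G) {a b : G} (ha : a ∈ Q) (hb : b ∈ Q) :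
    a * b = b * a := by
  haveI : Fact (Nat.Prime 3) := ⟨by norm_num⟩
  have hc : Nat.card ↥(Q : Subgroup G) = 3 ^ 2 := by rw [(sylow3 h Q).1]; norm_num
  have := (IsPGroup.isMulCommutative_of_card_eq_prime_sq hc).is_comm.comm ⟨a, ha⟩ ⟨b, hb⟩
  exact congrArg Subtype.val this

theorem sylow2_card (h : Nat.card G = 504) (T : Sylow 2 G) : Nat.card T = 8 := by
  haveI : Fact (Nat.Prime 2) := ⟨by norm_num⟩
  obtain ⟨hc, -⟩ := sylow_card_of_card_eq T 3 63 (by rw [h]; norm_num) (by norm_num)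
  rw [hc]; norm_num

end Cfsg.Agent.helper11.O504
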