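import Mathlib
import Cfsg.Agent.Lib_helper11_O504b

set_option autoImplicit false

/-!
# Simple groups of order 504, part c: the Sylow 3-subgroups intersect trivially
-/

namespace Cfsg.Agent.helper11.O504

open Cfsg.Agent.helper5

variable {G : Type*} [Group G] [Finite G] [IsSimpleGroup G]

theorem center_eq_bot (h : Nat.card G = 504) : Subgroup.center G = ⊥ := by
  rcases (inferInstance : (Subgroup.center G).Normal).eq_bot_or_eq_top with hb | ht
  · exact hb
  · exfalso
    obtain ⟨a, b, hab⟩ := nonabelian h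
    apply hab
    have : b ∈ Subgroup.center G := by rw [ht]; trivial
    exact Subgroup.mem_center_iff.mp this a

theorem centralizer_ne_top (h : Nat.card G = 504) {d : G} (hd : d ≠ 1) :
    Subgroup.centralizer ({d} : Set G) ≠ ⊤ := by
  intro ht
  apply hd
  have : d ∈ Subgroup.center G := by
    rw [Subgroup.mem_center_iff]
    intro g
    have hg : g ∈ Subgroup.centralizer ({d} : Set G) := by rw [ht]; trivial
    exact (Subgroup.mem_centralizer_iff.mp hg d (Set.mem_singleton d)).symm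
  rw [center_eq_bot h] at this
  exact Subgroup.mem_bot.mp this

/-- A group of order `36` with a central element of order divisible by `3` and more than one Sylow
`3`-subgroup has a normal Sylow `2`-subgroup. -/
theorem normal_sylow2_of_card_36 {M : Type*} [Group M] [Finite M] (hM : Nat.card M = 36)
    (d : M) (hdc : ∀ m : M, m * d = d * m) (hd3 : 3 ∣ orderOf d)
    (R₁ R₂ : Sylow 3 M) (hR : R₁ ≠ R₂) (V : Sylow 2 M) : (V : Subgroup M).Normal := by
  classical
  haveI : Fact (Nat.Prime 2) := ⟨by norm_num⟩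
  haveI : Fact (Nat.Prime 3) := ⟨by norm_num⟩
  obtain ⟨hV4, -⟩ := sylow_card_of_card_eq V 2 9 (by rw [hM]; norm_num) (by norm_num)
  have hV4' : Nat.card ↥(V : Subgroup M) = 4 := by rw [hV4]; norm_num
  -- N(V) is not contained in C(V)
  have hNC : ¬ Subgroup.normalizer ((V : Subgroup M) : Set M) ≤
      Subgroup.centralizer ((V : Subgroup M) : Set M) := by
    intro hle
    have hcompl := MonoidHom.ker_transferSylow_isComplement' V hle
    have hcard := hcompl.card_mul_card
    rw [hV4', hM] at hcard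
    have hK9 : Nat.card (MonoidHom.transferSylow V hle).ker = 9 := by omega
    have hKn : (MonoidHom.transferSylow V hle).ker.Normal := MonoidHom.normal_ker _
    have hfac : (Nat.card M).factorization 3 = 2 := by
      rw [hM, show (36 : ℕ) = 3 ^ 2 * 4 from rfl,
        Nat.factorization_mul (by norm_num) (by norm_num), Nat.Prime.factorization_pow (by norm_num)]
      simp [Nat.factorization_eq_zero_of_not_dvd (show ¬ 3 ∣ 4 by norm_num)]
    let K : Sylow 3 M := Sylow.ofCard (MonoidHom.transferSylow V hle).ker (by rw [hK9, hfac]; norm_num)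
    have hKn' : (K : Subgroup M).Normal := hKn
    have huniq := Sylow.unique_of_normal K hKn'
    exact hR ((huniq.uniq R₁).trans (huniq.uniq R₂).symm)
  -- V ≤ C(V)
  have hVcomm : (V : Subgroup M) ≤ Subgroup.centralizer ((V : Subgroup M) : Set M) := by
    intro a ha
    rw [Subgroup.mem_centralizer_iff]
    intro b hb
    have := (IsPGroup.isMulCommutative_of_card_eq_prime_sq hV4).is_comm.comm ⟨b, hb⟩ ⟨a, ha⟩
    exact congrArg Subtype.val this
  have hdC : d ∈ Subgroup.centralizer ((V : Subgroup M) : Set M) := by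
    rw [Subgroup.mem_centralizer_iff]
    intro b _
    exact hdc b
  have h4 : 4 ∣ Nat.card (Subgroup.centralizer ((V : Subgroup M) : Set M)) := by
    rw [← hV4']; exact Subgroup.card_dvd_of_le hVcomm
  have h3 : 3 ∣ Nat.card (Subgroup.centralizer ((V : Subgroup M) : Set M)) :=
    hd3.trans (Subgroup.orderOf_dvd_natCard _ hdC)
  have h12 : 12 ∣ Nat.card (Subgroup.centralizer ((V : Subgroup M) : Set M)) :=
    Nat.Coprime.mul_dvd_of_dvd_of_dvd (by norm_num : Nat.Coprime 3 4) h3 h4
  have hCN : Subgroup.centralizer ((V : Subgroup M) : Set M) ≤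
      Subgroup.normalizer ((V : Subgroup M) : Set M) := Subgroup.centralizer_le_normalizer _
  have hCNdvd := Subgroup.card_dvd_of_le hCN
  have hN36 : Nat.card (Subgroup.normalizer ((V : Subgroup M) : Set M)) ∣ 36 := by
    rw [← hM]; exact Subgroup.card_subgroup_dvd_card _
  have hlt : Nat.card (Subgroup.centralizer ((V : Subgroup M) : Set M)) <
      Nat.card (Subgroup.normalizer ((V : Subgroup M) : Set M)) := by
    rcases lt_or_eq_of_le (Nat.le_of_dvd Nat.card_pos hCNdvd) with hlt | heq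
    · exact hlt
    · exfalso
      apply hNC
      rw [Subgroup.eq_of_le_of_card_ge hCN (le_of_eq heq.symm)]
  obtain ⟨c, hc⟩ : ∃ c, Nat.card (Subgroup.centralizer ((V : Subgroup M) : Set M)) = c := ⟨_, rfl⟩
  obtain ⟨n, hn⟩ : ∃ n, Nat.card (Subgroup.normalizer ((V : Subgroup M) : Set M)) = n := ⟨_, rfl⟩
  rw [hc] at h12 hCNdvd hlt
  rw [hn] at hCNdvd hN36 hlt
  have hn36 : n = 36 := by
    have hnle : n ≤ 36 := Nat.le_of_dvd (by norm_num) hN36
    obtain ⟨k, hk⟩ := h12
    obtain ⟨l, hl⟩ := hCNdvd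
    have hk1 : 1 ≤ k := by
      rcases Nat.eq_zero_or_pos k with rfl | hk0
      · rw [hk] at hl
        simp at hl
        omega
      · exact hk0
    have hl2 : 2 ≤ l := by
      rcases Nat.lt_or_ge l 2 with hl1 | hl2
      · interval_cases l
        · omega
        · omega
      · exact hl2
    have : 24 ≤ n := by
      rw [hl, hk]
      nlinarith
    interval_cases n <;> omega
  have hNtop : Subgroup.normalizer ((V : Subgroup M) : Set M) = ⊤ := by
    apply Subgroup.eq_top_of_card_eq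
    rw [hn, hn36, hM]
  exact Subgroup.normalizer_eq_top_iff.mp hNtop

/-- Distinct Sylow `3`-subgroups of a simple group of order `504` intersect trivially. -/
theorem sylow3_TI (h : Nat.card G = 504) (Q₁ Q₂ : Sylow 3 G) (hne : Q₁ ≠ Q₂) {d : G}
    (h1 : d ∈ Q₁) (h2 : d ∈ Q₂) : d = 1 := by
  classical
  haveI : Fact (Nat.Prime 2) := ⟨by norm_num⟩
  haveI : Fact (Nat.Prime 3) := ⟨by norm_num⟩
  by_contra hd
  obtain ⟨M, hMdef⟩ : ∃ M : Subgroup G, M = Subgroup.centralizer ({d} : Set G) := ⟨_, rfl⟩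
  have hQ₁M : (Q₁ : Subgroup G) ≤ M := by
    intro x hx
    rw [hMdef, Subgroup.mem_centralizer_iff]
    rintro _ rfl
    exact sylow3_comm h Q₁ h1 hx
  have hQ₂M : (Q₂ : Subgroup G) ≤ M := by
    intro x hx
    rw [hMdef, Subgroup.mem_centralizer_iff]
    rintro _ rfl
    exact sylow3_comm h Q₂ h2 hx
  have hQ9 := (sylow3 h Q₁).1
  have hord : orderOf d ∣ 9 := by
    rw [← hQ9]; exact Subgroup.orderOf_dvd_natCard _ h1
  have hord1 : orderOf d ≠ 1 := fun h' => hd (orderOf_eq_one_iff.mp h')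
  have hord3 : 3 ∣ orderOf d := by
    have hle : orderOf d ≤ 9 := Nat.le_of_dvd (by norm_num) hord
    obtain ⟨o, ho⟩ : ∃ o, orderOf d = o := ⟨_, rfl⟩
    rw [ho] at hord hord1 hle ⊢
    interval_cases o <;> omega
  have h7 : ¬ 7 ∣ orderOf d := by
    intro h7
    have := Nat.dvd_trans h7 hord
    omega
  have hM7 : ¬ 7 ∣ Nat.card M := by rw [hMdef]; exact not_dvd_card_centralizer h hd h7
  have hMtop : M ≠ ⊤ := by rw [hMdef]; exact centralizer_ne_top h hd
  have hM64 : Nat.card M < 64 := by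
    by_contra hge
    push Not at hge
    exact hMtop (eq_top_of_le_card h M hge)
  have hM504 : Nat.card M ∣ 504 := by rw [← h]; exact Subgroup.card_subgroup_dvd_card M
  have hM9 : 9 ∣ Nat.card M := by rw [← hQ9]; exact Subgroup.card_dvd_of_le hQ₁M
  -- Sylow 3-subgroups of M
  let R₁ : Sylow 3 ↥M := Q₁.subtype hQ₁M
  let R₂ : Sylow 3 ↥M := Q₂.subtype hQ₂M
  have hR : R₁ ≠ R₂ := by
    intro hR
    apply hne
    have hsub : (Q₁ : Subgroup G).subgroupOf M = (Q₂ : Subgroup G).subgroupOf M := by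
      rw [← Sylow.coe_subtype Q₁ hQ₁M, ← Sylow.coe_subtype Q₂ hQ₂M]
      exact congrArg (fun R : Sylow 3 ↥M => (R : Subgroup ↥M)) hR
    have hle : (Q₁ : Subgroup G) ≤ (Q₂ : Subgroup G) := by
      intro x hx
      have : (⟨x, hQ₁M hx⟩ : ↥M) ∈ (Q₁ : Subgroup G).subgroupOf M := by
        rw [Subgroup.mem_subgroupOf]; exact hx
      rw [hsub, Subgroup.mem_subgroupOf] at this
      exact this
    exact Sylow.ext (Q₁.3 Q₂.2 hle).symm
  have hR₁card : Nat.card ↥(R₁ : Subgroup ↥M) = 9 := by
    show Nat.card ↥((Q₁.subtype hQ₁M : Sylow 3 ↥M) : Subgroup ↥M) = 9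
    rw [Sylow.coe_subtype, card_subgroupOf_of_le hQ₁M, hQ9]
  have hmod := card_sylow_modEq_one 3 ↥M
  have hdvdidx := Sylow.card_dvd_index R₁
  have hcm := Subgroup.card_mul_index (R₁ : Subgroup ↥M)
  rw [hR₁card] at hcm
  have hn2 : 2 ≤ Nat.card (Sylow 3 ↥M) := by
    haveI : Nontrivial (Sylow 3 ↥M) := ⟨⟨R₁, R₂, hR⟩⟩
    exact Finite.one_lt_card_iff_nontrivial.mpr inferInstance
  obtain ⟨n, hn⟩ : ∃ n, Nat.card (Sylow 3 ↥M) = n := ⟨_, rfl⟩
  obtain ⟨i, hi⟩ : ∃ i, (R₁ : Subgroup ↥M).index = i := ⟨_, rfl⟩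
  obtain ⟨c, hc⟩ : ∃ c, Nat.card ↥M = c := ⟨_, rfl⟩
  rw [hn] at hmod hdvdidx hn2
  rw [hi] at hdvdidx hcm
  rw [hc] at hcm hM7 hM64 hM504 hM9
  have hM36 : c = 36 := by
    have hi8 : i ≤ 7 := by omega
    have hi0 : i ≠ 0 := by
      rintro rfl
      simp at hdvdidx
      omega
    have hnle : n ≤ i := Nat.le_of_dvd (Nat.pos_of_ne_zero hi0) hdvdidx
    have hmod' : n % 3 = 1 := by
      have := hmod
      rw [Nat.ModEq] at this
      omega
    subst hcm
    clear hord hord1 hord3 h7 hdvdidx hmod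
    interval_cases i <;> omega
  rw [hM36] at hc
  -- the Sylow 2-subgroup of M is normal
  obtain ⟨V⟩ : Nonempty (Sylow 2 ↥M) := inferInstance
  have hdM : d ∈ M := by
    rw [hMdef, Subgroup.mem_centralizer_iff]
    rintro _ rfl
    rfl
  have hVn : (V : Subgroup ↥M).Normal := by
    refine normal_sylow2_of_card_36 hc ⟨d, hdM⟩ ?_ ?_ R₁ R₂ hR V
    · intro m
      apply Subtype.ext
      have hm : (m : G) ∈ Subgroup.centralizer ({d} : Set G) := by rw [← hMdef]; exact m.2
      have := Subgroup.mem_centralizer_iff.mp hm d (Set.mem_singleton d)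
      exact this.symm
    · have : orderOf (⟨d, hdM⟩ : ↥M) = orderOf d := (Subgroup.orderOf_coe (⟨d, hdM⟩ : ↥M)).symm
      rw [this]; exact hord3
  obtain ⟨hV4, -⟩ := sylow_card_of_card_eq V 2 9 (by rw [hc]; norm_num) (by norm_num)
  -- the image of V in G
  obtain ⟨W, hW⟩ : ∃ W : Subgroup G, W = (V : Subgroup ↥M).map M.subtype := ⟨_, rfl⟩
  have hWcard : Nat.card W = 4 := by
    rw [hW, Subgroup.card_map_of_injective M.subtype_injective, hV4]; norm_num
  have hconj : ∀ m ∈ M, ∀ x ∈ W, m * x * m⁻¹ ∈ W := by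
    intro m hm x hx
    rw [hW] at hx ⊢
    obtain ⟨v, hv, rfl⟩ := hx
    refine ⟨⟨m, hm⟩ * v * ⟨m, hm⟩⁻¹, hVn.conj_mem v hv ⟨m, hm⟩, ?_⟩
    simp
  have hMN : M ≤ Subgroup.normalizer (W : Set G) := by
    intro m hm
    rw [Subgroup.mem_normalizer_iff]
    intro x
    constructor
    · exact hconj m hm x
    · intro hx
      have := hconj m⁻¹ (M.inv_mem hm) _ hx
      have e : m⁻¹ * (m * x * m⁻¹) * m⁻¹⁻¹ = x := by group
      rwa [e] at this
  -- a Sylow 2-subgroup of G containing W
  have hWp : IsPGroup 2 W := IsPGroup.of_card (n := 2) (by rw [hWcard]; norm_num)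
  obtain ⟨T, hWT⟩ := hWp.exists_le_sylow
  have hT8 := sylow2_card h T
  have hidx2 : (W.subgroupOf (T : Subgroup G)).index = 2 := by
    have := Subgroup.card_mul_index (W.subgroupOf (T : Subgroup G))
    rw [card_subgroupOf_of_le hWT, hWcard, hT8] at this
    omega
  haveI hnorm : (W.subgroupOf (T : Subgroup G)).Normal := Subgroup.normal_of_index_eq_two hidx2
  have hTN : (T : Subgroup G) ≤ Subgroup.normalizer (W : Set G) :=
    Subgroup.le_normalizer_of_normal_subgroupOf hWT
  have h36 : 36 ∣ Nat.card (Subgroup.normalizer (W : Set G)) := by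
    rw [← hc]; exact Subgroup.card_dvd_of_le hMN
  have h8 : 8 ∣ Nat.card (Subgroup.normalizer (W : Set G)) := by
    rw [← hT8]; exact Subgroup.card_dvd_of_le hTN
  have h64 : 64 ≤ Nat.card (Subgroup.normalizer (W : Set G)) := by
    have hpos : 0 < Nat.card (Subgroup.normalizer (W : Set G)) := Nat.card_pos
    omega
  have hNtop := eq_top_of_le_card h _ h64
  have hWn : W.Normal := Subgroup.normalizer_eq_top_iff.mp hNtop
  rcases hWn.eq_bot_or_eq_top with hb | ht
  · rw [hb] at hWcard
    simp at hWcard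
  · rw [ht, Subgroup.card_top, h] at hWcard
    omega

end Cfsg.Agent.helper11.O504
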