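import Mathlib
import Cfsg.Agent.Lib_helper11_O504c

set_option autoImplicit false

/-!
# Simple groups of order 504, part d: at most 63 elements of even order
-/

namespace Cfsg.Agent.helper11.O504

open Cfsg.Agent.helper5

variable {G : Type*} [Group G] [Finite G]

theorem le_normalizer_of_conj_mem (K H : Subgroup G)
    (hc : ∀ k ∈ K, ∀ x ∈ H, k * x * k⁻¹ ∈ H) : K ≤ Subgroup.normalizer (H : Set G) := by
  intro m hm
  rw [Subgroup.mem_normalizer_iff]
  intro x
  constructor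
  · exact hc m hm x
  · intro hx
    have := hc m⁻¹ (K.inv_mem hm) _ hx
    have e : m⁻¹ * (m * x * m⁻¹) * m⁻¹⁻¹ = x := by group
    rwa [e] at this

/-- counting the non-identity elements of a family of subgroups with pairwise trivial
intersections -/
theorem le_ncard_of_TI {ι : Type*} [Finite ι] (S : ι → Subgroup G) (m : ℕ)
    (hm : ∀ i, Nat.card (S i) = m)
    (hTI : ∀ i j, i ≠ j → ∀ x, x ∈ S i → x ∈ S j → x = 1) :
    Nat.card ι * (m - 1) ≤ {g : G | g ≠ 1 ∧ ∃ i, g ∈ S i}.ncard := by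
  classical
  haveI : Fintype ι := Fintype.ofFinite ι
  have hcard : ∀ i, Nat.card {x : ↥(S i) // ¬ x = 1} = m - 1 := by
    intro i
    haveI : Fintype ↥(S i) := Fintype.ofFinite _
    rw [Nat.card_eq_fintype_card, Fintype.card_subtype_compl, Fintype.card_subtype_eq,
      ← Nat.card_eq_fintype_card, hm i]
  have hsig : Nat.card (Σ i, {x : ↥(S i) // ¬ x = 1}) = Nat.card ι * (m - 1) := by
    rw [Nat.card_sigma]
    simp only [hcard, Finset.sum_const, Finset.card_univ, smul_eq_mul]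
    rw [Nat.card_eq_fintype_card]
  rw [← hsig, ← Nat.card_coe_set_eq]
  let f : (Σ i, {x : ↥(S i) // ¬ x = 1}) → ↥{g : G | g ≠ 1 ∧ ∃ i, g ∈ S i} := fun a =>
    ⟨((a.2 : ↥(S a.1)) : G), by
      refine ⟨?_, a.1, (a.2 : ↥(S a.1)).2⟩
      intro h
      apply a.2.2
      exact Subtype.ext h⟩
  apply Nat.card_le_card_of_injective f
  rintro ⟨i, x⟩ ⟨j, y⟩ hxy
  have hval : ((x : ↥(S i)) : G) = ((y : ↥(S j)) : G) := congrArg Subtype.val hxy
  have hij : i = j := by
    by_contra hne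
    have h1 := hTI i j hne _ (x : ↥(S i)).2 (by rw [hval]; exact (y : ↥(S j)).2)
    apply x.2
    exact Subtype.ext h1
  subst hij
  have : x = y := by
    apply Subtype.ext
    apply Subtype.ext
    exact hval
  rw [this]

variable [IsSimpleGroup G]

theorem sylow7_TI (h : Nat.card G = 504) (P P' : Sylow 7 G) (hne : P ≠ P') {x : G}
    (h1 : x ∈ P) (h2 : x ∈ P') : x = 1 := by
  haveI : Fact (Nat.Prime 7) := ⟨by norm_num⟩
  by_contra hx
  apply hne
  have hc := (sylow7 h P).1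
  have hle : (P : Subgroup G) ⊓ (P' : Subgroup G) ≤ (P : Subgroup G) := inf_le_left
  have hdvd := Subgroup.card_dvd_of_le hle
  rw [hc] at hdvd
  rcases (Nat.dvd_prime (by norm_num : Nat.Prime 7)).mp hdvd with h1' | h7
  · exfalso
    have := Subgroup.card_eq_one.mp h1'
    have hmem : x ∈ (P : Subgroup G) ⊓ (P' : Subgroup G) := ⟨h1, h2⟩
    rw [this] at hmem
    exact hx (Subgroup.mem_bot.mp hmem)
  · have heq : (P : Subgroup G) ⊓ (P' : Subgroup G) = (P : Subgroup G) :=
      Subgroup.eq_of_le_of_card_ge hle (by rw [h7, hc])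
    have hPP : (P : Subgroup G) ≤ (P' : Subgroup G) := by
      rw [← heq]; exact inf_le_right
    exact Sylow.ext (P.3 P'.2 hPP).symm

/-- the set of elements of even order -/
def Ev (G : Type*) [Group G] : Set G := {g | Even (orderOf g)}

theorem ncard_Ev_le (h : Nat.card G = 504) : (Ev G).ncard ≤ 63 := by
  classical
  haveI : Fact (Nat.Prime 7) := ⟨by norm_num⟩
  haveI : Fact (Nat.Prime 3) := ⟨by norm_num⟩
  obtain ⟨U7, hU7⟩ : ∃ U7 : Set G, U7 = {g : G | g ≠ 1 ∧ ∃ P : Sylow 7 G, g ∈ (P : Subgroup G)} :=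
    ⟨_, rfl⟩
  obtain ⟨U3, hU3⟩ : ∃ U3 : Set G, U3 = {g : G | g ≠ 1 ∧ ∃ Q : Sylow 3 G, g ∈ (Q : Subgroup G)} :=
    ⟨_, rfl⟩
  obtain ⟨P₀⟩ : Nonempty (Sylow 7 G) := inferInstance
  obtain ⟨Q₀⟩ : Nonempty (Sylow 3 G) := inferInstance
  have h7 : 216 ≤ U7.ncard := by
    have := le_ncard_of_TI (fun P : Sylow 7 G => (P : Subgroup G)) 7
      (fun P => (sylow7 h P).1) (fun P P' hne x h1 h2 => sylow7_TI h P P' hne h1 h2)
    rw [(sylow7 h P₀).2.1] at this
    rw [hU7]
    exact this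
  have h3 : 224 ≤ U3.ncard := by
    have := le_ncard_of_TI (fun Q : Sylow 3 G => (Q : Subgroup G)) 9
      (fun Q => (sylow3 h Q).1) (fun Q Q' hne x h1 h2 => sylow3_TI h Q Q' hne h1 h2)
    rw [(sylow3 h Q₀).2.1] at this
    rw [hU3]
    exact this
  have hord7 : ∀ g ∈ U7, orderOf g ∣ 7 := by
    intro g hg
    rw [hU7] at hg
    obtain ⟨-, P, hP⟩ := hg
    rw [← (sylow7 h P).1]
    exact Subgroup.orderOf_dvd_natCard _ hP
  have hord3 : ∀ g ∈ U3, orderOf g ∣ 9 := by
    intro g hg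
    rw [hU3] at hg
    obtain ⟨-, Q, hQ⟩ := hg
    rw [← (sylow3 h Q).1]
    exact Subgroup.orderOf_dvd_natCard _ hQ
  have hne7 : ∀ g ∈ U7, g ≠ 1 := by
    intro g hg; rw [hU7] at hg; exact hg.1
  have hne3 : ∀ g ∈ U3, g ≠ 1 := by
    intro g hg; rw [hU3] at hg; exact hg.1
  have hdisj73 : Disjoint U7 U3 := by
    rw [Set.disjoint_left]
    intro g hg7 hg3
    have h1 := hord7 g hg7
    have h2 := hord3 g hg3
    have h3 : orderOf g ∣ Nat.gcd 7 9 := Nat.dvd_gcd h1 h2
    have h4 : orderOf g = 1 := by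
      have : Nat.gcd 7 9 = 1 := by decide
      rw [this] at h3
      exact Nat.dvd_one.mp h3
    exact hne7 g hg7 (orderOf_eq_one_iff.mp h4)
  have hdisj1 : Disjoint (U7 ∪ U3) ({1} : Set G) := by
    rw [Set.disjoint_left]
    intro g hg h1
    rw [Set.mem_singleton_iff] at h1
    rcases hg with hg | hg
    · exact hne7 g hg h1
    · exact hne3 g hg h1
  have hodd : (U7 ∪ U3) ∪ {1} ⊆ (Ev G)ᶜ := by
    intro g hg
    show ¬ Even (orderOf g)
    rw [Nat.not_even_iff_odd]
    rcases hg with (hg | hg) | hg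
    · exact Odd.of_dvd_nat (by decide) (hord7 g hg)
    · exact Odd.of_dvd_nat (by decide) (hord3 g hg)
    · rw [Set.mem_singleton_iff] at hg
      rw [hg, orderOf_one]
      exact odd_one
  have hcount : 441 ≤ ((Ev G)ᶜ).ncard := by
    have h1 := Set.ncard_le_ncard hodd (Set.toFinite _)
    rw [Set.ncard_union_eq hdisj1 (Set.toFinite _) (Set.toFinite _),
      Set.ncard_union_eq hdisj73 (Set.toFinite _) (Set.toFinite _), Set.ncard_singleton] at h1
    omega
  have := Set.ncard_add_ncard_compl (Ev G) (Set.toFinite _) (Set.toFinite _)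
  rw [h] at this
  omega

end Cfsg.Agent.helper11.O504
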