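import Mathlib
import Cfsg.Agent.Lib_helper11_O504d

set_option autoImplicit false

/-!
# Simple groups of order 504, part e: the centralizers of involutions
-/

namespace Cfsg.Agent.helper11.O504

open Cfsg.Agent.helper5

variable {G : Type*} [Group G] [Finite G]

theorem orderOf_conj' (g x : G) : orderOf (g * x * g⁻¹) = orderOf x := by
  have := MulEquiv.orderOf_eq (MulAut.conj g) x
  rwa [MulAut.conj_apply] at this

theorem aux_pow3 {z y : G} (hz : z * z = 1) (hy : y ^ 3 = 1) (hc : z * y = y * z) :
    (z * y) ^ 3 = z := by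
  have hcomm : Commute z y := hc
  rw [hcomm.mul_pow, hy, mul_one, pow_succ, pow_two, hz, one_mul]

theorem aux_even {z y : G} (hz2 : orderOf z = 2) (h3 : (z * y) ^ 3 = z) (g : G) :
    Even (orderOf (g * (z * y) * g⁻¹)) := by
  rw [orderOf_conj']
  have hmem : z ∈ Subgroup.zpowers (z * y) := by
    have := Subgroup.pow_mem (Subgroup.zpowers (z * y)) (Subgroup.mem_zpowers (z * y)) 3
    rwa [h3] at this
  have := orderOf_dvd_of_mem_zpowers hmem
  rw [hz2] at this
  exact even_iff_two_dvd.mpr this

theorem aux_not2 {z y : G} (hz : z * z = 1) (hy3 : y ^ 3 = 1) (hy1 : y ≠ 1)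
    (hc : z * y = y * z) : orderOf (z * y) ≠ 2 := by
  intro h2
  have h := pow_orderOf_eq_one (z * y)
  rw [h2] at h
  have hcomm : Commute z y := hc
  rw [hcomm.mul_pow, pow_two z, hz, one_mul] at h
  apply hy1
  have : y = y ^ 3 * (y ^ 2)⁻¹ := by group
  rw [this, hy3, h, inv_one, mul_one]

variable [IsSimpleGroup G]

theorem structure_thm (h : Nat.card G = 504) (T : Sylow 2 G) :
    ¬ IsCyclic (T : Subgroup G) ∧ ¬ (T : Subgroup G).Normal ∧
      ∀ t : G, orderOf t = 2 →
        IsMulCommutative (Subgroup.centralizer ({t} : Set G)) ∧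
          ∀ c ∈ Subgroup.centralizer ({t} : Set G), c ^ 2 = 1 := by
  classical
  haveI : Fact (Nat.Prime 2) := ⟨by norm_num⟩
  haveI : Fact (Nat.Prime 3) := ⟨by norm_num⟩
  have hT8 := sylow2_card h T
  -- a central involution of T
  obtain ⟨z, hz2, hzT, hzc⟩ : ∃ z : G, orderOf z = 2 ∧ z ∈ (T : Subgroup G) ∧
      ∀ x ∈ (T : Subgroup G), x * z = z * x := by
    haveI : Nontrivial ↥(T : Subgroup G) := by
      rw [← Finite.one_lt_card_iff_nontrivial, hT8]; norm_num
    haveI hnt : Nontrivial ↥(Subgroup.center ↥(T : Subgroup G)) := IsPGroup.center_nontrivial T.2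
    have h1 : 1 < Nat.card ↥(Subgroup.center ↥(T : Subgroup G)) :=
      Finite.one_lt_card_iff_nontrivial.mpr hnt
    have h2 : Nat.card ↥(Subgroup.center ↥(T : Subgroup G)) ∣ 8 := by
      rw [← hT8]; exact Subgroup.card_subgroup_dvd_card _
    have h3 : 2 ∣ Nat.card ↥(Subgroup.center ↥(T : Subgroup G)) := by
      obtain ⟨c, hc⟩ : ∃ c, Nat.card ↥(Subgroup.center ↥(T : Subgroup G)) = c := ⟨_, rfl⟩
      rw [hc] at h1 h2 ⊢
      have hle : c ≤ 8 := Nat.le_of_dvd (by norm_num) h2
      interval_cases c <;> omega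
    obtain ⟨w, hw⟩ := exists_prime_orderOf_dvd_card' (G := ↥(Subgroup.center ↥(T : Subgroup G))) 2 h3
    refine ⟨((w : ↥(T : Subgroup G)) : G), ?_, (w : ↥(T : Subgroup G)).2, ?_⟩
    · rw [Subgroup.orderOf_coe, Subgroup.orderOf_coe, hw]
    · intro x hx
      have := Subgroup.mem_center_iff.mp w.2 ⟨x, hx⟩
      exact congrArg Subtype.val this
  have hz1 : z ≠ 1 := by
    intro h1
    rw [h1, orderOf_one] at hz2
    omega
  have hzz : z * z = 1 := by
    have := pow_orderOf_eq_one z
    rwa [hz2, pow_two] at this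
  obtain ⟨C, hCdef⟩ : ∃ C : Subgroup G, C = Subgroup.centralizer ({z} : Set G) := ⟨_, rfl⟩
  have hmemC : ∀ x : G, x ∈ C ↔ z * x = x * z := by
    intro x
    rw [hCdef, Subgroup.mem_centralizer_iff]
    constructor
    · intro hx; exact hx z (Set.mem_singleton z)
    · rintro hx _ rfl; exact hx
  have hTC : (T : Subgroup G) ≤ C := by
    intro x hx
    rw [hmemC]
    exact (hzc x hx).symm
  have hC8 : 8 ∣ Nat.card C := by rw [← hT8]; exact Subgroup.card_dvd_of_le hTC
  have hC504 : Nat.card C ∣ 504 := by rw [← h]; exact Subgroup.card_subgroup_dvd_card C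
  have hC7 : ¬ 7 ∣ Nat.card C := by
    rw [hCdef]; exact not_dvd_card_centralizer h hz1 (by rw [hz2]; norm_num)
  have hC64 : Nat.card C < 64 := by
    by_contra hge
    push Not at hge
    have := eq_top_of_le_card h C hge
    rw [hCdef] at this
    exact centralizer_ne_top h hz1 this
  -- the conjugacy class of z
  obtain ⟨cls, hcls⟩ : ∃ cls : Set G, cls = MulAction.orbit (ConjAct G) z := ⟨_, rfl⟩
  have hclscard : cls.ncard * Nat.card C = 504 := by
    have h1 := MulAction.index_stabilizer (ConjAct G) z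
    have h2 := Subgroup.card_mul_index (MulAction.stabilizer (ConjAct G) z)
    have h3 := Subgroup.nat_card_centralizer_nat_card_stabilizer z
    have h4 : Nat.card (ConjAct G) = Nat.card G := rfl
    rw [h1, ← h3, h4, h, ← hCdef, ← hcls] at h2
    rw [mul_comm]; exact h2
  have hmemcls : ∀ x : G, x ∈ cls ↔ ∃ g : G, g * z * g⁻¹ = x := by
    intro x
    rw [hcls, ConjAct.mem_orbit_conjAct, isConj_comm, isConj_iff]
  have hclsord : ∀ x ∈ cls, orderOf x = 2 := by
    intro x hx
    obtain ⟨g, rfl⟩ := (hmemcls x).mp hx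
    rw [orderOf_conj', hz2]
  have hclsEv : cls ⊆ Ev G := by
    intro x hx
    show Even (orderOf x)
    rw [hclsord x hx]
    exact even_two
  have hEv63 := ncard_Ev_le h
  -- |C| is 8 or 24
  have hCcases : Nat.card C = 8 ∨ Nat.card C = 24 := by
    obtain ⟨j, hj⟩ := hC8
    rw [hj] at hC504 hC7 hC64 ⊢
    have hj8 : j ≤ 7 := by omega
    interval_cases j <;> omega
  rcases hCcases with hC8' | hC24
  · -- C = T and every element of even order is conjugate to z
    have hcls63 : cls.ncard = 63 := by
      rw [hC8'] at hclscard; omega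
    have hclseq : cls = Ev G :=
      Set.eq_of_subset_of_ncard_le hclsEv (by rw [hcls63]; exact hEv63) (Set.toFinite _)
    have hCT : (T : Subgroup G) = C :=
      Subgroup.eq_of_le_of_card_ge hTC (by rw [hC8', hT8])
    have hTsq : ∀ x ∈ (T : Subgroup G), x ^ 2 = 1 := by
      intro x hx
      by_cases hx1 : x = 1
      · rw [hx1, one_pow]
      · have hord : orderOf x ∣ 8 := by
          rw [← hT8]; exact Subgroup.orderOf_dvd_natCard _ hx
        have hord1 : orderOf x ≠ 1 := fun h' => hx1 (orderOf_eq_one_iff.mp h')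
        have heven : Even (orderOf x) := by
          obtain ⟨o, ho⟩ : ∃ o, orderOf x = o := ⟨_, rfl⟩
          rw [ho] at hord hord1 ⊢
          have hle : o ≤ 8 := Nat.le_of_dvd (by norm_num) hord
          rw [even_iff_two_dvd]
          interval_cases o <;> omega
        have hxE : x ∈ Ev G := heven
        rw [← hclseq] at hxE
        have := hclsord x hxE
        rw [← this]
        exact pow_orderOf_eq_one x
    refine ⟨?_, ?_, ?_⟩
    · intro hcyc
      obtain ⟨g, hg⟩ := @IsCyclic.exists_ofOrder_eq_natCard ↥(T : Subgroup G) _ hcyc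
      rw [hT8] at hg
      have h2 : (g : G) ^ 2 = 1 := hTsq g g.2
      have h3 : orderOf (g : G) ∣ 2 := orderOf_dvd_of_pow_eq_one h2
      rw [Subgroup.orderOf_coe, hg] at h3
      omega
    · intro hn
      rcases hn.eq_bot_or_eq_top with hb | ht
      · rw [hb] at hT8
        simp at hT8
      · rw [ht, Subgroup.card_top, h] at hT8
        omega
    · intro s hs
      have hsE : s ∈ Ev G := by
        show Even (orderOf s)
        rw [hs]; exact even_two
      rw [← hclseq] at hsE
      obtain ⟨g, hg⟩ := (hmemcls s).mp hsE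
      have hsq : ∀ c ∈ Subgroup.centralizer ({s} : Set G), c ^ 2 = 1 := by
        intro c hc
        have hcs : s * c = c * s := Subgroup.mem_centralizer_iff.mp hc s (Set.mem_singleton s)
        have hmem : g⁻¹ * c * g ∈ C := by
          rw [hmemC]
          have e1 : z = g⁻¹ * s * g := by rw [← hg]; group
          rw [e1]
          calc g⁻¹ * s * g * (g⁻¹ * c * g) = g⁻¹ * (s * c) * g := by group
            _ = g⁻¹ * (c * s) * g := by rw [hcs]
            _ = g⁻¹ * c * g * (g⁻¹ * s * g) := by group
        rw [← hCT] at hmem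
        have := hTsq _ hmem
        have e2 : (g⁻¹ * c * g) ^ 2 = g⁻¹ * c ^ 2 * g := by
          have := conj_pow (i := 2) (a := g⁻¹) (b := c)
          rw [inv_inv] at this
          exact this
        rw [e2] at this
        have e3 : c ^ 2 = g * (g⁻¹ * c ^ 2 * g) * g⁻¹ := by group
        rw [e3, this]; group
      refine ⟨⟨⟨?_⟩⟩, hsq⟩
      intro a b
      apply Subtype.ext
      show (a : G) * b = b * a
      have ha := hsq a a.2
      have hb := hsq b b.2
      have hab := hsq ((a : G) * b) (Subgroup.mul_mem _ a.2 b.2)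
      have e1 : (a : G)⁻¹ = a := by
        rw [inv_eq_iff_mul_eq_one, ← pow_two]; exact ha
      have e2 : (b : G)⁻¹ = b := by
        rw [inv_eq_iff_mul_eq_one, ← pow_two]; exact hb
      have e3 : ((a : G) * b)⁻¹ = a * b := by
        rw [inv_eq_iff_mul_eq_one, ← pow_two]; exact hab
      rw [mul_inv_rev, e1, e2] at e3
      exact e3.symm
  · -- |C| = 24 is impossible
    exfalso
    have hcls21 : cls.ncard = 21 := by
      rw [hC24] at hclscard; omega
    have h3C : 3 ∣ Nat.card C := by rw [hC24]; norm_num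
    obtain ⟨d', hd'⟩ := exists_prime_orderOf_dvd_card' (G := ↥C) 3 h3C
    obtain ⟨d, hdd⟩ : ∃ d : G, d = (d' : G) := ⟨_, rfl⟩
    have hd3 : orderOf d = 3 := by rw [hdd, Subgroup.orderOf_coe, hd']
    have hdC : d ∈ C := by rw [hdd]; exact d'.2
    have hd1 : d ≠ 1 := by
      intro h1
      rw [h1, orderOf_one] at hd3
      omega
    have hdpow : d ^ 3 = 1 := by
      rw [← hd3]; exact pow_orderOf_eq_one d
    -- the set of elements of order 3 of C
    obtain ⟨YS, hYS⟩ : ∃ YS : Set G, YS = {y : G | y ∈ C ∧ orderOf y = 3} := ⟨_, rfl⟩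
    have hYSprop : ∀ y ∈ YS, z * y = y * z ∧ y ^ 3 = 1 ∧ y ≠ 1 := by
      intro y hy
      rw [hYS] at hy
      refine ⟨(hmemC y).mp hy.1, ?_, ?_⟩
      · rw [← hy.2]; exact pow_orderOf_eq_one y
      · intro h1
        have := hy.2
        rw [h1, orderOf_one] at this
        omega
    -- choice of conjugating elements
    have hγex : ∀ x : ↥cls, ∃ g : G, g * z * g⁻¹ = (x : G) := fun x => (hmemcls x).mp x.2
    choose γ hγ using hγex
    let Ψ : (↥cls × ↥YS) ⊕ ↥cls → ↥(Ev G) := fun a =>
      match a with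
      | Sum.inl p => ⟨γ p.1 * (z * (p.2 : G)) * (γ p.1)⁻¹, by
          obtain ⟨hc, h3, -⟩ := hYSprop _ p.2.2
          exact aux_even hz2 (aux_pow3 hzz h3 hc) _⟩
      | Sum.inr x => ⟨(x : G), hclsEv x.2⟩
    have hΨ : Function.Injective Ψ := by
      rintro (⟨x, y⟩ | x) (⟨x', y'⟩ | x') hxy
      · have hval : γ x * (z * (y : G)) * (γ x)⁻¹ = γ x' * (z * (y' : G)) * (γ x')⁻¹ :=
          congrArg Subtype.val hxy
        obtain ⟨hc, h3, -⟩ := hYSprop _ y.2
        obtain ⟨hc', h3', -⟩ := hYSprop _ y'.2
        have hcube := congrArg (fun w => w ^ 3) hval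
        simp only [conj_pow, aux_pow3 hzz h3 hc, aux_pow3 hzz h3' hc', hγ] at hcube
        have hxx : x = x' := Subtype.ext hcube
        subst hxx
        have h5 : z * (y : G) = z * (y' : G) := by
          have e1 : z * (y : G) = (γ x)⁻¹ * (γ x * (z * (y : G)) * (γ x)⁻¹) * γ x := by group
          rw [e1, hval]; group
        have hyy : y = y' := Subtype.ext (mul_left_cancel h5)
        rw [hyy]
      · exfalso
        have hval : γ x * (z * (y : G)) * (γ x)⁻¹ = (x' : G) := congrArg Subtype.val hxy
        obtain ⟨hc, h3, hy1⟩ := hYSprop _ y.2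
        have h2 := hclsord _ x'.2
        rw [← hval, orderOf_conj'] at h2
        exact aux_not2 hzz h3 hy1 hc h2
      · exfalso
        have hval : (x : G) = γ x' * (z * (y' : G)) * (γ x')⁻¹ := congrArg Subtype.val hxy
        obtain ⟨hc, h3, hy1⟩ := hYSprop _ y'.2
        have h2 := hclsord _ x.2
        rw [hval, orderOf_conj'] at h2
        exact aux_not2 hzz h3 hy1 hc h2
      · have hval : (x : G) = (x' : G) := congrArg (fun w : ↥(Ev G) => (w : G)) hxy
        rw [Subtype.ext hval]
    have hcardle := Nat.card_le_card_of_injective Ψ hΨ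
    rw [Nat.card_sum, Nat.card_prod, Nat.card_coe_set_eq, Nat.card_coe_set_eq, Nat.card_coe_set_eq,
      hcls21] at hcardle
    have hYS2 : YS.ncard ≤ 2 := by omega
    -- hence ⟨d⟩ is normalized by C
    have hdinv : d⁻¹ ≠ d := by
      intro he
      have : d ^ 2 = 1 := by
        rw [pow_two]
        nth_rewrite 1 [← he]
        exact inv_mul_cancel d
      have := orderOf_dvd_of_pow_eq_one this
      rw [hd3] at this
      omega
    have hdY : d ∈ YS := by rw [hYS]; exact ⟨hdC, hd3⟩
    have hdiY : d⁻¹ ∈ YS := by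
      rw [hYS]; exact ⟨C.inv_mem hdC, by rw [orderOf_inv, hd3]⟩
    have hnorm : ∀ c ∈ C, c * d * c⁻¹ ∈ Subgroup.zpowers d := by
      intro c hc
      by_contra hnot
      have hyY : c * d * c⁻¹ ∈ YS := by
        rw [hYS]
        exact ⟨C.mul_mem (C.mul_mem hc hdC) (C.inv_mem hc), by rw [orderOf_conj', hd3]⟩
      have hne1 : c * d * c⁻¹ ≠ d := by
        intro he; apply hnot; rw [he]; exact Subgroup.mem_zpowers d
      have hne2 : c * d * c⁻¹ ≠ d⁻¹ := by
        intro he; apply hnot; rw [he]; exact (Subgroup.zpowers d).inv_mem (Subgroup.mem_zpowers d)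
      have hsub : ({c * d * c⁻¹, d⁻¹, d} : Set G) ⊆ YS := by
        intro w hw
        rcases hw with rfl | rfl | rfl
        · exact hyY
        · exact hdiY
        · exact hdY
      have hcard3 : ({c * d * c⁻¹, d⁻¹, d} : Set G).ncard = 3 := by
        rw [Set.ncard_insert_of_notMem (by
          intro hm
          rcases hm with hm | hm
          · exact hne2 hm
          · exact hne1 hm) (Set.toFinite _), Set.ncard_pair hdinv]
      have := Set.ncard_le_ncard hsub (Set.toFinite _)
      omega
    have hCN : C ≤ Subgroup.normalizer ((Subgroup.zpowers d : Subgroup G) : Set G) := by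
      apply le_normalizer_of_conj_mem
      intro k hk x hx
      obtain ⟨i, rfl⟩ := Subgroup.mem_zpowers_iff.mp hx
      rw [← conj_zpow]
      exact (Subgroup.zpowers d).zpow_mem (hnorm k hk) i
    have hpg : IsPGroup 3 (Subgroup.zpowers d) :=
      IsPGroup.of_card (n := 1) (by rw [Nat.card_zpowers, hd3, pow_one])
    obtain ⟨Q, hQ⟩ := hpg.exists_le_sylow
    have hQN : (Q : Subgroup G) ≤ Subgroup.normalizer ((Subgroup.zpowers d : Subgroup G) : Set G) := by
      apply le_normalizer_of_conj_mem
      intro k hk x hx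
      have hxQ : x ∈ (Q : Subgroup G) := hQ hx
      have := sylow3_comm h Q hk hxQ
      rw [this, mul_inv_cancel_right]
      exact hx
    have h24 : 24 ∣ Nat.card (Subgroup.normalizer ((Subgroup.zpowers d : Subgroup G) : Set G)) := by
      rw [← hC24]; exact Subgroup.card_dvd_of_le hCN
    have h9 : 9 ∣ Nat.card (Subgroup.normalizer ((Subgroup.zpowers d : Subgroup G) : Set G)) := by
      rw [← (sylow3 h Q).1]; exact Subgroup.card_dvd_of_le hQN
    have h64 : 64 ≤ Nat.card (Subgroup.normalizer ((Subgroup.zpowers d : Subgroup G) : Set G)) := by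
      have hpos : 0 < Nat.card (Subgroup.normalizer ((Subgroup.zpowers d : Subgroup G) : Set G)) :=
        Nat.card_pos
      omega
    have hNtop := eq_top_of_le_card h _ h64
    have hWn : (Subgroup.zpowers d).Normal := Subgroup.normalizer_eq_top_iff.mp hNtop
    have hc3 : Nat.card (Subgroup.zpowers d) = 3 := by rw [Nat.card_zpowers, hd3]
    rcases hWn.eq_bot_or_eq_top with hb | ht
    · rw [hb] at hc3
      simp at hc3
    · rw [ht, Subgroup.card_top, h] at hc3
      omega

end Cfsg.Agent.helper11.O504
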