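import Mathlib

set_option autoImplicit false
set_option linter.unusedSectionVars false
set_option linter.unusedVariables false

/-! Surjectivity of the norm `a ↦ a * σ a` onto the `σ`-fixed units of a finite commutative
ring with an involution `σ` admitting `θ` with `θ - σ θ` a unit. -/

namespace Cfsg.Agent.helper14.NormSurj

theorem exists_idem_pow {M : Type*} [Monoid M] [Finite M] (z : M) :
    ∃ m : ℕ, 1 ≤ m ∧ z ^ m * z ^ m = z ^ m := by
  obtain ⟨i, j, hij, h⟩ := Finite.exists_ne_map_eq_of_infinite (fun k : ℕ => z ^ k)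
  wlog hlt : i < j generalizing i j
  · exact this j i hij.symm h.symm (lt_of_le_of_ne (not_lt.mp hlt) hij.symm)
  obtain ⟨p, hp, rfl⟩ : ∃ p, 1 ≤ p ∧ j = i + p := ⟨j - i, by omega, by omega⟩
  change z ^ i = z ^ (i + p) at h
  have h1 : ∀ a, i ≤ a → z ^ (a + p) = z ^ a := by
    intro a ha
    obtain ⟨b, rfl⟩ := Nat.exists_eq_add_of_le ha
    rw [show i + b + p = b + (i + p) by ring, pow_add, ← h, ← pow_add, add_comm]
  have h2 : ∀ k a, i ≤ a → z ^ (a + k * p) = z ^ a := by
    intro k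
    induction k with
    | zero => intro a _; simp
    | succ k ih =>
      intro a ha
      rw [show a + (k + 1) * p = (a + k * p) + p by ring, h1 _ (le_trans ha (Nat.le_add_right _ _)),
        ih a ha]
  refine ⟨(i + 1) * p, Nat.mul_pos (Nat.succ_pos i) hp, ?_⟩
  rw [← pow_add]
  exact h2 (i + 1) ((i + 1) * p) (by nlinarith)

section ring

variable {R : Type*} [CommRing R] [Finite R] (σ : R →+* R) (hσ : ∀ x, σ (σ x) = x) (θ : R)
  (hθ : IsUnit (θ - σ θ))

include hσ hθ in
theorem hilbert90 (x : R) (hx : x * σ x = 1) : ∃ y : R, IsUnit y ∧ x * σ y = y := by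
  obtain ⟨z, hz⟩ : ∃ z : R, z = 1 + x := ⟨_, rfl⟩
  obtain ⟨m, hm, he0⟩ := exists_idem_pow z
  obtain ⟨e, hedef⟩ : ∃ e : R, e = z ^ m := ⟨_, rfl⟩
  have he : e * e = e := by rw [hedef]; exact he0
  have hxz : x = z - 1 := by rw [hz]; ring
  have hσz : σ z = σ x * z := by
    rw [hz, map_add, map_one, mul_add, mul_one, mul_comm (σ x) x, hx, add_comm]
  have hσe : σ e = (σ x) ^ m * e := by rw [hedef, map_pow, hσz, mul_pow]
  have hσe' : e = x ^ m * σ e := by
    rw [hσe, ← mul_assoc, ← mul_pow, hx, one_pow, one_mul]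
  have hσee : σ e * σ e = σ e := by rw [← map_mul, he]
  have hee : σ e = e := by
    have h1 : e * σ e = σ e := by
      calc e * σ e = (σ x) ^ m * (e * e) := by rw [hσe]; ring
        _ = σ e := by rw [he, hσe]
    have h2 : e * σ e = e := by
      calc e * σ e = (x ^ m * σ e) * σ e := congrArg (· * σ e) hσe'
        _ = x ^ m * (σ e * σ e) := by ring
        _ = e := by rw [hσee, ← hσe']
    exact h1.symm.trans h2
  obtain ⟨u, hu⟩ : ∃ u : R, u = θ - σ θ := ⟨_, rfl⟩
  rw [← hu] at hθ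
  -- nilpotent part
  have e1 : e * (1 - e) = 0 := by rw [mul_sub, mul_one, he, sub_self]
  have e2 : (1 - e) * (1 - e) = 1 - e := by linear_combination he
  have hnil : IsNilpotent ((1 - e) * z * σ θ) := by
    refine ⟨m, ?_⟩
    obtain ⟨m', rfl⟩ : ∃ m', m = m' + 1 := ⟨m - 1, by omega⟩
    rw [mul_pow, mul_pow, ← hedef, pow_succ (1 - e), mul_assoc ((1 - e) ^ m'), mul_comm (1 - e) e, e1,
      mul_zero, zero_mul]
  obtain ⟨t, ht⟩ : ∃ t : R, t = u + (1 - e) * z * σ θ := ⟨_, rfl⟩
  have htu : IsUnit t := by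
    rw [ht]
    exact hnil.isUnit_add_left_of_commute hθ (Commute.all _ _)
  obtain ⟨t', htt'⟩ := htu.exists_right_inv
  obtain ⟨zp, hzp⟩ : ∃ zp : R, z * zp = e := by
    obtain ⟨m', rfl⟩ : ∃ m', m = m' + 1 := ⟨m - 1, by omega⟩
    exact ⟨z ^ m', by rw [hedef, pow_succ']⟩
  have e3 : (1 - e) * (θ + x * σ θ) = (1 - e) * t := by
    rw [ht, hu, hxz]
    linear_combination (-(z * σ θ)) * he
  refine ⟨e * z + (1 - e) * (θ + x * σ θ), ?_, ?_⟩
  · refine IsUnit.of_mul_eq_one (e * zp + (1 - e) * t') ?_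
    calc (e * z + (1 - e) * (θ + x * σ θ)) * (e * zp + (1 - e) * t')
        = e * e * (z * zp) + (e * (1 - e)) * (z * t') + (e * (1 - e)) * ((θ + x * σ θ) * zp)
          + ((1 - e) * (θ + x * σ θ)) * ((1 - e) * t') := by ring
      _ = e * e * e + (1 - e) * (1 - e) * (t * t') := by rw [hzp, e1, e3]; ring
      _ = 1 := by rw [he, he, e2, htt']; ring
  · rw [map_add, map_mul, map_mul, map_sub, map_one, hee, hσz, map_add, map_mul, hσ]
    linear_combination (e * z + (1 - e) * θ) * hx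

include hσ hθ in
theorem norm_surj (t : R) (ht : IsUnit t) (hσt : σ t = t) : ∃ a : R, a * σ a = t := by
  classical
  let σu : Rˣ →* Rˣ := Units.map σ.toMonoidHom
  have hσu : ∀ a : Rˣ, ((σu a : Rˣ) : R) = σ (a : R) := fun a => rfl
  have hσσ : ∀ a : Rˣ, σu (σu a) = a := fun a => Units.ext (hσ _)
  let N : Rˣ →* Rˣ :=
    { toFun := fun a => a * σu a
      map_one' := by simp
      map_mul' := fun a b => by rw [map_mul]; exact mul_mul_mul_comm a b (σu a) (σu b) }
  let D : Rˣ →* Rˣ :=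
    { toFun := fun a => a * (σu a)⁻¹
      map_one' := by simp
      map_mul' := fun a b => by rw [map_mul, mul_inv]; exact mul_mul_mul_comm _ _ _ _ }
  have hN : ∀ a, N a = a * σu a := fun a => rfl
  have hD : ∀ a, D a = a * (σu a)⁻¹ := fun a => rfl
  have hkerN : N.ker = D.range := by
    ext x
    rw [MonoidHom.mem_ker, MonoidHom.mem_range]
    constructor
    · intro hx
      have hx' : (x : R) * σ (x : R) = 1 := by
        have := congrArg Units.val hx
        rwa [hN, Units.val_mul, hσu, Units.val_one] at this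
      obtain ⟨y, hy, hxy⟩ := hilbert90 σ hσ θ hθ (x : R) hx'
      refine ⟨hy.unit, ?_⟩
      rw [hD, mul_inv_eq_iff_eq_mul]
      apply Units.ext
      rw [Units.val_mul, hσu, IsUnit.unit_spec, hxy]
    · rintro ⟨y, rfl⟩
      rw [hN, hD, map_mul, map_inv, hσσ, mul_comm (σu y) y⁻¹, mul_mul_mul_comm]
      simp
  have hkerD : ∀ y : Rˣ, y ∈ D.ker ↔ σu y = y := by
    intro y
    rw [MonoidHom.mem_ker, hD, mul_inv_eq_one]
    exact eq_comm
  have hrange_le : N.range ≤ D.ker := by
    rintro _ ⟨a, rfl⟩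
    rw [hkerD, hN, map_mul, hσσ, mul_comm]
  have hcard : Nat.card N.range = Nat.card D.ker := by
    have h1 := Subgroup.card_mul_index N.ker
    have h2 := Subgroup.card_mul_index D.ker
    rw [Subgroup.index_ker] at h1 h2
    rw [hkerN] at h1
    have hpos : 0 < Nat.card D.range := Nat.card_pos
    exact Nat.eq_of_mul_eq_mul_left hpos (by rw [h1, mul_comm, h2])
  have heq : N.range = D.ker := Subgroup.eq_of_le_of_card_ge hrange_le (by rw [hcard])
  have hmem : ht.unit ∈ D.ker := by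
    rw [hkerD]
    apply Units.ext
    rw [hσu, IsUnit.unit_spec, hσt]
  rw [← heq] at hmem
  obtain ⟨a, ha⟩ := hmem
  refine ⟨(a : R), ?_⟩
  have := congrArg Units.val ha
  rwa [hN, Units.val_mul, hσu, IsUnit.unit_spec] at this

end ring

end Cfsg.Agent.helper14.NormSurj
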