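import Mathlib
import Cfsg.Agent.Lib_helper11_OConjA

/-! Adjoint with respect to a symmetric invertible Gram matrix and the matrix form of the conjugacy
argument for isometries of odd order. -/

set_option autoImplicit false

namespace Cfsg.Agent.helper11.OConj

open Polynomial Matrix

section dagger
variable {F : Type*} [Field F] {n : Type*} [Fintype n] [DecidableEq n]
variable (Gi G : Matrix n n F)

/-- the adjoint with respect to the Gram matrix `G` (with inverse `Gi`). -/
def oDag (M : Matrix n n F) : Matrix n n F := Gi * Mᵀ * G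

variable {Gi G}

theorem oDag_mul (h2 : G * Gi = 1) (M N : Matrix n n F) :
    oDag Gi G (M * N) = oDag Gi G N * oDag Gi G M := by
  unfold oDag
  have h : Gi * Nᵀ * G * (Gi * Mᵀ * G) = Gi * Nᵀ * (G * Gi) * Mᵀ * G := by
    simp only [Matrix.mul_assoc]
  rw [h, h2, Matrix.mul_one, Matrix.transpose_mul]
  simp only [Matrix.mul_assoc]

theorem oDag_add (M N : Matrix n n F) : oDag Gi G (M + N) = oDag Gi G M + oDag Gi G N := by
  unfold oDag
  rw [Matrix.transpose_add, Matrix.mul_add, Matrix.add_mul]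

theorem oDag_sub (M N : Matrix n n F) : oDag Gi G (M - N) = oDag Gi G M - oDag Gi G N := by
  unfold oDag
  rw [Matrix.transpose_sub, Matrix.mul_sub, Matrix.sub_mul]

theorem oDag_zero : oDag Gi G (0 : Matrix n n F) = 0 := by
  unfold oDag
  rw [Matrix.transpose_zero, Matrix.mul_zero, Matrix.zero_mul]

theorem oDag_one (h1 : Gi * G = 1) : oDag Gi G (1 : Matrix n n F) = 1 := by
  unfold oDag
  rw [Matrix.transpose_one, Matrix.mul_one, h1]

theorem oDag_smul (c : F) (M : Matrix n n F) : oDag Gi G (c • M) = c • oDag Gi G M := by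
  unfold oDag
  rw [Matrix.transpose_smul, Matrix.mul_smul, Matrix.smul_mul]

theorem oDag_algebraMap (h1 : Gi * G = 1) (c : F) :
    oDag Gi G (algebraMap F (Matrix n n F) c) = algebraMap F (Matrix n n F) c := by
  rw [Algebra.algebraMap_eq_smul_one, oDag_smul, oDag_one h1]

theorem Gi_transpose (h1 : Gi * G = 1) (h2 : G * Gi = 1) (hs : Gᵀ = G) : Giᵀ = Gi := by
  have h3 : Giᵀ * G = 1 := by
    have := congrArg Matrix.transpose h2
    rwa [Matrix.transpose_mul, hs, Matrix.transpose_one] at this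
  calc Giᵀ = Giᵀ * (G * Gi) := by rw [h2, Matrix.mul_one]
    _ = (Giᵀ * G) * Gi := by rw [Matrix.mul_assoc]
    _ = Gi := by rw [h3, Matrix.one_mul]

theorem oDag_oDag (h1 : Gi * G = 1) (h2 : G * Gi = 1) (hs : Gᵀ = G) (M : Matrix n n F) :
    oDag Gi G (oDag Gi G M) = M := by
  unfold oDag
  rw [Matrix.transpose_mul, Matrix.transpose_mul, Matrix.transpose_transpose, hs,
    Gi_transpose h1 h2 hs]
  have h : Gi * (G * (M * Gi)) * G = (Gi * G) * M * (Gi * G) := by
    simp only [Matrix.mul_assoc]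
  rw [h, h1, Matrix.one_mul, Matrix.mul_one]

theorem oDag_pow (h1 : Gi * G = 1) (h2 : G * Gi = 1) (M : Matrix n n F) (k : ℕ) :
    oDag Gi G (M ^ k) = oDag Gi G M ^ k := by
  induction k with
  | zero => rw [pow_zero, pow_zero, oDag_one h1]
  | succ k ih => rw [pow_succ, oDag_mul h2, ih, pow_succ']

/-- the adjoint identity -/
theorem oDag_adj (h2 : G * Gi = 1) (M : Matrix n n F) (u v : n → F) :
    (M *ᵥ u) ⬝ᵥ (G *ᵥ v) = u ⬝ᵥ (G *ᵥ (oDag Gi G M *ᵥ v)) := by
  unfold oDag
  rw [Matrix.mulVec_mulVec, ← Matrix.mul_assoc, ← Matrix.mul_assoc, h2, Matrix.one_mul,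
    ← Matrix.mulVec_mulVec]
  conv_rhs => rw [Matrix.dotProduct_mulVec, Matrix.vecMul_transpose]

theorem eq_zero_of_form (h1 : Gi * G = 1) (N : Matrix n n F)
    (h : ∀ u v : n → F, u ⬝ᵥ (G *ᵥ (N *ᵥ v)) = 0) : N = 0 := by
  have h3 : ∀ v : n → F, (G * N) *ᵥ v = 0 := by
    intro v
    rw [← Matrix.mulVec_mulVec]
    apply dotProduct_eq_zero
    intro w
    rw [dotProduct_comm]
    exact h w v
  have h4 : G * N = 0 := by
    apply Matrix.toLin'.injective
    apply LinearMap.ext
    intro v
    rw [Matrix.toLin'_apply, h3, map_zero, LinearMap.zero_apply]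
  calc N = (Gi * G) * N := by rw [h1, Matrix.one_mul]
    _ = Gi * (G * N) := by rw [Matrix.mul_assoc]
    _ = 0 := by rw [h4, Matrix.mul_zero]

end dagger

section main
variable {F : Type*} [Field F] {n : Type*} [Fintype n] [DecidableEq n]

open scoped IsMulCommutative in
theorem oconj_main [Finite F] (Gi G A B x : Matrix n n F) (h1 : Gi * G = 1) (h2 : G * Gi = 1)
    (hGs : Gᵀ = G) (hA : oDag Gi G A * A = 1) (hB : oDag Gi G B * B = 1)
    (hx : x.det ≠ 0) (hxA : x * A = B * x) (N : ℕ) (hNodd : Odd N) (hN : A ^ N = 1)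
    (hNF : (N : F) ≠ 0) :
    ∃ E H K w : Matrix n n F, E * E = E ∧ oDag Gi G E = E ∧ A * E = E * A ∧
      A * (1 - E) = 1 - E ∧ w * E = E * w ∧ (A - 1) * w = E ∧ H * A = B * H ∧
      E * (oDag Gi G H * H) * E = E ∧ E * K = K ∧ B - 1 = H * K ∧ H.det ≠ 0 := by
  classical
  have hA' : A * oDag Gi G A = 1 := mul_eq_one_comm.mp hA
  have hB' : B * oDag Gi G B = 1 := mul_eq_one_comm.mp hB
  obtain ⟨s, hs⟩ : ∃ s : Matrix n n F, s = oDag Gi G x * x := ⟨_, rfl⟩
  have h1' : oDag Gi G A * oDag Gi G x = oDag Gi G x * oDag Gi G B := by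
    rw [← oDag_mul h2, ← oDag_mul h2, hxA]
  have h2' : oDag Gi G x * B = A * oDag Gi G x := by
    calc oDag Gi G x * B = (A * oDag Gi G A) * oDag Gi G x * B := by rw [hA', one_mul]
      _ = A * (oDag Gi G A * oDag Gi G x) * B := by rw [mul_assoc A]
      _ = A * (oDag Gi G x * oDag Gi G B) * B := by rw [h1']
      _ = A * oDag Gi G x * (oDag Gi G B * B) := by simp only [mul_assoc]
      _ = A * oDag Gi G x := by rw [hB, mul_one]
  have hsA : s * A = A * s := by
    calc s * A = oDag Gi G x * (x * A) := by rw [hs, mul_assoc]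
      _ = (oDag Gi G x * B) * x := by rw [hxA, mul_assoc]
      _ = A * s := by rw [h2', hs, mul_assoc]
  have hsd : oDag Gi G s = s := by rw [hs, oDag_mul h2, oDag_oDag h1 h2 hGs]
  have hxu : IsUnit x := (Matrix.isUnit_iff_isUnit_det x).mpr (IsUnit.mk0 _ hx)
  obtain ⟨x', hx'⟩ := hxu.exists_right_inv
  have hx'' : x' * x = 1 := mul_eq_one_comm.mp hx'
  have hdx : IsUnit (oDag Gi G x) := by
    have h3 : oDag Gi G x' * oDag Gi G x = 1 := by rw [← oDag_mul h2, hx', oDag_one h1]
    exact IsUnit.of_mul_eq_one_right _ h3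
  have hsu : IsUnit s := by
    rw [hs]
    exact hdx.mul hxu
  have hsdet : s.det ≠ 0 := ((Matrix.isUnit_iff_isUnit_det s).mp hsu).ne_zero
  have hN0 : N ≠ 0 := by
    rintro rfl
    exact hNF Nat.cast_zero
  have hdA : oDag Gi G A = A ^ (N - 1) := by
    obtain ⟨j, hj⟩ : ∃ j, N = j + 1 := ⟨N - 1, by omega⟩
    have hN' : A * A ^ j = 1 := by
      rw [← pow_succ', ← hj]
      exact hN
    rw [hj, Nat.add_sub_cancel]
    calc oDag Gi G A = oDag Gi G A * (A * A ^ j) := by rw [hN', mul_one]
      _ = oDag Gi G A * A * A ^ j := by rw [mul_assoc]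
      _ = A ^ j := by rw [hA, one_mul]
  have hcomm : ∀ a ∈ ({A, s} : Set (Matrix n n F)), ∀ b ∈ ({A, s} : Set (Matrix n n F)),
      a * b = b * a := by
    intro a ha b hb
    simp only [Set.mem_insert_iff, Set.mem_singleton_iff] at ha hb
    rcases ha with ha | ha <;> rcases hb with hb | hb <;> rw [ha, hb]
    · exact hsA.symm
    · exact hsA
  obtain ⟨S, hSdef⟩ : ∃ S : Subalgebra F (Matrix n n F),
      S = Algebra.adjoin F ({A, s} : Set (Matrix n n F)) := ⟨_, rfl⟩
  have : IsMulCommutative S := by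
    rw [hSdef]
    exact Algebra.isMulCommutative_adjoin F hcomm
  have hAS : A ∈ S := by
    rw [hSdef]
    exact Algebra.subset_adjoin (Set.mem_insert _ _)
  have hsS : s ∈ S := by
    rw [hSdef]
    exact Algebra.subset_adjoin (Set.mem_insert_of_mem _ (Set.mem_singleton _))
  have hclosed : ∀ r : Matrix n n F, r ∈ S → oDag Gi G r ∈ S := by
    intro r hr
    rw [hSdef] at hr
    induction hr using Algebra.adjoin_induction with
    | mem y hy =>
      simp only [Set.mem_insert_iff, Set.mem_singleton_iff] at hy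
      rcases hy with hy | hy
      · rw [hy, hdA]
        exact Subalgebra.pow_mem _ hAS _
      · rw [hy, hsd]
        exact hsS
    | algebraMap c =>
      rw [oDag_algebraMap h1]
      exact Subalgebra.algebraMap_mem _ _
    | add y z _ _ hy hz =>
      rw [oDag_add]
      exact Subalgebra.add_mem _ hy hz
    | mul y z _ _ hy hz =>
      rw [oDag_mul h2]
      exact Subalgebra.mul_mem _ hz hy
  obtain ⟨σS, hσS⟩ : ∃ σS : ↥S →+* ↥S, ∀ r : ↥S,
      ((σS r : ↥S) : Matrix n n F) = oDag Gi G (r : Matrix n n F) :=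
    ⟨{ toFun := fun r => ⟨oDag Gi G (r : Matrix n n F), hclosed _ r.2⟩
       map_one' := Subtype.ext (oDag_one h1)
       map_zero' := Subtype.ext oDag_zero
       map_add' := fun y z => Subtype.ext (oDag_add _ _)
       map_mul' := fun y z => Subtype.ext (by
         show oDag Gi G ((y : Matrix n n F) * (z : Matrix n n F)) =
           oDag Gi G (y : Matrix n n F) * oDag Gi G (z : Matrix n n F)
         rw [oDag_mul h2]
         exact congrArg Subtype.val
           (mul_comm (⟨oDag Gi G (z : Matrix n n F), hclosed _ z.2⟩ : ↥S)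
             ⟨oDag Gi G (y : Matrix n n F), hclosed _ y.2⟩)) },
      fun r => rfl⟩
  have hσσ : ∀ r, σS (σS r) = r := fun r => Subtype.ext (by rw [hσS, hσS, oDag_oDag h1 h2 hGs])
  have haa' : (⟨A, hAS⟩ : ↥S) * σS ⟨A, hAS⟩ = 1 := by
    apply Subtype.ext
    have h3 : (((⟨A, hAS⟩ : ↥S) * σS ⟨A, hAS⟩ : ↥S) : Matrix n n F) =
        A * ((σS ⟨A, hAS⟩ : ↥S) : Matrix n n F) := rfl
    rw [h3, hσS]
    exact hA'
  have hsfin : ∃ k : ℕ, 0 < k ∧ s ^ k = 1 := by
    let sU : (Matrix n n F)ˣ := hsu.unit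
    haveI : Finite (Matrix n n F)ˣ := inferInstance
    have h3 : sU ^ Nat.card (Matrix n n F)ˣ = 1 := pow_card_eq_one'
    refine ⟨Nat.card (Matrix n n F)ˣ, Nat.card_pos, ?_⟩
    have := congrArg Units.val h3
    rwa [Units.val_pow_eq_pow_val, Units.val_one] at this
  have htu : IsUnit (⟨s, hsS⟩ : ↥S) := by
    obtain ⟨k, hk, h4⟩ := hsfin
    refine IsUnit.of_pow_eq_one (n := k) ?_ hk.ne'
    apply Subtype.ext
    rw [SubmonoidClass.coe_pow]
    exact h4
  have hσt : σS ⟨s, hsS⟩ = ⟨s, hsS⟩ := Subtype.ext (by rw [hσS, hsd])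
  have hred : ∀ (q : F[X]) (k : ℕ), (aeval (⟨A, hAS⟩ : ↥S) q) ^ k = 0 →
      aeval (⟨A, hAS⟩ : ↥S) q = 0 := by
    intro q k h
    apply Subtype.ext
    rw [Polynomial.aeval_subalgebra_coe]
    apply reduced_of_pow A N hN hNF q k
    have h3 := congrArg Subtype.val h
    rw [SubmonoidClass.coe_pow, Polynomial.aeval_subalgebra_coe] at h3
    exact h3
  have hNS : (⟨A, hAS⟩ : ↥S) ^ N = 1 := by
    apply Subtype.ext
    rw [SubmonoidClass.coe_pow]
    exact hN
  haveI : Finite ↥S := Finite.of_injective (fun r : ↥S => (r : Matrix n n F)) Subtype.val_injective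
  obtain ⟨e, c, w, hee, hσe, haf, hw, hc, hec⟩ := ring_odd (F := F) σS hσσ ⟨A, hAS⟩
    (σS ⟨A, hAS⟩) ⟨s, hsS⟩ haa' rfl htu hσt N hNodd hNS hred
  -- the inverse of s in S
  obtain ⟨t, ht⟩ := htu.exists_right_inv
  -- D = t * σ c, pseudo-inverse of c
  obtain ⟨D, hD⟩ : ∃ D : ↥S, D = t * σS c := ⟨_, rfl⟩
  have hDc : D * c = e := by
    rw [hD]
    calc t * σS c * c = t * (c * σS c) := by ring
      _ = e * (⟨s, hsS⟩ * t) := by rw [hc]; ring
      _ = e := by rw [ht, mul_one]
  have hσt' : σS t = t := by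
    have h3 : σS (⟨s, hsS⟩ * t) = 1 := by rw [ht, map_one]
    rw [map_mul, hσt] at h3
    calc σS t = (t * ⟨s, hsS⟩) * σS t := by rw [mul_comm t, ht, one_mul]
      _ = t * (⟨s, hsS⟩ * σS t) := by ring
      _ = t := by rw [h3, mul_one]
  have hσD : σS D = t * c := by rw [hD, map_mul, hσσ, hσt']
  have heD : e * D = D := by
    rw [hD]
    have : σS c = e * σS c := by
      conv_lhs => rw [← hec, map_mul, hσe]
    calc e * (t * σS c) = t * (e * σS c) := by ring
      _ = t * σS c := by rw [← this]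
  obtain ⟨f, hf⟩ : ∃ f : ↥S, f = 1 - e := ⟨_, rfl⟩
  have hef : e * f = 0 := by rw [hf, mul_sub, mul_one, hee, sub_self]
  have hσf : σS f = f := by rw [hf, map_sub, map_one, hσe]
  -- the matrices
  refine ⟨(e : Matrix n n F), x * ((D : Matrix n n F) + (f : Matrix n n F)),
    (c : Matrix n n F) * ((A - 1) * x'), (e : Matrix n n F) * (w : Matrix n n F), ?_, ?_, ?_, ?_,
    ?_, ?_, ?_, ?_, ?_, ?_, ?_⟩
  · exact congrArg Subtype.val hee
  · exact (hσS e).symm.trans (congrArg Subtype.val hσe)
  · exact congrArg Subtype.val (mul_comm (⟨A, hAS⟩ : ↥S) e)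
  · have := congrArg Subtype.val haf
    exact this
  · have : (e * w) * e = e * (e * w) := by ring
    exact congrArg Subtype.val this
  · have : ((⟨A, hAS⟩ : ↥S) - 1) * (e * w) = e := by
      calc ((⟨A, hAS⟩ : ↥S) - 1) * (e * w) = e * (((⟨A, hAS⟩ : ↥S) - 1) * w) := by ring
        _ = e := by rw [hw, hee]
    exact congrArg Subtype.val this
  · have h3 : (D + f) * (⟨A, hAS⟩ : ↥S) = ⟨A, hAS⟩ * (D + f) := mul_comm _ _
    have h4 : ((D : Matrix n n F) + (f : Matrix n n F)) * A =
        A * ((D : Matrix n n F) + (f : Matrix n n F)) := congrArg Subtype.val h3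
    calc x * ((D : Matrix n n F) + (f : Matrix n n F)) * A
        = x * (((D : Matrix n n F) + (f : Matrix n n F)) * A) := by rw [mul_assoc]
      _ = (x * A) * ((D : Matrix n n F) + (f : Matrix n n F)) := by rw [h4, mul_assoc]
      _ = B * (x * ((D : Matrix n n F) + (f : Matrix n n F))) := by rw [hxA, mul_assoc]
  · have h3 : oDag Gi G (x * ((D : Matrix n n F) + (f : Matrix n n F))) *
        (x * ((D : Matrix n n F) + (f : Matrix n n F))) =
        ((σS (D + f) * ⟨s, hsS⟩ * (D + f) : ↥S) : Matrix n n F) := by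
      rw [oDag_mul h2]
      have h4 : ((σS (D + f) * ⟨s, hsS⟩ * (D + f) : ↥S) : Matrix n n F) =
          ((σS (D + f) : ↥S) : Matrix n n F) * s *
            ((D : Matrix n n F) + (f : Matrix n n F)) := rfl
      rw [h4, hσS, hs]
      have h5 : ((D + f : ↥S) : Matrix n n F) = (D : Matrix n n F) + (f : Matrix n n F) := rfl
      rw [h5]
      simp only [mul_assoc]
    rw [h3]
    have h6 : e * (σS (D + f) * ⟨s, hsS⟩ * (D + f)) * e = e := by
      rw [map_add, hσD, hσf]
      have h7 : e * ((t * c + f) * ⟨s, hsS⟩ * (D + f)) * e =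
          (⟨s, hsS⟩ * t) * (D * c) * (e * e) + (e * f) * (t * c * ⟨s, hsS⟩ * e
            + f * ⟨s, hsS⟩ * e + ⟨s, hsS⟩ * D * e) := by ring
      rw [h7, ht, hDc, hee, hef, zero_mul, add_zero, one_mul, hee]
    exact congrArg Subtype.val h6
  · have h3 : (e : Matrix n n F) * (c : Matrix n n F) = c := congrArg Subtype.val hec
    rw [← mul_assoc, h3]
  · have h3 : (D + f) * c = e := by
      have : f * c = 0 := by
        calc f * c = f * (e * c) := by rw [hec]
          _ = (e * f) * c := by ring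
          _ = 0 := by rw [hef, zero_mul]
      rw [add_mul, hDc, this, add_zero]
    have h4 : ((D : Matrix n n F) + (f : Matrix n n F)) * (c : Matrix n n F) = e :=
      congrArg Subtype.val h3
    have h5 : (A - 1) * (1 - (e : Matrix n n F)) = 0 := by
      have : ((⟨A, hAS⟩ : ↥S) - 1) * (1 - e) = 0 := by
        rw [sub_mul, one_mul, haf, sub_self]
      exact congrArg Subtype.val this
    have h6 : (e : Matrix n n F) * (A - 1) = A - 1 := by
      have h7 : (e : Matrix n n F) * (A - 1) = (A - 1) * (e : Matrix n n F) := by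
        have : e * ((⟨A, hAS⟩ : ↥S) - 1) = ((⟨A, hAS⟩ : ↥S) - 1) * e := mul_comm _ _
        exact congrArg Subtype.val this
      rw [h7]
      have h8 : (A - 1) * (e : Matrix n n F) = (A - 1) - (A - 1) * (1 - (e : Matrix n n F)) := by
        rw [mul_sub, mul_one]
        abel
      rw [h8, h5, sub_zero]
    calc B - 1 = (B * x - x) * x' := by rw [sub_mul, mul_assoc, hx', mul_one]
      _ = (x * (A - 1)) * x' := by rw [mul_sub, mul_one, hxA]
      _ = (x * ((e : Matrix n n F) * (A - 1))) * x' := by rw [h6]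
      _ = (x * ((((D : Matrix n n F) + (f : Matrix n n F)) * (c : Matrix n n F)) * (A - 1))) *
          x' := by rw [h4]
      _ = x * ((D : Matrix n n F) + (f : Matrix n n F)) * ((c : Matrix n n F) * ((A - 1) * x')) := by
        simp only [mul_assoc]
  · have h3 : (D + f) * (c + f) = 1 := by
      have hfc : f * c = 0 := by
        calc f * c = f * (e * c) := by rw [hec]
          _ = (e * f) * c := by ring
          _ = 0 := by rw [hef, zero_mul]
      have hDf : D * f = 0 := by
        calc D * f = (e * D) * f := by rw [heD]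
          _ = (e * f) * D := by ring
          _ = 0 := by rw [hef, zero_mul]
      have hff : f * f = f := by
        rw [hf]
        linear_combination hee
      calc (D + f) * (c + f) = D * c + D * f + f * c + f * f := by ring
        _ = 1 := by rw [hDc, hDf, hfc, hff, hf]; ring
    have h4 : ((D : Matrix n n F) + (f : Matrix n n F)) *
        ((c : Matrix n n F) + (f : Matrix n n F)) = 1 := congrArg Subtype.val h3
    have h5 : (x * ((D : Matrix n n F) + (f : Matrix n n F))) *
        (((c : Matrix n n F) + (f : Matrix n n F)) * x') = 1 := by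
      calc (x * ((D : Matrix n n F) + (f : Matrix n n F))) *
          (((c : Matrix n n F) + (f : Matrix n n F)) * x')
          = x * ((((D : Matrix n n F) + (f : Matrix n n F)) *
            ((c : Matrix n n F) + (f : Matrix n n F))) * x') := by simp only [mul_assoc]
        _ = 1 := by rw [h4, one_mul, hx']
    have h6 := congrArg Matrix.det h5
    rw [Matrix.det_mul, Matrix.det_one] at h6
    exact left_ne_zero_of_mul_eq_one h6

end main

end Cfsg.Agent.helper11.OConj
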