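import Mathlib

set_option autoImplicit false

namespace Cfsg.Agent.helper13

open Module QuadraticMap

section witt
variable {F : Type*} [Field F] {V : Type*} [AddCommGroup V] [Module F V]

theorem polar_self' (Q : QuadraticForm F V) (x : V) : polar (⇑Q) x x = 2 * Q x := by
  rw [QuadraticMap.polar_self]
  simp

theorem polarBilin_isSymm (Q : QuadraticForm F V) : (polarBilin Q).IsSymm :=
  ⟨fun x y => by simp only [polarBilin_apply_apply]; exact polar_comm _ x y⟩

/-- expansion of `Q` on a combination of two vectors. -/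
theorem Q_comb2 (Q : QuadraticForm F V) (s t : F) (x y : V) :
    Q (s • x + t • y) = s * s * Q x + t * t * Q y + s * t * polar (⇑Q) x y := by
  rw [QuadraticMap.map_add (⇑Q), QuadraticMap.map_smul, QuadraticMap.map_smul, polar_smul_left,
    polar_smul_right]
  simp only [smul_eq_mul]
  ring

theorem exists_hyp_pair (Q : QuadraticForm F V) (hQ : (polarBilin Q).Nondegenerate) (e : V)
    (he : e ≠ 0) (hQe : Q e = 0) : ∃ f : V, Q f = 0 ∧ polar (⇑Q) e f = 1 := by
  obtain ⟨g, hg⟩ : ∃ g : V, polar (⇑Q) e g ≠ 0 := by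
    by_contra hcon
    push Not at hcon
    exact he (hQ.1 e (fun y => by rw [polarBilin_apply_apply]; exact hcon y))
  obtain ⟨g', h1⟩ : ∃ g' : V, polar (⇑Q) e g' = 1 :=
    ⟨(polar (⇑Q) e g)⁻¹ • g, by rw [polar_smul_right, smul_eq_mul, inv_mul_cancel₀ hg]⟩
  refine ⟨(1 : F) • g' + (-Q g') • e, ?_, ?_⟩
  · rw [Q_comb2, hQe, polar_comm, h1]
    ring
  · rw [polar_add_right, polar_smul_right, polar_smul_right, h1, polar_self', hQe]
    simp

end witt

section finite
variable {F : Type*} [Field F] [Fintype F] {V : Type*} [AddCommGroup V] [Module F V]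
  [FiniteDimensional F V]

theorem exists_singular_char_two (Q : QuadraticForm F V) (h2 : (2 : F) = 0)
    (hdim : 3 ≤ finrank F V) : ∃ v : V, v ≠ 0 ∧ Q v = 0 := by
  classical
  haveI : CharP F 2 := CharTwo.of_one_ne_zero_of_two_eq_zero one_ne_zero h2
  have hpos : 0 < finrank F V := by omega
  obtain ⟨v₁, hv₁⟩ := (Module.finrank_pos_iff_exists_ne_zero (R := F) (M := V)).mp hpos
  by_cases ha : Q v₁ = 0
  · exact ⟨v₁, hv₁, ha⟩
  set φ : V →ₗ[F] F := polarBilin Q v₁ with hφ
  have hker : 2 ≤ finrank F (LinearMap.ker φ) := by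
    have h1 := LinearMap.finrank_range_add_finrank_ker φ
    have h2 : finrank F (LinearMap.range φ) ≤ 1 := by
      have := Submodule.finrank_le (LinearMap.range φ)
      rwa [Module.finrank_self] at this
    omega
  obtain ⟨u, huK, hu⟩ : ∃ u ∈ LinearMap.ker φ, u ∉ Submodule.span F {v₁} := by
    by_contra hcon
    push Not at hcon
    have hle : LinearMap.ker φ ≤ Submodule.span F {v₁} := fun u hu => hcon u hu
    have := Submodule.finrank_mono hle
    rw [finrank_span_singleton hv₁] at this
    omega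
  have hpol : polar (⇑Q) v₁ u = 0 := by
    have := LinearMap.mem_ker.mp huK
    rwa [hφ, polarBilin_apply_apply] at this
  by_cases hd : Q u = 0
  · refine ⟨u, ?_, hd⟩
    rintro rfl
    exact hu (Submodule.zero_mem _)
  obtain ⟨s, hs⟩ : IsSquare (Q u) := FiniteField.isSquare_of_char_two (ringChar.eq F 2) _
  obtain ⟨t, ht⟩ : IsSquare (Q v₁) := FiniteField.isSquare_of_char_two (ringChar.eq F 2) _
  have ht0 : t ≠ 0 := by
    rintro rfl
    apply ha
    rw [ht, mul_zero]
  refine ⟨s • v₁ + t • u, ?_, ?_⟩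
  · intro h0
    apply hu
    rw [Submodule.mem_span_singleton]
    refine ⟨-(t⁻¹ * s), ?_⟩
    have h3 : t • u = -(s • v₁) := eq_neg_of_add_eq_zero_right h0
    have h4 : u = t⁻¹ • (t • u) := by rw [smul_smul, inv_mul_cancel₀ ht0, one_smul]
    rw [h4, h3, smul_neg, smul_smul, neg_smul]
  · rw [Q_comb2, hpol, ← hs, ← ht]
    have : Q u * Q v₁ + Q v₁ * Q u = 2 * (Q u * Q v₁) := by ring
    rw [mul_zero, add_zero, this, h2, zero_mul]

theorem exists_singular_odd (Q : QuadraticForm F V) (hQ : (polarBilin Q).Nondegenerate)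
    (h2 : (2 : F) ≠ 0) (hdim : 3 ≤ finrank F V) : ∃ v : V, v ≠ 0 ∧ Q v = 0 := by
  classical
  haveI : Invertible (2 : F) := invertibleOfNonzero h2
  obtain ⟨b, hb⟩ := LinearMap.BilinForm.exists_orthogonal_basis (polarBilin_isSymm Q)
  set i0 : Fin (finrank F V) := ⟨0, by omega⟩ with hi0
  set i1 : Fin (finrank F V) := ⟨1, by omega⟩ with hi1
  set i2 : Fin (finrank F V) := ⟨2, by omega⟩ with hi2
  have h01 : i0 ≠ i1 := by simp [hi0, hi1, Fin.ext_iff]
  have h02 : i0 ≠ i2 := by simp [hi0, hi2, Fin.ext_iff]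
  have h12 : i1 ≠ i2 := by simp [hi1, hi2, Fin.ext_iff]
  have p01 : polar (⇑Q) (b i0) (b i1) = 0 := by
    have := hb h01
    simpa [Function.onFun, LinearMap.BilinForm.isOrtho_def] using this
  have p02 : polar (⇑Q) (b i0) (b i2) = 0 := by
    have := hb h02
    simpa [Function.onFun, LinearMap.BilinForm.isOrtho_def] using this
  have p12 : polar (⇑Q) (b i1) (b i2) = 0 := by
    have := hb h12
    simpa [Function.onFun, LinearMap.BilinForm.isOrtho_def] using this
  by_cases ha0 : Q (b i0) = 0
  · exact ⟨b i0, b.ne_zero i0, ha0⟩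
  by_cases ha1 : Q (b i1) = 0
  · exact ⟨b i1, b.ne_zero i1, ha1⟩
  have hcard : Fintype.card F % 2 = 1 := by
    apply FiniteField.odd_card_of_char_ne_two
    intro hch
    haveI : CharP F 2 := ringChar.of_eq hch
    apply h2
    have := CharP.cast_eq_zero F 2
    exact_mod_cast this
  have hf2 : (Polynomial.C (Q (b i0)) * Polynomial.X ^ 2 : Polynomial F).degree = 2 := by
    rw [Polynomial.degree_C_mul_X_pow 2 ha0]; rfl
  have hg2 : (Polynomial.C (Q (b i1)) * Polynomial.X ^ 2 + Polynomial.C (Q (b i2)) : Polynomial F).degree = 2 := by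
    rw [Polynomial.degree_add_C, Polynomial.degree_C_mul_X_pow 2 ha1]
    · rfl
    · rw [Polynomial.degree_C_mul_X_pow 2 ha1]; decide
  obtain ⟨s, t, hst⟩ := FiniteField.exists_root_sum_quadratic hf2 hg2 hcard
  simp only [Polynomial.eval_add, Polynomial.eval_mul, Polynomial.eval_C, Polynomial.eval_pow,
    Polynomial.eval_X] at hst
  refine ⟨(1 : F) • (s • b i0 + t • b i1) + (1 : F) • b i2, ?_, ?_⟩
  · intro h0
    have := congrArg (fun x => b.repr x i2) h0
    simp only [one_smul, map_add, map_smul, Basis.repr_self, Finsupp.coe_add, Finsupp.coe_smul, Pi.add_apply,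
      Pi.smul_apply, smul_eq_mul, map_zero, Finsupp.coe_zero, Pi.zero_apply] at this
    rw [Finsupp.single_eq_of_ne h02.symm, Finsupp.single_eq_of_ne h12.symm, Finsupp.single_eq_same] at this
    simp at this
  · rw [Q_comb2, Q_comb2, polar_add_left, polar_smul_left, polar_smul_left, p01, p02, p12]
    simp only [smul_eq_mul]
    linear_combination hst


theorem exists_singular (Q : QuadraticForm F V) (hQ : (polarBilin Q).Nondegenerate)
    (hdim : 3 ≤ finrank F V) : ∃ v : V, v ≠ 0 ∧ Q v = 0 := by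
  by_cases h2 : (2 : F) = 0
  · exact exists_singular_char_two Q h2 hdim
  · exact exists_singular_odd Q hQ h2 hdim

end finite

section split
variable {F : Type*} [Field F] {V : Type*} [AddCommGroup V] [Module F V]

/-- the orthogonal complement of a pair of vectors. -/
def hypCompl (Q : QuadraticForm F V) (e f : V) : Submodule F V :=
  LinearMap.BilinForm.orthogonal (polarBilin Q) (Submodule.span F {e, f})

theorem mem_hypCompl_iff (Q : QuadraticForm F V) (e f w : V) :
    w ∈ hypCompl Q e f ↔ polar (⇑Q) e w = 0 ∧ polar (⇑Q) f w = 0 := by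
  unfold hypCompl
  rw [LinearMap.BilinForm.mem_orthogonal_iff]
  constructor
  · intro h
    have h1 := h e (Submodule.subset_span (by simp))
    have h2 := h f (Submodule.subset_span (by simp))
    rw [polarBilin_apply_apply] at h1 h2
    exact ⟨h1, h2⟩
  · rintro ⟨h1, h2⟩ n hn
    obtain ⟨a, b, rfl⟩ := Submodule.mem_span_pair.mp hn
    rw [polarBilin_apply_apply, polar_add_left, polar_smul_left, polar_smul_left, h1, h2]
    simp

theorem hyp_pair_coeffs (Q : QuadraticForm F V) {e f : V} (hQe : Q e = 0) (hQf : Q f = 0)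
    (hef : polar (⇑Q) e f = 1) (a b : F) :
    polar (⇑Q) e (a • e + b • f) = b ∧ polar (⇑Q) f (a • e + b • f) = a := by
  constructor
  · rw [polar_add_right, polar_smul_right, polar_smul_right, polar_self', hQe, hef]
    simp
  · rw [polar_add_right, polar_smul_right, polar_smul_right, polar_self', hQf, polar_comm, hef]
    simp

theorem hypCompl_disjoint (Q : QuadraticForm F V) {e f : V} (hQe : Q e = 0) (hQf : Q f = 0)
    (hef : polar (⇑Q) e f = 1) : Disjoint (Submodule.span F {e, f}) (hypCompl Q e f) := by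
  rw [Submodule.disjoint_def]
  intro x hx hxW
  obtain ⟨a, b, rfl⟩ := Submodule.mem_span_pair.mp hx
  obtain ⟨h1, h2⟩ := (mem_hypCompl_iff Q e f _).mp hxW
  obtain ⟨c1, c2⟩ := hyp_pair_coeffs Q hQe hQf hef a b
  rw [c1] at h1
  rw [c2] at h2
  rw [h1, h2]
  simp

theorem hyp_pair_finrank (Q : QuadraticForm F V) {e f : V} (hQe : Q e = 0) (hQf : Q f = 0)
    (hef : polar (⇑Q) e f = 1) : finrank F (Submodule.span F {e, f}) = 2 := by
  have hli : LinearIndependent F ![e, f] := by
    rw [LinearIndependent.pair_iff]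
    intro s t hst
    obtain ⟨c1, c2⟩ := hyp_pair_coeffs Q hQe hQf hef s t
    rw [hst] at c1 c2
    simp only [polar_zero_right] at c1 c2
    exact ⟨c2.symm, c1.symm⟩
  have := finrank_span_eq_card hli
  have hr : Set.range ![e, f] = {e, f} := by
    simp [Matrix.range_cons, Matrix.range_empty, Set.union_empty]
    exact Set.pair_comm f e
  rw [hr] at this
  simpa using this

variable [FiniteDimensional F V]

theorem hypCompl_finrank (Q : QuadraticForm F V) (hQ : (polarBilin Q).Nondegenerate) {e f : V}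
    (hQe : Q e = 0) (hQf : Q f = 0) (hef : polar (⇑Q) e f = 1) :
    finrank F (hypCompl Q e f) + 2 = finrank F V := by
  unfold hypCompl
  rw [LinearMap.BilinForm.finrank_orthogonal hQ, hyp_pair_finrank Q hQe hQf hef]
  have := Submodule.finrank_le (Submodule.span F {e, f})
  rw [hyp_pair_finrank Q hQe hQf hef] at this
  omega

theorem hypCompl_nondeg (Q : QuadraticForm F V) (hQ : (polarBilin Q).Nondegenerate) {e f : V}
    (hQe : Q e = 0) (hQf : Q f = 0) (hef : polar (⇑Q) e f = 1) :
    (polarBilin (Q.comp (hypCompl Q e f).subtype)).Nondegenerate := by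
  have hrefl := (polarBilin_isSymm Q).isRefl
  have hdisj : Disjoint (hypCompl Q e f) (LinearMap.BilinForm.orthogonal (polarBilin Q) (hypCompl Q e f)) := by
    unfold hypCompl
    rw [LinearMap.BilinForm.orthogonal_orthogonal hQ hrefl]
    exact (hypCompl_disjoint Q hQe hQf hef).symm
  have h := LinearMap.BilinForm.nondegenerate_restrict_of_disjoint_orthogonal (polarBilin Q) hrefl hdisj
  refine ⟨fun x hx => h.1 x (fun y => ?_), fun y hy => h.2 y (fun x => ?_)⟩
  · exact hx y
  · exact hy x

end split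

section families
variable {F : Type*} [Field F] {V : Type*} [AddCommGroup V] [Module F V]

theorem polar_comp_subtype (Q : QuadraticForm F V) (W : Submodule F V) (a b : W) :
    polar (⇑(Q.comp W.subtype)) a b = polar (⇑Q) (a : V) (b : V) := rfl

theorem comp_subtype_apply (Q : QuadraticForm F V) (W : Submodule F V) (a : W) :
    (Q.comp W.subtype) a = Q (a : V) := rfl

/-- relations of a hyperbolic family. -/
structure IsHyp (Q : QuadraticForm F V) {k : ℕ} (e f : Fin k → V) : Prop where
  Qe : ∀ i, Q (e i) = 0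
  Qf : ∀ i, Q (f i) = 0
  ef : ∀ i j, polar (⇑Q) (e i) (f j) = if i = j then 1 else 0
  ee : ∀ i j, polar (⇑Q) (e i) (e j) = 0
  ff : ∀ i j, polar (⇑Q) (f i) (f j) = 0

theorem isHyp_zero (Q : QuadraticForm F V) (e f : Fin 0 → V) : IsHyp Q e f :=
  ⟨fun i => i.elim0, fun i => i.elim0, fun i => i.elim0, fun i => i.elim0, fun i => i.elim0⟩

theorem hypCompl_left (Q : QuadraticForm F V) (e f : V) (w : hypCompl Q e f) :
    polar (⇑Q) e (w : V) = 0 := ((mem_hypCompl_iff Q e f _).mp w.2).1

theorem hypCompl_right (Q : QuadraticForm F V) (e f : V) (w : hypCompl Q e f) :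
    polar (⇑Q) f (w : V) = 0 := ((mem_hypCompl_iff Q e f _).mp w.2).2

theorem IsHyp.cons (Q : QuadraticForm F V) {e₀ f₀ : V} (hQe : Q e₀ = 0) (hQf : Q f₀ = 0)
    (hef : polar (⇑Q) e₀ f₀ = 1) {k : ℕ} {e' f' : Fin k → hypCompl Q e₀ f₀}
    (h : IsHyp (Q.comp (hypCompl Q e₀ f₀).subtype) e' f') :
    IsHyp Q (Fin.cons e₀ (fun i => ((e' i : hypCompl Q e₀ f₀) : V)) : Fin (k + 1) → V)
      (Fin.cons f₀ (fun i => ((f' i : hypCompl Q e₀ f₀) : V)) : Fin (k + 1) → V) := by
  refine ⟨?_, ?_, ?_, ?_, ?_⟩
  · intro i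
    refine Fin.cases ?_ (fun i => ?_) i
    · simpa using hQe
    · simpa using h.Qe i
  · intro i
    refine Fin.cases ?_ (fun i => ?_) i
    · simpa using hQf
    · simpa using h.Qf i
  · intro i j
    refine Fin.cases ?_ (fun i => ?_) i <;> refine Fin.cases ?_ (fun j => ?_) j
    · simpa using hef
    · simp only [Fin.cons_zero, Fin.cons_succ]
      rw [if_neg (Fin.succ_ne_zero j).symm]
      exact hypCompl_left Q e₀ f₀ (f' j)
    · simp only [Fin.cons_zero, Fin.cons_succ]
      rw [if_neg (Fin.succ_ne_zero i), polar_comm]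
      exact hypCompl_right Q e₀ f₀ (e' i)
    · simp only [Fin.cons_succ, Fin.succ_inj]
      exact h.ef i j
  · intro i j
    refine Fin.cases ?_ (fun i => ?_) i <;> refine Fin.cases ?_ (fun j => ?_) j
    · simp only [Fin.cons_zero]
      rw [polar_self', hQe, mul_zero]
    · simp only [Fin.cons_zero, Fin.cons_succ]
      exact hypCompl_left Q e₀ f₀ (e' j)
    · simp only [Fin.cons_zero, Fin.cons_succ]
      rw [polar_comm]
      exact hypCompl_left Q e₀ f₀ (e' i)
    · simp only [Fin.cons_succ]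
      exact h.ee i j
  · intro i j
    refine Fin.cases ?_ (fun i => ?_) i <;> refine Fin.cases ?_ (fun j => ?_) j
    · simp only [Fin.cons_zero]
      rw [polar_self', hQf, mul_zero]
    · simp only [Fin.cons_zero, Fin.cons_succ]
      exact hypCompl_right Q e₀ f₀ (f' j)
    · simp only [Fin.cons_zero, Fin.cons_succ]
      rw [polar_comm]
      exact hypCompl_right Q e₀ f₀ (f' i)
    · simp only [Fin.cons_succ]
      exact h.ff i j

/-- a vector of the complement is orthogonal to the extended family. -/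
theorem cons_orth (Q : QuadraticForm F V) {e₀ f₀ : V} {k : ℕ} {e' f' : Fin k → hypCompl Q e₀ f₀}
    (x' : hypCompl Q e₀ f₀)
    (h : ∀ i, polar (⇑(Q.comp (hypCompl Q e₀ f₀).subtype)) x' (e' i) = 0 ∧
      polar (⇑(Q.comp (hypCompl Q e₀ f₀).subtype)) x' (f' i) = 0) :
    ∀ i : Fin (k + 1), polar (⇑Q) (x' : V)
        ((Fin.cons e₀ (fun i => ((e' i : hypCompl Q e₀ f₀) : V)) : Fin (k + 1) → V) i) = 0 ∧
      polar (⇑Q) (x' : V)
        ((Fin.cons f₀ (fun i => ((f' i : hypCompl Q e₀ f₀) : V)) : Fin (k + 1) → V) i) = 0 := by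
  intro i
  refine Fin.cases ?_ (fun i => ?_) i
  · simp only [Fin.cons_zero]
    rw [polar_comm, polar_comm _ _ f₀]
    exact ⟨hypCompl_left Q e₀ f₀ x', hypCompl_right Q e₀ f₀ x'⟩
  · simp only [Fin.cons_succ]
    exact h i

theorem linearIndependent_of_dual {ι : Type*} [Fintype ι] [DecidableEq ι] (Q : QuadraticForm F V)
    (b b' : ι → V) (d : ι → F) (hd : ∀ i, d i ≠ 0)
    (h : ∀ i j, polar (⇑Q) (b i) (b' j) = if i = j then d i else 0) : LinearIndependent F b := by
  rw [Fintype.linearIndependent_iff]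
  intro g hg j
  have h1 := congrArg (fun v => polarBilin Q v (b' j)) hg
  simp only [map_sum, map_smul, LinearMap.sum_apply, LinearMap.smul_apply, polarBilin_apply_apply,
    h, smul_eq_mul, mul_ite, mul_zero, Finset.sum_ite_eq', Finset.mem_univ, if_true, map_zero,
    LinearMap.zero_apply] at h1
  exact (mul_eq_zero.mp h1).resolve_right (hd j)

end families

end Cfsg.Agent.helper13
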