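import Mathlib
import Cfsg.Agent.Lib_helper13_Witt

set_option autoImplicit false

namespace Cfsg.Agent.helper13

open Module QuadraticMap

section mts
variable {F V : Type*} [Field F] [AddCommGroup V] [Module F V]

/-- totally singular subspace. -/
def TS (Q : QuadraticForm F V) (W : Submodule F V) : Prop := ∀ w ∈ W, Q w = 0

theorem Q_add_polar (Q : QuadraticForm F V) (u v : V) :
    Q (u + v) = Q u + Q v + polar (⇑Q) u v := by
  unfold polar
  ring

/-- orthogonal complement with respect to the polar form. -/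
abbrev orthQ (Q : QuadraticForm F V) (W : Submodule F V) : Submodule F V :=
  LinearMap.BilinForm.orthogonal (polarBilin Q) W

variable {Q : QuadraticForm F V}

theorem TS.polar_zero {W : Submodule F V} (h : TS Q W) {u v : V} (hu : u ∈ W) (hv : v ∈ W) :
    polar (⇑Q) u v = 0 := by
  unfold polar
  rw [h _ (W.add_mem hu hv), h _ hu, h _ hv]
  simp

theorem mem_orth_iff (Q : QuadraticForm F V) (W : Submodule F V) (v : V) :
    v ∈ orthQ Q W ↔ ∀ u ∈ W, polar (⇑Q) u v = 0 := by
  rw [LinearMap.BilinForm.mem_orthogonal_iff]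
  simp only [polarBilin_apply_apply]

theorem mem_orth_singleton_iff (Q : QuadraticForm F V) (x v : V) :
    v ∈ orthQ Q (Submodule.span F {x}) ↔ polar (⇑Q) x v = 0 := by
  rw [mem_orth_iff]
  constructor
  · intro h
    exact h x (Submodule.mem_span_singleton_self x)
  · intro h u hu
    obtain ⟨a, rfl⟩ := Submodule.mem_span_singleton.mp hu
    rw [polar_smul_left, h, smul_zero]

theorem TS.le_orth {W : Submodule F V} (h : TS Q W) : W ≤ orthQ Q W := by
  intro v hv
  rw [mem_orth_iff]
  intro u hu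
  exact h.polar_zero hu hv

theorem TS.mono {W W' : Submodule F V} (h : TS Q W) (hle : W' ≤ W) : TS Q W' :=
  fun w hw => h w (hle hw)

theorem TS.sup {W W' : Submodule F V} (h : TS Q W) (h' : TS Q W')
    (hperp : ∀ u ∈ W, ∀ v ∈ W', polar (⇑Q) u v = 0) : TS Q (W ⊔ W') := by
  intro x hx
  obtain ⟨u, hu, v, hv, rfl⟩ := Submodule.mem_sup.mp hx
  rw [Q_add_polar, h u hu, h' v hv, hperp u hu v hv]
  simp

theorem TS.span_singleton {x : V} (hx : Q x = 0) : TS Q (Submodule.span F {x}) := by
  intro w hw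
  obtain ⟨a, rfl⟩ := Submodule.mem_span_singleton.mp hw
  rw [QuadraticMap.map_smul, hx, smul_zero]

theorem orth_sup (Q : QuadraticForm F V) (W W' : Submodule F V) :
    orthQ Q (W ⊔ W') =
      orthQ Q W ⊓ orthQ Q W' := by
  ext v
  simp only [Submodule.mem_inf, mem_orth_iff]
  constructor
  · intro h
    exact ⟨fun u hu => h u (Submodule.mem_sup_left hu),
      fun u hu => h u (Submodule.mem_sup_right hu)⟩
  · rintro ⟨h1, h2⟩ u hu
    obtain ⟨a, ha, b, hb, rfl⟩ := Submodule.mem_sup.mp hu
    rw [polar_add_left, h1 a ha, h2 b hb, add_zero]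

theorem le_or_le_of_forall_mem {W U X : Submodule F V} (h : ∀ w ∈ W, w ∈ U ∨ w ∈ X) :
    W ≤ U ∨ W ≤ X := by
  by_contra hc
  push Not at hc
  obtain ⟨h1, h2⟩ := hc
  obtain ⟨w1, hw1, hw1U⟩ := SetLike.not_le_iff_exists.mp h1
  obtain ⟨w2, hw2, hw2X⟩ := SetLike.not_le_iff_exists.mp h2
  have hw1X : w1 ∈ X := (h w1 hw1).resolve_left hw1U
  have hw2U : w2 ∈ U := (h w2 hw2).resolve_right hw2X
  rcases h (w1 + w2) (W.add_mem hw1 hw2) with h3 | h3
  · apply hw1U
    have := U.sub_mem h3 hw2U
    rwa [add_sub_cancel_right] at this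
  · apply hw2X
    have := X.sub_mem h3 hw1X
    rwa [add_sub_cancel_left] at this

/-- maximal totally singular subspaces (of dimension `m`). -/
structure MTS (Q : QuadraticForm F V) (m : ℕ) (W : Submodule F V) : Prop where
  ts : TS Q W
  rk : finrank F W = m

variable [FiniteDimensional F V]

theorem MTS.orth_eq (hnd : (polarBilin Q).Nondegenerate) {m : ℕ} (hV : finrank F V = 2 * m)
    {W : Submodule F V} (hW : MTS Q m W) : orthQ Q W = W := by
  symm
  apply Submodule.eq_of_le_of_finrank_le hW.ts.le_orth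
  rw [LinearMap.BilinForm.finrank_orthogonal hnd, hV, hW.rk]
  omega

theorem MTS.eq_of_le {m : ℕ} {W W' : Submodule F V} (hW : MTS Q m W) (hW' : MTS Q m W')
    (hle : W ≤ W') : W = W' :=
  Submodule.eq_of_le_of_finrank_eq hle (by rw [hW.rk, hW'.rk])

theorem finrank_inf_orth (hnd : (polarBilin Q).Nondegenerate) {m : ℕ}
    (hV : finrank F V = 2 * m) {W H : Submodule F V} (hW : MTS Q m W)
    (hHm : finrank F H + 1 = m) :
    finrank F ↥(W ⊓ orthQ Q H) = finrank F ↥(W ⊓ H) + 1 := by
  have h1 : W ⊓ orthQ Q H = orthQ Q (W ⊔ H) := by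
    rw [orth_sup, hW.orth_eq hnd hV]
  rw [h1, LinearMap.BilinForm.finrank_orthogonal hnd, hV]
  have h2 := Submodule.finrank_sup_add_finrank_inf_eq W H
  have h3 : finrank F ↥(W ⊓ H) ≤ finrank F H := Submodule.finrank_mono inf_le_right
  rw [hW.rk] at h2
  omega

/-- the maximal t.s. subspace through `H` determined by `W`. -/
def thru (Q : QuadraticForm F V) (W H : Submodule F V) : Submodule F V :=
  (W ⊓ orthQ Q H) ⊔ H

theorem thru_mts (hnd : (polarBilin Q).Nondegenerate) {m : ℕ}
    (hV : finrank F V = 2 * m) {W H : Submodule F V} (hW : MTS Q m W) (hH : TS Q H)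
    (hHm : finrank F H + 1 = m) : MTS Q m (thru Q W H) := by
  constructor
  · apply TS.sup (hW.ts.mono inf_le_left) hH
    intro u hu v hv
    have := (mem_orth_iff Q H u).mp (Submodule.mem_inf.mp hu).2 v hv
    rw [polar_comm]
    exact this
  · have h1 := Submodule.finrank_sup_add_finrank_inf_eq (W ⊓ orthQ Q H) H
    have h2 : (W ⊓ orthQ Q H) ⊓ H = W ⊓ H := by
      rw [inf_assoc, inf_eq_right.mpr hH.le_orth]
    rw [h2, finrank_inf_orth hnd hV hW hHm] at h1
    unfold thru
    omega

theorem eq_or_eq_of_le (hnd : (polarBilin Q).Nondegenerate) {m : ℕ}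
    (hV : finrank F V = 2 * m) {U X W H : Submodule F V} (hU : MTS Q m U) (hX : MTS Q m X)
    (hW : MTS Q m W) (hHm : finrank F H + 1 = m) (hHU : H ≤ U) (hHX : H ≤ X) (hHW : H ≤ W)
    (hne : U ≠ X) : W = U ∨ W = X := by
  set O := orthQ Q H with hO
  have hOrk : finrank F O = m + 1 := by
    rw [hO, LinearMap.BilinForm.finrank_orthogonal hnd, hV]
    omega
  have hUO : U ≤ O := le_trans hU.ts.le_orth (LinearMap.BilinForm.orthogonal_le hHU)
  have hXO : X ≤ O := le_trans hX.ts.le_orth (LinearMap.BilinForm.orthogonal_le hHX)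
  have hWO : W ≤ O := le_trans hW.ts.le_orth (LinearMap.BilinForm.orthogonal_le hHW)
  have hlt : U < U ⊔ X := by
    refine lt_of_le_of_ne le_sup_left ?_
    intro heq
    have hXU : X ≤ U := by
      rw [heq]
      exact le_sup_right
    exact hne (hX.eq_of_le hU hXU).symm
  have hsup : U ⊔ X = O := by
    apply Submodule.eq_of_le_of_finrank_le (sup_le hUO hXO)
    have := Submodule.finrank_lt_finrank_of_lt hlt
    rw [hU.rk] at this
    omega
  have hinf : U ⊓ X = H := by
    symm
    apply Submodule.eq_of_le_of_finrank_le (le_inf hHU hHX)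
    have := Submodule.finrank_sup_add_finrank_inf_eq U X
    rw [hsup, hOrk, hU.rk, hX.rk] at this
    omega
  have key : ∀ w ∈ W, w ∈ U ∨ w ∈ X := by
    intro w hw
    have hwO : w ∈ U ⊔ X := by
      rw [hsup]
      exact hWO hw
    obtain ⟨u, hu, x, hx, rfl⟩ := Submodule.mem_sup.mp hwO
    have hpol : polar (⇑Q) u x = 0 := by
      have := hW.ts _ hw
      rw [Q_add_polar, hU.ts u hu, hX.ts x hx] at this
      simpa using this
    by_cases huH : u ∈ H
    · right
      exact X.add_mem (hHX huH) hx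
    · left
      suffices hxU : x ∈ U from U.add_mem hu hxU
      rw [← hU.orth_eq hnd hV, mem_orth_iff]
      set K := U ⊓ orthQ Q (Submodule.span F {x}) with hK
      have hHK : H ≤ K := by
        refine le_inf hHU ?_
        intro h hh
        rw [mem_orth_singleton_iff]
        exact hX.ts.polar_zero hx (hHX hh)
      have huK : u ∈ K := by
        refine Submodule.mem_inf.mpr ⟨hu, ?_⟩
        rw [mem_orth_singleton_iff, polar_comm]
        exact hpol
      have hHltK : H < K := by
        refine lt_of_le_of_ne hHK ?_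
        intro heq
        apply huH
        rw [heq]
        exact huK
      have hKU : K = U := by
        have hlt := Submodule.finrank_lt_finrank_of_lt hHltK
        have hle : K ≤ U := inf_le_left
        apply Submodule.eq_of_le_of_finrank_le hle
        rw [hU.rk]
        omega
      intro u' hu'
      have : u' ∈ K := by
        rw [hKU]
        exact hu'
      have := (mem_orth_singleton_iff Q x u').mp (Submodule.mem_inf.mp this).2
      rw [polar_comm]
      exact this
  rcases le_or_le_of_forall_mem key with h | h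
  · left
    exact hW.eq_of_le hU h
  · right
    exact hW.eq_of_le hX h

theorem adjacent_step_aux (hnd : (polarBilin Q).Nondegenerate) {m : ℕ}
    (hV : finrank F V = 2 * m) {U X W : Submodule F V} (hU : MTS Q m U) (hX : MTS Q m X)
    (hW : MTS Q m W) (hadj : finrank F ↥(U ⊓ X) + 1 = m)
    (hthru : thru Q W (U ⊓ X) = U) :
    finrank F ↥(W ⊓ U) = finrank F ↥(W ⊓ X) + 1 := by
  set H := U ⊓ X with hH
  set O := orthQ Q H with hO
  have hUO : U ≤ O := le_trans hU.ts.le_orth (LinearMap.BilinForm.orthogonal_le inf_le_left)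
  have hXO : X ≤ O := le_trans hX.ts.le_orth (LinearMap.BilinForm.orthogonal_le inf_le_right)
  have hWOU : W ⊓ O ≤ U := by
    have : W ⊓ O ≤ thru Q W H := le_sup_left
    rwa [hthru] at this
  have e1 : W ⊓ U = W ⊓ O :=
    le_antisymm (inf_le_inf_left W hUO) (le_inf inf_le_left hWOU)
  have e2 : W ⊓ X = W ⊓ H := by
    apply le_antisymm
    · refine le_inf inf_le_left ?_
      refine le_inf ?_ inf_le_right
      exact le_trans (inf_le_inf_left W hXO) hWOU
    · exact inf_le_inf_left W inf_le_right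
  rw [e1, e2]
  exact finrank_inf_orth hnd hV hW hadj

theorem adjacent_step (hnd : (polarBilin Q).Nondegenerate) {m : ℕ}
    (hV : finrank F V = 2 * m) {U X W : Submodule F V} (hU : MTS Q m U) (hX : MTS Q m X)
    (hW : MTS Q m W) (hadj : finrank F ↥(U ⊓ X) + 1 = m) :
    finrank F ↥(W ⊓ U) = finrank F ↥(W ⊓ X) + 1 ∨
      finrank F ↥(W ⊓ X) = finrank F ↥(W ⊓ U) + 1 := by
  have hHts : TS Q (U ⊓ X) := hU.ts.mono inf_le_left
  have hne : U ≠ X := by
    intro heq
    rw [heq, inf_idem, hX.rk] at hadj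
    omega
  have hT := thru_mts hnd hV hW hHts hadj
  have hHT : U ⊓ X ≤ thru Q W (U ⊓ X) := le_sup_right
  rcases eq_or_eq_of_le hnd hV hU hX hT hadj inf_le_left inf_le_right hHT hne with h | h
  · left
    exact adjacent_step_aux hnd hV hU hX hW hadj h
  · right
    have hadj' : finrank F ↥(X ⊓ U) + 1 = m := by
      rw [inf_comm]
      exact hadj
    apply adjacent_step_aux hnd hV hX hU hW hadj'
    rw [inf_comm]
    exact h

/-- for a singular `x` outside the maximal t.s. `X`, the neighbour of `X` through `x`. -/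
theorem exists_adjacent (hnd : (polarBilin Q).Nondegenerate) {m : ℕ}
    (hV : finrank F V = 2 * m) {X : Submodule F V} (hX : MTS Q m X) {x : V} (hx : Q x = 0)
    (hxX : x ∉ X) :
    ∃ X' : Submodule F V, MTS Q m X' ∧ x ∈ X' ∧
      X ⊓ orthQ Q (Submodule.span F {x}) ≤ X' ∧
      finrank F ↥(X' ⊓ X) + 1 = m := by
  set Hx := X ⊓ orthQ Q (Submodule.span F {x}) with hHx
  have hrk : finrank F Hx + 1 = m := by
    have h1 : Hx = orthQ Q (X ⊔ Submodule.span F {x}) := by
      rw [orth_sup, hX.orth_eq hnd hV]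
    rw [h1, LinearMap.BilinForm.finrank_orthogonal hnd, hV,
      Submodule.finrank_sup_span_singleton hxX, hX.rk]
    have hm : 1 ≤ m := by
      by_contra hm
      have h0 : m = 0 := by omega
      have : X = ⊤ := by
        apply Submodule.eq_top_of_finrank_eq
        rw [hX.rk, hV, h0]
      exact hxX (this ▸ Submodule.mem_top)
    omega
  have hxHx : x ∉ Hx := fun h => hxX (Submodule.mem_inf.mp h).1
  refine ⟨Hx ⊔ Submodule.span F {x}, ⟨?_, ?_⟩, ?_, le_sup_left, ?_⟩
  · apply TS.sup (hX.ts.mono inf_le_left) (TS.span_singleton hx)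
    intro u hu v hv
    obtain ⟨a, rfl⟩ := Submodule.mem_span_singleton.mp hv
    have := (mem_orth_singleton_iff Q x u).mp (Submodule.mem_inf.mp hu).2
    rw [polar_smul_right, polar_comm, this, smul_zero]
  · rw [Submodule.finrank_sup_span_singleton hxHx]
    exact hrk
  · exact Submodule.mem_sup_right (Submodule.mem_span_singleton_self x)
  · have hle : Hx ≤ (Hx ⊔ Submodule.span F {x}) ⊓ X := le_inf le_sup_left inf_le_left
    have h1 := Submodule.finrank_mono hle
    have h2 : finrank F ↥((Hx ⊔ Submodule.span F {x}) ⊓ X) < m := by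
      by_contra hcon
      have h3 : (Hx ⊔ Submodule.span F {x}) ⊓ X = Hx ⊔ Submodule.span F {x} := by
        apply Submodule.eq_of_le_of_finrank_le inf_le_left
        rw [Submodule.finrank_sup_span_singleton hxHx]
        omega
      have h4 : Hx ⊔ Submodule.span F {x} ≤ X := by
        rw [← h3]
        exact inf_le_right
      exact hxX (h4 (Submodule.mem_sup_right (Submodule.mem_span_singleton_self x)))
    omega

theorem mts_inf_le {m : ℕ} {U W : Submodule F V} (hU : MTS Q m U) :
    finrank F ↥(U ⊓ W) ≤ m := by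
  have := Submodule.finrank_mono (inf_le_left : U ⊓ W ≤ U)
  rwa [hU.rk] at this

theorem parity_aux (hnd : (polarBilin Q).Nondegenerate) {m : ℕ}
    (hV : finrank F V = 2 * m) (U W : Submodule F V) (hU : MTS Q m U) (hW : MTS Q m W) :
    ∀ (t : ℕ) (X : Submodule F V), MTS Q m X → m - finrank F ↥(U ⊓ X) = t →
      Even ((m - finrank F ↥(U ⊓ W)) + (m - finrank F ↥(W ⊓ X)) +
        (m - finrank F ↥(U ⊓ X))) := by
  intro t
  induction t with
  | zero =>
    intro X hX ht
    have h1 := mts_inf_le (W := X) hU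
    have h2 : finrank F ↥(U ⊓ X) = m := by omega
    have e1 : U ⊓ X = U := Submodule.eq_of_le_of_finrank_le inf_le_left (by rw [h2, hU.rk])
    have e2 : U ⊓ X = X := Submodule.eq_of_le_of_finrank_le inf_le_right (by rw [h2, hX.rk])
    have hUX : U = X := e1.symm.trans e2
    subst hUX
    rw [inf_comm W U, inf_idem, hU.rk]
    exact ⟨m - finrank F ↥(U ⊓ W), by omega⟩
  | succ t ih =>
    intro X hX ht
    have hnle : ¬ U ≤ X := by
      intro hle
      have : U ⊓ X = U := inf_eq_left.mpr hle
      rw [this, hU.rk] at ht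
      omega
    obtain ⟨x, hxU, hxX⟩ := SetLike.not_le_iff_exists.mp hnle
    obtain ⟨X', hX', hxX', hHX', hadj⟩ := exists_adjacent hnd hV hX (hU.ts x hxU) hxX
    have hUXle : U ⊓ X ≤ X ⊓ orthQ Q (Submodule.span F {x}) := by
      refine le_inf inf_le_right ?_
      intro v hv
      rw [mem_orth_singleton_iff]
      exact hU.ts.polar_zero hxU (Submodule.mem_inf.mp hv).1
    have hle : (U ⊓ X) ⊔ Submodule.span F {x} ≤ U ⊓ X' := by
      apply sup_le
      · exact le_inf inf_le_left (le_trans hUXle hHX')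
      · rw [Submodule.span_singleton_le_iff_mem]
        exact Submodule.mem_inf.mpr ⟨hxU, hxX'⟩
    have hx_notin : x ∉ U ⊓ X := fun h => hxX (Submodule.mem_inf.mp h).2
    have h1 := Submodule.finrank_mono hle
    rw [Submodule.finrank_sup_span_singleton hx_notin] at h1
    have h2 := adjacent_step hnd hV hX' hX hU hadj
    have h3 := adjacent_step hnd hV hX' hX hW hadj
    have b1 := mts_inf_le (W := X) hU
    have b2 := mts_inf_le (W := X') hU
    have b3 := mts_inf_le (W := X) hW
    have b4 := mts_inf_le (W := X') hW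
    have b5 := mts_inf_le (W := W) hU
    have hUX' : m - finrank F ↥(U ⊓ X') = t := by omega
    have hih := ih X' hX' hUX'
    rw [Nat.even_iff] at hih ⊢
    omega

theorem parity (hnd : (polarBilin Q).Nondegenerate) {m : ℕ}
    (hV : finrank F V = 2 * m) (U W X : Submodule F V) (hU : MTS Q m U) (hW : MTS Q m W)
    (hX : MTS Q m X) :
    Even ((m - finrank F ↥(U ⊓ W)) + (m - finrank F ↥(W ⊓ X)) +
      (m - finrank F ↥(U ⊓ X))) :=
  parity_aux hnd hV U W hU hW _ X hX rfl

/-- exactly two maximal t.s. subspaces through a t.s. subspace of dimension `m-1`. -/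
theorem exists_two_through (hnd : (polarBilin Q).Nondegenerate) {m : ℕ}
    (hV : finrank F V = 2 * m) {U₀ : Submodule F V} (hU₀ : MTS Q m U₀) {H : Submodule F V}
    (hH : TS Q H) (hHm : finrank F H + 1 = m) :
    ∃ U X : Submodule F V, MTS Q m U ∧ MTS Q m X ∧ H ≤ U ∧ H ≤ X ∧ U ≠ X ∧
      ∀ W : Submodule F V, MTS Q m W → H ≤ W → W = U ∨ W = X := by
  set U := thru Q U₀ H with hUdef
  have hU : MTS Q m U := thru_mts hnd hV hU₀ hH hHm
  have hHU : H ≤ U := le_sup_right
  set O := orthQ Q H with hO
  have hOrk : finrank F O = m + 1 := by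
    rw [hO, LinearMap.BilinForm.finrank_orthogonal hnd, hV]
    omega
  have hUO : U ≤ O := le_trans hU.ts.le_orth (LinearMap.BilinForm.orthogonal_le hHU)
  have hnle : ¬ O ≤ U := by
    intro hle
    have := Submodule.finrank_mono hle
    rw [hOrk, hU.rk] at this
    omega
  obtain ⟨v, hvO, hvU⟩ := SetLike.not_le_iff_exists.mp hnle
  obtain ⟨u₁, hu₁, hu₁v⟩ : ∃ u₁ ∈ U, polar (⇑Q) u₁ v ≠ 0 := by
    by_contra hcon
    push Not at hcon
    apply hvU
    rw [← hU.orth_eq hnd hV, mem_orth_iff]
    exact hcon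
  set c : F := Q v / polar (⇑Q) u₁ v with hc
  set x₀ : V := (1 : F) • v + (-c) • u₁ with hx₀
  have hQx₀ : Q x₀ = 0 := by
    rw [hx₀, Q_comb2, hU.ts u₁ hu₁, polar_comm, hc]
    field_simp
    ring
  have hx₀O : x₀ ∈ O := O.add_mem (O.smul_mem _ hvO) (O.smul_mem _ (hUO hu₁))
  have hx₀U : x₀ ∉ U := by
    intro h
    apply hvU
    have h2 : x₀ - (-c) • u₁ ∈ U := U.sub_mem h (U.smul_mem _ hu₁)
    rw [hx₀, add_sub_cancel_right, one_smul] at h2
    exact h2
  have hx₀H : x₀ ∉ H := fun h => hx₀U (hHU h)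
  refine ⟨U, H ⊔ Submodule.span F {x₀}, hU, ⟨?_, ?_⟩, hHU, le_sup_left, ?_, ?_⟩
  · apply TS.sup hH (TS.span_singleton hQx₀)
    intro u hu w hw
    obtain ⟨a, rfl⟩ := Submodule.mem_span_singleton.mp hw
    have := (mem_orth_iff Q H x₀).mp hx₀O u hu
    rw [polar_smul_right, this, smul_zero]
  · rw [Submodule.finrank_sup_span_singleton hx₀H]
    exact hHm
  · intro heq
    apply hx₀U
    rw [heq]
    exact Submodule.mem_sup_right (Submodule.mem_span_singleton_self x₀)
  · intro W hW hHW
    have hXm : MTS Q m (H ⊔ Submodule.span F {x₀}) := by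
      constructor
      · apply TS.sup hH (TS.span_singleton hQx₀)
        intro u hu w hw
        obtain ⟨a, rfl⟩ := Submodule.mem_span_singleton.mp hw
        have := (mem_orth_iff Q H x₀).mp hx₀O u hu
        rw [polar_smul_right, this, smul_zero]
      · rw [Submodule.finrank_sup_span_singleton hx₀H]
        exact hHm
    apply eq_or_eq_of_le hnd hV hU hXm hW hHm hHU le_sup_left hHW
    intro heq
    apply hx₀U
    rw [heq]
    exact Submodule.mem_sup_right (Submodule.mem_span_singleton_self x₀)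

end mts

end Cfsg.Agent.helper13
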