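import Mathlib
import Cfsg.Prelude.Def_ClassicalGeometry

set_option autoImplicit false

namespace Cfsg.Agent.helper4

open Matrix

variable {F : Type*} [Field F] {ι : Type} [Fintype ι] [DecidableEq ι]

theorem polarVec_dotProduct (Q : QuadraticForm F (ι → F)) (v x : ι → F) :
    Cfsg.polarVec (⇑Q) v ⬝ᵥ x = QuadraticMap.polar (⇑Q) v x := by
  have h := LinearMap.pi_apply_eq_sum_univ (QuadraticMap.polarBilin Q v) x
  simp only [QuadraticMap.polarBilin_apply_apply, smul_eq_mul] at h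
  rw [h]
  unfold Cfsg.polarVec dotProduct
  apply Finset.sum_congr rfl
  intro i _
  rw [mul_comm]
  congr 1
  change QuadraticMap.polar (⇑Q) v (Pi.single i 1) = _
  congr 1
  funext j
  simp [Pi.single_apply, eq_comm]

theorem reflectionMatrix_mulVec (Q : QuadraticForm F (ι → F)) (v x : ι → F) :
    Cfsg.reflectionMatrix (⇑Q) v *ᵥ x = x - ((Q v)⁻¹ * QuadraticMap.polar (⇑Q) v x) • v := by
  unfold Cfsg.reflectionMatrix
  rw [Matrix.sub_mulVec, Matrix.one_mulVec, Matrix.smul_mulVec, Matrix.vecMulVec_mulVec,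
    op_smul_eq_smul, smul_smul, polarVec_dotProduct]

theorem siegelMatrix_mulVec (Q : QuadraticForm F (ι → F)) (u v : ι → F) (c : F) (x : ι → F) :
    Cfsg.siegelMatrix (⇑Q) u v c *ᵥ x =
      x + c • (QuadraticMap.polar (⇑Q) u x • v - QuadraticMap.polar (⇑Q) v x • u) := by
  unfold Cfsg.siegelMatrix
  rw [Matrix.add_mulVec, Matrix.one_mulVec, Matrix.smul_mulVec, Matrix.sub_mulVec,
    Matrix.vecMulVec_mulVec, Matrix.vecMulVec_mulVec, op_smul_eq_smul, op_smul_eq_smul,
    polarVec_dotProduct, polarVec_dotProduct]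

omit [Fintype ι] [DecidableEq ι] in
theorem polar_self (Q : QuadraticForm F (ι → F)) (v : ι → F) :
    QuadraticMap.polar (⇑Q) v v = 2 * Q v := by
  rw [QuadraticMap.polar_self]; simp [two_smul, two_mul]

theorem Q_reflection (Q : QuadraticForm F (ι → F)) (v : ι → F) (hv : Q v ≠ 0) (x : ι → F) :
    Q (Cfsg.reflectionMatrix (⇑Q) v *ᵥ x) = Q x := by
  rw [reflectionMatrix_mulVec, sub_eq_add_neg, ← neg_smul, QuadraticMap.map_add Q,
    QuadraticMap.map_smul, QuadraticMap.polar_smul_right, QuadraticMap.polar_comm (⇑Q) x v]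
  simp only [smul_eq_mul]
  field_simp
  ring

theorem reflection_self (Q : QuadraticForm F (ι → F)) (v : ι → F) (hv : Q v ≠ 0) :
    Cfsg.reflectionMatrix (⇑Q) v *ᵥ v = -v := by
  rw [reflectionMatrix_mulVec, polar_self, ← mul_assoc, mul_comm _ (2 : F), mul_assoc,
    inv_mul_cancel₀ hv, mul_one, two_smul]
  abel

theorem reflection_fix (Q : QuadraticForm F (ι → F)) (v x : ι → F)
    (hx : QuadraticMap.polar (⇑Q) v x = 0) :
    Cfsg.reflectionMatrix (⇑Q) v *ᵥ x = x := by
  rw [reflectionMatrix_mulVec, hx, mul_zero, zero_smul, sub_zero]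

theorem det_reflection (Q : QuadraticForm F (ι → F)) (v : ι → F) (hv : Q v ≠ 0) :
    (Cfsg.reflectionMatrix (⇑Q) v).det = -1 := by
  unfold Cfsg.reflectionMatrix
  rw [sub_eq_add_neg, ← neg_smul, ← Matrix.smul_vecMulVec,
    Matrix.vecMulVec_eq (ι := Unit), Matrix.det_one_add_replicateCol_mul_replicateRow,
    dotProduct_smul, polarVec_dotProduct, polar_self, smul_eq_mul]
  field_simp
  ring

theorem Q_siegel (Q : QuadraticForm F (ι → F)) (u v : ι → F) (hu : Q u = 0) (hv : Q v = 0)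
    (huv : QuadraticMap.polar (⇑Q) u v = 0) (c : F) (x : ι → F) :
    Q (Cfsg.siegelMatrix (⇑Q) u v c *ᵥ x) = Q x := by
  have hvu : QuadraticMap.polar (⇑Q) v u = 0 := by rw [QuadraticMap.polar_comm]; exact huv
  rw [siegelMatrix_mulVec]
  set a := QuadraticMap.polar (⇑Q) u x with ha
  set b := QuadraticMap.polar (⇑Q) v x with hb
  have hw : Q (a • v - b • u) = 0 := by
    rw [sub_eq_add_neg, ← neg_smul, QuadraticMap.map_add Q, QuadraticMap.map_smul,
      QuadraticMap.map_smul, hu, hv, QuadraticMap.polar_smul_left, QuadraticMap.polar_smul_right, hvu]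
    simp
  have hxw : QuadraticMap.polar (⇑Q) x (a • v - b • u) = 0 := by
    rw [sub_eq_add_neg, ← neg_smul, QuadraticMap.polar_add_right, QuadraticMap.polar_smul_right,
      QuadraticMap.polar_smul_right, QuadraticMap.polar_comm (⇑Q) x v, QuadraticMap.polar_comm (⇑Q) x u]
    simp only [smul_eq_mul, ← ha, ← hb]
    ring
  rw [QuadraticMap.map_add Q, QuadraticMap.map_smul, hw, QuadraticMap.polar_smul_right, hxw]
  simp

theorem siegel_fix_left (Q : QuadraticForm F (ι → F)) (u v : ι → F) (hu : Q u = 0)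
    (huv : QuadraticMap.polar (⇑Q) u v = 0) (c : F) :
    Cfsg.siegelMatrix (⇑Q) u v c *ᵥ u = u := by
  have hvu : QuadraticMap.polar (⇑Q) v u = 0 := by rw [QuadraticMap.polar_comm]; exact huv
  rw [siegelMatrix_mulVec, polar_self, hu, hvu]
  simp

theorem siegel_fix_right (Q : QuadraticForm F (ι → F)) (u v : ι → F) (hv : Q v = 0)
    (huv : QuadraticMap.polar (⇑Q) u v = 0) (c : F) :
    Cfsg.siegelMatrix (⇑Q) u v c *ᵥ v = v := by
  rw [siegelMatrix_mulVec, polar_self, hv, huv]
  simp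

theorem siegel_mul (Q : QuadraticForm F (ι → F)) (u v : ι → F) (hu : Q u = 0) (hv : Q v = 0)
    (huv : QuadraticMap.polar (⇑Q) u v = 0) (c d : F) :
    Cfsg.siegelMatrix (⇑Q) u v c * Cfsg.siegelMatrix (⇑Q) u v d = Cfsg.siegelMatrix (⇑Q) u v (c + d) := by
  have hvu : QuadraticMap.polar (⇑Q) v u = 0 := by rw [QuadraticMap.polar_comm]; exact huv
  have huu : QuadraticMap.polar (⇑Q) u u = 0 := by rw [polar_self, hu, mul_zero]
  have hvv : QuadraticMap.polar (⇑Q) v v = 0 := by rw [polar_self, hv, mul_zero]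
  unfold Cfsg.siegelMatrix
  set N := (Matrix.vecMulVec v (Cfsg.polarVec (⇑Q) u) - Matrix.vecMulVec u (Cfsg.polarVec (⇑Q) v)) with hN
  have hNN : N * N = 0 := by
    rw [hN, Matrix.sub_mul, Matrix.mul_sub, Matrix.mul_sub, Matrix.vecMulVec_mul_vecMulVec,
      Matrix.vecMulVec_mul_vecMulVec, Matrix.vecMulVec_mul_vecMulVec, Matrix.vecMulVec_mul_vecMulVec,
      polarVec_dotProduct, polarVec_dotProduct, polarVec_dotProduct, polarVec_dotProduct,
      huv, huu, hvv, hvu]
    simp
  rw [Matrix.add_mul, Matrix.one_mul, Matrix.mul_add, Matrix.mul_one, Matrix.smul_mul,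
    Matrix.mul_smul, hNN, smul_zero, smul_zero, add_zero, add_smul, add_assoc]
  congr 1
  rw [add_comm]

end Cfsg.Agent.helper4
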