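import Mathlib
import Cfsg.Agent.Lib_helper4_Orth
import Cfsg.Agent.Lib_helper13_Witt

set_option autoImplicit false

namespace Cfsg.Agent.helper13

open Matrix QuadraticMap

section reflA
variable {F : Type*} [Field F] {ι : Type} [Fintype ι] [DecidableEq ι]
variable {Q : QuadraticForm F (ι → F)}

/-- action of an isometry on vectors. -/
def iact (g : ↥(Cfsg.isometryGroup F ⇑Q)) (x : ι → F) : ι → F :=
  ((g : Matrix.GeneralLinearGroup ι F) : Matrix ι ι F) *ᵥ x

theorem iact_one (x : ι → F) : iact (1 : ↥(Cfsg.isometryGroup F ⇑Q)) x = x := by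
  simp [iact]

theorem iact_mul (g h : ↥(Cfsg.isometryGroup F ⇑Q)) (x : ι → F) :
    iact (g * h) x = iact g (iact h x) := by
  simp [iact, Matrix.mulVec_mulVec]

theorem iact_add (g : ↥(Cfsg.isometryGroup F ⇑Q)) (x y : ι → F) :
    iact g (x + y) = iact g x + iact g y := Matrix.mulVec_add _ _ _

theorem iact_sub (g : ↥(Cfsg.isometryGroup F ⇑Q)) (x y : ι → F) :
    iact g (x - y) = iact g x - iact g y := Matrix.mulVec_sub _ _ _

theorem iact_smul (g : ↥(Cfsg.isometryGroup F ⇑Q)) (c : F) (x : ι → F) :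
    iact g (c • x) = c • iact g x := Matrix.mulVec_smul _ _ _

theorem iact_neg (g : ↥(Cfsg.isometryGroup F ⇑Q)) (x : ι → F) :
    iact g (-x) = - iact g x := Matrix.mulVec_neg _ _

theorem iact_zero (g : ↥(Cfsg.isometryGroup F ⇑Q)) : iact g (0 : ι → F) = 0 :=
  Matrix.mulVec_zero _

theorem Q_iact (g : ↥(Cfsg.isometryGroup F ⇑Q)) (x : ι → F) : Q (iact g x) = Q x :=
  g.2 x x

theorem polar_iact (g : ↥(Cfsg.isometryGroup F ⇑Q)) (x y : ι → F) :
    polar (⇑Q) (iact g x) (iact g y) = polar (⇑Q) x y := by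
  unfold polar
  rw [← iact_add, Q_iact, Q_iact, Q_iact]

theorem iact_inv_iact (g : ↥(Cfsg.isometryGroup F ⇑Q)) (x : ι → F) :
    iact g⁻¹ (iact g x) = x := by
  rw [← iact_mul, inv_mul_cancel, iact_one]

theorem iact_iact_inv (g : ↥(Cfsg.isometryGroup F ⇑Q)) (x : ι → F) :
    iact g (iact g⁻¹ x) = x := by
  rw [← iact_mul, mul_inv_cancel, iact_one]

theorem iact_ext {g h : ↥(Cfsg.isometryGroup F ⇑Q)} (H : ∀ x, iact g x = iact h x) : g = h := by
  apply Subtype.ext
  apply Units.ext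
  ext i j
  have := congr_fun (H (Pi.single j 1)) i
  unfold iact at this
  rw [Matrix.mulVec_single_one, Matrix.mulVec_single_one] at this
  exact this

variable (Q)

theorem reflM_mul_self (w : ι → F) (hw : Q w ≠ 0) :
    Cfsg.reflectionMatrix (⇑Q) w * Cfsg.reflectionMatrix (⇑Q) w = 1 := by
  ext i j
  have h1 : (Cfsg.reflectionMatrix (⇑Q) w * Cfsg.reflectionMatrix (⇑Q) w) *ᵥ (Pi.single j 1) =
      Pi.single j 1 := by
    rw [← Matrix.mulVec_mulVec]
    conv_lhs =>
      rw [Cfsg.Agent.helper4.reflectionMatrix_mulVec Q w (Pi.single j 1)]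
    rw [Matrix.mulVec_sub, Matrix.mulVec_smul, Cfsg.Agent.helper4.reflection_self Q w hw,
      Cfsg.Agent.helper4.reflectionMatrix_mulVec]
    simp
  have := congr_fun h1 i
  rw [Matrix.mulVec_single_one] at this
  simpa [Matrix.one_apply, Pi.single_apply, eq_comm] using this

/-- the reflection as an element of the isometry group. -/
def reflG (w : ι → F) (hw : Q w ≠ 0) : ↥(Cfsg.isometryGroup F ⇑Q) :=
  ⟨⟨Cfsg.reflectionMatrix (⇑Q) w, Cfsg.reflectionMatrix (⇑Q) w, reflM_mul_self Q w hw,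
    reflM_mul_self Q w hw⟩, by
    intro x _
    exact Cfsg.Agent.helper4.Q_reflection Q w hw x⟩

theorem reflG_coe (w : ι → F) (hw : Q w ≠ 0) :
    ((reflG Q w hw : Matrix.GeneralLinearGroup ι F) : Matrix ι ι F) =
      Cfsg.reflectionMatrix (⇑Q) w := rfl

theorem iact_reflG (w : ι → F) (hw : Q w ≠ 0) (x : ι → F) :
    iact (reflG Q w hw) x = x - ((Q w)⁻¹ * polar (⇑Q) w x) • w :=
  Cfsg.Agent.helper4.reflectionMatrix_mulVec Q w x

theorem reflG_mul_self (w : ι → F) (hw : Q w ≠ 0) : reflG Q w hw * reflG Q w hw = 1 := by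
  apply Subtype.ext
  apply Units.ext
  exact reflM_mul_self Q w hw

theorem reflG_inv (w : ι → F) (hw : Q w ≠ 0) : (reflG Q w hw)⁻¹ = reflG Q w hw :=
  inv_eq_of_mul_eq_one_left (reflG_mul_self Q w hw)

theorem iact_reflG_self (w : ι → F) (hw : Q w ≠ 0) : iact (reflG Q w hw) w = -w :=
  Cfsg.Agent.helper4.reflection_self Q w hw

theorem iact_reflG_of_polar (w : ι → F) (hw : Q w ≠ 0) (x : ι → F)
    (hx : polar (⇑Q) w x = 0) : iact (reflG Q w hw) x = x :=
  Cfsg.Agent.helper4.reflection_fix Q w x hx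

theorem reflG_conj (g : ↥(Cfsg.isometryGroup F ⇑Q)) (w : ι → F) (hw : Q w ≠ 0) :
    g * reflG Q w hw * g⁻¹ = reflG Q (iact g w) (by rw [Q_iact]; exact hw) := by
  apply iact_ext
  intro x
  rw [iact_mul, iact_mul, iact_reflG, iact_reflG, iact_sub, iact_smul, iact_iact_inv, Q_iact]
  congr 3
  rw [← polar_iact g w (iact g⁻¹ x), iact_iact_inv]

theorem reflG_smul (w : ι → F) (hw : Q w ≠ 0) (t : F) (ht : t ≠ 0)
    (hw' : Q (t • w) ≠ 0) : reflG Q (t • w) hw' = reflG Q w hw := by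
  apply iact_ext
  intro x
  rw [iact_reflG, iact_reflG, QuadraticMap.map_smul, polar_smul_left, smul_smul]
  congr 2
  simp only [smul_eq_mul]
  field_simp

theorem det_reflG (w : ι → F) (hw : Q w ≠ 0) :
    ((reflG Q w hw : Matrix.GeneralLinearGroup ι F) : Matrix ι ι F).det = -1 :=
  Cfsg.Agent.helper4.det_reflection Q w hw

end reflA

end Cfsg.Agent.helper13
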