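import Mathlib
import Cfsg.Agent.Lib_helper13_ReflA
import Cfsg.Agent.Lib_helper13_MaxTS

set_option autoImplicit false

namespace Cfsg.Agent.helper13

open Matrix QuadraticMap Module

section reflB
variable {F : Type*} [Field F] {ι : Type} [Fintype ι] [DecidableEq ι]
variable (Q : QuadraticForm F (ι → F))

/-- subgroup generated by the reflections with centre in `U`. -/
def RU (U : Submodule F (ι → F)) : Subgroup ↥(Cfsg.isometryGroup F ⇑Q) :=
  Subgroup.closure {r | ∃ w ∈ U, ∃ hw : Q w ≠ 0, r = reflG Q w hw}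

theorem reflG_mem_RU (U : Submodule F (ι → F)) (w : ι → F) (hwU : w ∈ U) (hw : Q w ≠ 0) :
    reflG Q w hw ∈ RU Q U :=
  Subgroup.subset_closure ⟨w, hwU, hw, rfl⟩

theorem RU_mono {U U' : Submodule F (ι → F)} (h : U ≤ U') : RU Q U ≤ RU Q U' := by
  apply Subgroup.closure_mono
  rintro r ⟨w, hwU, hw, rfl⟩
  exact ⟨w, h hwU, hw, rfl⟩

theorem RU_fix (U : Submodule F (ι → F)) (g : ↥(Cfsg.isometryGroup F ⇑Q)) (hg : g ∈ RU Q U)
    (z : ι → F) (hz : ∀ u ∈ U, polar (⇑Q) u z = 0) : iact g z = z := by
  unfold RU at hg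
  induction hg using Subgroup.closure_induction with
  | mem r hr =>
    obtain ⟨w, hwU, hw, rfl⟩ := hr
    exact iact_reflG_of_polar Q w hw z (hz w hwU)
  | one => exact iact_one z
  | mul a b _ _ ha hb => rw [iact_mul, hb, ha]
  | inv a _ ha =>
    have := iact_inv_iact a z
    rw [ha] at this
    exact this

theorem Q_add_sub (y v : ι → F) : Q (y - v) + Q (y + v) = 2 * Q y + 2 * Q v := by
  have e1 : Q (y + v) = Q y + Q v + polar (⇑Q) y v := by
    unfold polar
    ring
  have e2 : Q (y - v) = Q y + Q v - polar (⇑Q) y v := by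
    have : Q (y + -v) = Q y + Q (-v) + polar (⇑Q) y (-v) := by
      unfold polar
      ring
    rw [sub_eq_add_neg, this, QuadraticMap.map_neg, polar_neg_right]
    ring
  rw [e1, e2]
  ring

theorem exists_RU_map (h2 : (2 : F) ≠ 0) (U : Submodule F (ι → F)) (y v : ι → F)
    (hyU : y ∈ U) (hvU : v ∈ U) (hyv : Q y = Q v) (hv : Q v ≠ 0) :
    ∃ ρ ∈ RU Q U, iact ρ y = v := by
  have hsum := Q_add_sub Q y v
  by_cases hA : Q (y - v) ≠ 0
  · refine ⟨reflG Q (y - v) hA, reflG_mem_RU Q U _ (U.sub_mem hyU hvU) hA, ?_⟩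
    rw [iact_reflG]
    have hc : polar (⇑Q) (y - v) y = Q (y - v) := by
      have e2 : Q (y - v) = Q y + Q v - polar (⇑Q) y v := by
        have : Q (y + -v) = Q y + Q (-v) + polar (⇑Q) y (-v) := by
          unfold polar
          ring
        rw [sub_eq_add_neg, this, QuadraticMap.map_neg, polar_neg_right]
        ring
      rw [e2, polar_sub_left, polar_self', polar_comm (⇑Q) v y, hyv]
      ring
    rw [hc, inv_mul_cancel₀ hA, one_smul]
    abel
  · push Not at hA
    have hB : Q (y + v) ≠ 0 := by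
      rw [hA, zero_add, hyv] at hsum
      rw [hsum]
      have : (2 : F) * Q v + 2 * Q v = 2 * 2 * Q v := by ring
      rw [this]
      exact mul_ne_zero (mul_ne_zero h2 h2) hv
    refine ⟨reflG Q v hv * reflG Q (y + v) hB,
      Subgroup.mul_mem _ (reflG_mem_RU Q U _ hvU hv)
        (reflG_mem_RU Q U _ (U.add_mem hyU hvU) hB), ?_⟩
    rw [iact_mul, iact_reflG Q (y + v)]
    have hc : polar (⇑Q) (y + v) y = Q (y + v) := by
      have e1 : Q (y + v) = Q y + Q v + polar (⇑Q) y v := by
        unfold polar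
        ring
      rw [e1, polar_add_left, polar_self', polar_comm (⇑Q) v y, hyv]
      ring
    rw [hc, inv_mul_cancel₀ hB, one_smul]
    have : y - (y + v) = -v := by abel
    rw [this, iact_neg, iact_reflG_self, neg_neg]

theorem cartan_dieudonne_aux (h2 : (2 : F) ≠ 0) (hQ : (polarBilin Q).Nondegenerate) :
    ∀ (d : ℕ) (U : Submodule F (ι → F)), finrank F U = d →
      (∀ x ∈ U, (∀ u ∈ U, polar (⇑Q) u x = 0) → x = 0) →
      ∀ g : ↥(Cfsg.isometryGroup F ⇑Q),
        (∀ z, (∀ u ∈ U, polar (⇑Q) u z = 0) → iact g z = z) → g ∈ RU Q U := by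
  intro d
  induction d using Nat.strong_induction_on with
  | _ d ih =>
  intro U hd hnd g hfix
  by_cases hall : ∀ w ∈ U, Q w = 0
  · have hU0 : ∀ x ∈ U, x = 0 := by
      intro x hx
      apply hnd x hx
      intro u hu
      unfold polar
      rw [hall _ (U.add_mem hu hx), hall u hu, hall x hx]
      simp
    have : g = 1 := by
      apply iact_ext
      intro x
      rw [iact_one]
      apply hfix
      intro u hu
      rw [hU0 u hu, polar_zero_left]
    rw [this]
    exact Subgroup.one_mem _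
  · push Not at hall
    obtain ⟨v, hvU, hv⟩ := hall
    have hyU : iact g v ∈ U := by
      rw [← LinearMap.BilinForm.orthogonal_orthogonal hQ (polarBilin_isSymm Q).isRefl U,
        LinearMap.BilinForm.mem_orthogonal_iff]
      intro z hz
      rw [LinearMap.BilinForm.mem_orthogonal_iff] at hz
      have hz' : ∀ u ∈ U, polar (⇑Q) u z = 0 := by
        intro u hu
        have := hz u hu
        rwa [polarBilin_apply_apply] at this
      have hzfix : iact g z = z := hfix z hz'
      rw [polarBilin_apply_apply]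
      have h1 : polar (⇑Q) z (iact g v) = polar (⇑Q) (iact g z) (iact g v) := by rw [hzfix]
      rw [h1, polar_iact, polar_comm]
      exact hz' v hvU
    obtain ⟨ρ, hρ, hρy⟩ := exists_RU_map Q h2 U (iact g v) v hyU hvU (Q_iact g v) hv
    have hhv : iact (ρ * g) v = v := by
      rw [iact_mul]
      exact hρy
    have hhfix : ∀ z, (∀ u ∈ U, polar (⇑Q) u z = 0) → iact (ρ * g) z = z := by
      intro z hz
      rw [iact_mul, hfix z hz, RU_fix Q U ρ hρ z hz]
    have hpvv : polar (⇑Q) v v ≠ 0 := by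
      rw [polar_self']
      exact mul_ne_zero h2 hv
    set U₁ : Submodule F (ι → F) := U ⊓ orthQ Q (Submodule.span F {v}) with hU₁
    have memU₁ : ∀ x, x ∈ U₁ ↔ x ∈ U ∧ polar (⇑Q) v x = 0 := by
      intro x
      rw [hU₁, Submodule.mem_inf, mem_orth_singleton_iff]
    have hdec : ∀ u ∈ U, ∃ a : F, u - a • v ∈ U₁ := by
      intro u hu
      refine ⟨polar (⇑Q) v u / polar (⇑Q) v v, ?_⟩
      rw [memU₁]
      refine ⟨U.sub_mem hu (U.smul_mem _ hvU), ?_⟩
      rw [polar_sub_right, polar_smul_right, smul_eq_mul, div_mul_cancel₀ _ hpvv, sub_self]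
    have hlt : U₁ < U := by
      refine lt_of_le_of_ne inf_le_left ?_
      intro heq
      have : v ∈ U₁ := by
        rw [heq]
        exact hvU
      exact hpvv ((memU₁ v).mp this).2
    have hd₁ : finrank F U₁ < d := by
      rw [← hd]
      exact Submodule.finrank_lt_finrank_of_lt hlt
    have hnd₁ : ∀ x ∈ U₁, (∀ u ∈ U₁, polar (⇑Q) u x = 0) → x = 0 := by
      intro x hx hx'
      apply hnd x ((memU₁ x).mp hx).1
      intro u hu
      obtain ⟨a, ha⟩ := hdec u hu
      have hu' : u = a • v + (u - a • v) := by abel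
      rw [hu', polar_add_left, polar_smul_left, ((memU₁ x).mp hx).2, hx' _ ha]
      simp
    have hfix₁ : ∀ z, (∀ u ∈ U₁, polar (⇑Q) u z = 0) → iact (ρ * g) z = z := by
      intro z hz
      set a := polar (⇑Q) v z / polar (⇑Q) v v with ha
      have hz'v : polar (⇑Q) v (z - a • v) = 0 := by
        rw [polar_sub_right, polar_smul_right, smul_eq_mul, ha, div_mul_cancel₀ _ hpvv, sub_self]
      have hz'U : ∀ u ∈ U, polar (⇑Q) u (z - a • v) = 0 := by
        intro u hu
        obtain ⟨b, hb⟩ := hdec u hu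
        have hu' : u = b • v + (u - b • v) := by abel
        rw [hu', polar_add_left, polar_smul_left, hz'v, polar_sub_right, hz _ hb,
          polar_smul_right, polar_comm (⇑Q) _ v, ((memU₁ _).mp hb).2]
        simp
      have hz' : z = a • v + (z - a • v) := by abel
      rw [hz', iact_add, iact_smul, hhv, hhfix _ hz'U]
    have hmem := ih (finrank F U₁) hd₁ U₁ rfl hnd₁ (ρ * g) hfix₁
    have hh : ρ * g ∈ RU Q U := RU_mono Q inf_le_left hmem
    have hg : g = ρ⁻¹ * (ρ * g) := by group
    rw [hg]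
    exact Subgroup.mul_mem _ (Subgroup.inv_mem _ hρ) hh

theorem cartan_dieudonne (h2 : (2 : F) ≠ 0) (hQ : (polarBilin Q).Nondegenerate)
    (g : ↥(Cfsg.isometryGroup F ⇑Q)) : g ∈ RU Q ⊤ := by
  apply cartan_dieudonne_aux Q h2 hQ _ ⊤ rfl
  · intro x _ hx
    apply hQ.2 x
    intro u
    rw [polarBilin_apply_apply]
    exact hx u Submodule.mem_top
  · intro z hz
    have : z = 0 := by
      apply hQ.2 z
      intro u
      rw [polarBilin_apply_apply]
      exact hz u Submodule.mem_top
    rw [this, iact_zero]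

end reflB

end Cfsg.Agent.helper13
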