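import Mathlib
import Cfsg.Agent.Lib_helper13_ReflB

set_option autoImplicit false

namespace Cfsg.Agent.helper13

open Matrix QuadraticMap Module

section chartwoA
variable {F : Type*} [Field F] {ι : Type} [Fintype ι] [DecidableEq ι]
variable (Q : QuadraticForm F (ι → F))

omit [Fintype ι] [DecidableEq ι] in
theorem neg_eq_self_of_two (h2 : (2 : F) = 0) (v : ι → F) : -v = v := by
  have h : v + v = 0 := by
    rw [← two_smul F v, h2, zero_smul]
  exact neg_eq_of_add_eq_zero_left h

omit [Fintype ι] [DecidableEq ι] in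
theorem sub_eq_add_of_two (h2 : (2 : F) = 0) (u v : ι → F) : u - v = u + v := by
  rw [sub_eq_add_neg, neg_eq_self_of_two h2]

omit [Fintype ι] [DecidableEq ι] in
theorem neg_one_eq_one_of_two (h2 : (2 : F) = 0) : (-1 : F) = 1 := by
  have : (1 : F) + 1 = 0 := by rw [one_add_one_eq_two, h2]
  exact neg_eq_of_add_eq_zero_left this

omit [Fintype ι] [DecidableEq ι] in
theorem add_self_of_two (h2 : (2 : F) = 0) (a : F) : a + a = 0 := by
  rw [← two_mul, h2, zero_mul]

omit [Fintype ι] [DecidableEq ι] in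
theorem polar_self_zero (h2 : (2 : F) = 0) (x : ι → F) : polar (⇑Q) x x = 0 := by
  rw [polar_self', h2, zero_mul]

omit [Fintype ι] [DecidableEq ι] in
theorem Q_addC (x y : ι → F) : Q (x + y) = Q x + Q y + polar (⇑Q) x y := by
  unfold polar
  ring

/-- in characteristic two the reflection in `y + y'` swaps `y` and `y'`. -/
theorem refl_swap (h2 : (2 : F) = 0) (y y' : ι → F) (hyy : Q y = Q y')
    (hf : polar (⇑Q) y y' ≠ 0) :
    ∃ hw : Q (y + y') ≠ 0, iact (reflG Q (y + y') hw) y' = y := by
  have hQ : Q (y + y') = polar (⇑Q) y y' := by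
    rw [Q_addC, ← hyy, add_self_of_two h2, zero_add]
  have hw : Q (y + y') ≠ 0 := by rw [hQ]; exact hf
  refine ⟨hw, ?_⟩
  rw [iact_reflG, hQ, polar_add_left, polar_self_zero Q h2, add_zero, inv_mul_cancel₀ hf, one_smul]
  have : y' - (y + y') = -y := by abel
  rw [this, neg_eq_self_of_two h2]

/-- the orthogonal complement in `U` of the plane spanned by `y`, `z`. -/
def planeCompl (U : Submodule F (ι → F)) (y z : ι → F) : Submodule F (ι → F) :=
  U ⊓ orthQ Q (Submodule.span F {y}) ⊓ orthQ Q (Submodule.span F {z})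

omit [Fintype ι] [DecidableEq ι] in
theorem mem_planeCompl (U : Submodule F (ι → F)) (y z x : ι → F) :
    x ∈ planeCompl Q U y z ↔ x ∈ U ∧ polar (⇑Q) y x = 0 ∧ polar (⇑Q) z x = 0 := by
  unfold planeCompl
  rw [Submodule.mem_inf, Submodule.mem_inf, mem_orth_singleton_iff, mem_orth_singleton_iff,
    and_assoc]

omit [Fintype ι] [DecidableEq ι] in
theorem planeCompl_le (U : Submodule F (ι → F)) (y z : ι → F) : planeCompl Q U y z ≤ U :=
  fun _ hx => ((mem_planeCompl Q U y z _).mp hx).1

omit [Fintype ι] [DecidableEq ι] in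
theorem planeCompl_dec (h2 : (2 : F) = 0) (U : Submodule F (ι → F)) (y z : ι → F)
    (hy : y ∈ U) (hz : z ∈ U) (hyz : polar (⇑Q) y z = 1) (u : ι → F) (hu : u ∈ U) :
    u - polar (⇑Q) z u • y - polar (⇑Q) y u • z ∈ planeCompl Q U y z := by
  have hzy : polar (⇑Q) z y = 1 := by rw [polar_comm]; exact hyz
  rw [mem_planeCompl]
  refine ⟨U.sub_mem (U.sub_mem hu (U.smul_mem _ hy)) (U.smul_mem _ hz), ?_, ?_⟩
  · rw [polar_sub_right, polar_sub_right, polar_smul_right, polar_smul_right,
      polar_self_zero Q h2, hyz]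
    simp
  · rw [polar_sub_right, polar_sub_right, polar_smul_right, polar_smul_right,
      polar_self_zero Q h2, hzy]
    simp

/-- nondegeneracy of a subspace. -/
def NondegOn (U : Submodule F (ι → F)) : Prop :=
  ∀ x ∈ U, (∀ u ∈ U, polar (⇑Q) u x = 0) → x = 0

omit [Fintype ι] [DecidableEq ι] in
theorem planeCompl_nondeg (h2 : (2 : F) = 0) (U : Submodule F (ι → F)) (hU : NondegOn Q U)
    (y z : ι → F) (hy : y ∈ U) (hz : z ∈ U) (hyz : polar (⇑Q) y z = 1) :
    NondegOn Q (planeCompl Q U y z) := by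
  intro x hx hx'
  obtain ⟨hxU, hyx, hzx⟩ := (mem_planeCompl Q U y z x).mp hx
  apply hU x hxU
  intro u hu
  have hdec := planeCompl_dec Q h2 U y z hy hz hyz u hu
  have hu' : u = (u - polar (⇑Q) z u • y - polar (⇑Q) y u • z) + polar (⇑Q) z u • y +
      polar (⇑Q) y u • z := by abel
  rw [hu', polar_add_left, polar_add_left, polar_smul_left, polar_smul_left, hyx, hzx,
    hx' _ hdec]
  simp

omit [DecidableEq ι] in
theorem planeCompl_finrank (h2 : (2 : F) = 0) (U : Submodule F (ι → F))
    (y z : ι → F) (hy : y ∈ U) (hz : z ∈ U) (hyz : polar (⇑Q) y z = 1) :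
    finrank F ↥(planeCompl Q U y z) + 2 = finrank F U := by
  have hzy : polar (⇑Q) z y = 1 := by rw [polar_comm]; exact hyz
  have hy1 : y ∉ planeCompl Q U y z := by
    intro h
    have := ((mem_planeCompl Q U y z y).mp h).2.2
    rw [hzy] at this
    exact one_ne_zero this
  have hz1 : z ∉ planeCompl Q U y z ⊔ Submodule.span F {y} := by
    intro h
    obtain ⟨a, ha, b, hb, hab⟩ := Submodule.mem_sup.mp h
    obtain ⟨c, rfl⟩ := Submodule.mem_span_singleton.mp hb
    have h1 : polar (⇑Q) y z = 0 := by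
      rw [← hab, polar_add_right, ((mem_planeCompl Q U y z a).mp ha).2.1, polar_smul_right,
        polar_self_zero Q h2]
      simp
    rw [hyz] at h1
    exact one_ne_zero h1
  have heq : planeCompl Q U y z ⊔ Submodule.span F {y} ⊔ Submodule.span F {z} = U := by
    apply le_antisymm
    · apply sup_le (sup_le (planeCompl_le Q U y z) _) _
      · rw [Submodule.span_singleton_le_iff_mem]; exact hy
      · rw [Submodule.span_singleton_le_iff_mem]; exact hz
    · intro u hu
      have hdec := planeCompl_dec Q h2 U y z hy hz hyz u hu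
      have hu' : u = (u - polar (⇑Q) z u • y - polar (⇑Q) y u • z) + polar (⇑Q) z u • y +
          polar (⇑Q) y u • z := by abel
      rw [hu']
      apply Submodule.add_mem
      · apply Submodule.mem_sup_left
        apply Submodule.add_mem
        · exact Submodule.mem_sup_left hdec
        · exact Submodule.mem_sup_right (Submodule.smul_mem _ _ (Submodule.mem_span_singleton_self y))
      · exact Submodule.mem_sup_right (Submodule.smul_mem _ _ (Submodule.mem_span_singleton_self z))
  have h3 : finrank F ↥(planeCompl Q U y z ⊔ Submodule.span F {y} ⊔ Submodule.span F {z}) =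
      finrank F U := by rw [heq]
  rw [← h3, Submodule.finrank_sup_span_singleton hz1, Submodule.finrank_sup_span_singleton hy1]

/-- second transitivity lemma: unconditional in characteristic two. -/
theorem lemB (h2 : (2 : F) = 0) (U : Submodule F (ι → F)) (y z z' : ι → F)
    (hyU : y ∈ U) (hzU : z ∈ U) (hz'U : z' ∈ U) (hy : Q y ≠ 0)
    (hyz : polar (⇑Q) y z = 1) (hyz' : polar (⇑Q) y z' = 1) (hzz : Q z = Q z') :
    ∃ ρ ∈ RU Q (U ⊓ orthQ Q (Submodule.span F {y})), iact ρ z' = z := by
  have hmem : ∀ w, w ∈ U → polar (⇑Q) y w = 0 → w ∈ U ⊓ orthQ Q (Submodule.span F {y}) := by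
    intro w hw hyw
    rw [Submodule.mem_inf, mem_orth_singleton_iff]
    exact ⟨hw, hyw⟩
  by_cases heq : z' = z
  · exact ⟨1, Subgroup.one_mem _, by rw [iact_one, heq]⟩
  by_cases hf : polar (⇑Q) z z' ≠ 0
  · obtain ⟨hw, hsw⟩ := refl_swap Q h2 z z' hzz hf
    refine ⟨reflG Q (z + z') hw, reflG_mem_RU Q _ _ (hmem _ (U.add_mem hzU hz'U) ?_) hw, hsw⟩
    rw [polar_add_right, hyz, hyz', one_add_one_eq_two, h2]
  · push Not at hf
    -- the connector t' = z + (Q y)⁻¹ • y
    set t : ι → F := z + (Q y)⁻¹ • y with ht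
    have htU : t ∈ U := U.add_mem hzU (U.smul_mem _ hyU)
    have hyt : polar (⇑Q) y t = 1 := by
      rw [ht, polar_add_right, polar_smul_right, polar_self_zero Q h2, hyz]
      simp
    have hzy : polar (⇑Q) z y = 1 := by rw [polar_comm]; exact hyz
    have hz'y : polar (⇑Q) z' y = 1 := by rw [polar_comm]; exact hyz'
    have hQt : Q t = Q z := by
      rw [ht, Q_addC, QuadraticMap.map_smul, polar_smul_right, hzy, smul_eq_mul, smul_eq_mul,
        mul_one]
      have : (Q y)⁻¹ * (Q y)⁻¹ * Q y = (Q y)⁻¹ := by field_simp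
      rw [this, add_assoc, add_self_of_two h2, add_zero]
    have hzt : polar (⇑Q) z t = (Q y)⁻¹ := by
      rw [ht, polar_add_right, polar_self_zero Q h2, polar_smul_right, hzy]
      simp
    have htz' : polar (⇑Q) t z' = (Q y)⁻¹ := by
      rw [ht, polar_add_left, polar_smul_left, hf, polar_comm (⇑Q) y z', hz'y]
      simp
    have hinv : (Q y)⁻¹ ≠ 0 := inv_ne_zero hy
    obtain ⟨hw1, hs1⟩ := refl_swap Q h2 t z' (by rw [hQt, hzz]) (by rw [htz']; exact hinv)
    obtain ⟨hw2, hs2⟩ := refl_swap Q h2 z t hQt.symm (by rw [hzt]; exact hinv)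
    refine ⟨reflG Q (z + t) hw2 * reflG Q (t + z') hw1, ?_, ?_⟩
    · apply Subgroup.mul_mem
      · apply reflG_mem_RU Q _ _ (hmem _ (U.add_mem hzU htU) ?_) hw2
        rw [polar_add_right, hyz, hyt, one_add_one_eq_two, h2]
      · apply reflG_mem_RU Q _ _ (hmem _ (U.add_mem htU hz'U) ?_) hw1
        rw [polar_add_right, hyt, hyz', one_add_one_eq_two, h2]
    · rw [iact_mul, hs1, hs2]

end chartwoA

end Cfsg.Agent.helper13
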