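import Mathlib
import Cfsg.Agent.Lib_helper13_C2A

set_option autoImplicit false

namespace Cfsg.Agent.helper13

open Matrix QuadraticMap Module

section chartwoB
variable {F : Type*} [Field F] [Fintype F] {ι : Type} [Fintype ι] [DecidableEq ι]
variable (Q : QuadraticForm F (ι → F))

/-- exceptional subspaces: four-dimensional with a totally singular plane, over the field of
two elements. -/
def Exc (U : Submodule F (ι → F)) : Prop :=
  Fintype.card F = 2 ∧ finrank F U = 4 ∧ ∃ a ∈ U, ∃ b ∈ U, a ≠ 0 ∧ b ≠ 0 ∧ a ≠ b ∧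
    Q a = 0 ∧ Q b = 0 ∧ polar (⇑Q) a b = 0

theorem F2_cases (hF : Fintype.card F = 2) (c : F) : c = 0 ∨ c = 1 := by
  by_contra h
  push Not at h
  have : 2 < Fintype.card F := Fintype.two_lt_card_iff.mpr ⟨0, 1, c, zero_ne_one, h.1.symm, h.2.symm⟩
  omega

theorem exists_ne_zero_one (hF : Fintype.card F ≠ 2) : ∃ c : F, c ≠ 0 ∧ c ≠ 1 := by
  classical
  by_contra h
  push Not at h
  apply hF
  rw [← Nat.card_eq_fintype_card, Nat.card_eq_two_iff]
  refine ⟨0, 1, zero_ne_one, ?_⟩
  ext c
  simp only [Set.mem_insert_iff, Set.mem_singleton_iff, Set.mem_univ, iff_true]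
  by_cases hc : c = 0
  · exact Or.inl hc
  · exact Or.inr (h c hc)

omit [Fintype F] [Fintype ι] [DecidableEq ι] in
theorem exists_nonorth (U : Submodule F (ι → F)) (hU : NondegOn Q U) (y y' : ι → F)
    (hyU : y ∈ U) (hy'U : y' ∈ U) (hy : y ≠ 0) (hy' : y' ≠ 0) :
    ∃ s ∈ U, polar (⇑Q) s y ≠ 0 ∧ polar (⇑Q) s y' ≠ 0 := by
  by_contra h
  push Not at h
  have hcover : ∀ w ∈ U, w ∈ U ⊓ orthQ Q (Submodule.span F {y}) ∨
      w ∈ U ⊓ orthQ Q (Submodule.span F {y'}) := by
    intro w hw
    by_cases h1 : polar (⇑Q) w y = 0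
    · left
      rw [Submodule.mem_inf, mem_orth_singleton_iff, polar_comm]
      exact ⟨hw, h1⟩
    · right
      rw [Submodule.mem_inf, mem_orth_singleton_iff, polar_comm]
      exact ⟨hw, h w hw h1⟩
  rcases le_or_le_of_forall_mem hcover with h1 | h1
  · apply hy
    apply hU y hyU
    intro u hu
    have := (Submodule.mem_inf.mp (h1 hu)).2
    rw [mem_orth_singleton_iff] at this
    rw [polar_comm]
    exact this
  · apply hy'
    apply hU y' hy'U
    intro u hu
    have := (Submodule.mem_inf.mp (h1 hu)).2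
    rw [mem_orth_singleton_iff] at this
    rw [polar_comm]
    exact this

omit [Fintype F] [DecidableEq ι] in
theorem finrank_inf_orth_singleton (hQ : (polarBilin Q).Nondegenerate)
    (U : Submodule F (ι → F)) (y : ι → F) :
    finrank F U ≤ finrank F ↥(U ⊓ orthQ Q (Submodule.span F {y})) + 1 := by
  have h1 := Submodule.finrank_sup_add_finrank_inf_eq U (orthQ Q (Submodule.span F {y}))
  have h3 : finrank F ↥(U ⊔ orthQ Q (Submodule.span F {y})) ≤ finrank F (ι → F) :=
    Submodule.finrank_le _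
  have h4 : finrank F ↥(orthQ Q (Submodule.span F {y})) =
      finrank F (ι → F) - finrank F ↥(Submodule.span F {y}) :=
    LinearMap.BilinForm.finrank_orthogonal hQ _
  have h5 : finrank F ↥(Submodule.span F {y}) ≤ 1 := by
    by_cases hy : y = 0
    · rw [hy, Submodule.span_zero_singleton, finrank_bot]
      omega
    · rw [finrank_span_singleton hy]
  have h6 : finrank F ↥(Submodule.span F {y}) ≤ finrank F (ι → F) := Submodule.finrank_le _
  omega

omit [Fintype F] [DecidableEq ι] in
theorem orth_orth (hQ : (polarBilin Q).Nondegenerate) (U : Submodule F (ι → F)) :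
    orthQ Q (orthQ Q U) = U :=
  LinearMap.BilinForm.orthogonal_orthogonal hQ (polarBilin_isSymm Q).isRefl U

omit [Fintype F] [DecidableEq ι] in
theorem inf_orth_self_eq_bot (U : Submodule F (ι → F)) (hU : NondegOn Q U) :
    U ⊓ orthQ Q U = ⊥ := by
  rw [eq_bot_iff]
  intro x hx
  obtain ⟨hxU, hxo⟩ := Submodule.mem_inf.mp hx
  rw [Submodule.mem_bot]
  apply hU x hxU
  intro u hu
  exact (mem_orth_iff Q U x).mp hxo u hu

omit [Fintype F] [DecidableEq ι] in
/-- dimension of the orthogonal complement inside a nondegenerate subspace. -/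
theorem finrank_inf_orth_of_le (hQ : (polarBilin Q).Nondegenerate)
    (U : Submodule F (ι → F)) (hU : NondegOn Q U) (W : Submodule F (ι → F)) (hWU : W ≤ U) :
    finrank F ↥(U ⊓ orthQ Q W) + finrank F W = finrank F U := by
  have e : U ⊓ orthQ Q W = orthQ Q (orthQ Q U ⊔ W) := by
    rw [orth_sup, orth_orth Q hQ]
  have h1 : finrank F ↥(orthQ Q (orthQ Q U ⊔ W)) =
      finrank F (ι → F) - finrank F ↥(orthQ Q U ⊔ W) :=
    LinearMap.BilinForm.finrank_orthogonal hQ _
  have h3 : finrank F ↥(orthQ Q U) = finrank F (ι → F) - finrank F U :=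
    LinearMap.BilinForm.finrank_orthogonal hQ _
  have h4 := Submodule.finrank_sup_add_finrank_inf_eq (orthQ Q U) W
  have h5 : orthQ Q U ⊓ W = ⊥ := by
    rw [eq_bot_iff, ← inf_orth_self_eq_bot Q U hU]
    exact le_inf (le_trans inf_le_right hWU) inf_le_left
  rw [h5, finrank_bot] at h4
  have h6 : finrank F U ≤ finrank F (ι → F) := Submodule.finrank_le _
  have h7 : finrank F ↥(orthQ Q U ⊔ W) ≤ finrank F (ι → F) := Submodule.finrank_le _
  rw [e, h1]
  omega

theorem exists_connector (h2 : (2 : F) = 0) (hQ : (polarBilin Q).Nondegenerate)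
    (U : Submodule F (ι → F)) (hU : NondegOn Q U) (hExc : ¬ Exc Q U) (y y' : ι → F)
    (hyU : y ∈ U) (hy'U : y' ∈ U) (hy : Q y ≠ 0) (hyy : Q y = Q y') (hne : y ≠ y')
    (hf : polar (⇑Q) y y' = 0) :
    ∃ s ∈ U, Q s ≠ 0 ∧ polar (⇑Q) s y ≠ 0 ∧ polar (⇑Q) s y' ≠ 0 := by
  have hy0 : y ≠ 0 := by
    rintro rfl
    exact hy (QuadraticMap.map_zero Q)
  have hy'0 : y' ≠ 0 := by
    rintro rfl
    rw [QuadraticMap.map_zero] at hyy
    exact hy hyy
  obtain ⟨s₀, hs₀U, hs₀y, hs₀y'⟩ := exists_nonorth Q U hU y y' hyU hy'U hy0 hy'0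
  by_cases hF : Fintype.card F = 2
  · by_cases hQs : Q s₀ ≠ 0
    · exact ⟨s₀, hs₀U, hQs, hs₀y, hs₀y'⟩
    push Not at hQs
    have e1 : polar (⇑Q) s₀ y = 1 := (F2_cases hF _).resolve_left hs₀y
    have e2 : polar (⇑Q) s₀ y' = 1 := (F2_cases hF _).resolve_left hs₀y'
    have hyW : y ∈ planeCompl Q U y y' := by
      rw [mem_planeCompl]
      refine ⟨hyU, polar_self_zero Q h2 y, ?_⟩
      rw [polar_comm]; exact hf
    have hy'W : y' ∈ planeCompl Q U y y' := by
      rw [mem_planeCompl]
      exact ⟨hy'U, hf, polar_self_zero Q h2 y'⟩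
    by_cases hd : 5 ≤ finrank F U
    · -- find two non-orthogonal vectors in the complement
      have hex : ∃ h₁ ∈ planeCompl Q U y y', ∃ h₂ ∈ planeCompl Q U y y',
          polar (⇑Q) h₁ h₂ ≠ 0 := by
        by_contra hcon
        push Not at hcon
        have hWle : planeCompl Q U y y' ≤ U ⊓ orthQ Q (planeCompl Q U y y') := by
          intro w hw
          rw [Submodule.mem_inf, mem_orth_iff]
          exact ⟨planeCompl_le Q U y y' hw, fun u hu => hcon u hu w hw⟩
        have h1 := Submodule.finrank_mono hWle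
        have h3 := finrank_inf_orth_of_le Q hQ U hU (planeCompl Q U y y') (planeCompl_le Q U y y')
        have h4 := finrank_inf_orth_singleton Q hQ U y
        have h5 := finrank_inf_orth_singleton Q hQ (U ⊓ orthQ Q (Submodule.span F {y})) y'
        have h6 : finrank F ↥(planeCompl Q U y y') =
            finrank F ↥(U ⊓ orthQ Q (Submodule.span F {y}) ⊓ orthQ Q (Submodule.span F {y'})) := rfl
        omega
      obtain ⟨h₁, hh₁, h₂, hh₂, h12⟩ := hex
      have hphi : ∀ h ∈ planeCompl Q U y y', Q (s₀ + h) = Q h + polar (⇑Q) s₀ h := by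
        intro h _
        rw [Q_addC, hQs, zero_add]
      have hok : ∀ h ∈ planeCompl Q U y y', Q (s₀ + h) ≠ 0 →
          ∃ s ∈ U, Q s ≠ 0 ∧ polar (⇑Q) s y ≠ 0 ∧ polar (⇑Q) s y' ≠ 0 := by
        intro h hh hQh
        obtain ⟨hhU, hyh, hy'h⟩ := (mem_planeCompl Q U y y' h).mp hh
        refine ⟨s₀ + h, U.add_mem hs₀U hhU, hQh, ?_, ?_⟩
        · rw [polar_add_left, polar_comm (⇑Q) h y, hyh, add_zero]
          exact hs₀y
        · rw [polar_add_left, polar_comm (⇑Q) h y', hy'h, add_zero]
          exact hs₀y'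
      by_cases c1 : Q (s₀ + h₁) ≠ 0
      · exact hok h₁ hh₁ c1
      by_cases c2 : Q (s₀ + h₂) ≠ 0
      · exact hok h₂ hh₂ c2
      push Not at c1 c2
      apply hok (h₁ + h₂) (Submodule.add_mem _ hh₁ hh₂)
      rw [hphi _ (Submodule.add_mem _ hh₁ hh₂), Q_addC, polar_add_right]
      rw [hphi h₁ hh₁] at c1
      rw [hphi h₂ hh₂] at c2
      have : Q h₁ + Q h₂ + polar (⇑Q) h₁ h₂ + (polar (⇑Q) s₀ h₁ + polar (⇑Q) s₀ h₂) =
          (Q h₁ + polar (⇑Q) s₀ h₁) + (Q h₂ + polar (⇑Q) s₀ h₂) + polar (⇑Q) h₁ h₂ := by ring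
      rw [this, c1, c2, zero_add, zero_add]
      exact h12
    · exfalso
      push Not at hd
      have hne' : y + y' ≠ 0 := by
        intro h
        apply hne
        have := eq_neg_of_add_eq_zero_left h
        rw [this, neg_eq_self_of_two h2]
      by_cases hd4 : finrank F U = 4
      · apply hExc
        refine ⟨hF, hd4, s₀, hs₀U, y + y', U.add_mem hyU hy'U, ?_, hne', ?_, hQs, ?_, ?_⟩
        · rintro rfl
          rw [polar_zero_left] at hs₀y
          exact hs₀y rfl
        · intro h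
          rw [h, polar_add_left, polar_self_zero Q h2, polar_comm, hf, add_zero] at e1
          exact zero_ne_one e1
        · rw [Q_addC, ← hyy, hf, add_zero, add_self_of_two h2]
        · rw [polar_add_right, e1, e2, one_add_one_eq_two, h2]
      · -- dimension at most three is impossible
        have hS : finrank F ↥(Submodule.span F {y} ⊔ Submodule.span F {y'}) = 2 := by
          have hnot : y' ∉ Submodule.span F {y} := by
            intro h
            obtain ⟨c, hc⟩ := Submodule.mem_span_singleton.mp h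
            rcases F2_cases hF c with rfl | rfl
            · rw [zero_smul] at hc
              exact hy'0 hc.symm
            · rw [one_smul] at hc
              exact hne hc
          rw [Submodule.finrank_sup_span_singleton hnot, finrank_span_singleton hy0]
        have hSle : Submodule.span F {y} ⊔ Submodule.span F {y'} ≤ planeCompl Q U y y' := by
          apply sup_le
          · rw [Submodule.span_singleton_le_iff_mem]; exact hyW
          · rw [Submodule.span_singleton_le_iff_mem]; exact hy'W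
        have hSU : Submodule.span F {y} ⊔ Submodule.span F {y'} ≤ U :=
          le_trans hSle (planeCompl_le Q U y y')
        have h3 := finrank_inf_orth_of_le Q hQ U hU _ hSU
        have h4 : U ⊓ orthQ Q (Submodule.span F {y} ⊔ Submodule.span F {y'}) =
            planeCompl Q U y y' := by
          rw [orth_sup, ← inf_assoc]
          rfl
        rw [h4] at h3
        have h5 := Submodule.finrank_mono hSle
        omega
  · -- more than two elements
    obtain ⟨κ, hκ0, hκ1⟩ := exists_ne_zero_one hF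
    have hval : ∀ c : F, Q (s₀ + c • y) = Q s₀ + c * (c * Q y + polar (⇑Q) s₀ y) := by
      intro c
      rw [Q_addC, QuadraticMap.map_smul, polar_smul_right, smul_eq_mul, smul_eq_mul]
      ring
    have hok : ∀ c : F, Q (s₀ + c • y) ≠ 0 →
        ∃ s ∈ U, Q s ≠ 0 ∧ polar (⇑Q) s y ≠ 0 ∧ polar (⇑Q) s y' ≠ 0 := by
      intro c hc
      refine ⟨s₀ + c • y, U.add_mem hs₀U (U.smul_mem _ hyU), hc, ?_, ?_⟩
      · rw [polar_add_left, polar_smul_left, polar_self_zero Q h2, smul_zero, add_zero]
        exact hs₀y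
      · rw [polar_add_left, polar_smul_left, hf, smul_zero, add_zero]
        exact hs₀y'
    by_cases c0 : Q (s₀ + (0 : F) • y) ≠ 0
    · exact hok 0 c0
    by_cases c1 : Q (s₀ + (1 : F) • y) ≠ 0
    · exact hok 1 c1
    by_cases c2 : Q (s₀ + κ • y) ≠ 0
    · exact hok κ c2
    exfalso
    push Not at c0 c1 c2
    rw [hval] at c0 c1 c2
    rw [zero_mul, add_zero] at c0
    rw [c0, zero_add, one_mul, one_mul] at c1
    rw [c0, zero_add] at c2
    have c2' : κ * Q y + polar (⇑Q) s₀ y = 0 := (mul_eq_zero.mp c2).resolve_left hκ0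
    have : (κ - 1) * Q y = 0 := by linear_combination c2' - c1
    rcases mul_eq_zero.mp this with h | h
    · exact hκ1 (sub_eq_zero.mp h)
    · exact hy h

/-- first transitivity lemma. -/
theorem lemA (h2 : (2 : F) = 0) (hQ : (polarBilin Q).Nondegenerate)
    (U : Submodule F (ι → F)) (hU : NondegOn Q U) (hExc : ¬ Exc Q U) (y y' : ι → F)
    (hyU : y ∈ U) (hy'U : y' ∈ U) (hy : Q y ≠ 0) (hyy : Q y = Q y') :
    ∃ ρ ∈ RU Q U, iact ρ y' = y := by
  by_cases heq : y' = y
  · exact ⟨1, Subgroup.one_mem _, by rw [iact_one, heq]⟩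
  by_cases hf : polar (⇑Q) y y' ≠ 0
  · obtain ⟨hw, hsw⟩ := refl_swap Q h2 y y' hyy hf
    exact ⟨reflG Q (y + y') hw, reflG_mem_RU Q U _ (U.add_mem hyU hy'U) hw, hsw⟩
  push Not at hf
  obtain ⟨s, hsU, hQs, hsy, hsy'⟩ := exists_connector Q h2 hQ U hU hExc y y' hyU hy'U hy hyy
    (fun h => heq h.symm) hf
  set t : ι → F := iact (reflG Q s hQs) y with ht
  have htU : t ∈ U := by
    rw [ht, iact_reflG]
    exact U.sub_mem hyU (U.smul_mem _ hsU)
  have hQt : Q t = Q y' := by rw [ht, Q_iact, hyy]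
  have hty' : polar (⇑Q) t y' ≠ 0 := by
    rw [ht, iact_reflG, polar_sub_left, polar_smul_left, hf, zero_sub, smul_eq_mul]
    apply neg_ne_zero.mpr
    apply mul_ne_zero (mul_ne_zero (inv_ne_zero hQs) hsy) hsy'
  obtain ⟨hw, hsw⟩ := refl_swap Q h2 t y' hQt hty'
  refine ⟨reflG Q s hQs * reflG Q (t + y') hw, Subgroup.mul_mem _ (reflG_mem_RU Q U _ hsU hQs)
    (reflG_mem_RU Q U _ (U.add_mem htU hy'U) hw), ?_⟩
  rw [iact_mul, hsw, ht, ← iact_mul, reflG_mul_self, iact_one]

end chartwoB

end Cfsg.Agent.helper13
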