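import Mathlib
import Cfsg.Agent.Lib_helper13_C2B

set_option autoImplicit false

namespace Cfsg.Agent.helper13

open Matrix QuadraticMap Module

section chartwoC
variable {F : Type*} [Field F] [Fintype F] {ι : Type} [Fintype ι] [DecidableEq ι]
variable (Q : QuadraticForm F (ι → F))

omit [Fintype F] [Fintype ι] [DecidableEq ι] in
theorem exists_nonsingular (W : Submodule F (ι → F)) (hW : NondegOn Q W) (hne : W ≠ ⊥) :
    ∃ h ∈ W, Q h ≠ 0 := by
  by_contra hcon
  push Not at hcon
  apply hne
  rw [eq_bot_iff]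
  intro x hx
  rw [Submodule.mem_bot]
  apply hW x hx
  intro u hu
  unfold polar
  rw [hcon _ (W.add_mem hu hx), hcon u hu, hcon x hx]
  simp

omit [Fintype F] [Fintype ι] [DecidableEq ι] in
theorem perp_of_le_orth {A B : Submodule F (ι → F)} (h : A ≤ orthQ Q B) :
    ∀ u ∈ A, ∀ v ∈ B, polar (⇑Q) u v = 0 := by
  intro u hu v hv
  rw [polar_comm]
  exact (mem_orth_iff Q B u).mp (h hu) v hv

omit [Fintype ι] [DecidableEq ι] in
theorem exists_pair_one (hF : Fintype.card F = 2) (U : Submodule F (ι → F)) (hU : NondegOn Q U)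
    (y : ι → F) (hyU : y ∈ U) (hy : y ≠ 0) : ∃ z ∈ U, polar (⇑Q) y z = 1 := by
  have : ∃ u ∈ U, polar (⇑Q) u y ≠ 0 := by
    by_contra hcon
    push Not at hcon
    exact hy (hU y hyU hcon)
  obtain ⟨u, hu, huy⟩ := this
  refine ⟨u, hu, ?_⟩
  rw [polar_comm]
  exact (F2_cases hF _).resolve_left huy

/-- over the field of two elements, in a nondegenerate six-dimensional subspace one can split off
a plane through a given nonsingular vector so that the complement is not exceptional. -/
theorem exists_good_z (h2 : (2 : F) = 0) (hQ : (polarBilin Q).Nondegenerate)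
    (hF : Fintype.card F = 2) (U : Submodule F (ι → F)) (hU : NondegOn Q U)
    (hd : finrank F U = 6) (y : ι → F) (hyU : y ∈ U) (hy : Q y ≠ 0) :
    ∃ z ∈ U, polar (⇑Q) y z = 1 ∧ ¬ Exc Q (planeCompl Q U y z) := by
  have hy0 : y ≠ 0 := by
    rintro rfl
    exact hy (QuadraticMap.map_zero Q)
  have hQy : Q y = 1 := (F2_cases hF _).resolve_left hy
  -- flipping the value of a partner
  have flip : ∀ z ∈ U, polar (⇑Q) y z = 1 → ∃ z' ∈ U, polar (⇑Q) y z' = 1 ∧ Q z' = Q z + 1 := by
    intro z hzU hyz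
    have hnd := planeCompl_nondeg Q h2 U hU y z hyU hzU hyz
    have hfr := planeCompl_finrank Q h2 U y z hyU hzU hyz
    have hne : planeCompl Q U y z ≠ ⊥ := by
      intro h
      rw [h, finrank_bot] at hfr
      omega
    obtain ⟨h, hh, hQh⟩ := exists_nonsingular Q _ hnd hne
    obtain ⟨hhU, hyh, hzh⟩ := (mem_planeCompl Q U y z h).mp hh
    refine ⟨z + h, U.add_mem hzU hhU, ?_, ?_⟩
    · rw [polar_add_right, hyz, hyh, add_zero]
    · rw [Q_addC, hzh, add_zero, (F2_cases hF (Q h)).resolve_left hQh]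
  obtain ⟨z, hzU, hyz⟩ := exists_pair_one Q hF U hU y hyU hy0
  obtain ⟨z₀, hz₀U, hyz₀, hQz₀, z₁, hz₁U, hyz₁, hQz₁⟩ : ∃ z₀ ∈ U, polar (⇑Q) y z₀ = 1 ∧
      Q z₀ = 0 ∧ ∃ z₁ ∈ U, polar (⇑Q) y z₁ = 1 ∧ Q z₁ = 1 := by
    obtain ⟨z', hz'U, hyz', hQz'⟩ := flip z hzU hyz
    rcases F2_cases hF (Q z) with h | h
    · refine ⟨z, hzU, hyz, h, z', hz'U, hyz', ?_⟩
      rw [hQz', h, zero_add]
    · refine ⟨z', hz'U, hyz', ?_, z, hzU, hyz, h⟩
      rw [hQz', h, one_add_one_eq_two, h2]
  by_cases h₀ : Exc Q (planeCompl Q U y z₀)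
  swap
  · exact ⟨z₀, hz₀U, hyz₀, h₀⟩
  refine ⟨z₁, hz₁U, hyz₁, ?_⟩
  intro h₁
  obtain ⟨-, -, a, ha, b, hb, ha0, hb0, hab, hQa, hQb, hfab⟩ := h₀
  obtain ⟨-, -, a', ha', b', hb', ha'0, hb'0, hab', hQa', hQb', hfab'⟩ := h₁
  obtain ⟨haU, hya, hza⟩ := (mem_planeCompl Q U y z₀ a).mp ha
  obtain ⟨hbU, hyb, hzb⟩ := (mem_planeCompl Q U y z₀ b).mp hb
  obtain ⟨ha'U, hya', hza'⟩ := (mem_planeCompl Q U y z₁ a').mp ha'
  obtain ⟨hb'U, hyb', hzb'⟩ := (mem_planeCompl Q U y z₁ b').mp hb'
  set X : Submodule F (ι → F) :=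
    Submodule.span F {a} ⊔ Submodule.span F {b} ⊔ Submodule.span F {z₀} with hX
  set T : Submodule F (ι → F) := Submodule.span F {a'} ⊔ Submodule.span F {b'} with hT
  set P : Submodule F (ι → F) := Submodule.span F {y} ⊔ Submodule.span F {z₁} with hP
  -- dimensions
  have hnotb : b ∉ Submodule.span F {a} := by
    intro h
    obtain ⟨c, hc⟩ := Submodule.mem_span_singleton.mp h
    rcases F2_cases hF c with rfl | rfl
    · rw [zero_smul] at hc
      exact hb0 hc.symm
    · rw [one_smul] at hc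
      exact hab hc
  have hnotz : z₀ ∉ Submodule.span F {a} ⊔ Submodule.span F {b} := by
    intro h
    obtain ⟨u, hu, v, hv, huv⟩ := Submodule.mem_sup.mp h
    obtain ⟨c, rfl⟩ := Submodule.mem_span_singleton.mp hu
    obtain ⟨e, rfl⟩ := Submodule.mem_span_singleton.mp hv
    have : polar (⇑Q) y z₀ = 0 := by
      rw [← huv, polar_add_right, polar_smul_right, polar_smul_right, hya, hyb]
      simp
    rw [hyz₀] at this
    exact one_ne_zero this
  have hXrk : finrank F X = 3 := by
    rw [hX, Submodule.finrank_sup_span_singleton hnotz, Submodule.finrank_sup_span_singleton hnotb,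
      finrank_span_singleton ha0]
  have hnotb' : b' ∉ Submodule.span F {a'} := by
    intro h
    obtain ⟨c, hc⟩ := Submodule.mem_span_singleton.mp h
    rcases F2_cases hF c with rfl | rfl
    · rw [zero_smul] at hc
      exact hb'0 hc.symm
    · rw [one_smul] at hc
      exact hab' hc
  have hTrk : finrank F T = 2 := by
    rw [hT, Submodule.finrank_sup_span_singleton hnotb', finrank_span_singleton ha'0]
  have hnotz₁ : z₁ ∉ Submodule.span F {y} := by
    intro h
    obtain ⟨c, hc⟩ := Submodule.mem_span_singleton.mp h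
    have : polar (⇑Q) y z₁ = 0 := by
      rw [← hc, polar_smul_right, polar_self_zero Q h2, smul_zero]
    rw [hyz₁] at this
    exact one_ne_zero this
  have hPrk : finrank F P = 2 := by
    rw [hP, Submodule.finrank_sup_span_singleton hnotz₁, finrank_span_singleton hy0]
  -- totally singular
  have hXts : TS Q X := by
    rw [hX]
    apply TS.sup (TS.sup (TS.span_singleton hQa) (TS.span_singleton hQb) _)
      (TS.span_singleton hQz₀)
    · apply perp_of_le_orth
      apply sup_le
      · rw [Submodule.span_singleton_le_iff_mem, mem_orth_singleton_iff]; exact hza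
      · rw [Submodule.span_singleton_le_iff_mem, mem_orth_singleton_iff]; exact hzb
    · apply perp_of_le_orth
      rw [Submodule.span_singleton_le_iff_mem, mem_orth_singleton_iff, polar_comm]
      exact hfab
  have hTts : TS Q T := by
    rw [hT]
    apply TS.sup (TS.span_singleton hQa') (TS.span_singleton hQb')
    apply perp_of_le_orth
    rw [Submodule.span_singleton_le_iff_mem, mem_orth_singleton_iff, polar_comm]
    exact hfab'
  have hTP : T ≤ orthQ Q P := by
    rw [hT, hP, orth_sup]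
    apply sup_le
    · rw [Submodule.span_singleton_le_iff_mem, Submodule.mem_inf, mem_orth_singleton_iff,
        mem_orth_singleton_iff]
      exact ⟨hya', hza'⟩
    · rw [Submodule.span_singleton_le_iff_mem, Submodule.mem_inf, mem_orth_singleton_iff,
        mem_orth_singleton_iff]
      exact ⟨hyb', hzb'⟩
  have hPaniso : ∀ p ∈ P, Q p = 0 → p = 0 := by
    intro p hp hQp
    obtain ⟨u, hu, v, hv, rfl⟩ := Submodule.mem_sup.mp hp
    obtain ⟨α, rfl⟩ := Submodule.mem_span_singleton.mp hu
    obtain ⟨β, rfl⟩ := Submodule.mem_span_singleton.mp hv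
    rw [Q_comb2, hQy, hQz₁, hyz₁] at hQp
    rcases F2_cases hF α with rfl | rfl <;> rcases F2_cases hF β with rfl | rfl
    · simp
    · exfalso
      simp at hQp
    · exfalso
      simp at hQp
    · exfalso
      have : (1 : F) * 1 * 1 + 1 * 1 * 1 + 1 * 1 * 1 = 1 := by
        have := add_self_of_two h2 (1 : F)
        linear_combination this
      rw [this] at hQp
      exact one_ne_zero hQp
  -- the intersection
  have hDT : X ⊓ (T ⊔ P) ≤ T := by
    intro x hx
    obtain ⟨hxX, hxTP⟩ := Submodule.mem_inf.mp hx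
    obtain ⟨t, ht, p, hp, rfl⟩ := Submodule.mem_sup.mp hxTP
    have h1 := hXts _ hxX
    rw [Q_addC, hTts t ht, perp_of_le_orth Q hTP t ht p hp, zero_add, add_zero] at h1
    rw [hPaniso p hp h1, add_zero]
    exact ht
  have hTPbot : T ⊓ P = ⊥ := by
    rw [eq_bot_iff]
    intro x hx
    obtain ⟨hxT, hxP⟩ := Submodule.mem_inf.mp hx
    rw [Submodule.mem_bot]
    exact hPaniso x hxP (hTts x hxT)
  have hTPrk : finrank F ↥(T ⊔ P) = 4 := by
    have := Submodule.finrank_sup_add_finrank_inf_eq T P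
    rw [hTPbot, finrank_bot, hTrk, hPrk] at this
    omega
  have hXU : X ≤ U := by
    rw [hX]
    apply sup_le (sup_le _ _) _ <;> rw [Submodule.span_singleton_le_iff_mem] <;> assumption
  have hTU : T ≤ U := by
    rw [hT]
    apply sup_le <;> rw [Submodule.span_singleton_le_iff_mem] <;> assumption
  have hPU : P ≤ U := by
    rw [hP]
    apply sup_le <;> rw [Submodule.span_singleton_le_iff_mem] <;> assumption
  have hDU : X ⊓ (T ⊔ P) ≤ U := le_trans inf_le_left hXU
  have hbig : X ⊔ (T ⊔ P) ≤ U ⊓ orthQ Q (X ⊓ (T ⊔ P)) := by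
    apply le_inf (sup_le hXU (sup_le hTU hPU))
    apply sup_le
    · intro x hx
      rw [mem_orth_iff]
      intro d hd'
      exact hXts.polar_zero (Submodule.mem_inf.mp hd').1 hx
    apply sup_le
    · intro x hx
      rw [mem_orth_iff]
      intro d hd'
      exact hTts.polar_zero (hDT hd') hx
    · intro x hx
      rw [mem_orth_iff]
      intro d hd'
      exact perp_of_le_orth Q hTP d (hDT hd') x hx
  have e1 := finrank_inf_orth_of_le Q hQ U hU _ hDU
  have e2 := Submodule.finrank_sup_add_finrank_inf_eq X (T ⊔ P)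
  have e3 := Submodule.finrank_mono hbig
  rw [hXrk, hTPrk] at e2
  omega

end chartwoC

end Cfsg.Agent.helper13
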