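import Mathlib
import Cfsg.Agent.Lib_helper13_ReflB

set_option autoImplicit false

namespace Cfsg.Agent.helper13

open Matrix QuadraticMap

section level
variable {F : Type*} [Field F] {κ : Type} [Fintype κ] [DecidableEq κ]
variable (Q : QuadraticForm F (κ → F)) (c : F)

/-- level set of a quadratic form. -/
abbrev Lev : Type _ := {x : κ → F // Q x = c}

variable {Q c}

/-- action on a level set. -/
def actLev (g : ↥(Cfsg.isometryGroup F ⇑Q)) (x : Lev Q c) : Lev Q c :=
  ⟨iact g x.1, by rw [Q_iact]; exact x.2⟩

theorem actLev_one (x : Lev Q c) : actLev (1 : ↥(Cfsg.isometryGroup F ⇑Q)) x = x :=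
  Subtype.ext (iact_one x.1)

theorem actLev_mul (g h : ↥(Cfsg.isometryGroup F ⇑Q)) (x : Lev Q c) :
    actLev (g * h) x = actLev g (actLev h x) :=
  Subtype.ext (iact_mul g h x.1)

variable (Q c)

/-- permutation representation on a level set. -/
def permLev : ↥(Cfsg.isometryGroup F ⇑Q) →* Equiv.Perm (Lev Q c) where
  toFun g :=
    { toFun := actLev g
      invFun := actLev g⁻¹
      left_inv := fun x => by rw [← actLev_mul, inv_mul_cancel, actLev_one]
      right_inv := fun x => by rw [← actLev_mul, mul_inv_cancel, actLev_one] }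
  map_one' := by
    ext x
    simp [actLev_one]
  map_mul' g h := by
    ext x
    simp [actLev_mul]

theorem permLev_apply (g : ↥(Cfsg.isometryGroup F ⇑Q)) (x : Lev Q c) :
    permLev Q c g x = actLev g x := rfl

/-- the sign of the permutation representation on a level set. -/
noncomputable def sgnLev [Finite F] : ↥(Cfsg.isometryGroup F ⇑Q) →* ℤˣ :=
  letI : Fintype (Lev Q c) := Fintype.ofFinite _
  letI : DecidableEq (Lev Q c) := Classical.decEq _
  Equiv.Perm.sign.comp (permLev Q c)

theorem sgnLev_conj [Finite F] (g h : ↥(Cfsg.isometryGroup F ⇑Q)) :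
    sgnLev Q c (g * h * g⁻¹) = sgnLev Q c h := by
  rw [map_mul, map_mul, map_inv, mul_comm, ← mul_assoc, inv_mul_cancel, one_mul]

/-- sign of an involution through its number of fixed points. -/
theorem sgnLev_involution [Finite F] (g : ↥(Cfsg.isometryGroup F ⇑Q)) (hg : g * g = 1) :
    ∃ t : ℕ, Nat.card (Lev Q c) = Nat.card {x : Lev Q c // actLev g x = x} + 2 * t ∧
      sgnLev Q c g = (-1) ^ t := by
  classical
  letI : Fintype (Lev Q c) := Fintype.ofFinite _
  have hσ : (permLev Q c g) ^ 2 = 1 := by
    rw [pow_two, ← map_mul, hg, map_one]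
  have h1 := Equiv.Perm.sign_of_pow_two_eq_one hσ
  have h2 := Equiv.Perm.two_dvd_card_support hσ
  have h3 := Equiv.Perm.card_fixedPoints (permLev Q c g)
  rw [Equiv.Perm.sum_cycleType] at h3
  obtain ⟨t, ht⟩ := h2
  have hle : (permLev Q c g).support.card ≤ Fintype.card (Lev Q c) := Finset.card_le_univ _
  have hfix : Fintype.card ↑(Function.fixedPoints ⇑(permLev Q c g)) =
      Nat.card {x : Lev Q c // actLev g x = x} := by
    rw [Fintype.card_eq_nat_card]
    rfl
  refine ⟨t, ?_, ?_⟩
  · rw [← hfix, h3, ← Fintype.card_eq_nat_card]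
    omega
  · have : sgnLev Q c g = Equiv.Perm.sign (permLev Q c g) := by
      unfold sgnLev
      simp only [MonoidHom.comp_apply]
      congr
      exact Subsingleton.elim _ _
    rw [this, h1, h3]
    congr 1
    omega

end level

end Cfsg.Agent.helper13
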