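import Mathlib
import Cfsg.Agent.Lib_helper13_ReflC

set_option autoImplicit false

namespace Cfsg.Agent.helper13

open Matrix QuadraticMap

section aux
variable {F : Type*} [Field F] {ι : Type} [Fintype ι] [DecidableEq ι]
variable (Q : QuadraticForm F (ι → F)) (ν : F)

/-- the form `Q ⊥ ⟨1⟩ ⊥ ⟨ν⟩`. -/
noncomputable def QX : QuadraticForm F (ι ⊕ Fin 2 → F) :=
  Q.comp (LinearMap.funLeft F F (Sum.inl : ι → ι ⊕ Fin 2)) +
    QuadraticMap.linMulLin (LinearMap.proj (Sum.inr 0)) (LinearMap.proj (Sum.inr 0)) +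
    ν • QuadraticMap.linMulLin (LinearMap.proj (Sum.inr 1)) (LinearMap.proj (Sum.inr 1))

theorem QX_apply (x : ι ⊕ Fin 2 → F) :
    QX Q ν x = Q (x ∘ Sum.inl) + x (Sum.inr 0) * x (Sum.inr 0) +
      ν * (x (Sum.inr 1) * x (Sum.inr 1)) := by
  simp only [QX, QuadraticMap.add_apply, QuadraticMap.smul_apply, QuadraticMap.comp_apply,
    QuadraticMap.linMulLin_apply, LinearMap.proj_apply, smul_eq_mul]
  rfl

theorem QX_elim (y : ι → F) (b : Fin 2 → F) :
    QX Q ν (Sum.elim y b) = Q y + b 0 * b 0 + ν * (b 1 * b 1) := by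
  rw [QX_apply, Sum.elim_comp_inl]
  rfl

theorem QX_polar (x z : ι ⊕ Fin 2 → F) :
    polar (⇑(QX Q ν)) x z = polar (⇑Q) (x ∘ Sum.inl) (z ∘ Sum.inl) +
      2 * (x (Sum.inr 0) * z (Sum.inr 0)) + 2 * ν * (x (Sum.inr 1) * z (Sum.inr 1)) := by
  unfold polar
  rw [QX_apply, QX_apply, QX_apply]
  have : (x + z) ∘ Sum.inl = x ∘ Sum.inl + z ∘ (Sum.inl : ι → ι ⊕ Fin 2) := rfl
  rw [this]
  simp only [Pi.add_apply]
  ring

/-- block embedding of the isometry group. -/
def embX (g : ↥(Cfsg.isometryGroup F ⇑Q)) : ↥(Cfsg.isometryGroup F ⇑(QX Q ν)) :=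
  ⟨⟨fromBlocks ((g : Matrix.GeneralLinearGroup ι F) : Matrix ι ι F) 0 0 1,
    fromBlocks (((g : Matrix.GeneralLinearGroup ι F)⁻¹ : Matrix.GeneralLinearGroup ι F) :
      Matrix ι ι F) 0 0 1,
    by simp [fromBlocks_multiply, fromBlocks_one],
    by simp [fromBlocks_multiply, fromBlocks_one]⟩, by
    intro x _
    show QX Q ν (fromBlocks ((g : Matrix.GeneralLinearGroup ι F) : Matrix ι ι F) 0 0 1 *ᵥ x) =
      QX Q ν x
    rw [fromBlocks_mulVec]
    simp only [Matrix.zero_mulVec, add_zero, zero_add, Matrix.one_mulVec]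
    rw [QX_elim, QX_apply]
    have h : Q (((g : Matrix.GeneralLinearGroup ι F) : Matrix ι ι F) *ᵥ (x ∘ Sum.inl)) =
        Q (x ∘ Sum.inl) := g.2 (x ∘ Sum.inl) (x ∘ Sum.inl)
    rw [h]
    rfl⟩

theorem iact_embX (g : ↥(Cfsg.isometryGroup F ⇑Q)) (x : ι ⊕ Fin 2 → F) :
    iact (embX Q ν g) x = Sum.elim (iact g (x ∘ Sum.inl)) (x ∘ Sum.inr) := by
  show fromBlocks ((g : Matrix.GeneralLinearGroup ι F) : Matrix ι ι F) 0 0 1 *ᵥ x = _
  rw [fromBlocks_mulVec]
  simp only [Matrix.zero_mulVec, add_zero, zero_add, Matrix.one_mulVec]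
  rfl

/-- the block embedding as a homomorphism. -/
def embHom : ↥(Cfsg.isometryGroup F ⇑Q) →* ↥(Cfsg.isometryGroup F ⇑(QX Q ν)) where
  toFun := embX Q ν
  map_one' := by
    apply iact_ext
    intro x
    rw [iact_embX, iact_one, iact_one]
    funext k
    rcases k with k | k <;> rfl
  map_mul' g h := by
    apply iact_ext
    intro x
    rw [iact_mul, iact_embX, iact_embX, iact_embX, iact_mul, Sum.elim_comp_inl,
      Sum.elim_comp_inr]

theorem embX_reflG (w : ι → F) (hw : Q w ≠ 0) (hw' : QX Q ν (Sum.elim w 0) ≠ 0) :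
    embX Q ν (reflG Q w hw) = reflG (QX Q ν) (Sum.elim w 0) hw' := by
  apply iact_ext
  intro x
  rw [iact_embX, iact_reflG, iact_reflG, QX_polar, QX_elim, Sum.elim_comp_inl]
  funext k
  rcases k with k | k
  · simp
  · simp

end aux

section count
variable {F : Type*} [Field F] [Fintype F] [DecidableEq F] {ι : Type} [Fintype ι] [DecidableEq ι]
variable (Q : QuadraticForm F (ι → F))

omit [Fintype F] [DecidableEq F] in
theorem iact_reflG_eq_iff {κ : Type} [Fintype κ] [DecidableEq κ] (P : QuadraticForm F (κ → F))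
    (z : κ → F) (hz : P z ≠ 0) (x : κ → F) :
    iact (reflG P z hz) x = x ↔ polar (⇑P) z x = 0 := by
  constructor
  · intro h
    rw [iact_reflG, sub_eq_self] at h
    have hz0 : z ≠ 0 := by
      rintro rfl
      exact hz (QuadraticMap.map_zero P)
    rcases smul_eq_zero.mp h with h1 | h1
    · rcases mul_eq_zero.mp h1 with h2 | h2
      · exact absurd (inv_eq_zero.mp h2) hz
      · exact h2
    · exact absurd h1 hz0
  · intro h
    exact iact_reflG_of_polar P z hz x h

/-- card of the solutions of `x² = a`, as an integer. -/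
theorem card_sqrts (h2 : (2 : F) ≠ 0) (a : F) :
    (Nat.card {x : F // x ^ 2 = a} : ℤ) = quadraticChar F a + 1 := by
  classical
  have hF : ringChar F ≠ 2 := by
    intro h
    apply h2
    have := ringChar.Nat.cast_ringChar (R := F)
    rw [h] at this
    exact_mod_cast this
  rw [← quadraticChar_card_sqrts hF a, Set.toFinset_card, Fintype.card_eq_nat_card]
  rfl

theorem card_neg_invariant_even (h2 : (2 : F) ≠ 0) {c : F} (hc : c ≠ 0) :
    Even (Nat.card {y : ι → F // Q y = c}) := by
  classical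
  let σ : Equiv.Perm {y : ι → F // Q y = c} :=
    { toFun := fun y => ⟨-y.1, by rw [QuadraticMap.map_neg]; exact y.2⟩
      invFun := fun y => ⟨-y.1, by rw [QuadraticMap.map_neg]; exact y.2⟩
      left_inv := fun y => Subtype.ext (neg_neg _)
      right_inv := fun y => Subtype.ext (neg_neg _) }
  have hσ : σ ^ 2 = 1 := by
    ext y
    simp [σ, pow_two]
  have hsupp : σ.support = Finset.univ := by
    ext y
    simp only [Equiv.Perm.mem_support, Finset.mem_univ, iff_true]
    intro h
    have h1 : -y.1 = y.1 := congrArg Subtype.val h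
    have h3 : (2 : F) • y.1 = 0 := by
      rw [two_smul]
      nth_rewrite 1 [← h1]
      exact neg_add_cancel _
    have h4 : y.1 = 0 := by
      rcases smul_eq_zero.mp h3 with h5 | h5
      · exact absurd h5 h2
      · exact h5
    have := y.2
    rw [h4, QuadraticMap.map_zero] at this
    exact hc this.symm
  have := Equiv.Perm.two_dvd_card_support hσ
  rw [hsupp, Finset.card_univ, Fintype.card_eq_nat_card] at this
  exact (even_iff_two_dvd).mpr this

/-- the character sum over the complement of a level set is odd. -/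
theorem charsum_odd (h2 : (2 : F) ≠ 0) :
    Odd (∑ y : ι → F, quadraticChar F (1 - Q y)) := by
  classical
  have hF : ringChar F ≠ 2 := by
    intro h
    apply h2
    have := ringChar.Nat.cast_ringChar (R := F)
    rw [h] at this
    exact_mod_cast this
  -- each term is congruent to the indicator of `Q y ≠ 1`
  have hterm : ∀ y : ι → F, ∃ m : ℤ, quadraticChar F (1 - Q y) =
      (if Q y = 1 then 0 else 1) + 2 * m := by
    intro y
    by_cases hy : Q y = 1
    · refine ⟨0, ?_⟩
      rw [hy, sub_self, MulChar.map_zero, if_pos rfl]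
      ring
    · have hne : 1 - Q y ≠ 0 := fun h => hy (sub_eq_zero.mp h).symm
      rcases quadraticChar_dichotomy hne with h | h
      · exact ⟨0, by rw [h, if_neg hy]; ring⟩
      · exact ⟨-1, by rw [h, if_neg hy]; ring⟩
  choose m hm using hterm
  have hsum : ∑ y : ι → F, quadraticChar F (1 - Q y) =
      (∑ y : ι → F, if Q y = 1 then (0 : ℤ) else 1) + 2 * ∑ y, m y := by
    rw [Finset.mul_sum, ← Finset.sum_add_distrib]
    exact Finset.sum_congr rfl (fun y _ => hm y)
  have hind : (∑ y : ι → F, if Q y = 1 then (0 : ℤ) else 1) =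
      (Fintype.card (ι → F) : ℤ) - (Nat.card {y : ι → F // Q y = 1} : ℤ) := by
    have h1 : ∀ y : ι → F, (if Q y = 1 then (0 : ℤ) else 1) = 1 - (if Q y = 1 then 1 else 0) := by
      intro y
      split_ifs <;> ring
    rw [Finset.sum_congr rfl (fun y _ => h1 y), Finset.sum_sub_distrib]
    congr 1
    · simp
    · rw [Nat.card_eq_fintype_card, Fintype.card_subtype, Finset.card_filter]
      push_cast
      rfl
  rw [hsum, hind]
  have hodd : Odd (Fintype.card (ι → F) : ℤ) := by
    rw [Fintype.card_fun]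
    have : Odd (Fintype.card F) := by
      rw [Nat.odd_iff]
      exact FiniteField.odd_card_of_char_ne_two hF
    exact_mod_cast this.pow
  have heven : Even (Nat.card {y : ι → F // Q y = 1} : ℤ) := by
    exact_mod_cast card_neg_invariant_even Q h2 one_ne_zero
  have h3 : Even (2 * ∑ y, m y) := even_two_mul _
  exact (hodd.sub_even heven).add_even h3

end count

end Cfsg.Agent.helper13
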