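import Mathlib
import Cfsg.Prelude.Def_Classical

set_option autoImplicit false

namespace Cfsg.Agent.helper13

open Matrix

/-- Gram determinant of a matrix-given form in an arbitrary basis differs from the standard one by a nonzero square. -/
theorem gram_det_basis {F : Type*} [Field F] {κ ι : Type*} [Fintype κ] [DecidableEq κ] [Fintype ι] [DecidableEq ι]
    (G : Matrix κ κ F) (f : (κ → F) → (κ → F) → F) (hf : ∀ u v, f u v = u ⬝ᵥ (G *ᵥ v))
    (b : Module.Basis ι F (κ → F)) :
    ∃ d : F, d ≠ 0 ∧ (Matrix.of fun i j => f (b i) (b j)).det = d ^ 2 * G.det := by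
  classical
  let e : ι ≃ κ := b.indexEquiv (Pi.basisFun F κ)
  let b' : Module.Basis κ F (κ → F) := b.reindex e
  let P : Matrix κ κ F := (Pi.basisFun F κ).toMatrix b'
  have hP : ∀ k j, P k j = b (e.symm j) k := by
    intro k j
    simp only [P, Module.Basis.toMatrix_apply, Pi.basisFun_repr, b', Module.Basis.reindex_apply]
  have hPdet : P.det ≠ 0 := by
    have h1 : P * b'.toMatrix (Pi.basisFun F κ) = 1 := Module.Basis.toMatrix_mul_toMatrix_flip _ _
    have h2 := congrArg Matrix.det h1
    rw [det_mul, det_one] at h2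
    intro h0
    rw [h0, zero_mul] at h2
    exact zero_ne_one h2
  refine ⟨P.det, hPdet, ?_⟩
  have hsub : (Matrix.of fun i j => f (b i) (b j)) = (Pᵀ * G * P).submatrix e e := by
    ext i j
    simp only [Matrix.of_apply, Matrix.submatrix_apply, hf]
    rw [Matrix.mul_apply]
    simp only [Matrix.mul_apply, Matrix.transpose_apply, hP, Equiv.symm_apply_apply, dotProduct, mulVec]
    simp only [Finset.mul_sum, Finset.sum_mul]
    rw [Finset.sum_comm]
    apply Finset.sum_congr rfl
    intro k _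
    apply Finset.sum_congr rfl
    intro l _
    ring
  rw [hsub, det_submatrix_equiv_self, det_mul, det_mul, det_transpose]
  ring

theorem isSquare_sq_mul {F : Type*} [Field F] (d x : F) (hd : d ≠ 0) : IsSquare (d ^ 2 * x) ↔ IsSquare x := by
  constructor
  · rintro ⟨y, hy⟩
    refine ⟨y / d, ?_⟩
    field_simp
    rw [pow_two y, ← hy]; ring
  · rintro ⟨y, hy⟩
    exact ⟨d * y, by rw [hy]; ring⟩

/-- determinant of the hyperbolic Gram matrix. -/
theorem det_hyp {F : Type*} [Field F] (m : ℕ) :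
    (fromBlocks (0 : Matrix (Fin m) (Fin m) F) (1 : Matrix (Fin m) (Fin m) F) (1 : Matrix (Fin m) (Fin m) F) (0 : Matrix (Fin m) (Fin m) F)).det = (-1) ^ m := by
  have h1 : fromBlocks (1 : Matrix (Fin m) (Fin m) F) (1 : Matrix (Fin m) (Fin m) F) (0 : Matrix (Fin m) (Fin m) F) (1 : Matrix (Fin m) (Fin m) F) * fromBlocks (0 : Matrix (Fin m) (Fin m) F) (1 : Matrix (Fin m) (Fin m) F) (1 : Matrix (Fin m) (Fin m) F) (0 : Matrix (Fin m) (Fin m) F)
      = fromBlocks (1 : Matrix (Fin m) (Fin m) F) (1 : Matrix (Fin m) (Fin m) F) (1 : Matrix (Fin m) (Fin m) F) (0 : Matrix (Fin m) (Fin m) F) := by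
    rw [fromBlocks_multiply]; simp
  have h2 := congrArg Matrix.det h1
  rw [det_mul, det_fromBlocks_zero₂₁, det_one, one_mul, one_mul, det_fromBlocks_one₁₁] at h2
  rw [h2]
  simp [Matrix.det_neg]

theorem neg_one_pow_isSquare {F : Type*} [Field F] [Fintype F] (hq : Odd (Fintype.card F)) (m : ℕ) :
    IsSquare ((-1 : F) ^ m) ↔ Even (m * (Fintype.card F - 1) / 2) := by
  obtain ⟨k, hk⟩ := hq
  have hdiv : m * (Fintype.card F - 1) / 2 = m * k := by
    rw [hk]
    have : m * (2 * k + 1 - 1) = 2 * (m * k) := by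
      rw [Nat.add_sub_cancel]; ring
    rw [this, Nat.mul_div_cancel_left _ (by norm_num : 0 < 2)]
  rw [hdiv, Nat.even_mul]
  have hneg : IsSquare (-1 : F) ↔ Even k := by
    rw [FiniteField.isSquare_neg_one_iff, hk, Nat.even_iff]
    omega
  constructor
  · intro h
    by_cases hm : Even m
    · exact Or.inl hm
    · right
      rw [Nat.not_even_iff_odd] at hm
      rw [hm.neg_one_pow] at h
      exact hneg.mp h
  · rintro (hm | hk')
    · rw [hm.neg_one_pow]; exact ⟨1, by simp⟩
    · exact (hneg.mpr hk').pow m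

end Cfsg.Agent.helper13
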