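import Mathlib

set_option autoImplicit false

namespace Cfsg.Agent.helper13

open Module QuadraticMap

section qext
variable {F : Type*} [Field F] {V : Type*} [AddCommGroup V] [Module F V]

/-- two quadratic forms agreeing (with their polars) on a basis are equal. -/
theorem quad_ext_basis {ι : Type*} (b : Basis ι F V) (Q₁ Q₂ : QuadraticForm F V)
    (h1 : ∀ i, Q₁ (b i) = Q₂ (b i))
    (h2 : ∀ i j, polar (⇑Q₁) (b i) (b j) = polar (⇑Q₂) (b i) (b j)) : ∀ v, Q₁ v = Q₂ v := by
  have hB : polarBilin Q₁ = polarBilin Q₂ := by
    apply LinearMap.ext_basis b b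
    intro i j
    rw [polarBilin_apply_apply, polarBilin_apply_apply]
    exact h2 i j
  have hpol : ∀ x y, polar (⇑Q₁) x y = polar (⇑Q₂) x y := by
    intro x y
    have := congrArg (fun B => B x y) hB
    simpa [polarBilin_apply_apply] using this
  let S : Submodule F V :=
    { carrier := {v | Q₁ v = Q₂ v}
      add_mem' := by
        intro x y hx hy
        simp only [Set.mem_setOf_eq] at hx hy ⊢
        rw [QuadraticMap.map_add (⇑Q₁), QuadraticMap.map_add (⇑Q₂), hx, hy, hpol]
      zero_mem' := by
        simp only [Set.mem_setOf_eq]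
        rw [QuadraticMap.map_zero, QuadraticMap.map_zero]
      smul_mem' := by
        intro c x hx
        simp only [Set.mem_setOf_eq] at hx ⊢
        rw [QuadraticMap.map_smul, QuadraticMap.map_smul, hx] }
  have hS : S = ⊤ := by
    rw [eq_top_iff, ← b.span_eq, Submodule.span_le]
    rintro _ ⟨i, rfl⟩
    exact h1 i
  intro v
  have : v ∈ S := by rw [hS]; exact Submodule.mem_top
  exact this

/-- a similarity of a nondegenerate form is injective. -/
theorem similarity_injective (Q : QuadraticForm F V) (hQ : (polarBilin Q).Nondegenerate)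
    (g : V →ₗ[F] V) (c : F) (hc : c ≠ 0) (hg : ∀ v, Q (g v) = c * Q v) : Function.Injective g := by
  rw [← LinearMap.ker_eq_bot, LinearMap.ker_eq_bot']
  intro u hu
  apply hQ.1 u
  intro v
  rw [polarBilin_apply_apply]
  have h1 : polar (⇑Q) (g u) (g v) = c * polar (⇑Q) u v := by
    unfold polar
    rw [← map_add, hg, hg, hg]
    ring
  rw [hu, polar_zero_left] at h1
  exact ((mul_eq_zero.mp h1.symm).resolve_left hc)

end qext

section binrep
variable {F : Type*} [Field F] [Fintype F]

/-- the binary form `a² + ab + ζb²` (with `t² + t + ζ` rootless) over a finite field represents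
everything. -/
theorem exists_binary_repr (ζ c : F) (hirr : ∀ t : F, t ^ 2 + t + ζ ≠ 0) :
    ∃ a b : F, a ^ 2 + a * b + ζ * b ^ 2 = c := by
  classical
  by_cases h2 : (2 : F) = 0
  · haveI : CharP F 2 := CharTwo.of_one_ne_zero_of_two_eq_zero one_ne_zero h2
    obtain ⟨r, hr⟩ : IsSquare c := FiniteField.isSquare_of_char_two (ringChar.eq F 2) _
    refine ⟨r, 0, ?_⟩
    rw [hr]
    ring
  · have hcard : Fintype.card F % 2 = 1 := by
      apply FiniteField.odd_card_of_char_ne_two
      intro hch
      haveI : CharP F 2 := ringChar.of_eq hch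
      apply h2
      have := CharP.cast_eq_zero F 2
      exact_mod_cast this
    have h4 : (4 : F) ≠ 0 := by
      have : (4 : F) = 2 * 2 := by norm_num
      rw [this]
      exact mul_ne_zero h2 h2
    have hD : ζ - 4⁻¹ ≠ 0 := by
      intro hD0
      apply hirr (-(2 : F)⁻¹)
      field_simp
      field_simp at hD0
      linear_combination hD0
    have hf2 : (Polynomial.X ^ 2 : Polynomial F).degree = 2 := by
      rw [Polynomial.degree_X_pow]; rfl
    have hg2 : (Polynomial.C (ζ - 4⁻¹) * Polynomial.X ^ 2 + Polynomial.C (-c) : Polynomial F).degree = 2 := by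
      rw [Polynomial.degree_add_C, Polynomial.degree_C_mul_X_pow 2 hD]
      · rfl
      · rw [Polynomial.degree_C_mul_X_pow 2 hD]; decide
    obtain ⟨s, t, hst⟩ := FiniteField.exists_root_sum_quadratic hf2 hg2 hcard
    simp only [Polynomial.eval_add, Polynomial.eval_mul, Polynomial.eval_C, Polynomial.eval_pow,
      Polynomial.eval_X] at hst
    refine ⟨s - 2⁻¹ * t, t, ?_⟩
    field_simp
    field_simp at hst
    linear_combination hst

end binrep

end Cfsg.Agent.helper13
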