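import Cfsg.Statements.S2623
import Cfsg.Agent.Lib_helper13_Disc
import Cfsg.Agent.Lib_helper13_QExt

set_option autoImplicit false
open Cfsg

namespace Cfsg.Agent.S2623

open Module QuadraticMap Matrix Cfsg.Agent.helper13

universe u v

theorem polarBilin_isSymm' {F V : Type*} [Field F] [AddCommGroup V] [Module F V]
    (Q : QuadraticForm F V) : LinearMap.BilinForm.IsSymm (polarBilin Q : LinearMap.BilinForm F V) :=
  ⟨fun x y => by simp only [polarBilin_apply_apply]; exact polar_comm _ x y⟩

theorem polar_eq_gram {F : Type*} [Field F] {n : ℕ} (Q : QuadraticForm F (Fin n → F))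
    (u v : Fin n → F) :
    polar (⇑Q) u v = u ⬝ᵥ ((Matrix.of (fun i j : Fin n => polar (⇑Q) (Pi.single i 1) (Pi.single j 1))) *ᵥ v) := by
  have h1 : (Matrix.of (fun i j : Fin n => polar (⇑Q) (Pi.single i 1) (Pi.single j 1))) =
      LinearMap.BilinForm.toMatrix' (polarBilin Q) := by
    ext i j
    rw [LinearMap.BilinForm.toMatrix'_apply, polarBilin_apply_apply]
    rfl
  rw [h1, ← Matrix.toBilin'_apply', Matrix.toBilin'_toMatrix', polarBilin_apply_apply]

/-- a symmetric nondegenerate form of dimension at least two over a finite field of odd order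
represents one. -/
theorem exists_one {F : Type u} [Field F] [Fintype F] (h2 : (2 : F) ≠ 0) {V : Type v}
    [AddCommGroup V] [Module F V] [FiniteDimensional F V] (B : LinearMap.BilinForm F V)
    (hS : B.IsSymm) (hN : B.Nondegenerate) (hd : 2 ≤ finrank F V) : ∃ x : V, B x x = 1 := by
  classical
  haveI : Invertible (2 : F) := invertibleOfNonzero h2
  obtain ⟨b, hb⟩ := LinearMap.BilinForm.exists_orthogonal_basis (LinearMap.BilinForm.isSymm_iff.mp hS)
  set i0 : Fin (finrank F V) := ⟨0, by omega⟩ with hi0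
  set i1 : Fin (finrank F V) := ⟨1, by omega⟩ with hi1
  have h01 : i0 ≠ i1 := by simp [hi0, hi1, Fin.ext_iff]
  have p01 : B (b i0) (b i1) = 0 := hb h01
  have p10 : B (b i1) (b i0) = 0 := hb h01.symm
  have ha : B (b i0) (b i0) ≠ 0 := hb.not_isOrtho_basis_self_of_separatingLeft hN.1 i0
  have hc : B (b i1) (b i1) ≠ 0 := hb.not_isOrtho_basis_self_of_separatingLeft hN.1 i1
  have hcard : Fintype.card F % 2 = 1 := by
    apply FiniteField.odd_card_of_char_ne_two
    intro hch
    haveI : CharP F 2 := ringChar.of_eq hch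
    apply h2
    have := CharP.cast_eq_zero F 2
    exact_mod_cast this
  have hf2 : (Polynomial.C (B (b i0) (b i0)) * Polynomial.X ^ 2 : Polynomial F).degree = 2 := by
    rw [Polynomial.degree_C_mul_X_pow 2 ha]; rfl
  have hg2 : (Polynomial.C (B (b i1) (b i1)) * Polynomial.X ^ 2 + Polynomial.C (-1) : Polynomial F).degree = 2 := by
    rw [Polynomial.degree_add_C, Polynomial.degree_C_mul_X_pow 2 hc]
    · rfl
    · rw [Polynomial.degree_C_mul_X_pow 2 hc]; decide
  obtain ⟨s, t, hst⟩ := FiniteField.exists_root_sum_quadratic hf2 hg2 hcard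
  simp only [Polynomial.eval_add, Polynomial.eval_mul, Polynomial.eval_C, Polynomial.eval_pow,
    Polynomial.eval_X] at hst
  refine ⟨s • b i0 + t • b i1, ?_⟩
  simp only [map_add, map_smul, LinearMap.add_apply, LinearMap.smul_apply, smul_eq_mul, p01, p10]
  linear_combination hst

/-- normal form of a symmetric nondegenerate bilinear form over a finite field of odd order. -/
theorem normal_form {F : Type u} [Field F] [Fintype F] (h2 : (2 : F) ≠ 0) (n : ℕ) :
    ∀ (V : Type v) [AddCommGroup V] [Module F V] [FiniteDimensional F V] (B : LinearMap.BilinForm F V),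
      finrank F V = n → B.IsSymm → B.Nondegenerate →
      ∃ b : Basis (Fin n) F V, (∀ i j, i ≠ j → B (b i) (b j) = 0) ∧
        (∀ i : Fin n, (i : ℕ) + 1 < n → B (b i) (b i) = 1) := by
  induction n with
  | zero =>
    intro V _ _ _ B hd _ _
    exact ⟨basisOfFinrankZero hd, fun i => i.elim0, fun i => i.elim0⟩
  | succ d ih =>
    intro V _ _ _ B hd hS hN
    obtain ⟨x, hx0, hx1⟩ : ∃ x : V, B x x ≠ 0 ∧ (1 ≤ d → B x x = 1) := by
      by_cases hd0 : 1 ≤ d
      · obtain ⟨x, hx⟩ := exists_one h2 B hS hN (by omega)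
        exact ⟨x, by rw [hx]; exact one_ne_zero, fun _ => hx⟩
      · have hpos : 0 < finrank F V := by omega
        obtain ⟨x, hx⟩ := (Module.finrank_pos_iff_exists_ne_zero (R := F) (M := V)).mp hpos
        refine ⟨x, ?_, fun h => absurd h hd0⟩
        intro hxx
        apply hx
        apply hN.1 x
        intro y
        have h1 : finrank F V = 1 := by omega
        obtain ⟨c, rfl⟩ := (finrank_eq_one_iff_of_nonzero' x hx).mp h1 y
        rw [map_smul, hxx, smul_zero]
    have hfr : finrank F (LinearMap.BilinForm.orthogonal B (F ∙ x)) = d := by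
      have h1 := Submodule.finrank_add_eq_of_isCompl
        (LinearMap.BilinForm.isCompl_span_singleton_orthogonal hx0)
      rw [finrank_span_singleton (LinearMap.BilinForm.ne_zero_of_not_isOrtho_self x hx0), hd] at h1
      omega
    have hNW := LinearMap.BilinForm.restrict_nondegenerate_orthogonal_spanSingleton B hN hS.isRefl hx0
    obtain ⟨b', hb'o, hb'1⟩ := ih (LinearMap.BilinForm.orthogonal B (F ∙ x))
      (B.restrict (LinearMap.BilinForm.orthogonal B (F ∙ x))) hfr (hS.restrict _) hNW
    let b := Basis.mkFinCons x b'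
      (by
        rintro c y hy hc
        rw [add_eq_zero_iff_neg_eq] at hc
        rw [← hc, Submodule.neg_mem_iff] at hy
        have := (LinearMap.BilinForm.isCompl_span_singleton_orthogonal hx0).disjoint
        rw [Submodule.disjoint_def] at this
        have := this (c • x) (Submodule.smul_mem _ _ <| Submodule.mem_span_singleton_self _) hy
        exact (smul_eq_zero.1 this).resolve_right fun h => hx0 <| h.symm ▸ map_zero _)
      (by
        intro y
        refine ⟨-B x y / B x x, fun z hz => ?_⟩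
        obtain ⟨c, rfl⟩ := Submodule.mem_span_singleton.1 hz
        rw [map_smul, LinearMap.smul_apply, map_add, map_smul, smul_eq_mul, smul_eq_mul,
          div_mul_cancel₀ _ hx0, add_neg_cancel, mul_zero])
    refine ⟨b, ?_, ?_⟩
    · have hbcoe : (b : Fin (d + 1) → V) =
          Fin.cons x (fun i => ((b' i : LinearMap.BilinForm.orthogonal B (F ∙ x)) : V)) := by
        rw [Basis.coe_mkFinCons]
        rfl
      intro i j hij
      rw [hbcoe]
      revert hij
      refine Fin.cases ?_ (fun i => ?_) i <;> refine Fin.cases ?_ (fun j => ?_) j <;>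
        simp only [Fin.cons_zero, Fin.cons_succ] <;> intro hij
      · exact absurd rfl hij
      · exact (b' j).prop _ (Submodule.mem_span_singleton_self x)
      · rw [hS.eq]
        exact (b' i).prop _ (Submodule.mem_span_singleton_self x)
      · have hij' : i ≠ j := fun h => hij (by rw [h])
        exact hb'o i j hij'
    · have hbcoe : (b : Fin (d + 1) → V) =
          Fin.cons x (fun i => ((b' i : LinearMap.BilinForm.orthogonal B (F ∙ x)) : V)) := by
        rw [Basis.coe_mkFinCons]
        rfl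
      intro i
      rw [hbcoe]
      refine Fin.cases ?_ (fun i => ?_) i <;> simp only [Fin.cons_zero, Fin.cons_succ] <;> intro hi
      · apply hx1
        simp only [Fin.val_zero] at hi
        omega
      · have := hb'1 i (by simp only [Fin.val_succ] at hi; omega)
        exact this

theorem polar_comp_endo {F V : Type*} [Field F] [AddCommGroup V] [Module F V] (Q : QuadraticForm F V)
    (g : V →ₗ[F] V) (u v : V) : polar (⇑(Q.comp g)) u v = polar (⇑Q) (g u) (g v) := by
  unfold polar
  simp [QuadraticMap.comp_apply, map_add]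

theorem gram_diag {F : Type*} [Field F] {n : ℕ} (Q : QuadraticForm F (Fin n → F))
    (b : Basis (Fin n) F (Fin n → F)) (l : Fin n)
    (ho : ∀ i j, i ≠ j → polar (⇑Q) (b i) (b j) = 0)
    (hone : ∀ i, i ≠ l → polar (⇑Q) (b i) (b i) = 1) :
    ∃ e : F, e ≠ 0 ∧ polar (⇑Q) (b l) (b l) = e ^ 2 *
      (Matrix.of (fun i j : Fin n => polar (⇑Q) (Pi.single i 1) (Pi.single j 1))).det := by
  classical
  obtain ⟨e, he, hdet⟩ := gram_det_basis _ (polar (⇑Q)) (polar_eq_gram Q) b
  refine ⟨e, he, ?_⟩
  rw [← hdet]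
  have h1 : (Matrix.of fun i j => polar (⇑Q) (b i) (b j)) =
      Matrix.diagonal (fun i => if i = l then polar (⇑Q) (b l) (b l) else 1) := by
    ext i j
    rw [Matrix.of_apply, Matrix.diagonal_apply]
    by_cases hij : i = j
    · subst hij
      rw [if_pos rfl]
      by_cases hil : i = l
      · rw [if_pos hil, hil]
      · rw [if_neg hil, hone i hil]
    · rw [if_neg hij, ho i j hij]
  rw [h1, Matrix.det_diagonal, Finset.prod_ite_eq' Finset.univ l]
  simp

theorem final_step {F : Type*} [Field F] [Fintype F] (h2 : (2 : F) ≠ 0) {n : ℕ}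
    (Q₁ Q₂ : QuadraticForm F (Fin n → F))
    (h₁ : (QuadraticMap.polarBilin Q₁).Nondegenerate) (h₂ : (QuadraticMap.polarBilin Q₂).Nondegenerate)
    (b₁ b₂ : Basis (Fin n) F (Fin n → F)) (l : Fin n)
    (ho₁ : ∀ i j, i ≠ j → polar (⇑Q₁) (b₁ i) (b₁ j) = 0)
    (ho₂ : ∀ i j, i ≠ j → polar (⇑Q₂) (b₂ i) (b₂ j) = 0)
    (hone₁ : ∀ i, i ≠ l → polar (⇑Q₁) (b₁ i) (b₁ i) = 1)
    (hone₂ : ∀ i, i ≠ l → polar (⇑Q₂) (b₂ i) (b₂ i) = 1)
    (hsq : IsSquare ((Matrix.of (fun i j : Fin n => polar (⇑Q₁) (Pi.single i 1) (Pi.single j 1))).det *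
      (Matrix.of (fun i j : Fin n => polar (⇑Q₂) (Pi.single i 1) (Pi.single j 1))).det)) :
    ∃ g : (Fin n → F) ≃ₗ[F] (Fin n → F), ∀ v, Q₂ (g v) = Q₁ v := by
  classical
  obtain ⟨e₁, he₁, hd₁⟩ := gram_diag Q₁ b₁ l ho₁ hone₁
  obtain ⟨e₂, he₂, hd₂⟩ := gram_diag Q₂ b₂ l ho₂ hone₂
  obtain ⟨r, hr⟩ := hsq
  set d₁ := polar (⇑Q₁) (b₁ l) (b₁ l) with hd₁def
  set d₂ := polar (⇑Q₂) (b₂ l) (b₂ l) with hd₂def
  have hd₁0 : d₁ ≠ 0 := by
    have hb : (polarBilin Q₁).IsOrthoᵢ b₁ := by
      intro i j hij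
      show polarBilin Q₁ (b₁ i) (b₁ j) = 0
      rw [polarBilin_apply_apply]
      exact ho₁ i j hij
    have := hb.not_isOrtho_basis_self_of_separatingLeft h₁.1 l
    rwa [polarBilin_apply_apply] at this
  have hd₂0 : d₂ ≠ 0 := by
    have hb : (polarBilin Q₂).IsOrthoᵢ b₂ := by
      intro i j hij
      show polarBilin Q₂ (b₂ i) (b₂ j) = 0
      rw [polarBilin_apply_apply]
      exact ho₂ i j hij
    have := hb.not_isOrtho_basis_self_of_separatingLeft h₂.1 l
    rwa [polarBilin_apply_apply] at this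
  have hprod : d₁ * d₂ = (e₁ * e₂ * r) ^ 2 := by
    rw [hd₁, hd₂]
    linear_combination (e₁ ^ 2 * e₂ ^ 2) * hr
  set s : F := e₁ * e₂ * r / d₁ with hs
  have hd₂s : d₂ = d₁ * s ^ 2 := by
    have : d₁ * d₂ = d₁ * (d₁ * s ^ 2) := by
      rw [hprod, hs]
      field_simp
    exact mul_left_cancel₀ hd₁0 this
  have hs0 : s ≠ 0 := by
    rintro h0
    rw [h0] at hd₂s
    apply hd₂0
    rw [hd₂s]
    ring
  let w : Fin n → Fˣ := fun i => if i = l then Units.mk0 s⁻¹ (inv_ne_zero hs0) else 1
  let b₂' : Basis (Fin n) F (Fin n → F) := b₂.unitsSMul w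
  have hb₂' : ∀ i, b₂' i = (w i : F) • b₂ i := fun i => by
    simp [b₂', Basis.unitsSMul_apply, Units.smul_def]
  let g : (Fin n → F) ≃ₗ[F] (Fin n → F) := b₁.equiv b₂' (Equiv.refl _)
  have hg : ∀ i, g (b₁ i) = b₂' i := fun i => by simp [g]
  refine ⟨g, ?_⟩
  have hpol : ∀ i j, polar (⇑(Q₂.comp g.toLinearMap)) (b₁ i) (b₁ j) = polar (⇑Q₁) (b₁ i) (b₁ j) := by
    intro i j
    rw [polar_comp_endo]
    show polar (⇑Q₂) (g (b₁ i)) (g (b₁ j)) = _
    rw [hg, hg, hb₂', hb₂', polar_smul_left, polar_smul_right]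
    by_cases hij : i = j
    · subst hij
      by_cases hil : i = l
      · subst hil
        simp only [w, if_true, Units.val_mk0, smul_eq_mul]
        show s⁻¹ * (s⁻¹ * d₂) = d₁
        rw [hd₂s]
        field_simp
      · simp only [w, if_neg hil, Units.val_one, one_smul]
        rw [hone₂ i hil, hone₁ i hil]
    · rw [ho₂ i j hij, ho₁ i j hij, smul_zero, smul_zero]
  have key := quad_ext_basis b₁ (Q₂.comp g.toLinearMap) Q₁ ?_ hpol
  · intro v
    exact key v
  · intro i
    have h3 := hpol i i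
    rw [QuadraticMap.polar_self, QuadraticMap.polar_self] at h3
    have h4 : (2 : F) * (Q₂.comp g.toLinearMap) (b₁ i) = 2 * Q₁ (b₁ i) := by
      simpa using h3
    exact mul_left_cancel₀ h2 h4

/-- Over a finite field of odd order, two quadratic forms on F^n with non-degenerate polar forms are isometric (related by an invertible linear change of variables) if and only if their discriminants (determinants of the Gram matrices of their polar forms) lie in the same square class. -/
theorem result {F : Type*} [Field F] [Fintype F] (h2 : (2 : F) ≠ 0) {n : ℕ} (Q₁ Q₂ : QuadraticForm F (Fin n → F)) (h₁ : (QuadraticMap.polarBilin Q₁).Nondegenerate) (h₂ : (QuadraticMap.polarBilin Q₂).Nondegenerate) : (∃ g : (Fin n → F) ≃ₗ[F] (Fin n → F), ∀ v, Q₂ (g v) = Q₁ v) ↔ IsSquare ((Matrix.of (fun i j : Fin n => QuadraticMap.polar ⇑Q₁ (Pi.single i 1) (Pi.single j 1))).det * (Matrix.of (fun i j : Fin n => QuadraticMap.polar ⇑Q₂ (Pi.single i 1) (Pi.single j 1))).det) := by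
  classical
  set G₁ := Matrix.of (fun i j : Fin n => QuadraticMap.polar ⇑Q₁ (Pi.single i 1) (Pi.single j 1)) with hG₁
  set G₂ := Matrix.of (fun i j : Fin n => QuadraticMap.polar ⇑Q₂ (Pi.single i 1) (Pi.single j 1)) with hG₂
  constructor
  · rintro ⟨g, hg⟩
    have hpol : ∀ u v, polar (⇑Q₂) (g u) (g v) = polar (⇑Q₁) u v := by
      intro u v
      unfold polar
      rw [← map_add, hg, hg, hg]
    obtain ⟨d, hd, hdet⟩ := gram_det_basis G₂ (polar (⇑Q₂)) (polar_eq_gram Q₂)
      ((Pi.basisFun F (Fin n)).map g)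
    have h1 : (Matrix.of fun i j => polar (⇑Q₂) (((Pi.basisFun F (Fin n)).map g) i)
        (((Pi.basisFun F (Fin n)).map g) j)) = G₁ := by
      ext i j
      simp only [Matrix.of_apply, Basis.map_apply, Pi.basisFun_apply, hpol, hG₁]
    rw [h1] at hdet
    rw [hdet]
    exact ⟨d * G₂.det, by ring⟩
  · intro hsq
    have hS₁ := polarBilin_isSymm' Q₁
    have hS₂ := polarBilin_isSymm' Q₂
    obtain ⟨b₁, ho₁, hone₁⟩ := normal_form h2 n (Fin n → F) (polarBilin Q₁) (by simp) hS₁ h₁
    obtain ⟨b₂, ho₂, hone₂⟩ := normal_form h2 n (Fin n → F) (polarBilin Q₂) (by simp) hS₂ h₂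
    rcases Nat.eq_zero_or_pos n with rfl | hn
    · refine ⟨LinearEquiv.refl F _, fun v => ?_⟩
      have : v = 0 := Subsingleton.elim _ _
      rw [this, map_zero, QuadraticMap.map_zero, QuadraticMap.map_zero]
    set l : Fin n := ⟨n - 1, by omega⟩ with hl
    have hlast : ∀ i : Fin n, i ≠ l → (i : ℕ) + 1 < n := by
      intro i hi
      have h1 := i.2
      have h2 : (i : ℕ) ≠ n - 1 := fun h => hi (Fin.ext h)
      omega
    exact final_step h2 Q₁ Q₂ h₁ h₂ b₁ b₂ l
      (fun i j hij => by have := ho₁ i j hij; rwa [polarBilin_apply_apply] at this)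
      (fun i j hij => by have := ho₂ i j hij; rwa [polarBilin_apply_apply] at this)
      (fun i hi => by have := hone₁ i (hlast i hi); rwa [polarBilin_apply_apply] at this)
      (fun i hi => by have := hone₂ i (hlast i hi); rwa [polarBilin_apply_apply] at this) hsq

end Cfsg.Agent.S2623
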