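import Mathlib
import Cfsg.Agent.Lib_helper13_ReflD
import Cfsg.Agent.S2623

set_option autoImplicit false

namespace Cfsg.Agent.helper13

open Matrix QuadraticMap

section homclass
variable {F : Type*} [Field F] {ι : Type} [Fintype ι] [DecidableEq ι]
variable (Q : QuadraticForm F (ι → F))

theorem reflG_congr (w z : ι → F) (h : w = z) (hw : Q w ≠ 0) (hz : Q z ≠ 0) :
    reflG Q w hw = reflG Q z hz := by
  subst h
  rfl

theorem hom_reflG_eq_of_Q_eq {A : Type*} [CommGroup A] (φ : ↥(Cfsg.isometryGroup F ⇑Q) →* A)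
    (h2 : (2 : F) ≠ 0) (w z : ι → F) (hw : Q w ≠ 0) (hz : Q z ≠ 0) (h : Q w = Q z) :
    φ (reflG Q w hw) = φ (reflG Q z hz) := by
  obtain ⟨ρ, -, hρ⟩ := exists_RU_map Q h2 ⊤ w z Submodule.mem_top Submodule.mem_top h hz
  have h1 := reflG_conj Q ρ w hw
  have h3 : reflG Q (iact ρ w) (by rw [Q_iact]; exact hw) = reflG Q z hz :=
    reflG_congr Q _ _ hρ _ _
  rw [← h3, ← h1, map_mul, map_mul, map_inv, mul_comm, ← mul_assoc, inv_mul_cancel, one_mul]

theorem hom_reflG_eq {A : Type*} [CommGroup A] (φ : ↥(Cfsg.isometryGroup F ⇑Q) →* A)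
    (h2 : (2 : F) ≠ 0) (w z : ι → F) (hw : Q w ≠ 0) (hz : Q z ≠ 0) (t : F) (ht : t ≠ 0)
    (h : Q w = t * t * Q z) :
    φ (reflG Q w hw) = φ (reflG Q z hz) := by
  have e : Q (t⁻¹ • w) = Q z := by
    rw [QuadraticMap.map_smul, h, smul_eq_mul]
    field_simp
  have hw' : Q (t⁻¹ • w) ≠ 0 := by rw [e]; exact hz
  rw [← reflG_smul Q w hw t⁻¹ (inv_ne_zero ht) hw']
  exact hom_reflG_eq_of_Q_eq Q φ h2 _ _ hw' hz e

end homclass

section spin
variable {F : Type*} [Field F] [Fintype F] [DecidableEq F] {ι : Type} [Fintype ι] [DecidableEq ι]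
variable (Q : QuadraticForm F (ι → F)) (ν : F)

omit [DecidableEq F] in
theorem ringChar_ne_two_of (h2 : (2 : F) ≠ 0) : ringChar F ≠ 2 := by
  intro h
  apply h2
  have := ringChar.Nat.cast_ringChar (R := F)
  rw [h] at this
  exact_mod_cast this

theorem exists_sq_ratio {a b : F} (ha : a ≠ 0) (hb : b ≠ 0)
    (h : quadraticChar F a = quadraticChar F b) : ∃ t : F, t ≠ 0 ∧ a = t * t * b := by
  have h1 : quadraticChar F (a * b) = 1 := by
    rw [map_mul, h, ← pow_two, quadraticChar_sq_one hb]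
  have hab : a * b ≠ 0 := mul_ne_zero ha hb
  obtain ⟨s, hs⟩ := (quadraticChar_one_iff_isSquare hab).mp h1
  have hs0 : s ≠ 0 := by
    rintro rfl
    rw [mul_zero] at hs
    exact hab hs
  refine ⟨s / b, div_ne_zero hs0 hb, ?_⟩
  field_simp
  linear_combination hs

theorem hom_reflG_eq_of_char {A : Type*} [CommGroup A] (φ : ↥(Cfsg.isometryGroup F ⇑Q) →* A)
    (h2 : (2 : F) ≠ 0) (w z : ι → F) (hw : Q w ≠ 0) (hz : Q z ≠ 0)
    (h : quadraticChar F (Q w) = quadraticChar F (Q z)) :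
    φ (reflG Q w hw) = φ (reflG Q z hz) := by
  obtain ⟨t, ht, e⟩ := exists_sq_ratio hw hz h
  exact hom_reflG_eq Q φ h2 w z hw hz t ht e

/-- first extra basis vector. -/
def eX0 (ι : Type) (F : Type*) [Field F] : ι ⊕ Fin 2 → F := Sum.elim 0 ![1, 0]

/-- second extra basis vector. -/
def eX1 (ι : Type) (F : Type*) [Field F] : ι ⊕ Fin 2 → F := Sum.elim 0 ![0, 1]

omit [Fintype F] [DecidableEq F] in
theorem QX_eX0 : QX Q ν (eX0 ι F) = 1 := by
  rw [eX0, QX_elim]
  simp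

omit [Fintype F] [DecidableEq F] in
theorem QX_eX1 : QX Q ν (eX1 ι F) = ν := by
  rw [eX1, QX_elim]
  simp

omit [Fintype F] [DecidableEq F] in
theorem polar_eX0 (x : ι ⊕ Fin 2 → F) :
    polar (⇑(QX Q ν)) (eX0 ι F) x = 2 * x (Sum.inr 0) := by
  rw [QX_polar]
  simp [eX0]

omit [Fintype F] [DecidableEq F] in
theorem polar_eX1 (x : ι ⊕ Fin 2 → F) :
    polar (⇑(QX Q ν)) (eX1 ι F) x = 2 * ν * x (Sum.inr 1) := by
  rw [QX_polar]
  simp [eX1]

omit [Fintype F] [DecidableEq F] in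
theorem fix_eX0 (h2 : (2 : F) ≠ 0) (h : QX Q ν (eX0 ι F) ≠ 0) (x : ι ⊕ Fin 2 → F) :
    iact (reflG (QX Q ν) (eX0 ι F) h) x = x ↔ x (Sum.inr 0) = 0 := by
  rw [iact_reflG_eq_iff, polar_eX0]
  constructor
  · intro h'
    exact (mul_eq_zero.mp h').resolve_left h2
  · intro h'
    rw [h', mul_zero]

omit [Fintype F] [DecidableEq F] in
theorem fix_eX1 (h2 : (2 : F) ≠ 0) (hν : ν ≠ 0) (h : QX Q ν (eX1 ι F) ≠ 0) (x : ι ⊕ Fin 2 → F) :
    iact (reflG (QX Q ν) (eX1 ι F) h) x = x ↔ x (Sum.inr 1) = 0 := by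
  rw [iact_reflG_eq_iff, polar_eX1]
  constructor
  · intro h'
    exact (mul_eq_zero.mp h').resolve_left (mul_ne_zero h2 hν)
  · intro h'
    rw [h', mul_zero]

theorem card_cone (h2 : (2 : F) ≠ 0) (c : F) (hc : c ≠ 0) :
    (Nat.card {p : (ι → F) × F // Q p.1 + c * (p.2 * p.2) = 1} : ℤ) =
      Fintype.card (ι → F) + quadraticChar F c * ∑ y : ι → F, quadraticChar F (1 - Q y) := by
  have e1 := Nat.card_congr (Equiv.subtypeProdEquivSigmaSubtype
    (fun (y : ι → F) (b : F) => Q y + c * (b * b) = 1))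
  rw [e1, Nat.card_sigma]
  have e2 : ∀ y : ι → F, (Nat.card {b : F // Q y + c * (b * b) = 1} : ℤ) =
      quadraticChar F c * quadraticChar F (1 - Q y) + 1 := by
    intro y
    have e3 : Nat.card {b : F // Q y + c * (b * b) = 1} =
        Nat.card {b : F // b ^ 2 = c⁻¹ * (1 - Q y)} := by
      apply Nat.card_congr
      apply Equiv.subtypeEquivRight
      intro b
      constructor
      · intro hb
        field_simp
        linear_combination hb
      · intro hb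
        field_simp at hb
        linear_combination hb
    rw [e3, card_sqrts h2, map_mul]
    congr 2
    have h1 : quadraticChar F (c⁻¹) * quadraticChar F c = 1 := by
      rw [← map_mul, inv_mul_cancel₀ hc, map_one]
    have h3 : quadraticChar F c * quadraticChar F c = 1 := by
      rw [← pow_two, quadraticChar_sq_one hc]
    calc quadraticChar F c⁻¹ = quadraticChar F c⁻¹ * (quadraticChar F c * quadraticChar F c) := by
          rw [h3, mul_one]
      _ = quadraticChar F c := by rw [← mul_assoc, h1, one_mul]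
  push_cast
  rw [Finset.sum_congr rfl (fun y _ => e2 y), Finset.sum_add_distrib, Finset.mul_sum]
  simp
  ring

theorem card_fix0 (h2 : (2 : F) ≠ 0) (hν : ν ≠ 0) (h : QX Q ν (eX0 ι F) ≠ 0) :
    (Nat.card {x : Lev (QX Q ν) 1 // actLev (reflG (QX Q ν) (eX0 ι F) h) x = x} : ℤ) =
      Fintype.card (ι → F) + quadraticChar F ν * ∑ y : ι → F, quadraticChar F (1 - Q y) := by
  rw [← card_cone Q h2 ν hν]
  congr 1
  apply Nat.card_congr
  refine
    { toFun := fun x => ⟨(x.1.1 ∘ Sum.inl, x.1.1 (Sum.inr 1)), ?_⟩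
      invFun := fun p => ⟨⟨Sum.elim p.1.1 ![0, p.1.2], ?_⟩, ?_⟩
      left_inv := ?_
      right_inv := ?_ }
  · have h0 : x.1.1 (Sum.inr 0) = 0 :=
      (fix_eX0 Q ν h2 h x.1.1).mp (congrArg Subtype.val x.2)
    have h1 := x.1.2
    rw [QX_apply, h0] at h1
    simpa using h1
  · rw [QX_elim]
    simpa using p.2
  · apply Subtype.ext
    show iact _ _ = _
    rw [fix_eX0 Q ν h2 h]
    rfl
  · intro x
    have h0 : x.1.1 (Sum.inr 0) = 0 :=
      (fix_eX0 Q ν h2 h x.1.1).mp (congrArg Subtype.val x.2)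
    apply Subtype.ext
    apply Subtype.ext
    funext j
    rcases j with j | j
    · rfl
    · fin_cases j
      · exact h0.symm
      · rfl
  · intro p
    apply Subtype.ext
    rfl

theorem card_fix1 (h2 : (2 : F) ≠ 0) (hν : ν ≠ 0) (h : QX Q ν (eX1 ι F) ≠ 0) :
    (Nat.card {x : Lev (QX Q ν) 1 // actLev (reflG (QX Q ν) (eX1 ι F) h) x = x} : ℤ) =
      Fintype.card (ι → F) + ∑ y : ι → F, quadraticChar F (1 - Q y) := by
  have hc := card_cone Q h2 1 one_ne_zero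
  rw [map_one, one_mul] at hc
  rw [← hc]
  congr 1
  apply Nat.card_congr
  refine
    { toFun := fun x => ⟨(x.1.1 ∘ Sum.inl, x.1.1 (Sum.inr 0)), ?_⟩
      invFun := fun p => ⟨⟨Sum.elim p.1.1 ![p.1.2, 0], ?_⟩, ?_⟩
      left_inv := ?_
      right_inv := ?_ }
  · have h0 : x.1.1 (Sum.inr 1) = 0 :=
      (fix_eX1 Q ν h2 hν h x.1.1).mp (congrArg Subtype.val x.2)
    have h1 := x.1.2
    rw [QX_apply, h0] at h1
    simpa using h1
  · rw [QX_elim]
    simpa using p.2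
  · apply Subtype.ext
    show iact _ _ = _
    rw [fix_eX1 Q ν h2 hν h]
    rfl
  · intro x
    have h0 : x.1.1 (Sum.inr 1) = 0 :=
      (fix_eX1 Q ν h2 hν h x.1.1).mp (congrArg Subtype.val x.2)
    apply Subtype.ext
    apply Subtype.ext
    funext j
    rcases j with j | j
    · rfl
    · fin_cases j
      · rfl
      · exact h0.symm
  · intro p
    apply Subtype.ext
    rfl

theorem sgn_eX_ne (h2 : (2 : F) ≠ 0) (hν : ¬ IsSquare ν) (h0 : QX Q ν (eX0 ι F) ≠ 0)
    (h1 : QX Q ν (eX1 ι F) ≠ 0) :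
    sgnLev (QX Q ν) 1 (reflG (QX Q ν) (eX0 ι F) h0) ≠
      sgnLev (QX Q ν) 1 (reflG (QX Q ν) (eX1 ι F) h1) := by
  have hν0 : ν ≠ 0 := by
    rintro rfl
    exact hν ⟨0, by ring⟩
  obtain ⟨t0, ht0, hs0⟩ := sgnLev_involution (QX Q ν) 1 _ (reflG_mul_self _ _ h0)
  obtain ⟨t1, ht1, hs1⟩ := sgnLev_involution (QX Q ν) 1 _ (reflG_mul_self _ _ h1)
  have c0 := card_fix0 Q ν h2 hν0 h0
  have c1 := card_fix1 Q ν h2 hν0 h1
  have hν' : quadraticChar F ν = -1 := quadraticChar_neg_one_iff_not_isSquare.mpr hν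
  obtain ⟨m, hm⟩ := charsum_odd Q h2
  rw [hν', hm] at c0
  rw [hm] at c1
  have e0 : (Nat.card (Lev (QX Q ν) 1) : ℤ) = Fintype.card (ι → F) + -1 * (2 * m + 1) + 2 * t0 := by
    rw [← c0, ht0]
    push_cast
    ring
  have e1 : (Nat.card (Lev (QX Q ν) 1) : ℤ) = Fintype.card (ι → F) + (2 * m + 1) + 2 * t1 := by
    rw [← c1, ht1]
    push_cast
    ring
  have key : (t0 : ℤ) = t1 + (2 * m + 1) := by linarith
  rw [hs0, hs1]
  intro heq
  rcases Nat.even_or_odd t0 with e0' | e0' <;> rcases Nat.even_or_odd t1 with e1' | e1'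
  · obtain ⟨a, ha⟩ := e0'
    obtain ⟨b, hb⟩ := e1'
    omega
  · rw [e0'.neg_one_pow, e1'.neg_one_pow] at heq
    exact absurd heq (by decide)
  · rw [e0'.neg_one_pow, e1'.neg_one_pow] at heq
    exact absurd heq (by decide)
  · obtain ⟨a, ha⟩ := e0'
    obtain ⟨b, hb⟩ := e1'
    omega

end spin

end Cfsg.Agent.helper13
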