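import Mathlib
import Cfsg.Agent.Lib_helper13_C2C
import Cfsg.Agent.Lib_helper13_ReflE

set_option autoImplicit false

namespace Cfsg.Agent.helper13

open Matrix QuadraticMap Module

section chartwoD
variable {F : Type*} [Field F] [Fintype F] {ι : Type} [Fintype ι] [DecidableEq ι]
variable (Q : QuadraticForm F (ι → F))

omit [Fintype F] in
theorem iact_mem_of_fix (hQ : (polarBilin Q).Nondegenerate) (U : Submodule F (ι → F))
    (g : ↥(Cfsg.isometryGroup F ⇑Q))
    (hfix : ∀ z, (∀ u ∈ U, polar (⇑Q) u z = 0) → iact g z = z) (v : ι → F) (hvU : v ∈ U) :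
    iact g v ∈ U := by
  rw [← LinearMap.BilinForm.orthogonal_orthogonal hQ (polarBilin_isSymm Q).isRefl U,
    LinearMap.BilinForm.mem_orthogonal_iff]
  intro z hz
  rw [LinearMap.BilinForm.mem_orthogonal_iff] at hz
  have hz' : ∀ u ∈ U, polar (⇑Q) u z = 0 := by
    intro u hu
    have := hz u hu
    rwa [polarBilin_apply_apply] at this
  have hzfix : iact g z = z := hfix z hz'
  rw [polarBilin_apply_apply]
  have h1 : polar (⇑Q) z (iact g v) = polar (⇑Q) (iact g z) (iact g v) := by rw [hzfix]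
  rw [h1, polar_iact, polar_comm]
  exact hz' v hvU

theorem cd2_aux (h2 : (2 : F) = 0) (hQ : (polarBilin Q).Nondegenerate) :
    ∀ (d : ℕ) (U : Submodule F (ι → F)), finrank F U = d → NondegOn Q U → ¬ Exc Q U →
      ∀ g : ↥(Cfsg.isometryGroup F ⇑Q),
        (∀ z, (∀ u ∈ U, polar (⇑Q) u z = 0) → iact g z = z) → g ∈ RU Q U := by
  intro d
  induction d using Nat.strong_induction_on with
  | _ d ih =>
  intro U hd hnd hexc g hfix
  by_cases hall : ∀ w ∈ U, Q w = 0
  · have hU0 : ∀ x ∈ U, x = 0 := by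
      intro x hx
      apply hnd x hx
      intro u hu
      unfold polar
      rw [hall _ (U.add_mem hu hx), hall u hu, hall x hx]
      simp
    have : g = 1 := by
      apply iact_ext
      intro x
      rw [iact_one]
      apply hfix
      intro u hu
      rw [hU0 u hu, polar_zero_left]
    rw [this]
    exact Subgroup.one_mem _
  push Not at hall
  obtain ⟨y, hyU, hy⟩ := hall
  have hy0 : y ≠ 0 := by
    rintro rfl
    exact hy (QuadraticMap.map_zero Q)
  -- first step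
  obtain ⟨ρ₁, hρ₁, hρ₁y⟩ := lemA Q h2 hQ U hnd hexc y (iact g y) hyU
    (iact_mem_of_fix Q hQ U g hfix y hyU) hy (Q_iact g y).symm
  have hfix₁ : ∀ z, (∀ u ∈ U, polar (⇑Q) u z = 0) → iact (ρ₁ * g) z = z := by
    intro z hz
    rw [iact_mul, hfix z hz, RU_fix Q U ρ₁ hρ₁ z hz]
  have hg₁y : iact (ρ₁ * g) y = y := by
    rw [iact_mul]
    exact hρ₁y
  -- choice of the partner
  obtain ⟨z, hzU, hyz, hgood⟩ : ∃ z ∈ U, polar (⇑Q) y z = 1 ∧ ¬ Exc Q (planeCompl Q U y z) := by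
    by_cases hsp : Fintype.card F = 2 ∧ d = 6
    · exact exists_good_z Q h2 hQ hsp.1 U hnd (by rw [hd, hsp.2]) y hyU hy
    · have : ∃ u ∈ U, polar (⇑Q) u y ≠ 0 := by
        by_contra hcon
        push Not at hcon
        exact hy0 (hnd y hyU hcon)
      obtain ⟨u, hu, huy⟩ := this
      have hyu : polar (⇑Q) y u ≠ 0 := by rw [polar_comm]; exact huy
      have hyz : polar (⇑Q) y ((polar (⇑Q) y u)⁻¹ • u) = 1 := by
        rw [polar_smul_right, smul_eq_mul, inv_mul_cancel₀ hyu]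
      refine ⟨(polar (⇑Q) y u)⁻¹ • u, U.smul_mem _ hu, hyz, ?_⟩
      rintro ⟨hF, h4, -⟩
      have := planeCompl_finrank Q h2 U y _ hyU (U.smul_mem _ hu) hyz
      apply hsp
      refine ⟨hF, ?_⟩
      omega
  have hzy : polar (⇑Q) z y = 1 := by rw [polar_comm]; exact hyz
  -- second step
  have hz'U : iact (ρ₁ * g) z ∈ U := iact_mem_of_fix Q hQ U (ρ₁ * g) hfix₁ z hzU
  have hyz' : polar (⇑Q) y (iact (ρ₁ * g) z) = 1 := by
    have : polar (⇑Q) y (iact (ρ₁ * g) z) =
        polar (⇑Q) (iact (ρ₁ * g) y) (iact (ρ₁ * g) z) := by rw [hg₁y]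
    rw [this, polar_iact, hyz]
  obtain ⟨ρ₂, hρ₂, hρ₂z⟩ := lemB Q h2 U y z (iact (ρ₁ * g) z) hyU hzU hz'U hy hyz hyz'
    (Q_iact (ρ₁ * g) z).symm
  have hρ₂U : ρ₂ ∈ RU Q U := RU_mono Q inf_le_left hρ₂
  have hρ₂y : iact ρ₂ y = y := by
    apply RU_fix Q _ ρ₂ hρ₂ y
    intro u hu
    have := (Submodule.mem_inf.mp hu).2
    rw [mem_orth_singleton_iff] at this
    rw [polar_comm]
    exact this
  have hfix₂ : ∀ w, (∀ u ∈ U, polar (⇑Q) u w = 0) → iact (ρ₂ * (ρ₁ * g)) w = w := by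
    intro w hw
    rw [iact_mul, hfix₁ w hw, RU_fix Q U ρ₂ hρ₂U w hw]
  have hg₂y : iact (ρ₂ * (ρ₁ * g)) y = y := by
    rw [iact_mul, hg₁y, hρ₂y]
  have hg₂z : iact (ρ₂ * (ρ₁ * g)) z = z := by
    rw [iact_mul]
    exact hρ₂z
  -- the complement
  have hnd₁ := planeCompl_nondeg Q h2 U hnd y z hyU hzU hyz
  have hfr := planeCompl_finrank Q h2 U y z hyU hzU hyz
  have hfix₃ : ∀ w, (∀ u ∈ planeCompl Q U y z, polar (⇑Q) u w = 0) →
      iact (ρ₂ * (ρ₁ * g)) w = w := by
    intro w hw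
    have hw'y : polar (⇑Q) y (w - polar (⇑Q) z w • y - polar (⇑Q) y w • z) = 0 := by
      rw [polar_sub_right, polar_sub_right, polar_smul_right, polar_smul_right,
        polar_self_zero Q h2, hyz]
      simp
    have hw'z : polar (⇑Q) z (w - polar (⇑Q) z w • y - polar (⇑Q) y w • z) = 0 := by
      rw [polar_sub_right, polar_sub_right, polar_smul_right, polar_smul_right,
        polar_self_zero Q h2, hzy]
      simp
    have hw'U : ∀ u ∈ U, polar (⇑Q) u (w - polar (⇑Q) z w • y - polar (⇑Q) y w • z) = 0 := by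
      intro u hu
      have hdec := planeCompl_dec Q h2 U y z hyU hzU hyz u hu
      obtain ⟨-, hyu₁, hzu₁⟩ := (mem_planeCompl Q U y z _).mp hdec
      have hu' : u = (u - polar (⇑Q) z u • y - polar (⇑Q) y u • z) + polar (⇑Q) z u • y +
          polar (⇑Q) y u • z := by abel
      rw [hu', polar_add_left, polar_add_left, polar_smul_left, polar_smul_left, hw'y, hw'z,
        polar_sub_right, polar_sub_right, hw _ hdec, polar_smul_right, polar_smul_right,
        polar_comm (⇑Q) _ y, hyu₁, polar_comm (⇑Q) _ z, hzu₁]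
      simp
    have hw' : w = (w - polar (⇑Q) z w • y - polar (⇑Q) y w • z) + polar (⇑Q) z w • y +
        polar (⇑Q) y w • z := by abel
    rw [hw', iact_add, iact_add, iact_smul, iact_smul, hg₂y, hg₂z, hfix₂ _ hw'U]
  have hd₁ : finrank F ↥(planeCompl Q U y z) < d := by omega
  have hmem := ih _ hd₁ (planeCompl Q U y z) rfl hnd₁ hgood (ρ₂ * (ρ₁ * g)) hfix₃
  have hh : ρ₂ * (ρ₁ * g) ∈ RU Q U := RU_mono Q (planeCompl_le Q U y z) hmem
  have hg : g = ρ₁⁻¹ * (ρ₂⁻¹ * (ρ₂ * (ρ₁ * g))) := by group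
  rw [hg]
  exact Subgroup.mul_mem _ (Subgroup.inv_mem _ hρ₁)
    (Subgroup.mul_mem _ (Subgroup.inv_mem _ hρ₂U) hh)

omit [Fintype F] [DecidableEq ι] in
theorem nondegOn_top (hQ : (polarBilin Q).Nondegenerate) : NondegOn Q ⊤ := by
  intro x _ hx
  apply hQ.2 x
  intro u
  rw [polarBilin_apply_apply]
  exact hx u Submodule.mem_top

theorem not_exc_top (hne : Fintype.card F ≠ 2 ∨ Fintype.card ι ≠ 4) :
    ¬ Exc Q (⊤ : Submodule F (ι → F)) := by
  rintro ⟨hF, h4, -⟩
  rw [finrank_top, Module.finrank_fintype_fun_eq_card] at h4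
  rcases hne with h | h
  · exact h hF
  · exact h h4

/-- generation by reflections in characteristic two. -/
theorem cd2 (h2 : (2 : F) = 0) (hQ : (polarBilin Q).Nondegenerate)
    (hne : Fintype.card F ≠ 2 ∨ Fintype.card ι ≠ 4) (g : ↥(Cfsg.isometryGroup F ⇑Q)) :
    g ∈ RU Q ⊤ := by
  apply cd2_aux Q h2 hQ _ ⊤ rfl (nondegOn_top Q hQ) (not_exc_top Q hne)
  intro z hz
  have : z = 0 := by
    apply hQ.2 z
    intro u
    rw [polarBilin_apply_apply]
    exact hz u Submodule.mem_top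
  rw [this, iact_zero]

/-- in characteristic two all reflections have the same image in a commutative group. -/
theorem hom_reflG_eq_two (h2 : (2 : F) = 0) (hQ : (polarBilin Q).Nondegenerate)
    (hne : Fintype.card F ≠ 2 ∨ Fintype.card ι ≠ 4) {A : Type*} [CommGroup A]
    (φ : ↥(Cfsg.isometryGroup F ⇑Q) →* A) (v w : ι → F) (hv : Q v ≠ 0) (hw : Q w ≠ 0) :
    φ (reflG Q v hv) = φ (reflG Q w hw) := by
  have hch : ringChar F = 2 := CharP.ringChar_of_prime_eq_zero Nat.prime_two h2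
  obtain ⟨t, ht⟩ := FiniteField.isSquare_of_char_two hch (Q v / Q w)
  have ht0 : t ≠ 0 := by
    rintro rfl
    rw [mul_zero] at ht
    exact (div_ne_zero hv hw) ht
  have hQw' : Q (t • w) = Q v := by
    rw [QuadraticMap.map_smul, smul_eq_mul, ← ht]
    field_simp
  have hw' : Q (t • w) ≠ 0 := by rw [hQw']; exact hv
  obtain ⟨ρ, -, hρ⟩ := lemA Q h2 hQ ⊤ (nondegOn_top Q hQ) (not_exc_top Q hne) (t • w) v
    Submodule.mem_top Submodule.mem_top hw' hQw'
  have h1 := reflG_conj Q ρ v hv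
  have h3 : reflG Q (iact ρ v) (by rw [Q_iact]; exact hv) = reflG Q (t • w) hw' :=
    reflG_congr Q _ _ hρ _ _
  rw [← reflG_smul Q w hw t ht0 hw', ← h3, ← h1, map_mul, map_mul, map_inv, mul_comm,
    ← mul_assoc, inv_mul_cancel, one_mul]

end chartwoD

end Cfsg.Agent.helper13
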