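import Mathlib
import Cfsg.Agent.Lib_helper13_ReflA
import Cfsg.Agent.Lib_helper13_MaxTS

set_option autoImplicit false

namespace Cfsg.Agent.helper13

open Matrix QuadraticMap Module

section gmap
variable {F : Type*} [Field F] {ι : Type} [Fintype ι] [DecidableEq ι]
variable {Q : QuadraticForm F (ι → F)}

/-- image of a subspace under an isometry. -/
def gmap (g : ↥(Cfsg.isometryGroup F ⇑Q)) (U : Submodule F (ι → F)) : Submodule F (ι → F) :=
  U.map (Matrix.mulVecLin ((g : Matrix.GeneralLinearGroup ι F) : Matrix ι ι F))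

theorem mem_gmap (g : ↥(Cfsg.isometryGroup F ⇑Q)) (U : Submodule F (ι → F)) (x : ι → F) :
    x ∈ gmap g U ↔ ∃ u ∈ U, iact g u = x := by
  unfold gmap
  rw [Submodule.mem_map]
  rfl

theorem gmap_one (U : Submodule F (ι → F)) : gmap (1 : ↥(Cfsg.isometryGroup F ⇑Q)) U = U := by
  ext x
  rw [mem_gmap]
  constructor
  · rintro ⟨u, hu, rfl⟩
    rw [iact_one]
    exact hu
  · intro hx
    exact ⟨x, hx, iact_one x⟩

theorem gmap_mul (g h : ↥(Cfsg.isometryGroup F ⇑Q)) (U : Submodule F (ι → F)) :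
    gmap (g * h) U = gmap g (gmap h U) := by
  ext x
  rw [mem_gmap, mem_gmap]
  constructor
  · rintro ⟨u, hu, rfl⟩
    exact ⟨iact h u, (mem_gmap h U _).mpr ⟨u, hu, rfl⟩, (iact_mul g h u).symm⟩
  · rintro ⟨y, hy, rfl⟩
    obtain ⟨u, hu, rfl⟩ := (mem_gmap h U y).mp hy
    exact ⟨u, hu, iact_mul g h u⟩

theorem mulVecLin_injective (g : ↥(Cfsg.isometryGroup F ⇑Q)) :
    Function.Injective (Matrix.mulVecLin ((g : Matrix.GeneralLinearGroup ι F) : Matrix ι ι F)) := by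
  intro x y hxy
  have h : iact g x = iact g y := hxy
  have := congrArg (iact g⁻¹) h
  rwa [iact_inv_iact, iact_inv_iact] at this

theorem finrank_gmap (g : ↥(Cfsg.isometryGroup F ⇑Q)) (U : Submodule F (ι → F)) :
    finrank F ↥(gmap g U) = finrank F U :=
  (LinearEquiv.finrank_eq (Submodule.equivMapOfInjective _ (mulVecLin_injective g) U)).symm

theorem gmap_inf (g : ↥(Cfsg.isometryGroup F ⇑Q)) (U W : Submodule F (ι → F)) :
    gmap g (U ⊓ W) = gmap g U ⊓ gmap g W :=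
  Submodule.map_inf _ (mulVecLin_injective g)

theorem gmap_mts (g : ↥(Cfsg.isometryGroup F ⇑Q)) {m : ℕ} {U : Submodule F (ι → F)}
    (hU : MTS Q m U) : MTS Q m (gmap g U) := by
  constructor
  · intro x hx
    obtain ⟨u, hu, rfl⟩ := (mem_gmap g U x).mp hx
    rw [Q_iact]
    exact hU.ts u hu
  · rw [finrank_gmap]
    exact hU.rk

variable (Q)

/-- the character recording whether an isometry preserves the class of a maximal totally
singular subspace. -/
noncomputable def clsChar (hnd : (polarBilin Q).Nondegenerate) {m : ℕ}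
    (hV : finrank F (ι → F) = 2 * m) (U₀ : Submodule F (ι → F)) (hU₀ : MTS Q m U₀) :
    ↥(Cfsg.isometryGroup F ⇑Q) →* ℤˣ where
  toFun g := (-1) ^ (m - finrank F ↥(U₀ ⊓ gmap g U₀))
  map_one' := by
    rw [gmap_one, inf_idem, hU₀.rk, Nat.sub_self, pow_zero]
  map_mul' g h := by
    have hp := parity hnd hV U₀ (gmap g U₀) (gmap (g * h) U₀) hU₀ (gmap_mts g hU₀)
      (gmap_mts (g * h) hU₀)
    have e : finrank F ↥(gmap g U₀ ⊓ gmap (g * h) U₀) = finrank F ↥(U₀ ⊓ gmap h U₀) := by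
      rw [gmap_mul, ← gmap_inf, finrank_gmap]
    rw [e] at hp
    show (-1 : ℤˣ) ^ (m - finrank F ↥(U₀ ⊓ gmap (g * h) U₀)) =
      (-1) ^ (m - finrank F ↥(U₀ ⊓ gmap g U₀)) * (-1) ^ (m - finrank F ↥(U₀ ⊓ gmap h U₀))
    generalize (m - finrank F ↥(U₀ ⊓ gmap (g * h) U₀)) = c at hp ⊢
    generalize (m - finrank F ↥(U₀ ⊓ gmap g U₀)) = a at hp ⊢
    generalize (m - finrank F ↥(U₀ ⊓ gmap h U₀)) = b at hp ⊢
    have h1 : (-1 : ℤˣ) ^ (a + b + c) = 1 := hp.neg_one_pow
    have h2 : (-1 : ℤˣ) ^ c * (-1) ^ c = 1 := by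
      rw [← pow_add, ← two_mul, pow_mul]
      simp
    rw [pow_add, pow_add] at h1
    calc (-1 : ℤˣ) ^ c = ((-1) ^ a * (-1) ^ b * (-1) ^ c) * (-1) ^ c := by rw [h1, one_mul]
      _ = (-1) ^ a * (-1) ^ b := by rw [mul_assoc, h2, mul_one]

theorem clsChar_apply (hnd : (polarBilin Q).Nondegenerate) {m : ℕ}
    (hV : finrank F (ι → F) = 2 * m) (U₀ : Submodule F (ι → F)) (hU₀ : MTS Q m U₀)
    (g : ↥(Cfsg.isometryGroup F ⇑Q)) :
    clsChar Q hnd hV U₀ hU₀ g = (-1) ^ (m - finrank F ↥(U₀ ⊓ gmap g U₀)) := rfl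

theorem inf_gmap_reflG {m : ℕ} (hnd : (polarBilin Q).Nondegenerate)
    (hV : finrank F (ι → F) = 2 * m) (U₀ : Submodule F (ι → F)) (hU₀ : MTS Q m U₀)
    (w : ι → F) (hw : Q w ≠ 0) :
    U₀ ⊓ gmap (reflG Q w hw) U₀ = U₀ ⊓ orthQ Q (Submodule.span F {w}) := by
  ext x
  rw [Submodule.mem_inf, Submodule.mem_inf, mem_gmap, mem_orth_singleton_iff]
  constructor
  · rintro ⟨hx, u, hu, hux⟩
    refine ⟨hx, ?_⟩
    rw [iact_reflG] at hux
    by_cases hc : (Q w)⁻¹ * polar (⇑Q) w u = 0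
    · rw [hc, zero_smul, sub_zero] at hux
      rw [← hux]
      rcases mul_eq_zero.mp hc with h | h
      · exact absurd (inv_eq_zero.mp h) hw
      · exact h
    · exfalso
      have hwU : w ∈ U₀ := by
        have h1 : ((Q w)⁻¹ * polar (⇑Q) w u) • w = u - x := by
          rw [← hux]
          abel
        have h2 : w = ((Q w)⁻¹ * polar (⇑Q) w u)⁻¹ • (u - x) := by
          rw [← h1, smul_smul, inv_mul_cancel₀ hc, one_smul]
        rw [h2]
        exact U₀.smul_mem _ (U₀.sub_mem hu hx)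
      exact hw (hU₀.ts w hwU)
  · rintro ⟨hx, hwx⟩
    exact ⟨hx, x, hx, iact_reflG_of_polar Q w hw x hwx⟩

theorem clsChar_reflG (hnd : (polarBilin Q).Nondegenerate) {m : ℕ}
    (hV : finrank F (ι → F) = 2 * m) (U₀ : Submodule F (ι → F)) (hU₀ : MTS Q m U₀)
    (w : ι → F) (hw : Q w ≠ 0) :
    clsChar Q hnd hV U₀ hU₀ (reflG Q w hw) = -1 := by
  rw [clsChar_apply, inf_gmap_reflG Q hnd hV U₀ hU₀ w hw]
  have hw0 : w ≠ 0 := by
    rintro rfl
    exact hw (QuadraticMap.map_zero Q)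
  have hH : finrank F ↥(orthQ Q (Submodule.span F {w})) = 2 * m - 1 := by
    rw [LinearMap.BilinForm.finrank_orthogonal hnd, hV, finrank_span_singleton hw0]
  have hlt : U₀ ⊓ orthQ Q (Submodule.span F {w}) < U₀ := by
    apply lt_of_le_of_ne inf_le_left
    intro heq
    have hle : U₀ ≤ orthQ Q (Submodule.span F {w}) := inf_eq_left.mp heq
    have hwU : w ∈ orthQ Q U₀ := by
      rw [mem_orth_iff]
      intro u hu
      have := (mem_orth_singleton_iff Q w u).mp (hle hu)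
      rw [polar_comm]
      exact this
    rw [hU₀.orth_eq hnd hV] at hwU
    exact hw (hU₀.ts w hwU)
  have h1 := Submodule.finrank_lt_finrank_of_lt hlt
  rw [hU₀.rk] at h1
  have h2 := Submodule.finrank_sup_add_finrank_inf_eq U₀ (orthQ Q (Submodule.span F {w}))
  have h3 : finrank F ↥(U₀ ⊔ orthQ Q (Submodule.span F {w})) ≤ 2 * m := by
    rw [← hV]
    exact Submodule.finrank_le _
  rw [hU₀.rk, hH] at h2
  have h4 : m - finrank F ↥(U₀ ⊓ orthQ Q (Submodule.span F {w})) = 1 := by omega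
  rw [h4, pow_one]

end gmap

end Cfsg.Agent.helper13
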