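import Mathlib
import Cfsg.Agent.Lib_helper13_ReflE

set_option autoImplicit false

namespace Cfsg.Agent.helper13

open Matrix QuadraticMap

section spinF
variable {F : Type*} [Field F] [Fintype F] [DecidableEq F] {ι : Type} [Fintype ι] [DecidableEq ι]
variable (Q : QuadraticForm F (ι → F))

theorem exists_spinor0 (h2 : (2 : F) ≠ 0) :
    ∃ θ : ↥(Cfsg.isometryGroup F ⇑Q) →* ℤˣ, ∃ ε₀ ε₁ : ℤˣ, ε₀ ≠ ε₁ ∧
      ∀ (w : ι → F) (hw : Q w ≠ 0), θ (reflG Q w hw) = if IsSquare (Q w) then ε₀ else ε₁ := by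
  obtain ⟨ν, hν⟩ := FiniteField.exists_nonsquare (ringChar_ne_two_of (F := F) h2)
  have hν0 : ν ≠ 0 := by
    rintro rfl
    exact hν ⟨0, by ring⟩
  have h0 : QX Q ν (eX0 ι F) ≠ 0 := by rw [QX_eX0]; exact one_ne_zero
  have h1 : QX Q ν (eX1 ι F) ≠ 0 := by rw [QX_eX1]; exact hν0
  refine ⟨(sgnLev (QX Q ν) 1).comp (embHom Q ν),
    sgnLev (QX Q ν) 1 (reflG (QX Q ν) (eX0 ι F) h0),
    sgnLev (QX Q ν) 1 (reflG (QX Q ν) (eX1 ι F) h1), sgn_eX_ne Q ν h2 hν h0 h1, ?_⟩
  intro w hw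
  have hQw : QX Q ν (Sum.elim w 0) = Q w := by
    rw [QX_elim]
    simp
  have hw' : QX Q ν (Sum.elim w 0) ≠ 0 := by rw [hQw]; exact hw
  have e : ((sgnLev (QX Q ν) 1).comp (embHom Q ν)) (reflG Q w hw) =
      sgnLev (QX Q ν) 1 (reflG (QX Q ν) (Sum.elim w 0) hw') := by
    rw [MonoidHom.comp_apply]
    congr 1
    exact embX_reflG Q ν w hw hw'
  rw [e]
  by_cases hs : IsSquare (Q w)
  · rw [if_pos hs]
    apply hom_reflG_eq_of_char (QX Q ν) _ h2
    rw [hQw, QX_eX0, map_one]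
    exact (quadraticChar_one_iff_isSquare hw).mpr hs
  · rw [if_neg hs]
    apply hom_reflG_eq_of_char (QX Q ν) _ h2
    rw [hQw, QX_eX1, quadraticChar_neg_one_iff_not_isSquare.mpr hs,
      quadraticChar_neg_one_iff_not_isSquare.mpr hν]

omit [Fintype F] [DecidableEq F] in
theorem det_pm (h2 : (2 : F) ≠ 0) (hQ : (polarBilin Q).Nondegenerate)
    (g : ↥(Cfsg.isometryGroup F ⇑Q)) :
    ((g : Matrix.GeneralLinearGroup ι F) : Matrix ι ι F).det = 1 ∨
      ((g : Matrix.GeneralLinearGroup ι F) : Matrix ι ι F).det = -1 := by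
  have hg := cartan_dieudonne Q h2 hQ g
  unfold RU at hg
  induction hg using Subgroup.closure_induction with
  | mem r hr =>
    obtain ⟨w, -, hw, rfl⟩ := hr
    exact Or.inr (det_reflG Q w hw)
  | one => left; simp
  | mul a b _ _ ha hb =>
    have : ((a * b : ↥(Cfsg.isometryGroup F ⇑Q)) : Matrix.GeneralLinearGroup ι F).1 =
      ((a : Matrix.GeneralLinearGroup ι F) : Matrix ι ι F) *
        ((b : Matrix.GeneralLinearGroup ι F) : Matrix ι ι F) := rfl
    rw [this, Matrix.det_mul]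
    rcases ha with ha | ha <;> rcases hb with hb | hb <;> rw [ha, hb] <;> simp
  | inv a _ ha =>
    have h1 : ((a⁻¹ : ↥(Cfsg.isometryGroup F ⇑Q)) : Matrix.GeneralLinearGroup ι F).1.det *
        ((a : Matrix.GeneralLinearGroup ι F) : Matrix ι ι F).det = 1 := by
      rw [← Matrix.det_mul]
      have : ((a⁻¹ : ↥(Cfsg.isometryGroup F ⇑Q)) : Matrix.GeneralLinearGroup ι F).1 *
          ((a : Matrix.GeneralLinearGroup ι F) : Matrix ι ι F) =
          ((a⁻¹ * a : ↥(Cfsg.isometryGroup F ⇑Q)) : Matrix.GeneralLinearGroup ι F).1 := rfl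
      rw [this, inv_mul_cancel]
      simp
    rcases ha with ha | ha
    · left
      rw [ha, mul_one] at h1
      exact h1
    · right
      rw [ha] at h1
      linear_combination -h1

omit [Fintype F] [DecidableEq F] in
theorem exists_detSign (h2 : (2 : F) ≠ 0) (hQ : (polarBilin Q).Nondegenerate) :
    ∃ δ : ↥(Cfsg.isometryGroup F ⇑Q) →* ℤˣ,
      (∀ (w : ι → F) (hw : Q w ≠ 0), δ (reflG Q w hw) = -1) ∧
      ∀ g : ↥(Cfsg.isometryGroup F ⇑Q), δ g = 1 ↔
        ((g : Matrix.GeneralLinearGroup ι F) : Matrix ι ι F).det = 1 := by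
  classical
  have hne : (-1 : F) ≠ 1 := by
    intro h
    apply h2
    linear_combination -h
  let δ : ↥(Cfsg.isometryGroup F ⇑Q) →* ℤˣ :=
    { toFun := fun g => if ((g : Matrix.GeneralLinearGroup ι F) : Matrix ι ι F).det = 1 then 1 else -1
      map_one' := by simp
      map_mul' := by
        intro a b
        have : ((a * b : ↥(Cfsg.isometryGroup F ⇑Q)) : Matrix.GeneralLinearGroup ι F).1 =
          ((a : Matrix.GeneralLinearGroup ι F) : Matrix ι ι F) *
            ((b : Matrix.GeneralLinearGroup ι F) : Matrix ι ι F) := rfl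
        rw [this, Matrix.det_mul]
        rcases det_pm Q h2 hQ a with ha | ha <;> rcases det_pm Q h2 hQ b with hb | hb <;>
          rw [ha, hb] <;> simp [hne] }
  refine ⟨δ, ?_, ?_⟩
  · intro w hw
    show (if ((reflG Q w hw : Matrix.GeneralLinearGroup ι F) : Matrix ι ι F).det = 1 then
      (1 : ℤˣ) else -1) = -1
    rw [det_reflG, if_neg hne]
  · intro g
    show (if ((g : Matrix.GeneralLinearGroup ι F) : Matrix ι ι F).det = 1 then
      (1 : ℤˣ) else -1) = 1 ↔ _
    by_cases h : ((g : Matrix.GeneralLinearGroup ι F) : Matrix ι ι F).det = 1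
    · rw [if_pos h]
      simp [h]
    · rw [if_neg h]
      simp [h]

theorem exists_spinor (h2 : (2 : F) ≠ 0) (hQ : (polarBilin Q).Nondegenerate) :
    ∃ θ : ↥(Cfsg.isometryGroup F ⇑Q) →* ℤˣ,
      ∀ (w : ι → F) (hw : Q w ≠ 0), ((θ (reflG Q w hw) : ℤˣ) : ℤ) = quadraticChar F (Q w) := by
  obtain ⟨θ, ε₀, ε₁, hne, hθ⟩ := exists_spinor0 Q h2
  obtain ⟨δ, hδ, -⟩ := exists_detSign Q h2 hQ
  rcases Int.units_eq_one_or ε₀ with rfl | rfl <;> rcases Int.units_eq_one_or ε₁ with rfl | rfl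
  · exact absurd rfl hne
  · refine ⟨θ, ?_⟩
    intro w hw
    rw [hθ w hw]
    by_cases hs : IsSquare (Q w)
    · rw [if_pos hs, (quadraticChar_one_iff_isSquare hw).mpr hs]
      rfl
    · rw [if_neg hs, quadraticChar_neg_one_iff_not_isSquare.mpr hs]
      rfl
  · refine ⟨θ * δ, ?_⟩
    intro w hw
    rw [MonoidHom.mul_apply, hθ w hw, hδ w hw]
    by_cases hs : IsSquare (Q w)
    · rw [if_pos hs, (quadraticChar_one_iff_isSquare hw).mpr hs]
      rfl
    · rw [if_neg hs, quadraticChar_neg_one_iff_not_isSquare.mpr hs]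
      rfl
  · exact absurd rfl hne

omit [DecidableEq F] in
theorem exists_Q_eq (h2 : (2 : F) ≠ 0) (hQ : (polarBilin Q).Nondegenerate)
    (hn : 2 ≤ Fintype.card ι) (c : F) (hc : c ≠ 0) : ∃ v : ι → F, Q v = c := by
  have h2c : (2 * c) ≠ 0 := mul_ne_zero h2 hc
  have hS : LinearMap.BilinForm.IsSymm
      ((2 * c)⁻¹ • (polarBilin Q : LinearMap.BilinForm F (ι → F))) :=
    ⟨fun x y => by
      simp only [LinearMap.smul_apply, polarBilin_apply_apply, RingHom.id_apply]
      rw [polar_comm]⟩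
  have hN : ((2 * c)⁻¹ • (polarBilin Q : LinearMap.BilinForm F (ι → F))).Nondegenerate := by
    constructor
    · intro x hx
      apply hQ.1 x
      intro y
      have := hx y
      simp only [LinearMap.smul_apply, smul_eq_mul] at this
      exact (mul_eq_zero.mp this).resolve_left (inv_ne_zero h2c)
    · intro x hx
      apply hQ.2 x
      intro y
      have := hx y
      simp only [LinearMap.smul_apply, smul_eq_mul] at this
      exact (mul_eq_zero.mp this).resolve_left (inv_ne_zero h2c)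
  obtain ⟨x, hx⟩ := Cfsg.Agent.S2623.exists_one h2 _ hS hN (by rw [Module.finrank_fintype_fun_eq_card]; exact hn)
  refine ⟨x, ?_⟩
  simp only [LinearMap.smul_apply, polarBilin_apply_apply, smul_eq_mul, polar_self] at hx
  field_simp at hx
  rw [nsmul_eq_mul, Nat.cast_ofNat] at hx
  exact mul_left_cancel₀ h2 hx

end spinF

end Cfsg.Agent.helper13
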