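import Mathlib
import Cfsg.Agent.Lib_helper13_ReflF

set_option autoImplicit false

namespace Cfsg.Agent.helper13

open Matrix QuadraticMap

section invol

theorem int_units_neg_one_ne_one : (-1 : ℤˣ) ≠ 1 := by decide

/-- the hom from the units of the integers given by an involution. -/
def involHom {A : Type*} [CommGroup A] (a : A) (ha : a * a = 1) : ℤˣ →* A where
  toFun s := if s = 1 then 1 else a
  map_one' := by simp
  map_mul' s t := by
    rcases Int.units_eq_one_or s with rfl | rfl <;> rcases Int.units_eq_one_or t with rfl | rfl <;>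
      simp [ha, int_units_neg_one_ne_one]

theorem involHom_one {A : Type*} [CommGroup A] (a : A) (ha : a * a = 1) :
    involHom a ha 1 = 1 := by simp [involHom]

theorem involHom_neg_one {A : Type*} [CommGroup A] (a : A) (ha : a * a = 1) :
    involHom a ha (-1) = a := by simp [involHom, int_units_neg_one_ne_one]

end invol

section lists
variable {F : Type*} [Field F] {ι : Type} [Fintype ι] [DecidableEq ι]
variable (Q : QuadraticForm F (ι → F))

open Classical in
/-- total version of the reflection. -/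
noncomputable def reflG' (v : ι → F) : ↥(Cfsg.isometryGroup F ⇑Q) :=
  if h : Q v ≠ 0 then reflG Q v h else 1

theorem reflG'_of (v : ι → F) (h : Q v ≠ 0) : reflG' Q v = reflG Q v h := by
  unfold reflG'
  rw [dif_pos h]

theorem reflG'_mul_self (v : ι → F) : reflG' Q v * reflG' Q v = 1 := by
  by_cases h : Q v ≠ 0
  · rw [reflG'_of Q v h, reflG_mul_self]
  · unfold reflG'
    rw [dif_neg h, mul_one]

theorem reflG'_inv (v : ι → F) : (reflG' Q v)⁻¹ = reflG' Q v :=
  inv_eq_of_mul_eq_one_left (reflG'_mul_self Q v)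

/-- product of reflections along a list. -/
noncomputable def prodR (vs : List (ι → F)) : ↥(Cfsg.isometryGroup F ⇑Q) :=
  (vs.map (reflG' Q)).prod

theorem prodR_nil : prodR Q [] = 1 := rfl

theorem prodR_cons (v : ι → F) (vs : List (ι → F)) :
    prodR Q (v :: vs) = reflG' Q v * prodR Q vs := by
  unfold prodR
  rw [List.map_cons, List.prod_cons]

theorem prodR_append (vs ws : List (ι → F)) : prodR Q (vs ++ ws) = prodR Q vs * prodR Q ws := by
  unfold prodR
  rw [List.map_append, List.prod_append]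

theorem prodR_reverse (vs : List (ι → F)) : prodR Q vs.reverse = (prodR Q vs)⁻¹ := by
  induction vs with
  | nil => simp [prodR]
  | cons v vs ih =>
    rw [List.reverse_cons, prodR_append, ih, prodR_cons, prodR_cons, prodR_nil, mul_one,
      _root_.mul_inv_rev, reflG'_inv]

theorem coe_prodR (vs : List (ι → F)) (hvs : ∀ v ∈ vs, Q v ≠ 0) :
    ((prodR Q vs : Matrix.GeneralLinearGroup ι F) : Matrix ι ι F) =
      (vs.map (fun v => Cfsg.reflectionMatrix (⇑Q) v)).prod := by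
  induction vs with
  | nil => simp [prodR]
  | cons v vs ih =>
    have hv : Q v ≠ 0 := hvs v (List.mem_cons_self)
    rw [prodR_cons, List.map_cons, List.prod_cons, ← ih (fun u hu => hvs u (List.mem_cons_of_mem _ hu)),
      reflG'_of Q v hv]
    rfl

theorem eq_prodR_of_coe (g : ↥(Cfsg.isometryGroup F ⇑Q)) (vs : List (ι → F))
    (hvs : ∀ v ∈ vs, Q v ≠ 0)
    (hg : ((g : Matrix.GeneralLinearGroup ι F) : Matrix ι ι F) =
      (vs.map (fun v => Cfsg.reflectionMatrix (⇑Q) v)).prod) : g = prodR Q vs := by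
  apply Subtype.ext
  apply Units.ext
  rw [hg, coe_prodR Q vs hvs]

theorem exists_list (h2 : (2 : F) ≠ 0) (hQ : (polarBilin Q).Nondegenerate)
    (g : ↥(Cfsg.isometryGroup F ⇑Q)) :
    ∃ vs : List (ι → F), (∀ v ∈ vs, Q v ≠ 0) ∧ g = prodR Q vs := by
  have hg := cartan_dieudonne Q h2 hQ g
  unfold RU at hg
  induction hg using Subgroup.closure_induction with
  | mem r hr =>
    obtain ⟨w, -, hw, rfl⟩ := hr
    refine ⟨[w], ?_, ?_⟩
    · intro v hv
      rw [List.mem_singleton] at hv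
      rw [hv]
      exact hw
    · rw [prodR_cons, prodR_nil, mul_one, reflG'_of Q w hw]
  | one => exact ⟨[], fun v hv => absurd hv (List.not_mem_nil), rfl⟩
  | mul a b _ _ ha hb =>
    obtain ⟨va, hva, rfl⟩ := ha
    obtain ⟨vb, hvb, rfl⟩ := hb
    refine ⟨va ++ vb, ?_, (prodR_append Q va vb).symm⟩
    intro v hv
    rcases List.mem_append.mp hv with h | h
    · exact hva v h
    · exact hvb v h
  | inv a _ ha =>
    obtain ⟨va, hva, rfl⟩ := ha
    refine ⟨va.reverse, ?_, (prodR_reverse Q va).symm⟩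
    intro v hv
    exact hva v (List.mem_reverse.mp hv)

theorem hom_ext_reflG (h2 : (2 : F) ≠ 0) (hQ : (polarBilin Q).Nondegenerate)
    {A : Type*} [Monoid A] (φ ψ : ↥(Cfsg.isometryGroup F ⇑Q) →* A)
    (h : ∀ (w : ι → F) (hw : Q w ≠ 0), φ (reflG Q w hw) = ψ (reflG Q w hw)) : φ = ψ := by
  apply MonoidHom.eq_of_eqOn_dense
    (s := {r | ∃ w ∈ (⊤ : Submodule F (ι → F)), ∃ hw : Q w ≠ 0, r = reflG Q w hw})
  · rw [eq_top_iff]
    intro g _
    exact cartan_dieudonne Q h2 hQ g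
  · rintro r ⟨w, -, hw, rfl⟩
    exact h w hw

end lists

section structure_thm
variable {F : Type*} [Field F] [Fintype F] [DecidableEq F] {ι : Type} [Fintype ι] [DecidableEq ι]
variable (Q : QuadraticForm F (ι → F))
variable (θ δ : ↥(Cfsg.isometryGroup F ⇑Q) →* ℤˣ)

theorem theta_prodR
    (hθ : ∀ (w : ι → F) (hw : Q w ≠ 0), ((θ (reflG Q w hw) : ℤˣ) : ℤ) = quadraticChar F (Q w))
    (vs : List (ι → F)) (hvs : ∀ v ∈ vs, Q v ≠ 0) :
    ((θ (prodR Q vs) : ℤˣ) : ℤ) = quadraticChar F (vs.map (fun v => Q v)).prod := by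
  induction vs with
  | nil => simp [prodR]
  | cons v vs ih =>
    have hv : Q v ≠ 0 := hvs v (List.mem_cons_self)
    rw [prodR_cons, map_mul, Units.val_mul, ih (fun u hu => hvs u (List.mem_cons_of_mem _ hu)),
      reflG'_of Q v hv, hθ v hv, List.map_cons, List.prod_cons, map_mul]

omit [Fintype F] [DecidableEq F] in
theorem delta_prodR (hδ : ∀ (w : ι → F) (hw : Q w ≠ 0), δ (reflG Q w hw) = -1)
    (vs : List (ι → F)) (hvs : ∀ v ∈ vs, Q v ≠ 0) :
    δ (prodR Q vs) = (-1) ^ vs.length := by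
  induction vs with
  | nil => simp [prodR]
  | cons v vs ih =>
    have hv : Q v ≠ 0 := hvs v (List.mem_cons_self)
    rw [prodR_cons, map_mul, ih (fun u hu => hvs u (List.mem_cons_of_mem _ hu)),
      reflG'_of Q v hv, hδ v hv, List.length_cons, pow_succ, mul_comm]

theorem theta_eq_one
    (hθ : ∀ (w : ι → F) (hw : Q w ≠ 0), ((θ (reflG Q w hw) : ℤˣ) : ℤ) = quadraticChar F (Q w))
    (w : ι → F) (hw : Q w ≠ 0) (hs : IsSquare (Q w)) : θ (reflG Q w hw) = 1 := by
  apply Units.ext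
  rw [hθ w hw, (quadraticChar_one_iff_isSquare hw).mpr hs]
  rfl

theorem theta_eq_neg_one
    (hθ : ∀ (w : ι → F) (hw : Q w ≠ 0), ((θ (reflG Q w hw) : ℤˣ) : ℤ) = quadraticChar F (Q w))
    (w : ι → F) (hw : Q w ≠ 0) (hs : ¬ IsSquare (Q w)) : θ (reflG Q w hw) = -1 := by
  apply Units.ext
  rw [hθ w hw, quadraticChar_neg_one_iff_not_isSquare.mpr hs]
  rfl

theorem hom_formula (h2 : (2 : F) ≠ 0) (hQ : (polarBilin Q).Nondegenerate)
    (hθ : ∀ (w : ι → F) (hw : Q w ≠ 0), ((θ (reflG Q w hw) : ℤˣ) : ℤ) = quadraticChar F (Q w))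
    (hδ : ∀ (w : ι → F) (hw : Q w ≠ 0), δ (reflG Q w hw) = -1)
    {A : Type*} [CommGroup A] (π : ↥(Cfsg.isometryGroup F ⇑Q) →* A)
    (v1 vn : ι → F) (h1 : Q v1 ≠ 0) (hn : Q vn ≠ 0) (hs1 : IsSquare (Q v1))
    (hsn : ¬ IsSquare (Q vn)) :
    π = (involHom (π (reflG Q v1 h1)) (by rw [← map_mul, reflG_mul_self, map_one])).comp (θ * δ) *
      (involHom (π (reflG Q vn hn)) (by rw [← map_mul, reflG_mul_self, map_one])).comp θ := by
  apply hom_ext_reflG Q h2 hQ
  intro w hw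
  rw [MonoidHom.mul_apply, MonoidHom.comp_apply, MonoidHom.comp_apply, MonoidHom.mul_apply,
    hδ w hw]
  by_cases hs : IsSquare (Q w)
  · rw [theta_eq_one Q θ hθ w hw hs, one_mul, involHom_neg_one, involHom_one, mul_one]
    apply hom_reflG_eq_of_char Q π h2
    rw [(quadraticChar_one_iff_isSquare hw).mpr hs, (quadraticChar_one_iff_isSquare h1).mpr hs1]
  · rw [theta_eq_neg_one Q θ hθ w hw hs]
    have : (-1 : ℤˣ) * -1 = 1 := by decide
    rw [this, involHom_neg_one, involHom_one, one_mul]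
    apply hom_reflG_eq_of_char Q π h2
    rw [quadraticChar_neg_one_iff_not_isSquare.mpr hs,
      quadraticChar_neg_one_iff_not_isSquare.mpr hsn]

theorem exists_class_reps (h2 : (2 : F) ≠ 0) (hQ : (polarBilin Q).Nondegenerate)
    (hn : 2 ≤ Fintype.card ι) :
    ∃ v1 vn : ι → F, Q v1 ≠ 0 ∧ Q vn ≠ 0 ∧ IsSquare (Q v1) ∧ ¬ IsSquare (Q vn) := by
  obtain ⟨ν, hν⟩ := FiniteField.exists_nonsquare (ringChar_ne_two_of (F := F) h2)
  have hν0 : ν ≠ 0 := by
    rintro rfl
    exact hν ⟨0, by ring⟩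
  obtain ⟨v1, hv1⟩ := exists_Q_eq Q h2 hQ hn 1 one_ne_zero
  obtain ⟨vn, hvn⟩ := exists_Q_eq Q h2 hQ hn ν hν0
  refine ⟨v1, vn, ?_, ?_, ?_, ?_⟩
  · rw [hv1]; exact one_ne_zero
  · rw [hvn]; exact hν0
  · rw [hv1]; exact ⟨1, by ring⟩
  · rw [hvn]; exact hν

theorem mem_commutator_iff (h2 : (2 : F) ≠ 0) (hQ : (polarBilin Q).Nondegenerate)
    (hn : 2 ≤ Fintype.card ι)
    (hθ : ∀ (w : ι → F) (hw : Q w ≠ 0), ((θ (reflG Q w hw) : ℤˣ) : ℤ) = quadraticChar F (Q w))
    (hδ : ∀ (w : ι → F) (hw : Q w ≠ 0), δ (reflG Q w hw) = -1)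
    (g : ↥(Cfsg.isometryGroup F ⇑Q)) :
    g ∈ commutator ↥(Cfsg.isometryGroup F ⇑Q) ↔ θ g = 1 ∧ δ g = 1 := by
  constructor
  · intro hg
    exact ⟨MonoidHom.mem_ker.mp (Abelianization.commutator_subset_ker θ hg),
      MonoidHom.mem_ker.mp (Abelianization.commutator_subset_ker δ hg)⟩
  · rintro ⟨h1, h3⟩
    obtain ⟨v1, vn, hv1, hvn, hs1, hsn⟩ := exists_class_reps Q h2 hQ hn
    have hf := hom_formula Q θ δ h2 hQ hθ hδ
      (Abelianization.of : ↥(Cfsg.isometryGroup F ⇑Q) →* _) v1 vn hv1 hvn hs1 hsn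
    rw [← Abelianization.ker_of, MonoidHom.mem_ker, hf, MonoidHom.mul_apply,
      MonoidHom.comp_apply, MonoidHom.comp_apply, MonoidHom.mul_apply, h1, h3, one_mul,
      involHom_one, involHom_one, one_mul]

theorem index_ker_of_neg_one {G : Type*} [Group G] (χ : G →* ℤˣ) (g : G) (hg : χ g = -1) :
    χ.ker.index = 2 := by
  rw [Subgroup.index_ker]
  have : χ.range = ⊤ := by
    rw [eq_top_iff]
    intro s _
    rcases Int.units_eq_one_or s with rfl | rfl
    · exact ⟨1, map_one χ⟩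
    · exact ⟨g, hg⟩
  rw [this, Subgroup.card_top, Nat.card_eq_fintype_card, Fintype.card_units_int]

theorem index_commutator (h2 : (2 : F) ≠ 0) (hQ : (polarBilin Q).Nondegenerate)
    (hn : 2 ≤ Fintype.card ι)
    (hθ : ∀ (w : ι → F) (hw : Q w ≠ 0), ((θ (reflG Q w hw) : ℤˣ) : ℤ) = quadraticChar F (Q w))
    (hδ : ∀ (w : ι → F) (hw : Q w ≠ 0), δ (reflG Q w hw) = -1) :
    (commutator ↥(Cfsg.isometryGroup F ⇑Q)).index = 4 := by
  have hker : commutator ↥(Cfsg.isometryGroup F ⇑Q) = (θ.prod δ).ker := by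
    ext g
    rw [mem_commutator_iff Q θ δ h2 hQ hn hθ hδ, MonoidHom.mem_ker, MonoidHom.prod_apply,
      Prod.mk_eq_one]
  rw [hker, Subgroup.index_ker]
  obtain ⟨v1, vn, hv1, hvn, hs1, hsn⟩ := exists_class_reps Q h2 hQ hn
  have : (θ.prod δ).range = ⊤ := by
    rw [eq_top_iff]
    rintro ⟨s, d⟩ -
    have e1 : (θ.prod δ) (reflG Q v1 hv1) = (1, -1) := by
      rw [MonoidHom.prod_apply, theta_eq_one Q θ hθ v1 hv1 hs1, hδ]
    have en : (θ.prod δ) (reflG Q vn hvn) = (-1, -1) := by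
      rw [MonoidHom.prod_apply, theta_eq_neg_one Q θ hθ vn hvn hsn, hδ]
    rcases Int.units_eq_one_or s with rfl | rfl <;> rcases Int.units_eq_one_or d with rfl | rfl
    · exact ⟨1, map_one _⟩
    · exact ⟨_, e1⟩
    · refine ⟨reflG Q v1 hv1 * reflG Q vn hvn, ?_⟩
      rw [map_mul, e1, en]
      rfl
    · exact ⟨_, en⟩
  rw [this, Subgroup.card_top, Nat.card_prod, Nat.card_eq_fintype_card, Fintype.card_units_int]

theorem hom_classification (h2 : (2 : F) ≠ 0) (hQ : (polarBilin Q).Nondegenerate)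
    (hn : 2 ≤ Fintype.card ι)
    (hθ : ∀ (w : ι → F) (hw : Q w ≠ 0), ((θ (reflG Q w hw) : ℤˣ) : ℤ) = quadraticChar F (Q w))
    (hδ : ∀ (w : ι → F) (hw : Q w ≠ 0), δ (reflG Q w hw) = -1)
    (χ : ↥(Cfsg.isometryGroup F ⇑Q) →* ℤˣ) : χ = 1 ∨ χ = θ ∨ χ = δ ∨ χ = θ * δ := by
  obtain ⟨v1, vn, hv1, hvn, hs1, hsn⟩ := exists_class_reps Q h2 hQ hn
  have hsq : ∀ (w : ι → F) (hw : Q w ≠ 0), IsSquare (Q w) →
      χ (reflG Q w hw) = χ (reflG Q v1 hv1) := by
    intro w hw hs
    apply hom_reflG_eq_of_char Q χ h2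
    rw [(quadraticChar_one_iff_isSquare hw).mpr hs, (quadraticChar_one_iff_isSquare hv1).mpr hs1]
  have hnsq : ∀ (w : ι → F) (hw : Q w ≠ 0), ¬ IsSquare (Q w) →
      χ (reflG Q w hw) = χ (reflG Q vn hvn) := by
    intro w hw hs
    apply hom_reflG_eq_of_char Q χ h2
    rw [quadraticChar_neg_one_iff_not_isSquare.mpr hs,
      quadraticChar_neg_one_iff_not_isSquare.mpr hsn]
  have hmm : (-1 : ℤˣ) * -1 = 1 := by decide
  rcases Int.units_eq_one_or (χ (reflG Q v1 hv1)) with ha | ha <;>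
    rcases Int.units_eq_one_or (χ (reflG Q vn hvn)) with hb | hb
  · left
    apply hom_ext_reflG Q h2 hQ
    intro w hw
    by_cases hs : IsSquare (Q w)
    · rw [hsq w hw hs, ha, MonoidHom.one_apply]
    · rw [hnsq w hw hs, hb, MonoidHom.one_apply]
  · right; left
    apply hom_ext_reflG Q h2 hQ
    intro w hw
    by_cases hs : IsSquare (Q w)
    · rw [hsq w hw hs, ha, theta_eq_one Q θ hθ w hw hs]
    · rw [hnsq w hw hs, hb, theta_eq_neg_one Q θ hθ w hw hs]
  · right; right; right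
    apply hom_ext_reflG Q h2 hQ
    intro w hw
    by_cases hs : IsSquare (Q w)
    · rw [hsq w hw hs, ha, MonoidHom.mul_apply, theta_eq_one Q θ hθ w hw hs, hδ, one_mul]
    · rw [hnsq w hw hs, hb, MonoidHom.mul_apply, theta_eq_neg_one Q θ hθ w hw hs, hδ, hmm]
  · right; right; left
    apply hom_ext_reflG Q h2 hQ
    intro w hw
    by_cases hs : IsSquare (Q w)
    · rw [hsq w hw hs, ha, hδ]
    · rw [hnsq w hw hs, hb, hδ]

end structure_thm

end Cfsg.Agent.helper13
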