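import Mathlib
import Cfsg.Agent.Lib_helper13_C2D
import Cfsg.Agent.Lib_helper13_ClassChar
import Cfsg.Agent.Lib_helper13_ReflG

set_option autoImplicit false

namespace Cfsg.Agent.helper13

open Matrix QuadraticMap Module

section dbl
variable {F : Type*} [Field F] {ι : Type} [Fintype ι] [DecidableEq ι]
variable (Q : QuadraticForm F (ι → F))

/-- the doubled form `Q ⊥ Q`. -/
noncomputable def QD : QuadraticForm F (ι ⊕ ι → F) :=
  Q.comp (LinearMap.funLeft F F (Sum.inl : ι → ι ⊕ ι)) +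
    Q.comp (LinearMap.funLeft F F (Sum.inr : ι → ι ⊕ ι))

theorem QD_apply (x : ι ⊕ ι → F) : QD Q x = Q (x ∘ Sum.inl) + Q (x ∘ Sum.inr) := by
  simp only [QD, QuadraticMap.add_apply, QuadraticMap.comp_apply]
  rfl

theorem QD_elim (y z : ι → F) : QD Q (Sum.elim y z) = Q y + Q z := by
  rw [QD_apply, Sum.elim_comp_inl, Sum.elim_comp_inr]

theorem QD_polar (x z : ι ⊕ ι → F) :
    polar (⇑(QD Q)) x z = polar (⇑Q) (x ∘ Sum.inl) (z ∘ Sum.inl) +
      polar (⇑Q) (x ∘ Sum.inr) (z ∘ Sum.inr) := by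
  unfold polar
  rw [QD_apply, QD_apply, QD_apply]
  have h1 : (x + z) ∘ Sum.inl = x ∘ Sum.inl + z ∘ (Sum.inl : ι → ι ⊕ ι) := rfl
  have h2 : (x + z) ∘ Sum.inr = x ∘ Sum.inr + z ∘ (Sum.inr : ι → ι ⊕ ι) := rfl
  rw [h1, h2]
  ring

theorem QD_nondeg (hQ : (polarBilin Q).Nondegenerate) : (polarBilin (QD Q)).Nondegenerate := by
  have hleft : (polarBilin (QD Q)).SeparatingLeft := by
    intro u hu
    have h1 : u ∘ Sum.inl = 0 := by
      apply hQ.1
      intro c
      have := hu (Sum.elim c 0)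
      rw [polarBilin_apply_apply, QD_polar, Sum.elim_comp_inl, Sum.elim_comp_inr,
        polar_zero_right, add_zero] at this
      exact this
    have h2 : u ∘ Sum.inr = 0 := by
      apply hQ.1
      intro c
      have := hu (Sum.elim 0 c)
      rw [polarBilin_apply_apply, QD_polar, Sum.elim_comp_inl, Sum.elim_comp_inr,
        polar_zero_right, zero_add] at this
      exact this
    funext k
    rcases k with k | k
    · exact congrFun h1 k
    · exact congrFun h2 k
  refine ⟨hleft, ?_⟩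
  intro v hv
  apply hleft v
  intro u
  have := hv u
  rw [polarBilin_apply_apply] at this ⊢
  rw [polar_comm]
  exact this

/-- block embedding of the isometry group into that of the doubled form. -/
def embD (g : ↥(Cfsg.isometryGroup F ⇑Q)) : ↥(Cfsg.isometryGroup F ⇑(QD Q)) :=
  ⟨⟨fromBlocks ((g : Matrix.GeneralLinearGroup ι F) : Matrix ι ι F) 0 0 1,
    fromBlocks (((g : Matrix.GeneralLinearGroup ι F)⁻¹ : Matrix.GeneralLinearGroup ι F) :
      Matrix ι ι F) 0 0 1,
    by simp [fromBlocks_multiply, fromBlocks_one],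
    by simp [fromBlocks_multiply, fromBlocks_one]⟩, by
    intro x _
    show QD Q (fromBlocks ((g : Matrix.GeneralLinearGroup ι F) : Matrix ι ι F) 0 0 1 *ᵥ x) =
      QD Q x
    rw [fromBlocks_mulVec]
    simp only [Matrix.zero_mulVec, add_zero, zero_add, Matrix.one_mulVec]
    rw [QD_elim, QD_apply]
    have h : Q (((g : Matrix.GeneralLinearGroup ι F) : Matrix ι ι F) *ᵥ (x ∘ Sum.inl)) =
        Q (x ∘ Sum.inl) := g.2 (x ∘ Sum.inl) (x ∘ Sum.inl)
    rw [h]⟩

theorem iact_embD (g : ↥(Cfsg.isometryGroup F ⇑Q)) (x : ι ⊕ ι → F) :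
    iact (embD Q g) x = Sum.elim (iact g (x ∘ Sum.inl)) (x ∘ Sum.inr) := by
  show fromBlocks ((g : Matrix.GeneralLinearGroup ι F) : Matrix ι ι F) 0 0 1 *ᵥ x = _
  rw [fromBlocks_mulVec]
  simp only [Matrix.zero_mulVec, add_zero, zero_add, Matrix.one_mulVec]
  rfl

/-- the block embedding as a homomorphism. -/
def embDHom : ↥(Cfsg.isometryGroup F ⇑Q) →* ↥(Cfsg.isometryGroup F ⇑(QD Q)) where
  toFun := embD Q
  map_one' := by
    apply iact_ext
    intro x
    rw [iact_embD, iact_one, iact_one]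
    funext k
    rcases k with k | k <;> rfl
  map_mul' g h := by
    apply iact_ext
    intro x
    rw [iact_mul, iact_embD, iact_embD, iact_embD, iact_mul, Sum.elim_comp_inl,
      Sum.elim_comp_inr]

theorem embD_reflG (w : ι → F) (hw : Q w ≠ 0) (hw' : QD Q (Sum.elim w 0) ≠ 0) :
    embD Q (reflG Q w hw) = reflG (QD Q) (Sum.elim w 0) hw' := by
  apply iact_ext
  intro x
  rw [iact_embD, iact_reflG, iact_reflG, QD_polar, QD_elim, Sum.elim_comp_inl,
    Sum.elim_comp_inr, polar_zero_left, add_zero, QuadraticMap.map_zero, add_zero]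
  funext k
  rcases k with k | k
  · simp
  · simp

/-- the diagonal subspace. -/
def diagS (F : Type*) [Field F] (ι : Type) : Submodule F (ι ⊕ ι → F) :=
  LinearMap.range (LinearMap.pi (fun k : ι ⊕ ι => LinearMap.proj (Sum.elim id id k)) :
    (ι → F) →ₗ[F] (ι ⊕ ι → F))

theorem mem_diagS (x : ι ⊕ ι → F) : x ∈ diagS F ι ↔ ∃ v : ι → F, Sum.elim v v = x := by
  unfold diagS
  rw [LinearMap.mem_range]
  constructor
  · rintro ⟨v, rfl⟩
    refine ⟨v, ?_⟩
    funext k
    rcases k with k | k <;> rfl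
  · rintro ⟨v, rfl⟩
    refine ⟨v, ?_⟩
    funext k
    rcases k with k | k <;> rfl

theorem finrank_diagS : finrank F ↥(diagS F ι) = Fintype.card ι := by
  unfold diagS
  rw [LinearMap.finrank_range_of_inj, Module.finrank_fintype_fun_eq_card]
  intro v w hvw
  funext k
  exact congrFun hvw (Sum.inl k)

theorem finrank_dbl : finrank F (ι ⊕ ι → F) = 2 * Fintype.card ι := by
  rw [Module.finrank_fintype_fun_eq_card, Fintype.card_sum, two_mul]

theorem diagS_mts (h2 : (2 : F) = 0) : MTS (QD Q) (Fintype.card ι) (diagS F ι) := by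
  constructor
  · intro x hx
    obtain ⟨v, rfl⟩ := (mem_diagS x).mp hx
    rw [QD_elim, ← two_mul, h2, zero_mul]
  · exact finrank_diagS

/-- the Dickson character in characteristic two. -/
noncomputable def dickson (h2 : (2 : F) = 0) (hQ : (polarBilin Q).Nondegenerate) :
    ↥(Cfsg.isometryGroup F ⇑Q) →* ℤˣ :=
  (clsChar (QD Q) (QD_nondeg Q hQ) finrank_dbl (diagS F ι) (diagS_mts Q h2)).comp (embDHom Q)

theorem dickson_reflG (h2 : (2 : F) = 0) (hQ : (polarBilin Q).Nondegenerate)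
    (w : ι → F) (hw : Q w ≠ 0) : dickson Q h2 hQ (reflG Q w hw) = -1 := by
  have hw' : QD Q (Sum.elim w 0) ≠ 0 := by
    rw [QD_elim, QuadraticMap.map_zero, add_zero]
    exact hw
  unfold dickson
  rw [MonoidHom.comp_apply]
  have : embDHom Q (reflG Q w hw) = reflG (QD Q) (Sum.elim w 0) hw' := embD_reflG Q w hw hw'
  rw [this, clsChar_reflG]

end dbl

section two
variable {F : Type*} [Field F] [Fintype F] {ι : Type} [Fintype ι] [DecidableEq ι]
variable (Q : QuadraticForm F (ι → F))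

theorem exists_list_two (h2 : (2 : F) = 0) (hQ : (polarBilin Q).Nondegenerate)
    (hne : Fintype.card F ≠ 2 ∨ Fintype.card ι ≠ 4)
    (g : ↥(Cfsg.isometryGroup F ⇑Q)) :
    ∃ vs : List (ι → F), (∀ v ∈ vs, Q v ≠ 0) ∧ g = prodR Q vs := by
  have hg := cd2 Q h2 hQ hne g
  unfold RU at hg
  induction hg using Subgroup.closure_induction with
  | mem r hr =>
    obtain ⟨w, -, hw, rfl⟩ := hr
    refine ⟨[w], ?_, ?_⟩
    · intro v hv
      rw [List.mem_singleton] at hv
      rw [hv]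
      exact hw
    · rw [prodR_cons, prodR_nil, mul_one, reflG'_of Q w hw]
  | one => exact ⟨[], fun v hv => absurd hv (List.not_mem_nil), rfl⟩
  | mul a b _ _ ha hb =>
    obtain ⟨va, hva, rfl⟩ := ha
    obtain ⟨vb, hvb, rfl⟩ := hb
    refine ⟨va ++ vb, ?_, (prodR_append Q va vb).symm⟩
    intro v hv
    rcases List.mem_append.mp hv with h | h
    · exact hva v h
    · exact hvb v h
  | inv a _ ha =>
    obtain ⟨va, hva, rfl⟩ := ha
    refine ⟨va.reverse, ?_, (prodR_reverse Q va).symm⟩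
    intro v hv
    exact hva v (List.mem_reverse.mp hv)

theorem hom_ext_reflG_two (h2 : (2 : F) = 0) (hQ : (polarBilin Q).Nondegenerate)
    (hne : Fintype.card F ≠ 2 ∨ Fintype.card ι ≠ 4)
    {A : Type*} [Monoid A] (φ ψ : ↥(Cfsg.isometryGroup F ⇑Q) →* A)
    (h : ∀ (w : ι → F) (hw : Q w ≠ 0), φ (reflG Q w hw) = ψ (reflG Q w hw)) : φ = ψ := by
  apply MonoidHom.eq_of_eqOn_dense
    (s := {r | ∃ w ∈ (⊤ : Submodule F (ι → F)), ∃ hw : Q w ≠ 0, r = reflG Q w hw})
  · rw [eq_top_iff]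
    intro g _
    exact cd2 Q h2 hQ hne g
  · rintro r ⟨w, -, hw, rfl⟩
    exact h w hw

/-- any hom to a commutative group factors through a character that is `-1` on reflections. -/
theorem hom_formula_two (h2 : (2 : F) = 0) (hQ : (polarBilin Q).Nondegenerate)
    (hne : Fintype.card F ≠ 2 ∨ Fintype.card ι ≠ 4)
    (δ : ↥(Cfsg.isometryGroup F ⇑Q) →* ℤˣ)
    (hδ : ∀ (w : ι → F) (hw : Q w ≠ 0), δ (reflG Q w hw) = -1)
    {A : Type*} [CommGroup A] (π : ↥(Cfsg.isometryGroup F ⇑Q) →* A)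
    (v1 : ι → F) (h1 : Q v1 ≠ 0) :
    π = (involHom (π (reflG Q v1 h1)) (by rw [← map_mul, reflG_mul_self, map_one])).comp δ := by
  apply hom_ext_reflG_two Q h2 hQ hne
  intro w hw
  rw [MonoidHom.comp_apply, hδ w hw, involHom_neg_one]
  exact hom_reflG_eq_two Q h2 hQ hne π w v1 hw h1

theorem exists_nonsing_top (hQ : (polarBilin Q).Nondegenerate) (hn : 1 ≤ Fintype.card ι) :
    ∃ v : ι → F, Q v ≠ 0 := by
  by_contra hcon
  push_neg at hcon
  have hι : Nonempty ι := Fintype.card_pos_iff.mp hn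
  obtain ⟨i⟩ := hι
  have : (Pi.single i (1 : F) : ι → F) = 0 := by
    apply hQ.1
    intro y
    rw [polarBilin_apply_apply]
    unfold polar
    rw [hcon, hcon, hcon]
    ring
  have h1 := congrFun this i
  rw [Pi.single_eq_same, Pi.zero_apply] at h1
  exact one_ne_zero h1

theorem mem_commutator_iff_two (h2 : (2 : F) = 0) (hQ : (polarBilin Q).Nondegenerate)
    (hne : Fintype.card F ≠ 2 ∨ Fintype.card ι ≠ 4) (hn : 1 ≤ Fintype.card ι)
    (δ : ↥(Cfsg.isometryGroup F ⇑Q) →* ℤˣ)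
    (hδ : ∀ (w : ι → F) (hw : Q w ≠ 0), δ (reflG Q w hw) = -1)
    (g : ↥(Cfsg.isometryGroup F ⇑Q)) :
    g ∈ commutator ↥(Cfsg.isometryGroup F ⇑Q) ↔ δ g = 1 := by
  constructor
  · intro hg
    exact MonoidHom.mem_ker.mp (Abelianization.commutator_subset_ker δ hg)
  · intro h1
    obtain ⟨v1, hv1⟩ := exists_nonsing_top Q hQ hn
    have hf := hom_formula_two Q h2 hQ hne δ hδ
      (Abelianization.of : ↥(Cfsg.isometryGroup F ⇑Q) →* _) v1 hv1
    rw [← Abelianization.ker_of, MonoidHom.mem_ker, hf, MonoidHom.comp_apply, h1, involHom_one]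

theorem commutator_eq_ker_two (h2 : (2 : F) = 0) (hQ : (polarBilin Q).Nondegenerate)
    (hne : Fintype.card F ≠ 2 ∨ Fintype.card ι ≠ 4) (hn : 1 ≤ Fintype.card ι)
    (δ : ↥(Cfsg.isometryGroup F ⇑Q) →* ℤˣ)
    (hδ : ∀ (w : ι → F) (hw : Q w ≠ 0), δ (reflG Q w hw) = -1) :
    commutator ↥(Cfsg.isometryGroup F ⇑Q) = δ.ker := by
  ext g
  rw [mem_commutator_iff_two Q h2 hQ hne hn δ hδ, MonoidHom.mem_ker]

theorem index_commutator_two (h2 : (2 : F) = 0) (hQ : (polarBilin Q).Nondegenerate)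
    (hne : Fintype.card F ≠ 2 ∨ Fintype.card ι ≠ 4) (hn : 1 ≤ Fintype.card ι) :
    (commutator ↥(Cfsg.isometryGroup F ⇑Q)).index = 2 := by
  obtain ⟨v1, hv1⟩ := exists_nonsing_top Q hQ hn
  rw [commutator_eq_ker_two Q h2 hQ hne hn (dickson Q h2 hQ) (dickson_reflG Q h2 hQ)]
  exact index_ker_of_neg_one _ (reflG Q v1 hv1) (dickson_reflG Q h2 hQ v1 hv1)

/-- a character that is `-1` on all reflections is the Dickson character. -/
theorem eq_dickson (h2 : (2 : F) = 0) (hQ : (polarBilin Q).Nondegenerate)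
    (hne : Fintype.card F ≠ 2 ∨ Fintype.card ι ≠ 4)
    (δ : ↥(Cfsg.isometryGroup F ⇑Q) →* ℤˣ)
    (hδ : ∀ (w : ι → F) (hw : Q w ≠ 0), δ (reflG Q w hw) = -1) : δ = dickson Q h2 hQ := by
  apply hom_ext_reflG_two Q h2 hQ hne
  intro w hw
  rw [hδ w hw, dickson_reflG]

end two

end Cfsg.Agent.helper13
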