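import Mathlib
import Cfsg.Agent.Lib_helper13_C2E

set_option autoImplicit false

namespace Cfsg.Agent.helper13

open Matrix QuadraticMap Module

section dicksonrank
variable {F : Type*} [Field F] {ι : Type} [Fintype ι] [DecidableEq ι]
variable (Q : QuadraticForm F (ι → F))

/-- the diagonal map. -/
def diagMap (F : Type*) [Field F] (ι : Type) : (ι → F) →ₗ[F] (ι ⊕ ι → F) :=
  LinearMap.pi (fun k : ι ⊕ ι => LinearMap.proj (Sum.elim id id k))

omit [Fintype ι] [DecidableEq ι] in
theorem diagMap_apply (v : ι → F) : diagMap F ι v = Sum.elim v v := by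
  funext k
  rcases k with k | k <;> rfl

omit [Fintype ι] [DecidableEq ι] in
theorem diagS_eq : diagS F ι = LinearMap.range (diagMap F ι) := rfl

omit [Fintype ι] [DecidableEq ι] in
theorem diagMap_injective : Function.Injective (diagMap F ι) := by
  intro v w hvw
  funext k
  have := congrFun hvw (Sum.inl k)
  rw [diagMap_apply, diagMap_apply] at this
  exact this

theorem mem_ker_sub_one (g : ↥(Cfsg.isometryGroup F ⇑Q)) (v : ι → F) :
    v ∈ LinearMap.ker (Matrix.mulVecLin
      (((g : Matrix.GeneralLinearGroup ι F) : Matrix ι ι F) - 1)) ↔ iact g v = v := by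
  rw [LinearMap.mem_ker, Matrix.mulVecLin_apply, Matrix.sub_mulVec, Matrix.one_mulVec, sub_eq_zero]
  rfl

theorem inf_gmap_diag (g : ↥(Cfsg.isometryGroup F ⇑Q)) :
    diagS F ι ⊓ gmap (embD Q g) (diagS F ι) =
      (LinearMap.ker (Matrix.mulVecLin
        (((g : Matrix.GeneralLinearGroup ι F) : Matrix ι ι F) - 1))).map (diagMap F ι) := by
  ext x
  rw [Submodule.mem_inf, Submodule.mem_map]
  constructor
  · rintro ⟨hx1, hx2⟩
    obtain ⟨v, rfl⟩ := (mem_diagS x).mp hx1
    obtain ⟨u, hu, hux⟩ := (mem_gmap _ _ _).mp hx2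
    obtain ⟨w, rfl⟩ := (mem_diagS u).mp hu
    rw [iact_embD, Sum.elim_comp_inl, Sum.elim_comp_inr] at hux
    have h1 : w = v := by
      funext k
      exact congrFun hux (Sum.inr k)
    have h2 : iact g w = v := by
      funext k
      exact congrFun hux (Sum.inl k)
    rw [h1] at h2
    exact ⟨v, (mem_ker_sub_one Q g v).mpr h2, diagMap_apply v⟩
  · rintro ⟨v, hv, rfl⟩
    have h2 := (mem_ker_sub_one Q g v).mp hv
    rw [diagMap_apply]
    refine ⟨(mem_diagS _).mpr ⟨v, rfl⟩, (mem_gmap _ _ _).mpr ⟨Sum.elim v v,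
      (mem_diagS _).mpr ⟨v, rfl⟩, ?_⟩⟩
    rw [iact_embD, Sum.elim_comp_inl, Sum.elim_comp_inr, h2]

/-- the Dickson character is the parity of the rank of `g - 1`. -/
theorem dickson_eq_rank (h2 : (2 : F) = 0) (hQ : (polarBilin Q).Nondegenerate)
    (g : ↥(Cfsg.isometryGroup F ⇑Q)) :
    dickson Q h2 hQ g =
      (-1) ^ (((g : Matrix.GeneralLinearGroup ι F) : Matrix ι ι F) - 1).rank := by
  unfold dickson
  rw [MonoidHom.comp_apply, clsChar_apply]
  have e : embDHom Q g = embD Q g := rfl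
  rw [e, inf_gmap_diag]
  have h1 : finrank F ↥((LinearMap.ker (Matrix.mulVecLin
      (((g : Matrix.GeneralLinearGroup ι F) : Matrix ι ι F) - 1))).map (diagMap F ι)) =
      finrank F ↥(LinearMap.ker (Matrix.mulVecLin
      (((g : Matrix.GeneralLinearGroup ι F) : Matrix ι ι F) - 1))) :=
    (LinearEquiv.finrank_eq (Submodule.equivMapOfInjective _ diagMap_injective _)).symm
  have h3 := LinearMap.finrank_range_add_finrank_ker (Matrix.mulVecLin
      (((g : Matrix.GeneralLinearGroup ι F) : Matrix ι ι F) - 1))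
  rw [Module.finrank_fintype_fun_eq_card] at h3
  have h4 : (((g : Matrix.GeneralLinearGroup ι F) : Matrix ι ι F) - 1).rank =
      finrank F ↥(LinearMap.range (Matrix.mulVecLin
      (((g : Matrix.GeneralLinearGroup ι F) : Matrix ι ι F) - 1))) := rfl
  rw [h1, h4]
  congr 1
  omega

end dicksonrank

section dicksonrank2
variable {F : Type*} [Field F] [Fintype F] {ι : Type} [Fintype ι] [DecidableEq ι]
variable (Q : QuadraticForm F (ι → F))

theorem mem_commutator_iff_even_rank (h2 : (2 : F) = 0) (hQ : (polarBilin Q).Nondegenerate)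
    (hne : Fintype.card F ≠ 2 ∨ Fintype.card ι ≠ 4) (hn : 1 ≤ Fintype.card ι)
    (g : ↥(Cfsg.isometryGroup F ⇑Q)) :
    g ∈ commutator ↥(Cfsg.isometryGroup F ⇑Q) ↔
      Even (((g : Matrix.GeneralLinearGroup ι F) : Matrix ι ι F) - 1).rank := by
  rw [mem_commutator_iff_two Q h2 hQ hne hn (dickson Q h2 hQ) (dickson_reflG Q h2 hQ) g,
    dickson_eq_rank, neg_one_pow_eq_one_iff_even int_units_neg_one_ne_one]

end dicksonrank2

end Cfsg.Agent.helper13
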