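import Mathlib
import Cfsg.Agent.Lib_helper13_C2E

set_option autoImplicit false

namespace Cfsg.Agent.helper13

open Matrix QuadraticMap Module

section uni
variable {F : Type*} [Field F] [Fintype F] [DecidableEq F] {ι : Type} [Fintype ι] [DecidableEq ι]
variable (Q : QuadraticForm F (ι → F))

/-- a spinor-norm-like character. -/
def IsTheta (θ : ↥(Cfsg.isometryGroup F ⇑Q) →* ℤˣ) : Prop :=
  ∀ (w : ι → F) (hw : Q w ≠ 0), ((θ (reflG Q w hw) : ℤˣ) : ℤ) = quadraticChar F (Q w)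

/-- a determinant-like (or Dickson-like) character. -/
def IsDelta (δ : ↥(Cfsg.isometryGroup F ⇑Q) →* ℤˣ) : Prop :=
  ∀ (w : ι → F) (hw : Q w ≠ 0), δ (reflG Q w hw) = -1

omit [Fintype ι] [DecidableEq ι] in
theorem quadraticChar_of_two (h2 : (2 : F) = 0) {a : F} (ha : a ≠ 0) :
    quadraticChar F a = 1 := by
  have hch : ringChar F = 2 := CharP.ringChar_of_prime_eq_zero Nat.prime_two h2
  exact (quadraticChar_one_iff_isSquare ha).mpr (FiniteField.isSquare_of_char_two hch a)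

theorem exists_theta_delta (hQ : (polarBilin Q).Nondegenerate) :
    ∃ θ δ : ↥(Cfsg.isometryGroup F ⇑Q) →* ℤˣ, IsTheta Q θ ∧ IsDelta Q δ := by
  by_cases h2 : (2 : F) = 0
  · refine ⟨1, dickson Q h2 hQ, ?_, dickson_reflG Q h2 hQ⟩
    intro w hw
    rw [quadraticChar_of_two h2 hw]
    rfl
  · obtain ⟨θ, hθ⟩ := exists_spinor Q h2 hQ
    obtain ⟨δ, hδ, -⟩ := exists_detSign Q h2 hQ
    exact ⟨θ, δ, hθ, hδ⟩

omit [DecidableEq F] in
theorem hom_ext_all (hQ : (polarBilin Q).Nondegenerate)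
    (hne : Fintype.card F ≠ 2 ∨ Fintype.card ι ≠ 4)
    {A : Type*} [Monoid A] (φ ψ : ↥(Cfsg.isometryGroup F ⇑Q) →* A)
    (h : ∀ (w : ι → F) (hw : Q w ≠ 0), φ (reflG Q w hw) = ψ (reflG Q w hw)) : φ = ψ := by
  by_cases h2 : (2 : F) = 0
  · exact hom_ext_reflG_two Q h2 hQ hne φ ψ h
  · exact hom_ext_reflG Q h2 hQ φ ψ h

omit [Fintype F] [DecidableEq F] in
theorem eq_one_of_det_of_card_le_one (hn : Fintype.card ι ≤ 1)
    (g : ↥(Cfsg.isometryGroup F ⇑Q))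
    (hdet : ((g : Matrix.GeneralLinearGroup ι F) : Matrix ι ι F).det = 1) : g = 1 := by
  have hss : Subsingleton ι := Fintype.card_le_one_iff_subsingleton.mp hn
  apply Subtype.ext
  apply Units.ext
  ext i j
  have hij : i = j := Subsingleton.elim i j
  subst hij
  have h1 := Matrix.det_eq_elem_of_subsingleton
    (((g : Matrix.GeneralLinearGroup ι F) : Matrix ι ι F)) i
  rw [hdet] at h1
  rw [← h1]
  simp

theorem mem_commutator_iff_all (hQ : (polarBilin Q).Nondegenerate)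
    (hne : Fintype.card F ≠ 2 ∨ Fintype.card ι ≠ 4)
    (θ δ : ↥(Cfsg.isometryGroup F ⇑Q) →* ℤˣ) (hθ : IsTheta Q θ) (hδ : IsDelta Q δ)
    (g : ↥(Cfsg.isometryGroup F ⇑Q)) :
    g ∈ commutator ↥(Cfsg.isometryGroup F ⇑Q) ↔ θ g = 1 ∧ δ g = 1 := by
  constructor
  · intro hg
    exact ⟨MonoidHom.mem_ker.mp (Abelianization.commutator_subset_ker θ hg),
      MonoidHom.mem_ker.mp (Abelianization.commutator_subset_ker δ hg)⟩
  · rintro ⟨h1, h3⟩
    by_cases h2 : (2 : F) = 0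
    · by_cases hn : 1 ≤ Fintype.card ι
      · exact (mem_commutator_iff_two Q h2 hQ hne hn δ hδ g).mpr h3
      · have : g = 1 := by
          apply eq_one_of_det_of_card_le_one Q (by omega) g
          have hι : IsEmpty ι := Fintype.card_eq_zero_iff.mp (by omega)
          exact Matrix.det_isEmpty
        rw [this]
        exact Subgroup.one_mem _
    · by_cases hn : 2 ≤ Fintype.card ι
      · exact (mem_commutator_iff Q θ δ h2 hQ hn hθ hδ g).mpr ⟨h1, h3⟩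
      · obtain ⟨δ', hδ', hdet⟩ := exists_detSign Q h2 hQ
        have hδδ : δ = δ' := by
          apply hom_ext_reflG Q h2 hQ
          intro w hw
          rw [hδ w hw, hδ' w hw]
        have : g = 1 := by
          apply eq_one_of_det_of_card_le_one Q (by omega) g
          rw [← hdet g, ← hδδ]
          exact h3
        rw [this]
        exact Subgroup.one_mem _

end uni

section osum
variable {F : Type*} [Field F] {ι κ : Type} [Fintype ι] [DecidableEq ι] [Fintype κ]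
  [DecidableEq κ]
variable (Q₁ : QuadraticForm F (ι → F)) (Q₂ : QuadraticForm F (κ → F))

/-- the orthogonal sum `Q₁ ⊥ Q₂`. -/
noncomputable def QS : QuadraticForm F (ι ⊕ κ → F) :=
  Q₁.comp (LinearMap.funLeft F F (Sum.inl : ι → ι ⊕ κ)) +
    Q₂.comp (LinearMap.funLeft F F (Sum.inr : κ → ι ⊕ κ))

theorem QS_coe : ⇑(QS Q₁ Q₂) = fun v : ι ⊕ κ → F => Q₁ (v ∘ Sum.inl) + Q₂ (v ∘ Sum.inr) := rfl

theorem QS_apply (x : ι ⊕ κ → F) : QS Q₁ Q₂ x = Q₁ (x ∘ Sum.inl) + Q₂ (x ∘ Sum.inr) := rfl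

theorem QS_elim (y : ι → F) (z : κ → F) : QS Q₁ Q₂ (Sum.elim y z) = Q₁ y + Q₂ z := by
  rw [QS_apply, Sum.elim_comp_inl, Sum.elim_comp_inr]

theorem QS_polar (x z : ι ⊕ κ → F) :
    polar (⇑(QS Q₁ Q₂)) x z = polar (⇑Q₁) (x ∘ Sum.inl) (z ∘ Sum.inl) +
      polar (⇑Q₂) (x ∘ Sum.inr) (z ∘ Sum.inr) := by
  unfold polar
  rw [QS_apply, QS_apply, QS_apply]
  have h1 : (x + z) ∘ Sum.inl = x ∘ Sum.inl + z ∘ (Sum.inl : ι → ι ⊕ κ) := rfl
  have h2 : (x + z) ∘ Sum.inr = x ∘ Sum.inr + z ∘ (Sum.inr : κ → ι ⊕ κ) := rfl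
  rw [h1, h2]
  ring

theorem QS_nondeg (h₁ : (polarBilin Q₁).Nondegenerate) (h₂ : (polarBilin Q₂).Nondegenerate) :
    (polarBilin (QS Q₁ Q₂)).Nondegenerate := by
  have hleft : (polarBilin (QS Q₁ Q₂)).SeparatingLeft := by
    intro u hu
    have e1 : u ∘ Sum.inl = 0 := by
      apply h₁.1
      intro c
      have := hu (Sum.elim c 0)
      rw [polarBilin_apply_apply, QS_polar, Sum.elim_comp_inl, Sum.elim_comp_inr,
        polar_zero_right, add_zero] at this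
      exact this
    have e2 : u ∘ Sum.inr = 0 := by
      apply h₂.1
      intro c
      have := hu (Sum.elim 0 c)
      rw [polarBilin_apply_apply, QS_polar, Sum.elim_comp_inl, Sum.elim_comp_inr,
        polar_zero_right, zero_add] at this
      exact this
    funext k
    rcases k with k | k
    · exact congrFun e1 k
    · exact congrFun e2 k
  refine ⟨hleft, ?_⟩
  intro v hv
  apply hleft v
  intro u
  have := hv u
  rw [polarBilin_apply_apply] at this ⊢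
  rw [polar_comm]
  exact this

/-- block embedding of the isometry group of the first summand. -/
def embL0 (g : ↥(Cfsg.isometryGroup F ⇑Q₁)) : ↥(Cfsg.isometryGroup F ⇑(QS Q₁ Q₂)) :=
  ⟨⟨fromBlocks ((g : Matrix.GeneralLinearGroup ι F) : Matrix ι ι F) 0 0 1,
    fromBlocks (((g : Matrix.GeneralLinearGroup ι F)⁻¹ : Matrix.GeneralLinearGroup ι F) :
      Matrix ι ι F) 0 0 1,
    by simp [fromBlocks_multiply, fromBlocks_one],
    by simp [fromBlocks_multiply, fromBlocks_one]⟩, by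
    intro x _
    show QS Q₁ Q₂ (fromBlocks ((g : Matrix.GeneralLinearGroup ι F) : Matrix ι ι F) 0 0 1 *ᵥ x) =
      QS Q₁ Q₂ x
    rw [fromBlocks_mulVec]
    simp only [Matrix.zero_mulVec, add_zero, zero_add, Matrix.one_mulVec]
    rw [QS_elim, QS_apply]
    have h : Q₁ (((g : Matrix.GeneralLinearGroup ι F) : Matrix ι ι F) *ᵥ (x ∘ Sum.inl)) =
        Q₁ (x ∘ Sum.inl) := g.2 (x ∘ Sum.inl) (x ∘ Sum.inl)
    rw [h]⟩

theorem iact_embL0 (g : ↥(Cfsg.isometryGroup F ⇑Q₁)) (x : ι ⊕ κ → F) :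
    iact (embL0 Q₁ Q₂ g) x = Sum.elim (iact g (x ∘ Sum.inl)) (x ∘ Sum.inr) := by
  show fromBlocks ((g : Matrix.GeneralLinearGroup ι F) : Matrix ι ι F) 0 0 1 *ᵥ x = _
  rw [fromBlocks_mulVec]
  simp only [Matrix.zero_mulVec, add_zero, zero_add, Matrix.one_mulVec]
  rfl

/-- the block embedding of the first summand as a homomorphism. -/
def embL : ↥(Cfsg.isometryGroup F ⇑Q₁) →* ↥(Cfsg.isometryGroup F ⇑(QS Q₁ Q₂)) where
  toFun := embL0 Q₁ Q₂
  map_one' := by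
    apply iact_ext
    intro x
    rw [iact_embL0, iact_one, iact_one]
    funext k
    rcases k with k | k <;> rfl
  map_mul' g h := by
    apply iact_ext
    intro x
    rw [iact_mul, iact_embL0, iact_embL0, iact_embL0, iact_mul, Sum.elim_comp_inl,
      Sum.elim_comp_inr]

theorem coe_embL (g : ↥(Cfsg.isometryGroup F ⇑Q₁)) :
    ((embL Q₁ Q₂ g : Matrix.GeneralLinearGroup (ι ⊕ κ) F) : Matrix (ι ⊕ κ) (ι ⊕ κ) F) =
      fromBlocks ((g : Matrix.GeneralLinearGroup ι F) : Matrix ι ι F) 0 0 1 := rfl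

theorem iact_embL (g : ↥(Cfsg.isometryGroup F ⇑Q₁)) (x : ι ⊕ κ → F) :
    iact (embL Q₁ Q₂ g) x = Sum.elim (iact g (x ∘ Sum.inl)) (x ∘ Sum.inr) :=
  iact_embL0 Q₁ Q₂ g x

theorem embL_reflG (w : ι → F) (hw : Q₁ w ≠ 0) (hw' : QS Q₁ Q₂ (Sum.elim w 0) ≠ 0) :
    embL Q₁ Q₂ (reflG Q₁ w hw) = reflG (QS Q₁ Q₂) (Sum.elim w 0) hw' := by
  apply iact_ext
  intro x
  rw [iact_embL, iact_reflG, iact_reflG, QS_polar, QS_elim, Sum.elim_comp_inl,
    Sum.elim_comp_inr, polar_zero_left, add_zero, QuadraticMap.map_zero, add_zero]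
  funext k
  rcases k with k | k
  · simp
  · simp

/-- block embedding of the isometry group of the second summand. -/
def embR0 (g : ↥(Cfsg.isometryGroup F ⇑Q₂)) : ↥(Cfsg.isometryGroup F ⇑(QS Q₁ Q₂)) :=
  ⟨⟨fromBlocks 1 0 0 ((g : Matrix.GeneralLinearGroup κ F) : Matrix κ κ F),
    fromBlocks 1 0 0 (((g : Matrix.GeneralLinearGroup κ F)⁻¹ : Matrix.GeneralLinearGroup κ F) :
      Matrix κ κ F),
    by simp [fromBlocks_multiply, fromBlocks_one],
    by simp [fromBlocks_multiply, fromBlocks_one]⟩, by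
    intro x _
    show QS Q₁ Q₂ (fromBlocks 1 0 0 ((g : Matrix.GeneralLinearGroup κ F) : Matrix κ κ F) *ᵥ x) =
      QS Q₁ Q₂ x
    rw [fromBlocks_mulVec]
    simp only [Matrix.zero_mulVec, add_zero, zero_add, Matrix.one_mulVec]
    rw [QS_elim, QS_apply]
    have h : Q₂ (((g : Matrix.GeneralLinearGroup κ F) : Matrix κ κ F) *ᵥ (x ∘ Sum.inr)) =
        Q₂ (x ∘ Sum.inr) := g.2 (x ∘ Sum.inr) (x ∘ Sum.inr)
    rw [h]⟩

theorem iact_embR0 (g : ↥(Cfsg.isometryGroup F ⇑Q₂)) (x : ι ⊕ κ → F) :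
    iact (embR0 Q₁ Q₂ g) x = Sum.elim (x ∘ Sum.inl) (iact g (x ∘ Sum.inr)) := by
  show fromBlocks 1 0 0 ((g : Matrix.GeneralLinearGroup κ F) : Matrix κ κ F) *ᵥ x = _
  rw [fromBlocks_mulVec]
  simp only [Matrix.zero_mulVec, add_zero, zero_add, Matrix.one_mulVec]
  rfl

/-- the block embedding of the second summand as a homomorphism. -/
def embR : ↥(Cfsg.isometryGroup F ⇑Q₂) →* ↥(Cfsg.isometryGroup F ⇑(QS Q₁ Q₂)) where
  toFun := embR0 Q₁ Q₂
  map_one' := by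
    apply iact_ext
    intro x
    rw [iact_embR0, iact_one, iact_one]
    funext k
    rcases k with k | k <;> rfl
  map_mul' g h := by
    apply iact_ext
    intro x
    rw [iact_mul, iact_embR0, iact_embR0, iact_embR0, iact_mul, Sum.elim_comp_inl,
      Sum.elim_comp_inr]

theorem coe_embR (g : ↥(Cfsg.isometryGroup F ⇑Q₂)) :
    ((embR Q₁ Q₂ g : Matrix.GeneralLinearGroup (ι ⊕ κ) F) : Matrix (ι ⊕ κ) (ι ⊕ κ) F) =
      fromBlocks 1 0 0 ((g : Matrix.GeneralLinearGroup κ F) : Matrix κ κ F) := rfl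

theorem iact_embR (g : ↥(Cfsg.isometryGroup F ⇑Q₂)) (x : ι ⊕ κ → F) :
    iact (embR Q₁ Q₂ g) x = Sum.elim (x ∘ Sum.inl) (iact g (x ∘ Sum.inr)) :=
  iact_embR0 Q₁ Q₂ g x

theorem embR_reflG (w : κ → F) (hw : Q₂ w ≠ 0) (hw' : QS Q₁ Q₂ (Sum.elim 0 w) ≠ 0) :
    embR Q₁ Q₂ (reflG Q₂ w hw) = reflG (QS Q₁ Q₂) (Sum.elim 0 w) hw' := by
  apply iact_ext
  intro x
  rw [iact_embR, iact_reflG, iact_reflG, QS_polar, QS_elim, Sum.elim_comp_inl,
    Sum.elim_comp_inr, polar_zero_left, zero_add, QuadraticMap.map_zero, zero_add]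
  funext k
  rcases k with k | k
  · simp
  · simp

end osum

section osumchar
variable {F : Type*} [Field F] [Fintype F] [DecidableEq F] {ι κ : Type} [Fintype ι]
  [DecidableEq ι] [Fintype κ] [DecidableEq κ]
variable (Q₁ : QuadraticForm F (ι → F)) (Q₂ : QuadraticForm F (κ → F))

theorem IsTheta.comp_embL {θ : ↥(Cfsg.isometryGroup F ⇑(QS Q₁ Q₂)) →* ℤˣ}
    (hθ : IsTheta (QS Q₁ Q₂) θ) : IsTheta Q₁ (θ.comp (embL Q₁ Q₂)) := by
  intro w hw
  have e : QS Q₁ Q₂ (Sum.elim w 0) = Q₁ w := by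
    rw [QS_elim, QuadraticMap.map_zero, add_zero]
  have hw' : QS Q₁ Q₂ (Sum.elim w 0) ≠ 0 := by rw [e]; exact hw
  rw [MonoidHom.comp_apply, embL_reflG Q₁ Q₂ w hw hw', hθ _ hw', e]

omit [Fintype F] [DecidableEq F] in
theorem IsDelta.comp_embL {δ : ↥(Cfsg.isometryGroup F ⇑(QS Q₁ Q₂)) →* ℤˣ}
    (hδ : IsDelta (QS Q₁ Q₂) δ) : IsDelta Q₁ (δ.comp (embL Q₁ Q₂)) := by
  intro w hw
  have e : QS Q₁ Q₂ (Sum.elim w 0) = Q₁ w := by
    rw [QS_elim, QuadraticMap.map_zero, add_zero]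
  have hw' : QS Q₁ Q₂ (Sum.elim w 0) ≠ 0 := by rw [e]; exact hw
  rw [MonoidHom.comp_apply, embL_reflG Q₁ Q₂ w hw hw', hδ _ hw']

theorem IsTheta.comp_embR {θ : ↥(Cfsg.isometryGroup F ⇑(QS Q₁ Q₂)) →* ℤˣ}
    (hθ : IsTheta (QS Q₁ Q₂) θ) : IsTheta Q₂ (θ.comp (embR Q₁ Q₂)) := by
  intro w hw
  have e : QS Q₁ Q₂ (Sum.elim 0 w) = Q₂ w := by
    rw [QS_elim, QuadraticMap.map_zero, zero_add]
  have hw' : QS Q₁ Q₂ (Sum.elim 0 w) ≠ 0 := by rw [e]; exact hw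
  rw [MonoidHom.comp_apply, embR_reflG Q₁ Q₂ w hw hw', hθ _ hw', e]

omit [Fintype F] [DecidableEq F] in
theorem IsDelta.comp_embR {δ : ↥(Cfsg.isometryGroup F ⇑(QS Q₁ Q₂)) →* ℤˣ}
    (hδ : IsDelta (QS Q₁ Q₂) δ) : IsDelta Q₂ (δ.comp (embR Q₁ Q₂)) := by
  intro w hw
  have e : QS Q₁ Q₂ (Sum.elim 0 w) = Q₂ w := by
    rw [QS_elim, QuadraticMap.map_zero, zero_add]
  have hw' : QS Q₁ Q₂ (Sum.elim 0 w) ≠ 0 := by rw [e]; exact hw
  rw [MonoidHom.comp_apply, embR_reflG Q₁ Q₂ w hw hw', hδ _ hw']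

/-- membership in the commutator subgroup is compatible with the block embedding. -/
theorem embL_mem_commutator_iff (h₁ : (polarBilin Q₁).Nondegenerate)
    (h₂ : (polarBilin Q₂).Nondegenerate)
    (hne₁ : Fintype.card F ≠ 2 ∨ Fintype.card ι ≠ 4)
    (hne : Fintype.card F ≠ 2 ∨ Fintype.card (ι ⊕ κ) ≠ 4)
    (g₁ : ↥(Cfsg.isometryGroup F ⇑Q₁)) :
    embL Q₁ Q₂ g₁ ∈ commutator ↥(Cfsg.isometryGroup F ⇑(QS Q₁ Q₂)) ↔
      g₁ ∈ commutator ↥(Cfsg.isometryGroup F ⇑Q₁) := by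
  obtain ⟨θ, δ, hθ, hδ⟩ := exists_theta_delta (QS Q₁ Q₂) (QS_nondeg Q₁ Q₂ h₁ h₂)
  rw [mem_commutator_iff_all (QS Q₁ Q₂) (QS_nondeg Q₁ Q₂ h₁ h₂) hne θ δ hθ hδ,
    mem_commutator_iff_all Q₁ h₁ hne₁ _ _ (IsTheta.comp_embL Q₁ Q₂ hθ) (IsDelta.comp_embL Q₁ Q₂ hδ)]
  rfl

end osumchar

end Cfsg.Agent.helper13
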