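import Mathlib
import Cfsg.Agent.Lib_helper13_Uni

set_option autoImplicit false

namespace Cfsg.Agent.helper13

open Matrix QuadraticMap Module

section centerA
variable {F : Type*} [Field F] {ι : Type} [Fintype ι] [DecidableEq ι]
variable (Q : QuadraticForm F (ι → F))

/-- a product of two reflections moves every vector inside the plane of the two vectors. -/
theorem iact_two_refl (u v : ι → F) (hu : Q u ≠ 0) (hv : Q v ≠ 0) (x : ι → F) :
    ∃ a b : F, iact (reflG Q u hu * reflG Q v hv) x = x + a • u + b • v := by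
  refine ⟨-((Q u)⁻¹ * polar (⇑Q) u (x - ((Q v)⁻¹ * polar (⇑Q) v x) • v)),
    -((Q v)⁻¹ * polar (⇑Q) v x), ?_⟩
  rw [iact_mul, iact_reflG Q v hv, iact_reflG Q u hu]
  module

/-- two linear functionals: a vector orthogonal to `v` but not to `u`. -/
theorem exists_sep (hQ : (polarBilin Q).Nondegenerate) (u v : ι → F)
    (huv : ∀ c : F, u ≠ c • v) : ∃ x, polar (⇑Q) v x = 0 ∧ polar (⇑Q) u x ≠ 0 := by
  by_contra hcon
  push Not at hcon
  have hmem : u ∈ orthQ Q (orthQ Q (Submodule.span F {v})) := by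
    rw [mem_orth_iff]
    intro x hx
    rw [mem_orth_singleton_iff] at hx
    rw [polar_comm]
    exact hcon x hx
  have e : orthQ Q (orthQ Q (Submodule.span F {v})) = Submodule.span F {v} :=
    LinearMap.BilinForm.orthogonal_orthogonal hQ (polarBilin_isSymm Q).isRefl _
  rw [e] at hmem
  obtain ⟨c, hc⟩ := Submodule.mem_span_singleton.mp hmem
  exact huv c hc.symm

/-- an isometry commuting with `r_u r_v` maps `u` into the plane of `u` and `v`. -/
theorem iact_mem_plane (hQ : (polarBilin Q).Nondegenerate) (z : ↥(Cfsg.isometryGroup F ⇑Q))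
    (u v : ι → F) (hu : Q u ≠ 0) (hv : Q v ≠ 0) (huv : ∀ c : F, u ≠ c • v)
    (hz : z * (reflG Q u hu * reflG Q v hv) = (reflG Q u hu * reflG Q v hv) * z) :
    ∃ a b : F, iact z u = a • u + b • v := by
  obtain ⟨x, hvx, hux⟩ := exists_sep Q hQ u v huv
  set c : F := (Q u)⁻¹ * polar (⇑Q) u x with hc
  have hc0 : c ≠ 0 := mul_ne_zero (inv_ne_zero hu) hux
  have h1 : iact (reflG Q u hu * reflG Q v hv) x = x - c • u := by
    rw [iact_mul, iact_reflG_of_polar Q v hv x hvx, iact_reflG]
  have h2 : u = c⁻¹ • (x - iact (reflG Q u hu * reflG Q v hv) x) := by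
    rw [h1, sub_sub_cancel, smul_smul, inv_mul_cancel₀ hc0, one_smul]
  obtain ⟨a, b, hab⟩ := iact_two_refl Q u v hu hv (iact z x)
  have h3 : iact z (iact (reflG Q u hu * reflG Q v hv) x) =
      iact (reflG Q u hu * reflG Q v hv) (iact z x) := by
    rw [← iact_mul, ← iact_mul, hz]
  refine ⟨-(c⁻¹ * a), -(c⁻¹ * b), ?_⟩
  have h4 : iact z u = c⁻¹ • (iact z x - iact z (iact (reflG Q u hu * reflG Q v hv) x)) := by
    rw [← iact_sub, ← iact_smul, ← h2]
  rw [h4, h3, hab]
  module

end centerA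

section centerB
variable {F : Type*} [Field F] {ι : Type} [Fintype ι] [DecidableEq ι]
variable (Q : QuadraticForm F (ι → F))

/-- the hypothesis: `z` commutes with all products of two reflections of equal norm. -/
def CommPairs (z : ↥(Cfsg.isometryGroup F ⇑Q)) : Prop :=
  ∀ (u v : ι → F) (hu : Q u ≠ 0) (hv : Q v ≠ 0), Q u = Q v →
    z * (reflG Q u hu * reflG Q v hv) = (reflG Q u hu * reflG Q v hv) * z

theorem eigen_of_pair (hQ : (polarBilin Q).Nondegenerate) (z : ↥(Cfsg.isometryGroup F ⇑Q))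
    (hz : CommPairs Q z) (T : Submodule F (ι → F)) (hT : TS Q T)
    (w s s' : ι → F) (hw : Q w ≠ 0) (hs : s ∈ T) (hs' : s' ∈ T)
    (hws : polar (⇑Q) w s = 0) (hws' : polar (⇑Q) w s' = 0)
    (hind : ∀ a b : F, a • s + b • s' = 0 → a = 0 ∧ b = 0) :
    ∃ lam : F, iact z w = lam • w := by
  have hs0 : s ≠ 0 := by
    rintro rfl
    have := (hind 1 0 (by simp)).1
    exact one_ne_zero this
  have hs'0 : s' ≠ 0 := by
    rintro rfl
    have := (hind 0 1 (by simp)).2
    exact one_ne_zero this
  have hwT : w ∉ T := fun h => hw (hT w h)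
  have key : ∀ t : ι → F, t ∈ T → t ≠ 0 → polar (⇑Q) w t = 0 →
      ∃ a b : F, iact z w = a • w + b • (w + t) := by
    intro t ht ht0 hwt
    have hQv : Q (w + t) = Q w := by
      rw [Q_add_polar, hT t ht, hwt, add_zero, add_zero]
    have hv : Q (w + t) ≠ 0 := by rw [hQv]; exact hw
    apply iact_mem_plane Q hQ z w (w + t) hw hv ?_ (hz w (w + t) hw hv hQv.symm)
    intro c hc
    have h1 : (1 - c) • w = c • t := by
      have : c • (w + t) = c • w + c • t := smul_add _ _ _
      rw [this] at hc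
      rw [sub_smul, one_smul]
      nth_rewrite 1 [hc]
      abel
    by_cases hc1 : 1 - c = 0
    · rw [hc1, zero_smul] at h1
      have hc' : c = 1 := by
        have := sub_eq_zero.mp hc1
        exact this.symm
      rw [hc', one_smul] at h1
      exact ht0 h1.symm
    · apply hwT
      have : w = ((1 - c)⁻¹ * c) • t := by
        rw [← smul_smul, ← h1, smul_smul, inv_mul_cancel₀ hc1, one_smul]
      rw [this]
      exact T.smul_mem _ ht
  obtain ⟨a, b, hab⟩ := key s hs hs0 hws
  obtain ⟨a', b', hab'⟩ := key s' hs' hs'0 hws'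
  have heq : (a + b - a' - b') • w = b' • s' - b • s := by
    have h1 : a • w + b • (w + s) = a' • w + b' • (w + s') := by rw [← hab, ← hab']
    have h2 : (a + b - a' - b') • w = (a • w + b • (w + s)) - (a' • w + b' • (w + s')) +
        (b' • s' - b • s) := by module
    rw [h2, h1, sub_self, zero_add]
  have hc0 : a + b - a' - b' = 0 := by
    by_contra hne
    apply hwT
    have : w = (a + b - a' - b')⁻¹ • (b' • s' - b • s) := by
      rw [← heq, smul_smul, inv_mul_cancel₀ hne, one_smul]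
    rw [this]
    exact T.smul_mem _ (T.sub_mem (T.smul_mem _ hs') (T.smul_mem _ hs))
  rw [hc0, zero_smul] at heq
  have h3 : (-b) • s + b' • s' = 0 := by
    rw [neg_smul, neg_add_eq_sub]
    exact heq.symm
  have hb : b = 0 := by
    have := (hind _ _ h3).1
    exact neg_eq_zero.mp this
  refine ⟨a, ?_⟩
  rw [hab, hb, zero_smul, add_zero]

end centerB

section centerC
variable {F : Type*} [Field F] {ι : Type} [Fintype ι] [DecidableEq ι]
variable (Q : QuadraticForm F (ι → F))

omit [DecidableEq ι] in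
theorem TS.two_finrank_le (hQ : (polarBilin Q).Nondegenerate) {W : Submodule F (ι → F)}
    (hW : TS Q W) : 2 * finrank F W ≤ Fintype.card ι := by
  have h1 := Submodule.finrank_mono hW.le_orth
  rw [LinearMap.BilinForm.finrank_orthogonal hQ, Module.finrank_fintype_fun_eq_card] at h1
  have h2 : finrank F W ≤ Fintype.card ι := by
    rw [← Module.finrank_fintype_fun_eq_card (R := F) (η := ι)]
    exact Submodule.finrank_le _
  omega

omit [DecidableEq ι] in
/-- two independent vectors of `T` orthogonal to `w`. -/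
theorem exists_pair_in (hQ : (polarBilin Q).Nondegenerate) (T : Submodule F (ι → F))
    (hT3 : 3 ≤ finrank F T) (w : ι → F) (hw0 : w ≠ 0) :
    ∃ s s' : ι → F, s ∈ T ∧ s' ∈ T ∧ polar (⇑Q) w s = 0 ∧ polar (⇑Q) w s' = 0 ∧
      ∀ a b : F, a • s + b • s' = 0 → a = 0 ∧ b = 0 := by
  have hT : finrank F T ≤ Fintype.card ι := by
    rw [← Module.finrank_fintype_fun_eq_card (R := F) (η := ι)]
    exact Submodule.finrank_le _
  have hH : finrank F ↥(orthQ Q (Submodule.span F {w})) = Fintype.card ι - 1 := by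
    rw [LinearMap.BilinForm.finrank_orthogonal hQ, Module.finrank_fintype_fun_eq_card,
      finrank_span_singleton hw0]
  have h1 := Submodule.finrank_sup_add_finrank_inf_eq T (orthQ Q (Submodule.span F {w}))
  have h2 : finrank F ↥(T ⊔ orthQ Q (Submodule.span F {w})) ≤ Fintype.card ι := by
    rw [← Module.finrank_fintype_fun_eq_card (R := F) (η := ι)]
    exact Submodule.finrank_le _
  have hK : 2 ≤ finrank F ↥(T ⊓ orthQ Q (Submodule.span F {w})) := by omega
  obtain ⟨x, hx0⟩ : ∃ x : ↥(T ⊓ orthQ Q (Submodule.span F {w})), x ≠ 0 := by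
    have : 0 < finrank F ↥(T ⊓ orthQ Q (Submodule.span F {w})) := by omega
    exact Module.finrank_pos_iff_exists_ne_zero.mp this
  have h1lt : 1 < finrank F ↥(T ⊓ orthQ Q (Submodule.span F {w})) := by omega
  obtain ⟨y, hy⟩ := exists_linearIndependent_pair_of_one_lt_finrank h1lt hx0
  rw [LinearIndependent.pair_iff] at hy
  refine ⟨x.1, y.1, x.2.1, y.2.1, (mem_orth_singleton_iff Q w _).mp x.2.2,
    (mem_orth_singleton_iff Q w _).mp y.2.2, ?_⟩
  intro a b hab
  apply hy a b
  apply Subtype.ext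
  simpa using hab

omit [DecidableEq ι] in
theorem exists_nonsing_perp (hQ : (polarBilin Q).Nondegenerate) (hn : 5 ≤ Fintype.card ι)
    (s s' : ι → F) : ∃ w, Q w ≠ 0 ∧ polar (⇑Q) w s = 0 ∧ polar (⇑Q) w s' = 0 := by
  by_contra hcon
  push Not at hcon
  have hW : TS Q (orthQ Q (Submodule.span F {s, s'})) := by
    intro x hx
    by_contra hx0
    have h1 := (mem_orth_iff Q _ x).mp hx
    apply hcon x hx0
    · rw [polar_comm]
      exact h1 s (Submodule.subset_span (by simp))
    · rw [polar_comm]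
      exact h1 s' (Submodule.subset_span (by simp))
  have h2 := TS.two_finrank_le Q hQ hW
  rw [LinearMap.BilinForm.finrank_orthogonal hQ, Module.finrank_fintype_fun_eq_card] at h2
  have h3 : finrank F ↥(Submodule.span F {s, s'}) ≤ 2 := by
    classical
    have h4 : ({s, s'} : Set (ι → F)) = (({s, s'} : Finset (ι → F)) : Set (ι → F)) := by
      simp
    rw [h4]
    exact le_trans (finrank_span_finset_le_card _) (Finset.card_le_two)
  omega

variable (z : ↥(Cfsg.isometryGroup F ⇑Q))

theorem eigen_nonsing (hQ : (polarBilin Q).Nondegenerate) (hz : CommPairs Q z)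
    (T : Submodule F (ι → F)) (hT : TS Q T) (hT3 : 3 ≤ finrank F T)
    (w : ι → F) (hw : Q w ≠ 0) : ∃ lam : F, iact z w = lam • w := by
  have hw0 : w ≠ 0 := by
    rintro rfl
    exact hw (QuadraticMap.map_zero Q)
  obtain ⟨s, s', hs, hs', hws, hws', hind⟩ := exists_pair_in Q hQ T hT3 w hw0
  exact eigen_of_pair Q hQ z hz T hT w s s' hw hs hs' hws hws' hind

theorem eigen_sing (hQ : (polarBilin Q).Nondegenerate) (hz : CommPairs Q z)
    (T : Submodule F (ι → F)) (hT : TS Q T) (hT3 : 3 ≤ finrank F T)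
    (s w : ι → F) (hs : Q s = 0) (hw : Q w ≠ 0) (hws : polar (⇑Q) w s = 0) (lam : F)
    (hlam : iact z w = lam • w) : iact z s = lam • s := by
  have hws' : Q (w + s) = Q w := by
    rw [Q_add_polar, hs, hws, add_zero, add_zero]
  obtain ⟨lam', hlam'⟩ := eigen_nonsing Q z hQ hz T hT hT3 (w + s) (by rw [hws']; exact hw)
  have h1 : iact z s = (lam' - lam) • w + lam' • s := by
    have e : iact z s = iact z (w + s) - iact z w := by
      rw [← iact_sub, add_sub_cancel_left]
    rw [e, hlam', hlam]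
    module
  have h2 : Q (iact z s) = Q s := Q_iact z s
  rw [h1, hs, Q_add_polar, QuadraticMap.map_smul, QuadraticMap.map_smul, hs, polar_smul_left,
    polar_smul_right, hws] at h2
  simp only [smul_eq_mul, mul_zero, add_zero] at h2
  have h3 : lam' - lam = 0 := by
    rcases mul_eq_zero.mp h2 with h | h
    · exact mul_self_eq_zero.mp h
    · exact absurd h hw
  rw [h1, h3, zero_smul, zero_add, sub_eq_zero.mp h3]

/-- an isometry commuting with all products of two reflections of equal norm is `±1`. -/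
theorem scalar_of_commPairs (hQ : (polarBilin Q).Nondegenerate) (hn : 5 ≤ Fintype.card ι)
    (hz : CommPairs Q z) (T : Submodule F (ι → F)) (hT : TS Q T) (hT3 : 3 ≤ finrank F T) :
    ∃ lam : F, lam * lam = 1 ∧ ∀ x, iact z x = lam • x := by
  have hTpos : 0 < finrank F ↥T := by omega
  obtain ⟨s₀', hs₀'⟩ : ∃ x : ↥T, x ≠ 0 :=
    Module.finrank_pos_iff_exists_ne_zero.mp hTpos
  have hs₀T : (s₀' : ι → F) ∈ T := s₀'.2
  have hs₀0 : (s₀' : ι → F) ≠ 0 := fun h => hs₀' (Subtype.ext h)
  have hQs₀ : Q (s₀' : ι → F) = 0 := hT _ hs₀T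
  obtain ⟨w₀, hw₀, hw₀s, -⟩ := exists_nonsing_perp Q hQ hn (s₀' : ι → F) (s₀' : ι → F)
  obtain ⟨lam, hlam⟩ := eigen_nonsing Q z hQ hz T hT hT3 w₀ hw₀
  have hlam2 : lam * lam = 1 := by
    have h1 : Q (iact z w₀) = Q w₀ := Q_iact z w₀
    rw [hlam, QuadraticMap.map_smul, smul_eq_mul] at h1
    exact mul_right_cancel₀ hw₀ (by rw [h1, one_mul])
  have hs₀ : iact z (s₀' : ι → F) = lam • (s₀' : ι → F) :=
    eigen_sing Q z hQ hz T hT hT3 _ w₀ hQs₀ hw₀ hw₀s lam hlam
  have hsing : ∀ s, Q s = 0 → iact z s = lam • s := by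
    intro s hs
    obtain ⟨w, hw, hws, hws₀⟩ := exists_nonsing_perp Q hQ hn s (s₀' : ι → F)
    obtain ⟨mu, hmu⟩ := eigen_nonsing Q z hQ hz T hT hT3 w hw
    have h1 := eigen_sing Q z hQ hz T hT hT3 _ w hQs₀ hw hws₀ mu hmu
    have hml : mu = lam := by
      have h2 : (mu - lam) • (s₀' : ι → F) = 0 := by
        rw [sub_smul, ← h1, ← hs₀, sub_self]
      rcases smul_eq_zero.mp h2 with h | h
      · exact sub_eq_zero.mp h
      · exact absurd h hs₀0
    rw [← hml]
    exact eigen_sing Q z hQ hz T hT hT3 s w hs hw hws mu hmu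
  refine ⟨lam, hlam2, ?_⟩
  intro x
  by_cases hx : Q x = 0
  · exact hsing x hx
  · have hx0 : x ≠ 0 := by
      rintro rfl
      exact hx (QuadraticMap.map_zero Q)
    obtain ⟨s, s', hs, -, hxs, -, hind⟩ := exists_pair_in Q hQ T hT3 x hx0
    have hs0 : s ≠ 0 := by
      rintro rfl
      have := (hind 1 0 (by simp)).1
      exact one_ne_zero this
    obtain ⟨mu, hmu⟩ := eigen_nonsing Q z hQ hz T hT hT3 x hx
    have h1 := eigen_sing Q z hQ hz T hT hT3 s x (hT s hs) hx hxs mu hmu
    have h2 := hsing s (hT s hs)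
    have hml : mu = lam := by
      have h3 : (mu - lam) • s = 0 := by
        rw [sub_smul, ← h1, ← h2, sub_self]
      rcases smul_eq_zero.mp h3 with h | h
      · exact sub_eq_zero.mp h
      · exact absurd h hs0
    rw [hmu, hml]

end centerC

end Cfsg.Agent.helper13
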