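import Mathlib

set_option autoImplicit false

namespace Cfsg.Agent.helper13

section disc2
variable {F : Type*} [Field F] [Fintype F]

/-- An anisotropic binary form over a finite field has nonzero discriminant (standalone copy). -/
theorem disc_ne_zero_of_aniso' (a b : F)
    (hab : ∀ z₁ z₂ : F, z₁ ^ 2 + a * z₁ * z₂ + b * z₂ ^ 2 = 0 → z₁ = 0 ∧ z₂ = 0) :
    4 * b - a ^ 2 ≠ 0 := by
  intro hD
  by_cases h2 : (2 : F) = 0
  · have ha : a = 0 := by
      have h4 : (4 : F) = 0 := by
        have : (4 : F) = 2 * 2 := by norm_num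
        rw [this, h2, mul_zero]
      rw [h4, zero_mul, zero_sub, neg_eq_zero] at hD
      exact pow_eq_zero_iff (by norm_num) |>.mp hD
    haveI : CharP F 2 := CharTwo.of_one_ne_zero_of_two_eq_zero one_ne_zero h2
    obtain ⟨c, hc⟩ := FiniteField.isSquare_of_char_two (F := F) (ringChar.eq F 2) b
    have := (hab c 1 (by
      rw [ha, hc]
      have : c ^ 2 + 0 * c * 1 + c * c * 1 ^ 2 = 2 * (c * c) := by ring
      rw [this, h2, zero_mul])).2
    exact one_ne_zero this
  · have := (hab (-a) 2 (by linear_combination hD)).2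
    exact h2 this

end disc2

end Cfsg.Agent.helper13
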