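import Cfsg.Statements.S2621
import Cfsg.Agent.Lib_helper13_Disc

set_option autoImplicit false
open scoped Pointwise
open Cfsg

namespace Cfsg.Agent.S2621

open Matrix Cfsg.Agent.helper13

/-- Gram matrix of the elliptic form. -/
def gramMinus {F : Type*} [Field F] (k : ℕ) (a c : F) : Matrix ((Fin k ⊕ Fin k) ⊕ Fin 2) ((Fin k ⊕ Fin k) ⊕ Fin 2) F :=
  fromBlocks (fromBlocks (0 : Matrix (Fin k) (Fin k) F) (1 : Matrix (Fin k) (Fin k) F) (1 : Matrix (Fin k) (Fin k) F) (0 : Matrix (Fin k) (Fin k) F))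
    (0 : Matrix (Fin k ⊕ Fin k) (Fin 2) F) (0 : Matrix (Fin 2) (Fin k ⊕ Fin k) F) !![2, a; a, 2 * c]

theorem polar_minus {F : Type*} [Field F] (k : ℕ) (a c : F) (u v : (Fin k ⊕ Fin k) ⊕ Fin 2 → F) :
    QuadraticMap.polar (Cfsg.quadFormMinus k F a c) u v = u ⬝ᵥ (gramMinus k a c *ᵥ v) := by
  unfold gramMinus
  rw [fromBlocks_mulVec, fromBlocks_mulVec]
  simp only [QuadraticMap.polar, Cfsg.quadFormMinus, dotProduct, Fintype.sum_sum_type, Sum.elim_inl, Sum.elim_inr,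
    zero_mulVec, one_mulVec, zero_add, add_zero, Pi.add_apply, Function.comp, Fin.sum_univ_two, mulVec, dotProduct,
    Matrix.of_apply, Matrix.cons_val_zero, Matrix.cons_val_one, Matrix.cons_val']
  have h1 : ∑ x : Fin k, (u (Sum.inl (Sum.inl x)) + v (Sum.inl (Sum.inl x))) * (u (Sum.inl (Sum.inr x)) + v (Sum.inl (Sum.inr x)))
      = ∑ x : Fin k, u (Sum.inl (Sum.inl x)) * u (Sum.inl (Sum.inr x)) + ∑ x : Fin k, v (Sum.inl (Sum.inl x)) * v (Sum.inl (Sum.inr x))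
        + (∑ x : Fin k, u (Sum.inl (Sum.inl x)) * v (Sum.inl (Sum.inr x)) + ∑ x : Fin k, u (Sum.inl (Sum.inr x)) * v (Sum.inl (Sum.inl x))) := by
    rw [← Finset.sum_add_distrib, ← Finset.sum_add_distrib, ← Finset.sum_add_distrib]
    apply Finset.sum_congr rfl
    intro i _
    ring
  rw [h1]
  ring

theorem det_gramMinus {F : Type*} [Field F] (k : ℕ) (a c : F) :
    (gramMinus k a c).det = (-1) ^ k * (4 * c - a ^ 2) := by
  unfold gramMinus
  rw [det_fromBlocks_zero₂₁, det_hyp, det_fin_two_of]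
  ring

theorem nonsquare_of_aniso {F : Type*} [Field F] (h2 : (2 : F) ≠ 0) (a c : F)
    (hac : ∀ z₁ z₂ : F, z₁ ^ 2 + a * z₁ * z₂ + c * z₂ ^ 2 = 0 → z₁ = 0 ∧ z₂ = 0) :
    ¬ IsSquare (a ^ 2 - 4 * c) := by
  rintro ⟨r, hr⟩
  have := (hac ((r - a) / 2) 1 (by
    have h4 : (4 : F) = 2 * 2 := by norm_num
    field_simp
    have : c = (a ^ 2 - r * r) / 4 := by
      rw [← hr]; rw [h4]; field_simp; ring
    rw [this, h4]; field_simp; ring)).2
  exact one_ne_zero this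

theorem isSquare_mul_nonsquare {F : Type*} [Field F] [Fintype F] (hchar : ringChar F ≠ 2) (x D : F) (hx : x ≠ 0)
    (hD : ¬ IsSquare D) : IsSquare (x * D) ↔ ¬ IsSquare x := by
  have hD0 : D ≠ 0 := by rintro rfl; exact hD ⟨0, by simp⟩
  have hne : (-1 : F) ≠ 1 := Ring.neg_one_ne_one_of_char_ne_two hchar
  rw [FiniteField.isSquare_iff hchar (mul_ne_zero hx hD0), FiniteField.isSquare_iff hchar hx, mul_pow]
  have hDq : D ^ (Fintype.card F / 2) = -1 := by
    rcases FiniteField.pow_dichotomy hchar hD0 with h | h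
    · exact absurd ((FiniteField.isSquare_iff hchar hD0).mpr h) hD
    · exact h
  rw [hDq]
  rcases FiniteField.pow_dichotomy hchar hx with h | h
  · rw [h]; simp [hne]
  · rw [h]; simp [hne]

/-- Discriminant of an elliptic quadratic form. -/
theorem result {F : Type*} [Field F] [Fintype F] {q : ℕ} (hF : Fintype.card F = q) (hq : Odd q) {m : ℕ} (hm : 1 ≤ m) (a c : F) (hac : ∀ z₁ z₂ : F, z₁ ^ 2 + a * z₁ * z₂ + c * z₂ ^ 2 = 0 → z₁ = 0 ∧ z₂ = 0) {ι : Type*} [Fintype ι] [DecidableEq ι] (b : Module.Basis ι F ((Fin (m - 1) ⊕ Fin (m - 1)) ⊕ Fin 2 → F)) : IsSquare (Matrix.of (fun i j : ι => QuadraticMap.polar (Cfsg.quadFormMinus (m - 1) F a c) (b i) (b j))).det ↔ ¬ Even (m * (q - 1) / 2) := by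
  subst hF
  have hchar : ringChar F ≠ 2 := by
    intro h
    rw [FiniteField.even_card_iff_char_two] at h
    rw [Nat.odd_iff] at hq
    omega
  have h2 : (2 : F) ≠ 0 := Ring.two_ne_zero hchar
  obtain ⟨d, hd, hdet⟩ := gram_det_basis _ _ (polar_minus (F := F) (m - 1) a c) b
  rw [hdet, isSquare_sq_mul d _ hd, det_gramMinus]
  have hrew : (-1 : F) ^ (m - 1) * (4 * c - a ^ 2) = (-1) ^ m * (a ^ 2 - 4 * c) := by
    obtain ⟨k, rfl⟩ : ∃ k, m = k + 1 := ⟨m - 1, by omega⟩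
    rw [Nat.add_sub_cancel, pow_succ]; ring
  rw [hrew, isSquare_mul_nonsquare hchar _ _ (pow_ne_zero _ (by norm_num)) (nonsquare_of_aniso h2 a c hac),
    neg_one_pow_isSquare hq]

end Cfsg.Agent.S2621
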