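import Cfsg.Agent.S2616
import Cfsg.Agent.S2620
import Cfsg.Agent.S2621
import Cfsg.Agent.Lib_helper13_QExt

set_option autoImplicit false

namespace Cfsg.Agent.helper13

open Module QuadraticMap Matrix

section std
variable (F : Type*) [Field F]

/-- the hyperbolic form as a bundled quadratic form. -/
noncomputable def QPlus (m : ℕ) : QuadraticForm F (Fin m ⊕ Fin m → F) :=
  ∑ i : Fin m, QuadraticMap.linMulLin (LinearMap.proj (Sum.inl i)) (LinearMap.proj (Sum.inr i))

theorem QPlus_apply (m : ℕ) (v : Fin m ⊕ Fin m → F) : QPlus F m v = Cfsg.quadFormPlus m F v := by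
  simp [QPlus, Cfsg.quadFormPlus, QuadraticMap.sum_apply]

theorem QPlus_coe (m : ℕ) : ⇑(QPlus F m) = Cfsg.quadFormPlus m F := funext (QPlus_apply F m)

/-- the elliptic-shaped form as a bundled quadratic form. -/
noncomputable def QMinus (k : ℕ) (a c : F) : QuadraticForm F ((Fin k ⊕ Fin k) ⊕ Fin 2 → F) :=
  (∑ i : Fin k, QuadraticMap.linMulLin (LinearMap.proj (Sum.inl (Sum.inl i)))
      (LinearMap.proj (Sum.inl (Sum.inr i)))) +
    (QuadraticMap.linMulLin (LinearMap.proj (Sum.inr 0)) (LinearMap.proj (Sum.inr 0)) +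
      a • QuadraticMap.linMulLin (LinearMap.proj (Sum.inr 0)) (LinearMap.proj (Sum.inr 1)) +
      c • QuadraticMap.linMulLin (LinearMap.proj (Sum.inr 1)) (LinearMap.proj (Sum.inr 1)))

theorem QMinus_apply (k : ℕ) (a c : F) (v : (Fin k ⊕ Fin k) ⊕ Fin 2 → F) :
    QMinus F k a c v = Cfsg.quadFormMinus k F a c v := by
  simp [QMinus, Cfsg.quadFormMinus, QuadraticMap.sum_apply]
  ring

theorem QMinus_coe (k : ℕ) (a c : F) : ⇑(QMinus F k a c) = Cfsg.quadFormMinus k F a c :=
  funext (QMinus_apply F k a c)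

/-- Gram matrix of the hyperbolic form. -/
def gramPlus (m : ℕ) : Matrix (Fin m ⊕ Fin m) (Fin m ⊕ Fin m) F :=
  fromBlocks (0 : Matrix (Fin m) (Fin m) F) (1 : Matrix (Fin m) (Fin m) F)
    (1 : Matrix (Fin m) (Fin m) F) (0 : Matrix (Fin m) (Fin m) F)

theorem polar_QPlus (m : ℕ) (u v : Fin m ⊕ Fin m → F) :
    polar (⇑(QPlus F m)) u v = u ⬝ᵥ (gramPlus F m *ᵥ v) := by
  rw [QPlus_coe]
  exact Cfsg.Agent.S2620.polar_plus m u v

theorem polar_QMinus (k : ℕ) (a c : F) (u v : (Fin k ⊕ Fin k) ⊕ Fin 2 → F) :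
    polar (⇑(QMinus F k a c)) u v = u ⬝ᵥ (Cfsg.Agent.S2621.gramMinus k a c *ᵥ v) := by
  rw [QMinus_coe]
  exact Cfsg.Agent.S2621.polar_minus k a c u v

theorem polar_QPlus_single (m : ℕ) (i j : Fin m ⊕ Fin m) :
    polar (⇑(QPlus F m)) (Pi.single i 1) (Pi.single j 1) = gramPlus F m i j := by
  rw [polar_QPlus]
  simp

theorem polar_QMinus_single (k : ℕ) (a c : F) (i j : (Fin k ⊕ Fin k) ⊕ Fin 2) :
    polar (⇑(QMinus F k a c)) (Pi.single i 1) (Pi.single j 1) =
      Cfsg.Agent.S2621.gramMinus k a c i j := by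
  rw [polar_QMinus]
  simp

end std

section nondeg
variable {F : Type*} [Field F]

/-- a quadratic form on a function space whose polar is given by an invertible Gram matrix is
nondegenerate. -/
theorem nondeg_of_gram {ι : Type*} [Fintype ι] [DecidableEq ι] (Q : QuadraticForm F (ι → F))
    (G : Matrix ι ι F) (hG : G.det ≠ 0)
    (h : ∀ u v, polar (⇑Q) u v = u ⬝ᵥ (G *ᵥ v)) : (polarBilin Q).Nondegenerate := by
  have hleft : (polarBilin Q).SeparatingLeft := by
    intro u hu
    apply Matrix.eq_zero_of_vecMul_eq_zero hG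
    funext j
    have := hu (Pi.single j 1)
    rw [polarBilin_apply_apply, h, Matrix.dotProduct_mulVec] at this
    simpa using this
  refine ⟨hleft, ?_⟩
  intro v hv
  apply hleft v
  intro u
  have := hv u
  rw [polarBilin_apply_apply] at this ⊢
  rw [polar_comm]
  exact this

theorem QPlus_nondeg (m : ℕ) : (polarBilin (QPlus F m)).Nondegenerate := by
  apply nondeg_of_gram (QPlus F m) (gramPlus F m) _ (polar_QPlus F m)
  unfold gramPlus
  rw [det_hyp]
  exact pow_ne_zero _ (neg_ne_zero.mpr one_ne_zero)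

theorem QMinus_nondeg (k : ℕ) (a c : F) (hD : 4 * c - a ^ 2 ≠ 0) :
    (polarBilin (QMinus F k a c)).Nondegenerate := by
  apply nondeg_of_gram (QMinus F k a c) (Cfsg.Agent.S2621.gramMinus k a c) _ (polar_QMinus F k a c)
  rw [Cfsg.Agent.S2621.det_gramMinus]
  exact mul_ne_zero (pow_ne_zero _ (neg_ne_zero.mpr one_ne_zero)) hD

end nondeg

section classify

theorem polar_comp_lin {F V W : Type*} [Field F] [AddCommGroup V] [Module F V] [AddCommGroup W]
    [Module F W] (Q : QuadraticForm F W) (g : V →ₗ[F] W) (u v : V) :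
    polar (⇑(Q.comp g)) u v = polar (⇑Q) (g u) (g v) := by
  unfold polar
  simp [QuadraticMap.comp_apply, map_add]

theorem equivFun_basis' {F V ι : Type*} [Field F] [AddCommGroup V] [Module F V] [Fintype ι]
    [DecidableEq ι] (b : Basis ι F V) (i : ι) : b.equivFun.toLinearMap (b i) = Pi.single i 1 := by
  funext j
  simp [Pi.single_apply, eq_comm]

theorem quadFormPlus_single {F : Type*} [Field F] (m : ℕ) (i : Fin m ⊕ Fin m) :
    Cfsg.quadFormPlus m F (Pi.single i 1) = 0 := by
  unfold Cfsg.quadFormPlus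
  apply Finset.sum_eq_zero
  intro j _
  rcases i with i | i
  · simp
  · simp

theorem quadFormMinus_single_inl {F : Type*} [Field F] (k : ℕ) (a c : F) (i : Fin k ⊕ Fin k) :
    Cfsg.quadFormMinus k F a c (Pi.single (Sum.inl i) 1) = 0 := by
  unfold Cfsg.quadFormMinus
  have h1 : ∑ j : Fin k, (Pi.single (Sum.inl i) (1 : F) : (Fin k ⊕ Fin k) ⊕ Fin 2 → F) (Sum.inl (Sum.inl j)) *
      (Pi.single (Sum.inl i) (1 : F) : (Fin k ⊕ Fin k) ⊕ Fin 2 → F) (Sum.inl (Sum.inr j)) = 0 := by
    apply Finset.sum_eq_zero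
    intro j _
    rcases i with i | i
    · simp
    · simp
  rw [h1]
  simp

theorem quadFormMinus_single_zero {F : Type*} [Field F] (k : ℕ) (a c : F) :
    Cfsg.quadFormMinus k F a c (Pi.single (Sum.inr 0) 1) = 1 := by
  unfold Cfsg.quadFormMinus
  simp

theorem quadFormMinus_single_one {F : Type*} [Field F] (k : ℕ) (a c : F) :
    Cfsg.quadFormMinus k F a c (Pi.single (Sum.inr 1) 1) = c := by
  unfold Cfsg.quadFormMinus
  simp

variable {F : Type*} [Field F] [Fintype F] {V : Type*} [AddCommGroup V] [Module F V]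
  [FiniteDimensional F V]

/-- classification of even-dimensional quadratic spaces over a finite field, in coordinates. -/
theorem classify_even {m : ℕ} (hm : 1 ≤ m) (hV : finrank F V = 2 * m) (Q : QuadraticForm F V)
    (hQ : (polarBilin Q).Nondegenerate) :
    (∃ g : V ≃ₗ[F] (Fin m ⊕ Fin m → F), ∀ v, Q v = Cfsg.quadFormPlus m F (g v)) ∨
    (∃ ζ : F, (∀ t : F, t ^ 2 + t + ζ ≠ 0) ∧
      ∃ g : V ≃ₗ[F] ((Fin (m - 1) ⊕ Fin (m - 1)) ⊕ Fin 2 → F),
        ∀ v, Q v = Cfsg.quadFormMinus (m - 1) F 1 ζ (g v)) := by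
  classical
  rcases Cfsg.Agent.S2616.result hm hV Q hQ with ⟨b, hQ0, hef, hee⟩ |
    ⟨b, ζ, hirr, hQ0, hef, hee, horth, hx1, hxy, hyζ⟩
  · left
    refine ⟨b.equivFun, ?_⟩
    have key := quad_ext_basis b Q ((QPlus F m).comp b.equivFun.toLinearMap) ?_ ?_
    · intro v
      rw [key v, QuadraticMap.comp_apply, QPlus_apply]
      rfl
    · intro i
      rw [QuadraticMap.comp_apply, QPlus_apply]
      have : b.equivFun.toLinearMap (b i) = Pi.single i 1 := equivFun_basis' b _
      rw [this, quadFormPlus_single]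
      rcases i with i | i
      · exact (hQ0 i).1
      · exact (hQ0 i).2
    · intro i j
      rw [polar_comp_lin]
      have hi : b.equivFun.toLinearMap (b i) = Pi.single i 1 := equivFun_basis' b _
      have hj : b.equivFun.toLinearMap (b j) = Pi.single j 1 := equivFun_basis' b _
      rw [hi, hj, polar_QPlus_single]
      rcases i with i | i <;> rcases j with j | j
      · rw [(hee i j).1]; simp [gramPlus]
      · rw [hef i j]; simp [gramPlus, Matrix.one_apply]
      · rw [polar_comm, hef j i]; simp [gramPlus, Matrix.one_apply, eq_comm]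
      · rw [(hee i j).2]; simp [gramPlus]
  · right
    refine ⟨ζ, hirr, b.equivFun, ?_⟩
    have key := quad_ext_basis b Q ((QMinus F (m - 1) 1 ζ).comp b.equivFun.toLinearMap) ?_ ?_
    · intro v
      rw [key v, QuadraticMap.comp_apply, QMinus_apply]
      rfl
    · intro i
      rw [QuadraticMap.comp_apply, QMinus_apply]
      have : b.equivFun.toLinearMap (b i) = Pi.single i 1 := equivFun_basis' b _
      rw [this]
      rcases i with (i | i) | i
      · rw [quadFormMinus_single_inl, (hQ0 i).1]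
      · rw [quadFormMinus_single_inl, (hQ0 i).2]
      · fin_cases i
        · show Q (b (Sum.inr 0)) = Cfsg.quadFormMinus (m - 1) F 1 ζ (Pi.single (Sum.inr 0) 1)
          rw [quadFormMinus_single_zero, hx1]
        · show Q (b (Sum.inr 1)) = Cfsg.quadFormMinus (m - 1) F 1 ζ (Pi.single (Sum.inr 1) 1)
          rw [quadFormMinus_single_one, hyζ]
    · intro i j
      rw [polar_comp_lin]
      have hi : b.equivFun.toLinearMap (b i) = Pi.single i 1 := equivFun_basis' b _
      have hj : b.equivFun.toLinearMap (b j) = Pi.single j 1 := equivFun_basis' b _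
      rw [hi, hj, polar_QMinus_single]
      have pxx : polar (⇑Q) (b (Sum.inr 0)) (b (Sum.inr 0)) = 2 := by
        rw [polar_self', hx1, mul_one]
      have pyy : polar (⇑Q) (b (Sum.inr 1)) (b (Sum.inr 1)) = 2 * ζ := by
        rw [polar_self', hyζ]
      have pyx : polar (⇑Q) (b (Sum.inr 1)) (b (Sum.inr 0)) = 1 := by rw [polar_comm, hxy]
      rcases i with (i | i) | i <;> rcases j with (j | j) | j
      · rw [(hee i j).1]; simp [Cfsg.Agent.S2621.gramMinus]
      · rw [hef i j]; simp [Cfsg.Agent.S2621.gramMinus, Matrix.one_apply]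
      · rw [(horth i j).1]; simp [Cfsg.Agent.S2621.gramMinus]
      · rw [polar_comm, hef j i]; simp [Cfsg.Agent.S2621.gramMinus, Matrix.one_apply, eq_comm]
      · rw [(hee i j).2]; simp [Cfsg.Agent.S2621.gramMinus]
      · rw [(horth i j).2]; simp [Cfsg.Agent.S2621.gramMinus]
      · rw [polar_comm, (horth j i).1]; simp [Cfsg.Agent.S2621.gramMinus]
      · rw [polar_comm, (horth j i).2]; simp [Cfsg.Agent.S2621.gramMinus]
      · fin_cases i <;> fin_cases j
        · show polar (⇑Q) (b (Sum.inr 0)) (b (Sum.inr 0)) = _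
          rw [pxx]; simp [Cfsg.Agent.S2621.gramMinus]
        · show polar (⇑Q) (b (Sum.inr 0)) (b (Sum.inr 1)) = _
          rw [hxy]; simp [Cfsg.Agent.S2621.gramMinus]
        · show polar (⇑Q) (b (Sum.inr 1)) (b (Sum.inr 0)) = _
          rw [pyx]; simp [Cfsg.Agent.S2621.gramMinus]
        · show polar (⇑Q) (b (Sum.inr 1)) (b (Sum.inr 1)) = _
          rw [pyy]; simp [Cfsg.Agent.S2621.gramMinus]

end classify

end Cfsg.Agent.helper13
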