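import Mathlib
import Cfsg.Agent.Lib_helper13_MaxTS
import Cfsg.Agent.Lib_helper13_QStd

set_option autoImplicit false

namespace Cfsg.Agent.helper13

open Module QuadraticMap

section mts2
variable (F : Type*) [Field F]

theorem finrank_plus_space (m : ℕ) : finrank F (Fin m ⊕ Fin m → F) = 2 * m := by
  rw [Module.finrank_fintype_fun_eq_card, Fintype.card_sum, Fintype.card_fin]
  ring

/-- embedding of the first half of the coordinates. -/
def inlMap (m : ℕ) : (Fin m → F) →ₗ[F] (Fin m ⊕ Fin m → F) where
  toFun a := Sum.elim a 0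
  map_add' a b := by
    ext (i | i) <;> simp
  map_smul' c a := by
    ext (i | i) <;> simp

theorem inlMap_injective (m : ℕ) : Function.Injective (inlMap F m) := by
  intro a b hab
  funext i
  have := congr_fun hab (Sum.inl i)
  simpa [inlMap] using this

theorem ts_plus_iff (m : ℕ) (W : Submodule F (Fin m ⊕ Fin m → F)) :
    TS (QPlus F m) W ↔ ∀ w ∈ W, Cfsg.quadFormPlus m F w = 0 := by
  unfold TS
  simp only [QPlus_apply]

theorem stdU_mts (m : ℕ) : MTS (QPlus F m) m (LinearMap.range (inlMap F m)) := by
  constructor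
  · rw [ts_plus_iff]
    rintro w ⟨a, rfl⟩
    unfold Cfsg.quadFormPlus
    apply Finset.sum_eq_zero
    intro i _
    simp [inlMap]
  · rw [LinearMap.finrank_range_of_inj (inlMap_injective F m), Module.finrank_fin_fun]

end mts2

end Cfsg.Agent.helper13
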