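import Mathlib
import Cfsg.Prelude.Def_Classical

set_option autoImplicit false

namespace Cfsg.Agent.helper13

open Finset

/-- number of zeros of a function on a finite type. -/
noncomputable def zeros {W F : Type*} [Fintype W] [Field F] (R : W → F) : ℕ := by
  classical
  exact (Finset.univ.filter (fun w => R w = 0)).card

theorem zeros_eq_sum {W F : Type*} [Fintype W] [Field F] [DecidableEq F] (R : W → F) :
    zeros R = ∑ w, if R w = 0 then 1 else 0 := by
  classical
  unfold zeros
  rw [Finset.card_filter]
  apply Finset.sum_congr rfl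
  intro w _
  congr

theorem zeros_congr {W W' F : Type*} [Fintype W] [Fintype W'] [Field F] (e : W ≃ W') (R : W → F) (R' : W' → F)
    (h : ∀ w, R' (e w) = R w) : zeros R = zeros R' := by
  classical
  rw [zeros_eq_sum, zeros_eq_sum]
  rw [← Equiv.sum_comp e]
  apply Finset.sum_congr rfl
  intro w _
  rw [h]

theorem inner_count {F : Type*} [Field F] [Fintype F] [DecidableEq F] (a c : F) :
    (∑ b : F, if a * b + c = 0 then 1 else 0) = if a = 0 then (if c = 0 then Fintype.card F else 0) else 1 := by
  by_cases ha : a = 0
  · subst ha
    simp only [zero_mul, zero_add, if_true]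
    by_cases hc : c = 0
    · simp [hc]
    · simp [hc]
  · simp only [ha, if_false]
    rw [Finset.sum_eq_single (-c / a)]
    · rw [if_pos]; field_simp; ring
    · intro b _ hb
      rw [if_neg]
      intro h
      apply hb
      field_simp
      linear_combination h
    · intro h; exact absurd (Finset.mem_univ _) h

/-- adding a hyperbolic plane. -/
theorem zeros_hyp {W F : Type*} [Fintype W] [Field F] [Fintype F] (R : W → F) :
    zeros (fun x : F × F × W => x.1 * x.2.1 + R x.2.2) =
      Fintype.card F * zeros R + (Fintype.card F - 1) * Fintype.card W := by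
  classical
  rw [zeros_eq_sum, zeros_eq_sum]
  rw [Fintype.sum_prod_type]
  simp only [Fintype.sum_prod_type]
  have e1 : (∑ a : F, ∑ b : F, ∑ w : W, if a * b + R w = 0 then 1 else 0)
      = ∑ w : W, ∑ a : F, ∑ b : F, if a * b + R w = 0 then 1 else 0 := by
    calc (∑ a : F, ∑ b : F, ∑ w : W, if a * b + R w = 0 then 1 else 0)
        = ∑ a : F, ∑ w : W, ∑ b : F, if a * b + R w = 0 then 1 else 0 :=
          Finset.sum_congr rfl (fun a _ => Finset.sum_comm)
      _ = ∑ w : W, ∑ a : F, ∑ b : F, if a * b + R w = 0 then 1 else 0 := Finset.sum_comm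
  rw [e1]
  simp only [inner_count]
  have h1 : ∀ w : W, (∑ a : F, if a = 0 then (if R w = 0 then Fintype.card F else 0) else 1)
      = (if R w = 0 then Fintype.card F else 0) + (Fintype.card F - 1) := by
    intro w
    rw [Finset.sum_ite, Finset.sum_const, Finset.sum_const, Finset.filter_eq' Finset.univ (0 : F)]
    simp only [Finset.mem_univ, if_true, Finset.card_singleton, smul_eq_mul, mul_one, one_mul]
    congr 1
    rw [Finset.filter_ne' Finset.univ (0 : F), Finset.card_erase_of_mem (Finset.mem_univ _), Finset.card_univ]
  simp only [h1]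
  rw [Finset.sum_add_distrib, Finset.sum_const, Finset.card_univ, smul_eq_mul, Finset.mul_sum]
  congr 1
  · apply Finset.sum_congr rfl
    intro w _
    split_ifs <;> simp
  · ring

end Cfsg.Agent.helper13
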