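import Cfsg.Statements.S2617
import Cfsg.Agent.Lib_helper13_Count

set_option autoImplicit false
open scoped Pointwise
open Cfsg

namespace Cfsg.Agent.S2617

open Cfsg.Agent.helper13

/-- zero count of `Plus_k ⊕ R`. -/
noncomputable def T {F : Type*} [Field F] [Fintype F] (k : ℕ) {W : Type*} [Fintype W] (R : W → F) : ℕ :=
  zeros (fun x : (Fin k ⊕ Fin k → F) × W => Cfsg.quadFormPlus k F x.1 + R x.2)

/-- splitting off the first hyperbolic pair. -/
def splitEquiv (F : Type*) (k : ℕ) (W : Type*) :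
    (Fin (k + 1) ⊕ Fin (k + 1) → F) × W ≃ F × F × ((Fin k ⊕ Fin k → F) × W) where
  toFun y := (y.1 (Sum.inl 0), y.1 (Sum.inr 0),
    (Sum.elim (fun i => y.1 (Sum.inl i.succ)) (fun i => y.1 (Sum.inr i.succ)), y.2))
  invFun x := (Sum.elim (Fin.cons x.1 (fun i => x.2.2.1 (Sum.inl i))) (Fin.cons x.2.1 (fun i => x.2.2.1 (Sum.inr i))), x.2.2.2)
  left_inv y := by
    apply Prod.ext
    · funext s
      rcases s with i | i
      · refine Fin.cases ?_ (fun j => ?_) i <;> simp
      · refine Fin.cases ?_ (fun j => ?_) i <;> simp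
    · rfl
  right_inv x := by
    obtain ⟨a, b, u, w⟩ := x
    simp only [Sum.elim_inl, Sum.elim_inr, Fin.cons_zero, Fin.cons_succ]
    congr 3
    funext s
    rcases s with i | i <;> rfl

theorem T_succ {F : Type*} [Field F] [Fintype F] (k : ℕ) {W : Type*} [Fintype W] (R : W → F) :
    T (k + 1) R = Fintype.card F * T k R + (Fintype.card F - 1) * (Fintype.card F ^ (2 * k) * Fintype.card W) := by
  classical
  unfold T
  rw [zeros_congr (splitEquiv F k W) _ (fun x : F × F × ((Fin k ⊕ Fin k → F) × W) => x.1 * x.2.1 + (Cfsg.quadFormPlus k F x.2.2.1 + R x.2.2.2))]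
  · rw [zeros_hyp (fun x : (Fin k ⊕ Fin k → F) × W => Cfsg.quadFormPlus k F x.1 + R x.2)]
    congr 2
    rw [Fintype.card_prod, Fintype.card_pi]
    simp [Finset.prod_const, two_mul]
  · intro y
    simp only [splitEquiv, Equiv.coe_fn_mk, Cfsg.quadFormPlus, Sum.elim_inl, Sum.elim_inr]
    rw [Fin.sum_univ_succ]
    ring

/-- auxiliary sequence. -/
def cseq (q : ℕ) : ℕ → ℕ
  | 0 => 0
  | k + 1 => q * cseq q k + (q - 1) * q ^ (2 * k)

theorem cseq_id (q : ℕ) (hq : 1 ≤ q) (k : ℕ) : q * cseq q k + q ^ k = q ^ (2 * k) := by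
  obtain ⟨r, rfl⟩ : ∃ r, q = r + 1 := ⟨q - 1, by omega⟩
  induction k with
  | zero => simp [cseq]
  | succ k ih =>
    simp only [cseq, Nat.add_sub_cancel]
    have : (r + 1) ^ (2 * (k + 1)) = (r + 1) * (r + 1) * (r + 1) ^ (2 * k) := by
      rw [show 2 * (k + 1) = 2 * k + 2 by ring, pow_add]; ring
    rw [this, ← ih, pow_succ]
    ring

theorem T_zero {F : Type*} [Field F] [Fintype F] {W : Type*} [Fintype W] (R : W → F) : T 0 R = zeros R := by
  unfold T
  let e : (Fin 0 ⊕ Fin 0 → F) × W ≃ W :=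
    { toFun := fun x => x.2
      invFun := fun w => (fun s => Sum.elim (fun i => Fin.elim0 i) (fun i => Fin.elim0 i) s, w)
      left_inv := by
        intro x
        apply Prod.ext
        · funext s
          rcases s with i | i <;> exact Fin.elim0 i
        · rfl
      right_inv := fun w => rfl }
  apply zeros_congr e
  intro x
  simp [e, Cfsg.quadFormPlus]

theorem T_closed {F : Type*} [Field F] [Fintype F] (k : ℕ) {W : Type*} [Fintype W] (R : W → F) :
    T k R = Fintype.card F ^ k * zeros R + Fintype.card W * cseq (Fintype.card F) k := by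
  induction k with
  | zero => simp [T_zero, cseq]
  | succ k ih =>
    rw [T_succ, ih]
    simp only [cseq]
    ring

theorem zeros_plus {F : Type*} [Field F] [Fintype F] (m : ℕ) :
    zeros (Cfsg.quadFormPlus m F) = Fintype.card F ^ m + cseq (Fintype.card F) m := by
  classical
  have h := T_closed (F := F) m (fun _ : Unit => (0 : F))
  have hz : zeros (fun _ : Unit => (0 : F)) = 1 := by
    unfold zeros
    simp
  rw [hz] at h
  simp only [Fintype.card_unique, one_mul, mul_one] at h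
  rw [← h]
  unfold T
  apply zeros_congr (Equiv.prodPUnit _).symm
  intro v
  simp

theorem zeros_bin {F : Type*} [Field F] [Fintype F] (ζ : F) (hζ : ∀ t : F, t ^ 2 + t + ζ ≠ 0) :
    zeros (fun z : Fin 2 → F => z 0 ^ 2 + 1 * z 0 * z 1 + ζ * z 1 ^ 2) = 1 := by
  classical
  unfold zeros
  rw [Finset.card_eq_one]
  refine ⟨0, ?_⟩
  ext z
  simp only [Finset.mem_filter, Finset.mem_univ, true_and, Finset.mem_singleton]
  constructor
  · intro h
    have h1 : z 1 = 0 := by
      by_contra h1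
      apply hζ (z 0 / z 1)
      field_simp
      linear_combination h
    rw [h1] at h
    have h0 : z 0 = 0 := by
      have : z 0 ^ 2 = 0 := by linear_combination h
      exact pow_eq_zero_iff (by norm_num) |>.mp this
    funext i
    fin_cases i
    · exact h0
    · exact h1
  · rintro rfl
    simp

theorem zeros_minus {F : Type*} [Field F] [Fintype F] (k : ℕ) (ζ : F) (hζ : ∀ t : F, t ^ 2 + t + ζ ≠ 0) :
    zeros (Cfsg.quadFormMinus k F 1 ζ) = Fintype.card F ^ k + Fintype.card F ^ 2 * cseq (Fintype.card F) k := by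
  classical
  have h := T_closed (F := F) k (fun z : Fin 2 → F => z 0 ^ 2 + 1 * z 0 * z 1 + ζ * z 1 ^ 2)
  rw [zeros_bin ζ hζ] at h
  simp only [mul_one, Fintype.card_pi, Finset.prod_const, Finset.card_univ, Fintype.card_fin] at h
  rw [← h]
  unfold T
  apply zeros_congr (Equiv.sumArrowEquivProdArrow (Fin k ⊕ Fin k) (Fin 2) F)
  intro v
  simp [Equiv.sumArrowEquivProdArrow, Cfsg.quadFormMinus, Cfsg.quadFormPlus]

/-- The two standard quadratic forms of even dimension 2m over a finite field are not isometric. -/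
theorem result {F : Type*} [Field F] [Finite F] {m : ℕ} (hm : 1 ≤ m) (ζ : F) (hζ : ∀ t : F, t ^ 2 + t + ζ ≠ 0) (g : (Fin m ⊕ Fin m → F) ≃ₗ[F] ((Fin (m - 1) ⊕ Fin (m - 1)) ⊕ Fin 2 → F)) : ¬ (∀ v : Fin m ⊕ Fin m → F, Cfsg.quadFormMinus (m - 1) F 1 ζ (g v) = Cfsg.quadFormPlus m F v) := by
  classical
  intro h
  have := Fintype.ofFinite F
  have heq : zeros (Cfsg.quadFormPlus m F) = zeros (Cfsg.quadFormMinus (m - 1) F 1 ζ) :=
    zeros_congr g.toEquiv _ _ h
  rw [zeros_plus, zeros_minus (m - 1) ζ hζ] at heq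
  obtain ⟨k, rfl⟩ : ∃ k, m = k + 1 := ⟨m - 1, by omega⟩
  simp only [Nat.add_sub_cancel] at heq
  have hq : 2 ≤ Fintype.card F := Fintype.one_lt_card
  have hid := cseq_id (Fintype.card F) (by omega) k
  simp only [cseq] at heq
  obtain ⟨r, hr⟩ : ∃ r, Fintype.card F = r + 2 := ⟨Fintype.card F - 2, by omega⟩
  rw [hr] at heq hid
  simp only [Nat.add_sub_cancel, show r + 2 - 1 = r + 1 by omega] at heq
  have hQ : 0 < (r + 2) ^ k := by positivity
  have h2k : (r + 2) ^ (2 * k) = (r + 2) ^ k * (r + 2) ^ k := by rw [two_mul, pow_add]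
  rw [h2k] at heq hid
  rw [pow_succ] at heq
  set Q := (r + 2) ^ k
  set C := cseq (r + 2) k
  -- heq : Q * (r+2) + ((r+2) * C + (r+1) * (Q*Q)) = Q + (r+2)^2 * C
  -- hid : (r+2) * C + Q = Q * Q
  nlinarith [hQ, heq, hid, Nat.zero_le r, Nat.zero_le C]

end Cfsg.Agent.S2617
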