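import Mathlib
import Cfsg.Agent.S2617
import Cfsg.Agent.Lib_helper13_C2F
import Cfsg.Agent.Lib_helper13_QStd
import Cfsg.Agent.Lib_helper13_Disc2
import Cfsg.Agent.Lib_helper13_Center
import Cfsg.Agent.Lib_helper13_MaxTS2

set_option autoImplicit false

namespace Cfsg.Agent.helper13

open Matrix QuadraticMap Module

section invA
variable {F : Type*} [Field F] {ι : Type} [Fintype ι] [DecidableEq ι]
variable (Q : QuadraticForm F (ι → F))

/-- the fixed space of an isometry. -/
def fixS (t : ↥(Cfsg.isometryGroup F ⇑Q)) : Submodule F (ι → F) :=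
  LinearMap.ker (Matrix.mulVecLin (((t : Matrix.GeneralLinearGroup ι F) : Matrix ι ι F) - 1))

/-- the space `(t-1)V`. -/
def movS (t : ↥(Cfsg.isometryGroup F ⇑Q)) : Submodule F (ι → F) :=
  LinearMap.range (Matrix.mulVecLin (((t : Matrix.GeneralLinearGroup ι F) : Matrix ι ι F) - 1))

theorem mem_fixS (t : ↥(Cfsg.isometryGroup F ⇑Q)) (v : ι → F) :
    v ∈ fixS Q t ↔ iact t v = v := mem_ker_sub_one Q t v

theorem mem_movS (t : ↥(Cfsg.isometryGroup F ⇑Q)) (x : ι → F) :
    x ∈ movS Q t ↔ ∃ v, iact t v - v = x := by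
  unfold movS
  rw [LinearMap.mem_range]
  constructor
  · rintro ⟨v, hv⟩
    refine ⟨v, ?_⟩
    rw [← hv, Matrix.mulVecLin_apply, Matrix.sub_mulVec, Matrix.one_mulVec]
    rfl
  · rintro ⟨v, hv⟩
    refine ⟨v, ?_⟩
    rw [← hv, Matrix.mulVecLin_apply, Matrix.sub_mulVec, Matrix.one_mulVec]
    rfl

theorem finrank_movS_add (t : ↥(Cfsg.isometryGroup F ⇑Q)) :
    finrank F (movS Q t) + finrank F (fixS Q t) = Fintype.card ι := by
  have := LinearMap.finrank_range_add_finrank_ker
    (Matrix.mulVecLin (((t : Matrix.GeneralLinearGroup ι F) : Matrix ι ι F) - 1))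
  rw [Module.finrank_fintype_fun_eq_card] at this
  exact this

theorem movS_le_fixS (h2 : (2 : F) = 0) (t : ↥(Cfsg.isometryGroup F ⇑Q)) (ht : t * t = 1) :
    movS Q t ≤ fixS Q t := by
  intro x hx
  obtain ⟨v, rfl⟩ := (mem_movS Q t x).mp hx
  rw [mem_fixS, iact_sub, ← iact_mul, ht, iact_one, sub_eq_add_of_two h2, sub_eq_add_of_two h2,
    add_comm]

theorem two_finrank_fixS_ge (h2 : (2 : F) = 0) (t : ↥(Cfsg.isometryGroup F ⇑Q))
    (ht : t * t = 1) : Fintype.card ι ≤ 2 * finrank F (fixS Q t) := by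
  have h1 := finrank_movS_add Q t
  have h3 := Submodule.finrank_mono (movS_le_fixS Q h2 t ht)
  omega

/-- an involution either fixes a nonsingular vector or has a maximal t.s. fixed space. -/
theorem fix_nonsing_or_mts (h2 : (2 : F) = 0) (hQ : (polarBilin Q).Nondegenerate) {m : ℕ}
    (hm : Fintype.card ι = 2 * m) (t : ↥(Cfsg.isometryGroup F ⇑Q)) (ht : t * t = 1) :
    (∃ a : ι → F, iact t a = a ∧ Q a ≠ 0) ∨ (MTS Q m (fixS Q t) ∧ movS Q t = fixS Q t) := by
  by_cases h : ∃ a : ι → F, iact t a = a ∧ Q a ≠ 0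
  · left; exact h
  · right
    push Not at h
    have hts : TS Q (fixS Q t) := fun a ha => h a ((mem_fixS Q t a).mp ha)
    have h1 := TS.two_finrank_le Q hQ hts
    have h3 := two_finrank_fixS_ge Q h2 t ht
    have hrk : finrank F (fixS Q t) = m := by omega
    refine ⟨⟨hts, hrk⟩, ?_⟩
    apply Submodule.eq_of_le_of_finrank_eq (movS_le_fixS Q h2 t ht)
    have := finrank_movS_add Q t
    omega

/-- a reflection in a fixed vector commutes. -/
theorem reflG_comm_of_fix (t : ↥(Cfsg.isometryGroup F ⇑Q)) (a : ι → F) (ha : Q a ≠ 0)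
    (hta : iact t a = a) : t * reflG Q a ha = reflG Q a ha * t := by
  have h := reflG_conj Q t a ha
  rw [reflG_congr Q (iact t a) a hta _ ha] at h
  calc t * reflG Q a ha = t * reflG Q a ha * t⁻¹ * t := by group
    _ = reflG Q a ha * t := by rw [h]

end invA

section invB
variable {F : Type*} [Field F] [Fintype F] {ι : Type} [Fintype ι] [DecidableEq ι]
variable (Q : QuadraticForm F (ι → F))

/-- in characteristic two, an involution fixing a nonsingular vector has its `O`-class equal to
its `Ω`-class. -/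
theorem conj_in_omega_of_fix (h2 : (2 : F) = 0) (hQ : (polarBilin Q).Nondegenerate)
    (hne : Fintype.card F ≠ 2 ∨ Fintype.card ι ≠ 4) (hn : 1 ≤ Fintype.card ι)
    (t s : ↥(Cfsg.isometryGroup F ⇑Q)) (a : ι → F) (ha : Q a ≠ 0) (hta : iact t a = a)
    (hconj : IsConj t s) :
    ∃ g ∈ commutator ↥(Cfsg.isometryGroup F ⇑Q), g * t * g⁻¹ = s := by
  obtain ⟨c, hc⟩ := isConj_iff.mp hconj
  by_cases hcO : c ∈ commutator ↥(Cfsg.isometryGroup F ⇑Q)
  · exact ⟨c, hcO, hc⟩
  · refine ⟨c * reflG Q a ha, ?_, ?_⟩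
    · rw [mem_commutator_iff_two Q h2 hQ hne hn (dickson Q h2 hQ) (dickson_reflG Q h2 hQ)]
        at hcO ⊢
      rw [map_mul, dickson_reflG]
      rcases Int.units_eq_one_or (dickson Q h2 hQ c) with h | h
      · exact absurd h hcO
      · rw [h]; rfl
    · have h4 := reflG_comm_of_fix Q t a ha hta
      rw [← hc]
      calc c * reflG Q a ha * t * (c * reflG Q a ha)⁻¹
          = c * (reflG Q a ha * t) * (reflG Q a ha)⁻¹ * c⁻¹ := by group
        _ = c * (t * reflG Q a ha) * (reflG Q a ha)⁻¹ * c⁻¹ := by rw [h4]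
        _ = c * t * c⁻¹ := by group

end invB

section countA
variable {F : Type*} [Field F] [Fintype F]

/-- fibres of a nonzero functional. -/
theorem card_fibre {U : Type*} [AddCommGroup U] [Module F U] [Fintype U] [DecidableEq F]
    (φ : U →ₗ[F] F) (u₀ : U) (h₀ : φ u₀ = 1) (c : F) :
    (Finset.univ.filter (fun u : U => φ u = c)).card * Fintype.card F = Fintype.card U := by
  classical
  rw [← Fintype.card_subtype, ← Fintype.card_prod]
  apply Fintype.card_congr
  exact
    { toFun := fun p => (p.1 : U) + (p.2 - c) • u₀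
      invFun := fun u => (⟨u - (φ u - c) • u₀, by
        rw [map_sub, map_smul, h₀, smul_eq_mul, mul_one]; ring⟩, φ u)
      left_inv := by
        rintro ⟨⟨w, hw⟩, a⟩
        have h1 : φ (w + (a - c) • u₀) = a := by
          rw [map_add, map_smul, h₀, hw, smul_eq_mul, mul_one]; ring
        apply Prod.ext
        · apply Subtype.ext
          simp only [h1]
          abel
        · exact h1
      right_inv := by
        intro u
        simp only
        abel }

variable {ι : Type} [Fintype ι] [DecidableEq ι]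
variable (Q : QuadraticForm F (ι → F))

/-- counting singular vectors in a space with a maximal totally singular subspace of half the
dimension. -/
theorem mts_zero_count (hQ : (polarBilin Q).Nondegenerate) {m : ℕ} (hm : 1 ≤ m)
    (hV : Fintype.card ι = 2 * m) (U : Submodule F (ι → F)) (hU : MTS Q m U) :
    Fintype.card F ^ m * zeros (⇑Q) + Fintype.card F ^ m * Fintype.card F ^ (m - 1) =
      Fintype.card F ^ m * Fintype.card F ^ m +
        Fintype.card F ^ (2 * m) * Fintype.card F ^ (m - 1) := by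
  classical
  set q := Fintype.card F with hq
  have hq1 : 1 ≤ q := Fintype.card_pos
  have hcardU : Fintype.card U = q ^ m := by
    rw [Module.card_eq_pow_finrank (K := F) (V := U), hU.rk]
  have hcardV : Fintype.card (ι → F) = q ^ (2 * m) := by
    rw [Fintype.card_fun, hV]
  have hVf : finrank F (ι → F) = 2 * m := by
    rw [Module.finrank_fintype_fun_eq_card, hV]
  have horth := hU.orth_eq hQ hVf
  -- the double sum
  have h1 : (∑ v : ι → F, ∑ u : U, if Q (v + (u : ι → F)) = 0 then 1 else 0) = q ^ m * zeros (⇑Q) := by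
    rw [Finset.sum_comm]
    have : ∀ u : U, (∑ v : ι → F, if Q (v + (u : ι → F)) = 0 then 1 else 0) = zeros (⇑Q) := by
      intro u
      rw [zeros_eq_sum]
      exact Equiv.sum_comp (Equiv.addRight (u : ι → F)) (fun v => if Q v = 0 then 1 else 0)
    rw [Finset.sum_congr rfl (fun u _ => this u), Finset.sum_const, Finset.card_univ, hcardU,
      smul_eq_mul]
  have h2 : ∀ v : ι → F, (∑ u : U, if Q (v + (u : ι → F)) = 0 then 1 else 0) =
      if v ∈ U then q ^ m else q ^ (m - 1) := by
    intro v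
    by_cases hv : v ∈ U
    · rw [if_pos hv]
      have : ∀ u : U, (if Q (v + (u : ι → F)) = 0 then 1 else 0) = 1 := by
        intro u
        rw [if_pos (hU.ts _ (U.add_mem hv u.2))]
      rw [Finset.sum_congr rfl (fun u _ => this u), Finset.sum_const, Finset.card_univ, hcardU,
        smul_eq_mul, mul_one]
    · rw [if_neg hv]
      have hv' : v ∉ orthQ Q U := by rw [horth]; exact hv
      rw [mem_orth_iff] at hv'
      push Not at hv'
      obtain ⟨u₁, hu₁, hne⟩ := hv'
      set φ : U →ₗ[F] F := (polarBilin Q v).comp U.subtype with hφ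
      have hφa : ∀ u : U, φ u = polar (⇑Q) v (u : ι → F) := fun u => rfl
      have hne' : φ ⟨u₁, hu₁⟩ ≠ 0 := by
        rw [hφa, polar_comm]; exact hne
      have h₀ : φ ((φ ⟨u₁, hu₁⟩)⁻¹ • ⟨u₁, hu₁⟩) = 1 := by
        rw [map_smul, smul_eq_mul, inv_mul_cancel₀ hne']
      have hfib := card_fibre φ _ h₀ (- Q v)
      have : ∀ u : U, (if Q (v + (u : ι → F)) = 0 then 1 else 0) =
          if φ u = - Q v then 1 else 0 := by
        intro u
        have : Q (v + (u : ι → F)) = 0 ↔ φ u = - Q v := by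
          rw [Q_add_polar, hU.ts _ u.2, hφa, add_zero]
          constructor
          · intro h; linear_combination h
          · intro h; linear_combination h
        simp only [this]
      rw [Finset.sum_congr rfl (fun u _ => this u), ← Finset.card_filter]
      rw [hcardU] at hfib
      have hm' : q ^ m = q ^ (m - 1) * q := by
        rw [← pow_succ]; congr 1; omega
      rw [hm'] at hfib
      exact Nat.eq_of_mul_eq_mul_right hq1 hfib
  rw [Finset.sum_congr rfl (fun v _ => h2 v)] at h1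
  rw [← h1]
  have h3 : (∑ v : ι → F, if v ∈ U then q ^ m else q ^ (m - 1)) +
      (∑ v : ι → F, if v ∈ U then q ^ (m - 1) else 0) =
      (∑ v : ι → F, if v ∈ U then q ^ m else 0) + ∑ v : ι → F, q ^ (m - 1) := by
    rw [← Finset.sum_add_distrib, ← Finset.sum_add_distrib]
    apply Finset.sum_congr rfl
    intro v _
    split_ifs <;> ring
  have h4 : ∀ c : ℕ, (∑ v : ι → F, if v ∈ U then c else 0) = q ^ m * c := by
    intro c
    rw [← Finset.sum_filter, Finset.sum_const, smul_eq_mul, ← hcardU, Fintype.card_subtype]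
  rw [h4, h4, Finset.sum_const, Finset.card_univ, hcardV, smul_eq_mul] at h3
  exact h3

end countA

section countB
variable {F : Type*} [Field F] [Fintype F]

theorem zeros_bin_aniso (c d : F)
    (hcd : ∀ z₁ z₂ : F, z₁ ^ 2 + c * z₁ * z₂ + d * z₂ ^ 2 = 0 → z₁ = 0 ∧ z₂ = 0) :
    zeros (fun z : Fin 2 → F => z 0 ^ 2 + c * z 0 * z 1 + d * z 1 ^ 2) = 1 := by
  classical
  unfold zeros
  rw [Finset.card_eq_one]
  refine ⟨0, ?_⟩
  ext z
  simp only [Finset.mem_filter, Finset.mem_univ, true_and, Finset.mem_singleton]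
  constructor
  · intro h
    obtain ⟨h0, h1⟩ := hcd _ _ h
    funext i
    fin_cases i
    · exact h0
    · exact h1
  · rintro rfl
    simp

theorem zeros_minus_aniso (k : ℕ) (c d : F)
    (hcd : ∀ z₁ z₂ : F, z₁ ^ 2 + c * z₁ * z₂ + d * z₂ ^ 2 = 0 → z₁ = 0 ∧ z₂ = 0) :
    zeros (Cfsg.quadFormMinus k F c d) =
      Fintype.card F ^ k + Fintype.card F ^ 2 * Cfsg.Agent.S2617.cseq (Fintype.card F) k := by
  classical
  have h := Cfsg.Agent.S2617.T_closed (F := F) k
    (fun z : Fin 2 → F => z 0 ^ 2 + c * z 0 * z 1 + d * z 1 ^ 2)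
  rw [zeros_bin_aniso c d hcd] at h
  simp only [mul_one, Fintype.card_pi, Finset.prod_const, Finset.card_univ, Fintype.card_fin] at h
  rw [← h]
  unfold Cfsg.Agent.S2617.T
  apply zeros_congr (Equiv.sumArrowEquivProdArrow (Fin k ⊕ Fin k) (Fin 2) F)
  intro v
  simp [Equiv.sumArrowEquivProdArrow, Cfsg.quadFormMinus, Cfsg.quadFormPlus]

/-- the minus-type form has no totally singular subspace of half the dimension. -/
theorem not_mts_minus (k : ℕ) (c d : F)
    (hcd : ∀ z₁ z₂ : F, z₁ ^ 2 + c * z₁ * z₂ + d * z₂ ^ 2 = 0 → z₁ = 0 ∧ z₂ = 0)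
    (hnd : (polarBilin (QMinus F k c d)).Nondegenerate)
    (U : Submodule F ((Fin k ⊕ Fin k) ⊕ Fin 2 → F)) : ¬ MTS (QMinus F k c d) (k + 1) U := by
  intro hU
  have hV : Fintype.card ((Fin k ⊕ Fin k) ⊕ Fin 2) = 2 * (k + 1) := by
    rw [Fintype.card_sum, Fintype.card_sum, Fintype.card_fin, Fintype.card_fin]; ring
  have hA := mts_zero_count (QMinus F k c d) hnd (by omega) hV U hU
  rw [QMinus_coe, zeros_minus_aniso k c d hcd] at hA
  have hC := Cfsg.Agent.S2617.cseq_id (Fintype.card F) Fintype.card_pos k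
  have hq2 : 2 ≤ Fintype.card F := Fintype.one_lt_card
  set q := Fintype.card F with hq
  set C := Cfsg.Agent.S2617.cseq q k with hCdef
  have ha1 : 1 ≤ q ^ k := Nat.one_le_pow _ _ (by omega)
  set a := q ^ k with hadef
  have e1 : q ^ (k + 1) = q * a := by rw [pow_succ]; ring
  have e2 : q ^ (2 * (k + 1)) = q ^ 2 * a ^ 2 := by
    rw [hadef]; ring
  have e3 : q ^ (2 * k) = a ^ 2 := by rw [hadef]; ring
  rw [e1, e2, Nat.add_sub_cancel] at hA
  rw [e3] at hC
  have hAz : ((q : ℤ) * a) * (a + q ^ 2 * C) + (q * a) * a = (q * a) * (q * a) + q ^ 2 * a ^ 2 * a := by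
    exact_mod_cast hA
  have hCz : (q : ℤ) * C + a = a ^ 2 := by exact_mod_cast hC
  have key : (2 : ℤ) * q * a ^ 2 * (1 - q) = 0 := by
    linear_combination hAz - (q : ℤ) ^ 2 * a * hCz
  have hqz : (2 : ℤ) ≤ q := by exact_mod_cast hq2
  have haz : (1 : ℤ) ≤ a := by exact_mod_cast ha1
  have : (2 : ℤ) * q * a ^ 2 ≠ 0 := by positivity
  rcases mul_eq_zero.mp key with h | h
  · exact this h
  · omega

end countB

end Cfsg.Agent.helper13
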