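import Mathlib
import Cfsg.Agent.Lib_helper13_Uni
import Cfsg.Agent.Lib_helper13_ClassChar
import Cfsg.Agent.Lib_helper13_Center

set_option autoImplicit false

namespace Cfsg.Agent.helper13

open Matrix QuadraticMap Module

section tsA
variable {F : Type*} [Field F] {ι : Type} [Fintype ι] [DecidableEq ι]
variable (Q : QuadraticForm F (ι → F))

theorem RU_maps (X : Submodule F (ι → F)) (ρ : ↥(Cfsg.isometryGroup F ⇑Q)) (hρ : ρ ∈ RU Q X) :
    ∀ x ∈ X, iact ρ x ∈ X := by
  unfold RU at hρ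
  induction hρ using Subgroup.closure_induction'' with
  | mem r hr =>
    obtain ⟨w, hwX, hw, rfl⟩ := hr
    intro x hx
    rw [iact_reflG]
    exact X.sub_mem hx (X.smul_mem _ hwX)
  | inv_mem r hr =>
    obtain ⟨w, hwX, hw, rfl⟩ := hr
    intro x hx
    rw [reflG_inv, iact_reflG]
    exact X.sub_mem hx (X.smul_mem _ hwX)
  | one =>
    intro x hx
    rwa [iact_one]
  | mul a b _ _ ha hb =>
    intro x hx
    rw [iact_mul]
    exact ha _ (hb _ hx)

theorem gmap_le_of_RU (X U : Submodule F (ι → F)) (hUX : U ≤ X)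
    (ρ : ↥(Cfsg.isometryGroup F ⇑Q)) (hρ : ρ ∈ RU Q X) : gmap ρ U ≤ X := by
  intro x hx
  obtain ⟨y, hy, rfl⟩ := (mem_gmap ρ U x).mp hx
  exact RU_maps Q X ρ hρ y (hUX hy)

theorem gmap_ts {U : Submodule F (ι → F)} (hU : TS Q U) (ρ : ↥(Cfsg.isometryGroup F ⇑Q)) :
    TS Q (gmap ρ U) := by
  intro x hx
  obtain ⟨y, hy, rfl⟩ := (mem_gmap ρ U x).mp hx
  rw [Q_iact]
  exact hU y hy

theorem gmap_sup (ρ : ↥(Cfsg.isometryGroup F ⇑Q)) (U W : Submodule F (ι → F)) :
    gmap ρ (U ⊔ W) = gmap ρ U ⊔ gmap ρ W := Submodule.map_sup _ _ _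

theorem gmap_span_singleton (ρ : ↥(Cfsg.isometryGroup F ⇑Q)) (w : ι → F) :
    gmap ρ (Submodule.span F {w}) = Submodule.span F {iact ρ w} := by
  unfold gmap
  rw [Submodule.map_span, Set.image_singleton]
  rfl

theorem gmap_eq_of_le (ρ : ↥(Cfsg.isometryGroup F ⇑Q)) (W : Submodule F (ι → F))
    (h : gmap ρ W ≤ W) : gmap ρ W = W :=
  Submodule.eq_of_le_of_finrank_eq h (finrank_gmap ρ W)

theorem gmap_eq_of_fix (ρ : ↥(Cfsg.isometryGroup F ⇑Q)) (W : Submodule F (ι → F))
    (h : ∀ x ∈ W, iact ρ x = x) : gmap ρ W = W := by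
  apply gmap_eq_of_le
  intro x hx
  obtain ⟨y, hy, rfl⟩ := (mem_gmap ρ W x).mp hx
  rw [h y hy]
  exact hy

/-- the reflection moving a singular vector to a non-orthogonal singular vector. -/
theorem refl_sing (u w : ι → F) (hu : Q u = 0) (hw : Q w = 0) (huw : polar (⇑Q) u w ≠ 0) :
    ∃ ha : Q (u - w) ≠ 0, iact (reflG Q (u - w) ha) u = w := by
  have hQa : Q (u - w) = - polar (⇑Q) u w := by
    rw [sub_eq_add_neg, Q_add_polar, QuadraticMap.map_neg, polar_neg_right, hu, hw]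
    ring
  have ha : Q (u - w) ≠ 0 := by rw [hQa]; exact neg_ne_zero.mpr huw
  refine ⟨ha, ?_⟩
  rw [iact_reflG]
  have hpol : polar (⇑Q) (u - w) u = Q (u - w) := by
    rw [polar_sub_left, polar_self', hu, mul_zero, zero_sub, polar_comm, hQa]
  rw [hpol, inv_mul_cancel₀ ha, one_smul]
  abel

omit [Fintype ι] [DecidableEq ι] in
theorem exists_polar_ne_in (X : Submodule F (ι → F)) (hX : NondegOn Q X) (u : ι → F)
    (huX : u ∈ X) (hu0 : u ≠ 0) : ∃ p ∈ X, polar (⇑Q) p u ≠ 0 := by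
  by_contra hcon
  push Not at hcon
  exact hu0 (hX u huX hcon)

/-- transitivity on nonzero singular vectors of a nondegenerate subspace. -/
theorem sing_trans (X : Submodule F (ι → F)) (hX : NondegOn Q X) (u w : ι → F)
    (huX : u ∈ X) (hwX : w ∈ X) (hu0 : u ≠ 0) (hw0 : w ≠ 0) (hu : Q u = 0) (hw : Q w = 0) :
    ∃ ρ ∈ RU Q X, iact ρ u = w := by
  by_cases huw : polar (⇑Q) u w ≠ 0
  · obtain ⟨ha, h⟩ := refl_sing Q u w hu hw huw
    exact ⟨_, reflG_mem_RU Q X _ (X.sub_mem huX hwX) ha, h⟩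
  push Not at huw
  obtain ⟨p, hpX, hp⟩ := exists_polar_ne_in Q X hX u huX hu0
  obtain ⟨q, hqX, hq⟩ := exists_polar_ne_in Q X hX w hwX hw0
  obtain ⟨y, hyX, hyu, hyw⟩ : ∃ y ∈ X, polar (⇑Q) y u ≠ 0 ∧ polar (⇑Q) y w ≠ 0 := by
    by_cases h1 : polar (⇑Q) p w ≠ 0
    · exact ⟨p, hpX, hp, h1⟩
    push Not at h1
    by_cases h2 : polar (⇑Q) q u ≠ 0
    · exact ⟨q, hqX, h2, hq⟩
    push Not at h2
    refine ⟨p + q, X.add_mem hpX hqX, ?_, ?_⟩
    · rw [polar_add_left, h2, add_zero]; exact hp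
    · rw [polar_add_left, h1, zero_add]; exact hq
  set α : F := -(Q y) / polar (⇑Q) y u with hα
  set x : ι → F := y + α • u with hx
  have hxX : x ∈ X := X.add_mem hyX (X.smul_mem _ huX)
  have hαy : α * polar (⇑Q) y u = - Q y := by
    rw [hα]
    field_simp
  have hQx : Q x = 0 := by
    rw [hx, Q_add_polar, QuadraticMap.map_smul, hu, polar_smul_right, smul_eq_mul, smul_eq_mul,
      mul_zero, add_zero, hαy]
    ring
  have hxu : polar (⇑Q) x u ≠ 0 := by
    rw [hx, polar_add_left, polar_smul_left, polar_self', hu, mul_zero, smul_zero, add_zero]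
    exact hyu
  have hxw : polar (⇑Q) x w ≠ 0 := by
    rw [hx, polar_add_left, polar_smul_left, huw, smul_zero, add_zero]
    exact hyw
  obtain ⟨ha, h1⟩ := refl_sing Q u x hu hQx (by rw [polar_comm]; exact hxu)
  obtain ⟨hb, h2⟩ := refl_sing Q x w hQx hw hxw
  refine ⟨reflG Q (x - w) hb * reflG Q (u - x) ha,
    Subgroup.mul_mem _ (reflG_mem_RU Q X _ (X.sub_mem hxX hwX) hb)
      (reflG_mem_RU Q X _ (X.sub_mem huX hxX) ha), ?_⟩
  rw [iact_mul, h1, h2]

/-- a hyperbolic partner inside a nondegenerate subspace. -/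
theorem exists_partner_in (X : Submodule F (ι → F)) (hX : NondegOn Q X) (w : ι → F)
    (hwX : w ∈ X) (hw0 : w ≠ 0) (hw : Q w = 0) :
    ∃ f ∈ X, Q f = 0 ∧ polar (⇑Q) w f = 1 := by
  obtain ⟨p, hpX, hp⟩ := exists_polar_ne_in Q X hX w hwX hw0
  have hwp : polar (⇑Q) w p ≠ 0 := by rwa [polar_comm]
  obtain ⟨p', hp'X, hwp'⟩ : ∃ p' ∈ X, polar (⇑Q) w p' = 1 := by
    refine ⟨(polar (⇑Q) w p)⁻¹ • p, X.smul_mem _ hpX, ?_⟩
    rw [polar_smul_right, smul_eq_mul, inv_mul_cancel₀ hwp]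
  refine ⟨p' - Q p' • w, X.sub_mem hp'X (X.smul_mem _ hwX), ?_, ?_⟩
  · rw [sub_eq_add_neg, Q_add_polar, QuadraticMap.map_neg, QuadraticMap.map_smul, hw,
      polar_neg_right, polar_smul_right, polar_comm (⇑Q) p' w, hwp']
    simp
  · rw [polar_sub_right, polar_smul_right, polar_self', hw, hwp']
    simp

omit [Fintype ι] [DecidableEq ι] in
theorem hyp_dec (X : Submodule F (ι → F)) (w f : ι → F) (hwX : w ∈ X) (hfX : f ∈ X)
    (hw : Q w = 0) (hf : Q f = 0) (hwf : polar (⇑Q) w f = 1) (x : ι → F) (hx : x ∈ X) :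
    x - polar (⇑Q) f x • w - polar (⇑Q) w x • f ∈ planeCompl Q X w f := by
  rw [mem_planeCompl]
  refine ⟨X.sub_mem (X.sub_mem hx (X.smul_mem _ hwX)) (X.smul_mem _ hfX), ?_, ?_⟩
  · rw [polar_sub_right, polar_sub_right, polar_smul_right, polar_smul_right, polar_self', hw,
      hwf]
    simp
  · rw [polar_sub_right, polar_sub_right, polar_smul_right, polar_smul_right, polar_self', hf,
      polar_comm (⇑Q) f w, hwf]
    simp

omit [Fintype ι] [DecidableEq ι] in
theorem hyp_nondeg (X : Submodule F (ι → F)) (hX : NondegOn Q X) (w f : ι → F) (hwX : w ∈ X)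
    (hfX : f ∈ X) (hw : Q w = 0) (hf : Q f = 0) (hwf : polar (⇑Q) w f = 1) :
    NondegOn Q (planeCompl Q X w f) := by
  intro x hx hall
  obtain ⟨hxX, hwx, hfx⟩ := (mem_planeCompl Q X w f x).mp hx
  apply hX x hxX
  intro p hp
  have hdec := hyp_dec Q X w f hwX hfX hw hf hwf p hp
  have := hall _ hdec
  rw [polar_sub_left, polar_sub_left, polar_smul_left, polar_smul_left, hwx, hfx] at this
  simpa using this

omit [Fintype ι] [DecidableEq ι] in
theorem planeCompl_mono {U X : Submodule F (ι → F)} (h : U ≤ X) (w f : ι → F) :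
    planeCompl Q U w f ≤ planeCompl Q X w f := by
  intro x hx
  obtain ⟨hxU, h1, h2⟩ := (mem_planeCompl Q U w f x).mp hx
  exact (mem_planeCompl Q X w f x).mpr ⟨h hxU, h1, h2⟩

omit [Fintype ι] [DecidableEq ι] in
theorem ts_split (U : Submodule F (ι → F)) (hU : TS Q U) (w f : ι → F) (hwU : w ∈ U)
    (hw : Q w = 0) (hwf : polar (⇑Q) w f = 1) :
    planeCompl Q U w f ⊔ Submodule.span F {w} = U ∧ w ∉ planeCompl Q U w f := by
  constructor
  · apply le_antisymm
    · exact sup_le (planeCompl_le Q U w f) ((Submodule.span_singleton_le_iff_mem _ _).mpr hwU)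
    · intro x hx
      have h1 : x - polar (⇑Q) f x • w ∈ planeCompl Q U w f := by
        rw [mem_planeCompl]
        refine ⟨U.sub_mem hx (U.smul_mem _ hwU), ?_, ?_⟩
        · rw [polar_sub_right, polar_smul_right, polar_self', hw, hU.polar_zero hwU hx]
          simp
        · rw [polar_sub_right, polar_smul_right, polar_comm (⇑Q) f w, hwf]
          simp
      have : x = (x - polar (⇑Q) f x • w) + polar (⇑Q) f x • w := by abel
      rw [this]
      exact Submodule.add_mem_sup h1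
        (Submodule.smul_mem _ _ (Submodule.mem_span_singleton_self w))
  · intro h
    have := ((mem_planeCompl Q U w f w).mp h).2.2
    rw [polar_comm, hwf] at this
    exact one_ne_zero this

/-- the reflection group of a nondegenerate subspace is transitive on its totally singular
subspaces of each dimension. -/
theorem ts_trans : ∀ (k : ℕ) (X U W : Submodule F (ι → F)), NondegOn Q X → U ≤ X → W ≤ X →
    TS Q U → TS Q W → finrank F U = k → finrank F W = k → ∃ ρ ∈ RU Q X, gmap ρ U = W := by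
  intro k
  induction k with
  | zero =>
    intro X U W _ _ _ _ _ hU hW
    have hU0 : U = ⊥ := Submodule.finrank_eq_zero.mp hU
    have hW0 : W = ⊥ := Submodule.finrank_eq_zero.mp hW
    refine ⟨1, Subgroup.one_mem _, ?_⟩
    rw [gmap_one, hU0, hW0]
  | succ k ih =>
    intro X U W hX hUX hWX hUts hWts hUk hWk
    obtain ⟨u, huU, hu0⟩ : ∃ u ∈ U, u ≠ 0 := by
      have : U ≠ ⊥ := by
        intro h
        rw [h, finrank_bot] at hUk
        omega
      exact Submodule.exists_mem_ne_zero_of_ne_bot this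
    obtain ⟨w, hwW, hw0⟩ : ∃ w ∈ W, w ≠ 0 := by
      have : W ≠ ⊥ := by
        intro h
        rw [h, finrank_bot] at hWk
        omega
      exact Submodule.exists_mem_ne_zero_of_ne_bot this
    have hQw : Q w = 0 := hWts w hwW
    obtain ⟨ρ₁, hρ₁, hρ₁u⟩ := sing_trans Q X hX u w (hUX huU) (hWX hwW) hu0 hw0
      (hUts u huU) hQw
    have hU'X : gmap ρ₁ U ≤ X := gmap_le_of_RU Q X U hUX ρ₁ hρ₁
    have hU'ts : TS Q (gmap ρ₁ U) := gmap_ts Q hUts ρ₁
    have hU'k : finrank F ↥(gmap ρ₁ U) = k + 1 := by rw [finrank_gmap]; exact hUk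
    have hwU' : w ∈ gmap ρ₁ U := (mem_gmap ρ₁ U w).mpr ⟨u, huU, hρ₁u⟩
    obtain ⟨f, hfX, hf, hwf⟩ := exists_partner_in Q X hX w (hWX hwW) hw0 hQw
    have hX₁ : NondegOn Q (planeCompl Q X w f) :=
      hyp_nondeg Q X hX w f (hWX hwW) hfX hQw hf hwf
    obtain ⟨hUs, hUn⟩ := ts_split Q (gmap ρ₁ U) hU'ts w f hwU' hQw hwf
    obtain ⟨hWs, hWn⟩ := ts_split Q W hWts w f hwW hQw hwf
    have hk1 : finrank F ↥(planeCompl Q (gmap ρ₁ U) w f) = k := by
      have := Submodule.finrank_sup_span_singleton hUn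
      rw [hUs, hU'k] at this
      omega
    have hk2 : finrank F ↥(planeCompl Q W w f) = k := by
      have := Submodule.finrank_sup_span_singleton hWn
      rw [hWs, hWk] at this
      omega
    obtain ⟨ρ₂, hρ₂, hρ₂U⟩ := ih (planeCompl Q X w f) _ _ hX₁
      (planeCompl_mono Q hU'X w f) (planeCompl_mono Q hWX w f)
      (hU'ts.mono (planeCompl_le Q _ w f)) (hWts.mono (planeCompl_le Q _ w f)) hk1 hk2
    have hρ₂w : iact ρ₂ w = w := by
      apply RU_fix Q _ ρ₂ hρ₂ w
      intro x hx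
      rw [polar_comm]
      exact ((mem_planeCompl Q X w f x).mp hx).2.1
    refine ⟨ρ₂ * ρ₁, Subgroup.mul_mem _ (RU_mono Q (planeCompl_le Q X w f) hρ₂) hρ₁, ?_⟩
    rw [gmap_mul]
    calc gmap ρ₂ (gmap ρ₁ U)
        = gmap ρ₂ (planeCompl Q (gmap ρ₁ U) w f ⊔ Submodule.span F {w}) := by rw [hUs]
      _ = planeCompl Q W w f ⊔ Submodule.span F {w} := by
          rw [gmap_sup, hρ₂U, gmap_span_singleton, hρ₂w]
      _ = W := hWs

end tsA

section tsB
variable {F : Type*} [Field F] [Fintype F] [DecidableEq F] {ι : Type} [Fintype ι] [DecidableEq ι]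
variable (Q : QuadraticForm F (ι → F))

omit [Fintype F] [DecidableEq F] in
/-- stabiliser of a subspace in the isometry group. -/
def stabS (W : Submodule F (ι → F)) : Subgroup ↥(Cfsg.isometryGroup F ⇑Q) where
  carrier := {g | gmap g W = W}
  mul_mem' := by
    intro a b ha hb
    have ha' : gmap a W = W := ha
    have hb' : gmap b W = W := hb
    show gmap (a * b) W = W
    rw [gmap_mul, hb', ha']
  one_mem' := gmap_one W
  inv_mem' := by
    intro a ha
    have ha' : gmap a W = W := ha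
    show gmap a⁻¹ W = W
    calc gmap a⁻¹ W = gmap a⁻¹ (gmap a W) := by rw [ha']
      _ = W := by rw [← gmap_mul, inv_mul_cancel, gmap_one]

omit [Fintype F] [DecidableEq F] in
theorem mem_stabS (W : Submodule F (ι → F)) (g : ↥(Cfsg.isometryGroup F ⇑Q)) :
    g ∈ stabS Q W ↔ gmap g W = W := Iff.rfl

omit [Fintype F] [DecidableEq F] [Fintype ι] [DecidableEq ι] in
theorem adjust_abs {G : Type*} [Group G] (θ δ : G →* ℤˣ) (S : Subgroup G) (s₁ s₂ : G)
    (hs₁ : s₁ ∈ S) (hs₂ : s₂ ∈ S) (h1 : δ s₁ = -1) (h2 : θ s₂ = -1) (h3 : δ s₂ = 1) (ρ : G) :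
    ∃ s ∈ S, θ s = θ ρ ∧ δ s = δ ρ := by
  rcases Int.units_eq_one_or (δ ρ) with hd | hd
  · rcases Int.units_eq_one_or (θ ρ) with ht | ht
    · exact ⟨1, S.one_mem, by rw [map_one, ht], by rw [map_one, hd]⟩
    · exact ⟨s₂, hs₂, by rw [h2, ht], by rw [h3, hd]⟩
  · rcases Int.units_eq_one_or (θ ρ) with ht | ht <;>
      rcases Int.units_eq_one_or (θ s₁) with hs | hs
    · exact ⟨s₁, hs₁, by rw [hs, ht], by rw [h1, hd]⟩
    · exact ⟨s₁ * s₂, S.mul_mem hs₁ hs₂, by simp [map_mul, hs, h2, ht],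
        by simp [map_mul, h1, h3, hd]⟩
    · exact ⟨s₁ * s₂, S.mul_mem hs₁ hs₂, by simp [map_mul, hs, h2, ht],
        by simp [map_mul, h1, h3, hd]⟩
    · exact ⟨s₁, hs₁, by rw [hs, ht], by rw [h1, hd]⟩

omit [Fintype F] [DecidableEq F] [DecidableEq ι] in
theorem exists_nonsing_orth_ts (hQ : (polarBilin Q).Nondegenerate) (W : Submodule F (ι → F))
    (hW : TS Q W) (h : 2 * finrank F W < Fintype.card ι) : ∃ y ∈ orthQ Q W, Q y ≠ 0 := by
  by_contra hcon
  push Not at hcon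
  have hts : TS Q (orthQ Q W) := fun y hy => hcon y hy
  have h1 := TS.two_finrank_le Q hQ hts
  have h2 : finrank F (orthQ Q W) = Fintype.card ι - finrank F W := by
    have := LinearMap.BilinForm.finrank_orthogonal hQ W
    rwa [Module.finrank_fintype_fun_eq_card] at this
  have h3 : finrank F W ≤ Fintype.card ι := by
    rw [← Module.finrank_fintype_fun_eq_card (R := F) (η := ι)]
    exact Submodule.finrank_le _
  omega

omit [Fintype F] [DecidableEq F] in
theorem reflG_mem_stabS_of_orth (W : Submodule F (ι → F)) (y : ι → F) (hy : y ∈ orthQ Q W)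
    (hy0 : Q y ≠ 0) : reflG Q y hy0 ∈ stabS Q W := by
  apply gmap_eq_of_fix
  intro x hx
  apply iact_reflG_of_polar
  rw [polar_comm]
  exact (mem_orth_iff Q W y).mp hy x hx

/-- a Levi-type element of the stabiliser of a totally singular subspace with nonsquare spinor
norm and determinant one. -/
theorem exists_levi (h2 : (2 : F) ≠ 0) (hQ : (polarBilin Q).Nondegenerate)
    (θ δ : ↥(Cfsg.isometryGroup F ⇑Q) →* ℤˣ) (hθ : IsTheta Q θ) (hδ : IsDelta Q δ)
    (W : Submodule F (ι → F)) (hW : TS Q W) (hW0 : W ≠ ⊥) :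
    ∃ s ∈ stabS Q W, θ s = -1 ∧ δ s = 1 := by
  classical
  obtain ⟨w, hwW, hw0⟩ := Submodule.exists_mem_ne_zero_of_ne_bot hW0
  have hQw := hW w hwW
  obtain ⟨f, -, hf, hwf⟩ := exists_partner_in Q ⊤ (nondegOn_top Q hQ) w Submodule.mem_top hw0 hQw
  obtain ⟨a, ha⟩ := FiniteField.exists_nonsquare (ringChar_ne_two_of (F := F) h2)
  have ha0 : a ≠ 0 := by
    rintro rfl
    exact ha ⟨0, by ring⟩
  have hQx : Q (w - a • f) = -a := by
    rw [sub_eq_add_neg, Q_add_polar, QuadraticMap.map_neg, QuadraticMap.map_smul, hQw, hf,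
      polar_neg_right, polar_smul_right, hwf]
    simp
  have hQy : Q (w - f) = -1 := by
    rw [sub_eq_add_neg, Q_add_polar, QuadraticMap.map_neg, hQw, hf, polar_neg_right, hwf]
    simp
  have hx0 : Q (w - a • f) ≠ 0 := by rw [hQx]; exact neg_ne_zero.mpr ha0
  have hy0 : Q (w - f) ≠ 0 := by rw [hQy]; exact neg_ne_zero.mpr one_ne_zero
  refine ⟨reflG Q (w - a • f) hx0 * reflG Q (w - f) hy0, ?_, ?_, ?_⟩
  · apply gmap_eq_of_le
    intro z hz
    obtain ⟨z', hz', rfl⟩ := (mem_gmap _ W z).mp hz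
    obtain ⟨hs, -⟩ := ts_split Q W hW w f hwW hQw hwf
    rw [← hs] at hz'
    obtain ⟨z₁, hz₁, c', hc', rfl⟩ := Submodule.mem_sup.mp hz'
    obtain ⟨c, rfl⟩ := Submodule.mem_span_singleton.mp hc'
    obtain ⟨hz₁W, hwz₁, hfz₁⟩ := (mem_planeCompl Q W w f z₁).mp hz₁
    have e1 : iact (reflG Q (w - a • f) hx0 * reflG Q (w - f) hy0) z₁ = z₁ := by
      rw [iact_mul, iact_reflG_of_polar Q (w - f) hy0 z₁
          (by rw [polar_sub_left, hwz₁, hfz₁, sub_zero]),
        iact_reflG_of_polar Q (w - a • f) hx0 z₁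
          (by rw [polar_sub_left, polar_smul_left, hwz₁, hfz₁, smul_zero, sub_zero])]
    have key2 : ∀ c : F, c = 1 → w - c • (w - f) = f := by
      rintro c rfl
      rw [one_smul]
      abel
    have e2 : iact (reflG Q (w - f) hy0) w = f := by
      rw [iact_reflG, hQy, polar_sub_left, polar_self', hQw, polar_comm (⇑Q) f w, hwf]
      apply key2
      simp
    have key3 : ∀ c : F, c = -a⁻¹ → f - c • (w - a • f) = a⁻¹ • w := by
      rintro c rfl
      rw [neg_smul, sub_neg_eq_add, smul_sub, smul_smul, inv_mul_cancel₀ ha0, one_smul]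
      abel
    have e3 : iact (reflG Q (w - a • f) hx0) f = a⁻¹ • w := by
      rw [iact_reflG, hQx, polar_sub_left, polar_smul_left, polar_self', hf, hwf]
      apply key3
      simp [inv_neg]
    rw [iact_add, iact_smul, e1, iact_mul, e2, e3]
    exact W.add_mem hz₁W (W.smul_mem _ (W.smul_mem _ hwW))
  · rw [map_mul]
    have t1 := hθ (w - a • f) hx0
    have t2 := hθ (w - f) hy0
    apply Units.ext
    rw [Units.val_mul, t1, t2, hQx, hQy, ← map_mul]
    have : (-a) * (-1) = a := by ring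
    rw [this, quadraticChar_neg_one_iff_not_isSquare.mpr ha]
    rfl
  · rw [map_mul, hδ _ hx0, hδ _ hy0]
    simp

/-- the commutator subgroup is transitive on totally singular subspaces of a given dimension less
than half the dimension. -/
theorem exists_omega_ts (hQ : (polarBilin Q).Nondegenerate)
    (hne : Fintype.card F ≠ 2 ∨ Fintype.card ι ≠ 4) (U W : Submodule F (ι → F)) (k : ℕ)
    (hk : 2 * k < Fintype.card ι) (hUk : finrank F U = k) (hWk : finrank F W = k)
    (hU : TS Q U) (hW : TS Q W) :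
    ∃ g ∈ commutator ↥(Cfsg.isometryGroup F ⇑Q), gmap g U = W := by
  classical
  obtain ⟨ρ, -, hρ⟩ := ts_trans Q k ⊤ U W (nondegOn_top Q hQ) le_top le_top hU hW hUk hWk
  obtain ⟨y, hy, hy0⟩ := exists_nonsing_orth_ts Q hQ W hW (by rw [hWk]; exact hk)
  have hs₁ := reflG_mem_stabS_of_orth Q W y hy hy0
  obtain ⟨θ, δ, hθ, hδ⟩ := exists_theta_delta Q hQ
  have fin : ∀ s ∈ stabS Q W, θ s = θ ρ → δ s = δ ρ →
      ∃ g ∈ commutator ↥(Cfsg.isometryGroup F ⇑Q), gmap g U = W := by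
    intro s hs h1 h2
    refine ⟨s⁻¹ * ρ, ?_, ?_⟩
    · rw [mem_commutator_iff_all Q hQ hne θ δ hθ hδ, map_mul, map_mul, map_inv, map_inv, h1, h2,
        inv_mul_cancel, inv_mul_cancel]
      exact ⟨rfl, rfl⟩
    · rw [gmap_mul, hρ]
      exact (stabS Q W).inv_mem hs
  by_cases h2 : (2 : F) = 0
  · have hθ1 : ∀ g, θ g = 1 := by
      have : θ = 1 := by
        apply hom_ext_all Q hQ hne
        intro w hw
        have := hθ w hw
        rw [quadraticChar_of_two h2 hw] at this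
        rw [MonoidHom.one_apply]
        exact Units.ext this
      intro g
      rw [this]
      rfl
    rcases Int.units_eq_one_or (δ ρ) with hd | hd
    · exact fin 1 (Subgroup.one_mem _) (by rw [hθ1, hθ1]) (by rw [map_one, hd])
    · exact fin _ hs₁ (by rw [hθ1, hθ1]) (by rw [hδ y hy0, hd])
  · by_cases hW0 : W = ⊥
    · have hk0 : k = 0 := by rw [← hWk, hW0, finrank_bot]
      have hU0 : U = ⊥ := Submodule.finrank_eq_zero.mp (by rw [hUk, hk0])
      exact ⟨1, Subgroup.one_mem _, by rw [gmap_one, hU0, hW0]⟩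
    · obtain ⟨s₂, hs₂, ht₂, hd₂⟩ := exists_levi Q h2 hQ θ δ hθ hδ W hW hW0
      obtain ⟨s, hs, e1, e2⟩ := adjust_abs θ δ (stabS Q W) _ s₂ hs₁ hs₂ (hδ y hy0) ht₂ hd₂ ρ
      exact fin s hs e1 e2

end tsB

end Cfsg.Agent.helper13
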