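import Mathlib
import Cfsg.Agent.Lib_helper13_TsTrans
import Cfsg.Agent.Lib_helper13_InvCls

set_option autoImplicit false

namespace Cfsg.Agent.helper13

open Matrix QuadraticMap Module

section wnA
variable {F : Type*} [Field F] [Fintype F] {ι : Type} [Fintype ι] [DecidableEq ι]
variable (Q : QuadraticForm F (ι → F))

omit [Fintype F] [Fintype ι] [DecidableEq ι] in
theorem polar_of_isom (U : Submodule F (ι → F)) (e : (ι → F) →ₗ[F] (ι → F))
    (he : ∀ u ∈ U, Q (e u) = Q u) (a b : ι → F) (ha : a ∈ U) (hb : b ∈ U) :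
    polar (⇑Q) (e a) (e b) = polar (⇑Q) a b := by
  unfold polar
  rw [← map_add, he _ (U.add_mem ha hb), he a ha, he b hb]

omit [Fintype F] in
/-- the linear map of an isometry. -/
def ilin (g : ↥(Cfsg.isometryGroup F ⇑Q)) : (ι → F) →ₗ[F] (ι → F) :=
  Matrix.mulVecLin ((g : Matrix.GeneralLinearGroup ι F) : Matrix ι ι F)

omit [Fintype F] in
theorem ilin_apply (g : ↥(Cfsg.isometryGroup F ⇑Q)) (x : ι → F) : ilin Q g x = iact g x := rfl

omit [Fintype F] in
/-- Witt's extension theorem for nondegenerate subspaces, odd characteristic. -/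
theorem witt_odd (h2 : (2 : F) ≠ 0) :
    ∀ (d : ℕ) (X U : Submodule F (ι → F)), finrank F U = d → U ≤ X → NondegOn Q U →
    ∀ e : (ι → F) →ₗ[F] (ι → F), (∀ u ∈ U, e u ∈ X) → (∀ u ∈ U, Q (e u) = Q u) →
    ∃ ρ ∈ RU Q X, ∀ u ∈ U, iact ρ u = e u := by
  intro d
  induction d with
  | zero =>
    intro X U hd _ _ e _ _
    have hU0 : U = ⊥ := Submodule.finrank_eq_zero.mp hd
    refine ⟨1, Subgroup.one_mem _, ?_⟩
    intro u hu
    rw [hU0, Submodule.mem_bot] at hu
    rw [hu, iact_zero, map_zero]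
  | succ d ih =>
    intro X U hd hUX hU e heX heQ
    have hUne : U ≠ ⊥ := by
      intro h
      rw [h, finrank_bot] at hd
      omega
    obtain ⟨y, hyU, hy⟩ := exists_nonsingular Q U hU hUne
    have hey : Q (e y) = Q y := heQ y hyU
    obtain ⟨ρ₁, hρ₁, hρ₁y⟩ := exists_RU_map Q h2 X y (e y) (hUX hyU) (heX y hyU) hey.symm
      (by rw [hey]; exact hy)
    have hyy : polar (⇑Q) y y ≠ 0 := by
      rw [polar_self']
      exact mul_ne_zero h2 hy
    have hperp : ∀ x, x ∈ orthQ Q (Submodule.span F {y}) ↔ polar (⇑Q) y x = 0 :=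
      fun x => mem_orth_singleton_iff Q y x
    have hdec : ∀ u ∈ U, u - ((polar (⇑Q) y y)⁻¹ * polar (⇑Q) y u) • y ∈
        U ⊓ orthQ Q (Submodule.span F {y}) := by
      intro u hu
      rw [Submodule.mem_inf, hperp]
      refine ⟨U.sub_mem hu (U.smul_mem _ hyU), ?_⟩
      rw [polar_sub_right, polar_smul_right, smul_eq_mul, mul_assoc, mul_comm _ (polar (⇑Q) y y),
        ← mul_assoc, inv_mul_cancel₀ hyy, one_mul, sub_self]
    have hU₁nd : NondegOn Q (U ⊓ orthQ Q (Submodule.span F {y})) := by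
      intro x hx hall
      obtain ⟨hxU, hxo⟩ := Submodule.mem_inf.mp hx
      rw [hperp] at hxo
      apply hU x hxU
      intro u hu
      have h1 := hall _ (hdec u hu)
      rw [polar_sub_left, polar_smul_left, hxo, smul_zero, sub_zero] at h1
      exact h1
    have hU₁rk : finrank F ↥(U ⊓ orthQ Q (Submodule.span F {y})) = d := by
      have hyn : y ∉ U ⊓ orthQ Q (Submodule.span F {y}) := by
        intro h
        have := (Submodule.mem_inf.mp h).2
        rw [hperp] at this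
        exact hyy this
      have hsup : (U ⊓ orthQ Q (Submodule.span F {y})) ⊔ Submodule.span F {y} = U := by
        apply le_antisymm
        · exact sup_le inf_le_left ((Submodule.span_singleton_le_iff_mem _ _).mpr hyU)
        · intro u hu
          have : u = (u - ((polar (⇑Q) y y)⁻¹ * polar (⇑Q) y u) • y) +
              ((polar (⇑Q) y y)⁻¹ * polar (⇑Q) y u) • y := by abel
          rw [this]
          exact Submodule.add_mem_sup (hdec u hu)
            (Submodule.smul_mem _ _ (Submodule.mem_span_singleton_self y))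
      have := Submodule.finrank_sup_span_singleton hyn
      rw [hsup, hd] at this
      omega
    have he₁X : ∀ u ∈ U ⊓ orthQ Q (Submodule.span F {y}),
        ((ilin Q ρ₁⁻¹).comp e) u ∈ X ⊓ orthQ Q (Submodule.span F {y}) := by
      intro u hu
      obtain ⟨huU, huo⟩ := Submodule.mem_inf.mp hu
      rw [hperp] at huo
      rw [Submodule.mem_inf, hperp]
      constructor
      · exact RU_maps Q X ρ₁⁻¹ (Subgroup.inv_mem _ hρ₁) _ (heX u huU)
      · show polar (⇑Q) y (iact ρ₁⁻¹ (e u)) = 0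
        have : polar (⇑Q) y (iact ρ₁⁻¹ (e u)) =
            polar (⇑Q) (iact ρ₁ y) (iact ρ₁ (iact ρ₁⁻¹ (e u))) := (polar_iact ρ₁ _ _).symm
        rw [this, iact_iact_inv, hρ₁y, polar_of_isom Q U e heQ y u hyU huU, huo]
    have he₁Q : ∀ u ∈ U ⊓ orthQ Q (Submodule.span F {y}), Q (((ilin Q ρ₁⁻¹).comp e) u) = Q u := by
      intro u hu
      show Q (iact ρ₁⁻¹ (e u)) = Q u
      rw [Q_iact, heQ u (Submodule.mem_inf.mp hu).1]
    obtain ⟨ρ₂, hρ₂, hρ₂U⟩ := ih (X ⊓ orthQ Q (Submodule.span F {y}))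
      (U ⊓ orthQ Q (Submodule.span F {y})) hU₁rk (inf_le_inf_right _ hUX) hU₁nd _ he₁X he₁Q
    have hρ₂y : iact ρ₂ y = y := by
      apply RU_fix Q _ ρ₂ hρ₂ y
      intro x hx
      have := (Submodule.mem_inf.mp hx).2
      rw [hperp] at this
      rw [polar_comm]
      exact this
    refine ⟨ρ₁ * ρ₂, Subgroup.mul_mem _ hρ₁ (RU_mono Q inf_le_left hρ₂), ?_⟩
    intro u hu
    have hu' : u = (u - ((polar (⇑Q) y y)⁻¹ * polar (⇑Q) y u) • y) +
        ((polar (⇑Q) y y)⁻¹ * polar (⇑Q) y u) • y := by abel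
    have h1 : iact (ρ₁ * ρ₂) (u - ((polar (⇑Q) y y)⁻¹ * polar (⇑Q) y u) • y) =
        e (u - ((polar (⇑Q) y y)⁻¹ * polar (⇑Q) y u) • y) := by
      rw [iact_mul, hρ₂U _ (hdec u hu)]
      show iact ρ₁ (iact ρ₁⁻¹ (e _)) = e _
      rw [iact_iact_inv]
    have h3 : iact (ρ₁ * ρ₂) y = e y := by rw [iact_mul, hρ₂y, hρ₁y]
    calc iact (ρ₁ * ρ₂) u
        = iact (ρ₁ * ρ₂) ((u - ((polar (⇑Q) y y)⁻¹ * polar (⇑Q) y u) • y) +
            ((polar (⇑Q) y y)⁻¹ * polar (⇑Q) y u) • y) := by rw [← hu']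
      _ = e (u - ((polar (⇑Q) y y)⁻¹ * polar (⇑Q) y u) • y) +
            ((polar (⇑Q) y y)⁻¹ * polar (⇑Q) y u) • e y := by
          rw [iact_add, iact_smul, h1, h3]
      _ = e ((u - ((polar (⇑Q) y y)⁻¹ * polar (⇑Q) y u) • y) +
            ((polar (⇑Q) y y)⁻¹ * polar (⇑Q) y u) • y) := by rw [map_add, map_smul]
      _ = e u := by rw [← hu']

/-- Witt's extension theorem for nondegenerate subspaces, characteristic two, away from the
exceptional configuration. -/
theorem witt_two (h2 : (2 : F) = 0) (hQ : (polarBilin Q).Nondegenerate) :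
    ∀ (d : ℕ) (X U : Submodule F (ι → F)), finrank F U = d → U ≤ X → NondegOn Q U →
    NondegOn Q X → (Fintype.card F ≠ 2 ∨ finrank F U + 4 ≤ finrank F X) →
    ∀ e : (ι → F) →ₗ[F] (ι → F), (∀ u ∈ U, e u ∈ X) → (∀ u ∈ U, Q (e u) = Q u) →
    ∃ ρ ∈ RU Q X, ∀ u ∈ U, iact ρ u = e u := by
  intro d
  induction d using Nat.strong_induction_on with
  | _ d ih =>
  intro X U hd hUX hU hX hcond e heX heQ
  by_cases hUb : U = ⊥
  · refine ⟨1, Subgroup.one_mem _, ?_⟩
    intro u hu
    rw [hUb, Submodule.mem_bot] at hu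
    rw [hu, iact_zero, map_zero]
  obtain ⟨y, hyU, hy⟩ := exists_nonsingular Q U hU hUb
  have hy0 : y ≠ 0 := by
    rintro rfl
    exact hy (QuadraticMap.map_zero Q)
  obtain ⟨z, hzU, hyz⟩ : ∃ z ∈ U, polar (⇑Q) y z = 1 := by
    obtain ⟨p, hpU, hp⟩ := exists_polar_ne_in Q U hU y hyU hy0
    have hyp : polar (⇑Q) y p ≠ 0 := by rwa [polar_comm]
    exact ⟨(polar (⇑Q) y p)⁻¹ • p, U.smul_mem _ hpU, by
      rw [polar_smul_right, smul_eq_mul, inv_mul_cancel₀ hyp]⟩
  have hzy : polar (⇑Q) z y = 1 := by rw [polar_comm]; exact hyz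
  have hfrU := planeCompl_finrank Q h2 U y z hyU hzU hyz
  have hfrX := planeCompl_finrank Q h2 X y z (hUX hyU) (hUX hzU) hyz
  have hexc : ¬ Exc Q X := by
    rintro ⟨hF, h4, -⟩
    rcases hcond with hc | hc
    · exact hc hF
    · omega
  have hey : Q (e y) = Q y := heQ y hyU
  obtain ⟨ρ₁, hρ₁, hρ₁y⟩ := lemA Q h2 hQ X hX hexc y (e y) (hUX hyU) (heX y hyU) hy hey.symm
  have hz''X : iact ρ₁ (e z) ∈ X := RU_maps Q X ρ₁ hρ₁ _ (heX z hzU)
  have hyz'' : polar (⇑Q) y (iact ρ₁ (e z)) = 1 := by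
    have : polar (⇑Q) y (iact ρ₁ (e z)) = polar (⇑Q) (iact ρ₁ (e y)) (iact ρ₁ (e z)) := by
      rw [hρ₁y]
    rw [this, polar_iact, polar_of_isom Q U e heQ y z hyU hzU, hyz]
  have hQz'' : Q z = Q (iact ρ₁ (e z)) := by rw [Q_iact, heQ z hzU]
  obtain ⟨ρ₂, hρ₂, hρ₂z⟩ := lemB Q h2 X y z (iact ρ₁ (e z)) (hUX hyU) (hUX hzU) hz''X hy hyz
    hyz'' hQz''
  have hρ₂X : ρ₂ ∈ RU Q X := RU_mono Q inf_le_left hρ₂
  have hρ₂y : iact ρ₂ y = y := by
    apply RU_fix Q _ ρ₂ hρ₂ y
    intro u hu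
    have := (Submodule.mem_inf.mp hu).2
    rw [mem_orth_singleton_iff] at this
    rw [polar_comm]
    exact this
  have hσX : ρ₂ * ρ₁ ∈ RU Q X := Subgroup.mul_mem _ hρ₂X hρ₁
  have hσy : iact (ρ₂ * ρ₁) (e y) = y := by rw [iact_mul, hρ₁y, hρ₂y]
  have hσz : iact (ρ₂ * ρ₁) (e z) = z := by rw [iact_mul]; exact hρ₂z
  have he₁X : ∀ u ∈ planeCompl Q U y z, ((ilin Q (ρ₂ * ρ₁)).comp e) u ∈ planeCompl Q X y z := by
    intro u hu
    obtain ⟨huU, hyu, hzu⟩ := (mem_planeCompl Q U y z u).mp hu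
    rw [mem_planeCompl]
    refine ⟨RU_maps Q X _ hσX _ (heX u huU), ?_, ?_⟩
    · show polar (⇑Q) y (iact (ρ₂ * ρ₁) (e u)) = 0
      have : polar (⇑Q) y (iact (ρ₂ * ρ₁) (e u)) =
          polar (⇑Q) (iact (ρ₂ * ρ₁) (e y)) (iact (ρ₂ * ρ₁) (e u)) := by rw [hσy]
      rw [this, polar_iact, polar_of_isom Q U e heQ y u hyU huU, hyu]
    · show polar (⇑Q) z (iact (ρ₂ * ρ₁) (e u)) = 0
      have : polar (⇑Q) z (iact (ρ₂ * ρ₁) (e u)) =
          polar (⇑Q) (iact (ρ₂ * ρ₁) (e z)) (iact (ρ₂ * ρ₁) (e u)) := by rw [hσz]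
      rw [this, polar_iact, polar_of_isom Q U e heQ z u hzU huU, hzu]
  have he₁Q : ∀ u ∈ planeCompl Q U y z, Q (((ilin Q (ρ₂ * ρ₁)).comp e) u) = Q u := by
    intro u hu
    show Q (iact (ρ₂ * ρ₁) (e u)) = Q u
    rw [Q_iact, heQ u (planeCompl_le Q U y z hu)]
  have hU₁nd := planeCompl_nondeg Q h2 U hU y z hyU hzU hyz
  have hX₁nd := planeCompl_nondeg Q h2 X hX y z (hUX hyU) (hUX hzU) hyz
  have hcond₁ : Fintype.card F ≠ 2 ∨
      finrank F ↥(planeCompl Q U y z) + 4 ≤ finrank F ↥(planeCompl Q X y z) := by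
    rcases hcond with h | h
    · left; exact h
    · right; omega
  obtain ⟨ρ₃, hρ₃, hρ₃U⟩ := ih (finrank F ↥(planeCompl Q U y z)) (by omega) (planeCompl Q X y z)
    (planeCompl Q U y z) rfl (planeCompl_mono Q hUX y z) hU₁nd hX₁nd hcond₁ _ he₁X he₁Q
  have hρ₃y : iact ρ₃ y = y := by
    apply RU_fix Q _ ρ₃ hρ₃ y
    intro x hx
    rw [polar_comm]
    exact ((mem_planeCompl Q X y z x).mp hx).2.1
  have hρ₃z : iact ρ₃ z = z := by
    apply RU_fix Q _ ρ₃ hρ₃ z
    intro x hx
    rw [polar_comm]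
    exact ((mem_planeCompl Q X y z x).mp hx).2.2
  refine ⟨(ρ₂ * ρ₁)⁻¹ * ρ₃, Subgroup.mul_mem _ (Subgroup.inv_mem _ hσX)
    (RU_mono Q (planeCompl_le Q X y z) hρ₃), ?_⟩
  intro u hu
  have hdec := planeCompl_dec Q h2 U y z hyU hzU hyz u hu
  have hu' : u = (u - polar (⇑Q) z u • y - polar (⇑Q) y u • z) + polar (⇑Q) z u • y +
      polar (⇑Q) y u • z := by abel
  have a1 : iact ((ρ₂ * ρ₁)⁻¹ * ρ₃) y = e y := by
    rw [iact_mul, hρ₃y, ← hσy, iact_inv_iact, hσy]
  have a2 : iact ((ρ₂ * ρ₁)⁻¹ * ρ₃) z = e z := by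
    rw [iact_mul, hρ₃z, ← hσz, iact_inv_iact, hσz]
  have a3 : iact ((ρ₂ * ρ₁)⁻¹ * ρ₃) (u - polar (⇑Q) z u • y - polar (⇑Q) y u • z) =
      e (u - polar (⇑Q) z u • y - polar (⇑Q) y u • z) := by
    rw [iact_mul, hρ₃U _ hdec]
    show iact (ρ₂ * ρ₁)⁻¹ (iact (ρ₂ * ρ₁) (e _)) = e _
    rw [iact_inv_iact]
  calc iact ((ρ₂ * ρ₁)⁻¹ * ρ₃) u
      = iact ((ρ₂ * ρ₁)⁻¹ * ρ₃) ((u - polar (⇑Q) z u • y - polar (⇑Q) y u • z) +
          polar (⇑Q) z u • y + polar (⇑Q) y u • z) := by rw [← hu']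
    _ = e (u - polar (⇑Q) z u • y - polar (⇑Q) y u • z) + polar (⇑Q) z u • e y +
          polar (⇑Q) y u • e z := by
        rw [iact_add, iact_add, iact_smul, iact_smul, a1, a2, a3]
    _ = e ((u - polar (⇑Q) z u • y - polar (⇑Q) y u • z) + polar (⇑Q) z u • y +
          polar (⇑Q) y u • z) := by rw [map_add, map_add, map_smul, map_smul]
    _ = e u := by rw [← hu']

end wnA

section wnB
variable {F : Type*} [Field F] [Fintype F] {ι : Type} [Fintype ι] [DecidableEq ι]
variable (Q : QuadraticForm F (ι → F))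

open Classical in
/-- the sign attached to an element of the field with two elements. -/
noncomputable def sgn2 (x : F) : ℤ := if x = 0 then 1 else -1

omit [Fintype F] in
theorem sgn2_zero : sgn2 (0 : F) = 1 := by
  unfold sgn2
  rw [if_pos rfl]

omit [Fintype F] in
theorem sgn2_of_ne {x : F} (h : x ≠ 0) : sgn2 x = -1 := by
  unfold sgn2
  rw [if_neg h]

omit [Fintype F] in
theorem sgn2_mul_self (x : F) : sgn2 x * sgn2 x = 1 := by
  by_cases h : x = 0
  · rw [h, sgn2_zero]; rfl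
  · rw [sgn2_of_ne h]; rfl

theorem sgn2_add (hF : Fintype.card F = 2) (h2 : (2 : F) = 0) (a b : F) :
    sgn2 (a + b) = sgn2 a * sgn2 b := by
  have h11 : (1 : F) + 1 = 0 := by rw [one_add_one_eq_two, h2]
  rcases F2_cases hF a with rfl | rfl <;> rcases F2_cases hF b with rfl | rfl
  · rw [add_zero, sgn2_zero]; rfl
  · rw [zero_add, sgn2_zero, one_mul]
  · rw [add_zero, sgn2_zero, mul_one]
  · rw [h11, sgn2_zero, sgn2_of_ne one_ne_zero]; rfl

/-- the Gauss sum of a subspace. -/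
noncomputable def gauss (A : Submodule F (ι → F)) [Fintype A] : ℤ :=
  ∑ a : A, sgn2 (Q (a : ι → F))

omit [Fintype F] [Fintype ι] [DecidableEq ι] in
theorem gauss_congr (U W : Submodule F (ι → F)) [Fintype U] [Fintype W] (e : U ≃ₗ[F] W)
    (he : ∀ u : U, Q ((e u : W) : ι → F) = Q (u : ι → F)) : gauss Q U = gauss Q W := by
  unfold gauss
  apply Fintype.sum_equiv e.toEquiv
  intro u
  rw [LinearEquiv.coe_toEquiv, he]

theorem nondegOn_orth (hQ : (polarBilin Q).Nondegenerate) (U : Submodule F (ι → F))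
    (hU : NondegOn Q U) : NondegOn Q (orthQ Q U) := by
  intro x hx hall
  have h1 : x ∈ orthQ Q (orthQ Q U) := (mem_orth_iff Q _ x).mpr hall
  rw [orth_orth Q hQ] at h1
  have h3 : x ∈ U ⊓ orthQ Q U := Submodule.mem_inf.mpr ⟨h1, hx⟩
  rw [inf_orth_self_eq_bot Q U hU, Submodule.mem_bot] at h3
  exact h3

theorem isCompl_orth (hQ : (polarBilin Q).Nondegenerate) (U : Submodule F (ι → F))
    (hU : NondegOn Q U) : IsCompl U (orthQ Q U) := by
  have hd : Disjoint U (orthQ Q U) := disjoint_iff.mpr (inf_orth_self_eq_bot Q U hU)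
  refine ⟨hd, codisjoint_iff.mpr (Submodule.eq_top_of_disjoint U _ ?_ hd)⟩
  have h1 : finrank F ↥(orthQ Q U) = finrank F (ι → F) - finrank F U :=
    LinearMap.BilinForm.finrank_orthogonal hQ U
  have h3 : finrank F U ≤ finrank F (ι → F) := Submodule.finrank_le _
  omega

theorem gauss_top_eq (hF : Fintype.card F = 2) (h2 : (2 : F) = 0)
    (hQ : (polarBilin Q).Nondegenerate) (U : Submodule F (ι → F)) [Fintype U]
    [Fintype (orthQ Q U)] (hU : NondegOn Q U) :
    (∑ v : ι → F, sgn2 (Q v)) = gauss Q U * gauss Q (orthQ Q U) := by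
  have hc := isCompl_orth Q hQ U hU
  unfold gauss
  rw [Finset.sum_mul_sum, ← Fintype.sum_prod_type',
    ← Equiv.sum_comp (Submodule.prodEquivOfIsCompl U (orthQ Q U) hc).toEquiv]
  apply Finset.sum_congr rfl
  intro p _
  rw [LinearEquiv.coe_toEquiv, Submodule.coe_prodEquivOfIsCompl', Q_add_polar,
    sgn2_add hF h2, sgn2_add hF h2]
  have : polar (⇑Q) (p.1 : ι → F) (p.2 : ι → F) = 0 :=
    (mem_orth_iff Q U _).mp p.2.2 _ p.1.2
  rw [this, sgn2_zero, mul_one]

theorem gauss_sq (hF : Fintype.card F = 2) (h2 : (2 : F) = 0) (U : Submodule F (ι → F))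
    [Fintype U] (hU : NondegOn Q U) : gauss Q U * gauss Q U = Fintype.card U := by
  classical
  unfold gauss
  rw [Finset.sum_mul_sum]
  have h1 : ∀ u : U, (∑ v : U, sgn2 (Q (u : ι → F)) * sgn2 (Q (v : ι → F))) =
      ∑ w : U, sgn2 (Q (w : ι → F)) * sgn2 (polar (⇑Q) (u : ι → F) (w : ι → F)) := by
    intro u
    rw [← Equiv.sum_comp (Equiv.addLeft u)]
    apply Finset.sum_congr rfl
    intro w _
    rw [Equiv.coe_addLeft, Submodule.coe_add, Q_add_polar, sgn2_add hF h2, sgn2_add hF h2,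
      ← mul_assoc, ← mul_assoc, sgn2_mul_self, one_mul]
  rw [Finset.sum_congr rfl (fun u _ => h1 u), Finset.sum_comm]
  have h3 : ∀ w : U, (∑ u : U, sgn2 (Q (w : ι → F)) * sgn2 (polar (⇑Q) (u : ι → F) (w : ι → F))) =
      if w = 0 then (Fintype.card U : ℤ) else 0 := by
    intro w
    by_cases hw : w = 0
    · rw [if_pos hw, hw]
      simp only [Submodule.coe_zero, QuadraticMap.map_zero, polar_zero_right, sgn2_zero, mul_one,
        Finset.sum_const, Finset.card_univ, nsmul_eq_mul]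
    · rw [if_neg hw, ← Finset.mul_sum]
      have hw' : (w : ι → F) ≠ 0 := fun h => hw (Subtype.ext h)
      obtain ⟨p, hpU, hp⟩ := exists_polar_ne_in Q U hU w w.2 hw'
      set φ : U →ₗ[F] F := ((polarBilin Q).flip (w : ι → F)).comp U.subtype with hφ
      have hφa : ∀ u : U, φ u = polar (⇑Q) (u : ι → F) (w : ι → F) := fun u => rfl
      have hp1 : φ ⟨p, hpU⟩ = 1 := by
        rw [hφa]
        exact (F2_cases hF _).resolve_left hp
      have hfib := card_fibre φ ⟨p, hpU⟩ hp1 0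
      rw [hF] at hfib
      have hsum : (∑ u : U, sgn2 (polar (⇑Q) (u : ι → F) (w : ι → F))) = 0 := by
        have : ∀ u : U, sgn2 (polar (⇑Q) (u : ι → F) (w : ι → F)) =
            if φ u = 0 then (1 : ℤ) else -1 := by
          intro u
          rw [hφa]
          unfold sgn2
          congr
        rw [Finset.sum_congr rfl (fun u _ => this u), Finset.sum_ite, Finset.sum_const,
          Finset.sum_const]
        have hadd := Finset.card_filter_add_card_filter_not (s := (Finset.univ : Finset U))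
          (fun u => φ u = 0)
        rw [Finset.card_univ] at hadd
        simp only [nsmul_eq_mul, mul_one, mul_neg]
        omega
      rw [hsum, mul_zero]
  rw [Finset.sum_congr rfl (fun w _ => h3 w), Finset.sum_ite_eq' Finset.univ (0 : U)]
  simp

theorem gauss_ne_zero (hF : Fintype.card F = 2) (h2 : (2 : F) = 0) (U : Submodule F (ι → F))
    [Fintype U] (hU : NondegOn Q U) : gauss Q U ≠ 0 := by
  intro h
  have := gauss_sq Q hF h2 U hU
  rw [h, mul_zero] at this
  have hpos : 0 < Fintype.card U := Fintype.card_pos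
  omega

omit [Fintype F] [Fintype ι] [DecidableEq ι] in
theorem gauss_eq_zeros (A : Submodule F (ι → F)) [Fintype A] [DecidableEq F] :
    gauss Q A = 2 * ((Finset.univ.filter (fun a : A => Q (a : ι → F) = 0)).card : ℤ) -
      Fintype.card A := by
  unfold gauss
  have : ∀ a : A, sgn2 (Q (a : ι → F)) = if Q (a : ι → F) = 0 then (1 : ℤ) else -1 := by
    intro a
    unfold sgn2
    congr
  rw [Finset.sum_congr rfl (fun a _ => this a), Finset.sum_ite, Finset.sum_const, Finset.sum_const]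
  have hadd := Finset.card_filter_add_card_filter_not (s := (Finset.univ : Finset A))
    (fun a => Q (a : ι → F) = 0)
  rw [Finset.card_univ] at hadd
  simp only [nsmul_eq_mul, mul_one, mul_neg]
  omega

end wnB

section wnC
variable {F : Type*} [Field F] [Fintype F] [DecidableEq F] {ι : Type} [Fintype ι] [DecidableEq ι]
variable (Q : QuadraticForm F (ι → F))

omit [Fintype F] [DecidableEq F] in
theorem gmap_orth (σ : ↥(Cfsg.isometryGroup F ⇑Q)) (A : Submodule F (ι → F)) :
    gmap σ (orthQ Q A) = orthQ Q (gmap σ A) := by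
  ext x
  rw [mem_gmap, mem_orth_iff]
  constructor
  · rintro ⟨y, hy, rfl⟩ u hu
    obtain ⟨a, ha, rfl⟩ := (mem_gmap σ A u).mp hu
    rw [polar_iact]
    exact (mem_orth_iff Q A y).mp hy a ha
  · intro h
    refine ⟨iact σ⁻¹ x, ?_, iact_iact_inv σ x⟩
    rw [mem_orth_iff]
    intro a ha
    have := h (iact σ a) ((mem_gmap σ A _).mpr ⟨a, ha, rfl⟩)
    rw [← polar_iact σ, iact_iact_inv]
    exact this

omit [DecidableEq F] in
/-- structure of small nondegenerate subspaces over the field of two elements. -/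
theorem plane_of_small (hF : Fintype.card F = 2) (h2 : (2 : F) = 0) (L : Submodule F (ι → F))
    (hL : NondegOn Q L) (hLne : L ≠ ⊥) (hLrk : finrank F L ≤ 3) :
    ∃ y z, y ∈ L ∧ z ∈ L ∧ Q y = 1 ∧ polar (⇑Q) y z = 1 ∧
      ∀ x ∈ L, x = polar (⇑Q) z x • y + polar (⇑Q) y x • z := by
  obtain ⟨y, hyL, hy⟩ := exists_nonsingular Q L hL hLne
  have hy0 : y ≠ 0 := by
    rintro rfl
    exact hy (QuadraticMap.map_zero Q)
  have hQy : Q y = 1 := (F2_cases hF _).resolve_left hy
  obtain ⟨z, hzL, hyz⟩ := exists_pair_one Q hF L hL y hyL hy0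
  have hfr := planeCompl_finrank Q h2 L y z hyL hzL hyz
  have hnd := planeCompl_nondeg Q h2 L hL y z hyL hzL hyz
  have hbot : planeCompl Q L y z = ⊥ := by
    by_contra hne
    obtain ⟨x, hx, hx0⟩ := Submodule.exists_mem_ne_zero_of_ne_bot hne
    obtain ⟨p, hp, hpx⟩ := exists_polar_ne_in Q _ hnd x hx hx0
    have h1 : finrank F ↥(planeCompl Q L y z) = 1 := by
      have : finrank F ↥(planeCompl Q L y z) ≠ 0 := fun h => hne (Submodule.finrank_eq_zero.mp h)
      omega
    have hx0' : (⟨x, hx⟩ : ↥(planeCompl Q L y z)) ≠ 0 := fun h => hx0 (congrArg Subtype.val h)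
    obtain ⟨c, hc⟩ := (finrank_eq_one_iff_of_nonzero' _ hx0').mp h1 ⟨p, hp⟩
    have hpc : p = c • x := by
      have := congrArg Subtype.val hc
      simpa using this.symm
    apply hpx
    rw [hpc, polar_smul_left, polar_self_zero Q h2, smul_zero]
  refine ⟨y, z, hyL, hzL, hQy, hyz, ?_⟩
  intro x hx
  have := planeCompl_dec Q h2 L y z hyL hzL hyz x hx
  rw [hbot, Submodule.mem_bot] at this
  have h' : x = (x - polar (⇑Q) z x • y - polar (⇑Q) y x • z) + polar (⇑Q) z x • y +
      polar (⇑Q) y x • z := by abel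
  rw [this, zero_add] at h'
  exact h'

omit [Fintype ι] [DecidableEq ι] in
/-- zero counts of a plane over the field of two elements. -/
theorem plane_zeros (hF : Fintype.card F = 2) (h2 : (2 : F) = 0) (L : Submodule F (ι → F))
    [Fintype L] (y z : ι → F) (hzL : z ∈ L) (hQy : Q y = 1) (hyz : polar (⇑Q) y z = 1)
    (hdec : ∀ x ∈ L, x = polar (⇑Q) z x • y + polar (⇑Q) y x • z) :
    (Q z = 0 → 1 < (Finset.univ.filter (fun a : L => Q (a : ι → F) = 0)).card) ∧
    (Q z = 1 → (Finset.univ.filter (fun a : L => Q (a : ι → F) = 0)).card = 1) := by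
  have h11 : (1 : F) + 1 = 0 := by rw [one_add_one_eq_two, h2]
  constructor
  · intro h0
    rw [Finset.one_lt_card]
    refine ⟨⟨0, L.zero_mem⟩, ?_, ⟨z, hzL⟩, ?_, ?_⟩
    · simp
    · simp [h0]
    · intro h
      have hz0 : z = 0 := (congrArg Subtype.val h).symm
      rw [hz0, polar_zero_right] at hyz
      exact zero_ne_one hyz
  · intro h1
    rw [Finset.card_eq_one]
    refine ⟨⟨0, L.zero_mem⟩, ?_⟩
    ext a
    simp only [Finset.mem_filter, Finset.mem_univ, true_and, Finset.mem_singleton]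
    constructor
    · intro ha
      apply Subtype.ext
      show (a : ι → F) = 0
      have hd := hdec a a.2
      rw [hd, Q_comb2, hQy, h1, hyz] at ha
      rcases F2_cases hF (polar (⇑Q) z (a : ι → F)) with hα | hα <;>
        rcases F2_cases hF (polar (⇑Q) y (a : ι → F)) with hβ | hβ
      · rw [hd, hα, hβ]; simp
      · exfalso
        rw [hα, hβ] at ha
        simp at ha
      · exfalso
        rw [hα, hβ] at ha
        simp at ha
      · exfalso
        rw [hα, hβ] at ha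
        have : (1 : F) * 1 * 1 + 1 * 1 * 1 + 1 * 1 * 1 = 1 := by
          linear_combination h11
        rw [this] at ha
        exact one_ne_zero ha
    · intro ha
      rw [ha]
      simp

/-- the remaining case of Witt's theorem over the field of two elements: subspaces of
codimension at most three. -/
theorem witt_corner (hF : Fintype.card F = 2) (h2 : (2 : F) = 0)
    (hQ : (polarBilin Q).Nondegenerate) (hne : Fintype.card ι ≠ 4)
    (U W : Submodule F (ι → F)) (hU : NondegOn Q U) (hW : NondegOn Q W) (e : U ≃ₗ[F] W)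
    (he : ∀ u : U, Q ((e u : W) : ι → F) = Q (u : ι → F))
    (hfr : Fintype.card ι < finrank F U + 4) :
    ∃ g : ↥(Cfsg.isometryGroup F ⇑Q), gmap g U = W := by
  classical
  have hrk : finrank F U = finrank F W := LinearEquiv.finrank_eq e
  have hLnd := nondegOn_orth Q hQ U hU
  have hL'nd := nondegOn_orth Q hQ W hW
  have hLrk : finrank F ↥(orthQ Q U) = Fintype.card ι - finrank F U := by
    have := LinearMap.BilinForm.finrank_orthogonal hQ U
    rwa [Module.finrank_fintype_fun_eq_card] at this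
  have hL'rk : finrank F ↥(orthQ Q W) = Fintype.card ι - finrank F W := by
    have := LinearMap.BilinForm.finrank_orthogonal hQ W
    rwa [Module.finrank_fintype_fun_eq_card] at this
  have hUle : finrank F U ≤ Fintype.card ι := by
    rw [← Module.finrank_fintype_fun_eq_card (R := F) (η := ι)]
    exact Submodule.finrank_le _
  by_cases hLb : orthQ Q U = ⊥
  · have h0 : finrank F ↥(orthQ Q U) = 0 := Submodule.finrank_eq_zero.mpr hLb
    have hUtop : U = ⊤ := by
      apply Submodule.eq_top_of_finrank_eq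
      rw [Module.finrank_fintype_fun_eq_card]
      omega
    have hWtop : W = ⊤ := by
      apply Submodule.eq_top_of_finrank_eq
      rw [Module.finrank_fintype_fun_eq_card]
      omega
    exact ⟨1, by rw [gmap_one, hUtop, hWtop]⟩
  · have hL'b : orthQ Q W ≠ ⊥ := by
      intro h
      apply hLb
      apply Submodule.finrank_eq_zero.mp
      have := Submodule.finrank_eq_zero.mpr h
      omega
    obtain ⟨y, z, hyL, hzL, hQy, hyz, hLdec⟩ := plane_of_small Q hF h2 _ hLnd hLb (by omega)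
    obtain ⟨y', z', hy'L, hz'L, hQy', hyz', hL'dec⟩ :=
      plane_of_small Q hF h2 _ hL'nd hL'b (by omega)
    have g1 := gauss_top_eq Q hF h2 hQ U hU
    have g2 := gauss_top_eq Q hF h2 hQ W hW
    have g3 := gauss_congr Q U W e he
    have g4 := gauss_ne_zero Q hF h2 U hU
    have hgL : gauss Q (orthQ Q U) = gauss Q (orthQ Q W) := by
      have : gauss Q U * gauss Q (orthQ Q U) = gauss Q U * gauss Q (orthQ Q W) := by
        rw [← g1, g2, g3]
      exact mul_left_cancel₀ g4 this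
    rw [gauss_eq_zeros, gauss_eq_zeros] at hgL
    have hcardL : Fintype.card ↥(orthQ Q U) = Fintype.card ↥(orthQ Q W) := by
      rw [Module.card_eq_pow_finrank (K := F) (V := ↥(orthQ Q U)),
        Module.card_eq_pow_finrank (K := F) (V := ↥(orthQ Q W)), hLrk, hL'rk, hrk]
    have hz : (Finset.univ.filter (fun a : ↥(orthQ Q U) => Q (a : ι → F) = 0)).card =
        (Finset.univ.filter (fun a : ↥(orthQ Q W) => Q (a : ι → F) = 0)).card := by
      have : ((Finset.univ.filter (fun a : ↥(orthQ Q U) => Q (a : ι → F) = 0)).card : ℤ) =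
          (Finset.univ.filter (fun a : ↥(orthQ Q W) => Q (a : ι → F) = 0)).card := by
        have hc : (Fintype.card ↥(orthQ Q U) : ℤ) = Fintype.card ↥(orthQ Q W) := by
          exact_mod_cast hcardL
        linarith
      exact_mod_cast this
    have k1 := plane_zeros Q hF h2 (orthQ Q U) y z hzL hQy hyz hLdec
    have k2 := plane_zeros Q hF h2 (orthQ Q W) y' z' hz'L hQy' hyz' hL'dec
    have hQzz : Q z = Q z' := by
      rcases F2_cases hF (Q z) with h0 | h1 <;> rcases F2_cases hF (Q z') with h0' | h1'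
      · rw [h0, h0']
      · exfalso
        have a := k1.1 h0
        have b := k2.2 h1'
        omega
      · exfalso
        have a := k1.2 h1
        have b := k2.1 h0'
        omega
      · rw [h1, h1']
    have hexc : ¬ Exc Q (⊤ : Submodule F (ι → F)) := not_exc_top Q (Or.inr hne)
    have hy1 : Q y ≠ 0 := by rw [hQy]; exact one_ne_zero
    obtain ⟨ρ₁, -, hρ₁⟩ := lemA Q h2 hQ ⊤ (nondegOn_top Q hQ) hexc y y' Submodule.mem_top
      Submodule.mem_top hy1 (by rw [hQy, hQy'])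
    have hyz'' : polar (⇑Q) y (iact ρ₁ z') = 1 := by
      rw [← hρ₁, polar_iact, hyz']
    obtain ⟨ρ₂, hρ₂, hρ₂z⟩ := lemB Q h2 ⊤ y z (iact ρ₁ z') Submodule.mem_top Submodule.mem_top
      Submodule.mem_top hy1 hyz hyz'' (by rw [Q_iact, hQzz])
    have hρ₂y : iact ρ₂ y = y := by
      apply RU_fix Q _ ρ₂ hρ₂ y
      intro u hu
      have := (Submodule.mem_inf.mp hu).2
      rw [mem_orth_singleton_iff] at this
      rw [polar_comm]
      exact this
    have hσL : gmap (ρ₂ * ρ₁) (orthQ Q W) = orthQ Q U := by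
      apply Submodule.eq_of_le_of_finrank_eq
      · intro x hx
        obtain ⟨v, hv, rfl⟩ := (mem_gmap _ _ x).mp hx
        rw [hL'dec v hv, iact_add, iact_smul, iact_smul, iact_mul, iact_mul, hρ₁, hρ₂y, hρ₂z]
        exact Submodule.add_mem _ (Submodule.smul_mem _ _ hyL) (Submodule.smul_mem _ _ hzL)
      · rw [finrank_gmap, hLrk, hL'rk, hrk]
    have hσW : gmap (ρ₂ * ρ₁) W = U := by
      have := gmap_orth Q (ρ₂ * ρ₁) (orthQ Q W)
      rw [orth_orth Q hQ, hσL, orth_orth Q hQ] at this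
      exact this
    refine ⟨(ρ₂ * ρ₁)⁻¹, ?_⟩
    rw [← hσW, ← gmap_mul, inv_mul_cancel, gmap_one]

/-- Witt's theorem for isometric nondegenerate subspaces. -/
theorem exists_iso_map (hQ : (polarBilin Q).Nondegenerate)
    (hne : Fintype.card F ≠ 2 ∨ Fintype.card ι ≠ 4) (U W : Submodule F (ι → F))
    (hU : NondegOn Q U) (hW : NondegOn Q W) (e : U ≃ₗ[F] W)
    (he : ∀ u : U, Q ((e u : W) : ι → F) = Q (u : ι → F)) :
    ∃ g : ↥(Cfsg.isometryGroup F ⇑Q), gmap g U = W := by
  classical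
  obtain ⟨U', hc⟩ := Submodule.exists_isCompl U
  set e' : (ι → F) →ₗ[F] (ι → F) :=
    W.subtype.comp (e.toLinearMap.comp (Submodule.projectionOnto U U' hc)) with he'
  have he'U : ∀ u (hu : u ∈ U), e' u = ((e ⟨u, hu⟩ : W) : ι → F) := by
    intro u hu
    show ((e (Submodule.projectionOnto U U' hc u) : W) : ι → F) = _
    have := Submodule.projectionOnto_apply_left hc ⟨u, hu⟩
    rw [this]
  have he'top : ∀ u ∈ U, e' u ∈ (⊤ : Submodule F (ι → F)) := fun _ _ => Submodule.mem_top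
  have he'Q : ∀ u ∈ U, Q (e' u) = Q u := by
    intro u hu
    rw [he'U u hu, he ⟨u, hu⟩]
  have fin : ∀ ρ : ↥(Cfsg.isometryGroup F ⇑Q), (∀ u ∈ U, iact ρ u = e' u) → gmap ρ U = W := by
    intro ρ hρ
    apply Submodule.eq_of_le_of_finrank_eq
    · intro x hx
      obtain ⟨u, hu, rfl⟩ := (mem_gmap ρ U x).mp hx
      rw [hρ u hu, he'U u hu]
      exact (e ⟨u, hu⟩).2
    · rw [finrank_gmap]
      exact LinearEquiv.finrank_eq e
  by_cases h2 : (2 : F) = 0
  · by_cases hcond : Fintype.card F ≠ 2 ∨ finrank F U + 4 ≤ Fintype.card ι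
    · have hcond' : Fintype.card F ≠ 2 ∨
          finrank F U + 4 ≤ finrank F ↥(⊤ : Submodule F (ι → F)) := by
        rw [finrank_top, Module.finrank_fintype_fun_eq_card]
        exact hcond
      obtain ⟨ρ, -, hρ⟩ := witt_two Q h2 hQ _ ⊤ U rfl le_top hU (nondegOn_top Q hQ) hcond' e'
        he'top he'Q
      exact ⟨ρ, fin ρ hρ⟩
    · push Not at hcond
      obtain ⟨hF, hlt⟩ := hcond
      have hne4 : Fintype.card ι ≠ 4 := by
        rcases hne with h | h
        · exact absurd hF h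
        · exact h
      exact witt_corner Q hF h2 hQ hne4 U W hU hW e he hlt
  · obtain ⟨ρ, -, hρ⟩ := witt_odd Q h2 _ ⊤ U rfl le_top hU e' he'top he'Q
    exact ⟨ρ, fin ρ hρ⟩

end wnC

section wnD
variable {F : Type*} [Field F] [Fintype F] [DecidableEq F] {ι : Type} [Fintype ι] [DecidableEq ι]
variable (Q : QuadraticForm F (ι → F))

omit [DecidableEq F] [DecidableEq ι] in
/-- a nondegenerate subspace of dimension at least two represents every nonzero value. -/
theorem exists_Q_eq_in (h2 : (2 : F) ≠ 0) (Y : Submodule F (ι → F)) (hY : NondegOn Q Y)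
    (hY2 : 2 ≤ finrank F Y) (c : F) (hc : c ≠ 0) : ∃ x ∈ Y, Q x = c := by
  have h2c : (2 * c) ≠ 0 := mul_ne_zero h2 hc
  set B : LinearMap.BilinForm F Y :=
    (2 * c)⁻¹ • LinearMap.BilinForm.restrict (polarBilin Q) Y with hB
  have hBa : ∀ a b : Y, B a b = (2 * c)⁻¹ * polar (⇑Q) (a : ι → F) (b : ι → F) := fun a b => rfl
  have hS : B.IsSymm := ⟨fun a b => by
    rw [hBa, hBa, polar_comm]⟩
  have hN : B.Nondegenerate := by
    constructor
    · intro a ha
      apply Subtype.ext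
      apply hY a a.2
      intro u hu
      have := ha ⟨u, hu⟩
      rw [hBa] at this
      have := (mul_eq_zero.mp this).resolve_left (inv_ne_zero h2c)
      rw [polar_comm]
      exact this
    · intro a ha
      apply Subtype.ext
      apply hY a a.2
      intro u hu
      have := ha ⟨u, hu⟩
      rw [hBa] at this
      exact (mul_eq_zero.mp this).resolve_left (inv_ne_zero h2c)
  obtain ⟨x, hx⟩ := Cfsg.Agent.S2623.exists_one h2 B hS hN hY2
  refine ⟨x, x.2, ?_⟩
  rw [hBa, polar_self', inv_mul_eq_one₀ h2c] at hx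
  exact (mul_left_cancel₀ h2 hx).symm

/-- the commutator subgroup is transitive on isometric nondegenerate subspaces. -/
theorem exists_omega_nd (hQ : (polarBilin Q).Nondegenerate)
    (hne : Fintype.card F ≠ 2 ∨ Fintype.card ι ≠ 4) (hn : 3 ≤ Fintype.card ι)
    (U W : Submodule F (ι → F)) (hU : NondegOn Q U) (hW : NondegOn Q W) (e : U ≃ₗ[F] W)
    (he : ∀ u : U, Q ((e u : W) : ι → F) = Q (u : ι → F)) :
    ∃ g ∈ commutator ↥(Cfsg.isometryGroup F ⇑Q), gmap g U = W := by
  classical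
  obtain ⟨ρ, hρ⟩ := exists_iso_map Q hQ hne U W hU hW e he
  obtain ⟨θ, δ, hθ, hδ⟩ := exists_theta_delta Q hQ
  have fin : ∀ s ∈ stabS Q W, θ s = θ ρ → δ s = δ ρ →
      ∃ g ∈ commutator ↥(Cfsg.isometryGroup F ⇑Q), gmap g U = W := by
    intro s hs h1 h2
    refine ⟨s⁻¹ * ρ, ?_, ?_⟩
    · rw [mem_commutator_iff_all Q hQ hne θ δ hθ hδ, map_mul, map_mul, map_inv, map_inv, h1, h2,
        inv_mul_cancel, inv_mul_cancel]
      exact ⟨rfl, rfl⟩
    · rw [gmap_mul, hρ]
      exact (stabS Q W).inv_mem hs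
  have hW'nd := nondegOn_orth Q hQ W hW
  have hdim : finrank F W + finrank F ↥(orthQ Q W) = Fintype.card ι := by
    have h1 : finrank F ↥(orthQ Q W) = finrank F (ι → F) - finrank F W :=
      LinearMap.BilinForm.finrank_orthogonal hQ W
    have h3 : finrank F W ≤ finrank F (ι → F) := Submodule.finrank_le _
    rw [Module.finrank_fintype_fun_eq_card] at h1 h3
    omega
  obtain ⟨Y, hYs, hYnd, hY2⟩ : ∃ Y : Submodule F (ι → F), (Y = W ∨ Y = orthQ Q W) ∧
      NondegOn Q Y ∧ 2 ≤ finrank F Y := by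
    by_cases h : 2 ≤ finrank F W
    · exact ⟨W, Or.inl rfl, hW, h⟩
    · exact ⟨orthQ Q W, Or.inr rfl, hW'nd, by omega⟩
  have stab : ∀ x ∈ Y, ∀ hx : Q x ≠ 0, reflG Q x hx ∈ stabS Q W := by
    intro x hxY hx
    rcases hYs with rfl | rfl
    · apply gmap_eq_of_le
      intro v hv
      obtain ⟨w, hw, rfl⟩ := (mem_gmap _ Y v).mp hv
      rw [iact_reflG]
      exact Y.sub_mem hw (Y.smul_mem _ hxY)
    · exact reflG_mem_stabS_of_orth Q W x hxY hx
  have hYne : Y ≠ ⊥ := by
    intro h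
    rw [h, finrank_bot] at hY2
    omega
  by_cases h2 : (2 : F) = 0
  · have hθ1 : ∀ g, θ g = 1 := by
      have : θ = 1 := by
        apply hom_ext_all Q hQ hne
        intro w hw
        have := hθ w hw
        rw [quadraticChar_of_two h2 hw] at this
        rw [MonoidHom.one_apply]
        exact Units.ext this
      intro g
      rw [this]
      rfl
    obtain ⟨x, hxY, hx⟩ := exists_nonsingular Q Y hYnd hYne
    rcases Int.units_eq_one_or (δ ρ) with hd | hd
    · exact fin 1 (Subgroup.one_mem _) (by rw [hθ1, hθ1]) (by rw [map_one, hd])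
    · exact fin _ (stab x hxY hx) (by rw [hθ1, hθ1]) (by rw [hδ x hx, hd])
  · obtain ⟨ν, hν⟩ := FiniteField.exists_nonsquare (ringChar_ne_two_of (F := F) h2)
    have hν0 : ν ≠ 0 := by
      rintro rfl
      exact hν ⟨0, by ring⟩
    obtain ⟨x₁, hx₁Y, hx₁⟩ := exists_Q_eq_in Q h2 Y hYnd hY2 1 one_ne_zero
    obtain ⟨x₂, hx₂Y, hx₂⟩ := exists_Q_eq_in Q h2 Y hYnd hY2 ν hν0
    have h10 : Q x₁ ≠ 0 := by rw [hx₁]; exact one_ne_zero
    have h20 : Q x₂ ≠ 0 := by rw [hx₂]; exact hν0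
    have t1 : θ (reflG Q x₁ h10) = 1 := by
      apply Units.ext
      rw [hθ x₁ h10, hx₁, map_one]
      rfl
    have t2 : θ (reflG Q x₂ h20) = -1 := by
      apply Units.ext
      rw [hθ x₂ h20, hx₂, quadraticChar_neg_one_iff_not_isSquare.mpr hν]
      rfl
    obtain ⟨s, hs, e1, e2⟩ := adjust_abs θ δ (stabS Q W) (reflG Q x₁ h10)
      (reflG Q x₁ h10 * reflG Q x₂ h20) (stab x₁ hx₁Y h10)
      (Subgroup.mul_mem _ (stab x₁ hx₁Y h10) (stab x₂ hx₂Y h20)) (hδ x₁ h10)
      (by rw [map_mul, t1, t2]; rfl) (by rw [map_mul, hδ x₁ h10, hδ x₂ h20]; rfl) ρ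
    exact fin s hs e1 e2

end wnD

end Cfsg.Agent.helper13
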