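import Mathlib
import Cfsg.Agent.Lib_helper11_OConjB
import Cfsg.Agent.Lib_helper13_WittNd

/-! Isometries of odd order prime to the characteristic that are conjugate under an invertible
matrix are conjugate under an isometry (nondegenerate polar form, finite field). -/

set_option autoImplicit false

namespace Cfsg.Agent.helper11.OConj

open Matrix QuadraticMap Module Cfsg.Agent.helper13

section vec
variable {F : Type*} [Field F] [Fintype F] {ι : Type} [Fintype ι] [DecidableEq ι]
variable (Q : QuadraticForm F (ι → F))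

omit [Fintype F] [Fintype ι] [DecidableEq ι] in
theorem Q_sub_polar (a b : ι → F) : Q (a - b) = Q a + Q b - polar (⇑Q) a b := by
  rw [sub_eq_add_neg, Q_add_polar, QuadraticMap.map_neg, polar_neg_right]
  ring

omit [Fintype F] [Fintype ι] [DecidableEq ι] in
theorem polar_of_Q (e : (ι → F) →ₗ[F] (ι → F)) (he : ∀ v, Q (e v) = Q v) (a b : ι → F) :
    polar (⇑Q) (e a) (e b) = polar (⇑Q) a b := by
  unfold polar
  rw [← map_add, he, he, he]

/-- a linear map preserving `Q` is an element of the isometry group. -/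
theorem exists_isom_of_lin (hQ : (polarBilin Q).Nondegenerate) (e : (ι → F) →ₗ[F] (ι → F))
    (he : ∀ v, Q (e v) = Q v) :
    ∃ ρ : ↥(Cfsg.isometryGroup F ⇑Q), ∀ v, iact ρ v = e v := by
  have hinj : Function.Injective (LinearMap.toMatrix' e).mulVec := by
    intro a b hab
    rw [LinearMap.toMatrix'_mulVec, LinearMap.toMatrix'_mulVec] at hab
    have h0 : e (a - b) = 0 := by rw [map_sub, hab, sub_self]
    have h1 : a - b = 0 := by
      apply hQ.2 (a - b)
      intro u
      rw [polarBilin_apply_apply, ← polar_of_Q Q e he, h0]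
      unfold polar
      rw [add_zero, QuadraticMap.map_zero]
      ring
    exact sub_eq_zero.mp h1
  have hu : IsUnit (LinearMap.toMatrix' e) := Matrix.mulVec_injective_iff_isUnit.mp hinj
  refine ⟨⟨hu.unit, ?_⟩, ?_⟩
  · intro u v
    show Q ((hu.unit : Matrix ι ι F) *ᵥ u) = Q u
    rw [IsUnit.unit_spec, LinearMap.toMatrix'_mulVec, he]
  · intro v
    show (hu.unit : Matrix ι ι F) *ᵥ v = e v
    rw [IsUnit.unit_spec, LinearMap.toMatrix'_mulVec]

/-- the corner case of Witt's extension theorem over the field with two elements, in the form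
needed here: the subspace `U` has a projection `P` along its orthogonal complement. -/
theorem corner (hF : Fintype.card F = 2) (h2 : (2 : F) = 0) (hQ : (polarBilin Q).Nondegenerate)
    (U : Submodule F (ι → F)) (hU : NondegOn Q U) (e P : (ι → F) →ₗ[F] (ι → F))
    (hinj : Function.Injective e) (he : ∀ u ∈ U, Q (e u) = Q u)
    (hP1 : ∀ v, P v ∈ U) (hP2 : ∀ v, v - P v ∈ orthQ Q U) (hP3 : ∀ u ∈ U, P u = u)
    (hfr : Fintype.card ι < finrank F U + 4) :
    ∃ ρ : ↥(Cfsg.isometryGroup F ⇑Q), ∀ u ∈ U, iact ρ u = e u := by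
  classical
  obtain ⟨W, hWdef⟩ : ∃ W : Submodule F (ι → F), W = U.map e := ⟨_, rfl⟩
  have hmemW : ∀ u ∈ U, e u ∈ W := by
    intro u hu
    rw [hWdef]
    exact Submodule.mem_map_of_mem hu
  have hW : NondegOn Q W := by
    intro x hx hall
    rw [hWdef] at hx
    obtain ⟨u, hu, rfl⟩ := Submodule.mem_map.mp hx
    have : u = 0 := by
      apply hU u hu
      intro u' hu'
      have h3 := hall (e u') (hmemW u' hu')
      rwa [polar_of_isom Q U e he u' u hu' hu] at h3
    rw [this, map_zero]
  obtain ⟨eU, heU⟩ : ∃ eU : U ≃ₗ[F] W, ∀ u : U, ((eU u : W) : ι → F) = e (u : ι → F) := by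
    rw [hWdef]
    exact ⟨Submodule.equivMapOfInjective e hinj U,
      fun u => Submodule.coe_equivMapOfInjective_apply e hinj U u⟩
  have heUQ : ∀ u : U, Q ((eU u : W) : ι → F) = Q (u : ι → F) := by
    intro u
    rw [heU, he _ u.2]
  have hrk : finrank F U = finrank F W := LinearEquiv.finrank_eq eU
  have hLnd := nondegOn_orth Q hQ U hU
  have hL'nd := nondegOn_orth Q hQ W hW
  have hLrk : finrank F ↥(orthQ Q U) = Fintype.card ι - finrank F U := by
    have := LinearMap.BilinForm.finrank_orthogonal hQ U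
    rwa [Module.finrank_fintype_fun_eq_card] at this
  have hL'rk : finrank F ↥(orthQ Q W) = Fintype.card ι - finrank F W := by
    have := LinearMap.BilinForm.finrank_orthogonal hQ W
    rwa [Module.finrank_fintype_fun_eq_card] at this
  have hUle : finrank F U ≤ Fintype.card ι := by
    rw [← Module.finrank_fintype_fun_eq_card (R := F) (η := ι)]
    exact Submodule.finrank_le _
  -- the isometry of the complements
  obtain ⟨τ, hτ⟩ : ∃ τ : (ι → F) →ₗ[F] (ι → F), ∀ x ∈ orthQ Q U,
      τ x ∈ orthQ Q W ∧ Q (τ x) = Q x := by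
    by_cases hLb : orthQ Q U = ⊥
    · refine ⟨0, ?_⟩
      intro x hx
      rw [hLb, Submodule.mem_bot] at hx
      rw [hx, map_zero]
      exact ⟨Submodule.zero_mem _, rfl⟩
    · have hL'b : orthQ Q W ≠ ⊥ := by
        intro h
        apply hLb
        apply Submodule.finrank_eq_zero.mp
        have := Submodule.finrank_eq_zero.mpr h
        omega
      obtain ⟨y, z, hyL, hzL, hQy, hyz, hLdec⟩ := plane_of_small Q hF h2 _ hLnd hLb (by omega)
      obtain ⟨y', z', hy'L, hz'L, hQy', hyz', hL'dec⟩ :=
        plane_of_small Q hF h2 _ hL'nd hL'b (by omega)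
      have g1 := gauss_top_eq Q hF h2 hQ U hU
      have g2 := gauss_top_eq Q hF h2 hQ W hW
      have g3 := gauss_congr Q U W eU heUQ
      have g4 := gauss_ne_zero Q hF h2 U hU
      have hgL : gauss Q (orthQ Q U) = gauss Q (orthQ Q W) := by
        have : gauss Q U * gauss Q (orthQ Q U) = gauss Q U * gauss Q (orthQ Q W) := by
          rw [← g1, g2, g3]
        exact mul_left_cancel₀ g4 this
      rw [gauss_eq_zeros, gauss_eq_zeros] at hgL
      have hcardL : Fintype.card ↥(orthQ Q U) = Fintype.card ↥(orthQ Q W) := by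
        rw [Module.card_eq_pow_finrank (K := F) (V := ↥(orthQ Q U)),
          Module.card_eq_pow_finrank (K := F) (V := ↥(orthQ Q W)), hLrk, hL'rk, hrk]
      have hz : (Finset.univ.filter (fun a : ↥(orthQ Q U) => Q (a : ι → F) = 0)).card =
          (Finset.univ.filter (fun a : ↥(orthQ Q W) => Q (a : ι → F) = 0)).card := by
        have : ((Finset.univ.filter (fun a : ↥(orthQ Q U) => Q (a : ι → F) = 0)).card : ℤ) =
            (Finset.univ.filter (fun a : ↥(orthQ Q W) => Q (a : ι → F) = 0)).card := by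
          have hc : (Fintype.card ↥(orthQ Q U) : ℤ) = Fintype.card ↥(orthQ Q W) := by
            exact_mod_cast hcardL
          linarith
        exact_mod_cast this
      have k1 := plane_zeros Q hF h2 (orthQ Q U) y z hzL hQy hyz hLdec
      have k2 := plane_zeros Q hF h2 (orthQ Q W) y' z' hz'L hQy' hyz' hL'dec
      have hQzz : Q z = Q z' := by
        rcases F2_cases hF (Q z) with h0 | h1 <;> rcases F2_cases hF (Q z') with h0' | h1'
        · rw [h0, h0']
        · exfalso
          have a := k1.1 h0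
          have b := k2.2 h1'
          omega
        · exfalso
          have a := k1.2 h1
          have b := k2.1 h0'
          omega
        · rw [h1, h1']
      refine ⟨(polarBilin Q z).smulRight y' + (polarBilin Q y).smulRight z', ?_⟩
      intro x hx
      have hτx : ((polarBilin Q z).smulRight y' + (polarBilin Q y).smulRight z') x =
          polar (⇑Q) z x • y' + polar (⇑Q) y x • z' := by
        rw [LinearMap.add_apply, LinearMap.smulRight_apply, LinearMap.smulRight_apply,
          polarBilin_apply_apply, polarBilin_apply_apply]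
      rw [hτx]
      refine ⟨Submodule.add_mem _ (Submodule.smul_mem _ _ hy'L) (Submodule.smul_mem _ _ hz'L), ?_⟩
      have hx2 : Q x = Q (polar (⇑Q) z x • y + polar (⇑Q) y x • z) :=
        congrArg (fun t => Q t) (hLdec x hx)
      rw [hx2, Q_comb2, Q_comb2, hQy, hQy', hyz, hyz', hQzz]
  -- the glued map
  obtain ⟨ρ₀, hρ₀⟩ : ∃ ρ₀ : (ι → F) →ₗ[F] (ι → F), ∀ v, ρ₀ v = e (P v) + τ (v - P v) :=
    ⟨e.comp P + τ.comp (LinearMap.id - P), fun v => rfl⟩
  have hρQ : ∀ v, Q (ρ₀ v) = Q v := by
    intro v
    have hz1 := hτ (v - P v) (hP2 v)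
    have h3 : polar (⇑Q) (e (P v)) (τ (v - P v)) = 0 :=
      (mem_orth_iff Q W _).mp hz1.1 _ (hmemW _ (hP1 v))
    have h4 : polar (⇑Q) (P v) (v - P v) = 0 :=
      (mem_orth_iff Q U _).mp (hP2 v) _ (hP1 v)
    have h5 : Q v = Q (P v + (v - P v)) := by
      congr 1
      abel
    rw [hρ₀, Q_add_polar, h3, he _ (hP1 v), hz1.2, h5, Q_add_polar, h4]
  obtain ⟨ρ, hρ⟩ := exists_isom_of_lin Q hQ ρ₀ hρQ
  refine ⟨ρ, ?_⟩
  intro u hu
  rw [hρ, hρ₀, hP3 u hu, sub_self, map_zero, add_zero]

end vec

end Cfsg.Agent.helper11.OConj
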