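import Mathlib
import Cfsg.Agent.Lib_helper11_OConjC

/-! Main theorem: isometries of odd order prime to the characteristic conjugate under GL are
conjugate under the isometry group. -/

set_option autoImplicit false

namespace Cfsg.Agent.helper11.OConj

open Matrix QuadraticMap Module Cfsg.Agent.helper13

section fin
variable {F : Type*} [Field F] [Fintype F] {ι : Type} [Fintype ι] [DecidableEq ι]
variable (Q : QuadraticForm F (ι → F))

theorem exists_conj (hQ : (polarBilin Q).Nondegenerate) (A B : ↥(Cfsg.isometryGroup F ⇑Q))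
    (x : Matrix ι ι F) (hx : x.det ≠ 0)
    (hxA : x * ((A : Matrix.GeneralLinearGroup ι F) : Matrix ι ι F) =
      ((B : Matrix.GeneralLinearGroup ι F) : Matrix ι ι F) * x)
    (N : ℕ) (hNodd : Odd N) (hN : A ^ N = 1) (hNF : (N : F) ≠ 0) :
    ∃ ρ : ↥(Cfsg.isometryGroup F ⇑Q), ρ * A = B * ρ := by
  classical
  obtain ⟨G, hGdef⟩ : ∃ G : Matrix ι ι F, G = LinearMap.BilinForm.toMatrix' (polarBilin Q) :=
    ⟨_, rfl⟩
  have hpol : ∀ u v : ι → F, polar (⇑Q) u v = u ⬝ᵥ (G *ᵥ v) := by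
    intro u v
    rw [hGdef, ← Matrix.toBilin'_apply', Matrix.toBilin'_toMatrix', polarBilin_apply_apply]
  have hGs : Gᵀ = G := by
    ext i j
    rw [Matrix.transpose_apply, hGdef, LinearMap.BilinForm.toMatrix'_apply,
      LinearMap.BilinForm.toMatrix'_apply, polarBilin_apply_apply, polarBilin_apply_apply,
      polar_comm]
  have hnd : ∀ v : ι → F, (∀ u, polar (⇑Q) u v = 0) → v = 0 := by
    intro v hv
    apply hQ.2 v
    intro u
    rw [polarBilin_apply_apply]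
    exact hv u
  have hGinj : Function.Injective G.mulVec := by
    intro a b hab
    have h0 : G *ᵥ (a - b) = 0 := by rw [Matrix.mulVec_sub, hab, sub_self]
    have h1 : a - b = 0 := by
      apply hnd
      intro u
      rw [hpol, h0, dotProduct_zero]
    exact sub_eq_zero.mp h1
  have hGu : IsUnit G := Matrix.mulVec_injective_iff_isUnit.mp hGinj
  have hGdet : IsUnit G.det := (Matrix.isUnit_iff_isUnit_det G).mp hGu
  obtain ⟨Gi, hGi⟩ : ∃ Gi : Matrix ι ι F, Gi = G⁻¹ := ⟨_, rfl⟩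
  have h1 : Gi * G = 1 := by rw [hGi]; exact Matrix.nonsing_inv_mul _ hGdet
  have h2 : G * Gi = 1 := by rw [hGi]; exact Matrix.mul_nonsing_inv _ hGdet
  have hadj : ∀ (M : Matrix ι ι F) (u v : ι → F),
      polar (⇑Q) (M *ᵥ u) v = polar (⇑Q) u (oDag Gi G M *ᵥ v) := by
    intro M u v
    rw [hpol, hpol, oDag_adj h2]
  have hiso : ∀ g : ↥(Cfsg.isometryGroup F ⇑Q),
      oDag Gi G ((g : Matrix.GeneralLinearGroup ι F) : Matrix ι ι F) *
        ((g : Matrix.GeneralLinearGroup ι F) : Matrix ι ι F) = 1 := by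
    intro g
    have hsub : oDag Gi G ((g : Matrix.GeneralLinearGroup ι F) : Matrix ι ι F) *
        ((g : Matrix.GeneralLinearGroup ι F) : Matrix ι ι F) - 1 = 0 := by
      apply eq_zero_of_form h1
      intro u v
      rw [Matrix.sub_mulVec, Matrix.mulVec_sub, dotProduct_sub, sub_eq_zero, Matrix.one_mulVec,
        ← Matrix.mulVec_mulVec, ← hpol, ← hpol, ← hadj]
      exact polar_iact g u v
    exact sub_eq_zero.mp hsub
  obtain ⟨MA, hMA⟩ : ∃ MA : Matrix ι ι F,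
      MA = ((A : Matrix.GeneralLinearGroup ι F) : Matrix ι ι F) := ⟨_, rfl⟩
  obtain ⟨MB, hMB⟩ : ∃ MB : Matrix ι ι F,
      MB = ((B : Matrix.GeneralLinearGroup ι F) : Matrix ι ι F) := ⟨_, rfl⟩
  have hAv : ∀ v, iact A v = MA *ᵥ v := by
    intro v
    rw [hMA]
    rfl
  have hBv : ∀ v, iact B v = MB *ᵥ v := by
    intro v
    rw [hMB]
    rfl
  have hNmat : MA ^ N = 1 := by
    have h3 := congrArg (fun g : ↥(Cfsg.isometryGroup F ⇑Q) =>
      ((g : Matrix.GeneralLinearGroup ι F) : Matrix ι ι F)) hN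
    simp only [SubmonoidClass.coe_pow, Units.val_pow_eq_pow_val, OneMemClass.coe_one,
      Units.val_one] at h3
    rw [hMA]
    exact h3
  have hdA := hiso A
  have hdB := hiso B
  rw [← hMA] at hdA hxA
  rw [← hMB] at hdB hxA
  obtain ⟨E, H, K, w, hEE, hdE, hAE, hAf, hwE, hw, hHA, hEHE, hEK, hBK, hHdet⟩ :=
    oconj_main Gi G MA MB x h1 h2 hGs hdA hdB hx hxA N hNodd hNmat hNF
  have hdB' : MB * oDag Gi G MB = 1 := mul_eq_one_comm.mp hdB
  -- the subspace U = image of E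
  obtain ⟨U, hUdef⟩ : ∃ U : Submodule F (ι → F), U = LinearMap.range (Matrix.mulVecLin E) :=
    ⟨_, rfl⟩
  have hmemU : ∀ v, v ∈ U ↔ E *ᵥ v = v := by
    intro v
    rw [hUdef, LinearMap.mem_range]
    constructor
    · rintro ⟨y, rfl⟩
      rw [Matrix.mulVecLin_apply, Matrix.mulVec_mulVec, hEE]
    · intro h
      exact ⟨v, by rw [Matrix.mulVecLin_apply, h]⟩
  have hEU : ∀ v, E *ᵥ v ∈ U := by
    intro v
    rw [hmemU, Matrix.mulVec_mulVec, hEE]
  have hEadj : ∀ u v : ι → F, polar (⇑Q) (E *ᵥ u) v = polar (⇑Q) u (E *ᵥ v) := by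
    intro u v
    rw [hadj, hdE]
  have hUnd : NondegOn Q U := by
    intro v hv hall
    apply hnd
    intro u
    have h3 := hall (E *ᵥ u) (hEU u)
    rw [hEadj, (hmemU v).mp hv] at h3
    exact h3
  have hHpol : ∀ u ∈ U, ∀ v ∈ U, polar (⇑Q) (H *ᵥ u) (H *ᵥ v) = polar (⇑Q) u v := by
    intro u hu v hv
    have hu' := (hmemU u).mp hu
    have hv' := (hmemU v).mp hv
    calc polar (⇑Q) (H *ᵥ u) (H *ᵥ v) = polar (⇑Q) u ((oDag Gi G H * H) *ᵥ v) := by
          rw [hadj, Matrix.mulVec_mulVec]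
      _ = polar (⇑Q) (E *ᵥ u) ((oDag Gi G H * H) *ᵥ (E *ᵥ v)) := by rw [hu', hv']
      _ = polar (⇑Q) u ((E * (oDag Gi G H * H) * E) *ᵥ v) := by
          rw [hEadj, Matrix.mulVec_mulVec, Matrix.mulVec_mulVec, ← Matrix.mul_assoc]
      _ = polar (⇑Q) u v := by rw [hEHE, hv']
  have hAU : ∀ u ∈ U, MA *ᵥ u ∈ U := by
    intro u hu
    rw [hmemU] at hu ⊢
    rw [Matrix.mulVec_mulVec, ← hAE, ← Matrix.mulVec_mulVec, hu]
  have hHAv : ∀ v, H *ᵥ (MA *ᵥ v) = MB *ᵥ (H *ᵥ v) := by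
    intro v
    rw [Matrix.mulVec_mulVec, hHA, ← Matrix.mulVec_mulVec]
  have hQA : ∀ v, Q (MA *ᵥ v) = Q v := fun v => by rw [← hAv]; exact Q_iact A v
  have hQB : ∀ v, Q (MB *ᵥ v) = Q v := fun v => by rw [← hBv]; exact Q_iact B v
  have hHQ : ∀ u ∈ U, Q (H *ᵥ u) = Q u := by
    intro u hu
    obtain ⟨u', hu'def⟩ : ∃ u' : ι → F, u' = w *ᵥ u := ⟨_, rfl⟩
    have hu'U : u' ∈ U := by
      rw [hmemU, hu'def, Matrix.mulVec_mulVec, ← hwE, ← Matrix.mulVec_mulVec, (hmemU u).mp hu]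
    have hudec : u = MA *ᵥ u' - u' := by
      have h3 : (MA - 1) *ᵥ u' = u := by
        rw [hu'def, Matrix.mulVec_mulVec, hw, (hmemU u).mp hu]
      rw [Matrix.sub_mulVec, Matrix.one_mulVec] at h3
      exact h3.symm
    have h4 : H *ᵥ u = MB *ᵥ (H *ᵥ u') - H *ᵥ u' := by
      conv_lhs => rw [hudec]
      rw [Matrix.mulVec_sub, hHAv]
    have h5 : polar (⇑Q) (MB *ᵥ (H *ᵥ u')) (H *ᵥ u') = polar (⇑Q) (MA *ᵥ u') u' := by
      rw [← hHAv, hHpol _ (hAU u' hu'U) _ hu'U]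
    have h6 : Q (H *ᵥ u') + Q (H *ᵥ u') = Q u' + Q u' := by
      have h7 := hHpol u' hu'U u' hu'U
      rw [polar_self', polar_self'] at h7
      linear_combination h7
    rw [h4, Q_sub_polar, hQB, h5, h6]
    conv_rhs => rw [hudec]
    rw [Q_sub_polar, hQA]
  -- the isometry extending H on U
  obtain ⟨ρ, hρ⟩ : ∃ ρ : ↥(Cfsg.isometryGroup F ⇑Q), ∀ u ∈ U, iact ρ u = H *ᵥ u := by
    have heX : ∀ u ∈ U, (Matrix.mulVecLin H) u ∈ (⊤ : Submodule F (ι → F)) :=
      fun _ _ => Submodule.mem_top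
    have heQ : ∀ u ∈ U, Q ((Matrix.mulVecLin H) u) = Q u := by
      intro u hu
      rw [Matrix.mulVecLin_apply]
      exact hHQ u hu
    by_cases h2F : (2 : F) = 0
    · by_cases hcond : Fintype.card F ≠ 2 ∨
          finrank F U + 4 ≤ finrank F (⊤ : Submodule F (ι → F))
      · obtain ⟨ρ, -, hρ⟩ := witt_two Q h2F hQ (finrank F U) ⊤ U rfl le_top hUnd
          (nondegOn_top Q hQ) hcond (Matrix.mulVecLin H) heX heQ
        exact ⟨ρ, fun u hu => by rw [hρ u hu, Matrix.mulVecLin_apply]⟩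
      · push Not at hcond
        obtain ⟨hF2, hfr⟩ := hcond
        rw [finrank_top, Module.finrank_fintype_fun_eq_card] at hfr
        have hHinj : Function.Injective (Matrix.mulVecLin H) := by
          have hHu : IsUnit H := (Matrix.isUnit_iff_isUnit_det H).mpr (IsUnit.mk0 _ hHdet)
          exact Matrix.mulVec_injective_iff_isUnit.mpr hHu
        obtain ⟨ρ, hρ⟩ := corner Q hF2 h2F hQ U hUnd (Matrix.mulVecLin H) (Matrix.mulVecLin E)
          hHinj heQ (fun v => by rw [Matrix.mulVecLin_apply]; exact hEU v)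
          (fun v => by
            rw [Matrix.mulVecLin_apply, mem_orth_iff]
            intro u hu
            rw [← (hmemU u).mp hu, hEadj, Matrix.mulVec_sub, Matrix.mulVec_mulVec, hEE, sub_self]
            unfold polar
            rw [add_zero, QuadraticMap.map_zero]
            ring)
          (fun u hu => by rw [Matrix.mulVecLin_apply]; exact (hmemU u).mp hu) hfr
        exact ⟨ρ, fun u hu => by rw [hρ u hu, Matrix.mulVecLin_apply]⟩
    · obtain ⟨ρ, -, hρ⟩ := witt_odd Q h2F (finrank F U) ⊤ U rfl le_top hUnd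
        (Matrix.mulVecLin H) heX heQ
      exact ⟨ρ, fun u hu => by rw [hρ u hu, Matrix.mulVecLin_apply]⟩
  -- conclusion
  refine ⟨ρ, ?_⟩
  apply iact_ext
  intro v
  rw [iact_mul, iact_mul, hAv, hBv]
  have hvdec : v = E *ᵥ v + (1 - E) *ᵥ v := by
    rw [Matrix.sub_mulVec, Matrix.one_mulVec]
    abel
  have hpart1 : iact ρ (MA *ᵥ (E *ᵥ v)) = MB *ᵥ iact ρ (E *ᵥ v) := by
    rw [hρ _ (hAU _ (hEU v)), hρ _ (hEU v), hHAv]
  have hAz : MA *ᵥ ((1 - E) *ᵥ v) = (1 - E) *ᵥ v := by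
    rw [Matrix.mulVec_mulVec, hAf]
  have hpart2 : MB *ᵥ iact ρ ((1 - E) *ᵥ v) = iact ρ ((1 - E) *ᵥ v) := by
    obtain ⟨y, hy⟩ : ∃ y : ι → F, y = iact ρ ((1 - E) *ᵥ v) := ⟨_, rfl⟩
    rw [← hy]
    have h3 : ∀ t : ι → F, polar (⇑Q) ((MB - 1) *ᵥ t) y = 0 := by
      intro t
      have hKt : K *ᵥ t ∈ U := by
        rw [hmemU, Matrix.mulVec_mulVec, hEK]
      rw [hBK, ← Matrix.mulVec_mulVec, ← hρ _ hKt, hy, polar_iact, ← (hmemU _).mp hKt, hEadj,
        Matrix.mulVec_mulVec, mul_sub, mul_one, hEE, sub_self, Matrix.zero_mulVec]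
      unfold polar
      rw [add_zero, QuadraticMap.map_zero]
      ring
    have h4 : (oDag Gi G MB - 1) *ᵥ y = 0 := by
      apply hnd
      intro t
      have h5 := h3 t
      rw [hadj, oDag_sub, oDag_one h1] at h5
      exact h5
    have h5 : oDag Gi G MB *ᵥ y = y := by
      rw [Matrix.sub_mulVec, Matrix.one_mulVec] at h4
      exact sub_eq_zero.mp h4
    calc MB *ᵥ y = MB *ᵥ (oDag Gi G MB *ᵥ y) := by rw [h5]
      _ = y := by rw [Matrix.mulVec_mulVec, hdB', Matrix.one_mulVec]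
  conv_lhs => rw [hvdec]
  conv_rhs => rw [hvdec]
  rw [Matrix.mulVec_add, iact_add, iact_add, Matrix.mulVec_add, hpart1, hAz, hpart2]

end fin

end Cfsg.Agent.helper11.OConj
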