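import Mathlib
import Cfsg.Agent.Lib_helper11_SL2U
import Cfsg.Agent.Lib_helper11_A5inPSL2

set_option autoImplicit false

/-!
# Automorphisms of `PSL₂(F)` induced by `GL₂(F)` and by field automorphisms
-/

namespace Cfsg.Agent.helper11.OutPSL

open Matrix Cfsg.Agent.helper11.SL2U

variable {F : Type*} [Field F]

/-- the quotient map `SL₂ → PSL₂` -/
def pr : SpecialLinearGroup (Fin 2) F →* ProjectiveSpecialLinearGroup (Fin 2) F :=
  QuotientGroup.mk' (Subgroup.center (SpecialLinearGroup (Fin 2) F))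

theorem pr_surjective : Function.Surjective (pr (F := F)) := QuotientGroup.mk'_surjective _

theorem center_cases {z : SpecialLinearGroup (Fin 2) F}
    (hz : z ∈ Subgroup.center (SpecialLinearGroup (Fin 2) F)) :
    (z : Matrix (Fin 2) (Fin 2) F) = 1 ∨ (z : Matrix (Fin 2) (Fin 2) F) = -1 := by
  obtain ⟨r, hr2, hr⟩ := Matrix.SpecialLinearGroup.mem_center_iff.mp hz
  simp only [Fintype.card_fin] at hr2
  have h : (r - 1) * (r + 1) = 0 := by linear_combination hr2
  rcases mul_eq_zero.mp h with h1 | h1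
  · left
    rw [← hr, sub_eq_zero.mp h1, map_one]
  · right
    rw [← hr, eq_neg_of_add_eq_zero_left h1, map_neg, map_one]

theorem pr_eq_iff (x y : SpecialLinearGroup (Fin 2) F) :
    pr x = pr y ↔ (x : Matrix (Fin 2) (Fin 2) F) = y ∨ (x : Matrix (Fin 2) (Fin 2) F) = -y := by
  constructor
  · intro h
    have h1 : y⁻¹ * x ∈ Subgroup.center (SpecialLinearGroup (Fin 2) F) :=
      QuotientGroup.eq.mp h.symm
    have hx : (x : Matrix (Fin 2) (Fin 2) F) = (y : Matrix (Fin 2) (Fin 2) F) *
        ((y⁻¹ * x : SpecialLinearGroup (Fin 2) F) : Matrix (Fin 2) (Fin 2) F) := by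
      rw [← Matrix.SpecialLinearGroup.coe_mul, mul_inv_cancel_left]
    rcases center_cases h1 with h2 | h2
    · left; rw [hx, h2, mul_one]
    · right; rw [hx, h2, mul_neg, mul_one]
  · rintro (h | h)
    · rw [sl_ext h]
    · have hx : x = y * (-1 : SpecialLinearGroup (Fin 2) F) := by
        apply sl_ext
        rw [Matrix.SpecialLinearGroup.coe_mul, Matrix.SpecialLinearGroup.coe_neg, Matrix.SpecialLinearGroup.coe_one,
          mul_neg, mul_one, h]
      have h1 : pr (-1 : SpecialLinearGroup (Fin 2) F) = 1 :=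
        (QuotientGroup.eq_one_iff _).mpr Cfsg.Agent.helper11.A5inPSL2.neg_one_mem_center
      rw [hx, map_mul, h1, mul_one]

section QuotAut

variable {X : Type*} [Group X] (N : Subgroup X) [hN : N.Characteristic]

/-- automorphisms descend to the quotient by a characteristic subgroup -/
def quotAut : MulAut X →* MulAut (X ⧸ N) where
  toFun e := QuotientGroup.congr N N e (Subgroup.characteristic_iff_map_eq.mp hN e)
  map_one' := by
    apply MulEquiv.ext
    intro x
    induction x using QuotientGroup.induction_on with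
    | H x => rfl
  map_mul' e e' := by
    apply MulEquiv.ext
    intro x
    induction x using QuotientGroup.induction_on with
    | H x => rfl

theorem quotAut_mk (e : MulAut X) (x : X) :
    quotAut N e (QuotientGroup.mk x) = QuotientGroup.mk (e x) := rfl

end QuotAut

/-- conjugation of `SL₂` by an element of `GL₂` -/
def cjFun (g : GL (Fin 2) F) (x : SpecialLinearGroup (Fin 2) F) : SpecialLinearGroup (Fin 2) F :=
  ⟨(g : Matrix (Fin 2) (Fin 2) F) * x * ((g⁻¹ : GL (Fin 2) F) : Matrix (Fin 2) (Fin 2) F), by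
    rw [det_mul, det_mul, x.2, mul_one, ← det_mul, Units.mul_inv, det_one]⟩

theorem coe_cjFun (g : GL (Fin 2) F) (x : SpecialLinearGroup (Fin 2) F) :
    (cjFun g x : Matrix (Fin 2) (Fin 2) F) =
      (g : Matrix (Fin 2) (Fin 2) F) * x *
        ((g⁻¹ : GL (Fin 2) F) : Matrix (Fin 2) (Fin 2) F) := rfl

theorem cjFun_one (x : SpecialLinearGroup (Fin 2) F) : cjFun 1 x = x := by
  apply sl_ext
  rw [coe_cjFun]
  simp

theorem cjFun_mul (g h : GL (Fin 2) F) (x : SpecialLinearGroup (Fin 2) F) :
    cjFun (g * h) x = cjFun g (cjFun h x) := by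
  apply sl_ext
  simp only [coe_cjFun, _root_.mul_inv_rev, Units.val_mul, Matrix.mul_assoc]

theorem cjFun_map_mul (g : GL (Fin 2) F) (x y : SpecialLinearGroup (Fin 2) F) :
    cjFun g (x * y) = cjFun g x * cjFun g y := by
  apply sl_ext
  simp only [coe_cjFun, Matrix.SpecialLinearGroup.coe_mul, Matrix.mul_assoc]
  rw [Units.inv_mul_cancel_left]

/-- if `g x = y g` then `g x g⁻¹ = y` -/
theorem cjFun_eq_of_mul (g : GL (Fin 2) F) (x y : SpecialLinearGroup (Fin 2) F)
    (h : (g : Matrix (Fin 2) (Fin 2) F) * x = (y : Matrix (Fin 2) (Fin 2) F) * g) :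
    cjFun g x = y := by
  apply sl_ext
  rw [coe_cjFun, h, Matrix.mul_assoc, Units.mul_inv, Matrix.mul_one]

/-- if `g x g⁻¹ = Y` then `g x = Y g` -/
theorem mul_of_cjFun_eq (g : GL (Fin 2) F) (x : SpecialLinearGroup (Fin 2) F)
    (Y : Matrix (Fin 2) (Fin 2) F) (h : (cjFun g x : Matrix (Fin 2) (Fin 2) F) = Y) :
    (g : Matrix (Fin 2) (Fin 2) F) * x = Y * g := by
  rw [← h, coe_cjFun, Matrix.mul_assoc, Units.inv_mul, Matrix.mul_one]

/-- `GL₂` acting on `SL₂` by conjugation -/
def cjS : GL (Fin 2) F →* MulAut (SpecialLinearGroup (Fin 2) F) where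
  toFun g :=
    { toFun := cjFun g
      invFun := cjFun g⁻¹
      left_inv := fun x => by rw [← cjFun_mul, inv_mul_cancel, cjFun_one]
      right_inv := fun x => by rw [← cjFun_mul, mul_inv_cancel, cjFun_one]
      map_mul' := cjFun_map_mul g }
  map_one' := MulEquiv.ext fun x => cjFun_one x
  map_mul' g h := MulEquiv.ext fun x => cjFun_mul g h x

/-- field automorphisms acting on `SL₂` -/
def mapS : (F ≃+* F) →* MulAut (SpecialLinearGroup (Fin 2) F) where
  toFun σ :=
    { toFun := Matrix.SpecialLinearGroup.map (σ : F →+* F)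
      invFun := Matrix.SpecialLinearGroup.map (σ.symm : F →+* F)
      left_inv := fun x => by
        apply sl_ext
        ext i j
        simp [Matrix.SpecialLinearGroup.map_apply_coe]
      right_inv := fun x => by
        apply sl_ext
        ext i j
        simp [Matrix.SpecialLinearGroup.map_apply_coe]
      map_mul' := map_mul _ }
  map_one' := MulEquiv.ext fun x => by
    apply sl_ext
    ext i j
    rfl
  map_mul' σ τ := MulEquiv.ext fun x => by
    apply sl_ext
    ext i j
    rfl

/-- the automorphism of `PSL₂` induced by `g ∈ GL₂` -/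
def cG : GL (Fin 2) F →* MulAut (ProjectiveSpecialLinearGroup (Fin 2) F) :=
  (quotAut (Subgroup.center (SpecialLinearGroup (Fin 2) F))).comp cjS

/-- the automorphism of `PSL₂` induced by a field automorphism -/
def sG : (F ≃+* F) →* MulAut (ProjectiveSpecialLinearGroup (Fin 2) F) :=
  (quotAut (Subgroup.center (SpecialLinearGroup (Fin 2) F))).comp mapS

theorem cG_pr (g : GL (Fin 2) F) (x : SpecialLinearGroup (Fin 2) F) :
    cG g (pr x) = pr (cjFun g x) := rfl

theorem sG_pr (σ : F ≃+* F) (x : SpecialLinearGroup (Fin 2) F) :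
    sG σ (pr x) = pr (Matrix.SpecialLinearGroup.map (σ : F →+* F) x) := rfl

theorem map_uS (σ : F ≃+* F) (t : F) :
    Matrix.SpecialLinearGroup.map (σ : F →+* F) (uS t) = uS (σ t) := by
  apply sl_ext
  ext i j
  fin_cases i <;> fin_cases j <;> simp [Matrix.SpecialLinearGroup.map_apply_coe, coe_uS]

theorem map_lS (σ : F ≃+* F) (t : F) :
    Matrix.SpecialLinearGroup.map (σ : F →+* F) (lS t) = lS (σ t) := by
  apply sl_ext
  ext i j
  fin_cases i <;> fin_cases j <;> simp [Matrix.SpecialLinearGroup.map_apply_coe, coe_lS]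

theorem sG_mul_cG (σ : F ≃+* F) (g : GL (Fin 2) F) :
    sG σ * cG g = cG (Matrix.GeneralLinearGroup.map (σ : F →+* F) g) * sG σ := by
  apply MulEquiv.ext
  intro x
  obtain ⟨x, rfl⟩ := pr_surjective x
  rw [MulAut.mul_apply, MulAut.mul_apply, cG_pr, sG_pr, sG_pr, cG_pr]
  congr 1
  apply sl_ext
  rw [coe_cjFun, ← map_inv]
  simp only [Matrix.SpecialLinearGroup.map_apply_coe, coe_cjFun, RingHom.mapMatrix_apply,
    GeneralLinearGroup.map_apply, Matrix.map_mul]
  rfl

theorem cG_toGL (x : SpecialLinearGroup (Fin 2) F) :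
    cG (x : GL (Fin 2) F) = MulAut.conj (pr x) := by
  apply MulEquiv.ext
  intro y
  obtain ⟨y, rfl⟩ := pr_surjective y
  rw [cG_pr, MulAut.conj_apply, ← map_inv, ← map_mul, ← map_mul]
  rfl


theorem neg_eq_self_of_two (h2 : (2 : F) = 0) (X : Matrix (Fin 2) (Fin 2) F) : -X = X := by
  rw [neg_eq_iff_add_eq_zero, ← two_smul F X, h2, zero_smul]

theorem mat_u (M : Matrix (Fin 2) (Fin 2) F) (hM : M.det ≠ 0) (s t : F)
    (h : M * !![1, s; 0, 1] = !![1, t; 0, 1] * M ∨ M * !![1, s; 0, 1] = -(!![1, t; 0, 1] * M)) :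
    M 1 0 * s = 0 ∧ M 0 0 * s = t * M 1 1 ∧ t * M 1 0 = 0 := by
  have key : M * !![1, s; 0, 1] = !![1, t; 0, 1] * M →
      M 1 0 * s = 0 ∧ M 0 0 * s = t * M 1 1 ∧ t * M 1 0 = 0 := by
    intro h
    have h00 : M 0 0 * 1 + M 0 1 * 0 = 1 * M 0 0 + t * M 1 0 := by
      have := congrFun (congrFun h 0) 0
      simpa [Matrix.mul_apply, Fin.sum_univ_two] using this
    have h01 : M 0 0 * s + M 0 1 * 1 = 1 * M 0 1 + t * M 1 1 := by
      have := congrFun (congrFun h 0) 1
      simpa [Matrix.mul_apply, Fin.sum_univ_two] using this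
    have h11 : M 1 0 * s + M 1 1 * 1 = 0 * M 0 1 + 1 * M 1 1 := by
      have := congrFun (congrFun h 1) 1
      simpa [Matrix.mul_apply, Fin.sum_univ_two] using this
    refine ⟨?_, ?_, ?_⟩
    · linear_combination h11
    · linear_combination h01
    · linear_combination -h00
  rcases h with h | h
  · exact key h
  · by_cases h2 : (2 : F) = 0
    · rw [neg_eq_self_of_two h2] at h
      exact key h
    · exfalso
      have h10 : M 1 0 * 1 + M 1 1 * 0 = -(0 * M 0 0 + 1 * M 1 0) := by
        have := congrFun (congrFun h 1) 0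
        rw [Matrix.neg_apply, Matrix.mul_apply, Matrix.mul_apply, Fin.sum_univ_two,
          Fin.sum_univ_two] at this
        simpa using this
      have h11 : M 1 0 * s + M 1 1 * 1 = -(0 * M 0 1 + 1 * M 1 1) := by
        have := congrFun (congrFun h 1) 1
        rw [Matrix.neg_apply, Matrix.mul_apply, Matrix.mul_apply, Fin.sum_univ_two,
          Fin.sum_univ_two] at this
        simpa using this
      have hc : M 1 0 = 0 := by
        have : (2 : F) * M 1 0 = 0 := by linear_combination h10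
        exact (mul_eq_zero.mp this).resolve_left h2
      have hd : M 1 1 = 0 := by
        have : (2 : F) * M 1 1 = 0 := by linear_combination h11 - s * hc
        exact (mul_eq_zero.mp this).resolve_left h2
      apply hM
      rw [Matrix.det_fin_two, hc, hd]
      ring

theorem mat_l (M : Matrix (Fin 2) (Fin 2) F) (hM : M.det ≠ 0) (s t : F)
    (h : M * !![1, 0; s, 1] = !![1, 0; t, 1] * M ∨ M * !![1, 0; s, 1] = -(!![1, 0; t, 1] * M)) :
    M 0 1 * s = 0 ∧ M 1 1 * s = t * M 0 0 ∧ t * M 0 1 = 0 := by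
  have key : M * !![1, 0; s, 1] = !![1, 0; t, 1] * M →
      M 0 1 * s = 0 ∧ M 1 1 * s = t * M 0 0 ∧ t * M 0 1 = 0 := by
    intro h
    have h00 : M 0 0 * 1 + M 0 1 * s = 1 * M 0 0 + 0 * M 1 0 := by
      have := congrFun (congrFun h 0) 0
      simpa [Matrix.mul_apply, Fin.sum_univ_two] using this
    have h10 : M 1 0 * 1 + M 1 1 * s = t * M 0 0 + 1 * M 1 0 := by
      have := congrFun (congrFun h 1) 0
      simpa [Matrix.mul_apply, Fin.sum_univ_two] using this
    have h11 : M 1 0 * 0 + M 1 1 * 1 = t * M 0 1 + 1 * M 1 1 := by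
      have := congrFun (congrFun h 1) 1
      simpa [Matrix.mul_apply, Fin.sum_univ_two] using this
    refine ⟨?_, ?_, ?_⟩
    · linear_combination h00
    · linear_combination h10
    · linear_combination -h11
  rcases h with h | h
  · exact key h
  · by_cases h2 : (2 : F) = 0
    · rw [neg_eq_self_of_two h2] at h
      exact key h
    · exfalso
      have h01 : M 0 0 * 0 + M 0 1 * 1 = -(1 * M 0 1 + 0 * M 1 1) := by
        have := congrFun (congrFun h 0) 1
        rw [Matrix.neg_apply, Matrix.mul_apply, Matrix.mul_apply, Fin.sum_univ_two,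
          Fin.sum_univ_two] at this
        simpa using this
      have h00 : M 0 0 * 1 + M 0 1 * s = -(1 * M 0 0 + 0 * M 1 0) := by
        have := congrFun (congrFun h 0) 0
        rw [Matrix.neg_apply, Matrix.mul_apply, Matrix.mul_apply, Fin.sum_univ_two,
          Fin.sum_univ_two] at this
        simpa using this
      have hb : M 0 1 = 0 := by
        have : (2 : F) * M 0 1 = 0 := by linear_combination h01
        exact (mul_eq_zero.mp this).resolve_left h2
      have ha : M 0 0 = 0 := by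
        have : (2 : F) * M 0 0 = 0 := by linear_combination h00 - s * hb
        exact (mul_eq_zero.mp this).resolve_left h2
      apply hM
      rw [Matrix.det_fin_two, hb, ha]
      ring

theorem GL_det_ne_zero (g : GL (Fin 2) F) : (g : Matrix (Fin 2) (Fin 2) F).det ≠ 0 :=
  ((Matrix.isUnit_iff_isUnit_det _).mp g.isUnit).ne_zero

/-- key rigidity lemma -/
theorem key (g : GL (Fin 2) F) (σ : F ≃+* F) (h : cG g * sG σ = 1) :
    σ = 1 ∧ g ∈ Subgroup.center (GL (Fin 2) F) := by
  have hdet := GL_det_ne_zero g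
  have hu : ∀ t : F, (g : Matrix (Fin 2) (Fin 2) F) * !![1, σ t; 0, 1] = !![1, t; 0, 1] * g ∨
      (g : Matrix (Fin 2) (Fin 2) F) * !![1, σ t; 0, 1] = -(!![1, t; 0, 1] * g) := by
    intro t
    have h1 : (cG g * sG σ) (pr (uS t)) = pr (uS t) := by rw [h]; rfl
    rw [MulAut.mul_apply, sG_pr, cG_pr, map_uS, pr_eq_iff] at h1
    rcases h1 with h1 | h1
    · left
      have := mul_of_cjFun_eq g (uS (σ t)) _ h1
      rwa [coe_uS, coe_uS] at this
    · right
      have := mul_of_cjFun_eq g (uS (σ t)) _ h1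
      rwa [coe_uS, coe_uS, Matrix.neg_mul] at this
  have hl : ∀ t : F, (g : Matrix (Fin 2) (Fin 2) F) * !![1, 0; σ t, 1] = !![1, 0; t, 1] * g ∨
      (g : Matrix (Fin 2) (Fin 2) F) * !![1, 0; σ t, 1] = -(!![1, 0; t, 1] * g) := by
    intro t
    have h1 : (cG g * sG σ) (pr (lS t)) = pr (lS t) := by rw [h]; rfl
    rw [MulAut.mul_apply, sG_pr, cG_pr, map_lS, pr_eq_iff] at h1
    rcases h1 with h1 | h1
    · left
      have := mul_of_cjFun_eq g (lS (σ t)) _ h1
      rwa [coe_lS, coe_lS] at this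
    · right
      have := mul_of_cjFun_eq g (lS (σ t)) _ h1
      rwa [coe_lS, coe_lS, Matrix.neg_mul] at this
  obtain ⟨hc1, had1, -⟩ := mat_u _ hdet _ _ (hu 1)
  obtain ⟨hb1, -, -⟩ := mat_l _ hdet _ _ (hl 1)
  rw [map_one, mul_one] at hc1 hb1
  rw [map_one, mul_one, one_mul] at had1
  have ha : (g : Matrix (Fin 2) (Fin 2) F) 0 0 ≠ 0 := by
    intro h0
    apply hdet
    rw [Matrix.det_fin_two, h0, hc1]
    ring
  constructor
  · ext t
    obtain ⟨-, h2, -⟩ := mat_u _ hdet _ _ (hu t)
    rw [← had1, mul_comm t] at h2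
    exact mul_left_cancel₀ ha h2
  · rw [Matrix.GeneralLinearGroup.mem_center_iff_val_mem_range_scalar]
    refine ⟨(g : Matrix (Fin 2) (Fin 2) F) 0 0, ?_⟩
    ext i j
    fin_cases i <;> fin_cases j <;> simp [hc1, hb1, had1]

theorem cG_ker : (cG (F := F)).ker = Subgroup.center (GL (Fin 2) F) := by
  ext g
  rw [MonoidHom.mem_ker]
  constructor
  · intro h
    exact (key g 1 (by rw [map_one, mul_one, h])).2
  · intro hg
    apply MulEquiv.ext
    intro x
    obtain ⟨x, rfl⟩ := pr_surjective x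
    rw [cG_pr, MulAut.one_apply]
    congr 1
    apply cjFun_eq_of_mul
    obtain ⟨r, hr⟩ := Matrix.GeneralLinearGroup.mem_center_iff_val_mem_range_scalar.mp hg
    rw [← hr]
    exact (Matrix.scalar_commute r (Commute.all r) _).eq

theorem sigma_unique {g g' : GL (Fin 2) F} {σ σ' : F ≃+* F}
    (h : cG g * sG σ = cG g' * sG σ') : σ = σ' := by
  have h1 : cG (g'⁻¹ * g) * sG (σ * σ'⁻¹) = 1 := by
    rw [map_mul, map_mul, map_inv, map_inv]
    calc (cG g')⁻¹ * cG g * (sG σ * (sG σ')⁻¹)
        = (cG g')⁻¹ * (cG g * sG σ) * (sG σ')⁻¹ := by group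
      _ = 1 := by rw [h]; group
  exact mul_inv_eq_one.mp (key _ _ h1).1

theorem center_trivial (z : ProjectiveSpecialLinearGroup (Fin 2) F)
    (hz : ∀ x, z * x = x * z) : z = 1 := by
  obtain ⟨x, rfl⟩ := pr_surjective z
  have h1 : cG (x : GL (Fin 2) F) = 1 := by
    rw [cG_toGL]
    apply MulEquiv.ext
    intro y
    rw [MulAut.conj_apply, hz y, mul_inv_cancel_right]
    rfl
  have h2 : (x : GL (Fin 2) F) ∈ Subgroup.center (GL (Fin 2) F) := by
    rw [← cG_ker]
    exact h1
  obtain ⟨r, hr⟩ := Matrix.GeneralLinearGroup.mem_center_iff_val_mem_range_scalar.mp h2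
  apply (QuotientGroup.eq_one_iff _).mpr
  rw [Matrix.SpecialLinearGroup.mem_center_iff]
  have hr' : Matrix.scalar (Fin 2) r = (x : Matrix (Fin 2) (Fin 2) F) := hr
  refine ⟨r, ?_, hr'⟩
  have := x.2
  rw [← hr'] at this
  simpa using this

theorem card_center_GL2 [Fintype F] :
    Nat.card (Subgroup.center (GL (Fin 2) F)) = Fintype.card F - 1 := by
  rw [Matrix.GeneralLinearGroup.center_eq_range_scalar]
  have hinj : Function.Injective (Matrix.GeneralLinearGroup.scalar (Fin 2) : Fˣ →* GL (Fin 2) F) :=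
    Units.map_injective (fun a b h => Matrix.scalar_inj.mp h)
  rw [← Nat.card_congr (MonoidHom.ofInjective hinj).toEquiv, Nat.card_units,
    Nat.card_eq_fintype_card]

end Cfsg.Agent.helper11.OutPSL
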