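import Mathlib
import Cfsg.Agent.Lib_helper11_OutPSL1

set_option autoImplicit false

/-!
# Automorphisms of `PSL₂(F)` stabilising the two standard unipotent subgroups
-/

namespace Cfsg.Agent.helper11.OutPSL

open Matrix Cfsg.Agent.helper11.SL2U

variable {F : Type*} [Field F]

theorem lS_add (s t : F) : lS (s + t) = lS s * lS t := by
  apply sl_ext
  rw [Matrix.SpecialLinearGroup.coe_mul, coe_lS, coe_lS, coe_lS]
  ext i j
  fin_cases i <;> fin_cases j <;> simp [Matrix.mul_apply, Fin.sum_univ_two, add_comm]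

theorem pr_uS_inj {s t : F} (h : pr (uS s) = pr (uS t)) : s = t := by
  rw [pr_eq_iff, coe_uS, coe_uS] at h
  rcases h with h | h
  · have := congrFun (congrFun h 0) 1
    simpa using this
  · have h00 : (1 : F) = -1 := by
      have := congrFun (congrFun h 0) 0
      simpa using this
    have h01 : s = -t := by
      have := congrFun (congrFun h 0) 1
      simpa using this
    calc s = -t := h01
      _ = (-1) * t := by ring
      _ = 1 * t := by rw [← h00]
      _ = t := one_mul t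

theorem pr_lS_inj {s t : F} (h : pr (lS s) = pr (lS t)) : s = t := by
  rw [pr_eq_iff, coe_lS, coe_lS] at h
  rcases h with h | h
  · have := congrFun (congrFun h 1) 0
    simpa using this
  · have h00 : (1 : F) = -1 := by
      have := congrFun (congrFun h 0) 0
      simpa using this
    have h01 : s = -t := by
      have := congrFun (congrFun h 1) 0
      simpa using this
    calc s = -t := h01
      _ = (-1) * t := by ring
      _ = 1 * t := by rw [← h00]
      _ = t := one_mul t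

/-- the monomial matrix `n(y) = u(-1/y) l(y) u(-1/y)` -/
def nS (y : F) : SpecialLinearGroup (Fin 2) F := uS (-y⁻¹) * lS y * uS (-y⁻¹)

theorem coe_nS {y : F} (hy : y ≠ 0) :
    (nS y : Matrix (Fin 2) (Fin 2) F) = !![0, -y⁻¹; y, 0] := by
  unfold nS
  simp only [Matrix.SpecialLinearGroup.coe_mul, coe_uS, coe_lS]
  ext i j
  fin_cases i <;> fin_cases j <;> simp [Matrix.mul_apply, Fin.sum_univ_two, hy]

theorem m00 (b c : F) :
    ((uS (-b) * lS c * uS (-b) : SpecialLinearGroup (Fin 2) F) :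
      Matrix (Fin 2) (Fin 2) F) 0 0 = 1 - b * c := by
  simp only [Matrix.SpecialLinearGroup.coe_mul, coe_uS, coe_lS]
  simp [Matrix.mul_apply, Fin.sum_univ_two]
  ring

theorem nS_conj_uS {y : F} (hy : y ≠ 0) (t : F) :
    nS y * uS t * (nS y)⁻¹ = lS (-t * y ^ 2) := by
  have h00 : (nS y : Matrix (Fin 2) (Fin 2) F) 0 0 = 0 := by rw [coe_nS hy]; simp
  have h10 : (nS y : Matrix (Fin 2) (Fin 2) F) 1 0 = y := by rw [coe_nS hy]; simp
  have h := bruhat_conj (nS y) (by rw [h10]; exact hy) t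
  rw [h, h00, h10, zero_div, uS_zero, inv_one, one_mul, mul_one]

theorem dS_conj_uS {c c' : F} (hc : c ≠ 0) (hc' : c' ≠ 0) (t : F) :
    (nS c * (nS c')⁻¹) * uS t * (nS c * (nS c')⁻¹)⁻¹ = uS (t * (c⁻¹ * c') ^ 2) := by
  have hM : ((nS c * (nS c')⁻¹ : SpecialLinearGroup (Fin 2) F) : Matrix (Fin 2) (Fin 2) F) =
      !![c⁻¹ * c', 0; 0, c * c'⁻¹] := by
    rw [Matrix.SpecialLinearGroup.coe_mul, Matrix.SpecialLinearGroup.coe_inv, coe_nS hc,
      coe_nS hc', Matrix.adjugate_fin_two_of]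
    ext i j
    fin_cases i <;> fin_cases j <;> simp [Matrix.mul_apply, Fin.sum_univ_two]
  have h10 : ((nS c * (nS c')⁻¹ : SpecialLinearGroup (Fin 2) F) :
      Matrix (Fin 2) (Fin 2) F) 1 0 = 0 := by rw [hM]; simp
  have h00 : ((nS c * (nS c')⁻¹ : SpecialLinearGroup (Fin 2) F) :
      Matrix (Fin 2) (Fin 2) F) 0 0 = c⁻¹ * c' := by rw [hM]; simp
  rw [borel_conj _ h10 t, h00]

theorem sl_mul_of_conj (m u : SpecialLinearGroup (Fin 2) F) (X : Matrix (Fin 2) (Fin 2) F)
    (h : ((m * u * m⁻¹ : SpecialLinearGroup (Fin 2) F) : Matrix (Fin 2) (Fin 2) F) = X) :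
    (m : Matrix (Fin 2) (Fin 2) F) * u = X * m := by
  rw [← h, ← Matrix.SpecialLinearGroup.coe_mul, ← Matrix.SpecialLinearGroup.coe_mul,
    inv_mul_cancel_right]

theorem mat_ul (M : Matrix (Fin 2) (Fin 2) F) (s t : F) (ht : t ≠ 0)
    (h : M * !![1, t; 0, 1] = !![1, 0; s, 1] * M ∨ M * !![1, t; 0, 1] = -(!![1, 0; s, 1] * M)) :
    M 0 0 = 0 := by
  have key : M * !![1, t; 0, 1] = !![1, 0; s, 1] * M → M 0 0 = 0 := by
    intro h
    have h01 : M 0 0 * t + M 0 1 * 1 = 1 * M 0 1 + 0 * M 1 1 := by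
      have := congrFun (congrFun h 0) 1
      simpa [Matrix.mul_apply, Fin.sum_univ_two] using this
    have : M 0 0 * t = 0 := by linear_combination h01
    exact (mul_eq_zero.mp this).resolve_right ht
  rcases h with h | h
  · exact key h
  · by_cases h2 : (2 : F) = 0
    · rw [neg_eq_self_of_two h2] at h
      exact key h
    · have h00 : M 0 0 * 1 + M 0 1 * 0 = -(1 * M 0 0 + 0 * M 1 0) := by
        have := congrFun (congrFun h 0) 0
        rw [Matrix.neg_apply, Matrix.mul_apply, Matrix.mul_apply, Fin.sum_univ_two,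
          Fin.sum_univ_two] at this
        simpa using this
      have : (2 : F) * M 0 0 = 0 := by linear_combination h00
      exact (mul_eq_zero.mp this).resolve_left h2

theorem cjFun_diag_uS {k : F} (hk : k ≠ 0) (s : F) :
    cjFun (Matrix.GeneralLinearGroup.mkOfDetNeZero !![k, 0; 0, 1]
      (by simpa [Matrix.det_fin_two_of] using hk)) (uS s) = uS (k * s) := by
  apply cjFun_eq_of_mul
  show !![k, 0; 0, 1] * (uS s : Matrix (Fin 2) (Fin 2) F) =
    (uS (k * s) : Matrix (Fin 2) (Fin 2) F) * !![k, 0; 0, 1]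
  rw [coe_uS, coe_uS]
  ext i j
  fin_cases i <;> fin_cases j <;> simp [Matrix.mul_apply, Fin.sum_univ_two]

theorem cjFun_diag_lS {k : F} (hk : k ≠ 0) (s : F) :
    cjFun (Matrix.GeneralLinearGroup.mkOfDetNeZero !![k, 0; 0, 1]
      (by simpa [Matrix.det_fin_two_of] using hk)) (lS s) = lS (s * k⁻¹) := by
  apply cjFun_eq_of_mul
  show !![k, 0; 0, 1] * (lS s : Matrix (Fin 2) (Fin 2) F) =
    (lS (s * k⁻¹) : Matrix (Fin 2) (Fin 2) F) * !![k, 0; 0, 1]
  rw [coe_lS, coe_lS]
  ext i j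
  fin_cases i <;> fin_cases j <;> simp [Matrix.mul_apply, Fin.sum_univ_two, hk]


theorem stab_form [Finite F] (α : MulAut (ProjectiveSpecialLinearGroup (Fin 2) F))
    (hU : ∀ t : F, ∃ t', α (pr (uS t)) = pr (uS t'))
    (hL : ∀ t : F, ∃ t', α (pr (lS t)) = pr (lS t')) :
    ∃ (g : GL (Fin 2) F) (σ : F ≃+* F), α = cG g * sG σ := by
  choose β hβ using hU
  choose γ hγ using hL
  have hβadd : ∀ s t, β (s + t) = β s + β t := by
    intro s t
    apply pr_uS_inj
    rw [← hβ, uS_add, map_mul, map_mul, hβ, hβ, ← map_mul, ← uS_add]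
  have hγadd : ∀ s t, γ (s + t) = γ s + γ t := by
    intro s t
    apply pr_lS_inj
    rw [← hγ, lS_add, map_mul, map_mul, hγ, hγ, ← map_mul, ← lS_add]
  have hβ0 : β 0 = 0 := by simpa using hβadd 0 0
  have hγ0 : γ 0 = 0 := by simpa using hγadd 0 0
  have hβneg : ∀ t, β (-t) = -β t := by
    intro t
    have := hβadd t (-t)
    rw [add_neg_cancel, hβ0] at this
    exact eq_neg_of_add_eq_zero_right this.symm
  have hβinj : ∀ s t, β s = β t → s = t := by
    intro s t h
    apply pr_uS_inj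
    apply α.injective
    rw [hβ, hβ, h]
  have hk : β 1 ≠ 0 := by
    intro h
    exact one_ne_zero (hβinj 1 0 (by rw [h, hβ0]))
  -- Claim A
  have hA : ∀ y : F, y ≠ 0 → γ y * β y⁻¹ = 1 := by
    intro y hy
    have hαn : α (pr (nS y)) = pr (uS (-β y⁻¹) * lS (γ y) * uS (-β y⁻¹)) := by
      unfold nS
      rw [map_mul, map_mul, map_mul, map_mul, hβ, hγ, hβneg, ← map_mul, ← map_mul]
    have hrel := congrArg (fun z => α (pr z)) (nS_conj_uS hy 1)
    simp only [map_mul, map_inv] at hrel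
    rw [hαn, hβ, hγ, ← map_inv, ← map_mul, ← map_mul, pr_eq_iff] at hrel
    have h0 : ((uS (-β y⁻¹) * lS (γ y) * uS (-β y⁻¹) : SpecialLinearGroup (Fin 2) F) :
        Matrix (Fin 2) (Fin 2) F) 0 0 = 0 := by
      apply mat_ul _ (γ (-1 * y ^ 2)) (β 1) hk
      rcases hrel with h | h
      · left
        have := sl_mul_of_conj _ _ _ h
        rwa [coe_uS, coe_lS] at this
      · right
        have := sl_mul_of_conj _ _ _ h
        rwa [coe_uS, coe_lS, Matrix.neg_mul] at this
    rw [m00] at h0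
    linear_combination -h0
  have hγne : ∀ y : F, y ≠ 0 → γ y ≠ 0 := by
    intro y hy h
    have := hA y hy
    rw [h, zero_mul] at this
    exact zero_ne_one this
  -- Claim B
  have hB : ∀ y : F, y ≠ 0 → α (pr (nS y)) = pr (nS (γ y)) := by
    intro y hy
    have hb : β y⁻¹ = (γ y)⁻¹ := eq_inv_of_mul_eq_one_right (hA y hy)
    unfold nS
    rw [map_mul, map_mul, map_mul, map_mul, hβ, hγ, hβneg, ← map_mul, ← map_mul, hb]
  -- Claim C
  have hC : ∀ y : F, y ≠ 0 → ∀ t, β (t * (y⁻¹ * 1) ^ 2) = β t * ((γ y)⁻¹ * γ 1) ^ 2 := by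
    intro y hy t
    have hrel := congrArg (fun z => α (pr z)) (dS_conj_uS hy one_ne_zero t)
    simp only [map_mul, map_inv] at hrel
    rw [hB y hy, hB 1 one_ne_zero, hβ, hβ] at hrel
    simp only [← map_mul, ← map_inv] at hrel
    rw [dS_conj_uS (hγne y hy) (hγne 1 one_ne_zero)] at hrel
    exact (pr_uS_inj hrel).symm
  have hγ1 : γ 1 = (β 1)⁻¹ := by
    have := hA 1 one_ne_zero
    rw [inv_one] at this
    exact eq_inv_of_mul_eq_one_left this
  obtain ⟨σ, hσdef⟩ : ∃ σ : F → F, ∀ t, σ t = β t * (β 1)⁻¹ := ⟨_, fun _ => rfl⟩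
  have hσ0 : σ 0 = 0 := by rw [hσdef, hβ0, zero_mul]
  have hσ1 : σ 1 = 1 := by rw [hσdef, mul_inv_cancel₀ hk]
  have hσadd : ∀ s t, σ (s + t) = σ s + σ t := by
    intro s t
    rw [hσdef, hσdef, hσdef, hβadd, add_mul]
  have hσsq : ∀ t y, σ (t * y ^ 2) = σ t * σ y ^ 2 := by
    intro t y
    by_cases hy : y = 0
    · rw [hy, hσ0]
      simp [hσ0]
    · have h1 := hC y⁻¹ (inv_ne_zero hy) t
      have h2 := hA y⁻¹ (inv_ne_zero hy)
      rw [inv_inv] at h1 h2
      have h3 : (γ y⁻¹)⁻¹ = β y := (eq_inv_of_mul_eq_one_right h2).symm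
      rw [h3, hγ1, mul_one] at h1
      rw [hσdef, hσdef, hσdef, h1]
      ring
  have hσmul : ∀ t y, σ (t * y) = σ t * σ y := by
    intro t y
    by_cases h2 : (2 : F) = 0
    · haveI : CharP F 2 := CharTwo.of_one_ne_zero_of_two_eq_zero one_ne_zero h2
      obtain ⟨z, rfl⟩ := FiniteField.isSquare_of_char_two (ringChar.eq F 2) y
      have h1 := hσsq t z
      have h3 := hσsq 1 z
      rw [hσ1, one_mul, one_mul] at h3
      rw [← pow_two, h1, h3]
    · have h1 := hσsq t (y + 1)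
      have h3 : t * (y + 1) ^ 2 = t * y ^ 2 + (t * y + t * y) + t := by ring
      rw [h3, hσadd, hσadd, hσadd, hσadd, hσ1, hσsq] at h1
      have h4 : (2 : F) * σ (t * y) = 2 * (σ t * σ y) := by linear_combination h1
      exact mul_left_cancel₀ h2 h4
  obtain ⟨σh, hσh⟩ : ∃ σh : F →+* F, ∀ t, σh t = σ t :=
    ⟨{ toFun := σ, map_one' := hσ1, map_mul' := hσmul, map_zero' := hσ0, map_add' := hσadd },
      fun _ => rfl⟩
  have hσbij : Function.Bijective σh :=
    ⟨σh.injective, Finite.injective_iff_surjective.mp σh.injective⟩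
  obtain ⟨σe, hσe⟩ : ∃ σe : F ≃+* F, ∀ t, σe t = σ t :=
    ⟨RingEquiv.ofBijective σh hσbij, fun t => hσh t⟩
  have hγform : ∀ t, γ t = σ t * (β 1)⁻¹ := by
    intro t
    by_cases ht : t = 0
    · rw [ht, hγ0, hσ0, zero_mul]
    · have h1 := hA t ht
      have h2 : σ t⁻¹ * σ t = 1 := by rw [← hσmul, inv_mul_cancel₀ ht, hσ1]
      have h3 : β t⁻¹ = σ t⁻¹ * β 1 := by
        rw [hσdef, mul_assoc, inv_mul_cancel₀ hk, mul_one]
      rw [h3] at h1
      have hk' : (β 1)⁻¹ * β 1 = 1 := inv_mul_cancel₀ hk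
      have e : γ t * (σ t⁻¹ * β 1) * (σ t * (β 1)⁻¹) =
          γ t * (σ t⁻¹ * σ t) * ((β 1)⁻¹ * β 1) := by ring
      calc γ t = γ t * (σ t⁻¹ * β 1) * (σ t * (β 1)⁻¹) := by
            rw [e, h2, hk', mul_one, mul_one]
        _ = σ t * (β 1)⁻¹ := by rw [h1, one_mul]
  refine ⟨Matrix.GeneralLinearGroup.mkOfDetNeZero !![β 1, 0; 0, 1]
      (by simpa [Matrix.det_fin_two_of] using hk), σe, ?_⟩
  have hH : (MonoidHom.eqLocus (α : ProjectiveSpecialLinearGroup (Fin 2) F →*
        ProjectiveSpecialLinearGroup (Fin 2) F)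
      ((cG (Matrix.GeneralLinearGroup.mkOfDetNeZero !![β 1, 0; 0, 1]
        (by simpa [Matrix.det_fin_two_of] using hk)) * sG σe :
        MulAut (ProjectiveSpecialLinearGroup (Fin 2) F)) :
        ProjectiveSpecialLinearGroup (Fin 2) F →*
        ProjectiveSpecialLinearGroup (Fin 2) F)).comap pr = ⊤ := by
    apply eq_top_of_uS_lS_mem
    · intro t
      show α (pr (uS t)) = (cG _ * sG σe : MulAut (ProjectiveSpecialLinearGroup (Fin 2) F)) (pr (uS t))
      rw [MulAut.mul_apply, sG_pr, cG_pr, map_uS, cjFun_diag_uS hk, hβ, hσe, hσdef]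
      congr 2
      rw [mul_comm (β t), ← mul_assoc, mul_inv_cancel₀ hk, one_mul]
    · intro t
      show α (pr (lS t)) = (cG _ * sG σe : MulAut (ProjectiveSpecialLinearGroup (Fin 2) F)) (pr (lS t))
      rw [MulAut.mul_apply, sG_pr, cG_pr, map_lS, cjFun_diag_lS hk, hγ, hσe, hγform]
  apply MulEquiv.ext
  intro x
  obtain ⟨x, rfl⟩ := pr_surjective x
  have hx : x ∈ (MonoidHom.eqLocus (α : ProjectiveSpecialLinearGroup (Fin 2) F →*
        ProjectiveSpecialLinearGroup (Fin 2) F)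
      ((cG (Matrix.GeneralLinearGroup.mkOfDetNeZero !![β 1, 0; 0, 1]
        (by simpa [Matrix.det_fin_two_of] using hk)) * sG σe :
        MulAut (ProjectiveSpecialLinearGroup (Fin 2) F)) :
        ProjectiveSpecialLinearGroup (Fin 2) F →*
        ProjectiveSpecialLinearGroup (Fin 2) F)).comap pr := by
    rw [hH]
    trivial
  exact hx

end Cfsg.Agent.helper11.OutPSL
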