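import Mathlib
import Cfsg.Agent.Lib_helper11_OutPSL2

set_option autoImplicit false

/-!
# Every automorphism of `PSL₂(q)` is induced by `GL₂(q)` and a field automorphism
-/

namespace Cfsg.Agent.helper11.OutPSL

open Matrix Cfsg.Agent.helper11.SL2U

variable {F : Type*} [Field F] [Fintype F]

/-- the image of the unitriangular group as a Sylow subgroup of `PSL₂` -/
noncomputable def PbarSylow (p : ℕ) [Fact p.Prime] [CharP F p] : Sylow p (ProjectiveSpecialLinearGroup (Fin 2) F) :=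
  (USylow (F := F) p).mapSurjective pr_surjective

theorem mem_Pbar (p : ℕ) [Fact p.Prime] [CharP F p] (y : ProjectiveSpecialLinearGroup (Fin 2) F) :
    y ∈ PbarSylow (F := F) p ↔ ∃ t : F, y = pr (uS t) := by
  show y ∈ ((PbarSylow p : Sylow p (ProjectiveSpecialLinearGroup (Fin 2) F)) :
    Subgroup (ProjectiveSpecialLinearGroup (Fin 2) F)) ↔ _
  rw [PbarSylow, Sylow.coe_mapSurjective, coe_USylow, Subgroup.mem_map]
  constructor
  · rintro ⟨x, hx, rfl⟩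
    obtain ⟨t, rfl⟩ := exists_of_mem_U hx
    exact ⟨t, rfl⟩
  · rintro ⟨t, rfl⟩
    exact ⟨uS t, uS_mem t, rfl⟩

theorem mem_smul_Pbar (p : ℕ) [Fact p.Prime] [CharP F p] (g : SpecialLinearGroup (Fin 2) F)
    (y : ProjectiveSpecialLinearGroup (Fin 2) F) :
    y ∈ pr g • PbarSylow (F := F) p ↔ ∃ t : F, y = pr (g * uS t * g⁻¹) := by
  rw [mem_smul_sylow_iff, mem_Pbar]
  constructor
  · rintro ⟨t, ht⟩
    refine ⟨t, ?_⟩
    rw [map_mul, map_mul, map_inv, ← ht]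
    group
  · rintro ⟨t, rfl⟩
    refine ⟨t, ?_⟩
    rw [map_mul, map_mul, map_inv]
    group

theorem mem_aut_smul (p : ℕ) [Fact p.Prime] (α : MulAut (ProjectiveSpecialLinearGroup (Fin 2) F))
    (Q : Sylow p (ProjectiveSpecialLinearGroup (Fin 2) F))
    (y : ProjectiveSpecialLinearGroup (Fin 2) F) : α y ∈ α • Q ↔ y ∈ Q := by
  show α y ∈ ((α • Q : Sylow p (ProjectiveSpecialLinearGroup (Fin 2) F)) :
    Subgroup (ProjectiveSpecialLinearGroup (Fin 2) F)) ↔ _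
  rw [Sylow.pointwise_smul_def, ← MulAut.smul_def, Subgroup.smul_mem_pointwise_smul_iff]
  rfl

theorem exists_conj_stab (p : ℕ) [Fact p.Prime] [CharP F p] (α : MulAut (ProjectiveSpecialLinearGroup (Fin 2) F)) :
    ∃ x : SpecialLinearGroup (Fin 2) F,
      (∀ t : F, ∃ t', α (pr (uS t)) = pr (x * uS t' * x⁻¹)) ∧
      (∀ t : F, ∃ t', α (pr (lS t)) = pr (x * lS t' * x⁻¹)) := by
  obtain ⟨g1b, hg1⟩ := MulAction.exists_smul_eq (ProjectiveSpecialLinearGroup (Fin 2) F)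
    (PbarSylow (F := F) p) (α • PbarSylow p)
  obtain ⟨g1, rfl⟩ := pr_surjective g1b
  obtain ⟨g2b, hg2⟩ := MulAction.exists_smul_eq (ProjectiveSpecialLinearGroup (Fin 2) F)
    (PbarSylow (F := F) p) (α • (pr (nS (1 : F)) • PbarSylow p))
  obtain ⟨g2, rfl⟩ := pr_surjective g2b
  have hlQ : ∀ t : F, pr (lS t) ∈ pr (nS (1 : F)) • PbarSylow (F := F) p := by
    intro t
    rw [mem_smul_Pbar]
    refine ⟨-t, ?_⟩
    rw [nS_conj_uS one_ne_zero]
    congr 2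
    ring
  have hαl : ∀ t : F, ∃ t1, α (pr (lS t)) = pr (g2 * uS t1 * g2⁻¹) := by
    intro t
    have := (mem_aut_smul p α _ _).mpr (hlQ t)
    rw [← hg2, mem_smul_Pbar] at this
    exact this
  have hαu : ∀ t : F, ∃ t1, α (pr (uS t)) = pr (g1 * uS t1 * g1⁻¹) := by
    intro t
    have := (mem_aut_smul p α (PbarSylow p) _).mpr ((mem_Pbar p _).mpr ⟨t, rfl⟩)
    rw [← hg1, mem_smul_Pbar] at this
    exact this
  have hh : ((g1⁻¹ * g2 : SpecialLinearGroup (Fin 2) F) : Matrix (Fin 2) (Fin 2) F) 1 0 ≠ 0 := by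
    intro h0
    obtain ⟨t0, ht0⟩ := hαl 1
    have e : g2 * uS t0 * g2⁻¹ = g1 * ((g1⁻¹ * g2) * uS t0 * (g1⁻¹ * g2)⁻¹) * g1⁻¹ := by group
    rw [e, borel_conj _ h0] at ht0
    have h1 : α (pr (lS 1)) ∈ α • PbarSylow (F := F) p := by
      rw [← hg1, mem_smul_Pbar]
      exact ⟨_, ht0⟩
    rw [mem_aut_smul, mem_Pbar] at h1
    obtain ⟨t1, ht1⟩ := h1
    rw [pr_eq_iff, coe_lS, coe_uS] at ht1
    rcases ht1 with h | h
    · have := congrFun (congrFun h 1) 0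
      simp at this
    · have := congrFun (congrFun h 1) 0
      simp at this
  obtain ⟨b, hb⟩ : ∃ b : F, b =
      ((g1⁻¹ * g2 : SpecialLinearGroup (Fin 2) F) : Matrix (Fin 2) (Fin 2) F) 0 0 /
      ((g1⁻¹ * g2 : SpecialLinearGroup (Fin 2) F) : Matrix (Fin 2) (Fin 2) F) 1 0 := ⟨_, rfl⟩
  refine ⟨g1 * uS b, ?_, ?_⟩
  · intro t
    obtain ⟨t1, ht1⟩ := hαu t
    refine ⟨t1, ?_⟩
    rw [ht1]
    congr 1
    have h3 : uS b * uS t1 * uS (-b) = uS t1 := by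
      rw [← uS_add, ← uS_add]
      congr 1
      ring
    rw [_root_.mul_inv_rev, uS_inv]
    calc g1 * uS t1 * g1⁻¹ = g1 * (uS b * uS t1 * uS (-b)) * g1⁻¹ := by rw [h3]
      _ = _ := by group
  · intro t
    obtain ⟨t1, ht1⟩ := hαl t
    refine ⟨-t1 *
      ((g1⁻¹ * g2 : SpecialLinearGroup (Fin 2) F) : Matrix (Fin 2) (Fin 2) F) 1 0 ^ 2, ?_⟩
    rw [ht1]
    congr 1
    have e : g2 * uS t1 * g2⁻¹ = g1 * ((g1⁻¹ * g2) * uS t1 * (g1⁻¹ * g2)⁻¹) * g1⁻¹ := by group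
    rw [e, bruhat_conj _ hh, ← hb]
    group

theorem main_exists (p : ℕ) [Fact p.Prime] [CharP F p] (α : MulAut (ProjectiveSpecialLinearGroup (Fin 2) F)) :
    ∃ (g : GL (Fin 2) F) (σ : F ≃+* F), α = cG g * sG σ := by
  obtain ⟨x, hxU, hxL⟩ := exists_conj_stab p α
  have h := stab_form ((MulAut.conj (pr x))⁻¹ * α) ?_ ?_
  · obtain ⟨g, σ, hg⟩ := h
    refine ⟨(x : GL (Fin 2) F) * g, σ, ?_⟩
    rw [map_mul, cG_toGL, mul_assoc, ← hg]
    group
  · intro t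
    obtain ⟨t', ht'⟩ := hxU t
    refine ⟨t', ?_⟩
    rw [MulAut.mul_apply, ht', MulAut.conj_inv_apply, map_mul, map_mul, map_inv]
    group
  · intro t
    obtain ⟨t', ht'⟩ := hxL t
    refine ⟨t', ?_⟩
    rw [MulAut.mul_apply, ht', MulAut.conj_inv_apply, map_mul, map_mul, map_inv]
    group

end Cfsg.Agent.helper11.OutPSL
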