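import Mathlib
import Cfsg.Prelude.Def_KGroupFacts
import Cfsg.Agent.Lib_helper11_OutPSL3
import Cfsg.Agent.Lib_helper11_GL2

set_option autoImplicit false

/-!
# `Aut(PSL₂(q)) → Aut(F)` and the counting for `Out(PSL₂(q))`
-/

namespace Cfsg.Agent.helper11.OutPSL

open Matrix Cfsg.Agent.helper11.SL2U

variable {F : Type*} [Field F] [Fintype F]

theorem charP_of_card {p f : ℕ} [hp : Fact p.Prime] (hf : 1 ≤ f)
    (hF : Fintype.card F = p ^ f) : CharP F p := by
  obtain ⟨r, hr⟩ := CharP.exists F
  haveI := hr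
  obtain ⟨n, hrp, hn⟩ := FiniteField.card F r
  have h1 : p ∣ r ^ (n : ℕ) := by
    rw [← hn, hF]
    exact dvd_pow_self p (by omega)
  have h2 := (Nat.prime_dvd_prime_iff_eq hp.out hrp).mp (hp.out.dvd_of_dvd_pow h1)
  rw [h2]
  exact hr

/-- the homomorphism `Aut(PSL₂(q)) → Aut(F)` -/
theorem exists_Phi (p : ℕ) [Fact p.Prime] [CharP F p] :
    ∃ Φ : MulAut (ProjectiveSpecialLinearGroup (Fin 2) F) →* (F ≃+* F),
      (∀ (g : GL (Fin 2) F) (σ : F ≃+* F), Φ (cG g * sG σ) = σ) ∧
      (∀ a, ∃ g : GL (Fin 2) F, a = cG g * sG (Φ a)) := by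
  have hex := main_exists (F := F) p
  choose gf σf hgσ using hex
  have hval : ∀ (g : GL (Fin 2) F) (σ : F ≃+* F), σf (cG g * sG σ) = σ :=
    fun g σ => sigma_unique (hgσ (cG g * sG σ)).symm
  refine ⟨{ toFun := σf, map_one' := ?_, map_mul' := ?_ }, hval, fun a => ⟨gf a, hgσ a⟩⟩
  · have h1 : (1 : MulAut (ProjectiveSpecialLinearGroup (Fin 2) F)) =
        cG (1 : GL (Fin 2) F) * sG (1 : F ≃+* F) := by
      rw [map_one, map_one, one_mul]
    rw [h1, hval]
  · intro a b
    have h1 : a * b = cG (gf a * Matrix.GeneralLinearGroup.map ((σf a : F ≃+* F) : F →+* F) (gf b)) *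
        sG (σf a * σf b) := by
      rw [map_mul, map_mul]
      calc a * b = cG (gf a) * sG (σf a) * (cG (gf b) * sG (σf b)) := by rw [← hgσ a, ← hgσ b]
        _ = cG (gf a) * (sG (σf a) * cG (gf b)) * sG (σf b) := by group
        _ = _ := by rw [sG_mul_cG]; group
    show σf (a * b) = σf a * σf b
    rw [h1, hval]

/-- `Aut(F)` is cyclic of order `f` -/
theorem ringAut_equiv (p : ℕ) [Fact p.Prime] [CharP F p] {f : ℕ} (hF : Fintype.card F = p ^ f) :
    Nonempty ((F ≃+* F) ≃* Multiplicative (ZMod f)) := by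
  letI : Algebra (ZMod p) F := ZMod.algebra F p
  have e : (F ≃+* F) ≃* (F ≃ₐ[ZMod p] F) :=
    { toFun := fun σ => { σ with
        commutes' := fun r => DFunLike.congr_fun
          (Subsingleton.elim ((σ : F →+* F).comp (algebraMap (ZMod p) F))
            (algebraMap (ZMod p) F)) r }
      invFun := fun e => e.toRingEquiv
      left_inv := fun σ => by ext; rfl
      right_inv := fun e => by ext; rfl
      map_mul' := fun σ τ => by ext; rfl }
  have hcard : Nat.card (F ≃ₐ[ZMod p] F) = f := by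
    rw [IsGalois.card_aut_eq_finrank]
    have h := FiniteField.pow_finrank_eq_card p F
    rw [hF] at h
    exact Nat.pow_right_injective (Fact.out : p.Prime).two_le h
  have h2 := zmodCyclicMulEquiv (inferInstance : IsCyclic (F ≃ₐ[ZMod p] F))
  rw [hcard] at h2
  exact ⟨e.trans h2.symm⟩

theorem card_inn_of_centerless {X : Type*} [Group X]
    (hX : ∀ z : X, (∀ x : X, z * x = x * z) → z = 1) :
    Nat.card (Cfsg.Inn X) = Nat.card X := by
  have hinj : Function.Injective (MulAut.conj : X →* MulAut X) := by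
    intro a b h
    have h1 : b⁻¹ * a = 1 := by
      apply hX
      intro x
      have := DFunLike.congr_fun h x
      rw [MulAut.conj_apply, MulAut.conj_apply] at this
      calc b⁻¹ * a * x = b⁻¹ * (a * x * a⁻¹) * a := by group
        _ = b⁻¹ * (b * x * b⁻¹) * a := by rw [this]
        _ = x * (b⁻¹ * a) := by group
    calc a = b * (b⁻¹ * a) := by group
      _ = b := by rw [h1, mul_one]
  exact Nat.card_congr (MonoidHom.ofInjective hinj).toEquiv.symm

theorem card_range_cG :
    Nat.card (cG (F := F)).range = (Fintype.card F ^ 2 - 1) * Fintype.card F := by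
  have hq : 2 ≤ Fintype.card F := Fintype.one_lt_card
  have h1 := Subgroup.card_eq_card_quotient_mul_card_subgroup (cG (F := F)).ker
  rw [Nat.card_congr (QuotientGroup.quotientKerEquivRange (cG (F := F))).toEquiv, cG_ker,
    card_center_GL2, Cfsg.Agent.helper11.GL2.card_GL2] at h1
  have hq2 : Fintype.card F ^ 2 - Fintype.card F = Fintype.card F * (Fintype.card F - 1) := by
    rw [pow_two, Nat.mul_sub_one]
  rw [hq2, ← mul_assoc] at h1
  exact (Nat.eq_of_mul_eq_mul_right (by omega) h1).symm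

end Cfsg.Agent.helper11.OutPSL
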