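import Mathlib

set_option autoImplicit false

/-!
# The projective line: sharp 3-transitivity of `PGL₂`

* `exists_GL_std` : every triple of distinct points is the image of `(∞, 0, 1)` under some `g ∈ GL₂`
* `scalar_of_fix_std` : an element of `GL₂` fixing `∞, 0, 1` is scalar
-/

namespace Cfsg.Agent.helper11.P1

open scoped LinearAlgebra.Projectivization MatrixGroups
open Projectivization

variable {F : Type*} [Field F]

/-- the 2×2 determinant of two vectors -/
def det2 (x y : Fin 2 → F) : F := x 0 * y 1 - x 1 * y 0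

theorem vec_eta (x : Fin 2 → F) : x = ![x 0, x 1] := by
  ext i; fin_cases i <;> rfl

theorem det2_ne_zero_of_ne {x y : Fin 2 → F} (hx : x ≠ 0) (hy : y ≠ 0)
    (h : mk F x hx ≠ mk F y hy) : det2 x y ≠ 0 := by
  intro hD
  apply h
  rw [mk_eq_mk_iff']
  unfold det2 at hD
  by_cases hy0 : y 0 = 0
  · have hy1 : y 1 ≠ 0 := by
      intro hy1
      apply hy
      ext i; fin_cases i <;> simp [hy0, hy1]
    have hx0 : x 0 = 0 := by
      rw [hy0, mul_zero, sub_zero] at hD
      rcases mul_eq_zero.mp hD with h1 | h1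
      · exact h1
      · exact absurd h1 hy1
    refine ⟨x 1 / y 1, ?_⟩
    ext i; fin_cases i
    · simp [hy0, hx0]
    · simp only [Fin.mk_one, Fin.isValue, Pi.smul_apply, smul_eq_mul]
      field_simp
  · refine ⟨x 0 / y 0, ?_⟩
    ext i; fin_cases i
    · simp only [Fin.zero_eta, Fin.isValue, Pi.smul_apply, smul_eq_mul]
      field_simp
    · simp only [Fin.mk_one, Fin.isValue, Pi.smul_apply, smul_eq_mul]
      field_simp
      linear_combination hD

theorem e1_ne_zero : (![1, 0] : Fin 2 → F) ≠ 0 := by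
  intro h
  have := congrFun h 0
  simp at this

theorem e2_ne_zero : (![0, 1] : Fin 2 → F) ≠ 0 := by
  intro h
  have := congrFun h 1
  simp at this

theorem e12_ne_zero : (![1, 1] : Fin 2 → F) ≠ 0 := by
  intro h
  have := congrFun h 0
  simp at this

/-- the point at infinity -/
def pInf : ℙ F (Fin 2 → F) := mk F ![1, 0] e1_ne_zero
/-- the point zero -/
def pZero : ℙ F (Fin 2 → F) := mk F ![0, 1] e2_ne_zero
/-- the point one -/
def pOne : ℙ F (Fin 2 → F) := mk F ![1, 1] e12_ne_zero

theorem GL_smul_mk (g : GL (Fin 2) F) (v : Fin 2 → F) (hv : v ≠ 0) :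
    g • mk F v hv = mk F ((g : Matrix (Fin 2) (Fin 2) F).mulVec v)
      ((smul_ne_zero_iff_ne g).mpr hv) := rfl

/-- Every triple of distinct points is the image of the standard triple. -/
theorem exists_GL_std (a b c : ℙ F (Fin 2 → F)) (hab : a ≠ b) (hac : a ≠ c) (hbc : b ≠ c) :
    ∃ g : GL (Fin 2) F, g • pInf = a ∧ g • pZero = b ∧ g • pOne = c := by
  induction a using Projectivization.ind with | h u hu =>
  induction b using Projectivization.ind with | h v hv =>
  induction c using Projectivization.ind with | h w hw =>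
  have hD := det2_ne_zero_of_ne hu hv hab
  have hA := det2_ne_zero_of_ne hw hv (Ne.symm hbc)
  have hB := det2_ne_zero_of_ne hu hw hac
  set M : Matrix (Fin 2) (Fin 2) F :=
    !![det2 w v * u 0, det2 u w * v 0; det2 w v * u 1, det2 u w * v 1] with hM
  have hdet : M.det ≠ 0 := by
    have : M.det = det2 w v * det2 u w * det2 u v := by
      rw [hM, Matrix.det_fin_two_of]
      unfold det2
      ring
    rw [this]
    exact mul_ne_zero (mul_ne_zero hA hB) hD
  refine ⟨Matrix.GeneralLinearGroup.mkOfDetNeZero M hdet, ?_, ?_, ?_⟩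
  · rw [pInf, GL_smul_mk, mk_eq_mk_iff']
    refine ⟨det2 w v, ?_⟩
    ext i
    fin_cases i <;> simp [Matrix.GeneralLinearGroup.mkOfDetNeZero, hM, Matrix.mulVec, dotProduct,
      Fin.sum_univ_two]
  · rw [pZero, GL_smul_mk, mk_eq_mk_iff']
    refine ⟨det2 u w, ?_⟩
    ext i
    fin_cases i <;> simp [Matrix.GeneralLinearGroup.mkOfDetNeZero, hM, Matrix.mulVec, dotProduct,
      Fin.sum_univ_two]
  · rw [pOne, GL_smul_mk, mk_eq_mk_iff']
    refine ⟨det2 u v, ?_⟩
    ext i
    fin_cases i <;> simp [Matrix.GeneralLinearGroup.mkOfDetNeZero, hM, Matrix.mulVec, dotProduct,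
      Fin.sum_univ_two] <;> unfold det2 <;> ring

/-- An element of `GL₂` fixing `∞`, `0`, `1` is a scalar matrix. -/
theorem scalar_of_fix_std (g : GL (Fin 2) F) (h1 : g • (pInf : ℙ F (Fin 2 → F)) = pInf)
    (h2 : g • (pZero : ℙ F (Fin 2 → F)) = pZero) (h3 : g • (pOne : ℙ F (Fin 2 → F)) = pOne) :
    ∃ a : Fˣ, g = Matrix.GeneralLinearGroup.scalar (Fin 2) a := by
  rw [pInf, GL_smul_mk, mk_eq_mk_iff'] at h1
  rw [pZero, GL_smul_mk, mk_eq_mk_iff'] at h2
  rw [pOne, GL_smul_mk, mk_eq_mk_iff'] at h3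
  obtain ⟨a, ha⟩ := h1
  obtain ⟨b, hb⟩ := h2
  obtain ⟨c, hc⟩ := h3
  have ha0 := congrFun ha 0
  have ha1 := congrFun ha 1
  have hb0 := congrFun hb 0
  have hb1 := congrFun hb 1
  have hc0 := congrFun hc 0
  have hc1 := congrFun hc 1
  simp [Matrix.mulVec, dotProduct, Fin.sum_univ_two] at ha0 ha1 hb0 hb1 hc0 hc1
  -- g = [[a,0],[0,b]], a = c = b
  have hab : a = b := by
    rw [← ha0, ← hb0] at hc0
    rw [← ha1, ← hb1] at hc1
    simp at hc0 hc1
    rw [← hc0, ← hc1]
  have hgM : (g : Matrix (Fin 2) (Fin 2) F) = Matrix.diagonal (fun _ => a) := by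
    ext i j
    fin_cases i <;> fin_cases j <;> simp [← ha0, ← ha1, ← hb0, ← hb1]
    exact hab.symm
  have ha_ne : a ≠ 0 := by
    rintro rfl
    have := g.isUnit.ne_zero
    apply this
    rw [hgM]
    ext i j
    simp [Matrix.diagonal_apply]
  refine ⟨Units.mk0 a ha_ne, ?_⟩
  apply Units.ext
  rw [hgM]
  ext i j
  simp [Matrix.diagonal_apply, Matrix.GeneralLinearGroup.scalar]

end Cfsg.Agent.helper11.P1
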