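import Mathlib

/-! Factorisation of `X ^ r - 1` over a finite field, `r` a prime different from the characteristic
(piece A of S2645). -/

set_option autoImplicit false

namespace Cfsg.Agent.helper11.S2645a

open Polynomial UniqueFactorizationMonoid

theorem pieceA {F : Type*} [Field F] [Fintype F] (r : ℕ) (hr : r.Prime) (hrF : (r : F) ≠ 0) :
    ∃ S : Finset F[X],
      (∀ g ∈ S, g.Monic ∧ Irreducible g ∧ g.natDegree = orderOf (Fintype.card F : ZMod r)) ∧
      (X - 1 : F[X]) ∉ S ∧ (X ^ r - 1 : F[X]) = (X - 1) * ∏ g ∈ S, g ∧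
      S.card * orderOf (Fintype.card F : ZMod r) = r - 1 := by
  classical
  haveI : Fact r.Prime := ⟨hr⟩
  haveI : NeZero (r : F) := ⟨hrF⟩
  obtain ⟨p, hp⟩ := CharP.exists F
  obtain ⟨f, hpp, hcard⟩ := FiniteField.card F p
  haveI : Fact p.Prime := ⟨hpp⟩
  have hpr : p.Coprime r := by
    rw [Nat.coprime_primes hpp hr]
    rintro rfl
    exact hrF (CharP.cast_eq_zero F p)
  obtain ⟨Φ, hΦ⟩ : ∃ Φ : F[X], Φ = cyclotomic r F := ⟨_, rfl⟩
  have hΦmon : Φ.Monic := by rw [hΦ]; exact cyclotomic.monic r F
  have hΦ0 : Φ ≠ 0 := hΦmon.ne_zero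
  have hsq : Squarefree Φ := by rw [hΦ]; exact (separable_cyclotomic r F).squarefree
  have hnodup : (normalizedFactors Φ).Nodup := (squarefree_iff_nodup_normalizedFactors hΦ0).mp hsq
  have hmonic : ∀ g ∈ normalizedFactors Φ, g.Monic := by
    intro g hg
    have h1 := normalize_normalized_factor g hg
    have h2 : g ≠ 0 := (irreducible_of_normalized_factor g hg).ne_zero
    rw [← h1]
    exact monic_normalize h2
  have hprodΦ : (normalizedFactors Φ).prod = Φ := by
    apply eq_of_monic_of_associated _ hΦmon (prod_normalizedFactors hΦ0)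
    have := monic_multiset_prod_of_monic (normalizedFactors Φ) id (fun g hg => hmonic g hg)
    rwa [Multiset.map_id] at this
  refine ⟨(normalizedFactors Φ).toFinset, ?_, ?_, ?_, ?_⟩
  · intro g hg
    rw [Multiset.mem_toFinset] at hg
    refine ⟨hmonic g hg, irreducible_of_normalized_factor g hg, ?_⟩
    have hdvd : g ∣ cyclotomic r F := by
      rw [← hΦ]
      exact dvd_of_mem_normalizedFactors hg
    rw [natDegree_of_dvd_cyclotomic_of_irreducible hcard hpr hdvd
      (irreducible_of_normalized_factor g hg), ← orderOf_units, ZMod.coe_unitOfCoprime, hcard]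
  · intro h
    rw [Multiset.mem_toFinset] at h
    have hdvd : (X - 1 : F[X]) ∣ cyclotomic r F := by
      rw [← hΦ]
      exact dvd_of_mem_normalizedFactors h
    have h1 : eval 1 (cyclotomic r F) = 0 := by
      obtain ⟨c, hc⟩ := hdvd
      rw [hc, eval_mul, eval_sub, eval_X, eval_one, sub_self, zero_mul]
    rw [eval_one_cyclotomic_prime] at h1
    exact hrF h1
  · rw [Finset.prod_eq_multiset_prod, Multiset.toFinset_val, Multiset.dedup_eq_self.mpr hnodup,
      Multiset.map_id', hprodΦ, hΦ, mul_comm]
    exact (cyclotomic_prime_mul_X_sub_one F r).symm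
  · have h1 : (∏ g ∈ (normalizedFactors Φ).toFinset, g).natDegree =
        ∑ g ∈ (normalizedFactors Φ).toFinset, g.natDegree :=
      natDegree_prod_of_monic _ _ (fun g hg => hmonic g (Multiset.mem_toFinset.mp hg))
    have h2 : ∏ g ∈ (normalizedFactors Φ).toFinset, g = Φ := by
      rw [Finset.prod_eq_multiset_prod, Multiset.toFinset_val, Multiset.dedup_eq_self.mpr hnodup,
        Multiset.map_id', hprodΦ]
    have h3 : ∀ g ∈ (normalizedFactors Φ).toFinset,
        g.natDegree = orderOf (Fintype.card F : ZMod r) := by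
      intro g hg
      rw [Multiset.mem_toFinset] at hg
      have hdvd : g ∣ cyclotomic r F := by
        rw [← hΦ]
        exact dvd_of_mem_normalizedFactors hg
      rw [natDegree_of_dvd_cyclotomic_of_irreducible hcard hpr hdvd
        (irreducible_of_normalized_factor g hg), ← orderOf_units, ZMod.coe_unitOfCoprime, hcard]
    have h4 : Φ.natDegree = r - 1 := by
      rw [hΦ, natDegree_cyclotomic, Nat.totient_prime hr]
    rw [h2, Finset.sum_congr rfl h3, Finset.sum_const, smul_eq_mul, h4] at h1
    exact h1.symm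

end Cfsg.Agent.helper11.S2645a
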