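import Mathlib

set_option autoImplicit false
universe u v

/-! Semisimple endomorphisms over a field: decomposition into simple pieces `F[X]/(P)`, classification by the characteristic polynomial, p-regular classes of GL_n and SL_n over finite fields (helper25). -/

namespace Cfsg.Agent.helper25.SSimple

open Polynomial

section Cyc

variable {F : Type v} [Field F] {V : Type u} [AddCommGroup V] [Module F V]

/-- evaluation `g ↦ g(f) v` -/
noncomputable def evalAt (f : Module.End F V) (v : V) : F[X] →ₗ[F] V :=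
  (LinearMap.applyₗ v : Module.End F V →ₗ[F] V) ∘ₗ (Polynomial.aeval f).toLinearMap

theorem evalAt_apply (f : Module.End F V) (v : V) (g : F[X]) : evalAt f v g = (aeval f g) v := rfl

/-- `AdjoinRoot P` as a quotient of `F`-modules -/
noncomputable def adjEquiv (P : F[X]) :
    AdjoinRoot P ≃ₗ[F] (F[X] ⧸ (Ideal.span {P}).restrictScalars F) := by
  exact (Submodule.Quotient.restrictScalarsEquiv F (Ideal.span {P})).symm

theorem adjEquiv_mk (P : F[X]) (g : F[X]) :
    adjEquiv P (AdjoinRoot.mk P g) = Submodule.Quotient.mk g := rfl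

theorem span_le_ker (f : Module.End F V) (v : V) (P : F[X]) (h : (aeval f P) v = 0) :
    (Ideal.span {P}).restrictScalars F ≤ LinearMap.ker (evalAt f v) := by
  intro g hg
  rw [Submodule.restrictScalars_mem, Ideal.mem_span_singleton] at hg
  obtain ⟨c, rfl⟩ := hg
  rw [LinearMap.mem_ker, evalAt_apply, mul_comm, map_mul, Module.End.mul_apply, h, map_zero]

/-- the cyclic map `AdjoinRoot P → V`, `g ↦ g(f) v` -/
noncomputable def cyc (f : Module.End F V) (v : V) (P : F[X]) (h : (aeval f P) v = 0) :
    AdjoinRoot P →ₗ[F] V :=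
  (Submodule.liftQ ((Ideal.span {P}).restrictScalars F) (evalAt f v) (span_le_ker f v P h))
  ∘ₗ ((adjEquiv P) : _ →ₗ[F] _)

theorem cyc_mk (f : Module.End F V) (v : V) (P : F[X]) (h : (aeval f P) v = 0) (g : F[X]) :
    cyc f v P h (AdjoinRoot.mk P g) = (aeval f g) v := by
  show Submodule.liftQ _ (evalAt f v) (span_le_ker f v P h) (adjEquiv P (AdjoinRoot.mk P g)) = _
  rw [adjEquiv_mk, Submodule.liftQ_apply]
  rfl

theorem cyc_root_mul (f : Module.End F V) (v : V) (P : F[X]) (h : (aeval f P) v = 0)
    (a : AdjoinRoot P) : cyc f v P h (AdjoinRoot.root P * a) = f (cyc f v P h a) := by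
  obtain ⟨g, rfl⟩ := AdjoinRoot.mk_surjective a
  have : AdjoinRoot.root P * AdjoinRoot.mk P g = AdjoinRoot.mk P (X * g) := by
    rw [map_mul, AdjoinRoot.mk_X]
  rw [this, cyc_mk, cyc_mk, map_mul, aeval_X]
  rfl

theorem cyc_injective (f : Module.End F V) (v : V) (hv : v ≠ 0) (P : F[X]) (hP : Irreducible P)
    (h : (aeval f P) v = 0) : Function.Injective (cyc f v P h) := by
  have : Fact (Irreducible P) := ⟨hP⟩
  rw [← LinearMap.ker_eq_bot, LinearMap.ker_eq_bot']
  intro a ha
  by_contra hne
  apply hv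
  obtain ⟨g, hg⟩ := AdjoinRoot.mk_surjective a⁻¹
  obtain ⟨g0, rfl⟩ := AdjoinRoot.mk_surjective a
  have h1 : AdjoinRoot.mk P (g * g0) = 1 := by
    rw [map_mul, hg, inv_mul_cancel₀ hne]
  have h2 : cyc f v P h (AdjoinRoot.mk P (g * g0)) = v := by
    rw [h1]
    have : (1 : AdjoinRoot P) = AdjoinRoot.mk P 1 := (map_one _).symm
    rw [this, cyc_mk, map_one]
    rfl
  rw [cyc_mk, map_mul, Module.End.mul_apply] at h2
  rw [cyc_mk] at ha
  rw [ha, map_zero] at h2
  exact h2.symm

end Cyc

section Model

variable (F : Type v) [Field F]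

/-- a monic irreducible polynomial -/
structure MIrr where
  poly : F[X]
  monic : poly.Monic
  irr : Irreducible poly

variable {F}

theorem MIrr.ext' {Q Q' : MIrr F} (h : Q.poly = Q'.poly) : Q = Q' := by
  cases Q; cases Q'; simp only at h; subst h; rfl

instance (Q : MIrr F) : Fact (Irreducible Q.poly) := ⟨Q.irr⟩

instance (Q : MIrr F) : Module.Finite F (AdjoinRoot Q.poly) := Q.monic.finite_adjoinRoot

theorem finrank_adjoinRoot (Q : MIrr F) :
    Module.finrank F (AdjoinRoot Q.poly) = Q.poly.natDegree := by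
  rw [(AdjoinRoot.powerBasis Q.monic.ne_zero).finrank, AdjoinRoot.powerBasis_dim]

/-- the semisimple model space -/
abbrev Ms {ι : Type*} (P : ι → MIrr F) : Type _ := (i : ι) → AdjoinRoot (P i).poly

/-- multiplication by the roots -/
noncomputable def mulX {ι : Type*} (P : ι → MIrr F) : Ms P →ₗ[F] Ms P where
  toFun c := fun i => AdjoinRoot.root (P i).poly * c i
  map_add' c c' := by funext i; exact mul_add _ _ _
  map_smul' a c := by
    funext i
    show AdjoinRoot.root (P i).poly * (a • c i) = a • (AdjoinRoot.root (P i).poly * c i)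
    rw [mul_smul_comm]

theorem mulX_apply {ι : Type*} (P : ι → MIrr F) (c : Ms P) (i : ι) :
    mulX P c i = AdjoinRoot.root (P i).poly * c i := rfl

end Model

section Exist

variable {F : Type v} [Field F] {V : Type u} [AddCommGroup V] [Module F V]

theorem exists_split [FiniteDimensional F V] [Nontrivial V] (f : Module.End F V)
    (hf : f.IsSemisimple) :
    ∃ (Q : MIrr F) (U : Submodule F V) (hU : ∀ x ∈ U, f x ∈ U)
      (split : (AdjoinRoot Q.poly × U) ≃ₗ[F] V),
      ∀ a z, f (split (a, z)) = split (AdjoinRoot.root Q.poly * a, f.restrict hU z) := by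
  obtain ⟨P, hPm, hPi, hPd⟩ := Polynomial.exists_monic_irreducible_factor (minpoly F f)
    (minpoly.not_isUnit F f)
  have hker : LinearMap.ker (aeval f P) ≠ ⊥ := by
    intro hbot
    obtain ⟨Q, hQ⟩ := hPd
    have h1 : aeval f Q = 0 := by
      apply LinearMap.ext
      intro x
      have h2 : (aeval f P) ((aeval f Q) x) = 0 := by
        rw [← Module.End.mul_apply, ← map_mul, ← hQ, minpoly.aeval]
        rfl
      have h3 := LinearMap.mem_ker.mpr h2
      rw [hbot, Submodule.mem_bot] at h3
      exact h3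
    have h2 := minpoly.dvd F f h1
    have hne : minpoly F f ≠ 0 := minpoly.ne_zero (LinearMap.isIntegral f)
    have hQ0 : Q ≠ 0 := by
      rintro rfl
      rw [mul_zero] at hQ
      exact hne hQ
    have h3 := Polynomial.natDegree_le_of_dvd h2 hQ0
    rw [hQ, Polynomial.natDegree_mul hPm.ne_zero hQ0] at h3
    have := hPi.natDegree_pos
    omega
  obtain ⟨v, hvk, hv0⟩ := Submodule.exists_mem_ne_zero_of_ne_bot hker
  have hv : (aeval f P) v = 0 := LinearMap.mem_ker.mp hvk
  have hinj := cyc_injective f v hv0 P hPi hv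
  have hWinv : LinearMap.range (cyc f v P hv) ∈ f.invtSubmodule := by
    rw [Module.End.mem_invtSubmodule]
    rintro x ⟨a, rfl⟩
    exact ⟨AdjoinRoot.root P * a, cyc_root_mul f v P hv a⟩
  obtain ⟨U, hUinv, hcompl⟩ := (Module.End.isSemisimple_iff.mp hf) _ hWinv
  have hU : ∀ x ∈ U, f x ∈ U := by
    rw [Module.End.mem_invtSubmodule] at hUinv
    exact hUinv
  refine ⟨⟨P, hPm, hPi⟩, U, hU,
    (LinearEquiv.prodCongr (LinearEquiv.ofInjective (cyc f v P hv) hinj) (LinearEquiv.refl F U))
      ≪≫ₗ Submodule.prodEquivOfIsCompl _ U hcompl, ?_⟩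
  intro a z
  show f (Submodule.prodEquivOfIsCompl _ U hcompl
      ((LinearEquiv.ofInjective (cyc f v P hv) hinj) a, z))
    = Submodule.prodEquivOfIsCompl _ U hcompl
      ((LinearEquiv.ofInjective (cyc f v P hv) hinj) (AdjoinRoot.root P * a), f.restrict hU z)
  rw [Submodule.coe_prodEquivOfIsCompl', Submodule.coe_prodEquivOfIsCompl', map_add]
  show f (cyc f v P hv a) + f z = cyc f v P hv (AdjoinRoot.root P * a) + f z
  rw [cyc_root_mul]

theorem exists_ss_model :
    ∀ (d : ℕ) (V : Type u) [AddCommGroup V] [Module F V] [FiniteDimensional F V]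
      (f : Module.End F V), f.IsSemisimple → Module.finrank F V = d →
      ∃ (ι : Type) (_ : Fintype ι) (P : ι → MIrr F) (φ : V ≃ₗ[F] Ms P),
        ∀ x, φ (f x) = mulX P (φ x) := by
  intro d
  induction d using Nat.strong_induction_on with
  | _ d ih =>
  intro V _ _ _ f hf hd
  by_cases hd0 : d = 0
  · have hsub : Subsingleton V := by
      rw [← Module.finrank_zero_iff (R := F)]
      rw [hd, hd0]
    refine ⟨Empty, inferInstance, fun i => i.elim, LinearEquiv.ofSubsingleton V _, ?_⟩
    intro x
    apply Subsingleton.elim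
  · have hnt : Nontrivial V := by
      rw [← Module.finrank_pos_iff (R := F)]
      omega
    obtain ⟨Q, U, hU, split, hsplit⟩ := exists_split f hf
    have hUinv : U ∈ f.invtSubmodule := by
      rw [Module.End.mem_invtSubmodule]
      exact hU
    have hfU : Module.End.IsSemisimple (f.restrict hU) := Module.End.IsSemisimple.restrict hUinv hf
    have hdim : Module.finrank F V = Q.poly.natDegree + Module.finrank F U := by
      rw [← split.finrank_eq, Module.finrank_prod, finrank_adjoinRoot]
    have hlt : Module.finrank F U < d := by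
      have := Q.irr.natDegree_pos
      omega
    obtain ⟨ι', hι', P', φ', hφ'⟩ := ih _ hlt U (f.restrict hU) hfU rfl
    obtain ⟨Φ, hΦn, hΦs⟩ : ∃ Φ : V ≃ₗ[F] Ms (fun s : Option ι' => Option.elim s Q P'),
        (∀ y : AdjoinRoot Q.poly × U, Φ (split y) none = y.1) ∧
        (∀ (y : AdjoinRoot Q.poly × U) (i : ι'), Φ (split y) (some i) = φ' y.2 i) := by
      have hsymm : ∀ y, split.symm (split y) = y := fun y => split.symm_apply_apply y
      refine ⟨split.symm ≪≫ₗ
        (LinearEquiv.prodCongr (LinearEquiv.refl F (AdjoinRoot Q.poly)) φ') ≪≫ₗ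
        (LinearEquiv.piOptionEquivProd F
          (M := fun s => AdjoinRoot (Option.elim s Q P').poly)).symm, ?_, ?_⟩
      · intro y
        show (LinearEquiv.piOptionEquivProd F
          (M := fun s => AdjoinRoot (Option.elim s Q P').poly)).symm
          ((LinearEquiv.prodCongr (LinearEquiv.refl F (AdjoinRoot Q.poly)) φ')
            (split.symm (split y))) none = y.1
        rw [hsymm]
        rfl
      · intro y i
        show (LinearEquiv.piOptionEquivProd F
          (M := fun s => AdjoinRoot (Option.elim s Q P').poly)).symm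
          ((LinearEquiv.prodCongr (LinearEquiv.refl F (AdjoinRoot Q.poly)) φ')
            (split.symm (split y))) (some i) = φ' y.2 i
        rw [hsymm]
        rfl
    refine ⟨Option ι', inferInstance, fun s => Option.elim s Q P', Φ, ?_⟩
    intro x
    obtain ⟨⟨a, z⟩, rfl⟩ := split.surjective x
    rw [hsplit]
    funext s
    cases s with
    | none =>
      rw [hΦn, mulX_apply, hΦn]
      rfl
    | some i =>
      rw [hΦs, mulX_apply, hΦs, hφ']
      rfl

end Exist

end Cfsg.Agent.helper25.SSimple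

namespace Cfsg.Agent.helper25.SSimple

open Polynomial

section ReindexGen

theorem card_fiber_eq_count' {α : Type*} {κ : Type*} [DecidableEq α] [Fintype κ] (d : κ → α)
    (a : α) : Fintype.card {i // d i = a} = Multiset.count a (Finset.univ.val.map d) := by
  classical
  rw [Multiset.count_map, Fintype.card_subtype]
  show (Finset.univ.filter (fun i => d i = a)).val.card = _
  rw [Finset.filter_val]
  congr 1
  apply Multiset.filter_congr
  intro x _
  exact eq_comm

theorem exists_reindex' {α : Type*} {ι ι' : Type*} [Fintype ι] [Fintype ι'] (e : ι → α)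
    (e' : ι' → α) (h : Finset.univ.val.map e = Finset.univ.val.map e') :
    ∃ σ : ι ≃ ι', ∀ i, e' (σ i) = e i := by
  classical
  have hc : ∀ a : α, Fintype.card {i // e i = a} = Fintype.card {i' // e' i' = a} := by
    intro a
    rw [card_fiber_eq_count' e a, card_fiber_eq_count' e' a, h]
  let eqv : ∀ a, {i // e i = a} ≃ {i' // e' i' = a} := fun a => Fintype.equivOfCardEq (hc a)
  refine ⟨(Equiv.sigmaFiberEquiv e).symm.trans
    ((Equiv.sigmaCongrRight eqv).trans (Equiv.sigmaFiberEquiv e')), ?_⟩
  intro i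
  exact ((eqv (e i)) ⟨i, rfl⟩).2

end ReindexGen

section Reidx

variable {F : Type v} [Field F]

/-- transport along an equality of polynomials -/
noncomputable def castK {Q Q' : MIrr F} (h : Q = Q') :
    AdjoinRoot Q.poly ≃ₗ[F] AdjoinRoot Q'.poly := by
  subst h
  exact LinearEquiv.refl F _

theorem castK_root_mul {Q Q' : MIrr F} (h : Q = Q') (a : AdjoinRoot Q.poly) :
    castK h (AdjoinRoot.root Q.poly * a) = AdjoinRoot.root Q'.poly * castK h a := by
  subst h
  rfl

theorem castK_dep {ι' : Type*} (P' : ι' → MIrr F) (c' : Ms P') (i₁ i₂ : ι') (hi : i₁ = i₂) :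
    castK (congrArg P' hi) (c' i₁) = c' i₂ := by
  subst hi
  rfl

variable {ι ι' : Type*} (P : ι → MIrr F) (P' : ι' → MIrr F)

/-- reindexing of the model -/
noncomputable def reidxS (σ : ι ≃ ι') (h : ∀ i, P' (σ i) = P i) : Ms P' →ₗ[F] Ms P where
  toFun c' := fun i => castK (h i) (c' (σ i))
  map_add' c c' := by
    funext i
    show castK (h i) (c (σ i) + c' (σ i)) = _
    rw [map_add]
    rfl
  map_smul' a c := by
    funext i
    show castK (h i) (a • c (σ i)) = _
    rw [map_smul]
    rfl

theorem reidxS_mulX (σ : ι ≃ ι') (h : ∀ i, P' (σ i) = P i) (c' : Ms P') :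
    reidxS P P' σ h (mulX P' c') = mulX P (reidxS P P' σ h c') := by
  funext i
  show castK (h i) (AdjoinRoot.root (P' (σ i)).poly * c' (σ i))
    = AdjoinRoot.root (P i).poly * castK (h i) (c' (σ i))
  rw [castK_root_mul]

theorem reidxS_injective (σ : ι ≃ ι') (h : ∀ i, P' (σ i) = P i) :
    Function.Injective (reidxS P P' σ h) := by
  rw [← LinearMap.ker_eq_bot, LinearMap.ker_eq_bot']
  intro c' hc
  funext i'
  have h2 : castK (h (σ.symm i')) (c' (σ (σ.symm i'))) = 0 := congrFun hc (σ.symm i')
  have h3 : c' (σ (σ.symm i')) = 0 := by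
    have := (castK (h (σ.symm i'))).injective (h2.trans (map_zero _).symm)
    exact this
  rw [← castK_dep P' c' _ _ (Equiv.apply_symm_apply σ i'), h3, map_zero]
  rfl

theorem finrank_Ms [Fintype ι] : Module.finrank F (Ms P) = ∑ i, (P i).poly.natDegree := by
  rw [Module.finrank_pi_fintype]
  exact Finset.sum_congr rfl (fun i _ => finrank_adjoinRoot (P i))

theorem exists_reidxS_equiv [Fintype ι] [Fintype ι']
    (h : Finset.univ.val.map P = Finset.univ.val.map P') :
    ∃ ψ : Ms P' ≃ₗ[F] Ms P, ∀ c', ψ (mulX P' c') = mulX P (ψ c') := by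
  obtain ⟨σ, hσ⟩ := exists_reindex' P P' h
  have hfr : Module.finrank F (Ms P') = Module.finrank F (Ms P) := by
    rw [finrank_Ms, finrank_Ms, ← Equiv.sum_comp σ (fun i' => (P' i').poly.natDegree)]
    exact Finset.sum_congr rfl (fun i _ => by rw [hσ i])
  refine ⟨LinearMap.linearEquivOfInjective (reidxS P P' σ hσ) (reidxS_injective P P' σ hσ) hfr,
    ?_⟩
  intro c'
  exact reidxS_mulX P P' σ hσ c'

end Reidx

section Charpoly

variable {F : Type v} [Field F]

theorem charpoly_mulRoot (Q : MIrr F) :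
    LinearMap.charpoly (Algebra.lmul F (AdjoinRoot Q.poly) (AdjoinRoot.root Q.poly)) = Q.poly := by
  have h1 := charpoly_leftMulMatrix (AdjoinRoot.powerBasis Q.monic.ne_zero)
  rw [AdjoinRoot.minpoly_powerBasis_gen_of_monic Q.monic, Algebra.leftMulMatrix_apply,
    LinearMap.charpoly_toMatrix, AdjoinRoot.powerBasis_gen] at h1
  exact h1

end Charpoly

end Cfsg.Agent.helper25.SSimple

namespace Cfsg.Agent.helper25.SSimple

open Polynomial

section CharpolyModel

variable {F : Type v} [Field F] {V : Type u} [AddCommGroup V] [Module F V]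

theorem charpoly_of_split [FiniteDimensional F V] (f : Module.End F V) (Q : MIrr F)
    (U : Submodule F V) (hU : ∀ x ∈ U, f x ∈ U) (split : (AdjoinRoot Q.poly × U) ≃ₗ[F] V)
    (hsplit : ∀ a z, f (split (a, z)) = split (AdjoinRoot.root Q.poly * a, f.restrict hU z)) :
    LinearMap.charpoly f = Q.poly * LinearMap.charpoly (f.restrict hU) := by
  have h1 : split.conj ((Algebra.lmul F (AdjoinRoot Q.poly) (AdjoinRoot.root Q.poly)).prodMap
      (f.restrict hU)) = f := by
    apply LinearMap.ext
    intro x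
    obtain ⟨⟨a, z⟩, rfl⟩ := split.surjective x
    rw [LinearEquiv.conj_apply]
    show split (((Algebra.lmul F (AdjoinRoot Q.poly) (AdjoinRoot.root Q.poly)).prodMap
      (f.restrict hU)) (split.symm (split (a, z)))) = _
    rw [LinearEquiv.symm_apply_apply, hsplit]
    rfl
  conv_lhs => rw [← h1]
  rw [LinearEquiv.charpoly_conj, LinearMap.charpoly_prodMap, charpoly_mulRoot]

theorem exists_ss_model_charpoly :
    ∀ (d : ℕ) (V : Type u) [AddCommGroup V] [Module F V] [FiniteDimensional F V]
      (f : Module.End F V), f.IsSemisimple → Module.finrank F V = d →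
      ∃ (ι : Type) (_ : Fintype ι) (P : ι → MIrr F) (φ : V ≃ₗ[F] Ms P),
        (∀ x, φ (f x) = mulX P (φ x)) ∧ LinearMap.charpoly f = ∏ i, (P i).poly := by
  intro d
  induction d using Nat.strong_induction_on with
  | _ d ih =>
  intro V _ _ _ f hf hd
  by_cases hd0 : d = 0
  · have hsub : Subsingleton V := by
      rw [← Module.finrank_zero_iff (R := F)]
      rw [hd, hd0]
    refine ⟨Empty, inferInstance, fun i => i.elim, LinearEquiv.ofSubsingleton V _, ?_, ?_⟩
    · intro x
      apply Subsingleton.elim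
    · rw [Finset.univ_eq_empty, Finset.prod_empty]
      rw [← (LinearMap.charpoly_monic f).natDegree_eq_zero, LinearMap.charpoly_natDegree, hd, hd0]
  · have hnt : Nontrivial V := by
      rw [← Module.finrank_pos_iff (R := F)]
      omega
    obtain ⟨Q, U, hU, split, hsplit⟩ := exists_split f hf
    have hUinv : U ∈ f.invtSubmodule := by
      rw [Module.End.mem_invtSubmodule]
      exact hU
    have hfU : Module.End.IsSemisimple (f.restrict hU) := Module.End.IsSemisimple.restrict hUinv hf
    have hdim : Module.finrank F V = Q.poly.natDegree + Module.finrank F U := by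
      rw [← split.finrank_eq, Module.finrank_prod, finrank_adjoinRoot]
    have hlt : Module.finrank F U < d := by
      have := Q.irr.natDegree_pos
      omega
    obtain ⟨ι', hι', P', φ', hφ', hch'⟩ := ih _ hlt U (f.restrict hU) hfU rfl
    obtain ⟨Φ, hΦn, hΦs⟩ : ∃ Φ : V ≃ₗ[F] Ms (fun s : Option ι' => Option.elim s Q P'),
        (∀ y : AdjoinRoot Q.poly × U, Φ (split y) none = y.1) ∧
        (∀ (y : AdjoinRoot Q.poly × U) (i : ι'), Φ (split y) (some i) = φ' y.2 i) := by
      have hsymm : ∀ y, split.symm (split y) = y := fun y => split.symm_apply_apply y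
      refine ⟨split.symm ≪≫ₗ
        (LinearEquiv.prodCongr (LinearEquiv.refl F (AdjoinRoot Q.poly)) φ') ≪≫ₗ
        (LinearEquiv.piOptionEquivProd F
          (M := fun s => AdjoinRoot (Option.elim s Q P').poly)).symm, ?_, ?_⟩
      · intro y
        show (LinearEquiv.piOptionEquivProd F
          (M := fun s => AdjoinRoot (Option.elim s Q P').poly)).symm
          ((LinearEquiv.prodCongr (LinearEquiv.refl F (AdjoinRoot Q.poly)) φ')
            (split.symm (split y))) none = y.1
        rw [hsymm]
        rfl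
      · intro y i
        show (LinearEquiv.piOptionEquivProd F
          (M := fun s => AdjoinRoot (Option.elim s Q P').poly)).symm
          ((LinearEquiv.prodCongr (LinearEquiv.refl F (AdjoinRoot Q.poly)) φ')
            (split.symm (split y))) (some i) = φ' y.2 i
        rw [hsymm]
        rfl
    refine ⟨Option ι', inferInstance, fun s => Option.elim s Q P', Φ, ?_, ?_⟩
    · intro x
      obtain ⟨⟨a, z⟩, rfl⟩ := split.surjective x
      rw [hsplit]
      funext s
      cases s with
      | none =>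
        rw [hΦn, mulX_apply, hΦn]
        rfl
      | some i =>
        rw [hΦs, mulX_apply, hΦs, hφ']
        rfl
    · rw [charpoly_of_split f Q U hU split hsplit, hch', Fintype.prod_option]
      rfl

theorem multiset_eq_of_prod_eq {ι ι' : Type*} [Fintype ι] [Fintype ι'] (P : ι → MIrr F)
    (P' : ι' → MIrr F) (h : ∏ i, (P i).poly = ∏ i, (P' i).poly) :
    Finset.univ.val.map P = Finset.univ.val.map P' := by
  apply Multiset.map_injective (f := MIrr.poly) (fun Q Q' h => MIrr.ext' h)
  rw [Multiset.map_map, Multiset.map_map]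
  have h1 : Multiset.Rel Associated (Finset.univ.val.map (fun i => (P i).poly))
      (Finset.univ.val.map (fun i => (P' i).poly)) := by
    apply UniqueFactorizationMonoid.factors_unique
    · intro x hx
      obtain ⟨i, _, rfl⟩ := Multiset.mem_map.mp hx
      exact (P i).irr
    · intro x hx
      obtain ⟨i, _, rfl⟩ := Multiset.mem_map.mp hx
      exact (P' i).irr
    · have : (Finset.univ.val.map (fun i => (P i).poly)).prod
          = (Finset.univ.val.map (fun i => (P' i).poly)).prod := h
      rw [this]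
      exact Associated.refl _
  rw [← Multiset.rel_eq]
  apply h1.mono
  intro a ha b hb hab
  obtain ⟨i, _, rfl⟩ := Multiset.mem_map.mp ha
  obtain ⟨j, _, rfl⟩ := Multiset.mem_map.mp hb
  exact eq_of_monic_of_associated (P i).monic (P' j).monic hab

theorem exists_intertwiner_ss {V' : Type u} [AddCommGroup V'] [Module F V']
    [FiniteDimensional F V] [FiniteDimensional F V']
    (f : Module.End F V) (f' : Module.End F V') (hf : f.IsSemisimple) (hf' : f'.IsSemisimple)
    (h : LinearMap.charpoly f = LinearMap.charpoly f') :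
    ∃ χ : V ≃ₗ[F] V', ∀ x, χ (f x) = f' (χ x) := by
  obtain ⟨ι, _, P, φ, hφ, hc⟩ := exists_ss_model_charpoly _ V f hf rfl
  obtain ⟨ι', _, P', φ', hφ', hc'⟩ := exists_ss_model_charpoly _ V' f' hf' rfl
  have hms := multiset_eq_of_prod_eq P P' (by rw [← hc, ← hc', h])
  obtain ⟨ψ, hψ⟩ := exists_reidxS_equiv P P' hms
  refine ⟨(φ.trans ψ.symm).trans φ'.symm, ?_⟩
  intro x
  show φ'.symm (ψ.symm (φ (f x))) = f' (φ'.symm (ψ.symm (φ x)))
  apply φ'.injective
  rw [LinearEquiv.apply_symm_apply, hφ', LinearEquiv.apply_symm_apply, hφ]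
  apply ψ.injective
  rw [LinearEquiv.apply_symm_apply, hψ, LinearEquiv.apply_symm_apply]

theorem exists_commuting_det [Finite F] [FiniteDimensional F V] [Nontrivial V]
    (f : Module.End F V) (hf : f.IsSemisimple) (t : F) (ht : t ≠ 0) :
    ∃ z : V ≃ₗ[F] V, (∀ x, z (f x) = f (z x)) ∧ LinearMap.det (z : V →ₗ[F] V) = t := by
  obtain ⟨Q, U, hU, split, hsplit⟩ := exists_split f hf
  have : Finite (AdjoinRoot Q.poly) := Module.finite_of_finite F
  obtain ⟨a, ha⟩ := FiniteField.norm_surjective F (AdjoinRoot Q.poly) t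
  have ha0 : a ≠ 0 := by
    rintro rfl
    rw [Algebra.norm_zero] at ha
    exact ht ha.symm
  let ma : AdjoinRoot Q.poly ≃ₗ[F] AdjoinRoot Q.poly :=
    LinearEquiv.ofLinearMap (Algebra.lmul F (AdjoinRoot Q.poly) a)
      (Algebra.lmul F (AdjoinRoot Q.poly) a⁻¹)
      (by rw [← Module.End.mul_eq_comp, ← map_mul, mul_inv_cancel₀ ha0, map_one]; rfl)
      (by rw [← Module.End.mul_eq_comp, ← map_mul, inv_mul_cancel₀ ha0, map_one]; rfl)
  refine ⟨split.symm ≪≫ₗ (LinearEquiv.prodCongr ma (LinearEquiv.refl F U)) ≪≫ₗ split, ?_, ?_⟩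
  · intro x
    obtain ⟨⟨b, z⟩, rfl⟩ := split.surjective x
    rw [hsplit]
    show split ((LinearEquiv.prodCongr ma (LinearEquiv.refl F U)) (split.symm (split _)))
      = f (split ((LinearEquiv.prodCongr ma (LinearEquiv.refl F U)) (split.symm (split _))))
    rw [LinearEquiv.symm_apply_apply, LinearEquiv.symm_apply_apply]
    show split (a * (AdjoinRoot.root Q.poly * b), f.restrict hU z) = f (split (a * b, z))
    rw [hsplit, mul_left_comm]
  · have h1 : ((split.symm ≪≫ₗ (LinearEquiv.prodCongr ma (LinearEquiv.refl F U)) ≪≫ₗ split :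
        V ≃ₗ[F] V) : V →ₗ[F] V)
        = (split : _ →ₗ[F] V) ∘ₗ ((Algebra.lmul F (AdjoinRoot Q.poly) a).prodMap
          (LinearMap.id : U →ₗ[F] U)) ∘ₗ (split.symm : V →ₗ[F] _) := by
      apply LinearMap.ext
      intro x
      rfl
    rw [h1, LinearMap.det_conj, LinearMap.det_prodMap, LinearMap.det_id, mul_one,
      ← Algebra.norm_apply, ha]

end CharpolyModel

end Cfsg.Agent.helper25.SSimple

namespace Cfsg.Agent.helper25.SSimple

open Polynomial

section GLpart

variable {F : Type v} [Field F] {n : ℕ}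

/-- the endomorphism of `F^n` given by `g` -/
noncomputable def Glin (g : Matrix.GeneralLinearGroup (Fin n) F) : Module.End F (Fin n → F) :=
  Matrix.toLinAlgEquiv' g.val

theorem Glin_eq_toLin' (g : Matrix.GeneralLinearGroup (Fin n) F) :
    Glin g = Matrix.toLin' g.val := rfl

theorem charpoly_Glin (g : Matrix.GeneralLinearGroup (Fin n) F) :
    LinearMap.charpoly (Glin g) = g.val.charpoly := by
  rw [Glin_eq_toLin', Matrix.charpoly_toLin']

theorem exists_conj_of_intertwiner (g g' : Matrix.GeneralLinearGroup (Fin n) F)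
    (χ : (Fin n → F) ≃ₗ[F] (Fin n → F)) (hχ : ∀ x, χ (Glin g x) = Glin g' (χ x)) :
    ∃ c : Matrix.GeneralLinearGroup (Fin n) F, c * g = g' * c ∧
      c.val.det = LinearMap.det (χ : (Fin n → F) →ₗ[F] (Fin n → F)) := by
  let B := (Matrix.toLinAlgEquiv' (R := F) (n := Fin n)).symm
  have hB1 : B (χ : (Fin n → F) →ₗ[F] (Fin n → F)) * B (χ.symm : (Fin n → F) →ₗ[F] (Fin n → F))
      = 1 := by
    rw [← map_mul]
    have : ((χ : (Fin n → F) →ₗ[F] (Fin n → F)) * (χ.symm : (Fin n → F) →ₗ[F] (Fin n → F))
        : Module.End F (Fin n → F)) = 1 := by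
      apply LinearMap.ext
      intro x
      show χ (χ.symm x) = x
      exact LinearEquiv.apply_symm_apply χ x
    rw [this, map_one]
  have hB2 : B (χ.symm : (Fin n → F) →ₗ[F] (Fin n → F)) * B (χ : (Fin n → F) →ₗ[F] (Fin n → F))
      = 1 := by
    rw [← map_mul]
    have : ((χ.symm : (Fin n → F) →ₗ[F] (Fin n → F)) * (χ : (Fin n → F) →ₗ[F] (Fin n → F))
        : Module.End F (Fin n → F)) = 1 := by
      apply LinearMap.ext
      intro x
      show χ.symm (χ x) = x
      exact LinearEquiv.symm_apply_apply χ x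
    rw [this, map_one]
  let c : Matrix.GeneralLinearGroup (Fin n) F :=
    ⟨B (χ : (Fin n → F) →ₗ[F] (Fin n → F)), B (χ.symm : (Fin n → F) →ₗ[F] (Fin n → F)), hB1, hB2⟩
  have hcg : c.val * g.val = g'.val * c.val := by
    apply (Matrix.toLinAlgEquiv' (R := F) (n := Fin n)).injective
    rw [map_mul, map_mul]
    show Matrix.toLinAlgEquiv' (B (χ : (Fin n → F) →ₗ[F] (Fin n → F))) * Glin g
      = Glin g' * Matrix.toLinAlgEquiv' (B (χ : (Fin n → F) →ₗ[F] (Fin n → F)))
    rw [AlgEquiv.apply_symm_apply]
    apply LinearMap.ext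
    intro x
    exact hχ x
  refine ⟨c, Units.ext (by simpa using hcg), ?_⟩
  show (B (χ : (Fin n → F) →ₗ[F] (Fin n → F))).det = _
  have h1 : Matrix.toLin' (B (χ : (Fin n → F) →ₗ[F] (Fin n → F)))
      = (χ : (Fin n → F) →ₗ[F] (Fin n → F)) :=
    (Matrix.toLinAlgEquiv' (R := F) (n := Fin n)).apply_symm_apply _
  rw [← LinearMap.det_toLin', h1]

theorem isSemisimple_of_coprime (p : ℕ) [Fact p.Prime] [CharP F p]
    (g : Matrix.GeneralLinearGroup (Fin n) F) (hg : (orderOf g).Coprime p) :
    (Glin g).IsSemisimple := by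
  have hp := (Fact.out : p.Prime)
  have hm : ((orderOf g : ℕ) : F) ≠ 0 := by
    rw [Ne, CharP.cast_eq_zero_iff F p]
    intro hdvd
    have := Nat.Coprime.eq_one_of_dvd hg.symm hdvd
    exact hp.one_lt.ne' this
  have hsep : (X ^ orderOf g - C (1 : F)).Separable := separable_X_pow_sub_C 1 hm one_ne_zero
  apply Module.End.isSemisimple_of_squarefree_aeval_eq_zero hsep.squarefree
  rw [map_sub, map_pow, aeval_X, aeval_C, map_one]
  unfold Glin
  rw [← map_pow, ← Units.val_pow_eq_pow_val, pow_orderOf_eq_one, Units.val_one, map_one, sub_self]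

theorem isConj_of_charpoly_eq (p : ℕ) [Fact p.Prime] [CharP F p]
    (g g' : Matrix.GeneralLinearGroup (Fin n) F) (hg : (orderOf g).Coprime p)
    (hg' : (orderOf g').Coprime p) (h : g.val.charpoly = g'.val.charpoly) : IsConj g g' := by
  obtain ⟨χ, hχ⟩ := exists_intertwiner_ss (Glin g) (Glin g') (isSemisimple_of_coprime p g hg)
    (isSemisimple_of_coprime p g' hg') (by rw [charpoly_Glin, charpoly_Glin, h])
  obtain ⟨c, hc, _⟩ := exists_conj_of_intertwiner g g' χ hχ
  rw [isConj_iff]
  refine ⟨c, ?_⟩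
  rw [hc]
  group

end GLpart

end Cfsg.Agent.helper25.SSimple

namespace Cfsg.Agent.helper25.SSimple

open Polynomial

section Construct

variable {F : Type v} [Field F]

theorem prodMap_pow' {M M₂ : Type*} [AddCommGroup M] [Module F M] [AddCommGroup M₂] [Module F M₂]
    (a : Module.End F M) (b : Module.End F M₂) (k : ℕ) :
    (a.prodMap b : Module.End F (M × M₂)) ^ k = (a ^ k).prodMap (b ^ k) := by
  induction k with
  | zero => rw [pow_zero, pow_zero, pow_zero, LinearMap.prodMap_one]
  | succ k ih => rw [pow_succ, ih, LinearMap.prodMap_mul, ← pow_succ, ← pow_succ]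

theorem charpoly_eq_one_of_subsingleton {V : Type*} [AddCommGroup V] [Module F V]
    [Subsingleton V] (f : Module.End F V) : LinearMap.charpoly f = 1 := by
  rw [← (LinearMap.charpoly_monic f).natDegree_eq_zero, LinearMap.charpoly_natDegree,
    Module.finrank_zero_of_subsingleton]

theorem root_ne_zero_of_ne_X (a : F[X]) (ham : a.Monic) (hai : Irreducible a) (haX : a ≠ X) :
    AdjoinRoot.root a ≠ 0 := by
  intro h0
  have h1 : AdjoinRoot.mk a X = 0 := by rw [AdjoinRoot.mk_X]; exact h0
  rw [AdjoinRoot.mk_eq_zero] at h1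
  exact haX (eq_of_monic_of_associated ham monic_X (hai.associated_of_dvd irreducible_X h1))

theorem exists_of_factors [Fintype F] (p : ℕ) [Fact p.Prime] [CharP F p] (s : Multiset F[X])
    (hs : ∀ x ∈ s, x.Monic ∧ Irreducible x ∧ x ≠ X) :
    ∃ (V : Type v) (_ : AddCommGroup V) (_ : Module F V) (_ : FiniteDimensional F V)
      (f : Module.End F V) (N : ℕ), N.Coprime p ∧ f ^ N = 1 ∧ LinearMap.charpoly f = s.prod := by
  have hp := (Fact.out : p.Prime)
  induction s using Multiset.induction_on with
  | empty =>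
    refine ⟨PUnit, inferInstance, inferInstance, inferInstance, 0, 1, Nat.coprime_one_left p,
      Subsingleton.elim _ _, ?_⟩
    rw [Multiset.prod_zero]
    exact charpoly_eq_one_of_subsingleton _
  | cons a s ih =>
    obtain ⟨ham, hai, haX⟩ := hs a (Multiset.mem_cons_self a s)
    obtain ⟨V, _, _, _, f, N, hN, hfN, hch⟩ := ih (fun x hx => hs x (Multiset.mem_cons_of_mem hx))
    have : Fact (Irreducible a) := ⟨hai⟩
    have : Module.Finite F (AdjoinRoot a) := ham.finite_adjoinRoot
    have : Finite (AdjoinRoot a) := Module.finite_of_finite F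
    let _ : Fintype (AdjoinRoot a) := Fintype.ofFinite _
    have : CharP (AdjoinRoot a) p :=
      charP_of_injective_algebraMap (algebraMap F (AdjoinRoot a)).injective p
    obtain ⟨k, _, hcard⟩ := FiniteField.card (AdjoinRoot a) p
    have hr : AdjoinRoot.root a ^ (Fintype.card (AdjoinRoot a) - 1) = 1 :=
      FiniteField.pow_card_sub_one_eq_one _ (root_ne_zero_of_ne_X a ham hai haX)
    have hcop : (Fintype.card (AdjoinRoot a) - 1).Coprime p := by
      rw [hcard]
      have h1 : 1 ≤ p ^ (k : ℕ) := Nat.one_le_pow _ _ hp.pos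
      have h2 : p ∣ p ^ (k : ℕ) := dvd_pow_self p k.pos.ne'
      rw [Nat.coprime_comm, hp.coprime_iff_not_dvd]
      intro h3
      have h4 : p ∣ p ^ (k : ℕ) - (p ^ (k : ℕ) - 1) := Nat.dvd_sub h2 h3
      have h5 : p ^ (k : ℕ) - (p ^ (k : ℕ) - 1) = 1 := by omega
      rw [h5] at h4
      exact hp.one_lt.ne' (Nat.dvd_one.mp h4)
    refine ⟨AdjoinRoot a × V, inferInstance, inferInstance, inferInstance,
      (Algebra.lmul F (AdjoinRoot a) (AdjoinRoot.root a)).prodMap f,
      (Fintype.card (AdjoinRoot a) - 1) * N, Nat.Coprime.mul_left hcop hN, ?_, ?_⟩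
    · rw [prodMap_pow', ← map_pow, pow_mul, hr, one_pow, map_one, pow_mul', hfN, one_pow,
        LinearMap.prodMap_one]
    · rw [LinearMap.charpoly_prodMap, hch, Multiset.prod_cons]
      congr 1
      exact charpoly_mulRoot ⟨a, ham, hai⟩

end Construct

section GLconstruct

variable {F : Type v} [Field F] {n : ℕ}

theorem exists_GL_of_charpoly [Fintype F] (p : ℕ) [Fact p.Prime] [CharP F p] (f₀ : F[X])
    (hm : f₀.Monic) (hdeg : f₀.natDegree = n) (h0 : f₀.coeff 0 ≠ 0) :
    ∃ g : Matrix.GeneralLinearGroup (Fin n) F, (orderOf g).Coprime p ∧ g.val.charpoly = f₀ := by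
  classical
  have hp := (Fact.out : p.Prime)
  have hne : f₀ ≠ 0 := hm.ne_zero
  have hs : ∀ x ∈ UniqueFactorizationMonoid.normalizedFactors f₀,
      x.Monic ∧ Irreducible x ∧ x ≠ X := by
    intro x hx
    have hirr := UniqueFactorizationMonoid.irreducible_of_normalized_factor x hx
    refine ⟨?_, hirr, ?_⟩
    · rw [← UniqueFactorizationMonoid.normalize_normalized_factor x hx]
      exact monic_normalize hirr.ne_zero
    · rintro rfl
      have := UniqueFactorizationMonoid.dvd_of_mem_normalizedFactors hx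
      rw [X_dvd_iff] at this
      exact h0 this
  have hprod : (UniqueFactorizationMonoid.normalizedFactors f₀).prod = f₀ := by
    apply eq_of_monic_of_associated _ hm (UniqueFactorizationMonoid.prod_normalizedFactors hne)
    have := monic_multiset_prod_of_monic (UniqueFactorizationMonoid.normalizedFactors f₀) id
      (fun i hi => (hs i hi).1)
    rwa [Multiset.map_id] at this
  obtain ⟨V, _, _, _, f, N, hN, hfN, hch⟩ := exists_of_factors p _ hs
  rw [hprod] at hch
  have hfr : Module.finrank F (Fin n → F) = Module.finrank F V := by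
    rw [Module.finrank_fin_fun, ← LinearMap.charpoly_natDegree f, hch, hdeg]
  let θ : (Fin n → F) ≃ₗ[F] V := LinearEquiv.ofFinrankEq _ _ hfr
  let fn : Module.End F (Fin n → F) := θ.symm.conj f
  have hfnpow : ∀ k x, (fn ^ k) x = θ.symm ((f ^ k) (θ x)) := by
    intro k
    induction k with
    | zero =>
      intro x
      show x = θ.symm (θ x)
      rw [LinearEquiv.symm_apply_apply]
    | succ k ih =>
      intro x
      rw [pow_succ', Module.End.mul_apply, ih, pow_succ', Module.End.mul_apply]
      show θ.symm (f (θ.symm.symm (θ.symm ((f ^ k) (θ x))))) = _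
      rw [LinearEquiv.symm_symm, LinearEquiv.apply_symm_apply]
  have hfnN : fn ^ N = 1 := by
    apply LinearMap.ext
    intro x
    rw [hfnpow, hfN]
    show θ.symm (θ x) = x
    rw [LinearEquiv.symm_apply_apply]
  let M : Matrix (Fin n) (Fin n) F := (Matrix.toLinAlgEquiv' (R := F) (n := Fin n)).symm fn
  have hMN : M ^ N = 1 := by
    show ((Matrix.toLinAlgEquiv' (R := F) (n := Fin n)).symm fn) ^ N = 1
    rw [← map_pow, hfnN, map_one]
  have hN0 : N ≠ 0 := by
    rintro rfl
    rw [Nat.coprime_zero_left] at hN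
    exact hp.one_lt.ne' hN
  have hu : IsUnit M := IsUnit.of_pow_eq_one hMN hN0
  refine ⟨hu.unit, ?_, ?_⟩
  · have h1 : hu.unit ^ N = 1 := by
      apply Units.ext
      rw [Units.val_pow_eq_pow_val]
      exact hMN
    exact Nat.Coprime.coprime_dvd_left (orderOf_dvd_of_pow_eq_one h1) hN
  · show M.charpoly = f₀
    have h1 : Matrix.toLin' M = fn := (Matrix.toLinAlgEquiv' (R := F) (n := Fin n)).apply_symm_apply fn
    rw [← Matrix.charpoly_toLin', h1]
    show LinearMap.charpoly (θ.symm.conj f) = f₀
    rw [LinearEquiv.charpoly_conj, hch]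

end GLconstruct

end Cfsg.Agent.helper25.SSimple

namespace Cfsg.Agent.helper25.SSimple

open Polynomial

section CountPoly

variable {F : Type v} [Field F]

/-- the monic polynomial with given lower coefficients -/
noncomputable def polyOf (n : ℕ) (c : Fin n → F) : F[X] := X ^ n + ∑ i : Fin n, C (c i) * X ^ (i : ℕ)

theorem coeff_sum_fin (n : ℕ) (c : Fin n → F) (j : ℕ) :
    (∑ i : Fin n, C (c i) * X ^ (i : ℕ)).coeff j = if h : j < n then c ⟨j, h⟩ else 0 := by
  rw [finsetSum_coeff]
  simp only [coeff_C_mul_X_pow]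
  split_ifs with h
  · rw [Finset.sum_eq_single ⟨j, h⟩]
    · simp
    · intro b _ hb
      rw [if_neg]
      intro hj
      apply hb
      exact Fin.ext hj.symm
    · intro hh
      exact absurd (Finset.mem_univ _) hh
  · apply Finset.sum_eq_zero
    intro i _
    rw [if_neg]
    intro hj
    apply h
    rw [hj]
    exact i.2

theorem polyOf_monic (n : ℕ) (c : Fin n → F) : (polyOf n c).Monic :=
  monic_X_pow_add (degree_sum_fin_lt c)

theorem polyOf_natDegree (n : ℕ) (c : Fin n → F) : (polyOf n c).natDegree = n := by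
  unfold polyOf
  apply natDegree_eq_of_degree_eq_some
  rw [degree_add_eq_left_of_degree_lt, degree_X_pow]
  rw [degree_X_pow]
  exact degree_sum_fin_lt c

theorem polyOf_coeff (n : ℕ) (c : Fin n → F) (j : Fin n) : (polyOf n c).coeff j = c j := by
  unfold polyOf
  rw [coeff_add, coeff_X_pow, if_neg (by have := j.2; omega), zero_add, coeff_sum_fin,
    dif_pos j.2]

theorem polyOf_coeffs (n : ℕ) (f₀ : F[X]) (hm : f₀.Monic) (hd : f₀.natDegree = n) :
    polyOf n (fun i => f₀.coeff i) = f₀ := by
  ext k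
  unfold polyOf
  rw [coeff_add, coeff_X_pow, coeff_sum_fin]
  by_cases h1 : k = n
  · rw [if_pos h1, dif_neg (by omega), add_zero]
    rw [h1, ← hd]
    exact hm.coeff_natDegree.symm
  · rw [if_neg h1, zero_add]
    by_cases h2 : k < n
    · rw [dif_pos h2]
    · rw [dif_neg h2]
      rw [coeff_eq_zero_of_natDegree_lt]
      omega

theorem card_monic_polys [Fintype F] (m : ℕ) (S : F → Prop) :
    Nat.card {f₀ : F[X] // f₀.Monic ∧ f₀.natDegree = m + 1 ∧ S (f₀.coeff 0)}
      = Nat.card {a : F // S a} * Fintype.card F ^ m := by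
  have e1 : {c : Fin (m + 1) → F // S (c 0)} ≃
      {f₀ : F[X] // f₀.Monic ∧ f₀.natDegree = m + 1 ∧ S (f₀.coeff 0)} := by
    refine Equiv.ofBijective (fun c => ⟨polyOf (m + 1) c.1, polyOf_monic _ _, polyOf_natDegree _ _, ?_⟩)
      ⟨?_, ?_⟩
    · have := polyOf_coeff (m + 1) c.1 0
      rw [Fin.val_zero] at this
      rw [this]
      exact c.2
    · intro c c' h
      have h1 : polyOf (m + 1) c.1 = polyOf (m + 1) c'.1 := congrArg Subtype.val h
      apply Subtype.ext
      funext j
      rw [← polyOf_coeff (m + 1) c.1 j, ← polyOf_coeff (m + 1) c'.1 j, h1]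
    · rintro ⟨f₀, hm, hd, hS⟩
      refine ⟨⟨fun i => f₀.coeff i, ?_⟩, ?_⟩
      · show S (f₀.coeff ((0 : Fin (m + 1)) : ℕ))
        rw [Fin.val_zero]
        exact hS
      · apply Subtype.ext
        exact polyOf_coeffs (m + 1) f₀ hm hd
  have e2 : {c : Fin (m + 1) → F // S (c 0)} ≃ {a : F // S a} × (Fin m → F) :=
    { toFun := fun c => (⟨c.1 0, c.2⟩, Fin.tail c.1)
      invFun := fun y => ⟨Fin.cons y.1.1 y.2, by rw [Fin.cons_zero]; exact y.1.2⟩
      left_inv := by
        intro c
        apply Subtype.ext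
        exact Fin.cons_self_tail c.1
      right_inv := by
        rintro ⟨⟨a, ha⟩, t⟩
        simp }
  rw [← Nat.card_congr e1, Nat.card_congr e2, Nat.card_prod, Nat.card_eq_fintype_card (α := Fin m → F),
    Fintype.card_fun, Fintype.card_fin]

end CountPoly

section FinalGL

variable {F : Type v} [Field F] {n : ℕ}

theorem charpoly_eq_of_isConj (g g' : Matrix.GeneralLinearGroup (Fin n) F) (h : IsConj g g') :
    g.val.charpoly = g'.val.charpoly := by
  obtain ⟨c, hc⟩ := isConj_iff.mp h
  rw [← hc]
  show _ = (c.val * g.val * (c⁻¹).val).charpoly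
  have := Matrix.charpoly_units_conj c g.val
  rw [← this, Matrix.coe_units_inv]

theorem charpoly_coeff_zero_ne (g : Matrix.GeneralLinearGroup (Fin n) F) :
    g.val.charpoly.coeff 0 ≠ 0 := by
  intro h0
  have h1 := Matrix.det_eq_sign_charpoly_coeff g.val
  rw [h0, mul_zero] at h1
  have h2 : IsUnit g.val.det := (Matrix.isUnit_iff_isUnit_det _).mp g.isUnit
  rw [h1] at h2
  exact not_isUnit_zero h2

theorem count_pregular_classes_GL [Fintype F] (p : ℕ) [Fact p.Prime] [CharP F p] (m : ℕ) :
    Nat.card {c : ConjClasses (Matrix.GeneralLinearGroup (Fin (m + 1)) F) //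
      ∃ g : Matrix.GeneralLinearGroup (Fin (m + 1)) F, ConjClasses.mk g = c ∧ (orderOf g).Coprime p}
      = (Fintype.card F - 1) * Fintype.card F ^ m := by
  classical
  let T := {c : ConjClasses (Matrix.GeneralLinearGroup (Fin (m + 1)) F) //
      ∃ g : Matrix.GeneralLinearGroup (Fin (m + 1)) F, ConjClasses.mk g = c ∧ (orderOf g).Coprime p}
  let rep : T → Matrix.GeneralLinearGroup (Fin (m + 1)) F := fun c => Classical.choose c.2
  have hrep : ∀ c : T, ConjClasses.mk (rep c) = c.1 ∧ (orderOf (rep c)).Coprime p :=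
    fun c => Classical.choose_spec c.2
  let Ψ : T → {f₀ : F[X] // f₀.Monic ∧ f₀.natDegree = m + 1 ∧ (fun a => a ≠ 0) (f₀.coeff 0)} :=
    fun c => ⟨(rep c).val.charpoly, Matrix.charpoly_monic _, by
      rw [Matrix.charpoly_natDegree_eq_dim, Fintype.card_fin], charpoly_coeff_zero_ne _⟩
  have hbij : Function.Bijective Ψ := by
    constructor
    · intro c c' h
      have h1 : (rep c).val.charpoly = (rep c').val.charpoly := congrArg Subtype.val h
      have h2 := isConj_of_charpoly_eq p (rep c) (rep c') (hrep c).2 (hrep c').2 h1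
      apply Subtype.ext
      rw [← (hrep c).1, ← (hrep c').1, ConjClasses.mk_eq_mk_iff_isConj]
      exact h2
    · rintro ⟨f₀, hm, hd, h0⟩
      obtain ⟨g, hg, hgc⟩ := exists_GL_of_charpoly p f₀ hm hd h0
      refine ⟨⟨ConjClasses.mk g, g, rfl, hg⟩, Subtype.ext ?_⟩
      show (rep ⟨ConjClasses.mk g, g, rfl, hg⟩).val.charpoly = f₀
      rw [← hgc]
      apply charpoly_eq_of_isConj
      rw [← ConjClasses.mk_eq_mk_iff_isConj]
      exact (hrep ⟨ConjClasses.mk g, g, rfl, hg⟩).1
  rw [Nat.card_congr (Equiv.ofBijective Ψ hbij), card_monic_polys m (fun a => a ≠ 0)]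
  congr 1
  rw [Nat.card_eq_fintype_card, Fintype.card_subtype_compl, Fintype.card_subtype_eq]

end FinalGL

end Cfsg.Agent.helper25.SSimple

namespace Cfsg.Agent.helper25.SSimple

open Polynomial

section SLpart

variable {F : Type v} [Field F] {n : ℕ}

theorem toGL_val (g : Matrix.SpecialLinearGroup (Fin n) F) :
    (Matrix.SpecialLinearGroup.toGL g : Matrix.GeneralLinearGroup (Fin n) F).val = g.val := rfl

theorem orderOf_toGL (g : Matrix.SpecialLinearGroup (Fin n) F) :
    orderOf (Matrix.SpecialLinearGroup.toGL g : Matrix.GeneralLinearGroup (Fin n) F) = orderOf g :=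
  orderOf_injective _ Matrix.SpecialLinearGroup.toGL_injective g

theorem isConj_SL_of_charpoly_eq [Fintype F] (p : ℕ) [Fact p.Prime] [CharP F p]
    (g h : Matrix.SpecialLinearGroup (Fin n) F) (hg : (orderOf g).Coprime p)
    (hh : (orderOf h).Coprime p) (hc : g.val.charpoly = h.val.charpoly) : IsConj g h := by
  by_cases hn : n = 0
  · subst hn
    have : g = h := by
      apply Subtype.ext
      ext i j
      exact i.elim0
    rw [this]
  have hnt : Nontrivial (Fin n → F) := by
    have : Nonempty (Fin n) := ⟨⟨0, by omega⟩⟩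
    infer_instance
  let g' : Matrix.GeneralLinearGroup (Fin n) F := Matrix.SpecialLinearGroup.toGL g
  let h' : Matrix.GeneralLinearGroup (Fin n) F := Matrix.SpecialLinearGroup.toGL h
  have hg' : (orderOf g').Coprime p := by rw [orderOf_toGL]; exact hg
  have hh' : (orderOf h').Coprime p := by rw [orderOf_toGL]; exact hh
  have hss := isSemisimple_of_coprime p g' hg'
  obtain ⟨χ, hχ⟩ := exists_intertwiner_ss (Glin g') (Glin h') hss
    (isSemisimple_of_coprime p h' hh') (by rw [charpoly_Glin, charpoly_Glin]; exact hc)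
  obtain ⟨c, hcg, hcdet⟩ := exists_conj_of_intertwiner g' h' χ hχ
  have hdet0 : c.val.det ≠ 0 := by
    have h2 : IsUnit c.val.det := (Matrix.isUnit_iff_isUnit_det _).mp c.isUnit
    exact h2.ne_zero
  obtain ⟨z, hz, hzdet⟩ := exists_commuting_det (Glin g') hss (c.val.det)⁻¹ (inv_ne_zero hdet0)
  obtain ⟨c₂, hc₂, hc₂det⟩ := exists_conj_of_intertwiner g' g' z hz
  have hsdet : (c.val * c₂.val).det = 1 := by
    rw [Matrix.det_mul, hc₂det, hzdet, mul_inv_cancel₀ hdet0]
  let S : Matrix.SpecialLinearGroup (Fin n) F := ⟨c.val * c₂.val, hsdet⟩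
  have hS : S * g = h * S := by
    apply Subtype.ext
    show c.val * c₂.val * g.val = h.val * (c.val * c₂.val)
    have e1 : c₂.val * g.val = g.val * c₂.val := by
      have h9 : c₂.val * g'.val = g'.val * c₂.val := by
        have := congrArg Units.val hc₂
        simpa using this
      exact h9
    have e2 : c.val * g.val = h.val * c.val := by
      have h9 : c.val * g'.val = h'.val * c.val := by
        have := congrArg Units.val hcg
        simpa using this
      exact h9
    rw [mul_assoc, e1, ← mul_assoc, e2, mul_assoc]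
  rw [isConj_iff]
  refine ⟨S, ?_⟩
  rw [hS]
  group

theorem count_pregular_classes_SL [Fintype F] (p : ℕ) [Fact p.Prime] [CharP F p] (m : ℕ) :
    Nat.card {c : ConjClasses (Matrix.SpecialLinearGroup (Fin (m + 1)) F) //
      ∃ g : Matrix.SpecialLinearGroup (Fin (m + 1)) F,
        ConjClasses.mk g = c ∧ (orderOf g).Coprime p}
      = Fintype.card F ^ m := by
  classical
  let T := {c : ConjClasses (Matrix.SpecialLinearGroup (Fin (m + 1)) F) //
      ∃ g : Matrix.SpecialLinearGroup (Fin (m + 1)) F,
        ConjClasses.mk g = c ∧ (orderOf g).Coprime p}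
  let rep : T → Matrix.SpecialLinearGroup (Fin (m + 1)) F := fun c => Classical.choose c.2
  have hrep : ∀ c : T, ConjClasses.mk (rep c) = c.1 ∧ (orderOf (rep c)).Coprime p :=
    fun c => Classical.choose_spec c.2
  have hcoeff : ∀ g : Matrix.SpecialLinearGroup (Fin (m + 1)) F,
      g.val.charpoly.coeff 0 = (-1) ^ (m + 1) := by
    intro g
    have h1 := Matrix.det_eq_sign_charpoly_coeff g.val
    rw [g.2, Fintype.card_fin] at h1
    have h2 : ((-1 : F) ^ (m + 1)) * ((-1) ^ (m + 1)) = 1 := by
      rw [← mul_pow, neg_one_mul, neg_neg, one_pow]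
    calc g.val.charpoly.coeff 0 = ((-1 : F) ^ (m + 1) * (-1) ^ (m + 1)) * g.val.charpoly.coeff 0 := by
          rw [h2, one_mul]
      _ = (-1) ^ (m + 1) * ((-1) ^ (m + 1) * g.val.charpoly.coeff 0) := by rw [mul_assoc]
      _ = (-1) ^ (m + 1) := by rw [← h1, mul_one]
  let Ψ : T → {f₀ : F[X] // f₀.Monic ∧ f₀.natDegree = m + 1 ∧
      (fun a => a = (-1) ^ (m + 1)) (f₀.coeff 0)} :=
    fun c => ⟨(rep c).val.charpoly, Matrix.charpoly_monic _, by
      rw [Matrix.charpoly_natDegree_eq_dim, Fintype.card_fin], hcoeff _⟩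
  have hbij : Function.Bijective Ψ := by
    constructor
    · intro c c' h
      have h1 : (rep c).val.charpoly = (rep c').val.charpoly := congrArg Subtype.val h
      have h2 := isConj_SL_of_charpoly_eq p (rep c) (rep c') (hrep c).2 (hrep c').2 h1
      apply Subtype.ext
      rw [← (hrep c).1, ← (hrep c').1, ConjClasses.mk_eq_mk_iff_isConj]
      exact h2
    · rintro ⟨f₀, hm, hd, h0⟩
      have h0' : f₀.coeff 0 ≠ 0 := by
        have h00 : f₀.coeff 0 = (-1) ^ (m + 1) := h0
        rw [h00]
        exact pow_ne_zero _ (neg_ne_zero.mpr one_ne_zero)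
      obtain ⟨g, hg, hgc⟩ := exists_GL_of_charpoly p f₀ hm hd h0'
      have hdet : g.val.det = 1 := by
        have h1 := Matrix.det_eq_sign_charpoly_coeff g.val
        have h00 : f₀.coeff 0 = (-1) ^ (m + 1) := h0
        rw [hgc, h00, Fintype.card_fin, ← mul_pow, neg_one_mul, neg_neg, one_pow] at h1
        exact h1
      let S : Matrix.SpecialLinearGroup (Fin (m + 1)) F := ⟨g.val, hdet⟩
      have hSg : (Matrix.SpecialLinearGroup.toGL S : Matrix.GeneralLinearGroup (Fin (m + 1)) F) = g :=
        Units.ext rfl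
      have hS : (orderOf S).Coprime p := by
        rw [← orderOf_toGL, hSg]
        exact hg
      refine ⟨⟨ConjClasses.mk S, S, rfl, hS⟩, Subtype.ext ?_⟩
      show (rep ⟨ConjClasses.mk S, S, rfl, hS⟩).val.charpoly = f₀
      rw [← hgc]
      have h3 : IsConj (rep ⟨ConjClasses.mk S, S, rfl, hS⟩) S := by
        rw [← ConjClasses.mk_eq_mk_iff_isConj]
        exact (hrep ⟨ConjClasses.mk S, S, rfl, hS⟩).1
      have h4 := Matrix.SpecialLinearGroup.toGL.map_isConj h3
      have h5 := charpoly_eq_of_isConj _ _ h4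
      rw [hSg] at h5
      exact h5
  rw [Nat.card_congr (Equiv.ofBijective Ψ hbij), card_monic_polys m (fun a => a = (-1) ^ (m + 1))]
  rw [Nat.card_eq_fintype_card, Fintype.card_subtype_eq, one_mul]

end SLpart

end Cfsg.Agent.helper25.SSimple

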