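import Cfsg.Statements.S0766
-- import your own Cfsg.Agent.* helpers here
import Cfsg.Agent.Lib_helper4_Symp

set_option autoImplicit false
open Cfsg

namespace Cfsg.Agent.S0766

open Matrix Cfsg.Agent.helper4

variable {F : Type*} [Field F] {m : ℕ}

/-- the subgroup generated by transvections -/
abbrev TT (F : Type*) [Field F] (m : ℕ) : Subgroup (Matrix.symplecticGroup (Fin m) F) :=
  Subgroup.closure {A : Matrix.symplecticGroup (Fin m) F | ∃ (w : Fin m ⊕ Fin m → F) (c : F), (A : Matrix (Fin m ⊕ Fin m) (Fin m ⊕ Fin m) F) = Cfsg.sympTransvection m w c}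

theorem sympForm_zero_left (x : Fin m ⊕ Fin m → F) : Cfsg.sympForm m F 0 x = 0 := by
  unfold Cfsg.sympForm; rw [zero_dotProduct]

theorem sympForm_mulVec (A : Matrix.symplecticGroup (Fin m) F) (x y : Fin m ⊕ Fin m → F) :
    Cfsg.sympForm m F ((A : Matrix (Fin m ⊕ Fin m) (Fin m ⊕ Fin m) F) *ᵥ x) ((A : Matrix (Fin m ⊕ Fin m) (Fin m ⊕ Fin m) F) *ᵥ y) = Cfsg.sympForm m F x y := by
  have hA := SymplecticGroup.mem_iff'.mp A.2
  unfold Cfsg.sympForm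
  rw [Matrix.mulVec_mulVec, ← Matrix.vecMul_transpose, Matrix.dotProduct_mulVec, Matrix.vecMul_vecMul,
    ← Matrix.mul_assoc, hA, ← Matrix.dotProduct_mulVec]

theorem move_fix (z x y : Fin m ⊕ Fin m → F) (hz : Cfsg.sympForm m F z x = Cfsg.sympForm m F z y)
    (hxy : Cfsg.sympForm m F x y ≠ 0) :
    ∃ A ∈ TT F m, (A : Matrix (Fin m ⊕ Fin m) (Fin m ⊕ Fin m) F) *ᵥ x = y ∧
      (A : Matrix (Fin m ⊕ Fin m) (Fin m ⊕ Fin m) F) *ᵥ z = z := by
  refine ⟨⟨Cfsg.sympTransvection m (x - y) (Cfsg.sympForm m F x y)⁻¹, sympTransvection_mem _ _⟩,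
    Subgroup.subset_closure ⟨x - y, _, rfl⟩, ?_, ?_⟩
  · change Cfsg.sympTransvection m (x - y) (Cfsg.sympForm m F x y)⁻¹ *ᵥ x = y
    rw [sympTransvection_mulVec, sympForm_sub_right, sympForm_self, zero_sub, mul_neg,
      inv_mul_cancel₀ hxy, neg_smul, one_smul]
    abel
  · change Cfsg.sympTransvection m (x - y) (Cfsg.sympForm m F x y)⁻¹ *ᵥ z = z
    rw [sympTransvection_mulVec, sympForm_sub_right, hz, sub_self, mul_zero, zero_smul, add_zero]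

theorem mul_TT {A B : Matrix.symplecticGroup (Fin m) F} (hA : A ∈ TT F m) (hB : B ∈ TT F m)
    (x y z : Fin m ⊕ Fin m → F)
    (h1 : (A : Matrix (Fin m ⊕ Fin m) (Fin m ⊕ Fin m) F) *ᵥ x = y)
    (h2 : (B : Matrix (Fin m ⊕ Fin m) (Fin m ⊕ Fin m) F) *ᵥ y = z) :
    (B * A) ∈ TT F m ∧ ((B * A : Matrix.symplecticGroup (Fin m) F) : Matrix (Fin m ⊕ Fin m) (Fin m ⊕ Fin m) F) *ᵥ x = z := by
  refine ⟨(TT F m).mul_mem hB hA, ?_⟩
  rw [Submonoid.coe_mul, ← Matrix.mulVec_mulVec, h1, h2]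

/-- move x to y (with partners giving nondegeneracy), fixing a vector z orthogonal appropriately -/
theorem move_vec (u v u' v' : Fin m ⊕ Fin m → F) (h : Cfsg.sympForm m F u v = 1)
    (h' : Cfsg.sympForm m F u' v' = 1) :
    ∃ A ∈ TT F m, (A : Matrix (Fin m ⊕ Fin m) (Fin m ⊕ Fin m) F) *ᵥ u = u' := by
  have hz : ∀ x y : Fin m ⊕ Fin m → F, Cfsg.sympForm m F 0 x = Cfsg.sympForm m F 0 y := by
    intro x y; rw [sympForm_zero_left, sympForm_zero_left]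
  have hv'u' : Cfsg.sympForm m F v' u' = -1 := by rw [sympForm_swap, h']
  by_cases h0 : Cfsg.sympForm m F u u' = 0
  · -- find intermediate w
    have hw : ∃ w, Cfsg.sympForm m F u w ≠ 0 ∧ Cfsg.sympForm m F w u' ≠ 0 := by
      by_cases h1 : Cfsg.sympForm m F v u' = 0
      · by_cases h2 : Cfsg.sympForm m F u v' = 0
        · refine ⟨v + v', ?_, ?_⟩
          · rw [sympForm_add_right, h, h2, add_zero]; exact one_ne_zero
          · rw [sympForm_add_left, h1, hv'u', zero_add]; exact neg_ne_zero.mpr one_ne_zero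
        · exact ⟨v', h2, by rw [hv'u']; exact neg_ne_zero.mpr one_ne_zero⟩
      · exact ⟨v, by rw [h]; exact one_ne_zero, h1⟩
    obtain ⟨w, hw1, hw2⟩ := hw
    obtain ⟨A, hA, hAx, _⟩ := move_fix 0 u w (hz _ _) hw1
    obtain ⟨B, hB, hBx, _⟩ := move_fix 0 w u' (hz _ _) hw2
    obtain ⟨hBA, hBAx⟩ := mul_TT hA hB u w u' hAx hBx
    exact ⟨B * A, hBA, hBAx⟩
  · obtain ⟨A, hA, hAx, _⟩ := move_fix 0 u u' (hz _ _) h0
    exact ⟨A, hA, hAx⟩


/-- The subgroup generated by the symplectic transvections acts transitively on ordered pairs (u, v) with f(u, v) = 1. -/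
theorem result {F : Type*} [Field F] (m : ℕ) (u v u' v' : Fin m ⊕ Fin m → F) (h : Cfsg.sympForm m F u v = 1) (h' : Cfsg.sympForm m F u' v' = 1) : ∃ A ∈ Subgroup.closure {A : Matrix.symplecticGroup (Fin m) F | ∃ (w : Fin m ⊕ Fin m → F) (c : F), (A : Matrix (Fin m ⊕ Fin m) (Fin m ⊕ Fin m) F) = Cfsg.sympTransvection m w c}, (A : Matrix (Fin m ⊕ Fin m) (Fin m ⊕ Fin m) F).mulVec u = u' ∧ (A : Matrix (Fin m ⊕ Fin m) (Fin m ⊕ Fin m) F).mulVec v = v' := by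
  obtain ⟨A, hA, hAu⟩ := move_vec u v u' v' h h'
  set v₁ := (A : Matrix (Fin m ⊕ Fin m) (Fin m ⊕ Fin m) F) *ᵥ v with hv₁
  have h1 : Cfsg.sympForm m F u' v₁ = 1 := by
    rw [← hAu, hv₁, sympForm_mulVec, h]
  -- now find B fixing u' and moving v₁ to v'
  have hB : ∃ B ∈ TT F m, (B : Matrix (Fin m ⊕ Fin m) (Fin m ⊕ Fin m) F) *ᵥ v₁ = v' ∧
      (B : Matrix (Fin m ⊕ Fin m) (Fin m ⊕ Fin m) F) *ᵥ u' = u' := by
    by_cases h0 : Cfsg.sympForm m F v₁ v' = 0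
    · set v₂ := v₁ + u' with hv₂
      have e1 : Cfsg.sympForm m F u' v₂ = 1 := by
        rw [hv₂, sympForm_add_right, h1, sympForm_self, add_zero]
      have e2 : Cfsg.sympForm m F v₁ v₂ ≠ 0 := by
        rw [hv₂, sympForm_add_right, sympForm_self, zero_add, sympForm_swap, h1]
        exact neg_ne_zero.mpr one_ne_zero
      have e3 : Cfsg.sympForm m F v₂ v' ≠ 0 := by
        rw [hv₂, sympForm_add_left, h0, h', zero_add]; exact one_ne_zero
      obtain ⟨B₁, hB₁, hB₁x, hB₁z⟩ := move_fix u' v₁ v₂ (by rw [h1, e1]) e2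
      obtain ⟨B₂, hB₂, hB₂x, hB₂z⟩ := move_fix u' v₂ v' (by rw [e1, h']) e3
      obtain ⟨hBB, hBBx⟩ := mul_TT hB₁ hB₂ v₁ v₂ v' hB₁x hB₂x
      obtain ⟨_, hBBz⟩ := mul_TT hB₁ hB₂ u' u' u' hB₁z hB₂z
      exact ⟨B₂ * B₁, hBB, hBBx, hBBz⟩
    · exact move_fix u' v₁ v' (by rw [h1, h']) h0
  obtain ⟨B, hB, hBv, hBu⟩ := hB
  obtain ⟨hBA, hBAu⟩ := mul_TT hA hB u u' u' hAu hBu
  obtain ⟨_, hBAv⟩ := mul_TT hA hB v v₁ v' rfl hBv
  exact ⟨B * A, hBA, hBAu, hBAv⟩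

end Cfsg.Agent.S0766
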