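import Cfsg.Statements.S0765
-- import your own Cfsg.Agent.* helpers here
import Cfsg.Agent.Lib_helper4_Symp
import Cfsg.Agent.S0766
import Mathlib

set_option autoImplicit false
open Cfsg

namespace Cfsg.Agent.S0765

open Matrix Cfsg.Agent.helper4 Cfsg.Agent.S0766

section
variable {F : Type*} [Field F] {m : ℕ}

local notation "Vec" => (Fin m ⊕ Fin m → F)
local notation "Mat" => Matrix (Fin m ⊕ Fin m) (Fin m ⊕ Fin m) F

/-- `x` is orthogonal to all of `Z` -/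
def Orth (Z : Set (Fin m ⊕ Fin m → F)) (x : Fin m ⊕ Fin m → F) : Prop :=
  ∀ z ∈ Z, Cfsg.sympForm m F z x = 0

theorem Orth.add {Z : Set (Fin m ⊕ Fin m → F)} {x y : Fin m ⊕ Fin m → F} (hx : Orth Z x) (hy : Orth Z y) :
    Orth Z (x + y) := by
  intro z hz
  rw [sympForm_add_right, hx z hz, hy z hz, add_zero]

/-- elements of `TT` fixing `Z` pointwise -/
def Fix (Z : Set (Fin m ⊕ Fin m → F)) (A : Matrix.symplecticGroup (Fin m) F) : Prop :=
  A ∈ TT F m ∧ ∀ z ∈ Z, (A : Matrix (Fin m ⊕ Fin m) (Fin m ⊕ Fin m) F) *ᵥ z = z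

theorem Fix.mul {Z : Set (Fin m ⊕ Fin m → F)} {A B : Matrix.symplecticGroup (Fin m) F}
    (hA : Fix Z A) (hB : Fix Z B) : Fix Z (B * A) := by
  refine ⟨(TT F m).mul_mem hB.1 hA.1, ?_⟩
  intro z hz
  rw [Submonoid.coe_mul, ← Matrix.mulVec_mulVec, hA.2 z hz, hB.2 z hz]

theorem coe_mul_mulVec (A B : Matrix.symplecticGroup (Fin m) F) (x : Fin m ⊕ Fin m → F) :
    ((B * A : Matrix.symplecticGroup (Fin m) F) : Matrix (Fin m ⊕ Fin m) (Fin m ⊕ Fin m) F) *ᵥ x =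
      (B : Matrix (Fin m ⊕ Fin m) (Fin m ⊕ Fin m) F) *ᵥ ((A : Matrix (Fin m ⊕ Fin m) (Fin m ⊕ Fin m) F) *ᵥ x) := by
  rw [Submonoid.coe_mul, ← Matrix.mulVec_mulVec]

/-- one transvection step -/
theorem step (Z : Set (Fin m ⊕ Fin m → F)) (x y : Fin m ⊕ Fin m → F) (hx : Orth Z x) (hy : Orth Z y)
    (hxy : Cfsg.sympForm m F x y ≠ 0) :
    ∃ A : Matrix.symplecticGroup (Fin m) F, Fix Z A ∧
      (A : Matrix (Fin m ⊕ Fin m) (Fin m ⊕ Fin m) F) *ᵥ x = y ∧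
      ∀ z : Fin m ⊕ Fin m → F, Cfsg.sympForm m F z x = Cfsg.sympForm m F z y →
        (A : Matrix (Fin m ⊕ Fin m) (Fin m ⊕ Fin m) F) *ᵥ z = z := by
  have hfix : ∀ z : Fin m ⊕ Fin m → F, Cfsg.sympForm m F z x = Cfsg.sympForm m F z y →
      Cfsg.sympTransvection m (x - y) (Cfsg.sympForm m F x y)⁻¹ *ᵥ z = z := by
    intro z hz
    rw [sympTransvection_mulVec, sympForm_sub_right, hz, sub_self, mul_zero, zero_smul, add_zero]
  refine ⟨⟨Cfsg.sympTransvection m (x - y) (Cfsg.sympForm m F x y)⁻¹, sympTransvection_mem _ _⟩,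
    ⟨Subgroup.subset_closure ⟨x - y, _, rfl⟩, ?_⟩, ?_, hfix⟩
  · intro z hz
    exact hfix z (by rw [hx z hz, hy z hz])
  · change Cfsg.sympTransvection m (x - y) (Cfsg.sympForm m F x y)⁻¹ *ᵥ x = y
    rw [sympTransvection_mulVec, sympForm_sub_right, sympForm_self, zero_sub, mul_neg,
      inv_mul_cancel₀ hxy, neg_smul, one_smul]
    abel

theorem move_vec' (Z : Set (Fin m ⊕ Fin m → F)) (u v u' v' : Fin m ⊕ Fin m → F)
    (hu : Orth Z u) (hv : Orth Z v) (hu' : Orth Z u') (hv' : Orth Z v')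
    (h : Cfsg.sympForm m F u v = 1) (h' : Cfsg.sympForm m F u' v' = 1) :
    ∃ A : Matrix.symplecticGroup (Fin m) F, Fix Z A ∧
      (A : Matrix (Fin m ⊕ Fin m) (Fin m ⊕ Fin m) F) *ᵥ u = u' := by
  have hv'u' : Cfsg.sympForm m F v' u' = -1 := by rw [sympForm_swap, h']
  by_cases h0 : Cfsg.sympForm m F u u' = 0
  · have hw : ∃ w, Orth Z w ∧ Cfsg.sympForm m F u w ≠ 0 ∧ Cfsg.sympForm m F w u' ≠ 0 := by
      by_cases h1 : Cfsg.sympForm m F v u' = 0
      · by_cases h2 : Cfsg.sympForm m F u v' = 0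
        · refine ⟨v + v', hv.add hv', ?_, ?_⟩
          · rw [sympForm_add_right, h, h2, add_zero]; exact one_ne_zero
          · rw [sympForm_add_left, h1, hv'u', zero_add]; exact neg_ne_zero.mpr one_ne_zero
        · exact ⟨v', hv', h2, by rw [hv'u']; exact neg_ne_zero.mpr one_ne_zero⟩
      · exact ⟨v, hv, by rw [h]; exact one_ne_zero, h1⟩
    obtain ⟨w, hwZ, hw1, hw2⟩ := hw
    obtain ⟨A, hA, hAx, _⟩ := step Z u w hu hwZ hw1
    obtain ⟨B, hB, hBx, _⟩ := step Z w u' hwZ hu' hw2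
    exact ⟨B * A, hA.mul hB, by rw [coe_mul_mulVec, hAx, hBx]⟩
  · obtain ⟨A, hA, hAx, _⟩ := step Z u u' hu hu' h0
    exact ⟨A, hA, hAx⟩

theorem Fix.orth {Z : Set (Fin m ⊕ Fin m → F)} {A : Matrix.symplecticGroup (Fin m) F} (hA : Fix Z A)
    {x : Fin m ⊕ Fin m → F} (hx : Orth Z x) :
    Orth Z ((A : Matrix (Fin m ⊕ Fin m) (Fin m ⊕ Fin m) F) *ᵥ x) := by
  intro z hz
  have := sympForm_mulVec A z x
  rw [hA.2 z hz] at this
  rw [this, hx z hz]

theorem move_pair (Z : Set (Fin m ⊕ Fin m → F)) (u v u' v' : Fin m ⊕ Fin m → F)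
    (hu : Orth Z u) (hv : Orth Z v) (hu' : Orth Z u') (hv' : Orth Z v')
    (h : Cfsg.sympForm m F u v = 1) (h' : Cfsg.sympForm m F u' v' = 1) :
    ∃ A : Matrix.symplecticGroup (Fin m) F, Fix Z A ∧
      (A : Matrix (Fin m ⊕ Fin m) (Fin m ⊕ Fin m) F) *ᵥ u = u' ∧
      (A : Matrix (Fin m ⊕ Fin m) (Fin m ⊕ Fin m) F) *ᵥ v = v' := by
  obtain ⟨A, hA, hAu⟩ := move_vec' Z u v u' v' hu hv hu' hv' h h'
  set v₁ := (A : Matrix (Fin m ⊕ Fin m) (Fin m ⊕ Fin m) F) *ᵥ v with hv₁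
  have hv₁Z : Orth Z v₁ := hA.orth hv
  have h1 : Cfsg.sympForm m F u' v₁ = 1 := by
    rw [← hAu, hv₁, sympForm_mulVec, h]
  have hB : ∃ B : Matrix.symplecticGroup (Fin m) F, Fix Z B ∧
      (B : Matrix (Fin m ⊕ Fin m) (Fin m ⊕ Fin m) F) *ᵥ v₁ = v' ∧
      (B : Matrix (Fin m ⊕ Fin m) (Fin m ⊕ Fin m) F) *ᵥ u' = u' := by
    by_cases h0 : Cfsg.sympForm m F v₁ v' = 0
    · set v₂ := v₁ + u' with hv₂
      have hv₂Z : Orth Z v₂ := hv₁Z.add hu'
      have e1 : Cfsg.sympForm m F u' v₂ = 1 := by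
        rw [hv₂, sympForm_add_right, h1, sympForm_self, add_zero]
      have e2 : Cfsg.sympForm m F v₁ v₂ ≠ 0 := by
        rw [hv₂, sympForm_add_right, sympForm_self, zero_add, sympForm_swap, h1]
        exact neg_ne_zero.mpr one_ne_zero
      have e3 : Cfsg.sympForm m F v₂ v' ≠ 0 := by
        rw [hv₂, sympForm_add_left, h0, h', zero_add]; exact one_ne_zero
      obtain ⟨B₁, hB₁, hB₁x, hB₁z⟩ := step Z v₁ v₂ hv₁Z hv₂Z e2
      obtain ⟨B₂, hB₂, hB₂x, hB₂z⟩ := step Z v₂ v' hv₂Z hv' e3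
      refine ⟨B₂ * B₁, hB₁.mul hB₂, ?_, ?_⟩
      · rw [coe_mul_mulVec, hB₁x, hB₂x]
      · rw [coe_mul_mulVec, hB₁z u' (by rw [h1, e1]), hB₂z u' (by rw [e1, h'])]
    · obtain ⟨B, hB, hBx, hBz⟩ := step Z v₁ v' hv₁Z hv' h0
      exact ⟨B, hB, hBx, hBz u' (by rw [h1, h'])⟩
  obtain ⟨B, hB, hBv, hBu⟩ := hB
  refine ⟨B * A, hA.mul hB, ?_, ?_⟩
  · rw [coe_mul_mulVec, hAu, hBu]
  · rw [coe_mul_mulVec, ← hv₁, hBv]

/-- standard basis vectors -/
def bv (a : Fin m ⊕ Fin m) : Fin m ⊕ Fin m → F := Pi.single a 1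

theorem form_bv_inl (i : Fin m) (x : Fin m ⊕ Fin m → F) :
    Cfsg.sympForm m F (bv (Sum.inl i)) x = - x (Sum.inr i) := by
  unfold Cfsg.sympForm bv
  rw [single_one_dotProduct, J_mulVec_apply_inl]

theorem form_bv_inr (i : Fin m) (x : Fin m ⊕ Fin m → F) :
    Cfsg.sympForm m F (bv (Sum.inr i)) x = x (Sum.inl i) := by
  unfold Cfsg.sympForm bv
  rw [single_one_dotProduct, J_mulVec_apply_inr]

/-- the first `k` hyperbolic pairs -/
def ZZ (F : Type*) [Field F] (m k : ℕ) : Set (Fin m ⊕ Fin m → F) :=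
  {z | ∃ i : Fin m, (i : ℕ) < k ∧ (z = bv (Sum.inl i) ∨ z = bv (Sum.inr i))}

theorem orth_bv (k : ℕ) (j : Fin m) (hj : k ≤ (j : ℕ)) (a : Fin m ⊕ Fin m)
    (ha : a = Sum.inl j ∨ a = Sum.inr j) : Orth (ZZ F m k) (bv a : Fin m ⊕ Fin m → F) := by
  rintro z ⟨i, hi, rfl | rfl⟩
  · rw [form_bv_inl]
    unfold bv
    have hij : i ≠ j := fun e => by rw [e] at hi; omega
    rcases ha with rfl | rfl
    · simp
    · simp [hij]
  · rw [form_bv_inr]
    unfold bv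
    have hij : i ≠ j := fun e => by rw [e] at hi; omega
    rcases ha with rfl | rfl
    · simp [hij]
    · simp

theorem main_ind (g : Matrix.symplecticGroup (Fin m) F) (k : ℕ) (hk : k ≤ m) :
    ∃ t ∈ TT F m, ∀ z ∈ ZZ F m k,
      ((t * g : Matrix.symplecticGroup (Fin m) F) : Matrix (Fin m ⊕ Fin m) (Fin m ⊕ Fin m) F) *ᵥ z = z := by
  induction k with
  | zero =>
    refine ⟨1, (TT F m).one_mem, ?_⟩
    rintro z ⟨i, hi, _⟩
    omega
  | succ k ih =>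
    obtain ⟨t, ht, hfix⟩ := ih (by omega)
    set h := t * g with hh
    let j : Fin m := ⟨k, by omega⟩
    set u := (h : Matrix (Fin m ⊕ Fin m) (Fin m ⊕ Fin m) F) *ᵥ (bv (Sum.inr j) : Fin m ⊕ Fin m → F) with hu
    set v := (h : Matrix (Fin m ⊕ Fin m) (Fin m ⊕ Fin m) F) *ᵥ (bv (Sum.inl j) : Fin m ⊕ Fin m → F) with hv
    have horth : ∀ x : Fin m ⊕ Fin m → F, Orth (ZZ F m k) x →
        Orth (ZZ F m k) ((h : Matrix (Fin m ⊕ Fin m) (Fin m ⊕ Fin m) F) *ᵥ x) := by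
      intro x hx z hz
      have := sympForm_mulVec h z x
      rw [hfix z hz] at this
      rw [this, hx z hz]
    have hjk : k ≤ (j : ℕ) := le_rfl
    have huZ : Orth (ZZ F m k) u := horth _ (orth_bv k j hjk _ (Or.inr rfl))
    have hvZ : Orth (ZZ F m k) v := horth _ (orth_bv k j hjk _ (Or.inl rfl))
    have hpair : Cfsg.sympForm m F (bv (Sum.inr j) : Fin m ⊕ Fin m → F) (bv (Sum.inl j)) = 1 := by
      rw [form_bv_inr]; unfold bv; simp
    have huv : Cfsg.sympForm m F u v = 1 := by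
      rw [hu, hv, sympForm_mulVec, hpair]
    obtain ⟨A, hA, hAu, hAv⟩ := move_pair (ZZ F m k) u v (bv (Sum.inr j)) (bv (Sum.inl j)) huZ hvZ
      (orth_bv k j hjk _ (Or.inr rfl)) (orth_bv k j hjk _ (Or.inl rfl)) huv hpair
    refine ⟨A * t, (TT F m).mul_mem hA.1 ht, ?_⟩
    have hmul : A * t * g = A * h := by rw [hh, mul_assoc]
    rintro z ⟨i, hi, hz⟩
    rw [hmul, coe_mul_mulVec]
    by_cases hik : (i : ℕ) < k
    · rw [hfix z ⟨i, hik, hz⟩, hA.2 z ⟨i, hik, hz⟩]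
    · have hij : i = j := Fin.ext (by change (i : ℕ) = k; omega)
      subst hij
      rcases hz with rfl | rfl
      · rw [← hv, hAv]
      · rw [← hu, hAu]

end


/-- Generation of the symplectic group by symplectic transvections: the subgroup of Sp_2m(F) generated by all matrices of maps x ↦ x + c f(x, w) w is the whole group. -/
theorem result {F : Type*} [Field F] (m : ℕ) : Subgroup.closure {A : Matrix.symplecticGroup (Fin m) F | ∃ (w : Fin m ⊕ Fin m → F) (c : F), (A : Matrix (Fin m ⊕ Fin m) (Fin m ⊕ Fin m) F) = Cfsg.sympTransvection m w c} = ⊤ := by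
  rw [eq_top_iff]
  intro g _
  obtain ⟨t, ht, hfix⟩ := main_ind g m le_rfl
  have hone : t * g = 1 := by
    apply Subtype.ext
    change ((t * g : Matrix.symplecticGroup (Fin m) F) : Matrix (Fin m ⊕ Fin m) (Fin m ⊕ Fin m) F) = 1
    ext a b
    have hb : (bv b : Fin m ⊕ Fin m → F) ∈ ZZ F m m := by
      rcases b with i | i
      · exact ⟨i, i.2, Or.inl rfl⟩
      · exact ⟨i, i.2, Or.inr rfl⟩
    have := congrFun (hfix _ hb) a
    unfold bv at this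
    rw [Matrix.mulVec_single_one] at this
    rw [Matrix.one_apply]
    rw [Matrix.col_apply] at this
    rw [this, Pi.single_apply]
  have hg : g = t⁻¹ := eq_inv_of_mul_eq_one_right hone
  rw [hg]
  exact Subgroup.inv_mem _ ht

end Cfsg.Agent.S0765
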