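import Mathlib
import Cfsg.Agent.S0765

/-! Symplectic matrices have determinant one and self-reciprocal characteristic polynomial. -/

set_option autoImplicit false
open Polynomial Matrix

namespace Cfsg.Agent.helper25.SpCount


variable {F : Type*} [Field F] {n : ℕ}

theorem det_sympTransvection' (w : Fin n ⊕ Fin n → F) (c : F) :
    (Cfsg.sympTransvection n w c).det = 1 := by
  unfold Cfsg.sympTransvection
  rw [← Matrix.smul_vecMulVec, Matrix.vecMulVec_eq Unit,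
    Matrix.det_one_add_replicateCol_mul_replicateRow, dotProduct_smul, dotProduct_comm]
  have h : w ⬝ᵥ (Matrix.J (Fin n) F *ᵥ w) = 0 := Cfsg.Agent.helper4.sympForm_self w
  rw [h, smul_zero, add_zero]

theorem det_symplectic (g : ↥(Matrix.symplecticGroup (Fin n) F)) :
    (g : Matrix (Fin n ⊕ Fin n) (Fin n ⊕ Fin n) F).det = 1 := by
  obtain ⟨φ, hφ⟩ : ∃ φ : ↥(Matrix.symplecticGroup (Fin n) F) →* F,
      ∀ x, φ x = (x : Matrix (Fin n ⊕ Fin n) (Fin n ⊕ Fin n) F).det :=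
    ⟨Matrix.detMonoidHom.comp (Matrix.symplecticGroup (Fin n) F).subtype, fun x => rfl⟩
  have hker : (⊤ : Subgroup ↥(Matrix.symplecticGroup (Fin n) F)) ≤ MonoidHom.ker (φ.toHomUnits) := by
    rw [← Cfsg.Agent.S0765.result (F := F) n, Subgroup.closure_le]
    rintro A ⟨w, c, hA⟩
    rw [SetLike.mem_coe, MonoidHom.mem_ker]
    apply Units.ext
    show φ A = 1
    rw [hφ, hA]
    exact det_sympTransvection' w c
  have h1 := hker (Subgroup.mem_top g)
  rw [MonoidHom.mem_ker] at h1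
  have h2 := congrArg Units.val h1
  rw [← hφ]
  exact h2

theorem coeff_charpoly_inv_gen {ι : Type*} [Fintype ι] [DecidableEq ι] (N : Matrix ι ι F)
    (hN : IsUnit N) (i : ℕ) (hi : i ≤ Fintype.card ι) :
    N⁻¹.charpoly.coeff i
      = (-1) ^ Fintype.card ι * (N.det)⁻¹ * N.charpoly.coeff (Fintype.card ι - i) := by
  rw [Matrix.charpoly_inv N hN, ← Matrix.reverse_charpoly, Ring.inverse_eq_inv']
  have h1 : ((-1 : F[X]) ^ Fintype.card ι) = C ((-1 : F) ^ Fintype.card ι) := by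
    rw [C_pow, C_neg, C_1]
  rw [h1, ← C_mul, coeff_C_mul, coeff_reverse, Matrix.charpoly_natDegree_eq_dim, revAt_le hi]

theorem charpoly_symm (g : ↥(Matrix.symplecticGroup (Fin n) F)) (i : ℕ) (hi : i ≤ n + n) :
    (g : Matrix (Fin n ⊕ Fin n) (Fin n ⊕ Fin n) F).charpoly.coeff (n + n - i)
      = (g : Matrix (Fin n ⊕ Fin n) (Fin n ⊕ Fin n) F).charpoly.coeff i := by
  have hcard : Fintype.card (Fin n ⊕ Fin n) = n + n := by
    rw [Fintype.card_sum, Fintype.card_fin]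
  have hdet := det_symplectic g
  have hU : IsUnit (g : Matrix (Fin n ⊕ Fin n) (Fin n ⊕ Fin n) F) := by
    rw [Matrix.isUnit_iff_isUnit_det, hdet]; exact isUnit_one
  have h1 := coeff_charpoly_inv_gen (g : Matrix (Fin n ⊕ Fin n) (Fin n ⊕ Fin n) F) hU i
    (by rw [hcard]; exact hi)
  have hs : ((-1 : F)) ^ (n + n) = 1 := by rw [← two_mul, pow_mul, neg_one_sq, one_pow]
  rw [hcard, hdet, inv_one, mul_one, hs, one_mul] at h1
  rw [← h1, ← SymplecticGroup.coe_inv', SymplecticGroup.coe_inv]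
  -- charpoly (-J * gᵀ * J) = charpoly g
  obtain ⟨Ju, hJu, hJui⟩ : ∃ Ju : (Matrix (Fin n ⊕ Fin n) (Fin n ⊕ Fin n) F)ˣ,
      Ju.val = -Matrix.J (Fin n) F ∧ (Ju⁻¹).val = Matrix.J (Fin n) F := by
    refine ⟨⟨-Matrix.J (Fin n) F, Matrix.J (Fin n) F, ?_, ?_⟩, rfl, rfl⟩
    · rw [neg_mul, Matrix.J_squared, neg_neg]
    · rw [mul_neg, Matrix.J_squared, neg_neg]
  have h2 := Matrix.charpoly_units_conj Ju
    ((g : Matrix (Fin n ⊕ Fin n) (Fin n ⊕ Fin n) F)ᵀ)
  have hJi : (-Matrix.J (Fin n) F)⁻¹ = Matrix.J (Fin n) F :=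
    Matrix.inv_eq_right_inv (by rw [neg_mul, Matrix.J_squared, neg_neg])
  rw [hJu, hJi, Matrix.charpoly_transpose] at h2
  rw [h2]

end Cfsg.Agent.helper25.SpCount
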