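import Cfsg.Statements.S2580
import Mathlib
-- import your own Cfsg.Agent.* helpers here

set_option autoImplicit false
open Cfsg

namespace Cfsg.Agent.S2580


open Polynomial

section cyc
variable {F : Type*} [Field F]

/-- the monic associate of `g` -/
noncomputable def mon (g : F[X]) : F[X] := g * C (g.leadingCoeff)⁻¹

theorem mon_monic (g : F[X]) (hg : g ≠ 0) : (mon g).Monic := Polynomial.monic_mul_leadingCoeff_inv hg

theorem mon_dvd_iff (g : F[X]) (hg : g ≠ 0) (r : F[X]) : mon g ∣ r ↔ g ∣ r := by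
  unfold mon
  have hu : IsUnit (C (g.leadingCoeff)⁻¹) := by
    apply Polynomial.isUnit_C.mpr
    exact IsUnit.mk0 _ (inv_ne_zero (leadingCoeff_ne_zero.mpr hg))
  exact hu.mul_right_dvd

theorem natDegree_mon (g : F[X]) (hg : g ≠ 0) : (mon g).natDegree = g.natDegree := by
  unfold mon
  rw [natDegree_mul_C (inv_ne_zero (leadingCoeff_ne_zero.mpr hg))]

/-- reduced representative -/
noncomputable def red (g : F[X]) (hg : g ≠ 0) : (F[X] ⧸ Submodule.span F[X] {g}) →ₗ[F] F[X] :=
  (Submodule.liftQ _ (Polynomial.modByMonicHom (mon g))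
        fun f (hf : f ∈ (Submodule.span F[X] {g}).restrictScalars F) =>
        (mem_ker_modByMonic (mon_monic g hg)).mpr
          ((mon_dvd_iff g hg f).mpr (Submodule.mem_span_singleton.mp hf |>.elim fun a ha => ⟨a, by rw [← ha, smul_eq_mul, mul_comm]⟩))).comp <|
    (Submodule.Quotient.restrictScalarsEquiv F (Submodule.span F[X] {g})).symm.toLinearMap

theorem red_mk (g : F[X]) (hg : g ≠ 0) (r : F[X]) :
    red g hg (Submodule.Quotient.mk r) = r %ₘ mon g := rfl

theorem mk_eq_mk_iff (g : F[X]) (r s : F[X]) :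
    (Submodule.Quotient.mk r : F[X] ⧸ Submodule.span F[X] {g}) = Submodule.Quotient.mk s ↔ g ∣ r - s := by
  rw [Submodule.Quotient.eq, Submodule.mem_span_singleton]
  constructor
  · rintro ⟨a, ha⟩
    exact ⟨a, by rw [← ha, smul_eq_mul, mul_comm]⟩
  · rintro ⟨a, ha⟩
    exact ⟨a, by rw [ha, smul_eq_mul, mul_comm]⟩

theorem mk_red (g : F[X]) (hg : g ≠ 0) (a : F[X] ⧸ Submodule.span F[X] {g}) :
    Submodule.Quotient.mk (red g hg a) = a := by
  induction a using Submodule.Quotient.induction_on with
  | H r =>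
    rw [red_mk, mk_eq_mk_iff, ← mon_dvd_iff g hg]
    refine ⟨-(r /ₘ mon g), ?_⟩
    have := modByMonic_add_div r (mon g)
    linear_combination this

/-- the Frobenius form -/
noncomputable def frob (g : F[X]) (hg : g ≠ 0) :
    LinearMap.BilinForm F (F[X] ⧸ Submodule.span F[X] {g}) :=
  ((LinearMap.mul F F[X]).compl₁₂ (red g hg) (red g hg)).compr₂
    ((Polynomial.lcoeff F (g.natDegree - 1)).comp (Polynomial.modByMonicHom (mon g)))

theorem frob_apply (g : F[X]) (hg : g ≠ 0) (a b : F[X] ⧸ Submodule.span F[X] {g}) :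
    frob g hg a b = ((red g hg a * red g hg b) %ₘ mon g).coeff (g.natDegree - 1) := rfl

theorem X_smul_mk (g : F[X]) (r : F[X]) :
    (X : F[X]) • (Submodule.Quotient.mk r : F[X] ⧸ Submodule.span F[X] {g})
      = Submodule.Quotient.mk (X * r) := rfl

theorem frob_X (g : F[X]) (hg : g ≠ 0) (a b : F[X] ⧸ Submodule.span F[X] {g}) :
    frob g hg ((X : F[X]) • a) b = frob g hg a ((X : F[X]) • b) := by
  induction a using Submodule.Quotient.induction_on with
  | H r =>
  induction b using Submodule.Quotient.induction_on with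
  | H s =>
    rw [frob_apply, frob_apply, X_smul_mk, X_smul_mk, red_mk, red_mk, red_mk, red_mk,
      ← mul_modByMonic, ← mul_modByMonic]
    congr 2
    ring

theorem frob_nondeg (g : F[X]) (hg : g ≠ 0) (a : F[X] ⧸ Submodule.span F[X] {g}) (ha : a ≠ 0) :
    ∃ b, frob g hg a b ≠ 0 := by
  have hm := mon_monic g hg
  set r := red g hg a with hr
  have hr0 : r ≠ 0 := by
    intro h
    apply ha
    rw [← mk_red g hg a, ← hr, h]
    rfl
  have hdeg : r.degree < (mon g).degree := by
    induction a using Submodule.Quotient.induction_on with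
    | H s =>
      rw [hr, red_mk]
      exact degree_modByMonic_lt _ hm
  have hnd : r.natDegree < g.natDegree := by
    rw [← natDegree_mon g hg]
    exact natDegree_lt_natDegree hr0 hdeg
  set k := g.natDegree - 1 - r.natDegree with hk
  refine ⟨Submodule.Quotient.mk (X ^ k), ?_⟩
  rw [frob_apply, ← hr, red_mk]
  have h1 : (X ^ k : F[X]) %ₘ mon g = X ^ k := by
    rw [modByMonic_eq_self_iff hm, degree_X_pow, degree_eq_natDegree hm.ne_zero, natDegree_mon g hg]
    exact_mod_cast (by omega : k < g.natDegree)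
  rw [h1]
  have h2 : (r * X ^ k) %ₘ mon g = r * X ^ k := by
    rw [modByMonic_eq_self_iff hm, degree_mul, degree_X_pow, degree_eq_natDegree hm.ne_zero,
      natDegree_mon g hg, degree_eq_natDegree hr0]
    exact_mod_cast (by omega : r.natDegree + k < g.natDegree)
  rw [h2]
  have h3 : g.natDegree - 1 = r.natDegree + k := by omega
  rw [h3, coeff_mul_X_pow]
  exact leadingCoeff_ne_zero.mpr hr0

end cyc


open DirectSum

section
variable {F : Type*} [Field F] {V : Type*} [AddCommGroup V] [Module F V] (φ : V →ₗ[F] V)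
  {ι : Type*} [DecidableEq ι] (g : ι → F[X])
  (E : Module.AEval' φ ≃ₗ[F[X]] ⨁ i : ι, F[X] ⧸ Submodule.span F[X] {g i})

/-- component maps -/
noncomputable def Lc (i : ι) : V →ₗ[F] (F[X] ⧸ Submodule.span F[X] {g i}) where
  toFun v := E (Module.AEval'.of φ v) i
  map_add' v w := by
    rw [map_add, map_add, DirectSum.add_apply]
  map_smul' c v := by
    rw [map_smul, RingHom.id_apply, ← algebraMap_smul F[X] c (Module.AEval'.of φ v), map_smul,
      DirectSum.smul_apply, algebraMap_smul]

theorem Lc_apply (i : ι) (v : V) : Lc φ g E i v = E (Module.AEval'.of φ v) i := rfl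

theorem Lc_map (i : ι) (v : V) : Lc φ g E i (φ v) = (X : F[X]) • Lc φ g E i v := by
  rw [Lc_apply, Lc_apply, ← Module.AEval'.X_smul_of, map_smul, DirectSum.smul_apply]

theorem Lc_eq_zero (v : V) (h : ∀ i, Lc φ g E i v = 0) : v = 0 := by
  have : E (Module.AEval'.of φ v) = 0 := by
    ext i
    exact h i
  have h2 := E.injective (this.trans (map_zero E).symm)
  exact (Module.AEval'.of φ).injective (h2.trans (map_zero _).symm)

theorem Lc_surj (i : ι) (b : F[X] ⧸ Submodule.span F[X] {g i}) :
    ∃ w : V, ∀ j, Lc φ g E j w = DirectSum.of (fun i => F[X] ⧸ Submodule.span F[X] {g i}) i b j := by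
  refine ⟨(Module.AEval'.of φ).symm (E.symm (DirectSum.of _ i b)), fun j => ?_⟩
  rw [Lc_apply, LinearEquiv.apply_symm_apply, LinearEquiv.apply_symm_apply]

end

section
variable {F : Type*} [Field F] {V : Type*} [AddCommGroup V] [Module F V] (φ : V →ₗ[F] V)
  {ι : Type*} [DecidableEq ι] [Fintype ι] (g : ι → F[X]) (hg : ∀ i, g i ≠ 0)
  (E : Module.AEval' φ ≃ₗ[F[X]] ⨁ i : ι, F[X] ⧸ Submodule.span F[X] {g i})

/-- the global form -/
noncomputable def BB : LinearMap.BilinForm F V :=
  ∑ i, (frob (g i) (hg i)).compl₁₂ (Lc φ g E i) (Lc φ g E i)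

theorem BB_apply (v w : V) :
    BB φ g hg E v w = ∑ i, frob (g i) (hg i) (Lc φ g E i v) (Lc φ g E i w) := by
  unfold BB
  rw [LinearMap.sum_apply, LinearMap.sum_apply]
  rfl

theorem BB_adj (v w : V) : BB φ g hg E (φ v) w = BB φ g hg E v (φ w) := by
  rw [BB_apply, BB_apply]
  refine Finset.sum_congr rfl fun i _ => ?_
  rw [Lc_map, Lc_map, frob_X]

theorem BB_sep (v : V) (h : ∀ w, BB φ g hg E v w = 0) : v = 0 := by
  apply Lc_eq_zero φ g E
  intro i
  by_contra hne
  obtain ⟨b, hb⟩ := frob_nondeg (g i) (hg i) _ hne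
  obtain ⟨w, hw⟩ := Lc_surj φ g E i b
  apply hb
  have := h w
  rw [BB_apply, Finset.sum_eq_single i] at this
  · rw [hw i, DirectSum.of_eq_same] at this
    exact this
  · intro j _ hj
    rw [hw j, DirectSum.of_eq_of_ne _ _ _ hj, map_zero]
  · intro h
    exact absurd (Finset.mem_univ i) h

end

theorem similar_transpose {F : Type*} [Field F] {n : Type*} [Fintype n] [DecidableEq n] (A : Matrix n n F) :
    ∃ S : Matrix n n F, IsUnit S ∧ S * A = A.transpose * S := by
  classical
  set φ : (n → F) →ₗ[F] (n → F) := Matrix.toLin' A with hφ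
  have h1 : Module.IsTorsion F[X] (Module.AEval' φ) :=
    Module.AEval.isTorsion_of_finiteDimensional F (n → F) φ
  obtain ⟨ι, _, p, hp, e, ⟨E⟩⟩ := Module.equiv_directSum_of_isTorsion h1
  have hg : ∀ i, p i ^ e i ≠ 0 := fun i => pow_ne_zero _ (hp i).ne_zero
  set B := BB φ (fun i => p i ^ e i) hg E with hB
  refine ⟨LinearMap.BilinForm.toMatrix' B, ?_, ?_⟩
  · have hs : B.SeparatingLeft := by
      intro v hv
      exact BB_sep φ _ hg E v hv
    have := (LinearMap.BilinForm.separatingLeft_toMatrix'_iff).mpr hs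
    rw [Matrix.separatingLeft_iff_det_ne_zero] at this
    exact (Matrix.isUnit_iff_isUnit_det _).mpr (IsUnit.mk0 _ this)
  · have e1 : B.compLeft φ = B.compRight φ := by
      ext v w
      exact BB_adj φ _ hg E _ _
    have e2 := congrArg LinearMap.BilinForm.toMatrix' e1
    rw [LinearMap.BilinForm.toMatrix'_compLeft, LinearMap.BilinForm.toMatrix'_compRight,
      hφ, LinearMap.toMatrix'_toLin'] at e2
    exact e2.symm

theorem isConj_transpose {F : Type*} [Field F] {n : Type*} [Fintype n] [DecidableEq n] (A : Matrix n n F) :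
    IsConj A A.transpose := by
  obtain ⟨S, hS, h⟩ := similar_transpose A
  obtain ⟨u, rfl⟩ := hS
  exact ⟨u, h⟩

/-- Over a finite field, a square matrix is similar to its transpose: for every n × n matrix A there is an invertible matrix P with P A P⁻¹ = Aᵀ (stated as conjugacy in the monoid of matrices, whose units are the invertible matrices). -/
theorem result {F : Type*} [Field F] [Finite F] {n : ℕ} (A : Matrix (Fin n) (Fin n) F) : IsConj A A.transpose := by
  exact isConj_transpose A

end Cfsg.Agent.S2580
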