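import Mathlib
import Cfsg.Agent.S2580

/-! A symplectic matrix with characteristic polynomial `Σ_k h_k (X²+1)^k X^(n-k)` for a prescribed
monic `h` of degree `n`. -/

set_option autoImplicit false
open Polynomial Matrix

namespace Cfsg.Agent.helper25.SpCount


variable {F : Type*} [Field F] {n : ℕ}

theorem exists_matrix_charpoly {n : ℕ} (h : F[X]) (hm : h.Monic) (hd : h.natDegree = n) :
    ∃ D : Matrix (Fin n) (Fin n) F, D.charpoly = h := by
  subst hd
  have h1 := charpoly_leftMulMatrix (AdjoinRoot.powerBasis' hm)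
  have h2 : minpoly F (AdjoinRoot.powerBasis' hm).gen = h := by
    show minpoly F (AdjoinRoot.root h) = h
    rw [AdjoinRoot.minpoly_root hm.ne_zero, hm.leadingCoeff, inv_one, C_1, mul_one]
  exact ⟨Algebra.leftMulMatrix (AdjoinRoot.powerBasis' hm).basis (AdjoinRoot.powerBasis' hm).gen,
    h1.trans h2⟩

theorem similar_transpose_symm {n : Type*} [Fintype n] [DecidableEq n] (A : Matrix n n F) :
    ∃ S : Matrix n n F, IsUnit S ∧ Sᵀ = S ∧ S * A = Aᵀ * S := by
  classical
  set φ : (n → F) →ₗ[F] (n → F) := Matrix.toLin' A with hφ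
  have h1 : Module.IsTorsion F[X] (Module.AEval' φ) :=
    Module.AEval.isTorsion_of_finiteDimensional F (n → F) φ
  obtain ⟨ι, _, p, hp, e, ⟨E⟩⟩ := Module.equiv_directSum_of_isTorsion h1
  have hg : ∀ i, p i ^ e i ≠ 0 := fun i => pow_ne_zero _ (hp i).ne_zero
  set B := Cfsg.Agent.S2580.BB φ (fun i => p i ^ e i) hg E with hB
  refine ⟨LinearMap.BilinForm.toMatrix' B, ?_, ?_, ?_⟩
  · have hs : B.SeparatingLeft := by
      intro v hv
      exact Cfsg.Agent.S2580.BB_sep φ _ hg E v hv
    have := (LinearMap.BilinForm.separatingLeft_toMatrix'_iff).mpr hs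
    rw [Matrix.separatingLeft_iff_det_ne_zero] at this
    exact (Matrix.isUnit_iff_isUnit_det _).mpr (IsUnit.mk0 _ this)
  · ext i j
    rw [Matrix.transpose_apply, LinearMap.BilinForm.toMatrix'_apply,
      LinearMap.BilinForm.toMatrix'_apply, hB, Cfsg.Agent.S2580.BB_apply,
      Cfsg.Agent.S2580.BB_apply]
    refine Finset.sum_congr rfl fun k _ => ?_
    rw [Cfsg.Agent.S2580.frob_apply, Cfsg.Agent.S2580.frob_apply, mul_comm]
  · have e1 : B.compLeft φ = B.compRight φ := by
      ext v w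
      exact Cfsg.Agent.S2580.BB_adj φ _ hg E _ _
    have e2 := congrArg LinearMap.BilinForm.toMatrix' e1
    rw [LinearMap.BilinForm.toMatrix'_compLeft, LinearMap.BilinForm.toMatrix'_compRight,
      hφ, LinearMap.toMatrix'_toLin'] at e2
    exact e2.symm




theorem charmatrix_fromBlocks' (A B C' D : Matrix (Fin n) (Fin n) F) :
    charmatrix (fromBlocks A B C' D) =
      fromBlocks (charmatrix A) (-(B.map C)) (-(C'.map C)) (charmatrix D) := by
  refine Matrix.ext fun i j => ?_
  rcases i with i | i <;> rcases j with j | j <;> simp [charmatrix_apply, Matrix.diagonal_apply]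

/-- the symplectic matrix built from `D` and a symmetric `S` with `S D = Dᵀ S` -/
def AD (S Si D : Matrix (Fin n) (Fin n) F) : Matrix (Fin n ⊕ Fin n) (Fin n ⊕ Fin n) F :=
  Matrix.fromBlocks 0 (-Si) S Dᵀ

theorem AD_mem (S Si D : Matrix (Fin n) (Fin n) F) (hS : Sᵀ = S) (h1 : S * Si = 1)
    (h2 : Si * S = 1) (hSD : S * D = Dᵀ * S) :
    AD S Si D ∈ Matrix.symplecticGroup (Fin n) F := by
  rw [SymplecticGroup.mem_iff]
  have hSi : Siᵀ = Si := by
    have e1 : Siᵀ * S = 1 := by
      have := congrArg Matrix.transpose h1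
      rwa [Matrix.transpose_mul, hS, Matrix.transpose_one] at this
    calc Siᵀ = Siᵀ * (S * Si) := by rw [h1, Matrix.mul_one]
      _ = (Siᵀ * S) * Si := by rw [Matrix.mul_assoc]
      _ = Si := by rw [e1, Matrix.one_mul]
  unfold AD Matrix.J
  rw [Matrix.fromBlocks_transpose, Matrix.fromBlocks_multiply, Matrix.fromBlocks_multiply,
    Matrix.fromBlocks_inj]
  refine ⟨?_, ?_, ?_, ?_⟩
  · simp
  · simp [hS, h2]
  · simp [hSi, h1]
  · simp [hS, hSD]

theorem charpoly_AD (S Si D : Matrix (Fin n) (Fin n) F) (h1 : S * Si = 1) :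
    (AD S Si D).charpoly =
      (Matrix.scalar (Fin n) (X ^ 2 + 1 : F[X]) - (X : F[X]) • (Dᵀ).map C).det := by
  have hX : ((X : F[X]) ^ n) ≠ 0 := pow_ne_zero _ X_ne_zero
  apply mul_right_cancel₀ hX
  unfold Matrix.charpoly AD
  rw [charmatrix_fromBlocks']
  have hQ : (fromBlocks (1 : Matrix (Fin n) (Fin n) F[X]) (-(Si.map C)) 0
      ((X : F[X]) • (1 : Matrix (Fin n) (Fin n) F[X]))).det = X ^ n := by
    rw [Matrix.det_fromBlocks_zero₂₁, Matrix.det_one, one_mul, Matrix.det_smul, Matrix.det_one,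
      mul_one, Fintype.card_fin]
  have h1' : S.map (C : F → F[X]) * Si.map C = 1 := by
    rw [← Matrix.map_mul, h1]
    simp
  have hMQ : fromBlocks (charmatrix (0 : Matrix (Fin n) (Fin n) F)) (-((-Si).map C))
        (-(S.map C)) (charmatrix Dᵀ) *
      fromBlocks (1 : Matrix (Fin n) (Fin n) F[X]) (-(Si.map C)) 0
        ((X : F[X]) • (1 : Matrix (Fin n) (Fin n) F[X])) =
      fromBlocks ((X : F[X]) • (1 : Matrix (Fin n) (Fin n) F[X])) 0 (-(S.map C))
        (Matrix.scalar (Fin n) (X ^ 2 + 1 : F[X]) - (X : F[X]) • (Dᵀ).map C) := by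
    rw [Matrix.fromBlocks_multiply, Matrix.fromBlocks_inj]
    refine ⟨?_, ?_, ?_, ?_⟩
    · refine Matrix.ext fun i j => ?_
      simp [charmatrix_apply, Matrix.diagonal_apply, Matrix.one_apply]
    · refine Matrix.ext fun i j => ?_
      simp [charmatrix_apply, Matrix.diagonal_apply, Matrix.one_apply, Matrix.mul_apply]
    · simp
    · rw [neg_mul_neg, h1']
      refine Matrix.ext fun i j => ?_
      by_cases hij : i = j
      · subst hij
        simp [charmatrix_apply, Matrix.diagonal_apply, Matrix.one_apply, Matrix.smul_apply]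
        ring
      · have hji : ¬ j = i := fun h => hij h.symm
        simp [charmatrix_apply, Matrix.diagonal_apply, Matrix.one_apply, Matrix.smul_apply,
          hij, hji]
  rw [← hQ, ← Matrix.det_mul, hMQ, Matrix.det_fromBlocks_zero₁₂, Matrix.det_smul, Matrix.det_one,
    mul_one, Fintype.card_fin, hQ, mul_comm]




theorem det_scalar_sub_smul {L : Type*} [Field L] (N : Matrix (Fin n) (Fin n) L) (s t : L)
    (ht : t ≠ 0) :
    (Matrix.scalar (Fin n) s - t • N).det = t ^ n * N.charpoly.eval (s / t) := by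
  rw [Matrix.eval_charpoly]
  have h1 : Matrix.scalar (Fin n) s - t • N = t • (Matrix.scalar (Fin n) (s / t) - N) := by
    rw [smul_sub]
    congr 1
    refine Matrix.ext fun i j => ?_
    by_cases hij : i = j
    · subst hij
      simp [Matrix.smul_apply]
      field_simp
    · simp [Matrix.smul_apply, hij]
  rw [h1, Matrix.det_smul, Fintype.card_fin]

/-- the polynomial `Σ_{k ≤ m} c_k (X²+1)^k X^(n-k)` -/
noncomputable def TTc (n m : ℕ) (c : ℕ → F) : F[X] :=
  ∑ k ∈ Finset.range (m + 1), C (c k) * (X ^ 2 + 1) ^ k * X ^ (n - k)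

theorem coeff_term (a : F) (k m : ℕ) (hk : k ≤ m) (hm : m ≤ n) :
    (C a * (X ^ 2 + 1 : F[X]) ^ k * X ^ (n - k)).coeff (n + m) = if k = m then a else 0 := by
  rw [coeff_mul_X_pow', if_pos (by omega), coeff_C_mul]
  have h2 : n + m - (n - k) = m + k := by omega
  rw [h2]
  have hmon : ((X ^ 2 + 1 : F[X]) ^ k).Monic := by
    have : (X ^ 2 + 1 : F[X]) = X ^ 2 + C 1 := by rw [C_1]
    rw [this]
    exact (monic_X_pow_add_C 1 (by norm_num)).pow k
  have hdeg : ((X ^ 2 + 1 : F[X]) ^ k).natDegree = 2 * k := by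
    have : (X ^ 2 + 1 : F[X]) = X ^ 2 + C 1 := by rw [C_1]
    rw [this, (monic_X_pow_add_C (1 : F) (by norm_num : (2 : ℕ) ≠ 0)).natDegree_pow,
      natDegree_X_pow_add_C, mul_comm]
  by_cases hkm : k = m
  · subst hkm
    rw [if_pos rfl]
    have h3 : k + k = ((X ^ 2 + 1 : F[X]) ^ k).natDegree := by rw [hdeg]; ring
    rw [h3, hmon.coeff_natDegree, mul_one]
  · rw [if_neg hkm, coeff_eq_zero_of_natDegree_lt (by rw [hdeg]; omega), mul_zero]

theorem TTc_eq_zero (m : ℕ) (hm : m ≤ n) (c : ℕ → F) (h : TTc n m c = 0) :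
    ∀ k, k ≤ m → c k = 0 := by
  induction m with
  | zero =>
    intro k hk
    have hk0 : k = 0 := by omega
    subst hk0
    have := congrArg (fun p => p.coeff (n + 0)) h
    simp only [TTc, zero_add, Finset.range_one, Finset.sum_singleton] at this
    rw [coeff_term (n := n) (c 0) 0 0 le_rfl hm, if_pos rfl, coeff_zero] at this
    exact this
  | succ m ih =>
    have hcm : c (m + 1) = 0 := by
      have := congrArg (fun p => p.coeff (n + (m + 1))) h
      simp only [TTc, finsetSum_coeff, coeff_zero] at this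
      rw [Finset.sum_eq_single (m + 1)] at this
      · rw [coeff_term (n := n) (c (m + 1)) (m + 1) (m + 1) le_rfl hm, if_pos rfl] at this
        exact this
      · intro k hk hne
        rw [Finset.mem_range] at hk
        rw [coeff_term (n := n) (c k) k (m + 1) (by omega) hm, if_neg hne]
      · intro hnot
        exact absurd (Finset.mem_range.mpr (by omega)) hnot
    have h' : TTc n m c = 0 := by
      have h2 := h
      unfold TTc at h2 ⊢
      rw [Finset.sum_range_succ, hcm, C_0, zero_mul, zero_mul, add_zero] at h2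
      exact h2
    intro k hk
    rcases Nat.eq_or_lt_of_le hk with h1 | h1
    · rw [h1]; exact hcm
    · exact ih (by omega) h' k (by omega)

theorem TTc_sub (m : ℕ) (c c' : ℕ → F) :
    TTc n m (fun k => c k - c' k) = TTc n m c - TTc n m c' := by
  unfold TTc
  rw [← Finset.sum_sub_distrib]
  refine Finset.sum_congr rfl fun k _ => ?_
  rw [C_sub]
  ring

theorem TTc_injective (h h' : F[X]) (hd : h.natDegree ≤ n) (hd' : h'.natDegree ≤ n)
    (hT : TTc n n (fun k => h.coeff k) = TTc n n (fun k => h'.coeff k)) : h = h' := by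
  have h0 : TTc n n (fun k => h.coeff k - h'.coeff k) = 0 := by
    rw [TTc_sub, hT, sub_self]
  have h1 := TTc_eq_zero (n := n) n le_rfl _ h0
  ext k
  by_cases hk : k ≤ n
  · exact sub_eq_zero.mp (h1 k hk)
  · rw [coeff_eq_zero_of_natDegree_lt (by omega), coeff_eq_zero_of_natDegree_lt (by omega)]

theorem det_eq_TTc (D : Matrix (Fin n) (Fin n) F) :
    (Matrix.scalar (Fin n) (X ^ 2 + 1 : F[X]) - (X : F[X]) • D.map C).det
      = TTc n n (fun k => D.charpoly.coeff k) := by
  let L := FractionRing F[X]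
  let ι : F[X] →+* L := algebraMap F[X] L
  have hinj : Function.Injective ι := IsFractionRing.injective F[X] L
  apply hinj
  have ht : ι X ≠ 0 := by
    intro h0
    exact X_ne_zero (hinj (h0.trans (map_zero ι).symm))
  rw [RingHom.map_det]
  have hM : ι.mapMatrix (Matrix.scalar (Fin n) (X ^ 2 + 1 : F[X]) - (X : F[X]) • D.map C)
      = Matrix.scalar (Fin n) (ι (X ^ 2 + 1)) - ι X • D.map (ι.comp C) := by
    refine Matrix.ext fun i j => ?_
    by_cases hij : i = j
    · subst hij
      simp [Matrix.smul_apply]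
      ring
    · simp [Matrix.smul_apply, hij]
      ring
  rw [hM, det_scalar_sub_smul _ _ _ ht, Matrix.charpoly_map, eval_map, eval₂_eq_sum_range,
    Matrix.charpoly_natDegree_eq_dim, Fintype.card_fin, Finset.mul_sum]
  unfold TTc
  rw [map_sum]
  refine Finset.sum_congr rfl fun k hk => ?_
  rw [Finset.mem_range] at hk
  rw [map_mul, map_mul, map_pow, map_pow, div_pow]
  have h3 : ι X ^ n = ι X ^ (n - k) * ι X ^ k := by
    rw [← pow_add]; congr 1; omega
  rw [h3]
  have h4 : ι X ^ k ≠ 0 := pow_ne_zero _ ht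
  have h5 : ι X ^ k * (ι (X ^ 2 + 1) ^ k / ι X ^ k) = ι (X ^ 2 + 1) ^ k := by
    rw [mul_comm, div_mul_cancel₀ _ h4]
  calc ι X ^ (n - k) * ι X ^ k * ((ι.comp C) (D.charpoly.coeff k) * (ι (X ^ 2 + 1) ^ k / ι X ^ k))
      = ι (C (D.charpoly.coeff k)) * (ι X ^ k * (ι (X ^ 2 + 1) ^ k / ι X ^ k)) * ι X ^ (n - k) := by
        rw [RingHom.comp_apply]; ring
    _ = ι (C (D.charpoly.coeff k)) * ι (X ^ 2 + 1) ^ k * ι X ^ (n - k) := by rw [h5]

end Cfsg.Agent.helper25.SpCount
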