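import Mathlib
import Cfsg.Agent.Lib_helper25_SpCountA
import Cfsg.Agent.Lib_helper25_SpCountB
import Cfsg.Agent.Lib_helper25_SSimple

/-! Existence of `p'`-elements of `Sp_{2n}(q)` with prescribed characteristic polynomial, and the
coefficient description of self-reciprocal polynomials. -/

set_option autoImplicit false
open Polynomial Matrix

namespace Cfsg.Agent.helper25.SpCount

open Cfsg.Agent.helper25.SSimple

variable {F : Type*} [Field F] {n : ℕ}

theorem poly_eq_of_symm (f f' : F[X]) (hm : f.Monic) (hm' : f'.Monic)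
    (hd : f.natDegree = n + n) (hd' : f'.natDegree = n + n)
    (hs : ∀ i, i ≤ n + n → f.coeff (n + n - i) = f.coeff i)
    (hs' : ∀ i, i ≤ n + n → f'.coeff (n + n - i) = f'.coeff i)
    (h : ∀ j, j < n → f.coeff (j + 1) = f'.coeff (j + 1)) : f = f' := by
  have htop : f.coeff (n + n) = 1 := by
    have := hm.coeff_natDegree
    rwa [hd] at this
  have htop' : f'.coeff (n + n) = 1 := by
    have := hm'.coeff_natDegree
    rwa [hd'] at this
  have h0 : f.coeff 0 = 1 := by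
    have := hs 0 (Nat.zero_le _)
    rw [Nat.sub_zero, htop] at this
    exact this.symm
  have h0' : f'.coeff 0 = 1 := by
    have := hs' 0 (Nat.zero_le _)
    rw [Nat.sub_zero, htop'] at this
    exact this.symm
  have key : ∀ k, k ≤ n → f.coeff k = f'.coeff k := by
    intro k hk
    rcases Nat.eq_zero_or_pos k with hk0 | hkpos
    · rw [hk0, h0, h0']
    · have := h (k - 1) (by omega)
      rwa [Nat.sub_add_cancel hkpos] at this
  ext k
  by_cases hk : k ≤ n
  · exact key k hk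
  · by_cases hk2 : k ≤ n + n
    · have e1 := hs (n + n - k) (by omega)
      have e2 := hs' (n + n - k) (by omega)
      have e3 : n + n - (n + n - k) = k := by omega
      rw [e3] at e1 e2
      rw [e1, e2]
      exact key _ (by omega)
    · rw [coeff_eq_zero_of_natDegree_lt (by omega), coeff_eq_zero_of_natDegree_lt (by omega)]

theorem charpoly_pow_card_pow [Fintype F] {ι : Type*} [Fintype ι] [DecidableEq ι]
    (M : Matrix ι ι F) (N : ℕ) : (M ^ (Fintype.card F ^ N)).charpoly = M.charpoly := by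
  induction N with
  | zero => rw [pow_zero, pow_one]
  | succ N ih => rw [pow_succ, pow_mul, FiniteField.Matrix.charpoly_pow_card, ih]

theorem exists_pprime_pow [Fintype F] (p : ℕ) [Fact p.Prime] [CharP F p]
    {G : Type*} [Group G] [Finite G] (g : G) :
    ∃ N : ℕ, (orderOf (g ^ (Fintype.card F ^ N))).Coprime p := by
  have hp := (Fact.out : p.Prime)
  have ho : orderOf g ≠ 0 := (orderOf_pos g).ne'
  refine ⟨orderOf g, ?_⟩
  have hpq : p ∣ Fintype.card F := by
    rw [← CharP.cast_eq_zero_iff F p]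
    exact FiniteField.cast_card_eq_zero F
  have h1 : p ^ (orderOf g).factorization p ∣ Fintype.card F ^ orderOf g := by
    calc p ^ (orderOf g).factorization p ∣ p ^ orderOf g :=
          pow_dvd_pow p (Nat.factorization_lt p ho).le
      _ ∣ Fintype.card F ^ orderOf g := pow_dvd_pow_of_dvd hpq _
  have h2 : orderOf (g ^ (Fintype.card F ^ orderOf g)) ∣
      orderOf g / p ^ (orderOf g).factorization p := by
    apply orderOf_dvd_of_pow_eq_one
    rw [← pow_mul]
    apply orderOf_dvd_iff_pow_eq_one.mp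
    obtain ⟨c, hc⟩ := h1
    rw [hc]
    have h3 := Nat.ordProj_mul_ordCompl_eq_self (orderOf g) p
    calc orderOf g = p ^ (orderOf g).factorization p *
          (orderOf g / p ^ (orderOf g).factorization p) := h3.symm
      _ ∣ p ^ (orderOf g).factorization p * c *
          (orderOf g / p ^ (orderOf g).factorization p) := ⟨c, by ring⟩
  have h4 : Nat.Coprime p (orderOf g / p ^ (orderOf g).factorization p) :=
    Nat.coprime_ordCompl hp ho
  exact (Nat.Coprime.coprime_dvd_right h2 h4).symm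

theorem exists_sp_of_poly [Fintype F] (p : ℕ) [Fact p.Prime] [CharP F p] (h : F[X])
    (hm : h.Monic) (hd : h.natDegree = n) :
    ∃ g : ↥(Matrix.symplecticGroup (Fin n) F), (orderOf g).Coprime p ∧
      (g : Matrix (Fin n ⊕ Fin n) (Fin n ⊕ Fin n) F).charpoly
        = TTc n n (fun k => h.coeff k) := by
  classical
  obtain ⟨D, hD⟩ := exists_matrix_charpoly h hm hd
  obtain ⟨S, hSu, hSt, hSD⟩ := similar_transpose_symm D
  obtain ⟨u, hu⟩ := hSu
  have h1 : S * (u⁻¹).val = 1 := by rw [← hu]; exact u.mul_inv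
  have h2 : (u⁻¹).val * S = 1 := by rw [← hu]; exact u.inv_mul
  have hmem := AD_mem S (u⁻¹).val D hSt h1 h2 hSD
  have hcp : (AD S (u⁻¹).val D).charpoly = TTc n n (fun k => h.coeff k) := by
    rw [charpoly_AD S (u⁻¹).val D h1, det_eq_TTc, Matrix.charpoly_transpose, hD]
  obtain ⟨g₀, hg₀⟩ : ∃ g₀ : ↥(Matrix.symplecticGroup (Fin n) F),
      (g₀ : Matrix (Fin n ⊕ Fin n) (Fin n ⊕ Fin n) F) = AD S (u⁻¹).val D := ⟨⟨_, hmem⟩, rfl⟩
  obtain ⟨N, hN⟩ := exists_pprime_pow (F := F) p g₀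
  refine ⟨g₀ ^ (Fintype.card F ^ N), hN, ?_⟩
  rw [SubmonoidClass.coe_pow, charpoly_pow_card_pow, hg₀, hcp]

theorem charpoly_eq_of_isConj_sp (g g' : ↥(Matrix.symplecticGroup (Fin n) F)) (h : IsConj g g') :
    (g : Matrix (Fin n ⊕ Fin n) (Fin n ⊕ Fin n) F).charpoly
      = (g' : Matrix (Fin n ⊕ Fin n) (Fin n ⊕ Fin n) F).charpoly := by
  obtain ⟨w, hw⟩ := isConj_iff.mp h
  have h1 : (w : Matrix (Fin n ⊕ Fin n) (Fin n ⊕ Fin n) F) *
      ((w⁻¹ : ↥(Matrix.symplecticGroup (Fin n) F)) : Matrix (Fin n ⊕ Fin n) (Fin n ⊕ Fin n) F) = 1 :=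
    congrArg Subtype.val (mul_inv_cancel w)
  have h2 : ((w⁻¹ : ↥(Matrix.symplecticGroup (Fin n) F)) :
      Matrix (Fin n ⊕ Fin n) (Fin n ⊕ Fin n) F) *
      (w : Matrix (Fin n ⊕ Fin n) (Fin n ⊕ Fin n) F) = 1 :=
    congrArg Subtype.val (inv_mul_cancel w)
  have h3 : (g' : Matrix (Fin n ⊕ Fin n) (Fin n ⊕ Fin n) F) =
      (w : Matrix (Fin n ⊕ Fin n) (Fin n ⊕ Fin n) F) * (g : Matrix _ _ F) *
      ((w⁻¹ : ↥(Matrix.symplecticGroup (Fin n) F)) : Matrix (Fin n ⊕ Fin n) (Fin n ⊕ Fin n) F) :=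
    (congrArg Subtype.val hw).symm
  obtain ⟨u, hu⟩ : ∃ u : (Matrix (Fin n ⊕ Fin n) (Fin n ⊕ Fin n) F)ˣ,
      u.val = (w : Matrix (Fin n ⊕ Fin n) (Fin n ⊕ Fin n) F) := ⟨⟨_, _, h1, h2⟩, rfl⟩
  have h5 : (w : Matrix (Fin n ⊕ Fin n) (Fin n ⊕ Fin n) F)⁻¹ =
      ((w⁻¹ : ↥(Matrix.symplecticGroup (Fin n) F)) : Matrix (Fin n ⊕ Fin n) (Fin n ⊕ Fin n) F) :=
    Matrix.inv_eq_right_inv h1
  have h4 := Matrix.charpoly_units_conj u (g : Matrix (Fin n ⊕ Fin n) (Fin n ⊕ Fin n) F)
  rw [hu, h5] at h4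
  rw [h3, h4]

end Cfsg.Agent.helper25.SpCount
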