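import Cfsg.Statements.S0752
-- import your own Cfsg.Agent.* helpers here
import Mathlib

set_option autoImplicit false
open Cfsg

namespace Cfsg.Agent.S0752

section
variable {F V : Type*} [Field F] [AddCommGroup V] [Module F V]

/-- a hyperbolic family of size `m` -/
structure Hyp (B : LinearMap.BilinForm F V) (m : ℕ) (e f : Fin m → V) : Prop where
  ef : ∀ i j, B (e i) (f j) = if i = j then 1 else 0
  ee : ∀ i j, B (e i) (e j) = 0
  ff : ∀ i j, B (f i) (f j) = 0

variable {B : LinearMap.BilinForm F V}

theorem alt_swap (hA : B.IsAlt) (x y : V) : B y x = -B x y := (hA.neg_eq x y).symm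

theorem Hyp.fe (hA : B.IsAlt) {m : ℕ} {e f : Fin m → V} (h : Hyp B m e f) (i j : Fin m) :
    B (f i) (e j) = if i = j then -1 else 0 := by
  rw [alt_swap hA, h.ef]
  by_cases hij : i = j
  · subst hij; simp
  · rw [if_neg hij, if_neg (Ne.symm hij), neg_zero]

/-- pairing a combination with `f l` -/
theorem Hyp.pair_f (hA : B.IsAlt) {m : ℕ} {e f : Fin m → V} (h : Hyp B m e f) (a b : Fin m → F)
    (z : V) (hz : ∀ l, B z (f l) = 0) (l : Fin m) :
    B (∑ i, a i • e i + ∑ i, b i • f i + z) (f l) = a l := by
  classical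
  rw [map_add, map_add, LinearMap.add_apply, LinearMap.add_apply, map_sum, map_sum,
    LinearMap.sum_apply, LinearMap.sum_apply, hz, add_zero]
  simp only [map_smul, LinearMap.smul_apply, h.ef, h.ff, smul_eq_mul, mul_zero,
    Finset.sum_const_zero, add_zero, mul_ite, mul_one]
  rw [Finset.sum_ite_eq' Finset.univ l a, if_pos (Finset.mem_univ _)]

theorem Hyp.pair_e (hA : B.IsAlt) {m : ℕ} {e f : Fin m → V} (h : Hyp B m e f) (a b : Fin m → F)
    (z : V) (hz : ∀ l, B z (e l) = 0) (l : Fin m) :
    B (∑ i, a i • e i + ∑ i, b i • f i + z) (e l) = -b l := by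
  classical
  rw [map_add, map_add, LinearMap.add_apply, LinearMap.add_apply, map_sum, map_sum,
    LinearMap.sum_apply, LinearMap.sum_apply, hz, add_zero]
  simp only [map_smul, LinearMap.smul_apply, h.ee, h.fe hA, smul_eq_mul, mul_zero,
    Finset.sum_const_zero, zero_add, mul_ite, mul_neg, mul_one]
  rw [Finset.sum_ite_eq' Finset.univ l (fun i => -b i), if_pos (Finset.mem_univ _)]

theorem Hyp.indep (hA : B.IsAlt) {m : ℕ} {e f : Fin m → V} (h : Hyp B m e f) :
    LinearIndependent F (Sum.elim e f) := by
  classical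
  rw [Fintype.linearIndependent_iff]
  intro g hg
  rw [Fintype.sum_sum_type] at hg
  simp only [Sum.elim_inl, Sum.elim_inr] at hg
  have hg' : ∑ i, g (Sum.inl i) • e i + ∑ i, g (Sum.inr i) • f i + 0 = 0 := by
    rw [add_zero]; exact hg
  have ha : ∀ l, g (Sum.inl l) = 0 := by
    intro l
    have := h.pair_f hA (fun i => g (Sum.inl i)) (fun i => g (Sum.inr i)) 0 (by simp) l
    rw [hg'] at this
    simpa using this.symm
  have hb : ∀ l, g (Sum.inr l) = 0 := by
    intro l
    have := h.pair_e hA (fun i => g (Sum.inl i)) (fun i => g (Sum.inr i)) 0 (by simp) l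
    rw [hg'] at this
    simpa using this.symm
  rintro (i | i)
  · exact ha i
  · exact hb i

theorem Hyp.card_le [FiniteDimensional F V] (hA : B.IsAlt) {m : ℕ} {e f : Fin m → V}
    (h : Hyp B m e f) : 2 * m ≤ Module.finrank F V := by
  have := (h.indep hA).fintype_card_le_finrank
  simp only [Fintype.card_sum, Fintype.card_fin] at this
  omega

/-- the projection onto the orthogonal complement of the hyperbolic family -/
noncomputable def proj (B : LinearMap.BilinForm F V) {m : ℕ} (e f : Fin m → V) (x : V) : V :=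
  x - (∑ i, B x (f i) • e i + ∑ i, (-B x (e i)) • f i + 0)

theorem Hyp.proj_f (hA : B.IsAlt) {m : ℕ} {e f : Fin m → V} (h : Hyp B m e f) (x : V) (l : Fin m) :
    B (proj B e f x) (f l) = 0 := by
  unfold proj
  rw [map_sub, LinearMap.sub_apply, h.pair_f hA _ _ 0 (by simp), sub_self]

theorem Hyp.proj_e (hA : B.IsAlt) {m : ℕ} {e f : Fin m → V} (h : Hyp B m e f) (x : V) (l : Fin m) :
    B (proj B e f x) (e l) = 0 := by
  unfold proj
  rw [map_sub, LinearMap.sub_apply, h.pair_e hA _ _ 0 (by simp), neg_neg, sub_self]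

/-- extending a hyperbolic family -/
theorem Hyp.cons (hA : B.IsAlt) {m : ℕ} {e f : Fin m → V} (h : Hyp B m e f) (u v : V)
    (huv : B u v = 1) (hue : ∀ l, B u (e l) = 0) (huf : ∀ l, B u (f l) = 0)
    (hve : ∀ l, B v (e l) = 0) (hvf : ∀ l, B v (f l) = 0) :
    Hyp B (m + 1) (Fin.cons u e : Fin (m + 1) → V) (Fin.cons v f : Fin (m + 1) → V) := by
  refine ⟨?_, ?_, ?_⟩
  · intro i j
    refine Fin.cases ?_ (fun i' => ?_) i <;> refine Fin.cases ?_ (fun j' => ?_) j
    · simp [huv]
    · simp only [Fin.cons_zero, Fin.cons_succ, huf]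
      rw [if_neg (Fin.succ_ne_zero j').symm]
    · simp only [Fin.cons_zero, Fin.cons_succ]
      rw [alt_swap hA, hve, neg_zero, if_neg (Fin.succ_ne_zero i')]
    · simp only [Fin.cons_succ, h.ef, Fin.succ_inj]
  · intro i j
    refine Fin.cases ?_ (fun i' => ?_) i <;> refine Fin.cases ?_ (fun j' => ?_) j
    · simp only [Fin.cons_zero]; exact hA u
    · simp only [Fin.cons_zero, Fin.cons_succ, hue]
    · simp only [Fin.cons_zero, Fin.cons_succ]
      rw [alt_swap hA, hue, neg_zero]
    · simp only [Fin.cons_succ, h.ee]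
  · intro i j
    refine Fin.cases ?_ (fun i' => ?_) i <;> refine Fin.cases ?_ (fun j' => ?_) j
    · simp only [Fin.cons_zero]; exact hA v
    · simp only [Fin.cons_zero, Fin.cons_succ, hvf]
    · simp only [Fin.cons_zero, Fin.cons_succ]
      rw [alt_swap hA, hvf, neg_zero]
    · simp only [Fin.cons_succ, h.ff]

end


/-- Classification of alternating forms: for an alternating bilinear form B on a finite-dimensional space over any field there is a basis indexed by (Fin m ⊕ Fin m) ⊕ Fin k such that B (e_i, f_j) = δ_ij, the e's are pairwise orthogonal, the f's are pairwise orthogonal, and the last k basis vectors are orthogonal to everything (they span the radical). -/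
theorem result {F V : Type*} [Field F] [AddCommGroup V] [Module F V] [FiniteDimensional F V] (B : LinearMap.BilinForm F V) (hA : B.IsAlt) : ∃ (m k : ℕ) (b : Module.Basis ((Fin m ⊕ Fin m) ⊕ Fin k) F V), (∀ i j : Fin m, B (b (Sum.inl (Sum.inl i))) (b (Sum.inl (Sum.inr j))) = if i = j then 1 else 0) ∧ (∀ i j : Fin m, B (b (Sum.inl (Sum.inl i))) (b (Sum.inl (Sum.inl j))) = 0) ∧ (∀ i j : Fin m, B (b (Sum.inl (Sum.inr i))) (b (Sum.inl (Sum.inr j))) = 0) ∧ (∀ (j : Fin k) (v : V), B (b (Sum.inr j)) v = 0) := by
  classical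
  -- a maximal hyperbolic family
  let P : ℕ → Prop := fun m => ∃ e f : Fin m → V, Hyp B m e f
  have hP0 : P 0 := ⟨Fin.elim0, Fin.elim0, ⟨fun i => i.elim0, fun i => i.elim0, fun i => i.elim0⟩⟩
  set m := Nat.findGreatest P (Module.finrank F V) with hm
  have hPm : P m := Nat.findGreatest_spec (Nat.zero_le _) hP0
  have hmax : ∀ m', P m' → m' ≤ m := by
    rintro m' ⟨e', f', h'⟩
    apply Nat.le_findGreatest _ ⟨e', f', h'⟩
    have := h'.card_le hA
    omega
  obtain ⟨e, f, h⟩ := hPm
  -- the orthogonal complement is in the radical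
  have hrad : ∀ x : V, (∀ l, B x (e l) = 0) → (∀ l, B x (f l) = 0) → ∀ w, B x w = 0 := by
    intro x hxe hxf w
    by_contra hne
    set w' := proj B e f w with hw'
    have hxw' : B x w' = B x w := by
      rw [hw']; unfold proj
      rw [map_sub, map_add, map_add, map_sum, map_sum, map_zero, add_zero]
      simp only [map_smul, hxe, hxf, smul_zero, Finset.sum_const_zero, add_zero, sub_zero]
    have hne' : B x w' ≠ 0 := by rw [hxw']; exact hne
    have hw'e : ∀ l, B w' (e l) = 0 := h.proj_e hA w
    have hw'f : ∀ l, B w' (f l) = 0 := h.proj_f hA w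
    set v := (B x w')⁻¹ • w' with hv
    have huv : B x v = 1 := by
      rw [hv, map_smul, smul_eq_mul, inv_mul_cancel₀ hne']
    have hve : ∀ l, B v (e l) = 0 := fun l => by
      rw [hv, map_smul, LinearMap.smul_apply, hw'e, smul_zero]
    have hvf : ∀ l, B v (f l) = 0 := fun l => by
      rw [hv, map_smul, LinearMap.smul_apply, hw'f, smul_zero]
    have hnew := h.cons hA x v huv hxe hxf hve hvf
    have := hmax (m + 1) ⟨_, _, hnew⟩
    omega
  -- the radical and its basis
  set R : Submodule F V := LinearMap.ker B with hR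
  have hRmem : ∀ x : V, x ∈ R ↔ ∀ w, B x w = 0 := by
    intro x
    rw [hR, LinearMap.mem_ker]
    constructor
    · intro hx w; rw [hx]; rfl
    · intro hx; ext w; exact hx w
  set k := Module.finrank F R with hk
  let bR : Module.Basis (Fin k) F R := Module.finBasis F R
  let r : Fin k → V := fun j => (bR j : V)
  have hr : ∀ j w, B (r j) w = 0 := fun j w => (hRmem _).mp (bR j).2 w
  let v : (Fin m ⊕ Fin m) ⊕ Fin k → V := Sum.elim (Sum.elim e f) r
  have hli : LinearIndependent F v := by
    rw [Fintype.linearIndependent_iff]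
    intro g hg
    rw [Fintype.sum_sum_type, Fintype.sum_sum_type] at hg
    simp only [v, Sum.elim_inl, Sum.elim_inr] at hg
    set z : V := ∑ j, g (Sum.inr j) • r j with hz
    have hzR : z ∈ R := by
      rw [hz]
      exact Submodule.sum_mem _ (fun j _ => Submodule.smul_mem _ _ (bR j).2)
    have hzw : ∀ w, B z w = 0 := (hRmem z).mp hzR
    have ha : ∀ l, g (Sum.inl (Sum.inl l)) = 0 := by
      intro l
      have := h.pair_f hA (fun i => g (Sum.inl (Sum.inl i))) (fun i => g (Sum.inl (Sum.inr i))) z
        (fun l => hzw _) l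
      rw [hg] at this
      simpa using this.symm
    have hb : ∀ l, g (Sum.inl (Sum.inr l)) = 0 := by
      intro l
      have := h.pair_e hA (fun i => g (Sum.inl (Sum.inl i))) (fun i => g (Sum.inl (Sum.inr i))) z
        (fun l => hzw _) l
      rw [hg] at this
      simpa using this.symm
    have hz0 : z = 0 := by
      simpa [ha, hb] using hg
    have hc : ∀ j, g (Sum.inr j) = 0 := by
      have hli' := bR.linearIndependent
      rw [Fintype.linearIndependent_iff] at hli'
      apply hli' (fun j => g (Sum.inr j))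
      apply Subtype.ext
      rw [Submodule.coe_sum]
      simp only [Submodule.coe_smul, Submodule.coe_zero]
      exact hz0
    rintro ((i | i) | j)
    · exact ha i
    · exact hb i
    · exact hc j
  have hsp : ⊤ ≤ Submodule.span F (Set.range v) := by
    intro x _
    have hx' : proj B e f x ∈ R := by
      rw [hRmem]
      exact hrad _ (h.proj_e hA x) (h.proj_f hA x)
    have hxdecomp : x = (∑ i, B x (f i) • e i + ∑ i, (-B x (e i)) • f i + 0) + proj B e f x := by
      unfold proj; abel
    rw [hxdecomp]
    apply Submodule.add_mem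
    · apply Submodule.add_mem
      · apply Submodule.add_mem
        · apply Submodule.sum_mem
          intro i _
          apply Submodule.smul_mem
          exact Submodule.subset_span ⟨Sum.inl (Sum.inl i), rfl⟩
        · apply Submodule.sum_mem
          intro i _
          apply Submodule.smul_mem
          exact Submodule.subset_span ⟨Sum.inl (Sum.inr i), rfl⟩
      · exact Submodule.zero_mem _
    · -- element of R is in the span of r
      have hmem : (⟨proj B e f x, hx'⟩ : R) ∈ Submodule.span F (Set.range bR) := by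
        rw [bR.span_eq]; trivial
      have := Submodule.apply_coe_mem_map R.subtype ⟨_, hmem⟩
      rw [Submodule.map_span] at this
      refine Submodule.span_mono ?_ this
      rintro _ ⟨_, ⟨j, rfl⟩, rfl⟩
      exact ⟨Sum.inr j, rfl⟩
  refine ⟨m, k, Module.Basis.mk hli hsp, ?_, ?_, ?_, ?_⟩
  · intro i j
    rw [Module.Basis.mk_apply, Module.Basis.mk_apply]
    exact h.ef i j
  · intro i j
    rw [Module.Basis.mk_apply, Module.Basis.mk_apply]
    exact h.ee i j
  · intro i j
    rw [Module.Basis.mk_apply, Module.Basis.mk_apply]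
    exact h.ff i j
  · intro j w
    rw [Module.Basis.mk_apply]
    exact hr j w

end Cfsg.Agent.S0752
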