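import Mathlib
import Cfsg.Agent.S0752

/-! Symplectic adjoint of matrices, equivalence of nondegenerate alternating forms, and the
construction of a "square root" of a self-adjoint element on the image of a self-adjoint idempotent. -/

set_option autoImplicit false

namespace Cfsg.Agent.helper13

open Matrix Module

section altequiv
variable {F W : Type*} [Field F] [AddCommGroup W] [Module F W] [FiniteDimensional F W]

theorem spconj_basis (β : LinearMap.BilinForm F W) (hA : β.IsAlt)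
    (hN : ∀ x, (∀ y, β x y = 0) → x = 0) :
    ∃ (m : ℕ) (b : Basis (Fin m ⊕ Fin m) F W),
      (∀ i j : Fin m, β (b (Sum.inl i)) (b (Sum.inr j)) = if i = j then 1 else 0) ∧
      (∀ i j : Fin m, β (b (Sum.inl i)) (b (Sum.inl j)) = 0) ∧
      (∀ i j : Fin m, β (b (Sum.inr i)) (b (Sum.inr j)) = 0) := by
  obtain ⟨m, k, b, h1, h2, h3, h4⟩ := Cfsg.Agent.S0752.result β hA
  have hk : k = 0 := by
    by_contra hk
    have hpos : 0 < k := Nat.pos_of_ne_zero hk
    have h0 := hN (b (Sum.inr ⟨0, hpos⟩)) (fun y => h4 ⟨0, hpos⟩ y)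
    exact b.ne_zero _ h0
  subst hk
  obtain ⟨e, he⟩ : ∃ e : (Fin m ⊕ Fin m) ⊕ Fin 0 ≃ Fin m ⊕ Fin m,
      ∀ a, e.symm a = Sum.inl a := ⟨Equiv.sumEmpty _ _, fun _ => rfl⟩
  refine ⟨m, b.reindex e, ?_, ?_, ?_⟩
  · intro i j
    rw [Basis.reindex_apply, Basis.reindex_apply, he, he]
    exact h1 i j
  · intro i j
    rw [Basis.reindex_apply, Basis.reindex_apply, he, he]
    exact h2 i j
  · intro i j
    rw [Basis.reindex_apply, Basis.reindex_apply, he, he]
    exact h3 i j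

theorem spconj_alt_equiv (β β' : LinearMap.BilinForm F W) (hA : β.IsAlt) (hA' : β'.IsAlt)
    (hN : ∀ x, (∀ y, β x y = 0) → x = 0) (hN' : ∀ x, (∀ y, β' x y = 0) → x = 0) :
    ∃ φ : W ≃ₗ[F] W, ∀ u v, β (φ u) (φ v) = β' u v := by
  obtain ⟨m, b, h1, h2, h3⟩ := spconj_basis β hA hN
  obtain ⟨m', b', h1', h2', h3'⟩ := spconj_basis β' hA' hN'
  have hm : m = m' := by
    have e1 := Module.finrank_eq_card_basis b
    have e2 := Module.finrank_eq_card_basis b'
    rw [Fintype.card_sum, Fintype.card_fin] at e1 e2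
    omega
  subst hm
  refine ⟨b'.equiv b (Equiv.refl _), ?_⟩
  have key : β.comp (b'.equiv b (Equiv.refl _)).toLinearMap
      (b'.equiv b (Equiv.refl _)).toLinearMap = β' := by
    apply LinearMap.BilinForm.ext_basis b'
    intro i j
    simp only [LinearMap.BilinForm.comp_apply, LinearEquiv.coe_coe, Basis.equiv_apply,
      Equiv.refl_apply]
    rcases i with i | i <;> rcases j with j | j
    · rw [h2, h2']
    · rw [h1, h1']
    · rw [← hA.neg_eq (b (Sum.inl j)) (b (Sum.inr i)),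
        ← hA'.neg_eq (b' (Sum.inl j)) (b' (Sum.inr i)), h1, h1']
    · rw [h3, h3']
  intro u v
  rw [← key, LinearMap.BilinForm.comp_apply]
  rfl

end altequiv

section dagger
variable {F : Type*} [Field F] {m : ℕ}

local notation "MM" => Matrix (Fin m ⊕ Fin m) (Fin m ⊕ Fin m) F
local notation "JJ" => Matrix.J (Fin m) F

/-- the adjoint with respect to the standard symplectic form -/
def spDag (M : MM) : MM := -JJ * Mᵀ * JJ

theorem spconj_JJ : JJ * JJ = -1 := Matrix.J_squared (Fin m) F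

theorem spconj_negJJ : -JJ * JJ = 1 := by
  rw [Matrix.neg_mul, spconj_JJ, neg_neg]

theorem spconj_JJneg : JJ * -JJ = 1 := by
  rw [Matrix.mul_neg, spconj_JJ, neg_neg]

theorem spDag_mul (M N : MM) : spDag (M * N) = spDag N * spDag M := by
  unfold spDag
  have h : -JJ * Nᵀ * JJ * (-JJ * Mᵀ * JJ) = -JJ * Nᵀ * (JJ * -JJ) * Mᵀ * JJ := by
    simp only [Matrix.mul_assoc]
  rw [h, spconj_JJneg, Matrix.mul_one, Matrix.transpose_mul]
  simp only [Matrix.mul_assoc]

theorem spDag_add (M N : MM) : spDag (M + N) = spDag M + spDag N := by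
  unfold spDag
  rw [Matrix.transpose_add, Matrix.mul_add, Matrix.add_mul]

theorem spDag_zero : spDag (0 : MM) = 0 := by
  unfold spDag
  rw [Matrix.transpose_zero, Matrix.mul_zero, Matrix.zero_mul]

theorem spDag_one : spDag (1 : MM) = 1 := by
  unfold spDag
  rw [Matrix.transpose_one, Matrix.mul_one, spconj_negJJ]

theorem spDag_smul (c : F) (M : MM) : spDag (c • M) = c • spDag M := by
  unfold spDag
  rw [Matrix.transpose_smul, Matrix.mul_smul, Matrix.smul_mul]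

theorem spDag_algebraMap (c : F) : spDag (algebraMap F MM c) = algebraMap F MM c := by
  rw [Algebra.algebraMap_eq_smul_one, spDag_smul, spDag_one]

theorem spDag_spDag (M : MM) : spDag (spDag M) = M := by
  unfold spDag
  rw [Matrix.transpose_mul, Matrix.transpose_mul, Matrix.transpose_transpose,
    Matrix.transpose_neg, Matrix.J_transpose]
  have h : -JJ * (-JJ * (M * - -JJ)) * JJ = (-JJ * -JJ) * M * (- -JJ * JJ) := by
    simp only [Matrix.mul_assoc]
  rw [h, neg_neg, neg_mul_neg, spconj_JJ]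
  simp

theorem spDag_pow (M : MM) (k : ℕ) : spDag (M ^ k) = spDag M ^ k := by
  induction k with
  | zero => rw [pow_zero, pow_zero, spDag_one]
  | succ k ih => rw [pow_succ, spDag_mul, ih, pow_succ']

/-- the adjoint identity -/
theorem spDag_adj (M : MM) (u v : Fin m ⊕ Fin m → F) :
    (M *ᵥ u) ⬝ᵥ (JJ *ᵥ v) = u ⬝ᵥ (JJ *ᵥ (spDag M *ᵥ v)) := by
  unfold spDag
  rw [Matrix.mulVec_mulVec, ← Matrix.mul_assoc, ← Matrix.mul_assoc, spconj_JJneg, Matrix.one_mul,
    ← Matrix.mulVec_mulVec]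
  conv_rhs => rw [Matrix.dotProduct_mulVec, Matrix.vecMul_transpose]

theorem spconj_alt (u : Fin m ⊕ Fin m → F) : u ⬝ᵥ (JJ *ᵥ u) = 0 := by
  unfold Matrix.J
  rw [Matrix.fromBlocks_mulVec]
  simp only [dotProduct, Fintype.sum_sum_type, Sum.elim_inl, Sum.elim_inr, Matrix.zero_mulVec,
    Matrix.neg_mulVec, Matrix.one_mulVec, zero_add, add_zero, Pi.neg_apply, Function.comp_apply]
  rw [← Finset.sum_add_distrib]
  apply Finset.sum_eq_zero
  intro i _
  ring

theorem spconj_nondeg (N : MM) (h : ∀ u v : Fin m ⊕ Fin m → F, u ⬝ᵥ (JJ *ᵥ (N *ᵥ v)) = 0) :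
    N = 0 := by
  have h1 : ∀ v : Fin m ⊕ Fin m → F, (JJ * N) *ᵥ v = 0 := by
    intro v
    rw [← Matrix.mulVec_mulVec]
    apply dotProduct_eq_zero
    intro w
    rw [dotProduct_comm]
    exact h w v
  have h2 : JJ * N = 0 := by
    apply Matrix.toLin'.injective
    apply LinearMap.ext
    intro v
    rw [Matrix.toLin'_apply, h1, map_zero, LinearMap.zero_apply]
  have h3 : -JJ * (JJ * N) = N := by
    rw [← Matrix.mul_assoc, spconj_negJJ, Matrix.one_mul]
  rw [← h3, h2, Matrix.mul_zero]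

theorem spconj_mem_iff (M : MM) : M ∈ Matrix.symplecticGroup (Fin m) F ↔ spDag M * M = 1 := by
  rw [SymplecticGroup.mem_iff']
  unfold spDag
  constructor
  · intro h
    rw [Matrix.mul_assoc, Matrix.mul_assoc, ← Matrix.mul_assoc Mᵀ, h, spconj_negJJ]
  · intro h
    have h2 : JJ * (-JJ * Mᵀ * JJ * M) = (JJ * -JJ) * (Mᵀ * JJ * M) := by
      simp only [Matrix.mul_assoc]
    rw [spconj_JJneg, Matrix.one_mul] at h2
    rw [← h2, h, Matrix.mul_one]

/-- Square root on the image of a self-adjoint idempotent. -/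
theorem spconj_proj (G s x : MM) (hGG : G * G = G) (hGd : spDag G = G) (hs : s = spDag x * x)
    (hsG : s * G = G * s) (hsdet : s.det ≠ 0) :
    ∃ C : MM, G * C = C ∧ C * G = C ∧ spDag C * C = G * s := by
  classical
  have hsd : spDag s = s := by
    rw [hs, spDag_mul, spDag_spDag]
  obtain ⟨W, hW⟩ : ∃ W : Submodule F (Fin m ⊕ Fin m → F), W = LinearMap.range (Matrix.toLin' G) :=
    ⟨_, rfl⟩
  have hmemW : ∀ v, v ∈ W ↔ G *ᵥ v = v := by
    intro v
    rw [hW, LinearMap.mem_range]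
    constructor
    · rintro ⟨w, rfl⟩
      rw [Matrix.toLin'_apply, Matrix.mulVec_mulVec, hGG]
    · intro h
      exact ⟨v, by rw [Matrix.toLin'_apply, h]⟩
  have hGmem : ∀ v, G *ᵥ v ∈ W := by
    intro v
    rw [hmemW, Matrix.mulVec_mulVec, hGG]
  obtain ⟨β, hβ⟩ : ∃ β : LinearMap.BilinForm F W, β = (Matrix.toBilin' JJ).restrict W := ⟨_, rfl⟩
  obtain ⟨β', hβ'⟩ : ∃ β' : LinearMap.BilinForm F W,
      β' = (Matrix.toBilin' (sᵀ * JJ)).restrict W := ⟨_, rfl⟩
  have hβapp : ∀ u v : W, β u v = (u : Fin m ⊕ Fin m → F) ⬝ᵥ (JJ *ᵥ (v : Fin m ⊕ Fin m → F)) := by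
    intro u v
    rw [hβ]
    show Matrix.toBilin' JJ (u : Fin m ⊕ Fin m → F) (v : Fin m ⊕ Fin m → F) = _
    rw [Matrix.toBilin'_apply']
  have hβ'app : ∀ u v : W, β' u v =
      (s *ᵥ (u : Fin m ⊕ Fin m → F)) ⬝ᵥ (JJ *ᵥ (v : Fin m ⊕ Fin m → F)) := by
    intro u v
    rw [hβ']
    show Matrix.toBilin' (sᵀ * JJ) (u : Fin m ⊕ Fin m → F) (v : Fin m ⊕ Fin m → F) = _
    rw [Matrix.toBilin'_apply', ← Matrix.mulVec_mulVec, Matrix.dotProduct_mulVec,
      Matrix.vecMul_transpose]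
  have hA : β.IsAlt := by
    intro u
    rw [hβapp]
    exact spconj_alt _
  have hA' : β'.IsAlt := by
    intro u
    rw [hβ'app, hs, ← Matrix.mulVec_mulVec, spDag_adj, spDag_spDag]
    exact spconj_alt _
  have hnd : ∀ w : Fin m ⊕ Fin m → F, (∀ v, w ⬝ᵥ (JJ *ᵥ v) = 0) → w = 0 := by
    intro w hw
    have h1 : ∀ v, v ⬝ᵥ (JJ *ᵥ w) = 0 := by
      intro v
      have h2 := hw v
      rw [Matrix.dotProduct_mulVec, ← Matrix.mulVec_transpose, Matrix.J_transpose,
        Matrix.neg_mulVec, neg_dotProduct, neg_eq_zero, dotProduct_comm] at h2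
      exact h2
    have h3 : JJ *ᵥ w = 0 := by
      apply dotProduct_eq_zero
      intro v
      rw [dotProduct_comm]
      exact h1 v
    have h4 : -JJ *ᵥ (JJ *ᵥ w) = w := by
      rw [Matrix.mulVec_mulVec, spconj_negJJ, Matrix.one_mulVec]
    rw [← h4, h3, Matrix.mulVec_zero]
  have hN : ∀ u : W, (∀ v : W, β u v = 0) → u = 0 := by
    intro u hu
    apply Subtype.ext
    apply hnd
    intro v
    have h1 := hu ⟨G *ᵥ v, hGmem v⟩
    rw [hβapp] at h1
    have h2 : G *ᵥ (u : Fin m ⊕ Fin m → F) = u := (hmemW _).mp u.2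
    rw [← h2, spDag_adj, hGd]
    exact h1
  have hsW : ∀ v, v ∈ W → s *ᵥ v ∈ W := by
    intro v hv
    rw [hmemW] at hv ⊢
    rw [Matrix.mulVec_mulVec, ← hsG, ← Matrix.mulVec_mulVec, hv]
  have hsinj : ∀ v : Fin m ⊕ Fin m → F, s *ᵥ v = 0 → v = 0 := by
    intro v hv
    have h1 : s⁻¹ *ᵥ (s *ᵥ v) = v := by
      rw [Matrix.mulVec_mulVec, Matrix.nonsing_inv_mul _ (Ne.isUnit hsdet), Matrix.one_mulVec]
    rw [← h1, hv, Matrix.mulVec_zero]
  have hN' : ∀ u : W, (∀ v : W, β' u v = 0) → u = 0 := by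
    intro u hu
    apply Subtype.ext
    apply hsinj
    have h0 := hN ⟨s *ᵥ (u : Fin m ⊕ Fin m → F), hsW _ u.2⟩ (by
      intro v
      rw [hβapp]
      have := hu v
      rw [hβ'app] at this
      exact this)
    exact congrArg Subtype.val h0
  obtain ⟨φ, hφ⟩ := spconj_alt_equiv β β' hA hA' hN hN'
  obtain ⟨Cl, hCl⟩ : ∃ Cl : (Fin m ⊕ Fin m → F) →ₗ[F] (Fin m ⊕ Fin m → F),
      Cl = W.subtype ∘ₗ φ.toLinearMap ∘ₗ
        (LinearMap.codRestrict W (Matrix.toLin' G) (fun v => by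
          rw [Matrix.toLin'_apply]; exact hGmem v)) := ⟨_, rfl⟩
  have hClapp : ∀ v, Cl v = (φ ⟨G *ᵥ v, hGmem v⟩ : W) := by
    intro v
    rw [hCl]
    rfl
  obtain ⟨C, hC⟩ : ∃ C : MM, C = LinearMap.toMatrix' Cl := ⟨_, rfl⟩
  have hCapp : ∀ v, C *ᵥ v = (φ ⟨G *ᵥ v, hGmem v⟩ : W) := by
    intro v
    rw [hC, LinearMap.toMatrix'_mulVec, hClapp]
  have hmat : ∀ X Y : MM, (∀ v, X *ᵥ v = Y *ᵥ v) → X = Y := by
    intro X Y h
    apply Matrix.toLin'.injective
    apply LinearMap.ext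
    intro v
    rw [Matrix.toLin'_apply, Matrix.toLin'_apply, h]
  refine ⟨C, ?_, ?_, ?_⟩
  · apply hmat
    intro v
    rw [← Matrix.mulVec_mulVec, hCapp]
    exact (hmemW _).mp (φ ⟨G *ᵥ v, hGmem v⟩).2
  · apply hmat
    intro v
    rw [← Matrix.mulVec_mulVec, hCapp, hCapp]
    congr 2
    apply Subtype.ext
    show G *ᵥ (G *ᵥ v) = G *ᵥ v
    rw [Matrix.mulVec_mulVec, hGG]
  · have hsub : spDag C * C - G * s = 0 := by
      apply spconj_nondeg
      intro u v
      rw [Matrix.sub_mulVec, Matrix.mulVec_sub, dotProduct_sub, sub_eq_zero,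
        ← Matrix.mulVec_mulVec, ← spDag_adj, hCapp, hCapp, ← hβapp, hφ, hβ'app]
      show (s *ᵥ (G *ᵥ u)) ⬝ᵥ (JJ *ᵥ (G *ᵥ v)) = u ⬝ᵥ (JJ *ᵥ ((G * s) *ᵥ v))
      have h1 : G * s = spDag (s * G) * G := by
        rw [spDag_mul, hsd, hGd, Matrix.mul_assoc, hsG, ← Matrix.mul_assoc, hGG]
      rw [h1, ← Matrix.mulVec_mulVec, ← spDag_adj, Matrix.mulVec_mulVec]
    exact sub_eq_zero.mp hsub

end dagger

end Cfsg.Agent.helper13
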