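import Mathlib
import Cfsg.Agent.Lib_helper14_NormSurj

/-! The ring-theoretic part of the conjugacy argument: in a finite commutative ring with involution
`σ`, `σ a = a⁻¹`, in which polynomials in `a` are never nilpotent, the unit `1` splits into
`σ`-fixed orthogonal idempotents `e + g₊ + g₋` with `a = 1` on `g₊`, `a = -1` on `g₋`, and every
`σ`-fixed unit is a norm on the part `e`. Also: polynomials in a matrix of order prime to the
characteristic are never nilpotent. -/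

set_option autoImplicit false

namespace Cfsg.Agent.helper13

open Polynomial

section ringpart
variable {F R : Type*} [Field F] [CommRing R] [Finite R] [Algebra F R]

theorem spconj_idem_unique (e e' u v : R) (h1 : e' = u * e) (h2 : e = v * e') (he : e * e = e)
    (he' : e' * e' = e') : e' = e := by
  have h3 : e' * e = e' := by
    rw [h1, mul_assoc, he]
  have h4 : e * e' = e := by
    rw [h2, mul_assoc, he']
  rw [← h3, mul_comm, h4]

theorem spconj_ring (σ : R →+* R) (hσ : ∀ x, σ (σ x) = x) (a a' t : R) (haa' : a * a' = 1)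
    (hσa : σ a = a') (ht : IsUnit t) (hσt : σ t = t)
    (hred : ∀ (q : F[X]) (k : ℕ), (aeval a q) ^ k = 0 → aeval a q = 0) :
    ∃ e gp gm c : R, e + gp + gm = 1 ∧ e * gp = 0 ∧ e * gm = 0 ∧ gp * gm = 0 ∧
      e * e = e ∧ gp * gp = gp ∧ gm * gm = gm ∧
      σ e = e ∧ σ gp = gp ∧ σ gm = gm ∧ a * gp = gp ∧ a * gm = -gm ∧
      c * σ c = e * t ∧ e * c = c := by
  classical
  obtain ⟨k₁, hk₁, he₁⟩ := Cfsg.Agent.helper14.NormSurj.exists_idem_pow (a - 1)
  obtain ⟨k₂, hk₂, he₂⟩ := Cfsg.Agent.helper14.NormSurj.exists_idem_pow (a + 1)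
  obtain ⟨e₁, he₁def⟩ : ∃ e₁ : R, e₁ = (a - 1) ^ k₁ := ⟨_, rfl⟩
  obtain ⟨e₂, he₂def⟩ : ∃ e₂ : R, e₂ = (a + 1) ^ k₂ := ⟨_, rfl⟩
  rw [← he₁def] at he₁
  rw [← he₂def] at he₂
  have he₁0 : e₁ * (1 - e₁) = 0 := by rw [mul_sub, mul_one, he₁, sub_self]
  have he₂0 : e₂ * (1 - e₂) = 0 := by rw [mul_sub, mul_one, he₂, sub_self]
  have hz₁ : (a - 1) * (1 - e₁) = 0 := by
    have h1 : (a - 1) * (1 - e₁) = aeval a ((X - 1) * (1 - (X - 1) ^ k₁) : F[X]) := by
      rw [he₁def]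
      simp
    rw [h1]
    apply hred _ k₁
    rw [← h1, mul_pow, ← he₁def]
    obtain ⟨j, hj⟩ : ∃ j, k₁ = j + 1 := ⟨k₁ - 1, by omega⟩
    rw [hj, pow_succ', ← mul_assoc, he₁0, zero_mul]
  have hz₂ : (a + 1) * (1 - e₂) = 0 := by
    have h1 : (a + 1) * (1 - e₂) = aeval a ((X + 1) * (1 - (X + 1) ^ k₂) : F[X]) := by
      rw [he₂def]
      simp
    rw [h1]
    apply hred _ k₂
    rw [← h1, mul_pow, ← he₂def]
    obtain ⟨j, hj⟩ : ∃ j, k₂ = j + 1 := ⟨k₂ - 1, by omega⟩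
    rw [hj, pow_succ', ← mul_assoc, he₂0, zero_mul]
  obtain ⟨w₁, hw₁⟩ : ∃ w₁, (a - 1) * w₁ = e₁ := by
    refine ⟨(a - 1) ^ (k₁ - 1), ?_⟩
    rw [he₁def, ← pow_succ']
    congr 1
    omega
  obtain ⟨w₂, hw₂⟩ : ∃ w₂, (a + 1) * w₂ = e₂ := by
    refine ⟨(a + 1) ^ (k₂ - 1), ?_⟩
    rw [he₂def, ← pow_succ']
    congr 1
    omega
  have ha'a : a' * a = 1 := by rw [mul_comm]; exact haa'
  have hσa' : σ a' = a := by rw [← hσa, hσ]
  have hσe₁ : σ e₁ = e₁ := by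
    apply spconj_idem_unique e₁ (σ e₁) ((-a') ^ k₁) ((-a) ^ k₁)
    · rw [he₁def, map_pow, map_sub, map_one, hσa, ← mul_pow]
      congr 1
      linear_combination (1 : R) * ha'a
    · have h1 : σ e₁ = (-a') ^ k₁ * e₁ := by
        rw [he₁def, map_pow, map_sub, map_one, hσa, ← mul_pow]
        congr 1
        linear_combination (1 : R) * ha'a
      rw [h1, ← mul_assoc, ← mul_pow]
      have h2 : -a * -a' = 1 := by rw [neg_mul_neg]; exact haa'
      rw [h2, one_pow, one_mul]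
    · exact he₁
    · rw [← map_mul, he₁]
  have hσe₂ : σ e₂ = e₂ := by
    apply spconj_idem_unique e₂ (σ e₂) (a' ^ k₂) (a ^ k₂)
    · rw [he₂def, map_pow, map_add, map_one, hσa, ← mul_pow]
      congr 1
      linear_combination (-1 : R) * ha'a
    · have h1 : σ e₂ = a' ^ k₂ * e₂ := by
        rw [he₂def, map_pow, map_add, map_one, hσa, ← mul_pow]
        congr 1
        linear_combination (-1 : R) * ha'a
      rw [h1, ← mul_assoc, ← mul_pow, haa', one_pow, one_mul]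
    · exact he₂
    · rw [← map_mul, he₂]
  obtain ⟨e, hedef⟩ : ∃ e : R, e = e₁ * e₂ := ⟨_, rfl⟩
  obtain ⟨gp, hgp⟩ : ∃ gp : R, gp = 1 - e₁ := ⟨_, rfl⟩
  obtain ⟨gm, hgm⟩ : ∃ gm : R, gm = (1 - e₂) * e₁ := ⟨_, rfl⟩
  have hee : e * e = e := by
    rw [hedef]
    linear_combination (e₂ * e₂) * he₁ + e₁ * he₂
  have hσe : σ e = e := by rw [hedef, map_mul, hσe₁, hσe₂]
  obtain ⟨W, hPW⟩ : ∃ W : R, (a - a') * W = e := by
    refine ⟨a * w₁ * w₂, ?_⟩
    rw [hedef]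
    linear_combination ((a + 1) * w₂) * hw₁ + e₁ * hw₂ - (w₁ * w₂) * haa'
  -- the quotient ring
  obtain ⟨f, hf⟩ : ∃ f : R, f = 1 - e := ⟨_, rfl⟩
  have hσf : σ f = f := by rw [hf, map_sub, map_one, hσe]
  have hef : e * f = 0 := by rw [hf, mul_sub, mul_one, hee, sub_self]
  obtain ⟨I, hIdef⟩ : ∃ I : Ideal R, I = Ideal.span {f} := ⟨_, rfl⟩
  have hfI : f ∈ I := by
    rw [hIdef]
    exact Ideal.mem_span_singleton_self f
  have hI : I ≤ I.comap σ := by
    rw [hIdef, Ideal.span_le]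
    intro y hy
    rw [Set.mem_singleton_iff] at hy
    rw [hy, SetLike.mem_coe, Ideal.mem_comap, hσf]
    exact Ideal.mem_span_singleton_self f
  obtain ⟨σ₁, hσ₁def⟩ : ∃ σ₁ : R ⧸ I →+* R ⧸ I, σ₁ = Ideal.quotientMap I σ hI := ⟨_, rfl⟩
  have hσ₁mk : ∀ r, σ₁ (Ideal.Quotient.mk I r) = Ideal.Quotient.mk I (σ r) := by
    intro r
    rw [hσ₁def, Ideal.quotientMap_mk]
  have hσ₁ : ∀ y, σ₁ (σ₁ y) = y := by
    intro y
    obtain ⟨r, rfl⟩ := Ideal.Quotient.mk_surjective y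
    rw [hσ₁mk, hσ₁mk, hσ]
  haveI : Finite (R ⧸ I) := Finite.of_surjective _ Ideal.Quotient.mk_surjective
  have hmkf : Ideal.Quotient.mk I f = 0 := Ideal.Quotient.eq_zero_iff_mem.mpr hfI
  have hmke : Ideal.Quotient.mk I e = 1 := by
    have h1 : e = 1 - f := by rw [hf]; ring
    rw [h1, map_sub, map_one, hmkf, sub_zero]
  have hθ : IsUnit (Ideal.Quotient.mk I a - σ₁ (Ideal.Quotient.mk I a)) := by
    rw [hσ₁mk, hσa, ← map_sub]
    refine IsUnit.of_mul_eq_one (Ideal.Quotient.mk I W) ?_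
    rw [← map_mul, hPW, hmke]
  have ht₁ : IsUnit (Ideal.Quotient.mk I t) := ht.map _
  have hσt₁ : σ₁ (Ideal.Quotient.mk I t) = Ideal.Quotient.mk I t := by rw [hσ₁mk, hσt]
  obtain ⟨c₀', hc₀'⟩ := Cfsg.Agent.helper14.NormSurj.norm_surj σ₁ hσ₁ (Ideal.Quotient.mk I a) hθ
    (Ideal.Quotient.mk I t) ht₁ hσt₁
  obtain ⟨c₀, rfl⟩ := Ideal.Quotient.mk_surjective c₀'
  rw [hσ₁mk, ← map_mul, ← sub_eq_zero, ← map_sub, Ideal.Quotient.eq_zero_iff_mem, hIdef,
    Ideal.mem_span_singleton'] at hc₀'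
  obtain ⟨r, hr⟩ := hc₀'
  refine ⟨e, gp, gm, e * c₀, ?_, ?_, ?_, ?_, hee, ?_, ?_, hσe, ?_, ?_, ?_, ?_, ?_, ?_⟩
  · rw [hedef, hgp, hgm]
    ring
  · rw [hedef, hgp]
    linear_combination (-e₂) * he₁
  · rw [hedef, hgm]
    linear_combination (-(e₁ * e₁)) * he₂
  · rw [hgp, hgm]
    linear_combination (-(1 - e₂)) * he₁
  · rw [hgp]
    linear_combination he₁
  · rw [hgm]
    linear_combination ((1 - e₂) * (1 - e₂)) * he₁ + e₁ * he₂
  · rw [hgp, map_sub, map_one, hσe₁]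
  · rw [hgm, map_mul, map_sub, map_one, hσe₁, hσe₂]
  · rw [hgp]
    linear_combination hz₁
  · rw [hgm]
    linear_combination e₁ * hz₂
  · rw [map_mul, hσe]
    linear_combination (c₀ * σ c₀) * hee - e * hr + r * hef
  · rw [← mul_assoc, hee]

end ringpart

section reduced
variable {F : Type*} [Field F] {n : Type*} [Fintype n] [DecidableEq n]

theorem spconj_reduced (A : Matrix n n F) (N : ℕ) (hN : A ^ N = 1) (hNF : (N : F) ≠ 0)
    (q : F[X]) (k : ℕ) (h : (aeval A q) ^ k = 0) : aeval A q = 0 := by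
  rcases Nat.eq_zero_or_pos k with hk | hk
  · rw [hk, pow_zero] at h
    exact eq_zero_of_zero_eq_one h.symm _
  have hsep : (X ^ N - C (1 : F) : F[X]).Separable :=
    Polynomial.separable_X_pow_sub_C 1 hNF one_ne_zero
  have hdvd : minpoly F A ∣ X ^ N - C (1 : F) := by
    apply minpoly.dvd
    rw [map_sub, map_pow, aeval_X, aeval_C, map_one, hN, sub_self]
  have hsq : Squarefree (minpoly F A) := hsep.squarefree.squarefree_of_dvd hdvd
  have h1 : minpoly F A ∣ q ^ k := by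
    apply minpoly.dvd
    rw [map_pow]
    exact h
  have h2 : minpoly F A ∣ q :=
    (hsq.dvd_pow_iff_dvd hk.ne').mp h1
  obtain ⟨r, rfl⟩ := h2
  rw [map_mul, minpoly.aeval, zero_mul]

end reduced

end Cfsg.Agent.helper13
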