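import Mathlib
import Cfsg.Agent.Lib_helper13_SpConjA
import Cfsg.Agent.Lib_helper13_SpConjB

/-! Matrices of order prime to the characteristic that preserve the standard symplectic form and are
conjugate under an invertible matrix are conjugate under a matrix preserving the form. -/

set_option autoImplicit false

namespace Cfsg.Agent.helper13

open Matrix Polynomial

theorem spconj_orth {R : Type*} [Ring R] (a b e g : R) (ha : a = a * e) (hb : g * b = b)
    (heg : e * g = 0) : a * b = 0 := by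
  calc a * b = (a * e) * (g * b) := by rw [← ha, hb]
    _ = a * (e * g) * b := by simp only [mul_assoc]
    _ = 0 := by rw [heg, mul_zero, zero_mul]

section main
variable {F : Type*} [Field F] {m : ℕ}

local notation "MM" => Matrix (Fin m ⊕ Fin m) (Fin m ⊕ Fin m) F

theorem spconj_assemble (A B x s E Gp Gm C1 Cp Cm : MM)
    (hs : s = spDag x * x) (hsu : IsUnit s) (hxA : x * A = B * x)
    (hsum : E + Gp + Gm = 1)
    (hEGp : E * Gp = 0) (hEGm : E * Gm = 0) (hGpE : Gp * E = 0) (hGmE : Gm * E = 0)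
    (hGpGm : Gp * Gm = 0) (hGmGp : Gm * Gp = 0)
    (hdE : spDag E = E) (hdGp : spDag Gp = Gp) (hdGm : spDag Gm = Gm)
    (hAGp : A * Gp = Gp) (hGpA : Gp * A = Gp) (hAGm : A * Gm = -Gm) (hGmA : Gm * A = -Gm)
    (hC1A : C1 * A = A * C1)
    (hC1 : spDag C1 * C1 = E * s) (hEC1 : E * C1 = C1)
    (hCp : spDag Cp * Cp = Gp * s) (hGpCp : Gp * Cp = Cp) (hCpGp : Cp * Gp = Cp)
    (hCm : spDag Cm * Cm = Gm * s) (hGmCm : Gm * Cm = Cm) (hCmGm : Cm * Gm = Cm) :
    ∃ y : MM, spDag y * y = 1 ∧ y * A = B * y := by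
  obtain ⟨c, hc⟩ : ∃ c : MM, c = C1 + Cp + Cm := ⟨_, rfl⟩
  have hdC1 : spDag C1 = spDag C1 * E := by
    conv_lhs => rw [← hEC1, spDag_mul, hdE]
  have hdCp : spDag Cp = spDag Cp * Gp := by
    conv_lhs => rw [← hGpCp, spDag_mul, hdGp]
  have hdCm : spDag Cm = spDag Cm * Gm := by
    conv_lhs => rw [← hGmCm, spDag_mul, hdGm]
  have x1 : spDag C1 * Cp = 0 := spconj_orth _ _ E Gp hdC1 hGpCp hEGp
  have x2 : spDag C1 * Cm = 0 := spconj_orth _ _ E Gm hdC1 hGmCm hEGm
  have x3 : spDag Cp * C1 = 0 := spconj_orth _ _ Gp E hdCp hEC1 hGpE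
  have x4 : spDag Cp * Cm = 0 := spconj_orth _ _ Gp Gm hdCp hGmCm hGpGm
  have x5 : spDag Cm * C1 = 0 := spconj_orth _ _ Gm E hdCm hEC1 hGmE
  have x6 : spDag Cm * Cp = 0 := spconj_orth _ _ Gm Gp hdCm hGpCp hGmGp
  have hsum' : E * s + Gp * s + Gm * s = s := by rw [← add_mul, ← add_mul, hsum, one_mul]
  have hcc : spDag c * c = s := by
    calc spDag c * c = E * s + Gp * s + Gm * s := by
          rw [hc, spDag_add, spDag_add]
          simp only [add_mul, mul_add, x1, x2, x3, x4, x5, x6, hC1, hCp, hCm, add_zero, zero_add]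
      _ = s := hsum'
  have hCpA : Cp * A = Cp := by
    calc Cp * A = Cp * (Gp * A) := by rw [← mul_assoc, hCpGp]
      _ = Cp := by rw [hGpA, hCpGp]
  have hACp : A * Cp = Cp := by
    calc A * Cp = (A * Gp) * Cp := by rw [mul_assoc, hGpCp]
      _ = Cp := by rw [hAGp, hGpCp]
  have hCmA : Cm * A = -Cm := by
    calc Cm * A = Cm * (Gm * A) := by rw [← mul_assoc, hCmGm]
      _ = -Cm := by rw [hGmA, mul_neg, hCmGm]
  have hACm : A * Cm = -Cm := by
    calc A * Cm = (A * Gm) * Cm := by rw [mul_assoc, hGmCm]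
      _ = -Cm := by rw [hAGm, neg_mul, hGmCm]
  have hcA : c * A = A * c := by
    rw [hc, add_mul, add_mul, mul_add, mul_add, hC1A, hCpA, hACp, hCmA, hACm]
  obtain ⟨s', hs'⟩ := hsu.exists_left_inv
  have hcu : IsUnit c := by
    apply IsUnit.of_mul_eq_one_right (s' * spDag c)
    rw [mul_assoc, hcc, hs']
  obtain ⟨c', hc'⟩ := hcu.exists_right_inv
  have hc'' : c' * c = 1 := mul_eq_one_comm.mp hc'
  have hc'A : c' * A = A * c' := by
    calc c' * A = c' * A * (c * c') := by rw [hc', mul_one]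
      _ = c' * (A * c) * c' := by simp only [mul_assoc]
      _ = c' * (c * A) * c' := by rw [hcA]
      _ = (c' * c) * A * c' := by simp only [mul_assoc]
      _ = A * c' := by rw [hc'', one_mul]
  refine ⟨x * c', ?_, ?_⟩
  · calc spDag (x * c') * (x * c') = spDag c' * (spDag x * x) * c' := by
          rw [spDag_mul]
          simp only [mul_assoc]
      _ = spDag c' * (spDag c * c) * c' := by rw [← hs, hcc]
      _ = (spDag c' * spDag c) * (c * c') := by simp only [mul_assoc]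
      _ = 1 := by rw [← spDag_mul, hc', spDag_one, one_mul]
  · calc x * c' * A = x * (c' * A) := by rw [mul_assoc]
      _ = (x * A) * c' := by rw [hc'A, mul_assoc]
      _ = B * (x * c') := by rw [hxA, mul_assoc]

open scoped IsMulCommutative in
theorem spconj_main [Finite F] (A B x : MM) (hA : spDag A * A = 1) (hB : spDag B * B = 1)
    (hx : x.det ≠ 0) (hxA : x * A = B * x) (N : ℕ) (hN : A ^ N = 1) (hNF : (N : F) ≠ 0) :
    ∃ y : MM, spDag y * y = 1 ∧ y * A = B * y := by
  classical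
  have hA' : A * spDag A = 1 := mul_eq_one_comm.mp hA
  have hB' : B * spDag B = 1 := mul_eq_one_comm.mp hB
  obtain ⟨s, hs⟩ : ∃ s : MM, s = spDag x * x := ⟨_, rfl⟩
  have h1 : spDag A * spDag x = spDag x * spDag B := by
    rw [← spDag_mul, ← spDag_mul, hxA]
  have h2 : spDag x * B = A * spDag x := by
    calc spDag x * B = (A * spDag A) * spDag x * B := by rw [hA', one_mul]
      _ = A * (spDag A * spDag x) * B := by rw [mul_assoc A]
      _ = A * (spDag x * spDag B) * B := by rw [h1]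
      _ = A * spDag x * (spDag B * B) := by simp only [mul_assoc]
      _ = A * spDag x := by rw [hB, mul_one]
  have hsA : s * A = A * s := by
    calc s * A = spDag x * (x * A) := by rw [hs, mul_assoc]
      _ = (spDag x * B) * x := by rw [hxA, mul_assoc]
      _ = A * s := by rw [h2, hs, mul_assoc]
  have hsd : spDag s = s := by rw [hs, spDag_mul, spDag_spDag]
  have hxu : IsUnit x := (Matrix.isUnit_iff_isUnit_det x).mpr (IsUnit.mk0 _ hx)
  have hdx : IsUnit (spDag x) := by
    obtain ⟨x', hx'⟩ := hxu.exists_right_inv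
    have h3 : spDag x' * spDag x = 1 := by rw [← spDag_mul, hx', spDag_one]
    exact IsUnit.of_mul_eq_one_right _ h3
  have hsu : IsUnit s := by
    rw [hs]
    exact hdx.mul hxu
  have hsdet : s.det ≠ 0 := ((Matrix.isUnit_iff_isUnit_det s).mp hsu).ne_zero
  have hN0 : N ≠ 0 := by
    rintro rfl
    exact hNF Nat.cast_zero
  have hdA : spDag A = A ^ (N - 1) := by
    obtain ⟨j, hj⟩ : ∃ j, N = j + 1 := ⟨N - 1, by omega⟩
    have hN' : A * A ^ j = 1 := by
      rw [← pow_succ', ← hj]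
      exact hN
    rw [hj, Nat.add_sub_cancel]
    calc spDag A = spDag A * (A * A ^ j) := by rw [hN', mul_one]
      _ = spDag A * A * A ^ j := by rw [mul_assoc]
      _ = A ^ j := by rw [hA, one_mul]
  have hcomm : ∀ a ∈ ({A, s} : Set MM), ∀ b ∈ ({A, s} : Set MM), a * b = b * a := by
    intro a ha b hb
    simp only [Set.mem_insert_iff, Set.mem_singleton_iff] at ha hb
    rcases ha with ha | ha <;> rcases hb with hb | hb <;> rw [ha, hb]
    · exact hsA.symm
    · exact hsA
  obtain ⟨S, hSdef⟩ : ∃ S : Subalgebra F MM, S = Algebra.adjoin F ({A, s} : Set MM) := ⟨_, rfl⟩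
  have : IsMulCommutative S := by
    rw [hSdef]
    exact Algebra.isMulCommutative_adjoin F hcomm
  have hAS : A ∈ S := by
    rw [hSdef]
    exact Algebra.subset_adjoin (Set.mem_insert _ _)
  have hsS : s ∈ S := by
    rw [hSdef]
    exact Algebra.subset_adjoin (Set.mem_insert_of_mem _ (Set.mem_singleton _))
  have hclosed : ∀ r : MM, r ∈ S → spDag r ∈ S := by
    intro r hr
    rw [hSdef] at hr
    induction hr using Algebra.adjoin_induction with
    | mem y hy =>
      simp only [Set.mem_insert_iff, Set.mem_singleton_iff] at hy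
      rcases hy with hy | hy
      · rw [hy, hdA]
        exact Subalgebra.pow_mem _ hAS _
      · rw [hy, hsd]
        exact hsS
    | algebraMap c =>
      rw [spDag_algebraMap]
      exact Subalgebra.algebraMap_mem _ _
    | add y z _ _ hy hz =>
      rw [spDag_add]
      exact Subalgebra.add_mem _ hy hz
    | mul y z _ _ hy hz =>
      rw [spDag_mul]
      exact Subalgebra.mul_mem _ hz hy
  obtain ⟨σS, hσS⟩ : ∃ σS : ↥S →+* ↥S, ∀ r : ↥S, ((σS r : ↥S) : MM) = spDag (r : MM) :=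
    ⟨{ toFun := fun r => ⟨spDag (r : MM), hclosed _ r.2⟩
       map_one' := Subtype.ext spDag_one
       map_zero' := Subtype.ext spDag_zero
       map_add' := fun y z => Subtype.ext (spDag_add _ _)
       map_mul' := fun y z => Subtype.ext (by
         show spDag ((y : MM) * (z : MM)) = spDag (y : MM) * spDag (z : MM)
         rw [spDag_mul]
         exact congrArg Subtype.val
           (mul_comm (⟨spDag (z : MM), hclosed _ z.2⟩ : ↥S) ⟨spDag (y : MM), hclosed _ y.2⟩)) },
      fun r => rfl⟩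
  have hσσ : ∀ r, σS (σS r) = r := fun r => Subtype.ext (by rw [hσS, hσS, spDag_spDag])
  have haa' : (⟨A, hAS⟩ : ↥S) * σS ⟨A, hAS⟩ = 1 := by
    apply Subtype.ext
    have h3 : (((⟨A, hAS⟩ : ↥S) * σS ⟨A, hAS⟩ : ↥S) : MM) = A * ((σS ⟨A, hAS⟩ : ↥S) : MM) := rfl
    rw [h3, hσS]
    exact hA'
  have htu : IsUnit (⟨s, hsS⟩ : ↥S) := by
    let sU : GL (Fin m ⊕ Fin m) F := Matrix.GeneralLinearGroup.mkOfDetNeZero s hsdet
    have h3 : sU ^ Nat.card (GL (Fin m ⊕ Fin m) F) = 1 := pow_card_eq_one'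
    have h4 : s ^ Nat.card (GL (Fin m ⊕ Fin m) F) = 1 := by
      have := congrArg Units.val h3
      rwa [Units.val_pow_eq_pow_val, Units.val_one] at this
    refine IsUnit.of_pow_eq_one (n := Nat.card (GL (Fin m ⊕ Fin m) F)) ?_ Nat.card_pos.ne'
    apply Subtype.ext
    rw [SubmonoidClass.coe_pow]
    exact h4
  have hσt : σS ⟨s, hsS⟩ = ⟨s, hsS⟩ := Subtype.ext (by rw [hσS, hsd])
  have hred : ∀ (q : F[X]) (k : ℕ), (aeval (⟨A, hAS⟩ : ↥S) q) ^ k = 0 →
      aeval (⟨A, hAS⟩ : ↥S) q = 0 := by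
    intro q k h
    apply Subtype.ext
    rw [Polynomial.aeval_subalgebra_coe]
    apply spconj_reduced A N hN hNF q k
    have h3 := congrArg Subtype.val h
    rw [SubmonoidClass.coe_pow, Polynomial.aeval_subalgebra_coe] at h3
    exact h3
  obtain ⟨e, gp, gm, c₁, hsum, hegp, hegm, hgpgm, hee, hgpgp, hgmgm, hσe, hσgp, hσgm, hagp, hagm,
    hc₁, hec₁⟩ := spconj_ring (F := F) σS hσσ ⟨A, hAS⟩ (σS ⟨A, hAS⟩) ⟨s, hsS⟩ haa' rfl htu hσt hred
  have hsumM : (e : MM) + (gp : MM) + (gm : MM) = 1 := congrArg Subtype.val hsum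
  have hEGp : (e : MM) * (gp : MM) = 0 := congrArg Subtype.val hegp
  have hGpE : (gp : MM) * (e : MM) = 0 := congrArg Subtype.val ((mul_comm gp e).trans hegp)
  have hEGm : (e : MM) * (gm : MM) = 0 := congrArg Subtype.val hegm
  have hGmE : (gm : MM) * (e : MM) = 0 := congrArg Subtype.val ((mul_comm gm e).trans hegm)
  have hGpGm : (gp : MM) * (gm : MM) = 0 := congrArg Subtype.val hgpgm
  have hGmGp : (gm : MM) * (gp : MM) = 0 := congrArg Subtype.val ((mul_comm gm gp).trans hgpgm)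
  have hGpGp : (gp : MM) * (gp : MM) = gp := congrArg Subtype.val hgpgp
  have hGmGm : (gm : MM) * (gm : MM) = gm := congrArg Subtype.val hgmgm
  have hdE : spDag (e : MM) = e := (hσS e).symm.trans (congrArg Subtype.val hσe)
  have hdGp : spDag (gp : MM) = gp := (hσS gp).symm.trans (congrArg Subtype.val hσgp)
  have hdGm : spDag (gm : MM) = gm := (hσS gm).symm.trans (congrArg Subtype.val hσgm)
  have hAGp : A * (gp : MM) = gp := congrArg Subtype.val hagp
  have hGpA : (gp : MM) * A = gp :=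
    congrArg Subtype.val ((mul_comm gp (⟨A, hAS⟩ : ↥S)).trans hagp)
  have hAGm : A * (gm : MM) = -(gm : MM) := congrArg Subtype.val hagm
  have hGmA : (gm : MM) * A = -(gm : MM) :=
    congrArg Subtype.val ((mul_comm gm (⟨A, hAS⟩ : ↥S)).trans hagm)
  have hC1A : (c₁ : MM) * A = A * (c₁ : MM) :=
    congrArg Subtype.val (mul_comm c₁ (⟨A, hAS⟩ : ↥S))
  have hC1 : spDag (c₁ : MM) * (c₁ : MM) = (e : MM) * s := by
    have h3 : ((σS c₁ : ↥S) : MM) * (c₁ : MM) = (e : MM) * s :=
      congrArg Subtype.val ((mul_comm (σS c₁) c₁).trans hc₁)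
    rw [hσS] at h3
    exact h3
  have hEC1 : (e : MM) * (c₁ : MM) = c₁ := congrArg Subtype.val hec₁
  have hsGp : s * (gp : MM) = (gp : MM) * s :=
    congrArg Subtype.val (mul_comm (⟨s, hsS⟩ : ↥S) gp)
  have hsGm : s * (gm : MM) = (gm : MM) * s :=
    congrArg Subtype.val (mul_comm (⟨s, hsS⟩ : ↥S) gm)
  obtain ⟨Cp, hGpCp, hCpGp, hCp⟩ := spconj_proj (gp : MM) s x hGpGp hdGp hs hsGp hsdet
  obtain ⟨Cm, hGmCm, hCmGm, hCm⟩ := spconj_proj (gm : MM) s x hGmGm hdGm hs hsGm hsdet
  exact spconj_assemble A B x s (e : MM) (gp : MM) (gm : MM) (c₁ : MM) Cp Cm hs hsu hxA hsumM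
    hEGp hEGm hGpE hGmE hGpGm hGmGp hdE hdGp hdGm hAGp hGpA hAGm hGmA hC1A hC1 hEC1
    hCp hGpCp hCpGp hCm hGmCm hCmGm

end main

end Cfsg.Agent.helper13
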