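import Cfsg.Statements.S2589
import Mathlib
import Cfsg.Agent.Lib_helper13_SpConjC

set_option autoImplicit false
open Cfsg

namespace Cfsg.Agent.S2589




/-- Two semisimple elements of the finite symplectic group Sp_2m(F) (elements of order prime to the characteristic) are conjugate in Sp_2m(F) if and only if they are conjugate in GL_2m(F). -/
theorem result {F : Type*} [Field F] [Fintype F] {p : ℕ} [Fact p.Prime] [CharP F p] {m : ℕ} (A B : Matrix.symplecticGroup (Fin m) F) (hA : (orderOf A).Coprime p) : IsConj A B ↔ IsConj (A : Matrix (Fin m ⊕ Fin m) (Fin m ⊕ Fin m) F) (B : Matrix (Fin m ⊕ Fin m) (Fin m ⊕ Fin m) F) := by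
  classical
  constructor
  · intro h
    obtain ⟨g, hg⟩ := isConj_iff.mp h
    have hgi : (g : Matrix (Fin m ⊕ Fin m) (Fin m ⊕ Fin m) F) *
        ((g⁻¹ : Matrix.symplecticGroup (Fin m) F) : Matrix (Fin m ⊕ Fin m) (Fin m ⊕ Fin m) F) = 1 :=
      congrArg Subtype.val (mul_inv_cancel g)
    have hgi' : ((g⁻¹ : Matrix.symplecticGroup (Fin m) F) :
        Matrix (Fin m ⊕ Fin m) (Fin m ⊕ Fin m) F) *
        (g : Matrix (Fin m ⊕ Fin m) (Fin m ⊕ Fin m) F) = 1 :=
      congrArg Subtype.val (inv_mul_cancel g)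
    refine ⟨⟨(g : Matrix (Fin m ⊕ Fin m) (Fin m ⊕ Fin m) F), _, hgi, hgi'⟩, ?_⟩
    have h3 : g * A = B * g := by
      rw [← hg, inv_mul_cancel_right]
    exact congrArg Subtype.val h3
  · intro h
    obtain ⟨c, hc⟩ := h
    have hcdet : (c : Matrix (Fin m ⊕ Fin m) (Fin m ⊕ Fin m) F).det ≠ 0 :=
      ((Matrix.isUnit_iff_isUnit_det _).mp c.isUnit).ne_zero
    have hN : (A : Matrix (Fin m ⊕ Fin m) (Fin m ⊕ Fin m) F) ^ orderOf A = 1 := by
      have h3 := congrArg Subtype.val (pow_orderOf_eq_one A)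
      rw [SubmonoidClass.coe_pow] at h3
      exact h3
    have hNF : ((orderOf A : ℕ) : F) ≠ 0 := by
      intro h0
      rw [CharP.cast_eq_zero_iff F p] at h0
      have h4 : p = 1 := Nat.Coprime.eq_one_of_dvd hA.symm h0
      exact (Fact.out : p.Prime).one_lt.ne' h4
    obtain ⟨y, hy1, hy2⟩ := Cfsg.Agent.helper13.spconj_main
      (A : Matrix (Fin m ⊕ Fin m) (Fin m ⊕ Fin m) F) (B : Matrix (Fin m ⊕ Fin m) (Fin m ⊕ Fin m) F)
      (c : Matrix (Fin m ⊕ Fin m) (Fin m ⊕ Fin m) F)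
      ((Cfsg.Agent.helper13.spconj_mem_iff _).mp A.2)
      ((Cfsg.Agent.helper13.spconj_mem_iff _).mp B.2) hcdet hc (orderOf A) hN hNF
    rw [isConj_iff]
    refine ⟨⟨y, (Cfsg.Agent.helper13.spconj_mem_iff y).mpr hy1⟩, ?_⟩
    have h5 : (⟨y, (Cfsg.Agent.helper13.spconj_mem_iff y).mpr hy1⟩ :
        Matrix.symplecticGroup (Fin m) F) * A =
        B * ⟨y, (Cfsg.Agent.helper13.spconj_mem_iff y).mpr hy1⟩ := Subtype.ext hy2
    rw [h5, mul_inv_cancel_right]

end Cfsg.Agent.S2589
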