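import Cfsg.Statements.S2389
import Mathlib
import Cfsg.Agent.Lib_helper25_SSimple
import Cfsg.Agent.S2589

set_option autoImplicit false
open Cfsg

namespace Cfsg.Agent.S2389

open Matrix Cfsg.Agent.helper25.SSimple

/-- In the symplectic group `Sp_{2n}(q)`, `q` a power of the prime `p`, two elements of order prime to `p` with the same characteristic polynomial are conjugate in `Sp_{2n}(q)`. -/
theorem result {F : Type*} [Field F] [Fintype F] (p : ℕ) [Fact p.Prime] [CharP F p] (n : ℕ)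
    (g h : ↥(Matrix.symplecticGroup (Fin n) F)) (hg : (orderOf g).Coprime p) (hh : (orderOf h).Coprime p)
    (hc : (g : Matrix (Fin n ⊕ Fin n) (Fin n ⊕ Fin n) F).charpoly = (h : Matrix (Fin n ⊕ Fin n) (Fin n ⊕ Fin n) F).charpoly) :
    IsConj g h := by
  classical
  rw [Cfsg.Agent.S2589.result (p := p) g h hg]
  obtain ⟨φ, hφ⟩ : ∃ φ : Matrix (Fin n ⊕ Fin n) (Fin n ⊕ Fin n) F ≃*
      Matrix (Fin (n + n)) (Fin (n + n)) F, ∀ M, φ M = Matrix.reindex finSumFinEquiv finSumFinEquiv M :=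
    ⟨(Matrix.reindexAlgEquiv F F finSumFinEquiv).toMulEquiv, fun M => rfl⟩
  obtain ⟨ψ, hψ⟩ : ∃ ψ : ↥(Matrix.symplecticGroup (Fin n) F) →* GL (Fin (n + n)) F,
      ∀ x, (ψ x).val = φ (x : Matrix (Fin n ⊕ Fin n) (Fin n ⊕ Fin n) F) :=
    ⟨(Units.map φ.toMonoidHom).comp ((Matrix.symplecticGroup (Fin n) F).subtype.toHomUnits),
      fun x => rfl⟩
  have hgo : (orderOf (ψ g)).Coprime p :=
    Nat.Coprime.coprime_dvd_left (orderOf_map_dvd ψ g) hg
  have hho : (orderOf (ψ h)).Coprime p :=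
    Nat.Coprime.coprime_dvd_left (orderOf_map_dvd ψ h) hh
  have hcp : (ψ g).val.charpoly = (ψ h).val.charpoly := by
    rw [hψ, hψ, hφ, hφ, Matrix.charpoly_reindex, Matrix.charpoly_reindex]
    exact hc
  have hconj := isConj_of_charpoly_eq p (ψ g) (ψ h) hgo hho hcp
  obtain ⟨c, hc2⟩ := isConj_iff.mp hconj
  rw [mul_inv_eq_iff_eq_mul] at hc2
  have h1 : c.val * (ψ g).val = (ψ h).val * c.val := by
    have := congrArg Units.val hc2
    rwa [Units.val_mul, Units.val_mul] at this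
  rw [hψ, hψ] at h1
  refine ⟨Units.map φ.symm.toMonoidHom c, ?_⟩
  show φ.symm c.val * (g : Matrix (Fin n ⊕ Fin n) (Fin n ⊕ Fin n) F)
    = (h : Matrix (Fin n ⊕ Fin n) (Fin n ⊕ Fin n) F) * φ.symm c.val
  apply φ.injective
  rw [map_mul, map_mul, MulEquiv.apply_symm_apply]
  exact h1

end Cfsg.Agent.S2389
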