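import Cfsg.Statements.S2385
import Mathlib
import Cfsg.Agent.Lib_helper25_SSimple
import Cfsg.Agent.Lib_helper25_SpCountC
import Cfsg.Agent.S2389

set_option autoImplicit false
open Cfsg

namespace Cfsg.Agent.S2385

open Polynomial Matrix Cfsg.Agent.helper25.SSimple Cfsg.Agent.helper25.SpCount

/-- In the symplectic group `Sp_{2n}(q)`, `q` a power of the prime `p`, the number of conjugacy classes of elements of order prime to `p` is `q^n`. -/
theorem result {F : Type*} [Field F] [Fintype F] {q : ℕ} (hq : Fintype.card F = q) (p : ℕ) [Fact p.Prime] [CharP F p] (n : ℕ) :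
    Nat.card {c : ConjClasses ↥(Matrix.symplecticGroup (Fin n) F) //
      ∃ g : ↥(Matrix.symplecticGroup (Fin n) F), ConjClasses.mk g = c ∧ (orderOf g).Coprime p} = q ^ n := by
  classical
  let T := {c : ConjClasses ↥(Matrix.symplecticGroup (Fin n) F) //
      ∃ g : ↥(Matrix.symplecticGroup (Fin n) F), ConjClasses.mk g = c ∧ (orderOf g).Coprime p}
  let rep : T → ↥(Matrix.symplecticGroup (Fin n) F) := fun c => Classical.choose c.2
  have hrep : ∀ c : T, ConjClasses.mk (rep c) = c.1 ∧ (orderOf (rep c)).Coprime p :=
    fun c => Classical.choose_spec c.2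
  have hfinSp : Finite ↥(Matrix.symplecticGroup (Fin n) F) := inferInstance
  have hfin : Finite T := inferInstance
  have hcardfun : Nat.card (Fin n → F) = q ^ n := by
    rw [Nat.card_eq_fintype_card, Fintype.card_fun, Fintype.card_fin, hq]
  have hdeg : ∀ g : ↥(Matrix.symplecticGroup (Fin n) F),
      (g : Matrix (Fin n ⊕ Fin n) (Fin n ⊕ Fin n) F).charpoly.natDegree = n + n := by
    intro g
    rw [Matrix.charpoly_natDegree_eq_dim, Fintype.card_sum, Fintype.card_fin]
  show Nat.card T = q ^ n
  apply le_antisymm
  · let Φ : T → (Fin n → F) := fun c j =>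
      ((rep c : Matrix (Fin n ⊕ Fin n) (Fin n ⊕ Fin n) F)).charpoly.coeff ((j : ℕ) + 1)
    have hΦ : Function.Injective Φ := by
      intro c c' h
      have hcp : ((rep c : Matrix (Fin n ⊕ Fin n) (Fin n ⊕ Fin n) F)).charpoly
          = ((rep c' : Matrix (Fin n ⊕ Fin n) (Fin n ⊕ Fin n) F)).charpoly := by
        apply poly_eq_of_symm (n := n) _ _ (Matrix.charpoly_monic _) (Matrix.charpoly_monic _)
          (hdeg _) (hdeg _) (charpoly_symm (rep c)) (charpoly_symm (rep c'))
        intro j hj
        exact congrFun h ⟨j, hj⟩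
      have h2 := Cfsg.Agent.S2389.result p n (rep c) (rep c') (hrep c).2 (hrep c').2 hcp
      apply Subtype.ext
      rw [← (hrep c).1, ← (hrep c').1, ConjClasses.mk_eq_mk_iff_isConj]
      exact h2
    have := Nat.card_le_card_of_injective Φ hΦ
    rwa [hcardfun] at this
  · have hex : ∀ t : Fin n → F, ∃ g : ↥(Matrix.symplecticGroup (Fin n) F),
        (orderOf g).Coprime p ∧
        (g : Matrix (Fin n ⊕ Fin n) (Fin n ⊕ Fin n) F).charpoly
          = TTc n n (fun k => (polyOf n t).coeff k) :=
      fun t => exists_sp_of_poly p (polyOf n t) (polyOf_monic n t) (polyOf_natDegree n t)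
    let Γ : (Fin n → F) → T := fun t =>
      ⟨ConjClasses.mk (Classical.choose (hex t)), _, rfl, (Classical.choose_spec (hex t)).1⟩
    have hΓ : Function.Injective Γ := by
      intro t t' h
      have h1 : ConjClasses.mk (Classical.choose (hex t))
          = ConjClasses.mk (Classical.choose (hex t')) := congrArg Subtype.val h
      rw [ConjClasses.mk_eq_mk_iff_isConj] at h1
      have h2 := charpoly_eq_of_isConj_sp _ _ h1
      rw [(Classical.choose_spec (hex t)).2, (Classical.choose_spec (hex t')).2] at h2
      have h3 := TTc_injective (n := n) (polyOf n t) (polyOf n t')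
        (by rw [polyOf_natDegree]) (by rw [polyOf_natDegree]) h2
      funext j
      rw [← polyOf_coeff n t j, ← polyOf_coeff n t' j, h3]
    have := Nat.card_le_card_of_injective Γ hΓ
    rwa [hcardfun] at this

end Cfsg.Agent.S2385
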