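import Mathlib
import Cfsg.Agent.S2385
import Cfsg.Agent.S2389
import Cfsg.Agent.Lib_helper25_SpCountC

/-! Piece I of S2645: classes of elements of order `r` of `Sp_2m(q)` (and the class of `1`)
correspond to the self-reciprocal monic divisors of degree `2m` of `(X ^ r - 1) ^ (2m)`. -/

set_option autoImplicit false

namespace Cfsg.Agent.helper11.S2645i

open Polynomial Matrix Cfsg.Agent.helper25.SpCount

section
variable {F : Type*} [Field F] {ι : Type*} [Fintype ι] [DecidableEq ι]

/-- if `A ^ r = 1` then the characteristic polynomial of `A` divides `(X ^ r - 1) ^ card`. -/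
theorem charpoly_dvd_of_pow_eq_one (A : Matrix ι ι F) (r : ℕ) (hA : A ^ r = 1) :
    A.charpoly ∣ (X ^ r - 1) ^ Fintype.card ι := by
  have hcomm : Commute (Matrix.scalar ι (X : F[X])) (C.mapMatrix A) :=
    Matrix.scalar_commute _ (fun _ => Commute.all _ _) _
  have h1 := hcomm.geom_sum₂_mul r
  have h2 : (C.mapMatrix A) ^ r = 1 := by
    rw [← map_pow, hA, map_one]
  have h3 : (Matrix.scalar ι (X : F[X])) ^ r - (C.mapMatrix A) ^ r =
      Matrix.scalar ι (X ^ r - 1 : F[X]) := by
    rw [h2, ← map_pow, map_sub, map_one]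
  rw [h3] at h1
  have h4 := congrArg Matrix.det h1
  have hdet : (Matrix.scalar ι (X ^ r - 1 : F[X])).det = (X ^ r - 1) ^ Fintype.card ι := by
    rw [Matrix.scalar_apply, Matrix.det_diagonal, Finset.prod_const, Finset.card_univ]
  rw [Matrix.det_mul, hdet] at h4
  have hcp : A.charpoly = (Matrix.scalar ι (X : F[X]) - C.mapMatrix A).det := rfl
  rw [← h4, hcp]
  exact Dvd.intro_left _ rfl

end

section sp
variable {F : Type*} [Field F] [Fintype F]

theorem cp_props (m : ℕ) (g : ↥(Matrix.symplecticGroup (Fin m) F)) :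
    (g : Matrix (Fin m ⊕ Fin m) (Fin m ⊕ Fin m) F).charpoly.Monic ∧
    (g : Matrix (Fin m ⊕ Fin m) (Fin m ⊕ Fin m) F).charpoly.natDegree = m + m ∧
    ∀ k, k ≤ m + m → (g : Matrix (Fin m ⊕ Fin m) (Fin m ⊕ Fin m) F).charpoly.coeff (m + m - k) =
      (g : Matrix (Fin m ⊕ Fin m) (Fin m ⊕ Fin m) F).charpoly.coeff k := by
  refine ⟨Matrix.charpoly_monic _, ?_, fun k hk => charpoly_symm g k hk⟩
  rw [Matrix.charpoly_natDegree_eq_dim, Fintype.card_sum, Fintype.card_fin]

theorem coe_pow_sp (m : ℕ) (g : ↥(Matrix.symplecticGroup (Fin m) F)) (k : ℕ) :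
    ((g ^ k : ↥(Matrix.symplecticGroup (Fin m) F)) :
      Matrix (Fin m ⊕ Fin m) (Fin m ⊕ Fin m) F) =
    (g : Matrix (Fin m ⊕ Fin m) (Fin m ⊕ Fin m) F) ^ k :=
  SubmonoidClass.coe_pow g k

/-- for an element of order prime to `p`, `g ^ r = 1` iff the characteristic polynomial divides
`(X ^ r - 1) ^ (2m)`. -/
theorem pow_eq_one_iff (p : ℕ) [Fact p.Prime] [CharP F p] (m r : ℕ)
    (g : ↥(Matrix.symplecticGroup (Fin m) F)) (hg : (orderOf g).Coprime p) :
    g ^ r = 1 ↔ (g : Matrix (Fin m ⊕ Fin m) (Fin m ⊕ Fin m) F).charpoly ∣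
      (X ^ r - 1) ^ (m + m) := by
  constructor
  · intro h
    have h1 : (g : Matrix (Fin m ⊕ Fin m) (Fin m ⊕ Fin m) F) ^ r = 1 := by
      rw [← coe_pow_sp, h]
      rfl
    have h2 := charpoly_dvd_of_pow_eq_one (g : Matrix (Fin m ⊕ Fin m) (Fin m ⊕ Fin m) F) r h1
    rwa [Fintype.card_sum, Fintype.card_fin] at h2
  · intro h
    rcases Nat.eq_zero_or_pos m with hm | hm
    · subst hm
      apply Subtype.ext
      apply Matrix.ext
      intro a
      exact a.elim (fun x => x.elim0) (fun x => x.elim0)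
    obtain ⟨A, hAdef⟩ : ∃ A : Matrix (Fin m ⊕ Fin m) (Fin m ⊕ Fin m) F,
        A = (g : Matrix (Fin m ⊕ Fin m) (Fin m ⊕ Fin m) F) := ⟨_, rfl⟩
    obtain ⟨N, hNdef⟩ : ∃ N : ℕ, N = orderOf g := ⟨_, rfl⟩
    have hN : A ^ N = 1 := by
      rw [hAdef, ← coe_pow_sp, hNdef, pow_orderOf_eq_one]
      rfl
    have hNF : ((N : ℕ) : F) ≠ 0 := by
      intro h0
      rw [CharP.cast_eq_zero_iff F p] at h0
      rw [hNdef] at h0
      have h4 : p = 1 := Nat.Coprime.eq_one_of_dvd hg.symm h0
      exact (Fact.out : p.Prime).one_lt.ne' h4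
    have hsep : (X ^ N - C (1 : F) : F[X]).Separable :=
      Polynomial.separable_X_pow_sub_C 1 hNF one_ne_zero
    have hdvd : minpoly F A ∣ X ^ N - C (1 : F) := by
      apply minpoly.dvd
      rw [map_sub, map_pow, aeval_X, aeval_C, map_one, hN, sub_self]
    have hsq : Squarefree (minpoly F A) := hsep.squarefree.squarefree_of_dvd hdvd
    have h1 : minpoly F A ∣ (X ^ r - 1 : F[X]) ^ (m + m) :=
      dvd_trans (Matrix.minpoly_dvd_charpoly A) (hAdef ▸ h)
    have h2 : minpoly F A ∣ (X ^ r - 1 : F[X]) :=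
      (hsq.dvd_pow_iff_dvd (by omega)).mp h1
    obtain ⟨c, hc⟩ := h2
    have h3 : aeval A (X ^ r - 1 : F[X]) = 0 := by
      rw [hc, map_mul, minpoly.aeval, zero_mul]
    rw [map_sub, map_pow, aeval_X, map_one, sub_eq_zero] at h3
    apply Subtype.ext
    rw [coe_pow_sp, ← hAdef, h3]
    rfl

theorem pieceI (p : ℕ) [Fact p.Prime] [CharP F p] (m r : ℕ)
    (hr : r.Prime) (hrp : r ≠ p) :
    Nat.card {c : ConjClasses ↥(Matrix.symplecticGroup (Fin m) F) //
      ∃ g : Matrix.symplecticGroup (Fin m) F, ConjClasses.mk g = c ∧ orderOf g = r} + 1 =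
    Nat.card {f : F[X] // f.Monic ∧ f.natDegree = m + m ∧
      (∀ k, k ≤ m + m → f.coeff (m + m - k) = f.coeff k) ∧ f ∣ (X ^ r - 1) ^ (m + m)} := by
  classical
  have hpp : p.Prime := Fact.out
  have hrpc : r.Coprime p := (Nat.coprime_primes hr hpp).mpr hrp
  -- existence of p'-elements with given self-reciprocal characteristic polynomial, by counting
  have hex : ∀ f : F[X], f.Monic → f.natDegree = m + m →
      (∀ k, k ≤ m + m → f.coeff (m + m - k) = f.coeff k) →
      ∃ g : ↥(Matrix.symplecticGroup (Fin m) F), (orderOf g).Coprime p ∧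
        (g : Matrix (Fin m ⊕ Fin m) (Fin m ⊕ Fin m) F).charpoly = f := by
    let T := {c : ConjClasses ↥(Matrix.symplecticGroup (Fin m) F) //
      ∃ g : ↥(Matrix.symplecticGroup (Fin m) F), ConjClasses.mk g = c ∧ (orderOf g).Coprime p}
    let Pal := {f : F[X] // f.Monic ∧ f.natDegree = m + m ∧
      (∀ k, k ≤ m + m → f.coeff (m + m - k) = f.coeff k)}
    have hT : Nat.card T = Fintype.card F ^ m := Cfsg.Agent.S2385.result rfl p m
    let rep : T → ↥(Matrix.symplecticGroup (Fin m) F) := fun c => Classical.choose c.2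
    have hrep : ∀ c : T, ConjClasses.mk (rep c) = c.1 ∧ (orderOf (rep c)).Coprime p :=
      fun c => Classical.choose_spec c.2
    let κ : Pal → (Fin m → F) := fun f j => f.1.coeff ((j : ℕ) + 1)
    have hκ : Function.Injective κ := by
      intro f f' h
      apply Subtype.ext
      apply poly_eq_of_symm (n := m) _ _ f.2.1 f'.2.1 f.2.2.1 f'.2.2.1 f.2.2.2 f'.2.2.2
      intro j hj
      exact congrFun h ⟨j, hj⟩
    haveI : Finite Pal := Finite.of_injective κ hκ
    have hPal : Nat.card Pal ≤ Fintype.card F ^ m := by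
      have h5 : Nat.card (Fin m → F) = Fintype.card F ^ m := by
        rw [Nat.card_eq_fintype_card, Fintype.card_fun, Fintype.card_fin]
      have := Nat.card_le_card_of_injective κ hκ
      rwa [h5] at this
    let Φ : T → Pal := fun c => ⟨_, cp_props m (rep c)⟩
    have hΦ : Function.Injective Φ := by
      intro c c' h
      have hcp : ((rep c : Matrix (Fin m ⊕ Fin m) (Fin m ⊕ Fin m) F)).charpoly
          = ((rep c' : Matrix (Fin m ⊕ Fin m) (Fin m ⊕ Fin m) F)).charpoly :=
        congrArg Subtype.val h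
      have h2 := Cfsg.Agent.S2389.result p m (rep c) (rep c') (hrep c).2 (hrep c').2 hcp
      apply Subtype.ext
      rw [← (hrep c).1, ← (hrep c').1, ConjClasses.mk_eq_mk_iff_isConj]
      exact h2
    haveI : Finite T := inferInstance
    have hbij : Function.Bijective Φ :=
      hΦ.bijective_of_nat_card_le (by rw [hT]; exact hPal)
    intro f hfm hfd hfs
    obtain ⟨c, hc⟩ := hbij.2 ⟨f, hfm, hfd, hfs⟩
    exact ⟨rep c, (hrep c).2, congrArg Subtype.val hc⟩
  -- the set of classes of elements with g ^ r = 1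
  have hord : ∀ g : ↥(Matrix.symplecticGroup (Fin m) F), g ^ r = 1 → (orderOf g).Coprime p := by
    intro g hg
    exact Nat.Coprime.coprime_dvd_left (orderOf_dvd_of_pow_eq_one hg) hrpc
  have h1 : Nat.card {c : ConjClasses ↥(Matrix.symplecticGroup (Fin m) F) //
      ∃ g : Matrix.symplecticGroup (Fin m) F, ConjClasses.mk g = c ∧ g ^ r = 1} =
      Nat.card {f : F[X] // f.Monic ∧ f.natDegree = m + m ∧
      (∀ k, k ≤ m + m → f.coeff (m + m - k) = f.coeff k) ∧ f ∣ (X ^ r - 1) ^ (m + m)} := by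
    symm
    apply Nat.card_congr
    have hex' : ∀ f : {f : F[X] // f.Monic ∧ f.natDegree = m + m ∧
        (∀ k, k ≤ m + m → f.coeff (m + m - k) = f.coeff k) ∧ f ∣ (X ^ r - 1) ^ (m + m)},
        ∃ g : ↥(Matrix.symplecticGroup (Fin m) F), (orderOf g).Coprime p ∧
          (g : Matrix (Fin m ⊕ Fin m) (Fin m ⊕ Fin m) F).charpoly = f.1 :=
      fun f => hex f.1 f.2.1 f.2.2.1 f.2.2.2.1
    have hpow : ∀ f, (Classical.choose (hex' f)) ^ r = 1 := by
      intro f
      rw [pow_eq_one_iff p m r _ (Classical.choose_spec (hex' f)).1,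
        (Classical.choose_spec (hex' f)).2]
      exact f.2.2.2.2
    refine Equiv.ofBijective (fun f => ⟨ConjClasses.mk (Classical.choose (hex' f)), _, rfl,
      hpow f⟩) ⟨?_, ?_⟩
    · intro f f' h
      have h2 : ConjClasses.mk (Classical.choose (hex' f)) =
          ConjClasses.mk (Classical.choose (hex' f')) := congrArg Subtype.val h
      rw [ConjClasses.mk_eq_mk_iff_isConj] at h2
      have h3 := charpoly_eq_of_isConj_sp _ _ h2
      rw [(Classical.choose_spec (hex' f)).2, (Classical.choose_spec (hex' f')).2] at h3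
      exact Subtype.ext h3
    · rintro ⟨c, g, rfl, hg⟩
      have hgo := hord g hg
      have hcp := cp_props m g
      have hdvd := (pow_eq_one_iff p m r g hgo).mp hg
      refine ⟨⟨_, hcp.1, hcp.2.1, hcp.2.2, hdvd⟩, ?_⟩
      apply Subtype.ext
      show ConjClasses.mk (Classical.choose (hex' ⟨_, hcp.1, hcp.2.1, hcp.2.2, hdvd⟩)) =
        ConjClasses.mk g
      rw [ConjClasses.mk_eq_mk_iff_isConj]
      exact Cfsg.Agent.S2389.result p m _ g
        (Classical.choose_spec (hex' ⟨_, hcp.1, hcp.2.1, hcp.2.2, hdvd⟩)).1 hgo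
        (Classical.choose_spec (hex' ⟨_, hcp.1, hcp.2.1, hcp.2.2, hdvd⟩)).2
  rw [← h1]
  -- classes with g ^ r = 1: those of order r and the class of 1
  have hset : {c : ConjClasses ↥(Matrix.symplecticGroup (Fin m) F) |
      ∃ g : Matrix.symplecticGroup (Fin m) F, ConjClasses.mk g = c ∧ g ^ r = 1} =
      insert (ConjClasses.mk 1) {c : ConjClasses ↥(Matrix.symplecticGroup (Fin m) F) |
      ∃ g : Matrix.symplecticGroup (Fin m) F, ConjClasses.mk g = c ∧ orderOf g = r} := by
    ext c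
    simp only [Set.mem_setOf_eq, Set.mem_insert_iff]
    constructor
    · rintro ⟨g, rfl, hg⟩
      have h2 := orderOf_dvd_of_pow_eq_one hg
      rcases (Nat.dvd_prime hr).mp h2 with h3 | h3
      · left
        rw [orderOf_eq_one_iff.mp h3]
      · right
        exact ⟨g, rfl, h3⟩
    · rintro (rfl | ⟨g, rfl, hg⟩)
      · exact ⟨1, rfl, one_pow r⟩
      · exact ⟨g, rfl, by rw [← hg, pow_orderOf_eq_one]⟩
  have hnot : ConjClasses.mk (1 : ↥(Matrix.symplecticGroup (Fin m) F)) ∉
      {c : ConjClasses ↥(Matrix.symplecticGroup (Fin m) F) |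
      ∃ g : Matrix.symplecticGroup (Fin m) F, ConjClasses.mk g = c ∧ orderOf g = r} := by
    rintro ⟨g, hg1, hg2⟩
    rw [ConjClasses.mk_eq_mk_iff_isConj, isConj_one_left] at hg1
    rw [hg1, orderOf_one] at hg2
    exact hr.one_lt.ne hg2
  have h2 := Set.ncard_insert_of_notMem hnot (Set.toFinite _)
  rw [← hset] at h2
  rw [← Nat.card_coe_set_eq, ← Nat.card_coe_set_eq] at h2
  exact h2.symm

end sp

end Cfsg.Agent.helper11.S2645i
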