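import Mathlib
import Cfsg.Agent.Lib_helper2_SLn

set_option autoImplicit false

namespace Cfsg.Agent.helper12

open Matrix Polynomial
open scoped commutatorElement

theorem sl_gen_of_root_subgroup {K : Type*} [Field K] (n : ℕ) (hn : 1 ≤ n)
    (w : Matrix.SpecialLinearGroup (Fin (n + 1)) K)
    (hw : (w : Matrix (Fin (n + 1)) (Fin (n + 1)) K) =
      Matrix.of (fun i j => if j.val = i.val + 1 then 1 else if i.val = n ∧ j.val = 0 then (-1) ^ n else 0))
    (H : Subgroup (Matrix.SpecialLinearGroup (Fin (n + 1)) K)) (hwH : w ∈ H)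
    (h01 : ∀ (h : (0 : Fin (n + 1)) ≠ 1) (c : K), SpecialLinearGroup.transvection h c ∈ H) :
    H = ⊤ := by
  classical
  have h10 : (1 : Fin (n + 1)) ≠ 0 := by
    intro h
    rw [Fin.one_eq_zero_iff] at h
    omega
  -- the nonzero entries of w
  set u : Fin (n + 1) → K := fun a => if a.val = n then (-1) ^ n else 1 with hu
  have hu0 : ∀ a, u a ≠ 0 := by
    intro a
    simp only [hu]
    split_ifs
    · exact pow_ne_zero _ (neg_ne_zero.mpr one_ne_zero)
    · exact one_ne_zero
  have hW : ∀ a b : Fin (n + 1), (w : Matrix (Fin (n + 1)) (Fin (n + 1)) K) a b =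
      if b = a + 1 then u a else 0 := by
    intro a b
    rw [hw]
    simp only [Matrix.of_apply, hu]
    have hb : b = a + 1 ↔ b.val = (a + 1).val := Fin.ext_iff
    rw [Fin.val_add_one] at hb
    by_cases ha : a.val = n
    · have ha' : a = Fin.last n := Fin.ext (by simp [ha])
      rw [if_pos ha'] at hb
      have h1 : ¬ b.val = a.val + 1 := by have := b.isLt; omega
      rw [if_neg h1]
      by_cases hb0 : b.val = 0
      · rw [if_pos ⟨ha, hb0⟩, if_pos (hb.mpr hb0), if_pos ha]
      · rw [if_neg (fun h => hb0 h.2), if_neg (fun h => hb0 (hb.mp h))]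
    · have ha' : a ≠ Fin.last n := fun h => ha (by simp [h])
      rw [if_neg ha'] at hb
      by_cases hb1 : b.val = a.val + 1
      · rw [if_pos hb1, if_pos (hb.mpr hb1), if_neg ha]
      · rw [if_neg hb1, if_neg (fun h => ha h.1), if_neg (fun h => hb1 (hb.mp h))]
  let S : Fin (n + 1) → Fin (n + 1) → Prop := fun i j =>
    ∀ (h : i ≠ j) (c : K), SpecialLinearGroup.transvection h c ∈ H
  -- base
  have hS01 : S 0 1 := fun h c => h01 h c
  -- shift
  have hshift : ∀ i j, S i j → S (i + 1) (j + 1) := by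
    intro i j hS h' c'
    have h : i ≠ j := fun e => h' (by rw [e])
    have key0 : (w : Matrix (Fin (n + 1)) (Fin (n + 1)) K) *
        (SpecialLinearGroup.transvection h' c' : Matrix (Fin (n + 1)) (Fin (n + 1)) K) =
        (SpecialLinearGroup.transvection h (c' * u i / u j) : Matrix (Fin (n + 1)) (Fin (n + 1)) K) *
          (w : Matrix (Fin (n + 1)) (Fin (n + 1)) K) := by
      rw [SpecialLinearGroup.transvection_coe, SpecialLinearGroup.transvection_coe, mul_add, add_mul,
        mul_one, one_mul]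
      congr 1
      ext a b
      rw [Matrix.mul_apply, Matrix.mul_apply]
      simp only [Matrix.single_apply, hW]
      rw [Finset.sum_eq_single (i + 1), Finset.sum_eq_single j]
      · by_cases ha : a = i
        · subst ha
          by_cases hb : b = j + 1
          · subst hb
            simp
            field_simp [hu0 j]
          · simp [hb, Ne.symm hb]
        · have : ¬ (i + 1 = a + 1) := fun e => ha (add_right_cancel e).symm
          simp [Ne.symm ha, this]
      · intro k _ hk
        simp [Ne.symm hk]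
      · simp
      · intro k _ hk
        simp [Ne.symm hk]
      · simp
    have key : w * SpecialLinearGroup.transvection h' c' =
        SpecialLinearGroup.transvection h (c' * u i / u j) * w := by
      have e1 : ((w * SpecialLinearGroup.transvection h' c' :
          Matrix.SpecialLinearGroup (Fin (n + 1)) K) : Matrix (Fin (n + 1)) (Fin (n + 1)) K) =
          ((SpecialLinearGroup.transvection h (c' * u i / u j) * w :
          Matrix.SpecialLinearGroup (Fin (n + 1)) K) : Matrix (Fin (n + 1)) (Fin (n + 1)) K) := by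
        exact (Matrix.SpecialLinearGroup.coe_mul _ _).trans
          (key0.trans (Matrix.SpecialLinearGroup.coe_mul _ _).symm)
      exact Subtype.ext e1
    have : SpecialLinearGroup.transvection h' c' =
        w⁻¹ * SpecialLinearGroup.transvection h (c' * u i / u j) * w := by
      rw [mul_assoc, ← key, inv_mul_cancel_left]
    rw [this]
    exact H.mul_mem (H.mul_mem (H.inv_mem hwH) (hS h _)) hwH
  -- composition
  have hcomp : ∀ i j k, i ≠ j → j ≠ k → i ≠ k → S i j → S j k → S i k := by
    intro i j k hij hjk hik h1 h2 _ c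
    rw [Cfsg.Agent.helper2.transvection_eq_commutator hik hij hjk c, commutatorElement_def]
    exact H.mul_mem (H.mul_mem (H.mul_mem (h1 hij c) (h2 hjk 1)) (H.inv_mem (h1 hij c)))
      (H.inv_mem (h2 hjk 1))
  -- all (i, i+1)
  have hstep : ∀ i : Fin (n + 1), S i (i + 1) := by
    intro i
    induction i using Fin.induction with
    | zero => simpa using hS01
    | succ i ih =>
      have := hshift _ _ ih
      rwa [Fin.coeSucc_eq_succ] at this
  have hall : ∀ d : Fin (n + 1), d ≠ 0 → ∀ i : Fin (n + 1), S i (i + d) := by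
    intro d
    induction d using Fin.induction with
    | zero => intro h; exact absurd rfl h
    | succ d ih =>
      intro _ i
      rw [← Fin.coeSucc_eq_succ]
      by_cases hd : d.castSucc = 0
      · rw [hd, zero_add]; exact hstep i
      · rw [← add_assoc]
        refine hcomp i (i + d.castSucc) _ ?_ ?_ ?_ (ih hd i) (hstep _)
        · intro h
          exact hd (by simpa using h.symm)
        · intro h
          exact h10 (by simpa using h.symm)
        · intro h
          rw [add_assoc, Fin.coeSucc_eq_succ] at h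
          exact Fin.succ_ne_zero d (by simpa using h.symm)
  have hS : ∀ i j : Fin (n + 1), S i j := by
    intro i j h
    have hji : j - i ≠ 0 := fun e => h (sub_eq_zero.mp e).symm
    have := hall (j - i) hji i
    rw [add_sub_cancel] at this
    exact this h
  have : Nontrivial (Fin (n + 1)) := ⟨⟨1, 0, h10⟩⟩
  rw [eq_top_iff]
  intro A _
  exact Cfsg.Agent.helper2.transvection_induction (fun A => A ∈ H) (fun i j hij c => hS i j hij c)
    (fun A B hA hB => H.mul_mem hA hB) A



theorem field_sum_two_squares {K : Type*} [Field K] [Fintype K] (c : K) : ∃ a b : K, c = a ^ 2 + b ^ 2 := by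
  by_cases h2 : ringChar K = 2
  · obtain ⟨a, ha⟩ := FiniteField.isSquare_of_char_two h2 c
    exact ⟨a, 0, by rw [ha]; ring⟩
  · have hodd := FiniteField.odd_card_of_char_ne_two h2
    have hf : degree (X ^ 2 : K[X]) = 2 := by rw [degree_X_pow]; rfl
    have hg : degree (X ^ 2 - C c : K[X]) = 2 := by rw [degree_X_pow_sub_C (by norm_num)]; rfl
    obtain ⟨a, b, hab⟩ := FiniteField.exists_root_sum_quadratic hf hg hodd
    simp only [eval_sub, eval_pow, eval_X, eval_C] at hab
    exact ⟨a, b, by linear_combination -hab⟩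

theorem sl_diag_mul_transvection {ι : Type*} [Fintype ι] [DecidableEq ι] {K : Type*} [Field K]
    (d : Matrix.SpecialLinearGroup ι K) (μ : ι → K)
    (hd : (d : Matrix ι ι K) = Matrix.diagonal μ) {i j : ι} (hij : i ≠ j) (c c' : K) (hc : μ i * c = c' * μ j) :
    d * SpecialLinearGroup.transvection hij c = SpecialLinearGroup.transvection hij c' * d := by
  have key : (d : Matrix ι ι K) * (SpecialLinearGroup.transvection hij c : Matrix ι ι K) =
      (SpecialLinearGroup.transvection hij c' : Matrix ι ι K) * (d : Matrix ι ι K) := by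
    rw [SpecialLinearGroup.transvection_coe, SpecialLinearGroup.transvection_coe, mul_add, add_mul,
      mul_one, one_mul, hd]
    congr 1
    ext a b
    rw [Matrix.diagonal_mul, Matrix.mul_diagonal]
    simp only [Matrix.single_apply]
    by_cases h : i = a ∧ j = b
    · rw [if_pos h, if_pos h, ← h.1, ← h.2, hc]
    · rw [if_neg h, if_neg h, mul_zero, zero_mul]
  have e1 : ((d * SpecialLinearGroup.transvection hij c : Matrix.SpecialLinearGroup ι K) : Matrix ι ι K) =
      ((SpecialLinearGroup.transvection hij c' * d : Matrix.SpecialLinearGroup ι K) : Matrix ι ι K) :=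
    (Matrix.SpecialLinearGroup.coe_mul _ _).trans (key.trans (Matrix.SpecialLinearGroup.coe_mul _ _).symm)
  exact Subtype.ext e1

theorem sl_w_entries {K : Type*} [Field K] (n : ℕ)
    (w : Matrix.SpecialLinearGroup (Fin (n + 1)) K)
    (hw : (w : Matrix (Fin (n + 1)) (Fin (n + 1)) K) =
      Matrix.of (fun i j => if j.val = i.val + 1 then 1 else if i.val = n ∧ j.val = 0 then (-1) ^ n else 0)) :
    ∃ u : Fin (n + 1) → K, ∀ a b : Fin (n + 1), (w : Matrix (Fin (n + 1)) (Fin (n + 1)) K) a b =
      if b = a + 1 then u a else 0 := by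
  refine ⟨fun a => if a.val = n then (-1) ^ n else 1, ?_⟩
  intro a b
  rw [hw]
  simp only [Matrix.of_apply]
  have hb : b = a + 1 ↔ b.val = (a + 1).val := Fin.ext_iff
  rw [Fin.val_add_one] at hb
  by_cases ha : a.val = n
  · have ha' : a = Fin.last n := Fin.ext (by simp [ha])
    rw [if_pos ha'] at hb
    have h1 : ¬ b.val = a.val + 1 := by have := b.isLt; omega
    rw [if_neg h1]
    by_cases hb0 : b.val = 0
    · rw [if_pos ⟨ha, hb0⟩, if_pos (hb.mpr hb0), if_pos ha]
    · rw [if_neg (fun h => hb0 h.2), if_neg (fun h => hb0 (hb.mp h))]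
  · have ha' : a ≠ Fin.last n := fun h => ha (by simp [h])
    rw [if_neg ha'] at hb
    by_cases hb1 : b.val = a.val + 1
    · rw [if_pos hb1, if_pos (hb.mpr hb1), if_neg ha]
    · rw [if_neg hb1, if_neg (fun h => ha h.1), if_neg (fun h => hb1 (hb.mp h))]

theorem sl_w_conj_diag {K : Type*} [Field K] (n : ℕ)
    (w h : Matrix.SpecialLinearGroup (Fin (n + 1)) K)
    (hw : (w : Matrix (Fin (n + 1)) (Fin (n + 1)) K) =
      Matrix.of (fun i j => if j.val = i.val + 1 then 1 else if i.val = n ∧ j.val = 0 then (-1) ^ n else 0))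
    (l : Fin (n + 1) → K) (hh : (h : Matrix (Fin (n + 1)) (Fin (n + 1)) K) = Matrix.diagonal l) :
    ((w * h * w⁻¹ : Matrix.SpecialLinearGroup (Fin (n + 1)) K) : Matrix (Fin (n + 1)) (Fin (n + 1)) K) =
      Matrix.diagonal (fun i => l (i + 1)) := by
  obtain ⟨u, hu⟩ := sl_w_entries n w hw
  have key : (w : Matrix (Fin (n + 1)) (Fin (n + 1)) K) * (h : Matrix (Fin (n + 1)) (Fin (n + 1)) K) =
      Matrix.diagonal (fun i => l (i + 1)) * (w : Matrix (Fin (n + 1)) (Fin (n + 1)) K) := by
    rw [hh]
    ext a b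
    rw [Matrix.diagonal_mul, Matrix.mul_diagonal, hu]
    by_cases hb : b = a + 1
    · rw [if_pos hb, hb, mul_comm]
    · rw [if_neg hb, zero_mul, mul_zero]
  have e1 : ((w * h * w⁻¹ : Matrix.SpecialLinearGroup (Fin (n + 1)) K) : Matrix (Fin (n + 1)) (Fin (n + 1)) K)
      = (w : Matrix (Fin (n + 1)) (Fin (n + 1)) K) * (h : Matrix (Fin (n + 1)) (Fin (n + 1)) K) *
        ((w⁻¹ : Matrix.SpecialLinearGroup (Fin (n + 1)) K) : Matrix (Fin (n + 1)) (Fin (n + 1)) K) :=
    (Matrix.SpecialLinearGroup.coe_mul _ _).trans (by rw [Matrix.SpecialLinearGroup.coe_mul])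
  have e2 : (w : Matrix (Fin (n + 1)) (Fin (n + 1)) K) *
      ((w⁻¹ : Matrix.SpecialLinearGroup (Fin (n + 1)) K) : Matrix (Fin (n + 1)) (Fin (n + 1)) K) = 1 := by
    have := (Matrix.SpecialLinearGroup.coe_mul w w⁻¹).symm
    rw [this, mul_inv_cancel]
    rfl
  rw [e1, key, Matrix.mul_assoc, e2, Matrix.mul_one]


/-- S2402 -/
theorem sl_gen_h_xw {K : Type*} [Field K] [Fintype K] (hK : 3 < Fintype.card K) (n : ℕ) (hn : 1 ≤ n)
    (k : Kˣ) (hk : ∀ u : Kˣ, u ∈ Subgroup.zpowers k)
    (h x w : Matrix.SpecialLinearGroup (Fin (n + 1)) K)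
    (hh : (h : Matrix (Fin (n + 1)) (Fin (n + 1)) K) =
      Matrix.diagonal (fun i => if i.val = 0 then (k : K) else if i.val = 1 then ((k⁻¹ : Kˣ) : K) else 1))
    (hx : (x : Matrix (Fin (n + 1)) (Fin (n + 1)) K) = Matrix.transvection (0 : Fin (n + 1)) (1 : Fin (n + 1)) 1)
    (hw : (w : Matrix (Fin (n + 1)) (Fin (n + 1)) K) =
      Matrix.of (fun i j => if j.val = i.val + 1 then 1 else if i.val = n ∧ j.val = 0 then (-1) ^ n else 0)) :
    Subgroup.closure ({h, x * w} : Set (Matrix.SpecialLinearGroup (Fin (n + 1)) K)) = ⊤ := by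
  classical
  obtain ⟨H, hH⟩ : ∃ H : Subgroup (Matrix.SpecialLinearGroup (Fin (n + 1)) K),
      H = Subgroup.closure ({h, x * w} : Set (Matrix.SpecialLinearGroup (Fin (n + 1)) K)) := ⟨_, rfl⟩
  rw [← hH]
  have hhH : h ∈ H := by rw [hH]; exact Subgroup.subset_closure (by simp)
  have hgH : x * w ∈ H := by rw [hH]; exact Subgroup.subset_closure (by simp)
  have h10 : (1 : Fin (n + 1)) ≠ 0 := by
    intro h
    rw [Fin.one_eq_zero_iff] at h
    omega
  have h01 : (0 : Fin (n + 1)) ≠ 1 := h10.symm
  have hval1 : (1 : Fin (n + 1)).val = 1 := by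
    rw [Fin.val_one']
    exact Nat.mod_eq_of_lt (by omega)
  -- notation
  obtain ⟨l, hl⟩ : ∃ l : Fin (n + 1) → K, l = fun i : Fin (n + 1) => if i.val = 0 then (k : K) else if i.val = 1 then ((k⁻¹ : Kˣ) : K) else 1 := ⟨_, rfl⟩
  rw [← hl] at hh
  have hkk : (k : K) * ((k⁻¹ : Kˣ) : K) = 1 := by rw [← Units.val_mul, mul_inv_cancel, Units.val_one]
  have hk0 : (k : K) ≠ 0 := k.ne_zero
  have hl0 : l 0 = (k : K) := by rw [hl]; simp
  have hl1 : l 1 = ((k⁻¹ : Kˣ) : K) := by
    have : l 1 = if (1 : Fin (n + 1)).val = 0 then (k : K) else if (1 : Fin (n + 1)).val = 1 then ((k⁻¹ : Kˣ) : K) else 1 := by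
      rw [hl]
    rw [this, hval1, if_neg one_ne_zero, if_pos rfl]
  -- k² ≠ 1
  have hk2 : (k : K) ^ 2 ≠ 1 := by
    intro h2
    have h2' : k ^ 2 = 1 := by
      apply Units.ext
      rw [Units.val_pow_eq_pow_val, h2, Units.val_one]
    have hord : orderOf k = Fintype.card Kˣ := by
      rw [← Nat.card_eq_fintype_card]; exact orderOf_eq_card_of_forall_mem_zpowers hk
    have hdvd : orderOf k ∣ 2 := orderOf_dvd_of_pow_eq_one h2'
    have hle := Nat.le_of_dvd (by norm_num) hdvd
    rw [hord, Fintype.card_units] at hle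
    omega
  have hk1 : (k : K) ≠ 1 := fun h1 => hk2 (by rw [h1]; ring)
  -- the second diagonal element
  obtain ⟨h₁, hh₁def⟩ : ∃ h₁ : Matrix.SpecialLinearGroup (Fin (n + 1)) K, h₁ = w * h * w⁻¹ := ⟨_, rfl⟩
  have hh₁ : (h₁ : Matrix (Fin (n + 1)) (Fin (n + 1)) K) = Matrix.diagonal (fun i => l (i + 1)) := by
    rw [hh₁def]; exact sl_w_conj_diag n w h hw l hh
  -- r = μ 1 / μ 0
  obtain ⟨r, hr⟩ : ∃ r : K, r = l (1 + 1) * (k : K) := ⟨_, rfl⟩
  have hr01 : r ≠ 0 ∧ r ≠ 1 := by
    by_cases hn1 : n = 1
    · subst hn1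
      have : l (1 + 1) = (k : K) := by rw [hl]; rfl
      rw [hr, this]
      refine ⟨mul_ne_zero hk0 hk0, ?_⟩
      rw [← sq]; exact hk2
    · have hv : ((1 : Fin (n + 1)) + 1).val = 2 := by
        rw [Fin.val_add, hval1]
        exact Nat.mod_eq_of_lt (by omega)
      have : l (1 + 1) = 1 := by rw [hl]; simp [hv]
      rw [hr, this, one_mul]
      exact ⟨hk0, hk1⟩
  have hcomm : h * h₁ = h₁ * h := by
    have e1 : ((h * h₁ : Matrix.SpecialLinearGroup (Fin (n + 1)) K) : Matrix (Fin (n + 1)) (Fin (n + 1)) K) =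
        ((h₁ * h : Matrix.SpecialLinearGroup (Fin (n + 1)) K) : Matrix (Fin (n + 1)) (Fin (n + 1)) K) := by
      refine (Matrix.SpecialLinearGroup.coe_mul _ _).trans (Eq.trans ?_ (Matrix.SpecialLinearGroup.coe_mul _ _).symm)
      rw [hh, hh₁, Matrix.diagonal_mul_diagonal, Matrix.diagonal_mul_diagonal]
      congr 1
      funext i
      exact mul_comm _ _
    exact Subtype.ext e1
  -- commutation relations with the root subgroup
  have eh : ∀ c : K, h * SpecialLinearGroup.transvection h01 c =
      SpecialLinearGroup.transvection h01 ((k : K) ^ 2 * c) * h := by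
    intro c
    apply sl_diag_mul_transvection h l hh h01
    rw [hl0, hl1]
    linear_combination (-(k : K) * c) * hkk
  have eh₁ : ∀ c : K, h₁ * SpecialLinearGroup.transvection h01 (r * c) =
      SpecialLinearGroup.transvection h01 c * h₁ := by
    intro c
    apply sl_diag_mul_transvection h₁ _ hh₁ h01
    simp only [zero_add]
    rw [hl1, hr]
    linear_combination (l (1 + 1) * c) * hkk
  have hxT : x = SpecialLinearGroup.transvection h01 1 := by
    apply Subtype.ext; rw [hx]; rfl
  have hy : (x * w) * h * (x * w)⁻¹ = h₁ * SpecialLinearGroup.transvection h01 (r - 1) := by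
    have e0 : (x * w) * h * (x * w)⁻¹ = x * h₁ * x⁻¹ := by rw [hh₁def]; group
    have e1 := eh₁ 1
    rw [mul_one] at e1
    rw [e0, hxT, SpecialLinearGroup.transvection_inv, ← e1, mul_assoc,
      ← SpecialLinearGroup.transvection_add, sub_eq_add_neg]
  have hyH : h₁ * SpecialLinearGroup.transvection h01 (r - 1) ∈ H := by
    rw [← hy]; exact H.mul_mem (H.mul_mem hgH hhH) (H.inv_mem hgH)
  obtain ⟨s, hs⟩ : ∃ s : K, s = ((k : K) ^ 2 - 1) * (r - 1) / r := ⟨_, rfl⟩
  have hs0 : s ≠ 0 := by
    rw [hs]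
    exact div_ne_zero (mul_ne_zero (sub_ne_zero.mpr hk2) (sub_ne_zero.mpr hr01.2)) hr01.1
  have hz : h * (h₁ * SpecialLinearGroup.transvection h01 (r - 1)) * h⁻¹ *
      (h₁ * SpecialLinearGroup.transvection h01 (r - 1))⁻¹ = SpecialLinearGroup.transvection h01 s := by
    have e1 : h * (h₁ * SpecialLinearGroup.transvection h01 (r - 1)) =
        h₁ * SpecialLinearGroup.transvection h01 ((k : K) ^ 2 * (r - 1)) * h := by
      rw [← mul_assoc, hcomm, mul_assoc, eh, ← mul_assoc]
    rw [e1, mul_inv_cancel_right, _root_.mul_inv_rev, SpecialLinearGroup.transvection_inv, ← mul_assoc,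
      mul_assoc h₁, ← SpecialLinearGroup.transvection_add, mul_inv_eq_iff_eq_mul, ← eh₁ s]
    congr 2
    rw [hs]
    field_simp [hr01.1]
    ring
  have hsH : SpecialLinearGroup.transvection h01 s ∈ H := by
    rw [← hz]
    exact H.mul_mem (H.mul_mem (H.mul_mem hhH hyH) (H.inv_mem hhH)) (H.inv_mem hyH)
  have hconj : ∀ c : K, SpecialLinearGroup.transvection h01 c ∈ H →
      SpecialLinearGroup.transvection h01 ((k : K) ^ 2 * c) ∈ H := by
    intro c hc
    have : SpecialLinearGroup.transvection h01 ((k : K) ^ 2 * c) =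
        h * SpecialLinearGroup.transvection h01 c * h⁻¹ := by rw [eh, mul_inv_cancel_right]
    rw [this]; exact H.mul_mem (H.mul_mem hhH hc) (H.inv_mem hhH)
  have hpow : ∀ j : ℕ, SpecialLinearGroup.transvection h01 (((k : K) ^ 2) ^ j * s) ∈ H := by
    intro j
    induction j with
    | zero => simpa using hsH
    | succ j ih =>
      have := hconj _ ih
      rwa [← mul_assoc, ← pow_succ'] at this
  have hsq : ∀ a : K, SpecialLinearGroup.transvection h01 (a ^ 2 * s) ∈ H := by
    intro a
    by_cases ha : a = 0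
    · have : a ^ 2 * s = 0 := by rw [ha]; ring
      rw [this, SpecialLinearGroup.transvection_coeff_zero]; exact H.one_mem
    · obtain ⟨j, hj⟩ := (Submonoid.mem_powers_iff _ _).mp (mem_powers_iff_mem_zpowers.mpr (hk (Units.mk0 a ha)))
      have haj : a = (k : K) ^ j := by
        have := congrArg Units.val hj
        rw [Units.val_pow_eq_pow_val, Units.val_mk0] at this
        exact this.symm
      have e : a ^ 2 = ((k : K) ^ 2) ^ j := by rw [haj]; ring
      rw [e]; exact hpow j
  have hall : ∀ c : K, SpecialLinearGroup.transvection h01 c ∈ H := by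
    intro c
    obtain ⟨a, b, hab⟩ := field_sum_two_squares (c / s)
    have : c = a ^ 2 * s + b ^ 2 * s := by
      have := (div_eq_iff hs0).mp hab
      rw [this]; ring
    rw [this, SpecialLinearGroup.transvection_add]; exact H.mul_mem (hsq a) (hsq b)
  have hxH : x ∈ H := by rw [hxT]; exact hall 1
  have hwH : w ∈ H := by
    have : w = x⁻¹ * (x * w) := by group
    rw [this]; exact H.mul_mem (H.inv_mem hxH) hgH
  exact sl_gen_of_root_subgroup n hn w hw H hwH (fun _ c => hall c)


end Cfsg.Agent.helper12
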