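import Mathlib
import Cfsg.Agent.Lib_helper12_Card

/-! The upper unitriangular subgroup of `SL_n(F)` over a finite field: its order and the fact
that it is a Sylow `p`-subgroup. -/

set_option autoImplicit false

namespace Cfsg.Agent.helper14

open Matrix

section unitri
variable {n : ℕ} {F : Type*} [Field F]

/-- strictly upper triangular matrices -/
def IsSU (A : Matrix (Fin n) (Fin n) F) : Prop := ∀ i j, j ≤ i → A i j = 0

theorem IsSU.zero : IsSU (0 : Matrix (Fin n) (Fin n) F) := fun _ _ _ => rfl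

theorem IsSU.add {A B : Matrix (Fin n) (Fin n) F} (hA : IsSU A) (hB : IsSU B) : IsSU (A + B) := by
  intro i j hij
  rw [Matrix.add_apply, hA i j hij, hB i j hij, add_zero]

theorem IsSU.mul {A B : Matrix (Fin n) (Fin n) F} (hA : IsSU A) (hB : IsSU B) : IsSU (A * B) := by
  intro i j hij
  rw [Matrix.mul_apply]
  apply Finset.sum_eq_zero
  intro k _
  by_cases hk : k ≤ i
  · rw [hA i k hk, zero_mul]
  · rw [hB k j (le_trans hij (le_of_lt (not_le.mp hk))), mul_zero]

/-- the upper unitriangular matrices, as a submonoid -/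
def UUm (n : ℕ) (F : Type*) [Field F] : Submonoid (SpecialLinearGroup (Fin n) F) where
  carrier := {u | IsSU ((u : Matrix (Fin n) (Fin n) F) - 1)}
  one_mem' := by
    show IsSU (((1 : SpecialLinearGroup (Fin n) F) : Matrix (Fin n) (Fin n) F) - 1)
    rw [Matrix.SpecialLinearGroup.coe_one, sub_self]
    exact IsSU.zero
  mul_mem' := by
    intro u v hu hv
    show IsSU (((u * v : SpecialLinearGroup (Fin n) F) : Matrix (Fin n) (Fin n) F) - 1)
    have e : ((u * v : SpecialLinearGroup (Fin n) F) : Matrix (Fin n) (Fin n) F) - 1 =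
        ((u : Matrix (Fin n) (Fin n) F) - 1) + ((v : Matrix (Fin n) (Fin n) F) - 1) +
          ((u : Matrix (Fin n) (Fin n) F) - 1) * ((v : Matrix (Fin n) (Fin n) F) - 1) := by
      rw [Matrix.SpecialLinearGroup.coe_mul]
      noncomm_ring
    rw [e]
    exact (IsSU.add hu hv).add (IsSU.mul hu hv)

/-- the upper unitriangular subgroup -/
def UU (n : ℕ) (F : Type*) [Field F] [Finite F] : Subgroup (SpecialLinearGroup (Fin n) F) :=
  { UUm n F with
    inv_mem' := by
      intro u hu
      have h1 : u⁻¹ = u ^ (orderOf u - 1) := by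
        rw [inv_eq_iff_mul_eq_one, ← pow_succ', Nat.sub_add_cancel (orderOf_pos u),
          pow_orderOf_eq_one]
      show u⁻¹ ∈ UUm n F
      rw [h1]
      exact (UUm n F).pow_mem hu _ }

theorem mem_UU [Finite F] (u : SpecialLinearGroup (Fin n) F) :
    u ∈ UU n F ↔ IsSU ((u : Matrix (Fin n) (Fin n) F) - 1) := Iff.rfl

theorem UU_entry_lt [Finite F] {u : SpecialLinearGroup (Fin n) F} (hu : u ∈ UU n F)
    {i j : Fin n} (h : j < i) : u i j = 0 := by
  have := hu i j (le_of_lt h)
  rw [Matrix.sub_apply, Matrix.one_apply_ne (ne_of_gt h), sub_zero] at this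
  exact this

theorem UU_entry_diag [Finite F] {u : SpecialLinearGroup (Fin n) F} (hu : u ∈ UU n F)
    (i : Fin n) : u i i = 1 := by
  have := hu i i le_rfl
  rw [Matrix.sub_apply, Matrix.one_apply_eq, sub_eq_zero] at this
  exact this

/-- the matrix with prescribed strictly upper triangular part -/
def uMat (f : {x : Fin n × Fin n // x.2 < x.1} → F) : Matrix (Fin n) (Fin n) F :=
  Matrix.of fun i j => if h : i < j then f ⟨(j, i), h⟩ else if i = j then 1 else 0

theorem uMat_det (f : {x : Fin n × Fin n // x.2 < x.1} → F) : (uMat f).det = 1 := by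
  rw [Matrix.det_of_upperTriangular]
  · apply Finset.prod_eq_one
    intro i _
    show (if h : i < i then f ⟨(i, i), h⟩ else if i = i then 1 else 0) = 1
    rw [dif_neg (lt_irrefl i), if_pos rfl]
  · intro i j hij
    show (if h : i < j then f ⟨(j, i), h⟩ else if i = j then 1 else 0) = 0
    have hij' : j < i := hij
    have h1 : ¬ i < j := not_lt.mpr (le_of_lt hij')
    rw [dif_neg h1, if_neg (ne_of_gt hij')]

theorem uMat_isSU (f : {x : Fin n × Fin n // x.2 < x.1} → F) : IsSU (uMat f - 1) := by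
  intro i j hij
  rw [Matrix.sub_apply]
  show (if h : i < j then f ⟨(j, i), h⟩ else if i = j then 1 else 0) - (1 : Matrix _ _ F) i j = 0
  rw [dif_neg (not_lt.mpr hij)]
  by_cases h : i = j
  · subst h
    rw [if_pos rfl, Matrix.one_apply_eq, sub_self]
  · rw [if_neg h, Matrix.one_apply_ne h, sub_zero]

/-- parametrisation of the unitriangular group -/
def UUequiv [Finite F] : ↥(UU n F) ≃ ({x : Fin n × Fin n // x.2 < x.1} → F) where
  toFun u x := (u : SpecialLinearGroup (Fin n) F) x.1.2 x.1.1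
  invFun f := ⟨⟨uMat f, uMat_det f⟩, uMat_isSU f⟩
  left_inv := by
    rintro ⟨u, hu⟩
    apply Subtype.ext
    apply Subtype.ext
    ext i j
    show (if h : i < j then u i j else if i = j then 1 else 0) = u i j
    by_cases h : i < j
    · rw [dif_pos h]
    · rw [dif_neg h]
      by_cases h' : i = j
      · subst h'
        rw [if_pos rfl, UU_entry_diag hu]
      · rw [if_neg h', UU_entry_lt hu (lt_of_le_of_ne (not_lt.mp h) (Ne.symm h'))]
  right_inv := by
    intro f
    funext x
    obtain ⟨⟨j, i⟩, h⟩ := x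
    show (if h : i < j then f ⟨(j, i), h⟩ else if i = j then 1 else 0) = f ⟨(j, i), h⟩
    rw [dif_pos h]

theorem card_pairs (n : ℕ) :
    Fintype.card {x : Fin n × Fin n // x.2 < x.1} = ∑ i : Fin n, (i : ℕ) := by
  rw [Fintype.card_congr (Equiv.subtypeProdEquivSigmaSubtype fun a b : Fin n => b < a),
    Fintype.card_sigma]
  apply Finset.sum_congr rfl
  intro a _
  rw [Fintype.card_subtype]
  have : (Finset.univ.filter fun b : Fin n => b < a) = Finset.Iio a := by
    ext b
    simp
  rw [this, Fin.card_Iio]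

theorem card_UU [Fintype F] :
    Nat.card ↥(UU n F) = Fintype.card F ^ (∑ i : Fin n, (i : ℕ)) := by
  rw [Nat.card_congr UUequiv, Nat.card_eq_fintype_card, Fintype.card_fun, card_pairs]

theorem card_GL_split [Fintype F] (n : ℕ) :
    Nat.card (GL (Fin n) F) = Fintype.card F ^ (∑ i : Fin n, (i : ℕ)) *
      ∏ i : Fin n, (Fintype.card F ^ (n - (i : ℕ)) - 1) := by
  rw [Matrix.card_GL_field, ← Finset.prod_pow_eq_pow_sum, ← Finset.prod_mul_distrib]
  apply Finset.prod_congr rfl
  intro i _
  rw [Nat.mul_sub, mul_one, ← pow_add, Nat.add_sub_cancel' (le_of_lt i.2)]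

theorem not_dvd_index_UU [Fintype F] {p f : ℕ} [hp : Fact p.Prime]
    (hF : Fintype.card F = p ^ f) (hf : 1 ≤ f) (hn : 1 ≤ n) : ¬ p ∣ (UU n F).index := by
  intro hdvd
  have h1 := Cfsg.Agent.helper12.card_GL_eq_card_SL_mul (F := F) n hn
  have h2 := Subgroup.card_mul_index (UU n F)
  rw [card_GL_split, ← h2, card_UU, mul_assoc] at h1
  have hq : 0 < Fintype.card F ^ (∑ i : Fin n, (i : ℕ)) := pow_pos Fintype.card_pos _
  have h3 := Nat.eq_of_mul_eq_mul_left hq h1
  have h4 : p ∣ ∏ i : Fin n, (Fintype.card F ^ (n - (i : ℕ)) - 1) := by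
    rw [h3]
    exact Dvd.dvd.mul_right hdvd _
  rw [Prime.dvd_finsetProd_iff (Nat.Prime.prime hp.out)] at h4
  obtain ⟨i, -, hi⟩ := h4
  have hk : 1 ≤ n - (i : ℕ) := by
    have := i.2
    omega
  have h5 : p ∣ Fintype.card F ^ (n - (i : ℕ)) := by
    rw [hF, ← pow_mul]
    exact dvd_pow_self p (by positivity)
  have h6 : 1 ≤ Fintype.card F ^ (n - (i : ℕ)) := Nat.one_le_pow _ _ Fintype.card_pos
  have h7 : p ∣ 1 := by
    have := (Nat.dvd_sub h5 hi)
    rwa [Nat.sub_sub_self h6] at this
  exact hp.out.one_lt.ne' (Nat.dvd_one.mp h7)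

theorem isPGroup_UU [Fintype F] {p f : ℕ} [hp : Fact p.Prime]
    (hF : Fintype.card F = p ^ f) : IsPGroup p ↥(UU n F) := by
  apply IsPGroup.of_card (n := f * ∑ i : Fin n, (i : ℕ))
  rw [card_UU, hF, pow_mul]

/-- the unitriangular group as a Sylow subgroup of `SL_n` -/
noncomputable def sylUU [Fintype F] {p f : ℕ} [hp : Fact p.Prime]
    (hF : Fintype.card F = p ^ f) (hf : 1 ≤ f) (hn : 1 ≤ n) :
    Sylow p (SpecialLinearGroup (Fin n) F) :=
  (isPGroup_UU hF).toSylow (not_dvd_index_UU hF hf hn)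

theorem sylUU_coe [Fintype F] {p f : ℕ} [hp : Fact p.Prime]
    (hF : Fintype.card F = p ^ f) (hf : 1 ≤ f) (hn : 1 ≤ n) :
    ((sylUU hF hf hn : Sylow p (SpecialLinearGroup (Fin n) F)) :
      Subgroup (SpecialLinearGroup (Fin n) F)) = UU n F :=
  IsPGroup.toSylow_coe _ _

end unitri

end Cfsg.Agent.helper14
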