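import Mathlib

/-! General constructions: automorphisms induced on `G'/Z(G')`, automorphisms of perfect groups
trivial modulo the centre, and lifting a homomorphism to the range of another one. -/

set_option autoImplicit false

namespace Cfsg.Agent.helper13

section general

/-- automorphisms act on the quotient by a characteristic subgroup -/
def quotAut {H : Type*} [Group H] (K : Subgroup H) [K.Characteristic] :
    MulAut H →* MulAut (H ⧸ K) where
  toFun φ := QuotientGroup.congr K K φ (Subgroup.characteristic_iff_map_eq.mp inferInstance φ)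
  map_one' := by
    ext x
    induction x using QuotientGroup.induction_on
    rfl
  map_mul' φ ψ := by
    ext x
    induction x using QuotientGroup.induction_on
    rfl

theorem quotAut_mk {H : Type*} [Group H] (K : Subgroup H) [K.Characteristic] (φ : MulAut H)
    (x : H) : quotAut K φ (QuotientGroup.mk x) = QuotientGroup.mk (φ x) := rfl

theorem commutator_char (G : Type*) [Group G] : (commutator G).Characteristic := by
  rw [commutator_def]
  infer_instance

/-- automorphisms of `G` act on `G'/Z(G')` -/
noncomputable def pcAut (G : Type*) [Group G] :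
    MulAut G →* MulAut (commutator G ⧸ Subgroup.center (commutator G)) :=
  haveI := commutator_char G
  (quotAut (Subgroup.center (commutator G))).comp (MulAut.characteristic (commutator G))

theorem pcAut_mk (G : Type*) [Group G] (φ : MulAut G) (x y : commutator G)
    (hy : (y : G) = φ (x : G)) :
    pcAut G φ (QuotientGroup.mk x) = QuotientGroup.mk y := by
  haveI := commutator_char G
  have : y = MulAut.characteristic (commutator G) φ x := Subtype.ext hy
  rw [this]
  rfl

/-- an automorphism of a perfect group which is trivial modulo the centre is trivial -/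
theorem aut_eq_one_of_perfect {G : Type*} [Group G] (hG : commutator G = ⊤) (α : MulAut G)
    (hα : ∀ s : G, s⁻¹ * α s ∈ Subgroup.center G) : α = 1 := by
  obtain ⟨c, hc⟩ : ∃ c : G →* ↥(Subgroup.center G), ∀ s, ((c s : ↥(Subgroup.center G)) : G) =
      s⁻¹ * α s := by
    refine ⟨{ toFun := fun s => ⟨s⁻¹ * α s, hα s⟩, map_one' := ?_, map_mul' := ?_ }, fun s => rfl⟩
    · apply Subtype.ext
      simp
    · intro s t
      apply Subtype.ext
      show (s * t)⁻¹ * α (s * t) = (s⁻¹ * α s) * (t⁻¹ * α t)
      have hcomm : t⁻¹ * (s⁻¹ * α s) = (s⁻¹ * α s) * t⁻¹ :=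
        ((Subgroup.mem_center_iff.mp (hα s)) t⁻¹)
      rw [_root_.mul_inv_rev, map_mul]
      calc t⁻¹ * s⁻¹ * (α s * α t) = (t⁻¹ * (s⁻¹ * α s)) * α t := by group
        _ = ((s⁻¹ * α s) * t⁻¹) * α t := by rw [hcomm]
        _ = (s⁻¹ * α s) * (t⁻¹ * α t) := by group
  have hker : c.ker = ⊤ := by
    rw [eq_top_iff, ← hG, commutator_def, Subgroup.commutator_le]
    intro a _ b _
    rw [MonoidHom.mem_ker, map_commutatorElement, commutatorElement_eq_one_iff_commute]
    apply Subtype.ext
    exact (Subgroup.mem_center_iff.mp (c b).2 (c a).1)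
  ext s
  have h1 : c s = 1 := by
    have : s ∈ c.ker := by rw [hker]; trivial
    exact MonoidHom.mem_ker.mp this
  have h3 := hc s
  rw [h1] at h3
  have h4 : s⁻¹ * α s = 1 := h3.symm
  rw [MulAut.one_apply]
  exact (inv_mul_eq_one.mp h4).symm

/-- lifting a homomorphism through the range of another one -/
theorem exists_range_lift {A B C : Type*} [Group A] [Group B] [Group C] (Φ : A →* B) (ψ : A →* C)
    (h : Φ.ker ≤ ψ.ker) : ∃ φ : ↥Φ.range →* C, ∀ (a : A) (b : ↥Φ.range), (b : B) = Φ a → φ b = ψ a := by
  refine ⟨(QuotientGroup.lift Φ.ker ψ h).comp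
    (QuotientGroup.quotientKerEquivRange Φ).symm.toMonoidHom, ?_⟩
  intro a b hb
  have h1 : (QuotientGroup.quotientKerEquivRange Φ) (QuotientGroup.mk a) = b := by
    apply Subtype.ext
    rw [hb]
    rfl
  have h3 : (QuotientGroup.quotientKerEquivRange Φ).symm b = QuotientGroup.mk a := by
    rw [← h1, MulEquiv.symm_apply_apply]
  show (QuotientGroup.lift Φ.ker ψ h) ((QuotientGroup.quotientKerEquivRange Φ).symm b) = ψ a
  rw [h3]
  rfl

end general

end Cfsg.Agent.helper13
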