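import Mathlib
import Cfsg.Prelude.Def_LieTypeDatum
import Cfsg.Agent.Lib_helper13_AutO1

/-! The action of `GL_n(F)` on `PSL_n(F)` by conjugation: the homomorphism `PhiL`, its kernel
(the scalar matrices), the inner-diagonal group as its range, and the effect of the
inverse-transpose automorphism. -/

set_option autoImplicit false

namespace Cfsg.Agent.helper14

open Matrix Cfsg.Agent.helper13

section pslA
variable {n : ℕ} {F : Type*} [Field F]

theorem gl_inv_mul (g : GL (Fin n) F) :
    ((g⁻¹ : GL (Fin n) F) : Matrix (Fin n) (Fin n) F) * (g : Matrix (Fin n) (Fin n) F) = 1 := by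
  rw [← Units.val_mul, inv_mul_cancel, Units.val_one]

theorem gl_mul_inv (g : GL (Fin n) F) :
    (g : Matrix (Fin n) (Fin n) F) * ((g⁻¹ : GL (Fin n) F) : Matrix (Fin n) (Fin n) F) = 1 := by
  rw [← Units.val_mul, mul_inv_cancel, Units.val_one]

/-- conjugation by an invertible matrix on `SL_n` -/
def conjSLfun (g : GL (Fin n) F) (s : SpecialLinearGroup (Fin n) F) :
    SpecialLinearGroup (Fin n) F :=
  ⟨(g : Matrix (Fin n) (Fin n) F) * (s : Matrix (Fin n) (Fin n) F) *
      ((g⁻¹ : GL (Fin n) F) : Matrix (Fin n) (Fin n) F), by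
    rw [det_mul, det_mul, s.2, mul_one, ← det_mul, gl_mul_inv, det_one]⟩

theorem conjSLfun_val (g : GL (Fin n) F) (s : SpecialLinearGroup (Fin n) F) :
    ((conjSLfun g s : SpecialLinearGroup (Fin n) F) : Matrix (Fin n) (Fin n) F) =
      (g : Matrix (Fin n) (Fin n) F) * (s : Matrix (Fin n) (Fin n) F) *
        ((g⁻¹ : GL (Fin n) F) : Matrix (Fin n) (Fin n) F) := rfl

theorem conjSLfun_mul (g : GL (Fin n) F) (s t : SpecialLinearGroup (Fin n) F) :
    conjSLfun g (s * t) = conjSLfun g s * conjSLfun g t := by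
  have h : ((conjSLfun g (s * t) : SpecialLinearGroup (Fin n) F) : Matrix (Fin n) (Fin n) F) =
      ((conjSLfun g s * conjSLfun g t : SpecialLinearGroup (Fin n) F) :
        Matrix (Fin n) (Fin n) F) := by
    rw [Matrix.SpecialLinearGroup.coe_mul, conjSLfun_val, conjSLfun_val, conjSLfun_val,
      Matrix.SpecialLinearGroup.coe_mul]
    calc (g : Matrix (Fin n) (Fin n) F) * ((s : Matrix (Fin n) (Fin n) F) * (t : Matrix (Fin n) (Fin n) F)) *
          ((g⁻¹ : GL (Fin n) F) : Matrix (Fin n) (Fin n) F)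
        = (g : Matrix (Fin n) (Fin n) F) * (s : Matrix (Fin n) (Fin n) F) * (1 : Matrix (Fin n) (Fin n) F) *
            (t : Matrix (Fin n) (Fin n) F) * ((g⁻¹ : GL (Fin n) F) : Matrix (Fin n) (Fin n) F) := by
          rw [Matrix.mul_one]
          simp only [Matrix.mul_assoc]
      _ = _ := by
          rw [← gl_inv_mul g]
          simp only [Matrix.mul_assoc]
  exact Subtype.ext h

theorem conjSLfun_conj (g h : GL (Fin n) F) (s : SpecialLinearGroup (Fin n) F) :
    conjSLfun g (conjSLfun h s) = conjSLfun (g * h) s := by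
  have e : ((conjSLfun g (conjSLfun h s) : SpecialLinearGroup (Fin n) F) :
      Matrix (Fin n) (Fin n) F) =
      ((conjSLfun (g * h) s : SpecialLinearGroup (Fin n) F) : Matrix (Fin n) (Fin n) F) := by
    rw [conjSLfun_val, conjSLfun_val, conjSLfun_val, _root_.mul_inv_rev, Units.val_mul,
      Units.val_mul]
    simp only [Matrix.mul_assoc]
  exact Subtype.ext e

theorem conjSLfun_one (s : SpecialLinearGroup (Fin n) F) : conjSLfun (1 : GL (Fin n) F) s = s := by
  have e : ((conjSLfun (1 : GL (Fin n) F) s : SpecialLinearGroup (Fin n) F) :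
      Matrix (Fin n) (Fin n) F) = (s : Matrix (Fin n) (Fin n) F) := by
    rw [conjSLfun_val, inv_one, Units.val_one, Matrix.one_mul, Matrix.mul_one]
  exact Subtype.ext e

/-- conjugation as an automorphism of `SL_n` -/
def conjSL (g : GL (Fin n) F) :
    SpecialLinearGroup (Fin n) F ≃* SpecialLinearGroup (Fin n) F where
  toFun := conjSLfun g
  invFun := conjSLfun g⁻¹
  left_inv s := by rw [conjSLfun_conj, inv_mul_cancel, conjSLfun_one]
  right_inv s := by rw [conjSLfun_conj, mul_inv_cancel, conjSLfun_one]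
  map_mul' := conjSLfun_mul g

/-- the conjugation action of `GL_n` on `SL_n` -/
def conjSLHom : GL (Fin n) F →* MulAut (SpecialLinearGroup (Fin n) F) where
  toFun := conjSL
  map_one' := by
    ext s : 1
    exact conjSLfun_one s
  map_mul' g h := by
    ext s : 1
    exact (conjSLfun_conj g h s).symm

/-- the action of `GL_n` on `PSL_n` -/
noncomputable def PhiL : GL (Fin n) F →* MulAut (ProjectiveSpecialLinearGroup (Fin n) F) :=
  (quotAut (Subgroup.center (SpecialLinearGroup (Fin n) F))).comp conjSLHom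

theorem PhiL_mk (g : GL (Fin n) F) (s : SpecialLinearGroup (Fin n) F) :
    PhiL g (QuotientGroup.mk s) = QuotientGroup.mk (conjSLfun g s) := rfl

theorem innerDiag_iff (β : MulAut (ProjectiveSpecialLinearGroup (Fin n) F)) :
    Cfsg.IsInnerDiagonalAutPSL β ↔ ∃ g : GL (Fin n) F, β = PhiL g := by
  constructor
  · rintro ⟨g, hg⟩
    refine ⟨g, ?_⟩
    ext x
    induction x using QuotientGroup.induction_on with
    | H s =>
      rw [PhiL_mk]
      exact hg s (conjSLfun g s) rfl
  · rintro ⟨g, rfl⟩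
    refine ⟨g, ?_⟩
    intro s s' hs
    rw [PhiL_mk]
    congr 1
    have e : ((conjSLfun g s : SpecialLinearGroup (Fin n) F) : Matrix (Fin n) (Fin n) F) =
        (s' : Matrix (Fin n) (Fin n) F) := by rw [hs, conjSLfun_val]
    exact Subtype.ext e

theorem inndiagPSL_eq : Cfsg.inndiagPSL n F = (PhiL (n := n) (F := F)).range := by
  unfold Cfsg.inndiagPSL Cfsg.autSubgroupOf
  have : {β : MulAut (ProjectiveSpecialLinearGroup (Fin n) F) | Cfsg.IsInnerDiagonalAutPSL β} =
      ((PhiL (n := n) (F := F)).range : Set (MulAut (ProjectiveSpecialLinearGroup (Fin n) F))) := by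
    ext β
    rw [Set.mem_ofPred_eq, innerDiag_iff]
    constructor
    · rintro ⟨g, rfl⟩
      exact ⟨g, rfl⟩
    · rintro ⟨g, rfl⟩
      exact ⟨g, rfl⟩
  rw [this, Subgroup.closure_eq]

/-- inverse transpose on `GL_n` -/
def gInvT (g : GL (Fin n) F) : GL (Fin n) F :=
  ⟨((g⁻¹ : GL (Fin n) F) : Matrix (Fin n) (Fin n) F)ᵀ, (g : Matrix (Fin n) (Fin n) F)ᵀ,
    by rw [← Matrix.transpose_mul, gl_mul_inv, Matrix.transpose_one],
    by rw [← Matrix.transpose_mul, gl_inv_mul, Matrix.transpose_one]⟩

theorem gInvT_val (g : GL (Fin n) F) :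
    ((gInvT g : GL (Fin n) F) : Matrix (Fin n) (Fin n) F) =
      ((g⁻¹ : GL (Fin n) F) : Matrix (Fin n) (Fin n) F)ᵀ := rfl

theorem gInvT_inv_val (g : GL (Fin n) F) :
    (((gInvT g)⁻¹ : GL (Fin n) F) : Matrix (Fin n) (Fin n) F) =
      (g : Matrix (Fin n) (Fin n) F)ᵀ := rfl

theorem invT_comm (ι : MulAut (ProjectiveSpecialLinearGroup (Fin n) F))
    (hι : Cfsg.IsInverseTransposeAutPSL ι) (g : GL (Fin n) F) :
    ι * PhiL g = PhiL (gInvT g) * ι := by
  ext x
  induction x using QuotientGroup.induction_on with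
  | H s =>
    rw [MulAut.mul_apply, MulAut.mul_apply, PhiL_mk]
    rw [hι (conjSLfun g s) ((conjSLfun g s)⁻¹).transpose (Matrix.SpecialLinearGroup.coe_transpose _),
      hι s (s⁻¹).transpose (Matrix.SpecialLinearGroup.coe_transpose _), PhiL_mk]
    congr 1
    have e1 : (conjSLfun g s)⁻¹ = conjSLfun g s⁻¹ := (map_inv (conjSL g) s).symm
    have e : ((((conjSLfun g s)⁻¹).transpose : SpecialLinearGroup (Fin n) F) :
        Matrix (Fin n) (Fin n) F) =
        ((conjSLfun (gInvT g) (s⁻¹).transpose : SpecialLinearGroup (Fin n) F) :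
          Matrix (Fin n) (Fin n) F) := by
      rw [e1, Matrix.SpecialLinearGroup.coe_transpose, conjSLfun_val, conjSLfun_val,
        Matrix.SpecialLinearGroup.coe_transpose, gInvT_val, gInvT_inv_val, Matrix.transpose_mul,
        Matrix.transpose_mul, Matrix.mul_assoc]
    exact Subtype.ext e

end pslA

end Cfsg.Agent.helper14
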