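import Mathlib
import Cfsg.Agent.Lib_helper14_PslA

/-! The kernel of `GL_n → Aut(PSL_n)` and the centralizer of the inverse-transpose
automorphism in the inner-diagonal group: the projective similarity group of the sum of
squares. -/

set_option autoImplicit false

namespace Cfsg.Agent.helper14

open Matrix Cfsg.Agent.helper13

section pslB
variable {n : ℕ} {F : Type*} [Field F]

theorem PhiL_scalar (g : GL (Fin n) F) (hg : g ∈ Cfsg.Geo.scalars (Fin n) F) : PhiL g = 1 := by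
  obtain ⟨c, hc⟩ := (Cfsg.Geo.mem_scalars_iff g).mp hg
  ext x
  induction x using QuotientGroup.induction_on with
  | H s =>
    rw [PhiL_mk, MulAut.one_apply]
    congr 1
    have e : ((conjSLfun g s : SpecialLinearGroup (Fin n) F) : Matrix (Fin n) (Fin n) F) =
        (s : Matrix (Fin n) (Fin n) F) := by
      rw [conjSLfun_val]
      have h1 : (g : Matrix (Fin n) (Fin n) F) * (s : Matrix (Fin n) (Fin n) F) =
          (s : Matrix (Fin n) (Fin n) F) * (g : Matrix (Fin n) (Fin n) F) := by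
        rw [hc, Matrix.smul_mul, Matrix.one_mul, Matrix.mul_smul, Matrix.mul_one]
      rw [h1, Matrix.mul_assoc, gl_mul_inv, Matrix.mul_one]
    exact Subtype.ext e

theorem scalar_of_PhiL_eq_one (g : GL (Fin n) F) (h : PhiL g = 1) :
    g ∈ Cfsg.Geo.scalars (Fin n) F := by
  have hcomm : Pairwise fun i j : Fin n =>
      Commute (Matrix.single i j (1 : F)) (g : Matrix (Fin n) (Fin n) F) := by
    intro i j hij
    obtain ⟨T, hT⟩ : ∃ T : SpecialLinearGroup (Fin n) F,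
        (T : Matrix (Fin n) (Fin n) F) = 1 + Matrix.single i j (1 : F) :=
      ⟨⟨Matrix.transvection i j 1, Matrix.det_transvection_of_ne i j hij 1⟩, rfl⟩
    have h1 := DFunLike.congr_fun h (QuotientGroup.mk T)
    rw [PhiL_mk, MulAut.one_apply, eq_comm, QuotientGroup.eq] at h1
    obtain ⟨r, -, hr⟩ := Matrix.SpecialLinearGroup.mem_center_iff.mp h1
    have h3 : conjSLfun g T = T * (T⁻¹ * conjSLfun g T) := by group
    have h4 : ((conjSLfun g T : SpecialLinearGroup (Fin n) F) : Matrix (Fin n) (Fin n) F) =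
        ((T * (T⁻¹ * conjSLfun g T) : SpecialLinearGroup (Fin n) F) :
          Matrix (Fin n) (Fin n) F) := by rw [← h3]
    rw [Matrix.SpecialLinearGroup.coe_mul T, ← hr, conjSLfun_val, hT] at h4
    obtain ⟨E, hE⟩ : ∃ E : Matrix (Fin n) (Fin n) F, E = Matrix.single i j (1 : F) := ⟨_, rfl⟩
    rw [← hE] at h4 ⊢
    have hEE : E * E = 0 := by
      rw [hE]
      exact Matrix.single_mul_single_of_ne (c := (1 : F)) i j i hij.symm (1 : F)
    have hEii : E i i = 0 := by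
      rw [hE]
      apply Matrix.single_apply_of_ne
      rintro ⟨-, h'⟩
      exact hij h'.symm
    obtain ⟨N, hN⟩ : ∃ N : Matrix (Fin n) (Fin n) F, N = (g : Matrix (Fin n) (Fin n) F) * E *
        ((g⁻¹ : GL (Fin n) F) : Matrix (Fin n) (Fin n) F) := ⟨_, rfl⟩
    have hNN : N * N = 0 := by
      rw [hN]
      calc (g : Matrix (Fin n) (Fin n) F) * E * ((g⁻¹ : GL (Fin n) F) : Matrix (Fin n) (Fin n) F) *
            ((g : Matrix (Fin n) (Fin n) F) * E * ((g⁻¹ : GL (Fin n) F) : Matrix (Fin n) (Fin n) F))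
          = (g : Matrix (Fin n) (Fin n) F) * E *
              (((g⁻¹ : GL (Fin n) F) : Matrix (Fin n) (Fin n) F) * (g : Matrix (Fin n) (Fin n) F)) *
              E * ((g⁻¹ : GL (Fin n) F) : Matrix (Fin n) (Fin n) F) := by
            simp only [Matrix.mul_assoc]
        _ = (g : Matrix (Fin n) (Fin n) F) * (E * E) *
              ((g⁻¹ : GL (Fin n) F) : Matrix (Fin n) (Fin n) F) := by
            rw [gl_inv_mul, Matrix.mul_one]
            simp only [Matrix.mul_assoc]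
        _ = 0 := by rw [hEE, Matrix.mul_zero, Matrix.zero_mul]
    have h5 : (1 : Matrix (Fin n) (Fin n) F) + N = (1 + E) * (Matrix.scalar (Fin n)) r := by
      rw [← h4, hN, Matrix.mul_add, Matrix.add_mul, Matrix.mul_one, gl_mul_inv]
    have h6 : N = (r - 1) • (1 : Matrix (Fin n) (Fin n) F) + r • E := by
      have h7 : N = (1 + E) * (Matrix.scalar (Fin n)) r - 1 := eq_sub_of_add_eq' h5
      rw [h7, Matrix.scalar_apply, ← Matrix.smul_one_eq_diagonal, Matrix.mul_smul, Matrix.mul_one]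
      module
    have hsq : N * N = ((r - 1) * (r - 1)) • (1 : Matrix (Fin n) (Fin n) F) +
        (2 * r * (r - 1)) • E := by
      rw [h6]
      simp only [Matrix.add_mul, Matrix.mul_add, Matrix.smul_mul, Matrix.mul_smul, Matrix.one_mul,
        Matrix.mul_one, hEE, smul_zero, add_zero, smul_smul, smul_add]
      module
    have h8 := congrFun (congrFun (hsq.symm.trans hNN) i) i
    simp only [Matrix.add_apply, Matrix.smul_apply, Matrix.one_apply_eq, Matrix.zero_apply,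
      smul_eq_mul, mul_one, hEii, mul_zero, add_zero] at h8
    have hr1 : r = 1 := by
      have := mul_self_eq_zero.mp h8
      linear_combination this
    rw [hr1, sub_self, zero_smul, zero_add, one_smul] at h6
    -- g E g⁻¹ = E
    show E * (g : Matrix (Fin n) (Fin n) F) = (g : Matrix (Fin n) (Fin n) F) * E
    have h9 : (g : Matrix (Fin n) (Fin n) F) * E = N * (g : Matrix (Fin n) (Fin n) F) := by
      rw [hN, Matrix.mul_assoc, gl_inv_mul, Matrix.mul_one]
    rw [h9, h6]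
  by_cases hn : n = 0
  · subst hn
    rw [Cfsg.Geo.mem_scalars_iff]
    exact ⟨1, Subsingleton.elim _ _⟩
  haveI : Nonempty (Fin n) := ⟨⟨0, Nat.pos_of_ne_zero hn⟩⟩
  obtain ⟨c, hc⟩ := Matrix.mem_range_scalar_of_commute_single hcomm
  have hc0 : c ≠ 0 := by
    rintro rfl
    rw [map_zero] at hc
    have h1 := gl_mul_inv g
    rw [← hc, Matrix.zero_mul] at h1
    have h2 := congrArg Matrix.det h1
    rw [Matrix.det_one, Matrix.det_zero] at h2
    exact zero_ne_one h2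
  rw [Cfsg.Geo.mem_scalars_iff]
  refine ⟨Units.mk0 c hc0, ?_⟩
  rw [← hc, Units.val_mk0, Matrix.scalar_apply, Matrix.smul_one_eq_diagonal]

theorem PhiL_ker : (PhiL (n := n) (F := F)).ker = Cfsg.Geo.scalars (Fin n) F := by
  ext g
  rw [MonoidHom.mem_ker]
  exact ⟨scalar_of_PhiL_eq_one g, PhiL_scalar g⟩

/-- the sum of squares -/
def sumSq (n : ℕ) (F : Type*) [Field F] (v : Fin n → F) : F := ∑ i, v i * v i

theorem sumSq_mulVec (M : Matrix (Fin n) (Fin n) F) (v : Fin n → F) :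
    sumSq n F (M *ᵥ v) = v ⬝ᵥ ((Mᵀ * M) *ᵥ v) := by
  calc sumSq n F (M *ᵥ v) = (M *ᵥ v) ⬝ᵥ (M *ᵥ v) := rfl
    _ = (v ᵥ* Mᵀ) ⬝ᵥ (M *ᵥ v) := by rw [Matrix.vecMul_transpose]
    _ = v ⬝ᵥ (Mᵀ *ᵥ (M *ᵥ v)) := (Matrix.dotProduct_mulVec v Mᵀ (M *ᵥ v)).symm
    _ = v ⬝ᵥ ((Mᵀ * M) *ᵥ v) := by rw [Matrix.mulVec_mulVec]

theorem mem_simSumSq_iff (h2 : (2 : F) ≠ 0) (g : GL (Fin n) F) :
    g ∈ Cfsg.Geo.quadSimilarityGroup (sumSq n F) ↔
      ∃ c : Fˣ, (g : Matrix (Fin n) (Fin n) F)ᵀ * (g : Matrix (Fin n) (Fin n) F) =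
        (c : F) • (1 : Matrix (Fin n) (Fin n) F) := by
  constructor
  · rintro ⟨c, hc⟩
    refine ⟨c, ?_⟩
    obtain ⟨S, hS⟩ : ∃ S : Matrix (Fin n) (Fin n) F,
        S = (g : Matrix (Fin n) (Fin n) F)ᵀ * (g : Matrix (Fin n) (Fin n) F) -
          (c : F) • (1 : Matrix (Fin n) (Fin n) F) := ⟨_, rfl⟩
    have hSt : Sᵀ = S := by
      rw [hS, Matrix.transpose_sub, Matrix.transpose_mul, Matrix.transpose_transpose,
        Matrix.transpose_smul, Matrix.transpose_one]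
    have hS0 : ∀ v : Fin n → F, v ⬝ᵥ (S *ᵥ v) = 0 := by
      intro v
      have h1 := hc v
      rw [sumSq_mulVec] at h1
      rw [hS, Matrix.sub_mulVec, dotProduct_sub, h1, Matrix.smul_mulVec, Matrix.one_mulVec,
        dotProduct_smul, smul_eq_mul]
      show (c : F) * sumSq n F v - (c : F) * (v ⬝ᵥ v) = 0
      rw [sub_eq_zero]
      rfl
    have hSij : ∀ i j, S i j = 0 := by
      intro i j
      have e : ∀ a b : Fin n, (Pi.single a (1 : F)) ⬝ᵥ (S *ᵥ (Pi.single b (1 : F))) = S a b := by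
        intro a b
        rw [Matrix.mulVec_single_one, single_one_dotProduct]
        rfl
      have h1 := hS0 (Pi.single i 1 + Pi.single j 1)
      rw [Matrix.mulVec_add, add_dotProduct, dotProduct_add, dotProduct_add, hS0, hS0, e, e] at h1
      have h3 : S j i = S i j := by
        have := congrFun (congrFun hSt i) j
        rwa [Matrix.transpose_apply] at this
      rw [h3] at h1
      have h4 : 2 * S i j = 0 := by linear_combination h1
      rcases mul_eq_zero.mp h4 with h | h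
      · exact absurd h h2
      · exact h
    have hSz : S = 0 := by
      ext i j
      exact hSij i j
    rw [hS, sub_eq_zero] at hSz
    exact hSz
  · rintro ⟨c, hc⟩
    refine ⟨c, fun v => ?_⟩
    rw [sumSq_mulVec, hc, Matrix.smul_mulVec, Matrix.one_mulVec, dotProduct_smul, smul_eq_mul]
    rfl

theorem comm_invT_iff (h2 : (2 : F) ≠ 0)
    (ι : MulAut (ProjectiveSpecialLinearGroup (Fin n) F))
    (hι : Cfsg.IsInverseTransposeAutPSL ι) (g : GL (Fin n) F) :
    ι * PhiL g = PhiL g * ι ↔ g ∈ Cfsg.Geo.quadSimilarityGroup (sumSq n F) := by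
  rw [invT_comm ι hι g, mul_left_inj, mem_simSumSq_iff h2]
  obtain ⟨A, hA⟩ : ∃ A : Matrix (Fin n) (Fin n) F, A = (g : Matrix (Fin n) (Fin n) F) := ⟨_, rfl⟩
  obtain ⟨B, hB⟩ : ∃ B : Matrix (Fin n) (Fin n) F,
      B = ((g⁻¹ : GL (Fin n) F) : Matrix (Fin n) (Fin n) F) := ⟨_, rfl⟩
  have hAB : A * B = 1 := by rw [hA, hB]; exact gl_mul_inv g
  have hBA : B * A = 1 := by rw [hA, hB]; exact gl_inv_mul g
  have hprod : (Aᵀ * A) * (B * Bᵀ) = 1 := by
    calc (Aᵀ * A) * (B * Bᵀ) = Aᵀ * ((A * B) * Bᵀ) := by simp only [Matrix.mul_assoc]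
      _ = 1 := by rw [hAB, Matrix.one_mul, ← Matrix.transpose_mul, hBA, Matrix.transpose_one]
  have hprod' : (B * Bᵀ) * (Aᵀ * A) = 1 := by
    calc (B * Bᵀ) * (Aᵀ * A) = B * ((Bᵀ * Aᵀ) * A) := by simp only [Matrix.mul_assoc]
      _ = 1 := by rw [← Matrix.transpose_mul, hAB, Matrix.transpose_one, Matrix.one_mul, hBA]
  have hker : PhiL (gInvT g) = PhiL g ↔ g⁻¹ * gInvT g ∈ Cfsg.Geo.scalars (Fin n) F := by
    rw [← PhiL_ker, MonoidHom.mem_ker, map_mul, map_inv, inv_mul_eq_one, eq_comm]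
  rw [hker, Cfsg.Geo.mem_scalars_iff, Units.val_mul, gInvT_val, ← hA, ← hB]
  constructor
  · rintro ⟨c, hc⟩
    refine ⟨c⁻¹, ?_⟩
    have h1 : (Aᵀ * A) * ((c : F) • (1 : Matrix (Fin n) (Fin n) F)) = 1 := by rw [← hc, hprod]
    rw [Matrix.mul_smul, Matrix.mul_one] at h1
    rw [Units.val_inv_eq_inv_val, ← h1, smul_smul, inv_mul_cancel₀ (Units.ne_zero c), one_smul]
  · rintro ⟨c, hc⟩
    refine ⟨c⁻¹, ?_⟩
    have h1 : (B * Bᵀ) * ((c : F) • (1 : Matrix (Fin n) (Fin n) F)) = 1 := by rw [← hc, hprod']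
    rw [Matrix.mul_smul, Matrix.mul_one] at h1
    rw [Units.val_inv_eq_inv_val, ← h1, smul_smul, inv_mul_cancel₀ (Units.ne_zero c), one_smul]

theorem centralizer_invT_iso (h2 : (2 : F) ≠ 0)
    (ι : MulAut (ProjectiveSpecialLinearGroup (Fin n) F))
    (hι : Cfsg.IsInverseTransposeAutPSL ι) :
    Nonempty (↥(Cfsg.inndiagPSL n F ⊓ Subgroup.centralizer {ι}) ≃* Cfsg.PGO F (sumSq n F)) := by
  obtain ⟨S₀, hS₀⟩ : ∃ S₀ : Subgroup (GL (Fin n) F),
      S₀ = Cfsg.Geo.quadSimilarityGroup (sumSq n F) := ⟨_, rfl⟩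
  obtain ⟨C, hC⟩ : ∃ C : Subgroup (MulAut (ProjectiveSpecialLinearGroup (Fin n) F)),
      C = Cfsg.inndiagPSL n F ⊓ Subgroup.centralizer {ι} := ⟨_, rfl⟩
  have hmem : ∀ x : ↥S₀, (PhiL.comp S₀.subtype) x ∈ C := by
    intro x
    rw [hC, Subgroup.mem_inf, inndiagPSL_eq, Subgroup.mem_centralizer_iff]
    refine ⟨⟨x.1, rfl⟩, ?_⟩
    intro y hy
    rw [Set.mem_singleton_iff] at hy
    subst hy
    show y * PhiL (x : GL (Fin n) F) = PhiL (x : GL (Fin n) F) * y
    rw [comm_invT_iff h2 y hι, ← hS₀]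
    exact x.2
  obtain ⟨ψ, hψ⟩ : ∃ ψ : ↥S₀ →* ↥C, ∀ x : ↥S₀, ((ψ x : ↥C) :
      MulAut (ProjectiveSpecialLinearGroup (Fin n) F)) = PhiL (x : GL (Fin n) F) :=
    ⟨(PhiL.comp S₀.subtype).codRestrict C hmem, fun x => rfl⟩
  have hsurj : Function.Surjective ψ := by
    rintro ⟨β, hβ⟩
    rw [hC, Subgroup.mem_inf, inndiagPSL_eq, Subgroup.mem_centralizer_iff] at hβ
    obtain ⟨⟨g, rfl⟩, hcomm⟩ := hβ
    have h1 := hcomm ι (Set.mem_singleton ι)
    rw [comm_invT_iff h2 ι hι, ← hS₀] at h1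
    refine ⟨⟨g, h1⟩, ?_⟩
    apply Subtype.ext
    rw [hψ]
  have hker : ψ.ker = (Cfsg.Geo.scalars (Fin n) F).subgroupOf S₀ := by
    ext x
    rw [MonoidHom.mem_ker, Subgroup.mem_subgroupOf, ← PhiL_ker, MonoidHom.mem_ker, ← hψ]
    constructor
    · intro h
      rw [h]
      rfl
    · intro h
      apply Subtype.ext
      rw [h]
      rfl
  have e₁ := QuotientGroup.quotientKerEquivOfSurjective ψ hsurj
  have e₂ := QuotientGroup.quotientMulEquivOfEq hker
  rw [← hC]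
  have e₃ : ↥C ≃* ↥S₀ ⧸ (Cfsg.Geo.scalars (Fin n) F).subgroupOf S₀ := e₁.symm.trans e₂
  rw [hS₀] at e₃
  exact ⟨e₃⟩

end pslB

end Cfsg.Agent.helper14
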