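import Mathlib
import Cfsg.Prelude.Def_Perm

set_option autoImplicit false
set_option linter.style.haveILetI false
set_option linter.unusedSectionVars false
set_option linter.unusedVariables false

namespace Cfsg.Agent.helper1

open Matrix

section Trans

variable {F : Type*} [Field F] {n : ℕ}

/-- `SL_n(F)` maps any linearly independent family of fewer than `n` vectors to any other such
family. -/
theorem sl_map_family {ι : Type*} [Fintype ι] (b b' : ι → (Fin n → F))
    (hb : LinearIndependent F b) (hb' : LinearIndependent F b') (hlt : Fintype.card ι < n) :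
    ∃ g : SpecialLinearGroup (Fin n) F, ∀ i, (g : Matrix (Fin n) (Fin n) F).mulVec (b i) = b' i := by
  classical
  let e := hb.linearCombinationEquiv.symm ≪≫ₗ hb'.linearCombinationEquiv
  obtain ⟨E, hE⟩ := Submodule.exists_linearEquiv_restrict_eq e
  have hEb : ∀ i, E (b i) = b' i := by
    intro i
    have hmem : b i ∈ Submodule.span F (Set.range b) := Submodule.subset_span ⟨i, rfl⟩
    have h1 := hE ⟨b i, hmem⟩
    have h2 : hb.linearCombinationEquiv (Finsupp.single i 1) = ⟨b i, hmem⟩ := by
      apply Subtype.ext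
      rw [LinearIndependent.linearCombinationEquiv_apply_coe]
      simp
    have h3 : (e ⟨b i, hmem⟩ : Fin n → F) = b' i := by
      show ((hb'.linearCombinationEquiv (hb.linearCombinationEquiv.symm ⟨b i, hmem⟩) : _) : Fin n → F) = _
      rw [← h2, LinearEquiv.symm_apply_apply, LinearIndependent.linearCombinationEquiv_apply_coe]
      simp
    rw [← h3, h1]
  -- a linear form vanishing on the span of `b'`
  set W' := Submodule.span F (Set.range b') with hW'
  have hWlt : W' < ⊤ := by
    rw [lt_top_iff_ne_top]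
    intro h
    have h1 : Module.finrank F W' = Fintype.card ι := finrank_span_eq_card hb'
    rw [h, finrank_top, Module.finrank_fin_fun] at h1
    omega
  obtain ⟨f, hf0, hfW⟩ := Submodule.exists_dual_map_eq_bot_of_lt_top hWlt inferInstance
  have hfb : ∀ i, f (b' i) = 0 := by
    intro i
    have : f (b' i) ∈ Submodule.map f W' := ⟨b' i, Submodule.subset_span ⟨i, rfl⟩, rfl⟩
    rw [hfW] at this
    exact (Submodule.mem_bot F).mp this
  obtain ⟨u, hu⟩ : ∃ u, f u ≠ 0 := by
    by_contra hcon
    push Not at hcon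
    exact hf0 (LinearMap.ext hcon)
  have hdE : LinearMap.det (E : (Fin n → F) →ₗ[F] (Fin n → F)) ≠ 0 :=
    (LinearEquiv.isUnit_det' E).ne_zero
  set a : F := (LinearMap.det (E : (Fin n → F) →ₗ[F] (Fin n → F)))⁻¹ with ha
  let T : (Fin n → F) →ₗ[F] (Fin n → F) := LinearMap.transvection f (((a - 1) * (f u)⁻¹) • u)
  have hTdet : LinearMap.det T = a := by
    rw [LinearMap.transvection.det, map_smul, smul_eq_mul]
    field_simp
    ring
  have hTb : ∀ i, T (b' i) = b' i := by
    intro i
    rw [LinearMap.transvection.apply, hfb, zero_smul, add_zero]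
  let M := LinearMap.toMatrix' (T ∘ₗ (E : (Fin n → F) →ₗ[F] (Fin n → F)))
  have hMdet : M.det = 1 := by
    rw [LinearMap.det_toMatrix', LinearMap.det_comp, hTdet, ha, inv_mul_cancel₀ hdE]
  refine ⟨⟨M, hMdet⟩, fun i => ?_⟩
  show M.mulVec (b i) = b' i
  rw [LinearMap.toMatrix'_mulVec, LinearMap.comp_apply, LinearEquiv.coe_coe, hEb, hTb]

end Trans

section Action

variable (F : Type*) [Field F] (n : ℕ)

/-- nonzero vectors of `F^n` -/
@[ext] structure NZVec where
  /-- the vector -/
  val : Fin n → F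
  /-- it is nonzero -/
  ne : val ≠ 0

variable {F n}

theorem NZVec.val_injective : Function.Injective (NZVec.val : NZVec F n → Fin n → F) :=
  fun _ _ h => NZVec.ext h

instance [Finite F] : Finite (NZVec F n) := Finite.of_injective _ NZVec.val_injective

theorem sl_mulVec_ne_zero (g : SpecialLinearGroup (Fin n) F) (v : Fin n → F) (hv : v ≠ 0) :
    (g : Matrix (Fin n) (Fin n) F).mulVec v ≠ 0 := by
  intro h
  apply hv
  have h1 : ((g⁻¹ * g : SpecialLinearGroup (Fin n) F) : Matrix (Fin n) (Fin n) F).mulVec v = 0 := by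
    rw [Matrix.SpecialLinearGroup.coe_mul, ← Matrix.mulVec_mulVec, h, Matrix.mulVec_zero]
  rwa [inv_mul_cancel, Matrix.SpecialLinearGroup.coe_one, Matrix.one_mulVec] at h1

instance nzVecAction : MulAction (SpecialLinearGroup (Fin n) F) (NZVec F n) where
  smul g v := ⟨(g : Matrix (Fin n) (Fin n) F).mulVec v.val, sl_mulVec_ne_zero g v.val v.ne⟩
  one_smul v := NZVec.ext (by
    show ((1 : SpecialLinearGroup (Fin n) F) : Matrix (Fin n) (Fin n) F).mulVec v.val = v.val
    rw [Matrix.SpecialLinearGroup.coe_one, Matrix.one_mulVec])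
  mul_smul g h v := NZVec.ext (by
    show ((g * h : SpecialLinearGroup (Fin n) F) : Matrix (Fin n) (Fin n) F).mulVec v.val
      = (g : Matrix (Fin n) (Fin n) F).mulVec ((h : Matrix (Fin n) (Fin n) F).mulVec v.val)
    rw [Matrix.SpecialLinearGroup.coe_mul, Matrix.mulVec_mulVec])

theorem nzVec_smul_val (g : SpecialLinearGroup (Fin n) F) (v : NZVec F n) :
    (g • v).val = (g : Matrix (Fin n) (Fin n) F).mulVec v.val := rfl

/-- scalar multiplication by a unit on nonzero vectors -/
def NZVec.scal (c : Fˣ) (v : NZVec F n) : NZVec F n :=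
  ⟨(c : F) • v.val, smul_ne_zero c.ne_zero v.ne⟩

theorem NZVec.scal_val (c : Fˣ) (v : NZVec F n) : (NZVec.scal c v).val = (c : F) • v.val := rfl

theorem NZVec.smul_scal (g : SpecialLinearGroup (Fin n) F) (c : Fˣ) (v : NZVec F n) :
    g • NZVec.scal c v = NZVec.scal c (g • v) := by
  apply NZVec.ext
  rw [nzVec_smul_val, NZVec.scal_val, NZVec.scal_val, nzVec_smul_val, Matrix.mulVec_smul]

theorem NZVec.scal_injective (v : NZVec F n) : Function.Injective (fun c : Fˣ => NZVec.scal c v) := by
  intro c d h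
  have h1 : (c : F) • v.val = (d : F) • v.val := congrArg NZVec.val h
  have h2 : ((c : F) - (d : F)) • v.val = 0 := by rw [sub_smul, h1, sub_self]
  rcases smul_eq_zero.mp h2 with h3 | h3
  · exact Units.ext (sub_eq_zero.mp h3)
  · exact absurd h3 v.ne

/-- transitivity on nonzero vectors -/
theorem nzVec_exists_smul_eq (hn : 2 ≤ n) (v w : NZVec F n) :
    ∃ g : SpecialLinearGroup (Fin n) F, g • v = w := by
  obtain ⟨g, hg⟩ := sl_map_family (ι := Unit) (fun _ => v.val) (fun _ => w.val)
    (linearIndependent_unique_iff.mpr v.ne) (linearIndependent_unique_iff.mpr w.ne)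
    (by simp; omega)
  exact ⟨g, NZVec.ext (hg ())⟩

/-- transitivity on pairs of independent vectors -/
theorem nzVec_exists_smul_pair (hn : 3 ≤ n) (v w v' w' : NZVec F n)
    (h : ∀ a : F, a • v.val ≠ w.val) (h' : ∀ a : F, a • v'.val ≠ w'.val) :
    ∃ g : SpecialLinearGroup (Fin n) F, g • v = v' ∧ g • w = w' := by
  obtain ⟨g, hg⟩ := sl_map_family (ι := Fin 2) ![w.val, v.val] ![w'.val, v'.val]
    (linearIndependent_fin2.mpr ⟨v.ne, h⟩) (linearIndependent_fin2.mpr ⟨v'.ne, h'⟩)
    (by simp; omega)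
  exact ⟨g, NZVec.ext (hg 1), NZVec.ext (hg 0)⟩

/-- existence of a vector not proportional to a given one -/
theorem nzVec_exists_not_mul (hn : 2 ≤ n) (v : NZVec F n) :
    ∃ w : NZVec F n, ∀ a : F, a • v.val ≠ w.val := by
  have hlt : Submodule.span F {v.val} < ⊤ := by
    rw [lt_top_iff_ne_top]
    intro h
    have h1 := finrank_span_singleton (K := F) v.ne
    rw [h, finrank_top, Module.finrank_fin_fun] at h1
    omega
  obtain ⟨w, -, hw⟩ := SetLike.exists_of_lt hlt
  refine ⟨⟨w, fun h0 => hw (h0 ▸ Submodule.zero_mem _)⟩, fun a ha => hw ?_⟩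
  have ha' : a • v.val = w := ha
  rw [← ha']
  exact Submodule.smul_mem _ _ (Submodule.mem_span_singleton_self _)

end Action

section Rank

variable {F : Type*} [Field F] [Finite F] {n : ℕ}

open MulAction

/-- the rank of `SL_n(F)` on nonzero vectors is `|F|` for `n ≥ 3` -/
theorem nzVec_rank (hn : 3 ≤ n) (v₀ : NZVec F n) :
    Nat.card (orbitRel.Quotient (stabilizer (SpecialLinearGroup (Fin n) F) v₀) (NZVec F n))
      = Nat.card F := by
  classical
  obtain ⟨w₀, hw₀⟩ := nzVec_exists_not_mul (by omega) v₀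
  set H := stabilizer (SpecialLinearGroup (Fin n) F) v₀ with hH
  have hfix : ∀ h : H, ∀ c : Fˣ, h • NZVec.scal c v₀ = NZVec.scal c v₀ := by
    intro h c
    show (h : SpecialLinearGroup (Fin n) F) • NZVec.scal c v₀ = NZVec.scal c v₀
    rw [NZVec.smul_scal]
    congr 1
    exact h.2
  let Φ : Option Fˣ → orbitRel.Quotient H (NZVec F n) := fun o =>
    match o with
    | some c => Quotient.mk'' (NZVec.scal c v₀)
    | none => Quotient.mk'' w₀
  have hΦ : Function.Bijective Φ := by
    constructor
    · intro o o' h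
      rcases o with _ | c <;> rcases o' with _ | d
      · rfl
      · exfalso
        have h1 : orbitRel H (NZVec F n) w₀ (NZVec.scal d v₀) := Quotient.eq''.mp h
        rw [orbitRel_apply] at h1
        obtain ⟨k, hk⟩ := h1
        have hk' : k • NZVec.scal d v₀ = w₀ := hk
        rw [hfix] at hk'
        exact hw₀ (d : F) (congrArg NZVec.val hk')
      · exfalso
        have h1 : orbitRel H (NZVec F n) (NZVec.scal c v₀) w₀ := Quotient.eq''.mp h
        rw [orbitRel_apply] at h1
        obtain ⟨k, hk⟩ := h1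
        have hk' : k • w₀ = NZVec.scal c v₀ := hk
        have h2 : w₀ = k⁻¹ • NZVec.scal c v₀ := by rw [← hk', inv_smul_smul]
        rw [hfix] at h2
        exact hw₀ (c : F) (congrArg NZVec.val h2).symm
      · have h1 : orbitRel H (NZVec F n) (NZVec.scal c v₀) (NZVec.scal d v₀) := Quotient.eq''.mp h
        rw [orbitRel_apply] at h1
        obtain ⟨k, hk⟩ := h1
        have hk' : k • NZVec.scal d v₀ = NZVec.scal c v₀ := hk
        rw [hfix] at hk'
        rw [NZVec.scal_injective v₀ hk']
    · intro q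
      induction q using Quotient.inductionOn' with
      | h w =>
        by_cases hw : ∃ a : F, a • v₀.val = w.val
        · obtain ⟨a, ha⟩ := hw
          have ha0 : a ≠ 0 := by
            rintro rfl
            rw [zero_smul] at ha
            exact w.ne ha.symm
          refine ⟨some (Units.mk0 a ha0), ?_⟩
          show Quotient.mk'' (NZVec.scal (Units.mk0 a ha0) v₀) = Quotient.mk'' w
          congr 1
          exact NZVec.ext ha
        · push Not at hw
          obtain ⟨g, hg1, hg2⟩ := nzVec_exists_smul_pair hn v₀ w₀ v₀ w hw₀ hw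
          refine ⟨none, ?_⟩
          show Quotient.mk'' w₀ = Quotient.mk'' w
          apply Quotient.sound'
          rw [orbitRel_apply]
          exact ⟨⟨g⁻¹, by rw [hH, mem_stabilizer_iff, inv_smul_eq_iff, hg1]⟩, by
            show g⁻¹ • w = w₀
            rw [inv_smul_eq_iff, hg2]⟩
  rw [← Nat.card_congr (Equiv.ofBijective Φ hΦ), Finite.card_option, Nat.card_units]
  have : 0 < Nat.card F := Nat.card_pos
  omega

end Rank

section Commutant

variable {F : Type*} [Field F] [Finite F] {n : ℕ}

noncomputable instance nzVecFintype : Fintype (NZVec F n) := Fintype.ofFinite _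

noncomputable instance nzVecDecEq : DecidableEq (NZVec F n) := Classical.decEq _

/-- the operator `f ↦ f ∘ (c • ·)` -/
noncomputable def nzMop (c : Fˣ) : Module.End ℂ (NZVec F n → ℂ) :=
  LinearMap.funLeft ℂ ℂ (NZVec.scal c)

/-- the operator `f ↦ (∑ f)` -/
noncomputable def nzSop : Module.End ℂ (NZVec F n → ℂ) :=
  LinearMap.pi (fun _ => ∑ ω' : NZVec F n, LinearMap.proj ω')

theorem nzMop_apply (c : Fˣ) (f : NZVec F n → ℂ) (ω : NZVec F n) :
    nzMop c f ω = f (NZVec.scal c ω) := rfl

theorem nzSop_apply (f : NZVec F n → ℂ) (ω : NZVec F n) :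
    nzSop f ω = ∑ ω' : NZVec F n, f ω' := by
  simp [nzSop]

theorem NZVec.scal_scal_comm (c d : Fˣ) (ω : NZVec F n) :
    NZVec.scal c (NZVec.scal d ω) = NZVec.scal d (NZVec.scal c ω) := by
  apply NZVec.ext
  simp only [NZVec.scal_val]
  rw [smul_comm]

theorem NZVec.scal_bijective (c : Fˣ) : Function.Bijective (NZVec.scal c : NZVec F n → NZVec F n) := by
  refine ⟨fun v w h => ?_, fun w => ⟨NZVec.scal c⁻¹ w, ?_⟩⟩
  · have h1 : (c : F) • v.val = (c : F) • w.val := congrArg NZVec.val h
    exact NZVec.ext (smul_right_injective _ c.ne_zero h1)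
  · apply NZVec.ext
    simp only [NZVec.scal_val]
    rw [smul_smul]
    simp

theorem nzMop_comm (c d : Fˣ) : Commute (nzMop c : Module.End ℂ (NZVec F n → ℂ)) (nzMop d) := by
  show nzMop c * nzMop d = nzMop d * nzMop c
  apply LinearMap.ext
  intro f
  funext ω
  simp only [Module.End.mul_apply, nzMop_apply]
  rw [NZVec.scal_scal_comm]

theorem nzMop_nzSop_comm (c : Fˣ) : Commute (nzMop c : Module.End ℂ (NZVec F n → ℂ)) nzSop := by
  show nzMop c * nzSop = nzSop * nzMop c
  apply LinearMap.ext
  intro f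
  funext ω
  simp only [Module.End.mul_apply, nzMop_apply, nzSop_apply]
  exact (Function.Bijective.sum_comp (NZVec.scal_bijective c) f).symm

theorem commute_of_mem_span {A : Type*} [Ring A] [Algebra ℂ A] (𝒮 : Set A)
    (h : ∀ x ∈ 𝒮, ∀ y ∈ 𝒮, Commute x y) (S T : A) (hS : S ∈ Submodule.span ℂ 𝒮)
    (hT : T ∈ Submodule.span ℂ 𝒮) : Commute S T := by
  have h1 : ∀ y ∈ 𝒮, Commute S y := by
    intro y hy
    induction hS using Submodule.span_induction with
    | mem x hx => exact h x hx y hy
    | zero => exact Commute.zero_left y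
    | add x z _ _ hx hz => exact hx.add_left hz
    | smul a x _ hx => exact hx.smul_left a
  induction hT using Submodule.span_induction with
  | mem x hx => exact h1 x hx
  | zero => exact Commute.zero_right S
  | add x z _ _ hx hz => exact hx.add_right hz
  | smul a x _ hx => exact hx.smul_right a

/-- the generating set of the commutant -/
def nzGens (F : Type*) [Field F] [Finite F] (n : ℕ) : Set (Module.End ℂ (NZVec F n → ℂ)) :=
  Set.range nzMop ∪ {nzSop}

theorem nzGens_comm : ∀ x ∈ nzGens F n, ∀ y ∈ nzGens F n, Commute x y := by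
  rintro x (⟨c, rfl⟩ | hx) y (⟨d, rfl⟩ | hy)
  · exact nzMop_comm c d
  · rw [Set.mem_singleton_iff.mp hy]
    exact nzMop_nzSop_comm c
  · rw [Set.mem_singleton_iff.mp hx]
    exact (nzMop_nzSop_comm d).symm
  · rw [Set.mem_singleton_iff.mp hx, Set.mem_singleton_iff.mp hy]

theorem nz_commutant_mem_span (hn : 3 ≤ n) (S : Module.End ℂ (NZVec F n → ℂ))
    (hS : ∀ g : SpecialLinearGroup (Fin n) F,
      S ∘ₗ Cfsg.permRep ℂ (SpecialLinearGroup (Fin n) F) (NZVec F n) g
        = Cfsg.permRep ℂ (SpecialLinearGroup (Fin n) F) (NZVec F n) g ∘ₗ S) :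
    S ∈ Submodule.span ℂ (nzGens F n) := by
  haveI : Fintype Fˣ := Fintype.ofFinite _
  let s : NZVec F n → NZVec F n → ℂ := fun ω ω' => S (fun j => if ω' = j then 1 else 0) ω
  have hinv : ∀ (g : SpecialLinearGroup (Fin n) F) (ω ω' : NZVec F n),
      s (g • ω) (g • ω') = s ω ω' := by
    intro g ω ω'
    have h1 := LinearMap.congr_fun (hS g) (fun j => if ω' = j then 1 else 0)
    have h2 : Cfsg.permRep ℂ (SpecialLinearGroup (Fin n) F) (NZVec F n) g
        (fun j => if ω' = j then (1 : ℂ) else 0) = (fun j => if g • ω' = j then (1 : ℂ) else 0) := by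
      funext j
      show (if ω' = g⁻¹ • j then (1 : ℂ) else 0) = _
      by_cases hj : g • ω' = j
      · rw [if_pos hj, if_pos (eq_inv_smul_iff.mpr hj)]
      · rw [if_neg hj, if_neg (fun h => hj (eq_inv_smul_iff.mp h))]
    rw [LinearMap.comp_apply, h2, LinearMap.comp_apply] at h1
    have h3 := congrFun h1 (g • ω)
    show S (fun j => if g • ω' = j then 1 else 0) (g • ω) = _
    rw [h3]
    show S (fun j => if ω' = j then 1 else 0) (g⁻¹ • g • ω) = _
    rw [inv_smul_smul]
  have hexp : ∀ (f : NZVec F n → ℂ) (ω : NZVec F n), S f ω = ∑ ω', f ω' * s ω ω' := by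
    intro f ω
    rw [LinearMap.pi_apply_eq_sum_univ S f, Finset.sum_apply]
    rfl
  -- base points
  have hn0 : 0 < n := by omega
  let ω₀ : NZVec F n := ⟨Pi.single ⟨0, hn0⟩ 1, by
    intro h
    have := congrFun h ⟨0, hn0⟩
    simp at this⟩
  obtain ⟨ω₁, hω₁⟩ := nzVec_exists_not_mul (by omega) ω₀
  set b : ℂ := s ω₀ ω₁ with hb
  let a : Fˣ → ℂ := fun c => s ω₀ (NZVec.scal c ω₀) - b
  have hs1 : ∀ (ω : NZVec F n) (c : Fˣ), s ω (NZVec.scal c ω) = s ω₀ (NZVec.scal c ω₀) := by
    intro ω c
    obtain ⟨g, hg⟩ := nzVec_exists_smul_eq (by omega) ω₀ ω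
    rw [← hg, ← NZVec.smul_scal, hinv]
  have hs2 : ∀ (ω ω' : NZVec F n), (∀ x : F, x • ω.val ≠ ω'.val) → s ω ω' = b := by
    intro ω ω' h
    obtain ⟨g, hg1, hg2⟩ := nzVec_exists_smul_pair hn ω₀ ω₁ ω ω' hω₁ h
    rw [← hg1, ← hg2, hinv]
  have hSeq : S = ∑ c : Fˣ, a c • nzMop c + b • nzSop := by
    apply LinearMap.ext
    intro f
    funext ω
    rw [hexp]
    simp only [LinearMap.add_apply, LinearMap.sum_apply, LinearMap.smul_apply, Pi.add_apply,
      Finset.sum_apply, Pi.smul_apply, smul_eq_mul, nzMop_apply, nzSop_apply]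
    have h1 : ∑ ω', f ω' * s ω ω' = ∑ ω', f ω' * (s ω ω' - b) + b * ∑ ω', f ω' := by
      rw [Finset.mul_sum, ← Finset.sum_add_distrib]
      apply Finset.sum_congr rfl
      intro ω' _
      ring
    rw [h1]
    congr 1
    symm
    apply Finset.sum_of_injOn (fun c : Fˣ => NZVec.scal c ω)
    · intro c _ d _ h
      exact NZVec.scal_injective ω h
    · intro c _
      exact Finset.mem_coe.mpr (Finset.mem_univ _)
    · intro ω' _ hω'
      have h2 : ∀ x : F, x • ω.val ≠ ω'.val := by
        intro x hx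
        have hx0 : x ≠ 0 := by
          rintro rfl
          rw [zero_smul] at hx
          exact ω'.ne hx.symm
        apply hω'
        exact ⟨Units.mk0 x hx0, Finset.mem_coe.mpr (Finset.mem_univ _), NZVec.ext hx⟩
      rw [hs2 ω ω' h2, sub_self, mul_zero]
    · intro c _
      show a c * f (NZVec.scal c ω) = f (NZVec.scal c ω) * (s ω (NZVec.scal c ω) - b)
      rw [hs1]
      ring
  rw [hSeq]
  apply Submodule.add_mem
  · apply Submodule.sum_mem
    intro c _
    exact Submodule.smul_mem _ _ (Submodule.subset_span (Or.inl ⟨c, rfl⟩))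
  · exact Submodule.smul_mem _ _ (Submodule.subset_span (Or.inr rfl))

/-- the commutant of the permutation representation of `SL_n(F)` on nonzero vectors is
commutative -/
theorem nz_commutant_comm (hn : 3 ≤ n) (S T : Module.End ℂ (NZVec F n → ℂ))
    (hS : ∀ g : SpecialLinearGroup (Fin n) F,
      S ∘ₗ Cfsg.permRep ℂ (SpecialLinearGroup (Fin n) F) (NZVec F n) g
        = Cfsg.permRep ℂ (SpecialLinearGroup (Fin n) F) (NZVec F n) g ∘ₗ S)
    (hT : ∀ g : SpecialLinearGroup (Fin n) F,
      T ∘ₗ Cfsg.permRep ℂ (SpecialLinearGroup (Fin n) F) (NZVec F n) g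
        = Cfsg.permRep ℂ (SpecialLinearGroup (Fin n) F) (NZVec F n) g ∘ₗ T) :
    S ∘ₗ T = T ∘ₗ S :=
  commute_of_mem_span (nzGens F n) nzGens_comm S T (nz_commutant_mem_span hn S hS)
    (nz_commutant_mem_span hn T hT)

end Commutant

end Cfsg.Agent.helper1
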