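import Mathlib
import Cfsg.Agent.Lib_helper14_AutPslA
import Cfsg.Agent.Lib_helper14_PslB
import Cfsg.Agent.Lib_helper1_SLVec

/-! Transvections in `SL_n` and their images in `PSL_n`; the centre of the unitriangular
group; every automorphism of `PSL_n(F)` (finite `F`) maps images of transvections to images of
transvections. -/

set_option autoImplicit false

namespace Cfsg.Agent.helper14

open Matrix

section basic
variable {n : ℕ} {F : Type*} [Field F]

theorem mk_eq_iff (s s' : SpecialLinearGroup (Fin n) F) :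
    (QuotientGroup.mk s : ProjectiveSpecialLinearGroup (Fin n) F) = QuotientGroup.mk s' ↔
      ∃ r : F, (s' : Matrix (Fin n) (Fin n) F) = r • (s : Matrix (Fin n) (Fin n) F) := by
  have hinv : ((s⁻¹ : SpecialLinearGroup (Fin n) F) : Matrix (Fin n) (Fin n) F) *
      (s : Matrix (Fin n) (Fin n) F) = 1 := by
    rw [← Matrix.SpecialLinearGroup.coe_mul, inv_mul_cancel, Matrix.SpecialLinearGroup.coe_one]
  rw [QuotientGroup.eq, Matrix.SpecialLinearGroup.mem_center_iff]
  constructor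
  · rintro ⟨r, -, hr⟩
    refine ⟨r, ?_⟩
    have h3 : s' = s * (s⁻¹ * s') := by group
    have h4 : (s' : Matrix (Fin n) (Fin n) F) =
        ((s * (s⁻¹ * s') : SpecialLinearGroup (Fin n) F) : Matrix (Fin n) (Fin n) F) := by
      rw [← h3]
    rw [Matrix.SpecialLinearGroup.coe_mul s, ← hr, Matrix.scalar_apply,
      ← Matrix.smul_one_eq_diagonal, Matrix.mul_smul, Matrix.mul_one] at h4
    exact h4
  · rintro ⟨r, hr⟩
    have hdet : r ^ Fintype.card (Fin n) = 1 := by
      have := congrArg Matrix.det hr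
      rw [Matrix.det_smul, s.2, s'.2, mul_one] at this
      exact this.symm
    refine ⟨r, hdet, ?_⟩
    rw [Matrix.SpecialLinearGroup.coe_mul, hr, Matrix.mul_smul, hinv, Matrix.scalar_apply,
      ← Matrix.smul_one_eq_diagonal]

theorem vmv_mulVec (a φ w : Fin n → F) : vecMulVec a φ *ᵥ w = (φ ⬝ᵥ w) • a := by
  rw [Matrix.vecMulVec_mulVec, op_smul_eq_smul]

theorem det_one_add_vmv (a φ : Fin n → F) :
    (1 + vecMulVec a φ : Matrix (Fin n) (Fin n) F).det = 1 + φ ⬝ᵥ a := by
  rw [Matrix.vecMulVec_eq Unit, Matrix.det_one_add_replicateCol_mul_replicateRow]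

/-- the transvection `x ↦ x + φ(x) a`, for `φ(a) = 0` -/
def tS1 (a φ : Fin n → F) (h : φ ⬝ᵥ a = 0) : SpecialLinearGroup (Fin n) F :=
  ⟨1 + vecMulVec a φ, by rw [det_one_add_vmv, h, add_zero]⟩

/-- the transvection `x ↦ x + φ(x) a` (trivial unless `φ(a) = 0`) -/
noncomputable def tS (a φ : Fin n → F) : SpecialLinearGroup (Fin n) F := by
  classical
  exact if h : φ ⬝ᵥ a = 0 then tS1 a φ h else 1

theorem tS_of_ne (a φ : Fin n → F) (h : ¬ φ ⬝ᵥ a = 0) : tS a φ = 1 := by
  unfold tS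
  rw [dif_neg h]

theorem tS_val (a φ : Fin n → F) (h : φ ⬝ᵥ a = 0) :
    ((tS a φ : SpecialLinearGroup (Fin n) F) : Matrix (Fin n) (Fin n) F) = 1 + vecMulVec a φ := by
  unfold tS
  rw [dif_pos h]
  rfl

/-- the image of a transvection in `PSL_n` -/
noncomputable def tb (a φ : Fin n → F) : ProjectiveSpecialLinearGroup (Fin n) F :=
  QuotientGroup.mk (tS a φ)

theorem vmv_mul_vmv (a φ a' φ' : Fin n → F) :
    vecMulVec a φ * vecMulVec a' φ' = (φ ⬝ᵥ a') • vecMulVec a φ' := by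
  rw [Matrix.vecMulVec_mul_vecMulVec]
  ext i j
  simp only [Matrix.vecMulVec_apply, Pi.smul_apply, Matrix.smul_apply, smul_eq_mul]
  ring

theorem vmv_sq (a φ : Fin n → F) (h : φ ⬝ᵥ a = 0) : vecMulVec a φ * vecMulVec a φ = 0 := by
  rw [vmv_mul_vmv, h, zero_smul]

theorem vmv_add_right (a φ φ' : Fin n → F) :
    vecMulVec a (φ + φ') = vecMulVec a φ + vecMulVec a φ' := by
  ext i j
  simp only [Matrix.vecMulVec_apply, Pi.add_apply, Matrix.add_apply]
  ring

theorem vmv_add_left (a a' φ : Fin n → F) :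
    vecMulVec (a + a') φ = vecMulVec a φ + vecMulVec a' φ := by
  ext i j
  simp only [Matrix.vecMulVec_apply, Pi.add_apply, Matrix.add_apply]
  ring

theorem vmv_smul_left (c : F) (a φ : Fin n → F) : vecMulVec (c • a) φ = c • vecMulVec a φ := by
  ext i j
  simp only [Matrix.vecMulVec_apply, Pi.smul_apply, Matrix.smul_apply, smul_eq_mul]
  ring

theorem vmv_smul_right (c : F) (a φ : Fin n → F) : vecMulVec a (c • φ) = c • vecMulVec a φ := by
  ext i j
  simp only [Matrix.vecMulVec_apply, Pi.smul_apply, Matrix.smul_apply, smul_eq_mul]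
  ring

theorem vmv_zero_right (a : Fin n → F) : vecMulVec a (0 : Fin n → F) = 0 := by
  ext i j
  simp only [Matrix.vecMulVec_apply, Pi.zero_apply, mul_zero, Matrix.zero_apply]

theorem vmv_zero_left (φ : Fin n → F) : vecMulVec (0 : Fin n → F) φ = 0 := by
  ext i j
  simp only [Matrix.vecMulVec_apply, Pi.zero_apply, zero_mul, Matrix.zero_apply]

theorem vmv_single (i j : Fin n) (c : F) :
    vecMulVec (Pi.single i (1 : F)) (Pi.single j c) = Matrix.single i j c := by
  ext a b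
  rw [Matrix.vecMulVec_apply, Matrix.single_apply]
  by_cases h1 : a = i
  · subst h1
    by_cases h2 : b = j
    · subst h2
      simp
    · rw [Pi.single_eq_of_ne h2, mul_zero, if_neg]
      rintro ⟨-, h3⟩
      exact h2 h3.symm
  · rw [Pi.single_eq_of_ne h1, zero_mul, if_neg]
    rintro ⟨h3, -⟩
    exact h1 h3.symm

theorem single_mul_entry (k l i j : Fin n) (c : F) (A : Matrix (Fin n) (Fin n) F) :
    (Matrix.single k l c * A) i j = if i = k then c * A l j else 0 := by
  by_cases h : i = k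
  · subst h
    rw [if_pos rfl, Matrix.single_mul_apply_same]
  · rw [if_neg h, Matrix.single_mul_apply_of_ne (c := c) _ _ _ _ h]

theorem mul_single_entry (k l i j : Fin n) (c : F) (A : Matrix (Fin n) (Fin n) F) :
    (A * Matrix.single k l c) i j = if j = l then A i k * c else 0 := by
  by_cases h : j = l
  · subst h
    rw [if_pos rfl, Matrix.mul_single_apply_same]
  · rw [if_neg h, Matrix.mul_single_apply_of_ne (c := c) _ _ _ _ h]

theorem tS_zero_right (a : Fin n → F) : tS a (0 : Fin n → F) = 1 := by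
  apply Subtype.ext
  rw [tS_val a 0 (zero_dotProduct a), vmv_zero_right, add_zero, Matrix.SpecialLinearGroup.coe_one]

theorem tS_zero_left (φ : Fin n → F) : tS (0 : Fin n → F) φ = 1 := by
  apply Subtype.ext
  rw [tS_val 0 φ (dotProduct_zero φ), vmv_zero_left, add_zero, Matrix.SpecialLinearGroup.coe_one]

theorem tS_mul_right (a φ φ' : Fin n → F) (h : φ ⬝ᵥ a = 0) (h' : φ' ⬝ᵥ a = 0) :
    tS a φ * tS a φ' = tS a (φ + φ') := by
  have h'' : (φ + φ') ⬝ᵥ a = 0 := by rw [add_dotProduct, h, h', add_zero]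
  apply Subtype.ext
  rw [Matrix.SpecialLinearGroup.coe_mul, tS_val a φ h, tS_val a φ' h', tS_val a _ h'',
    vmv_add_right, Matrix.add_mul, Matrix.one_mul, Matrix.mul_add, Matrix.mul_one, vmv_mul_vmv, h,
    zero_smul, add_zero]
  abel

theorem tS_mul_left (a a' φ : Fin n → F) (h : φ ⬝ᵥ a = 0) (h' : φ ⬝ᵥ a' = 0) :
    tS a φ * tS a' φ = tS (a + a') φ := by
  have h'' : φ ⬝ᵥ (a + a') = 0 := by rw [dotProduct_add, h, h', add_zero]
  apply Subtype.ext
  rw [Matrix.SpecialLinearGroup.coe_mul, tS_val a φ h, tS_val a' φ h', tS_val _ φ h'',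
    vmv_add_left, Matrix.add_mul, Matrix.one_mul, Matrix.mul_add, Matrix.mul_one, vmv_mul_vmv, h',
    zero_smul, add_zero]
  abel

theorem tS_inv_right (a φ : Fin n → F) (h : φ ⬝ᵥ a = 0) : (tS a φ)⁻¹ = tS a (-φ) := by
  have h' : (-φ) ⬝ᵥ a = 0 := by rw [neg_dotProduct, h, neg_zero]
  rw [inv_eq_iff_mul_eq_one, tS_mul_right a φ (-φ) h h', add_neg_cancel, tS_zero_right]

theorem tS_inv_left (a φ : Fin n → F) (h : φ ⬝ᵥ a = 0) : (tS a φ)⁻¹ = tS (-a) φ := by
  have h' : φ ⬝ᵥ (-a) = 0 := by rw [dotProduct_neg, h, neg_zero]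
  rw [inv_eq_iff_mul_eq_one, tS_mul_left a (-a) φ h h', add_neg_cancel, tS_zero_left]

theorem tS_smul (c : F) (a φ : Fin n → F) : tS (c • a) φ = tS a (c • φ) := by
  by_cases h : φ ⬝ᵥ a = 0
  · have h1 : φ ⬝ᵥ (c • a) = 0 := by rw [dotProduct_smul, h, smul_zero]
    have h2 : (c • φ) ⬝ᵥ a = 0 := by rw [smul_dotProduct, h, smul_zero]
    apply Subtype.ext
    rw [tS_val _ _ h1, tS_val _ _ h2, vmv_smul_left, vmv_smul_right]
  · by_cases hc : c = 0
    · subst hc
      rw [zero_smul, zero_smul, tS_zero_left, tS_zero_right]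
    · have h1 : ¬ φ ⬝ᵥ (c • a) = 0 := by
        rw [dotProduct_smul, smul_eq_mul]
        exact mul_ne_zero hc h
      have h2 : ¬ (c • φ) ⬝ᵥ a = 0 := by
        rw [smul_dotProduct, smul_eq_mul]
        exact mul_ne_zero hc h
      rw [tS_of_ne _ _ h1, tS_of_ne _ _ h2]

theorem tb_smul (c : F) (a φ : Fin n → F) : tb (c • a) φ = tb a (c • φ) := by
  unfold tb
  rw [tS_smul]

/-- removing a scalar factor -/
theorem scalar_kill (N N' : Matrix (Fin n) (Fin n) F) (r : F) (hN : N * N = 0)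
    (w : Fin n → F) (hw : w ≠ 0) (hN'w : N' *ᵥ w = 0) (h : 1 + N' = r • (1 + N)) : r = 1 := by
  have h1 : w = r • w + r • (N *ᵥ w) := by
    have := congrArg (fun M : Matrix (Fin n) (Fin n) F => M *ᵥ w) h
    simp only [Matrix.add_mulVec, Matrix.one_mulVec, hN'w, add_zero, Matrix.smul_mulVec,
      smul_add] at this
    exact this
  have h2 : N *ᵥ w = r • (N *ᵥ w) := by
    have := congrArg (fun v : Fin n → F => N *ᵥ v) h1
    simp only [Matrix.mulVec_add, Matrix.mulVec_smul, Matrix.mulVec_mulVec, hN,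
      Matrix.zero_mulVec, smul_zero, add_zero] at this
    exact this
  by_contra hr
  have hr' : (1 - r) ≠ 0 := sub_ne_zero.mpr (Ne.symm hr)
  have h3 : (1 - r) • (N *ᵥ w) = 0 := by
    rw [sub_smul, one_smul, ← h2, sub_self]
  have h4 : N *ᵥ w = 0 := by
    rcases smul_eq_zero.mp h3 with h5 | h5
    · exact absurd h5 hr'
    · exact h5
  rw [h4, smul_zero, add_zero] at h1
  have h6 : (1 - r) • w = 0 := by
    rw [sub_smul, one_smul, ← h1, sub_self]
  rcases smul_eq_zero.mp h6 with h5 | h5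
  · exact hr' h5
  · exact hw h5

theorem conj_one_add_vmv (A B : Matrix (Fin n) (Fin n) F) (hAB : A * B = 1) (a φ : Fin n → F) :
    A * (1 + vecMulVec a φ) * B = 1 + vecMulVec (A *ᵥ a) (φ ᵥ* B) := by
  rw [Matrix.mul_add, Matrix.mul_one, Matrix.add_mul, hAB, Matrix.mul_vecMulVec,
    Matrix.vecMulVec_mul]

theorem conj_flag (A B : Matrix (Fin n) (Fin n) F) (hBA : B * A = 1) (a φ : Fin n → F) :
    (φ ᵥ* B) ⬝ᵥ (A *ᵥ a) = φ ⬝ᵥ a := by
  rw [← Matrix.dotProduct_mulVec, Matrix.mulVec_mulVec, hBA, Matrix.one_mulVec]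

theorem conjSL_tS (g : GL (Fin n) F) (a φ : Fin n → F) (h : φ ⬝ᵥ a = 0) :
    conjSLfun g (tS a φ) = tS ((g : Matrix (Fin n) (Fin n) F) *ᵥ a)
      (φ ᵥ* ((g⁻¹ : GL (Fin n) F) : Matrix (Fin n) (Fin n) F)) := by
  have h' : (φ ᵥ* ((g⁻¹ : GL (Fin n) F) : Matrix (Fin n) (Fin n) F)) ⬝ᵥ
      ((g : Matrix (Fin n) (Fin n) F) *ᵥ a) = 0 := by
    rw [conj_flag _ _ (gl_inv_mul g), h]
  apply Subtype.ext
  rw [conjSLfun_val, tS_val a φ h, tS_val _ _ h', conj_one_add_vmv _ _ (gl_mul_inv g)]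

theorem PhiL_tb (g : GL (Fin n) F) (a φ : Fin n → F) (h : φ ⬝ᵥ a = 0) :
    PhiL g (tb a φ) = tb ((g : Matrix (Fin n) (Fin n) F) *ᵥ a)
      (φ ᵥ* ((g⁻¹ : GL (Fin n) F) : Matrix (Fin n) (Fin n) F)) := by
  unfold tb
  rw [PhiL_mk, conjSL_tS g a φ h]

theorem sl_inv_mul (s : SpecialLinearGroup (Fin n) F) :
    ((s⁻¹ : SpecialLinearGroup (Fin n) F) : Matrix (Fin n) (Fin n) F) *
      (s : Matrix (Fin n) (Fin n) F) = 1 := by
  rw [← Matrix.SpecialLinearGroup.coe_mul, inv_mul_cancel, Matrix.SpecialLinearGroup.coe_one]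

theorem sl_mul_inv (s : SpecialLinearGroup (Fin n) F) :
    (s : Matrix (Fin n) (Fin n) F) *
      ((s⁻¹ : SpecialLinearGroup (Fin n) F) : Matrix (Fin n) (Fin n) F) = 1 := by
  rw [← Matrix.SpecialLinearGroup.coe_mul, mul_inv_cancel, Matrix.SpecialLinearGroup.coe_one]

theorem sl_conj_tS (s : SpecialLinearGroup (Fin n) F) (a φ : Fin n → F) (h : φ ⬝ᵥ a = 0) :
    s * tS a φ * s⁻¹ = tS ((s : Matrix (Fin n) (Fin n) F) *ᵥ a)
      (φ ᵥ* ((s⁻¹ : SpecialLinearGroup (Fin n) F) : Matrix (Fin n) (Fin n) F)) := by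
  have h' : (φ ᵥ* ((s⁻¹ : SpecialLinearGroup (Fin n) F) : Matrix (Fin n) (Fin n) F)) ⬝ᵥ
      ((s : Matrix (Fin n) (Fin n) F) *ᵥ a) = 0 := by
    rw [conj_flag _ _ (sl_inv_mul s), h]
  apply Subtype.ext
  rw [Matrix.SpecialLinearGroup.coe_mul, Matrix.SpecialLinearGroup.coe_mul, tS_val a φ h,
    tS_val _ _ h', conj_one_add_vmv _ _ (sl_mul_inv s)]

/-- equality of the images of two transvections forces equality of the rank one matrices -/
theorem vmv_eq_of_tb_eq (hn : 2 ≤ n) (a φ a' φ' : Fin n → F) (h : φ ⬝ᵥ a = 0)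
    (h' : φ' ⬝ᵥ a' = 0) (he : tb a φ = tb a' φ') : vecMulVec a φ = vecMulVec a' φ' := by
  unfold tb at he
  rw [mk_eq_iff] at he
  obtain ⟨r, hr⟩ := he
  rw [tS_val a φ h, tS_val a' φ' h'] at hr
  -- a nonzero vector killed by φ'
  obtain ⟨w, hw, hw'⟩ : ∃ w : Fin n → F, w ≠ 0 ∧ φ' ⬝ᵥ w = 0 := by
    by_cases h0 : φ' ⟨0, by omega⟩ = 0
    · refine ⟨Pi.single ⟨0, by omega⟩ 1, ?_, ?_⟩
      · intro h1
        have := congrFun h1 ⟨0, by omega⟩
        rw [Pi.single_eq_same, Pi.zero_apply] at this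
        exact one_ne_zero this
      · rw [dotProduct_single, h0, zero_mul]
    · refine ⟨Pi.single ⟨1, by omega⟩ (φ' ⟨0, by omega⟩) - Pi.single ⟨0, by omega⟩ (φ' ⟨1, by omega⟩),
        ?_, ?_⟩
      · intro h1
        have := congrFun h1 ⟨1, by omega⟩
        rw [Pi.sub_apply, Pi.single_eq_same, Pi.single_eq_of_ne (by
          intro h2
          have := congrArg Fin.val h2
          simp at this), sub_zero, Pi.zero_apply] at this
        exact h0 this
      · rw [dotProduct_sub, dotProduct_single, dotProduct_single]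
        ring
  have hr1 : r = 1 := scalar_kill (vecMulVec a φ) (vecMulVec a' φ') r (vmv_sq a φ h) w hw
    (by rw [vmv_mulVec, hw', zero_smul]) hr
  rw [hr1, one_smul] at hr
  exact (add_left_cancel hr).symm

end basic

section centre
variable {n : ℕ} {F : Type*} [Field F] [Finite F]

theorem transv_mem_UU {k l : Fin n} (hkl : k < l) (c : F)
    (x : SpecialLinearGroup (Fin n) F)
    (hx : (x : Matrix (Fin n) (Fin n) F) = 1 + Matrix.single k l c) : x ∈ UU n F := by
  rw [mem_UU, hx, add_sub_cancel_left]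
  intro i j hij
  apply Matrix.single_apply_of_ne
  rintro ⟨rfl, rfl⟩
  exact absurd hkl (not_lt.mpr hij)

theorem UU_centre (i0 il : Fin n) (h0 : (i0 : ℕ) = 0) (hl : (il : ℕ) = n - 1)
    (u : SpecialLinearGroup (Fin n) F) (hu : u ∈ UU n F)
    (hc : ∀ v ∈ UU n F, v * u = u * v) :
    ∃ c : F, (u : Matrix (Fin n) (Fin n) F) = 1 + Matrix.single i0 il c := by
  have hi0 : ∀ i : Fin n, i0 ≤ i := fun i => by
    rw [Fin.le_def, h0]
    exact Nat.zero_le _
  have hil : ∀ j : Fin n, j ≤ il := fun j => by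
    rw [Fin.le_def, hl]
    have := j.2
    omega
  obtain ⟨A, hA⟩ : ∃ A : Matrix (Fin n) (Fin n) F, A = (u : Matrix (Fin n) (Fin n) F) - 1 :=
    ⟨_, rfl⟩
  have hAsu : IsSU A := by rw [hA]; exact hu
  have huA : (u : Matrix (Fin n) (Fin n) F) = 1 + A := by rw [hA]; abel
  have hcomm : ∀ k l : Fin n, k < l → Matrix.single k l (1 : F) * A = A * Matrix.single k l 1 := by
    intro k l hkl
    obtain ⟨x, hx⟩ : ∃ x : SpecialLinearGroup (Fin n) F,
        (x : Matrix (Fin n) (Fin n) F) = 1 + Matrix.single k l (1 : F) :=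
      ⟨⟨Matrix.transvection k l 1, Matrix.det_transvection_of_ne k l (ne_of_lt hkl) 1⟩, rfl⟩
    have h1 := hc x (transv_mem_UU hkl 1 x hx)
    have h2 : ((x * u : SpecialLinearGroup (Fin n) F) : Matrix (Fin n) (Fin n) F) =
        ((u * x : SpecialLinearGroup (Fin n) F) : Matrix (Fin n) (Fin n) F) := by rw [h1]
    rw [Matrix.SpecialLinearGroup.coe_mul, Matrix.SpecialLinearGroup.coe_mul, hx, huA] at h2
    have h3 : (1 + Matrix.single k l (1 : F)) * (1 + A) =
        1 + A + Matrix.single k l 1 + Matrix.single k l 1 * A := by noncomm_ring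
    have h4 : (1 + A) * (1 + Matrix.single k l (1 : F)) =
        1 + A + Matrix.single k l 1 + A * Matrix.single k l 1 := by noncomm_ring
    rw [h3, h4] at h2
    exact add_left_cancel h2
  refine ⟨A i0 il, ?_⟩
  rw [huA]
  congr 1
  ext i j
  by_cases hij : j ≤ i
  · rw [hAsu i j hij]
    by_cases h5 : i0 = i ∧ il = j
    · obtain ⟨rfl, rfl⟩ := h5
      rw [Matrix.single_apply_same, hAsu _ _ hij]
    · rw [Matrix.single_apply_of_ne _ _ _ _ _ h5]
  · have hij' : i < j := not_le.mp hij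
    by_cases hj : j = il
    · by_cases hi : i = i0
      · rw [hi, hj, Matrix.single_apply_same]
      · -- i ≠ first
        have h0i : i0 < i := lt_of_le_of_ne (hi0 i) (Ne.symm hi)
        have h1 := congrFun (congrFun (hcomm i0 i h0i) i0) j
        rw [single_mul_entry, if_pos rfl, one_mul, mul_single_entry, if_neg (ne_of_gt hij')] at h1
        rw [h1, Matrix.single_apply_of_ne]
        rintro ⟨h5, -⟩
        exact hi h5.symm
    · -- j ≠ last
      have hjl : j < il := lt_of_le_of_ne (hil j) hj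
      have h1 := congrFun (congrFun (hcomm j il hjl) i) il
      rw [mul_single_entry, if_pos rfl, mul_one, single_mul_entry, if_neg (ne_of_lt hij')] at h1
      rw [← h1, Matrix.single_apply_of_ne]
      rintro ⟨-, h5⟩
      exact hj h5.symm

theorem single_mem_UU_centre (hn : 2 ≤ n) (i0 il : Fin n) (h0 : (i0 : ℕ) = 0)
    (hl : (il : ℕ) = n - 1) (c : F) (x : SpecialLinearGroup (Fin n) F)
    (hx : (x : Matrix (Fin n) (Fin n) F) = 1 + Matrix.single i0 il c) :
    x ∈ UU n F ∧ ∀ v ∈ UU n F, v * x = x * v := by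
  have hi0 : ∀ i : Fin n, i0 ≤ i := fun i => by
    rw [Fin.le_def, h0]
    exact Nat.zero_le _
  have hil : ∀ j : Fin n, j ≤ il := fun j => by
    rw [Fin.le_def, hl]
    have := j.2
    omega
  have h0l : i0 < il := by
    rw [Fin.lt_def, h0, hl]
    omega
  refine ⟨transv_mem_UU h0l c x hx, fun v hv => ?_⟩
  obtain ⟨A, hA⟩ : ∃ A : Matrix (Fin n) (Fin n) F, A = (v : Matrix (Fin n) (Fin n) F) - 1 :=
    ⟨_, rfl⟩
  have hAsu : IsSU A := by rw [hA]; exact hv
  have hvA : (v : Matrix (Fin n) (Fin n) F) = 1 + A := by rw [hA]; abel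
  have e1 : A * Matrix.single i0 il c = 0 := by
    ext i j
    rw [Matrix.zero_apply, mul_single_entry]
    split_ifs
    · rw [hAsu i i0 (hi0 i), zero_mul]
    · rfl
  have e2 : Matrix.single i0 il c * A = 0 := by
    ext i j
    rw [Matrix.zero_apply, single_mul_entry]
    split_ifs
    · rw [hAsu il j (hil j), mul_zero]
    · rfl
  apply Subtype.ext
  rw [Matrix.SpecialLinearGroup.coe_mul, Matrix.SpecialLinearGroup.coe_mul, hx, hvA]
  calc (1 + A) * (1 + Matrix.single i0 il c)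
      = 1 + A + Matrix.single i0 il c + A * Matrix.single i0 il c := by noncomm_ring
    _ = 1 + A + Matrix.single i0 il c + Matrix.single i0 il c * A := by rw [e1, e2]
    _ = _ := by noncomm_ring

end centre

end Cfsg.Agent.helper14
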