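import Mathlib
import Cfsg.Agent.Lib_helper14_AutPslB

/-! Transitivity of `SL_n` on incident point-hyperplane pairs, and the invariance of the set
of images of transvections under all automorphisms of `PSL_n(F)`. -/

set_option autoImplicit false

namespace Cfsg.Agent.helper14

open Matrix

section flag
variable {n : ℕ} {F : Type*} [Field F]

theorem single_smul_one (i : Fin n) (c : F) : c • (Pi.single i (1 : F) : Fin n → F) = Pi.single i c := by
  funext j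
  rw [Pi.smul_apply, Pi.single_apply, Pi.single_apply, smul_eq_mul]
  split_ifs
  · rw [mul_one]
  · rw [mul_zero]

theorem single_dot_single (i j : Fin n) (hij : i ≠ j) :
    (Pi.single i (1 : F) : Fin n → F) ⬝ᵥ Pi.single j 1 = 0 := by
  rw [dotProduct_single, mul_one, Pi.single_eq_of_ne hij.symm]

theorem flag_A (hn : 2 ≤ n) (i0 : Fin n) (a : Fin n → F) (ha : a ≠ 0) :
    ∃ g : SpecialLinearGroup (Fin n) F,
      (g : Matrix (Fin n) (Fin n) F) *ᵥ (Pi.single i0 1) = a := by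
  have h1 : LinearIndependent F (fun _ : Unit => (Pi.single i0 (1 : F) : Fin n → F)) := by
    rw [linearIndependent_unique_iff]
    intro h
    have := congrFun h i0
    rw [Pi.single_eq_same, Pi.zero_apply] at this
    exact one_ne_zero this
  have h2 : LinearIndependent F (fun _ : Unit => a) := by
    rw [linearIndependent_unique_iff]
    exact ha
  obtain ⟨g, hg⟩ := Cfsg.Agent.helper1.sl_map_family _ _ h1 h2 (by
    rw [Fintype.card_unit]
    omega)
  exact ⟨g, hg ()⟩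

theorem flag_B (i0 il : Fin n) (h0l : i0 ≠ il) (φ : Fin n → F) (hφ : φ ≠ 0)
    (h : φ ⬝ᵥ (Pi.single i0 1) = 0) :
    ∃ (g : SpecialLinearGroup (Fin n) F) (c : F), c ≠ 0 ∧
      (g : Matrix (Fin n) (Fin n) F) *ᵥ (Pi.single i0 1) = Pi.single i0 1 ∧
      φ ᵥ* (g : Matrix (Fin n) (Fin n) F) = c • Pi.single il 1 := by
  -- first step: make the last coordinate nonzero
  obtain ⟨g₃, hg₃0, hg₃l, hg₃φ⟩ : ∃ g₃ : SpecialLinearGroup (Fin n) F,
      (g₃ : Matrix (Fin n) (Fin n) F) *ᵥ (Pi.single i0 1) = Pi.single i0 1 ∧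
      (φ ᵥ* (g₃ : Matrix (Fin n) (Fin n) F)) il ≠ 0 ∧
      (φ ᵥ* (g₃ : Matrix (Fin n) (Fin n) F)) ⬝ᵥ (Pi.single i0 1) = 0 := by
    by_cases hl : φ il = 0
    · obtain ⟨m, hm⟩ : ∃ m, φ m ≠ 0 := by
        by_contra hcon
        push Not at hcon
        exact hφ (funext hcon)
      have hml : m ≠ il := by
        rintro rfl
        exact hm hl
      have hfl : (Pi.single il (1 : F) : Fin n → F) ⬝ᵥ Pi.single m 1 = 0 :=
        single_dot_single il m hml.symm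
      refine ⟨tS (Pi.single m 1) (Pi.single il 1), ?_, ?_, ?_⟩
      · rw [tS_val _ _ hfl, Matrix.add_mulVec, Matrix.one_mulVec, vmv_mulVec,
          single_dot_single il i0 h0l.symm, zero_smul, add_zero]
      · rw [tS_val _ _ hfl, Matrix.vecMul_add, Matrix.vecMul_one, Matrix.vecMul_vecMulVec,
          Pi.add_apply, Pi.smul_apply, Pi.single_eq_same, hl, zero_add, smul_eq_mul, mul_one,
          dotProduct_single, mul_one]
        exact hm
      · rw [tS_val _ _ hfl, Matrix.vecMul_add, Matrix.vecMul_one, Matrix.vecMul_vecMulVec,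
          add_dotProduct, h, smul_dotProduct, single_dot_single il i0 h0l.symm, smul_zero,
          add_zero]
    · refine ⟨1, ?_, ?_, ?_⟩
      · rw [Matrix.SpecialLinearGroup.coe_one, Matrix.one_mulVec]
      · rw [Matrix.SpecialLinearGroup.coe_one, Matrix.vecMul_one]
        exact hl
      · rw [Matrix.SpecialLinearGroup.coe_one, Matrix.vecMul_one]
        exact h
  obtain ⟨φ', hφ'⟩ : ∃ φ' : Fin n → F, φ' = φ ᵥ* (g₃ : Matrix (Fin n) (Fin n) F) := ⟨_, rfl⟩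
  rw [← hφ'] at hg₃l hg₃φ
  obtain ⟨c, hc⟩ : ∃ c : F, c = φ' il := ⟨_, rfl⟩
  have hc0 : c ≠ 0 := by rw [hc]; exact hg₃l
  obtain ⟨ψ, hψ⟩ : ∃ ψ : Fin n → F, ψ = c⁻¹ • φ' := ⟨_, rfl⟩
  have hψl : ψ il = 1 := by
    rw [hψ, Pi.smul_apply, smul_eq_mul, ← hc, inv_mul_cancel₀ hc0]
  have hψ0 : ψ ⬝ᵥ (Pi.single i0 1) = 0 := by
    rw [hψ, smul_dotProduct, hg₃φ, smul_zero]
  have hφ'ψ : φ' = c • ψ := by
    rw [hψ, smul_smul, mul_inv_cancel₀ hc0, one_smul]
  have hfl : (Pi.single il (1 : F) - ψ) ⬝ᵥ (Pi.single il (1 : F) : Fin n → F) = 0 := by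
    rw [sub_dotProduct, dotProduct_single, dotProduct_single, mul_one, mul_one, Pi.single_eq_same,
      hψl, sub_self]
  refine ⟨g₃ * tS (Pi.single il 1) (Pi.single il 1 - ψ), c, hc0, ?_, ?_⟩
  · rw [Matrix.SpecialLinearGroup.coe_mul, ← Matrix.mulVec_mulVec, tS_val _ _ hfl,
      Matrix.add_mulVec, Matrix.one_mulVec, vmv_mulVec, sub_dotProduct, hψ0,
      single_dot_single il i0 h0l.symm, sub_zero, zero_smul, add_zero, hg₃0]
  · rw [Matrix.SpecialLinearGroup.coe_mul, ← Matrix.vecMul_vecMul, ← hφ', hφ'ψ, tS_val _ _ hfl,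
      Matrix.vecMul_add, Matrix.vecMul_one, Matrix.vecMul_vecMulVec, smul_dotProduct,
      dotProduct_single, mul_one, hψl, smul_eq_mul, mul_one]
    have : c • ψ + c • (Pi.single il (1 : F) - ψ) = c • (Pi.single il (1 : F) : Fin n → F) := by
      rw [← smul_add]
      congr 1
      abel
    exact this

theorem flag_conj_std (hn : 2 ≤ n) (i0 il : Fin n) (h0l : i0 ≠ il)
    (a φ : Fin n → F) (ha : a ≠ 0) (hφ : φ ≠ 0) (h : φ ⬝ᵥ a = 0) :
    ∃ (g : SpecialLinearGroup (Fin n) F) (c : F), c ≠ 0 ∧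
      (g : Matrix (Fin n) (Fin n) F) *ᵥ (Pi.single i0 1) = a ∧
      φ ᵥ* (g : Matrix (Fin n) (Fin n) F) = c • Pi.single il 1 := by
  obtain ⟨g₁, hg₁⟩ := flag_A hn i0 a ha
  obtain ⟨φ', hφ'⟩ : ∃ φ' : Fin n → F, φ' = φ ᵥ* (g₁ : Matrix (Fin n) (Fin n) F) := ⟨_, rfl⟩
  have hφ'0 : φ' ⬝ᵥ (Pi.single i0 1) = 0 := by
    rw [hφ', ← Matrix.dotProduct_mulVec, hg₁, h]
  have hφ'ne : φ' ≠ 0 := by
    intro h1
    apply hφ
    have h2 : φ' ᵥ* ((g₁⁻¹ : SpecialLinearGroup (Fin n) F) : Matrix (Fin n) (Fin n) F) = φ := by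
      rw [hφ', Matrix.vecMul_vecMul, sl_mul_inv, Matrix.vecMul_one]
    rw [← h2, h1, Matrix.zero_vecMul]
  obtain ⟨g₂, c, hc, hg₂0, hg₂φ⟩ := flag_B i0 il h0l φ' hφ'ne hφ'0
  refine ⟨g₁ * g₂, c, hc, ?_, ?_⟩
  · rw [Matrix.SpecialLinearGroup.coe_mul, ← Matrix.mulVec_mulVec, hg₂0, hg₁]
  · rw [Matrix.SpecialLinearGroup.coe_mul, ← Matrix.vecMul_vecMul, ← hφ', hg₂φ]

end flag

end Cfsg.Agent.helper14
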