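import Mathlib
import Cfsg.Agent.Lib_helper14_AutPslC

/-! Every automorphism of `PSL_n(F)` (`F` finite, `n ≥ 2`) maps the image of a transvection to
the image of a transvection. -/

set_option autoImplicit false

namespace Cfsg.Agent.helper14

open Matrix
open scoped Pointwise

section invariance
variable {n : ℕ} {F : Type*} [Field F]

theorem tb_ne_one (hn : 2 ≤ n) (a φ : Fin n → F) (ha : a ≠ 0) (hφ : φ ≠ 0) (h : φ ⬝ᵥ a = 0) :
    tb a φ ≠ 1 := by
  intro h1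
  have h2 : tb a φ = tb (0 : Fin n → F) (0 : Fin n → F) := by
    rw [h1]
    unfold tb
    rw [tS_zero_left]
    rfl
  have h3 := vmv_eq_of_tb_eq hn a φ 0 0 h (dotProduct_zero _) h2
  rw [vmv_zero_left, Matrix.vecMulVec_eq_zero] at h3
  rcases h3 with h3 | h3
  · exact ha h3
  · exact hφ h3

variable [Fintype F]

theorem aut_tb {p f : ℕ} [hp : Fact p.Prime] (hF : Fintype.card F = p ^ f) (hf : 1 ≤ f)
    (hn : 2 ≤ n) (α : MulAut (ProjectiveSpecialLinearGroup (Fin n) F))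
    (a φ : Fin n → F) (ha : a ≠ 0) (hφ : φ ≠ 0) (h : φ ⬝ᵥ a = 0) :
    ∃ b ψ : Fin n → F, b ≠ 0 ∧ ψ ≠ 0 ∧ ψ ⬝ᵥ b = 0 ∧ α (tb a φ) = tb b ψ := by
  classical
  have hn1 : 1 ≤ n := by omega
  obtain ⟨i0, h0⟩ : ∃ i0 : Fin n, (i0 : ℕ) = 0 := ⟨⟨0, by omega⟩, rfl⟩
  obtain ⟨il, hl⟩ : ∃ il : Fin n, (il : ℕ) = n - 1 := ⟨⟨n - 1, by omega⟩, rfl⟩
  have h0l : i0 ≠ il := by
    intro h1
    have := congrArg Fin.val h1
    rw [h0, hl] at this
    omega
  have hflag : ∀ c : F, (c • (Pi.single il (1 : F) : Fin n → F)) ⬝ᵥ (Pi.single i0 1) = 0 := by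
    intro c
    rw [smul_dotProduct, single_dot_single il i0 h0l.symm, smul_zero]
  have hstd : ∀ c : F, ((tS (Pi.single i0 1) (c • (Pi.single il (1 : F) : Fin n → F)) :
      SpecialLinearGroup (Fin n) F) : Matrix (Fin n) (Fin n) F) = 1 + Matrix.single i0 il c := by
    intro c
    rw [tS_val _ _ (hflag c), single_smul_one, vmv_single]
  -- the standard Sylow subgroup of PSL
  obtain ⟨π, hπ⟩ : ∃ π : SpecialLinearGroup (Fin n) F →* ProjectiveSpecialLinearGroup (Fin n) F,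
      π = QuotientGroup.mk' _ := ⟨_, rfl⟩
  have hπs : Function.Surjective π := by rw [hπ]; exact QuotientGroup.mk'_surjective _
  have hπmk : ∀ s, π s = QuotientGroup.mk s := by intro s; rw [hπ]; rfl
  obtain ⟨P₀, hP₀⟩ : ∃ P₀ : Sylow p (ProjectiveSpecialLinearGroup (Fin n) F),
      (P₀ : Subgroup (ProjectiveSpecialLinearGroup (Fin n) F)) = (UU n F).map π :=
    ⟨(sylUU hF hf hn1).mapSurjective hπs, by
      rw [Sylow.coe_mapSurjective, sylUU_coe]⟩
  have hmemP : ∀ y, y ∈ P₀ ↔ ∃ u ∈ UU n F, π u = y := by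
    intro y
    show y ∈ (P₀ : Subgroup (ProjectiveSpecialLinearGroup (Fin n) F)) ↔ _
    rw [hP₀, Subgroup.mem_map]
  obtain ⟨g, c, hc, hga, hφg⟩ := flag_conj_std hn i0 il h0l a φ ha hφ h
  obtain ⟨x, hx⟩ : ∃ x : SpecialLinearGroup (Fin n) F,
      x = tS (Pi.single i0 1) (c • (Pi.single il (1 : F) : Fin n → F)) := ⟨_, rfl⟩
  have hxval : (x : Matrix (Fin n) (Fin n) F) = 1 + Matrix.single i0 il c := by rw [hx, hstd]
  have hconj : tS a φ = g * x * g⁻¹ := by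
    rw [hx, sl_conj_tS g _ _ (hflag c), hga]
    congr 1
    rw [← hφg, Matrix.vecMul_vecMul, sl_mul_inv, Matrix.vecMul_one]
  obtain ⟨hxU, hxc⟩ := single_mem_UU_centre hn i0 il h0 hl c x hxval
  -- the automorphism β
  obtain ⟨β, hβ⟩ : ∃ β : MulAut (ProjectiveSpecialLinearGroup (Fin n) F),
      β = α * MulAut.conj (π g) := ⟨_, rfl⟩
  have htbc : tb a φ = π g * π x * (π g)⁻¹ := by
    unfold tb
    rw [hconj, ← hπmk, map_mul, map_mul, map_inv]
  have hβx : β (π x) = α (tb a φ) := by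
    rw [hβ, MulAut.mul_apply, MulAut.conj_apply, htbc]
  obtain ⟨hb, hhb⟩ := MulAction.exists_smul_eq (ProjectiveSpecialLinearGroup (Fin n) F) P₀
    (β • P₀)
  obtain ⟨δ, hδ⟩ : ∃ δ : MulAut (ProjectiveSpecialLinearGroup (Fin n) F),
      δ = (MulAut.conj hb)⁻¹ * β := ⟨_, rfl⟩
  have hδP : δ • P₀ = P₀ := by
    rw [hδ, mul_smul, ← hhb, Sylow.smul_def, inv_smul_smul]
  have hδmem : ∀ y, y ∈ P₀ → δ y ∈ P₀ := by
    intro y hy
    have h1 : δ • y ∈ δ • (P₀ : Subgroup (ProjectiveSpecialLinearGroup (Fin n) F)) :=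
      Subgroup.smul_mem_pointwise_smul_iff.mpr hy
    rw [← Sylow.pointwise_smul_def, hδP] at h1
    exact h1
  have hδinvP : δ⁻¹ • P₀ = P₀ := by
    rw [inv_smul_eq_iff, hδP]
  have hδinvmem : ∀ y, y ∈ P₀ → δ⁻¹ y ∈ P₀ := by
    intro y hy
    have h1 : δ⁻¹ • y ∈ δ⁻¹ • (P₀ : Subgroup (ProjectiveSpecialLinearGroup (Fin n) F)) :=
      Subgroup.smul_mem_pointwise_smul_iff.mpr hy
    rw [← Sylow.pointwise_smul_def, hδinvP] at h1
    exact h1
  have hπxP : π x ∈ P₀ := (hmemP _).mpr ⟨x, hxU, rfl⟩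
  obtain ⟨u, huU, huy⟩ := (hmemP _).mp (hδmem _ hπxP)
  -- u is central in UU
  have hucent : ∀ v ∈ UU n F, v * u = u * v := by
    intro v hv
    have hv' : π v ∈ P₀ := (hmemP _).mpr ⟨v, hv, rfl⟩
    obtain ⟨v', hv'U, hv'y⟩ := (hmemP _).mp (hδinvmem _ hv')
    have h1 : π (v * u) = π (u * v) := by
      rw [map_mul, map_mul, huy]
      have h2 : π v = δ (π v') := by
        rw [hv'y]
        show π v = δ (δ⁻¹ (π v))
        rw [← MulAut.mul_apply, mul_inv_cancel, MulAut.one_apply]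
      rw [h2, ← map_mul, ← map_mul, ← map_mul, ← map_mul, hxc v' hv'U]
    rw [hπmk, hπmk, mk_eq_iff] at h1
    obtain ⟨r, hr⟩ := h1
    have h3 := congrFun (congrFun hr i0) i0
    rw [Matrix.smul_apply, UU_entry_diag ((UU n F).mul_mem huU hv) i0,
      UU_entry_diag ((UU n F).mul_mem hv huU) i0, smul_eq_mul, mul_one] at h3
    rw [← h3, one_smul] at hr
    exact (Subtype.ext hr).symm
  obtain ⟨c', hc'⟩ := UU_centre i0 il h0 hl u huU hucent
  have hu : u = tS (Pi.single i0 1) (c' • (Pi.single il (1 : F) : Fin n → F)) := by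
    apply Subtype.ext
    rw [hc', hstd]
  -- α (tb a φ) = hb * π u * hb⁻¹
  have hfinal : α (tb a φ) = hb * π u * hb⁻¹ := by
    rw [huy, ← hβx, hδ, MulAut.mul_apply, MulAut.inv_apply, MulAut.conj_symm_apply]
    group
  obtain ⟨h', hh'⟩ := hπs hb
  have hc'0 : c' ≠ 0 := by
    rintro rfl
    rw [zero_smul, tS_zero_right] at hu
    rw [hu, map_one, mul_one, mul_inv_cancel] at hfinal
    have h5 : tb a φ = 1 := by
      have := congrArg (fun z => α⁻¹ z) hfinal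
      simp only [map_one] at this
      rw [← this]
      show tb a φ = α⁻¹ (α (tb a φ))
      rw [← MulAut.mul_apply, inv_mul_cancel, MulAut.one_apply]
    exact tb_ne_one hn a φ ha hφ h h5
  refine ⟨(h' : Matrix (Fin n) (Fin n) F) *ᵥ (Pi.single i0 1),
    (c' • (Pi.single il (1 : F) : Fin n → F)) ᵥ*
      ((h'⁻¹ : SpecialLinearGroup (Fin n) F) : Matrix (Fin n) (Fin n) F), ?_, ?_, ?_, ?_⟩
  · intro h5
    have h6 : ((h'⁻¹ : SpecialLinearGroup (Fin n) F) : Matrix (Fin n) (Fin n) F) *ᵥ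
        ((h' : Matrix (Fin n) (Fin n) F) *ᵥ (Pi.single i0 1)) = Pi.single i0 1 := by
      rw [Matrix.mulVec_mulVec, sl_inv_mul, Matrix.one_mulVec]
    rw [h5, Matrix.mulVec_zero] at h6
    have := congrFun h6 i0
    rw [Pi.single_eq_same, Pi.zero_apply] at this
    exact zero_ne_one this
  · intro h5
    have h6 : ((c' • (Pi.single il (1 : F) : Fin n → F)) ᵥ*
      ((h'⁻¹ : SpecialLinearGroup (Fin n) F) : Matrix (Fin n) (Fin n) F)) ᵥ*
        (h' : Matrix (Fin n) (Fin n) F) = c' • (Pi.single il (1 : F) : Fin n → F) := by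
      rw [Matrix.vecMul_vecMul, sl_inv_mul, Matrix.vecMul_one]
    rw [h5, Matrix.zero_vecMul] at h6
    have := congrFun h6 il
    rw [Pi.smul_apply, Pi.single_eq_same, Pi.zero_apply, smul_eq_mul, mul_one] at this
    exact hc'0 this.symm
  · rw [conj_flag _ _ (sl_inv_mul h')]
    exact hflag c'
  · rw [hfinal, ← hh', ← map_inv, ← map_mul, ← map_mul, hu, sl_conj_tS h' _ _ (hflag c'), hπmk]
    rfl

end invariance

end Cfsg.Agent.helper14
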