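import Mathlib
import Cfsg.Agent.Lib_helper14_PslB

/-! Graph automorphisms of `PSL_n(F)`: the inverse-transpose automorphism `iota0`, the
automorphisms `gam M = PhiL M⁻¹ * iota0`, their squares, conjugacy under the inner-diagonal
group and their centralizers there (the projective similarity group of the bilinear form
with matrix `M`). -/

set_option autoImplicit false

namespace Cfsg.Agent.helper14

open Matrix Cfsg.Agent.helper13

section graphA
variable {n : ℕ} {F : Type*} [Field F]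

theorem slT_mul (s t : SpecialLinearGroup (Fin n) F) :
    (s * t).transpose = t.transpose * s.transpose := by
  have e : (((s * t).transpose : SpecialLinearGroup (Fin n) F) : Matrix (Fin n) (Fin n) F) =
      ((t.transpose * s.transpose : SpecialLinearGroup (Fin n) F) : Matrix (Fin n) (Fin n) F) := by
    rw [Matrix.SpecialLinearGroup.coe_transpose, Matrix.SpecialLinearGroup.coe_mul,
      Matrix.SpecialLinearGroup.coe_mul, Matrix.SpecialLinearGroup.coe_transpose,
      Matrix.SpecialLinearGroup.coe_transpose, Matrix.transpose_mul]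
  exact Subtype.ext e

theorem slT_one : (1 : SpecialLinearGroup (Fin n) F).transpose = 1 := by
  have e : (((1 : SpecialLinearGroup (Fin n) F).transpose : SpecialLinearGroup (Fin n) F) :
      Matrix (Fin n) (Fin n) F) = ((1 : SpecialLinearGroup (Fin n) F) : Matrix (Fin n) (Fin n) F) := by
    rw [Matrix.SpecialLinearGroup.coe_transpose, Matrix.SpecialLinearGroup.coe_one,
      Matrix.transpose_one]
  exact Subtype.ext e

theorem slT_slT (s : SpecialLinearGroup (Fin n) F) : s.transpose.transpose = s := by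
  have e : ((s.transpose.transpose : SpecialLinearGroup (Fin n) F) : Matrix (Fin n) (Fin n) F) =
      (s : Matrix (Fin n) (Fin n) F) := by
    rw [Matrix.SpecialLinearGroup.coe_transpose, Matrix.SpecialLinearGroup.coe_transpose,
      Matrix.transpose_transpose]
  exact Subtype.ext e

theorem slT_inv (s : SpecialLinearGroup (Fin n) F) : (s⁻¹).transpose = (s.transpose)⁻¹ := by
  apply eq_inv_of_mul_eq_one_left
  rw [← slT_mul, mul_inv_cancel, slT_one]

/-- inverse transpose as an automorphism of `SL_n` -/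
def invTSL : SpecialLinearGroup (Fin n) F ≃* SpecialLinearGroup (Fin n) F where
  toFun s := (s⁻¹).transpose
  invFun s := (s⁻¹).transpose
  left_inv s := by
    show (((s⁻¹).transpose)⁻¹).transpose = s
    rw [slT_inv, slT_slT, inv_inv]
  right_inv s := by
    show (((s⁻¹).transpose)⁻¹).transpose = s
    rw [slT_inv, slT_slT, inv_inv]
  map_mul' s t := by
    show ((s * t)⁻¹).transpose = (s⁻¹).transpose * (t⁻¹).transpose
    rw [_root_.mul_inv_rev, slT_mul]

/-- the inverse-transpose automorphism of `PSL_n` -/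
noncomputable def iota0 : MulAut (ProjectiveSpecialLinearGroup (Fin n) F) :=
  quotAut (Subgroup.center (SpecialLinearGroup (Fin n) F)) invTSL

theorem iota0_mk (s : SpecialLinearGroup (Fin n) F) :
    (iota0 : MulAut (ProjectiveSpecialLinearGroup (Fin n) F)) (QuotientGroup.mk s) =
      QuotientGroup.mk (s⁻¹).transpose := rfl

theorem iota0_isInvT :
    Cfsg.IsInverseTransposeAutPSL (iota0 : MulAut (ProjectiveSpecialLinearGroup (Fin n) F)) := by
  intro s s' hs
  rw [iota0_mk]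
  congr 1
  have e : (((s⁻¹).transpose : SpecialLinearGroup (Fin n) F) : Matrix (Fin n) (Fin n) F) =
      (s' : Matrix (Fin n) (Fin n) F) := by
    rw [hs, Matrix.SpecialLinearGroup.coe_transpose]
  exact Subtype.ext e

theorem invT_unique (ι : MulAut (ProjectiveSpecialLinearGroup (Fin n) F))
    (hι : Cfsg.IsInverseTransposeAutPSL ι) : ι = iota0 := by
  ext x
  induction x using QuotientGroup.induction_on with
  | H s =>
    rw [hι s (s⁻¹).transpose (Matrix.SpecialLinearGroup.coe_transpose _), iota0_mk]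

theorem iota0_mul_self :
    (iota0 : MulAut (ProjectiveSpecialLinearGroup (Fin n) F)) * iota0 = 1 := by
  ext x
  induction x using QuotientGroup.induction_on with
  | H s =>
    rw [MulAut.mul_apply, iota0_mk, iota0_mk, MulAut.one_apply, slT_inv, slT_slT, inv_inv]

theorem iota0_comm (g : GL (Fin n) F) :
    (iota0 : MulAut (ProjectiveSpecialLinearGroup (Fin n) F)) * PhiL g = PhiL (gInvT g) * iota0 :=
  invT_comm iota0 iota0_isInvT g

theorem gInvT_mul (g h : GL (Fin n) F) : gInvT (g * h) = gInvT g * gInvT h := by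
  apply Units.ext
  rw [Units.val_mul, gInvT_val, gInvT_val, gInvT_val, _root_.mul_inv_rev, Units.val_mul,
    Matrix.transpose_mul]

theorem gInvT_one : gInvT (1 : GL (Fin n) F) = 1 := by
  apply Units.ext
  rw [gInvT_val, inv_one, Units.val_one, Matrix.transpose_one]

theorem gInvT_inv (g : GL (Fin n) F) : gInvT g⁻¹ = (gInvT g)⁻¹ := by
  apply eq_inv_of_mul_eq_one_left
  rw [← gInvT_mul, inv_mul_cancel, gInvT_one]

theorem gInvT_gInvT (g : GL (Fin n) F) : gInvT (gInvT g) = g := by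
  apply Units.ext
  rw [gInvT_val, gInvT_inv_val, Matrix.transpose_transpose]

/-- the graph automorphism attached to the invertible matrix `M` -/
noncomputable def gam (M : GL (Fin n) F) : MulAut (ProjectiveSpecialLinearGroup (Fin n) F) :=
  PhiL M⁻¹ * iota0

theorem isGraph_iff (β : MulAut (ProjectiveSpecialLinearGroup (Fin n) F)) :
    Cfsg.IsGraphAutClassPSL β ↔ 3 ≤ n ∧ ∃ M : GL (Fin n) F, β = gam M := by
  constructor
  · rintro ⟨hn, δ, γ, hδ, hγ, rfl⟩
    refine ⟨hn, ?_⟩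
    obtain ⟨g, rfl⟩ := (innerDiag_iff δ).mp hδ
    refine ⟨g⁻¹, ?_⟩
    rw [invT_unique γ hγ, gam, inv_inv]
  · rintro ⟨hn, M, rfl⟩
    exact ⟨hn, PhiL M⁻¹, iota0, (innerDiag_iff _).mpr ⟨M⁻¹, rfl⟩, iota0_isInvT, rfl⟩

theorem gam_mul_self (M : GL (Fin n) F) : gam M * gam M = PhiL (M⁻¹ * gInvT M⁻¹) := by
  unfold gam
  calc PhiL M⁻¹ * iota0 * (PhiL M⁻¹ * iota0) = PhiL M⁻¹ * (iota0 * PhiL M⁻¹) * iota0 := by group
    _ = PhiL M⁻¹ * (PhiL (gInvT M⁻¹) * iota0) * iota0 := by rw [iota0_comm]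
    _ = PhiL M⁻¹ * PhiL (gInvT M⁻¹) * (iota0 * iota0) := by group
    _ = PhiL (M⁻¹ * gInvT M⁻¹) := by rw [iota0_mul_self, mul_one, map_mul]

theorem gam_mul_self_eq_one_iff (M : GL (Fin n) F) :
    gam M * gam M = 1 ↔ ∃ c : Fˣ, (M : Matrix (Fin n) (Fin n) F)ᵀ =
      (c : F) • (M : Matrix (Fin n) (Fin n) F) := by
  rw [gam_mul_self, ← MonoidHom.mem_ker, PhiL_ker, Cfsg.Geo.mem_scalars_iff, Units.val_mul,
    gInvT_val, inv_inv]
  constructor
  · rintro ⟨c, hc⟩
    refine ⟨c, ?_⟩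
    have h1 : (M : Matrix (Fin n) (Fin n) F) * (((M⁻¹ : GL (Fin n) F) : Matrix (Fin n) (Fin n) F) *
        (M : Matrix (Fin n) (Fin n) F)ᵀ) = (M : Matrix (Fin n) (Fin n) F) *
        ((c : F) • (1 : Matrix (Fin n) (Fin n) F)) := by rw [hc]
    rw [← Matrix.mul_assoc, gl_mul_inv, Matrix.one_mul, Matrix.mul_smul, Matrix.mul_one] at h1
    exact h1
  · rintro ⟨c, hc⟩
    refine ⟨c, ?_⟩
    rw [hc, Matrix.mul_smul, gl_inv_mul]

theorem conj_gam (B M : GL (Fin n) F) :
    PhiL B * gam M * (PhiL B)⁻¹ = gam (gInvT B * M * B⁻¹) := by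
  unfold gam
  have h1 : (gInvT B * M * B⁻¹)⁻¹ = B * M⁻¹ * gInvT B⁻¹ := by
    rw [gInvT_inv]
    group
  rw [h1, ← map_inv]
  calc PhiL B * (PhiL M⁻¹ * iota0) * PhiL B⁻¹ = PhiL B * PhiL M⁻¹ * (iota0 * PhiL B⁻¹) := by group
    _ = PhiL B * PhiL M⁻¹ * (PhiL (gInvT B⁻¹) * iota0) := by rw [iota0_comm]
    _ = PhiL (B * M⁻¹ * gInvT B⁻¹) * iota0 := by
      rw [map_mul, map_mul]
      group

theorem gam_eq_iff (M M' : GL (Fin n) F) :
    gam M = gam M' ↔ ∃ c : Fˣ, (M' : Matrix (Fin n) (Fin n) F) =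
      (c : F) • (M : Matrix (Fin n) (Fin n) F) := by
  unfold gam
  rw [mul_left_inj, map_inv, map_inv, _root_.inv_inj]
  have h1 : PhiL M = PhiL M' ↔ M⁻¹ * M' ∈ (PhiL (n := n) (F := F)).ker := by
    rw [MonoidHom.mem_ker, map_mul, map_inv, inv_mul_eq_one]
  rw [h1, PhiL_ker, Cfsg.Geo.mem_scalars_iff, Units.val_mul]
  constructor
  · rintro ⟨c, hc⟩
    refine ⟨c, ?_⟩
    have h2 : (M : Matrix (Fin n) (Fin n) F) * (((M⁻¹ : GL (Fin n) F) : Matrix (Fin n) (Fin n) F) *
        (M' : Matrix (Fin n) (Fin n) F)) = (M : Matrix (Fin n) (Fin n) F) *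
        ((c : F) • (1 : Matrix (Fin n) (Fin n) F)) := by rw [hc]
    rw [← Matrix.mul_assoc, gl_mul_inv, Matrix.one_mul, Matrix.mul_smul, Matrix.mul_one] at h2
    exact h2
  · rintro ⟨c, hc⟩
    refine ⟨c, ?_⟩
    rw [hc, Matrix.mul_smul, gl_inv_mul]

/-- the bilinear form with matrix `M` -/
def bilM {ι : Type*} [Fintype ι] (M : Matrix ι ι F) (u v : ι → F) : F := u ⬝ᵥ (M *ᵥ v)

theorem bilM_single {ι : Type*} [Fintype ι] [DecidableEq ι] (M : Matrix ι ι F) (i j : ι) :
    bilM M (Pi.single i 1) (Pi.single j 1) = M i j := by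
  unfold bilM
  rw [Matrix.mulVec_single_one, single_one_dotProduct]
  rfl

theorem bilM_ext {ι : Type*} [Fintype ι] [DecidableEq ι] (M M' : Matrix ι ι F)
    (h : ∀ u v, bilM M u v = bilM M' u v) : M = M' := by
  ext i j
  rw [← bilM_single M, ← bilM_single M', h]

theorem bilM_congr {ι κ : Type*} [Fintype ι] [Fintype κ] (M : Matrix κ κ F) (E : Matrix κ ι F)
    (u v : ι → F) : bilM (Eᵀ * M * E) u v = bilM M (E *ᵥ u) (E *ᵥ v) := by
  unfold bilM
  rw [← Matrix.mulVec_mulVec, ← Matrix.mulVec_mulVec, Matrix.dotProduct_mulVec,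
    Matrix.vecMul_transpose]

theorem bilM_smul {ι : Type*} [Fintype ι] (M : Matrix ι ι F) (c : F) (u v : ι → F) :
    bilM (c • M) u v = c * bilM M u v := by
  unfold bilM
  rw [Matrix.smul_mulVec, dotProduct_smul, smul_eq_mul]

theorem mem_sim_bilM_iff (M : Matrix (Fin n) (Fin n) F) (D : GL (Fin n) F) :
    D ∈ Cfsg.Geo.similarityGroup (bilM M) ↔
      ∃ c : Fˣ, (D : Matrix (Fin n) (Fin n) F)ᵀ * M * (D : Matrix (Fin n) (Fin n) F) =
        (c : F) • M := by
  constructor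
  · rintro ⟨c, hc⟩
    refine ⟨c, bilM_ext _ _ fun u v => ?_⟩
    rw [bilM_congr, bilM_smul, hc]
  · rintro ⟨c, hc⟩
    refine ⟨c, fun u v => ?_⟩
    rw [← bilM_congr, hc, bilM_smul]

theorem comm_gam_iff (M D : GL (Fin n) F) :
    gam M * PhiL D = PhiL D * gam M ↔
      D ∈ Cfsg.Geo.similarityGroup (bilM (M : Matrix (Fin n) (Fin n) F)) := by
  rw [mem_sim_bilM_iff]
  have h0 : gam M * PhiL D = PhiL D * gam M ↔ PhiL D * gam M * (PhiL D)⁻¹ = gam M := by
    rw [mul_inv_eq_iff_eq_mul, eq_comm]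
  rw [h0, conj_gam, gam_eq_iff]
  constructor
  · rintro ⟨c, hc⟩
    refine ⟨c, ?_⟩
    rw [Units.val_mul, Units.val_mul, gInvT_val] at hc
    have h1 : (D : Matrix (Fin n) (Fin n) F)ᵀ * (M : Matrix (Fin n) (Fin n) F) *
        (D : Matrix (Fin n) (Fin n) F) =
        (D : Matrix (Fin n) (Fin n) F)ᵀ * ((c : F) •
          (((D⁻¹ : GL (Fin n) F) : Matrix (Fin n) (Fin n) F)ᵀ * (M : Matrix (Fin n) (Fin n) F) *
          ((D⁻¹ : GL (Fin n) F) : Matrix (Fin n) (Fin n) F))) *
        (D : Matrix (Fin n) (Fin n) F) := by rw [← hc]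
    rw [h1, Matrix.mul_smul, Matrix.smul_mul]
    congr 1
    calc (D : Matrix (Fin n) (Fin n) F)ᵀ * (((D⁻¹ : GL (Fin n) F) : Matrix (Fin n) (Fin n) F)ᵀ *
          (M : Matrix (Fin n) (Fin n) F) * ((D⁻¹ : GL (Fin n) F) : Matrix (Fin n) (Fin n) F)) *
          (D : Matrix (Fin n) (Fin n) F)
        = ((D : Matrix (Fin n) (Fin n) F)ᵀ * ((D⁻¹ : GL (Fin n) F) : Matrix (Fin n) (Fin n) F)ᵀ) *
          (M : Matrix (Fin n) (Fin n) F) * (((D⁻¹ : GL (Fin n) F) : Matrix (Fin n) (Fin n) F) *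
          (D : Matrix (Fin n) (Fin n) F)) := by simp only [Matrix.mul_assoc]
      _ = (M : Matrix (Fin n) (Fin n) F) := by
        rw [← Matrix.transpose_mul, gl_inv_mul, Matrix.transpose_one, Matrix.one_mul,
          Matrix.mul_one]
  · rintro ⟨c, hc⟩
    refine ⟨c, ?_⟩
    rw [Units.val_mul, Units.val_mul, gInvT_val]
    have h2 : ((D⁻¹ : GL (Fin n) F) : Matrix (Fin n) (Fin n) F)ᵀ *
        ((D : Matrix (Fin n) (Fin n) F)ᵀ * (M : Matrix (Fin n) (Fin n) F) *
          (D : Matrix (Fin n) (Fin n) F)) * ((D⁻¹ : GL (Fin n) F) : Matrix (Fin n) (Fin n) F) =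
        (M : Matrix (Fin n) (Fin n) F) := by
      calc ((D⁻¹ : GL (Fin n) F) : Matrix (Fin n) (Fin n) F)ᵀ *
          ((D : Matrix (Fin n) (Fin n) F)ᵀ * (M : Matrix (Fin n) (Fin n) F) *
          (D : Matrix (Fin n) (Fin n) F)) * ((D⁻¹ : GL (Fin n) F) : Matrix (Fin n) (Fin n) F)
          = (((D⁻¹ : GL (Fin n) F) : Matrix (Fin n) (Fin n) F)ᵀ * (D : Matrix (Fin n) (Fin n) F)ᵀ) *
            (M : Matrix (Fin n) (Fin n) F) * ((D : Matrix (Fin n) (Fin n) F) *
            ((D⁻¹ : GL (Fin n) F) : Matrix (Fin n) (Fin n) F)) := by simp only [Matrix.mul_assoc]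
        _ = (M : Matrix (Fin n) (Fin n) F) := by
          rw [← Matrix.transpose_mul, gl_mul_inv, Matrix.transpose_one, Matrix.one_mul,
            Matrix.mul_one]
    rw [hc, Matrix.mul_smul, Matrix.smul_mul] at h2
    exact h2.symm

end graphA

end Cfsg.Agent.helper14
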