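import Mathlib
import Cfsg.Agent.Lib_helper14_AutPslD
import Cfsg.Agent.Lib_helper14_GraphA

/-! Maximal groups of transvections in `PSL_n`: the groups `TC a` (fixed centre) and `TA φ`
(fixed axis). -/

set_option autoImplicit false

namespace Cfsg.Agent.helper14

open Matrix

section linalg
variable {n : ℕ} {F : Type*} [Field F]

theorem exists_dot_one (φ : Fin n → F) (hφ : φ ≠ 0) : ∃ w : Fin n → F, φ ⬝ᵥ w = 1 := by
  obtain ⟨i, hi⟩ : ∃ i, φ i ≠ 0 := by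
    by_contra hcon
    push Not at hcon
    exact hφ (funext hcon)
  refine ⟨Pi.single i (φ i)⁻¹, ?_⟩
  rw [dotProduct_single, mul_inv_cancel₀ hi]

theorem exists_ker2 (hn : 3 ≤ n) (φ φ' : Fin n → F) :
    ∃ w : Fin n → F, w ≠ 0 ∧ φ ⬝ᵥ w = 0 ∧ φ' ⬝ᵥ w = 0 := by
  obtain ⟨f, hf⟩ : ∃ f : (Fin n → F) →ₗ[F] (Fin 2 → F),
      ∀ w, f w = ![φ ⬝ᵥ w, φ' ⬝ᵥ w] := by
    refine ⟨Matrix.mulVecLin (Matrix.of ![φ, φ'] : Matrix (Fin 2) (Fin n) F), fun w => ?_⟩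
    funext i
    fin_cases i
    · rfl
    · rfl
  have h1 : LinearMap.ker f ≠ ⊥ := by
    apply LinearMap.ker_ne_bot_of_finrank_lt
    rw [Module.finrank_fin_fun, Module.finrank_fin_fun]
    omega
  obtain ⟨w, hw, hw0⟩ := (Submodule.ne_bot_iff _).mp h1
  rw [LinearMap.mem_ker, hf] at hw
  refine ⟨w, hw0, ?_, ?_⟩
  · have := congrFun hw 0
    simpa using this
  · have := congrFun hw 1
    simpa using this

theorem exists_ker1 (hn : 2 ≤ n) (φ : Fin n → F) : ∃ w : Fin n → F, w ≠ 0 ∧ φ ⬝ᵥ w = 0 := by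
  obtain ⟨f, hf⟩ : ∃ f : (Fin n → F) →ₗ[F] (Fin 1 → F), ∀ w, f w = ![φ ⬝ᵥ w] := by
    refine ⟨Matrix.mulVecLin (Matrix.of ![φ] : Matrix (Fin 1) (Fin n) F), fun w => ?_⟩
    funext i
    fin_cases i
    rfl
  have h1 : LinearMap.ker f ≠ ⊥ := by
    apply LinearMap.ker_ne_bot_of_finrank_lt
    rw [Module.finrank_fin_fun, Module.finrank_fin_fun]
    omega
  obtain ⟨w, hw, hw0⟩ := (Submodule.ne_bot_iff _).mp h1
  rw [LinearMap.mem_ker, hf] at hw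
  refine ⟨w, hw0, ?_⟩
  have := congrFun hw 0
  simpa using this

/-- `y` is a multiple of `x` -/
def Par (x y : Fin n → F) : Prop := ∃ c : F, y = c • x

theorem Par.symm {x y : Fin n → F} (h : Par x y) (hy : y ≠ 0) : Par y x := by
  obtain ⟨c, rfl⟩ := h
  have hc : c ≠ 0 := by
    rintro rfl
    exact hy (zero_smul _ _)
  exact ⟨c⁻¹, by rw [smul_smul, inv_mul_cancel₀ hc, one_smul]⟩

theorem Par.trans {x y z : Fin n → F} (h : Par x y) (h' : Par y z) : Par x z := by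
  obtain ⟨c, rfl⟩ := h
  obtain ⟨d, rfl⟩ := h'
  exact ⟨d * c, by rw [smul_smul]⟩

theorem exists_sep (φ φ' : Fin n → F) (hnp : ¬ Par φ' φ) :
    ∃ v : Fin n → F, φ ⬝ᵥ v = 1 ∧ φ' ⬝ᵥ v = 0 := by
  by_cases hφ' : φ' = 0
  · have hφ : φ ≠ 0 := by
      rintro rfl
      exact hnp ⟨0, by rw [zero_smul]⟩
    obtain ⟨w, hw⟩ := exists_dot_one φ hφ
    exact ⟨w, hw, by rw [hφ', zero_dotProduct]⟩
  · obtain ⟨v₁, hv₁⟩ := exists_dot_one φ' hφ'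
    have hψ : φ - (φ ⬝ᵥ v₁) • φ' ≠ 0 := by
      intro h
      exact hnp ⟨φ ⬝ᵥ v₁, sub_eq_zero.mp h⟩
    obtain ⟨v₂, hv₂⟩ := exists_dot_one _ hψ
    refine ⟨v₂ - (φ' ⬝ᵥ v₂) • v₁, ?_, ?_⟩
    · rw [sub_dotProduct, smul_dotProduct, smul_eq_mul] at hv₂
      rw [dotProduct_sub, dotProduct_smul, smul_eq_mul]
      linear_combination hv₂
    · rw [dotProduct_sub, dotProduct_smul, hv₁, smul_eq_mul, mul_one, sub_self]

end linalg

section products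
variable {n : ℕ} {F : Type*} [Field F]

theorem tb_mul (a φ a' φ' : Fin n → F) :
    tb a φ * tb a' φ' = (QuotientGroup.mk (tS a φ * tS a' φ') :
      ProjectiveSpecialLinearGroup (Fin n) F) := rfl

/-- if the product of two transvections is a transvection (modulo scalars) then they have the
same centre or the same axis -/
theorem par_of_mul (hn : 3 ≤ n) (a φ a' φ' b ψ : Fin n → F) (h : φ ⬝ᵥ a = 0)
    (h' : φ' ⬝ᵥ a' = 0) (hb : ψ ⬝ᵥ b = 0) (ha : a ≠ 0) (ha' : a' ≠ 0) (hφ : φ ≠ 0)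
    (hφ' : φ' ≠ 0) (he : tb a φ * tb a' φ' = tb b ψ) : Par a a' ∨ Par φ φ' := by
  rw [tb_mul] at he
  have he' := he.symm
  unfold tb at he'
  rw [mk_eq_iff] at he'
  obtain ⟨r, hr⟩ := he'
  rw [Matrix.SpecialLinearGroup.coe_mul, tS_val a φ h, tS_val a' φ' h', tS_val b ψ hb] at hr
  obtain ⟨w, hw0, hw1, hw2⟩ := exists_ker2 hn φ φ'
  have hexp : (1 + vecMulVec a φ) * (1 + vecMulVec a' φ') =
      1 + (vecMulVec a φ + vecMulVec a' φ' + (φ ⬝ᵥ a') • vecMulVec a φ') := by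
    rw [Matrix.add_mul, Matrix.one_mul, Matrix.mul_add, Matrix.mul_one, vmv_mul_vmv]
    abel
  rw [hexp] at hr
  have hr1 : r = 1 := by
    apply scalar_kill (vecMulVec b ψ) _ r (vmv_sq b ψ hb) w hw0 _ hr
    rw [Matrix.add_mulVec, Matrix.add_mulVec, Matrix.smul_mulVec, vmv_mulVec, vmv_mulVec,
      vmv_mulVec, hw1, hw2, zero_smul, zero_smul, smul_zero, add_zero, add_zero]
  rw [hr1, one_smul] at hr
  have hM := add_left_cancel hr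
  by_contra hcon
  push Not at hcon
  obtain ⟨hna, hnφ⟩ := hcon
  have hnφ2 : ¬ Par φ' φ := fun hp => hnφ (hp.symm hφ)
  obtain ⟨v, hv1, hv2⟩ := exists_sep φ φ' hnφ2
  obtain ⟨v', hv'1, hv'2⟩ := exists_sep φ' φ hnφ
  have e1 := congrArg (fun M : Matrix (Fin n) (Fin n) F => M *ᵥ v) hM
  simp only [Matrix.add_mulVec, Matrix.smul_mulVec, vmv_mulVec, hv1, hv2, one_smul, zero_smul,
    smul_zero, add_zero] at e1
  have e2 := congrArg (fun M : Matrix (Fin n) (Fin n) F => M *ᵥ v') hM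
  simp only [Matrix.add_mulVec, Matrix.smul_mulVec, vmv_mulVec, hv'1, hv'2, one_smul, zero_smul,
    zero_add] at e2
  have hψv : ψ ⬝ᵥ v ≠ 0 := by
    intro h0
    rw [h0, zero_smul] at e1
    exact ha e1
  have hb' : b = (ψ ⬝ᵥ v)⁻¹ • a := by
    rw [e1, smul_smul, inv_mul_cancel₀ hψv, one_smul]
  apply hna
  refine ⟨(ψ ⬝ᵥ v') * (ψ ⬝ᵥ v)⁻¹ - φ ⬝ᵥ a', ?_⟩
  rw [sub_smul, ← smul_smul, ← hb', ← e2]
  abel

end products

section groups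
variable {n : ℕ} {F : Type*} [Field F]

/-- the transvections with centre `a` -/
noncomputable def TC (a : Fin n → F) : Subgroup (ProjectiveSpecialLinearGroup (Fin n) F) where
  carrier := {x | ∃ φ : Fin n → F, φ ⬝ᵥ a = 0 ∧ x = tb a φ}
  one_mem' := ⟨0, zero_dotProduct a, by
    unfold tb
    rw [tS_zero_right]
    rfl⟩
  mul_mem' := by
    rintro x y ⟨φ, hφ, rfl⟩ ⟨φ', hφ', rfl⟩
    refine ⟨φ + φ', by rw [add_dotProduct, hφ, hφ', add_zero], ?_⟩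
    rw [tb_mul, tS_mul_right a φ φ' hφ hφ']
    rfl
  inv_mem' := by
    rintro x ⟨φ, hφ, rfl⟩
    refine ⟨-φ, by rw [neg_dotProduct, hφ, neg_zero], ?_⟩
    unfold tb
    rw [← tS_inv_right a φ hφ]
    rfl

/-- the transvections with axis `φ` -/
noncomputable def TA (φ : Fin n → F) : Subgroup (ProjectiveSpecialLinearGroup (Fin n) F) where
  carrier := {x | ∃ a : Fin n → F, φ ⬝ᵥ a = 0 ∧ x = tb a φ}
  one_mem' := ⟨0, dotProduct_zero φ, by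
    unfold tb
    rw [tS_zero_left]
    rfl⟩
  mul_mem' := by
    rintro x y ⟨a, ha, rfl⟩ ⟨a', ha', rfl⟩
    refine ⟨a + a', by rw [dotProduct_add, ha, ha', add_zero], ?_⟩
    rw [tb_mul, tS_mul_left a a' φ ha ha']
    rfl
  inv_mem' := by
    rintro x ⟨a, ha, rfl⟩
    refine ⟨-a, by rw [dotProduct_neg, ha, neg_zero], ?_⟩
    unfold tb
    rw [← tS_inv_left a φ ha]
    rfl

theorem mem_TC (a : Fin n → F) (x : ProjectiveSpecialLinearGroup (Fin n) F) :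
    x ∈ TC a ↔ ∃ φ : Fin n → F, φ ⬝ᵥ a = 0 ∧ x = tb a φ := Iff.rfl

theorem mem_TA (φ : Fin n → F) (x : ProjectiveSpecialLinearGroup (Fin n) F) :
    x ∈ TA φ ↔ ∃ a : Fin n → F, φ ⬝ᵥ a = 0 ∧ x = tb a φ := Iff.rfl

theorem tb_mem_TC_of_par (a b ψ : Fin n → F) (hp : Par a b) (hb : b ≠ 0) (h : ψ ⬝ᵥ b = 0) :
    tb b ψ ∈ TC a := by
  obtain ⟨c, rfl⟩ := hp
  have hc : c ≠ 0 := by
    rintro rfl
    exact hb (zero_smul _ _)
  rw [dotProduct_smul, smul_eq_mul] at h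
  have h1 : ψ ⬝ᵥ a = 0 := by
    rcases mul_eq_zero.mp h with h2 | h2
    · exact absurd h2 hc
    · exact h2
  exact ⟨c • ψ, by rw [smul_dotProduct, h1, smul_zero], tb_smul c a ψ⟩

theorem tb_mem_TA_of_par (φ b ψ : Fin n → F) (hp : Par φ ψ) (hψ : ψ ≠ 0) (h : ψ ⬝ᵥ b = 0) :
    tb b ψ ∈ TA φ := by
  obtain ⟨c, rfl⟩ := hp
  have hc : c ≠ 0 := by
    rintro rfl
    exact hψ (zero_smul _ _)
  rw [smul_dotProduct, smul_eq_mul] at h
  have h1 : φ ⬝ᵥ b = 0 := by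
    rcases mul_eq_zero.mp h with h2 | h2
    · exact absurd h2 hc
    · exact h2
  exact ⟨c • b, by rw [dotProduct_smul, h1, smul_zero], (tb_smul c b φ).symm⟩

theorem TC_eq_of_par (a b : Fin n → F) (hp : Par a b) (hb : b ≠ 0) : TC b = TC a := by
  apply le_antisymm
  · rintro x ⟨ψ, hψ, rfl⟩
    exact tb_mem_TC_of_par a b ψ hp hb hψ
  · have ha : a ≠ 0 := by
      rintro rfl
      obtain ⟨c, hc⟩ := hp
      exact hb (by rw [hc, smul_zero])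
    rintro x ⟨ψ, hψ, rfl⟩
    exact tb_mem_TC_of_par b a ψ (hp.symm hb) ha hψ

theorem TA_eq_of_par (φ ψ : Fin n → F) (hp : Par φ ψ) (hψ : ψ ≠ 0) : TA ψ = TA φ := by
  apply le_antisymm
  · rintro x ⟨b, hb, rfl⟩
    exact tb_mem_TA_of_par φ b ψ hp hψ hb
  · have hφ : φ ≠ 0 := by
      rintro rfl
      obtain ⟨c, hc⟩ := hp
      exact hψ (by rw [hc, smul_zero])
    rintro x ⟨b, hb, rfl⟩
    exact tb_mem_TA_of_par ψ b φ (hp.symm hψ) hφ hb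

/-- a group of transvections lies in some `TC a` or some `TA φ` -/
theorem le_TC_or_TA (hn : 3 ≤ n) (A : Subgroup (ProjectiveSpecialLinearGroup (Fin n) F))
    (hA : ∀ x ∈ A, ∃ b ψ : Fin n → F, ψ ⬝ᵥ b = 0 ∧ x = tb b ψ) :
    (∃ a : Fin n → F, a ≠ 0 ∧ A ≤ TC a) ∨ (∃ φ : Fin n → F, φ ≠ 0 ∧ A ≤ TA φ) := by
  have hn2 : 2 ≤ n := by omega
  by_cases hbot : ∀ x ∈ A, x = 1
  · left
    refine ⟨Pi.single ⟨0, by omega⟩ 1, ?_, ?_⟩
    · intro h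
      have := congrFun h ⟨0, by omega⟩
      rw [Pi.single_eq_same, Pi.zero_apply] at this
      exact one_ne_zero this
    · intro x hx
      rw [hbot x hx]
      exact Subgroup.one_mem _
  push Not at hbot
  obtain ⟨x₁, hx₁A, hx₁⟩ := hbot
  obtain ⟨a₁, φ₁, h₁, rfl⟩ := hA x₁ hx₁A
  have ha₁ : a₁ ≠ 0 := by
    rintro rfl
    apply hx₁
    unfold tb
    rw [tS_zero_left]
    rfl
  have hφ₁ : φ₁ ≠ 0 := by
    rintro rfl
    apply hx₁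
    unfold tb
    rw [tS_zero_right]
    rfl
  -- every nontrivial element shares the centre or the axis with x₁
  have key : ∀ b ψ : Fin n → F, ψ ⬝ᵥ b = 0 → b ≠ 0 → ψ ≠ 0 → tb b ψ ∈ A →
      Par a₁ b ∨ Par φ₁ ψ := by
    intro b ψ hbψ hb hψ hmem
    obtain ⟨b', ψ', h', he⟩ := hA _ (A.mul_mem hx₁A hmem)
    exact par_of_mul hn a₁ φ₁ b ψ b' ψ' h₁ hbψ h' ha₁ hb hφ₁ hψ he
  by_cases hC : A ≤ TC a₁
  · exact Or.inl ⟨a₁, ha₁, hC⟩
  by_cases hAx : A ≤ TA φ₁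
  · exact Or.inr ⟨φ₁, hφ₁, hAx⟩
  exfalso
  rw [SetLike.le_def] at hC hAx
  push Not at hC hAx
  obtain ⟨x₂, hx₂A, hx₂⟩ := hC
  obtain ⟨x₃, hx₃A, hx₃⟩ := hAx
  obtain ⟨b₂, ψ₂, h₂, rfl⟩ := hA x₂ hx₂A
  obtain ⟨b₃, ψ₃, h₃, rfl⟩ := hA x₃ hx₃A
  have hb₂ : b₂ ≠ 0 := by
    rintro rfl
    apply hx₂
    unfold tb
    rw [tS_zero_left]
    exact Subgroup.one_mem _
  have hψ₂ : ψ₂ ≠ 0 := by
    rintro rfl
    apply hx₂
    unfold tb
    rw [tS_zero_right]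
    exact Subgroup.one_mem _
  have hb₃ : b₃ ≠ 0 := by
    rintro rfl
    apply hx₃
    unfold tb
    rw [tS_zero_left]
    exact Subgroup.one_mem _
  have hψ₃ : ψ₃ ≠ 0 := by
    rintro rfl
    apply hx₃
    unfold tb
    rw [tS_zero_right]
    exact Subgroup.one_mem _
  have p2 : Par φ₁ ψ₂ := by
    rcases key b₂ ψ₂ h₂ hb₂ hψ₂ hx₂A with hp | hp
    · exact absurd (tb_mem_TC_of_par a₁ b₂ ψ₂ hp hb₂ h₂) hx₂
    · exact hp
  have p3 : Par a₁ b₃ := by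
    rcases key b₃ ψ₃ h₃ hb₃ hψ₃ hx₃A with hp | hp
    · exact hp
    · exact absurd (tb_mem_TA_of_par φ₁ b₃ ψ₃ hp hψ₃ h₃) hx₃
  obtain ⟨b', ψ', h', he⟩ := hA _ (A.mul_mem hx₂A hx₃A)
  rcases par_of_mul hn b₂ ψ₂ b₃ ψ₃ b' ψ' h₂ h₃ h' hb₂ hb₃ hψ₂ hψ₃ he with hp | hp
  · -- Par b₂ b₃ and Par a₁ b₃ give Par a₁ b₂
    have : Par a₁ b₂ := p3.trans (hp.symm hb₃)
    exact hx₂ (tb_mem_TC_of_par a₁ b₂ ψ₂ this hb₂ h₂)
  · have : Par φ₁ ψ₃ := p2.trans hp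
    exact hx₃ (tb_mem_TA_of_par φ₁ b₃ ψ₃ this hψ₃ h₃)

end groups

end Cfsg.Agent.helper14
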