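import Mathlib
import Cfsg.Agent.Lib_helper14_AutPslE

/-! The groups `TC a`, `TA φ` are permuted by every automorphism of `PSL_n(F)`, `n ≥ 3`;
their mutual intersections; the duality given by the inverse-transpose automorphism. -/

set_option autoImplicit false

namespace Cfsg.Agent.helper14

open Matrix

section duality
variable {n : ℕ} {F : Type*} [Field F]

theorem iota0_tb (a φ : Fin n → F) (h : φ ⬝ᵥ a = 0) :
    (iota0 : MulAut (ProjectiveSpecialLinearGroup (Fin n) F)) (tb a φ) = tb (-φ) a := by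
  have h' : (-φ) ⬝ᵥ a = 0 := by rw [neg_dotProduct, h, neg_zero]
  have h'' : a ⬝ᵥ (-φ) = 0 := by rw [dotProduct_comm, h']
  unfold tb
  rw [iota0_mk, tS_inv_right a φ h]
  congr 1
  apply Subtype.ext
  rw [Matrix.SpecialLinearGroup.coe_transpose, tS_val a (-φ) h', tS_val (-φ) a h'',
    Matrix.transpose_add, Matrix.transpose_one, Matrix.transpose_vecMulVec]

theorem iota0_iota0 (x : ProjectiveSpecialLinearGroup (Fin n) F) :
    (iota0 : MulAut (ProjectiveSpecialLinearGroup (Fin n) F)) (iota0 x) = x := by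
  rw [← MulAut.mul_apply, iota0_mul_self, MulAut.one_apply]

theorem iota0_mem_TA (a : Fin n → F) (x : ProjectiveSpecialLinearGroup (Fin n) F)
    (hx : x ∈ TC a) : (iota0 : MulAut (ProjectiveSpecialLinearGroup (Fin n) F)) x ∈ TA a := by
  obtain ⟨φ, hφ, rfl⟩ := hx
  rw [iota0_tb a φ hφ]
  exact ⟨-φ, by rw [dotProduct_neg, dotProduct_comm, hφ, neg_zero], rfl⟩

theorem iota0_mem_TC (φ : Fin n → F) (x : ProjectiveSpecialLinearGroup (Fin n) F)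
    (hx : x ∈ TA φ) : (iota0 : MulAut (ProjectiveSpecialLinearGroup (Fin n) F)) x ∈ TC φ := by
  obtain ⟨b, hb, rfl⟩ := hx
  rw [iota0_tb b φ hb]
  refine ⟨-b, by rw [neg_dotProduct, dotProduct_comm, hb, neg_zero], ?_⟩
  have h1 : -φ = (-1 : F) • φ := by rw [neg_smul, one_smul]
  have h2 : -b = (-1 : F) • b := by rw [neg_smul, one_smul]
  rw [h1, h2, tb_smul]

theorem iota0_mem_TA_iff (a : Fin n → F) (x : ProjectiveSpecialLinearGroup (Fin n) F) :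
    (iota0 : MulAut (ProjectiveSpecialLinearGroup (Fin n) F)) x ∈ TA a ↔ x ∈ TC a := by
  constructor
  · intro h
    have := iota0_mem_TC a _ h
    rwa [iota0_iota0] at this
  · exact iota0_mem_TA a x

theorem iota0_mem_TC_iff (φ : Fin n → F) (x : ProjectiveSpecialLinearGroup (Fin n) F) :
    (iota0 : MulAut (ProjectiveSpecialLinearGroup (Fin n) F)) x ∈ TC φ ↔ x ∈ TA φ := by
  constructor
  · intro h
    have := iota0_mem_TA φ _ h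
    rwa [iota0_iota0] at this
  · exact iota0_mem_TC φ x

theorem TC_map_iota0 (a : Fin n → F) :
    (TC a).map (iota0 : MulAut (ProjectiveSpecialLinearGroup (Fin n) F)).toMonoidHom = TA a := by
  ext x
  rw [Subgroup.mem_map]
  constructor
  · rintro ⟨y, hy, rfl⟩
    exact iota0_mem_TA a y hy
  · intro hx
    exact ⟨iota0 x, iota0_mem_TC a x hx, iota0_iota0 x⟩

theorem TA_map_iota0 (φ : Fin n → F) :
    (TA φ).map (iota0 : MulAut (ProjectiveSpecialLinearGroup (Fin n) F)).toMonoidHom = TC φ := by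
  ext x
  rw [Subgroup.mem_map]
  constructor
  · rintro ⟨y, hy, rfl⟩
    exact iota0_mem_TC φ y hy
  · intro hx
    exact ⟨iota0 x, iota0_mem_TA φ x hx, iota0_iota0 x⟩

end duality

section inclusions
variable {n : ℕ} {F : Type*} [Field F]

theorem row_eq_of_vmv_eq (a φ b ψ : Fin n → F) (h : vecMulVec a φ = vecMulVec b ψ) (i : Fin n) :
    a i • φ = b i • ψ := by
  funext j
  have := congrFun (congrFun h i) j
  rw [Matrix.vecMulVec_apply, Matrix.vecMulVec_apply] at this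
  rw [Pi.smul_apply, Pi.smul_apply, smul_eq_mul, smul_eq_mul]
  exact this

theorem col_eq_of_vmv_eq (a φ b ψ w : Fin n → F) (h : vecMulVec a φ = vecMulVec b ψ) :
    (φ ⬝ᵥ w) • a = (ψ ⬝ᵥ w) • b := by
  rw [← vmv_mulVec, ← vmv_mulVec, h]

theorem par_of_TC_le (hn : 2 ≤ n) (a b : Fin n → F) (ha : a ≠ 0) (h : TC a ≤ TC b) :
    Par b a := by
  obtain ⟨φ, hφ0, hφ⟩ := exists_ker1 hn a
  rw [dotProduct_comm] at hφ
  obtain ⟨ψ, hψ, he⟩ := h (⟨φ, hφ, rfl⟩ : tb a φ ∈ TC a)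
  have h1 := vmv_eq_of_tb_eq hn a φ b ψ hφ hψ he
  obtain ⟨w, hw⟩ := exists_dot_one φ hφ0
  have h2 := col_eq_of_vmv_eq a φ b ψ w h1
  rw [hw, one_smul] at h2
  exact ⟨ψ ⬝ᵥ w, h2⟩

theorem not_TC_le_TA (hn : 3 ≤ n) (a ψ : Fin n → F) (ha : a ≠ 0) (hψ : ψ ≠ 0) :
    ¬ TC a ≤ TA ψ := by
  intro h
  have hn2 : 2 ≤ n := by omega
  obtain ⟨θ, hθ⟩ := exists_dot_one a ha
  obtain ⟨w, hw0, hw1, hw2⟩ := exists_ker2 hn ψ θ
  have hnp : ¬ Par a w := by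
    rintro ⟨c, rfl⟩
    rw [dotProduct_smul, dotProduct_comm, hθ, smul_eq_mul, mul_one] at hw2
    rw [hw2, zero_smul] at hw0
    exact hw0 rfl
  obtain ⟨φ₁, h1, h2⟩ := exists_sep w a hnp
  rw [dotProduct_comm] at h2
  have hφ₁ : φ₁ ≠ 0 := by
    rintro rfl
    rw [dotProduct_zero] at h1
    exact zero_ne_one h1
  obtain ⟨b, hb, he⟩ := h (⟨φ₁, h2, rfl⟩ : tb a φ₁ ∈ TC a)
  have h3 := vmv_eq_of_tb_eq hn2 a φ₁ b ψ h2 hb he
  obtain ⟨i, hi⟩ : ∃ i, a i ≠ 0 := by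
    by_contra hcon
    push Not at hcon
    exact ha (funext hcon)
  have h4 := row_eq_of_vmv_eq a φ₁ b ψ h3 i
  have h5 : φ₁ = ((a i)⁻¹ * b i) • ψ := by
    rw [← smul_smul, ← h4, smul_smul, inv_mul_cancel₀ hi, one_smul]
  rw [h5, dotProduct_smul, dotProduct_comm, hw1, smul_zero] at h1
  exact zero_ne_one h1

theorem par_of_TA_le (hn : 2 ≤ n) (φ ψ : Fin n → F) (hφ : φ ≠ 0) (h : TA φ ≤ TA ψ) :
    Par ψ φ := by
  apply par_of_TC_le hn φ ψ hφ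
  intro x hx
  have h1 := h (iota0_mem_TA φ x hx)
  rwa [iota0_mem_TA_iff] at h1

theorem not_TA_le_TC (hn : 3 ≤ n) (φ b : Fin n → F) (hφ : φ ≠ 0) (hb : b ≠ 0) :
    ¬ TA φ ≤ TC b := by
  intro h
  apply not_TC_le_TA hn φ b hφ hb
  intro x hx
  have h1 := h (iota0_mem_TA φ x hx)
  rwa [iota0_mem_TC_iff] at h1

/-- `M` is one of the groups `TC a`, `TA φ` -/
def IsMT (M : Subgroup (ProjectiveSpecialLinearGroup (Fin n) F)) : Prop :=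
  (∃ b : Fin n → F, b ≠ 0 ∧ M = TC b) ∨ (∃ ψ : Fin n → F, ψ ≠ 0 ∧ M = TA ψ)

theorem IsMT_le (hn : 3 ≤ n) {M M' : Subgroup (ProjectiveSpecialLinearGroup (Fin n) F)}
    (hM : IsMT M) (hM' : IsMT M') (h : M ≤ M') : M = M' := by
  have hn2 : 2 ≤ n := by omega
  rcases hM with ⟨a, ha, rfl⟩ | ⟨φ, hφ, rfl⟩ <;> rcases hM' with ⟨b, hb, rfl⟩ | ⟨ψ, hψ, rfl⟩
  · exact TC_eq_of_par b a (par_of_TC_le hn2 a b ha h) ha
  · exact absurd h (not_TC_le_TA hn a ψ ha hψ)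
  · exact absurd h (not_TA_le_TC hn φ b hφ hb)
  · exact TA_eq_of_par ψ φ (par_of_TA_le hn2 φ ψ hφ h) hφ

theorem IsMT_tv {M : Subgroup (ProjectiveSpecialLinearGroup (Fin n) F)} (hM : IsMT M) :
    ∀ x ∈ M, ∃ b ψ : Fin n → F, ψ ⬝ᵥ b = 0 ∧ x = tb b ψ := by
  rcases hM with ⟨a, -, rfl⟩ | ⟨φ, -, rfl⟩
  · rintro x ⟨φ, hφ, rfl⟩
    exact ⟨a, φ, hφ, rfl⟩
  · rintro x ⟨a, ha, rfl⟩
    exact ⟨a, φ, ha, rfl⟩

end inclusions

section perm
variable {n : ℕ} {F : Type*} [Field F] [Fintype F]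

theorem aut_tb' {p f : ℕ} [hp : Fact p.Prime] (hF : Fintype.card F = p ^ f) (hf : 1 ≤ f)
    (hn : 2 ≤ n) (α : MulAut (ProjectiveSpecialLinearGroup (Fin n) F))
    (x : ProjectiveSpecialLinearGroup (Fin n) F)
    (hx : ∃ b ψ : Fin n → F, ψ ⬝ᵥ b = 0 ∧ x = tb b ψ) :
    ∃ b ψ : Fin n → F, ψ ⬝ᵥ b = 0 ∧ α x = tb b ψ := by
  obtain ⟨b, ψ, h, rfl⟩ := hx
  by_cases hb : b = 0
  · subst hb
    refine ⟨0, 0, dotProduct_zero _, ?_⟩
    unfold tb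
    rw [tS_zero_left, tS_zero_left]
    exact map_one α
  by_cases hψ : ψ = 0
  · subst hψ
    refine ⟨0, 0, dotProduct_zero _, ?_⟩
    unfold tb
    rw [tS_zero_right, tS_zero_left]
    exact map_one α
  obtain ⟨b', ψ', -, -, h', he⟩ := aut_tb hF hf hn α b ψ hb hψ h
  exact ⟨b', ψ', h', he⟩

theorem IsMT_map {p f : ℕ} [hp : Fact p.Prime] (hF : Fintype.card F = p ^ f) (hf : 1 ≤ f)
    (hn : 3 ≤ n) (α : MulAut (ProjectiveSpecialLinearGroup (Fin n) F))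
    {M : Subgroup (ProjectiveSpecialLinearGroup (Fin n) F)} (hM : IsMT M) :
    IsMT (M.map α.toMonoidHom) := by
  have hn2 : 2 ≤ n := by omega
  -- M.map α consists of transvections
  have h1 : ∀ x ∈ M.map α.toMonoidHom, ∃ b ψ : Fin n → F, ψ ⬝ᵥ b = 0 ∧ x = tb b ψ := by
    rintro x ⟨y, hy, rfl⟩
    exact aut_tb' hF hf hn2 α y (IsMT_tv hM y hy)
  obtain ⟨M₁, hM₁, hle₁⟩ : ∃ M₁, IsMT M₁ ∧ M.map α.toMonoidHom ≤ M₁ := by
    rcases le_TC_or_TA hn _ h1 with ⟨a, ha, hle⟩ | ⟨φ, hφ, hle⟩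
    · exact ⟨TC a, Or.inl ⟨a, ha, rfl⟩, hle⟩
    · exact ⟨TA φ, Or.inr ⟨φ, hφ, rfl⟩, hle⟩
  have h2 : ∀ x ∈ M₁.map (α⁻¹ : MulAut _).toMonoidHom,
      ∃ b ψ : Fin n → F, ψ ⬝ᵥ b = 0 ∧ x = tb b ψ := by
    rintro x ⟨y, hy, rfl⟩
    exact aut_tb' hF hf hn2 α⁻¹ y (IsMT_tv hM₁ y hy)
  obtain ⟨M₂, hM₂, hle₂⟩ : ∃ M₂, IsMT M₂ ∧ M₁.map (α⁻¹ : MulAut _).toMonoidHom ≤ M₂ := by
    rcases le_TC_or_TA hn _ h2 with ⟨a, ha, hle⟩ | ⟨φ, hφ, hle⟩
    · exact ⟨TC a, Or.inl ⟨a, ha, rfl⟩, hle⟩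
    · exact ⟨TA φ, Or.inr ⟨φ, hφ, rfl⟩, hle⟩
  have h3 : M ≤ M₂ := by
    intro x hx
    apply hle₂
    refine ⟨α x, hle₁ ⟨x, hx, rfl⟩, ?_⟩
    show α⁻¹ (α x) = x
    rw [← MulAut.mul_apply, inv_mul_cancel, MulAut.one_apply]
  have h4 : M = M₂ := IsMT_le hn hM hM₂ h3
  have h5 : M₁ ≤ M.map α.toMonoidHom := by
    intro y hy
    have h6 : α⁻¹ y ∈ M := by
      rw [h4]
      exact hle₂ ⟨y, hy, rfl⟩
    refine ⟨α⁻¹ y, h6, ?_⟩
    show α (α⁻¹ y) = y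
    rw [← MulAut.mul_apply, mul_inv_cancel, MulAut.one_apply]
  rw [le_antisymm hle₁ h5]
  exact hM₁

end perm

section inter
variable {n : ℕ} {F : Type*} [Field F]

theorem TC_inf_TC (hn : 2 ≤ n) (a b : Fin n → F) (ha : a ≠ 0) (h : ¬ Par a b) :
    TC a ⊓ TC b = ⊥ := by
  rw [eq_bot_iff]
  rintro x ⟨⟨φ, hφ, rfl⟩, ⟨ψ, hψ, he⟩⟩
  rw [Subgroup.mem_bot]
  by_cases hφ0 : φ = 0
  · subst hφ0
    unfold tb
    rw [tS_zero_right]
    rfl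
  exfalso
  have h1 := vmv_eq_of_tb_eq hn a φ b ψ hφ hψ he
  obtain ⟨w, hw⟩ := exists_dot_one φ hφ0
  have h2 := col_eq_of_vmv_eq a φ b ψ w h1
  rw [hw, one_smul] at h2
  exact h (Par.symm (⟨ψ ⬝ᵥ w, h2⟩ : Par b a) ha)

theorem TA_inf_TA (hn : 2 ≤ n) (φ ψ : Fin n → F) (hφ : φ ≠ 0) (h : ¬ Par φ ψ) :
    TA φ ⊓ TA ψ = ⊥ := by
  rw [eq_bot_iff]
  rintro x ⟨h1, h2⟩
  rw [Subgroup.mem_bot]
  have h3 : (iota0 : MulAut (ProjectiveSpecialLinearGroup (Fin n) F)) x ∈ TC φ ⊓ TC ψ :=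
    ⟨iota0_mem_TC φ x h1, iota0_mem_TC ψ x h2⟩
  rw [TC_inf_TC hn φ ψ hφ h, Subgroup.mem_bot] at h3
  have := congrArg (iota0 : MulAut (ProjectiveSpecialLinearGroup (Fin n) F)) h3
  rwa [iota0_iota0, map_one] at this

theorem TC_inf_TA_ne_bot_iff (hn : 2 ≤ n) (a φ : Fin n → F) (ha : a ≠ 0) (hφ : φ ≠ 0) :
    TC a ⊓ TA φ ≠ ⊥ ↔ φ ⬝ᵥ a = 0 := by
  constructor
  · intro h
    obtain ⟨⟨x, hxC, hxA⟩, hx1⟩ := (Subgroup.ne_bot_iff_exists_ne_one).mp h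
    obtain ⟨φ', hφ', rfl⟩ := hxC
    obtain ⟨a', ha', he⟩ := hxA
    have hx1' : tb a φ' ≠ 1 := fun h0 => hx1 (Subtype.ext h0)
    have hφ'0 : φ' ≠ 0 := by
      rintro rfl
      apply hx1'
      unfold tb
      rw [tS_zero_right]
      rfl
    have h1 := vmv_eq_of_tb_eq hn a φ' a' φ hφ' ha' he
    obtain ⟨i, hi⟩ : ∃ i, a i ≠ 0 := by
      by_contra hcon
      push Not at hcon
      exact ha (funext hcon)
    have h4 := row_eq_of_vmv_eq a φ' a' φ h1 i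
    have h5 : φ' = ((a i)⁻¹ * a' i) • φ := by
      rw [← smul_smul, ← h4, smul_smul, inv_mul_cancel₀ hi, one_smul]
    have hc : (a i)⁻¹ * a' i ≠ 0 := by
      intro h0
      rw [h0, zero_smul] at h5
      exact hφ'0 h5
    rw [h5, smul_dotProduct, smul_eq_mul] at hφ'
    rcases mul_eq_zero.mp hφ' with h6 | h6
    · exact absurd h6 hc
    · exact h6
  · intro h
    rw [Subgroup.ne_bot_iff_exists_ne_one]
    refine ⟨⟨tb a φ, ⟨φ, h, rfl⟩, ⟨a, h, rfl⟩⟩, ?_⟩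
    intro h0
    exact tb_ne_one hn a φ ha hφ h (congrArg Subtype.val h0)

end inter

end Cfsg.Agent.helper14
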