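import Mathlib
import Cfsg.Agent.Lib_helper14_AutPslF
import Cfsg.Agent.Lib_helper2_SLn

/-! Root elements of `PSL_n`, generation by them, the field and diagonal automorphisms. -/

set_option autoImplicit false

namespace Cfsg.Agent.helper14

open Matrix

section root
variable {n : ℕ} {F : Type*} [Field F]

/-- root element `x_{ij}(s)` -/
noncomputable def xr (i j : Fin n) (s : F) : ProjectiveSpecialLinearGroup (Fin n) F :=
  tb (Pi.single i 1) (Pi.single j s)

theorem xr_dot {i j : Fin n} (hij : i ≠ j) (s : F) :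
    (Pi.single j s : Fin n → F) ⬝ᵥ (Pi.single i 1) = 0 := by
  rw [single_dotProduct, Pi.single_eq_of_ne hij.symm, mul_zero]

theorem xr_eq_mk {i j : Fin n} (hij : i ≠ j) (s : F) :
    xr i j s = (QuotientGroup.mk (SpecialLinearGroup.transvection hij s) :
      ProjectiveSpecialLinearGroup (Fin n) F) := by
  have h : tS (Pi.single i 1) (Pi.single j s) = SpecialLinearGroup.transvection hij s := by
    apply Subtype.ext
    rw [tS_val _ _ (xr_dot hij s), vmv_single]
    rfl
  unfold xr tb
  rw [h]

theorem xr_mul {i j : Fin n} (hij : i ≠ j) (s t : F) :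
    xr i j s * xr i j t = xr i j (s + t) := by
  unfold xr
  rw [tb_mul, tS_mul_right _ _ _ (xr_dot hij s) (xr_dot hij t), ← Pi.single_add]
  rfl

theorem xr_zero (i j : Fin n) : xr i j (0 : F) = 1 := by
  unfold xr tb
  rw [Pi.single_zero, tS_zero_right]
  rfl

theorem xr_inv {i j : Fin n} (hij : i ≠ j) (s : F) : (xr i j s)⁻¹ = xr i j (-s) := by
  rw [inv_eq_iff_mul_eq_one, xr_mul hij, add_neg_cancel, xr_zero]

theorem xr_inj (hn : 2 ≤ n) {i j : Fin n} (hij : i ≠ j) {s t : F} (h : xr i j s = xr i j t) :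
    s = t := by
  unfold xr at h
  have h1 := vmv_eq_of_tb_eq hn _ _ _ _ (xr_dot hij s) (xr_dot hij t) h
  rw [vmv_single, vmv_single] at h1
  have h2 := congrFun (congrFun h1 i) j
  rwa [Matrix.single_apply_same, Matrix.single_apply_same] at h2

theorem xr_ne_one (hn : 2 ≤ n) {i j : Fin n} (hij : i ≠ j) {s : F} (hs : s ≠ 0) :
    xr i j s ≠ 1 := by
  intro h
  rw [← xr_zero i j] at h
  exact hs (xr_inj hn hij h)

theorem steinberg_matrix {i j k : Fin n} (hij : i ≠ j) (hjk : j ≠ k) (hik : i ≠ k) (s t : F) :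
    (1 + Matrix.single i j s) * (1 + Matrix.single j k t) * (1 + Matrix.single i j (-s)) *
      (1 + Matrix.single j k (-t)) = (1 + Matrix.single i k (s * t) : Matrix (Fin n) (Fin n) F) := by
  obtain ⟨Eij, hEij⟩ : ∃ E : Matrix (Fin n) (Fin n) F, E = Matrix.single i j (1 : F) := ⟨_, rfl⟩
  obtain ⟨Ejk, hEjk⟩ : ∃ E : Matrix (Fin n) (Fin n) F, E = Matrix.single j k (1 : F) := ⟨_, rfl⟩
  obtain ⟨Eik, hEik⟩ : ∃ E : Matrix (Fin n) (Fin n) F, E = Matrix.single i k (1 : F) := ⟨_, rfl⟩
  have h1 : ∀ x : F, Matrix.single i j x = x • Eij := by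
    intro x
    rw [hEij, Matrix.smul_single, smul_eq_mul, mul_one]
  have h2 : ∀ x : F, Matrix.single j k x = x • Ejk := by
    intro x
    rw [hEjk, Matrix.smul_single, smul_eq_mul, mul_one]
  have h3 : ∀ x : F, Matrix.single i k x = x • Eik := by
    intro x
    rw [hEik, Matrix.smul_single, smul_eq_mul, mul_one]
  simp only [mul_add, add_mul, mul_one, one_mul, Matrix.single_mul_single_same,
    Matrix.single_mul_single_of_ne _ _ _ _ hij.symm,
    Matrix.single_mul_single_of_ne _ _ _ _ hik.symm,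
    Matrix.single_mul_single_of_ne _ _ _ _ hjk.symm, add_zero, zero_add, zero_mul, mul_zero]
  simp only [h1, h2, h3]
  module

theorem xr_comm {i j k : Fin n} (hij : i ≠ j) (hjk : j ≠ k) (hik : i ≠ k) (s t : F) :
    xr i j s * xr j k t * (xr i j s)⁻¹ * (xr j k t)⁻¹ = xr i k (s * t) := by
  rw [xr_inv hij, xr_inv hjk, xr_eq_mk hij, xr_eq_mk hjk, xr_eq_mk hij, xr_eq_mk hjk, xr_eq_mk hik,
    ← QuotientGroup.mk_mul, ← QuotientGroup.mk_mul, ← QuotientGroup.mk_mul]
  have h : SpecialLinearGroup.transvection hij s * SpecialLinearGroup.transvection hjk t *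
      SpecialLinearGroup.transvection hij (-s) * SpecialLinearGroup.transvection hjk (-t) =
      SpecialLinearGroup.transvection hik (s * t) := by
    apply Subtype.ext
    rw [Matrix.SpecialLinearGroup.coe_mul, Matrix.SpecialLinearGroup.coe_mul,
      Matrix.SpecialLinearGroup.coe_mul]
    exact steinberg_matrix hij hjk hik s t
  rw [h]

theorem aut_ext (hn : 2 ≤ n) (α β : MulAut (ProjectiveSpecialLinearGroup (Fin n) F))
    (h : ∀ i j : Fin n, i ≠ j → ∀ s : F, α (xr i j s) = β (xr i j s)) : α = β := by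
  haveI : Nontrivial (Fin n) := Fin.nontrivial_iff_two_le.mpr hn
  ext x
  induction x using QuotientGroup.induction_on with
  | H s =>
    refine Cfsg.Agent.helper2.transvection_induction
      (fun A => α (QuotientGroup.mk A : ProjectiveSpecialLinearGroup (Fin n) F) =
        β (QuotientGroup.mk A : ProjectiveSpecialLinearGroup (Fin n) F)) ?_ ?_ s
    · intro i j hij c
      rw [← xr_eq_mk hij c]
      exact h i j hij c
    · intro A B hA hB
      rw [QuotientGroup.mk_mul, map_mul, map_mul, hA, hB]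

end root

section field
variable {n : ℕ} {F : Type*} [Field F]

/-- entrywise field automorphism on `SL_n` -/
def mapSL (σ : F ≃+* F) : SpecialLinearGroup (Fin n) F ≃* SpecialLinearGroup (Fin n) F where
  toFun := SpecialLinearGroup.map (σ : F →+* F)
  invFun := SpecialLinearGroup.map (σ.symm : F →+* F)
  left_inv s := by
    apply Subtype.ext
    ext a b
    show σ.symm (σ ((s : Matrix (Fin n) (Fin n) F) a b)) = _
    exact σ.symm_apply_apply _
  right_inv s := by
    apply Subtype.ext
    ext a b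
    show σ (σ.symm ((s : Matrix (Fin n) (Fin n) F) a b)) = _
    exact σ.apply_symm_apply _
  map_mul' := map_mul _

theorem mapSL_val (σ : F ≃+* F) (s : SpecialLinearGroup (Fin n) F) :
    ((mapSL σ s : SpecialLinearGroup (Fin n) F) : Matrix (Fin n) (Fin n) F) =
      (s : Matrix (Fin n) (Fin n) F).map σ := rfl

/-- the standard field automorphism of `PSL_n` -/
noncomputable def phiS (σ : F ≃+* F) : MulAut (ProjectiveSpecialLinearGroup (Fin n) F) :=
  Cfsg.Agent.helper13.quotAut (Subgroup.center (SpecialLinearGroup (Fin n) F)) (mapSL σ)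

theorem phiS_mk (σ : F ≃+* F) (s : SpecialLinearGroup (Fin n) F) :
    phiS σ (QuotientGroup.mk s) = QuotientGroup.mk (mapSL σ s) := rfl

theorem phiS_isStd (σ : F ≃+* F) : Cfsg.IsStdFieldAutPSL σ (phiS (n := n) σ) := by
  intro s s' h
  rw [phiS_mk]
  have : mapSL σ s = s' := Subtype.ext (by rw [mapSL_val, h])
  rw [this]

theorem phiS_xr (σ : F ≃+* F) {i j : Fin n} (hij : i ≠ j) (s : F) :
    phiS σ (xr i j s) = xr i j (σ s) := by
  rw [xr_eq_mk hij, xr_eq_mk hij, phiS_mk]
  have : mapSL σ (SpecialLinearGroup.transvection hij s) =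
      SpecialLinearGroup.transvection hij (σ s) := by
    apply Subtype.ext
    rw [mapSL_val]
    show (((1 : Matrix (Fin n) (Fin n) F) + Matrix.single i j s).map σ) =
      1 + Matrix.single i j (σ s)
    ext a b
    rw [Matrix.map_apply, Matrix.add_apply, Matrix.add_apply, map_add]
    congr 1
    · rw [Matrix.one_apply]
      split_ifs
      · exact map_one σ
      · exact map_zero σ
    · rw [Matrix.single_apply, Matrix.single_apply]
      split_ifs
      · rfl
      · exact map_zero σ
  rw [this]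

end field

section diag
variable {n : ℕ} {F : Type*} [Field F]

/-- invertible diagonal matrix -/
noncomputable def dg (d : Fin n → F) (hd : ∀ i, d i ≠ 0) : GL (Fin n) F :=
  ⟨Matrix.diagonal d, Matrix.diagonal (fun i => (d i)⁻¹), by
    rw [Matrix.diagonal_mul_diagonal]
    ext a b
    rw [Matrix.diagonal_apply, Matrix.one_apply]
    split_ifs with h
    · exact mul_inv_cancel₀ (hd a)
    · rfl, by
    rw [Matrix.diagonal_mul_diagonal]
    ext a b
    rw [Matrix.diagonal_apply, Matrix.one_apply]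
    split_ifs with h
    · exact inv_mul_cancel₀ (hd a)
    · rfl⟩

theorem PhiL_dg_xr (d : Fin n → F) (hd : ∀ i, d i ≠ 0) {i j : Fin n} (hij : i ≠ j) (s : F) :
    PhiL (dg d hd) (xr i j s) = xr i j (d i * s * (d j)⁻¹) := by
  unfold xr
  rw [PhiL_tb _ _ _ (xr_dot hij s)]
  have h1 : ((dg d hd : GL (Fin n) F) : Matrix (Fin n) (Fin n) F) *ᵥ (Pi.single i 1) =
      d i • Pi.single i 1 := by
    show Matrix.diagonal d *ᵥ _ = _
    rw [Matrix.diagonal_mulVec_single, mul_one, single_smul_one]
  have h2 : (Pi.single j s : Fin n → F) ᵥ*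
      (((dg d hd)⁻¹ : GL (Fin n) F) : Matrix (Fin n) (Fin n) F) = Pi.single j (s * (d j)⁻¹) := by
    show _ ᵥ* Matrix.diagonal (fun i => (d i)⁻¹) = _
    rw [Matrix.single_vecMul_diagonal]
  rw [h1, h2, tb_smul]
  have h3 : d i • (Pi.single j (s * (d j)⁻¹) : Fin n → F) = Pi.single j (d i * s * (d j)⁻¹) := by
    funext k
    simp only [Pi.smul_apply, Pi.single_apply, smul_eq_mul]
    split_ifs
    · ring
    · ring
  rw [h3]

end diag

end Cfsg.Agent.helper14
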