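import Mathlib
import Cfsg.Agent.Lib_helper14_AutPslG

/-! The coefficient functions of an automorphism fixing all root groups (`n ≥ 3`). -/

set_option autoImplicit false

namespace Cfsg.Agent.helper14

open Matrix

section coeffs
variable {n : ℕ} {F : Type*} [Field F]

theorem exists_third' (hn : 3 ≤ n) (i j : Fin n) : ∃ k : Fin n, k ≠ i ∧ k ≠ j := by
  by_cases h0 : (i : ℕ) ≠ 0 ∧ (j : ℕ) ≠ 0
  · refine ⟨⟨0, by omega⟩, ?_, ?_⟩
    · intro h
      have := congrArg Fin.val h
      simp only at this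
      omega
    · intro h
      have := congrArg Fin.val h
      simp only at this
      omega
  by_cases h1 : (i : ℕ) ≠ 1 ∧ (j : ℕ) ≠ 1
  · refine ⟨⟨1, by omega⟩, ?_, ?_⟩
    · intro h
      have := congrArg Fin.val h
      simp only at this
      omega
    · intro h
      have := congrArg Fin.val h
      simp only at this
      omega
  · refine ⟨⟨2, by omega⟩, ?_, ?_⟩
    · intro h
      have := congrArg Fin.val h
      simp only at this
      omega
    · intro h
      have := congrArg Fin.val h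
      simp only at this
      omega

theorem root_coeffs (hn : 3 ≤ n) (c : Fin n → Fin n → F → F)
    (hadd : ∀ i j, i ≠ j → ∀ s t, c i j (s + t) = c i j s + c i j t)
    (hne : ∀ i j, i ≠ j → c i j 1 ≠ 0)
    (hmul : ∀ i j k, i ≠ j → j ≠ k → i ≠ k → ∀ s t, c i k (s * t) = c i j s * c j k t) :
    ∃ (d : Fin n → F) (σ : F →+* F), (∀ i, d i ≠ 0) ∧
      ∀ i j, i ≠ j → ∀ s, c i j s = d i * σ s * (d j)⁻¹ := by
  classical
  obtain ⟨i0, h0⟩ : ∃ i0 : Fin n, (i0 : ℕ) = 0 := ⟨⟨0, by omega⟩, rfl⟩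
  obtain ⟨i1, h1⟩ : ∃ i1 : Fin n, (i1 : ℕ) = 1 := ⟨⟨1, by omega⟩, rfl⟩
  obtain ⟨i2, h2⟩ : ∃ i2 : Fin n, (i2 : ℕ) = 2 := ⟨⟨2, by omega⟩, rfl⟩
  have h01 : i0 ≠ i1 := by
    intro h
    have := congrArg Fin.val h
    omega
  have h02 : i0 ≠ i2 := by
    intro h
    have := congrArg Fin.val h
    omega
  have h12 : i1 ≠ i2 := by
    intro h
    have := congrArg Fin.val h
    omega
  have R1 : ∀ i j k, i ≠ j → j ≠ k → i ≠ k → c i k 1 = c i j 1 * c j k 1 := by
    intro i j k hij hjk hik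
    have := hmul i j k hij hjk hik 1 1
    rwa [mul_one] at this
  have R2 : ∀ i j k, i ≠ j → j ≠ k → i ≠ k → ∀ s, c i k s = c i j s * c j k 1 := by
    intro i j k hij hjk hik s
    have := hmul i j k hij hjk hik s 1
    rwa [mul_one] at this
  have R3 : ∀ i j k, i ≠ j → j ≠ k → i ≠ k → ∀ t, c i k t = c i j 1 * c j k t := by
    intro i j k hij hjk hik t
    have := hmul i j k hij hjk hik 1 t
    rwa [one_mul] at this
  have U0 : ∀ j, j ≠ i0 → c i0 j 1 * c j i0 1 = 1 := by
    intro j hj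
    obtain ⟨k, hki, hkj⟩ := exists_third' hn i0 j
    have e1 := R1 i0 j k hj.symm hkj.symm hki.symm
    have e2 := R1 j i0 k hj hki.symm hkj.symm
    have hk := hne i0 k hki.symm
    rw [e2, ← mul_assoc] at e1
    have h3 : (c i0 j 1 * c j i0 1 - 1) * c i0 k 1 = 0 := by
      rw [sub_mul, one_mul, ← e1, sub_self]
    rcases mul_eq_zero.mp h3 with h | h
    · exact sub_eq_zero.mp h
    · exact absurd h hk
  obtain ⟨d, hd⟩ : ∃ d : Fin n → F, d = fun i => if i = i0 then 1 else c i i0 1 := ⟨_, rfl⟩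
  have hd0 : d i0 = 1 := by
    rw [hd]
    simp
  have hd1 : ∀ i, i ≠ i0 → d i = c i i0 1 := by
    intro i hi
    rw [hd]
    simp [hi]
  have hdne : ∀ i, d i ≠ 0 := by
    intro i
    by_cases hi : i = i0
    · rw [hi, hd0]
      exact one_ne_zero
    · rw [hd1 i hi]
      exact hne i i0 hi
  have A : ∀ i j, i ≠ j → c i j 1 = d i * (d j)⁻¹ := by
    intro i j hij
    by_cases hi : i = i0
    · rw [hi] at hij ⊢
      rw [hd0, hd1 j hij.symm, one_mul]
      exact eq_inv_of_mul_eq_one_left (U0 j hij.symm)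
    · by_cases hj : j = i0
      · rw [hj, hd0, hd1 i hi, inv_one, mul_one]
      · rw [hd1 i hi, hd1 j hj, R1 i i0 j hi (Ne.symm hj) hij]
        congr 1
        exact eq_inv_of_mul_eq_one_left (U0 j hj)
  have c0 : ∀ i j, i ≠ j → c i j 0 = 0 := by
    intro i j hij
    have h3 := hadd i j hij 0 0
    rw [add_zero] at h3
    have h4 : c i j 0 + c i j 0 = c i j 0 + 0 := by
      rw [add_zero]
      exact h3.symm
    exact add_left_cancel h4
  have B1 : ∀ i j k, i ≠ j → j ≠ k → i ≠ k → ∀ s,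
      c i k s / c i k 1 = c i j s / c i j 1 := by
    intro i j k hij hjk hik s
    rw [div_eq_div_iff (hne i k hik) (hne i j hij), R2 i j k hij hjk hik s, R1 i j k hij hjk hik]
    ring
  have B2 : ∀ i j k, i ≠ j → j ≠ k → i ≠ k → ∀ s,
      c i k s / c i k 1 = c j k s / c j k 1 := by
    intro i j k hij hjk hik s
    rw [div_eq_div_iff (hne i k hik) (hne j k hjk), R3 i j k hij hjk hik s, R1 i j k hij hjk hik]
    ring
  have Bgen1 : ∀ i j, i ≠ j → j ≠ i0 → ∀ s, c i j s / c i j 1 = c i0 i1 s / c i0 i1 1 := by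
    intro i j hij hj s
    have e1 : c i j s / c i j 1 = c i0 j s / c i0 j 1 := by
      by_cases hi : i = i0
      · rw [hi]
      · exact B2 i i0 j hi (Ne.symm hj) hij s
    have e2 : c i0 j s / c i0 j 1 = c i0 i1 s / c i0 i1 1 := by
      by_cases hj1 : j = i1
      · rw [hj1]
      · exact B1 i0 i1 j h01 (Ne.symm hj1) (Ne.symm hj) s
    rw [e1, e2]
  have Bgen : ∀ i j, i ≠ j → ∀ s, c i j s / c i j 1 = c i0 i1 s / c i0 i1 1 := by
    intro i j hij s
    by_cases hj : j = i0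
    · obtain ⟨k, hki, hkj⟩ := exists_third' hn i j
      rw [B1 i k j hki.symm hkj hij s]
      exact Bgen1 i k hki.symm (by rw [← hj]; exact hkj) s
    · exact Bgen1 i j hij hj s
  have hu01 := hne i0 i1 h01
  refine ⟨d,
    { toFun := fun s => c i0 i1 s / c i0 i1 1
      map_one' := div_self hu01
      map_mul' := ?_
      map_zero' := ?_
      map_add' := ?_ }, hdne, ?_⟩
  · intro s t
    show c i0 i1 (s * t) / c i0 i1 1 = (c i0 i1 s / c i0 i1 1) * (c i0 i1 t / c i0 i1 1)
    rw [← Bgen i0 i2 h02 (s * t), ← Bgen i1 i2 h12 t, hmul i0 i1 i2 h01 h12 h02 s t,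
      R1 i0 i1 i2 h01 h12 h02, mul_div_mul_comm]
  · show c i0 i1 0 / c i0 i1 1 = 0
    rw [c0 i0 i1 h01, zero_div]
  · intro s t
    show c i0 i1 (s + t) / c i0 i1 1 = c i0 i1 s / c i0 i1 1 + c i0 i1 t / c i0 i1 1
    rw [hadd i0 i1 h01, add_div]
  · intro i j hij s
    show c i j s = d i * (c i0 i1 s / c i0 i1 1) * (d j)⁻¹
    rw [← Bgen i j hij s, mul_comm (d i), mul_assoc, ← A i j hij]
    exact (div_mul_cancel₀ _ (hne i j hij)).symm

end coeffs

end Cfsg.Agent.helper14
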