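import Mathlib
import Cfsg.Agent.Lib_helper14_AutPslH

/-! The two kinds of maximal transvection groups, and the reduction of an automorphism of
`PSL_n`, `n ≥ 3`, to one fixing all root groups. -/

set_option autoImplicit false

namespace Cfsg.Agent.helper14

open Matrix

section types
variable {n : ℕ} {F : Type*} [Field F]

def IsC (M : Subgroup (ProjectiveSpecialLinearGroup (Fin n) F)) : Prop :=
  ∃ b : Fin n → F, b ≠ 0 ∧ M = TC b

def IsA (M : Subgroup (ProjectiveSpecialLinearGroup (Fin n) F)) : Prop :=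
  ∃ ψ : Fin n → F, ψ ≠ 0 ∧ M = TA ψ

theorem not_IsC_and_IsA (hn : 3 ≤ n) {M : Subgroup (ProjectiveSpecialLinearGroup (Fin n) F)}
    (hC : IsC M) (hA : IsA M) : False := by
  obtain ⟨b, hb, rfl⟩ := hC
  obtain ⟨ψ, hψ, h⟩ := hA
  exact not_TC_le_TA hn b ψ hb hψ (le_of_eq h)

theorem link_types (hn : 3 ≤ n) {M M' : Subgroup (ProjectiveSpecialLinearGroup (Fin n) F)}
    (hM : IsMT M) (hM' : IsMT M') (hne : M ≠ M') (hi : M ⊓ M' ≠ ⊥) :
    (IsC M ∧ IsA M') ∨ (IsA M ∧ IsC M') := by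
  have hn2 : 2 ≤ n := by omega
  rcases hM with ⟨a, ha, rfl⟩ | ⟨φ, hφ, rfl⟩ <;> rcases hM' with ⟨b, hb, rfl⟩ | ⟨ψ, hψ, rfl⟩
  · exfalso
    by_cases hp : Par a b
    · exact hne (TC_eq_of_par a b hp hb).symm
    · exact hi (TC_inf_TC hn2 a b ha hp)
  · exact Or.inl ⟨⟨a, ha, rfl⟩, ⟨ψ, hψ, rfl⟩⟩
  · exact Or.inr ⟨⟨φ, hφ, rfl⟩, ⟨b, hb, rfl⟩⟩
  · exfalso
    by_cases hp : Par φ ψ
    · exact hne (TA_eq_of_par φ ψ hp hψ).symm
    · exact hi (TA_inf_TA hn2 φ ψ hφ hp)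

theorem map_mul_aut {G : Type*} [Group G] (α β : MulAut G) (M : Subgroup G) :
    M.map (α * β).toMonoidHom = (M.map β.toMonoidHom).map α.toMonoidHom := by
  rw [Subgroup.map_map]
  rfl

theorem single_ne_zero' (i : Fin n) : (Pi.single i (1 : F) : Fin n → F) ≠ 0 := by
  intro h
  have := congrFun h i
  rw [Pi.single_eq_same, Pi.zero_apply] at this
  exact one_ne_zero this

theorem std_link (hn : 3 ≤ n) {i j : Fin n} (hij : i ≠ j) :
    TC (Pi.single i (1 : F)) ≠ TA (Pi.single j (1 : F)) ∧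
      TC (Pi.single i (1 : F)) ⊓ TA (Pi.single j (1 : F)) ≠ ⊥ := by
  refine ⟨fun h => not_TC_le_TA hn _ _ (single_ne_zero' i) (single_ne_zero' j) (le_of_eq h), ?_⟩
  rw [TC_inf_TA_ne_bot_iff (by omega) _ _ (single_ne_zero' i) (single_ne_zero' j)]
  exact single_dot_single j i hij.symm

theorem IsMT_TC_single (i : Fin n) : IsMT (TC (Pi.single i (1 : F))) :=
  Or.inl ⟨_, single_ne_zero' i, rfl⟩

theorem IsMT_TA_single (j : Fin n) : IsMT (TA (Pi.single j (1 : F))) :=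
  Or.inr ⟨_, single_ne_zero' j, rfl⟩

theorem PhiL_mem_TC (g : GL (Fin n) F) (a : Fin n → F)
    (x : ProjectiveSpecialLinearGroup (Fin n) F) (hx : x ∈ TC a) :
    PhiL g x ∈ TC ((g : Matrix (Fin n) (Fin n) F) *ᵥ a) := by
  obtain ⟨φ, hφ, rfl⟩ := hx
  rw [PhiL_tb g a φ hφ]
  refine ⟨_, ?_, rfl⟩
  rw [← Matrix.dotProduct_mulVec, Matrix.mulVec_mulVec, gl_inv_mul, Matrix.one_mulVec, hφ]

theorem PhiL_mem_TA (g : GL (Fin n) F) (φ : Fin n → F)
    (x : ProjectiveSpecialLinearGroup (Fin n) F) (hx : x ∈ TA φ) :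
    PhiL g x ∈ TA (φ ᵥ* ((g⁻¹ : GL (Fin n) F) : Matrix (Fin n) (Fin n) F)) := by
  obtain ⟨a, ha, rfl⟩ := hx
  rw [PhiL_tb g a φ ha]
  refine ⟨_, ?_, rfl⟩
  rw [← Matrix.dotProduct_mulVec, Matrix.mulVec_mulVec, gl_inv_mul, Matrix.one_mulVec, ha]

theorem mem_root (hn : 2 ≤ n) {i j : Fin n} (x : ProjectiveSpecialLinearGroup (Fin n) F)
    (h1 : x ∈ TC (Pi.single i (1 : F))) (h2 : x ∈ TA (Pi.single j (1 : F))) :
    ∃ t : F, x = xr i j t := by
  obtain ⟨φ, hφ, rfl⟩ := h1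
  obtain ⟨a, ha, he⟩ := h2
  have h3 := vmv_eq_of_tb_eq hn _ _ _ _ hφ ha he
  have h4 := row_eq_of_vmv_eq _ _ _ _ h3 i
  rw [Pi.single_eq_same, one_smul] at h4
  refine ⟨a i, ?_⟩
  unfold xr
  rw [h4, single_smul_one]

/-- the standard centres go to centres, the standard axes to axes -/
def GoodC (α : MulAut (ProjectiveSpecialLinearGroup (Fin n) F)) : Prop :=
  (∀ i : Fin n, IsC ((TC (Pi.single i (1 : F))).map α.toMonoidHom)) ∧
    (∀ j : Fin n, IsA ((TA (Pi.single j (1 : F))).map α.toMonoidHom))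

end types

section finite
variable {n : ℕ} {F : Type*} [Field F] [Fintype F]

theorem link_map {p f : ℕ} [hp : Fact p.Prime] (hF : Fintype.card F = p ^ f) (hf : 1 ≤ f)
    (hn : 3 ≤ n) (α : MulAut (ProjectiveSpecialLinearGroup (Fin n) F))
    {M M' : Subgroup (ProjectiveSpecialLinearGroup (Fin n) F)}
    (hM : IsMT M) (hM' : IsMT M') (hne : M ≠ M') (hi : M ⊓ M' ≠ ⊥) :
    (IsC (M.map α.toMonoidHom) ↔ IsA (M'.map α.toMonoidHom)) ∧
      (IsA (M.map α.toMonoidHom) ↔ IsC (M'.map α.toMonoidHom)) := by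
  have h0 : (IsC (M.map α.toMonoidHom) ∧ IsA (M'.map α.toMonoidHom)) ∨
      (IsA (M.map α.toMonoidHom) ∧ IsC (M'.map α.toMonoidHom)) := by
    apply link_types hn (IsMT_map hF hf hn α hM) (IsMT_map hF hf hn α hM')
    · intro h
      exact hne (Subgroup.map_injective α.injective h)
    · rw [← Subgroup.map_inf _ _ _ α.injective]
      intro h
      exact hi ((Subgroup.map_eq_bot_iff_of_injective _ α.injective).mp h)
  rcases h0 with ⟨h1, h2⟩ | ⟨h1, h2⟩
  · exact ⟨⟨fun _ => h2, fun _ => h1⟩,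
      ⟨fun h => (not_IsC_and_IsA hn h1 h).elim, fun h => (not_IsC_and_IsA hn h h2).elim⟩⟩
  · exact ⟨⟨fun h => (not_IsC_and_IsA hn h h1).elim, fun h => (not_IsC_and_IsA hn h2 h).elim⟩,
      ⟨fun _ => h2, fun _ => h1⟩⟩

theorem goodC_or {p f : ℕ} [hp : Fact p.Prime] (hF : Fintype.card F = p ^ f) (hf : 1 ≤ f)
    (hn : 3 ≤ n) (α : MulAut (ProjectiveSpecialLinearGroup (Fin n) F)) :
    GoodC α ∨ GoodC (α * iota0) := by
  obtain ⟨i0, -⟩ : ∃ i0 : Fin n, (i0 : ℕ) = 0 := ⟨⟨0, by omega⟩, rfl⟩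
  have L : ∀ i j : Fin n, i ≠ j →
      (IsC ((TC (Pi.single i (1 : F))).map α.toMonoidHom) ↔
        IsA ((TA (Pi.single j (1 : F))).map α.toMonoidHom)) ∧
      (IsA ((TC (Pi.single i (1 : F))).map α.toMonoidHom) ↔
        IsC ((TA (Pi.single j (1 : F))).map α.toMonoidHom)) := by
    intro i j hij
    exact link_map hF hf hn α (IsMT_TC_single i) (IsMT_TA_single j) (std_link hn hij).1
      (std_link hn hij).2
  rcases IsMT_map hF hf hn α (IsMT_TC_single (F := F) i0) with h0 | h0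
  · left
    have hC0 : IsC ((TC (Pi.single i0 (1 : F))).map α.toMonoidHom) := h0
    have hA : ∀ j, j ≠ i0 → IsA ((TA (Pi.single j (1 : F))).map α.toMonoidHom) :=
      fun j hj => (L i0 j hj.symm).1.mp hC0
    have hC : ∀ i, IsC ((TC (Pi.single i (1 : F))).map α.toMonoidHom) := by
      intro i
      obtain ⟨k, hki, hk0⟩ := exists_third' hn i i0
      exact (L i k hki.symm).1.mpr (hA k hk0)
    refine ⟨hC, ?_⟩
    intro j
    obtain ⟨k, hkj, -⟩ := exists_third' hn j i0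
    exact (L k j hkj).1.mp (hC k)
  · right
    have hA0 : IsA ((TC (Pi.single i0 (1 : F))).map α.toMonoidHom) := h0
    have hC : ∀ j, j ≠ i0 → IsC ((TA (Pi.single j (1 : F))).map α.toMonoidHom) :=
      fun j hj => (L i0 j hj.symm).2.mp hA0
    have hA : ∀ i, IsA ((TC (Pi.single i (1 : F))).map α.toMonoidHom) := by
      intro i
      obtain ⟨k, hki, hk0⟩ := exists_third' hn i i0
      exact (L i k hki.symm).2.mpr (hC k hk0)
    have hC' : ∀ j, IsC ((TA (Pi.single j (1 : F))).map α.toMonoidHom) := by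
      intro j
      obtain ⟨k, hkj, -⟩ := exists_third' hn j i0
      exact (L k j hkj).2.mp (hA k)
    constructor
    · intro i
      rw [map_mul_aut, TC_map_iota0]
      exact hC' i
    · intro j
      rw [map_mul_aut, TA_map_iota0]
      exact hA j

theorem exists_frame (hn : 3 ≤ n) (α : MulAut (ProjectiveSpecialLinearGroup (Fin n) F))
    (hα : GoodC α) :
    ∃ g : GL (Fin n) F,
      (∀ i : Fin n, ∀ x ∈ TC (Pi.single i (1 : F)),
        α x ∈ TC ((g : Matrix (Fin n) (Fin n) F) *ᵥ Pi.single i 1)) ∧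
      (∀ j : Fin n, ∀ x ∈ TA (Pi.single j (1 : F)),
        α x ∈ TA ((Pi.single j (1 : F) : Fin n → F) ᵥ*
          ((g⁻¹ : GL (Fin n) F) : Matrix (Fin n) (Fin n) F))) := by
  classical
  have hn2 : 2 ≤ n := by omega
  obtain ⟨h1, h2⟩ := hα
  choose p hp0 hp using h1
  choose ψ hψ0 hψ using h2
  have hinc : ∀ i j : Fin n, ψ j ⬝ᵥ p i = 0 ↔ i ≠ j := by
    intro i j
    rw [← TC_inf_TA_ne_bot_iff hn2 (p i) (ψ j) (hp0 i) (hψ0 j), ← hp i, ← hψ j,
      ← Subgroup.map_inf _ _ _ α.injective, Ne,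
      Subgroup.map_eq_bot_iff_of_injective _ α.injective, ← Ne,
      TC_inf_TA_ne_bot_iff hn2 _ _ (single_ne_zero' i) (single_ne_zero' j), single_dotProduct,
      one_mul, Pi.single_apply]
    constructor
    · intro h hij
      rw [if_pos hij.symm] at h
      exact one_ne_zero h
    · intro hij
      rw [if_neg (Ne.symm hij)]
  obtain ⟨P, hP⟩ : ∃ P : Matrix (Fin n) (Fin n) F, P = Matrix.of (fun r i => p i r) := ⟨_, rfl⟩
  obtain ⟨Ψ, hΨ⟩ : ∃ Ψ : Matrix (Fin n) (Fin n) F, Ψ = Matrix.of ψ := ⟨_, rfl⟩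
  have hΨP : ∀ j i, (Ψ * P) j i = ψ j ⬝ᵥ p i := by
    intro j i
    rw [Matrix.mul_apply', hΨ, hP]
    rfl
  have hD : Ψ * P = Matrix.diagonal (fun j => ψ j ⬝ᵥ p j) := by
    ext j i
    rw [hΨP, Matrix.diagonal_apply]
    by_cases hji : j = i
    · rw [if_pos hji, hji]
    · rw [if_neg hji]
      exact (hinc i j).mpr (Ne.symm hji)
  have hdj : ∀ j, ψ j ⬝ᵥ p j ≠ 0 := by
    intro j h
    exact (hinc j j).mp h rfl
  have hdet : P.det ≠ 0 := by
    have h3 : (Ψ * P).det ≠ 0 := by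
      rw [hD, Matrix.det_diagonal]
      exact Finset.prod_ne_zero_iff.mpr (fun j _ => hdj j)
    rw [Matrix.det_mul] at h3
    exact right_ne_zero_of_mul h3
  obtain ⟨g, hg⟩ : ∃ g : GL (Fin n) F, (g : Matrix (Fin n) (Fin n) F) = P :=
    ⟨Matrix.GeneralLinearGroup.mkOfDetNeZero P hdet, rfl⟩
  have hgi : ∀ i : Fin n, (g : Matrix (Fin n) (Fin n) F) *ᵥ Pi.single i 1 = p i := by
    intro i
    rw [hg, Matrix.mulVec_single_one, hP]
    rfl
  have hψg : ∀ j : Fin n, ψ j ᵥ* (g : Matrix (Fin n) (Fin n) F) =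
      (ψ j ⬝ᵥ p j) • (Pi.single j (1 : F) : Fin n → F) := by
    intro j
    funext i
    have h3 : (ψ j ᵥ* (g : Matrix (Fin n) (Fin n) F)) i = ψ j ⬝ᵥ p i := by
      rw [hg, hP]
      rfl
    rw [h3, Pi.smul_apply, Pi.single_apply, smul_eq_mul]
    by_cases hij : i = j
    · rw [if_pos hij, mul_one, hij]
    · rw [if_neg hij, mul_zero]
      exact (hinc i j).mpr hij
  have hpar : ∀ j : Fin n, Par ((Pi.single j (1 : F) : Fin n → F) ᵥ*
      ((g⁻¹ : GL (Fin n) F) : Matrix (Fin n) (Fin n) F)) (ψ j) := by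
    intro j
    refine ⟨ψ j ⬝ᵥ p j, ?_⟩
    rw [← Matrix.smul_vecMul, ← hψg j, Matrix.vecMul_vecMul, gl_mul_inv, Matrix.vecMul_one]
  refine ⟨g, ?_, ?_⟩
  · intro i x hx
    rw [hgi i, ← hp i]
    exact Subgroup.mem_map_of_mem _ hx
  · intro j x hx
    rw [← TA_eq_of_par _ _ (hpar j) (hψ0 j), ← hψ j]
    exact Subgroup.mem_map_of_mem _ hx

theorem rootfix_of_goodC (hn : 3 ≤ n) (α : MulAut (ProjectiveSpecialLinearGroup (Fin n) F))
    (hα : GoodC α) :
    ∃ g : GL (Fin n) F, ∀ i j : Fin n, i ≠ j → ∀ s : F,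
      ∃ t : F, ((PhiL g)⁻¹ * α) (xr i j s) = xr i j t := by
  have hn2 : 2 ≤ n := by omega
  obtain ⟨g, h1, h2⟩ := exists_frame hn α hα
  refine ⟨g, ?_⟩
  intro i j hij s
  have hx1 : xr i j s ∈ TC (Pi.single i (1 : F)) := ⟨_, xr_dot hij s, rfl⟩
  have hx2 : xr i j s ∈ TA (Pi.single j (1 : F)) := by
    refine ⟨s • Pi.single i 1, ?_, ?_⟩
    · rw [dotProduct_smul, single_dot_single j i hij.symm, smul_zero]
    · unfold xr
      rw [tb_smul, single_smul_one]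
  have e : ((PhiL g)⁻¹ * α) (xr i j s) = PhiL g⁻¹ (α (xr i j s)) := by
    rw [MulAut.mul_apply, ← map_inv]
  apply mem_root hn2
  · rw [e]
    have h3 := PhiL_mem_TC g⁻¹ _ _ (h1 i _ hx1)
    rwa [Matrix.mulVec_mulVec, gl_inv_mul, Matrix.one_mulVec] at h3
  · rw [e]
    have h3 := PhiL_mem_TA g⁻¹ _ _ (h2 j _ hx2)
    rwa [Matrix.vecMul_vecMul, inv_inv, gl_inv_mul, Matrix.vecMul_one] at h3

theorem rootfix_decomp (hn : 3 ≤ n) (α : MulAut (ProjectiveSpecialLinearGroup (Fin n) F))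
    (h : ∀ i j : Fin n, i ≠ j → ∀ s : F, ∃ t : F, α (xr i j s) = xr i j t) :
    ∃ (d : Fin n → F) (hd : ∀ i, d i ≠ 0) (σ : F ≃+* F), α = PhiL (dg d hd) * phiS σ := by
  have hn2 : 2 ≤ n := by omega
  have h' : ∀ i j : Fin n, ∃ c : F → F, i ≠ j → ∀ s, α (xr i j s) = xr i j (c s) := by
    intro i j
    by_cases hij : i = j
    · exact ⟨id, fun h => absurd hij h⟩
    · choose c hc using h i j hij
      exact ⟨c, fun _ => hc⟩
  choose c hc using h'
  have hadd : ∀ i j, i ≠ j → ∀ s t, c i j (s + t) = c i j s + c i j t := by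
    intro i j hij s t
    apply xr_inj hn2 hij
    rw [← hc i j hij, ← xr_mul hij, map_mul, hc i j hij, hc i j hij, xr_mul hij]
  have hne : ∀ i j, i ≠ j → c i j 1 ≠ 0 := by
    intro i j hij h0
    have h3 := hc i j hij 1
    rw [h0, xr_zero] at h3
    have h4 : xr i j (1 : F) = 1 := by
      have := congrArg (fun z => α⁻¹ z) h3
      simp only [map_one] at this
      rw [← this]
      simp
    exact xr_ne_one hn2 hij one_ne_zero h4
  have hmul : ∀ i j k, i ≠ j → j ≠ k → i ≠ k → ∀ s t,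
      c i k (s * t) = c i j s * c j k t := by
    intro i j k hij hjk hik s t
    apply xr_inj hn2 hik
    rw [← hc i k hik, ← xr_comm hij hjk hik, map_mul, map_mul, map_mul, map_inv, map_inv,
      hc i j hij, hc j k hjk, xr_comm hij hjk hik]
  obtain ⟨d, σ₀, hd, hcd⟩ := root_coeffs hn c hadd hne hmul
  obtain ⟨σ, hσ⟩ : ∃ σ : F ≃+* F, ∀ s, σ s = σ₀ s :=
    ⟨RingEquiv.ofBijective σ₀ ⟨σ₀.injective, Finite.injective_iff_surjective.mp σ₀.injective⟩,
      fun s => rfl⟩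
  refine ⟨d, hd, σ, ?_⟩
  apply aut_ext hn2
  intro i j hij s
  rw [hc i j hij, MulAut.mul_apply, phiS_xr σ hij, PhiL_dg_xr d hd hij, hσ, hcd i j hij]

end finite

end Cfsg.Agent.helper14
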