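import Mathlib
import Cfsg.Agent.Lib_helper14_AutPslI

/-! Automorphisms of `PSL_n`, `n ≥ 3`. -/

set_option autoImplicit false

namespace Cfsg.Agent.helper14

open Matrix

section ge3
variable {n : ℕ} {F : Type*} [Field F] [Fintype F]

theorem aut_decomp_ge3 {p f : ℕ} [hp : Fact p.Prime] (hF : Fintype.card F = p ^ f) (hf : 1 ≤ f)
    (hn : 3 ≤ n) (β : MulAut (ProjectiveSpecialLinearGroup (Fin n) F)) :
    ∃ (g : GL (Fin n) F) (σ : F ≃+* F),
      β = PhiL g * phiS σ ∨ β = PhiL g * phiS σ * iota0 := by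
  have core : ∀ α : MulAut (ProjectiveSpecialLinearGroup (Fin n) F), GoodC α →
      ∃ (g : GL (Fin n) F) (σ : F ≃+* F), α = PhiL g * phiS σ := by
    intro α hα
    obtain ⟨g, hg⟩ := rootfix_of_goodC hn α hα
    obtain ⟨d, hd, σ, h⟩ := rootfix_decomp hn _ hg
    refine ⟨g * dg d hd, σ, ?_⟩
    rw [map_mul, mul_assoc, ← h, ← mul_assoc, mul_inv_cancel, one_mul]
  rcases goodC_or hF hf hn β with h | h
  · obtain ⟨g, σ, e⟩ := core β h
    exact ⟨g, σ, Or.inl e⟩
  · obtain ⟨g, σ, e⟩ := core _ h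
    refine ⟨g, σ, Or.inr ?_⟩
    rw [← e, mul_assoc, iota0_mul_self, mul_one]

end ge3

end Cfsg.Agent.helper14
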