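import Mathlib
import Cfsg.Agent.Lib_helper14_AutPslJ
import Cfsg.Agent.Lib_helper12_SlGen2

/-! Automorphisms of `PSL_2`. -/

set_option autoImplicit false

namespace Cfsg.Agent.helper14

open Matrix

section general
variable {n : ℕ} {F : Type*} [Field F]

theorem tS_mulVec (a φ w : Fin n → F) (h : φ ⬝ᵥ a = 0) :
    ((tS a φ : SpecialLinearGroup (Fin n) F) : Matrix (Fin n) (Fin n) F) *ᵥ w =
      w + (φ ⬝ᵥ w) • a := by
  rw [tS_val a φ h, Matrix.add_mulVec, Matrix.one_mulVec, vmv_mulVec]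

theorem TC_comm (a : Fin n → F) (x y : ProjectiveSpecialLinearGroup (Fin n) F)
    (hx : x ∈ TC a) (hy : y ∈ TC a) : x * y = y * x := by
  obtain ⟨φ, hφ, rfl⟩ := hx
  obtain ⟨ψ, hψ, rfl⟩ := hy
  rw [tb_mul, tb_mul, tS_mul_right _ _ _ hφ hψ, tS_mul_right _ _ _ hψ hφ, add_comm]

theorem conj_mem_TC (s : SpecialLinearGroup (Fin n) F) (a : Fin n → F)
    (x : ProjectiveSpecialLinearGroup (Fin n) F) (hx : x ∈ TC a) :
    (QuotientGroup.mk s : ProjectiveSpecialLinearGroup (Fin n) F) * x * (QuotientGroup.mk s)⁻¹ ∈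
      TC ((s : Matrix (Fin n) (Fin n) F) *ᵥ a) := by
  obtain ⟨φ, hφ, rfl⟩ := hx
  refine ⟨φ ᵥ* ((s⁻¹ : SpecialLinearGroup (Fin n) F) : Matrix (Fin n) (Fin n) F), ?_, ?_⟩
  · rw [conj_flag _ _ (sl_inv_mul s), hφ]
  · unfold tb
    rw [← sl_conj_tS s a φ hφ]
    rfl

end general

section dim2
variable {F : Type*} [Field F]

theorem fin2_cases : ∀ i : Fin 2, i = 0 ∨ i = 1 := by decide

theorem fin2_third : ∀ i j k : Fin 2, i ≠ j → k = i ∨ k = j := by decide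

theorem dot2 (x y : Fin 2 → F) : x ⬝ᵥ y = x 0 * y 0 + x 1 * y 1 := by
  rw [dotProduct, Fin.sum_univ_two]

theorem par_or_det2 (a b : Fin 2 → F) (ha : a ≠ 0) :
    Par a b ∨ a 0 * b 1 - a 1 * b 0 ≠ 0 := by
  by_cases hD : a 0 * b 1 - a 1 * b 0 = 0
  · left
    by_cases h0 : a 0 = 0
    · have h1 : a 1 ≠ 0 := by
        intro h1
        apply ha
        funext k
        rcases fin2_cases k with rfl | rfl
        · exact h0
        · exact h1
      refine ⟨b 1 / a 1, ?_⟩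
      funext k
      rcases fin2_cases k with rfl | rfl
      · show b 0 = b 1 / a 1 * a 0
        rw [h0, mul_zero]
        rw [h0, zero_mul, zero_sub, neg_eq_zero] at hD
        rcases mul_eq_zero.mp hD with h | h
        · exact absurd h h1
        · exact h
      · show b 1 = b 1 / a 1 * a 1
        rw [div_mul_cancel₀ _ h1]
    · refine ⟨b 0 / a 0, ?_⟩
      funext k
      rcases fin2_cases k with rfl | rfl
      · show b 0 = b 0 / a 0 * a 0
        rw [div_mul_cancel₀ _ h0]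
      · show b 1 = b 0 / a 0 * a 1
        rw [div_mul_eq_mul_div, eq_div_iff h0]
        linear_combination hD
  · right
    exact hD

theorem eq_zero_of_det2 (ψ a b : Fin 2 → F) (hD : a 0 * b 1 - a 1 * b 0 ≠ 0)
    (h1 : ψ ⬝ᵥ a = 0) (h2 : ψ ⬝ᵥ b = 0) : ψ = 0 := by
  rw [dot2] at h1 h2
  have e0 : ψ 0 * (a 0 * b 1 - a 1 * b 0) = 0 := by linear_combination b 1 * h1 - a 1 * h2
  have e1 : ψ 1 * (a 0 * b 1 - a 1 * b 0) = 0 := by linear_combination a 0 * h2 - b 0 * h1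
  funext k
  rcases fin2_cases k with rfl | rfl
  · exact (mul_eq_zero.mp e0).resolve_right hD
  · exact (mul_eq_zero.mp e1).resolve_right hD

theorem indep2 (a b : Fin 2 → F) (hD : a 0 * b 1 - a 1 * b 0 ≠ 0) (x y : F)
    (h : x • a + y • b = 0) : x = 0 ∧ y = 0 := by
  have h0 := congrFun h 0
  have h1 := congrFun h 1
  simp only [Pi.add_apply, Pi.smul_apply, smul_eq_mul, Pi.zero_apply] at h0 h1
  have e0 : x * (a 0 * b 1 - a 1 * b 0) = 0 := by linear_combination b 1 * h0 - b 0 * h1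
  have e1 : y * (a 0 * b 1 - a 1 * b 0) = 0 := by linear_combination a 0 * h1 - a 1 * h0
  exact ⟨(mul_eq_zero.mp e0).resolve_right hD, (mul_eq_zero.mp e1).resolve_right hD⟩

theorem comm2 (a φ b ψ : Fin 2 → F) (ha : a ≠ 0) (hφ : φ ≠ 0) (hψ : ψ ≠ 0)
    (h : φ ⬝ᵥ a = 0) (h' : ψ ⬝ᵥ b = 0) (hc : tb a φ * tb b ψ = tb b ψ * tb a φ) : Par a b := by
  rcases par_or_det2 a b ha with hp | hD
  · exact hp
  exfalso
  rw [tb_mul, tb_mul, mk_eq_iff] at hc
  obtain ⟨r, hr⟩ := hc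
  rw [Matrix.SpecialLinearGroup.coe_mul, Matrix.SpecialLinearGroup.coe_mul] at hr
  have hψa : ψ ⬝ᵥ a ≠ 0 := fun h0 => hψ (eq_zero_of_det2 ψ a b hD h0 h')
  have hφb : φ ⬝ᵥ b ≠ 0 := fun h0 => hφ (eq_zero_of_det2 φ a b hD h h0)
  have hAa : ((tS a φ : SpecialLinearGroup (Fin 2) F) : Matrix (Fin 2) (Fin 2) F) *ᵥ a = a := by
    rw [tS_mulVec _ _ _ h, h, zero_smul, add_zero]
  have hBb : ((tS b ψ : SpecialLinearGroup (Fin 2) F) : Matrix (Fin 2) (Fin 2) F) *ᵥ b = b := by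
    rw [tS_mulVec _ _ _ h', h', zero_smul, add_zero]
  have hBa := tS_mulVec b ψ a h'
  have hAb := tS_mulVec a φ b h
  have Ea := congrArg (fun M : Matrix (Fin 2) (Fin 2) F => M *ᵥ a) hr
  have Eb := congrArg (fun M : Matrix (Fin 2) (Fin 2) F => M *ᵥ b) hr
  simp only [Matrix.smul_mulVec, ← Matrix.mulVec_mulVec] at Ea Eb
  rw [hAa, hBa, Matrix.mulVec_add, Matrix.mulVec_smul, hAa, hAb] at Ea
  rw [hBb, hAb, Matrix.mulVec_add, Matrix.mulVec_smul, hBb, hBa] at Eb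
  obtain ⟨s, hs⟩ : ∃ s, s = ψ ⬝ᵥ a := ⟨_, rfl⟩
  obtain ⟨t, ht⟩ : ∃ t, t = φ ⬝ᵥ b := ⟨_, rfl⟩
  rw [← hs, ← ht] at Ea Eb
  rw [← hs] at hψa
  rw [← ht] at hφb
  have Ea' : (1 - r - r * s * t) • a + (s - r * s) • b = 0 := by
    have e : (1 - r - r * s * t) • a + (s - r * s) • b =
        (a + s • b) - r • (a + s • (b + t • a)) := by module
    rw [e, Ea, sub_self]
  have Eb' : (t - r * t) • a + (1 + t * s - r) • b = 0 := by
    have e : (t - r * t) • a + (1 + t * s - r) • b =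
        (b + t • (a + s • b)) - r • (b + t • a) := by module
    rw [e, Eb, sub_self]
  obtain ⟨-, e2⟩ := indep2 a b hD _ _ Ea'
  obtain ⟨-, e4⟩ := indep2 a b hD _ _ Eb'
  have hr1 : r = 1 := by
    have : s * (1 - r) = 0 := by linear_combination e2
    rcases mul_eq_zero.mp this with h5 | h5
    · exact absurd h5 hψa
    · exact (sub_eq_zero.mp h5).symm
  rw [hr1] at e4
  have : t * s = 0 := by linear_combination e4
  rcases mul_eq_zero.mp this with h5 | h5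
  · exact hφb h5
  · exact hψa h5

theorem weyl_conj (a t : F) (ha : a ≠ 0) :
    xr (0 : Fin 2) 1 a * xr 1 0 (-a⁻¹) * xr 0 1 a * xr 0 1 t =
      xr 1 0 (-(t * (a ^ 2)⁻¹)) * (xr (0 : Fin 2) 1 a * xr 1 0 (-a⁻¹) * xr 0 1 a) := by
  have h01 : (0 : Fin 2) ≠ 1 := by decide
  have h10 : (1 : Fin 2) ≠ 0 := by decide
  simp only [xr_eq_mk h01, xr_eq_mk h10, ← QuotientGroup.mk_mul]
  congr 1
  apply Subtype.ext
  simp only [Matrix.SpecialLinearGroup.coe_mul, SpecialLinearGroup.transvection_coe]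
  ext i j
  rcases fin2_cases i with rfl | rfl <;> rcases fin2_cases j with rfl | rfl
  · simp [Matrix.mul_apply, Fin.sum_univ_two, Matrix.add_apply, Matrix.one_apply,
      Matrix.single_apply]
  · simp [Matrix.mul_apply, Fin.sum_univ_two, Matrix.add_apply, Matrix.one_apply,
      Matrix.single_apply]
    left
    rw [mul_inv_cancel₀ ha]
    ring
  · simp [Matrix.mul_apply, Fin.sum_univ_two, Matrix.add_apply, Matrix.one_apply,
      Matrix.single_apply]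
    right
    rw [mul_inv_cancel₀ ha]
    ring
  · simp [Matrix.mul_apply, Fin.sum_univ_two, Matrix.add_apply, Matrix.one_apply,
      Matrix.single_apply]
    field_simp
    ring

theorem weyl_force (a b t t' : F) (ht : t ≠ 0)
    (h : xr (0 : Fin 2) 1 a * xr 1 0 b * xr 0 1 a * xr 0 1 t =
      xr 1 0 t' * (xr (0 : Fin 2) 1 a * xr 1 0 b * xr 0 1 a)) : 1 + a * b = 0 := by
  have h01 : (0 : Fin 2) ≠ 1 := by decide
  have h10 : (1 : Fin 2) ≠ 0 := by decide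
  obtain ⟨W, hW⟩ : ∃ W : SpecialLinearGroup (Fin 2) F,
      W = tS (Pi.single 0 1) (Pi.single 1 a) * tS (Pi.single 1 1) (Pi.single 0 b) *
        tS (Pi.single 0 1) (Pi.single 1 a) := ⟨_, rfl⟩
  have hWmk : xr (0 : Fin 2) 1 a * xr 1 0 b * xr 0 1 a =
      (QuotientGroup.mk W : ProjectiveSpecialLinearGroup (Fin 2) F) := by
    rw [hW]
    rfl
  have h1 : ((tS (Pi.single 0 1) (Pi.single 1 a) : SpecialLinearGroup (Fin 2) F) :
      Matrix (Fin 2) (Fin 2) F) *ᵥ (Pi.single 0 1) = Pi.single 0 1 := by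
    rw [tS_mulVec _ _ _ (xr_dot h01 a), xr_dot h01 a, zero_smul, add_zero]
  have h2 : ((tS (Pi.single 1 1) (Pi.single 0 b) : SpecialLinearGroup (Fin 2) F) :
      Matrix (Fin 2) (Fin 2) F) *ᵥ (Pi.single 0 1) = Pi.single 0 1 + b • Pi.single 1 1 := by
    rw [tS_mulVec _ _ _ (xr_dot h10 b), single_dotProduct, Pi.single_eq_same, mul_one]
  have h3 : ((tS (Pi.single 0 1) (Pi.single 1 a) : SpecialLinearGroup (Fin 2) F) :
      Matrix (Fin 2) (Fin 2) F) *ᵥ (Pi.single 0 1 + b • Pi.single 1 1) =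
      (1 + a * b) • Pi.single 0 1 + b • Pi.single 1 1 := by
    rw [tS_mulVec _ _ _ (xr_dot h01 a), single_dotProduct]
    funext k
    rcases fin2_cases k with rfl | rfl
    · simp
    · simp
  have hWe : (W : Matrix (Fin 2) (Fin 2) F) *ᵥ (Pi.single 0 1) =
      (1 + a * b) • Pi.single 0 1 + b • Pi.single 1 1 := by
    rw [hW, Matrix.SpecialLinearGroup.coe_mul, Matrix.SpecialLinearGroup.coe_mul,
      ← Matrix.mulVec_mulVec, ← Matrix.mulVec_mulVec, h1, h2, h3]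
  have hWe0 : ((W : Matrix (Fin 2) (Fin 2) F) *ᵥ (Pi.single 0 1)) 0 = 1 + a * b := by
    rw [hWe]
    simp
  have hWe1 : ((W : Matrix (Fin 2) (Fin 2) F) *ᵥ (Pi.single 0 1)) 1 = b := by
    rw [hWe]
    simp
  rw [hWmk] at h
  have hx : xr (0 : Fin 2) 1 t ∈ TC (Pi.single 0 (1 : F)) := ⟨_, xr_dot h01 t, rfl⟩
  have hmem := conj_mem_TC W _ _ hx
  have hconj : (QuotientGroup.mk W : ProjectiveSpecialLinearGroup (Fin 2) F) * xr 0 1 t *
      (QuotientGroup.mk W)⁻¹ = xr 1 0 t' := by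
    rw [h, mul_inv_cancel_right]
  rw [hconj] at hmem
  have hmem' : xr (1 : Fin 2) 0 t' ∈ TC (Pi.single 1 (1 : F)) := ⟨_, xr_dot h10 t', rfl⟩
  have hne1 : xr (1 : Fin 2) 0 t' ≠ 1 := by
    intro h5
    rw [h5] at hconj
    have h6 : xr (0 : Fin 2) 1 t = 1 := by
      have := congrArg (fun z => (QuotientGroup.mk W :
        ProjectiveSpecialLinearGroup (Fin 2) F)⁻¹ * z * QuotientGroup.mk W) hconj
      simp only [mul_one, inv_mul_cancel] at this
      rw [← this]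
      group
    exact xr_ne_one (le_refl 2) h01 ht h6
  by_cases hz : (W : Matrix (Fin 2) (Fin 2) F) *ᵥ (Pi.single 0 1) = 0
  · rw [← hWe0, hz]
    rfl
  by_contra hne
  have hnp : ¬ Par ((W : Matrix (Fin 2) (Fin 2) F) *ᵥ (Pi.single 0 1)) (Pi.single 1 (1 : F)) := by
    rintro ⟨c, hc⟩
    have e0 := congrFun hc 0
    have e1 := congrFun hc 1
    rw [Pi.smul_apply, hWe0, smul_eq_mul, Pi.single_eq_of_ne h01] at e0
    rw [Pi.smul_apply, hWe1, smul_eq_mul, Pi.single_eq_same] at e1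
    rcases mul_eq_zero.mp e0.symm with h5 | h5
    · rw [h5, zero_mul] at e1
      exact one_ne_zero e1
    · exact hne h5
  have hbot := TC_inf_TC (le_refl 2) _ _ hz hnp
  have h7 : xr (1 : Fin 2) 0 t' ∈ TC ((W : Matrix (Fin 2) (Fin 2) F) *ᵥ (Pi.single 0 1)) ⊓
      TC (Pi.single 1 (1 : F)) := ⟨hmem, hmem'⟩
  rw [hbot, Subgroup.mem_bot] at h7
  exact hne1 h7

end dim2

section coeffs2
variable {F : Type*} [Field F] [Fintype F]

theorem coeffs2 (c c' : F → F) (hadd : ∀ s t, c (s + t) = c s + c t)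
    (hadd' : ∀ s t, c' (s + t) = c' s + c' t) (hinj : ∀ s, c s = 0 → s = 0)
    (K1 : ∀ s, s ≠ 0 → 1 + c s * c' (-s⁻¹) = 0)
    (K2 : ∀ s t, s ≠ 0 → t ≠ 0 → c' (-(t * (s ^ 2)⁻¹)) = -(c t * ((c s) ^ 2)⁻¹)) :
    ∃ (u : F) (σ : F →+* F), u ≠ 0 ∧ (∀ s, c s = u * σ s) ∧ (∀ s, c' s = σ s * u⁻¹) := by
  have c0 : c 0 = 0 := by
    have h := hadd 0 0
    rw [add_zero] at h
    have h4 : c 0 + c 0 = c 0 + 0 := by
      rw [add_zero]
      exact h.symm
    exact add_left_cancel h4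
  have c0' : c' 0 = 0 := by
    have h := hadd' 0 0
    rw [add_zero] at h
    have h4 : c' 0 + c' 0 = c' 0 + 0 := by
      rw [add_zero]
      exact h.symm
    exact add_left_cancel h4
  have cneg : ∀ s, c (-s) = -c s := by
    intro s
    have h := hadd s (-s)
    rw [add_neg_cancel, c0] at h
    exact (neg_eq_of_add_eq_zero_right h.symm).symm
  have cneg' : ∀ s, c' (-s) = -c' s := by
    intro s
    have h := hadd' s (-s)
    rw [add_neg_cancel, c0'] at h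
    exact (neg_eq_of_add_eq_zero_right h.symm).symm
  obtain ⟨u, hu⟩ : ∃ u, u = c 1 := ⟨_, rfl⟩
  have hu0 : u ≠ 0 := by
    rw [hu]
    intro h
    exact one_ne_zero (hinj 1 h)
  have hC' : ∀ t, c' t = c t * (u ^ 2)⁻¹ := by
    intro t
    by_cases ht : t = 0
    · rw [ht, c0, c0', zero_mul]
    · have h := K2 1 t one_ne_zero ht
      rw [one_pow, inv_one, mul_one, cneg', ← hu] at h
      exact neg_injective h
  obtain ⟨sg, hsg⟩ : ∃ sg : F → F, ∀ s, sg s = c s * u⁻¹ := ⟨fun s => c s * u⁻¹, fun s => rfl⟩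
  have hcs : ∀ s, c s = u * sg s := by
    intro s
    rw [hsg, mul_comm (c s), ← mul_assoc, mul_inv_cancel₀ hu0, one_mul]
  have hcs' : ∀ s, c' s = sg s * u⁻¹ := by
    intro s
    rw [hC', hsg, pow_two, mul_inv, mul_assoc]
  have sadd : ∀ s t, sg (s + t) = sg s + sg t := by
    intro s t
    rw [hsg, hsg, hsg, hadd, add_mul]
  have s0 : sg 0 = 0 := by rw [hsg, c0, zero_mul]
  have s1 : sg 1 = 1 := by rw [hsg, ← hu, mul_inv_cancel₀ hu0]
  have sne : ∀ s, s ≠ 0 → sg s ≠ 0 := by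
    intro s hs h
    rw [hsg] at h
    rcases mul_eq_zero.mp h with h | h
    · exact hs (hinj s h)
    · exact inv_ne_zero hu0 h
  have huu : u * u⁻¹ = 1 := mul_inv_cancel₀ hu0
  have K1' : ∀ s, s ≠ 0 → sg s * sg s⁻¹ = 1 := by
    intro s hs
    have h := K1 s hs
    rw [cneg', hcs, hcs'] at h
    linear_combination -h - (sg s * sg s⁻¹) * huu
  have K2' : ∀ s t, s ≠ 0 → t ≠ 0 → sg (t * (s ^ 2)⁻¹) * (sg s) ^ 2 = sg t := by
    intro s t hs ht
    have h := K2 s t hs ht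
    rw [cneg', hcs', hcs t, hcs s] at h
    have h2 : sg (t * (s ^ 2)⁻¹) * u⁻¹ = u * sg t * ((u * sg s) ^ 2)⁻¹ := neg_injective h
    have hss := sne s hs
    calc sg (t * (s ^ 2)⁻¹) * (sg s) ^ 2
        = (sg (t * (s ^ 2)⁻¹) * u⁻¹) * (u * (sg s) ^ 2) := by
          field_simp
      _ = (u * sg t * ((u * sg s) ^ 2)⁻¹) * (u * (sg s) ^ 2) := by rw [h2]
      _ = sg t := by
          field_simp
  have M1 : ∀ s t, sg (t * s ^ 2) = sg t * (sg s) ^ 2 := by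
    intro s t
    by_cases hs : s = 0
    · rw [hs, s0]
      simp [s0]
    by_cases ht : t = 0
    · rw [ht, zero_mul, s0, zero_mul]
    have hsi : s⁻¹ ≠ 0 := inv_ne_zero hs
    have h := K2' s⁻¹ t hsi ht
    have e : t * ((s⁻¹) ^ 2)⁻¹ = t * s ^ 2 := by rw [inv_pow, inv_inv]
    rw [e] at h
    have k := K1' s hs
    rw [← h]
    have e2 : (sg s⁻¹) ^ 2 * (sg s) ^ 2 = 1 := by rw [← mul_pow, mul_comm, k, one_pow]
    rw [mul_assoc, e2, mul_one]
  have M2 : ∀ s, sg (s ^ 2) = (sg s) ^ 2 := by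
    intro s
    have := M1 s 1
    rwa [one_mul, s1, one_mul] at this
  have smul : ∀ t z, sg (t * z) = sg t * sg z := by
    intro t z
    obtain ⟨a, b, hab⟩ := Cfsg.Agent.helper12.field_sum_two_squares z
    rw [hab, mul_add, sadd, M1, M1, sadd, M2, M2, mul_add]
  refine ⟨u,
    { toFun := sg
      map_one' := s1
      map_mul' := smul
      map_zero' := s0
      map_add' := sadd }, hu0, hcs, hcs'⟩

end coeffs2

section aut2
variable {F : Type*} [Field F] [Fintype F]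

theorem aut_TC2 {p f : ℕ} [hp : Fact p.Prime] (hF : Fintype.card F = p ^ f) (hf : 1 ≤ f)
    (α : MulAut (ProjectiveSpecialLinearGroup (Fin 2) F)) (a : Fin 2 → F) (ha : a ≠ 0) :
    ∃ b : Fin 2 → F, b ≠ 0 ∧ ∀ x ∈ TC a, α x ∈ TC b := by
  obtain ⟨φ₀, hφ₀, hφ₀a⟩ := exists_ker1 (le_refl 2) a
  rw [dotProduct_comm] at hφ₀a
  obtain ⟨b, ψ₀, hb, hψ₀, hψ₀b, e₀⟩ := aut_tb hF hf (le_refl 2) α a φ₀ ha hφ₀ hφ₀a
  refine ⟨b, hb, ?_⟩
  rintro x ⟨φ, hφ, rfl⟩
  by_cases hφ0 : φ = 0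
  · rw [hφ0]
    have : tb a (0 : Fin 2 → F) = 1 := by
      unfold tb
      rw [tS_zero_right]
      rfl
    rw [this, map_one]
    exact (TC b).one_mem
  obtain ⟨b', ψ', hb', hψ', hψ'b', e'⟩ := aut_tb hF hf (le_refl 2) α a φ ha hφ0 hφ
  have hcomm : tb a φ₀ * tb a φ = tb a φ * tb a φ₀ :=
    TC_comm a _ _ ⟨φ₀, hφ₀a, rfl⟩ ⟨φ, hφ, rfl⟩
  have hcomm' : tb b ψ₀ * tb b' ψ' = tb b' ψ' * tb b ψ₀ := by
    rw [← e₀, ← e', ← map_mul, ← map_mul, hcomm]
  have hp' := comm2 b ψ₀ b' ψ' hb hψ₀ hψ' hψ₀b hψ'b' hcomm'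
  rw [e']
  exact tb_mem_TC_of_par b b' ψ' hp' hb' hψ'b'

theorem rootfix2 {p f : ℕ} [hp : Fact p.Prime] (hF : Fintype.card F = p ^ f) (hf : 1 ≤ f)
    (α : MulAut (ProjectiveSpecialLinearGroup (Fin 2) F)) :
    ∃ g : GL (Fin 2) F, ∀ i j : Fin 2, i ≠ j → ∀ s : F,
      ∃ t : F, ((PhiL g)⁻¹ * α) (xr i j s) = xr i j t := by
  have h01 : (0 : Fin 2) ≠ 1 := by decide
  have h10 : (1 : Fin 2) ≠ 0 := by decide
  obtain ⟨p0, hp0, h0⟩ := aut_TC2 hF hf α (Pi.single 0 1) (single_ne_zero' 0)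
  obtain ⟨p1, hp1, h1⟩ := aut_TC2 hF hf α (Pi.single 1 1) (single_ne_zero' 1)
  have hnp : ¬ Par p0 p1 := by
    intro hpar
    have hx0 : α (xr 0 1 1) ∈ TC p0 := h0 _ ⟨_, xr_dot h01 1, rfl⟩
    have hx1 : α (xr 1 0 1) ∈ TC p0 := by
      rw [← TC_eq_of_par p0 p1 hpar hp1]
      exact h1 _ ⟨_, xr_dot h10 1, rfl⟩
    have hc := TC_comm p0 _ _ hx0 hx1
    rw [← map_mul, ← map_mul] at hc
    have hc' := α.injective hc
    unfold xr at hc'
    obtain ⟨c, hc2⟩ := comm2 _ _ _ _ (single_ne_zero' 0) (single_ne_zero' 1) (single_ne_zero' 0)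
      (xr_dot h01 1) (xr_dot h10 1) hc'
    have h5 := congrFun hc2 1
    rw [Pi.single_eq_same, Pi.smul_apply, Pi.single_eq_of_ne h10, smul_zero] at h5
    exact one_ne_zero h5
  have hD : p0 0 * p1 1 - p0 1 * p1 0 ≠ 0 := (par_or_det2 p0 p1 hp0).resolve_left hnp
  obtain ⟨g, hg⟩ : ∃ g : GL (Fin 2) F,
      (g : Matrix (Fin 2) (Fin 2) F) = !![p0 0, p1 0; p0 1, p1 1] :=
    ⟨Matrix.GeneralLinearGroup.mkOfDetNeZero _ (by
      rw [Matrix.det_fin_two_of, mul_comm (p1 0)]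
      exact hD), rfl⟩
  have hg0 : (g : Matrix (Fin 2) (Fin 2) F) *ᵥ Pi.single 0 1 = p0 := by
    rw [hg, Matrix.mulVec_single_one]
    funext k
    rcases fin2_cases k with rfl | rfl <;> rfl
  have hg1 : (g : Matrix (Fin 2) (Fin 2) F) *ᵥ Pi.single 1 1 = p1 := by
    rw [hg, Matrix.mulVec_single_one]
    funext k
    rcases fin2_cases k with rfl | rfl <;> rfl
  refine ⟨g, ?_⟩
  have key : ∀ i : Fin 2, ∀ x ∈ TC (Pi.single i (1 : F)),
      ((PhiL g)⁻¹ * α) x ∈ TC (Pi.single i (1 : F)) := by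
    intro i x hx
    have e : ((PhiL g)⁻¹ * α) x = PhiL g⁻¹ (α x) := by
      rw [MulAut.mul_apply, ← map_inv]
    rw [e]
    have h3 : α x ∈ TC ((g : Matrix (Fin 2) (Fin 2) F) *ᵥ Pi.single i 1) := by
      rcases fin2_cases i with rfl | rfl
      · rw [hg0]
        exact h0 x hx
      · rw [hg1]
        exact h1 x hx
    have h4 := PhiL_mem_TC g⁻¹ _ _ h3
    rwa [Matrix.mulVec_mulVec, gl_inv_mul, Matrix.one_mulVec] at h4
  intro i j hij s
  have hx : xr i j s ∈ TC (Pi.single i (1 : F)) := ⟨_, xr_dot hij s, rfl⟩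
  obtain ⟨φ, hφ, e⟩ := key i _ hx
  refine ⟨φ j, ?_⟩
  rw [e]
  unfold xr
  congr 1
  funext k
  rw [dotProduct_single, mul_one] at hφ
  rcases fin2_third i j k hij with rfl | rfl
  · rw [Pi.single_eq_of_ne hij, hφ]
  · rw [Pi.single_eq_same]

theorem rootfix_decomp2 (α : MulAut (ProjectiveSpecialLinearGroup (Fin 2) F))
    (h : ∀ i j : Fin 2, i ≠ j → ∀ s : F, ∃ t : F, α (xr i j s) = xr i j t) :
    ∃ (d : Fin 2 → F) (hd : ∀ i, d i ≠ 0) (σ : F ≃+* F), α = PhiL (dg d hd) * phiS σ := by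
  have h01 : (0 : Fin 2) ≠ 1 := by decide
  have h10 : (1 : Fin 2) ≠ 0 := by decide
  choose c hc using h 0 1 h01
  choose c' hc' using h 1 0 h10
  have hadd : ∀ s t, c (s + t) = c s + c t := by
    intro s t
    apply xr_inj (le_refl 2) h01
    rw [← hc, ← xr_mul h01, map_mul, hc, hc, xr_mul h01]
  have hadd' : ∀ s t, c' (s + t) = c' s + c' t := by
    intro s t
    apply xr_inj (le_refl 2) h10
    rw [← hc', ← xr_mul h10, map_mul, hc', hc', xr_mul h10]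
  have hinj : ∀ s, c s = 0 → s = 0 := by
    intro s hs
    have h3 := hc s
    rw [hs, xr_zero] at h3
    have h4 : xr (0 : Fin 2) 1 s = 1 := by
      have := congrArg (fun z => α⁻¹ z) h3
      simp only [map_one] at this
      rw [← this]
      simp
    by_contra hne
    exact xr_ne_one (le_refl 2) h01 hne h4
  have hW : ∀ s t, s ≠ 0 →
      xr (0 : Fin 2) 1 (c s) * xr 1 0 (c' (-s⁻¹)) * xr 0 1 (c s) * xr 0 1 (c t) =
      xr 1 0 (c' (-(t * (s ^ 2)⁻¹))) *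
        (xr (0 : Fin 2) 1 (c s) * xr 1 0 (c' (-s⁻¹)) * xr 0 1 (c s)) := by
    intro s t hs
    have := congrArg α (weyl_conj s t hs)
    simpa only [map_mul, hc, hc'] using this
  have hc1 : c 1 ≠ 0 := fun h => one_ne_zero (hinj 1 h)
  have K1 : ∀ s, s ≠ 0 → 1 + c s * c' (-s⁻¹) = 0 := by
    intro s hs
    exact weyl_force (c s) (c' (-s⁻¹)) (c 1) _ hc1 (hW s 1 hs)
  have K2 : ∀ s t, s ≠ 0 → t ≠ 0 → c' (-(t * (s ^ 2)⁻¹)) = -(c t * ((c s) ^ 2)⁻¹) := by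
    intro s t hs _
    have hcs : c s ≠ 0 := fun h => hs (hinj s h)
    have e1 : c' (-s⁻¹) = -(c s)⁻¹ := by
      have h5 : c s * c' (-s⁻¹) = -1 := by linear_combination K1 s hs
      calc c' (-s⁻¹) = (c s)⁻¹ * (c s * c' (-s⁻¹)) := by
            rw [← mul_assoc, inv_mul_cancel₀ hcs, one_mul]
        _ = -(c s)⁻¹ := by rw [h5, mul_neg, mul_one]
    have h6 := hW s t hs
    rw [e1, weyl_conj (c s) (c t) hcs] at h6
    exact (xr_inj (le_refl 2) h10 (mul_right_cancel h6)).symm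
  obtain ⟨u, σ₀, hu, hcu, hcu'⟩ := coeffs2 c c' hadd hadd' hinj K1 K2
  obtain ⟨σ, hσ⟩ : ∃ σ : F ≃+* F, ∀ s, σ s = σ₀ s :=
    ⟨RingEquiv.ofBijective σ₀ ⟨σ₀.injective, Finite.injective_iff_surjective.mp σ₀.injective⟩,
      fun s => rfl⟩
  obtain ⟨d, hd0, hd1⟩ : ∃ d : Fin 2 → F, d 0 = u ∧ d 1 = 1 := ⟨![u, 1], rfl, rfl⟩
  have hd : ∀ i, d i ≠ 0 := by
    intro i
    rcases fin2_cases i with rfl | rfl
    · rw [hd0]
      exact hu
    · rw [hd1]
      exact one_ne_zero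
  refine ⟨d, hd, σ, ?_⟩
  apply aut_ext (le_refl 2)
  intro i j hij s
  rw [MulAut.mul_apply, phiS_xr σ hij, PhiL_dg_xr d hd hij, hσ]
  rcases fin2_cases i with rfl | rfl <;> rcases fin2_cases j with rfl | rfl
  · exact absurd rfl hij
  · rw [hc, hcu, hd0, hd1, inv_one, mul_one]
  · rw [hc', hcu', hd0, hd1, one_mul]
  · exact absurd rfl hij

theorem aut_decomp_2 {p f : ℕ} [hp : Fact p.Prime] (hF : Fintype.card F = p ^ f) (hf : 1 ≤ f)
    (β : MulAut (ProjectiveSpecialLinearGroup (Fin 2) F)) :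
    ∃ (g : GL (Fin 2) F) (σ : F ≃+* F), β = PhiL g * phiS σ := by
  obtain ⟨g, hg⟩ := rootfix2 hF hf β
  obtain ⟨d, hd, σ, h⟩ := rootfix_decomp2 _ hg
  refine ⟨g * dg d hd, σ, ?_⟩
  rw [map_mul, mul_assoc, ← h, ← mul_assoc, mul_inv_cancel, one_mul]

end aut2

end Cfsg.Agent.helper14
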