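import Mathlib
import Cfsg.Agent.Lib_helper14_AutPslK

/-! The order of `Aut(PSL_n(F))`. -/

set_option autoImplicit false

namespace Cfsg.Agent.helper14

open Matrix

section fieldaut
variable {F : Type*} [Field F] [Fintype F]

theorem card_ringAut {p f : ℕ} [hp : Fact p.Prime] (hF : Fintype.card F = p ^ f) :
    Nat.card (F ≃+* F) = f := by
  haveI : CharP F p := charP_of_card_eq_prime_pow hF
  letI : Algebra (ZMod p) F := ZMod.algebra F p
  have e : (F ≃+* F) ≃ (F ≃ₐ[ZMod p] F) :=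
    { toFun := fun σ => { σ with
        commutes' := fun r => DFunLike.congr_fun
          (Subsingleton.elim ((σ : F →+* F).comp (algebraMap (ZMod p) F))
            (algebraMap (ZMod p) F)) r }
      invFun := fun e => e.toRingEquiv
      left_inv := fun σ => by ext; rfl
      right_inv := fun e => by ext; rfl }
  rw [Nat.card_congr e, IsGalois.card_aut_eq_finrank]
  have h := FiniteField.pow_finrank_eq_card p F
  rw [hF] at h
  exact Nat.pow_right_injective hp.out.two_le h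

end fieldaut

section unique
variable {n : ℕ} {F : Type*} [Field F]

theorem phiS_tb (σ : F ≃+* F) (a φ : Fin n → F) (h : φ ⬝ᵥ a = 0) :
    phiS σ (tb a φ) = tb (σ ∘ a) (σ ∘ φ) := by
  have h' : (σ ∘ φ) ⬝ᵥ (σ ∘ a) = 0 := by
    have := RingHom.map_dotProduct (σ : F →+* F) φ a
    rw [h, map_zero] at this
    exact this.symm
  unfold tb
  rw [phiS_mk]
  have : mapSL σ (tS a φ) = tS (σ ∘ a) (σ ∘ φ) := by
    apply Subtype.ext
    rw [mapSL_val, tS_val a φ h, tS_val _ _ h']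
    ext i j
    rw [Matrix.map_apply, Matrix.add_apply, Matrix.add_apply, map_add, Matrix.vecMulVec_apply,
      Matrix.vecMulVec_apply, map_mul]
    congr 1
    rw [Matrix.one_apply]
    split_ifs
    · exact map_one σ
    · exact map_zero σ
  rw [this]

theorem phiS_mem_TC (σ : F ≃+* F) (a : Fin n → F)
    (x : ProjectiveSpecialLinearGroup (Fin n) F) (hx : x ∈ TC a) :
    phiS σ x ∈ TC (σ ∘ a) := by
  obtain ⟨φ, hφ, rfl⟩ := hx
  rw [phiS_tb σ a φ hφ]
  refine ⟨σ ∘ φ, ?_, rfl⟩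
  have := RingHom.map_dotProduct (σ : F →+* F) φ a
  rw [hφ, map_zero] at this
  exact this.symm

theorem phiS_mem_TA (σ : F ≃+* F) (φ : Fin n → F)
    (x : ProjectiveSpecialLinearGroup (Fin n) F) (hx : x ∈ TA φ) :
    phiS σ x ∈ TA (σ ∘ φ) := by
  obtain ⟨a, ha, rfl⟩ := hx
  rw [phiS_tb σ a φ ha]
  refine ⟨σ ∘ a, ?_, rfl⟩
  have := RingHom.map_dotProduct (σ : F →+* F) φ a
  rw [ha, map_zero] at this
  exact this.symm

theorem comp_single (σ : F ≃+* F) (i : Fin n) :
    σ ∘ (Pi.single i (1 : F) : Fin n → F) = Pi.single i 1 := by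
  funext k
  rw [Function.comp_apply, Pi.single_apply]
  split_ifs
  · exact map_one σ
  · exact map_zero σ

theorem gl_mulVec_ne_zero (g : GL (Fin n) F) (a : Fin n → F) (ha : a ≠ 0) :
    (g : Matrix (Fin n) (Fin n) F) *ᵥ a ≠ 0 := by
  intro h
  apply ha
  have := congrArg (fun w => ((g⁻¹ : GL (Fin n) F) : Matrix (Fin n) (Fin n) F) *ᵥ w) h
  simp only [Matrix.mulVec_mulVec, gl_inv_mul, Matrix.one_mulVec, Matrix.mulVec_zero] at this
  exact this

theorem gl_vecMul_ne_zero (g : GL (Fin n) F) (φ : Fin n → F) (hφ : φ ≠ 0) :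
    φ ᵥ* (g : Matrix (Fin n) (Fin n) F) ≠ 0 := by
  intro h
  apply hφ
  have := congrArg (fun w => w ᵥ* ((g⁻¹ : GL (Fin n) F) : Matrix (Fin n) (Fin n) F)) h
  simp only [Matrix.vecMul_vecMul, gl_mul_inv, Matrix.vecMul_one, Matrix.zero_vecMul] at this
  exact this

theorem field_unique (hn : 2 ≤ n) (h : GL (Fin n) F) (σ σ' : F ≃+* F)
    (e : PhiL h * phiS σ = phiS σ') : σ = σ' := by
  obtain ⟨i, j, hij⟩ : ∃ i j : Fin n, i ≠ j := by
    refine ⟨⟨0, by omega⟩, ⟨1, by omega⟩, ?_⟩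
    intro h
    have := congrArg Fin.val h
    simp at this
  have key : ∀ s : F, σ s • vecMulVec ((h : Matrix (Fin n) (Fin n) F) *ᵥ Pi.single i 1)
      (((h⁻¹ : GL (Fin n) F) : Matrix (Fin n) (Fin n) F).row j) = Matrix.single i j (σ' s) := by
    intro s
    have e1 := DFunLike.congr_fun e (xr i j s)
    rw [MulAut.mul_apply, phiS_xr σ hij, phiS_xr σ' hij] at e1
    unfold xr at e1
    rw [PhiL_tb _ _ _ (xr_dot hij _)] at e1
    have hd : (Pi.single j (σ s) ᵥ* ((h⁻¹ : GL (Fin n) F) : Matrix (Fin n) (Fin n) F)) ⬝ᵥ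
        ((h : Matrix (Fin n) (Fin n) F) *ᵥ Pi.single i 1) = 0 := by
      rw [conj_flag _ _ (gl_inv_mul h), xr_dot hij]
    have e2 := vmv_eq_of_tb_eq hn _ _ _ _ hd (xr_dot hij _) e1
    rw [vmv_single, Matrix.single_vecMul, vmv_smul_right] at e2
    exact e2
  have k1 := key 1
  rw [map_one, one_smul, map_one] at k1
  ext s
  have k := key s
  rw [k1] at k
  have := congrFun (congrFun k i) j
  rw [Matrix.smul_apply, Matrix.single_apply_same, Matrix.single_apply_same, smul_eq_mul,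
    mul_one] at this
  exact this

theorem decomp_unique (hn : 2 ≤ n) (g g' : GL (Fin n) F) (σ σ' : F ≃+* F)
    (e : PhiL g * phiS σ = PhiL g' * phiS σ') : σ = σ' ∧ PhiL g = PhiL g' := by
  have e' : PhiL (g'⁻¹ * g) * phiS σ = phiS σ' := by
    rw [map_mul, map_inv, mul_assoc, e, ← mul_assoc, inv_mul_cancel, one_mul]
  have hσ := field_unique hn _ σ σ' e'
  refine ⟨hσ, ?_⟩
  rw [hσ] at e
  exact mul_right_cancel e

end unique

section counting
variable {n : ℕ} {F : Type*} [Field F] [Fintype F]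

theorem no_graph {p f : ℕ} [hp : Fact p.Prime] (hF : Fintype.card F = p ^ f) (hf : 1 ≤ f)
    (hn : 3 ≤ n) (g g' : GL (Fin n) F) (σ σ' : F ≃+* F) :
    PhiL g * phiS σ ≠ PhiL g' * phiS σ' * iota0 := by
  intro e
  obtain ⟨i0, -⟩ : ∃ i0 : Fin n, (i0 : ℕ) = 0 := ⟨⟨0, by omega⟩, rfl⟩
  obtain ⟨β, hβ⟩ : ∃ β : MulAut (ProjectiveSpecialLinearGroup (Fin n) F),
      β = PhiL g * phiS σ := ⟨_, rfl⟩
  have h1 : ∀ x ∈ TC (Pi.single i0 (1 : F)),
      β x ∈ TC ((g : Matrix (Fin n) (Fin n) F) *ᵥ Pi.single i0 1) := by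
    intro x hx
    rw [hβ, MulAut.mul_apply]
    have := PhiL_mem_TC g _ _ (phiS_mem_TC σ _ x hx)
    rwa [comp_single] at this
  have h2 : ∀ x ∈ TC (Pi.single i0 (1 : F)),
      β x ∈ TA ((Pi.single i0 (1 : F) : Fin n → F) ᵥ*
        ((g'⁻¹ : GL (Fin n) F) : Matrix (Fin n) (Fin n) F)) := by
    intro x hx
    rw [hβ, e, MulAut.mul_apply, MulAut.mul_apply]
    have := PhiL_mem_TA g' _ _ (phiS_mem_TA σ' _ _ (iota0_mem_TA _ x hx))
    rwa [comp_single] at this
  have hb : (g : Matrix (Fin n) (Fin n) F) *ᵥ Pi.single i0 1 ≠ 0 :=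
    gl_mulVec_ne_zero g _ (single_ne_zero' i0)
  have hψ : (Pi.single i0 (1 : F) : Fin n → F) ᵥ*
      ((g'⁻¹ : GL (Fin n) F) : Matrix (Fin n) (Fin n) F) ≠ 0 :=
    gl_vecMul_ne_zero g'⁻¹ _ (single_ne_zero' i0)
  have hle1 : (TC (Pi.single i0 (1 : F))).map β.toMonoidHom ≤
      TC ((g : Matrix (Fin n) (Fin n) F) *ᵥ Pi.single i0 1) := by
    rintro y ⟨x, hx, rfl⟩
    exact h1 x hx
  have hle2 : (TC (Pi.single i0 (1 : F))).map β.toMonoidHom ≤
      TA ((Pi.single i0 (1 : F) : Fin n → F) ᵥ*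
        ((g'⁻¹ : GL (Fin n) F) : Matrix (Fin n) (Fin n) F)) := by
    rintro y ⟨x, hx, rfl⟩
    exact h2 x hx
  rcases IsMT_map hF hf hn β (IsMT_TC_single (F := F) i0) with ⟨b', hb', hM⟩ | ⟨ψ', hψ', hM⟩
  · rw [hM] at hle2
    exact not_TC_le_TA hn _ _ hb' hψ hle2
  · rw [hM] at hle1
    exact not_TA_le_TC hn _ _ hψ' hb hle1

theorem PhiL_ker_eq_center :
    (PhiL (n := n) (F := F)).ker = Subgroup.center (GL (Fin n) F) := by
  ext g
  rw [PhiL_ker, Subgroup.mem_center_iff]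
  constructor
  · intro hg k
    obtain ⟨c, hc⟩ := (Cfsg.Geo.mem_scalars_iff g).mp hg
    apply Units.ext
    rw [Units.val_mul, Units.val_mul, hc, Matrix.smul_mul, Matrix.mul_smul, Matrix.one_mul,
      Matrix.mul_one]
  · intro hg
    rw [← PhiL_ker, MonoidHom.mem_ker]
    ext x
    induction x using QuotientGroup.induction_on with
    | H s =>
      rw [PhiL_mk, MulAut.one_apply]
      congr 1
      apply Subtype.ext
      rw [conjSLfun_val]
      have h1 := congrArg Units.val (hg (Matrix.SpecialLinearGroup.toGL s))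
      rw [Units.val_mul, Units.val_mul] at h1
      have h2 : ((Matrix.SpecialLinearGroup.toGL s : GL (Fin n) F) :
          Matrix (Fin n) (Fin n) F) = (s : Matrix (Fin n) (Fin n) F) := rfl
      rw [h2] at h1
      rw [← h1, Matrix.mul_assoc, gl_mul_inv, Matrix.mul_one]

theorem card_range_PhiL :
    Nat.card ↥(PhiL (n := n) (F := F)).range = Nat.card (Matrix.ProjGenLinGroup (Fin n) F) := by
  rw [← Nat.card_congr (QuotientGroup.quotientKerEquivRange (PhiL (n := n) (F := F))).toEquiv]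
  have h := PhiL_ker_eq_center (n := n) (F := F)
  rw [h]
  rfl

theorem card_aut_ge3 {p f : ℕ} [hp : Fact p.Prime] (hF : Fintype.card F = p ^ f) (hf : 1 ≤ f)
    (hn : 3 ≤ n) :
    Nat.card (MulAut (ProjectiveSpecialLinearGroup (Fin n) F)) =
      2 * f * Nat.card (Matrix.ProjGenLinGroup (Fin n) F) := by
  have hn2 : 2 ≤ n := by omega
  obtain ⟨Θ, hΘ⟩ : ∃ Θ : ↥(PhiL (n := n) (F := F)).range × (F ≃+* F) × Bool →
      MulAut (ProjectiveSpecialLinearGroup (Fin n) F),
      ∀ x, Θ x = (x.1 : MulAut (ProjectiveSpecialLinearGroup (Fin n) F)) * phiS x.2.1 *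
        (if x.2.2 then iota0 else 1) := ⟨_, fun x => rfl⟩
  have hbij : Function.Bijective Θ := by
    constructor
    · rintro ⟨⟨δ, g, rfl⟩, σ, b⟩ ⟨⟨δ', g', rfl⟩, σ', b'⟩ hxy
      rw [hΘ, hΘ] at hxy
      simp only at hxy
      have hbb : b = b' := by
        cases b <;> cases b'
        · rfl
        · exfalso
          simp only [Bool.false_eq_true, if_false, if_true, mul_one] at hxy
          exact no_graph hF hf hn g g' σ σ' hxy
        · exfalso
          simp only [Bool.false_eq_true, if_false, if_true, mul_one] at hxy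
          exact no_graph hF hf hn g' g σ' σ hxy.symm
        · rfl
      subst hbb
      have hxy' := mul_right_cancel hxy
      obtain ⟨hσ, hg⟩ := decomp_unique hn2 g g' σ σ' hxy'
      subst hσ
      have : (⟨PhiL g, g, rfl⟩ : ↥(PhiL (n := n) (F := F)).range) = ⟨PhiL g', g', rfl⟩ :=
        Subtype.ext hg
      rw [this]
    · intro β
      obtain ⟨g, σ, h | h⟩ := aut_decomp_ge3 hF hf hn β
      · refine ⟨(⟨PhiL g, g, rfl⟩, σ, false), ?_⟩
        rw [hΘ, h]
        simp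
      · refine ⟨(⟨PhiL g, g, rfl⟩, σ, true), ?_⟩
        rw [hΘ, h]
        simp
  have hB : Nat.card Bool = 2 := by rw [Nat.card_eq_fintype_card, Fintype.card_bool]
  rw [← Nat.card_eq_of_bijective Θ hbij, Nat.card_prod, Nat.card_prod, card_range_PhiL,
    card_ringAut hF, hB]
  ring

theorem card_aut_2 {p f : ℕ} [hp : Fact p.Prime] (hF : Fintype.card F = p ^ f) (hf : 1 ≤ f) :
    Nat.card (MulAut (ProjectiveSpecialLinearGroup (Fin 2) F)) =
      f * Nat.card (Matrix.ProjGenLinGroup (Fin 2) F) := by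
  obtain ⟨Θ, hΘ⟩ : ∃ Θ : ↥(PhiL (n := 2) (F := F)).range × (F ≃+* F) →
      MulAut (ProjectiveSpecialLinearGroup (Fin 2) F),
      ∀ x, Θ x = (x.1 : MulAut (ProjectiveSpecialLinearGroup (Fin 2) F)) * phiS x.2 :=
    ⟨_, fun x => rfl⟩
  have hbij : Function.Bijective Θ := by
    constructor
    · rintro ⟨⟨δ, g, rfl⟩, σ⟩ ⟨⟨δ', g', rfl⟩, σ'⟩ hxy
      rw [hΘ, hΘ] at hxy
      simp only at hxy
      obtain ⟨hσ, hg⟩ := decomp_unique (le_refl 2) g g' σ σ' hxy
      subst hσ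
      have : (⟨PhiL g, g, rfl⟩ : ↥(PhiL (n := 2) (F := F)).range) = ⟨PhiL g', g', rfl⟩ :=
        Subtype.ext hg
      rw [this]
    · intro β
      obtain ⟨g, σ, h⟩ := aut_decomp_2 hF hf β
      refine ⟨(⟨PhiL g, g, rfl⟩, σ), ?_⟩
      rw [hΘ, h]
  rw [← Nat.card_eq_of_bijective Θ hbij, Nat.card_prod, card_range_PhiL, card_ringAut hF]
  ring

end counting

end Cfsg.Agent.helper14
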