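import Mathlib
import Cfsg.Prelude.Def_KGroupFacts
import Cfsg.Agent.Lib_helper14_AutPslL

/-! The outer automorphism group of `PSL_n(F)`, `n ≥ 3`. -/

set_option autoImplicit false

namespace Cfsg.Agent.helper14

open Matrix

section relations
variable {n : ℕ} {F : Type*} [Field F]

theorem map_mul_equiv (σ : F ≃+* F) (A B : Matrix (Fin n) (Fin n) F) :
    (A * B).map σ = A.map σ * B.map σ := by
  ext a b
  simp only [Matrix.map_apply, Matrix.mul_apply, map_sum, map_mul]

theorem phiS_mul (σ τ : F ≃+* F) :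
    (phiS σ * phiS τ : MulAut (ProjectiveSpecialLinearGroup (Fin n) F)) = phiS (σ * τ) := by
  ext x
  induction x using QuotientGroup.induction_on with
  | H s =>
    rw [MulAut.mul_apply, phiS_mk, phiS_mk, phiS_mk]
    congr 1

theorem phiS_one :
    (phiS (1 : F ≃+* F) : MulAut (ProjectiveSpecialLinearGroup (Fin n) F)) = 1 := by
  ext x
  induction x using QuotientGroup.induction_on with
  | H s =>
    rw [phiS_mk, MulAut.one_apply]
    congr 1

theorem phiS_PhiL (σ : F ≃+* F) (g : GL (Fin n) F) :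
    phiS σ * PhiL g = PhiL (Matrix.GeneralLinearGroup.map (σ : F →+* F) g) * phiS σ := by
  have hval : ∀ h : GL (Fin n) F,
      ((Matrix.GeneralLinearGroup.map (σ : F →+* F) h : GL (Fin n) F) :
        Matrix (Fin n) (Fin n) F) = (h : Matrix (Fin n) (Fin n) F).map σ := fun h => rfl
  ext x
  induction x using QuotientGroup.induction_on with
  | H s =>
    rw [MulAut.mul_apply, MulAut.mul_apply, PhiL_mk, phiS_mk, phiS_mk, PhiL_mk]
    congr 1
    apply Subtype.ext
    rw [mapSL_val, conjSLfun_val, conjSLfun_val, mapSL_val, map_mul_equiv, map_mul_equiv,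
      ← map_inv, hval, hval]

theorem iota0_phiS (σ : F ≃+* F) :
    (iota0 * phiS σ : MulAut (ProjectiveSpecialLinearGroup (Fin n) F)) = phiS σ * iota0 := by
  ext x
  induction x using QuotientGroup.induction_on with
  | H s =>
    rw [MulAut.mul_apply, MulAut.mul_apply, phiS_mk, iota0_mk, iota0_mk, phiS_mk]
    congr 1
    apply Subtype.ext
    rw [mapSL_val, Matrix.SpecialLinearGroup.coe_transpose,
      Matrix.SpecialLinearGroup.coe_transpose, ← map_inv, mapSL_val]
    rfl

theorem conj_mk_eq (s : SpecialLinearGroup (Fin n) F) :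
    (MulAut.conj (QuotientGroup.mk s : ProjectiveSpecialLinearGroup (Fin n) F)) =
      PhiL (Matrix.SpecialLinearGroup.toGL s) := by
  ext x
  induction x using QuotientGroup.induction_on with
  | H t =>
    rw [MulAut.conj_apply, PhiL_mk, ← QuotientGroup.mk_inv, ← QuotientGroup.mk_mul,
      ← QuotientGroup.mk_mul]
    congr 1

/-- powers of the graph automorphism -/
noncomputable def ip (ε : ZMod 2) : MulAut (ProjectiveSpecialLinearGroup (Fin n) F) :=
  if ε = 0 then 1 else iota0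

theorem ip_zero : (ip 0 : MulAut (ProjectiveSpecialLinearGroup (Fin n) F)) = 1 := by
  unfold ip
  rw [if_pos rfl]

theorem ip_one : (ip 1 : MulAut (ProjectiveSpecialLinearGroup (Fin n) F)) = iota0 := by
  unfold ip
  rw [if_neg (by decide)]

theorem zmod2_cases : ∀ ε : ZMod 2, ε = 0 ∨ ε = 1 := by decide

theorem ip_add (ε ε' : ZMod 2) :
    (ip (ε + ε') : MulAut (ProjectiveSpecialLinearGroup (Fin n) F)) = ip ε * ip ε' := by
  rcases zmod2_cases ε with rfl | rfl <;> rcases zmod2_cases ε' with rfl | rfl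
  · rw [add_zero, ip_zero, one_mul]
  · rw [zero_add, ip_zero, one_mul]
  · rw [add_zero, ip_zero, mul_one]
  · have : (1 : ZMod 2) + 1 = 0 := by decide
    rw [this, ip_zero, ip_one, iota0_mul_self]

theorem ip_phiS (ε : ZMod 2) (σ : F ≃+* F) :
    (ip ε * phiS σ : MulAut (ProjectiveSpecialLinearGroup (Fin n) F)) = phiS σ * ip ε := by
  rcases zmod2_cases ε with rfl | rfl
  · rw [ip_zero, one_mul, mul_one]
  · rw [ip_one, iota0_phiS]

theorem ip_PhiL (ε : ZMod 2) (g : GL (Fin n) F) :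
    ∃ h : GL (Fin n) F, ip ε * PhiL g = PhiL h * ip ε := by
  rcases zmod2_cases ε with rfl | rfl
  · exact ⟨g, by rw [ip_zero, one_mul, mul_one]⟩
  · exact ⟨gInvT g, by rw [ip_one]; exact invT_comm iota0 iota0_isInvT g⟩

theorem normal_form_mul (g g' : GL (Fin n) F) (σ σ' : F ≃+* F) (ε ε' : ZMod 2) :
    ∃ g'' : GL (Fin n) F, (PhiL g * phiS σ * ip ε) * (PhiL g' * phiS σ' * ip ε') =
      PhiL g'' * phiS (σ * σ') * ip (ε + ε') := by
  obtain ⟨h, hh⟩ := ip_PhiL ε g'
  refine ⟨g * Matrix.GeneralLinearGroup.map (σ : F →+* F) h, ?_⟩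
  calc (PhiL g * phiS σ * ip ε) * (PhiL g' * phiS σ' * ip ε')
      = PhiL g * phiS σ * (ip ε * PhiL g') * phiS σ' * ip ε' := by group
    _ = PhiL g * phiS σ * (PhiL h * ip ε) * phiS σ' * ip ε' := by rw [hh]
    _ = PhiL g * (phiS σ * PhiL h) * (ip ε * phiS σ') * ip ε' := by group
    _ = PhiL g * (PhiL (Matrix.GeneralLinearGroup.map (σ : F →+* F) h) * phiS σ) *
          (phiS σ' * ip ε) * ip ε' := by rw [phiS_PhiL, ip_phiS]
    _ = PhiL (g * Matrix.GeneralLinearGroup.map (σ : F →+* F) h) * (phiS σ * phiS σ') *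
          (ip ε * ip ε') := by
        rw [map_mul]
        group
    _ = PhiL (g * Matrix.GeneralLinearGroup.map (σ : F →+* F) h) * phiS (σ * σ') *
          ip (ε + ε') := by rw [phiS_mul, ip_add]

end relations

section fieldiso
variable {F : Type*} [Field F] [Fintype F]

theorem ringAut_mulEquiv {p f : ℕ} [hp : Fact p.Prime] (hF : Fintype.card F = p ^ f) :
    Nonempty ((F ≃+* F) ≃* Multiplicative (ZMod f)) := by
  haveI : CharP F p := charP_of_card_eq_prime_pow hF
  letI : Algebra (ZMod p) F := ZMod.algebra F p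
  have e : (F ≃+* F) ≃* (F ≃ₐ[ZMod p] F) :=
    { toFun := fun σ => { σ with
        commutes' := fun r => DFunLike.congr_fun
          (Subsingleton.elim ((σ : F →+* F).comp (algebraMap (ZMod p) F))
            (algebraMap (ZMod p) F)) r }
      invFun := fun e => e.toRingEquiv
      left_inv := fun σ => by ext; rfl
      right_inv := fun e => by ext; rfl
      map_mul' := fun σ τ => by ext; rfl }
  have hcard : Nat.card (F ≃ₐ[ZMod p] F) = f := by
    rw [IsGalois.card_aut_eq_finrank]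
    have h := FiniteField.pow_finrank_eq_card p F
    rw [hF] at h
    exact Nat.pow_right_injective hp.out.two_le h
  have h2 := zmodCyclicMulEquiv (inferInstance : IsCyclic (F ≃ₐ[ZMod p] F))
  rw [hcard] at h2
  exact ⟨e.trans h2.symm⟩

end fieldiso

section out
variable {n : ℕ} {F : Type*} [Field F] [Fintype F]

theorem normal_form_unique {p f : ℕ} [hp : Fact p.Prime] (hF : Fintype.card F = p ^ f)
    (hf : 1 ≤ f) (hn : 3 ≤ n) (g g' : GL (Fin n) F) (σ σ' : F ≃+* F) (ε ε' : ZMod 2)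
    (e : PhiL g * phiS σ * ip ε = PhiL g' * phiS σ' * ip ε') :
    σ = σ' ∧ ε = ε' ∧ PhiL g = PhiL g' := by
  have hn2 : 2 ≤ n := by omega
  rcases zmod2_cases ε with rfl | rfl <;> rcases zmod2_cases ε' with rfl | rfl
  · rw [ip_zero, mul_one, mul_one] at e
    obtain ⟨h1, h2⟩ := decomp_unique hn2 g g' σ σ' e
    exact ⟨h1, rfl, h2⟩
  · exfalso
    rw [ip_zero, mul_one, ip_one] at e
    exact no_graph hF hf hn g g' σ σ' e
  · exfalso
    rw [ip_zero, mul_one, ip_one] at e
    exact no_graph hF hf hn g' g σ' σ e.symm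
  · have e' := mul_right_cancel e
    obtain ⟨h1, h2⟩ := decomp_unique hn2 g g' σ σ' e'
    exact ⟨h1, rfl, h2⟩

theorem psi_ker_iff (hn : 2 ≤ n) (g : GL (Fin n) F) :
    PhiL g ∈ Cfsg.Inn (ProjectiveSpecialLinearGroup (Fin n) F) ↔
      ∃ u : Fˣ, Matrix.GeneralLinearGroup.det g = u ^ n := by
  constructor
  · rintro ⟨k, hk⟩
    induction k using QuotientGroup.induction_on with
    | H s =>
      rw [conj_mk_eq] at hk
      have h1 : PhiL ((Matrix.SpecialLinearGroup.toGL s)⁻¹ * g) = 1 := by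
        rw [map_mul, map_inv, hk, inv_mul_cancel]
      obtain ⟨u, hu⟩ := scalar_of_PhiL_eq_one _ h1
      refine ⟨u, ?_⟩
      have h2 : Matrix.GeneralLinearGroup.det ((Matrix.SpecialLinearGroup.toGL s)⁻¹ * g) =
          Matrix.GeneralLinearGroup.det g := by
        rw [map_mul, map_inv, Matrix.SpecialLinearGroup.coeToGL_det, inv_one, one_mul]
      rw [← h2, ← hu]
      have := Matrix.GeneralLinearGroup.det_scalar (n := Fin n) u
      rw [Fintype.card_fin] at this
      exact this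
  · rintro ⟨u, hu⟩
    obtain ⟨h, hh⟩ : ∃ h : GL (Fin n) F, h = (Matrix.GeneralLinearGroup.scalar (Fin n) u)⁻¹ * g :=
      ⟨_, rfl⟩
    have hdet : Matrix.GeneralLinearGroup.det h = 1 := by
      rw [hh, map_mul, map_inv, Matrix.GeneralLinearGroup.det_scalar, Fintype.card_fin, hu,
        inv_mul_cancel]
    have hdet' : (h : Matrix (Fin n) (Fin n) F).det = 1 := by
      have := congrArg Units.val hdet
      exact this
    have hg : PhiL g = PhiL h := by
      have : g = Matrix.GeneralLinearGroup.scalar (Fin n) u * h := by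
        rw [hh, mul_inv_cancel_left]
      have hsc : Matrix.GeneralLinearGroup.scalar (Fin n) u ∈ Cfsg.Geo.scalars (Fin n) F :=
        ⟨u, rfl⟩
      rw [this, map_mul, PhiL_scalar _ hsc, one_mul]
    obtain ⟨s, hs⟩ : ∃ s : SpecialLinearGroup (Fin n) F,
        Matrix.SpecialLinearGroup.toGL s = h :=
      ⟨⟨(h : Matrix (Fin n) (Fin n) F), hdet'⟩, Units.ext rfl⟩
    rw [hg, ← hs, ← conj_mk_eq]
    exact ⟨_, rfl⟩

theorem out_structure {p f : ℕ} [hp : Fact p.Prime] (hf : 1 ≤ f) (hF : Fintype.card F = p ^ f)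
    (hn : 3 ≤ n) :
    ∃ φ : Cfsg.Out (ProjectiveSpecialLinearGroup (Fin n) F) →* Multiplicative (ZMod f × ZMod 2),
      Function.Surjective φ ∧ IsCyclic φ.ker ∧ Nat.card φ.ker = Nat.gcd n (p ^ f - 1) := by
  classical
  have hn2 : 2 ≤ n := by omega
  have hdec : ∀ β : MulAut (ProjectiveSpecialLinearGroup (Fin n) F),
      ∃ (g : GL (Fin n) F) (σ : F ≃+* F) (ε : ZMod 2), β = PhiL g * phiS σ * ip ε := by
    intro β
    obtain ⟨g, σ, h | h⟩ := aut_decomp_ge3 hF hf hn β
    · exact ⟨g, σ, 0, by rw [ip_zero, mul_one]; exact h⟩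
    · exact ⟨g, σ, 1, by rw [ip_one]; exact h⟩
  choose gf σf εf hβ using hdec
  have hval : ∀ (g : GL (Fin n) F) (σ : F ≃+* F) (ε : ZMod 2),
      σf (PhiL g * phiS σ * ip ε) = σ ∧ εf (PhiL g * phiS σ * ip ε) = ε := by
    intro g σ ε
    obtain ⟨h1, h2, -⟩ := normal_form_unique hF hf hn _ _ _ _ _ _ (hβ (PhiL g * phiS σ * ip ε))
    exact ⟨h1.symm, h2.symm⟩
  obtain ⟨Φ₀, hΦ₀⟩ : ∃ Φ₀ : MulAut (ProjectiveSpecialLinearGroup (Fin n) F) →*
      (F ≃+* F) × Multiplicative (ZMod 2),
      ∀ β, Φ₀ β = (σf β, Multiplicative.ofAdd (εf β)) := by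
    refine ⟨{ toFun := fun β => (σf β, Multiplicative.ofAdd (εf β))
              map_one' := ?_
              map_mul' := ?_ }, fun β => rfl⟩
    · have h1 : (1 : MulAut (ProjectiveSpecialLinearGroup (Fin n) F)) =
          PhiL 1 * phiS 1 * ip 0 := by
        rw [map_one, phiS_one, ip_zero, mul_one, mul_one]
      obtain ⟨e1, e2⟩ := hval 1 1 0
      rw [← h1] at e1 e2
      show (σf 1, Multiplicative.ofAdd (εf 1)) = 1
      rw [e1, e2]
      rfl
    · intro a b
      obtain ⟨g'', hg''⟩ := normal_form_mul (gf a) (gf b) (σf a) (σf b) (εf a) (εf b)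
      rw [← hβ a, ← hβ b] at hg''
      obtain ⟨e1, e2⟩ := hval g'' (σf a * σf b) (εf a + εf b)
      rw [← hg''] at e1 e2
      show (σf (a * b), Multiplicative.ofAdd (εf (a * b))) =
        (σf a, Multiplicative.ofAdd (εf a)) * (σf b, Multiplicative.ofAdd (εf b))
      rw [e1, e2]
      rfl
  have hΦ₀surj : Function.Surjective Φ₀ := by
    rintro ⟨σ, m⟩
    refine ⟨PhiL 1 * phiS σ * ip (Multiplicative.toAdd m), ?_⟩
    obtain ⟨e1, e2⟩ := hval 1 σ (Multiplicative.toAdd m)
    rw [hΦ₀, e1, e2]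
    rfl
  have hΦ₀ker : ∀ β, Φ₀ β = 1 ↔ β ∈ (PhiL (n := n) (F := F)).range := by
    intro β
    constructor
    · intro h
      rw [hΦ₀] at h
      have h1 : σf β = 1 := congrArg Prod.fst h
      have h2 : εf β = 0 := by
        have := congrArg Prod.snd h
        exact this
      refine ⟨gf β, ?_⟩
      have := hβ β
      rw [h1, h2, phiS_one, ip_zero, mul_one, mul_one] at this
      exact this.symm
    · rintro ⟨g, rfl⟩
      have h1 : PhiL g = PhiL g * phiS 1 * ip 0 := by
        rw [phiS_one, ip_zero, mul_one, mul_one]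
      obtain ⟨e1, e2⟩ := hval g 1 0
      rw [← h1] at e1 e2
      rw [hΦ₀, e1, e2]
      rfl
  obtain ⟨e₁⟩ := ringAut_mulEquiv (F := F) hF
  obtain ⟨e, -⟩ : ∃ e : (F ≃+* F) × Multiplicative (ZMod 2) ≃* Multiplicative (ZMod f × ZMod 2),
      True :=
    ⟨(MulEquiv.prodCongr e₁ (MulEquiv.refl _)).trans
      (MulEquiv.prodMultiplicative (G := ZMod f) (H := ZMod 2)).symm, trivial⟩
  obtain ⟨Φ, hΦ⟩ : ∃ Φ : MulAut (ProjectiveSpecialLinearGroup (Fin n) F) →*
      Multiplicative (ZMod f × ZMod 2), ∀ β, Φ β = e (Φ₀ β) :=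
    ⟨e.toMonoidHom.comp Φ₀, fun β => rfl⟩
  have hΦsurj : Function.Surjective Φ := by
    intro y
    obtain ⟨x, hx⟩ := e.surjective y
    obtain ⟨β, hβ'⟩ := hΦ₀surj x
    exact ⟨β, by rw [hΦ, hβ', hx]⟩
  have hΦker : Φ.ker = (PhiL (n := n) (F := F)).range := by
    ext β
    rw [MonoidHom.mem_ker, hΦ, ← hΦ₀ker]
    exact e.map_eq_one_iff
  have hInn : Cfsg.Inn (ProjectiveSpecialLinearGroup (Fin n) F) ≤ Φ.ker := by
    rw [hΦker]
    rintro _ ⟨k, rfl⟩
    induction k using QuotientGroup.induction_on with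
    | H s =>
      rw [conj_mk_eq]
      exact ⟨_, rfl⟩
  refine ⟨QuotientGroup.lift _ Φ hInn,
    QuotientGroup.lift_surjective_of_surjective _ Φ hΦsurj hInn, ?_⟩
  rw [QuotientGroup.ker_lift, hΦker, MonoidHom.map_range]
  obtain ⟨ψ, hψ⟩ : ∃ ψ : GL (Fin n) F →* Cfsg.Out (ProjectiveSpecialLinearGroup (Fin n) F),
      ψ = (QuotientGroup.mk' (Cfsg.Inn (ProjectiveSpecialLinearGroup (Fin n) F))).comp PhiL :=
    ⟨_, rfl⟩
  rw [← hψ]
  have hψker : ∀ g, g ∈ ψ.ker ↔ ∃ u : Fˣ, Matrix.GeneralLinearGroup.det g = u ^ n := by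
    intro g
    rw [MonoidHom.mem_ker, hψ, MonoidHom.comp_apply, QuotientGroup.mk'_apply,
      QuotientGroup.eq_one_iff]
    exact psi_ker_iff hn2 g
  constructor
  · -- cyclic
    have hle : (Matrix.GeneralLinearGroup.det : GL (Fin n) F →* Fˣ).ker ≤ ψ.rangeRestrict.ker := by
      intro g hg
      rw [MonoidHom.ker_rangeRestrict, hψker]
      refine ⟨1, ?_⟩
      rw [one_pow]
      exact hg
    haveI : IsCyclic (GL (Fin n) F ⧸ (Matrix.GeneralLinearGroup.det : GL (Fin n) F →* Fˣ).ker) :=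
      isCyclic_of_injective (QuotientGroup.kerLift Matrix.GeneralLinearGroup.det)
        (QuotientGroup.kerLift_injective _)
    exact isCyclic_of_surjective (QuotientGroup.lift _ ψ.rangeRestrict hle)
      (QuotientGroup.lift_surjective_of_surjective _ ψ.rangeRestrict
        ψ.rangeRestrict_surjective hle)
  · -- cardinality
    haveI : Nonempty (Fin n) := ⟨⟨0, by omega⟩⟩
    have hker : ψ.ker = ((powMonoidHom n : Fˣ →* Fˣ).range).comap
        (Matrix.GeneralLinearGroup.det : GL (Fin n) F →* Fˣ) := by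
      ext g
      rw [hψker, Subgroup.mem_comap, MonoidHom.mem_range]
      constructor
      · rintro ⟨u, hu⟩
        exact ⟨u, by rw [powMonoidHom_apply, hu]⟩
      · rintro ⟨u, hu⟩
        exact ⟨u, by rw [← hu, powMonoidHom_apply]⟩
    rw [← Subgroup.index_ker, hker,
      Subgroup.index_comap_of_surjective _ Matrix.GeneralLinearGroup.det_surjective,
      IsCyclic.index_powMonoidHom_range, Nat.card_eq_fintype_card, Fintype.card_units, hF,
      Nat.gcd_comm]

end out

end Cfsg.Agent.helper14
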