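import Mathlib
import Cfsg.Agent.Lib_helper14_H90
import Cfsg.Agent.Lib_helper14_AutPslM

/-! Elements of the coset `Inndiag · φ_σ` of the same order as the field automorphism `φ_σ`
are conjugate to it under `Inndiag`. -/

set_option autoImplicit false

namespace Cfsg.Agent.helper14

open Matrix

section norm
variable {F : Type*} [Field F] [Fintype F]

theorem exists_norm (σ : F ≃+* F) (c : Fˣ) (hc : σ (c : F) = c) :
    ∃ e : Fˣ, ∏ i ∈ Finset.range (orderOf σ), (σ ^ i : F ≃+* F) (e : F) = c := by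
  classical
  have : Finite (RingAut F) :=
    Finite.of_injective (fun e : F ≃+* F => (e : F → F)) DFunLike.coe_injective
  have : Fintype (Subgroup.zpowers (σ : RingAut F)) := Fintype.ofFinite _
  have hcK : (c : F) ∈ FixedPoints.subfield (Subgroup.zpowers (σ : RingAut F)) F := by
    change (c : F) ∈ MulAction.fixedPoints (Subgroup.zpowers (σ : RingAut F)) F
    rw [MulAction.mem_fixedPoints]
    intro m
    have hle : Subgroup.zpowers (σ : RingAut F) ≤ MulAction.stabilizer (RingAut F) (c : F) := by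
      rw [Subgroup.zpowers_le, MulAction.mem_stabilizer_iff]
      exact hc
    have := hle m.2
    rw [MulAction.mem_stabilizer_iff] at this
    exact this
  have hc0 : (⟨(c : F), hcK⟩ : FixedPoints.subfield (Subgroup.zpowers (σ : RingAut F)) F) ≠ 0 := by
    intro h
    have := congrArg Subtype.val h
    exact c.ne_zero this
  obtain ⟨e, he⟩ := FiniteField.unitsMap_norm_surjective
    (FixedPoints.subfield (Subgroup.zpowers (σ : RingAut F)) F) F (Units.mk0 _ hc0)
  refine ⟨e, ?_⟩
  have h1 : Algebra.norm (FixedPoints.subfield (Subgroup.zpowers (σ : RingAut F)) F) (e : F) =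
      ⟨(c : F), hcK⟩ := congrArg Units.val he
  have h2 := Algebra.norm_eq_prod_automorphisms
    (FixedPoints.subfield (Subgroup.zpowers (σ : RingAut F)) F) (e : F)
  rw [h1] at h2
  have h3 : (c : F) = ∏ τ : F ≃ₐ[FixedPoints.subfield (Subgroup.zpowers (σ : RingAut F)) F] F,
      τ (e : F) := h2
  rw [h3, ← Equiv.prod_comp
    (FixedPoints.toAlgAutMulEquiv (Subgroup.zpowers (σ : RingAut F)) F).toEquiv,
    ← Equiv.prod_comp (finEquivZPowers (isOfFinOrder_of_finite (σ : RingAut F))),
    Finset.prod_range]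
  rfl

end norm

section scalars
variable {n : ℕ} {F : Type*} [Field F]

/-- the twisted partial norms of a scalar -/
def Nk (σ : F ≃+* F) (e : Fˣ) : ℕ → Fˣ
  | 0 => 1
  | k + 1 => e * Units.map ((σ : F →+* F) : F →* F) (Nk σ e k)

theorem Nk_val (σ : F ≃+* F) (e : Fˣ) (k : ℕ) :
    ((Nk σ e k : Fˣ) : F) = ∏ i ∈ Finset.range k, (σ ^ i : F ≃+* F) (e : F) := by
  induction k with
  | zero => rfl
  | succ k ih =>
    rw [Finset.prod_range_succ']
    show (e : F) * σ ((Nk σ e k : Fˣ) : F) = _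
    rw [ih, map_prod, pow_zero, mul_comm]
    congr 1
    apply Finset.prod_congr rfl
    intro x _
    rw [pow_succ']
    rfl

theorem Pk_scalar (σ : F ≃+* F) (e : Fˣ) (d : GL (Fin n) F) (k : ℕ) :
    Pk σ (Matrix.GeneralLinearGroup.scalar (Fin n) e * d) k =
      Matrix.GeneralLinearGroup.scalar (Fin n) (Nk σ e k) * Pk σ d k := by
  induction k with
  | zero =>
    rw [Pk_zero, Pk_zero]
    show (1 : GL (Fin n) F) = Matrix.GeneralLinearGroup.scalar (Fin n) 1 * 1
    rw [map_one, one_mul]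
  | succ k ih =>
    rw [Pk_succ, Pk_succ, ih, map_mul, Matrix.GeneralLinearGroup.map_scalar]
    show _ = Matrix.GeneralLinearGroup.scalar (Fin n)
      (e * Units.map ((σ : F →+* F) : F →* F) (Nk σ e k)) * _
    rw [map_mul]
    have hc := Matrix.GeneralLinearGroup.scalar_commute
      (Units.map ((σ : F →+* F) : F →* F) (Nk σ e k)) d
    calc Matrix.GeneralLinearGroup.scalar (Fin n) e * d *
          (Matrix.GeneralLinearGroup.scalar (Fin n)
            (Units.map ((σ : F →+* F) : F →* F) (Nk σ e k)) *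
            Matrix.GeneralLinearGroup.map (σ : F →+* F) (Pk σ d k))
        = Matrix.GeneralLinearGroup.scalar (Fin n) e *
          (d * Matrix.GeneralLinearGroup.scalar (Fin n)
            (Units.map ((σ : F →+* F) : F →* F) (Nk σ e k))) *
            Matrix.GeneralLinearGroup.map (σ : F →+* F) (Pk σ d k) := by group
      _ = _ := by
        rw [← hc]
        group

/-- the conjugates `σ^k(d)` -/
def Qk (σ : F ≃+* F) (d : GL (Fin n) F) : ℕ → GL (Fin n) F
  | 0 => d
  | k + 1 => Matrix.GeneralLinearGroup.map (σ : F →+* F) (Qk σ d k)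

theorem Qk_entry (σ : F ≃+* F) (d : GL (Fin n) F) (k : ℕ) (i j : Fin n) :
    ((Qk σ d k : GL (Fin n) F) : Matrix (Fin n) (Fin n) F) i j =
      (σ ^ k : F ≃+* F) ((d : Matrix (Fin n) (Fin n) F) i j) := by
  induction k with
  | zero => rfl
  | succ k ih =>
    show σ (((Qk σ d k : GL (Fin n) F) : Matrix (Fin n) (Fin n) F) i j) = _
    rw [ih, pow_succ']
    rfl

theorem Pk_succ' (σ : F ≃+* F) (d : GL (Fin n) F) (k : ℕ) :
    Pk σ d (k + 1) = Pk σ d k * Qk σ d k := by
  induction k with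
  | zero =>
    rw [Pk_succ, Pk_zero, map_one, mul_one, one_mul]
    rfl
  | succ k ih =>
    rw [Pk_succ, ih, map_mul, ← mul_assoc, ← Pk_succ, ih]
    rfl

theorem scalar_fixed (hn : 1 ≤ n) (σ : F ≃+* F) (d : GL (Fin n) F) (r : ℕ) (hσ : σ ^ r = 1)
    (c : Fˣ) (hP : Pk σ d r = Matrix.GeneralLinearGroup.scalar (Fin n) c) : σ (c : F) = c := by
  have hQ : Qk σ d r = d := by
    apply Units.ext
    ext i j
    rw [Qk_entry, hσ]
    rfl
  have h1 : d * Matrix.GeneralLinearGroup.map (σ : F →+* F) (Pk σ d r) = Pk σ d r * d := by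
    rw [← Pk_succ, Pk_succ', hQ]
  rw [hP, Matrix.GeneralLinearGroup.map_scalar, ← Matrix.GeneralLinearGroup.scalar_commute] at h1
  have h2 := mul_right_cancel h1
  have h3 := congrArg (fun g : GL (Fin n) F => (g : Matrix (Fin n) (Fin n) F) ⟨0, by omega⟩
    ⟨0, by omega⟩) h2
  simp only [Matrix.GeneralLinearGroup.coe_scalar, Matrix.scalar_apply,
    Matrix.diagonal_apply_eq] at h3
  exact h3

end scalars

section conj
variable {n : ℕ} {F : Type*} [Field F]

/-- the standard field automorphisms as a homomorphism -/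
noncomputable def phiSHom : (F ≃+* F) →* MulAut (ProjectiveSpecialLinearGroup (Fin n) F) where
  toFun := phiS
  map_one' := phiS_one
  map_mul' σ τ := (phiS_mul σ τ).symm

theorem phiSHom_apply (σ : F ≃+* F) :
    (phiSHom σ : MulAut (ProjectiveSpecialLinearGroup (Fin n) F)) = phiS σ := rfl

theorem phiSHom_injective (hn : 2 ≤ n) :
    Function.Injective (phiSHom : (F ≃+* F) →* MulAut (ProjectiveSpecialLinearGroup (Fin n) F)) := by
  intro σ σ' h
  apply field_unique hn 1 σ σ'
  rw [map_one, one_mul]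
  exact h

theorem orderOf_phiS (hn : 2 ≤ n) (σ : F ≃+* F) :
    orderOf (phiS σ : MulAut (ProjectiveSpecialLinearGroup (Fin n) F)) = orderOf σ :=
  orderOf_injective phiSHom (phiSHom_injective hn) σ

theorem pow_PhiL_phiS (σ : F ≃+* F) (d : GL (Fin n) F) (k : ℕ) :
    (PhiL d * phiS σ) ^ k = PhiL (Pk σ d k) * phiS (σ ^ k) := by
  induction k with
  | zero => rw [pow_zero, Pk_zero, map_one, pow_zero, phiS_one, mul_one]
  | succ k ih =>
    rw [pow_succ', ih, Pk_succ, map_mul, pow_succ', ← phiS_mul]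
    calc PhiL d * phiS σ * (PhiL (Pk σ d k) * phiS (σ ^ k))
        = PhiL d * (phiS σ * PhiL (Pk σ d k)) * phiS (σ ^ k) := by group
      _ = _ := by
        rw [phiS_PhiL]
        group

theorem conj_PhiL_phiS (σ : F ≃+* F) (h : GL (Fin n) F) :
    PhiL h * phiS σ * (PhiL h)⁻¹ =
      PhiL (h * (Matrix.GeneralLinearGroup.map (σ : F →+* F) h)⁻¹) * phiS σ := by
  rw [← map_inv, mul_assoc, phiS_PhiL, map_inv, map_mul, map_inv]
  group

end conj

section main
variable {n : ℕ} {F : Type*} [Field F] [Fintype F]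

theorem field_conj (hn : 2 ≤ n) (σ : F ≃+* F) (d : GL (Fin n) F)
    (h2 : orderOf (PhiL d * phiS σ) = orderOf σ) :
    ∃ h : GL (Fin n) F, PhiL d * phiS σ = PhiL h * phiS σ * (PhiL h)⁻¹ := by
  have hr : 0 < orderOf σ := by
    have : Finite (F ≃+* F) :=
      Finite.of_injective (fun e : F ≃+* F => (e : F → F)) DFunLike.coe_injective
    exact orderOf_pos σ
  have hσ : σ ^ orderOf σ = 1 := pow_orderOf_eq_one σ
  have h3 : (PhiL d * phiS σ) ^ orderOf σ = 1 := by
    rw [← h2]
    exact pow_orderOf_eq_one _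
  rw [pow_PhiL_phiS, hσ, phiS_one, mul_one] at h3
  obtain ⟨c, hc⟩ := scalar_of_PhiL_eq_one _ h3
  have hc' : Pk σ d (orderOf σ) = Matrix.GeneralLinearGroup.scalar (Fin n) c := hc.symm
  have hfix := scalar_fixed (by omega) σ d (orderOf σ) hσ c hc'
  obtain ⟨e, he⟩ := exists_norm σ c hfix
  have hNe : Nk σ e (orderOf σ) = c := by
    apply Units.ext
    rw [Nk_val, he]
  obtain ⟨d', hd'⟩ : ∃ d' : GL (Fin n) F,
      d' = Matrix.GeneralLinearGroup.scalar (Fin n) e⁻¹ * d := ⟨_, rfl⟩
  have hd : d = Matrix.GeneralLinearGroup.scalar (Fin n) e * d' := by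
    rw [hd', ← mul_assoc, ← map_mul, mul_inv_cancel, map_one, one_mul]
  have hP' : Pk σ d' (orderOf σ) = 1 := by
    have h4 := Pk_scalar σ e d' (orderOf σ)
    rw [← hd, hc', hNe] at h4
    have h5 : Matrix.GeneralLinearGroup.scalar (Fin n) c * 1 =
        Matrix.GeneralLinearGroup.scalar (Fin n) c * Pk σ d' (orderOf σ) := by
      rw [mul_one]
      exact h4
    exact (mul_left_cancel h5).symm
  obtain ⟨h, hh⟩ := hilbert90 σ d' hr hP'
  refine ⟨h, ?_⟩
  have hsc : Matrix.GeneralLinearGroup.scalar (Fin n) e ∈ Cfsg.Geo.scalars (Fin n) F := ⟨e, rfl⟩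
  rw [conj_PhiL_phiS, ← hh, hd, map_mul, PhiL_scalar _ hsc, one_mul]

end main

end Cfsg.Agent.helper14
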