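import Cfsg.Statements.S0771
import Mathlib
-- import your own Cfsg.Agent.* helpers here

set_option autoImplicit false
open Cfsg

namespace Cfsg.Agent.S0771

open Matrix

variable {F : Type*} [Field F] [Fintype F]

/-- the standard subspace -/
def Wk (n k : ℕ) : Set (Fin n → F) := {v | ∀ i : Fin n, k ≤ (i : ℕ) → v i = 0}

/-- membership criterion -/
lemma mem_stab_iff (n k : ℕ) (g : GL (Fin n) F) :
    g ∈ Cfsg.stabilizing (Cfsg.glToMat (Fin n) F) (Wk (F := F) n k) ↔
      ∀ i j : Fin n, k ≤ (i : ℕ) → (j : ℕ) < k → (g : Matrix (Fin n) (Fin n) F) i j = 0 := by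
  classical
  constructor
  · intro hg i j hi hj
    have h1 : (Pi.single j 1 : Fin n → F) ∈ Wk (F := F) n k := by
      intro i' hi'
      have : i' ≠ j := by intro h; rw [h] at hi'; omega
      simp [this]
    have h2 := (hg _).mp h1 i hi
    simpa [Cfsg.glToMat] using h2
  · intro h
    have hfwd : ∀ v, v ∈ Wk (F := F) n k → (g : Matrix (Fin n) (Fin n) F) *ᵥ v ∈ Wk (F := F) n k := by
      intro v hv i hi
      simp only [Matrix.mulVec, dotProduct]
      apply Finset.sum_eq_zero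
      intro j _
      by_cases hj : (j : ℕ) < k
      · rw [h i j hi hj, zero_mul]
      · rw [hv j (by omega), mul_zero]
    have hinj : Function.Injective (fun v : Fin n → F => (g : Matrix (Fin n) (Fin n) F) *ᵥ v) := by
      intro v w hvw
      have := congrArg (fun u => ((g⁻¹ : GL (Fin n) F) : Matrix (Fin n) (Fin n) F) *ᵥ u) hvw
      simpa [Matrix.mulVec_mulVec] using this
    intro v
    show v ∈ Wk (F := F) n k ↔ (g : Matrix (Fin n) (Fin n) F) *ᵥ v ∈ Wk (F := F) n k
    constructor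
    · exact hfwd v
    · intro hgv
      let ψ : Wk (F := F) n k → Wk (F := F) n k := fun w => ⟨_, hfwd w.1 w.2⟩
      have hψ : Function.Injective ψ := by
        intro a b hab
        apply Subtype.ext
        apply hinj
        exact congrArg Subtype.val hab
      have hsurj : Function.Surjective ψ := Finite.injective_iff_surjective.mp hψ
      obtain ⟨w, hw⟩ := hsurj ⟨_, hgv⟩
      have : w.1 = v := hinj (congrArg Subtype.val hw)
      rw [← this]; exact w.2



/-- the index splitting -/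
def esplit (n k : ℕ) (hk : k ≤ n) : Fin k ⊕ Fin (n - k) ≃ Fin n :=
  finSumFinEquiv.trans (finCongr (by omega))

lemma esplit_inl (n k : ℕ) (hk : k ≤ n) (i : Fin k) : ((esplit n k hk (Sum.inl i) : Fin n) : ℕ) = i := by
  simp [esplit]

lemma esplit_inr (n k : ℕ) (hk : k ≤ n) (j : Fin (n - k)) :
    ((esplit n k hk (Sum.inr j) : Fin n) : ℕ) = k + j := by
  simp [esplit]

lemma esplit_symm_ge (n k : ℕ) (hk : k ≤ n) (i : Fin n) (hi : k ≤ (i : ℕ)) :
    ∃ j, (esplit n k hk).symm i = Sum.inr j := by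
  rcases h : (esplit n k hk).symm i with a | b
  · exfalso
    have : i = esplit n k hk (Sum.inl a) := by rw [← h]; simp
    have h2 := esplit_inl n k hk a
    rw [← this] at h2
    omega
  · exact ⟨b, rfl⟩

lemma esplit_symm_lt (n k : ℕ) (hk : k ≤ n) (i : Fin n) (hi : (i : ℕ) < k) :
    ∃ j, (esplit n k hk).symm i = Sum.inl j := by
  rcases h : (esplit n k hk).symm i with a | b
  · exact ⟨a, rfl⟩
  · exfalso
    have : i = esplit n k hk (Sum.inr b) := by rw [← h]; simp
    have h2 := esplit_inr n k hk b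
    rw [← this] at h2
    omega

abbrev T (n k : ℕ) (F : Type*) [Field F] :=
  GL (Fin k) F × GL (Fin (n - k)) F × Matrix (Fin k) (Fin (n - k)) F

/-- the block matrix of a triple -/
def blockMat (n k : ℕ) (hk : k ≤ n) (t : T n k F) : Matrix (Fin n) (Fin n) F :=
  Matrix.reindex (esplit n k hk) (esplit n k hk)
    (Matrix.fromBlocks (t.1 : Matrix (Fin k) (Fin k) F) t.2.2 0
      (t.2.1 : Matrix (Fin (n - k)) (Fin (n - k)) F))

lemma blockMat_isUnit (n k : ℕ) (hk : k ≤ n) (t : T n k F) : IsUnit (blockMat n k hk t) := by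
  unfold blockMat
  rw [Matrix.isUnit_iff_isUnit_det, Matrix.det_reindex_self, ← Matrix.isUnit_iff_isUnit_det,
    Matrix.isUnit_fromBlocks_zero₂₁]
  exact ⟨t.1.isUnit, t.2.1.isUnit⟩

lemma blockMat_zero (n k : ℕ) (hk : k ≤ n) (t : T n k F) (i j : Fin n) (hi : k ≤ (i : ℕ))
    (hj : (j : ℕ) < k) : blockMat n k hk t i j = 0 := by
  obtain ⟨a, ha⟩ := esplit_symm_ge n k hk i hi
  obtain ⟨b, hb⟩ := esplit_symm_lt n k hk j hj
  simp [blockMat, Matrix.reindex_apply, Matrix.submatrix_apply, ha, hb]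

/-- the map from triples to the parabolic -/
noncomputable def ofT (n k : ℕ) (hk : k ≤ n) (t : T n k F) :
    ↥(Cfsg.stabilizing (Cfsg.glToMat (Fin n) F) (Wk (F := F) n k)) :=
  ⟨(blockMat_isUnit n k hk t).unit, by
    rw [mem_stab_iff]
    intro i j hi hj
    exact blockMat_zero n k hk t i j hi hj⟩

lemma ofT_coe (n k : ℕ) (hk : k ≤ n) (t : T n k F) :
    (((ofT n k hk t : ↥(Cfsg.stabilizing (Cfsg.glToMat (Fin n) F) (Wk (F := F) n k))) :
      GL (Fin n) F) : Matrix (Fin n) (Fin n) F) = blockMat n k hk t := rfl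

lemma ofT_injective (n k : ℕ) (hk : k ≤ n) : Function.Injective (ofT (F := F) n k hk) := by
  intro t t' h
  have h1 : blockMat n k hk t = blockMat n k hk t' := by
    rw [← ofT_coe, ← ofT_coe, h]
  unfold blockMat at h1
  have h2 := (Matrix.reindex (esplit n k hk) (esplit n k hk)).injective h1
  rw [Matrix.fromBlocks_inj] at h2
  obtain ⟨hA, hB, -, hD⟩ := h2
  exact Prod.ext (Units.ext hA) (Prod.ext (Units.ext hD) hB)

lemma ofT_surjective (n k : ℕ) (hk : k ≤ n) : Function.Surjective (ofT (F := F) n k hk) := by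
  rintro ⟨g, hg⟩
  rw [mem_stab_iff] at hg
  set M' : Matrix (Fin k ⊕ Fin (n - k)) (Fin k ⊕ Fin (n - k)) F :=
    Matrix.reindex (esplit n k hk).symm (esplit n k hk).symm (g : Matrix (Fin n) (Fin n) F) with hM'
  have hC : M'.toBlocks₂₁ = 0 := by
    ext j i
    simp only [Matrix.toBlocks₂₁, Matrix.of_apply, hM', Matrix.reindex_apply, Equiv.symm_symm,
      Matrix.submatrix_apply, Matrix.zero_apply]
    apply hg
    · rw [esplit_inr]; omega
    · rw [esplit_inl]; exact i.2
  have hM'eq : M' = Matrix.fromBlocks M'.toBlocks₁₁ M'.toBlocks₁₂ 0 M'.toBlocks₂₂ := by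
    rw [← hC, Matrix.fromBlocks_toBlocks]
  have hM'u : IsUnit M' := by
    rw [hM', Matrix.isUnit_iff_isUnit_det, Matrix.det_reindex_self, ← Matrix.isUnit_iff_isUnit_det]
    exact g.isUnit
  rw [hM'eq, Matrix.isUnit_fromBlocks_zero₂₁] at hM'u
  refine ⟨(hM'u.1.unit, hM'u.2.unit, M'.toBlocks₁₂), ?_⟩
  apply Subtype.ext
  apply Units.ext
  show blockMat n k hk _ = (g : Matrix (Fin n) (Fin n) F)
  unfold blockMat
  simp only [IsUnit.unit_spec]
  rw [← hM'eq, hM']
  ext i j
  simp [Matrix.reindex_apply, Matrix.submatrix_apply]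



theorem main71 {q : ℕ} (hF : Fintype.card F = q) (n k : ℕ) (hk : k ≤ n) :
    Nat.card ↥(Cfsg.stabilizing (Cfsg.glToMat (Fin n) F)
      {v : Fin n → F | ∀ i : Fin n, k ≤ (i : ℕ) → v i = 0}) =
    q ^ (k * (n - k)) * (∏ i : Fin k, (q ^ k - q ^ (i : ℕ))) *
      ∏ i : Fin (n - k), (q ^ (n - k) - q ^ (i : ℕ)) := by
  have e := Equiv.ofBijective (ofT (F := F) n k hk) ⟨ofT_injective n k hk, ofT_surjective n k hk⟩
  have h1 : Nat.card ↥(Cfsg.stabilizing (Cfsg.glToMat (Fin n) F) (Wk (F := F) n k)) =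
      Nat.card (T n k F) := (Nat.card_congr e).symm
  show Nat.card ↥(Cfsg.stabilizing (Cfsg.glToMat (Fin n) F) (Wk (F := F) n k)) = _
  rw [h1, Nat.card_prod, Nat.card_prod, Matrix.card_GL_field, Matrix.card_GL_field, hF]
  have h2 : Nat.card (Matrix (Fin k) (Fin (n - k)) F) = q ^ (k * (n - k)) := by
    show Nat.card (Fin k → Fin (n - k) → F) = _
    rw [Nat.card_fun, Nat.card_fun, Nat.card_eq_fintype_card, Nat.card_eq_fintype_card,
      Nat.card_eq_fintype_card, hF, Fintype.card_fin, Fintype.card_fin, ← pow_mul, mul_comm]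
  rw [h2]
  ring

/-- Maximal parabolic of GL_n(q): the stabiliser of the coordinate subspace spanned by the first k basis vectors has order q^(k(n-k)) · |GL_k(q)| · |GL_(n-k)(q)| (unipotent radical of order q^(k(n-k)) and Levi complement GL_k × GL_(n-k)). -/
theorem result {F : Type*} [Field F] [Fintype F] {q : ℕ} (hF : Fintype.card F = q) (n k : ℕ) (hk : k ≤ n) : Nat.card ↥(Cfsg.stabilizing (Cfsg.glToMat (Fin n) F) {v : Fin n → F | ∀ i : Fin n, k ≤ (i : ℕ) → v i = 0}) = q ^ (k * (n - k)) * (∏ i : Fin k, (q ^ k - q ^ (i : ℕ))) * ∏ i : Fin (n - k), (q ^ (n - k) - q ^ (i : ℕ)) := by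
  exact main71 hF n k hk

end Cfsg.Agent.S0771
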