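import Cfsg.Statements.S0773
import Mathlib
import Cfsg.Agent.S0771
-- import your own Cfsg.Agent.* helpers here

set_option autoImplicit false
open Cfsg

namespace Cfsg.Agent.S0773

open Matrix

variable {F : Type*} [Field F]

lemma mem_stab_iff' [Finite F] (n k : ℕ) (g : GL (Fin n) F) :
    g ∈ Cfsg.stabilizing (Cfsg.glToMat (Fin n) F) (S0771.Wk (F := F) n k) ↔
      ∀ i j : Fin n, k ≤ (i : ℕ) → (j : ℕ) < k → (g : Matrix (Fin n) (Fin n) F) i j = 0 := by
  classical
  let _ := Fintype.ofFinite F
  exact S0771.mem_stab_iff n k g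

/-- anti-transpose -/
def tau {n : ℕ} (X : Matrix (Fin n) (Fin n) F) : Matrix (Fin n) (Fin n) F :=
  Xᵀ.submatrix (Fin.revPerm : Fin n → Fin n) (Fin.revPerm : Fin n → Fin n)

omit [Field F] in
lemma tau_apply {n : ℕ} (X : Matrix (Fin n) (Fin n) F) (i j : Fin n) :
    tau X i j = X (Fin.rev j) (Fin.rev i) := by
  simp [tau]

lemma tau_mul {n : ℕ} (X Y : Matrix (Fin n) (Fin n) F) : tau (X * Y) = tau Y * tau X := by
  unfold tau
  rw [Matrix.transpose_mul]
  exact (Matrix.submatrix_mul_equiv _ _ _ (Fin.revPerm : Fin n ≃ Fin n) _).symm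

lemma tau_one {n : ℕ} : tau (1 : Matrix (Fin n) (Fin n) F) = 1 := by
  unfold tau
  rw [Matrix.transpose_one]
  exact Matrix.submatrix_one_equiv (Fin.revPerm : Fin n ≃ Fin n)

lemma tau_tau {n : ℕ} (X : Matrix (Fin n) (Fin n) F) : tau (tau X) = X := by
  ext i j
  simp [tau_apply]

/-- the inverse-anti-transpose automorphism, as a hom -/
def theta (n : ℕ) : GL (Fin n) F →* GL (Fin n) F where
  toFun g := ⟨tau ((g⁻¹ : GL (Fin n) F) : Matrix (Fin n) (Fin n) F),
    tau (g : Matrix (Fin n) (Fin n) F),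
    by rw [← tau_mul, ← Units.val_mul, mul_inv_cancel]; exact tau_one,
    by rw [← tau_mul, ← Units.val_mul, inv_mul_cancel]; exact tau_one⟩
  map_one' := by
    apply Units.ext
    show tau _ = _
    rw [inv_one]
    exact tau_one
  map_mul' g h := by
    apply Units.ext
    show tau _ = tau _ * tau _
    rw [_root_.mul_inv_rev, Units.val_mul, tau_mul]

lemma theta_theta (n : ℕ) (g : GL (Fin n) F) : theta n (theta n g) = g := by
  apply Units.ext
  show tau (tau (g : Matrix (Fin n) (Fin n) F)) = _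
  exact tau_tau _

lemma theta_injective (n : ℕ) : Function.Injective (theta (F := F) n) := by
  intro g h e
  rw [← theta_theta n g, e, theta_theta]

lemma theta_mem [Finite F] (n k : ℕ) (hkn : k ≤ n) (g : GL (Fin n) F)
    (hg : g ∈ Cfsg.stabilizing (Cfsg.glToMat (Fin n) F) (S0771.Wk (F := F) n k)) :
    theta n g ∈ Cfsg.stabilizing (Cfsg.glToMat (Fin n) F) (S0771.Wk (F := F) n (n - k)) := by
  rw [mem_stab_iff']
  intro i j hi hj
  show tau ((g⁻¹ : GL (Fin n) F) : Matrix (Fin n) (Fin n) F) i j = 0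
  rw [tau_apply]
  have hg' := (mem_stab_iff' n k g⁻¹).mp (inv_mem hg)
  apply hg'
  · rw [Fin.val_rev]; omega
  · rw [Fin.val_rev]; have := i.2; omega

lemma map_theta [Finite F] (n k : ℕ) (hkn : k ≤ n) :
    (Cfsg.stabilizing (Cfsg.glToMat (Fin n) F) (S0771.Wk (F := F) n k)).map (theta n) =
      Cfsg.stabilizing (Cfsg.glToMat (Fin n) F) (S0771.Wk (F := F) n (n - k)) := by
  apply le_antisymm
  · rintro _ ⟨g, hg, rfl⟩
    exact theta_mem n k hkn g hg
  · intro p hp
    refine ⟨theta n p, ?_, theta_theta n p⟩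
    have := theta_mem n (n - k) (Nat.sub_le n k) p hp
    rwa [Nat.sub_sub_self hkn] at this

/-- elementary transvection in GL -/
def tv {n : ℕ} (i j : Fin n) (hij : i ≠ j) : GL (Fin n) F :=
  ⟨Matrix.transvection i j 1, Matrix.transvection i j (-1),
   by rw [Matrix.transvection_mul_transvection_same _ _ hij]; simp,
   by rw [Matrix.transvection_mul_transvection_same _ _ hij]; simp⟩

lemma tv_mem [Finite F] (n w : ℕ) (i j : Fin n) (hij : i ≠ j) (h : ¬ (w ≤ (i : ℕ) ∧ (j : ℕ) < w)) :
    tv i j hij ∈ Cfsg.stabilizing (Cfsg.glToMat (Fin n) F) (S0771.Wk (F := F) n w) := by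
  rw [mem_stab_iff']
  intro a b ha hb
  show Matrix.transvection i j (1 : F) a b = 0
  have hab : a ≠ b := by intro e; rw [e] at ha; omega
  have h' : ¬ (i = a ∧ j = b) := by rintro ⟨rfl, rfl⟩; exact h ⟨ha, hb⟩
  simp [Matrix.transvection, Matrix.one_apply_ne hab, h']

lemma tv_mulVec {n : ℕ} (i j : Fin n) (hij : i ≠ j) (u : Fin n → F) :
    ((tv i j hij : GL (Fin n) F) : Matrix (Fin n) (Fin n) F) *ᵥ u =
      u + u j • (Pi.single i 1 : Fin n → F) := by
  show Matrix.transvection i j (1 : F) *ᵥ u = _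
  rw [Matrix.transvection, Matrix.add_mulVec, Matrix.one_mulVec, Matrix.single_mulVec_eq, one_mul]

lemma mem_of_support {n : ℕ} (U : Submodule F (Fin n → F)) (v : Fin n → F)
    (h : ∀ i, v i ≠ 0 → (Pi.single i 1 : Fin n → F) ∈ U) : v ∈ U := by
  rw [pi_eq_sum_univ' v]
  apply Submodule.sum_mem
  intro i _
  by_cases hi : v i = 0
  · rw [hi, zero_smul]; exact U.zero_mem
  · exact U.smul_mem _ (h i hi)

lemma invariant_cases [Finite F] (n w : ℕ) (U : Submodule F (Fin n → F))
    (hU : ∀ p ∈ Cfsg.stabilizing (Cfsg.glToMat (Fin n) F) (S0771.Wk (F := F) n w), ∀ u ∈ U,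
      (p : Matrix (Fin n) (Fin n) F) *ᵥ u ∈ U) :
    (U : Set (Fin n → F)) = S0771.Wk n 0 ∨ (U : Set (Fin n → F)) = S0771.Wk n w ∨
      (U : Set (Fin n → F)) = S0771.Wk n n := by
  classical
  have step : ∀ u ∈ U, ∀ i j : Fin n, u j ≠ 0 → i ≠ j → ¬ (w ≤ (i : ℕ) ∧ (j : ℕ) < w) →
      (Pi.single i 1 : Fin n → F) ∈ U := by
    intro u hu i j huj hij hallow
    have h1 := hU _ (tv_mem n w i j hij hallow) u hu
    rw [tv_mulVec] at h1
    have h2 : u j • (Pi.single i 1 : Fin n → F) ∈ U := by
      have := U.sub_mem h1 hu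
      simpa using this
    have := U.smul_mem (u j)⁻¹ h2
    rwa [smul_smul, inv_mul_cancel₀ huj, one_smul] at this
  have step2 : ∀ u ∈ U, ∀ j : Fin n, u j ≠ 0 →
      (∀ i, i ≠ j → u i ≠ 0 → (Pi.single i 1 : Fin n → F) ∈ U) →
      (Pi.single j 1 : Fin n → F) ∈ U := by
    intro u hu j huj h
    have hv : u - u j • (Pi.single j 1 : Fin n → F) ∈ U := by
      apply mem_of_support
      intro i hi
      have hij : i ≠ j := by
        rintro rfl
        apply hi
        simp
      apply h i hij
      intro h0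
      apply hi
      simp [h0, hij]
    have h2 : u j • (Pi.single j 1 : Fin n → F) ∈ U := by
      have := U.sub_mem hu hv
      simpa using this
    have := U.smul_mem (u j)⁻¹ h2
    rwa [smul_smul, inv_mul_cancel₀ huj, one_smul] at this
  by_cases hA : ∃ u ∈ U, ∃ j : Fin n, w ≤ (j : ℕ) ∧ u j ≠ 0
  · right; right
    obtain ⟨u, hu, j, hj, huj⟩ := hA
    have h1 : ∀ i, i ≠ j → (Pi.single i 1 : Fin n → F) ∈ U :=
      fun i hij => step u hu i j huj hij (by omega)
    have h2 : (Pi.single j 1 : Fin n → F) ∈ U := step2 u hu j huj (fun i hij _ => h1 i hij)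
    ext v
    constructor
    · intro _ i hi
      have := i.2
      omega
    · intro _
      apply mem_of_support
      intro i _
      by_cases hij : i = j
      · rw [hij]; exact h2
      · exact h1 i hij
  · push Not at hA
    by_cases hB : U = ⊥
    · left
      ext v
      rw [hB]
      constructor
      · intro hv i _
        have : v = 0 := hv
        rw [this]; rfl
      · intro hv
        show v = 0
        funext i
        exact hv i (Nat.zero_le _)
    · right; left
      obtain ⟨u, hu, hu0⟩ := Submodule.exists_mem_ne_zero_of_ne_bot hB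
      obtain ⟨j, huj⟩ : ∃ j, u j ≠ 0 := by
        by_contra h
        push Not at h
        exact hu0 (funext h)
      have hjw : (j : ℕ) < w := by
        by_contra h
        exact huj (hA u hu j (not_lt.mp h))
      have h1 : ∀ i : Fin n, (i : ℕ) < w → i ≠ j → (Pi.single i 1 : Fin n → F) ∈ U :=
        fun i hi hij => step u hu i j huj hij (by omega)
      have h2 : (Pi.single j 1 : Fin n → F) ∈ U :=
        step2 u hu j huj (fun i hij hui => h1 i (by
          by_contra h
          exact hui (hA u hu i (not_lt.mp h))) hij)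
      ext v
      constructor
      · intro hv i hi
        exact hA v hv i hi
      · intro hv
        apply mem_of_support
        intro i hi
        have hiw : (i : ℕ) < w := by
          by_contra h
          exact hi (hv i (not_lt.mp h))
        by_cases hij : i = j
        · rw [hij]; exact h2
        · exact h1 i hiw hij

lemma card_Wk [Finite F] (n k : ℕ) (hk : k ≤ n) :
    Nat.card (S0771.Wk (F := F) n k) = Nat.card F ^ k := by
  classical
  have e : (Fin k → F) ≃ S0771.Wk (F := F) n k :=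
    { toFun := fun f => ⟨fun i => if h : (i : ℕ) < k then f ⟨i, h⟩ else 0, by
        intro i hi
        simp [not_lt.mpr hi]⟩
      invFun := fun v a => v.1 (Fin.castLE hk a)
      left_inv := by
        intro f
        funext a
        simp
      right_inv := by
        rintro ⟨v, hv⟩
        apply Subtype.ext
        funext i
        by_cases h : (i : ℕ) < k
        · simp [h]
        · simp [h, hv i (not_lt.mp h)] }
  rw [← Nat.card_congr e, Nat.card_fun, Nat.card_eq_fintype_card (α := Fin k), Fintype.card_fin]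

/-- W_k as a submodule -/
def WkSub (n k : ℕ) : Submodule F (Fin n → F) where
  carrier := S0771.Wk n k
  add_mem' := by
    intro a b ha hb i hi
    simp [ha i hi, hb i hi]
  zero_mem' := by
    intro i _; rfl
  smul_mem' := by
    intro c a ha i hi
    simp [ha i hi]

lemma not_conj [Finite F] (n k : ℕ) (hk0 : 0 < k) (hkn : k < n) (h2 : 2 * k ≠ n)
    (g : GL (Fin n) F)
    (h : (Cfsg.stabilizing (Cfsg.glToMat (Fin n) F) (S0771.Wk (F := F) n k)).map
      (MulAut.conj g).toMonoidHom =
      Cfsg.stabilizing (Cfsg.glToMat (Fin n) F) (S0771.Wk (F := F) n (n - k))) : False := by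
  classical
  let U : Submodule F (Fin n → F) :=
    (WkSub (F := F) n k).map (Matrix.mulVecLin (g : Matrix (Fin n) (Fin n) F))
  have hUset : (U : Set (Fin n → F)) =
      (fun v => (g : Matrix (Fin n) (Fin n) F) *ᵥ v) '' (S0771.Wk (F := F) n k) := by
    ext v
    simp only [U, Submodule.map_coe, Set.mem_image]
    rfl
  have hginj : Function.Injective (fun v : Fin n → F => (g : Matrix (Fin n) (Fin n) F) *ᵥ v) := by
    intro v w hvw
    have := congrArg (fun u => ((g⁻¹ : GL (Fin n) F) : Matrix (Fin n) (Fin n) F) *ᵥ u) hvw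
    simpa [Matrix.mulVec_mulVec] using this
  have hcard : Nat.card (U : Set (Fin n → F)) = Nat.card F ^ k := by
    rw [hUset, Nat.card_image_of_injective hginj, card_Wk n k hkn.le]
  have hU : ∀ p ∈ Cfsg.stabilizing (Cfsg.glToMat (Fin n) F) (S0771.Wk (F := F) n (n - k)),
      ∀ u ∈ U, (p : Matrix (Fin n) (Fin n) F) *ᵥ u ∈ U := by
    intro p hp u hu
    rw [← h] at hp
    obtain ⟨x, hx, rfl⟩ := hp
    have hu' : u ∈ (U : Set (Fin n → F)) := hu
    rw [hUset] at hu'
    obtain ⟨v, hv, rfl⟩ := hu'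
    show _ ∈ (U : Set (Fin n → F))
    rw [hUset]
    refine ⟨(x : Matrix (Fin n) (Fin n) F) *ᵥ v, (hx v).mp hv, ?_⟩
    simp [Matrix.mulVec_mulVec, MulAut.conj_apply, mul_assoc]
  have hq : 2 ≤ Nat.card F := Finite.one_lt_card
  have hinj := Nat.pow_right_injective hq
  rcases invariant_cases n (n - k) U hU with h0 | h0 | h0
  · rw [h0, card_Wk n 0 (Nat.zero_le n)] at hcard
    have := hinj hcard
    omega
  · rw [h0, card_Wk n (n - k) (Nat.sub_le n k)] at hcard
    have := hinj hcard
    omega
  · rw [h0, card_Wk n n le_rfl] at hcard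
    have := hinj hcard
    omega

/-- The stabilisers in GL_n(F), F finite, of the coordinate subspaces of dimensions k and n − k are isomorphic groups, but when 2k ≠ n (and 0 < k < n) no element of GL_n conjugates one onto the other. -/
theorem result {F : Type*} [Field F] [Finite F] (n k : ℕ) (hk0 : 0 < k) (hkn : k < n) (h2 : 2 * k ≠ n) : Nonempty (↥(Cfsg.stabilizing (Cfsg.glToMat (Fin n) F) {v : Fin n → F | ∀ i : Fin n, k ≤ (i : ℕ) → v i = 0}) ≃* ↥(Cfsg.stabilizing (Cfsg.glToMat (Fin n) F) {v : Fin n → F | ∀ i : Fin n, n - k ≤ (i : ℕ) → v i = 0})) ∧ ∀ g : Matrix.GeneralLinearGroup (Fin n) F, (Cfsg.stabilizing (Cfsg.glToMat (Fin n) F) {v : Fin n → F | ∀ i : Fin n, k ≤ (i : ℕ) → v i = 0}).map (MulAut.conj g).toMonoidHom ≠ Cfsg.stabilizing (Cfsg.glToMat (Fin n) F) {v : Fin n → F | ∀ i : Fin n, n - k ≤ (i : ℕ) → v i = 0} := by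
  classical
  constructor
  · have e1 := Subgroup.equivMapOfInjective
      (Cfsg.stabilizing (Cfsg.glToMat (Fin n) F) (S0771.Wk (F := F) n k)) (theta n) (theta_injective n)
    have e2 := MulEquiv.subgroupCongr (map_theta (F := F) n k hkn.le)
    exact ⟨e1.trans e2⟩
  · intro g h
    exact not_conj n k hk0 hkn h2 g h

end Cfsg.Agent.S0773
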