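import Cfsg.Statements.S0772
import Mathlib
import Cfsg.Agent.S0773
-- import your own Cfsg.Agent.* helpers here

set_option autoImplicit false
open Cfsg

namespace Cfsg.Agent.S0772

open Matrix

variable {F : Type*} [Field F]

/-- `1 + z φᵀ` as a GL element -/
noncomputable def G1 {n : ℕ} (z φ : Fin n → F) (h : 1 + φ ⬝ᵥ z ≠ 0) : GL (Fin n) F :=
  Matrix.GeneralLinearGroup.mkOfDetNeZero (1 + vecMulVec z φ) (by
    intro hdet
    -- exhibit an inverse
    have hAA : vecMulVec z φ * vecMulVec z φ = (φ ⬝ᵥ z) • vecMulVec z φ := by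
      rw [Matrix.vecMulVec_mul_vecMulVec, Matrix.vecMulVec_smul]
    have hc : (1 + φ ⬝ᵥ z)⁻¹ * (1 + φ ⬝ᵥ z) = 1 := inv_mul_cancel₀ h
    have h1 : (1 + vecMulVec z φ) * (1 - (1 + φ ⬝ᵥ z)⁻¹ • vecMulVec z φ) = 1 := by
      generalize (1 + φ ⬝ᵥ z)⁻¹ = c at hc
      have : (1 + vecMulVec z φ) * (1 - c • vecMulVec z φ) =
          1 + (1 - c * (1 + φ ⬝ᵥ z)) • vecMulVec z φ := by
        rw [Matrix.add_mul, Matrix.mul_sub, Matrix.mul_sub, Matrix.mul_one, Matrix.one_mul,
          Matrix.mul_one, Matrix.mul_smul, hAA]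
        module
      rw [this, hc, sub_self, zero_smul, add_zero]
    have := congrArg Matrix.det h1
    rw [Matrix.det_mul, hdet, zero_mul, Matrix.det_one] at this
    exact zero_ne_one this)

lemma G1_val {n : ℕ} (z φ : Fin n → F) (h : 1 + φ ⬝ᵥ z ≠ 0) :
    ((G1 z φ h : GL (Fin n) F) : Matrix (Fin n) (Fin n) F) = 1 + vecMulVec z φ := rfl

/-- matrices coming from elements of `H` -/
def matIn {n : ℕ} (H : Subgroup (GL (Fin n) F)) (M : Matrix (Fin n) (Fin n) F) : Prop :=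
  ∃ g : GL (Fin n) F, g ∈ H ∧ (g : Matrix (Fin n) (Fin n) F) = M

lemma matIn_mul {n : ℕ} (H : Subgroup (GL (Fin n) F)) {M N : Matrix (Fin n) (Fin n) F}
    (hM : matIn H M) (hN : matIn H N) : matIn H (M * N) := by
  obtain ⟨g, hg, rfl⟩ := hM
  obtain ⟨g', hg', rfl⟩ := hN
  exact ⟨g * g', H.mul_mem hg hg', rfl⟩

lemma matIn_coe {n : ℕ} (H : Subgroup (GL (Fin n) F)) (g : GL (Fin n) F) :
    matIn H (g : Matrix (Fin n) (Fin n) F) ↔ g ∈ H := by
  constructor
  · rintro ⟨g', hg', h⟩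
    rwa [← Units.ext h]
  · intro hg; exact ⟨g, hg, rfl⟩

/-- the set of "good" vectors -/
def Ygood {n : ℕ} (H : Subgroup (GL (Fin n) F)) : Set (Fin n → F) :=
  {y | ∀ ψ : Fin n → F, ψ ⬝ᵥ y = 0 → matIn H (1 + vecMulVec y ψ)}

lemma Ygood_smul {n : ℕ} (H : Subgroup (GL (Fin n) F)) (g : GL (Fin n) F) (hg : g ∈ H)
    (y : Fin n → F) (hy : y ∈ Ygood H) : (g : Matrix (Fin n) (Fin n) F) *ᵥ y ∈ Ygood H := by
  intro ψ hψ
  have h1 : (ψ ᵥ* (g : Matrix (Fin n) (Fin n) F)) ⬝ᵥ y = 0 := by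
    rw [← Matrix.dotProduct_mulVec]; exact hψ
  obtain ⟨t, ht, htv⟩ := hy _ h1
  refine ⟨g * t * g⁻¹, H.mul_mem (H.mul_mem hg ht) (H.inv_mem hg), ?_⟩
  rw [Units.val_mul, Units.val_mul, htv, Matrix.mul_add, Matrix.add_mul, Matrix.mul_one,
    ← Units.val_mul, mul_inv_cancel, Matrix.mul_vecMulVec, Matrix.vecMulVec_mul,
    Matrix.vecMul_vecMul, ← Units.val_mul, mul_inv_cancel]
  simp

lemma Ygood_W [Finite F] {n : ℕ} (k : ℕ) (H : Subgroup (GL (Fin n) F))
    (hPH : Cfsg.stabilizing (Cfsg.glToMat (Fin n) F) (S0771.Wk (F := F) n k) ≤ H)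
    (x : Fin n → F) (hx : x ∈ S0771.Wk (F := F) n k) : x ∈ Ygood H := by
  intro ψ hψ
  have h1 : 1 + ψ ⬝ᵥ x ≠ 0 := by rw [hψ, add_zero]; exact one_ne_zero
  refine ⟨G1 x ψ h1, hPH ?_, rfl⟩
  rw [S0773.mem_stab_iff']
  intro i j hi hj
  rw [G1_val]
  have hij : i ≠ j := by intro e; rw [e] at hi; omega
  simp [Matrix.one_apply_ne hij, Matrix.vecMulVec_apply, hx i hi]

lemma Ygood_col [Finite F] {n : ℕ} (k : ℕ) (H : Subgroup (GL (Fin n) F))
    (hPH : Cfsg.stabilizing (Cfsg.glToMat (Fin n) F) (S0771.Wk (F := F) n k) ≤ H)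
    (y : Fin n → F) (hy : y ∈ Ygood H) (a : Fin n) (ha : k ≤ (a : ℕ)) (hya : y a ≠ 0) :
    (Pi.single a 1 : Fin n → F) ∈ Ygood H := by
  classical
  have h1 : 1 + (Pi.single a 1 : Fin n → F) ⬝ᵥ (y - Pi.single a 1) ≠ 0 := by
    simpa using hya
  have hp : G1 (y - Pi.single a 1) (Pi.single a 1) h1 ∈
      Cfsg.stabilizing (Cfsg.glToMat (Fin n) F) (S0771.Wk (F := F) n k) := by
    rw [S0773.mem_stab_iff']
    intro i j hi hj
    rw [G1_val]
    have hij : i ≠ j := by intro e; rw [e] at hi; omega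
    have hja : j ≠ a := by intro e; rw [e] at hj; omega
    simp [Matrix.one_apply_ne hij, Matrix.vecMulVec_apply, hja]
  have hpy : ((G1 (y - Pi.single a 1) (Pi.single a 1) h1 : GL (Fin n) F) :
      Matrix (Fin n) (Fin n) F) *ᵥ (Pi.single a 1 : Fin n → F) = y := by
    rw [G1_val, Matrix.add_mulVec, Matrix.one_mulVec, Matrix.vecMulVec_mulVec]
    simp
  generalize G1 (y - Pi.single a 1) (Pi.single a 1) h1 = p at hp hpy
  have h2 := Ygood_smul H p⁻¹ (H.inv_mem (hPH hp)) y hy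
  have e : ((p⁻¹ : GL (Fin n) F) : Matrix (Fin n) (Fin n) F) *ᵥ y = Pi.single a 1 := by
    rw [← hpy, Matrix.mulVec_mulVec, ← Units.val_mul, inv_mul_cancel, Units.val_one,
      Matrix.one_mulVec]
  rwa [e] at h2

lemma top_of_lt [Finite F] (n k : ℕ) (H : Subgroup (GL (Fin n) F))
    (hPH : Cfsg.stabilizing (Cfsg.glToMat (Fin n) F) (S0771.Wk (F := F) n k) ≤ H)
    (h : GL (Fin n) F) (hh : h ∈ H)
    (hhP : h ∉ Cfsg.stabilizing (Cfsg.glToMat (Fin n) F) (S0771.Wk (F := F) n k)) : H = ⊤ := by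
  classical
  rw [S0773.mem_stab_iff'] at hhP
  push Not at hhP
  obtain ⟨a, b, ha, hb, hab⟩ := hhP
  have heb : (Pi.single b 1 : Fin n → F) ∈ S0771.Wk (F := F) n k := by
    intro i hi
    have : i ≠ b := by intro e; rw [e] at hi; omega
    simp [this]
  have hy : (h : Matrix (Fin n) (Fin n) F) *ᵥ (Pi.single b 1 : Fin n → F) ∈ Ygood H :=
    Ygood_smul H h hh _ (Ygood_W k H hPH _ heb)
  have hya : ((h : Matrix (Fin n) (Fin n) F) *ᵥ (Pi.single b 1 : Fin n → F)) a ≠ 0 := by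
    simpa using hab
  have hea := Ygood_col k H hPH _ hy a ha hya
  have hall : ∀ i : Fin n, (Pi.single i 1 : Fin n → F) ∈ Ygood H := by
    intro i
    by_cases hi : (i : ℕ) < k
    · apply Ygood_W k H hPH
      intro i' hi'
      have : i' ≠ i := by intro e; rw [e] at hi'; omega
      simp [this]
    · by_cases hia : i = a
      · rw [hia]; exact hea
      · have h1 := Ygood_smul H (S0773.tv i a hia)
          (hPH (S0773.tv_mem n k i a hia (by omega))) _ hea
        rw [S0773.tv_mulVec] at h1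
        apply Ygood_col k H hPH _ h1 i (by omega)
        simp [hia]
  have htr : ∀ t : Matrix.TransvectionStruct (Fin n) F, matIn H t.toMatrix := by
    intro t
    obtain ⟨i, j, hij, c⟩ := t
    rw [Matrix.TransvectionStruct.toMatrix_mk]
    have h0 : (c • (Pi.single j 1 : Fin n → F)) ⬝ᵥ (Pi.single i 1 : Fin n → F) = 0 := by
      simp [hij.symm]
    have := hall i (c • Pi.single j 1) h0
    have e : Matrix.transvection i j c =
        1 + vecMulVec (Pi.single i 1 : Fin n → F) (c • (Pi.single j 1 : Fin n → F)) := by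
      ext a' b'
      simp only [Matrix.transvection, Matrix.add_apply, Matrix.single_apply, Matrix.vecMulVec_apply,
        Pi.single_apply, Pi.smul_apply, smul_eq_mul]
      congr 1
      by_cases h1 : i = a'
      · by_cases h2 : j = b'
        · simp [h1, h2]
        · simp [h1, h2, Ne.symm h2]
      · simp [h1, Ne.symm h1]
    rw [e]; exact this
  have hdiag : ∀ D : Fin n → F, Matrix.det (Matrix.diagonal D) ≠ 0 →
      matIn H (Matrix.diagonal D) := by
    intro D hD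
    refine ⟨Matrix.GeneralLinearGroup.mkOfDetNeZero _ hD, hPH ?_, rfl⟩
    rw [S0773.mem_stab_iff']
    intro i j hi hj
    have hij : i ≠ j := by intro e; rw [e] at hi; omega
    simp [Matrix.diagonal_apply_ne _ hij]
  rw [eq_top_iff]
  intro g _
  rw [← matIn_coe]
  have hdet : Matrix.det (g : Matrix (Fin n) (Fin n) F) ≠ 0 :=
    ((Matrix.isUnit_iff_isUnit_det _).mp g.isUnit).ne_zero
  apply Matrix.diagonal_transvection_induction_of_det_ne_zero (matIn H) _ hdet hdiag htr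
  intro A B _ _ hA hB
  exact matIn_mul H hA hB

/-- Maximal parabolics are maximal: over a finite field, for 0 < k < n the stabiliser in GL_n of the span of the first k coordinate vectors is a maximal proper subgroup. -/
theorem result {F : Type*} [Field F] [Finite F] (n k : ℕ) (hk0 : 0 < k) (hkn : k < n) : IsCoatom (Cfsg.stabilizing (Cfsg.glToMat (Fin n) F) {v : Fin n → F | ∀ i : Fin n, k ≤ (i : ℕ) → v i = 0}) := by
  classical
  change IsCoatom (Cfsg.stabilizing (Cfsg.glToMat (Fin n) F) (S0771.Wk (F := F) n k))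
  constructor
  · intro htop
    have hij : (⟨k, hkn⟩ : Fin n) ≠ ⟨0, by omega⟩ := by
      intro e
      have := congrArg Fin.val e
      simp at this
      omega
    have hmem : S0773.tv (F := F) (⟨k, hkn⟩ : Fin n) ⟨0, by omega⟩ hij ∈
        Cfsg.stabilizing (Cfsg.glToMat (Fin n) F) (S0771.Wk (F := F) n k) := by
      rw [htop]; trivial
    rw [S0773.mem_stab_iff'] at hmem
    have := hmem ⟨k, hkn⟩ ⟨0, by omega⟩ le_rfl hk0
    have h1 : (S0773.tv (F := F) (⟨k, hkn⟩ : Fin n) ⟨0, by omega⟩ hij :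
      Matrix (Fin n) (Fin n) F) = Matrix.transvection (⟨k, hkn⟩ : Fin n) ⟨0, by omega⟩ (1 : F) := rfl
    rw [h1] at this
    simp [Matrix.transvection, Matrix.one_apply_ne hij] at this
  · intro H hlt
    obtain ⟨h, hh, hhP⟩ := SetLike.exists_of_lt hlt
    exact top_of_lt n k H hlt.le h hh hhP

end Cfsg.Agent.S0772
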