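import Mathlib
import Cfsg.Agent.S0772
import Cfsg.Prelude.Def_GeometricClasses

set_option autoImplicit false
set_option linter.unusedSectionVars false
set_option linter.unusedVariables false

namespace Cfsg.Agent.helper29

open Matrix Cfsg.Agent.S0772

variable {F : Type*} [Field F]

theorem mem_SL {n : ℕ} (g : GL (Fin n) F) :
    g ∈ Cfsg.Geo.specialLinear (Fin n) F ↔ (g : Matrix (Fin n) (Fin n) F).det = 1 := by
  unfold Cfsg.Geo.specialLinear
  rw [MonoidHom.mem_ker, Units.ext_iff]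
  rfl

theorem det_one_add_vecMulVec {n : ℕ} (z φ : Fin n → F) :
    (1 + vecMulVec z φ).det = 1 + φ ⬝ᵥ z := by
  rw [Matrix.vecMulVec_eq Unit, Matrix.det_one_add_replicateCol_mul_replicateRow]

theorem G1_mem_SL {n : ℕ} (z φ : Fin n → F) (h0 : φ ⬝ᵥ z = 0) (h : 1 + φ ⬝ᵥ z ≠ 0) :
    G1 z φ h ∈ Cfsg.Geo.specialLinear (Fin n) F := by
  rw [mem_SL, G1_val, det_one_add_vecMulVec, h0, add_zero]

/-- a subgroup of `GL` containing all elementary transvections and all diagonal matrices of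
determinant one contains `SL` -/
theorem SL_le_of {n : ℕ} (H : Subgroup (GL (Fin n) F))
    (htr : ∀ t : Matrix.TransvectionStruct (Fin n) F, matIn H t.toMatrix)
    (hdiag : ∀ D : Fin n → F, Matrix.det (Matrix.diagonal D) = 1 → matIn H (Matrix.diagonal D)) :
    Cfsg.Geo.specialLinear (Fin n) F ≤ H := by
  classical
  intro g hg
  rw [mem_SL] at hg
  rw [← matIn_coe]
  obtain ⟨L, L', D, hM⟩ := Matrix.Pivot.exists_list_transvec_mul_diagonal_mul_list_transvec
    (g : Matrix (Fin n) (Fin n) F)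
  have hD : Matrix.det (Matrix.diagonal D) = 1 := by
    have := congrArg Matrix.det hM
    rw [Matrix.det_mul, Matrix.det_mul, Matrix.TransvectionStruct.det_toMatrix_prod,
      Matrix.TransvectionStruct.det_toMatrix_prod, one_mul, mul_one, hg] at this
    exact this.symm
  have hone : matIn H (1 : Matrix (Fin n) (Fin n) F) := ⟨1, H.one_mem, rfl⟩
  have hlist : ∀ L : List (Matrix.TransvectionStruct (Fin n) F),
      matIn H (L.map Matrix.TransvectionStruct.toMatrix).prod := by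
    intro L
    induction L with
    | nil => simpa using hone
    | cons t L ih =>
      rw [List.map_cons, List.prod_cons]
      exact matIn_mul H (htr t) ih
  rw [hM]
  exact matIn_mul H (matIn_mul H (hlist L) (hdiag D hD)) (hlist L')

/-- conjugating a maximality statement -/
theorem isMaximalIn_conj {G : Type*} [Group G] (A : G) (K H : Subgroup G)
    (h : Cfsg.Geo.IsMaximalIn K H) :
    Cfsg.Geo.IsMaximalIn (K.map (MulAut.conj A).toMonoidHom) (H.map (MulAut.conj A).toMonoidHom) := by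
  set e : Subgroup G ≃o Subgroup G := (MulAut.conj A).mapSubgroup with he
  have hmap : ∀ S : Subgroup G, S.map (MulAut.conj A).toMonoidHom = e S := fun S => rfl
  rw [hmap, hmap]
  obtain ⟨h1, h2⟩ := h
  constructor
  · exact e.lt_iff_lt.mpr h1
  · intro M hHM hMK
    have h3 : H ≤ e.symm M := by
      rw [← e.le_iff_le, e.apply_symm_apply]; exact hHM
    have h4 : e.symm M ≤ K := by
      rw [← e.le_iff_le, e.apply_symm_apply]; exact hMK
    rcases h2 _ h3 h4 with h5 | h5
    · left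
      rw [← h5, e.apply_symm_apply]
    · right
      rw [← h5, e.apply_symm_apply]

/-- conjugate stabilizers in `GL` -/
theorem stab_conj_gl {n : ℕ} (g : GL (Fin n) F) (S S₀ : Set (Fin n → F))
    (h : ∀ v : Fin n → F, v ∈ S₀ ↔ (g : Matrix (Fin n) (Fin n) F) *ᵥ v ∈ S)
    (M : GL (Fin n) F) : M ∈ Cfsg.stabilizing (Cfsg.glToMat (Fin n) F) S ↔
      g⁻¹ * M * g ∈ Cfsg.stabilizing (Cfsg.glToMat (Fin n) F) S₀ := by
  have hinv : ∀ w : Fin n → F, (g : Matrix (Fin n) (Fin n) F) *ᵥ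
      (((g⁻¹ : GL (Fin n) F) : Matrix (Fin n) (Fin n) F) *ᵥ w) = w := by
    intro w
    rw [Matrix.mulVec_mulVec, ← Units.val_mul, mul_inv_cancel, Units.val_one, Matrix.one_mulVec]
  have hmv : ∀ w : Fin n → F,
      ((g⁻¹ * M * g : GL (Fin n) F) : Matrix (Fin n) (Fin n) F) *ᵥ w
      = ((g⁻¹ : GL (Fin n) F) : Matrix (Fin n) (Fin n) F) *ᵥ
        ((M : Matrix (Fin n) (Fin n) F) *ᵥ
          ((g : Matrix (Fin n) (Fin n) F) *ᵥ w)) := by
    intro w; rw [Matrix.mulVec_mulVec, Matrix.mulVec_mulVec]; rfl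
  constructor
  · intro hM w
    change w ∈ S₀ ↔ ((g⁻¹ * M * g : GL (Fin n) F) : Matrix (Fin n) (Fin n) F) *ᵥ w ∈ S₀
    rw [hmv, h, h, hinv]
    exact hM ((g : Matrix (Fin n) (Fin n) F) *ᵥ w)
  · intro hM z
    have := hM (((g⁻¹ : GL (Fin n) F) : Matrix (Fin n) (Fin n) F) *ᵥ z)
    change _ ∈ S₀ ↔ ((g⁻¹ * M * g : GL (Fin n) F) : Matrix (Fin n) (Fin n) F) *ᵥ _ ∈ S₀ at this
    rw [hmv, h, h, hinv, hinv] at this
    exact this

theorem stab_map_conj_gl {n : ℕ} (g : GL (Fin n) F) (S S₀ : Set (Fin n → F))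
    (h : ∀ v : Fin n → F, v ∈ S₀ ↔ (g : Matrix (Fin n) (Fin n) F) *ᵥ v ∈ S) :
    (Cfsg.stabilizing (Cfsg.glToMat (Fin n) F) S₀).map (MulAut.conj g).toMonoidHom
      = Cfsg.stabilizing (Cfsg.glToMat (Fin n) F) S := by
  ext M
  rw [stab_conj_gl g S S₀ h M, Subgroup.mem_map]
  constructor
  · rintro ⟨N, hN, rfl⟩
    have : g⁻¹ * ((MulAut.conj g).toMonoidHom N) * g = N := by
      simp only [MulEquiv.coe_toMonoidHom, MulAut.conj_apply]; group
    rw [this]; exact hN
  · intro hM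
    refine ⟨g⁻¹ * M * g, hM, ?_⟩
    simp only [MulEquiv.coe_toMonoidHom, MulAut.conj_apply]; group

theorem SL_map_conj {n : ℕ} (g : GL (Fin n) F) :
    (Cfsg.Geo.specialLinear (Fin n) F).map (MulAut.conj g).toMonoidHom
      = Cfsg.Geo.specialLinear (Fin n) F := by
  ext M
  rw [Subgroup.mem_map]
  constructor
  · rintro ⟨N, hN, rfl⟩
    rw [mem_SL] at hN ⊢
    simp only [MulEquiv.coe_toMonoidHom, MulAut.conj_apply, Units.val_mul, Matrix.det_mul]
    rw [hN, mul_one, ← Matrix.det_mul, ← Units.val_mul, mul_inv_cancel, Units.val_one,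
      Matrix.det_one]
  · intro hM
    refine ⟨g⁻¹ * M * g, ?_, ?_⟩
    · rw [mem_SL] at hM ⊢
      simp only [Units.val_mul, Matrix.det_mul]
      rw [hM, mul_one, ← Matrix.det_mul, ← Units.val_mul, inv_mul_cancel, Units.val_one,
        Matrix.det_one]
    · simp only [MulEquiv.coe_toMonoidHom, MulAut.conj_apply]; group

end Cfsg.Agent.helper29
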