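import Mathlib
import Cfsg.Agent.Lib_helper29_SLgen

set_option autoImplicit false
set_option linter.unusedSectionVars false
set_option linter.unusedVariables false

namespace Cfsg.Agent.helper29

open Matrix Cfsg.Agent.S0772

variable {F : Type*} [Field F] {n : ℕ}

theorem G1_mulVec' (z φ : Fin n → F) (h : 1 + φ ⬝ᵥ z ≠ 0) (v : Fin n → F) :
    ((G1 z φ h : GL (Fin n) F) : Matrix (Fin n) (Fin n) F) *ᵥ v = v + (φ ⬝ᵥ v) • z := by
  rw [G1_val, Matrix.add_mulVec, Matrix.one_mulVec, Matrix.vecMulVec_mulVec]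
  congr 1
  funext i
  simp only [Pi.smul_apply, MulOpposite.smul_eq_mul_unop, MulOpposite.unop_op, smul_eq_mul]
  ring

theorem elem_dot (i j : Fin n) (hij : i ≠ j) (a : F) :
    (a • (Pi.single j 1 : Fin n → F)) ⬝ᵥ (Pi.single i 1 : Fin n → F) = 0 := by
  simp [hij.symm]

/-- elementary transvection as a `G1` -/
noncomputable def EE (i j : Fin n) (hij : i ≠ j) (a : F) : GL (Fin n) F :=
  G1 (Pi.single i 1) (a • Pi.single j 1) (by rw [elem_dot i j hij a, add_zero]; exact one_ne_zero)

theorem EE_mulVec (i j : Fin n) (hij : i ≠ j) (a : F) (v : Fin n → F) :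
    ((EE i j hij a : GL (Fin n) F) : Matrix (Fin n) (Fin n) F) *ᵥ v
      = v + (a * v j) • (Pi.single i 1 : Fin n → F) := by
  unfold EE
  rw [G1_mulVec', smul_dotProduct, single_dotProduct, one_mul, smul_eq_mul]

theorem EE_val (i j : Fin n) (hij : i ≠ j) (a : F) :
    ((EE i j hij a : GL (Fin n) F) : Matrix (Fin n) (Fin n) F) = Matrix.transvection i j a := by
  rw [Matrix.ext_iff_mulVec]
  intro v
  rw [EE_mulVec, Matrix.transvection, Matrix.add_mulVec, Matrix.one_mulVec, Matrix.single_mulVec_eq]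

theorem diag2n_eq (i j : Fin n) (hij : i ≠ j) (c : F) (hc : c ≠ 0) :
    ((EE j i hij.symm (c⁻¹ - 1) * EE i j hij 1 * EE j i hij.symm (c - 1) * EE i j hij (-c⁻¹) :
      GL (Fin n) F) : Matrix (Fin n) (Fin n) F)
      = Matrix.diagonal (fun k => if k = i then c else if k = j then c⁻¹ else 1) := by
  rw [Matrix.ext_iff_mulVec]
  intro v
  rw [Units.val_mul, Units.val_mul, Units.val_mul, ← Matrix.mulVec_mulVec, ← Matrix.mulVec_mulVec,
    ← Matrix.mulVec_mulVec, EE_mulVec, EE_mulVec, EE_mulVec, EE_mulVec]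
  funext k
  rw [Matrix.mulVec_diagonal]
  by_cases hki : k = i
  · subst hki
    simp [hij, hij.symm]
    field_simp
    ring
  · by_cases hkj : k = j
    · subst hkj
      simp [hij, hij.symm]
      field_simp
      ring
    · simp [hki, hkj, hij, hij.symm, Ne.symm hki, Ne.symm hkj]

/-- a subgroup of `GL` containing all general transvections contains `SL` -/
theorem SL_le_of_G1 (hn : 2 ≤ n) (M : Subgroup (GL (Fin n) F))
    (h : ∀ (y φ : Fin n → F) (h0 : φ ⬝ᵥ y = 0) (h1 : 1 + φ ⬝ᵥ y ≠ 0), G1 y φ h1 ∈ M) :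
    Cfsg.Geo.specialLinear (Fin n) F ≤ M := by
  classical
  haveI : Nontrivial (Fin n) := Fin.nontrivial_iff_two_le.mpr hn
  have hEE : ∀ (i j : Fin n) (hij : i ≠ j) (a : F), EE i j hij a ∈ M := by
    intro i j hij a
    exact h _ _ (elem_dot i j hij a) _
  have key : ∀ g : Matrix.SpecialLinearGroup (Fin n) F, matIn M (g : Matrix (Fin n) (Fin n) F) := by
    intro g
    apply Matrix.SpecialLinearGroup.diagonal_transvection_induction'
      (fun g => matIn M (g : Matrix (Fin n) (Fin n) F)) g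
    · intro i j hij c hc
      rw [Matrix.SpecialLinearGroup.diag2n_coe, ← diag2n_eq i j hij c hc]
      exact ⟨_, M.mul_mem (M.mul_mem (M.mul_mem (hEE _ _ _ _) (hEE _ _ _ _)) (hEE _ _ _ _))
        (hEE _ _ _ _), rfl⟩
    · intro i j hij a
      change matIn M (Matrix.transvection i j a)
      rw [← EE_val i j hij a]
      exact ⟨_, hEE i j hij a, rfl⟩
    · intro A B hA hB
      rw [Matrix.SpecialLinearGroup.coe_mul]
      exact matIn_mul M hA hB
  intro g hg
  rw [← matIn_coe]
  exact key ⟨(g : Matrix (Fin n) (Fin n) F), (mem_SL g).mp hg⟩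

end Cfsg.Agent.helper29
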