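import Mathlib
import Cfsg.Prelude.Def_ClassicalGeometry
import Cfsg.Prelude.Def_GeometricClasses
import Cfsg.Agent.Lib_helper11_Unitary
import Cfsg.Agent.Lib_helper11_HermLines1
import Cfsg.Agent.Lib_helper29_SLgen

set_option autoImplicit false
set_option linter.unusedSectionVars false
set_option linter.unusedVariables false

namespace Cfsg.Agent.helper29

open Matrix Cfsg Cfsg.Agent.helper11.HermCount Cfsg.Agent.helper11.Unitary

section unitA

variable {F : Type*} [Field F] [Fintype F] {q n : ℕ}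

local notation "hf" => Cfsg.hermForm n F q
local notation "VV" => (Fin n → F)
local notation "MM" => Matrix (Fin n) (Fin n) F

theorem herm_zero_right (hF : Fintype.card F = q ^ 2) (u : VV) : hf u 0 = 0 := by
  simp [hermForm, zero_pow (q_ne_zero hF)]

theorem herm_neg_left (u v : VV) : hf (-u) v = - hf u v := by
  simp [hermForm, Finset.sum_neg_distrib]

theorem herm_neg_right (hF : Fintype.card F = q ^ 2) (u v : VV) : hf u (-v) = - hf u v := by
  have h := herm_add_right hF u v (-v)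
  rw [add_neg_cancel, herm_zero_right hF] at h
  linear_combination -h

theorem herm_sum_left {ι : Type*} (s : Finset ι) (g : ι → VV) (w : VV) :
    hf (∑ i ∈ s, g i) w = ∑ i ∈ s, hf (g i) w := by
  classical
  induction s using Finset.induction_on with
  | empty => simp [herm_zero_left]
  | insert a s ha ih => rw [Finset.sum_insert ha, Finset.sum_insert ha, herm_add_left, ih]

/-- trace-zero scalars exist -/
theorem exists_eps (hF : Fintype.card F = q ^ 2) : ∃ ε : F, ε ≠ 0 ∧ ε ^ q = -ε := by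
  classical
  have hcard := Cfsg.Agent.helper11.HermLines.card_trace_fiber hF (0 : F)
    (zero_pow (q_ne_zero hF))
  have h2 := two_le_q hF
  by_contra hcon
  push Not at hcon
  have hsub : Subsingleton {κ : F // κ + κ ^ q = 0} := by
    constructor
    rintro ⟨a, ha⟩ ⟨b, hb⟩
    apply Subtype.ext
    have ha0 : a = 0 := by
      by_contra h
      exact hcon a h (by linear_combination ha)
    have hb0 : b = 0 := by
      by_contra h
      exact hcon b h (by linear_combination hb)
    exact ha0.trans hb0.symm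
  have := Finite.card_le_one_iff_subsingleton.mpr hsub
  omega

theorem exists_trace (hF : Fintype.card F = q ^ 2) (d : F) (hd : d ^ q = d) :
    ∃ μ : F, μ + μ ^ q = d := by
  have hcard := Cfsg.Agent.helper11.HermLines.card_trace_fiber hF d hd
  have hne : Nonempty {κ : F // κ + κ ^ q = d} := by
    by_contra h
    rw [not_nonempty_iff] at h
    rw [Nat.card_of_isEmpty] at hcard
    exact q_ne_zero hF hcard.symm
  obtain ⟨⟨μ, hμ⟩⟩ := hne
  exact ⟨μ, hμ⟩

theorem exists_norm (hF : Fintype.card F = q ^ 2) (d : F) (hd : d ^ q = d) (hd0 : d ≠ 0) :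
    ∃ l : F, l * l ^ q = d := by
  have h2 := two_le_q hF
  have hd1 : (Units.mk0 d hd0) ^ (q - 1) = 1 := by
    apply Units.ext
    rw [Units.val_pow_eq_pow_val, Units.val_mk0, Units.val_one]
    have : d ^ (q - 1) * d = d := by
      rw [← pow_succ]
      have : q - 1 + 1 = q := by omega
      rw [this, hd]
    exact mul_right_cancel₀ hd0 (by rw [this, one_mul])
  obtain ⟨u, hu⟩ := exists_norm_eq hF (Units.mk0 d hd0) hd1
  refine ⟨(u : F), ?_⟩
  have := congrArg Units.val hu
  rw [Units.val_pow_eq_pow_val, Units.val_mk0] at this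
  rw [← this, pow_succ]
  ring

theorem exists_not_fixed (hF : Fintype.card F = q ^ 2) : ∃ x : F, x ^ q ≠ x := by
  by_cases h2 : (2 : F) = 0
  · obtain ⟨θ, hθ⟩ := exists_trace hF (1 : F) (one_pow q)
    refine ⟨θ, fun h => ?_⟩
    rw [h] at hθ
    have : (2 : F) * θ = 1 := by linear_combination hθ
    rw [h2, zero_mul] at this
    exact zero_ne_one this
  · obtain ⟨ε, hε0, hε⟩ := exists_eps hF
    refine ⟨ε, fun h => ?_⟩
    rw [h] at hε
    have : (2 : F) * ε = 0 := by linear_combination hε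
    rcases mul_eq_zero.mp this with h' | h'
    · exact h2 h'
    · exact hε0 h'

theorem tu_mulVec (z : VV) (c : F) (v : VV) :
    Cfsg.unitaryTransvection n q z c *ᵥ v = v + (c * hf v z) • z := by
  unfold Cfsg.unitaryTransvection
  rw [Matrix.add_mulVec, Matrix.one_mulVec]
  congr 1
  funext i
  simp only [Matrix.mulVec, dotProduct, Matrix.smul_apply, Matrix.vecMulVec_apply, smul_eq_mul,
    Pi.smul_apply, hermForm]
  rw [Finset.mul_sum, Finset.sum_mul]
  apply Finset.sum_congr rfl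
  intro j _
  ring

theorem tu_mul_neg (z : VV) (c : F) (hz : hf z z = 0) :
    Cfsg.unitaryTransvection n q z c * Cfsg.unitaryTransvection n q z (-c) = 1 := by
  rw [Matrix.ext_iff_mulVec]
  intro v
  rw [← Matrix.mulVec_mulVec, tu_mulVec, tu_mulVec, Matrix.one_mulVec, herm_add_left,
    herm_smul_left, hz]
  module

/-- the unitary transvection as an element of `GL` (trivial when `z` is not isotropic) -/
noncomputable def TTu (q : ℕ) (z : Fin n → F) (c : F) : GL (Fin n) F := by
  classical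
  exact if h : Cfsg.hermForm n F q z z = 0 then
    ⟨Cfsg.unitaryTransvection n q z c, Cfsg.unitaryTransvection n q z (-c), tu_mul_neg z c h,
      by have := tu_mul_neg z (-c) h; rwa [neg_neg] at this⟩
  else 1

theorem TTu_val (z : VV) (c : F) (hz : hf z z = 0) :
    ((TTu q z c : GL (Fin n) F) : MM) = Cfsg.unitaryTransvection n q z c := by
  unfold TTu
  rw [dif_pos hz]

theorem TTu_mulVec (z : VV) (c : F) (hz : hf z z = 0) (v : VV) :
    ((TTu q z c : GL (Fin n) F) : MM) *ᵥ v = v + (c * hf v z) • z := by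
  rw [TTu_val z c hz, tu_mulVec]

theorem gl_ext' (g g' : GL (Fin n) F)
    (h : ∀ v : VV, (g : MM) *ᵥ v = (g' : MM) *ᵥ v) : g = g' := by
  apply Units.ext
  rw [Matrix.ext_iff_mulVec]
  exact h

theorem gl_mul_mulVec (g h : GL (Fin n) F) (v : VV) :
    ((g * h : GL (Fin n) F) : MM) *ᵥ v = (g : MM) *ᵥ ((h : MM) *ᵥ v) := by
  rw [Units.val_mul, Matrix.mulVec_mulVec]

theorem gl_inv_mulVec (g : GL (Fin n) F) (v : VV) :
    ((g⁻¹ : GL (Fin n) F) : MM) *ᵥ ((g : MM) *ᵥ v) = v := by
  rw [← gl_mul_mulVec, inv_mul_cancel, Units.val_one, Matrix.one_mulVec]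

theorem gl_mulVec_inv (g : GL (Fin n) F) (v : VV) :
    (g : MM) *ᵥ (((g⁻¹ : GL (Fin n) F) : MM) *ᵥ v) = v := by
  rw [← gl_mul_mulVec, mul_inv_cancel, Units.val_one, Matrix.one_mulVec]

theorem gl_one_mulVec (v : VV) : ((1 : GL (Fin n) F) : MM) *ᵥ v = v := by
  rw [Units.val_one, Matrix.one_mulVec]

theorem gl_mulVec_ne_zero (g : GL (Fin n) F) (v : VV) (hv : v ≠ 0) : (g : MM) *ᵥ v ≠ 0 := by
  intro h
  apply hv
  have := gl_inv_mulVec g v
  rw [h, Matrix.mulVec_zero] at this
  exact this.symm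

theorem TTu_mul (z : VV) (c d : F) (hz : hf z z = 0) :
    (TTu q z c : GL (Fin n) F) * TTu q z d = TTu q z (c + d) := by
  apply gl_ext'
  intro v
  rw [gl_mul_mulVec, TTu_mulVec z c hz, TTu_mulVec z d hz, TTu_mulVec z (c + d) hz, herm_add_left,
    herm_smul_left, hz]
  module

theorem TTu_zero (z : VV) : (TTu q z (0 : F) : GL (Fin n) F) = 1 := by
  by_cases hz : hf z z = 0
  · apply gl_ext'
    intro v
    rw [TTu_mulVec z 0 hz, gl_one_mulVec, zero_mul, zero_smul, add_zero]
  · unfold TTu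
    rw [dif_neg hz]

theorem TTu_inv (z : VV) (c : F) (hz : hf z z = 0) :
    (TTu q z c : GL (Fin n) F)⁻¹ = TTu q z (-c) := by
  apply inv_eq_of_mul_eq_one_right
  rw [TTu_mul z c (-c) hz, add_neg_cancel, TTu_zero]

theorem herm_smul_smul (a : F) (z : VV) : hf (a • z) (a • z) = a * a ^ q * hf z z := by
  rw [herm_smul_left, herm_smul_right]; ring

theorem TTu_smul (a : F) (z : VV) (c : F) (hz : hf z z = 0) :
    (TTu q (a • z) c : GL (Fin n) F) = TTu q z (a * a ^ q * c) := by
  have hz' : hf (a • z) (a • z) = 0 := by rw [herm_smul_smul, hz, mul_zero]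
  apply gl_ext'
  intro v
  rw [TTu_mulVec _ c hz', TTu_mulVec z _ hz, herm_smul_right, smul_smul]
  congr 2
  ring

theorem TTu_mem_GU (hF : Fintype.card F = q ^ 2) (z : VV) (c : F) (hz : hf z z = 0)
    (hc : c ^ q = -c) : (TTu q z c : GL (Fin n) F) ∈ Cfsg.GU n F q := by
  rw [mem_GU_iff]
  intro u v
  rw [TTu_mulVec z c hz, TTu_mulVec z c hz, herm_add_left, herm_add_right hF, herm_add_right hF,
    herm_smul_left, herm_smul_left, herm_smul_right, herm_smul_right, hz, mul_pow, hc,
    herm_conj hF]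
  ring

theorem TTu_mem_SL (z : VV) (c : F) (hz : hf z z = 0) :
    (TTu q z c : GL (Fin n) F) ∈ Cfsg.Geo.specialLinear (Fin n) F := by
  rw [mem_SL, TTu_val z c hz]
  unfold Cfsg.unitaryTransvection
  have : c • Matrix.vecMulVec z (fun j => z j ^ q) = Matrix.vecMulVec (c • z) (fun j => z j ^ q) := by
    rw [Matrix.smul_vecMulVec]
  rw [this, det_one_add_vecMulVec]
  have h2 : (fun j => z j ^ q) ⬝ᵥ (c • z) = c * hf z z := by
    simp only [dotProduct, Pi.smul_apply, smul_eq_mul, hermForm, Finset.mul_sum]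
    apply Finset.sum_congr rfl
    intro j _
    ring
  rw [h2, hz, mul_zero, add_zero]

/-- the group `SU_n(q)` inside `GL` -/
abbrev SUG (n : ℕ) (F : Type*) [Field F] (q : ℕ) : Subgroup (GL (Fin n) F) :=
  Cfsg.GU n F q ⊓ Cfsg.Geo.specialLinear (Fin n) F

theorem TTu_mem_SUG (hF : Fintype.card F = q ^ 2) (z : VV) (c : F) (hz : hf z z = 0)
    (hc : c ^ q = -c) : (TTu q z c : GL (Fin n) F) ∈ SUG n F q :=
  Subgroup.mem_inf.mpr ⟨TTu_mem_GU hF z c hz hc, TTu_mem_SL z c hz⟩

theorem gu_herm (g : GL (Fin n) F) (hg : g ∈ Cfsg.GU n F q) (u v : VV) :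
    hf ((g : MM) *ᵥ u) ((g : MM) *ᵥ v) = hf u v := hg u v

theorem gu_herm_inv (g : GL (Fin n) F) (hg : g ∈ Cfsg.GU n F q) (u v : VV) :
    hf (((g⁻¹ : GL (Fin n) F) : MM) *ᵥ u) v = hf u ((g : MM) *ᵥ v) := by
  have := gu_herm g hg (((g⁻¹ : GL (Fin n) F) : MM) *ᵥ u) v
  rw [gl_mulVec_inv] at this
  exact this.symm

theorem conj_TTu (g : GL (Fin n) F) (hg : g ∈ Cfsg.GU n F q) (z : VV) (c : F)
    (hz : hf z z = 0) :
    g * TTu q z c * g⁻¹ = TTu q ((g : MM) *ᵥ z) c := by
  have hz' : hf ((g : MM) *ᵥ z) ((g : MM) *ᵥ z) = 0 := by rw [gu_herm g hg, hz]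
  apply gl_ext'
  intro v
  rw [gl_mul_mulVec, gl_mul_mulVec, TTu_mulVec z c hz, TTu_mulVec _ c hz', Matrix.mulVec_add,
    Matrix.mulVec_smul, gl_mulVec_inv, gu_herm_inv g hg]

end unitA

end Cfsg.Agent.helper29
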