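import Mathlib
import Cfsg.Agent.Lib_helper29_UnitA

set_option autoImplicit false
set_option linter.unusedSectionVars false
set_option linter.unusedVariables false

namespace Cfsg.Agent.helper29

open Matrix Cfsg Cfsg.Agent.helper11.HermCount Cfsg.Agent.helper11.Unitary

section unitB

variable {F : Type*} [Field F] [Fintype F] {q n : ℕ}

local notation "hf" => Cfsg.hermForm n F q
local notation "VV" => (Fin n → F)
local notation "MM" => Matrix (Fin n) (Fin n) F

/-- vectors orthogonal to a set -/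
def perpS (q : ℕ) (S : Set (Fin n → F)) : Submodule F (Fin n → F) where
  carrier := {v | ∀ s ∈ S, Cfsg.hermForm n F q v s = 0}
  add_mem' := by
    intro a b ha hb s hs
    rw [herm_add_left, ha s hs, hb s hs, add_zero]
  zero_mem' := fun s hs => herm_zero_left s
  smul_mem' := by
    intro c x hx s hs
    rw [herm_smul_left, hx s hs, mul_zero]

theorem mem_perpS (S : Set VV) (v : VV) : v ∈ perpS q S ↔ ∀ s ∈ S, hf v s = 0 := Iff.rfl

/-- nondegenerate subspace -/
def NDeg (q : ℕ) (U : Submodule F (Fin n → F)) : Prop :=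
  ∀ u ∈ U, (∀ v ∈ U, Cfsg.hermForm n F q u v = 0) → u = 0

theorem ndeg_top (hF : Fintype.card F = q ^ 2) : NDeg q (⊤ : Submodule F VV) := by
  intro u _ h
  funext j
  have := h (Pi.single j 1) trivial
  rw [herm_single_right (q_ne_zero hF)] at this
  exact this

/-- `v ↦ h(v, s)` as a linear functional -/
def hermL (q : ℕ) (s : Fin n → F) : (Fin n → F) →ₗ[F] F where
  toFun v := Cfsg.hermForm n F q v s
  map_add' u v := herm_add_left u v s
  map_smul' c u := by rw [herm_smul_left]; rfl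

theorem hermL_apply (s v : VV) : hermL q s v = hf v s := rfl

theorem neg_pow_q' (hF : Fintype.card F = q ^ 2) (x : F) : (-x) ^ q = -(x ^ q) := by
  have := sub_pow_q hF 0 x
  rw [zero_sub, zero_pow (q_ne_zero hF), zero_sub] at this
  exact this

theorem exists_perp1 (X : Submodule F VV) (h : 2 ≤ Module.finrank F X) (s : VV) :
    ∃ k ∈ X, k ≠ 0 ∧ hf k s = 0 := by
  set L : X →ₗ[F] F := (hermL q s).comp X.subtype with hL
  have hlt : Module.finrank F F < Module.finrank F X := by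
    rw [Module.finrank_self]; omega
  have hker := LinearMap.ker_ne_bot_of_finrank_lt (f := L) hlt
  obtain ⟨x, hx, hx0⟩ := (Submodule.ne_bot_iff _).mp hker
  have hx' := LinearMap.mem_ker.mp hx
  exact ⟨x.1, x.2, fun h0 => hx0 (Subtype.ext h0), hx'⟩

theorem exists_nonisotropic (hF : Fintype.card F = q ^ 2) (U : Submodule F VV)
    (hN : NDeg q U) (hne : U ≠ ⊥) : ∃ w ∈ U, hf w w ≠ 0 := by
  by_contra hcon
  push Not at hcon
  obtain ⟨u, hu, hu0⟩ := Submodule.exists_mem_ne_zero_of_ne_bot hne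
  have hex : ∃ v ∈ U, hf u v ≠ 0 := by
    by_contra h
    push Not at h
    exact hu0 (hN u hu h)
  obtain ⟨v, hv, huv⟩ := hex
  have key : ∀ l : F, l * hf u v + l ^ q * (hf u v) ^ q = 0 := by
    intro l
    have := hcon (l • u + v) (U.add_mem (U.smul_mem l hu) hv)
    rw [herm_add_left, herm_add_right hF, herm_add_right hF, herm_smul_left, herm_smul_left,
      herm_smul_right, herm_smul_right, hcon u hu, hcon v hv] at this
    have hvu : hf v u = (hf u v) ^ q := (herm_conj hF u v).symm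
    rw [hvu] at this
    linear_combination this
  obtain ⟨x, hx⟩ := exists_not_fixed hF
  have h1 := key 1
  rw [one_mul, one_pow, one_mul] at h1
  have h2 := key x
  have h3 : (x - x ^ q) * hf u v = 0 := by
    have : (hf u v) ^ q = - hf u v := by linear_combination h1
    rw [this] at h2
    linear_combination h2
  rcases mul_eq_zero.mp h3 with h4 | h4
  · exact hx (by linear_combination -h4)
  · exact huv h4

theorem iso_comb (hF : Fintype.card F = q ^ 2) (u k : VV) :
    ∃ a b : F, (a ≠ 0 ∨ b ≠ 0) ∧ hf (a • u + b • k) (a • u + b • k) = 0 := by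
  by_cases hu : hf u u = 0
  · refine ⟨1, 0, Or.inl one_ne_zero, ?_⟩
    rw [one_smul, zero_smul, add_zero, hu]
  · set ν₁ := hf u u with hν₁
    have hν₁q : ν₁ ^ q = ν₁ := herm_pow_q hF n u
    set k₁ : VV := k - (hf k u / ν₁) • u with hk₁
    have h1 : hf k₁ u = 0 := by
      rw [hk₁, herm_sub_left, herm_smul_left, ← hν₁, div_mul_cancel₀ _ hu, sub_self]
    have h1' : hf u k₁ = 0 := by rw [← herm_conj hF, h1, zero_pow (q_ne_zero hF)]
    by_cases hk : hf k₁ k₁ = 0
    · refine ⟨-(hf k u / ν₁), 1, Or.inr one_ne_zero, ?_⟩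
      have : -(hf k u / ν₁) • u + (1 : F) • k = k₁ := by rw [hk₁]; module
      rw [this, hk]
    · set ν₂ := hf k₁ k₁ with hν₂
      have hν₂q : ν₂ ^ q = ν₂ := herm_pow_q hF n k₁
      have hd : (-ν₁ / ν₂) ^ q = -ν₁ / ν₂ := by
        rw [div_pow, neg_pow_q' hF, hν₁q, hν₂q]
      have hd0 : -ν₁ / ν₂ ≠ 0 := div_ne_zero (neg_ne_zero.mpr hu) hk
      obtain ⟨l, hl⟩ := exists_norm hF _ hd hd0
      have hl0 : l ≠ 0 := by
        intro h0
        rw [h0, zero_mul] at hl
        exact hd0 hl.symm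
      refine ⟨1 - l * (hf k u / ν₁), l, Or.inr hl0, ?_⟩
      have : (1 - l * (hf k u / ν₁)) • u + l • k = u + l • k₁ := by rw [hk₁]; module
      rw [this, herm_add_left, herm_add_right hF, herm_add_right hF, herm_smul_left,
        herm_smul_left, herm_smul_right, herm_smul_right, h1, h1', ← hν₁, ← hν₂]
      have : l * (l ^ q * ν₂) = -ν₁ := by
        rw [← mul_assoc, hl, div_mul_cancel₀ _ hk]
      linear_combination this

theorem exists_partner_u (hF : Fintype.card F = q ^ 2) (U : Submodule F VV) (hN : NDeg q U)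
    (x : VV) (hx : x ∈ U) (hx0 : x ≠ 0) (hxx : hf x x = 0) :
    ∃ y ∈ U, hf y y = 0 ∧ hf x y = 1 := by
  have hex : ∃ v ∈ U, hf x v ≠ 0 := by
    by_contra h
    push Not at h
    exact hx0 (hN x hx h)
  obtain ⟨y₀, hy₀, hβ⟩ := hex
  obtain ⟨y₁, hy₁⟩ : ∃ y₁ : VV, y₁ = (((hf x y₀)⁻¹) ^ q) • y₀ := ⟨_, rfl⟩
  have hy₁U : y₁ ∈ U := by rw [hy₁]; exact U.smul_mem _ hy₀
  have h1 : hf x y₁ = 1 := by
    rw [hy₁, herm_smul_right, pow_q_q hF, inv_mul_cancel₀ hβ]
  have h1' : hf y₁ x = 1 := by rw [← herm_conj hF, h1, one_pow]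
  set ν₀ := hf y₁ y₁ with hν₀
  have hν₀q : ν₀ ^ q = ν₀ := herm_pow_q hF n y₁
  obtain ⟨μ, hμ⟩ := exists_trace hF (-ν₀) (by rw [neg_pow_q' hF, hν₀q])
  refine ⟨y₁ + μ • x, U.add_mem hy₁U (U.smul_mem _ hx), ?_, ?_⟩
  · rw [herm_add_left, herm_add_right hF, herm_add_right hF, herm_smul_left, herm_smul_left,
      herm_smul_right, herm_smul_right, hxx, h1, h1', ← hν₀]
    linear_combination hμ
  · rw [herm_add_right hF, herm_smul_right, hxx, h1]; ring

theorem herm_yx_of_xy (hF : Fintype.card F = q ^ 2) (x y : VV) (hxy : hf x y = 1) :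
    hf y x = 1 := by
  rw [← herm_conj hF, hxy, one_pow]

theorem herm_eq_zero_symm (hF : Fintype.card F = q ^ 2) (x y : VV) (hxy : hf x y = 0) :
    hf y x = 0 := by
  rw [← herm_conj hF, hxy, zero_pow (q_ne_zero hF)]

theorem sub_mem_perp (hF : Fintype.card F = q ^ 2) (x y : VV) (hx : hf x x = 0)
    (hy : hf y y = 0) (hxy : hf x y = 1) (u : VV) :
    u - hf u y • x - hf u x • y ∈ perpS q ({x, y} : Set VV) := by
  have hyx := herm_yx_of_xy hF x y hxy
  intro s hs
  rcases hs with rfl | hs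
  · rw [herm_sub_left, herm_sub_left, herm_smul_left, herm_smul_left, hx, hyx]; ring
  · rw [Set.mem_singleton_iff] at hs
    subst hs
    rw [herm_sub_left, herm_sub_left, herm_smul_left, herm_smul_left, hy, hxy]; ring

theorem ndeg_sub (hF : Fintype.card F = q ^ 2) (U : Submodule F VV) (hN : NDeg q U)
    (x y : VV) (hxU : x ∈ U) (hyU : y ∈ U) (hx : hf x x = 0) (hy : hf y y = 0)
    (hxy : hf x y = 1) : NDeg q (U ⊓ perpS q ({x, y} : Set VV)) := by
  intro u₀ hu₀ h
  obtain ⟨hu₀U, hu₀P⟩ := Submodule.mem_inf.mp hu₀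
  apply hN u₀ hu₀U
  intro v hv
  have hv₀ : v - hf v y • x - hf v x • y ∈ U ⊓ perpS q ({x, y} : Set VV) :=
    Submodule.mem_inf.mpr ⟨U.sub_mem (U.sub_mem hv (U.smul_mem _ hxU)) (U.smul_mem _ hyU),
      sub_mem_perp hF x y hx hy hxy v⟩
  have h0 := h _ hv₀
  have hx0 : hf u₀ x = 0 := hu₀P x (Set.mem_insert _ _)
  have hy0 : hf u₀ y = 0 := hu₀P y (Set.mem_insert_of_mem _ rfl)
  rw [herm_sub_right hF, herm_sub_right hF, herm_smul_right, herm_smul_right, hx0, hy0] at h0
  linear_combination h0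

theorem finrank_sub (hF : Fintype.card F = q ^ 2) (U : Submodule F VV)
    (x y : VV) (hxU : x ∈ U) (hyU : y ∈ U) (hx : hf x x = 0) (hy : hf y y = 0)
    (hxy : hf x y = 1) :
    Module.finrank F U = Module.finrank F (U ⊓ perpS q ({x, y} : Set VV) : Submodule F VV) + 2 := by
  have hyx := herm_yx_of_xy hF x y hxy
  set Φ : U →ₗ[F] (Fin 2 → F) :=
    LinearMap.pi ![(hermL q y).comp U.subtype, (hermL q x).comp U.subtype] with hΦ
  have hΦ0 : ∀ u : U, Φ u 0 = hf u.1 y := fun u => rfl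
  have hΦ1 : ∀ u : U, Φ u 1 = hf u.1 x := fun u => rfl
  have hsurj : LinearMap.range Φ = ⊤ := by
    rw [eq_top_iff]
    intro w _
    refine ⟨⟨w 0 • x + w 1 • y, U.add_mem (U.smul_mem _ hxU) (U.smul_mem _ hyU)⟩, ?_⟩
    funext i
    fin_cases i
    · show Φ _ 0 = w 0
      rw [hΦ0, herm_add_left, herm_smul_left, herm_smul_left, hxy, hy]; ring
    · show Φ _ 1 = w 1
      rw [hΦ1, herm_add_left, herm_smul_left, herm_smul_left, hx, hyx]; ring
  have hker : (LinearMap.ker Φ).map U.subtype = U ⊓ perpS q ({x, y} : Set VV) := by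
    ext v
    constructor
    · rintro ⟨u, hu, rfl⟩
      have hu' := LinearMap.mem_ker.mp hu
      refine Submodule.mem_inf.mpr ⟨u.2, ?_⟩
      intro s hs
      rcases hs with rfl | hs
      · have := congrFun hu' 1
        rw [hΦ1] at this
        exact this
      · rw [Set.mem_singleton_iff] at hs
        subst hs
        have := congrFun hu' 0
        rw [hΦ0] at this
        exact this
    · intro hv
      obtain ⟨hvU, hvP⟩ := Submodule.mem_inf.mp hv
      refine ⟨⟨v, hvU⟩, ?_, rfl⟩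
      rw [SetLike.mem_coe, LinearMap.mem_ker]
      funext i
      fin_cases i
      · show Φ _ 0 = 0
        rw [hΦ0]
        exact hvP y (Set.mem_insert_of_mem _ rfl)
      · show Φ _ 1 = 0
        rw [hΦ1]
        exact hvP x (Set.mem_insert _ _)
  have h1 := LinearMap.finrank_range_add_finrank_ker Φ
  rw [hsurj, finrank_top, Module.finrank_fin_fun] at h1
  rw [← hker, Submodule.finrank_map_subtype_eq]
  omega

theorem exists_iso_pairing (hF : Fintype.card F = q ^ 2) (U : Submodule F VV) (hN : NDeg q U)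
    (h2 : 2 ≤ Module.finrank F U) (w : VV) (hw : w ∈ U) (hw0 : w ≠ 0) :
    ∃ p ∈ U, hf p p = 0 ∧ hf p w ≠ 0 := by
  by_contra hcon
  push Not at hcon
  have hex : ∃ v ∈ U, hf w v ≠ 0 := by
    by_contra h
    push Not at h
    exact hw0 (hN w hw h)
  obtain ⟨u₁, hu₁, hwu⟩ := hex
  have hu₁w : hf u₁ w ≠ 0 := by
    intro h0
    exact hwu (herm_eq_zero_symm hF _ _ h0)
  have hK : ∀ k ∈ U, hf k w = 0 → hf k k = 0 := by
    intro k hk hkw
    obtain ⟨a, b, hab, hiso⟩ := iso_comb hF u₁ k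
    have hmem : a • u₁ + b • k ∈ U := U.add_mem (U.smul_mem _ hu₁) (U.smul_mem _ hk)
    have h0 := hcon _ hmem hiso
    rw [herm_add_left, herm_smul_left, herm_smul_left, hkw, mul_zero, add_zero] at h0
    have ha : a = 0 := by
      rcases mul_eq_zero.mp h0 with h | h
      · exact h
      · exact absurd h hu₁w
    have hb : b ≠ 0 := by
      rcases hab with h | h
      · exact absurd ha h
      · exact h
    rw [ha, zero_smul, zero_add, herm_smul_smul] at hiso
    rcases mul_eq_zero.mp hiso with h | h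
    · exfalso
      rcases mul_eq_zero.mp h with h' | h'
      · exact hb h'
      · exact hb (pow_eq_zero_iff (q_ne_zero hF) |>.mp h')
    · exact h
  obtain ⟨k, hk, hk0, hkw⟩ := exists_perp1 U h2 w
  have hkk := hK k hk hkw
  obtain ⟨k', hk', hk'k', hkk'⟩ := exists_partner_u hF U hN k hk hk0 hkk
  have hk'w := hcon k' hk' hk'k'
  obtain ⟨l, hl⟩ := exists_trace hF (1 : F) (one_pow q)
  have hmem : k + l • k' ∈ U := U.add_mem hk (U.smul_mem _ hk')
  have h0 := hK _ hmem (by rw [herm_add_left, herm_smul_left, hkw, hk'w]; ring)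
  rw [herm_add_left, herm_add_right hF, herm_add_right hF, herm_smul_left, herm_smul_left,
    herm_smul_right, herm_smul_right, hkk, hk'k', hkk', herm_yx_of_xy hF k k' hkk'] at h0
  have : (1 : F) = 0 := by linear_combination h0 - hl
  exact one_ne_zero this

theorem exists_isotropic (hF : Fintype.card F = q ^ 2) (U : Submodule F VV)
    (h2 : 2 ≤ Module.finrank F U) : ∃ x ∈ U, x ≠ 0 ∧ hf x x = 0 := by
  obtain ⟨u₁, hu₁, hu₁0, -⟩ := exists_perp1 (q := q) U h2 0
  by_cases hiso : hf u₁ u₁ = 0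
  · exact ⟨u₁, hu₁, hu₁0, hiso⟩
  · obtain ⟨k, hk, hk0, hku⟩ := exists_perp1 (q := q) U h2 u₁
    obtain ⟨a, b, hab, hx⟩ := iso_comb hF u₁ k
    refine ⟨a • u₁ + b • k, U.add_mem (U.smul_mem _ hu₁) (U.smul_mem _ hk), ?_, hx⟩
    intro h0
    have h1 : hf (a • u₁ + b • k) u₁ = 0 := by rw [h0, herm_zero_left]
    rw [herm_add_left, herm_smul_left, herm_smul_left, hku, mul_zero, add_zero] at h1
    have ha : a = 0 := by
      rcases mul_eq_zero.mp h1 with h | h
      · exact h
      · exact absurd h hiso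
    have hb : b ≠ 0 := by
      rcases hab with h | h
      · exact absurd ha h
      · exact h
    rw [ha, zero_smul, zero_add] at h0
    rcases smul_eq_zero.mp h0 with h | h
    · exact hb h
    · exact hk0 h

theorem exists_hyp_pair (hF : Fintype.card F = q ^ 2) (U : Submodule F VV) (hN : NDeg q U)
    (h2 : 2 ≤ Module.finrank F U) :
    ∃ x ∈ U, ∃ y ∈ U, hf x x = 0 ∧ hf y y = 0 ∧ hf x y = 1 := by
  obtain ⟨x, hx, hx0, hxx⟩ := exists_isotropic hF U h2
  obtain ⟨y, hy, hyy, hxy⟩ := exists_partner_u hF U hN x hx hx0 hxx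
  exact ⟨x, hx, y, hy, hxx, hyy, hxy⟩

/-- the group generated by the unitary transvections with centre in `U` -/
def TUin (q : ℕ) (U : Submodule F (Fin n → F)) : Subgroup (GL (Fin n) F) :=
  Subgroup.closure {g | ∃ (z : Fin n → F) (c : F), z ∈ U ∧ Cfsg.hermForm n F q z z = 0 ∧
    c ^ q = -c ∧ g = TTu q z c}

theorem TTu_mem_TUin (U : Submodule F VV) (z : VV) (c : F) (hzU : z ∈ U) (hz : hf z z = 0)
    (hc : c ^ q = -c) : (TTu q z c : GL (Fin n) F) ∈ TUin q U :=
  Subgroup.subset_closure ⟨z, c, hzU, hz, hc, rfl⟩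

theorem TUin_mono {U U' : Submodule F VV} (h : U ≤ U') : TUin q U ≤ TUin q U' := by
  apply Subgroup.closure_mono
  rintro g ⟨z, c, hzU, hz, hc, rfl⟩
  exact ⟨z, c, h hzU, hz, hc, rfl⟩

theorem TUin_le_SUG (hF : Fintype.card F = q ^ 2) (U : Submodule F VV) :
    TUin q U ≤ SUG n F q := by
  unfold TUin
  rw [Subgroup.closure_le]
  rintro g ⟨z, c, hzU, hz, hc, rfl⟩
  exact TTu_mem_SUG hF z c hz hc

theorem TUin_fix (U : Submodule F VV) (t : GL (Fin n) F) (ht : t ∈ TUin q U) (v : VV)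
    (hv : ∀ u ∈ U, hf v u = 0) : (t : MM) *ᵥ v = v := by
  unfold TUin at ht
  induction ht using Subgroup.closure_induction with
  | mem g hg =>
    obtain ⟨z, c, hzU, hz, hc, rfl⟩ := hg
    rw [TTu_mulVec z c hz, hv z hzU, mul_zero, zero_smul, add_zero]
  | one => exact gl_one_mulVec v
  | mul a b _ _ iha ihb => rw [gl_mul_mulVec, ihb, iha]
  | inv a _ iha =>
    have := gl_inv_mulVec a v
    rw [iha] at this
    exact this

theorem TUin_pres' (U : Submodule F VV) (t : GL (Fin n) F) (ht : t ∈ TUin q U) :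
    ∀ u ∈ U, (t : MM) *ᵥ u ∈ U ∧ ((t⁻¹ : GL (Fin n) F) : MM) *ᵥ u ∈ U := by
  unfold TUin at ht
  induction ht using Subgroup.closure_induction with
  | mem g hg =>
    obtain ⟨z, c, hzU, hz, hc, rfl⟩ := hg
    intro u hu
    rw [TTu_inv z c hz, TTu_mulVec z c hz, TTu_mulVec z (-c) hz]
    exact ⟨U.add_mem hu (U.smul_mem _ hzU), U.add_mem hu (U.smul_mem _ hzU)⟩
  | one =>
    intro u hu
    rw [inv_one, gl_one_mulVec]
    exact ⟨hu, hu⟩
  | mul a b _ _ iha ihb =>
    intro u hu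
    rw [_root_.mul_inv_rev, gl_mul_mulVec, gl_mul_mulVec]
    exact ⟨(iha _ (ihb u hu).1).1, (ihb _ (iha u hu).2).2⟩
  | inv a _ iha =>
    intro u hu
    rw [inv_inv]
    exact ⟨(iha u hu).2, (iha u hu).1⟩

theorem TUin_pres (U : Submodule F VV) (t : GL (Fin n) F) (ht : t ∈ TUin q U) (u : VV)
    (hu : u ∈ U) : (t : MM) *ᵥ u ∈ U := (TUin_pres' U t ht u hu).1

end unitB

end Cfsg.Agent.helper29
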