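import Mathlib
import Cfsg.Agent.Lib_helper29_UnitB

set_option autoImplicit false
set_option linter.unusedSectionVars false
set_option linter.unusedVariables false

namespace Cfsg.Agent.helper29

open Matrix Cfsg Cfsg.Agent.helper11.HermCount Cfsg.Agent.helper11.Unitary

section unitC

variable {F : Type*} [Field F] [Fintype F] {q n : ℕ}

local notation "hf" => Cfsg.hermForm n F q
local notation "VV" => (Fin n → F)
local notation "MM" => Matrix (Fin n) (Fin n) F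

/-- one transvection moving `x` to `x'` -/
theorem move1 (hF : Fintype.card F = q ^ 2) (U : Submodule F VV) (x x' : VV) (hxU : x ∈ U)
    (hx'U : x' ∈ U) (hx : hf x x = 0) (hx' : hf x' x' = 0) (hα : (hf x x') ^ q = - hf x x')
    (hα0 : hf x x' ≠ 0) :
    ∃ t ∈ TUin q U, (t : MM) *ᵥ x = x' ∧ ∀ v : VV, hf v x = hf v x' → (t : MM) *ᵥ v = v := by
  have hx'x : hf x' x = - hf x x' := by rw [← herm_conj hF, hα]
  have hz : hf (x - x') (x - x') = 0 := by
    rw [herm_sub_left, herm_sub_right hF, herm_sub_right hF, hx, hx', hx'x]; ring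
  have hc : ((hf x x')⁻¹) ^ q = - (hf x x')⁻¹ := by
    rw [inv_pow, hα, inv_neg]
  refine ⟨TTu q (x - x') (hf x x')⁻¹, TTu_mem_TUin U _ _ (U.sub_mem hxU hx'U) hz hc, ?_, ?_⟩
  · rw [TTu_mulVec _ _ hz, herm_sub_right hF, hx, zero_sub, mul_neg, inv_mul_cancel₀ hα0]
    module
  · intro v hv
    rw [TTu_mulVec _ _ hz, herm_sub_right hF, hv, sub_self, mul_zero, zero_smul, add_zero]

theorem two_step (hF : Fintype.card F = q ^ 2) (U : Submodule F VV) (x w x' : VV) (hxU : x ∈ U)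
    (hwU : w ∈ U) (hx'U : x' ∈ U) (hx : hf x x = 0) (hw : hf w w = 0) (hx' : hf x' x' = 0)
    (h1 : (hf x w) ^ q = - hf x w) (h1' : hf x w ≠ 0)
    (h2 : (hf w x') ^ q = - hf w x') (h2' : hf w x' ≠ 0) :
    ∃ t ∈ TUin q U, (t : MM) *ᵥ x = x' := by
  obtain ⟨t₁, ht₁, e₁, -⟩ := move1 hF U x w hxU hwU hx hw h1 h1'
  obtain ⟨t₂, ht₂, e₂, -⟩ := move1 hF U w x' hwU hx'U hw hx' h2 h2'
  refine ⟨t₂ * t₁, (TUin q U).mul_mem ht₂ ht₁, ?_⟩
  rw [gl_mul_mulVec, e₁, e₂]

theorem perp_pair_mem (S : Set VV) (w : VV) (hw : w ∈ perpS q S) (s : VV) (hs : s ∈ S) :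
    hf w s = 0 := hw s hs

/-- transitivity on isotropic vectors: the non-orthogonal case -/
theorem H1a (hF : Fintype.card F = q ^ 2) (U : Submodule F VV) (hN : NDeg q U)
    (h3 : 3 ≤ Module.finrank F U) (x x' : VV) (hxU : x ∈ U) (hx'U : x' ∈ U)
    (hx : hf x x = 0) (hx' : hf x' x' = 0) (hα0 : hf x x' ≠ 0) :
    ∃ t ∈ TUin q U, (t : MM) *ᵥ x = x' := by
  by_cases hα : (hf x x') ^ q = - hf x x'
  · obtain ⟨t, ht, e, -⟩ := move1 hF U x x' hxU hx'U hx hx' hα hα0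
    exact ⟨t, ht, e⟩
  · obtain ⟨α, hαdef⟩ : ∃ α : F, α = hf x x' := ⟨_, rfl⟩
    rw [← hαdef] at hα hα0
    have hαq0 : α ^ q ≠ 0 := pow_ne_zero q hα0
    have hsum : α + α ^ q ≠ 0 := fun h => hα (by linear_combination h)
    obtain ⟨x'', hx''def⟩ : ∃ x'' : VV, x'' = ((α ^ q)⁻¹) • x' := ⟨_, rfl⟩
    have hx''U : x'' ∈ U := by rw [hx''def]; exact U.smul_mem _ hx'U
    have hx'eq : x' = (α ^ q) • x'' := by
      rw [hx''def, smul_smul, mul_inv_cancel₀ hαq0, one_smul]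
    have hxx'' : hf x x'' = 1 := by
      rw [hx''def, herm_smul_right, inv_pow, pow_q_q hF, ← hαdef, inv_mul_cancel₀ hα0]
    have hx''x : hf x'' x = 1 := herm_yx_of_xy hF x x'' hxx''
    have hx''x'' : hf x'' x'' = 0 := by
      rw [hx''def, herm_smul_smul, hx', mul_zero]
    -- the complement
    have hN' := ndeg_sub hF U hN x x'' hxU hx''U hx hx''x'' hxx''
    have hfr := finrank_sub hF U x x'' hxU hx''U hx hx''x'' hxx''
    have hne : (U ⊓ perpS q ({x, x''} : Set VV) : Submodule F VV) ≠ ⊥ := by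
      intro hbot
      rw [hbot, finrank_bot] at hfr
      omega
    obtain ⟨w₀, hw₀, hν₀⟩ := exists_nonisotropic hF _ hN' hne
    obtain ⟨hw₀U, hw₀P⟩ := Submodule.mem_inf.mp hw₀
    have hw₀x : hf w₀ x = 0 := hw₀P x (Set.mem_insert _ _)
    have hw₀x'' : hf w₀ x'' = 0 := hw₀P x'' (Set.mem_insert_of_mem _ rfl)
    have hxw₀ : hf x w₀ = 0 := herm_eq_zero_symm hF _ _ hw₀x
    have hx''w₀ : hf x'' w₀ = 0 := herm_eq_zero_symm hF _ _ hw₀x''
    obtain ⟨ν₀, hν₀def⟩ : ∃ ν₀ : F, ν₀ = hf w₀ w₀ := ⟨_, rfl⟩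
    have hν₀q : ν₀ ^ q = ν₀ := by rw [hν₀def]; exact herm_pow_q hF n w₀
    rw [← hν₀def] at hν₀
    obtain ⟨ε, hε0, hε⟩ := exists_eps hF
    obtain ⟨κ, hκdef⟩ : ∃ κ : F, κ = ν₀ * (α * α ^ q) / (ε * (α + α ^ q)) := ⟨_, rfl⟩
    have hκ0 : κ ≠ 0 := by
      rw [hκdef]
      exact div_ne_zero (mul_ne_zero hν₀ (mul_ne_zero hα0 hαq0)) (mul_ne_zero hε0 hsum)
    have hκq : κ ^ q = -κ := by
      rw [hκdef]
      simp only [div_pow, mul_pow, add_pow_q hF, pow_q_q hF, hν₀q, hε]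
      rw [neg_mul, div_neg, add_comm (α ^ q) α, mul_comm (α ^ q) α]
    obtain ⟨w, hwdef⟩ : ∃ w : VV, w = (κ / α) • x + ε • x'' + w₀ := ⟨_, rfl⟩
    have hwU : w ∈ U := by
      rw [hwdef]
      exact U.add_mem (U.add_mem (U.smul_mem _ hxU) (U.smul_mem _ hx''U)) hw₀U
    have hxw : hf x w = -ε := by
      rw [hwdef]
      simp only [herm_add_right hF, herm_smul_right, hx, hxx'', hxw₀, hε]
      ring
    have hwx'' : hf w x'' = κ / α := by
      rw [hwdef]
      simp only [herm_add_left, herm_smul_left, hxx'', hx''x'', hw₀x'']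
      ring
    have hwx' : hf w x' = κ := by
      rw [hx'eq, herm_smul_right, pow_q_q hF, hwx'', mul_div_cancel₀ _ hα0]
    have hww : hf w w = 0 := by
      have e1 : ∀ v : VV, hf w v = (κ / α) * hf x v + ε * hf x'' v + hf w₀ v := by
        intro v
        rw [hwdef, herm_add_left, herm_add_left, herm_smul_left, herm_smul_left]
      have e2 : hf x'' w = (κ / α) ^ q := by
        rw [hwdef]
        simp only [herm_add_right hF, herm_smul_right, hx''x, hx''x'', hx''w₀]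
        ring
      have e3 : hf w₀ w = ν₀ := by
        rw [hwdef]
        simp only [herm_add_right hF, herm_smul_right, hw₀x, hw₀x'', ← hν₀def]
        ring
      rw [e1 w, hxw, e2, e3, div_pow, hκq, hκdef]
      field_simp
      ring
    have h1 : (hf x w) ^ q = - hf x w := by rw [hxw, neg_pow_q' hF, hε]
    have h1' : hf x w ≠ 0 := by rw [hxw]; exact neg_ne_zero.mpr hε0
    have h2 : (hf w x') ^ q = - hf w x' := by rw [hwx', hκq]
    have h2' : hf w x' ≠ 0 := by rw [hwx']; exact hκ0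
    exact two_step hF U x w x' hxU hwU hx'U hx hww hx' h1 h1' h2 h2'

/-- transitivity on isotropic vectors -/
theorem H1 (hF : Fintype.card F = q ^ 2) (U : Submodule F VV) (hN : NDeg q U)
    (h3 : 3 ≤ Module.finrank F U) (x x' : VV) (hxU : x ∈ U) (hx'U : x' ∈ U)
    (hx : hf x x = 0) (hx' : hf x' x' = 0) (hx0 : x ≠ 0) (hx'0 : x' ≠ 0) :
    ∃ t ∈ TUin q U, (t : MM) *ᵥ x = x' := by
  by_cases hα0 : hf x x' = 0
  · -- find `w` isotropic, not orthogonal to either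
    have hex : ∃ w ∈ U, hf w w = 0 ∧ hf x w ≠ 0 ∧ hf w x' ≠ 0 := by
      obtain ⟨y, hyU, hyy, hxy⟩ := exists_partner_u hF U hN x hxU hx0 hx
      obtain ⟨y', hy'U, hy'y', hx'y'⟩ := exists_partner_u hF U hN x' hx'U hx'0 hx'
      have hy'x' : hf y' x' = 1 := herm_yx_of_xy hF _ _ hx'y'
      by_cases h1 : hf y x' = 0
      · by_cases h2 : hf x y' = 0
        · obtain ⟨ε, hε0, hε⟩ := exists_eps hF
          obtain ⟨β, hβdef⟩ : ∃ β : F, β = hf y y' := ⟨_, rfl⟩
          have hy'y : hf y' y = β ^ q := by rw [hβdef, herm_conj hF]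
          by_cases hβ : β = 0
          · refine ⟨y + y', U.add_mem hyU hy'U, ?_, ?_, ?_⟩
            · rw [herm_add_left, herm_add_right hF, herm_add_right hF, hyy, hy'y', hy'y, ← hβdef,
                hβ, zero_pow (q_ne_zero hF)]
              ring
            · rw [herm_add_right hF, hxy, h2, add_zero]; exact one_ne_zero
            · rw [herm_add_left, h1, hy'x', zero_add]; exact one_ne_zero
          · have hβq : β ^ q ≠ 0 := pow_ne_zero q hβ
            refine ⟨y + (ε / β ^ q) • y', U.add_mem hyU (U.smul_mem _ hy'U), ?_, ?_, ?_⟩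
            · rw [herm_add_left, herm_add_right hF, herm_add_right hF, herm_smul_left,
                herm_smul_left, herm_smul_right, herm_smul_right, hyy, hy'y', hy'y, ← hβdef,
                div_pow, pow_q_q hF, hε]
              field_simp
              ring
            · rw [herm_add_right hF, herm_smul_right, hxy, h2, mul_zero, add_zero]
              exact one_ne_zero
            · rw [herm_add_left, herm_smul_left, h1, hy'x', zero_add, mul_one]
              exact div_ne_zero hε0 hβq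
        · refine ⟨y', hy'U, hy'y', h2, ?_⟩
          rw [hy'x']; exact one_ne_zero
      · refine ⟨y, hyU, hyy, ?_, h1⟩
        rw [hxy]; exact one_ne_zero
    obtain ⟨w, hwU, hww, hxw, hwx'⟩ := hex
    obtain ⟨t₁, ht₁, e₁⟩ := H1a hF U hN h3 x w hxU hwU hx hww hxw
    obtain ⟨t₂, ht₂, e₂⟩ := H1a hF U hN h3 w x' hwU hx'U hww hx' hwx'
    refine ⟨t₂ * t₁, (TUin q U).mul_mem ht₂ ht₁, ?_⟩
    rw [gl_mul_mulVec, e₁, e₂]
  · exact H1a hF U hN h3 x x' hxU hx'U hx hx' hα0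

/-- the stabilizer of `x` is transitive on its hyperbolic partners -/
theorem H2 (hF : Fintype.card F = q ^ 2) (U : Submodule F VV) (hN : NDeg q U)
    (h4 : 4 ≤ Module.finrank F U) (x y y' : VV) (hxU : x ∈ U) (hyU : y ∈ U) (hy'U : y' ∈ U)
    (hx : hf x x = 0) (hy : hf y y = 0) (hy' : hf y' y' = 0) (hxy : hf x y = 1)
    (hxy' : hf x y' = 1) :
    ∃ t ∈ TUin q U, (t : MM) *ᵥ x = x ∧ (t : MM) *ᵥ y = y' := by
  have hyx : hf y x = 1 := herm_yx_of_xy hF _ _ hxy
  have hy'x : hf y' x = 1 := herm_yx_of_xy hF _ _ hxy'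
  obtain ⟨μ, hμdef⟩ : ∃ μ : F, μ = hf y' y := ⟨_, rfl⟩
  obtain ⟨w', hw'def⟩ : ∃ w' : VV, w' = y' - y - μ • x := ⟨_, rfl⟩
  have hy'eq : y' = y + w' + μ • x := by rw [hw'def]; abel
  have hw'U : w' ∈ U := by
    rw [hw'def]; exact U.sub_mem (U.sub_mem hy'U hyU) (U.smul_mem _ hxU)
  have hw'x : hf w' x = 0 := by
    rw [hw'def, herm_sub_left, herm_sub_left, herm_smul_left, hy'x, hyx, hx]; ring
  have hw'y : hf w' y = 0 := by
    rw [hw'def, herm_sub_left, herm_sub_left, herm_smul_left, ← hμdef, hy, hxy]; ring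
  have hxw' : hf x w' = 0 := herm_eq_zero_symm hF _ _ hw'x
  have hyw' : hf y w' = 0 := herm_eq_zero_symm hF _ _ hw'y
  have hyy' : hf y y' = μ ^ q := by rw [hμdef, herm_conj hF]
  by_cases hw'0 : w' = 0
  · -- `y' = y + μ x`
    by_cases hμ0 : μ = 0
    · refine ⟨1, (TUin q U).one_mem, gl_one_mulVec x, ?_⟩
      rw [gl_one_mulVec, hy'eq, hw'0, hμ0, zero_smul, add_zero, add_zero]
    · have hμq : μ ^ q = -μ := by
        have h := hy'
        rw [hy'eq, hw'0, add_zero, herm_add_left, herm_add_right hF, herm_add_right hF,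
          herm_smul_left, herm_smul_left, herm_smul_right, herm_smul_right, hy, hx, hyx, hxy] at h
        linear_combination h
      have h1 : (hf y y') ^ q = - hf y y' := by rw [hyy', pow_q_q hF, hμq, neg_neg]
      have h1' : hf y y' ≠ 0 := by rw [hyy']; exact pow_ne_zero q hμ0
      obtain ⟨t, ht, e, hfix⟩ := move1 hF U y y' hyU hy'U hy hy' h1 h1'
      exact ⟨t, ht, hfix x (by rw [hxy, hxy']), e⟩
  · -- general case
    have hN' := ndeg_sub hF U hN x y hxU hyU hx hy hxy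
    have hfr := finrank_sub hF U x y hxU hyU hx hy hxy
    have h2 : 2 ≤ Module.finrank F (U ⊓ perpS q ({x, y} : Set VV) : Submodule F VV) := by omega
    have hw'mem : w' ∈ U ⊓ perpS q ({x, y} : Set VV) := by
      refine Submodule.mem_inf.mpr ⟨hw'U, ?_⟩
      intro s hs
      rcases hs with rfl | hs
      · exact hw'x
      · rw [Set.mem_singleton_iff] at hs; subst hs; exact hw'y
    obtain ⟨p, hp, hpp, hγ⟩ := exists_iso_pairing hF _ hN' h2 w' hw'mem hw'0
    obtain ⟨hpU, hpP⟩ := Submodule.mem_inf.mp hp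
    have hpx : hf p x = 0 := hpP x (Set.mem_insert _ _)
    have hpy : hf p y = 0 := hpP y (Set.mem_insert_of_mem _ rfl)
    have hxp : hf x p = 0 := herm_eq_zero_symm hF _ _ hpx
    have hyp : hf y p = 0 := herm_eq_zero_symm hF _ _ hpy
    obtain ⟨ε, hε0, hε⟩ := exists_eps hF
    obtain ⟨γ, hγdef⟩ : ∃ γ : F, γ = hf p w' := ⟨_, rfl⟩
    rw [← hγdef] at hγ
    obtain ⟨l, hldef⟩ : ∃ l : F, l = -(μ ^ q) / γ := ⟨_, rfl⟩
    obtain ⟨y'', hy''def⟩ : ∃ y'' : VV, y'' = y + l • p + ε • x := ⟨_, rfl⟩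
    have hy''U : y'' ∈ U := by
      rw [hy''def]; exact U.add_mem (U.add_mem hyU (U.smul_mem _ hpU)) (U.smul_mem _ hxU)
    have hy''y'' : hf y'' y'' = 0 := by
      rw [hy''def]
      simp only [herm_add_left, herm_add_right hF, herm_smul_left, herm_smul_right, hy, hx, hpp,
        hpx, hpy, hxp, hyp, hxy, hyx, hε]
      ring
    have hxy'' : hf x y'' = 1 := by
      rw [hy''def]
      simp only [herm_add_right hF, herm_smul_right, hx, hxp, hxy]
      ring
    have hyy'' : hf y y'' = -ε := by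
      rw [hy''def]
      simp only [herm_add_right hF, herm_smul_right, hy, hyp, hyx, hε]
      ring
    have hy''y' : hf y'' y' = ε := by
      rw [hy''def, hy'eq]
      simp only [herm_add_left, herm_add_right hF, herm_smul_left, herm_smul_right, hy, hx, hpx,
        hpy, hxp, hyp, hxy, hyx, hxw', hyw', ← hγdef]
      rw [hldef]
      field_simp
      ring
    have h1 : (hf y y'') ^ q = - hf y y'' := by rw [hyy'', neg_pow_q' hF, hε]
    have h1' : hf y y'' ≠ 0 := by rw [hyy'']; exact neg_ne_zero.mpr hε0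
    have h2a : (hf y'' y') ^ q = - hf y'' y' := by rw [hy''y', hε]
    have h2' : hf y'' y' ≠ 0 := by rw [hy''y']; exact hε0
    obtain ⟨t₁, ht₁, e₁, hfix₁⟩ := move1 hF U y y'' hyU hy''U hy hy''y'' h1 h1'
    obtain ⟨t₂, ht₂, e₂, hfix₂⟩ := move1 hF U y'' y' hy''U hy'U hy''y'' hy' h2a h2'
    refine ⟨t₂ * t₁, (TUin q U).mul_mem ht₂ ht₁, ?_, ?_⟩
    · rw [gl_mul_mulVec, hfix₁ x (by rw [hxy, hxy'']), hfix₂ x (by rw [hxy'', hxy'])]
    · rw [gl_mul_mulVec, e₁, e₂]

/-- transitivity on hyperbolic pairs -/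
theorem Hpair (hF : Fintype.card F = q ^ 2) (U : Submodule F VV) (hN : NDeg q U)
    (h4 : 4 ≤ Module.finrank F U) (x y x' y' : VV) (hxU : x ∈ U) (hyU : y ∈ U)
    (hx'U : x' ∈ U) (hy'U : y' ∈ U)
    (hx : hf x x = 0) (hy : hf y y = 0) (hxy : hf x y = 1)
    (hx' : hf x' x' = 0) (hy' : hf y' y' = 0) (hx'y' : hf x' y' = 1) :
    ∃ t ∈ TUin q U, (t : MM) *ᵥ x' = x ∧ (t : MM) *ᵥ y' = y := by
  have hx0 : x ≠ 0 := by
    intro h; rw [h, herm_zero_left] at hxy; exact zero_ne_one hxy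
  have hx'0 : x' ≠ 0 := by
    intro h; rw [h, herm_zero_left] at hx'y'; exact zero_ne_one hx'y'
  obtain ⟨t₁, ht₁, e₁⟩ := H1 hF U hN (by omega) x' x hx'U hxU hx' hx hx'0 hx0
  have ht₁GU : t₁ ∈ Cfsg.GU n F q := (Subgroup.mem_inf.mp (TUin_le_SUG hF U ht₁)).1
  have hy₁U : (t₁ : MM) *ᵥ y' ∈ U := TUin_pres U t₁ ht₁ y' hy'U
  have hy₁ : hf ((t₁ : MM) *ᵥ y') ((t₁ : MM) *ᵥ y') = 0 := by rw [gu_herm t₁ ht₁GU, hy']
  have hxy₁ : hf x ((t₁ : MM) *ᵥ y') = 1 := by rw [← e₁, gu_herm t₁ ht₁GU, hx'y']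
  obtain ⟨t₂, ht₂, e₂, e₃⟩ := H2 hF U hN h4 x _ y hxU hy₁U hyU hx hy₁ hy hxy₁ hxy
  refine ⟨t₂ * t₁, (TUin q U).mul_mem ht₂ ht₁, ?_, ?_⟩
  · rw [gl_mul_mulVec, e₁, e₂]
  · rw [gl_mul_mulVec, e₃]

end unitC

end Cfsg.Agent.helper29
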