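import Mathlib
import Cfsg.Agent.Lib_helper29_UnitC

set_option autoImplicit false
set_option linter.unusedSectionVars false
set_option linter.unusedVariables false

namespace Cfsg.Agent.helper29

open Matrix Cfsg Cfsg.Agent.helper11.HermCount Cfsg.Agent.helper11.Unitary

section unitD

variable {F : Type*} [Field F] [Fintype F] {q n : ℕ}

local notation "hf" => Cfsg.hermForm n F q
local notation "VV" => (Fin n → F)
local notation "MM" => Matrix (Fin n) (Fin n) F

theorem perp_pres (g : GL (Fin n) F) (hg : g ∈ Cfsg.GU n F q) (S : Set VV)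
    (hfix : ∀ s ∈ S, (g : MM) *ᵥ s = s) (u : VV) (hu : u ∈ perpS q S) :
    (g : MM) *ᵥ u ∈ perpS q S := by
  intro s hs
  have := gu_herm g hg u s
  rw [hfix s hs] at this
  rw [this]
  exact hu s hs

theorem inv_fix (g : GL (Fin n) F) (S : Set VV) (hfix : ∀ s ∈ S, (g : MM) *ᵥ s = s) :
    ∀ s ∈ S, ((g⁻¹ : GL (Fin n) F) : MM) *ᵥ s = s := by
  intro s hs
  have := gl_inv_mulVec g s
  rw [hfix s hs] at this
  exact this

theorem perpS_union (S S' : Set VV) : perpS q (S ∪ S') = perpS q S ⊓ perpS q S' := by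
  ext v
  rw [Submodule.mem_inf, mem_perpS, mem_perpS, mem_perpS]
  constructor
  · intro h
    exact ⟨fun s hs => h s (Or.inl hs), fun s hs => h s (Or.inr hs)⟩
  · rintro ⟨h1, h2⟩ s hs
    rcases hs with hs | hs
    · exact h1 s hs
    · exact h2 s hs

theorem det_rank_two (hF : Fintype.card F = q ^ 2) (g : GL (Fin n) F) (x y p r : VV)
    (hform : ∀ v : VV, (g : MM) *ᵥ v = v + hf v y • p + hf v x • r) :
    (g : MM).det = (1 + hf p y) * (1 + hf r x) - hf r y * hf p x := by
  set A : Matrix (Fin n) (Fin 2) F := Matrix.of (fun i k => if k = 0 then p i else r i) with hA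
  set B : Matrix (Fin 2) (Fin n) F :=
    Matrix.of (fun k j => if k = 0 then (y j) ^ q else (x j) ^ q) with hB
  have hAB : (g : MM) = 1 + A * B := by
    rw [Matrix.ext_iff_mulVec]
    intro v
    rw [hform v, Matrix.add_mulVec, Matrix.one_mulVec, ← Matrix.mulVec_mulVec]
    funext i
    simp only [Pi.add_apply, Pi.smul_apply, smul_eq_mul, Matrix.mulVec, dotProduct,
      Fin.sum_univ_two, hA, hB, Matrix.of_apply, if_true, hermForm]
    have h10 : ((1 : Fin 2) = 0) = False := by simp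
    simp only [h10, if_false]
    have e1 : ∑ j, y j ^ q * v j = ∑ j, v j * y j ^ q :=
      Finset.sum_congr rfl (fun j _ => mul_comm _ _)
    have e2 : ∑ j, x j ^ q * v j = ∑ j, v j * x j ^ q :=
      Finset.sum_congr rfl (fun j _ => mul_comm _ _)
    rw [e1, e2]
    ring
  have hBA : B * A = !![hf p y, hf r y; hf p x, hf r x] := by
    ext i j
    fin_cases i <;> fin_cases j <;>
      simp [hA, hB, Matrix.mul_apply, hermForm, mul_comm]
  rw [hAB, Matrix.det_one_add_mul_comm, hBA, Matrix.det_fin_two]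
  simp

theorem base_plane_aux (hF : Fintype.card F = q ^ 2) (S : Set VV) (hN : NDeg q (perpS q S))
    (h2 : Module.finrank F (perpS q S : Submodule F VV) = 2)
    (x y : VV) (hxU : x ∈ perpS q S) (hyU : y ∈ perpS q S) (hx : hf x x = 0) (hy : hf y y = 0)
    (hxy : hf x y = 1) (g : GL (Fin n) F) (hg : g ∈ SUG n F q)
    (hfix : ∀ s ∈ S, (g : MM) *ᵥ s = s) (hc0 : hf ((g : MM) *ᵥ x) x ≠ 0) :
    g ∈ TUin q (⊤ : Submodule F VV) := by
  have hgGU : g ∈ Cfsg.GU n F q := (Subgroup.mem_inf.mp hg).1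
  have hgSL := (Subgroup.mem_inf.mp hg).2
  have hyx := herm_yx_of_xy hF x y hxy
  have hfr := finrank_sub hF (perpS q S) x y hxU hyU hx hy hxy
  have hbot : (perpS q S ⊓ perpS q ({x, y} : Set VV) : Submodule F VV) = ⊥ := by
    apply Submodule.finrank_eq_zero.mp
    omega
  have hdec : ∀ u ∈ perpS q S, u = hf u y • x + hf u x • y := by
    intro u hu
    have hmem : u - hf u y • x - hf u x • y ∈ perpS q S ⊓ perpS q ({x, y} : Set VV) :=
      Submodule.mem_inf.mpr ⟨Submodule.sub_mem _ (Submodule.sub_mem _ hu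
        (Submodule.smul_mem _ _ hxU)) (Submodule.smul_mem _ _ hyU),
        sub_mem_perp hF x y hx hy hxy u⟩
    rw [hbot, Submodule.mem_bot] at hmem
    calc u = (u - hf u y • x - hf u x • y) + (hf u y • x + hf u x • y) := by abel
      _ = _ := by rw [hmem, zero_add]
  have hfix' := inv_fix g S hfix
  have hginvGU : g⁻¹ ∈ Cfsg.GU n F q := (Cfsg.GU n F q).inv_mem hgGU
  have hgxU := perp_pres g hgGU S hfix x hxU
  have hgyU := perp_pres g hgGU S hfix y hyU
  have hfixP : ∀ v₀ ∈ perpS q ({x, y} : Set VV), (g : MM) *ᵥ v₀ = v₀ := by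
    intro v₀ hv₀
    have hv₀x : hf v₀ x = 0 := hv₀ x (Set.mem_insert _ _)
    have hv₀y : hf v₀ y = 0 := hv₀ y (Set.mem_insert_of_mem _ rfl)
    have key : ∀ z ∈ perpS q S, hf ((g : MM) *ᵥ v₀) z = 0 := by
      intro z hz
      have h1 : hf ((g : MM) *ᵥ v₀) z = hf v₀ (((g⁻¹ : GL (Fin n) F) : MM) *ᵥ z) := by
        have := gu_herm g hgGU v₀ (((g⁻¹ : GL (Fin n) F) : MM) *ᵥ z)
        rw [gl_mulVec_inv] at this
        exact this
      rw [h1, hdec _ (perp_pres g⁻¹ hginvGU S hfix' z hz), herm_add_right hF, herm_smul_right,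
        herm_smul_right, hv₀x, hv₀y]
      ring
    have hmem : (g : MM) *ᵥ v₀ - v₀ ∈ perpS q S ⊓ perpS q ({x, y} : Set VV) := by
      refine Submodule.mem_inf.mpr ⟨?_, ?_⟩
      · intro s hs
        have := gu_herm g hgGU v₀ s
        rw [hfix s hs] at this
        rw [herm_sub_left, this, sub_self]
      · intro s hs
        have hsU : s ∈ perpS q S := by
          rcases hs with h | h
          · rw [h]; exact hxU
          · rw [Set.mem_singleton_iff] at h; rw [h]; exact hyU
        rw [herm_sub_left, key s hsU, hv₀ s hs, sub_zero]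
    rw [hbot, Submodule.mem_bot] at hmem
    exact sub_eq_zero.mp hmem
  have hform : ∀ v : VV, (g : MM) *ᵥ v =
      v + hf v y • ((g : MM) *ᵥ x - x) + hf v x • ((g : MM) *ᵥ y - y) := by
    intro v
    have h0 := hfixP _ (sub_mem_perp hF x y hx hy hxy v)
    rw [Matrix.mulVec_sub, Matrix.mulVec_sub, Matrix.mulVec_smul, Matrix.mulVec_smul] at h0
    have : (g : MM) *ᵥ v = ((g : MM) *ᵥ v - hf v y • (g : MM) *ᵥ x - hf v x • (g : MM) *ᵥ y)
        + hf v y • (g : MM) *ᵥ x + hf v x • (g : MM) *ᵥ y := by abel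
    rw [this, h0]
    module
  obtain ⟨a, hadef⟩ : ∃ a : F, a = hf ((g : MM) *ᵥ x) y := ⟨_, rfl⟩
  obtain ⟨c, hcdef⟩ : ∃ c : F, c = hf ((g : MM) *ᵥ x) x := ⟨_, rfl⟩
  obtain ⟨b, hbdef⟩ : ∃ b : F, b = hf ((g : MM) *ᵥ y) y := ⟨_, rfl⟩
  obtain ⟨d, hddef⟩ : ∃ d : F, d = hf ((g : MM) *ᵥ y) x := ⟨_, rfl⟩
  have hgx : (g : MM) *ᵥ x = a • x + c • y := by rw [hadef, hcdef]; exact hdec _ hgxU
  have hgy : (g : MM) *ᵥ y = b • x + d • y := by rw [hbdef, hddef]; exact hdec _ hgyU
  rw [← hcdef] at hc0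
  have e1 : a * c ^ q + c * a ^ q = 0 := by
    have := gu_herm g hgGU x x
    rw [hgx, hx] at this
    simp only [herm_add_left, herm_add_right hF, herm_smul_left, herm_smul_right, hx, hy, hxy,
      hyx] at this
    linear_combination this
  have e2 : b * d ^ q + d * b ^ q = 0 := by
    have := gu_herm g hgGU y y
    rw [hgy, hy] at this
    simp only [herm_add_left, herm_add_right hF, herm_smul_left, herm_smul_right, hx, hy, hxy,
      hyx] at this
    linear_combination this
  have e3 : a * d ^ q + c * b ^ q = 1 := by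
    have := gu_herm g hgGU x y
    rw [hgx, hgy, hxy] at this
    simp only [herm_add_left, herm_add_right hF, herm_smul_left, herm_smul_right, hx, hy, hxy,
      hyx] at this
    linear_combination this
  have e3' : a ^ q * d + c ^ q * b = 1 := by
    have := congrArg (fun t => t ^ q) e3
    simp only [add_pow_q hF, mul_pow, pow_q_q hF, one_pow] at this
    exact this
  have e4 : a * d - b * c = 1 := by
    have hdet : (g : MM).det = 1 := (mem_SL g).mp hgSL
    rw [det_rank_two hF g x y _ _ hform] at hdet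
    rw [herm_sub_left, herm_sub_left, herm_sub_left, herm_sub_left, ← hadef, ← hbdef, ← hcdef,
      ← hddef, hx, hy, hxy, hyx] at hdet
    linear_combination hdet
  have hd : d ^ q = d := by linear_combination (-(d ^ q)) * e4 + d * e3 - c * e2
  have ha : a ^ q = a := by linear_combination (-(a ^ q)) * e4 + a * e3' - b * e1
  have hb : b ^ q = -b := by linear_combination (-(b ^ q)) * e4 - b * e3 + a * e2
  have hcq : c ^ q = -c := by linear_combination (-(c ^ q)) * e4 - c * e3' + d * e1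
  obtain ⟨r₁, hr₁def⟩ : ∃ r₁ : F, r₁ = (a - 1) / c := ⟨_, rfl⟩
  obtain ⟨r₂, hr₂def⟩ : ∃ r₂ : F, r₂ = (d - 1) / c := ⟨_, rfl⟩
  have hr₁c : r₁ * c = a - 1 := by rw [hr₁def, div_mul_cancel₀ _ hc0]
  have hr₂c : r₂ * c = d - 1 := by rw [hr₂def, div_mul_cancel₀ _ hc0]
  have hr₁q : r₁ ^ q = -r₁ := by
    rw [hr₁def, div_pow, sub_pow_q hF, one_pow, ha, hcq, div_neg]
  have hr₂q : r₂ ^ q = -r₂ := by
    rw [hr₂def, div_pow, sub_pow_q hF, one_pow, hd, hcq, div_neg]
  have hbr : r₂ + r₁ * d = b := by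
    apply mul_right_cancel₀ hc0
    linear_combination hr₂c + d * hr₁c + e4
  have hgeq : g = TTu q x r₁ * TTu q y c * TTu q x r₂ := by
    apply gl_ext'
    intro v
    rw [gl_mul_mulVec, gl_mul_mulVec, TTu_mulVec x _ hx, TTu_mulVec y _ hy, TTu_mulVec x _ hx,
      hform v, hgx, hgy]
    simp only [herm_add_left, herm_smul_left, hx, hy, hxy, hyx]
    rw [← hbr]
    have ha' : a = r₁ * c + 1 := by linear_combination -hr₁c
    have hd' : d = r₂ * c + 1 := by linear_combination -hr₂c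
    rw [ha', hd']
    module
  rw [hgeq]
  have hT := TUin q (⊤ : Submodule F VV)
  exact Subgroup.mul_mem _ (Subgroup.mul_mem _
    (TTu_mem_TUin ⊤ x r₁ trivial hx hr₁q) (TTu_mem_TUin ⊤ y c trivial hy hcq))
    (TTu_mem_TUin ⊤ x r₂ trivial hx hr₂q)

end unitD

end Cfsg.Agent.helper29
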