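import Mathlib
import Cfsg.Agent.Lib_helper29_UnitD

set_option autoImplicit false
set_option linter.unusedSectionVars false
set_option linter.unusedVariables false

namespace Cfsg.Agent.helper29

open Matrix Cfsg Cfsg.Agent.helper11.HermCount Cfsg.Agent.helper11.Unitary

section unitE

variable {F : Type*} [Field F] [Fintype F] {q n : ℕ}

local notation "hf" => Cfsg.hermForm n F q
local notation "VV" => (Fin n → F)
local notation "MM" => Matrix (Fin n) (Fin n) F

theorem perp_symm (hF : Fintype.card F = q ^ 2) (S : Set VV) (u : VV) (hu : u ∈ perpS q S)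
    (s : VV) (hs : s ∈ S) : hf s u = 0 := herm_eq_zero_symm hF _ _ (hu s hs)

theorem base_plane (hF : Fintype.card F = q ^ 2) (S : Set VV) (hN : NDeg q (perpS q S))
    (h2 : Module.finrank F (perpS q S : Submodule F VV) = 2)
    (g : GL (Fin n) F) (hg : g ∈ SUG n F q)
    (hfix : ∀ s ∈ S, (g : MM) *ᵥ s = s) : g ∈ TUin q (⊤ : Submodule F VV) := by
  obtain ⟨x, hxU, y, hyU, hx, hy, hxy⟩ := exists_hyp_pair hF _ hN (by omega)
  have hyx := herm_yx_of_xy hF x y hxy
  by_cases hc0 : hf ((g : MM) *ᵥ x) x = 0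
  · obtain ⟨ε, hε0, hε⟩ := exists_eps hF
    have hgGU : g ∈ Cfsg.GU n F q := (Subgroup.mem_inf.mp hg).1
    have htS : (TTu q y ε : GL (Fin n) F) ∈ SUG n F q := TTu_mem_SUG hF y ε hy hε
    have hg' : TTu q y ε * g ∈ SUG n F q := (SUG n F q).mul_mem htS hg
    have hfix2 : ∀ s ∈ S, ((TTu q y ε * g : GL (Fin n) F) : MM) *ᵥ s = s := by
      intro s hs
      rw [gl_mul_mulVec, hfix s hs, TTu_mulVec y ε hy, perp_symm hF S y hyU s hs, mul_zero,
        zero_smul, add_zero]
    have hc' : hf (((TTu q y ε * g : GL (Fin n) F) : MM) *ᵥ x) x ≠ 0 := by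
      rw [gl_mul_mulVec, TTu_mulVec y ε hy, herm_add_left, herm_smul_left, hc0, hyx, zero_add,
        mul_one]
      apply mul_ne_zero hε0
      -- `h (g x) y ≠ 0`
      intro h0
      have hfr := finrank_sub hF (perpS q S) x y hxU hyU hx hy hxy
      have hbot : (perpS q S ⊓ perpS q ({x, y} : Set VV) : Submodule F VV) = ⊥ := by
        apply Submodule.finrank_eq_zero.mp
        omega
      have hgxU := perp_pres g hgGU S hfix x hxU
      have hmem : (g : MM) *ᵥ x ∈ perpS q S ⊓ perpS q ({x, y} : Set VV) := by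
        refine Submodule.mem_inf.mpr ⟨hgxU, ?_⟩
        intro s hs
        rcases hs with h | h
        · rw [h]; exact hc0
        · rw [Set.mem_singleton_iff] at h; rw [h]; exact h0
      rw [hbot, Submodule.mem_bot] at hmem
      have hx0 : x ≠ 0 := by
        intro h; rw [h, herm_zero_left] at hxy; exact zero_ne_one hxy
      exact gl_mulVec_ne_zero g x hx0 hmem
    have hmem := base_plane_aux hF S hN h2 x y hxU hyU hx hy hxy _ hg' hfix2 hc'
    have hgeq : g = (TTu q y ε)⁻¹ * (TTu q y ε * g) := by group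
    rw [hgeq]
    exact Subgroup.mul_mem _ (Subgroup.inv_mem _ (TTu_mem_TUin ⊤ y ε trivial hy hε)) hmem
  · exact base_plane_aux hF S hN h2 x y hxU hyU hx hy hxy g hg hfix hc0

theorem gen_claim (hF : Fintype.card F = q ^ 2) : ∀ (r : ℕ) (S : Set VV),
    NDeg q (perpS q S) → Module.finrank F (perpS q S : Submodule F VV) = 2 * r →
    ∀ g ∈ SUG n F q, (∀ s ∈ S, (g : MM) *ᵥ s = s) → g ∈ TUin q (⊤ : Submodule F VV) := by
  intro r
  induction r with
  | zero =>
    intro S hN hfr g hg hfix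
    have hgGU : g ∈ Cfsg.GU n F q := (Subgroup.mem_inf.mp hg).1
    have hbot : (perpS q S : Submodule F VV) = ⊥ := Submodule.finrank_eq_zero.mp (by omega)
    have hone : g = 1 := by
      apply gl_ext'
      intro v
      rw [gl_one_mulVec]
      have hmem : (g : MM) *ᵥ v - v ∈ perpS q S := by
        intro s hs
        have := gu_herm g hgGU v s
        rw [hfix s hs] at this
        rw [herm_sub_left, this, sub_self]
      rw [hbot, Submodule.mem_bot] at hmem
      exact sub_eq_zero.mp hmem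
    rw [hone]
    exact Subgroup.one_mem _
  | succ r ih =>
    intro S hN hfr g hg hfix
    by_cases hr : r = 0
    · subst hr
      exact base_plane hF S hN (by omega) g hg hfix
    · have hgGU : g ∈ Cfsg.GU n F q := (Subgroup.mem_inf.mp hg).1
      obtain ⟨x, hxU, y, hyU, hx, hy, hxy⟩ := exists_hyp_pair hF _ hN (by omega)
      have hgxU := perp_pres g hgGU S hfix x hxU
      have hgyU := perp_pres g hgGU S hfix y hyU
      have hgx : hf ((g : MM) *ᵥ x) ((g : MM) *ᵥ x) = 0 := by rw [gu_herm g hgGU, hx]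
      have hgy : hf ((g : MM) *ᵥ y) ((g : MM) *ᵥ y) = 0 := by rw [gu_herm g hgGU, hy]
      have hgxy : hf ((g : MM) *ᵥ x) ((g : MM) *ᵥ y) = 1 := by rw [gu_herm g hgGU, hxy]
      obtain ⟨t, ht, e1, e2⟩ := Hpair hF _ hN (by omega) x y _ _ hxU hyU hgxU hgyU hx hy hxy
        hgx hgy hgxy
      have htop : t ∈ TUin q (⊤ : Submodule F VV) := TUin_mono le_top ht
      have htg : t * g ∈ SUG n F q := (SUG n F q).mul_mem (TUin_le_SUG hF _ ht) hg
      have hfix2 : ∀ s ∈ S ∪ ({x, y} : Set VV), ((t * g : GL (Fin n) F) : MM) *ᵥ s = s := by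
        intro s hs
        rw [gl_mul_mulVec]
        rcases hs with hs | hs
        · rw [hfix s hs]
          exact TUin_fix _ t ht s (fun u hu => perp_symm hF S u hu s hs)
        · rcases hs with h | h
          · rw [h]; exact e1
          · rw [Set.mem_singleton_iff] at h; rw [h]; exact e2
      have hfr2 := finrank_sub hF (perpS q S) x y hxU hyU hx hy hxy
      have hmem := ih (S ∪ ({x, y} : Set VV))
        (by rw [perpS_union]; exact ndeg_sub hF _ hN x y hxU hyU hx hy hxy)
        (by rw [perpS_union]; omega) (t * g) htg hfix2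
      have hgeq : g = t⁻¹ * (t * g) := by group
      rw [hgeq]
      exact Subgroup.mul_mem _ (Subgroup.inv_mem _ htop) hmem

theorem perpS_empty : perpS q (∅ : Set VV) = ⊤ := by
  rw [eq_top_iff]
  intro v _ s hs
  exact absurd hs (Set.notMem_empty s)

theorem unit_to_pair (hF : Fintype.card F = q ^ 2) (hn : 2 ≤ n) (w : VV) (hw : hf w w = 1)
    (l₀ : F) (hl₀ : l₀ + l₀ ^ q = 1) :
    ∃ x₁ y₁ : VV, hf x₁ x₁ = 0 ∧ hf y₁ y₁ = 0 ∧ hf x₁ y₁ = 1 ∧ w = x₁ + l₀ • y₁ := by
  have hw0 : w ≠ 0 := by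
    intro h; rw [h, herm_zero_left] at hw; exact zero_ne_one hw
  have hfr : 2 ≤ Module.finrank F (⊤ : Submodule F VV) := by
    rw [finrank_top, Module.finrank_fin_fun]; exact hn
  obtain ⟨p, -, hpp, hpw⟩ := exists_iso_pairing hF ⊤ (ndeg_top hF) hfr w trivial hw0
  have hwp : hf w p ≠ 0 := fun h => hpw (herm_eq_zero_symm hF _ _ h)
  obtain ⟨y₁, hy₁def⟩ : ∃ y₁ : VV, y₁ = (((hf w p)⁻¹) ^ q) • p := ⟨_, rfl⟩
  have hwy₁ : hf w y₁ = 1 := by
    rw [hy₁def, herm_smul_right, pow_q_q hF, inv_mul_cancel₀ hwp]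
  have hy₁w : hf y₁ w = 1 := herm_yx_of_xy hF _ _ hwy₁
  have hy₁y₁ : hf y₁ y₁ = 0 := by rw [hy₁def, herm_smul_smul, hpp, mul_zero]
  refine ⟨w - l₀ • y₁, y₁, ?_, hy₁y₁, ?_, by abel⟩
  · rw [herm_sub_left, herm_sub_right hF, herm_sub_right hF, herm_smul_left, herm_smul_left,
      herm_smul_right, herm_smul_right, hw, hwy₁, hy₁w, hy₁y₁]
    linear_combination -hl₀
  · rw [herm_sub_left, herm_smul_left, hwy₁, hy₁y₁]; ring

theorem ndeg_perp_unit (hF : Fintype.card F = q ^ 2) (w : VV) (hw : hf w w = 1) :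
    NDeg q (perpS q ({w} : Set VV)) := by
  intro u hu h
  have huw : hf u w = 0 := hu w rfl
  apply ndeg_top hF u trivial
  intro v _
  have hv₀ : v - hf v w • w ∈ perpS q ({w} : Set VV) := by
    intro s hs
    rw [Set.mem_singleton_iff] at hs
    subst hs
    rw [herm_sub_left, herm_smul_left, hw]; ring
  have h0 := h _ hv₀
  rw [herm_sub_right hF, herm_smul_right, huw] at h0
  linear_combination h0

theorem finrank_perp_unit (hF : Fintype.card F = q ^ 2) (w : VV) (hw : hf w w = 1) :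
    Module.finrank F (perpS q ({w} : Set VV) : Submodule F VV) + 1 = n := by
  have hker : LinearMap.ker (hermL q w) = perpS q ({w} : Set VV) := by
    ext v
    rw [LinearMap.mem_ker, hermL_apply, mem_perpS]
    constructor
    · intro h s hs
      rw [Set.mem_singleton_iff] at hs
      rw [hs]; exact h
    · intro h; exact h w rfl
  have hrange : LinearMap.range (hermL q w) = ⊤ := by
    rw [eq_top_iff]
    intro c _
    refine ⟨c • w, ?_⟩
    rw [hermL_apply, herm_smul_left, hw, mul_one]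
  have h1 := LinearMap.finrank_range_add_finrank_ker (hermL q w)
  rw [hrange, finrank_top, Module.finrank_self, hker, Module.finrank_fin_fun] at h1
  omega

/-- `SU_n(q)` is generated by unitary transvections, for `n ≥ 4` -/
theorem SUG_le_TU (hF : Fintype.card F = q ^ 2) (hn : 4 ≤ n) :
    SUG n F q ≤ TUin q (⊤ : Submodule F VV) := by
  intro g hg
  have hgGU : g ∈ Cfsg.GU n F q := (Subgroup.mem_inf.mp hg).1
  rcases Nat.even_or_odd' n with ⟨r, hr | hr⟩
  · apply gen_claim hF r ∅ (by rw [perpS_empty]; exact ndeg_top hF)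
      (by rw [perpS_empty, finrank_top, Module.finrank_fin_fun]; exact hr) g hg
    intro s hs
    exact absurd hs (Set.notMem_empty s)
  · -- odd dimension: first fix a unit vector
    have hn0 : 0 < n := by omega
    obtain ⟨w, hwdef⟩ : ∃ w : VV, w = Pi.single (⟨0, hn0⟩ : Fin n) 1 := ⟨_, rfl⟩
    have hw : hf w w = 1 := by
      rw [hwdef, herm_single_right (q_ne_zero hF)]
      simp
    obtain ⟨l₀, hl₀⟩ := exists_trace hF (1 : F) (one_pow q)
    have hw' : hf ((g : MM) *ᵥ w) ((g : MM) *ᵥ w) = 1 := by rw [gu_herm g hgGU, hw]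
    obtain ⟨x₁, y₁, hx₁, hy₁, hx₁y₁, hweq⟩ := unit_to_pair hF (by omega) w hw l₀ hl₀
    obtain ⟨x₂, y₂, hx₂, hy₂, hx₂y₂, hweq'⟩ := unit_to_pair hF (by omega) _ hw' l₀ hl₀
    have hfr : 4 ≤ Module.finrank F (⊤ : Submodule F VV) := by
      rw [finrank_top, Module.finrank_fin_fun]; exact hn
    obtain ⟨t, ht, e1, e2⟩ := Hpair hF ⊤ (ndeg_top hF) hfr x₁ y₁ x₂ y₂ trivial trivial trivial
      trivial hx₁ hy₁ hx₁y₁ hx₂ hy₂ hx₂y₂
    have htg : t * g ∈ SUG n F q := (SUG n F q).mul_mem (TUin_le_SUG hF _ ht) hg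
    have hfix : ∀ s ∈ ({w} : Set VV), ((t * g : GL (Fin n) F) : MM) *ᵥ s = s := by
      intro s hs
      rw [Set.mem_singleton_iff] at hs
      rw [hs, gl_mul_mulVec, hweq', Matrix.mulVec_add, Matrix.mulVec_smul, e1, e2, ← hweq]
    have hfrw := finrank_perp_unit hF w hw
    have hmem := gen_claim hF r ({w} : Set VV) (ndeg_perp_unit hF w hw) (by omega) (t * g) htg hfix
    have hgeq : g = t⁻¹ * (t * g) := by group
    rw [hgeq]
    exact Subgroup.mul_mem _ (Subgroup.inv_mem _ ht) hmem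

/-- a subgroup containing all unitary transvections contains `SU_n(q)` -/
theorem SUG_le_of_TTu (hF : Fintype.card F = q ^ 2) (hn : 4 ≤ n) (M : Subgroup (GL (Fin n) F))
    (h : ∀ (z : VV) (c : F), hf z z = 0 → c ^ q = -c → (TTu q z c : GL (Fin n) F) ∈ M) :
    SUG n F q ≤ M := by
  refine le_trans (SUG_le_TU hF hn) ?_
  unfold TUin
  rw [Subgroup.closure_le]
  rintro g ⟨z, c, -, hz, hc, rfl⟩
  exact h z c hz hc

end unitE

end Cfsg.Agent.helper29
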