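import Mathlib
import Cfsg.Agent.Lib_helper29_UnitE

set_option autoImplicit false
set_option linter.unusedSectionVars false
set_option linter.unusedVariables false

namespace Cfsg.Agent.helper29

open Matrix Cfsg Cfsg.Agent.helper11.HermCount Cfsg.Agent.helper11.Unitary

section ulagA

variable {F : Type*} [Field F] [Fintype F] {q n : ℕ}

local notation "hf" => Cfsg.hermForm n F q
local notation "VV" => (Fin n → F)
local notation "MM" => Matrix (Fin n) (Fin n) F

/-- short root element as a product of three transvections -/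
noncomputable def EE3 (q : ℕ) (a b : Fin n → F) (s l : F) : GL (Fin n) F :=
  TTu q (a + l • b) s * TTu q a (-s) * TTu q b (-(s * (l * l ^ q)))

theorem iso_add_smul (hF : Fintype.card F = q ^ 2) (a b : VV) (l : F) (ha : hf a a = 0)
    (hb : hf b b = 0) (hab : hf a b = 0) : hf (a + l • b) (a + l • b) = 0 := by
  have hba := herm_eq_zero_symm hF a b hab
  simp only [herm_add_left, herm_add_right hF, herm_smul_left, herm_smul_right, ha, hb, hab, hba]
  ring

theorem EE3_mulVec (hF : Fintype.card F = q ^ 2) (a b : VV) (s l : F) (ha : hf a a = 0)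
    (hb : hf b b = 0) (hab : hf a b = 0) (v : VV) :
    ((EE3 q a b s l : GL (Fin n) F) : MM) *ᵥ v =
      v + (s * l ^ q * hf v b) • a + (s * l * hf v a) • b := by
  have hba := herm_eq_zero_symm hF a b hab
  have hz := iso_add_smul hF a b l ha hb hab
  unfold EE3
  rw [gl_mul_mulVec, gl_mul_mulVec, TTu_mulVec _ _ hz, TTu_mulVec _ _ ha, TTu_mulVec _ _ hb]
  simp only [herm_add_left, herm_add_right hF, herm_smul_left, herm_smul_right, ha, hb, hab, hba]
  module

theorem EE3_mem_SUG (hF : Fintype.card F = q ^ 2) (a b : VV) (s l : F) (ha : hf a a = 0)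
    (hb : hf b b = 0) (hab : hf a b = 0) (hs : s ^ q = -s) :
    (EE3 q a b s l : GL (Fin n) F) ∈ SUG n F q := by
  have hz := iso_add_smul hF a b l ha hb hab
  unfold EE3
  refine Subgroup.mul_mem _ (Subgroup.mul_mem _ (TTu_mem_SUG hF _ _ hz hs)
    (TTu_mem_SUG hF _ _ ha (by rw [neg_pow_q' hF, hs]))) (TTu_mem_SUG hF _ _ hb ?_)
  rw [neg_pow_q' hF, mul_pow, mul_pow, pow_q_q hF, hs]
  ring

theorem conj_EE3 (hF : Fintype.card F = q ^ 2) (g : GL (Fin n) F) (hg : g ∈ Cfsg.GU n F q)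
    (a b : VV) (s l : F) (ha : hf a a = 0) (hb : hf b b = 0) (hab : hf a b = 0) :
    g * EE3 q a b s l * g⁻¹ = EE3 q ((g : MM) *ᵥ a) ((g : MM) *ᵥ b) s l := by
  have hz := iso_add_smul hF a b l ha hb hab
  unfold EE3
  rw [← Matrix.mulVec_smul, ← Matrix.mulVec_add, ← conj_TTu g hg _ _ hz, ← conj_TTu g hg _ _ ha,
    ← conj_TTu g hg _ _ hb]
  group

theorem comm_EE3 (hF : Fintype.card F = q ^ 2) (x y z : VV) (s₁ l₁ s₂ l₂ : F)
    (hx : hf x x = 0) (hy : hf y y = 0) (hz : hf z z = 0) (hxy : hf x y = 0) (hxz : hf x z = 0) :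
    (EE3 q x y s₁ l₁ : GL (Fin n) F) * EE3 q x z s₂ l₂ = EE3 q x z s₂ l₂ * EE3 q x y s₁ l₁ *
      TTu q x (s₁ * l₁ ^ q * (s₂ * l₂) * hf z y - s₁ * l₁ * (s₂ * l₂ ^ q) * hf y z) := by
  have hyx := herm_eq_zero_symm hF x y hxy
  have hzx := herm_eq_zero_symm hF x z hxz
  apply gl_ext'
  intro v
  rw [gl_mul_mulVec, gl_mul_mulVec, gl_mul_mulVec, TTu_mulVec _ _ hx, EE3_mulVec hF x z _ _ hx hz hxz,
    EE3_mulVec hF x y _ _ hx hy hxy, EE3_mulVec hF x y _ _ hx hy hxy,
    EE3_mulVec hF x z _ _ hx hz hxz]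
  simp only [herm_add_left, herm_smul_left, hx, hxy, hxz, hyx, hzx]
  module

/-- all transvections with centre `x` lie in `M` -/
def XXu (q : ℕ) (M : Subgroup (GL (Fin n) F)) (x : Fin n → F) : Prop :=
  ∀ c : F, c ^ q = -c → (TTu q x c : GL (Fin n) F) ∈ M

theorem XXu_conj (M : Subgroup (GL (Fin n) F)) (g : GL (Fin n) F) (hgM : g ∈ M)
    (hg : g ∈ Cfsg.GU n F q) (x : VV) (hx : hf x x = 0) (hX : XXu q M x) :
    XXu q M ((g : MM) *ᵥ x) := by
  intro c hc
  rw [← conj_TTu g hg x c hx]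
  exact M.mul_mem (M.mul_mem hgM (hX c hc)) (M.inv_mem hgM)

theorem XXu_smul (hF : Fintype.card F = q ^ 2) (M : Subgroup (GL (Fin n) F)) (x : VV)
    (hx : hf x x = 0) (hX : XXu q M x) (a : F) : XXu q M (a • x) := by
  intro c hc
  rw [TTu_smul a x c hx]
  apply hX
  rw [mul_pow, mul_pow, pow_q_q hF, hc]
  ring

/-- moving along a transvection -/
theorem XXu_add (hF : Fintype.card F = q ^ 2) (M : Subgroup (GL (Fin n) F))
    (hM : M ≤ Cfsg.GU n F q) (x z : VV)
    (hx : hf x x = 0) (hz : hf z z = 0) (hX : XXu q M x) (hZ : XXu q M z)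
    (hβ : (hf x z) ^ q = - hf x z) (hβ0 : hf x z ≠ 0) : XXu q M (x + z) := by
  have hc : ((hf x z)⁻¹) ^ q = - (hf x z)⁻¹ := by rw [inv_pow, hβ, inv_neg]
  have hmem := hZ _ hc
  have := XXu_conj M _ hmem (hM hmem) x hx hX
  rw [TTu_mulVec z _ hz, inv_mul_cancel₀ hβ0, one_smul] at this
  exact this

end ulagA

end Cfsg.Agent.helper29
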