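import Mathlib
import Cfsg.Agent.Lib_helper29_ULagA

set_option autoImplicit false
set_option linter.unusedSectionVars false
set_option linter.unusedVariables false

namespace Cfsg.Agent.helper29

open Matrix Cfsg Cfsg.Agent.helper11.HermCount Cfsg.Agent.helper11.Unitary

section usimA

variable {F : Type*} [Field F] [Fintype F] {q n : ℕ}

local notation "hf" => Cfsg.hermForm n F q
local notation "VV" => (Fin n → F)
local notation "MM" => Matrix (Fin n) (Fin n) F

/-- every vector of a nondegenerate subspace of dimension at least two is a sum of isotropic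
vectors of the subspace -/
theorem iso_span_induction (hF : Fintype.card F = q ^ 2) (U : Submodule F VV) (hN : NDeg q U)
    (h2 : 2 ≤ Module.finrank F U) (P : VV → Prop) (hadd : ∀ a b, P a → P b → P (a + b))
    (hiso : ∀ x ∈ U, hf x x = 0 → P x) : ∀ u ∈ U, P u := by
  obtain ⟨x, hxU, y, hyU, hxx, hyy, hxy⟩ := exists_hyp_pair hF U hN h2
  have hyx := herm_yx_of_xy hF x y hxy
  intro u hu
  obtain ⟨u₀, hu₀⟩ : ∃ u₀ : VV, u₀ = u - hf u y • x - hf u x • y := ⟨_, rfl⟩
  have hu₀U : u₀ ∈ U := by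
    rw [hu₀]; exact U.sub_mem (U.sub_mem hu (U.smul_mem _ hxU)) (U.smul_mem _ hyU)
  have hu₀x : hf u₀ x = 0 := by
    rw [hu₀]; simp only [herm_sub_left, herm_smul_left, hxx, hyx]; ring
  have hu₀y : hf u₀ y = 0 := by
    rw [hu₀]; simp only [herm_sub_left, herm_smul_left, hyy, hxy]; ring
  have hxu₀ := herm_eq_zero_symm hF _ _ hu₀x
  have hyu₀ := herm_eq_zero_symm hF _ _ hu₀y
  obtain ⟨μ, hμ⟩ := exists_trace hF (-(hf u₀ u₀)) (by rw [neg_pow_q' hF, herm_conj hF])
  have hz : hf (u₀ + μ • x + y) (u₀ + μ • x + y) = 0 := by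
    simp only [herm_add_left, herm_add_right hF, herm_smul_left, herm_smul_right, hxx, hyy, hxy,
      hyx, hu₀x, hu₀y, hxu₀, hyu₀]
    linear_combination hμ
  have e : u = hf u y • x + (hf u x • y + ((u₀ + μ • x + y) + ((-μ) • x + (-1 : F) • y))) := by
    rw [hu₀]; module
  rw [e]
  have hPx : ∀ a : F, P (a • x) := fun a =>
    hiso _ (U.smul_mem _ hxU) (by rw [herm_smul_smul, hxx, mul_zero])
  have hPy : ∀ a : F, P (a • y) := fun a =>
    hiso _ (U.smul_mem _ hyU) (by rw [herm_smul_smul, hyy, mul_zero])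
  exact hadd _ _ (hPx _) (hadd _ _ (hPy _) (hadd _ _
    (hiso _ (U.add_mem (U.add_mem hu₀U (U.smul_mem _ hxU)) hyU) hz) (hadd _ _ (hPx _) (hPy _))))

/-- two orthogonal isotropic vectors have a common isotropic non-neighbour -/
theorem exists_iso_both (hF : Fintype.card F = q ^ 2) (U : Submodule F VV) (hN : NDeg q U)
    (a b : VV) (haU : a ∈ U) (hbU : b ∈ U) (ha0 : a ≠ 0) (hb0 : b ≠ 0)
    (ha : hf a a = 0) (hb : hf b b = 0) (hab : hf a b = 0) :
    ∃ c ∈ U, hf c c = 0 ∧ hf c a ≠ 0 ∧ hf c b ≠ 0 := by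
  obtain ⟨a', ha'U, ha'a', haa'⟩ := exists_partner_u hF U hN a haU ha0 ha
  have ha'a := herm_yx_of_xy hF a a' haa'
  by_cases h : hf a' b = 0
  · have hN2 := ndeg_sub hF U hN a a' haU ha'U ha ha'a' haa'
    have hbU2 : b ∈ U ⊓ perpS q ({a, a'} : Set VV) := by
      refine ⟨hbU, ?_⟩
      intro s hs
      rcases hs with rfl | hs
      · exact herm_eq_zero_symm hF _ _ hab
      · rw [Set.mem_singleton_iff] at hs
        rw [hs]
        exact herm_eq_zero_symm hF _ _ h
    obtain ⟨b', hb'U2, hb'b', hbb'⟩ := exists_partner_u hF _ hN2 b hbU2 hb0 hb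
    have hb'b := herm_yx_of_xy hF b b' hbb'
    have hb'a : hf b' a = 0 := hb'U2.2 a (by simp)
    have hb'a' : hf b' a' = 0 := hb'U2.2 a' (by simp)
    have ha'b' := herm_eq_zero_symm hF _ _ hb'a'
    refine ⟨a' + b', U.add_mem ha'U hb'U2.1, ?_, ?_, ?_⟩
    · simp only [herm_add_left, herm_add_right hF, ha'a', hb'b', hb'a', ha'b']; ring
    · rw [herm_add_left, ha'a, hb'a, add_zero]; exact one_ne_zero
    · rw [herm_add_left, h, hb'b, zero_add]; exact one_ne_zero
  · exact ⟨a', ha'U, ha'a', by rw [ha'a]; exact one_ne_zero, h⟩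

/-- the form transported by `g` -/
def hg (q : ℕ) (g : GL (Fin n) F) (u v : Fin n → F) : F :=
  Cfsg.hermForm n F q ((g : Matrix (Fin n) (Fin n) F) *ᵥ u) ((g : Matrix (Fin n) (Fin n) F) *ᵥ v)

theorem hg_add_left (g : GL (Fin n) F) (u u' v : VV) :
    hg q g (u + u') v = hg q g u v + hg q g u' v := by
  unfold hg; rw [Matrix.mulVec_add, herm_add_left]

theorem hg_add_right (hF : Fintype.card F = q ^ 2) (g : GL (Fin n) F) (u v v' : VV) :
    hg q g u (v + v') = hg q g u v + hg q g u v' := by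
  unfold hg; rw [Matrix.mulVec_add, herm_add_right hF]

theorem hg_smul_left (g : GL (Fin n) F) (c : F) (u v : VV) :
    hg q g (c • u) v = c * hg q g u v := by
  unfold hg; rw [Matrix.mulVec_smul, herm_smul_left]

theorem hg_smul_right (g : GL (Fin n) F) (c : F) (u v : VV) :
    hg q g u (c • v) = c ^ q * hg q g u v := by
  unfold hg; rw [Matrix.mulVec_smul, herm_smul_right]

theorem hg_conj (hF : Fintype.card F = q ^ 2) (g : GL (Fin n) F) (u v : VV) :
    (hg q g u v) ^ q = hg q g v u := by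
  unfold hg; rw [herm_conj hF]

theorem hg_sub_right (hF : Fintype.card F = q ^ 2) (g : GL (Fin n) F) (u v v' : VV) :
    hg q g u (v - v') = hg q g u v - hg q g u v' := by
  unfold hg; rw [Matrix.mulVec_sub, herm_sub_right hF]

/-- Step 1 of the cone lemma -/
theorem cone_step1 (hF : Fintype.card F = q ^ 2) (g : GL (Fin n) F)
    (hcone : ∀ x : VV, hf x x = 0 → hg q g x x = 0) (x y : VV) (hx : hf x x = 0)
    (hy : hf y y = 0) (hxy : hf x y = 0) : hg q g x y = 0 := by
  by_contra hs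
  obtain ⟨μ, hμ⟩ := exists_trace hF (1 : F) (one_pow q)
  obtain ⟨l, hl⟩ : ∃ l : F, l = (μ / hg q g x y) ^ q := ⟨_, rfl⟩
  have hlq : l ^ q = μ / hg q g x y := by rw [hl, pow_q_q hF]
  have h0 := hcone (x + l • y) (iso_add_smul hF x y l hx hy hxy)
  rw [hg_add_left, hg_add_right hF, hg_add_right hF, hg_smul_left, hg_smul_left, hg_smul_right,
    hg_smul_right, hcone x hx, hcone y hy, ← hg_conj hF g x y, hlq] at h0
  have h1 : l * (hg q g x y) ^ q = μ ^ q := by
    rw [hl, ← mul_pow, div_mul_cancel₀ _ hs]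
  have h2 : μ + μ ^ q = 0 := by
    have : μ / hg q g x y * hg q g x y = μ := div_mul_cancel₀ _ hs
    rw [← h1, ← this]
    linear_combination h0
  rw [hμ] at h2
  exact one_ne_zero h2

/-- Step 2 of the cone lemma -/
theorem cone_step2 (hF : Fintype.card F = q ^ 2) (g : GL (Fin n) F)
    (hcone : ∀ x : VV, hf x x = 0 → hg q g x x = 0) (x y : VV) (hx : hf x x = 0)
    (hy : hf y y = 0) (hxy : hf x y = 1) : (hg q g x y) ^ q = hg q g x y := by
  obtain ⟨ε, hε0, hε⟩ := exists_eps hF
  have hyx := herm_yx_of_xy hF x y hxy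
  have hz : hf (x + ε • y) (x + ε • y) = 0 := by
    simp only [herm_add_left, herm_add_right hF, herm_smul_left, herm_smul_right, hx, hy, hxy,
      hyx, hε]
    ring
  have h0 := hcone _ hz
  rw [hg_add_left, hg_add_right hF, hg_add_right hF, hg_smul_left, hg_smul_left, hg_smul_right,
    hg_smul_right, hcone x hx, hcone y hy, ← hg_conj hF g x y, hε] at h0
  have h1 : ε * ((hg q g x y) ^ q - hg q g x y) = 0 := by linear_combination h0
  rcases mul_eq_zero.mp h1 with h | h
  · exact absurd h hε0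
  · exact sub_eq_zero.mp h

end usimA

end Cfsg.Agent.helper29
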