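import Mathlib
import Cfsg.Agent.Lib_helper29_USimA
import Cfsg.Agent.Lib_helper29_SLgen2

set_option autoImplicit false
set_option linter.unusedSectionVars false
set_option linter.unusedVariables false

namespace Cfsg.Agent.helper29

open Matrix Cfsg Cfsg.Agent.helper11.HermCount Cfsg.Agent.helper11.Unitary Cfsg.Agent.S0772

section usimB

variable {F : Type*} [Field F] [Fintype F] {q n : ℕ}

local notation "hf" => Cfsg.hermForm n F q
local notation "VV" => (Fin n → F)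
local notation "MM" => Matrix (Fin n) (Fin n) F

theorem cone_step3a (hF : Fintype.card F = q ^ 2) (hn : 4 ≤ n) (g : GL (Fin n) F)
    (hcone : ∀ x : VV, hf x x = 0 → hg q g x x = 0) (x y : VV) (hx : hf x x = 0)
    (hy : hf y y = 0) (hxy : hf x y = 1) (l : VV) (hl : hf l x = 0) : hg q g x l = 0 := by
  have hyx := herm_yx_of_xy hF x y hxy
  have hNL := ndeg_sub hF ⊤ (ndeg_top hF) x y trivial trivial hx hy hxy
  have hfr := finrank_sub hF ⊤ x y trivial trivial hx hy hxy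
  rw [finrank_top, Module.finrank_fin_fun] at hfr
  have h2 : 2 ≤ Module.finrank F (⊤ ⊓ perpS q ({x, y} : Set VV) : Submodule F VV) := by omega
  have key : ∀ l₀ ∈ (⊤ ⊓ perpS q ({x, y} : Set VV) : Submodule F VV), hg q g x l₀ = 0 := by
    apply iso_span_induction hF _ hNL h2 (fun l₀ => hg q g x l₀ = 0)
    · intro a b ha hb
      change hg q g x (a + b) = 0
      rw [hg_add_right hF, ha, hb, add_zero]
    · intro l₀ hl₀ hl₀l₀
      have : hf l₀ x = 0 := hl₀.2 x (by simp)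
      exact cone_step1 hF g hcone x l₀ hx hl₀l₀ (herm_eq_zero_symm hF _ _ this)
  have hmem := sub_mem_perp hF x y hx hy hxy l
  rw [hl, zero_smul, sub_zero] at hmem
  have h1 := key _ ⟨trivial, hmem⟩
  rw [hg_sub_right hF, hg_smul_right, hcone x hx, mul_zero, sub_zero] at h1
  exact h1

theorem cone_step3b (hF : Fintype.card F = q ^ 2) (hn : 4 ≤ n) (g : GL (Fin n) F)
    (hcone : ∀ x : VV, hf x x = 0 → hg q g x x = 0) (x y y' : VV) (hx : hf x x = 0)
    (hy : hf y y = 0) (hxy : hf x y = 1) (hxy' : hf x y' = 1) :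
    hg q g x y' = hg q g x y := by
  have hyx := herm_yx_of_xy hF x y hxy
  have hy'x := herm_yx_of_xy hF x y' hxy'
  have := cone_step3a hF hn g hcone x y hx hy hxy (y' - y)
    (by rw [herm_sub_left, hy'x, hyx, sub_self])
  rw [hg_sub_right hF] at this
  exact sub_eq_zero.mp this

theorem cone_step3 (hF : Fintype.card F = q ^ 2) (hn : 4 ≤ n) (g : GL (Fin n) F)
    (hcone : ∀ x : VV, hf x x = 0 → hg q g x x = 0) (κ : F) (x₁ y₁ : VV)
    (hx₁ : hf x₁ x₁ = 0) (hy₁ : hf y₁ y₁ = 0) (hx₁y₁ : hf x₁ y₁ = 1) (hκ : hg q g x₁ y₁ = κ)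
    (x y : VV) (hx : hf x x = 0) (hy : hf y y = 0) (hxy : hf x y = 1) (hne : hf x x₁ ≠ 0) :
    hg q g x y = κ := by
  obtain ⟨c, hc⟩ : ∃ c : F, c = ((hf x x₁)⁻¹) ^ q := ⟨_, rfl⟩
  have hcq : c ^ q = (hf x x₁)⁻¹ := by rw [hc, pow_q_q hF]
  have hc0 : c ≠ 0 := by rw [hc]; exact pow_ne_zero _ (inv_ne_zero hne)
  have hiso1 : hf (c • x₁) (c • x₁) = 0 := by rw [herm_smul_smul, hx₁, mul_zero]
  have hp1 : hf x (c • x₁) = 1 := by rw [herm_smul_right, hcq, inv_mul_cancel₀ hne]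
  have hp1' := herm_yx_of_xy hF _ _ hp1
  obtain ⟨d, hd⟩ : ∃ d : F, d = (c⁻¹) ^ q := ⟨_, rfl⟩
  have hdq : d ^ q = c⁻¹ := by rw [hd, pow_q_q hF]
  have hiso2 : hf (d • y₁) (d • y₁) = 0 := by rw [herm_smul_smul, hy₁, mul_zero]
  have hp2 : hf (c • x₁) (d • y₁) = 1 := by
    rw [herm_smul_left, herm_smul_right, hdq, hx₁y₁, mul_one, mul_inv_cancel₀ hc0]
  have e1 : hg q g x y = hg q g x (c • x₁) :=
    cone_step3b hF hn g hcone x (c • x₁) y hx hiso1 hp1 hxy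
  have e2 : hg q g x (c • x₁) = (hg q g (c • x₁) x) ^ q := (hg_conj hF g (c • x₁) x).symm
  have e3 : (hg q g (c • x₁) x) ^ q = hg q g (c • x₁) x :=
    cone_step2 hF g hcone (c • x₁) x hiso1 hx hp1'
  have e4 : hg q g (c • x₁) x = hg q g (c • x₁) (d • y₁) :=
    cone_step3b hF hn g hcone (c • x₁) (d • y₁) x hiso1 hiso2 hp2 hp1'
  have e5 : hg q g (c • x₁) (d • y₁) = κ := by
    rw [hg_smul_left, hg_smul_right, hdq, hκ, ← mul_assoc, mul_inv_cancel₀ hc0, one_mul]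
  rw [e1, e2, e3, e4, e5]

theorem cone_const (hF : Fintype.card F = q ^ 2) (hn : 4 ≤ n) (g : GL (Fin n) F)
    (hcone : ∀ x : VV, hf x x = 0 → hg q g x x = 0) (x₀ y₀ : VV)
    (hx₀ : hf x₀ x₀ = 0) (hy₀ : hf y₀ y₀ = 0) (hx₀y₀ : hf x₀ y₀ = 1)
    (x y : VV) (hx : hf x x = 0) (hy : hf y y = 0) (hxy : hf x y = 1) :
    hg q g x y = hg q g x₀ y₀ := by
  by_cases h : hf x x₀ = 0
  · have hx0 : x ≠ 0 := by
      intro h0; rw [h0, herm_zero_left] at hxy; exact zero_ne_one hxy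
    have hx₀0 : x₀ ≠ 0 := by
      intro h0; rw [h0, herm_zero_left] at hx₀y₀; exact zero_ne_one hx₀y₀
    obtain ⟨z, -, hzz, hzx, hzx₀⟩ := exists_iso_both hF ⊤ (ndeg_top hF) x x₀ trivial trivial hx0
      hx₀0 hx hx₀ h
    have hz0 : z ≠ 0 := by
      intro h0; rw [h0, herm_zero_left] at hzx; exact hzx rfl
    obtain ⟨z', -, hz'z', hzz'⟩ := exists_partner_u hF ⊤ (ndeg_top hF) z trivial hz0 hzz
    have h1 := cone_step3 hF hn g hcone _ x₀ y₀ hx₀ hy₀ hx₀y₀ rfl z z' hzz hz'z' hzz' hzx₀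
    exact cone_step3 hF hn g hcone _ z z' hzz hz'z' hzz' h1 x y hx hy hxy
      (fun h' => hzx (herm_eq_zero_symm hF _ _ h'))
  · exact cone_step3 hF hn g hcone _ x₀ y₀ hx₀ hy₀ hx₀y₀ rfl x y hx hy hxy h

/-- a linear map preserving the isotropic cone is a similarity -/
theorem cone_lemma (hF : Fintype.card F = q ^ 2) (hn : 4 ≤ n) (g : GL (Fin n) F)
    (hcone : ∀ x : VV, hf x x = 0 → hg q g x x = 0) :
    ∃ κ : F, κ ≠ 0 ∧ ∀ u v : VV, hg q g u v = κ * hf u v := by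
  have hfr : 2 ≤ Module.finrank F (⊤ : Submodule F VV) := by
    rw [finrank_top, Module.finrank_fin_fun]; omega
  obtain ⟨x₀, -, y₀, -, hx₀, hy₀, hx₀y₀⟩ := exists_hyp_pair hF ⊤ (ndeg_top hF) hfr
  obtain ⟨κ, hκ⟩ : ∃ κ : F, κ = hg q g x₀ y₀ := ⟨_, rfl⟩
  have iso_case : ∀ u v : VV, hf u u = 0 → hf v v = 0 → hg q g u v = κ * hf u v := by
    intro u v hu hv
    by_cases h : hf u v = 0
    · rw [h, mul_zero]; exact cone_step1 hF g hcone u v hu hv h
    · obtain ⟨c, hc⟩ : ∃ c : F, c = ((hf u v)⁻¹) ^ q := ⟨_, rfl⟩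
      have hcq : c ^ q = (hf u v)⁻¹ := by rw [hc, pow_q_q hF]
      have h1 : hf u (c • v) = 1 := by rw [herm_smul_right, hcq, inv_mul_cancel₀ h]
      have h2 : hf (c • v) (c • v) = 0 := by rw [herm_smul_smul, hv, mul_zero]
      have h3 := cone_const hF hn g hcone x₀ y₀ hx₀ hy₀ hx₀y₀ u (c • v) hu h2 h1
      rw [hg_smul_right, hcq, ← hκ] at h3
      have : hg q g u v = hf u v * ((hf u v)⁻¹ * hg q g u v) := by
        rw [← mul_assoc, mul_inv_cancel₀ h, one_mul]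
      rw [this, h3]; ring
  have half : ∀ v : VV, hf v v = 0 → ∀ u ∈ (⊤ : Submodule F VV), hg q g u v = κ * hf u v := by
    intro v hv
    apply iso_span_induction hF ⊤ (ndeg_top hF) hfr (fun u => hg q g u v = κ * hf u v)
    · intro a b ha hb
      change hg q g (a + b) v = κ * hf (a + b) v
      rw [hg_add_left, herm_add_left, ha, hb]; ring
    · intro x _ hx; exact iso_case x v hx hv
  have full : ∀ u : VV, ∀ v ∈ (⊤ : Submodule F VV), hg q g u v = κ * hf u v := by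
    intro u
    apply iso_span_induction hF ⊤ (ndeg_top hF) hfr (fun v => hg q g u v = κ * hf u v)
    · intro a b ha hb
      change hg q g u (a + b) = κ * hf u (a + b)
      rw [hg_add_right hF, herm_add_right hF, ha, hb]; ring
    · intro x _ hx; exact half x hx u trivial
  refine ⟨κ, ?_, fun u v => full u v trivial⟩
  intro h0
  have hn0 : 0 < n := by omega
  have := full (((g⁻¹ : GL (Fin n) F) : MM) *ᵥ (Pi.single (⟨0, hn0⟩ : Fin n) 1))
    (((g⁻¹ : GL (Fin n) F) : MM) *ᵥ (Pi.single (⟨0, hn0⟩ : Fin n) 1)) trivial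
  unfold hg at this
  rw [gl_mulVec_inv, h0, zero_mul, herm_single_right (q_ne_zero hF)] at this
  simp at this

/-- the vector of `q`-th powers -/
def qv (q : ℕ) (w : Fin n → F) : Fin n → F := fun j => w j ^ q

theorem qv_dot (w v : VV) : qv q w ⬝ᵥ v = hf v w := by
  unfold qv Cfsg.hermForm dotProduct
  exact Finset.sum_congr rfl (fun i _ => mul_comm _ _)

/-- the general transvection `v ↦ v + h(v, w) y`, for `h(y, w) = 0` -/
noncomputable def tvu (q : ℕ) (y w : Fin n → F) (h : Cfsg.hermForm n F q y w = 0) :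
    GL (Fin n) F :=
  G1 y (qv q w) (by rw [qv_dot, h, add_zero]; exact one_ne_zero)

theorem tvu_mulVec (y w : VV) (h : hf y w = 0) (v : VV) :
    ((tvu q y w h : GL (Fin n) F) : MM) *ᵥ v = v + hf v w • y := by
  unfold tvu; rw [G1_mulVec', qv_dot]

/-- `w` is an axis vector of a transvection of `M` with centre `y` -/
def Zu (q : ℕ) (M : Subgroup (GL (Fin n) F)) (y w : Fin n → F) : Prop :=
  ∃ h : Cfsg.hermForm n F q y w = 0, tvu q y w h ∈ M

theorem Zu_zero (hF : Fintype.card F = q ^ 2) (M : Subgroup (GL (Fin n) F)) (y : VV) :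
    Zu q M y 0 := by
  refine ⟨herm_zero_right hF y, ?_⟩
  have : tvu q y 0 (herm_zero_right hF y) = 1 := by
    apply gl_ext'; intro v
    rw [tvu_mulVec, herm_zero_right hF, zero_smul, add_zero, gl_one_mulVec]
  rw [this]; exact M.one_mem

theorem Zu_add (hF : Fintype.card F = q ^ 2) (M : Subgroup (GL (Fin n) F)) (y w w' : VV)
    (h1 : Zu q M y w) (h2 : Zu q M y w') : Zu q M y (w + w') := by
  obtain ⟨h, hm⟩ := h1
  obtain ⟨h', hm'⟩ := h2
  have h'' : hf y (w + w') = 0 := by rw [herm_add_right hF, h, h', add_zero]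
  refine ⟨h'', ?_⟩
  have : tvu q y (w + w') h'' = tvu q y w h * tvu q y w' h' := by
    apply gl_ext'; intro v
    simp only [gl_mul_mulVec, tvu_mulVec, herm_add_left, herm_smul_left, herm_add_right hF, h]
    module
  rw [this]; exact M.mul_mem hm hm'

theorem Zu_neg (hF : Fintype.card F = q ^ 2) (M : Subgroup (GL (Fin n) F)) (y w : VV)
    (h1 : Zu q M y w) : Zu q M y (-w) := by
  obtain ⟨h, hm⟩ := h1
  have h'' : hf y (-w) = 0 := by rw [herm_neg_right hF, h, neg_zero]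
  refine ⟨h'', ?_⟩
  have : tvu q y (-w) h'' = (tvu q y w h)⁻¹ := by
    rw [eq_inv_iff_mul_eq_one]
    apply gl_ext'; intro v
    simp only [gl_mul_mulVec, tvu_mulVec, herm_add_left, herm_smul_left, herm_neg_right hF, h,
      gl_one_mulVec]
    module
  rw [this]; exact M.inv_mem hm

theorem Zu_conj (hF : Fintype.card F = q ^ 2) (M : Subgroup (GL (Fin n) F)) (t : GL (Fin n) F)
    (htM : t ∈ M) (ht : t ∈ Cfsg.GU n F q) (y w : VV) (h1 : Zu q M y w) :
    Zu q M ((t : MM) *ᵥ y) ((t : MM) *ᵥ w) := by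
  obtain ⟨h, hm⟩ := h1
  have h'' : hf ((t : MM) *ᵥ y) ((t : MM) *ᵥ w) = 0 := by rw [gu_herm t ht, h]
  refine ⟨h'', ?_⟩
  have : tvu q ((t : MM) *ᵥ y) ((t : MM) *ᵥ w) h'' = t * tvu q y w h * t⁻¹ := by
    apply gl_ext'; intro v
    rw [gl_mul_mulVec, gl_mul_mulVec, tvu_mulVec, tvu_mulVec, Matrix.mulVec_add,
      Matrix.mulVec_smul, gl_mulVec_inv, gu_herm_inv t ht]
  rw [this]; exact M.mul_mem (M.mul_mem htM hm) (M.inv_mem htM)

theorem Zu_smul (hF : Fintype.card F = q ^ 2) (M : Subgroup (GL (Fin n) F)) (l : F) (y w : VV)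
    (h1 : Zu q M y w) (hl : l ≠ 0) : Zu q M (l • y) ((l ^ q)⁻¹ • w) := by
  obtain ⟨h, hm⟩ := h1
  have h'' : hf (l • y) ((l ^ q)⁻¹ • w) = 0 := by
    rw [herm_smul_left, herm_smul_right, h, mul_zero, mul_zero]
  refine ⟨h'', ?_⟩
  have : tvu q (l • y) ((l ^ q)⁻¹ • w) h'' = tvu q y w h := by
    apply gl_ext'; intro v
    rw [tvu_mulVec, tvu_mulVec, herm_smul_right, inv_pow, pow_q_q hF, smul_smul]
    congr 2
    field_simp
  rw [this]; exact hm

theorem conj_TTu_gen (hF : Fintype.card F = q ^ 2) (g : GL (Fin n) F) (x : VV) (c : F)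
    (hx : hf x x = 0) :
    ∃ w : VV, (∀ v : VV, hf v w = c * hf (((g⁻¹ : GL (Fin n) F) : MM) *ᵥ v) x) ∧
      ∃ h : hf ((g : MM) *ᵥ x) w = 0, g * TTu q x c * g⁻¹ = tvu q ((g : MM) *ᵥ x) w h := by
  let L : VV →ₗ[F] F := c • ((hermL q x).comp (Matrix.mulVecLin ((g⁻¹ : GL (Fin n) F) : MM)))
  have hL : ∀ v : VV, L v = c * hf (((g⁻¹ : GL (Fin n) F) : MM) *ᵥ v) x := fun v => rfl
  obtain ⟨w, hwdef⟩ : ∃ w : VV, w = fun j => (L (fun k => if j = k then 1 else 0)) ^ q :=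
    ⟨_, rfl⟩
  have hw : ∀ v : VV, hf v w = c * hf (((g⁻¹ : GL (Fin n) F) : MM) *ᵥ v) x := by
    intro v
    rw [← hL, LinearMap.pi_apply_eq_sum_univ L v, hwdef]
    unfold Cfsg.hermForm
    apply Finset.sum_congr rfl
    intro j _
    rw [pow_q_q hF, smul_eq_mul]
  refine ⟨w, hw, ?_⟩
  have h : hf ((g : MM) *ᵥ x) w = 0 := by rw [hw, gl_inv_mulVec, hx, mul_zero]
  refine ⟨h, ?_⟩
  apply gl_ext'; intro v
  rw [gl_mul_mulVec, gl_mul_mulVec, TTu_mulVec _ _ hx, tvu_mulVec, Matrix.mulVec_add,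
    Matrix.mulVec_smul, gl_mulVec_inv, hw]

theorem Zu_full (hF : Fintype.card F = q ^ 2) (hn : 4 ≤ n) (M : Subgroup (GL (Fin n) F))
    (hSU : SUG n F q ≤ M) (w₁ : VV) (hw₁ : hf w₁ w₁ = 1) (w' : VV) (hw'0 : w' ≠ 0)
    (hZ : Zu q M w₁ w') : ∀ u ∈ perpS q ({w₁} : Set VV), Zu q M w₁ u := by
  have hN := ndeg_perp_unit hF w₁ hw₁
  have hfr := finrank_perp_unit hF w₁ hw₁
  have h3 : 3 ≤ Module.finrank F (perpS q ({w₁} : Set VV) : Submodule F VV) := by omega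
  have hw'U : w' ∈ perpS q ({w₁} : Set VV) := by
    intro s hs
    rw [Set.mem_singleton_iff] at hs
    rw [hs]
    exact herm_eq_zero_symm hF _ _ hZ.1
  have hfix : ∀ t ∈ TUin q (perpS q ({w₁} : Set VV)), (t : MM) *ᵥ w₁ = w₁ := fun t ht =>
    TUin_fix _ t ht w₁ (fun u hu => perp_symm hF _ u hu w₁ rfl)
  have hconj : ∀ t ∈ TUin q (perpS q ({w₁} : Set VV)), ∀ w : VV, Zu q M w₁ w →
      Zu q M w₁ ((t : MM) *ᵥ w) := by
    intro t ht w hw
    have htS := TUin_le_SUG hF _ ht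
    have := Zu_conj hF M t (hSU htS) (Subgroup.mem_inf.mp htS).1 w₁ w hw
    rwa [hfix t ht] at this
  obtain ⟨p, hpU, hpp, hpw⟩ := exists_iso_pairing hF _ hN (by omega) w' hw'U hw'0
  have hw'p : hf w' p ≠ 0 := fun h => hpw (herm_eq_zero_symm hF _ _ h)
  obtain ⟨ε, hε0, hε⟩ := exists_eps hF
  have h1 := hconj _ (TTu_mem_TUin _ p ε hpU hpp hε) w' hZ
  rw [TTu_mulVec _ _ hpp] at h1
  have h2 := Zu_add hF M w₁ _ _ h1 (Zu_neg hF M w₁ w' hZ)
  have e : w' + (ε * hf w' p) • p + -w' = (ε * hf w' p) • p := by abel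
  rw [e] at h2
  obtain ⟨p₁, hp₁⟩ : ∃ p₁ : VV, p₁ = (ε * hf w' p) • p := ⟨_, rfl⟩
  rw [← hp₁] at h2
  have hp0 : p ≠ 0 := by
    intro h0; rw [h0, herm_zero_left] at hpw; exact hpw rfl
  have hp₁0 : p₁ ≠ 0 := by rw [hp₁]; exact smul_ne_zero (mul_ne_zero hε0 hw'p) hp0
  have hp₁U : p₁ ∈ perpS q ({w₁} : Set VV) := by rw [hp₁]; exact Submodule.smul_mem _ _ hpU
  have hp₁p₁ : hf p₁ p₁ = 0 := by rw [hp₁, herm_smul_smul, hpp, mul_zero]
  apply iso_span_induction hF _ hN (by omega) (fun u => Zu q M w₁ u)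
  · intro a b ha hb; exact Zu_add hF M w₁ a b ha hb
  · intro x hxU hxx
    by_cases hx0 : x = 0
    · rw [hx0]; exact Zu_zero hF M w₁
    · obtain ⟨t, ht, htp⟩ := H1 hF _ hN h3 p₁ x hp₁U hxU hp₁p₁ hxx hp₁0 hx0
      rw [← htp]; exact hconj t ht p₁ h2

theorem unit_trans (hF : Fintype.card F = q ^ 2) (hn : 4 ≤ n) (w w' : VV) (hw : hf w w = 1)
    (hw' : hf w' w' = 1) :
    ∃ t ∈ TUin q (⊤ : Submodule F VV), (t : MM) *ᵥ w = w' := by
  obtain ⟨l₀, hl₀⟩ := exists_trace hF (1 : F) (one_pow q)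
  obtain ⟨x₁, y₁, hx₁, hy₁, hx₁y₁, rfl⟩ := unit_to_pair hF (by omega) w hw l₀ hl₀
  obtain ⟨x₂, y₂, hx₂, hy₂, hx₂y₂, rfl⟩ := unit_to_pair hF (by omega) w' hw' l₀ hl₀
  have hfr : 4 ≤ Module.finrank F (⊤ : Submodule F VV) := by
    rw [finrank_top, Module.finrank_fin_fun]; exact hn
  obtain ⟨t, ht, h1, h2⟩ := Hpair hF ⊤ (ndeg_top hF) hfr x₂ y₂ x₁ y₁ trivial trivial trivial
    trivial hx₂ hy₂ hx₂y₂ hx₁ hy₁ hx₁y₁
  exact ⟨t, ht, by rw [Matrix.mulVec_add, Matrix.mulVec_smul, h1, h2]⟩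

end usimB

section slee

variable {F : Type*} [Field F] {n : ℕ}

/-- a subgroup of `GL` containing all elementary transvections contains `SL` -/
theorem SL_le_of_EE (hn : 2 ≤ n) (M : Subgroup (GL (Fin n) F))
    (hEE : ∀ (i j : Fin n) (hij : i ≠ j) (a : F), EE i j hij a ∈ M) :
    Cfsg.Geo.specialLinear (Fin n) F ≤ M := by
  classical
  haveI : Nontrivial (Fin n) := Fin.nontrivial_iff_two_le.mpr hn
  have key : ∀ g : Matrix.SpecialLinearGroup (Fin n) F, matIn M (g : Matrix (Fin n) (Fin n) F) := by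
    intro g
    apply Matrix.SpecialLinearGroup.diagonal_transvection_induction'
      (fun g => matIn M (g : Matrix (Fin n) (Fin n) F)) g
    · intro i j hij c hc
      rw [Matrix.SpecialLinearGroup.diag2n_coe, ← diag2n_eq i j hij c hc]
      exact ⟨_, M.mul_mem (M.mul_mem (M.mul_mem (hEE _ _ _ _) (hEE _ _ _ _)) (hEE _ _ _ _))
        (hEE _ _ _ _), rfl⟩
    · intro i j hij a
      change matIn M (Matrix.transvection i j a)
      rw [← EE_val i j hij a]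
      exact ⟨_, hEE i j hij a, rfl⟩
    · intro A B hA hB
      rw [Matrix.SpecialLinearGroup.coe_mul]
      exact matIn_mul M hA hB
  intro g hg
  rw [← matIn_coe]
  exact key ⟨(g : Matrix (Fin n) (Fin n) F), (mem_SL g).mp hg⟩

end slee

end Cfsg.Agent.helper29
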