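import Mathlib
import Cfsg.Agent.Lib_helper29_USimB

set_option autoImplicit false
set_option linter.unusedSectionVars false
set_option linter.unusedVariables false

namespace Cfsg.Agent.helper29

open Matrix Cfsg Cfsg.Agent.helper11.HermCount Cfsg.Agent.helper11.Unitary Cfsg.Agent.S0772

section usimC

variable {F : Type*} [Field F] [Fintype F] {q n : ℕ}

local notation "hf" => Cfsg.hermForm n F q
local notation "VV" => (Fin n → F)
local notation "MM" => Matrix (Fin n) (Fin n) F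

theorem SUG_le_sim (hF : Fintype.card F = q ^ 2) :
    SUG n F q ≤ Cfsg.Geo.similarityGroup (Cfsg.hermForm n F q) ⊓
      Cfsg.Geo.specialLinear (Fin n) F := by
  intro t ht
  refine ⟨?_, (Subgroup.mem_inf.mp ht).2⟩
  exact ⟨1, fun u v => by rw [gu_herm t (Subgroup.mem_inf.mp ht).1, Units.val_one, one_mul]⟩

theorem thmSim (hF : Fintype.card F = q ^ 2) (hn : 4 ≤ n) (M : Subgroup (GL (Fin n) F))
    (hHM : Cfsg.Geo.similarityGroup (Cfsg.hermForm n F q) ⊓
      Cfsg.Geo.specialLinear (Fin n) F ≤ M)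
    (hMle : M ≤ Cfsg.Geo.specialLinear (Fin n) F) :
    M = Cfsg.Geo.similarityGroup (Cfsg.hermForm n F q) ⊓ Cfsg.Geo.specialLinear (Fin n) F ∨
      M = Cfsg.Geo.specialLinear (Fin n) F := by
  by_cases hle : M ≤ Cfsg.Geo.similarityGroup (Cfsg.hermForm n F q) ⊓
      Cfsg.Geo.specialLinear (Fin n) F
  · left; exact le_antisymm hle hHM
  right
  apply le_antisymm hMle
  have hSU : SUG n F q ≤ M := le_trans (SUG_le_sim hF) hHM
  obtain ⟨g, hgM, hgH⟩ := SetLike.not_le_iff_exists.mp hle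
  have hgSL := hMle hgM
  have hgsim : g ∉ Cfsg.Geo.similarityGroup (Cfsg.hermForm n F q) := fun h => hgH ⟨h, hgSL⟩
  have hex : ∃ x : VV, hf x x = 0 ∧ hg q g x x ≠ 0 := by
    by_contra hcon
    push Not at hcon
    obtain ⟨κ, hκ0, hκ⟩ := cone_lemma hF hn g hcon
    exact hgsim ⟨Units.mk0 κ hκ0, fun u v => hκ u v⟩
  obtain ⟨x, hxx, hb⟩ := hex
  unfold hg at hb
  have hx0 : x ≠ 0 := by
    intro h0; apply hb; rw [h0, Matrix.mulVec_zero, herm_zero_left]
  obtain ⟨ε, hε0, hε⟩ := exists_eps hF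
  obtain ⟨w, hw, hyw, heq⟩ := conj_TTu_gen hF g x ε hxx
  have hZ0 : Zu q M ((g : MM) *ᵥ x) w := ⟨hyw, by
    rw [← heq]
    exact M.mul_mem (M.mul_mem hgM (hSU (TTu_mem_SUG hF x ε hxx hε))) (M.inv_mem hgM)⟩
  have hw0 : w ≠ 0 := by
    obtain ⟨y', -, -, hxy'⟩ := exists_partner_u hF ⊤ (ndeg_top hF) x trivial hx0 hxx
    have hy'x := herm_yx_of_xy hF x y' hxy'
    intro h0
    have := hw ((g : MM) *ᵥ y')
    rw [h0, herm_zero_right hF, gl_inv_mulVec, hy'x, mul_one] at this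
    exact hε0 this.symm
  obtain ⟨y, hy⟩ : ∃ y : VV, y = (g : MM) *ᵥ x := ⟨_, rfl⟩
  rw [← hy] at hb hZ0
  have hbq : (hf y y) ^ q = hf y y := herm_conj hF y y
  obtain ⟨l, hl⟩ := exists_norm hF ((hf y y)⁻¹) (by rw [inv_pow, hbq]) (inv_ne_zero hb)
  have hl0 : l ≠ 0 := by
    intro h0; rw [h0, zero_mul] at hl; exact inv_ne_zero hb hl.symm
  have hw₁ : hf (l • y) (l • y) = 1 := by rw [herm_smul_smul, hl, inv_mul_cancel₀ hb]
  have hZ1 := Zu_smul hF M l y w hZ0 hl0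
  have hw'0 : (l ^ q)⁻¹ • w ≠ 0 := smul_ne_zero (inv_ne_zero (pow_ne_zero _ hl0)) hw0
  have hfull := Zu_full hF hn M hSU (l • y) hw₁ _ hw'0 hZ1
  apply SL_le_of_EE (by omega) M
  intro i j hij a
  have hei : hf (Pi.single i 1 : VV) (Pi.single i 1) = 1 := by
    rw [herm_single_right (q_ne_zero hF)]; simp
  obtain ⟨t, ht, hte⟩ := unit_trans hF hn (l • y) (Pi.single i 1) hw₁ hei
  have htS := TUin_le_SUG hF ⊤ ht
  have htGU := (Subgroup.mem_inf.mp htS).1
  have hu : (((t⁻¹ : GL (Fin n) F) : MM) *ᵥ ((a ^ q) • (Pi.single j 1 : VV))) ∈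
      perpS q ({l • y} : Set VV) := by
    intro s hs
    rw [Set.mem_singleton_iff] at hs
    rw [hs, gu_herm_inv t htGU, hte, herm_smul_left, herm_single_right (q_ne_zero hF)]
    simp [hij]
  have h1 := Zu_conj hF M t (hSU htS) htGU _ _ (hfull _ hu)
  rw [hte, gl_mulVec_inv] at h1
  obtain ⟨h, hm⟩ := h1
  have : EE i j hij a = tvu q (Pi.single i 1) ((a ^ q) • (Pi.single j 1 : VV)) h := by
    apply gl_ext'; intro v
    rw [EE_mulVec, tvu_mulVec, herm_smul_right, pow_q_q hF, herm_single_right (q_ne_zero hF)]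
  rw [this]; exact hm

theorem simG_lt (hF : Fintype.card F = q ^ 2) (hn : 2 ≤ n) :
    Cfsg.Geo.similarityGroup (Cfsg.hermForm n F q) ⊓ Cfsg.Geo.specialLinear (Fin n) F <
      Cfsg.Geo.specialLinear (Fin n) F := by
  apply lt_of_le_of_ne inf_le_right
  intro heq
  have h01 : (⟨0, by omega⟩ : Fin n) ≠ ⟨1, by omega⟩ := by
    intro h; simp [Fin.ext_iff] at h
  have hE : EE (⟨0, by omega⟩ : Fin n) ⟨1, by omega⟩ h01 (1 : F) ∈
      Cfsg.Geo.specialLinear (Fin n) F := G1_mem_SL _ _ (elem_dot _ _ h01 1) _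
  rw [← heq] at hE
  obtain ⟨c, hc⟩ := hE.1
  have h2 := hc (Pi.single (⟨0, by omega⟩ : Fin n) 1) (Pi.single (⟨1, by omega⟩ : Fin n) 1)
  rw [EE_mulVec, EE_mulVec] at h2
  simp [herm_add_right hF, herm_add_left, herm_smul_right, herm_smul_left,
    herm_single_right (q_ne_zero hF), h01, h01.symm, Pi.single_apply, Fin.ext_iff] at h2

end usimC

end Cfsg.Agent.helper29
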