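import Mathlib
import Cfsg.Agent.Lib_helper29_USimC

set_option autoImplicit false
set_option linter.unusedSectionVars false
set_option linter.unusedVariables false

namespace Cfsg.Agent.helper29

open Matrix Cfsg Cfsg.Agent.helper11.HermCount Cfsg.Agent.helper11.Unitary

section sigma

/-- an involutive automorphism of a finite field is `x ↦ x ^ q` with `|F| = q²` -/
theorem sigma_pow {F : Type*} [Field F] [Fintype F] (σ : F ≃+* F) (hne : σ ≠ RingEquiv.refl F)
    (hinv : ∀ a, σ (σ a) = a) : ∃ q : ℕ, Fintype.card F = q ^ 2 ∧ ∀ a, σ a = a ^ q := by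
  classical
  let K : Subfield F := RingHom.eqLocusField (σ : F →+* F) (RingHom.id F)
  have hmem : ∀ a : F, a ∈ K ↔ σ a = a := fun a => Iff.rfl
  haveI : Fintype K := Fintype.ofFinite K
  let ψ : F →ₐ[K] F := FiniteField.frobeniusAlgHom K F
  have hψ : ∀ a : F, ψ a = a ^ Fintype.card K := fun a => rfl
  have hq1 : 1 < Fintype.card K := Fintype.one_lt_card
  have hψK : ∀ c : F, c ∈ K → ψ c = c := by
    intro c hc
    exact ψ.commutes ⟨c, hc⟩
  have hfix : ∀ a : F, ψ a = a → a ∈ K := by
    intro a ha
    by_contra haK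
    have hpoly : (Polynomial.X ^ Fintype.card K - Polynomial.X : Polynomial F) = 0 := by
      apply Polynomial.eq_zero_of_natDegree_lt_card_of_eval_eq_zero' _
        (insert a (Finset.univ.filter (· ∈ K)))
      · intro i hi
        rw [Finset.mem_insert] at hi
        simp only [Polynomial.eval_sub, Polynomial.eval_pow, Polynomial.eval_X]
        rcases hi with rfl | hi
        · rw [← hψ, ha, sub_self]
        · rw [← hψ, hψK i (Finset.mem_filter.mp hi).2, sub_self]
      · rw [FiniteField.X_pow_card_sub_X_natDegree_eq F hq1,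
          Finset.card_insert_of_notMem (by simp [haK])]
        have : Fintype.card K = (Finset.univ.filter (· ∈ K)).card :=
          Fintype.card_of_subtype _ (fun x => by simp)
        omega
    exact FiniteField.X_pow_card_sub_X_ne_zero F hq1 hpoly
  have hmain : ∀ a : F, σ a = a ^ Fintype.card K := by
    intro a
    have ht : a + σ a ∈ K := by rw [hmem, map_add, hinv, add_comm]
    have hm : a * σ a ∈ K := by rw [hmem, map_mul, hinv, mul_comm]
    have key : ψ (a ^ 2 - (a + σ a) * a + a * σ a) = 0 := by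
      rw [show a ^ 2 - (a + σ a) * a + a * σ a = 0 by ring, map_zero]
    rw [map_add, map_sub, map_mul, map_pow, hψK _ ht, hψK _ hm] at key
    have h0 : (ψ a - a) * (ψ a - σ a) = 0 := by linear_combination key
    rw [← hψ]
    rcases mul_eq_zero.mp h0 with h | h
    · have h' : ψ a = a := sub_eq_zero.mp h
      rw [h']
      exact (hmem a).mp (hfix a h')
    · exact (sub_eq_zero.mp h).symm
  obtain ⟨q, hq⟩ : ∃ q : ℕ, q = Fintype.card K := ⟨_, rfl⟩
  rw [← hq] at hmain hq1
  have hqq : ∀ a : F, a ^ (q ^ 2) = a := by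
    intro a; rw [pow_two, pow_mul, ← hmain, ← hmain, hinv]
  have hq2 : 1 < q ^ 2 := by nlinarith
  have hle : Fintype.card F ≤ q ^ 2 := by
    by_contra hlt
    push Not at hlt
    have : (Polynomial.X ^ (q ^ 2) - Polynomial.X : Polynomial F) = 0 := by
      apply Polynomial.eq_zero_of_natDegree_lt_card_of_eval_eq_zero' _ Finset.univ
      · intro i _
        simp only [Polynomial.eval_sub, Polynomial.eval_pow, Polynomial.eval_X]
        rw [hqq, sub_self]
      · rw [FiniteField.X_pow_card_sub_X_natDegree_eq F hq2, Finset.card_univ]; exact hlt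
    exact FiniteField.X_pow_card_sub_X_ne_zero F hq2 this
  have hcard := Module.card_eq_pow_finrank (K := K) (V := F)
  rw [← hq] at hcard
  have hd : 2 ≤ Module.finrank K F := by
    by_contra hlt
    push Not at hlt
    have h1 : Fintype.card F ≤ q := by
      rw [hcard]
      calc q ^ Module.finrank K F ≤ q ^ 1 := Nat.pow_le_pow_right (by omega) (by omega)
        _ = q := pow_one q
    have hinj : Function.Injective (Subtype.val : K → F) := Subtype.val_injective
    have hbij : Function.Bijective (Subtype.val : K → F) :=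
      (Fintype.bijective_iff_injective_and_card _).mpr
        ⟨hinj, le_antisymm (Fintype.card_le_of_injective _ hinj) (hq ▸ h1)⟩
    apply hne
    ext a
    obtain ⟨⟨c, hc⟩, rfl⟩ := hbij.2 a
    exact hc
  refine ⟨q, le_antisymm hle ?_, hmain⟩
  rw [hcard]
  exact Nat.pow_le_pow_right (by omega) hd

end sigma

section uform

variable {F : Type*} [Field F] [Fintype F] {q n : ℕ}

local notation "VV" => (Fin n → F)

/-- hypotheses on an abstract hermitian form -/
structure HermF (q : ℕ) (f : (Fin n → F) → (Fin n → F) → F) : Prop where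
  add_left : ∀ x y v, f (x + y) v = f x v + f y v
  smul_left : ∀ (c : F) (x v : Fin n → F), f (c • x) v = c * f x v
  herm : ∀ v w, f v w = (f w v) ^ q

variable {f : (Fin n → F) → (Fin n → F) → F}

theorem HermF.add_right (h : HermF q f) (hF : Fintype.card F = q ^ 2) (v x y : VV) :
    f v (x + y) = f v x + f v y := by
  rw [h.herm v (x + y), h.add_left, add_pow_q hF, ← h.herm, ← h.herm]

theorem HermF.smul_right (h : HermF q f) (c : F) (v x : VV) : f v (c • x) = c ^ q * f v x := by
  rw [h.herm v (c • x), h.smul_left, mul_pow, ← h.herm]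

theorem HermF.zero_left (h : HermF q f) (v : VV) : f 0 v = 0 := by
  have := h.smul_left 0 0 v
  rwa [zero_smul, zero_mul] at this

theorem HermF.zero_right (h : HermF q f) (hF : Fintype.card F = q ^ 2) (v : VV) : f v 0 = 0 := by
  rw [h.herm, h.zero_left, zero_pow (q_ne_zero hF)]

theorem HermF.sub_left (h : HermF q f) (x y v : VV) : f (x - y) v = f x v - f y v := by
  have := h.add_left (x - y) y v
  rw [sub_add_cancel] at this
  rw [this]; ring

theorem HermF.self_pow (h : HermF q f) (v : VV) : (f v v) ^ q = f v v := (h.herm v v).symm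

theorem HermF.sum_left (h : HermF q f) {ι : Type*} (s : Finset ι) (a : ι → F) (b : ι → VV)
    (v : VV) : f (∑ i ∈ s, a i • b i) v = ∑ i ∈ s, a i * f (b i) v := by
  classical
  induction s using Finset.induction_on with
  | empty => simp [h.zero_left]
  | insert i s hi ih =>
    rw [Finset.sum_insert hi, Finset.sum_insert hi, h.add_left, h.smul_left, ih]

theorem HermF.sum_right (h : HermF q f) (hF : Fintype.card F = q ^ 2) {ι : Type*} (s : Finset ι)
    (a : ι → F) (b : ι → VV) (v : VV) :
    f v (∑ i ∈ s, a i • b i) = ∑ i ∈ s, (a i) ^ q * f v (b i) := by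
  classical
  induction s using Finset.induction_on with
  | empty => simp [h.zero_right hF]
  | insert i s hi ih =>
    rw [Finset.sum_insert hi, Finset.sum_insert hi, h.add_right hF, h.smul_right, ih]

theorem HermF.exists_aniso (h : HermF q f) (hF : Fintype.card F = q ^ 2) (U : Submodule F VV)
    (hU : U ≠ ⊥) (hnd : ∀ u ∈ U, (∀ v ∈ U, f u v = 0) → u = 0) : ∃ u ∈ U, f u u ≠ 0 := by
  by_contra hcon
  push Not at hcon
  apply hU
  rw [eq_bot_iff]
  intro u hu
  rw [Submodule.mem_bot]
  apply hnd u hu
  intro v hv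
  obtain ⟨c, hc⟩ := exists_not_fixed hF
  have h1 := hcon (u + v) (U.add_mem hu hv)
  have h2 := hcon (u + c • v) (U.add_mem hu (U.smul_mem c hv))
  rw [h.add_left, h.add_right hF, h.add_right hF, hcon u hu, hcon v hv] at h1
  rw [h.add_left, h.add_right hF, h.add_right hF, h.smul_left, h.smul_left, h.smul_right,
    h.smul_right, hcon u hu, hcon v hv] at h2
  have h3 : (c ^ q - c) * f u v = 0 := by linear_combination h2 - c * h1
  rcases mul_eq_zero.mp h3 with h4 | h4
  · exact absurd (sub_eq_zero.mp h4) hc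
  · exact h4

theorem HermF.exists_orthonormal (h : HermF q f) (hF : Fintype.card F = q ^ 2) :
    ∀ (k : ℕ) (U : Submodule F VV), Module.finrank F U = k →
    (∀ u ∈ U, (∀ v ∈ U, f u v = 0) → u = 0) →
    ∃ b : Fin k → VV, (∀ i, b i ∈ U) ∧ ∀ i j, f (b i) (b j) = if i = j then 1 else 0 := by
  intro k
  induction k with
  | zero => intro U _ _; exact ⟨Fin.elim0, fun i => i.elim0, fun i => i.elim0⟩
  | succ k ih =>
    intro U hk hnd
    have hU : U ≠ ⊥ := by
      intro h0; rw [h0, finrank_bot] at hk; omega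
    obtain ⟨u, huU, hu⟩ := h.exists_aniso hF U hU hnd
    obtain ⟨l, hl⟩ := exists_norm hF ((f u u)⁻¹) (by rw [inv_pow, h.self_pow]) (inv_ne_zero hu)
    obtain ⟨e, he⟩ : ∃ e : VV, e = l • u := ⟨_, rfl⟩
    have heU : e ∈ U := by rw [he]; exact U.smul_mem _ huU
    have hee : f e e = 1 := by
      rw [he, h.smul_left, h.smul_right, ← mul_assoc, hl, inv_mul_cancel₀ hu]
    let φ : VV →ₗ[F] F :=
      { toFun := fun v => f v e
        map_add' := fun x y => h.add_left x y e
        map_smul' := fun c x => by rw [h.smul_left]; rfl }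
    let Φ : U →ₗ[F] F := φ.comp U.subtype
    have hΦa : ∀ u : U, Φ u = f u.1 e := fun u => rfl
    have hsurj : LinearMap.range Φ = ⊤ := by
      rw [eq_top_iff]
      intro c _
      exact ⟨⟨c • e, U.smul_mem _ heU⟩, by rw [hΦa, h.smul_left, hee, mul_one]⟩
    have h1 := LinearMap.finrank_range_add_finrank_ker Φ
    rw [hsurj, finrank_top, Module.finrank_self, hk] at h1
    obtain ⟨U', hU'⟩ : ∃ U' : Submodule F VV, U' = (LinearMap.ker Φ).map U.subtype := ⟨_, rfl⟩
    have hmemU' : ∀ v, v ∈ U' ↔ v ∈ U ∧ f v e = 0 := by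
      intro v
      rw [hU']
      constructor
      · rintro ⟨w, hw, rfl⟩
        exact ⟨w.2, LinearMap.mem_ker.mp hw⟩
      · rintro ⟨hv, hve⟩
        exact ⟨⟨v, hv⟩, LinearMap.mem_ker.mpr hve, rfl⟩
    have hfrU' : Module.finrank F U' = k := by
      rw [hU', Submodule.finrank_map_subtype_eq]; omega
    have hndU' : ∀ u ∈ U', (∀ v ∈ U', f u v = 0) → u = 0 := by
      intro u' hu' hall
      obtain ⟨hu'U, hu'e⟩ := (hmemU' u').mp hu'
      apply hnd u' hu'U
      intro v hv
      have hv' : v - f v e • e ∈ U' := by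
        rw [hmemU']
        exact ⟨U.sub_mem hv (U.smul_mem _ heU), by
          rw [h.sub_left, h.smul_left, hee, mul_one, sub_self]⟩
      have h2 := hall _ hv'
      have e3 : f u' v = f u' (v - f v e • e) + (f v e) ^ q * f u' e := by
        rw [← h.smul_right, ← h.add_right hF, sub_add_cancel]
      have hu'e' : f u' e = 0 := hu'e
      rw [e3, h2, hu'e', mul_zero, add_zero]
    obtain ⟨b', hb'U, hb'⟩ := ih U' hfrU' hndU'
    refine ⟨Fin.cons e b', ?_, ?_⟩
    · intro i
      refine Fin.cases ?_ (fun j => ?_) i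
      · rw [Fin.cons_zero]; exact heU
      · rw [Fin.cons_succ]; exact ((hmemU' _).mp (hb'U j)).1
    · intro i j
      refine Fin.cases ?_ (fun i' => ?_) i <;> refine Fin.cases ?_ (fun j' => ?_) j
      · simp [hee]
      · simp only [Fin.cons_zero, Fin.cons_succ]
        rw [h.herm, ((hmemU' _).mp (hb'U j')).2, zero_pow (q_ne_zero hF)]
        simp [Fin.ext_iff]
      · simp only [Fin.cons_zero, Fin.cons_succ]
        rw [((hmemU' _).mp (hb'U i')).2]
        simp [Fin.ext_iff]
      · simp only [Fin.cons_succ]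
        rw [hb']
        simp [Fin.ext_iff]

theorem HermF.exists_std (h : HermF q f) (hF : Fintype.card F = q ^ 2)
    (hnd : Cfsg.Geo.IsNondegenerateForm f) :
    ∃ P : GL (Fin n) F, ∀ u v : VV,
      f ((P : Matrix (Fin n) (Fin n) F) *ᵥ u) ((P : Matrix (Fin n) (Fin n) F) *ᵥ v)
        = Cfsg.hermForm n F q u v := by
  obtain ⟨b, -, hb⟩ := h.exists_orthonormal hF n ⊤
    (by rw [finrank_top, Module.finrank_fin_fun]) (by
      intro u _ hu
      by_contra hu0
      obtain ⟨-, x, hx⟩ := hnd u hu0
      exact hx (hu x trivial))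
  let A : Matrix (Fin n) (Fin n) F := Matrix.of (fun i j => b j i)
  have hA : ∀ u : VV, A *ᵥ u = ∑ j, u j • b j := by
    intro u
    funext i
    simp only [Matrix.mulVec, dotProduct, A, Matrix.of_apply, Finset.sum_apply, Pi.smul_apply,
      smul_eq_mul]
    exact Finset.sum_congr rfl (fun j _ => mul_comm _ _)
  have hpres : ∀ u v : VV, f (A *ᵥ u) (A *ᵥ v) = Cfsg.hermForm n F q u v := by
    intro u v
    rw [hA, hA, h.sum_left]
    unfold Cfsg.hermForm
    apply Finset.sum_congr rfl
    intro i _
    rw [h.sum_right hF]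
    simp only [hb]
    simp
  have hinj : Function.Injective A.mulVec := by
    intro u u' huu'
    have hsub : A *ᵥ (u - u') = 0 := by
      rw [Matrix.mulVec_sub]; exact sub_eq_zero.mpr huu'
    have hall : ∀ v, Cfsg.hermForm n F q (u - u') v = 0 := by
      intro v; rw [← hpres, hsub, h.zero_left]
    have h0 : u - u' = 0 := by
      funext j
      have := hall (Pi.single j 1)
      rw [herm_single_right (q_ne_zero hF)] at this
      exact this
    exact sub_eq_zero.mp h0
  have hunit : IsUnit A := Matrix.mulVec_injective_iff_isUnit.mp hinj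
  obtain ⟨P, hP⟩ := hunit
  exact ⟨P, fun u v => by rw [hP]; exact hpres u v⟩

theorem sim_conj (f : (Fin n → F) → (Fin n → F) → F) (P : GL (Fin n) F)
    (hP : ∀ u v : VV, f ((P : Matrix (Fin n) (Fin n) F) *ᵥ u)
      ((P : Matrix (Fin n) (Fin n) F) *ᵥ v) = Cfsg.hermForm n F q u v) :
    (Cfsg.Geo.similarityGroup (Cfsg.hermForm n F q)).map (MulAut.conj P).toMonoidHom
      = Cfsg.Geo.similarityGroup f := by
  ext M
  rw [Subgroup.mem_map]
  constructor
  · rintro ⟨N, ⟨c, hc⟩, rfl⟩
    refine ⟨c, fun u v => ?_⟩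
    simp only [MulEquiv.coe_toMonoidHom, MulAut.conj_apply]
    rw [gl_mul_mulVec, gl_mul_mulVec, gl_mul_mulVec, gl_mul_mulVec, hP, hc, ← hP, gl_mulVec_inv,
      gl_mulVec_inv]
  · rintro ⟨c, hc⟩
    refine ⟨P⁻¹ * M * P, ⟨c, fun u v => ?_⟩, ?_⟩
    · rw [gl_mul_mulVec, gl_mul_mulVec, gl_mul_mulVec, gl_mul_mulVec, ← hP, gl_mulVec_inv,
        gl_mulVec_inv, hc, hP]
    · simp only [MulEquiv.coe_toMonoidHom, MulAut.conj_apply]; group

end uform

end Cfsg.Agent.helper29
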