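import Mathlib
import Cfsg.Agent.Lib_helper14_FieldConj
import Cfsg.Agent.Lib_helper29_UForm

/-! Elements of the coset `Inndiag · (φ_σ ι)` of the same prime order as the graph-field
automorphism `φ_σ ι` are conjugate to it under `Inndiag` (Hermitian forms are standard);
normality of `Inndiag` in `Aut(PSL_n)`. -/

set_option autoImplicit false

namespace Cfsg.Agent.helper14

open Matrix

section gfA
variable {n : ℕ} {F : Type*} [Field F]

theorem gf_sq (σ : F ≃+* F) (d : GL (Fin n) F) :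
    (PhiL d * (phiS σ * iota0)) * (PhiL d * (phiS σ * iota0)) =
      PhiL (d * Matrix.GeneralLinearGroup.map (σ : F →+* F) (gInvT d)) * phiS (σ * σ) := by
  calc (PhiL d * (phiS σ * iota0)) * (PhiL d * (phiS σ * iota0))
      = PhiL d * phiS σ * (iota0 * PhiL d) * phiS σ * iota0 := by group
    _ = PhiL d * (phiS σ * PhiL (gInvT d)) * (iota0 * phiS σ) * iota0 := by
        rw [iota0_comm]
        group
    _ = PhiL d * PhiL (Matrix.GeneralLinearGroup.map (σ : F →+* F) (gInvT d)) *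
          (phiS σ * phiS σ) * (iota0 * iota0) := by
        rw [phiS_PhiL, iota0_phiS]
        group
    _ = _ := by
        rw [iota0_mul_self, mul_one, phiS_mul, map_mul]

theorem gf_conj (σ : F ≃+* F) (h : GL (Fin n) F) :
    PhiL h * (phiS σ * iota0) * (PhiL h)⁻¹ =
      PhiL (h * (Matrix.GeneralLinearGroup.map (σ : F →+* F) (gInvT h))⁻¹) * (phiS σ * iota0) := by
  calc PhiL h * (phiS σ * iota0) * (PhiL h)⁻¹
      = PhiL h * phiS σ * (iota0 * PhiL h⁻¹) := by
        rw [map_inv]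
        group
    _ = PhiL h * (phiS σ * PhiL (gInvT h⁻¹)) * iota0 := by
        rw [iota0_comm]
        group
    _ = _ := by
        rw [phiS_PhiL, gInvT_inv, map_inv, map_mul]
        group

theorem iota0_pow_odd (m : ℕ) :
    (iota0 : MulAut (ProjectiveSpecialLinearGroup (Fin n) F)) ^ (2 * m + 1) = iota0 := by
  rw [pow_succ, pow_mul, pow_two, iota0_mul_self, one_pow, one_mul]

theorem gf_pow (σ : F ≃+* F) (k : ℕ) :
    (phiS σ * iota0 : MulAut (ProjectiveSpecialLinearGroup (Fin n) F)) ^ k =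
      phiS (σ ^ k) * iota0 ^ k := by
  have hc : Commute (phiS σ : MulAut (ProjectiveSpecialLinearGroup (Fin n) F)) iota0 :=
    (iota0_phiS σ).symm
  rw [hc.mul_pow]
  congr 1
  exact (map_pow phiSHom σ k).symm

end gfA

section gfB
variable {n : ℕ} {F : Type*} [Field F] [Fintype F]

theorem gf_order {p f : ℕ} [hp : Fact p.Prime] (hF : Fintype.card F = p ^ f) (hf : 1 ≤ f)
    (hn : 3 ≤ n) (σ : F ≃+* F) {r : ℕ} (hr : r.Prime)
    (h : orderOf (phiS σ * iota0 : MulAut (ProjectiveSpecialLinearGroup (Fin n) F)) = r) :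
    r = 2 ∧ σ * σ = 1 := by
  have h1 : (phiS σ * iota0 : MulAut (ProjectiveSpecialLinearGroup (Fin n) F)) ^ r = 1 := by
    rw [← h]
    exact pow_orderOf_eq_one _
  rw [gf_pow] at h1
  have hr2 : r = 2 := by
    rcases hr.eq_two_or_odd' with h2 | ⟨m, hm⟩
    · exact h2
    · exfalso
      rw [hm, iota0_pow_odd] at h1
      apply no_graph hF hf hn 1 1 1 (σ ^ (2 * m + 1))
      rw [map_one, one_mul, one_mul, phiS_one]
      exact h1.symm
  refine ⟨hr2, ?_⟩
  rw [hr2, pow_two, pow_two, iota0_mul_self, mul_one] at h1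
  apply phiSHom_injective (n := n) (by omega)
  rw [map_one]
  exact h1

end gfB

section gfC
variable {n : ℕ} {F : Type*} [Field F]

theorem herm_scalar (σ : F ≃+* F) (hne : σ ≠ RingEquiv.refl F) (hinv : ∀ a, σ (σ a) = a)
    (c : F) (hc : c * σ c = 1) : ∃ t : F, t ≠ 0 ∧ σ t = c * t := by
  by_cases h1 : 1 + c = 0
  · have hc1 : c = -1 := by linear_combination h1
    obtain ⟨a, ha⟩ : ∃ a, σ a ≠ a := by
      by_contra hcon
      push Not at hcon
      apply hne
      ext a
      exact hcon a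
    refine ⟨a - σ a, sub_ne_zero.mpr (Ne.symm ha), ?_⟩
    rw [map_sub, hinv, hc1]
    ring
  · refine ⟨1 + σ c, ?_, ?_⟩
    · intro h0
      apply h1
      have : c * (1 + σ c) = 0 := by rw [h0, mul_zero]
      linear_combination this - hc
    · rw [map_add, map_one, hinv]
      linear_combination -hc

theorem gf_entries (σ : F ≃+* F) (D : GL (Fin n) F) (c : Fˣ)
    (h : D * Matrix.GeneralLinearGroup.map (σ : F →+* F) (gInvT D) =
      Matrix.GeneralLinearGroup.scalar (Fin n) c) (i j : Fin n) :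
    (D : Matrix (Fin n) (Fin n) F) i j = c * σ ((D : Matrix (Fin n) (Fin n) F) j i) := by
  have h1 : D = Matrix.GeneralLinearGroup.scalar (Fin n) c *
      (Matrix.GeneralLinearGroup.map (σ : F →+* F) (gInvT D))⁻¹ := by
    rw [← h]
    group
  have h2 := congrArg (fun g : GL (Fin n) F => (g : Matrix (Fin n) (Fin n) F) i j) h1
  rw [← map_inv] at h2
  simp only [Units.val_mul, glmap_val, gInvT_inv_val, Matrix.GeneralLinearGroup.coe_scalar] at h2
  rw [h2, Matrix.scalar_apply, Matrix.diagonal_mul, Matrix.map_apply, Matrix.transpose_apply]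

theorem gf_norm_one (hn : 1 ≤ n) (σ : F ≃+* F) (hinv : ∀ a, σ (σ a) = a) (D : GL (Fin n) F) (c : Fˣ)
    (h : ∀ i j, (D : Matrix (Fin n) (Fin n) F) i j = c * σ ((D : Matrix (Fin n) (Fin n) F) j i)) :
    (c : F) * σ c = 1 := by
  have hD : (D : Matrix (Fin n) (Fin n) F) ≠ 0 := by
    intro h0
    have h1 : (D : Matrix (Fin n) (Fin n) F) * ((D⁻¹ : GL (Fin n) F) : Matrix (Fin n) (Fin n) F) = 1 :=
      gl_mul_inv D
    rw [h0, Matrix.zero_mul] at h1
    have h2 := congrFun (congrFun h1 ⟨0, by omega⟩) ⟨0, by omega⟩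
    rw [Matrix.zero_apply, Matrix.one_apply_eq] at h2
    exact zero_ne_one h2
  obtain ⟨i, j, hij⟩ : ∃ i j, (D : Matrix (Fin n) (Fin n) F) i j ≠ 0 := by
    by_contra hcon
    push Not at hcon
    apply hD
    ext i j
    exact hcon i j
  have h1 := h i j
  rw [h j i, map_mul, hinv] at h1
  have h2 : (D : Matrix (Fin n) (Fin n) F) i j * ((c : F) * σ c - 1) = 0 := by
    linear_combination -h1
  rcases mul_eq_zero.mp h2 with h3 | h3
  · exact absurd h3 hij
  · linear_combination h3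

end gfC

section gfD
variable {n : ℕ} {F : Type*} [Field F]

/-- the sesquilinear form of a matrix -/
def sform (σ : F ≃+* F) (M : Matrix (Fin n) (Fin n) F) (u v : Fin n → F) : F :=
  u ⬝ᵥ (M *ᵥ (σ ∘ v))

theorem comp_comp_inv (σ : F ≃+* F) (hinv : ∀ a, σ (σ a) = a) (v : Fin n → F) :
    σ ∘ (σ ∘ v) = v := by
  funext i
  exact hinv (v i)

theorem sform_herm (σ : F ≃+* F) (hinv : ∀ a, σ (σ a) = a) (M : Matrix (Fin n) (Fin n) F)
    (hM : ∀ i j, M i j = σ (M j i)) (v w : Fin n → F) :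
    sform σ M v w = σ (sform σ M w v) := by
  have hMt : M.map σ = Mᵀ := by
    ext i j
    rw [Matrix.map_apply, Matrix.transpose_apply, hM j i]
  unfold sform
  have h1 : σ (w ⬝ᵥ (M *ᵥ (σ ∘ v))) = (σ ∘ w) ⬝ᵥ (σ ∘ (M *ᵥ (σ ∘ v))) :=
    RingHom.map_dotProduct (σ : F →+* F) w _
  rw [h1, comp_mulVec, comp_comp_inv σ hinv, hMt, Matrix.mulVec_transpose, Matrix.dotProduct_mulVec]
  exact dotProduct_comm _ _

theorem comp_single_one (σ : F ≃+* F) (j : Fin n) :
    σ ∘ (Pi.single j (1 : F) : Fin n → F) = Pi.single j 1 := by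
  funext k
  by_cases hk : k = j
  · subst hk
    rw [Function.comp_apply, Pi.single_eq_same, map_one]
  · rw [Function.comp_apply, Pi.single_eq_of_ne hk, map_zero]

theorem sform_mulVec (σ : F ≃+* F) (M P : Matrix (Fin n) (Fin n) F) (u v : Fin n → F) :
    sform σ M (P *ᵥ u) (P *ᵥ v) = sform σ (Pᵀ * M * P.map σ) u v := by
  unfold sform
  rw [comp_mulVec, ← Matrix.vecMul_transpose, ← Matrix.dotProduct_mulVec, Matrix.mulVec_mulVec,
    Matrix.mulVec_mulVec, Matrix.mul_assoc]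

theorem sform_single (σ : F ≃+* F) (M : Matrix (Fin n) (Fin n) F) (i j : Fin n) :
    sform σ M (Pi.single i 1) (Pi.single j 1) = M i j := by
  unfold sform
  rw [comp_single_one, single_one_dotProduct, Matrix.mulVec_single_one]
  rfl

end gfD

section gfE
variable {n : ℕ} {F : Type*} [Field F] [Fintype F]

theorem herm_std (σ : F ≃+* F) (hne : σ ≠ RingEquiv.refl F) (hinv : ∀ a, σ (σ a) = a)
    (D : GL (Fin n) F)
    (hD : ∀ i j, (D : Matrix (Fin n) (Fin n) F) i j = σ ((D : Matrix (Fin n) (Fin n) F) j i)) :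
    ∃ h : GL (Fin n) F, D = h * (Matrix.GeneralLinearGroup.map (σ : F →+* F) (gInvT h))⁻¹ := by
  obtain ⟨q, hq2, hq⟩ := Cfsg.Agent.helper29.sigma_pow σ hne hinv
  have hH : Cfsg.Agent.helper29.HermF q (sform σ (D : Matrix (Fin n) (Fin n) F)) := by
    refine ⟨?_, ?_, ?_⟩
    · intro x y v
      unfold sform
      rw [add_dotProduct]
    · intro c x v
      unfold sform
      rw [smul_dotProduct, smul_eq_mul]
    · intro v w
      rw [sform_herm σ hinv _ hD v w, hq]
  have hnd : Cfsg.Geo.IsNondegenerateForm (sform σ (D : Matrix (Fin n) (Fin n) F)) := by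
    intro v hv
    have hv' : σ ∘ v ≠ 0 := by
      intro h0
      apply hv
      funext i
      have h1 : σ (v i) = 0 := congrFun h0 i
      exact (map_eq_zero σ).mp h1
    have h1 := gl_mulVec_ne_zero D _ hv'
    obtain ⟨i, hi⟩ : ∃ i, ((D : Matrix (Fin n) (Fin n) F) *ᵥ (σ ∘ v)) i ≠ 0 := by
      by_contra hcon
      push Not at hcon
      exact h1 (funext hcon)
    have h2 : sform σ (D : Matrix (Fin n) (Fin n) F) (Pi.single i 1) v ≠ 0 := by
      unfold sform
      rw [single_one_dotProduct]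
      exact hi
    refine ⟨⟨_, h2⟩, ⟨Pi.single i 1, ?_⟩⟩
    rw [sform_herm σ hinv _ hD]
    exact (map_ne_zero σ).mpr h2
  obtain ⟨P, hP⟩ := hH.exists_std hq2 hnd
  have hmat : (P : Matrix (Fin n) (Fin n) F)ᵀ * (D : Matrix (Fin n) (Fin n) F) *
      (P : Matrix (Fin n) (Fin n) F).map σ = 1 := by
    ext i j
    have h1 := hP (Pi.single i 1) (Pi.single j 1)
    rw [sform_mulVec, sform_single,
      Cfsg.Agent.helper11.Unitary.herm_single_right
        (Cfsg.Agent.helper11.Unitary.q_ne_zero hq2)] at h1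
    rw [h1, Matrix.one_apply, Pi.single_apply]
    by_cases hij : i = j
    · rw [if_pos hij, if_pos hij.symm]
    · rw [if_neg hij, if_neg (Ne.symm hij)]
  have hgl : (gInvT P)⁻¹ * D * Matrix.GeneralLinearGroup.map (σ : F →+* F) P = 1 := by
    apply Units.ext
    rw [Units.val_mul, Units.val_mul, gInvT_inv_val, glmap_val]
    exact hmat
  have hD2 : D = gInvT P * (Matrix.GeneralLinearGroup.map (σ : F →+* F) P)⁻¹ := by
    calc D = gInvT P * ((gInvT P)⁻¹ * D * Matrix.GeneralLinearGroup.map (σ : F →+* F) P) *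
          (Matrix.GeneralLinearGroup.map (σ : F →+* F) P)⁻¹ := by group
      _ = _ := by rw [hgl, mul_one]
  refine ⟨gInvT P, ?_⟩
  rw [gInvT_gInvT]
  exact hD2

theorem gf_conj_core {p f : ℕ} [hp : Fact p.Prime] (hF : Fintype.card F = p ^ f) (hf : 1 ≤ f)
    (hn : 3 ≤ n) (σ : F ≃+* F) (hne : σ ≠ RingEquiv.refl F) {r : ℕ} (hr : r.Prime)
    (hx : orderOf (phiS σ * iota0 : MulAut (ProjectiveSpecialLinearGroup (Fin n) F)) = r)
    (d : GL (Fin n) F) (hy : orderOf (PhiL d * (phiS σ * iota0)) = r) :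
    ∃ h : GL (Fin n) F,
      PhiL d * (phiS σ * iota0) = PhiL h * (phiS σ * iota0) * (PhiL h)⁻¹ := by
  obtain ⟨hr2, hσ2⟩ := gf_order hF hf hn σ hr hx
  have hinv : ∀ a, σ (σ a) = a := fun a => DFunLike.congr_fun hσ2 a
  have hy2 : (PhiL d * (phiS σ * iota0)) ^ 2 = 1 := by
    rw [← hr2, ← hy]
    exact pow_orderOf_eq_one _
  rw [pow_two, gf_sq, hσ2, phiS_one, mul_one] at hy2
  obtain ⟨c, hc⟩ := scalar_of_PhiL_eq_one _ hy2
  have hent := gf_entries σ d c hc.symm
  have hcc := gf_norm_one (by omega) σ hinv d c hent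
  obtain ⟨t, ht, hσt⟩ := herm_scalar σ hne hinv c hcc
  obtain ⟨D', hD'⟩ : ∃ D' : GL (Fin n) F,
      D' = Matrix.GeneralLinearGroup.scalar (Fin n) (Units.mk0 t ht) * d := ⟨_, rfl⟩
  have hD'e : ∀ i j, (D' : Matrix (Fin n) (Fin n) F) i j =
      t * (d : Matrix (Fin n) (Fin n) F) i j := by
    intro i j
    rw [hD', Units.val_mul, Matrix.GeneralLinearGroup.coe_scalar, Matrix.scalar_apply,
      Matrix.diagonal_mul]
    rfl
  have hD'h : ∀ i j, (D' : Matrix (Fin n) (Fin n) F) i j =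
      σ ((D' : Matrix (Fin n) (Fin n) F) j i) := by
    intro i j
    rw [hD'e, hD'e, map_mul, hσt, hent i j]
    ring
  obtain ⟨h, hh⟩ := herm_std σ hne hinv D' hD'h
  refine ⟨h, ?_⟩
  have hsc : Matrix.GeneralLinearGroup.scalar (Fin n) (Units.mk0 t ht) ∈
      Cfsg.Geo.scalars (Fin n) F := ⟨_, rfl⟩
  rw [gf_conj, ← hh, hD', map_mul, PhiL_scalar _ hsc, one_mul]

end gfE

section normality
variable {n : ℕ} {F : Type*} [Field F]

theorem std_unique (σ : F ≃+* F) (β : MulAut (ProjectiveSpecialLinearGroup (Fin n) F))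
    (hβ : Cfsg.IsStdFieldAutPSL σ β) : β = phiS σ := by
  ext x
  induction x using QuotientGroup.induction_on with
  | H s => rw [hβ s (mapSL σ s) (mapSL_val σ s), phiS_mk]

theorem conj_normal_form (g : GL (Fin n) F) (τ : F ≃+* F) (ε : ZMod 2) (d : GL (Fin n) F) :
    ∃ d' : GL (Fin n) F,
      (PhiL g * phiS τ * ip ε) * PhiL d * (PhiL g * phiS τ * ip ε)⁻¹ = PhiL d' := by
  obtain ⟨d1, hd1⟩ := ip_PhiL ε d
  refine ⟨g * Matrix.GeneralLinearGroup.map (τ : F →+* F) d1 * g⁻¹, ?_⟩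
  calc (PhiL g * phiS τ * ip ε) * PhiL d * (PhiL g * phiS τ * ip ε)⁻¹
      = PhiL g * phiS τ * (ip ε * PhiL d) * (ip ε)⁻¹ * (phiS τ)⁻¹ * (PhiL g)⁻¹ := by group
    _ = PhiL g * (phiS τ * PhiL d1) * (phiS τ)⁻¹ * (PhiL g)⁻¹ := by
        rw [hd1]
        group
    _ = _ := by
        rw [phiS_PhiL, map_mul, map_mul, map_inv]
        group

end normality

section normality2
variable {n : ℕ} {F : Type*} [Field F] [Fintype F]

theorem inndiag_normal {p f : ℕ} [hp : Fact p.Prime] (hF : Fintype.card F = p ^ f) (hf : 1 ≤ f)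
    (hn : 2 ≤ n) (α : MulAut (ProjectiveSpecialLinearGroup (Fin n) F)) (d : GL (Fin n) F) :
    ∃ d' : GL (Fin n) F, α * PhiL d * α⁻¹ = PhiL d' := by
  rcases Nat.lt_or_ge n 3 with h3 | h3
  · obtain rfl : n = 2 := by omega
    obtain ⟨g, τ, rfl⟩ := aut_decomp_2 hF hf α
    have := conj_normal_form g τ 0 d
    rwa [ip_zero, mul_one] at this
  · obtain ⟨g, τ, rfl | rfl⟩ := aut_decomp_ge3 hF hf h3 α
    · have := conj_normal_form g τ 0 d
      rwa [ip_zero, mul_one] at this
    · have := conj_normal_form g τ 1 d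
      rwa [ip_one] at this

end normality2

end Cfsg.Agent.helper14
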