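import Mathlib
import Cfsg.Prelude.Def_LieTypeDatum

/-! The number of `K`-classes in an `H`-class, for `K` normalised by `H`: the index of
`K C_H(x)` in `H`; and a criterion for this number to be two. -/

set_option autoImplicit false

namespace Cfsg.Agent.helper14

section splitA
variable {X : Type*} [Group X]

theorem subgroupOf_normal_of (H K : Subgroup X)
    (hnorm : ∀ h ∈ H, ∀ k ∈ K, h * k * h⁻¹ ∈ K) : (K.subgroupOf H).Normal := by
  constructor
  intro n hn g
  rw [Subgroup.mem_subgroupOf] at hn ⊢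
  exact hnorm g.1 g.2 n.1 hn

/-- the number of `K`-classes in the `H`-class of `x` -/
theorem splitClassCount_eq_index (H K : Subgroup X) (hKH : K ≤ H)
    (hnorm : ∀ h ∈ H, ∀ k ∈ K, h * k * h⁻¹ ∈ K) (x : X) :
    Cfsg.splitClassCount H K x =
      (K.subgroupOf H ⊔ (Subgroup.centralizer {x}).subgroupOf H).index := by
  classical
  haveI hKn : (K.subgroupOf H).Normal := subgroupOf_normal_of H K hnorm
  obtain ⟨N, hN⟩ : ∃ N : Subgroup ↥H,
      N = K.subgroupOf H ⊔ (Subgroup.centralizer {x}).subgroupOf H := ⟨_, rfl⟩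
  rw [← hN]
  have hKN : K.subgroupOf H ≤ N := by rw [hN]; exact le_sup_left
  have hCN : (Subgroup.centralizer {x}).subgroupOf H ≤ N := by rw [hN]; exact le_sup_right
  unfold Cfsg.splitClassCount
  rw [Subgroup.index_eq_card]
  -- representatives
  obtain ⟨rep, hrep⟩ : ∃ rep : {y : X // Cfsg.IsConjUnder H x y} → ↥H,
      ∀ y, y.1 = (rep y : X) * x * (rep y : X)⁻¹ := by
    refine ⟨fun y => ⟨Classical.choose y.2, (Classical.choose_spec y.2).1⟩, fun y => ?_⟩
    exact (Classical.choose_spec y.2).2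
  have lemA : ∀ (h : ↥H) (y : {y : X // Cfsg.IsConjUnder H x y}),
      y.1 = (h : X) * x * (h : X)⁻¹ →
      (QuotientGroup.mk h : ↥H ⧸ N) = QuotientGroup.mk (rep y) := by
    intro h y hy
    rw [QuotientGroup.eq]
    apply hCN
    rw [Subgroup.mem_subgroupOf, Subgroup.mem_centralizer_iff]
    intro a ha
    rw [Set.mem_singleton_iff] at ha
    subst ha
    have h1 := hrep y
    rw [hy] at h1
    show a * ((h : X)⁻¹ * (rep y : X)) = ((h : X)⁻¹ * (rep y : X)) * a
    have h2 : a = (h : X)⁻¹ * ((rep y : X) * a * (rep y : X)⁻¹) * (h : X) := by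
      rw [← h1]; group
    calc a * ((h : X)⁻¹ * (rep y : X))
        = ((h : X)⁻¹ * ((rep y : X) * a * (rep y : X)⁻¹) * (h : X)) *
            ((h : X)⁻¹ * (rep y : X)) := by rw [← h2]
      _ = ((h : X)⁻¹ * (rep y : X)) * a := by group
  have lemB : ∀ y z : {y : X // Cfsg.IsConjUnder H x y}, Cfsg.IsConjUnder K y.1 z.1 →
      (QuotientGroup.mk (rep y) : ↥H ⧸ N) = QuotientGroup.mk (rep z) := by
    rintro y z ⟨k, hk, hz⟩
    have h1 := lemA (⟨k, hKH hk⟩ * rep y) z (by
      rw [hz, hrep y]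
      show _ = (k * (rep y : X)) * x * (k * (rep y : X))⁻¹
      group)
    rw [← h1, QuotientGroup.eq]
    apply hKN
    have := hKn.conj_mem (⟨k, hKH hk⟩ : ↥H) (Subgroup.mem_subgroupOf.mpr hk) (rep y)⁻¹
    rw [inv_inv] at this
    rw [← mul_assoc]
    exact this
  have lemC : ∀ y z : {y : X // Cfsg.IsConjUnder H x y},
      (QuotientGroup.mk (rep y) : ↥H ⧸ N) = QuotientGroup.mk (rep z) →
      Cfsg.IsConjUnder K y.1 z.1 := by
    intro y z hyz
    rw [QuotientGroup.eq] at hyz
    have hmem : ((rep y)⁻¹ * rep z : ↥H) ∈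
        ((K.subgroupOf H ⊔ (Subgroup.centralizer {x}).subgroupOf H : Subgroup ↥H) : Set ↥H) := by
      rw [← hN]; exact hyz
    rw [Subgroup.normal_mul, Set.mem_mul] at hmem
    obtain ⟨k, hk, c, hc, hkc⟩ := hmem
    have hk' : (k : X) ∈ K := Subgroup.mem_subgroupOf.mp hk
    have hc' : (c : X) ∈ Subgroup.centralizer {x} := Subgroup.mem_subgroupOf.mp hc
    have hcx : x * (c : X) = (c : X) * x :=
      Subgroup.mem_centralizer_iff.mp hc' x (Set.mem_singleton x)
    have hz : (rep z : X) = (rep y : X) * (k : X) * (c : X) := by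
      have := congrArg (fun t : ↥H => (rep y : X) * (t : X)) hkc
      simp only [Subgroup.coe_mul, Subgroup.coe_inv] at this
      rw [mul_inv_cancel_left] at this
      rw [← this, mul_assoc]
    refine ⟨(rep y : X) * (k : X) * (rep y : X)⁻¹, hnorm _ (rep y).2 _ hk', ?_⟩
    rw [hrep z, hrep y, hz]
    have e1 : (c : X) * x * (c : X)⁻¹ = x := by rw [← hcx]; group
    calc (rep y : X) * (k : X) * (c : X) * x * ((rep y : X) * (k : X) * (c : X))⁻¹
        = (rep y : X) * (k : X) * ((c : X) * x * (c : X)⁻¹) * (k : X)⁻¹ * (rep y : X)⁻¹ := by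
          group
      _ = (rep y : X) * (k : X) * x * (k : X)⁻¹ * (rep y : X)⁻¹ := by rw [e1]
      _ = _ := by group
  apply Nat.card_congr
  refine Equiv.ofBijective (Quot.lift (fun y => (QuotientGroup.mk (rep y) : ↥H ⧸ N)) lemB)
    ⟨?_, ?_⟩
  · intro a b
    induction a using Quot.ind with
    | mk a =>
      induction b using Quot.ind with
      | mk b =>
        intro hab
        exact Quot.sound (lemC a b hab)
  · intro q
    induction q using QuotientGroup.induction_on with
    | H h =>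
      refine ⟨Quot.mk _ ⟨(h : X) * x * (h : X)⁻¹, ⟨(h : X), h.2, rfl⟩⟩, ?_⟩
      exact (lemA h ⟨(h : X) * x * (h : X)⁻¹, ⟨(h : X), h.2, rfl⟩⟩ rfl).symm

theorem d8_center : ∀ c : DihedralGroup 4, (∀ y : DihedralGroup 4, y * c = c * y) →
    c = 1 ∨ c = DihedralGroup.r 2 := by decide

theorem d8_no_central_outside (M : Subgroup (DihedralGroup 4)) (hM : M.index = 2)
    (c : DihedralGroup 4) (hc : c ∉ M) : ∃ y ∈ M, y * c ≠ c * y := by
  by_contra hcon
  push Not at hcon
  have hcent : ∀ y : DihedralGroup 4, y * c = c * y := by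
    intro y
    by_cases hy : y ∈ M
    · exact hcon y hy
    · have h1 : y * c ∈ M :=
        (Subgroup.mul_mem_iff_of_index_two hM).mpr ⟨fun h => absurd h hy, fun h => absurd h hc⟩
      have h2 := hcon _ h1
      have h3 : y * c * c = c * y * c := by rw [h2, mul_assoc]
      exact mul_right_cancel h3
  rcases d8_center c hcent with rfl | rfl
  · exact hc M.one_mem
  · apply hc
    have := Subgroup.sq_mem_of_index_two hM (DihedralGroup.r 1)
    have e : (DihedralGroup.r 1 : DihedralGroup 4) ^ 2 = DihedralGroup.r 2 := by decide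
    rwa [e] at this

/-- the abstract criterion: exactly two classes -/
theorem split_two_of_d8 (A H K : Subgroup X) (hKH : K ≤ H) (hHA : H ≤ A)
    (hnorm : ∀ a ∈ A, ∀ k ∈ K, a * k * a⁻¹ ∈ K) (x : X) (hxA : x ∈ A) (hxH : x ∉ H)
    (hHA2 : (H.subgroupOf A).index = 2)
    (φ : ↥A →* DihedralGroup 4) (hφ : Function.Surjective φ) (hker : φ.ker = K.subgroupOf A)
    (hKH4 : K.relIndex H = 4)
    (c : X) (hcH : c ∈ H) (hcx : c * x = x * c) (hcK : c ∉ K) :
    Cfsg.splitClassCount H K x = 2 := by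
  classical
  have hnormH : ∀ h ∈ H, ∀ k ∈ K, h * k * h⁻¹ ∈ K := fun h hh k hk => hnorm h (hHA hh) k hk
  rw [splitClassCount_eq_index H K hKH hnormH x]
  haveI hKn : (K.subgroupOf H).Normal := subgroupOf_normal_of H K hnormH
  obtain ⟨N, hN⟩ : ∃ N : Subgroup ↥H,
      N = K.subgroupOf H ⊔ (Subgroup.centralizer {x}).subgroupOf H := ⟨_, rfl⟩
  rw [← hN]
  have hKN : K.subgroupOf H ≤ N := by rw [hN]; exact le_sup_left
  have hCN : (Subgroup.centralizer {x}).subgroupOf H ≤ N := by rw [hN]; exact le_sup_right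
  have hmul := Subgroup.relIndex_mul_index hKN
  have hK4 : (K.subgroupOf H).index = 4 := hKH4
  rw [hK4] at hmul
  -- the relative index is not one
  have hne1 : (K.subgroupOf H).relIndex N ≠ 1 := by
    intro h1
    rw [Subgroup.relIndex_eq_one] at h1
    apply hcK
    have hcN : (⟨c, hcH⟩ : ↥H) ∈ N := by
      apply hCN
      rw [Subgroup.mem_subgroupOf, Subgroup.mem_centralizer_iff]
      intro a ha
      rw [Set.mem_singleton_iff] at ha
      subst ha
      exact hcx.symm
    exact Subgroup.mem_subgroupOf.mp (h1 hcN)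
  -- the index is not one
  have hne2 : N.index ≠ 1 := by
    intro h1
    rw [Subgroup.index_eq_one] at h1
    obtain ⟨M, hMd⟩ : ∃ M : Subgroup (DihedralGroup 4), M = (H.subgroupOf A).map φ := ⟨_, rfl⟩
    have hMi : M.index = 2 := by
      rw [hMd, Subgroup.index_map_eq _ hφ, hHA2]
      rw [hker]
      intro a ha
      rw [Subgroup.mem_subgroupOf] at ha ⊢
      exact hKH ha
    have hxM : φ ⟨x, hxA⟩ ∉ M := by
      rw [hMd]
      rintro ⟨a, ha, hax⟩
      apply hxH
      have h2 : a⁻¹ * ⟨x, hxA⟩ ∈ φ.ker := by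
        rw [MonoidHom.mem_ker, map_mul, map_inv, hax, inv_mul_cancel]
      rw [hker, Subgroup.mem_subgroupOf] at h2
      have h3 : (a : X) ∈ H := Subgroup.mem_subgroupOf.mp ha
      have h4 : (a : X) * ((a⁻¹ * ⟨x, hxA⟩ : ↥A) : X) ∈ H := H.mul_mem h3 (hKH h2)
      simpa using h4
    obtain ⟨y, hyM, hyc⟩ := d8_no_central_outside M hMi _ hxM
    apply hyc
    rw [hMd] at hyM
    obtain ⟨a, ha, rfl⟩ := hyM
    have haH : (a : X) ∈ H := Subgroup.mem_subgroupOf.mp ha
    have hmem : (⟨(a : X), haH⟩ : ↥H) ∈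
        ((K.subgroupOf H ⊔ (Subgroup.centralizer {x}).subgroupOf H : Subgroup ↥H) : Set ↥H) := by
      rw [← hN, h1]; exact Subgroup.mem_top _
    rw [Subgroup.normal_mul, Set.mem_mul] at hmem
    obtain ⟨k, hk, d, hd, hkd⟩ := hmem
    have hk' : (k : X) ∈ K := Subgroup.mem_subgroupOf.mp hk
    have hd' : (d : X) ∈ Subgroup.centralizer {x} := Subgroup.mem_subgroupOf.mp hd
    have hdx : x * (d : X) = (d : X) * x :=
      Subgroup.mem_centralizer_iff.mp hd' x (Set.mem_singleton x)
    have hkA : (⟨(k : X), hHA k.2⟩ : ↥A) ∈ φ.ker := by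
      rw [hker, Subgroup.mem_subgroupOf]; exact hk'
    have hsplit : a = ⟨(k : X), hHA k.2⟩ * ⟨(d : X), hHA d.2⟩ := by
      apply Subtype.ext
      have := congrArg (fun t : ↥H => (t : X)) hkd
      simp only [Subgroup.coe_mul] at this
      exact this.symm
    have hφa : φ a = φ ⟨(d : X), hHA d.2⟩ := by
      rw [hsplit, map_mul, MonoidHom.mem_ker.mp hkA, one_mul]
    rw [hφa, ← map_mul, ← map_mul]
    congr 1
    apply Subtype.ext
    exact hdx.symm
  -- conclusion
  have hdvd : N.index ∣ 4 := Dvd.intro_left _ hmul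
  have hle : N.index ≤ 4 := Nat.le_of_dvd (by norm_num) hdvd
  have h4 : N.index ≠ 4 := by
    intro h
    rw [h] at hmul
    apply hne1
    omega
  have h3 : N.index ≠ 3 := by
    intro h
    rw [h] at hdvd
    omega
  have h0 : N.index ≠ 0 := by
    intro h
    rw [h] at hmul
    omega
  omega

/-- the abstract criterion: at most two classes -/
theorem split_le_two_of_index (H K : Subgroup X) (hKH : K ≤ H)
    (hnorm : ∀ h ∈ H, ∀ k ∈ K, h * k * h⁻¹ ∈ K) (x : X) (hKH2 : K.relIndex H = 2) :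
    Cfsg.splitClassCount H K x = 1 ∨ Cfsg.splitClassCount H K x = 2 := by
  rw [splitClassCount_eq_index H K hKH hnorm x]
  have hmul := Subgroup.relIndex_mul_index
    (le_sup_left : K.subgroupOf H ≤ K.subgroupOf H ⊔ (Subgroup.centralizer {x}).subgroupOf H)
  have hK2 : (K.subgroupOf H).index = 2 := hKH2
  rw [hK2] at hmul
  have hdvd : (K.subgroupOf H ⊔ (Subgroup.centralizer {x}).subgroupOf H).index ∣ 2 :=
    Dvd.intro_left _ hmul
  have := (Nat.dvd_prime Nat.prime_two).mp hdvd
  exact this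

end splitA

end Cfsg.Agent.helper14
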