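import Mathlib
import Cfsg.Agent.Lib_helper14_SplitA

/-! `splitClassCount` is a class invariant; conjugating centralizers; the index of
`G^n · W` in a finite cyclic group. -/

set_option autoImplicit false

namespace Cfsg.Agent.helper14

section splitB
variable {X : Type*} [Group X]

theorem isConjUnder_of_mem (H : Subgroup X) (x : X) (a : X) (ha : a ∈ H) (y : X) :
    Cfsg.IsConjUnder H (a * x * a⁻¹) y ↔ Cfsg.IsConjUnder H x y := by
  constructor
  · rintro ⟨h, hh, rfl⟩
    exact ⟨h * a, H.mul_mem hh ha, by group⟩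
  · rintro ⟨h, hh, rfl⟩
    exact ⟨h * a⁻¹, H.mul_mem hh (H.inv_mem ha), by group⟩

theorem splitClassCount_congr (H K : Subgroup X) (x x' : X)
    (h : ∀ y, Cfsg.IsConjUnder H x' y ↔ Cfsg.IsConjUnder H x y) :
    Cfsg.splitClassCount H K x' = Cfsg.splitClassCount H K x := by
  have hP : Cfsg.IsConjUnder H x' = Cfsg.IsConjUnder H x := by
    funext y
    exact propext (h y)
  exact congrArg (fun P : X → Prop =>
    Nat.card (Quot fun y z : Subtype P => Cfsg.IsConjUnder K y.1 z.1)) hP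

theorem splitClassCount_conj (H K : Subgroup X) (x a : X) (ha : a ∈ H) :
    Cfsg.splitClassCount H K (a * x * a⁻¹) = Cfsg.splitClassCount H K x :=
  splitClassCount_congr H K x _ (isConjUnder_of_mem H x a ha)

/-- conjugating the centralizer -/
def centralizerConjEquiv (H : Subgroup X) (x a : X) (ha : a ∈ H) :
    ↥(H ⊓ Subgroup.centralizer {x}) ≃* ↥(H ⊓ Subgroup.centralizer {a * x * a⁻¹}) where
  toFun c := ⟨a * c.1 * a⁻¹, by
    have hc := c.2
    rw [Subgroup.mem_inf, Subgroup.mem_centralizer_iff] at hc ⊢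
    refine ⟨H.mul_mem (H.mul_mem ha hc.1) (H.inv_mem ha), ?_⟩
    intro y hy
    rw [Set.mem_singleton_iff] at hy
    subst hy
    have h1 := hc.2 x (Set.mem_singleton x)
    calc a * x * a⁻¹ * (a * c.1 * a⁻¹) = a * (x * c.1) * a⁻¹ := by group
      _ = a * (c.1 * x) * a⁻¹ := by rw [h1]
      _ = _ := by group⟩
  invFun c := ⟨a⁻¹ * c.1 * a, by
    have hc := c.2
    rw [Subgroup.mem_inf, Subgroup.mem_centralizer_iff] at hc ⊢
    refine ⟨H.mul_mem (H.mul_mem (H.inv_mem ha) hc.1) ha, ?_⟩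
    intro y hy
    rw [Set.mem_singleton_iff] at hy
    subst hy
    have h1 := hc.2 (a * y * a⁻¹) (Set.mem_singleton _)
    calc y * (a⁻¹ * c.1 * a) = a⁻¹ * (a * y * a⁻¹ * c.1) * a := by group
      _ = a⁻¹ * (c.1 * (a * y * a⁻¹)) * a := by rw [h1]
      _ = _ := by group⟩
  left_inv c := by
    apply Subtype.ext
    show a⁻¹ * (a * c.1 * a⁻¹) * a = c.1
    group
  right_inv c := by
    apply Subtype.ext
    show a * (a⁻¹ * c.1 * a) * a⁻¹ = c.1
    group
  map_mul' c d := by
    apply Subtype.ext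
    show a * (c.1 * d.1) * a⁻¹ = (a * c.1 * a⁻¹) * (a * d.1 * a⁻¹)
    group

end splitB

section cyclic
variable {G : Type*} [CommGroup G] [IsCyclic G] [Finite G]

theorem cyclic_index (n M L : ℕ) (hN : Nat.card G = L * M)
    (W : Subgroup G) (hW : Nat.card W = M) (Q : Subgroup G)
    (hQ : ∀ y, y ∈ Q ↔ ∃ a : G, ∃ b ∈ W, y = a ^ n * b) : Q.index = Nat.gcd n L := by
  have hL : 0 < L := by
    rcases Nat.eq_zero_or_pos L with h | h
    · rw [h, zero_mul] at hN
      exact absurd hN Nat.card_pos.ne'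
    · exact h
  have hker : Nat.card (powMonoidHom M : G →* G).ker = M := by
    rw [IsCyclic.card_powMonoidHom_ker, hN]
    exact Nat.gcd_eq_right (Dvd.intro_left L rfl)
  have hW1 : W ≤ (powMonoidHom M : G →* G).ker := by
    intro b hb
    rw [MonoidHom.mem_ker, powMonoidHom_apply, ← hW]
    have := pow_card_eq_one' (G := W) (x := ⟨b, hb⟩)
    exact congrArg Subtype.val this
  have hW2 : W = (powMonoidHom M : G →* G).ker :=
    Subgroup.eq_of_le_of_card_ge hW1 (by rw [hker, hW])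
  have hR1 : (powMonoidHom L : G →* G).range ≤ (powMonoidHom M : G →* G).ker := by
    rintro _ ⟨c, rfl⟩
    rw [MonoidHom.mem_ker, powMonoidHom_apply, powMonoidHom_apply, ← pow_mul, ← hN]
    exact pow_card_eq_one'
  have hR2 : (powMonoidHom L : G →* G).range = (powMonoidHom M : G →* G).ker := by
    apply Subgroup.eq_of_le_of_card_ge hR1
    rw [hker, IsCyclic.card_powMonoidHom_range, hN,
      Nat.gcd_eq_right (Dvd.intro M rfl), Nat.mul_div_cancel_left M hL]
  have hWR : W = (powMonoidHom L : G →* G).range := by rw [hW2, hR2]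
  have hQR : Q = (powMonoidHom (Nat.gcd n L) : G →* G).range := by
    ext y
    rw [hQ]
    constructor
    · rintro ⟨a, b, hb, rfl⟩
      rw [hWR] at hb
      obtain ⟨c, rfl⟩ := hb
      obtain ⟨n', hn'⟩ := Nat.gcd_dvd_left n L
      obtain ⟨L', hL'⟩ := Nat.gcd_dvd_right n L
      refine ⟨a ^ n' * c ^ L', ?_⟩
      rw [powMonoidHom_apply, powMonoidHom_apply, mul_pow, ← pow_mul, ← pow_mul]
      rw [mul_comm n', ← hn', mul_comm L', ← hL']
    · rintro ⟨c, rfl⟩
      refine ⟨c ^ (Nat.gcdA n L), (c ^ (Nat.gcdB n L)) ^ L, ?_, ?_⟩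
      · rw [hWR]
        exact ⟨_, rfl⟩
      · rw [powMonoidHom_apply, ← zpow_natCast c, Nat.gcd_eq_gcd_ab, zpow_add, zpow_mul', zpow_mul',
          zpow_natCast, zpow_natCast]
  rw [hQR, IsCyclic.index_powMonoidHom_range, hN]
  exact Nat.gcd_eq_right (dvd_trans (Nat.gcd_dvd_right n L) (Dvd.intro M rfl))

end cyclic

end Cfsg.Agent.helper14
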