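import Mathlib
import Cfsg.Agent.Lib_helper14_SplitB
import Cfsg.Agent.Lib_helper14_GraphFieldConj

/-! Centralizers in `Inndiag(PSL_n)` of field automorphisms: `PGL_n` of the fixed field; the number
of `Inn`-classes in an `Inndiag`-class via determinants. -/

set_option autoImplicit false
set_option linter.unusedSectionVars false
set_option linter.style.haveILetI false

namespace Cfsg.Agent.helper14

open Matrix

section splitIdx
variable {n : ℕ} {F : Type*} [Field F]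

theorem conj_aut_conj {G : Type*} [Group G] (h : MulAut G) (t : G) :
    h * MulAut.conj t * h⁻¹ = MulAut.conj (h t) := by
  ext y
  rw [MulAut.mul_apply, MulAut.mul_apply, MulAut.conj_apply, MulAut.conj_apply, map_mul, map_mul,
    map_inv, MulAut.apply_inv_self]

theorem det_dg (d : Fin n → F) (hd : ∀ i, d i ≠ 0) :
    ((Matrix.GeneralLinearGroup.det (dg d hd) : Fˣ) : F) = ∏ i, d i := by
  rw [Matrix.GeneralLinearGroup.val_det_apply]
  show (Matrix.diagonal d).det = _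
  rw [Matrix.det_diagonal]

theorem exists_det_eq (hn : 1 ≤ n) (u : Fˣ) :
    ∃ g : GL (Fin n) F, Matrix.GeneralLinearGroup.det g = u := by
  obtain ⟨i0, -⟩ : ∃ i0 : Fin n, (i0 : ℕ) = 0 := ⟨⟨0, by omega⟩, rfl⟩
  have hd : ∀ i, Function.update (1 : Fin n → F) i0 (u : F) i ≠ 0 := by
    intro i
    by_cases h : i = i0
    · subst h
      rw [Function.update_self]
      exact u.ne_zero
    · rw [Function.update_of_ne h]
      exact one_ne_zero
  refine ⟨dg _ hd, ?_⟩
  apply Units.ext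
  rw [det_dg, Finset.prod_update_of_mem (Finset.mem_univ i0)]
  simp

theorem inn_le_inndiag :
    Cfsg.Inn (ProjectiveSpecialLinearGroup (Fin n) F) ≤ Cfsg.inndiagPSL n F := by
  rw [inndiagPSL_eq]
  rintro _ ⟨k, rfl⟩
  induction k using QuotientGroup.induction_on with
  | H s =>
    rw [conj_mk_eq]
    exact ⟨_, rfl⟩

theorem split_index_eq [Fintype F] (hn : 2 ≤ n) (x₀ : MulAut (ProjectiveSpecialLinearGroup (Fin n) F))
    (W Q : Subgroup Fˣ)
    (h1 : ∀ g : GL (Fin n) F, PhiL g ∈ Subgroup.centralizer {x₀} →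
      ∃ a : Fˣ, ∃ b ∈ W, Matrix.GeneralLinearGroup.det g = a ^ n * b)
    (h2 : ∀ b ∈ W, ∃ g : GL (Fin n) F, PhiL g ∈ Subgroup.centralizer {x₀} ∧
      Matrix.GeneralLinearGroup.det g = b)
    (hQ : ∀ y, y ∈ Q ↔ ∃ a : Fˣ, ∃ b ∈ W, y = a ^ n * b) :
    Cfsg.splitClassCount (Cfsg.inndiagPSL n F)
      (Cfsg.Inn (ProjectiveSpecialLinearGroup (Fin n) F)) x₀ = Q.index := by
  have hnorm : ∀ h ∈ Cfsg.inndiagPSL n F,
      ∀ k ∈ Cfsg.Inn (ProjectiveSpecialLinearGroup (Fin n) F),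
      h * k * h⁻¹ ∈ Cfsg.Inn (ProjectiveSpecialLinearGroup (Fin n) F) := by
    rintro h - _ ⟨t, rfl⟩
    exact ⟨h t, (conj_aut_conj h t).symm⟩
  rw [splitClassCount_eq_index _ _ inn_le_inndiag hnorm]
  obtain ⟨H, hH⟩ : ∃ H : Subgroup (MulAut (ProjectiveSpecialLinearGroup (Fin n) F)),
      H = Cfsg.inndiagPSL n F := ⟨_, rfl⟩
  rw [← hH]
  have hHr : H = (PhiL (n := n) (F := F)).range := by rw [hH, inndiagPSL_eq]
  obtain ⟨fR, hfR, hfRs⟩ : ∃ fR : GL (Fin n) F →* ↥H,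
      (∀ g, ((fR g : ↥H) : MulAut (ProjectiveSpecialLinearGroup (Fin n) F)) = PhiL g) ∧
        Function.Surjective fR := by
    subst hHr
    exact ⟨PhiL.rangeRestrict, fun g => rfl, PhiL.rangeRestrict_surjective⟩
  rw [← Subgroup.index_comap_of_surjective _ hfRs, ← Subgroup.comap_sup_eq _ _ _ hfRs]
  have hA : ((Cfsg.Inn (ProjectiveSpecialLinearGroup (Fin n) F)).subgroupOf H).comap fR =
      (powMonoidHom n : Fˣ →* Fˣ).range.comap Matrix.GeneralLinearGroup.det := by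
    ext g
    rw [Subgroup.mem_comap, Subgroup.mem_subgroupOf, hfR, psi_ker_iff hn, Subgroup.mem_comap]
    constructor
    · rintro ⟨u, hu⟩
      exact ⟨u, hu.symm⟩
    · rintro ⟨u, hu⟩
      exact ⟨u, hu.symm⟩
  have hB : ∀ g, g ∈ ((Subgroup.centralizer {x₀}).subgroupOf H).comap fR ↔
      PhiL g ∈ Subgroup.centralizer {x₀} := by
    intro g
    rw [Subgroup.mem_comap, Subgroup.mem_subgroupOf, hfR]
  have hsup : ((Cfsg.Inn (ProjectiveSpecialLinearGroup (Fin n) F)).subgroupOf H).comap fR ⊔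
      ((Subgroup.centralizer {x₀}).subgroupOf H).comap fR =
      Q.comap Matrix.GeneralLinearGroup.det := by
    apply le_antisymm
    · apply sup_le
      · rw [hA]
        apply Subgroup.comap_mono
        rintro _ ⟨a, rfl⟩
        rw [hQ]
        exact ⟨a, 1, W.one_mem, by rw [mul_one]; rfl⟩
      · intro g hg
        rw [hB] at hg
        rw [Subgroup.mem_comap, hQ]
        exact h1 g hg
    · intro g hg
      rw [Subgroup.mem_comap, hQ] at hg
      obtain ⟨a, b, hb, hab⟩ := hg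
      obtain ⟨gb, hgb, hdet⟩ := h2 b hb
      have e : g = (g * gb⁻¹) * gb := by group
      rw [e]
      apply Subgroup.mul_mem_sup
      · rw [hA, Subgroup.mem_comap]
        refine ⟨a, ?_⟩
        rw [map_mul, map_inv, hab, hdet, powMonoidHom_apply]
        group
      · rw [hB]
        exact hgb
  rw [hsup]
  apply Subgroup.index_comap_of_surjective
  intro u
  exact exists_det_eq (by omega) u

end splitIdx

section fieldCent
variable {n : ℕ} {F : Type*} [Field F] {F₀ : Type*} [Field F₀]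

theorem mem_cent_singleton {X : Type*} [Group X] (x c : X) :
    c ∈ Subgroup.centralizer {x} ↔ x * c = c * x := by
  rw [Subgroup.mem_centralizer_iff]
  constructor
  · intro h
    exact h x (Set.mem_singleton x)
  · intro h y hy
    rw [Set.mem_singleton_iff] at hy
    rw [hy]
    exact h

theorem map_map_fixed (σ : F ≃+* F) (ι : F₀ →+* F) (hι : ∀ b, σ (ι b) = ι b)
    (g₀ : GL (Fin n) F₀) :
    Matrix.GeneralLinearGroup.map (σ : F →+* F) (Matrix.GeneralLinearGroup.map ι g₀) =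
      Matrix.GeneralLinearGroup.map ι g₀ := by
  apply Units.ext
  ext i j
  exact hι _

theorem gl_exists_ne_zero (hn : 1 ≤ n) (g : GL (Fin n) F) :
    ∃ i j, (g : Matrix (Fin n) (Fin n) F) i j ≠ 0 := by
  by_contra hcon
  push Not at hcon
  have h0 : (g : Matrix (Fin n) (Fin n) F) = 0 := by
    ext i j
    exact hcon i j
  have h1 : (g : Matrix (Fin n) (Fin n) F) *
      ((g⁻¹ : GL (Fin n) F) : Matrix (Fin n) (Fin n) F) = 1 := gl_mul_inv g
  rw [h0, Matrix.zero_mul] at h1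
  have h2 := congrFun (congrFun h1 ⟨0, by omega⟩) ⟨0, by omega⟩
  rw [Matrix.zero_apply, Matrix.one_apply_eq] at h2
  exact zero_ne_one h2

theorem scalar_mul_entry (l : Fˣ) (g : GL (Fin n) F) (i j : Fin n) :
    ((Matrix.GeneralLinearGroup.scalar (Fin n) l * g : GL (Fin n) F) :
      Matrix (Fin n) (Fin n) F) i j = (l : F) * (g : Matrix (Fin n) (Fin n) F) i j := by
  rw [Units.val_mul, Matrix.GeneralLinearGroup.coe_scalar, Matrix.scalar_apply,
    Matrix.diagonal_mul]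

theorem PhiL_mem_cent_phiS_iff (hn : 1 ≤ n) (σ : F ≃+* F) (ι : F₀ →+* F)
    (hι : ∀ a : F, σ a = a ↔ a ∈ ι.range) (g : GL (Fin n) F) :
    PhiL g ∈ Subgroup.centralizer {phiS σ} ↔
      ∃ (l : Fˣ) (g₀ : GL (Fin n) F₀),
        g = Matrix.GeneralLinearGroup.scalar (Fin n) l * Matrix.GeneralLinearGroup.map ι g₀ := by
  have hι' : ∀ b, σ (ι b) = ι b := fun b => (hι _).mpr ⟨b, rfl⟩
  rw [mem_cent_singleton]
  constructor
  · intro h
    rw [phiS_PhiL] at h
    have h0 := mul_right_cancel h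
    have h1 : PhiL (g⁻¹ * Matrix.GeneralLinearGroup.map (σ : F →+* F) g) = 1 := by
      rw [map_mul, map_inv, h0, inv_mul_cancel]
    obtain ⟨c, hc⟩ := scalar_of_PhiL_eq_one _ h1
    have h2 : Matrix.GeneralLinearGroup.map (σ : F →+* F) g =
        Matrix.GeneralLinearGroup.scalar (Fin n) c * g := by
      rw [Matrix.GeneralLinearGroup.scalar_commute]
      have : Matrix.GeneralLinearGroup.scalar (Fin n) c =
          g⁻¹ * Matrix.GeneralLinearGroup.map (σ : F →+* F) g := hc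
      rw [this]
      group
    have hent : ∀ k l, σ ((g : Matrix (Fin n) (Fin n) F) k l) =
        (c : F) * (g : Matrix (Fin n) (Fin n) F) k l := by
      intro k l
      rw [← scalar_mul_entry, ← h2]
      rfl
    obtain ⟨i, j, hij⟩ := gl_exists_ne_zero hn g
    have hfix : ∀ k l, σ (((g : Matrix (Fin n) (Fin n) F) i j)⁻¹ *
        (g : Matrix (Fin n) (Fin n) F) k l) =
        ((g : Matrix (Fin n) (Fin n) F) i j)⁻¹ * (g : Matrix (Fin n) (Fin n) F) k l := by
      intro k l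
      rw [map_mul, map_inv₀, hent, hent, mul_inv]
      have hc0 : (c : F) ≠ 0 := c.ne_zero
      field_simp
    choose b hb using fun k l => (hι _).mp (hfix k l)
    obtain ⟨h₀, hh₀⟩ : ∃ h₀ : Matrix (Fin n) (Fin n) F₀, h₀ = Matrix.of b := ⟨_, rfl⟩
    have hmap : h₀.map ι = ((g : Matrix (Fin n) (Fin n) F) i j)⁻¹ •
        (g : Matrix (Fin n) (Fin n) F) := by
      ext k l
      rw [Matrix.map_apply, hh₀, Matrix.of_apply, hb, Matrix.smul_apply, smul_eq_mul]
    have hdet : h₀.det ≠ 0 := by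
      intro h0
      have h3 := RingHom.map_det ι h₀
      rw [h0, map_zero, RingHom.mapMatrix_apply, hmap, Matrix.det_smul] at h3
      have h4 : (g : Matrix (Fin n) (Fin n) F).det ≠ 0 :=
        Matrix.GeneralLinearGroup.det_ne_zero g
      have h5 : (((g : Matrix (Fin n) (Fin n) F) i j)⁻¹) ^ Fintype.card (Fin n) ≠ 0 :=
        pow_ne_zero _ (inv_ne_zero hij)
      exact mul_ne_zero h5 h4 h3.symm
    refine ⟨Units.mk0 _ hij, Matrix.GeneralLinearGroup.mkOfDetNeZero h₀ hdet, ?_⟩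
    apply Units.ext
    ext k l
    rw [scalar_mul_entry]
    show _ = ((g : Matrix (Fin n) (Fin n) F) i j) * (h₀.map ι) k l
    rw [hmap, Matrix.smul_apply, smul_eq_mul, ← mul_assoc, mul_inv_cancel₀ hij, one_mul]
  · rintro ⟨l, g₀, rfl⟩
    have hsc : ∀ u : Fˣ, Matrix.GeneralLinearGroup.scalar (Fin n) u ∈
        Cfsg.Geo.scalars (Fin n) F := fun u => ⟨u, rfl⟩
    rw [phiS_PhiL, map_mul (Matrix.GeneralLinearGroup.map (σ : F →+* F)),
      Matrix.GeneralLinearGroup.map_scalar, map_map_fixed σ ι hι', map_mul, map_mul,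
      PhiL_scalar _ (hsc _), PhiL_scalar _ (hsc _)]

end fieldCent

section fieldCentIso
variable {n : ℕ} {F : Type*} [Field F] {F₀ : Type*} [Field F₀]

theorem map_mem_scalars_iff (hn : 1 ≤ n) (ι : F₀ →+* F) (g₀ : GL (Fin n) F₀) :
    Matrix.GeneralLinearGroup.map ι g₀ ∈ Cfsg.Geo.scalars (Fin n) F ↔
      g₀ ∈ Subgroup.center (GL (Fin n) F₀) := by
  rw [Matrix.GeneralLinearGroup.center_eq_range_scalar]
  constructor
  · rintro ⟨c, hc⟩
    have hent : ∀ k l, ι ((g₀ : Matrix (Fin n) (Fin n) F₀) k l) =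
        if k = l then (c : F) else 0 := by
      intro k l
      have h1 := congrArg (fun g : GL (Fin n) F => (g : Matrix (Fin n) (Fin n) F) k l) hc
      have h2 : ((Matrix.GeneralLinearGroup.scalar (Fin n) c : GL (Fin n) F) :
          Matrix (Fin n) (Fin n) F) k l = ι ((g₀ : Matrix (Fin n) (Fin n) F₀) k l) := h1
      rw [← h2, Matrix.GeneralLinearGroup.coe_scalar, Matrix.scalar_apply, Matrix.diagonal_apply]
    obtain ⟨i0, -⟩ : ∃ i0 : Fin n, (i0 : ℕ) = 0 := ⟨⟨0, by omega⟩, rfl⟩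
    have hu : (g₀ : Matrix (Fin n) (Fin n) F₀) i0 i0 ≠ 0 := by
      intro h0
      have := hent i0 i0
      rw [h0, map_zero, if_pos rfl] at this
      exact c.ne_zero this.symm
    refine ⟨Units.mk0 _ hu, ?_⟩
    apply Units.ext
    ext k l
    rw [Matrix.GeneralLinearGroup.coe_scalar, Matrix.scalar_apply, Matrix.diagonal_apply]
    apply ι.injective
    rw [hent k l]
    by_cases hkl : k = l
    · rw [if_pos hkl, if_pos hkl]
      show ι ((g₀ : Matrix (Fin n) (Fin n) F₀) i0 i0) = _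
      rw [hent i0 i0, if_pos rfl]
    · rw [if_neg hkl, if_neg hkl, map_zero]
  · rintro ⟨u, rfl⟩
    rw [Matrix.GeneralLinearGroup.map_scalar]
    exact ⟨_, rfl⟩

theorem centralizer_field_iso (hn : 1 ≤ n) (σ : F ≃+* F) (ι : F₀ →+* F)
    (hι : ∀ a : F, σ a = a ↔ a ∈ ι.range) :
    Nonempty (↥(Cfsg.inndiagPSL n F ⊓ Subgroup.centralizer {phiS σ}) ≃*
      Matrix.ProjGenLinGroup (Fin n) F₀) := by
  obtain ⟨C, hC⟩ : ∃ C : Subgroup (MulAut (ProjectiveSpecialLinearGroup (Fin n) F)),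
      C = Cfsg.inndiagPSL n F ⊓ Subgroup.centralizer {phiS σ} := ⟨_, rfl⟩
  have hmem : ∀ x : GL (Fin n) F₀, (PhiL.comp (Matrix.GeneralLinearGroup.map ι)) x ∈ C := by
    intro x
    rw [hC, Subgroup.mem_inf, inndiagPSL_eq]
    refine ⟨⟨_, rfl⟩, ?_⟩
    show PhiL (Matrix.GeneralLinearGroup.map ι x) ∈ _
    rw [PhiL_mem_cent_phiS_iff hn σ ι hι]
    exact ⟨1, x, by rw [map_one, one_mul]⟩
  obtain ⟨ψ, hψ⟩ : ∃ ψ : GL (Fin n) F₀ →* ↥C, ∀ x : GL (Fin n) F₀, ((ψ x : ↥C) :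
      MulAut (ProjectiveSpecialLinearGroup (Fin n) F)) =
        PhiL (Matrix.GeneralLinearGroup.map ι x) :=
    ⟨(PhiL.comp (Matrix.GeneralLinearGroup.map ι)).codRestrict C hmem, fun x => rfl⟩
  have hsurj : Function.Surjective ψ := by
    rintro ⟨β, hβ⟩
    rw [hC, Subgroup.mem_inf, inndiagPSL_eq] at hβ
    obtain ⟨⟨g, rfl⟩, hcomm⟩ := hβ
    rw [PhiL_mem_cent_phiS_iff hn σ ι hι] at hcomm
    obtain ⟨l, g₀, rfl⟩ := hcomm
    refine ⟨g₀, ?_⟩
    apply Subtype.ext
    rw [hψ]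
    show _ = PhiL _
    have hsc : Matrix.GeneralLinearGroup.scalar (Fin n) l ∈ Cfsg.Geo.scalars (Fin n) F :=
      ⟨l, rfl⟩
    rw [map_mul, PhiL_scalar _ hsc, one_mul]
  have hker : ψ.ker = Subgroup.center (GL (Fin n) F₀) := by
    ext x
    rw [MonoidHom.mem_ker, ← map_mem_scalars_iff hn ι, ← PhiL_ker, MonoidHom.mem_ker, ← hψ]
    constructor
    · intro h
      rw [h]
      rfl
    · intro h
      apply Subtype.ext
      rw [h]
      rfl
  have e₁ := QuotientGroup.quotientKerEquivOfSurjective ψ hsurj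
  have e₂ := QuotientGroup.quotientMulEquivOfEq hker
  rw [← hC]
  exact ⟨e₁.symm.trans e₂⟩

end fieldCentIso

section fixedField
variable {F : Type*} [Field F] [Fintype F]

/-- the fixed field of a field automorphism -/
noncomputable def fixSub (σ : F ≃+* F) : Subfield F :=
  FixedPoints.subfield (Subgroup.zpowers (σ : RingAut F)) F

theorem mem_fixSub (σ : F ≃+* F) (a : F) : a ∈ fixSub σ ↔ σ a = a := by
  change a ∈ MulAction.fixedPoints (Subgroup.zpowers (σ : RingAut F)) F ↔ _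
  rw [MulAction.mem_fixedPoints]
  constructor
  · intro h
    exact h ⟨σ, Subgroup.mem_zpowers σ⟩
  · intro h m
    have hle : Subgroup.zpowers (σ : RingAut F) ≤ MulAction.stabilizer (RingAut F) a := by
      rw [Subgroup.zpowers_le, MulAction.mem_stabilizer_iff]
      exact h
    have := hle m.2
    rw [MulAction.mem_stabilizer_iff] at this
    exact this

theorem card_fixSub (σ : F ≃+* F) {q₀ r : ℕ} (hr : 0 < r) (hF : Fintype.card F = q₀ ^ r)
    (hσ : orderOf σ = r) : Nat.card (fixSub σ) = q₀ := by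
  haveI : Finite (RingAut F) :=
    Finite.of_injective (fun e : F ≃+* F => (e : F → F)) DFunLike.coe_injective
  haveI : Fintype (Subgroup.zpowers (σ : RingAut F)) := Fintype.ofFinite _
  have h1 := FixedPoints.finrank_eq_card (Subgroup.zpowers (σ : RingAut F)) F
  rw [← Nat.card_eq_fintype_card, Nat.card_zpowers] at h1
  have h2 := Module.natCard_eq_pow_finrank (K := fixSub σ) (V := F)
  unfold fixSub at h2 ⊢
  rw [h1, Nat.card_eq_fintype_card, hF] at h2
  have hσ' : orderOf (σ : RingAut F) = r := hσ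
  rw [hσ'] at h2
  exact (Nat.pow_left_injective hr.ne' h2).symm

theorem exists_embedding {F₀ : Type*} [Field F₀] [Fintype F₀] (σ : F ≃+* F) {q₀ r : ℕ}
    (hr : 0 < r) (hF : Fintype.card F = q₀ ^ r) (hσ : orderOf σ = r)
    (hF₀ : Fintype.card F₀ = q₀) :
    ∃ ι : F₀ →+* F, ∀ a : F, σ a = a ↔ a ∈ ι.range := by
  haveI : Fintype (fixSub σ) := Fintype.ofFinite _
  have hc : Fintype.card F₀ = Fintype.card (fixSub σ) := by
    rw [hF₀, ← Nat.card_eq_fintype_card, card_fixSub σ hr hF hσ]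
  obtain ⟨e⟩ : Nonempty (F₀ ≃+* fixSub σ) := ⟨FiniteField.ringEquivOfCardEq hc⟩
  refine ⟨(fixSub σ).subtype.comp (e : F₀ →+* fixSub σ), fun a => ?_⟩
  rw [← mem_fixSub]
  constructor
  · intro ha
    refine ⟨e.symm ⟨a, ha⟩, ?_⟩
    show ((e (e.symm ⟨a, ha⟩) : fixSub σ) : F) = a
    rw [e.apply_symm_apply]
  · rintro ⟨b, rfl⟩
    exact (e b).2

theorem ringAut_comm {p f : ℕ} [hp : Fact p.Prime] (hF : Fintype.card F = p ^ f)
    (σ τ : F ≃+* F) : σ * τ = τ * σ := by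
  obtain ⟨e⟩ := ringAut_mulEquiv (F := F) hF
  apply e.injective
  rw [map_mul, map_mul, mul_comm]

end fixedField

section stdform
variable {n : ℕ} {F : Type*} [Field F] [Fintype F]

theorem aut_normal_form {p f : ℕ} [hp : Fact p.Prime] (hF : Fintype.card F = p ^ f) (hf : 1 ≤ f)
    (hn : 2 ≤ n) (α : MulAut (ProjectiveSpecialLinearGroup (Fin n) F)) :
    ∃ (g : GL (Fin n) F) (τ : F ≃+* F) (ε : ZMod 2), α = PhiL g * phiS τ * ip ε := by
  rcases Nat.lt_or_ge n 3 with h3 | h3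
  · obtain rfl : n = 2 := by omega
    obtain ⟨g, τ, rfl⟩ := aut_decomp_2 hF hf α
    exact ⟨g, τ, 0, by rw [ip_zero, mul_one]⟩
  · obtain ⟨g, τ, rfl | rfl⟩ := aut_decomp_ge3 hF hf h3 α
    · exact ⟨g, τ, 0, by rw [ip_zero, mul_one]⟩
    · exact ⟨g, τ, 1, by rw [ip_one]⟩

theorem field_class_std {p f : ℕ} [hp : Fact p.Prime] (hF : Fintype.card F = p ^ f) (hf : 1 ≤ f)
    (hn : 2 ≤ n) (x : MulAut (ProjectiveSpecialLinearGroup (Fin n) F))
    (hx : Cfsg.IsFieldAutClassPSL x) :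
    ∃ (g : GL (Fin n) F) (σ : F ≃+* F), σ ≠ RingEquiv.refl F ∧
      x = PhiL g * phiS σ * (PhiL g)⁻¹ := by
  obtain ⟨α, σ, hne, hstd⟩ := hx
  have h1 : α * x * α⁻¹ = phiS σ := std_unique σ _ hstd
  obtain ⟨g, τ, ε, hα⟩ := aut_normal_form hF hf hn α⁻¹
  refine ⟨g, σ, hne, ?_⟩
  have h2 : x = α⁻¹ * phiS σ * (α⁻¹)⁻¹ := by
    rw [← h1]
    group
  have h3 : ip ε * phiS σ * (ip ε)⁻¹ =
      (phiS σ : MulAut (ProjectiveSpecialLinearGroup (Fin n) F)) := by
    rw [ip_phiS]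
    group
  have h4 : phiS τ * phiS σ * (phiS τ)⁻¹ =
      (phiS σ : MulAut (ProjectiveSpecialLinearGroup (Fin n) F)) := by
    rw [phiS_mul, ringAut_comm hF τ σ, ← phiS_mul]
    group
  rw [h2, hα]
  calc PhiL g * phiS τ * ip ε * phiS σ * (PhiL g * phiS τ * ip ε)⁻¹
      = PhiL g * (phiS τ * (ip ε * phiS σ * (ip ε)⁻¹) * (phiS τ)⁻¹) * (PhiL g)⁻¹ := by group
    _ = _ := by rw [h3, h4]

end stdform

section fieldSplit
variable {n : ℕ} {F : Type*} [Field F] [Fintype F] {F₀ : Type*} [Field F₀] [Fintype F₀]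

theorem field_split_count (hn : 2 ≤ n) (σ : F ≃+* F) (ι : F₀ →+* F)
    (hι : ∀ a : F, σ a = a ↔ a ∈ ι.range) (L : ℕ)
    (hL : Fintype.card F - 1 = L * (Fintype.card F₀ - 1)) :
    Cfsg.splitClassCount (Cfsg.inndiagPSL n F)
      (Cfsg.Inn (ProjectiveSpecialLinearGroup (Fin n) F)) (phiS σ) = Nat.gcd n L := by
  obtain ⟨W, hW⟩ : ∃ W : Subgroup Fˣ, W = (Units.map (ι : F₀ →* F)).range := ⟨_, rfl⟩
  obtain ⟨Q, hQ⟩ : ∃ Q : Subgroup Fˣ, Q = (powMonoidHom n : Fˣ →* Fˣ).range ⊔ W := ⟨_, rfl⟩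
  have hQm : ∀ y, y ∈ Q ↔ ∃ a : Fˣ, ∃ b ∈ W, y = a ^ n * b := by
    intro y
    rw [hQ, Subgroup.mem_sup]
    constructor
    · rintro ⟨_, ⟨a, rfl⟩, b, hb, rfl⟩
      exact ⟨a, b, hb, rfl⟩
    · rintro ⟨a, b, hb, rfl⟩
      exact ⟨_, ⟨a, rfl⟩, b, hb, rfl⟩
  have h1 : ∀ g : GL (Fin n) F, PhiL g ∈ Subgroup.centralizer {phiS σ} →
      ∃ a : Fˣ, ∃ b ∈ W, Matrix.GeneralLinearGroup.det g = a ^ n * b := by
    intro g hg
    rw [PhiL_mem_cent_phiS_iff (by omega) σ ι hι] at hg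
    obtain ⟨l, g₀, rfl⟩ := hg
    refine ⟨l, Units.map (ι : F₀ →* F) (Matrix.GeneralLinearGroup.det g₀), ?_, ?_⟩
    · rw [hW]
      exact ⟨_, rfl⟩
    · rw [map_mul, Matrix.GeneralLinearGroup.det_scalar, Fintype.card_fin,
        Matrix.GeneralLinearGroup.map_det]
  have h2 : ∀ b ∈ W, ∃ g : GL (Fin n) F, PhiL g ∈ Subgroup.centralizer {phiS σ} ∧
      Matrix.GeneralLinearGroup.det g = b := by
    intro b hb
    rw [hW] at hb
    obtain ⟨b₀, rfl⟩ := hb
    obtain ⟨g₀, hg₀⟩ := exists_det_eq (n := n) (by omega) b₀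
    refine ⟨Matrix.GeneralLinearGroup.map ι g₀, ?_, ?_⟩
    · rw [PhiL_mem_cent_phiS_iff (by omega) σ ι hι]
      exact ⟨1, g₀, by rw [map_one, one_mul]⟩
    · rw [Matrix.GeneralLinearGroup.map_det, hg₀]
  rw [split_index_eq hn (phiS σ) W Q h1 h2 hQm]
  have hcW : Nat.card W = Fintype.card F₀ - 1 := by
    rw [hW, Nat.card_congr (MonoidHom.ofInjective
      (Units.map_injective (f := (ι : F₀ →* F)) ι.injective)).toEquiv.symm, Nat.card_units,
      Nat.card_eq_fintype_card]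
  have hcF : Nat.card Fˣ = L * (Fintype.card F₀ - 1) := by
    rw [Nat.card_units, Nat.card_eq_fintype_card, hL]
  exact cyclic_index n _ L hcF W hcW Q hQm

end fieldSplit

end Cfsg.Agent.helper14
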