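import Mathlib

set_option autoImplicit false

/-! A field automorphism fixing the fixed field of `σ` pointwise is a power of `σ`. -/

namespace Cfsg.Agent.helper14

theorem mem_zpowers_of_fixes {F : Type*} [Field F] [Finite F] (σ τ : F ≃+* F)
    (h : ∀ a : F, σ a = a → τ a = a) : τ ∈ Subgroup.zpowers σ := by
  haveI : Finite (F ≃+* F) :=
    Finite.of_injective (fun e : F ≃+* F => (e : F → F)) DFunLike.coe_injective
  have hfix : ∀ x : ↥(FixedPoints.subfield ↥(Subgroup.zpowers σ) F), τ (x : F) = x := by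
    intro x
    apply h
    have := x.2 ⟨σ, Subgroup.mem_zpowers σ⟩
    exact this
  obtain ⟨τa, hτa⟩ : ∃ τa : F ≃ₐ[↥(FixedPoints.subfield ↥(Subgroup.zpowers σ) F)] F,
      ∀ a, τa a = τ a :=
    ⟨AlgEquiv.ofRingEquiv (f := τ) hfix, fun a => rfl⟩
  obtain ⟨g, hg⟩ := (FixedPoints.toAlgAut_bijective ↥(Subgroup.zpowers σ) F).2 τa
  have : τ = g.1 := by
    ext a
    rw [← hτa, ← hg]
    rfl
  rw [this]
  exact g.2

theorem pow_eq_one_of_fixes {F : Type*} [Field F] [Finite F] (σ τ : F ≃+* F) (p : ℕ)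
    (hσ : σ ^ p = 1) (h : ∀ a : F, σ a = a → τ a = a) : τ ^ p = 1 := by
  obtain ⟨k, rfl⟩ := Subgroup.mem_zpowers_iff.mp (mem_zpowers_of_fixes σ τ h)
  rw [← zpow_natCast, ← zpow_mul, mul_comm, zpow_mul, zpow_natCast, hσ, one_zpow]

end Cfsg.Agent.helper14
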