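import Mathlib
import Cfsg.Agent.Lib_helper14_FieldCent

/-! Centralizers in `Inndiag(PSL_n)` of graph-field involutions: `PGU_n`; the split count;
all graph-field involutions are conjugate under `Inndiag`. -/

set_option autoImplicit false
set_option linter.unusedSectionVars false

namespace Cfsg.Agent.helper14

open Matrix

section gst
variable {n : ℕ} {F : Type*} [Field F]

/-- the twisted inverse transpose `g ↦ σ(g)^{-T}` -/
def gst (σ : F ≃+* F) (g : GL (Fin n) F) : GL (Fin n) F :=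
  Matrix.GeneralLinearGroup.map (σ : F →+* F) (gInvT g)

theorem gst_mul (σ : F ≃+* F) (g h : GL (Fin n) F) : gst σ (g * h) = gst σ g * gst σ h := by
  unfold gst
  rw [gInvT_mul, map_mul]

theorem gst_inv (σ : F ≃+* F) (g : GL (Fin n) F) : gst σ g⁻¹ = (gst σ g)⁻¹ := by
  unfold gst
  rw [gInvT_inv, map_inv]

theorem gInvT_scalar (c : Fˣ) :
    gInvT (Matrix.GeneralLinearGroup.scalar (Fin n) c) =
      Matrix.GeneralLinearGroup.scalar (Fin n) c⁻¹ := by
  apply Units.ext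
  rw [gInvT_val, ← map_inv, Matrix.GeneralLinearGroup.coe_scalar, Matrix.scalar_apply,
    Matrix.diagonal_transpose]

theorem gst_scalar (σ : F ≃+* F) (c : Fˣ) :
    gst σ (Matrix.GeneralLinearGroup.scalar (Fin n) c) =
      Matrix.GeneralLinearGroup.scalar (Fin n) (Units.map ((σ : F →+* F) : F →* F) c)⁻¹ := by
  unfold gst
  rw [gInvT_scalar, Matrix.GeneralLinearGroup.map_scalar, map_inv]

theorem gInvT_map (σ : F ≃+* F) (h : GL (Fin n) F) :
    gInvT (Matrix.GeneralLinearGroup.map (σ : F →+* F) h) =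
      Matrix.GeneralLinearGroup.map (σ : F →+* F) (gInvT h) := by
  apply Units.ext
  rw [gInvT_val, ← map_inv, glmap_val, glmap_val, gInvT_val, Matrix.transpose_map]

theorem map_map_inv (σ : F ≃+* F) (hinv : ∀ a, σ (σ a) = a) (h : GL (Fin n) F) :
    Matrix.GeneralLinearGroup.map (σ : F →+* F)
      (Matrix.GeneralLinearGroup.map (σ : F →+* F) h) = h := by
  apply Units.ext
  ext i j
  exact hinv _

theorem gst_gst (σ : F ≃+* F) (hinv : ∀ a, σ (σ a) = a) (g : GL (Fin n) F) :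
    gst σ (gst σ g) = g := by
  unfold gst
  rw [gInvT_map, map_map_inv σ hinv, gInvT_gInvT]

theorem gst_eq_iff (σ : F ≃+* F) (hinv : ∀ a, σ (σ a) = a) (g : GL (Fin n) F) :
    gst σ g = g ↔ Matrix.GeneralLinearGroup.map (σ : F →+* F) g = gInvT g := by
  unfold gst
  constructor
  · intro h
    rw [← h, map_map_inv σ hinv, h]
  · intro h
    rw [← h, map_map_inv σ hinv]

theorem det_gInvT (g : GL (Fin n) F) :
    Matrix.GeneralLinearGroup.det (gInvT g) = (Matrix.GeneralLinearGroup.det g)⁻¹ := by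
  apply Units.ext
  rw [Matrix.GeneralLinearGroup.val_det_apply, gInvT_val, Matrix.det_transpose, ← map_inv,
    Matrix.GeneralLinearGroup.val_det_apply]

theorem det_gst (σ : F ≃+* F) (g : GL (Fin n) F) :
    Matrix.GeneralLinearGroup.det (gst σ g) =
      Units.map ((σ : F →+* F) : F →* F) (Matrix.GeneralLinearGroup.det g)⁻¹ := by
  unfold gst
  rw [Matrix.GeneralLinearGroup.map_det, det_gInvT]

theorem gf_cent_iff (σ : F ≃+* F) (g : GL (Fin n) F) :
    PhiL g ∈ Subgroup.centralizer {(phiS σ * iota0 :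
      MulAut (ProjectiveSpecialLinearGroup (Fin n) F))} ↔
      ∃ c : Fˣ, g = Matrix.GeneralLinearGroup.scalar (Fin n) c * gst σ g := by
  rw [mem_cent_singleton]
  have hc := gf_conj σ g
  constructor
  · intro h
    have h1 : PhiL g * (phiS σ * iota0) * (PhiL g)⁻¹ = phiS σ * iota0 := by
      rw [← h]
      group
    rw [h1] at hc
    have h2 : PhiL (g * (Matrix.GeneralLinearGroup.map (σ : F →+* F) (gInvT g))⁻¹) = 1 := by
      have := hc.symm
      rwa [mul_eq_right] at this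
    obtain ⟨c, hc'⟩ := scalar_of_PhiL_eq_one _ h2
    refine ⟨c, ?_⟩
    have : Matrix.GeneralLinearGroup.scalar (Fin n) c =
        g * (Matrix.GeneralLinearGroup.map (σ : F →+* F) (gInvT g))⁻¹ := hc'
    rw [this]
    unfold gst
    group
  · rintro ⟨c, hc'⟩
    have h2 : g * (Matrix.GeneralLinearGroup.map (σ : F →+* F) (gInvT g))⁻¹ =
        Matrix.GeneralLinearGroup.scalar (Fin n) c := by
      have : g * (gst σ g)⁻¹ = Matrix.GeneralLinearGroup.scalar (Fin n) c := by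
        nth_rewrite 1 [hc']
        group
      exact this
    have hsc : Matrix.GeneralLinearGroup.scalar (Fin n) c ∈ Cfsg.Geo.scalars (Fin n) F :=
      ⟨c, rfl⟩
    rw [h2, PhiL_scalar _ hsc, one_mul] at hc
    calc phiS σ * iota0 * PhiL g = (PhiL g * (phiS σ * iota0) * (PhiL g)⁻¹) * PhiL g := by
          rw [hc]
      _ = _ := by group

end gst

section gfcent
variable {n : ℕ} {F : Type*} [Field F]

theorem scalar_eq_one (hn : 1 ≤ n) (a : Fˣ)
    (h : Matrix.GeneralLinearGroup.scalar (Fin n) a = 1) : a = 1 := by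
  have h1 := congrArg (fun g : GL (Fin n) F => (g : Matrix (Fin n) (Fin n) F) ⟨0, by omega⟩
    ⟨0, by omega⟩) h
  simp only [Matrix.GeneralLinearGroup.coe_scalar, Matrix.scalar_apply,
    Matrix.diagonal_apply_eq, Units.val_one, Matrix.one_apply_eq] at h1
  exact Units.ext h1

theorem orderOf_invol (σ : F ≃+* F) (hne : σ ≠ RingEquiv.refl F) (hinv : ∀ a, σ (σ a) = a) :
    orderOf σ = 2 := by
  apply orderOf_eq_prime
  · ext a
    rw [pow_two]
    exact hinv a
  · exact hne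

theorem gf_cent_decomp [Fintype F] (hn : 1 ≤ n) (σ : F ≃+* F) (hne : σ ≠ RingEquiv.refl F)
    (hinv : ∀ a, σ (σ a) = a) (g : GL (Fin n) F) (c : Fˣ)
    (h : g = Matrix.GeneralLinearGroup.scalar (Fin n) c * gst σ g) :
    ∃ (l : Fˣ) (u : GL (Fin n) F), gst σ u = u ∧
      g = Matrix.GeneralLinearGroup.scalar (Fin n) l * u := by
  have h1 : gst σ g = Matrix.GeneralLinearGroup.scalar (Fin n)
      (Units.map ((σ : F →+* F) : F →* F) c)⁻¹ * g := by
    have := congrArg (gst σ) h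
    rw [gst_mul, gst_gst σ hinv, gst_scalar] at this
    exact this
  have h2 : Matrix.GeneralLinearGroup.scalar (Fin n)
      (c * (Units.map ((σ : F →+* F) : F →* F) c)⁻¹) = 1 := by
    have h3 : g = Matrix.GeneralLinearGroup.scalar (Fin n)
        (c * (Units.map ((σ : F →+* F) : F →* F) c)⁻¹) * g := by
      rw [map_mul, mul_assoc, ← h1]
      exact h
    have h4 : (1 : GL (Fin n) F) * g = Matrix.GeneralLinearGroup.scalar (Fin n)
        (c * (Units.map ((σ : F →+* F) : F →* F) c)⁻¹) * g := by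
      rw [one_mul]
      exact h3
    exact (mul_right_cancel h4).symm
  have h5 := scalar_eq_one hn _ h2
  have hfix : σ (c : F) = c := by
    have h6 : c = Units.map ((σ : F →+* F) : F →* F) c := mul_inv_eq_one.mp h5
    have h7 := congrArg Units.val h6
    exact h7.symm
  obtain ⟨e, he⟩ := exists_norm σ c hfix
  rw [orderOf_invol σ hne hinv, Finset.prod_range_succ, Finset.prod_range_one, pow_zero,
    pow_one] at he
  have he' : (e : F) * σ (e : F) = c := he
  have hgst : gst σ g = Matrix.GeneralLinearGroup.scalar (Fin n) c⁻¹ * g := by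
    nth_rewrite 2 [h]
    rw [← mul_assoc, ← map_mul, inv_mul_cancel, map_one, one_mul]
  refine ⟨e, Matrix.GeneralLinearGroup.scalar (Fin n) e⁻¹ * g, ?_, ?_⟩
  · rw [gst_mul, gst_scalar, hgst, ← mul_assoc, ← map_mul]
    congr 2
    apply Units.ext
    have he0 : (e : F) ≠ 0 := e.ne_zero
    have hse0 : σ (e : F) ≠ 0 := (map_ne_zero σ).mpr he0
    rw [Units.val_mul, Units.val_inv_eq_inv_val, Units.val_inv_eq_inv_val,
      Units.val_inv_eq_inv_val, Units.coe_map]
    show (σ ((e⁻¹ : Fˣ) : F))⁻¹ * (c : F)⁻¹ = (e : F)⁻¹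
    rw [Units.val_inv_eq_inv_val, map_inv₀, inv_inv, ← he']
    field_simp
  · rw [← mul_assoc, ← map_mul, mul_inv_cancel, map_one, one_mul]

end gfcent

section gu
variable {n : ℕ} {F : Type*} [Field F] [Fintype F] {q : ℕ}

theorem hermForm_eq_sform (σ : F ≃+* F) (hq : ∀ a, σ a = a ^ q) (u v : Fin n → F) :
    Cfsg.hermForm n F q u v = sform σ 1 u v := by
  unfold Cfsg.hermForm sform
  rw [Matrix.one_mulVec]
  apply Finset.sum_congr rfl
  intro i _
  rw [Function.comp_apply, hq]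

theorem mem_GU_iff_gst (σ : F ≃+* F) (hq : ∀ a, σ a = a ^ q) (hinv : ∀ a, σ (σ a) = a)
    (g : GL (Fin n) F) : g ∈ Cfsg.GU n F q ↔ gst σ g = g := by
  rw [gst_eq_iff σ hinv, Cfsg.Agent.helper11.Unitary.mem_GU_iff]
  have key : (∀ u v, Cfsg.hermForm n F q ((g : Matrix (Fin n) (Fin n) F) *ᵥ u)
      ((g : Matrix (Fin n) (Fin n) F) *ᵥ v) = Cfsg.hermForm n F q u v) ↔
      (g : Matrix (Fin n) (Fin n) F)ᵀ * (g : Matrix (Fin n) (Fin n) F).map σ = 1 := by
    constructor
    · intro h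
      ext i j
      have := h (Pi.single i 1) (Pi.single j 1)
      rw [hermForm_eq_sform σ hq, hermForm_eq_sform σ hq, sform_mulVec, sform_single,
        sform_single, Matrix.mul_one] at this
      exact this
    · intro h u v
      rw [hermForm_eq_sform σ hq, hermForm_eq_sform σ hq, sform_mulVec, Matrix.mul_one, h]
  rw [key]
  constructor
  · intro h
    have h1 : (gInvT g)⁻¹ * Matrix.GeneralLinearGroup.map (σ : F →+* F) g = 1 := by
      apply Units.ext
      rw [Units.val_mul, gInvT_inv_val, glmap_val]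
      exact h
    exact (inv_mul_eq_one.mp h1).symm
  · intro h
    have h1 : (gInvT g)⁻¹ * Matrix.GeneralLinearGroup.map (σ : F →+* F) g = 1 := by
      rw [h, inv_mul_cancel]
    have h2 := congrArg Units.val h1
    rw [Units.val_mul, gInvT_inv_val, glmap_val] at h2
    exact h2

theorem centralizer_gf_iso (hn : 1 ≤ n) (σ : F ≃+* F) (hne : σ ≠ RingEquiv.refl F)
    (hinv : ∀ a, σ (σ a) = a) (hq : ∀ a, σ a = a ^ q) :
    Nonempty (↥(Cfsg.inndiagPSL n F ⊓ Subgroup.centralizer {(phiS σ * iota0 :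
      MulAut (ProjectiveSpecialLinearGroup (Fin n) F))}) ≃* Cfsg.PGU n F q) := by
  obtain ⟨S₀, hS₀⟩ : ∃ S₀ : Subgroup (GL (Fin n) F), S₀ = Cfsg.GU n F q := ⟨_, rfl⟩
  obtain ⟨C, hC⟩ : ∃ C : Subgroup (MulAut (ProjectiveSpecialLinearGroup (Fin n) F)),
      C = Cfsg.inndiagPSL n F ⊓ Subgroup.centralizer {(phiS σ * iota0 :
      MulAut (ProjectiveSpecialLinearGroup (Fin n) F))} := ⟨_, rfl⟩
  have hmem : ∀ x : ↥S₀, (PhiL.comp S₀.subtype) x ∈ C := by
    intro x
    rw [hC, Subgroup.mem_inf, inndiagPSL_eq]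
    refine ⟨⟨x.1, rfl⟩, ?_⟩
    show PhiL (x : GL (Fin n) F) ∈ _
    rw [gf_cent_iff]
    refine ⟨1, ?_⟩
    have hx : (x : GL (Fin n) F) ∈ Cfsg.GU n F q := by
      rw [← hS₀]
      exact x.2
    rw [(mem_GU_iff_gst σ hq hinv _).mp hx, map_one, one_mul]
  obtain ⟨ψ, hψ⟩ : ∃ ψ : ↥S₀ →* ↥C, ∀ x : ↥S₀, ((ψ x : ↥C) :
      MulAut (ProjectiveSpecialLinearGroup (Fin n) F)) = PhiL (x : GL (Fin n) F) :=
    ⟨(PhiL.comp S₀.subtype).codRestrict C hmem, fun x => rfl⟩
  have hsurj : Function.Surjective ψ := by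
    rintro ⟨β, hβ⟩
    rw [hC, Subgroup.mem_inf, inndiagPSL_eq] at hβ
    obtain ⟨⟨g, rfl⟩, hcomm⟩ := hβ
    rw [gf_cent_iff] at hcomm
    obtain ⟨c, hc⟩ := hcomm
    obtain ⟨l, u, hu, hg⟩ := gf_cent_decomp hn σ hne hinv g c hc
    have hu' : u ∈ S₀ := by
      rw [hS₀, mem_GU_iff_gst σ hq hinv]
      exact hu
    refine ⟨⟨u, hu'⟩, ?_⟩
    apply Subtype.ext
    rw [hψ]
    show PhiL u = PhiL g
    have hsc : Matrix.GeneralLinearGroup.scalar (Fin n) l ∈ Cfsg.Geo.scalars (Fin n) F :=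
      ⟨l, rfl⟩
    rw [hg, map_mul, PhiL_scalar _ hsc, one_mul]
  have hker : ψ.ker = (Cfsg.Geo.scalars (Fin n) F).subgroupOf S₀ := by
    ext x
    rw [MonoidHom.mem_ker, Subgroup.mem_subgroupOf, ← PhiL_ker, MonoidHom.mem_ker, ← hψ]
    constructor
    · intro h
      rw [h]
      rfl
    · intro h
      apply Subtype.ext
      rw [h]
      rfl
  have e₁ := QuotientGroup.quotientKerEquivOfSurjective ψ hsurj
  have e₂ := QuotientGroup.quotientMulEquivOfEq hker
  rw [← hC]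
  have e₃ : ↥C ≃* ↥S₀ ⧸ (Cfsg.Geo.scalars (Fin n) F).subgroupOf S₀ := e₁.symm.trans e₂
  rw [hS₀] at e₃
  exact ⟨e₃⟩

end gu

section gfsplit
variable {n : ℕ} {F : Type*} [Field F] [Fintype F] {q : ℕ}

theorem update_ne_zero (i0 : Fin n) (b : Fˣ) (i : Fin n) :
    Function.update (1 : Fin n → F) i0 (b : F) i ≠ 0 := by
  by_cases h : i = i0
  · subst h
    rw [Function.update_self]
    exact b.ne_zero
  · rw [Function.update_of_ne h]
    exact one_ne_zero

theorem det_dg_update (i0 : Fin n) (b : Fˣ) :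
    Matrix.GeneralLinearGroup.det (dg (Function.update (1 : Fin n → F) i0 (b : F))
      (update_ne_zero i0 b)) = b := by
  apply Units.ext
  rw [det_dg, Finset.prod_update_of_mem (Finset.mem_univ i0)]
  simp

theorem gst_dg_update (σ : F ≃+* F) (hinv : ∀ a, σ (σ a) = a) (i0 : Fin n) (b : Fˣ)
    (hb : (b : F) * σ (b : F) = 1) :
    gst σ (dg (Function.update (1 : Fin n → F) i0 (b : F)) (update_ne_zero i0 b)) =
      dg (Function.update (1 : Fin n → F) i0 (b : F)) (update_ne_zero i0 b) := by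
  rw [gst_eq_iff σ hinv]
  apply Units.ext
  rw [glmap_val, gInvT_val]
  show (Matrix.diagonal (Function.update (1 : Fin n → F) i0 (b : F))).map σ =
    (Matrix.diagonal (fun i => (Function.update (1 : Fin n → F) i0 (b : F) i)⁻¹))ᵀ
  rw [Matrix.diagonal_transpose]
  ext i j
  rw [Matrix.map_apply, Matrix.diagonal_apply, Matrix.diagonal_apply]
  by_cases hij : i = j
  · rw [if_pos hij, if_pos hij]
    by_cases h : i = i0
    · subst h
      rw [Function.update_self]
      exact eq_inv_of_mul_eq_one_right hb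
    · rw [Function.update_of_ne h]
      simp
  · rw [if_neg hij, if_neg hij, map_zero]

theorem gf_split_count (hn : 2 ≤ n) (σ : F ≃+* F) (hne : σ ≠ RingEquiv.refl F)
    (hinv : ∀ a, σ (σ a) = a) (hq : ∀ a, σ a = a ^ q) (hF : Fintype.card F = q ^ 2) :
    Cfsg.splitClassCount (Cfsg.inndiagPSL n F)
      (Cfsg.Inn (ProjectiveSpecialLinearGroup (Fin n) F)) (phiS σ * iota0) =
        Nat.gcd n (q - 1) := by
  obtain ⟨W, hW⟩ : ∃ W : Subgroup Fˣ, W = (powMonoidHom (q + 1) : Fˣ →* Fˣ).ker := ⟨_, rfl⟩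
  have hWm : ∀ b : Fˣ, b ∈ W ↔ (b : F) * σ (b : F) = 1 := by
    intro b
    rw [hW, MonoidHom.mem_ker, powMonoidHom_apply, hq, ← pow_succ', Units.ext_iff,
      Units.val_pow_eq_pow_val, Units.val_one]
  obtain ⟨Q, hQ⟩ : ∃ Q : Subgroup Fˣ, Q = (powMonoidHom n : Fˣ →* Fˣ).range ⊔ W := ⟨_, rfl⟩
  have hQm : ∀ y, y ∈ Q ↔ ∃ a : Fˣ, ∃ b ∈ W, y = a ^ n * b := by
    intro y
    rw [hQ, Subgroup.mem_sup]
    constructor
    · rintro ⟨_, ⟨a, rfl⟩, b, hb, rfl⟩
      exact ⟨a, b, hb, rfl⟩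
    · rintro ⟨a, b, hb, rfl⟩
      exact ⟨_, ⟨a, rfl⟩, b, hb, rfl⟩
  have h1 : ∀ g : GL (Fin n) F, PhiL g ∈ Subgroup.centralizer {(phiS σ * iota0 :
      MulAut (ProjectiveSpecialLinearGroup (Fin n) F))} →
      ∃ a : Fˣ, ∃ b ∈ W, Matrix.GeneralLinearGroup.det g = a ^ n * b := by
    intro g hg
    rw [gf_cent_iff] at hg
    obtain ⟨c, hc⟩ := hg
    obtain ⟨l, u, hu, rfl⟩ := gf_cent_decomp (by omega) σ hne hinv g c hc
    refine ⟨l, Matrix.GeneralLinearGroup.det u, ?_, ?_⟩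
    · rw [hWm]
      have h2 := det_gst σ u
      rw [hu] at h2
      have h3 := congrArg Units.val h2
      rw [Units.coe_map] at h3
      have h4 : ((Matrix.GeneralLinearGroup.det u : Fˣ) : F) =
          σ (((Matrix.GeneralLinearGroup.det u)⁻¹ : Fˣ) : F) := h3
      rw [Units.val_inv_eq_inv_val, map_inv₀] at h4
      have h5 : σ ((Matrix.GeneralLinearGroup.det u : Fˣ) : F) ≠ 0 :=
        (map_ne_zero σ).mpr (Units.ne_zero _)
      nth_rewrite 1 [h4]
      exact inv_mul_cancel₀ h5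
    · rw [map_mul, Matrix.GeneralLinearGroup.det_scalar, Fintype.card_fin]
  have h2 : ∀ b ∈ W, ∃ g : GL (Fin n) F, PhiL g ∈ Subgroup.centralizer {(phiS σ * iota0 :
      MulAut (ProjectiveSpecialLinearGroup (Fin n) F))} ∧
      Matrix.GeneralLinearGroup.det g = b := by
    intro b hb
    rw [hWm] at hb
    obtain ⟨i0, -⟩ : ∃ i0 : Fin n, (i0 : ℕ) = 0 := ⟨⟨0, by omega⟩, rfl⟩
    refine ⟨dg (Function.update (1 : Fin n → F) i0 (b : F)) (update_ne_zero i0 b), ?_,
      det_dg_update i0 b⟩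
    rw [gf_cent_iff]
    exact ⟨1, by rw [gst_dg_update σ hinv i0 b hb, map_one, one_mul]⟩
  rw [split_index_eq hn _ W Q h1 h2 hQm]
  have hq0 : q ≠ 0 := Cfsg.Agent.helper11.Unitary.q_ne_zero hF
  have hcF : Nat.card Fˣ = (q - 1) * (q + 1) := by
    rw [Nat.card_units, Nat.card_eq_fintype_card, hF]
    obtain ⟨k, rfl⟩ : ∃ k, q = k + 1 := ⟨q - 1, by omega⟩
    apply Nat.sub_eq_of_eq_add
    rw [Nat.add_sub_cancel]
    ring
  have hcW : Nat.card W = q + 1 := by
    rw [hW, IsCyclic.card_powMonoidHom_ker, hcF]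
    exact Nat.gcd_eq_right (Dvd.intro_left _ rfl)
  exact cyclic_index n _ _ hcF W hcW Q hQm

end gfsplit

section gfstd
variable {n : ℕ} {F : Type*} [Field F] [Fintype F]

theorem ip_iota0 (ε : ZMod 2) :
    (ip ε * iota0 : MulAut (ProjectiveSpecialLinearGroup (Fin n) F)) = iota0 * ip ε := by
  rcases zmod2_cases ε with rfl | rfl
  · rw [ip_zero, one_mul, mul_one]
  · rw [ip_one]

theorem graphfield_class_std {p f : ℕ} [hp : Fact p.Prime] (hF : Fintype.card F = p ^ f)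
    (hf : 1 ≤ f) (hn : 3 ≤ n) (x : MulAut (ProjectiveSpecialLinearGroup (Fin n) F))
    (hx : Cfsg.IsGraphFieldAutClassPSL x) (hx2 : orderOf x = 2) :
    ∃ (g : GL (Fin n) F) (σ : F ≃+* F), σ ≠ RingEquiv.refl F ∧ σ * σ = 1 ∧
      x = PhiL g * (phiS σ * iota0) * (PhiL g)⁻¹ := by
  obtain ⟨-, α, φ, γ, σ, hne, hφ, hγ, hxe⟩ := hx
  have hφ' : φ = phiS σ := std_unique σ _ hφ
  have hγ' : γ = iota0 := invT_unique γ hγ
  rw [hφ', hγ'] at hxe
  have hord : orderOf (phiS σ * iota0 : MulAut (ProjectiveSpecialLinearGroup (Fin n) F)) = 2 := by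
    rw [← hxe, ← hx2]
    exact orderOf_injective (MulAut.conj α).toMonoidHom (MulAut.conj α).injective x
  obtain ⟨-, hσ2⟩ := gf_order hF hf hn σ Nat.prime_two hord
  obtain ⟨g, τ, ε, hα⟩ := aut_normal_form hF hf (by omega) α⁻¹
  refine ⟨g, σ, hne, hσ2, ?_⟩
  have h2 : x = α⁻¹ * (phiS σ * iota0) * (α⁻¹)⁻¹ := by
    rw [← hxe]
    group
  have h3 : ip ε * (phiS σ * iota0) * (ip ε)⁻¹ =
      (phiS σ * iota0 : MulAut (ProjectiveSpecialLinearGroup (Fin n) F)) := by
    rw [← mul_assoc, ip_phiS, mul_assoc (phiS σ), ip_iota0]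
    group
  have h4 : phiS τ * (phiS σ * iota0) * (phiS τ)⁻¹ =
      (phiS σ * iota0 : MulAut (ProjectiveSpecialLinearGroup (Fin n) F)) := by
    rw [← mul_assoc, phiS_mul, ringAut_comm hF τ σ, ← phiS_mul, mul_assoc (phiS σ),
      ← iota0_phiS]
    group
  rw [h2, hα]
  calc PhiL g * phiS τ * ip ε * (phiS σ * iota0) * (PhiL g * phiS τ * ip ε)⁻¹
      = PhiL g * (phiS τ * (ip ε * (phiS σ * iota0) * (ip ε)⁻¹) * (phiS τ)⁻¹) *
          (PhiL g)⁻¹ := by group
    _ = _ := by rw [h3, h4]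

theorem invol_unique (σ σ' : F ≃+* F) (hne : σ ≠ RingEquiv.refl F)
    (hne' : σ' ≠ RingEquiv.refl F) (hinv : ∀ a, σ (σ a) = a) (hinv' : ∀ a, σ' (σ' a) = a) :
    σ' = σ := by
  obtain ⟨q, hq2, hq⟩ := Cfsg.Agent.helper29.sigma_pow σ hne hinv
  obtain ⟨q', hq2', hq'⟩ := Cfsg.Agent.helper29.sigma_pow σ' hne' hinv'
  have : q' = q := by
    rw [hq2] at hq2'
    exact (Nat.pow_left_injective (by norm_num : (2 : ℕ) ≠ 0) hq2').symm
  subst this
  ext a
  rw [hq, hq']

theorem sq_prime_pow {p f q : ℕ} (hp : p.Prime) (h : q ^ 2 = p ^ f) :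
    ∃ k, f = 2 * k ∧ q = p ^ k := by
  have hdvd : q ∣ p ^ f := by
    rw [← h]
    exact Dvd.intro_left (q ^ 1) (by ring)
  obtain ⟨k, -, rfl⟩ := (Nat.dvd_prime_pow hp).mp hdvd
  refine ⟨k, ?_, rfl⟩
  rw [← pow_mul] at h
  have := Nat.pow_right_injective hp.two_le h
  omega

end gfstd

end Cfsg.Agent.helper14
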