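import Mathlib
import Cfsg.Agent.Lib_helper29_ULagA

set_option autoImplicit false
set_option linter.unusedSectionVars false
set_option linter.unusedVariables false

namespace Cfsg.Agent.helper29

open Matrix Cfsg Cfsg.Agent.helper11.HermCount Cfsg.Agent.helper11.Unitary

section ulagB

variable {F : Type*} [Field F] [Fintype F] {q n : ℕ}

local notation "hf" => Cfsg.hermForm n F q
local notation "VV" => (Fin n → F)
local notation "MM" => Matrix (Fin n) (Fin n) F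

/-- a pair of complementary totally isotropic subspaces of a unitary space -/
structure ULagPair (q : ℕ) (A B : Submodule F (Fin n → F)) (k : ℕ) : Prop where
  hA : ∀ u ∈ A, ∀ v ∈ A, Cfsg.hermForm n F q u v = 0
  hB : ∀ u ∈ B, ∀ v ∈ B, Cfsg.hermForm n F q u v = 0
  dec : ∀ v : Fin n → F, ∃ a ∈ A, ∃ b ∈ B, v = a + b
  dimA : Module.finrank F A = k
  dimB : Module.finrank F B = k

variable {A B : Submodule F (Fin n → F)} {k : ℕ}

theorem ULagPair.symm (h : ULagPair q A B k) : ULagPair q B A k :=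
  ⟨h.hB, h.hA, fun v => by
    obtain ⟨a, ha, b, hb, rfl⟩ := h.dec v
    exact ⟨b, hb, a, ha, add_comm a b⟩, h.dimB, h.dimA⟩

theorem ULagPair.nd (hF : Fintype.card F = q ^ 2) (h : ULagPair q A B k) (x : VV) (hx : x ∈ A)
    (hxB : ∀ y ∈ B, hf x y = 0) : x = 0 := by
  apply ndeg_top hF x trivial
  intro v _
  obtain ⟨a, ha, b, hb, rfl⟩ := h.dec v
  rw [herm_add_right hF, h.hA x hx a ha, hxB b hb, add_zero]

theorem ULagPair.inter (hF : Fintype.card F = q ^ 2) (h : ULagPair q A B k) (v : VV)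
    (hvA : v ∈ A) (hvB : v ∈ B) : v = 0 :=
  h.nd hF v hvA (fun y hy => h.hB v hvB y hy)

theorem ULagPair.two (hF : Fintype.card F = q ^ 2) (h : ULagPair q A B k) (u v : VV)
    (hu : u ∈ A) (hv : v ∈ A) (hu0 : u ≠ 0) (hv0 : v ≠ 0) :
    ∃ y ∈ B, hf u y ≠ 0 ∧ hf v y ≠ 0 := by
  have h1 : ∃ y ∈ B, hf u y ≠ 0 := by
    by_contra hcon
    push Not at hcon
    exact hu0 (h.nd hF u hu hcon)
  have h2 : ∃ y ∈ B, hf v y ≠ 0 := by
    by_contra hcon
    push Not at hcon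
    exact hv0 (h.nd hF v hv hcon)
  obtain ⟨y₁, hy₁, h1⟩ := h1
  obtain ⟨y₂, hy₂, h2⟩ := h2
  by_cases ha : hf v y₁ = 0
  · by_cases hb : hf u y₂ = 0
    · refine ⟨y₁ + y₂, B.add_mem hy₁ hy₂, ?_, ?_⟩
      · rw [herm_add_right hF, hb, add_zero]; exact h1
      · rw [herm_add_right hF, ha, zero_add]; exact h2
    · exact ⟨y₂, hy₂, hb, h2⟩
  · exact ⟨y₁, hy₁, h1, ha⟩

theorem ULagPair.sep1 (hF : Fintype.card F = q ^ 2) (h : ULagPair q A B k) (w a : VV)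
    (hw : w ∈ A) (ha : a ∈ A) (hne : ∀ c : F, a ≠ c • w) :
    ∃ y ∈ B, hf w y = 0 ∧ hf a y ≠ 0 := by
  by_contra hcon
  push Not at hcon
  by_cases hw0 : ∀ y ∈ B, hf w y = 0
  · have : a = 0 := h.nd hF a ha (fun y hy => hcon y hy (hw0 y hy))
    apply hne 0
    rw [this, zero_smul]
  · push Not at hw0
    obtain ⟨y₀, hy₀, hwy⟩ := hw0
    apply hne (hf a y₀ / hf w y₀)
    have : a - (hf a y₀ / hf w y₀) • w = 0 := by
      apply h.nd hF _ (A.sub_mem ha (A.smul_mem _ hw))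
      intro y hy
      have h1 := hcon (y - ((hf w y / hf w y₀) ^ q) • y₀) (B.sub_mem hy (B.smul_mem _ hy₀)) (by
        rw [herm_sub_right hF, herm_smul_right, pow_q_q hF, div_mul_cancel₀ _ hwy, sub_self])
      rw [herm_sub_right hF, herm_smul_right, pow_q_q hF] at h1
      rw [herm_sub_left, herm_smul_left]
      linear_combination h1
    exact sub_eq_zero.mp this

theorem ULagPair.ker3 (h : ULagPair q A B k) (hk : 4 ≤ k) (p r s : VV) :
    ∃ x ∈ A, x ≠ 0 ∧ hf x p = 0 ∧ hf x r = 0 ∧ hf x s = 0 := by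
  set L : A →ₗ[F] (Fin 3 → F) := LinearMap.pi
    ![(hermL q p).comp A.subtype, (hermL q r).comp A.subtype, (hermL q s).comp A.subtype] with hL
  have hlt : Module.finrank F (Fin 3 → F) < Module.finrank F A := by
    rw [h.dimA, Module.finrank_fin_fun]; omega
  have hker := LinearMap.ker_ne_bot_of_finrank_lt (f := L) hlt
  obtain ⟨x, hx, hx0⟩ := (Submodule.ne_bot_iff _).mp hker
  have hx' := LinearMap.mem_ker.mp hx
  refine ⟨x.1, x.2, fun h0 => hx0 (Subtype.ext h0), ?_, ?_, ?_⟩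
  · exact congrFun hx' 0
  · exact congrFun hx' 1
  · exact congrFun hx' 2

theorem gl_toLin_inj (g : GL (Fin n) F) : Function.Injective (Matrix.toLin' (g : MM)) := by
  intro x y hxy
  rw [Matrix.toLin'_apply, Matrix.toLin'_apply] at hxy
  have := congrArg (fun z => ((g⁻¹ : GL (Fin n) F) : MM) *ᵥ z) hxy
  simpa only [gl_inv_mulVec] using this

theorem map_eq_of_le_finrank_gl (W W' : Submodule F VV)
    (hdim : Module.finrank F W = Module.finrank F W') (g : GL (Fin n) F)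
    (h : ∀ d ∈ W, (g : MM) *ᵥ d ∈ W') : W.map (Matrix.toLin' (g : MM)) = W' := by
  apply Submodule.eq_of_le_of_finrank_eq
  · rintro _ ⟨d, hd, rfl⟩
    rw [Matrix.toLin'_apply]
    exact h d hd
  · rw [← (Submodule.equivMapOfInjective _ (gl_toLin_inj g) W).finrank_eq, hdim]

theorem ULagPair.step4 (hF : Fintype.card F = q ^ 2) (h : ULagPair q A B k) (hk : 4 ≤ k)
    (M : Subgroup (GL (Fin n) F)) (hMle : M ≤ SUG n F q)
    (hEM : ∀ x ∈ A, ∀ y ∈ B, hf x y = 0 → ∀ s l : F, s ^ q = -s → EE3 q x y s l ∈ M)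
    (a b : VV) (ha : hf a a = 0) (hb : hf b b = 0) (hab : hf a b = 0)
    (hE : ∀ s l : F, s ^ q = -s → EE3 q a b s l ∈ M)
    (aA aB bA bB : VV) (haA : aA ∈ A) (haB : aB ∈ B) (hbA : bA ∈ A) (hbB : bB ∈ B)
    (hadec : a = aA + aB) (hbdec : b = bA + bB) (haA0 : aA ≠ 0) (hbA0 : bA ≠ 0) :
    ∃ x ∈ A, x ≠ 0 ∧ XXu q M x := by
  obtain ⟨y, hy, hya, hyb⟩ := h.two hF aA bA haA hbA haA0 hbA0
  obtain ⟨x, hx, hx0, hxa, hxb, hxy⟩ := h.ker3 hk aB bB y
  refine ⟨x, hx, hx0, ?_⟩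
  have hxx : hf x x = 0 := h.hA x hx x hx
  have hyy : hf y y = 0 := h.hB y hy y hy
  have hyx : hf y x = 0 := herm_eq_zero_symm hF _ _ hxy
  have hxa' : hf x a = 0 := by rw [hadec, herm_add_right hF, h.hA x hx aA haA, hxa, add_zero]
  have hxb' : hf x b = 0 := by rw [hbdec, herm_add_right hF, h.hA x hx bA hbA, hxb, add_zero]
  obtain ⟨p, hpdef⟩ : ∃ p : F, p = hf y a := ⟨_, rfl⟩
  obtain ⟨r, hrdef⟩ : ∃ r : F, r = hf y b := ⟨_, rfl⟩
  have hp0 : p ≠ 0 := by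
    rw [hpdef, hadec, herm_add_right hF, h.hB y hy aB haB, add_zero]
    intro h0
    exact hya (herm_eq_zero_symm hF _ _ h0)
  have hr0 : r ≠ 0 := by
    rw [hrdef, hbdec, herm_add_right hF, h.hB y hy bB hbB, add_zero]
    intro h0
    exact hyb (herm_eq_zero_symm hF _ _ h0)
  have hay : hf a y = p ^ q := by rw [hpdef, herm_conj hF]
  have hby : hf b y = r ^ q := by rw [hrdef, herm_conj hF]
  obtain ⟨ε, hε0, hε⟩ := exists_eps hF
  obtain ⟨μ, hμ⟩ := exists_trace hF (1 : F) (one_pow q)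
  have hrq0 : r ^ q ≠ 0 := pow_ne_zero q hr0
  obtain ⟨l₁, hl₁def⟩ : ∃ l₁ : F, l₁ = μ / (p * r ^ q) := ⟨_, rfl⟩
  have hl₁ : l₁ * p * r ^ q = μ := by
    rw [hl₁def]; field_simp
  have hl₁' : l₁ ^ q * p ^ q * r = μ ^ q := by
    rw [← hl₁, mul_pow, mul_pow, pow_q_q hF]
  have hg'M : EE3 q a b ε l₁ ∈ M := hE ε l₁ hε
  have hg'GU : EE3 q a b ε l₁ ∈ Cfsg.GU n F q := (Subgroup.mem_inf.mp (hMle hg'M)).1
  have hg'x : ((EE3 q a b ε l₁ : GL (Fin n) F) : MM) *ᵥ x = x := by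
    rw [EE3_mulVec hF a b ε l₁ ha hb hab, hxa', hxb']
    simp
  obtain ⟨y'', hy''def⟩ : ∃ y'' : VV, y'' = ((EE3 q a b ε l₁ : GL (Fin n) F) : MM) *ᵥ y := ⟨_, rfl⟩
  have hy''eq : y'' = y + (ε * l₁ ^ q * r) • a + (ε * l₁ * p) • b := by
    rw [hy''def, EE3_mulVec hF a b ε l₁ ha hb hab, ← hpdef, ← hrdef]
  have hy''y'' : hf y'' y'' = 0 := by rw [hy''def, gu_herm _ hg'GU, hyy]
  have hxy'' : hf x y'' = 0 := by
    have := gu_herm _ hg'GU x y
    rw [hg'x, ← hy''def] at this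
    rw [this, hxy]
  have hκ : hf y'' y = ε := by
    rw [hy''eq, herm_add_left, herm_add_left, herm_smul_left, herm_smul_left, hyy, hay, hby]
    linear_combination ε * hl₁' + ε * hl₁ + ε * hμ
  have hκ' : hf y y'' = -ε := by rw [← herm_conj hF, hκ, hε]
  have hP₁ : EE3 q x y ε 1 ∈ M := hEM x hx y hy hxy ε 1 hε
  have hP' : EE3 q x y'' ε 1 ∈ M := by
    have := M.mul_mem (M.mul_mem hg'M hP₁) (M.inv_mem hg'M)
    rw [conj_EE3 hF _ hg'GU x y ε 1 hxx hyy hxy, hg'x, ← hy''def] at this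
    exact this
  intro τ₀ hτ₀
  obtain ⟨l, hldef⟩ : ∃ l : F, l = τ₀ * μ / ε ^ 3 := ⟨_, rfl⟩
  have hP : EE3 q x y ε l ∈ M := hEM x hx y hy hxy ε l hε
  have hcomm := comm_EE3 hF x y y'' ε l ε 1 hxx hyy hy''y'' hxy hxy''
  have hlq : l ^ q = τ₀ * μ ^ q / ε ^ 3 := by
    rw [hldef, div_pow, mul_pow, hτ₀, ← pow_mul, mul_comm 3 q, pow_mul, hε]
    have h3 : (-ε) ^ 3 = -(ε ^ 3) := by ring
    rw [h3, neg_mul, neg_div_neg_eq]
  have hτ : ε * l ^ q * (ε * 1) * hf y'' y - ε * l * (ε * 1 ^ q) * hf y y'' = τ₀ := by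
    rw [hκ, hκ', hlq, hldef, one_pow]
    have hε3 : ε ^ 3 ≠ 0 := pow_ne_zero 3 hε0
    field_simp
    linear_combination τ₀ * hμ
  rw [hτ] at hcomm
  have : TTu q x τ₀ = (EE3 q x y'' ε 1 * EE3 q x y ε l)⁻¹ * (EE3 q x y ε l * EE3 q x y'' ε 1) := by
    rw [hcomm]; group
  rw [this]
  exact M.mul_mem (M.inv_mem (M.mul_mem hP' hP)) (M.mul_mem hP hP')

theorem ULagPair.spread (hF : Fintype.card F = q ^ 2) (h : ULagPair q A B k)
    (M : Subgroup (GL (Fin n) F)) (hMle : M ≤ SUG n F q)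
    (hEM : ∀ x ∈ A, ∀ y ∈ B, hf x y = 0 → ∀ s l : F, s ^ q = -s → EE3 q x y s l ∈ M)
    (x : VV) (hx : x ∈ A) (hx0 : x ≠ 0) (hX : XXu q M x) (u : VV) (hu : u ∈ A) :
    XXu q M u := by
  have hxx : hf x x = 0 := h.hA x hx x hx
  by_cases hc : ∃ c : F, u = c • x
  · obtain ⟨c, rfl⟩ := hc
    exact XXu_smul hF M x hxx hX c
  · push Not at hc
    have hne : ∀ c : F, x ≠ c • (u - x) := by
      intro c hcx
      by_cases hc0 : c = 0
      · rw [hc0, zero_smul] at hcx; exact hx0 hcx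
      · apply hc (1 + c⁻¹)
        have e : c⁻¹ • x = u - x := by
          have := congrArg (fun t => c⁻¹ • t) hcx
          simp only [smul_smul, inv_mul_cancel₀ hc0, one_smul] at this
          exact this
        rw [add_smul, one_smul, e]; abel
    obtain ⟨y', hy', hwy, hxy⟩ := h.sep1 hF (u - x) x (A.sub_mem hu hx) hx hne
    obtain ⟨ε, hε0, hε⟩ := exists_eps hF
    have hux : u - x ∈ A := A.sub_mem hu hx
    have huu : hf (u - x) (u - x) = 0 := h.hA _ hux _ hux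
    have hy'y' : hf y' y' = 0 := h.hB _ hy' _ hy'
    obtain ⟨l, hldef⟩ : ∃ l : F, l = ((ε * hf x y')⁻¹) ^ q := ⟨_, rfl⟩
    have hlq : l ^ q = (ε * hf x y')⁻¹ := by rw [hldef, pow_q_q hF]
    have hmem : EE3 q (u - x) y' ε l ∈ M := hEM _ hux _ hy' hwy ε l hε
    have hGU : EE3 q (u - x) y' ε l ∈ Cfsg.GU n F q := (Subgroup.mem_inf.mp (hMle hmem)).1
    have := XXu_conj M _ hmem hGU x hxx hX
    rw [EE3_mulVec hF _ _ ε l huu hy'y' hwy, h.hA x hx _ hux, mul_zero, zero_smul, add_zero,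
      hlq] at this
    have e1 : ε * (ε * hf x y')⁻¹ * hf x y' = 1 := by
      field_simp
    rw [e1, one_smul, add_sub_cancel] at this
    exact this

theorem ULagPair.all (hF : Fintype.card F = q ^ 2) (h : ULagPair q A B k)
    (M : Subgroup (GL (Fin n) F)) (hMle : M ≤ SUG n F q)
    (hA : ∀ x ∈ A, XXu q M x) (hB : ∀ y ∈ B, XXu q M y) (v : VV) (hv : hf v v = 0) :
    XXu q M v := by
  have hMGU : M ≤ Cfsg.GU n F q := fun g hg => (Subgroup.mem_inf.mp (hMle hg)).1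
  obtain ⟨a, ha, b, hb, rfl⟩ := h.dec v
  have haa : hf a a = 0 := h.hA a ha a ha
  have hbb : hf b b = 0 := h.hB b hb b hb
  have hβ : (hf a b) ^ q = - hf a b := by
    rw [herm_add_left, herm_add_right hF, herm_add_right hF, haa, hbb] at hv
    rw [herm_conj hF]
    linear_combination hv
  by_cases hab : hf a b = 0
  · by_cases ha0 : a = 0
    · rw [ha0, zero_add]; exact hB b hb
    · have hex : ∃ w ∈ B, hf a w ≠ 0 := by
        by_contra hcon; push Not at hcon; exact ha0 (h.nd hF a ha hcon)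
      obtain ⟨w, hw, haw⟩ := hex
      obtain ⟨ε, hε0, hε⟩ := exists_eps hF
      obtain ⟨b', hb'def⟩ : ∃ b' : VV, b' = ((ε / hf a w) ^ q) • w := ⟨_, rfl⟩
      have hb'B : b' ∈ B := by rw [hb'def]; exact B.smul_mem _ hw
      have hab' : hf a b' = ε := by
        rw [hb'def, herm_smul_right, pow_q_q hF, div_mul_cancel₀ _ haw]
      have hb'b' : hf b' b' = 0 := h.hB _ hb'B _ hb'B
      have h1 : XXu q M (a + b') := by
        apply XXu_add hF M hMGU a b' haa hb'b' (hA a ha) (hB b' hb'B)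
        · rw [hab', hε]
        · rw [hab']; exact hε0
      have hb'a : hf b' a = -ε := by rw [← herm_conj hF, hab', hε]
      have hiso1 : hf (a + b') (a + b') = 0 := by
        rw [herm_add_left, herm_add_right hF, herm_add_right hF, haa, hb'b', hab', hb'a]; ring
      have hbb'B : b - b' ∈ B := B.sub_mem hb hb'B
      have hiso2 : hf (b - b') (b - b') = 0 := h.hB _ hbb'B _ hbb'B
      have hval : hf (a + b') (b - b') = -ε := by
        rw [herm_add_left, herm_sub_right hF, herm_sub_right hF, hab, hab', h.hB b' hb'B b hb,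
          hb'b']
        ring
      have := XXu_add hF M hMGU (a + b') (b - b') hiso1 hiso2 h1 (hB _ hbb'B)
        (by rw [hval, neg_pow_q' hF, hε]) (by rw [hval]; exact neg_ne_zero.mpr hε0)
      have e : a + b' + (b - b') = a + b := by abel
      rwa [e] at this
  · exact XXu_add hF M hMGU a b haa hbb (hA a ha) (hB b hb) hβ hab

theorem union_sub_gl (W : Submodule F VV) (g : GL (Fin n) F)
    (h : ∀ w ∈ W, (g : MM) *ᵥ w ∈ A ∨ (g : MM) *ᵥ w ∈ B) :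
    (∀ w ∈ W, (g : MM) *ᵥ w ∈ A) ∨ (∀ w ∈ W, (g : MM) *ᵥ w ∈ B) := by
  by_contra hcon
  push Not at hcon
  obtain ⟨⟨w₁, hw₁, h1⟩, ⟨w₂, hw₂, h2⟩⟩ := hcon
  have h1B : (g : MM) *ᵥ w₁ ∈ B := (h w₁ hw₁).resolve_left h1
  have h2A : (g : MM) *ᵥ w₂ ∈ A := (h w₂ hw₂).resolve_right h2
  rcases h (w₁ + w₂) (W.add_mem hw₁ hw₂) with h3 | h3
  · apply h1
    have : (g : MM) *ᵥ w₁ = (g : MM) *ᵥ (w₁ + w₂) - (g : MM) *ᵥ w₂ := by
      rw [Matrix.mulVec_add]; abel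
    rw [this]; exact A.sub_mem h3 h2A
  · apply h2
    have : (g : MM) *ᵥ w₂ = (g : MM) *ᵥ (w₁ + w₂) - (g : MM) *ᵥ w₁ := by
      rw [Matrix.mulVec_add]; abel
    rw [this]; exact B.sub_mem h3 h1B

theorem ULagPair.not_both (hF : Fintype.card F = q ^ 2) (h : ULagPair q A B k) (hk : 4 ≤ k)
    (g : GL (Fin n) F)
    (h0 : ∀ a ∈ A, (g : MM) *ᵥ a ∈ A) (h1 : ∀ b ∈ B, (g : MM) *ᵥ b ∈ A) : False := by
  have hmap := map_eq_of_le_finrank_gl A A rfl g h0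
  obtain ⟨b, hb, hb0, -, -, -⟩ := h.symm.ker3 hk 0 0 0
  have hgb := h1 b hb
  rw [← hmap] at hgb
  obtain ⟨a, ha, hab⟩ := hgb
  have : a = b := gl_toLin_inj g (by rw [hab, Matrix.toLin'_apply])
  rw [this] at ha
  exact hb0 (h.inter hF b ha hb)

theorem ULagPair.step3 (hF : Fintype.card F = q ^ 2) (h : ULagPair q A B k) (hk : 4 ≤ k)
    (g : GL (Fin n) F)
    (hg : ∀ a₀ ∈ A, ∀ b₀ ∈ B, hf a₀ b₀ = 0 →
      ((g : MM) *ᵥ a₀ ∈ B ∨ (g : MM) *ᵥ b₀ ∈ B) ∧ ((g : MM) *ᵥ a₀ ∈ A ∨ (g : MM) *ᵥ b₀ ∈ A)) :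
    ((∀ a ∈ A, (g : MM) *ᵥ a ∈ A) ∧ (∀ b ∈ B, (g : MM) *ᵥ b ∈ B)) ∨
    ((∀ a ∈ A, (g : MM) *ᵥ a ∈ B) ∧ (∀ b ∈ B, (g : MM) *ᵥ b ∈ A)) := by
  have hAun : ∀ a ∈ A, (g : MM) *ᵥ a ∈ A ∨ (g : MM) *ᵥ a ∈ B := by
    intro a ha
    obtain ⟨b₀, hb₀, hb₀0, hba, -, -⟩ := h.symm.ker3 hk a 0 0
    have hab : hf a b₀ = 0 := herm_eq_zero_symm hF _ _ hba
    obtain ⟨h1, h2⟩ := hg a ha b₀ hb₀ hab
    rcases h1 with h1 | h1
    · exact Or.inr h1
    · rcases h2 with h2 | h2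
      · exact Or.inl h2
      · exfalso
        exact gl_mulVec_ne_zero g b₀ hb₀0 (h.inter hF _ h2 h1)
  have hBun : ∀ b ∈ B, (g : MM) *ᵥ b ∈ A ∨ (g : MM) *ᵥ b ∈ B := by
    intro b hb
    obtain ⟨a₀, ha₀, ha₀0, hab, -, -⟩ := h.ker3 hk b 0 0
    obtain ⟨h1, h2⟩ := hg a₀ ha₀ b hb hab
    rcases h1 with h1 | h1
    · rcases h2 with h2 | h2
      · exfalso
        exact gl_mulVec_ne_zero g a₀ ha₀0 (h.inter hF _ h2 h1)
      · exact Or.inl h2
    · exact Or.inr h1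
  rcases union_sub_gl A g hAun with hA1 | hA1
  · rcases union_sub_gl B g hBun with hB1 | hB1
    · exact (h.not_both hF hk g hA1 hB1).elim
    · exact Or.inl ⟨hA1, hB1⟩
  · rcases union_sub_gl B g hBun with hB1 | hB1
    · exact Or.inr ⟨hA1, hB1⟩
    · exact (h.symm.not_both hF hk g hB1 hA1).elim

end ulagB

end Cfsg.Agent.helper29
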