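import Mathlib
import Cfsg.Agent.Lib_helper29_UForm
import Cfsg.Agent.Lib_helper29_ULagB

set_option autoImplicit false
set_option linter.unusedSectionVars false
set_option linter.unusedVariables false

namespace Cfsg.Agent.helper29

open Matrix Cfsg Cfsg.Agent.helper11.HermCount Cfsg.Agent.helper11.Unitary

section uperp

variable {F : Type*} [Field F] [Fintype F] {q n : ℕ}

local notation "hf" => Cfsg.hermForm n F q
local notation "VV" => (Fin n → F)
local notation "MM" => Matrix (Fin n) (Fin n) F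

theorem hermHermF (hF : Fintype.card F = q ^ 2) : HermF q (Cfsg.hermForm n F q) :=
  ⟨herm_add_left, fun c x v => herm_smul_left c x v, fun v w => (herm_conj hF w v).symm⟩

/-- orthogonal projection to a nondegenerate subspace -/
theorem exists_proj (hF : Fintype.card F = q ^ 2) (W : Submodule F VV) (hN : NDeg q W) (v : VV) :
    ∃ w ∈ W, v - w ∈ perpS q (W : Set VV) := by
  obtain ⟨b, hbW, hb⟩ := (hermHermF hF).exists_orthonormal hF _ W rfl hN
  have hli : LinearIndependent F b := by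
    rw [linearIndependent_iff']
    intro s c hc i hi
    have := congrArg (fun x => hf x (b i)) hc
    simp only [herm_sum_left, herm_smul_left, hb, herm_zero_left] at this
    simpa [Finset.sum_ite_eq', hi] using this
  have hspan : Submodule.span F (Set.range b) = W := by
    apply Submodule.eq_of_le_of_finrank_eq
    · rw [Submodule.span_le]
      rintro _ ⟨i, rfl⟩
      exact hbW i
    · rw [finrank_span_eq_card hli, Fintype.card_fin]
  refine ⟨∑ i, hf v (b i) • b i, W.sum_mem (fun i _ => W.smul_mem _ (hbW i)), ?_⟩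
  have key : ∀ s ∈ Submodule.span F (Set.range b), hf (v - ∑ i, hf v (b i) • b i) s = 0 := by
    intro s hs'
    induction hs' using Submodule.span_induction with
    | mem x hx =>
      obtain ⟨j, rfl⟩ := hx
      rw [herm_sub_left, herm_sum_left]
      simp [herm_smul_left, hb]
    | zero => exact herm_zero_right hF _
    | add x y _ _ hx hy => rw [herm_add_right hF, hx, hy, add_zero]
    | smul c x _ hx => rw [herm_smul_right, hx, mul_zero]
  intro s hs
  exact key s (by rw [hspan]; exact hs)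

theorem inf_perp (W : Submodule F VV) (hN : NDeg q W) : W ⊓ perpS q (W : Set VV) = ⊥ := by
  rw [eq_bot_iff]
  intro u hu
  rw [Submodule.mem_bot]
  exact hN u hu.1 (fun v hv => hu.2 v hv)

theorem sup_perp (hF : Fintype.card F = q ^ 2) (W : Submodule F VV) (hN : NDeg q W) :
    W ⊔ perpS q (W : Set VV) = ⊤ := by
  rw [eq_top_iff]
  intro v _
  obtain ⟨w, hw, hvw⟩ := exists_proj hF W hN v
  have : v = w + (v - w) := by abel
  rw [this]
  exact Submodule.add_mem_sup hw hvw

theorem finrank_perp (hF : Fintype.card F = q ^ 2) (W : Submodule F VV) (hN : NDeg q W) :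
    Module.finrank F W + Module.finrank F (perpS q (W : Set VV) : Submodule F VV) = n := by
  have := Submodule.finrank_sup_add_finrank_inf_eq W (perpS q (W : Set VV))
  rw [sup_perp hF W hN, inf_perp W hN, finrank_top, finrank_bot, Module.finrank_fin_fun] at this
  omega

theorem ndeg_perp (hF : Fintype.card F = q ^ 2) (W : Submodule F VV) (hN : NDeg q W) :
    NDeg q (perpS q (W : Set VV)) := by
  intro u hu h
  apply ndeg_top hF u trivial
  intro v _
  obtain ⟨w, hw, hvw⟩ := exists_proj hF W hN v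
  have : v = w + (v - w) := by abel
  rw [this, herm_add_right hF, hu w hw, h _ hvw, add_zero]

theorem perp_perp (hF : Fintype.card F = q ^ 2) (W : Submodule F VV) (hN : NDeg q W) (v : VV)
    (hv : ∀ u ∈ perpS q (W : Set VV), hf v u = 0) : v ∈ W := by
  obtain ⟨w, hw, hvw⟩ := exists_proj hF W hN v
  have h0 : v - w = 0 := by
    apply ndeg_perp hF W hN _ hvw
    intro u hu
    rw [herm_sub_left, hv u hu, herm_eq_zero_symm hF _ _ (hu w hw), sub_zero]
  rw [sub_eq_zero.mp h0]
  exact hw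

theorem norm_to_pair (hF : Fintype.card F = q ^ 2) (U : Submodule F VV) (hN : NDeg q U)
    (h2 : 2 ≤ Module.finrank F U) (u : VV) (huU : u ∈ U) (hu0 : hf u u ≠ 0)
    (l₀ : F) (hl₀ : l₀ + l₀ ^ q = hf u u) :
    ∃ x₁ ∈ U, ∃ y₁ ∈ U, hf x₁ x₁ = 0 ∧ hf y₁ y₁ = 0 ∧ hf x₁ y₁ = 1 ∧ u = x₁ + l₀ • y₁ := by
  have hw0 : u ≠ 0 := by
    intro h; rw [h, herm_zero_left] at hu0; exact hu0 rfl
  obtain ⟨p, hpU, hpp, hpw⟩ := exists_iso_pairing hF U hN h2 u huU hw0
  have hwp : hf u p ≠ 0 := fun h => hpw (herm_eq_zero_symm hF _ _ h)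
  obtain ⟨y₁, hy₁def⟩ : ∃ y₁ : VV, y₁ = (((hf u p)⁻¹) ^ q) • p := ⟨_, rfl⟩
  have hy₁U : y₁ ∈ U := by rw [hy₁def]; exact U.smul_mem _ hpU
  have hwy₁ : hf u y₁ = 1 := by
    rw [hy₁def, herm_smul_right, pow_q_q hF, inv_mul_cancel₀ hwp]
  have hy₁w : hf y₁ u = 1 := herm_yx_of_xy hF _ _ hwy₁
  have hy₁y₁ : hf y₁ y₁ = 0 := by rw [hy₁def, herm_smul_smul, hpp, mul_zero]
  refine ⟨u - l₀ • y₁, U.sub_mem huU (U.smul_mem _ hy₁U), y₁, hy₁U, ?_, hy₁y₁, ?_, by abel⟩
  · rw [herm_sub_left, herm_sub_right hF, herm_sub_right hF, herm_smul_left, herm_smul_left,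
      herm_smul_right, herm_smul_right, hwy₁, hy₁w, hy₁y₁]
    linear_combination -hl₀
  · rw [herm_sub_left, herm_smul_left, hwy₁, hy₁y₁]; ring

/-- transitivity on vectors of a given nonzero norm -/
theorem norm_trans (hF : Fintype.card F = q ^ 2) (U : Submodule F VV) (hN : NDeg q U)
    (h4 : 4 ≤ Module.finrank F U) (u u' : VV) (huU : u ∈ U) (hu'U : u' ∈ U)
    (hu0 : hf u u ≠ 0) (heq : hf u' u' = hf u u) :
    ∃ t ∈ TUin q U, (t : MM) *ᵥ u = u' := by
  obtain ⟨l₀, hl₀⟩ := exists_trace hF (hf u u) (herm_conj hF u u)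
  obtain ⟨x₁, hx₁U, y₁, hy₁U, hx₁, hy₁, hx₁y₁, hu⟩ :=
    norm_to_pair hF U hN (by omega) u huU hu0 l₀ hl₀
  obtain ⟨x₂, hx₂U, y₂, hy₂U, hx₂, hy₂, hx₂y₂, hu'⟩ :=
    norm_to_pair hF U hN (by omega) u' hu'U (by rw [heq]; exact hu0) l₀ (by rw [heq]; exact hl₀)
  obtain ⟨t, ht, h1, h2⟩ := Hpair hF U hN h4 x₂ y₂ x₁ y₁ hx₂U hy₂U hx₁U hy₁U hx₂ hy₂ hx₂y₂
    hx₁ hy₁ hx₁y₁
  exact ⟨t, ht, by rw [hu, hu', Matrix.mulVec_add, Matrix.mulVec_smul, h1, h2]⟩

/-- isotropic vectors avoid two proper subspaces -/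
theorem exists_iso_avoid (hF : Fintype.card F = q ^ 2) (U : Submodule F VV) (hN : NDeg q U)
    (h2 : 2 ≤ Module.finrank F U) (S S' : Submodule F VV) (hS : ¬ U ≤ S) (hS' : ¬ U ≤ S') :
    ∃ x ∈ U, hf x x = 0 ∧ x ∉ S ∧ x ∉ S' := by
  have key : ∀ T : Submodule F VV, ¬ U ≤ T → ∃ a ∈ U, hf a a = 0 ∧ a ∉ T := by
    intro T hT
    by_contra hcon
    push Not at hcon
    apply hT
    intro u hu
    exact iso_span_induction hF U hN h2 (fun u => u ∈ T) (fun a b ha hb => T.add_mem ha hb)
      hcon u hu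
  obtain ⟨a, haU, haa, haS⟩ := key S hS
  by_cases haS' : a ∈ S'
  · obtain ⟨b, hbU, hbb, hbS'⟩ := key S' hS'
    by_cases hbS : b ∈ S
    · by_cases hab : hf a b = 0
      · refine ⟨a + b, U.add_mem haU hbU, ?_, ?_, ?_⟩
        · have := iso_add_smul hF a b 1 haa hbb hab
          rwa [one_smul] at this
        · intro h
          exact haS (by have := S.sub_mem h hbS; rwa [add_sub_cancel_right] at this)
        · intro h
          exact hbS' (by have := S'.sub_mem h haS'; rwa [add_sub_cancel_left] at this)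
      · obtain ⟨ε, hε0, hε⟩ := exists_eps hF
        obtain ⟨l, hl⟩ : ∃ l : F, l = (ε / hf a b) ^ q := ⟨_, rfl⟩
        have hlq : l ^ q = ε / hf a b := by rw [hl, pow_q_q hF]
        have hl0 : l ≠ 0 := by rw [hl]; exact pow_ne_zero _ (div_ne_zero hε0 hab)
        refine ⟨a + l • b, U.add_mem haU (U.smul_mem _ hbU), ?_, ?_, ?_⟩
        · have hba : hf b a = (hf a b) ^ q := (herm_conj hF a b).symm
          have h1 : ε / hf a b * hf a b = ε := div_mul_cancel₀ _ hab
          have h2' : l * (hf a b) ^ q = ε ^ q := by rw [hl, ← mul_pow, h1]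
          simp only [herm_add_left, herm_add_right hF, herm_smul_left, herm_smul_right, haa, hbb,
            hlq, hba]
          linear_combination h1 + h2' + hε
        · intro h
          exact haS (by
            have := S.sub_mem h (S.smul_mem l hbS); rwa [add_sub_cancel_right] at this)
        · intro h
          have h1 := S'.sub_mem h haS'
          rw [add_sub_cancel_left] at h1
          have := S'.smul_mem l⁻¹ h1
          rw [smul_smul, inv_mul_cancel₀ hl0, one_smul] at this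
          exact hbS' this
    · exact ⟨b, hbU, hbb, hbS, hbS'⟩
  · exact ⟨a, haU, haa, haS, haS'⟩

/-- a nondegenerate subspace all of whose isotropic vectors are transvection centres of `M` -/
def GoodU (q : ℕ) (M : Subgroup (GL (Fin n) F)) (P : Submodule F (Fin n → F)) : Prop :=
  NDeg q P ∧ 4 ≤ Module.finrank F P ∧ ∀ z ∈ P, Cfsg.hermForm n F q z z = 0 → XXu q M z

theorem good_TUin (M : Subgroup (GL (Fin n) F)) (P : Submodule F VV) (hG : GoodU q M P) :
    TUin q P ≤ M := by
  unfold TUin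
  rw [Subgroup.closure_le]
  rintro _ ⟨z, c, hzP, hz, hc, rfl⟩
  exact hG.2.2 z hzP hz c hc

/-- extension lemma -/
theorem good_extend (hF : Fintype.card F = q ^ 2) (M : Subgroup (GL (Fin n) F))
    (P : Submodule F VV) (hG : GoodU q M P) (p w : VV) (hp : p ∈ P)
    (hw : w ∈ perpS q (P : Set VV)) (hww : hf w w ≠ 0) (hv : hf (p + w) (p + w) = 0)
    (hX : XXu q M (p + w)) :
    GoodU q M (P ⊔ Submodule.span F {w}) ∧
      Module.finrank F (P ⊔ Submodule.span F {w} : Submodule F VV) = Module.finrank F P + 1 := by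
  obtain ⟨hNP, h4, hiso⟩ := hG
  have hwP : ∀ u ∈ P, hf w u = 0 := hw
  have hPw : ∀ u ∈ P, hf u w = 0 := fun u hu => herm_eq_zero_symm hF _ _ (hw u hu)
  have hw0 : w ≠ 0 := by
    intro h; rw [h, herm_zero_left] at hww; exact hww rfl
  have hpp : hf p p = - hf w w := by
    rw [herm_add_left, herm_add_right hF, herm_add_right hF, hPw p hp, hwP p hp] at hv
    linear_combination hv
  have hpp0 : hf p p ≠ 0 := by rw [hpp]; exact neg_ne_zero.mpr hww
  have hmem : ∀ z ∈ (P ⊔ Submodule.span F {w} : Submodule F VV), ∃ p₁ ∈ P, ∃ a : F,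
      z = p₁ + a • w := by
    intro z hz
    obtain ⟨p₁, hp₁, y, hy, rfl⟩ := Submodule.mem_sup.mp hz
    obtain ⟨a, rfl⟩ := Submodule.mem_span_singleton.mp hy
    exact ⟨p₁, hp₁, a, rfl⟩
  have hwmem : w ∈ (P ⊔ Submodule.span F {w} : Submodule F VV) :=
    (le_sup_right : Submodule.span F {w} ≤ _) (Submodule.mem_span_singleton_self w)
  have hPle : P ≤ (P ⊔ Submodule.span F {w} : Submodule F VV) := le_sup_left
  refine ⟨⟨?_, ?_, ?_⟩, ?_⟩
  · intro z hz hall
    obtain ⟨p₁, hp₁, a, rfl⟩ := hmem z hz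
    have hp₁0 : p₁ = 0 := by
      apply hNP p₁ hp₁
      intro p' hp'
      have := hall p' (hPle hp')
      rw [herm_add_left, herm_smul_left, hwP p' hp', mul_zero, add_zero] at this
      exact this
    have ha0 : a = 0 := by
      have := hall w hwmem
      rw [hp₁0, zero_add, herm_smul_left] at this
      exact (mul_eq_zero.mp this).resolve_right hww
    rw [hp₁0, ha0, zero_smul, add_zero]
  · exact le_trans h4 (Submodule.finrank_mono hPle)
  · intro z hz hzz
    obtain ⟨p₁, hp₁, a, rfl⟩ := hmem z hz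
    by_cases ha : a = 0
    · rw [ha, zero_smul, add_zero] at hzz ⊢
      exact hiso p₁ hp₁ hzz
    · obtain ⟨p₂, hp₂def⟩ : ∃ p₂ : VV, p₂ = a⁻¹ • p₁ := ⟨_, rfl⟩
      have hp₂P : p₂ ∈ P := by rw [hp₂def]; exact P.smul_mem _ hp₁
      have hz' : p₁ + a • w = a • (p₂ + w) := by
        rw [hp₂def, smul_add, smul_smul, mul_inv_cancel₀ ha, one_smul]
      rw [hz'] at hzz ⊢
      rw [herm_smul_smul] at hzz
      have hzz' : hf (p₂ + w) (p₂ + w) = 0 := by
        rcases mul_eq_zero.mp hzz with h | h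
        · exfalso
          rcases mul_eq_zero.mp h with h' | h'
          · exact ha h'
          · exact ha (pow_eq_zero_iff (q_ne_zero hF) |>.mp h')
        · exact h
      have hp₂p₂ : hf p₂ p₂ = hf p p := by
        rw [herm_add_left, herm_add_right hF, herm_add_right hF, hPw p₂ hp₂P, hwP p₂ hp₂P] at hzz'
        rw [hpp]
        linear_combination hzz'
      obtain ⟨t, ht, htp⟩ := norm_trans hF P hNP h4 p p₂ hp hp₂P hpp0 hp₂p₂
      have htM : t ∈ M := good_TUin M P ⟨hNP, h4, hiso⟩ ht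
      have htGU : t ∈ Cfsg.GU n F q := (Subgroup.mem_inf.mp (TUin_le_SUG hF P ht)).1
      have htw : (t : MM) *ᵥ w = w := TUin_fix P t ht w hwP
      have h1 := XXu_conj M t htM htGU (p + w) hv hX
      rw [Matrix.mulVec_add, htp, htw] at h1
      exact XXu_smul hF M _ hzz' h1 a
  · have hinf : P ⊓ Submodule.span F {w} = ⊥ := by
      rw [eq_bot_iff]
      intro z hz
      rw [Submodule.mem_bot]
      obtain ⟨hzP, hzw⟩ := hz
      obtain ⟨a, rfl⟩ := Submodule.mem_span_singleton.mp hzw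
      apply hNP _ hzP
      intro u hu
      rw [herm_smul_left, hwP u hu, mul_zero]
    have := Submodule.finrank_sup_add_finrank_inf_eq P (Submodule.span F {w})
    rw [hinf, finrank_bot, finrank_span_singleton hw0] at this
    omega

end uperp

end Cfsg.Agent.helper29
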