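import Cfsg.Statements.S0774
import Mathlib
-- import your own Cfsg.Agent.* helpers here

set_option autoImplicit false
open Cfsg

namespace Cfsg.Agent.S0774

open Matrix

section general

lemma mem_of_forward {H : Type*} [Group H] {ι : Type} [Fintype ι] [DecidableEq ι] {F : Type*}
    [CommRing F] [Finite F] (toMat : H →* Matrix ι ι F) (S : Set (ι → F)) (h : H)
    (hf : ∀ v ∈ S, toMat h *ᵥ v ∈ S) : h ∈ Cfsg.stabilizing toMat S := by
  have hinj : Function.Injective (fun v : ι → F => toMat h *ᵥ v) := by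
    intro v w hvw
    have := congrArg (fun u => toMat h⁻¹ *ᵥ u) hvw
    simpa [Matrix.mulVec_mulVec, ← map_mul] using this
  intro v
  constructor
  · exact hf v
  · intro hgv
    let ψ : S → S := fun w => ⟨_, hf w.1 w.2⟩
    have hψ : Function.Injective ψ := by
      intro a b hab
      apply Subtype.ext
      apply hinj
      exact congrArg Subtype.val hab
    have hsurj : Function.Surjective ψ := Finite.injective_iff_surjective.mp hψ
    obtain ⟨w, hw⟩ := hsurj ⟨_, hgv⟩
    have h1 : toMat h *ᵥ w.1 = toMat h *ᵥ v := congrArg Subtype.val hw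
    rw [← hinj h1]; exact w.2

end general

variable {F : Type*} [Field F]

/-- the flag subspaces -/
def Wk (m : ℕ) (k : Fin m) : Set (Fin m ⊕ Fin m → F) :=
  {v | (∀ i : Fin m, (k : ℕ) < (i : ℕ) → v (Sum.inl i) = 0) ∧ ∀ i : Fin m, v (Sum.inr i) = 0}

lemma borel_iff [Finite F] (m : ℕ) (A : Matrix.symplecticGroup (Fin m) F) :
    A ∈ (⨅ k : Fin m, Cfsg.stabilizing (Cfsg.spToMat m F) (Wk (F := F) m k)) ↔
      (∀ i j : Fin m, (A : Matrix (Fin m ⊕ Fin m) (Fin m ⊕ Fin m) F) (Sum.inr i) (Sum.inl j) = 0) ∧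
      (∀ i j : Fin m, j < i →
        (A : Matrix (Fin m ⊕ Fin m) (Fin m ⊕ Fin m) F) (Sum.inl i) (Sum.inl j) = 0) := by
  classical
  rw [Subgroup.mem_iInf]
  constructor
  · intro h
    have key : ∀ j : Fin m, (A : Matrix (Fin m ⊕ Fin m) (Fin m ⊕ Fin m) F) *ᵥ
        (Pi.single (Sum.inl j) 1) ∈ Wk (F := F) m j := by
      intro j
      refine ((h j) _).mp ⟨?_, ?_⟩
      · intro i hi
        have : i ≠ j := by intro e; rw [e] at hi; omega
        simp [this]
      · intro i; simp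
    constructor
    · intro i j
      have := (key j).2 i
      simpa using this
    · intro i j hji
      have := (key j).1 i hji
      simpa using this
  · rintro ⟨h1, h2⟩ k
    apply mem_of_forward
    intro v hv
    constructor
    · intro i hi
      show ((A : Matrix (Fin m ⊕ Fin m) (Fin m ⊕ Fin m) F) *ᵥ v) (Sum.inl i) = 0
      simp only [Matrix.mulVec, dotProduct, Fintype.sum_sum_type]
      have e1 : ∀ j : Fin m, (A : Matrix (Fin m ⊕ Fin m) (Fin m ⊕ Fin m) F) (Sum.inl i) (Sum.inl j) *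
          v (Sum.inl j) = 0 := by
        intro j
        by_cases hj : (k : ℕ) < (j : ℕ)
        · rw [hv.1 j hj, mul_zero]
        · rw [h2 i j (by rw [Fin.lt_def]; omega), zero_mul]
      have e2 : ∀ j : Fin m, (A : Matrix (Fin m ⊕ Fin m) (Fin m ⊕ Fin m) F) (Sum.inl i) (Sum.inr j) *
          v (Sum.inr j) = 0 := by
        intro j; rw [hv.2 j, mul_zero]
      simp [e1, e2]
    · intro i
      show ((A : Matrix (Fin m ⊕ Fin m) (Fin m ⊕ Fin m) F) *ᵥ v) (Sum.inr i) = 0
      simp only [Matrix.mulVec, dotProduct, Fintype.sum_sum_type]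
      have e1 : ∀ j : Fin m, (A : Matrix (Fin m ⊕ Fin m) (Fin m ⊕ Fin m) F) (Sum.inr i) (Sum.inl j) *
          v (Sum.inl j) = 0 := by
        intro j; rw [h1 i j, zero_mul]
      have e2 : ∀ j : Fin m, (A : Matrix (Fin m ⊕ Fin m) (Fin m ⊕ Fin m) F) (Sum.inr i) (Sum.inr j) *
          v (Sum.inr j) = 0 := by
        intro j; rw [hv.2 j, mul_zero]
      simp [e1, e2]

lemma block_symp (m : ℕ) (P B Q : Matrix (Fin m) (Fin m) F) :
    (Matrix.fromBlocks P B 0 Q) * Matrix.J (Fin m) F * (Matrix.fromBlocks P B 0 Q)ᵀ =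
      Matrix.fromBlocks (B * Pᵀ - P * Bᵀ) (-(P * Qᵀ)) (Q * Pᵀ) 0 := by
  unfold Matrix.J
  rw [Matrix.fromBlocks_transpose, Matrix.fromBlocks_multiply, Matrix.fromBlocks_multiply]
  congr 1 <;> simp [sub_eq_add_neg]

lemma block_mem_iff (m : ℕ) (P B Q : Matrix (Fin m) (Fin m) F) :
    Matrix.fromBlocks P B 0 Q ∈ Matrix.symplecticGroup (Fin m) F ↔
      B * Pᵀ = P * Bᵀ ∧ P * Qᵀ = 1 := by
  rw [SymplecticGroup.mem_iff, block_symp]
  unfold Matrix.J
  rw [Matrix.fromBlocks_inj]
  constructor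
  · rintro ⟨h1, h2, -, -⟩
    exact ⟨sub_eq_zero.mp h1, neg_injective h2⟩
  · rintro ⟨h1, h2⟩
    refine ⟨sub_eq_zero.mpr h1, by rw [h2], ?_, rfl⟩
    rw [← Matrix.transpose_one, ← h2, Matrix.transpose_mul, Matrix.transpose_transpose]

/-- the P-matrix from (M,d) -/
def Pm (m : ℕ) (M : Matrix (Fin m) (Fin m) F) (d : Fin m → Fˣ) : Matrix (Fin m) (Fin m) F :=
  fun i j => if i < j then M i j else if i = j then (d i : F) else 0

/-- the S matrix -/
def Sm (m : ℕ) (M : Matrix (Fin m) (Fin m) F) : Matrix (Fin m) (Fin m) F :=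
  fun i j => if j ≤ i then M i j else M j i

omit [Field F] in
lemma Sm_symm (m : ℕ) (M : Matrix (Fin m) (Fin m) F) : (Sm m M)ᵀ = Sm m M := by
  ext i j
  simp only [Sm, Matrix.transpose_apply]
  by_cases h1 : i ≤ j
  · by_cases h2 : j ≤ i
    · have : i = j := le_antisymm h1 h2
      subst this; simp
    · simp [h1, h2]
  · have h2 : j ≤ i := le_of_lt (not_le.mp h1)
    simp [h1, h2]

lemma Pm_upper (m : ℕ) (M : Matrix (Fin m) (Fin m) F) (d : Fin m → Fˣ) :
    (Pm m M d).BlockTriangular id := by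
  intro i j hji
  have hji' : j < i := hji
  simp only [Pm]
  rw [if_neg (not_lt.mpr hji'.le), if_neg (ne_of_gt hji')]

lemma Pm_det (m : ℕ) (M : Matrix (Fin m) (Fin m) F) (d : Fin m → Fˣ) :
    IsUnit (Pm m M d).det := by
  rw [Matrix.det_of_isUpperTriangular (Pm_upper m M d)]
  have : ∀ i, Pm m M d i i = (d i : F) := by intro i; simp [Pm]
  simp only [this]
  rw [isUnit_iff_ne_zero]
  exact Finset.prod_ne_zero_iff.mpr (fun i _ => (d i).ne_zero)

/-- the big matrix -/
noncomputable def Amat (m : ℕ) (M : Matrix (Fin m) (Fin m) F) (d : Fin m → Fˣ) :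
    Matrix (Fin m ⊕ Fin m) (Fin m ⊕ Fin m) F :=
  Matrix.fromBlocks (Pm m M d) (Sm m M * ((Pm m M d)⁻¹)ᵀ) 0 (((Pm m M d)⁻¹)ᵀ)

lemma Amat_mem (m : ℕ) (M : Matrix (Fin m) (Fin m) F) (d : Fin m → Fˣ) :
    Amat m M d ∈ Matrix.symplecticGroup (Fin m) F := by
  unfold Amat
  rw [block_mem_iff]
  have hP := Pm_det m M d
  have h1 : Pm m M d * (Pm m M d)⁻¹ = 1 := Matrix.mul_nonsing_inv _ hP
  have h2 : (Pm m M d)⁻¹ * Pm m M d = 1 := Matrix.nonsing_inv_mul _ hP
  refine ⟨?_, ?_⟩
  · rw [Matrix.mul_assoc, ← Matrix.transpose_mul, h1, Matrix.transpose_one, Matrix.mul_one,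
      Matrix.transpose_mul, Matrix.transpose_transpose, ← Matrix.mul_assoc, h1, Matrix.one_mul,
      Sm_symm]
  · rw [Matrix.transpose_transpose, h1]

lemma Amat_borel [Finite F] (m : ℕ) (M : Matrix (Fin m) (Fin m) F) (d : Fin m → Fˣ) :
    (⟨Amat m M d, Amat_mem m M d⟩ : Matrix.symplecticGroup (Fin m) F) ∈
      (⨅ k : Fin m, Cfsg.stabilizing (Cfsg.spToMat m F) (Wk (F := F) m k)) := by
  rw [borel_iff]
  constructor
  · intro i j; simp [Amat]
  · intro i j hji
    simp only [Amat, Matrix.fromBlocks_apply₁₁]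
    exact Pm_upper m M d hji

lemma Amat_inj (m : ℕ) (M M' : Matrix (Fin m) (Fin m) F) (d d' : Fin m → Fˣ)
    (h : Amat m M d = Amat m M' d') : M = M' ∧ d = d' := by
  unfold Amat at h
  obtain ⟨hP, hB, -, hQ⟩ := Matrix.fromBlocks_inj.mp h
  have hdet := Pm_det m M d
  have h2 : Pm m M d * (Pm m M d)⁻¹ = 1 := Matrix.mul_nonsing_inv _ hdet
  have hS : Sm m M = Sm m M' := by
    rw [← hQ] at hB
    have := congrArg (fun X => X * (Pm m M d)ᵀ) hB
    simp only [Matrix.mul_assoc] at this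
    rw [← Matrix.transpose_mul, h2, Matrix.transpose_one, Matrix.mul_one, Matrix.mul_one] at this
    exact this
  constructor
  · ext i j
    by_cases hij : i < j
    · have := congrFun (congrFun hP i) j
      simpa [Pm, hij] using this
    · have hji : j ≤ i := not_lt.mp hij
      have := congrFun (congrFun hS i) j
      simpa [Sm, hji] using this
  · funext i
    have := congrFun (congrFun hP i) i
    apply Units.ext
    simpa [Pm] using this

lemma surj_aux [Finite F] (m : ℕ) (A : Matrix.symplecticGroup (Fin m) F)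
    (hA : A ∈ (⨅ k : Fin m, Cfsg.stabilizing (Cfsg.spToMat m F) (Wk (F := F) m k))) :
    ∃ (M : Matrix (Fin m) (Fin m) F) (d : Fin m → Fˣ),
      Amat m M d = (A : Matrix (Fin m ⊕ Fin m) (Fin m ⊕ Fin m) F) := by
  classical
  rw [borel_iff] at hA
  obtain ⟨h21, hup⟩ := hA
  obtain ⟨A, hAmem⟩ := A
  simp only at h21 hup ⊢
  have hA' : A = Matrix.fromBlocks A.toBlocks₁₁ A.toBlocks₁₂ 0 A.toBlocks₂₂ := by
    conv_lhs => rw [← Matrix.fromBlocks_toBlocks A]
    congr 1
    ext i j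
    exact h21 i j
  generalize A.toBlocks₁₁ = P at hA'
  generalize A.toBlocks₁₂ = B at hA'
  generalize A.toBlocks₂₂ = Q at hA'
  subst hA'
  have hup' : ∀ i j : Fin m, j < i → P i j = 0 := by
    intro i j hji
    have := hup i j hji
    simpa using this
  rw [block_mem_iff] at hAmem
  obtain ⟨e1, e2⟩ := hAmem
  have hPup : P.IsUpperTriangular := fun i j hji => hup' i j hji
  have hdet : IsUnit P.det := by
    have := congrArg Matrix.det e2
    rw [Matrix.det_mul, Matrix.det_one] at this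
    exact IsUnit.of_mul_eq_one _ this
  have hdiag : ∀ i, P i i ≠ 0 := by
    rw [Matrix.det_of_isUpperTriangular hPup] at hdet
    intro i
    exact Finset.prod_ne_zero_iff.mp hdet.ne_zero i (Finset.mem_univ i)
  have hS : (B * Pᵀ)ᵀ = B * Pᵀ := by
    rw [Matrix.transpose_mul, Matrix.transpose_transpose]; exact e1.symm
  refine ⟨fun i j => if i < j then P i j else (B * Pᵀ) i j, fun i => Units.mk0 (P i i) (hdiag i), ?_⟩
  have hPm : Pm m (fun i j => if i < j then P i j else (B * Pᵀ) i j)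
      (fun i => Units.mk0 (P i i) (hdiag i)) = P := by
    ext i j
    simp only [Pm]
    by_cases h1 : i < j
    · simp [h1]
    · by_cases h2 : i = j
      · subst h2; simp
      · have : j < i := lt_of_le_of_ne (not_lt.mp h1) (Ne.symm h2)
        simp [h1, h2, hup' i j this]
  have hSm : Sm m (fun i j => if i < j then P i j else (B * Pᵀ) i j) = B * Pᵀ := by
    ext i j
    simp only [Sm]
    by_cases h1 : j ≤ i
    · simp [h1, not_lt.mpr h1]
    · have h2 : i < j := not_le.mp h1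
      have h3 := congrFun (congrFun hS i) j
      rw [Matrix.transpose_apply] at h3
      simp [h1, not_lt.mpr h2.le, h3]
  have hinv : P⁻¹ = Qᵀ := Matrix.inv_eq_right_inv e2
  unfold Amat
  rw [hPm, hSm, hinv, Matrix.transpose_transpose]
  congr 1
  have e3 : Qᵀ * P = 1 := _root_.mul_eq_one_comm.mp e2
  rw [Matrix.mul_assoc]
  have : Pᵀ * Q = 1 := by
    rw [← Matrix.transpose_one, ← e3, Matrix.transpose_mul, Matrix.transpose_transpose]
  rw [this, Matrix.mul_one]

/-- Borel subgroup of the symplectic group: the elements of Sp_2m(q) stabilising each of the totally isotropic coordinate subspaces ⟨e_0, ..., e_k⟩ (k < m) form a subgroup of order q^(m²) (q − 1)^m. -/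
theorem result {F : Type*} [Field F] [Fintype F] {q : ℕ} (hF : Fintype.card F = q) (m : ℕ) : Nat.card ↥(⨅ k : Fin m, Cfsg.stabilizing (Cfsg.spToMat m F) {v : Fin m ⊕ Fin m → F | (∀ i : Fin m, (k : ℕ) < (i : ℕ) → v (Sum.inl i) = 0) ∧ ∀ i : Fin m, v (Sum.inr i) = 0}) = q ^ (m ^ 2) * (q - 1) ^ m := by
  classical
  change Nat.card ↥(⨅ k : Fin m, Cfsg.stabilizing (Cfsg.spToMat m F) (Wk (F := F) m k)) = _
  let Φ : (Matrix (Fin m) (Fin m) F × (Fin m → Fˣ)) →
      ↥(⨅ k : Fin m, Cfsg.stabilizing (Cfsg.spToMat m F) (Wk (F := F) m k)) :=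
    fun x => ⟨⟨Amat m x.1 x.2, Amat_mem m x.1 x.2⟩, Amat_borel m x.1 x.2⟩
  have hinj : Function.Injective Φ := by
    rintro ⟨M, d⟩ ⟨M', d'⟩ h
    have h' : Amat m M d = Amat m M' d' := congrArg (fun x => x.1.1) h
    obtain ⟨h1, h2⟩ := Amat_inj m M M' d d' h'
    rw [h1, h2]
  have hsurj : Function.Surjective Φ := by
    rintro ⟨A, hA⟩
    obtain ⟨M, d, h⟩ := surj_aux m A hA
    exact ⟨(M, d), Subtype.ext (Subtype.ext h)⟩
  rw [← Nat.card_congr (Equiv.ofBijective Φ ⟨hinj, hsurj⟩), Nat.card_prod]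
  have h1 : Nat.card (Matrix (Fin m) (Fin m) F) = q ^ (m ^ 2) := by
    unfold Matrix
    rw [Nat.card_fun, Nat.card_fun, Nat.card_eq_fintype_card, Nat.card_eq_fintype_card, hF,
      Fintype.card_fin, ← pow_mul, pow_two]
  have h2 : Nat.card (Fin m → Fˣ) = (q - 1) ^ m := by
    rw [Nat.card_fun, Nat.card_eq_fintype_card, Nat.card_eq_fintype_card, Fintype.card_units, hF,
      Fintype.card_fin]
  rw [h1, h2]

end Cfsg.Agent.S0774
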