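import Mathlib
import Cfsg.Agent.Lib_helper29_UPerp
import Cfsg.Agent.S0774

set_option autoImplicit false
set_option linter.unusedSectionVars false
set_option linter.unusedVariables false

namespace Cfsg.Agent.helper29

open Matrix Cfsg Cfsg.Agent.helper11.HermCount Cfsg.Agent.helper11.Unitary

section undeg

variable {F : Type*} [Field F] [Fintype F] {q n : ℕ}

local notation "hf" => Cfsg.hermForm n F q
local notation "VV" => (Fin n → F)
local notation "MM" => Matrix (Fin n) (Fin n) F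

theorem stabW_of_fwd (W : Submodule F VV) (g : GL (Fin n) F)
    (h : ∀ v ∈ W, (g : MM) *ᵥ v ∈ W) : g ∈ Cfsg.Geo.subspaceStabilizer W :=
  Cfsg.Agent.S0774.mem_of_forward (Cfsg.glToMat (Fin n) F) (W : Set VV) g h

theorem stabW_fwd (W : Submodule F VV) (g : GL (Fin n) F)
    (hg : g ∈ Cfsg.Geo.subspaceStabilizer W) (v : VV) (hv : v ∈ W) : (g : MM) *ᵥ v ∈ W :=
  (hg v).mp hv

theorem TTu_mem_stabW (hF : Fintype.card F = q ^ 2) (W : Submodule F VV) (z : VV) (c : F)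
    (hz : hf z z = 0) (hzW : z ∈ W ∨ z ∈ perpS q (W : Set VV)) :
    (TTu q z c : GL (Fin n) F) ∈ Cfsg.Geo.subspaceStabilizer W := by
  apply stabW_of_fwd
  intro v hv
  rw [TTu_mulVec z c hz]
  rcases hzW with h | h
  · exact W.add_mem hv (W.smul_mem _ h)
  · rw [herm_eq_zero_symm hF _ _ (h v hv), mul_zero, zero_smul, add_zero]; exact hv

theorem exists_norm_vec (hF : Fintype.card F = q ^ 2) (U : Submodule F VV) (hN : NDeg q U)
    (h2 : 2 ≤ Module.finrank F U) (b : F) (hb : b ^ q = b) : ∃ u ∈ U, hf u u = b := by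
  obtain ⟨x, hxU, y, hyU, hxx, hyy, hxy⟩ := exists_hyp_pair hF U hN h2
  have hyx := herm_yx_of_xy hF x y hxy
  obtain ⟨μ, hμ⟩ := exists_trace hF b hb
  refine ⟨x + μ • y, U.add_mem hxU (U.smul_mem _ hyU), ?_⟩
  simp only [herm_add_left, herm_add_right hF, herm_smul_left, herm_smul_right, hxx, hyy, hxy, hyx]
  linear_combination hμ

theorem bad_to_good (hF : Fintype.card F = q ^ 2) (W : Submodule F VV) (hNW : NDeg q W)
    (M : Subgroup (GL (Fin n) F)) (hM : M ≤ Cfsg.GU n F q)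
    (hTW : ∀ z : VV, (z ∈ W ∨ z ∈ perpS q (W : Set VV)) → hf z z = 0 → XXu q M z)
    (h3 : 3 ≤ Module.finrank F (perpS q (W : Set VV) : Submodule F VV))
    (u w : VV) (huU : u ∈ perpS q (W : Set VV)) (hwW : w ∈ W) (hu0 : u ≠ 0) (hw0 : w ≠ 0)
    (huu : hf u u = 0) (hww : hf w w = 0) (hX : XXu q M (u + w)) :
    ∃ p ∈ perpS q (W : Set VV), ∃ w' ∈ W, hf w' w' ≠ 0 ∧ hf (p + w') (p + w') = 0 ∧
      XXu q M (p + w') := by
  have hNU := ndeg_perp hF W hNW
  have hcross : ∀ a ∈ perpS q (W : Set VV), ∀ b ∈ W, hf a b = 0 := fun a ha b hb => ha b hb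
  have hcross' : ∀ a ∈ perpS q (W : Set VV), ∀ b ∈ W, hf b a = 0 :=
    fun a ha b hb => herm_eq_zero_symm hF _ _ (ha b hb)
  obtain ⟨w₂, hw₂W, hw₂w₂, hww₂⟩ := exists_partner_u hF W hNW w hwW hw0 hww
  obtain ⟨u₂, hu₂U, hu₂u₂, huu₂⟩ := exists_partner_u hF _ hNU u huU hu0 huu
  have hw₂w := herm_yx_of_xy hF w w₂ hww₂
  have hu₂u := herm_yx_of_xy hF u u₂ huu₂
  have hiso : ∀ u' ∈ perpS q (W : Set VV), ∀ w' ∈ W, hf u' u' = 0 → hf w' w' = 0 →
      hf (u' + w') (u' + w') = 0 := by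
    intro u' hu' w' hw' h1 h2
    rw [herm_add_left, herm_add_right hF, herm_add_right hF, h1, h2, hcross u' hu' w' hw',
      hcross' u' hu' w' hw']
    ring
  have hTU : TUin q (perpS q (W : Set VV)) ≤ M := by
    unfold TUin
    rw [Subgroup.closure_le]
    rintro _ ⟨z, c, hzU, hz, hc, rfl⟩
    exact hTW z (Or.inr hzU) hz c hc
  -- step A
  have stepA : ∀ u' ∈ perpS q (W : Set VV), hf u' u' = 0 → u' ≠ 0 → XXu q M (u' + w) := by
    intro u' hu'U hu'u' hu'0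
    obtain ⟨t, ht, htu⟩ := H1 hF _ hNU h3 u u' huU hu'U huu hu'u' hu0 hu'0
    have htM := hTU ht
    have htw : (t : MM) *ᵥ w = w := TUin_fix _ t ht w (fun a ha => hcross' a ha w hwW)
    have := XXu_conj M t htM (hM htM) (u + w) (hiso u huU w hwW huu hww) hX
    rwa [Matrix.mulVec_add, htu, htw] at this
  -- step B
  have stepB : ∀ u' ∈ perpS q (W : Set VV), hf u' u' = 0 → u' ≠ 0 → ∀ a : F, a ≠ 0 →
      XXu q M (u' + a • w) := by
    intro u' hu'U hu'u' hu'0 a ha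
    have h1 := stepA (a⁻¹ • u') (Submodule.smul_mem _ _ hu'U)
      (by rw [herm_smul_smul, hu'u', mul_zero]) (smul_ne_zero (inv_ne_zero ha) hu'0)
    have h2 := XXu_smul hF M _ (hiso _ (Submodule.smul_mem _ _ hu'U) w hwW
      (by rw [herm_smul_smul, hu'u', mul_zero]) hww) h1 a
    rwa [smul_add, smul_smul, mul_inv_cancel₀ ha, one_smul] at h2
  obtain ⟨ε, hε0, hε⟩ := exists_eps hF
  -- step C
  obtain ⟨zs, hzs⟩ : ∃ zs : VV, zs = w + ε • w₂ := ⟨_, rfl⟩
  have hzsW : zs ∈ W := by rw [hzs]; exact W.add_mem hwW (W.smul_mem _ hw₂W)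
  have hzszs : hf zs zs = 0 := by
    rw [hzs]
    simp only [herm_add_left, herm_add_right hF, herm_smul_left, herm_smul_right, hww, hw₂w₂,
      hww₂, hw₂w, hε]
    ring
  have hεi : (ε⁻¹) ^ q = -ε⁻¹ := by rw [inv_pow, hε, inv_neg]
  have hsM : (TTu q zs ε⁻¹ : GL (Fin n) F) ∈ M := hTW zs (Or.inl hzsW) hzszs _ hεi
  have stepC : ∀ u' ∈ perpS q (W : Set VV), hf u' u' = 0 → u' ≠ 0 → ∀ a : F, a ≠ 0 →
      XXu q M (u' + a • w₂) := by
    intro u' hu'U hu'u' hu'0 a ha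
    have h1 := stepB u' hu'U hu'u' hu'0 (-(a / ε)) (neg_ne_zero.mpr (div_ne_zero ha hε0))
    have h2 := XXu_conj M _ hsM (hM hsM) _ (hiso u' hu'U _ (W.smul_mem _ hwW) hu'u'
      (by rw [herm_smul_smul, hww, mul_zero])) h1
    rw [TTu_mulVec zs _ hzszs] at h2
    have e1 : hf (u' + -(a / ε) • w) zs = -(a / ε) * ε ^ q := by
      rw [hzs]
      simp only [herm_add_left, herm_add_right hF, herm_smul_left, herm_smul_right, hww, hww₂,
        hcross u' hu'U w hwW, hcross u' hu'U w₂ hw₂W]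
      ring
    rw [e1, hε] at h2
    have e2 : u' + -(a / ε) • w + (ε⁻¹ * (-(a / ε) * -ε)) • zs = u' + a • w₂ := by
      rw [hzs]
      have : ε⁻¹ * (-(a / ε) * -ε) = a / ε := by field_simp
      rw [this, smul_add, smul_smul, div_mul_cancel₀ _ hε0]
      module
    rwa [e2] at h2
  -- step D
  obtain ⟨l, hl⟩ := exists_trace hF (1 : F) (one_pow q)
  have hl0 : l ≠ 0 := by
    intro h0; rw [h0, zero_pow (q_ne_zero hF), add_zero] at hl; exact zero_ne_one hl
  obtain ⟨β, hβ⟩ : ∃ β : F, β = ε - l ^ q := ⟨_, rfl⟩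
  have hβ0 : β ≠ 0 := by
    intro h0
    rw [h0] at hβ
    have h1 : ε = l ^ q := by linear_combination -hβ
    have h2 : l ^ q + l = 0 := by
      have := hε
      rw [h1, pow_q_q hF] at this
      linear_combination this
    rw [add_comm] at h2
    rw [h2] at hl
    exact zero_ne_one hl
  have hu₂0 : u₂ ≠ 0 := by
    intro h0; rw [h0, herm_zero_right hF] at huu₂; exact zero_ne_one huu₂
  have hZ := stepC (β ^ q • u₂) (Submodule.smul_mem _ _ hu₂U)
    (by rw [herm_smul_smul, hu₂u₂, mul_zero]) (smul_ne_zero (pow_ne_zero _ hβ0) hu₂0) l hl0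
  have hxz : hf (u + w) (β ^ q • u₂ + l • w₂) = ε := by
    simp only [herm_add_left, herm_add_right hF, herm_smul_right, huu₂, hww₂,
      hcross u huU w₂ hw₂W, hcross' u₂ hu₂U w hwW, pow_q_q hF]
    rw [hβ]; ring
  have hisoZ : hf (β ^ q • u₂ + l • w₂) (β ^ q • u₂ + l • w₂) = 0 :=
    hiso _ (Submodule.smul_mem _ _ hu₂U) _ (W.smul_mem _ hw₂W)
      (by rw [herm_smul_smul, hu₂u₂, mul_zero]) (by rw [herm_smul_smul, hw₂w₂, mul_zero])
  have hadd := XXu_add hF M hM (u + w) (β ^ q • u₂ + l • w₂) (hiso u huU w hwW huu hww) hisoZ hX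
    hZ (by rw [hxz]; exact hε) (by rw [hxz]; exact hε0)
  have e3 : u + w + (β ^ q • u₂ + l • w₂) = (u + β ^ q • u₂) + (w + l • w₂) := by abel
  rw [e3] at hadd
  refine ⟨u + β ^ q • u₂, Submodule.add_mem _ huU (Submodule.smul_mem _ _ hu₂U), w + l • w₂,
    W.add_mem hwW (W.smul_mem _ hw₂W), ?_, ?_, hadd⟩
  · simp only [herm_add_left, herm_add_right hF, herm_smul_left, herm_smul_right, hww, hw₂w₂,
      hww₂, hw₂w]
    intro h
    have : l + l ^ q = 0 := by linear_combination h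
    rw [this] at hl
    exact zero_ne_one hl
  · rw [← e3]
    have hzx : hf (β ^ q • u₂ + l • w₂) (u + w) = ε ^ q := by rw [← hxz, herm_conj hF]
    have hXX : hf (u + w) (u + w) = 0 := hiso u huU w hwW huu hww
    obtain ⟨X, hXd⟩ : ∃ X : VV, X = u + w := ⟨_, rfl⟩
    obtain ⟨Z, hZd⟩ : ∃ Z : VV, Z = β ^ q • u₂ + l • w₂ := ⟨_, rfl⟩
    rw [← hXd] at hxz hzx hXX
    rw [← hZd] at hxz hzx hisoZ
    rw [← hXd, ← hZd]
    rw [herm_add_left, herm_add_right hF, herm_add_right hF, hXX, hisoZ, hxz, hzx, hε]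
    ring

theorem thmNdeg (hF : Fintype.card F = q ^ 2) (hn : 13 ≤ n) (W : Submodule F VV) (hW0 : W ≠ ⊥)
    (hNW : NDeg q W) (hdim : 2 * Module.finrank F W < n) (M : Subgroup (GL (Fin n) F))
    (hHM : Cfsg.Geo.subspaceStabilizer W ⊓ SUG n F q ≤ M) (hMle : M ≤ SUG n F q) :
    M = Cfsg.Geo.subspaceStabilizer W ⊓ SUG n F q ∨ M = SUG n F q := by
  by_cases hle : M ≤ Cfsg.Geo.subspaceStabilizer W ⊓ SUG n F q
  · left; exact le_antisymm hle hHM
  right
  apply le_antisymm hMle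
  have hMGU : M ≤ Cfsg.GU n F q := fun g hg => (Subgroup.mem_inf.mp (hMle hg)).1
  have hNU := ndeg_perp hF W hNW
  have hfr := finrank_perp hF W hNW
  have hWpos : 0 < Module.finrank F W := by
    rw [Nat.pos_iff_ne_zero]
    intro h0
    exact hW0 (Submodule.finrank_eq_zero.mp h0)
  have hcross : ∀ a ∈ perpS q (W : Set VV), ∀ b ∈ W, hf a b = 0 := fun a ha b hb => ha b hb
  have hcross' : ∀ a ∈ perpS q (W : Set VV), ∀ b ∈ W, hf b a = 0 :=
    fun a ha b hb => herm_eq_zero_symm hF _ _ (ha b hb)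
  have hTW : ∀ z : VV, (z ∈ W ∨ z ∈ perpS q (W : Set VV)) → hf z z = 0 → XXu q M z := by
    intro z hz hzz c hc
    exact hHM ⟨TTu_mem_stabW hF W z c hzz hz, TTu_mem_SUG hF z c hzz hc⟩
  have hGU : GoodU q M (perpS q (W : Set VV)) :=
    ⟨hNU, by omega, fun z hz hzz => hTW z (Or.inr hz) hzz⟩
  obtain ⟨g, hgM, hgH⟩ := SetLike.not_le_iff_exists.mp hle
  have hgS := hMle hgM
  have hgGU := (Subgroup.mem_inf.mp hgS).1
  have hgW : g ∉ Cfsg.Geo.subspaceStabilizer W := fun h => hgH ⟨h, hgS⟩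
  have hS : ¬ perpS q (W : Set VV) ≤ (perpS q (W : Set VV)).comap (Matrix.toLin' (g : MM)) := by
    intro hle'
    apply hgW
    have hfwd : ∀ u ∈ perpS q (W : Set VV), (g : MM) *ᵥ u ∈ perpS q (W : Set VV) := by
      intro u hu
      have := hle' hu
      rwa [Submodule.mem_comap, Matrix.toLin'_apply] at this
    have hstU := Cfsg.Agent.S0774.mem_of_forward (Cfsg.glToMat (Fin n) F)
      ((perpS q (W : Set VV) : Submodule F VV) : Set VV) g hfwd
    apply stabW_of_fwd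
    intro w hw
    apply perp_perp hF W hNW
    intro u hu
    have hu' : ((g⁻¹ : GL (Fin n) F) : MM) *ᵥ u ∈ perpS q (W : Set VV) :=
      (hstU _).mpr (show (g : MM) *ᵥ (((g⁻¹ : GL (Fin n) F) : MM) *ᵥ u) ∈ perpS q (W : Set VV) by
        rw [gl_mulVec_inv]; exact hu)
    have : hf ((g : MM) *ᵥ w) u = hf w (((g⁻¹ : GL (Fin n) F) : MM) *ᵥ u) := by
      conv_lhs => rw [← gl_mulVec_inv g u]
      exact gu_herm g hgGU _ _
    rw [this]
    exact hcross' _ hu' w hw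
  have hS' : ¬ perpS q (W : Set VV) ≤ W.comap (Matrix.toLin' (g : MM)) := by
    intro hle'
    have h1 : (perpS q (W : Set VV)).map (Matrix.toLin' (g : MM)) ≤ W := by
      rintro _ ⟨u, hu, rfl⟩
      exact hle' hu
    have h2 := Submodule.finrank_mono h1
    rw [← (Submodule.equivMapOfInjective _ (gl_toLin_inj g) (perpS q (W : Set VV))).finrank_eq]
      at h2
    omega
  obtain ⟨x, hxU, hxx, hxS, hxS'⟩ := exists_iso_avoid hF _ hNU (by omega) _ _ hS hS'
  rw [Submodule.mem_comap, Matrix.toLin'_apply] at hxS hxS'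
  have hXv : XXu q M ((g : MM) *ᵥ x) := XXu_conj M g hgM hgGU x hxx (hTW x (Or.inr hxU) hxx)
  have hvv : hf ((g : MM) *ᵥ x) ((g : MM) *ᵥ x) = 0 := by rw [gu_herm g hgGU, hxx]
  obtain ⟨w, hwW, hpU⟩ := exists_proj hF W hNW ((g : MM) *ᵥ x)
  obtain ⟨p, hp⟩ : ∃ p : VV, p = (g : MM) *ᵥ x - w := ⟨_, rfl⟩
  rw [← hp] at hpU
  have hv : (g : MM) *ᵥ x = p + w := by rw [hp]; abel
  have hw0 : w ≠ 0 := by
    intro h0; apply hxS; rw [hv, h0, add_zero]; exact hpU
  have hp0 : p ≠ 0 := by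
    intro h0; apply hxS'; rw [hv, h0, zero_add]; exact hwW
  rw [hv] at hXv hvv
  have hgood : ∃ p₁ ∈ perpS q (W : Set VV), ∃ w₁ ∈ W, hf w₁ w₁ ≠ 0 ∧
      hf (p₁ + w₁) (p₁ + w₁) = 0 ∧ XXu q M (p₁ + w₁) := by
    by_cases hww : hf w w = 0
    · have hpp : hf p p = 0 := by
        rw [herm_add_left, herm_add_right hF, herm_add_right hF, hcross p hpU w hwW,
          hcross' p hpU w hwW, hww] at hvv
        linear_combination hvv
      exact bad_to_good hF W hNW M hMGU hTW (by omega) p w hpU hwW hp0 hw0 hpp hww hXv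
    · exact ⟨p, hpU, w, hwW, hww, hvv, hXv⟩
  obtain ⟨p₁, hp₁U, w₁, hw₁W, hw₁w₁, hiso₁, hX₁⟩ := hgood
  have hw₁perp : w₁ ∈ perpS q (((perpS q (W : Set VV)) : Submodule F VV) : Set VV) :=
    fun u hu => hcross' u hu w₁ hw₁W
  obtain ⟨hG1, hfr1⟩ := good_extend hF M _ hGU p₁ w₁ hp₁U hw₁perp hw₁w₁ hiso₁ hX₁
  have chain : ∀ (j : ℕ) (P : Submodule F VV), GoodU q M P → perpS q (W : Set VV) ≤ P → w₁ ∈ P →
      Module.finrank F P + j = n → SUG n F q ≤ M := by
    intro j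
    induction j with
    | zero =>
      intro P hG hUP hw₁P hfrP
      have hPtop : P = ⊤ := by
        apply Submodule.eq_top_of_finrank_eq
        rw [Module.finrank_fin_fun]; omega
      rw [hPtop] at hG
      exact le_trans (SUG_le_TU hF (by omega)) (good_TUin M ⊤ hG)
    | succ j ih =>
      intro P hG hUP hw₁P hfrP
      have hNP := hG.1
      have hNR := ndeg_perp hF P hNP
      have hfrR := finrank_perp hF P hNP
      have hRne : perpS q (P : Set VV) ≠ ⊥ := by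
        intro h0; rw [h0, finrank_bot] at hfrR; omega
      obtain ⟨r, hrR, hrr⟩ := exists_nonisotropic hF _ hNR hRne
      have hrP : ∀ s ∈ P, hf r s = 0 := hrR
      have hPr : ∀ s ∈ P, hf s r = 0 := fun s hs => herm_eq_zero_symm hF _ _ (hrR s hs)
      have hrW : r ∈ W := by
        apply perp_perp hF W hNW
        intro u hu
        exact hrP u (hUP hu)
      have hd : (-(hf r r) / hf w₁ w₁) ^ q = -(hf r r) / hf w₁ w₁ := by
        rw [div_pow, neg_pow_q' hF, herm_conj hF, herm_conj hF]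
      have hd0 : -(hf r r) / hf w₁ w₁ ≠ 0 := div_ne_zero (neg_ne_zero.mpr hrr) hw₁w₁
      obtain ⟨l, hl⟩ := exists_norm hF _ hd hd0
      have hl0 : l ≠ 0 := by
        intro h0; rw [h0, zero_mul] at hl; exact hd0 hl.symm
      obtain ⟨u₀, hu₀U, hu₀⟩ := exists_norm_vec hF _ hNU (by omega) (-(hf w₁ w₁))
        (by rw [neg_pow_q' hF, herm_conj hF])
      obtain ⟨ε, hε0, hε⟩ := exists_eps hF
      obtain ⟨z, hzdef⟩ : ∃ z : VV, z = l • w₁ + r := ⟨_, rfl⟩
      have hzW : z ∈ W := by rw [hzdef]; exact W.add_mem (W.smul_mem _ hw₁W) hrW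
      have hw₁r : hf w₁ r = 0 := hPr w₁ hw₁P
      have hrw₁ : hf r w₁ = 0 := hrP w₁ hw₁P
      have hzz : hf z z = 0 := by
        rw [hzdef]
        simp only [herm_add_left, herm_add_right hF, herm_smul_left, herm_smul_right, hw₁r, hrw₁]
        have : l * l ^ q * hf w₁ w₁ = -(hf r r) := by rw [hl]; field_simp
        linear_combination this
      obtain ⟨y, hydef⟩ : ∃ y : VV, y = w₁ + u₀ := ⟨_, rfl⟩
      have hyP : y ∈ P := by rw [hydef]; exact P.add_mem hw₁P (hUP hu₀U)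
      have hyy : hf y y = 0 := by
        rw [hydef]
        simp only [herm_add_left, herm_add_right hF, hcross u₀ hu₀U w₁ hw₁W,
          hcross' u₀ hu₀U w₁ hw₁W, hu₀]
        ring
      have hXy : XXu q M y := hG.2.2 y hyP hyy
      have hyz : hf y z = l ^ q * hf w₁ w₁ := by
        rw [hydef, hzdef]
        simp only [herm_add_left, herm_add_right hF, herm_smul_right, hw₁r,
          hcross u₀ hu₀U w₁ hw₁W, hcross u₀ hu₀U r hrW]
        ring
      have htM : (TTu q z ε : GL (Fin n) F) ∈ M := hTW z (Or.inl hzW) hzz ε hε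
      have htGU := hMGU htM
      have hX2 := XXu_conj M _ htM htGU y hyy hXy
      have hiso2' := gu_herm _ htGU y y
      rw [TTu_mulVec z ε hzz, hyz] at hX2 hiso2'
      obtain ⟨κ, hκ⟩ : ∃ κ : F, κ = ε * (l ^ q * hf w₁ w₁) := ⟨_, rfl⟩
      rw [← hκ] at hX2 hiso2'
      have hκ0 : κ ≠ 0 := by
        rw [hκ]; exact mul_ne_zero hε0 (mul_ne_zero (pow_ne_zero _ hl0) hw₁w₁)
      have e : y + κ • z = (y + (κ * l) • w₁) + κ • r := by rw [hzdef]; module
      rw [e] at hX2 hiso2'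
      rw [hyy] at hiso2'
      have hp₂P : y + (κ * l) • w₁ ∈ P := P.add_mem hyP (P.smul_mem _ hw₁P)
      have hw₂R : κ • r ∈ perpS q (P : Set VV) := Submodule.smul_mem _ _ hrR
      have hw₂w₂ : hf (κ • r) (κ • r) ≠ 0 := by
        rw [herm_smul_smul]
        exact mul_ne_zero (mul_ne_zero hκ0 (pow_ne_zero _ hκ0)) hrr
      obtain ⟨hG2, hfr2⟩ := good_extend hF M P hG _ _ hp₂P hw₂R hw₂w₂ hiso2' hX2
      exact ih _ hG2 (le_trans hUP le_sup_left) ((le_sup_left : P ≤ _) hw₁P) (by omega)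
  have hw₁P1 : w₁ ∈ (perpS q (W : Set VV) ⊔ Submodule.span F {w₁} : Submodule F VV) :=
    (le_sup_right : Submodule.span F {w₁} ≤ _) (Submodule.mem_span_singleton_self w₁)
  exact chain (n - (Module.finrank F (perpS q (W : Set VV) : Submodule F VV) + 1)) _ hG1
    le_sup_left hw₁P1 (by omega)

theorem stabW_ndeg_lt (hF : Fintype.card F = q ^ 2) (hn : 13 ≤ n) (W : Submodule F VV)
    (hW0 : W ≠ ⊥) (hNW : NDeg q W) (hdim : 2 * Module.finrank F W < n) :
    Cfsg.Geo.subspaceStabilizer W ⊓ SUG n F q < SUG n F q := by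
  apply lt_of_le_of_ne inf_le_right
  intro heq
  have hNU := ndeg_perp hF W hNW
  have hfr := finrank_perp hF W hNW
  obtain ⟨w₁, hw₁W, hw₁w₁⟩ := exists_nonisotropic hF W hNW hW0
  obtain ⟨u₀, hu₀U, hu₀⟩ := exists_norm_vec hF _ hNU (by omega) (-(hf w₁ w₁))
    (by rw [neg_pow_q' hF, herm_conj hF])
  obtain ⟨ε, hε0, hε⟩ := exists_eps hF
  have hc1 : hf u₀ w₁ = 0 := hu₀U w₁ hw₁W
  have hc2 : hf w₁ u₀ = 0 := herm_eq_zero_symm hF _ _ hc1
  have hzz : hf (w₁ + u₀) (w₁ + u₀) = 0 := by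
    simp only [herm_add_left, herm_add_right hF, hc1, hc2, hu₀]
    ring
  have ht : (TTu q (w₁ + u₀) ε : GL (Fin n) F) ∈ SUG n F q := TTu_mem_SUG hF _ _ hzz hε
  rw [← heq] at ht
  have h1 := stabW_fwd W _ ht.1 w₁ hw₁W
  rw [TTu_mulVec _ _ hzz, herm_add_right hF, hc2, add_zero] at h1
  have hc0 : ε * hf w₁ w₁ ≠ 0 := mul_ne_zero hε0 hw₁w₁
  have h2 : (ε * hf w₁ w₁) • u₀ ∈ W := by
    have e : (ε * hf w₁ w₁) • u₀ = (w₁ + (ε * hf w₁ w₁) • (w₁ + u₀)) - w₁ -
        (ε * hf w₁ w₁) • w₁ := by module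
    rw [e]
    exact W.sub_mem (W.sub_mem h1 hw₁W) (W.smul_mem _ hw₁W)
  have h3 : u₀ ∈ W := by
    have := W.smul_mem (ε * hf w₁ w₁)⁻¹ h2
    rwa [smul_smul, inv_mul_cancel₀ hc0, one_smul] at this
  have h4 : u₀ = 0 := hNW u₀ h3 (fun v hv => hu₀U v hv)
  rw [h4, herm_zero_left] at hu₀
  exact hw₁w₁ (by linear_combination hu₀)

end undeg

end Cfsg.Agent.helper29
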