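import Mathlib
import Cfsg.Agent.Lib_helper29_UNdeg

set_option autoImplicit false
set_option linter.unusedSectionVars false
set_option linter.unusedVariables false
namespace Cfsg.Agent.helper29
open Matrix Cfsg Cfsg.Agent.helper11.HermCount Cfsg.Agent.helper11.Unitary

variable {F : Type*} [Field F] [Fintype F] {q n : ℕ}

local notation "hf" => Cfsg.hermForm n F q
local notation "VV" => (Fin n → F)
local notation "MM" => Matrix (Fin n) (Fin n) F

theorem finrank_perp_gen (hF : Fintype.card F = q ^ 2) (W : Submodule F VV) :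
    Module.finrank F W + Module.finrank F (perpS q (W : Set VV) : Submodule F VV) = n := by
  classical
  let b := Module.finBasis F W
  let Φ : VV →ₗ[F] (Fin (Module.finrank F W) → F) :=
    LinearMap.pi (fun i => hermL q ((b i : W) : VV))
  have hΦ : ∀ v i, Φ v i = hf v ((b i : W) : VV) := fun v i => rfl
  have hker : LinearMap.ker Φ = perpS q (W : Set VV) := by
    ext v
    rw [LinearMap.mem_ker, mem_perpS]
    constructor
    · intro h w hw
      have hw' : w = ∑ i, (b.repr ⟨w, hw⟩ i) • ((b i : W) : VV) := by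
        have := b.sum_repr ⟨w, hw⟩
        have h2 := congrArg (Subtype.val) this
        rw [Submodule.coe_sum] at h2
        simp only [Submodule.coe_smul] at h2
        exact h2.symm
      rw [hw', (hermHermF hF).sum_right hF]
      apply Finset.sum_eq_zero
      intro i _
      have := congrFun h i
      rw [hΦ] at this
      rw [this, Pi.zero_apply, mul_zero]
    · intro h
      funext i
      rw [hΦ]
      exact h _ (b i).2
  have hrange : LinearMap.range Φ = ⊤ := by
    by_contra hne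
    obtain ⟨f, hf0, hle⟩ := Submodule.exists_le_ker_of_lt_top _ (lt_top_iff_ne_top.mpr hne)
    have h1 : ∀ v, f (Φ v) = 0 := fun v => LinearMap.mem_ker.mp (hle ⟨v, rfl⟩)
    obtain ⟨c, hc⟩ : ∃ c : Fin (Module.finrank F W) → F,
        c = fun i => f (fun j => if i = j then 1 else 0) := ⟨_, rfl⟩
    have hfc : ∀ r, f r = ∑ i, r i * c i := fun r => by
      rw [LinearMap.pi_apply_eq_sum_univ f r, hc]
      simp [smul_eq_mul]
    have h2 : ∀ v, hf v (∑ i, (c i) ^ q • ((b i : W) : VV)) = 0 := by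
      intro v
      rw [(hermHermF hF).sum_right hF]
      have := h1 v
      rw [hfc] at this
      rw [← this]
      apply Finset.sum_congr rfl
      intro i _
      rw [pow_q_q hF, hΦ, mul_comm]
    have h3 : (∑ i, (c i) ^ q • ((b i : W) : VV)) = 0 :=
      ndeg_top hF _ trivial (fun v _ => herm_eq_zero_symm hF _ _ (h2 v))
    have hli : LinearIndependent F (fun i => ((b i : W) : VV)) :=
      b.linearIndependent.map' W.subtype (Submodule.ker_subtype W)
    have h4 : ∀ i, (c i) ^ q = 0 := fun i => Fintype.linearIndependent_iff.mp hli _ h3 i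
    apply hf0
    apply LinearMap.ext
    intro r
    rw [hfc]
    apply Finset.sum_eq_zero
    intro i _
    rw [(pow_eq_zero_iff (q_ne_zero hF)).mp (h4 i), mul_zero]
  have h1 := LinearMap.finrank_range_add_finrank_ker Φ
  rw [hrange, finrank_top, Module.finrank_fin_fun, hker, Module.finrank_fin_fun] at h1
  exact h1

theorem perp_perp_gen (hF : Fintype.card F = q ^ 2) (W : Submodule F VV) (x : VV)
    (hx : ∀ u ∈ perpS q (W : Set VV), hf x u = 0) : x ∈ W := by
  have hle : W ≤ perpS q ((perpS q (W : Set VV) : Submodule F VV) : Set VV) := by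
    intro w hw u hu
    exact herm_eq_zero_symm hF _ _ (hu w hw)
  have h1 := finrank_perp_gen hF W
  have h2 := finrank_perp_gen hF (perpS q (W : Set VV))
  have heq : W = perpS q ((perpS q (W : Set VV) : Submodule F VV) : Set VV) :=
    Submodule.eq_of_le_of_finrank_eq hle (by omega)
  rw [heq]
  exact hx

/-- moving an isotropic vector `y` with `hf y a = 1` by a root element of the parabolic -/
theorem para_move (hF : Fintype.card F = q ^ 2) (M : Subgroup (GL (Fin n) F))
    (hM : M ≤ Cfsg.GU n F q) (a : VV) (haa : hf a a = 0)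
    (hEE : ∀ b : VV, hf b b = 0 → hf a b = 0 → ∀ s l : F, s ^ q = -s →
      (EE3 q a b s l : GL (Fin n) F) ∈ M)
    (y : VV) (hyy : hf y y = 0) (hya : hf y a = 1) (hX : XXu q M y)
    (b : VV) (hbb : hf b b = 0) (hab : hf a b = 0) (μ : F) :
    XXu q M (y + μ • b + (-(μ ^ q) * hf y b) • a) ∧
      hf (y + μ • b + (-(μ ^ q) * hf y b) • a) (y + μ • b + (-(μ ^ q) * hf y b) • a) = 0 := by
  obtain ⟨ε, hε0, hε⟩ := exists_eps hF
  have hmem := hEE b hbb hab ε (μ / ε) hε
  have hG := hM hmem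
  have h1 := XXu_conj M _ hmem hG y hyy hX
  have h2 := gu_herm _ hG y y
  rw [EE3_mulVec hF a b ε (μ / ε) haa hbb hab, hya] at h1 h2
  have e1 : ε * (μ / ε) ^ q * hf y b = -(μ ^ q) * hf y b := by
    rw [div_pow, hε]; field_simp
  have e2 : ε * (μ / ε) * 1 = μ := by field_simp
  rw [e1, e2] at h1 h2
  have e3 : y + (-(μ ^ q) * hf y b) • a + μ • b = y + μ • b + (-(μ ^ q) * hf y b) • a := by abel
  rw [e3] at h1 h2
  rw [hyy] at h2
  exact ⟨h1, h2⟩

theorem thmPara (hF : Fintype.card F = q ^ 2) (hn : 4 ≤ n) (W : Submodule F VV) (hW0 : W ≠ ⊥)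
    (hW : ∀ u ∈ W, ∀ v ∈ W, hf u v = 0) (M : Subgroup (GL (Fin n) F))
    (hHM : Cfsg.Geo.subspaceStabilizer W ⊓ SUG n F q ≤ M) (hMle : M ≤ SUG n F q) :
    M = Cfsg.Geo.subspaceStabilizer W ⊓ SUG n F q ∨ M = SUG n F q := by
  by_cases hle : M ≤ Cfsg.Geo.subspaceStabilizer W ⊓ SUG n F q
  · left; exact le_antisymm hle hHM
  right
  apply le_antisymm hMle
  have hMGU : M ≤ Cfsg.GU n F q := fun g hg => (Subgroup.mem_inf.mp (hMle hg)).1
  have hWA : ∀ w ∈ W, w ∈ perpS q (W : Set VV) := fun w hw v hv => hW w hw v hv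
  -- Fact 1
  have hTA : ∀ z ∈ perpS q (W : Set VV), hf z z = 0 → XXu q M z := by
    intro z hz hzz c hc
    exact hHM ⟨TTu_mem_stabW hF W z c hzz (Or.inr hz), TTu_mem_SUG hF z c hzz hc⟩
  -- Fact 2
  have hEEW : ∀ a ∈ W, ∀ b : VV, hf b b = 0 → hf a b = 0 → ∀ s l : F, s ^ q = -s →
      (EE3 q a b s l : GL (Fin n) F) ∈ M := by
    intro a haW b hbb hab s l hs
    have haa := hW a haW a haW
    refine hHM ⟨?_, EE3_mem_SUG hF a b s l haa hbb hab hs⟩
    apply stabW_of_fwd
    intro v hv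
    rw [EE3_mulVec hF a b s l haa hbb hab, hW v hv a haW, mul_zero, zero_smul, add_zero]
    exact W.add_mem hv (W.smul_mem _ haW)
  -- Claim 1
  have hclaim : ∃ y : VV, hf y y = 0 ∧ XXu q M y ∧ y ∉ perpS q (W : Set VV) := by
    by_contra hcon
    push Not at hcon
    apply hle
    intro g hgM
    refine ⟨?_, hMle hgM⟩
    have hgGU := hMGU hgM
    apply stabW_of_fwd
    intro w hw
    have hww := hW w hw w hw
    have hXw := hTA w (hWA w hw) hww
    have hxx : hf ((g : MM) *ᵥ w) ((g : MM) *ᵥ w) = 0 := by rw [gu_herm g hgGU, hww]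
    have hXx := XXu_conj M g hgM hgGU w hww hXw
    have hxA := hcon _ hxx hXx
    obtain ⟨x, hxdef⟩ : ∃ x : VV, x = (g : MM) *ᵥ w := ⟨_, rfl⟩
    rw [← hxdef] at hxx hXx hxA ⊢
    apply perp_perp_gen hF W x
    intro a' ha'
    by_contra hne
    have hd : (-(hf a' a')) ^ q = -(hf a' a') := by rw [neg_pow_q' hF, herm_conj hF]
    obtain ⟨ν, hν⟩ := exists_trace hF _ hd
    obtain ⟨z, hzdef⟩ : ∃ z : VV, z = a' + (ν / hf x a') • x := ⟨_, rfl⟩
    have hzA : z ∈ perpS q (W : Set VV) := by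
      rw [hzdef]; exact Submodule.add_mem _ ha' (Submodule.smul_mem _ _ hxA)
    have ha'x : hf a' x = (hf x a') ^ q := (herm_conj hF x a').symm
    have hzz : hf z z = 0 := by
      rw [hzdef]
      simp only [herm_add_left, herm_add_right hF, herm_smul_left, herm_smul_right, hxx, ha'x]
      have e1 : (ν / hf x a') * hf x a' = ν := div_mul_cancel₀ _ hne
      have e2 : (ν / hf x a') ^ q * (hf x a') ^ q = ν ^ q := by rw [← mul_pow, e1]
      linear_combination hν + e1 + e2
    have hxz : hf x z = hf x a' := by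
      rw [hzdef, herm_add_right hF, herm_smul_right, hxx, mul_zero, add_zero]
    have hXz := hTA z hzA hzz
    have hginv := M.inv_mem hgM
    have hXz' := XXu_conj M g⁻¹ hginv (hMGU hginv) z hzz hXz
    have hz'z' : hf (((g⁻¹ : GL (Fin n) F) : MM) *ᵥ z) (((g⁻¹ : GL (Fin n) F) : MM) *ᵥ z) = 0 := by
      rw [gu_herm _ (hMGU hginv), hzz]
    have hz'A := hcon _ hz'z' hXz'
    have h0 := hz'A w hw
    rw [gu_herm_inv g hgGU, ← hxdef] at h0
    apply hne
    rw [← hxz]
    exact herm_eq_zero_symm hF _ _ h0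
  obtain ⟨y₁, hy₁y₁, hXy₁, hy₁A⟩ := hclaim
  have hex : ∃ a₀ ∈ W, hf y₁ a₀ ≠ 0 := by
    by_contra h
    push Not at h
    exact hy₁A (fun w hw => h w hw)
  obtain ⟨a, haW, hy₁a⟩ := hex
  have haa := hW a haW a haW
  have ha0 : a ≠ 0 := by
    intro h0; rw [h0, herm_zero_right hF] at hy₁a; exact hy₁a rfl
  obtain ⟨y₀, hy₀def⟩ : ∃ y₀ : VV, y₀ = (hf y₁ a)⁻¹ • y₁ := ⟨_, rfl⟩
  have hy₀y₀ : hf y₀ y₀ = 0 := by rw [hy₀def, herm_smul_smul, hy₁y₁, mul_zero]
  have hXy₀ : XXu q M y₀ := by rw [hy₀def]; exact XXu_smul hF M y₁ hy₁y₁ hXy₁ _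
  have hy₀a : hf y₀ a = 1 := by rw [hy₀def, herm_smul_left, inv_mul_cancel₀ hy₁a]
  have hay₀ : hf a y₀ = 1 := herm_yx_of_xy hF y₀ a hy₀a
  have hEE := hEEW a haW
  have hXa : XXu q M a := hTA a (hWA a haW) haa
  -- Step 4, normalised
  have step4n : ∀ v : VV, hf v v = 0 → hf v a = 1 → XXu q M v := by
    intro v hvv hva
    obtain ⟨κ, hκdef⟩ : ∃ κ : F, κ = hf (v - y₀) y₀ := ⟨_, rfl⟩
    obtain ⟨l, hldef⟩ : ∃ l : VV, l = v - y₀ - κ • a := ⟨_, rfl⟩
    have hua : hf (v - y₀) a = 0 := by rw [herm_sub_left, hva, hy₀a, sub_self]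
    have hlP : l ∈ perpS q ({a, y₀} : Set VV) := by
      have := sub_mem_perp hF a y₀ haa hy₀y₀ hay₀ (v - y₀)
      rw [hua, zero_smul, sub_zero, ← hκdef, ← hldef] at this
      exact this
    have hla : hf l a = 0 := hlP a (by simp)
    have hly₀ : hf l y₀ = 0 := hlP y₀ (by simp)
    have hal : hf a l = 0 := herm_eq_zero_symm hF _ _ hla
    have hy₀l : hf y₀ l = 0 := herm_eq_zero_symm hF _ _ hly₀
    have hv : v = y₀ + l + κ • a := by rw [hldef]; abel
    have hκ : κ + κ ^ q = -(hf l l) := by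
      have := hvv
      rw [hv] at this
      simp only [herm_add_left, herm_add_right hF, herm_smul_left, herm_smul_right, hy₀y₀, haa,
        hla, hly₀, hal, hy₀l, hy₀a, hay₀] at this
      linear_combination this
    by_cases hll : hf l l = 0
    · obtain ⟨h1, h1'⟩ := para_move hF M hMGU a haa hEE y₀ hy₀y₀ hy₀a hXy₀ l hll hal 1
      rw [hy₀l, mul_zero, zero_smul, add_zero, one_smul] at h1 h1'
      have hκ' : κ ^ q = -κ := by rw [hll, neg_zero] at hκ; linear_combination hκ
      have hmem := hXa κ hκ'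
      have h2 := XXu_conj M _ hmem (hMGU hmem) _ h1' h1
      rw [TTu_mulVec a κ haa] at h2
      have e : hf (y₀ + l) a = 1 := by rw [herm_add_left, hy₀a, hla, add_zero]
      rw [e, mul_one, ← hv] at h2
      exact h2
    · have hfrT : Module.finrank F (⊤ : Submodule F VV) = n := by
        rw [finrank_top, Module.finrank_fin_fun]
      have hN2 := ndeg_sub hF ⊤ (ndeg_top hF) a y₀ trivial trivial haa hy₀y₀ hay₀
      have hfr2 := finrank_sub hF ⊤ a y₀ trivial trivial haa hy₀y₀ hay₀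
      have hlL : l ∈ (⊤ : Submodule F VV) ⊓ perpS q ({a, y₀} : Set VV) :=
        Submodule.mem_inf.mpr ⟨trivial, hlP⟩
      obtain ⟨l₀, hl₀⟩ := exists_trace hF (hf l l) (herm_conj hF l l)
      obtain ⟨x₁, hx₁L, z₁, hz₁L, hx₁x₁, hz₁z₁, hx₁z₁, hlxz⟩ :=
        norm_to_pair hF _ hN2 (by omega) l hlL hll l₀ hl₀
      have hx₁P := (Submodule.mem_inf.mp hx₁L).2
      have hz₁P := (Submodule.mem_inf.mp hz₁L).2
      have hx₁a : hf x₁ a = 0 := hx₁P a (by simp)
      have hx₁y₀ : hf x₁ y₀ = 0 := hx₁P y₀ (by simp)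
      have hz₁a : hf z₁ a = 0 := hz₁P a (by simp)
      have hz₁y₀ : hf z₁ y₀ = 0 := hz₁P y₀ (by simp)
      have hax₁ := herm_eq_zero_symm hF _ _ hx₁a
      have hy₀x₁ := herm_eq_zero_symm hF _ _ hx₁y₀
      have haz₁ := herm_eq_zero_symm hF _ _ hz₁a
      have hy₀z₁ := herm_eq_zero_symm hF _ _ hz₁y₀
      obtain ⟨h1, h1'⟩ := para_move hF M hMGU a haa hEE y₀ hy₀y₀ hy₀a hXy₀ x₁ hx₁x₁ hax₁ 1
      rw [hy₀x₁, mul_zero, zero_smul, add_zero, one_smul] at h1 h1'
      have e1 : hf (y₀ + x₁) a = 1 := by rw [herm_add_left, hy₀a, hx₁a, add_zero]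
      obtain ⟨h2, h2'⟩ := para_move hF M hMGU a haa hEE (y₀ + x₁) h1' e1 h1 z₁ hz₁z₁ haz₁ l₀
      have e2 : hf (y₀ + x₁) z₁ = 1 := by rw [herm_add_left, hy₀z₁, hx₁z₁, zero_add]
      rw [e2, mul_one] at h2 h2'
      have hc : (κ + l₀ ^ q) ^ q = -(κ + l₀ ^ q) := by
        rw [add_pow_q hF, pow_q_q hF]
        linear_combination hκ + hl₀
      have hmem := hXa _ hc
      have h3 := XXu_conj M _ hmem (hMGU hmem) _ h2' h2
      rw [TTu_mulVec a _ haa] at h3
      have e3 : hf (y₀ + x₁ + l₀ • z₁ + -(l₀ ^ q) • a) a = 1 := by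
        simp only [herm_add_left, herm_smul_left, hy₀a, hx₁a, hz₁a, haa]
        ring
      rw [e3, mul_one] at h3
      have e4 : y₀ + x₁ + l₀ • z₁ + -(l₀ ^ q) • a + (κ + l₀ ^ q) • a = v := by
        rw [hv, hlxz]; module
      rw [e4] at h3
      exact h3
  have step4 : ∀ v : VV, hf v v = 0 → hf v a ≠ 0 → XXu q M v := by
    intro v hvv hva
    have h1 := step4n ((hf v a)⁻¹ • v) (by rw [herm_smul_smul, hvv, mul_zero])
      (by rw [herm_smul_left, inv_mul_cancel₀ hva])
    have h2 := XXu_smul hF M _ (by rw [herm_smul_smul, hvv, mul_zero]) h1 (hf v a)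
    rwa [smul_smul, mul_inv_cancel₀ hva, one_smul] at h2
  apply SUG_le_of_TTu hF hn
  intro v c hvv hc
  by_cases hva : hf v a = 0
  · by_cases hv0 : v = 0
    · have := XXu_smul hF M a haa hXa 0
      rw [zero_smul] at this
      rw [hv0]
      exact this c hc
    · obtain ⟨z, -, hzz, hza, hzv⟩ := exists_iso_both hF ⊤ (ndeg_top hF) a v trivial trivial ha0 hv0
        haa hvv (herm_eq_zero_symm hF _ _ hva)
      obtain ⟨ε, hε0, hε⟩ := exists_eps hF
      obtain ⟨β, hβdef⟩ : ∃ β : F, β = ε / hf z v := ⟨_, rfl⟩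
      have hβ0 : β ≠ 0 := by rw [hβdef]; exact div_ne_zero hε0 hzv
      have hβz : β * hf z v = ε := by rw [hβdef]; field_simp
      have hβz' : β ^ q * hf v z = -ε := by
        rw [← herm_conj hF z v, ← mul_pow, hβz, hε]
      have hXz := step4 z hzz hza
      have hz'z' : hf (v + β • z) (v + β • z) = 0 := by
        simp only [herm_add_left, herm_add_right hF, herm_smul_left, herm_smul_right, hvv, hzz]
        linear_combination hβz + hβz'
      have hz'a : hf (v + β • z) a ≠ 0 := by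
        rw [herm_add_left, herm_smul_left, hva, zero_add]
        exact mul_ne_zero hβ0 hza
      have hXz' := step4 _ hz'z' hz'a
      have hnz : hf ((-β) • z) ((-β) • z) = 0 := by rw [herm_smul_smul, hzz, mul_zero]
      have hXnz := XXu_smul hF M z hzz hXz (-β)
      have hpair : hf (v + β • z) ((-β) • z) = ε := by
        simp only [herm_add_left, herm_smul_left, herm_smul_right, hzz, neg_pow_q' hF]
        linear_combination -hβz'
      have := XXu_add hF M hMGU _ _ hz'z' hnz hXz' hXnz (by rw [hpair]; exact hε)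
        (by rw [hpair]; exact hε0)
      have e : v + β • z + (-β) • z = v := by module
      rw [e] at this
      exact this c hc
  · exact step4 v hvv hva c hc

theorem stabW_para_lt (hF : Fintype.card F = q ^ 2) (W : Submodule F VV) (hW0 : W ≠ ⊥)
    (hW : ∀ u ∈ W, ∀ v ∈ W, hf u v = 0) :
    Cfsg.Geo.subspaceStabilizer W ⊓ SUG n F q < SUG n F q := by
  apply lt_of_le_of_ne inf_le_right
  intro heq
  obtain ⟨a, haW, ha0⟩ := Submodule.exists_mem_ne_zero_of_ne_bot hW0
  have haa := hW a haW a haW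
  obtain ⟨y, -, hyy, hay⟩ := exists_partner_u hF ⊤ (ndeg_top hF) a trivial ha0 haa
  have hya := herm_yx_of_xy hF a y hay
  obtain ⟨ε, hε0, hε⟩ := exists_eps hF
  have ht : (TTu q y ε : GL (Fin n) F) ∈ SUG n F q := TTu_mem_SUG hF _ _ hyy hε
  rw [← heq] at ht
  have h1 := stabW_fwd W _ ht.1 a haW
  rw [TTu_mulVec _ _ hyy, hay, mul_one] at h1
  have h2 := hW _ h1 a haW
  rw [herm_add_left, herm_smul_left, haa, hya, zero_add, mul_one] at h2
  exact hε0 h2

end Cfsg.Agent.helper29

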