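import Mathlib
import Cfsg.Agent.Lib_helper29_UNdeg
import Cfsg.Prelude.Def_Classical

set_option autoImplicit false
set_option linter.unusedSectionVars false
set_option linter.unusedVariables false

namespace Cfsg.Agent.helper29

open Matrix Cfsg Cfsg.Agent.helper11.HermCount Cfsg.Agent.helper11.Unitary

section usu

variable {F : Type*} [Field F] [Fintype F] {q n : ℕ}

local notation "hf" => Cfsg.hermForm n F q
local notation "VV" => (Fin n → F)
local notation "MM" => Matrix (Fin n) (Fin n) F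

/-- the embedding of `Cfsg.SU n F q` into `GL` -/
noncomputable def suToGL (n : ℕ) (F : Type*) [Field F] (q : ℕ) : ↥(Cfsg.SU n F q) →* GL (Fin n) F :=
  (Matrix.SpecialLinearGroup.toGL).comp (Cfsg.SU n F q).subtype

theorem suToGL_val (s : ↥(Cfsg.SU n F q)) :
    ((suToGL n F q s : GL (Fin n) F) : MM) = ((s : Matrix.SpecialLinearGroup (Fin n) F) : MM) := rfl

theorem suToGL_inj : Function.Injective (suToGL n F q) := by
  intro s t h
  apply Subtype.ext
  apply Subtype.ext
  have := congrArg (fun g : GL (Fin n) F => (g : MM)) h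
  exact this

theorem suToGL_mem (s : ↥(Cfsg.SU n F q)) : suToGL n F q s ∈ SUG n F q := by
  refine Subgroup.mem_inf.mpr ⟨?_, ?_⟩
  · intro u v
    exact s.2 u v
  · rw [mem_SL, suToGL_val]
    exact (s : Matrix.SpecialLinearGroup (Fin n) F).2

theorem suToGL_surj (g : GL (Fin n) F) (hg : g ∈ SUG n F q) :
    ∃ s : ↥(Cfsg.SU n F q), suToGL n F q s = g := by
  obtain ⟨hGU, hSL⟩ := Subgroup.mem_inf.mp hg
  rw [mem_SL] at hSL
  refine ⟨⟨⟨(g : MM), hSL⟩, ?_⟩, ?_⟩
  · intro u v
    exact hGU u v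
  · apply Units.ext
    rfl

theorem suToGL_range : (suToGL n F q).range = SUG n F q := by
  ext g
  constructor
  · rintro ⟨s, rfl⟩; exact suToGL_mem s
  · intro hg; obtain ⟨s, hs⟩ := suToGL_surj g hg; exact ⟨s, hs⟩

/-- an element of `GU` which is a transvection is a unitary transvection -/
theorem transv_form (hF : Fintype.card F = q ^ 2) (g : GL (Fin n) F) (hg : g ∈ Cfsg.GU n F q)
    (hrank : ((g : MM) - 1).rank = 1) (hsq : ((g : MM) - 1) * ((g : MM) - 1) = 0) :
    ∃ (x : VV) (lam : F), x ≠ 0 ∧ hf x x = 0 ∧ lam ≠ 0 ∧ lam ^ q = -lam ∧ g = TTu q x lam := by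
  classical
  unfold Matrix.rank at hrank
  obtain ⟨⟨x, hxr⟩, hx0, hall⟩ := finrank_eq_one_iff'.mp hrank
  have hx0' : x ≠ 0 := by
    intro e
    apply hx0
    exact Subtype.ext e
  have hc : ∀ u : VV, ∃ c : F, (g : MM) *ᵥ u = u + c • x := by
    intro u
    obtain ⟨c, hc⟩ := hall ⟨((g : MM) - 1).mulVecLin u, LinearMap.mem_range_self _ u⟩
    refine ⟨c, ?_⟩
    have h1 : c • x = ((g : MM) - 1) *ᵥ u := congrArg Subtype.val hc
    rw [h1, Matrix.sub_mulVec, Matrix.one_mulVec]
    abel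
  choose c hc using hc
  have key : ∀ u w : VV, c w ^ q * hf u x + c u * hf x w + c u * c w ^ q * hf x x = 0 := by
    intro u w
    have h := gu_herm g hg u w
    rw [hc u, hc w] at h
    simp only [herm_add_left, herm_add_right hF, herm_smul_left, herm_smul_right] at h
    linear_combination h
  obtain ⟨w₀, hw₀⟩ : ∃ w₀, c w₀ ≠ 0 := by
    by_contra hno
    push Not at hno
    obtain ⟨u, hu⟩ := hxr
    have h1 : ((g : MM) - 1) *ᵥ u = x := hu
    rw [Matrix.sub_mulVec, Matrix.one_mulVec, hc u, hno u, zero_smul, add_zero, sub_self] at h1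
    exact hx0' h1.symm
  -- c x = 0
  have hcx : c x = 0 := by
    have h1 : (((g : MM) - 1) * ((g : MM) - 1)) *ᵥ w₀ = 0 := by rw [hsq, Matrix.zero_mulVec]
    rw [← Matrix.mulVec_mulVec] at h1
    have h2 : ∀ u : VV, ((g : MM) - 1) *ᵥ u = c u • x := by
      intro u
      rw [Matrix.sub_mulVec, Matrix.one_mulVec, hc u]; abel
    rw [h2 w₀, Matrix.mulVec_smul, h2 x, smul_smul] at h1
    have h3 : c w₀ * c x = 0 := by
      by_contra hne
      exact hx0' ((smul_eq_zero.mp h1).resolve_left hne)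
    exact (mul_eq_zero.mp h3).resolve_left hw₀
  have hxx : hf x x = 0 := by
    have := key x w₀
    rw [hcx, zero_mul, zero_mul, zero_mul, add_zero, add_zero] at this
    exact (mul_eq_zero.mp this).resolve_left (pow_ne_zero _ hw₀)
  have key2 : ∀ u w : VV, c w ^ q * hf u x + c u * hf x w = 0 := by
    intro u w
    have := key u w
    rw [hxx, mul_zero, add_zero] at this
    exact this
  have hxw₀ : hf x w₀ ≠ 0 := by
    intro h0
    apply hx0'
    apply ndeg_top hF x trivial
    intro v _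
    apply herm_eq_zero_symm hF
    have := key2 v w₀
    rw [h0, mul_zero, add_zero] at this
    exact (mul_eq_zero.mp this).resolve_left (pow_ne_zero _ hw₀)
  obtain ⟨lam, hlam⟩ : ∃ lam : F, lam = -(c w₀ ^ q) / hf x w₀ := ⟨_, rfl⟩
  have hlam0 : lam ≠ 0 := by
    rw [hlam]; exact div_ne_zero (neg_ne_zero.mpr (pow_ne_zero _ hw₀)) hxw₀
  have hcu : ∀ u : VV, c u = lam * hf u x := by
    intro u
    have := key2 u w₀
    rw [hlam]
    field_simp
    linear_combination this
  have hlamq : lam ^ q = -lam := by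
    obtain ⟨y, -, hyy, hxy⟩ := exists_partner_u hF ⊤ (ndeg_top hF) x trivial hx0' hxx
    have hyx := herm_yx_of_xy hF x y hxy
    have := key2 y y
    rw [hcu y, hyx, hxy, mul_one, mul_one, mul_one] at this
    linear_combination this
  refine ⟨x, lam, hx0', hxx, hlam0, hlamq, ?_⟩
  apply gl_ext'
  intro u
  rw [hc u, TTu_mulVec x lam hxx, hcu u]

/-- two unitary transvections are conjugate under the group generated by transvections -/
theorem TTu_conj (hF : Fintype.card F = q ^ 2) (hn : 3 ≤ n) (x x' : VV) (lam lam' : F)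
    (hx0 : x ≠ 0) (hx'0 : x' ≠ 0) (hxx : hf x x = 0) (hx'x' : hf x' x' = 0)
    (hl0 : lam ≠ 0) (hl'0 : lam' ≠ 0) (hl : lam ^ q = -lam) (hl' : lam' ^ q = -lam') :
    ∃ t ∈ TUin q (⊤ : Submodule F VV), t * TTu q x lam * t⁻¹ = TTu q x' lam' := by
  have hd : (lam' / lam) ^ q = lam' / lam := by rw [div_pow, hl, hl', neg_div_neg_eq]
  have hd0 : lam' / lam ≠ 0 := div_ne_zero hl'0 hl0
  obtain ⟨a, ha⟩ := exists_norm hF _ hd hd0
  have ha0 : a ≠ 0 := by
    intro h0; rw [h0, zero_mul] at ha; exact hd0 ha.symm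
  have hfr : 3 ≤ Module.finrank F (⊤ : Submodule F VV) := by
    rw [finrank_top, Module.finrank_fin_fun]; exact hn
  have hax' : hf (a • x') (a • x') = 0 := by rw [herm_smul_smul, hx'x', mul_zero]
  obtain ⟨t, ht, htx⟩ := H1 hF ⊤ (ndeg_top hF) hfr x (a • x') trivial trivial hxx hax' hx0
    (smul_ne_zero ha0 hx'0)
  refine ⟨t, ht, ?_⟩
  have htGU : t ∈ Cfsg.GU n F q := (Subgroup.mem_inf.mp (TUin_le_SUG hF _ ht)).1
  rw [conj_TTu t htGU x lam hxx, htx, TTu_smul a x' lam hx'x', ha, div_mul_cancel₀ _ hl0]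

end usu

end Cfsg.Agent.helper29
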