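import Mathlib
import Cfsg.Agent.Lib_helper29_USU

set_option autoImplicit false
set_option linter.unusedSectionVars false
set_option linter.unusedVariables false

namespace Cfsg.Agent.helper29

open Matrix Cfsg Cfsg.Agent.helper11.HermCount Cfsg.Agent.helper11.Unitary
open scoped commutatorElement

section usiegel

variable {F : Type*} [Field F] [Fintype F] {q n : ℕ}

local notation "hf" => Cfsg.hermForm n F q
local notation "VV" => (Fin n → F)
local notation "MM" => Matrix (Fin n) (Fin n) F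

theorem vmv_mulVec (a b v : VV) :
    Matrix.vecMulVec a (fun j => (b j) ^ q) *ᵥ v = hf v b • a := by
  funext i
  simp only [Matrix.mulVec, dotProduct, Matrix.vecMulVec_apply, smul_eq_mul, Pi.smul_apply,
    hermForm]
  rw [Finset.sum_mul]
  apply Finset.sum_congr rfl
  intro j _
  ring

/-- matrix of the Siegel element `v ↦ v + h(v,x) w - h(v,w) x + γ h(v,x) x` -/
noncomputable def SSm (q : ℕ) (x w : Fin n → F) (γ : F) : Matrix (Fin n) (Fin n) F :=
  1 + Matrix.vecMulVec w (fun j => (x j) ^ q) - Matrix.vecMulVec x (fun j => (w j) ^ q)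
    + γ • Matrix.vecMulVec x (fun j => (x j) ^ q)

theorem SSm_mulVec (x w : VV) (γ : F) (v : VV) :
    SSm q x w γ *ᵥ v = v + hf v x • w - hf v w • x + (γ * hf v x) • x := by
  unfold SSm
  rw [Matrix.add_mulVec, Matrix.sub_mulVec, Matrix.add_mulVec, Matrix.one_mulVec,
    Matrix.smul_mulVec, vmv_mulVec, vmv_mulVec, vmv_mulVec, smul_smul]

theorem SSm_mul (hF : Fintype.card F = q ^ 2) (x w w' : VV) (γ γ' : F) (hxx : hf x x = 0)
    (hwx : hf w x = 0) (hw'x : hf w' x = 0) :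
    SSm q x w' γ' * SSm q x w γ = SSm q x (w + w') (γ + γ' - hf w w') := by
  have hxw' := herm_eq_zero_symm hF _ _ hw'x
  rw [Matrix.ext_iff_mulVec]
  intro v
  rw [← Matrix.mulVec_mulVec, SSm_mulVec, SSm_mulVec, SSm_mulVec]
  simp only [herm_add_left, herm_sub_left, herm_add_right hF, herm_smul_left, hxx, hwx, hxw']
  module

theorem SSm_zero (hF : Fintype.card F = q ^ 2) (x : VV) : SSm q x 0 0 = 1 := by
  rw [Matrix.ext_iff_mulVec]
  intro v
  rw [SSm_mulVec, Matrix.one_mulVec, herm_zero_right hF v]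
  simp

theorem SSm_tu (hF : Fintype.card F = q ^ 2) (x : VV) (c : F) :
    Cfsg.unitaryTransvection n q x c = SSm q x 0 c := by
  rw [Matrix.ext_iff_mulVec]
  intro v
  rw [SSm_mulVec, tu_mulVec, herm_zero_right hF v]
  simp

theorem exists_SS (hF : Fintype.card F = q ^ 2) (x w : VV) (γ : F) (hxx : hf x x = 0)
    (hwx : hf w x = 0) (hγ : γ + γ ^ q = - hf w w) :
    ∃ g : GL (Fin n) F, g ∈ SUG n F q ∧ (g : MM) = SSm q x w γ := by
  have hxw := herm_eq_zero_symm hF _ _ hwx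
  have hnwx : hf (-w) x = 0 := by rw [herm_neg_left, hwx, neg_zero]
  have h1 : SSm q x (-w) (γ ^ q) * SSm q x w γ = 1 := by
    rw [SSm_mul hF x w (-w) γ (γ ^ q) hxx hwx hnwx, herm_neg_right hF, add_neg_cancel]
    have : γ + γ ^ q - -hf w w = 0 := by rw [hγ]; ring
    rw [this, SSm_zero hF]
  have h2 : SSm q x w γ * SSm q x (-w) (γ ^ q) = 1 := by
    rw [SSm_mul hF x (-w) w (γ ^ q) γ hxx hnwx hwx, herm_neg_left, neg_add_cancel]
    have : γ ^ q + γ - -hf w w = 0 := by rw [add_comm, hγ]; ring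
    rw [this, SSm_zero hF]
  refine ⟨⟨SSm q x w γ, SSm q x (-w) (γ ^ q), h2, h1⟩, ?_, rfl⟩
  refine Subgroup.mem_inf.mpr ⟨?_, ?_⟩
  · rw [mem_GU_iff]
    intro u v
    show hf (SSm q x w γ *ᵥ u) (SSm q x w γ *ᵥ v) = hf u v
    rw [SSm_mulVec, SSm_mulVec]
    have e1 : hf x v = (hf v x) ^ q := (herm_conj hF v x).symm
    have e2 : hf w v = (hf v w) ^ q := (herm_conj hF v w).symm
    simp only [herm_add_left, herm_sub_left, herm_add_right hF, herm_sub_right hF,
      herm_smul_left, herm_smul_right, hxx, hwx, hxw, e1, e2, mul_pow]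
    linear_combination (hf u x * (hf v x) ^ q) * hγ
  · rw [mem_SL]
    have hform : ∀ v : VV, ((⟨SSm q x w γ, SSm q x (-w) (γ ^ q), h2, h1⟩ : GL (Fin n) F) : MM) *ᵥ v
        = v + hf v w • (-x) + hf v x • (w + γ • x) := by
      intro v
      show SSm q x w γ *ᵥ v = _
      rw [SSm_mulVec]
      module
    rw [det_rank_two hF _ x w (-x) (w + γ • x) hform]
    simp only [herm_add_left, herm_neg_left, herm_smul_left, hxx, hwx, hxw]
    ring

/-- every unitary transvection is a commutator in `SU_n(q)`, `n ≥ 3` -/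
theorem TTu_comm (hF : Fintype.card F = q ^ 2) (hn : 3 ≤ n) (x : VV) (c : F) (hx0 : x ≠ 0)
    (hxx : hf x x = 0) (hc : c ^ q = -c) :
    ∃ g₁ ∈ SUG n F q, ∃ g₂ ∈ SUG n F q, ⁅g₁, g₂⁆ = (TTu q x c : GL (Fin n) F) := by
  obtain ⟨y, -, hyy, hxy⟩ := exists_partner_u hF ⊤ (ndeg_top hF) x trivial hx0 hxx
  have hN2 := ndeg_sub hF ⊤ (ndeg_top hF) x y trivial trivial hxx hyy hxy
  have hfr2 := finrank_sub hF ⊤ x y trivial trivial hxx hyy hxy
  rw [finrank_top, Module.finrank_fin_fun] at hfr2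
  have hne : (⊤ : Submodule F VV) ⊓ perpS q ({x, y} : Set VV) ≠ ⊥ := by
    intro h0
    rw [h0, finrank_bot] at hfr2
    omega
  obtain ⟨w, hwL, hww⟩ := exists_nonisotropic hF _ hN2 hne
  have hwx : hf w x = 0 := (Submodule.mem_inf.mp hwL).2 x (by simp)
  have hNq : (hf w w) ^ q = hf w w := herm_conj hF w w
  obtain ⟨ε, hε0, hε⟩ := exists_eps hF
  have hd : (-c / (ε * hf w w)) ^ q = -c / (ε * hf w w) := by
    rw [div_pow, mul_pow, neg_pow_q' hF, hc, hε, hNq]
    field_simp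
  obtain ⟨m, hm⟩ := exists_trace hF _ hd
  obtain ⟨l, hl⟩ : ∃ l : F, l = ε * m := ⟨_, rfl⟩
  have hlq : (l ^ q - l) * hf w w = c := by
    rw [hl, mul_pow, hε]
    have : -ε * m ^ q - ε * m = -ε * (m + m ^ q) := by ring
    rw [this, hm]
    field_simp
  obtain ⟨γ₁, hγ₁⟩ := exists_trace hF (-(hf w w)) (by rw [neg_pow_q' hF, hNq])
  have hlwx : hf (l • w) x = 0 := by rw [herm_smul_left, hwx, mul_zero]
  obtain ⟨γ₂, hγ₂⟩ := exists_trace hF (-(hf (l • w) (l • w)))
    (by rw [neg_pow_q' hF, herm_conj hF])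
  obtain ⟨g₁, hg₁, hg₁v⟩ := exists_SS hF x w γ₁ hxx hwx hγ₁
  obtain ⟨g₂, hg₂, hg₂v⟩ := exists_SS hF x (l • w) γ₂ hxx hlwx hγ₂
  refine ⟨g₁, hg₁, g₂, hg₂, ?_⟩
  have h0x : hf (0 : VV) x = 0 := herm_zero_left x
  have key : g₁ * g₂ = TTu q x c * (g₂ * g₁) := by
    apply Units.ext
    rw [Units.val_mul, Units.val_mul, Units.val_mul, hg₁v, hg₂v, TTu_val x c hxx, SSm_tu hF,
      SSm_mul hF x (l • w) w γ₂ γ₁ hxx hlwx hwx, SSm_mul hF x w (l • w) γ₁ γ₂ hxx hwx hlwx,
      SSm_mul hF x _ 0 _ c hxx (by rw [herm_add_left, hwx, hlwx, add_zero]) h0x,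
      herm_zero_right hF, add_zero, sub_zero, herm_smul_left, herm_smul_right, add_comm (l • w) w]
    congr 1
    linear_combination hlq
  rw [commutatorElement_def, key]
  group

end usiegel

end Cfsg.Agent.helper29
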