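import Mathlib
import Cfsg.Agent.Lib_helper29_USiegel

set_option autoImplicit false
set_option linter.unusedSectionVars false
set_option linter.unusedVariables false

namespace Cfsg.Agent.helper29

open Matrix Cfsg Cfsg.Agent.helper11.HermCount Cfsg.Agent.helper11.Unitary

section usu3

variable {F : Type*} [Field F] [Fintype F] {q n : ℕ}

local notation "hf" => Cfsg.hermForm n F q
local notation "VV" => (Fin n → F)
local notation "MM" => Matrix (Fin n) (Fin n) F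

theorem exists_norm_ne_one (hF : Fintype.card F = q ^ 2) (hq : 3 ≤ q) :
    ∃ l : F, l ≠ 0 ∧ l * l ^ q ≠ 1 := by
  classical
  by_contra hcon
  push Not at hcon
  have hall : ∀ a : Fˣ, a ^ (q + 1) = 1 := by
    intro a
    apply Units.ext
    rw [Units.val_pow_eq_pow_val, Units.val_one, pow_succ, mul_comm]
    exact hcon (a : F) a.ne_zero
  have h1 := IsCyclic.card_pow_eq_one_le (α := Fˣ) (n := q + 1) (by omega)
  have h2 : (Finset.univ.filter (fun a : Fˣ => a ^ (q + 1) = 1)) = Finset.univ := by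
    ext a; simp [hall a]
  rw [h2, Finset.card_univ, Fintype.card_units, hF] at h1
  have : q * q ≤ q + 2 := by
    have : q ^ 2 = q * q := by ring
    omega
  nlinarith

theorem TUin_top_conj (g : GL (Fin n) F) (hg : g ∈ Cfsg.GU n F q) (t : GL (Fin n) F)
    (ht : t ∈ TUin q (⊤ : Submodule F VV)) : g * t * g⁻¹ ∈ TUin q (⊤ : Submodule F VV) := by
  unfold TUin at ht ⊢
  induction ht using Subgroup.closure_induction with
  | mem s hs =>
    obtain ⟨z, c, -, hz, hc, rfl⟩ := hs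
    rw [conj_TTu g hg z c hz]
    exact Subgroup.subset_closure ⟨_, c, trivial, by rw [gu_herm g hg, hz], hc, rfl⟩
  | one => rw [mul_one, mul_inv_cancel]; exact Subgroup.one_mem _
  | mul a b _ _ iha ihb =>
    have : g * (a * b) * g⁻¹ = (g * a * g⁻¹) * (g * b * g⁻¹) := by group
    rw [this]; exact Subgroup.mul_mem _ iha ihb
  | inv a _ iha =>
    have : g * a⁻¹ * g⁻¹ = (g * a * g⁻¹)⁻¹ := by group
    rw [this]; exact Subgroup.inv_mem _ iha

theorem conj_SSm (g : GL (Fin n) F) (hg : g ∈ Cfsg.GU n F q) (x w : VV) (γ : F) :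
    (g : MM) * SSm q x w γ * ((g⁻¹ : GL (Fin n) F) : MM) =
      SSm q ((g : MM) *ᵥ x) ((g : MM) *ᵥ w) γ := by
  rw [Matrix.ext_iff_mulVec]
  intro v
  rw [← Matrix.mulVec_mulVec, ← Matrix.mulVec_mulVec, SSm_mulVec, SSm_mulVec]
  simp only [Matrix.mulVec_add, Matrix.mulVec_sub, Matrix.mulVec_smul, gl_mulVec_inv,
    gu_herm_inv g hg]

/-- in dimension three, the transvection group is transitive on the partners of an isotropic
vector -/
theorem partner_trans3 (hF : Fintype.card F = q ^ 2) (hn : n = 3) (hq : 3 ≤ q) (x y y' : VV)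
    (hxx : hf x x = 0) (hyy : hf y y = 0) (hxy : hf x y = 1) (hy'y' : hf y' y' = 0)
    (hxy' : hf x y' = 1) :
    ∃ s ∈ TUin q (⊤ : Submodule F VV), (s : MM) *ᵥ x = x ∧ (s : MM) *ᵥ y = y' := by
  have hyx := herm_yx_of_xy hF x y hxy
  have hy'x := herm_yx_of_xy hF x y' hxy'
  have hx0 : x ≠ 0 := by
    intro h; rw [h, herm_zero_left] at hxy; exact zero_ne_one hxy
  have hN2 := ndeg_sub hF ⊤ (ndeg_top hF) x y trivial trivial hxx hyy hxy
  have hfr2 := finrank_sub hF ⊤ x y trivial trivial hxx hyy hxy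
  rw [finrank_top, Module.finrank_fin_fun] at hfr2
  have hfr1 : Module.finrank F ((⊤ : Submodule F VV) ⊓ perpS q ({x, y} : Set VV) :
      Submodule F VV) = 1 := by omega
  have hne : (⊤ : Submodule F VV) ⊓ perpS q ({x, y} : Set VV) ≠ ⊥ := by
    intro h0
    rw [h0, finrank_bot] at hfr1
    omega
  obtain ⟨w₀, hw₀L, hw₀w₀⟩ := exists_nonisotropic hF _ hN2 hne
  have hw₀P := (Submodule.mem_inf.mp hw₀L).2
  have hw₀x : hf w₀ x = 0 := hw₀P x (by simp)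
  have hw₀y : hf w₀ y = 0 := hw₀P y (by simp)
  have hxw₀ := herm_eq_zero_symm hF _ _ hw₀x
  have hyw₀ := herm_eq_zero_symm hF _ _ hw₀y
  have hw₀0 : w₀ ≠ 0 := by
    intro h; rw [h, herm_zero_left] at hw₀w₀; exact hw₀w₀ rfl
  -- vectors of the line
  have hline : ∀ u ∈ (⊤ : Submodule F VV) ⊓ perpS q ({x, y} : Set VV), ∃ a : F, u = a • w₀ := by
    intro u hu
    have hw₀' : (⟨w₀, hw₀L⟩ : ((⊤ : Submodule F VV) ⊓ perpS q ({x, y} : Set VV) :
        Submodule F VV)) ≠ 0 := by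
      intro h
      exact hw₀0 (congrArg Subtype.val h)
    obtain ⟨a, ha⟩ := exists_smul_eq_of_finrank_eq_one hfr1 hw₀' ⟨u, hu⟩
    exact ⟨a, (congrArg Subtype.val ha).symm⟩
  have hplane : ∀ u : VV, hf u x = 0 → ∃ a b : F, u = a • w₀ + b • x := by
    intro u hux
    have h1 := sub_mem_perp hF x y hxx hyy hxy u
    rw [hux, zero_smul, sub_zero] at h1
    obtain ⟨a, ha⟩ := hline _ (Submodule.mem_inf.mpr ⟨trivial, h1⟩)
    refine ⟨a, hf u y, ?_⟩
    rw [← ha]; abel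
  -- the torus-like element
  obtain ⟨lam, hlam0, hlamN⟩ := exists_norm_ne_one hF hq
  have hfr : 3 ≤ Module.finrank F (⊤ : Submodule F VV) := by
    rw [finrank_top, Module.finrank_fin_fun]; omega
  have hlx : hf (lam • x) (lam • x) = 0 := by rw [herm_smul_smul, hxx, mul_zero]
  obtain ⟨t, ht, htx⟩ := H1 hF ⊤ (ndeg_top hF) hfr x (lam • x) trivial trivial hxx hlx hx0
    (smul_ne_zero hlam0 hx0)
  have htGU : t ∈ Cfsg.GU n F q := (Subgroup.mem_inf.mp (TUin_le_SUG hF _ ht)).1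
  have htw₀x : hf ((t : MM) *ᵥ w₀) x = 0 := by
    have := gu_herm t htGU w₀ x
    rw [htx, herm_smul_right, hw₀x] at this
    exact (mul_eq_zero.mp this).resolve_left (pow_ne_zero _ hlam0)
  obtain ⟨μ, ν, hμν⟩ := hplane _ htw₀x
  have hμN : μ * μ ^ q = 1 := by
    have := gu_herm t htGU w₀ w₀
    rw [hμν] at this
    simp only [herm_add_left, herm_add_right hF, herm_smul_left, herm_smul_right, hxx, hw₀x,
      hxw₀] at this
    have h2 : (μ * μ ^ q - 1) * hf w₀ w₀ = 0 := by linear_combination this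
    have := (mul_eq_zero.mp h2).resolve_right hw₀w₀
    linear_combination this
  obtain ⟨κ, hκ⟩ : ∃ κ : F, κ = lam ^ q * μ - 1 := ⟨_, rfl⟩
  have hκ0 : κ ≠ 0 := by
    intro h0
    rw [h0] at hκ
    have h1 : lam ^ q * μ = 1 := by linear_combination -hκ
    apply hlamN
    have h2 : (lam ^ q * μ) ^ q = 1 := by rw [h1, one_pow]
    rw [mul_pow, pow_q_q hF] at h2
    have : lam * lam ^ q = (lam ^ q * μ) * (lam * μ ^ q) := by
      have : (lam ^ q * μ) * (lam * μ ^ q) = lam * lam ^ q * (μ * μ ^ q) := by ring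
      rw [this, hμN, mul_one]
    rw [this, h1, h2, one_mul]
  -- decompose the target
  have hux : hf (y' - y) x = 0 := by rw [herm_sub_left, hy'x, hyx, sub_self]
  obtain ⟨l', b', hy'dec⟩ := hplane _ hux
  have hy'eq : y' = y + l' • w₀ + b' • x := by
    rw [add_assoc, ← hy'dec]; abel
  obtain ⟨l, hl⟩ : ∃ l : F, l = l' / κ := ⟨_, rfl⟩
  have hlκ : l * κ = l' := by rw [hl]; exact div_mul_cancel₀ _ hκ0
  obtain ⟨w, hw⟩ : ∃ w : VV, w = l • w₀ := ⟨_, rfl⟩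
  have hwx : hf w x = 0 := by rw [hw, herm_smul_left, hw₀x, mul_zero]
  have hxw : hf x w = 0 := herm_eq_zero_symm hF _ _ hwx
  have hyw : hf y w = 0 := by rw [hw, herm_smul_right, hyw₀, mul_zero]
  obtain ⟨γ, hγ⟩ := exists_trace hF (-(hf w w)) (by rw [neg_pow_q' hF, herm_conj hF])
  obtain ⟨S, hS, hSv⟩ := exists_SS hF x w γ hxx hwx hγ
  have hSGU : S ∈ Cfsg.GU n F q := (Subgroup.mem_inf.mp hS).1
  have hnwx : hf (-w) x = 0 := by rw [herm_neg_left, hwx, neg_zero]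
  have hSinv : ((S⁻¹ : GL (Fin n) F) : MM) = SSm q x (-w) (γ ^ q) := by
    have h1 : SSm q x (-w) (γ ^ q) * (S : MM) = 1 := by
      rw [hSv, SSm_mul hF x w (-w) γ (γ ^ q) hxx hwx hnwx, herm_neg_right hF, add_neg_cancel]
      have : γ + γ ^ q - -hf w w = 0 := by rw [hγ]; ring
      rw [this, SSm_zero hF]
    have h2 : (S : MM) * ((S⁻¹ : GL (Fin n) F) : MM) = 1 := by
      rw [← Units.val_mul, mul_inv_cancel, Units.val_one]
    calc ((S⁻¹ : GL (Fin n) F) : MM) = (SSm q x (-w) (γ ^ q) * (S : MM)) *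
          ((S⁻¹ : GL (Fin n) F) : MM) := by rw [h1, one_mul]
      _ = SSm q x (-w) (γ ^ q) := by rw [mul_assoc, h2, mul_one]
  -- the commutator
  obtain ⟨s₀, hs₀⟩ : ∃ s₀ : GL (Fin n) F, s₀ = t * S * t⁻¹ * S⁻¹ := ⟨_, rfl⟩
  have hs₀T : s₀ ∈ TUin q (⊤ : Submodule F VV) := by
    have h1 : S * t⁻¹ * S⁻¹ ∈ TUin q (⊤ : Submodule F VV) :=
      TUin_top_conj S hSGU _ (Subgroup.inv_mem _ ht)
    have : s₀ = t * (S * t⁻¹ * S⁻¹) := by rw [hs₀]; group
    rw [this]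
    exact Subgroup.mul_mem _ ht h1
  have hs₀v : (s₀ : MM) = SSm q (lam • x) ((t : MM) *ᵥ w) γ * SSm q x (-w) (γ ^ q) := by
    rw [hs₀, Units.val_mul, Units.val_mul, Units.val_mul, hSinv, hSv, conj_SSm t htGU, htx]
  have htw : (t : MM) *ᵥ w = (l * μ) • w₀ + (l * ν) • x := by
    rw [hw, Matrix.mulVec_smul, hμν, smul_add, smul_smul, smul_smul]
  have hs₀x : (s₀ : MM) *ᵥ x = x := by
    rw [hs₀v, ← Matrix.mulVec_mulVec, SSm_mulVec, SSm_mulVec]
    simp only [herm_add_left, herm_sub_left, herm_smul_left, herm_smul_right, herm_neg_right hF,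
      hxx, hxw, htw, herm_add_right hF, hxw₀]
    module
  obtain ⟨v₁, hv₁⟩ : ∃ v₁ : VV, v₁ = y - w + γ ^ q • x := ⟨_, rfl⟩
  have hSy : SSm q x (-w) (γ ^ q) *ᵥ y = v₁ := by
    rw [SSm_mulVec, herm_neg_right hF, hyw, hyx, hv₁]
    module
  have hv₁x : hf v₁ x = 1 := by
    rw [hv₁]
    simp only [herm_add_left, herm_sub_left, herm_smul_left, hyx, hwx, hxx]
    ring
  have hs₀y : ∃ b : F, (s₀ : MM) *ᵥ y = y + l' • w₀ + b • x := by
    refine ⟨γ ^ q + lam ^ q * (l * ν) - hf v₁ ((t : MM) *ᵥ w) * lam + γ * lam ^ q * lam, ?_⟩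
    rw [hs₀v, ← Matrix.mulVec_mulVec, hSy, SSm_mulVec, herm_smul_right, hv₁x, mul_one]
    rw [← hlκ, hκ]
    obtain ⟨Z, hZ⟩ : ∃ Z : F, Z = hf v₁ ((t : MM) *ᵥ w) := ⟨_, rfl⟩
    rw [← hZ, htw, hv₁, hw]
    module
  obtain ⟨b, hb⟩ := hs₀y
  have hs₀GU : s₀ ∈ Cfsg.GU n F q := (Subgroup.mem_inf.mp (TUin_le_SUG hF _ hs₀T)).1
  have hiso1 : hf (y + l' • w₀ + b • x) (y + l' • w₀ + b • x) = 0 := by
    rw [← hb, gu_herm s₀ hs₀GU, hyy]
  have hiso2 : hf (y + l' • w₀ + b' • x) (y + l' • w₀ + b' • x) = 0 := by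
    rw [← hy'eq]; exact hy'y'
  simp only [herm_add_left, herm_add_right hF, herm_smul_left, herm_smul_right, hxx, hyy, hxy, hyx,
    hw₀x, hxw₀, hw₀y, hyw₀] at hiso1 hiso2
  have hc : (b' - b) ^ q = -(b' - b) := by
    rw [sub_pow_q hF]
    linear_combination hiso2 - hiso1
  refine ⟨TTu q x (b' - b) * s₀, Subgroup.mul_mem _ (TTu_mem_TUin ⊤ x _ trivial hxx hc) hs₀T, ?_, ?_⟩
  · rw [gl_mul_mulVec, hs₀x, TTu_mulVec x _ hxx, hxx, mul_zero, zero_smul, add_zero]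
  · rw [gl_mul_mulVec, hb, TTu_mulVec x _ hxx, hy'eq]
    simp only [herm_add_left, herm_smul_left, hyx, hw₀x, hxx]
    module

theorem Hpair3 (hF : Fintype.card F = q ^ 2) (hn : n = 3) (hq : 3 ≤ q) (x y x' y' : VV)
    (hx : hf x x = 0) (hy : hf y y = 0) (hxy : hf x y = 1)
    (hx' : hf x' x' = 0) (hy' : hf y' y' = 0) (hx'y' : hf x' y' = 1) :
    ∃ t ∈ TUin q (⊤ : Submodule F VV), (t : MM) *ᵥ x' = x ∧ (t : MM) *ᵥ y' = y := by
  have hx0 : x ≠ 0 := by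
    intro h; rw [h, herm_zero_left] at hxy; exact zero_ne_one hxy
  have hx'0 : x' ≠ 0 := by
    intro h; rw [h, herm_zero_left] at hx'y'; exact zero_ne_one hx'y'
  have hfr : 3 ≤ Module.finrank F (⊤ : Submodule F VV) := by
    rw [finrank_top, Module.finrank_fin_fun]; omega
  obtain ⟨t₁, ht₁, e₁⟩ := H1 hF ⊤ (ndeg_top hF) hfr x' x trivial trivial hx' hx hx'0 hx0
  have ht₁GU : t₁ ∈ Cfsg.GU n F q := (Subgroup.mem_inf.mp (TUin_le_SUG hF _ ht₁)).1
  have h1 : hf ((t₁ : MM) *ᵥ y') ((t₁ : MM) *ᵥ y') = 0 := by rw [gu_herm t₁ ht₁GU, hy']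
  have h2 : hf x ((t₁ : MM) *ᵥ y') = 1 := by rw [← e₁, gu_herm t₁ ht₁GU, hx'y']
  obtain ⟨s, hs, hsx, hsy⟩ := partner_trans3 hF hn hq x y _ hx hy hxy h1 h2
  refine ⟨s⁻¹ * t₁, Subgroup.mul_mem _ (Subgroup.inv_mem _ hs) ht₁, ?_, ?_⟩
  · rw [gl_mul_mulVec, e₁]
    conv_lhs => rw [← hsx]
    exact gl_inv_mulVec s x
  · rw [gl_mul_mulVec, ← hsy]
    exact gl_inv_mulVec s y

theorem SUG_le_TU3 (hF : Fintype.card F = q ^ 2) (hn : n = 3) (hq : 3 ≤ q) :
    SUG n F q ≤ TUin q (⊤ : Submodule F VV) := by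
  intro g hg
  have hgGU : g ∈ Cfsg.GU n F q := (Subgroup.mem_inf.mp hg).1
  have hn0 : 0 < n := by omega
  obtain ⟨w, hwdef⟩ : ∃ w : VV, w = Pi.single (⟨0, hn0⟩ : Fin n) 1 := ⟨_, rfl⟩
  have hw : hf w w = 1 := by
    rw [hwdef, herm_single_right (q_ne_zero hF)]
    simp
  obtain ⟨l₀, hl₀⟩ := exists_trace hF (1 : F) (one_pow q)
  have hw' : hf ((g : MM) *ᵥ w) ((g : MM) *ᵥ w) = 1 := by rw [gu_herm g hgGU, hw]
  obtain ⟨x₁, y₁, hx₁, hy₁, hx₁y₁, hweq⟩ := unit_to_pair hF (by omega) w hw l₀ hl₀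
  obtain ⟨x₂, y₂, hx₂, hy₂, hx₂y₂, hweq'⟩ := unit_to_pair hF (by omega) _ hw' l₀ hl₀
  obtain ⟨t, ht, e1, e2⟩ := Hpair3 hF hn hq x₁ y₁ x₂ y₂ hx₁ hy₁ hx₁y₁ hx₂ hy₂ hx₂y₂
  have htg : t * g ∈ SUG n F q := (SUG n F q).mul_mem (TUin_le_SUG hF _ ht) hg
  have hfix : ∀ s ∈ ({w} : Set VV), ((t * g : GL (Fin n) F) : MM) *ᵥ s = s := by
    intro s hs
    rw [Set.mem_singleton_iff] at hs
    rw [hs, gl_mul_mulVec, hweq', Matrix.mulVec_add, Matrix.mulVec_smul, e1, e2, ← hweq]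
  have hfrw := finrank_perp_unit hF w hw
  have hmem := base_plane hF ({w} : Set VV) (ndeg_perp_unit hF w hw) (by omega) (t * g) htg hfix
  have hgeq : g = t⁻¹ * (t * g) := by group
  rw [hgeq]
  exact Subgroup.mul_mem _ (Subgroup.inv_mem _ ht) hmem

/-- `SU_n(q)` is generated by the unitary transvections, `n ≥ 3`, `(n, q) ≠ (3, 2)` -/
theorem SUG_le_TU' (hF : Fintype.card F = q ^ 2) (hn : 3 ≤ n) (h32 : ¬ (n = 3 ∧ q = 2)) :
    SUG n F q ≤ TUin q (⊤ : Submodule F VV) := by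
  by_cases h4 : 4 ≤ n
  · exact SUG_le_TU hF h4
  · have hn3 : n = 3 := by omega
    have h2 := two_le_q hF
    have hq : 3 ≤ q := by
      by_contra h
      exact h32 ⟨hn3, by omega⟩
    exact SUG_le_TU3 hF hn3 hq

/-- generation statement inside `Cfsg.SU` -/
theorem SU_closure_transv (hF : Fintype.card F = q ^ 2) (hn : 3 ≤ n) (h32 : ¬ (n = 3 ∧ q = 2)) :
    Subgroup.closure {A : ↥(Cfsg.SU n F q) | ∃ (v : Fin n → F) (c : F),
      Cfsg.hermForm n F q v v = 0 ∧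
      ((A : Matrix.SpecialLinearGroup (Fin n) F) : Matrix (Fin n) (Fin n) F) =
        Cfsg.unitaryTransvection n q v c} = ⊤ := by
  rw [eq_top_iff]
  intro s _
  have h1 : TUin q (⊤ : Submodule F VV) ≤ (Subgroup.closure {A : ↥(Cfsg.SU n F q) |
      ∃ (v : Fin n → F) (c : F), Cfsg.hermForm n F q v v = 0 ∧
      ((A : Matrix.SpecialLinearGroup (Fin n) F) : Matrix (Fin n) (Fin n) F) =
        Cfsg.unitaryTransvection n q v c}).map (suToGL n F q) := by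
    unfold TUin
    rw [Subgroup.closure_le]
    rintro g ⟨z, c, -, hz, hc, rfl⟩
    obtain ⟨A, hA⟩ := suToGL_surj (TTu q z c) (TTu_mem_SUG hF z c hz hc)
    refine ⟨A, Subgroup.subset_closure ⟨z, c, hz, ?_⟩, hA⟩
    rw [← suToGL_val, hA, TTu_val z c hz]
  obtain ⟨a, ha, hae⟩ := h1 (SUG_le_TU' hF hn h32 (suToGL_mem s))
  rw [← suToGL_inj hae]
  exact ha

end usu3

end Cfsg.Agent.helper29
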