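import Mathlib
import Cfsg.Agent.Lib_helper29_USU3
import Cfsg.Agent.Lib_helper29_UPara

set_option autoImplicit false
set_option linter.unusedSectionVars false
set_option linter.unusedVariables false

namespace Cfsg.Agent.helper29

open Matrix Cfsg Cfsg.Agent.helper11.HermCount Cfsg.Agent.helper11.Unitary
open scoped commutatorElement Pointwise

section usimple

variable {F : Type*} [Field F] [Fintype F] {q n : ℕ}

local notation "hf" => Cfsg.hermForm n F q
local notation "VV" => (Fin n → F)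
local notation "MM" => Matrix (Fin n) (Fin n) F

/-- a linear map fixing every isotropic line is a scalar -/
theorem scalar_of_fix_iso (hF : Fintype.card F = q ^ 2) (hn : 2 ≤ n) (g : GL (Fin n) F)
    (hfix : ∀ x : VV, hf x x = 0 → ∃ a : F, (g : MM) *ᵥ x = a • x) :
    ∃ a : F, ∀ v : VV, (g : MM) *ᵥ v = a • v := by
  have hfr : 2 ≤ Module.finrank F (⊤ : Submodule F VV) := by
    rw [finrank_top, Module.finrank_fin_fun]; exact hn
  obtain ⟨x₀, -, y₀, -, hx₀, hy₀, hx₀y₀⟩ := exists_hyp_pair hF ⊤ (ndeg_top hF) hfr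
  have hx₀0 : x₀ ≠ 0 := by
    intro h; rw [h, herm_zero_left] at hx₀y₀; exact zero_ne_one hx₀y₀
  obtain ⟨ε, hε0, hε⟩ := exists_eps hF
  -- step (i)
  have step1 : ∀ x y : VV, hf x x = 0 → hf y y = 0 → hf x y ≠ 0 → ∀ a b : F,
      (g : MM) *ᵥ x = a • x → (g : MM) *ᵥ y = b • y → a = b := by
    intro x y hx hy hxy a b hax hby
    have hyx : hf y x ≠ 0 := fun h => hxy (herm_eq_zero_symm hF _ _ h)
    obtain ⟨c, hc⟩ : ∃ c : F, c = ε / hf y x := ⟨_, rfl⟩
    have hc0 : c ≠ 0 := by rw [hc]; exact div_ne_zero hε0 hyx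
    have hcβ : c * hf y x = ε := by rw [hc]; exact div_mul_cancel₀ _ hyx
    have hcβ' : c ^ q * hf x y = -ε := by
      rw [← herm_conj hF y x, ← mul_pow, hcβ, hε]
    have hz : hf (x + c • y) (x + c • y) = 0 := by
      simp only [herm_add_left, herm_add_right hF, herm_smul_left, herm_smul_right, hx, hy]
      linear_combination hcβ + hcβ'
    obtain ⟨d, hd⟩ := hfix _ hz
    rw [Matrix.mulVec_add, Matrix.mulVec_smul, hax, hby] at hd
    have h0 : (a - d) • x + (c * (b - d)) • y = 0 := by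
      have : (a - d) • x + (c * (b - d)) • y = (a • x + c • b • y) - d • (x + c • y) := by module
      rw [this, hd, sub_self]
    have h1 := congrArg (fun v => hf v y) h0
    simp only [herm_add_left, herm_smul_left, hy, herm_zero_left] at h1
    have h2 := congrArg (fun v => hf v x) h0
    simp only [herm_add_left, herm_smul_left, hx, herm_zero_left] at h2
    have e1 : a - d = 0 := by
      have : (a - d) * hf x y = 0 := by linear_combination h1
      exact (mul_eq_zero.mp this).resolve_right hxy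
    have e2 : b - d = 0 := by
      have : (c * (b - d)) * hf y x = 0 := by linear_combination h2
      have := (mul_eq_zero.mp this).resolve_right hyx
      exact (mul_eq_zero.mp this).resolve_left hc0
    linear_combination e1 - e2
  obtain ⟨a₀, ha₀⟩ := hfix x₀ hx₀
  have hiso : ∀ z : VV, hf z z = 0 → (g : MM) *ᵥ z = a₀ • z := by
    intro z hz
    by_cases hz0 : z = 0
    · rw [hz0, Matrix.mulVec_zero, smul_zero]
    obtain ⟨b, hb⟩ := hfix z hz
    by_cases hxz : hf x₀ z = 0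
    · obtain ⟨c, -, hcc, hcx, hcz⟩ := exists_iso_both hF ⊤ (ndeg_top hF) x₀ z trivial trivial hx₀0
        hz0 hx₀ hz hxz
      obtain ⟨d, hd⟩ := hfix c hcc
      have e1 := step1 c x₀ hcc hx₀ hcx d a₀ hd ha₀
      have e2 := step1 c z hcc hz hcz d b hd hb
      rw [hb, ← e2, e1]
    · have e := step1 x₀ z hx₀ hz hxz a₀ b ha₀ hb
      rw [hb, e]
  refine ⟨a₀, ?_⟩
  intro v
  refine iso_span_induction hF ⊤ (ndeg_top hF) hfr (fun u => (g : MM) *ᵥ u = a₀ • u) ?_ ?_ v trivial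
  · intro a b ha hb
    show (g : MM) *ᵥ (a + b) = a₀ • (a + b)
    rw [Matrix.mulVec_add, ha, hb, smul_add]
  · intro x _ hx
    exact hiso x hx

/-- in dimension three, an isotropic vector orthogonal to the isotropic `x` is a multiple of `x` -/
theorem iso_perp3 (hF : Fintype.card F = q ^ 2) (hn : n = 3) (x z : VV) (hx0 : x ≠ 0)
    (hxx : hf x x = 0) (hzz : hf z z = 0) (hzx : hf z x = 0) : ∃ b : F, z = b • x := by
  obtain ⟨y, -, hyy, hxy⟩ := exists_partner_u hF ⊤ (ndeg_top hF) x trivial hx0 hxx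
  have hyx := herm_yx_of_xy hF x y hxy
  have hN2 := ndeg_sub hF ⊤ (ndeg_top hF) x y trivial trivial hxx hyy hxy
  have hfr2 := finrank_sub hF ⊤ x y trivial trivial hxx hyy hxy
  rw [finrank_top, Module.finrank_fin_fun] at hfr2
  have hfr1 : Module.finrank F ((⊤ : Submodule F VV) ⊓ perpS q ({x, y} : Set VV) :
      Submodule F VV) = 1 := by omega
  have hne : (⊤ : Submodule F VV) ⊓ perpS q ({x, y} : Set VV) ≠ ⊥ := by
    intro h0
    rw [h0, finrank_bot] at hfr1
    omega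
  obtain ⟨w₀, hw₀L, hw₀w₀⟩ := exists_nonisotropic hF _ hN2 hne
  have hw₀P := (Submodule.mem_inf.mp hw₀L).2
  have hw₀x : hf w₀ x = 0 := hw₀P x (by simp)
  have hxw₀ := herm_eq_zero_symm hF _ _ hw₀x
  have hw₀0 : w₀ ≠ 0 := by
    intro h; rw [h, herm_zero_left] at hw₀w₀; exact hw₀w₀ rfl
  have h1 := sub_mem_perp hF x y hxx hyy hxy z
  rw [hzx, zero_smul, sub_zero] at h1
  have hw₀' : (⟨w₀, hw₀L⟩ : ((⊤ : Submodule F VV) ⊓ perpS q ({x, y} : Set VV) :
      Submodule F VV)) ≠ 0 := by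
    intro h
    exact hw₀0 (congrArg Subtype.val h)
  obtain ⟨a, ha⟩ := exists_smul_eq_of_finrank_eq_one hfr1 hw₀'
    ⟨_, Submodule.mem_inf.mpr ⟨trivial, h1⟩⟩
  have ha' : a • w₀ = z - hf z y • x := congrArg Subtype.val ha
  have hzeq : z = a • w₀ + hf z y • x := by rw [ha']; abel
  have h2 := hzz
  rw [hzeq] at h2
  simp only [herm_add_left, herm_add_right hF, herm_smul_left, herm_smul_right, hxx, hw₀x,
    hxw₀] at h2
  have h3 : a * a ^ q * hf w₀ w₀ = 0 := by linear_combination h2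
  have h4 : a * a ^ q = 0 := (mul_eq_zero.mp h3).resolve_right hw₀w₀
  have ha0 : a = 0 := by
    rcases mul_eq_zero.mp h4 with h | h
    · exact h
    · exact (pow_eq_zero_iff (q_ne_zero hF)).mp h
  refine ⟨hf z y, ?_⟩
  have h5 := hzeq
  rw [ha0, zero_smul, zero_add] at h5
  exact h5

theorem stab_span_of_smul (x : VV) (g : GL (Fin n) F) (a : F) (h : (g : MM) *ᵥ x = a • x) :
    g ∈ Cfsg.Geo.subspaceStabilizer (Submodule.span F {x}) := by
  apply stabW_of_fwd
  intro v hv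
  obtain ⟨b, rfl⟩ := Submodule.mem_span_singleton.mp hv
  rw [Matrix.mulVec_smul, h, smul_smul]
  exact Submodule.smul_mem _ _ (Submodule.mem_span_singleton_self x)

theorem smul_of_stab_span (x : VV) (g : GL (Fin n) F)
    (h : g ∈ Cfsg.Geo.subspaceStabilizer (Submodule.span F {x})) :
    ∃ a : F, (g : MM) *ᵥ x = a • x := by
  have := stabW_fwd _ g h x (Submodule.mem_span_singleton_self x)
  obtain ⟨a, ha⟩ := Submodule.mem_span_singleton.mp this
  exact ⟨a, ha.symm⟩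

/-- maximality of the stabiliser of an isotropic point in `SU_n(q)` -/
theorem point_max (hF : Fintype.card F = q ^ 2) (hn : 3 ≤ n) (h32 : ¬ (n = 3 ∧ q = 2)) (x : VV)
    (hx0 : x ≠ 0) (hxx : hf x x = 0) (M : Subgroup (GL (Fin n) F))
    (hHM : Cfsg.Geo.subspaceStabilizer (Submodule.span F {x}) ⊓ SUG n F q ≤ M)
    (hMle : M ≤ SUG n F q) :
    M = Cfsg.Geo.subspaceStabilizer (Submodule.span F {x}) ⊓ SUG n F q ∨ M = SUG n F q := by
  by_cases h4 : 4 ≤ n
  · refine thmPara hF h4 _ ?_ ?_ M hHM hMle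
    · intro h
      exact hx0 (Submodule.span_singleton_eq_bot.mp h)
    · intro u hu v hv
      obtain ⟨a, rfl⟩ := Submodule.mem_span_singleton.mp hu
      obtain ⟨b, rfl⟩ := Submodule.mem_span_singleton.mp hv
      rw [herm_smul_left, herm_smul_right, hxx, mul_zero, mul_zero]
  have hn3 : n = 3 := by omega
  have h2 := two_le_q hF
  have hq : 3 ≤ q := by
    by_contra h
    exact h32 ⟨hn3, by omega⟩
  by_cases hle : M ≤ Cfsg.Geo.subspaceStabilizer (Submodule.span F {x}) ⊓ SUG n F q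
  · left; exact le_antisymm hle hHM
  right
  apply le_antisymm hMle
  obtain ⟨g, hgM, hgH⟩ := SetLike.not_le_iff_exists.mp hle
  have hgS := hMle hgM
  have hgx : ¬ ∃ a : F, (g : MM) *ᵥ x = a • x := by
    rintro ⟨a, ha⟩
    exact hgH ⟨stab_span_of_smul x g a ha, hgS⟩
  have key : ∀ k ∈ SUG n F q, (¬ ∃ a : F, (k : MM) *ᵥ x = a • x) →
      ∃ c : F, c ≠ 0 ∧ hf x (c • ((k : MM) *ᵥ x)) = 1 ∧
        hf (c • ((k : MM) *ᵥ x)) (c • ((k : MM) *ᵥ x)) = 0 := by
    intro k hk hkx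
    have hkGU := (Subgroup.mem_inf.mp hk).1
    have hiso : hf ((k : MM) *ᵥ x) ((k : MM) *ᵥ x) = 0 := by rw [gu_herm k hkGU, hxx]
    have hne : hf ((k : MM) *ᵥ x) x ≠ 0 := by
      intro h0
      exact hkx (iso_perp3 hF hn3 x _ hx0 hxx hiso h0)
    have hne' : hf x ((k : MM) *ᵥ x) ≠ 0 := fun h => hne (herm_eq_zero_symm hF _ _ h)
    refine ⟨((hf x ((k : MM) *ᵥ x))⁻¹) ^ q, pow_ne_zero _ (inv_ne_zero hne'), ?_, ?_⟩
    · rw [herm_smul_right, pow_q_q hF, inv_mul_cancel₀ hne']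
    · rw [herm_smul_smul, hiso, mul_zero]
  obtain ⟨c, hc0, hxy, hyy⟩ := key g hgS hgx
  intro g' hg'
  by_cases hg'W : g' ∈ Cfsg.Geo.subspaceStabilizer (Submodule.span F {x})
  · exact hHM ⟨hg'W, hg'⟩
  have hg'x : ¬ ∃ a : F, (g' : MM) *ᵥ x = a • x := by
    rintro ⟨a, ha⟩
    exact hg'W (stab_span_of_smul x g' a ha)
  obtain ⟨c', hc'0, hxy', hy'y'⟩ := key g' hg' hg'x
  obtain ⟨s, hs, hsx, hsy⟩ := partner_trans3 hF hn3 hq x _ _ hxx hyy hxy hy'y' hxy'
  have hsS := TUin_le_SUG hF _ hs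
  have hsH : s ∈ Cfsg.Geo.subspaceStabilizer (Submodule.span F {x}) ⊓ SUG n F q :=
    ⟨stab_span_of_smul x s 1 (by rw [hsx, one_smul]), hsS⟩
  have hsgx : (s : MM) *ᵥ ((g : MM) *ᵥ x) = (c⁻¹ * c') • ((g' : MM) *ᵥ x) := by
    have := congrArg (fun v => c⁻¹ • v) hsy
    simp only [Matrix.mulVec_smul, smul_smul, inv_mul_cancel₀ hc0, one_smul] at this
    exact this
  obtain ⟨h', hh'⟩ : ∃ h' : GL (Fin n) F, h' = g'⁻¹ * s * g := ⟨_, rfl⟩
  have hh'S : h' ∈ SUG n F q := by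
    rw [hh']
    exact Subgroup.mul_mem _ (Subgroup.mul_mem _ (Subgroup.inv_mem _ hg') hsS) hgS
  have hh'x : (h' : MM) *ᵥ x = (c⁻¹ * c') • x := by
    rw [hh', gl_mul_mulVec, gl_mul_mulVec, hsgx, Matrix.mulVec_smul, gl_inv_mulVec]
  have hh'M : h' ∈ M := hHM ⟨stab_span_of_smul x h' _ hh'x, hh'S⟩
  have : g' = s * g * h'⁻¹ := by rw [hh']; group
  rw [this]
  exact M.mul_mem (M.mul_mem (hHM hsH) hgM) (M.inv_mem hh'M)

/-- a transvection element of `Cfsg.SU` is a commutator -/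
theorem SU_transv_comm (hF : Fintype.card F = q ^ 2) (hn : 3 ≤ n) (A : ↥(Cfsg.SU n F q))
    (v : VV) (c : F) (hv0 : hf v v = 0)
    (hA : ((A : Matrix.SpecialLinearGroup (Fin n) F) : MM) = Cfsg.unitaryTransvection n q v c) :
    A ∈ commutatorSet ↥(Cfsg.SU n F q) := by
  have hAone : ((A : Matrix.SpecialLinearGroup (Fin n) F) : MM) = 1 →
      A ∈ commutatorSet ↥(Cfsg.SU n F q) := by
    intro h1
    have : A = 1 := by
      apply Subtype.ext
      apply Subtype.ext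
      exact h1
    rw [this]
    exact one_mem_commutatorSet _
  by_cases hv : v = 0
  · apply hAone
    rw [hA, hv]
    unfold Cfsg.unitaryTransvection
    simp
  by_cases hc0 : c = 0
  · apply hAone
    rw [hA, hc0]
    unfold Cfsg.unitaryTransvection
    simp
  have hgA : suToGL n F q A = TTu q v c := by
    apply Units.ext
    rw [suToGL_val, hA, TTu_val v c hv0]
  have hGU := (Subgroup.mem_inf.mp (suToGL_mem A)).1
  have hc : c ^ q = -c := by
    obtain ⟨y, -, hyy, hvy⟩ := exists_partner_u hF ⊤ (ndeg_top hF) v trivial hv hv0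
    have hyv := herm_yx_of_xy hF v y hvy
    have h := gu_herm _ hGU y y
    rw [hgA, TTu_mulVec v c hv0, hyv, mul_one] at h
    simp only [herm_add_left, herm_add_right hF, herm_smul_left, herm_smul_right, hyy, hv0, hvy,
      hyv] at h
    linear_combination h
  obtain ⟨g₁, hg₁, g₂, hg₂, hcomm⟩ := TTu_comm hF hn v c hv hv0 hc
  obtain ⟨a₁, ha₁⟩ := suToGL_surj g₁ hg₁
  obtain ⟨a₂, ha₂⟩ := suToGL_surj g₂ hg₂
  rw [mem_commutatorSet_iff]
  refine ⟨a₁, a₂, ?_⟩
  apply suToGL_inj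
  rw [map_commutatorElement, ha₁, ha₂, hcomm, hgA]

theorem SU_perfect (hF : Fintype.card F = q ^ 2) (hn : 3 ≤ n) (h32 : ¬ (n = 3 ∧ q = 2)) :
    commutator ↥(Cfsg.SU n F q) = ⊤ := by
  rw [commutator_eq_closure, eq_top_iff, ← SU_closure_transv hF hn h32]
  apply Subgroup.closure_mono
  rintro A ⟨v, c, hv0, hA⟩
  exact SU_transv_comm hF hn A v c hv0 hA

/-- the root subgroup of an isotropic vector inside `Cfsg.SU` -/
def rootS (hF : Fintype.card F = q ^ 2) (x : VV) (hxx : hf x x = 0) :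
    Subgroup ↥(Cfsg.SU n F q) where
  carrier := {A | ∃ c : F, c ^ q = -c ∧ suToGL n F q A = TTu q x c}
  mul_mem' := by
    rintro A B ⟨c, hc, hA⟩ ⟨d, hd, hB⟩
    refine ⟨c + d, ?_, ?_⟩
    · rw [add_pow_q hF, hc, hd]; ring
    · rw [map_mul, hA, hB, TTu_mul x c d hxx]
  one_mem' := ⟨0, by rw [zero_pow (q_ne_zero hF), neg_zero], by rw [map_one, TTu_zero]⟩
  inv_mem' := by
    rintro A ⟨c, hc, hA⟩
    refine ⟨-c, ?_, ?_⟩
    · rw [neg_pow_q' hF, hc]
    · rw [map_inv, hA, TTu_inv x c hxx]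

theorem rootS_comm (hF : Fintype.card F = q ^ 2) (x : VV) (hxx : hf x x = 0) :
    IsMulCommutative ↥(rootS hF x hxx) := by
  refine ⟨⟨?_⟩⟩
  rintro ⟨A, c, hc, hA⟩ ⟨B, d, hd, hB⟩
  apply Subtype.ext
  apply suToGL_inj
  show suToGL n F q (A * B) = suToGL n F q (B * A)
  rw [map_mul, map_mul, hA, hB, TTu_mul x c d hxx, TTu_mul x d c hxx, add_comm]

theorem SU_normal_cases (hF : Fintype.card F = q ^ 2) (hn : 3 ≤ n) (h32 : ¬ (n = 3 ∧ q = 2))
    (N : Subgroup ↥(Cfsg.SU n F q)) [hNn : N.Normal] :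
    N ≤ Subgroup.center ↥(Cfsg.SU n F q) ∨ N = ⊤ := by
  by_cases hfix : ∀ g ∈ N, ∀ x : VV, hf x x = 0 →
      ∃ a : F, ((suToGL n F q g : GL (Fin n) F) : MM) *ᵥ x = a • x
  · left
    intro g hg
    obtain ⟨a, ha⟩ := scalar_of_fix_iso hF (by omega) (suToGL n F q g) (hfix g hg)
    rw [Subgroup.mem_center_iff]
    intro h
    apply suToGL_inj
    rw [map_mul, map_mul]
    apply gl_ext'
    intro v
    rw [gl_mul_mulVec, gl_mul_mulVec, ha, ha, Matrix.mulVec_smul]
  right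
  push Not at hfix
  obtain ⟨g₀, hg₀N, x, hxx, hg₀x⟩ := hfix
  have hx0 : x ≠ 0 := by
    intro h
    apply hg₀x 0
    rw [h, Matrix.mulVec_zero, smul_zero]
  obtain ⟨Hs, hHs⟩ : ∃ Hs : Subgroup ↥(Cfsg.SU n F q), Hs =
      (Cfsg.Geo.subspaceStabilizer (Submodule.span F {x}) ⊓ SUG n F q).comap (suToGL n F q) :=
    ⟨_, rfl⟩
  have hHM : Cfsg.Geo.subspaceStabilizer (Submodule.span F {x}) ⊓ SUG n F q ≤
      (N ⊔ Hs).map (suToGL n F q) := by
    intro h hh
    obtain ⟨s, hs⟩ := suToGL_surj h hh.2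
    refine ⟨s, ?_, hs⟩
    apply (le_sup_right : Hs ≤ N ⊔ Hs)
    rw [hHs, Subgroup.mem_comap, hs]
    exact hh
  have hMle : (N ⊔ Hs).map (suToGL n F q) ≤ SUG n F q := by
    rintro _ ⟨s, -, rfl⟩
    exact suToGL_mem s
  have htop : N ⊔ Hs = ⊤ := by
    rcases point_max hF hn h32 x hx0 hxx _ hHM hMle with hM | hM
    · exfalso
      have h1 : suToGL n F q g₀ ∈ (N ⊔ Hs).map (suToGL n F q) :=
        ⟨g₀, (le_sup_left : N ≤ N ⊔ Hs) hg₀N, rfl⟩
      rw [hM] at h1
      obtain ⟨a, ha⟩ := smul_of_stab_span x _ h1.1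
      exact hg₀x a ha
    · rw [eq_top_iff]
      intro s _
      have h1 : suToGL n F q s ∈ (N ⊔ Hs).map (suToGL n F q) := by
        rw [hM]; exact suToGL_mem s
      obtain ⟨s', hs', he⟩ := h1
      rw [← suToGL_inj he]
      exact hs'
  -- N ⊔ rootS = ⊤
  obtain ⟨ε, hε0, hε⟩ := exists_eps hF
  have hK : N ⊔ rootS hF x hxx = ⊤ := by
    rw [eq_top_iff, ← SU_closure_transv hF hn h32, Subgroup.closure_le]
    rintro A ⟨v, c, hv0, hA⟩
    have hAone : ((A : Matrix.SpecialLinearGroup (Fin n) F) : MM) = 1 →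
        A ∈ N ⊔ rootS hF x hxx := by
      intro h1
      have : A = 1 := by
        apply Subtype.ext
        apply Subtype.ext
        exact h1
      rw [this]
      exact Subgroup.one_mem _
    by_cases hv : v = 0
    · apply hAone
      rw [hA, hv]
      unfold Cfsg.unitaryTransvection
      simp
    by_cases hc0 : c = 0
    · apply hAone
      rw [hA, hc0]
      unfold Cfsg.unitaryTransvection
      simp
    have hgA : suToGL n F q A = TTu q v c := by
      apply Units.ext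
      rw [suToGL_val, hA, TTu_val v c hv0]
    have hGU := (Subgroup.mem_inf.mp (suToGL_mem A)).1
    have hc : c ^ q = -c := by
      obtain ⟨y, -, hyy, hvy⟩ := exists_partner_u hF ⊤ (ndeg_top hF) v trivial hv hv0
      have hyv := herm_yx_of_xy hF v y hvy
      have h := gu_herm _ hGU y y
      rw [hgA, TTu_mulVec v c hv0, hyv, mul_one] at h
      simp only [herm_add_left, herm_add_right hF, herm_smul_left, herm_smul_right, hyy, hv0, hvy,
        hyv] at h
      linear_combination h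
    obtain ⟨t, ht, hconj⟩ := TTu_conj hF hn x v ε c hx0 hv hxx hv0 hε0 hc0 hε hc
    obtain ⟨t', ht'⟩ := suToGL_surj t (TUin_le_SUG hF _ ht)
    have ht'mem : t' ∈ N ⊔ Hs := by rw [htop]; exact Subgroup.mem_top _
    have hcoe : t' ∈ ((N ⊔ Hs : Subgroup ↥(Cfsg.SU n F q)) : Set ↥(Cfsg.SU n F q)) := ht'mem
    rw [Subgroup.normal_mul] at hcoe
    obtain ⟨n₁, hn₁, h₁, hh₁, hnh⟩ := hcoe
    have hn₁N : n₁ ∈ N := hn₁
    have hh₁' : suToGL n F q h₁ ∈
        Cfsg.Geo.subspaceStabilizer (Submodule.span F {x}) ⊓ SUG n F q := by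
      have : h₁ ∈ Hs := hh₁
      rw [hHs, Subgroup.mem_comap] at this
      exact this
    obtain ⟨a, ha⟩ := smul_of_stab_span x _ hh₁'.1
    have hh₁GU := (Subgroup.mem_inf.mp hh₁'.2).1
    obtain ⟨c₁, hc₁def⟩ : ∃ c₁ : F, c₁ = a * a ^ q * ε := ⟨_, rfl⟩
    have hc₁ : c₁ ^ q = -c₁ := by
      rw [hc₁def, mul_pow, mul_pow, pow_q_q hF, hε]; ring
    obtain ⟨z₁, hz₁⟩ := suToGL_surj (TTu q x c₁) (TTu_mem_SUG hF x c₁ hxx hc₁)
    have hz₁R : z₁ ∈ rootS hF x hxx := ⟨c₁, hc₁, hz₁⟩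
    have hAeq : A = n₁ * (z₁ * n₁⁻¹ * z₁⁻¹) * z₁ := by
      apply suToGL_inj
      have e1 : suToGL n F q (n₁ * (z₁ * n₁⁻¹ * z₁⁻¹) * z₁) =
          suToGL n F q n₁ * suToGL n F q z₁ * (suToGL n F q n₁)⁻¹ := by
        rw [← map_inv, ← map_mul, ← map_mul]
        congr 1
        group
      rw [e1, hgA, ← hconj, ← ht', ← hnh, map_mul, hz₁, hc₁def, ← TTu_smul a x ε hxx, ← ha,
        ← conj_TTu _ hh₁GU x ε hxx]
      group
    rw [hAeq]
    exact Subgroup.mul_mem_sup (N.mul_mem hn₁N (hNn.conj_mem _ (N.inv_mem hn₁N) z₁)) hz₁R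
  have hcomm := Subgroup.Normal.commutator_le_of_self_sup_commutative_eq_top hK
    (rootS_comm hF x hxx)
  rw [SU_perfect hF hn h32] at hcomm
  exact top_le_iff.mp hcomm

theorem SU_center_ne_top (hF : Fintype.card F = q ^ 2) (hn : 3 ≤ n) (h32 : ¬ (n = 3 ∧ q = 2)) :
    Subgroup.center ↥(Cfsg.SU n F q) ≠ ⊤ := by
  intro hc
  rw [← commutator_eq_bot_iff_center_eq_top, SU_perfect hF hn h32] at hc
  have hfr : 2 ≤ Module.finrank F (⊤ : Submodule F VV) := by
    rw [finrank_top, Module.finrank_fin_fun]; omega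
  obtain ⟨x, -, y, -, hxx, hyy, hxy⟩ := exists_hyp_pair hF ⊤ (ndeg_top hF) hfr
  have hyx := herm_yx_of_xy hF x y hxy
  have hx0 : x ≠ 0 := by
    intro h; rw [h, herm_zero_left] at hxy; exact zero_ne_one hxy
  obtain ⟨ε, hε0, hε⟩ := exists_eps hF
  obtain ⟨A, hA⟩ := suToGL_surj (TTu q x ε) (TTu_mem_SUG hF x ε hxx hε)
  have hmem : A ∈ (⊤ : Subgroup ↥(Cfsg.SU n F q)) := Subgroup.mem_top _
  rw [hc, Subgroup.mem_bot] at hmem
  rw [hmem, map_one] at hA
  have h1 := TTu_mulVec x ε hxx y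
  rw [← hA, gl_one_mulVec, hyx, mul_one] at h1
  have h2 : ε • x = 0 := by
    have := congrArg (fun v => v - y) h1
    simpa using this.symm
  rcases smul_eq_zero.mp h2 with h | h
  · exact hε0 h
  · exact hx0 h

/-- `PSU_n(q)` is simple for `n ≥ 3`, `(n, q) ≠ (3, 2)` -/
theorem PSU_simple (hF : Fintype.card F = q ^ 2) (hn : 3 ≤ n) (h32 : ¬ (n = 3 ∧ q = 2)) :
    IsSimpleGroup (Cfsg.PSU n F q) := by
  classical
  haveI : Nontrivial (Cfsg.PSU n F q) := by
    have hne := SU_center_ne_top hF hn h32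
    rw [Ne, ← top_le_iff, SetLike.le_def] at hne
    push Not at hne
    obtain ⟨g, -, hg⟩ := hne
    refine ⟨⟨(g : Cfsg.PSU n F q), 1, ?_⟩⟩
    intro h1
    exact hg ((QuotientGroup.eq_one_iff g).mp h1)
  refine ⟨fun Nbar hN => ?_⟩
  haveI := hN
  obtain ⟨N, hNdef⟩ : ∃ N : Subgroup ↥(Cfsg.SU n F q),
      N = Nbar.comap (QuotientGroup.mk' (Subgroup.center ↥(Cfsg.SU n F q))) := ⟨_, rfl⟩
  haveI : N.Normal := by rw [hNdef]; exact Subgroup.Normal.comap hN _
  rcases SU_normal_cases hF hn h32 N with hle | htop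
  · left
    rw [eq_bot_iff]
    intro xbar hx
    obtain ⟨x, rfl⟩ := QuotientGroup.mk_surjective xbar
    have hxN : x ∈ N := by rw [hNdef]; exact hx
    rw [Subgroup.mem_bot]
    exact (QuotientGroup.eq_one_iff x).mpr (hle hxN)
  · right
    rw [eq_top_iff]
    intro xbar _
    obtain ⟨x, rfl⟩ := QuotientGroup.mk_surjective xbar
    have hxN : x ∈ N := by rw [htop]; exact Subgroup.mem_top x
    rw [hNdef] at hxN
    exact hxN

end usimple

end Cfsg.Agent.helper29
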