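import Mathlib
import Cfsg.Prelude.Def_LieTypeDatum
import Cfsg.Agent.Lib_helper13_AutO1
import Cfsg.Agent.Lib_helper29_USimple

set_option autoImplicit false
set_option linter.unusedSectionVars false
set_option linter.unusedVariables false

/-! Foundations for the inner-diagonal and field automorphisms of `PSU`. -/

namespace Cfsg.Agent.helper14.PsuAut

open Matrix Cfsg Cfsg.Agent.helper29

section basic

variable {F : Type*} [Field F] {q n : ℕ}

local notation "hf" => Cfsg.hermForm n F q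
local notation "VV" => (Fin n → F)
local notation "MM" => Matrix (Fin n) (Fin n) F

/-- the matrix of an element of `SU` -/
def smat (s : ↥(Cfsg.SU n F q)) : MM := ((s : Matrix.SpecialLinearGroup (Fin n) F) : MM)

theorem smat_ext {s t : ↥(Cfsg.SU n F q)} (h : smat s = smat t) : s = t :=
  Subtype.ext (Subtype.ext h)

theorem smat_mul (s t : ↥(Cfsg.SU n F q)) : smat (s * t) = smat s * smat t := rfl

theorem smat_one : smat (1 : ↥(Cfsg.SU n F q)) = 1 := rfl

theorem smat_form (s : ↥(Cfsg.SU n F q)) (u v : VV) : hf (smat s *ᵥ u) (smat s *ᵥ v) = hf u v := s.2 u v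

theorem smat_det (s : ↥(Cfsg.SU n F q)) : (smat s).det = 1 := (s : Matrix.SpecialLinearGroup (Fin n) F).2

/-- the matrix of an element of `GU` -/
def gmat (g : ↥(Cfsg.GU n F q)) : MM := ((g : GL (Fin n) F) : MM)

theorem gmat_mul (g h : ↥(Cfsg.GU n F q)) : gmat (g * h) = gmat g * gmat h := rfl

theorem gmat_one : gmat (1 : ↥(Cfsg.GU n F q)) = 1 := rfl

theorem gmat_form (g : ↥(Cfsg.GU n F q)) (u v : VV) : hf (gmat g *ᵥ u) (gmat g *ᵥ v) = hf u v := g.2 u v

theorem gmat_mul_inv (g : ↥(Cfsg.GU n F q)) : gmat g * gmat g⁻¹ = 1 := by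
  rw [← gmat_mul, mul_inv_cancel, gmat_one]

theorem gmat_inv_mul (g : ↥(Cfsg.GU n F q)) : gmat g⁻¹ * gmat g = 1 := by
  rw [← gmat_mul, inv_mul_cancel, gmat_one]

theorem gmat_ext {g h : ↥(Cfsg.GU n F q)} (H : gmat g = gmat h) : g = h :=
  Subtype.ext (Units.ext H)

/-- conjugation of `SU` by an element of `GU` -/
def conjFun (g : ↥(Cfsg.GU n F q)) (s : ↥(Cfsg.SU n F q)) : ↥(Cfsg.SU n F q) :=
  ⟨⟨gmat g * smat s * gmat g⁻¹, by
    rw [Matrix.det_mul, Matrix.det_mul, smat_det, mul_one, ← Matrix.det_mul, gmat_mul_inv,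
      Matrix.det_one]⟩, by
    intro u v
    show hf ((gmat g * smat s * gmat g⁻¹) *ᵥ u) ((gmat g * smat s * gmat g⁻¹) *ᵥ v) = hf u v
    rw [← Matrix.mulVec_mulVec, ← Matrix.mulVec_mulVec, ← Matrix.mulVec_mulVec,
      ← Matrix.mulVec_mulVec, gmat_form, smat_form, gmat_form]⟩

theorem conjFun_val (g : ↥(Cfsg.GU n F q)) (s : ↥(Cfsg.SU n F q)) : smat (conjFun g s) = gmat g * smat s * gmat g⁻¹ := rfl

theorem conjFun_mul (g : ↥(Cfsg.GU n F q)) (s t : ↥(Cfsg.SU n F q)) : conjFun g (s * t) = conjFun g s * conjFun g t := by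
  apply smat_ext
  rw [smat_mul, conjFun_val, conjFun_val, conjFun_val, smat_mul]
  calc gmat g * (smat s * smat t) * gmat g⁻¹
      = gmat g * smat s * 1 * smat t * gmat g⁻¹ := by
        rw [Matrix.mul_one]; simp only [Matrix.mul_assoc]
    _ = _ := by
        rw [← gmat_inv_mul g]; simp only [Matrix.mul_assoc]

theorem conjFun_comp (g h : ↥(Cfsg.GU n F q)) (s : ↥(Cfsg.SU n F q)) : conjFun (g * h) s = conjFun g (conjFun h s) := by
  apply smat_ext
  rw [conjFun_val, conjFun_val, conjFun_val, _root_.mul_inv_rev, gmat_mul, gmat_mul]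
  simp only [Matrix.mul_assoc]

theorem conjFun_one (s : ↥(Cfsg.SU n F q)) : conjFun (1 : ↥(Cfsg.GU n F q)) s = s := by
  apply smat_ext
  rw [conjFun_val, inv_one, gmat_one, Matrix.one_mul, Matrix.mul_one]

/-- conjugation as an automorphism -/
def conjU (g : ↥(Cfsg.GU n F q)) : ↥(Cfsg.SU n F q) ≃* ↥(Cfsg.SU n F q) where
  toFun := conjFun g
  invFun := conjFun g⁻¹
  left_inv s := by rw [← conjFun_comp, inv_mul_cancel, conjFun_one]
  right_inv s := by rw [← conjFun_comp, mul_inv_cancel, conjFun_one]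
  map_mul' := conjFun_mul g

theorem conjU_val (g : ↥(Cfsg.GU n F q)) (s : ↥(Cfsg.SU n F q)) : smat (conjU g s) = gmat g * smat s * gmat g⁻¹ := rfl

/-- the conjugation action as a homomorphism -/
def conjUHom : ↥(Cfsg.GU n F q) →* MulAut ↥(Cfsg.SU n F q) where
  toFun := conjU
  map_one' := by
    ext s : 1
    exact conjFun_one s
  map_mul' g h := by
    ext s : 1
    exact conjFun_comp g h s

/-- the quotient map onto `PSU` -/
def pmU : ↥(Cfsg.SU n F q) →* Cfsg.PSU n F q := QuotientGroup.mk' (Subgroup.center ↥(Cfsg.SU n F q))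

theorem pmU_surj (x : Cfsg.PSU n F q) : ∃ s : ↥(Cfsg.SU n F q), pmU s = x := QuotientGroup.mk_surjective x

theorem pmU_eq_iff (s t : ↥(Cfsg.SU n F q)) : pmU s = pmU t ↔ s⁻¹ * t ∈ Subgroup.center ↥(Cfsg.SU n F q) :=
  QuotientGroup.eq

/-- the action of `GU` on `PSU` -/
noncomputable def PhiU : ↥(Cfsg.GU n F q) →* MulAut (Cfsg.PSU n F q) :=
  (Cfsg.Agent.helper13.quotAut (Subgroup.center ↥(Cfsg.SU n F q))).comp conjUHom

theorem PhiU_pm (g : ↥(Cfsg.GU n F q)) (s : ↥(Cfsg.SU n F q)) : PhiU g (pmU s) = pmU (conjU g s) := rfl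

/-- the entrywise action of a field automorphism on vectors -/
theorem map_mulVec_comp' (τ : F ≃+* F) (M : MM) (v : VV) :
    M.map τ *ᵥ (τ ∘ v) = τ ∘ (M *ᵥ v) := by
  funext i
  simp only [Function.comp_apply, Matrix.mulVec, dotProduct, map_sum, map_mul, Matrix.map_apply]

theorem comp_symm' (τ : F ≃+* F) (v : VV) : τ ∘ (τ.symm ∘ v) = v := by
  funext i
  simp

theorem herm_map (τ : F ≃+* F) (u v : VV) : hf (τ ∘ u) (τ ∘ v) = τ (hf u v) := by
  unfold Cfsg.hermForm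
  simp only [Function.comp_apply, map_sum, map_mul, map_pow]

theorem map_form (τ : F ≃+* F) (M : MM) (hM : ∀ u v, hf (M *ᵥ u) (M *ᵥ v) = hf u v) (u v : VV) :
    hf (M.map τ *ᵥ u) (M.map τ *ᵥ v) = hf u v := by
  obtain ⟨u', hu'⟩ : ∃ u' : VV, u = τ ∘ u' := ⟨τ.symm ∘ u, (comp_symm' τ u).symm⟩
  obtain ⟨v', hv'⟩ : ∃ v' : VV, v = τ ∘ v' := ⟨τ.symm ∘ v, (comp_symm' τ v).symm⟩
  rw [hu', hv', map_mulVec_comp', map_mulVec_comp', herm_map, hM, herm_map]

/-- the entrywise action of a field automorphism on `SU` -/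
def mapFun (τ : F ≃+* F) (s : ↥(Cfsg.SU n F q)) : ↥(Cfsg.SU n F q) :=
  ⟨⟨(smat s).map τ, by
    have h := RingHom.map_det (τ : F →+* F) (smat s)
    rw [smat_det, map_one] at h
    exact h.symm⟩, by
    intro u v
    exact map_form τ (smat s) (smat_form s) u v⟩

theorem mapFun_val (τ : F ≃+* F) (s : ↥(Cfsg.SU n F q)) : smat (mapFun τ s) = (smat s).map τ := rfl

theorem mapFun_mul (τ : F ≃+* F) (s t : ↥(Cfsg.SU n F q)) : mapFun τ (s * t) = mapFun τ s * mapFun τ t := by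
  apply smat_ext
  rw [smat_mul, mapFun_val, mapFun_val, mapFun_val, smat_mul, Matrix.map_mul]

theorem mapFun_comp (τ ρ : F ≃+* F) (s : ↥(Cfsg.SU n F q)) : mapFun (τ * ρ) s = mapFun τ (mapFun ρ s) := by
  apply smat_ext
  rw [mapFun_val, mapFun_val, mapFun_val]
  ext i j
  rfl

theorem mapFun_one (s : ↥(Cfsg.SU n F q)) : mapFun (1 : F ≃+* F) s = s := by
  apply smat_ext
  rw [mapFun_val]
  ext i j
  rfl

/-- the entrywise field automorphism of `SU` -/
def mapSU (τ : F ≃+* F) : ↥(Cfsg.SU n F q) ≃* ↥(Cfsg.SU n F q) where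
  toFun := mapFun τ
  invFun := mapFun τ⁻¹
  left_inv s := by rw [← mapFun_comp, inv_mul_cancel, mapFun_one]
  right_inv s := by rw [← mapFun_comp, mul_inv_cancel, mapFun_one]
  map_mul' := mapFun_mul τ

theorem mapSU_val (τ : F ≃+* F) (s : ↥(Cfsg.SU n F q)) : smat (mapSU τ s) = (smat s).map τ := rfl

/-- the standard field automorphisms of `PSU` -/
noncomputable def fieldU (τ : F ≃+* F) : MulAut (Cfsg.PSU n F q) :=
  Cfsg.Agent.helper13.quotAut (Subgroup.center ↥(Cfsg.SU n F q)) (mapSU τ : MulAut ↥(Cfsg.SU n F q))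

theorem fieldU_pm (τ : F ≃+* F) (s : ↥(Cfsg.SU n F q)) : fieldU τ (pmU s) = pmU (mapSU τ s) := rfl

theorem fieldU_mul (τ ρ : F ≃+* F) :
    (fieldU (τ * ρ) : MulAut (Cfsg.PSU n F q)) = fieldU τ * fieldU ρ := by
  ext x
  obtain ⟨s, rfl⟩ := pmU_surj x
  rw [MulAut.mul_apply, fieldU_pm, fieldU_pm, fieldU_pm]
  exact congrArg pmU (mapFun_comp τ ρ s)

theorem fieldU_one : (fieldU (1 : F ≃+* F) : MulAut (Cfsg.PSU n F q)) = 1 := by
  ext x
  obtain ⟨s, rfl⟩ := pmU_surj x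
  rw [fieldU_pm, MulAut.one_apply]
  exact congrArg pmU (mapFun_one s)

/-- the entrywise action of a field automorphism on `GU` -/
def mapGU (τ : F ≃+* F) (g : ↥(Cfsg.GU n F q)) : ↥(Cfsg.GU n F q) :=
  ⟨Matrix.GeneralLinearGroup.map (τ : F →+* F) g.1, by
    intro u v
    exact map_form τ (gmat g) (gmat_form g) u v⟩

theorem mapGU_val (τ : F ≃+* F) (g : ↥(Cfsg.GU n F q)) : gmat (mapGU τ g) = (gmat g).map τ := rfl

theorem mapGU_mul (τ : F ≃+* F) (g h : ↥(Cfsg.GU n F q)) : mapGU τ (g * h) = mapGU τ g * mapGU τ h := by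
  apply gmat_ext
  rw [gmat_mul, mapGU_val, mapGU_val, mapGU_val, gmat_mul, Matrix.map_mul]

theorem mapGU_one (τ : F ≃+* F) : mapGU τ (1 : ↥(Cfsg.GU n F q)) = 1 := by
  apply gmat_ext
  rw [mapGU_val, gmat_one, Matrix.map_one _ (map_zero τ) (map_one τ)]

theorem mapGU_inv (τ : F ≃+* F) (g : ↥(Cfsg.GU n F q)) : mapGU τ g⁻¹ = (mapGU τ g)⁻¹ := by
  apply eq_inv_of_mul_eq_one_left
  rw [← mapGU_mul, inv_mul_cancel, mapGU_one]

theorem fieldU_PhiU (τ : F ≃+* F) (g : ↥(Cfsg.GU n F q)) :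
    (fieldU τ : MulAut (Cfsg.PSU n F q)) * PhiU g = PhiU (mapGU τ g) * fieldU τ := by
  ext x
  obtain ⟨s, rfl⟩ := pmU_surj x
  rw [MulAut.mul_apply, MulAut.mul_apply, PhiU_pm, fieldU_pm, fieldU_pm, PhiU_pm]
  congr 1
  apply smat_ext
  rw [mapSU_val, conjU_val, conjU_val, mapSU_val, ← mapGU_inv, mapGU_val, mapGU_val,
    Matrix.map_mul, Matrix.map_mul]

theorem innerDiag_iff (β : MulAut (Cfsg.PSU n F q)) :
    Cfsg.IsInnerDiagonalAutPSU β ↔ ∃ g : ↥(Cfsg.GU n F q), β = PhiU g := by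
  constructor
  · rintro ⟨g, hg, hind⟩
    refine ⟨⟨g, hg⟩, ?_⟩
    ext x
    obtain ⟨s, rfl⟩ := pmU_surj x
    rw [PhiU_pm]
    exact hind s (conjU ⟨g, hg⟩ s) rfl
  · rintro ⟨g, rfl⟩
    refine ⟨g.1, g.2, ?_⟩
    intro s s' hs
    have h2 : conjU g s = s' := by
      apply smat_ext
      rw [conjU_val]
      exact hs.symm
    rw [← h2]
    rfl

theorem inndiagPSU_eq : Cfsg.inndiagPSU n F q = (PhiU (n := n) (F := F) (q := q)).range := by
  unfold Cfsg.inndiagPSU Cfsg.autSubgroupOf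
  have : {β : MulAut (Cfsg.PSU n F q) | Cfsg.IsInnerDiagonalAutPSU β} =
      ((PhiU (n := n) (F := F) (q := q)).range : Set (MulAut (Cfsg.PSU n F q))) := by
    ext β
    rw [Set.mem_ofPred_eq, innerDiag_iff]
    constructor
    · rintro ⟨g, rfl⟩
      exact ⟨g, rfl⟩
    · rintro ⟨g, rfl⟩
      exact ⟨g, rfl⟩
  rw [this, Subgroup.closure_eq]

theorem fieldAut_iff (τ : F ≃+* F) (φ : MulAut (Cfsg.PSU n F q)) :
    Cfsg.IsFieldAutPSUOf τ φ ↔ φ = fieldU τ := by
  constructor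
  · intro h
    ext x
    obtain ⟨s, rfl⟩ := pmU_surj x
    rw [fieldU_pm]
    exact h s (mapSU τ s) rfl
  · rintro rfl
    intro s s' hs
    have h2 : mapSU τ s = s' := by
      apply smat_ext
      rw [mapSU_val]
      exact hs.symm
    rw [← h2]
    rfl

end basic

end Cfsg.Agent.helper14.PsuAut
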