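import Mathlib
import Cfsg.Prelude.Def_RootSubgroups

set_option autoImplicit false

namespace Cfsg.Agent.helper29.SL2gen
open Matrix Cfsg

variable {k : Type*} [Field k]

/-- upper unitriangular element of `SL₂` -/
def UU (t : k) : Matrix.SpecialLinearGroup (Fin 2) k :=
  ⟨!![1, t; 0, 1], by simp [Matrix.det_fin_two]⟩

/-- lower unitriangular element of `SL₂` -/
def LL (t : k) : Matrix.SpecialLinearGroup (Fin 2) k :=
  ⟨!![1, 0; t, 1], by simp [Matrix.det_fin_two]⟩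

theorem UU_mem (t : k) : UU t ∈ Cfsg.upperUnipotentSL2 k :=
  Subgroup.subset_closure ⟨rfl, rfl, rfl⟩

theorem LL_mem (t : k) : LL t ∈ Cfsg.lowerUnipotentSL2 k :=
  Subgroup.subset_closure ⟨rfl, rfl, rfl⟩

theorem upper_set_eq : {g : Matrix.SpecialLinearGroup (Fin 2) k |
    (g : Matrix (Fin 2) (Fin 2) k) 1 0 = 0 ∧ (g : Matrix (Fin 2) (Fin 2) k) 0 0 = 1 ∧
      (g : Matrix (Fin 2) (Fin 2) k) 1 1 = 1} = Set.range (UU (k := k)) := by
  ext g
  constructor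
  · rintro ⟨h1, h2, h3⟩
    refine ⟨(g : Matrix (Fin 2) (Fin 2) k) 0 1, ?_⟩
    apply Subtype.ext
    show !![1, (g : Matrix (Fin 2) (Fin 2) k) 0 1; 0, 1] = (g : Matrix (Fin 2) (Fin 2) k)
    ext i j
    fin_cases i <;> fin_cases j <;> simp [h1, h2, h3]
  · rintro ⟨t, rfl⟩
    exact ⟨rfl, rfl, rfl⟩

theorem lower_set_eq : {g : Matrix.SpecialLinearGroup (Fin 2) k |
    (g : Matrix (Fin 2) (Fin 2) k) 0 1 = 0 ∧ (g : Matrix (Fin 2) (Fin 2) k) 0 0 = 1 ∧
      (g : Matrix (Fin 2) (Fin 2) k) 1 1 = 1} = Set.range (LL (k := k)) := by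
  ext g
  constructor
  · rintro ⟨h1, h2, h3⟩
    refine ⟨(g : Matrix (Fin 2) (Fin 2) k) 1 0, ?_⟩
    apply Subtype.ext
    show !![1, 0; (g : Matrix (Fin 2) (Fin 2) k) 1 0, 1] = (g : Matrix (Fin 2) (Fin 2) k)
    ext i j
    fin_cases i <;> fin_cases j <;> simp [h1, h2, h3]
  · rintro ⟨t, rfl⟩
    exact ⟨rfl, rfl, rfl⟩

theorem upper_eq : Cfsg.upperUnipotentSL2 k = Subgroup.closure (Set.range (UU (k := k))) := by
  unfold Cfsg.upperUnipotentSL2
  rw [upper_set_eq]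

theorem lower_eq : Cfsg.lowerUnipotentSL2 k = Subgroup.closure (Set.range (LL (k := k))) := by
  unfold Cfsg.lowerUnipotentSL2
  rw [lower_set_eq]

theorem decomp_mat (a b c d : k) (hc : c ≠ 0) (hdet : a * d - b * c = 1) :
    !![a, b; c, d] = !![1, (a - 1) / c; 0, 1] * !![1, 0; c, 1] * !![1, (d - 1) / c; 0, 1] := by
  rw [Matrix.mul_fin_two, Matrix.mul_fin_two]
  ext i j
  fin_cases i <;> fin_cases j
  · simp
    field_simp
    ring
  · simp
    field_simp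
    linear_combination -hdet
  · simp
  · simp
    field_simp
    ring

theorem decomp (M : Matrix.SpecialLinearGroup (Fin 2) k)
    (hc : (M : Matrix (Fin 2) (Fin 2) k) 1 0 ≠ 0) :
    M = UU (((M : Matrix (Fin 2) (Fin 2) k) 0 0 - 1) / (M : Matrix (Fin 2) (Fin 2) k) 1 0) *
      LL ((M : Matrix (Fin 2) (Fin 2) k) 1 0) *
      UU (((M : Matrix (Fin 2) (Fin 2) k) 1 1 - 1) / (M : Matrix (Fin 2) (Fin 2) k) 1 0) := by
  have hdet := M.2
  rw [Matrix.det_fin_two] at hdet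
  apply Subtype.ext
  have h := decomp_mat _ _ _ _ hc hdet
  rw [← Matrix.eta_fin_two] at h
  exact h

theorem sl2_gen : Cfsg.upperUnipotentSL2 k ⊔ Cfsg.lowerUnipotentSL2 k = ⊤ := by
  rw [eq_top_iff]
  intro M _
  have key : ∀ M : Matrix.SpecialLinearGroup (Fin 2) k, (M : Matrix (Fin 2) (Fin 2) k) 1 0 ≠ 0 →
      M ∈ Cfsg.upperUnipotentSL2 k ⊔ Cfsg.lowerUnipotentSL2 k := by
    intro M hc
    rw [decomp M hc]
    exact Subgroup.mul_mem _ (Subgroup.mul_mem _ (Subgroup.mem_sup_left (UU_mem _))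
      (Subgroup.mem_sup_right (LL_mem _))) (Subgroup.mem_sup_left (UU_mem _))
  by_cases hc : (M : Matrix (Fin 2) (Fin 2) k) 1 0 = 0
  · have hdet := M.2
    rw [Matrix.det_fin_two, hc, mul_zero, sub_zero] at hdet
    have ha : (M : Matrix (Fin 2) (Fin 2) k) 0 0 ≠ 0 := left_ne_zero_of_mul_eq_one hdet
    have h1 : (LL (1 : k) * M) ∈ Cfsg.upperUnipotentSL2 k ⊔ Cfsg.lowerUnipotentSL2 k := by
      apply key
      show ((!![1, 0; (1 : k), 1] : Matrix (Fin 2) (Fin 2) k) * (M : Matrix (Fin 2) (Fin 2) k)) 1 0 ≠ 0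
      rw [Matrix.mul_apply, Fin.sum_univ_two, hc]
      simpa using ha
    have h2 : M = (LL (1 : k))⁻¹ * (LL (1 : k) * M) := by rw [inv_mul_cancel_left]
    rw [h2]
    exact Subgroup.mul_mem _ (Subgroup.inv_mem _ (Subgroup.mem_sup_right (LL_mem _))) h1
  · exact key M hc

end Cfsg.Agent.helper29.SL2gen
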