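import Mathlib
import Cfsg.Prelude.Def_RootSubgroups
import Cfsg.Agent.Lib_helper29_USU
import Cfsg.Agent.Lib_helper29_USimA
import Cfsg.Agent.Lib_helper29_SL2gen

set_option autoImplicit false
set_option linter.unusedSectionVars false
set_option linter.unusedVariables false

namespace Cfsg.Agent.helper29.URoot

open Matrix Cfsg Cfsg.Agent.helper11.HermCount Cfsg.Agent.helper11.Unitary Cfsg.Agent.helper29
open scoped commutatorElement

variable {F : Type*} [Field F] [Fintype F] {q n : ℕ}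

local notation "hf" => Cfsg.hermForm n F q
local notation "VV" => (Fin n → F)
local notation "MM" => Matrix (Fin n) (Fin n) F

/-- The family of unitary transvection groups, in the form used by the statement. -/
def SSetU (n : ℕ) (F : Type*) [Field F] [Fintype F] (q : ℕ) : Set (Subgroup ↥(Cfsg.SU n F q)) :=
  {A : Subgroup ↥(Cfsg.SU n F q) | ∃ p : Fin n → F, p ≠ 0 ∧ Cfsg.hermForm n F q p p = 0 ∧
    A = Subgroup.closure {g : ↥(Cfsg.SU n F q) |
      (∀ v : Fin n → F, ∃ c : F, ((g : Matrix.SpecialLinearGroup (Fin n) F) : Matrix (Fin n) (Fin n) F) *ᵥ v = v + c • p) ∧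
      ∀ v : Fin n → F, Cfsg.hermForm n F q v p = 0 →
        ((g : Matrix.SpecialLinearGroup (Fin n) F) : Matrix (Fin n) (Fin n) F) *ᵥ v = v}}

/-- The subgroup generated by the transvection groups. -/
def G0 (n : ℕ) (F : Type*) [Field F] [Fintype F] (q : ℕ) : Subgroup ↥(Cfsg.SU n F q) :=
  ⨆ B ∈ SSetU n F q, B

/-- The family inside `G0`. -/
def Fam (n : ℕ) (F : Type*) [Field F] [Fintype F] (q : ℕ) : Set (Subgroup ↥(G0 n F q)) :=
  (fun A : Subgroup ↥(Cfsg.SU n F q) => A.subgroupOf (G0 n F q)) '' SSetU n F q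

/-- action of `SU` on vectors -/
def actS (s : ↥(Cfsg.SU n F q)) (v : VV) : VV :=
  ((s : Matrix.SpecialLinearGroup (Fin n) F) : MM) *ᵥ v

theorem actS_mul (s t : ↥(Cfsg.SU n F q)) (v : VV) : actS (s * t) v = actS s (actS t v) := by
  unfold actS
  rw [Subgroup.coe_mul, Matrix.SpecialLinearGroup.coe_mul, Matrix.mulVec_mulVec]

theorem actS_one (v : VV) : actS (1 : ↥(Cfsg.SU n F q)) v = v := by
  unfold actS
  rw [Subgroup.coe_one, Matrix.SpecialLinearGroup.coe_one, Matrix.one_mulVec]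

theorem herm_actS (s : ↥(Cfsg.SU n F q)) (u v : VV) : hf (actS s u) (actS s v) = hf u v :=
  s.2 u v

theorem ext_actS {s t : ↥(Cfsg.SU n F q)} (H : ∀ v, actS s v = actS t v) : s = t := by
  apply Subtype.ext
  apply Subtype.ext
  rw [Matrix.ext_iff_mulVec]
  exact H

/-- action of `G0` on vectors -/
def act (h : ↥(G0 n F q)) (v : VV) : VV := actS (h : ↥(Cfsg.SU n F q)) v

theorem act_mul (g h : ↥(G0 n F q)) (v : VV) : act (g * h) v = act g (act h v) := by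
  unfold act
  rw [Subgroup.coe_mul, actS_mul]

theorem act_one (v : VV) : act (1 : ↥(G0 n F q)) v = v := by
  unfold act
  rw [Subgroup.coe_one, actS_one]

theorem act_inv_act (g : ↥(G0 n F q)) (v : VV) : act g⁻¹ (act g v) = v := by
  rw [← act_mul, inv_mul_cancel, act_one]

theorem act_act_inv (g : ↥(G0 n F q)) (v : VV) : act g (act g⁻¹ v) = v := by
  rw [← act_mul, mul_inv_cancel, act_one]

theorem act_add (g : ↥(G0 n F q)) (v w : VV) : act g (v + w) = act g v + act g w := by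
  unfold act actS
  exact Matrix.mulVec_add _ _ _

theorem act_smul (g : ↥(G0 n F q)) (c : F) (v : VV) : act g (c • v) = c • act g v := by
  unfold act actS
  exact Matrix.mulVec_smul _ _ _

theorem act_zero (g : ↥(G0 n F q)) : act g (0 : VV) = 0 := by
  unfold act actS
  exact Matrix.mulVec_zero _

theorem herm_act (g : ↥(G0 n F q)) (u v : VV) : hf (act g u) (act g v) = hf u v :=
  herm_actS _ u v

theorem herm_act_inv (g : ↥(G0 n F q)) (u v : VV) : hf (act g⁻¹ u) v = hf u (act g v) := by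
  rw [← herm_act g (act g⁻¹ u) v, act_act_inv]

theorem ext_act {g h : ↥(G0 n F q)} (H : ∀ v, act g v = act h v) : g = h :=
  Subtype.ext (ext_actS H)

theorem act_ne_zero (g : ↥(G0 n F q)) (p : VV) (hp : p ≠ 0) : act g p ≠ 0 := by
  intro h
  apply hp
  have := act_inv_act g p
  rw [h, act_zero] at this
  exact this.symm

/-- existence of the transvection in `SU` -/
theorem exists_tauS (hF : Fintype.card F = q ^ 2) (p : VV) (hp : hf p p = 0) (lam : F)
    (hl : lam ^ q = -lam) :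
    ∃ s : ↥(Cfsg.SU n F q), ∀ v, actS s v = v + (lam * hf v p) • p := by
  obtain ⟨s, hs⟩ := suToGL_surj (TTu q p lam) (TTu_mem_SUG hF p lam hp hl)
  refine ⟨s, fun v => ?_⟩
  have h1 := TTu_mulVec p lam hp v
  rw [← hs] at h1
  exact h1

theorem mem_G0_of_tau (p : VV) (hp0 : p ≠ 0) (hp : hf p p = 0) (lam : F) (s : ↥(Cfsg.SU n F q))
    (hs : ∀ v, actS s v = v + (lam * hf v p) • p) : s ∈ G0 n F q := by
  have h1 : Subgroup.closure {g : ↥(Cfsg.SU n F q) |
      (∀ v : Fin n → F, ∃ c : F, ((g : Matrix.SpecialLinearGroup (Fin n) F) : Matrix (Fin n) (Fin n) F) *ᵥ v = v + c • p) ∧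
      ∀ v : Fin n → F, Cfsg.hermForm n F q v p = 0 →
        ((g : Matrix.SpecialLinearGroup (Fin n) F) : Matrix (Fin n) (Fin n) F) *ᵥ v = v} ≤ G0 n F q :=
    le_iSup₂ (f := fun B (_ : B ∈ SSetU n F q) => B) _ ⟨p, hp0, hp, rfl⟩
  apply h1
  apply Subgroup.subset_closure
  refine ⟨fun v => ⟨lam * hf v p, hs v⟩, fun v hv => ?_⟩
  have := hs v
  rw [hv, mul_zero, zero_smul, add_zero] at this
  exact this

/-- The transvection `v ↦ v + lam * h(v, p) p` as an element of `G0` (trivial unless `p ≠ 0` is isotropic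
and `lam ^ q = -lam`). -/
noncomputable def tau (hF : Fintype.card F = q ^ 2) (p : VV) (lam : F) : ↥(G0 n F q) := by
  classical
  exact if h : p ≠ 0 ∧ hf p p = 0 ∧ lam ^ q = -lam then
    ⟨(exists_tauS hF p h.2.1 lam h.2.2).choose,
      mem_G0_of_tau p h.1 h.2.1 lam _ (exists_tauS hF p h.2.1 lam h.2.2).choose_spec⟩
  else 1

theorem act_tau (hF : Fintype.card F = q ^ 2) (p : VV) (hp0 : p ≠ 0) (hp : hf p p = 0) (lam : F)
    (hl : lam ^ q = -lam) (v : VV) : act (tau hF p lam) v = v + (lam * hf v p) • p := by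
  unfold tau
  rw [dif_pos ⟨hp0, hp, hl⟩]
  exact (exists_tauS hF p hp lam hl).choose_spec v


/-! ### trace-zero scalars -/

theorem negq (hF : Fintype.card F = q ^ 2) (x : F) : (-x) ^ q = -(x ^ q) := by
  have h := sub_pow_q hF 0 x
  rw [zero_pow (q_ne_zero hF), zero_sub, zero_sub] at h
  exact h

theorem tz_zero (hF : Fintype.card F = q ^ 2) : (0 : F) ^ q = -0 := by
  rw [zero_pow (q_ne_zero hF), neg_zero]

theorem tz_add (hF : Fintype.card F = q ^ 2) {a b : F} (ha : a ^ q = -a) (hb : b ^ q = -b) :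
    (a + b) ^ q = -(a + b) := by
  rw [add_pow_q hF, ha, hb]
  ring

theorem tz_neg (hF : Fintype.card F = q ^ 2) {a : F} (ha : a ^ q = -a) : (-a) ^ q = -(-a) := by
  rw [negq hF, ha]

theorem tz_norm (hF : Fintype.card F = q ^ 2) (l : F) {a : F} (ha : a ^ q = -a) :
    (l * l ^ q * a) ^ q = -(l * l ^ q * a) := by
  rw [mul_pow, mul_pow, pow_q_q hF, ha]
  ring

theorem tz_fixed {x a : F} (hx : x ^ q = x) (ha : a ^ q = -a) : (x * a) ^ q = -(x * a) := by
  rw [mul_pow, hx, ha]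
  ring

theorem herm_zero_right' (hF : Fintype.card F = q ^ 2) (u : VV) : hf u 0 = 0 :=
  herm_eq_zero_symm hF 0 u (herm_zero_left u)

theorem nondeg (hF : Fintype.card F = q ^ 2) (p : VV) (hp : p ≠ 0) : ∃ v : VV, hf v p ≠ 0 := by
  by_contra hcon
  push Not at hcon
  apply hp
  apply ndeg_top hF p trivial
  intro v _
  exact herm_eq_zero_symm hF v p (hcon v)

/-! ### transvections -/

theorem tau_mul (hF : Fintype.card F = q ^ 2) (p : VV) (hp0 : p ≠ 0) (hp : hf p p = 0) (a b : F)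
    (ha : a ^ q = -a) (hb : b ^ q = -b) : tau hF p a * tau hF p b = tau hF p (a + b) := by
  apply ext_act
  intro v
  rw [act_mul, act_tau hF p hp0 hp a ha, act_tau hF p hp0 hp b hb,
    act_tau hF p hp0 hp (a + b) (tz_add hF ha hb), herm_add_left, herm_smul_left, hp]
  module

theorem tau_zero (hF : Fintype.card F = q ^ 2) (p : VV) : tau hF p (0 : F) = 1 := by
  by_cases h : p ≠ 0 ∧ hf p p = 0
  · apply ext_act
    intro v
    rw [act_tau hF p h.1 h.2 0 (tz_zero hF), act_one, zero_mul, zero_smul, add_zero]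
  · unfold tau
    rw [dif_neg]
    intro h'
    exact h ⟨h'.1, h'.2.1⟩

theorem tau_inv (hF : Fintype.card F = q ^ 2) (p : VV) (hp0 : p ≠ 0) (hp : hf p p = 0) (a : F)
    (ha : a ^ q = -a) : (tau hF p a)⁻¹ = tau hF p (-a) := by
  rw [inv_eq_iff_mul_eq_one, tau_mul hF p hp0 hp a (-a) ha (tz_neg hF ha), add_neg_cancel, tau_zero]

theorem herm_smul_smul' (l : F) (p : VV) (hp : hf p p = 0) : hf (l • p) (l • p) = 0 := by
  rw [herm_smul_left, herm_smul_right, hp, mul_zero, mul_zero]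

theorem tau_smul (hF : Fintype.card F = q ^ 2) (p : VV) (hp0 : p ≠ 0) (hp : hf p p = 0) (l : F)
    (hl : l ≠ 0) (a : F) (ha : a ^ q = -a) : tau hF (l • p) a = tau hF p (l * l ^ q * a) := by
  apply ext_act
  intro v
  rw [act_tau hF (l • p) (smul_ne_zero hl hp0) (herm_smul_smul' l p hp) a ha,
    act_tau hF p hp0 hp _ (tz_norm hF l ha), herm_smul_right, smul_smul]
  congr 2
  ring

theorem conj_tau (hF : Fintype.card F = q ^ 2) (g : ↥(G0 n F q)) (p : VV) (hp0 : p ≠ 0)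
    (hp : hf p p = 0) (a : F) (ha : a ^ q = -a) :
    g * tau hF p a * g⁻¹ = tau hF (act g p) a := by
  have hp' : hf (act g p) (act g p) = 0 := by rw [herm_act, hp]
  apply ext_act
  intro v
  rw [act_mul, act_mul, act_tau hF p hp0 hp a ha, act_tau hF _ (act_ne_zero g p hp0) hp' a ha,
    act_add, act_act_inv, act_smul, herm_act_inv]

theorem tau_eq_one_iff (hF : Fintype.card F = q ^ 2) (p : VV) (hp0 : p ≠ 0) (hp : hf p p = 0)
    (a : F) (ha : a ^ q = -a) : tau hF p a = 1 ↔ a = 0 := by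
  constructor
  · intro h
    obtain ⟨v, hv⟩ := nondeg hF p hp0
    have h1 := act_tau hF p hp0 hp a ha v
    rw [h, act_one] at h1
    have h2 : (a * hf v p) • p = 0 := by
      have := h1.symm
      rwa [add_eq_left] at this
    rcases smul_eq_zero.mp h2 with h3 | h3
    · rcases mul_eq_zero.mp h3 with h4 | h4
      · exact h4
      · exact absurd h4 hv
    · exact absurd h3 hp0
  · intro h
    rw [h, tau_zero]

/-- The transvection group of an isotropic vector, inside `G0`. -/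
def Tp (hF : Fintype.card F = q ^ 2) (p : VV) : Subgroup ↥(G0 n F q) :=
  Subgroup.closure {g | ∃ a : F, a ^ q = -a ∧ g = tau hF p a}

theorem tau_mem (hF : Fintype.card F = q ^ 2) (p : VV) (a : F) (ha : a ^ q = -a) :
    tau hF p a ∈ Tp hF p := Subgroup.subset_closure ⟨a, ha, rfl⟩

theorem mem_Tp (hF : Fintype.card F = q ^ 2) (p : VV) (hp0 : p ≠ 0) (hp : hf p p = 0)
    {g : ↥(G0 n F q)} : g ∈ Tp hF p ↔ ∃ a : F, a ^ q = -a ∧ g = tau hF p a := by
  constructor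
  · intro hg
    induction hg using Subgroup.closure_induction with
    | mem x hx => exact hx
    | one => exact ⟨0, tz_zero hF, (tau_zero hF p).symm⟩
    | mul x y _ _ hx hy =>
      obtain ⟨a, ha, rfl⟩ := hx
      obtain ⟨b, hb, rfl⟩ := hy
      exact ⟨a + b, tz_add hF ha hb, tau_mul hF p hp0 hp a b ha hb⟩
    | inv x _ hx =>
      obtain ⟨a, ha, rfl⟩ := hx
      exact ⟨-a, tz_neg hF ha, tau_inv hF p hp0 hp a ha⟩
  · rintro ⟨a, ha, rfl⟩
    exact tau_mem hF p a ha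


theorem norm_ne_zero {l : F} (hl : l ≠ 0) : l * l ^ q ≠ 0 := mul_ne_zero hl (pow_ne_zero q hl)

theorem norm_fixed (hF : Fintype.card F = q ^ 2) (l : F) : (l * l ^ q) ^ q = l * l ^ q := by
  rw [mul_pow, pow_q_q hF, mul_comm]

theorem inv_fixed {x : F} (hx : x ^ q = x) : (x⁻¹) ^ q = x⁻¹ := by
  rw [inv_pow, hx]

theorem Tp_smul (hF : Fintype.card F = q ^ 2) (p : VV) (hp0 : p ≠ 0) (hp : hf p p = 0) (l : F)
    (hl : l ≠ 0) : Tp hF (l • p) = Tp hF p := by
  ext g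
  rw [mem_Tp hF (l • p) (smul_ne_zero hl hp0) (herm_smul_smul' l p hp), mem_Tp hF p hp0 hp]
  constructor
  · rintro ⟨a, ha, rfl⟩
    exact ⟨l * l ^ q * a, tz_norm hF l ha, tau_smul hF p hp0 hp l hl a ha⟩
  · rintro ⟨a, ha, rfl⟩
    refine ⟨(l * l ^ q)⁻¹ * a, tz_fixed (inv_fixed (norm_fixed hF l)) ha, ?_⟩
    rw [tau_smul hF p hp0 hp l hl _ (tz_fixed (inv_fixed (norm_fixed hF l)) ha)]
    congr 1
    rw [← mul_assoc, mul_inv_cancel₀ (norm_ne_zero hl), one_mul]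

theorem conj_Tp (hF : Fintype.card F = q ^ 2) (g : ↥(G0 n F q)) (p : VV) (hp0 : p ≠ 0)
    (hp : hf p p = 0) : Cfsg.conjBy (Tp hF p) g = Tp hF (act g p) := by
  have hp' : hf (act g p) (act g p) = 0 := by rw [herm_act, hp]
  ext x
  rw [mem_Tp hF _ (act_ne_zero g p hp0) hp']
  constructor
  · rintro ⟨y, hy, rfl⟩
    obtain ⟨a, ha, rfl⟩ := (mem_Tp hF p hp0 hp).mp hy
    exact ⟨a, ha, conj_tau hF g p hp0 hp a ha⟩
  · rintro ⟨a, ha, rfl⟩
    exact ⟨tau hF p a, tau_mem hF p a ha, conj_tau hF g p hp0 hp a ha⟩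

theorem Tp_comm (hF : Fintype.card F = q ^ 2) (p : VV) (hp0 : p ≠ 0) (hp : hf p p = 0) :
    ∀ a ∈ Tp hF p, ∀ b ∈ Tp hF p, a * b = b * a := by
  intro a ha b hb
  obtain ⟨c, hc, rfl⟩ := (mem_Tp hF p hp0 hp).mp ha
  obtain ⟨d, hd, rfl⟩ := (mem_Tp hF p hp0 hp).mp hb
  rw [tau_mul hF p hp0 hp c d hc hd, tau_mul hF p hp0 hp d c hd hc, add_comm]

theorem Tp_ne_bot (hF : Fintype.card F = q ^ 2) (p : VV) (hp0 : p ≠ 0) (hp : hf p p = 0) :
    Tp hF p ≠ ⊥ := by
  obtain ⟨ε, hε0, hε⟩ := exists_eps hF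
  intro h
  have h1 : tau hF p ε ∈ (⊥ : Subgroup ↥(G0 n F q)) := h ▸ tau_mem hF p ε hε
  rw [Subgroup.mem_bot, tau_eq_one_iff hF p hp0 hp ε hε] at h1
  exact hε0 h1

/-- characterisation of the generators in the statement -/
theorem char_gen (hF : Fintype.card F = q ^ 2) (p : VV) (hp0 : p ≠ 0) (hp : hf p p = 0)
    (s : ↥(Cfsg.SU n F q))
    (h1 : ∀ v : VV, ∃ c : F, actS s v = v + c • p) (h2 : ∀ v : VV, hf v p = 0 → actS s v = v) :
    ∃ a : F, a ^ q = -a ∧ ∀ v, actS s v = v + (a * hf v p) • p := by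
  obtain ⟨u, hu⟩ := nondeg hF p hp0
  obtain ⟨c₀, hc₀⟩ := h1 u
  obtain ⟨al, hal⟩ : ∃ al, al = hf u p := ⟨_, rfl⟩
  have hal0 : al ≠ 0 := hal ▸ hu
  have hpu : hf p u = al ^ q := by rw [hal, herm_conj hF]
  have key : ∀ v, actS s v = v + (c₀ / al * hf v p) • p := by
    intro v
    obtain ⟨w, hw⟩ : ∃ w : VV, w = v - (hf v p / al) • u := ⟨_, rfl⟩
    have hwp : hf w p = 0 := by
      rw [hw, herm_sub_left, herm_smul_left, ← hal]
      field_simp
      ring
    have hsw := h2 w hwp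
    have hv : v = w + (hf v p / al) • u := by rw [hw]; abel
    have h3 : actS s v = actS s w + (hf v p / al) • actS s u := by
      conv_lhs => rw [hv]
      unfold actS
      rw [Matrix.mulVec_add, Matrix.mulVec_smul]
    rw [h3, hsw, hc₀, hw]
    have : c₀ / al * hf v p = hf v p / al * c₀ := by ring
    rw [this]
    module
  refine ⟨c₀ / al, ?_, key⟩
  -- unitarity
  have h4 := herm_actS s u u
  rw [hc₀, herm_add_left, herm_add_right hF, herm_add_right hF, herm_smul_left, herm_smul_left,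
    herm_smul_right, herm_smul_right, hp, hpu, ← hal] at h4
  have h5 : c₀ ^ q * al + c₀ * al ^ q = 0 := by linear_combination h4
  rw [div_pow]
  have hq0 : al ^ q ≠ 0 := pow_ne_zero q hal0
  field_simp
  linear_combination h5

theorem closure_subgroupOf_eq_Tp (hF : Fintype.card F = q ^ 2) (p : VV) (hp0 : p ≠ 0) (hp : hf p p = 0) :
    (Subgroup.closure {g : ↥(Cfsg.SU n F q) |
      (∀ v : Fin n → F, ∃ c : F, ((g : Matrix.SpecialLinearGroup (Fin n) F) : Matrix (Fin n) (Fin n) F) *ᵥ v = v + c • p) ∧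
      ∀ v : Fin n → F, Cfsg.hermForm n F q v p = 0 →
        ((g : Matrix.SpecialLinearGroup (Fin n) F) : Matrix (Fin n) (Fin n) F) *ᵥ v = v}).subgroupOf (G0 n F q) =
      Tp hF p := by
  apply le_antisymm
  · -- every generator is the image of some `tau`
    have h1 : Subgroup.closure {g : ↥(Cfsg.SU n F q) |
        (∀ v : Fin n → F, ∃ c : F, ((g : Matrix.SpecialLinearGroup (Fin n) F) : Matrix (Fin n) (Fin n) F) *ᵥ v = v + c • p) ∧
        ∀ v : Fin n → F, Cfsg.hermForm n F q v p = 0 →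
          ((g : Matrix.SpecialLinearGroup (Fin n) F) : Matrix (Fin n) (Fin n) F) *ᵥ v = v} ≤
        (Tp hF p).map (G0 n F q).subtype := by
      rw [Subgroup.closure_le]
      rintro s ⟨hs1, hs2⟩
      obtain ⟨a, ha, hsa⟩ := char_gen hF p hp0 hp s hs1 hs2
      refine ⟨tau hF p a, tau_mem hF p a ha, ?_⟩
      apply ext_actS
      intro v
      rw [hsa v]
      exact act_tau hF p hp0 hp a ha v
    intro h hh
    rw [Subgroup.mem_subgroupOf] at hh
    obtain ⟨h', hh', he⟩ := h1 hh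
    have : h' = h := Subtype.ext he
    rw [← this]
    exact hh'
  · rw [Tp, Subgroup.closure_le]
    rintro g ⟨a, ha, rfl⟩
    rw [SetLike.mem_coe, Subgroup.mem_subgroupOf]
    apply Subgroup.subset_closure
    refine ⟨fun v => ⟨a * hf v p, act_tau hF p hp0 hp a ha v⟩, fun v hv => ?_⟩
    have := act_tau hF p hp0 hp a ha v
    rw [hv, mul_zero, zero_smul, add_zero] at this
    exact this

theorem mem_Fam (hF : Fintype.card F = q ^ 2) {A : Subgroup ↥(G0 n F q)} :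
    A ∈ Fam n F q ↔ ∃ p : VV, p ≠ 0 ∧ hf p p = 0 ∧ A = Tp hF p := by
  constructor
  · rintro ⟨B, ⟨p, hp0, hp, rfl⟩, rfl⟩
    exact ⟨p, hp0, hp, closure_subgroupOf_eq_Tp hF p hp0 hp⟩
  · rintro ⟨p, hp0, hp, rfl⟩
    exact ⟨_, ⟨p, hp0, hp, rfl⟩, closure_subgroupOf_eq_Tp hF p hp0 hp⟩

theorem Tp_mem_Fam (hF : Fintype.card F = q ^ 2) (p : VV) (hp0 : p ≠ 0) (hp : hf p p = 0) :
    Tp hF p ∈ Fam n F q := (mem_Fam hF).mpr ⟨p, hp0, hp, rfl⟩


/-! ### pairs -/

theorem act_tau_tau (hF : Fintype.card F = q ^ 2) (p p' : VV) (hp0 : p ≠ 0) (hp : hf p p = 0)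
    (hp'0 : p' ≠ 0) (hp' : hf p' p' = 0) (c d : F) (hc : c ^ q = -c) (hd : d ^ q = -d) (v : VV) :
    act (tau hF p c * tau hF p' d) v = v + (d * hf v p') • p' +
      (c * (hf v p + d * hf v p' * hf p' p)) • p := by
  rw [act_mul, act_tau hF p' hp'0 hp' d hd, act_tau hF p hp0 hp c hc, herm_add_left, herm_smul_left]

theorem tau_comm (hF : Fintype.card F = q ^ 2) (p p' : VV) (hp0 : p ≠ 0) (hp : hf p p = 0)
    (hp'0 : p' ≠ 0) (hp' : hf p' p' = 0) (h : hf p p' = 0) (c d : F) (hc : c ^ q = -c)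
    (hd : d ^ q = -d) : tau hF p c * tau hF p' d = tau hF p' d * tau hF p c := by
  have h' : hf p' p = 0 := herm_eq_zero_symm hF p p' h
  apply ext_act
  intro v
  rw [act_tau_tau hF p p' hp0 hp hp'0 hp' c d hc hd, act_tau_tau hF p' p hp'0 hp' hp0 hp d c hd hc,
    h, h', mul_zero, mul_zero, add_zero, add_zero]
  abel

theorem form_zero_of_comm (hF : Fintype.card F = q ^ 2) (x y : VV) (hx0 : x ≠ 0) (hx : hf x x = 0)
    (hy0 : y ≠ 0) (hy : hf y y = 0) (c₁ c₂ : F) (hc₁ : c₁ ^ q = -c₁) (hc₂ : c₂ ^ q = -c₂)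
    (h1 : c₁ ≠ 0) (h2 : c₂ ≠ 0)
    (h : tau hF x c₁ * tau hF y c₂ = tau hF y c₂ * tau hF x c₁) : hf x y = 0 := by
  have h3 := congrArg (fun g => act g x) h
  simp only [act_tau_tau hF x y hx0 hx hy0 hy c₁ c₂ hc₁ hc₂, act_tau_tau hF y x hy0 hy hx0 hx c₂ c₁ hc₂ hc₁,
    hx] at h3
  have h4 : (c₁ * c₂ * (hf x y * hf y x)) • x = 0 := by
    have h6 : (c₁ * c₂ * (hf x y * hf y x)) • x =
        (x + (c₂ * hf x y) • y + (c₁ * (0 + c₂ * hf x y * hf y x)) • x) -
        (x + (c₁ * 0) • x + (c₂ * (hf x y + c₁ * 0 * hf x y)) • y) := by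
      module
    rw [h6, h3, sub_self]
  rcases smul_eq_zero.mp h4 with h5 | h5
  · rcases mul_eq_zero.mp h5 with h6 | h6
    · rcases mul_eq_zero.mp h6 with h7 | h7
      · exact absurd h7 h1
      · exact absurd h7 h2
    · rcases mul_eq_zero.mp h6 with h7 | h7
      · exact h7
      · exact herm_eq_zero_symm hF y x h7
  · exact absurd h5 hx0

theorem comm_eq_bot (hF : Fintype.card F = q ^ 2) (p p' : VV) (hp0 : p ≠ 0) (hp : hf p p = 0)
    (hp'0 : p' ≠ 0) (hp' : hf p' p' = 0) (h : hf p p' = 0) : ⁅Tp hF p, Tp hF p'⁆ = ⊥ := by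
  rw [Subgroup.commutator_eq_bot_iff_le_centralizer]
  intro a ha
  obtain ⟨c, hc, rfl⟩ := (mem_Tp hF p hp0 hp).mp ha
  rw [Subgroup.mem_centralizer_iff]
  intro b hb
  obtain ⟨d, hd, rfl⟩ := (mem_Tp hF p' hp'0 hp').mp hb
  exact (tau_comm hF p p' hp0 hp hp'0 hp' h c d hc hd).symm

theorem ne_zero_of_form_left {p p' : VV} (h : hf p p' ≠ 0) : p ≠ 0 := by
  rintro rfl
  exact h (herm_zero_left p')

theorem ne_zero_of_form_right (hF : Fintype.card F = q ^ 2) {p p' : VV} (h : hf p p' ≠ 0) : p' ≠ 0 := by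
  rintro rfl
  exact h (herm_zero_right' hF p)

theorem form_swap_ne (hF : Fintype.card F = q ^ 2) {p p' : VV} (h : hf p p' ≠ 0) : hf p' p ≠ 0 :=
  fun h' => h (herm_eq_zero_symm hF p' p h')

theorem Tp_ne (hF : Fintype.card F = q ^ 2) (p p' : VV) (hp : hf p p = 0) (hp' : hf p' p' = 0)
    (h : hf p p' ≠ 0) : Tp hF p ≠ Tp hF p' := by
  have hp0 := ne_zero_of_form_left h
  have hp'0 := ne_zero_of_form_right hF h
  obtain ⟨ε, hε0, hε⟩ := exists_eps hF
  intro heq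
  have h1 : tau hF p ε ∈ Tp hF p' := heq ▸ tau_mem hF p ε hε
  have h2 := Tp_comm hF p' hp'0 hp' _ h1 _ (tau_mem hF p' ε hε)
  exact h (form_zero_of_comm hF p p' hp0 hp hp'0 hp' ε ε hε hε hε0 hε0 h2)

/-- the element moving `p` to a multiple of `p'`, and the rank one condition -/
theorem rankOne_aux (hF : Fintype.card F = q ^ 2) (p p' : VV) (hp : hf p p = 0) (hp' : hf p' p' = 0)
    (h : hf p p' ≠ 0) (c : F) (hc : c ^ q = -c) (hc0 : c ≠ 0) :
    ∃ d : F, d ^ q = -d ∧ d ≠ 0 ∧ ∃ l : F, l ≠ 0 ∧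
      act (tau hF p' d)⁻¹ p = l • act (tau hF p c)⁻¹ p' := by
  have hp0 := ne_zero_of_form_left h
  have hp'0 := ne_zero_of_form_right hF h
  obtain ⟨mu, hmu⟩ : ∃ mu, mu = hf p p' := ⟨_, rfl⟩
  have hmu0 : mu ≠ 0 := hmu ▸ h
  have hmu' : hf p' p = mu ^ q := by rw [hmu, herm_conj hF]
  have hmuq0 : mu ^ q ≠ 0 := pow_ne_zero q hmu0
  have hN : (mu * mu ^ q) ^ q = mu * mu ^ q := norm_fixed hF mu
  have hd : ((c * (mu * mu ^ q))⁻¹) ^ q = -(c * (mu * mu ^ q))⁻¹ := by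
    rw [inv_pow, mul_pow, hN, hc, neg_mul, inv_neg]
  have hd0 : (c * (mu * mu ^ q))⁻¹ ≠ 0 := inv_ne_zero (mul_ne_zero hc0 (norm_ne_zero hmu0))
  refine ⟨(c * (mu * mu ^ q))⁻¹, hd, hd0, -(c * mu ^ q)⁻¹, neg_ne_zero.mpr (inv_ne_zero (mul_ne_zero hc0 hmuq0)), ?_⟩
  rw [tau_inv hF p' hp'0 hp' _ hd, tau_inv hF p hp0 hp c hc, act_tau hF p' hp'0 hp' _ (tz_neg hF hd),
    act_tau hF p hp0 hp _ (tz_neg hF hc), ← hmu, hmu', smul_add, smul_smul]
  have e1 : -(c * mu ^ q)⁻¹ * (-c * mu ^ q) = 1 := by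
    field_simp
  have e2 : -(c * (mu * mu ^ q))⁻¹ * mu = -(c * mu ^ q)⁻¹ := by
    field_simp
  rw [e1, e2, one_smul, add_comm]

theorem rankOneCond (hF : Fintype.card F = q ^ 2) (p p' : VV) (hp : hf p p = 0) (hp' : hf p' p' = 0)
    (h : hf p p' ≠ 0) : Cfsg.RankOneCondition (Tp hF p) (Tp hF p') := by
  have hp0 := ne_zero_of_form_left h
  have hp'0 := ne_zero_of_form_right hF h
  intro a ha ha1
  obtain ⟨c, hc, rfl⟩ := (mem_Tp hF p hp0 hp).mp ha
  have hc0 : c ≠ 0 := fun hc0 => ha1 ((tau_eq_one_iff hF p hp0 hp c hc).mpr hc0)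
  obtain ⟨d, hd, hd0, l, hl0, hl⟩ := rankOne_aux hF p p' hp hp' h c hc hc0
  refine ⟨tau hF p' d, tau_mem hF p' d hd, ?_, ?_⟩
  · rw [Ne, tau_eq_one_iff hF p' hp'0 hp' d hd]
    exact hd0
  · rw [conj_Tp hF _ p hp0 hp, conj_Tp hF _ p' hp'0 hp', hl,
      Tp_smul hF _ (act_ne_zero _ p' hp'0) (by rw [herm_act, hp']) l hl0]

theorem rankOnePair (hF : Fintype.card F = q ^ 2) (p p' : VV) (hp : hf p p = 0) (hp' : hf p' p' = 0)
    (h : hf p p' ≠ 0) : Cfsg.IsRankOnePair (Tp hF p) (Tp hF p') := by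
  have hp0 := ne_zero_of_form_left h
  have hp'0 := ne_zero_of_form_right hF h
  refine ⟨Tp_ne hF p p' hp hp' h, ?_, ?_, rankOneCond hF p p' hp hp' h,
    rankOneCond hF p' p hp' hp (form_swap_ne hF h)⟩
  · let _ : CommGroup (Tp hF p) :=
      { (inferInstance : Group (Tp hF p)) with
        mul_comm := fun a b => Subtype.ext (Tp_comm hF p hp0 hp a a.2 b b.2) }
    exact CommGroup.isNilpotent
  · let _ : CommGroup (Tp hF p') :=
      { (inferInstance : Group (Tp hF p')) with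
        mul_comm := fun a b => Subtype.ext (Tp_comm hF p' hp'0 hp' a a.2 b b.2) }
    exact CommGroup.isNilpotent

theorem form_ne_zero_of_rankOnePair (hF : Fintype.card F = q ^ 2) (p p' : VV) (hp0 : p ≠ 0)
    (hp : hf p p = 0) (hp'0 : p' ≠ 0) (hp' : hf p' p' = 0)
    (h : Cfsg.IsRankOnePair (Tp hF p) (Tp hF p')) : hf p p' ≠ 0 := by
  intro h0
  have h0' : hf p' p = 0 := herm_eq_zero_symm hF p p' h0
  obtain ⟨ε, hε0, hε⟩ := exists_eps hF
  have ha : tau hF p ε ≠ 1 := by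
    rw [Ne, tau_eq_one_iff hF p hp0 hp ε hε]
    exact hε0
  obtain ⟨b, hb, _, hbe⟩ := h.cond_left (tau hF p ε) (tau_mem hF p ε hε) ha
  obtain ⟨d, hd, rfl⟩ := (mem_Tp hF p' hp'0 hp').mp hb
  rw [conj_Tp hF _ p hp0 hp, conj_Tp hF _ p' hp'0 hp', tau_inv hF p' hp'0 hp' d hd,
    tau_inv hF p hp0 hp ε hε, act_tau hF p' hp'0 hp' _ (tz_neg hF hd),
    act_tau hF p hp0 hp _ (tz_neg hF hε), h0, h0', mul_zero, mul_zero, zero_smul,
    zero_smul, add_zero, add_zero] at hbe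
  exact h.ne hbe


/-! ### the root subgroup set -/

theorem isRootSubgroupSet (hF : Fintype.card F = q ^ 2) : Cfsg.IsRootSubgroupSet (Fam n F q) where
  commutative := by
    intro A hA
    obtain ⟨p, hp0, hp, rfl⟩ := (mem_Fam hF).mp hA
    exact ⟨⟨fun a b => Subtype.ext (Tp_comm hF p hp0 hp a a.2 b b.2)⟩⟩
  ne_bot := by
    intro A hA
    obtain ⟨p, hp0, hp, rfl⟩ := (mem_Fam hF).mp hA
    exact Tp_ne_bot hF p hp0 hp
  generates := by
    rw [eq_top_iff]
    have h1 : G0 n F q ≤ (⨆ A ∈ Fam n F q, A).map (G0 n F q).subtype := by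
      apply iSup₂_le
      intro B hB s hs
      have hs0 : s ∈ G0 n F q := (le_iSup₂ (f := fun B (_ : B ∈ SSetU n F q) => B) B hB) hs
      refine ⟨⟨s, hs0⟩, ?_, rfl⟩
      have h2 : B.subgroupOf (G0 n F q) ≤ ⨆ A ∈ Fam n F q, A :=
        le_iSup₂ (f := fun A (_ : A ∈ Fam n F q) => A) _ ⟨B, hB, rfl⟩
      apply h2
      rw [Subgroup.mem_subgroupOf]
      exact hs
    intro h _
    obtain ⟨x, hx, he⟩ := h1 h.2
    have : x = h := Subtype.ext he
    rw [← this]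
    exact hx
  conj_mem := by
    intro A hA g
    obtain ⟨p, hp0, hp, rfl⟩ := (mem_Fam hF).mp hA
    rw [conj_Tp hF g p hp0 hp]
    exact Tp_mem_Fam hF _ (act_ne_zero g p hp0) (by rw [herm_act, hp])
  pair := by
    intro A hA B hB
    obtain ⟨p, hp0, hp, rfl⟩ := (mem_Fam hF).mp hA
    obtain ⟨p', hp'0, hp', rfl⟩ := (mem_Fam hF).mp hB
    by_cases h : hf p p' = 0
    · exact Or.inl (comm_eq_bot hF p p' hp0 hp hp'0 hp' h)
    · exact Or.inr (Or.inl (rankOnePair hF p p' hp hp' h))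

theorem exists_move (hF : Fintype.card F = q ^ 2) (p p' : VV) (hp : hf p p = 0) (hp' : hf p' p' = 0)
    (h : hf p p' ≠ 0) : ∃ (g : ↥(G0 n F q)) (l : F), l ≠ 0 ∧ act g p = l • p' := by
  have hp0 := ne_zero_of_form_left h
  have hp'0 := ne_zero_of_form_right hF h
  obtain ⟨ε, hε0, hε⟩ := exists_eps hF
  obtain ⟨d, hd, hd0, l, hl0, hl⟩ := rankOne_aux hF p p' hp hp' h ε hε hε0
  refine ⟨tau hF p ε * (tau hF p' d)⁻¹, l, hl0, ?_⟩
  rw [act_mul, hl, act_smul, act_act_inv]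

theorem connected_aux (hF : Fintype.card F = q ^ 2) (p p'' : VV) (hp0 : p ≠ 0) (hp : hf p p = 0)
    (hp''0 : p'' ≠ 0) (hp'' : hf p'' p'' = 0) (h : hf p p'' = 0) :
    ∃ p' : VV, hf p' p' = 0 ∧ hf p p' ≠ 0 ∧ hf p' p'' ≠ 0 := by
  obtain ⟨c, _, hcc, hcp, hcp''⟩ := exists_iso_both hF ⊤ (ndeg_top hF) p p'' trivial trivial hp0 hp''0
    hp hp'' h
  exact ⟨c, hcc, form_swap_ne hF hcp, hcp''⟩

theorem isConjClass (hF : Fintype.card F = q ^ 2) (hn : 2 ≤ n) :
    Cfsg.IsConjClassOfSubgroups (Fam n F q) := by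
  constructor
  · have h2 : 2 ≤ Module.finrank F (⊤ : Submodule F VV) := by
      rw [finrank_top, Module.finrank_fin_fun]
      exact hn
    obtain ⟨x, _, hx0, hxx⟩ := exists_isotropic hF (⊤ : Submodule F VV) h2
    exact ⟨Tp hF x, Tp_mem_Fam hF x hx0 hxx⟩
  · intro A hA B hB
    obtain ⟨p, hp0, hp, rfl⟩ := (mem_Fam hF).mp hA
    obtain ⟨p'', hp''0, hp'', rfl⟩ := (mem_Fam hF).mp hB
    by_cases h : hf p p'' = 0
    · obtain ⟨p', hp', h1, h2⟩ := connected_aux hF p p'' hp0 hp hp''0 hp'' h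
      obtain ⟨g₁, l₁, hl₁, hg₁⟩ := exists_move hF p p' hp hp' h1
      obtain ⟨g₂, l₂, hl₂, hg₂⟩ := exists_move hF p' p'' hp' hp'' h2
      refine ⟨g₂ * g₁, ?_⟩
      rw [conj_Tp hF _ p hp0 hp, act_mul, hg₁, act_smul, hg₂, smul_smul,
        Tp_smul hF p'' hp''0 hp'' _ (mul_ne_zero hl₁ hl₂)]
    · obtain ⟨g, l, hl, hg⟩ := exists_move hF p p'' hp hp'' h
      refine ⟨g, ?_⟩
      rw [conj_Tp hF _ p hp0 hp, hg, Tp_smul hF p'' hp''0 hp'' _ hl]

theorem isDegenerate (hF : Fintype.card F = q ^ 2) : Cfsg.IsDegenerateRootSet (Fam n F q) := by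
  intro A hA B hB hcase
  obtain ⟨p, hp0, hp, rfl⟩ := (mem_Fam hF).mp hA
  obtain ⟨p', hp'0, hp', rfl⟩ := (mem_Fam hF).mp hB
  obtain ⟨hmem, hcent, -, -⟩ := hcase
  by_cases h : hf p p' = 0
  · rw [comm_eq_bot hF p p' hp0 hp hp'0 hp' h] at hmem
    exact (isRootSubgroupSet hF).ne_bot _ hmem rfl
  · obtain ⟨ε, hε0, hε⟩ := exists_eps hF
    have ha : tau hF p ε ∈ Tp hF p := tau_mem hF p ε hε
    have hb : tau hF p' ε ∈ Tp hF p' := tau_mem hF p' ε hε
    have hc : ⁅tau hF p ε, tau hF p' ε⁆ ∈ ⁅Tp hF p, Tp hF p'⁆ := Subgroup.commutator_mem_commutator ha hb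
    have h1 := hcent _ hc (tau hF p ε) (Subgroup.mem_sup_left ha)
    rw [commutatorElement_def] at h1
    have h2 : (tau hF p' ε * (tau hF p ε)⁻¹ * (tau hF p' ε)⁻¹) * tau hF p ε =
        tau hF p ε * (tau hF p' ε * (tau hF p ε)⁻¹ * (tau hF p' ε)⁻¹) := by
      have h3 : tau hF p ε * ((tau hF p' ε * (tau hF p ε)⁻¹ * (tau hF p' ε)⁻¹) * tau hF p ε) =
          tau hF p ε * (tau hF p ε * (tau hF p' ε * (tau hF p ε)⁻¹ * (tau hF p' ε)⁻¹)) := by
        simp only [mul_assoc] at h1 ⊢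
        exact h1
      exact mul_left_cancel h3
    rw [tau_inv hF p hp0 hp ε hε, conj_tau hF _ p hp0 hp _ (tz_neg hF hε)] at h2
    have h4 := form_zero_of_comm hF _ _ (act_ne_zero (tau hF p' ε) p hp0) (by rw [herm_act, hp]) hp0 hp
      (-ε) ε (tz_neg hF hε) hε (neg_ne_zero.mpr hε0) hε0 h2
    rw [act_tau hF p' hp'0 hp' ε hε, herm_add_left, hp, zero_add, herm_smul_left] at h4
    have h5 : hf p' p ≠ 0 := form_swap_ne hF h
    rcases mul_eq_zero.mp h4 with h6 | h6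
    · rcases mul_eq_zero.mp h6 with h7 | h7
      · exact hε0 h7
      · exact h h7
    · exact h5 h6

theorem isConnected (hF : Fintype.card F = q ^ 2) :
    Cfsg.IsConnectedFamily (Cfsg.FAdj (Fam n F q)) (Fam n F q) := by
  intro A hA B hB
  obtain ⟨p, hp0, hp, rfl⟩ := (mem_Fam hF).mp hA
  obtain ⟨p'', hp''0, hp'', rfl⟩ := (mem_Fam hF).mp hB
  by_cases h : hf p p'' = 0
  · obtain ⟨p', hp', h1, h2⟩ := connected_aux hF p p'' hp0 hp hp''0 hp'' h
    have hp'0 := ne_zero_of_form_right hF h1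
    refine Relation.ReflTransGen.tail (b := Tp hF p') (Relation.ReflTransGen.single ?_) ?_
    · exact ⟨Tp_mem_Fam hF p hp0 hp, Tp_mem_Fam hF p' hp'0 hp', rankOnePair hF p p' hp hp' h1⟩
    · exact ⟨Tp_mem_Fam hF p' hp'0 hp', Tp_mem_Fam hF p'' hp''0 hp'', rankOnePair hF p' p'' hp' hp'' h2⟩
  · exact Relation.ReflTransGen.single
      ⟨Tp_mem_Fam hF p hp0 hp, Tp_mem_Fam hF p'' hp''0 hp'', rankOnePair hF p p'' hp hp'' h⟩

end Cfsg.Agent.helper29.URoot
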