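import Mathlib
import Cfsg.Agent.Lib_helper14_PsuA
import Cfsg.Agent.Lib_helper14_GalFix
import Cfsg.Agent.Lib_helper14_GraphFieldCent
import Cfsg.Agent.Lib_helper29_URoot

set_option autoImplicit false
set_option linter.unusedSectionVars false
set_option linter.unusedVariables false

/-! The kernel of the action of `GU` on `PSU`, and field automorphisms which are inner-diagonal. -/

namespace Cfsg.Agent.helper14.PsuAut

open Matrix Cfsg Cfsg.Agent.helper29 Cfsg.Agent.helper11.HermCount Cfsg.Agent.helper11.Unitary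
open scoped commutatorElement

section grp

variable {G : Type*} [Group G]

theorem comm_mul_central_left (x y z : G) (hz : ∀ g, g * z = z * g) : ⁅x * z, y⁆ = ⁅x, y⁆ := by
  rw [commutatorElement_def, commutatorElement_def, _root_.mul_inv_rev]
  have h1 : x * z * y = x * y * z := by rw [mul_assoc, ← hz y, ← mul_assoc]
  rw [h1]
  group

theorem comm_mul_central_right (x y z : G) (hz : ∀ g, g * z = z * g) : ⁅x, y * z⁆ = ⁅x, y⁆ := by
  rw [commutatorElement_def, commutatorElement_def, _root_.mul_inv_rev]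
  have h1 : x * (y * z) * x⁻¹ = x * y * x⁻¹ * z := by
    calc x * (y * z) * x⁻¹ = x * y * (z * x⁻¹) := by group
      _ = x * y * (x⁻¹ * z) := by rw [hz x⁻¹]
      _ = x * y * x⁻¹ * z := by group
  rw [h1]
  group

theorem eq_of_mod_center (hperf : commutator G = ⊤) (ψ : G ≃* G)
    (h : ∀ s, s⁻¹ * ψ s ∈ Subgroup.center G) (s : G) : ψ s = s := by
  have hK : commutator G ≤ (ψ.toMonoidHom.eqLocus (MonoidHom.id G)) := by
    rw [commutator_eq_closure, Subgroup.closure_le]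
    rintro x ⟨a, b, rfl⟩
    show ψ ⁅a, b⁆ = ⁅a, b⁆
    rw [map_commutatorElement]
    have ha : ψ a = a * (a⁻¹ * ψ a) := by group
    have hb : ψ b = b * (b⁻¹ * ψ b) := by group
    rw [ha, hb, comm_mul_central_left _ _ _ (fun g => (Subgroup.mem_center_iff.mp (h a) g)),
      comm_mul_central_right _ _ _ (fun g => (Subgroup.mem_center_iff.mp (h b) g))]
  rw [hperf] at hK
  exact hK (Subgroup.mem_top s)

end grp

section ker

variable {F : Type*} [Field F] [Fintype F] {q n : ℕ}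

local notation "hf" => Cfsg.hermForm n F q
local notation "VV" => (Fin n → F)
local notation "MM" => Matrix (Fin n) (Fin n) F

theorem SU_exact (hF : Fintype.card F = q ^ 2) (hn : 3 ≤ n) (h32 : ¬ (n = 3 ∧ q = 2))
    (ψ : ↥(Cfsg.SU n F q) ≃* ↥(Cfsg.SU n F q)) (h : ∀ s, pmU (ψ s) = pmU s)
    (s : ↥(Cfsg.SU n F q)) : ψ s = s := by
  apply eq_of_mod_center (SU_perfect hF hn h32) ψ
  intro t
  have h1 := (pmU_eq_iff _ _).mp (h t)
  have h2 := Subgroup.inv_mem _ h1
  rw [_root_.mul_inv_rev, inv_inv] at h2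
  exact h2

theorem conjU_eq_of_PhiU_one (hF : Fintype.card F = q ^ 2) (hn : 3 ≤ n)
    (h32 : ¬ (n = 3 ∧ q = 2)) (g : ↥(Cfsg.GU n F q)) (h : PhiU g = 1)
    (s : ↥(Cfsg.SU n F q)) : conjU g s = s := by
  apply SU_exact hF hn h32 (conjU g)
  intro t
  rw [← PhiU_pm, h, MulAut.one_apply]

theorem exists_transv (hF : Fintype.card F = q ^ 2) (x : VV) (hx : hf x x = 0) (c : F)
    (hc : c ^ q = -c) :
    ∃ s : ↥(Cfsg.SU n F q), smat s = ((TTu q x c : GL (Fin n) F) : MM) := by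
  obtain ⟨s, hs⟩ := suToGL_surj (TTu q x c) (TTu_mem_SUG hF x c hx hc)
  refine ⟨s, ?_⟩
  rw [← hs]
  rfl

theorem line_of_TTu_eq (hF : Fintype.card F = q ^ 2) (x y : VV) (hx : hf x x = 0)
    (hy : hf y y = 0) (hy0 : y ≠ 0) (c d : F) (hd0 : d ≠ 0)
    (h : (TTu q y d : GL (Fin n) F) = TTu q x c) : ∃ a : F, y = a • x := by
  obtain ⟨v, hv⟩ := URoot.nondeg hF y hy0
  have h1 : ((TTu q y d : GL (Fin n) F) : MM) *ᵥ v = ((TTu q x c : GL (Fin n) F) : MM) *ᵥ v := by
    rw [h]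
  rw [TTu_mulVec y d hy, TTu_mulVec x c hx] at h1
  have h2 : (d * hf v y) • y = (c * hf v x) • x := add_left_cancel h1
  have hne : d * hf v y ≠ 0 := mul_ne_zero hd0 hv
  refine ⟨(d * hf v y)⁻¹ * (c * hf v x), ?_⟩
  rw [← smul_smul, ← h2, smul_smul, inv_mul_cancel₀ hne, one_smul]

theorem gmat_mulVec_ne_zero (g : ↥(Cfsg.GU n F q)) (v : VV) (hv : v ≠ 0) : gmat g *ᵥ v ≠ 0 :=
  gl_mulVec_ne_zero g.1 v hv

theorem conj_transv (g : ↥(Cfsg.GU n F q)) (x : VV) (hx : hf x x = 0) (c : F) :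
    gmat g * ((TTu q x c : GL (Fin n) F) : MM) * gmat g⁻¹ =
      ((TTu q (gmat g *ᵥ x) c : GL (Fin n) F) : MM) := by
  have h := conj_TTu g.1 g.2 x c hx
  have h2 := congrArg (fun a : GL (Fin n) F => (a : MM)) h
  exact h2

/-- the kernel of the action of `GU` on `PSU` consists of scalar matrices -/
theorem PhiU_ker (hF : Fintype.card F = q ^ 2) (hn : 3 ≤ n) (h32 : ¬ (n = 3 ∧ q = 2))
    (g : ↥(Cfsg.GU n F q)) (h : PhiU g = 1) : ∃ a : F, ∀ v : VV, gmat g *ᵥ v = a • v := by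
  obtain ⟨ε, hε0, hε⟩ := exists_eps hF
  apply scalar_of_fix_iso hF (by omega) g.1
  intro x hx
  by_cases hx0 : x = 0
  · exact ⟨0, by rw [hx0, Matrix.mulVec_zero, smul_zero]⟩
  obtain ⟨s, hs⟩ := exists_transv hF x hx ε hε
  have h1 := conjU_eq_of_PhiU_one hF hn h32 g h s
  have h2 := congrArg smat h1
  rw [conjU_val, hs, conj_transv g x hx] at h2
  have hgx : hf (gmat g *ᵥ x) (gmat g *ᵥ x) = 0 := by rw [gmat_form, hx]
  exact line_of_TTu_eq hF x _ hx hgx (gmat_mulVec_ne_zero g x hx0) ε ε hε0 (Units.ext h2)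

theorem PhiU_scalar (g : ↥(Cfsg.GU n F q)) (a : F) (h : gmat g = a • (1 : MM)) : PhiU g = 1 := by
  ext x
  obtain ⟨s, rfl⟩ := pmU_surj x
  rw [PhiU_pm, MulAut.one_apply]
  congr 1
  apply smat_ext
  rw [conjU_val]
  calc gmat g * smat s * gmat g⁻¹ = smat s * (gmat g * gmat g⁻¹) := by
        rw [h, Matrix.smul_mul, Matrix.one_mul, Matrix.smul_mul, Matrix.smul_mul, Matrix.one_mul,
          Matrix.mul_smul]
    _ = smat s := by rw [gmat_mul_inv, Matrix.mul_one]

theorem PhiU_eq_iff (hF : Fintype.card F = q ^ 2) (hn : 3 ≤ n) (h32 : ¬ (n = 3 ∧ q = 2))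
    (g g' : ↥(Cfsg.GU n F q)) :
    PhiU g = PhiU g' ↔ ∃ a : F, gmat g' = a • gmat g := by
  constructor
  · intro h
    have h1 : PhiU (g⁻¹ * g') = 1 := by rw [map_mul, map_inv, h, inv_mul_cancel]
    obtain ⟨a, ha⟩ := PhiU_ker hF hn h32 _ h1
    refine ⟨a, ?_⟩
    have h2 : gmat (g⁻¹ * g') = a • (1 : MM) := by
      rw [Matrix.ext_iff_mulVec]
      intro v
      rw [ha, Matrix.smul_mulVec, Matrix.one_mulVec]
    calc gmat g' = gmat g * gmat (g⁻¹ * g') := by
          rw [← gmat_mul, mul_inv_cancel_left]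
      _ = a • gmat g := by rw [h2, Matrix.mul_smul, Matrix.mul_one]
  · rintro ⟨a, ha⟩
    have h1 : PhiU (g⁻¹ * g') = 1 := by
      apply PhiU_scalar _ a
      rw [gmat_mul, ha, Matrix.mul_smul, gmat_inv_mul]
    rw [map_mul, map_inv, inv_mul_eq_one] at h1
    exact h1

end ker

end Cfsg.Agent.helper14.PsuAut
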