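import Mathlib
import Cfsg.Agent.Lib_helper14_PsuB
import Cfsg.Agent.Lib_helper14_FieldCent
import Cfsg.Agent.Lib_helper11_Unitary3

set_option autoImplicit false
set_option linter.unusedSectionVars false
set_option linter.unusedVariables false

/-! A standard field automorphism of `PSU` which is inner-diagonal is trivial. -/

namespace Cfsg.Agent.helper14.PsuAut

open Matrix Cfsg Cfsg.Agent.helper29 Cfsg.Agent.helper11.HermCount Cfsg.Agent.helper11.Unitary

section diag

variable {F : Type*} [Field F] {n : ℕ}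

local notation "MM" => Matrix (Fin n) (Fin n) F

theorem gl_col_ne_zero (H : GL (Fin n) F) (j : Fin n) : ∃ i, (H : MM) i j ≠ 0 := by
  by_contra hcon
  push Not at hcon
  have h1 : (H : MM) *ᵥ Pi.single j 1 = 0 := by
    rw [Matrix.mulVec_single_one]
    funext i
    exact hcon i
  have h2 := gl_mulVec_ne_zero H (Pi.single j 1) (by
    intro h
    have := congrFun h j
    rw [Pi.single_eq_same, Pi.zero_apply] at this
    exact one_ne_zero this)
  exact h2 h1

theorem exists_two_ne (hn : 3 ≤ n) (i0 : Fin n) :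
    ∃ i1 i2 : Fin n, i1 ≠ i0 ∧ i2 ≠ i0 ∧ i2 ≠ i1 := by
  by_cases h0 : (i0 : ℕ) = 0
  · exact ⟨⟨1, by omega⟩, ⟨2, by omega⟩, by rw [Ne, Fin.ext_iff]; simp; omega,
      by rw [Ne, Fin.ext_iff]; simp; omega, by rw [Ne, Fin.ext_iff]; simp⟩
  · by_cases h1 : (i0 : ℕ) = 1
    · exact ⟨⟨0, by omega⟩, ⟨2, by omega⟩, by rw [Ne, Fin.ext_iff]; simp; omega,
        by rw [Ne, Fin.ext_iff]; simp; omega, by rw [Ne, Fin.ext_iff]; simp⟩
    · exact ⟨⟨0, by omega⟩, ⟨1, by omega⟩, by rw [Ne, Fin.ext_iff]; simp; omega,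
        by rw [Ne, Fin.ext_iff]; simp; omega, by rw [Ne, Fin.ext_iff]; simp⟩

theorem diag_twist (hn : 3 ≤ n) (H : GL (Fin n) F) (i0 : Fin n) (u u' a : F) (hu1 : u ≠ 1)
    (heq : Matrix.diagonal (Function.update (fun _ => (1 : F)) i0 u') * (H : MM) =
      a • ((H : MM) * Matrix.diagonal (Function.update (fun _ => (1 : F)) i0 u))) : u' = u := by
  have hent : ∀ i j, Function.update (fun _ => (1 : F)) i0 u' i * (H : MM) i j =
      a * ((H : MM) i j * Function.update (fun _ => (1 : F)) i0 u j) := by
    intro i j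
    have := congrFun (congrFun heq i) j
    rw [Matrix.diagonal_mul, Matrix.smul_apply, Matrix.mul_diagonal, smul_eq_mul] at this
    exact this
  have ha : a = 1 := by
    by_contra hane
    have hz : ∀ i j, i ≠ i0 → j ≠ i0 → (H : MM) i j = 0 := by
      intro i j hi hj
      have h1 := hent i j
      rw [Function.update_of_ne hi, Function.update_of_ne hj, one_mul, mul_one] at h1
      have h2 : (1 - a) * (H : MM) i j = 0 := by linear_combination h1
      rcases mul_eq_zero.mp h2 with h3 | h3
      · exact absurd (by linear_combination -h3) hane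
      · exact h3
    obtain ⟨i1, i2, hi1, hi2, hi21⟩ := exists_two_ne hn i0
    obtain ⟨w, hw⟩ : ∃ w : Fin n → F, w = (H : MM) i0 i2 • Pi.single i1 (1 : F) -
        (H : MM) i0 i1 • Pi.single i2 (1 : F) := ⟨_, rfl⟩
    have hHw : (H : MM) *ᵥ w = 0 := by
      rw [hw, Matrix.mulVec_sub, Matrix.mulVec_smul, Matrix.mulVec_smul,
        Matrix.mulVec_single_one, Matrix.mulVec_single_one]
      funext i
      rw [Pi.sub_apply, Pi.smul_apply, Pi.smul_apply, Matrix.col_apply, Matrix.col_apply,
        Pi.zero_apply, smul_eq_mul, smul_eq_mul]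
      by_cases hi : i = i0
      · rw [hi]
        ring
      · rw [hz i i1 hi hi1, hz i i2 hi hi2]
        ring
    have hw0 : w = 0 := by
      by_contra hne
      exact gl_mulVec_ne_zero H w hne hHw
    have h01 : (H : MM) i0 i1 = 0 := by
      have := congrFun hw0 i2
      rw [hw, Pi.sub_apply, Pi.smul_apply, Pi.smul_apply, Pi.single_eq_of_ne hi21,
        Pi.single_eq_same, Pi.zero_apply, smul_eq_mul, smul_eq_mul] at this
      linear_combination -this
    obtain ⟨i, hi⟩ := gl_col_ne_zero H i1
    by_cases hii : i = i0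
    · rw [hii] at hi
      exact hi h01
    · exact hi (hz i i1 hii hi1)
  rw [ha] at hent
  have hcol : ∀ i, i ≠ i0 → (H : MM) i i0 = 0 := by
    intro i hi
    have h1 := hent i i0
    rw [Function.update_of_ne hi, Function.update_self, one_mul, one_mul] at h1
    have h2 : (H : MM) i i0 * (u - 1) = 0 := by linear_combination -h1
    rcases mul_eq_zero.mp h2 with h3 | h3
    · exact h3
    · exact absurd (by linear_combination h3) hu1
  obtain ⟨i, hi⟩ := gl_col_ne_zero H i0
  have hii : i = i0 := by
    by_contra hne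
    exact hi (hcol i hne)
  rw [hii] at hi
  have h1 := hent i0 i0
  rw [Function.update_self, Function.update_self, one_mul] at h1
  have h2 : (H : MM) i0 i0 * (u' - u) = 0 := by linear_combination h1
  rcases mul_eq_zero.mp h2 with h3 | h3
  · exact absurd h3 hi
  · linear_combination h3

end diag

section fld

variable {F : Type*} [Field F] [Fintype F] {q n : ℕ}

local notation "hf" => Cfsg.hermForm n F q
local notation "VV" => (Fin n → F)
local notation "MM" => Matrix (Fin n) (Fin n) F

/-- a diagonal element of `GU` with one non-trivial entry -/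
noncomputable def dgU (hF : Fintype.card F = q ^ 2) (i0 : Fin n) (u : F) (hu : u * u ^ q = 1) :
    ↥(Cfsg.GU n F q) :=
  mkGU hF (Matrix.diagonal (Function.update (fun _ => (1 : F)) i0 u))
    (diag_preserves _ (by
      intro j
      by_cases hj : j = i0
      · rw [hj, Function.update_self]
        exact hu
      · rw [Function.update_of_ne hj, one_pow, one_mul]))

theorem dgU_val (hF : Fintype.card F = q ^ 2) (i0 : Fin n) (u : F) (hu : u * u ^ q = 1) :
    gmat (dgU hF i0 u hu) = Matrix.diagonal (Function.update (fun _ => (1 : F)) i0 u) := rfl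

theorem field_fixes_norm_one (hF : Fintype.card F = q ^ 2) (hn : 3 ≤ n)
    (h32 : ¬ (n = 3 ∧ q = 2)) (ρ : F ≃+* F) (h : ↥(Cfsg.GU n F q))
    (heq : (fieldU ρ : MulAut (Cfsg.PSU n F q)) = PhiU h) (u : F) (hu : u * u ^ q = 1) :
    ρ u = u := by
  by_cases hu1 : u = 1
  · rw [hu1, map_one]
  obtain ⟨i0, -⟩ : ∃ i0 : Fin n, (i0 : ℕ) = 0 := ⟨⟨0, by omega⟩, rfl⟩
  obtain ⟨k, hk⟩ : ∃ k : ↥(Cfsg.GU n F q), k = dgU hF i0 u hu := ⟨_, rfl⟩
  have h1 : PhiU (h * k) = PhiU (mapGU ρ k * h) := by
    rw [map_mul, map_mul, ← heq, fieldU_PhiU]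
  obtain ⟨a, ha⟩ := (PhiU_eq_iff hF hn h32 _ _).mp h1
  rw [gmat_mul, gmat_mul, mapGU_val, hk, dgU_val, Matrix.diagonal_map (map_zero ρ)] at ha
  have hupd : (fun i => ρ (Function.update (fun _ => (1 : F)) i0 u i)) =
      Function.update (fun _ => (1 : F)) i0 (ρ u) := by
    funext j
    by_cases hj : j = i0
    · rw [hj, Function.update_self, Function.update_self]
    · rw [Function.update_of_ne hj, Function.update_of_ne hj, map_one]
  rw [hupd] at ha
  exact diag_twist hn h.1 i0 u (ρ u) a hu1 ha

/-- a standard field automorphism which is inner-diagonal is trivial -/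
theorem field_inndiag_trivial [DecidableEq F] (hF : Fintype.card F = q ^ 2) (hn : 3 ≤ n)
    (h32 : ¬ (n = 3 ∧ q = 2)) (ρ : F ≃+* F) (h : ↥(Cfsg.GU n F q))
    (heq : (fieldU ρ : MulAut (Cfsg.PSU n F q)) = PhiU h) : ρ = 1 := by
  have hq2 := two_le_q hF
  haveI : Fintype (Cfsg.Agent.helper14.fixSub ρ) := Fintype.ofFinite _
  have hcardU : Nat.card {x : F // x * x ^ q = 1} = q + 1 := by
    rw [card_norm_fiber hF 1 (one_pow q), if_neg one_ne_zero]
  obtain ⟨f, hfn, hfs⟩ : ∃ f : Option {x : F // x * x ^ q = 1} → Cfsg.Agent.helper14.fixSub ρ,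
      ((f none : Cfsg.Agent.helper14.fixSub ρ) : F) = 0 ∧
      ∀ x, ((f (some x) : Cfsg.Agent.helper14.fixSub ρ) : F) = x.1 := by
    refine ⟨fun o => match o with
      | none => 0
      | some x => ⟨x.1, (Cfsg.Agent.helper14.mem_fixSub ρ _).mpr
          (field_fixes_norm_one hF hn h32 ρ h heq x.1 x.2)⟩, rfl, fun x => rfl⟩
  have hfinj : Function.Injective f := by
    intro o o' hoo
    have h1 := congrArg (fun z : Cfsg.Agent.helper14.fixSub ρ => (z : F)) hoo
    cases o with
    | none =>
      cases o' with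
      | none => rfl
      | some x' =>
        exfalso
        have h2 : (0 : F) = x'.1 := by
          rw [← hfn, ← hfs]
          exact h1
        have := x'.2
        rw [← h2, zero_mul] at this
        exact zero_ne_one this
    | some x =>
      cases o' with
      | none =>
        exfalso
        have h2 : x.1 = (0 : F) := by
          rw [← hfn, ← hfs]
          exact h1
        have := x.2
        rw [h2, zero_mul] at this
        exact zero_ne_one this
      | some x' =>
        congr 1
        apply Subtype.ext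
        rw [← hfs x, ← hfs x']
        exact h1
  have hle := Nat.card_le_card_of_injective f hfinj
  rw [Finite.card_option, hcardU] at hle
  have hpow := Module.natCard_eq_pow_finrank (K := Cfsg.Agent.helper14.fixSub ρ) (V := F)
  rw [Nat.card_eq_fintype_card (α := F), hF] at hpow
  obtain ⟨d, hd⟩ : ∃ d, d = Module.finrank (Cfsg.Agent.helper14.fixSub ρ) F := ⟨_, rfl⟩
  rw [← hd] at hpow
  obtain ⟨c, hc⟩ : ∃ c, c = Nat.card (Cfsg.Agent.helper14.fixSub ρ) := ⟨_, rfl⟩
  rw [← hc] at hpow hle
  have hd1 : d = 1 := by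
    rcases Nat.lt_or_ge d 2 with hlt | hge
    · interval_cases d
      · rw [pow_zero] at hpow
        nlinarith
      · rfl
    · exfalso
      have h1 : c ^ 2 ≤ c ^ d := Nat.pow_le_pow_right (by omega) hge
      have h2 : (q + 2) ^ 2 ≤ c ^ 2 := Nat.pow_le_pow_left hle 2
      nlinarith
  rw [hd1, pow_one] at hpow
  have hbij : Function.Bijective (fun z : Cfsg.Agent.helper14.fixSub ρ => (z : F)) := by
    rw [Fintype.bijective_iff_injective_and_card]
    refine ⟨Subtype.val_injective, ?_⟩
    rw [← Nat.card_eq_fintype_card, ← hc, ← hpow, hF]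
  ext a
  obtain ⟨z, hz⟩ := hbij.2 a
  rw [← hz]
  exact (Cfsg.Agent.helper14.mem_fixSub ρ _).mp z.2

end fld

end Cfsg.Agent.helper14.PsuAut
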