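import Mathlib
import Cfsg.Agent.Lib_helper14_PsuC

set_option autoImplicit false
set_option linter.unusedSectionVars false
set_option linter.unusedVariables false

/-! Matrix lemmas for the descent of unitary graph automorphisms to the fixed field. -/

namespace Cfsg.Agent.helper14.PsuAut

open Matrix

section mat

variable {F : Type*} [Field F] {F₀ : Type*} [Field F₀] {n : ℕ}

local notation "MM" => Matrix (Fin n) (Fin n) F
local notation "MM₀" => Matrix (Fin n) (Fin n) F₀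

theorem cancel_left (A X Y : MM) (hA : A.det ≠ 0) (h : A * X = A * Y) : X = Y := by
  have hu : IsUnit A.det := isUnit_iff_ne_zero.mpr hA
  calc X = A⁻¹ * (A * X) := by rw [← Matrix.mul_assoc, Matrix.nonsing_inv_mul A hu, Matrix.one_mul]
    _ = A⁻¹ * (A * Y) := by rw [h]
    _ = Y := by rw [← Matrix.mul_assoc, Matrix.nonsing_inv_mul A hu, Matrix.one_mul]

theorem cancel_right (A X Y : MM) (hA : A.det ≠ 0) (h : X * A = Y * A) : X = Y := by
  have hu : IsUnit A.det := isUnit_iff_ne_zero.mpr hA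
  calc X = (X * A) * A⁻¹ := by rw [Matrix.mul_assoc, Matrix.mul_nonsing_inv A hu, Matrix.mul_one]
    _ = (Y * A) * A⁻¹ := by rw [h]
    _ = Y := by rw [Matrix.mul_assoc, Matrix.mul_nonsing_inv A hu, Matrix.mul_one]

theorem gl_det_ne_zero (P : GL (Fin n) F) : (P : MM).det ≠ 0 :=
  Matrix.GeneralLinearGroup.det_ne_zero P

theorem det_map_ne_zero {K : Type*} [Field K] (f : K →+* F) (A : Matrix (Fin n) (Fin n) K)
    (hA : A.det ≠ 0) : (A.map f).det ≠ 0 := by
  have h := RingHom.map_det f A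
  rw [RingHom.mapMatrix_apply] at h
  rw [← h]
  exact (map_ne_zero f).mpr hA

theorem det_mapσ_ne_zero (σ : F ≃+* F) (A : MM) (hA : A.det ≠ 0) : (A.map σ).det ≠ 0 :=
  det_map_ne_zero (σ : F →+* F) A hA

theorem map_map_inv' (σ : F ≃+* F) (hinv : ∀ a, σ (σ a) = a) (A : MM) :
    (A.map σ).map σ = A := by
  ext i j
  exact hinv _

theorem map_fixed (σ : F ≃+* F) (ι : F₀ →+* F) (hι : ∀ a : F, σ a = a ↔ a ∈ ι.range)
    (A : MM₀) : (A.map ι).map σ = A.map ι := by
  ext i j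
  exact (hι _).mpr ⟨_, rfl⟩

theorem map_smulσ (σ : F ≃+* F) (t : F) (A : MM) : (t • A).map σ = σ t • A.map σ := by
  ext i j
  simp

theorem map_smulι (ι : F₀ →+* F) (t : F₀) (A : MM₀) : (t • A).map ι = ι t • A.map ι := by
  ext i j
  simp

theorem rational_scalar (ι : F₀ →+* F) (X₀ Y₀ : MM₀) (t : F) (hY : ∃ i j, Y₀ i j ≠ 0)
    (h : X₀.map ι = t • Y₀.map ι) : ∃ t₀ : F₀, ι t₀ = t ∧ X₀ = t₀ • Y₀ := by
  obtain ⟨i, j, hij⟩ := hY
  have hent : ∀ k l, ι (X₀ k l) = t * ι (Y₀ k l) := by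
    intro k l
    have := congrFun (congrFun h k) l
    rw [Matrix.map_apply, Matrix.smul_apply, Matrix.map_apply, smul_eq_mul] at this
    exact this
  have hιij : ι (Y₀ i j) ≠ 0 := (map_ne_zero ι).mpr hij
  refine ⟨X₀ i j / Y₀ i j, ?_, ?_⟩
  · rw [map_div₀, hent i j]
    field_simp
  · ext k l
    apply ι.injective
    rw [Matrix.smul_apply, smul_eq_mul, map_mul, map_div₀, hent k l, hent i j]
    field_simp

theorem exists_entry_ne_zero (hn : 1 ≤ n) {K : Type*} [Field K] (A : Matrix (Fin n) (Fin n) K)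
    (hA : A.det ≠ 0) : ∃ i j, A i j ≠ 0 := by
  by_contra hcon
  push Not at hcon
  have h0 : A = 0 := by
    ext i j
    exact hcon i j
  haveI : Nonempty (Fin n) := ⟨⟨0, by omega⟩⟩
  rw [h0, Matrix.det_zero] at hA
  exact hA rfl

theorem rational_of_twist (hn : 1 ≤ n) (σ : F ≃+* F) (ι : F₀ →+* F)
    (hι : ∀ a : F, σ a = a ↔ a ∈ ι.range) (k : MM) (hk : k.det ≠ 0) (c : F) (hc0 : c ≠ 0)
    (h : k.map σ = c • k) :
    ∃ (l : F) (k₀ : MM₀), l ≠ 0 ∧ k₀.det ≠ 0 ∧ k = l • k₀.map ι := by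
  have hent : ∀ i j, σ (k i j) = c * k i j := by
    intro i j
    have := congrFun (congrFun h i) j
    rw [Matrix.map_apply, Matrix.smul_apply, smul_eq_mul] at this
    exact this
  obtain ⟨i, j, hij⟩ := exists_entry_ne_zero hn k hk
  have hfix : ∀ r s, σ ((k i j)⁻¹ * k r s) = (k i j)⁻¹ * k r s := by
    intro r s
    rw [map_mul, map_inv₀, hent, hent, mul_inv]
    field_simp
  choose b hb using fun r s => (hι _).mp (hfix r s)
  obtain ⟨h₀, hh₀⟩ : ∃ h₀ : MM₀, h₀ = Matrix.of b := ⟨_, rfl⟩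
  have hmap : h₀.map ι = (k i j)⁻¹ • k := by
    ext r s
    rw [Matrix.map_apply, hh₀, Matrix.of_apply, hb, Matrix.smul_apply, smul_eq_mul]
  have hdet : h₀.det ≠ 0 := by
    intro h0
    have h3 := RingHom.map_det ι h₀
    rw [h0, map_zero, RingHom.mapMatrix_apply, hmap, Matrix.det_smul] at h3
    have h5 : ((k i j)⁻¹) ^ Fintype.card (Fin n) ≠ 0 := pow_ne_zero _ (inv_ne_zero hij)
    exact mul_ne_zero h5 hk h3.symm
  refine ⟨k i j, h₀, hij, hdet, ?_⟩
  rw [hmap, smul_smul, mul_inv_cancel₀ hij, one_smul]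

end mat

end Cfsg.Agent.helper14.PsuAut
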