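import Mathlib
import Cfsg.Agent.Lib_helper14_PsuD

set_option autoImplicit false
set_option linter.unusedSectionVars false
set_option linter.unusedVariables false

/-! The descent of unitary similitudes to the fixed field. -/

namespace Cfsg.Agent.helper14.PsuAut

open Matrix

section descent

variable {F : Type*} [Field F] {F₀ : Type*} [Field F₀] {n : ℕ}

local notation "MM" => Matrix (Fin n) (Fin n) F
local notation "MM₀" => Matrix (Fin n) (Fin n) F₀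

theorem tr_mul_map (σ : F ≃+* F) (A B : MM) :
    (A * B)ᵀ * (A * B).map σ = Bᵀ * (Aᵀ * A.map σ) * B.map σ := by
  rw [Matrix.transpose_mul, Matrix.map_mul]
  simp only [Matrix.mul_assoc]

theorem tr_mul_mid (N A B : MM) :
    (A * B)ᵀ * N * (A * B) = Bᵀ * (Aᵀ * N * A) * B := by
  rw [Matrix.transpose_mul]
  simp only [Matrix.mul_assoc]

theorem descent_fwd (hn : 1 ≤ n) (σ : F ≃+* F) (ι : F₀ →+* F)
    (hι : ∀ a : F, σ a = a ↔ a ∈ ι.range)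
    (N N' P P' : MM) (M₀ M₀' : MM₀) (a b a' b' : F)
    (hP : P.det ≠ 0) (hP' : P'.det ≠ 0) (hM₀ : M₀.det ≠ 0) (hM₀' : M₀'.det ≠ 0)
    (ha : a ≠ 0) (hb : b ≠ 0) (ha' : a' ≠ 0) (hb' : b' ≠ 0)
    (h1 : Pᵀ * P.map σ = a • M₀.map ι) (h2 : Pᵀ * N * P = b • M₀.map ι)
    (h1' : P'ᵀ * P'.map σ = a' • M₀'.map ι) (h2' : P'ᵀ * N' * P' = b' • M₀'.map ι)
    (h : MM) (hh : h.det ≠ 0) (hU : hᵀ * h.map σ = 1) (c : F) (hc : c ≠ 0)
    (hS : hᵀ * N * h = c • N') :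
    ∃ (l : F) (k₀ : MM₀) (c₀ : F₀), l ≠ 0 ∧ k₀.det ≠ 0 ∧ c₀ ≠ 0 ∧
      h * P' = l • (P * k₀.map ι) ∧ k₀ᵀ * M₀ * k₀ = c₀ • M₀' := by
  have hPu : IsUnit P.det := isUnit_iff_ne_zero.mpr hP
  obtain ⟨k, hkdef⟩ : ∃ k : MM, k = P⁻¹ * (h * P') := ⟨_, rfl⟩
  have hk : P * k = h * P' := by
    rw [hkdef, ← Matrix.mul_assoc, Matrix.mul_nonsing_inv P hPu, Matrix.one_mul]
  have hkdet : k.det ≠ 0 := by
    have h3 := congrArg Matrix.det hk
    rw [Matrix.det_mul, Matrix.det_mul] at h3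
    intro h0
    rw [h0, mul_zero] at h3
    exact mul_ne_zero hh hP' h3.symm
  have hιM : (M₀.map ι).det ≠ 0 := det_map_ne_zero ι M₀ hM₀
  -- E1
  have E1 : a • (kᵀ * M₀.map ι * k.map σ) = a' • M₀'.map ι := by
    calc a • (kᵀ * M₀.map ι * k.map σ) = kᵀ * (Pᵀ * P.map σ) * k.map σ := by
          rw [h1, Matrix.mul_smul, Matrix.smul_mul]
      _ = (P * k)ᵀ * (P * k).map σ := (tr_mul_map σ P k).symm
      _ = (h * P')ᵀ * (h * P').map σ := by rw [hk]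
      _ = P'ᵀ * (hᵀ * h.map σ) * P'.map σ := tr_mul_map σ h P'
      _ = a' • M₀'.map ι := by rw [hU, Matrix.mul_one, h1']
  have E2 : b • (kᵀ * M₀.map ι * k) = (c * b') • M₀'.map ι := by
    calc b • (kᵀ * M₀.map ι * k) = kᵀ * (Pᵀ * N * P) * k := by
          rw [h2, Matrix.mul_smul, Matrix.smul_mul]
      _ = (P * k)ᵀ * N * (P * k) := (tr_mul_mid N P k).symm
      _ = (h * P')ᵀ * N * (h * P') := by rw [hk]
      _ = P'ᵀ * (hᵀ * N * h) * P' := tr_mul_mid N h P'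
      _ = (c * b') • M₀'.map ι := by
          rw [hS, Matrix.mul_smul, Matrix.smul_mul, h2', smul_smul]
  obtain ⟨Z, hZ⟩ : ∃ Z : MM, Z = kᵀ * M₀.map ι := ⟨_, rfl⟩
  have hZdet : Z.det ≠ 0 := by
    rw [hZ, Matrix.det_mul, Matrix.det_transpose]
    exact mul_ne_zero hkdet hιM
  rw [← hZ] at E1 E2
  have hkσ : k.map σ = ((a' * b) / (c * b' * a)) • k := by
    have h3 : Z * ((c * b' * a) • k.map σ) = Z * ((a' * b) • k) := by
      rw [Matrix.mul_smul, Matrix.mul_smul]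
      calc (c * b' * a) • (Z * k.map σ) = (c * b') • (a • (Z * k.map σ)) := by rw [smul_smul]
        _ = (c * b') • (a' • M₀'.map ι) := by rw [E1]
        _ = a' • ((c * b') • M₀'.map ι) := by rw [smul_smul, smul_smul, mul_comm]
        _ = a' • (b • (Z * k)) := by rw [E2]
        _ = (a' * b) • (Z * k) := by rw [smul_smul]
    have h4 := cancel_left Z _ _ hZdet h3
    have hne : c * b' * a ≠ 0 := mul_ne_zero (mul_ne_zero hc hb') ha
    calc k.map σ = (c * b' * a)⁻¹ • ((c * b' * a) • k.map σ) := by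
          rw [smul_smul, inv_mul_cancel₀ hne, one_smul]
      _ = ((a' * b) / (c * b' * a)) • k := by
          rw [h4, smul_smul]
          congr 1
          field_simp
  have hθ : (a' * b) / (c * b' * a) ≠ 0 :=
    div_ne_zero (mul_ne_zero ha' hb) (mul_ne_zero (mul_ne_zero hc hb') ha)
  obtain ⟨l, k₀, hl, hk₀, hkl⟩ := rational_of_twist hn σ ι hι k hkdet _ hθ hkσ
  have E3 : (k₀ᵀ * M₀ * k₀).map ι = ((c * b') / (b * l * l)) • M₀'.map ι := by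
    have h5 : (b * l * l) • (k₀ᵀ * M₀ * k₀).map ι = (c * b') • M₀'.map ι := by
      rw [← E2, hZ, hkl, Matrix.map_mul, Matrix.map_mul, Matrix.transpose_smul,
        Matrix.transpose_map, Matrix.smul_mul, Matrix.smul_mul, Matrix.mul_smul, smul_smul,
        smul_smul]
    have hne : b * l * l ≠ 0 := mul_ne_zero (mul_ne_zero hb hl) hl
    calc (k₀ᵀ * M₀ * k₀).map ι = (b * l * l)⁻¹ • ((b * l * l) • (k₀ᵀ * M₀ * k₀).map ι) := by
          rw [smul_smul, inv_mul_cancel₀ hne, one_smul]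
      _ = _ := by
          rw [h5, smul_smul]
          congr 1
          field_simp
  obtain ⟨c₀, hc₀, hk₀M⟩ := rational_scalar ι _ M₀' _ (exists_entry_ne_zero hn M₀' hM₀') E3
  refine ⟨l, k₀, c₀, hl, hk₀, ?_, ?_, hk₀M⟩
  · rintro rfl
    rw [zero_smul] at hk₀M
    have h6 := congrArg Matrix.det hk₀M
    haveI : Nonempty (Fin n) := ⟨⟨0, by omega⟩⟩
    rw [Matrix.det_mul, Matrix.det_mul, Matrix.det_transpose, Matrix.det_zero] at h6
    exact mul_ne_zero (mul_ne_zero hk₀ hM₀) hk₀ h6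
  · rw [← hk, hkl, Matrix.mul_smul]

theorem sym_type (hn : 1 ≤ n) (σ : F ≃+* F) (hinv : ∀ a, σ (σ a) = a) (ι : F₀ →+* F)
    (hι : ∀ a : F, σ a = a ↔ a ∈ ι.range) (P : MM) (M₀ : MM₀) (a : F) (ha : a ≠ 0)
    (hM₀ : M₀.det ≠ 0) (h1 : Pᵀ * P.map σ = a • M₀.map ι) :
    ∃ ε₀ : F₀, ι ε₀ = σ a / a ∧ M₀ᵀ = ε₀ • M₀ := by
  have h3 : (Pᵀ * P.map σ).map σ = (Pᵀ * P.map σ)ᵀ := by
    rw [Matrix.map_mul, map_map_inv' σ hinv, Matrix.transpose_mul, Matrix.transpose_transpose,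
      Matrix.transpose_map]
  rw [h1, map_smulσ, map_fixed σ ι hι, Matrix.transpose_smul, ← Matrix.transpose_map] at h3
  apply rational_scalar ι _ M₀ _ (exists_entry_ne_zero hn M₀ hM₀)
  calc M₀ᵀ.map ι = a⁻¹ • (a • M₀ᵀ.map ι) := by rw [smul_smul, inv_mul_cancel₀ ha, one_smul]
    _ = (σ a / a) • M₀.map ι := by
        rw [← h3, smul_smul]
        congr 1
        field_simp

theorem descent_bwd (hn : 1 ≤ n) (σ : F ≃+* F) (hinv : ∀ a, σ (σ a) = a) (ι : F₀ →+* F)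
    (hι : ∀ a : F, σ a = a ↔ a ∈ ι.range)
    (hnorm : ∀ t : F, σ t = t → t ≠ 0 → ∃ ν : F, ν * σ ν = t)
    (N N' P P' : MM) (M₀ M₀' : MM₀) (a b a' b' : F)
    (hP : P.det ≠ 0) (hP' : P'.det ≠ 0) (hM₀ : M₀.det ≠ 0) (hM₀' : M₀'.det ≠ 0)
    (ha : a ≠ 0) (hb : b ≠ 0) (ha' : a' ≠ 0) (hb' : b' ≠ 0)
    (h1 : Pᵀ * P.map σ = a • M₀.map ι) (h2 : Pᵀ * N * P = b • M₀.map ι)
    (h1' : P'ᵀ * P'.map σ = a' • M₀'.map ι) (h2' : P'ᵀ * N' * P' = b' • M₀'.map ι)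
    (k₀ : MM₀) (hk₀ : k₀.det ≠ 0) (c₀ : F₀) (hc₀ : c₀ ≠ 0)
    (hk : k₀ᵀ * M₀ * k₀ = c₀ • M₀') :
    ∃ (h : MM) (ν c : F), ν ≠ 0 ∧ c ≠ 0 ∧ h.det ≠ 0 ∧ h * P' = ν • (P * k₀.map ι) ∧
      hᵀ * h.map σ = 1 ∧ hᵀ * N * h = c • N' := by
  obtain ⟨ε₀, hε₀, hM₀T⟩ := sym_type hn σ hinv ι hι P M₀ a ha hM₀ h1
  obtain ⟨ε₀', hε₀', hM₀'T⟩ := sym_type hn σ hinv ι hι P' M₀' a' ha' hM₀' h1'
  have hεε : ε₀ = ε₀' := by
    have h3a : (k₀ᵀ * M₀ * k₀)ᵀ = (ε₀ * c₀) • M₀' := by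
      calc (k₀ᵀ * M₀ * k₀)ᵀ = k₀ᵀ * (M₀ᵀ * k₀) := by
            rw [Matrix.transpose_mul, Matrix.transpose_mul, Matrix.transpose_transpose]
        _ = ε₀ • (k₀ᵀ * M₀ * k₀) := by
            rw [hM₀T, Matrix.smul_mul, Matrix.mul_smul, Matrix.mul_assoc]
        _ = (ε₀ * c₀) • M₀' := by rw [hk, smul_smul]
    have h3 : (ε₀ * c₀) • M₀' = (c₀ * ε₀') • M₀' := by
      rw [← h3a, hk, Matrix.transpose_smul, hM₀'T, smul_smul]
    obtain ⟨i, j, hij⟩ := exists_entry_ne_zero hn M₀' hM₀'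
    have h4 := congrFun (congrFun h3 i) j
    rw [Matrix.smul_apply, Matrix.smul_apply, smul_eq_mul, smul_eq_mul] at h4
    have h5 : ε₀ * c₀ = c₀ * ε₀' := mul_right_cancel₀ hij h4
    have h6 : c₀ * (ε₀ - ε₀') = 0 := by linear_combination h5
    rcases mul_eq_zero.mp h6 with h7 | h7
    · exact absurd h7 hc₀
    · exact sub_eq_zero.mp h7
  have hιc₀ : ι c₀ ≠ 0 := (map_ne_zero ι).mpr hc₀
  have hσc₀ : σ (ι c₀) = ι c₀ := (hι _).mpr ⟨_, rfl⟩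
  have hσa : σ a = a * ι ε₀ := by
    rw [hε₀]
    field_simp
  have hσa' : σ a' = a' * ι ε₀ := by
    rw [hεε, hε₀']
    field_simp
  have hιε : ι ε₀ ≠ 0 := by
    intro h0
    rw [h0, mul_zero] at hσa
    exact ha ((map_eq_zero σ).mp hσa)
  obtain ⟨t, ht⟩ : ∃ t : F, t = a' / (a * ι c₀) := ⟨_, rfl⟩
  have ht0 : t ≠ 0 := by
    rw [ht]
    exact div_ne_zero ha' (mul_ne_zero ha hιc₀)
  have hσt : σ t = t := by
    rw [ht, map_div₀, map_mul, hσa, hσa', hσc₀]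
    field_simp
  obtain ⟨ν, hν⟩ := hnorm t hσt ht0
  have hν0 : ν ≠ 0 := by
    rintro rfl
    rw [zero_mul] at hν
    exact ht0 hν.symm
  have hP'u : IsUnit P'.det := isUnit_iff_ne_zero.mpr hP'
  obtain ⟨Y, hY⟩ : ∃ Y : MM, Y = ν • (P * k₀.map ι) := ⟨_, rfl⟩
  obtain ⟨h, hh⟩ : ∃ h : MM, h = Y * P'⁻¹ := ⟨_, rfl⟩
  have hhP : h * P' = Y := by
    rw [hh, Matrix.mul_assoc, Matrix.nonsing_inv_mul P' hP'u, Matrix.mul_one]
  have hιk : (k₀.map ι).det ≠ 0 := det_map_ne_zero ι k₀ hk₀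
  have hYdet : Y.det ≠ 0 := by
    rw [hY, Matrix.det_smul, Matrix.det_mul]
    exact mul_ne_zero (pow_ne_zero _ hν0) (mul_ne_zero hP hιk)
  have hhdet : h.det ≠ 0 := by
    intro h0
    have h3 := congrArg Matrix.det hhP
    rw [Matrix.det_mul, h0, zero_mul] at h3
    exact hYdet h3.symm
  have hkι : (k₀ᵀ * M₀ * k₀).map ι = ι c₀ • M₀'.map ι := by
    rw [hk, map_smulι]
  rw [Matrix.map_mul, Matrix.map_mul, Matrix.transpose_map] at hkι
  have EY1 : Yᵀ * Y.map σ = a' • M₀'.map ι := by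
    have h3 : Yᵀ * Y.map σ = (ν * σ ν) • ((P * k₀.map ι)ᵀ * (P * k₀.map ι).map σ) := by
      rw [hY, Matrix.transpose_smul, map_smulσ, Matrix.smul_mul, Matrix.mul_smul, smul_smul]
    rw [h3, tr_mul_map, h1, map_fixed σ ι hι, Matrix.mul_smul, Matrix.smul_mul,
      hkι, smul_smul, smul_smul, hν, ht]
    congr 1
    field_simp
  have EY2 : Yᵀ * N * Y = (ν * ν * b * ι c₀) • M₀'.map ι := by
    have h3 : Yᵀ * N * Y = (ν * ν) • ((P * k₀.map ι)ᵀ * N * (P * k₀.map ι)) := by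
      rw [hY, Matrix.transpose_smul, Matrix.smul_mul, Matrix.smul_mul, Matrix.mul_smul, smul_smul]
    rw [h3, tr_mul_mid, h2, Matrix.mul_smul, Matrix.smul_mul, hkι, smul_smul,
      smul_smul]
  have hU : hᵀ * h.map σ = 1 := by
    have h3 : P'ᵀ * (hᵀ * h.map σ) * P'.map σ = P'ᵀ * 1 * P'.map σ := by
      rw [← tr_mul_map, hhP, EY1, Matrix.mul_one, h1']
    have h4 := cancel_right _ _ _ (det_mapσ_ne_zero σ P' hP') h3
    exact cancel_left _ _ _ (by rw [Matrix.det_transpose]; exact hP') h4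
  refine ⟨h, ν, ν * ν * b * ι c₀ / b', hν0, ?_, hhdet, by rw [hhP, hY], hU, ?_⟩
  · exact div_ne_zero (mul_ne_zero (mul_ne_zero (mul_ne_zero hν0 hν0) hb) hιc₀) hb'
  · have h3 : P'ᵀ * (hᵀ * N * h) * P' = P'ᵀ * ((ν * ν * b * ι c₀ / b') • N') * P' := by
      rw [← tr_mul_mid, hhP, EY2, Matrix.mul_smul, Matrix.smul_mul, h2', smul_smul]
      congr 1
      field_simp
    have h4 := cancel_right _ _ _ hP' h3
    exact cancel_left _ _ _ (by rw [Matrix.det_transpose]; exact hP') h4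

end descent

end Cfsg.Agent.helper14.PsuAut
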