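import Mathlib
import Cfsg.Agent.Lib_helper14_PsuE
import Cfsg.Agent.Lib_helper14_GraphFieldConj

set_option autoImplicit false
set_option linter.unusedSectionVars false
set_option linter.unusedVariables false

/-! Involutory graph automorphisms of `PSU`: normal form, conjugacy, centralizers. -/

namespace Cfsg.Agent.helper14.PsuAut

open Matrix Cfsg Cfsg.Agent.helper29 Cfsg.Agent.helper11.HermCount Cfsg.Agent.helper11.Unitary
open Cfsg.Agent.helper14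

section gam

variable {F : Type*} [Field F] [Fintype F] {q n : ℕ}

local notation "hf" => Cfsg.hermForm n F q
local notation "VV" => (Fin n → F)
local notation "MM" => Matrix (Fin n) (Fin n) F

theorem mem_GU_iff_mat (σ : F ≃+* F) (hq : ∀ a, σ a = a ^ q) (g : GL (Fin n) F) :
    g ∈ Cfsg.GU n F q ↔ (g : MM)ᵀ * (g : MM).map σ = 1 := by
  rw [Cfsg.Agent.helper11.Unitary.mem_GU_iff]
  constructor
  · intro h
    ext i j
    have := h (Pi.single i 1) (Pi.single j 1)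
    rw [hermForm_eq_sform σ hq, hermForm_eq_sform σ hq, sform_mulVec, sform_single,
      sform_single, Matrix.mul_one] at this
    exact this
  · intro h u v
    rw [hermForm_eq_sform σ hq, hermForm_eq_sform σ hq, sform_mulVec, Matrix.mul_one, h]

theorem gmat_unitary (σ : F ≃+* F) (hq : ∀ a, σ a = a ^ q) (g : ↥(Cfsg.GU n F q)) :
    (gmat g)ᵀ * (gmat g).map σ = 1 := (mem_GU_iff_mat σ hq g.1).mp g.2

theorem gmat_det_ne_zero (g : ↥(Cfsg.GU n F q)) : (gmat g).det ≠ 0 := gl_det_ne_zero g.1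

/-- the transpose of a unitary matrix, as a unitary matrix -/
def tU (σ : F ≃+* F) (g : ↥(Cfsg.GU n F q)) : ↥(Cfsg.GU n F q) := mapGU σ g⁻¹

theorem tU_val (σ : F ≃+* F) (hq : ∀ a, σ a = a ^ q) (g : ↥(Cfsg.GU n F q)) :
    gmat (tU σ g) = (gmat g)ᵀ := by
  have h1 : gmat (tU σ g) * (gmat g).map σ = 1 := by
    unfold tU
    rw [← mapGU_val, ← gmat_mul, ← mapGU_mul, inv_mul_cancel, mapGU_one, gmat_one]
  have h2 := gmat_unitary σ hq g
  exact cancel_right _ _ _ (det_mapσ_ne_zero σ _ (gmat_det_ne_zero g)) (h1.trans h2.symm)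

theorem tU_inv (σ : F ≃+* F) (g : ↥(Cfsg.GU n F q)) : (tU σ g)⁻¹ = tU σ g⁻¹ := by
  unfold tU
  rw [inv_inv, mapGU_inv, inv_inv]

/-- the graph automorphism attached to a unitary matrix -/
noncomputable def gamU (σ : F ≃+* F) (N : ↥(Cfsg.GU n F q)) : MulAut (Cfsg.PSU n F q) :=
  PhiU N⁻¹ * fieldU σ

theorem conj_gamU (σ : F ≃+* F) (k N : ↥(Cfsg.GU n F q)) :
    PhiU k * gamU σ N * (PhiU k)⁻¹ = gamU σ (tU σ k⁻¹ * N * k⁻¹) := by
  unfold gamU tU
  rw [inv_inv, _root_.mul_inv_rev, _root_.mul_inv_rev, inv_inv, map_mul, map_mul, ← map_inv]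
  calc PhiU k * (PhiU N⁻¹ * fieldU σ) * PhiU k⁻¹
      = PhiU k * PhiU N⁻¹ * (fieldU σ * PhiU k⁻¹) := by group
    _ = PhiU k * PhiU N⁻¹ * (PhiU (mapGU σ k⁻¹) * fieldU σ) := by rw [fieldU_PhiU]
    _ = _ := by
        rw [mapGU_inv]
        group

theorem gamU_eq_iff (hF : Fintype.card F = q ^ 2) (hn : 3 ≤ n) (h32 : ¬ (n = 3 ∧ q = 2))
    (σ : F ≃+* F) (N N' : ↥(Cfsg.GU n F q)) :
    gamU σ N = gamU σ N' ↔ ∃ a : F, gmat N' = a • gmat N := by
  unfold gamU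
  rw [mul_left_inj, map_inv, map_inv, _root_.inv_inj]
  exact PhiU_eq_iff hF hn h32 N N'

theorem conj_gamU_iff (hF : Fintype.card F = q ^ 2) (hn : 3 ≤ n) (h32 : ¬ (n = 3 ∧ q = 2))
    (σ : F ≃+* F) (hq : ∀ a, σ a = a ^ q) (N N' : ↥(Cfsg.GU n F q)) :
    Cfsg.IsConjUnder (Cfsg.inndiagPSU n F q) (gamU σ N) (gamU σ N') ↔
      ∃ (h : ↥(Cfsg.GU n F q)) (a : F),
        gmat N' = a • ((gmat h)ᵀ * gmat N * gmat h) := by
  unfold Cfsg.IsConjUnder
  rw [inndiagPSU_eq]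
  constructor
  · rintro ⟨_, ⟨k, rfl⟩, hk⟩
    rw [conj_gamU, gamU_eq_iff hF hn h32] at hk
    obtain ⟨a, ha⟩ := hk
    have hne : a ≠ 0 := by
      rintro rfl
      rw [zero_smul] at ha
      have h1 := gmat_det_ne_zero (tU σ k⁻¹ * N * k⁻¹)
      haveI : Nonempty (Fin n) := ⟨⟨0, by omega⟩⟩
      rw [ha, Matrix.det_zero] at h1
      exact h1 rfl
    refine ⟨k⁻¹, a⁻¹, ?_⟩
    rw [gmat_mul, gmat_mul, tU_val σ hq] at ha
    rw [ha, smul_smul, inv_mul_cancel₀ hne, one_smul]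
  · rintro ⟨h, a, ha⟩
    refine ⟨PhiU h⁻¹, ⟨h⁻¹, rfl⟩, ?_⟩
    rw [conj_gamU, gamU_eq_iff hF hn h32, inv_inv]
    have hne : a ≠ 0 := by
      rintro rfl
      rw [zero_smul] at ha
      have h1 := gmat_det_ne_zero N'
      haveI : Nonempty (Fin n) := ⟨⟨0, by omega⟩⟩
      rw [ha, Matrix.det_zero] at h1
      exact h1 rfl
    refine ⟨a⁻¹, ?_⟩
    rw [gmat_mul, gmat_mul, tU_val σ hq, ha, smul_smul, inv_mul_cancel₀ hne, one_smul]

theorem cent_gamU_iff (hF : Fintype.card F = q ^ 2) (hn : 3 ≤ n) (h32 : ¬ (n = 3 ∧ q = 2))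
    (σ : F ≃+* F) (hq : ∀ a, σ a = a ^ q) (N h : ↥(Cfsg.GU n F q)) :
    PhiU h ∈ Subgroup.centralizer {gamU σ N} ↔
      ∃ a : F, gmat N = a • ((gmat h)ᵀ * gmat N * gmat h) := by
  rw [mem_cent_singleton]
  have h0 : gamU σ N * PhiU h = PhiU h * gamU σ N ↔
      PhiU h⁻¹ * gamU σ N * (PhiU h⁻¹)⁻¹ = gamU σ N := by
    rw [map_inv, inv_inv]
    constructor
    · intro h1
      rw [mul_assoc, h1]
      group
    · intro h1
      calc gamU σ N * PhiU h = PhiU h * ((PhiU h)⁻¹ * gamU σ N * PhiU h) := by group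
        _ = PhiU h * gamU σ N := by rw [h1]
  rw [h0, conj_gamU, gamU_eq_iff hF hn h32, inv_inv, gmat_mul, gmat_mul, tU_val σ hq]

end gam

end Cfsg.Agent.helper14.PsuAut
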