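import Mathlib
import Cfsg.Agent.Lib_helper11_Unitary3

set_option autoImplicit false
set_option linter.unusedSectionVars false

/-!
# The centre of `SU_n(q)`, `n ≥ 2`

`card_center_SU2` : for `n ≥ 2` the centre of `SU_n(q)` has order `gcd(n, q + 1)`;
`card_PSU` : the order formula for `PSU_n(q)`.
-/

namespace Cfsg.Agent.helper11.Unitary

open Cfsg Matrix
open Cfsg.Agent.helper11.HermCount

variable {F : Type*} [Field F] [Fintype F] {q n : ℕ}

theorem exists_norm_one_sq_ne_one (hF : Fintype.card F = q ^ 2) :
    ∃ l : F, l * l ^ q = 1 ∧ l * l ≠ 1 := by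
  classical
  by_contra hcon
  push Not at hcon
  have hcard := card_norm_fiber hF (1 : F) (one_pow q)
  rw [if_neg one_ne_zero] at hcard
  have h2 := two_le_q hF
  let g : {x : F // x * x ^ q = 1} → {x : F // x ∈ ({1, -1} : Finset F)} := fun x =>
    ⟨x.1, by
      have := hcon x.1 x.2
      rcases mul_self_eq_one_iff.mp this with h | h
      · simp [h]
      · simp [h]⟩
  have hg : Function.Injective g := by
    intro x y hxy
    apply Subtype.ext
    exact congrArg (fun t : {x : F // x ∈ ({1, -1} : Finset F)} => (t : F)) hxy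
  have hle := Nat.card_le_card_of_injective g hg
  rw [hcard, Nat.card_eq_fintype_card, Fintype.card_coe] at hle
  have := Finset.card_le_two (a := (1 : F)) (b := -1)
  omega

theorem center_offdiag2 (hF : Fintype.card F = q ^ 2) (z : SU n F q)
    (hz : z ∈ Subgroup.center (SU n F q)) (a b : Fin n) (hab : a ≠ b) :
    ((z : Matrix.SpecialLinearGroup (Fin n) F) : Matrix (Fin n) (Fin n) F) a b = 0 := by
  classical
  obtain ⟨l, hlN, hl2⟩ := exists_norm_one_sq_ne_one hF
  have hmN : l ^ q * (l ^ q) ^ q = 1 := by rw [pow_q_q hF, mul_comm]; exact hlN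
  let d : Fin n → F := fun j =>
    Function.update (fun _ => (1 : F)) a l j * Function.update (fun _ => (1 : F)) b (l ^ q) j
  have hd : ∀ j, d j * d j ^ q = 1 := by
    intro j
    by_cases hja : j = a
    · subst hja
      simp only [d, Function.update_self, Function.update_of_ne hab, mul_one]
      exact hlN
    · by_cases hjk : j = b
      · subst hjk
        simp only [d, Function.update_self, Function.update_of_ne hja, one_mul]
        exact hmN
      · simp [d, Function.update_of_ne hja, Function.update_of_ne hjk]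
  have hdet : (Matrix.diagonal d).det = 1 := by
    rw [Matrix.det_diagonal]
    simp only [d]
    rw [Finset.prod_mul_distrib, prod_update_one, prod_update_one]
    exact hlN
  have hc := comm_mat z hz (mkSU (Matrix.diagonal d) hdet (diag_preserves d hd))
  rw [coe_mkSU] at hc
  have h1 := congrFun (congrFun hc a) b
  rw [Matrix.diagonal_mul, Matrix.mul_diagonal] at h1
  have hda : d a = l := by
    simp [d, Function.update_of_ne hab]
  have hdb : d b = l ^ q := by
    simp [d, Function.update_of_ne hab.symm]
  rw [hda, hdb] at h1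
  have h2 : (l - l ^ q) * ((z : Matrix.SpecialLinearGroup (Fin n) F) :
      Matrix (Fin n) (Fin n) F) a b = 0 := by
    linear_combination h1
  rcases mul_eq_zero.mp h2 with h | h
  · exfalso
    apply hl2
    have : l = l ^ q := sub_eq_zero.mp h
    rw [← this] at hlN
    exact hlN
  · exact h

/-- diagonal entries of central elements agree -/
theorem center_diag2 (hF : Fintype.card F = q ^ 2) (hn : 2 ≤ n) (z : SU n F q)
    (hz : z ∈ Subgroup.center (SU n F q)) (a b : Fin n) (hab : a ≠ b) :
    ((z : Matrix.SpecialLinearGroup (Fin n) F) : Matrix (Fin n) (Fin n) F) a a =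
    ((z : Matrix.SpecialLinearGroup (Fin n) F) : Matrix (Fin n) (Fin n) F) b b := by
  classical
  have hq0 := q_ne_zero hF
  have hea : hermForm n F q (Pi.single a 1) (Pi.single a 1) = 1 := by
    rw [herm_single_right hq0, Pi.single_eq_same]
  have heb : hermForm n F q (Pi.single b 1) (Pi.single b 1) = 1 := by
    rw [herm_single_right hq0, Pi.single_eq_same]
  obtain ⟨g, hg⟩ := exists_map hF (Pi.single b 1) (Pi.single a 1) heb hea
  set G : Matrix (Fin n) (Fin n) F :=
    ((g : Matrix.GeneralLinearGroup (Fin n) F) : Matrix (Fin n) (Fin n) F) with hG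
  have hGab : G a b = 1 := by
    have := congrFun hg a
    rw [Matrix.mulVec_single_one, Pi.single_eq_same] at this
    exact this
  have hdetN : G.det * G.det ^ q = 1 := det_mul_det_pow hF g.1 g.2
  have hdet0 : G.det ≠ 0 := by
    intro h
    rw [h, zero_mul] at hdetN
    exact zero_ne_one hdetN
  set ε : F := G.det⁻¹ with hε
  have hεN : ε * ε ^ q = 1 := by
    rw [hε, inv_pow, ← mul_inv, hdetN, inv_one]
  let d : Fin n → F := Function.update (fun _ => (1 : F)) a ε
  have hd : ∀ j, d j * d j ^ q = 1 := by
    intro j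
    by_cases hja : j = a
    · subst hja
      simp only [d, Function.update_self]
      exact hεN
    · simp [d, Function.update_of_ne hja]
  let M : Matrix (Fin n) (Fin n) F := G * Matrix.diagonal d
  have hMdet : M.det = 1 := by
    rw [Matrix.det_mul, Matrix.det_diagonal, prod_update_one, hε]
    exact mul_inv_cancel₀ hdet0
  have hMpres : ∀ u v, hermForm n F q (M *ᵥ u) (M *ᵥ v) = hermForm n F q u v := by
    intro u v
    rw [← Matrix.mulVec_mulVec, ← Matrix.mulVec_mulVec, (mem_GU_iff _).mp g.2, diag_preserves d hd]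
  have hc := comm_mat z hz (mkSU M hMdet hMpres)
  rw [coe_mkSU] at hc
  set Z : Matrix (Fin n) (Fin n) F :=
    ((z : Matrix.SpecialLinearGroup (Fin n) F) : Matrix (Fin n) (Fin n) F) with hZ
  have hZdiag : Z = Matrix.diagonal (fun i => Z i i) := by
    ext i j
    by_cases hij : i = j
    · subst hij; simp
    · rw [Matrix.diagonal_apply_ne _ hij]
      exact center_offdiag2 hF z hz i j hij
  have hMab : M a b = 1 := by
    show (G * Matrix.diagonal d) a b = 1
    rw [Matrix.mul_diagonal, hGab]
    simp [d, Function.update_of_ne hab.symm]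
  have h1 := congrFun (congrFun hc a) b
  rw [hZdiag, Matrix.mul_diagonal, Matrix.diagonal_mul, hMab] at h1
  simp only [one_mul, mul_one] at h1
  exact h1.symm

theorem card_center_SU2 (hF : Fintype.card F = q ^ 2) (hn : 2 ≤ n) :
    Nat.card (Subgroup.center (SU n F q)) = Nat.gcd n (q + 1) := by
  classical
  have hq0 := q_ne_zero hF
  set d := Nat.gcd n (q + 1) with hd
  have hcount : Nat.card (powMonoidHom d : Fˣ →* Fˣ).ker = d := by
    rw [IsCyclic.card_powMonoidHom_ker, card_units_F hF]
    apply Nat.gcd_eq_right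
    exact dvd_trans (Nat.gcd_dvd_right n (q + 1)) (dvd_mul_left _ _)
  rw [← hcount]
  symm
  let i0 : Fin n := ⟨0, by omega⟩
  have hpow : ∀ c : (powMonoidHom d : Fˣ →* Fˣ).ker, ((c : Fˣ) : F) ^ n = 1 ∧
      ((c : Fˣ) : F) * ((c : Fˣ) : F) ^ q = 1 := by
    intro c
    have hc := c.2
    rw [MonoidHom.mem_ker, powMonoidHom_apply] at hc
    have hc' : ((c : Fˣ) : F) ^ d = 1 := by
      rw [← Units.val_pow_eq_pow_val, hc, Units.val_one]
    constructor
    · obtain ⟨k, hk⟩ := Nat.gcd_dvd_left n (q + 1)
      rw [hk, pow_mul, ← hd, hc', one_pow]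
    · obtain ⟨k, hk⟩ := Nat.gcd_dvd_right n (q + 1)
      rw [← pow_succ', hk, pow_mul, ← hd, hc', one_pow]
  let f : (powMonoidHom d : Fˣ →* Fˣ).ker → Subgroup.center (SU n F q) := fun c =>
    ⟨mkSU (Matrix.diagonal (fun _ => ((c : Fˣ) : F)))
      (by rw [Matrix.det_diagonal, Finset.prod_const, Finset.card_univ, Fintype.card_fin]
          exact (hpow c).1)
      (diag_preserves _ (fun _ => (hpow c).2)), by
      rw [Subgroup.mem_center_iff]
      intro s
      apply Subtype.ext
      apply Subtype.ext
      show ((s : Matrix.SpecialLinearGroup (Fin n) F) : Matrix (Fin n) (Fin n) F) *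
        Matrix.diagonal (fun _ => ((c : Fˣ) : F)) = Matrix.diagonal (fun _ => ((c : Fˣ) : F)) *
        ((s : Matrix.SpecialLinearGroup (Fin n) F) : Matrix (Fin n) (Fin n) F)
      ext a b
      rw [Matrix.mul_diagonal, Matrix.diagonal_mul, mul_comm]⟩
  apply Nat.card_eq_of_bijective f
  constructor
  · intro c c' hcc
    have := congrArg (fun t : Subgroup.center (SU n F q) =>
      (((t : SU n F q) : Matrix.SpecialLinearGroup (Fin n) F) : Matrix (Fin n) (Fin n) F) i0 i0) hcc
    simp only [f, coe_mkSU, Matrix.diagonal_apply_eq] at this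
    exact Subtype.ext (Units.ext this)
  · rintro ⟨z, hz⟩
    set Z : Matrix (Fin n) (Fin n) F :=
      ((z : Matrix.SpecialLinearGroup (Fin n) F) : Matrix (Fin n) (Fin n) F) with hZ
    set c : F := Z i0 i0 with hc
    have hZdiag : Z = Matrix.diagonal (fun _ => c) := by
      ext i j
      by_cases hij : i = j
      · subst hij
        rw [Matrix.diagonal_apply_eq]
        by_cases hi0 : i = i0
        · rw [hi0]
        · exact center_diag2 hF hn z hz i i0 hi0
      · rw [Matrix.diagonal_apply_ne _ hij]
        exact center_offdiag2 hF z hz i j hij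
    have hcn : c ^ n = 1 := by
      have := (z : Matrix.SpecialLinearGroup (Fin n) F).2
      change Z.det = 1 at this
      rw [hZdiag, Matrix.det_diagonal, Finset.prod_const, Finset.card_univ, Fintype.card_fin] at this
      exact this
    have hcq : c ^ (q + 1) = 1 := by
      have := (mem_SU_iff _).mp z.2 (Pi.single i0 1) (Pi.single i0 1)
      change hermForm n F q (Z *ᵥ _) (Z *ᵥ _) = _ at this
      have hZe : Z *ᵥ Pi.single i0 1 = c • Pi.single i0 1 := by
        rw [hZdiag]
        ext x
        rw [Matrix.mulVec_diagonal]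
        simp
      rw [hZe, herm_smul_left, herm_smul_right, herm_single_right hq0, Pi.single_eq_same,
        mul_one] at this
      rw [pow_succ']
      exact this
    have hc0 : c ≠ 0 := by
      intro h
      rw [h, zero_pow (by omega)] at hcn
      exact zero_ne_one hcn
    have hcd : (Units.mk0 c hc0) ^ d = 1 := by
      apply pow_gcd_eq_one.mpr
      constructor
      · apply Units.ext
        rw [Units.val_pow_eq_pow_val, Units.val_mk0, hcn, Units.val_one]
      · apply Units.ext
        rw [Units.val_pow_eq_pow_val, Units.val_mk0, hcq, Units.val_one]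
    refine ⟨⟨Units.mk0 c hc0, by rw [MonoidHom.mem_ker, powMonoidHom_apply]; exact hcd⟩, ?_⟩
    apply Subtype.ext
    apply Subtype.ext
    apply Subtype.ext
    show Matrix.diagonal (fun _ => c) = Z
    exact hZdiag.symm


/-- the order of `PSU_n(q)` -/
theorem card_PSU (hF : Fintype.card F = q ^ 2) (hn : 2 ≤ n) :
    Nat.gcd n (q + 1) * ((q + 1) * Nat.card (PSU n F q)) =
      q ^ (n * (n - 1) / 2) *
        ∏ i ∈ Finset.range n, (if Even i then q ^ (i + 1) + 1 else q ^ (i + 1) - 1) := by
  obtain ⟨m, rfl⟩ : ∃ m, n = m + 1 := ⟨n - 1, by omega⟩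
  rw [← card_GU hF (m + 1), card_GU_eq hF m,
    Subgroup.card_eq_card_quotient_mul_card_subgroup (Subgroup.center (SU (m + 1) F q)),
    card_center_SU2 hF hn]
  ring

end Cfsg.Agent.helper11.Unitary
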