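import Mathlib
import Cfsg.Agent.Lib_helper14_PsuF
import Cfsg.Agent.Lib_helper11_Unitary4

set_option autoImplicit false
set_option linter.unusedSectionVars false
set_option linter.unusedVariables false

/-! Normal form of the involutory graph automorphisms of `PSU`. -/

namespace Cfsg.Agent.helper14.PsuAut

open Matrix Cfsg Cfsg.Agent.helper29 Cfsg.Agent.helper11.HermCount Cfsg.Agent.helper11.Unitary
open Cfsg.Agent.helper14

section frob

variable {F : Type*} [Field F] [Fintype F] {q n : ℕ}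

theorem exists_frob (hF : Fintype.card F = q ^ 2) : ∃ σ : F ≃+* F, ∀ a, σ a = a ^ q := by
  obtain ⟨p, hchar⟩ := CharP.exists F
  haveI := hchar
  obtain ⟨k, hp, hk⟩ := FiniteField.card F p
  haveI : Fact p.Prime := ⟨hp⟩
  rw [hF] at hk
  obtain ⟨j, -, hj⟩ := sq_prime_pow hp hk
  have hbij : Function.Bijective (iterateFrobenius F p j) := by
    rw [← Finite.injective_iff_bijective]
    exact (iterateFrobenius F p j).injective
  refine ⟨RingEquiv.ofBijective (iterateFrobenius F p j) hbij, fun a => ?_⟩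
  rw [RingEquiv.ofBijective_apply, iterateFrobenius_def, hj]

theorem frob_inv (hF : Fintype.card F = q ^ 2) (σ : F ≃+* F) (hq : ∀ a, σ a = a ^ q) (a : F) :
    σ (σ a) = a := by
  rw [hq, hq, ← pow_mul, ← pow_two, ← hF, FiniteField.pow_card]

theorem frob_ne_refl (hF : Fintype.card F = q ^ 2) (σ : F ≃+* F) (hq : ∀ a, σ a = a ^ q) :
    σ ≠ RingEquiv.refl F := by
  intro h
  obtain ⟨l, hl1, hl2⟩ := Cfsg.Agent.helper11.Unitary.exists_norm_one_sq_ne_one hF
  apply hl2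
  have h1 : σ l = l := by rw [h]; rfl
  rw [hq] at h1
  rw [h1] at hl1
  exact hl1

theorem frob_mul_self (hF : Fintype.card F = q ^ 2) (σ : F ≃+* F) (hq : ∀ a, σ a = a ^ q) :
    σ * σ = 1 := by
  ext a
  exact frob_inv hF σ hq a

end frob

section normal

variable {F : Type*} [Field F] [Fintype F] [DecidableEq F] {q n : ℕ}

local notation "MM" => Matrix (Fin n) (Fin n) F

theorem gamU_graph (hF : Fintype.card F = q ^ 2) (hn : 3 ≤ n) (σ : F ≃+* F)
    (hq : ∀ a, σ a = a ^ q) (N : ↥(Cfsg.GU n F q)) : Cfsg.IsGraphAutClassPSU (gamU σ N) := by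
  refine ⟨hn, PhiU N⁻¹, fieldU σ, σ, ?_, (innerDiag_iff _).mpr ⟨_, rfl⟩,
    (fieldAut_iff σ _).mpr rfl, rfl⟩
  rw [orderOf_invol σ (frob_ne_refl hF σ hq) (frob_inv hF σ hq)]
  exact even_two

theorem gamU_mul_self (hF : Fintype.card F = q ^ 2) (σ : F ≃+* F) (hq : ∀ a, σ a = a ^ q)
    (N : ↥(Cfsg.GU n F q)) : gamU σ N * gamU σ N = PhiU (N⁻¹ * tU σ N) := by
  unfold gamU tU
  calc PhiU N⁻¹ * fieldU σ * (PhiU N⁻¹ * fieldU σ)
      = PhiU N⁻¹ * (fieldU σ * PhiU N⁻¹) * fieldU σ := by group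
    _ = PhiU N⁻¹ * (PhiU (mapGU σ N⁻¹) * fieldU σ) * fieldU σ := by rw [fieldU_PhiU]
    _ = PhiU N⁻¹ * PhiU (mapGU σ N⁻¹) * (fieldU σ * fieldU σ) := by group
    _ = _ := by rw [← fieldU_mul, frob_mul_self hF σ hq, fieldU_one, mul_one, map_mul]

theorem gamU_order (hF : Fintype.card F = q ^ 2) (hn : 3 ≤ n) (h32 : ¬ (n = 3 ∧ q = 2))
    (σ : F ≃+* F) (hq : ∀ a, σ a = a ^ q) (N : ↥(Cfsg.GU n F q)) (ε : F)
    (hε : (gmat N)ᵀ = ε • gmat N) : orderOf (gamU σ N) = 2 := by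
  apply orderOf_eq_prime
  · rw [pow_two, gamU_mul_self hF σ hq]
    apply PhiU_scalar _ ε
    rw [gmat_mul, tU_val σ hq, hε, Matrix.mul_smul, gmat_inv_mul]
  · intro h
    unfold gamU at h
    have h1 : (fieldU σ : MulAut (Cfsg.PSU n F q)) = PhiU N := by
      rw [map_inv, inv_mul_eq_one] at h
      exact h.symm
    have h2 := field_inndiag_trivial hF hn h32 σ N h1
    exact frob_ne_refl hF σ hq h2

theorem graph_normal_form (hF : Fintype.card F = q ^ 2) (hn : 3 ≤ n) (h32 : ¬ (n = 3 ∧ q = 2))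
    (σ : F ≃+* F) (hq : ∀ a, σ a = a ^ q) (β : MulAut (Cfsg.PSU n F q))
    (hβ : Cfsg.IsGraphAutClassPSU β) (hβ2 : orderOf β = 2) :
    ∃ N : ↥(Cfsg.GU n F q), β = gamU σ N ∧ ∃ ε : F, (gmat N)ᵀ = ε • gmat N := by
  obtain ⟨-, δ, φ, τ, hτ, hδ, hφ, rfl⟩ := hβ
  obtain ⟨g, rfl⟩ := (innerDiag_iff δ).mp hδ
  rw [(fieldAut_iff τ φ).mp hφ] at hβ2 ⊢
  have hsq : (PhiU g * fieldU τ) * (PhiU g * fieldU τ) = 1 := by
    have := pow_orderOf_eq_one (PhiU g * fieldU τ : MulAut (Cfsg.PSU n F q))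
    rw [hβ2, pow_two] at this
    exact this
  have hexp : (PhiU g * fieldU τ) * (PhiU g * fieldU τ) =
      PhiU (g * mapGU τ g) * (fieldU (τ * τ) : MulAut (Cfsg.PSU n F q)) := by
    calc PhiU g * fieldU τ * (PhiU g * fieldU τ)
        = PhiU g * (fieldU τ * PhiU g) * fieldU τ := by group
      _ = PhiU g * (PhiU (mapGU τ g) * fieldU τ) * fieldU τ := by rw [fieldU_PhiU]
      _ = PhiU g * PhiU (mapGU τ g) * (fieldU τ * fieldU τ) := by group
      _ = _ := by rw [← fieldU_mul, map_mul]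
  rw [hexp] at hsq
  have hττ : τ * τ = 1 := by
    apply field_inndiag_trivial hF hn h32 (τ * τ) (g * mapGU τ g)⁻¹
    rw [map_inv]
    exact (eq_inv_of_mul_eq_one_right hsq)
  have hτσ : τ = σ := by
    have hinvτ : ∀ a, τ (τ a) = a := by
      intro a
      have := congrArg (fun e : F ≃+* F => e a) hττ
      exact this
    have hτne : τ ≠ RingEquiv.refl F := by
      intro h
      have h1 : orderOf τ = 1 := by
        rw [h]
        exact orderOf_one
      rw [h1] at hτ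
      exact absurd hτ (by decide)
    exact invol_unique σ τ (frob_ne_refl hF σ hq) hτne (frob_inv hF σ hq) hinvτ
  subst hτσ
  rw [hττ, fieldU_one, mul_one] at hsq
  obtain ⟨a, ha⟩ := PhiU_ker hF hn h32 _ hsq
  have hmat : gmat g * (gmat g).map τ = a • (1 : MM) := by
    rw [← mapGU_val, ← gmat_mul, Matrix.ext_iff_mulVec]
    intro v
    rw [ha, Matrix.smul_mulVec, Matrix.one_mulVec]
  have hG : gmat g = a • (gmat g)ᵀ := by
    apply cancel_right _ _ _ (det_mapσ_ne_zero τ _ (gmat_det_ne_zero g))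
    rw [hmat, Matrix.smul_mul, gmat_unitary τ hq g]
  refine ⟨g⁻¹, by unfold gamU; rw [inv_inv], a, ?_⟩
  apply cancel_right _ _ _ (gmat_det_ne_zero g)
  have h1 : (gmat g⁻¹)ᵀ * (gmat g)ᵀ = 1 := by
    rw [← Matrix.transpose_mul, gmat_mul_inv, Matrix.transpose_one]
  rw [Matrix.smul_mul, gmat_inv_mul]
  conv_lhs => rw [hG]
  rw [Matrix.mul_smul, h1]

end normal

end Cfsg.Agent.helper14.PsuAut
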