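import Mathlib
import Cfsg.Agent.Lib_helper14_NormSurj
import Cfsg.Agent.Lib_helper14_PsuG

set_option autoImplicit false
set_option linter.unusedSectionVars false
set_option linter.unusedVariables false

/-! Conjugacy in `GU_n(q)` is controlled by `GL_n(q²)`. -/

namespace Cfsg.Agent.helper14.GUConj

open Matrix Cfsg Cfsg.Agent.helper14 Cfsg.Agent.helper14.PsuAut

section mat

variable {K : Type*} [Field K] [Fintype K] {n : ℕ}

local notation "MM" => Matrix (Fin n) (Fin n) K

/-- the conjugate transpose with respect to `σ` -/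
def st (σ : K ≃+* K) (M : MM) : MM := (M.map σ)ᵀ

theorem st_apply (σ : K ≃+* K) (M : MM) (i j : Fin n) : st σ M i j = σ (M j i) := rfl

theorem st_mul (σ : K ≃+* K) (M N : MM) : st σ (M * N) = st σ N * st σ M := by
  unfold st
  rw [Matrix.map_mul, Matrix.transpose_mul]

theorem st_add (σ : K ≃+* K) (M N : MM) : st σ (M + N) = st σ M + st σ N := by
  ext i j
  simp [st_apply]

theorem st_one (σ : K ≃+* K) : st σ (1 : MM) = 1 := by
  ext i j
  rw [st_apply]
  by_cases h : i = j
  · subst h; simp
  · rw [Matrix.one_apply_ne h, Matrix.one_apply_ne (Ne.symm h), map_zero]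

theorem st_st (σ : K ≃+* K) (hσ : ∀ a, σ (σ a) = a) (M : MM) : st σ (st σ M) = M := by
  ext i j
  rw [st_apply, st_apply, hσ]

theorem st_algebraMap (σ : K ≃+* K) (c : K) :
    st σ (algebraMap K MM c) = algebraMap K MM (σ c) := by
  ext i j
  rw [st_apply, Matrix.algebraMap_matrix_apply, Matrix.algebraMap_matrix_apply]
  by_cases h : i = j
  · subst h; simp
  · rw [if_neg h, if_neg (Ne.symm h), map_zero]

theorem st_det_ne_zero (σ : K ≃+* K) (M : MM) (h : M.det ≠ 0) : (st σ M).det ≠ 0 := by
  unfold st
  rw [Matrix.det_transpose]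
  exact det_mapσ_ne_zero σ M h

open scoped IsMulCommutative in
theorem exists_norm_mat (σ : K ≃+* K) (hσ : ∀ a, σ (σ a) = a) (θ : K) (hθ : σ θ ≠ θ)
    (s a : MM) (hs : st σ s = s) (hdet : s.det ≠ 0) (hsa : s * a = a * s) :
    ∃ c : MM, c * st σ c = s ∧ st σ c * c = s ∧ c * a = a * c := by
  classical
  let R : Subalgebra K MM := Algebra.adjoin K ({s} : Set MM)
  have hclosed : ∀ r : MM, r ∈ R → st σ r ∈ R := by
    intro r hr
    induction hr using Algebra.adjoin_induction with
    | mem x hx =>
      rw [Set.mem_singleton_iff] at hx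
      rw [hx, hs]
      exact Algebra.subset_adjoin (Set.mem_singleton s)
    | algebraMap c =>
      rw [st_algebraMap]
      exact Subalgebra.algebraMap_mem _ _
    | add x y _ _ hx hy =>
      rw [st_add]
      exact Subalgebra.add_mem _ hx hy
    | mul x y _ _ hx hy =>
      rw [st_mul]
      exact Subalgebra.mul_mem _ hy hx
  have hcent : ∀ r : MM, r ∈ R → r * a = a * r := by
    intro r hr
    have hle : R ≤ Subalgebra.centralizer K ({a} : Set MM) := by
      refine Algebra.adjoin_le ?_
      intro x hx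
      rw [Set.mem_singleton_iff] at hx
      rw [hx, SetLike.mem_coe, Subalgebra.mem_centralizer_iff]
      intro g hg
      rw [Set.mem_singleton_iff] at hg
      rw [hg, hsa]
    have := hle hr
    rw [Subalgebra.mem_centralizer_iff] at this
    exact (this a (Set.mem_singleton a)).symm
  let σR : ↥R →+* ↥R :=
    { toFun := fun r => ⟨st σ (r : MM), hclosed _ r.2⟩
      map_one' := Subtype.ext (st_one σ)
      map_zero' := Subtype.ext (by
        show st σ (0 : MM) = 0
        ext i j
        rw [st_apply]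
        simp)
      map_add' := fun x y => Subtype.ext (st_add σ _ _)
      map_mul' := fun x y => Subtype.ext (by
        show st σ ((x : MM) * (y : MM)) = st σ (x : MM) * st σ (y : MM)
        rw [st_mul]
        exact congrArg Subtype.val
          (mul_comm (⟨st σ (y : MM), hclosed _ y.2⟩ : ↥R) ⟨st σ (x : MM), hclosed _ x.2⟩)) }
  have hσR : ∀ r : ↥R, ((σR r : ↥R) : MM) = st σ (r : MM) := fun r => rfl
  have hσRR : ∀ r : ↥R, σR (σR r) = r := fun r => Subtype.ext (st_st σ hσ _)
  -- θ
  have hθu : IsUnit (algebraMap K ↥R θ - σR (algebraMap K ↥R θ)) := by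
    have h1 : algebraMap K ↥R θ - σR (algebraMap K ↥R θ) = algebraMap K ↥R (θ - σ θ) := by
      apply Subtype.ext
      show (algebraMap K MM θ) - st σ (algebraMap K MM θ) = algebraMap K MM (θ - σ θ)
      rw [st_algebraMap, map_sub]
    rw [h1]
    exact (IsUnit.mk0 _ (sub_ne_zero.mpr (Ne.symm hθ))).map (algebraMap K ↥R)
  -- s as a unit of R
  let sR : ↥R := ⟨s, Algebra.subset_adjoin (Set.mem_singleton s)⟩
  have hsRu : IsUnit sR := by
    let sU : GL (Fin n) K := Matrix.GeneralLinearGroup.mkOfDetNeZero s hdet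
    have h1 : sU ^ Nat.card (GL (Fin n) K) = 1 := pow_card_eq_one'
    have h2 : s ^ Nat.card (GL (Fin n) K) = 1 := by
      have := congrArg Units.val h1
      rwa [Units.val_pow_eq_pow_val, Units.val_one] at this
    refine IsUnit.of_pow_eq_one (n := Nat.card (GL (Fin n) K)) ?_ Nat.card_pos.ne'
    apply Subtype.ext
    rw [SubmonoidClass.coe_pow]
    exact h2
  have hsRσ : σR sR = sR := Subtype.ext hs
  obtain ⟨c, hc⟩ := NormSurj.norm_surj σR hσRR (algebraMap K ↥R θ) hθu sR hsRu hsRσ
  refine ⟨(c : MM), ?_, ?_, hcent _ c.2⟩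
  · have := congrArg Subtype.val hc
    exact this
  · have := congrArg Subtype.val ((mul_comm (σR c) c).trans hc)
    exact this

end mat

end Cfsg.Agent.helper14.GUConj
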