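import Mathlib
import Cfsg.Agent.Lib_helper25_SSimple

/-! Counting monic polynomials over `GF(q²)` that are "self conjugate-reciprocal" with constant term
`(-1)^n` (the characteristic polynomials of special unitary matrices). -/

set_option autoImplicit false

namespace Cfsg.Agent.helper25.SUcount

open Polynomial Cfsg.Agent.helper25.SSimple

section Abstract

variable {K W : Type*} [Field K] [AddCommGroup W] [Module K W]

/-- fixed points of a semilinear involution: `Fix × Fix ≃ W`. -/
theorem card_fix_semilinear [Finite W] (σ : K ≃+* K) (hσ : ∀ a, σ (σ a) = a) (θ : K) (hθ : σ θ ≠ θ)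
    (Φ : W →+ W) (hsmul : ∀ (c : K) (x : W), Φ (c • x) = σ c • Φ x) (hinv : ∀ x, Φ (Φ x) = x) :
    Nat.card {w : W // Φ w = w} ^ 2 = Nat.card W := by
  have hδ : θ - σ θ ≠ 0 := sub_ne_zero.mpr (Ne.symm hθ)
  have hσδ : σ (θ - σ θ) = -(θ - σ θ) := by rw [map_sub, hσ]; ring
  let e : {w : W // Φ w = w} × {w : W // Φ w = w} → W := fun uv => uv.1.1 + θ • uv.2.1
  have hbij : Function.Bijective e := by
    constructor
    · rintro ⟨⟨u, hu⟩, ⟨v, hv⟩⟩ ⟨⟨u', hu'⟩, ⟨v', hv'⟩⟩ h
      have h1 : u + θ • v = u' + θ • v' := h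
      have h2 : u + σ θ • v = u' + σ θ • v' := by
        have := congrArg Φ h1
        rwa [map_add, map_add, hsmul, hsmul, hu, hv, hu', hv'] at this
      have h3 : (θ - σ θ) • (v - v') = 0 := by
        rw [sub_smul, smul_sub, smul_sub]
        have e1 : θ • v - θ • v' = u' - u := by
          rw [sub_eq_sub_iff_add_eq_add, add_comm (θ • v) u, h1, add_comm]
        have e2 : σ θ • v - σ θ • v' = u' - u := by
          rw [sub_eq_sub_iff_add_eq_add, add_comm (σ θ • v) u, h2, add_comm]
        rw [e1, e2, sub_self]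
      have h4 : v = v' := by
        rcases smul_eq_zero.mp h3 with h | h
        · exact absurd h hδ
        · exact sub_eq_zero.mp h
      subst h4
      have h5 : u = u' := add_right_cancel h1
      subst h5
      rfl
    · intro w
      obtain ⟨v, hv, key⟩ : ∃ v : W, Φ v = v ∧ θ • v - σ θ • v = w - Φ w := by
        refine ⟨(θ - σ θ)⁻¹ • (w - Φ w), ?_, ?_⟩
        · rw [hsmul, map_sub, hinv, map_inv₀, hσδ, inv_neg, neg_smul, ← smul_neg, neg_sub]
        · rw [← sub_smul, smul_smul, mul_inv_cancel₀ hδ, one_smul]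
      have hu : Φ (w - θ • v) = w - θ • v := by
        rw [map_sub, hsmul, hv, sub_eq_sub_iff_add_eq_add]
        have h1 : θ • v = (w - Φ w) + σ θ • v := by rw [← key]; abel
        rw [h1]; abel
      refine ⟨(⟨_, hu⟩, ⟨_, hv⟩), ?_⟩
      show w - θ • v + θ • v = w
      abel
  rw [sq, ← Nat.card_prod]
  exact Nat.card_congr (Equiv.ofBijective e hbij)

end Abstract

section Concrete

variable {K : Type*} [Field K] [Fintype K]

/-- the semilinear involution on coefficient vectors -/
def PhiC (σ : K ≃+* K) (ε : K) (m : ℕ) : (Fin m → K) →+ (Fin m → K) where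
  toFun t := fun j => ε * σ (t j.rev)
  map_zero' := by
    funext j
    simp
  map_add' := by
    intro x y
    funext j
    simp [mul_add]

theorem PhiC_apply (σ : K ≃+* K) (ε : K) (m : ℕ) (t : Fin m → K) (j : Fin m) :
    PhiC σ ε m t j = ε * σ (t j.rev) := rfl

theorem card_fix_PhiC {q : ℕ} (hK : Fintype.card K = q ^ 2) (σ : K ≃+* K) (hσ : ∀ a, σ (σ a) = a)
    (θ : K) (hθ : σ θ ≠ θ) (ε : K) (hε : ε * ε = 1) (hσε : σ ε = ε) (m : ℕ) :
    Nat.card {t : Fin m → K // PhiC σ ε m t = t} = q ^ m := by
  have h := card_fix_semilinear (W := Fin m → K) σ hσ θ hθ (PhiC σ ε m)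
    (by
      intro c x
      funext j
      rw [PhiC_apply, Pi.smul_apply, Pi.smul_apply, PhiC_apply, smul_eq_mul, smul_eq_mul, map_mul]
      ring)
    (by
      intro x
      funext j
      rw [PhiC_apply, PhiC_apply, Fin.rev_rev, map_mul, hσε, hσ, ← mul_assoc, hε, one_mul])
  rw [Nat.card_eq_fintype_card (α := Fin m → K), Fintype.card_fun, Fintype.card_fin, hK,
    ← pow_mul, mul_comm, pow_mul] at h
  exact Nat.pow_left_injective (by norm_num : 2 ≠ 0) h

/-- the symmetry of the characteristic polynomial of a unitary matrix -/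
def USym (σ : K ≃+* K) (n : ℕ) (f : K[X]) : Prop :=
  ∀ i, i ≤ n → f.coeff (n - i) = f.coeff 0 * σ (f.coeff i)

theorem card_usym_polys {q : ℕ} (hK : Fintype.card K = q ^ 2) (σ : K ≃+* K)
    (hσ : ∀ a, σ (σ a) = a) (θ : K) (hθ : σ θ ≠ θ) (ε : K) (hε : ε * ε = 1) (hσε : σ ε = ε) (m : ℕ) :
    Nat.card {f : K[X] // f.Monic ∧ f.natDegree = m + 1 ∧ f.coeff 0 = ε ∧ USym σ (m + 1) f} = q ^ m := by
  rw [← card_fix_PhiC hK σ hσ θ hθ ε hε hσε m]
  let toT : {f : K[X] // f.Monic ∧ f.natDegree = m + 1 ∧ f.coeff 0 = ε ∧ USym σ (m + 1) f} →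
      {t : Fin m → K // PhiC σ ε m t = t} := fun f =>
    ⟨fun j => f.1.coeff ((j : ℕ) + 1), by
      funext j
      rw [PhiC_apply]
      have h1 := f.2.2.2.2 ((j.rev : ℕ) + 1) (by have := j.rev.isLt; omega)
      rw [f.2.2.2.1] at h1
      have h2 : m + 1 - ((j.rev : ℕ) + 1) = (j : ℕ) + 1 := by
        rw [Fin.val_rev]; have := j.isLt; omega
      rw [h2] at h1
      exact h1.symm⟩
  have hbij : Function.Bijective toT := by
    constructor
    · rintro ⟨f, hfm, hfd, hf0, hfs⟩ ⟨f', hfm', hfd', hf0', hfs'⟩ h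
      apply Subtype.ext
      show f = f'
      have h1 : ∀ j : Fin m, f.coeff ((j : ℕ) + 1) = f'.coeff ((j : ℕ) + 1) := by
        intro j
        exact congrFun (congrArg Subtype.val h) j
      rw [← polyOf_coeffs (m + 1) f hfm hfd, ← polyOf_coeffs (m + 1) f' hfm' hfd']
      congr 1
      funext i
      refine Fin.cases ?_ (fun j => ?_) i
      · show f.coeff ((0 : Fin (m + 1)) : ℕ) = f'.coeff ((0 : Fin (m + 1)) : ℕ)
        rw [Fin.val_zero, hf0, hf0']
      · show f.coeff ((j.succ : Fin (m + 1)) : ℕ) = f'.coeff ((j.succ : Fin (m + 1)) : ℕ)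
        rw [Fin.val_succ]
        exact h1 j
    · rintro ⟨t, ht⟩
      have htj : ∀ j : Fin m, ε * σ (t j.rev) = t j := fun j => by
        have := congrFun ht j
        rwa [PhiC_apply] at this
      let c : Fin (m + 1) → K := Fin.cons ε t
      have hc0 : (polyOf (m + 1) c).coeff 0 = ε := by
        have := polyOf_coeff (m + 1) c 0
        rw [Fin.val_zero] at this
        rw [this]
        rfl
      have hcs : ∀ j : Fin m, (polyOf (m + 1) c).coeff ((j : ℕ) + 1) = t j := by
        intro j
        have := polyOf_coeff (m + 1) c j.succ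
        rw [Fin.val_succ] at this
        rw [this]
        show (Fin.cons ε t : Fin (m + 1) → K) j.succ = t j
        rw [Fin.cons_succ]
      have hctop : (polyOf (m + 1) c).coeff (m + 1) = 1 := by
        have h1 := polyOf_monic (m + 1) c
        have h2 := polyOf_natDegree (m + 1) c
        have := h1.coeff_natDegree
        rwa [h2] at this
      refine ⟨⟨polyOf (m + 1) c, polyOf_monic _ _, polyOf_natDegree _ _, hc0, ?_⟩, ?_⟩
      · intro i hi
        rw [hc0]
        rcases Nat.eq_zero_or_pos i with h0 | hpos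
        · subst h0
          rw [Nat.sub_zero, hctop, hc0, hσε, hε]
        · rcases Nat.eq_or_lt_of_le hi with h1 | hlt
          · subst h1
            rw [Nat.sub_self, hc0, hctop, map_one, mul_one]
          · -- 1 ≤ i ≤ m
            obtain ⟨j, hj⟩ : ∃ j : Fin m, (j : ℕ) + 1 = i := ⟨⟨i - 1, by omega⟩, by
              show i - 1 + 1 = i
              omega⟩
            rw [← hj, hcs j]
            have h2 : m + 1 - ((j : ℕ) + 1) = (j.rev : ℕ) + 1 := by
              rw [Fin.val_rev]; have := j.isLt; omega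
            rw [h2, hcs j.rev]
            have := htj j.rev
            rw [Fin.rev_rev] at this
            exact this.symm
      · apply Subtype.ext
        funext j
        exact hcs j
  exact Nat.card_congr (Equiv.ofBijective toT hbij)

end Concrete

end Cfsg.Agent.helper25.SUcount
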