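import Mathlib
import Cfsg.Agent.Lib_helper14_GUConj

/-! Unitary elements with prescribed determinant in the centraliser of a unitary matrix:
from any invertible `y` commuting with the unitary `a` one gets a unitary `z` commuting with `a`
with `det z = det y / σ (det y)`. -/

set_option autoImplicit false

namespace Cfsg.Agent.helper25.SUss

open Matrix Cfsg.Agent.helper14 Cfsg.Agent.helper14.GUConj

variable {K : Type*} [Field K] [Fintype K] {n : ℕ}

theorem st_unit_mul (σ : K ≃+* K) (A B : Matrix (Fin n) (Fin n) K)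
    (hA : st σ A * A = 1) (hB : st σ B * B = 1) : st σ (A * B) * (A * B) = 1 := by
  rw [st_mul]
  calc st σ B * st σ A * (A * B) = st σ B * (st σ A * A) * B := by
        simp only [Matrix.mul_assoc]
    _ = 1 := by rw [hA, Matrix.mul_one, hB]

theorem st_comm (σ : K ≃+* K) (a x : Matrix (Fin n) (Fin n) K)
    (ha : st σ a * a = 1) (ha' : a * st σ a = 1) (hx : x * a = a * x) :
    st σ x * a = a * st σ x := by
  have h1 : st σ a * st σ x = st σ x * st σ a := by
    rw [← st_mul, ← st_mul, hx]
  calc st σ x * a = (a * st σ a) * (st σ x * a) := by rw [ha', Matrix.one_mul]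
    _ = a * (st σ a * st σ x) * a := by simp only [Matrix.mul_assoc]
    _ = a * (st σ x * st σ a) * a := by rw [h1]
    _ = a * st σ x * (st σ a * a) := by simp only [Matrix.mul_assoc]
    _ = a * st σ x := by rw [ha, Matrix.mul_one]

theorem det_st (σ : K ≃+* K) (M : Matrix (Fin n) (Fin n) K) : (st σ M).det = σ M.det := by
  have h := RingHom.map_det (σ : K →+* K) M
  rw [RingHom.mapMatrix_apply] at h
  unfold st
  rw [Matrix.det_transpose]
  exact h.symm

theorem exists_unitary_commuting_det (σ : K ≃+* K) (hσ : ∀ a, σ (σ a) = a) (θ : K) (hθ : σ θ ≠ θ)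
    (a y : Matrix (Fin n) (Fin n) K) (ha : st σ a * a = 1) (hy : y * a = a * y)
    (hdet : y.det ≠ 0) :
    ∃ z : Matrix (Fin n) (Fin n) K, st σ z * z = 1 ∧ z * a = a * z ∧ z.det * σ y.det = y.det := by
  classical
  have ha' : a * st σ a = 1 := _root_.mul_eq_one_comm.mp ha
  obtain ⟨ys, hysdef⟩ : ∃ ys, ys = st σ y := ⟨_, rfl⟩
  have hys : ys * a = a * ys := by rw [hysdef]; exact st_comm σ a y ha ha' hy
  obtain ⟨s, hsdef⟩ : ∃ s, s = ys * y := ⟨_, rfl⟩
  have hs : st σ s = s := by rw [hsdef, hysdef, st_mul, st_st σ hσ]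
  have hsdet : s.det = σ y.det * y.det := by rw [hsdef, hysdef, Matrix.det_mul, det_st]
  have hσdet : σ y.det ≠ 0 := by
    intro h0
    apply hdet
    have := congrArg σ h0
    rwa [hσ, map_zero] at this
  have hsdet0 : s.det ≠ 0 := by rw [hsdet]; exact mul_ne_zero hσdet hdet
  have hsa : s * a = a * s := by
    rw [hsdef]
    calc ys * y * a = ys * (a * y) := by rw [Matrix.mul_assoc, hy]
      _ = (ys * a) * y := by rw [Matrix.mul_assoc]
      _ = a * (ys * y) := by rw [hys, Matrix.mul_assoc]
  obtain ⟨c, hc1, hc2, hca⟩ := exists_norm_mat σ hσ θ hθ s a hs hsdet0 hsa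
  have hcdet : c.det ≠ 0 := by
    intro h0
    apply hsdet0
    rw [← hc1, Matrix.det_mul, h0, zero_mul]
  have hcu : IsUnit c.det := IsUnit.mk0 _ hcdet
  obtain ⟨ci, hcidef⟩ : ∃ ci, ci = c⁻¹ := ⟨_, rfl⟩
  have hci1 : c * ci = 1 := by rw [hcidef]; exact Matrix.mul_nonsing_inv c hcu
  have hci2 : ci * c = 1 := by rw [hcidef]; exact Matrix.nonsing_inv_mul c hcu
  obtain ⟨csi, hcsidef⟩ : ∃ csi, csi = st σ ci := ⟨_, rfl⟩
  have hcsi1 : st σ c * csi = 1 := by rw [hcsidef, ← st_mul, hci2, st_one]
  have hcsi2 : csi * st σ c = 1 := by rw [hcsidef, ← st_mul, hci1, st_one]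
  have hcia : ci * a = a * ci := by
    calc ci * a = ci * a * (c * ci) := by rw [hci1, Matrix.mul_one]
      _ = ci * (a * c) * ci := by simp only [Matrix.mul_assoc]
      _ = ci * (c * a) * ci := by rw [hca]
      _ = (ci * c) * a * ci := by simp only [Matrix.mul_assoc]
      _ = a * ci := by rw [hci2, Matrix.one_mul]
  have hcsia : csi * a = a * csi := by rw [hcsidef]; exact st_comm σ a ci ha ha' hcia
  -- u = y * ci
  have hu : st σ (y * ci) * (y * ci) = 1 := by
    rw [st_mul, ← hcsidef, ← hysdef]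
    calc csi * ys * (y * ci) = csi * (ys * y) * ci := by simp only [Matrix.mul_assoc]
      _ = csi * (st σ c * c) * ci := by rw [← hsdef, hc2]
      _ = (csi * st σ c) * (c * ci) := by simp only [Matrix.mul_assoc]
      _ = 1 := by rw [hcsi2, hci1, Matrix.one_mul]
  have hua : (y * ci) * a = a * (y * ci) := by
    rw [Matrix.mul_assoc, hcia, ← Matrix.mul_assoc, hy, Matrix.mul_assoc]
  -- ζ = c * csi
  have hζ : st σ (c * csi) * (c * csi) = 1 := by
    rw [st_mul, hcsidef, st_st σ hσ, ← hcsidef]
    calc ci * st σ c * (c * csi) = ci * (st σ c * c) * csi := by simp only [Matrix.mul_assoc]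
      _ = ci * (c * st σ c) * csi := by rw [hc2, hc1]
      _ = (ci * c) * (st σ c * csi) := by simp only [Matrix.mul_assoc]
      _ = 1 := by rw [hci2, hcsi1, Matrix.one_mul]
  have hζa : (c * csi) * a = a * (c * csi) := by
    rw [Matrix.mul_assoc, hcsia, ← Matrix.mul_assoc, hca, Matrix.mul_assoc]
  refine ⟨c * csi * (y * ci) * (y * ci), ?_, ?_, ?_⟩
  · exact st_unit_mul σ _ _ (st_unit_mul σ _ _ hζ hu) hu
  · calc c * csi * (y * ci) * (y * ci) * a = c * csi * (y * ci) * (a * (y * ci)) := by
          rw [Matrix.mul_assoc, hua]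
      _ = c * csi * ((y * ci) * a) * (y * ci) := by simp only [Matrix.mul_assoc]
      _ = c * csi * (a * (y * ci)) * (y * ci) := by rw [hua]
      _ = (c * csi * a) * (y * ci) * (y * ci) := by simp only [Matrix.mul_assoc]
      _ = a * (c * csi * (y * ci) * (y * ci)) := by rw [hζa]; simp only [Matrix.mul_assoc]
  · have h1 : c.det * ci.det = 1 := by rw [← Matrix.det_mul, hci1, Matrix.det_one]
    have h2 : σ c.det * σ ci.det = 1 := by rw [← map_mul, h1, map_one]
    have h3 : c.det * σ c.det = σ y.det * y.det := by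
      rw [← hsdet, ← hc1, Matrix.det_mul, det_st]
    have hcsidet : csi.det = σ ci.det := by rw [hcsidef, det_st]
    rw [Matrix.det_mul, Matrix.det_mul, Matrix.det_mul, Matrix.det_mul, hcsidet]
    linear_combination (y.det * (ci.det * σ ci.det * y.det * σ y.det) + y.det * σ c.det * σ ci.det) * h1
      + y.det * h2 - y.det * ci.det * σ ci.det * h3

end Cfsg.Agent.helper25.SUss
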