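import Mathlib
import Cfsg.Agent.Lib_helper25_SUcountA
import Cfsg.Agent.Lib_helper25_SUss
import Cfsg.Agent.Lib_helper14_GUConj

/-! The characteristic polynomial of a unitary matrix is self conjugate-reciprocal, and conversely
the conjugate-inverse-transpose of a matrix with such a characteristic polynomial has the same
characteristic polynomial. -/

set_option autoImplicit false

namespace Cfsg.Agent.helper25.SUcount

open Polynomial Matrix Cfsg.Agent.helper14.GUConj Cfsg.Agent.helper25.SUss

variable {K : Type*} [Field K] [Fintype K] {n : ℕ}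

theorem coeff_charpoly_inv (N : Matrix (Fin n) (Fin n) K) (hN : IsUnit N) (i : ℕ) (hi : i ≤ n) :
    N⁻¹.charpoly.coeff i = (-1) ^ n * (N.det)⁻¹ * N.charpoly.coeff (n - i) := by
  rw [Matrix.charpoly_inv N hN, ← Matrix.reverse_charpoly, Fintype.card_fin, Ring.inverse_eq_inv']
  have h1 : ((-1 : K[X]) ^ n) = C ((-1 : K) ^ n) := by
    rw [C_pow, C_neg, C_1]
  rw [h1, ← C_mul, coeff_C_mul, coeff_reverse, Matrix.charpoly_natDegree_eq_dim, Fintype.card_fin,
    revAt_le hi]

theorem charpoly_st (σ : K ≃+* K) (M : Matrix (Fin n) (Fin n) K) :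
    (st σ M).charpoly = M.charpoly.map (σ : K →+* K) := by
  unfold st
  rw [Matrix.charpoly_transpose]
  exact Matrix.charpoly_map M (σ : K →+* K)

theorem neg_one_pow_mul_self (n : ℕ) : ((-1 : K) ^ n) * ((-1) ^ n) = 1 := by
  rw [← mul_pow, neg_one_mul, neg_neg, one_pow]

theorem usym_charpoly (σ : K ≃+* K) (M : Matrix (Fin n) (Fin n) K) (hM : st σ M * M = 1) :
    USym σ n M.charpoly := by
  intro i hi
  have hinv : M⁻¹ = st σ M := Matrix.inv_eq_left_inv hM
  have hU : IsUnit M := by
    rw [Matrix.isUnit_iff_isUnit_det]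
    exact Matrix.isUnit_det_of_left_inverse hM
  have hd0 : M.det ≠ 0 := ((Matrix.isUnit_iff_isUnit_det _).mp hU).ne_zero
  have h1 := coeff_charpoly_inv M hU i hi
  rw [hinv, charpoly_st, coeff_map] at h1
  have h3 := Matrix.det_eq_sign_charpoly_coeff M
  rw [Fintype.card_fin] at h3
  have h4 : M.charpoly.coeff 0 = (-1) ^ n * M.det := by
    rw [h3, ← mul_assoc, neg_one_pow_mul_self, one_mul]
  have h5 : (σ : K →+* K) (M.charpoly.coeff i) = σ (M.charpoly.coeff i) := rfl
  rw [h5] at h1
  rw [h1, h4]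
  have : (-1 : K) ^ n * M.det * ((-1) ^ n * M.det⁻¹ * M.charpoly.coeff (n - i))
      = ((-1) ^ n * (-1) ^ n) * (M.det * M.det⁻¹) * M.charpoly.coeff (n - i) := by ring
  rw [this, neg_one_pow_mul_self, mul_inv_cancel₀ hd0, one_mul, one_mul]

/-- the inverse of the conjugate transpose of a matrix with self conjugate-reciprocal
characteristic polynomial (constant term `(-1)^n`) has the same characteristic polynomial. -/
theorem charpoly_st_inv (σ : K ≃+* K) (hσ : ∀ a, σ (σ a) = a) (M : Matrix (Fin n) (Fin n) K)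
    (h0 : M.charpoly.coeff 0 = (-1) ^ n) (hs : USym σ n M.charpoly) :
    ((st σ M)⁻¹).charpoly = M.charpoly := by
  have hσneg : σ ((-1 : K) ^ n) = (-1) ^ n := by
    rw [map_pow, map_neg, map_one]
  have hdet : M.det = 1 := by
    have h3 := Matrix.det_eq_sign_charpoly_coeff M
    rw [Fintype.card_fin, h0, neg_one_pow_mul_self] at h3
    exact h3
  have hdet' : (st σ M).det = 1 := by rw [det_st, hdet, map_one]
  have hU : IsUnit (st σ M) := by
    rw [Matrix.isUnit_iff_isUnit_det, hdet']
    exact isUnit_one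
  have hdeg1 : ((st σ M)⁻¹).charpoly.natDegree = n := by
    rw [Matrix.charpoly_natDegree_eq_dim, Fintype.card_fin]
  have hdeg2 : M.charpoly.natDegree = n := by
    rw [Matrix.charpoly_natDegree_eq_dim, Fintype.card_fin]
  ext i
  by_cases hi : i ≤ n
  · rw [coeff_charpoly_inv _ hU i hi, hdet', inv_one, mul_one, charpoly_st, coeff_map]
    have h5 : (σ : K →+* K) (M.charpoly.coeff (n - i)) = σ (M.charpoly.coeff (n - i)) := rfl
    rw [h5, hs i hi, h0, map_mul, hσneg, hσ, ← mul_assoc, neg_one_pow_mul_self, one_mul]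
  · push Not at hi
    rw [coeff_eq_zero_of_natDegree_lt (by rw [hdeg1]; exact hi),
      coeff_eq_zero_of_natDegree_lt (by rw [hdeg2]; exact hi)]

end Cfsg.Agent.helper25.SUcount
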