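import Mathlib
import Cfsg.Agent.Lib_helper14_GUConj
import Cfsg.Agent.Lib_helper14_GraphFieldConj

set_option autoImplicit false
set_option linter.unusedSectionVars false
set_option linter.unusedVariables false

/-! A matrix preserving a non-degenerate sesquilinear form preserves a non-degenerate
hermitian form. -/

namespace Cfsg.Agent.helper14.GUConj

open Matrix Cfsg Cfsg.Agent.helper14 Cfsg.Agent.helper14.PsuAut

section mat2

variable {K : Type*} [Field K] [Fintype K] {n : ℕ}

local notation "MM" => Matrix (Fin n) (Fin n) K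

theorem cancel_left' (A X Y : MM) (hA : A.det ≠ 0) (h : A * X = A * Y) : X = Y := by
  have hu : IsUnit A.det := isUnit_iff_ne_zero.mpr hA
  calc X = A⁻¹ * (A * X) := by rw [← Matrix.mul_assoc, Matrix.nonsing_inv_mul A hu, Matrix.one_mul]
    _ = A⁻¹ * (A * Y) := by rw [h]
    _ = Y := by rw [← Matrix.mul_assoc, Matrix.nonsing_inv_mul A hu, Matrix.one_mul]

/-- the adjoint with respect to the sesquilinear form `t` (with inverse `t'`) -/
def dag (σ : K ≃+* K) (t' t x : MM) : MM := t' * st σ x * t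

theorem dag_add (σ : K ≃+* K) (t' t x y : MM) : dag σ t' t (x + y) = dag σ t' t x + dag σ t' t y := by
  unfold dag
  rw [st_add, Matrix.mul_add, Matrix.add_mul]

theorem dag_zero (σ : K ≃+* K) (t' t : MM) : dag σ t' t 0 = 0 := by
  have h := dag_add σ t' t 0 0
  rw [add_zero] at h
  exact left_eq_add.mp h

theorem dag_one (σ : K ≃+* K) (t' t : MM) (h2 : t' * t = 1) : dag σ t' t 1 = 1 := by
  unfold dag
  rw [st_one, Matrix.mul_one, h2]

theorem dag_mul (σ : K ≃+* K) (t' t x y : MM) (h1 : t * t' = 1) :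
    dag σ t' t (x * y) = dag σ t' t y * dag σ t' t x := by
  unfold dag
  rw [st_mul]
  calc t' * (st σ y * st σ x) * t = t' * st σ y * 1 * (st σ x * t) := by
        simp only [Matrix.mul_assoc, Matrix.one_mul]
    _ = t' * st σ y * (t * t') * (st σ x * t) := by rw [h1]
    _ = (t' * st σ y * t) * (t' * st σ x * t) := by simp only [Matrix.mul_assoc]

theorem dag_algebraMap (σ : K ≃+* K) (t' t : MM) (h2 : t' * t = 1) (c : K) :
    dag σ t' t (algebraMap K MM c) = algebraMap K MM (σ c) := by
  unfold dag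
  rw [st_algebraMap, ← Algebra.commutes, Matrix.mul_assoc, h2, Matrix.mul_one]

theorem dag_dag (σ : K ≃+* K) (hσ : ∀ a, σ (σ a) = a) (t' t x : MM) :
    dag σ t' t (dag σ t' t x) = (t' * st σ t) * x * (st σ t' * t) := by
  unfold dag
  rw [st_mul, st_mul, st_st σ hσ]
  simp only [Matrix.mul_assoc]

open scoped IsMulCommutative in
theorem exists_herm_form (σ : K ≃+* K) (hσ : ∀ a, σ (σ a) = a) (θ : K) (hθ : σ θ ≠ θ)
    (a t : MM) (ht : t.det ≠ 0) (hpres : st σ a * t * a = t) :
    ∃ h : MM, st σ h = h ∧ h.det ≠ 0 ∧ st σ a * h * a = h := by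
  classical
  have htu : IsUnit t.det := isUnit_iff_ne_zero.mpr ht
  obtain ⟨t', ht'def⟩ : ∃ t' : MM, t' = t⁻¹ := ⟨_, rfl⟩
  have h1 : t * t' = 1 := by rw [ht'def]; exact Matrix.mul_nonsing_inv t htu
  have h2 : t' * t = 1 := by rw [ht'def]; exact Matrix.nonsing_inv_mul t htu
  have hs2 : st σ t * st σ t' = 1 := by rw [← st_mul, h2, st_one]
  have hpres2 : st σ a * st σ t * a = st σ t := by
    have := congrArg (st σ) hpres
    rwa [st_mul, st_mul, st_st σ hσ, ← Matrix.mul_assoc] at this
  obtain ⟨m, hmdef⟩ : ∃ m : MM, m = t' * st σ t := ⟨_, rfl⟩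
  obtain ⟨m', hm'def⟩ : ∃ m' : MM, m' = st σ t' * t := ⟨_, rfl⟩
  have hmm' : m * m' = 1 := by
    rw [hmdef, hm'def]
    calc t' * st σ t * (st σ t' * t) = t' * (st σ t * st σ t') * t := by
          simp only [Matrix.mul_assoc]
      _ = 1 := by rw [hs2, Matrix.mul_one, h2]
  have hm'm : m' * m = 1 := _root_.mul_eq_one_comm.mp hmm'
  have htm : t * m = st σ t := by rw [hmdef, ← Matrix.mul_assoc, h1, Matrix.one_mul]
  have hma : m * a = a * m := by
    have hdet2 : (st σ a * t).det ≠ 0 := by
      intro h0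
      apply ht
      rw [← hpres, Matrix.det_mul, h0, zero_mul]
    apply cancel_left' (st σ a * t) _ _ hdet2
    calc st σ a * t * (m * a) = st σ a * (t * m) * a := by simp only [Matrix.mul_assoc]
      _ = st σ t := by rw [htm, hpres2]
      _ = t * m := htm.symm
      _ = st σ a * t * a * m := by rw [hpres]
      _ = st σ a * t * (a * m) := by simp only [Matrix.mul_assoc]
  have hdagm : dag σ t' t m = m' := by
    unfold dag
    rw [hmdef, hm'def, st_mul, st_st σ hσ]
    calc t' * (t * st σ t') * t = (t' * t) * st σ t' * t := by simp only [Matrix.mul_assoc]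
      _ = st σ t' * t := by rw [h2, Matrix.one_mul]
  let R : Subalgebra K MM := Algebra.adjoin K ({m} : Set MM)
  have hmR : m ∈ R := Algebra.subset_adjoin (Set.mem_singleton m)
  have hm'R : m' ∈ R := by
    let mU : GL (Fin n) K := ⟨m, m', hmm', hm'm⟩
    have hk : mU ^ Nat.card (GL (Fin n) K) = 1 := pow_card_eq_one'
    obtain ⟨k, hk'⟩ : ∃ k, Nat.card (GL (Fin n) K) = k + 1 :=
      ⟨Nat.card (GL (Fin n) K) - 1, by have := Nat.card_pos (α := GL (Fin n) K); omega⟩
    rw [hk', pow_succ] at hk
    have hinv : mU ^ k = mU⁻¹ := eq_inv_of_mul_eq_one_left hk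
    have hval : m' = m ^ k := by
      have := congrArg Units.val hinv
      rw [Units.val_pow_eq_pow_val] at this
      exact this.symm
    rw [hval]
    exact Subalgebra.pow_mem _ hmR k
  have hclosed : ∀ r : MM, r ∈ R → dag σ t' t r ∈ R := by
    intro r hr
    induction hr using Algebra.adjoin_induction with
    | mem x hx =>
      rw [Set.mem_singleton_iff] at hx
      rw [hx, hdagm]
      exact hm'R
    | algebraMap c =>
      rw [dag_algebraMap σ t' t h2]
      exact Subalgebra.algebraMap_mem _ _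
    | add x y _ _ hx hy =>
      rw [dag_add]
      exact Subalgebra.add_mem _ hx hy
    | mul x y _ _ hx hy =>
      rw [dag_mul σ t' t x y h1]
      exact Subalgebra.mul_mem _ hy hx
  have hcent : ∀ r : MM, r ∈ R → r * a = a * r := by
    intro r hr
    have hle : R ≤ Subalgebra.centralizer K ({a} : Set MM) := by
      refine Algebra.adjoin_le ?_
      intro x hx
      rw [Set.mem_singleton_iff] at hx
      rw [hx, SetLike.mem_coe, Subalgebra.mem_centralizer_iff]
      intro g hg
      rw [Set.mem_singleton_iff] at hg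
      rw [hg, hma]
    have := hle hr
    rw [Subalgebra.mem_centralizer_iff] at this
    exact (this a (Set.mem_singleton a)).symm
  have hcommR : ∀ x y : MM, x ∈ R → y ∈ R → x * y = y * x := by
    intro x y hx hy
    exact congrArg Subtype.val (mul_comm (⟨x, hx⟩ : ↥R) ⟨y, hy⟩)
  let σR : ↥R →+* ↥R :=
    { toFun := fun r => ⟨dag σ t' t (r : MM), hclosed _ r.2⟩
      map_one' := Subtype.ext (dag_one σ t' t h2)
      map_zero' := Subtype.ext (dag_zero σ t' t)
      map_add' := fun x y => Subtype.ext (dag_add σ t' t _ _)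
      map_mul' := fun x y => Subtype.ext (by
        show dag σ t' t ((x : MM) * (y : MM)) = dag σ t' t (x : MM) * dag σ t' t (y : MM)
        rw [dag_mul σ t' t _ _ h1]
        exact hcommR _ _ (hclosed _ y.2) (hclosed _ x.2)) }
  have hσR : ∀ r : ↥R, ((σR r : ↥R) : MM) = dag σ t' t (r : MM) := fun r => rfl
  have hσRR : ∀ r : ↥R, σR (σR r) = r := by
    intro r
    apply Subtype.ext
    rw [hσR, hσR, dag_dag σ hσ, ← hmdef, ← hm'def, hcommR m _ hmR r.2, Matrix.mul_assoc, hmm',
      Matrix.mul_one]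
  have hθu : IsUnit (algebraMap K ↥R θ - σR (algebraMap K ↥R θ)) := by
    have h1' : algebraMap K ↥R θ - σR (algebraMap K ↥R θ) = algebraMap K ↥R (θ - σ θ) := by
      apply Subtype.ext
      show (algebraMap K MM θ) - dag σ t' t (algebraMap K MM θ) = algebraMap K MM (θ - σ θ)
      rw [dag_algebraMap σ t' t h2, map_sub]
    rw [h1']
    exact (IsUnit.mk0 _ (sub_ne_zero.mpr (Ne.symm hθ))).map (algebraMap K ↥R)
  let mR : ↥R := ⟨m, hmR⟩
  have hmRn : mR * σR mR = 1 := by
    apply Subtype.ext
    show m * dag σ t' t m = 1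
    rw [hdagm, hmm']
  obtain ⟨y, hyu, hy⟩ := NormSurj.hilbert90 σR hσRR (algebraMap K ↥R θ) hθu mR hmRn
  have hyv : m * dag σ t' t (y : MM) = (y : MM) := congrArg Subtype.val hy
  obtain ⟨y', hyy'⟩ := hyu.exists_right_inv
  have hyy'v : (y : MM) * (y' : MM) = 1 := congrArg Subtype.val hyy'
  refine ⟨t * (y : MM), ?_, ?_, ?_⟩
  · rw [st_mul]
    have e1 : t * (y : MM) = t * (dag σ t' t (y : MM) * m) := by
      rw [← hcommR m _ hmR (hclosed _ y.2), hyv]
    rw [e1, hmdef]
    unfold dag
    calc st σ (y : MM) * st σ t = (t * t') * st σ (y : MM) * (t * t') * st σ t := by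
          rw [h1, Matrix.one_mul, Matrix.mul_one]
      _ = t * (t' * st σ (y : MM) * t * (t' * st σ t)) := by simp only [Matrix.mul_assoc]
  · rw [Matrix.det_mul]
    refine mul_ne_zero ht ?_
    intro h0
    have := congrArg Matrix.det hyy'v
    rw [Matrix.det_mul, h0, zero_mul, Matrix.det_one] at this
    exact zero_ne_one this
  · calc st σ a * (t * (y : MM)) * a = st σ a * t * ((y : MM) * a) := by
          simp only [Matrix.mul_assoc]
      _ = st σ a * t * (a * (y : MM)) := by rw [hcent _ y.2]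
      _ = (st σ a * t * a) * (y : MM) := by simp only [Matrix.mul_assoc]
      _ = t * (y : MM) := by rw [hpres]

theorem herm_factor (σ : K ≃+* K) (hne : σ ≠ RingEquiv.refl K) (hσ : ∀ a, σ (σ a) = a)
    (h : MM) (hh : st σ h = h) (hdet : h.det ≠ 0) :
    ∃ w : GL (Fin n) K, h = (w : MM) * st σ (w : MM) := by
  obtain ⟨D, hD⟩ : ∃ D : GL (Fin n) K, (D : MM) = h :=
    ⟨Matrix.GeneralLinearGroup.mkOfDetNeZero h hdet, rfl⟩
  have hDh : ∀ i j, (D : MM) i j = σ ((D : MM) j i) := by
    intro i j
    rw [hD]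
    have := congrFun (congrFun hh i) j
    rw [st_apply] at this
    exact this.symm
  obtain ⟨w, hw⟩ := herm_std σ hne hσ D hDh
  refine ⟨w, ?_⟩
  have := congrArg Units.val hw
  rw [Units.val_mul, ← map_inv, glmap_val, gInvT_inv_val, Matrix.transpose_map, hD] at this
  exact this

end mat2

end Cfsg.Agent.helper14.GUConj
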