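import Cfsg.Statements.S2588
import Mathlib
import Cfsg.Agent.Lib_helper14_GUConj2
-- import your own Cfsg.Agent.* helpers here

set_option autoImplicit false
open Cfsg

namespace Cfsg.Agent.S2588

open Matrix Cfsg.Agent.helper14 Cfsg.Agent.helper14.PsuAut Cfsg.Agent.helper14.GUConj

/-- An invertible matrix A over the field with q² elements is conjugate in GL_n(q²) to an element of the general unitary group GU_n(q) (isometries of the Hermitian form Σ u_i v_i^q) if and only if A is similar to the inverse transpose of its entrywise q-th power (A ~ A^(−qT), the image of A under the map sending a matrix to the inverse transpose of its entrywise q-th power — inverse transpose composed with the field automorphism — whose fixed points form GU_n(q)). -/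
theorem result {K : Type*} [Field K] [Fintype K] {q n : ℕ} (hK : Fintype.card K = q ^ 2) (A : GL (Fin n) K) : (∃ B : ↥(Cfsg.GU n K q), IsConj A (B : GL (Fin n) K)) ↔ IsConj (A : Matrix (Fin n) (Fin n) K) (((A : Matrix (Fin n) (Fin n) K).map (fun x : K => x ^ q)).transpose)⁻¹ := by
  classical
  obtain ⟨σ, hσq⟩ := exists_frob hK
  have hσ := frob_inv hK σ hσq
  have hne := frob_ne_refl hK σ hσq
  obtain ⟨θ, hθ⟩ : ∃ θ, σ θ ≠ θ := by
    by_contra hcon
    push Not at hcon
    exact hne (RingEquiv.ext hcon)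
  have hGU : ∀ X : GL (Fin n) K, X ∈ Cfsg.GU n K q ↔
      st σ (X : Matrix (Fin n) (Fin n) K) * (X : Matrix (Fin n) (Fin n) K) = 1 := by
    intro X
    rw [mem_GU_iff_mat σ hσq]
    unfold st
    constructor
    · intro h
      have := congrArg Matrix.transpose h
      rwa [Matrix.transpose_mul, Matrix.transpose_transpose, Matrix.transpose_one] at this
    · intro h
      have := congrArg Matrix.transpose h
      rwa [Matrix.transpose_mul, Matrix.transpose_transpose, Matrix.transpose_one] at this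
  obtain ⟨a, hadef⟩ : ∃ a : Matrix (Fin n) (Fin n) K, a = (A : Matrix (Fin n) (Fin n) K) := ⟨_, rfl⟩
  have hAs : ((A : Matrix (Fin n) (Fin n) K).map (fun x : K => x ^ q)).transpose = st σ a := by
    unfold st
    rw [hadef]
    congr 1
    ext i j
    rw [Matrix.map_apply, Matrix.map_apply, hσq]
  rw [hAs, ← hadef]
  have hadet : a.det ≠ 0 := by rw [hadef]; exact gl_det_ne_zero A
  have hsadet : (st σ a).det ≠ 0 := st_det_ne_zero σ a hadet
  have hsau : IsUnit (st σ a).det := isUnit_iff_ne_zero.mpr hsadet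
  constructor
  · rintro ⟨B, hB⟩
    rw [isConj_iff] at hB
    obtain ⟨c, hc⟩ := hB
    obtain ⟨b, hbdef⟩ : ∃ b : Matrix (Fin n) (Fin n) K,
        b = ((B : GL (Fin n) K) : Matrix (Fin n) (Fin n) K) := ⟨_, rfl⟩
    obtain ⟨g, hgdef⟩ : ∃ g : Matrix (Fin n) (Fin n) K, g = (c : Matrix (Fin n) (Fin n) K) := ⟨_, rfl⟩
    have hb : st σ b * b = 1 := by rw [hbdef]; exact (hGU B.1).mp B.2
    have hcA : c * A = (B : GL (Fin n) K) * c := mul_inv_eq_iff_eq_mul.mp hc
    have hga : g * a = b * g := by
      have := congrArg Units.val hcA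
      rw [Units.val_mul, Units.val_mul] at this
      rw [hgdef, hadef, hbdef]
      exact this
    have hgdet : g.det ≠ 0 := by rw [hgdef]; exact gl_det_ne_zero c
    have hudet : (st σ g * g).det ≠ 0 := by
      rw [Matrix.det_mul]
      exact mul_ne_zero (st_det_ne_zero σ g hgdet) hgdet
    have hkey : st σ a * (st σ g * g * a) = st σ g * g := by
      calc st σ a * (st σ g * g * a) = (st σ a * st σ g) * (g * a) := by
            simp only [Matrix.mul_assoc]
        _ = st σ (g * a) * (g * a) := by rw [st_mul]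
        _ = st σ g * (st σ b * b) * g := by rw [hga, st_mul]; simp only [Matrix.mul_assoc]
        _ = st σ g * g := by rw [hb, Matrix.mul_one]
    refine ⟨Matrix.GeneralLinearGroup.mkOfDetNeZero (st σ g * g) hudet, ?_⟩
    show st σ g * g * a = (st σ a)⁻¹ * (st σ g * g)
    calc st σ g * g * a = (st σ a)⁻¹ * (st σ a * (st σ g * g * a)) := by
          rw [← Matrix.mul_assoc, Matrix.nonsing_inv_mul _ hsau, Matrix.one_mul]
      _ = (st σ a)⁻¹ * (st σ g * g) := by rw [hkey]
  · rintro ⟨c, hc⟩
    obtain ⟨t, htdef⟩ : ∃ t : Matrix (Fin n) (Fin n) K, t = (c : Matrix (Fin n) (Fin n) K) := ⟨_, rfl⟩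
    have htdet : t.det ≠ 0 := by rw [htdef]; exact gl_det_ne_zero c
    have hc' : t * a = (st σ a)⁻¹ * t := by rw [htdef]; exact hc
    have hpres : st σ a * t * a = t := by
      rw [Matrix.mul_assoc, hc', ← Matrix.mul_assoc, Matrix.mul_nonsing_inv _ hsau, Matrix.one_mul]
    obtain ⟨h, hh, hhdet, hha⟩ := exists_herm_form σ hσ θ hθ a t htdet hpres
    obtain ⟨w, hw⟩ := herm_factor σ hne hσ h hh hhdet
    obtain ⟨X, hXdef⟩ : ∃ X : Matrix (Fin n) (Fin n) K, X = st σ (w : Matrix (Fin n) (Fin n) K) :=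
      ⟨_, rfl⟩
    have hXdet : X.det ≠ 0 := by rw [hXdef]; exact st_det_ne_zero σ _ (gl_det_ne_zero w)
    have hstX : st σ X = (w : Matrix (Fin n) (Fin n) K) := by rw [hXdef, st_st σ hσ]
    obtain ⟨XG, hXG⟩ : ∃ XG : GL (Fin n) K, (XG : Matrix (Fin n) (Fin n) K) = X :=
      ⟨Matrix.GeneralLinearGroup.mkOfDetNeZero X hXdet, rfl⟩
    obtain ⟨X', hX'def⟩ : ∃ X' : Matrix (Fin n) (Fin n) K,
        X' = ((XG⁻¹ : GL (Fin n) K) : Matrix (Fin n) (Fin n) K) := ⟨_, rfl⟩
    have hXX' : X * X' = 1 := by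
      rw [← hXG, hX'def, ← Units.val_mul, mul_inv_cancel, Units.val_one]
    have hwX : h = st σ X * X := by rw [hstX, hXdef]; exact hw
    have hmem : XG * A * XG⁻¹ ∈ Cfsg.GU n K q := by
      rw [hGU, Units.val_mul, Units.val_mul, hXG, ← hX'def, ← hadef, st_mul, st_mul]
      calc st σ X' * (st σ a * st σ X) * (X * a * X')
          = st σ X' * (st σ a * (st σ X * X) * a) * X' := by simp only [Matrix.mul_assoc]
        _ = st σ X' * (st σ X * X) * X' := by rw [← hwX, hha]
        _ = (st σ X' * st σ X) * (X * X') := by simp only [Matrix.mul_assoc]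
        _ = 1 := by rw [← st_mul, hXX', st_one, Matrix.one_mul]
    exact ⟨⟨XG * A * XG⁻¹, hmem⟩, isConj_iff.mpr ⟨XG, rfl⟩⟩

end Cfsg.Agent.S2588
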