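import Mathlib
import Cfsg.Agent.Lib_helper25_SUcountB
import Cfsg.Agent.Lib_helper25_SSimple
import Cfsg.Agent.S2588

/-! Existence of an element of `SU_n(q)` of order prime to `p` with a prescribed self
conjugate-reciprocal characteristic polynomial. -/

set_option autoImplicit false

namespace Cfsg.Agent.helper25.SUcount

open Polynomial Matrix Cfsg.Agent.helper14 Cfsg.Agent.helper14.PsuAut Cfsg.Agent.helper14.GUConj
  Cfsg.Agent.helper25.SSimple Cfsg.Agent.helper25.SUss

theorem st_pow {K : Type*} [Field K] [Fintype K] {n : ℕ} (σ : K ≃+* K) (M : Matrix (Fin n) (Fin n) K) (k : ℕ) :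
    st σ (M ^ k) = (st σ M) ^ k := by
  induction k with
  | zero => rw [pow_zero, pow_zero, st_one]
  | succ k ih => rw [pow_succ, st_mul, ih, pow_succ']

theorem exists_SU_of_charpoly {F : Type*} [Field F] [Fintype F] {q : ℕ}
    (hF : Fintype.card F = q ^ 2)
    (p : ℕ) [Fact p.Prime] [CharP F p] (n : ℕ) (σ : F ≃+* F) (hσq : ∀ a, σ a = a ^ q)
    (f : F[X]) (hm : f.Monic) (hd : f.natDegree = n) (h0 : f.coeff 0 = (-1) ^ n)
    (hs : USym σ n f) :
    ∃ g : ↥(Cfsg.SU n F q), (orderOf g).Coprime p ∧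
      ((g : Matrix.SpecialLinearGroup (Fin n) F) : Matrix (Fin n) (Fin n) F).charpoly = f := by
  classical
  have hσ := frob_inv hF σ hσq
  have h0ne : f.coeff 0 ≠ 0 := by
    rw [h0]; exact pow_ne_zero _ (neg_ne_zero.mpr one_ne_zero)
  obtain ⟨A, hAo, hAc⟩ := exists_GL_of_charpoly p f hm hd h0ne
  have hAc0 : A.val.charpoly.coeff 0 = (-1) ^ n := by rw [hAc]; exact h0
  have hAs : USym σ n A.val.charpoly := by rw [hAc]; exact hs
  have hc' := charpoly_st_inv σ hσ A.val hAc0 hAs
  have hdetA : A.val.det = 1 := by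
    have h3 := Matrix.det_eq_sign_charpoly_coeff A.val
    rw [Fintype.card_fin, hAc0, neg_one_pow_mul_self] at h3
    exact h3
  have hUst : IsUnit (st σ A.val) := by
    rw [Matrix.isUnit_iff_isUnit_det, det_st, hdetA, map_one]
    exact isUnit_one
  obtain ⟨A', hA'⟩ : ∃ A' : GL (Fin n) F, A'.val = (st σ A.val)⁻¹ := by
    refine ⟨hUst.unit⁻¹, ?_⟩
    rw [Matrix.coe_units_inv, IsUnit.unit_spec]
  have hA'o : (orderOf A').Coprime p := by
    apply Nat.Coprime.coprime_dvd_left _ hAo
    apply orderOf_dvd_of_pow_eq_one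
    apply Units.ext
    rw [Units.val_pow_eq_pow_val, hA', Matrix.inv_pow', ← st_pow, ← Units.val_pow_eq_pow_val,
      pow_orderOf_eq_one, Units.val_one, st_one, inv_one]
  have hconj : IsConj A A' := isConj_of_charpoly_eq p A A' hAo hA'o (by rw [hA', hc'])
  have hconjM : IsConj (A : Matrix (Fin n) (Fin n) F)
      (((A : Matrix (Fin n) (Fin n) F).map (fun x : F => x ^ q)).transpose)⁻¹ := by
    obtain ⟨c, hc⟩ := isConj_iff.mp hconj
    rw [mul_inv_eq_iff_eq_mul] at hc
    have h1 : c.val * A.val = A'.val * c.val := by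
      have := congrArg Units.val hc
      rwa [Units.val_mul, Units.val_mul] at this
    have h2 : (A.val.map (fun x : F => x ^ q)).transpose = st σ A.val := by
      unfold st
      congr 1
      ext i j
      exact (hσq _).symm
    rw [h2, ← hA']
    exact ⟨c, h1⟩
  obtain ⟨B, hB⟩ := (Cfsg.Agent.S2588.result hF A).mpr hconjM
  have hBc : (B : GL (Fin n) F).val.charpoly = f := by
    rw [← hAc]
    exact (charpoly_eq_of_isConj A B hB).symm
  have hBo : (orderOf (B : GL (Fin n) F)).Coprime p := by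
    apply Nat.Coprime.coprime_dvd_left _ hAo
    apply orderOf_dvd_of_pow_eq_one
    obtain ⟨c, hc⟩ := isConj_iff.mp hB
    rw [← hc, conj_pow, pow_orderOf_eq_one, mul_one, mul_inv_cancel]
  have hBdet : (B : GL (Fin n) F).val.det = 1 := by
    have h3 := Matrix.det_eq_sign_charpoly_coeff (B : GL (Fin n) F).val
    rw [Fintype.card_fin, hBc, h0, neg_one_pow_mul_self] at h3
    exact h3
  obtain ⟨S, hSdef⟩ : ∃ S : Matrix.SpecialLinearGroup (Fin n) F,
      S = ⟨(B : GL (Fin n) F).val, hBdet⟩ := ⟨_, rfl⟩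
  have hSval : (S : Matrix (Fin n) (Fin n) F) = (B : GL (Fin n) F).val := by rw [hSdef]
  have hSGL : Matrix.SpecialLinearGroup.toGL S = (B : GL (Fin n) F) := by
    apply Units.ext
    rw [toGL_val]
    exact hSval
  have hSmem : S ∈ Cfsg.SU n F q := by
    have h1 : Matrix.SpecialLinearGroup.toGL S ∈ Cfsg.GU n F q := by
      rw [hSGL]; exact B.2
    exact h1
  refine ⟨⟨S, hSmem⟩, ?_, ?_⟩
  · rw [Subgroup.orderOf_mk, ← orderOf_toGL, hSGL]
    exact hBo
  · show (S : Matrix (Fin n) (Fin n) F).charpoly = f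
    rw [hSval]
    exact hBc

end Cfsg.Agent.helper25.SUcount
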