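import Cfsg.Statements.S2587
import Mathlib
import Cfsg.Agent.Lib_helper14_GUConj
-- import your own Cfsg.Agent.* helpers here

set_option autoImplicit false
open Cfsg

namespace Cfsg.Agent.S2587

open Matrix Cfsg.Agent.helper14 Cfsg.Agent.helper14.PsuAut Cfsg.Agent.helper14.GUConj

/-- Conjugacy in the finite general unitary group is controlled by the general linear group: two elements of GU_n(q) (the invertible matrices over the field with q² elements preserving the Hermitian form Σ u_i v_i^q) are conjugate in GU_n(q) if and only if they are conjugate in GL_n(q²). -/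
theorem result {K : Type*} [Field K] [Fintype K] {q n : ℕ} (hK : Fintype.card K = q ^ 2) (A B : ↥(Cfsg.GU n K q)) : IsConj A B ↔ IsConj (A : GL (Fin n) K) (B : GL (Fin n) K) := by
  classical
  constructor
  · intro h
    rw [isConj_iff] at h ⊢
    obtain ⟨c, hc⟩ := h
    exact ⟨(c : GL (Fin n) K), by rw [← hc]; rfl⟩
  · intro h
    rw [isConj_iff] at h
    obtain ⟨G, hG⟩ := h
    obtain ⟨σ, hσq⟩ := exists_frob hK
    have hσ := frob_inv hK σ hσq
    obtain ⟨θ, hθ⟩ : ∃ θ, σ θ ≠ θ := by
      by_contra hcon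
      push Not at hcon
      exact frob_ne_refl hK σ hσq (RingEquiv.ext hcon)
    have hGU : ∀ X : GL (Fin n) K, X ∈ Cfsg.GU n K q ↔
        st σ (X : Matrix (Fin n) (Fin n) K) * (X : Matrix (Fin n) (Fin n) K) = 1 := by
      intro X
      rw [mem_GU_iff_mat σ hσq]
      unfold st
      constructor
      · intro h
        have := congrArg Matrix.transpose h
        rwa [Matrix.transpose_mul, Matrix.transpose_transpose, Matrix.transpose_one] at this
      · intro h
        have := congrArg Matrix.transpose h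
        rwa [Matrix.transpose_mul, Matrix.transpose_transpose, Matrix.transpose_one] at this
    obtain ⟨a, hadef⟩ : ∃ a : Matrix (Fin n) (Fin n) K, a = ((A : GL (Fin n) K) : Matrix (Fin n) (Fin n) K) :=
      ⟨_, rfl⟩
    obtain ⟨b, hbdef⟩ : ∃ b : Matrix (Fin n) (Fin n) K, b = ((B : GL (Fin n) K) : Matrix (Fin n) (Fin n) K) :=
      ⟨_, rfl⟩
    obtain ⟨g, hgdef⟩ : ∃ g : Matrix (Fin n) (Fin n) K, g = (G : Matrix (Fin n) (Fin n) K) := ⟨_, rfl⟩
    have ha : st σ a * a = 1 := by rw [hadef]; exact (hGU A.1).mp A.2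
    have hb : st σ b * b = 1 := by rw [hbdef]; exact (hGU B.1).mp B.2
    have ha' : a * st σ a = 1 := _root_.mul_eq_one_comm.mp ha
    have hGA : G * (A : GL (Fin n) K) = (B : GL (Fin n) K) * G := mul_inv_eq_iff_eq_mul.mp hG
    have hga : g * a = b * g := by
      have := congrArg Units.val hGA
      rw [Units.val_mul, Units.val_mul] at this
      rw [hgdef, hadef, hbdef]
      exact this
    have hstar : st σ a * st σ g = st σ g * st σ b := by rw [← st_mul, ← st_mul, hga]
    have hgb : st σ g * b = a * st σ g := by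
      calc st σ g * b = (a * st σ a) * (st σ g * b) := by rw [ha', Matrix.one_mul]
        _ = a * (st σ a * st σ g) * b := by simp only [Matrix.mul_assoc]
        _ = a * (st σ g * st σ b) * b := by rw [hstar]
        _ = a * st σ g * (st σ b * b) := by simp only [Matrix.mul_assoc]
        _ = a * st σ g := by rw [hb, Matrix.mul_one]
    obtain ⟨s, hsdef⟩ : ∃ s : Matrix (Fin n) (Fin n) K, s = st σ g * g := ⟨_, rfl⟩
    have hs : st σ s = s := by rw [hsdef, st_mul, st_st σ hσ]
    have hgdet : g.det ≠ 0 := by rw [hgdef]; exact gl_det_ne_zero G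
    have hdet : s.det ≠ 0 := by
      rw [hsdef, Matrix.det_mul]
      exact mul_ne_zero (st_det_ne_zero σ g hgdet) hgdet
    have hsa : s * a = a * s := by
      rw [hsdef]
      calc st σ g * g * a = st σ g * (b * g) := by rw [Matrix.mul_assoc, hga]
        _ = (st σ g * b) * g := by rw [Matrix.mul_assoc]
        _ = a * (st σ g * g) := by rw [hgb, Matrix.mul_assoc]
    obtain ⟨c, hc1, hc2, hca⟩ := exists_norm_mat σ hσ θ hθ s a hs hdet hsa
    have hcdet : c.det ≠ 0 := by
      intro h0
      apply hdet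
      rw [← hc1, Matrix.det_mul, h0, zero_mul]
    obtain ⟨C, hCval⟩ : ∃ C : GL (Fin n) K, (C : Matrix (Fin n) (Fin n) K) = c :=
      ⟨Matrix.GeneralLinearGroup.mkOfDetNeZero c hcdet, rfl⟩
    have hCA : C * (A : GL (Fin n) K) = (A : GL (Fin n) K) * C := by
      apply Units.ext
      rw [Units.val_mul, Units.val_mul, hCval, ← hadef]
      exact hca
    have hCA' : C⁻¹ * (A : GL (Fin n) K) = (A : GL (Fin n) K) * C⁻¹ := by
      rw [inv_mul_eq_iff_eq_mul, ← mul_assoc, hCA, mul_assoc, mul_inv_cancel, mul_one]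
    have hHmem : G * C⁻¹ ∈ Cfsg.GU n K q := by
      rw [hGU]
      obtain ⟨c', hc'⟩ : ∃ c' : Matrix (Fin n) (Fin n) K,
          c' = ((C⁻¹ : GL (Fin n) K) : Matrix (Fin n) (Fin n) K) := ⟨_, rfl⟩
      have h1 : c * c' = 1 := by
        rw [← hCval, hc', ← Units.val_mul, mul_inv_cancel, Units.val_one]
      rw [Units.val_mul, ← hc', ← hgdef, st_mul]
      calc st σ c' * st σ g * (g * c') = st σ c' * (st σ g * g) * c' := by
            simp only [Matrix.mul_assoc]
        _ = st σ c' * (st σ c * c) * c' := by rw [← hsdef, hc2]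
        _ = (st σ c' * st σ c) * (c * c') := by simp only [Matrix.mul_assoc]
        _ = 1 := by rw [← st_mul, h1, st_one, Matrix.one_mul]
    refine isConj_iff.mpr ⟨⟨G * C⁻¹, hHmem⟩, Subtype.ext ?_⟩
    show G * C⁻¹ * (A : GL (Fin n) K) * (G * C⁻¹)⁻¹ = (B : GL (Fin n) K)
    rw [mul_inv_eq_iff_eq_mul, mul_assoc, hCA', ← mul_assoc, hGA, mul_assoc]

end Cfsg.Agent.S2587
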