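import Mathlib

/-! Characteristic polynomial of a scalar multiple of a matrix. -/

set_option autoImplicit false

namespace Cfsg.Agent.helper13.S2670x

open Polynomial

theorem pieceS1 {F : Type*} [Field F] {n : ℕ} (A : Matrix (Fin n) (Fin n) F) (μ : F) (hμ : μ ≠ 0) :
    (μ • A).charpoly = C (μ ^ n) * A.charpoly.comp (C μ⁻¹ * X) := by
  have h2 : (C μ : F[X]) • ((Polynomial.compRingHom (C μ⁻¹ * X)).mapMatrix (Matrix.charmatrix A)) =
      Matrix.charmatrix (μ • A) := by
    apply Matrix.ext
    intro i j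
    rw [Matrix.smul_apply, RingHom.mapMatrix_apply, Matrix.map_apply,
      Polynomial.coe_compRingHom_apply, smul_eq_mul]
    by_cases hij : i = j
    · subst hij
      rw [Matrix.charmatrix_apply_eq, Matrix.charmatrix_apply_eq, Polynomial.sub_comp,
        Polynomial.X_comp, Polynomial.C_comp, Matrix.smul_apply, smul_eq_mul, mul_sub, ← mul_assoc,
        ← C_mul, mul_inv_cancel₀ hμ, C_1, one_mul, ← C_mul]
    · rw [Matrix.charmatrix_apply_ne _ _ _ hij, Matrix.charmatrix_apply_ne _ _ _ hij,
        Polynomial.neg_comp, Polynomial.C_comp, Matrix.smul_apply, smul_eq_mul, mul_neg, ← C_mul]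
  unfold Matrix.charpoly
  rw [← h2, Matrix.det_smul, Fintype.card_fin, ← C_pow, ← Polynomial.coe_compRingHom_apply,
    RingHom.map_det]

end Cfsg.Agent.helper13.S2670x
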