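import Mathlib

set_option autoImplicit false
open Polynomial

namespace Cfsg.Agent.helper9.S2670x

/-- PIECE S2b: the scaling is an action -/
theorem pieceS2b {F : Type*} [Field F] (n : ℕ) (f : F[X]) :
    C ((1 : F) ^ n) * f.comp (C (1 : F)⁻¹ * X) = f ∧
    ∀ μ ν : F, μ ≠ 0 → ν ≠ 0 → C ((μ * ν) ^ n) * f.comp (C (μ * ν)⁻¹ * X) =
      C (μ ^ n) * (C (ν ^ n) * f.comp (C ν⁻¹ * X)).comp (C μ⁻¹ * X) := by
  constructor
  · simp
  · intro μ ν _ _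
    rw [mul_comp, C_comp, comp_assoc, mul_comp, C_comp, X_comp, ← mul_assoc (C ν⁻¹), ← C_mul,
      ← mul_assoc, ← C_mul, mul_pow, mul_inv, mul_comm μ⁻¹ ν⁻¹]

/-- PIECE S3: the scalar `c` is determined by `f` -/
theorem pieceS3 {F : Type*} [Field F] (n r : ℕ) (hn : 1 ≤ n) (hr : 1 ≤ r) (f : F[X]) (hf : f.Monic)
    (hd : f.natDegree = n) (c c' : F) (h : f ∣ (X ^ r - C c) ^ n) (h' : f ∣ (X ^ r - C c') ^ n) :
    c = c' := by
  by_contra hne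
  have hcc : (c' - c) ≠ 0 := sub_ne_zero.2 (Ne.symm hne)
  have hcop : IsCoprime (X ^ r - C c : F[X]) (X ^ r - C c') := by
    refine ⟨C (c' - c)⁻¹, -C (c' - c)⁻¹, ?_⟩
    have h1 : C (c' - c)⁻¹ * (X ^ r - C c) + -C (c' - c)⁻¹ * (X ^ r - C c')
        = C (c' - c)⁻¹ * C (c' - c) := by
      rw [C_sub]; ring
    rw [h1, ← C_mul, inv_mul_cancel₀ hcc, C_1]
  have hcop' : IsCoprime ((X ^ r - C c : F[X]) ^ n) ((X ^ r - C c') ^ n) := hcop.pow
  have hunit : IsUnit f := hcop'.isUnit_of_dvd' h h'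
  have := natDegree_eq_zero_of_isUnit hunit
  omega

end Cfsg.Agent.helper9.S2670x
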