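import Mathlib
import Cfsg.Agent.Lib_helper11_S2671i
import Cfsg.Agent.Lib_helper13_S2670x
import Cfsg.Agent.Lib_helper9_S2670x

/-! Group side of S2672: classes of elements of prime order of `PGU_n(q)`. -/

set_option autoImplicit false

namespace Cfsg.Agent.helper11.S2672g

open Polynomial Matrix Cfsg.Agent.helper14 Cfsg.Agent.helper14.PsuAut Cfsg.Agent.helper14.GUConj
  Cfsg.Agent.helper25.SUcount Cfsg.Agent.helper25.SSimple Cfsg.Agent.helper25.SUss
  Cfsg.Agent.helper11.S2671i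

section gen
variable {F : Type*} [Field F] {ι : Type*} [Fintype ι] [DecidableEq ι]

theorem charpoly_dvd_of_pow_eq_smul (A : Matrix ι ι F) (r : ℕ) (c : F)
    (hA : A ^ r = c • (1 : Matrix ι ι F)) :
    A.charpoly ∣ (X ^ r - C c) ^ Fintype.card ι := by
  have hcomm : Commute (Matrix.scalar ι (X : F[X])) (C.mapMatrix A) :=
    Matrix.scalar_commute _ (fun _ => Commute.all _ _) _
  have h1 := hcomm.geom_sum₂_mul r
  have h2 : (C.mapMatrix A) ^ r = Matrix.scalar ι (C c : F[X]) := by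
    rw [← map_pow, hA]
    ext i j
    by_cases hij : i = j
    · subst hij
      simp
    · simp [hij]
  have h3 : (Matrix.scalar ι (X : F[X])) ^ r - (C.mapMatrix A) ^ r =
      Matrix.scalar ι (X ^ r - C c : F[X]) := by
    rw [h2, ← map_pow, map_sub]
  rw [h3] at h1
  have h4 := congrArg Matrix.det h1
  have hdet : (Matrix.scalar ι (X ^ r - C c : F[X])).det = (X ^ r - C c) ^ Fintype.card ι := by
    rw [Matrix.scalar_apply, Matrix.det_diagonal, Finset.prod_const, Finset.card_univ]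
  rw [Matrix.det_mul, hdet] at h4
  have hcp : A.charpoly = (Matrix.scalar ι (X : F[X]) - C.mapMatrix A).det := rfl
  rw [← h4, hcp]
  exact Dvd.intro_left _ rfl

end gen

section
variable {K : Type*} [Field K] [Fintype K] {n : ℕ}

/-- a matrix of order prime to `p` whose characteristic polynomial divides `(X^r - c)^n`
satisfies `A ^ r = c`. -/
theorem pow_eq_smul_of_charpoly_dvd (p : ℕ) [Fact p.Prime] [CharP K p]
    (A : Matrix (Fin n) (Fin n) K) (N : ℕ) (hN : A ^ N = 1) (hNp : N.Coprime p) (r : ℕ) (c : K)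
    (h : A.charpoly ∣ (X ^ r - C c) ^ n) : A ^ r = c • (1 : Matrix (Fin n) (Fin n) K) := by
  rcases Nat.eq_zero_or_pos n with hn | hn
  · subst hn
    apply Matrix.ext
    intro a
    exact a.elim0
  have hNF : ((N : ℕ) : K) ≠ 0 := by
    intro h0
    rw [CharP.cast_eq_zero_iff K p] at h0
    have h4 : p = 1 := Nat.Coprime.eq_one_of_dvd hNp.symm h0
    exact (Fact.out : p.Prime).one_lt.ne' h4
  have hsep : (X ^ N - C (1 : K) : K[X]).Separable :=
    Polynomial.separable_X_pow_sub_C 1 hNF one_ne_zero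
  have hdvd : minpoly K A ∣ X ^ N - C (1 : K) := by
    apply minpoly.dvd
    rw [map_sub, map_pow, aeval_X, aeval_C, map_one, hN, sub_self]
  have hsq : Squarefree (minpoly K A) := hsep.squarefree.squarefree_of_dvd hdvd
  have h1 : minpoly K A ∣ (X ^ r - C c : K[X]) ^ n :=
    dvd_trans (Matrix.minpoly_dvd_charpoly A) h
  have h2 : minpoly K A ∣ (X ^ r - C c : K[X]) :=
    (hsq.dvd_pow_iff_dvd (by omega)).mp h1
  obtain ⟨d, hd⟩ := h2
  have h3 : aeval A (X ^ r - C c : K[X]) = 0 := by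
    rw [hd, map_mul, minpoly.aeval, zero_mul]
  rw [map_sub, map_pow, aeval_X, aeval_C, sub_eq_zero] at h3
  rw [h3, Algebra.algebraMap_eq_smul_one]

variable {q : ℕ}

theorem coe_mul_gu (g h : ↥(Cfsg.GU n K q)) :
    (((g * h : ↥(Cfsg.GU n K q)) : GL (Fin n) K) : Matrix (Fin n) (Fin n) K) =
    ((g : GL (Fin n) K) : Matrix (Fin n) (Fin n) K) *
      ((h : GL (Fin n) K) : Matrix (Fin n) (Fin n) K) := rfl

theorem ext_gu (g h : ↥(Cfsg.GU n K q))
    (hm : ((g : GL (Fin n) K) : Matrix (Fin n) (Fin n) K) =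
      ((h : GL (Fin n) K) : Matrix (Fin n) (Fin n) K)) : g = h := by
  apply Subtype.ext
  apply Units.ext
  exact hm

theorem mem_center_of_scalar (g : ↥(Cfsg.GU n K q)) (a : K)
    (h : ((g : GL (Fin n) K) : Matrix (Fin n) (Fin n) K) = a • (1 : Matrix (Fin n) (Fin n) K)) :
    g ∈ Subgroup.center ↥(Cfsg.GU n K q) := by
  rw [Subgroup.mem_center_iff]
  intro h'
  apply ext_gu
  rw [coe_mul_gu, coe_mul_gu, h, Matrix.mul_smul, Matrix.smul_mul, Matrix.mul_one, Matrix.one_mul]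

theorem smul_one_inj (hn : 1 ≤ n) (a b : K)
    (h : a • (1 : Matrix (Fin n) (Fin n) K) = b • (1 : Matrix (Fin n) (Fin n) K)) : a = b := by
  have := congrFun (congrFun h ⟨0, hn⟩) ⟨0, hn⟩
  simpa using this

theorem charpoly_smul_one (a : K) :
    (a • (1 : Matrix (Fin n) (Fin n) K)).charpoly = (X - C a) ^ n := by
  have h : (a • (1 : Matrix (Fin n) (Fin n) K)) = Matrix.diagonal (fun _ => a) := by
    ext i j
    by_cases hij : i = j
    · subst hij; simp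
    · simp [hij]
  rw [h, Matrix.charpoly_diagonal]  -- may not exist
  simp

end

section main
variable {K : Type*} [Field K] [Fintype K] {n q : ℕ}

theorem e_ne_zero (e : ↥(Subgroup.center ↥(Cfsg.GU n K q)) ≃ {μ : K // μ ^ (q + 1) = 1})
    (z : ↥(Subgroup.center ↥(Cfsg.GU n K q))) : ((e z : K)) ≠ 0 := by
  intro h
  have h1 := (e z).2
  rw [h, zero_pow (by omega)] at h1
  exact zero_ne_one h1

theorem e_one (hn : 1 ≤ n)
    (e : ↥(Subgroup.center ↥(Cfsg.GU n K q)) ≃ {μ : K // μ ^ (q + 1) = 1})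
    (he : ∀ z : ↥(Subgroup.center ↥(Cfsg.GU n K q)),
      (((z : ↥(Cfsg.GU n K q)) : GL (Fin n) K) : Matrix (Fin n) (Fin n) K) =
        ((e z : K)) • (1 : Matrix (Fin n) (Fin n) K)) : ((e 1 : K)) = 1 := by
  apply smul_one_inj hn
  rw [← he 1, one_smul]
  rfl

theorem e_mul (hn : 1 ≤ n)
    (e : ↥(Subgroup.center ↥(Cfsg.GU n K q)) ≃ {μ : K // μ ^ (q + 1) = 1})
    (he : ∀ z : ↥(Subgroup.center ↥(Cfsg.GU n K q)),
      (((z : ↥(Cfsg.GU n K q)) : GL (Fin n) K) : Matrix (Fin n) (Fin n) K) =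
        ((e z : K)) • (1 : Matrix (Fin n) (Fin n) K))
    (z w : ↥(Subgroup.center ↥(Cfsg.GU n K q))) : ((e (z * w) : K)) = (e z : K) * (e w : K) := by
  apply smul_one_inj hn
  rw [← he (z * w), Subgroup.coe_mul, coe_mul_gu, he z, he w, Matrix.smul_mul, Matrix.one_mul,
    smul_smul]

theorem charpoly_center_mul
    (e : ↥(Subgroup.center ↥(Cfsg.GU n K q)) ≃ {μ : K // μ ^ (q + 1) = 1})
    (he : ∀ z : ↥(Subgroup.center ↥(Cfsg.GU n K q)),
      (((z : ↥(Cfsg.GU n K q)) : GL (Fin n) K) : Matrix (Fin n) (Fin n) K) =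
        ((e z : K)) • (1 : Matrix (Fin n) (Fin n) K))
    (z : ↥(Subgroup.center ↥(Cfsg.GU n K q))) (g : ↥(Cfsg.GU n K q)) :
    ((((z : ↥(Cfsg.GU n K q)) * g : ↥(Cfsg.GU n K q)) : GL (Fin n) K) :
      Matrix (Fin n) (Fin n) K).charpoly =
    C ((e z : K) ^ n) *
      (((g : GL (Fin n) K) : Matrix (Fin n) (Fin n) K).charpoly).comp (C (e z : K)⁻¹ * X) := by
  rw [coe_mul_gu, he z, Matrix.smul_mul, Matrix.one_mul]
  exact Cfsg.Agent.helper13.S2670x.pieceS1 _ _ (e_ne_zero e z)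

theorem pow_eq_smul_of_mem_center
    (e : ↥(Subgroup.center ↥(Cfsg.GU n K q)) ≃ {μ : K // μ ^ (q + 1) = 1})
    (he : ∀ z : ↥(Subgroup.center ↥(Cfsg.GU n K q)),
      (((z : ↥(Cfsg.GU n K q)) : GL (Fin n) K) : Matrix (Fin n) (Fin n) K) =
        ((e z : K)) • (1 : Matrix (Fin n) (Fin n) K))
    (r : ℕ) (g : ↥(Cfsg.GU n K q)) (hg : g ^ r ∈ Subgroup.center ↥(Cfsg.GU n K q)) :
    ((g : GL (Fin n) K) : Matrix (Fin n) (Fin n) K) ^ r =
      ((e ⟨g ^ r, hg⟩ : K)) • (1 : Matrix (Fin n) (Fin n) K) := by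
  rw [← coe_pow_gu]
  exact he ⟨g ^ r, hg⟩

theorem coprime_of_pow_mem_center (hK : Fintype.card K = q ^ 2) (p : ℕ) [Fact p.Prime] [CharP K p]
    (r : ℕ) (hrq : r ∣ q + 1)
    (e : ↥(Subgroup.center ↥(Cfsg.GU n K q)) ≃ {μ : K // μ ^ (q + 1) = 1})
    (he : ∀ z : ↥(Subgroup.center ↥(Cfsg.GU n K q)),
      (((z : ↥(Cfsg.GU n K q)) : GL (Fin n) K) : Matrix (Fin n) (Fin n) K) =
        ((e z : K)) • (1 : Matrix (Fin n) (Fin n) K))
    (g : ↥(Cfsg.GU n K q)) (hg : g ^ r ∈ Subgroup.center ↥(Cfsg.GU n K q)) :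
    (orderOf g).Coprime p := by
  have hpp : p.Prime := Fact.out
  have h1 : g ^ (r * (q + 1)) = 1 := by
    apply ext_gu
    rw [coe_pow_gu, pow_mul, pow_eq_smul_of_mem_center e he r g hg, _root_.smul_pow, one_pow,
      (e ⟨g ^ r, hg⟩).2, one_smul]
    rfl
  have h2 : orderOf g ∣ (q + 1) * (q + 1) :=
    dvd_trans (orderOf_dvd_of_pow_eq_one h1) (Nat.mul_dvd_mul_right hrq _)
  have hpq : p ∣ q := by
    obtain ⟨k, -, hk⟩ := FiniteField.card K p
    have h3 : p ∣ q ^ 2 := by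
      rw [← hK, hk]
      exact dvd_pow_self p k.ne_zero
    exact hpp.dvd_of_dvd_pow h3
  have h4 : (q + 1).Coprime p := by
    rw [Nat.coprime_comm, Nat.Prime.coprime_iff_not_dvd hpp]
    intro h5
    have h6 : p ∣ 1 := (Nat.dvd_add_right hpq).mp h5
    exact hpp.one_lt.ne' (Nat.dvd_one.mp h6)
  exact Nat.Coprime.coprime_dvd_left h2 (Nat.Coprime.mul_left h4 h4)

theorem pow_orderOf_mat (g : ↥(Cfsg.GU n K q)) :
    ((g : GL (Fin n) K) : Matrix (Fin n) (Fin n) K) ^ orderOf g = 1 := by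
  rw [← coe_pow_gu, pow_orderOf_eq_one]
  rfl

theorem charpoly_mem_P (hK : Fintype.card K = q ^ 2) (p : ℕ) [Fact p.Prime] [CharP K p]
    (r : ℕ) (hrq : r ∣ q + 1)
    (e : ↥(Subgroup.center ↥(Cfsg.GU n K q)) ≃ {μ : K // μ ^ (q + 1) = 1})
    (he : ∀ z : ↥(Subgroup.center ↥(Cfsg.GU n K q)),
      (((z : ↥(Cfsg.GU n K q)) : GL (Fin n) K) : Matrix (Fin n) (Fin n) K) =
        ((e z : K)) • (1 : Matrix (Fin n) (Fin n) K))
    (g : ↥(Cfsg.GU n K q)) (hg : g ^ r ∈ Subgroup.center ↥(Cfsg.GU n K q))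
    (hgn : g ∉ Subgroup.center ↥(Cfsg.GU n K q)) :
    (∃ c : K, c ^ (q + 1) = 1 ∧
      ((g : GL (Fin n) K) : Matrix (Fin n) (Fin n) K).charpoly ∣ (X ^ r - C c) ^ n) ∧
    ¬ ∃ a : K, ((g : GL (Fin n) K) : Matrix (Fin n) (Fin n) K).charpoly = (X - C a) ^ n := by
  constructor
  · refine ⟨(e ⟨g ^ r, hg⟩ : K), (e ⟨g ^ r, hg⟩).2, ?_⟩
    have h := charpoly_dvd_of_pow_eq_smul _ r _ (pow_eq_smul_of_mem_center e he r g hg)
    rwa [Fintype.card_fin] at h
  · rintro ⟨a, ha⟩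
    apply hgn
    apply mem_center_of_scalar g a
    have h1 := pow_eq_smul_of_charpoly_dvd p ((g : GL (Fin n) K) : Matrix (Fin n) (Fin n) K)
      (orderOf g) (pow_orderOf_mat g) (coprime_of_pow_mem_center hK p r hrq e he g hg) 1 a
      (by rw [ha, pow_one])
    rwa [pow_one] at h1

theorem exists_of_mem_P (hK : Fintype.card K = q ^ 2) (p : ℕ) [Fact p.Prime] [CharP K p]
    (σ : K ≃+* K) (hσq : ∀ a, σ a = a ^ q) (r : ℕ)
    (e : ↥(Subgroup.center ↥(Cfsg.GU n K q)) ≃ {μ : K // μ ^ (q + 1) = 1})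
    (he : ∀ z : ↥(Subgroup.center ↥(Cfsg.GU n K q)),
      (((z : ↥(Cfsg.GU n K q)) : GL (Fin n) K) : Matrix (Fin n) (Fin n) K) =
        ((e z : K)) • (1 : Matrix (Fin n) (Fin n) K))
    (f : K[X]) (hm : f.Monic) (hd : f.natDegree = n)
    (hs : ∀ i, i ≤ n → f.coeff (n - i) = f.coeff 0 * σ (f.coeff i))
    (c : K) (hdiv : f ∣ (X ^ r - C c) ^ n) (hns : ¬ ∃ a : K, f = (X - C a) ^ n) :
    ∃ g : ↥(Cfsg.GU n K q), g ^ r ∈ Subgroup.center ↥(Cfsg.GU n K q) ∧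
      g ∉ Subgroup.center ↥(Cfsg.GU n K q) ∧
      ((g : GL (Fin n) K) : Matrix (Fin n) (Fin n) K).charpoly = f := by
  obtain ⟨g, hgo, hgc⟩ := exists_GU_of_charpoly hK p σ hσq f hm hd hs
  refine ⟨g, ?_, ?_, hgc⟩
  · apply mem_center_of_scalar (g ^ r) c
    rw [coe_pow_gu]
    exact pow_eq_smul_of_charpoly_dvd p _ (orderOf g) (pow_orderOf_mat g) hgo r c (hgc ▸ hdiv)
  · intro hgz
    apply hns
    refine ⟨(e ⟨g, hgz⟩ : K), ?_⟩
    rw [← hgc, he ⟨g, hgz⟩, charpoly_smul_one]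

theorem conj_iff (hK : Fintype.card K = q ^ 2) (p : ℕ) [Fact p.Prime] [CharP K p]
    (r : ℕ) (hrq : r ∣ q + 1)
    (e : ↥(Subgroup.center ↥(Cfsg.GU n K q)) ≃ {μ : K // μ ^ (q + 1) = 1})
    (he : ∀ z : ↥(Subgroup.center ↥(Cfsg.GU n K q)),
      (((z : ↥(Cfsg.GU n K q)) : GL (Fin n) K) : Matrix (Fin n) (Fin n) K) =
        ((e z : K)) • (1 : Matrix (Fin n) (Fin n) K))
    (g h : ↥(Cfsg.GU n K q)) (hg : g ^ r ∈ Subgroup.center ↥(Cfsg.GU n K q))
    (hh : h ^ r ∈ Subgroup.center ↥(Cfsg.GU n K q)) :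
    ((g : GL (Fin n) K) : Matrix (Fin n) (Fin n) K).charpoly =
      ((h : GL (Fin n) K) : Matrix (Fin n) (Fin n) K).charpoly ↔ IsConj g h := by
  constructor
  · intro hc
    rw [Cfsg.Agent.S2587.result hK g h]
    apply isConj_of_charpoly_eq p _ _ _ _ hc
    · rw [Subgroup.orderOf_coe]; exact coprime_of_pow_mem_center hK p r hrq e he g hg
    · rw [Subgroup.orderOf_coe]; exact coprime_of_pow_mem_center hK p r hrq e he h hh
  · intro hgh
    exact charpoly_eq_of_isConj _ _ ((Cfsg.Agent.S2587.result hK g h).mp hgh)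

end main

end Cfsg.Agent.helper11.S2672g
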