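import Mathlib

set_option autoImplicit false
open Polynomial

namespace Cfsg.Agent.helper16.S2670x

variable {F : Type*} [Field F]

/-- the `r`-th roots of unity in `F`, as a type, are in bijection with the kernel of `x ↦ x ^ r`
on `Fˣ`. -/
noncomputable def kerEquiv (r : ℕ) (hr : 0 < r) :
    ↥(powMonoidHom r : Fˣ →* Fˣ).ker ≃ {μ : F // μ ^ r = 1} where
  toFun x := ⟨(x.1 : F), by
    have h := x.2
    rw [MonoidHom.mem_ker, powMonoidHom_apply] at h
    have := congrArg Units.val h
    simpa using this⟩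
  invFun μ := ⟨Units.mk0 μ.1 (by
      intro h0
      have h := μ.2
      rw [h0, zero_pow hr.ne'] at h
      exact zero_ne_one h), by
    rw [MonoidHom.mem_ker, powMonoidHom_apply]
    apply Units.ext
    simp [μ.2]⟩
  left_inv x := by
    apply Subtype.ext; apply Units.ext; rfl
  right_inv μ := by
    apply Subtype.ext; rfl

/-- the nonzero `r`-th powers in `F` are in bijection with the range of `x ↦ x ^ r` on `Fˣ`. -/
noncomputable def rangeEquiv (r : ℕ) (hr : 0 < r) :
    ↥(powMonoidHom r : Fˣ →* Fˣ).range ≃ {c : F // c ≠ 0 ∧ ∃ b : F, b ^ r = c} where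
  toFun y := ⟨(y.1 : F), y.1.ne_zero, by
    obtain ⟨x, hx⟩ := y.2
    refine ⟨(x : F), ?_⟩
    rw [powMonoidHom_apply] at hx
    have := congrArg Units.val hx
    simpa using this⟩
  invFun c := ⟨Units.mk0 c.1 c.2.1, by
    obtain ⟨b, hb⟩ := c.2.2
    have hb0 : b ≠ 0 := by
      intro h0
      rw [h0, zero_pow hr.ne'] at hb
      exact c.2.1 hb.symm
    refine ⟨Units.mk0 b hb0, ?_⟩
    rw [powMonoidHom_apply]
    apply Units.ext
    simp [hb]⟩
  left_inv y := by
    apply Subtype.ext; apply Units.ext; rfl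
  right_inv c := by
    apply Subtype.ext; rfl

theorem card_roots_le [Finite F] (r : ℕ) (hr : 0 < r) : Nat.card {μ : F // μ ^ r = 1} ≤ r := by
  classical
  haveI : Fintype F := Fintype.ofFinite F
  have h1 : Nat.card {μ : F // μ ^ r = 1} = (nthRoots r (1 : F)).toFinset.card := by
    rw [Nat.card_eq_fintype_card, Fintype.card_subtype]
    congr 1
    ext μ
    simp [mem_nthRoots hr]
  rw [h1]
  exact (Multiset.toFinset_card_le _).trans (card_nthRoots r 1)

/-- PIECE S7. -/
theorem pieceS7 {F : Type*} [Field F] [Fintype F] (r : ℕ) (hr : r.Prime)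
    (hrq : r ∣ Fintype.card F - 1) :
    Nat.card {c : F // c ≠ 0 ∧ ∃ b : F, b ^ r = c} * r = Fintype.card F - 1 ∧
    Nat.card {μ : F // μ ^ r = 1} = r ∧ ∃ ω : F, ω ^ r = 1 ∧ ω ≠ 1 := by
  classical
  haveI : Fact r.Prime := ⟨hr⟩
  have hcardU : Nat.card Fˣ = Fintype.card F - 1 := by
    rw [Nat.card_eq_fintype_card, Fintype.card_units]
  -- an element of order r
  have hdvd : r ∣ Nat.card Fˣ := by rw [hcardU]; exact hrq
  obtain ⟨x, hx⟩ := exists_prime_orderOf_dvd_card' r hdvd
  have hxr : x ^ r = 1 := by rw [← hx]; exact pow_orderOf_eq_one x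
  have hx1 : x ≠ 1 := by
    intro h
    rw [h, orderOf_one] at hx
    exact hr.one_lt.ne hx
  have hωr : (x : F) ^ r = 1 := by
    have := congrArg Units.val hxr
    simpa using this
  have hω1 : (x : F) ≠ 1 := by
    intro h
    apply hx1
    apply Units.ext
    simpa using h
  -- the roots of unity
  have hle := card_roots_le (F := F) r hr.pos
  have hge : r ≤ Nat.card {μ : F // μ ^ r = 1} := by
    have hinj : Function.Injective (fun k : Fin r => (⟨(x : F) ^ (k : ℕ), by
        rw [← pow_mul, mul_comm, pow_mul, hωr, one_pow]⟩ : {μ : F // μ ^ r = 1})) := by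
      intro a b hab
      have h1 : (x : F) ^ (a : ℕ) = (x : F) ^ (b : ℕ) := congrArg Subtype.val hab
      have h2 : x ^ (a : ℕ) = x ^ (b : ℕ) := by
        apply Units.ext
        simpa using h1
      have h3 := pow_injOn_Iio_orderOf (x := x)
        (by rw [Set.mem_Iio, hx]; exact a.2) (by rw [Set.mem_Iio, hx]; exact b.2) h2
      exact Fin.ext h3
    have := Nat.card_le_card_of_injective _ hinj
    simpa using this
  have hroots : Nat.card {μ : F // μ ^ r = 1} = r := le_antisymm hle hge
  refine ⟨?_, hroots, (x : F), hωr, hω1⟩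
  -- counting the r-th powers
  have h1 := Subgroup.card_mul_index (powMonoidHom r : Fˣ →* Fˣ).ker
  rw [Subgroup.index_ker, hcardU, Nat.card_congr (kerEquiv (F := F) r hr.pos), hroots,
    Nat.card_congr (rangeEquiv (F := F) r hr.pos)] at h1
  rw [mul_comm]
  exact h1

end Cfsg.Agent.helper16.S2670x
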