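import Mathlib

set_option autoImplicit false
open Polynomial

namespace Cfsg.Agent.helper3.S2670x

variable {F : Type*} [Field F]

theorem comp_key (r : ℕ) (μ : F) (hμ : μ ≠ 0) (c : F) :
    (X ^ r - C c : F[X]).comp (C μ⁻¹ * X) = C ((μ⁻¹) ^ r) * (X ^ r - C (μ ^ r * c)) := by
  rw [sub_comp, pow_comp, X_comp, C_comp, mul_pow, ← C_pow, mul_sub, ← C_mul]
  congr 2
  rw [← mul_assoc, ← mul_pow, inv_mul_cancel₀ hμ, one_pow, one_mul]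

theorem natDegree_lin (μ : F) (hμ : μ ≠ 0) : (C μ⁻¹ * X : F[X]).natDegree = 1 :=
  natDegree_C_mul_X _ (inv_ne_zero hμ)

theorem leadingCoeff_lin (μ : F) : (C μ⁻¹ * X : F[X]).leadingCoeff = μ⁻¹ := by
  rw [leadingCoeff_mul, leadingCoeff_C, leadingCoeff_X, mul_one]

/-- PIECE S2: basic facts on the scaling `f ↦ C (μ ^ n) * f.comp (C μ⁻¹ * X)` -/
theorem pieceS2 {F : Type*} [Field F] (n r : ℕ) (μ : F) (hμ : μ ≠ 0) (f : F[X]) (hf : f.Monic)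
    (hd : f.natDegree = n) :
    (C (μ ^ n) * f.comp (C μ⁻¹ * X)).Monic ∧ (C (μ ^ n) * f.comp (C μ⁻¹ * X)).natDegree = n ∧
    (∀ c : F, f ∣ (X ^ r - C c) ^ n →
      (C (μ ^ n) * f.comp (C μ⁻¹ * X)) ∣ (X ^ r - C (μ ^ r * c)) ^ n) ∧
    (∀ a : F, f = (X - C a) ^ n → C (μ ^ n) * f.comp (C μ⁻¹ * X) = (X - C (μ * a)) ^ n) ∧
    (∀ (c : F) (k : ℕ), f = (X ^ r - C c) ^ k → r * k = n →
      C (μ ^ n) * f.comp (C μ⁻¹ * X) = (X ^ r - C (μ ^ r * c)) ^ k) := by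
  have hμn : μ ^ n ≠ 0 := pow_ne_zero _ hμ
  have hdeg : (f.comp (C μ⁻¹ * X)).natDegree = n := by
    rw [natDegree_comp, natDegree_lin μ hμ, mul_one, hd]
  have hlc : (f.comp (C μ⁻¹ * X)).leadingCoeff = (μ⁻¹) ^ n := by
    rw [leadingCoeff_comp (by rw [natDegree_lin μ hμ]; exact one_ne_zero), hf.leadingCoeff,
      one_mul, leadingCoeff_lin, hd]
  have hunit : IsUnit (C (μ ^ n) : F[X]) := isUnit_C.mpr (IsUnit.mk0 _ hμn)
  refine ⟨?_, ?_, ?_, ?_, ?_⟩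
  · unfold Monic
    rw [leadingCoeff_mul, leadingCoeff_C, hlc, ← mul_pow, mul_inv_cancel₀ hμ, one_pow]
  · rw [natDegree_C_mul hμn, hdeg]
  · intro c hc
    rw [hunit.mul_left_dvd]
    obtain ⟨h, hh⟩ := hc
    have h1 : ((X ^ r - C c : F[X]) ^ n).comp (C μ⁻¹ * X)
        = f.comp (C μ⁻¹ * X) * h.comp (C μ⁻¹ * X) := by
      rw [hh, mul_comp]
    rw [pow_comp, comp_key r μ hμ c, mul_pow] at h1
    have hu2 : IsUnit ((C ((μ⁻¹) ^ r) : F[X]) ^ n) :=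
      (isUnit_C.mpr (IsUnit.mk0 _ (pow_ne_zero _ (inv_ne_zero hμ)))).pow n
    rw [← hu2.dvd_mul_left]
    exact ⟨_, h1⟩
  · intro a ha
    rw [ha, pow_comp, sub_comp, X_comp, C_comp, C_pow, ← mul_pow]
    congr 1
    rw [mul_sub, ← mul_assoc, ← C_mul, mul_inv_cancel₀ hμ, C_1, one_mul, C_mul]
  · intro c k hk hrk
    rw [hk, pow_comp, comp_key r μ hμ c, mul_pow, ← mul_assoc, ← C_pow, ← C_mul, ← pow_mul,
      ← hrk, ← mul_pow, mul_inv_cancel₀ hμ, one_pow, C_1, one_mul]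

end Cfsg.Agent.helper3.S2670x
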