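import Mathlib

/-!
Piece C1 of the S2645 swarm (helper11): monic divisors of `(X^r-1)^(2m)` of degree `2m`
correspond to multisets on the set `S` of the other monic irreducible factors of `X^r-1`.
-/

set_option autoImplicit false
open Polynomial

namespace Cfsg.Agent.helper20.S2645x

variable {F : Type*} [Field F]

theorem X_sub_one_eq : (X - 1 : F[X]) = X - C 1 := by simp

theorem monic_X_sub_one : (X - 1 : F[X]).Monic := by
  rw [X_sub_one_eq]; exact monic_X_sub_C 1

theorem irreducible_X_sub_one : Irreducible (X - 1 : F[X]) := by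
  rw [X_sub_one_eq]; exact irreducible_X_sub_C 1

theorem natDegree_X_sub_one : (X - 1 : F[X]).natDegree = 1 := by
  rw [X_sub_one_eq]; exact natDegree_X_sub_C 1

theorem monic_mprod (S : Finset F[X]) (i : ℕ)
    (hS : ∀ g ∈ S, g.Monic ∧ Irreducible g ∧ g.natDegree = i)
    (M : Multiset F[X]) (hM : ∀ g ∈ M, g ∈ S) : M.prod.Monic := by
  have := monic_multiset_prod_of_monic M id (fun g hg => (hS g (hM g hg)).1)
  simpa using this

theorem natDegree_mprod (S : Finset F[X]) (i : ℕ)
    (hS : ∀ g ∈ S, g.Monic ∧ Irreducible g ∧ g.natDegree = i)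
    (M : Multiset F[X]) (hM : ∀ g ∈ M, g ∈ S) :
    M.prod.natDegree = i * Multiset.card M := by
  rw [natDegree_multiset_prod_of_monic M (fun g hg => (hS g (hM g hg)).1)]
  have : M.map natDegree = M.map (fun _ => i) :=
    Multiset.map_congr rfl (fun g hg => (hS g (hM g hg)).2.2)
  rw [this, Multiset.map_const', Multiset.sum_replicate, smul_eq_mul, mul_comm]

theorem monic_full (S : Finset F[X]) (i : ℕ)
    (hS : ∀ g ∈ S, g.Monic ∧ Irreducible g ∧ g.natDegree = i)
    (M : Multiset F[X]) (hM : ∀ g ∈ M, g ∈ S) (a : ℕ) :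
    ((X - 1) ^ a * M.prod : F[X]).Monic :=
  (monic_X_sub_one.pow a).mul (monic_mprod S i hS M hM)

theorem natDegree_full (S : Finset F[X]) (i : ℕ)
    (hS : ∀ g ∈ S, g.Monic ∧ Irreducible g ∧ g.natDegree = i)
    (M : Multiset F[X]) (hM : ∀ g ∈ M, g ∈ S) (a : ℕ) :
    ((X - 1) ^ a * M.prod : F[X]).natDegree = a + i * Multiset.card M := by
  rw [Monic.natDegree_mul (monic_X_sub_one.pow a) (monic_mprod S i hS M hM),
    Monic.natDegree_pow monic_X_sub_one, natDegree_X_sub_one, natDegree_mprod S i hS M hM, mul_one]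

theorem dvd_full (r m i : ℕ) (hi : 0 < i) (S : Finset F[X])
    (hprod : (X ^ r - 1 : F[X]) = (X - 1) * ∏ g ∈ S, g)
    (M : Multiset F[X]) (hM : ∀ g ∈ M, g ∈ S) (hMi : i * Multiset.card M ≤ m + m) :
    ((X - 1) ^ (m + m - i * Multiset.card M) * M.prod : F[X]) ∣ (X ^ r - 1) ^ (m + m) := by
  classical
  rw [hprod, mul_pow]
  apply mul_dvd_mul (pow_dvd_pow _ (Nat.sub_le _ _))
  rw [Finset.prod_multiset_count_of_subset M S
    (by intro g hg; exact hM g (Multiset.mem_toFinset.mp hg)), ← Finset.prod_pow]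
  apply Finset.prod_dvd_prod_of_dvd
  intro g _
  apply pow_dvd_pow
  calc M.count g ≤ Multiset.card M := Multiset.count_le_card g M
    _ ≤ i * Multiset.card M := Nat.le_mul_of_pos_left _ hi
    _ ≤ m + m := hMi

theorem inj_full (S : Finset F[X]) (i : ℕ)
    (hS : ∀ g ∈ S, g.Monic ∧ Irreducible g ∧ g.natDegree = i)
    (hX : (X - 1 : F[X]) ∉ S)
    (M M' : Multiset F[X]) (hM : ∀ g ∈ M, g ∈ S) (hM' : ∀ g ∈ M', g ∈ S) (a a' : ℕ)
    (h : ((X - 1) ^ a * M.prod : F[X]) = (X - 1) ^ a' * M'.prod) : M = M' := by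
  classical
  have key : ∀ (b : ℕ) (K : Multiset F[X]), (∀ g ∈ K, g ∈ S) →
      (Multiset.replicate b (X - 1 : F[X]) + K).map normalize =
        Multiset.replicate b (X - 1 : F[X]) + K ∧
      (∀ g ∈ Multiset.replicate b (X - 1 : F[X]) + K, Irreducible g) ∧
      (Multiset.replicate b (X - 1 : F[X]) + K).prod = (X - 1) ^ b * K.prod := by
    intro b K hK
    have hmon : ∀ g ∈ Multiset.replicate b (X - 1 : F[X]) + K, g.Monic ∧ Irreducible g := by
      intro g hg
      rcases Multiset.mem_add.mp hg with hg | hg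
      · rw [Multiset.eq_of_mem_replicate hg]
        exact ⟨monic_X_sub_one, irreducible_X_sub_one⟩
      · exact ⟨(hS g (hK g hg)).1, (hS g (hK g hg)).2.1⟩
    refine ⟨?_, fun g hg => (hmon g hg).2, ?_⟩
    · conv_rhs => rw [← Multiset.map_id (Multiset.replicate b (X - 1 : F[X]) + K)]
      exact Multiset.map_congr rfl (fun g hg => (hmon g hg).1.normalize_eq_self)
    · rw [Multiset.prod_add, Multiset.prod_replicate]
  obtain ⟨hn, hirr, hp⟩ := key a M hM
  obtain ⟨hn', hirr', hp'⟩ := key a' M' hM'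
  have hNN : Multiset.replicate a (X - 1 : F[X]) + M = Multiset.replicate a' (X - 1 : F[X]) + M' := by
    rw [← hn, ← hn', ← UniqueFactorizationMonoid.normalizedFactors_prod_eq _ hirr,
      ← UniqueFactorizationMonoid.normalizedFactors_prod_eq _ hirr', hp, hp', h]
  ext g
  by_cases hg : g ∈ S
  · have hne : (X - 1 : F[X]) ≠ g := fun h => hX (h ▸ hg)
    have := congrArg (Multiset.count g) hNN
    simpa [Multiset.count_add, Multiset.count_replicate, hne] using this
  · rw [Multiset.count_eq_zero_of_notMem (fun h => hg (hM g h)),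
      Multiset.count_eq_zero_of_notMem (fun h => hg (hM' g h))]

theorem exists_full (r m i : ℕ) (S : Finset F[X])
    (hS : ∀ g ∈ S, g.Monic ∧ Irreducible g ∧ g.natDegree = i)
    (hX : (X - 1 : F[X]) ∉ S) (hprod : (X ^ r - 1 : F[X]) = (X - 1) * ∏ g ∈ S, g)
    (f : F[X]) (hf : f.Monic) (hdeg : f.natDegree = m + m) (hdvd : f ∣ (X ^ r - 1) ^ (m + m)) :
    ∃ M : Multiset F[X], (∀ g ∈ M, g ∈ S) ∧ i * Multiset.card M ≤ m + m ∧
      f = (X - 1) ^ (m + m - i * Multiset.card M) * M.prod := by
  classical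
  have hf0 : f ≠ 0 := hf.ne_zero
  set N := UniqueFactorizationMonoid.normalizedFactors f with hNdef
  have hNmon : ∀ p ∈ N, p.Monic := by
    intro p hp
    have h0 : p ≠ 0 := (UniqueFactorizationMonoid.prime_of_normalized_factor p hp).ne_zero
    have := Polynomial.monic_normalize h0
    rwa [UniqueFactorizationMonoid.normalize_normalized_factor p hp] at this
  have hNprod : N.prod = f := by
    have hassoc : Associated N.prod f := UniqueFactorizationMonoid.prod_normalizedFactors hf0
    have hmonN : N.prod.Monic := by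
      have := monic_multiset_prod_of_monic N id (fun g hg => hNmon g hg)
      simpa using this
    exact eq_of_monic_of_associated hmonN hf hassoc
  have hmem : ∀ p ∈ N, p = X - 1 ∨ p ∈ S := by
    intro p hp
    have hprime := UniqueFactorizationMonoid.prime_of_normalized_factor p hp
    have hpdvd : p ∣ f := UniqueFactorizationMonoid.dvd_of_mem_normalizedFactors hp
    have hpmon : p.Monic := hNmon p hp
    have h1 : p ∣ (X ^ r - 1 : F[X]) := hprime.dvd_of_dvd_pow (hpdvd.trans hdvd)
    rw [hprod] at h1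
    rcases hprime.dvd_or_dvd h1 with h2 | h2
    · left
      exact eq_of_monic_of_associated hpmon monic_X_sub_one
        (hprime.irreducible.associated_of_dvd irreducible_X_sub_one h2)
    · right
      obtain ⟨g, hg, hpg⟩ := Prime.exists_mem_finset_dvd hprime h2
      have := eq_of_monic_of_associated hpmon (hS g hg).1
        (hprime.irreducible.associated_of_dvd (hS g hg).2.1 hpg)
      rw [this]; exact hg
  set M := N.filter (fun p => p ∈ S) with hMdef
  have hMS : ∀ g ∈ M, g ∈ S := fun g hg => (Multiset.mem_filter.mp hg).2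
  have hsplit : N = Multiset.replicate (N.count (X - 1)) (X - 1 : F[X]) + M := by
    have h1 := Multiset.filter_add_not (fun p => p ∈ S) N
    have h2 : N.filter (fun p => ¬ p ∈ S) = N.filter (fun p => p = X - 1) := by
      apply Multiset.filter_congr
      intro p hp
      constructor
      · intro hnS
        rcases hmem p hp with h | h
        · exact h
        · exact absurd h hnS
      · intro h hpS
        exact hX (h ▸ hpS)
    rw [h2, Multiset.filter_eq' N (X - 1 : F[X])] at h1
    rw [add_comm]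
    exact h1.symm
  have hfeq : f = (X - 1) ^ (N.count (X - 1)) * M.prod := by
    rw [← hNprod]
    conv_lhs => rw [hsplit]
    rw [Multiset.prod_add, Multiset.prod_replicate]
  have hd := natDegree_full S i hS M hMS (N.count (X - 1))
  rw [← hfeq, hdeg] at hd
  refine ⟨M, hMS, by omega, ?_⟩
  have : m + m - i * Multiset.card M = N.count (X - 1) := by omega
  rw [this]
  exact hfeq

/-- PIECE C1 (exact signature of note 1008). -/
theorem pieceC1 {F : Type*} [Field F] (r m i : ℕ) (hi : 0 < i)
    (S : Finset F[X]) (hS : ∀ g ∈ S, g.Monic ∧ Irreducible g ∧ g.natDegree = i)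
    (hX : (X - 1 : F[X]) ∉ S) (hprod : (X ^ r - 1 : F[X]) = (X - 1) * ∏ g ∈ S, g) :
    (∀ M : Multiset F[X], (∀ g ∈ M, g ∈ S) → i * Multiset.card M ≤ m + m →
      ((X - 1) ^ (m + m - i * Multiset.card M) * M.prod : F[X]).Monic ∧
      ((X - 1) ^ (m + m - i * Multiset.card M) * M.prod : F[X]).natDegree = m + m ∧
      ((X - 1) ^ (m + m - i * Multiset.card M) * M.prod : F[X]) ∣ (X ^ r - 1) ^ (m + m)) ∧
    (∀ M M' : Multiset F[X], (∀ g ∈ M, g ∈ S) → (∀ g ∈ M', g ∈ S) →
      i * Multiset.card M ≤ m + m → i * Multiset.card M' ≤ m + m →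
      ((X - 1) ^ (m + m - i * Multiset.card M) * M.prod : F[X]) =
        (X - 1) ^ (m + m - i * Multiset.card M') * M'.prod → M = M') ∧
    (∀ f : F[X], f.Monic → f.natDegree = m + m → f ∣ (X ^ r - 1) ^ (m + m) →
      ∃ M : Multiset F[X], (∀ g ∈ M, g ∈ S) ∧ i * Multiset.card M ≤ m + m ∧
        f = (X - 1) ^ (m + m - i * Multiset.card M) * M.prod) := by
  refine ⟨?_, ?_, ?_⟩
  · intro M hM hMi
    refine ⟨monic_full S i hS M hM _, ?_, dvd_full r m i hi S hprod M hM hMi⟩
    rw [natDegree_full S i hS M hM]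
    omega
  · intro M M' hM hM' _ _ h
    exact inj_full S i hS hX M M' hM hM' _ _ h
  · intro f hf hdeg hdvd
    exact exists_full r m i S hS hX hprod f hf hdeg hdvd

end Cfsg.Agent.helper20.S2645x
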