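import Mathlib
import Cfsg.Agent.Lib_helper20_S2645x

/-!
Piece C1n of the S2671 swarm (helper11): piece C1 of S2645 with a general degree `n`.
-/

set_option autoImplicit false
open Polynomial

namespace Cfsg.Agent.helper20.S2671x

open Cfsg.Agent.helper20.S2645x

variable {F : Type*} [Field F]

theorem dvd_fulln (r n i : ℕ) (hi : 0 < i) (S : Finset F[X])
    (hprod : (X ^ r - 1 : F[X]) = (X - 1) * ∏ g ∈ S, g)
    (M : Multiset F[X]) (hM : ∀ g ∈ M, g ∈ S) (hMi : i * Multiset.card M ≤ n) :
    ((X - 1) ^ (n - i * Multiset.card M) * M.prod : F[X]) ∣ (X ^ r - 1) ^ n := by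
  classical
  rw [hprod, mul_pow]
  apply mul_dvd_mul (pow_dvd_pow _ (Nat.sub_le _ _))
  rw [Finset.prod_multiset_count_of_subset M S
    (by intro g hg; exact hM g (Multiset.mem_toFinset.mp hg)), ← Finset.prod_pow]
  apply Finset.prod_dvd_prod_of_dvd
  intro g _
  apply pow_dvd_pow
  calc M.count g ≤ Multiset.card M := Multiset.count_le_card g M
    _ ≤ i * Multiset.card M := Nat.le_mul_of_pos_left _ hi
    _ ≤ n := hMi

theorem exists_fulln (r n i : ℕ) (S : Finset F[X])
    (hS : ∀ g ∈ S, g.Monic ∧ Irreducible g ∧ g.natDegree = i)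
    (hX : (X - 1 : F[X]) ∉ S) (hprod : (X ^ r - 1 : F[X]) = (X - 1) * ∏ g ∈ S, g)
    (f : F[X]) (hf : f.Monic) (hdeg : f.natDegree = n) (hdvd : f ∣ (X ^ r - 1) ^ n) :
    ∃ M : Multiset F[X], (∀ g ∈ M, g ∈ S) ∧ i * Multiset.card M ≤ n ∧
      f = (X - 1) ^ (n - i * Multiset.card M) * M.prod := by
  classical
  have hf0 : f ≠ 0 := hf.ne_zero
  set N := UniqueFactorizationMonoid.normalizedFactors f with hNdef
  have hNmon : ∀ p ∈ N, p.Monic := by
    intro p hp
    have h0 : p ≠ 0 := (UniqueFactorizationMonoid.prime_of_normalized_factor p hp).ne_zero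
    have := Polynomial.monic_normalize h0
    rwa [UniqueFactorizationMonoid.normalize_normalized_factor p hp] at this
  have hNprod : N.prod = f := by
    have hassoc : Associated N.prod f := UniqueFactorizationMonoid.prod_normalizedFactors hf0
    have hmonN : N.prod.Monic := by
      have := monic_multiset_prod_of_monic N id (fun g hg => hNmon g hg)
      simpa using this
    exact eq_of_monic_of_associated hmonN hf hassoc
  have hmem : ∀ p ∈ N, p = X - 1 ∨ p ∈ S := by
    intro p hp
    have hprime := UniqueFactorizationMonoid.prime_of_normalized_factor p hp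
    have hpdvd : p ∣ f := UniqueFactorizationMonoid.dvd_of_mem_normalizedFactors hp
    have hpmon : p.Monic := hNmon p hp
    have h1 : p ∣ (X ^ r - 1 : F[X]) := hprime.dvd_of_dvd_pow (hpdvd.trans hdvd)
    rw [hprod] at h1
    rcases hprime.dvd_or_dvd h1 with h2 | h2
    · left
      exact eq_of_monic_of_associated hpmon monic_X_sub_one
        (hprime.irreducible.associated_of_dvd irreducible_X_sub_one h2)
    · right
      obtain ⟨g, hg, hpg⟩ := Prime.exists_mem_finset_dvd hprime h2
      have := eq_of_monic_of_associated hpmon (hS g hg).1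
        (hprime.irreducible.associated_of_dvd (hS g hg).2.1 hpg)
      rw [this]; exact hg
  set M := N.filter (fun p => p ∈ S) with hMdef
  have hMS : ∀ g ∈ M, g ∈ S := fun g hg => (Multiset.mem_filter.mp hg).2
  have hsplit : N = Multiset.replicate (N.count (X - 1)) (X - 1 : F[X]) + M := by
    have h1 := Multiset.filter_add_not (fun p => p ∈ S) N
    have h2 : N.filter (fun p => ¬ p ∈ S) = N.filter (fun p => p = X - 1) := by
      apply Multiset.filter_congr
      intro p hp
      constructor
      · intro hnS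
        rcases hmem p hp with h | h
        · exact h
        · exact absurd h hnS
      · intro h hpS
        exact hX (h ▸ hpS)
    rw [h2, Multiset.filter_eq' N (X - 1 : F[X])] at h1
    rw [add_comm]
    exact h1.symm
  have hfeq : f = (X - 1) ^ (N.count (X - 1)) * M.prod := by
    rw [← hNprod]
    conv_lhs => rw [hsplit]
    rw [Multiset.prod_add, Multiset.prod_replicate]
  have hd := natDegree_full S i hS M hMS (N.count (X - 1))
  rw [← hfeq, hdeg] at hd
  refine ⟨M, hMS, by omega, ?_⟩
  have : n - i * Multiset.card M = N.count (X - 1) := by omega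
  rw [this]
  exact hfeq

/-- PIECE C1n (exact signature of note 1057). -/
theorem pieceC1n {F : Type*} [Field F] (r n i : ℕ) (hi : 0 < i)
    (S : Finset F[X]) (hS : ∀ g ∈ S, g.Monic ∧ Irreducible g ∧ g.natDegree = i)
    (hX : (X - 1 : F[X]) ∉ S) (hprod : (X ^ r - 1 : F[X]) = (X - 1) * ∏ g ∈ S, g) :
    (∀ M : Multiset F[X], (∀ g ∈ M, g ∈ S) → i * Multiset.card M ≤ n →
      ((X - 1) ^ (n - i * Multiset.card M) * M.prod : F[X]).Monic ∧
      ((X - 1) ^ (n - i * Multiset.card M) * M.prod : F[X]).natDegree = n ∧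
      ((X - 1) ^ (n - i * Multiset.card M) * M.prod : F[X]) ∣ (X ^ r - 1) ^ n) ∧
    (∀ M M' : Multiset F[X], (∀ g ∈ M, g ∈ S) → (∀ g ∈ M', g ∈ S) →
      i * Multiset.card M ≤ n → i * Multiset.card M' ≤ n →
      ((X - 1) ^ (n - i * Multiset.card M) * M.prod : F[X]) =
        (X - 1) ^ (n - i * Multiset.card M') * M'.prod → M = M') ∧
    (∀ f : F[X], f.Monic → f.natDegree = n → f ∣ (X ^ r - 1) ^ n →
      ∃ M : Multiset F[X], (∀ g ∈ M, g ∈ S) ∧ i * Multiset.card M ≤ n ∧
        f = (X - 1) ^ (n - i * Multiset.card M) * M.prod) := by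
  refine ⟨?_, ?_, ?_⟩
  · intro M hM hMi
    refine ⟨monic_full S i hS M hM _, ?_, dvd_fulln r n i hi S hprod M hM hMi⟩
    rw [natDegree_full S i hS M hM]
    omega
  · intro M M' hM hM' _ _ h
    exact inj_full S i hS hX M M' hM hM' _ _ h
  · intro f hf hdeg hdvd
    exact exists_fulln r n i S hS hX hprod f hf hdeg hdvd

end Cfsg.Agent.helper20.S2671x
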