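import Mathlib

set_option autoImplicit false

namespace Cfsg.Agent.helper26.S2645x

theorem sum_multichoose (s N : ℕ) :
    ∑ k ∈ Finset.range (N + 1), Nat.multichoose s k = Nat.multichoose (s + 1) N := by
  induction N with
  | zero => simp
  | succ N ih =>
    rw [Finset.sum_range_succ, ih, Nat.multichoose_succ_succ, add_comm]

theorem multichoose_succ_eq (s N : ℕ) : Nat.multichoose (s + 1) N = Nat.choose (N + s) s := by
  rw [Nat.multichoose_eq]
  have : s + 1 + N - 1 = N + s := by omega
  rw [this, ← Nat.choose_symm_add]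

/-- multisets on a fintype of bounded size -/
theorem card_bounded_multiset (β : Type*) [Fintype β] [DecidableEq β] (N : ℕ) :
    Nat.card {M : Multiset β // Multiset.card M ≤ N} =
      Nat.choose (N + Fintype.card β) (Fintype.card β) := by
  classical
  let f : (Σ k : Fin (N + 1), Sym β k) → {M : Multiset β // Multiset.card M ≤ N} :=
    fun x => ⟨x.2.1, by rw [x.2.2]; exact Nat.lt_succ_iff.1 x.1.2⟩
  have hf : Function.Bijective f := by
    constructor
    · rintro ⟨k, s⟩ ⟨k', s'⟩ h
      have h1 : s.1 = s'.1 := congrArg Subtype.val h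
      have hk : k = k' := by
        apply Fin.ext
        rw [← s.2, ← s'.2, h1]
      subst hk
      congr
      exact Subtype.ext h1
    · rintro ⟨M, hM⟩
      exact ⟨⟨⟨Multiset.card M, Nat.lt_succ_iff.2 hM⟩, ⟨M, rfl⟩⟩, rfl⟩
  rw [← Nat.card_eq_of_bijective f hf, Nat.card_eq_fintype_card, Fintype.card_sigma]
  simp only [Sym.card_sym_eq_multichoose]
  rw [Fin.sum_univ_eq_sum_range (fun k => Nat.multichoose (Fintype.card β) k) (N + 1),
    sum_multichoose, multichoose_succ_eq]

/-- PIECE D1 -/
theorem pieceD1 {α : Type*} [DecidableEq α] (S : Finset α) (N : ℕ) :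
    Nat.card {M : Multiset α // (∀ g ∈ M, g ∈ S) ∧ Multiset.card M ≤ N} =
      Nat.choose (N + S.card) S.card := by
  classical
  let f : {M : Multiset {x // x ∈ S} // Multiset.card M ≤ N} →
      {M : Multiset α // (∀ g ∈ M, g ∈ S) ∧ Multiset.card M ≤ N} :=
    fun M => ⟨M.1.map Subtype.val, by
      intro g hg
      obtain ⟨x, -, rfl⟩ := Multiset.mem_map.1 hg
      exact x.2, by rw [Multiset.card_map]; exact M.2⟩
  have hf : Function.Bijective f := by
    constructor
    · intro M M' h
      apply Subtype.ext
      exact Multiset.map_injective Subtype.val_injective (congrArg Subtype.val h)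
    · rintro ⟨M, hM, hc⟩
      refine ⟨⟨M.attach.map (fun x => ⟨x.1, hM x.1 x.2⟩), by
        rw [Multiset.card_map, Multiset.card_attach]; exact hc⟩, ?_⟩
      apply Subtype.ext
      show (M.attach.map (fun x => (⟨x.1, hM x.1 x.2⟩ : {x // x ∈ S}))).map Subtype.val = M
      rw [Multiset.map_map]
      exact Multiset.attach_map_val M
  rw [← Nat.card_eq_of_bijective f hf, card_bounded_multiset, Fintype.card_coe]

end Cfsg.Agent.helper26.S2645x
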