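import Mathlib
import Cfsg.Agent.Lib_helper11_S2645a
import Cfsg.Agent.Lib_helper20_S2671x
import Cfsg.Agent.Lib_helper26_S2645x

set_option autoImplicit false
open Polynomial

namespace Cfsg.Agent.helper6.S2670y

/-- PIECE S5: the count for `c = 1` -/
theorem pieceS5 {F : Type*} [Field F] [Fintype F] (n r : ℕ) (hr : r.Prime)
    (hrq : r ∣ Fintype.card F - 1) :
    Nat.card {f : F[X] // f.Monic ∧ f.natDegree = n ∧ f ∣ (X ^ r - C 1) ^ n} =
      Nat.choose (n + r - 1) (r - 1) := by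
  classical
  have hq1 : 1 < Fintype.card F := Fintype.one_lt_card
  have hqr : (Fintype.card F : ZMod r) = 1 := by
    have h0 : ((Fintype.card F - 1 : ℕ) : ZMod r) = 0 := (ZMod.natCast_eq_zero_iff _ _).mpr hrq
    rw [Nat.cast_sub hq1.le, Nat.cast_one, sub_eq_zero] at h0
    exact h0
  have hord : orderOf (Fintype.card F : ZMod r) = 1 := by rw [hqr, orderOf_one]
  have hrF : (r : F) ≠ 0 := by
    intro h0
    obtain ⟨k, hk⟩ := hrq
    have hq : Fintype.card F = r * k + 1 := by omega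
    have h1 : ((Fintype.card F : ℕ) : F) = 0 := FiniteField.cast_card_eq_zero F
    rw [hq] at h1
    push_cast at h1
    rw [h0, zero_mul, zero_add] at h1
    exact one_ne_zero h1
  obtain ⟨S, hS, hX, hprod, hcard⟩ := Cfsg.Agent.helper11.S2645a.pieceA (F := F) r hr hrF
  rw [hord] at hS hcard
  rw [mul_one] at hcard
  obtain ⟨h1, h2, h3⟩ := Cfsg.Agent.helper20.S2671x.pieceC1n (F := F) r n 1 one_pos S hS hX hprod
  have hC : (C (1 : F) : F[X]) = 1 := C_1
  rw [hC]
  let Φ : {M : Multiset F[X] // (∀ g ∈ M, g ∈ S) ∧ Multiset.card M ≤ n} →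
      {f : F[X] // f.Monic ∧ f.natDegree = n ∧ f ∣ (X ^ r - 1) ^ n} :=
    fun M => ⟨(X - 1) ^ (n - 1 * Multiset.card M.1) * M.1.prod,
      h1 M.1 M.2.1 (by rw [one_mul]; exact M.2.2)⟩
  have hΦ : Function.Bijective Φ := by
    constructor
    · intro M M' h
      apply Subtype.ext
      have := congrArg Subtype.val h
      exact h2 M.1 M'.1 M.2.1 M'.2.1 (by rw [one_mul]; exact M.2.2)
        (by rw [one_mul]; exact M'.2.2) this
    · rintro ⟨f, hf, hd, hdvd⟩
      obtain ⟨M, hM, hMn, hfM⟩ := h3 f hf hd hdvd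
      refine ⟨⟨M, hM, by rw [one_mul] at hMn; exact hMn⟩, ?_⟩
      apply Subtype.ext
      exact hfM.symm
  rw [← Nat.card_eq_of_bijective Φ hΦ, Cfsg.Agent.helper26.S2645x.pieceD1 S n, hcard]
  have : n + r - 1 = n + (r - 1) := Nat.add_sub_assoc hr.one_le n
  rw [this]

end Cfsg.Agent.helper6.S2670y
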