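import Mathlib
import Cfsg.Agent.Lib_helper3_S2670x
import Cfsg.Agent.Lib_helper9_S2670x
import Cfsg.Agent.Lib_helper6_S2670y
import Cfsg.Agent.Lib_helper16_S2670x

/-! Piece P4a1 of S2672 (hedge). -/

set_option autoImplicit false

namespace Cfsg.Agent.helper11.S2672h

open Polynomial

theorem pieceP4a1 {K : Type*} [Field K] [Fintype K] (n r : ℕ) (hn : 2 ≤ n) (hr : r.Prime)
    (hrq : r ∣ Fintype.card K - 1) (b : K) (hb : b ≠ 0) :
    Nat.card {f : K[X] // f.Monic ∧ f.natDegree = n ∧ f ∣ (X ^ r - C (b ^ r)) ^ n ∧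
      ¬ ∃ a : K, f = (X - C a) ^ n} = Nat.choose (n + r - 1) (r - 1) - r := by
  classical
  have hn1 : 1 ≤ n := by omega
  have hbi : b⁻¹ ≠ 0 := inv_ne_zero hb
  have hinv1 : ∀ f : K[X], C (b ^ n) * (C (b⁻¹ ^ n) * f.comp (C b⁻¹⁻¹ * X)).comp (C b⁻¹ * X) = f := by
    intro f
    have h := (Cfsg.Agent.helper9.S2670x.pieceS2b n f).2 b b⁻¹ hb hbi
    rw [mul_inv_cancel₀ hb] at h
    rw [← h]
    exact (Cfsg.Agent.helper9.S2670x.pieceS2b n f).1
  have hinv2 : ∀ f : K[X], C (b⁻¹ ^ n) * (C (b ^ n) * f.comp (C b⁻¹ * X)).comp (C b⁻¹⁻¹ * X) = f := by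
    intro f
    have h := (Cfsg.Agent.helper9.S2670x.pieceS2b n f).2 b⁻¹ b hbi hb
    rw [inv_mul_cancel₀ hb] at h
    rw [← h]
    exact (Cfsg.Agent.helper9.S2670x.pieceS2b n f).1
  have h1 : Nat.card {f : K[X] // f.Monic ∧ f.natDegree = n ∧ f ∣ (X ^ r - C (b ^ r)) ^ n ∧
      ¬ ∃ a : K, f = (X - C a) ^ n} =
      Nat.card {f : K[X] // f.Monic ∧ f.natDegree = n ∧ f ∣ (X ^ r - C 1) ^ n ∧
      ¬ ∃ a : K, f = (X - C a) ^ n} := by
    apply Nat.card_congr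
    refine ⟨fun f => ⟨C (b⁻¹ ^ n) * f.1.comp (C b⁻¹⁻¹ * X), ?_⟩,
      fun f => ⟨C (b ^ n) * f.1.comp (C b⁻¹ * X), ?_⟩, ?_, ?_⟩
    · obtain ⟨f, hf, hd, hdiv, hns⟩ := f
      obtain ⟨s1, s2, s3, s4, -⟩ := Cfsg.Agent.helper3.S2670x.pieceS2 n r b⁻¹ hbi f hf hd
      refine ⟨s1, s2, ?_, ?_⟩
      · have e1 : b⁻¹ ^ r * b ^ r = 1 := by
          rw [inv_pow, inv_mul_cancel₀ (pow_ne_zero r hb)]
        have := s3 _ hdiv
        rwa [e1] at this
      · rintro ⟨a, ha⟩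
        apply hns
        obtain ⟨-, -, -, t4, -⟩ := Cfsg.Agent.helper3.S2670x.pieceS2 n r b hb _ s1 s2
        have := t4 a ha
        rw [hinv1 f] at this
        exact ⟨_, this⟩
    · obtain ⟨f, hf, hd, hdiv, hns⟩ := f
      obtain ⟨s1, s2, s3, s4, -⟩ := Cfsg.Agent.helper3.S2670x.pieceS2 n r b hb f hf hd
      refine ⟨s1, s2, ?_, ?_⟩
      · have := s3 _ hdiv
        rwa [mul_one] at this
      · rintro ⟨a, ha⟩
        apply hns
        obtain ⟨-, -, -, t4, -⟩ := Cfsg.Agent.helper3.S2670x.pieceS2 n r b⁻¹ hbi _ s1 s2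
        have := t4 a ha
        rw [hinv2 f] at this
        exact ⟨_, this⟩
    · intro f
      apply Subtype.ext
      exact hinv1 f.1
    · intro f
      apply Subtype.ext
      exact hinv2 f.1
  rw [h1]
  have hS5 := Cfsg.Agent.helper6.S2670y.pieceS5 (F := K) n r hr hrq
  obtain ⟨-, hS7, -⟩ := Cfsg.Agent.helper16.S2670x.pieceS7 (F := K) r hr hrq
  -- sets
  set A : Set K[X] := {f | f.Monic ∧ f.natDegree = n ∧ f ∣ (X ^ r - C 1) ^ n} with hA
  set B : Set K[X] := {f | ∃ a : K, a ^ r = 1 ∧ f = (X - C a) ^ n} with hB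
  have hAcard : A.ncard = Nat.choose (n + r - 1) (r - 1) := by
    rw [← hS5, ← Nat.card_coe_set_eq]
    rfl
  have hAfin : A.Finite := by
    apply Set.finite_of_ncard_pos
    rw [hAcard]
    exact Nat.choose_pos (by omega)
  have hroot : ∀ a : K, (X - C a : K[X]) ^ n ∣ (X ^ r - C 1) ^ n ↔ a ^ r = 1 := by
    intro a
    constructor
    · intro h
      have h2 : (X - C a : K[X]) ∣ (X ^ r - C 1) ^ n := dvd_trans (dvd_pow_self _ (by omega)) h
      rw [dvd_iff_isRoot, IsRoot.def, eval_pow, eval_sub, eval_pow, eval_X, eval_C] at h2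
      exact sub_eq_zero.mp (pow_eq_zero_iff (by omega) |>.mp h2)
    · intro h
      apply pow_dvd_pow_of_dvd
      rw [dvd_iff_isRoot, IsRoot.def, eval_sub, eval_pow, eval_X, eval_C, h, sub_self]
  have hBA : B ⊆ A := by
    rintro f ⟨a, ha, rfl⟩
    refine ⟨(monic_X_sub_C a).pow n, ?_, (hroot a).mpr ha⟩
    rw [natDegree_pow, natDegree_X_sub_C, mul_one]
  have hBcard : B.ncard = r := by
    rw [← hS7, ← Nat.card_coe_set_eq]
    symm
    apply Nat.card_congr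
    refine Equiv.ofBijective (fun μ => ⟨(X - C (μ : K)) ^ n, μ.1, μ.2, rfl⟩) ⟨?_, ?_⟩
    · intro μ ν h
      have h2 : (X - C (μ : K)) ^ n = (X - C (ν : K)) ^ n := congrArg Subtype.val h
      have h3 : eval (μ : K) ((X - C (μ : K)) ^ n) = eval (μ : K) ((X - C (ν : K)) ^ n) := by
        rw [h2]
      rw [eval_pow, eval_pow, eval_sub, eval_sub, eval_X, eval_C, eval_C, sub_self,
        zero_pow (by omega)] at h3
      have h4 := pow_eq_zero_iff (by omega) |>.mp h3.symm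
      exact Subtype.ext (sub_eq_zero.mp h4)
    · rintro ⟨f, a, ha, rfl⟩
      exact ⟨⟨a, ha⟩, rfl⟩
  have hdiff : {f : K[X] | f.Monic ∧ f.natDegree = n ∧ f ∣ (X ^ r - C 1) ^ n ∧
      ¬ ∃ a : K, f = (X - C a) ^ n} = A \ B := by
    ext f
    simp only [Set.mem_setOf_eq, Set.mem_diff, hA, hB]
    constructor
    · rintro ⟨h1, h2, h3, h4⟩
      refine ⟨⟨h1, h2, h3⟩, ?_⟩
      rintro ⟨a, -, ha⟩
      exact h4 ⟨a, ha⟩
    · rintro ⟨⟨h1, h2, h3⟩, h4⟩
      refine ⟨h1, h2, h3, ?_⟩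
      rintro ⟨a, ha⟩
      apply h4
      refine ⟨a, ?_, ha⟩
      rw [ha] at h3
      exact (hroot a).mp h3
  have hfinal : Nat.card {f : K[X] // f.Monic ∧ f.natDegree = n ∧ f ∣ (X ^ r - C 1) ^ n ∧
      ¬ ∃ a : K, f = (X - C a) ^ n} = (A \ B).ncard := by
    rw [← hdiff, ← Nat.card_coe_set_eq]
    rfl
  rw [hfinal, Set.ncard_diff hBA (hAfin.subset hBA), hAcard, hBcard]

end Cfsg.Agent.helper11.S2672h
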