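import Mathlib
import Cfsg.Agent.Lib_helper11_Unitary

set_option autoImplicit false
set_option linter.unusedSectionVars false
set_option linter.unusedVariables false

/-!
# Abstract coordinates for the Sylow 2-subgroup of `SU_3(2^n)`

A group `P` with coordinates `(α, β) : P → F × F`, `β + β^q = α α^q`,
`(a,b)(a',b') = (a + a', b + b' + a a'^q)` over a field `F` of characteristic 2 with `q^2` elements.
-/

namespace Cfsg.Agent.helper17.U3

open Cfsg.Agent.helper11.HermCount

variable {F : Type*} [Field F] [Fintype F] {q : ℕ}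

/-- the standing hypotheses: characteristic two and `|F| = q^2` -/
structure Hyp (F : Type*) [Field F] [Fintype F] (q : ℕ) : Prop where
  two : (2 : F) = 0
  card : Fintype.card F = q ^ 2

theorem Hyp.of_pow {n : ℕ} (hF : Fintype.card F = (2 ^ n) ^ 2) : Hyp F (2 ^ n) := by
  refine ⟨?_, hF⟩
  have h := Nat.cast_card_eq_zero F
  rw [hF] at h
  push_cast at h
  have h1 : ((2 : F) ^ n) = 0 := by
    rcases pow_eq_zero_iff (two_ne_zero) |>.mp h with h'
    exact h'
  have hn : n ≠ 0 := by
    rintro rfl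
    simp at h
  exact (pow_eq_zero_iff hn).mp h1

namespace Hyp

theorem add_self (h : Hyp F q) (x : F) : x + x = 0 := by linear_combination x * h.two

theorem neg_eq (h : Hyp F q) (x : F) : -x = x := by linear_combination (-x) * h.two

theorem frob_add (h : Hyp F q) (x y : F) : (x + y) ^ q = x ^ q + y ^ q := add_pow_q h.card x y

theorem frob_frob (h : Hyp F q) (x : F) : (x ^ q) ^ q = x := pow_q_q h.card x

theorem q_ne_zero (h : Hyp F q) : q ≠ 0 := by
  have := two_le_q h.card
  omega

theorem two_le (h : Hyp F q) : 2 ≤ q := two_le_q h.card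

theorem norm_fixed (h : Hyp F q) (a : F) : (a * a ^ q) ^ q = a * a ^ q := by
  rw [mul_pow, h.frob_frob]; ring

theorem sq_inj (h : Hyp F q) (x y : F) (hxy : x ^ 2 = y ^ 2) : x = y := by
  have h2 := h.two
  have : (x - y) ^ 2 = 0 := by
    have : (x - y) ^ 2 = x ^ 2 + y ^ 2 - 2 * (x * y) := by ring
    rw [this, hxy, h2]
    linear_combination (y ^ 2) * h2
  have := pow_eq_zero_iff (two_ne_zero) |>.mp this
  exact sub_eq_zero.mp this

theorem exists_sqrt (h : Hyp F q) (x : F) : ∃ y : F, y ^ 2 = x := by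
  have hinj : Function.Injective (fun y : F => y ^ 2) := fun a b hab => h.sq_inj a b hab
  exact (Finite.injective_iff_surjective.mp hinj) x

theorem exists_not_fixed (h : Hyp F q) : ∃ x : F, x ^ q ≠ x := by
  obtain ⟨l, hl1, hl⟩ := Cfsg.Agent.helper11.Unitary.exists_norm_one_ne_one h.card
  refine ⟨l, fun hfix => hl1 ?_⟩
  rw [hfix] at hl
  apply h.sq_inj
  rw [one_pow, pow_two, hl]

theorem exists_trace_one (h : Hyp F q) : ∃ c : F, c + c ^ q = 1 := by
  obtain ⟨x, hx⟩ := h.exists_not_fixed
  have ht : x + x ^ q ≠ 0 := by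
    intro h0
    apply hx
    have := h.neg_eq x
    linear_combination h0 + this
  have htq : (x + x ^ q) ^ q = x + x ^ q := by
    rw [h.frob_add, h.frob_frob]; ring
  refine ⟨x / (x + x ^ q), ?_⟩
  rw [div_pow, htq, ← add_div, div_self ht]

/-- the trace `x ↦ x + x^q` as an additive map -/
noncomputable def tr (h : Hyp F q) : F →+ F where
  toFun x := x + x ^ q
  map_zero' := by simp [h.q_ne_zero]
  map_add' x y := by rw [h.frob_add]; ring

theorem tr_apply (h : Hyp F q) (x : F) : h.tr x = x + x ^ q := rfl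

theorem mem_ker_tr (h : Hyp F q) (x : F) : x ∈ h.tr.ker ↔ x ^ q = x := by
  rw [AddMonoidHom.mem_ker, tr_apply]
  constructor
  · intro h0
    have := h.neg_eq x
    linear_combination h0 + this
  · intro h1
    rw [h1]; exact h.add_self x

theorem mem_range_tr (h : Hyp F q) (x : F) : x ∈ h.tr.range ↔ x ^ q = x := by
  constructor
  · rintro ⟨y, rfl⟩
    rw [tr_apply, h.frob_add, h.frob_frob]; ring
  · intro hx
    obtain ⟨c, hc⟩ := h.exists_trace_one
    refine ⟨c * x, ?_⟩
    rw [tr_apply, mul_pow, hx, ← add_mul, hc, one_mul]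

/-- the fixed field has `q` elements -/
theorem card_fixed (h : Hyp F q) : Nat.card {x : F // x ^ q = x} = q := by
  have h1 : Nat.card h.tr.ker * h.tr.ker.index = Nat.card F := AddSubgroup.card_mul_index _
  rw [AddSubgroup.index_ker] at h1
  have e1 : Nat.card h.tr.ker = Nat.card {x : F // x ^ q = x} :=
    Nat.card_congr (Equiv.subtypeEquivRight (fun x => h.mem_ker_tr x))
  have e2 : Nat.card h.tr.range = Nat.card {x : F // x ^ q = x} :=
    Nat.card_congr (Equiv.subtypeEquivRight (fun x => h.mem_range_tr x))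
  rw [e1, e2, Nat.card_eq_fintype_card (α := F), h.card, ← pow_two] at h1
  exact Nat.pow_left_injective (by norm_num : 2 ≠ 0) h1

end Hyp

/-- abstract coordinates -/
structure Coord (F : Type*) [Field F] (q : ℕ) (P : Type*) [Group P] where
  α : P → F
  β : P → F
  α_mul : ∀ x y, α (x * y) = α x + α y
  β_mul : ∀ x y, β (x * y) = β x + β y + α x * (α y) ^ q
  inj : ∀ x y, α x = α y → β x = β y → x = y
  cond : ∀ x, β x + (β x) ^ q = α x * (α x) ^ q
  surj : ∀ a b : F, b + b ^ q = a * a ^ q → ∃ x, α x = a ∧ β x = b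

namespace Coord

variable {P : Type*} [Group P]

/-- transport along an isomorphism -/
def ofEquiv {P' : Type*} [Group P'] (c : Coord F q P) (e : P' ≃* P) : Coord F q P' where
  α x := c.α (e x)
  β x := c.β (e x)
  α_mul x y := by rw [map_mul, c.α_mul]
  β_mul x y := by rw [map_mul, c.β_mul]
  inj x y h1 h2 := e.injective (c.inj _ _ h1 h2)
  cond x := c.cond _
  surj a b hab := by
    obtain ⟨x, hx1, hx2⟩ := c.surj a b hab
    exact ⟨e.symm x, by simpa using hx1, by simpa using hx2⟩


theorem α_one (c : Coord F q P) : c.α 1 = 0 := by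
  have := c.α_mul 1 1
  rw [one_mul] at this
  exact left_eq_add.mp this

theorem β_one (c : Coord F q P) (h : Hyp F q) : c.β 1 = 0 := by
  have := c.β_mul 1 1
  rw [one_mul, c.α_one, zero_mul, add_zero] at this
  exact left_eq_add.mp this

theorem eq_one_iff (c : Coord F q P) (h : Hyp F q) (x : P) : x = 1 ↔ c.α x = 0 ∧ c.β x = 0 := by
  constructor
  · rintro rfl; exact ⟨c.α_one, c.β_one h⟩
  · rintro ⟨h1, h2⟩
    exact c.inj _ _ (h1.trans c.α_one.symm) (h2.trans (c.β_one h).symm)

theorem α_inv (c : Coord F q P) (h : Hyp F q) (x : P) : c.α x⁻¹ = c.α x := by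
  have := c.α_mul x x⁻¹
  rw [mul_inv_cancel, c.α_one] at this
  have h2 := h.neg_eq (c.α x)
  linear_combination -this + h2

theorem β_inv (c : Coord F q P) (h : Hyp F q) (x : P) : c.β x⁻¹ = (c.β x) ^ q := by
  have := c.β_mul x x⁻¹
  rw [mul_inv_cancel, c.β_one h, c.α_inv h] at this
  have h1 := c.cond x
  linear_combination -this - h1 - (c.α x * c.α x ^ q) * h.two

theorem finite (c : Coord F q P) (h : Hyp F q) : Finite P := by
  have : Function.Injective (fun x : P => (c.α x, c.β x)) := by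
    intro x y hxy
    simp only [Prod.mk.injEq] at hxy
    exact c.inj _ _ hxy.1 hxy.2
  exact Finite.of_injective _ this

theorem exists_α (c : Coord F q P) (h : Hyp F q) (a : F) : ∃ x : P, c.α x = a := by
  obtain ⟨t, ht⟩ := h.exists_trace_one
  obtain ⟨x, hx, _⟩ := c.surj a (t * (a * a ^ q)) (by
    rw [mul_pow, h.norm_fixed, ← add_mul, ht, one_mul])
  exact ⟨x, hx⟩

theorem mul_comm_iff (c : Coord F q P) (x y : P) :
    x * y = y * x ↔ c.α x * (c.α y) ^ q = c.α y * (c.α x) ^ q := by
  constructor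
  · intro hxy
    have h1 := c.β_mul x y
    have h2 := c.β_mul y x
    rw [hxy] at h1
    linear_combination h2 - h1
  · intro hxy
    apply c.inj
    · rw [c.α_mul, c.α_mul, add_comm]
    · rw [c.β_mul, c.β_mul, hxy]; ring

theorem mem_center_iff (c : Coord F q P) (h : Hyp F q) (x : P) : x ∈ Subgroup.center P ↔ c.α x = 0 := by
  rw [Subgroup.mem_center_iff]
  constructor
  · intro hx
    by_contra ha
    obtain ⟨x₀, hx₀⟩ := h.exists_not_fixed
    obtain ⟨y, hy⟩ := c.exists_α h (c.α x * x₀)
    have h1 := (c.mul_comm_iff y x).mp (hx y)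
    rw [hy, mul_pow] at h1
    have hne : c.α x * c.α x ^ q ≠ 0 := mul_ne_zero ha (pow_ne_zero _ ha)
    apply hx₀
    apply mul_left_cancel₀ hne
    linear_combination -h1
  · intro hx y
    rw [c.mul_comm_iff, hx, zero_pow h.q_ne_zero]; ring

theorem α_sq (c : Coord F q P) (h : Hyp F q) (x : P) : c.α (x * x) = 0 := by
  rw [c.α_mul]; exact h.add_self _

theorem β_sq (c : Coord F q P) (h : Hyp F q) (x : P) : c.β (x * x) = c.α x * (c.α x) ^ q := by
  rw [c.β_mul, h.add_self, zero_add]

theorem mul_self_eq_one_iff (c : Coord F q P) (h : Hyp F q) (x : P) : x * x = 1 ↔ c.α x = 0 := by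
  rw [c.eq_one_iff h, c.β_sq h]
  constructor
  · rintro ⟨_, h2⟩
    rcases mul_eq_zero.mp h2 with h3 | h3
    · exact h3
    · exact pow_eq_zero_iff h.q_ne_zero |>.mp h3
  · intro h0
    exact ⟨c.α_sq h x, by rw [h0, zero_mul]⟩

theorem sq_mem_center (c : Coord F q P) (h : Hyp F q) (x : P) : x * x ∈ Subgroup.center P :=
  (c.mem_center_iff h _).mpr (c.α_sq h x)

theorem mul_self_eq_one_iff_mem_center (c : Coord F q P) (h : Hyp F q) (x : P) : x * x = 1 ↔ x ∈ Subgroup.center P := by
  rw [c.mul_self_eq_one_iff h, c.mem_center_iff h]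

theorem α_comm (c : Coord F q P) (h : Hyp F q) (x y : P) : c.α (x * y * x⁻¹ * y⁻¹) = 0 := by
  rw [c.α_mul, c.α_mul, c.α_mul, c.α_inv h, c.α_inv h]
  have h1 := h.add_self (c.α x)
  have h2 := h.add_self (c.α y)
  linear_combination h1 + h2

theorem β_comm (c : Coord F q P) (h : Hyp F q) (x y : P) :
    c.β (x * y * x⁻¹ * y⁻¹) = c.α x * (c.α y) ^ q + c.α y * (c.α x) ^ q := by
  rw [c.β_mul (x * y * x⁻¹) y⁻¹, c.β_mul (x * y) x⁻¹, c.β_mul x y, c.α_mul (x * y) x⁻¹,
    c.α_mul x y, c.α_inv h, c.α_inv h, c.β_inv h, c.β_inv h]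
  have h1 := c.cond x
  have h2 := c.cond y
  have e2 := h.two
  linear_combination h1 + h2 +
    (c.α x * c.α x ^ q + c.α y * c.α y ^ q + c.α x * c.α y ^ q) * e2

/-- the homomorphism `α` -/
def αHom (c : Coord F q P) : P →* Multiplicative F where
  toFun x := Multiplicative.ofAdd (c.α x)
  map_one' := by rw [c.α_one]; rfl
  map_mul' x y := by rw [c.α_mul]; rfl

theorem αHom_surjective (c : Coord F q P) (h : Hyp F q) : Function.Surjective c.αHom := by
  intro a
  obtain ⟨x, hx⟩ := c.exists_α h (Multiplicative.toAdd a)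
  exact ⟨x, by simp [αHom, hx]⟩

theorem ker_αHom (c : Coord F q P) (h : Hyp F q) : c.αHom.ker = Subgroup.center P := by
  ext x
  rw [MonoidHom.mem_ker, c.mem_center_iff h]
  simp [αHom]

theorem card_center (c : Coord F q P) (h : Hyp F q) : Nat.card (Subgroup.center P) = q := by
  rw [← h.card_fixed]
  refine Nat.card_congr (Equiv.ofBijective
    (fun x : Subgroup.center P => (⟨c.β x.1, ?_⟩ : {x : F // x ^ q = x})) ⟨?_, ?_⟩)
  · have h0 := (c.mem_center_iff h x.1).mp x.2
    have h1 := c.cond x.1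
    rw [h0, zero_mul] at h1
    have := h.neg_eq (c.β x.1)
    linear_combination h1 + this
  · intro x y hxy
    simp only [Subtype.mk.injEq] at hxy
    apply Subtype.ext
    apply c.inj _ _ _ hxy
    rw [(c.mem_center_iff h x.1).mp x.2, (c.mem_center_iff h y.1).mp y.2]
  · rintro ⟨k, hk⟩
    obtain ⟨x, hx1, hx2⟩ := c.surj 0 k (by
      rw [hk, h.add_self, zero_mul])
    refine ⟨⟨x, (c.mem_center_iff h x).mpr hx1⟩, ?_⟩
    exact Subtype.ext hx2

theorem card_eq (c : Coord F q P) (h : Hyp F q) : Nat.card P = q ^ 3 := by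
  have h1 : Nat.card c.αHom.ker * c.αHom.ker.index = Nat.card P := Subgroup.card_mul_index _
  rw [Subgroup.index_ker, c.ker_αHom h, c.card_center h,
    MonoidHom.range_eq_top.mpr (c.αHom_surjective h), Subgroup.card_top,
    Nat.card_eq_fintype_card (α := Multiplicative F)] at h1
  have : Fintype.card (Multiplicative F) = q ^ 2 := by
    rw [← h.card]; exact Fintype.card_multiplicative F
  rw [this] at h1
  rw [← h1]; ring

theorem card_quot_center (c : Coord F q P) (h : Hyp F q) : Nat.card (P ⧸ Subgroup.center P) = q ^ 2 := by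
  have h1 := Subgroup.card_eq_card_quotient_mul_card_subgroup (Subgroup.center P)
  rw [c.card_eq h, c.card_center h] at h1
  have hq : 0 < q := Nat.pos_of_ne_zero h.q_ne_zero
  have : q ^ 2 * q = Nat.card (P ⧸ Subgroup.center P) * q := by rw [← h1]; ring
  exact (Nat.eq_of_mul_eq_mul_right hq this).symm

theorem quot_sq (c : Coord F q P) (h : Hyp F q) (x : P ⧸ Subgroup.center P) : x ^ 2 = 1 := by
  induction x using QuotientGroup.induction_on with
  | H y =>
    rw [← QuotientGroup.mk_pow, QuotientGroup.eq_one_iff, pow_two]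
    exact c.sq_mem_center h y

theorem exists_comm_eq (c : Coord F q P) (h : Hyp F q) (z : P) (hz : z ∈ Subgroup.center P) :
    ∃ x y : P, x * y * x⁻¹ * y⁻¹ = z := by
  have hz0 := (c.mem_center_iff h z).mp hz
  have hzc := c.cond z
  rw [hz0, zero_mul] at hzc
  have hfix : c.β z ^ q = c.β z := by
    have := h.neg_eq (c.β z)
    linear_combination hzc + this
  obtain ⟨t, ht⟩ := h.exists_trace_one
  obtain ⟨x, hx⟩ := c.exists_α h (t * c.β z)
  obtain ⟨y, hy⟩ := c.exists_α h 1
  refine ⟨x, y, c.inj _ _ ?_ ?_⟩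
  · rw [c.α_comm h, hz0]
  · rw [c.β_comm h, hx, hy, one_pow, mul_one, one_mul, mul_pow, hfix, ← add_mul, ht, one_mul]

theorem not_comm (c : Coord F q P) (h : Hyp F q) : ∃ x y : P, x * y ≠ y * x := by
  obtain ⟨x₀, hx₀⟩ := h.exists_not_fixed
  obtain ⟨x, hx⟩ := c.exists_α h x₀
  obtain ⟨y, hy⟩ := c.exists_α h 1
  refine ⟨x, y, fun hxy => hx₀ ?_⟩
  have := (c.mul_comm_iff x y).mp hxy
  rw [hx, hy, one_pow, mul_one, one_mul] at this
  exact this.symm

end Coord

end Cfsg.Agent.helper17.U3
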