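import Mathlib
import Cfsg.Agent.Lib_helper17_U3a

set_option autoImplicit false
set_option linter.unusedSectionVars false
set_option linter.unusedVariables false

/-!
# A field lemma for the Sylow 2-subgroup of `SU_3(2^n)`

`F` a field of characteristic two with `q^2` elements, `K = {y | y^q = y}`, `N a = a a^q`.
If `A : F → F` is an additive involution and `B : K → K` an additive involution with
`N (A a) = B (N a)`, then `B` is the identity on `K`.
-/

namespace Cfsg.Agent.helper11.SU3Z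

open Cfsg.Agent.helper17.U3

variable {F : Type*} [Field F] [Fintype F] {q : ℕ}

/-- the norm form -/
def Nm (q : ℕ) (a : F) : F := a * a ^ q
/-- its polarisation -/
def Tq (q : ℕ) (a b : F) : F := a * b ^ q + a ^ q * b

theorem eq_of_add_eq_zero (h : Hyp F q) {x y : F} (hxy : x + y = 0) : x = y := by
  have := h.neg_eq y
  linear_combination hxy + this

theorem add_eq_zero_of_eq (h : Hyp F q) {x y : F} (hxy : x = y) : x + y = 0 := by
  rw [hxy]; exact h.add_self y

theorem Nm_mem (h : Hyp F q) (a : F) : (Nm q a) ^ q = Nm q a := h.norm_fixed a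

theorem Tq_mem (h : Hyp F q) (a b : F) : (Tq q a b) ^ q = Tq q a b := by
  unfold Tq
  rw [h.frob_add, mul_pow, mul_pow, h.frob_frob, h.frob_frob]; ring

theorem Nm_add (h : Hyp F q) (a b : F) : Nm q (a + b) = Nm q a + Nm q b + Tq q a b := by
  unfold Nm Tq
  rw [h.frob_add]; ring

theorem Tq_self (h : Hyp F q) (a : F) : Tq q a a = 0 := by
  unfold Tq
  have := h.add_self (a * a ^ q)
  linear_combination this

theorem Tq_comm (a b : F) : Tq q a b = Tq q b a := by
  unfold Tq; ring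

theorem Tq_smul_right (h : Hyp F q) (a b c : F) (hc : c ^ q = c) :
    Tq q a (c * b) = c * Tq q a b := by
  unfold Tq
  rw [mul_pow, hc]; ring

theorem Tq_smul_left (h : Hyp F q) (a b c : F) (hc : c ^ q = c) :
    Tq q (c * a) b = c * Tq q a b := by
  unfold Tq
  rw [mul_pow, hc]; ring

theorem Tq_add_right (h : Hyp F q) (a b b' : F) : Tq q a (b + b') = Tq q a b + Tq q a b' := by
  unfold Tq
  rw [h.frob_add]; ring

theorem Nm_eq_zero (h : Hyp F q) (a : F) : Nm q a = 0 ↔ a = 0 := by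
  unfold Nm
  constructor
  · intro h0
    rcases mul_eq_zero.mp h0 with h1 | h1
    · exact h1
    · exact (pow_eq_zero_iff h.q_ne_zero).mp h1
  · rintro rfl; simp

theorem Nm_smul (h : Hyp F q) (a c : F) (hc : c ^ q = c) : Nm q (c * a) = c ^ 2 * Nm q a := by
  unfold Nm
  rw [mul_pow, hc]; ring

theorem Tq_eq_zero_iff (h : Hyp F q) (a b : F) (ha : a ≠ 0) :
    Tq q a b = 0 ↔ ∃ c : F, c ^ q = c ∧ b = c * a := by
  constructor
  · intro h0
    have h1 : a * b ^ q = a ^ q * b := eq_of_add_eq_zero h h0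
    refine ⟨b / a, ?_, (div_mul_cancel₀ b ha).symm⟩
    rw [div_pow, div_eq_div_iff (pow_ne_zero q ha) ha]
    linear_combination h1
  · rintro ⟨c, hc, rfl⟩
    rw [Tq_smul_right h _ _ _ hc, Tq_self h, mul_zero]

theorem zero_mem (h : Hyp F q) : (0 : F) ^ q = 0 := zero_pow h.q_ne_zero

theorem mul_mem_K {x y : F} (hx : x ^ q = x) (hy : y ^ q = y) : (x * y) ^ q = x * y := by
  rw [mul_pow, hx, hy]

theorem add_mem_K (h : Hyp F q) {x y : F} (hx : x ^ q = x) (hy : y ^ q = y) :
    (x + y) ^ q = x + y := by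
  rw [h.frob_add, hx, hy]

theorem div_mem_K {x y : F} (hx : x ^ q = x) (hy : y ^ q = y) : (x / y) ^ q = x / y := by
  rw [div_pow, hx, hy]

theorem exists_norm' (h : Hyp F q) (d : F) (hd : d ^ q = d) : ∃ c : F, Nm q c = d := by
  classical
  have h1 := Cfsg.Agent.helper11.HermCount.card_norm_fiber h.card d hd
  have hpos : 0 < Nat.card {x : F // x * x ^ q = d} := by
    rw [h1]; split_ifs <;> omega
  obtain ⟨⟨c, hc⟩⟩ := (Nat.card_pos_iff.mp hpos).1
  exact ⟨c, hc⟩

theorem sqrt_mem (h : Hyp F q) (d : F) (hd : d ^ q = d) : ∃ e : F, e ^ q = e ∧ e ^ 2 = d := by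
  obtain ⟨e, he⟩ := h.exists_sqrt d
  refine ⟨e, ?_, he⟩
  apply h.sq_inj
  rw [← pow_mul, mul_comm, pow_mul, he, hd]

/-- the hypotheses on `A` and `B` -/
structure AB (h : Hyp F q) (A B : F → F) : Prop where
  A_add : ∀ a a', A (a + a') = A a + A a'
  A_inv : ∀ a, A (A a) = a
  B_mem : ∀ y, y ^ q = y → (B y) ^ q = B y
  B_add : ∀ y y', y ^ q = y → y' ^ q = y' → B (y + y') = B y + B y'
  B_inv : ∀ y, y ^ q = y → B (B y) = y
  N_eq : ∀ a, Nm q (A a) = B (Nm q a)

namespace AB

variable {h : Hyp F q} {A B : F → F}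

theorem A_zero (H : AB h A B) : A 0 = 0 := by
  have := H.A_add 0 0
  rw [add_zero] at this
  exact left_eq_add.mp this

theorem A_inj (H : AB h A B) {a a' : F} (haa : A a = A a') : a = a' := by
  rw [← H.A_inv a, haa, H.A_inv]

theorem A_eq_zero (H : AB h A B) {a : F} (ha : A a = 0) : a = 0 := by
  apply H.A_inj; rw [ha, H.A_zero]

theorem B_zero (H : AB h A B) : B 0 = 0 := by
  have := H.B_add 0 0 (zero_mem h) (zero_mem h)
  rw [add_zero] at this
  exact left_eq_add.mp this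

theorem B_inj (H : AB h A B) {y y' : F} (hy : y ^ q = y) (hy' : y' ^ q = y')
    (hyy : B y = B y') : y = y' := by
  rw [← H.B_inv y hy, hyy, H.B_inv y' hy']

theorem Tq_A (H : AB h A B) (a b : F) : Tq q (A a) (A b) = B (Tq q a b) := by
  have h1 := H.N_eq (a + b)
  rw [H.A_add, Nm_add h, Nm_add h, H.N_eq, H.N_eq] at h1
  rw [H.B_add _ _ (add_mem_K h (Nm_mem h a) (Nm_mem h b)) (Tq_mem h a b),
    H.B_add _ _ (Nm_mem h a) (Nm_mem h b)] at h1
  exact add_left_cancel h1

theorem Tq_A_ne (H : AB h A B) (a b : F) (hab : Tq q a b ≠ 0) : Tq q (A a) (A b) ≠ 0 := by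
  rw [H.Tq_A]
  intro h0
  apply hab
  apply H.B_inj (Tq_mem h a b) (zero_mem h)
  rw [h0, H.B_zero]

/-- `A` maps `K`-multiples to `K`-multiples -/
theorem exists_phi (H : AB h A B) (a c : F) (ha : a ≠ 0) (hc : c ^ q = c) :
    ∃ c' : F, c' ^ q = c' ∧ A (c * a) = c' * A a := by
  have hAa : A a ≠ 0 := fun h0 => ha (H.A_eq_zero h0)
  have h1 : Tq q a (c * a) = 0 := by rw [Tq_smul_right h _ _ _ hc, Tq_self h, mul_zero]
  have h2 : Tq q (A a) (A (c * a)) = 0 := by rw [H.Tq_A, h1, H.B_zero]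
  exact (Tq_eq_zero_iff h _ _ hAa).mp h2

theorem phi_eq (H : AB h A B) (a b c x y : F) (hab : Tq q a b ≠ 0) (hc : c ^ q = c)
    (hx : x ^ q = x) (hy : y ^ q = y) (hxa : A (c * a) = x * A a)
    (hyb : A (c * b) = y * A b) : x = y := by
  have hab0 : a + b ≠ 0 := by
    intro h0
    have : a = b := eq_of_add_eq_zero h h0
    apply hab; rw [this, Tq_self h]
  obtain ⟨z, hz, hzab⟩ := H.exists_phi (a + b) c hab0 hc
  have hT : Tq q (A a) (A b) ≠ 0 := H.Tq_A_ne a b hab
  have hT' : Tq q (A b) (A a) ≠ 0 := by rw [Tq_comm]; exact hT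
  have hv : x * A a + y * A b = z * (A a + A b) := by
    rw [← hxa, ← hyb, ← H.A_add, ← mul_add, hzab, H.A_add]
  have e1 : Tq q (A a) (x * A a + y * A b) = y * Tq q (A a) (A b) := by
    rw [Tq_add_right h, Tq_smul_right h _ _ _ hx, Tq_smul_right h _ _ _ hy, Tq_self h]; ring
  have e2 : Tq q (A a) (z * (A a + A b)) = z * Tq q (A a) (A b) := by
    rw [Tq_smul_right h _ _ _ hz, Tq_add_right h, Tq_self h]; ring
  have hyz : y = z := by
    rw [hv, e2] at e1
    exact (mul_right_cancel₀ hT e1).symm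
  have e3 : Tq q (A b) (x * A a + y * A b) = x * Tq q (A b) (A a) := by
    rw [Tq_add_right h, Tq_smul_right h _ _ _ hx, Tq_smul_right h _ _ _ hy, Tq_self h]; ring
  have e4 : Tq q (A b) (z * (A a + A b)) = z * Tq q (A b) (A a) := by
    rw [Tq_smul_right h _ _ _ hz, Tq_add_right h, Tq_self h]; ring
  have hxz : x = z := by
    rw [hv, e4] at e3
    exact (mul_right_cancel₀ hT' e3).symm
  rw [hxz, hyz]

end AB

/-- the companion field automorphism -/
noncomputable def tau (A : F → F) (c : F) : F := A c / A 1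

namespace AB

variable {h : Hyp F q} {A B : F → F}

theorem A_one_ne (H : AB h A B) : A 1 ≠ 0 := fun h0 => one_ne_zero (H.A_eq_zero h0)

theorem tau_spec (H : AB h A B) (c : F) (hc : c ^ q = c) :
    (tau A c) ^ q = tau A c ∧ ∀ a : F, A (c * a) = tau A c * A a := by
  have h1 : (1 : F) ≠ 0 := one_ne_zero
  have hA1 : A 1 ≠ 0 := H.A_one_ne
  obtain ⟨x, hx, hx1⟩ := H.exists_phi 1 c h1 hc
  have hxt : tau A c = x := by
    unfold tau
    have hx1' := hx1
    rw [mul_one] at hx1'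
    rw [hx1', mul_div_assoc, div_self hA1, mul_one]
  rw [hxt]
  refine ⟨hx, ?_⟩
  intro a
  by_cases ha : a = 0
  · subst ha; simp [H.A_zero]
  obtain ⟨y, hy, hya⟩ := H.exists_phi a c ha hc
  rw [hya]
  congr 1
  by_cases hT : Tq q 1 a ≠ 0
  · exact (H.phi_eq 1 a c x y hT hc hx hy hx1 hya).symm
  · push_neg at hT
    obtain ⟨θ, hθ⟩ := h.exists_not_fixed
    have hT1 : Tq q 1 θ ≠ 0 := by
      unfold Tq
      rw [one_mul, one_pow, one_mul]
      intro h0
      exact hθ (eq_of_add_eq_zero h h0)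
    obtain ⟨k, hk, hak⟩ := (Tq_eq_zero_iff h 1 a h1).mp hT
    rw [mul_one] at hak
    have hTa : Tq q a θ ≠ 0 := by
      have e : Tq q a θ = k * Tq q 1 θ := by
        rw [hak]
        have := Tq_smul_left h 1 θ k hk
        rwa [mul_one] at this
      rw [e]
      exact mul_ne_zero (by rw [← hak]; exact ha) hT1
    have hθ0 : θ ≠ 0 := by
      rintro rfl
      exact hθ (zero_mem h)
    obtain ⟨w, hw, hwθ⟩ := H.exists_phi θ c hθ0 hc
    have e1 := H.phi_eq 1 θ c x w hT1 hc hx hw hx1 hwθ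
    have e2 := H.phi_eq a θ c y w hTa hc hy hw hya hwθ
    rw [e2, ← e1]

theorem tau_mem (H : AB h A B) {c : F} (hc : c ^ q = c) : (tau A c) ^ q = tau A c :=
  (H.tau_spec c hc).1

theorem A_smul (H : AB h A B) {c : F} (hc : c ^ q = c) (a : F) : A (c * a) = tau A c * A a :=
  (H.tau_spec c hc).2 a

theorem tau_add (H : AB h A B) (c d : F) : tau A (c + d) = tau A c + tau A d := by
  unfold tau; rw [H.A_add, add_div]

theorem tau_zero (H : AB h A B) : tau A 0 = 0 := by
  unfold tau; rw [H.A_zero, zero_div]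

theorem tau_one (H : AB h A B) : tau A 1 = 1 := by
  unfold tau; exact div_self H.A_one_ne

theorem tau_mul (H : AB h A B) {c d : F} (hc : c ^ q = c) (hd : d ^ q = d) :
    tau A (c * d) = tau A c * tau A d := by
  have h1 := H.A_smul (mul_mem_K hc hd) 1
  have h2 := H.A_smul hc (d * 1)
  have h3 := H.A_smul hd 1
  rw [mul_assoc, h2, h3, ← mul_assoc] at h1
  exact (mul_right_cancel₀ H.A_one_ne h1).symm

theorem tau_inj (H : AB h A B) {c d : F} (hcd : tau A c = tau A d) : c = d := by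
  unfold tau at hcd
  exact H.A_inj ((div_left_inj' H.A_one_ne).mp hcd)

theorem B_smul (H : AB h A B) (d y : F) (hd : d ^ q = d) (hy : y ^ q = y) :
    B (d * y) = tau A d * B y := by
  obtain ⟨e, he, hed⟩ := sqrt_mem h d hd
  obtain ⟨a, ha⟩ := exists_norm' h y hy
  have h1 : d * y = Nm q (e * a) := by rw [Nm_smul h a e he, hed, ha]
  rw [h1, ← H.N_eq, H.A_smul he, Nm_smul h _ _ (H.tau_mem he), H.N_eq, ha]
  congr 1
  rw [pow_two, ← H.tau_mul he he, ← pow_two, hed]

theorem B_eq (H : AB h A B) (y : F) (hy : y ^ q = y) : B y = tau A y * B 1 := by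
  have := H.B_smul y 1 hy (one_pow q)
  rwa [mul_one] at this

theorem lam_mem (H : AB h A B) : (B 1) ^ q = B 1 := H.B_mem 1 (one_pow q)

theorem tau_lam (H : AB h A B) : tau A (B 1) * B 1 = 1 := by
  have h1 := H.B_inv 1 (one_pow q)
  rw [H.B_eq (B 1) H.lam_mem] at h1
  exact h1

theorem tau_tau (H : AB h A B) (d : F) (hd : d ^ q = d) : tau A (tau A d) = d := by
  have h1 := H.B_inv d hd
  rw [H.B_eq d hd, H.B_eq (tau A d * B 1) (mul_mem_K (H.tau_mem hd) H.lam_mem),
    H.tau_mul (H.tau_mem hd) H.lam_mem, mul_assoc, H.tau_lam, mul_one] at h1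
  exact h1

theorem B_id_of_tau_id (H : AB h A B) (hτ : ∀ d : F, d ^ q = d → tau A d = d) :
    ∀ y : F, y ^ q = y → B y = y := by
  have hl : B 1 * B 1 = 1 := by
    have := H.tau_lam
    rwa [hτ _ H.lam_mem] at this
  have hl1 : B 1 = 1 := h.sq_inj _ _ (by rw [one_pow, pow_two, hl])
  intro y hy
  rw [H.B_eq y hy, hτ y hy, hl1, mul_one]

end AB

end Cfsg.Agent.helper11.SU3Z
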