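import Mathlib
import Cfsg.Agent.Lib_helper11_SU3Za

set_option autoImplicit false
set_option linter.unusedSectionVars false
set_option linter.unusedVariables false

/-!
# The field lemma, second part: the companion automorphism is trivial
-/

namespace Cfsg.Agent.helper11.SU3Z

open Cfsg.Agent.helper17.U3

variable {F : Type*} [Field F] [Fintype F] {q : ℕ}

/-- the fixed field as an additive subgroup -/
def KK (h : Hyp F q) : AddSubgroup F where
  carrier := {y | y ^ q = y}
  add_mem' := fun hx hy => add_mem_K h hx hy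
  zero_mem' := zero_mem h
  neg_mem' := by
    intro y hy
    show (-y) ^ q = -y
    rw [h.neg_eq]; exact hy

theorem mem_KK (h : Hyp F q) (y : F) : y ∈ KK h ↔ y ^ q = y := Iff.rfl

/-- the Artin–Schreier map on the fixed field -/
def wp (h : Hyp F q) : KK h →+ KK h where
  toFun y := ⟨(y : F) ^ 2 + y, by
    show ((y : F) ^ 2 + y) ^ q = (y : F) ^ 2 + y
    have hy : (y : F) ^ q = y := y.2
    rw [h.frob_add, ← pow_mul, mul_comm, pow_mul, hy]⟩
  map_zero' := by
    apply Subtype.ext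
    show ((0 : F)) ^ 2 + 0 = 0
    simp
  map_add' x y := by
    apply Subtype.ext
    show ((x : F) + y) ^ 2 + ((x : F) + y) = ((x : F) ^ 2 + x) + ((y : F) ^ 2 + y)
    have := h.two
    linear_combination ((x : F) * y) * this

theorem wp_apply (h : Hyp F q) (y : KK h) : ((wp h y : KK h) : F) = (y : F) ^ 2 + y := rfl

theorem card_ker_wp (h : Hyp F q) : Nat.card (wp h).ker = 2 := by
  rw [Nat.card_eq_two_iff]
  have h0 : (0 : KK h) ∈ (wp h).ker := (wp h).ker.zero_mem
  have h1 : (⟨1, one_pow q⟩ : KK h) ∈ (wp h).ker := by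
    rw [AddMonoidHom.mem_ker]
    apply Subtype.ext
    rw [wp_apply]
    show (1 : F) ^ 2 + 1 = 0
    rw [one_pow]
    have := h.two
    linear_combination this
  refine ⟨⟨0, h0⟩, ⟨⟨1, one_pow q⟩, h1⟩, ?_, ?_⟩
  · intro he
    have := congrArg (fun z : (wp h).ker => ((z : KK h) : F)) he
    simp at this
  · ext ⟨y, hy⟩
    simp only [Set.mem_insert_iff, Set.mem_singleton_iff, Set.mem_univ, iff_true]
    rw [AddMonoidHom.mem_ker] at hy
    have hy' : ((y : F)) ^ 2 + y = 0 := by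
      have := congrArg (fun z : KK h => (z : F)) hy
      simpa [wp_apply] using this
    have h2 : (y : F) * ((y : F) + 1) = 0 := by linear_combination hy'
    rcases mul_eq_zero.mp h2 with h3 | h3
    · left
      apply Subtype.ext; apply Subtype.ext
      exact h3
    · right
      apply Subtype.ext; apply Subtype.ext
      exact eq_of_add_eq_zero h h3

theorem index_range_wp (h : Hyp F q) : (wp h).range.index = 2 := by
  have h1 : Nat.card (wp h).ker * (wp h).ker.index = Nat.card (KK h) :=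
    AddSubgroup.card_mul_index _
  rw [AddSubgroup.index_ker, card_ker_wp h] at h1
  have h2 : Nat.card (wp h).range * (wp h).range.index = Nat.card (KK h) :=
    AddSubgroup.card_mul_index _
  have hpos : 0 < Nat.card (wp h).range := Nat.card_pos
  rw [← h1] at h2
  exact Nat.eq_of_mul_eq_mul_left hpos (by rw [h2, mul_comm])

namespace AB

variable {h : Hyp F q} {A B : F → F}

/-- Artin–Schreier: over the quadratic extension `K / K^τ` every `y^2 + y = δ`, `δ ∈ K^τ`, is
solvable -/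
theorem exists_wp (H : AB h A B) (d₀ : F) (hd₀ : d₀ ^ q = d₀) (hne : tau A d₀ ≠ d₀)
    (δ : F) (hδ : δ ^ q = δ) (hτδ : tau A δ = δ) :
    ∃ y : F, y ^ q = y ∧ y ^ 2 + y = δ := by
  have hτd₀ : (tau A d₀) ^ q = tau A d₀ := H.tau_mem hd₀
  -- an element of trace one
  set e := d₀ + tau A d₀ with he
  have he0 : e ≠ 0 := by
    intro h0
    exact hne (eq_of_add_eq_zero h h0).symm
  have heK : e ^ q = e := add_mem_K h hd₀ hτd₀
  have hτe : tau A e = e := by
    rw [he, H.tau_add, H.tau_tau d₀ hd₀, add_comm]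
  set y₀ := d₀ / e with hy₀
  have hy₀K : y₀ ^ q = y₀ := div_mem_K hd₀ heK
  have hτy₀ : tau A y₀ = tau A d₀ / e := by
    have h1 : tau A y₀ * tau A e = tau A d₀ := by
      rw [← H.tau_mul hy₀K heK, hy₀, div_mul_cancel₀ _ he0]
    rw [hτe] at h1
    rw [← h1, mul_div_assoc, div_self he0, mul_one]
  have htr : y₀ + tau A y₀ = 1 := by
    rw [hτy₀, hy₀, ← add_div, ← he, div_self he0]
  -- u with u + τ u = δ
  set u := δ * y₀ with hu
  have huK : u ^ q = u := mul_mem_K hδ hy₀K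
  have hτu : tau A u = δ * tau A y₀ := by rw [hu, H.tau_mul hδ hy₀K, hτδ]
  have hutr : u + tau A u = δ := by
    rw [hτu, hu, ← mul_add, htr, mul_one]
  -- the key: a solution of `p^2 + p = u + ε δ` gives one for `δ`
  have key : ∀ p : F, p ^ q = p → (p ^ 2 + p = u ∨ p ^ 2 + p = u + δ) →
      ∃ y : F, y ^ q = y ∧ y ^ 2 + y = δ := by
    intro p hp hpu
    have hτp : (tau A p) ^ q = tau A p := H.tau_mem hp
    refine ⟨p + tau A p, add_mem_K h hp hτp, ?_⟩
    have hτwp : tau A (p ^ 2 + p) = (tau A p) ^ 2 + tau A p := by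
      rw [H.tau_add, pow_two, H.tau_mul hp hp, ← pow_two]
    have h2 := h.two
    rcases hpu with hpu | hpu
    · rw [hpu] at hτwp
      have : (p + tau A p) ^ 2 + (p + tau A p) = (p ^ 2 + p) + ((tau A p) ^ 2 + tau A p) := by
        linear_combination (p * tau A p) * h2
      rw [this, ← hτwp, hpu, hutr]
    · rw [hpu, H.tau_add, hτδ] at hτwp
      have : (p + tau A p) ^ 2 + (p + tau A p) = (p ^ 2 + p) + ((tau A p) ^ 2 + tau A p) := by
        linear_combination (p * tau A p) * h2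
      rw [this, ← hτwp, hpu]
      have := h.add_self δ
      linear_combination hutr + this
  -- index two
  have hidx := index_range_wp h
  let uK : KK h := ⟨u, huK⟩
  let δK : KK h := ⟨δ, hδ⟩
  by_cases h1 : uK ∈ (wp h).range
  · obtain ⟨p, hp⟩ := h1
    apply key p.1 p.2
    left
    have := congrArg (fun z : KK h => (z : F)) hp
    simpa [wp_apply] using this
  · by_cases h2 : δK ∈ (wp h).range
    · obtain ⟨p, hp⟩ := h2
      refine ⟨p.1, p.2, ?_⟩
      have := congrArg (fun z : KK h => (z : F)) hp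
      simpa [wp_apply] using this
    · have h3 : uK + δK ∈ (wp h).range :=
        (AddSubgroup.add_mem_iff_of_index_two hidx).mpr ⟨fun hh => absurd hh h1, fun hh => absurd hh h2⟩
      obtain ⟨p, hp⟩ := h3
      apply key p.1 p.2
      right
      have := congrArg (fun z : KK h => (z : F)) hp
      simpa [wp_apply] using this

/-- the companion automorphism is trivial -/
theorem tau_id (H : AB h A B) : ∀ d : F, d ^ q = d → tau A d = d := by
  by_contra hcon
  push Not at hcon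
  obtain ⟨d₀, hd₀, hne⟩ := hcon
  -- a nonzero fixed vector of `A`
  obtain ⟨w₁, hw₁0, hAw₁⟩ : ∃ w : F, w ≠ 0 ∧ A w = w := by
    by_cases hall : ∀ a, A a = a
    · exact ⟨1, one_ne_zero, hall 1⟩
    · push Not at hall
      obtain ⟨a, ha⟩ := hall
      refine ⟨A a + a, fun h0 => ha (eq_of_add_eq_zero h h0), ?_⟩
      rw [H.A_add, H.A_inv, add_comm]
  -- an element of `K` moved by `B`
  obtain ⟨t₀, ht₀K, ht₀⟩ : ∃ t : F, t ^ q = t ∧ B t ≠ t := by
    by_contra hcon
    push Not at hcon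
    have hl1 : B 1 = 1 := hcon 1 (one_pow q)
    apply hne
    have := hcon d₀ hd₀
    rw [H.B_eq d₀ hd₀, hl1, mul_one] at this
    exact this
  -- a second fixed vector
  obtain ⟨θ, hθ⟩ := h.exists_not_fixed
  have hθ1 : θ ^ q + θ ≠ 0 := fun h0 => hθ (eq_of_add_eq_zero h h0)
  have hn₁0 : Nm q w₁ ≠ 0 := fun h0 => hw₁0 ((Nm_eq_zero h w₁).mp h0)
  have hs : (θ ^ q + θ) ^ q = θ ^ q + θ := by
    rw [h.frob_add, h.frob_frob, add_comm]
  set k := t₀ / (Nm q w₁ * (θ ^ q + θ)) with hk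
  have hkK : k ^ q = k := div_mem_K ht₀K (mul_mem_K (Nm_mem h w₁) hs)
  set a := k * (θ * w₁) with ha
  have hTa : Tq q w₁ a = t₀ := by
    rw [ha, Tq_smul_right h _ _ _ hkK]
    have : Tq q w₁ (θ * w₁) = Nm q w₁ * (θ ^ q + θ) := by
      unfold Tq Nm; rw [mul_pow]; ring
    rw [this, hk, div_mul_cancel₀ _ (mul_ne_zero hn₁0 hθ1)]
  set w₂ := A a + a with hw₂
  have hAw₂ : A w₂ = w₂ := by rw [hw₂, H.A_add, H.A_inv, add_comm]
  have hT12 : Tq q w₁ w₂ = B t₀ + t₀ := by
    rw [hw₂, Tq_add_right h, hTa]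
    congr 1
    have := H.Tq_A w₁ a
    rw [hAw₁, hTa] at this
    exact this
  have ht0 : Tq q w₁ w₂ ≠ 0 := by
    rw [hT12]
    intro h0
    exact ht₀ (eq_of_add_eq_zero h h0)
  set t := Tq q w₁ w₂ with ht
  set n₁ := Nm q w₁ with hn₁
  set n₂ := Nm q w₂ with hn₂
  have htK : t ^ q = t := Tq_mem h _ _
  have hn₁K : n₁ ^ q = n₁ := Nm_mem h _
  have hn₂K : n₂ ^ q = n₂ := Nm_mem h _
  have hBn₁ : B n₁ = n₁ := by rw [hn₁, ← H.N_eq, hAw₁]
  have hBn₂ : B n₂ = n₂ := by rw [hn₂, ← H.N_eq, hAw₂]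
  have hBt : B t = t := by rw [ht, ← H.Tq_A, hAw₁, hAw₂]
  have hτn₁ : tau A n₁ * B 1 = n₁ := by rw [← H.B_eq n₁ hn₁K, hBn₁]
  have hτn₂ : tau A n₂ * B 1 = n₂ := by rw [← H.B_eq n₂ hn₂K, hBn₂]
  have hτt : tau A t * B 1 = t := by rw [← H.B_eq t htK, hBt]
  have ht2 : t ^ 2 ≠ 0 := pow_ne_zero 2 ht0
  set δ := n₁ * n₂ / t ^ 2 with hδ
  have hδK : δ ^ q = δ := div_mem_K (mul_mem_K hn₁K hn₂K) (by rw [pow_two]; exact mul_mem_K htK htK)
  have hδt : δ * t ^ 2 = n₁ * n₂ := by rw [hδ, div_mul_cancel₀ _ ht2]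
  have hτδ : tau A δ = δ := by
    have h1 : tau A δ * (tau A t * tau A t) = tau A n₁ * tau A n₂ := by
      rw [← H.tau_mul htK htK, ← H.tau_mul hδK (mul_mem_K htK htK), ← H.tau_mul hn₁K hn₂K,
        ← pow_two, hδt]
    have h2 : tau A δ * t ^ 2 = δ * t ^ 2 := by
      rw [hδt]
      have : tau A δ * ((tau A t * B 1) * (tau A t * B 1)) =
          (tau A n₁ * B 1) * (tau A n₂ * B 1) := by
        linear_combination (B 1 * B 1) * h1
      rw [hτt, hτn₁, hτn₂] at this
      rw [pow_two]; exact this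
    exact mul_right_cancel₀ ht2 h2
  obtain ⟨y, hyK, hy⟩ := H.exists_wp d₀ hd₀ hne δ hδK hτδ
  -- the isotropic vector
  set c := t / n₁ * y with hc
  have hcK : c ^ q = c := mul_mem_K (div_mem_K htK hn₁K) hyK
  have hquad : c ^ 2 * n₁ + c * t + n₂ = 0 := by
    have h1 : c ^ 2 * n₁ + c * t = t ^ 2 / n₁ * (y ^ 2 + y) := by
      rw [hc]; field_simp
    rw [h1, hy, hδ]
    have h2 : t ^ 2 / n₁ * (n₁ * n₂ / t ^ 2) = n₂ := by field_simp
    rw [h2]; exact h.add_self n₂
  have hv : Nm q (c * w₁ + w₂) = 0 := by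
    rw [Nm_add h, Nm_smul h _ _ hcK, Tq_smul_left h _ _ _ hcK]
    linear_combination hquad
  have hv0 : c * w₁ + w₂ = 0 := (Nm_eq_zero h _).mp hv
  have hw₂c : w₂ = c * w₁ := (eq_of_add_eq_zero h hv0).symm
  apply ht0
  rw [ht, hw₂c, Tq_smul_right h _ _ _ hcK, Tq_self h, mul_zero]

/-- the field lemma -/
theorem B_id (H : AB h A B) : ∀ y : F, y ^ q = y → B y = y :=
  H.B_id_of_tau_id H.tau_id

end AB

end Cfsg.Agent.helper11.SU3Z
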