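import Mathlib
import Cfsg.Agent.Lib_helper17_U3a
import Cfsg.Agent.Lib_helper11_Unitary4

set_option autoImplicit false
set_option linter.unusedSectionVars false
set_option linter.unusedVariables false

/-!
# An explicit Sylow 2-subgroup of `SU_3(2^n)` for the diagonal Hermitian form
-/

namespace Cfsg.Agent.helper17.U3

open Cfsg Matrix
open Cfsg.Agent.helper11.Unitary Cfsg.Agent.helper11.HermCount

variable {F : Type*} [Field F] [Fintype F] {q : ℕ}

/-- the matrix `g U(a,b) g⁻¹` -/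
def MM (q : ℕ) (a b : F) : Matrix (Fin 3) (Fin 3) F :=
  !![1 + b, b, a; b, 1 + b, a; a ^ q, a ^ q, 1]

theorem MM_02 (a b : F) : MM q a b 0 2 = a := by simp [MM]
theorem MM_01 (a b : F) : MM q a b 0 1 = b := by simp [MM]

theorem MM_mul (h : Hyp F q) (a b a' b' : F) :
    MM q a b * MM q a' b' = MM q (a + a') (b + b' + a * a' ^ q) := by
  have h2 := h.two
  have hadd := h.frob_add a a'
  ext i j
  fin_cases i <;> fin_cases j <;>
    simp [MM, Matrix.mul_apply, Fin.sum_univ_three, hadd] <;> grind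

theorem MM_zero (h : Hyp F q) : MM q (0 : F) 0 = 1 := by
  ext i j
  fin_cases i <;> fin_cases j <;> simp [MM, h.q_ne_zero]

theorem det_MM (h : Hyp F q) (a b : F) : (MM q a b).det = 1 := by
  have h2 := h.two
  rw [Matrix.det_fin_three]
  simp [MM]
  grind

theorem MM_mulVec0 (a b : F) (u : Fin 3 → F) :
    (MM q a b *ᵥ u) 0 = (1 + b) * u 0 + b * u 1 + a * u 2 := by
  simp [MM, Matrix.mulVec, dotProduct, Fin.sum_univ_three]

theorem MM_mulVec1 (a b : F) (u : Fin 3 → F) :
    (MM q a b *ᵥ u) 1 = b * u 0 + (1 + b) * u 1 + a * u 2 := by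
  simp [MM, Matrix.mulVec, dotProduct, Fin.sum_univ_three]

theorem MM_mulVec2 (a b : F) (u : Fin 3 → F) :
    (MM q a b *ᵥ u) 2 = a ^ q * u 0 + a ^ q * u 1 + u 2 := by
  simp [MM, Matrix.mulVec, dotProduct, Fin.sum_univ_three]

theorem MM_preserves (h : Hyp F q) (a b : F) (hb : b + b ^ q = a * a ^ q) (u v : Fin 3 → F) :
    hermForm 3 F q (MM q a b *ᵥ u) (MM q a b *ᵥ v) = hermForm 3 F q u v := by
  have h2 := h.two
  have e1 : ∀ x y : F, (x + y) ^ q = x ^ q + y ^ q := h.frob_add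
  have e2 : (a ^ q) ^ q = a := h.frob_frob a
  simp only [hermForm, Fin.sum_univ_three, MM_mulVec0, MM_mulVec1, MM_mulVec2]
  simp only [e1, mul_pow, e2, one_pow]
  generalize a ^ q = A at *
  generalize b ^ q = B at *
  generalize v 0 ^ q = V0
  generalize v 1 ^ q = V1
  generalize v 2 ^ q = V2
  clear e1 e2
  grind

/-- the underlying matrix of an element of `SU` -/
def mat (g : SU 3 F q) : Matrix (Fin 3) (Fin 3) F :=
  ((g : Matrix.SpecialLinearGroup (Fin 3) F) : Matrix (Fin 3) (Fin 3) F)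

theorem mat_mul (g g' : SU 3 F q) : mat (g * g') = mat g * mat g' := by
  unfold mat
  rw [Subgroup.coe_mul, Matrix.SpecialLinearGroup.coe_mul]

theorem mat_one : mat (1 : SU 3 F q) = 1 := by
  unfold mat
  rw [Subgroup.coe_one, Matrix.SpecialLinearGroup.coe_one]

theorem mat_ext (g g' : SU 3 F q) (hm : mat g = mat g') : g = g' :=
  Subtype.ext (Subtype.ext hm)

/-- element of `SU` from parameters -/
noncomputable def mkQ (h : Hyp F q) (a b : F) (hb : b + b ^ q = a * a ^ q) : SU 3 F q :=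
  mkSU (MM q a b) (det_MM h a b) (MM_preserves h a b hb)

theorem mat_mkQ (h : Hyp F q) (a b : F) (hb : b + b ^ q = a * a ^ q) :
    mat (mkQ h a b hb) = MM q a b := rfl

/-- the explicit Sylow 2-subgroup -/
def Q0 (h : Hyp F q) : Subgroup (SU 3 F q) where
  carrier := {g | ∃ a b : F, b + b ^ q = a * a ^ q ∧ mat g = MM q a b}
  mul_mem' := by
    rintro g g' ⟨a, b, hb, hg⟩ ⟨a', b', hb', hg'⟩
    refine ⟨a + a', b + b' + a * a' ^ q, ?_, ?_⟩
    · simp only [h.frob_add, mul_pow, h.frob_frob]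
      linear_combination hb + hb'
    · rw [mat_mul, hg, hg', MM_mul h]
  one_mem' := ⟨0, 0, by simp [h.q_ne_zero], by rw [MM_zero h, mat_one]⟩
  inv_mem' := by
    rintro g ⟨a, b, hb, hg⟩
    have hb' : b ^ q + (b ^ q) ^ q = a * a ^ q := by rw [h.frob_frob]; linear_combination hb
    have hmul : g * mkQ h a (b ^ q) hb' = 1 := by
      apply mat_ext
      rw [mat_mul, mat_one, hg, mat_mkQ, MM_mul h, ← MM_zero h]
      congr 1
      · exact h.add_self a
      · have e2 := h.two
        linear_combination hb + (a * a ^ q) * e2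
    rw [inv_eq_of_mul_eq_one_right hmul]
    exact ⟨a, b ^ q, hb', mat_mkQ h a (b ^ q) hb'⟩

/-- first coordinate -/
def cA (h : Hyp F q) (g : Q0 h) : F := mat g.1 0 2
/-- second coordinate -/
def cB (h : Hyp F q) (g : Q0 h) : F := mat g.1 0 1

theorem Q0_spec (h : Hyp F q) (g : Q0 h) :
    cB h g + cB h g ^ q = cA h g * cA h g ^ q ∧ mat g.1 = MM q (cA h g) (cB h g) := by
  obtain ⟨a, b, hb, hg⟩ := g.2
  have ha : cA h g = a := by unfold cA; rw [hg, MM_02]
  have hb' : cB h g = b := by unfold cB; rw [hg, MM_01]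
  rw [ha, hb']; exact ⟨hb, hg⟩

theorem mat_mul_Q0 (h : Hyp F q) (x y : Q0 h) :
    mat (x * y).1 = MM q (cA h x + cA h y) (cB h x + cB h y + cA h x * cA h y ^ q) := by
  rw [Subgroup.coe_mul, mat_mul, (Q0_spec h x).2, (Q0_spec h y).2, MM_mul h]

/-- the coordinates of the explicit Sylow 2-subgroup -/
noncomputable def coordQ0 (h : Hyp F q) : Coord F q (Q0 h) where
  α := cA h
  β := cB h
  α_mul x y := by
    show mat (x * y).1 0 2 = _
    rw [mat_mul_Q0, MM_02]
  β_mul x y := by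
    show mat (x * y).1 0 1 = _
    rw [mat_mul_Q0, MM_01]
  inj x y h1 h2 := by
    apply Subtype.ext
    apply mat_ext
    rw [(Q0_spec h x).2, (Q0_spec h y).2, h1, h2]
  cond x := (Q0_spec h x).1
  surj a b hab := ⟨⟨mkQ h a b hab, a, b, hab, mat_mkQ h a b hab⟩, by
    show mat (mkQ h a b hab) 0 2 = a
    rw [mat_mkQ, MM_02], by
    show mat (mkQ h a b hab) 0 1 = b
    rw [mat_mkQ, MM_01]⟩

end Cfsg.Agent.helper17.U3
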