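import Mathlib
import Cfsg.Agent.Lib_helper17_U3b

set_option autoImplicit false
set_option linter.unusedSectionVars false
set_option linter.unusedVariables false

/-!
# Every Sylow 2-subgroup of `PSU_3(2^n)` carries `U3`-coordinates
-/

namespace Cfsg.Agent.helper17.U3

open Cfsg Matrix
open Cfsg.Agent.helper11.Unitary Cfsg.Agent.helper11.HermCount

variable {F : Type*} [Field F] [Fintype F] {q : ℕ}

theorem card_Q0 (h : Hyp F q) : Nat.card (Q0 h) = q ^ 3 := (coordQ0 h).card_eq h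

theorem Q0_center_trivial (h : Hyp F q) {n : ℕ} (hqn : q = 2 ^ n) (g : Q0 h)
    (hg : (g : SU 3 F q) ∈ Subgroup.center (SU 3 F q)) : g = 1 := by
  haveI : Finite (Q0 h) := (coordQ0 h).finite h
  have h1 : orderOf g ∣ 2 ^ (n * 3) := by
    have := orderOf_dvd_natCard g
    rw [card_Q0 h] at this
    have e : q ^ 3 = 2 ^ (n * 3) := by rw [hqn, ← pow_mul]
    rwa [e] at this
  have h2 : orderOf g ∣ 3 := by
    have e1 : orderOf (⟨g.1, hg⟩ : Subgroup.center (SU 3 F q)) = orderOf g := by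
      rw [Subgroup.orderOf_mk, Subgroup.orderOf_coe]
    have := orderOf_dvd_natCard (⟨g.1, hg⟩ : Subgroup.center (SU 3 F q))
    rw [e1, card_center_SU h.card (le_refl 3)] at this
    exact this.trans (Nat.gcd_dvd_left 3 (q + 1))
  have h3 : Nat.Coprime 3 (2 ^ (n * 3)) := Nat.Coprime.pow_right _ (by norm_num)
  have h4 : orderOf g ∣ 1 := by
    have := Nat.dvd_gcd h2 h1
    rwa [h3.gcd_eq_one] at this
  exact orderOf_eq_one_iff.mp (Nat.dvd_one.mp h4)

/-- the map of the explicit subgroup into `PSU` -/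
noncomputable def psi (h : Hyp F q) : Q0 h →* PSU 3 F q :=
  (QuotientGroup.mk' (Subgroup.center (SU 3 F q))).comp (Q0 h).subtype

theorem psi_injective (h : Hyp F q) {n : ℕ} (hqn : q = 2 ^ n) : Function.Injective (psi h) := by
  rw [injective_iff_map_eq_one]
  intro g hg
  apply Q0_center_trivial h hqn g
  have : (QuotientGroup.mk' (Subgroup.center (SU 3 F q))) (g : SU 3 F q) = 1 := hg
  rwa [QuotientGroup.mk'_apply, QuotientGroup.eq_one_iff] at this

theorem card_range_psi (h : Hyp F q) {n : ℕ} (hqn : q = 2 ^ n) :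
    Nat.card (psi h).range = q ^ 3 := by
  rw [← card_Q0 h]
  exact (Nat.card_congr (MonoidHom.ofInjective (psi_injective h hqn)).toEquiv).symm

theorem card_PSU3 (h : Hyp F q) :
    Nat.gcd 3 (q + 1) * ((q + 1) * Nat.card (PSU 3 F q)) =
      q ^ 3 * ((q + 1) * (q ^ 2 - 1) * (q ^ 3 + 1)) := by
  have := card_PSU (n := 3) h.card (by norm_num)
  rw [this]
  simp [Finset.prod_range_succ]

theorem not_dvd_index (h : Hyp F q) {n : ℕ} (hqn : q = 2 ^ n) : ¬ 2 ∣ (psi h).range.index := by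
  haveI : Finite (PSU 3 F q) := inferInstance
  intro hdvd
  have h1 : Nat.card (psi h).range * (psi h).range.index = Nat.card (PSU 3 F q) :=
    Subgroup.card_mul_index _
  rw [card_range_psi h hqn] at h1
  have h2 := card_PSU3 h
  rw [← h1] at h2
  have hq2 := h.two_le
  have hpos : 0 < q ^ 3 * (q + 1) := by positivity
  have h3 : Nat.gcd 3 (q + 1) * (psi h).range.index = (q ^ 2 - 1) * (q ^ 3 + 1) := by
    apply Nat.eq_of_mul_eq_mul_left hpos
    generalize q ^ 2 - 1 = A at *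
    generalize (psi h).range.index = I at *
    generalize Nat.gcd 3 (q + 1) = D at *
    linarith [h2, mul_comm D ((q+1) * (q^3 * I))]
  have hn : n ≠ 0 := by
    rintro rfl
    simp at hqn
    omega
  have hqe : Even q := by
    rw [hqn]
    exact (Nat.even_pow.mpr ⟨even_two, hn⟩)
  have ho1 : Odd (q ^ 2 - 1) := by
    apply Nat.Even.sub_odd (Nat.one_le_pow _ _ (by omega)) _ odd_one
    exact Nat.even_pow.mpr ⟨hqe, by norm_num⟩
  have ho2 : Odd (q ^ 3 + 1) := by
    apply Even.add_one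
    exact Nat.even_pow.mpr ⟨hqe, by norm_num⟩
  have ho : Odd ((q ^ 2 - 1) * (q ^ 3 + 1)) := ho1.mul ho2
  rw [← h3] at ho
  have : Even (Nat.gcd 3 (q + 1) * (psi h).range.index) :=
    (even_iff_two_dvd.mpr hdvd).mul_left _
  exact (Nat.not_even_iff_odd.mpr ho) this

/-- every Sylow 2-subgroup of `PSU_3(2^n)` is isomorphic to the explicit one -/
theorem exists_equiv (h : Hyp F q) {n : ℕ} (hqn : q = 2 ^ n) (S : Sylow 2 (PSU 3 F q)) :
    Nonempty (↥(S : Subgroup (PSU 3 F q)) ≃* Q0 h) := by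
  haveI : Finite (PSU 3 F q) := inferInstance
  have hp : IsPGroup 2 (psi h).range := by
    apply IsPGroup.of_card (n := n * 3)
    rw [card_range_psi h hqn, hqn, pow_mul]
  let S1 : Sylow 2 (PSU 3 F q) := hp.toSylow (not_dvd_index h hqn)
  have e1 : ↥(S : Subgroup (PSU 3 F q)) ≃* ↥(S1 : Subgroup (PSU 3 F q)) := Sylow.equiv S S1
  have e2 : ↥(S1 : Subgroup (PSU 3 F q)) ≃* ↥(psi h).range := MulEquiv.subgroupCongr rfl
  exact ⟨(e1.trans e2).trans (MonoidHom.ofInjective (psi_injective h hqn)).symm⟩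

/-- every Sylow 2-subgroup of `PSU_3(2^n)` carries coordinates -/
theorem exists_coord (h : Hyp F q) {n : ℕ} (hqn : q = 2 ^ n) (S : Sylow 2 (PSU 3 F q)) :
    Nonempty (Coord F q ↥(S : Subgroup (PSU 3 F q))) := by
  obtain ⟨e⟩ := exists_equiv h hqn S
  exact ⟨(coordQ0 h).ofEquiv e⟩

end Cfsg.Agent.helper17.U3
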