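import Mathlib
import Cfsg.Agent.Lib_helper11_SU3Zb
import Cfsg.Agent.Lib_helper17_U3c

set_option autoImplicit false
set_option linter.unusedSectionVars false
set_option linter.unusedVariables false

/-!
# Index-two overgroups of a Sylow 2-subgroup of `SU_3(2^n)` centralize its centre
-/

namespace Cfsg.Agent.helper11.SU3Z

open Cfsg Cfsg.Agent.helper17.U3

variable {F : Type*} [Field F] [Fintype F] {q : ℕ}

section Abstract

variable {P : Type*} [Group P]

theorem alpha_sigma_zero (c : Coord F q P) (h : Hyp F q) (σ : P →* P) (z : P)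
    (hz : c.α z = 0) : c.α (σ z) = 0 := by
  rw [← c.mul_self_eq_one_iff h, ← map_mul, (c.mul_self_eq_one_iff h z).mpr hz, map_one]

theorem beta_mem_K (c : Coord F q P) (h : Hyp F q) (z : P) (hz : c.α z = 0) :
    (c.β z) ^ q = c.β z := by
  have := c.cond z
  rw [hz, zero_mul] at this
  exact (eq_of_add_eq_zero h this).symm

/-- an endomorphism whose square is inner fixes the centre elementwise -/
theorem sigma_fix_center (c : Coord F q P) (h : Hyp F q) (σ : P →* P)
    (hσ2 : ∃ g : P, ∀ x, σ (σ x) = g * x * g⁻¹) (z : P) (hz : z ∈ Subgroup.center P) :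
    σ z = z := by
  classical
  obtain ⟨g, hg⟩ := hσ2
  have hlift : ∀ a : F, ∃ x : P, c.α x = a := fun a => c.exists_α h a
  choose lift hliftspec using hlift
  have hzl : ∀ y : F, y ^ q = y → ∃ x : P, c.α x = 0 ∧ c.β x = y := by
    intro y hy
    apply c.surj 0 y
    rw [hy, zero_mul]; exact h.add_self y
  choose zlift hzlift using hzl
  set A : F → F := fun a => c.α (σ (lift a)) with hA
  set B : F → F := fun y => if hy : y ^ q = y then c.β (σ (zlift y hy)) else y with hB
  have hAx : ∀ x : P, A (c.α x) = c.α (σ x) := by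
    intro x
    set x' := lift (c.α x) with hx'
    have h1 : c.α x' = c.α x := hliftspec _
    have h2 : c.α (x' * x⁻¹) = 0 := by
      rw [c.α_mul, c.α_inv h, h1]; exact h.add_self _
    have h3 : x' = (x' * x⁻¹) * x := by group
    show c.α (σ x') = c.α (σ x)
    rw [h3, map_mul, c.α_mul, alpha_sigma_zero c h σ _ h2, zero_add]
  have hBy : ∀ (y : F) (hy : y ^ q = y), B y = c.β (σ (zlift y hy)) := by
    intro y hy
    show (if hy : y ^ q = y then c.β (σ (zlift y hy)) else y) = _
    rw [dif_pos hy]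
  have hBz : ∀ z : P, c.α z = 0 → B (c.β z) = c.β (σ z) := by
    intro z hz
    have hK := beta_mem_K c h z hz
    rw [hBy _ hK]
    have : zlift (c.β z) hK = z := c.inj _ _ (by rw [(hzlift _ hK).1, hz]) (hzlift _ hK).2
    rw [this]
  have hconjα : ∀ x : P, c.α (g * x * g⁻¹) = c.α x := by
    intro x
    rw [c.α_mul, c.α_mul, c.α_inv h]
    have := h.add_self (c.α g)
    linear_combination this
  have HAB : AB h A B := by
    refine ⟨?_, ?_, ?_, ?_, ?_, ?_⟩
    · intro a a'
      have h1 : c.α (lift a * lift a') = a + a' := by rw [c.α_mul, hliftspec, hliftspec]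
      rw [← h1, hAx, map_mul, c.α_mul]
    · intro a
      show A (c.α (σ (lift a))) = a
      rw [hAx, hg, hconjα, hliftspec]
    · intro y hy
      rw [hBy y hy]
      exact beta_mem_K c h _ (alpha_sigma_zero c h σ _ (hzlift y hy).1)
    · intro y y' hy hy'
      have hz1 := hzlift y hy
      have hz2 := hzlift y' hy'
      have h1 : c.α (zlift y hy * zlift y' hy') = 0 := by rw [c.α_mul, hz1.1, hz2.1, add_zero]
      have h2 : c.β (zlift y hy * zlift y' hy') = y + y' := by
        rw [c.β_mul, hz1.1, hz1.2, hz2.2, zero_mul, add_zero]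
      rw [← h2, hBz _ h1, map_mul, c.β_mul, alpha_sigma_zero c h σ _ hz1.1, zero_mul, add_zero,
        hBy y hy, hBy y' hy']
    · intro y hy
      have hz1 := hzlift y hy
      rw [hBy y hy, hBz _ (alpha_sigma_zero c h σ _ hz1.1), hg]
      have hcen : zlift y hy ∈ Subgroup.center P := (c.mem_center_iff h _).mpr hz1.1
      have : g * zlift y hy * g⁻¹ = zlift y hy := by
        rw [Subgroup.mem_center_iff.mp hcen g, mul_assoc, mul_inv_cancel, mul_one]
      rw [this, hz1.2]
    · intro a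
      show Nm q (c.α (σ (lift a))) = B (Nm q a)
      have h1 : Nm q a = c.β (lift a * lift a) := by
        rw [c.β_sq h, hliftspec]; rfl
      rw [h1, hBz _ (c.α_sq h _), map_mul, c.β_sq h]; rfl
  have hα : c.α z = 0 := (c.mem_center_iff h z).mp hz
  apply c.inj
  · rw [alpha_sigma_zero c h σ z hα, hα]
  · rw [← hBz z hα]
    exact HAB.B_id _ (beta_mem_K c h z hα)

end Abstract

/-- the group-theoretic statement for a group with coordinates -/
theorem center_le_of_index_two {R : Type*} [Group R] (S' : Subgroup R) (hidx : S'.index = 2)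
    (c : Coord F q ↥S') (h : Hyp F q) :
    (Subgroup.center ↥S').map S'.subtype ≤ Subgroup.center R := by
  rintro _ ⟨z, hz, rfl⟩
  rw [Subgroup.mem_center_iff]
  have hne : S' ≠ ⊤ := by
    intro h0
    rw [h0, Subgroup.index_top] at hidx
    omega
  obtain ⟨r, hr⟩ : ∃ r : R, r ∉ S' := by
    by_contra hcon
    push Not at hcon
    exact hne (eq_top_iff.mpr fun x _ => hcon x)
  have hN : S'.Normal := Subgroup.normal_of_index_eq_two hidx
  let σ : ↥S' →* ↥S' :=
    { toFun := fun x => ⟨r * x * r⁻¹, hN.conj_mem x x.2 r⟩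
      map_one' := by
        apply Subtype.ext
        simp
      map_mul' := by
        intro x y
        apply Subtype.ext
        simp only [Subgroup.coe_mul]
        group }
  have hr2 : r * r ∈ S' := Subgroup.mul_self_mem_of_index_two hidx r
  have hσ2 : ∀ x, σ (σ x) = (⟨r * r, hr2⟩ : ↥S') * x * (⟨r * r, hr2⟩ : ↥S')⁻¹ := by
    intro x
    apply Subtype.ext
    show r * (r * (x : R) * r⁻¹) * r⁻¹ = (r * r) * (x : R) * (r * r)⁻¹
    group
  have hσz : σ z = z := sigma_fix_center c h σ ⟨_, hσ2⟩ z hz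
  have hrz : r * (z : R) = (z : R) * r := by
    have h1 : r * (z : R) * r⁻¹ = (z : R) := congrArg Subtype.val hσz
    calc r * (z : R) = (r * (z : R) * r⁻¹) * r := by group
      _ = (z : R) * r := by rw [h1]
  intro g
  show g * (z : R) = (z : R) * g
  by_cases hg : g ∈ S'
  · have := Subgroup.mem_center_iff.mp hz ⟨g, hg⟩
    exact congrArg Subtype.val this
  · have hs : r⁻¹ * g ∈ S' :=
      (Subgroup.mul_mem_iff_of_index_two hidx).mpr
        ⟨fun hh => absurd (inv_mem_iff.mp hh) hr, fun hh => absurd hh hg⟩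
    have hsz := congrArg Subtype.val (Subgroup.mem_center_iff.mp hz ⟨r⁻¹ * g, hs⟩)
    simp only [Subgroup.coe_mul] at hsz
    have hg' : g = r * (r⁻¹ * g) := by group
    calc g * (z : R) = r * ((r⁻¹ * g) * (z : R)) := by rw [← mul_assoc, ← hg']
      _ = r * ((z : R) * (r⁻¹ * g)) := by rw [hsz]
      _ = (r * (z : R)) * (r⁻¹ * g) := by rw [mul_assoc]
      _ = (z : R) * (r * (r⁻¹ * g)) := by rw [hrz, mul_assoc]
      _ = (z : R) * g := by rw [← hg']

section Sylow

open Cfsg.Agent.helper11.Unitary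

theorem card_SU3 (h : Hyp F q) :
    (q + 1) * Nat.card (SU 3 F q) = q ^ 3 * ((q + 1) * (q ^ 2 - 1) * (q ^ 3 + 1)) := by
  rw [← card_GU_eq h.card 2, card_GU h.card 3]
  simp [Finset.prod_range_succ]

theorem not_dvd_index_Q0 (h : Hyp F q) {n : ℕ} (hqn : q = 2 ^ n) : ¬ 2 ∣ (Q0 h).index := by
  intro hdvd
  have h1 : Nat.card (Q0 h) * (Q0 h).index = Nat.card (SU 3 F q) := Subgroup.card_mul_index _
  rw [card_Q0 h] at h1
  have h2 := card_SU3 h
  rw [← h1] at h2
  have hq2 := h.two_le
  have hpos : 0 < q ^ 3 * (q + 1) := by positivity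
  have h3 : (Q0 h).index = (q ^ 2 - 1) * (q ^ 3 + 1) := by
    apply Nat.eq_of_mul_eq_mul_left hpos
    generalize q ^ 2 - 1 = A at *
    generalize (Q0 h).index = I at *
    linarith [h2]
  have hn : n ≠ 0 := by
    rintro rfl
    simp at hqn
    omega
  have hqe : Even q := by
    rw [hqn]
    exact (Nat.even_pow.mpr ⟨even_two, hn⟩)
  have ho1 : Odd (q ^ 2 - 1) := by
    apply Nat.Even.sub_odd (Nat.one_le_pow _ _ (by omega)) _ odd_one
    exact Nat.even_pow.mpr ⟨hqe, by norm_num⟩
  have ho2 : Odd (q ^ 3 + 1) := by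
    apply Even.add_one
    exact Nat.even_pow.mpr ⟨hqe, by norm_num⟩
  have ho : Odd ((q ^ 2 - 1) * (q ^ 3 + 1)) := ho1.mul ho2
  rw [← h3] at ho
  exact (Nat.not_even_iff_odd.mpr ho) (even_iff_two_dvd.mpr hdvd)

/-- every Sylow 2-subgroup of `SU_3(2^n)` carries coordinates -/
theorem exists_coord_SU (h : Hyp F q) {n : ℕ} (hqn : q = 2 ^ n) (S : Sylow 2 (SU 3 F q)) :
    Nonempty (Coord F q ↥(S : Subgroup (SU 3 F q))) := by
  have hp : IsPGroup 2 (Q0 h) := by
    apply IsPGroup.of_card (n := n * 3)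
    rw [card_Q0 h, hqn, pow_mul]
  let S1 : Sylow 2 (SU 3 F q) := hp.toSylow (not_dvd_index_Q0 h hqn)
  have e1 : ↥(S : Subgroup (SU 3 F q)) ≃* ↥(S1 : Subgroup (SU 3 F q)) := Sylow.equiv S S1
  have e2 : ↥(S1 : Subgroup (SU 3 F q)) ≃* ↥(Q0 h) := MulEquiv.subgroupCongr rfl
  exact ⟨(coordQ0 h).ofEquiv (e1.trans e2)⟩

end Sylow

/-- the statement of S3315 -/
theorem main_thm {R : Type*} [Group R] (n : ℕ) (hn : 2 ≤ n)
    (hF : Fintype.card F = 4 ^ n)
    (P : Sylow 2 ↥(Cfsg.SU 3 F (2 ^ n))) (S' : Subgroup R)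
    (hS : Nonempty (↥S' ≃* ↥(P : Subgroup ↥(Cfsg.SU 3 F (2 ^ n)))))
    (hidx : S'.index = 2) :
    (Subgroup.center ↥S').map S'.subtype ≤ Subgroup.center R := by
  have hF' : Fintype.card F = (2 ^ n) ^ 2 := by
    rw [hF, ← pow_mul, mul_comm, pow_mul]; norm_num
  have h : Hyp F (2 ^ n) := Hyp.of_pow hF'
  obtain ⟨e⟩ := hS
  obtain ⟨cP⟩ := exists_coord_SU h rfl P
  exact center_le_of_index_two S' hidx (cP.ofEquiv e) h

end Cfsg.Agent.helper11.SU3Z
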