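import Mathlib

set_option autoImplicit false

namespace Cfsg.Agent.helper11.SemiGraph

open SemidirectProduct

variable {S N : Type*} [Group S] [Group N]

theorem comm_of_sq (hN2 : ∀ n : N, n * n = 1) (a b : N) : a * b = b * a := by
  have h1 : a * b * (a * b) = 1 := hN2 _
  have ha : a⁻¹ = a := inv_eq_of_mul_eq_one_left (hN2 a)
  have hb : b⁻¹ = b := inv_eq_of_mul_eq_one_left (hN2 b)
  calc a * b = a * b * (a * b) * (b⁻¹ * a⁻¹) := by group
    _ = b * a := by rw [h1, one_mul, ha, hb]

theorem main [Finite S] [Finite N] (φ : S →* MulAut N) (hN2 : ∀ n : N, n * n = 1)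
    (hfix : ∀ (x : S) (p : ℕ), p.Prime → p ≠ 2 → orderOf x = p → ∀ n : N, φ x n = n → n = 1)
    (h2 : 2 ∣ Nat.card S) :
    (∀ r : ℕ, r.Prime → (r ∣ Nat.card S ↔ r ∣ Nat.card (N ⋊[φ] S))) ∧
    ∀ r s : ℕ, r.Prime → s.Prime → r ≠ s →
      ((∃ x : S, orderOf x = r * s) ↔ ∃ y : N ⋊[φ] S, orderOf y = r * s) := by
  have hcard : Nat.card (N ⋊[φ] S) = Nat.card N * Nat.card S := by
    rw [Nat.card_congr SemidirectProduct.equivProd, Nat.card_prod]
  haveI : Fact (Nat.Prime 2) := ⟨Nat.prime_two⟩
  have hNp : IsPGroup 2 N := by
    intro n
    exact ⟨1, by rw [pow_one, pow_two]; exact hN2 n⟩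
  obtain ⟨e, he⟩ := IsPGroup.iff_card.mp hNp
  constructor
  · intro r hr
    rw [hcard]
    constructor
    · intro h
      exact Dvd.dvd.mul_left h _
    · intro h
      rcases (Nat.Prime.dvd_mul hr).mp h with h | h
      · rw [he] at h
        have := hr.dvd_of_dvd_pow h
        rw [(Nat.prime_dvd_prime_iff_eq hr Nat.prime_two).mp this]
        exact h2
      · exact h
  · intro r s hr hs hrs
    constructor
    · rintro ⟨x, hx⟩
      exact ⟨inr x, by rw [orderOf_injective inr inr_injective, hx]⟩
    · rintro ⟨y, hy⟩
      have hpos : 0 < r * s := Nat.mul_pos hr.pos hs.pos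
      have hd : orderOf y.right ∣ r * s := by
        rw [← hy]
        have := orderOf_map_dvd (rightHom : N ⋊[φ] S →* S) y
        exact this
      set d := orderOf y.right with hd_def
      have hdpos : 0 < d := Nat.pos_of_dvd_of_pos hd hpos
      -- `y ^ d` lies in `N`
      have hyd : (y ^ d).right = 1 := by
        have : (rightHom : N ⋊[φ] S →* S) (y ^ d) = 1 := by
          rw [map_pow]
          exact pow_orderOf_eq_one _
        exact this
      have hyd' : y ^ d = inl (y ^ d).left := by
        ext
        · rfl
        · rw [hyd]; rfl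
      have h2d : y ^ (d * 2) = 1 := by
        rw [pow_mul, hyd', pow_two, ← map_mul, hN2, map_one]
      have hdvd : r * s ∣ d * 2 := by
        rw [← hy]
        exact orderOf_dvd_of_pow_eq_one h2d
      by_cases hdeq : d = r * s
      · exact ⟨y.right, hdeq⟩
      · exfalso
        have hlt : d < r * s := lt_of_le_of_ne (Nat.le_of_dvd hpos hd) hdeq
        obtain ⟨c, hc⟩ := hd
        have hc2 : 2 ≤ c := by
          rcases c with _ | _ | c
          · omega
          · omega
          · omega
        have hc_dvd : c ∣ 2 := by
          rw [hc] at hdvd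
          exact (Nat.mul_dvd_mul_iff_left hdpos).mp hdvd
        have hc2' : c = 2 := Nat.le_antisymm (Nat.le_of_dvd (by norm_num) hc_dvd) hc2
        have heq : d * 2 = r * s := by rw [hc, hc2']
        -- one of the primes is 2, `d` is the other
        have hdprime : d.Prime ∧ d ≠ 2 := by
          have h2rs : 2 ∣ r * s := Dvd.intro_left _ heq
          rcases (Nat.Prime.dvd_mul Nat.prime_two).mp h2rs with h | h
          · have hr2 : r = 2 := ((Nat.prime_dvd_prime_iff_eq Nat.prime_two hr).mp h).symm
            subst hr2
            have : d = s := by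
              have : d * 2 = s * 2 := by rw [heq, mul_comm]
              exact Nat.eq_of_mul_eq_mul_right (by norm_num) this
            rw [this]
            exact ⟨hs, fun h => hrs h.symm⟩
          · have hs2 : s = 2 := ((Nat.prime_dvd_prime_iff_eq Nat.prime_two hs).mp h).symm
            subst hs2
            have : d = r := Nat.eq_of_mul_eq_mul_right (by norm_num) heq
            rw [this]
            exact ⟨hr, hrs⟩
        have hn1 : (y ^ d).left ≠ 1 := by
          intro h
          rw [h, map_one] at hyd'
          have := orderOf_dvd_of_pow_eq_one hyd'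
          rw [hy] at this
          exact absurd (Nat.le_of_dvd hdpos this) (not_le.mpr hlt)
        apply hn1
        apply hfix y.right d hdprime.1 hdprime.2 hd_def.symm
        -- `y` commutes with `y ^ d`
        have hcomm : y * y ^ d = y ^ d * y := by
          rw [← pow_succ', ← pow_succ]
        have h3 := congrArg SemidirectProduct.left hcomm
        rw [SemidirectProduct.mul_left, SemidirectProduct.mul_left, hyd, map_one, MulAut.one_apply,
          comm_of_sq hN2 (y ^ d).left y.left] at h3
        exact mul_left_cancel h3

end Cfsg.Agent.helper11.SemiGraph
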