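import Mathlib
import Cfsg.Agent.Lib_helper11_SolI

set_option autoImplicit false
set_option linter.unusedSectionVars false
set_option linter.unusedSimpArgs false
set_option linter.unusedVariables false
set_option linter.style.haveILetI false
set_option maxHeartbeats 1000000

/-!
# Solubilizers in `PSL₂(3^p)`: counting, part 2
-/

namespace Cfsg.Agent.helper11.Sol3

open Matrix Cfsg.Agent.helper11.SL2U Cfsg.Agent.helper4.Dn Cfsg.Agent.helper11.CA

variable {F : Type*} [Field F] [Fintype F] {p : ℕ}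

theorem count1 (h : Hyp F p) :
    Nat.card {Y : SpecialLinearGroup (Fin 2) F //
      (Y.1 0 0 = Y.1 1 1 ∧ Y.1 1 0 = -Y.1 0 1) ∨ tr Y = 0 ∨ Y.1 1 0 - Y.1 0 1 = 0 ∨
      (tr Y ^ 2 = 1 ∧ (Y.1 1 0 - Y.1 0 1) ^ 2 = 1)} =
      2 * Fintype.card F * (Fintype.card F + 1) := by
  classical
  have h2 := h.two_ne
  obtain ⟨A₀, hA₀⟩ : ∃ A : Set (SpecialLinearGroup (Fin 2) F),
      A = {Y | Y.1 0 0 = Y.1 1 1 ∧ Y.1 1 0 = -Y.1 0 1} := ⟨_, rfl⟩
  obtain ⟨A₁, hA₁⟩ : ∃ A : Set (SpecialLinearGroup (Fin 2) F), A = {Y | tr Y = 0} := ⟨_, rfl⟩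
  obtain ⟨A₂, hA₂⟩ : ∃ A : Set (SpecialLinearGroup (Fin 2) F),
      A = {Y | Y.1 1 0 - Y.1 0 1 = 0} := ⟨_, rfl⟩
  obtain ⟨A₃, hA₃⟩ : ∃ A : Set (SpecialLinearGroup (Fin 2) F),
      A = {Y | tr Y ^ 2 = 1 ∧ (Y.1 1 0 - Y.1 0 1) ^ 2 = 1} := ⟨_, rfl⟩
  have c0 : A₀.ncard = Fintype.card F + 1 := by
    rw [hA₀, ← Nat.card_coe_set_eq]; exact card_E0 h
  have c1 : A₁.ncard = Fintype.card F * (Fintype.card F - 1) := by
    rw [hA₁, ← Nat.card_coe_set_eq]; exact card_E1 h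
  have c2 : A₂.ncard = Fintype.card F * (Fintype.card F - 1) := by
    rw [hA₂, ← Nat.card_coe_set_eq]; exact card_E2 h
  have c3 : A₃.ncard = 4 * (Fintype.card F + 1) := by
    rw [hA₃, ← Nat.card_coe_set_eq]; exact card_E3 h
  have c12 : (A₁ ∩ A₂).ncard = Fintype.card F + 1 := by
    have : A₁ ∩ A₂ = {Y | tr Y = 0 ∧ Y.1 1 0 - Y.1 0 1 = 0} := by rw [hA₁, hA₂]; rfl
    rw [this, ← Nat.card_coe_set_eq]; exact card_E12 h
  have c04 : (A₀ ∩ (A₁ ∪ A₂)).ncard = 4 := by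
    have : A₀ ∩ (A₁ ∪ A₂) = {Y | (Y.1 0 0 = Y.1 1 1 ∧ Y.1 1 0 = -Y.1 0 1) ∧
        (tr Y = 0 ∨ Y.1 1 0 - Y.1 0 1 = 0)} := by rw [hA₀, hA₁, hA₂]; rfl
    rw [this, ← Nat.card_coe_set_eq]; exact card_E04 h
  have hdisj : Disjoint (A₀ ∪ (A₁ ∪ A₂)) A₃ := by
    rw [Set.disjoint_left]
    intro Y hY hY3
    rw [hA₃] at hY3
    obtain ⟨hs, hu⟩ := hY3
    rcases hY with hY | hY | hY
    · rw [hA₀] at hY
      obtain ⟨e1, e2⟩ := hY
      have hd := e_det Y
      unfold tr at hs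
      rw [e2] at hu
      rw [← e1] at hs hd
      rw [e2] at hd
      apply h2
      have h3 := h.three
      have : (2 : F) * 2 = 0 := by
        linear_combination 2 * hs + 2 * hu - 8 * hd
      exact mul_self_eq_zero.mp this
    · rw [hA₁] at hY
      have : tr Y = 0 := hY
      rw [this] at hs
      simp at hs
    · rw [hA₂] at hY
      have : Y.1 1 0 - Y.1 0 1 = 0 := hY
      rw [this] at hu
      simp at hu
  have hunion : {Y : SpecialLinearGroup (Fin 2) F |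
      (Y.1 0 0 = Y.1 1 1 ∧ Y.1 1 0 = -Y.1 0 1) ∨ tr Y = 0 ∨ Y.1 1 0 - Y.1 0 1 = 0 ∨
      (tr Y ^ 2 = 1 ∧ (Y.1 1 0 - Y.1 0 1) ^ 2 = 1)} = (A₀ ∪ (A₁ ∪ A₂)) ∪ A₃ := by
    ext Y
    rw [hA₀, hA₁, hA₂, hA₃]
    simp only [Set.mem_ofPred_eq, Set.mem_union]
    tauto
  have hcard := Nat.card_coe_set_eq {Y : SpecialLinearGroup (Fin 2) F |
      (Y.1 0 0 = Y.1 1 1 ∧ Y.1 1 0 = -Y.1 0 1) ∨ tr Y = 0 ∨ Y.1 1 0 - Y.1 0 1 = 0 ∨
      (tr Y ^ 2 = 1 ∧ (Y.1 1 0 - Y.1 0 1) ^ 2 = 1)}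
  have hcard' : Nat.card {Y : SpecialLinearGroup (Fin 2) F //
      (Y.1 0 0 = Y.1 1 1 ∧ Y.1 1 0 = -Y.1 0 1) ∨ tr Y = 0 ∨ Y.1 1 0 - Y.1 0 1 = 0 ∨
      (tr Y ^ 2 = 1 ∧ (Y.1 1 0 - Y.1 0 1) ^ 2 = 1)} = ((A₀ ∪ (A₁ ∪ A₂)) ∪ A₃).ncard := by
    rw [← hunion]; exact hcard
  rw [hcard', Set.ncard_union_eq hdisj (Set.toFinite _) (Set.toFinite _), c3]
  have hu12 := Set.ncard_union_add_ncard_inter A₁ A₂ (Set.toFinite _) (Set.toFinite _)
  have hu012 := Set.ncard_union_add_ncard_inter A₀ (A₁ ∪ A₂) (Set.toFinite _) (Set.toFinite _)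
  rw [c12, c1, c2] at hu12
  rw [c04, c0] at hu012
  have hq := h.ge
  obtain ⟨k, hk⟩ : ∃ k, Fintype.card F = k + 1 := ⟨Fintype.card F - 1, by omega⟩
  have hid : 2 * Fintype.card F * (Fintype.card F + 1) =
      2 * (Fintype.card F * (Fintype.card F - 1)) + 4 * Fintype.card F := by
    rw [hk]
    have : k + 1 - 1 = k := by omega
    rw [this]; ring
  rw [hid]
  omega

/-! ### split semisimple elements -/

theorem card_upper' : Nat.card {Y : SpecialLinearGroup (Fin 2) F // Y.1 1 0 = 0}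
    = Fintype.card F * (Fintype.card F - 1) := by
  rw [← card_Bsub]
  exact Nat.card_congr (Equiv.subtypeEquivRight (fun g => Iff.rfl))

theorem conj_Jm_10 (g : SpecialLinearGroup (Fin 2) F) : (Jm * g * Jm⁻¹).1 1 0 = -g.1 0 1 := by
  simp only [e_mul_00, e_mul_01, e_mul_10, e_mul_11, e_inv_00, e_inv_01, e_inv_10, e_inv_11,
    Jm_00, Jm_01, Jm_10, Jm_11]
  ring

theorem card_lower' : Nat.card {Y : SpecialLinearGroup (Fin 2) F // Y.1 0 1 = 0}
    = Fintype.card F * (Fintype.card F - 1) := by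
  rw [← card_upper']
  exact Nat.card_congr (Equiv.subtypeEquiv (MulAut.conj Jm).toEquiv (fun g => by
    show g.1 0 1 = 0 ↔ (Jm * g * Jm⁻¹).1 1 0 = 0
    rw [conj_Jm_10, neg_eq_zero]))

theorem card_diag' : Nat.card {g : SpecialLinearGroup (Fin 2) F // g.1 1 0 = 0 ∧ g.1 0 1 = 0}
    = Fintype.card F - 1 := by
  classical
  have e : {g : SpecialLinearGroup (Fin 2) F // g.1 1 0 = 0 ∧ g.1 0 1 = 0} ≃ Fˣ :=
    { toFun := fun g => Units.mk0 (g.1.1 0 0) (by
        intro h0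
        have hdet := g.1.2
        rw [Matrix.det_fin_two, h0, g.2.1] at hdet
        simp at hdet)
      invFun := fun u => ⟨dS (u : F) u.ne_zero, by simp [coe_dS]⟩
      left_inv := by
        intro g
        apply Subtype.ext
        have hdet := e_det g.1
        rw [g.2.1, mul_zero, sub_zero] at hdet
        apply e_ext
        · rw [dS_00]; rfl
        · rw [dS_01, g.2.2]
        · rw [dS_10, g.2.1]
        · rw [dS_11]
          exact (eq_inv_of_mul_eq_one_right hdet).symm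
      right_inv := by
        intro u
        apply Units.ext
        simp [coe_dS] }
  rw [Nat.card_congr e, Nat.card_eq_fintype_card, Fintype.card_units]

theorem card_antidiag' :
    Nat.card {g : SpecialLinearGroup (Fin 2) F // g.1 0 0 = 0 ∧ g.1 1 1 = 0}
    = Fintype.card F - 1 := by
  rw [← card_diag']
  exact Nat.card_congr (Equiv.subtypeEquiv (Equiv.mulRight Jm) (fun g => by
    show _ ↔ (g * Jm).1 1 0 = 0 ∧ (g * Jm).1 0 1 = 0
    rw [e_mul_10, e_mul_01, Jm_00, Jm_01, Jm_10, Jm_11]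
    constructor
    · rintro ⟨h1, h2⟩
      rw [h1, h2]; simp
    · rintro ⟨h1, h2⟩
      constructor
      · linear_combination h2
      · linear_combination -h1))

theorem count3 :
    Nat.card {y : SpecialLinearGroup (Fin 2) F //
      y.1 1 0 = 0 ∨ y.1 0 1 = 0 ∨ (y.1 0 0 = 0 ∧ y.1 1 1 = 0)}
    = 2 * Fintype.card F * (Fintype.card F - 1) := by
  classical
  obtain ⟨U, hU⟩ : ∃ U : Set (SpecialLinearGroup (Fin 2) F), U = {y | y.1 1 0 = 0} := ⟨_, rfl⟩
  obtain ⟨Lw, hLw⟩ : ∃ Lw : Set (SpecialLinearGroup (Fin 2) F), Lw = {y | y.1 0 1 = 0} :=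
    ⟨_, rfl⟩
  obtain ⟨A, hA⟩ : ∃ A : Set (SpecialLinearGroup (Fin 2) F),
      A = {y | y.1 0 0 = 0 ∧ y.1 1 1 = 0} := ⟨_, rfl⟩
  have hUc : U.ncard = Fintype.card F * (Fintype.card F - 1) := by
    rw [hU, ← Nat.card_coe_set_eq]; exact card_upper'
  have hLc : Lw.ncard = Fintype.card F * (Fintype.card F - 1) := by
    rw [hLw, ← Nat.card_coe_set_eq]; exact card_lower'
  have hAc : A.ncard = Fintype.card F - 1 := by
    rw [hA, ← Nat.card_coe_set_eq]; exact card_antidiag'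
  have hULc : (U ∩ Lw).ncard = Fintype.card F - 1 := by
    have : U ∩ Lw = {y | y.1 1 0 = 0 ∧ y.1 0 1 = 0} := by
      rw [hU, hLw]; rfl
    rw [this, ← Nat.card_coe_set_eq]; exact card_diag'
  have hdisj : Disjoint (U ∪ Lw) A := by
    rw [Set.disjoint_left]
    rintro y hy hyA
    rw [hA] at hyA
    obtain ⟨h00, h11⟩ := hyA
    have hdet := y.2
    rw [Matrix.det_fin_two, h00, h11] at hdet
    rcases hy with hy | hy
    · rw [hU] at hy
      have : y.1 1 0 = 0 := hy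
      rw [this] at hdet; simp at hdet
    · rw [hLw] at hy
      have : y.1 0 1 = 0 := hy
      rw [this] at hdet; simp at hdet
  have hunion : {y : SpecialLinearGroup (Fin 2) F |
      y.1 1 0 = 0 ∨ y.1 0 1 = 0 ∨ (y.1 0 0 = 0 ∧ y.1 1 1 = 0)} = (U ∪ Lw) ∪ A := by
    ext y
    rw [hU, hLw, hA]
    simp only [Set.mem_ofPred_eq, Set.mem_union]
    rw [or_assoc]
  have hcard := Nat.card_coe_set_eq {y : SpecialLinearGroup (Fin 2) F |
      y.1 1 0 = 0 ∨ y.1 0 1 = 0 ∨ (y.1 0 0 = 0 ∧ y.1 1 1 = 0)}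
  have hcard' : Nat.card {y : SpecialLinearGroup (Fin 2) F //
      y.1 1 0 = 0 ∨ y.1 0 1 = 0 ∨ (y.1 0 0 = 0 ∧ y.1 1 1 = 0)} = ((U ∪ Lw) ∪ A).ncard := by
    rw [← hunion]; exact hcard
  rw [hcard', Set.ncard_union_eq hdisj (Set.toFinite _) (Set.toFinite _), hAc]
  have hui := Set.ncard_union_add_ncard_inter U Lw (Set.toFinite _) (Set.toFinite _)
  rw [hULc, hUc, hLc] at hui
  rw [hui]; ring

/-! ### elements of order three -/

theorem card_pm (h2 : (2 : F) ≠ 0) {β : F} (hβ : β ≠ 0) :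
    Nat.card {c : F // β * c = 1 ∨ β * c = -1} = 2 := by
  rw [← card_sq_one h2]
  apply Nat.card_congr
  refine
    { toFun := fun c => ⟨β * c.1, by rcases c.2 with h | h <;> rw [h] <;> ring⟩
      invFun := fun s => ⟨s.1 / β, by
        have : (s.1 - 1) * (s.1 + 1) = 0 := by linear_combination s.2
        rw [mul_div_cancel₀ _ hβ]
        rcases mul_eq_zero.mp this with h5 | h5
        · left; exact sub_eq_zero.mp h5
        · right; exact eq_neg_of_add_eq_zero_left h5⟩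
      left_inv := fun c => by
        apply Subtype.ext
        show β * c.1 / β = c.1
        rw [mul_div_cancel_left₀ _ hβ]
      right_inv := fun s => by
        apply Subtype.ext
        show β * (s.1 / β) = s.1
        rw [mul_div_cancel₀ _ hβ] }

theorem card_three (h : Hyp F p) : Nat.card {s : F // s = 0 ∨ s = 1 ∨ s = -1} = 3 := by
  have h2 := h.two_ne
  have : Nat.card {s : F // s = 0 ∨ s = 1 ∨ s = -1} = ({0, 1, -1} : Set F).ncard := by
    rw [← Nat.card_coe_set_eq]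
    rfl
  rw [this, Set.ncard_eq_three]
  refine ⟨0, 1, -1, zero_ne_one, ?_, ?_, rfl⟩
  · intro h5
    have : (1 : F) = 0 := by linear_combination h5
    exact one_ne_zero this
  · intro h5
    apply h2
    linear_combination h5

theorem card_E (h : Hyp F p) {β : F} (hβ : β ≠ 0) :
    Nat.card {Y : SpecialLinearGroup (Fin 2) F //
      (β * Y.1 1 0 = 1 ∨ β * Y.1 1 0 = -1) ∧ (tr Y = 0 ∨ tr Y = 1 ∨ tr Y = -1)}
      = 6 * Fintype.card F := by
  have hc0 : ∀ c : {c : F // β * c = 1 ∨ β * c = -1}, c.1 ≠ 0 := by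
    intro c h0
    rcases c.2 with h5 | h5 <;> rw [h0, mul_zero] at h5
    · exact zero_ne_one h5
    · have : (1 : F) = 0 := by linear_combination h5
      exact one_ne_zero this
  have e : {Y : SpecialLinearGroup (Fin 2) F //
      (β * Y.1 1 0 = 1 ∨ β * Y.1 1 0 = -1) ∧ (tr Y = 0 ∨ tr Y = 1 ∨ tr Y = -1)} ≃
      {c : F // β * c = 1 ∨ β * c = -1} × {s : F // s = 0 ∨ s = 1 ∨ s = -1} × F :=
    { toFun := fun Y => (⟨Y.1.1 1 0, Y.2.1⟩, ⟨tr Y.1, Y.2.2⟩, Y.1.1 0 0)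
      invFun := fun q => ⟨⟨!![q.2.2, (q.2.2 * (q.2.1.1 - q.2.2) - 1) / q.1.1; q.1.1,
          q.2.1.1 - q.2.2], by
          rw [Matrix.det_fin_two_of, div_mul_cancel₀ _ (hc0 q.1)]; ring⟩, by
          constructor
          · simpa using q.1.2
          · unfold tr
            simp only [Matrix.of_apply, Matrix.cons_val', Matrix.cons_val_zero, Matrix.cons_val_one,
              Matrix.cons_val_fin_one]
            have := q.2.1.2
            have e5 : q.2.2 + (q.2.1.1 - q.2.2) = q.2.1.1 := by ring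
            rw [e5]; exact this⟩
      left_inv := by
        intro Y
        apply Subtype.ext
        have hd := e_det Y.1
        have h10 : Y.1.1 1 0 ≠ 0 := hc0 ⟨Y.1.1 1 0, Y.2.1⟩
        apply e_ext <;> unfold tr <;> simp
        · rw [div_eq_iff h10]
          linear_combination hd
      right_inv := by
        intro q
        apply Prod.ext
        · apply Subtype.ext; simp
        · apply Prod.ext
          · apply Subtype.ext; unfold tr; simp
          · simp }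
  rw [Nat.card_congr e, Nat.card_prod, Nat.card_prod, card_pm h.two_ne hβ, card_three h,
    Nat.card_eq_fintype_card]
  ring

theorem count2 (h : Hyp F p) {β : F} (hβ : β ≠ 0) :
    Nat.card {Y : SpecialLinearGroup (Fin 2) F // Y.1 1 0 = 0 ∨
      ((β * Y.1 1 0 = 1 ∨ β * Y.1 1 0 = -1) ∧ (tr Y = 0 ∨ tr Y = 1 ∨ tr Y = -1))}
      = Fintype.card F * (Fintype.card F - 1) + 6 * Fintype.card F := by
  classical
  obtain ⟨U, hU⟩ : ∃ U : Set (SpecialLinearGroup (Fin 2) F), U = {y | y.1 1 0 = 0} := ⟨_, rfl⟩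
  obtain ⟨E, hE⟩ : ∃ E : Set (SpecialLinearGroup (Fin 2) F), E = {Y |
      (β * Y.1 1 0 = 1 ∨ β * Y.1 1 0 = -1) ∧ (tr Y = 0 ∨ tr Y = 1 ∨ tr Y = -1)} := ⟨_, rfl⟩
  have hUc : U.ncard = Fintype.card F * (Fintype.card F - 1) := by
    rw [hU, ← Nat.card_coe_set_eq]; exact card_upper'
  have hEc : E.ncard = 6 * Fintype.card F := by
    rw [hE, ← Nat.card_coe_set_eq]; exact card_E h hβ
  have hdisj : Disjoint U E := by
    rw [Set.disjoint_left]
    intro Y hY hYE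
    rw [hU] at hY
    rw [hE] at hYE
    have h0 : Y.1 1 0 = 0 := hY
    obtain ⟨h5, -⟩ := hYE
    rw [h0, mul_zero] at h5
    rcases h5 with h5 | h5
    · exact zero_ne_one h5
    · have : (1 : F) = 0 := by linear_combination h5
      exact one_ne_zero this
  have hcard := Nat.card_coe_set_eq {Y : SpecialLinearGroup (Fin 2) F | Y.1 1 0 = 0 ∨
      ((β * Y.1 1 0 = 1 ∨ β * Y.1 1 0 = -1) ∧ (tr Y = 0 ∨ tr Y = 1 ∨ tr Y = -1))}
  have hunion : {Y : SpecialLinearGroup (Fin 2) F | Y.1 1 0 = 0 ∨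
      ((β * Y.1 1 0 = 1 ∨ β * Y.1 1 0 = -1) ∧ (tr Y = 0 ∨ tr Y = 1 ∨ tr Y = -1))} = U ∪ E := by
    rw [hU, hE]; rfl
  have hcard' : Nat.card {Y : SpecialLinearGroup (Fin 2) F // Y.1 1 0 = 0 ∨
      ((β * Y.1 1 0 = 1 ∨ β * Y.1 1 0 = -1) ∧ (tr Y = 0 ∨ tr Y = 1 ∨ tr Y = -1))}
      = (U ∪ E).ncard := by
    rw [← hunion]; exact hcard
  rw [hcard', Set.ncard_union_eq hdisj (Set.toFinite _) (Set.toFinite _), hUc, hEc]

end Cfsg.Agent.helper11.Sol3
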