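import Mathlib
import Cfsg.Agent.Lib_helper11_SolJ

set_option autoImplicit false
set_option linter.unusedSectionVars false
set_option linter.unusedSimpArgs false
set_option linter.unusedVariables false
set_option linter.style.haveILetI false
set_option maxHeartbeats 1000000

/-!
# Solubilizers in `PSL₂(3^p)`: the four cases
-/

namespace Cfsg.Agent.helper11.Sol3

open Matrix Cfsg.Agent.helper11.SL2U Cfsg.Agent.helper4.Dn Cfsg.Agent.helper11.CA

variable {F : Type*} [Field F] [Fintype F] {p : ℕ}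

theorem sol_count (h : Hyp F p) (X : SpecialLinearGroup (Fin 2) F)
    (C : SpecialLinearGroup (Fin 2) F → Prop)
    (hC : ∀ Y, Subgroup.closure ({piF F X, piF F Y} :
      Set (Matrix.ProjectiveSpecialLinearGroup (Fin 2) F)) ≠ ⊤ ↔ C Y) :
    2 * Nat.card {y : Matrix.ProjectiveSpecialLinearGroup (Fin 2) F //
      Subgroup.closure ({piF F X, y} : Set (Matrix.ProjectiveSpecialLinearGroup (Fin 2) F)) ≠ ⊤}
      = Nat.card {Y // C Y} := by
  rw [← card_lift h.two_ne (fun y => Subgroup.closure ({piF F X, y} :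
      Set (Matrix.ProjectiveSpecialLinearGroup (Fin 2) F)) ≠ ⊤)]
  exact Nat.card_congr (Equiv.subtypeEquivRight hC)

theorem conj_count (x k : Matrix.ProjectiveSpecialLinearGroup (Fin 2) F) :
    Nat.card {y : Matrix.ProjectiveSpecialLinearGroup (Fin 2) F //
      Subgroup.closure ({x, y} : Set (Matrix.ProjectiveSpecialLinearGroup (Fin 2) F)) ≠ ⊤} =
    Nat.card {y : Matrix.ProjectiveSpecialLinearGroup (Fin 2) F //
      Subgroup.closure ({k * x * k⁻¹, y} :
        Set (Matrix.ProjectiveSpecialLinearGroup (Fin 2) F)) ≠ ⊤} :=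
  card_sol_conj k x

theorem tr_eq_trace (A : SpecialLinearGroup (Fin 2) F) :
    (A : Matrix (Fin 2) (Fin 2) F).trace = tr A := by
  rw [Matrix.trace_fin_two]; rfl

theorem cube_of_tr_neg_one (A : SpecialLinearGroup (Fin 2) F) (h : tr A = -1) :
    A * A * A = 1 := by
  obtain ⟨h00, h01, h10, h11⟩ := cube_entries A
  rw [h] at h00 h01 h10 h11
  apply e_ext
  · rw [h00, e_one_00]; ring
  · rw [h01, e_one_01]; ring
  · rw [h10, e_one_10]; ring
  · rw [h11, e_one_11]; ring

/-- involutions -/
theorem case1_card (h : Hyp F p) (x : Matrix.ProjectiveSpecialLinearGroup (Fin 2) F)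
    (hx : orderOf x = 2) :
    Nat.card {y : Matrix.ProjectiveSpecialLinearGroup (Fin 2) F //
      Subgroup.closure ({x, y} : Set (Matrix.ProjectiveSpecialLinearGroup (Fin 2) F)) ≠ ⊤} =
      Fintype.card F * (Fintype.card F + 1) := by
  have h2 := h.two_ne
  obtain ⟨X₀, rfl⟩ := piF_surjective x
  have hx2 : piF F X₀ * piF F X₀ = 1 := by
    have := pow_orderOf_eq_one (piF F X₀)
    rw [hx, pow_two] at this
    exact this
  have hx1 : piF F X₀ ≠ 1 := by
    intro h1
    rw [h1, orderOf_one] at hx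
    omega
  have htr : tr X₀ = 0 := by
    rcases sq_lemma h2 X₀ ((pi_sq_iff X₀).mp hx2) with h5 | h5
    · exact absurd ((piF_eq_one_iff X₀).mpr h5) hx1
    · exact h5
  have hconj : IsConj X₀ Jm := by
    apply Cfsg.Agent.helper12.sl2_isConj_of_disc_ne (Nat.odd_iff.mp h.odd)
    · rw [tr_eq_trace, tr_eq_trace, htr]
      unfold tr; rw [Jm_00, Jm_11, add_zero]
    · rw [tr_eq_trace, htr]
      intro h5
      apply h2
      have : (2 : F) * 2 = 0 := by linear_combination -h5
      exact mul_self_eq_zero.mp this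
  obtain ⟨k, hk⟩ := isConj_iff.mp hconj
  rw [conj_count _ (piF F k), ← map_inv, ← map_mul, ← map_mul, hk]
  have h5 := sol_count h Jm _ (fun Y => ⟨case1_imp h Y, case1_of h Y⟩)
  rw [count1 h] at h5
  have : 2 * Fintype.card F * (Fintype.card F + 1) = 2 * (Fintype.card F * (Fintype.card F + 1)) := by
    ring
  rw [this] at h5
  exact Nat.eq_of_mul_eq_mul_left (by norm_num) h5

/-- elements of order three -/
theorem case2_card (h : Hyp F p) (x : Matrix.ProjectiveSpecialLinearGroup (Fin 2) F)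
    (hx : orderOf x = 3) :
    2 * Nat.card {y : Matrix.ProjectiveSpecialLinearGroup (Fin 2) F //
      Subgroup.closure ({x, y} : Set (Matrix.ProjectiveSpecialLinearGroup (Fin 2) F)) ≠ ⊤} =
      Fintype.card F * (Fintype.card F + 5) := by
  have h2 := h.two_ne
  have h3 := h.three
  haveI := h.charP
  haveI : Fact (Nat.Prime 3) := ⟨Nat.prime_three⟩
  obtain ⟨X₁, rfl⟩ := piF_surjective x
  have hx3 : piF F X₁ ^ 3 = 1 := by
    have := pow_orderOf_eq_one (piF F X₁)
    rw [hx] at this
    exact this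
  have hx1 : piF F X₁ ≠ 1 := by
    intro h1
    rw [h1, orderOf_one] at hx
    omega
  -- normalise the sign
  obtain ⟨X₀, hX₀, htr⟩ : ∃ X₀, piF F X₀ = piF F X₁ ∧ tr X₀ = -1 := by
    rcases cube_lemma h2 X₁ ((pi_cube_iff X₁).mp hx3) with h5 | h5
    · exact absurd ((piF_eq_one_iff X₁).mpr h5) hx1
    · have : (tr X₁ - 1) * (tr X₁ + 1) = 0 := by linear_combination h5
      rcases mul_eq_zero.mp this with h6 | h6
      · refine ⟨-X₁, piF_neg X₁, ?_⟩
        unfold tr at h6 ⊢
        rw [e_neg, e_neg]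
        linear_combination -h6
      · exact ⟨X₁, rfl, eq_neg_of_add_eq_zero_left h6⟩
  rw [← hX₀] at hx1 ⊢
  have hcube : X₀ ^ 3 = 1 := by
    rw [pow_succ, pow_two]; exact cube_of_tr_neg_one X₀ htr
  have hX₀1 : X₀ ≠ 1 := by
    intro h1
    apply hx1
    rw [h1, map_one]
  have hord : orderOf X₀ = 3 := orderOf_eq_prime hcube hX₀1
  obtain ⟨β, hβ, hconj⟩ := Cfsg.Agent.helper12.sl2_unipotent_conj_upper 3 hord
  obtain ⟨k, hk⟩ := isConj_iff.mp hconj
  have hk' : k * X₀ * k⁻¹ = uS β := by
    rw [hk]; rfl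
  rw [conj_count _ (piF F k), ← map_inv, ← map_mul, ← map_mul, hk']
  have h5 := sol_count h (uS β) _ (fun Y => ⟨case2_imp h hβ Y, case2_of h hβ Y⟩)
  rw [count2 h hβ] at h5
  rw [h5]
  have hq := h.ge
  obtain ⟨j, hj⟩ : ∃ j, Fintype.card F = j + 1 := ⟨Fintype.card F - 1, by omega⟩
  rw [hj]
  have : j + 1 - 1 = j := by omega
  rw [this]; ring

theorem orderOf_dvd_two_absurd {G : Type*} [Group G] {x : G} (hx1 : x ≠ 1) (hx2 : orderOf x ≠ 2)
    (h : orderOf x ∣ 2) : False := by
  rcases (Nat.dvd_prime Nat.prime_two).mp h with h5 | h5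
  · exact hx1 (orderOf_eq_one_iff.mp h5)
  · exact hx2 h5

theorem three_not_dvd_sub (h : Hyp F p) : ¬ 3 ∣ Fintype.card F - 1 := by
  intro h5
  have h6 : 3 ∣ Fintype.card F := by
    rw [h.2.2]; exact dvd_pow_self 3 h.1.ne_zero
  have hq := h.ge
  omega

theorem three_not_dvd_add (h : Hyp F p) : ¬ 3 ∣ Fintype.card F + 1 := by
  intro h5
  have h6 : 3 ∣ Fintype.card F := by
    rw [h.2.2]; exact dvd_pow_self 3 h.1.ne_zero
  omega

/-- the centralizer order in the nonsplit case -/
theorem two_mul_card_centralizer (h : Hyp F p) (X₀ : SpecialLinearGroup (Fin 2) F)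
    (hidx : (Subgroup.centralizer ({piF F X₀} :
      Set (Matrix.ProjectiveSpecialLinearGroup (Fin 2) F))).index =
      Fintype.card F * (Fintype.card F - 1)) :
    2 * Nat.card (Subgroup.centralizer ({piF F X₀} :
      Set (Matrix.ProjectiveSpecialLinearGroup (Fin 2) F))) = Fintype.card F + 1 := by
  have h1 := Subgroup.index_mul_card (Subgroup.centralizer ({piF F X₀} :
      Set (Matrix.ProjectiveSpecialLinearGroup (Fin 2) F)))
  have hG := h.card_G
  rw [hidx] at h1
  have hq := h.ge
  obtain ⟨j, hj⟩ : ∃ j, Fintype.card F = j + 1 := ⟨Fintype.card F - 1, by omega⟩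
  have hsq : Fintype.card F ^ 2 - 1 = (Fintype.card F - 1) * (Fintype.card F + 1) := by
    rw [hj]
    have : j + 1 - 1 = j := by omega
    rw [this]
    have : (j + 1) ^ 2 = j * (j + 1 + 1) + 1 := by ring
    omega
  rw [← h1, hsq] at hG
  have hpos : 0 < Fintype.card F * (Fintype.card F - 1) := by
    apply Nat.mul_pos <;> omega
  apply Nat.eq_of_mul_eq_mul_left hpos
  have e5 : Fintype.card F * (Fintype.card F - 1) * (2 * Nat.card (Subgroup.centralizer
      ({piF F X₀} : Set (Matrix.ProjectiveSpecialLinearGroup (Fin 2) F)))) =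
      2 * (Fintype.card F * (Fintype.card F - 1) * Nat.card (Subgroup.centralizer
      ({piF F X₀} : Set (Matrix.ProjectiveSpecialLinearGroup (Fin 2) F)))) := by ring
  rw [e5, hG]; ring

theorem card_centralizer_split (h : Hyp F p) (X₀ : SpecialLinearGroup (Fin 2) F)
    (hidx : (Subgroup.centralizer ({piF F X₀} :
      Set (Matrix.ProjectiveSpecialLinearGroup (Fin 2) F))).index =
      Fintype.card F * (Fintype.card F + 1)) :
    2 * Nat.card (Subgroup.centralizer ({piF F X₀} :
      Set (Matrix.ProjectiveSpecialLinearGroup (Fin 2) F))) = Fintype.card F - 1 := by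
  have h1 := Subgroup.index_mul_card (Subgroup.centralizer ({piF F X₀} :
      Set (Matrix.ProjectiveSpecialLinearGroup (Fin 2) F)))
  have hG := h.card_G
  rw [hidx] at h1
  have hq := h.ge
  obtain ⟨j, hj⟩ : ∃ j, Fintype.card F = j + 1 := ⟨Fintype.card F - 1, by omega⟩
  have hsq : Fintype.card F ^ 2 - 1 = (Fintype.card F + 1) * (Fintype.card F - 1) := by
    rw [hj]
    have : j + 1 - 1 = j := by omega
    rw [this]
    have : (j + 1) ^ 2 = (j + 1 + 1) * j + 1 := by ring
    omega
  rw [← h1, hsq] at hG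
  have hpos : 0 < Fintype.card F * (Fintype.card F + 1) := by
    apply Nat.mul_pos <;> omega
  apply Nat.eq_of_mul_eq_mul_left hpos
  have e5 : Fintype.card F * (Fintype.card F + 1) * (2 * Nat.card (Subgroup.centralizer
      ({piF F X₀} : Set (Matrix.ProjectiveSpecialLinearGroup (Fin 2) F)))) =
      2 * (Fintype.card F * (Fintype.card F + 1) * Nat.card (Subgroup.centralizer
      ({piF F X₀} : Set (Matrix.ProjectiveSpecialLinearGroup (Fin 2) F)))) := by ring
  rw [e5, hG]; ring

theorem orderOf_dvd_card_centralizer {G : Type*} [Group G] [Finite G] (x : G) :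
    orderOf x ∣ Nat.card (Subgroup.centralizer ({x} : Set G)) := by
  have hx : x ∈ Subgroup.centralizer ({x} : Set G) := by
    rw [Subgroup.mem_centralizer_singleton_iff]
  have := orderOf_dvd_natCard (⟨x, hx⟩ : Subgroup.centralizer ({x} : Set G))
  rwa [Subgroup.orderOf_mk] at this

end Cfsg.Agent.helper11.Sol3
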