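import Mathlib
import Cfsg.Agent.Lib_helper11_SolK

set_option autoImplicit false
set_option linter.unusedSectionVars false
set_option linter.unusedSimpArgs false
set_option linter.unusedVariables false
set_option linter.style.haveILetI false
set_option maxHeartbeats 1000000

/-!
# Solubilizers in `PSL₂(3^p)`: semisimple elements
-/

namespace Cfsg.Agent.helper11.Sol3

open Matrix Cfsg.Agent.helper11.SL2U Cfsg.Agent.helper4.Dn Cfsg.Agent.helper11.CA

variable {F : Type*} [Field F] [Fintype F] {p : ℕ}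

theorem four_eq_one (h : Hyp F p) : (4 : F) = 1 := by linear_combination h.three

/-- common type analysis: a semisimple element of order at least three -/
theorem type_analysis (h : Hyp F p) (X₀ : SpecialLinearGroup (Fin 2) F)
    (hx1 : piF F X₀ ≠ 1) (hx2 : orderOf (piF F X₀) ≠ 2) (hx3 : ¬ orderOf (piF F X₀) ∣ 3) :
    tr X₀ ^ 2 ≠ 1 ∧ tr X₀ ≠ 0 := by
  constructor
  · intro ht1
    apply hx3
    apply orderOf_dvd_of_pow_eq_one
    rw [pi_cube_iff]
    exact cube_of_tr h.three X₀ ht1
  · intro ht0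
    apply orderOf_dvd_two_absurd hx1 hx2
    apply orderOf_dvd_of_pow_eq_one
    rw [pow_two, pi_sq_iff]
    right; exact sq_of_tr X₀ ht0

theorem not_dvd_three_of_sub (h : Hyp F p) {x : Matrix.ProjectiveSpecialLinearGroup (Fin 2) F}
    (hx1 : x ≠ 1) (hd : orderOf x ∣ Fintype.card F - 1) : ¬ orderOf x ∣ 3 := by
  intro h3
  rcases (Nat.dvd_prime Nat.prime_three).mp h3 with h5 | h5
  · exact hx1 (orderOf_eq_one_iff.mp h5)
  · rw [h5] at hd
    exact three_not_dvd_sub h hd

theorem not_dvd_three_of_add (h : Hyp F p) {x : Matrix.ProjectiveSpecialLinearGroup (Fin 2) F}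
    (hx1 : x ≠ 1) (hd : orderOf x ∣ Fintype.card F + 1) : ¬ orderOf x ∣ 3 := by
  intro h3
  rcases (Nat.dvd_prime Nat.prime_three).mp h3 with h5 | h5
  · exact hx1 (orderOf_eq_one_iff.mp h5)
  · rw [h5] at hd
    exact three_not_dvd_add h hd

theorem case3_card (h : Hyp F p) (x : Matrix.ProjectiveSpecialLinearGroup (Fin 2) F)
    (hx1 : x ≠ 1) (hx2 : orderOf x ≠ 2) (hd : orderOf x ∣ Fintype.card F - 1) :
    Nat.card {y : Matrix.ProjectiveSpecialLinearGroup (Fin 2) F //
      Subgroup.closure ({x, y} : Set (Matrix.ProjectiveSpecialLinearGroup (Fin 2) F)) ≠ ⊤} =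
      Fintype.card F * (Fintype.card F - 1) := by
  have h2 := h.two_ne
  have hq := h.ge
  obtain ⟨X₀, rfl⟩ := piF_surjective x
  obtain ⟨ht1, ht0⟩ := type_analysis h X₀ hx1 hx2 (not_dvd_three_of_sub h hx1 hd)
  have h41 := four_eq_one h
  by_cases hE : Cfsg.Agent.helper12.NoEigen2 (X₀ : Matrix (Fin 2) (Fin 2) F)
  · exfalso
    have hidx := Cfsg.Agent.helper12.pslIdx_nonsplit h.odd X₀ (by rw [tr_eq_trace]; exact ht0) hE
    unfold Cfsg.Agent.helper12.pslIdx at hidx
    have hc := two_mul_card_centralizer h X₀ hidx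
    have h5 : orderOf (piF F X₀) ∣ Fintype.card F + 1 := by
      rw [← hc]
      exact Dvd.dvd.mul_left (orderOf_dvd_card_centralizer _) 2
    apply orderOf_dvd_two_absurd hx1 hx2
    have h6 : Fintype.card F + 1 = (Fintype.card F - 1) + 2 := by omega
    rw [h6] at h5
    exact (Nat.dvd_add_right hd).mp h5
  · unfold Cfsg.Agent.helper12.NoEigen2 at hE
    push Not at hE
    obtain ⟨c, v, hv, hcv⟩ := hE
    have heq := Cfsg.Agent.helper12.sl2_eigenvalue_eq X₀ hv hcv
    rw [tr_eq_trace] at heq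
    have hc0 : c ≠ 0 := by
      rintro rfl
      simp at heq
    have htr : tr X₀ = c + c⁻¹ := by
      field_simp
      linear_combination -heq
    have hc2 : c ^ 2 ≠ 1 := by
      intro h1
      apply ht1
      have : c⁻¹ = c := inv_eq_of_mul_eq_one_right (by rw [← sq]; exact h1)
      rw [htr, this]
      linear_combination 4 * h1 + h.three
    have hconj : IsConj X₀ (dS c hc0) := by
      apply Cfsg.Agent.helper12.sl2_isConj_of_disc_ne (Nat.odd_iff.mp h.odd)
      · rw [tr_eq_trace, tr_eq_trace, tr_dS, htr]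
      · rw [tr_eq_trace, h41]; exact ht1
    obtain ⟨k, hk⟩ := isConj_iff.mp hconj
    rw [conj_count _ (piF F k), ← map_inv, ← map_mul, ← map_mul, hk]
    have h5 := sol_count h (dS c hc0) _ (fun Y => ⟨case3_imp h hc0 hc2 Y, case3_of h hc0 hc2 Y⟩)
    rw [count3] at h5
    have : 2 * Fintype.card F * (Fintype.card F - 1) =
        2 * (Fintype.card F * (Fintype.card F - 1)) := by ring
    rw [this] at h5
    exact Nat.eq_of_mul_eq_mul_left (by norm_num) h5

theorem case4_card (h : Hyp F p) (x : Matrix.ProjectiveSpecialLinearGroup (Fin 2) F)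
    (hx1 : x ≠ 1) (hx2 : orderOf x ≠ 2) (hd : orderOf x ∣ Fintype.card F + 1) :
    Nat.card {y : Matrix.ProjectiveSpecialLinearGroup (Fin 2) F //
      Subgroup.closure ({x, y} : Set (Matrix.ProjectiveSpecialLinearGroup (Fin 2) F)) ≠ ⊤} =
      Fintype.card F + 1 := by
  classical
  haveI := h.simple
  have hnc := h.nc
  have h2 := h.two_ne
  have hq := h.ge
  have hx3 := not_dvd_three_of_add h hx1 hd
  have hxx : x * x ≠ 1 := by
    intro h5
    apply orderOf_dvd_two_absurd hx1 hx2
    apply orderOf_dvd_of_pow_eq_one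
    rw [pow_two]; exact h5
  obtain ⟨X₀, hX₀⟩ := piF_surjective x
  rw [← hX₀] at hx1 hx2 hx3 hd
  obtain ⟨ht1, ht0⟩ := type_analysis h X₀ hx1 hx2 hx3
  rw [hX₀] at hx1 hx2 hx3 hd
  have h41 := four_eq_one h
  -- the centralizer
  have hcent : 2 * Nat.card (Subgroup.centralizer ({x} :
      Set (Matrix.ProjectiveSpecialLinearGroup (Fin 2) F))) = Fintype.card F + 1 := by
    by_cases hE : Cfsg.Agent.helper12.NoEigen2 (X₀ : Matrix (Fin 2) (Fin 2) F)
    · have hidx := Cfsg.Agent.helper12.pslIdx_nonsplit h.odd X₀ (by rw [tr_eq_trace]; exact ht0) hE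
      unfold Cfsg.Agent.helper12.pslIdx at hidx
      rw [← hX₀]
      exact two_mul_card_centralizer h X₀ hidx
    · exfalso
      have hidx := Cfsg.Agent.helper12.pslIdx_split h.odd X₀
        (by rw [tr_eq_trace, h41]; exact ht1) (by rw [tr_eq_trace]; exact ht0) hE
      unfold Cfsg.Agent.helper12.pslIdx at hidx
      have hc := card_centralizer_split h X₀ hidx
      have h5 : orderOf (piF F X₀) ∣ Fintype.card F - 1 := by
        rw [← hc]
        exact Dvd.dvd.mul_left (orderOf_dvd_card_centralizer _) 2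
      rw [hX₀] at h5
      apply orderOf_dvd_two_absurd hx1 hx2
      have h6 : Fintype.card F + 1 = (Fintype.card F - 1) + 2 := by omega
      rw [h6] at hd
      exact (Nat.dvd_add_right h5).mp hd
  -- `x` is conjugate to its inverse
  obtain ⟨g₀, hg₀⟩ : ∃ g₀ : Matrix.ProjectiveSpecialLinearGroup (Fin 2) F,
      g₀ * x * g₀⁻¹ = x⁻¹ := by
    have hconj : IsConj X₀ X₀⁻¹ := by
      apply Cfsg.Agent.helper12.sl2_isConj_of_disc_ne (Nat.odd_iff.mp h.odd)
      · rw [tr_eq_trace, tr_eq_trace]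
        unfold tr
        rw [e_inv_00, e_inv_11, add_comm]
      · rw [tr_eq_trace, h41]; exact ht1
    obtain ⟨k, hk⟩ := isConj_iff.mp hconj
    refine ⟨piF F k, ?_⟩
    rw [← hX₀, ← map_inv, ← map_inv, ← map_mul, ← map_mul, hk]
  -- the characterization
  have hchar : ∀ y : Matrix.ProjectiveSpecialLinearGroup (Fin 2) F,
      Subgroup.closure ({x, y} : Set (Matrix.ProjectiveSpecialLinearGroup (Fin 2) F)) ≠ ⊤ ↔
      (y * x * y⁻¹ = x ∨ y * x * y⁻¹ = x⁻¹) := by
    intro y
    constructor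
    · intro hne
      rcases struct h x y hne with hD | hB | hA
      · rcases hD with hc | ⟨-, hinv⟩ | ⟨hx2', -⟩ | ⟨hx2', -⟩
        · left
          rw [mul_inv_eq_iff_eq_mul, hc]
        · right; exact hinv
        · exact absurd hx2' hxx
        · exact absurd hx2' hxx
      · exfalso
        obtain ⟨hxm, -⟩ := hB
        have h5 : orderOf x ∣ Fintype.card F * (Fintype.card F - 1) / 2 :=
          orderOf_dvd_of_pow_eq_one hxm
        have h6 : orderOf x ∣ 2 * (Fintype.card F * (Fintype.card F - 1) / 2) :=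
          Dvd.dvd.mul_left h5 2
        have h7 : 2 * (Fintype.card F * (Fintype.card F - 1) / 2) =
            (Fintype.card F + 1) * (Fintype.card F - 2) + 2 := by
          obtain ⟨k, hk⟩ := odd_m h
          obtain ⟨j, hj⟩ : ∃ j, Fintype.card F = j + 2 := ⟨Fintype.card F - 2, by omega⟩
          have h8 : Fintype.card F * (Fintype.card F - 1) =
              (Fintype.card F + 1) * (Fintype.card F - 2) + 2 := by
            rw [hj]
            have e1 : j + 2 - 1 = j + 1 := by omega
            have e2 : j + 2 - 2 = j := by omega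
            rw [e1, e2]; ring
          have h9 : Fintype.card F * (Fintype.card F - 1) % 2 = 0 := by
            rw [Nat.mul_mod]
            have hq8 := h.mod8
            have e1 : Fintype.card F % 2 = 1 := by omega
            have e2 : (Fintype.card F - 1) % 2 = 0 := by omega
            rw [e1, e2]
          omega
        rw [h7] at h6
        apply orderOf_dvd_two_absurd hx1 hx2
        exact (Nat.dvd_add_right (Dvd.dvd.mul_right hd _)).mp h6
      · exfalso
        obtain ⟨hx', -⟩ := hA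
        rcases hx' with hx' | hx' | hx'
        · exact hx1 hx'
        · exact hxx hx'
        · exact hx3 (orderOf_dvd_of_pow_eq_one hx')
    · intro hy
      exact closure_pair_ne_top_of_inv hnc hx1 (Or.inl (by group)) hy
  rw [Nat.card_congr (Equiv.subtypeEquivRight hchar)]
  -- counting
  obtain ⟨C₁, hC₁⟩ : ∃ C : Set (Matrix.ProjectiveSpecialLinearGroup (Fin 2) F),
      C = {y | y * x * y⁻¹ = x} := ⟨_, rfl⟩
  obtain ⟨C₂, hC₂⟩ : ∃ C : Set (Matrix.ProjectiveSpecialLinearGroup (Fin 2) F),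
      C = {y | y * x * y⁻¹ = x⁻¹} := ⟨_, rfl⟩
  have hc1 : Nat.card {y : Matrix.ProjectiveSpecialLinearGroup (Fin 2) F // y * x * y⁻¹ = x} =
      Nat.card (Subgroup.centralizer ({x} :
        Set (Matrix.ProjectiveSpecialLinearGroup (Fin 2) F))) := by
    apply Nat.card_congr
    refine Equiv.subtypeEquivRight (fun y => ?_)
    rw [Subgroup.mem_centralizer_singleton_iff, mul_inv_eq_iff_eq_mul]
  have hkey : g₀⁻¹ * x⁻¹ * g₀ = x := by
    rw [← hg₀]; group
  have hc2 : Nat.card {y : Matrix.ProjectiveSpecialLinearGroup (Fin 2) F // y * x * y⁻¹ = x⁻¹} =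
      Nat.card {y : Matrix.ProjectiveSpecialLinearGroup (Fin 2) F // y * x * y⁻¹ = x} := by
    apply Nat.card_congr
    refine Equiv.subtypeEquiv (Equiv.mulLeft g₀⁻¹) (fun y => ?_)
    show y * x * y⁻¹ = x⁻¹ ↔ (g₀⁻¹ * y) * x * (g₀⁻¹ * y)⁻¹ = x
    have e1 : (g₀⁻¹ * y) * x * (g₀⁻¹ * y)⁻¹ = g₀⁻¹ * (y * x * y⁻¹) * g₀ := by group
    rw [e1]
    constructor
    · intro h5
      rw [h5]; exact hkey
    · intro h5
      have : y * x * y⁻¹ = g₀ * (g₀⁻¹ * (y * x * y⁻¹) * g₀) * g₀⁻¹ := by group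
      rw [this, h5]; exact hg₀
  have n1 : C₁.ncard = Nat.card (Subgroup.centralizer ({x} :
        Set (Matrix.ProjectiveSpecialLinearGroup (Fin 2) F))) := by
    rw [hC₁, ← Nat.card_coe_set_eq]; exact hc1
  have n2 : C₂.ncard = Nat.card (Subgroup.centralizer ({x} :
        Set (Matrix.ProjectiveSpecialLinearGroup (Fin 2) F))) := by
    rw [hC₂, ← Nat.card_coe_set_eq, ← hc1]; exact hc2
  have hdisj : Disjoint C₁ C₂ := by
    rw [Set.disjoint_left]
    intro y hy1 hy2
    rw [hC₁] at hy1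
    rw [hC₂] at hy2
    have e1 : y * x * y⁻¹ = x := hy1
    have e2 : y * x * y⁻¹ = x⁻¹ := hy2
    rw [e1] at e2
    apply hxx
    have h5 := mul_inv_cancel x
    rw [← e2] at h5
    exact h5
  have hunion : {y : Matrix.ProjectiveSpecialLinearGroup (Fin 2) F |
      y * x * y⁻¹ = x ∨ y * x * y⁻¹ = x⁻¹} = C₁ ∪ C₂ := by
    rw [hC₁, hC₂]; rfl
  have hcard := Nat.card_coe_set_eq {y : Matrix.ProjectiveSpecialLinearGroup (Fin 2) F |
      y * x * y⁻¹ = x ∨ y * x * y⁻¹ = x⁻¹}
  have hcard' : Nat.card {y : Matrix.ProjectiveSpecialLinearGroup (Fin 2) F //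
      y * x * y⁻¹ = x ∨ y * x * y⁻¹ = x⁻¹} = (C₁ ∪ C₂).ncard := by
    rw [← hunion]; exact hcard
  rw [hcard', Set.ncard_union_eq hdisj (Set.toFinite _) (Set.toFinite _), n1, n2]
  omega

end Cfsg.Agent.helper11.Sol3
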