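import Mathlib

set_option autoImplicit false

/-!
# Square-zero endomorphisms: normal form basis, and conjugacy with determinant one
-/

namespace Cfsg.Agent.helper11

open Module

section
variable {F V : Type*} [Field F] [AddCommGroup V] [Module F V] [FiniteDimensional F V]

/-- Normal form basis of a square-zero endomorphism `N` of rank `r`: vectors `c_i`, `w_i = N c_i`
and `u_j ∈ ker N`. -/
theorem exists_sqzero_basis (N : V →ₗ[F] V) (hN : ∀ v, N (N v) = 0) (r k : ℕ)
    (hr : finrank F (LinearMap.range N) = r) (hk : r + r + k = finrank F V) :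
    ∃ β : Module.Basis (Fin r ⊕ (Fin r ⊕ Fin k)) F V,
      (∀ i, N (β (Sum.inl i)) = β (Sum.inr (Sum.inl i))) ∧ (∀ j, N (β (Sum.inr j)) = 0) := by
  classical
  set I := LinearMap.range N with hI
  set K := LinearMap.ker N with hK
  have hIK : I ≤ K := by
    rintro _ ⟨v, rfl⟩
    exact LinearMap.mem_ker.mpr (hN v)
  obtain ⟨⟨U, hUK⟩, hcompl⟩ := exists_isCompl (⟨I, hIK⟩ : Set.Iic K)
  have hIU : I ⊓ U = ⊥ := congrArg Subtype.val hcompl.inf_eq_bot
  have hIUK : I ⊔ U = K := congrArg Subtype.val hcompl.sup_eq_top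
  have hdim1 : finrank F I + finrank F K = finrank F V := LinearMap.finrank_range_add_finrank_ker N
  have hdim2 : finrank F I + finrank F U = finrank F K := by
    have := Submodule.finrank_sup_add_finrank_inf_eq I U
    rw [hIU, hIUK, finrank_bot, add_zero] at this
    exact this.symm
  have hU : finrank F U = k := by omega
  let w' : Module.Basis (Fin r) F I := Module.finBasisOfFinrankEq F I hr
  let u' : Module.Basis (Fin k) F U := Module.finBasisOfFinrankEq F U hU
  let w : Fin r → V := fun i => (w' i : V)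
  let u : Fin k → V := fun j => (u' j : V)
  have hwI : ∀ i, w i ∈ I := fun i => (w' i).2
  have huU : ∀ j, u j ∈ U := fun j => (u' j).2
  choose c hc using fun i => LinearMap.mem_range.mp (hwI i)
  have hw_li : LinearIndependent F w :=
    w'.linearIndependent.map' I.subtype (Submodule.ker_subtype I)
  have hu_li : LinearIndependent F u :=
    u'.linearIndependent.map' U.subtype (Submodule.ker_subtype U)
  have hNw : ∀ i, N (w i) = 0 := fun i => LinearMap.mem_ker.mp (hIK (hwI i))
  have hNu : ∀ j, N (u j) = 0 := fun j => LinearMap.mem_ker.mp (hUK (huU j))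
  let b : Fin r ⊕ (Fin r ⊕ Fin k) → V := Sum.elim c (Sum.elim w u)
  have hli : LinearIndependent F b := by
    rw [Fintype.linearIndependent_iff]
    intro g hg
    rw [Fintype.sum_sum_type, Fintype.sum_sum_type] at hg
    simp only [b, Sum.elim_inl, Sum.elim_inr] at hg
    have h1 : ∑ i, g (Sum.inl i) • w i = 0 := by
      have := congrArg N hg
      simp only [map_add, map_sum, map_smul, hc, hNw, hNu, smul_zero, Finset.sum_const_zero,
        add_zero, map_zero] at this
      exact this
    have hg1 : ∀ i, g (Sum.inl i) = 0 := Fintype.linearIndependent_iff.mp hw_li _ h1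
    simp only [hg1, zero_smul, Finset.sum_const_zero, zero_add] at hg
    have hx : ∑ i, g (Sum.inr (Sum.inl i)) • w i ∈ I :=
      Submodule.sum_mem _ (fun i _ => Submodule.smul_mem _ _ (hwI i))
    have hy : ∑ j, g (Sum.inr (Sum.inr j)) • u j ∈ U :=
      Submodule.sum_mem _ (fun j _ => Submodule.smul_mem _ _ (huU j))
    have hx' : ∑ i, g (Sum.inr (Sum.inl i)) • w i ∈ U := by
      have : ∑ i, g (Sum.inr (Sum.inl i)) • w i = - ∑ j, g (Sum.inr (Sum.inr j)) • u j :=
        eq_neg_of_add_eq_zero_left hg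
      rw [this]
      exact U.neg_mem hy
    have hx0 : ∑ i, g (Sum.inr (Sum.inl i)) • w i = 0 := by
      have hmem : ∑ i, g (Sum.inr (Sum.inl i)) • w i ∈ I ⊓ U := ⟨hx, hx'⟩
      rw [hIU] at hmem
      exact (Submodule.mem_bot F).mp hmem
    have hy0 : ∑ j, g (Sum.inr (Sum.inr j)) • u j = 0 := by
      rw [hx0, zero_add] at hg
      exact hg
    have hg2 := Fintype.linearIndependent_iff.mp hw_li _ hx0
    have hg3 := Fintype.linearIndependent_iff.mp hu_li _ hy0
    rintro (i | i | j)
    · exact hg1 i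
    · exact hg2 i
    · exact hg3 j
  have hcard : Fintype.card (Fin r ⊕ (Fin r ⊕ Fin k)) = finrank F V := by
    simp only [Fintype.card_sum, Fintype.card_fin]
    omega
  refine ⟨basisOfLinearIndependentOfCardEqFinrank' b hli hcard, ?_, ?_⟩
  · intro i
    simp [b, hc, w]
  · rintro (i | j)
    · simp [b, hNw]
    · simp [b, hNu]

/-- Two square-zero endomorphisms of the same nonzero rank are intertwined by a linear map of
determinant one, provided every element of the field is a square. -/
theorem exists_intertwiner_det_one (hsq : ∀ x : F, IsSquare x) (Na Nb : V →ₗ[F] V)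
    (ha : ∀ v, Na (Na v) = 0) (hb : ∀ v, Nb (Nb v) = 0)
    (hrank : finrank F (LinearMap.range Na) = finrank F (LinearMap.range Nb)) (hne : Na ≠ 0) :
    ∃ P : V →ₗ[F] V, LinearMap.det P = 1 ∧ ∀ v, P (Na v) = Nb (P v) := by
  classical
  set r := finrank F (LinearMap.range Na) with hr
  have hr0 : 0 < r := by
    rw [Nat.pos_iff_ne_zero]
    intro h0
    rw [hr] at h0
    have := Submodule.finrank_eq_zero.mp h0
    exact hne (LinearMap.range_eq_bot.mp this)
  have hle : r + r ≤ finrank F V := by
    have h1 : finrank F (LinearMap.range Na) + finrank F (LinearMap.ker Na) = finrank F V :=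
      LinearMap.finrank_range_add_finrank_ker Na
    have h2 : LinearMap.range Na ≤ LinearMap.ker Na := by
      rintro _ ⟨v, rfl⟩
      exact LinearMap.mem_ker.mpr (ha v)
    have h3 := Submodule.finrank_mono h2
    omega
  obtain ⟨k, hk⟩ : ∃ k, r + r + k = finrank F V := ⟨finrank F V - (r + r), by omega⟩
  obtain ⟨βa, ha1, ha2⟩ := exists_sqzero_basis Na ha r k rfl hk
  obtain ⟨βb, hb1, hb2⟩ := exists_sqzero_basis Nb hb r k hrank.symm hk
  let P₀ : V ≃ₗ[F] V := βa.equiv βb (Equiv.refl _)
  have hP₀ : ∀ x, P₀ (βa x) = βb x := fun x => by simp [P₀]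
  have hP₀N : ∀ v, P₀ (Na v) = Nb (P₀ v) := by
    have : (P₀ : V →ₗ[F] V) ∘ₗ Na = Nb ∘ₗ (P₀ : V →ₗ[F] V) := by
      apply βa.ext
      rintro (i | j)
      · simp [ha1, hb1, hP₀]
      · simp [ha2, hb2, hP₀]
    intro v
    exact LinearMap.congr_fun this v
  have hd : IsUnit (LinearMap.det (P₀ : V →ₗ[F] V)) := LinearEquiv.isUnit_det' P₀
  set d := LinearMap.det (P₀ : V →ₗ[F] V) with hd'
  have hd0 : d ≠ 0 := hd.ne_zero
  obtain ⟨lam, hlam⟩ := hsq d⁻¹
  let i₀ : Fin r := ⟨0, hr0⟩
  let e : Fin r → F := fun i => if i = i₀ then lam else 1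
  let δ : Fin r ⊕ (Fin r ⊕ Fin k) → F := Sum.elim e (Sum.elim e (fun _ => 1))
  let Z : V →ₗ[F] V := Matrix.toLin βa βa (Matrix.diagonal δ)
  have hZ : ∀ x, Z (βa x) = δ x • βa x := by
    intro x
    simp only [Z, Matrix.toLin_self, Matrix.diagonal_apply, ite_smul, zero_smul]
    simp
  have hdetZ : LinearMap.det Z = lam * lam := by
    simp only [Z, LinearMap.det_toLin, Matrix.det_diagonal, Fintype.prod_sum_type, δ, Sum.elim_inl,
      Sum.elim_inr, e, Finset.prod_ite_eq', Finset.mem_univ, if_true, Finset.prod_const_one, mul_one]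
  have hZN : ∀ v, Z (Na v) = Na (Z v) := by
    have : Z ∘ₗ Na = Na ∘ₗ Z := by
      apply βa.ext
      rintro (i | j)
      · simp [ha1, hZ, δ]
      · simp [ha2, hZ]
    intro v
    exact LinearMap.congr_fun this v
  refine ⟨(P₀ : V →ₗ[F] V) ∘ₗ Z, ?_, ?_⟩
  · rw [LinearMap.det_comp, hdetZ, ← hlam, ← hd']
    exact mul_inv_cancel₀ hd0
  · intro v
    simp only [LinearMap.comp_apply, LinearEquiv.coe_coe, hZN, hP₀N]

end

end Cfsg.Agent.helper11
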