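import Mathlib
import Cfsg.Prelude.Def_LieExceptional

set_option autoImplicit false

/-!
# Suzuki groups, part 1: the field automorphism `θ` and the form `f(x, y) = x y + x^(σ+2) + y^σ`
-/

namespace Cfsg.Agent.helper11.Sz

variable {F : Type*} [Field F]

theorem charP_two [Fintype F] {m : ℕ} (hF : Fintype.card F = 2 ^ (2 * m + 1)) : CharP F 2 := by
  haveI : Fact (Nat.Prime 2) := ⟨Nat.prime_two⟩
  exact charP_of_card_eq_prime_pow hF

section

variable [CharP F 2] {m : ℕ}

/-- `θ : x ↦ x ^ σ`, `σ = 2 ^ (m + 1)` -/
noncomputable def th (F : Type*) [Field F] [CharP F 2] (m : ℕ) : F →+* F :=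
  haveI : Fact (Nat.Prime 2) := ⟨Nat.prime_two⟩
  iterateFrobenius F 2 (m + 1)

theorem th_apply (x : F) : th F m x = x ^ 2 ^ (m + 1) := by
  haveI : Fact (Nat.Prime 2) := ⟨Nat.prime_two⟩
  exact iterateFrobenius_def 2 (m + 1) x

theorem th_injective : Function.Injective (th F m) := (th F m).injective

theorem th_eq_zero {x : F} : th F m x = 0 ↔ x = 0 := by
  constructor
  · intro h
    exact th_injective (h.trans (map_zero _).symm)
  · rintro rfl
    exact map_zero _

theorem th_th [Fintype F] (hF : Fintype.card F = 2 ^ (2 * m + 1)) (x : F) :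
    th F m (th F m x) = x ^ 2 := by
  rw [th_apply, th_apply, ← pow_mul]
  have : 2 ^ (m + 1) * 2 ^ (m + 1) = 2 ^ (2 * m + 1) * 2 := by ring
  rw [this, pow_mul, ← hF, FiniteField.pow_card]

theorem th_surjective [Fintype F] : Function.Surjective (th F m) :=
  Finite.injective_iff_surjective.mp th_injective

/-- the form defining the ovoid -/
def ff (m : ℕ) (x y : F) : F := x * y + x ^ (2 ^ (m + 1) + 2) + y ^ 2 ^ (m + 1)

theorem ff_eq (x y : F) : ff m x y = x * y + th F m x * x ^ 2 + th F m y := by
  unfold ff
  rw [th_apply, th_apply, pow_add]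

theorem ff_zero : ff m (0 : F) 0 = 0 := by
  rw [ff_eq]; simp

theorem ff_eq_zero [Fintype F] (hF : Fintype.card F = 2 ^ (2 * m + 1)) {x y : F}
    (h : ff m x y = 0) : x = 0 ∧ y = 0 := by
  rw [ff_eq] at h
  by_cases hx : x = 0
  · subst hx
    simp only [zero_mul, map_zero, ne_eq, OfNat.ofNat_ne_zero, not_false_eq_true, zero_pow,
      mul_zero, add_zero, zero_add] at h
    exact ⟨rfl, th_eq_zero.mp h⟩
  · exfalso
    have hθx : th F m x ≠ 0 := fun h => hx (th_eq_zero.mp h)
    set u := y / (th F m x * x) with hu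
    have h1 : th F m u = th F m y / (x ^ 2 * th F m x) := by
      rw [hu, map_div₀, map_mul, th_th hF]
    have h2 : th F m u = u + 1 := by
      rw [h1, hu]
      field_simp
      grind
    have h3 : u ^ 2 = u := by
      have := congrArg (th F m) h2
      rw [th_th hF, map_add, map_one, h2] at this
      grind
    have h4 : u = 0 ∨ u = 1 := by
      have : u * (u - 1) = 0 := by grind
      rcases mul_eq_zero.mp this with h | h
      · left; exact h
      · right; exact sub_eq_zero.mp h
    rcases h4 with h4 | h4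
    · rw [h4, map_zero] at h2
      simp at h2
    · rw [h4, map_one] at h2
      have : (1 : F) = 0 := by grind
      exact one_ne_zero this

end

end Cfsg.Agent.helper11.Sz
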