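import Cfsg.Statements.S0326
import Mathlib

set_option autoImplicit false
open Cfsg

namespace Cfsg.Agent.S0326

open Projectivization

variable {F : Type*} [Field F]

/-- the affine points of the ovoid -/
def ovVec (m : ℕ) (x y : F) : Fin 4 → F :=
  ![x * y + x ^ (2 ^ (m + 1) + 2) + y ^ (2 ^ (m + 1)), y, x, 1]

theorem ovVec_ne_zero (m : ℕ) (x y : F) : ovVec m x y ≠ 0 := by
  intro h
  have := congrFun h 3
  simp [ovVec] at this

theorem inf_ne_zero : (![1, 0, 0, 0] : Fin 4 → F) ≠ 0 := by
  intro h
  have := congrFun h 0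
  simp at this

/-- parametrisation of the ovoid -/
def param (m : ℕ) : Option (F × F) → Projectivization F (Fin 4 → F)
  | none => mk F ![1, 0, 0, 0] inf_ne_zero
  | some p => mk F (ovVec m p.1 p.2) (ovVec_ne_zero m p.1 p.2)

theorem param_injective (m : ℕ) : Function.Injective (param (F := F) m) := by
  intro a b h
  rcases a with _ | ⟨x, y⟩ <;> rcases b with _ | ⟨x', y'⟩
  · rfl
  · exfalso
    simp only [param] at h
    rw [mk_eq_mk_iff'] at h
    obtain ⟨a, ha⟩ := h
    have h0 := congrFun ha 0
    have h3 := congrFun ha 3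
    simp [ovVec] at h0 h3
    rw [h3] at h0
    simp at h0
  · exfalso
    simp only [param] at h
    rw [mk_eq_mk_iff'] at h
    obtain ⟨a, ha⟩ := h
    have h3 := congrFun ha 3
    simp [ovVec] at h3
  · simp only [param] at h
    rw [mk_eq_mk_iff'] at h
    obtain ⟨a, ha⟩ := h
    have h1 := congrFun ha 1
    have h2 := congrFun ha 2
    have h3 := congrFun ha 3
    simp [ovVec] at h1 h2 h3
    rw [h3, one_mul] at h1 h2
    rw [h1, h2]

theorem range_param (m : ℕ) : Set.range (param (F := F) m) = suzukiOvoid F m := by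
  ext p
  constructor
  · rintro ⟨a, rfl⟩
    rcases a with _ | ⟨x, y⟩
    · exact ⟨![1, 0, 0, 0], inf_ne_zero, rfl, Or.inl rfl⟩
    · exact ⟨ovVec m x y, ovVec_ne_zero m x y, rfl, Or.inr ⟨x, y, rfl⟩⟩
  · rintro ⟨v, hv, rfl, h | ⟨x, y, h⟩⟩
    · subst h
      exact ⟨none, rfl⟩
    · subst h
      exact ⟨some (x, y), rfl⟩

/-- The Suzuki–Tits ovoid over a finite field with `q` elements has `q² + 1` points. -/
theorem result {F : Type*} [Field F] [Fintype F] (m : ℕ) :
    Nat.card (Cfsg.suzukiOvoid F m) = Fintype.card F ^ 2 + 1 := by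
  rw [← range_param, Nat.card_range_of_injective (param_injective m), Nat.card_eq_fintype_card,
    Fintype.card_option, Fintype.card_prod, pow_two]

end Cfsg.Agent.S0326
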