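import Mathlib
import Cfsg.Agent.Lib_helper11_Sz1
import Cfsg.Agent.S0326

set_option autoImplicit false

/-!
# Suzuki groups, part 2: the matrices `T(a, b)`, `H(κ)`, `w`
-/

namespace Cfsg.Agent.helper11.Sz

open Matrix

variable {F : Type*} [Field F] [CharP F 2] {m : ℕ}

/-- the affine ovoid vector (same as `S0326.ovVec`) -/
def pv (m : ℕ) (x y : F) : Fin 4 → F := ![ff m x y, y, x, 1]

theorem pv_eq (x y : F) : pv m x y = Cfsg.Agent.S0326.ovVec m x y := rfl

/-- the translation matrices -/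
noncomputable def Tm (m : ℕ) (a b : F) : Matrix (Fin 4) (Fin 4) F :=
  !![1, a, a * th F m a + b, ff m a b; 0, 1, th F m a, b; 0, 0, 1, a; 0, 0, 0, 1]

theorem det_Tm (a b : F) : (Tm m a b).det = 1 := by
  have h : (Tm m a b).BlockTriangular id := by
    intro i j hij
    fin_cases i <;> fin_cases j <;> first | rfl | (exfalso; revert hij; decide)
  rw [Matrix.det_of_isUpperTriangular h]
  simp [Fin.prod_univ_four, Tm]

/-- the diagonal matrices -/
def Hm (m : ℕ) (k : F) : Matrix (Fin 4) (Fin 4) F :=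
  Matrix.diagonal ![k ^ (2 ^ m + 1), k ^ 2 ^ m, (k⁻¹) ^ 2 ^ m, (k⁻¹) ^ (2 ^ m + 1)]

theorem det_Hm {k : F} (hk : k ≠ 0) : (Hm m k).det = 1 := by
  rw [Hm, Matrix.det_diagonal, Fin.prod_univ_four]
  simp only [Matrix.cons_val_zero, Matrix.cons_val_one, Matrix.cons_val]
  rw [inv_pow, inv_pow]
  field_simp

/-- the inversion -/
def wm : Matrix (Fin 4) (Fin 4) F := !![0, 0, 0, 1; 0, 0, 1, 0; 0, 1, 0, 0; 1, 0, 0, 0]

theorem wm_mul_wm : (wm : Matrix (Fin 4) (Fin 4) F) * wm = 1 := by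
  ext i j
  fin_cases i <;> fin_cases j <;> simp [wm, Matrix.mul_apply, Fin.sum_univ_four]

theorem det_wm : (wm : Matrix (Fin 4) (Fin 4) F).det = 1 := by
  have h := congrArg Matrix.det (wm_mul_wm (F := F))
  rw [Matrix.det_mul, Matrix.det_one] at h
  have : ((wm : Matrix (Fin 4) (Fin 4) F).det - 1) ^ 2 = 0 := by grind
  exact sub_eq_zero.mp ((pow_eq_zero_iff (two_ne_zero)).mp this)

theorem Tm_mulVec_pv [Fintype F] (hF : Fintype.card F = 2 ^ (2 * m + 1)) (a b x y : F) :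
    Tm m a b *ᵥ pv m x y = pv m (x + a) (y + b + th F m a * x) := by
  have hθ := th_th hF
  ext i
  fin_cases i <;> simp [Tm, pv, Matrix.mulVec, dotProduct, Fin.sum_univ_four, ff_eq, hθ] <;> grind

theorem Tm_mulVec_inf (a b : F) : Tm m a b *ᵥ ![1, 0, 0, 0] = ![1, 0, 0, 0] := by
  ext i
  fin_cases i <;> simp [Tm, Matrix.mulVec, dotProduct, Fin.sum_univ_four]

theorem Hm_mulVec_pv [Fintype F] (hF : Fintype.card F = 2 ^ (2 * m + 1)) {k : F} (hk : k ≠ 0)
    (x y : F) :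
    Hm m k *ᵥ pv m x y = (k⁻¹) ^ (2 ^ m + 1) • pv m (k * x) (th F m k * k * y) := by
  have hθ := th_th hF
  set R := k ^ 2 ^ m with hR
  have hR0 : R ≠ 0 := pow_ne_zero _ hk
  have hK : th F m k = R ^ 2 := by
    rw [th_apply, hR, ← pow_mul, pow_succ]
  have hKK : th F m R ^ 2 = k ^ 2 := by
    rw [← map_pow, ← hK, hθ]
  have e1 : k ^ (2 ^ m + 1) = R * k := by rw [pow_succ]
  ext i
  fin_cases i
  · simp only [Hm, pv, Matrix.mulVec, dotProduct, Fin.sum_univ_four, ff_eq, Matrix.diagonal,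
      Matrix.of_apply, Pi.smul_apply, smul_eq_mul, map_mul, map_pow, hθ, e1, hK, inv_pow]
    simp
    field_simp
    grind
  · simp only [Hm, pv, Matrix.mulVec, dotProduct, Fin.sum_univ_four, Matrix.diagonal,
      Matrix.of_apply, Pi.smul_apply, smul_eq_mul, e1, hK, inv_pow]
    simp
    field_simp
    rw [hR]; ring
  · simp only [Hm, pv, Matrix.mulVec, dotProduct, Fin.sum_univ_four, Matrix.diagonal,
      Matrix.of_apply, Pi.smul_apply, smul_eq_mul, e1, hK, inv_pow]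
    simp
    field_simp
    rw [hR]; ring
  · simp only [Hm, pv, Matrix.mulVec, dotProduct, Fin.sum_univ_four, Matrix.diagonal,
      Matrix.of_apply, Pi.smul_apply, smul_eq_mul, e1, hK, inv_pow]
    simp

theorem Hm_mulVec_inf (k : F) :
    Hm m k *ᵥ ![1, 0, 0, 0] = k ^ (2 ^ m + 1) • ![1, 0, 0, 0] := by
  ext i
  fin_cases i <;> simp [Hm, Matrix.mulVec, dotProduct, Fin.sum_univ_four, Matrix.diagonal]

theorem wm_mulVec_inf : (wm : Matrix (Fin 4) (Fin 4) F) *ᵥ ![1, 0, 0, 0] = pv m 0 0 := by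
  ext i
  fin_cases i <;> simp [wm, pv, Matrix.mulVec, dotProduct, Fin.sum_univ_four, ff_zero]

theorem wm_mulVec_zero : (wm : Matrix (Fin 4) (Fin 4) F) *ᵥ pv m 0 0 = ![1, 0, 0, 0] := by
  ext i
  fin_cases i <;> simp [wm, pv, Matrix.mulVec, dotProduct, Fin.sum_univ_four, ff_zero]

theorem wm_mulVec_pv [Fintype F] (hF : Fintype.card F = 2 ^ (2 * m + 1)) (x y : F)
    (hxy : ff m x y ≠ 0) :
    (wm : Matrix (Fin 4) (Fin 4) F) *ᵥ pv m x y =
      ff m x y • pv m (y / ff m x y) (x / ff m x y) := by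
  have hθ := th_th hF
  have key : ff m (y / ff m x y) (x / ff m x y) * ff m x y = 1 := by
    have e1 : th F m (ff m x y) = th F m x * th F m y + x ^ 2 * th F m x ^ 2 + y ^ 2 := by
      rw [ff_eq, map_add, map_add, map_mul, map_mul, map_pow, hθ, hθ]
    have hne : th F m (ff m x y) ≠ 0 := fun h => hxy (th_eq_zero.mp h)
    rw [ff_eq (y / ff m x y), map_div₀, map_div₀]
    field_simp
    rw [e1, ff_eq]
    grind
  ext i
  fin_cases i
  · simp [wm, pv, Matrix.mulVec, dotProduct, Fin.sum_univ_four]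
    rw [mul_comm]; exact key.symm
  · simp [wm, pv, Matrix.mulVec, dotProduct, Fin.sum_univ_four]
    field_simp
  · simp [wm, pv, Matrix.mulVec, dotProduct, Fin.sum_univ_four]
    field_simp
  · simp [wm, pv, Matrix.mulVec, dotProduct, Fin.sum_univ_four]

end Cfsg.Agent.helper11.Sz
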