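import Mathlib
import Cfsg.Agent.Lib_helper11_Sz2

set_option autoImplicit false

/-!
# Suzuki groups, part 3: `T(a, b)`, `H(κ)`, `w` as elements of the Suzuki group
-/

namespace Cfsg.Agent.helper11.Sz

open Matrix Projectivization Cfsg.Agent.S0326

variable {F : Type*} [Field F] [CharP F 2] {m : ℕ}

noncomputable def Ts (m : ℕ) (a b : F) : SpecialLinearGroup (Fin 4) F := ⟨Tm m a b, det_Tm a b⟩

noncomputable def Hs (m : ℕ) (k : Fˣ) : SpecialLinearGroup (Fin 4) F :=
  ⟨Hm m (k : F), det_Hm k.ne_zero⟩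

noncomputable def ws : SpecialLinearGroup (Fin 4) F := ⟨wm, det_wm⟩

theorem coe_Ts (a b : F) : (Ts m a b : Matrix (Fin 4) (Fin 4) F) = Tm m a b := rfl
theorem coe_Hs (k : Fˣ) : (Hs m k : Matrix (Fin 4) (Fin 4) F) = Hm m (k : F) := rfl
theorem coe_ws : (ws : SpecialLinearGroup (Fin 4) F) = (wm : Matrix (Fin 4) (Fin 4) F) := rfl

omit [CharP F 2] in
/-- the action on a projective point through the action on a representative -/
theorem smul_mk_eq (g : SpecialLinearGroup (Fin 4) F) (v w : Fin 4 → F) (hv : v ≠ 0) (hw : w ≠ 0)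
    (c : F) (h : (g : Matrix (Fin 4) (Fin 4) F) *ᵥ v = c • w) :
    g • Projectivization.mk F v hv = Projectivization.mk F w hw := by
  have hgv : g • v ≠ 0 := by
    intro h0
    apply hv
    have := congrArg (fun u => g⁻¹ • u) h0
    simpa using this
  show Projectivization.mk F (g • v) hgv = _
  rw [Projectivization.mk_eq_mk_iff']
  exact ⟨c, h.symm⟩

variable [Fintype F]

theorem Ts_smul_inf (a b : F) : Ts m a b • param (F := F) m none = param m none := by
  show Ts m a b • Projectivization.mk F ![1, 0, 0, 0] inf_ne_zero = _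
  apply smul_mk_eq _ _ _ _ _ 1
  rw [coe_Ts, Tm_mulVec_inf, one_smul]

theorem Ts_smul_some (hF : Fintype.card F = 2 ^ (2 * m + 1)) (a b x y : F) :
    Ts m a b • param m (some (x, y)) = param m (some (x + a, y + b + th F m a * x)) := by
  show Ts m a b • Projectivization.mk F (ovVec m x y) (ovVec_ne_zero m x y) = _
  apply smul_mk_eq _ _ _ _ _ 1
  rw [coe_Ts, one_smul]
  exact Tm_mulVec_pv hF a b x y

theorem Hs_smul_inf (k : Fˣ) : Hs m k • param (F := F) m none = param m none := by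
  show Hs m k • Projectivization.mk F ![1, 0, 0, 0] inf_ne_zero = _
  apply smul_mk_eq _ _ _ _ _ ((k : F) ^ (2 ^ m + 1))
  rw [coe_Hs, Hm_mulVec_inf]

theorem Hs_smul_some (hF : Fintype.card F = 2 ^ (2 * m + 1)) (k : Fˣ) (x y : F) :
    Hs m k • param m (some (x, y)) = param m (some ((k : F) * x, th F m k * k * y)) := by
  show Hs m k • Projectivization.mk F (ovVec m x y) (ovVec_ne_zero m x y) = _
  apply smul_mk_eq _ _ _ _ _ (((k : F)⁻¹) ^ (2 ^ m + 1))
  rw [coe_Hs]
  exact Hm_mulVec_pv hF k.ne_zero x y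

theorem ws_smul_inf : (ws : SpecialLinearGroup (Fin 4) F) • param (F := F) m none = param (F := F) m (some (0, 0)) := by
  show ws • Projectivization.mk F ![1, 0, 0, 0] inf_ne_zero = _
  apply smul_mk_eq _ _ _ _ _ 1
  rw [coe_ws, one_smul]
  exact wm_mulVec_inf

theorem ws_smul_zero : (ws : SpecialLinearGroup (Fin 4) F) • param (F := F) m (some (0, 0)) = param (F := F) m none := by
  show ws • Projectivization.mk F (ovVec m (0 : F) 0) (ovVec_ne_zero m 0 0) = _
  apply smul_mk_eq _ _ _ _ _ 1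
  rw [coe_ws, one_smul]
  exact wm_mulVec_zero

theorem ws_smul_some (hF : Fintype.card F = 2 ^ (2 * m + 1)) (x y : F) (hxy : ff m x y ≠ 0) :
    (ws : SpecialLinearGroup (Fin 4) F) • param m (some (x, y)) =
      param m (some (y / ff m x y, x / ff m x y)) := by
  show ws • Projectivization.mk F (ovVec m x y) (ovVec_ne_zero m x y) = _
  apply smul_mk_eq _ _ _ _ _ (ff m x y)
  rw [coe_ws]
  exact wm_mulVec_pv hF x y hxy

omit [CharP F 2] in
theorem mem_Sz_of_forall (g : SpecialLinearGroup (Fin 4) F)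
    (h : ∀ o : Option (F × F), ∃ o' : Option (F × F), g • param m o = param m o') :
    g ∈ Cfsg.Sz F m := by
  have hfin : (Cfsg.suzukiOvoid F m).Finite := Set.toFinite _
  rw [Cfsg.Sz, MulAction.mem_stabilizer_set' hfin]
  intro p hp
  rw [← range_param] at hp ⊢
  obtain ⟨o, rfl⟩ := hp
  obtain ⟨o', ho'⟩ := h o
  exact ⟨o', ho'.symm⟩

theorem Ts_mem (hF : Fintype.card F = 2 ^ (2 * m + 1)) (a b : F) : Ts m a b ∈ Cfsg.Sz F m := by
  apply mem_Sz_of_forall
  rintro (_ | ⟨x, y⟩)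
  · exact ⟨none, Ts_smul_inf a b⟩
  · exact ⟨_, Ts_smul_some hF a b x y⟩

theorem Hs_mem (hF : Fintype.card F = 2 ^ (2 * m + 1)) (k : Fˣ) : Hs m k ∈ Cfsg.Sz F m := by
  apply mem_Sz_of_forall
  rintro (_ | ⟨x, y⟩)
  · exact ⟨none, Hs_smul_inf k⟩
  · exact ⟨_, Hs_smul_some hF k x y⟩

theorem ws_mem (hF : Fintype.card F = 2 ^ (2 * m + 1)) : (ws : SpecialLinearGroup (Fin 4) F) ∈ Cfsg.Sz F m := by
  apply mem_Sz_of_forall
  rintro (_ | ⟨x, y⟩)
  · exact ⟨_, ws_smul_inf⟩
  · by_cases hxy : ff m x y = 0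
    · obtain ⟨rfl, rfl⟩ := ff_eq_zero hF hxy
      exact ⟨_, ws_smul_zero⟩
    · exact ⟨_, ws_smul_some hF x y hxy⟩

end Cfsg.Agent.helper11.Sz
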