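import Mathlib
import Cfsg.Agent.Lib_helper11_Sz3

set_option autoImplicit false

/-!
# Suzuki groups, part 4: the stabiliser of `∞` and `0` in the Suzuki group is `{H(κ)}`
-/

namespace Cfsg.Agent.helper11.Sz

open Matrix Projectivization Cfsg.Agent.S0326 Polynomial

variable {F : Type*} [Field F]

/-- a polynomial function with four terms of small degree vanishing on a finite field has zero
coefficients -/
theorem four_term [Fintype F] (n : ℕ) (hn : 4 ≤ n) (hq : n + 2 < Fintype.card F) (c₁ c₂ c₃ c₄ : F)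
    (h : ∀ y : F, c₁ * y + c₂ * y ^ 2 + c₃ * y ^ n + c₄ * y ^ (n + 2) = 0) :
    c₁ = 0 ∧ c₂ = 0 ∧ c₃ = 0 ∧ c₄ = 0 := by
  set p : F[X] := C c₁ * X + C c₂ * X ^ 2 + C c₃ * X ^ n + C c₄ * X ^ (n + 2) with hp
  have hdeg : p.natDegree ≤ n + 2 := by
    rw [hp]
    compute_degree
    all_goals omega
  have hp0 : p = 0 := by
    apply eq_zero_of_natDegree_lt_card_of_eval_eq_zero p (f := id) Function.injective_id
    · intro y
      simp only [hp, id, eval_add, eval_mul, eval_C, eval_X, eval_pow]
      exact h y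
    · omega
  have hc : ∀ k, p.coeff k = 0 := by
    intro k; rw [hp0]; simp
  have h1 := hc 1
  have h2 := hc 2
  have h3 := hc n
  have h4 := hc (n + 2)
  simp only [hp, coeff_add, coeff_C_mul, coeff_X_pow, coeff_X] at h1 h2 h3 h4
  have e1 : ¬ (1 = 2) := by omega
  have e2 : ¬ (1 = n) := by omega
  have e3 : ¬ (1 = n + 2) := by omega
  have e4 : ¬ (2 = n) := by omega
  have e5 : ¬ (2 = n + 2) := by omega
  have e6 : ¬ (n = n + 2) := by omega
  have e7 : ¬ (n = 1) := by omega
  have e8 : ¬ (n = 2) := by omega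
  have e9 : ¬ (n + 2 = 1) := by omega
  have e10 : ¬ (n + 2 = 2) := by omega
  have e11 : ¬ (n + 2 = n) := by omega
  have e12 : ¬ (2 = 1) := by omega
  simp only [e1, e2, e3, e4, e5, e6, e7, e8, e9, e10, e11, e12, if_true, if_false, mul_one, mul_zero, add_zero, zero_add] at h1 h2 h3 h4
  exact ⟨h1, h2, h3, h4⟩

theorem sigma_bounds {m : ℕ} (hm : 1 ≤ m) : 4 ≤ 2 ^ (m + 1) ∧ 2 ^ (m + 1) + 2 < 2 ^ (2 * m + 1) := by
  have h1 : 2 ^ 2 ≤ 2 ^ (m + 1) := Nat.pow_le_pow_right (by norm_num) (by omega)
  have h2 : 2 ^ (2 * m + 1) = 2 ^ m * 2 ^ (m + 1) := by rw [← pow_add]; congr 1; omega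
  have h3 : 2 ^ 1 ≤ 2 ^ m := Nat.pow_le_pow_right (by norm_num) hm
  constructor
  · omega
  · rw [h2]
    nlinarith

/-- reading off a representative from an equality of projective points -/
theorem exists_of_smul_mk_eq (g : SpecialLinearGroup (Fin 4) F) (v w : Fin 4 → F) (hv : v ≠ 0)
    (hw : w ≠ 0) (h : g • Projectivization.mk F v hv = Projectivization.mk F w hw) :
    ∃ c : F, c ≠ 0 ∧ (g : Matrix (Fin 4) (Fin 4) F) *ᵥ v = c • w := by
  have hgv : g • v ≠ 0 := by
    intro h0
    apply hv
    have := congrArg (fun u => g⁻¹ • u) h0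
    simpa using this
  have h' : Projectivization.mk F (g • v) hgv = Projectivization.mk F w hw := h
  rw [Projectivization.mk_eq_mk_iff'] at h'
  obtain ⟨c, hc⟩ := h'
  refine ⟨c, ?_, hc.symm⟩
  rintro rfl
  rw [zero_smul] at hc
  exact hgv hc.symm

theorem mulVec_pv (G : Matrix (Fin 4) (Fin 4) F) {m : ℕ} (x y : F) (i : Fin 4) :
    (G *ᵥ pv m x y) i = G i 0 * ff m x y + G i 1 * y + G i 2 * x + G i 3 := by
  simp [Matrix.mulVec, dotProduct, Fin.sum_univ_four, pv]

theorem mulVec_e0 (G : Matrix (Fin 4) (Fin 4) F) (i : Fin 4) :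
    (G *ᵥ ![1, 0, 0, 0]) i = G i 0 := by
  simp [Matrix.mulVec, dotProduct, Fin.sum_univ_four]

variable [CharP F 2] [Fintype F] {m : ℕ}

/-- images of affine ovoid points under an element of the Suzuki group fixing `∞` -/
theorem exists_affine_image (g : SpecialLinearGroup (Fin 4) F) (hg : g ∈ Cfsg.Sz F m)
    (h1 : g • param (F := F) m none = param m none) (x y : F) :
    ∃ x' y' c : F, c ≠ 0 ∧ (g : Matrix (Fin 4) (Fin 4) F) *ᵥ pv m x y = c • pv m x' y' := by
  have hmem : g • param m (some (x, y)) ∈ Cfsg.suzukiOvoid F m := by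
    have hfin : (Cfsg.suzukiOvoid F m).Finite := Set.toFinite _
    have := (MulAction.mem_stabilizer_set' hfin).mp hg
    apply this
    rw [← range_param]
    exact ⟨_, rfl⟩
  rw [← range_param] at hmem
  obtain ⟨o, ho⟩ := hmem
  rcases o with _ | ⟨x', y'⟩
  · exfalso
    rw [← h1] at ho
    have := MulAction.injective g ho
    have := param_injective m this
    simp at this
  · obtain ⟨c, hc, hcv⟩ := exists_of_smul_mk_eq g (ovVec m x y) (ovVec m x' y')
      (ovVec_ne_zero m x y) (ovVec_ne_zero m x' y') ho.symm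
    exact ⟨x', y', c, hc, hcv⟩


theorem sq_eq_one' {z : F} (h : z ^ 2 = 1) : z = 1 := by
  have : (z - 1) ^ 2 = 0 := by grind
  exact sub_eq_zero.mp ((pow_eq_zero_iff (two_ne_zero)).mp this)

/-- a matrix of determinant one fixing `∞`, `0` and mapping affine ovoid points to affine ovoid
points is diagonal of the form `H(κ)` -/
theorem diag_of_fix (hm : 1 ≤ m) (hF : Fintype.card F = 2 ^ (2 * m + 1))
    (G : Matrix (Fin 4) (Fin 4) F) (hdetG : G.det = 1) (c d : F) (hc : c ≠ 0) (hd : d ≠ 0)
    (hcol0 : G *ᵥ ![1, 0, 0, 0] = c • ![1, 0, 0, 0])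
    (hcol3 : G *ᵥ pv m 0 0 = d • pv m 0 0)
    (himg : ∀ x y : F, ∃ x' y' l : F, l ≠ 0 ∧ G *ᵥ pv m x y = l • pv m x' y') :
    ∃ B : F, B ≠ 0 ∧ G = Hm m B := by
  have hθ := th_th hF
  obtain ⟨hn4, hnq⟩ := sigma_bounds hm
  rw [← hF] at hnq
  have g00 : G 0 0 = c := by have := congrFun hcol0 0; rw [mulVec_e0] at this; simpa using this
  have g10 : G 1 0 = 0 := by have := congrFun hcol0 1; rw [mulVec_e0] at this; simpa using this
  have g20 : G 2 0 = 0 := by have := congrFun hcol0 2; rw [mulVec_e0] at this; simpa using this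
  have g30 : G 3 0 = 0 := by have := congrFun hcol0 3; rw [mulVec_e0] at this; simpa using this
  have hff0 : ff m (0 : F) 0 = 0 := ff_zero
  have g03 : G 0 3 = 0 := by
    have := congrFun hcol3 0
    rw [mulVec_pv] at this
    simpa [pv, hff0] using this
  have g13 : G 1 3 = 0 := by
    have := congrFun hcol3 1
    rw [mulVec_pv] at this
    simpa [pv, hff0] using this
  have g23 : G 2 3 = 0 := by
    have := congrFun hcol3 2
    rw [mulVec_pv] at this
    simpa [pv, hff0] using this
  have g33 : G 3 3 = d := by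
    have := congrFun hcol3 3
    rw [mulVec_pv] at this
    simpa [pv, hff0] using this
  have hlam : ∀ x y : F, G 3 1 * y + G 3 2 * x + d ≠ 0 := by
    intro x y h
    obtain ⟨x', y', l, hl, hv⟩ := himg x y
    have := congrFun hv 3
    rw [mulVec_pv, g30, g33] at this
    simp only [pv, Pi.smul_apply, smul_eq_mul, Matrix.cons_val] at this
    apply hl
    grind
  have g31 : G 3 1 = 0 := by
    by_contra hne
    apply hlam 0 (-d / G 3 1)
    field_simp
    ring
  have g32 : G 3 2 = 0 := by
    by_contra hne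
    apply hlam (-d / G 3 2) 0
    field_simp
    ring
  -- the functional equation
  have hfun : ∀ x y : F, d * ff m ((G 2 1 * y + G 2 2 * x) / d) ((G 1 1 * y + G 1 2 * x) / d) =
      c * ff m x y + G 0 1 * y + G 0 2 * x := by
    intro x y
    obtain ⟨x', y', l, hl, hv⟩ := himg x y
    have e3 := congrFun hv 3
    have e2 := congrFun hv 2
    have e1 := congrFun hv 1
    have e0 := congrFun hv 0
    rw [mulVec_pv] at e0 e1 e2 e3
    simp only [pv, Pi.smul_apply, smul_eq_mul, Matrix.cons_val, Matrix.cons_val_zero,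
      Matrix.cons_val_one] at e0 e1 e2 e3
    rw [g30, g31, g32, g33] at e3
    rw [g20, g23] at e2
    rw [g10, g13] at e1
    rw [g00, g03] at e0
    have hl' : l = d := by grind
    subst hl'
    have hx' : x' = (G 2 1 * y + G 2 2 * x) / l := by
      field_simp
      grind
    have hy' : y' = (G 1 1 * y + G 1 2 * x) / l := by
      field_simp
      grind
    rw [← hx', ← hy']
    grind
  -- coefficients
  set A := G 2 1 / d with hA
  set B := G 2 2 / d with hB
  set D := G 1 1 / d with hD
  set E := G 1 2 / d with hE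
  have hfun' : ∀ x y : F, ff m (A * y + B * x) (D * y + E * x) =
      c / d * ff m x y + G 0 1 / d * y + G 0 2 / d * x := by
    intro x y
    have := hfun x y
    have e1 : A * y + B * x = (G 2 1 * y + G 2 2 * x) / d := by rw [hA, hB]; field_simp
    have e2 : D * y + E * x = (G 1 1 * y + G 1 2 * x) / d := by rw [hD, hE]; field_simp
    rw [e1, e2]
    have h' : ff m ((G 2 1 * y + G 2 2 * x) / d) ((G 1 1 * y + G 1 2 * x) / d) =
        (c * ff m x y + G 0 1 * y + G 0 2 * x) / d := by
      rw [eq_div_iff hd, mul_comm]; exact this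
    rw [h']; ring
  have hy0 := four_term (2 ^ (m + 1)) hn4 hnq (G 0 1 / d) (A * D) (c / d + th F m D)
    (th F m A * A ^ 2) (by
      intro y
      have := hfun' 0 y
      rw [ff_eq, ff_eq] at this
      simp only [mul_zero, add_zero, map_mul, zero_mul, map_zero, ne_eq, OfNat.ofNat_ne_zero,
        not_false_eq_true, zero_pow, zero_add] at this
      rw [th_apply y] at this
      grind)
  obtain ⟨g01, hAD, hCD, hAA⟩ := hy0
  have hA0 : A = 0 := by
    rcases mul_eq_zero.mp hAA with h | h
    · exact th_eq_zero.mp h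
    · exact (pow_eq_zero_iff (two_ne_zero)).mp h
  have hx0 := four_term (2 ^ (m + 1)) hn4 hnq (G 0 2 / d) (B * E) (th F m E)
    (th F m B * B ^ 2 + c / d) (by
      intro x
      have := hfun' x 0
      rw [ff_eq, ff_eq] at this
      simp only [mul_zero, add_zero, map_mul, zero_mul, map_zero, zero_add] at this
      rw [th_apply x] at this
      grind)
  obtain ⟨g02, hBE, hEE, hBC⟩ := hx0
  have hE0 : E = 0 := th_eq_zero.mp hEE
  have hC1 : c / d = th F m D := by grind
  have hC2 : c / d = th F m B * B ^ 2 := by grind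
  have hBD : B * D = c / d := by
    have := hfun' 1 1
    rw [hA0, hE0, ff_eq, ff_eq, g01, g02] at this
    simp only [mul_one, zero_mul, add_zero, zero_add, map_one, one_pow, one_mul] at this
    grind
  have hcd : c / d ≠ 0 := div_ne_zero hc hd
  have hB0 : B ≠ 0 := by
    rintro h
    rw [h] at hC2
    simp at hC2
    rcases hC2 with h | h
    · exact hc h
    · exact hd h
  -- assemble
  have g21 : G 2 1 = 0 := by
    have : G 2 1 = A * d := by rw [hA]; field_simp
    rw [this, hA0, zero_mul]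
  have g12 : G 1 2 = 0 := by
    have : G 1 2 = E * d := by rw [hE]; field_simp
    rw [this, hE0, zero_mul]
  have g01' : G 0 1 = 0 := by
    rcases div_eq_zero_iff.mp g01 with h | h
    · exact h
    · exact absurd h hd
  have g02' : G 0 2 = 0 := by
    rcases div_eq_zero_iff.mp g02 with h | h
    · exact h
    · exact absurd h hd
  set R := B ^ 2 ^ m with hR
  have hR0 : R ≠ 0 := pow_ne_zero _ hB0
  have hthB : th F m B = R ^ 2 := by
    rw [th_apply, hR, ← pow_mul, pow_succ]
  have g22 : G 2 2 = B * d := by rw [hB]; field_simp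
  have hDval : D = R ^ 2 * B := by
    have : B * D = B * (R ^ 2 * B) := by rw [hBD, hC2, hthB]; ring
    exact mul_left_cancel₀ hB0 this
  have g11 : G 1 1 = R ^ 2 * B * d := by
    have : G 1 1 = D * d := by rw [hD]; field_simp
    rw [this, hDval]
  have g00' : G 0 0 = R ^ 2 * B ^ 2 * d := by
    rw [g00]
    have : c = c / d * d := by field_simp
    rw [this, hC2, hthB]
  have hdiag : G = Matrix.diagonal ![R ^ 2 * B ^ 2 * d, R ^ 2 * B * d, B * d, d] := by
    ext i j
    fin_cases i <;> fin_cases j <;>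
      simp [g00', g01', g02', g03, g10, g11, g12, g13, g20, g21, g22, g23, g30, g31, g32, g33]
  have hdet : (R * B * d) ^ 2 = 1 := by
    have h := hdetG
    rw [hdiag, Matrix.det_diagonal, Fin.prod_univ_four] at h
    simp only [Matrix.cons_val_zero, Matrix.cons_val_one, Matrix.cons_val] at h
    apply sq_eq_one'
    rw [← h]
    ring
  have hRBd : R * B * d = 1 := sq_eq_one' hdet
  have hdval : d = (R * B)⁻¹ := by
    exact eq_inv_of_mul_eq_one_right hRBd
  refine ⟨B, hB0, ?_⟩
  rw [hdiag, Hm]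
  congr 1
  have e1 : B ^ (2 ^ m + 1) = R * B := by rw [pow_succ]
  rw [inv_pow, inv_pow, e1, ← hR, hdval]
  ext i
  fin_cases i
  · simp; field_simp
  · simp; field_simp
  · simp; field_simp
  · simp

/-- the stabiliser of `∞` and `0` consists of the diagonal elements `H(κ)` -/
theorem stab_inf_zero (hm : 1 ≤ m) (hF : Fintype.card F = 2 ^ (2 * m + 1))
    (g : SpecialLinearGroup (Fin 4) F) (hg : g ∈ Cfsg.Sz F m)
    (h1 : g • param (F := F) m none = param m none)
    (h0 : g • param (F := F) m (some (0, 0)) = param m (some (0, 0))) :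
    ∃ k : Fˣ, g = Hs m k := by
  obtain ⟨c, hc, hcol0⟩ := exists_of_smul_mk_eq g _ _ inf_ne_zero inf_ne_zero h1
  obtain ⟨d, hd, hcol3⟩ := exists_of_smul_mk_eq g _ _ (ovVec_ne_zero m 0 0) (ovVec_ne_zero m 0 0) h0
  obtain ⟨B, hB0, hB⟩ := diag_of_fix hm hF (g : Matrix (Fin 4) (Fin 4) F) g.2 c d hc hd hcol0 hcol3
    (exists_affine_image g hg h1)
  exact ⟨Units.mk0 B hB0, Subtype.ext hB⟩

end Cfsg.Agent.helper11.Sz
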