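import Mathlib
import Cfsg.Agent.Lib_helper11_Sz4

set_option autoImplicit false

/-!
# Suzuki groups, part 5: the stabiliser of `∞`, transitivity and the order
-/

namespace Cfsg.Agent.helper11.Sz

open Matrix Projectivization Cfsg.Agent.S0326

variable {F : Type*} [Field F] [CharP F 2] [Fintype F] {m : ℕ}

omit [CharP F 2] in
theorem smul_mem_ovoid (g : SpecialLinearGroup (Fin 4) F) (hg : g ∈ Cfsg.Sz F m)
    (o : Option (F × F)) : ∃ o' : Option (F × F), g • param m o = param m o' := by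
  have hfin : (Cfsg.suzukiOvoid F m).Finite := Set.toFinite _
  have := (MulAction.mem_stabilizer_set' hfin).mp hg
  have hmem : g • param m o ∈ Cfsg.suzukiOvoid F m := by
    apply this
    rw [← range_param]
    exact ⟨_, rfl⟩
  rw [← range_param] at hmem
  obtain ⟨o', ho'⟩ := hmem
  exact ⟨o', ho'.symm⟩

omit [CharP F 2] in
theorem smul_param_some (g : SpecialLinearGroup (Fin 4) F) (hg : g ∈ Cfsg.Sz F m)
    (h1 : g • param (F := F) m none = param m none) (x y : F) :
    ∃ x' y' : F, g • param m (some (x, y)) = param m (some (x', y')) := by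
  obtain ⟨o', ho'⟩ := smul_mem_ovoid g hg (some (x, y))
  rcases o' with _ | ⟨x', y'⟩
  · exfalso
    rw [← h1] at ho'
    have := param_injective m (MulAction.injective g ho')
    simp at this
  · exact ⟨x', y', ho'⟩

theorem Ts_smul_zero (hF : Fintype.card F = 2 ^ (2 * m + 1)) (a b : F) :
    Ts m a b • param m (some (0, 0)) = param m (some (a, b)) := by
  rw [Ts_smul_some hF]
  simp

theorem Hs_smul_zero (hF : Fintype.card F = 2 ^ (2 * m + 1)) (k : Fˣ) :
    Hs m k • param (F := F) m (some (0, 0)) = param m (some (0, 0)) := by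
  rw [Hs_smul_some hF]
  simp

/-- the stabiliser of `∞` is `{T(a, b) H(κ)}` -/
theorem stab_inf (hm : 1 ≤ m) (hF : Fintype.card F = 2 ^ (2 * m + 1))
    (g : SpecialLinearGroup (Fin 4) F) (hg : g ∈ Cfsg.Sz F m)
    (h1 : g • param (F := F) m none = param m none) :
    ∃ (a b : F) (k : Fˣ), g = Ts m a b * Hs m k := by
  obtain ⟨a, b, hab⟩ := smul_param_some g hg h1 0 0
  have hg' : (Ts m a b)⁻¹ * g ∈ Cfsg.Sz F m :=
    Subgroup.mul_mem _ (Subgroup.inv_mem _ (Ts_mem hF a b)) hg
  have h1' : ((Ts m a b)⁻¹ * g) • param (F := F) m none = param m none := by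
    rw [mul_smul, h1, inv_smul_eq_iff, Ts_smul_inf]
  have h0' : ((Ts m a b)⁻¹ * g) • param (F := F) m (some (0, 0)) = param m (some (0, 0)) := by
    rw [mul_smul, hab, inv_smul_eq_iff, Ts_smul_zero hF]
  obtain ⟨k, hk⟩ := stab_inf_zero hm hF _ hg' h1' h0'
  refine ⟨a, b, k, ?_⟩
  rw [← hk]
  group

theorem Ts_Hs_injective (hF : Fintype.card F = 2 ^ (2 * m + 1)) {a b a' b' : F} {k k' : Fˣ}
    (h : Ts m a b * Hs m k = Ts m a' b' * Hs m k') : a = a' ∧ b = b' ∧ k = k' := by
  have e1 := congrArg (fun g : SpecialLinearGroup (Fin 4) F => g • param (F := F) m (some (0, 0))) h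
  simp only [mul_smul, Hs_smul_zero hF, Ts_smul_zero hF] at e1
  have e2 := param_injective m e1
  simp only [Option.some.injEq, Prod.mk.injEq] at e2
  obtain ⟨rfl, rfl⟩ := e2
  refine ⟨rfl, rfl, ?_⟩
  have h' : Hs m k = Hs m k' := mul_left_cancel h
  have e3 := congrArg (fun g : SpecialLinearGroup (Fin 4) F => g • param (F := F) m (some (1, 0))) h'
  simp only [Hs_smul_some hF] at e3
  have e4 := param_injective m e3
  simp only [mul_one, mul_zero, Option.some.injEq, Prod.mk.injEq, and_true] at e4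
  exact Units.ext e4

/-- the Suzuki group is transitive on the ovoid -/
theorem exists_smul_inf_eq (hF : Fintype.card F = 2 ^ (2 * m + 1)) (o : Option (F × F)) :
    ∃ g ∈ Cfsg.Sz F m, g • param (F := F) m none = param m o := by
  rcases o with _ | ⟨a, b⟩
  · exact ⟨1, Subgroup.one_mem _, one_smul _ _⟩
  · refine ⟨Ts m a b * ws, Subgroup.mul_mem _ (Ts_mem hF a b) (ws_mem hF), ?_⟩
    rw [mul_smul, ws_smul_inf, Ts_smul_zero hF]

theorem pointInf_eq : Cfsg.suzukiPointInfinity F = param m none := rfl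

theorem pointZero_eq : Cfsg.suzukiPointZero F = param m (some (0, 0)) := by
  unfold Cfsg.suzukiPointZero
  show _ = Projectivization.mk F (ovVec m 0 0) (ovVec_ne_zero m 0 0)
  congr 1
  ext i
  fin_cases i <;> simp [ovVec]

/-- the stabiliser of `∞` has `q² (q - 1)` elements -/
theorem card_stab_inf (hm : 1 ≤ m) (hF : Fintype.card F = 2 ^ (2 * m + 1)) :
    Nat.card (MulAction.stabilizer (Cfsg.Sz F m) (Cfsg.suzukiPointInfinity F)) =
      Fintype.card F ^ 2 * (Fintype.card F - 1) := by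
  have e : (F × F) × Fˣ ≃ MulAction.stabilizer (Cfsg.Sz F m) (Cfsg.suzukiPointInfinity F) :=
    Equiv.ofBijective (fun p => ⟨⟨Ts m p.1.1 p.1.2 * Hs m p.2,
      Subgroup.mul_mem _ (Ts_mem hF _ _) (Hs_mem hF _)⟩, by
        rw [MulAction.mem_stabilizer_iff, Subgroup.mk_smul, pointInf_eq (m := m), mul_smul,
          Hs_smul_inf, Ts_smul_inf]⟩) (by
      constructor
      · rintro ⟨⟨a, b⟩, k⟩ ⟨⟨a', b'⟩, k'⟩ h
        have h' : Ts m a b * Hs m k = Ts m a' b' * Hs m k' :=
          congrArg (fun x : MulAction.stabilizer (Cfsg.Sz F m) (Cfsg.suzukiPointInfinity F) =>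
            ((x : Cfsg.Sz F m) : SpecialLinearGroup (Fin 4) F)) h
        obtain ⟨rfl, rfl, rfl⟩ := Ts_Hs_injective hF h'
        rfl
      · rintro ⟨⟨g, hg⟩, hg1⟩
        rw [MulAction.mem_stabilizer_iff, Subgroup.mk_smul, pointInf_eq (m := m)] at hg1
        obtain ⟨a, b, k, rfl⟩ := stab_inf hm hF g hg hg1
        exact ⟨⟨⟨a, b⟩, k⟩, rfl⟩)
  rw [← Nat.card_congr e, Nat.card_prod, Nat.card_prod, Nat.card_units, Nat.card_eq_fintype_card]
  ring

/-- the order of the Suzuki group -/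
theorem card_Sz (hm : 1 ≤ m) (hF : Fintype.card F = 2 ^ (2 * m + 1)) :
    Nat.card (Cfsg.Sz F m) =
      Fintype.card F ^ 2 * (Fintype.card F ^ 2 + 1) * (Fintype.card F - 1) := by
  have h1 := Subgroup.card_mul_index
    (MulAction.stabilizer (Cfsg.Sz F m) (Cfsg.suzukiPointInfinity F))
  rw [MulAction.index_stabilizer, card_stab_inf hm hF] at h1
  have horb : MulAction.orbit (Cfsg.Sz F m) (Cfsg.suzukiPointInfinity F) = Cfsg.suzukiOvoid F m := by
    ext p
    constructor
    · rintro ⟨⟨g, hg⟩, rfl⟩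
      obtain ⟨o', ho'⟩ := smul_mem_ovoid g hg none
      rw [← range_param]
      exact ⟨o', ho'.symm⟩
    · intro hp
      rw [← range_param] at hp
      obtain ⟨o, rfl⟩ := hp
      obtain ⟨g, hg, hgo⟩ := exists_smul_inf_eq hF o
      exact ⟨⟨g, hg⟩, hgo⟩
  rw [horb, ← Nat.card_coe_set_eq, Cfsg.Agent.S0326.result] at h1
  rw [← h1]
  ring

end Cfsg.Agent.helper11.Sz
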