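import Mathlib
import Cfsg.Agent.Lib_helper11_Sz5

set_option autoImplicit false

/-!
# Suzuki groups, part 6: faithfulness and the group laws of `T(a, b)`, `H(κ)`
-/

namespace Cfsg.Agent.helper11.Sz

open Matrix Projectivization Cfsg.Agent.S0326

variable {F : Type*} [Field F] [CharP F 2] [Fintype F] {m : ℕ}

omit [CharP F 2] [Fintype F] in
theorem Hm_one : Hm m (1 : F) = 1 := by
  rw [Hm]
  simp only [one_pow, inv_one]
  ext i j
  fin_cases i <;> fin_cases j <;> simp [Matrix.diagonal]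

omit [Fintype F] in
theorem Hs_one : Hs m (1 : Fˣ) = (1 : SpecialLinearGroup (Fin 4) F) := by
  apply Subtype.ext
  rw [coe_Hs]
  simp [Hm_one]

/-- the action on the ovoid is faithful -/
theorem eq_one_of_fix (hm : 1 ≤ m) (hF : Fintype.card F = 2 ^ (2 * m + 1))
    (g : SpecialLinearGroup (Fin 4) F) (hg : g ∈ Cfsg.Sz F m)
    (h : ∀ o : Option (F × F), g • param m o = param m o) : g = 1 := by
  obtain ⟨k, rfl⟩ := stab_inf_zero hm hF g hg (h none) (h (some (0, 0)))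
  have h1 := h (some (1, 0))
  rw [Hs_smul_some hF] at h1
  have h2 := param_injective m h1
  simp only [mul_one, mul_zero, Option.some.injEq, Prod.mk.injEq, and_true] at h2
  have : k = 1 := Units.ext h2
  rw [this, Hs_one]

theorem eq_of_smul_eq (hm : 1 ≤ m) (hF : Fintype.card F = 2 ^ (2 * m + 1))
    (g g' : SpecialLinearGroup (Fin 4) F) (hg : g ∈ Cfsg.Sz F m) (hg' : g' ∈ Cfsg.Sz F m)
    (h : ∀ o : Option (F × F), g • param m o = g' • param m o) : g = g' := by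
  have h1 : g'⁻¹ * g = 1 := by
    apply eq_one_of_fix hm hF _ (Subgroup.mul_mem _ (Subgroup.inv_mem _ hg') hg)
    intro o
    rw [mul_smul, h o, inv_smul_smul]
  have := congrArg (fun x => g' * x) h1
  simpa using this

theorem Ts_mul (hm : 1 ≤ m) (hF : Fintype.card F = 2 ^ (2 * m + 1)) (a b a' b' : F) :
    Ts m a b * Ts m a' b' = Ts m (a + a') (b + b' + th F m a * a') := by
  apply eq_of_smul_eq hm hF _ _ (Subgroup.mul_mem _ (Ts_mem hF _ _) (Ts_mem hF _ _)) (Ts_mem hF _ _)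
  rintro (_ | ⟨x, y⟩)
  · rw [mul_smul, Ts_smul_inf, Ts_smul_inf, Ts_smul_inf]
  · rw [mul_smul, Ts_smul_some hF, Ts_smul_some hF, Ts_smul_some hF]
    congr 3
    · ring
    · rw [map_add]; ring

theorem Ts_zero (hm : 1 ≤ m) (hF : Fintype.card F = 2 ^ (2 * m + 1)) :
    Ts m (0 : F) 0 = 1 := by
  apply eq_of_smul_eq hm hF _ _ (Ts_mem hF _ _) (Subgroup.one_mem _)
  rintro (_ | ⟨x, y⟩)
  · rw [Ts_smul_inf, one_smul]
  · rw [Ts_smul_some hF, one_smul]
    simp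

theorem Ts_inv (hm : 1 ≤ m) (hF : Fintype.card F = 2 ^ (2 * m + 1)) (a b : F) :
    (Ts m a b)⁻¹ = Ts m a (b + th F m a * a) := by
  rw [inv_eq_iff_mul_eq_one, Ts_mul hm hF, ← Ts_zero hm hF]
  congr 1
  · exact CharTwo.add_self_eq_zero a
  · have h2 : ∀ z : F, z + z = 0 := CharTwo.add_self_eq_zero
    grind

theorem Hs_mul (hm : 1 ≤ m) (hF : Fintype.card F = 2 ^ (2 * m + 1)) (k k' : Fˣ) :
    Hs m k * Hs m k' = Hs m (k * k') := by
  apply eq_of_smul_eq hm hF _ _ (Subgroup.mul_mem _ (Hs_mem hF _) (Hs_mem hF _)) (Hs_mem hF _)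
  rintro (_ | ⟨x, y⟩)
  · rw [mul_smul, Hs_smul_inf, Hs_smul_inf, Hs_smul_inf]
  · rw [mul_smul, Hs_smul_some hF, Hs_smul_some hF, Hs_smul_some hF]
    congr 3
    · rw [Units.val_mul]; ring
    · rw [Units.val_mul, map_mul]; ring

theorem Hs_inv (hm : 1 ≤ m) (hF : Fintype.card F = 2 ^ (2 * m + 1)) (k : Fˣ) :
    (Hs m k)⁻¹ = Hs m k⁻¹ := by
  rw [inv_eq_iff_mul_eq_one, Hs_mul hm hF, mul_inv_cancel, Hs_one]

theorem Hs_Ts (hm : 1 ≤ m) (hF : Fintype.card F = 2 ^ (2 * m + 1)) (k : Fˣ) (a b : F) :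
    Hs m k * Ts m a b = Ts m (k * a) (th F m k * k * b) * Hs m k := by
  apply eq_of_smul_eq hm hF _ _ (Subgroup.mul_mem _ (Hs_mem hF _) (Ts_mem hF _ _))
    (Subgroup.mul_mem _ (Ts_mem hF _ _) (Hs_mem hF _))
  rintro (_ | ⟨x, y⟩)
  · rw [mul_smul, mul_smul, Hs_smul_inf, Ts_smul_inf, Hs_smul_inf, Ts_smul_inf]
  · rw [mul_smul, mul_smul, Ts_smul_some hF, Hs_smul_some hF, Hs_smul_some hF, Ts_smul_some hF]
    congr 3
    · ring
    · rw [map_mul]; ring

/-- conjugation of `T(a, b)` by `H(κ)` -/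
theorem Hs_Ts_conj (hm : 1 ≤ m) (hF : Fintype.card F = 2 ^ (2 * m + 1)) (k : Fˣ) (a b : F) :
    Hs m k * Ts m a b * (Hs m k)⁻¹ = Ts m (k * a) (th F m k * k * b) := by
  rw [Hs_Ts hm hF, mul_assoc, mul_inv_cancel, mul_one]

end Cfsg.Agent.helper11.Sz
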