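import Mathlib
import Cfsg.Agent.Lib_helper11_Sz6

set_option autoImplicit false

/-!
# Suzuki groups, part 7: double transitivity, Bruhat decomposition, the symplectic form
-/

namespace Cfsg.Agent.helper11.Sz

open Matrix Projectivization Cfsg.Agent.S0326

variable {F : Type*} [Field F] [CharP F 2] [Fintype F] {m : ℕ}

theorem two_trans (hF : Fintype.card F = 2 ^ (2 * m + 1)) (o₀ o₁ : Option (F × F))
    (h : o₀ ≠ o₁) :
    ∃ g ∈ Cfsg.Sz F m, g • param m o₀ = param m none ∧ g • param m o₁ = param m (some (0, 0)) := by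
  obtain ⟨g₁, hg₁, h1⟩ := exists_smul_inf_eq hF o₀
  have hg₁' : g₁⁻¹ ∈ Cfsg.Sz F m := Subgroup.inv_mem _ hg₁
  have h1' : g₁⁻¹ • param m o₀ = param m none := by rw [inv_smul_eq_iff, h1]
  obtain ⟨o', ho'⟩ := smul_mem_ovoid g₁⁻¹ hg₁' o₁
  rcases o' with _ | ⟨a, b⟩
  · exfalso
    rw [← h1'] at ho'
    exact h (param_injective m (MulAction.injective _ ho')).symm
  · refine ⟨(Ts m a b)⁻¹ * g₁⁻¹, Subgroup.mul_mem _ (Subgroup.inv_mem _ (Ts_mem hF a b)) hg₁', ?_, ?_⟩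
    · rw [mul_smul, h1', inv_smul_eq_iff, Ts_smul_inf]
    · rw [mul_smul, ho', inv_smul_eq_iff, Ts_smul_zero hF]

/-- Bruhat decomposition -/
theorem bruhat (hm : 1 ≤ m) (hF : Fintype.card F = 2 ^ (2 * m + 1))
    (g : SpecialLinearGroup (Fin 4) F) (hg : g ∈ Cfsg.Sz F m) :
    (∃ (a b : F) (k : Fˣ), g = Ts m a b * Hs m k) ∨
      (∃ (a b a' b' : F) (k : Fˣ), g = Ts m a b * ws * Ts m a' b' * Hs m k) := by
  obtain ⟨o', ho'⟩ := smul_mem_ovoid g hg none
  rcases o' with _ | ⟨a, b⟩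
  · left
    exact stab_inf hm hF g hg ho'
  · right
    have hg' : (Ts m a b * ws)⁻¹ * g ∈ Cfsg.Sz F m :=
      Subgroup.mul_mem _ (Subgroup.inv_mem _ (Subgroup.mul_mem _ (Ts_mem hF a b) (ws_mem hF))) hg
    have h1 : ((Ts m a b * ws)⁻¹ * g) • param (F := F) m none = param m none := by
      rw [mul_smul, ho', inv_smul_eq_iff, mul_smul, ws_smul_inf, Ts_smul_zero hF]
    obtain ⟨a', b', k, hk⟩ := stab_inf hm hF _ hg' h1
    refine ⟨a, b, a', b', k, ?_⟩
    have : g = (Ts m a b * ws) * ((Ts m a b * ws)⁻¹ * g) := by group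
    rw [this, hk]
    group

omit [Fintype F] in
theorem Tm_form (a b : F) :
    (Tm m a b)ᵀ * Cfsg.suzukiForm F * Tm m a b = Cfsg.suzukiForm F := by
  have h2 : ∀ z : F, z + z = 0 := CharTwo.add_self_eq_zero
  ext i j
  fin_cases i <;> fin_cases j <;>
    simp [Tm, Cfsg.suzukiForm, Matrix.mul_apply, Fin.sum_univ_four, h2] <;> grind

omit [CharP F 2] [Fintype F] in
theorem Hm_form {k : F} (hk : k ≠ 0) :
    (Hm m k)ᵀ * Cfsg.suzukiForm F * Hm m k = Cfsg.suzukiForm F := by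
  ext i j
  fin_cases i <;> fin_cases j <;>
    simp [Hm, Cfsg.suzukiForm, Matrix.mul_apply, Matrix.diagonal, hk]

omit [CharP F 2] [Fintype F] in
theorem wm_form :
    (wm : Matrix (Fin 4) (Fin 4) F)ᵀ * Cfsg.suzukiForm F * wm = Cfsg.suzukiForm F := by
  ext i j
  fin_cases i <;> fin_cases j <;>
    simp [wm, Cfsg.suzukiForm, Matrix.mul_apply, Fin.sum_univ_four]

omit [CharP F 2] [Fintype F] in
theorem form_mul {A B J : Matrix (Fin 4) (Fin 4) F} (hA : Aᵀ * J * A = J) (hB : Bᵀ * J * B = J) :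
    (A * B)ᵀ * J * (A * B) = J := by
  rw [Matrix.transpose_mul]
  calc Bᵀ * Aᵀ * J * (A * B) = Bᵀ * (Aᵀ * J * A) * B := by simp only [Matrix.mul_assoc]
    _ = J := by rw [hA, hB]

/-- every element of the Suzuki group preserves the symplectic form -/
theorem form_of_mem (hm : 1 ≤ m) (hF : Fintype.card F = 2 ^ (2 * m + 1))
    (g : SpecialLinearGroup (Fin 4) F) (hg : g ∈ Cfsg.Sz F m) :
    (g : Matrix (Fin 4) (Fin 4) F)ᵀ * Cfsg.suzukiForm F * (g : Matrix (Fin 4) (Fin 4) F) =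
      Cfsg.suzukiForm F := by
  rcases bruhat hm hF g hg with ⟨a, b, k, rfl⟩ | ⟨a, b, a', b', k, rfl⟩
  · rw [Matrix.SpecialLinearGroup.coe_mul, coe_Ts, coe_Hs]
    exact form_mul (Tm_form a b) (Hm_form k.ne_zero)
  · rw [Matrix.SpecialLinearGroup.coe_mul, Matrix.SpecialLinearGroup.coe_mul,
      Matrix.SpecialLinearGroup.coe_mul, coe_Ts, coe_Ts, coe_Hs, coe_ws]
    exact form_mul (form_mul (form_mul (Tm_form a b) wm_form) (Tm_form a' b')) (Hm_form k.ne_zero)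

end Cfsg.Agent.helper11.Sz
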