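import Mathlib
import Cfsg.Agent.Lib_helper11_Sz7

set_option autoImplicit false

/-!
# Suzuki groups, part 8: the Zassenhaus property
-/

namespace Cfsg.Agent.helper11.Sz

open Matrix Projectivization Cfsg.Agent.S0326

/-- a group containing a Klein four-group whose involutions all fix exactly one common point has no
regular normal subgroup -/
theorem no_regular_normal {G Ω : Type*} [Group G] [Finite G] [MulAction G Ω] (x₀ x₁ : Ω)
    (hx : x₀ ≠ x₁) (t₁ t₂ : G) (h1 : t₁ * t₁ = 1) (h2 : t₂ * t₂ = 1)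
    (hf1 : ∀ x, t₁ • x = x ↔ x = x₀) (hf2 : ∀ x, t₂ • x = x ↔ x = x₀)
    (hf3 : ∀ x, (t₁ * t₂) • x = x ↔ x = x₀)
    (N : Subgroup G) (hN : N.Normal) (htr : MulAction.IsPretransitive N Ω) :
    ∃ a : Ω, MulAction.stabilizer N a ≠ ⊥ := by
  by_contra hcon
  push Not at hcon
  have A : ∀ t : G, (∀ x, t • x = x ↔ x = x₀) → ∀ n ∈ N, t * n = n * t → n = 1 := by
    intro t ht n hn hcomm
    have h3 : t • (n • x₀) = n • x₀ := by
      rw [← mul_smul, hcomm, mul_smul, (ht x₀).mpr rfl]
    have h4 := (ht _).mp h3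
    have h5 : (⟨n, hn⟩ : N) ∈ MulAction.stabilizer N x₀ := by
      rw [MulAction.mem_stabilizer_iff]
      exact h4
    rw [hcon x₀, Subgroup.mem_bot] at h5
    exact congrArg Subtype.val h5
  have B : ∀ t : G, t * t = 1 → (∀ x, t • x = x ↔ x = x₀) → ∀ n ∈ N, t * n * t⁻¹ = n⁻¹ := by
    intro t htt ht
    have hti : t⁻¹ = t := inv_eq_of_mul_eq_one_left htt
    let φ : N → N := fun n =>
      ⟨n.1⁻¹ * (t * n.1 * t⁻¹), N.mul_mem (N.inv_mem n.2) (hN.conj_mem _ n.2 t)⟩
    have φinj : Function.Injective φ := by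
      intro n n' h
      have h' : n.1⁻¹ * (t * n.1 * t⁻¹) = n'.1⁻¹ * (t * n'.1 * t⁻¹) := congrArg Subtype.val h
      have h6 : t * n'.1 = n'.1 * n.1⁻¹ * t * n.1 := by
        have := congrArg (fun z => n'.1 * z * t) h'
        simp only [mul_assoc, inv_mul_cancel, mul_one, mul_inv_cancel_left] at this
        rw [mul_assoc, mul_assoc, this]
      have h7 : n'.1 * n.1⁻¹ = 1 := by
        apply A t ht _ (N.mul_mem n'.2 (N.inv_mem n.2))
        rw [← mul_assoc, h6]
        group
      apply Subtype.ext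
      have := congrArg (fun z => z * n.1) h7
      simpa using this.symm
    have φsurj := Finite.injective_iff_surjective.mp φinj
    intro n hn
    obtain ⟨n₀, h0⟩ := φsurj ⟨n, hn⟩
    have h0' : n₀.1⁻¹ * (t * n₀.1 * t⁻¹) = n := congrArg Subtype.val h0
    rw [← h0']
    rw [hti]
    have e : (n₀.1⁻¹ * (t * n₀.1 * t))⁻¹ = t⁻¹ * n₀.1⁻¹ * t⁻¹ * n₀.1 := by group
    rw [e, hti]
    calc t * (n₀.1⁻¹ * (t * n₀.1 * t)) * t = t * n₀.1⁻¹ * t * n₀.1 * (t * t) := by group
      _ = t * n₀.1⁻¹ * t * n₀.1 := by rw [htt, mul_one]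
  have C : ∀ n ∈ N, n = 1 := by
    intro n hn
    apply A (t₁ * t₂) hf3 n hn
    have e1 := B t₁ h1 hf1 n⁻¹ (N.inv_mem hn)
    have e2 := B t₂ h2 hf2 n hn
    rw [inv_inv] at e1
    calc t₁ * t₂ * n = t₁ * (t₂ * n * t₂⁻¹) * t₂ := by group
      _ = (t₁ * n⁻¹ * t₁⁻¹) * t₁ * t₂ := by rw [e2]; group
      _ = n * (t₁ * t₂) := by rw [e1]; group
  obtain ⟨n, hn⟩ := MulAction.exists_smul_eq N x₀ x₁
  have := C n.1 n.2
  apply hx
  rw [← hn]
  have h8 : n = 1 := Subtype.ext this
  rw [h8, one_smul]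

variable {F : Type*} [Field F] [CharP F 2] [Fintype F] {m : ℕ}

theorem Hs_fix_imp (hF : Fintype.card F = 2 ^ (2 * m + 1)) (k : Fˣ) (x y : F)
    (hxy : ¬ (x = 0 ∧ y = 0))
    (h : Hs m k • param m (some (x, y)) = param m (some (x, y))) : k = 1 := by
  rw [Hs_smul_some hF] at h
  have h2 := param_injective m h
  simp only [Option.some.injEq, Prod.mk.injEq] at h2
  obtain ⟨hx, hy⟩ := h2
  apply Units.ext
  rw [Units.val_one]
  by_cases hx0 : x = 0
  · have hy0 : y ≠ 0 := fun h => hxy ⟨hx0, h⟩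
    have h3 : th F m k * k = 1 := by
      apply mul_right_cancel₀ hy0
      rw [hy, one_mul]
    have h4 := congrArg (th F m) h3
    rw [map_mul, th_th hF, map_one] at h4
    have hk0 : (k : F) ≠ 0 := k.ne_zero
    have h5 : (k : F) * (th F m k * k) = 1 * (th F m k * k) := by
      rw [one_mul, h3, mul_one]
      have : (k : F) ^ 2 * th F m k = k * (th F m k * k) := by ring
      rw [this, h3, mul_one] at h4
      exact h4
    have hne : th F m (k : F) * k ≠ 0 := by rw [h3]; exact one_ne_zero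
    exact mul_right_cancel₀ hne h5
  · apply mul_right_cancel₀ hx0
    rw [hx, one_mul]

theorem Hs_injective (hF : Fintype.card F = 2 ^ (2 * m + 1)) {k k' : Fˣ}
    (h : Hs m k = Hs m k') : k = k' := by
  have h'' : Ts m (0 : F) 0 * Hs m k = Ts m 0 0 * Hs m k' := by rw [h]
  exact (Ts_Hs_injective hF h'').2.2

theorem Ts_fix_iff (hF : Fintype.card F = 2 ^ (2 * m + 1)) (a b : F) (hab : ¬ (a = 0 ∧ b = 0))
    (o : Option (F × F)) : Ts m a b • param m o = param m o ↔ o = none := by
  constructor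
  · intro h
    rcases o with _ | ⟨x, y⟩
    · rfl
    · exfalso
      rw [Ts_smul_some hF] at h
      have h2 := param_injective m h
      simp only [Option.some.injEq, Prod.mk.injEq] at h2
      obtain ⟨hx, hy⟩ := h2
      have ha : a = 0 := by
        have := congrArg (fun z => z - x) hx
        simpa using this
      apply hab
      refine ⟨ha, ?_⟩
      rw [ha, map_zero, zero_mul, add_zero] at hy
      have := congrArg (fun z => z - y) hy
      simpa using this
  · rintro rfl
    exact Ts_smul_inf a b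

end Cfsg.Agent.helper11.Sz
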