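import Mathlib
import Cfsg.Agent.Lib_helper11_Sz8

set_option autoImplicit false

/-!
# Suzuki groups, part 9: the Sylow 2-subgroup `Q = {T(a, b)}`
-/

namespace Cfsg.Agent.helper11.Sz

open Matrix Projectivization Cfsg.Agent.S0326

variable {F : Type*} [Field F] [CharP F 2] [Fintype F] {m : ℕ}

/-- `T(a, b)` as an element of the Suzuki group -/
noncomputable def tq (hF : Fintype.card F = 2 ^ (2 * m + 1)) (a b : F) : Cfsg.Sz F m :=
  ⟨Ts m a b, Ts_mem hF a b⟩

/-- `H(κ)` as an element of the Suzuki group -/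
noncomputable def hq (hF : Fintype.card F = 2 ^ (2 * m + 1)) (k : Fˣ) : Cfsg.Sz F m :=
  ⟨Hs m k, Hs_mem hF k⟩

theorem coe_tq (hF : Fintype.card F = 2 ^ (2 * m + 1)) (a b : F) :
    ((tq hF a b : Cfsg.Sz F m) : SpecialLinearGroup (Fin 4) F) = Ts m a b := rfl

theorem coe_hq (hF : Fintype.card F = 2 ^ (2 * m + 1)) (k : Fˣ) :
    ((hq hF k : Cfsg.Sz F m) : SpecialLinearGroup (Fin 4) F) = Hs m k := rfl

theorem tq_mul (hm : 1 ≤ m) (hF : Fintype.card F = 2 ^ (2 * m + 1)) (a b a' b' : F) :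
    tq hF a b * tq hF a' b' = tq hF (a + a') (b + b' + th F m a * a') :=
  Subtype.ext (Ts_mul hm hF a b a' b')

theorem tq_zero (hm : 1 ≤ m) (hF : Fintype.card F = 2 ^ (2 * m + 1)) :
    tq hF (0 : F) 0 = 1 := Subtype.ext (Ts_zero hm hF)

theorem tq_inv (hm : 1 ≤ m) (hF : Fintype.card F = 2 ^ (2 * m + 1)) (a b : F) :
    (tq hF a b)⁻¹ = tq hF a (b + th F m a * a) := Subtype.ext (Ts_inv hm hF a b)

theorem tq_injective (hF : Fintype.card F = 2 ^ (2 * m + 1)) {a b a' b' : F}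
    (h : tq hF a b = tq hF a' b') : a = a' ∧ b = b' := by
  have h1 : Ts m a b = Ts m a' b' := congrArg Subtype.val h
  have h2 : Ts m a b * Hs m 1 = Ts m a' b' * Hs m 1 := by rw [h1]
  have := Ts_Hs_injective hF h2
  exact ⟨this.1, this.2.1⟩

theorem tq_eq_one_iff (hm : 1 ≤ m) (hF : Fintype.card F = 2 ^ (2 * m + 1)) {a b : F} :
    tq hF a b = 1 ↔ a = 0 ∧ b = 0 := by
  rw [← tq_zero hm hF]
  constructor
  · exact tq_injective hF
  · rintro ⟨rfl, rfl⟩; rfl

/-- the unipotent subgroup `Q` -/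
noncomputable def Qs (hm : 1 ≤ m) (hF : Fintype.card F = 2 ^ (2 * m + 1)) :
    Subgroup (Cfsg.Sz F m) where
  carrier := {g | ∃ a b : F, g = tq hF a b}
  mul_mem' := by
    rintro _ _ ⟨a, b, rfl⟩ ⟨a', b', rfl⟩
    exact ⟨_, _, tq_mul hm hF a b a' b'⟩
  one_mem' := ⟨0, 0, (tq_zero hm hF).symm⟩
  inv_mem' := by
    rintro _ ⟨a, b, rfl⟩
    exact ⟨_, _, tq_inv hm hF a b⟩

theorem mem_Qs (hm : 1 ≤ m) (hF : Fintype.card F = 2 ^ (2 * m + 1)) (g : Cfsg.Sz F m) :
    g ∈ Qs hm hF ↔ ∃ a b : F, g = tq hF a b := Iff.rfl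

theorem tq_mem_Qs (hm : 1 ≤ m) (hF : Fintype.card F = 2 ^ (2 * m + 1)) (a b : F) :
    tq hF a b ∈ Qs hm hF := ⟨a, b, rfl⟩

theorem card_Qs (hm : 1 ≤ m) (hF : Fintype.card F = 2 ^ (2 * m + 1)) :
    Nat.card (Qs hm hF) = Fintype.card F ^ 2 := by
  have e : F × F ≃ Qs hm hF :=
    Equiv.ofBijective (fun p => ⟨tq hF p.1 p.2, tq_mem_Qs hm hF _ _⟩) (by
      constructor
      · rintro ⟨a, b⟩ ⟨a', b'⟩ h
        have h' : tq hF a b = tq hF a' b' := congrArg Subtype.val h
        obtain ⟨rfl, rfl⟩ := tq_injective hF h'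
        rfl
      · rintro ⟨_, a, b, rfl⟩
        exact ⟨(a, b), rfl⟩)
  rw [← Nat.card_congr e, Nat.card_prod, Nat.card_eq_fintype_card]
  ring

theorem tq_sq (hm : 1 ≤ m) (hF : Fintype.card F = 2 ^ (2 * m + 1)) (a b : F) :
    tq hF a b * tq hF a b = tq hF 0 (th F m a * a) := by
  rw [tq_mul hm hF]
  congr 1
  · exact CharTwo.add_self_eq_zero a
  · rw [CharTwo.add_self_eq_zero b, zero_add]

theorem tq_zero_sq (hm : 1 ≤ m) (hF : Fintype.card F = 2 ^ (2 * m + 1)) (b : F) :
    tq hF 0 b * tq hF 0 b = 1 := by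
  rw [tq_sq hm hF, map_zero, zero_mul, tq_zero hm hF]

theorem exponent_Qs (hm : 1 ≤ m) (hF : Fintype.card F = 2 ^ (2 * m + 1)) :
    Monoid.exponent (Qs hm hF) = 4 := by
  have h4 : Monoid.exponent (Qs hm hF) ∣ 4 := by
    apply Monoid.exponent_dvd_of_forall_pow_eq_one
    rintro ⟨_, a, b, rfl⟩
    apply Subtype.ext
    show (tq hF a b) ^ 4 = 1
    have : (tq hF a b) ^ 4 = (tq hF a b * tq hF a b) * (tq hF a b * tq hF a b) := by
      have e4 : ∀ z : Cfsg.Sz F m, z ^ 4 = (z * z) * (z * z) := by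
        intro z
        rw [← pow_two z, ← pow_add]
      exact e4 _
    rw [this, tq_sq hm hF, tq_zero_sq hm hF]
  have h2 : ¬ Monoid.exponent (Qs hm hF) ∣ 2 := by
    intro h
    have h1 := Monoid.pow_exponent_eq_one (⟨tq hF 1 0, tq_mem_Qs hm hF 1 0⟩ : Qs hm hF)
    obtain ⟨c, hc⟩ := h
    have h3 : (⟨tq hF 1 0, tq_mem_Qs hm hF 1 0⟩ : Qs hm hF) ^ 2 = 1 := by
      rw [hc, pow_mul, h1, one_pow]
    have h5 : (tq hF (1 : F) 0) ^ 2 = 1 := congrArg Subtype.val h3
    rw [pow_two, tq_sq hm hF, tq_eq_one_iff hm hF] at h5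
    simp at h5
  have h4' : Monoid.exponent (Qs hm hF) ∣ 2 ^ 2 := h4
  rw [Nat.dvd_prime_pow Nat.prime_two] at h4'
  obtain ⟨k, hk, hk2⟩ := h4'
  interval_cases k
  · exfalso; apply h2; rw [hk2]; norm_num
  · exfalso; apply h2; rw [hk2]; norm_num
  · rw [hk2]; norm_num

/-- there is an element not fixed by `θ` -/
theorem exists_th_ne (hm : 1 ≤ m) (hF : Fintype.card F = 2 ^ (2 * m + 1)) :
    ∃ c : F, c ≠ 0 ∧ c ≠ 1 ∧ th F m c ≠ c := by
  have hcard : 8 ≤ Fintype.card F := by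
    rw [hF]
    calc 8 = 2 ^ 3 := by norm_num
      _ ≤ 2 ^ (2 * m + 1) := Nat.pow_le_pow_right (by norm_num) (by omega)
  obtain ⟨c, hc0, hc1⟩ : ∃ c : F, c ≠ 0 ∧ c ≠ 1 := by
    by_contra hcon
    push Not at hcon
    have : Fintype.card F ≤ 2 := by
      classical
      calc Fintype.card F = (Finset.univ : Finset F).card := rfl
        _ ≤ ({0, 1} : Finset F).card := by
          apply Finset.card_le_card
          intro x _
          by_cases hx : x = 0
          · simp [hx]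
          · simp [hcon x hx]
        _ ≤ 2 := Finset.card_le_two
    omega
  refine ⟨c, hc0, hc1, ?_⟩
  intro h
  have h2 := congrArg (th F m) h
  rw [th_th hF, h] at h2
  have h3 : c * (c - 1) = 0 := by rw [mul_sub, mul_one, ← pow_two, h2, sub_self]
  rcases mul_eq_zero.mp h3 with h4 | h4
  · exact hc0 h4
  · exact hc1 (sub_eq_zero.mp h4)

/-- `c ↦ c θ(c)` is a bijection of the field -/
theorem mul_th_surjective (hF : Fintype.card F = 2 ^ (2 * m + 1)) :
    Function.Surjective (fun c : F => c * th F m c) := by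
  apply Finite.injective_iff_surjective.mp
  intro c d h
  simp only at h
  by_cases hd : d = 0
  · rw [hd, map_zero, mul_zero] at h
    rcases mul_eq_zero.mp h with h | h
    · rw [h, hd]
    · rw [th_eq_zero.mp h, hd]
  · have hθd : th F m d ≠ 0 := fun h => hd (th_eq_zero.mp h)
    set k := c / d with hk
    have hk1 : k * th F m k = 1 := by
      rw [hk, map_div₀]
      field_simp
      exact h
    have h4 := congrArg (th F m) hk1
    rw [map_mul, th_th hF, map_one] at h4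
    have h5 : k * (k * th F m k) = 1 := by
      rw [← h4]; ring
    rw [hk1, mul_one] at h5
    rw [hk] at h5
    field_simp at h5
    exact h5

/-- the subgroup `Z = {T(0, b)}` -/
theorem center_Qs (hm : 1 ≤ m) (hF : Fintype.card F = 2 ^ (2 * m + 1)) (x : Qs hm hF) :
    x ∈ Subgroup.center (Qs hm hF) ↔ ∃ b : F, (x : Cfsg.Sz F m) = tq hF 0 b := by
  rw [Subgroup.mem_center_iff]
  constructor
  · intro h
    obtain ⟨x, a, b, rfl⟩ := x
    obtain ⟨c, hc0, hc1, hc⟩ := exists_th_ne hm hF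
    have h1 := h ⟨tq hF 1 0, tq_mem_Qs hm hF 1 0⟩
    have h1' : tq hF 1 0 * tq hF a b = tq hF a b * tq hF 1 0 := congrArg Subtype.val h1
    rw [tq_mul hm hF, tq_mul hm hF] at h1'
    have e1 := (tq_injective hF h1').2
    have h2 := h ⟨tq hF c 0, tq_mem_Qs hm hF c 0⟩
    have h2' : tq hF c 0 * tq hF a b = tq hF a b * tq hF c 0 := congrArg Subtype.val h2
    rw [tq_mul hm hF, tq_mul hm hF] at h2'
    have e2 := (tq_injective hF h2').2
    simp only [map_one, one_mul, zero_add, add_zero, mul_one] at e1 e2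
    have e3 : a = th F m a := by
      have := congrArg (fun z => z - b) e1
      simpa using this
    have e4 : th F m c * a = th F m a * c := by
      have := congrArg (fun z => z - b) e2
      simpa using this
    rw [← e3] at e4
    have e5 : a * (th F m c - c) = 0 := by rw [mul_sub, mul_comm a (th F m c), e4, sub_self]
    rcases mul_eq_zero.mp e5 with h6 | h6
    · exact ⟨b, by rw [h6]⟩
    · exact absurd (sub_eq_zero.mp h6) hc
  · rintro ⟨b, hb⟩ ⟨_, a', b', rfl⟩
    apply Subtype.ext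
    show tq hF a' b' * (x : Cfsg.Sz F m) = (x : Cfsg.Sz F m) * tq hF a' b'
    rw [hb, tq_mul hm hF, tq_mul hm hF]
    congr 1
    · ring
    · rw [map_zero, zero_mul, mul_zero]; ring

theorem commutator_Qs (hm : 1 ≤ m) (hF : Fintype.card F = 2 ^ (2 * m + 1)) (x : Qs hm hF) :
    x ∈ commutator (Qs hm hF) ↔ ∃ b : F, (x : Cfsg.Sz F m) = tq hF 0 b := by
  have h2 : ∀ z : F, z + z = 0 := CharTwo.add_self_eq_zero
  have key : ∀ a b a' b' : F, tq hF a b * tq hF a' b' * (tq hF a b)⁻¹ * (tq hF a' b')⁻¹ =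
      tq hF 0 (th F m a * a' + th F m a' * a) := by
    intro a b a' b'
    have e : tq hF a b * tq hF a' b' =
        tq hF 0 (th F m a * a' + th F m a' * a) * (tq hF a' b' * tq hF a b) := by
      rw [tq_mul hm hF, tq_mul hm hF, tq_mul hm hF]
      congr 1
      · ring
      · rw [map_zero, zero_mul, add_zero]
        grind
    rw [e]
    group
  constructor
  · intro h
    have hle : commutator (Qs hm hF) ≤
        (Subgroup.center (Qs hm hF)) := by
      rw [commutator_def, Subgroup.commutator_le]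
      rintro ⟨_, a, b, rfl⟩ _ ⟨_, a', b', rfl⟩ _
      rw [center_Qs hm hF]
      refine ⟨th F m a * a' + th F m a' * a, ?_⟩
      rw [commutatorElement_def]
      exact key a b a' b'
    exact (center_Qs hm hF x).mp (hle h)
  · rintro ⟨b, hb⟩
    obtain ⟨u, hu0, hu1, hu⟩ := exists_th_ne hm hF
    have hw : th F m u + u ≠ 0 := by
      intro h
      apply hu
      have := congrArg (fun z => z + u) h
      simp only [add_assoc, h2, add_zero, zero_add] at this
      exact this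
    obtain ⟨c, hc⟩ := mul_th_surjective (m := m) hF (b / (th F m u + u))
    simp only at hc
    have hmem := Subgroup.commutator_mem_commutator
      (Subgroup.mem_top (⟨tq hF (c * u) 0, tq_mem_Qs hm hF _ _⟩ : Qs hm hF))
      (Subgroup.mem_top (⟨tq hF c 0, tq_mem_Qs hm hF _ _⟩ : Qs hm hF))
    rw [commutatorElement_def] at hmem
    have hx : x = (⟨tq hF (c * u) 0, tq_mem_Qs hm hF _ _⟩ : Qs hm hF) *
        ⟨tq hF c 0, tq_mem_Qs hm hF _ _⟩ * (⟨tq hF (c * u) 0, tq_mem_Qs hm hF _ _⟩ : Qs hm hF)⁻¹ *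
        (⟨tq hF c 0, tq_mem_Qs hm hF _ _⟩ : Qs hm hF)⁻¹ := by
      apply Subtype.ext
      rw [hb]
      show _ = tq hF (c * u) 0 * tq hF c 0 * (tq hF (c * u) 0)⁻¹ * (tq hF c 0)⁻¹
      rw [key]
      congr 1
      rw [map_mul]
      have : th F m c * th F m u * c + th F m c * (c * u) = c * th F m c * (th F m u + u) := by ring
      rw [this, hc]
      field_simp
    rw [hx]
    exact hmem

theorem center_eq_commutator_Qs (hm : 1 ≤ m) (hF : Fintype.card F = 2 ^ (2 * m + 1)) :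
    Subgroup.center (Qs hm hF) = commutator (Qs hm hF) := by
  ext x
  rw [center_Qs, commutator_Qs]

theorem card_center_Qs (hm : 1 ≤ m) (hF : Fintype.card F = 2 ^ (2 * m + 1)) :
    Nat.card (Subgroup.center (Qs hm hF)) = Fintype.card F := by
  have e : F ≃ Subgroup.center (Qs hm hF) :=
    Equiv.ofBijective (fun b => ⟨⟨tq hF 0 b, tq_mem_Qs hm hF _ _⟩,
        (center_Qs hm hF _).mpr ⟨b, rfl⟩⟩) (by
      constructor
      · intro b b' h
        have h' : tq hF 0 b = tq hF 0 b' :=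
          congrArg (fun z : Subgroup.center (Qs hm hF) => ((z : Qs hm hF) : Cfsg.Sz F m)) h
        exact (tq_injective hF h').2
      · rintro ⟨x, hx⟩
        obtain ⟨b, hb⟩ := (center_Qs hm hF x).mp hx
        refine ⟨b, ?_⟩
        apply Subtype.ext
        apply Subtype.ext
        exact hb.symm)
  rw [← Nat.card_congr e, Nat.card_eq_fintype_card]

end Cfsg.Agent.helper11.Sz
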