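import Mathlib
import Cfsg.Agent.Lib_helper11_Sz9

set_option autoImplicit false

/-!
# Suzuki groups, part 10: conjugation inside the Borel subgroup, real 2-elements
-/

namespace Cfsg.Agent.helper11.Sz

open Matrix Projectivization Cfsg.Agent.S0326

variable {F : Type*} [Field F] [CharP F 2] [Fintype F] {m : ℕ}

theorem hq_mul (hm : 1 ≤ m) (hF : Fintype.card F = 2 ^ (2 * m + 1)) (k k' : Fˣ) :
    hq hF k * hq hF k' = hq (m := m) hF (k * k') := Subtype.ext (Hs_mul hm hF k k')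

theorem hq_one (hF : Fintype.card F = 2 ^ (2 * m + 1)) : hq (m := m) hF (1 : Fˣ) = 1 :=
  Subtype.ext Hs_one

theorem hq_inv (hm : 1 ≤ m) (hF : Fintype.card F = 2 ^ (2 * m + 1)) (k : Fˣ) :
    (hq hF k)⁻¹ = hq (m := m) hF k⁻¹ := Subtype.ext (Hs_inv hm hF k)

theorem hq_tq_conj (hm : 1 ≤ m) (hF : Fintype.card F = 2 ^ (2 * m + 1)) (k : Fˣ) (a b : F) :
    hq hF k * tq hF a b * (hq hF k)⁻¹ = tq hF (k * a) (th F m k * k * b) :=
  Subtype.ext (Hs_Ts_conj hm hF k a b)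

theorem tq_tq_conj (hm : 1 ≤ m) (hF : Fintype.card F = 2 ^ (2 * m + 1)) (a' b' a b : F) :
    tq hF a' b' * tq hF a b * (tq hF a' b')⁻¹ =
      tq hF a (b + th F m a' * a + th F m a * a') := by
  have h2 : ∀ z : F, z + z = 0 := CharTwo.add_self_eq_zero
  rw [tq_inv hm hF, tq_mul hm hF, tq_mul hm hF]
  congr 1
  · rw [add_assoc, add_comm a a', ← add_assoc, h2, zero_add]
  · rw [map_add]
    grind

/-- an element of the Suzuki group fixing `∞` is `T(a, b) H(κ)` -/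
theorem stab_inf' (hm : 1 ≤ m) (hF : Fintype.card F = 2 ^ (2 * m + 1)) (c : Cfsg.Sz F m)
    (h : (c : SpecialLinearGroup (Fin 4) F) • param (F := F) m none = param m none) :
    ∃ (a b : F) (k : Fˣ), c = tq hF a b * hq hF k := by
  obtain ⟨a, b, k, hk⟩ := stab_inf hm hF c.1 c.2 h
  exact ⟨a, b, k, Subtype.ext hk⟩

/-- if `T(a, b) ≠ 1` is conjugate to its inverse then `a = 0` -/
theorem conj_inv_imp (hm : 1 ≤ m) (hF : Fintype.card F = 2 ^ (2 * m + 1)) (a b : F)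
    (hab : ¬ (a = 0 ∧ b = 0)) (c : Cfsg.Sz F m)
    (hc : c * tq hF a b * c⁻¹ = (tq hF a b)⁻¹) : a = 0 := by
  have h2 : ∀ z : F, z + z = 0 := CharTwo.add_self_eq_zero
  have h20 : (2 : F) = 0 := CharTwo.two_eq_zero
  -- `c` fixes `∞`
  obtain ⟨o, ho⟩ := smul_mem_ovoid c.1 c.2 none
  have h1 : Ts m a b • param m o = param m o := by
    have e1 : (c * tq hF a b * c⁻¹ : Cfsg.Sz F m) • (c • param (F := F) m none) =
        c • param (F := F) m none := by
      rw [← mul_smul, inv_mul_cancel_right, mul_smul]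
      congr 1
      exact Ts_smul_inf a b
    rw [hc, inv_smul_eq_iff] at e1
    have e2 : (c • param (F := F) m none) = param m o := ho
    rw [e2] at e1
    exact e1.symm
  have ho' : o = none := (Ts_fix_iff hF a b hab o).mp h1
  rw [ho'] at ho
  obtain ⟨a', b', k, rfl⟩ := stab_inf' hm hF c ho
  have e3 : tq hF a' b' * hq hF k * tq hF a b * (tq hF a' b' * hq hF k)⁻¹ =
      tq hF a' b' * (hq hF k * tq hF a b * (hq hF k)⁻¹) * (tq hF a' b')⁻¹ := by group
  rw [e3, hq_tq_conj hm hF, tq_tq_conj hm hF, tq_inv hm hF] at hc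
  obtain ⟨e4, e5⟩ := tq_injective hF hc
  by_contra ha
  have hk : (k : F) = 1 := by
    apply mul_right_cancel₀ ha
    rw [e4, one_mul]
  rw [hk, map_one, one_mul, one_mul, one_mul] at e5
  -- `θ(a') a + θ(a) a' = θ(a) a`
  have e6 : th F m a' * a + th F m a * a' = th F m a * a := by
    have := congrArg (fun z => z + b) e5
    have l : b + th F m a' * a + th F m a * a' + b = th F m a' * a + th F m a * a' := by grind
    have r : b + th F m a * a + b = th F m a * a := by grind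
    rw [l, r] at this
    exact this
  have e7 := congrArg (th F m) e6
  simp only [map_add, map_mul, th_th hF] at e7
  have hθa : th F m a ≠ 0 := fun h => ha (th_eq_zero.mp h)
  have e8 : a * th F m a * (a' * (a' + a)) = 0 := by
    linear_combination a * e7 + a ^ 2 * e6 + (-a ^ 3 * th F m a' + a ^ 3 * th F m a) * h20
  rcases mul_eq_zero.mp e8 with h | h
  · exact (mul_ne_zero ha hθa) h
  · rcases mul_eq_zero.mp h with h | h
    · rw [h, map_zero, zero_mul, mul_zero, zero_add] at e6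
      exact (mul_ne_zero hθa ha) e6.symm
    · have h' : a' = a := by
        have := congrArg (fun z => z + a) h
        simp only [add_assoc, h2, add_zero, zero_add] at this
        exact this
      rw [h', h2] at e6
      exact (mul_ne_zero hθa ha) e6.symm

omit [Field F] [CharP F 2] [Fintype F] in
theorem factorization_two' :
    ((2 ^ (2 * m + 1)) ^ 2 * ((2 ^ (2 * m + 1)) ^ 2 + 1) * (2 ^ (2 * m + 1) - 1)).factorization 2 =
      2 * (2 * m + 1) := by
  have h1 : (2 ^ (2 * m + 1)) ^ 2 * ((2 ^ (2 * m + 1)) ^ 2 + 1) * (2 ^ (2 * m + 1) - 1) =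
      2 ^ (2 * (2 * m + 1)) * (((2 ^ (2 * m + 1)) ^ 2 + 1) * (2 ^ (2 * m + 1) - 1)) := by
    rw [← pow_mul, mul_comm (2 * m + 1) 2, mul_assoc]
  have hq : 2 ≤ 2 ^ (2 * m + 1) := by
    calc 2 = 2 ^ 1 := by norm_num
      _ ≤ 2 ^ (2 * m + 1) := Nat.pow_le_pow_right (by norm_num) (by omega)
  have hodd : ¬ 2 ∣ ((2 ^ (2 * m + 1)) ^ 2 + 1) * (2 ^ (2 * m + 1) - 1) := by
    rw [Nat.Prime.dvd_mul Nat.prime_two]
    rintro (h | h)
    · have : 2 ∣ (2 ^ (2 * m + 1)) ^ 2 := by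
        rw [← pow_mul]; exact dvd_pow_self 2 (by omega)
      omega
    · have : 2 ∣ 2 ^ (2 * m + 1) := dvd_pow_self 2 (by omega)
      omega
  have hne : ((2 ^ (2 * m + 1)) ^ 2 + 1) * (2 ^ (2 * m + 1) - 1) ≠ 0 := by
    intro h
    apply hodd
    rw [h]
    exact dvd_zero 2
  rw [h1, Nat.factorization_mul (pow_ne_zero _ (by norm_num)) hne,
    Nat.Prime.factorization_pow Nat.prime_two, Finsupp.add_apply, Finsupp.single_eq_same,
    Nat.factorization_eq_zero_of_not_dvd hodd, add_zero]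

theorem card_Qs_eq (hm : 1 ≤ m) (hF : Fintype.card F = 2 ^ (2 * m + 1)) :
    Nat.card (Qs hm hF) = 2 ^ (Nat.card (Cfsg.Sz F m)).factorization 2 := by
  rw [card_Qs hm hF, card_Sz hm hF, hF, factorization_two', ← pow_mul, mul_comm]

/-- `Q` as a Sylow 2-subgroup -/
noncomputable def Qsyl (hm : 1 ≤ m) (hF : Fintype.card F = 2 ^ (2 * m + 1)) :
    Sylow 2 (Cfsg.Sz F m) :=
  haveI : Fact (Nat.Prime 2) := ⟨Nat.prime_two⟩
  Sylow.ofCard (Qs hm hF) (card_Qs_eq hm hF)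

theorem coe_Qsyl (hm : 1 ≤ m) (hF : Fintype.card F = 2 ^ (2 * m + 1)) :
    ((Qsyl hm hF : Sylow 2 (Cfsg.Sz F m)) : Subgroup (Cfsg.Sz F m)) = Qs hm hF := rfl

/-- every element of a Sylow 2-subgroup is conjugate to some `T(a, b)` -/
theorem exists_conj_tq (hm : 1 ≤ m) (hF : Fintype.card F = 2 ^ (2 * m + 1))
    (P : Sylow 2 (Cfsg.Sz F m)) :
    ∃ x : Cfsg.Sz F m, ∀ g : Cfsg.Sz F m, g ∈ (P : Subgroup (Cfsg.Sz F m)) ↔
      ∃ a b : F, g = x * tq hF a b * x⁻¹ := by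
  haveI : Fact (Nat.Prime 2) := ⟨Nat.prime_two⟩
  obtain ⟨x, hx⟩ := MulAction.exists_smul_eq (Cfsg.Sz F m) (Qsyl hm hF) P
  refine ⟨x, fun g => ?_⟩
  rw [← hx, Sylow.coe_subgroup_smul, Subgroup.mem_smul_pointwise_iff_exists, coe_Qsyl]
  constructor
  · rintro ⟨_, ⟨a, b, rfl⟩, h⟩
    exact ⟨a, b, h.symm⟩
  · rintro ⟨a, b, h⟩
    exact ⟨tq hF a b, tq_mem_Qs hm hF a b, h.symm⟩

end Cfsg.Agent.helper11.Sz
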