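import Mathlib
import Cfsg.Agent.Lib_helper11_Sz10

set_option autoImplicit false

/-!
# Suzuki groups, part 11: simplicity
-/

namespace Cfsg.Agent.helper11.Sz

open Matrix Projectivization Cfsg.Agent.S0326

variable {F : Type*} [Field F] [CharP F 2] [Fintype F] {m : ℕ}

omit [CharP F 2] [Fintype F] in
theorem wm_Hm_wm (k : F) : wm * Hm m k * wm = Hm m k⁻¹ := by
  have hH : ∀ k : F, Hm m k = !![k ^ (2 ^ m + 1), 0, 0, 0; 0, k ^ 2 ^ m, 0, 0;
      0, 0, (k⁻¹) ^ 2 ^ m, 0; 0, 0, 0, (k⁻¹) ^ (2 ^ m + 1)] := by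
    intro k
    ext i j
    fin_cases i <;> fin_cases j <;> simp [Hm, Matrix.diagonal]
  rw [hH, hH]
  ext i j
  fin_cases i <;> fin_cases j <;> simp [wm, Matrix.mul_apply, Fin.sum_univ_four]

omit [Fintype F] in
theorem ws_mul_ws : (ws : SpecialLinearGroup (Fin 4) F) * ws = 1 := by
  apply Subtype.ext
  rw [Matrix.SpecialLinearGroup.coe_mul, coe_ws, wm_mul_wm]
  rfl

omit [Fintype F] in
theorem ws_Hs_ws (k : Fˣ) : ws * Hs m k * ws = Hs m k⁻¹ := by
  apply Subtype.ext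
  rw [Matrix.SpecialLinearGroup.coe_mul, Matrix.SpecialLinearGroup.coe_mul, coe_ws, coe_Hs, coe_Hs,
    wm_Hm_wm, Units.val_inv_eq_inv_val]

/-- `w` as an element of the Suzuki group -/
noncomputable def wq (hF : Fintype.card F = 2 ^ (2 * m + 1)) : Cfsg.Sz F m :=
  ⟨ws, ws_mem hF⟩

theorem wq_mul_wq (hF : Fintype.card F = 2 ^ (2 * m + 1)) : wq (m := m) hF * wq hF = 1 :=
  Subtype.ext ws_mul_ws

theorem wq_inv (hF : Fintype.card F = 2 ^ (2 * m + 1)) : (wq (m := m) hF)⁻¹ = wq hF :=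
  inv_eq_of_mul_eq_one_left (wq_mul_wq hF)

theorem wq_hq_wq (hF : Fintype.card F = 2 ^ (2 * m + 1)) (k : Fˣ) :
    wq (m := m) hF * hq hF k * wq hF = hq hF k⁻¹ := Subtype.ext (ws_Hs_ws k)

/-- Bruhat decomposition inside the group -/
theorem bruhat' (hm : 1 ≤ m) (hF : Fintype.card F = 2 ^ (2 * m + 1)) (g : Cfsg.Sz F m) :
    (∃ (a b : F) (k : Fˣ), g = tq hF a b * hq hF k) ∨
      (∃ (a b a' b' : F) (k : Fˣ), g = tq hF a b * wq hF * tq hF a' b' * hq hF k) := by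
  rcases bruhat hm hF g.1 g.2 with ⟨a, b, k, h⟩ | ⟨a, b, a', b', k, h⟩
  · exact Or.inl ⟨a, b, k, Subtype.ext h⟩
  · exact Or.inr ⟨a, b, a', b', k, Subtype.ext h⟩

/-- every element of a finite field of characteristic two is a square -/
theorem exists_sq_units (k : Fˣ) : ∃ l : Fˣ, l * l = k := by
  have hinj : Function.Injective (fun l : Fˣ => l * l) := by
    intro l l' h
    simp only at h
    apply Units.ext
    have h' : (l : F) * l = l' * l' := by
      have := congrArg Units.val h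
      simpa using this
    have h2 : ((l : F) + l') ^ 2 = 0 := by
      have := CharTwo.add_sq (l : F) (l' : F)
      rw [this, pow_two, pow_two, h']
      exact CharTwo.add_self_eq_zero _
    have h3 := pow_eq_zero_iff (two_ne_zero) |>.mp h2
    have := congrArg (fun z => z + (l' : F)) h3
    simp only [add_assoc, CharTwo.add_self_eq_zero, add_zero, zero_add] at this
    exact this
  exact Finite.injective_iff_surjective.mp hinj k

/-- a non-trivial normal subgroup of the Suzuki group is everything -/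
theorem normal_eq_top (hm : 1 ≤ m) (hF : Fintype.card F = 2 ^ (2 * m + 1))
    (N : Subgroup (Cfsg.Sz F m)) (hN : N.Normal) (hne : N ≠ ⊥) : N = ⊤ := by
  have h2 : ∀ z : F, z + z = 0 := CharTwo.add_self_eq_zero
  -- step 1: `N` is transitive
  obtain ⟨n₀, hn₀, hn₀1⟩ : ∃ n ∈ N, n ≠ 1 := by
    by_contra hcon
    push Not at hcon
    exact hne ((Subgroup.eq_bot_iff_forall N).mpr hcon)
  obtain ⟨o₀, ho₀⟩ : ∃ o : Option (F × F), (n₀ : SpecialLinearGroup (Fin 4) F) • param m o ≠ param m o := by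
    by_contra hcon
    push Not at hcon
    exact hn₀1 (Subtype.ext (eq_one_of_fix hm hF n₀.1 n₀.2 hcon))
  obtain ⟨o₁, ho₁⟩ := smul_mem_ovoid n₀.1 n₀.2 o₀
  have hne01 : o₀ ≠ o₁ := by
    rintro rfl
    exact ho₀ ho₁
  obtain ⟨g₀, hg₀, hg₀0, hg₀1⟩ := two_trans hF o₀ o₁ hne01
  -- an element of `N` mapping `∞` to `0`
  have hn₁ : ∃ n ∈ N, (n : SpecialLinearGroup (Fin 4) F) • param (F := F) m none = param m (some (0, 0)) := by
    refine ⟨(⟨g₀, hg₀⟩ : Cfsg.Sz F m) * n₀ * (⟨g₀, hg₀⟩ : Cfsg.Sz F m)⁻¹, hN.conj_mem _ hn₀ _, ?_⟩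
    show (g₀ * n₀.1 * g₀⁻¹) • param (F := F) m none = param m (some (0, 0))
    rw [mul_smul, mul_smul, ← hg₀0, inv_smul_smul, ho₁, hg₀1]
  obtain ⟨n₁, hn₁N, hn₁⟩ := hn₁
  have htrans : ∀ o : Option (F × F), ∃ n ∈ N,
      (n : SpecialLinearGroup (Fin 4) F) • param (F := F) m none = param m o := by
    rintro (_ | ⟨a, b⟩)
    · exact ⟨1, N.one_mem, one_smul _ _⟩
    · refine ⟨tq hF a b * n₁ * (tq hF a b)⁻¹, hN.conj_mem _ hn₁N _, ?_⟩
      show (Ts m a b * n₁.1 * (Ts m a b)⁻¹) • param (F := F) m none = param m (some (a, b))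
      rw [mul_smul, mul_smul, inv_smul_eq_iff.mpr (Ts_smul_inf a b).symm, hn₁, Ts_smul_zero hF]
  -- step 2: `G = N B`
  have hNB : ∀ g : Cfsg.Sz F m, ∃ n ∈ N, ∃ (a b : F) (k : Fˣ), g = n * (tq hF a b * hq hF k) := by
    intro g
    obtain ⟨o, ho⟩ := smul_mem_ovoid g.1 g.2 none
    obtain ⟨n, hnN, hn⟩ := htrans o
    have hfix : ((n⁻¹ * g : Cfsg.Sz F m) : SpecialLinearGroup (Fin 4) F) • param (F := F) m none =
        param m none := by
      show (n.1⁻¹ * g.1) • param (F := F) m none = param m none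
      rw [mul_smul, ho, ← hn, inv_smul_smul]
    obtain ⟨a, b, k, hk⟩ := stab_inf' hm hF _ hfix
    refine ⟨n, hnN, a, b, k, ?_⟩
    rw [← hk]
    group
  -- step 3: elements `T(⋆, ⋆) H(k²)` of `N`
  obtain ⟨nw, hnwN, aw, bw, kw, hw⟩ := hNB (wq hF)
  have hstep3 : ∀ k : Fˣ, ∃ a b : F, tq hF a b * hq hF (k * k) ∈ N := by
    intro k
    set b₀ := tq hF aw bw * hq hF kw with hb₀
    have e1 : b₀ * hq hF k * b₀⁻¹ = nw⁻¹ * (hq hF k)⁻¹ * nw := by
      have e2 : wq hF * hq hF k * (wq hF)⁻¹ = (hq hF k)⁻¹ := by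
        rw [wq_inv, wq_hq_wq, hq_inv hm hF]
      rw [hw] at e2
      rw [← e2]
      group
    have e3 : b₀ * hq hF k * b₀⁻¹ * hq hF k ∈ N := by
      rw [e1]
      have : nw⁻¹ * (hq hF k)⁻¹ * nw * hq hF k = nw⁻¹ * ((hq hF k)⁻¹ * nw * (hq hF k)⁻¹⁻¹) := by
        group
      rw [this]
      exact N.mul_mem (N.inv_mem hnwN) (hN.conj_mem _ hnwN _)
    have e4 : b₀ * hq hF k * b₀⁻¹ * hq hF k =
        tq hF aw bw * (hq hF k * (tq hF aw bw)⁻¹ * (hq hF k)⁻¹) * (hq hF k * hq hF k) := by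
      rw [hb₀]
      have ecomm : hq hF kw * hq hF k * (hq hF kw)⁻¹ = hq (m := m) hF k := by
        rw [hq_inv hm hF, hq_mul hm hF, hq_mul hm hF]
        congr 1
        rw [mul_comm kw k, mul_assoc, mul_inv_cancel, mul_one]
      calc tq hF aw bw * hq hF kw * hq hF k * (tq hF aw bw * hq hF kw)⁻¹ * hq hF k
          = tq hF aw bw * (hq hF kw * hq hF k * (hq hF kw)⁻¹) * (tq hF aw bw)⁻¹ * hq hF k := by
            group
        _ = tq hF aw bw * (hq hF k * (tq hF aw bw)⁻¹ * (hq hF k)⁻¹) * (hq hF k * hq hF k) := by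
            rw [ecomm]; group
    rw [e4, tq_inv hm hF, hq_tq_conj hm hF, tq_mul hm hF, hq_mul hm hF] at e3
    exact ⟨_, _, e3⟩
  -- step 4: `Q ≤ N`
  obtain ⟨c, hc0, hc1, hcθ⟩ := exists_th_ne hm hF
  obtain ⟨l, hl⟩ := exists_sq_units (Units.mk0 c hc0)
  obtain ⟨a₁, b₁, hb₁⟩ := hstep3 l
  rw [hl] at hb₁
  have hc1' : c + 1 ≠ 0 := by
    intro h
    apply hc1
    have := congrArg (fun z => z + 1) h
    simp only [add_assoc, h2, add_zero, zero_add] at this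
    exact this
  have hstep4a : ∀ a : F, ∃ b : F, tq hF a b ∈ N := by
    intro a
    set a' := a / (c + 1) with ha'
    have e5 : tq hF a₁ b₁ * hq hF (Units.mk0 c hc0) * tq hF a' 0 *
        (tq hF a₁ b₁ * hq hF (Units.mk0 c hc0))⁻¹ * (tq hF a' 0)⁻¹ ∈ N := by
      have : tq hF a₁ b₁ * hq hF (Units.mk0 c hc0) * tq hF a' 0 *
          (tq hF a₁ b₁ * hq hF (Units.mk0 c hc0))⁻¹ * (tq hF a' 0)⁻¹ =
          (tq hF a₁ b₁ * hq hF (Units.mk0 c hc0)) *
          (tq hF a' 0 * (tq hF a₁ b₁ * hq hF (Units.mk0 c hc0))⁻¹ * (tq hF a' 0)⁻¹) := by group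
      rw [this]
      exact N.mul_mem hb₁ (hN.conj_mem _ (N.inv_mem hb₁) _)
    have e6 : tq hF a₁ b₁ * hq hF (Units.mk0 c hc0) * tq hF a' 0 *
        (tq hF a₁ b₁ * hq hF (Units.mk0 c hc0))⁻¹ * (tq hF a' 0)⁻¹ =
        tq hF a₁ b₁ * (hq hF (Units.mk0 c hc0) * tq hF a' 0 * (hq hF (Units.mk0 c hc0))⁻¹) *
          (tq hF a₁ b₁)⁻¹ * (tq hF a' 0)⁻¹ := by group
    rw [e6, hq_tq_conj hm hF, tq_tq_conj hm hF, tq_inv hm hF, tq_mul hm hF] at e5
    have e7 : ((Units.mk0 c hc0 : Fˣ) : F) * a' + a' = a := by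
      rw [Units.val_mk0, ha']
      field_simp
    rw [e7] at e5
    exact ⟨_, e5⟩
  have hZ : ∀ b : F, tq hF 0 b ∈ N := by
    intro b
    obtain ⟨a, ha⟩ := mul_th_surjective (m := m) hF b
    simp only at ha
    obtain ⟨b', hb'⟩ := hstep4a a
    have := N.mul_mem hb' hb'
    rw [tq_sq hm hF, mul_comm, ha] at this
    exact this
  have hQ : ∀ a b : F, tq hF a b ∈ N := by
    intro a b
    obtain ⟨b', hb'⟩ := hstep4a a
    have := N.mul_mem hb' (hZ (b + b'))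
    rw [tq_mul hm hF] at this
    have e8 : b' + (b + b') + th F m a * 0 = b := by
      rw [mul_zero, add_zero, add_comm b b', ← add_assoc, h2, zero_add]
    rw [e8, add_zero] at this
    exact this
  -- step 5: `H ≤ N`
  have hH : ∀ k : Fˣ, hq hF k ∈ N := by
    intro k
    obtain ⟨l, hl⟩ := exists_sq_units k
    obtain ⟨a, b, hab⟩ := hstep3 l
    rw [hl] at hab
    have := N.mul_mem (N.inv_mem (hQ a b)) hab
    rw [inv_mul_cancel_left] at this
    exact this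
  rw [eq_top_iff]
  intro g _
  obtain ⟨n, hnN, a, b, k, rfl⟩ := hNB g
  exact N.mul_mem hnN (N.mul_mem (hQ a b) (hH k))

end Cfsg.Agent.helper11.Sz
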