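import Mathlib
import Cfsg.Agent.Lib_helper11_Sz11

set_option autoImplicit false

/-!
# Suzuki groups, part 12: Sylow subgroups for odd primes are cyclic
-/

namespace Cfsg.Agent.helper11.Sz

open Matrix

/-- if a cyclic subgroup has index prime to `p`, the Sylow `p`-subgroups are cyclic -/
theorem sylow_cyclic_of_cyclic {G : Type*} [Group G] [Finite G] {p : ℕ} [Fact p.Prime]
    (H : Subgroup G) (hH : IsCyclic H) (hidx : ¬ p ∣ H.index) (P : Sylow p G) : IsCyclic P := by
  obtain ⟨C⟩ : Nonempty (Sylow p H) := inferInstance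
  have hC' : IsPGroup p ((C : Subgroup H).map H.subtype) := C.2.map _
  have hidx' : ¬ p ∣ ((C : Subgroup H).map H.subtype).index := by
    rw [Subgroup.index_map_subtype]
    intro h
    rcases (Nat.Prime.dvd_mul (Fact.out : p.Prime)).mp h with h | h
    · exact C.not_dvd_index h
    · exact hidx h
  let Q₀ : Sylow p G := hC'.toSylow hidx'
  have e1 : P ≃* Q₀ := Sylow.equiv P Q₀
  have e2 : (C : Subgroup H) ≃* ((C : Subgroup H).map H.subtype) :=
    Subgroup.equivMapOfInjective _ _ H.subtype_injective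
  have hcyc : IsCyclic (C : Subgroup H) := inferInstance
  have hcyc2 : IsCyclic ((C : Subgroup H).map H.subtype) := e2.isCyclic.mp hcyc
  exact e1.isCyclic.mpr hcyc2

/-- a `p`-group embedded in a group with cyclic Sylow `p`-subgroups is cyclic -/
theorem cyclic_of_embedding {G G' : Type*} [Group G] [Group G'] [Finite G'] {p : ℕ} [Fact p.Prime]
    (f : G →* G') (hf : Function.Injective f) (hG' : ∀ Q : Sylow p G', IsCyclic Q)
    (P : Subgroup G) (hP : IsPGroup p P) : IsCyclic P := by
  obtain ⟨Q, hQ⟩ := (hP.map f).exists_le_sylow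
  haveI := hG' Q
  let ψ : P →* Q :=
    { toFun := fun x => ⟨f x, hQ (Subgroup.mem_map_of_mem f x.2)⟩
      map_one' := by
        apply Subtype.ext
        simp
      map_mul' := by
        intro x y
        apply Subtype.ext
        simp }
  apply isCyclic_of_injective ψ
  intro x y h
  apply Subtype.ext
  apply hf
  exact congrArg Subtype.val h

end Cfsg.Agent.helper11.Sz

namespace Cfsg.Agent.helper11.Sz

open Matrix

/-- arithmetic: an odd prime dividing `q² + 1` does not divide `(q⁴ - q)(q⁴ - q²)(q⁴ - q³)` -/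
theorem not_dvd_GL_index {p q : ℕ} [Fact p.Prime] (hp2 : p ≠ 2) (hq : 2 ≤ q)
    (hp : p ∣ q ^ 2 + 1) : ¬ p ∣ (q ^ 4 - q ^ 1) * (q ^ 4 - q ^ 2) * (q ^ 4 - q ^ 3) := by
  have hx : ((q : ZMod p)) ^ 2 = -1 := by
    have h1 : ((q ^ 2 + 1 : ℕ) : ZMod p) = 0 := (ZMod.natCast_eq_zero_iff _ _).mpr hp
    push_cast at h1
    exact eq_neg_of_add_eq_zero_left h1
  have h2ne : (2 : ZMod p) ≠ 0 := by
    intro h
    have h' : ((2 : ℕ) : ZMod p) = 0 := by exact_mod_cast h
    rw [ZMod.natCast_eq_zero_iff] at h'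
    exact hp2 ((Nat.prime_dvd_prime_iff_eq Fact.out Nat.prime_two).mp h')
  have hle1 : q ^ 1 ≤ q ^ 4 := Nat.pow_le_pow_right (by omega) (by norm_num)
  have hle2 : q ^ 2 ≤ q ^ 4 := Nat.pow_le_pow_right (by omega) (by norm_num)
  have hle3 : q ^ 3 ≤ q ^ 4 := Nat.pow_le_pow_right (by omega) (by norm_num)
  intro h
  have h0 : (((q ^ 4 - q ^ 1) * (q ^ 4 - q ^ 2) * (q ^ 4 - q ^ 3) : ℕ) : ZMod p) = 0 :=
    (ZMod.natCast_eq_zero_iff _ _).mpr h
  rw [Nat.cast_mul, Nat.cast_mul, Nat.cast_sub hle1, Nat.cast_sub hle2, Nat.cast_sub hle3] at h0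
  push_cast at h0
  set x := (q : ZMod p) with hxdef
  have hx4 : x ^ 4 = 1 := by
    have : x ^ 4 = (x ^ 2) ^ 2 := by ring
    rw [this, hx]; ring
  have hx3 : x ^ 3 = -x := by
    have : x ^ 3 = x ^ 2 * x := by ring
    rw [this, hx]; ring
  rw [hx4, hx3, hx, pow_one] at h0
  have hsq : ∀ z : ZMod p, z = 1 ∨ z = -1 → z ^ 2 = 1 := by
    rintro z (rfl | rfl) <;> ring
  rcases mul_eq_zero.mp h0 with h0 | h0
  · rcases mul_eq_zero.mp h0 with h0 | h0
    · have hx1 : x = 1 := (sub_eq_zero.mp h0).symm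
      have := hsq x (Or.inl hx1)
      rw [hx] at this
      apply h2ne
      linear_combination -this
    · apply h2ne
      linear_combination h0
  · have hx1 : x = -1 := by linear_combination h0
    have := hsq x (Or.inr hx1)
    rw [hx] at this
    apply h2ne
    linear_combination -this

/-- the Sylow `p`-subgroups of `GL₄(q)` are cyclic when `p` is an odd prime dividing `q² + 1` -/
theorem sylow_GL4_cyclic {F : Type*} [Field F] [Fintype F] [CharP F 2] {p : ℕ} [Fact p.Prime]
    (hp2 : p ≠ 2) (hp : p ∣ Fintype.card F ^ 2 + 1) (Q : Sylow p (GL (Fin 4) F)) : IsCyclic Q := by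
  haveI : Fact (Nat.Prime 2) := ⟨Nat.prime_two⟩
  let K := FiniteField.Extension F 2 4
  let b := Module.finBasisOfFinrankEq F K (FiniteField.finrank_extension F 2 4)
  let L := Algebra.leftMulMatrix b
  let ψ : Kˣ →* GL (Fin 4) F := Units.map L.toMonoidHom
  have hψ : Function.Injective ψ := Units.map_injective (Algebra.leftMulMatrix_injective b)
  have hc : IsCyclic Kˣ := inferInstance
  have h1 : Nat.card Kˣ = Nat.card K - 1 := Nat.card_units K
  have h2 : Nat.card K = Nat.card F ^ 4 := FiniteField.natCard_extension F 2 4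
  have h3 := Matrix.card_GL_field (𝔽 := F) 4
  rw [Fin.prod_univ_four] at h3
  have hq : 2 ≤ Fintype.card F := Fintype.one_lt_card
  have hcyc : IsCyclic ψ.range := by
    have : Function.Surjective ψ.rangeRestrict := ψ.rangeRestrict_surjective
    exact isCyclic_of_surjective ψ.rangeRestrict this
  have hcard : Nat.card ψ.range = Fintype.card F ^ 4 - 1 := by
    rw [← Nat.card_congr (MonoidHom.ofInjective hψ).toEquiv, h1, h2, Nat.card_eq_fintype_card]
  apply sylow_cyclic_of_cyclic ψ.range hcyc ?_ Q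
  have hidx := Subgroup.card_mul_index ψ.range
  rw [hcard, h3] at hidx
  simp only [Fin.val_zero, pow_zero, Fin.val_one, Fin.val_two] at hidx
  have e3 : ((3 : Fin 4) : ℕ) = 3 := rfl
  rw [e3] at hidx
  have hpos : 0 < Fintype.card F ^ 4 - 1 := by
    have : 2 ^ 4 ≤ Fintype.card F ^ 4 := Nat.pow_le_pow_left hq 4
    omega
  have hidx' : ψ.range.index =
      (Fintype.card F ^ 4 - Fintype.card F ^ 1) * (Fintype.card F ^ 4 - Fintype.card F ^ 2) *
        (Fintype.card F ^ 4 - Fintype.card F ^ 3) := by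
    apply Nat.eq_of_mul_eq_mul_left hpos
    rw [hidx]
    ring
  rw [hidx']
  exact not_dvd_GL_index hp2 hq hp

end Cfsg.Agent.helper11.Sz
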