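import Mathlib
import Cfsg.Agent.Lib_helper11_Sz11
import Cfsg.Prelude.Def_Sz

set_option autoImplicit false

/-!
# Suzuki groups, part 13: the symplectic description `g* = g^θ`
-/

namespace Cfsg.Agent.helper11.Sz

open Matrix Cfsg.Lie

variable {F : Type*} [Field F]

theorem altForm4_eq (u v : Fin 4 → F) :
    altForm4 u v = u ⬝ᵥ (Cfsg.suzukiForm F *ᵥ v) := by
  simp [altForm4, Cfsg.suzukiForm, Matrix.mulVec, dotProduct, Fin.sum_univ_four]

theorem mem_Sp4_iff (g : GL (Fin 4) F) :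
    g ∈ Sp4 F ↔ (g : Matrix (Fin 4) (Fin 4) F)ᵀ * Cfsg.suzukiForm F * (g : Matrix (Fin 4) (Fin 4) F) =
      Cfsg.suzukiForm F := by
  have key : ∀ u v : Fin 4 → F, altForm4 ((g : Matrix (Fin 4) (Fin 4) F) *ᵥ u)
      ((g : Matrix (Fin 4) (Fin 4) F) *ᵥ v) =
      u ⬝ᵥ (((g : Matrix (Fin 4) (Fin 4) F)ᵀ * Cfsg.suzukiForm F *
        (g : Matrix (Fin 4) (Fin 4) F)) *ᵥ v) := by
    intro u v
    rw [altForm4_eq, ← Matrix.vecMul_transpose, ← Matrix.dotProduct_mulVec, Matrix.mulVec_mulVec,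
      Matrix.mulVec_mulVec, Matrix.mul_assoc]
  constructor
  · intro h
    have h' : ∀ u v : Fin 4 → F, altForm4 ((g : Matrix (Fin 4) (Fin 4) F) *ᵥ u)
        ((g : Matrix (Fin 4) (Fin 4) F) *ᵥ v) = altForm4 u v := h
    ext i j
    have := h' (Pi.single i 1) (Pi.single j 1)
    rw [key, altForm4_eq] at this
    simpa [Matrix.mulVec_single_one, dotProduct, Pi.single_apply] using this
  · intro h u v
    show altForm4 ((g : Matrix (Fin 4) (Fin 4) F) *ᵥ u)
        ((g : Matrix (Fin 4) (Fin 4) F) *ᵥ v) = altForm4 u v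
    rw [key, h, altForm4_eq]

/-- the `2 × 2` minors -/
def minor2 (g : Matrix (Fin 4) (Fin 4) F) (k l a b : Fin 4) : F := g k a * g l b - g l a * g k b

theorem star4_apply (g : Matrix (Fin 4) (Fin 4) F) (p r : Fin 4) :
    star4 g p r = minor2 g (pairOf p).1 (pairOf p).2 (pairOf r).1 (pairOf r).2 := rfl

/-- Cauchy–Binet for `2 × 2` minors of `4 × 4` matrices -/
theorem minor2_mul (g h : Matrix (Fin 4) (Fin 4) F) (k l i j : Fin 4) :
    minor2 (g * h) k l i j =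
      minor2 g k l 0 1 * minor2 h 0 1 i j + minor2 g k l 0 2 * minor2 h 0 2 i j +
      minor2 g k l 1 3 * minor2 h 1 3 i j + minor2 g k l 2 3 * minor2 h 2 3 i j +
      (minor2 g k l 0 3 * minor2 h 0 3 i j + minor2 g k l 1 2 * minor2 h 1 2 i j) := by
  simp only [minor2, Matrix.mul_apply, Fin.sum_univ_four]
  ring

theorem form_entry (g : Matrix (Fin 4) (Fin 4) F) (i j : Fin 4) :
    (gᵀ * Cfsg.suzukiForm F * g) i j =
      g 0 i * g 3 j + g 1 i * g 2 j + g 2 i * g 1 j + g 3 i * g 0 j := by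
  simp [Matrix.mul_apply, Fin.sum_univ_four, Cfsg.suzukiForm]
  ring

theorem form_entry' (g : Matrix (Fin 4) (Fin 4) F) (k l : Fin 4) :
    (g * Cfsg.suzukiForm F * gᵀ) k l =
      g k 0 * g l 3 + g k 1 * g l 2 + g k 2 * g l 1 + g k 3 * g l 0 := by
  simp [Matrix.mul_apply, Fin.sum_univ_four, Cfsg.suzukiForm]
  ring

theorem form_sq : Cfsg.suzukiForm F * Cfsg.suzukiForm F = 1 := by
  ext i j
  fin_cases i <;> fin_cases j <;> simp [Cfsg.suzukiForm, Matrix.mul_apply, Fin.sum_univ_four]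

/-- `gᵀ J g = J` implies `g J gᵀ = J` -/
theorem form_transpose {g : Matrix (Fin 4) (Fin 4) F}
    (hg : gᵀ * Cfsg.suzukiForm F * g = Cfsg.suzukiForm F) :
    g * Cfsg.suzukiForm F * gᵀ = Cfsg.suzukiForm F := by
  have h1 : (Cfsg.suzukiForm F * gᵀ * Cfsg.suzukiForm F) * g = 1 := by
    rw [Matrix.mul_assoc, Matrix.mul_assoc, ← Matrix.mul_assoc gᵀ, hg, form_sq]
  have h2 : g * (Cfsg.suzukiForm F * gᵀ * Cfsg.suzukiForm F) = 1 := mul_eq_one_comm.mp h1
  calc g * Cfsg.suzukiForm F * gᵀ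
      = g * (Cfsg.suzukiForm F * gᵀ * Cfsg.suzukiForm F) * Cfsg.suzukiForm F := by
        simp only [Matrix.mul_assoc, form_sq, Matrix.mul_one]
    _ = Cfsg.suzukiForm F := by rw [h2, Matrix.one_mul]

theorem pairOf_form (p : Fin 4) : Cfsg.suzukiForm F (pairOf p).1 (pairOf p).2 = 0 := by
  fin_cases p <;> simp [pairOf, Cfsg.suzukiForm]

variable [CharP F 2]

/-- in characteristic two `g ↦ g*` is multiplicative on the symplectic group -/
theorem star4_mul {g h : Matrix (Fin 4) (Fin 4) F}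
    (hg : gᵀ * Cfsg.suzukiForm F * g = Cfsg.suzukiForm F)
    (hh : hᵀ * Cfsg.suzukiForm F * h = Cfsg.suzukiForm F) :
    star4 (g * h) = star4 g * star4 h := by
  have h2 : ∀ z : F, z + z = 0 := CharTwo.add_self_eq_zero
  have hg' := form_transpose hg
  ext p r
  rw [star4_apply, minor2_mul, Matrix.mul_apply, Fin.sum_univ_four]
  simp only [star4_apply]
  have e1 := form_entry' g (pairOf p).1 (pairOf p).2
  rw [hg', pairOf_form] at e1
  have e2 := form_entry h (pairOf r).1 (pairOf r).2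
  rw [hh, pairOf_form] at e2
  have e3 : minor2 g (pairOf p).1 (pairOf p).2 0 3 + minor2 g (pairOf p).1 (pairOf p).2 1 2 = 0 := by
    simp only [minor2]
    grind
  have e4 : minor2 h 0 3 (pairOf r).1 (pairOf r).2 + minor2 h 1 2 (pairOf r).1 (pairOf r).2 = 0 := by
    simp only [minor2]
    grind
  have e5 : minor2 g (pairOf p).1 (pairOf p).2 0 3 * minor2 h 0 3 (pairOf r).1 (pairOf r).2 +
      minor2 g (pairOf p).1 (pairOf p).2 1 2 * minor2 h 1 2 (pairOf r).1 (pairOf r).2 = 0 := by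
    grind
  rw [e5, add_zero]
  have hp : ∀ s : Fin 4, pairOf s = ![(0, 1), (0, 2), (1, 3), (2, 3)] s := fun s => rfl
  simp [hp]

variable [Fintype F] {m : ℕ}

omit [Fintype F] in
theorem map_pow_eq (A : Matrix (Fin 4) (Fin 4) F) :
    A.map (fun x => x ^ 2 ^ (m + 1)) = A.map (th F m) := by
  ext i j
  simp only [Matrix.map_apply, th_apply]

theorem star4_Tm (hF : Fintype.card F = 2 ^ (2 * m + 1)) (a b : F) :
    star4 (Tm m a b) = (Tm m a b).map (fun x => x ^ 2 ^ (m + 1)) := by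
  have hθ := th_th hF
  have h2 : ∀ z : F, z + z = 0 := CharTwo.add_self_eq_zero
  rw [map_pow_eq]
  ext p r
  fin_cases p <;> fin_cases r <;>
    simp [star4, pairOf, Tm, ff_eq, hθ] <;> grind

omit [Fintype F] in
theorem star4_wm : star4 (wm : Matrix (Fin 4) (Fin 4) F) =
    (wm : Matrix (Fin 4) (Fin 4) F).map (fun x => x ^ 2 ^ (m + 1)) := by
  ext p r
  fin_cases p <;> fin_cases r <;>
    simp [star4, pairOf, wm, CharTwo.neg_eq]

omit [CharP F 2] in
theorem star4_Hm (hF : Fintype.card F = 2 ^ (2 * m + 1)) (k : F) :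
    star4 (Hm m k) = (Hm m k).map (fun x => x ^ 2 ^ (m + 1)) := by
  have hH : Hm m k = !![k ^ (2 ^ m + 1), 0, 0, 0; 0, k ^ 2 ^ m, 0, 0;
      0, 0, (k⁻¹) ^ 2 ^ m, 0; 0, 0, 0, (k⁻¹) ^ (2 ^ m + 1)] := by
    ext i j
    fin_cases i <;> fin_cases j <;> simp [Hm, Matrix.diagonal]
  have e1 : ∀ x : F, (x ^ 2 ^ m) ^ 2 ^ (m + 1) = x := by
    intro x
    rw [← pow_mul, ← pow_add]
    have : m + (m + 1) = 2 * m + 1 := by ring
    rw [this, ← hF, FiniteField.pow_card]
  have e2 : ∀ x : F, (x ^ (2 ^ m + 1)) ^ 2 ^ (m + 1) = x * x ^ 2 ^ (m + 1) := by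
    intro x
    rw [pow_succ, mul_pow, e1, mul_comm]
  have e3 : ∀ x : F, x ^ (2 ^ m + 1) * x ^ 2 ^ m = x * x ^ 2 ^ (m + 1) := by
    intro x
    rw [pow_succ 2 m, pow_mul, pow_succ]
    ring
  rw [hH]
  ext p r
  fin_cases p <;> fin_cases r <;>
    simp [star4, pairOf, e1, e2, e3]
  · rw [pow_succ]
    by_cases hk : k = 0
    · subst hk; simp
    · field_simp
  · rw [pow_succ]
    by_cases hk : k = 0
    · subst hk; simp
    · field_simp
  · rw [← mul_inv, ← mul_inv, mul_comm (k ^ 2 ^ m), e3, mul_comm]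

/-- the matrices of the symplectic description -/
def IsSzMat (m : ℕ) (A : Matrix (Fin 4) (Fin 4) F) : Prop :=
  Aᵀ * Cfsg.suzukiForm F * A = Cfsg.suzukiForm F ∧ star4 A = A.map (fun x => x ^ 2 ^ (m + 1))

omit [Fintype F] in
theorem IsSzMat.mul {A B : Matrix (Fin 4) (Fin 4) F} (hA : IsSzMat m A) (hB : IsSzMat m B) :
    IsSzMat m (A * B) := by
  refine ⟨form_mul hA.1 hB.1, ?_⟩
  rw [star4_mul hA.1 hB.1, hA.2, hB.2, map_pow_eq, map_pow_eq, map_pow_eq, Matrix.map_mul]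

theorem isSzMat_of_mem (hm : 1 ≤ m) (hF : Fintype.card F = 2 ^ (2 * m + 1))
    (g : SpecialLinearGroup (Fin 4) F) (hg : g ∈ Cfsg.Sz F m) :
    IsSzMat m (g : Matrix (Fin 4) (Fin 4) F) := by
  have hT : ∀ a b : F, IsSzMat m (Tm m a b) := fun a b => ⟨Tm_form a b, star4_Tm hF a b⟩
  have hH : ∀ k : Fˣ, IsSzMat m (Hm m (k : F)) := fun k => ⟨Hm_form k.ne_zero, star4_Hm hF k⟩
  have hw : IsSzMat m (wm : Matrix (Fin 4) (Fin 4) F) := ⟨wm_form, star4_wm⟩
  rcases bruhat hm hF g hg with ⟨a, b, k, rfl⟩ | ⟨a, b, a', b', k, rfl⟩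
  · rw [Matrix.SpecialLinearGroup.coe_mul, coe_Ts, coe_Hs]
    exact (hT a b).mul (hH k)
  · rw [Matrix.SpecialLinearGroup.coe_mul, Matrix.SpecialLinearGroup.coe_mul,
      Matrix.SpecialLinearGroup.coe_mul, coe_Ts, coe_Ts, coe_Hs, coe_ws]
    exact (((hT a b).mul hw).mul (hT a' b')).mul (hH k)

omit [Fintype F] in
/-- the first column of a matrix with `g* = g^θ` is an ovoid vector -/
theorem col_lemma {G : Matrix (Fin 4) (Fin 4) F}
    (hG : IsSzMat m G) (hne : G *ᵥ ![1, 0, 0, 0] ≠ 0) :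
    ∃ c : F, c ≠ 0 ∧ (G *ᵥ ![1, 0, 0, 0] = c • ![1, 0, 0, 0] ∨
      ∃ x y : F, G *ᵥ ![1, 0, 0, 0] = c • pv m x y) := by
  have h20 : (2 : F) = 0 := CharTwo.two_eq_zero
  have hθ : ∀ x : F, x ^ 2 ^ (m + 1) = th F m x := fun x => (th_apply x).symm
  obtain ⟨hform, hstar⟩ := hG
  have hcol : ∀ i, (G *ᵥ ![1, 0, 0, 0]) i = G i 0 := mulVec_e0 G
  have s0 := congrFun (congrFun hstar 0) 0
  have s1 := congrFun (congrFun hstar 1) 0
  have s2 := congrFun (congrFun hstar 2) 0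
  have s3 := congrFun (congrFun hstar 3) 0
  simp only [star4_apply, minor2, Matrix.map_apply, hθ] at s0 s1 s2 s3
  have hp0 : pairOf 0 = (0, 1) := rfl
  have hp1 : pairOf 1 = (0, 2) := rfl
  have hp2 : pairOf 2 = (1, 3) := rfl
  have hp3 : pairOf 3 = (2, 3) := rfl
  rw [hp0] at s0
  rw [hp0, hp1] at s1
  rw [hp0, hp2] at s2
  rw [hp0, hp3] at s3
  simp only at s0 s1 s2 s3
  have s5 := form_entry G 0 1
  rw [hform] at s5
  have hJ01 : Cfsg.suzukiForm F 0 1 = 0 := by simp [Cfsg.suzukiForm]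
  rw [hJ01] at s5
  by_cases h3 : G 3 0 = 0
  · -- the point at infinity
    rw [h3, map_zero] at s3
    rw [h3] at s2 s5
    simp only [zero_mul, sub_zero, add_zero] at s2 s3 s5
    have h2' : G 2 0 = 0 := by
      by_contra hne2
      have hu3 : G 3 1 = 0 := (mul_eq_zero.mp s3).resolve_left hne2
      rw [hu3, mul_zero] at s2
      exact hne2 (th_eq_zero.mp s2.symm)
    rw [h2', map_zero] at s2
    rw [h2'] at s1 s5
    simp only [zero_mul, sub_zero, add_zero] at s1 s5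
    have h1' : G 1 0 = 0 := by
      by_contra hne1
      have hu3 : G 3 1 = 0 := (mul_eq_zero.mp s2).resolve_left hne1
      rw [hu3, mul_zero] at s5
      have hu2 : G 2 1 = 0 := by
        have : G 1 0 * G 2 1 = 0 := by
          rw [zero_add] at s5
          exact s5.symm
        exact (mul_eq_zero.mp this).resolve_left hne1
      rw [hu2, mul_zero] at s1
      exact hne1 (th_eq_zero.mp s1.symm)
    have h0' : G 0 0 ≠ 0 := by
      intro h0
      apply hne
      ext i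
      rw [hcol]
      fin_cases i
      · exact h0
      · exact h1'
      · exact h2'
      · exact h3
    refine ⟨G 0 0, h0', Or.inl ?_⟩
    ext i
    rw [hcol]
    fin_cases i <;> simp [h1', h2', h3]
  · -- affine points
    have star : G 0 0 * G 3 0 * th F m (G 3 0) + G 1 0 * G 2 0 * th F m (G 3 0) +
        th F m (G 2 0) * G 2 0 ^ 2 + th F m (G 1 0) * G 3 0 ^ 2 = 0 := by
      linear_combination (-(G 3 0) ^ 2) * s1 - (G 0 0 * G 3 0 + G 1 0 * G 2 0) * s3 -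
        (G 2 0) ^ 2 * s2 - (G 2 0 * G 3 0) * s5.symm +
        (G 1 0 * (G 2 0) ^ 2 * G 3 1 + G 0 0 * G 2 0 * G 3 0 * G 3 1) * h20
    have hθ3 : th F m (G 3 0) ≠ 0 := fun h => h3 (th_eq_zero.mp h)
    have e0 : G 0 0 = G 3 0 * ff m (G 2 0 / G 3 0) (G 1 0 / G 3 0) := by
      rw [ff_eq, map_div₀, map_div₀]
      field_simp
      linear_combination star - (G 2 0 * (G 1 0 * th F m (G 3 0) + G 2 0 * th F m (G 2 0)) +
        G 3 0 ^ 2 * th F m (G 1 0)) * h20
    refine ⟨G 3 0, h3, Or.inr ⟨G 2 0 / G 3 0, G 1 0 / G 3 0, ?_⟩⟩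
    ext i
    rw [hcol]
    fin_cases i
    · simp only [pv, Pi.smul_apply, smul_eq_mul]
      exact e0
    · simp [pv]
      field_simp
    · simp [pv]
      field_simp
    · simp [pv]

omit [Fintype F] in
theorem det_eq_one_of_form {G : Matrix (Fin 4) (Fin 4) F}
    (h : Gᵀ * Cfsg.suzukiForm F * G = Cfsg.suzukiForm F) : G.det = 1 := by
  have hJ : (Cfsg.suzukiForm F).det = 1 := det_wm
  have h1 := congrArg Matrix.det h
  rw [Matrix.det_mul, Matrix.det_mul, Matrix.det_transpose, hJ, mul_one] at h1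
  have h2 : G.det ^ 2 = 1 := by rw [pow_two]; exact h1
  have : (G.det - 1) ^ 2 = 0 := by
    have h20 : (2 : F) = 0 := CharTwo.two_eq_zero
    linear_combination h2 + (1 - G.det) * h20
  exact sub_eq_zero.mp ((pow_eq_zero_iff (two_ne_zero)).mp this)

open Cfsg.Agent.S0326 in
theorem mem_Sz_of_isSzMat (hm : 1 ≤ m) (hF : Fintype.card F = 2 ^ (2 * m + 1))
    (g : SpecialLinearGroup (Fin 4) F) (hg : IsSzMat m (g : Matrix (Fin 4) (Fin 4) F)) :
    g ∈ Cfsg.Sz F m := by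
  apply mem_Sz_of_forall
  intro o
  obtain ⟨s, hs, hso⟩ := exists_smul_inf_eq hF o
  have hgs : IsSzMat m ((g * s : SpecialLinearGroup (Fin 4) F) : Matrix (Fin 4) (Fin 4) F) := by
    rw [Matrix.SpecialLinearGroup.coe_mul]
    exact hg.mul (isSzMat_of_mem hm hF s hs)
  have hne : ((g * s : SpecialLinearGroup (Fin 4) F) : Matrix (Fin 4) (Fin 4) F) *ᵥ ![1, 0, 0, 0] ≠ 0 := by
    intro h0
    have h0' : (g * s) • (![1, 0, 0, 0] : Fin 4 → F) = 0 := h0
    have := congrArg (fun u => (g * s)⁻¹ • u) h0'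
    simp only [inv_smul_smul, smul_zero] at this
    exact inf_ne_zero this
  obtain ⟨c, hc, h | ⟨x, y, h⟩⟩ := col_lemma hgs hne
  · refine ⟨none, ?_⟩
    rw [← hso, ← mul_smul]
    show (g * s) • Projectivization.mk F ![1, 0, 0, 0] inf_ne_zero = _
    exact smul_mk_eq _ _ _ _ _ c h
  · refine ⟨some (x, y), ?_⟩
    rw [← hso, ← mul_smul]
    show (g * s) • Projectivization.mk F ![1, 0, 0, 0] inf_ne_zero =
      Projectivization.mk F (ovVec m x y) (ovVec_ne_zero m x y)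
    exact smul_mk_eq _ _ _ _ _ c h

/-- the two descriptions of the Suzuki group agree -/
theorem LieSz_eq (hm : 1 ≤ m) (hF : Fintype.card F = 2 ^ (2 * m + 1)) :
    Cfsg.Lie.Sz F (2 ^ (m + 1)) = (Cfsg.Sz F m).map Matrix.SpecialLinearGroup.toGL := by
  apply le_antisymm
  · rw [Cfsg.Lie.Sz, Subgroup.closure_le]
    rintro g ⟨hg1, hg2⟩
    have hform := (mem_Sp4_iff g).mp hg1
    have hdet := det_eq_one_of_form hform
    refine ⟨⟨(g : Matrix (Fin 4) (Fin 4) F), hdet⟩, ?_, ?_⟩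
    · exact mem_Sz_of_isSzMat hm hF _ ⟨hform, hg2⟩
    · apply Units.ext
      rfl
  · rintro _ ⟨s, hs, rfl⟩
    apply Subgroup.subset_closure
    have h := isSzMat_of_mem hm hF s hs
    exact ⟨(mem_Sp4_iff _).mpr h.1, h.2⟩

/-- the isomorphism between the two descriptions of the Suzuki group -/
noncomputable def lieSzEquiv (hm : 1 ≤ m) (hF : Fintype.card F = 2 ^ (2 * m + 1)) :
    Cfsg.Sz F m ≃* Cfsg.Lie.Sz F (2 ^ (m + 1)) :=
  ((Cfsg.Sz F m).equivMapOfInjective _ Matrix.SpecialLinearGroup.toGL_injective).trans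
    (MulEquiv.subgroupCongr (LieSz_eq hm hF).symm)

end Cfsg.Agent.helper11.Sz
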