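import Cfsg.Statements.S0327
import Cfsg.Agent.Lib_helper11_Sz8

set_option autoImplicit false
open Cfsg

namespace Cfsg.Agent.S0327

open Cfsg.Agent.helper11.Sz Cfsg.Agent.S0326 Matrix

section

variable {F : Type*} [Field F] [Fintype F] {m : ℕ}

theorem coe_smul' (g : Cfsg.Sz F m) (x : Cfsg.suzukiOvoid F m) :
    ((g • x : Cfsg.suzukiOvoid F m) : Projectivization F (Fin 4 → F)) =
      (g : SpecialLinearGroup (Fin 4) F) • (x : Projectivization F (Fin 4 → F)) := rfl

theorem exists_param (x : Cfsg.suzukiOvoid F m) :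
    ∃ o : Option (F × F), (x : Projectivization F (Fin 4 → F)) = param m o := by
  have h2 : (x : Projectivization F (Fin 4 → F)) ∈ Set.range (param (F := F) m) := by
    rw [range_param]
    exact x.2
  obtain ⟨o, ho⟩ := h2
  exact ⟨o, ho.symm⟩

/-- the point of the ovoid with a given parameter -/
noncomputable def pt (m : ℕ) (o : Option (F × F)) : Cfsg.suzukiOvoid F m :=
  ⟨param m o, by rw [← range_param]; exact ⟨o, rfl⟩⟩

theorem exists_pt (x : Cfsg.suzukiOvoid F m) : ∃ o : Option (F × F), x = pt m o := by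
  obtain ⟨o, ho⟩ := exists_param x
  exact ⟨o, Subtype.ext ho⟩

theorem pt_injective : Function.Injective (pt (F := F) m) := by
  intro o o' h
  exact param_injective m (congrArg Subtype.val h)

theorem smul_pt_eq_iff (g : Cfsg.Sz F m) (o o' : Option (F × F)) :
    g • pt m o = pt m o' ↔ (g : SpecialLinearGroup (Fin 4) F) • param m o = param m o' := by
  rw [Subtype.ext_iff, coe_smul']
  rfl

end

/-- The Suzuki group (`m ≥ 1`) is a Zassenhaus group on the `q² + 1` points of the Suzuki–Tits ovoid. -/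
theorem result {F : Type*} [Field F] [Fintype F] {m : ℕ} (hm : 1 ≤ m)
    (hF : Fintype.card F = 2 ^ (2 * m + 1)) :
    Cfsg.IsZassenhausGroup (Cfsg.Sz F m) (Cfsg.suzukiOvoid F m) := by
  haveI := Cfsg.Agent.helper11.Sz.charP_two hF
  have htwo : ∀ a b : Cfsg.suzukiOvoid F m, a ≠ b →
      ∃ g : Cfsg.Sz F m, g • a = pt m none ∧ g • b = pt m (some (0, 0)) := by
    intro a b hab
    obtain ⟨oa, rfl⟩ := exists_pt a
    obtain ⟨ob, rfl⟩ := exists_pt b
    have hne : oa ≠ ob := fun h => hab (by rw [h])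
    obtain ⟨g, hg, h0, h1⟩ := two_trans hF oa ob hne
    exact ⟨⟨g, hg⟩, (smul_pt_eq_iff _ _ _).mpr h0, (smul_pt_eq_iff _ _ _).mpr h1⟩
  have hcard : 8 ≤ Fintype.card F := by
    rw [hF]
    calc 8 = 2 ^ 3 := by norm_num
      _ ≤ 2 ^ (2 * m + 1) := Nat.pow_le_pow_right (by norm_num) (by omega)
  refine ⟨⟨?_⟩, ?_, ?_, ?_, ?_⟩
  · -- faithful
    intro g g' h
    apply Subtype.ext
    apply eq_of_smul_eq hm hF _ _ g.2 g'.2
    intro o
    have := h (pt m o)
    exact congrArg Subtype.val this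
  · -- doubly transitive
    rw [MulAction.is_two_pretransitive_iff]
    intro a b c d hab hcd
    obtain ⟨g₁, h1a, h1b⟩ := htwo a b hab
    obtain ⟨g₂, h2c, h2d⟩ := htwo c d hcd
    refine ⟨g₂⁻¹ * g₁, ?_, ?_⟩
    · rw [mul_smul, h1a, inv_smul_eq_iff, h2c]
    · rw [mul_smul, h1b, inv_smul_eq_iff, h2d]
  · -- three fixed points
    intro g a b c hab hbc hac ha hb hc
    obtain ⟨h, h1a, h1b⟩ := htwo a b hab
    obtain ⟨oc, hoc⟩ := exists_pt (h • c)
    have hfix : ∀ x : Cfsg.suzukiOvoid F m, g • x = x → (h * g * h⁻¹) • (h • x) = h • x := by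
      intro x hx
      rw [← mul_smul, inv_mul_cancel_right, mul_smul, hx]
    have f1 := hfix a ha
    have f2 := hfix b hb
    have f3 := hfix c hc
    rw [h1a] at f1
    rw [h1b] at f2
    rw [hoc] at f3
    rw [smul_pt_eq_iff] at f1 f2 f3
    obtain ⟨k, hk⟩ := stab_inf_zero hm hF _ (h * g * h⁻¹).2 f1 f2
    rcases oc with _ | ⟨x, y⟩
    · exfalso
      rw [← h1a] at hoc
      exact hac (MulAction.injective h hoc).symm
    have hxy : ¬ (x = 0 ∧ y = 0) := by
      rintro ⟨rfl, rfl⟩
      rw [← h1b] at hoc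
      exact hbc (MulAction.injective h hoc).symm
    rw [hk] at f3
    have hk1 := Hs_fix_imp hF k x y hxy f3
    rw [hk1, Hs_one] at hk
    have h3 : h * g * h⁻¹ = 1 := Subtype.ext hk
    have := congrArg (fun z => h⁻¹ * z * h) h3
    simpa [mul_assoc] using this
  · -- an element fixing two points
    haveI : Nontrivial Fˣ := by
      rw [← Finite.one_lt_card_iff_nontrivial, Nat.card_units, Nat.card_eq_fintype_card]
      omega
    obtain ⟨k, hk⟩ := exists_ne (1 : Fˣ)
    refine ⟨⟨Hs m k, Hs_mem hF k⟩, ?_, pt m none, pt m (some (0, 0)), ?_, ?_, ?_⟩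
    · intro h
      apply hk
      have h' : Hs m k = (1 : SpecialLinearGroup (Fin 4) F) := congrArg Subtype.val h
      rw [← Hs_one (m := m)] at h'
      exact Hs_injective hF h'
    · intro h
      have := pt_injective h
      simp at this
    · rw [smul_pt_eq_iff]
      exact Hs_smul_inf k
    · rw [smul_pt_eq_iff]
      exact Hs_smul_zero hF k
  · -- no regular normal subgroup
    intro N hN htr
    haveI : Finite (Cfsg.Sz F m) := inferInstance
    obtain ⟨c, hc0, hc1⟩ : ∃ c : F, c ≠ 0 ∧ c ≠ 1 := by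
      by_contra hcon
      push Not at hcon
      have : Fintype.card F ≤ 2 := by
        classical
        calc Fintype.card F = (Finset.univ : Finset F).card := rfl
          _ ≤ ({0, 1} : Finset F).card := by
            apply Finset.card_le_card
            intro x _
            by_cases hx : x = 0
            · simp [hx]
            · simp [hcon x hx]
          _ ≤ 2 := Finset.card_le_two
      omega
    have hfix : ∀ b : F, b ≠ 0 → ∀ x : Cfsg.suzukiOvoid F m,
        (⟨Ts m 0 b, Ts_mem hF 0 b⟩ : Cfsg.Sz F m) • x = x ↔ x = pt m none := by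
      intro b hb x
      obtain ⟨o, rfl⟩ := exists_pt x
      rw [smul_pt_eq_iff]
      show Ts m 0 b • param m o = param m o ↔ _
      rw [Ts_fix_iff hF 0 b (fun h => hb h.2)]
      exact ⟨fun h => by rw [h], fun h => pt_injective h⟩
    have hsq : ∀ b : F, (⟨Ts m 0 b, Ts_mem hF 0 b⟩ : Cfsg.Sz F m) * ⟨Ts m 0 b, Ts_mem hF 0 b⟩ = 1 := by
      intro b
      apply Subtype.ext
      show Ts m 0 b * Ts m 0 b = 1
      rw [Ts_mul hm hF, ← Ts_zero hm hF]
      congr 1
      · simp
      · simp [CharTwo.add_self_eq_zero]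
    have hprod : (⟨Ts m 0 1, Ts_mem hF 0 1⟩ : Cfsg.Sz F m) * ⟨Ts m 0 c, Ts_mem hF 0 c⟩ =
        ⟨Ts m 0 (1 + c), Ts_mem hF 0 (1 + c)⟩ := by
      apply Subtype.ext
      show Ts m 0 1 * Ts m 0 c = Ts m 0 (1 + c)
      rw [Ts_mul hm hF]
      congr 1
      · simp
      · simp
    have h1c : (1 : F) + c ≠ 0 := by
      intro h
      apply hc1
      have h2 : c + c = 0 := CharTwo.add_self_eq_zero c
      have : c = 1 := by
        calc c = c + 0 := by ring
          _ = c + (1 + c) := by rw [h]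
          _ = 1 + (c + c) := by ring
          _ = 1 := by rw [h2, add_zero]
      exact this
    refine no_regular_normal (pt m none) (pt m (some (0, 0))) ?_
      ⟨Ts m 0 1, Ts_mem hF 0 1⟩ ⟨Ts m 0 c, Ts_mem hF 0 c⟩ (hsq 1) (hsq c)
      (hfix 1 one_ne_zero) (hfix c hc0) ?_ N hN htr
    · intro h
      have := pt_injective h
      simp at this
    · rw [hprod]
      exact hfix (1 + c) h1c

end Cfsg.Agent.S0327
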