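import Mathlib
import Cfsg.Agent.Lib_helper11_Sz13
import Cfsg.Agent.S0327

set_option autoImplicit false

/-!
# Suzuki groups, part 14: the normaliser of the Sylow 2-subgroup, the action on its cosets
-/

namespace Cfsg.Agent.helper11.Sz

open Matrix Cfsg.Agent.S0326 Cfsg.Agent.S0327

/-- abstract transfer from a doubly transitive action to the action on the cosets of a point
stabiliser -/
theorem quotient_props {G Ω : Type*} [Group G] [MulAction G Ω] (a : Ω) (S N : Subgroup G)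
    (hN : N = MulAction.stabilizer G a)
    (h2 : ∀ x y z w : Ω, x ≠ y → z ≠ w → ∃ g : G, g • x = z ∧ g • y = w)
    (hreg : ∀ x y : Ω, x ≠ a → y ≠ a → ∃! s : S, (s : G) • x = y) :
    MulAction.IsMultiplyPretransitive G (G ⧸ N) 2 ∧
    ∀ x y : G ⧸ N, x ≠ QuotientGroup.mk 1 → y ≠ QuotientGroup.mk 1 →
      ∃! s : S, (s : G) • x = y := by
  have hmk : ∀ g₁ g₂ : G, (QuotientGroup.mk g₁ : G ⧸ N) = QuotientGroup.mk g₂ ↔ g₁ • a = g₂ • a := by
    intro g₁ g₂
    rw [QuotientGroup.eq, hN, MulAction.mem_stabilizer_iff, mul_smul, inv_smul_eq_iff]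
    exact eq_comm
  have hsmul : ∀ g g₁ : G, g • (QuotientGroup.mk g₁ : G ⧸ N) = QuotientGroup.mk (g * g₁) :=
    fun g g₁ => rfl
  constructor
  · rw [MulAction.is_two_pretransitive_iff]
    intro x y z w hxy hzw
    obtain ⟨g₁, rfl⟩ := QuotientGroup.mk_surjective x
    obtain ⟨g₂, rfl⟩ := QuotientGroup.mk_surjective y
    obtain ⟨g₃, rfl⟩ := QuotientGroup.mk_surjective z
    obtain ⟨g₄, rfl⟩ := QuotientGroup.mk_surjective w
    have h12 : g₁ • a ≠ g₂ • a := fun h => hxy ((hmk _ _).mpr h)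
    have h34 : g₃ • a ≠ g₄ • a := fun h => hzw ((hmk _ _).mpr h)
    obtain ⟨g, hg1, hg2⟩ := h2 _ _ _ _ h12 h34
    refine ⟨g, ?_, ?_⟩
    · rw [hsmul, hmk, mul_smul, hg1]
    · rw [hsmul, hmk, mul_smul, hg2]
  · intro x y hx hy
    obtain ⟨g₁, rfl⟩ := QuotientGroup.mk_surjective x
    obtain ⟨g₂, rfl⟩ := QuotientGroup.mk_surjective y
    have h1 : g₁ • a ≠ a := by
      intro h
      apply hx
      rw [hmk, h, one_smul]
    have h2' : g₂ • a ≠ a := by
      intro h
      apply hy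
      rw [hmk, h, one_smul]
    obtain ⟨s, hs, hs'⟩ := hreg _ _ h1 h2'
    refine ⟨s, ?_, ?_⟩
    · show (s : G) • (QuotientGroup.mk g₁ : G ⧸ N) = QuotientGroup.mk g₂
      rw [hsmul, hmk, mul_smul]
      exact hs
    · intro t ht
      apply hs'
      have ht' : (t : G) • (QuotientGroup.mk g₁ : G ⧸ N) = QuotientGroup.mk g₂ := ht
      rw [hsmul, hmk, mul_smul] at ht'
      exact ht'

variable {F : Type*} [Field F] [CharP F 2] [Fintype F] {m : ℕ}

/-- the normaliser of `Q` is the stabiliser of `∞` -/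
theorem normalizer_Qs (hm : 1 ≤ m) (hF : Fintype.card F = 2 ^ (2 * m + 1)) :
    Subgroup.normalizer ((Qs hm hF : Subgroup (Cfsg.Sz F m)) : Set (Cfsg.Sz F m)) =
      MulAction.stabilizer (Cfsg.Sz F m) (pt (F := F) m none) := by
  have hfixP : ∀ a b : F, ¬ (a = 0 ∧ b = 0) → ∀ z : Cfsg.suzukiOvoid F m,
      (tq hF a b) • z = z ↔ z = pt m none := by
    intro a b hab z
    obtain ⟨o, rfl⟩ := exists_pt z
    rw [smul_pt_eq_iff]
    have h2 : Ts m a b • param m o = param m o ↔ o = none := Ts_fix_iff hF a b hab o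
    rw [show ((tq hF a b : Cfsg.Sz F m) : SpecialLinearGroup (Fin 4) F) = Ts m a b from rfl, h2]
    exact ⟨fun h => by rw [h], fun h => pt_injective h⟩
  have hconj : ∀ g : Cfsg.Sz F m, g • pt (F := F) m none = pt m none → ∀ p ∈ Qs hm hF,
      g * p * g⁻¹ ∈ Qs hm hF := by
    rintro g hg _ ⟨a, b, rfl⟩
    rw [smul_pt_eq_iff] at hg
    obtain ⟨a', b', k, rfl⟩ := stab_inf' hm hF g hg
    have e2 : tq hF a' b' * hq hF k * tq hF a b * (tq hF a' b' * hq hF k)⁻¹ =
        tq hF a' b' * (hq hF k * tq hF a b * (hq hF k)⁻¹) * (tq hF a' b')⁻¹ := by group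
    rw [e2, hq_tq_conj hm hF, tq_tq_conj hm hF]
    exact ⟨_, _, rfl⟩
  ext g
  rw [Subgroup.mem_normalizer_iff, MulAction.mem_stabilizer_iff]
  constructor
  · intro h
    have hp : tq hF 1 0 ∈ Qs hm hF := ⟨1, 0, rfl⟩
    obtain ⟨a, b, hab⟩ := (h _).mp hp
    have hne : ¬ (a = 0 ∧ b = 0) := by
      rintro ⟨rfl, rfl⟩
      rw [tq_zero hm hF] at hab
      have h2 : tq hF (1 : F) 0 = 1 := by
        have := congrArg (fun z => g⁻¹ * z * g) hab
        simp only [mul_one, inv_mul_cancel] at this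
        rw [← this]
        group
      have := (tq_eq_one_iff hm hF).mp h2
      exact one_ne_zero this.1
    have h3 : (g * tq hF 1 0 * g⁻¹) • (g • pt (F := F) m none) = g • pt m none := by
      rw [mul_smul, inv_smul_smul, mul_smul]
      congr 1
      exact (hfixP 1 0 (fun h => one_ne_zero h.1) _).mpr rfl
    rw [hab] at h3
    exact (hfixP a b hne _).mp h3
  · intro hg p
    constructor
    · exact hconj g hg p
    · intro hp
      have hg' : g⁻¹ • pt (F := F) m none = pt m none := by rw [inv_smul_eq_iff, hg]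
      have := hconj g⁻¹ hg' _ hp
      have e : g⁻¹ * (g * p * g⁻¹) * g⁻¹⁻¹ = p := by group
      rw [e] at this
      exact this

/-- `Q` acts regularly on the affine points -/
theorem Qs_regular (hm : 1 ≤ m) (hF : Fintype.card F = 2 ^ (2 * m + 1))
    (x y : Cfsg.suzukiOvoid F m) (hx : x ≠ pt m none) (hy : y ≠ pt m none) :
    ∃! s : Qs hm hF, (s : Cfsg.Sz F m) • x = y := by
  have h2 : ∀ z : F, z + z = 0 := CharTwo.add_self_eq_zero
  obtain ⟨ox, rfl⟩ := exists_pt x
  obtain ⟨oy, rfl⟩ := exists_pt y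
  rcases ox with _ | ⟨x₁, x₂⟩
  · exact absurd rfl hx
  rcases oy with _ | ⟨y₁, y₂⟩
  · exact absurd rfl hy
  have key : ∀ a b : F, tq hF a b • pt (F := F) m (some (x₁, x₂)) = pt m (some (y₁, y₂)) ↔
      a = x₁ + y₁ ∧ b = y₂ + x₂ + th F m (x₁ + y₁) * x₁ := by
    intro a b
    rw [smul_pt_eq_iff]
    rw [show ((tq hF a b : Cfsg.Sz F m) : SpecialLinearGroup (Fin 4) F) = Ts m a b from rfl,
      Ts_smul_some hF]
    constructor
    · intro h
      have h' := param_injective m h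
      simp only [Option.some.injEq, Prod.mk.injEq] at h'
      obtain ⟨h1, h3⟩ := h'
      have ha : a = x₁ + y₁ := by
        rw [← h1]
        grind
      refine ⟨ha, ?_⟩
      rw [← ha, ← h3]
      grind
    · rintro ⟨rfl, rfl⟩
      congr 3
      · grind
      · grind
  refine ⟨⟨tq hF (x₁ + y₁) (y₂ + x₂ + th F m (x₁ + y₁) * x₁), tq_mem_Qs hm hF _ _⟩, ?_, ?_⟩
  · exact (key _ _).mpr ⟨rfl, rfl⟩
  · rintro ⟨_, a, b, rfl⟩ hs
    obtain ⟨rfl, rfl⟩ := (key a b).mp hs
    rfl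

end Cfsg.Agent.helper11.Sz
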