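import Mathlib

set_option autoImplicit false

/-!
# Suzuki groups, part 15: centralisers in `M₄(q)` of elements of prime order dividing `q² + 1`
-/

namespace Cfsg.Agent.helper11.Sz

open Matrix

/-- arithmetic: `q` has order four modulo an odd prime dividing `q² + 1` -/
theorem pow_mod_ne_one {p q d : ℕ} [Fact p.Prime] (hp2 : p ≠ 2) (hp : p ∣ q ^ 2 + 1)
    (hd1 : 1 ≤ d) (hd3 : d ≤ 3) : ¬ (q ^ d ≡ 1 [MOD p]) := by
  have hx : ((q : ZMod p)) ^ 2 = -1 := by
    have h1 : ((q ^ 2 + 1 : ℕ) : ZMod p) = 0 := (ZMod.natCast_eq_zero_iff _ _).mpr hp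
    push_cast at h1
    exact eq_neg_of_add_eq_zero_left h1
  have h2ne : (2 : ZMod p) ≠ 0 := by
    intro h
    have h' : ((2 : ℕ) : ZMod p) = 0 := by exact_mod_cast h
    rw [ZMod.natCast_eq_zero_iff] at h'
    exact hp2 ((Nat.prime_dvd_prime_iff_eq Fact.out Nat.prime_two).mp h')
  intro h
  have h' : ((q ^ d : ℕ) : ZMod p) = ((1 : ℕ) : ZMod p) := (ZMod.natCast_eq_natCast_iff _ _ _).mpr h
  push_cast at h'
  set x := (q : ZMod p) with hxdef
  interval_cases d
  · rw [pow_one] at h'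
    rw [h'] at hx
    apply h2ne
    linear_combination hx
  · rw [hx] at h'
    apply h2ne
    linear_combination -h'
  · have hx3 : x ^ 3 = -x := by
      have : x ^ 3 = x ^ 2 * x := by ring
      rw [this, hx]; ring
    rw [hx3] at h'
    have hx1 : x = -1 := by linear_combination -h'
    rw [hx1] at hx
    apply h2ne
    linear_combination hx

theorem pow_four_mod {p q : ℕ} [Fact p.Prime] (hp : p ∣ q ^ 2 + 1) : q ^ 4 ≡ 1 [MOD p] := by
  have hx : ((q : ZMod p)) ^ 2 = -1 := by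
    have h1 : ((q ^ 2 + 1 : ℕ) : ZMod p) = 0 := (ZMod.natCast_eq_zero_iff _ _).mpr hp
    push_cast at h1
    exact eq_neg_of_add_eq_zero_left h1
  rw [← ZMod.natCast_eq_natCast_iff]
  push_cast
  have : (q : ZMod p) ^ 4 = ((q : ZMod p) ^ 2) ^ 2 := by ring
  rw [this, hx]
  ring

variable {F : Type*} [Field F] [Fintype F]

/-- the fixed vectors of a matrix -/
def fixSub (A : Matrix (Fin 4) (Fin 4) F) : Submodule F (Fin 4 → F) where
  carrier := {v | A *ᵥ v = v}
  add_mem' := by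
    intro u v hu hv
    show A *ᵥ (u + v) = u + v
    rw [Matrix.mulVec_add, hu, hv]
  zero_mem' := Matrix.mulVec_zero A
  smul_mem' := by
    intro c v hv
    show A *ᵥ (c • v) = c • v
    rw [Matrix.mulVec_smul, hv]

omit [Fintype F] in
theorem mem_fixSub (A : Matrix (Fin 4) (Fin 4) F) (v : Fin 4 → F) : v ∈ fixSub A ↔ A *ᵥ v = v :=
  Iff.rfl

/-- counting fixed points of a matrix of prime order on an invariant subspace -/
theorem card_invariant_modEq {p : ℕ} [Fact p.Prime] (A : Matrix (Fin 4) (Fin 4) F)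
    (hA : A ^ p = 1) (W : Submodule F (Fin 4 → F)) (hinv : ∀ w ∈ W, A *ᵥ w ∈ W) :
    Fintype.card F ^ Module.finrank F W ≡
      Fintype.card F ^ Module.finrank F (W ⊓ fixSub A : Submodule F (Fin 4 → F)) [MOD p] := by
  classical
  let f : Function.End W := fun w => ⟨A *ᵥ (w : Fin 4 → F), hinv w w.2⟩
  have hiter : ∀ (n : ℕ) (w : W), (((f ^ n) w : W) : Fin 4 → F) = (A ^ n) *ᵥ (w : Fin 4 → F) := by
    intro n
    induction n with
    | zero =>
      intro w
      rw [pow_zero, pow_zero, Matrix.one_mulVec]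
      rfl
    | succ n ih =>
      intro w
      rw [pow_succ', pow_succ']
      show A *ᵥ (((f ^ n) w : W) : Fin 4 → F) = _
      rw [ih, Matrix.mulVec_mulVec]
  have hf : f ^ p ^ 1 = 1 := by
    rw [pow_one]
    funext w
    apply Subtype.ext
    rw [hiter, hA, Matrix.one_mulVec]
    rfl
  have h1 := Equiv.Perm.card_fixedPoints_modEq (p := p) (n := 1) hf
  have e : Function.fixedPoints f ≃ (W ⊓ fixSub A : Submodule F (Fin 4 → F)) :=
    { toFun := fun w => ⟨(w.1 : Fin 4 → F), ⟨w.1.2, by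
        have := w.2
        have h2 : f w.1 = w.1 := this
        exact congrArg Subtype.val h2⟩⟩
      invFun := fun v => ⟨⟨v.1, v.2.1⟩, by
        show f ⟨v.1, v.2.1⟩ = ⟨v.1, v.2.1⟩
        apply Subtype.ext
        exact v.2.2⟩
      left_inv := fun w => rfl
      right_inv := fun v => rfl }
  rw [Fintype.card_congr e, Module.card_eq_pow_finrank (K := F) (V := W),
    Module.card_eq_pow_finrank (K := F) (V := (W ⊓ fixSub A : Submodule F (Fin 4 → F)))] at h1
  exact h1

/-- a matrix of prime order `p ∣ q² + 1` acts irreducibly: an invariant subspace is trivial -/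
theorem invariant_eq_bot_or_top {p : ℕ} [Fact p.Prime] (hp2 : p ≠ 2)
    (hp : p ∣ Fintype.card F ^ 2 + 1) (A : Matrix (Fin 4) (Fin 4) F)
    (hA : A ^ p = 1) (hA1 : A ≠ 1) (W : Submodule F (Fin 4 → F)) (hinv : ∀ w ∈ W, A *ᵥ w ∈ W) :
    W = ⊥ ∨ W = ⊤ := by
  have hV : Module.finrank F (Fin 4 → F) = 4 := by simp
  -- no fixed vectors
  have hfix : fixSub A = ⊥ := by
    have h1 := card_invariant_modEq A hA ⊤ (fun w _ => Submodule.mem_top)
    rw [top_inf_eq, finrank_top, hV] at h1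
    have hle : Module.finrank F (fixSub A) ≤ 4 :=
      le_trans (Submodule.finrank_le _) hV.le
    have h2 : Fintype.card F ^ Module.finrank F (fixSub A) ≡ 1 [MOD p] :=
      h1.symm.trans (pow_four_mod hp)
    by_contra hne
    have hpos : 0 < Module.finrank F (fixSub A) := Submodule.one_le_finrank_iff.mpr hne
    rcases Nat.lt_or_ge (Module.finrank F (fixSub A)) 4 with hlt | hge
    · exact pow_mod_ne_one hp2 hp hpos (by omega) h2
    · have htop : fixSub A = ⊤ := by
        apply Submodule.eq_top_of_finrank_eq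
        rw [hV]; omega
      apply hA1
      ext i j
      have h3 : (Pi.single j 1 : Fin 4 → F) ∈ fixSub A := by rw [htop]; exact Submodule.mem_top
      have h4 := congrFun ((mem_fixSub A _).mp h3) i
      rw [Matrix.mulVec_single_one] at h4
      simp only [Matrix.col_apply] at h4
      rw [Matrix.one_apply, h4, Pi.single_apply]
  by_contra hcon
  push Not at hcon
  obtain ⟨hbot, htop⟩ := hcon
  have h1 := card_invariant_modEq A hA W hinv
  rw [hfix, inf_bot_eq, finrank_bot, pow_zero] at h1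
  have hpos : 0 < Module.finrank F W := Submodule.one_le_finrank_iff.mpr hbot
  have hlt : Module.finrank F W < 4 :=
    lt_of_lt_of_eq (Submodule.finrank_lt htop) hV
  exact pow_mod_ne_one hp2 hp hpos (by omega) h1

/-- the centraliser of a matrix of prime order `p ∣ q² + 1` is commutative -/
theorem centralizer_comm {p : ℕ} [Fact p.Prime] (hp2 : p ≠ 2)
    (hp : p ∣ Fintype.card F ^ 2 + 1) (A : Matrix (Fin 4) (Fin 4) F)
    (hA : A ^ p = 1) (hA1 : A ≠ 1) (B C : Matrix (Fin 4) (Fin 4) F)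
    (hB : B * A = A * B) (hC : C * A = A * C) : B * C = C * B := by
  -- the double centraliser applied to a fixed non-zero vector
  let v : Fin 4 → F := Pi.single 0 1
  have hv : v ≠ 0 := by
    intro h
    have := congrFun h 0
    simp [v] at this
  let W : Submodule F (Fin 4 → F) :=
    { carrier := {w | ∃ X : Matrix (Fin 4) (Fin 4) F,
        (∀ Y : Matrix (Fin 4) (Fin 4) F, Y * A = A * Y → X * Y = Y * X) ∧ X *ᵥ v = w}
      add_mem' := by
        rintro _ _ ⟨X, hX, rfl⟩ ⟨X', hX', rfl⟩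
        refine ⟨X + X', ?_, Matrix.add_mulVec _ _ _⟩
        intro Y hY
        rw [add_mul, mul_add, hX Y hY, hX' Y hY]
      zero_mem' := ⟨0, fun Y _ => by rw [zero_mul, mul_zero], Matrix.zero_mulVec _⟩
      smul_mem' := by
        rintro c _ ⟨X, hX, rfl⟩
        refine ⟨c • X, ?_, Matrix.smul_mulVec _ _ _⟩
        intro Y hY
        rw [Matrix.smul_mul, Matrix.mul_smul, hX Y hY] }
  have hAZ : ∀ Y : Matrix (Fin 4) (Fin 4) F, Y * A = A * Y → A * Y = Y * A := fun Y hY => hY.symm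
  have hWinv : ∀ w ∈ W, A *ᵥ w ∈ W := by
    rintro _ ⟨X, hX, rfl⟩
    refine ⟨A * X, ?_, (Matrix.mulVec_mulVec _ _ _).symm⟩
    intro Y hY
    rw [mul_assoc, hX Y hY, ← mul_assoc, hAZ Y hY, mul_assoc]
  have hvW : v ∈ W := ⟨1, fun Y _ => by rw [one_mul, mul_one], Matrix.one_mulVec v⟩
  have hWtop : W = ⊤ := by
    rcases invariant_eq_bot_or_top hp2 hp A hA hA1 W hWinv with h | h
    · exfalso
      rw [h, Submodule.mem_bot] at hvW
      exact hv hvW
    · exact h
  have hall : ∀ w : Fin 4 → F, ∃ X : Matrix (Fin 4) (Fin 4) F,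
      (∀ Y : Matrix (Fin 4) (Fin 4) F, Y * A = A * Y → X * Y = Y * X) ∧ X *ᵥ v = w := by
    intro w
    have : w ∈ W := by rw [hWtop]; exact Submodule.mem_top
    exact this
  obtain ⟨P, hP, hPv⟩ := hall (B *ᵥ v)
  obtain ⟨Q, hQ, hQv⟩ := hall (C *ᵥ v)
  -- `P` and `Q` commute with `A`
  have hQA : Q * A = A * Q := hQ A rfl
  have hPQ : P * Q = Q * P := hP Q hQA
  have hBC : B * C * A = A * (B * C) := by
    rw [mul_assoc, hC, ← mul_assoc, hB, mul_assoc]
  have hCB : C * B * A = A * (C * B) := by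
    rw [mul_assoc, hB, ← mul_assoc, hC, mul_assoc]
  have hDv : (B * C - C * B) *ᵥ v = 0 := by
    have e1 : (B * C) *ᵥ v = (Q * P) *ᵥ v := by
      calc (B * C) *ᵥ v = B *ᵥ (C *ᵥ v) := (Matrix.mulVec_mulVec _ _ _).symm
        _ = B *ᵥ (Q *ᵥ v) := by rw [hQv]
        _ = (B * Q) *ᵥ v := Matrix.mulVec_mulVec _ _ _
        _ = (Q * B) *ᵥ v := by rw [hQ B hB]
        _ = Q *ᵥ (B *ᵥ v) := (Matrix.mulVec_mulVec _ _ _).symm
        _ = Q *ᵥ (P *ᵥ v) := by rw [hPv]
        _ = (Q * P) *ᵥ v := Matrix.mulVec_mulVec _ _ _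
    have e2 : (C * B) *ᵥ v = (Q * P) *ᵥ v := by
      calc (C * B) *ᵥ v = C *ᵥ (B *ᵥ v) := (Matrix.mulVec_mulVec _ _ _).symm
        _ = C *ᵥ (P *ᵥ v) := by rw [hPv]
        _ = (C * P) *ᵥ v := Matrix.mulVec_mulVec _ _ _
        _ = (P * C) *ᵥ v := by rw [hP C hC]
        _ = P *ᵥ (C *ᵥ v) := (Matrix.mulVec_mulVec _ _ _).symm
        _ = P *ᵥ (Q *ᵥ v) := by rw [hQv]
        _ = (P * Q) *ᵥ v := Matrix.mulVec_mulVec _ _ _
        _ = (Q * P) *ᵥ v := by rw [hPQ]
    rw [Matrix.sub_mulVec, e1, e2, sub_self]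
  have hD : B * C - C * B = 0 := by
    have hDA : (B * C - C * B) * A = A * (B * C - C * B) := by
      rw [sub_mul, mul_sub, hBC, hCB]
    ext i j
    obtain ⟨X, hX, hXv⟩ := hall (Pi.single j 1)
    have h1 : (B * C - C * B) *ᵥ (Pi.single j 1) = 0 := by
      rw [← hXv, Matrix.mulVec_mulVec, ← hX _ hDA, ← Matrix.mulVec_mulVec, hDv, Matrix.mulVec_zero]
    have h2 := congrFun h1 i
    rw [Matrix.mulVec_single_one] at h2
    simpa using h2
  exact sub_eq_zero.mp hD

end Cfsg.Agent.helper11.Sz
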