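import Mathlib
import Cfsg.Agent.Lib_helper11_Sz14
import Cfsg.Agent.Lib_helper11_Sz15

set_option autoImplicit false

/-!
# Suzuki groups, part 16: centralisers of elements
-/

namespace Cfsg.Agent.helper11.Sz

open Matrix Cfsg.Agent.S0326 Cfsg.Agent.S0327

variable {F : Type*} [Field F] [CharP F 2] [Fintype F] {m : ℕ}

/-- an element fixing three points is trivial -/
theorem eq_one_of_three_fixed (hm : 1 ≤ m) (hF : Fintype.card F = 2 ^ (2 * m + 1))
    (g : Cfsg.Sz F m) (a b c : Cfsg.suzukiOvoid F m) (hab : a ≠ b) (hbc : b ≠ c) (hac : a ≠ c)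
    (ha : g • a = a) (hb : g • b = b) (hc : g • c = c) : g = 1 := by
  obtain ⟨-, -, h3, -, -⟩ := Cfsg.Agent.S0327.result hm hF
  exact h3 g a b c hab hbc hac ha hb hc

/-- an element of order at most two fixes a point -/
theorem exists_fixed_of_sq_eq_one (hm : 1 ≤ m) (hF : Fintype.card F = 2 ^ (2 * m + 1))
    (g : Cfsg.Sz F m) (hg : g * g = 1) : ∃ y : Cfsg.suzukiOvoid F m, g • y = y := by
  haveI : Fact (Nat.Prime 2) := ⟨Nat.prime_two⟩
  have hP : IsPGroup 2 (Subgroup.zpowers g) := by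
    rintro ⟨h, hh⟩
    refine ⟨1, ?_⟩
    obtain ⟨n, rfl⟩ := Subgroup.mem_zpowers_iff.mp hh
    apply Subtype.ext
    show (g ^ n) ^ 2 ^ 1 = 1
    rw [pow_one, pow_two, ← _root_.zpow_add, ← two_mul, _root_.zpow_mul, zpow_two, hg, _root_.one_zpow]
  obtain ⟨P, hP'⟩ := hP.exists_le_sylow
  obtain ⟨x, hx⟩ := exists_conj_tq hm hF P
  obtain ⟨a, b, hab⟩ := (hx g).mp (hP' (Subgroup.mem_zpowers g))
  refine ⟨x • pt m none, ?_⟩
  rw [hab, mul_smul, mul_smul, inv_smul_smul]
  congr 1
  rw [smul_pt_eq_iff]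
  exact Ts_smul_inf a b

/-- an element interchanging two points is an involution -/
theorem sq_eq_one_of_swap (hm : 1 ≤ m) (hF : Fintype.card F = 2 ^ (2 * m + 1))
    (g : Cfsg.Sz F m) (u v : Cfsg.suzukiOvoid F m) (huv : u ≠ v) (h1 : g • u = v)
    (h2 : g • v = u) : g * g = 1 := by
  obtain ⟨ou, rfl⟩ := exists_pt u
  obtain ⟨ov, rfl⟩ := exists_pt v
  have hne : ou ≠ ov := fun h => huv (by rw [h])
  obtain ⟨h, hh, hh0, hh1⟩ := two_trans hF ou ov hne
  set h' : Cfsg.Sz F m := ⟨h, hh⟩ with hh'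
  have e0 : h' • pt (F := F) m ou = pt m none := (smul_pt_eq_iff _ _ _).mpr hh0
  have e1 : h' • pt (F := F) m ov = pt m (some (0, 0)) := (smul_pt_eq_iff _ _ _).mpr hh1
  set g' := h' * g * h'⁻¹ with hg'
  have f1 : g' • pt (F := F) m none = pt m (some (0, 0)) := by
    rw [hg', mul_smul, mul_smul, ← e0, inv_smul_smul, h1, e1]
  have f2 : g' • pt (F := F) m (some (0, 0)) = pt m none := by
    rw [hg', mul_smul, mul_smul, ← e1, inv_smul_smul, h2, e0]
  have hw0 : wq hF • pt (F := F) m none = pt m (some (0, 0)) := by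
    rw [smul_pt_eq_iff]; exact ws_smul_inf
  have hw1 : wq hF • pt (F := F) m (some (0, 0)) = pt m none := by
    rw [smul_pt_eq_iff]; exact ws_smul_zero
  have f3 : (g' * wq hF) • pt (F := F) m none = pt m none := by
    rw [mul_smul, hw0, f2]
  have f4 : (g' * wq hF) • pt (F := F) m (some (0, 0)) = pt m (some (0, 0)) := by
    rw [mul_smul, hw1, f1]
  rw [smul_pt_eq_iff] at f3 f4
  obtain ⟨k, hk⟩ := stab_inf_zero hm hF _ (g' * wq hF).2 f3 f4
  have hk' : g' * wq hF = hq hF k := Subtype.ext hk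
  have hg'' : g' = hq hF k * wq hF := by
    rw [← hk', mul_assoc, wq_mul_wq, mul_one]
  have hsq : g' * g' = 1 := by
    rw [hg'']
    calc hq hF k * wq hF * (hq hF k * wq hF) = hq hF k * (wq hF * hq hF k * wq hF) := by group
      _ = 1 := by rw [wq_hq_wq, hq_mul hm hF, mul_inv_cancel, hq_one]
  have : g * g = h'⁻¹ * (g' * g') * h' := by rw [hg']; group
  rw [this, hsq]
  group

/-- non-identity powers of a fixed-point-free element are fixed-point-free -/
theorem fpf_of_pow (hm : 1 ≤ m) (hF : Fintype.card F = 2 ^ (2 * m + 1))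
    (g : Cfsg.Sz F m) (hg : ∀ y : Cfsg.suzukiOvoid F m, g • y ≠ y) (x : Cfsg.Sz F m)
    (hx : Commute g x) (hx1 : x ≠ 1) (y : Cfsg.suzukiOvoid F m) : x • y ≠ y := by
  intro hy
  have hgy : x • (g • y) = g • y := by
    rw [← mul_smul, ← hx.eq, mul_smul, hy]
  have hggy : x • (g • (g • y)) = g • (g • y) := by
    rw [← mul_smul, ← hx.eq, mul_smul, hgy]
  by_cases hsw : g • (g • y) = y
  · have := sq_eq_one_of_swap hm hF g y (g • y) (hg y).symm rfl hsw
    obtain ⟨z, hz⟩ := exists_fixed_of_sq_eq_one hm hF g this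
    exact hg z hz
  · apply hx1
    exact eq_one_of_three_fixed hm hF x y (g • y) (g • (g • y)) (hg y).symm (hg (g • y)).symm
      (fun h => hsw h.symm) hy hgy hggy

/-- a fixed-point-free element has a power of odd prime order `p ∣ q² + 1` -/
theorem exists_prime_pow_of_fpf (hm : 1 ≤ m) (hF : Fintype.card F = 2 ^ (2 * m + 1))
    (g : Cfsg.Sz F m) (hg : ∀ y : Cfsg.suzukiOvoid F m, g • y ≠ y) :
    ∃ (p : ℕ) (x : Cfsg.Sz F m), p.Prime ∧ p ≠ 2 ∧ p ∣ Fintype.card F ^ 2 + 1 ∧
      (∃ n : ℕ, x = g ^ n) ∧ x ≠ 1 ∧ x ^ p = 1 := by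
  classical
  have hg1 : g ≠ 1 := by
    rintro rfl
    exact hg (pt m none) (one_smul _ _)
  have hn0 : orderOf g ≠ 0 := (orderOf_pos g).ne'
  have hn1 : orderOf g ≠ 1 := by
    intro h
    exact hg1 (orderOf_eq_one_iff.mp h)
  set p := (orderOf g).minFac with hp
  have hpp : p.Prime := Nat.minFac_prime hn1
  have hpd : p ∣ orderOf g := Nat.minFac_dvd _
  set x := g ^ (orderOf g / p) with hx
  have hox : orderOf x = p := orderOf_pow_orderOf_div hn0 hpd
  have hx1 : x ≠ 1 := by
    intro h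
    rw [h, orderOf_one] at hox
    exact hpp.one_lt.ne hox
  have hcomm : Commute g x := (Commute.refl g).pow_right _
  have hxp : x ^ p = 1 := by rw [← hox]; exact pow_orderOf_eq_one x
  have hfpf := fpf_of_pow hm hF g hg x hcomm hx1
  haveI : Fact p.Prime := ⟨hpp⟩
  -- `p` divides the number of points
  let f : Function.End (Cfsg.suzukiOvoid F m) := fun y => x • y
  have hiter : ∀ (n : ℕ) (y : Cfsg.suzukiOvoid F m), (f ^ n) y = x ^ n • y := by
    intro n
    induction n with
    | zero => intro y; rw [pow_zero, pow_zero, one_smul]; rfl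
    | succ n ih =>
      intro y
      rw [pow_succ', pow_succ', mul_smul, ← ih]
      rfl
  have hf : f ^ p ^ 1 = 1 := by
    rw [pow_one]
    funext y
    rw [hiter, hxp, one_smul]
    rfl
  haveI : Fintype (Cfsg.suzukiOvoid F m) := Fintype.ofFinite _
  have h1 := Equiv.Perm.card_fixedPoints_modEq (p := p) (n := 1) hf
  have hempty : IsEmpty (Function.fixedPoints f) := ⟨fun y => hfpf y.1 y.2⟩
  have h0 : Fintype.card (Function.fixedPoints f) = 0 := Fintype.card_eq_zero_iff.mpr hempty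
  rw [h0, Fintype.card_eq_nat_card, Cfsg.Agent.S0326.result] at h1
  have hdvd : p ∣ Fintype.card F ^ 2 + 1 := (Nat.modEq_zero_iff_dvd).mp h1
  refine ⟨p, x, hpp, ?_, hdvd, ⟨_, hx⟩, hx1, hxp⟩
  intro hp2
  rw [hp2, hF] at hdvd
  have : 2 ∣ (2 ^ (2 * m + 1)) ^ 2 := by
    rw [← pow_mul]; exact dvd_pow_self 2 (by omega)
  omega

/-- the centraliser of a fixed-point-free element is commutative -/
theorem comm_of_fpf (hm : 1 ≤ m) (hF : Fintype.card F = 2 ^ (2 * m + 1))
    (g : Cfsg.Sz F m) (hg : ∀ y : Cfsg.suzukiOvoid F m, g • y ≠ y) (c c' : Cfsg.Sz F m)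
    (hc : c * g = g * c) (hc' : c' * g = g * c') : c * c' = c' * c := by
  obtain ⟨p, x, hpp, hp2, hpd, ⟨n, hn⟩, hx1, hxp⟩ := exists_prime_pow_of_fpf hm hF g hg
  haveI : Fact p.Prime := ⟨hpp⟩
  have hcx : c * x = x * c := by
    rw [hn]
    exact ((show Commute c g from hc).pow_right n).eq
  have hcx' : c' * x = x * c' := by
    rw [hn]
    exact ((show Commute c' g from hc').pow_right n).eq
  have coe_mul' : ∀ a b : Cfsg.Sz F m, (((a * b : Cfsg.Sz F m) : SpecialLinearGroup (Fin 4) F) :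
      Matrix (Fin 4) (Fin 4) F) = ((a : SpecialLinearGroup (Fin 4) F) : Matrix (Fin 4) (Fin 4) F) *
        ((b : SpecialLinearGroup (Fin 4) F) : Matrix (Fin 4) (Fin 4) F) := fun a b => rfl
  have hA : (((x : SpecialLinearGroup (Fin 4) F) : Matrix (Fin 4) (Fin 4) F)) ^ p = 1 := by
    have h1 : ((x ^ p : Cfsg.Sz F m) : SpecialLinearGroup (Fin 4) F) = 1 := by rw [hxp]; rfl
    rw [Subgroup.coe_pow] at h1
    have h2 := congrArg (fun z : SpecialLinearGroup (Fin 4) F => (z : Matrix (Fin 4) (Fin 4) F)) h1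
    simpa using h2
  have hA1 : (((x : SpecialLinearGroup (Fin 4) F) : Matrix (Fin 4) (Fin 4) F)) ≠ 1 := by
    intro h
    apply hx1
    apply Subtype.ext
    apply Subtype.ext
    exact h
  have hB := congrArg (fun z : Cfsg.Sz F m =>
    ((z : SpecialLinearGroup (Fin 4) F) : Matrix (Fin 4) (Fin 4) F)) hcx
  have hC := congrArg (fun z : Cfsg.Sz F m =>
    ((z : SpecialLinearGroup (Fin 4) F) : Matrix (Fin 4) (Fin 4) F)) hcx'
  simp only [coe_mul'] at hB hC
  have := centralizer_comm hp2 hpd _ hA hA1 _ _ hB hC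
  apply Subtype.ext
  apply Subtype.ext
  rw [coe_mul', coe_mul']
  exact this

/-- conjugating a commutation relation -/
theorem conj_commute {G : Type*} [Group G] (z h c : G)
    (hc : c * (z * h * z⁻¹) = (z * h * z⁻¹) * c) : (z⁻¹ * c * z) * h = h * (z⁻¹ * c * z) := by
  calc (z⁻¹ * c * z) * h = z⁻¹ * (c * (z * h * z⁻¹)) * z := by group
    _ = z⁻¹ * ((z * h * z⁻¹) * c) * z := by rw [hc]
    _ = h * (z⁻¹ * c * z) := by group

/-- the centraliser of `T(a, b) ≠ 1` lies in `Q` -/
theorem centralizer_tq (hm : 1 ≤ m) (hF : Fintype.card F = 2 ^ (2 * m + 1)) (a b : F)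
    (hab : ¬ (a = 0 ∧ b = 0)) (c : Cfsg.Sz F m) (hc : c * tq hF a b = tq hF a b * c) :
    ∃ a' b' : F, c = tq hF a' b' := by
  -- `c` fixes `∞`
  obtain ⟨o, ho⟩ := smul_mem_ovoid c.1 c.2 none
  have h1 : Ts m a b • param m o = param m o := by
    have e1 : (tq hF a b * c : Cfsg.Sz F m) • pt (F := F) m none = c • pt (F := F) m none := by
      rw [← hc, mul_smul]
      congr 1
      rw [smul_pt_eq_iff]
      exact Ts_smul_inf a b
    rw [mul_smul] at e1
    have e2 : c • pt (F := F) m none = pt m o := (smul_pt_eq_iff _ _ _).mpr ho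
    rw [e2, smul_pt_eq_iff] at e1
    exact e1
  have ho' : o = none := (Ts_fix_iff hF a b hab o).mp h1
  rw [ho'] at ho
  obtain ⟨a', b', k, rfl⟩ := stab_inf' hm hF c ho
  have hc' : tq hF a' b' * hq hF k * tq hF a b * (tq hF a' b' * hq hF k)⁻¹ = tq hF a b := by
    rw [hc]; group
  have e3 : tq hF a' b' * hq hF k * tq hF a b * (tq hF a' b' * hq hF k)⁻¹ =
      tq hF a' b' * (hq hF k * tq hF a b * (hq hF k)⁻¹) * (tq hF a' b')⁻¹ := by group
  rw [e3, hq_tq_conj hm hF, tq_tq_conj hm hF] at hc'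
  obtain ⟨e4, e5⟩ := tq_injective hF hc'
  have hk : k = 1 := by
    by_cases ha : a = 0
    · have hb : b ≠ 0 := fun h => hab ⟨ha, h⟩
      rw [ha, mul_zero, mul_zero, map_zero, zero_mul, add_zero, add_zero] at e5
      apply Hs_fix_imp hF k 0 b (fun h => hb h.2)
      rw [Hs_smul_some hF, mul_zero, e5]
    · apply Units.ext
      rw [Units.val_one]
      apply mul_right_cancel₀ ha
      rw [e4, one_mul]
  refine ⟨a', b', ?_⟩
  rw [hk, hq_one, mul_one]

/-- the centraliser of `H(κ)`, `κ ≠ 1`, is `{H(κ')}` -/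
theorem centralizer_hq (hm : 1 ≤ m) (hF : Fintype.card F = 2 ^ (2 * m + 1)) (k : Fˣ)
    (hk : k ≠ 1) (c : Cfsg.Sz F m) (hc : c * hq hF k = hq hF k * c) :
    ∃ k' : Fˣ, c = hq hF k' := by
  have hfixset : ∀ o : Option (F × F), Hs m k • param m o = param m o →
      o = none ∨ o = some (0, 0) := by
    rintro (_ | ⟨x, y⟩) h
    · exact Or.inl rfl
    · right
      by_contra hne
      apply hk
      apply Hs_fix_imp hF k x y _ h
      rintro ⟨rfl, rfl⟩
      exact hne rfl
  have hperm : ∀ o : Option (F × F), Hs m k • param m o = param m o →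
      ∀ o' : Option (F × F), c.1 • param m o = param m o' → Hs m k • param m o' = param m o' := by
    intro o ho o' ho'
    have e1 : (hq hF k * c : Cfsg.Sz F m) • pt (F := F) m o = c • pt (F := F) m o := by
      rw [← hc, mul_smul]
      congr 1
      rw [smul_pt_eq_iff]
      exact ho
    rw [mul_smul] at e1
    have e2 : c • pt (F := F) m o = pt m o' := (smul_pt_eq_iff _ _ _).mpr ho'
    rw [e2, smul_pt_eq_iff] at e1
    exact e1
  obtain ⟨o₁, ho₁⟩ := smul_mem_ovoid c.1 c.2 none
  obtain ⟨o₂, ho₂⟩ := smul_mem_ovoid c.1 c.2 (some (0, 0))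
  have h1 := hfixset o₁ (hperm none (Hs_smul_inf k) o₁ ho₁)
  have h2 := hfixset o₂ (hperm (some (0, 0)) (Hs_smul_zero hF k) o₂ ho₂)
  have hne12 : o₁ ≠ o₂ := by
    rintro rfl
    rw [← ho₂] at ho₁
    have := param_injective m (MulAction.injective c.1 ho₁)
    simp at this
  rcases h1 with rfl | rfl
  · rcases h2 with rfl | rfl
    · exact absurd rfl hne12
    · obtain ⟨k', hk'⟩ := stab_inf_zero hm hF c.1 c.2 ho₁ ho₂
      exact ⟨k', Subtype.ext hk'⟩
  · rcases h2 with rfl | rfl
    · exfalso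
      have f3 : ((c * wq hF : Cfsg.Sz F m) : SpecialLinearGroup (Fin 4) F) •
          param (F := F) m none = param m none := by
        show (c.1 * ws) • param (F := F) m none = param m none
        rw [mul_smul, ws_smul_inf, ho₂]
      have f4 : ((c * wq hF : Cfsg.Sz F m) : SpecialLinearGroup (Fin 4) F) •
          param (F := F) m (some (0, 0)) = param m (some (0, 0)) := by
        show (c.1 * ws) • param (F := F) m (some (0, 0)) = param m (some (0, 0))
        rw [mul_smul, ws_smul_zero, ho₁]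
      obtain ⟨k', hk'⟩ := stab_inf_zero hm hF _ (c * wq hF).2 f3 f4
      have hk'' : c * wq hF = hq hF k' := Subtype.ext hk'
      have hc'' : c = hq hF k' * wq hF := by
        rw [← hk'', mul_assoc, wq_mul_wq, mul_one]
      have e5 : c * hq hF k * c⁻¹ = hq hF k⁻¹ := by
        rw [hc'']
        calc hq hF k' * wq hF * hq hF k * (hq hF k' * wq hF)⁻¹
            = hq hF k' * (wq hF * hq hF k * (wq hF)⁻¹) * (hq hF k')⁻¹ := by group
          _ = hq hF k' * (wq hF * hq hF k * wq hF) * (hq hF k')⁻¹ := by rw [wq_inv]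
          _ = hq hF k⁻¹ := by
              rw [wq_hq_wq, hq_inv hm hF, hq_mul hm hF, hq_mul hm hF]
              congr 1
              rw [mul_comm k' k⁻¹, mul_assoc, mul_inv_cancel, mul_one]
      have e6 : c * hq hF k * c⁻¹ = hq hF k := by rw [hc]; group
      rw [e6] at e5
      have e7 : k = k⁻¹ := Hs_injective hF (congrArg Subtype.val e5)
      have e8 : (k : F) * k = 1 := by
        have : k * k = 1 := by
          calc k * k = k * k⁻¹ := by rw [← e7]
            _ = 1 := mul_inv_cancel k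
        have := congrArg Units.val this
        simpa using this
      apply hk
      apply Units.ext
      rw [Units.val_one]
      have e9 : ((k : F) - 1) ^ 2 = 0 := by
        have h20 : (2 : F) = 0 := CharTwo.two_eq_zero
        linear_combination e8 + (1 - (k : F)) * h20
      exact sub_eq_zero.mp ((pow_eq_zero_iff (two_ne_zero)).mp e9)
    · exact absurd rfl hne12

/-- an element of the Borel subgroup outside `Q` is conjugate to some `H(κ)` -/
theorem exists_conj_hq (hm : 1 ≤ m) (hF : Fintype.card F = 2 ^ (2 * m + 1)) (a b : F) (k : Fˣ)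
    (hk : k ≠ 1) : ∃ (t : Cfsg.Sz F m) (k' : Fˣ), tq hF a b * hq hF k = t * hq hF k' * t⁻¹ := by
  have h2 : ∀ z : F, z + z = 0 := CharTwo.add_self_eq_zero
  have hk1 : (1 : F) + k ≠ 0 := by
    intro h
    apply hk
    apply Units.ext
    rw [Units.val_one]
    have := congrArg (fun z => z + 1) h
    simp only [zero_add] at this
    rw [add_comm 1 (k : F), add_assoc, h2, add_zero] at this
    exact this
  have hk2 : (1 : F) + th F m k * k ≠ 0 := by
    intro h
    apply hk
    apply Hs_fix_imp hF k 0 1 (fun h => one_ne_zero h.2)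
    rw [Hs_smul_some hF, mul_zero, mul_one]
    congr 3
    have := congrArg (fun z => z + 1) h
    simp only [zero_add] at this
    rw [add_comm 1 _, add_assoc, h2, add_zero] at this
    exact this
  set x := a / (1 + k) with hx
  set y := (b + th F m a * (k * x)) / (1 + th F m k * k) with hy
  have ex : (k : F) * x + a = x := by
    rw [hx]
    field_simp
    grind
  have ey : th F m k * k * y + b + th F m a * (k * x) = y := by
    have : y * (1 + th F m k * k) = b + th F m a * (k * x) := by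
      rw [hy]
      exact div_mul_cancel₀ _ hk2
    grind
  set g'' := (tq hF x y)⁻¹ * (tq hF a b * hq hF k) * tq hF x y with hg''
  have f1 : (g'' : SpecialLinearGroup (Fin 4) F) • param (F := F) m none = param m none := by
    show ((Ts m x y)⁻¹ * (Ts m a b * Hs m k) * Ts m x y) • param (F := F) m none = param m none
    rw [mul_smul, mul_smul, mul_smul, Ts_smul_inf, Hs_smul_inf, Ts_smul_inf, inv_smul_eq_iff,
      Ts_smul_inf]
  have f2 : (g'' : SpecialLinearGroup (Fin 4) F) • param (F := F) m (some (0, 0)) =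
      param m (some (0, 0)) := by
    show ((Ts m x y)⁻¹ * (Ts m a b * Hs m k) * Ts m x y) • param (F := F) m (some (0, 0)) = _
    rw [mul_smul, mul_smul, mul_smul, Ts_smul_zero hF, Hs_smul_some hF, Ts_smul_some hF,
      inv_smul_eq_iff, Ts_smul_zero hF, ex, ey]
  obtain ⟨k', hk'⟩ := stab_inf_zero hm hF _ g''.2 f1 f2
  have hk'' : g'' = hq hF k' := Subtype.ext hk'
  refine ⟨tq hF x y, k', ?_⟩
  rw [← hk'', hg'']
  group

end Cfsg.Agent.helper11.Sz
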