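import Mathlib

set_option autoImplicit false

/-!
# Suzuki groups, part 17: subfields of finite fields of characteristic two
-/

namespace Cfsg.Agent.helper11.Sz

variable {F : Type*} [Field F] [Fintype F] [CharP F 2]

/-- a finite field with `2 ^ N` elements has a subfield with `2 ^ n` elements when `n ∣ N` -/
theorem exists_subfield_card {N n : ℕ} (hF : Fintype.card F = 2 ^ N) (hn : n ≠ 0) (hdvd : n ∣ N) :
    ∃ K : Subfield F, Nat.card K = 2 ^ n := by
  haveI : Fact (Nat.Prime 2) := ⟨Nat.prime_two⟩
  letI := ZMod.algebra F 2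
  have h1 : Module.finrank (ZMod 2) (GaloisField 2 n) = n := GaloisField.finrank 2 hn
  have h2 : Module.finrank (ZMod 2) F = N := by
    have := FiniteField.pow_finrank_eq_card 2 F
    rw [hF] at this
    exact Nat.pow_right_injective (le_refl 2) this
  have h3 : Module.finrank (ZMod 2) (GaloisField 2 n) ∣ Module.finrank (ZMod 2) F := by
    rw [h1, h2]; exact hdvd
  obtain ⟨f⟩ := FiniteField.nonempty_algHom_of_finrank_dvd h3
  refine ⟨f.toRingHom.fieldRange, ?_⟩
  have e : GaloisField 2 n ≃ f.toRingHom.fieldRange :=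
    Equiv.ofBijective (fun x => ⟨f x, ⟨x, rfl⟩⟩) (by
      constructor
      · intro x y h
        exact f.toRingHom.injective (congrArg Subtype.val h)
      · rintro ⟨_, x, rfl⟩
        exact ⟨x, rfl⟩)
  rw [← Nat.card_congr e, GaloisField.card 2 n hn]

/-- the cardinality of a subfield -/
theorem subfield_card_dvd {N n : ℕ} (hF : Fintype.card F = 2 ^ N) (K : Subfield F)
    (hK : Nat.card K = 2 ^ n) : n ∣ N := by
  haveI : Fintype K := Fintype.ofFinite K
  have h1 := Module.card_eq_pow_finrank (K := K) (V := F)
  rw [hF, Fintype.card_eq_nat_card, hK, ← pow_mul] at h1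
  have := Nat.pow_right_injective (le_refl 2) h1
  exact ⟨_, this⟩

/-- an additive subgroup `E` of a finite field such that `λ E` meets `E` non-trivially only if
`λ E ⊆ E` is a one-dimensional space over a subfield -/
theorem dvd_of_TI {N n : ℕ} (hF : Fintype.card F = 2 ^ N) (E : AddSubgroup F)
    (hE : Nat.card E = 2 ^ n) (hn : 1 ≤ n)
    (hTI : ∀ l : F, l ≠ 0 → (∃ b ∈ E, b ≠ 0 ∧ l * b ∈ E) → ∀ b ∈ E, l * b ∈ E) : n ∣ N := by
  classical
  -- a non-zero element
  obtain ⟨e₀, he₀, he₀0⟩ : ∃ e₀ ∈ E, e₀ ≠ 0 := by
    by_contra hcon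
    push Not at hcon
    have : Nat.card E ≤ 1 := by
      rw [Finite.card_le_one_iff_subsingleton]
      exact ⟨fun a b => Subtype.ext ((hcon a.1 a.2).trans (hcon b.1 b.2).symm)⟩
    rw [hE] at this
    have : 2 ^ 1 ≤ 2 ^ n := Nat.pow_le_pow_right (by norm_num) hn
    omega
  -- multiplication by an element of the stabiliser is a bijection of `E`
  have hstab : ∀ l : F, l ≠ 0 → (∀ b ∈ E, l * b ∈ E) → ∀ b ∈ E, l⁻¹ * b ∈ E := by
    intro l hl hlE b hb
    have hinj : Function.Injective (fun x : E => (⟨l * x.1, hlE x.1 x.2⟩ : E)) := by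
      intro x y h
      apply Subtype.ext
      have := congrArg Subtype.val h
      exact mul_left_cancel₀ hl this
    obtain ⟨x, hx⟩ := Finite.injective_iff_surjective.mp hinj ⟨b, hb⟩
    have hx' : l * x.1 = b := congrArg Subtype.val hx
    rw [← hx', ← mul_assoc, inv_mul_cancel₀ hl, one_mul]
    exact x.2
  let K : Subfield F :=
    { carrier := {l | ∀ b ∈ E, l * b ∈ E}
      mul_mem' := by
        intro l l' hl hl' b hb
        rw [mul_assoc]
        exact hl _ (hl' b hb)
      one_mem' := by
        intro b hb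
        rw [one_mul]; exact hb
      add_mem' := by
        intro l l' hl hl' b hb
        rw [add_mul]
        exact E.add_mem (hl b hb) (hl' b hb)
      zero_mem' := by
        intro b _
        rw [zero_mul]; exact E.zero_mem
      neg_mem' := by
        intro l hl b hb
        rw [neg_mul]
        exact E.neg_mem (hl b hb)
      inv_mem' := by
        intro l hl
        by_cases h0 : l = 0
        · rw [h0, inv_zero]
          intro b _
          rw [zero_mul]; exact E.zero_mem
        · exact hstab l h0 hl }
  have hKmem : ∀ l : F, l ∈ K ↔ ∀ b ∈ E, l * b ∈ E := fun l => Iff.rfl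
  -- `E = K e₀`
  have e : K ≃ E :=
    Equiv.ofBijective (fun l => ⟨l.1 * e₀, l.2 e₀ he₀⟩) (by
      constructor
      · intro l l' h
        apply Subtype.ext
        have := congrArg Subtype.val h
        exact mul_right_cancel₀ he₀0 this
      · rintro ⟨b, hb⟩
        by_cases hb0 : b = 0
        · refine ⟨⟨0, K.zero_mem⟩, ?_⟩
          apply Subtype.ext
          show (0 : F) * e₀ = b
          rw [zero_mul, hb0]
        · have hl0 : b / e₀ ≠ 0 := div_ne_zero hb0 he₀0
          have hmem : b / e₀ ∈ K := by
            rw [hKmem]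
            apply hTI _ hl0
            refine ⟨e₀, he₀, he₀0, ?_⟩
            rw [div_mul_cancel₀ _ he₀0]
            exact hb
          refine ⟨⟨b / e₀, hmem⟩, ?_⟩
          apply Subtype.ext
          show b / e₀ * e₀ = b
          exact div_mul_cancel₀ _ he₀0)
  have hK : Nat.card K = 2 ^ n := by rw [Nat.card_congr e, hE]
  exact subfield_card_dvd hF K hK

end Cfsg.Agent.helper11.Sz
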