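import Mathlib
import Cfsg.Agent.Lib_helper11_Sz15
import Cfsg.Agent.Lib_helper11_Sz12

set_option autoImplicit false

/-!
# Suzuki groups, part 18: conjugates of an element of prime order `p ∣ q² + 1` in `GL₄(q)`
-/

namespace Cfsg.Agent.helper11.Sz

open Matrix Polynomial

/-- if an element `A` of odd prime order `p ∣ q² + 1` of `GL₄(q)` is conjugate to `A ^ k`, then
`A ^ k = A ^ (q ^ j)` for some `j < 4` -/
theorem conj_pow_frob {F : Type*} [Field F] [Fintype F] [CharP F 2] {p : ℕ} [Fact p.Prime]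
    (hp2 : p ≠ 2) (hp : p ∣ Fintype.card F ^ 2 + 1)
    (A B : GL (Fin 4) F) (hA : A ^ p = 1) (hA1 : A ≠ 1) (k : ℕ) (hB : B * A * B⁻¹ = A ^ k) :
    ∃ j : ℕ, j < 4 ∧ A ^ k = A ^ (Fintype.card F ^ j) := by
  classical
  haveI : Fact (Nat.Prime 2) := ⟨Nat.prime_two⟩
  have hpp : p.Prime := Fact.out
  set q := Fintype.card F with hqdef
  have hq : 2 ≤ q := Fintype.one_lt_card
  let K := FiniteField.Extension F 2 4
  let b := Module.finBasisOfFinrankEq F K (FiniteField.finrank_extension F 2 4)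
  let L : K →ₐ[F] Matrix (Fin 4) (Fin 4) F := Algebra.leftMulMatrix b
  let ψ : Kˣ →* GL (Fin 4) F := Units.map L.toMonoidHom
  have hψ : Function.Injective ψ := Units.map_injective (Algebra.leftMulMatrix_injective b)
  -- conjugate `A` into the Singer cycle
  obtain ⟨P, l, hPl⟩ : ∃ (P : GL (Fin 4) F) (l : Kˣ), A = P * ψ l * P⁻¹ := by
    have h1 : Nat.card Kˣ = Nat.card K - 1 := Nat.card_units K
    have h2 : Nat.card K = Nat.card F ^ 4 := FiniteField.natCard_extension F 2 4
    have h3 := Matrix.card_GL_field (𝔽 := F) 4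
    rw [Fin.prod_univ_four] at h3
    have hcard : Nat.card ψ.range = q ^ 4 - 1 := by
      rw [← Nat.card_congr (MonoidHom.ofInjective hψ).toEquiv, h1, h2, Nat.card_eq_fintype_card]
    have hidx0 : ¬ p ∣ ψ.range.index := by
      have hidx := Subgroup.card_mul_index ψ.range
      rw [hcard, h3] at hidx
      simp only [Fin.val_zero, pow_zero, Fin.val_one, Fin.val_two] at hidx
      have e3 : ((3 : Fin 4) : ℕ) = 3 := rfl
      rw [e3] at hidx
      have hpos : 0 < q ^ 4 - 1 := by
        have : 2 ^ 4 ≤ q ^ 4 := Nat.pow_le_pow_left hq 4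
        omega
      have hidx' : ψ.range.index =
          (q ^ 4 - q ^ 1) * (q ^ 4 - q ^ 2) * (q ^ 4 - q ^ 3) := by
        apply Nat.eq_of_mul_eq_mul_left hpos
        rw [hidx]
        ring
      rw [hidx']
      exact not_dvd_GL_index hp2 hq hp
    obtain ⟨C⟩ : Nonempty (Sylow p ψ.range) := inferInstance
    have hC' : IsPGroup p ((C : Subgroup ψ.range).map ψ.range.subtype) := C.2.map _
    have hidx' : ¬ p ∣ ((C : Subgroup ψ.range).map ψ.range.subtype).index := by
      rw [Subgroup.index_map_subtype]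
      intro h
      rcases (Nat.Prime.dvd_mul hpp).mp h with h | h
      · exact C.not_dvd_index h
      · exact hidx0 h
    let Q₀ : Sylow p (GL (Fin 4) F) := hC'.toSylow hidx'
    have hAp : IsPGroup p (Subgroup.zpowers A) := by
      rintro ⟨h, hh⟩
      refine ⟨1, ?_⟩
      obtain ⟨n, rfl⟩ := Subgroup.mem_zpowers_iff.mp hh
      apply Subtype.ext
      show (A ^ n) ^ p ^ 1 = 1
      rw [pow_one, ← zpow_natCast, ← _root_.zpow_mul, mul_comm, _root_.zpow_mul, zpow_natCast, hA, _root_.one_zpow]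
    obtain ⟨Q, hQ⟩ := hAp.exists_le_sylow
    obtain ⟨P, hP⟩ := MulAction.exists_smul_eq (GL (Fin 4) F) Q₀ Q
    have hAQ : A ∈ (Q : Subgroup (GL (Fin 4) F)) := hQ (Subgroup.mem_zpowers A)
    rw [← hP, Sylow.coe_subgroup_smul, Subgroup.mem_smul_pointwise_iff_exists] at hAQ
    obtain ⟨c, hc, hcA⟩ := hAQ
    have hc' : c ∈ (C : Subgroup ψ.range).map ψ.range.subtype := hc
    obtain ⟨c', -, rfl⟩ := Subgroup.mem_map.mp hc'
    obtain ⟨l, hl⟩ := c'.2
    refine ⟨P, l, ?_⟩
    rw [hl]
    exact hcA.symm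
  -- the conjugated embedding
  have hPP : (P : Matrix (Fin 4) (Fin 4) F) * ((P⁻¹ : GL (Fin 4) F) : Matrix (Fin 4) (Fin 4) F) = 1 :=
    Units.mul_inv P
  have hPP' : ((P⁻¹ : GL (Fin 4) F) : Matrix (Fin 4) (Fin 4) F) * (P : Matrix (Fin 4) (Fin 4) F) = 1 :=
    Units.inv_mul P
  let Φ : K →ₐ[F] Matrix (Fin 4) (Fin 4) F :=
    { toFun := fun x => (P : Matrix (Fin 4) (Fin 4) F) * L x *
        ((P⁻¹ : GL (Fin 4) F) : Matrix (Fin 4) (Fin 4) F)
      map_one' := by rw [map_one, mul_one, hPP]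
      map_mul' := fun x y => by
        rw [map_mul]
        have e : (P : Matrix (Fin 4) (Fin 4) F) * L x *
              ((P⁻¹ : GL (Fin 4) F) : Matrix (Fin 4) (Fin 4) F) *
              ((P : Matrix (Fin 4) (Fin 4) F) * L y *
              ((P⁻¹ : GL (Fin 4) F) : Matrix (Fin 4) (Fin 4) F)) =
            (P : Matrix (Fin 4) (Fin 4) F) * L x *
              (((P⁻¹ : GL (Fin 4) F) : Matrix (Fin 4) (Fin 4) F) *
              (P : Matrix (Fin 4) (Fin 4) F)) * L y *
              ((P⁻¹ : GL (Fin 4) F) : Matrix (Fin 4) (Fin 4) F) := by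
          simp only [mul_assoc]
        rw [e, hPP', mul_one]
        simp only [mul_assoc]
      map_zero' := by rw [map_zero, mul_zero, zero_mul]
      map_add' := fun x y => by rw [map_add, mul_add, add_mul]
      commutes' := fun r => by
        rw [AlgHom.commutes, ← Algebra.commutes, mul_assoc, hPP, mul_one] }
  have hΦ : Function.Injective Φ := (Φ : K →+* Matrix (Fin 4) (Fin 4) F).injective
  have hΦl : Φ (l : K) = (A : Matrix (Fin 4) (Fin 4) F) := by
    rw [hPl]
    rfl
  obtain ⟨M, hM⟩ : ∃ M : Matrix (Fin 4) (Fin 4) F, M = (A : Matrix (Fin 4) (Fin 4) F) := ⟨_, rfl⟩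
  rw [← hM] at hΦl
  obtain ⟨χ, hχ⟩ : ∃ χ : F[X], χ = M.charpoly := ⟨_, rfl⟩
  have h1 : aeval (l : K) χ = 0 := by
    apply hΦ
    rw [← Polynomial.aeval_algHom_apply, hΦl, map_zero, hχ]
    exact Matrix.aeval_self_charpoly M
  have h2 : aeval ((l : K) ^ k) χ = 0 := by
    apply hΦ
    rw [← Polynomial.aeval_algHom_apply, map_pow, hΦl, map_zero]
    have e1 : M ^ k = (B : Matrix (Fin 4) (Fin 4) F) * M *
        ((B⁻¹ : GL (Fin 4) F) : Matrix (Fin 4) (Fin 4) F) := by
      have := congrArg (fun g : GL (Fin 4) F => (g : Matrix (Fin 4) (Fin 4) F)) hB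
      simp only [Units.val_mul, Units.val_pow_eq_pow_val] at this
      rw [hM]
      exact this.symm
    have e2 : (M ^ k).charpoly = χ := by
      rw [e1, hχ, Matrix.coe_units_inv, Matrix.charpoly_units_conj]
    rw [← e2]
    exact Matrix.aeval_self_charpoly (M ^ k)
  -- Frobenius conjugates are roots
  have hfrob : ∀ x : K, aeval (x ^ q) χ = (aeval x χ) ^ q := by
    intro x
    rw [← Polynomial.expand_aeval, FiniteField.expand_card, map_pow]
  have h3 : ∀ j : ℕ, aeval ((l : K) ^ (q ^ j)) χ = 0 := by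
    intro j
    induction j with
    | zero => rw [pow_zero, pow_one]; exact h1
    | succ j ih =>
      rw [pow_succ, pow_mul, hfrob, ih, zero_pow]
      omega
  -- order of `l`
  have hl1 : l ≠ 1 := by
    rintro rfl
    apply hA1
    rw [hPl, map_one, mul_one, mul_inv_cancel]
  have hlp : l ^ p = 1 := by
    apply hψ
    have : (P * ψ l * P⁻¹) ^ p = 1 := by rw [← hPl]; exact hA
    rw [conj_pow] at this
    rw [map_pow, map_one]
    calc ψ l ^ p = P⁻¹ * (P * ψ l ^ p * P⁻¹) * P := by group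
      _ = 1 := by rw [this]; group
  have hol : orderOf l = p := orderOf_eq_prime hlp hl1
  have hcop : Nat.Coprime q p := by
    rw [Nat.coprime_comm, Nat.Prime.coprime_iff_not_dvd hpp]
    intro h
    have h' : p ∣ q ^ 2 := dvd_pow h (by norm_num)
    have := (Nat.dvd_add_right h').mp hp
    exact hpp.one_lt.ne' (Nat.dvd_one.mp this)
  have hinj : ∀ i j : ℕ, i < j → j < 4 → (l : K) ^ (q ^ i) ≠ (l : K) ^ (q ^ j) := by
    intro i j hij hj h
    have h' : l ^ (q ^ i) = l ^ (q ^ j) := by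
      apply Units.ext
      rw [Units.val_pow_eq_pow_val, Units.val_pow_eq_pow_val]
      exact h
    rw [pow_eq_pow_iff_modEq, hol] at h'
    have e : q ^ j = q ^ i * q ^ (j - i) := by rw [← pow_add]; congr 1; omega
    rw [e] at h'
    have h'' : q ^ i * 1 ≡ q ^ i * q ^ (j - i) [MOD p] := by rwa [mul_one]
    have hc : Nat.gcd p (q ^ i) = 1 := (Nat.Coprime.pow_left i hcop).symm
    have := Nat.ModEq.cancel_left_of_coprime hc h''
    exact pow_mod_ne_one hp2 hp (by omega) (by omega) this.symm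
  -- the roots of `χ`
  have hχm : χ.Monic := by rw [hχ]; exact Matrix.charpoly_monic M
  obtain ⟨g, hg⟩ : ∃ g : K[X], g = χ.map (algebraMap F K) := ⟨_, rfl⟩
  have hmonic : g.Monic := by rw [hg]; exact hχm.map _
  have hg0 : g ≠ 0 := hmonic.ne_zero
  have hdeg : g.natDegree = 4 := by
    rw [hg, hχm.natDegree_map, hχ, Matrix.charpoly_natDegree_eq_dim]
    rfl
  have hroot : ∀ x : K, aeval x χ = 0 → x ∈ g.roots.toFinset := by
    intro x hx
    rw [Multiset.mem_toFinset, Polynomial.mem_roots hg0, Polynomial.IsRoot.def, hg,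
      Polynomial.eval_map_algebraMap]
    exact hx
  set T : Finset K := Finset.image (fun j : Fin 4 => (l : K) ^ (q ^ (j : ℕ))) Finset.univ with hT
  have hTcard : T.card = 4 := by
    rw [hT, Finset.card_image_of_injective, Finset.card_univ, Fintype.card_fin]
    intro i j h
    by_contra hne
    rcases lt_or_gt_of_ne (fun h' => hne (Fin.ext h')) with h' | h'
    · exact hinj i j h' j.2 h
    · exact hinj j i h' i.2 h.symm
  have hTsub : T ⊆ g.roots.toFinset := by
    intro x hx
    rw [hT, Finset.mem_image] at hx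
    obtain ⟨j, -, rfl⟩ := hx
    exact hroot _ (h3 j)
  have hrc : g.roots.toFinset.card ≤ 4 := by
    calc g.roots.toFinset.card ≤ Multiset.card g.roots := Multiset.toFinset_card_le _
      _ ≤ g.natDegree := Polynomial.card_roots' g
      _ = 4 := hdeg
  have hTeq : T = g.roots.toFinset :=
    Finset.eq_of_subset_of_card_le hTsub (by rw [hTcard]; exact hrc)
  have hk : (l : K) ^ k ∈ T := by
    rw [hTeq]
    exact hroot _ h2
  rw [hT, Finset.mem_image] at hk
  obtain ⟨j, -, hj⟩ := hk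
  refine ⟨j, j.2, ?_⟩
  have hj' : l ^ (q ^ (j : ℕ)) = l ^ k := by
    apply Units.ext
    rw [Units.val_pow_eq_pow_val, Units.val_pow_eq_pow_val]
    exact hj
  rw [hPl, conj_pow, conj_pow, ← map_pow, ← map_pow, hj']

end Cfsg.Agent.helper11.Sz
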