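import Mathlib

set_option autoImplicit false

namespace Cfsg.Agent.helper11.Sz

open MulAction

/-- fixed points of `g` on injective pairs -/
noncomputable def fixedByEmbEquiv {G Ω : Type*} [Group G] [MulAction G Ω] (g : G) :
    fixedBy (Fin 2 ↪ Ω) g ≃ (Fin 2 ↪ fixedBy Ω g) where
  toFun f := ⟨fun i => ⟨f.1 i, by
      have h := f.2
      rw [mem_fixedBy] at h ⊢
      have := congrArg (fun e : Fin 2 ↪ Ω => e i) h
      simpa using this⟩, by
    intro i j h
    apply f.1.injective
    exact congrArg Subtype.val h⟩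
  invFun e := ⟨e.trans (Function.Embedding.subtype _), by
    rw [mem_fixedBy]
    ext i
    simp only [Function.Embedding.smul_apply, Function.Embedding.trans_apply,
      Function.Embedding.subtype_apply]
    exact (e i).2⟩
  left_inv f := by
    apply Subtype.ext
    ext i
    rfl
  right_inv e := by
    ext i
    rfl

/-- counting fixed-point-free elements of a Zassenhaus-like group -/
theorem card_fpf_abstract {G Ω : Type*} [Group G] [Fintype G] [Fintype Ω] [MulAction G Ω]
    [IsMultiplyPretransitive G Ω 2]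
    (h3 : ∀ g : G, ∀ a b c : Ω, a ≠ b → b ≠ c → a ≠ c → g • a = a → g • b = b → g • c = c → g = 1)
    (hΩ : 2 ≤ Fintype.card Ω) :
    (2 * (Nat.card {g : G // ∀ y : Ω, g • y ≠ y} : ℤ)) +
      ((Fintype.card Ω : ℤ) - 1) * ((Fintype.card Ω : ℤ) - 2) = Fintype.card G := by
  classical
  haveI : IsPretransitive G Ω := isPretransitive_of_is_two_pretransitive
  haveI : Nonempty Ω := by
    apply Fintype.card_pos_iff.mp
    omega
  obtain ⟨ω₀⟩ : Nonempty Ω := inferInstance
  -- Burnside on points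
  have hB1 : ∑ g : G, Fintype.card (fixedBy Ω g) = Fintype.card G := by
    rw [sum_card_fixedBy_eq_card_orbits_mul_card_group]
    haveI : Subsingleton (Quotient (orbitRel G Ω)) :=
      (pretransitive_iff_subsingleton_quotient G _).mp inferInstance
    haveI : Nonempty (Quotient (orbitRel G Ω)) := ⟨Quotient.mk _ ω₀⟩
    have : Fintype.card (Quotient (orbitRel G Ω)) = 1 := by
      apply le_antisymm
      · exact Fintype.card_le_one_iff_subsingleton.mpr inferInstance
      · exact Fintype.card_pos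
    rw [this, one_mul]
  -- Burnside on pairs
  obtain ⟨ω₁, hω₁⟩ : ∃ ω₁ : Ω, ω₁ ≠ ω₀ := by
    by_contra hcon
    push Not at hcon
    have : Fintype.card Ω ≤ 1 := Fintype.card_le_one_iff.mpr (fun a b => by rw [hcon a, hcon b])
    omega
  have hB2 : ∑ g : G, Fintype.card (fixedBy (Fin 2 ↪ Ω) g) = Fintype.card G := by
    rw [sum_card_fixedBy_eq_card_orbits_mul_card_group]
    haveI : Subsingleton (Quotient (orbitRel G (Fin 2 ↪ Ω))) :=
      (pretransitive_iff_subsingleton_quotient G _).mp inferInstance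
    haveI : Nonempty (Quotient (orbitRel G (Fin 2 ↪ Ω))) :=
      ⟨Quotient.mk _ (Function.Embedding.embFinTwo hω₁)⟩
    have : Fintype.card (Quotient (orbitRel G (Fin 2 ↪ Ω))) = 1 := by
      apply le_antisymm
      · exact Fintype.card_le_one_iff_subsingleton.mpr inferInstance
      · exact Fintype.card_pos
    rw [this, one_mul]
  have hpair : ∀ g : G, Fintype.card (fixedBy (Fin 2 ↪ Ω) g) =
      Fintype.card (fixedBy Ω g) * (Fintype.card (fixedBy Ω g) - 1) := by
    intro g
    rw [Fintype.card_congr (fixedByEmbEquiv g), Fintype.card_embedding_eq, Fintype.card_fin]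
    simp [Nat.descFactorial, mul_comm]
  have hcast : ∀ n : ℕ, ((n * (n - 1) : ℕ) : ℤ) = (n : ℤ) * ((n : ℤ) - 1) := by
    intro n
    cases n with
    | zero => simp
    | succ n => push_cast; simp
  -- the integer identity
  have hsum : ∑ g : G, (((Fintype.card (fixedBy Ω g) : ℤ) - 1) *
      ((Fintype.card (fixedBy Ω g) : ℤ) - 2)) = Fintype.card G := by
    have e1 : ∀ g : G, (((Fintype.card (fixedBy Ω g) : ℤ) - 1) *
        ((Fintype.card (fixedBy Ω g) : ℤ) - 2)) =
        ((Fintype.card (fixedBy (Fin 2 ↪ Ω) g) : ℕ) : ℤ) -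
          2 * ((Fintype.card (fixedBy Ω g) : ℕ) : ℤ) + 2 := by
      intro g
      rw [hpair, hcast]
      ring
    simp_rw [e1]
    rw [Finset.sum_add_distrib, Finset.sum_sub_distrib, ← Finset.mul_sum, ← Nat.cast_sum,
      ← Nat.cast_sum, hB1, hB2]
    simp only [Finset.sum_const, Finset.card_univ, nsmul_eq_mul]
    ring
  -- evaluate each term
  have hone : Fintype.card (fixedBy Ω (1 : G)) = Fintype.card Ω := by
    apply Fintype.card_congr
    exact { toFun := fun x => x.1
            invFun := fun x => ⟨x, by rw [mem_fixedBy, one_smul]⟩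
            left_inv := fun x => rfl
            right_inv := fun x => rfl }
  have hle : ∀ g : G, g ≠ 1 → Fintype.card (fixedBy Ω g) ≤ 2 := by
    intro g hg
    by_contra hcon
    push Not at hcon
    obtain ⟨a, b, c, hab, hac, hbc⟩ := Fintype.two_lt_card_iff.mp hcon
    apply hg
    apply h3 g a.1 b.1 c.1
    · exact fun h => hab (Subtype.ext h)
    · exact fun h => hbc (Subtype.ext h)
    · exact fun h => hac (Subtype.ext h)
    · exact a.2
    · exact b.2
    · exact c.2
  have hzero : ∀ g : G, Fintype.card (fixedBy Ω g) = 0 ↔ ∀ y : Ω, g • y ≠ y := by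
    intro g
    rw [Fintype.card_eq_zero_iff, isEmpty_subtype]
    rfl
  have key : ∀ g : G, (((Fintype.card (fixedBy Ω g) : ℤ) - 1) *
      ((Fintype.card (fixedBy Ω g) : ℤ) - 2)) =
      (if g = 1 then ((Fintype.card Ω : ℤ) - 1) * ((Fintype.card Ω : ℤ) - 2) else 0) +
        (if ∀ y : Ω, g • y ≠ y then 2 else 0) := by
    intro g
    by_cases hg : g = 1
    · subst hg
      rw [if_pos rfl, hone, if_neg, add_zero]
      intro h
      exact h ω₀ (one_smul _ _)
    · rw [if_neg hg, zero_add]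
      have h2 := hle g hg
      have hz := hzero g
      by_cases hf : ∀ y : Ω, g • y ≠ y
      · rw [if_pos hf, hz.mpr hf]
        norm_num
      · rw [if_neg hf]
        have hne : Fintype.card (fixedBy Ω g) ≠ 0 := fun h => hf (hz.mp h)
        have : Fintype.card (fixedBy Ω g) = 1 ∨ Fintype.card (fixedBy Ω g) = 2 := by omega
        rcases this with h | h <;> rw [h] <;> norm_num
  simp_rw [key] at hsum
  rw [Finset.sum_add_distrib, Finset.sum_ite_eq' Finset.univ (1 : G)] at hsum
  simp only [Finset.mem_univ, if_true] at hsum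
  rw [← hsum, Nat.card_eq_fintype_card, Fintype.card_subtype, Finset.sum_ite, Finset.sum_const,
    Finset.sum_const_zero, add_zero, nsmul_eq_mul]
  ring

/-- counting the non-identity elements of the conjugates of a TI-subgroup -/
theorem card_conj_TI {G : Type*} [Group G] [Fintype G] (U : Subgroup G)
    (hU : ∀ u ∈ U, u ≠ 1 → ∀ x : G, x⁻¹ * u * x ∈ U → x ∈ Subgroup.normalizer (U : Set G)) :
    Nat.card {s : G // s ≠ 1 ∧ ∃ x : G, x⁻¹ * s * x ∈ U} *
      Nat.card (Subgroup.normalizer (U : Set G)) = Nat.card G * (Nat.card U - 1) := by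
  classical
  have hdc := Finset.sum_card_bipartiteAbove_eq_sum_card_bipartiteBelow
    (s := (Finset.univ : Finset G)) (t := (Finset.univ : Finset G))
    (fun x s : G => s ≠ 1 ∧ x⁻¹ * s * x ∈ U)
  -- left side
  have hUcard : ((Finset.univ : Finset G).filter (fun u => u ≠ 1 ∧ u ∈ U)).card = Nat.card U - 1 := by
    have e : (Finset.univ : Finset G).filter (fun u => u ≠ 1 ∧ u ∈ U) =
        ((Finset.univ : Finset G).filter (fun u => u ∈ U)).erase 1 := by
      ext u
      simp only [Finset.mem_filter, Finset.mem_univ, true_and, Finset.mem_erase]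
    rw [e, Finset.card_erase_of_mem (by simp [U.one_mem]), Nat.card_eq_fintype_card,
      Fintype.card_subtype]
  have hL : ∀ x ∈ (Finset.univ : Finset G),
      ((Finset.univ : Finset G).bipartiteAbove (fun x s : G => s ≠ 1 ∧ x⁻¹ * s * x ∈ U) x).card =
        Nat.card U - 1 := by
    intro x _
    rw [← hUcard]
    apply Finset.card_nbij' (fun s => x⁻¹ * s * x) (fun u => x * u * x⁻¹)
    · intro s hs
      simp only [Finset.bipartiteAbove, Finset.coe_filter, Finset.mem_univ, true_and,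
        Set.mem_setOf_eq] at hs ⊢
      refine ⟨fun h => hs.1 ?_, hs.2⟩
      calc s = x * (x⁻¹ * s * x) * x⁻¹ := by group
        _ = 1 := by rw [h]; group
    · intro u hu
      simp only [Finset.bipartiteAbove, Finset.coe_filter, Finset.mem_univ, true_and,
        Set.mem_setOf_eq] at hu ⊢
      refine ⟨fun h => hu.1 ?_, ?_⟩
      · calc u = x⁻¹ * (x * u * x⁻¹) * x := by group
          _ = 1 := by rw [h]; group
      · have : x⁻¹ * (x * u * x⁻¹) * x = u := by group
        rw [this]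
        exact hu.2
    · intro s _
      show x * (x⁻¹ * s * x) * x⁻¹ = s
      group
    · intro u _
      show x⁻¹ * (x * u * x⁻¹) * x = u
      group
  rw [Finset.sum_congr rfl hL, Finset.sum_const, Finset.card_univ, smul_eq_mul] at hdc
  -- right side
  have hNcard : ((Finset.univ : Finset G).filter
      (fun n => n ∈ Subgroup.normalizer (U : Set G))).card =
      Nat.card (Subgroup.normalizer (U : Set G)) := by
    rw [Nat.card_eq_fintype_card, Fintype.card_subtype]
  have hR : ∀ s ∈ (Finset.univ : Finset G),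
      ((Finset.univ : Finset G).bipartiteBelow (fun x s : G => s ≠ 1 ∧ x⁻¹ * s * x ∈ U) s).card =
        if (s ≠ 1 ∧ ∃ x : G, x⁻¹ * s * x ∈ U) then Nat.card (Subgroup.normalizer (U : Set G))
        else 0 := by
    intro s _
    by_cases hs : s ≠ 1 ∧ ∃ x : G, x⁻¹ * s * x ∈ U
    · rw [if_pos hs, ← hNcard]
      obtain ⟨hs1, x₀, hx₀⟩ := hs
      have hu1 : x₀⁻¹ * s * x₀ ≠ 1 := by
        intro h
        apply hs1
        calc s = x₀ * (x₀⁻¹ * s * x₀) * x₀⁻¹ := by group
          _ = 1 := by rw [h]; group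
      apply Finset.card_nbij' (fun x => x₀⁻¹ * x) (fun n => x₀ * n)
      · intro x hx
        simp only [Finset.bipartiteBelow, Finset.coe_filter, Finset.mem_univ, true_and,
          Set.mem_setOf_eq] at hx ⊢
        apply hU _ hx₀ hu1
        have : (x₀⁻¹ * x)⁻¹ * (x₀⁻¹ * s * x₀) * (x₀⁻¹ * x) = x⁻¹ * s * x := by group
        rw [this]
        exact hx.2
      · intro n hn
        simp only [Finset.bipartiteBelow, Finset.coe_filter, Finset.mem_univ, true_and,
          Set.mem_setOf_eq] at hn ⊢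
        refine ⟨hs1, ?_⟩
        have hn' : n⁻¹ ∈ Subgroup.normalizer (U : Set G) := Subgroup.inv_mem _ hn
        have := (Subgroup.mem_normalizer_iff.mp hn' (x₀⁻¹ * s * x₀)).mp hx₀
        have e : (x₀ * n)⁻¹ * s * (x₀ * n) = n⁻¹ * (x₀⁻¹ * s * x₀) * n⁻¹⁻¹ := by group
        rw [e]
        exact this
      · intro x _
        show x₀ * (x₀⁻¹ * x) = x
        group
      · intro n _
        show x₀⁻¹ * (x₀ * n) = n
        group
    · rw [if_neg hs]
      rw [Finset.card_eq_zero, Finset.eq_empty_iff_forall_notMem]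
      intro x hx
      simp only [Finset.bipartiteBelow, Finset.mem_filter, Finset.mem_univ, true_and] at hx
      exact hs ⟨hx.1, x, hx.2⟩
  rw [Finset.sum_congr rfl hR, Finset.sum_ite, Finset.sum_const, Finset.sum_const_zero, add_zero,
    smul_eq_mul] at hdc
  rw [Nat.card_eq_fintype_card (α := {s : G // s ≠ 1 ∧ ∃ x : G, x⁻¹ * s * x ∈ U}),
    Fintype.card_subtype, ← hdc, Nat.card_eq_fintype_card (α := G)]

set_option maxHeartbeats 1000000 in
/-- the arithmetic at the end of Suzuki's counting argument, abstract form -/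
theorem suzuki_arith_aux (q r N : ℕ) (hq8 : 8 ≤ q) (hrr : r * r = 2 * q) (hrq : r ≤ q)
    (hN : N = q ^ 2 + 1) (D : Finset ℕ) (c : ℕ → ℕ)
    (hD : ∀ d ∈ D, d ∣ N ∧ 3 ≤ d ∧ Nat.Coprime d (N / d))
    (hcop : ∀ d ∈ D, ∀ d' ∈ D, d ≠ d' → Nat.Coprime d d')
    (hprime : ∀ p : ℕ, p.Prime → p ∣ N → ∃ d ∈ D, p ∣ d)
    (hc : ∀ d ∈ D, c d = 1 ∨ c d = 2 ∨ c d = 4)
    (hsum : ∑ d ∈ D, c d * (N - N / d) = 2 * q * (q - 1)) :
    (q + r + 1 ∈ D ∧ q - r + 1 ∈ D) ∧
    ∀ d ∈ D, (d = q + r + 1 ∨ d = q - r + 1) ∧ c d = 1 := by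
  have hN2 : 2 ≤ N := by rw [hN]; nlinarith
  -- lower bound for each term
  have hterm : ∀ d ∈ D, 2 * N ≤ 3 * (c d * (N - N / d)) := by
    intro d hd
    obtain ⟨hdN, hd3, -⟩ := hD d hd
    have h1 : d * (N / d) = N := Nat.mul_div_cancel' hdN
    have h2 : 3 * (N / d) ≤ N := by
      calc 3 * (N / d) ≤ d * (N / d) := Nat.mul_le_mul_right _ hd3
        _ = N := h1
    have h3 : 1 ≤ c d := by rcases hc d hd with h | h | h <;> omega
    have h4 : N - N / d ≤ c d * (N - N / d) := Nat.le_mul_of_pos_left _ h3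
    omega
  have hqq : q * (q - 1) + q = q * q := by
    obtain ⟨k, rfl⟩ : ∃ k, q = k + 1 := ⟨q - 1, by omega⟩
    simp only [Nat.add_sub_cancel]
    ring
  have hcases : D.card = 0 ∨ D.card = 1 ∨ D.card = 2 ∨ 2 < D.card := by omega
  rcases hcases with h0 | h1 | h2 | h3
  · -- empty
    exfalso
    rw [Finset.card_eq_zero] at h0
    have hp := Nat.minFac_prime (n := N) (by omega)
    obtain ⟨d, hd, -⟩ := hprime _ hp (Nat.minFac_dvd N)
    rw [h0] at hd
    exact absurd hd (Finset.notMem_empty d)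
  · -- one class
    exfalso
    obtain ⟨d, rfl⟩ := Finset.card_eq_one.mp h1
    obtain ⟨hdN, hd3, hdc⟩ := hD d (Finset.mem_singleton_self d)
    have h1' : d * (N / d) = N := Nat.mul_div_cancel' hdN
    have hNd : N / d = 1 := by
      by_contra hne
      have hp := Nat.minFac_prime hne
      have hpN : (N / d).minFac ∣ N := (Nat.minFac_dvd _).trans (Nat.div_dvd_of_dvd hdN)
      obtain ⟨d', hd', hpd'⟩ := hprime _ hp hpN
      rw [Finset.mem_singleton] at hd'
      subst hd'
      have := Nat.dvd_gcd hpd' (Nat.minFac_dvd (N / d'))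
      rw [hdc] at this
      exact hp.one_lt.ne' (Nat.dvd_one.mp this)
    rw [hNd, mul_one] at h1'
    rw [Finset.sum_singleton, hNd] at hsum
    have e : N - 1 = q * q := by rw [hN, Nat.add_sub_cancel]; ring
    rw [e] at hsum
    rcases hc d (Finset.mem_singleton_self d) with h | h | h <;> rw [h] at hsum <;> nlinarith
  · -- two classes
    obtain ⟨d₁, d₂, hne, rfl⟩ := Finset.card_eq_two.mp h2
    have hm1 : d₁ ∈ ({d₁, d₂} : Finset ℕ) := by simp
    have hm2 : d₂ ∈ ({d₁, d₂} : Finset ℕ) := by simp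
    obtain ⟨hd1N, hd13, hd1c⟩ := hD d₁ hm1
    obtain ⟨hd2N, hd23, hd2c⟩ := hD d₂ hm2
    have hc12 : Nat.Coprime d₁ d₂ := hcop d₁ hm1 d₂ hm2 hne
    have hprod : d₁ * d₂ ∣ N := Nat.Coprime.mul_dvd_of_dvd_of_dvd hc12 hd1N hd2N
    obtain ⟨M, hM⟩ := hprod
    have hM1 : M = 1 := by
      by_contra hne'
      have hp := Nat.minFac_prime hne'
      have hpN : M.minFac ∣ N := by
        rw [hM]
        exact (Nat.minFac_dvd M).trans (Dvd.intro_left _ rfl)
      obtain ⟨d', hd', hpd'⟩ := hprime _ hp hpN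
      rw [Finset.mem_insert, Finset.mem_singleton] at hd'
      rcases hd' with rfl | rfl
      · have e : N / d' = d₂ * M := by
          apply Nat.div_eq_of_eq_mul_right (by omega)
          rw [hM]; ring
        have hpd : M.minFac ∣ N / d' := by
          rw [e]; exact (Nat.minFac_dvd M).trans (Dvd.intro_left _ rfl)
        have := Nat.dvd_gcd hpd' hpd
        rw [hd1c] at this
        exact hp.one_lt.ne' (Nat.dvd_one.mp this)
      · have e : N / d' = d₁ * M := by
          apply Nat.div_eq_of_eq_mul_right (by omega)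
          rw [hM]; ring
        have hpd : M.minFac ∣ N / d' := by
          rw [e]; exact (Nat.minFac_dvd M).trans (Dvd.intro_left _ rfl)
        have := Nat.dvd_gcd hpd' hpd
        rw [hd2c] at this
        exact hp.one_lt.ne' (Nat.dvd_one.mp this)
    rw [hM1, mul_one] at hM
    have e1 : N / d₁ = d₂ := Nat.div_eq_of_eq_mul_right (by omega) hM
    have e2 : N / d₂ = d₁ := Nat.div_eq_of_eq_mul_right (by omega) (by rw [hM]; ring)
    rw [Finset.sum_pair hne, e1, e2] at hsum
    have hle1 : d₁ ≤ N := Nat.le_of_dvd (by omega) hd1N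
    have hle2 : d₂ ≤ N := Nat.le_of_dvd (by omega) hd2N
    have hq1 : 1 ≤ q := by omega
    zify [hle1, hle2, hq1] at hsum
    have hMz : (N : ℤ) = (d₁ : ℤ) * d₂ := by exact_mod_cast hM
    have hNz : (N : ℤ) = (q : ℤ) * q + 1 := by rw [hN]; push_cast; ring
    have hb : 3 * ((d₁ : ℤ) + d₂) ≤ N + 9 := by
      have h1 : (3 : ℤ) ≤ d₁ := by exact_mod_cast hd13
      have h2 : (3 : ℤ) ≤ d₂ := by exact_mod_cast hd23
      nlinarith [mul_nonneg (sub_nonneg.mpr h1) (sub_nonneg.mpr h2)]
    have hd1z : (3 : ℤ) ≤ d₁ := by exact_mod_cast hd13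
    have hd2z : (3 : ℤ) ≤ d₂ := by exact_mod_cast hd23
    have hq8z : (8 : ℤ) ≤ q := by exact_mod_cast hq8
    have hqqz : 2 * (q : ℤ) * ((q : ℤ) - 1) = 2 * ((N : ℤ) - 1) - 2 * q := by rw [hNz]; ring
    rw [hqqz] at hsum
    have hcc : c d₁ = 1 ∧ c d₂ = 1 := by
      rcases hc d₁ hm1 with h | h | h <;> rcases hc d₂ hm2 with h' | h' | h'
      · exact ⟨h, h'⟩
      all_goals (exfalso; rw [h, h'] at hsum; push_cast at hsum; linarith)
    obtain ⟨hc1, hc2⟩ := hcc
    rw [hc1, hc2] at hsum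
    push_cast at hsum
    have hs : (d₁ : ℤ) + d₂ = 2 * q + 2 := by linarith
    have hrrz : (r : ℤ) * r = 2 * q := by exact_mod_cast hrr
    have hsq : ((d₁ : ℤ) - d₂ - 2 * r) * ((d₁ : ℤ) - d₂ + 2 * r) = 0 := by
      have : ((d₁ : ℤ) - d₂) ^ 2 = ((d₁ : ℤ) + d₂) ^ 2 - 4 * ((d₁ : ℤ) * d₂) := by ring
      have h4 : ((d₁ : ℤ) - d₂) ^ 2 = 8 * q := by
        rw [this, hs, ← hMz, hNz]; ring
      nlinarith
    have hrqz : (r : ℤ) ≤ q := by exact_mod_cast hrq
    rcases mul_eq_zero.mp hsq with h | h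
    · have h1 : d₁ = q + r + 1 := by omega
      have h2 : d₂ = q - r + 1 := by omega
      refine ⟨⟨by rw [← h1]; exact hm1, by rw [← h2]; exact hm2⟩, ?_⟩
      intro d hd
      rw [Finset.mem_insert, Finset.mem_singleton] at hd
      rcases hd with rfl | rfl
      · exact ⟨Or.inl h1, hc1⟩
      · exact ⟨Or.inr h2, hc2⟩
    · have h1 : d₂ = q + r + 1 := by omega
      have h2 : d₁ = q - r + 1 := by omega
      refine ⟨⟨by rw [← h1]; exact hm2, by rw [← h2]; exact hm1⟩, ?_⟩
      intro d hd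
      rw [Finset.mem_insert, Finset.mem_singleton] at hd
      rcases hd with rfl | rfl
      · exact ⟨Or.inr h2, hc1⟩
      · exact ⟨Or.inl h1, hc2⟩
  · -- at least three classes
    exfalso
    obtain ⟨a, ha, b, hb, c', hc', hab, hac, hbc⟩ := Finset.two_lt_card.mp h3
    have hsub : ({a, b, c'} : Finset ℕ) ⊆ D := by
      intro x hx
      simp only [Finset.mem_insert, Finset.mem_singleton] at hx
      rcases hx with rfl | rfl | rfl <;> assumption
    have hle := Finset.sum_le_sum_of_subset (f := fun d => c d * (N - N / d)) hsub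
    rw [hsum, Finset.sum_insert (by simp [hab, hac]), Finset.sum_insert (by simp [hbc]),
      Finset.sum_singleton] at hle
    have ta := hterm a ha
    have tb := hterm b hb
    have tc := hterm c' hc'
    have h5 : 2 * q * (q - 1) + 2 * q = 2 * (q * q) := by rw [← hqq]; ring
    have hNq : N = q * q + 1 := by rw [hN]; ring
    generalize c a * (N - N / a) = Xa at *
    generalize c b * (N - N / b) = Xb at *
    generalize c c' * (N - N / c') = Xc at *
    generalize 2 * q * (q - 1) = Y at *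
    generalize q * q = Q2 at *
    omega

/-- the arithmetic at the end of Suzuki's counting argument -/
theorem suzuki_arith (m : ℕ) (hm : 1 ≤ m) (D : Finset ℕ) (c : ℕ → ℕ)
    (hD : ∀ d ∈ D, d ∣ (2 ^ (2 * m + 1)) ^ 2 + 1 ∧ 3 ≤ d ∧
      Nat.Coprime d (((2 ^ (2 * m + 1)) ^ 2 + 1) / d))
    (hcop : ∀ d ∈ D, ∀ d' ∈ D, d ≠ d' → Nat.Coprime d d')
    (hprime : ∀ p : ℕ, p.Prime → p ∣ (2 ^ (2 * m + 1)) ^ 2 + 1 → ∃ d ∈ D, p ∣ d)
    (hc : ∀ d ∈ D, c d = 1 ∨ c d = 2 ∨ c d = 4)
    (hsum : ∑ d ∈ D, c d * (((2 ^ (2 * m + 1)) ^ 2 + 1) - ((2 ^ (2 * m + 1)) ^ 2 + 1) / d) =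
      2 * 2 ^ (2 * m + 1) * (2 ^ (2 * m + 1) - 1)) :
    (2 ^ (2 * m + 1) + 2 ^ (m + 1) + 1 ∈ D ∧ 2 ^ (2 * m + 1) - 2 ^ (m + 1) + 1 ∈ D) ∧
    ∀ d ∈ D, (d = 2 ^ (2 * m + 1) + 2 ^ (m + 1) + 1 ∨ d = 2 ^ (2 * m + 1) - 2 ^ (m + 1) + 1) ∧
      c d = 1 := by
  have hq8 : 8 ≤ 2 ^ (2 * m + 1) := by
    calc 8 = 2 ^ 3 := by norm_num
      _ ≤ 2 ^ (2 * m + 1) := Nat.pow_le_pow_right (by norm_num) (by omega)
  have hrr : 2 ^ (m + 1) * 2 ^ (m + 1) = 2 * 2 ^ (2 * m + 1) := by
    rw [← pow_add, ← pow_succ']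
    congr 1
    omega
  have hrq : 2 ^ (m + 1) ≤ 2 ^ (2 * m + 1) :=
    Nat.pow_le_pow_right (by norm_num) (by omega)
  exact suzuki_arith_aux _ _ _ hq8 hrr hrq rfl D c hD hcop hprime hc hsum

end Cfsg.Agent.helper11.Sz
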