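import Cfsg.Statements.S0331
import Cfsg.Agent.Lib_helper11_Sz12

set_option autoImplicit false
open Cfsg

namespace Cfsg.Agent.S0331

open Cfsg.Agent.helper11.Sz Matrix

/-- For every odd prime `p` the Sylow `p`-subgroups of the Suzuki group are cyclic. -/
theorem result {F : Type*} [Field F] [Fintype F] {m : ℕ} (hm : 1 ≤ m)
    (hF : Fintype.card F = 2 ^ (2 * m + 1)) {p : ℕ} [Fact p.Prime] (hp : p ≠ 2)
    (P : Sylow p (Cfsg.Sz F m)) : IsCyclic P := by
  haveI := Cfsg.Agent.helper11.Sz.charP_two hF
  have hpp : p.Prime := Fact.out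
  have hq2 : 2 ≤ Fintype.card F := Fintype.one_lt_card
  have hpq : ¬ p ∣ Fintype.card F := by
    intro h
    rw [hF] at h
    have := hpp.dvd_of_dvd_pow h
    exact hp ((Nat.prime_dvd_prime_iff_eq hpp Nat.prime_two).mp this)
  have hp2 : ¬ p ∣ 2 := fun h => hp ((Nat.prime_dvd_prime_iff_eq hpp Nat.prime_two).mp h)
  by_cases h1 : p ∣ Fintype.card F - 1
  · let f : Fˣ →* Cfsg.Sz F m :=
      { toFun := hq hF
        map_one' := hq_one hF
        map_mul' := fun k k' => (hq_mul hm hF k k').symm }
    have hf : Function.Injective f := fun k k' h => Hs_injective hF (congrArg Subtype.val h)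
    have hcyc : IsCyclic f.range :=
      isCyclic_of_surjective f.rangeRestrict f.rangeRestrict_surjective
    have hcard : Nat.card f.range = Fintype.card F - 1 := by
      rw [← Nat.card_congr (MonoidHom.ofInjective hf).toEquiv, Nat.card_units,
        Nat.card_eq_fintype_card]
    apply sylow_cyclic_of_cyclic f.range hcyc ?_ P
    have hidx := Subgroup.card_mul_index f.range
    rw [hcard, card_Sz hm hF] at hidx
    have hpos : 0 < Fintype.card F - 1 := by omega
    have hidx' : f.range.index = Fintype.card F ^ 2 * (Fintype.card F ^ 2 + 1) := by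
      apply Nat.eq_of_mul_eq_mul_left hpos
      rw [hidx]
      ring
    rw [hidx']
    intro h
    rcases (Nat.Prime.dvd_mul hpp).mp h with h | h
    · exact hpq (hpp.dvd_of_dvd_pow h)
    · have e : Fintype.card F ^ 2 + 1 = (Fintype.card F - 1) * (Fintype.card F + 1) + 2 := by
        obtain ⟨k, hk⟩ : ∃ k, Fintype.card F = k + 1 := ⟨Fintype.card F - 1, by omega⟩
        rw [hk]
        simp only [Nat.add_sub_cancel]
        ring
      rw [e] at h
      exact hp2 ((Nat.dvd_add_right (dvd_mul_of_dvd_left h1 _)).mp h)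
  by_cases h2 : p ∣ Fintype.card F ^ 2 + 1
  · let φ : Cfsg.Sz F m →* GL (Fin 4) F :=
      Matrix.SpecialLinearGroup.toGL.comp (Subgroup.subtype _)
    have hφ : Function.Injective φ := by
      intro x y h
      apply Subtype.ext
      apply Subtype.ext
      have := congrArg (fun g : GL (Fin 4) F => (g : Matrix (Fin 4) (Fin 4) F)) h
      exact this
    exact cyclic_of_embedding φ hφ (sylow_GL4_cyclic hp h2) P P.2
  · have hnd : ¬ p ∣ Nat.card (Cfsg.Sz F m) := by
      rw [card_Sz hm hF]
      intro h
      rcases (Nat.Prime.dvd_mul hpp).mp h with h | h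
      · rcases (Nat.Prime.dvd_mul hpp).mp h with h | h
        · exact hpq (hpp.dvd_of_dvd_pow h)
        · exact h2 h
      · exact h1 h
    have hcard : Nat.card P = 1 := by
      rw [Sylow.card_eq_multiplicity, Nat.factorization_eq_zero_of_not_dvd hnd, pow_zero]
    haveI : Subsingleton P := (Nat.card_eq_one_iff_unique.mp hcard).1
    exact isCyclic_of_subsingleton

end Cfsg.Agent.S0331
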