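import Mathlib
import Cfsg.Agent.Lib_helper11_Sz16
import Cfsg.Agent.Lib_helper11_Sz18
import Cfsg.Agent.S0331

set_option autoImplicit false

/-!
# Suzuki groups, part 20: centralisers of fixed-point-free elements
-/

namespace Cfsg.Agent.helper11.Sz

open Cfsg.Agent.S0326 Cfsg.Agent.S0327

/-- in a finite cyclic group two elements of the same prime order generate the same subgroup -/
theorem mem_zpowers_of_orderOf_eq {H : Type*} [Group H] [Finite H] [IsCyclic H] {p : ℕ}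
    (hp : p.Prime) (a b : H) (ha : orderOf a = p) (hb : orderOf b = p) :
    a ∈ Subgroup.zpowers b := by
  classical
  haveI : Fintype H := Fintype.ofFinite H
  have h1 := IsCyclic.card_pow_eq_one_le (α := H) hp.pos
  have hsub : (Subgroup.zpowers b : Set H).toFinset ⊆
      Finset.univ.filter (fun x : H => x ^ p = 1) := by
    intro x hx
    rw [Set.mem_toFinset] at hx
    rw [Finset.mem_filter]
    refine ⟨Finset.mem_univ _, ?_⟩
    obtain ⟨n, rfl⟩ := Subgroup.mem_zpowers_iff.mp hx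
    rw [← zpow_natCast, ← zpow_mul, mul_comm, zpow_mul, zpow_natCast, ← hb, pow_orderOf_eq_one,
      one_zpow]
  have hcard : (Subgroup.zpowers b : Set H).toFinset.card = p := by
    rw [Set.toFinset_card, ← Nat.card_eq_fintype_card]
    exact (Nat.card_zpowers b).trans hb
  have heq := Finset.eq_of_subset_of_card_le hsub (by rw [hcard]; exact h1)
  have hmem : a ∈ Finset.univ.filter (fun x : H => x ^ p = 1) := by
    rw [Finset.mem_filter]
    exact ⟨Finset.mem_univ _, by rw [← ha, pow_orderOf_eq_one]⟩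
  rw [← heq, Set.mem_toFinset] at hmem
  exact hmem

theorem isPGroup_zpowers_of_pow {G : Type*} [Group G] {p : ℕ} (x : G) (hx : x ^ p = 1) :
    IsPGroup p (Subgroup.zpowers x) := by
  rintro ⟨h, hh⟩
  refine ⟨1, ?_⟩
  obtain ⟨n, rfl⟩ := Subgroup.mem_zpowers_iff.mp hh
  apply Subtype.ext
  show (x ^ n) ^ p ^ 1 = 1
  rw [pow_one, ← zpow_natCast, ← zpow_mul, mul_comm, zpow_mul, zpow_natCast, hx, one_zpow]

variable {F : Type*} [Field F] [CharP F 2] [Fintype F] {m : ℕ}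

/-- the Suzuki group inside `GL₄` -/
theorem conj_pow_frob_Sz (hF : Fintype.card F = 2 ^ (2 * m + 1)) {p : ℕ} [Fact p.Prime]
    (hp2 : p ≠ 2) (hp : p ∣ Fintype.card F ^ 2 + 1) (x y : Cfsg.Sz F m) (hx : x ^ p = 1)
    (hx1 : x ≠ 1) (k : ℕ) (hy : y * x * y⁻¹ = x ^ k) :
    ∃ j : ℕ, j < 4 ∧ x ^ k = x ^ (Fintype.card F ^ j) := by
  let φ : Cfsg.Sz F m →* Matrix.GeneralLinearGroup (Fin 4) F :=
    Matrix.SpecialLinearGroup.toGL.comp (Subgroup.subtype _)
  have hφ : Function.Injective φ := by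
    intro a b h
    apply Subtype.ext
    apply Subtype.ext
    have := congrArg (fun g : Matrix.GeneralLinearGroup (Fin 4) F =>
      (g : Matrix (Fin 4) (Fin 4) F)) h
    exact this
  obtain ⟨j, hj, h⟩ := conj_pow_frob hp2 hp (φ x) (φ y) (by rw [← map_pow, hx, map_one])
    (fun h => hx1 (hφ (by rw [h, map_one]))) k
    (by rw [← map_inv, ← map_mul, ← map_mul, hy, map_pow])
  exact ⟨j, hj, hφ (by rw [map_pow, map_pow, h])⟩

/-- fixed-point-free elements -/
def IsFpf (g : Cfsg.Sz F m) : Prop := ∀ y : Cfsg.suzukiOvoid F m, g • y ≠ y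

theorem IsFpf.ne_one {g : Cfsg.Sz F m} (hg : IsFpf g) : g ≠ 1 := by
  rintro rfl
  exact hg (pt m none) (one_smul _ _)

theorem IsFpf.conj {g : Cfsg.Sz F m} (hg : IsFpf g) (x : Cfsg.Sz F m) :
    IsFpf (x * g * x⁻¹) := by
  intro y hy
  apply hg (x⁻¹ • y)
  calc g • (x⁻¹ • y) = x⁻¹ • ((x * g * x⁻¹) • y) := by
        simp only [← mul_smul]
        congr 1
        group
    _ = x⁻¹ • y := by rw [hy]

theorem IsFpf.of_commute (hm : 1 ≤ m) (hF : Fintype.card F = 2 ^ (2 * m + 1))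
    {g : Cfsg.Sz F m} (hg : IsFpf g) {c : Cfsg.Sz F m} (hc : c * g = g * c) (hc1 : c ≠ 1) :
    IsFpf c :=
  fun y => fpf_of_pow hm hF g hg c hc.symm hc1 y

theorem cent_eq (hm : 1 ≤ m) (hF : Fintype.card F = 2 ^ (2 * m + 1))
    {g : Cfsg.Sz F m} (hg : IsFpf g) {u : Cfsg.Sz F m}
    (hu : u ∈ Subgroup.centralizer ({g} : Set (Cfsg.Sz F m))) (hu1 : u ≠ 1) :
    Subgroup.centralizer ({u} : Set (Cfsg.Sz F m)) = Subgroup.centralizer {g} := by
  rw [Subgroup.mem_centralizer_singleton_iff] at hu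
  have hfu := hg.of_commute hm hF hu hu1
  ext c
  simp only [Subgroup.mem_centralizer_singleton_iff]
  constructor
  · intro hc
    exact comm_of_fpf hm hF u hfu c g hc hu.symm
  · intro hc
    exact comm_of_fpf hm hF g hg c u hc hu

omit [CharP F 2] in
theorem odd_card (hF : Fintype.card F = 2 ^ (2 * m + 1)) : ¬ 2 ∣ Fintype.card F ^ 2 + 1 := by
  rw [hF]
  intro h
  have h1 : 2 ∣ (2 ^ (2 * m + 1)) ^ 2 := dvd_pow (dvd_pow_self 2 (by omega)) (by norm_num)
  have := (Nat.dvd_add_right h1).mp h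
  omega

omit [CharP F 2] in
theorem not_dvd_both (hF : Fintype.card F = 2 ^ (2 * m + 1)) {p : ℕ} (hp : p.Prime)
    (h1 : p ∣ Fintype.card F ^ 2 + 1) (h2 : p ∣ Fintype.card F ^ 2 * (Fintype.card F - 1)) :
    False := by
  have hq : 2 ≤ Fintype.card F := Fintype.one_lt_card
  rcases (Nat.Prime.dvd_mul hp).mp h2 with h | h
  · have := (Nat.dvd_add_right h).mp h1
    exact hp.one_lt.ne' (Nat.dvd_one.mp this)
  · have e : Fintype.card F ^ 2 + 1 = (Fintype.card F - 1) * (Fintype.card F + 1) + 2 := by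
      obtain ⟨k, hk⟩ : ∃ k, Fintype.card F = k + 1 := ⟨Fintype.card F - 1, by omega⟩
      rw [hk]
      simp only [Nat.add_sub_cancel]
      ring
    rw [e] at h1
    have h3 : p ∣ 2 := (Nat.dvd_add_right (dvd_mul_of_dvd_left h _)).mp h1
    have h4 : p = 2 := (Nat.prime_dvd_prime_iff_eq hp Nat.prime_two).mp h3
    rw [h4, ← e] at h1
    exact odd_card hF h1

theorem card_cent_dvd (hm : 1 ≤ m) (hF : Fintype.card F = 2 ^ (2 * m + 1))
    {g : Cfsg.Sz F m} (hg : IsFpf g) :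
    Nat.card (Subgroup.centralizer ({g} : Set (Cfsg.Sz F m))) ∣ Fintype.card F ^ 2 + 1 := by
  have hstab : ∀ b : Cfsg.suzukiOvoid F m,
      MulAction.stabilizer (Subgroup.centralizer ({g} : Set (Cfsg.Sz F m))) b = ⊥ := by
    intro b
    rw [eq_bot_iff]
    intro c hc
    rw [MulAction.mem_stabilizer_iff] at hc
    rw [Subgroup.mem_bot]
    by_contra hc1
    have hc' : (c : Cfsg.Sz F m) ≠ 1 := fun h => hc1 (Subtype.ext h)
    have := hg.of_commute hm hF (Subgroup.mem_centralizer_singleton_iff.mp c.2) hc'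
    exact this b hc
  have e := MulAction.selfEquivOrbitsQuotientProd hstab
  have h := Nat.card_congr e
  rw [Nat.card_prod, Cfsg.Agent.S0326.result] at h
  exact Dvd.intro_left _ h.symm

theorem prime_dvd_cent (hm : 1 ≤ m) (hF : Fintype.card F = 2 ^ (2 * m + 1))
    {g : Cfsg.Sz F m} (hg : IsFpf g) {p : ℕ} (hp : p.Prime)
    (hpd : p ∣ Nat.card (Subgroup.centralizer ({g} : Set (Cfsg.Sz F m)))) :
    p ≠ 2 ∧ p ∣ Fintype.card F ^ 2 + 1 := by
  have h := hpd.trans (card_cent_dvd hm hF hg)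
  refine ⟨?_, h⟩
  rintro rfl
  exact odd_card hF h

theorem cyclic_cent (hm : 1 ≤ m) (hF : Fintype.card F = 2 ^ (2 * m + 1))
    {g : Cfsg.Sz F m} (hg : IsFpf g) :
    IsCyclic (Subgroup.centralizer ({g} : Set (Cfsg.Sz F m))) := by
  have hcomm : ∀ a b : Subgroup.centralizer ({g} : Set (Cfsg.Sz F m)), a * b = b * a := by
    intro a b
    apply Subtype.ext
    exact comm_of_fpf hm hF g hg a b (Subgroup.mem_centralizer_singleton_iff.mp a.2)
      (Subgroup.mem_centralizer_singleton_iff.mp b.2)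
  haveI : Group.IsNilpotent (Subgroup.centralizer ({g} : Set (Cfsg.Sz F m))) := by
    letI : CommGroup (Subgroup.centralizer ({g} : Set (Cfsg.Sz F m))) :=
      { (inferInstance : Group (Subgroup.centralizer ({g} : Set (Cfsg.Sz F m)))) with
        mul_comm := hcomm }
    exact CommGroup.isNilpotent
  have hodd : ¬ 2 ∣ Nat.card (Subgroup.centralizer ({g} : Set (Cfsg.Sz F m))) :=
    fun h => odd_card hF (h.trans (card_cent_dvd hm hF hg))
  haveI : IsZGroup (Subgroup.centralizer ({g} : Set (Cfsg.Sz F m))) := by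
    refine ⟨fun p hp P => ?_⟩
    haveI : Fact p.Prime := ⟨hp⟩
    by_cases hp2 : p = 2
    · subst hp2
      have hcard : Nat.card P = 1 := by
        rw [Sylow.card_eq_multiplicity, Nat.factorization_eq_zero_of_not_dvd hodd, pow_zero]
      haveI : Subsingleton P := (Nat.card_eq_one_iff_unique.mp hcard).1
      exact isCyclic_of_subsingleton
    · exact cyclic_of_embedding (Subgroup.subtype _) (Subgroup.subtype_injective _)
        (fun Q => Cfsg.Agent.S0331.result hm hF hp2 Q)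
        (P : Subgroup (Subgroup.centralizer ({g} : Set (Cfsg.Sz F m)))) P.2
  infer_instance

theorem exists_prime_elt (hm : 1 ≤ m) (hF : Fintype.card F = 2 ^ (2 * m + 1))
    {g : Cfsg.Sz F m} (hg : IsFpf g) {p : ℕ} [Fact p.Prime]
    (hpd : p ∣ Nat.card (Subgroup.centralizer ({g} : Set (Cfsg.Sz F m)))) :
    ∃ x : Cfsg.Sz F m, x ∈ Subgroup.centralizer ({g} : Set (Cfsg.Sz F m)) ∧ orderOf x = p ∧
      IsFpf x ∧ Subgroup.centralizer ({x} : Set (Cfsg.Sz F m)) = Subgroup.centralizer {g} := by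
  obtain ⟨x, hx⟩ := exists_prime_orderOf_dvd_card' p hpd
  have hx1 : (x : Cfsg.Sz F m) ≠ 1 := by
    intro h
    have h' : x = 1 := Subtype.ext h
    rw [h', orderOf_one] at hx
    exact (Fact.out : p.Prime).ne_one hx.symm
  refine ⟨x, x.2, ?_, hg.of_commute hm hF (Subgroup.mem_centralizer_singleton_iff.mp x.2) hx1,
    cent_eq hm hF hg x.2 hx1⟩
  rw [← hx, Subgroup.orderOf_coe]

theorem card_normalizer_le (hm : 1 ≤ m) (hF : Fintype.card F = 2 ^ (2 * m + 1))
    {g : Cfsg.Sz F m} (hg : IsFpf g) :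
    Nat.card (Subgroup.normalizer
      ((Subgroup.centralizer ({g} : Set (Cfsg.Sz F m)) : Subgroup (Cfsg.Sz F m)) :
        Set (Cfsg.Sz F m))) ≤
      4 * Nat.card (Subgroup.centralizer ({g} : Set (Cfsg.Sz F m))) := by
  classical
  obtain ⟨U, hU⟩ : ∃ U : Subgroup (Cfsg.Sz F m), U = Subgroup.centralizer {g} := ⟨_, rfl⟩
  rw [← hU]
  have hgU : g ∈ U := by rw [hU]; exact Subgroup.mem_centralizer_singleton_iff.mpr rfl
  have hU1 : Nat.card U ≠ 1 := by
    intro h
    have : Subsingleton U := (Nat.card_eq_one_iff_unique.mp h).1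
    have h1 : (⟨g, hgU⟩ : U) = 1 := Subsingleton.elim _ _
    exact hg.ne_one (congrArg Subtype.val h1)
  obtain ⟨p, hpp, hpd⟩ := Nat.exists_prime_and_dvd hU1
  haveI : Fact p.Prime := ⟨hpp⟩
  rw [hU] at hpd
  obtain ⟨hp2, hpq⟩ := prime_dvd_cent hm hF hg hpp hpd
  obtain ⟨x, hxU, hxo, hxf, hxC⟩ := exists_prime_elt hm hF hg hpd
  rw [← hU] at hxU hxC
  have hxp : x ^ p = 1 := by rw [← hxo]; exact pow_orderOf_eq_one x
  have hx1 : x ≠ 1 := hxf.ne_one
  haveI : IsCyclic U := by rw [hU]; exact cyclic_cent hm hF hg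
  haveI : Fintype (Cfsg.Sz F m) := Fintype.ofFinite _
  let T : Finset (Cfsg.Sz F m) :=
    Finset.image (fun j : Fin 4 => x ^ (Fintype.card F ^ (j : ℕ))) Finset.univ
  have hT : ∀ y ∈ Subgroup.normalizer (U : Set (Cfsg.Sz F m)), y * x * y⁻¹ ∈ T := by
    intro y hy
    have h1 : y * x * y⁻¹ ∈ U := (Subgroup.mem_normalizer_iff.mp hy x).mp hxU
    have h2 : orderOf (y * x * y⁻¹) = p := by
      rw [← hxo]
      exact MulEquiv.orderOf_eq (MulAut.conj y) x
    have h3 := mem_zpowers_of_orderOf_eq hpp (⟨y * x * y⁻¹, h1⟩ : U) ⟨x, hxU⟩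
      (by rw [← Subgroup.orderOf_coe]; exact h2) (by rw [← Subgroup.orderOf_coe]; exact hxo)
    rw [← mem_powers_iff_mem_zpowers] at h3
    obtain ⟨k, hk⟩ := h3
    have hk' : y * x * y⁻¹ = x ^ k := by
      have := congrArg Subtype.val hk
      simpa using this.symm
    obtain ⟨j, hj, hjk⟩ := conj_pow_frob_Sz hF hp2 hpq x y hxp hx1 k hk'
    rw [hk', hjk]
    exact Finset.mem_image.mpr ⟨⟨j, hj⟩, Finset.mem_univ _, rfl⟩
  set S : Finset (Cfsg.Sz F m) :=
    Finset.univ.filter (fun y => y ∈ Subgroup.normalizer (U : Set (Cfsg.Sz F m))) with hS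
  have hScard : S.card = Nat.card (Subgroup.normalizer (U : Set (Cfsg.Sz F m))) := by
    rw [Nat.card_eq_fintype_card, Fintype.card_subtype]
  set V : Finset (Cfsg.Sz F m) := Finset.univ.filter (fun y => y ∈ U) with hV
  have hVcard : V.card = Nat.card U := by
    rw [Nat.card_eq_fintype_card, Fintype.card_subtype]
  have hcount := Finset.card_le_mul_card_image (f := fun y => y * x * y⁻¹) S (Nat.card U) (by
    intro a ha
    obtain ⟨y₀, hy₀, rfl⟩ := Finset.mem_image.mp ha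
    rw [← hVcard]
    apply Finset.card_le_card_of_injOn (fun y => y₀⁻¹ * y)
    · intro y hy
      rw [Finset.coe_filter, Set.mem_setOf_eq] at hy
      rw [hV, Finset.coe_filter, Set.mem_setOf_eq]
      refine ⟨Finset.mem_univ _, ?_⟩
      rw [← hxC, Subgroup.mem_centralizer_singleton_iff]
      have h := hy.2
      calc y₀⁻¹ * y * x = y₀⁻¹ * (y * x * y⁻¹) * y := by group
        _ = y₀⁻¹ * (y₀ * x * y₀⁻¹) * y := by rw [h]
        _ = x * (y₀⁻¹ * y) := by group
    · intro y _ y' _ h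
      exact mul_left_cancel h)
  have himg : (S.image (fun y => y * x * y⁻¹)).card ≤ 4 := by
    calc (S.image (fun y => y * x * y⁻¹)).card ≤ T.card := by
          apply Finset.card_le_card
          intro a ha
          obtain ⟨y, hy, rfl⟩ := Finset.mem_image.mp ha
          rw [hS, Finset.mem_filter] at hy
          exact hT y hy.2
      _ ≤ (Finset.univ : Finset (Fin 4)).card := Finset.card_image_le
      _ = 4 := by simp
  calc Nat.card (Subgroup.normalizer (U : Set (Cfsg.Sz F m))) = S.card := hScard.symm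
    _ ≤ Nat.card U * (S.image (fun y => y * x * y⁻¹)).card := hcount
    _ ≤ Nat.card U * 4 := Nat.mul_le_mul_left _ himg
    _ = 4 * Nat.card U := mul_comm _ _

theorem three_not_dvd (hm : 1 ≤ m) (hF : Fintype.card F = 2 ^ (2 * m + 1)) :
    ¬ 3 ∣ Nat.card (Cfsg.Sz F m) := by
  rw [card_Sz hm hF, hF]
  have h : 2 ^ (2 * m + 1) % 3 = 2 := by
    rw [pow_succ, pow_mul, Nat.mul_mod, Nat.pow_mod]
    norm_num
  obtain ⟨q, hq⟩ : ∃ q : ℕ, q = 2 ^ (2 * m + 1) := ⟨_, rfl⟩
  rw [← hq] at h ⊢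
  have h2 : q ^ 2 % 3 = 1 := by rw [Nat.pow_mod, h]
  intro hd
  rcases (Nat.Prime.dvd_mul Nat.prime_three).mp hd with hd | hd
  · rcases (Nat.Prime.dvd_mul Nat.prime_three).mp hd with hd | hd
    · omega
    · omega
  · omega

theorem card_normalizer_eq (hm : 1 ≤ m) (hF : Fintype.card F = 2 ^ (2 * m + 1))
    {g : Cfsg.Sz F m} (hg : IsFpf g) :
    ∃ n : ℕ, (n = 1 ∨ n = 2 ∨ n = 4) ∧
      Nat.card (Subgroup.normalizer
        ((Subgroup.centralizer ({g} : Set (Cfsg.Sz F m)) : Subgroup (Cfsg.Sz F m)) :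
          Set (Cfsg.Sz F m))) =
      n * Nat.card (Subgroup.centralizer ({g} : Set (Cfsg.Sz F m))) := by
  have hle := card_normalizer_le hm hF hg
  have hdvd : Nat.card (Subgroup.centralizer ({g} : Set (Cfsg.Sz F m))) ∣
      Nat.card (Subgroup.normalizer
        ((Subgroup.centralizer ({g} : Set (Cfsg.Sz F m)) : Subgroup (Cfsg.Sz F m)) :
          Set (Cfsg.Sz F m))) := Subgroup.card_dvd_of_le Subgroup.le_normalizer
  obtain ⟨n, hn⟩ := hdvd
  have hpos : 0 < Nat.card (Subgroup.centralizer ({g} : Set (Cfsg.Sz F m))) := Nat.card_pos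
  have hNpos : 0 < Nat.card (Subgroup.normalizer
        ((Subgroup.centralizer ({g} : Set (Cfsg.Sz F m)) : Subgroup (Cfsg.Sz F m)) :
          Set (Cfsg.Sz F m))) := Nat.card_pos
  have hn4 : n ≤ 4 := by
    rw [hn, mul_comm] at hle
    exact Nat.le_of_mul_le_mul_right hle hpos
  have hn0 : n ≠ 0 := by
    rintro rfl
    rw [mul_zero] at hn
    omega
  have hn3 : n ≠ 3 := by
    rintro rfl
    apply three_not_dvd hm hF
    have h1 : 3 ∣ Nat.card (Subgroup.normalizer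
        ((Subgroup.centralizer ({g} : Set (Cfsg.Sz F m)) : Subgroup (Cfsg.Sz F m)) :
          Set (Cfsg.Sz F m))) := by rw [hn]; exact dvd_mul_left _ _
    exact h1.trans (Subgroup.card_subgroup_dvd_card _)
  refine ⟨n, by omega, ?_⟩
  rw [hn, mul_comm]

theorem pow_factorization_dvd_cent (hm : 1 ≤ m) (hF : Fintype.card F = 2 ^ (2 * m + 1))
    {g : Cfsg.Sz F m} (hg : IsFpf g) {p : ℕ} (hp : p.Prime)
    (hpd : p ∣ Nat.card (Subgroup.centralizer ({g} : Set (Cfsg.Sz F m)))) :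
    p ^ (Nat.card (Cfsg.Sz F m)).factorization p ∣
      Nat.card (Subgroup.centralizer ({g} : Set (Cfsg.Sz F m))) := by
  haveI : Fact p.Prime := ⟨hp⟩
  obtain ⟨hp2, hpq⟩ := prime_dvd_cent hm hF hg hp hpd
  obtain ⟨x, hxU, hxo, hxf, hxC⟩ := exists_prime_elt hm hF hg hpd
  have hxp : x ^ p = 1 := by rw [← hxo]; exact pow_orderOf_eq_one x
  obtain ⟨P, hP⟩ := (isPGroup_zpowers_of_pow x hxp).exists_le_sylow
  haveI := Cfsg.Agent.S0331.result hm hF hp2 P
  have hPU : (P : Subgroup (Cfsg.Sz F m)) ≤ Subgroup.centralizer {g} := by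
    intro c hc
    rw [← hxC, Subgroup.mem_centralizer_singleton_iff]
    have hxP : x ∈ (P : Subgroup (Cfsg.Sz F m)) := hP (Subgroup.mem_zpowers x)
    obtain ⟨z, hz⟩ := IsCyclic.exists_generator (α := P)
    obtain ⟨i, hi⟩ := Subgroup.mem_zpowers_iff.mp (hz ⟨c, hc⟩)
    obtain ⟨j, hj⟩ := Subgroup.mem_zpowers_iff.mp (hz ⟨x, hxP⟩)
    have : (⟨c, hc⟩ : P) * ⟨x, hxP⟩ = ⟨x, hxP⟩ * ⟨c, hc⟩ := by
      rw [← hi, ← hj, ← zpow_add, ← zpow_add, add_comm]
    exact congrArg Subtype.val this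
  rw [← Sylow.card_eq_multiplicity P]
  exact Subgroup.card_dvd_of_le hPU

theorem coprime_cent (hm : 1 ≤ m) (hF : Fintype.card F = 2 ^ (2 * m + 1))
    {g : Cfsg.Sz F m} (hg : IsFpf g) :
    Nat.Coprime (Nat.card (Subgroup.centralizer ({g} : Set (Cfsg.Sz F m))))
      ((Fintype.card F ^ 2 + 1) / Nat.card (Subgroup.centralizer ({g} : Set (Cfsg.Sz F m)))) := by
  apply Nat.coprime_of_dvd
  intro p hp h1 h2
  have h3 := pow_factorization_dvd_cent hm hF hg hp h1
  have hdvd := card_cent_dvd hm hF hg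
  have hN := Nat.mul_div_cancel' hdvd
  have h4 : p ^ ((Nat.card (Cfsg.Sz F m)).factorization p + 1) ∣ Fintype.card F ^ 2 + 1 := by
    rw [← hN, pow_succ]
    exact mul_dvd_mul h3 h2
  have hNG : Fintype.card F ^ 2 + 1 ∣ Nat.card (Cfsg.Sz F m) := by
    rw [card_Sz hm hF]
    exact dvd_mul_of_dvd_left (dvd_mul_left _ _) _
  exact Nat.pow_succ_factorization_not_dvd Nat.card_pos.ne' hp (h4.trans hNG)

theorem conj_of_common_prime (hm : 1 ≤ m) (hF : Fintype.card F = 2 ^ (2 * m + 1))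
    {g g' : Cfsg.Sz F m} (hg : IsFpf g) (hg' : IsFpf g') {p : ℕ} (hp : p.Prime)
    (h1 : p ∣ Nat.card (Subgroup.centralizer ({g} : Set (Cfsg.Sz F m))))
    (h2 : p ∣ Nat.card (Subgroup.centralizer ({g'} : Set (Cfsg.Sz F m)))) :
    ∃ z : Cfsg.Sz F m, ∀ c : Cfsg.Sz F m,
      c ∈ Subgroup.centralizer ({g'} : Set (Cfsg.Sz F m)) ↔
        z⁻¹ * c * z ∈ Subgroup.centralizer ({g} : Set (Cfsg.Sz F m)) := by
  haveI : Fact p.Prime := ⟨hp⟩
  obtain ⟨hp2, hpq⟩ := prime_dvd_cent hm hF hg hp h1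
  obtain ⟨x, hxU, hxo, hxf, hxC⟩ := exists_prime_elt hm hF hg h1
  obtain ⟨x', hxU', hxo', hxf', hxC'⟩ := exists_prime_elt hm hF hg' h2
  have hxp : x ^ p = 1 := by rw [← hxo]; exact pow_orderOf_eq_one x
  have hxp' : x' ^ p = 1 := by rw [← hxo']; exact pow_orderOf_eq_one x'
  obtain ⟨P, hP⟩ := (isPGroup_zpowers_of_pow x hxp).exists_le_sylow
  obtain ⟨P', hP'⟩ := (isPGroup_zpowers_of_pow x' hxp').exists_le_sylow
  obtain ⟨z, hz⟩ := MulAction.exists_smul_eq (Cfsg.Sz F m) P P'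
  have hzx : z * x * z⁻¹ ∈ (P' : Subgroup (Cfsg.Sz F m)) := by
    rw [← hz, Sylow.coe_subgroup_smul, Subgroup.mem_smul_pointwise_iff_exists]
    exact ⟨x, hP (Subgroup.mem_zpowers x), rfl⟩
  have hx'P : x' ∈ (P' : Subgroup (Cfsg.Sz F m)) := hP' (Subgroup.mem_zpowers x')
  haveI := Cfsg.Agent.S0331.result hm hF hp2 P'
  have ho : orderOf (z * x * z⁻¹) = p := by
    rw [← hxo]
    exact MulEquiv.orderOf_eq (MulAut.conj z) x
  have m1 := mem_zpowers_of_orderOf_eq hp (⟨z * x * z⁻¹, hzx⟩ : P') ⟨x', hx'P⟩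
    (by rw [← Subgroup.orderOf_coe]; exact ho) (by rw [← Subgroup.orderOf_coe]; exact hxo')
  have m2 := mem_zpowers_of_orderOf_eq hp (⟨x', hx'P⟩ : P') ⟨z * x * z⁻¹, hzx⟩
    (by rw [← Subgroup.orderOf_coe]; exact hxo') (by rw [← Subgroup.orderOf_coe]; exact ho)
  have hC : ∀ c : Cfsg.Sz F m, c * x' = x' * c ↔ c * (z * x * z⁻¹) = (z * x * z⁻¹) * c := by
    intro c
    constructor
    · intro h
      obtain ⟨i, hi⟩ := Subgroup.mem_zpowers_iff.mp m1
      have e : z * x * z⁻¹ = x' ^ i := by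
        have := congrArg Subtype.val hi
        simpa using this.symm
      rw [e]
      exact Commute.zpow_right h i
    · intro h
      obtain ⟨i, hi⟩ := Subgroup.mem_zpowers_iff.mp m2
      have e : x' = (z * x * z⁻¹) ^ i := by
        have := congrArg Subtype.val hi
        simpa using this.symm
      rw [e]
      exact Commute.zpow_right h i
  refine ⟨z, fun c => ?_⟩
  rw [← hxC', ← hxC, Subgroup.mem_centralizer_singleton_iff,
    Subgroup.mem_centralizer_singleton_iff, hC]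
  constructor
  · intro h
    calc z⁻¹ * c * z * x = z⁻¹ * (c * (z * x * z⁻¹)) * z := by group
      _ = z⁻¹ * ((z * x * z⁻¹) * c) * z := by rw [h]
      _ = x * (z⁻¹ * c * z) := by group
  · intro h
    calc c * (z * x * z⁻¹) = z * ((z⁻¹ * c * z) * x) * z⁻¹ := by group
      _ = z * (x * (z⁻¹ * c * z)) * z⁻¹ := by rw [h]
      _ = z * x * z⁻¹ * c := by group

theorem card_stabilizer (hm : 1 ≤ m) (hF : Fintype.card F = 2 ^ (2 * m + 1))
    (y : Cfsg.suzukiOvoid F m) :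
    Nat.card (MulAction.stabilizer (Cfsg.Sz F m) y) =
      Fintype.card F ^ 2 * (Fintype.card F - 1) := by
  obtain ⟨-, h2t, -, -, -⟩ := Cfsg.Agent.S0327.result hm hF
  haveI : MulAction.IsPretransitive (Cfsg.Sz F m) (Cfsg.suzukiOvoid F m) :=
    MulAction.isPretransitive_of_is_two_pretransitive (h2 := h2t)
  have h1 := MulAction.index_stabilizer_of_transitive (Cfsg.Sz F m) y
  have h2 := Subgroup.card_mul_index (MulAction.stabilizer (Cfsg.Sz F m) y)
  rw [h1, Cfsg.Agent.S0326.result, card_Sz hm hF] at h2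
  have hpos : 0 < Fintype.card F ^ 2 + 1 := Nat.succ_pos _
  apply Nat.eq_of_mul_eq_mul_right hpos
  rw [h2]
  ring

theorem exists_fpf_of_prime (hm : 1 ≤ m) (hF : Fintype.card F = 2 ^ (2 * m + 1))
    {p : ℕ} (hp : p.Prime) (hpq : p ∣ Fintype.card F ^ 2 + 1) :
    ∃ g : Cfsg.Sz F m, IsFpf g ∧
      p ∣ Nat.card (Subgroup.centralizer ({g} : Set (Cfsg.Sz F m))) := by
  haveI : Fact p.Prime := ⟨hp⟩
  have hpG : p ∣ Nat.card (Cfsg.Sz F m) := by
    rw [card_Sz hm hF]
    exact hpq.trans (dvd_mul_of_dvd_left (dvd_mul_left _ _) _)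
  obtain ⟨x, hx⟩ := exists_prime_orderOf_dvd_card' p hpG
  refine ⟨x, ?_, ?_⟩
  · intro y hy
    have hxs : x ∈ MulAction.stabilizer (Cfsg.Sz F m) y := hy
    have h1 : orderOf x ∣ Nat.card (MulAction.stabilizer (Cfsg.Sz F m) y) := by
      have := orderOf_dvd_natCard (⟨x, hxs⟩ : MulAction.stabilizer (Cfsg.Sz F m) y)
      rwa [Subgroup.orderOf_mk] at this
    rw [hx, card_stabilizer hm hF] at h1
    exact not_dvd_both hF hp hpq h1
  · have := orderOf_dvd_natCard
      (⟨x, Subgroup.mem_centralizer_singleton_iff.mpr rfl⟩ :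
        Subgroup.centralizer ({x} : Set (Cfsg.Sz F m)))
    rwa [Subgroup.orderOf_mk, hx] at this

end Cfsg.Agent.helper11.Sz
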