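import Mathlib
import Cfsg.Agent.Lib_helper11_Sz19
import Cfsg.Agent.Lib_helper11_Sz20

set_option autoImplicit false

/-!
# Suzuki groups, part 21: Suzuki's counting argument
-/

namespace Cfsg.Agent.helper11.Sz

open Cfsg.Agent.S0326 Cfsg.Agent.S0327

theorem card_eq_of_conj {G : Type*} [Group G] (A B : Subgroup G) (z : G)
    (h : ∀ c : G, c ∈ B ↔ z⁻¹ * c * z ∈ A) : Nat.card B = Nat.card A := by
  apply Nat.card_congr
  exact
    { toFun := fun c => ⟨z⁻¹ * c * z, (h c).mp c.2⟩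
      invFun := fun a => ⟨z * a * z⁻¹, (h _).mpr (by
        have : z⁻¹ * (z * (a : G) * z⁻¹) * z = a := by group
        rw [this]
        exact a.2)⟩
      left_inv := fun c => by
        apply Subtype.ext
        show z * (z⁻¹ * (c : G) * z) * z⁻¹ = c
        group
      right_inv := fun a => by
        apply Subtype.ext
        show z⁻¹ * (z * (a : G) * z⁻¹) * z = a
        group }

theorem card_centralizer_conj {G : Type*} [Group G] (x s : G) :
    Nat.card (Subgroup.centralizer ({x * s * x⁻¹} : Set G)) =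
      Nat.card (Subgroup.centralizer ({s} : Set G)) := by
  apply card_eq_of_conj _ _ x
  intro c
  rw [Subgroup.mem_centralizer_singleton_iff, Subgroup.mem_centralizer_singleton_iff]
  constructor
  · intro h
    calc x⁻¹ * c * x * s = x⁻¹ * (c * (x * s * x⁻¹)) * x := by group
      _ = x⁻¹ * ((x * s * x⁻¹) * c) * x := by rw [h]
      _ = s * (x⁻¹ * c * x) := by group
  · intro h
    calc c * (x * s * x⁻¹) = x * ((x⁻¹ * c * x) * s) * x⁻¹ := by group
      _ = x * (s * (x⁻¹ * c * x)) * x⁻¹ := by rw [h]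
      _ = x * s * x⁻¹ * c := by group

variable {F : Type*} [Field F] [CharP F 2] [Fintype F] {m : ℕ}

/-- order of the centraliser -/
noncomputable def cw (g : Cfsg.Sz F m) : ℕ :=
  Nat.card (Subgroup.centralizer ({g} : Set (Cfsg.Sz F m)))

theorem cw_def (g : Cfsg.Sz F m) :
    cw g = Nat.card (Subgroup.centralizer ({g} : Set (Cfsg.Sz F m))) := rfl

theorem TI_cent (hm : 1 ≤ m) (hF : Fintype.card F = 2 ^ (2 * m + 1))
    {g : Cfsg.Sz F m} (hg : IsFpf g) (u : Cfsg.Sz F m)
    (hu : u ∈ Subgroup.centralizer ({g} : Set (Cfsg.Sz F m))) (hu1 : u ≠ 1) (x : Cfsg.Sz F m)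
    (hx : x⁻¹ * u * x ∈ Subgroup.centralizer ({g} : Set (Cfsg.Sz F m))) :
    x ∈ Subgroup.normalizer
      ((Subgroup.centralizer ({g} : Set (Cfsg.Sz F m)) : Subgroup (Cfsg.Sz F m)) :
        Set (Cfsg.Sz F m)) := by
  have hu1' : x⁻¹ * u * x ≠ 1 := by
    intro h
    apply hu1
    calc u = x * (x⁻¹ * u * x) * x⁻¹ := by group
      _ = 1 := by rw [h]; group
  have e1 := cent_eq hm hF hg hu hu1
  have e2 := cent_eq hm hF hg hx hu1'
  rw [Subgroup.mem_normalizer_iff]
  intro h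
  constructor
  · intro hh
    rw [← e2] at hh
    rw [← e1]
    rw [Subgroup.mem_centralizer_singleton_iff] at hh ⊢
    calc x * h * x⁻¹ * u = x * (h * (x⁻¹ * u * x)) * x⁻¹ := by group
      _ = x * ((x⁻¹ * u * x) * h) * x⁻¹ := by rw [hh]
      _ = u * (x * h * x⁻¹) := by group
  · intro hh
    rw [← e1] at hh
    rw [← e2]
    rw [Subgroup.mem_centralizer_singleton_iff] at hh ⊢
    calc h * (x⁻¹ * u * x) = x⁻¹ * ((x * h * x⁻¹) * u) * x := by group
      _ = x⁻¹ * (u * (x * h * x⁻¹)) * x := by rw [hh]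
      _ = x⁻¹ * u * x * h := by group

/-- the number of fixed-point-free elements -/
theorem card_fpf (hm : 1 ≤ m) (hF : Fintype.card F = 2 ^ (2 * m + 1)) :
    2 * Nat.card {g : Cfsg.Sz F m // IsFpf g} =
      Fintype.card F ^ 3 * (Fintype.card F - 1) ^ 2 := by
  classical
  haveI : Fintype (Cfsg.Sz F m) := Fintype.ofFinite _
  have hΩcard := Cfsg.Agent.S0326.result (F := F) m
  haveI : Finite (Cfsg.suzukiOvoid F m) := by
    apply Nat.finite_of_card_ne_zero
    rw [hΩcard]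
    exact Nat.succ_ne_zero _
  haveI : Fintype (Cfsg.suzukiOvoid F m) := Fintype.ofFinite _
  obtain ⟨-, h2t, h3, -, -⟩ := Cfsg.Agent.S0327.result hm hF
  haveI := h2t
  have hq : 2 ≤ Fintype.card F := Fintype.one_lt_card
  have hΩ : Fintype.card (Cfsg.suzukiOvoid F m) = Fintype.card F ^ 2 + 1 := by
    rw [← Nat.card_eq_fintype_card, hΩcard]
  have hG : Fintype.card (Cfsg.Sz F m) =
      Fintype.card F ^ 2 * (Fintype.card F ^ 2 + 1) * (Fintype.card F - 1) := by
    rw [← Nat.card_eq_fintype_card, card_Sz hm hF]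
  have h := card_fpf_abstract (G := Cfsg.Sz F m) (Ω := Cfsg.suzukiOvoid F m) h3
    (by rw [hΩ]; nlinarith)
  rw [hΩ, hG] at h
  have hq1 : 1 ≤ Fintype.card F := by omega
  push_cast [Nat.cast_sub hq1] at h
  have hX : {g : Cfsg.Sz F m // ∀ y : Cfsg.suzukiOvoid F m, g • y ≠ y} =
      {g : Cfsg.Sz F m // IsFpf g} := rfl
  rw [hX] at h
  have hz : ((2 * Nat.card {g : Cfsg.Sz F m // IsFpf g} : ℕ) : ℤ) =
      ((Fintype.card F ^ 3 * (Fintype.card F - 1) ^ 2 : ℕ) : ℤ) := by
    push_cast [Nat.cast_sub hq1]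
    linear_combination h
  exact_mod_cast hz

/-- **Suzuki's counting argument**: the centralisers of the fixed-point-free elements are the
cyclic groups of orders `q ± r + 1`, and they have index `4` in their normalisers. -/
theorem main (hm : 1 ≤ m) (hF : Fintype.card F = 2 ^ (2 * m + 1)) :
    (∀ g : Cfsg.Sz F m, IsFpf g →
      cw g = 2 ^ (2 * m + 1) + 2 ^ (m + 1) + 1 ∨ cw g = 2 ^ (2 * m + 1) - 2 ^ (m + 1) + 1) ∧
    (∀ k : ℕ, (k = 2 ^ (2 * m + 1) + 2 ^ (m + 1) + 1 ∨ k = 2 ^ (2 * m + 1) - 2 ^ (m + 1) + 1) →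
      ∃ g : Cfsg.Sz F m, IsFpf g ∧ cw g = k ∧
        Nat.card (Subgroup.normalizer
          ((Subgroup.centralizer ({g} : Set (Cfsg.Sz F m)) : Subgroup (Cfsg.Sz F m)) :
            Set (Cfsg.Sz F m))) = 4 * k) := by
  classical
  haveI : Fintype (Cfsg.Sz F m) := Fintype.ofFinite _
  obtain ⟨q, hq⟩ : ∃ q : ℕ, q = 2 ^ (2 * m + 1) := ⟨_, rfl⟩
  have hFq : Fintype.card F = q := by rw [hq]; exact hF
  have hq8 : 8 ≤ q := by
    rw [hq]
    calc 8 = 2 ^ 3 := by norm_num
      _ ≤ 2 ^ (2 * m + 1) := Nat.pow_le_pow_right (by norm_num) (by omega)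
  set X : Finset (Cfsg.Sz F m) := Finset.univ.filter (fun g => IsFpf g) with hX
  set D : Finset ℕ := X.image cw with hD
  have hXmem : ∀ g : Cfsg.Sz F m, g ∈ X ↔ IsFpf g := by
    intro g
    rw [hX, Finset.mem_filter]
    exact ⟨fun h => h.2, fun h => ⟨Finset.mem_univ _, h⟩⟩
  have hDmem : ∀ g : Cfsg.Sz F m, IsFpf g → cw g ∈ D := by
    intro g hg
    rw [hD]
    exact Finset.mem_image_of_mem _ ((hXmem g).mpr hg)
  have hrep : ∀ d ∈ D, ∃ g : Cfsg.Sz F m, IsFpf g ∧ cw g = d := by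
    intro d hd
    obtain ⟨g, hg, rfl⟩ := Finset.mem_image.mp hd
    exact ⟨g, (hXmem g).mp hg, rfl⟩
  choose! rep hrep using hrep
  have hnn : ∀ d ∈ D, ∃ n : ℕ, (n = 1 ∨ n = 2 ∨ n = 4) ∧
      Nat.card (Subgroup.normalizer
        ((Subgroup.centralizer ({rep d} : Set (Cfsg.Sz F m)) : Subgroup (Cfsg.Sz F m)) :
          Set (Cfsg.Sz F m))) = n * d := by
    intro d hd
    obtain ⟨n, hn, h⟩ := card_normalizer_eq hm hF (hrep d hd).1
    refine ⟨n, hn, ?_⟩
    rw [h, ← cw_def, (hrep d hd).2]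
  choose! nn hnn using hnn
  have hc : ∀ d ∈ D, (4 / nn d = 1 ∨ 4 / nn d = 2 ∨ 4 / nn d = 4) ∧ 4 / nn d * nn d = 4 := by
    intro d hd
    rcases (hnn d hd).1 with h | h | h <;> rw [h] <;> norm_num
  -- basic facts on the orders
  have hdN : ∀ d ∈ D, d ∣ q ^ 2 + 1 := by
    intro d hd
    have := card_cent_dvd hm hF (hrep d hd).1
    rwa [← cw_def, (hrep d hd).2, hFq] at this
  have hd3 : ∀ d ∈ D, 3 ≤ d := by
    intro d hd
    obtain ⟨hf, hw⟩ := hrep d hd
    have h0 : 0 < d := by rw [← hw, cw_def]; exact Nat.card_pos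
    have h1 : d ≠ 1 := by
      intro h
      rw [← hw, cw_def] at h
      have : Subsingleton (Subgroup.centralizer ({rep d} : Set (Cfsg.Sz F m))) :=
        (Nat.card_eq_one_iff_unique.mp h).1
      have h1 : (⟨rep d, Subgroup.mem_centralizer_singleton_iff.mpr rfl⟩ :
          Subgroup.centralizer ({rep d} : Set (Cfsg.Sz F m))) = 1 := Subsingleton.elim _ _
      exact hf.ne_one (congrArg Subtype.val h1)
    have h2 : d ≠ 2 := by
      rintro rfl
      have := hdN 2 hd
      rw [← hFq] at this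
      exact odd_card hF this
    omega
  -- counting each class
  have hclass : ∀ d ∈ D, (X.filter (fun g => cw g = d)).card * (nn d * d) =
      Nat.card (Cfsg.Sz F m) * (d - 1) := by
    intro d hd
    obtain ⟨hf, hw⟩ := hrep d hd
    have hTI := card_conj_TI (Subgroup.centralizer ({rep d} : Set (Cfsg.Sz F m)))
      (fun u hu hu1 x hx => TI_cent hm hF hf u hu hu1 x hx)
    rw [(hnn d hd).2, ← cw_def, hw] at hTI
    rw [← hTI]
    congr 1
    rw [Nat.card_eq_fintype_card, Fintype.card_subtype]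
    congr 1
    ext s
    simp only [Finset.mem_filter, Finset.mem_univ, true_and]
    rw [hXmem]
    constructor
    · rintro ⟨hsf, hsw⟩
      refine ⟨hsf.ne_one, ?_⟩
      have hd1 : d ≠ 1 := by have := hd3 d hd; omega
      obtain ⟨p, hp, hpd⟩ := Nat.exists_prime_and_dvd hd1
      have h1 : p ∣ Nat.card (Subgroup.centralizer ({rep d} : Set (Cfsg.Sz F m))) := by
        rw [← cw_def, hw]; exact hpd
      have h2 : p ∣ Nat.card (Subgroup.centralizer ({s} : Set (Cfsg.Sz F m))) := by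
        rw [← cw_def, hsw]; exact hpd
      obtain ⟨z, hz⟩ := conj_of_common_prime hm hF hf hsf hp h1 h2
      exact ⟨z, (hz s).mp (Subgroup.mem_centralizer_singleton_iff.mpr rfl)⟩
    · rintro ⟨hs1, x, hx⟩
      have hu1 : x⁻¹ * s * x ≠ 1 := by
        intro h
        apply hs1
        calc s = x * (x⁻¹ * s * x) * x⁻¹ := by group
          _ = 1 := by rw [h]; group
      have hfu := hf.of_commute hm hF (Subgroup.mem_centralizer_singleton_iff.mp hx) hu1
      have hs : x * (x⁻¹ * s * x) * x⁻¹ = s := by group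
      have hfs : IsFpf s := by
        have := hfu.conj x
        rwa [hs] at this
      refine ⟨hfs, ?_⟩
      rw [cw_def, ← hs, card_centralizer_conj, cent_eq hm hF hf hx hu1, ← cw_def, hw]
  -- the total count
  have hXsum : X.card = ∑ d ∈ D, (X.filter (fun g => cw g = d)).card :=
    Finset.card_eq_sum_card_image cw X
  have hX2 : 2 * X.card = q ^ 3 * (q - 1) ^ 2 := by
    have := card_fpf hm hF
    rw [Nat.card_eq_fintype_card, Fintype.card_subtype, hFq] at this
    exact this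
  have hG : Nat.card (Cfsg.Sz F m) = q ^ 2 * (q ^ 2 + 1) * (q - 1) := by
    rw [card_Sz hm hF, hFq]
  have hterm : ∀ d ∈ D, 4 * (X.filter (fun g => cw g = d)).card =
      q ^ 2 * (q - 1) * (4 / nn d * (q ^ 2 + 1 - (q ^ 2 + 1) / d)) := by
    intro d hd
    have h1 := hclass d hd
    have h2 : d * ((q ^ 2 + 1) / d) = q ^ 2 + 1 := Nat.mul_div_cancel' (hdN d hd)
    have hdpos : 0 < d := by have := hd3 d hd; omega
    have h3 : (q ^ 2 + 1) / d * (d - 1) = q ^ 2 + 1 - (q ^ 2 + 1) / d := by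
      rw [Nat.mul_sub_one, mul_comm, h2]
    have h4 : (X.filter (fun g => cw g = d)).card * nn d =
        q ^ 2 * (q - 1) * (q ^ 2 + 1 - (q ^ 2 + 1) / d) := by
      apply Nat.eq_of_mul_eq_mul_right hdpos
      rw [← h3]
      calc (X.filter (fun g => cw g = d)).card * nn d * d
          = (X.filter (fun g => cw g = d)).card * (nn d * d) := by ring
        _ = Nat.card (Cfsg.Sz F m) * (d - 1) := h1
        _ = q ^ 2 * (d * ((q ^ 2 + 1) / d)) * (q - 1) * (d - 1) := by rw [hG, h2]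
        _ = q ^ 2 * (q - 1) * ((q ^ 2 + 1) / d * (d - 1)) * d := by ring
    calc 4 * (X.filter (fun g => cw g = d)).card
        = 4 / nn d * nn d * (X.filter (fun g => cw g = d)).card := by rw [(hc d hd).2]
      _ = 4 / nn d * ((X.filter (fun g => cw g = d)).card * nn d) := by ring
      _ = _ := by rw [h4]; ring
  have hsum : ∑ d ∈ D, 4 / nn d * (q ^ 2 + 1 - (q ^ 2 + 1) / d) = 2 * q * (q - 1) := by
    have hpos : 0 < q ^ 2 * (q - 1) := by
      apply Nat.mul_pos
      · positivity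
      · omega
    apply Nat.eq_of_mul_eq_mul_left hpos
    rw [Finset.mul_sum, ← Finset.sum_congr rfl hterm, ← Finset.mul_sum, ← hXsum]
    calc 4 * X.card = 2 * (2 * X.card) := by ring
      _ = 2 * (q ^ 3 * (q - 1) ^ 2) := by rw [hX2]
      _ = q ^ 2 * (q - 1) * (2 * q * (q - 1)) := by ring
  -- coprimality and primes
  have hDc : ∀ d ∈ D, d ∣ q ^ 2 + 1 ∧ 3 ≤ d ∧ Nat.Coprime d ((q ^ 2 + 1) / d) := by
    intro d hd
    refine ⟨hdN d hd, hd3 d hd, ?_⟩
    have := coprime_cent hm hF (hrep d hd).1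
    rwa [← cw_def, (hrep d hd).2, hFq] at this
  have hcop : ∀ d ∈ D, ∀ d' ∈ D, d ≠ d' → Nat.Coprime d d' := by
    intro d hd d' hd' hne
    apply Nat.coprime_of_dvd
    intro p hp h1 h2
    apply hne
    obtain ⟨hf, hw⟩ := hrep d hd
    obtain ⟨hf', hw'⟩ := hrep d' hd'
    have h1' : p ∣ Nat.card (Subgroup.centralizer ({rep d} : Set (Cfsg.Sz F m))) := by
      rw [← cw_def, hw]; exact h1
    have h2' : p ∣ Nat.card (Subgroup.centralizer ({rep d'} : Set (Cfsg.Sz F m))) := by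
      rw [← cw_def, hw']; exact h2
    obtain ⟨z, hz⟩ := conj_of_common_prime hm hF hf hf' hp h1' h2'
    have := card_eq_of_conj _ _ z hz
    rw [← cw_def, ← cw_def, hw, hw'] at this
    exact this.symm
  have hprime : ∀ p : ℕ, p.Prime → p ∣ q ^ 2 + 1 → ∃ d ∈ D, p ∣ d := by
    intro p hp hpq
    rw [← hFq] at hpq
    obtain ⟨g, hg, hpg⟩ := exists_fpf_of_prime hm hF hp hpq
    exact ⟨cw g, hDmem g hg, hpg⟩
  rw [hq] at hDc hprime hsum
  obtain ⟨⟨k1, k2⟩, hall⟩ := suzuki_arith m hm D (fun d => 4 / nn d) hDc hcop hprime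
    (fun d hd => (hc d hd).1) hsum
  refine ⟨fun g hg => (hall (cw g) (hDmem g hg)).1, ?_⟩
  intro k hk
  have hkD : k ∈ D := by
    rcases hk with rfl | rfl
    · exact k1
    · exact k2
  obtain ⟨hf, hw⟩ := hrep k hkD
  refine ⟨rep k, hf, hw, ?_⟩
  rw [(hnn k hkD).2]
  have h1 := (hall k hkD).2
  have h2 := (hc k hkD).2
  rw [h1, one_mul] at h2
  rw [h2]

end Cfsg.Agent.helper11.Sz
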