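import Cfsg.Agent.Lib_helper11_Sz20

set_option autoImplicit false

namespace Cfsg.Agent.helper11.Sz

open Matrix Projectivization Cfsg.Agent.S0326 Cfsg.Agent.S0327

variable {F : Type*} [Field F] [CharP F 2] [Fintype F] {m : ℕ}

theorem pow_two_pow_eq_one (k : F) (h : k ^ 2 ^ m = 1) : k = 1 := by
  apply th_injective (F := F) (m := m)
  rw [th_apply, th_apply, pow_succ, pow_mul, h, one_pow, one_pow]

theorem pow_two_pow_succ_eq_one (hF : Fintype.card F = 2 ^ (2 * m + 1)) (k : F)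
    (h : k ^ (2 ^ m + 1) = 1) : k = 1 := by
  have hk0 : k ≠ 0 := by
    rintro rfl
    rw [zero_pow (Nat.succ_ne_zero _)] at h
    exact zero_ne_one h
  have h1 := FiniteField.pow_card_sub_one_eq_one k hk0
  have e : Fintype.card F - 1 = (2 ^ m + 1) * (2 * (2 ^ m - 1)) + 1 := by
    rw [hF]
    have h2 : 2 ^ (2 * m + 1) = 2 * (2 ^ m * 2 ^ m) := by
      rw [pow_succ, two_mul, pow_add]; ring
    have h3 : 1 ≤ 2 ^ m := Nat.one_le_two_pow
    rw [h2]
    obtain ⟨a, ha⟩ : ∃ a, 2 ^ m = a + 1 := ⟨2 ^ m - 1, by omega⟩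
    rw [ha]
    have : a + 1 - 1 = a := by omega
    rw [this]
    have h4 : 2 * ((a + 1) * (a + 1)) = (a + 1 + 1) * (2 * a) + 1 + 1 := by ring
    rw [h4]
    omega
  rw [e, pow_succ, pow_mul, h, one_pow, one_mul] at h1
  exact h1

/-- a diagonal element `H(κ)`, `κ ≠ 1`, fixes no nonzero vector -/
theorem Hm_no_fixed (hF : Fintype.card F = 2 ^ (2 * m + 1)) (k : Fˣ) (hk : k ≠ 1)
    (w : Fin 4 → F) (hw : Hm m (k : F) *ᵥ w = w) : w = 0 := by
  have hk1 : (k : F) ≠ 1 := fun h => hk (Units.ext h)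
  have hk1' : ((k : F))⁻¹ ≠ 1 := fun h => hk1 (by rw [← inv_inv (k : F), h, inv_one])
  have key : ∀ i : Fin 4, (![(k : F) ^ (2 ^ m + 1), (k : F) ^ 2 ^ m, ((k : F)⁻¹) ^ 2 ^ m,
      ((k : F)⁻¹) ^ (2 ^ m + 1)] i) * w i = w i := by
    intro i
    have := congrFun hw i
    rw [Hm, Matrix.mulVec_diagonal] at this
    exact this
  funext i
  have hi := key i
  have hne : ![(k : F) ^ (2 ^ m + 1), (k : F) ^ 2 ^ m, ((k : F)⁻¹) ^ 2 ^ m,
      ((k : F)⁻¹) ^ (2 ^ m + 1)] i ≠ 1 := by
    fin_cases i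
    · exact fun h => hk1 (pow_two_pow_succ_eq_one hF _ h)
    · exact fun h => hk1 (pow_two_pow_eq_one _ h)
    · exact fun h => hk1' (pow_two_pow_eq_one _ h)
    · exact fun h => hk1' (pow_two_pow_succ_eq_one hF _ h)
  by_contra hwi
  apply hne
  have : (![(k : F) ^ (2 ^ m + 1), (k : F) ^ 2 ^ m, ((k : F)⁻¹) ^ 2 ^ m,
      ((k : F)⁻¹) ^ (2 ^ m + 1)] i) * w i = 1 * w i := by rw [hi, one_mul]
  exact mul_right_cancel₀ hwi this

/-- the underlying matrix of an element of the Suzuki group -/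
def matOf (g : Cfsg.Sz F m) : Matrix (Fin 4) (Fin 4) F :=
  ((g : SpecialLinearGroup (Fin 4) F) : Matrix (Fin 4) (Fin 4) F)

theorem matOf_mul (g h : Cfsg.Sz F m) : matOf (g * h) = matOf g * matOf h := rfl

theorem matOf_one : matOf (1 : Cfsg.Sz F m) = 1 := rfl

theorem matOf_pow (g : Cfsg.Sz F m) (n : ℕ) : matOf (g ^ n) = matOf g ^ n := by
  induction n with
  | zero => rw [pow_zero, pow_zero, matOf_one]
  | succ n ih => rw [pow_succ, pow_succ, matOf_mul, ih]

theorem matOf_injective : Function.Injective (matOf (F := F) (m := m)) := by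
  intro a b h
  exact Subtype.ext (Subtype.ext h)

theorem matOf_hq (hF : Fintype.card F = 2 ^ (2 * m + 1)) (k : Fˣ) :
    matOf (hq (m := m) hF k) = Hm m (k : F) := rfl

/-- an element of odd prime order of the Suzuki group fixes no nonzero vector -/
theorem no_fixed_vector (hm : 1 ≤ m) (hF : Fintype.card F = 2 ^ (2 * m + 1))
    (g : Cfsg.Sz F m) {p : ℕ} (hp : p.Prime) (hp2 : p ≠ 2) (hg : orderOf g = p)
    (v : Fin 4 → F) (hv : matOf g *ᵥ v = v) : v = 0 := by
  haveI : Fact p.Prime := ⟨hp⟩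
  have hg1 : g ≠ 1 := by
    rintro rfl
    rw [orderOf_one] at hg
    exact hp.one_lt.ne hg
  by_cases hfp : IsFpf g
  · have hd : orderOf g ∣ Nat.card (Subgroup.centralizer ({g} : Set (Cfsg.Sz F m))) := by
      have h1 : g ∈ Subgroup.centralizer ({g} : Set (Cfsg.Sz F m)) :=
        Subgroup.mem_centralizer_singleton_iff.mpr rfl
      have h2 := orderOf_dvd_natCard (⟨g, h1⟩ : Subgroup.centralizer ({g} : Set (Cfsg.Sz F m)))
      rwa [Subgroup.orderOf_mk] at h2
    rw [hg] at hd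
    obtain ⟨-, hpd⟩ := prime_dvd_cent hm hF hfp hp hd
    have hA : matOf g ^ p = 1 := by
      rw [← matOf_pow, ← hg, pow_orderOf_eq_one, matOf_one]
    have hA1 : matOf g ≠ 1 := fun h => hg1 (matOf_injective (by rw [h, matOf_one]))
    rcases invariant_eq_bot_or_top hp2 hpd (matOf g) hA hA1 (fixSub (matOf g))
      (fun w hw => by
        rw [mem_fixSub] at hw ⊢
        rw [hw, hw]) with h | h
    · have : v ∈ fixSub (matOf g) := hv
      rw [h, Submodule.mem_bot] at this
      exact this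
    · exfalso
      apply hA1
      ext i j
      have : Pi.single j 1 ∈ fixSub (matOf g) := by rw [h]; trivial
      rw [mem_fixSub] at this
      have := congrFun this i
      rw [Matrix.mulVec_single_one] at this
      rw [Matrix.one_apply]
      rw [show matOf g i j = (matOf g).col j i from rfl, this, Pi.single_apply]
  · unfold IsFpf at hfp
    push Not at hfp
    obtain ⟨y, hy⟩ := hfp
    obtain ⟨o, rfl⟩ := exists_pt y
    obtain ⟨h, hh, hho⟩ := exists_smul_inf_eq (m := m) hF o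
    let h' : Cfsg.Sz F m := ⟨h, hh⟩
    have hh' : h' • pt (F := F) m none = pt m o := (smul_pt_eq_iff _ _ _).mpr hho
    have hfix : (h'⁻¹ * g * h') • pt (F := F) m none = pt m none := by
      rw [mul_smul, mul_smul, hh', hy, ← hh', inv_smul_smul]
    have hfix' : ((h'⁻¹ * g * h' : Cfsg.Sz F m) : SpecialLinearGroup (Fin 4) F) • param (F := F) m none
        = param m none := (smul_pt_eq_iff _ _ _).mp hfix
    obtain ⟨a, b, k, hk⟩ := stab_inf' hm hF _ hfix'
    have hk1 : k ≠ 1 := by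
      rintro rfl
      rw [hq_one, mul_one] at hk
      have h4 : (h'⁻¹ * g * h') ^ 4 = 1 := by
        rw [hk]
        have e4 : ∀ z : Cfsg.Sz F m, z ^ 4 = (z * z) * (z * z) := fun z => by
          simp only [pow_succ, pow_zero, one_mul, mul_assoc]
        rw [e4, tq_sq hm hF, tq_zero_sq hm hF]
      have h5 : g ^ 4 = 1 := by
        have : g = h' * (h'⁻¹ * g * h') * h'⁻¹ := by group
        rw [this, conj_pow, h4]; group
      have h6 : p ∣ 4 := by rw [← hg]; exact orderOf_dvd_of_pow_eq_one h5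
      have h7 : p ∣ 2 := by
        have : (4 : ℕ) = 2 ^ 2 := rfl
        rw [this] at h6
        exact hp.dvd_of_dvd_pow h6
      exact hp2 ((Nat.prime_dvd_prime_iff_eq hp Nat.prime_two).mp h7)
    obtain ⟨t, k', hk'⟩ := exists_conj_hq hm hF a b k hk1
    rw [hk'] at hk
    have hg' : g = (h' * t) * hq hF k' * (h' * t)⁻¹ := by
      have : g = h' * (h'⁻¹ * g * h') * h'⁻¹ := by group
      rw [this, hk]; group
    have hk'1 : k' ≠ 1 := by
      rintro rfl
      rw [hq_one] at hg'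
      apply hg1
      rw [hg']; group
    have hw : Hm m (k' : F) *ᵥ (matOf (h' * t)⁻¹ *ᵥ v) = matOf (h' * t)⁻¹ *ᵥ v := by
      have e1 : matOf (h' * t)⁻¹ * matOf g = Hm m (k' : F) * matOf (h' * t)⁻¹ := by
        rw [← matOf_hq (m := m) hF, ← matOf_mul, ← matOf_mul, hg']
        congr 1
        group
      rw [Matrix.mulVec_mulVec, ← e1, ← Matrix.mulVec_mulVec, hv]
    have hz := Hm_no_fixed hF k' hk'1 _ hw
    have : v = matOf (h' * t) *ᵥ (matOf (h' * t)⁻¹ *ᵥ v) := by
      rw [Matrix.mulVec_mulVec, ← matOf_mul, mul_inv_cancel, matOf_one, Matrix.one_mulVec]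
    rw [this, hz, Matrix.mulVec_zero]

end Cfsg.Agent.helper11.Sz
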