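import Cfsg.Statements.S2240
import Cfsg.Agent.Lib_helper11_Sz16
import Cfsg.Agent.Lib_helper11_Sz17

set_option autoImplicit false
open Cfsg

namespace Cfsg.Agent.S2240

open Cfsg.Agent.helper11.Sz Cfsg.Agent.S0326 Cfsg.Agent.S0327 Matrix

section

variable {F : Type*} [Field F] [CharP F 2] [Fintype F] {m : ℕ}

/-- conjugation of a central element `T(0, c)` by an element of the Borel subgroup -/
theorem conj_tq_zero (hm : 1 ≤ m) (hF : Fintype.card F = 2 ^ (2 * m + 1)) (a₀ b₀ : F) (k : Fˣ)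
    (c : F) :
    tq hF a₀ b₀ * hq hF k * tq hF 0 c * (tq hF a₀ b₀ * hq hF k)⁻¹ =
      tq hF 0 (th F m k * k * c) := by
  have e3 : tq hF a₀ b₀ * hq hF k * tq hF 0 c * (tq hF a₀ b₀ * hq hF k)⁻¹ =
      tq hF a₀ b₀ * (hq hF k * tq hF 0 c * (hq hF k)⁻¹) * (tq hF a₀ b₀)⁻¹ := by group
  rw [e3, hq_tq_conj hm hF, tq_tq_conj hm hF]
  congr 1
  · rw [mul_zero]
  · rw [mul_zero, mul_zero, map_zero, zero_mul, add_zero, add_zero]

/-- an element conjugating a non-trivial `T(a, b)` into `Q` fixes `∞` -/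
theorem fix_of_conj_tq (hm : 1 ≤ m) (hF : Fintype.card F = 2 ^ (2 * m + 1)) (a b a' b' : F)
    (hab : ¬ (a = 0 ∧ b = 0)) (hab' : ¬ (a' = 0 ∧ b' = 0)) (x : Cfsg.Sz F m)
    (h : x * tq hF a' b' * x⁻¹ = tq hF a b) :
    ∃ (a₀ b₀ : F) (k : Fˣ), x = tq hF a₀ b₀ * hq hF k := by
  obtain ⟨o, ho⟩ := smul_mem_ovoid x.1 x.2 none
  have h1 : Ts m a b • param m o = param m o := by
    have e1 : (x * tq hF a' b' * x⁻¹ : Cfsg.Sz F m) • (x • pt (F := F) m none) =
        x • pt (F := F) m none := by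
      rw [← mul_smul, inv_mul_cancel_right, mul_smul]
      congr 1
      rw [smul_pt_eq_iff]
      exact Ts_smul_inf a' b'
    rw [h] at e1
    have e2 : x • pt (F := F) m none = pt m o := (smul_pt_eq_iff _ _ _).mpr ho
    rw [e2, smul_pt_eq_iff] at e1
    exact e1
  have ho' : o = none := (Ts_fix_iff hF a b hab o).mp h1
  rw [ho'] at ho
  exact stab_inf' hm hF x ho

end

/-- Elementary abelian TI-subgroups of the Suzuki group: let q = 2^(2m+1) with m ≥ 1, the group realised as the stabiliser in SL₄ of the Suzuki–Tits ovoid, and n ≥ 2. There is an elementary abelian 2-subgroup E of order 2^n that is a TI-subgroup (every conjugate of E meeting E nontrivially is E itself) if and only if n divides 2m + 1. -/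
theorem result {F : Type*} [Field F] [Fintype F] {m : ℕ} (hm : 1 ≤ m) (hF : Fintype.card F = 2 ^ (2 * m + 1)) (n : ℕ) (hn : 2 ≤ n) :
    (∃ E : Subgroup ↥(Cfsg.Sz F m), Cfsg.IsElementaryAbelian 2 E ∧ Nat.card ↥E = 2 ^ n ∧
      ∀ x : ↥(Cfsg.Sz F m), E ⊓ E.map (MulAut.conj x).toMonoidHom ≠ ⊥ → x ∈ Subgroup.normalizer (E : Set ↥(Cfsg.Sz F m))) ↔ n ∣ 2 * m + 1 := by
  haveI := Cfsg.Agent.helper11.Sz.charP_two hF
  haveI : Fact (Nat.Prime 2) := ⟨Nat.prime_two⟩
  have h2 : ∀ z : F, z + z = 0 := CharTwo.add_self_eq_zero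
  constructor
  · rintro ⟨E, ⟨hcomm, hexp⟩, hcard, hTI⟩
    have hP : IsPGroup 2 E := IsPGroup.of_card hcard
    obtain ⟨P, hEP⟩ := hP.exists_le_sylow
    obtain ⟨x₀, hx₀⟩ := exists_conj_tq hm hF P
    -- elements of `E`
    have hEelt : ∀ e ∈ E, ∃ b : F, e = x₀ * tq hF 0 b * x₀⁻¹ := by
      intro e he
      obtain ⟨a, b, rfl⟩ := (hx₀ e).mp (hEP he)
      have h1 := hexp _ he
      have e2 : (x₀ * tq hF a b * x₀⁻¹) ^ 2 = x₀ * (tq hF a b * tq hF a b) * x₀⁻¹ := by
        rw [pow_two]; group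
      rw [e2, tq_sq hm hF] at h1
      have h3 : tq hF 0 (th F m a * a) = 1 := by
        have := congrArg (fun z => x₀⁻¹ * z * x₀) h1
        simp only [mul_one, inv_mul_cancel] at this
        rw [← this]
        group
      have h4 := ((tq_eq_one_iff hm hF).mp h3).2
      have ha : a = 0 := by
        rcases mul_eq_zero.mp h4 with h | h
        · exact th_eq_zero.mp h
        · exact h
      exact ⟨b, by rw [ha]⟩
    have hmulE : ∀ b b' : F, x₀ * tq hF 0 (b + b') * x₀⁻¹ =
        (x₀ * tq hF 0 b * x₀⁻¹) * (x₀ * tq hF 0 b' * x₀⁻¹) := by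
      intro b b'
      have : tq hF 0 b * tq hF 0 b' = tq hF 0 (b + b') := by
        rw [tq_mul hm hF]
        congr 1
        · rw [add_zero]
        · rw [map_zero, zero_mul, add_zero]
      rw [← this]
      group
    let E' : AddSubgroup F :=
      { carrier := {b | x₀ * tq hF 0 b * x₀⁻¹ ∈ E}
        add_mem' := by
          intro b b' hb hb'
          show x₀ * tq hF 0 (b + b') * x₀⁻¹ ∈ E
          rw [hmulE]
          exact E.mul_mem hb hb'
        zero_mem' := by
          show x₀ * tq hF 0 0 * x₀⁻¹ ∈ E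
          rw [tq_zero hm hF, mul_one, mul_inv_cancel]
          exact E.one_mem
        neg_mem' := by
          intro b hb
          show x₀ * tq hF 0 (-b) * x₀⁻¹ ∈ E
          rw [CharTwo.neg_eq]
          exact hb }
    have hE'mem : ∀ b : F, b ∈ E' ↔ x₀ * tq hF 0 b * x₀⁻¹ ∈ E := fun b => Iff.rfl
    have e : E' ≃ E :=
      Equiv.ofBijective (fun b => ⟨x₀ * tq hF 0 b.1 * x₀⁻¹, b.2⟩) (by
        constructor
        · intro b b' h
          apply Subtype.ext
          have h1 : x₀ * tq hF 0 b.1 * x₀⁻¹ = x₀ * tq hF 0 b'.1 * x₀⁻¹ := congrArg Subtype.val h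
          have h3 : tq hF 0 b.1 = tq hF 0 b'.1 := by
            have l : ∀ t : Cfsg.Sz F m, x₀⁻¹ * (x₀ * t * x₀⁻¹) * x₀ = t := by intro t; group
            rw [← l (tq hF 0 b.1), h1, l]
          exact (tq_injective hF h3).2
        · rintro ⟨e, he⟩
          obtain ⟨b, hb⟩ := hEelt e he
          refine ⟨⟨b, ?_⟩, ?_⟩
          · rw [hE'mem, ← hb]; exact he
          · apply Subtype.ext
            exact hb.symm)
    have hcard' : Nat.card E' = 2 ^ n := by rw [Nat.card_congr e, hcard]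
    apply dvd_of_TI hF E' hcard' (by omega)
    intro l hl ⟨b, hb, hb0, hlb⟩ b₁ hb₁
    obtain ⟨c, hc⟩ := mul_th_surjective (m := m) hF l
    simp only at hc
    have hc0 : c ≠ 0 := by
      rintro rfl
      rw [zero_mul] at hc
      exact hl hc.symm
    set k : Fˣ := Units.mk0 c hc0 with hk
    have hkl : th F m (k : F) * (k : F) = l := by
      rw [hk, Units.val_mk0, mul_comm, hc]
    set x := x₀ * hq hF k * x₀⁻¹ with hx
    have hconj : ∀ c' : F, x * (x₀ * tq hF 0 c' * x₀⁻¹) * x⁻¹ = x₀ * tq hF 0 (l * c') * x₀⁻¹ := by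
      intro c'
      have e1 : x * (x₀ * tq hF 0 c' * x₀⁻¹) * x⁻¹ =
          x₀ * (hq hF k * tq hF 0 c' * (hq hF k)⁻¹) * x₀⁻¹ := by rw [hx]; group
      rw [e1, hq_tq_conj hm hF, mul_zero, hkl]
    have hne : E ⊓ E.map (MulAut.conj x).toMonoidHom ≠ ⊥ := by
      intro hbot
      have hmem : x₀ * tq hF 0 (l * b) * x₀⁻¹ ∈ E ⊓ E.map (MulAut.conj x).toMonoidHom := by
        rw [Subgroup.mem_inf]
        refine ⟨hlb, ?_⟩
        rw [Subgroup.mem_map]
        refine ⟨x₀ * tq hF 0 b * x₀⁻¹, hb, ?_⟩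
        show (MulAut.conj x) (x₀ * tq hF 0 b * x₀⁻¹) = _
        rw [MulAut.conj_apply, hconj]
      rw [hbot, Subgroup.mem_bot] at hmem
      have h3 : tq hF 0 (l * b) = 1 := by
        have := congrArg (fun z => x₀⁻¹ * z * x₀) hmem
        simp only [mul_one, inv_mul_cancel] at this
        rw [← this]
        group
      have := ((tq_eq_one_iff hm hF).mp h3).2
      exact (mul_ne_zero hl hb0) this
    have hnorm := hTI x hne
    rw [Subgroup.mem_normalizer_iff] at hnorm
    have := (hnorm _).mp hb₁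
    rw [hconj] at this
    exact this
  · intro hdvd
    obtain ⟨K, hK⟩ := exists_subfield_card hF (by omega : n ≠ 0) hdvd
    have htq0 : ∀ b b' : F, tq hF 0 b * tq hF 0 b' = tq hF 0 (b + b') := by
      intro b b'
      rw [tq_mul hm hF]
      congr 1
      · rw [add_zero]
      · rw [map_zero, zero_mul, add_zero]
    let E : Subgroup (Cfsg.Sz F m) :=
      { carrier := {g | ∃ b ∈ K, g = tq hF 0 b}
        mul_mem' := by
          rintro _ _ ⟨b, hb, rfl⟩ ⟨b', hb', rfl⟩
          exact ⟨b + b', K.add_mem hb hb', htq0 b b'⟩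
        one_mem' := ⟨0, K.zero_mem, (tq_zero hm hF).symm⟩
        inv_mem' := by
          rintro _ ⟨b, hb, rfl⟩
          refine ⟨b, hb, ?_⟩
          rw [tq_inv hm hF, map_zero, zero_mul, add_zero] }
    have hEmem : ∀ g : Cfsg.Sz F m, g ∈ E ↔ ∃ b ∈ K, g = tq hF 0 b := fun g => Iff.rfl
    refine ⟨E, ⟨⟨⟨?_⟩⟩, ?_⟩, ?_, ?_⟩
    · rintro ⟨_, b, hb, rfl⟩ ⟨_, b', hb', rfl⟩
      apply Subtype.ext
      show tq hF 0 b * tq hF 0 b' = tq hF 0 b' * tq hF 0 b
      rw [htq0, htq0, add_comm]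
    · rintro _ ⟨b, hb, rfl⟩
      rw [pow_two, tq_zero_sq hm hF]
    · have e : K ≃ E :=
        Equiv.ofBijective (fun b => ⟨tq hF 0 b.1, b.1, b.2, rfl⟩) (by
          constructor
          · intro b b' h
            apply Subtype.ext
            have h1 : tq hF 0 b.1 = tq hF 0 b'.1 := congrArg Subtype.val h
            exact (tq_injective hF h1).2
          · rintro ⟨_, b, hb, rfl⟩
            exact ⟨⟨b, hb⟩, rfl⟩)
      rw [← Nat.card_congr e, hK]
    · intro x hne
      rw [Subgroup.ne_bot_iff_exists_ne_one] at hne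
      obtain ⟨⟨g, hgmem⟩, hg⟩ := hne
      have hg' : g ≠ 1 := fun h => hg (Subtype.ext h)
      rw [Subgroup.mem_inf] at hgmem
      obtain ⟨hg1, hg2⟩ := hgmem
      obtain ⟨b, hb, rfl⟩ := hg1
      rw [Subgroup.mem_map] at hg2
      obtain ⟨_, ⟨b', hb', rfl⟩, hconj⟩ := hg2
      have hconj' : x * tq hF 0 b' * x⁻¹ = tq hF 0 b := hconj
      have hb0 : b ≠ 0 := by
        rintro rfl
        exact hg' (tq_zero hm hF)
      have hb'0 : b' ≠ 0 := by
        rintro rfl
        rw [tq_zero hm hF, mul_one, mul_inv_cancel] at hconj'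
        exact hg' hconj'.symm
      obtain ⟨a₀, b₀, k, rfl⟩ := fix_of_conj_tq hm hF 0 b 0 b' (fun h => hb0 h.2)
        (fun h => hb'0 h.2) x hconj'
      rw [conj_tq_zero hm hF] at hconj'
      have hl : th F m k * k * b' = b := (tq_injective hF hconj').2
      have hlK : th F m (k : F) * (k : F) ∈ K := by
        have : th F m (k : F) * (k : F) = b / b' := by
          rw [← hl, mul_div_assoc, div_self hb'0, mul_one]
        rw [this]
        exact K.div_mem hb hb'
      have hl0 : th F m (k : F) * (k : F) ≠ 0 :=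
        mul_ne_zero (fun h => k.ne_zero (th_eq_zero.mp h)) k.ne_zero
      rw [Subgroup.mem_normalizer_iff]
      intro h
      constructor
      · rintro ⟨c, hc, rfl⟩
        rw [conj_tq_zero hm hF]
        exact ⟨_, K.mul_mem hlK hc, rfl⟩
      · rintro ⟨c, hc, hh⟩
        have e1 : tq hF a₀ b₀ * hq hF k * tq hF 0 ((th F m k * k)⁻¹ * c) *
            (tq hF a₀ b₀ * hq hF k)⁻¹ = tq hF 0 c := by
          rw [conj_tq_zero hm hF, ← mul_assoc, mul_inv_cancel₀ hl0, one_mul]
        rw [← e1] at hh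
        have e2 : h = tq hF 0 ((th F m k * k)⁻¹ * c) := by
          have l : ∀ t : Cfsg.Sz F m, (tq hF a₀ b₀ * hq hF k)⁻¹ *
              (tq hF a₀ b₀ * hq hF k * t * (tq hF a₀ b₀ * hq hF k)⁻¹) *
                (tq hF a₀ b₀ * hq hF k) = t := by intro t; group
          rw [← l h, hh, l]
        rw [e2]
        exact ⟨_, K.mul_mem (K.inv_mem hlK) hc, rfl⟩

end Cfsg.Agent.S2240
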