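import Cfsg.Statements.S2238
import Cfsg.Agent.Lib_helper11_Sz21
import Cfsg.Agent.S2240

set_option autoImplicit false
open Cfsg

namespace Cfsg.Agent.S2238

open Cfsg.Agent.helper11.Sz Cfsg.Agent.S0326 Cfsg.Agent.S0327

/-- a cyclic subgroup containing `g` centralises `g` -/
theorem cyclic_le_centralizer {G : Type*} [Group G] (U : Subgroup G) [IsCyclic U] (g : G)
    (hg : g ∈ U) : U ≤ Subgroup.centralizer ({g} : Set G) := by
  intro c hc
  rw [Subgroup.mem_centralizer_singleton_iff]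
  obtain ⟨z, hz⟩ := IsCyclic.exists_generator (α := U)
  obtain ⟨i, hi⟩ := Subgroup.mem_zpowers_iff.mp (hz ⟨c, hc⟩)
  obtain ⟨j, hj⟩ := Subgroup.mem_zpowers_iff.mp (hz ⟨g, hg⟩)
  have : (⟨c, hc⟩ : U) * ⟨g, hg⟩ = ⟨g, hg⟩ * ⟨c, hc⟩ := by
    rw [← hi, ← hj, ← zpow_add, ← zpow_add, add_comm]
  exact congrArg Subtype.val this

/-- an element of a 2-group and of a group of odd order is trivial -/
theorem eq_one_of_two_group_of_odd {G : Type*} [Group G] (g : G) (k n : ℕ)
    (h1 : g ^ 2 ^ k = 1) (h2 : g ^ n = 1) (hn : ¬ 2 ∣ n) : g = 1 := by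
  have d1 : orderOf g ∣ 2 ^ k := orderOf_dvd_of_pow_eq_one h1
  have d2 : orderOf g ∣ n := orderOf_dvd_of_pow_eq_one h2
  have hc : Nat.Coprime (2 ^ k) n :=
    Nat.Coprime.pow_left k ((Nat.Prime.coprime_iff_not_dvd Nat.prime_two).mpr hn)
  have := Nat.dvd_gcd d1 d2
  rw [hc] at this
  exact orderOf_eq_one_iff.mp (Nat.dvd_one.mp this)

/-- The partition of the Suzuki group: with q = 2^(2m+1), m ≥ 1, r = 2^m and the Suzuki group realised as the stabiliser in SL₄ of the Suzuki–Tits ovoid, every non-identity element lies in exactly one subgroup that is either a Sylow 2-subgroup or a cyclic subgroup of order q − 1, q + 2r + 1 or q − 2r + 1. -/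
theorem result {F : Type*} [Field F] [Fintype F] {m : ℕ} (hm : 1 ≤ m) (hF : Fintype.card F = 2 ^ (2 * m + 1)) (g : ↥(Cfsg.Sz F m)) (hg : g ≠ 1) :
    ∃! U : Subgroup ↥(Cfsg.Sz F m), ((∃ P : Sylow 2 ↥(Cfsg.Sz F m), U = (P : Subgroup ↥(Cfsg.Sz F m))) ∨
      (IsCyclic ↥U ∧ Nat.card ↥U ∈ ({2 ^ (2 * m + 1) - 1, 2 ^ (2 * m + 1) + 2 ^ (m + 1) + 1, 2 ^ (2 * m + 1) - 2 ^ (m + 1) + 1} : Set ℕ))) ∧ g ∈ U := by
  haveI := Cfsg.Agent.helper11.Sz.charP_two hF
  haveI : Fact (Nat.Prime 2) := ⟨Nat.prime_two⟩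
  -- arithmetic
  obtain ⟨q', hq'⟩ : ∃ q' : ℕ, q' = 2 ^ (2 * m) := ⟨_, rfl⟩
  obtain ⟨r', hr'⟩ : ∃ r' : ℕ, r' = 2 ^ m := ⟨_, rfl⟩
  have hq2 : 2 ^ (2 * m + 1) = 2 * q' := by rw [hq', pow_succ, mul_comm]
  have hr2 : 2 ^ (m + 1) = 2 * r' := by rw [hr', pow_succ, mul_comm]
  have hr'2 : 2 ≤ r' := by
    rw [hr']
    calc 2 = 2 ^ 1 := by norm_num
      _ ≤ 2 ^ m := Nat.pow_le_pow_right (by norm_num) hm
  have hrq' : 2 * r' ≤ q' := by
    rw [hq', hr', ← pow_succ']
    exact Nat.pow_le_pow_right (by norm_num) (by omega)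
  have hFq : Fintype.card F = 2 * q' := by rw [hF, hq2]
  simp only [Set.mem_insert_iff, Set.mem_singleton_iff]
  rw [hq2, hr2]
  obtain ⟨main1, main2⟩ := main hm hF
  rw [hq2, hr2] at main1 main2
  -- the two exceptional orders divide `q² + 1`
  have hkdvd : ∀ k : ℕ, (k = 2 * q' + 2 * r' + 1 ∨ k = 2 * q' - 2 * r' + 1) →
      k ∣ Fintype.card F ^ 2 + 1 := by
    intro k hk
    obtain ⟨g', hf', hw', -⟩ := main2 k hk
    rw [← hw', cw_def]
    exact card_cent_dvd hm hF hf'
  -- no divisor `> 1` of `q² + 1` divides `q - 1`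
  have hnodvd : ∀ k : ℕ, 1 < k → k ∣ Fintype.card F ^ 2 + 1 → ¬ k ∣ 2 * q' - 1 := by
    intro k hk1 hk hk'
    obtain ⟨p, hp, hpk⟩ := Nat.exists_prime_and_dvd (by omega : k ≠ 1)
    apply not_dvd_both hF hp (hpk.trans hk)
    rw [hFq]
    exact dvd_mul_of_dvd_right (hpk.trans hk') _
  by_cases hfix : ∃ y : Cfsg.suzukiOvoid F m, g • y = y
  · obtain ⟨y, hy⟩ := hfix
    obtain ⟨o, rfl⟩ := exists_pt y
    obtain ⟨x₀, hx₀, hx₀o⟩ := exists_smul_inf_eq hF o
    set z : Cfsg.Sz F m := ⟨x₀, hx₀⟩ with hz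
    have hzo : z • pt (F := F) m none = pt m o := (smul_pt_eq_iff _ _ _).mpr hx₀o
    have hfix' : (z⁻¹ * g * z) • pt (F := F) m none = pt m none := by
      rw [mul_smul, mul_smul, hzo, hy, ← hzo, inv_smul_smul]
    rw [smul_pt_eq_iff] at hfix'
    obtain ⟨a, b, k, hk⟩ := stab_inf' hm hF _ hfix'
    have hgz : g = z * (tq hF a b * hq hF k) * z⁻¹ := by rw [← hk]; group
    by_cases hk1 : k = 1
    · -- a 2-element
      rw [hk1, hq_one, mul_one] at hgz
      have hab : ¬ (a = 0 ∧ b = 0) := by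
        rintro ⟨rfl, rfl⟩
        apply hg
        rw [hgz, tq_zero hm hF]
        group
      have hg4 : g ^ 2 ^ 2 = 1 := by
        have e4 : ∀ w : Cfsg.Sz F m, w ^ 2 ^ 2 = (w * w) * (w * w) := by
          intro w
          rw [show (2 : ℕ) ^ 2 = 2 + 2 from rfl, pow_add, pow_two]
        have e5 : (z * tq hF a b * z⁻¹) * (z * tq hF a b * z⁻¹) =
            z * (tq hF a b * tq hF a b) * z⁻¹ := by group
        rw [hgz, e4, e5, tq_sq hm hF]
        have e6 : z * tq hF 0 (th F m a * a) * z⁻¹ * (z * tq hF 0 (th F m a * a) * z⁻¹) =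
            z * (tq hF 0 (th F m a * a) * tq hF 0 (th F m a * a)) * z⁻¹ := by group
        rw [e6, tq_zero_sq hm hF]
        group
      have hgP : g ∈ ((z • Qsyl hm hF : Sylow 2 (Cfsg.Sz F m)) : Subgroup (Cfsg.Sz F m)) := by
        rw [Sylow.coe_subgroup_smul, Subgroup.mem_smul_pointwise_iff_exists, coe_Qsyl]
        exact ⟨tq hF a b, tq_mem_Qs hm hF a b, hgz.symm⟩
      refine ⟨((z • Qsyl hm hF : Sylow 2 (Cfsg.Sz F m)) : Subgroup (Cfsg.Sz F m)),
        ⟨Or.inl ⟨_, rfl⟩, hgP⟩, ?_⟩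
      rintro U' ⟨hU', hgU'⟩
      rcases hU' with ⟨P', rfl⟩ | ⟨hcyc, hcard⟩
      · -- another Sylow 2-subgroup containing `g`
        obtain ⟨x', hx'⟩ := exists_conj_tq hm hF P'
        obtain ⟨a', b', hg'⟩ := (hx' g).mp hgU'
        have hab' : ¬ (a' = 0 ∧ b' = 0) := by
          rintro ⟨rfl, rfl⟩
          apply hg
          rw [hg', tq_zero hm hF]
          group
        have hconj : (z⁻¹ * x') * tq hF a' b' * (z⁻¹ * x')⁻¹ = tq hF a b := by
          calc (z⁻¹ * x') * tq hF a' b' * (z⁻¹ * x')⁻¹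
              = z⁻¹ * (x' * tq hF a' b' * x'⁻¹) * z := by group
            _ = z⁻¹ * (z * tq hF a b * z⁻¹) * z := by rw [← hg', hgz]
            _ = tq hF a b := by group
        obtain ⟨a₀, b₀, k₀, hn⟩ := Cfsg.Agent.S2240.fix_of_conj_tq hm hF a b a' b' hab hab' _ hconj
        have hx'z : x' = z * (tq hF a₀ b₀ * hq hF k₀) := by rw [← hn]; group
        have hle : (P' : Subgroup (Cfsg.Sz F m)) ≤
            ((z • Qsyl hm hF : Sylow 2 (Cfsg.Sz F m)) : Subgroup (Cfsg.Sz F m)) := by
          intro h hh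
          obtain ⟨c, d, hcd⟩ := (hx' h).mp hh
          rw [Sylow.coe_subgroup_smul, Subgroup.mem_smul_pointwise_iff_exists, coe_Qsyl]
          refine ⟨(tq hF a₀ b₀ * hq hF k₀) * tq hF c d * (tq hF a₀ b₀ * hq hF k₀)⁻¹, ?_, ?_⟩
          · have e : (tq hF a₀ b₀ * hq hF k₀) * tq hF c d * (tq hF a₀ b₀ * hq hF k₀)⁻¹ =
                tq hF a₀ b₀ * (hq hF k₀ * tq hF c d * (hq hF k₀)⁻¹) * (tq hF a₀ b₀)⁻¹ := by group
            rw [e, hq_tq_conj hm hF, tq_tq_conj hm hF]
            exact tq_mem_Qs hm hF _ _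
          · rw [hcd, hx'z]
            show z * ((tq hF a₀ b₀ * hq hF k₀) * tq hF c d * (tq hF a₀ b₀ * hq hF k₀)⁻¹) * z⁻¹ = _
            group
        have hcard : Nat.card ((z • Qsyl hm hF : Sylow 2 (Cfsg.Sz F m)) : Subgroup (Cfsg.Sz F m)) ≤
            Nat.card (P' : Subgroup (Cfsg.Sz F m)) := by
          rw [Sylow.card_eq_multiplicity, Sylow.card_eq_multiplicity]
        exact Subgroup.eq_of_le_of_card_ge hle hcard
      · -- a cyclic group of odd order cannot contain `g`
        exfalso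
        apply hg
        have hgn : g ^ Nat.card U' = 1 := by
          have := pow_card_eq_one' (G := U') (x := ⟨g, hgU'⟩)
          exact congrArg Subtype.val this
        apply eq_one_of_two_group_of_odd g 2 (Nat.card U') hg4 hgn
        rcases hcard with h | h | h <;> rw [h] <;> omega
    · -- an element of a conjugate of the torus `H`
      obtain ⟨t, k', ht⟩ := exists_conj_hq hm hF a b k hk1
      rw [ht] at hgz
      have hgy : g = (z * t) * hq hF k' * (z * t)⁻¹ := by rw [hgz]; group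
      have hk'1 : k' ≠ 1 := by
        rintro rfl
        apply hg
        rw [hgy, hq_one]
        group
      set y : Cfsg.Sz F m := z * t with hy
      let f : Fˣ →* Cfsg.Sz F m :=
        { toFun := fun k => y * hq hF k * y⁻¹
          map_one' := by rw [hq_one]; group
          map_mul' := fun k₁ k₂ => by rw [← hq_mul hm hF]; group }
      have hf : Function.Injective f := by
        intro k₁ k₂ h
        have h' : hq hF k₁ = hq (m := m) hF k₂ := by
          have h1 : y * hq hF k₁ * y⁻¹ = y * hq hF k₂ * y⁻¹ := h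
          calc hq hF k₁ = y⁻¹ * (y * hq hF k₁ * y⁻¹) * y := by group
            _ = y⁻¹ * (y * hq hF k₂ * y⁻¹) * y := by rw [h1]
            _ = hq hF k₂ := by group
        exact Hs_injective hF (congrArg Subtype.val h')
      have hcyc : IsCyclic f.range :=
        isCyclic_of_surjective f.rangeRestrict f.rangeRestrict_surjective
      have hcardU : Nat.card f.range = 2 * q' - 1 := by
        rw [← Nat.card_congr (MonoidHom.ofInjective hf).toEquiv, Nat.card_units,
          Nat.card_eq_fintype_card, hFq]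
      have hgU : g ∈ f.range := ⟨k', hgy.symm⟩
      refine ⟨f.range, ⟨Or.inr ⟨hcyc, Or.inl hcardU⟩, hgU⟩, ?_⟩
      rintro U' ⟨hU', hgU'⟩
      have hgn : g ^ (2 * q' - 1) = 1 := by
        have := pow_card_eq_one' (G := f.range) (x := ⟨g, hgU⟩)
        rw [hcardU] at this
        exact congrArg Subtype.val this
      rcases hU' with ⟨P', rfl⟩ | ⟨hcyc', hcard'⟩
      · exfalso
        apply hg
        obtain ⟨j, hj⟩ := P'.2 ⟨g, hgU'⟩
        have hj' : g ^ 2 ^ j = 1 := congrArg Subtype.val hj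
        exact eq_one_of_two_group_of_odd g j (2 * q' - 1) hj' hgn (by omega)
      · haveI := hcyc'
        have hle : U' ≤ f.range := by
          intro c hc
          have hcg := cyclic_le_centralizer U' g hgU' hc
          rw [Subgroup.mem_centralizer_singleton_iff, hgy] at hcg
          obtain ⟨k₁, h1⟩ := centralizer_hq hm hF k' hk'1 _ (conj_commute y _ c hcg)
          refine ⟨k₁, ?_⟩
          show y * hq hF k₁ * y⁻¹ = c
          rw [← h1]
          group
        have hdvd : Nat.card U' ∣ 2 * q' - 1 := by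
          rw [← hcardU]
          exact Subgroup.card_dvd_of_le hle
        rcases hcard' with h | h | h
        · exact Subgroup.eq_of_le_of_card_ge hle (by rw [hcardU, h])
        · exfalso
          rw [h] at hdvd
          exact hnodvd _ (by omega) (hkdvd _ (Or.inl rfl)) hdvd
        · exfalso
          rw [h] at hdvd
          exact hnodvd _ (by omega) (hkdvd _ (Or.inr rfl)) hdvd
  · -- fixed-point-free elements
    push Not at hfix
    have hf : IsFpf g := hfix
    have hgC : g ∈ Subgroup.centralizer ({g} : Set (Cfsg.Sz F m)) :=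
      Subgroup.mem_centralizer_singleton_iff.mpr rfl
    have hw := main1 g hf
    rw [cw_def] at hw
    have hCdvd := card_cent_dvd hm hF hf
    have hodd : ¬ 2 ∣ Nat.card (Subgroup.centralizer ({g} : Set (Cfsg.Sz F m))) :=
      fun h => odd_card hF (h.trans hCdvd)
    refine ⟨Subgroup.centralizer {g}, ⟨Or.inr ⟨cyclic_cent hm hF hf, Or.inr hw⟩, hgC⟩, ?_⟩
    rintro U' ⟨hU', hgU'⟩
    have hgn : g ^ Nat.card (Subgroup.centralizer ({g} : Set (Cfsg.Sz F m))) = 1 := by
      have := pow_card_eq_one' (G := Subgroup.centralizer ({g} : Set (Cfsg.Sz F m)))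
        (x := ⟨g, hgC⟩)
      exact congrArg Subtype.val this
    rcases hU' with ⟨P', rfl⟩ | ⟨hcyc', hcard'⟩
    · exfalso
      apply hg
      obtain ⟨j, hj⟩ := P'.2 ⟨g, hgU'⟩
      have hj' : g ^ 2 ^ j = 1 := congrArg Subtype.val hj
      exact eq_one_of_two_group_of_odd g j _ hj' hgn hodd
    · haveI := hcyc'
      have hle : U' ≤ Subgroup.centralizer ({g} : Set (Cfsg.Sz F m)) :=
        cyclic_le_centralizer U' g hgU'
      have hdvd := Subgroup.card_dvd_of_le hle
      rcases hcard' with h | h | h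
      · exfalso
        rw [h] at hdvd
        exact hnodvd (2 * q' - 1) (by omega) (hdvd.trans hCdvd) (dvd_refl _)
      · rcases hw with h' | h'
        · exact Subgroup.eq_of_le_of_card_ge hle (by rw [h, h'])
        · exfalso
          rw [h, h'] at hdvd
          have := Nat.le_of_dvd (by omega) hdvd
          omega
      · rcases hw with h' | h'
        · exfalso
          rw [h, h'] at hdvd
          -- `q - r + 1 ∣ q + r + 1` forces `q - r + 1 ∣ 4 r'`
          have h4 : 2 * q' - 2 * r' + 1 ∣ 4 * r' := by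
            have e : 2 * q' + 2 * r' + 1 = (2 * q' - 2 * r' + 1) + 4 * r' := by omega
            rw [e] at hdvd
            exact (Nat.dvd_add_right (dvd_refl _)).mp hdvd
          have h5 : 4 * r' = 2 ^ (m + 2) := by rw [hr']; ring
          rw [h5] at h4
          have hc : Nat.Coprime (2 * q' - 2 * r' + 1) (2 ^ (m + 2)) := by
            apply Nat.Coprime.pow_right
            rw [Nat.coprime_comm, Nat.Prime.coprime_iff_not_dvd Nat.prime_two]
            omega
          have := Nat.dvd_gcd (dvd_refl _) h4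
          rw [hc] at this
          have := Nat.dvd_one.mp this
          omega
        · exact Subgroup.eq_of_le_of_card_ge hle (by rw [h, h'])

end Cfsg.Agent.S2238
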