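import Cfsg.Statements.S3893
import Cfsg.Agent.Lib_helper11_Sz16
import Cfsg.Agent.Lib_helper11_NilCover

set_option autoImplicit false
open Cfsg

namespace Cfsg.Agent.S3893

open Cfsg.Agent.helper11.Sz Cfsg.Agent.S0326 Matrix Subgroup

variable {F : Type*} [Field F] [CharP F 2] [Fintype F] {m : ℕ}

/-- `H` as a homomorphism -/
noncomputable def hqHom (hm : 1 ≤ m) (hF : Fintype.card F = 2 ^ (2 * m + 1)) : Fˣ →* Cfsg.Sz F m where
  toFun := hq hF
  map_one' := hq_one hF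
  map_mul' := fun a b => (hq_mul hm hF a b).symm

theorem hq_mem_zpowers (hm : 1 ≤ m) (hF : Fintype.card F = 2 ^ (2 * m + 1)) (ν : Fˣ)
    (hν : ∀ k : Fˣ, k ∈ zpowers ν) (k : Fˣ) : hq hF k ∈ zpowers (hq (m := m) hF ν) := by
  obtain ⟨j, rfl⟩ := Subgroup.mem_zpowers_iff.mp (hν k)
  rw [Subgroup.mem_zpowers_iff]
  exact ⟨j, (map_zpow (hqHom hm hF) ν j).symm⟩

theorem eq_hq_of_mem_zpowers (hm : 1 ≤ m) (hF : Fintype.card F = 2 ^ (2 * m + 1)) (ν : Fˣ)
    (c : Cfsg.Sz F m) (hc : c ∈ zpowers (hq (m := m) hF ν)) : ∃ k : Fˣ, c = hq hF k := by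
  obtain ⟨j, rfl⟩ := Subgroup.mem_zpowers_iff.mp hc
  exact ⟨ν ^ j, (map_zpow (hqHom hm hF) ν j).symm⟩

theorem hq_injective (hF : Fintype.card F = 2 ^ (2 * m + 1)) {k k' : Fˣ}
    (h : hq (m := m) hF k = hq hF k') : k = k' :=
  Hs_injective hF (congrArg Subtype.val h)

theorem Hs_fix_cases (hF : Fintype.card F = 2 ^ (2 * m + 1)) (k : Fˣ) (hk : k ≠ 1)
    (o : Option (F × F)) (h : Hs m k • param m o = param m o) : o = none ∨ o = some (0, 0) := by
  rcases o with _ | ⟨x, y⟩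
  · left; rfl
  · right
    by_contra hne
    apply hk
    apply Hs_fix_imp hF k x y _ h
    rintro ⟨rfl, rfl⟩
    exact hne rfl

/-- elements of the normaliser of the torus preserve `{∞, 0}` -/
theorem normalizer_cases (hm : 1 ≤ m) (hF : Fintype.card F = 2 ^ (2 * m + 1)) (ν : Fˣ) (hν1 : ν ≠ 1)
    (g : Cfsg.Sz F m) (hg : g ∈ normalizer (zpowers (hq (m := m) hF ν) : Set (Cfsg.Sz F m))) :
    (∃ k : Fˣ, g = hq hF k) ∨ (∃ k : Fˣ, g = wq hF * hq hF k) := by
  have h1 : g * hq hF ν * g⁻¹ ∈ zpowers (hq (m := m) hF ν) :=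
    (Subgroup.mem_normalizer_iff.mp hg _).mp (mem_zpowers _)
  obtain ⟨k, hk⟩ := eq_hq_of_mem_zpowers hm hF ν _ h1
  have hk1 : k ≠ 1 := by
    rintro rfl
    rw [hq_one] at hk
    apply hν1
    apply hq_injective (m := m) hF
    rw [hq_one]
    have : hq hF ν = g⁻¹ * (g * hq hF ν * g⁻¹) * g := by group
    rw [this, hk]; group
  have hk' : g * hq hF ν = hq hF k * g := by rw [← hk]; group
  have hk'' : g.1 * Hs m ν = Hs m k * g.1 := congrArg Subtype.val hk'
  obtain ⟨o, ho⟩ := smul_mem_ovoid g.1 g.2 none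
  obtain ⟨o', ho'⟩ := smul_mem_ovoid g.1 g.2 (some (0, 0))
  have e1 : Hs m k • param m o = param m o := by
    rw [← ho, ← mul_smul, ← hk'', mul_smul, Hs_smul_inf]
  have e2 : Hs m k • param m o' = param m o' := by
    rw [← ho', ← mul_smul, ← hk'', mul_smul, Hs_smul_zero hF]
  have hne : o ≠ o' := by
    rintro rfl
    rw [← ho'] at ho
    have := MulAction.injective g.1 ho
    have := param_injective m this
    simp at this
  rcases Hs_fix_cases hF k hk1 o e1 with rfl | rfl <;>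
    rcases Hs_fix_cases hF k hk1 o' e2 with rfl | rfl
  · exact absurd rfl hne
  · left
    obtain ⟨k', hk'⟩ := stab_inf_zero hm hF g.1 g.2 ho ho'
    exact ⟨k', Subtype.ext hk'⟩
  · right
    have f1 : (ws * g.1) • param (F := F) m none = param m none := by
      rw [mul_smul, ho, ws_smul_zero]
    have f2 : (ws * g.1) • param (F := F) m (some (0, 0)) = param m (some (0, 0)) := by
      rw [mul_smul, ho', ws_smul_inf]
    obtain ⟨k', hk'⟩ := stab_inf_zero hm hF (ws * g.1)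
      (Subgroup.mul_mem _ (ws_mem hF) g.2) f1 f2
    refine ⟨k', ?_⟩
    have : wq hF * g = hq hF k' := Subtype.ext hk'
    rw [← this, ← mul_assoc, wq_mul_wq, one_mul]
  · exact absurd rfl hne

theorem card_normalizer_le (hm : 1 ≤ m) (hF : Fintype.card F = 2 ^ (2 * m + 1)) (ν : Fˣ) (hν1 : ν ≠ 1) :
    Nat.card (normalizer (zpowers (hq (m := m) hF ν) : Set (Cfsg.Sz F m))) ≤
      2 * (Fintype.card F - 1) := by
  let ψ : Bool × Fˣ → Cfsg.Sz F m := fun p => (if p.1 then wq hF else 1) * hq hF p.2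
  have hsub : ((normalizer (zpowers (hq (m := m) hF ν) : Set (Cfsg.Sz F m)) : Subgroup _) :
      Set (Cfsg.Sz F m)) ⊆ ψ '' Set.univ := by
    intro g hg
    rcases normalizer_cases hm hF ν hν1 g hg with ⟨k, rfl⟩ | ⟨k, rfl⟩
    · exact ⟨(false, k), Set.mem_univ _, by simp [ψ]⟩
    · exact ⟨(true, k), Set.mem_univ _, by simp [ψ]⟩
  calc Nat.card (normalizer (zpowers (hq (m := m) hF ν) : Set (Cfsg.Sz F m)))
      = ((normalizer (zpowers (hq (m := m) hF ν) : Set (Cfsg.Sz F m)) : Subgroup _) :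
          Set (Cfsg.Sz F m)).ncard := Nat.card_coe_set_eq _
    _ ≤ (ψ '' Set.univ).ncard := Set.ncard_le_ncard hsub (Set.toFinite _)
    _ ≤ (Set.univ : Set (Bool × Fˣ)).ncard := Set.ncard_image_le (Set.toFinite _)
    _ = 2 * (Fintype.card F - 1) := by
      rw [Set.ncard_univ, Nat.card_prod, Nat.card_units, Nat.card_eq_fintype_card,
        Nat.card_eq_fintype_card, Fintype.card_bool]

theorem main_Sz (hm : 1 ≤ m) (hF : Fintype.card F = 2 ^ (2 * m + 1)) :
    ∃ (B : Subgroup (Cfsg.Sz F m)) (x : Cfsg.Sz F m), B ≠ ⊤ ∧ x ∈ B ∧ x ≠ 1 ∧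
      (∀ c ∈ zpowers x, c ≠ 1 → ∀ d : Cfsg.Sz F m, d * c = c * d → d ∈ zpowers x) ∧
      Nat.card (normalizer (zpowers x : Set (Cfsg.Sz F m))) < Nat.card B := by
  obtain ⟨ν, hν⟩ := IsCyclic.exists_generator (α := Fˣ)
  have hq8 : 8 ≤ Fintype.card F := by
    rw [hF]
    calc 8 = 2 ^ 3 := by norm_num
      _ ≤ 2 ^ (2 * m + 1) := Nat.pow_le_pow_right (by norm_num) (by omega)
  have hν1 : ν ≠ 1 := by
    rintro rfl
    have h1 : ∀ k : Fˣ, k = 1 := by
      intro k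
      have := hν k
      rwa [Subgroup.zpowers_one_eq_bot, Subgroup.mem_bot] at this
    haveI : Subsingleton Fˣ := ⟨fun a b => by rw [h1 a, h1 b]⟩
    have h2 : Nat.card Fˣ ≤ 1 := Finite.card_le_one_iff_subsingleton.mpr inferInstance
    rw [Nat.card_units, Nat.card_eq_fintype_card] at h2
    omega
  refine ⟨MulAction.stabilizer (Cfsg.Sz F m) (Cfsg.suzukiPointInfinity F), hq hF ν, ?_, ?_, ?_, ?_, ?_⟩
  · intro h
    have : wq hF ∈ MulAction.stabilizer (Cfsg.Sz F m) (Cfsg.suzukiPointInfinity F) := by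
      rw [h]; trivial
    rw [MulAction.mem_stabilizer_iff, pointInf_eq (m := m)] at this
    have h2 : (ws : SpecialLinearGroup (Fin 4) F) • param (F := F) m none = param m none := this
    rw [ws_smul_inf] at h2
    have := param_injective m h2
    simp at this
  · rw [MulAction.mem_stabilizer_iff, pointInf_eq (m := m)]
    exact Hs_smul_inf ν
  · intro h
    apply hν1
    apply hq_injective (m := m) hF
    rw [h, hq_one]
  · intro c hc hc1 d hd
    obtain ⟨k, rfl⟩ := eq_hq_of_mem_zpowers hm hF ν c hc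
    have hk1 : k ≠ 1 := by
      rintro rfl
      exact hc1 (hq_one hF)
    obtain ⟨k', rfl⟩ := centralizer_hq hm hF k hk1 d hd
    exact hq_mem_zpowers hm hF ν hν k'
  · rw [card_stab_inf hm hF]
    have := card_normalizer_le hm hF ν hν1
    have h3 : 2 * (Fintype.card F - 1) < Fintype.card F ^ 2 * (Fintype.card F - 1) := by
      apply Nat.mul_lt_mul_of_pos_right
      · nlinarith
      · omega
    omega

theorem result {F : Type*} [Field F] [Fintype F] (m : ℕ) (hm : 1 ≤ m) (hF : Fintype.card F = 2 ^ (2 * m + 1)) :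
    ¬ ∃ 𝓐 : Finset (Subgroup ↥(Cfsg.Lie.Sz F (2 ^ (m + 1)))), ((∀ A ∈ 𝓐, A ≠ ⊤) ∧ (∀ g : ↥(Cfsg.Lie.Sz F (2 ^ (m + 1))), ∃ A ∈ 𝓐, g ∈ A)) ∧ (∀ 𝓑 : Finset (Subgroup ↥(Cfsg.Lie.Sz F (2 ^ (m + 1)))), (∀ A ∈ 𝓑, A ≠ ⊤) ∧ (∀ g : ↥(Cfsg.Lie.Sz F (2 ^ (m + 1))), ∃ A ∈ 𝓑, g ∈ A) → 𝓐.card ≤ 𝓑.card) ∧ (∀ A ∈ 𝓐, Group.IsNilpotent ↥A) := by
  haveI := Cfsg.Agent.helper11.Sz.charP_two hF
  obtain ⟨B, x, hB, hxB, hx1, hcent, hcard⟩ := main_Sz (m := m) hm hF
  let e := lieSzEquiv hm hF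
  haveI : Finite (Cfsg.Lie.Sz F (2 ^ (m + 1))) := Finite.of_equiv _ e.toEquiv
  apply Cfsg.Agent.helper11.NilCover.main (B.map e.toMonoidHom) _ (e x) (Subgroup.mem_map_of_mem _ hxB)
  · intro h
    apply hx1
    apply e.injective
    rw [h, map_one]
  · intro c' hc' hc1 d' hd'
    have hc : e.symm c' ∈ zpowers x := by
      obtain ⟨j, rfl⟩ := Subgroup.mem_zpowers_iff.mp hc'
      rw [map_zpow, MulEquiv.symm_apply_apply]
      exact Subgroup.zpow_mem_zpowers x j
    have hc1' : e.symm c' ≠ 1 := by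
      intro h
      apply hc1
      rw [← e.apply_symm_apply c', h, map_one]
    have hd : e.symm d' * e.symm c' = e.symm c' * e.symm d' := by
      rw [← map_mul, ← map_mul, hd']
    obtain ⟨j, hj⟩ := Subgroup.mem_zpowers_iff.mp (hcent _ hc hc1' _ hd)
    rw [Subgroup.mem_zpowers_iff]
    refine ⟨j, ?_⟩
    rw [← map_zpow, hj, MulEquiv.apply_symm_apply]
  · have e1 : zpowers (e x) = (zpowers x).map e.toMonoidHom := by
      rw [MonoidHom.map_zpowers]; rfl
    rw [e1, ← Subgroup.map_equiv_normalizer_eq, Subgroup.card_map_of_injective e.injective,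
      Subgroup.card_map_of_injective e.injective]
    exact hcard
  · intro h
    apply hB
    rw [eq_top_iff]
    intro b _
    have : e b ∈ B.map e.toMonoidHom := by rw [h]; trivial
    obtain ⟨b', hb', hbb⟩ := Subgroup.mem_map.mp this
    have := e.injective hbb
    rwa [← this]

end Cfsg.Agent.S3893
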