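import Cfsg.Agent.Lib_helper11_Sz22
import Cfsg.Agent.Lib_helper11_Sz21
import Cfsg.Agent.S2238
import Cfsg.Agent.S3893

set_option autoImplicit false

namespace Cfsg.Agent.helper11.Sz

open Matrix Projectivization Cfsg.Agent.S0326 Cfsg.Agent.S0327 MulAction

section generic

variable {G Ω : Type*} [Group G] [MulAction G Ω]

/-- pigeonhole: three fixed points of an element with at most two fixed points -/
theorem pigeon [Finite Ω] (x : G) (hx : Nat.card (fixedBy Ω x) ≤ 2) (a b c : Ω)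
    (ha : x • a = a) (hb : x • b = b) (hc : x • c = c) : a = b ∨ a = c ∨ b = c := by
  by_contra h
  push Not at h
  obtain ⟨h1, h2, h3⟩ := h
  have h3' : ({a, b, c} : Set Ω).ncard = 3 := by
    rw [Set.ncard_eq_three]
    exact ⟨a, b, c, h1, h2, h3, rfl⟩
  have hsub : ({a, b, c} : Set Ω) ⊆ fixedBy Ω x := by
    intro ω hω
    rcases hω with rfl | rfl | rfl
    · exact ha
    · exact hb
    · exact hc
  have := Set.ncard_le_ncard hsub (Set.toFinite _)
  rw [h3', ← Nat.card_coe_set_eq] at this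
  omega

theorem pigeon_mem [Finite Ω] (x : G) (hx : Nat.card (fixedBy Ω x) ≤ 2) (α : Ω) (h : G)
    (h0 : x • α = α) (h1 : x • (h • α) = h • α) (h2 : x • (h ^ 2 • α) = h ^ 2 • α) :
    h • α = α ∨ h ^ 2 • α = α := by
  rcases pigeon x hx α (h • α) (h ^ 2 • α) h0 h1 h2 with e | e | e
  · exact Or.inl e.symm
  · exact Or.inr e.symm
  · left
    rw [pow_two, mul_smul] at e
    exact (smul_left_cancel h e).symm

theorem mem_of_sq_mem (M : Subgroup G) (h : G) (j : ℕ) (hj : h ^ (2 * j + 1) = 1)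
    (h2 : h ^ 2 ∈ M) : h ∈ M := by
  have e : h = (h ^ 2) ^ (j + 1) := by
    rw [← pow_mul, show 2 * (j + 1) = (2 * j + 1) + 1 by ring, pow_succ, hj, one_mul]
  rw [e]
  exact M.pow_mem h2 _

theorem mem_stab_of_odd [Finite Ω] (x : G) (hx : Nat.card (fixedBy Ω x) ≤ 2) (α : Ω) (h : G)
    (j : ℕ) (hj : h ^ (2 * j + 1) = 1) (hcomm : ∀ i : ℕ, x • (h ^ i • α) = h ^ i • α) :
    h • α = α := by
  have h0 := hcomm 0
  rw [pow_zero, one_smul] at h0
  have h1 := hcomm 1
  rw [pow_one] at h1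
  rcases pigeon_mem x hx α h h0 h1 (hcomm 2) with e | e
  · exact e
  · have : h ∈ stabilizer G α := mem_of_sq_mem _ h j hj (mem_stabilizer_iff.mpr e)
    exact mem_stabilizer_iff.mp this

theorem card_le_two_mul [Finite G] [Finite Ω] (x : G) (hx : Nat.card (fixedBy Ω x) ≤ 2) (α : Ω)
    (A : Subgroup G) (hA : ∀ a ∈ A, x • (a • α) = a • α) :
    Nat.card A ≤ 2 * Nat.card (A ⊓ stabilizer G α : Subgroup G) := by
  classical
  haveI := Fintype.ofFinite G
  let s : Finset G := Finset.univ.filter (· ∈ A)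
  let P : Finset G := Finset.univ.filter (· ∈ (A ⊓ stabilizer G α : Subgroup G))
  have hs : s.card = Nat.card A := by
    rw [Nat.card_eq_fintype_card, Fintype.card_subtype]
  have hP : P.card = Nat.card (A ⊓ stabilizer G α : Subgroup G) := by
    rw [Nat.card_eq_fintype_card, Fintype.card_subtype]
  have h1 : s.card ≤ P.card * (s.image (fun a => a • α)).card := by
    apply Finset.card_le_mul_card_image
    intro ω hω
    obtain ⟨a₀, ha₀, rfl⟩ := Finset.mem_image.mp hω
    apply Finset.card_le_card_of_injOn (fun a => a₀⁻¹ * a)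
    · intro a ha
      rw [Finset.coe_filter] at ha
      obtain ⟨ha1, ha2⟩ := ha
      have ha1' : a ∈ A := (Finset.mem_filter.mp ha1).2
      have ha₀' : a₀ ∈ A := (Finset.mem_filter.mp ha₀).2
      rw [Finset.coe_filter]
      refine ⟨Finset.mem_univ _, A.mul_mem (A.inv_mem ha₀') ha1', ?_⟩
      show a₀⁻¹ * a ∈ stabilizer G α
      rw [mem_stabilizer_iff, mul_smul, ha2, inv_smul_smul]
    · intro a _ b _ hab
      exact mul_left_cancel hab
  have h2 : (s.image (fun a => a • α)).card ≤ 2 := by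
    have hsub : ((s.image (fun a => a • α) : Finset Ω) : Set Ω) ⊆ fixedBy Ω x := by
      intro ω hω
      rw [Finset.mem_coe] at hω
      obtain ⟨a₀, ha₀, rfl⟩ := Finset.mem_image.mp hω
      exact hA a₀ (Finset.mem_filter.mp ha₀).2
    have := Set.ncard_le_ncard hsub (Set.toFinite _)
    rw [Set.ncard_coe_finset, ← Nat.card_coe_set_eq] at this
    omega
  rw [← hs, ← hP]
  calc s.card ≤ P.card * (s.image (fun a => a • α)).card := h1
    _ ≤ P.card * 2 := Nat.mul_le_mul_left _ h2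
    _ = 2 * P.card := Nat.mul_comm _ _

theorem conj_smul_smul (g x : G) (α : Ω) : (g * x * g⁻¹) • (g • α) = g • (x • α) := by
  rw [← mul_smul, ← mul_smul, inv_mul_cancel_right]

theorem smul_of_conj_mem (x n : G) (α : Ω) (h : (n⁻¹ * x * n) • α = α) : x • (n • α) = n • α := by
  have := conj_smul_smul n (n⁻¹ * x * n) α
  rw [h] at this
  rw [← this]
  congr 1
  group

end generic

variable {F : Type*} [Field F] [CharP F 2] [Fintype F] {m : ℕ}

/-- conjugate subgroups have normalisers of the same order -/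
theorem card_normalizer_of_conj {G : Type*} [Group G] (A B : Subgroup G) (z : G)
    (h : ∀ c : G, c ∈ B ↔ z⁻¹ * c * z ∈ A) :
    Nat.card (Subgroup.normalizer (B : Set G)) = Nat.card (Subgroup.normalizer (A : Set G)) := by
  apply card_eq_of_conj _ _ z
  intro n
  rw [Subgroup.mem_normalizer_iff, Subgroup.mem_normalizer_iff]
  constructor
  · intro hn a
    have := hn (z * a * z⁻¹)
    rw [h, h] at this
    have e1 : z⁻¹ * (z * a * z⁻¹) * z = a := by group
    have e2 : z⁻¹ * (n * (z * a * z⁻¹) * n⁻¹) * z = z⁻¹ * n * z * a * (z⁻¹ * n * z)⁻¹ := by group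
    rw [e1, e2] at this
    exact this
  · intro hn c
    have := hn (z⁻¹ * c * z)
    rw [h, h]
    have e2 : z⁻¹ * (n * c * n⁻¹) * z = z⁻¹ * n * z * (z⁻¹ * c * z) * (z⁻¹ * n * z)⁻¹ := by group
    rw [e2]
    exact this

/-- the centraliser of a fixed-point-free element has index `4` in its normaliser -/
theorem card_normalizer_fpf (hm : 1 ≤ m) (hF : Fintype.card F = 2 ^ (2 * m + 1))
    {g : Cfsg.Sz F m} (hg : IsFpf g) :
    Nat.card (Subgroup.normalizer
      ((Subgroup.centralizer ({g} : Set (Cfsg.Sz F m)) : Subgroup (Cfsg.Sz F m)) :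
        Set (Cfsg.Sz F m))) = 4 * Nat.card (Subgroup.centralizer ({g} : Set (Cfsg.Sz F m))) := by
  obtain ⟨h1, h2⟩ := main hm hF
  have hk := h1 g hg
  obtain ⟨g', hg', hw', hN'⟩ := h2 (cw g) hk
  have hgt : 1 < cw g := by
    rcases hk with h | h <;> rw [h]
    · have : 0 < 2 ^ (2 * m + 1) := Nat.pos_of_ne_zero (by positivity)
      generalize 2 ^ (m + 1) = B at *
      generalize 2 ^ (2 * m + 1) = A at *
      omega
    · have : 2 ^ (m + 1) < 2 ^ (2 * m + 1) := Nat.pow_lt_pow_right (by norm_num) (by omega)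
      generalize 2 ^ (m + 1) = B at *
      generalize 2 ^ (2 * m + 1) = A at *
      omega
  obtain ⟨p, hp, hpd⟩ := Nat.exists_prime_and_dvd (Nat.ne_of_gt hgt)
  obtain ⟨z, hz⟩ := conj_of_common_prime hm hF hg hg' hp hpd (by rw [← cw_def, hw']; exact hpd)
  rw [← cw_def, ← hN', card_normalizer_of_conj _ _ z hz]

/-- an element of odd order with a fixed point on the ovoid is conjugate to some `H(κ)` -/
theorem conj_hq_of_fix (hm : 1 ≤ m) (hF : Fintype.card F = 2 ^ (2 * m + 1)) (z : Cfsg.Sz F m)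
    (hz : ¬ IsFpf z) (j : ℕ) (hodd : z ^ (2 * j + 1) = 1) (hz1 : z ≠ 1) :
    ∃ (g : Cfsg.Sz F m) (k : Fˣ), k ≠ 1 ∧ z = g * hq hF k * g⁻¹ := by
  unfold IsFpf at hz
  push Not at hz
  obtain ⟨y, hy⟩ := hz
  obtain ⟨o, rfl⟩ := exists_pt y
  obtain ⟨h, hh, hho⟩ := exists_smul_inf_eq (m := m) hF o
  let h' : Cfsg.Sz F m := ⟨h, hh⟩
  have hh' : h' • pt (F := F) m none = pt m o := (smul_pt_eq_iff _ _ _).mpr hho
  have hfix : (h'⁻¹ * z * h') • pt (F := F) m none = pt m none := by
    rw [mul_smul, mul_smul, hh', hy, ← hh', inv_smul_smul]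
  have hfix' : ((h'⁻¹ * z * h' : Cfsg.Sz F m) : SpecialLinearGroup (Fin 4) F) • param (F := F) m none
      = param m none := (smul_pt_eq_iff _ _ _).mp hfix
  obtain ⟨a, b, k, hk⟩ := stab_inf' hm hF _ hfix'
  have hzc : z = h' * (h'⁻¹ * z * h') * h'⁻¹ := by group
  have hk1 : k ≠ 1 := by
    rintro rfl
    rw [hq_one, mul_one] at hk
    have h4 : (h'⁻¹ * z * h') ^ 2 ^ 2 = 1 := by
      rw [hk]
      have e4 : ∀ u : Cfsg.Sz F m, u ^ 2 ^ 2 = (u * u) * (u * u) := fun u => by
        rw [pow_two (2 : ℕ), pow_mul, pow_two, pow_two]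
      rw [e4, tq_sq hm hF, tq_zero_sq hm hF]
    have h5 : (h'⁻¹ * z * h') ^ (2 * j + 1) = 1 := by
      have e : h'⁻¹ * z * h' = h'⁻¹ * z * (h'⁻¹)⁻¹ := by rw [inv_inv]
      rw [e, conj_pow, hodd]; group
    have := Cfsg.Agent.S2238.eq_one_of_two_group_of_odd _ 2 (2 * j + 1) h4 h5 (by omega)
    apply hz1
    rw [hzc, this]; group
  obtain ⟨t, k', hk'⟩ := exists_conj_hq hm hF a b k hk1
  rw [hk'] at hk
  refine ⟨h' * t, k', ?_, ?_⟩
  · rintro rfl
    rw [hq_one] at hk
    apply hz1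
    rw [hzc, hk]; group
  · rw [hzc, hk]; group

end Cfsg.Agent.helper11.Sz
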