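import Cfsg.Statements.S4387

set_option autoImplicit false
open Cfsg
open scoped Pointwise

namespace Cfsg.Agent.S4387

theorem card_ne_one (H : Type*) [Group H] [Finite H] :
    Nat.card {x : H // x ≠ 1} = Nat.card H - 1 := by
  classical
  have := Fintype.ofFinite H
  rw [Nat.card_eq_fintype_card, Nat.card_eq_fintype_card, Fintype.card_subtype_compl,
    Fintype.card_subtype_eq]

theorem exists_not_mem_conj {G : Type*} [Group G] [Finite G] (M : Subgroup G) (hM : M ≠ ⊤) :
    ∃ x : G, ∀ g : G, x ∉ MulAut.conj g • M := by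
  classical
  by_contra hcon
  push Not at hcon
  let f : (G ⧸ M) × {m : M // m ≠ 1} → {x : G // x ≠ 1} := fun qm =>
    ⟨qm.1.out * (qm.2.1 : G) * (qm.1.out)⁻¹, by
      intro h
      apply qm.2.2
      have h1 : (qm.2.1 : G) = 1 := by
        have := congrArg (fun t => (qm.1.out)⁻¹ * t * qm.1.out) h
        simpa [mul_assoc] using this
      exact Subtype.ext h1⟩
  have hf : Function.Surjective f := by
    rintro ⟨x, hx⟩
    obtain ⟨g, hg⟩ := hcon x
    rw [Subgroup.mem_smul_pointwise_iff_exists] at hg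
    obtain ⟨m, hm, hmx⟩ := hg
    rw [MulAut.smul_def, MulAut.conj_apply] at hmx
    set q : G ⧸ M := QuotientGroup.mk g with hq
    have hq1 : q.out⁻¹ * g ∈ M := by
      rw [← QuotientGroup.eq, hq]
      exact Quotient.out_eq' _
    set c : G := q.out⁻¹ * g with hc
    have hcm : c * m * c⁻¹ ∈ M := M.mul_mem (M.mul_mem hq1 hm) (M.inv_mem hq1)
    have hxe : x = q.out * (c * m * c⁻¹) * q.out⁻¹ := by
      rw [← hmx, hc]; group
    have hne : (⟨c * m * c⁻¹, hcm⟩ : M) ≠ 1 := by
      intro h1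
      have h2 : c * m * c⁻¹ = 1 := congrArg Subtype.val h1
      apply hx
      rw [hxe, h2]; group
    refine ⟨(q, ⟨⟨c * m * c⁻¹, hcm⟩, hne⟩), ?_⟩
    apply Subtype.ext
    exact hxe.symm
  have hcard := Nat.card_le_card_of_surjective f hf
  rw [Nat.card_prod, card_ne_one G, card_ne_one M] at hcard
  have hidx : M.index * Nat.card M = Nat.card G := M.index_mul_card
  have h1 : M.index ≠ 1 := fun h => hM (Subgroup.index_eq_one.1 h)
  have h0 : M.index ≠ 0 := Subgroup.index_ne_zero_of_finite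
  have hMpos : 0 < Nat.card M := Nat.card_pos
  change Nat.card G - 1 ≤ M.index * (Nat.card M - 1) at hcard
  obtain ⟨b, hb⟩ : ∃ b, Nat.card M = b + 1 := ⟨Nat.card M - 1, by omega⟩
  rw [hb] at hcard hidx
  rw [← hidx] at hcard
  simp only [Nat.add_sub_cancel] at hcard
  have h2 : 2 ≤ M.index := by omega
  have h3 : M.index * (b + 1) = M.index * b + M.index := by ring
  omega

theorem result {G : Type*} [Group G] [Finite G] [Nontrivial G]
    (h : ∀ M N : Subgroup G, IsCoatom M → IsCoatom N → ∃ g : G, N = MulAut.conj g • M) :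
    IsCyclic G ∧ IsPrimePow (Nat.card G) := by
  -- a coatom exists
  have htop : (⊥ : Subgroup G) ≠ ⊤ := bot_ne_top
  obtain ⟨M, hM, -⟩ := (eq_top_or_exists_le_coatom (⊥ : Subgroup G)).resolve_left htop
  obtain ⟨x, hx⟩ := exists_not_mem_conj M hM.1
  have hxtop : Subgroup.zpowers x = ⊤ := by
    by_contra hne
    obtain ⟨N, hN, hxN⟩ := (eq_top_or_exists_le_coatom (Subgroup.zpowers x)).resolve_left hne
    obtain ⟨g, hg⟩ := h M N hM hN
    apply hx g
    rw [← hg]
    exact hxN (Subgroup.mem_zpowers x)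
  have hgen : ∀ y : G, y ∈ Subgroup.zpowers x := fun y => by rw [hxtop]; trivial
  have hcyc : IsCyclic G := ⟨x, hgen⟩
  refine ⟨hcyc, ?_⟩
  have hcomm : ∀ a b : G, a * b = b * a := fun a b => by
    have := hcyc.isMulCommutative
    exact (isMulCommutative_iff.1 this) a b
  -- unique coatom
  have huniq : ∀ N : Subgroup G, IsCoatom N → N = M := by
    intro N hN
    obtain ⟨g, hg⟩ := h M N hM hN
    rw [hg]
    ext y
    rw [Subgroup.mem_pointwise_smul_iff_inv_smul_mem, MulAut.smul_def, MulAut.conj_inv_apply]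
    rw [hcomm g⁻¹ y, mul_assoc, inv_mul_cancel, mul_one]
  have hmemM : ∀ y : G, Subgroup.zpowers y ≠ ⊤ → y ∈ M := by
    intro y hy
    obtain ⟨N, hN, hyN⟩ := (eq_top_or_exists_le_coatom (Subgroup.zpowers y)).resolve_left hy
    rw [← huniq N hN]
    exact hyN (Subgroup.mem_zpowers y)
  have hord : orderOf x = Nat.card G := orderOf_eq_card_of_forall_mem_zpowers hgen
  have hcard1 : 1 < Nat.card G := Finite.one_lt_card
  have hpow : ∀ p : ℕ, p.Prime → p ∣ Nat.card G → x ^ p ∈ M := by
    intro p hp hpd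
    apply hmemM
    intro htop'
    have hgen' : ∀ y : G, y ∈ Subgroup.zpowers (x ^ p) := fun y => by rw [htop']; trivial
    have h1 := orderOf_eq_card_of_forall_mem_zpowers hgen'
    rw [orderOf_pow, hord, Nat.gcd_eq_right hpd] at h1
    have h2 : Nat.card G / p < Nat.card G := Nat.div_lt_self (by omega) hp.one_lt
    omega
  rw [isPrimePow_iff_unique_prime_dvd]
  refine ⟨(Nat.card G).minFac, ⟨Nat.minFac_prime (by omega), Nat.minFac_dvd _⟩, ?_⟩
  rintro q ⟨hq, hqd⟩
  by_contra hne
  set p := (Nat.card G).minFac with hp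
  have hpp : p.Prime := Nat.minFac_prime (by omega)
  have hpd : p ∣ Nat.card G := Nat.minFac_dvd _
  have hcop : Nat.Coprime p q := (Nat.coprime_primes hpp hq).2 (fun h => hne h.symm)
  have hxM : x ∈ M := by
    have hb : (x ^ (p : ℤ)) ^ (Nat.gcdA p q) * (x ^ (q : ℤ)) ^ (Nat.gcdB p q) = x := by
      rw [← zpow_mul, ← zpow_mul, ← zpow_add, ← Nat.gcd_eq_gcd_ab, hcop]
      simp
    rw [← hb]
    apply M.mul_mem
    · apply M.zpow_mem
      rw [zpow_natCast]; exact hpow p hpp hpd
    · apply M.zpow_mem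
      rw [zpow_natCast]; exact hpow q hq hqd
  apply hM.1
  rw [eq_top_iff, ← hxtop]
  exact (Subgroup.zpowers_le).2 hxM

end Cfsg.Agent.S4387
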