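import Cfsg.Agent.Lib_helper11_Sz23
import Cfsg.Agent.S4387

set_option autoImplicit false

namespace Cfsg.Agent.helper11.Sz

open Matrix Projectivization Cfsg.Agent.S0326 Cfsg.Agent.S0327 MulAction Cfsg.Agent.S3893

variable {F : Type*} [Field F] [CharP F 2] [Fintype F] {m : ℕ}

theorem card_sub_one_odd (hF : Fintype.card F = 2 ^ (2 * m + 1)) :
    ∃ j : ℕ, Fintype.card F - 1 = 2 * j + 1 := by
  refine ⟨2 ^ (2 * m) - 1, ?_⟩
  rw [hF, pow_succ]
  have : 1 ≤ 2 ^ (2 * m) := Nat.one_le_two_pow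
  omega

theorem hq_pow_card (hm : 1 ≤ m) (hF : Fintype.card F = 2 ^ (2 * m + 1)) (k : Fˣ) :
    hq (m := m) hF k ^ (Fintype.card F - 1) = 1 := by
  have h1 : k ^ (Fintype.card F - 1) = 1 := by
    have := pow_card_eq_one' (G := Fˣ) (x := k)
    rwa [Nat.card_units, Nat.card_eq_fintype_card] at this
  have h2 := map_pow (hqHom hm hF) k (Fintype.card F - 1)
  rw [h1, map_one] at h2
  exact h2.symm

theorem exists_unit_ne_one (hF : Fintype.card F = 2 ^ (2 * m + 1)) (hm : 1 ≤ m) :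
    ∃ k : Fˣ, k ≠ 1 := by
  by_contra h
  push Not at h
  haveI : Subsingleton Fˣ := ⟨fun a b => by rw [h a, h b]⟩
  have h2 : Nat.card Fˣ ≤ 1 := Finite.card_le_one_iff_subsingleton.mpr inferInstance
  rw [Nat.card_units, Nat.card_eq_fintype_card, hF] at h2
  have : 2 ^ 3 ≤ 2 ^ (2 * m + 1) := Nat.pow_le_pow_right (by norm_num) (by omega)
  omega

theorem tq_zero_comm (hm : 1 ≤ m) (hF : Fintype.card F = 2 ^ (2 * m + 1)) (b a' b' : F) :
    tq hF 0 b * tq hF a' b' = tq hF a' b' * tq hF 0 b := by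
  rw [tq_mul hm hF, tq_mul hm hF, map_zero, zero_mul, mul_zero, zero_add, add_zero, add_zero,
    add_zero, add_comm b b']

/-- conjugating a central involution by an element of the Borel subgroup -/
theorem conj_center (hm : 1 ≤ m) (hF : Fintype.card F = 2 ^ (2 * m + 1)) (a₁ b₁ : F) (k₁ : Fˣ)
    (b : F) : ∃ c : F, (tq hF a₁ b₁ * hq hF k₁)⁻¹ * tq hF 0 b * (tq hF a₁ b₁ * hq hF k₁) =
      tq hF 0 c := by
  refine ⟨th F m ((k₁⁻¹ : Fˣ) : F) * ((k₁⁻¹ : Fˣ) : F) * b, ?_⟩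
  have hc := tq_zero_comm hm hF b a₁ b₁
  have e2 := hq_tq_conj hm hF k₁⁻¹ 0 b
  rw [← hq_inv hm hF, inv_inv, mul_zero] at e2
  calc (tq hF a₁ b₁ * hq hF k₁)⁻¹ * tq hF 0 b * (tq hF a₁ b₁ * hq hF k₁)
      = (hq hF k₁)⁻¹ * ((tq hF a₁ b₁)⁻¹ * (tq hF 0 b * tq hF a₁ b₁)) * hq hF k₁ := by group
    _ = (hq hF k₁)⁻¹ * ((tq hF a₁ b₁)⁻¹ * (tq hF a₁ b₁ * tq hF 0 b)) * hq hF k₁ := by rw [hc]
    _ = (hq hF k₁)⁻¹ * tq hF 0 b * hq hF k₁ := by group
    _ = _ := e2

theorem orderOf_wq (hF : Fintype.card F = 2 ^ (2 * m + 1)) : orderOf (wq (m := m) hF) = 2 := by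
  apply orderOf_eq_prime
  · rw [pow_two]; exact wq_mul_wq hF
  · intro h
    have h1 : (ws : SpecialLinearGroup (Fin 4) F) = 1 := congrArg Subtype.val h
    have h2 := ws_smul_inf (F := F) (m := m)
    rw [h1, one_smul] at h2
    have := param_injective m h2
    simp at this

section action

variable {Ω : Type*} [Fintype Ω] [MulAction (Cfsg.Sz F m) Ω]

/-- an involution is conjugate to a central element of the standard Sylow 2-subgroup -/
theorem involution_conj (hm : 1 ≤ m) (hF : Fintype.card F = 2 ^ (2 * m + 1)) (t : Cfsg.Sz F m)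
    (ht : orderOf t = 2) : ∃ (x : Cfsg.Sz F m) (b : F), t = x * tq hF 0 b * x⁻¹ := by
  haveI : Fact (Nat.Prime 2) := ⟨Nat.prime_two⟩
  have ht2 : t ^ 2 = 1 := by rw [← ht]; exact pow_orderOf_eq_one t
  obtain ⟨P, hP⟩ := (isPGroup_zpowers_of_pow t ht2).exists_le_sylow
  obtain ⟨x, hx⟩ := exists_conj_tq hm hF P
  obtain ⟨a, b, hab⟩ := (hx t).mp (hP (Subgroup.mem_zpowers t))
  have h1 : tq hF a b * tq hF a b = 1 := by
    have : tq hF a b = x⁻¹ * t * x := by rw [hab]; group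
    rw [this]
    have e : x⁻¹ * t * x * (x⁻¹ * t * x) = x⁻¹ * (t ^ 2) * x := by rw [pow_two]; group
    rw [e, ht2]; group
  rw [tq_sq hm hF, tq_eq_one_iff hm hF] at h1
  have ha : a = 0 := by
    rcases mul_eq_zero.mp h1.2 with h | h
    · exact th_eq_zero.mp h
    · exact h
  refine ⟨x, b, ?_⟩
  rw [hab, ha]

/-- the even case: some point stabiliser contains the Borel subgroup -/
theorem even_case (hm : 1 ≤ m) (hF : Fintype.card F = 2 ^ (2 * m + 1))
    (hfix : ∀ s : Cfsg.Sz F m, s ≠ 1 → Nat.card (fixedBy Ω s) ≤ 2)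
    (α : Ω) (t : Cfsg.Sz F m) (htα : t • α = α) (ht : orderOf t = 2) :
    ∃ α' : Ω, ∀ (a b : F) (k : Fˣ), (tq hF a b * hq hF k) • α' = α' := by
  obtain ⟨x, b, hxb⟩ := involution_conj hm hF t ht
  have ht1 : t ≠ 1 := by
    rintro rfl
    rw [orderOf_one] at ht
    omega
  have ht01 : tq (m := m) hF 0 b ≠ 1 := by
    intro h
    apply ht1
    rw [hxb, h]; group
  have hfx := hfix _ ht01
  refine ⟨x⁻¹ • α, ?_⟩
  have h0 : tq (m := m) hF 0 b • (x⁻¹ • α) = x⁻¹ • α := by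
    have := conj_smul_smul x⁻¹ t α
    rw [htα, hxb] at this
    rw [← this]
    congr 1
    group
  -- central elements
  have hZ : ∀ c : F, tq (m := m) hF 0 c • (x⁻¹ • α) = x⁻¹ • α := by
    have hsq : ∀ a' : F, tq (m := m) hF 0 (th F m a' * a') • (x⁻¹ • α) = x⁻¹ • α := by
      intro a'
      have hcomm : ∀ i : ℕ, tq (m := m) hF 0 b • (tq hF a' 0 ^ i • (x⁻¹ • α)) =
          tq hF a' 0 ^ i • (x⁻¹ • α) := by
        intro i
        have hc : Commute (tq (m := m) hF 0 b) (tq hF a' 0 ^ i) :=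
          Commute.pow_right (tq_zero_comm hm hF b a' 0) i
        rw [← mul_smul, hc.eq, mul_smul, h0]
      have h1 := hcomm 1
      rw [pow_one] at h1
      have e : tq (m := m) hF 0 (th F m a' * a') = tq hF a' 0 ^ 2 := by
        rw [pow_two, tq_sq hm hF]
      rw [e]
      rcases pigeon_mem _ hfx (x⁻¹ • α) (tq hF a' 0) h0 h1 (hcomm 2) with h | h
      · rw [pow_two, mul_smul, h, h]
      · exact h
    intro c
    obtain ⟨a', ha'⟩ := mul_th_surjective (m := m) hF c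
    simp only at ha'
    rw [← ha', mul_comm]
    exact hsq a'
  -- Borel elements preserve the fixed points of the involution
  have hB : ∀ (a₁ b₁ : F) (k₁ : Fˣ), tq (m := m) hF 0 b • ((tq hF a₁ b₁ * hq hF k₁) • (x⁻¹ • α)) =
      (tq hF a₁ b₁ * hq hF k₁) • (x⁻¹ • α) := by
    intro a₁ b₁ k₁
    apply smul_of_conj_mem
    obtain ⟨c, hc⟩ := conj_center hm hF a₁ b₁ k₁ b
    rw [hc]
    exact hZ c
  have hBpow : ∀ (a₁ b₁ : F) (k₁ : Fˣ) (i : ℕ),
      ∃ (a₂ b₂ : F) (k₂ : Fˣ), (tq (m := m) hF a₁ b₁ * hq hF k₁) ^ i = tq hF a₂ b₂ * hq hF k₂ := by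
    intro a₁ b₁ k₁ i
    apply stab_inf' hm hF
    have hfix1 : ((tq (m := m) hF a₁ b₁ * hq hF k₁ : Cfsg.Sz F m) : SpecialLinearGroup (Fin 4) F) •
        param (F := F) m none = param m none := by
      show (Ts m a₁ b₁ * Hs m k₁) • param (F := F) m none = param m none
      rw [mul_smul, Hs_smul_inf, Ts_smul_inf]
    induction i with
    | zero => rw [pow_zero]; exact one_smul _ _
    | succ i ih =>
      rw [pow_succ]
      show ((((tq (m := m) hF a₁ b₁ * hq hF k₁) ^ i : Cfsg.Sz F m) : SpecialLinearGroup (Fin 4) F) *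
        ((tq (m := m) hF a₁ b₁ * hq hF k₁ : Cfsg.Sz F m) : SpecialLinearGroup (Fin 4) F)) •
          param (F := F) m none = param m none
      rw [mul_smul, hfix1, ih]
  obtain ⟨j, hj⟩ := card_sub_one_odd (m := m) hF
  have hodd : ∀ h : Cfsg.Sz F m, (∃ (a₁ b₁ : F) (k₁ : Fˣ), h = tq hF a₁ b₁ * hq hF k₁) →
      h ^ (2 * j + 1) = 1 → h • (x⁻¹ • α) = x⁻¹ • α := by
    rintro h ⟨a₁, b₁, k₁, rfl⟩ hh
    apply mem_stab_of_odd _ hfx _ _ j hh
    intro i
    obtain ⟨a₂, b₂, k₂, h2⟩ := hBpow a₁ b₁ k₁ i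
    rw [h2]
    exact hB a₂ b₂ k₂
  have hH : ∀ k : Fˣ, hq (m := m) hF k • (x⁻¹ • α) = x⁻¹ • α := by
    intro k
    apply hodd _ ⟨0, 0, k, by rw [tq_zero hm hF, one_mul]⟩
    rw [← hj]
    exact hq_pow_card hm hF k
  obtain ⟨k₀, hk₀⟩ := exists_unit_ne_one (m := m) hF hm
  have hT : ∀ a b : F, tq (m := m) hF a b • (x⁻¹ • α) = x⁻¹ • α := by
    intro a b
    have h1 : (tq (m := m) hF a b * hq hF k₀) • (x⁻¹ • α) = x⁻¹ • α := by
      apply hodd _ ⟨a, b, k₀, rfl⟩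
      obtain ⟨t', k', hk'⟩ := exists_conj_hq hm hF a b k₀ hk₀
      rw [hk', conj_pow, ← hj, hq_pow_card hm hF]
      group
    rw [mul_smul, hH] at h1
    exact h1
  intro a b k
  rw [mul_smul, hH, hT]

end action

end Cfsg.Agent.helper11.Sz
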