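import Cfsg.Agent.Lib_helper11_Sz24

set_option autoImplicit false

namespace Cfsg.Agent.helper11.Sz

open Matrix Projectivization Cfsg.Agent.S0326 Cfsg.Agent.S0327 MulAction Cfsg.Agent.S3893
open scoped Pointwise

variable {F : Type*} [Field F] [CharP F 2] [Fintype F] {m : ℕ}

section action

variable {Ω : Type*} [Fintype Ω] [MulAction (Cfsg.Sz F m) Ω]

/-- elements of a subgroup without involutions have odd order -/
theorem odd_of_no_inv {G : Type*} [Group G] [Finite G] (M : Subgroup G)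
    (hno : ∀ t ∈ M, orderOf t ≠ 2) (y : G) (hy : y ∈ M) : ∃ j : ℕ, y ^ (2 * j + 1) = 1 := by
  have hpos : orderOf y ≠ 0 := (orderOf_pos y).ne'
  by_cases h2 : 2 ∣ orderOf y
  · exfalso
    have := orderOf_pow_orderOf_div hpos h2
    exact hno _ (M.pow_mem hy _) this
  · obtain ⟨j, hj⟩ : ∃ j, orderOf y = 2 * j + 1 := ⟨orderOf y / 2, by omega⟩
    exact ⟨j, by rw [← hj]; exact pow_orderOf_eq_one y⟩

/-- a point stabiliser without involutions contains no fixed-point-free element -/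
theorem no_fpf (hm : 1 ≤ m) (hF : Fintype.card F = 2 ^ (2 * m + 1))
    (hfix : ∀ s : Cfsg.Sz F m, s ≠ 1 → Nat.card (fixedBy Ω s) ≤ 2)
    (α : Ω) (hno : ∀ t ∈ stabilizer (Cfsg.Sz F m) α, orderOf t ≠ 2)
    (z : Cfsg.Sz F m) (hzα : z • α = α) (hz : IsFpf z) : False := by
  have hz1 := hz.ne_one
  have hfz := hfix z hz1
  obtain ⟨A, hA⟩ : ∃ A : Subgroup (Cfsg.Sz F m), A = Subgroup.centralizer {z} := ⟨_, rfl⟩
  -- the centraliser has odd order
  have hAodd : ¬ 2 ∣ Nat.card A := by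
    rw [hA]
    intro h
    exact odd_card hF (h.trans (card_cent_dvd hm hF hz))
  obtain ⟨j, hj⟩ : ∃ j, Nat.card A = 2 * j + 1 := ⟨Nat.card A / 2, by omega⟩
  -- the centraliser fixes `α`
  have hAα : ∀ a ∈ A, a • α = α := by
    intro a ha
    apply mem_stab_of_odd z hfz α a j
    · have := pow_card_eq_one' (G := A) (x := ⟨a, ha⟩)
      rw [hj] at this
      exact congrArg Subtype.val this
    · intro i
      have hai : a ^ i ∈ A := A.pow_mem ha i
      rw [hA, Subgroup.mem_centralizer_singleton_iff] at hai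
      rw [← mul_smul, ← hai, mul_smul, hzα]
  -- the normaliser
  have hN : ∀ n ∈ Subgroup.normalizer (A : Set (Cfsg.Sz F m)), z • (n • α) = n • α := by
    intro n hn
    apply smul_of_conj_mem
    apply hAα
    have hn' := (Subgroup.normalizer (A : Set (Cfsg.Sz F m))).inv_mem hn
    have hzA : z ∈ A := by
      rw [hA]; exact Subgroup.mem_centralizer_singleton_iff.mpr rfl
    have := (Subgroup.mem_normalizer_iff.mp hn' z).mp hzA
    rwa [inv_inv] at this
  have h1 := card_le_two_mul z hfz α _ hN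
  have h2 : Nat.card (Subgroup.normalizer (A : Set (Cfsg.Sz F m))) = 4 * Nat.card A := by
    rw [hA]; exact card_normalizer_fpf hm hF hz
  obtain ⟨K, hK⟩ : ∃ K : Subgroup (Cfsg.Sz F m),
      K = Subgroup.normalizer (A : Set (Cfsg.Sz F m)) ⊓ stabilizer (Cfsg.Sz F m) α := ⟨_, rfl⟩
  rw [← hK] at h1
  have hKle : K ≤ stabilizer (Cfsg.Sz F m) α := by rw [hK]; exact inf_le_right
  have hKodd : ¬ 2 ∣ Nat.card K := by
    intro h
    haveI : Fact (Nat.Prime 2) := ⟨Nat.prime_two⟩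
    obtain ⟨x, hx⟩ := exists_prime_orderOf_dvd_card' (G := K) 2 h
    apply hno (x : Cfsg.Sz F m)
    · exact hKle x.2
    · rw [Subgroup.orderOf_coe]; exact hx
  have hKdvd : Nat.card K ∣ 4 * Nat.card A := by
    rw [← h2, hK]
    exact Subgroup.card_dvd_of_le inf_le_left
  have hcop : Nat.Coprime (Nat.card K) 4 := by
    have h' : Nat.Coprime (Nat.card K) (2 ^ 2) := by
      apply Nat.Coprime.pow_right
      exact (Nat.coprime_comm.mp ((Nat.Prime.coprime_iff_not_dvd Nat.prime_two).mpr hKodd))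
    exact h'
  have hKA : Nat.card K ∣ Nat.card A := hcop.dvd_of_dvd_mul_left hKdvd
  have hApos : 0 < Nat.card A := Nat.card_pos
  have := Nat.le_of_dvd hApos hKA
  omega

/-- the odd case: some point stabiliser is the split torus -/
theorem odd_case (hm : 1 ≤ m) (hF : Fintype.card F = 2 ^ (2 * m + 1))
    (hfix : ∀ s : Cfsg.Sz F m, s ≠ 1 → Nat.card (fixedBy Ω s) ≤ 2)
    (hno : ∀ α : Ω, ∀ t ∈ stabilizer (Cfsg.Sz F m) α, orderOf t ≠ 2)
    (α₁ : Ω) (s : Cfsg.Sz F m) (hs1 : s ≠ 1) (hsα : s • α₁ = α₁) :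
    ∃ α : Ω, ∀ y : Cfsg.Sz F m, y • α = α ↔ ∃ k : Fˣ, y = hq hF k := by
  obtain ⟨jq, hjq⟩ := card_sub_one_odd (m := m) hF
  have hnf : ∀ (α : Ω) (z : Cfsg.Sz F m), z • α = α → ¬ IsFpf z :=
    fun α z hz hf => no_fpf hm hF hfix α (hno α) z hz hf
  have hodd : ∀ (α : Ω) (y : Cfsg.Sz F m), y • α = α → ∃ j : ℕ, y ^ (2 * j + 1) = 1 :=
    fun α y hy => odd_of_no_inv _ (hno α) y (mem_stabilizer_iff.mpr hy)
  obtain ⟨js, hjs⟩ := hodd α₁ s hsα
  obtain ⟨g, k, hk1, hsg⟩ := conj_hq_of_fix hm hF s (hnf α₁ s hsα) js hjs hs1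
  refine ⟨g⁻¹ • α₁, ?_⟩
  obtain ⟨α, hα⟩ : ∃ α : Ω, α = g⁻¹ • α₁ := ⟨_, rfl⟩
  rw [← hα]
  have hx₀ : hq (m := m) hF k • α = α := by
    have := conj_smul_smul g⁻¹ s α₁
    rw [hsα, ← hα, hsg] at this
    rw [← this]
    congr 1
    group
  have hx₀1 : hq (m := m) hF k ≠ 1 := by
    intro h
    apply hk1
    apply hq_injective (m := m) hF
    rw [h, hq_one]
  have hfx := hfix _ hx₀1
  -- the torus fixes `α`
  have hT : ∀ k' : Fˣ, hq (m := m) hF k' • α = α := by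
    intro k'
    apply mem_stab_of_odd _ hfx α _ jq
    · rw [← hjq]; exact hq_pow_card hm hF k'
    · intro i
      have hc : Commute (hq (m := m) hF k) (hq hF k' ^ i) := by
        apply Commute.pow_right
        show hq hF k * hq hF k' = hq hF k' * hq hF k
        rw [hq_mul hm hF, hq_mul hm hF, mul_comm]
      rw [← mul_smul, hc.eq, mul_smul, hx₀]
  -- `w • α` is fixed by the torus element
  have hw : hq (m := m) hF k • (wq hF • α) = wq hF • α := by
    apply smul_of_conj_mem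
    rw [wq_inv, wq_hq_wq]
    exact hT _
  intro y
  constructor
  swap
  · rintro ⟨k', rfl⟩
    exact hT k'
  intro hy
  by_contra hcon
  push Not at hcon
  -- the torus as a subgroup of the stabiliser
  obtain ⟨M, hM⟩ : ∃ M : Subgroup (Cfsg.Sz F m), M = stabilizer (Cfsg.Sz F m) α := ⟨_, rfl⟩
  have hMmem : ∀ u : Cfsg.Sz F m, u ∈ M ↔ u • α = α := by
    intro u; rw [hM, mem_stabilizer_iff]
  let Tm : Subgroup M := ((hqHom hm hF).range).subgroupOf M
  have hTm : ∀ u : M, u ∈ Tm ↔ ∃ k' : Fˣ, (u : Cfsg.Sz F m) = hq hF k' := by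
    intro u
    rw [Subgroup.mem_subgroupOf, MonoidHom.mem_range]
    constructor
    · rintro ⟨k', hk'⟩
      exact ⟨k', hk'.symm⟩
    · rintro ⟨k', hk'⟩
      exact ⟨k', hk'.symm⟩
  have hTmtop : Tm ≠ ⊤ := by
    intro h
    have : (⟨y, (hMmem y).mpr hy⟩ : M) ∈ Tm := by rw [h]; trivial
    obtain ⟨k', hk'⟩ := (hTm _).mp this
    exact hcon k' hk'
  obtain ⟨⟨y', hy'M⟩, hy'⟩ := Cfsg.Agent.S4387.exists_not_mem_conj Tm hTmtop
  have hy'α : y' • α = α := (hMmem y').mp hy'M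
  -- membership in a conjugate
  have hconjmem : ∀ (n : Cfsg.Sz F m) (hn : n ∈ M) (k' : Fˣ), y' = n * hq hF k' * n⁻¹ → False := by
    intro n hn k' h
    apply hy' ⟨n, hn⟩
    rw [Subgroup.mem_smul_pointwise_iff_exists]
    refine ⟨⟨hq hF k', (hMmem _).mpr (hT k')⟩, (hTm _).mpr ⟨k', rfl⟩, ?_⟩
    apply Subtype.ext
    rw [MulAut.smul_def, MulAut.conj_apply]
    exact h.symm
  have hy'1 : y' ≠ 1 := by
    rintro rfl
    apply hconjmem 1 M.one_mem 1
    rw [hq_one]; group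
  obtain ⟨jy, hjy⟩ := hodd α y' hy'α
  obtain ⟨g₂, k₂, hk₂, hyg⟩ := conj_hq_of_fix hm hF y' (hnf α y' hy'α) jy hjy hy'1
  have hfy := hfix _ hy'1
  -- the torus of `y'` fixes `α`
  have hTy : ∀ k' : Fˣ, (g₂ * hq hF k' * g₂⁻¹) • α = α := by
    intro k'
    apply mem_stab_of_odd _ hfy α _ jq
    · rw [conj_pow, ← hjq, hq_pow_card hm hF]; group
    · intro i
      have hc : Commute y' ((g₂ * hq hF k' * g₂⁻¹) ^ i) := by
        apply Commute.pow_right
        rw [hyg]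
        show g₂ * hq hF k₂ * g₂⁻¹ * (g₂ * hq hF k' * g₂⁻¹) = g₂ * hq hF k' * g₂⁻¹ * (g₂ * hq hF k₂ * g₂⁻¹)
        have e1 : g₂ * hq hF k₂ * g₂⁻¹ * (g₂ * hq hF k' * g₂⁻¹) = g₂ * (hq hF k₂ * hq hF k') * g₂⁻¹ := by
          group
        have e2 : g₂ * hq hF k' * g₂⁻¹ * (g₂ * hq hF k₂ * g₂⁻¹) = g₂ * (hq hF k' * hq hF k₂) * g₂⁻¹ := by
          group
        rw [e1, e2, hq_mul hm hF, hq_mul hm hF, mul_comm]
      rw [← mul_smul, hc.eq, mul_smul, hy'α]
  have hg₂ : hq (m := m) hF k • (g₂⁻¹ • α) = g₂⁻¹ • α := by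
    apply smul_of_conj_mem
    rw [inv_inv]
    exact hTy k
  rcases pigeon _ hfx α (wq hF • α) (g₂⁻¹ • α) hx₀ hw hg₂ with e | e | e
  · exact hno α (wq hF) (mem_stabilizer_iff.mpr e.symm) (orderOf_wq hF)
  · apply hconjmem g₂ _ k₂ hyg
    rw [hMmem]
    have := congrArg (fun ω => g₂ • ω) e
    simp only [smul_inv_smul] at this
    exact this
  · have hn : g₂ * wq hF ∈ M := by
      rw [hMmem, mul_smul, e, smul_inv_smul]
    apply hconjmem (g₂ * wq hF) hn k₂⁻¹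
    rw [hyg, ← wq_hq_wq hF k₂]
    have : (g₂ * wq hF)⁻¹ = wq hF * g₂⁻¹ := by rw [_root_.mul_inv_rev, wq_inv]
    rw [this]
    have e1 : g₂ * wq hF * (wq hF * hq hF k₂ * wq hF) * (wq hF * g₂⁻¹) =
        g₂ * (wq hF * wq hF) * hq hF k₂ * (wq hF * wq hF) * g₂⁻¹ := by group
    rw [e1, wq_mul_wq, mul_one, mul_one]

end action

end Cfsg.Agent.helper11.Sz
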