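import Mathlib
import Cfsg.Agent.S3893

set_option autoImplicit false

/-!
# Suzuki groups, part 26: the homomorphism `Sz(K) → Sz(F)` induced by a field embedding
-/

namespace Cfsg.Agent.helper11.Sz

open Matrix Cfsg.Agent.S0326 Cfsg.Agent.S3893

variable {K : Type*} [Field K] [CharP K 2] [Fintype K] {k : ℕ}
variable {F : Type*} [Field F] [CharP F 2] [Fintype F] {m : ℕ}

/-- compatibility of a ring homomorphism with the Tits endomorphisms -/
def Compat (k m : ℕ) (ι : K →+* F) : Prop := ∀ x : K, ι (th K k x) = th F m (ι x)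

omit [Fintype K] [Fintype F] in
theorem compat_of_pow (ι : K →+* F) (h : ∀ x : K, x ^ 2 ^ (m + 1) = x ^ 2 ^ (k + 1)) :
    Compat k m ι := by
  intro x
  rw [th_apply, th_apply, ← h x, map_pow]

omit [Fintype K] [Fintype F] in
theorem Compat.pow {ι : K →+* F} (hc : Compat k m ι) (x : K) :
    (ι x) ^ 2 ^ k = (ι x) ^ 2 ^ m := by
  haveI : Fact (Nat.Prime 2) := ⟨Nat.prime_two⟩
  have h1 := hc x
  rw [th_apply, th_apply, map_pow, pow_succ, pow_succ, pow_mul, pow_mul] at h1
  apply frobenius_inj F 2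
  rw [frobenius_def, frobenius_def]
  exact h1

omit [Fintype K] [Fintype F] in
theorem Tm_map (ι : K →+* F) (hc : Compat k m ι) (a b : K) :
    (Tm k a b).map ι = Tm m (ι a) (ι b) := by
  have hc' : ∀ x : K, ι (th K k x) = th F m (ι x) := hc
  ext i j
  fin_cases i <;> fin_cases j <;> simp [Tm, ff_eq, hc']

omit [Fintype K] [Fintype F] in
theorem Hm_map (ι : K →+* F) (hc : Compat k m ι) (u : K) :
    (Hm k u).map ι = Hm m (ι u) := by
  have h1 := hc.pow u
  have h2 := hc.pow u⁻¹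
  rw [map_inv₀] at h2
  ext i j
  fin_cases i <;> fin_cases j <;>
    simp [Hm, Matrix.diagonal, pow_succ, h1, h2]

omit [CharP K 2] [CharP F 2] [Fintype K] [Fintype F] in
theorem wm_map (ι : K →+* F) : (wm : Matrix (Fin 4) (Fin 4) K).map ι = wm := by
  ext i j
  fin_cases i <;> fin_cases j <;> simp [wm]

omit [Fintype K] [Fintype F] in
theorem map_Ts (ι : K →+* F) (hc : Compat k m ι) (a b : K) :
    Matrix.SpecialLinearGroup.map ι (Ts k a b) = Ts m (ι a) (ι b) := by
  apply Subtype.ext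
  rw [Matrix.SpecialLinearGroup.map_apply_coe, RingHom.mapMatrix_apply, coe_Ts, coe_Ts,
    Tm_map ι hc]

omit [Fintype K] [Fintype F] in
theorem map_Hs (ι : K →+* F) (hc : Compat k m ι) (u : Kˣ) :
    Matrix.SpecialLinearGroup.map ι (Hs k u) = Hs m (Units.map (ι : K →* F) u) := by
  apply Subtype.ext
  rw [Matrix.SpecialLinearGroup.map_apply_coe, RingHom.mapMatrix_apply, coe_Hs, coe_Hs,
    Hm_map ι hc]
  rfl

omit [Fintype K] [Fintype F] in
theorem map_ws (ι : K →+* F) :
    Matrix.SpecialLinearGroup.map ι (ws : SpecialLinearGroup (Fin 4) K) = ws := by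
  apply Subtype.ext
  rw [Matrix.SpecialLinearGroup.map_apply_coe, RingHom.mapMatrix_apply, coe_ws, coe_ws, wm_map]

theorem map_mem (hk : 1 ≤ k) (hK : Fintype.card K = 2 ^ (2 * k + 1))
    (hF : Fintype.card F = 2 ^ (2 * m + 1)) (ι : K →+* F) (hc : Compat k m ι)
    (g : SpecialLinearGroup (Fin 4) K) (hg : g ∈ Cfsg.Sz K k) :
    Matrix.SpecialLinearGroup.map ι g ∈ Cfsg.Sz F m := by
  rcases bruhat hk hK g hg with ⟨a, b, u, h⟩ | ⟨a, b, a', b', u, h⟩
  · rw [h, map_mul, map_Ts ι hc, map_Hs ι hc]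
    exact Subgroup.mul_mem _ (Ts_mem hF _ _) (Hs_mem hF _)
  · rw [h, map_mul, map_mul, map_mul, map_Ts ι hc, map_Ts ι hc, map_Hs ι hc, map_ws]
    exact Subgroup.mul_mem _ (Subgroup.mul_mem _ (Subgroup.mul_mem _ (Ts_mem hF _ _) (ws_mem hF))
      (Ts_mem hF _ _)) (Hs_mem hF _)

/-- the homomorphism `Sz(K) → Sz(F)` induced by a (compatible) field embedding -/
noncomputable def szMap (hk : 1 ≤ k) (hK : Fintype.card K = 2 ^ (2 * k + 1))
    (hF : Fintype.card F = 2 ^ (2 * m + 1)) (ι : K →+* F) (hc : Compat k m ι) :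
    Cfsg.Sz K k →* Cfsg.Sz F m :=
  ((Matrix.SpecialLinearGroup.map ι).comp (Cfsg.Sz K k).subtype).codRestrict (Cfsg.Sz F m)
    (fun g => map_mem hk hK hF ι hc g.1 g.2)

theorem coe_szMap (hk : 1 ≤ k) (hK : Fintype.card K = 2 ^ (2 * k + 1))
    (hF : Fintype.card F = 2 ^ (2 * m + 1)) (ι : K →+* F) (hc : Compat k m ι) (g : Cfsg.Sz K k) :
    ((szMap hk hK hF ι hc g : Cfsg.Sz F m) : SpecialLinearGroup (Fin 4) F) =
      Matrix.SpecialLinearGroup.map ι g.1 := rfl

theorem szMap_tq (hk : 1 ≤ k) (hK : Fintype.card K = 2 ^ (2 * k + 1))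
    (hF : Fintype.card F = 2 ^ (2 * m + 1)) (ι : K →+* F) (hc : Compat k m ι) (a b : K) :
    szMap hk hK hF ι hc (tq hK a b) = tq hF (ι a) (ι b) :=
  Subtype.ext (map_Ts ι hc a b)

theorem szMap_hq (hk : 1 ≤ k) (hK : Fintype.card K = 2 ^ (2 * k + 1))
    (hF : Fintype.card F = 2 ^ (2 * m + 1)) (ι : K →+* F) (hc : Compat k m ι) (u : Kˣ) :
    szMap hk hK hF ι hc (hq hK u) = hq hF (Units.map (ι : K →* F) u) :=
  Subtype.ext (map_Hs ι hc u)

theorem szMap_wq (hk : 1 ≤ k) (hK : Fintype.card K = 2 ^ (2 * k + 1))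
    (hF : Fintype.card F = 2 ^ (2 * m + 1)) (ι : K →+* F) (hc : Compat k m ι) :
    szMap hk hK hF ι hc (wq hK) = wq hF :=
  Subtype.ext (map_ws ι)

theorem szMap_injective (hk : 1 ≤ k) (hK : Fintype.card K = 2 ^ (2 * k + 1))
    (hF : Fintype.card F = 2 ^ (2 * m + 1)) (ι : K →+* F) (hc : Compat k m ι) :
    Function.Injective (szMap hk hK hF ι hc) := by
  intro g g' h
  have h1 : Matrix.SpecialLinearGroup.map ι g.1 = Matrix.SpecialLinearGroup.map ι g'.1 :=
    congrArg Subtype.val h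
  apply Subtype.ext
  apply Subtype.ext
  ext i j
  have h2 := congrArg (fun A : SpecialLinearGroup (Fin 4) F => (A : Matrix (Fin 4) (Fin 4) F) i j) h1
  simp only [Matrix.SpecialLinearGroup.map_apply_coe, RingHom.mapMatrix_apply, Matrix.map_apply] at h2
  exact ι.injective h2

/-- sharpened conjugation of `T(a, b) H(u)` into the torus -/
theorem exists_conj_hq' (hm : 1 ≤ m) (hF : Fintype.card F = 2 ^ (2 * m + 1)) (a b : F) (u : Fˣ)
    (hu : u ≠ 1) :
    ∃ x y : F, (tq hF x y)⁻¹ * (tq hF a b * hq hF u) * tq hF x y = hq hF u := by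
  have h2 : ∀ z : F, z + z = 0 := CharTwo.add_self_eq_zero
  have hk1 : (1 : F) + u ≠ 0 := by
    intro h
    apply hu
    apply Units.ext
    rw [Units.val_one]
    have := congrArg (fun z => z + 1) h
    simp only [zero_add] at this
    rw [add_comm 1 (u : F), add_assoc, h2, add_zero] at this
    exact this
  have hk2 : (1 : F) + th F m u * u ≠ 0 := by
    intro h
    apply hu
    apply Hs_fix_imp hF u 0 1 (fun h => one_ne_zero h.2)
    rw [Hs_smul_some hF, mul_zero, mul_one]
    congr 3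
    have := congrArg (fun z => z + 1) h
    simp only [zero_add] at this
    rw [add_comm 1 _, add_assoc, h2, add_zero] at this
    exact this
  set x := a / (1 + u) with hx
  set y := (b + th F m a * (u * x)) / (1 + th F m u * u) with hy
  have ex : (u : F) * x + a = x := by
    rw [hx]
    field_simp
    grind
  have ey : th F m u * u * y + b + th F m a * (u * x) = y := by
    have : y * (1 + th F m u * u) = b + th F m a * (u * x) := by
      rw [hy]
      exact div_mul_cancel₀ _ hk2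
    grind
  set g'' := (tq hF x y)⁻¹ * (tq hF a b * hq hF u) * tq hF x y with hg''
  have f1 : (g'' : SpecialLinearGroup (Fin 4) F) • param (F := F) m none = param m none := by
    show ((Ts m x y)⁻¹ * (Ts m a b * Hs m u) * Ts m x y) • param (F := F) m none = param m none
    rw [mul_smul, mul_smul, mul_smul, Ts_smul_inf, Hs_smul_inf, Ts_smul_inf, inv_smul_eq_iff,
      Ts_smul_inf]
  have f2 : (g'' : SpecialLinearGroup (Fin 4) F) • param (F := F) m (some (0, 0)) =
      param m (some (0, 0)) := by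
    show ((Ts m x y)⁻¹ * (Ts m a b * Hs m u) * Ts m x y) • param (F := F) m (some (0, 0)) = _
    rw [mul_smul, mul_smul, mul_smul, Ts_smul_zero hF, Hs_smul_some hF, Ts_smul_some hF,
      inv_smul_eq_iff, Ts_smul_zero hF, ex, ey]
  obtain ⟨k', hk'⟩ := stab_inf_zero hm hF _ g''.2 f1 f2
  have hk'' : g'' = hq hF k' := Subtype.ext hk'
  refine ⟨x, y, ?_⟩
  rw [← hg'', hk'']
  have e1 : tq hF a b * hq hF u * tq hF x y = tq hF x y * hq hF k' := by
    rw [← hk'', hg'']; group
  have e2 : hq hF u * tq hF x y = tq hF (u * x) (th F m u * u * y) * hq hF u :=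
    Subtype.ext (Hs_Ts hm hF u x y)
  rw [mul_assoc, e2, ← mul_assoc, tq_mul hm hF] at e1
  have e3 : Ts m (a + ↑u * x) (b + th F m ↑u * ↑u * y + th F m a * (↑u * x)) * Hs m u =
      Ts m x y * Hs m k' := congrArg Subtype.val e1
  obtain ⟨-, -, huk⟩ := Ts_Hs_injective hF e3
  rw [huk]

end Cfsg.Agent.helper11.Sz
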