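import Mathlib
import Cfsg.Agent.Lib_helper11_Sz26

set_option autoImplicit false

/-!
# Suzuki groups, part 27: every embedding `Sz(K) → Sz(F)` can be conjugated into standard position
-/

namespace Cfsg.Agent.helper11.Sz

open Matrix Cfsg.Agent.S0326 Cfsg.Agent.S3893

variable {K : Type*} [Field K] [CharP K 2] [Fintype K] {k : ℕ}
variable {F : Type*} [Field F] [CharP F 2] [Fintype F] {m : ℕ}

/-- a homomorphism in standard position: it maps `Q` into `Q` and `H` into `H` -/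
def IsStd (hK : Fintype.card K = 2 ^ (2 * k + 1)) (hF : Fintype.card F = 2 ^ (2 * m + 1))
    (ψ : Cfsg.Sz K k →* Cfsg.Sz F m) : Prop :=
  (∀ a b : K, ∃ a' b' : F, ψ (tq hK a b) = tq hF a' b') ∧
    (∀ u : Kˣ, ∃ l : Fˣ, ψ (hq hK u) = hq hF l)

/-- conjugating a homomorphism -/
def cj (g : Cfsg.Sz F m) (ψ : Cfsg.Sz K k →* Cfsg.Sz F m) : Cfsg.Sz K k →* Cfsg.Sz F m :=
  (MulAut.conj g).toMonoidHom.comp ψ

omit [CharP K 2] [Fintype K] [CharP F 2] [Fintype F] in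
theorem cj_apply (g : Cfsg.Sz F m) (ψ : Cfsg.Sz K k →* Cfsg.Sz F m) (y : Cfsg.Sz K k) :
    cj g ψ y = g * ψ y * g⁻¹ := rfl

omit [CharP K 2] [Fintype K] [CharP F 2] [Fintype F] in
theorem cj_injective (g : Cfsg.Sz F m) (ψ : Cfsg.Sz K k →* Cfsg.Sz F m)
    (hψ : Function.Injective ψ) : Function.Injective (cj g ψ) := by
  intro y y' h
  rw [cj_apply, cj_apply] at h
  apply hψ
  have : ψ y = g⁻¹ * (g * ψ y * g⁻¹) * g := by group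
  rw [this, h]; group

omit [CharP K 2] [Fintype K] [CharP F 2] [Fintype F] in
theorem cj_cj (g g' : Cfsg.Sz F m) (ψ : Cfsg.Sz K k →* Cfsg.Sz F m) :
    cj g' (cj g ψ) = cj (g' * g) ψ := by
  ext y
  rw [cj_apply, cj_apply, cj_apply]
  congr 1
  group

theorem stageA1 (hk : 1 ≤ k) (hm : 1 ≤ m) (hK : Fintype.card K = 2 ^ (2 * k + 1))
    (hF : Fintype.card F = 2 ^ (2 * m + 1)) (ψ : Cfsg.Sz K k →* Cfsg.Sz F m)
    (hψ : Function.Injective ψ) : ∃ g : Cfsg.Sz F m, IsStd hK hF (cj g ψ) := by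
  haveI : Fact (Nat.Prime 2) := ⟨Nat.prime_two⟩
  have hQ2 : IsPGroup 2 (Qs hk hK) := (Qsyl hk hK).isPGroup'
  obtain ⟨P', hP'⟩ := (hQ2.map ψ).exists_le_sylow
  obtain ⟨x₀, hx₀⟩ := exists_conj_tq hm hF P'
  have h1 : ∀ a b : K, ∃ a' b' : F, x₀⁻¹ * ψ (tq hK a b) * x₀ = tq hF a' b' := by
    intro a b
    have hmem : ψ (tq hK a b) ∈ (P' : Subgroup (Cfsg.Sz F m)) :=
      hP' (Subgroup.mem_map_of_mem ψ (tq_mem_Qs hk hK a b))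
    obtain ⟨a', b', h⟩ := (hx₀ _).mp hmem
    exact ⟨a', b', by rw [h]; group⟩
  obtain ⟨ζ, hζ⟩ := IsCyclic.exists_generator (α := Kˣ)
  obtain ⟨a₁, b₁, hu⟩ := h1 1 0
  obtain ⟨a₂, b₂, hu'⟩ := h1 ((ζ : K) * 1) (th K k ζ * ζ * 0)
  have hne : ¬ (a₂ = 0 ∧ b₂ = 0) := by
    rintro ⟨rfl, rfl⟩
    rw [tq_zero hm hF] at hu'
    have e1 : ψ (tq hK ((ζ : K) * 1) (th K k ζ * ζ * 0)) = 1 := by
      have : ψ (tq hK ((ζ : K) * 1) (th K k ζ * ζ * 0)) =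
          x₀ * (x₀⁻¹ * ψ (tq hK ((ζ : K) * 1) (th K k ζ * ζ * 0)) * x₀) * x₀⁻¹ := by group
      rw [this, hu']; group
    have e2 := hψ (e1.trans (map_one ψ).symm)
    rw [tq_eq_one_iff hk hK] at e2
    exact ζ.ne_zero (by simpa using e2.1)
  have hcomm : tq hF a₂ b₂ * (x₀⁻¹ * ψ (hq hK ζ) * x₀) =
      (x₀⁻¹ * ψ (hq hK ζ) * x₀) * tq hF a₁ b₁ := by
    rw [← hu, ← hu', ← hq_tq_conj hk hK, map_mul, map_mul, map_inv]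
    group
  obtain ⟨o, ho⟩ := smul_mem_ovoid (x₀⁻¹ * ψ (hq hK ζ) * x₀).1 (x₀⁻¹ * ψ (hq hK ζ) * x₀).2 none
  have hfix : Ts m a₂ b₂ • param m o = param m o := by
    have e' : Ts m a₂ b₂ * (x₀⁻¹ * ψ (hq hK ζ) * x₀).1 = (x₀⁻¹ * ψ (hq hK ζ) * x₀).1 * Ts m a₁ b₁ :=
      congrArg Subtype.val hcomm
    rw [← ho, ← mul_smul, e', mul_smul, Ts_smul_inf]
  have ho' := (Ts_fix_iff hF a₂ b₂ hne o).mp hfix
  subst ho'
  obtain ⟨a, b, l, hl⟩ := stab_inf' hm hF _ ho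
  have hl1 : l ≠ 1 := by
    rintro rfl
    rw [hq_one, mul_one] at hl
    have h4 : (x₀⁻¹ * ψ (hq hK ζ) * x₀) * (x₀⁻¹ * ψ (hq hK ζ) * x₀) *
        ((x₀⁻¹ * ψ (hq hK ζ) * x₀) * (x₀⁻¹ * ψ (hq hK ζ) * x₀)) = 1 := by
      rw [hl, tq_sq hm hF, tq_zero_sq hm hF]
    have h5 : ψ (hq hK (ζ * ζ * (ζ * ζ))) = 1 := by
      rw [← hq_mul hk hK, ← hq_mul hk hK, map_mul, map_mul]
      have : ψ (hq hK ζ) * ψ (hq hK ζ) * (ψ (hq hK ζ) * ψ (hq hK ζ)) =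
          x₀ * ((x₀⁻¹ * ψ (hq hK ζ) * x₀) * (x₀⁻¹ * ψ (hq hK ζ) * x₀) *
            ((x₀⁻¹ * ψ (hq hK ζ) * x₀) * (x₀⁻¹ * ψ (hq hK ζ) * x₀))) * x₀⁻¹ := by group
      rw [this, h4]; group
    have h6 := hψ (h5.trans (map_one ψ).symm)
    have h7 : ζ * ζ * (ζ * ζ) = 1 := hq_injective hK (h6.trans (hq_one hK).symm)
    have h8 : ζ ^ 4 = 1 := by
      calc ζ ^ 4 = ζ * ζ * (ζ * ζ) := by
            simp only [pow_succ, pow_zero, one_mul, mul_assoc]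
        _ = 1 := h7
    have h9 : orderOf ζ ∣ 4 := orderOf_dvd_of_pow_eq_one h8
    rw [orderOf_eq_card_of_forall_mem_zpowers hζ, Nat.card_units, Nat.card_eq_fintype_card, hK] at h9
    have h10 : 2 ^ 3 ≤ 2 ^ (2 * k + 1) := Nat.pow_le_pow_right (by norm_num) (by omega)
    have := Nat.le_of_dvd (by norm_num) h9
    omega
  obtain ⟨x, y, hxy⟩ := exists_conj_hq' hm hF a b l hl1
  refine ⟨(tq hF x y)⁻¹ * x₀⁻¹, ?_, ?_⟩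
  · intro a b
    obtain ⟨a', b', h⟩ := h1 a b
    have e1 : cj ((tq hF x y)⁻¹ * x₀⁻¹) ψ (tq hK a b) = (tq hF x y)⁻¹ * tq hF a' b' * tq hF x y := by
      rw [cj_apply, ← h]; group
    obtain ⟨a'', b'', h''⟩ := (mem_Qs hm hF _).mp ((Qs hm hF).mul_mem ((Qs hm hF).mul_mem
      ((Qs hm hF).inv_mem (tq_mem_Qs hm hF x y)) (tq_mem_Qs hm hF a' b')) (tq_mem_Qs hm hF x y))
    exact ⟨a'', b'', e1.trans h''⟩
  · intro u
    obtain ⟨j, rfl⟩ := Subgroup.mem_zpowers_iff.mp (hζ u)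
    refine ⟨l ^ j, ?_⟩
    have key : ((cj ((tq hF x y)⁻¹ * x₀⁻¹) ψ).comp (hqHom hk hK)) ζ = hqHom hm hF l := by
      show cj ((tq hF x y)⁻¹ * x₀⁻¹) ψ (hq hK ζ) = hq hF l
      rw [cj_apply]
      have : (tq hF x y)⁻¹ * x₀⁻¹ * ψ (hq hK ζ) * ((tq hF x y)⁻¹ * x₀⁻¹)⁻¹ =
          (tq hF x y)⁻¹ * (x₀⁻¹ * ψ (hq hK ζ) * x₀) * tq hF x y := by group
      rw [this, hl, hxy]
    show ((cj ((tq hF x y)⁻¹ * x₀⁻¹) ψ).comp (hqHom hk hK)) (ζ ^ j) = hqHom hm hF (l ^ j)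
    rw [map_zpow, map_zpow, key]

theorem stageA (hk : 1 ≤ k) (hm : 1 ≤ m) (hK : Fintype.card K = 2 ^ (2 * k + 1))
    (hF : Fintype.card F = 2 ^ (2 * m + 1)) (ψ : Cfsg.Sz K k →* Cfsg.Sz F m)
    (hψ : Function.Injective ψ) :
    ∃ g : Cfsg.Sz F m, IsStd hK hF (cj g ψ) ∧ ∃ c : F, cj g ψ (tq hK 1 0) = tq hF 1 c := by
  obtain ⟨g₁, hstd⟩ := stageA1 hk hm hK hF ψ hψ
  have hinj := cj_injective g₁ ψ hψ
  obtain ⟨a₀, c₀, h0⟩ := hstd.1 1 0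
  have ha₀ : a₀ ≠ 0 := by
    rintro rfl
    have e := congrArg (cj g₁ ψ) (tq_sq hk hK 1 0)
    rw [map_mul, h0, tq_zero_sq hm hF] at e
    have e' := hinj (e.symm.trans (map_one _).symm)
    rw [tq_eq_one_iff hk hK] at e'
    simp at e'
  set u₀ : Fˣ := Units.mk0 a₀ ha₀ with hu₀
  refine ⟨hq hF u₀⁻¹ * g₁, ⟨?_, ?_⟩, ?_⟩
  · intro a b
    obtain ⟨a', b', h⟩ := hstd.1 a b
    refine ⟨((u₀⁻¹ : Fˣ) : F) * a', th F m ((u₀⁻¹ : Fˣ) : F) * ((u₀⁻¹ : Fˣ) : F) * b', ?_⟩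
    rw [← cj_cj, cj_apply, h, hq_tq_conj hm hF]
  · intro u
    obtain ⟨l, h⟩ := hstd.2 u
    refine ⟨l, ?_⟩
    rw [← cj_cj, cj_apply, h, hq_inv hm hF, hq_mul hm hF, hq_mul hm hF]
    congr 1
    rw [inv_inv, mul_comm, ← mul_assoc, mul_inv_cancel, one_mul]
  · refine ⟨th F m ((u₀⁻¹ : Fˣ) : F) * ((u₀⁻¹ : Fˣ) : F) * c₀, ?_⟩
    rw [← cj_cj, cj_apply, h0, hq_tq_conj hm hF]
    congr 1
    rw [hu₀, Units.val_inv_eq_inv_val, Units.val_mk0, inv_mul_cancel₀ ha₀]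

end Cfsg.Agent.helper11.Sz
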