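import Mathlib
import Cfsg.Agent.Lib_helper11_Sz27

set_option autoImplicit false

/-!
# Suzuki groups, part 28: every embedding `Sz(K) → Sz(F)` is a field embedding followed by a
conjugation
-/

namespace Cfsg.Agent.helper11.Sz

open Matrix Cfsg.Agent.S0326 Cfsg.Agent.S3893

variable {K : Type*} [Field K] [CharP K 2] [Fintype K] {k : ℕ}
variable {F : Type*} [Field F] [CharP F 2] [Fintype F] {m : ℕ}

set_option maxHeartbeats 1000000 in
theorem stageB (hk : 1 ≤ k) (hm : 1 ≤ m) (hK : Fintype.card K = 2 ^ (2 * k + 1))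
    (hF : Fintype.card F = 2 ^ (2 * m + 1))
    (hcomp : ∀ x : K, x ^ 2 ^ (m + 1) = x ^ 2 ^ (k + 1))
    (ψ : Cfsg.Sz K k →* Cfsg.Sz F m) (hψ : Function.Injective ψ) (hstd : IsStd hK hF ψ)
    (h10 : ∃ c : F, ψ (tq hK 1 0) = tq hF 1 c) :
    ∃ (ι : K →+* F) (hc : Compat k m ι), ∀ y, ψ y = szMap hk hK hF ι hc y := by
  have h2K : ∀ z : K, z + z = 0 := CharTwo.add_self_eq_zero
  have h2 : ∀ z : F, z + z = 0 := CharTwo.add_self_eq_zero
  obtain ⟨hQ, hH⟩ := hstd
  choose A C hAC using hQ
  choose ρ hρ using hH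
  obtain ⟨c₁, hc₁⟩ := h10
  have hA10 : A 1 0 = 1 := (tq_injective hF ((hAC 1 0).symm.trans hc₁)).1
  -- multiplicativity
  have hM : ∀ a b a' b' : K, A (a + a') (b + b' + th K k a * a') = A a b + A a' b' ∧
      C (a + a') (b + b' + th K k a * a') = C a b + C a' b' + th F m (A a b) * A a' b' := by
    intro a b a' b'
    have e := congrArg ψ (tq_mul hk hK a b a' b')
    rw [map_mul, hAC, hAC, hAC, tq_mul hm hF] at e
    exact tq_injective hF e.symm
  have hA0 : ∀ b : K, A 0 b = 0 := by
    intro b
    have e := congrArg ψ (tq_zero_sq hk hK b)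
    rw [map_mul, hAC, map_one, tq_sq hm hF, tq_eq_one_iff hm hF] at e
    rcases mul_eq_zero.mp e.2 with h | h
    · exact th_eq_zero.mp h
    · exact h
  have h00 : A 0 0 = 0 ∧ C 0 0 = 0 := by
    have e := congrArg ψ (tq_zero hk hK)
    rw [hAC, map_one, tq_eq_one_iff hm hF] at e
    exact e
  have hA : ∀ a b : K, A a b = A a 0 := by
    intro a b
    have := (hM a 0 0 b).1
    simp only [add_zero, zero_add, mul_zero] at this
    rw [this, hA0, add_zero]
  have hC : ∀ a b : K, C a b = C a 0 + C 0 b := by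
    intro a b
    have := (hM a 0 0 b).2
    simp only [add_zero, zero_add, mul_zero] at this
    rw [this, hA0, mul_zero, add_zero]
  have hαadd : ∀ a a' : K, A (a + a') 0 = A a 0 + A a' 0 := fun a a' =>
    (hA _ _).symm.trans (hM a 0 a' 0).1
  have hαinj : ∀ a : K, A a 0 = 0 → a = 0 := by
    intro a ha
    have e := congrArg ψ (tq_sq hk hK a 0)
    rw [map_mul, hAC a 0, ha, tq_zero_sq hm hF] at e
    have e' := hψ (e.symm.trans (map_one ψ).symm)
    rw [tq_eq_one_iff hk hK] at e'
    rcases mul_eq_zero.mp e'.2 with h | h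
    · exact th_eq_zero.mp h
    · exact h
  have hE : ∀ (u : Kˣ) (a b : K), A ((u : K) * a) 0 = (ρ u : F) * A a 0 ∧
      C ((u : K) * a) (th K k u * u * b) = th F m (ρ u) * ρ u * C a b := by
    intro u a b
    have e := congrArg ψ (hq_tq_conj hk hK u a b)
    rw [map_mul, map_mul, map_inv, hρ, hAC, hAC, hq_tq_conj hm hF] at e
    have e' := tq_injective hF e
    rw [hA a b, hA ((u : K) * a) _] at e'
    exact ⟨e'.1.symm, e'.2.symm⟩
  have hρα : ∀ u : Kˣ, (ρ u : F) = A (u : K) 0 := by
    intro u
    have := (hE u 1 0).1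
    rw [mul_one, hA10, mul_one] at this
    exact this.symm
  have hαmul : ∀ x y : K, A (x * y) 0 = A x 0 * A y 0 := by
    intro x y
    by_cases hx : x = 0
    · subst hx
      rw [zero_mul, h00.1, zero_mul]
    · have := (hE (Units.mk0 x hx) y 0).1
      rw [hρα] at this
      simpa using this
  let ι : K →+* F :=
    { toFun := fun a => A a 0
      map_one' := hA10
      map_mul' := hαmul
      map_zero' := h00.1
      map_add' := hαadd }
  have hι : ∀ a : K, ι a = A a 0 := fun a => rfl
  have hc : Compat k m ι := compat_of_pow ι hcomp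
  have hβ : ∀ b : K, C 0 b = ι b := by
    intro b
    obtain ⟨c, hcb⟩ := mul_th_surjective hK b
    simp only at hcb
    have e := congrArg ψ (tq_sq hk hK c 0)
    rw [map_mul, hAC c 0, tq_sq hm hF, hAC] at e
    have e' := (tq_injective hF e).2
    rw [← hcb, mul_comm c, ← e', map_mul, hc c, hι]
  have hγadd : ∀ a a' : K, C (a + a') 0 = C a 0 + C a' 0 := by
    intro a a'
    have e := (hM a 0 a' 0).2
    simp only [add_zero, zero_add] at e
    rw [hC (a + a') _, hβ, map_mul, hc a, hι, hι] at e
    exact add_right_cancel e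
  have hEγ : ∀ (u : Kˣ) (a : K), C ((u : K) * a) 0 = th F m (ρ u) * ρ u * C a 0 := by
    intro u a
    have := (hE u a 0).2
    rw [mul_zero] at this
    exact this
  obtain ⟨c₀, hc0, hc1, hcth⟩ := exists_th_ne hk hK
  have hc01 : c₀ + 1 ≠ 0 := by
    intro h
    apply hc1
    have := congrArg (fun z => z + 1) h
    simp only [zero_add, add_assoc, h2K, add_zero] at this
    exact this
  have hγ1 : C 1 0 = 0 := by
    have e1 := hEγ (Units.mk0 c₀ hc0) 1
    have e2 := hEγ (Units.mk0 (c₀ + 1) hc01) 1
    rw [mul_one, hρα] at e1 e2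
    simp only [Units.val_mk0] at e1 e2
    rw [hγadd, hαadd, hA10, e1, map_add, map_one] at e2
    have e3 : (th F m (A c₀ 0) + A c₀ 0) * C 1 0 = 0 := by linear_combination (-1 : F) * e2
    have hr : th F m (A c₀ 0) + A c₀ 0 ≠ 0 := by
      rw [← hι, ← hc c₀, ← map_add]
      intro h
      have h' := ι.injective (h.trans (map_zero ι).symm)
      apply hcth
      have := congrArg (fun z => z + c₀) h'
      simp only [zero_add, add_assoc, h2K, add_zero] at this
      exact this
    rcases mul_eq_zero.mp e3 with h | h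
    · exact absurd h hr
    · exact h
  have hγ0 : ∀ a : K, C a 0 = 0 := by
    intro a
    by_cases ha : a = 0
    · subst ha; exact h00.2
    · have := hEγ (Units.mk0 a ha) 1
      rw [hγ1, mul_zero, mul_one] at this
      simpa using this
  have hT : ∀ a b : K, ψ (tq hK a b) = tq hF (ι a) (ι b) := by
    intro a b
    rw [hAC, hA, hC, hγ0, hβ, zero_add]
    rfl
  have hρι : ∀ u : Kˣ, ρ u = Units.map (ι : K →* F) u := by
    intro u
    apply Units.ext
    rw [hρα]
    rfl
  have hHH : ∀ u : Kˣ, ψ (hq hK u) = hq hF (Units.map (ι : K →* F) u) := by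
    intro u
    rw [hρ, hρι]
  -- the involution
  have htt : ψ (wq hK) * ψ (wq hK) = 1 := by rw [← map_mul, wq_mul_wq, map_one]
  have htinv : (ψ (wq hK))⁻¹ = ψ (wq hK) := inv_eq_of_mul_eq_one_left htt
  have hinv : ∀ u : Kˣ, ψ (wq hK) * hq hF (Units.map (ι : K →* F) u) * ψ (wq hK) =
      hq hF (Units.map (ι : K →* F) u)⁻¹ := by
    intro u
    have e := congrArg ψ (wq_hq_wq hK u)
    rw [map_mul, map_mul, hHH, hHH, map_inv] at e
    exact e
  set r : Fˣ := Units.map (ι : K →* F) (Units.mk0 c₀ hc0) with hr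
  have hr1 : r ≠ 1 := by
    intro h
    have h' := congrArg Units.val h
    rw [hr, Units.coe_map, Units.val_mk0, Units.val_one] at h'
    exact hc1 (ι.injective (h'.trans (map_one ι).symm))
  have hconj : ∀ h ∈ Subgroup.zpowers (hq (m := m) hF r),
      ψ (wq hK) * h * (ψ (wq hK))⁻¹ ∈ Subgroup.zpowers (hq (m := m) hF r) := by
    intro h hh
    obtain ⟨j, rfl⟩ := Subgroup.mem_zpowers_iff.mp hh
    rw [← conj_zpow]
    apply Subgroup.zpow_mem
    rw [htinv, hr, hinv, ← hq_inv hm hF]
    exact Subgroup.inv_mem _ (Subgroup.mem_zpowers _)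
  have hnorm : ψ (wq hK) ∈ Subgroup.normalizer
      (Subgroup.zpowers (hq (m := m) hF r) : Set (Cfsg.Sz F m)) := by
    rw [Subgroup.mem_normalizer_iff]
    intro h
    constructor
    · exact hconj h
    · intro hh
      have := hconj _ hh
      rw [htinv] at this
      have e : ψ (wq hK) * (ψ (wq hK) * h * ψ (wq hK)) * ψ (wq hK) = h := by
        calc ψ (wq hK) * (ψ (wq hK) * h * ψ (wq hK)) * ψ (wq hK)
            = (ψ (wq hK) * ψ (wq hK)) * h * (ψ (wq hK) * ψ (wq hK)) := by group
          _ = h := by rw [htt, one_mul, mul_one]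
      rw [← e]
      exact this
  have hW : ψ (wq hK) = wq hF := by
    rcases normalizer_cases hm hF r hr1 _ hnorm with ⟨κ, hκ⟩ | ⟨κ, hκ⟩
    · exfalso
      have e1 := hinv (Units.mk0 c₀ hc0)
      rw [← hr, hκ, hq_mul hm hF, hq_mul hm hF] at e1
      have e2 := hq_injective hF e1
      have e3 := htt
      rw [hκ, hq_mul hm hF] at e3
      have e4 : κ * κ = 1 := hq_injective hF (e3.trans (hq_one hF).symm)
      have e5 : r * r = 1 := by
        have : κ * r * κ = r := by rw [mul_comm, ← mul_assoc, e4, one_mul]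
        rw [this] at e2
        calc r * r = r * r⁻¹ := by rw [← e2]
          _ = 1 := mul_inv_cancel r
      apply hr1
      apply Units.ext
      rw [Units.val_one]
      apply sq_eq_one'
      rw [pow_two, ← Units.val_mul, e5, Units.val_one]
    · -- the structure equation
      have hff : ff k (0 : K) 1 = 1 := by simp [ff]
      have hy' : ∃ (a' b' : K) (u' : Kˣ), wq hK * tq hK 0 1 * wq hK =
          tq hK 1 0 * wq hK * tq hK a' b' * hq hK u' := by
        have hval : ((wq hK * tq hK 0 1 * wq hK : Cfsg.Sz K k) :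
            SpecialLinearGroup (Fin 4) K) • param (F := K) k none = param k (some (1, 0)) := by
          show (ws * Ts k 0 1 * ws) • param (F := K) k none = _
          rw [mul_smul, mul_smul, ws_smul_inf, Ts_smul_zero hK,
            ws_smul_some hK 0 1 (by rw [hff]; exact one_ne_zero), hff]
          simp
        rcases bruhat' hk hK (wq hK * tq hK 0 1 * wq hK) with ⟨a, b, u', h⟩ | ⟨a, b, a', b', u', h⟩
        · exfalso
          rw [h] at hval
          have h' : (Ts k a b * Hs k u') • param (F := K) k none = param k (some (1, 0)) := hval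
          rw [mul_smul, Hs_smul_inf, Ts_smul_inf] at h'
          have := param_injective k h'
          simp at this
        · rw [h] at hval
          have h' : (Ts k a b * ws * Ts k a' b' * Hs k u') • param (F := K) k none =
              param k (some (1, 0)) := hval
          rw [mul_smul, mul_smul, mul_smul, Hs_smul_inf, Ts_smul_inf, ws_smul_inf,
            Ts_smul_zero hK] at h'
          have := param_injective k h'
          simp only [Option.some.injEq, Prod.mk.injEq] at this
          obtain ⟨rfl, rfl⟩ := this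
          exact ⟨a', b', u', h⟩
      obtain ⟨a', b', u', hy'⟩ := hy'
      have e := congrArg ψ hy'
      simp only [map_mul, hT, hHH, map_zero, map_one] at e
      rw [hκ] at e
      have e' := congrArg (fun g : Cfsg.Sz F m =>
        (g : SpecialLinearGroup (Fin 4) F) • param (F := F) m none) e
      have hκ0 : th F m (κ : F) * κ ≠ 0 :=
        mul_ne_zero (fun h => κ.ne_zero (th_eq_zero.mp h)) κ.ne_zero
      have hN : ff m (0 : F) (th F m κ * κ) = (κ : F) ^ 2 * th F m κ := by
        rw [ff_eq, map_mul, th_th hF]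
        simp
      have hN0 : ff m (0 : F) (th F m κ * κ) ≠ 0 := by
        rw [hN]
        exact mul_ne_zero (pow_ne_zero _ κ.ne_zero) (fun h => κ.ne_zero (th_eq_zero.mp h))
      have eL : ((wq hF * hq hF κ * tq hF 0 1 * (wq hF * hq hF κ) : Cfsg.Sz F m) :
          SpecialLinearGroup (Fin 4) F) • param (F := F) m none =
          param m (some ((th F m κ * κ) / ff m (0 : F) (th F m κ * κ),
            0 / ff m (0 : F) (th F m κ * κ))) := by
        show (ws * Hs m κ * Ts m 0 1 * (ws * Hs m κ)) • param (F := F) m none = _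
        simp only [mul_smul]
        rw [Hs_smul_inf, ws_smul_inf, Ts_smul_zero hF, Hs_smul_some hF, mul_zero, mul_one,
          ws_smul_some hF _ _ hN0]
      have eR : ((tq hF 1 0 * (wq hF * hq hF κ) * tq hF (ι a') (ι b') *
          hq hF (Units.map (ι : K →* F) u') : Cfsg.Sz F m) :
          SpecialLinearGroup (Fin 4) F) • param (F := F) m none = param m (some (1, 0)) := by
        show (Ts m 1 0 * (ws * Hs m κ) * Ts m (ι a') (ι b') * Hs m _) • param (F := F) m none = _
        simp only [mul_smul]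
        rw [Hs_smul_inf, Ts_smul_inf, Hs_smul_inf, ws_smul_inf, Ts_smul_zero hF]
      rw [eL, eR] at e'
      have e'' := param_injective m e'
      simp only [Option.some.injEq, Prod.mk.injEq] at e''
      have e3 : th F m (κ : F) * κ = 1 * ((κ : F) ^ 2 * th F m κ) := by
        rw [← hN]
        exact (div_eq_iff hN0).mp e''.1
      have e4 : (κ : F) = 1 := by
        apply mul_right_cancel₀ hκ0
        linear_combination (-1 : F) * e3
      have e5 : κ = 1 := Units.ext e4
      rw [hκ, e5, hq_one, mul_one]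
  refine ⟨ι, hc, ?_⟩
  intro y
  rcases bruhat' hk hK y with ⟨a, b, u, rfl⟩ | ⟨a, b, a', b', u, rfl⟩
  · simp only [map_mul, hT, hHH, szMap_tq, szMap_hq]
  · simp only [map_mul, hT, hHH, hW, szMap_tq, szMap_hq, szMap_wq]

/-- **Embeddings of Suzuki groups**: every injective homomorphism `Sz(K) → Sz(F)` is induced by a
field embedding, up to conjugation. -/
theorem embedding_classification (hk : 1 ≤ k) (hm : 1 ≤ m)
    (hK : Fintype.card K = 2 ^ (2 * k + 1)) (hF : Fintype.card F = 2 ^ (2 * m + 1))
    (hcomp : ∀ x : K, x ^ 2 ^ (m + 1) = x ^ 2 ^ (k + 1))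
    (ψ : Cfsg.Sz K k →* Cfsg.Sz F m) (hψ : Function.Injective ψ) :
    ∃ (g : Cfsg.Sz F m) (ι : K →+* F) (hc : Compat k m ι),
      ∀ y, g * ψ y * g⁻¹ = szMap hk hK hF ι hc y := by
  obtain ⟨g, hstd, h10⟩ := stageA hk hm hK hF ψ hψ
  obtain ⟨ι, hc, h⟩ := stageB hk hm hK hF hcomp (cj g ψ) (cj_injective g ψ hψ) hstd h10
  exact ⟨g, ι, hc, fun y => h y⟩

end Cfsg.Agent.helper11.Sz
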