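import Mathlib
import Cfsg.Agent.Lib_helper11_Sz28
import Cfsg.Agent.Lib_helper11_Sz25

set_option autoImplicit false

/-!
# Suzuki groups, part 29: the action on the ovoid at the group level, tori, subgroups of odd order
-/

namespace Cfsg.Agent.helper11.Sz

open Matrix Cfsg.Agent.S0326 Cfsg.Agent.S0327 Cfsg.Agent.S3893 MulAction

variable {F : Type*} [Field F] [CharP F 2] [Fintype F] {m : ℕ}

theorem tq_smul_inf (hF : Fintype.card F = 2 ^ (2 * m + 1)) (a b : F) :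
    tq hF a b • pt (F := F) m none = pt m none :=
  (smul_pt_eq_iff _ _ _).mpr (Ts_smul_inf a b)

theorem tq_smul_pt (hF : Fintype.card F = 2 ^ (2 * m + 1)) (a b x y : F) :
    tq hF a b • pt (F := F) m (some (x, y)) = pt m (some (x + a, y + b + th F m a * x)) :=
  (smul_pt_eq_iff _ _ _).mpr (Ts_smul_some hF a b x y)

theorem tq_smul_zero (hF : Fintype.card F = 2 ^ (2 * m + 1)) (a b : F) :
    tq hF a b • pt (F := F) m (some (0, 0)) = pt m (some (a, b)) :=
  (smul_pt_eq_iff _ _ _).mpr (Ts_smul_zero hF a b)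

theorem hq_smul_inf (hF : Fintype.card F = 2 ^ (2 * m + 1)) (k : Fˣ) :
    hq hF k • pt (F := F) m none = pt m none :=
  (smul_pt_eq_iff _ _ _).mpr (Hs_smul_inf k)

theorem hq_smul_pt (hF : Fintype.card F = 2 ^ (2 * m + 1)) (k : Fˣ) (x y : F) :
    hq hF k • pt (F := F) m (some (x, y)) = pt m (some ((k : F) * x, th F m k * k * y)) :=
  (smul_pt_eq_iff _ _ _).mpr (Hs_smul_some hF k x y)

theorem hq_smul_zero (hF : Fintype.card F = 2 ^ (2 * m + 1)) (k : Fˣ) :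
    hq hF k • pt (F := F) m (some (0, 0)) = pt m (some (0, 0)) :=
  (smul_pt_eq_iff _ _ _).mpr (Hs_smul_zero hF k)

theorem wq_smul_inf (hF : Fintype.card F = 2 ^ (2 * m + 1)) :
    wq (m := m) hF • pt (F := F) m none = pt m (some (0, 0)) :=
  (smul_pt_eq_iff _ _ _).mpr ws_smul_inf

theorem wq_smul_zero (hF : Fintype.card F = 2 ^ (2 * m + 1)) :
    wq (m := m) hF • pt (F := F) m (some (0, 0)) = pt m none :=
  (smul_pt_eq_iff _ _ _).mpr ws_smul_zero

theorem wq_smul_pt (hF : Fintype.card F = 2 ^ (2 * m + 1)) (x y : F) (hxy : ff m x y ≠ 0) :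
    wq (m := m) hF • pt (F := F) m (some (x, y)) =
      pt m (some (y / ff m x y, x / ff m x y)) :=
  (smul_pt_eq_iff _ _ _).mpr (ws_smul_some hF x y hxy)

theorem fix_inf (hm : 1 ≤ m) (hF : Fintype.card F = 2 ^ (2 * m + 1)) (g : Cfsg.Sz F m)
    (h : g • pt (F := F) m none = pt m none) :
    ∃ (a b : F) (k : Fˣ), g = tq hF a b * hq hF k :=
  stab_inf' hm hF g ((smul_pt_eq_iff _ _ _).mp h)

theorem fix_inf_zero (hm : 1 ≤ m) (hF : Fintype.card F = 2 ^ (2 * m + 1)) (g : Cfsg.Sz F m)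
    (h1 : g • pt (F := F) m none = pt m none)
    (h0 : g • pt (F := F) m (some (0, 0)) = pt m (some (0, 0))) : ∃ k : Fˣ, g = hq hF k := by
  obtain ⟨k, hk⟩ := stab_inf_zero hm hF g.1 g.2 ((smul_pt_eq_iff _ _ _).mp h1)
    ((smul_pt_eq_iff _ _ _).mp h0)
  exact ⟨k, Subtype.ext hk⟩

theorem swap_inf_zero (hm : 1 ≤ m) (hF : Fintype.card F = 2 ^ (2 * m + 1)) (g : Cfsg.Sz F m)
    (h1 : g • pt (F := F) m none = pt m (some (0, 0)))
    (h0 : g • pt (F := F) m (some (0, 0)) = pt m none) : ∃ k : Fˣ, g = wq hF * hq hF k := by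
  obtain ⟨k, hk⟩ := fix_inf_zero hm hF (wq hF * g) (by rw [mul_smul, h1, wq_smul_zero])
    (by rw [mul_smul, h0, wq_smul_inf])
  refine ⟨k, ?_⟩
  rw [← hk, ← mul_assoc, wq_mul_wq, one_mul]

theorem tq_fix_iff (hF : Fintype.card F = 2 ^ (2 * m + 1)) (a b : F) (hab : ¬ (a = 0 ∧ b = 0))
    (z : Cfsg.suzukiOvoid F m) : tq hF a b • z = z ↔ z = pt m none := by
  obtain ⟨o, rfl⟩ := exists_pt z
  rw [smul_pt_eq_iff]
  have h2 : Ts m a b • param m o = param m o ↔ o = none := Ts_fix_iff hF a b hab o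
  rw [show ((tq hF a b : Cfsg.Sz F m) : SpecialLinearGroup (Fin 4) F) = Ts m a b from rfl, h2]
  exact ⟨fun h => by rw [h], fun h => pt_injective h⟩

theorem hq_fix_cases (hF : Fintype.card F = 2 ^ (2 * m + 1)) (k : Fˣ) (hk : k ≠ 1)
    (z : Cfsg.suzukiOvoid F m) (h : hq hF k • z = z) :
    z = pt m none ∨ z = pt m (some (0, 0)) := by
  obtain ⟨o, rfl⟩ := exists_pt z
  rw [smul_pt_eq_iff] at h
  rcases Hs_fix_cases hF k hk o h with rfl | rfl
  · left; rfl
  · right; rfl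

theorem pt_some_ne (x y : F) : pt (F := F) m (some (x, y)) ≠ pt m none := by
  intro h
  have := pt_injective h
  simp at this

theorem hq_ne_one (hF : Fintype.card F = 2 ^ (2 * m + 1)) {k : Fˣ} (hk : k ≠ 1) :
    hq (m := m) hF k ≠ 1 := fun h => hk (hq_injective hF (h.trans (hq_one hF).symm))

theorem hq_comm (hm : 1 ≤ m) (hF : Fintype.card F = 2 ^ (2 * m + 1)) (k l : Fˣ) :
    hq hF k * hq hF l = hq hF l * hq (m := m) hF k := by
  rw [hq_mul hm hF, hq_mul hm hF, mul_comm]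

/-- elements conjugating a nontrivial element of `H` into `H` lie in `N(H)` -/
theorem hq_conj_cases (hm : 1 ≤ m) (hF : Fintype.card F = 2 ^ (2 * m + 1)) (n : Cfsg.Sz F m)
    (k k' : Fˣ) (hk : k ≠ 1) (h : n * hq hF k * n⁻¹ = hq hF k') :
    (∃ l : Fˣ, n = hq hF l) ∨ (∃ l : Fˣ, n = wq hF * hq hF l) := by
  have hk' : k' ≠ 1 := by
    rintro rfl
    rw [hq_one] at h
    apply hq_ne_one hF hk
    have e : hq hF k = n⁻¹ * (n * hq hF k * n⁻¹) * n := by group
    rw [e, h]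
    group
  have hfix : ∀ z : Cfsg.suzukiOvoid F m, hq hF k • z = z → hq hF k' • (n • z) = n • z := by
    intro z hz
    rw [← h, mul_smul, mul_smul, inv_smul_smul, hz]
  have h1 := hq_fix_cases hF k' hk' _ (hfix _ (hq_smul_inf hF k))
  have h0 := hq_fix_cases hF k' hk' _ (hfix _ (hq_smul_zero hF k))
  have hne : n • pt (F := F) m none ≠ n • pt m (some (0, 0)) := by
    intro e
    have := MulAction.injective n e
    exact pt_some_ne 0 0 this.symm
  rcases h1 with h1 | h1 <;> rcases h0 with h0 | h0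
  · exact absurd (h1.trans h0.symm) hne
  · left; exact fix_inf_zero hm hF n h1 h0
  · right; exact swap_inf_zero hm hF n h1 h0
  · exact absurd (h1.trans h0.symm) hne

theorem cent_conj_hq (hm : 1 ≤ m) (hF : Fintype.card F = 2 ^ (2 * m + 1)) (g : Cfsg.Sz F m)
    (k : Fˣ) (hk : k ≠ 1) (c : Cfsg.Sz F m) :
    c ∈ Subgroup.centralizer ({g * hq hF k * g⁻¹} : Set (Cfsg.Sz F m)) ↔
      ∃ l : Fˣ, c = g * hq hF l * g⁻¹ := by
  rw [Subgroup.mem_centralizer_singleton_iff]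
  constructor
  · intro hc
    obtain ⟨l, hl⟩ := centralizer_hq hm hF k hk _ (conj_commute g _ c hc)
    exact ⟨l, by rw [← hl]; group⟩
  · rintro ⟨l, rfl⟩
    have e1 : g * hq hF l * g⁻¹ * (g * hq hF k * g⁻¹) = g * (hq hF l * hq hF k) * g⁻¹ := by group
    have e2 : g * hq hF k * g⁻¹ * (g * hq hF l * g⁻¹) = g * (hq hF k * hq hF l) * g⁻¹ := by group
    rw [e1, e2, hq_comm hm hF]

/-- the centraliser of a nontrivial element of odd order is the centraliser of each of its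
nontrivial elements -/
theorem tor_cent (hm : 1 ≤ m) (hF : Fintype.card F = 2 ^ (2 * m + 1)) (x : Cfsg.Sz F m)
    (hx1 : x ≠ 1) (j : ℕ) (hj : x ^ (2 * j + 1) = 1) (y : Cfsg.Sz F m)
    (hy : y ∈ Subgroup.centralizer ({x} : Set (Cfsg.Sz F m))) (hy1 : y ≠ 1) :
    Subgroup.centralizer ({y} : Set (Cfsg.Sz F m)) = Subgroup.centralizer {x} := by
  by_cases hf : IsFpf x
  · exact cent_eq hm hF hf hy hy1
  · obtain ⟨g, k, hk, rfl⟩ := conj_hq_of_fix hm hF x hf j hj hx1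
    obtain ⟨l, rfl⟩ := (cent_conj_hq hm hF g k hk y).mp hy
    have hl : l ≠ 1 := by
      rintro rfl
      apply hy1
      rw [hq_one]
      group
    ext c
    rw [cent_conj_hq hm hF g l hl, cent_conj_hq hm hF g k hk]

theorem tor_cyc (hm : 1 ≤ m) (hF : Fintype.card F = 2 ^ (2 * m + 1)) (x : Cfsg.Sz F m)
    (hx1 : x ≠ 1) (j : ℕ) (hj : x ^ (2 * j + 1) = 1) :
    IsCyclic (Subgroup.centralizer ({x} : Set (Cfsg.Sz F m))) ∧
    (Nat.card (Subgroup.centralizer ({x} : Set (Cfsg.Sz F m))) = 2 ^ (2 * m + 1) - 1 ∨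
      Nat.card (Subgroup.centralizer ({x} : Set (Cfsg.Sz F m))) =
        2 ^ (2 * m + 1) + 2 ^ (m + 1) + 1 ∨
      Nat.card (Subgroup.centralizer ({x} : Set (Cfsg.Sz F m))) =
        2 ^ (2 * m + 1) - 2 ^ (m + 1) + 1) := by
  by_cases hf : IsFpf x
  · refine ⟨cyclic_cent hm hF hf, Or.inr ?_⟩
    have := (main hm hF).1 x hf
    rwa [cw_def] at this
  · obtain ⟨g, k, hk, rfl⟩ := conj_hq_of_fix hm hF x hf j hj hx1
    let f : Fˣ →* Cfsg.Sz F m :=
      { toFun := fun l => g * hq hF l * g⁻¹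
        map_one' := by rw [hq_one]; group
        map_mul' := fun k₁ k₂ => by rw [← hq_mul hm hF]; group }
    have hf' : Function.Injective f := by
      intro k₁ k₂ h
      have h1 : g * hq hF k₁ * g⁻¹ = g * hq hF k₂ * g⁻¹ := h
      apply hq_injective (m := m) hF
      calc hq hF k₁ = g⁻¹ * (g * hq hF k₁ * g⁻¹) * g := by group
        _ = g⁻¹ * (g * hq hF k₂ * g⁻¹) * g := by rw [h1]
        _ = hq hF k₂ := by group
    have hrange : Subgroup.centralizer ({g * hq hF k * g⁻¹} : Set (Cfsg.Sz F m)) = f.range := by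
      ext c
      rw [cent_conj_hq hm hF g k hk]
      constructor
      · rintro ⟨l, rfl⟩
        exact ⟨l, rfl⟩
      · rintro ⟨l, rfl⟩
        exact ⟨l, rfl⟩
    rw [hrange]
    refine ⟨isCyclic_of_surjective f.rangeRestrict f.rangeRestrict_surjective, Or.inl ?_⟩
    rw [← Nat.card_congr (MonoidHom.ofInjective hf').toEquiv, Nat.card_units,
      Nat.card_eq_fintype_card, hF]

theorem tor_norm (hm : 1 ≤ m) (hF : Fintype.card F = 2 ^ (2 * m + 1)) (x : Cfsg.Sz F m)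
    (hx1 : x ≠ 1) (j : ℕ) (hj : x ^ (2 * j + 1) = 1) (n : Cfsg.Sz F m)
    (hn : Commute (n * x * n⁻¹) x) :
    n ∈ Subgroup.normalizer
      ((Subgroup.centralizer ({x} : Set (Cfsg.Sz F m)) : Subgroup (Cfsg.Sz F m)) :
        Set (Cfsg.Sz F m)) := by
  have hy : n * x * n⁻¹ ∈ Subgroup.centralizer ({x} : Set (Cfsg.Sz F m)) :=
    Subgroup.mem_centralizer_singleton_iff.mpr hn.eq
  have hy1 : n * x * n⁻¹ ≠ 1 := by
    intro h
    apply hx1
    have e : x = n⁻¹ * (n * x * n⁻¹) * n := by group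
    rw [e, h]
    group
  have hc := tor_cent hm hF x hx1 j hj _ hy hy1
  rw [Subgroup.mem_normalizer_iff]
  intro h
  conv_rhs => rw [← hc]
  rw [Subgroup.mem_centralizer_singleton_iff, Subgroup.mem_centralizer_singleton_iff]
  have e1 : n * h * n⁻¹ * (n * x * n⁻¹) = n * (h * x) * n⁻¹ := by group
  have e2 : n * x * n⁻¹ * (n * h * n⁻¹) = n * (x * h) * n⁻¹ := by group
  rw [e1, e2]
  constructor
  · intro e
    rw [e]
  · intro e
    exact mul_left_cancel (mul_right_cancel e)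

theorem conj_pow' {G : Type*} [Group G] (g n : G) (k : ℕ) :
    (g⁻¹ * n * g) ^ k = g⁻¹ * n ^ k * g := by
  induction k with
  | zero => simp
  | succ k ih =>
    rw [pow_succ, ih, pow_succ]
    group

theorem tor_odd_mem (hm : 1 ≤ m) (hF : Fintype.card F = 2 ^ (2 * m + 1)) (x : Cfsg.Sz F m)
    (hx1 : x ≠ 1) (j : ℕ) (hj : x ^ (2 * j + 1) = 1) (n : Cfsg.Sz F m)
    (hn : n ∈ Subgroup.normalizer
      ((Subgroup.centralizer ({x} : Set (Cfsg.Sz F m)) : Subgroup (Cfsg.Sz F m)) :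
        Set (Cfsg.Sz F m)))
    (i : ℕ) (hi : n ^ (2 * i + 1) = 1) :
    n ∈ Subgroup.centralizer ({x} : Set (Cfsg.Sz F m)) := by
  by_cases hf : IsFpf x
  · have hcard := card_normalizer_fpf hm hF hf
    have hpos : 0 < Nat.card (Subgroup.centralizer ({x} : Set (Cfsg.Sz F m))) := Nat.card_pos
    have hidx : ((Subgroup.centralizer ({x} : Set (Cfsg.Sz F m))).subgroupOf
        (Subgroup.normalizer ((Subgroup.centralizer ({x} : Set (Cfsg.Sz F m)) :
          Subgroup (Cfsg.Sz F m)) : Set (Cfsg.Sz F m)))).index = 4 := by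
      have h1 := Subgroup.card_mul_index ((Subgroup.centralizer ({x} : Set (Cfsg.Sz F m))).subgroupOf
        (Subgroup.normalizer ((Subgroup.centralizer ({x} : Set (Cfsg.Sz F m)) :
          Subgroup (Cfsg.Sz F m)) : Set (Cfsg.Sz F m))))
      rw [Nat.card_congr (Subgroup.subgroupOfEquivOfLe Subgroup.le_normalizer).toEquiv, hcard] at h1
      nlinarith
    have h4 : n ^ 4 ∈ Subgroup.centralizer ({x} : Set (Cfsg.Sz F m)) := by
      have := Subgroup.pow_index_mem ((Subgroup.centralizer ({x} : Set (Cfsg.Sz F m))).subgroupOf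
        (Subgroup.normalizer ((Subgroup.centralizer ({x} : Set (Cfsg.Sz F m)) :
          Subgroup (Cfsg.Sz F m)) : Set (Cfsg.Sz F m)))) ⟨n, hn⟩
      rw [hidx, Subgroup.mem_subgroupOf] at this
      exact this
    have h2 : n ^ 2 ∈ Subgroup.centralizer ({x} : Set (Cfsg.Sz F m)) := by
      apply mem_of_sq_mem _ (n ^ 2) i
      · rw [← pow_mul, mul_comm, pow_mul, hi, one_pow]
      · rw [← pow_mul]
        exact h4
    exact mem_of_sq_mem _ n i hi h2
  · obtain ⟨g, k, hk, rfl⟩ := conj_hq_of_fix hm hF x hf j hj hx1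
    have hmem : n * (g * hq hF k * g⁻¹) * n⁻¹ ∈
        Subgroup.centralizer ({g * hq hF k * g⁻¹} : Set (Cfsg.Sz F m)) :=
      (Subgroup.mem_normalizer_iff.mp hn _).mp (Subgroup.mem_centralizer_singleton_iff.mpr rfl)
    obtain ⟨l, hl⟩ := (cent_conj_hq hm hF g k hk _).mp hmem
    have hconj : (g⁻¹ * n * g) * hq hF k * (g⁻¹ * n * g)⁻¹ = hq hF l := by
      have e : (g⁻¹ * n * g) * hq hF k * (g⁻¹ * n * g)⁻¹ =
          g⁻¹ * (n * (g * hq hF k * g⁻¹) * n⁻¹) * g := by group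
      rw [e, hl]
      group
    rcases hq_conj_cases hm hF _ k l hk hconj with ⟨l', hl'⟩ | ⟨l', hl'⟩
    · rw [cent_conj_hq hm hF g k hk]
      exact ⟨l', by rw [← hl']; group⟩
    · have hsq : (g⁻¹ * n * g) ^ 2 = 1 := by
        rw [hl', pow_two]
        have e : wq hF * hq hF l' * (wq hF * hq hF l') =
            (wq hF * hq hF l' * wq hF) * hq hF l' := by group
        rw [e, wq_hq_wq, hq_mul hm hF, inv_mul_cancel, hq_one]
      have hodd : (g⁻¹ * n * g) ^ (2 * i + 1) = 1 := by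
        rw [conj_pow', hi]
        group
      have h1 : g⁻¹ * n * g = 1 := by
        rw [pow_succ, pow_mul, hsq, one_pow, one_mul] at hodd
        exact hodd
      have hn1 : n = 1 := by
        have e : n = g * (g⁻¹ * n * g) * g⁻¹ := by group
        rw [e, h1]
        group
      rw [hn1]
      exact Subgroup.one_mem _

/-- a subgroup all of whose elements have odd order centralises one of its nontrivial elements -/
theorem odd_sub (hm : 1 ≤ m) (hF : Fintype.card F = 2 ^ (2 * m + 1)) (M : Subgroup (Cfsg.Sz F m))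
    (hodd : ∀ y ∈ M, ∃ j : ℕ, y ^ (2 * j + 1) = 1) (x₁ : Cfsg.Sz F m) (hx₁ : x₁ ∈ M)
    (hx₁1 : x₁ ≠ 1) :
    ∃ x ∈ M, x ≠ 1 ∧ ∀ y ∈ M, y ∈ Subgroup.centralizer ({x} : Set (Cfsg.Sz F m)) := by
  classical
  by_contra hcon
  push Not at hcon
  haveI : Fintype M := Fintype.ofFinite M
  have hUmem : ∀ (x : Cfsg.Sz F m) (y : M),
      y ∈ (Subgroup.centralizer ({x} : Set (Cfsg.Sz F m))).subgroupOf M ↔
        (y : Cfsg.Sz F m) ∈ Subgroup.centralizer ({x} : Set (Cfsg.Sz F m)) :=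
    fun x y => Subgroup.mem_subgroupOf
  -- the TI property
  have hTI : ∀ x ∈ M, x ≠ 1 →
      ∀ u ∈ (Subgroup.centralizer ({x} : Set (Cfsg.Sz F m))).subgroupOf M, u ≠ 1 → ∀ n : M,
        n⁻¹ * u * n ∈ (Subgroup.centralizer ({x} : Set (Cfsg.Sz F m))).subgroupOf M →
        n ∈ (Subgroup.centralizer ({x} : Set (Cfsg.Sz F m))).subgroupOf M := by
    intro x hxM hx1 u hu hu1 n hn
    obtain ⟨j, hj⟩ := hodd x hxM
    rw [hUmem] at hu hn ⊢
    have hu1' : (u : Cfsg.Sz F m) ≠ 1 := fun h => hu1 (Subtype.ext h)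
    obtain ⟨ju, hju⟩ := hodd u u.2
    have hcu := tor_cent hm hF x hx1 j hj u hu hu1'
    have hn' : (n : Cfsg.Sz F m)⁻¹ * u * n ∈ Subgroup.centralizer ({x} : Set (Cfsg.Sz F m)) := hn
    have hcomm : Commute ((n : Cfsg.Sz F m)⁻¹ * u * (n : Cfsg.Sz F m)⁻¹⁻¹) u := by
      rw [inv_inv]
      rw [← hcu] at hn'
      exact Subgroup.mem_centralizer_singleton_iff.mp hn'
    have hnn := tor_norm hm hF u hu1' ju hju (n : Cfsg.Sz F m)⁻¹ hcomm
    rw [hcu] at hnn
    have hnn' := Subgroup.inv_mem _ hnn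
    rw [inv_inv] at hnn'
    obtain ⟨jn, hjn⟩ := hodd n n.2
    exact tor_odd_mem hm hF x hx1 j hj n hnn' jn hjn
  -- the count
  have hcount : ∀ x ∈ M, x ≠ 1 → Nat.card M ≤ 2 * Nat.card {s : M // s ≠ 1 ∧ ∃ n : M,
      n⁻¹ * s * n ∈ (Subgroup.centralizer ({x} : Set (Cfsg.Sz F m))).subgroupOf M} := by
    intro x hxM hx1
    have hxU : (⟨x, hxM⟩ : M) ∈ (Subgroup.centralizer ({x} : Set (Cfsg.Sz F m))).subgroupOf M := by
      rw [hUmem]
      exact Subgroup.mem_centralizer_singleton_iff.mpr rfl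
    have hxne : (⟨x, hxM⟩ : M) ≠ 1 := fun h => hx1 (congrArg Subtype.val h)
    have hN : Subgroup.normalizer
        (((Subgroup.centralizer ({x} : Set (Cfsg.Sz F m))).subgroupOf M : Subgroup M) : Set M) =
        (Subgroup.centralizer ({x} : Set (Cfsg.Sz F m))).subgroupOf M := by
      apply le_antisymm
      · intro n hn
        have h1 := (Subgroup.mem_normalizer_iff.mp (Subgroup.inv_mem _ hn) ⟨x, hxM⟩).mp hxU
        rw [inv_inv] at h1
        exact hTI x hxM hx1 _ hxU hxne n h1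
      · exact Subgroup.le_normalizer
    have h := card_conj_TI ((Subgroup.centralizer ({x} : Set (Cfsg.Sz F m))).subgroupOf M)
      (fun u hu hu1 n hn => Subgroup.le_normalizer (hTI x hxM hx1 u hu hu1 n hn))
    rw [hN] at h
    have h2 : 1 < Nat.card ((Subgroup.centralizer ({x} : Set (Cfsg.Sz F m))).subgroupOf M) := by
      rw [Subgroup.one_lt_card_iff_ne_bot]
      intro hbot
      rw [hbot, Subgroup.mem_bot] at hxU
      exact hxne hxU
    obtain ⟨v, hv⟩ := Nat.exists_eq_add_of_le h2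
    rw [hv] at h
    have e : 2 + v - 1 = v + 1 := by omega
    rw [e] at h
    by_contra hlt
    push Not at hlt
    nlinarith
  -- the second element
  obtain ⟨y₁, hy₁M, hy₁⟩ := hcon x₁ hx₁ hx₁1
  have hne_top : (Subgroup.centralizer ({x₁} : Set (Cfsg.Sz F m))).subgroupOf M ≠ ⊤ := by
    intro h
    have : (⟨y₁, hy₁M⟩ : M) ∈ (Subgroup.centralizer ({x₁} : Set (Cfsg.Sz F m))).subgroupOf M := by
      rw [h]
      exact Subgroup.mem_top _
    rw [hUmem] at this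
    exact hy₁ this
  obtain ⟨x₂, hx₂⟩ := Cfsg.Agent.S4387.exists_not_mem_conj _ hne_top
  have hx₂1 : (x₂ : Cfsg.Sz F m) ≠ 1 := by
    intro h
    apply hx₂ 1
    have : x₂ = 1 := Subtype.ext h
    rw [this]
    exact Subgroup.one_mem _
  -- disjointness
  have hdisj : ∀ s : M, s ≠ 1 →
      (∃ n : M, n⁻¹ * s * n ∈ (Subgroup.centralizer ({x₁} : Set (Cfsg.Sz F m))).subgroupOf M) →
      (∃ n : M, n⁻¹ * s * n ∈
        (Subgroup.centralizer ({(x₂ : Cfsg.Sz F m)} : Set (Cfsg.Sz F m))).subgroupOf M) →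
      False := by
    rintro s hs1 ⟨n₁, h1⟩ ⟨n₂, h2⟩
    rw [hUmem] at h1 h2
    have hs1' : (s : Cfsg.Sz F m) ≠ 1 := fun h => hs1 (Subtype.ext h)
    have h1' : (n₁ : Cfsg.Sz F m)⁻¹ * s * n₁ ∈
        Subgroup.centralizer ({x₁} : Set (Cfsg.Sz F m)) := h1
    have h2' : (n₂ : Cfsg.Sz F m)⁻¹ * s * n₂ ∈
        Subgroup.centralizer ({(x₂ : Cfsg.Sz F m)} : Set (Cfsg.Sz F m)) := h2
    -- general transfer
    have key : ∀ (n x : Cfsg.Sz F m), n ∈ M → x ∈ M → x ≠ 1 →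
        n⁻¹ * s * n ∈ Subgroup.centralizer ({x} : Set (Cfsg.Sz F m)) →
        Subgroup.centralizer ({(s : Cfsg.Sz F m)} : Set (Cfsg.Sz F m)) =
          Subgroup.centralizer {n * x * n⁻¹} := by
      intro n x hnM hxM hx1 hmem
      obtain ⟨j, hj⟩ := hodd (n * x * n⁻¹) (M.mul_mem (M.mul_mem hnM hxM) (M.inv_mem hnM))
      have hne : n * x * n⁻¹ ≠ 1 := by
        intro h
        apply hx1
        have e : x = n⁻¹ * (n * x * n⁻¹) * n := by group
        rw [e, h]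
        group
      apply tor_cent hm hF _ hne j hj _ _ hs1'
      rw [Subgroup.mem_centralizer_singleton_iff] at hmem ⊢
      have e1 : (s : Cfsg.Sz F m) * (n * x * n⁻¹) = n * (n⁻¹ * s * n * x) * n⁻¹ := by group
      have e2 : n * x * n⁻¹ * (s : Cfsg.Sz F m) = n * (x * (n⁻¹ * s * n)) * n⁻¹ := by group
      rw [e1, e2, hmem]
    have k1 := key n₁ x₁ n₁.2 hx₁ hx₁1 h1'
    have k2 := key n₂ x₂ n₂.2 x₂.2 hx₂1 h2'
    have hmem : (n₂ : Cfsg.Sz F m) * x₂ * (n₂ : Cfsg.Sz F m)⁻¹ ∈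
        Subgroup.centralizer ({(n₁ : Cfsg.Sz F m) * x₁ * (n₁ : Cfsg.Sz F m)⁻¹} :
          Set (Cfsg.Sz F m)) := by
      rw [← k1, k2]
      exact Subgroup.mem_centralizer_singleton_iff.mpr rfl
    apply hx₂ (n₂⁻¹ * n₁)
    rw [Subgroup.mem_pointwise_smul_iff_inv_smul_mem, MulAut.smul_def, ← map_inv,
      MulAut.conj_apply, hUmem]
    rw [Subgroup.mem_centralizer_singleton_iff] at hmem ⊢
    have e1 : ((n₂⁻¹ * n₁)⁻¹ * x₂ * (n₂⁻¹ * n₁)⁻¹⁻¹ : M) =
        (n₁ : Cfsg.Sz F m)⁻¹ * ((n₂ : Cfsg.Sz F m) * x₂ * (n₂ : Cfsg.Sz F m)⁻¹) * n₁ := by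
      push_cast
      group
    rw [e1]
    have e2 : (n₁ : Cfsg.Sz F m)⁻¹ * ((n₂ : Cfsg.Sz F m) * x₂ * (n₂ : Cfsg.Sz F m)⁻¹) * n₁ * x₁ =
        (n₁ : Cfsg.Sz F m)⁻¹ * (((n₂ : Cfsg.Sz F m) * x₂ * (n₂ : Cfsg.Sz F m)⁻¹) *
          ((n₁ : Cfsg.Sz F m) * x₁ * (n₁ : Cfsg.Sz F m)⁻¹)) * n₁ := by group
    have e3 : x₁ * ((n₁ : Cfsg.Sz F m)⁻¹ * ((n₂ : Cfsg.Sz F m) * x₂ * (n₂ : Cfsg.Sz F m)⁻¹) * n₁) =
        (n₁ : Cfsg.Sz F m)⁻¹ * (((n₁ : Cfsg.Sz F m) * x₁ * (n₁ : Cfsg.Sz F m)⁻¹) *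
          ((n₂ : Cfsg.Sz F m) * x₂ * (n₂ : Cfsg.Sz F m)⁻¹)) * n₁ := by group
    rw [e2, e3, hmem]
  -- final count
  have c1 := hcount x₁ hx₁ hx₁1
  have c2 := hcount x₂ x₂.2 hx₂1
  let f : {s : M // s ≠ 1 ∧ ∃ n : M,
      n⁻¹ * s * n ∈ (Subgroup.centralizer ({x₁} : Set (Cfsg.Sz F m))).subgroupOf M} ⊕
      {s : M // s ≠ 1 ∧ ∃ n : M, n⁻¹ * s * n ∈
        (Subgroup.centralizer ({(x₂ : Cfsg.Sz F m)} : Set (Cfsg.Sz F m))).subgroupOf M} →
      {s : M // s ≠ 1} :=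
    Sum.elim (fun s => ⟨s.1, s.2.1⟩) (fun s => ⟨s.1, s.2.1⟩)
  have hf : Function.Injective f := by
    rintro (⟨a, ha⟩ | ⟨a, ha⟩) (⟨b, hb⟩ | ⟨b, hb⟩) hab
    · have : a = b := congrArg Subtype.val hab
      subst this
      rfl
    · have : a = b := congrArg Subtype.val hab
      subst this
      exact (hdisj a ha.1 ha.2 hb.2).elim
    · have : a = b := congrArg Subtype.val hab
      subst this
      exact (hdisj a ha.1 hb.2 ha.2).elim
    · have : a = b := congrArg Subtype.val hab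
      subst this
      rfl
  have c3 := Nat.card_le_card_of_injective f hf
  rw [Nat.card_sum, Cfsg.Agent.S4387.card_ne_one] at c3
  have c4 : 0 < Nat.card M := Nat.card_pos
  omega

end Cfsg.Agent.helper11.Sz
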