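import Mathlib
import Cfsg.Agent.Lib_helper11_Sz29

set_option autoImplicit false

/-!
# Suzuki groups, part 30: Frobenius groups with an involution in the complement; subgroups of the
Suzuki groups acting as Frobenius groups on an orbit
-/

namespace Cfsg.Agent.helper11.Sz

open Matrix Cfsg.Agent.S0326 Cfsg.Agent.S0327 Cfsg.Agent.S3893 MulAction

/-- the Frobenius kernel of a Frobenius group whose complement contains an involution -/
theorem frob_kernel {H X : Type*} [Group H] [Finite H] [Finite X] [MulAction H X]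
    [IsPretransitive H X]
    (hfrob : ∀ c : H, c ≠ 1 → ∀ a b : X, c • a = a → c • b = b → a = b)
    (t : H) (x₀ : X) (ht2 : t * t = 1) (htx : ∀ x, t • x = x ↔ x = x₀) (x₁ : X) (hX : x₁ ≠ x₀) :
    ∃ K : Subgroup H, K.Normal ∧ K ≠ ⊥ ∧ (∀ k ∈ K, k ≠ 1 → ∀ x : X, k • x ≠ x) ∧
      (∀ k ∈ K, t * k * t⁻¹ = k⁻¹) := by
  classical
  haveI : Fintype H := Fintype.ofFinite H
  haveI : Fintype X := Fintype.ofFinite X
  have hg : ∀ x : X, ∃ g : H, g • x₀ = x := fun x => exists_smul_eq H x₀ x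
  choose g hg using hg
  -- the conjugates of `t`
  have hτ2 : ∀ x, (g x * t * (g x)⁻¹) * (g x * t * (g x)⁻¹) = 1 := by
    intro x
    have e : (g x * t * (g x)⁻¹) * (g x * t * (g x)⁻¹) = g x * (t * t) * (g x)⁻¹ := by group
    rw [e, ht2]
    group
  have hτfix : ∀ x z, (g x * t * (g x)⁻¹) • z = z ↔ z = x := by
    intro x z
    rw [mul_smul, mul_smul, smul_eq_iff_eq_inv_smul, htx, inv_smul_eq_iff, hg]
  -- products of two involutions with different fixed points
  have F1 : ∀ a b : H, a * a = 1 → b * b = 1 → ∀ x y : X, (∀ z : X, a • z = z ↔ z = x) →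
      (∀ z : X, b • z = z ↔ z = y) → x ≠ y → ∀ z : X, (a * b) • z ≠ z := by
    intro a b ha hb x y hax hby hxy z hz
    rw [mul_smul] at hz
    have h1 : b • (b • z) = z := by rw [← mul_smul, hb, one_smul]
    have h2 : a • z = b • z := by
      conv_lhs => rw [← hz]
      rw [← mul_smul, ha, one_smul]
    have h3 : (a * b) • (b • z) = b • z := by rw [mul_smul, h1, h2]
    have hne : a * b ≠ 1 := by
      intro h
      have hab : a = b := by
        have : a * b = b * b := by rw [h, hb]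
        exact mul_right_cancel this
      apply hxy
      exact (hby x).mp (hab ▸ (hax x).mpr rfl)
    have h4 : z = b • z := hfrob (a * b) hne z (b • z) (by rw [mul_smul]; exact hz) h3
    have h5 : z = y := (hby z).mp h4.symm
    have h6 : z = x := (hax z).mp (by rw [h2]; exact h4.symm)
    exact hxy (h6.symm.trans h5)
  -- the number of fixed-point-free elements
  have hcount : Nat.card {k : H // ∀ z : X, k • z ≠ z} + 1 = Nat.card X := by
    have hB1 : ∑ h : H, Fintype.card (fixedBy X h) = Fintype.card H := by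
      rw [sum_card_fixedBy_eq_card_orbits_mul_card_group]
      haveI : Subsingleton (Quotient (orbitRel H X)) :=
        (pretransitive_iff_subsingleton_quotient H _).mp inferInstance
      haveI : Nonempty (Quotient (orbitRel H X)) := ⟨Quotient.mk _ x₀⟩
      have : Fintype.card (Quotient (orbitRel H X)) = 1 := by
        apply le_antisymm
        · exact Fintype.card_le_one_iff_subsingleton.mpr inferInstance
        · exact Fintype.card_pos
      rw [this, one_mul]
    have hpt : ∀ h : H, Fintype.card (fixedBy X h) + (if ∀ z : X, h • z ≠ z then 1 else 0) +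
        (if h = 1 then 1 else 0) = 1 + (if h = 1 then Fintype.card X else 0) := by
      intro h
      by_cases h1 : h = 1
      · subst h1
        have e1 : Fintype.card (fixedBy X (1 : H)) = Fintype.card X :=
          Fintype.card_congr (Equiv.subtypeUnivEquiv (fun x => by simp))
        have e2 : ¬ ∀ z : X, (1 : H) • z ≠ z := fun hh => hh x₀ (one_smul _ _)
        rw [e1, if_neg e2, if_pos rfl, if_pos rfl]
        omega
      · rw [if_neg h1, if_neg h1]
        by_cases hf : ∀ z : X, h • z ≠ z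
        · rw [if_pos hf]
          have e1 : Fintype.card (fixedBy X h) = 0 := by
            rw [Fintype.card_eq_zero_iff]
            exact ⟨fun z => hf z.1 z.2⟩
          rw [e1]
        · rw [if_neg hf]
          push Not at hf
          obtain ⟨z₀, hz₀⟩ := hf
          have e1 : Fintype.card (fixedBy X h) = 1 := by
            rw [Fintype.card_eq_one_iff]
            exact ⟨⟨z₀, hz₀⟩, fun y => Subtype.ext (hfrob h h1 _ _ y.2 hz₀)⟩
          rw [e1]
    have hsum := Finset.sum_congr (rfl : (Finset.univ : Finset H) = Finset.univ)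
      (fun h _ => hpt h)
    rw [Finset.sum_add_distrib, Finset.sum_add_distrib, Finset.sum_add_distrib, hB1,
      Finset.sum_boole, Finset.sum_boole, Finset.sum_ite_eq' Finset.univ (1 : H)
      (fun _ => Fintype.card X)] at hsum
    simp only [Finset.sum_const, Finset.card_univ, smul_eq_mul, mul_one, Finset.mem_univ,
      if_true, Nat.cast_id] at hsum
    have e3 : (Finset.univ.filter (fun h : H => h = 1)).card = 1 := by
      rw [Finset.filter_eq' Finset.univ (1 : H), if_pos (Finset.mem_univ _), Finset.card_singleton]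
    rw [e3, ← Fintype.card_subtype] at hsum
    rw [Nat.card_eq_fintype_card, Nat.card_eq_fintype_card]
    omega
  -- every fixed-point-free element is `a * τ y`
  have hsurj : ∀ (a : H) (ε : X), a * a = 1 → (∀ z : X, a • z = z ↔ z = ε) →
      ∀ k : H, (∀ z : X, k • z ≠ z) → ∃ y : X, y ≠ ε ∧ k = a * (g y * t * (g y)⁻¹) := by
    intro a ε ha haε k hk
    let φ : {y : X // y ≠ ε} → {k : H // ∀ z : X, k • z ≠ z} := fun y =>
      ⟨a * (g y.1 * t * (g y.1)⁻¹), F1 a _ ha (hτ2 y.1) ε y.1 haε (hτfix y.1) y.2.symm⟩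
    have hφ : Function.Injective φ := by
      intro y y' h
      have h1 : a * (g y.1 * t * (g y.1)⁻¹) = a * (g y'.1 * t * (g y'.1)⁻¹) :=
        congrArg Subtype.val h
      have h2 := mul_left_cancel h1
      apply Subtype.ext
      have h3 := (hτfix y.1 y.1).mpr rfl
      rw [h2] at h3
      exact (hτfix y'.1 y.1).mp h3
    have hc : Nat.card {k : H // ∀ z : X, k • z ≠ z} ≤ Nat.card {y : X // y ≠ ε} := by
      have e := Nat.card_congr (Equiv.optionSubtypeNe ε)
      rw [Finite.card_option] at e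
      omega
    obtain ⟨y, hy⟩ := (hφ.bijective_of_nat_card_le hc).2 ⟨k, hk⟩
    exact ⟨y.1, y.2, (congrArg Subtype.val hy).symm⟩
  -- uniqueness of the involution with a given fixed point
  have hU : ∀ (b : H) (y : X), b * b = 1 → (∀ z : X, b • z = z ↔ z = y) →
      b = g y * t * (g y)⁻¹ := by
    intro b y hb hby
    obtain ⟨ε, hε⟩ : ∃ ε : X, ε ≠ y := by
      by_cases h : y = x₀
      · exact ⟨x₁, by rw [h]; exact hX⟩
      · exact ⟨x₀, fun h' => h h'.symm⟩
    have hf := F1 _ b (hτ2 ε) hb ε y (hτfix ε) hby hε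
    obtain ⟨y', hy', hy'e⟩ := hsurj _ ε (hτ2 ε) (hτfix ε) _ hf
    have h2 := mul_left_cancel hy'e
    have h3 := (hby y).mpr rfl
    rw [h2] at h3
    have h4 := (hτfix y' y).mp h3
    rw [h2, h4]
  have htinv : t⁻¹ = t := inv_eq_of_mul_eq_one_left ht2
  have hτinv : ∀ y, (g y * t * (g y)⁻¹)⁻¹ = g y * t * (g y)⁻¹ := fun y =>
    inv_eq_of_mul_eq_one_left (hτ2 y)
  have hfpf1 : ∀ k : H, (∀ z : X, k • z ≠ z) → k ≠ 1 := by
    rintro k hk rfl
    exact hk x₀ (one_smul _ _)
  let K : Subgroup H :=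
    { carrier := {k | k = 1 ∨ ∀ z : X, k • z ≠ z}
      one_mem' := Or.inl rfl
      inv_mem' := by
        rintro k (rfl | hk)
        · left; exact inv_one
        · right
          intro z hz
          apply hk z
          conv_lhs => rw [← hz]
          rw [smul_inv_smul]
      mul_mem' := by
        rintro k₁ k₂ (rfl | hk₁) hk₂
        · rw [one_mul]; exact hk₂
        rcases hk₂ with rfl | hk₂
        · rw [mul_one]; exact Or.inr hk₁
        obtain ⟨y, hy, rfl⟩ := hsurj t x₀ ht2 htx k₁ hk₁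
        obtain ⟨z, hz, rfl⟩ := hsurj _ y (hτ2 y) (hτfix y) k₂ hk₂
        have e : t * (g y * t * (g y)⁻¹) * ((g y * t * (g y)⁻¹) * (g z * t * (g z)⁻¹)) =
            t * ((g y * t * (g y)⁻¹) * (g y * t * (g y)⁻¹)) * (g z * t * (g z)⁻¹) := by group
        rw [e, hτ2, mul_one]
        by_cases hzx : z = x₀
        · left
          rw [hzx, ← hU t x₀ ht2 htx, ht2]
        · right
          exact F1 t _ ht2 (hτ2 z) x₀ z htx (hτfix z) (fun h => hzx h.symm) }
  have hKmem : ∀ k : H, k ∈ K ↔ (k = 1 ∨ ∀ z : X, k • z ≠ z) := fun k => Iff.rfl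
  refine ⟨K, ⟨?_⟩, ?_, ?_, ?_⟩
  · rintro k hk n
    rw [hKmem] at hk ⊢
    rcases hk with rfl | hk
    · left; group
    · right
      intro z hz
      apply hk (n⁻¹ • z)
      rw [mul_smul, mul_smul] at hz
      conv_rhs => rw [← hz]
      rw [inv_smul_smul]
  · intro hbot
    have hmem : t * (g x₁ * t * (g x₁)⁻¹) ∈ K :=
      Or.inr (F1 t _ ht2 (hτ2 x₁) x₀ x₁ htx (hτfix x₁) hX.symm)
    rw [hbot, Subgroup.mem_bot] at hmem
    exact hfpf1 _ (F1 t _ ht2 (hτ2 x₁) x₀ x₁ htx (hτfix x₁) hX.symm) hmem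
  · rintro k hk hk1
    rcases hk with rfl | hk
    · exact absurd rfl hk1
    · exact hk
  · rintro k (rfl | hk)
    · group
    · obtain ⟨y, hy, rfl⟩ := hsurj t x₀ ht2 htx k hk
      rw [_root_.mul_inv_rev, hτinv, htinv, ← mul_assoc, ht2, one_mul]

variable {F : Type*} [Field F] [CharP F 2] [Fintype F] {m : ℕ}

set_option maxHeartbeats 1000000 in
/-- a subgroup containing an involution and acting as a Frobenius group on the orbit of the fixed
point of this involution normalises a torus -/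
theorem case_frob (hm : 1 ≤ m) (hF : Fintype.card F = 2 ^ (2 * m + 1))
    (M : Subgroup (Cfsg.Sz F m)) (b₀ : F) (hb₀ : b₀ ≠ 0) (ht : tq hF 0 b₀ ∈ M)
    (g₀ : Cfsg.Sz F m) (hg₀ : g₀ ∈ M) (hg₀' : g₀ • pt (F := F) m none ≠ pt m none)
    (hfrob : ∀ c ∈ M, c ≠ 1 → ∀ g₁ ∈ M, ∀ g₂ ∈ M,
      c • g₁ • pt (F := F) m none = g₁ • pt m none →
      c • g₂ • pt (F := F) m none = g₂ • pt m none →
      g₁ • pt (F := F) m none = g₂ • pt m none) :
    ∃ x : Cfsg.Sz F m, x ≠ 1 ∧ (∃ j : ℕ, x ^ (2 * j + 1) = 1) ∧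
      ∀ n ∈ M, Commute (n * x * n⁻¹) x := by
  classical
  have hab : ¬ ((0 : F) = 0 ∧ b₀ = 0) := fun h => hb₀ h.2
  -- the Frobenius kernel
  have hfrob' : ∀ c : M, c ≠ 1 → ∀ a b : orbit M (pt (F := F) m none), c • a = a → c • b = b →
      a = b := by
    rintro c hc ⟨ya, ⟨ga, hga⟩⟩ ⟨yb, ⟨gb, hgb⟩⟩ ha hb
    have ha' : (c : Cfsg.Sz F m) • ya = ya := congrArg Subtype.val ha
    have hb' : (c : Cfsg.Sz F m) • yb = yb := congrArg Subtype.val hb
    have hga' : (ga : Cfsg.Sz F m) • pt (F := F) m none = ya := hga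
    have hgb' : (gb : Cfsg.Sz F m) • pt (F := F) m none = yb := hgb
    apply Subtype.ext
    show ya = yb
    subst hga' hgb'
    exact hfrob c.1 c.2 (fun h => hc (Subtype.ext h)) ga.1 ga.2 gb.1 gb.2 ha' hb'
  have htx : ∀ x : orbit M (pt (F := F) m none), (⟨tq hF 0 b₀, ht⟩ : M) • x = x ↔
      x = ⟨pt (F := F) m none, mem_orbit_self _⟩ := by
    rintro ⟨y, hy⟩
    constructor
    · intro h
      apply Subtype.ext
      have h' : tq hF 0 b₀ • y = y := congrArg Subtype.val h
      exact (tq_fix_iff hF 0 b₀ hab y).mp h'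
    · intro h
      have h' : y = pt m none := congrArg Subtype.val h
      apply Subtype.ext
      show tq hF 0 b₀ • y = y
      exact (tq_fix_iff hF 0 b₀ hab y).mpr h'
  have ht2 : (⟨tq hF 0 b₀, ht⟩ : M) * ⟨tq hF 0 b₀, ht⟩ = 1 :=
    Subtype.ext (tq_zero_sq hm hF b₀)
  have hx₁ : (⟨g₀ • pt (F := F) m none, ⟨⟨g₀, hg₀⟩, rfl⟩⟩ : orbit M (pt (F := F) m none)) ≠
      ⟨pt (F := F) m none, mem_orbit_self _⟩ := fun h => hg₀' (congrArg Subtype.val h)
  obtain ⟨K₀, hK₀n, hK₀ne, hK₀f, hK₀i⟩ := frob_kernel (H := M)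
    (X := orbit M (pt (F := F) m none)) hfrob' ⟨tq hF 0 b₀, ht⟩
    ⟨pt (F := F) m none, mem_orbit_self _⟩ ht2 htx _ hx₁
  -- no involutions
  have hno : ∀ z ∈ K₀.map M.subtype, orderOf z ≠ 2 := by
    rintro _ ⟨z₀, hz₀, rfl⟩ hord
    have hz1 : z₀ ≠ 1 := by
      rintro rfl
      rw [map_one, orderOf_one] at hord
      omega
    have hsq : (M.subtype z₀) * (M.subtype z₀) = 1 := by
      rw [← pow_two, ← hord]
      exact pow_orderOf_eq_one _
    have hinv : (z₀ : Cfsg.Sz F m)⁻¹ = z₀ := inv_eq_of_mul_eq_one_left hsq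
    have hconj := congrArg Subtype.val (hK₀i z₀ hz₀)
    have hconj' : tq hF 0 b₀ * (z₀ : Cfsg.Sz F m) * (tq hF 0 b₀)⁻¹ = z₀ :=
      hconj.trans hinv
    have hcomm : tq hF 0 b₀ * (z₀ : Cfsg.Sz F m) = z₀ * tq hF 0 b₀ := by
      conv_rhs => rw [← hconj']
      group
    have hfix : tq hF 0 b₀ • ((z₀ : Cfsg.Sz F m) • pt (F := F) m none) =
        (z₀ : Cfsg.Sz F m) • pt (F := F) m none := by
      rw [← mul_smul, hcomm, mul_smul, tq_smul_inf]
    have hfix' := (tq_fix_iff hF 0 b₀ hab _).mp hfix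
    apply hK₀f z₀ hz₀ hz1 ⟨pt (F := F) m none, mem_orbit_self _⟩
    apply Subtype.ext
    rw [orbit.coe_smul]
    exact hfix'
  have hodd : ∀ y ∈ K₀.map M.subtype, ∃ j : ℕ, y ^ (2 * j + 1) = 1 :=
    fun y hy => odd_of_no_inv _ hno y hy
  obtain ⟨a, ha⟩ := Subgroup.ne_bot_iff_exists_ne_one.mp hK₀ne
  have haK : ((a : M) : Cfsg.Sz F m) ∈ K₀.map M.subtype := ⟨a.1, a.2, rfl⟩
  have ha1 : ((a : M) : Cfsg.Sz F m) ≠ 1 := fun h => ha (Subtype.ext (Subtype.ext h))
  obtain ⟨x, hxK, hx1, hxc⟩ := odd_sub hm hF _ hodd _ haK ha1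
  refine ⟨x, hx1, hodd x hxK, ?_⟩
  intro n hn
  obtain ⟨x₀, hx₀, rfl⟩ := hxK
  have hmem : n * (M.subtype x₀) * n⁻¹ ∈ K₀.map M.subtype := by
    rw [Subgroup.mem_map]
    have hc := hK₀n.conj_mem x₀ hx₀ (⟨n, hn⟩ : M)
    refine ⟨(⟨n, hn⟩ : M) * x₀ * (⟨n, hn⟩ : M)⁻¹, hc, ?_⟩
    rw [map_mul, map_mul, map_inv]
    rfl
  exact Subgroup.mem_centralizer_singleton_iff.mp (hxc _ hmem)

end Cfsg.Agent.helper11.Sz
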