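import Mathlib
import Cfsg.Agent.Lib_helper11_Sz30

set_option autoImplicit false

/-!
# Suzuki groups, part 31: subgroups containing a nontrivial element of the torus `H`
-/

namespace Cfsg.Agent.helper11.Sz

open Matrix Cfsg.Agent.S0326 Cfsg.Agent.S0327 Cfsg.Agent.S3893 MulAction

/-- the conjugate `z M z⁻¹` of a subgroup -/
def cjS {G : Type*} [Group G] (z : G) (M : Subgroup G) : Subgroup G :=
  M.comap (MulAut.conj z⁻¹).toMonoidHom

theorem mem_cjS {G : Type*} [Group G] (z : G) (M : Subgroup G) (x : G) :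
    x ∈ cjS z M ↔ z⁻¹ * x * z ∈ M := by
  unfold cjS
  rw [Subgroup.mem_comap]
  simp [MulAut.conj_apply]

theorem cjS_ne_top {G : Type*} [Group G] (z : G) (M : Subgroup G) (hM : M ≠ ⊤) :
    cjS z M ≠ ⊤ := by
  intro h
  apply hM
  rw [eq_top_iff]
  intro x _
  have : z * x * z⁻¹ ∈ cjS z M := by rw [h]; exact Subgroup.mem_top _
  rw [mem_cjS] at this
  have e : z⁻¹ * (z * x * z⁻¹) * z = x := by group
  rwa [e] at this

variable {F : Type*} [Field F] [CharP F 2] [Fintype F] {m : ℕ}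

theorem tq_inv_smul_inf (hF : Fintype.card F = 2 ^ (2 * m + 1)) (a b : F) :
    (tq hF a b)⁻¹ • pt (F := F) m none = pt m none := by
  rw [inv_smul_eq_iff, tq_smul_inf]

theorem tq_inv_smul_pt (hF : Fintype.card F = 2 ^ (2 * m + 1)) (a b : F) :
    (tq hF a b)⁻¹ • pt (F := F) m (some (a, b)) = pt m (some (0, 0)) := by
  rw [inv_smul_eq_iff, tq_smul_zero]

theorem hq_conj_mem_Qs (hm : 1 ≤ m) (hF : Fintype.card F = 2 ^ (2 * m + 1)) (k : Fˣ)
    (u : Cfsg.Sz F m) (hu : u ∈ Qs hm hF) : hq hF k * u * (hq hF k)⁻¹ ∈ Qs hm hF := by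
  obtain ⟨a, b, rfl⟩ := (mem_Qs hm hF u).mp hu
  rw [hq_tq_conj hm hF]
  exact tq_mem_Qs hm hF _ _

/-- `u ↦ u c u⁻¹` is injective on `Q` for `1 ≠ c ∈ H` -/
theorem phi_inj (hm : 1 ≤ m) (hF : Fintype.card F = 2 ^ (2 * m + 1)) (k : Fˣ) (hk : k ≠ 1)
    (a b a' b' : F)
    (h : tq hF a b * hq hF k * (tq hF a b)⁻¹ = tq hF a' b' * hq hF k * (tq hF a' b')⁻¹) :
    a = a' ∧ b = b' := by
  obtain ⟨a'', b'', hab⟩ := (mem_Qs hm hF _).mp ((Qs hm hF).mul_mem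
    ((Qs hm hF).inv_mem (tq_mem_Qs hm hF a' b')) (tq_mem_Qs hm hF a b))
  have hcomm : (tq hF a' b')⁻¹ * tq hF a b * hq hF k =
      hq hF k * ((tq hF a' b')⁻¹ * tq hF a b) := by
    have e1 : (tq hF a' b')⁻¹ * tq hF a b * hq hF k =
        (tq hF a' b')⁻¹ * (tq hF a b * hq hF k * (tq hF a b)⁻¹) * tq hF a b := by group
    rw [e1, h]
    group
  obtain ⟨k', hk'⟩ := centralizer_hq hm hF k hk _ hcomm
  have h0 : tq hF a'' b'' • pt (F := F) m (some (0, 0)) = pt m (some (0, 0)) := by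
    rw [← hab, hk', hq_smul_zero]
  rw [tq_smul_zero] at h0
  have h1 := pt_injective h0
  simp only [Option.some.injEq, Prod.mk.injEq] at h1
  obtain ⟨rfl, rfl⟩ := h1
  rw [tq_zero hm hF] at hab
  have huv : tq hF a b = tq hF a' b' := by
    have e : tq hF a b = tq hF a' b' * ((tq hF a' b')⁻¹ * tq hF a b) := by group
    rw [e, hab, mul_one]
  exact tq_injective hF huv

/-- if `M` contains `c = H(k) ≠ 1` and the conjugate `u c u⁻¹` with `u ∈ Q`, then `u ∈ M` -/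
theorem mem_of_conj_hq (hm : 1 ≤ m) (hF : Fintype.card F = 2 ^ (2 * m + 1))
    (M : Subgroup (Cfsg.Sz F m)) (k : Fˣ) (hk : k ≠ 1) (hkM : hq hF k ∈ M) (a b : F)
    (h : tq hF a b * hq hF k * (tq hF a b)⁻¹ ∈ M) : tq hF a b ∈ M := by
  classical
  have hmemP : ∀ u : Cfsg.Sz F m, u ∈ Qs hm hF → u * hq hF k * u⁻¹ ∈ M →
      u * hq hF k * u⁻¹ * (hq hF k)⁻¹ ∈ M ⊓ Qs hm hF := by
    intro u hu huM
    refine ⟨M.mul_mem huM (M.inv_mem hkM), ?_⟩
    have e : u * hq hF k * u⁻¹ * (hq hF k)⁻¹ = u * (hq hF k * u⁻¹ * (hq hF k)⁻¹) := by group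
    rw [e]
    exact (Qs hm hF).mul_mem hu (hq_conj_mem_Qs hm hF k _ ((Qs hm hF).inv_mem hu))
  let φ : (M ⊓ Qs hm hF : Subgroup (Cfsg.Sz F m)) → (M ⊓ Qs hm hF : Subgroup (Cfsg.Sz F m)) :=
    fun u => ⟨u.1 * hq hF k * u.1⁻¹ * (hq hF k)⁻¹,
      hmemP u.1 u.2.2 (M.mul_mem (M.mul_mem u.2.1 hkM) (M.inv_mem u.2.1))⟩
  have hφ : Function.Injective φ := by
    intro u v huv
    have h1 : u.1 * hq hF k * u.1⁻¹ * (hq hF k)⁻¹ = v.1 * hq hF k * v.1⁻¹ * (hq hF k)⁻¹ :=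
      congrArg Subtype.val huv
    have h2 := mul_right_cancel h1
    obtain ⟨a₁, b₁, hu⟩ := (mem_Qs hm hF _).mp u.2.2
    obtain ⟨a₂, b₂, hv⟩ := (mem_Qs hm hF _).mp v.2.2
    rw [hu, hv] at h2
    obtain ⟨rfl, rfl⟩ := phi_inj hm hF k hk _ _ _ _ h2
    exact Subtype.ext (hu.trans hv.symm)
  have hsurj := Finite.injective_iff_surjective.mp hφ
  obtain ⟨v, hv⟩ := hsurj ⟨_, hmemP _ (tq_mem_Qs hm hF a b) h⟩
  have h1 : v.1 * hq hF k * v.1⁻¹ * (hq hF k)⁻¹ =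
      tq hF a b * hq hF k * (tq hF a b)⁻¹ * (hq hF k)⁻¹ := congrArg Subtype.val hv
  have h2 := mul_right_cancel h1
  obtain ⟨a₂, b₂, hv'⟩ := (mem_Qs hm hF _).mp v.2.2
  rw [hv'] at h2
  obtain ⟨rfl, rfl⟩ := phi_inj hm hF k hk _ _ _ _ h2
  rw [← hv']
  exact v.2.1

/-- the stabiliser of `∞` in a subgroup containing a nontrivial element of `H` splits -/
theorem borel_split (hm : 1 ≤ m) (hF : Fintype.card F = 2 ^ (2 * m + 1))
    (M : Subgroup (Cfsg.Sz F m)) (k : Fˣ) (hk : k ≠ 1) (hkM : hq hF k ∈ M) (a b : F) (l : Fˣ)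
    (h : tq hF a b * hq hF l ∈ M) : tq hF a b ∈ M ∧ hq hF l ∈ M := by
  have h1 : tq hF a b * hq hF k * (tq hF a b)⁻¹ ∈ M := by
    have e : tq hF a b * hq hF k * (tq hF a b)⁻¹ =
        (tq hF a b * hq hF l) * hq hF k * (tq hF a b * hq hF l)⁻¹ := by
      have e' : (tq hF a b * hq hF l) * hq hF k * (tq hF a b * hq hF l)⁻¹ =
          tq hF a b * (hq hF l * hq hF k) * (hq hF l)⁻¹ * (tq hF a b)⁻¹ := by group
      rw [e', hq_comm hm hF l k]
      group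
    rw [e]
    exact M.mul_mem (M.mul_mem h hkM) (M.inv_mem h)
  have h2 := mem_of_conj_hq hm hF M k hk hkM a b h1
  refine ⟨h2, ?_⟩
  have e : hq hF l = (tq hF a b)⁻¹ * (tq hF a b * hq hF l) := by group
  rw [e]
  exact M.mul_mem (M.inv_mem h2) h

/-- a nontrivial element of `M` fixing `∞` and another point `y` forces the element of `Q`
moving `0` to `y` into `M` -/
theorem exists_tq_of_fix (hm : 1 ≤ m) (hF : Fintype.card F = 2 ^ (2 * m + 1))
    (M : Subgroup (Cfsg.Sz F m)) (k : Fˣ) (hk : k ≠ 1) (hkM : hq hF k ∈ M) (g : Cfsg.Sz F m)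
    (hg : g ∈ M) (hg1 : g ≠ 1) (hginf : g • pt (F := F) m none = pt m none) (a b : F)
    (hgy : g • pt (F := F) m (some (a, b)) = pt m (some (a, b))) : tq hF a b ∈ M := by
  have h1 : ((tq hF a b)⁻¹ * g * tq hF a b) • pt (F := F) m none = pt m none := by
    rw [mul_smul, mul_smul, tq_smul_inf, hginf, tq_inv_smul_inf]
  have h0 : ((tq hF a b)⁻¹ * g * tq hF a b) • pt (F := F) m (some (0, 0)) =
      pt m (some (0, 0)) := by
    rw [mul_smul, mul_smul, tq_smul_zero, hgy, tq_inv_smul_pt]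
  obtain ⟨l, hl⟩ := fix_inf_zero hm hF _ h1 h0
  have hgl : g = tq hF a b * hq hF l * (tq hF a b)⁻¹ := by
    rw [← hl]
    group
  have hl1 : l ≠ 1 := by
    rintro rfl
    apply hg1
    rw [hgl, hq_one]
    group
  obtain ⟨a'', b'', hab⟩ := (mem_Qs hm hF _).mp ((Qs hm hF).mul_mem (tq_mem_Qs hm hF a b)
    (hq_conj_mem_Qs hm hF l _ ((Qs hm hF).inv_mem (tq_mem_Qs hm hF a b))))
  have hg' : g = tq hF a'' b'' * hq hF l := by
    rw [← hab, hgl]
    group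
  have hlM : hq hF l ∈ M := by
    rw [hg'] at hg
    exact (borel_split hm hF M k hk hkM _ _ _ hg).2
  apply mem_of_conj_hq hm hF M l hl1 hlM
  rw [← hgl]
  exact hg

/-- an element of `M` exchanging `∞` and `0` -/
theorem exists_swap (hm : 1 ≤ m) (hF : Fintype.card F = 2 ^ (2 * m + 1))
    (M : Subgroup (Cfsg.Sz F m)) (k : Fˣ) (hk : k ≠ 1) (hkM : hq hF k ∈ M) (g₀ : Cfsg.Sz F m)
    (hg₀ : g₀ ∈ M) (h0 : g₀ • pt (F := F) m none = pt m (some (0, 0))) :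
    ∃ κ₀ : Fˣ, wq hF * hq hF κ₀ ∈ M := by
  have hwinv : (wq (m := m) hF)⁻¹ = wq hF := wq_inv hF
  have hmem' : ∀ x : Cfsg.Sz F m, x ∈ cjS (wq hF) M ↔ wq hF * x * wq hF ∈ M := by
    intro x
    rw [mem_cjS, hwinv]
  have hk' : k⁻¹ ≠ 1 := fun h => hk (inv_eq_one.mp h)
  have hkM' : hq hF k⁻¹ ∈ cjS (wq hF) M := by
    rw [hmem', wq_hq_wq, inv_inv]
    exact hkM
  have hg₀inv : g₀⁻¹ • pt (F := F) m (some (0, 0)) = pt m none := by
    rw [inv_smul_eq_iff, h0]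
  have hcM : wq hF * (g₀ * hq hF k * g₀⁻¹) * wq hF ∈ cjS (wq hF) M := by
    rw [hmem']
    have e : wq hF * (wq hF * (g₀ * hq hF k * g₀⁻¹) * wq hF) * wq hF =
        (wq hF * wq hF) * (g₀ * hq hF k * g₀⁻¹) * (wq hF * wq hF) := by group
    rw [e, wq_mul_wq, one_mul, mul_one]
    exact M.mul_mem (M.mul_mem hg₀ hkM) (M.inv_mem hg₀)
  have hc1 : wq hF * (g₀ * hq hF k * g₀⁻¹) * wq hF ≠ 1 := by
    intro h
    apply hq_ne_one hF hk
    have e : hq hF k = g₀⁻¹ * (wq hF * (wq hF * (g₀ * hq hF k * g₀⁻¹) * wq hF) * wq hF) * g₀ := by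
      have e' : wq hF * (wq hF * (g₀ * hq hF k * g₀⁻¹) * wq hF) * wq hF =
          (wq hF * wq hF) * (g₀ * hq hF k * g₀⁻¹) * (wq hF * wq hF) := by group
      rw [e', wq_mul_wq]
      group
    rw [e, h, mul_one, wq_mul_wq]
    group
  have hcinf : (wq hF * (g₀ * hq hF k * g₀⁻¹) * wq hF) • pt (F := F) m none = pt m none := by
    rw [mul_smul, mul_smul, mul_smul, mul_smul, wq_smul_inf, hg₀inv, hq_smul_inf, h0,
      wq_smul_zero]
  obtain ⟨o, ho⟩ := exists_pt (wq hF • g₀ • pt (F := F) m (some (0, 0)))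
  rcases o with _ | ⟨a, b⟩
  · exfalso
    have h1 : g₀ • pt (F := F) m (some (0, 0)) = pt m (some (0, 0)) := by
      have e : g₀ • pt (F := F) m (some (0, 0)) =
          wq hF • (wq hF • g₀ • pt (F := F) m (some (0, 0))) := by
        rw [← mul_smul (wq hF) (wq hF), wq_mul_wq, one_smul]
      rw [e, ho, wq_smul_inf]
    have h2 := MulAction.injective g₀ (h1.trans h0.symm)
    exact pt_some_ne 0 0 h2
  have hcy : (wq hF * (g₀ * hq hF k * g₀⁻¹) * wq hF) • pt (F := F) m (some (a, b)) =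
      pt m (some (a, b)) := by
    rw [← ho]
    simp only [← mul_smul]
    have e : wq hF * (g₀ * hq hF k * g₀⁻¹) * wq hF * (wq hF * g₀) =
        wq hF * g₀ * hq hF k * (g₀⁻¹ * (wq hF * wq hF) * g₀) := by group
    rw [e, wq_mul_wq, mul_one, inv_mul_cancel, mul_one, mul_smul, hq_smul_zero]
  have hv := exists_tq_of_fix hm hF (cjS (wq hF) M) k⁻¹ hk' hkM' _ hcM hc1 hcinf a b hcy
  rw [hmem'] at hv
  have hsM : (wq hF * tq hF a b * wq hF)⁻¹ * g₀ ∈ M := M.mul_mem (M.inv_mem hv) hg₀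
  have hinv : (wq hF * tq hF a b * wq hF)⁻¹ = wq hF * (tq hF a b)⁻¹ * wq hF := by
    rw [_root_.mul_inv_rev, _root_.mul_inv_rev, hwinv, mul_assoc]
  have hs1 : ((wq hF * tq hF a b * wq hF)⁻¹ * g₀) • pt (F := F) m none = pt m (some (0, 0)) := by
    rw [hinv, mul_smul, h0, mul_smul, mul_smul, wq_smul_zero, tq_inv_smul_inf, wq_smul_inf]
  have hs0 : ((wq hF * tq hF a b * wq hF)⁻¹ * g₀) • pt (F := F) m (some (0, 0)) = pt m none := by
    have ho' : g₀ • pt (F := F) m (some (0, 0)) = wq hF • pt m (some (a, b)) := by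
      rw [← ho, ← mul_smul, wq_mul_wq, one_smul]
    rw [hinv, mul_smul, ho', mul_smul, mul_smul, ← mul_smul (wq hF) (wq hF), wq_mul_wq, one_smul,
      tq_inv_smul_pt, wq_smul_zero]
  obtain ⟨κ₀, hκ₀⟩ := swap_inf_zero hm hF _ hs1 hs0
  exact ⟨κ₀, by rw [← hκ₀]; exact hsM⟩

end Cfsg.Agent.helper11.Sz
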