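import Mathlib
import Cfsg.Agent.Lib_helper11_Sz31

set_option autoImplicit false

/-!
# Suzuki groups, part 32: counting involutions in a subgroup
-/

namespace Cfsg.Agent.helper11.Sz

open Matrix Cfsg.Agent.S0326 Cfsg.Agent.S0327 Cfsg.Agent.S3893 MulAction

variable {F : Type*} [Field F] [CharP F 2] [Fintype F] {m : ℕ}

theorem th_mul_self_eq_one (hF : Fintype.card F = 2 ^ (2 * m + 1)) {x : F}
    (h : th F m x * x = 1) : x = 1 := by
  have hx : x ≠ 0 := by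
    rintro rfl
    simp at h
  have h1 : th F m x = x⁻¹ := eq_inv_of_mul_eq_one_left h
  have h2 : th F m (th F m x) = x := by rw [h1, map_inv₀, h1, inv_inv]
  rw [th_th hF] at h2
  have h3 : x * x = x * 1 := by rw [mul_one, ← pow_two]; exact h2
  exact mul_left_cancel₀ hx h3

theorem th_mul_self_inj (hF : Fintype.card F = 2 ^ (2 * m + 1)) {x y : F} (hy : y ≠ 0)
    (h : th F m x * x = th F m y * y) : x = y := by
  have hty : th F m y ≠ 0 := fun h0 => hy (th_eq_zero.mp h0)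
  have h1 : th F m (x / y) * (x / y) = 1 := by
    rw [map_div₀, div_mul_div_comm, h]
    exact div_self (mul_ne_zero hty hy)
  have h2 := th_mul_self_eq_one hF h1
  field_simp at h2
  exact h2

/-- points of the orbit of `∞` other than `∞` -/
abbrev OrbPt (M : Subgroup (Cfsg.Sz F m)) : Type _ :=
  {y : Cfsg.suzukiOvoid F m // y ≠ pt m none ∧ ∃ g ∈ M, g • pt (F := F) m none = y}

/-- central involutions of `Q` in `M` -/
abbrev CenInv (hF : Fintype.card F = 2 ^ (2 * m + 1)) (M : Subgroup (Cfsg.Sz F m)) : Type _ :=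
  {b : F // b ≠ 0 ∧ tq hF 0 b ∈ M}

/-- involutions of `M` moving `∞` -/
abbrev MovInv (M : Subgroup (Cfsg.Sz F m)) : Type _ :=
  {z : Cfsg.Sz F m // z ∈ M ∧ z * z = 1 ∧ z • pt (F := F) m none ≠ pt m none}

/-- elements of two-point stabilisers -/
abbrev TwoStab (M : Subgroup (Cfsg.Sz F m)) : Type _ :=
  {p : Cfsg.suzukiOvoid F m × Cfsg.Sz F m // p.1 ≠ pt m none ∧
    (∃ g ∈ M, g • pt (F := F) m none = p.1) ∧ p.2 ∈ M ∧ p.2 • pt (F := F) m none = pt m none ∧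
    p.2 • p.1 = p.1}

set_option maxHeartbeats 1000000 in
/-- the involution count: two-point stabilisers act transitively on the central involutions -/
theorem inv_count (hm : 1 ≤ m) (hF : Fintype.card F = 2 ^ (2 * m + 1))
    (M : Subgroup (Cfsg.Sz F m)) (b₀ : F) (hb₀ : b₀ ≠ 0) (ht : tq hF 0 b₀ ∈ M)
    (y : Cfsg.suzukiOvoid F m) (hy : y ≠ pt m none) (g₁ : Cfsg.Sz F m) (hg₁ : g₁ ∈ M)
    (hg₁y : g₁ • pt (F := F) m none = y) (b : F) (hb : b ≠ 0) (hbM : tq hF 0 b ∈ M) :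
    ∃ g ∈ M, g • pt (F := F) m none = pt m none ∧ g • y = y ∧
      g * tq hF 0 b₀ * g⁻¹ = tq hF 0 b := by
  classical
  haveI : Finite (Cfsg.suzukiOvoid F m) := by
    apply Nat.finite_of_card_ne_zero
    rw [Cfsg.Agent.S0326.result (F := F) m]
    exact Nat.succ_ne_zero _
  have hab₀ : ¬ ((0 : F) = 0 ∧ b₀ = 0) := fun h => hb₀ h.2
  have hfixA : ∀ (g : Cfsg.Sz F m) (c : F), c ≠ 0 → ∀ w : Cfsg.suzukiOvoid F m,
      (g * tq hF 0 c * g⁻¹) • w = w ↔ w = g • pt (F := F) m none := by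
    intro g c hc w
    rw [mul_smul, mul_smul, smul_eq_iff_eq_inv_smul, tq_fix_iff hF 0 c (fun h => hc h.2),
      inv_smul_eq_iff]
  have hsqA : ∀ (g : Cfsg.Sz F m) (c : F),
      (g * tq hF 0 c * g⁻¹) * (g * tq hF 0 c * g⁻¹) = 1 := by
    intro g c
    have e : (g * tq hF 0 c * g⁻¹) * (g * tq hF 0 c * g⁻¹) =
        g * (tq hF 0 c * tq hF 0 c) * g⁻¹ := by group
    rw [e, tq_zero_sq hm hF]
    group
  have hgg : ∀ y : OrbPt M, ∃ g : Cfsg.Sz F m, g ∈ M ∧ g • pt (F := F) m none = y.1 :=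
    fun y => y.2.2
  choose gg hgg using hgg
  -- the map `A`
  have hAmove : ∀ p : OrbPt M × CenInv hF M,
      (gg p.1 * tq hF 0 p.2.1 * (gg p.1)⁻¹) • pt (F := F) m none ≠ pt m none := by
    intro p h
    have h1 := (hfixA (gg p.1) p.2.1 p.2.2.1 _).mp h
    rw [(hgg p.1).2] at h1
    exact p.1.2.1 h1.symm
  let A : OrbPt M × CenInv hF M → MovInv M := fun p =>
    ⟨gg p.1 * tq hF 0 p.2.1 * (gg p.1)⁻¹,
      M.mul_mem (M.mul_mem (hgg p.1).1 p.2.2.2) (M.inv_mem (hgg p.1).1), hsqA _ _, hAmove p⟩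
  have hA : Function.Injective A := by
    rintro ⟨y, c⟩ ⟨y', c'⟩ h
    have h1 : gg y * tq hF 0 c.1 * (gg y)⁻¹ = gg y' * tq hF 0 c'.1 * (gg y')⁻¹ :=
      congrArg Subtype.val h
    have hyy : y = y' := by
      apply Subtype.ext
      have h2 := (hfixA (gg y) c.1 c.2.1 y.1).mpr (hgg y).2.symm
      rw [h1] at h2
      have h3 := (hfixA (gg y') c'.1 c'.2.1 y.1).mp h2
      rw [(hgg y').2] at h3
      exact h3
    subst hyy
    have h2 : tq hF 0 c.1 = tq hF 0 c'.1 := mul_left_cancel (mul_right_cancel h1)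
    have h3 := (tq_injective hF h2).2
    have : c = c' := Subtype.ext h3
    rw [this]
  -- the map `B`
  have hss : ∀ y : Cfsg.suzukiOvoid F m, ∃ s : Cfsg.Sz F m,
      (∃ z : Cfsg.Sz F m, z ∈ M ∧ z * z = 1 ∧ z • pt (F := F) m none = y) →
      (s ∈ M ∧ s * s = 1 ∧ s • pt (F := F) m none = y) := by
    intro y
    by_cases h : ∃ z : Cfsg.Sz F m, z ∈ M ∧ z * z = 1 ∧ z • pt (F := F) m none = y
    · obtain ⟨z, hz⟩ := h
      exact ⟨z, fun _ => hz⟩
    · exact ⟨1, fun h' => absurd h' h⟩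
  choose ss hss using hss
  have hB0 : ∀ (z s : Cfsg.Sz F m) (y : Cfsg.suzukiOvoid F m), z * z = 1 → s * s = 1 →
      z • pt (F := F) m none = y → s • pt (F := F) m none = y →
      (s⁻¹ * z) • pt (F := F) m none = pt m none ∧ (s⁻¹ * z) • y = y := by
    intro z s y hz hs hzy hsy
    constructor
    · rw [mul_smul, hzy, inv_smul_eq_iff, hsy]
    · rw [mul_smul, ← hzy, ← mul_smul z z, hz, one_smul, inv_smul_eq_iff, hzy, ← hsy,
        ← mul_smul s s, hs, one_smul]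
  have hssz : ∀ z : MovInv M, ss (z.1 • pt (F := F) m none) ∈ M ∧
      ss (z.1 • pt (F := F) m none) * ss (z.1 • pt (F := F) m none) = 1 ∧
      ss (z.1 • pt (F := F) m none) • pt (F := F) m none = z.1 • pt (F := F) m none :=
    fun z => hss _ ⟨z.1, z.2.1, z.2.2.1, rfl⟩
  let B : MovInv M → TwoStab M := fun z =>
    ⟨(z.1 • pt (F := F) m none, (ss (z.1 • pt (F := F) m none))⁻¹ * z.1), z.2.2.2,
      ⟨z.1, z.2.1, rfl⟩, M.mul_mem (M.inv_mem (hssz z).1) z.2.1,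
      (hB0 z.1 _ _ z.2.2.1 (hssz z).2.1 rfl (hssz z).2.2).1,
      (hB0 z.1 _ _ z.2.2.1 (hssz z).2.1 rfl (hssz z).2.2).2⟩
  have hBinj : Function.Injective B := by
    intro z z' h
    have h1 : z.1 • pt (F := F) m none = z'.1 • pt (F := F) m none :=
      congrArg (fun p => p.1.1) h
    have h2 : (ss (z.1 • pt (F := F) m none))⁻¹ * z.1 =
        (ss (z'.1 • pt (F := F) m none))⁻¹ * z'.1 := congrArg (fun p => p.1.2) h
    rw [h1] at h2
    exact Subtype.ext (mul_left_cancel h2)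
  -- the map `C`
  have hβ : ∀ g : Cfsg.Sz F m, ∃ c : F, (∃ c' : F, g * tq hF 0 b₀ * g⁻¹ = tq hF 0 c') →
      g * tq hF 0 b₀ * g⁻¹ = tq hF 0 c := by
    intro g
    by_cases h : ∃ c' : F, g * tq hF 0 b₀ * g⁻¹ = tq hF 0 c'
    · obtain ⟨c', hc'⟩ := h
      exact ⟨c', fun _ => hc'⟩
    · exact ⟨0, fun h' => absurd h' h⟩
  choose β hβ using hβ
  have hβ' : ∀ g : Cfsg.Sz F m, g ∈ M → g • pt (F := F) m none = pt m none →
      g * tq hF 0 b₀ * g⁻¹ = tq hF 0 (β g) ∧ β g ≠ 0 ∧ tq hF 0 (β g) ∈ M := by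
    intro g hgM hg
    obtain ⟨a, b', k, rfl⟩ := fix_inf hm hF g hg
    have h1 := hβ _ ⟨_, Cfsg.Agent.S2240.conj_tq_zero hm hF a b' k b₀⟩
    refine ⟨h1, ?_, ?_⟩
    · intro h0
      rw [h0, tq_zero hm hF] at h1
      have h2 : tq hF 0 b₀ = 1 := by
        have e : tq hF 0 b₀ = (tq hF a b' * hq hF k)⁻¹ *
            ((tq hF a b' * hq hF k) * tq hF 0 b₀ * (tq hF a b' * hq hF k)⁻¹) *
            (tq hF a b' * hq hF k) := by group
        rw [e, h1]
        group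
      exact hb₀ ((tq_eq_one_iff hm hF).mp h2).2
    · rw [← h1]
      exact M.mul_mem (M.mul_mem hgM ht) (M.inv_mem hgM)
  let C : TwoStab M → OrbPt M × CenInv hF M := fun p =>
    (⟨p.1.1, p.2.1, p.2.2.1⟩, ⟨β p.1.2, (hβ' p.1.2 p.2.2.2.1 p.2.2.2.2.1).2.1,
      (hβ' p.1.2 p.2.2.2.1 p.2.2.2.2.1).2.2⟩)
  have hC : Function.Injective C := by
    intro p p' h
    have h1 : p.1.1 = p'.1.1 := congrArg (fun q => q.1.1) h
    have h2 : β p.1.2 = β p'.1.2 := congrArg (fun q => q.2.1) h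
    have e1 := (hβ' p.1.2 p.2.2.2.1 p.2.2.2.2.1).1
    have e2 := (hβ' p'.1.2 p'.2.2.2.1 p'.2.2.2.2.1).1
    rw [h2, ← e2] at e1
    have hcomm : (p'.1.2⁻¹ * p.1.2) * tq hF 0 b₀ = tq hF 0 b₀ * (p'.1.2⁻¹ * p.1.2) := by
      have e : (p'.1.2⁻¹ * p.1.2) * tq hF 0 b₀ =
          p'.1.2⁻¹ * (p.1.2 * tq hF 0 b₀ * p.1.2⁻¹) * p.1.2 := by group
      rw [e, e1]
      group
    obtain ⟨a', b', hab'⟩ := centralizer_tq hm hF 0 b₀ hab₀ _ hcomm
    have hfix : (p'.1.2⁻¹ * p.1.2) • p.1.1 = p.1.1 := by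
      rw [mul_smul, p.2.2.2.2.2, inv_smul_eq_iff, h1, p'.2.2.2.2.2]
    rw [hab'] at hfix
    have hzero : a' = 0 ∧ b' = 0 := by
      by_contra hne
      exact p.2.1 ((tq_fix_iff hF a' b' hne _).mp hfix)
    rw [hzero.1, hzero.2, tq_zero hm hF] at hab'
    have hgg' : p.1.2 = p'.1.2 := by
      have e : p.1.2 = p'.1.2 * (p'.1.2⁻¹ * p.1.2) := by group
      rw [e, hab', mul_one]
    apply Subtype.ext
    exact Prod.ext h1 hgg'
  have hcard : Nat.card (OrbPt M × CenInv hF M) ≤ Nat.card (TwoStab M) :=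
    (Nat.card_le_card_of_injective A hA).trans (Nat.card_le_card_of_injective B hBinj)
  have hCbij := hC.bijective_of_nat_card_le hcard
  obtain ⟨p, hp⟩ := hCbij.2 (⟨y, hy, g₁, hg₁, hg₁y⟩, ⟨b, hb, hbM⟩)
  have h1 : p.1.1 = y := congrArg (fun q => q.1.1) hp
  have h2 : β p.1.2 = b := congrArg (fun q => q.2.1) hp
  refine ⟨p.1.2, p.2.2.2.1, p.2.2.2.2.1, ?_, ?_⟩
  · rw [← h1]
    exact p.2.2.2.2.2
  · rw [← h2]
    exact (hβ' p.1.2 p.2.2.2.1 p.2.2.2.2.1).1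

end Cfsg.Agent.helper11.Sz
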