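import Mathlib
import Cfsg.Agent.Lib_helper11_Sz32

set_option autoImplicit false

/-!
# Suzuki groups, part 33: subgroups containing `w`, a central involution of `Q` and a nontrivial
element of `H` are contained in a Suzuki group over a subfield
-/

namespace Cfsg.Agent.helper11.Sz

open Matrix Cfsg.Agent.S0326 Cfsg.Agent.S0327 Cfsg.Agent.S3893 MulAction

variable {F : Type*} [Field F] [CharP F 2] [Fintype F] {m : ℕ}

/-- `M ∩ Q` is transitive on the affine points of the orbit of `∞` -/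
theorem trans_P (hm : 1 ≤ m) (hF : Fintype.card F = 2 ^ (2 * m + 1))
    (M : Subgroup (Cfsg.Sz F m)) (b₀ : F) (hb₀ : b₀ ≠ 0) (ht : tq hF 0 b₀ ∈ M) (k : Fˣ)
    (hk : k ≠ 1) (hkM : hq hF k ∈ M) (g : Cfsg.Sz F m) (hg : g ∈ M) (a b : F)
    (hgy : g • pt (F := F) m none = pt m (some (a, b))) : tq hF a b ∈ M := by
  have hc0 : th F m k * k * b₀ ≠ 0 :=
    mul_ne_zero (mul_ne_zero (fun h => k.ne_zero (th_eq_zero.mp h)) k.ne_zero) hb₀
  have hcM : tq hF 0 (th F m k * k * b₀) ∈ M := by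
    have h1 := hq_tq_conj hm hF k 0 b₀
    rw [mul_zero] at h1
    rw [← h1]
    exact M.mul_mem (M.mul_mem hkM ht) (M.inv_mem hkM)
  obtain ⟨g', hg'M, hg'inf, hg'y, hg'c⟩ :=
    inv_count hm hF M b₀ hb₀ ht _ (pt_some_ne a b) g hg hgy _ hc0 hcM
  have hg'1 : g' ≠ 1 := by
    rintro rfl
    rw [one_mul, inv_one, mul_one] at hg'c
    have h1 := (tq_injective hF hg'c).2
    have h2 : th F m k * k = 1 := by
      have h3 : 1 * b₀ = th F m k * k * b₀ := by rw [one_mul]; exact h1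
      exact (mul_right_cancel₀ hb₀ h3).symm
    exact hk (Units.ext (th_mul_self_eq_one hF h2))
  exact exists_tq_of_fix hm hF M k hk hkM g' hg'M hg'1 hg'inf a b hg'y

/-- `M ∩ H` is transitive on the central involutions of `M ∩ Q` -/
theorem trans_C (hm : 1 ≤ m) (hF : Fintype.card F = 2 ^ (2 * m + 1))
    (M : Subgroup (Cfsg.Sz F m)) (b₀ : F) (hb₀ : b₀ ≠ 0) (ht : tq hF 0 b₀ ∈ M)
    (hw : wq hF ∈ M) (b : F) (hb : b ≠ 0) (hbM : tq hF 0 b ∈ M) :
    ∃ k : Fˣ, hq hF k ∈ M ∧ th F m k * k * b₀ = b := by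
  obtain ⟨g, hgM, hginf, hg0, hgc⟩ := inv_count hm hF M b₀ hb₀ ht _ (pt_some_ne 0 0) (wq hF) hw
    (wq_smul_inf hF) b hb hbM
  obtain ⟨k, rfl⟩ := fix_inf_zero hm hF g hginf hg0
  refine ⟨k, hgM, ?_⟩
  rw [hq_tq_conj hm hF, mul_zero] at hgc
  exact (tq_injective hF hgc).2

/-- membership in the standard copy of the Suzuki group over a subfield -/
def InSub (hF : Fintype.card F = 2 ^ (2 * m + 1)) (K' : Subfield F) (g : Cfsg.Sz F m) : Prop :=
  (∃ (a b : F) (l : Fˣ), a ∈ K' ∧ b ∈ K' ∧ (l : F) ∈ K' ∧ g = tq hF a b * hq hF l) ∨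
  (∃ (a b a' b' : F) (l : Fˣ), a ∈ K' ∧ b ∈ K' ∧ a' ∈ K' ∧ b' ∈ K' ∧ (l : F) ∈ K' ∧
    g = tq hF a b * wq hF * tq hF a' b' * hq hF l)

set_option maxHeartbeats 1000000 in
theorem caseii_b (hm : 1 ≤ m) (hF : Fintype.card F = 2 ^ (2 * m + 1))
    (M : Subgroup (Cfsg.Sz F m)) (hM : M ≠ ⊤) (hw : wq hF ∈ M) (b₀ : F) (hb₀ : b₀ ≠ 0)
    (ht : tq hF 0 b₀ ∈ M) (κ : Fˣ) (hκ : κ ≠ 1) (hκM : hq hF κ ∈ M) :
    ∃ K' : Subfield F, K' ≠ ⊤ ∧ (∃ κ' : Fˣ, κ' ≠ 1 ∧ (κ' : F) ∈ K') ∧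
      ∀ g ∈ M, InSub hF K' g := by
  classical
  have h2 : ∀ z : F, -z = z := fun z => CharTwo.neg_eq z
  have hthne : ∀ x : F, x ≠ 0 → th F m x ≠ 0 := fun x hx h => hx (th_eq_zero.mp h)
  -- basic closure properties
  have hVadd : ∀ b b' : F, tq hF 0 b ∈ M → tq hF 0 b' ∈ M → tq hF 0 (b + b') ∈ M := by
    intro b b' h h'
    have h1 := M.mul_mem h h'
    rw [tq_mul hm hF, map_zero, zero_mul, add_zero, add_zero] at h1
    exact h1
  have hV0 : tq hF (0 : F) 0 ∈ M := by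
    rw [tq_zero hm hF]
    exact M.one_mem
  have hE : ∀ (k : Fˣ) (b : F), hq hF k ∈ M → tq hF 0 b ∈ M →
      tq hF 0 (th F m k * k * b) ∈ M := by
    intro k b hk hb
    have h1 := hq_tq_conj hm hF k 0 b
    rw [mul_zero] at h1
    rw [← h1]
    exact M.mul_mem (M.mul_mem hk hb) (M.inv_mem hk)
  have hEinv : ∀ k : Fˣ, hq hF k ∈ M → hq hF k⁻¹ ∈ M := by
    intro k hk
    rw [← hq_inv hm hF]
    exact M.inv_mem hk
  have hEmul : ∀ k l : Fˣ, hq hF k ∈ M → hq hF l ∈ M → hq hF (k * l) ∈ M := by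
    intro k l hk hl
    rw [← hq_mul hm hF]
    exact M.mul_mem hk hl
  -- the structure equation
  have hS1 : ∀ a b : F, tq hF a b ∈ M → ¬ (a = 0 ∧ b = 0) →
      tq hF (b / ff m a b) (a / ff m a b) ∈ M := by
    intro a b hab hne
    have hN : ff m a b ≠ 0 := fun h => hne (ff_eq_zero hF h)
    apply trans_P hm hF M b₀ hb₀ ht κ hκ hκM (wq hF * tq hF a b * wq hF)
      (M.mul_mem (M.mul_mem hw hab) hw)
    rw [mul_smul, mul_smul, wq_smul_inf, tq_smul_zero, wq_smul_pt hF a b hN]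
  have hS3a : ∀ b : F, b ≠ 0 → tq hF 0 b ∈ M → tq hF (b / th F m b) 0 ∈ M := by
    intro b hb hbM
    have h1 := hS1 0 b hbM (fun h => hb h.2)
    have h3 : ff m (0 : F) b = th F m b := by
      rw [ff_eq]
      simp
    rw [h3, zero_div] at h1
    exact h1
  have hS3 : ∀ b : F, b ≠ 0 → tq hF 0 b ∈ M → tq hF 0 b⁻¹ ∈ M := by
    intro b hb hbM
    have h1 := hS3a b hb hbM
    have h4 := M.mul_mem h1 h1
    rw [tq_sq hm hF] at h4
    have h5 : th F m (b / th F m b) * (b / th F m b) = b⁻¹ := by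
      rw [map_div₀, th_th hF]
      have := hthne b hb
      field_simp
    rw [h5] at h4
    exact h4
  -- the subfield
  have hKmul : ∀ x y : F, tq hF 0 (x * b₀) ∈ M → tq hF 0 (y * b₀) ∈ M →
      tq hF 0 (x * y * b₀) ∈ M := by
    intro x y hx hy
    by_cases hx0 : x = 0
    · rw [hx0, zero_mul, zero_mul]
      exact hV0
    obtain ⟨k, hkM, hk⟩ := trans_C hm hF M b₀ hb₀ ht hw (x * b₀) (mul_ne_zero hx0 hb₀) hx
    have hkx : th F m k * k = x := mul_right_cancel₀ hb₀ hk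
    have h1 := hE k _ hkM hy
    rw [hkx, ← mul_assoc] at h1
    exact h1
  have hKinv : ∀ x : F, tq hF 0 (x * b₀) ∈ M → tq hF 0 (x⁻¹ * b₀) ∈ M := by
    intro x hx
    by_cases hx0 : x = 0
    · rw [hx0, _root_.inv_zero, zero_mul]
      exact hV0
    obtain ⟨k, hkM, hk⟩ := trans_C hm hF M b₀ hb₀ ht hw (x * b₀) (mul_ne_zero hx0 hb₀) hx
    have hkx : th F m k * k = x := mul_right_cancel₀ hb₀ hk
    have h1 := hE k⁻¹ _ (hEinv k hkM) ht
    have e : th F m ((k⁻¹ : Fˣ) : F) * ((k⁻¹ : Fˣ) : F) = x⁻¹ := by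
      rw [← hkx, Units.val_inv_eq_inv_val, map_inv₀, mul_inv]
    rw [e] at h1
    exact h1
  let K' : Subfield F :=
    { carrier := {x | tq hF 0 (x * b₀) ∈ M}
      mul_mem' := fun {x y} hx hy => hKmul x y hx hy
      one_mem' := by
        show tq hF 0 (1 * b₀) ∈ M
        rw [one_mul]
        exact ht
      add_mem' := fun {x y} hx hy => by
        show tq hF 0 ((x + y) * b₀) ∈ M
        rw [add_mul]
        exact hVadd _ _ hx hy
      zero_mem' := by
        show tq hF 0 (0 * b₀) ∈ M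
        rw [zero_mul]
        exact hV0
      neg_mem' := fun {x} hx => by
        show tq hF 0 (-x * b₀) ∈ M
        rw [h2]
        exact hx
      inv_mem' := fun x hx => hKinv x hx }
  have hK'mem : ∀ x : F, x ∈ K' ↔ tq hF 0 (x * b₀) ∈ M := fun x => Iff.rfl
  -- square roots in `K'`
  have hsqrt : ∀ x : F, x * x ∈ K' → x ∈ K' := by
    intro x hx
    let sq : K' → K' := fun y => ⟨y.1 * y.1, K'.mul_mem y.2 y.2⟩
    have hsq : Function.Injective sq := by
      intro y y' h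
      have h1 : y.1 * y.1 = y'.1 * y'.1 := congrArg Subtype.val h
      rcases mul_self_eq_mul_self_iff.mp h1 with h3 | h3
      · exact Subtype.ext h3
      · rw [h2] at h3
        exact Subtype.ext h3
    obtain ⟨r, hr⟩ := Finite.injective_iff_surjective.mp hsq ⟨x * x, hx⟩
    have h1 : r.1 * r.1 = x * x := congrArg Subtype.val hr
    rcases mul_self_eq_mul_self_iff.mp h1 with h3 | h3
    · rw [← h3]
      exact r.2
    · rw [h2] at h3
      rw [← h3]
      exact r.2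
  have hb₀K : b₀ ∈ K' := by
    have h1 : tq hF 0 b₀⁻¹ ∈ M := hS3 b₀ hb₀ ht
    have h3 : b₀⁻¹ * b₀⁻¹ ∈ K' := by
      rw [hK'mem]
      have e : b₀⁻¹ * b₀⁻¹ * b₀ = b₀⁻¹ := by field_simp
      rw [e]
      exact h1
    have h4 := K'.inv_mem (hsqrt _ h3)
    rw [inv_inv] at h4
    exact h4
  have hVK : ∀ b : F, tq hF 0 b ∈ M ↔ b ∈ K' := by
    intro b
    constructor
    · intro hb
      have h1 : b * b₀⁻¹ ∈ K' := by
        rw [hK'mem]
        have e : b * b₀⁻¹ * b₀ = b := by field_simp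
        rw [e]
        exact hb
      have h3 := K'.mul_mem h1 hb₀K
      have e : b * b₀⁻¹ * b₀ = b := by field_simp
      rw [e] at h3
      exact h3
    · intro hb
      have h1 : b * b₀⁻¹ ∈ K' := K'.mul_mem hb (K'.inv_mem hb₀K)
      rw [hK'mem] at h1
      have e : b * b₀⁻¹ * b₀ = b := by field_simp
      rw [e] at h1
      exact h1
  -- the torus
  have hE1 : ∀ l : Fˣ, hq hF l ∈ M ↔ th F m l * l ∈ K' := by
    intro l
    constructor
    · intro hl
      rw [hK'mem]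
      exact hE l b₀ hl ht
    · intro hl
      rw [hK'mem] at hl
      have hne : th F m l * l * b₀ ≠ 0 :=
        mul_ne_zero (mul_ne_zero (hthne _ l.ne_zero) l.ne_zero) hb₀
      obtain ⟨k, hkM, hk⟩ := trans_C hm hF M b₀ hb₀ ht hw _ hne hl
      have h1 : th F m k * k = th F m l * l := mul_right_cancel₀ hb₀ hk
      have h3 : (k : F) = l := th_mul_self_inj hF l.ne_zero h1
      rw [← Units.ext h3]
      exact hkM
  have hthK : ∀ x : F, x ∈ K' → th F m x ∈ K' := by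
    intro x hx
    rw [th_apply]
    exact K'.pow_mem hx _
  have hEK : ∀ l : Fˣ, hq hF l ∈ M ↔ (l : F) ∈ K' := by
    intro l
    constructor
    · intro hl
      have h1 := (hE1 l).mp hl
      let ψ : {x : F // x ∈ K' ∧ x ≠ 0} → {x : F // x ∈ K' ∧ x ≠ 0} := fun x =>
        ⟨th F m x.1 * x.1, K'.mul_mem (hthK _ x.2.1) x.2.1,
          mul_ne_zero (hthne _ x.2.2) x.2.2⟩
      have hψ : Function.Injective ψ := by
        intro x y h
        have h3 : th F m x.1 * x.1 = th F m y.1 * y.1 := congrArg Subtype.val h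
        exact Subtype.ext (th_mul_self_inj hF y.2.2 h3)
      obtain ⟨x, hx⟩ := Finite.injective_iff_surjective.mp hψ
        ⟨th F m l * l, h1, mul_ne_zero (hthne _ l.ne_zero) l.ne_zero⟩
      have h3 : th F m x.1 * x.1 = th F m l * l := congrArg Subtype.val hx
      have h4 : x.1 = l := th_mul_self_inj hF l.ne_zero h3
      rw [← h4]
      exact x.2.1
    · intro hl
      exact (hE1 l).mpr (K'.mul_mem (hthK _ hl) hl)
  -- the unipotent part
  have hPa : ∀ a b : F, tq hF a b ∈ M → a ∈ K' := by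
    intro a b hab
    have h1 := M.mul_mem hab hab
    rw [tq_sq hm hF] at h1
    have h3 := (hVK _).mp h1
    by_cases ha : a = 0
    · rw [ha]
      exact K'.zero_mem
    · have h4 := (hE1 (Units.mk0 a ha)).mpr h3
      exact (hEK (Units.mk0 a ha)).mp h4
  have hAK : ∀ a : F, a ∈ K' → tq hF a 0 ∈ M := by
    intro a ha
    by_cases ha0 : a = 0
    · rw [ha0]
      exact hV0
    have h1 := hS3a b₀ hb₀ ht
    have hne : b₀ / th F m b₀ ≠ 0 := div_ne_zero hb₀ (hthne _ hb₀)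
    have h3 := hPa _ _ h1
    have hl : a / (b₀ / th F m b₀) ∈ K' := K'.div_mem ha h3
    have hl0 : a / (b₀ / th F m b₀) ≠ 0 := div_ne_zero ha0 hne
    have h4 := (hEK (Units.mk0 _ hl0)).mpr hl
    have h5 := M.mul_mem (M.mul_mem h4 h1) (M.inv_mem h4)
    rw [hq_tq_conj hm hF, mul_zero, Units.val_mk0, div_mul_cancel₀ _ hne] at h5
    exact h5
  have hsplit : ∀ a b : F, tq hF a b = tq hF a 0 * tq hF 0 b := by
    intro a b
    rw [tq_mul hm hF, add_zero, mul_zero, add_zero, zero_add]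
  have hPK : ∀ a b : F, tq hF a b ∈ M ↔ a ∈ K' ∧ b ∈ K' := by
    intro a b
    constructor
    · intro hab
      have ha := hPa a b hab
      refine ⟨ha, (hVK b).mp ?_⟩
      have e : tq hF 0 b = (tq hF a 0)⁻¹ * tq hF a b := by
        rw [hsplit a b]
        group
      rw [e]
      exact M.mul_mem (M.inv_mem (hAK a ha)) hab
    · rintro ⟨ha, hb⟩
      rw [hsplit]
      exact M.mul_mem (hAK a ha) ((hVK b).mpr hb)
  refine ⟨K', ?_, ⟨κ, hκ, (hEK κ).mp hκM⟩, ?_⟩
  · intro htop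
    apply hM
    rw [eq_top_iff]
    intro g _
    have hall : ∀ x : F, x ∈ K' := fun x => by rw [htop]; exact Subfield.mem_top x
    have hQ : ∀ a b : F, tq hF a b ∈ M := fun a b => (hPK a b).mpr ⟨hall a, hall b⟩
    have hH : ∀ l : Fˣ, hq hF l ∈ M := fun l => (hEK l).mpr (hall l)
    rcases bruhat' hm hF g with ⟨a, b, k, rfl⟩ | ⟨a, b, a', b', k, rfl⟩
    · exact M.mul_mem (hQ a b) (hH k)
    · exact M.mul_mem (M.mul_mem (M.mul_mem (hQ a b) hw) (hQ a' b')) (hH k)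
  · intro g hg
    by_cases hginf : g • pt (F := F) m none = pt m none
    · obtain ⟨a, b, l, rfl⟩ := fix_inf hm hF g hginf
      obtain ⟨h1, h3⟩ := borel_split hm hF M κ hκ hκM a b l hg
      left
      exact ⟨a, b, l, ((hPK a b).mp h1).1, ((hPK a b).mp h1).2, (hEK l).mp h3, rfl⟩
    · obtain ⟨o, ho⟩ := exists_pt (g • pt (F := F) m none)
      rcases o with _ | ⟨a, b⟩
      · exact absurd ho hginf
      have hab := trans_P hm hF M b₀ hb₀ ht κ hκ hκM g hg a b ho
      have hg'M : (tq hF a b * wq hF)⁻¹ * g ∈ M := M.mul_mem (M.inv_mem (M.mul_mem hab hw)) hg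
      have hg'inf : ((tq hF a b * wq hF)⁻¹ * g) • pt (F := F) m none = pt m none := by
        rw [mul_smul, ho, inv_smul_eq_iff, mul_smul, wq_smul_inf, tq_smul_zero]
      obtain ⟨a', b', l, hl⟩ := fix_inf hm hF _ hg'inf
      rw [hl] at hg'M
      obtain ⟨h1, h3⟩ := borel_split hm hF M κ hκ hκM a' b' l hg'M
      right
      refine ⟨a, b, a', b', l, ((hPK a b).mp hab).1, ((hPK a b).mp hab).2, ((hPK a' b').mp h1).1,
        ((hPK a' b').mp h1).2, (hEK l).mp h3, ?_⟩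
      have e : g = (tq hF a b * wq hF) * ((tq hF a b * wq hF)⁻¹ * g) := by group
      rw [e, hl]
      group

end Cfsg.Agent.helper11.Sz
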