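import Cfsg.Statements.S2239
import Cfsg.Agent.Lib_helper11_Sz28

set_option autoImplicit false
open Cfsg

namespace Cfsg.Agent.S2239

open Cfsg.Agent.helper11.Sz Cfsg.Agent.S0326 Cfsg.Agent.S3893 Matrix

section
variable {K : Type*} [Field K] [CharP K 2] [Fintype K] {k : ℕ}
variable {F : Type*} [Field F] [CharP F 2] [Fintype F] {m : ℕ}

omit [CharP K 2] in
theorem pow_iter (hK : Fintype.card K = 2 ^ (2 * k + 1)) (x : K) (e : ℕ) :
    x ^ 2 ^ (e * (2 * k + 1)) = x := by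
  induction e with
  | zero => simp
  | succ e ih =>
    rw [Nat.succ_mul, pow_add, pow_mul, ih, ← hK, FiniteField.pow_card]

omit [CharP K 2] in
theorem hcomp_of_dvd (hK : Fintype.card K = 2 ^ (2 * k + 1)) (hdiv : 2 * k + 1 ∣ 2 * m + 1)
    (x : K) : x ^ 2 ^ (m + 1) = x ^ 2 ^ (k + 1) := by
  obtain ⟨d, hd⟩ := hdiv
  rcases Nat.even_or_odd' d with ⟨e, rfl | rfl⟩
  · exfalso
    have : (2 * k + 1) * (2 * e) = 2 * ((2 * k + 1) * e) := by ring
    omega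
  · have h1 : (2 * k + 1) * (2 * e + 1) = 2 * (e * (2 * k + 1)) + (2 * k + 1) := by ring
    have h2 : m + 1 = e * (2 * k + 1) + (k + 1) := by omega
    rw [h2, pow_add, pow_mul, pow_iter hK]

omit [CharP K 2] [CharP F 2] in
/-- the images of two embeddings of finite fields coincide -/
theorem range_ringHom (ι ι' : K →+* F) (a : K) : ∃ a', ι' a = ι a' := by
  classical
  have hs : 1 < Fintype.card K := Fintype.one_lt_card
  set p : Polynomial F := Polynomial.X ^ Fintype.card K - Polynomial.X with hp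
  have hp0 : p ≠ 0 := FiniteField.X_pow_card_sub_X_ne_zero F hs
  have hdeg : p.natDegree = Fintype.card K := FiniteField.X_pow_card_sub_X_natDegree_eq F hs
  have hroot : ∀ (j : K →+* F) (x : K), j x ∈ p.roots.toFinset := by
    intro j x
    rw [Multiset.mem_toFinset, Polynomial.mem_roots hp0, Polynomial.IsRoot, hp]
    simp only [Polynomial.eval_sub, Polynomial.eval_pow, Polynomial.eval_X]
    rw [← map_pow, FiniteField.pow_card, sub_self]
  have hsub : Finset.univ.image ι ⊆ p.roots.toFinset := by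
    intro y hy
    obtain ⟨x, -, rfl⟩ := Finset.mem_image.mp hy
    exact hroot ι x
  have hcard : (Finset.univ.image ι).card = Fintype.card K := by
    rw [Finset.card_image_of_injective _ ι.injective, Finset.card_univ]
  have hle : p.roots.toFinset.card ≤ Fintype.card K := by
    calc p.roots.toFinset.card ≤ Multiset.card p.roots := Multiset.toFinset_card_le _
      _ ≤ p.natDegree := Polynomial.card_roots' p
      _ = Fintype.card K := hdeg
  have heq := Finset.eq_of_subset_of_card_le hsub (by rw [hcard]; exact hle)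
  have h1 := hroot ι' a
  rw [← heq] at h1
  obtain ⟨a', -, h⟩ := Finset.mem_image.mp h1
  exact ⟨a', h.symm⟩

omit [CharP K 2] [CharP F 2] in
theorem range_units (ι ι' : K →+* F) (u : Kˣ) :
    ∃ u' : Kˣ, Units.map (ι' : K →* F) u = Units.map (ι : K →* F) u' := by
  obtain ⟨a', ha'⟩ := range_ringHom ι ι' (u : K)
  have ha0 : a' ≠ 0 := by
    rintro rfl
    rw [map_zero] at ha'
    exact u.ne_zero (ι'.injective (ha'.trans (map_zero ι').symm))
  refine ⟨Units.mk0 a' ha0, ?_⟩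
  apply Units.ext
  rw [Units.coe_map, Units.coe_map, Units.val_mk0]
  exact ha'

theorem range_le (hk : 1 ≤ k) (hK : Fintype.card K = 2 ^ (2 * k + 1))
    (hF : Fintype.card F = 2 ^ (2 * m + 1)) (ι ι' : K →+* F) (hc : Compat k m ι)
    (hc' : Compat k m ι') :
    (szMap hk hK hF ι' hc').range ≤ (szMap hk hK hF ι hc).range := by
  rintro _ ⟨y, rfl⟩
  have hT : ∀ a b : K, szMap hk hK hF ι' hc' (tq hK a b) ∈ (szMap hk hK hF ι hc).range := by
    intro a b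
    obtain ⟨a', ha'⟩ := range_ringHom ι ι' a
    obtain ⟨b', hb'⟩ := range_ringHom ι ι' b
    exact ⟨tq hK a' b', by rw [szMap_tq, szMap_tq, ha', hb']⟩
  have hH : ∀ u : Kˣ, szMap hk hK hF ι' hc' (hq hK u) ∈ (szMap hk hK hF ι hc).range := by
    intro u
    obtain ⟨u', hu'⟩ := range_units ι ι' u
    exact ⟨hq hK u', by rw [szMap_hq, szMap_hq, hu']⟩
  have hW : szMap hk hK hF ι' hc' (wq hK) ∈ (szMap hk hK hF ι hc).range :=
    ⟨wq hK, by rw [szMap_wq, szMap_wq]⟩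
  rcases bruhat' hk hK y with ⟨a, b, u, rfl⟩ | ⟨a, b, a', b', u, rfl⟩
  · rw [map_mul]
    exact Subgroup.mul_mem _ (hT a b) (hH u)
  · rw [map_mul, map_mul, map_mul]
    exact Subgroup.mul_mem _ (Subgroup.mul_mem _ (Subgroup.mul_mem _ (hT a b) hW) (hT a' b')) (hH u)

/-- every subgroup isomorphic to `Sz(K)` is conjugate to the standard one -/
theorem conj_std (hk : 1 ≤ k) (hm : 1 ≤ m) (hK : Fintype.card K = 2 ^ (2 * k + 1))
    (hF : Fintype.card F = 2 ^ (2 * m + 1))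
    (hcomp : ∀ x : K, x ^ 2 ^ (m + 1) = x ^ 2 ^ (k + 1)) (ι : K →+* F) (hc : Compat k m ι)
    (S : Subgroup (Cfsg.Sz F m)) (φ : S ≃* Cfsg.Sz K k) :
    ∃ g : Cfsg.Sz F m, ∀ x : Cfsg.Sz F m, x ∈ S ↔ g * x * g⁻¹ ∈ (szMap hk hK hF ι hc).range := by
  set ψ : Cfsg.Sz K k →* Cfsg.Sz F m := S.subtype.comp φ.symm.toMonoidHom with hψ
  have hinj : Function.Injective ψ := by
    intro y y' h
    have : (φ.symm y : Cfsg.Sz F m) = φ.symm y' := h
    exact φ.symm.injective (Subtype.ext this)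
  obtain ⟨g, ι', hc', hg⟩ := embedding_classification hk hm hK hF hcomp ψ hinj
  refine ⟨g, fun x => ⟨?_, ?_⟩⟩
  · intro hx
    apply range_le hk hK hF ι ι' hc hc'
    refine ⟨φ ⟨x, hx⟩, ?_⟩
    rw [← hg]
    show g * ((φ.symm (φ ⟨x, hx⟩) : S) : Cfsg.Sz F m) * g⁻¹ = g * x * g⁻¹
    rw [φ.symm_apply_apply]
  · intro hx
    obtain ⟨y, hy⟩ := range_le hk hK hF ι' ι hc' hc hx
    rw [← hg] at hy
    have : x = ψ y := by
      have h1 : x = g⁻¹ * (g * x * g⁻¹) * g := by group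
      rw [h1, ← hy]; group
    rw [this]
    exact (φ.symm y).2

end

theorem result {F : Type*} [Field F] [Fintype F] {m : ℕ} (hm : 1 ≤ m) (hF : Fintype.card F = 2 ^ (2 * m + 1)) {K : Type*} [Field K] [Fintype K] {k : ℕ} (hk : 1 ≤ k) (hK : Fintype.card K = 2 ^ (2 * k + 1)) (hdiv : 2 * k + 1 ∣ 2 * m + 1) :
    (∃ S : Subgroup ↥(Cfsg.Sz F m), Nonempty (↥S ≃* ↥(Cfsg.Sz K k))) ∧
    ∀ S₁ S₂ : Subgroup ↥(Cfsg.Sz F m), Nonempty (↥S₁ ≃* ↥(Cfsg.Sz K k)) → Nonempty (↥S₂ ≃* ↥(Cfsg.Sz K k)) →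
      ∃ g : ↥(Cfsg.Sz F m), S₂ = S₁.map (MulAut.conj g).toMonoidHom := by
  haveI : Fact (Nat.Prime 2) := ⟨Nat.prime_two⟩
  haveI := charP_two hF
  haveI := charP_two hK
  have hcomp := hcomp_of_dvd (m := m) hK hdiv
  -- the field embedding
  letI : Algebra (ZMod 2) K := ZMod.algebra K 2
  letI : Algebra (ZMod 2) F := ZMod.algebra F 2
  have hrK : Module.finrank (ZMod 2) K = 2 * k + 1 := by
    have h := FiniteField.pow_finrank_eq_card 2 K
    rw [hK] at h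
    exact Nat.pow_right_injective (le_refl 2) h
  have hrF : Module.finrank (ZMod 2) F = 2 * m + 1 := by
    have h := FiniteField.pow_finrank_eq_card 2 F
    rw [hF] at h
    exact Nat.pow_right_injective (le_refl 2) h
  obtain ⟨ι₀⟩ := FiniteField.nonempty_algHom_of_finrank_dvd (F := ZMod 2) (K := K) (L := F)
    (by rw [hrK, hrF]; exact hdiv)
  set ι : K →+* F := ι₀.toRingHom with hι
  have hc : Compat k m ι := compat_of_pow ι hcomp
  refine ⟨⟨(szMap hk hK hF ι hc).range,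
    ⟨(MonoidHom.ofInjective (szMap_injective hk hK hF ι hc)).symm⟩⟩, ?_⟩
  rintro S₁ S₂ ⟨φ₁⟩ ⟨φ₂⟩
  obtain ⟨g₁, h₁⟩ := conj_std hk hm hK hF hcomp ι hc S₁ φ₁
  obtain ⟨g₂, h₂⟩ := conj_std hk hm hK hF hcomp ι hc S₂ φ₂
  refine ⟨g₂⁻¹ * g₁, ?_⟩
  ext x
  rw [Subgroup.mem_map]
  constructor
  · intro hx
    refine ⟨(g₂⁻¹ * g₁)⁻¹ * x * (g₂⁻¹ * g₁), ?_, ?_⟩
    · rw [h₁]
      have : g₁ * ((g₂⁻¹ * g₁)⁻¹ * x * (g₂⁻¹ * g₁)) * g₁⁻¹ = g₂ * x * g₂⁻¹ := by group
      rw [this]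
      exact (h₂ x).mp hx
    · show (g₂⁻¹ * g₁) * ((g₂⁻¹ * g₁)⁻¹ * x * (g₂⁻¹ * g₁)) * (g₂⁻¹ * g₁)⁻¹ = x
      group
  · rintro ⟨s, hs, rfl⟩
    rw [h₂]
    show g₂ * ((g₂⁻¹ * g₁) * s * (g₂⁻¹ * g₁)⁻¹) * g₂⁻¹ ∈ _
    have : g₂ * ((g₂⁻¹ * g₁) * s * (g₂⁻¹ * g₁)⁻¹) * g₂⁻¹ = g₁ * s * g₁⁻¹ := by group
    rw [this]
    exact (h₁ s).mp hs

end Cfsg.Agent.S2239
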