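import Mathlib
import Cfsg.Agent.Lib_helper11_Sz33
import Cfsg.Agent.S2239

set_option autoImplicit false

/-!
# Suzuki groups, part 34: the subgroups of the Suzuki groups
-/

namespace Cfsg.Agent.helper11.Sz

open Matrix Cfsg.Agent.S0326 Cfsg.Agent.S0327 Cfsg.Agent.S3893 MulAction

variable {F : Type*} [Field F] [CharP F 2] [Fintype F] {m : ℕ}

/-- the three possibilities for a proper subgroup, in a form invariant under conjugation -/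
def Good₀ (hF : Fintype.card F = 2 ^ (2 * m + 1)) (M : Subgroup (Cfsg.Sz F m)) : Prop :=
  (∃ y : Cfsg.suzukiOvoid F m, ∀ x ∈ M, x • y = y) ∨
  (∃ x : Cfsg.Sz F m, x ≠ 1 ∧ (∃ j : ℕ, x ^ (2 * j + 1) = 1) ∧
    ∀ n ∈ M, Commute (n * x * n⁻¹) x) ∨
  (∃ (K' : Subfield F) (z : Cfsg.Sz F m), K' ≠ ⊤ ∧ (∃ κ : Fˣ, κ ≠ 1 ∧ (κ : F) ∈ K') ∧
    ∀ g ∈ M, InSub hF K' (z * g * z⁻¹))

theorem good_conj (hF : Fintype.card F = 2 ^ (2 * m + 1)) (z₀ : Cfsg.Sz F m)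
    (M : Subgroup (Cfsg.Sz F m)) (h : Good₀ hF (cjS z₀ M)) : Good₀ hF M := by
  have hmem : ∀ x ∈ M, z₀ * x * z₀⁻¹ ∈ cjS z₀ M := by
    intro x hx
    rw [mem_cjS]
    have e : z₀⁻¹ * (z₀ * x * z₀⁻¹) * z₀ = x := by group
    rw [e]
    exact hx
  rcases h with ⟨y, hy⟩ | ⟨x', hx'1, ⟨j, hj⟩, hn⟩ | ⟨K', z, hK', hκ, hsub⟩
  · left
    refine ⟨z₀⁻¹ • y, fun x hx => ?_⟩
    have h1 := hy _ (hmem x hx)
    rw [mul_smul, mul_smul, smul_eq_iff_eq_inv_smul] at h1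
    exact h1
  · right; left
    refine ⟨z₀⁻¹ * x' * z₀, ?_, ⟨j, ?_⟩, ?_⟩
    · intro h1
      apply hx'1
      have e : x' = z₀ * (z₀⁻¹ * x' * z₀) * z₀⁻¹ := by group
      rw [e, h1]
      group
    · rw [conj_pow', hj]
      group
    · intro n hnM
      have h1 := (hn _ (hmem n hnM)).eq
      show n * (z₀⁻¹ * x' * z₀) * n⁻¹ * (z₀⁻¹ * x' * z₀) =
        z₀⁻¹ * x' * z₀ * (n * (z₀⁻¹ * x' * z₀) * n⁻¹)
      have e1 : n * (z₀⁻¹ * x' * z₀) * n⁻¹ * (z₀⁻¹ * x' * z₀) =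
          z₀⁻¹ * ((z₀ * n * z₀⁻¹) * x' * (z₀ * n * z₀⁻¹)⁻¹ * x') * z₀ := by group
      have e2 : z₀⁻¹ * x' * z₀ * (n * (z₀⁻¹ * x' * z₀) * n⁻¹) =
          z₀⁻¹ * (x' * ((z₀ * n * z₀⁻¹) * x' * (z₀ * n * z₀⁻¹)⁻¹)) * z₀ := by group
      rw [e1, e2, h1]
  · right; right
    refine ⟨K', z * z₀, hK', hκ, fun g hg => ?_⟩
    have h1 := hsub _ (hmem g hg)
    have e : z * z₀ * g * (z * z₀)⁻¹ = z * (z₀ * g * z₀⁻¹) * z⁻¹ := by group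
    rw [e]
    exact h1

set_option maxHeartbeats 1000000 in
/-- the case of a nontrivial two-point stabiliser -/
theorem caseii (hm : 1 ≤ m) (hF : Fintype.card F = 2 ^ (2 * m + 1))
    (M : Subgroup (Cfsg.Sz F m)) (hM : M ≠ ⊤) (b₀ : F) (hb₀ : b₀ ≠ 0) (ht : tq hF 0 b₀ ∈ M)
    (c : Cfsg.Sz F m) (hc : c ∈ M) (hc1 : c ≠ 1) (g₁ g₂ : Cfsg.Sz F m) (hg₁ : g₁ ∈ M)
    (hg₂ : g₂ ∈ M) (h1 : c • g₁ • pt (F := F) m none = g₁ • pt m none)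
    (h2 : c • g₂ • pt (F := F) m none = g₂ • pt m none)
    (hne : g₁ • pt (F := F) m none ≠ g₂ • pt m none) :
    ∃ (K' : Subfield F) (z : Cfsg.Sz F m), K' ≠ ⊤ ∧ (∃ κ : Fˣ, κ ≠ 1 ∧ (κ : F) ∈ K') ∧
      ∀ g ∈ M, InSub hF K' (z * g * z⁻¹) := by
  have hc₁M : g₁⁻¹ * c * g₁ ∈ M := M.mul_mem (M.mul_mem (M.inv_mem hg₁) hc) hg₁
  have hc₁inf : (g₁⁻¹ * c * g₁) • pt (F := F) m none = pt m none := by
    rw [mul_smul, mul_smul, h1, inv_smul_smul]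
  have hc₁δ : (g₁⁻¹ * c * g₁) • ((g₁⁻¹ * g₂) • pt (F := F) m none) =
      (g₁⁻¹ * g₂) • pt (F := F) m none := by
    simp only [mul_smul, smul_inv_smul]
    rw [h2]
  have hδ : (g₁⁻¹ * g₂) • pt (F := F) m none ≠ pt m none := by
    intro h
    apply hne
    rw [mul_smul, inv_smul_eq_iff] at h
    exact h.symm
  obtain ⟨o, ho⟩ := exists_pt ((g₁⁻¹ * g₂) • pt (F := F) m none)
  rcases o with _ | ⟨a, b⟩
  · exact absurd ho hδ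
  -- first conjugation
  have hmem₂ : ∀ x : Cfsg.Sz F m, x ∈ cjS (tq hF a b)⁻¹ M ↔
      tq hF a b * x * (tq hF a b)⁻¹ ∈ M := by
    intro x
    rw [mem_cjS, inv_inv]
  have ht₂ : tq hF 0 b₀ ∈ cjS (tq hF a b)⁻¹ M := by
    rw [hmem₂, ← tq_zero_comm hm hF, mul_inv_cancel_right]
    exact ht
  have hc₂inf : ((tq hF a b)⁻¹ * (g₁⁻¹ * c * g₁) * tq hF a b) • pt (F := F) m none =
      pt m none := by
    rw [mul_smul, mul_smul, tq_smul_inf, hc₁inf, tq_inv_smul_inf]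
  have hc₂0 : ((tq hF a b)⁻¹ * (g₁⁻¹ * c * g₁) * tq hF a b) • pt (F := F) m (some (0, 0)) =
      pt m (some (0, 0)) := by
    rw [mul_smul, mul_smul, tq_smul_zero, ← ho, hc₁δ, ho, tq_inv_smul_pt]
  obtain ⟨κ, hκe⟩ := fix_inf_zero hm hF _ hc₂inf hc₂0
  have hκ : κ ≠ 1 := by
    rintro rfl
    rw [hq_one] at hκe
    apply hc1
    have e : c = g₁ * (tq hF a b * ((tq hF a b)⁻¹ * (g₁⁻¹ * c * g₁) * tq hF a b) *
        (tq hF a b)⁻¹) * g₁⁻¹ := by group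
    rw [e, hκe]
    group
  have hκM₂ : hq hF κ ∈ cjS (tq hF a b)⁻¹ M := by
    rw [hmem₂, ← hκe]
    have e : tq hF a b * ((tq hF a b)⁻¹ * (g₁⁻¹ * c * g₁) * tq hF a b) * (tq hF a b)⁻¹ =
        g₁⁻¹ * c * g₁ := by group
    rw [e]
    exact hc₁M
  have hg₀M₂ : (tq hF a b)⁻¹ * (g₁⁻¹ * g₂) * tq hF a b ∈ cjS (tq hF a b)⁻¹ M := by
    rw [hmem₂]
    have e : tq hF a b * ((tq hF a b)⁻¹ * (g₁⁻¹ * g₂) * tq hF a b) * (tq hF a b)⁻¹ =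
        g₁⁻¹ * g₂ := by group
    rw [e]
    exact M.mul_mem (M.inv_mem hg₁) hg₂
  have hg₀0 : ((tq hF a b)⁻¹ * (g₁⁻¹ * g₂) * tq hF a b) • pt (F := F) m none =
      pt m (some (0, 0)) := by
    rw [mul_smul, mul_smul, tq_smul_inf, ho, tq_inv_smul_pt]
  obtain ⟨κ₀, hκ₀⟩ := exists_swap hm hF _ κ hκ hκM₂ _ hg₀M₂ hg₀0
  obtain ⟨μ, hμ⟩ := exists_sq_units κ₀
  -- second conjugation
  have hmem₃ : ∀ x : Cfsg.Sz F m, x ∈ cjS (hq hF μ) (cjS (tq hF a b)⁻¹ M) ↔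
      hq hF μ⁻¹ * x * hq hF μ ∈ cjS (tq hF a b)⁻¹ M := by
    intro x
    rw [mem_cjS, hq_inv hm hF]
  have hw₃ : wq hF ∈ cjS (hq hF μ) (cjS (tq hF a b)⁻¹ M) := by
    rw [hmem₃]
    have e : hq hF μ⁻¹ * wq hF * hq hF μ = wq hF * (wq hF * hq hF μ⁻¹ * wq hF) * hq hF μ := by
      have e' : wq hF * (wq hF * hq hF μ⁻¹ * wq hF) * hq hF μ =
          (wq hF * wq hF) * hq hF μ⁻¹ * wq hF * hq hF μ := by group
      rw [e', wq_mul_wq, one_mul]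
    rw [e, wq_hq_wq, inv_inv, mul_assoc, hq_mul hm hF, hμ]
    exact hκ₀
  have hκ₃ : hq hF κ ∈ cjS (hq hF μ) (cjS (tq hF a b)⁻¹ M) := by
    rw [hmem₃, hq_mul hm hF, hq_mul hm hF]
    have e : μ⁻¹ * κ * μ = κ := by
      rw [mul_comm μ⁻¹ κ, mul_assoc, inv_mul_cancel, mul_one]
    rw [e]
    exact hκM₂
  have ht₃ : tq hF 0 (th F m μ * μ * b₀) ∈ cjS (hq hF μ) (cjS (tq hF a b)⁻¹ M) := by
    rw [hmem₃]
    have h3 := hq_tq_conj hm hF μ 0 b₀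
    rw [mul_zero] at h3
    rw [← h3, ← hq_inv hm hF]
    have e : (hq hF μ)⁻¹ * (hq hF μ * tq hF 0 b₀ * (hq hF μ)⁻¹) * hq hF μ = tq hF 0 b₀ := by group
    rw [e]
    exact ht₂
  have hb₀' : th F m μ * μ * b₀ ≠ 0 :=
    mul_ne_zero (mul_ne_zero (fun h => μ.ne_zero (th_eq_zero.mp h)) μ.ne_zero) hb₀
  obtain ⟨K', hK', hκK, hsub⟩ := caseii_b hm hF _ (cjS_ne_top _ _ (cjS_ne_top _ _ hM)) hw₃ _ hb₀'
    ht₃ κ hκ hκ₃
  refine ⟨K', hq hF μ * (tq hF a b)⁻¹, hK', hκK, fun g hg => hsub _ ?_⟩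
  rw [hmem₃, hmem₂]
  have e : tq hF a b * (hq hF μ⁻¹ * (hq hF μ * (tq hF a b)⁻¹ * g * (hq hF μ * (tq hF a b)⁻¹)⁻¹) *
      hq hF μ) * (tq hF a b)⁻¹ = g := by
    rw [← hq_inv hm hF]
    group
  rw [e]
  exact hg

theorem main_even (hm : 1 ≤ m) (hF : Fintype.card F = 2 ^ (2 * m + 1))
    (M : Subgroup (Cfsg.Sz F m)) (hM : M ≠ ⊤) (b₀ : F) (hb₀ : b₀ ≠ 0) (ht : tq hF 0 b₀ ∈ M) :
    Good₀ hF M := by
  by_cases hfix : ∀ x ∈ M, x • pt (F := F) m none = pt m none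
  · left
    exact ⟨_, hfix⟩
  push Not at hfix
  obtain ⟨g₀, hg₀, hg₀'⟩ := hfix
  by_cases hfrob : ∀ c ∈ M, c ≠ 1 → ∀ g₁ ∈ M, ∀ g₂ ∈ M,
      c • g₁ • pt (F := F) m none = g₁ • pt m none →
      c • g₂ • pt (F := F) m none = g₂ • pt m none →
      g₁ • pt (F := F) m none = g₂ • pt m none
  · right; left
    exact case_frob hm hF M b₀ hb₀ ht g₀ hg₀ hg₀' hfrob
  · right; right
    push Not at hfrob
    obtain ⟨c, hc, hc1, g₁, hg₁, g₂, hg₂, h1, h2, hne⟩ := hfrob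
    exact caseii hm hF M hM b₀ hb₀ ht c hc hc1 g₁ g₂ hg₁ hg₂ h1 h2 hne

theorem main_sub (hm : 1 ≤ m) (hF : Fintype.card F = 2 ^ (2 * m + 1))
    (M : Subgroup (Cfsg.Sz F m)) (hM : M ≠ ⊤) : Good₀ hF M := by
  by_cases hinv : ∃ t ∈ M, orderOf t = 2
  · obtain ⟨t, htM, ht2⟩ := hinv
    obtain ⟨x₀, b, hb⟩ := involution_conj hm hF t ht2
    have hb0 : b ≠ 0 := by
      rintro rfl
      rw [tq_zero hm hF] at hb
      have h1 : t = 1 := by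
        rw [hb]
        group
      rw [h1, orderOf_one] at ht2
      omega
    apply good_conj hF x₀⁻¹ M
    apply main_even hm hF _ (cjS_ne_top _ _ hM) b hb0
    rw [mem_cjS, inv_inv, ← hb]
    exact htM
  · push Not at hinv
    by_cases hbot : ∃ x₁ ∈ M, x₁ ≠ 1
    · obtain ⟨x₁, hx₁, hx₁1⟩ := hbot
      have hodd : ∀ y ∈ M, ∃ j : ℕ, y ^ (2 * j + 1) = 1 := fun y hy => odd_of_no_inv M hinv y hy
      obtain ⟨x, hxM, hx1, hxc⟩ := odd_sub hm hF M hodd x₁ hx₁ hx₁1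
      right; left
      refine ⟨x, hx1, hodd x hxM, fun n hn => ?_⟩
      exact Subgroup.mem_centralizer_singleton_iff.mp
        (hxc _ (M.mul_mem (M.mul_mem hn hxM) (M.inv_mem hn)))
    · push Not at hbot
      left
      exact ⟨pt m none, fun x hx => by rw [hbot x hx, one_smul]⟩

end Cfsg.Agent.helper11.Sz
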