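import Cfsg.Statements.S2126
import Cfsg.Agent.Lib_helper11_Sz28

set_option autoImplicit false
open Cfsg

namespace Cfsg.Agent.S2126

open Cfsg.Agent.helper11.Sz Cfsg.Agent.S0326 Cfsg.Agent.S3893 Matrix

section
variable {F : Type*} [Field F] [CharP F 2] [Fintype F] {m : ℕ}

/-- an element commuting with `T(1, 0)` and `w` is trivial -/
theorem eq_one_of_comm (hm : 1 ≤ m) (hF : Fintype.card F = 2 ^ (2 * m + 1)) (h : Cfsg.Sz F m)
    (h1 : h * tq hF 1 0 = tq hF 1 0 * h) (h2 : h * wq hF = wq hF * h) : h = 1 := by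
  obtain ⟨a, b, rfl⟩ := centralizer_tq hm hF 1 0 (fun h => one_ne_zero h.1) h h1
  have e : (Ts m a b * ws) • param (F := F) m none = (ws * Ts m a b) • param (F := F) m none := by
    have := congrArg Subtype.val h2
    have e' : Ts m a b * ws = ws * Ts m a b := this
    rw [e']
  rw [mul_smul, mul_smul, ws_smul_inf, Ts_smul_zero hF, Ts_smul_inf, ws_smul_inf] at e
  have := param_injective m e
  simp only [Option.some.injEq, Prod.mk.injEq] at this
  obtain ⟨rfl, rfl⟩ := this
  exact tq_zero hm hF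

theorem center_trivial (hm : 1 ≤ m) (hF : Fintype.card F = 2 ^ (2 * m + 1)) (z : Cfsg.Sz F m)
    (hz : ∀ x : Cfsg.Sz F m, z * x = x * z) : z = 1 :=
  eq_one_of_comm hm hF z (hz _) (hz _)

theorem compat_self (ι : F →+* F) : Compat m m ι := compat_of_pow ι (fun _ => rfl)

/-- the map `(g, ι) ↦ conj(g⁻¹) ∘ ι_*` -/
noncomputable def Phi (hm : 1 ≤ m) (hF : Fintype.card F = 2 ^ (2 * m + 1))
    (p : Cfsg.Sz F m × (F →+* F)) : Cfsg.Sz F m → Cfsg.Sz F m :=
  fun y => p.1⁻¹ * szMap hm hF hF p.2 (compat_self p.2) y * p.1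

theorem Phi_injective (hm : 1 ≤ m) (hF : Fintype.card F = 2 ^ (2 * m + 1)) :
    Function.Injective (Phi hm hF) := by
  rintro ⟨g, ι⟩ ⟨g', ι'⟩ h
  have hy : ∀ y, g⁻¹ * szMap hm hF hF ι (compat_self ι) y * g =
      g'⁻¹ * szMap hm hF hF ι' (compat_self ι') y * g' := fun y => congrFun h y
  have hy' : ∀ y, (g' * g⁻¹) * szMap hm hF hF ι (compat_self ι) y * (g' * g⁻¹)⁻¹ =
      szMap hm hF hF ι' (compat_self ι') y := by
    intro y
    have e : (g' * g⁻¹) * szMap hm hF hF ι (compat_self ι) y * (g' * g⁻¹)⁻¹ =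
        g' * (g⁻¹ * szMap hm hF hF ι (compat_self ι) y * g) * g'⁻¹ := by group
    rw [e, hy y]; group
  have h1 : (g' * g⁻¹) * tq hF 1 0 = tq hF 1 0 * (g' * g⁻¹) := by
    have := hy' (tq hF 1 0)
    rw [szMap_tq, szMap_tq, map_one, map_zero, map_one, map_zero] at this
    calc (g' * g⁻¹) * tq hF 1 0 = ((g' * g⁻¹) * tq hF 1 0 * (g' * g⁻¹)⁻¹) * (g' * g⁻¹) := by group
      _ = tq hF 1 0 * (g' * g⁻¹) := by rw [this]
  have h2 : (g' * g⁻¹) * wq hF = wq hF * (g' * g⁻¹) := by
    have := hy' (wq hF)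
    rw [szMap_wq, szMap_wq] at this
    calc (g' * g⁻¹) * wq hF = ((g' * g⁻¹) * wq hF * (g' * g⁻¹)⁻¹) * (g' * g⁻¹) := by group
      _ = wq hF * (g' * g⁻¹) := by rw [this]
  have h3 := eq_one_of_comm hm hF _ h1 h2
  have hgg : g' = g := by
    have : g' = (g' * g⁻¹) * g := by group
    rw [this, h3, one_mul]
  subst hgg
  have hι : ι = ι' := by
    ext a
    have := hy' (tq hF a 0)
    rw [szMap_tq, szMap_tq, h3, one_mul, inv_one, mul_one] at this
    exact (tq_injective hF this).1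
  rw [hι]

theorem range_eq (hm : 1 ≤ m) (hF : Fintype.card F = 2 ^ (2 * m + 1)) :
    Set.range (fun α : MulAut (Cfsg.Sz F m) => (α : Cfsg.Sz F m → Cfsg.Sz F m)) =
      Set.range (Phi hm hF) := by
  ext f
  constructor
  · rintro ⟨α, rfl⟩
    obtain ⟨g, ι, hc, hg⟩ := embedding_classification hm hm hF hF (fun _ => rfl)
      α.toMonoidHom α.injective
    refine ⟨(g, ι), ?_⟩
    funext y
    have := hg y
    show g⁻¹ * szMap hm hF hF ι _ y * g = α y
    rw [← this]
    show g⁻¹ * (g * α y * g⁻¹) * g = α y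
    group
  · rintro ⟨⟨g, ι⟩, rfl⟩
    have hinj := szMap_injective hm hF hF ι (compat_self ι)
    have hbij : Function.Bijective (szMap hm hF hF ι (compat_self ι)) :=
      ⟨hinj, Finite.injective_iff_surjective.mp hinj⟩
    refine ⟨(MulEquiv.ofBijective (szMap hm hF hF ι (compat_self ι)) hbij).trans
      (MulAut.conj g⁻¹), ?_⟩
    funext y
    show g⁻¹ * szMap hm hF hF ι (compat_self ι) y * (g⁻¹)⁻¹ = _
    rw [inv_inv]
    rfl

/-- ring endomorphisms of `F` are `ZMod 2`-algebra homomorphisms -/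
noncomputable def ringHomEquiv : (F →+* F) ≃
    (letI : Algebra (ZMod 2) F := ZMod.algebra F 2; F →ₐ[ZMod 2] F) :=
  letI : Algebra (ZMod 2) F := ZMod.algebra F 2
  { toFun := fun ι => { ι with
      commutes' := fun r => DFunLike.congr_fun
        (Subsingleton.elim (ι.comp (algebraMap (ZMod 2) F)) (algebraMap (ZMod 2) F)) r }
    invFun := fun f => f.toRingHom
    left_inv := fun ι => by ext; rfl
    right_inv := fun f => by ext; rfl }

theorem card_ringHom (hF : Fintype.card F = 2 ^ (2 * m + 1)) :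
    Nat.card (F →+* F) = 2 * m + 1 := by
  haveI : Fact (Nat.Prime 2) := ⟨Nat.prime_two⟩
  letI : Algebra (ZMod 2) F := ZMod.algebra F 2
  rw [Nat.card_congr ringHomEquiv,
    FiniteField.natCard_algHom_of_finrank_dvd (F := ZMod 2) (K := F) (L := F) (dvd_refl _)]
  have h := FiniteField.pow_finrank_eq_card 2 F
  rw [hF] at h
  exact Nat.pow_right_injective (le_refl 2) h

theorem card_aut (hm : 1 ≤ m) (hF : Fintype.card F = 2 ^ (2 * m + 1)) :
    Nat.card (MulAut (Cfsg.Sz F m)) = Nat.card (Cfsg.Sz F m) * (2 * m + 1) := by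
  have hΨ : Function.Injective
      (fun α : MulAut (Cfsg.Sz F m) => (α : Cfsg.Sz F m → Cfsg.Sz F m)) :=
    fun α β h => DFunLike.coe_injective h
  rw [Nat.card_congr (Equiv.ofInjective _ hΨ), range_eq hm hF,
    ← Nat.card_congr (Equiv.ofInjective _ (Phi_injective hm hF)), Nat.card_prod, card_ringHom hF]

end

/-- for a group with trivial centre, `Inn` has the order of the group -/
theorem card_inn {X : Type*} [Group X] (hX : ∀ z : X, (∀ x : X, z * x = x * z) → z = 1) :
    Nat.card (Cfsg.Inn X) = Nat.card X := by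
  have hinj : Function.Injective (MulAut.conj : X →* MulAut X) := by
    intro a b h
    have h1 : b⁻¹ * a = 1 := by
      apply hX
      intro x
      have := DFunLike.congr_fun h x
      rw [MulAut.conj_apply, MulAut.conj_apply] at this
      calc b⁻¹ * a * x = b⁻¹ * (a * x * a⁻¹) * a := by group
        _ = b⁻¹ * (b * x * b⁻¹) * a := by rw [this]
        _ = x * (b⁻¹ * a) := by group
    calc a = b * (b⁻¹ * a) := by group
      _ = b := by rw [h1, mul_one]
  exact Nat.card_congr (MonoidHom.ofInjective hinj).toEquiv.symm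

theorem result {F : Type*} [Field F] [Fintype F] {m : ℕ} (hm : 1 ≤ m) (hF : Fintype.card F = 2 ^ (2 * m + 1)) : Nat.card (Cfsg.Out ↥(Cfsg.Lie.Sz F (2 ^ (m + 1)))) = 2 * m + 1 := by
  haveI := charP_two hF
  set e := lieSzEquiv hm hF with he
  have hcL : ∀ z : Cfsg.Lie.Sz F (2 ^ (m + 1)), (∀ x, z * x = x * z) → z = 1 := by
    intro z hz
    have : e.symm z = 1 := by
      apply center_trivial hm hF
      intro x
      have := congrArg e.symm (hz (e x))
      rw [map_mul, map_mul, e.symm_apply_apply] at this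
      exact this
    have h := congrArg e this
    rw [e.apply_symm_apply, map_one] at h
    exact h
  have h1 : Nat.card (MulAut (Cfsg.Lie.Sz F (2 ^ (m + 1)))) =
      Nat.card (Cfsg.Sz F m) * (2 * m + 1) := by
    rw [← card_aut hm hF]
    exact Nat.card_congr (MulAut.congr e).toEquiv.symm
  have h2 : Nat.card (Cfsg.Inn (Cfsg.Lie.Sz F (2 ^ (m + 1)))) = Nat.card (Cfsg.Sz F m) := by
    rw [card_inn hcL]
    exact Nat.card_congr e.toEquiv.symm
  have h3 := Subgroup.card_eq_card_quotient_mul_card_subgroup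
    (Cfsg.Inn (Cfsg.Lie.Sz F (2 ^ (m + 1))))
  rw [h1, h2] at h3
  haveI : Finite (Cfsg.Sz F m) := inferInstance
  have hpos : 0 < Nat.card (Cfsg.Sz F m) := Nat.card_pos
  have h4 : Nat.card (Cfsg.Sz F m) * (2 * m + 1) =
      Nat.card (Cfsg.Sz F m) * Nat.card (Cfsg.Out (Cfsg.Lie.Sz F (2 ^ (m + 1)))) := by
    rw [h3, mul_comm]
  exact (Nat.eq_of_mul_eq_mul_left hpos h4).symm

end Cfsg.Agent.S2126
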