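import Mathlib
import Cfsg.Agent.Lib_helper11_Sz34
import Cfsg.Agent.S2126

set_option autoImplicit false

/-!
# Suzuki groups, part 35: solvable subgroups when `2 m + 1` is prime
-/

namespace Cfsg.Agent.helper11.Sz

open Matrix Cfsg.Agent.S0326 Cfsg.Agent.S0327 Cfsg.Agent.S3893 MulAction

variable {F : Type*} [Field F] [CharP F 2] [Fintype F] {m : ℕ}

/-- `x` and `y` lie in a common point stabiliser or in a common normaliser of a torus -/
def NT (x y : Cfsg.Sz F m) : Prop :=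
  (∃ p : Cfsg.suzukiOvoid F m, x • p = p ∧ y • p = p) ∨
  (∃ z : Cfsg.Sz F m, z ≠ 1 ∧ (∃ j : ℕ, z ^ (2 * j + 1) = 1) ∧
    x ∈ Subgroup.normalizer ((Subgroup.centralizer ({z} : Set (Cfsg.Sz F m)) :
      Subgroup (Cfsg.Sz F m)) : Set (Cfsg.Sz F m)) ∧
    y ∈ Subgroup.normalizer ((Subgroup.centralizer ({z} : Set (Cfsg.Sz F m)) :
      Subgroup (Cfsg.Sz F m)) : Set (Cfsg.Sz F m)))

theorem tq_mem_normalizer_Qs (hm : 1 ≤ m) (hF : Fintype.card F = 2 ^ (2 * m + 1)) (a b : F) :
    tq hF a b ∈ Subgroup.normalizer ((Qs hm hF : Subgroup (Cfsg.Sz F m)) : Set (Cfsg.Sz F m)) := by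
  rw [normalizer_Qs hm hF, MulAction.mem_stabilizer_iff, tq_smul_inf]

theorem hq_mem_normalizer_Qs (hm : 1 ≤ m) (hF : Fintype.card F = 2 ^ (2 * m + 1)) (k : Fˣ) :
    hq hF k ∈ Subgroup.normalizer ((Qs hm hF : Subgroup (Cfsg.Sz F m)) : Set (Cfsg.Sz F m)) := by
  rw [normalizer_Qs hm hF, MulAction.mem_stabilizer_iff, hq_smul_inf]

set_option maxHeartbeats 1000000 in
theorem solvable_normalizer_Qs (hm : 1 ≤ m) (hF : Fintype.card F = 2 ^ (2 * m + 1)) :
    Group.IsSolvable (Subgroup.normalizer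
      ((Qs hm hF : Subgroup (Cfsg.Sz F m)) : Set (Cfsg.Sz F m))) := by
  haveI : Fact (Nat.Prime 2) := ⟨Nat.prime_two⟩
  rw [Group.isSolvable_iff_subgroup_quotient ((Qs hm hF).subgroupOf (Subgroup.normalizer
      ((Qs hm hF : Subgroup (Cfsg.Sz F m)) : Set (Cfsg.Sz F m))))]
  constructor
  · have hp : IsPGroup 2 ((Qs hm hF).subgroupOf (Subgroup.normalizer
        ((Qs hm hF : Subgroup (Cfsg.Sz F m)) : Set (Cfsg.Sz F m)))) :=
      IsPGroup.comap_subtype (Qsyl hm hF).isPGroup'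
    haveI := hp.isNilpotent
    infer_instance
  · apply Group.isSolvable_of_comm
    have hH : ∀ g : Subgroup.normalizer ((Qs hm hF : Subgroup (Cfsg.Sz F m)) :
        Set (Cfsg.Sz F m)), ∃ k : Fˣ,
        (QuotientGroup.mk g : _ ⧸ (Qs hm hF).subgroupOf (Subgroup.normalizer
          ((Qs hm hF : Subgroup (Cfsg.Sz F m)) : Set (Cfsg.Sz F m)))) =
        QuotientGroup.mk ⟨hq hF k, hq_mem_normalizer_Qs hm hF k⟩ := by
      rintro ⟨g, hg⟩
      have hg' := hg
      rw [normalizer_Qs hm hF, MulAction.mem_stabilizer_iff] at hg'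
      obtain ⟨a, b, k, rfl⟩ := fix_inf hm hF g hg'
      refine ⟨k, ?_⟩
      rw [QuotientGroup.eq, Subgroup.mem_subgroupOf]
      show (tq hF a b * hq hF k)⁻¹ * hq hF k ∈ Qs hm hF
      have e : (tq hF a b * hq hF k)⁻¹ * hq hF k =
          (hq hF k)⁻¹ * (tq hF a b)⁻¹ * ((hq hF k)⁻¹)⁻¹ := by group
      rw [e, hq_inv hm hF]
      exact hq_conj_mem_Qs hm hF _ _ ((Qs hm hF).inv_mem (tq_mem_Qs hm hF a b))
    intro a b
    induction a using QuotientGroup.induction_on with
    | H g =>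
      induction b using QuotientGroup.induction_on with
      | H g' =>
        obtain ⟨k, hk⟩ := hH g
        obtain ⟨k', hk'⟩ := hH g'
        rw [hk, hk', ← QuotientGroup.mk_mul, ← QuotientGroup.mk_mul]
        congr 1
        exact Subtype.ext (hq_comm hm hF k k')

theorem solvable_stabilizer (hm : 1 ≤ m) (hF : Fintype.card F = 2 ^ (2 * m + 1))
    (p : Cfsg.suzukiOvoid F m) : Group.IsSolvable (stabilizer (Cfsg.Sz F m) p) := by
  obtain ⟨o, rfl⟩ := exists_pt p
  obtain ⟨z₀, hz₀, hz₀o⟩ := exists_smul_inf_eq hF o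
  have hz : pt (F := F) m o = (⟨z₀, hz₀⟩ : Cfsg.Sz F m) • pt (F := F) m none :=
    ((smul_pt_eq_iff _ _ _).mpr hz₀o).symm
  have e := stabilizerEquivStabilizer hz
  haveI : Group.IsSolvable (stabilizer (Cfsg.Sz F m) (pt (F := F) m none)) := by
    rw [← normalizer_Qs hm hF]
    exact solvable_normalizer_Qs hm hF
  exact Group.isSolvable_of_isSolvable_injective (f := e.symm.toMonoidHom) e.symm.injective

theorem tor_abelian (hm : 1 ≤ m) (hF : Fintype.card F = 2 ^ (2 * m + 1)) (z : Cfsg.Sz F m)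
    (hz1 : z ≠ 1) (j : ℕ) (hj : z ^ (2 * j + 1) = 1) (a b : Cfsg.Sz F m)
    (ha : a ∈ Subgroup.centralizer ({z} : Set (Cfsg.Sz F m)))
    (hb : b ∈ Subgroup.centralizer ({z} : Set (Cfsg.Sz F m))) : a * b = b * a := by
  by_cases ha1 : a = 1
  · rw [ha1, one_mul, mul_one]
  · have h := tor_cent hm hF z hz1 j hj a ha ha1
    rw [← h] at hb
    exact (Subgroup.mem_centralizer_singleton_iff.mp hb).symm

theorem tor_pow_four_mem (hm : 1 ≤ m) (hF : Fintype.card F = 2 ^ (2 * m + 1)) (x : Cfsg.Sz F m)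
    (hx1 : x ≠ 1) (j : ℕ) (hj : x ^ (2 * j + 1) = 1) (n : Cfsg.Sz F m)
    (hn : n ∈ Subgroup.normalizer
      ((Subgroup.centralizer ({x} : Set (Cfsg.Sz F m)) : Subgroup (Cfsg.Sz F m)) :
        Set (Cfsg.Sz F m))) :
    n ^ 4 ∈ Subgroup.centralizer ({x} : Set (Cfsg.Sz F m)) := by
  by_cases hf : IsFpf x
  · have hcard := card_normalizer_fpf hm hF hf
    have hpos : 0 < Nat.card (Subgroup.centralizer ({x} : Set (Cfsg.Sz F m))) := Nat.card_pos
    have hidx : ((Subgroup.centralizer ({x} : Set (Cfsg.Sz F m))).subgroupOf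
        (Subgroup.normalizer ((Subgroup.centralizer ({x} : Set (Cfsg.Sz F m)) :
          Subgroup (Cfsg.Sz F m)) : Set (Cfsg.Sz F m)))).index = 4 := by
      have h1 := Subgroup.card_mul_index ((Subgroup.centralizer ({x} : Set (Cfsg.Sz F m))).subgroupOf
        (Subgroup.normalizer ((Subgroup.centralizer ({x} : Set (Cfsg.Sz F m)) :
          Subgroup (Cfsg.Sz F m)) : Set (Cfsg.Sz F m))))
      rw [Nat.card_congr (Subgroup.subgroupOfEquivOfLe Subgroup.le_normalizer).toEquiv, hcard] at h1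
      nlinarith
    have := Subgroup.pow_index_mem ((Subgroup.centralizer ({x} : Set (Cfsg.Sz F m))).subgroupOf
      (Subgroup.normalizer ((Subgroup.centralizer ({x} : Set (Cfsg.Sz F m)) :
        Subgroup (Cfsg.Sz F m)) : Set (Cfsg.Sz F m)))) ⟨n, hn⟩
    rw [hidx, Subgroup.mem_subgroupOf] at this
    exact this
  · obtain ⟨g, k, hk, rfl⟩ := conj_hq_of_fix hm hF x hf j hj hx1
    have hmem : n * (g * hq hF k * g⁻¹) * n⁻¹ ∈
        Subgroup.centralizer ({g * hq hF k * g⁻¹} : Set (Cfsg.Sz F m)) :=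
      (Subgroup.mem_normalizer_iff.mp hn _).mp (Subgroup.mem_centralizer_singleton_iff.mpr rfl)
    obtain ⟨l, hl⟩ := (cent_conj_hq hm hF g k hk _).mp hmem
    have hconj : (g⁻¹ * n * g) * hq hF k * (g⁻¹ * n * g)⁻¹ = hq hF l := by
      have e : (g⁻¹ * n * g) * hq hF k * (g⁻¹ * n * g)⁻¹ =
          g⁻¹ * (n * (g * hq hF k * g⁻¹) * n⁻¹) * g := by group
      rw [e, hl]
      group
    rcases hq_conj_cases hm hF _ k l hk hconj with ⟨l', hl'⟩ | ⟨l', hl'⟩
    · apply Subgroup.pow_mem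
      rw [cent_conj_hq hm hF g k hk]
      exact ⟨l', by rw [← hl']; group⟩
    · have hsq : (g⁻¹ * n * g) ^ 2 = 1 := by
        rw [hl', pow_two]
        have e : wq hF * hq hF l' * (wq hF * hq hF l') =
            (wq hF * hq hF l' * wq hF) * hq hF l' := by group
        rw [e, wq_hq_wq, hq_mul hm hF, inv_mul_cancel, hq_one]
      have h4 : (g⁻¹ * n * g) ^ 4 = 1 := by
        have e4 : (g⁻¹ * n * g) ^ 4 = ((g⁻¹ * n * g) ^ 2) ^ 2 := by rw [← pow_mul]
        rw [e4, hsq, one_pow]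
      rw [conj_pow'] at h4
      have hn4 : n ^ 4 = 1 := by
        have e : n ^ 4 = g * (g⁻¹ * n ^ 4 * g) * g⁻¹ := by group
        rw [e, h4]
        group
      rw [hn4]
      exact Subgroup.one_mem _

set_option maxHeartbeats 1000000 in
theorem solvable_normalizer_tor (hm : 1 ≤ m) (hF : Fintype.card F = 2 ^ (2 * m + 1))
    (z : Cfsg.Sz F m) (hz1 : z ≠ 1) (j : ℕ) (hj : z ^ (2 * j + 1) = 1) :
    Group.IsSolvable (Subgroup.normalizer
      ((Subgroup.centralizer ({z} : Set (Cfsg.Sz F m)) : Subgroup (Cfsg.Sz F m)) :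
        Set (Cfsg.Sz F m))) := by
  haveI : Fact (Nat.Prime 2) := ⟨Nat.prime_two⟩
  rw [Group.isSolvable_iff_subgroup_quotient ((Subgroup.centralizer ({z} : Set (Cfsg.Sz F m))).subgroupOf
    (Subgroup.normalizer ((Subgroup.centralizer ({z} : Set (Cfsg.Sz F m)) :
      Subgroup (Cfsg.Sz F m)) : Set (Cfsg.Sz F m))))]
  constructor
  · apply Group.isSolvable_of_comm
    intro a b
    apply Subtype.ext
    apply Subtype.ext
    exact tor_abelian hm hF z hz1 j hj _ _ (Subgroup.mem_subgroupOf.mp a.2)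
      (Subgroup.mem_subgroupOf.mp b.2)
  · have hp : IsPGroup 2 (_ ⧸ (Subgroup.centralizer ({z} : Set (Cfsg.Sz F m))).subgroupOf
        (Subgroup.normalizer ((Subgroup.centralizer ({z} : Set (Cfsg.Sz F m)) :
          Subgroup (Cfsg.Sz F m)) : Set (Cfsg.Sz F m)))) := by
      intro a
      induction a using QuotientGroup.induction_on with
      | H n =>
        refine ⟨2, ?_⟩
        rw [← QuotientGroup.mk_pow, QuotientGroup.eq_one_iff, Subgroup.mem_subgroupOf]
        exact tor_pow_four_mem hm hF z hz1 j hj n.1 n.2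
    haveI := hp.isNilpotent
    infer_instance

theorem not_solvable (hm : 1 ≤ m) (hF : Fintype.card F = 2 ^ (2 * m + 1)) :
    ¬ Group.IsSolvable (Cfsg.Sz F m) := by
  intro h
  have hne : tq hF (1 : F) 0 ≠ 1 := fun h1 => one_ne_zero ((tq_eq_one_iff hm hF).mp h1).1
  haveI : IsSimpleGroup (Cfsg.Sz F m) :=
    { exists_pair_ne := ⟨tq hF 1 0, 1, hne⟩
      eq_bot_or_eq_top_of_normal := fun H hH => by
        by_cases hb : H = ⊥
        · exact Or.inl hb
        · exact Or.inr (normal_eq_top hm hF H hH hb) }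
  have hcomm := IsSimpleGroup.comm_iff_isSolvable.mpr h
  exact hne (Cfsg.Agent.S2126.center_trivial hm hF (tq hF 1 0) (fun x => hcomm _ _))

/-- for `2 m + 1` prime there is no proper subfield with more than two elements -/
theorem subfield_prime (hF : Fintype.card F = 2 ^ (2 * m + 1)) (hp : (2 * m + 1).Prime)
    (K' : Subfield F) (hK' : K' ≠ ⊤) (κ : Fˣ) (hκ : κ ≠ 1) (hκK : (κ : F) ∈ K') : False := by
  classical
  haveI : Fintype K' := Fintype.ofFinite K'
  have h1 := Module.card_eq_pow_finrank (K := K') (V := F)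
  have hr : Module.finrank K' F ≠ 0 := by
    intro h0
    rw [h0, pow_zero, hF] at h1
    have : 2 ^ 1 ≤ 2 ^ (2 * m + 1) := Nat.pow_le_pow_right (by norm_num) (by omega)
    omega
  have h1' : Fintype.card K' ∣ 2 ^ (2 * m + 1) := by
    rw [← hF, h1]
    exact dvd_pow_self _ hr
  obtain ⟨d, -, hd⟩ := (Nat.dvd_prime_pow Nat.prime_two).mp h1'
  have hdN : Nat.card K' = 2 ^ d := by rw [Nat.card_eq_fintype_card]; exact hd
  have hdvd : d ∣ 2 * m + 1 := subfield_card_dvd hF K' hdN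
  have hdne : d ≠ 2 * m + 1 := by
    intro hdeq
    apply hK'
    rw [eq_top_iff]
    intro x _
    have hbij : Function.Bijective (Subtype.val : K' → F) :=
      (Fintype.bijective_iff_injective_and_card _).mpr
        ⟨Subtype.val_injective, by rw [hd, hdeq, hF]⟩
    obtain ⟨y, rfl⟩ := hbij.2 x
    exact y.2
  have h3lt : 2 < Fintype.card K' := by
    rw [Fintype.two_lt_card_iff]
    refine ⟨⟨0, K'.zero_mem⟩, ⟨1, K'.one_mem⟩, ⟨κ, hκK⟩, ?_, ?_, ?_⟩
    · intro h
      exact zero_ne_one (congrArg Subtype.val h)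
    · intro h
      exact κ.ne_zero (congrArg Subtype.val h).symm
    · intro h
      exact hκ (Units.ext (congrArg Subtype.val h).symm)
  rcases (Nat.dvd_prime hp).mp hdvd with h | h
  · rw [hd, h] at h3lt
    norm_num at h3lt
  · exact hdne h

theorem stabilizer_ne_top (hm : 1 ≤ m) (hF : Fintype.card F = 2 ^ (2 * m + 1))
    (p : Cfsg.suzukiOvoid F m) : stabilizer (Cfsg.Sz F m) p ≠ ⊤ := by
  intro h
  obtain ⟨o, rfl⟩ := exists_pt p
  have hall : ∀ g : Cfsg.Sz F m, g • pt (F := F) m o = pt m o := by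
    intro g
    have : g ∈ stabilizer (Cfsg.Sz F m) (pt (F := F) m o) := by rw [h]; exact Subgroup.mem_top _
    exact this
  rcases o with _ | ⟨a, b⟩
  · have := hall (wq hF)
    rw [wq_smul_inf] at this
    exact pt_some_ne 0 0 this
  · have h1 := hall (tq hF a b)⁻¹
    rw [tq_inv_smul_pt] at h1
    have h2 := hall (wq hF)
    rw [← h1, wq_smul_zero] at h2
    exact pt_some_ne 0 0 h2.symm

theorem normalizer_tor_ne_top (hm : 1 ≤ m) (hF : Fintype.card F = 2 ^ (2 * m + 1))
    (z : Cfsg.Sz F m) (hz1 : z ≠ 1) :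
    Subgroup.normalizer ((Subgroup.centralizer ({z} : Set (Cfsg.Sz F m)) :
      Subgroup (Cfsg.Sz F m)) : Set (Cfsg.Sz F m)) ≠ ⊤ := by
  intro h
  have hnorm : (Subgroup.centralizer ({z} : Set (Cfsg.Sz F m))).Normal :=
    Subgroup.normalizer_eq_top_iff.mp h
  have hne : Subgroup.centralizer ({z} : Set (Cfsg.Sz F m)) ≠ ⊥ := by
    intro hb
    have : z ∈ Subgroup.centralizer ({z} : Set (Cfsg.Sz F m)) :=
      Subgroup.mem_centralizer_singleton_iff.mpr rfl
    rw [hb, Subgroup.mem_bot] at this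
    exact hz1 this
  have htop := normal_eq_top hm hF _ hnorm hne
  apply hz1
  apply Cfsg.Agent.S2126.center_trivial hm hF z
  intro x
  have : x ∈ Subgroup.centralizer ({z} : Set (Cfsg.Sz F m)) := by rw [htop]; exact Subgroup.mem_top _
  exact (Subgroup.mem_centralizer_singleton_iff.mp this).symm

set_option maxHeartbeats 1000000 in
/-- for `2 m + 1` prime: `⟨x, y⟩` is solvable iff `x`, `y` lie in a common point stabiliser or a
common torus normaliser -/
theorem sol_iff_NT (hm : 1 ≤ m) (hF : Fintype.card F = 2 ^ (2 * m + 1)) (hp : (2 * m + 1).Prime)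
    (x y : Cfsg.Sz F m) :
    Group.IsSolvable (Subgroup.closure ({x, y} : Set (Cfsg.Sz F m))) ↔ NT x y := by
  have hxm : x ∈ Subgroup.closure ({x, y} : Set (Cfsg.Sz F m)) :=
    Subgroup.subset_closure (Set.mem_insert _ _)
  have hym : y ∈ Subgroup.closure ({x, y} : Set (Cfsg.Sz F m)) :=
    Subgroup.subset_closure (Set.mem_insert_of_mem _ rfl)
  constructor
  · intro hsol
    have htop : Subgroup.closure ({x, y} : Set (Cfsg.Sz F m)) ≠ ⊤ := by
      intro h
      apply not_solvable hm hF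
      rw [h] at hsol
      exact Group.isSolvable_of_surjective (f := (Subgroup.topEquiv : _ ≃* Cfsg.Sz F m).toMonoidHom)
        Subgroup.topEquiv.surjective
    rcases main_sub hm hF _ htop with ⟨p, hp'⟩ | ⟨z, hz1, ⟨j, hj⟩, hn⟩ | ⟨K', z, hK', ⟨κ, hκ, hκK⟩, -⟩
    · left
      exact ⟨p, hp' x hxm, hp' y hym⟩
    · right
      exact ⟨z, hz1, ⟨j, hj⟩, tor_norm hm hF z hz1 j hj x (hn x hxm),
        tor_norm hm hF z hz1 j hj y (hn y hym)⟩
    · exact (subfield_prime hF hp K' hK' κ hκ hκK).elim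
  · rintro (⟨p, hxp, hyp⟩ | ⟨z, hz1, ⟨j, hj⟩, hxz, hyz⟩)
    · have hle : Subgroup.closure ({x, y} : Set (Cfsg.Sz F m)) ≤ stabilizer (Cfsg.Sz F m) p := by
        rw [Subgroup.closure_le]
        intro g hg
        rcases hg with rfl | rfl
        · exact hxp
        · exact hyp
      haveI := solvable_stabilizer hm hF p
      exact Group.isSolvable_of_isSolvable_injective (Subgroup.inclusion_injective hle)
    · have hle : Subgroup.closure ({x, y} : Set (Cfsg.Sz F m)) ≤ Subgroup.normalizer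
          ((Subgroup.centralizer ({z} : Set (Cfsg.Sz F m)) : Subgroup (Cfsg.Sz F m)) :
            Set (Cfsg.Sz F m)) := by
        rw [Subgroup.closure_le]
        intro g hg
        rcases hg with rfl | rfl
        · exact hxz
        · exact hyz
      haveI := solvable_normalizer_tor hm hF z hz1 j hj
      exact Group.isSolvable_of_isSolvable_injective (Subgroup.inclusion_injective hle)

end Cfsg.Agent.helper11.Sz
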