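import Mathlib
import Cfsg.Agent.Lib_helper11_Sz35

set_option autoImplicit false

/-!
# Suzuki groups, part 36: solubilizers of semisimple elements
-/

namespace Cfsg.Agent.helper11.Sz

open Matrix Cfsg.Agent.S0326 Cfsg.Agent.S0327 Cfsg.Agent.S3893 MulAction

section general

variable {G H : Type*} [Group G] [Group H]

theorem solvable_closure_equiv (e : G ≃* H) (a b : G) :
    Group.IsSolvable (Subgroup.closure ({e a, e b} : Set H)) ↔
      Group.IsSolvable (Subgroup.closure ({a, b} : Set G)) := by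
  have h1 : Subgroup.closure ({e a, e b} : Set H) =
      (Subgroup.closure ({a, b} : Set G)).map (e : G →* H) := by
    rw [MonoidHom.map_closure, Set.image_pair]
    rfl
  rw [h1]
  have e' := e.subgroupMap (Subgroup.closure ({a, b} : Set G))
  constructor
  · intro h
    haveI := h
    exact Group.isSolvable_of_isSolvable_injective (f := e'.toMonoidHom) e'.injective
  · intro h
    haveI := h
    exact Group.isSolvable_of_isSolvable_injective (f := e'.symm.toMonoidHom) e'.symm.injective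

theorem card_sol_equiv (e : G ≃* H) (x : G) :
    Nat.card {y : H // Group.IsSolvable (Subgroup.closure ({e x, y} : Set H))} =
      Nat.card {y : G // Group.IsSolvable (Subgroup.closure ({x, y} : Set G))} := by
  symm
  apply Nat.card_congr
  exact e.toEquiv.subtypeEquiv (fun y => (solvable_closure_equiv e x y).symm)

theorem card_sol_conj (g x : G) :
    Nat.card {y : G // Group.IsSolvable (Subgroup.closure ({g * x * g⁻¹, y} : Set G))} =
      Nat.card {y : G // Group.IsSolvable (Subgroup.closure ({x, y} : Set G))} := by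
  have h := card_sol_equiv (MulAut.conj g) x
  rwa [MulAut.conj_apply] at h

theorem mem_cent_conj (g s c : G) :
    g * c * g⁻¹ ∈ Subgroup.centralizer ({g * s * g⁻¹} : Set G) ↔
      c ∈ Subgroup.centralizer ({s} : Set G) := by
  rw [Subgroup.mem_centralizer_singleton_iff, Subgroup.mem_centralizer_singleton_iff]
  constructor
  · intro h
    have h2 : g * (c * s) * g⁻¹ = g * (s * c) * g⁻¹ := by
      calc g * (c * s) * g⁻¹ = g * c * g⁻¹ * (g * s * g⁻¹) := by group
        _ = g * s * g⁻¹ * (g * c * g⁻¹) := h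
        _ = g * (s * c) * g⁻¹ := by group
    exact mul_left_cancel (mul_right_cancel h2)
  · intro h
    calc g * c * g⁻¹ * (g * s * g⁻¹) = g * (c * s) * g⁻¹ := by group
      _ = g * (s * c) * g⁻¹ := by rw [h]
      _ = g * s * g⁻¹ * (g * c * g⁻¹) := by group

theorem mem_cent_conj' (g s c : G) :
    c ∈ Subgroup.centralizer ({g * s * g⁻¹} : Set G) ↔
      g⁻¹ * c * g ∈ Subgroup.centralizer ({s} : Set G) := by
  have h := mem_cent_conj g s (g⁻¹ * c * g)
  rwa [show g * (g⁻¹ * c * g) * g⁻¹ = c by group] at h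

theorem mem_norm_conj (g s n : G) :
    g * n * g⁻¹ ∈ Subgroup.normalizer
        ((Subgroup.centralizer ({g * s * g⁻¹} : Set G) : Subgroup G) : Set G) ↔
      n ∈ Subgroup.normalizer ((Subgroup.centralizer ({s} : Set G) : Subgroup G) : Set G) := by
  rw [Subgroup.mem_normalizer_iff, Subgroup.mem_normalizer_iff]
  constructor
  · intro h c
    have h1 := h (g * c * g⁻¹)
    rw [mem_cent_conj] at h1
    have e : g * n * g⁻¹ * (g * c * g⁻¹) * (g * n * g⁻¹)⁻¹ = g * (n * c * n⁻¹) * g⁻¹ := by group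
    rw [e, mem_cent_conj] at h1
    exact h1
  · intro h c
    have h1 := h (g⁻¹ * c * g)
    have e2 : g * n * g⁻¹ * c * (g * n * g⁻¹)⁻¹ = g * (n * (g⁻¹ * c * g) * n⁻¹) * g⁻¹ := by group
    rw [e2, mem_cent_conj, mem_cent_conj']
    exact h1

theorem mem_norm_conj' (g s n : G) :
    n ∈ Subgroup.normalizer
        ((Subgroup.centralizer ({g * s * g⁻¹} : Set G) : Subgroup G) : Set G) ↔
      g⁻¹ * n * g ∈
        Subgroup.normalizer ((Subgroup.centralizer ({s} : Set G) : Subgroup G) : Set G) := by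
  have h := mem_norm_conj g s (g⁻¹ * n * g)
  rwa [show g * (g⁻¹ * n * g) * g⁻¹ = n by group] at h

theorem self_mem_norm_cent (s : G) :
    s ∈ Subgroup.normalizer ((Subgroup.centralizer ({s} : Set G) : Subgroup G) : Set G) :=
  Subgroup.le_normalizer (Subgroup.mem_centralizer_singleton_iff.mpr rfl)

/-- in odd order, squaring is injective -/
theorem eq_of_sq_eq (s s' : G) (j j' : ℕ) (hs : s ^ (2 * j + 1) = 1) (hs' : s' ^ (2 * j' + 1) = 1)
    (h : s ^ 2 = s' ^ 2) : s = s' := by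
  have e : 2 * (2 * j * j' + j + j') + 1 = (2 * j + 1) * (2 * j' + 1) := by ring
  have h1 : s ^ (2 * (2 * j * j' + j + j') + 1) = 1 := by rw [e, pow_mul, hs, one_pow]
  have h2 : s' ^ (2 * (2 * j * j' + j + j') + 1) = 1 := by
    rw [e, mul_comm, pow_mul, hs', one_pow]
  have h3 : s = (s ^ 2) ^ (2 * j * j' + j + j' + 1) := by
    rw [← pow_mul]
    have : 2 * (2 * j * j' + j + j' + 1) = (2 * (2 * j * j' + j + j') + 1) + 1 := by ring
    rw [this, pow_succ, h1, one_mul]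
  have h4 : s' = (s' ^ 2) ^ (2 * j * j' + j + j' + 1) := by
    rw [← pow_mul]
    have : 2 * (2 * j * j' + j + j' + 1) = (2 * (2 * j * j' + j + j') + 1) + 1 := by ring
    rw [this, pow_succ, h2, one_mul]
  rw [h3, h4, h]

end general

variable {F : Type*} [Field F] [CharP F 2] [Fintype F] {m : ℕ}

theorem two_trans' (hF : Fintype.card F = 2 ^ (2 * m + 1)) (a b : Cfsg.suzukiOvoid F m)
    (hab : a ≠ b) :
    ∃ g : Cfsg.Sz F m, g • a = pt m none ∧ g • b = pt m (some (0, 0)) := by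
  obtain ⟨oa, rfl⟩ := exists_pt a
  obtain ⟨ob, rfl⟩ := exists_pt b
  have hne : oa ≠ ob := fun h => hab (by rw [h])
  obtain ⟨g, hg, h0, h1⟩ := two_trans hF oa ob hne
  exact ⟨⟨g, hg⟩, (smul_pt_eq_iff _ _ _).mpr h0, (smul_pt_eq_iff _ _ _).mpr h1⟩

theorem card_sol_eq_NT (hm : 1 ≤ m) (hF : Fintype.card F = 2 ^ (2 * m + 1))
    (hp : (2 * m + 1).Prime) (x : Cfsg.Sz F m) :
    Nat.card {y : Cfsg.Sz F m //
        Group.IsSolvable (Subgroup.closure ({x, y} : Set (Cfsg.Sz F m)))} =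
      Nat.card {y : Cfsg.Sz F m // NT x y} :=
  Nat.card_congr (Equiv.subtypeEquivRight (fun y => sol_iff_NT hm hF hp x y))

/-! ### arithmetic -/

theorem r_le_q (m : ℕ) : 2 ^ (m + 1) ≤ 2 ^ (2 * m + 1) :=
  Nat.pow_le_pow_right (by norm_num) (by omega)

theorem Np_mul_Nm (m : ℕ) :
    (2 ^ (2 * m + 1) + 2 ^ (m + 1) + 1) * (2 ^ (2 * m + 1) - 2 ^ (m + 1) + 1) =
      (2 ^ (2 * m + 1)) ^ 2 + 1 := by
  have hr : 2 ^ (m + 1) * 2 ^ (m + 1) = 2 * 2 ^ (2 * m + 1) := by
    rw [← pow_add, ← pow_succ']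
    congr 1
    omega
  obtain ⟨d, hd⟩ := Nat.exists_eq_add_of_le (r_le_q m)
  rw [hd] at hr ⊢
  generalize 2 ^ (m + 1) = r at *
  rw [Nat.add_sub_cancel_left]
  nlinarith [hr]

theorem Np_odd (m : ℕ) : ∃ j : ℕ, 2 ^ (2 * m + 1) + 2 ^ (m + 1) + 1 = 2 * j + 1 := by
  have h1 : 2 ^ (2 * m + 1) = 2 * 2 ^ (2 * m) := pow_succ' _ _
  have h2 : 2 ^ (m + 1) = 2 * 2 ^ m := pow_succ' _ _
  exact ⟨2 ^ (2 * m) + 2 ^ m, by omega⟩

theorem Nm_odd (m : ℕ) : ∃ j : ℕ, 2 ^ (2 * m + 1) - 2 ^ (m + 1) + 1 = 2 * j + 1 := by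
  have h1 : 2 ^ (2 * m + 1) = 2 * 2 ^ (2 * m) := pow_succ' _ _
  have h2 : 2 ^ (m + 1) = 2 * 2 ^ m := pow_succ' _ _
  have h3 : 2 ^ m ≤ 2 ^ (2 * m) := Nat.pow_le_pow_right (by norm_num) (by omega)
  exact ⟨2 ^ (2 * m) - 2 ^ m, by omega⟩

theorem Np_Nm_coprime (m : ℕ) (l : ℕ) (hl : l.Prime)
    (h1 : l ∣ 2 ^ (2 * m + 1) + 2 ^ (m + 1) + 1)
    (h2 : l ∣ 2 ^ (2 * m + 1) - 2 ^ (m + 1) + 1) : False := by
  have h3 := Nat.dvd_sub h1 h2
  have hle := r_le_q m
  have e : 2 ^ (2 * m + 1) + 2 ^ (m + 1) + 1 - (2 ^ (2 * m + 1) - 2 ^ (m + 1) + 1) =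
      2 ^ (m + 2) := by
    have : 2 ^ (m + 2) = 2 * 2 ^ (m + 1) := pow_succ' _ _
    omega
  rw [e] at h3
  have h4 := hl.dvd_of_dvd_pow h3
  have h5 := (Nat.prime_dvd_prime_iff_eq hl Nat.prime_two).mp h4
  subst h5
  obtain ⟨j, hj⟩ := Np_odd m
  omega

/-! ### elements of order dividing `q ± r + 1` -/

theorem NT_fpf_iff (hm : 1 ≤ m) (hF : Fintype.card F = 2 ^ (2 * m + 1)) (x : Cfsg.Sz F m)
    (hx : IsFpf x) (hx1 : x ≠ 1) (j : ℕ) (hj : x ^ (2 * j + 1) = 1) (y : Cfsg.Sz F m) :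
    NT x y ↔ y ∈ Subgroup.normalizer
      ((Subgroup.centralizer ({x} : Set (Cfsg.Sz F m)) : Subgroup (Cfsg.Sz F m)) :
        Set (Cfsg.Sz F m)) := by
  constructor
  · rintro (⟨p, hxp, -⟩ | ⟨z, hz1, ⟨i, hi⟩, hxz, hyz⟩)
    · exact absurd hxp (hx p)
    · have hxC := tor_odd_mem hm hF z hz1 i hi x hxz j hj
      have hC := tor_cent hm hF z hz1 i hi x hxC hx1
      rw [hC]
      exact hyz
  · intro hy
    exact Or.inr ⟨x, hx1, ⟨j, hj⟩, self_mem_norm_cent x, hy⟩

theorem card_NT_of_dvd (hm : 1 ≤ m) (hF : Fintype.card F = 2 ^ (2 * m + 1)) (x : Cfsg.Sz F m)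
    (hx1 : x ≠ 1) (N N' : ℕ) (hNN' : N * N' = (2 ^ (2 * m + 1)) ^ 2 + 1)
    (hodd : ∃ j : ℕ, N = 2 * j + 1)
    (hcop : ∀ l : ℕ, l.Prime → l ∣ N → l ∣ N' → False)
    (hcases : ∀ g : Cfsg.Sz F m, IsFpf g → cw g = N ∨ cw g = N') (hdvd : orderOf x ∣ N) :
    Nat.card {y : Cfsg.Sz F m // NT x y} = 4 * N := by
  obtain ⟨j, hj⟩ := hodd
  have hxj : x ^ (2 * j + 1) = 1 := by
    rw [← hj]
    exact orderOf_dvd_iff_pow_eq_one.mp hdvd
  have ho1 : orderOf x ≠ 1 := fun h => hx1 (orderOf_eq_one_iff.mp h)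
  have hl := Nat.minFac_prime ho1
  have hlx := Nat.minFac_dvd (orderOf x)
  have hlN : (orderOf x).minFac ∣ N := hlx.trans hdvd
  have hfpf : IsFpf x := by
    by_contra hnf
    obtain ⟨g, k, hk, hxg⟩ := conj_hq_of_fix hm hF x hnf j hxj hx1
    have h1 : x ^ (Fintype.card F - 1) = 1 := by
      rw [hxg, conj_pow, hq_pow_card hm hF k]
      group
    have h2 : orderOf x ∣ Fintype.card F - 1 := orderOf_dvd_of_pow_eq_one h1
    apply not_dvd_both hF hl
    · rw [hF, ← hNN']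
      exact hlN.trans (dvd_mul_right _ _)
    · exact (hlx.trans h2).trans (dvd_mul_left _ _)
  have hcw : cw x = N := by
    rcases hcases x hfpf with h | h
    · exact h
    · exfalso
      apply hcop _ hl hlN
      rw [← h, cw_def]
      exact hlx.trans (Subgroup.orderOf_dvd_natCard _
        (Subgroup.mem_centralizer_singleton_iff.mpr rfl))
  rw [Nat.card_congr (Equiv.subtypeEquivRight (fun y => NT_fpf_iff hm hF x hfpf hx1 j hxj y))]
  rw [← hcw, cw_def]
  exact card_normalizer_fpf hm hF hfpf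

/-! ### elements of order dividing `q - 1` -/

theorem hq_odd (hm : 1 ≤ m) (hF : Fintype.card F = 2 ^ (2 * m + 1)) :
    ∃ j : ℕ, ∀ k : Fˣ, hq (m := m) hF k ^ (2 * j + 1) = 1 := by
  obtain ⟨j, hj⟩ := card_sub_one_odd hF (m := m)
  exact ⟨j, fun k => by rw [← hj]; exact hq_pow_card hm hF k⟩

theorem wq_hq_conj (hm : 1 ≤ m) (hF : Fintype.card F = 2 ^ (2 * m + 1)) (l k : Fˣ) :
    wq hF * hq hF l * hq hF k * (wq hF * hq hF l)⁻¹ = hq (m := m) hF k⁻¹ := by
  rw [_root_.mul_inv_rev, hq_inv hm hF, wq_inv hF]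
  have e : wq hF * hq hF l * hq hF k * (hq hF l⁻¹ * wq hF) =
      wq hF * (hq hF l * hq hF k * hq hF l⁻¹) * wq (m := m) hF := by group
  rw [e, hq_mul hm hF, hq_mul hm hF, mul_comm l k, mul_inv_cancel_right, wq_hq_wq]

theorem NT_hq_iff (hm : 1 ≤ m) (hF : Fintype.card F = 2 ^ (2 * m + 1)) (k : Fˣ) (hk : k ≠ 1)
    (y : Cfsg.Sz F m) :
    NT (hq hF k) y ↔ (y • pt (F := F) m none = pt m none ∨
      y • pt (F := F) m (some (0, 0)) = pt m (some (0, 0)) ∨ ∃ l : Fˣ, y = wq hF * hq hF l) := by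
  obtain ⟨j, hj⟩ := hq_odd hm hF (m := m) (F := F)
  have hk1 : hq (m := m) hF k ≠ 1 := hq_ne_one hF hk
  constructor
  · rintro (⟨p, hkp, hyp⟩ | ⟨z, hz1, ⟨i, hi⟩, hxz, hyz⟩)
    · rcases hq_fix_cases hF k hk p hkp with rfl | rfl
      · exact Or.inl hyp
      · exact Or.inr (Or.inl hyp)
    · have hxC := tor_odd_mem hm hF z hz1 i hi _ hxz j (hj k)
      have hC := tor_cent hm hF z hz1 i hi _ hxC hk1
      rw [← hC] at hyz
      have h1 : y * hq hF k * y⁻¹ ∈ Subgroup.centralizer ({hq hF k} : Set (Cfsg.Sz F m)) :=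
        (Subgroup.mem_normalizer_iff.mp hyz (hq hF k)).mp
          (Subgroup.mem_centralizer_singleton_iff.mpr rfl)
      obtain ⟨k', hk'⟩ := centralizer_hq hm hF k hk _
        (Subgroup.mem_centralizer_singleton_iff.mp h1)
      rcases hq_conj_cases hm hF y k k' hk hk' with ⟨l, rfl⟩ | ⟨l, rfl⟩
      · left
        exact hq_smul_inf hF l
      · right
        right
        exact ⟨l, rfl⟩
  · rintro (h | h | ⟨l, rfl⟩)
    · exact Or.inl ⟨_, hq_smul_inf hF k, h⟩
    · exact Or.inl ⟨_, hq_smul_zero hF k, h⟩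
    · right
      refine ⟨hq hF k, hk1, ⟨j, hj k⟩, self_mem_norm_cent _, ?_⟩
      apply tor_norm hm hF _ hk1 j (hj k)
      rw [wq_hq_conj hm hF]
      exact hq_comm hm hF _ _

set_option maxHeartbeats 1000000 in
theorem card_NT_hq (hm : 1 ≤ m) (hF : Fintype.card F = 2 ^ (2 * m + 1)) (k : Fˣ) (hk : k ≠ 1) :
    Nat.card {y : Cfsg.Sz F m // NT (hq hF k) y} =
      2 * (Fintype.card F) ^ 2 * (Fintype.card F - 1) := by
  classical
  have hA : ({y : Cfsg.Sz F m | y • pt (F := F) m none = pt m none}).ncard =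
      Fintype.card F ^ 2 * (Fintype.card F - 1) := by
    rw [← Nat.card_coe_set_eq]
    exact card_stabilizer hm hF (pt m none)
  have hB : ({y : Cfsg.Sz F m | y • pt (F := F) m (some (0, 0)) = pt m (some (0, 0))}).ncard =
      Fintype.card F ^ 2 * (Fintype.card F - 1) := by
    rw [← Nat.card_coe_set_eq]
    exact card_stabilizer hm hF (pt m (some (0, 0)))
  have hAB : {y : Cfsg.Sz F m | y • pt (F := F) m none = pt m none} ∩
      {y : Cfsg.Sz F m | y • pt (F := F) m (some (0, 0)) = pt m (some (0, 0))} =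
      Set.range (fun l : Fˣ => hq (m := m) hF l) := by
    ext y
    simp only [Set.mem_inter_iff, Set.mem_ofPred_eq, Set.mem_range]
    constructor
    · rintro ⟨h1, h2⟩
      obtain ⟨l, rfl⟩ := fix_inf_zero hm hF y h1 h2
      exact ⟨l, rfl⟩
    · rintro ⟨l, rfl⟩
      exact ⟨hq_smul_inf hF l, hq_smul_zero hF l⟩
  have hC : {y : Cfsg.Sz F m | ∃ l : Fˣ, y = wq hF * hq hF l} =
      Set.range (fun l : Fˣ => wq (m := m) hF * hq (m := m) hF l) := by
    ext y
    simp only [Set.mem_ofPred_eq, Set.mem_range]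
    constructor
    · rintro ⟨l, rfl⟩
      exact ⟨l, rfl⟩
    · rintro ⟨l, rfl⟩
      exact ⟨l, rfl⟩
  have hinj1 : Function.Injective (fun l : Fˣ => hq (m := m) hF l) := fun a b h => hq_injective hF h
  have hinj2 : Function.Injective (fun l : Fˣ => wq (m := m) hF * hq (m := m) hF l) :=
    fun a b h => hq_injective hF (mul_left_cancel h)
  have hD1 : (Set.range (fun l : Fˣ => hq (m := m) hF l)).ncard = Nat.card Fˣ := by
    rw [← Nat.card_coe_set_eq, Nat.card_range_of_injective hinj1]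
  have hD2 : (Set.range (fun l : Fˣ => wq (m := m) hF * hq (m := m) hF l)).ncard = Nat.card Fˣ := by
    rw [← Nat.card_coe_set_eq, Nat.card_range_of_injective hinj2]
  have hdisj : Disjoint ({y : Cfsg.Sz F m | y • pt (F := F) m none = pt m none} ∪
      {y : Cfsg.Sz F m | y • pt (F := F) m (some (0, 0)) = pt m (some (0, 0))})
      {y : Cfsg.Sz F m | ∃ l : Fˣ, y = wq hF * hq hF l} := by
    rw [Set.disjoint_left]
    rintro y (h | h) ⟨l, rfl⟩
    · simp only [Set.mem_ofPred_eq] at h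
      rw [mul_smul, hq_smul_inf, wq_smul_inf] at h
      exact pt_some_ne _ _ h
    · simp only [Set.mem_ofPred_eq] at h
      rw [mul_smul, hq_smul_zero, wq_smul_zero] at h
      exact pt_some_ne _ _ h.symm
  have hU := Set.ncard_union_add_ncard_inter
    {y : Cfsg.Sz F m | y • pt (F := F) m none = pt m none}
    {y : Cfsg.Sz F m | y • pt (F := F) m (some (0, 0)) = pt m (some (0, 0))}
  have hU2 := Set.ncard_union_eq hdisj
  rw [hAB, hD1, hA, hB] at hU
  rw [hC, hD2] at hU2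
  have hset : Nat.card {y : Cfsg.Sz F m // NT (hq hF k) y} =
      (({y : Cfsg.Sz F m | y • pt (F := F) m none = pt m none} ∪
      {y : Cfsg.Sz F m | y • pt (F := F) m (some (0, 0)) = pt m (some (0, 0))}) ∪
      {y : Cfsg.Sz F m | ∃ l : Fˣ, y = wq hF * hq hF l}).ncard := by
    rw [← Nat.card_coe_set_eq]
    apply Nat.card_congr
    apply Equiv.subtypeEquivRight
    intro y
    rw [NT_hq_iff hm hF k hk y]
    simp only [Set.mem_union, Set.mem_ofPred_eq, or_assoc]
  rw [hset, hC, hU2]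
  have : 2 * Fintype.card F ^ 2 * (Fintype.card F - 1) =
      Fintype.card F ^ 2 * (Fintype.card F - 1) + Fintype.card F ^ 2 * (Fintype.card F - 1) := by
    ring
  rw [this]
  omega

end Cfsg.Agent.helper11.Sz
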