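import Mathlib
import Cfsg.Agent.Lib_helper11_Sz36

set_option autoImplicit false

/-!
# Suzuki groups, part 37: elements inverted by an involution
-/

namespace Cfsg.Agent.helper11.Sz

open Matrix Cfsg.Agent.S0326 Cfsg.Agent.S0327 Cfsg.Agent.S3893 MulAction

variable {F : Type*} [Field F] [CharP F 2] [Fintype F] {m : ℕ}

/-- normaliser of the centraliser -/
abbrev NC (s : Cfsg.Sz F m) : Subgroup (Cfsg.Sz F m) :=
  Subgroup.normalizer ((Subgroup.centralizer ({s} : Set (Cfsg.Sz F m)) : Subgroup (Cfsg.Sz F m)) :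
    Set (Cfsg.Sz F m))

/-- elements inverted by the involution `tq 0 b₀` which move `∞` -/
def TT (hF : Fintype.card F = 2 ^ (2 * m + 1)) (b₀ : F) : Set (Cfsg.Sz F m) :=
  {s | tq hF 0 b₀ * s * tq hF 0 b₀ = s⁻¹ ∧ s • pt (F := F) m none ≠ pt m none}

theorem tq0_inv (hm : 1 ≤ m) (hF : Fintype.card F = 2 ^ (2 * m + 1)) (b : F) :
    (tq hF 0 b)⁻¹ = tq hF 0 b :=
  inv_eq_of_mul_eq_one_left (tq_zero_sq hm hF b)

theorem tq0_ne_one (hm : 1 ≤ m) (hF : Fintype.card F = 2 ^ (2 * m + 1)) (b : F) (hb : b ≠ 0) :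
    tq hF 0 b ≠ 1 := fun h => hb ((tq_eq_one_iff hm hF).mp h).2

theorem inv_fix (hF : Fintype.card F = 2 ^ (2 * m + 1)) (g : Cfsg.Sz F m) (c : F) (hc : c ≠ 0)
    (w : Cfsg.suzukiOvoid F m) :
    (g * tq hF 0 c * g⁻¹) • w = w ↔ w = g • pt (F := F) m none := by
  rw [mul_smul, mul_smul, smul_eq_iff_eq_inv_smul, tq_fix_iff hF 0 c (fun h => hc h.2),
    inv_smul_eq_iff]

theorem TT_ne_one (hF : Fintype.card F = 2 ^ (2 * m + 1)) (b₀ : F) (s : Cfsg.Sz F m)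
    (hs : s ∈ TT hF b₀) : s ≠ 1 := by
  rintro rfl
  exact hs.2 (one_smul _ _)

set_option maxHeartbeats 1000000 in
theorem TT_odd (hm : 1 ≤ m) (hF : Fintype.card F = 2 ^ (2 * m + 1)) (b₀ : F) (hb₀ : b₀ ≠ 0)
    (s : Cfsg.Sz F m) (hs : s ∈ TT hF b₀) : ∃ j : ℕ, s ^ (2 * j + 1) = 1 := by
  haveI : Fact (Nat.Prime 2) := ⟨Nat.prime_two⟩
  obtain ⟨hinv, hmov⟩ := hs
  obtain ⟨k, hk | hk⟩ := Nat.even_or_odd' (orderOf s)
  swap
  · exact ⟨k, by rw [← hk]; exact pow_orderOf_eq_one s⟩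
  exfalso
  have hpos : 0 < orderOf s := orderOf_pos s
  have hk0 : k ≠ 0 := by omega
  have hu1 : s ^ k ≠ 1 := pow_ne_one_of_lt_orderOf hk0 (by omega)
  have hu2 : (s ^ k) ^ 2 = 1 := by
    rw [← pow_mul, mul_comm, ← hk]
    exact pow_orderOf_eq_one s
  have ho : orderOf (s ^ k) = 2 := orderOf_eq_prime hu2 hu1
  obtain ⟨g, b, hgb⟩ := involution_conj hm hF _ ho
  have hb : b ≠ 0 := by
    rintro rfl
    apply hu1
    rw [hgb, tq_zero hm hF]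
    group
  have hx2 := tq_zero_sq hm hF b₀
  have hxu : tq hF 0 b₀ * s ^ k * tq hF 0 b₀ = s ^ k := by
    have h1 : (tq hF 0 b₀ * s * tq hF 0 b₀) ^ k = tq hF 0 b₀ * s ^ k * tq hF 0 b₀ := by
      have h := conj_pow (a := tq hF 0 b₀) (b := s) (i := k)
      rwa [tq0_inv hm hF] at h
    rw [← h1, hinv, inv_pow]
    exact inv_eq_of_mul_eq_one_left (by rw [← pow_two]; exact hu2)
  have hfix : ∀ w : Cfsg.suzukiOvoid F m, (s ^ k) • w = w ↔ w = g • pt (F := F) m none := by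
    intro w
    rw [hgb]
    exact inv_fix hF g b hb w
  have hc : s ^ k * tq hF 0 b₀ = tq hF 0 b₀ * s ^ k := by
    calc s ^ k * tq hF 0 b₀ = (tq hF 0 b₀ * s ^ k * tq hF 0 b₀) * tq hF 0 b₀ := by rw [hxu]
      _ = tq hF 0 b₀ * s ^ k * (tq hF 0 b₀ * tq hF 0 b₀) := by group
      _ = tq hF 0 b₀ * s ^ k := by rw [hx2, mul_one]
  have h1 : tq hF 0 b₀ • (g • pt (F := F) m none) = g • pt (F := F) m none := by
    have h : (s ^ k) • (tq hF 0 b₀ • (g • pt (F := F) m none)) =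
        tq hF 0 b₀ • (g • pt (F := F) m none) := by
      rw [← mul_smul, hc, mul_smul, (hfix _).mpr rfl]
    exact (hfix _).mp h
  have h2 : g • pt (F := F) m none = pt m none :=
    (tq_fix_iff hF 0 b₀ (fun h => hb₀ h.2) _).mp h1
  have h3 : (s ^ k) • (s • pt (F := F) m none) = s • pt (F := F) m none := by
    rw [← mul_smul, ← pow_succ, pow_succ', mul_smul, (hfix _).mpr h2.symm]
  have h4 := (hfix _).mp h3
  rw [h2] at h4
  exact hmov h4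

theorem x_mem_NC (hm : 1 ≤ m) (hF : Fintype.card F = 2 ^ (2 * m + 1)) (b₀ : F) (hb₀ : b₀ ≠ 0)
    (s : Cfsg.Sz F m) (hs : s ∈ TT hF b₀) : tq hF 0 b₀ ∈ NC s := by
  obtain ⟨j, hj⟩ := TT_odd hm hF b₀ hb₀ s hs
  apply tor_norm hm hF s (TT_ne_one hF b₀ s hs) j hj
  show tq hF 0 b₀ * s * (tq hF 0 b₀)⁻¹ * s = s * (tq hF 0 b₀ * s * (tq hF 0 b₀)⁻¹)
  rw [tq0_inv hm hF, hs.1, inv_mul_cancel, mul_inv_cancel]

theorem Q_cent_triv (hm : 1 ≤ m) (hF : Fintype.card F = 2 ^ (2 * m + 1)) (s : Cfsg.Sz F m)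
    (hmov : s • pt (F := F) m none ≠ pt m none) (u : Cfsg.Sz F m) (hu : u ∈ Qs hm hF)
    (hc : u * s = s * u) : u = 1 := by
  obtain ⟨a, c, rfl⟩ := hu
  by_contra hne
  have hab : ¬ (a = 0 ∧ c = 0) := fun h => hne ((tq_eq_one_iff hm hF).mpr h)
  obtain ⟨a', b', rfl⟩ := centralizer_tq hm hF a c hab s hc.symm
  exact hmov (tq_smul_inf hF a' b')

theorem inv_of_norm (hm : 1 ≤ m) (hF : Fintype.card F = 2 ^ (2 * m + 1)) (s : Cfsg.Sz F m)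
    (hs1 : s ≠ 1) (j : ℕ) (hj : s ^ (2 * j + 1) = 1)
    (hmov : s • pt (F := F) m none ≠ pt m none) (w : Cfsg.Sz F m) (hwQ : w ∈ Qs hm hF)
    (hw2 : w * w = 1) (hw1 : w ≠ 1) (hwN : w ∈ NC s) : w * s * w = s⁻¹ := by
  have hwinv : w⁻¹ = w := inv_eq_of_mul_eq_one_left hw2
  have hsC : s ∈ Subgroup.centralizer ({s} : Set (Cfsg.Sz F m)) :=
    Subgroup.mem_centralizer_singleton_iff.mpr rfl
  have hs'C : w * s * w ∈ Subgroup.centralizer ({s} : Set (Cfsg.Sz F m)) := by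
    have h := (Subgroup.mem_normalizer_iff.mp hwN s).mp hsC
    rwa [hwinv] at h
  by_cases hc1 : s * (w * s * w) = 1
  · exact eq_inv_of_mul_eq_one_right hc1
  · exfalso
    have hcC : s * (w * s * w) ∈ Subgroup.centralizer ({s} : Set (Cfsg.Sz F m)) :=
      Subgroup.mul_mem _ hsC hs'C
    have hCeq := tor_cent hm hF s hs1 j hj _ hcC hc1
    have hcomm : (w * s * w) * s = s * (w * s * w) :=
      tor_abelian hm hF s hs1 j hj _ _ hs'C hsC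
    have hwc : w * (s * (w * s * w)) = (s * (w * s * w)) * w := by
      calc w * (s * (w * s * w)) = (w * s * w * s) * w := by group
        _ = (s * (w * s * w)) * w := by rw [hcomm]
    have hwC : w ∈ Subgroup.centralizer ({s * (w * s * w)} : Set (Cfsg.Sz F m)) :=
      Subgroup.mem_centralizer_singleton_iff.mpr hwc
    rw [hCeq] at hwC
    exact hw1 (Q_cent_triv hm hF s hmov w hwQ (Subgroup.mem_centralizer_singleton_iff.mp hwC))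

theorem invol_cases (hm : 1 ≤ m) (hF : Fintype.card F = 2 ^ (2 * m + 1)) (b₀ : F) (hb₀ : b₀ ≠ 0)
    (s : Cfsg.Sz F m) (hs : s ∈ TT hF b₀) (w : Cfsg.Sz F m) (hwQ : w ∈ Qs hm hF)
    (hw2 : w * w = 1) (hwN : w ∈ NC s) : w = 1 ∨ w = tq hF 0 b₀ := by
  by_cases hw1 : w = 1
  · exact Or.inl hw1
  right
  obtain ⟨j, hj⟩ := TT_odd hm hF b₀ hb₀ s hs
  have hs1 := TT_ne_one hF b₀ s hs
  have h1 := inv_of_norm hm hF s hs1 j hj hs.2 w hwQ hw2 hw1 hwN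
  have hx2 := tq_zero_sq hm hF b₀
  have hc : (tq hF 0 b₀ * w) * s = s * (tq hF 0 b₀ * w) := by
    have e1 : w * s = s⁻¹ * w := by
      calc w * s = w * s * (w * w) := by rw [hw2, mul_one]
        _ = (w * s * w) * w := by group
        _ = s⁻¹ * w := by rw [h1]
    have e2 : tq hF 0 b₀ * s⁻¹ = s * tq hF 0 b₀ := by
      calc tq hF 0 b₀ * s⁻¹ = tq hF 0 b₀ * (tq hF 0 b₀ * s * tq hF 0 b₀) := by rw [hs.1]
        _ = (tq hF 0 b₀ * tq hF 0 b₀) * s * tq hF 0 b₀ := by group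
        _ = s * tq hF 0 b₀ := by rw [hx2, one_mul]
    calc tq hF 0 b₀ * w * s = tq hF 0 b₀ * (w * s) := by group
      _ = tq hF 0 b₀ * s⁻¹ * w := by rw [e1]; group
      _ = s * (tq hF 0 b₀ * w) := by rw [e2]; group
  have hxw := Q_cent_triv hm hF s hs.2 _
    (Subgroup.mul_mem _ (tq_mem_Qs hm hF 0 b₀) hwQ) hc
  have h3 : w = (tq hF 0 b₀)⁻¹ := eq_inv_of_mul_eq_one_right hxw
  rw [h3, tq0_inv hm hF]

theorem Q_NC_cases (hm : 1 ≤ m) (hF : Fintype.card F = 2 ^ (2 * m + 1)) (b₀ : F) (hb₀ : b₀ ≠ 0)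
    (s : Cfsg.Sz F m) (hs : s ∈ TT hF b₀) (u : Cfsg.Sz F m) (huQ : u ∈ Qs hm hF)
    (huN : u ∈ NC s) : u = 1 ∨ u = tq hF 0 b₀ ∨ u * u = tq hF 0 b₀ := by
  obtain ⟨a, c, rfl⟩ := huQ
  have h2 := tq_sq hm hF a c
  have hwN : tq hF 0 (th F m a * a) ∈ NC s := by
    rw [← h2]
    exact Subgroup.mul_mem _ huN huN
  rcases invol_cases hm hF b₀ hb₀ s hs _ (tq_mem_Qs hm hF 0 _) (tq_zero_sq hm hF _) hwN with h | h
  · have hu2 : tq hF a c * tq hF a c = 1 := by rw [h2, h]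
    rcases invol_cases hm hF b₀ hb₀ s hs _ (tq_mem_Qs hm hF a c) hu2 huN with h' | h'
    · exact Or.inl h'
    · exact Or.inr (Or.inl h')
  · right
    right
    rw [h2, h]

set_option maxHeartbeats 2000000 in
theorem TT_surj (hm : 1 ≤ m) (hF : Fintype.card F = 2 ^ (2 * m + 1)) (b₀ : F) (hb₀ : b₀ ≠ 0)
    (y z : Cfsg.Sz F m) (hy : y • pt (F := F) m none ≠ pt m none) (hz1 : z ≠ 1) (i : ℕ)
    (hi : z ^ (2 * i + 1) = 1) (hxz : tq hF 0 b₀ ∈ NC z) (hyz : y ∈ NC z) :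
    ∃ s u : Cfsg.Sz F m, s ∈ TT hF b₀ ∧ u ∈ Qs hm hF ∧
      Subgroup.centralizer ({s} : Set (Cfsg.Sz F m)) = Subgroup.centralizer {z} ∧ y = s * u := by
  have hx2 := tq_zero_sq hm hF b₀
  have hxinv := tq0_inv hm hF b₀
  have hx'2 : (y * tq hF 0 b₀ * y⁻¹) * (y * tq hF 0 b₀ * y⁻¹) = 1 := by
    have e : (y * tq hF 0 b₀ * y⁻¹) * (y * tq hF 0 b₀ * y⁻¹) =
        y * (tq hF 0 b₀ * tq hF 0 b₀) * y⁻¹ := by group
    rw [e, hx2]
    group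
  have ht : tq hF 0 b₀ * (y * tq hF 0 b₀ * y⁻¹) ∈ TT hF b₀ := by
    constructor
    · rw [_root_.mul_inv_rev, hxinv, inv_eq_of_mul_eq_one_left hx'2]
      calc tq hF 0 b₀ * (tq hF 0 b₀ * (y * tq hF 0 b₀ * y⁻¹)) * tq hF 0 b₀ =
          (tq hF 0 b₀ * tq hF 0 b₀) * (y * tq hF 0 b₀ * y⁻¹) * tq hF 0 b₀ := by group
        _ = _ := by rw [hx2, one_mul]
    · intro h
      rw [mul_smul] at h
      have h1 : (y * tq hF 0 b₀ * y⁻¹) • pt (F := F) m none = pt m none := by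
        have h' : tq hF 0 b₀ • (tq hF 0 b₀ • ((y * tq hF 0 b₀ * y⁻¹) • pt (F := F) m none)) =
            tq hF 0 b₀ • pt (F := F) m none := congrArg (fun w => tq hF 0 b₀ • w) h
        rw [← mul_smul, hx2, one_smul, tq_smul_inf] at h'
        exact h'
      exact hy ((inv_fix hF y b₀ hb₀ _).mp h1).symm
  obtain ⟨j, hj⟩ := TT_odd hm hF b₀ hb₀ _ ht
  have ht1 := TT_ne_one hF b₀ _ ht
  have hx'N : y * tq hF 0 b₀ * y⁻¹ ∈ NC z :=
    Subgroup.mul_mem _ (Subgroup.mul_mem _ hyz hxz) (Subgroup.inv_mem _ hyz)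
  have htN : tq hF 0 b₀ * (y * tq hF 0 b₀ * y⁻¹) ∈ NC z := Subgroup.mul_mem _ hxz hx'N
  have htC := tor_odd_mem hm hF z hz1 i hi _ htN j hj
  have hCt := tor_cent hm hF z hz1 i hi _ htC ht1
  have e3 : y * tq hF 0 b₀ * y⁻¹ = tq hF 0 b₀ * (tq hF 0 b₀ * (y * tq hF 0 b₀ * y⁻¹)) := by
    calc y * tq hF 0 b₀ * y⁻¹ = (tq hF 0 b₀ * tq hF 0 b₀) * (y * tq hF 0 b₀ * y⁻¹) := by
          rw [hx2, one_mul]
      _ = _ := by group
  generalize tq hF 0 b₀ * (y * tq hF 0 b₀ * y⁻¹) = t at *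
  have hs1 : t ^ j ≠ 1 := by
    intro h
    apply ht1
    have e : t ^ (2 * j + 1) = (t ^ j) ^ 2 * t := by rw [← pow_mul, mul_comm j 2, pow_succ]
    rw [e, h, one_pow, one_mul] at hj
    exact hj
  have hsst : t ^ j * t ^ j * t = 1 := by
    rw [← pow_add, ← pow_succ, ← two_mul]
    exact hj
  have hs : t ^ j ∈ TT hF b₀ := by
    constructor
    · have h := conj_pow (a := tq hF 0 b₀) (b := t) (i := j)
      rw [hxinv, ht.1, inv_pow] at h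
      exact h.symm
    · intro h
      apply ht.2
      have e : t⁻¹ = t ^ j * t ^ j := (eq_inv_of_mul_eq_one_left hsst).symm
      have h2 : t⁻¹ • pt (F := F) m none = pt m none := by rw [e, mul_smul, h, h]
      rwa [inv_smul_eq_iff, eq_comm] at h2
  refine ⟨t ^ j, (t ^ j)⁻¹ * y, hs, ?_, ?_, by group⟩
  · have e1 : (t ^ j)⁻¹ * tq hF 0 b₀ = tq hF 0 b₀ * t ^ j := by
      rw [← hs.1]
      calc tq hF 0 b₀ * t ^ j * tq hF 0 b₀ * tq hF 0 b₀ =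
          tq hF 0 b₀ * t ^ j * (tq hF 0 b₀ * tq hF 0 b₀) := by group
        _ = _ := by rw [hx2, mul_one]
    have e2 : t ^ j * t * t ^ j = 1 := by
      rw [← pow_succ, ← pow_add, show j + 1 + j = 2 * j + 1 by ring]
      exact hj
    have hcomm : ((t ^ j)⁻¹ * y) * tq hF 0 b₀ = tq hF 0 b₀ * ((t ^ j)⁻¹ * y) := by
      have h : ((t ^ j)⁻¹ * y) * tq hF 0 b₀ * ((t ^ j)⁻¹ * y)⁻¹ = tq hF 0 b₀ := by
        calc ((t ^ j)⁻¹ * y) * tq hF 0 b₀ * ((t ^ j)⁻¹ * y)⁻¹ =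
            (t ^ j)⁻¹ * (y * tq hF 0 b₀ * y⁻¹) * t ^ j := by group
          _ = (t ^ j)⁻¹ * tq hF 0 b₀ * t * t ^ j := by rw [e3]; group
          _ = tq hF 0 b₀ * (t ^ j * t * t ^ j) := by rw [e1]; group
          _ = tq hF 0 b₀ := by rw [e2, mul_one]
      exact mul_inv_eq_iff_eq_mul.mp h
    obtain ⟨a', b', h⟩ := centralizer_tq hm hF 0 b₀ (fun h => hb₀ h.2) _ hcomm
    rw [h]
    exact tq_mem_Qs hm hF a' b'
  · rw [← hCt]
    apply tor_cent hm hF t ht1 j hj (t ^ j) _ hs1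
    rw [Subgroup.mem_centralizer_singleton_iff, ← pow_succ, ← pow_succ']

theorem TT_inj (hm : 1 ≤ m) (hF : Fintype.card F = 2 ^ (2 * m + 1)) (b₀ : F) (hb₀ : b₀ ≠ 0)
    (s s' u u' : Cfsg.Sz F m) (hs : s ∈ TT hF b₀) (hs' : s' ∈ TT hF b₀) (hu : u ∈ Qs hm hF)
    (hu' : u' ∈ Qs hm hF) (h : s * u = s' * u') : s = s' ∧ u = u' := by
  have hx2 := tq_zero_sq hm hF b₀
  have hxu : ∀ u ∈ Qs hm hF, u * tq hF 0 b₀ * u⁻¹ = tq hF 0 b₀ := by
    rintro _ ⟨a, c, rfl⟩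
    rw [← tq_zero_comm hm hF b₀ a c, mul_inv_cancel_right]
  have hconj : ∀ s ∈ TT hF b₀, s * tq hF 0 b₀ * s⁻¹ = s * s * tq hF 0 b₀ := by
    intro s hs
    rw [← hs.1]
    calc s * tq hF 0 b₀ * (tq hF 0 b₀ * s * tq hF 0 b₀) =
        s * (tq hF 0 b₀ * tq hF 0 b₀) * s * tq hF 0 b₀ := by group
      _ = _ := by rw [hx2, mul_one]
  have h1 : (s * u) * tq hF 0 b₀ * (s * u)⁻¹ = s * s * tq hF 0 b₀ := by
    calc (s * u) * tq hF 0 b₀ * (s * u)⁻¹ = s * (u * tq hF 0 b₀ * u⁻¹) * s⁻¹ := by group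
      _ = _ := by rw [hxu u hu, hconj s hs]
  have h2 : (s' * u') * tq hF 0 b₀ * (s' * u')⁻¹ = s' * s' * tq hF 0 b₀ := by
    calc (s' * u') * tq hF 0 b₀ * (s' * u')⁻¹ = s' * (u' * tq hF 0 b₀ * u'⁻¹) * s'⁻¹ := by group
      _ = _ := by rw [hxu u' hu', hconj s' hs']
  rw [h, h2] at h1
  have h3 : s ^ 2 = s' ^ 2 := by
    rw [pow_two, pow_two]
    exact (mul_right_cancel h1).symm
  obtain ⟨j, hj⟩ := TT_odd hm hF b₀ hb₀ s hs
  obtain ⟨j', hj'⟩ := TT_odd hm hF b₀ hb₀ s' hs'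
  have hss := eq_of_sq_eq s s' j j' hj hj' h3
  subst hss
  exact ⟨rfl, mul_left_cancel h⟩

theorem WW_iff (hm : 1 ≤ m) (hF : Fintype.card F = 2 ^ (2 * m + 1)) (b₀ : F) (hb₀ : b₀ ≠ 0)
    (y : Cfsg.Sz F m) :
    (y • pt (F := F) m none ≠ pt m none ∧ NT (tq hF 0 b₀) y) ↔
      ∃ s u : Cfsg.Sz F m, s ∈ TT hF b₀ ∧ u ∈ Qs hm hF ∧ u ∈ NC s ∧ y = s * u := by
  constructor
  · rintro ⟨hy, ⟨p, hxp, hyp⟩ | ⟨z, hz1, ⟨i, hi⟩, hxz, hyz⟩⟩
    · exfalso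
      have h := (tq_fix_iff hF 0 b₀ (fun h => hb₀ h.2) p).mp hxp
      subst h
      exact hy hyp
    · obtain ⟨s, u, hs, hu, hC, rfl⟩ := TT_surj hm hF b₀ hb₀ y z hy hz1 i hi hxz hyz
      refine ⟨s, u, hs, hu, ?_, rfl⟩
      have hyN : s * u ∈ NC s := by
        unfold NC
        rw [hC]
        exact hyz
      have h := Subgroup.mul_mem _ (Subgroup.inv_mem _ (self_mem_norm_cent s)) hyN
      rwa [inv_mul_cancel_left] at h
  · rintro ⟨s, u, hs, hu, huN, rfl⟩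
    obtain ⟨a, c, rfl⟩ := hu
    constructor
    · rw [mul_smul, tq_smul_inf]
      exact hs.2
    · obtain ⟨j, hj⟩ := TT_odd hm hF b₀ hb₀ s hs
      exact Or.inr ⟨s, TT_ne_one hF b₀ s hs, ⟨j, hj⟩, x_mem_NC hm hF b₀ hb₀ s hs,
        Subgroup.mul_mem _ (self_mem_norm_cent s) huN⟩

theorem sqroot_cases (hm : 1 ≤ m) (hF : Fintype.card F = 2 ^ (2 * m + 1)) (a₀ c₀ : F)
    (ha₀ : a₀ ≠ 0) (s : Cfsg.Sz F m) (hs : s ∈ TT hF (th F m a₀ * a₀))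
    (hvN : tq hF a₀ c₀ ∈ NC s) (u : Cfsg.Sz F m) (huQ : u ∈ Qs hm hF) (huN : u ∈ NC s)
    (hu2 : u * u = tq hF 0 (th F m a₀ * a₀)) :
    u = tq hF a₀ c₀ ∨ u = tq hF 0 (th F m a₀ * a₀) * tq hF a₀ c₀ := by
  have hb₀ : th F m a₀ * a₀ ≠ 0 := mul_ne_zero (fun h => ha₀ (th_eq_zero.mp h)) ha₀
  obtain ⟨a, c, rfl⟩ := huQ
  rw [tq_sq hm hF] at hu2
  have ha : a = a₀ := th_mul_self_inj hF ha₀ (tq_injective hF hu2).2
  subst ha
  have e : c + (c₀ + th F m a * a) + th F m a * a = c + c₀ := by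
    rw [add_assoc, add_assoc, CharTwo.add_self_eq_zero, add_zero]
  have hw : tq hF a c * (tq hF a c₀)⁻¹ = tq hF 0 (c + c₀) := by
    rw [tq_inv hm hF, tq_mul hm hF, CharTwo.add_self_eq_zero, e]
  have hwN : tq hF 0 (c + c₀) ∈ NC s := by
    rw [← hw]
    exact Subgroup.mul_mem _ huN (Subgroup.inv_mem _ hvN)
  rcases invol_cases hm hF _ hb₀ s hs _ (tq_mem_Qs hm hF 0 (c + c₀)) (tq_zero_sq hm hF _) hwN
    with h | h
  · left
    rw [← hw] at h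
    exact mul_inv_eq_one.mp h
  · right
    rw [← hw] at h
    exact mul_inv_eq_iff_eq_mul.mp h

set_option maxHeartbeats 1000000 in
theorem nonfpf_no_sqroot (hm : 1 ≤ m) (hF : Fintype.card F = 2 ^ (2 * m + 1)) (b₀ : F)
    (hb₀ : b₀ ≠ 0) (s : Cfsg.Sz F m) (hs : s ∈ TT hF b₀) (hnf : ¬ IsFpf s) (u : Cfsg.Sz F m)
    (huN : u ∈ NC s) (hu2 : u * u = tq hF 0 b₀) : False := by
  obtain ⟨j, hj⟩ := TT_odd hm hF b₀ hb₀ s hs
  have hs1 := TT_ne_one hF b₀ s hs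
  obtain ⟨h, k, hk, hsh⟩ := conj_hq_of_fix hm hF s hnf j hj hs1
  have hx1 := tq0_ne_one hm hF b₀ hb₀
  have hsC : s ∈ Subgroup.centralizer ({s} : Set (Cfsg.Sz F m)) :=
    Subgroup.mem_centralizer_singleton_iff.mpr rfl
  have h1 := (Subgroup.mem_normalizer_iff.mp huN s).mp hsC
  rw [hsh, cent_conj_hq hm hF h k hk] at h1
  obtain ⟨l, hl⟩ := h1
  have h2 : (h⁻¹ * u * h) * hq hF k * (h⁻¹ * u * h)⁻¹ = hq hF l := by
    calc (h⁻¹ * u * h) * hq hF k * (h⁻¹ * u * h)⁻¹ =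
        h⁻¹ * (u * (h * hq hF k * h⁻¹) * u⁻¹) * h := by group
      _ = _ := by rw [hl]; group
  rcases hq_conj_cases hm hF _ k l hk h2 with ⟨l', hl'⟩ | ⟨l', hl'⟩
  · have hu : u = h * hq hF l' * h⁻¹ := by rw [← hl']; group
    obtain ⟨i, hi⟩ := hq_odd hm hF (F := F) (m := m)
    have hxo : (tq hF 0 b₀) ^ (2 * i + 1) = 1 := by
      rw [← hu2, hu]
      have e : h * hq hF l' * h⁻¹ * (h * hq hF l' * h⁻¹) = h * hq hF (l' * l') * h⁻¹ := by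
        rw [← hq_mul hm hF]
        group
      rw [e, conj_pow, hi]
      group
    apply hx1
    have e : (tq hF 0 b₀) ^ (2 * i + 1) = tq hF 0 b₀ := by
      rw [pow_succ, pow_mul, pow_two, tq_zero_sq hm hF, one_pow, one_mul]
    rw [← e]
    exact hxo
  · have hu : u = h * (wq hF * hq hF l') * h⁻¹ := by rw [← hl']; group
    apply hx1
    rw [← hu2, hu]
    have e : h * (wq hF * hq hF l') * h⁻¹ * (h * (wq hF * hq hF l') * h⁻¹) =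
        h * ((wq hF * hq hF l' * wq hF) * hq hF l') * h⁻¹ := by group
    rw [e, wq_hq_wq, hq_mul hm hF, inv_mul_cancel, hq_one]
    group

set_option maxHeartbeats 1000000 in
theorem exists_sqroot (hm : 1 ≤ m) (hF : Fintype.card F = 2 ^ (2 * m + 1)) (b₀ : F)
    (hb₀ : b₀ ≠ 0) (s : Cfsg.Sz F m) (hs : s ∈ TT hF b₀) (hf : IsFpf s) :
    ∃ v : Cfsg.Sz F m, v ∈ Qs hm hF ∧ v ∈ NC s ∧ v * v = tq hF 0 b₀ := by
  haveI : Fact (Nat.Prime 2) := ⟨Nat.prime_two⟩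
  have hxN := x_mem_NC hm hF b₀ hb₀ s hs
  have hx1 := tq0_ne_one hm hF b₀ hb₀
  have hcardN : Nat.card (NC s) = 4 * Nat.card (Subgroup.centralizer ({s} : Set (Cfsg.Sz F m))) :=
    card_normalizer_fpf hm hF hf
  have hxN1 : (⟨tq hF 0 b₀, hxN⟩ : NC s) ≠ 1 := fun h => hx1 (congrArg Subtype.val h)
  have hxN2 : (⟨tq hF 0 b₀, hxN⟩ : NC s) ^ 2 = 1 := by
    apply Subtype.ext
    rw [pow_two]
    exact tq_zero_sq hm hF b₀
  have ho : orderOf (⟨tq hF 0 b₀, hxN⟩ : NC s) = 2 := orderOf_eq_prime hxN2 hxN1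
  have hH : Nat.card (Subgroup.zpowers (⟨tq hF 0 b₀, hxN⟩ : NC s)) = 2 ^ 1 := by
    rw [Nat.card_zpowers, ho, pow_one]
  have hdvd : 2 ^ (1 + 1) ∣ Nat.card (NC s) := by
    rw [hcardN]
    exact Dvd.intro _ rfl
  obtain ⟨K, hK4, hHK⟩ := Sylow.exists_subgroup_card_pow_succ hdvd hH
  have hxK : (⟨tq hF 0 b₀, hxN⟩ : NC s) ∈ K := hHK (Subgroup.mem_zpowers _)
  have hK4' : Nat.card K = 2 ^ 2 := hK4
  have hKc : ∀ a b : K, a * b = b * a := fun a b =>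
    (IsPGroup.isMulCommutative_of_card_eq_prime_sq (p := 2) hK4').is_comm.comm a b
  have hex : ∃ k ∈ K, k ≠ 1 ∧ k ≠ (⟨tq hF 0 b₀, hxN⟩ : NC s) := by
    by_contra hno
    push Not at hno
    have hle : K ≤ Subgroup.zpowers (⟨tq hF 0 b₀, hxN⟩ : NC s) := by
      intro k hk
      by_cases hk1 : k = 1
      · rw [hk1]
        exact Subgroup.one_mem _
      · rw [hno k hk hk1]
        exact Subgroup.mem_zpowers _
    have hKe := le_antisymm hle hHK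
    rw [hKe, hH] at hK4
    norm_num at hK4
  obtain ⟨k, hkK, hk1, hkx⟩ := hex
  have hcomm := hKc ⟨k, hkK⟩ ⟨_, hxK⟩
  have hcomm' : (k : Cfsg.Sz F m) * tq hF 0 b₀ = tq hF 0 b₀ * (k : Cfsg.Sz F m) := by
    have h := congrArg (fun z : K => ((z : NC s) : Cfsg.Sz F m)) hcomm
    exact h
  obtain ⟨a', b', hk'⟩ := centralizer_tq hm hF 0 b₀ (fun h => hb₀ h.2) _ hcomm'
  have hkQ : (k : Cfsg.Sz F m) ∈ Qs hm hF := by
    rw [hk']
    exact tq_mem_Qs hm hF a' b'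
  rcases Q_NC_cases hm hF b₀ hb₀ s hs _ hkQ k.2 with h | h | h
  · exact absurd (Subtype.ext h) hk1
  · exact absurd (Subtype.ext h) hkx
  · exact ⟨_, hkQ, k.2, h⟩

end Cfsg.Agent.helper11.Sz
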