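import Mathlib
import Cfsg.Agent.Lib_helper11_Sz37

set_option autoImplicit false

/-!
# Suzuki groups, part 38: counting the elements inverted by an involution
-/

namespace Cfsg.Agent.helper11.Sz

open Matrix Cfsg.Agent.S0326 Cfsg.Agent.S0327 Cfsg.Agent.S3893 MulAction

theorem ncard_ne {α : Type*} [Finite α] (a : α) : ({x : α | x ≠ a}).ncard + 1 = Nat.card α := by
  have h : insert a {x : α | x ≠ a} = Set.univ := by
    ext x
    simp only [Set.mem_insert_iff, Set.mem_ofPred_eq, Set.mem_univ, iff_true]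
    exact em _
  have h2 : a ∉ {x : α | x ≠ a} := fun h => h rfl
  rw [← Set.ncard_univ, ← h, Set.ncard_insert_of_notMem h2]

variable {F : Type*} [Field F] [CharP F 2] [Fintype F] {m : ℕ}

theorem finite_ovoid : Finite (Cfsg.suzukiOvoid F m) := by
  apply Nat.finite_of_card_ne_zero
  rw [Cfsg.Agent.S0326.result (F := F) m]
  exact Nat.succ_ne_zero _

theorem exists_gg (hF : Fintype.card F = 2 ^ (2 * m + 1)) (b₀ : F) (hb₀ : b₀ ≠ 0)
    (p : Cfsg.suzukiOvoid F m) (hp : p ≠ pt m none) :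
    ∃ g : Cfsg.Sz F m, g • pt (F := F) m none = p ∧
      g • pt (F := F) m (some (0, 0)) = tq hF 0 b₀ • p := by
  have hne : p ≠ tq hF 0 b₀ • p :=
    fun h => hp ((tq_fix_iff hF 0 b₀ (fun h => hb₀ h.2) p).mp h.symm)
  obtain ⟨g', h1, h2⟩ := two_trans' hF p (tq hF 0 b₀ • p) hne
  exact ⟨g'⁻¹, inv_smul_eq_iff.mpr h1.symm, inv_smul_eq_iff.mpr h2.symm⟩

theorem mem_TT_of_invol (hm : 1 ≤ m) (hF : Fintype.card F = 2 ^ (2 * m + 1)) (b₀ : F)
    (x' : Cfsg.Sz F m) (hx'2 : x' * x' = 1) (hx'mov : x' • pt (F := F) m none ≠ pt m none) :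
    tq hF 0 b₀ * x' ∈ TT hF b₀ := by
  have hx2 := tq_zero_sq hm hF b₀
  constructor
  · rw [_root_.mul_inv_rev, tq0_inv hm hF, inv_eq_of_mul_eq_one_left hx'2]
    calc tq hF 0 b₀ * (tq hF 0 b₀ * x') * tq hF 0 b₀ =
        (tq hF 0 b₀ * tq hF 0 b₀) * x' * tq hF 0 b₀ := by group
      _ = _ := by rw [hx2, one_mul]
  · intro h
    apply hx'mov
    rw [mul_smul] at h
    have h' : tq hF 0 b₀ • (tq hF 0 b₀ • (x' • pt (F := F) m none)) =
        tq hF 0 b₀ • pt (F := F) m none := congrArg (fun w => tq hF 0 b₀ • w) h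
    rw [← mul_smul, hx2, one_smul, tq_smul_inf] at h'
    exact h'

theorem invol_of_mem_TT (hm : 1 ≤ m) (hF : Fintype.card F = 2 ^ (2 * m + 1)) (b₀ : F)
    (s : Cfsg.Sz F m) (hs : s ∈ TT hF b₀) :
    (tq hF 0 b₀ * s) * (tq hF 0 b₀ * s) = 1 ∧
      (tq hF 0 b₀ * s) • pt (F := F) m none ≠ pt m none := by
  constructor
  · calc (tq hF 0 b₀ * s) * (tq hF 0 b₀ * s) = (tq hF 0 b₀ * s * tq hF 0 b₀) * s := by group
      _ = 1 := by rw [hs.1, inv_mul_cancel]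
  · intro h
    apply hs.2
    rw [mul_smul] at h
    have h' : tq hF 0 b₀ • (tq hF 0 b₀ • (s • pt (F := F) m none)) =
        tq hF 0 b₀ • pt (F := F) m none := congrArg (fun w => tq hF 0 b₀ • w) h
    rw [← mul_smul, tq_zero_sq hm hF, one_smul, tq_smul_inf] at h'
    exact h'

set_option maxHeartbeats 2000000 in
theorem card_TT (hm : 1 ≤ m) (hF : Fintype.card F = 2 ^ (2 * m + 1)) (b₀ : F) (hb₀ : b₀ ≠ 0) :
    (TT hF b₀).ncard = Fintype.card F ^ 2 * (Fintype.card F - 1) := by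
  classical
  haveI := finite_ovoid (F := F) (m := m)
  haveI : Fact (Nat.Prime 2) := ⟨Nat.prime_two⟩
  have hgg : ∀ p : Cfsg.suzukiOvoid F m, ∃ g : Cfsg.Sz F m,
      p ≠ pt m none → g • pt (F := F) m none = p := by
    intro p
    by_cases hp : p = pt m none
    · exact ⟨1, fun h => absurd hp h⟩
    · obtain ⟨g, hg, -⟩ := exists_gg hF b₀ hb₀ p hp
      exact ⟨g, fun _ => hg⟩
  choose gg hgg using hgg
  have hS : (({p : Cfsg.suzukiOvoid F m | p ≠ pt m none} ×ˢ {c : F | c ≠ 0}) :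
      Set (Cfsg.suzukiOvoid F m × F)).ncard = Fintype.card F ^ 2 * (Fintype.card F - 1) := by
    rw [Set.ncard_prod]
    have h1 := ncard_ne (pt (F := F) m none)
    rw [Cfsg.Agent.S0326.result (F := F) m] at h1
    have h2 := ncard_ne (0 : F)
    rw [Nat.card_eq_fintype_card] at h2
    have h1' : ({p : Cfsg.suzukiOvoid F m | p ≠ pt m none}).ncard = Fintype.card F ^ 2 := by omega
    have h2' : ({c : F | c ≠ 0}).ncard = Fintype.card F - 1 := by omega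
    rw [h1', h2']
  rw [← hS]
  symm
  apply Set.ncard_congr (fun (pc : Cfsg.suzukiOvoid F m × F) _ =>
    tq hF 0 b₀ * (gg pc.1 * tq hF 0 pc.2 * (gg pc.1)⁻¹))
  · rintro ⟨p, c⟩ ⟨hp, hc⟩
    apply mem_TT_of_invol hm hF b₀
    · have e : (gg p * tq hF 0 c * (gg p)⁻¹) * (gg p * tq hF 0 c * (gg p)⁻¹) =
          gg p * (tq hF 0 c * tq hF 0 c) * (gg p)⁻¹ := by group
      rw [e, tq_zero_sq hm hF]
      group
    · intro h
      have h' := (inv_fix hF (gg p) c hc _).mp h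
      rw [hgg p hp] at h'
      exact hp h'.symm
  · rintro ⟨p, c⟩ ⟨p', c'⟩ ⟨hp, hc⟩ ⟨hp', hc'⟩ h
    have h1 : gg p * tq hF 0 c * (gg p)⁻¹ = gg p' * tq hF 0 c' * (gg p')⁻¹ := mul_left_cancel h
    have hpp : p = p' := by
      have h2 := (inv_fix hF (gg p) c hc p).mpr (hgg p hp).symm
      rw [h1] at h2
      have h3 := (inv_fix hF (gg p') c' hc' p).mp h2
      rw [hgg p' hp'] at h3
      exact h3
    subst hpp
    have h2 : tq hF 0 c = tq hF 0 c' := mul_left_cancel (mul_right_cancel h1)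
    rw [(tq_injective hF h2).2]
  · intro s hs
    obtain ⟨hx'2, hx'mov⟩ := invol_of_mem_TT hm hF b₀ s hs
    have hx'1 : tq hF 0 b₀ * s ≠ 1 := by
      intro h
      rw [h, one_smul] at hx'mov
      exact hx'mov rfl
    have ho : orderOf (tq hF 0 b₀ * s) = 2 :=
      orderOf_eq_prime (by rw [pow_two]; exact hx'2) hx'1
    obtain ⟨g, b, hgb⟩ := involution_conj hm hF _ ho
    have hb : b ≠ 0 := by
      rintro rfl
      apply hx'1
      rw [hgb, tq_zero hm hF]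
      group
    have hp : g • pt (F := F) m none ≠ pt m none := by
      intro h
      apply hx'mov
      rw [hgb]
      exact (inv_fix hF g b hb _).mpr h.symm
    have hfix : ((gg (g • pt (F := F) m none))⁻¹ * g) • pt (F := F) m none = pt m none := by
      rw [mul_smul, inv_smul_eq_iff, hgg _ hp]
    obtain ⟨a, c, k, hk⟩ := fix_inf hm hF _ hfix
    have hg : g = gg (g • pt (F := F) m none) * (tq hF a c * hq hF k) := by
      rw [← hk]
      group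
    have hconj : (tq hF a c * hq hF k) * tq hF 0 b * (tq hF a c * hq hF k)⁻¹ =
        tq hF 0 (th F m k * k * b) := by
      have e : (tq hF a c * hq hF k) * tq hF 0 b * (tq hF a c * hq hF k)⁻¹ =
          tq hF a c * (hq hF k * tq hF 0 b * (hq hF k)⁻¹) * (tq hF a c)⁻¹ := by group
      rw [e, hq_tq_conj hm hF, mul_zero, ← tq_zero_comm hm hF, mul_inv_cancel_right]
    refine ⟨(g • pt (F := F) m none, th F m k * k * b), ⟨hp, ?_⟩, ?_⟩
    · exact mul_ne_zero (mul_ne_zero (fun h => k.ne_zero (th_eq_zero.mp h)) k.ne_zero) hb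
    · show tq hF 0 b₀ * (gg (g • pt (F := F) m none) * tq hF 0 (th F m k * k * b) *
        (gg (g • pt (F := F) m none))⁻¹) = s
      rw [← hconj]
      have e : gg (g • pt (F := F) m none) *
          ((tq hF a c * hq hF k) * tq hF 0 b * (tq hF a c * hq hF k)⁻¹) *
          (gg (g • pt (F := F) m none))⁻¹ =
          (gg (g • pt (F := F) m none) * (tq hF a c * hq hF k)) * tq hF 0 b *
          (gg (g • pt (F := F) m none) * (tq hF a c * hq hF k))⁻¹ := by group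
      rw [e, ← hg, ← hgb, ← mul_assoc, tq_zero_sq hm hF, one_mul]

/-- pairs `(s, p)` with `s` inverted by the involution and fixing `p` -/
def FP (hF : Fintype.card F = 2 ^ (2 * m + 1)) (b₀ : F) :
    Set (Cfsg.Sz F m × Cfsg.suzukiOvoid F m) :=
  {q | q.1 ∈ TT hF b₀ ∧ q.1 • q.2 = q.2}

set_option maxHeartbeats 1000000 in
theorem FP_fwd (hm : 1 ≤ m) (hF : Fintype.card F = 2 ^ (2 * m + 1)) (b₀ : F) (hb₀ : b₀ ≠ 0)
    (p : Cfsg.suzukiOvoid F m) (hp : p ≠ pt m none) (g : Cfsg.Sz F m)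
    (hg1 : g • pt (F := F) m none = p)
    (hg2 : g • pt (F := F) m (some (0, 0)) = tq hF 0 b₀ • p) (l : Fˣ) (hl : l ≠ 1) :
    g * hq hF l * g⁻¹ ∈ TT hF b₀ ∧ (g * hq hF l * g⁻¹) • p = p := by
  constructor
  · have hn1 : (g⁻¹ * tq hF 0 b₀ * g) • pt (F := F) m none = pt m (some (0, 0)) := by
      rw [mul_smul, mul_smul, hg1, inv_smul_eq_iff, hg2]
    have hn2 : (g⁻¹ * tq hF 0 b₀ * g) • pt (F := F) m (some (0, 0)) = pt m none := by
      have e : tq hF 0 b₀ • (tq hF 0 b₀ • p) = p := by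
        rw [← mul_smul, tq_zero_sq hm hF, one_smul]
      rw [mul_smul, mul_smul, hg2, e, inv_smul_eq_iff, hg1]
    obtain ⟨k', hk'⟩ := swap_inf_zero hm hF _ hn1 hn2
    have hx : tq hF 0 b₀ = g * (wq hF * hq hF k') * g⁻¹ := by
      rw [← hk']
      group
    constructor
    · have e : tq hF 0 b₀ * (g * hq hF l * g⁻¹) * tq hF 0 b₀ =
          tq hF 0 b₀ * (g * hq hF l * g⁻¹) * (tq hF 0 b₀)⁻¹ := by rw [tq0_inv hm hF]
      rw [e, hx]
      have e2 : g * (wq hF * hq hF k') * g⁻¹ * (g * hq hF l * g⁻¹) *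
          (g * (wq hF * hq hF k') * g⁻¹)⁻¹ =
          g * (wq hF * hq hF k' * hq hF l * (wq hF * hq hF k')⁻¹) * g⁻¹ := by group
      rw [e2, wq_hq_conj hm hF, ← hq_inv hm hF]
      group
    · intro h
      rw [mul_smul, mul_smul, smul_eq_iff_eq_inv_smul] at h
      rcases hq_fix_cases hF l hl _ h with h' | h'
      · rw [inv_smul_eq_iff, hg1] at h'
        exact hp h'.symm
      · rw [inv_smul_eq_iff, hg2] at h'
        apply hp
        have h'' : tq hF 0 b₀ • pt (F := F) m none = tq hF 0 b₀ • p := by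
          rw [tq_smul_inf]
          exact h'
        exact (smul_left_cancel _ h'').symm
  · have h := conj_smul_smul g (hq hF l) (pt (F := F) m none)
    rw [hq_smul_inf, hg1] at h
    exact h

theorem FP_bwd (hm : 1 ≤ m) (hF : Fintype.card F = 2 ^ (2 * m + 1)) (b₀ : F)
    (s : Cfsg.Sz F m) (hs : s ∈ TT hF b₀) (p : Cfsg.suzukiOvoid F m) (hsp : s • p = p)
    (g : Cfsg.Sz F m) (hg1 : g • pt (F := F) m none = p)
    (hg2 : g • pt (F := F) m (some (0, 0)) = tq hF 0 b₀ • p) :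
    ∃ l : Fˣ, l ≠ 1 ∧ s = g * hq hF l * g⁻¹ := by
  have hx2 := tq_zero_sq hm hF b₀
  have hsx : s * tq hF 0 b₀ = tq hF 0 b₀ * s⁻¹ := by
    rw [← hs.1]
    calc s * tq hF 0 b₀ = (tq hF 0 b₀ * tq hF 0 b₀) * s * tq hF 0 b₀ := by rw [hx2, one_mul]
      _ = _ := by group
  have hsp' : s⁻¹ • p = p := inv_smul_eq_iff.mpr hsp.symm
  have hsxp : s • (tq hF 0 b₀ • p) = tq hF 0 b₀ • p := by
    rw [← mul_smul, hsx, mul_smul, hsp']
  have hn1 : (g⁻¹ * s * g) • pt (F := F) m none = pt m none := by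
    rw [mul_smul, mul_smul, hg1, hsp, inv_smul_eq_iff, hg1]
  have hn2 : (g⁻¹ * s * g) • pt (F := F) m (some (0, 0)) = pt m (some (0, 0)) := by
    rw [mul_smul, mul_smul, hg2, hsxp, inv_smul_eq_iff, hg2]
  obtain ⟨l, hl⟩ := fix_inf_zero hm hF _ hn1 hn2
  have hsg : s = g * hq hF l * g⁻¹ := by
    rw [← hl]
    group
  refine ⟨l, ?_, hsg⟩
  rintro rfl
  apply TT_ne_one hF b₀ s hs
  rw [hsg, hq_one]
  group

set_option maxHeartbeats 2000000 in
theorem card_FP_a (hm : 1 ≤ m) (hF : Fintype.card F = 2 ^ (2 * m + 1)) (b₀ : F) (hb₀ : b₀ ≠ 0) :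
    (FP hF b₀).ncard = Fintype.card F ^ 2 * (Fintype.card F - 2) := by
  classical
  haveI := finite_ovoid (F := F) (m := m)
  have hgg : ∀ p : Cfsg.suzukiOvoid F m, ∃ g : Cfsg.Sz F m,
      p ≠ pt m none → g • pt (F := F) m none = p ∧
        g • pt (F := F) m (some (0, 0)) = tq hF 0 b₀ • p := by
    intro p
    by_cases hp : p = pt m none
    · exact ⟨1, fun h => absurd hp h⟩
    · obtain ⟨g, hg⟩ := exists_gg hF b₀ hb₀ p hp
      exact ⟨g, fun _ => hg⟩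
  choose gg hgg using hgg
  have hS : (({p : Cfsg.suzukiOvoid F m | p ≠ pt m none} ×ˢ {l : Fˣ | l ≠ 1}) :
      Set (Cfsg.suzukiOvoid F m × Fˣ)).ncard = Fintype.card F ^ 2 * (Fintype.card F - 2) := by
    rw [Set.ncard_prod]
    have h1 := ncard_ne (pt (F := F) m none)
    rw [Cfsg.Agent.S0326.result (F := F) m] at h1
    have h2 := ncard_ne (1 : Fˣ)
    rw [Nat.card_eq_fintype_card, Fintype.card_units] at h2
    have h1' : ({p : Cfsg.suzukiOvoid F m | p ≠ pt m none}).ncard = Fintype.card F ^ 2 := by omega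
    have h2' : ({l : Fˣ | l ≠ 1}).ncard = Fintype.card F - 2 := by omega
    rw [h1', h2']
  rw [← hS]
  symm
  apply Set.ncard_congr (fun (pl : Cfsg.suzukiOvoid F m × Fˣ) _ =>
    (gg pl.1 * hq hF pl.2 * (gg pl.1)⁻¹, pl.1))
  · rintro ⟨p, l⟩ ⟨hp, hl⟩
    obtain ⟨hg1, hg2⟩ := hgg p hp
    exact FP_fwd hm hF b₀ hb₀ p hp (gg p) hg1 hg2 l hl
  · rintro ⟨p, l⟩ ⟨p', l'⟩ ⟨hp, hl⟩ ⟨hp', hl'⟩ h
    obtain ⟨h1, h2⟩ := Prod.mk.inj h
    have hpp : p = p' := h2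
    subst hpp
    have h3 : hq hF l = hq hF l' := mul_left_cancel (mul_right_cancel h1)
    rw [hq_injective hF h3]
  · rintro ⟨s, p⟩ ⟨hs, hsp⟩
    have hp : p ≠ pt m none := by
      rintro rfl
      exact hs.2 hsp
    obtain ⟨hg1, hg2⟩ := hgg p hp
    obtain ⟨l, hl, hsl⟩ := FP_bwd hm hF b₀ s hs p hsp (gg p) hg1 hg2
    refine ⟨(p, l), ⟨hp, hl⟩, ?_⟩
    show (gg p * hq hF l * (gg p)⁻¹, p) = (s, p)
    rw [← hsl]

set_option maxHeartbeats 2000000 in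
theorem card_FP_b (hm : 1 ≤ m) (hF : Fintype.card F = 2 ^ (2 * m + 1)) (b₀ : F) (hb₀ : b₀ ≠ 0) :
    (FP hF b₀).ncard = ({s : Cfsg.Sz F m | s ∈ TT hF b₀ ∧ ¬ IsFpf s}).ncard * 2 := by
  classical
  have hhh : ∀ s : Cfsg.Sz F m, ∃ h : Cfsg.Sz F m, (s ∈ TT hF b₀ ∧ ¬ IsFpf s) →
      ∃ k : Fˣ, k ≠ 1 ∧ s = h * hq hF k * h⁻¹ := by
    intro s
    by_cases hs : s ∈ TT hF b₀ ∧ ¬ IsFpf s
    · obtain ⟨j, hj⟩ := TT_odd hm hF b₀ hb₀ s hs.1
      obtain ⟨h, k, hk, hsh⟩ := conj_hq_of_fix hm hF s hs.2 j hj (TT_ne_one hF b₀ s hs.1)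
      exact ⟨h, fun _ => ⟨k, hk, hsh⟩⟩
    · exact ⟨1, fun h => absurd h hs⟩
  choose hh hhh using hhh
  have hS : (({s : Cfsg.Sz F m | s ∈ TT hF b₀ ∧ ¬ IsFpf s} ×ˢ (Set.univ : Set Bool)) :
      Set (Cfsg.Sz F m × Bool)).ncard =
      ({s : Cfsg.Sz F m | s ∈ TT hF b₀ ∧ ¬ IsFpf s}).ncard * 2 := by
    rw [Set.ncard_prod, Set.ncard_univ, Nat.card_eq_fintype_card, Fintype.card_bool]
  rw [← hS]
  symm
  have hne : ∀ s : Cfsg.Sz F m, hh s • pt (F := F) m (some (0, 0)) ≠ hh s • pt (F := F) m none :=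
    fun s h => pt_some_ne _ _ (smul_left_cancel _ h)
  apply Set.ncard_congr (fun (sb : Cfsg.Sz F m × Bool) _ =>
    (sb.1, if sb.2 then hh sb.1 • pt (F := F) m (some (0, 0)) else hh sb.1 • pt (F := F) m none))
  · rintro ⟨s, b⟩ ⟨hs, -⟩
    obtain ⟨k, hk, hsh⟩ := hhh s hs
    have key : ∀ α : Cfsg.suzukiOvoid F m, hq hF k • α = α → s • (hh s • α) = hh s • α := by
      intro α hα
      have h := conj_smul_smul (hh s) (hq hF k) α
      rw [← hsh, hα] at h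
      exact h
    refine ⟨hs.1, ?_⟩
    cases b
    · exact key _ (hq_smul_inf hF k)
    · exact key _ (hq_smul_zero hF k)
  · rintro ⟨s, b⟩ ⟨s', b'⟩ ⟨hs, -⟩ ⟨hs', -⟩ h
    obtain ⟨h1, h2⟩ := Prod.mk.inj h
    have hss : s = s' := h1
    subst hss
    cases b <;> cases b'
    · rfl
    · exact absurd h2.symm (hne s)
    · exact absurd h2 (hne s)
    · rfl
  · rintro ⟨s, p⟩ ⟨hs, hsp⟩
    have hnf : ¬ IsFpf s := fun hf => hf p hsp
    obtain ⟨k, hk, hsh⟩ := hhh s ⟨hs, hnf⟩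
    have hsp' : s • p = p := hsp
    rw [hsh, mul_smul, mul_smul, smul_eq_iff_eq_inv_smul] at hsp'
    rcases hq_fix_cases hF k hk _ hsp' with h' | h'
    · refine ⟨(s, false), ⟨⟨hs, hnf⟩, Set.mem_univ _⟩, ?_⟩
      show (s, hh s • pt (F := F) m none) = (s, p)
      rw [inv_smul_eq_iff.mp h']
    · refine ⟨(s, true), ⟨⟨hs, hnf⟩, Set.mem_univ _⟩, ?_⟩
      show (s, hh s • pt (F := F) m (some (0, 0))) = (s, p)
      rw [inv_smul_eq_iff.mp h']

theorem card_TT_split (hF : Fintype.card F = 2 ^ (2 * m + 1)) (b₀ : F) :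
    (TT hF b₀).ncard = ({s : Cfsg.Sz F m | s ∈ TT hF b₀ ∧ IsFpf s}).ncard +
      ({s : Cfsg.Sz F m | s ∈ TT hF b₀ ∧ ¬ IsFpf s}).ncard := by
  classical
  have h : TT hF b₀ = {s : Cfsg.Sz F m | s ∈ TT hF b₀ ∧ IsFpf s} ∪
      {s : Cfsg.Sz F m | s ∈ TT hF b₀ ∧ ¬ IsFpf s} := by
    ext s
    simp only [Set.mem_union, Set.mem_ofPred_eq]
    constructor
    · intro hs
      by_cases hf : IsFpf s
      · exact Or.inl ⟨hs, hf⟩
      · exact Or.inr ⟨hs, hf⟩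
    · rintro (h | h)
      · exact h.1
      · exact h.1
  have hd : Disjoint {s : Cfsg.Sz F m | s ∈ TT hF b₀ ∧ IsFpf s}
      {s : Cfsg.Sz F m | s ∈ TT hF b₀ ∧ ¬ IsFpf s} := by
    rw [Set.disjoint_left]
    rintro s ⟨-, h1⟩ ⟨-, h2⟩
    exact h2 h1
  conv_lhs => rw [h]
  exact Set.ncard_union_eq hd

theorem two_le_card (hF : Fintype.card F = 2 ^ (2 * m + 1)) : 2 ≤ Fintype.card F := by
  rw [hF]
  calc 2 = 2 ^ 1 := by norm_num
    _ ≤ 2 ^ (2 * m + 1) := Nat.pow_le_pow_right (by norm_num) (by omega)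

theorem card_TT_f (hm : 1 ≤ m) (hF : Fintype.card F = 2 ^ (2 * m + 1)) (b₀ : F) (hb₀ : b₀ ≠ 0) :
    ({s : Cfsg.Sz F m | s ∈ TT hF b₀ ∧ IsFpf s}).ncard * 2 = Fintype.card F ^ 3 := by
  have h1 := card_TT hm hF b₀ hb₀
  have h2 := card_FP_a hm hF b₀ hb₀
  have h3 := card_FP_b hm hF b₀ hb₀
  have h4 := card_TT_split hF b₀
  obtain ⟨k, hk⟩ := Nat.exists_eq_add_of_le (two_le_card hF)
  rw [hk] at h1 h2 ⊢
  have e1 : 2 + k - 1 = k + 1 := by omega
  have e2 : 2 + k - 2 = k := by omega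
  rw [e1] at h1
  rw [e2] at h2
  nlinarith [h1, h2, h3, h4]

/-- pairs `(s, u)` with `u` a square root of the involution normalising the torus of `s` -/
def PP4 (hm : 1 ≤ m) (hF : Fintype.card F = 2 ^ (2 * m + 1)) (b₀ : F) :
    Set (Cfsg.Sz F m × Cfsg.Sz F m) :=
  {p | p.1 ∈ TT hF b₀ ∧ p.2 ∈ Qs hm hF ∧ p.2 ∈ NC p.1 ∧ p.2 * p.2 = tq hF 0 b₀}

theorem sqroot_cases' (hm : 1 ≤ m) (hF : Fintype.card F = 2 ^ (2 * m + 1)) (b₀ : F)
    (hb₀ : b₀ ≠ 0) (s : Cfsg.Sz F m) (hs : s ∈ TT hF b₀) (v : Cfsg.Sz F m) (hvQ : v ∈ Qs hm hF)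
    (hvN : v ∈ NC s) (hv2 : v * v = tq hF 0 b₀) (u : Cfsg.Sz F m) (huQ : u ∈ Qs hm hF)
    (huN : u ∈ NC s) (hu2 : u * u = tq hF 0 b₀) : u = v ∨ u = tq hF 0 b₀ * v := by
  obtain ⟨a₀, c₀, rfl⟩ := hvQ
  rw [tq_sq hm hF] at hv2
  have hb := (tq_injective hF hv2).2
  subst hb
  have ha₀ : a₀ ≠ 0 := by
    rintro rfl
    apply hb₀
    rw [mul_zero]
  exact sqroot_cases hm hF a₀ c₀ ha₀ s hs hvN u huQ huN hu2

set_option maxHeartbeats 2000000 in
theorem card_PP4 (hm : 1 ≤ m) (hF : Fintype.card F = 2 ^ (2 * m + 1)) (b₀ : F) (hb₀ : b₀ ≠ 0) :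
    (PP4 hm hF b₀).ncard = ({s : Cfsg.Sz F m | s ∈ TT hF b₀ ∧ IsFpf s}).ncard * 2 := by
  classical
  have hvv : ∀ s : Cfsg.Sz F m, ∃ v : Cfsg.Sz F m, (s ∈ TT hF b₀ ∧ IsFpf s) →
      v ∈ Qs hm hF ∧ v ∈ NC s ∧ v * v = tq hF 0 b₀ := by
    intro s
    by_cases hs : s ∈ TT hF b₀ ∧ IsFpf s
    · obtain ⟨v, hv⟩ := exists_sqroot hm hF b₀ hb₀ s hs.1 hs.2
      exact ⟨v, fun _ => hv⟩
    · exact ⟨1, fun h => absurd h hs⟩
  choose vv hvv using hvv
  have hS : (({s : Cfsg.Sz F m | s ∈ TT hF b₀ ∧ IsFpf s} ×ˢ (Set.univ : Set Bool)) :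
      Set (Cfsg.Sz F m × Bool)).ncard =
      ({s : Cfsg.Sz F m | s ∈ TT hF b₀ ∧ IsFpf s}).ncard * 2 := by
    rw [Set.ncard_prod, Set.ncard_univ, Nat.card_eq_fintype_card, Fintype.card_bool]
  rw [← hS]
  symm
  have hx1 := tq0_ne_one hm hF b₀ hb₀
  have hne : ∀ s : Cfsg.Sz F m, tq hF 0 b₀ * vv s ≠ vv s := by
    intro s h
    exact hx1 (mul_eq_right.mp h)
  apply Set.ncard_congr (fun (sb : Cfsg.Sz F m × Bool) _ =>
    (sb.1, if sb.2 then tq hF 0 b₀ * vv sb.1 else vv sb.1))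
  · rintro ⟨s, b⟩ ⟨hs, -⟩
    obtain ⟨hvQ, hvN, hv2⟩ := hvv s hs
    cases b
    · exact ⟨hs.1, hvQ, hvN, hv2⟩
    · refine ⟨hs.1, Subgroup.mul_mem _ (tq_mem_Qs hm hF 0 b₀) hvQ,
        Subgroup.mul_mem _ (x_mem_NC hm hF b₀ hb₀ s hs.1) hvN, ?_⟩
      show tq hF 0 b₀ * vv s * (tq hF 0 b₀ * vv s) = tq hF 0 b₀
      obtain ⟨a, c, hac⟩ := hvQ
      have hcomm : vv s * tq hF 0 b₀ = tq hF 0 b₀ * vv s := by
        rw [hac]
        exact (tq_zero_comm hm hF b₀ a c).symm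
      calc tq hF 0 b₀ * vv s * (tq hF 0 b₀ * vv s) =
          tq hF 0 b₀ * (vv s * tq hF 0 b₀) * vv s := by group
        _ = (tq hF 0 b₀ * tq hF 0 b₀) * (vv s * vv s) := by rw [hcomm]; group
        _ = tq hF 0 b₀ := by rw [tq_zero_sq hm hF, one_mul, hv2]
  · rintro ⟨s, b⟩ ⟨s', b'⟩ ⟨hs, -⟩ ⟨hs', -⟩ h
    obtain ⟨h1, h2⟩ := Prod.mk.inj h
    have hss : s = s' := h1
    subst hss
    cases b <;> cases b'
    · rfl
    · exact absurd h2.symm (hne s)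
    · exact absurd h2 (hne s)
    · rfl
  · rintro ⟨s, u⟩ ⟨hs, huQ, huN, hu2⟩
    have hf : IsFpf s := by
      by_contra hnf
      exact nonfpf_no_sqroot hm hF b₀ hb₀ s hs hnf u huN hu2
    obtain ⟨hvQ, hvN, hv2⟩ := hvv s ⟨hs, hf⟩
    rcases sqroot_cases' hm hF b₀ hb₀ s hs (vv s) hvQ hvN hv2 u huQ huN hu2 with h | h
    · refine ⟨(s, false), ⟨⟨hs, hf⟩, Set.mem_univ _⟩, ?_⟩
      show (s, vv s) = (s, u)
      rw [h]
    · refine ⟨(s, true), ⟨⟨hs, hf⟩, Set.mem_univ _⟩, ?_⟩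
      show (s, tq hF 0 b₀ * vv s) = (s, u)
      rw [h]

end Cfsg.Agent.helper11.Sz
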