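import Mathlib
import Cfsg.Agent.Lib_helper11_Sz38

set_option autoImplicit false

/-!
# Suzuki groups, part 39: solubilizers of `2`-elements
-/

namespace Cfsg.Agent.helper11.Sz

open Matrix Cfsg.Agent.S0326 Cfsg.Agent.S0327 Cfsg.Agent.S3893 MulAction

variable {F : Type*} [Field F] [CharP F 2] [Fintype F] {m : ℕ}

theorem th_fix (hF : Fintype.card F = 2 ^ (2 * m + 1)) (z : F) (h : th F m z = z) :
    z = 0 ∨ z = 1 := by
  have h2 : th F m (th F m z) = z := by rw [h, h]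
  rw [th_th hF] at h2
  have h3 : z * (z - 1) = 0 := by rw [mul_sub, mul_one, ← pow_two, h2, sub_self]
  rcases mul_eq_zero.mp h3 with h | h
  · exact Or.inl h
  · exact Or.inr (sub_eq_zero.mp h)

/-- the additive map `a' ↦ θ(a') a₀ + θ(a₀) a'` -/
noncomputable def LL (F : Type*) [Field F] [CharP F 2] (m : ℕ) (a₀ : F) : F →+ F where
  toFun a' := th F m a' * a₀ + th F m a₀ * a'
  map_zero' := by simp
  map_add' a b := by rw [map_add]; ring

theorem LL_apply (a₀ a' : F) : LL F m a₀ a' = th F m a' * a₀ + th F m a₀ * a' := rfl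

theorem LL_eq_zero (hF : Fintype.card F = 2 ^ (2 * m + 1)) (a₀ : F) (ha₀ : a₀ ≠ 0) (a' : F) :
    LL F m a₀ a' = 0 ↔ a' = 0 ∨ a' = a₀ := by
  have hta₀ : th F m a₀ ≠ 0 := fun h => ha₀ (th_eq_zero.mp h)
  rw [LL_apply]
  constructor
  · intro h
    have h1 : th F m a' * a₀ = th F m a₀ * a' := CharTwo.add_eq_zero.mp h
    have h2 : th F m (a' / a₀) = a' / a₀ := by
      rw [map_div₀, div_eq_div_iff hta₀ ha₀, h1, mul_comm]
    rcases th_fix hF _ h2 with h3 | h3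
    · left
      rcases div_eq_zero_iff.mp h3 with h4 | h4
      · exact h4
      · exact absurd h4 ha₀
    · right
      exact (div_eq_one_iff_eq ha₀).mp h3
  · rintro (rfl | rfl)
    · simp
    · exact CharTwo.add_self_eq_zero _

theorem LL_ne (hF : Fintype.card F = 2 ^ (2 * m + 1)) (a₀ : F) (ha₀ : a₀ ≠ 0) (a' : F) :
    LL F m a₀ a' ≠ th F m a₀ * a₀ := by
  have hta₀ : th F m a₀ ≠ 0 := fun h => ha₀ (th_eq_zero.mp h)
  have hb₀ : th F m a₀ * a₀ ≠ 0 := mul_ne_zero hta₀ ha₀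
  rw [LL_apply]
  intro h
  have ha' : a' = a' / a₀ * a₀ := (div_mul_cancel₀ a' ha₀).symm
  generalize a' / a₀ = z at ha'
  subst ha'
  rw [map_mul] at h
  have h1 : (th F m z + z) * (th F m a₀ * a₀) = 1 * (th F m a₀ * a₀) := by
    linear_combination h
  have hz : th F m z + z = 1 := mul_right_cancel₀ hb₀ h1
  have h2 : th F m (th F m z) + th F m z = 1 := by rw [← map_add, hz, map_one]
  rw [th_th hF] at h2
  have h3 : z * (z - 1) = 0 := by linear_combination h2 - hz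
  rcases mul_eq_zero.mp h3 with h4 | h4
  · rw [h4, map_zero, zero_add] at hz
    exact zero_ne_one hz
  · rw [sub_eq_zero.mp h4, map_one, CharTwo.add_self_eq_zero] at hz
    exact zero_ne_one hz

theorem LL_cover (hF : Fintype.card F = 2 ^ (2 * m + 1)) (a₀ : F) (ha₀ : a₀ ≠ 0) (d : F) :
    ∃ a' : F, LL F m a₀ a' = d ∨ LL F m a₀ a' = d + th F m a₀ * a₀ := by
  classical
  have hker : Nat.card (LL F m a₀).ker = 2 := by
    rw [Nat.card_eq_two_iff]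
    refine ⟨⟨0, (AddMonoidHom.mem_ker).mpr (map_zero _)⟩,
      ⟨a₀, (AddMonoidHom.mem_ker).mpr ((LL_eq_zero hF a₀ ha₀ a₀).mpr (Or.inr rfl))⟩, ?_, ?_⟩
    · intro h
      exact ha₀ (congrArg Subtype.val h).symm
    · ext ⟨x, hx⟩
      simp only [Set.mem_insert_iff, Set.mem_singleton_iff, Set.mem_univ, iff_true]
      rcases (LL_eq_zero hF a₀ ha₀ x).mp ((AddMonoidHom.mem_ker).mp hx) with h | h
      · left
        exact Subtype.ext h
      · right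
        exact Subtype.ext h
  have hidx : (LL F m a₀).range.index = 2 := by
    rw [AddSubgroup.index_range, hker]
  obtain ⟨a, ha⟩ := AddSubgroup.index_eq_two_iff.mp hidx
  have he : th F m a₀ * a₀ ∉ (LL F m a₀).range := by
    rintro ⟨a', h⟩
    exact LL_ne hF a₀ ha₀ a' h
  have hea : th F m a₀ * a₀ + a ∈ (LL F m a₀).range := by
    rcases ha (th F m a₀ * a₀) with ⟨h1, -⟩ | ⟨h1, -⟩
    · exact h1
    · exact absurd h1 he
  rcases ha d with ⟨h1, -⟩ | ⟨h1, -⟩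
  · have h2 := (LL F m a₀).range.add_mem h1 hea
    have e : d + a + (th F m a₀ * a₀ + a) = d + th F m a₀ * a₀ := by
      have h2a : a + a = 0 := CharTwo.add_self_eq_zero a
      linear_combination h2a
    rw [e] at h2
    obtain ⟨a', ha'⟩ := h2
    exact ⟨a', Or.inr ha'⟩
  · obtain ⟨a', ha'⟩ := h1
    exact ⟨a', Or.inl ha'⟩

theorem conj_sqroot (hm : 1 ≤ m) (hF : Fintype.card F = 2 ^ (2 * m + 1)) (a₀ c₀ : F)
    (ha₀ : a₀ ≠ 0) (c : F) :
    ∃ a' : F, tq hF a' 0 * tq hF a₀ c₀ * (tq hF a' 0)⁻¹ = tq hF a₀ c ∨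
      tq hF a' 0 * (tq hF a₀ c₀)⁻¹ * (tq hF a' 0)⁻¹ = tq hF a₀ c := by
  obtain ⟨a', h | h⟩ := LL_cover hF a₀ ha₀ (c + c₀)
  · refine ⟨a', Or.inl ?_⟩
    rw [tq_tq_conj hm hF]
    rw [LL_apply] at h
    congr 1
    have h2 : c₀ + c₀ = 0 := CharTwo.add_self_eq_zero c₀
    linear_combination h + h2
  · refine ⟨a', Or.inr ?_⟩
    rw [tq_inv hm hF, tq_tq_conj hm hF]
    rw [LL_apply] at h
    congr 1
    have h2 : c₀ + c₀ = 0 := CharTwo.add_self_eq_zero c₀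
    have h3 : th F m a₀ * a₀ + th F m a₀ * a₀ = 0 := CharTwo.add_self_eq_zero _
    linear_combination h + h2 + h3

theorem TT_conj (hm : 1 ≤ m) (hF : Fintype.card F = 2 ^ (2 * m + 1)) (b₀ : F)
    (g : Cfsg.Sz F m) (hg : g ∈ Qs hm hF) (s : Cfsg.Sz F m) (hs : s ∈ TT hF b₀) :
    g * s * g⁻¹ ∈ TT hF b₀ := by
  obtain ⟨a, c, rfl⟩ := hg
  have hcomm : tq hF 0 b₀ * tq hF a c = tq hF a c * tq hF 0 b₀ := tq_zero_comm hm hF b₀ a c
  have hcomm' : (tq hF a c)⁻¹ * tq hF 0 b₀ = tq hF 0 b₀ * (tq hF a c)⁻¹ := by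
    calc (tq hF a c)⁻¹ * tq hF 0 b₀ =
        (tq hF a c)⁻¹ * (tq hF 0 b₀ * tq hF a c) * (tq hF a c)⁻¹ := by group
      _ = (tq hF a c)⁻¹ * (tq hF a c * tq hF 0 b₀) * (tq hF a c)⁻¹ := by rw [hcomm]
      _ = tq hF 0 b₀ * (tq hF a c)⁻¹ := by group
  constructor
  · calc tq hF 0 b₀ * (tq hF a c * s * (tq hF a c)⁻¹) * tq hF 0 b₀ =
        (tq hF 0 b₀ * tq hF a c) * s * ((tq hF a c)⁻¹ * tq hF 0 b₀) := by group
      _ = (tq hF a c * tq hF 0 b₀) * s * (tq hF 0 b₀ * (tq hF a c)⁻¹) := by rw [hcomm, hcomm']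
      _ = tq hF a c * (tq hF 0 b₀ * s * tq hF 0 b₀) * (tq hF a c)⁻¹ := by group
      _ = tq hF a c * s⁻¹ * (tq hF a c)⁻¹ := by rw [hs.1]
      _ = (tq hF a c * s * (tq hF a c)⁻¹)⁻¹ := by group
  · intro h
    apply hs.2
    rw [mul_smul, mul_smul, tq_inv_smul_inf, smul_eq_iff_eq_inv_smul, tq_inv_smul_inf] at h
    exact h

set_option maxHeartbeats 2000000 in
theorem card_PP4_eq (hm : 1 ≤ m) (hF : Fintype.card F = 2 ^ (2 * m + 1)) (a₀ c₀ : F)
    (ha₀ : a₀ ≠ 0) :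
    (PP4 hm hF (th F m a₀ * a₀)).ncard = Fintype.card F *
      ({s : Cfsg.Sz F m | s ∈ TT hF (th F m a₀ * a₀) ∧ tq hF a₀ c₀ ∈ NC s}).ncard := by
  classical
  have haa := conj_sqroot hm hF a₀ c₀ ha₀
  choose aa haa using haa
  have hS : (((Set.univ : Set F) ×ˢ
      {s : Cfsg.Sz F m | s ∈ TT hF (th F m a₀ * a₀) ∧ tq hF a₀ c₀ ∈ NC s}) :
      Set (F × Cfsg.Sz F m)).ncard = Fintype.card F *
      ({s : Cfsg.Sz F m | s ∈ TT hF (th F m a₀ * a₀) ∧ tq hF a₀ c₀ ∈ NC s}).ncard := by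
    rw [Set.ncard_prod, Set.ncard_univ, Nat.card_eq_fintype_card]
  rw [← hS]
  symm
  apply Set.ncard_congr (fun (cs : F × Cfsg.Sz F m) _ =>
    (tq hF (aa cs.1) 0 * cs.2 * (tq hF (aa cs.1) 0)⁻¹, tq hF a₀ cs.1))
  · rintro ⟨c, s⟩ ⟨-, hs, hv⟩
    refine ⟨TT_conj hm hF _ _ (tq_mem_Qs hm hF _ _) s hs, tq_mem_Qs hm hF a₀ c, ?_,
      tq_sq hm hF a₀ c⟩
    show tq hF a₀ c ∈ NC (tq hF (aa c) 0 * s * (tq hF (aa c) 0)⁻¹)
    rcases haa c with h | h
    · rw [← h]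
      exact (mem_norm_conj _ s _).mpr hv
    · rw [← h]
      exact (mem_norm_conj _ s _).mpr (Subgroup.inv_mem _ hv)
  · rintro ⟨c, s⟩ ⟨c', s'⟩ ⟨-, hs, hv⟩ ⟨-, hs', hv'⟩ h
    obtain ⟨h1, h2⟩ := Prod.mk.inj h
    have hcc : c = c' := (tq_injective hF h2).2
    subst hcc
    have h3 : s = s' := mul_left_cancel (mul_right_cancel h1)
    rw [h3]
  · rintro ⟨s', u⟩ ⟨hs', huQ, huN, hu2⟩
    obtain ⟨a, c, hu⟩ := huQ
    have hu' : u = tq hF a c := hu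
    have hu2' : u * u = tq hF 0 (th F m a₀ * a₀) := hu2
    have huN' : u ∈ NC s' := huN
    have hs'' : s' ∈ TT hF (th F m a₀ * a₀) := hs'
    rw [hu', tq_sq hm hF] at hu2'
    have ha : a = a₀ := th_mul_self_inj hF ha₀ (tq_injective hF hu2').2
    rw [ha] at hu'
    rw [hu'] at huN'
    refine ⟨(c, (tq hF (aa c) 0)⁻¹ * s' * tq hF (aa c) 0), ⟨Set.mem_univ _, ?_, ?_⟩, ?_⟩
    · have h := TT_conj hm hF _ _ (Subgroup.inv_mem _ (tq_mem_Qs hm hF (aa c) 0)) s' hs''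
      rwa [inv_inv] at h
    · have e : s' = tq hF (aa c) 0 * ((tq hF (aa c) 0)⁻¹ * s' * tq hF (aa c) 0) *
          (tq hF (aa c) 0)⁻¹ := by group
      rw [e] at huN'
      have h2 := (mem_norm_conj' _ _ _).mp huN'
      rcases haa c with h | h
      · have e2 : (tq hF (aa c) 0)⁻¹ * tq hF a₀ c * tq hF (aa c) 0 = tq hF a₀ c₀ := by
          rw [← h]
          group
        rw [e2] at h2
        exact h2
      · have e2 : (tq hF (aa c) 0)⁻¹ * tq hF a₀ c * tq hF (aa c) 0 = (tq hF a₀ c₀)⁻¹ := by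
          rw [← h]
          group
        rw [e2] at h2
        have h3 := Subgroup.inv_mem _ h2
        rwa [inv_inv] at h3
    · show (tq hF (aa c) 0 * ((tq hF (aa c) 0)⁻¹ * s' * tq hF (aa c) 0) * (tq hF (aa c) 0)⁻¹,
        tq hF a₀ c) = (s', u)
      rw [hu']
      congr 1
      group

end Cfsg.Agent.helper11.Sz
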