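import Mathlib
import Cfsg.Agent.Lib_helper11_Sz39

set_option autoImplicit false

/-!
# Suzuki groups, part 40: the solubilizer of an involution and of an element of order four
-/

namespace Cfsg.Agent.helper11.Sz

open Matrix Cfsg.Agent.S0326 Cfsg.Agent.S0327 Cfsg.Agent.S3893 MulAction

variable {F : Type*} [Field F] [CharP F 2] [Fintype F] {m : ℕ}

theorem ncard_stab_inf (hm : 1 ≤ m) (hF : Fintype.card F = 2 ^ (2 * m + 1)) :
    ({y : Cfsg.Sz F m | y • pt (F := F) m none = pt m none}).ncard =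
      Fintype.card F ^ 2 * (Fintype.card F - 1) := by
  rw [← Nat.card_coe_set_eq]
  exact card_stabilizer hm hF (pt m none)

/-- splitting a solubilizer along the stabiliser of `∞` -/
theorem card_split (hm : 1 ≤ m) (hF : Fintype.card F = 2 ^ (2 * m + 1)) (v : Cfsg.Sz F m)
    (hv : v • pt (F := F) m none = pt m none) :
    Nat.card {y : Cfsg.Sz F m // NT v y} = Fintype.card F ^ 2 * (Fintype.card F - 1) +
      ({y : Cfsg.Sz F m | y • pt (F := F) m none ≠ pt m none ∧ NT v y}).ncard := by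
  classical
  have hset : Nat.card {y : Cfsg.Sz F m // NT v y} =
      ({y : Cfsg.Sz F m | y • pt (F := F) m none = pt m none} ∪
      {y : Cfsg.Sz F m | y • pt (F := F) m none ≠ pt m none ∧ NT v y}).ncard := by
    rw [← Nat.card_coe_set_eq]
    apply Nat.card_congr
    apply Equiv.subtypeEquivRight
    intro y
    simp only [Set.mem_union, Set.mem_ofPred_eq]
    constructor
    · intro h
      by_cases hy : y • pt (F := F) m none = pt m none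
      · exact Or.inl hy
      · exact Or.inr ⟨hy, h⟩
    · rintro (h | h)
      · exact Or.inl ⟨_, hv, h⟩
      · exact h.2
  have hd : Disjoint {y : Cfsg.Sz F m | y • pt (F := F) m none = pt m none}
      {y : Cfsg.Sz F m | y • pt (F := F) m none ≠ pt m none ∧ NT v y} := by
    rw [Set.disjoint_left]
    rintro y h1 ⟨h2, -⟩
    exact h2 h1
  rw [hset, Set.ncard_union_eq hd, ncard_stab_inf hm hF]

set_option maxHeartbeats 2000000 in
/-- the solubilizer of an involution -/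
theorem card_NT_invol (hm : 1 ≤ m) (hF : Fintype.card F = 2 ^ (2 * m + 1)) (b₀ : F)
    (hb₀ : b₀ ≠ 0) :
    Nat.card {y : Cfsg.Sz F m // NT (tq hF 0 b₀) y} =
      Fintype.card F ^ 2 * (4 * Fintype.card F - 3) := by
  classical
  rw [card_split hm hF _ (tq_smul_inf hF 0 b₀)]
  have hx1 := tq0_ne_one hm hF b₀ hb₀
  have hx2 := tq_zero_sq hm hF b₀
  -- the pairs
  have hW : ({p : Cfsg.Sz F m × Cfsg.Sz F m |
      p.1 ∈ TT hF b₀ ∧ p.2 ∈ Qs hm hF ∧ p.2 ∈ NC p.1}).ncard =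
      ({y : Cfsg.Sz F m | y • pt (F := F) m none ≠ pt m none ∧ NT (tq hF 0 b₀) y}).ncard := by
    apply Set.ncard_congr (fun (p : Cfsg.Sz F m × Cfsg.Sz F m) _ => p.1 * p.2)
    · rintro ⟨s, u⟩ ⟨hs, hu, huN⟩
      exact (WW_iff hm hF b₀ hb₀ _).mpr ⟨s, u, hs, hu, huN, rfl⟩
    · rintro ⟨s, u⟩ ⟨s', u'⟩ ⟨hs, hu, huN⟩ ⟨hs', hu', huN'⟩ h
      obtain ⟨h1, h2⟩ := TT_inj hm hF b₀ hb₀ s s' u u' hs hs' hu hu' h
      rw [h1, h2]
    · intro y hy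
      obtain ⟨s, u, hs, hu, huN, rfl⟩ := (WW_iff hm hF b₀ hb₀ y).mp hy
      exact ⟨(s, u), ⟨hs, hu, huN⟩, rfl⟩
  have hPP : {p : Cfsg.Sz F m × Cfsg.Sz F m |
      p.1 ∈ TT hF b₀ ∧ p.2 ∈ Qs hm hF ∧ p.2 ∈ NC p.1} =
      (TT hF b₀ ×ˢ ({1, tq hF 0 b₀} : Set (Cfsg.Sz F m))) ∪ PP4 hm hF b₀ := by
    ext ⟨s, u⟩
    simp only [Set.mem_union, Set.mem_prod, Set.mem_insert_iff, Set.mem_singleton_iff,
      Set.mem_ofPred_eq]
    constructor
    · rintro ⟨hs, hu, huN⟩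
      rcases Q_NC_cases hm hF b₀ hb₀ s hs u hu huN with h | h | h
      · exact Or.inl ⟨hs, Or.inl h⟩
      · exact Or.inl ⟨hs, Or.inr h⟩
      · exact Or.inr ⟨hs, hu, huN, h⟩
    · rintro (⟨hs, h | h⟩ | ⟨hs, hu, huN, -⟩)
      · rw [h]
        exact ⟨hs, Subgroup.one_mem _, Subgroup.one_mem _⟩
      · rw [h]
        exact ⟨hs, tq_mem_Qs hm hF 0 b₀, x_mem_NC hm hF b₀ hb₀ s hs⟩
      · exact ⟨hs, hu, huN⟩
  have hd : Disjoint (TT hF b₀ ×ˢ ({1, tq hF 0 b₀} : Set (Cfsg.Sz F m))) (PP4 hm hF b₀) := by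
    rw [Set.disjoint_left]
    rintro ⟨s, u⟩ ⟨-, hu⟩ ⟨-, -, -, hu2⟩
    simp only [Set.mem_insert_iff, Set.mem_singleton_iff] at hu
    have hu2' : u * u = tq hF 0 b₀ := hu2
    rcases hu with h | h
    · rw [h, one_mul] at hu2'
      exact hx1 hu2'.symm
    · rw [h, hx2] at hu2'
      exact hx1 hu2'.symm
  have h2 : ((TT hF b₀ ×ˢ ({1, tq hF 0 b₀} : Set (Cfsg.Sz F m))) :
      Set (Cfsg.Sz F m × Cfsg.Sz F m)).ncard = (TT hF b₀).ncard * 2 := by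
    rw [Set.ncard_prod, Set.ncard_pair (Ne.symm hx1)]
  rw [← hW, hPP, Set.ncard_union_eq hd, h2, card_TT hm hF b₀ hb₀, card_PP4 hm hF b₀ hb₀,
    card_TT_f hm hF b₀ hb₀]
  obtain ⟨k, hk⟩ := Nat.exists_eq_add_of_le (two_le_card hF)
  rw [hk]
  have e1 : 2 + k - 1 = k + 1 := by omega
  have e2 : 4 * (2 + k) - 3 = 4 * k + 5 := by omega
  rw [e1, e2]
  ring

theorem WWv_iff (hm : 1 ≤ m) (hF : Fintype.card F = 2 ^ (2 * m + 1)) (a₀ c₀ : F) (ha₀ : a₀ ≠ 0)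
    (y : Cfsg.Sz F m) :
    (y • pt (F := F) m none ≠ pt m none ∧ NT (tq hF a₀ c₀) y) ↔
      ∃ s u : Cfsg.Sz F m, (s ∈ TT hF (th F m a₀ * a₀) ∧ tq hF a₀ c₀ ∈ NC s) ∧ u ∈ Qs hm hF ∧
        u ∈ NC s ∧ y = s * u := by
  have hb₀ : th F m a₀ * a₀ ≠ 0 := mul_ne_zero (fun h => ha₀ (th_eq_zero.mp h)) ha₀
  constructor
  · rintro ⟨hy, ⟨p, hvp, hyp⟩ | ⟨z, hz1, ⟨i, hi⟩, hvz, hyz⟩⟩
    · exfalso
      have h := (tq_fix_iff hF a₀ c₀ (fun h => ha₀ h.1) p).mp hvp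
      subst h
      exact hy hyp
    · have hxz : tq hF 0 (th F m a₀ * a₀) ∈ NC z := by
        rw [← tq_sq hm hF a₀ c₀]
        exact Subgroup.mul_mem _ hvz hvz
      obtain ⟨s, u, hs, hu, hC, rfl⟩ := TT_surj hm hF _ hb₀ y z hy hz1 i hi hxz hyz
      have hvs : tq hF a₀ c₀ ∈ NC s := by
        unfold NC
        rw [hC]
        exact hvz
      refine ⟨s, u, ⟨hs, hvs⟩, hu, ?_, rfl⟩
      have hyN : s * u ∈ NC s := by
        unfold NC
        rw [hC]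
        exact hyz
      have h := Subgroup.mul_mem _ (Subgroup.inv_mem _ (self_mem_norm_cent s)) hyN
      rwa [inv_mul_cancel_left] at h
  · rintro ⟨s, u, ⟨hs, hvs⟩, hu, huN, rfl⟩
    obtain ⟨a, c, rfl⟩ := hu
    constructor
    · rw [mul_smul, tq_smul_inf]
      exact hs.2
    · obtain ⟨j, hj⟩ := TT_odd hm hF _ hb₀ s hs
      exact Or.inr ⟨s, TT_ne_one hF _ s hs, ⟨j, hj⟩, hvs,
        Subgroup.mul_mem _ (self_mem_norm_cent s) huN⟩

set_option maxHeartbeats 2000000 in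
/-- the solubilizer of an element of order four -/
theorem card_NT_four (hm : 1 ≤ m) (hF : Fintype.card F = 2 ^ (2 * m + 1)) (a₀ c₀ : F)
    (ha₀ : a₀ ≠ 0) :
    Nat.card {y : Cfsg.Sz F m // NT (tq hF a₀ c₀) y} =
      Fintype.card F ^ 2 * (Fintype.card F + 3) := by
  classical
  rw [card_split hm hF _ (tq_smul_inf hF a₀ c₀)]
  have hb₀ : th F m a₀ * a₀ ≠ 0 := mul_ne_zero (fun h => ha₀ (th_eq_zero.mp h)) ha₀
  have hx1 := tq0_ne_one hm hF _ hb₀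
  have hx2 := tq_zero_sq hm hF (th F m a₀ * a₀)
  have hv2 := tq_sq hm hF a₀ c₀
  have hW : ({p : Cfsg.Sz F m × Cfsg.Sz F m |
      (p.1 ∈ TT hF (th F m a₀ * a₀) ∧ tq hF a₀ c₀ ∈ NC p.1) ∧ p.2 ∈ Qs hm hF ∧
        p.2 ∈ NC p.1}).ncard =
      ({y : Cfsg.Sz F m | y • pt (F := F) m none ≠ pt m none ∧ NT (tq hF a₀ c₀) y}).ncard := by
    apply Set.ncard_congr (fun (p : Cfsg.Sz F m × Cfsg.Sz F m) _ => p.1 * p.2)
    · rintro ⟨s, u⟩ ⟨hs, hu, huN⟩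
      exact (WWv_iff hm hF a₀ c₀ ha₀ _).mpr ⟨s, u, hs, hu, huN, rfl⟩
    · rintro ⟨s, u⟩ ⟨s', u'⟩ ⟨hs, hu, huN⟩ ⟨hs', hu', huN'⟩ h
      obtain ⟨h1, h2⟩ := TT_inj hm hF _ hb₀ s s' u u' hs.1 hs'.1 hu hu' h
      rw [h1, h2]
    · intro y hy
      obtain ⟨s, u, hs, hu, huN, rfl⟩ := (WWv_iff hm hF a₀ c₀ ha₀ y).mp hy
      exact ⟨(s, u), ⟨hs, hu, huN⟩, rfl⟩
  have hPP : {p : Cfsg.Sz F m × Cfsg.Sz F m |
      (p.1 ∈ TT hF (th F m a₀ * a₀) ∧ tq hF a₀ c₀ ∈ NC p.1) ∧ p.2 ∈ Qs hm hF ∧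
        p.2 ∈ NC p.1} =
      {s : Cfsg.Sz F m | s ∈ TT hF (th F m a₀ * a₀) ∧ tq hF a₀ c₀ ∈ NC s} ×ˢ
        ({1, tq hF 0 (th F m a₀ * a₀), tq hF a₀ c₀,
          tq hF 0 (th F m a₀ * a₀) * tq hF a₀ c₀} : Set (Cfsg.Sz F m)) := by
    ext ⟨s, u⟩
    simp only [Set.mem_prod, Set.mem_insert_iff, Set.mem_singleton_iff, Set.mem_ofPred_eq]
    constructor
    · rintro ⟨⟨hs, hvs⟩, hu, huN⟩
      refine ⟨⟨hs, hvs⟩, ?_⟩
      rcases Q_NC_cases hm hF _ hb₀ s hs u hu huN with h | h | h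
      · exact Or.inl h
      · exact Or.inr (Or.inl h)
      · rcases sqroot_cases hm hF a₀ c₀ ha₀ s hs hvs u hu huN h with h' | h'
        · exact Or.inr (Or.inr (Or.inl h'))
        · exact Or.inr (Or.inr (Or.inr h'))
    · rintro ⟨⟨hs, hvs⟩, h | h | h | h⟩
      · rw [h]
        exact ⟨⟨hs, hvs⟩, Subgroup.one_mem _, Subgroup.one_mem _⟩
      · rw [h]
        exact ⟨⟨hs, hvs⟩, tq_mem_Qs hm hF 0 _, x_mem_NC hm hF _ hb₀ s hs⟩
      · rw [h]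
        exact ⟨⟨hs, hvs⟩, tq_mem_Qs hm hF a₀ c₀, hvs⟩
      · rw [h]
        exact ⟨⟨hs, hvs⟩, Subgroup.mul_mem _ (tq_mem_Qs hm hF 0 _) (tq_mem_Qs hm hF a₀ c₀),
          Subgroup.mul_mem _ (x_mem_NC hm hF _ hb₀ s hs) hvs⟩
  have hv1 : tq hF a₀ c₀ ≠ 1 := fun h => ha₀ ((tq_eq_one_iff hm hF).mp h).1
  have hvx : tq hF a₀ c₀ ≠ tq hF 0 (th F m a₀ * a₀) := fun h => ha₀ (tq_injective hF h).1
  have h4 : ({1, tq hF 0 (th F m a₀ * a₀), tq hF a₀ c₀,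
      tq hF 0 (th F m a₀ * a₀) * tq hF a₀ c₀} : Set (Cfsg.Sz F m)).ncard = 4 := by
    have n1 : (1 : Cfsg.Sz F m) ∉ ({tq hF 0 (th F m a₀ * a₀), tq hF a₀ c₀,
        tq hF 0 (th F m a₀ * a₀) * tq hF a₀ c₀} : Set (Cfsg.Sz F m)) := by
      simp only [Set.mem_insert_iff, Set.mem_singleton_iff]
      rintro (h | h | h)
      · exact hx1 h.symm
      · exact hv1 h.symm
      · apply hvx
        have h' := eq_inv_of_mul_eq_one_right h.symm
        rw [tq0_inv hm hF] at h'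
        exact h'
    have n2 : tq hF 0 (th F m a₀ * a₀) ∉ ({tq hF a₀ c₀,
        tq hF 0 (th F m a₀ * a₀) * tq hF a₀ c₀} : Set (Cfsg.Sz F m)) := by
      simp only [Set.mem_insert_iff, Set.mem_singleton_iff]
      rintro (h | h)
      · exact hvx h.symm
      · exact hv1 (mul_eq_left.mp h.symm)
    have n3 : tq hF a₀ c₀ ∉ ({tq hF 0 (th F m a₀ * a₀) * tq hF a₀ c₀} :
        Set (Cfsg.Sz F m)) := by
      simp only [Set.mem_singleton_iff]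
      intro h
      exact hx1 (mul_eq_right.mp h.symm)
    rw [Set.ncard_insert_of_notMem n1, Set.ncard_insert_of_notMem n2,
      Set.ncard_insert_of_notMem n3, Set.ncard_singleton]
  have hTv : ({s : Cfsg.Sz F m | s ∈ TT hF (th F m a₀ * a₀) ∧ tq hF a₀ c₀ ∈ NC s}).ncard =
      Fintype.card F ^ 2 := by
    have h1 := card_PP4_eq hm hF a₀ c₀ ha₀
    rw [card_PP4 hm hF _ hb₀, card_TT_f hm hF _ hb₀] at h1
    have hpos : 0 < Fintype.card F := by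
      have := two_le_card hF
      omega
    have h2 : Fintype.card F * Fintype.card F ^ 2 = Fintype.card F *
        ({s : Cfsg.Sz F m | s ∈ TT hF (th F m a₀ * a₀) ∧ tq hF a₀ c₀ ∈ NC s}).ncard := by
      rw [← h1]
      ring
    exact (Nat.eq_of_mul_eq_mul_left hpos h2).symm
  rw [← hW, hPP, Set.ncard_prod, h4, hTv]
  obtain ⟨k, hk⟩ := Nat.exists_eq_add_of_le (two_le_card hF)
  rw [hk]
  have e1 : 2 + k - 1 = k + 1 := by omega
  rw [e1]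
  ring

end Cfsg.Agent.helper11.Sz
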