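import Mathlib
import Cfsg.Agent.Lib_helper11_Sz40

set_option autoImplicit false

/-!
# Suzuki groups, part 41: linear algebra and the trace character, for the degree bound
-/

namespace Cfsg.Agent.helper11.Sz

open Matrix Cfsg.Agent.S0326 Cfsg.Agent.S0327 Cfsg.Agent.S3893 MulAction Module

section linalg

variable {V : Type*} [AddCommGroup V] [Module ℂ V] [FiniteDimensional ℂ V]

theorem trace_idem (P : V →ₗ[ℂ] V) (hP : P * P = P) :
    LinearMap.trace ℂ V P = (finrank ℂ (LinearMap.range P) : ℂ) :=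
  (LinearMap.IsIdempotentElem.isProj_range P hP).trace

theorem trace_conj_eq (A B A' : V →ₗ[ℂ] V) (h : A' * A = 1) :
    LinearMap.trace ℂ V (A * B * A') = LinearMap.trace ℂ V B := by
  rw [LinearMap.trace_mul_comm, ← mul_assoc, h, one_mul]

theorem trace_eq_zero_of_anticomm (S S' T : V →ₗ[ℂ] V) (hS : S' * S = 1) (hS2 : S * S' = 1)
    (h : S * T = -(T * S)) : LinearMap.trace ℂ V T = 0 := by
  have e1 : LinearMap.trace ℂ V (S' * (S * T)) = LinearMap.trace ℂ V T := by
    rw [← mul_assoc, hS, one_mul]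
  have e2 : LinearMap.trace ℂ V (S' * (T * S)) = LinearMap.trace ℂ V T := by
    rw [LinearMap.trace_mul_comm, mul_assoc, hS2, mul_one]
  rw [h, mul_neg, map_neg, e2] at e1
  have h2 : (2 : ℂ) * LinearMap.trace ℂ V T = 0 := by linear_combination -e1
  rcases mul_eq_zero.mp h2 with h3 | h3
  · norm_num at h3
  · exact h3

end linalg

section tracechar

variable {F : Type*} [Field F] [CharP F 2] [Fintype F] {m : ℕ}

/-- the absolute trace to the prime field -/
noncomputable def TrF (F : Type*) [Field F] [CharP F 2] : F →+ ZMod 2 :=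
  letI : Algebra (ZMod 2) F := ZMod.algebra F 2
  (Algebra.trace (ZMod 2) F).toAddMonoidHom

theorem TrF_th (x : F) : TrF F (th F m x) = TrF F x := by
  letI : Algebra (ZMod 2) F := ZMod.algebra F 2
  have hbij : Function.Bijective (th F m) := ⟨th_injective, th_surjective⟩
  have hcomm : ∀ x : ZMod 2, (RingEquiv.ofBijective (th F m) hbij) (algebraMap (ZMod 2) F x) =
      algebraMap (ZMod 2) F x := by
    intro x
    exact RingHom.congr_fun (Subsingleton.elim ((th F m).comp (algebraMap (ZMod 2) F))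
      (algebraMap (ZMod 2) F)) x
  exact Algebra.trace_eq_of_algEquiv (AlgEquiv.ofRingEquiv hcomm) x

theorem finrank_F (hF : Fintype.card F = 2 ^ (2 * m + 1)) :
    letI : Algebra (ZMod 2) F := ZMod.algebra F 2
    finrank (ZMod 2) F = 2 * m + 1 := by
  letI : Algebra (ZMod 2) F := ZMod.algebra F 2
  have h := Module.card_eq_pow_finrank (K := ZMod 2) (V := F)
  rw [hF, ZMod.card] at h
  exact (Nat.pow_right_injective (le_refl 2) h).symm

theorem TrF_one (hF : Fintype.card F = 2 ^ (2 * m + 1)) : TrF F (1 : F) = 1 := by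
  letI : Algebra (ZMod 2) F := ZMod.algebra F 2
  have h := Algebra.trace_algebraMap (R := ZMod 2) (S := F) (1 : ZMod 2)
  rw [map_one, finrank_F hF] at h
  show Algebra.trace (ZMod 2) F 1 = 1
  rw [h, nsmul_eq_mul, mul_one]
  push_cast
  have h2 : (2 : ZMod 2) = 0 := rfl
  rw [h2, zero_mul, zero_add]

theorem TrF_nondeg (x : F) (h : ∀ z : F, TrF F (x * z) = 0) : x = 0 := by
  letI : Algebra (ZMod 2) F := ZMod.algebra F 2
  have hnd := traceForm_nondegenerate (ZMod 2) F
  apply hnd.1
  intro z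
  rw [Algebra.traceForm_apply]
  exact h z

theorem zmod2_cases (t : ZMod 2) : t = 0 ∨ t = 1 := by
  revert t
  decide

/-- the trace character -/
noncomputable def chi (F : Type*) [Field F] [CharP F 2] (b : F) : ℂ :=
  if TrF F b = 0 then 1 else -1

theorem chi_add (b c : F) : chi F (b + c) = chi F b * chi F c := by
  unfold chi
  rw [map_add]
  have h11 : (1 : ZMod 2) + 1 = 0 := rfl
  have h10 : (1 : ZMod 2) ≠ 0 := by decide
  rcases zmod2_cases (TrF F b) with h1 | h1 <;> rcases zmod2_cases (TrF F c) with h2 | h2 <;>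
    rw [h1, h2] <;> simp [h11, h10]

theorem chi_zero : chi F (0 : F) = 1 := by
  unfold chi
  rw [map_zero]
  simp

theorem chi_sq (b : F) : chi F b * chi F b = 1 := by
  unfold chi
  split_ifs <;> norm_num

theorem chi_one (hF : Fintype.card F = 2 ^ (2 * m + 1)) : chi F (1 : F) = -1 := by
  unfold chi
  rw [TrF_one hF]
  simp

theorem chi_eq_neg_one_iff (b : F) : chi F b = -1 ↔ TrF F b ≠ 0 := by
  unfold chi
  split_ifs with h
  · constructor
    · intro h'
      norm_num at h'
    · intro h'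
      exact absurd h h'
  · simp [h]

theorem chi_eq_one_iff (b : F) : chi F b = 1 ↔ TrF F b = 0 := by
  unfold chi
  split_ifs with h
  · simp [h]
  · constructor
    · intro h'
      norm_num at h'
    · intro h'
      exact absurd h' h

theorem sum_chi (hF : Fintype.card F = 2 ^ (2 * m + 1)) : ∑ b : F, chi F b = 0 := by
  have h1 : ∑ b : F, chi F (b + 1) = ∑ b : F, chi F b :=
    Equiv.sum_comp (Equiv.addRight (1 : F)) (fun b => chi F b)
  have h2 : ∑ b : F, chi F (b + 1) = -∑ b : F, chi F b := by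
    rw [← Finset.sum_neg_distrib]
    apply Finset.sum_congr rfl
    intro b _
    rw [chi_add, chi_one hF, mul_neg, mul_one]
  rw [h2] at h1
  have h3 : (2 : ℂ) * ∑ b : F, chi F b = 0 := by linear_combination -h1
  rcases mul_eq_zero.mp h3 with h | h
  · norm_num at h
  · exact h

theorem chi_rad (hF : Fintype.card F = 2 ^ (2 * m + 1)) (a : F) (ha : a ^ 2 + a ≠ 0) :
    ∃ a' : F, chi F (th F m a * a' + th F m a' * a) = -1 := by
  by_contra hno
  push Not at hno
  apply ha
  apply TrF_nondeg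
  intro z
  obtain ⟨a', rfl⟩ := th_surjective (m := m) z
  have h1 : TrF F (th F m a * a' + th F m a' * a) = 0 := by
    by_contra h
    exact hno a' ((chi_eq_neg_one_iff _).mpr h)
  rw [map_add, ← TrF_th (m := m) (th F m a * a'), map_mul, th_th hF, ← map_add] at h1
  have e : (a ^ 2 + a) * th F m a' = a ^ 2 * th F m a' + th F m a' * a := by ring
  rw [e]
  exact h1

theorem exists_th_mul_self (hF : Fintype.card F = 2 ^ (2 * m + 1)) (b : F) (hb : b ≠ 0) :
    ∃ κ : Fˣ, th F m κ * κ = b := by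
  have hne : ∀ κ : Fˣ, th F m (κ : F) * κ ≠ 0 := fun κ =>
    mul_ne_zero (fun h => κ.ne_zero (th_eq_zero.mp h)) κ.ne_zero
  have hinj : Function.Injective (fun κ : Fˣ => Units.mk0 (th F m (κ : F) * κ) (hne κ)) := by
    intro κ κ' h
    have h' : th F m (κ : F) * κ = th F m (κ' : F) * κ' := congrArg Units.val h
    exact Units.ext (th_mul_self_inj hF κ'.ne_zero h')
  obtain ⟨κ, hκ⟩ := (Finite.injective_iff_surjective.mp hinj) (Units.mk0 b hb)
  exact ⟨κ, congrArg Units.val hκ⟩

end tracechar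

section proj

variable {F : Type*} [Field F] [CharP F 2] [Fintype F]
variable {V : Type*} [AddCommGroup V] [Module ℂ V]

/-- the character sum of a representation of the additive group of `F` is a scaled projection -/
theorem char_sum_mul (A : F → (V →ₗ[ℂ] V)) (hA : ∀ b c : F, A b * A c = A (b + c))
    (ψ : F → ℂ) (hψ : ∀ b c : F, ψ (b + c) = ψ b * ψ c) (hψ2 : ∀ b : F, ψ b * ψ b = 1) (c : F) :
    A c * ∑ b : F, ψ b • A b = ψ c • ∑ b : F, ψ b • A b := by
  rw [Finset.mul_sum, Finset.smul_sum]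
  rw [← Equiv.sum_comp (Equiv.addLeft c) (fun b => ψ c • ψ b • A b)]
  apply Finset.sum_congr rfl
  intro b _
  simp only [Equiv.coe_addLeft]
  rw [mul_smul_comm, hA, smul_smul, hψ, ← mul_assoc, hψ2, one_mul]

theorem char_sum_sq (A : F → (V →ₗ[ℂ] V)) (hA : ∀ b c : F, A b * A c = A (b + c))
    (ψ : F → ℂ) (hψ : ∀ b c : F, ψ (b + c) = ψ b * ψ c) (hψ2 : ∀ b : F, ψ b * ψ b = 1) :
    (∑ b : F, ψ b • A b) * (∑ b : F, ψ b • A b) =
      (Fintype.card F : ℂ) • ∑ b : F, ψ b • A b := by
  conv_lhs => rw [Finset.sum_mul]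
  have h : ∀ c : F, (ψ c • A c) * ∑ b : F, ψ b • A b = ∑ b : F, ψ b • A b := by
    intro c
    rw [smul_mul_assoc, char_sum_mul A hA ψ hψ hψ2 c, smul_smul, hψ2, one_smul]
  rw [Finset.sum_congr rfl (fun c _ => h c), Finset.sum_const, Finset.card_univ, Nat.cast_smul_eq_nsmul]

end proj

end Cfsg.Agent.helper11.Sz
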