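import Mathlib
import Cfsg.Agent.Lib_helper11_Sz41

set_option autoImplicit false

/-!
# Suzuki groups, part 42: the minimal degree of a faithful complex representation
-/

namespace Cfsg.Agent.helper11.Sz

open Matrix Cfsg.Agent.S0326 Cfsg.Agent.S0327 Cfsg.Agent.S3893 MulAction Module

variable {F : Type*} [Field F] [CharP F 2] [Fintype F] {m : ℕ}
variable {V : Type*} [AddCommGroup V] [Module ℂ V] [FiniteDimensional ℂ V]

theorem rho_tq0_mul (hm : 1 ≤ m) (hF : Fintype.card F = 2 ^ (2 * m + 1))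
    (ρ : Cfsg.Sz F m →* (V →ₗ[ℂ] V)) (b c : F) :
    ρ (tq hF 0 b) * ρ (tq hF 0 c) = ρ (tq hF 0 (b + c)) := by
  rw [← map_mul, tq_mul hm hF, add_zero, mul_zero, add_zero]

theorem trace_tq0 (hm : 1 ≤ m) (hF : Fintype.card F = 2 ^ (2 * m + 1))
    (ρ : Cfsg.Sz F m →* (V →ₗ[ℂ] V)) (b : F) (hb : b ≠ 0) :
    LinearMap.trace ℂ V (ρ (tq hF 0 b)) = LinearMap.trace ℂ V (ρ (tq hF 0 1)) := by
  obtain ⟨κ, hκ⟩ := exists_th_mul_self hF b hb
  have e : tq hF 0 b = hq hF κ * tq hF 0 1 * (hq hF κ)⁻¹ := by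
    rw [hq_tq_conj hm hF, mul_zero, mul_one, hκ]
  rw [e, ρ.map_mul, ρ.map_mul]
  exact trace_conj_eq _ _ _ (by rw [← ρ.map_mul, inv_mul_cancel, ρ.map_one])

theorem trace_char_sum (hm : 1 ≤ m) (hF : Fintype.card F = 2 ^ (2 * m + 1))
    (ρ : Cfsg.Sz F m →* (V →ₗ[ℂ] V)) (ψ : F → ℂ) (hψ0 : ψ 0 = 1) :
    LinearMap.trace ℂ V (∑ b : F, ψ b • ρ (tq hF 0 b)) =
      (finrank ℂ V : ℂ) - LinearMap.trace ℂ V (ρ (tq hF 0 1)) +
        (∑ b : F, ψ b) * LinearMap.trace ℂ V (ρ (tq hF 0 1)) := by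
  classical
  rw [map_sum]
  have h : ∀ b : F, LinearMap.trace ℂ V (ψ b • ρ (tq hF 0 b)) =
      ψ b * LinearMap.trace ℂ V (ρ (tq hF 0 1)) +
        (if b = 0 then ((finrank ℂ V : ℂ) - LinearMap.trace ℂ V (ρ (tq hF 0 1))) else 0) := by
    intro b
    rw [map_smul, smul_eq_mul]
    by_cases hb : b = 0
    · subst hb
      rw [if_pos rfl, hψ0, tq_zero hm hF, map_one, LinearMap.trace_one]
      ring
    · rw [if_neg hb, trace_tq0 hm hF ρ b hb, add_zero]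
  rw [Finset.sum_congr rfl (fun b _ => h b), Finset.sum_add_distrib, Finset.sum_ite_eq',
    ← Finset.sum_mul, if_pos (Finset.mem_univ _)]
  ring

/-- a scaled idempotent has trace `q` times its rank -/
theorem trace_scaled_idem (hF : Fintype.card F = 2 ^ (2 * m + 1)) (S : V →ₗ[ℂ] V)
    (hS : S * S = (Fintype.card F : ℂ) • S) :
    LinearMap.trace ℂ V S = (Fintype.card F : ℂ) * (finrank ℂ (LinearMap.range S) : ℂ) := by
  have hq0 : (Fintype.card F : ℂ) ≠ 0 := Nat.cast_ne_zero.mpr Fintype.card_ne_zero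
  have hP : ((Fintype.card F : ℂ)⁻¹ • S) * ((Fintype.card F : ℂ)⁻¹ • S) =
      (Fintype.card F : ℂ)⁻¹ • S := by
    rw [smul_mul_smul_comm, hS, smul_smul]
    congr 1
    field_simp
  have h := trace_idem _ hP
  rw [LinearMap.range_smul _ _ (inv_ne_zero hq0), map_smul, smul_eq_mul] at h
  rw [← h]
  field_simp

theorem finrank_split (hm : 1 ≤ m) (hF : Fintype.card F = 2 ^ (2 * m + 1))
    (ρ : Cfsg.Sz F m →* (V →ₗ[ℂ] V)) :
    finrank ℂ V = finrank ℂ (LinearMap.range (∑ b : F, ρ (tq hF 0 b))) +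
      (Fintype.card F - 1) *
        finrank ℂ (LinearMap.range (∑ b : F, chi F b • ρ (tq hF 0 b))) := by
  have hq0 : (Fintype.card F : ℂ) ≠ 0 := Nat.cast_ne_zero.mpr Fintype.card_ne_zero
  have hq1 : 1 ≤ Fintype.card F := Fintype.card_pos
  have hA := rho_tq0_mul hm hF ρ
  have hS2 := char_sum_sq (fun b => ρ (tq hF 0 b)) hA (chi F) chi_add chi_sq
  have hS1 := char_sum_sq (fun b => ρ (tq hF 0 b)) hA (fun _ => (1 : ℂ))
    (fun _ _ => (one_mul 1).symm) (fun _ => one_mul 1)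
  simp only [one_smul] at hS1
  have t2 := trace_scaled_idem hF _ hS2
  have t1 := trace_scaled_idem hF _ hS1
  have e2 := trace_char_sum hm hF ρ (chi F) chi_zero
  have e1 := trace_char_sum hm hF ρ (fun _ => (1 : ℂ)) rfl
  simp only [one_smul] at e1
  rw [sum_chi hF, zero_mul, add_zero] at e2
  rw [Finset.sum_const, Finset.card_univ, nsmul_eq_mul, mul_one] at e1
  rw [t2] at e2
  rw [t1] at e1
  apply Nat.cast_injective (R := ℂ)
  push_cast [Nat.cast_sub hq1]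
  apply mul_left_cancel₀ hq0
  linear_combination (-1 : ℂ) * e1 - ((Fintype.card F : ℂ) - 1) * e2

theorem finrank_chi_pos (hm : 1 ≤ m) (hF : Fintype.card F = 2 ^ (2 * m + 1))
    (ρ : Cfsg.Sz F m →* (V →ₗ[ℂ] V)) (hρ : ρ (tq hF 0 1) ≠ 1) :
    0 < finrank ℂ (LinearMap.range (∑ b : F, chi F b • ρ (tq hF 0 b))) := by
  have hq0 : (Fintype.card F : ℂ) ≠ 0 := Nat.cast_ne_zero.mpr Fintype.card_ne_zero
  have hA := rho_tq0_mul hm hF ρ
  have hS2 := char_sum_sq (fun b => ρ (tq hF 0 b)) hA (chi F) chi_add chi_sq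
  have t2 := trace_scaled_idem hF _ hS2
  have e2 := trace_char_sum hm hF ρ (chi F) chi_zero
  rw [sum_chi hF, zero_mul, add_zero, t2] at e2
  -- the idempotent (1 - A)/2
  have hAA : ρ (tq hF 0 1) * ρ (tq hF 0 1) = 1 := by
    rw [← map_mul, tq_zero_sq hm hF, map_one]
  have hE : ((1 / 2 : ℂ) • (1 - ρ (tq hF 0 1))) * ((1 / 2 : ℂ) • (1 - ρ (tq hF 0 1))) =
      (1 / 2 : ℂ) • (1 - ρ (tq hF 0 1)) := by
    rw [smul_mul_smul_comm]
    have e : (1 - ρ (tq hF 0 1)) * (1 - ρ (tq hF 0 1)) = (2 : ℂ) • (1 - ρ (tq hF 0 1)) := by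
      have e0 : (1 - ρ (tq hF 0 1)) * (1 - ρ (tq hF 0 1)) =
          1 - ρ (tq hF 0 1) - ρ (tq hF 0 1) + ρ (tq hF 0 1) * ρ (tq hF 0 1) := by noncomm_ring
      rw [e0, hAA, two_smul]
      abel
    rw [e, smul_smul]
    congr 1
    norm_num
  have tE := trace_idem _ hE
  rw [map_smul, map_sub, LinearMap.trace_one, smul_eq_mul] at tE
  by_contra hpos
  have hd : finrank ℂ (LinearMap.range (∑ b : F, chi F b • ρ (tq hF 0 b))) = 0 := by omega
  rw [hd, Nat.cast_zero, mul_zero] at e2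
  rw [← e2] at tE
  have h0 : (finrank ℂ (LinearMap.range ((1 / 2 : ℂ) • (1 - ρ (tq hF 0 1)))) : ℂ) = 0 := by
    rw [← tE]
    ring
  have h1 : finrank ℂ (LinearMap.range ((1 / 2 : ℂ) • (1 - ρ (tq hF 0 1)))) = 0 := by
    exact_mod_cast h0
  rw [Submodule.finrank_eq_zero, LinearMap.range_eq_bot] at h1
  apply hρ
  have h2 : (1 : V →ₗ[ℂ] V) - ρ (tq hF 0 1) = 0 := by
    have h3 := congrArg (fun T => (2 : ℂ) • T) h1
    simp only [smul_smul, smul_zero] at h3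
    norm_num at h3
    exact h3
  exact (sub_eq_zero.mp h2).symm

end Cfsg.Agent.helper11.Sz
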