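import Mathlib
import Cfsg.Agent.Lib_helper11_Sz42

set_option autoImplicit false

/-!
# Suzuki groups, part 43: the eigenspace of the trace character has dimension at least `2 ^ m`
-/

namespace Cfsg.Agent.helper11.Sz

open Matrix Cfsg.Agent.S0326 Cfsg.Agent.S0327 Cfsg.Agent.S3893 MulAction Module

variable {F : Type*} [Field F] [CharP F 2] [Fintype F] {m : ℕ}
variable {V : Type*} [AddCommGroup V] [Module ℂ V] [FiniteDimensional ℂ V]

theorem tq_congr (hF : Fintype.card F = 2 ^ (2 * m + 1)) {a a' b b' : F} (ha : a = a')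
    (hb : b = b') : tq hF a b = tq hF a' b' := by rw [ha, hb]

/-- the eigenspace of the trace character on the centre of the Sylow subgroup -/
noncomputable def Wchi (hF : Fintype.card F = 2 ^ (2 * m + 1))
    (ρ : Cfsg.Sz F m →* (V →ₗ[ℂ] V)) : Submodule ℂ V :=
  LinearMap.range (∑ b : F, chi F b • ρ (tq hF 0 b))

theorem Wchi_eigen (hm : 1 ≤ m) (hF : Fintype.card F = 2 ^ (2 * m + 1))
    (ρ : Cfsg.Sz F m →* (V →ₗ[ℂ] V)) (c : F) (w : V) (hw : w ∈ Wchi hF ρ) :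
    ρ (tq hF 0 c) w = chi F c • w := by
  obtain ⟨v, rfl⟩ := hw
  have h := char_sum_mul (fun b => ρ (tq hF 0 b)) (rho_tq0_mul hm hF ρ) (chi F) chi_add chi_sq c
  have h2 := congrArg (fun T : V →ₗ[ℂ] V => T v) h
  simpa [Module.End.mul_apply] using h2

theorem Wchi_inv (hm : 1 ≤ m) (hF : Fintype.card F = 2 ^ (2 * m + 1))
    (ρ : Cfsg.Sz F m →* (V →ₗ[ℂ] V)) (u : Cfsg.Sz F m) (hu : u ∈ Qs hm hF) (w : V)
    (hw : w ∈ Wchi hF ρ) : ρ u w ∈ Wchi hF ρ := by
  obtain ⟨a, b, rfl⟩ := hu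
  obtain ⟨v, rfl⟩ := hw
  have hcomm : ρ (tq hF a b) * (∑ c : F, chi F c • ρ (tq hF 0 c)) =
      (∑ c : F, chi F c • ρ (tq hF 0 c)) * ρ (tq hF a b) := by
    rw [Finset.mul_sum, Finset.sum_mul]
    apply Finset.sum_congr rfl
    intro c _
    rw [mul_smul_comm, smul_mul_assoc, ← ρ.map_mul, ← ρ.map_mul, tq_zero_comm hm hF]
  have h2 := congrArg (fun T : V →ₗ[ℂ] V => T v) hcomm
  simp only [Module.End.mul_apply] at h2
  rw [h2]
  exact LinearMap.mem_range_self _ _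

/-- the Sylow subgroup acting on the eigenspace -/
noncomputable def resQ (hm : 1 ≤ m) (hF : Fintype.card F = 2 ^ (2 * m + 1))
    (ρ : Cfsg.Sz F m →* (V →ₗ[ℂ] V)) : Qs hm hF →* (Wchi hF ρ →ₗ[ℂ] Wchi hF ρ) where
  toFun u := (ρ (u : Cfsg.Sz F m)).restrict (fun w hw => Wchi_inv hm hF ρ u.1 u.2 w hw)
  map_one' := by
    ext w
    simp
  map_mul' u v := by
    ext w
    simp [Module.End.mul_apply]

theorem resQ_coe (hm : 1 ≤ m) (hF : Fintype.card F = 2 ^ (2 * m + 1))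
    (ρ : Cfsg.Sz F m →* (V →ₗ[ℂ] V)) (u : Qs hm hF) (w : Wchi hF ρ) :
    ((resQ hm hF ρ u w : Wchi hF ρ) : V) = ρ (u : Cfsg.Sz F m) (w : V) := rfl

theorem resQ_center (hm : 1 ≤ m) (hF : Fintype.card F = 2 ^ (2 * m + 1))
    (ρ : Cfsg.Sz F m →* (V →ₗ[ℂ] V)) (c : F) :
    resQ hm hF ρ ⟨tq hF 0 c, tq_mem_Qs hm hF 0 c⟩ = chi F c • 1 := by
  ext w
  rw [resQ_coe]
  show ρ (tq hF 0 c) (w : V) = ((chi F c • (1 : Wchi hF ρ →ₗ[ℂ] Wchi hF ρ)) w : Wchi hF ρ)
  rw [Wchi_eigen hm hF ρ c w w.2]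
  rfl

set_option maxHeartbeats 1000000 in
theorem trace_resQ_zero (hm : 1 ≤ m) (hF : Fintype.card F = 2 ^ (2 * m + 1))
    (ρ : Cfsg.Sz F m →* (V →ₗ[ℂ] V)) (a b : F) (ha : a ^ 2 + a ≠ 0) :
    LinearMap.trace ℂ (Wchi hF ρ) (resQ hm hF ρ ⟨tq hF a b, tq_mem_Qs hm hF a b⟩) = 0 := by
  obtain ⟨a', ha'⟩ := chi_rad hF a ha
  apply trace_eq_zero_of_anticomm (resQ hm hF ρ ⟨tq hF a' 0, tq_mem_Qs hm hF a' 0⟩)
    (resQ hm hF ρ (⟨tq hF a' 0, tq_mem_Qs hm hF a' 0⟩)⁻¹)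
  · rw [← map_mul, inv_mul_cancel, map_one]
  · rw [← map_mul, mul_inv_cancel, map_one]
  · have e : (⟨tq hF a' 0, tq_mem_Qs hm hF a' 0⟩ : Qs hm hF) * ⟨tq hF a b, tq_mem_Qs hm hF a b⟩ =
        ⟨tq hF 0 (th F m a * a' + th F m a' * a), tq_mem_Qs hm hF _ _⟩ *
          (⟨tq hF a b, tq_mem_Qs hm hF a b⟩ * ⟨tq hF a' 0, tq_mem_Qs hm hF a' 0⟩) := by
      apply Subtype.ext
      show tq hF a' 0 * tq hF a b = tq hF 0 (th F m a * a' + th F m a' * a) *
        (tq hF a b * tq hF a' 0)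
      rw [tq_mul hm hF, tq_mul hm hF, tq_mul hm hF]
      apply tq_congr hF
      · ring
      · rw [map_zero, zero_mul]
        linear_combination (-(th F m a * a')) * (CharTwo.two_eq_zero (R := F))
    rw [← map_mul, e, map_mul, resQ_center, ha', map_mul, smul_mul_assoc, one_mul]
    first | simp | module | exact neg_one_smul ℂ (_ : Wchi hF ρ →ₗ[ℂ] Wchi hF ρ)

theorem card_TrF_zero (hF : Fintype.card F = 2 ^ (2 * m + 1)) [DecidableEq F]
    [DecidablePred (fun a : F => TrF F a = 0)] :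
    Fintype.card {a : F // TrF F a = 0} * 2 = Fintype.card F := by
  have e : {a : F // TrF F a = 0} ≃ {a : F // ¬ TrF F a = 0} :=
    (Equiv.addRight (1 : F)).subtypeEquiv (fun a => by
      show TrF F a = 0 ↔ ¬ TrF F (a + 1) = 0
      rw [map_add, TrF_one hF]
      rcases zmod2_cases (TrF F a) with h | h <;> rw [h] <;> decide)
  have h1 := Fintype.card_congr e
  have h2 := Fintype.card_subtype_compl (fun a : F => TrF F a = 0)
  have h3 : Fintype.card {a : F // TrF F a = 0} ≤ Fintype.card F := Fintype.card_subtype_le _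
  omega

set_option maxHeartbeats 2000000 in
theorem finrank_chi_ge (hm : 1 ≤ m) (hF : Fintype.card F = 2 ^ (2 * m + 1))
    (ρ : Cfsg.Sz F m →* (V →ₗ[ℂ] V)) (hρ : ρ (tq hF 0 1) ≠ 1) :
    2 ^ m ≤ finrank ℂ (Wchi hF ρ) := by
  classical
  have hd : 0 < finrank ℂ (Wchi hF ρ) := finrank_chi_pos hm hF ρ hρ
  have hli : LinearIndependent ℂ (fun a : {a : F // TrF F a = 0} =>
      resQ hm hF ρ ⟨tq hF a.1 0, tq_mem_Qs hm hF _ _⟩) := by
    rw [Fintype.linearIndependent_iff]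
    intro g hg a₂
    have h1 := congrArg (fun T : Wchi hF ρ →ₗ[ℂ] Wchi hF ρ => LinearMap.trace ℂ _
      (T * resQ hm hF ρ (⟨tq hF a₂.1 0, tq_mem_Qs hm hF _ _⟩)⁻¹)) hg
    simp only [zero_mul, map_zero, Finset.sum_mul, map_sum, smul_mul_assoc, map_smul,
      smul_eq_mul] at h1
    rw [Finset.sum_eq_single a₂] at h1
    · rw [← map_mul, mul_inv_cancel, map_one, LinearMap.trace_one] at h1
      rcases mul_eq_zero.mp h1 with h | h
      · exact h
      · exfalso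
        have hne : (finrank ℂ (Wchi hF ρ) : ℂ) ≠ 0 := Nat.cast_ne_zero.mpr (by omega)
        exact hne h
    · intro a _ hne
      rw [← map_mul]
      have e : (⟨tq hF a.1 0, tq_mem_Qs hm hF _ _⟩ : Qs hm hF) *
          (⟨tq hF a₂.1 0, tq_mem_Qs hm hF _ _⟩)⁻¹ =
          ⟨tq hF (a.1 + a₂.1) (0 + (0 + th F m a₂.1 * a₂.1) + th F m a.1 * a₂.1),
            tq_mem_Qs hm hF _ _⟩ := by
        apply Subtype.ext
        show tq hF a.1 0 * (tq hF a₂.1 0)⁻¹ = _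
        rw [tq_inv hm hF, tq_mul hm hF]
      have h3 : (a.1 + a₂.1) ^ 2 + (a.1 + a₂.1) ≠ 0 := by
        intro h0
        have h4 : (a.1 + a₂.1) * (a.1 + a₂.1 + 1) = 0 := by linear_combination h0
        rcases mul_eq_zero.mp h4 with h5 | h5
        · exact hne (Subtype.ext (CharTwo.add_eq_zero.mp h5))
        · have h6 : a.1 + a₂.1 = 1 := CharTwo.add_eq_zero.mp h5
          have h7 := congrArg (TrF F) h6
          rw [map_add, a.2, a₂.2, TrF_one hF] at h7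
          revert h7
          decide
      rw [e, trace_resQ_zero hm hF ρ _ _ h3, mul_zero]
    · intro h
      exact absurd (Finset.mem_univ _) h
  have hcard := hli.fintype_card_le_finrank
  rw [Module.finrank_linearMap] at hcard
  have hK := card_TrF_zero hF (m := m) (F := F)
  rw [hF] at hK
  have hK2 : Fintype.card {a : F // TrF F a = 0} = 2 ^ m * 2 ^ m := by
    have e : 2 ^ (2 * m + 1) = 2 ^ m * 2 ^ m * 2 := by
      rw [← pow_add, ← pow_succ]
      congr 1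
      omega
    omega
  rw [hK2] at hcard
  exact Nat.mul_self_le_mul_self_iff.mp hcard

/-- the Landazuri–Seitz bound for the Suzuki groups -/
theorem rep_bound (hm : 1 ≤ m) (hF : Fintype.card F = 2 ^ (2 * m + 1))
    (ρ : Cfsg.Sz F m →* (V →ₗ[ℂ] V)) (hρ : ρ (tq hF 0 1) ≠ 1) :
    2 ^ m * (2 ^ (2 * m + 1) - 1) ≤ finrank ℂ V := by
  have h1 := finrank_split hm hF ρ
  have h2 := finrank_chi_ge hm hF ρ hρ
  rw [hF] at h1
  rw [h1, mul_comm]
  exact le_trans (Nat.mul_le_mul_left _ h2) (Nat.le_add_left _ _)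

end Cfsg.Agent.helper11.Sz
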