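import Mathlib
import Cfsg.Agent.Lib_helper11_Sz43

set_option autoImplicit false

/-!
# Suzuki groups, part 44: the automorphisms of the Sylow 2-subgroup `Q`
-/

namespace Cfsg.Agent.helper11.Sz

open Matrix Cfsg.Agent.S0326 Cfsg.Agent.S0327 Cfsg.Agent.S3893

/-- Hua's identity in a field -/
theorem hua_field {K : Type*} [Field K] (a b : K) (ha : a ≠ 0) (hb : b ≠ 0) (hab : a * b ≠ 1) :
    b⁻¹ - a ≠ 0 ∧ a⁻¹ + (b⁻¹ - a)⁻¹ ≠ 0 ∧ a - (a⁻¹ + (b⁻¹ - a)⁻¹)⁻¹ = a ^ 2 * b := by
  have h1 : 1 - a * b ≠ 0 := sub_ne_zero.mpr (Ne.symm hab)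
  have hu : b⁻¹ - a = (1 - a * b) / b := by field_simp
  have hv : a⁻¹ + (b⁻¹ - a)⁻¹ = (a * (1 - a * b))⁻¹ := by
    rw [hu, inv_div]
    field_simp
    ring
  refine ⟨?_, ?_, ?_⟩
  · rw [hu]; exact div_ne_zero h1 hb
  · rw [hv]; exact inv_ne_zero (mul_ne_zero ha h1)
  · rw [hv, inv_inv]; ring

section autQ

variable {F : Type*} [Field F] [CharP F 2] [Fintype F] {m : ℕ}

/-- elements of `Q` -/
noncomputable def tQ (hm : 1 ≤ m) (hF : Fintype.card F = 2 ^ (2 * m + 1)) (a b : F) : Qs hm hF :=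
  ⟨tq hF a b, tq_mem_Qs hm hF a b⟩

theorem tQ_mul (hm : 1 ≤ m) (hF : Fintype.card F = 2 ^ (2 * m + 1)) (a b a' b' : F) :
    tQ hm hF a b * tQ hm hF a' b' = tQ hm hF (a + a') (b + b' + th F m a * a') :=
  Subtype.ext (tq_mul hm hF a b a' b')

theorem tQ_zero (hm : 1 ≤ m) (hF : Fintype.card F = 2 ^ (2 * m + 1)) :
    tQ hm hF (0 : F) 0 = 1 := Subtype.ext (tq_zero hm hF)

theorem tQ_inj (hm : 1 ≤ m) (hF : Fintype.card F = 2 ^ (2 * m + 1)) {a b a' b' : F}
    (h : tQ hm hF a b = tQ hm hF a' b') : a = a' ∧ b = b' :=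
  tq_injective hF (congrArg Subtype.val h)

theorem tQ_surj (hm : 1 ≤ m) (hF : Fintype.card F = 2 ^ (2 * m + 1)) (x : Qs hm hF) :
    ∃ a b, x = tQ hm hF a b := by
  obtain ⟨a, b, h⟩ := x.2
  exact ⟨a, b, Subtype.ext h⟩

theorem tQ_sq (hm : 1 ≤ m) (hF : Fintype.card F = 2 ^ (2 * m + 1)) (a b : F) :
    tQ hm hF a b * tQ hm hF a b = tQ hm hF 0 (th F m a * a) := by
  rw [tQ_mul, CharTwo.add_self_eq_zero, CharTwo.add_self_eq_zero, zero_add]

theorem tQ_sq_eq_one_iff (hm : 1 ≤ m) (hF : Fintype.card F = 2 ^ (2 * m + 1)) (a b : F) :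
    tQ hm hF a b * tQ hm hF a b = 1 ↔ a = 0 := by
  rw [tQ_sq, ← tQ_zero hm hF]
  constructor
  · intro h
    have h1 := (tQ_inj hm hF h).2
    rcases mul_eq_zero.mp h1 with h2 | h2
    · exact th_eq_zero.mp h2
    · exact h2
  · rintro rfl; rw [map_zero, zero_mul]

/-- an automorphism preserves the centre -/
theorem aut_center (hm : 1 ≤ m) (hF : Fintype.card F = 2 ^ (2 * m + 1))
    (ψ : Qs hm hF ≃* Qs hm hF) (b : F) : ∃ b', ψ (tQ hm hF 0 b) = tQ hm hF 0 b' := by
  obtain ⟨a', b', h⟩ := tQ_surj hm hF (ψ (tQ hm hF 0 b))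
  have h1 : tQ hm hF 0 b * tQ hm hF 0 b = 1 := (tQ_sq_eq_one_iff hm hF 0 b).mpr rfl
  have h3 : ψ (tQ hm hF 0 b) * ψ (tQ hm hF 0 b) = 1 := by rw [← map_mul, h1, map_one]
  rw [h] at h3
  have := (tQ_sq_eq_one_iff hm hF a' b').mp h3
  exact ⟨b', by rw [h, this]⟩

/-- the image of `1 + θ` is the kernel of the trace -/
theorem trace_zero_eq (hF : Fintype.card F = 2 ^ (2 * m + 1)) (w : F) (hw : TrF F w = 0) :
    ∃ t, w = t + th F m t := by
  classical
  have hker : ∀ t : F, t + th F m t = 0 → t = 0 ∨ t = 1 := by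
    intro t ht
    have h3 : th F m t = t := (CharTwo.add_eq_zero.mp ht).symm
    have h4 : t ^ 2 = t := by
      have := th_th hF t
      rw [h3, h3] at this
      exact this.symm
    have h5 : t * (t - 1) = 0 := by linear_combination h4
    rcases mul_eq_zero.mp h5 with h6 | h6
    · left; exact h6
    · right; exact sub_eq_zero.mp h6
  have hsub : Finset.univ.image (fun t : F => t + th F m t) ⊆
      Finset.univ.filter (fun w : F => TrF F w = 0) := by
    intro w hw
    obtain ⟨t, -, rfl⟩ := Finset.mem_image.mp hw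
    rw [Finset.mem_filter]
    refine ⟨Finset.mem_univ _, ?_⟩
    rw [map_add, TrF_th]; exact CharTwo.add_self_eq_zero _
  have hcard2 : (Finset.univ.filter (fun w : F => TrF F w = 0)).card * 2 = Fintype.card F := by
    rw [← card_TrF_zero hF (m := m) (F := F), Fintype.card_subtype]
  have hcard1 : Fintype.card F ≤ 2 * (Finset.univ.image (fun t : F => t + th F m t)).card := by
    rw [← Finset.card_univ]
    apply Finset.card_le_mul_card_image
    intro w hw
    obtain ⟨t₀, -, rfl⟩ := Finset.mem_image.mp hw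
    calc (Finset.univ.filter (fun t : F => t + th F m t = t₀ + th F m t₀)).card
        ≤ ({t₀, t₀ + 1} : Finset F).card := by
          apply Finset.card_le_card
          intro t ht
          rw [Finset.mem_filter] at ht
          have h3 : (t + t₀) + th F m (t + t₀) = 0 := by
            rw [map_add]
            have := ht.2
            linear_combination this + (t₀ + th F m t₀) * (CharTwo.two_eq_zero (R := F))
          rcases hker _ h3 with h | h
          · rw [Finset.mem_insert]; left; exact CharTwo.add_eq_zero.mp h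
          · rw [Finset.mem_insert, Finset.mem_singleton]; right
            linear_combination h - t₀ * (CharTwo.two_eq_zero (R := F))
      _ ≤ 2 := Finset.card_le_two
  have heq : Finset.univ.image (fun t : F => t + th F m t) =
      Finset.univ.filter (fun w : F => TrF F w = 0) :=
    Finset.eq_of_subset_of_card_le hsub (by omega)
  have : w ∈ Finset.univ.image (fun t : F => t + th F m t) := by
    rw [heq, Finset.mem_filter]; exact ⟨Finset.mem_univ _, hw⟩
  obtain ⟨t, -, rfl⟩ := Finset.mem_image.mp this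
  exact ⟨t, rfl⟩

/-- the polar form divided by the norm has trace zero -/
theorem trace_polar (x y : F) (hx : x ≠ 0) :
    TrF F ((th F m x * y + th F m y * x) / (th F m x * x)) = 0 := by
  have htx : th F m x ≠ 0 := fun h => hx (th_eq_zero.mp h)
  have e : (th F m x * y + th F m y * x) / (th F m x * x) = y / x + th F m (y / x) := by
    rw [map_div₀]
    field_simp
  rw [e, map_add, TrF_th]
  exact CharTwo.add_self_eq_zero _

set_option maxHeartbeats 4000000 in
/-- the structure of the automorphisms of `Q` -/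
theorem aut_structure (hm : 1 ≤ m) (hF : Fintype.card F = 2 ^ (2 * m + 1))
    (φ : Qs hm hF ≃* Qs hm hF) :
    ∃ (k : F) (σ : F →+* F) (l : F →+ F), k ≠ 0 ∧
      ∀ a b, φ (tQ hm hF a b) = tQ hm hF (k * σ a) (l a + th F m k * k * σ b) := by
  have h2 : ∀ x : F, x + x = 0 := CharTwo.add_self_eq_zero
  choose β hβ using aut_center hm hF φ
  have hgen : ∀ a : F, ∃ a' l', φ (tQ hm hF a 0) = tQ hm hF a' l' := fun a => tQ_surj hm hF _
  choose α l hαl using hgen
  have hφ : ∀ a b, φ (tQ hm hF a b) = tQ hm hF (α a) (l a + β b) := by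
    intro a b
    have e : tQ hm hF a b = tQ hm hF a 0 * tQ hm hF 0 b := by
      rw [tQ_mul, add_zero, zero_add, mul_zero, add_zero]
    rw [e, map_mul, hαl, hβ, tQ_mul, add_zero, mul_zero, add_zero]
  have hβadd : ∀ b b', β (b + b') = β b + β b' := by
    intro b b'
    have e : tQ hm hF 0 b * tQ hm hF 0 b' = tQ hm hF 0 (b + b') := by
      rw [tQ_mul, add_zero, map_zero, zero_mul, add_zero]
    have := congrArg φ e
    rw [map_mul, hβ, hβ, hβ, tQ_mul, add_zero, map_zero, zero_mul, add_zero] at this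
    exact ((tQ_inj hm hF this).2).symm
  have hβ0 : β 0 = 0 := by
    have := hβadd 0 0
    rw [add_zero] at this
    exact this.trans (h2 _)
  have hβinj : Function.Injective β := by
    intro b b' h
    have : φ (tQ hm hF 0 b) = φ (tQ hm hF 0 b') := by rw [hβ, hβ, h]
    exact (tQ_inj hm hF (φ.injective this)).2
  have hβsurj : Function.Surjective β := Finite.injective_iff_surjective.mp hβinj
  have hβne : ∀ b, b ≠ 0 → β b ≠ 0 := fun b hb h => hb (hβinj (h.trans hβ0.symm))
  have hβsub : ∀ x y, β (x - y) = β x - β y := by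
    intro x y
    rw [CharTwo.sub_eq_add, CharTwo.sub_eq_add, hβadd]
  have hstar : ∀ a a', α (a + a') = α a + α a' ∧
      l (a + a') + β (th F m a * a') = l a + l a' + th F m (α a) * α a' := by
    intro a a'
    have e : tQ hm hF a 0 * tQ hm hF a' 0 = tQ hm hF (a + a') (th F m a * a') := by
      rw [tQ_mul, add_zero, zero_add]
    have := congrArg φ e
    rw [map_mul, hαl, hαl, hφ, tQ_mul] at this
    have h3 := tQ_inj hm hF this
    exact ⟨h3.1.symm, h3.2.symm⟩
  have hα0 : α 0 = 0 ∧ l 0 = 0 := by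
    have := hαl 0
    rw [tQ_zero, map_one, ← tQ_zero hm hF] at this
    have h3 := tQ_inj hm hF this
    exact ⟨h3.1.symm, h3.2.symm⟩
  have hN : ∀ a, β (th F m a * a) = th F m (α a) * α a := by
    intro a
    have := (hstar a a).2
    rw [h2 a, hα0.2, zero_add, h2 (l a), zero_add] at this
    exact this
  have hαne : ∀ a, a ≠ 0 → α a ≠ 0 := by
    intro a ha h
    have h3 := hN a
    rw [h, map_zero, zero_mul] at h3
    have h4 := hβinj (h3.trans hβ0.symm)
    rcases mul_eq_zero.mp h4 with h5 | h5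
    · exact ha (th_eq_zero.mp h5)
    · exact ha h5
  have hB : ∀ a a', β (th F m a * a' + th F m a' * a) =
      th F m (α a) * α a' + th F m (α a') * α a := by
    intro a a'
    have h3 := (hstar a a').2
    have h4 := (hstar a' a).2
    rw [add_comm a' a] at h4
    rw [hβadd]
    linear_combination h3 + h4 + (-(l (a + a')) + l a + l a') * (CharTwo.two_eq_zero (R := F))
  -- the trace identity
  have hclub : ∀ c y : F, c ≠ 0 → TrF F (β y / β c) = TrF F (y / c) := by
    intro c y hc
    obtain ⟨κ, hκ⟩ := exists_th_mul_self hF c hc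
    have hκ0 : (κ : F) ≠ 0 := κ.ne_zero
    have hβc : β c = th F m (α κ) * α κ := by rw [← hκ, hN]
    have hzero : ∀ y, TrF F (y / c) = 0 → TrF F (β y / β c) = 0 := by
      intro y hy
      obtain ⟨t, ht⟩ := trace_zero_eq hF _ hy
      have hy2 : y = th F m κ * (κ * t) + th F m (κ * t) * κ := by
        have : y = c * (t + th F m t) := by rw [← ht]; field_simp
        rw [this, ← hκ, map_mul]; ring
      rw [hy2, hB, hβc]
      exact trace_polar _ _ (hαne _ hκ0)
    have h1c : TrF F (β c / β c) = 1 := by rw [div_self (hβne c hc)]; exact TrF_one hF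
    have h1c' : TrF F (c / c) = 1 := by rw [div_self hc]; exact TrF_one hF
    rcases zmod2_cases (TrF F (y / c)) with h | h
    · rw [h]; exact hzero y h
    · have h3 : TrF F ((y + c) / c) = 0 := by
        rw [add_div, map_add, h, h1c']; decide
      have h4 := hzero _ h3
      rw [hβadd, add_div, map_add, h1c] at h4
      rw [h]
      rcases zmod2_cases (TrF F (β y / β c)) with h5 | h5
      · rw [h5] at h4; exact absurd h4 (by decide)
      · exact h5
  obtain ⟨δ, hδ⟩ : ∃ δ : F → F, ∀ c, δ c = (β c⁻¹)⁻¹ := ⟨fun c => (β c⁻¹)⁻¹, fun _ => rfl⟩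
  have hδ0 : δ 0 = 0 := by rw [hδ, _root_.inv_zero, hβ0, _root_.inv_zero]
  have hδtr : ∀ y c, TrF F (β y * δ c) = TrF F (y * c) := by
    intro y c
    by_cases hc : c = 0
    · subst hc; rw [hδ0, mul_zero, mul_zero]
    · have := hclub c⁻¹ y (inv_ne_zero hc)
      rw [div_eq_mul_inv, div_eq_mul_inv, inv_inv, ← hδ] at this
      exact this
  have hδadd : ∀ c c', δ (c + c') = δ c + δ c' := by
    intro c c'
    have : δ (c + c') + (δ c + δ c') = 0 := by
      apply TrF_nondeg
      intro z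
      obtain ⟨y, rfl⟩ := hβsurj z
      rw [mul_comm, mul_add, mul_add, map_add, map_add, hδtr, hδtr, hδtr, mul_add, map_add]
      exact CharTwo.add_self_eq_zero _
    exact CharTwo.add_eq_zero.mp this
  have hδinv : ∀ x, δ x⁻¹ = (β x)⁻¹ := fun x => by rw [hδ, inv_inv]
  have hβinv : ∀ x, β x⁻¹ = (δ x)⁻¹ := fun x => by rw [hδ, inv_inv]
  have hδne : ∀ b, b ≠ 0 → δ b ≠ 0 := fun b hb => by
    rw [hδ]; exact inv_ne_zero (hβne _ (inv_ne_zero hb))
  have hH : ∀ a b, β (a ^ 2 * b) = (β a) ^ 2 * δ b := by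
    intro a b
    by_cases ha : a = 0
    · subst ha
      rw [zero_pow (by norm_num), zero_mul, hβ0, zero_pow (by norm_num), zero_mul]
    by_cases hb : b = 0
    · subst hb; rw [mul_zero, hβ0, hδ0, mul_zero]
    by_cases hab : a * b = 1
    · have hb' : b = a⁻¹ := eq_inv_of_mul_eq_one_right hab
      rw [hb', hδinv]
      have e : a ^ 2 * a⁻¹ = a := by field_simp
      rw [e]
      have hA := hβne a ha
      field_simp
    · obtain ⟨hu, hv, e1⟩ := hua_field a b ha hb hab
      have hA := hβne a ha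
      have hBne := hδne b hb
      have hβu : β (b⁻¹ - a) = (δ b)⁻¹ - β a := by rw [hβsub, hβinv]
      have hβu0 : (δ b)⁻¹ - β a ≠ 0 := by rw [← hβu]; exact hβne _ hu
      have hAB : β a * δ b ≠ 1 := by
        intro h
        apply hβu0
        have : (δ b)⁻¹ = β a := by
          rw [inv_eq_iff_eq_inv]
          exact eq_inv_of_mul_eq_one_right h
        rw [this, sub_self]
      obtain ⟨-, -, e2⟩ := hua_field (β a) (δ b) hA hBne hAB
      have hδadd' : δ (a⁻¹ + (b⁻¹ - a)⁻¹) = (β a)⁻¹ + ((δ b)⁻¹ - β a)⁻¹ := by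
        rw [hδadd, hδinv, hδinv, hβu]
      rw [← e1, hβsub, hβinv, hδadd', e2]
  have hk' : β 1 ≠ 0 := hβne 1 one_ne_zero
  have hβδ : ∀ b, β b = (β 1) ^ 2 * δ b := fun b => by
    have := hH 1 b; rwa [one_pow, one_mul] at this
  have hδ1 : δ 1 = (β 1)⁻¹ := by have := hδinv 1; rwa [inv_one] at this
  have hβsq : ∀ a, β (a ^ 2) = (β a) ^ 2 / β 1 := fun a => by
    have := hH a 1; rwa [mul_one, hδ1, ← div_eq_mul_inv] at this
  have hβmul : ∀ a b, β (a ^ 2 * b) = (β a) ^ 2 * β b / (β 1) ^ 2 := by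
    intro a b
    rw [hH, hβδ b]; field_simp
  have hσmul : ∀ x y, β (x * y) / β 1 = (β x / β 1) * (β y / β 1) := by
    intro x y
    obtain ⟨a, ha⟩ := FiniteField.isSquare_of_char_two (ringChar.eq F 2) x
    have hx : x = a ^ 2 := by rw [ha, sq]
    rw [hx, hβmul, hβsq]
    field_simp
  obtain ⟨σ, hσ⟩ : ∃ σ : F →+* F, ∀ x, σ x = β x / β 1 :=
    ⟨{ toFun := fun x => β x / β 1
       map_one' := div_self hk'
       map_mul' := hσmul
       map_zero' := by show β 0 / β 1 = 0; rw [hβ0, zero_div]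
       map_add' := fun x y => by
        show β (x + y) / β 1 = β x / β 1 + β y / β 1
        rw [hβadd, add_div] }, fun _ => rfl⟩
  obtain ⟨κ, hκ⟩ := exists_th_mul_self hF (β 1) hk'
  have hσth : ∀ x, σ (th F m x) = th F m (σ x) := fun x => by
    rw [th_apply, th_apply, map_pow]
  have hβσ : ∀ x, β x = th F m κ * κ * σ x := fun x => by
    rw [hσ, hκ]; field_simp
  have hα : ∀ a, α a = κ * σ a := by
    intro a
    by_cases ha : a = 0
    · subst ha; rw [hα0.1, map_zero, mul_zero]
    · have hσa : σ a ≠ 0 := by rw [hσ]; exact div_ne_zero (hβne a ha) hk'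
      apply th_mul_self_inj hF (mul_ne_zero κ.ne_zero hσa)
      rw [← hN, hβσ]
      simp only [map_mul, hσth]
      ring
  have hladd : ∀ a a', l (a + a') = l a + l a' := by
    intro a a'
    have h3 := (hstar a a').2
    have h4 : β (th F m a * a') = th F m (α a) * α a' := by
      rw [hβσ, hα, hα]
      simp only [map_mul, hσth]
      ring
    rw [h4] at h3
    exact add_right_cancel h3
  refine ⟨κ, σ, { toFun := l, map_zero' := hα0.2, map_add' := hladd }, κ.ne_zero, fun a b => ?_⟩
  rw [hφ, hα, hβσ]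
  rfl

end autQ

end Cfsg.Agent.helper11.Sz
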