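import Mathlib
import Cfsg.Agent.Lib_helper11_Sz44
import Cfsg.Agent.S2126
import Cfsg.Prelude.Def_Solvable

set_option autoImplicit false

/-!
# Suzuki groups, part 45: the automorphism group of the Sylow 2-subgroup `Q`
-/

namespace Cfsg.Agent.helper11.Sz

open Matrix Cfsg.Agent.S0326 Cfsg.Agent.S0327 Cfsg.Agent.S3893 Module

/-- a normal 2-subgroup of odd index is the 2-core -/
theorem pCore_two_eq {A : Type*} [Group A] [Finite A] (K : Subgroup A) [K.Normal]
    (hK : IsPGroup 2 K) (hodd : Odd K.index) : Cfsg.pCore 2 A = K := by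
  apply le_antisymm
  · apply sSup_le
    rintro N ⟨hN, hN2⟩
    intro x hx
    obtain ⟨j, hj⟩ := hN2 ⟨x, hx⟩
    have hxj : x ^ 2 ^ j = 1 := by
      have := congrArg Subtype.val hj
      simpa using this
    have h1 : orderOf (QuotientGroup.mk' K x) ∣ 2 ^ j := by
      apply orderOf_dvd_of_pow_eq_one
      rw [← map_pow, hxj, map_one]
    have h2 : orderOf (QuotientGroup.mk' K x) ∣ K.index := by
      rw [Subgroup.index_eq_card]
      exact orderOf_dvd_natCard _
    have h3 : orderOf (QuotientGroup.mk' K x) = 1 := by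
      have hc : Nat.Coprime (2 ^ j) K.index :=
        Nat.Coprime.pow_left _ (Nat.coprime_two_left.mpr hodd)
      exact Nat.eq_one_of_dvd_coprimes hc h1 h2
    have h4 := orderOf_eq_one_iff.mp h3
    exact (QuotientGroup.eq_one_iff x).mp h4
  · exact le_sSup ⟨inferInstance, hK⟩

section autQ

variable {F : Type*} [Field F] [CharP F 2] [Fintype F] {m : ℕ}

/-- existence of the automorphisms -/
theorem aut_exists (hm : 1 ≤ m) (hF : Fintype.card F = 2 ^ (2 * m + 1))
    (k : F) (hk : k ≠ 0) (σ : F →+* F) (l : F →+ F) :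
    ∃ φ : Qs hm hF ≃* Qs hm hF,
      ∀ a b, φ (tQ hm hF a b) = tQ hm hF (k * σ a) (l a + th F m k * k * σ b) := by
  choose pa pb hp using tQ_surj hm hF
  have hpa : ∀ a b, pa (tQ hm hF a b) = a ∧ pb (tQ hm hF a b) = b := by
    intro a b
    have := tQ_inj hm hF (hp (tQ hm hF a b))
    exact ⟨this.1.symm, this.2.symm⟩
  have hσth : ∀ x, σ (th F m x) = th F m (σ x) := fun x => by
    rw [th_apply, th_apply, map_pow]
  obtain ⟨f, hf⟩ : ∃ f : Qs hm hF → Qs hm hF, ∀ a b,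
      f (tQ hm hF a b) = tQ hm hF (k * σ a) (l a + th F m k * k * σ b) :=
    ⟨fun x => tQ hm hF (k * σ (pa x)) (l (pa x) + th F m k * k * σ (pb x)), fun a b => by
      show tQ hm hF (k * σ (pa (tQ hm hF a b)))
        (l (pa (tQ hm hF a b)) + th F m k * k * σ (pb (tQ hm hF a b))) = _
      rw [(hpa a b).1, (hpa a b).2]⟩
  have hmul : ∀ x y, f (x * y) = f x * f y := by
    intro x y
    obtain ⟨a, b, rfl⟩ := tQ_surj hm hF x
    obtain ⟨a', b', rfl⟩ := tQ_surj hm hF y
    rw [tQ_mul, hf, hf, hf, tQ_mul]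
    congr 1
    · rw [map_add]; ring
    · simp only [map_add, map_mul, hσth]
      ring
  have htk : th F m k * k ≠ 0 := mul_ne_zero (fun h => hk (th_eq_zero.mp h)) hk
  have hinj : Function.Injective f := by
    intro x y hxy
    obtain ⟨a, b, rfl⟩ := tQ_surj hm hF x
    obtain ⟨a', b', rfl⟩ := tQ_surj hm hF y
    rw [hf, hf] at hxy
    obtain ⟨h1, h2⟩ := tQ_inj hm hF hxy
    have ha : a = a' := σ.injective (mul_left_cancel₀ hk h1)
    subst ha
    have hb : b = b' := σ.injective (mul_left_cancel₀ htk (add_left_cancel h2))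
    rw [hb]
  have hbij : Function.Bijective f := ⟨hinj, Finite.injective_iff_surjective.mp hinj⟩
  exact ⟨MulEquiv.ofBijective (MonoidHom.mk' f hmul) hbij, hf⟩

/-- uniqueness of the parameters -/
theorem aut_params_unique (hm : 1 ≤ m) (hF : Fintype.card F = 2 ^ (2 * m + 1))
    (k k' : F) (hk : k ≠ 0) (σ σ' : F →+* F) (l l' : F →+ F)
    (h : ∀ a b, tQ hm hF (k * σ a) (l a + th F m k * k * σ b) =
      tQ hm hF (k' * σ' a) (l' a + th F m k' * k' * σ' b)) : k = k' ∧ σ = σ' ∧ l = l' := by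
  have hkk : k = k' := by
    have := (tQ_inj hm hF (h 1 0)).1
    rwa [map_one, map_one, mul_one, mul_one] at this
  subst hkk
  refine ⟨rfl, ?_, ?_⟩
  · ext a
    exact mul_left_cancel₀ hk (tQ_inj hm hF (h a 0)).1
  · ext a
    have := (tQ_inj hm hF (h a 0)).2
    simpa using this

theorem aut_ext (hm : 1 ≤ m) (hF : Fintype.card F = 2 ^ (2 * m + 1))
    (φ ψ : MulAut (Qs hm hF)) (h : ∀ a b, φ (tQ hm hF a b) = ψ (tQ hm hF a b)) : φ = ψ := by
  ext x
  obtain ⟨a, b, rfl⟩ := tQ_surj hm hF x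
  rw [h]

theorem card_addHom (hF : Fintype.card F = 2 ^ (2 * m + 1)) :
    Nat.card (F →+ F) = 2 ^ ((2 * m + 1) ^ 2) := by
  classical
  letI : Algebra (ZMod 2) F := ZMod.algebra F 2
  rw [Nat.card_congr (AddMonoidHom.toZModLinearMapEquiv 2 (M := F) (M₁ := F)).toEquiv]
  haveI : Finite (F →ₗ[ZMod 2] F) :=
    Finite.of_injective (fun f : F →ₗ[ZMod 2] F => (f : F → F)) DFunLike.coe_injective
  haveI : Fintype (F →ₗ[ZMod 2] F) := Fintype.ofFinite _
  rw [Nat.card_eq_fintype_card, Module.card_eq_pow_finrank (K := ZMod 2) (V := F →ₗ[ZMod 2] F),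
    Module.finrank_linearMap, finrank_F hF, ZMod.card, sq]

/-- the order of the automorphism group of `Q` -/
theorem card_aut_Q (hm : 1 ≤ m) (hF : Fintype.card F = 2 ^ (2 * m + 1)) :
    Nat.card (MulAut (Qs hm hF)) =
      2 ^ ((2 * m + 1) ^ 2) * ((2 * m + 1) * (2 ^ (2 * m + 1) - 1)) := by
  choose k σ l hk hφ using aut_structure hm hF
  have hbij : Function.Bijective
      (fun φ : MulAut (Qs hm hF) => ((Units.mk0 (k φ) (hk φ), σ φ, l φ) : Fˣ × (F →+* F) × (F →+ F))) := by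
    constructor
    · intro φ ψ h
      simp only [Prod.mk.injEq] at h
      obtain ⟨h1, h2, h3⟩ := h
      have h1' : k φ = k ψ := congrArg Units.val h1
      apply aut_ext hm hF
      intro a b
      rw [hφ φ, hφ ψ, h1', h2, h3]
    · rintro ⟨κ, s, lam⟩
      obtain ⟨φ, hφ'⟩ := aut_exists hm hF κ κ.ne_zero s lam
      refine ⟨φ, ?_⟩
      have := aut_params_unique hm hF (k φ) κ (hk φ) (σ φ) s (l φ) lam (fun a b => by
        rw [← hφ φ, hφ'])
      simp only [Prod.mk.injEq]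
      exact ⟨Units.ext this.1, this.2.1, this.2.2⟩
  rw [Nat.card_congr (Equiv.ofBijective _ hbij), Nat.card_prod, Nat.card_prod, Nat.card_units,
    Cfsg.Agent.S2126.card_ringHom hF, card_addHom hF, Nat.card_eq_fintype_card, hF]
  ring

/-- the automorphisms acting trivially on the centre -/
noncomputable def KQ (hm : 1 ≤ m) (hF : Fintype.card F = 2 ^ (2 * m + 1)) :
    Subgroup (MulAut (Qs hm hF)) where
  carrier := {φ | ∀ b, φ (tQ hm hF 0 b) = tQ hm hF 0 b}
  mul_mem' := by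
    intro φ ψ hφ hψ b
    rw [MulAut.mul_apply, hψ b, hφ b]
  one_mem' := fun b => rfl
  inv_mem' := by
    intro φ hφ b
    have := hφ b
    calc φ⁻¹ (tQ hm hF 0 b) = φ⁻¹ (φ (tQ hm hF 0 b)) := by rw [this]
      _ = tQ hm hF 0 b := MulAut.inv_apply_self _ φ _

theorem mem_KQ (hm : 1 ≤ m) (hF : Fintype.card F = 2 ^ (2 * m + 1)) (φ : MulAut (Qs hm hF)) :
    φ ∈ KQ hm hF ↔ ∀ b, φ (tQ hm hF 0 b) = tQ hm hF 0 b := Iff.rfl

instance KQ_normal (hm : 1 ≤ m) (hF : Fintype.card F = 2 ^ (2 * m + 1)) : (KQ hm hF).Normal := by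
  constructor
  intro φ hφ ψ b
  obtain ⟨b', hb'⟩ := aut_center hm hF ψ⁻¹ b
  have hb'' : ψ⁻¹ (tQ hm hF 0 b) = tQ hm hF 0 b' := hb'
  rw [MulAut.mul_apply, MulAut.mul_apply, hb'', hφ b', ← hb'', MulAut.apply_inv_self]

/-- elements of `KQ` in coordinates -/
theorem KQ_formula (hm : 1 ≤ m) (hF : Fintype.card F = 2 ^ (2 * m + 1)) (φ : MulAut (Qs hm hF))
    (hφ : φ ∈ KQ hm hF) : ∃ l : F →+ F, ∀ a b, φ (tQ hm hF a b) = tQ hm hF a (l a + b) := by
  obtain ⟨k, σ, l, hk, h⟩ := aut_structure hm hF φ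
  have h1 : ∀ b, th F m k * k * σ b = b := by
    intro b
    have := hφ b
    rw [h] at this
    have h2 := (tQ_inj hm hF this).2
    rwa [map_zero, zero_add] at h2
  have hk1 : k = 1 := by
    apply th_mul_self_inj hF one_ne_zero
    have := h1 1
    rw [map_one, mul_one] at this
    rw [this, map_one, mul_one]
  subst hk1
  have hσ : ∀ b, σ b = b := by
    intro b
    have := h1 b
    rwa [map_one, one_mul, one_mul] at this
  refine ⟨l, fun a b => ?_⟩
  rw [h, hσ, hσ, map_one, one_mul, one_mul, one_mul]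

theorem card_KQ (hm : 1 ≤ m) (hF : Fintype.card F = 2 ^ (2 * m + 1)) :
    Nat.card (KQ hm hF) = 2 ^ ((2 * m + 1) ^ 2) := by
  rw [← card_addHom hF]
  choose l hl using KQ_formula hm hF
  have hbij : Function.Bijective (fun φ : KQ hm hF => l φ.1 φ.2) := by
    constructor
    · intro φ ψ h
      apply Subtype.ext
      apply aut_ext hm hF
      intro a b
      have h' : l φ.1 φ.2 = l ψ.1 ψ.2 := h
      rw [hl φ.1 φ.2, hl ψ.1 ψ.2, h']
    · intro lam
      obtain ⟨φ, hφ'⟩ := aut_exists hm hF 1 one_ne_zero (RingHom.id F) lam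
      have hmem : φ ∈ KQ hm hF := by
        intro b
        rw [hφ']
        simp
      refine ⟨⟨φ, hmem⟩, ?_⟩
      ext a
      have h1 := hl φ hmem a 0
      rw [hφ'] at h1
      have h2 := (tQ_inj hm hF h1).2
      simp at h2
      exact h2.symm
  exact Nat.card_congr (Equiv.ofBijective _ hbij)

theorem KQ_comm (hm : 1 ≤ m) (hF : Fintype.card F = 2 ^ (2 * m + 1)) (φ ψ : MulAut (Qs hm hF))
    (hφ : φ ∈ KQ hm hF) (hψ : ψ ∈ KQ hm hF) : φ * ψ = ψ * φ := by
  obtain ⟨l, hl⟩ := KQ_formula hm hF φ hφ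
  obtain ⟨l', hl'⟩ := KQ_formula hm hF ψ hψ
  apply aut_ext hm hF
  intro a b
  rw [MulAut.mul_apply, MulAut.mul_apply, hl', hl, hl, hl']
  congr 1
  ring

theorem KQ_sq (hm : 1 ≤ m) (hF : Fintype.card F = 2 ^ (2 * m + 1)) (φ : MulAut (Qs hm hF))
    (hφ : φ ∈ KQ hm hF) : φ ^ 2 = 1 := by
  obtain ⟨l, hl⟩ := KQ_formula hm hF φ hφ
  apply aut_ext hm hF
  intro a b
  rw [sq, MulAut.mul_apply, hl, hl, MulAut.one_apply, ← add_assoc, CharTwo.add_self_eq_zero, zero_add]

theorem KQ_index_odd (hm : 1 ≤ m) (hF : Fintype.card F = 2 ^ (2 * m + 1)) :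
    Odd (KQ hm hF).index := by
  have h1 := Subgroup.card_mul_index (KQ hm hF)
  rw [card_KQ hm hF, card_aut_Q hm hF] at h1
  have h2 : (KQ hm hF).index = (2 * m + 1) * (2 ^ (2 * m + 1) - 1) :=
    Nat.eq_of_mul_eq_mul_left (by positivity) h1
  rw [h2]
  apply Odd.mul
  · exact ⟨m, rfl⟩
  · have : 2 ∣ 2 ^ (2 * m + 1) := dvd_pow_self 2 (by omega)
    have hp : 0 < 2 ^ (2 * m + 1) := by positivity
    rw [Nat.odd_iff]
    omega

end autQ

end Cfsg.Agent.helper11.Sz
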