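import Mathlib

set_option autoImplicit false

/-!
Two abstract lemmas on the coset action of a finite group `G` on `G ⧸ H`:
* a parity (handshake) lemma for the suborbit containing the image of an involution,
* a lower bound for the nontrivial suborbits when `H` is simple of order `60` and of prime index.
-/

namespace Cfsg.Agent.helper11.TT

open MulAction

variable {G : Type*} [Group G]

/-- the double coset `H t H` -/
def dcos (H : Subgroup G) (t : G) : Set G := {g | ∃ h ∈ H, ∃ h' ∈ H, g = h * t * h'}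

theorem mk_mem_orbit_iff (H : Subgroup G) (t g : G) :
    (QuotientGroup.mk g : G ⧸ H) ∈ orbit ↥H (t • (QuotientGroup.mk 1 : G ⧸ H)) ↔ g ∈ dcos H t := by
  rw [MulAction.mem_orbit_iff]
  constructor
  · rintro ⟨h, hh⟩
    change ((h : G) • (t • (QuotientGroup.mk 1 : G ⧸ H))) = _ at hh
    rw [smul_smul, MulAction.Quotient.smul_mk, smul_eq_mul, mul_one,
      QuotientGroup.eq] at hh
    refine ⟨h.1, h.2, _, hh, ?_⟩
    group
  · rintro ⟨h, hh, h', hh', rfl⟩
    refine ⟨⟨h, hh⟩, ?_⟩
    change ((h : G) • (t • (QuotientGroup.mk 1 : G ⧸ H))) = _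
    rw [smul_smul, MulAction.Quotient.smul_mk, smul_eq_mul, mul_one,
      QuotientGroup.eq]
    have e : ((h : G) * t)⁻¹ * (h * t * h') = h' := by group
    rw [e]
    exact hh'

theorem dcos_inv (H : Subgroup G) {t : G} (ht : t * t = 1) {g : G} (hg : g ∈ dcos H t) :
    g⁻¹ ∈ dcos H t := by
  obtain ⟨h, hh, h', hh', rfl⟩ := hg
  refine ⟨h'⁻¹, H.inv_mem hh', h⁻¹, H.inv_mem hh, ?_⟩
  have e : t⁻¹ = t := inv_eq_of_mul_eq_one_right ht
  rw [mul_inv_rev, mul_inv_rev, e, mul_assoc]

theorem dcos_mul_left (H : Subgroup G) {t : G} {g k : G} (hk : k ∈ H) (hg : g ∈ dcos H t) :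
    k * g ∈ dcos H t := by
  obtain ⟨h, hh, h', hh', rfl⟩ := hg
  exact ⟨k * h, H.mul_mem hk hh, h', hh', by group⟩

theorem not_mem_of_mem_dcos (H : Subgroup G) {t : G} (htH : t ∉ H) {g : G} (hg : g ∈ dcos H t) :
    g ∉ H := by
  obtain ⟨h, hh, h', hh', rfl⟩ := hg
  intro hm
  apply htH
  have e : t = h⁻¹ * (h * t * h') * h'⁻¹ := by group
  rw [e]
  exact H.mul_mem (H.mul_mem (H.inv_mem hh) hm) (H.inv_mem hh')

/-- Handshake lemma: if `t` is an involution outside `H`, the suborbit of `tH` has even size or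
the number of cosets is even. -/
theorem even_card_mul_orbit [Finite G] (H : Subgroup G) (t : G) (ht : t * t = 1) (htH : t ∉ H) :
    Even (Nat.card (G ⧸ H) *
      (orbit ↥H (t • (QuotientGroup.mk 1 : G ⧸ H))).ncard) := by
  classical
  haveI : Fintype (G ⧸ H) := Fintype.ofFinite _
  obtain ⟨O, hO⟩ : ∃ O : Set (G ⧸ H), O = orbit ↥H (t • (QuotientGroup.mk 1 : G ⧸ H)) := ⟨_, rfl⟩
  rw [← hO]
  have hOmem : ∀ g : G, (QuotientGroup.mk g : G ⧸ H) ∈ O ↔ g ∈ dcos H t := by
    intro g; rw [hO]; exact mk_mem_orbit_iff H t g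
  let Γ : SimpleGraph (G ⧸ H) :=
    { Adj := fun α β => ∃ a b : G, (QuotientGroup.mk a : G ⧸ H) = α ∧
        (QuotientGroup.mk b : G ⧸ H) = β ∧ a⁻¹ * b ∈ dcos H t
      symm := ⟨by
        rintro α β ⟨a, b, ha, hb, hab⟩
        refine ⟨b, a, hb, ha, ?_⟩
        have := dcos_inv H ht hab
        rwa [mul_inv_rev, inv_inv] at this⟩
      loopless := ⟨by
        rintro α ⟨a, b, ha, hb, hab⟩
        have h1 : (QuotientGroup.mk a : G ⧸ H) = QuotientGroup.mk b := by rw [ha, hb]
        rw [QuotientGroup.eq] at h1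
        exact not_mem_of_mem_dcos H htH hab h1⟩ }
  have hnb : ∀ a : G, Γ.neighborSet (QuotientGroup.mk a) = (fun ω => a • ω) '' O := by
    intro a
    ext β
    rw [SimpleGraph.mem_neighborSet]
    constructor
    · rintro ⟨a', b, ha', hb, hab⟩
      rw [QuotientGroup.eq] at ha'
      refine ⟨QuotientGroup.mk (a⁻¹ * b), ?_, ?_⟩
      · rw [hOmem]
        have e : a⁻¹ * b = (a'⁻¹ * a)⁻¹ * (a'⁻¹ * b) := by group
        rw [e]
        exact dcos_mul_left H (H.inv_mem ha') hab
      · show a • (QuotientGroup.mk (a⁻¹ * b) : G ⧸ H) = β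
        rw [MulAction.Quotient.smul_mk, smul_eq_mul, mul_inv_cancel_left, hb]
    · rintro ⟨ω, hω, rfl⟩
      obtain ⟨g, rfl⟩ := QuotientGroup.mk_surjective ω
      rw [hOmem] at hω
      refine ⟨a, a * g, rfl, ?_, ?_⟩
      · show (QuotientGroup.mk (a * g) : G ⧸ H) = a • (QuotientGroup.mk g : G ⧸ H)
        rw [MulAction.Quotient.smul_mk, smul_eq_mul]
      · rwa [inv_mul_cancel_left]
  have hdeg : ∀ v : G ⧸ H, Γ.degree v = O.ncard := by
    intro v
    obtain ⟨a, rfl⟩ := QuotientGroup.mk_surjective v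
    rw [← SimpleGraph.card_neighborSet_eq_degree, ← Nat.card_eq_fintype_card,
      Nat.card_coe_set_eq, hnb a]
    exact Set.ncard_image_of_injective O (MulAction.injective a)
  have hs := Γ.sum_degrees_eq_twice_card_edges
  simp only [hdeg, Finset.sum_const, Finset.card_univ, smul_eq_mul] at hs
  rw [Nat.card_eq_fintype_card, hs]
  exact even_two_mul _

/-- If `H` is simple of order `60` and prime index `11` in the simple group `G`, every suborbit
other than the trivial one has at least five points. -/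
theorem five_le_ncard_orbit [Finite G] [IsSimpleGroup G] (H : Subgroup G)
    (hH60 : Nat.card H = 60) (hHs : IsSimpleGroup H) (hidx : H.index = 11)
    (ω : G ⧸ H) (hω : ω ≠ QuotientGroup.mk 1) :
    5 ≤ (orbit ↥H ω).ncard := by
  classical
  by_contra hlt
  push Not at hlt
  haveI : Finite ↥(orbit ↥H ω) := Subtype.finite
  let φ : ↥H →* Equiv.Perm ↥(orbit ↥H ω) := MulAction.toPermHom ↥H ↥(orbit ↥H ω)
  rcases (MonoidHom.normal_ker φ).eq_bot_or_eq_top with hk | hk
  · -- injective: 60 ∣ k!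
    have hinj : Function.Injective φ := (MonoidHom.ker_eq_bot_iff φ).mp hk
    have hdvd := Subgroup.card_dvd_of_injective φ hinj
    rw [hH60, Nat.card_perm, Nat.card_coe_set_eq] at hdvd
    have h4 : (orbit ↥H ω).ncard ≤ 4 := by omega
    have h24 : Nat.factorial ((orbit ↥H ω).ncard) ∣ Nat.factorial 4 :=
      Nat.factorial_dvd_factorial h4
    have : 60 ∣ Nat.factorial 4 := hdvd.trans h24
    norm_num [Nat.factorial] at this
  · -- H fixes ω
    have hfix : ∀ h : ↥H, h • ω = ω := by
      intro h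
      have h1 : h ∈ φ.ker := by rw [hk]; exact Subgroup.mem_top _
      rw [MonoidHom.mem_ker] at h1
      have h2 := congrArg (fun σ : Equiv.Perm ↥(orbit ↥H ω) =>
        ((σ ⟨ω, MulAction.mem_orbit_self ω⟩ : ↥(orbit ↥H ω)) : G ⧸ H)) h1
      simpa [φ] using h2
    obtain ⟨g, rfl⟩ := QuotientGroup.mk_surjective ω
    have hgH : g ∉ H := by
      intro hg
      apply hω
      rw [QuotientGroup.eq]
      exact H.mul_mem (H.inv_mem hg) H.one_mem
    -- g⁻¹ H g ⊆ H
    have hconj : ∀ h ∈ H, g⁻¹ * h * g ∈ H := by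
      intro h hh
      have h1 := hfix ⟨h⁻¹, H.inv_mem hh⟩
      change ((h⁻¹ : G) • (QuotientGroup.mk g : G ⧸ H)) = _ at h1
      rw [MulAction.Quotient.smul_mk, smul_eq_mul, QuotientGroup.eq] at h1
      have e : (h⁻¹ * g)⁻¹ * g = g⁻¹ * h * g := by group
      rwa [e] at h1
    haveI : Finite ↥H := inferInstance
    have hbij : Function.Surjective (fun h : ↥H => (⟨g⁻¹ * h * g, hconj h h.2⟩ : ↥H)) := by
      apply Finite.surjective_of_injective
      intro a b hab
      have h1 : g⁻¹ * (a : G) * g = g⁻¹ * (b : G) * g := congrArg Subtype.val hab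
      apply Subtype.ext
      have e1 : (a : G) = g * (g⁻¹ * a * g) * g⁻¹ := by group
      have e2 : (b : G) = g * (g⁻¹ * b * g) * g⁻¹ := by group
      rw [e1, e2, h1]
    have hgN : g ∈ Subgroup.normalizer (H : Set G) := by
      rw [Subgroup.mem_normalizer_iff]
      intro h
      constructor
      · intro hh
        obtain ⟨k, hk'⟩ := hbij ⟨h, hh⟩
        have h1 : g⁻¹ * (k : G) * g = h := congrArg Subtype.val hk'
        have e : g * h * g⁻¹ = (k : G) := by rw [← h1]; group
        rw [e]; exact k.2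
      · intro hh
        have := hconj _ hh
        have e : g⁻¹ * (g * h * g⁻¹) * g = h := by group
        rwa [e] at this
    have hle : H ≤ Subgroup.normalizer (H : Set G) := Subgroup.le_normalizer
    have hmul := Subgroup.relIndex_mul_index hle
    rw [hidx] at hmul
    have hp : Nat.Prime 11 := by norm_num
    have hidxN : (Subgroup.normalizer (H : Set G)).index = 1 ∨
        (Subgroup.normalizer (H : Set G)).index = 11 :=
      (Nat.dvd_prime hp).mp (Dvd.intro_left _ hmul)
    rcases hidxN with h1 | h11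
    · rw [Subgroup.index_eq_one, Subgroup.normalizer_eq_top_iff] at h1
      rcases h1.eq_bot_or_eq_top with hb | ht
      · rw [hb] at hH60
        simp at hH60
      · rw [ht] at hidx
        simp at hidx
    · rw [h11] at hmul
      have h1 : H.relIndex (Subgroup.normalizer (H : Set G)) = 1 := by omega
      rw [Subgroup.relIndex_eq_one] at h1
      exact hgH (h1 hgN)

/-- Under the hypotheses above, if moreover `t` is an involution outside `H`, then `H` is
transitive on the cosets different from `H`. -/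
theorem exists_smul_eq [Finite G] [IsSimpleGroup G] (H : Subgroup G)
    (hH60 : Nat.card H = 60) (hHs : IsSimpleGroup H) (hidx : H.index = 11)
    (t : G) (ht : t * t = 1) (htH : t ∉ H)
    (ω₁ ω₂ : G ⧸ H) (h₁ : ω₁ ≠ QuotientGroup.mk 1) (h₂ : ω₂ ≠ QuotientGroup.mk 1) :
    ∃ h : ↥H, h • ω₁ = ω₂ := by
  classical
  have hcardΩ : Nat.card (G ⧸ H) = 11 := by rw [← hidx]; rfl
  obtain ⟨ω₀, hω₀⟩ : ∃ ω₀ : G ⧸ H, ω₀ = QuotientGroup.mk 1 := ⟨_, rfl⟩
  have hfix0 : ∀ h : ↥H, h • ω₀ = ω₀ := by
    intro h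
    rw [hω₀]
    change ((h : G) • (QuotientGroup.mk 1 : G ⧸ H)) = _
    rw [MulAction.Quotient.smul_mk, smul_eq_mul, mul_one, QuotientGroup.eq, mul_one]
    exact H.inv_mem h.2
  have htω : t • ω₀ ≠ ω₀ := by
    rw [hω₀, MulAction.Quotient.smul_mk, smul_eq_mul, mul_one]
    intro h
    rw [QuotientGroup.eq] at h
    apply htH
    have := H.inv_mem h
    simpa using this
  obtain ⟨O, hO⟩ : ∃ O : Set (G ⧸ H), O = orbit ↥H (t • ω₀) := ⟨_, rfl⟩
  have hO5 : 5 ≤ O.ncard := by
    rw [hO]; exact five_le_ncard_orbit H hH60 hHs hidx _ (by rw [← hω₀]; exact htω)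
  have hOeven : Even (11 * O.ncard) := by
    have := even_card_mul_orbit H t ht htH
    rw [hcardΩ, ← hω₀, ← hO] at this
    exact this
  have hOdvd : O.ncard ∣ 60 := by
    have h1 := MulAction.index_stabilizer ↥H (t • ω₀)
    have h2 := Subgroup.index_dvd_card (MulAction.stabilizer ↥H (t • ω₀))
    rw [h1, hH60, ← hO] at h2
    exact h2
  -- ω₀ ∉ any orbit of a point ≠ ω₀
  have hnot0 : ∀ ω : G ⧸ H, ω ≠ ω₀ → ω₀ ∉ orbit ↥H ω := by
    intro ω hω hmem
    rw [MulAction.mem_orbit_iff] at hmem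
    obtain ⟨h, hh⟩ := hmem
    apply hω
    have e : ω = h⁻¹ • ω₀ := by rw [← hh, smul_smul, inv_mul_cancel, one_smul]
    rw [e, hfix0]
  have hO6 : 6 ≤ O.ncard := by
    rcases Nat.lt_or_ge O.ncard 6 with h | h
    · exfalso
      have h5 : O.ncard = 5 := by omega
      rw [h5] at hOeven
      revert hOeven; decide
    · exact h
  -- every ω ≠ ω₀ lies in O
  have hall : ∀ ω : G ⧸ H, ω ≠ ω₀ → ω ∈ O := by
    intro ω hω
    by_contra hωO
    have h5 := five_le_ncard_orbit H hH60 hHs hidx ω (by rw [← hω₀]; exact hω)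
    have hdisj : Disjoint (orbit ↥H ω) (insert ω₀ O) := by
      rw [Set.disjoint_left]
      intro x hx hx'
      rcases hx' with rfl | hxO
      · exact hnot0 ω hω hx
      · rw [hO] at hxO
        have e1 : orbit ↥H x = orbit ↥H ω := MulAction.orbit_eq_iff.mpr hx
        have e2 : orbit ↥H x = orbit ↥H (t • ω₀) := MulAction.orbit_eq_iff.mpr hxO
        apply hωO
        rw [hO, ← e2, e1]
        exact MulAction.mem_orbit_self ω
    have hun : (orbit ↥H ω ∪ insert ω₀ O).ncard ≤ 11 := by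
      rw [← hcardΩ, ← Set.ncard_univ]
      exact Set.ncard_le_ncard (Set.subset_univ _)
    rw [Set.ncard_union_eq hdisj] at hun
    have h0O : ω₀ ∉ O := by
      rw [hO]; exact hnot0 _ htω
    rw [Set.ncard_insert_of_notMem h0O] at hun
    omega
  have m1 := hall ω₁ (by rw [hω₀]; exact h₁)
  have m2 := hall ω₂ (by rw [hω₀]; exact h₂)
  rw [hO] at m1 m2
  have e1 : orbit ↥H ω₁ = orbit ↥H (t • ω₀) := MulAction.orbit_eq_iff.mpr m1
  have e2 : orbit ↥H ω₂ = orbit ↥H (t • ω₀) := MulAction.orbit_eq_iff.mpr m2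
  have : ω₂ ∈ orbit ↥H ω₁ := by rw [e1, ← e2]; exact MulAction.mem_orbit_self ω₂
  rw [MulAction.mem_orbit_iff] at this
  exact this

/-- A simple group of even order has an involution outside any proper subgroup. -/
theorem exists_involution_not_mem [Finite G] [IsSimpleGroup G] (H : Subgroup G) (hH : H ≠ ⊤)
    (h2 : 2 ∣ Nat.card G) : ∃ t : G, t * t = 1 ∧ t ∉ H := by
  classical
  haveI : Fact (Nat.Prime 2) := ⟨Nat.prime_two⟩
  obtain ⟨t, ht⟩ := exists_prime_orderOf_dvd_card' (G := G) 2 h2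
  have ht2 : t * t = 1 := by
    rw [← pow_two, ← ht]; exact pow_orderOf_eq_one t
  have ht1 : t ≠ 1 := by
    rintro rfl
    rw [orderOf_one] at ht
    omega
  have hcore : H.normalCore = ⊥ := by
    rcases (Subgroup.normalCore_normal H).eq_bot_or_eq_top with h | h
    · exact h
    · exfalso
      apply hH
      rw [eq_top_iff, ← h]
      exact Subgroup.normalCore_le H
  by_contra hcon
  push Not at hcon
  apply ht1
  have hmem : t ∈ H.normalCore := by
    intro b
    apply hcon
    have e : b * t * b⁻¹ * (b * t * b⁻¹) = b * (t * t) * b⁻¹ := by group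
    rw [e, ht2, mul_one, mul_inv_cancel]
  rw [hcore] at hmem
  exact Subgroup.mem_bot.mp hmem

/-- The coset action of a simple group on the cosets of a simple subgroup of order `60` and
index `11` is `2`-transitive as soon as there is an involution outside the subgroup. -/
theorem two_pretransitive_of [Finite G] [IsSimpleGroup G] (H : Subgroup G)
    (hH60 : Nat.card H = 60) (hHs : IsSimpleGroup H) (hidx : H.index = 11)
    (t : G) (ht : t * t = 1) (htH : t ∉ H) :
    MulAction.IsMultiplyPretransitive G (G ⧸ H) 2 := by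
  rw [MulAction.is_two_pretransitive_iff]
  intro a b c d hab hcd
  obtain ⟨g₁, rfl⟩ := QuotientGroup.mk_surjective a
  obtain ⟨g₂, rfl⟩ := QuotientGroup.mk_surjective c
  have e1 : g₁⁻¹ • (QuotientGroup.mk g₁ : G ⧸ H) = QuotientGroup.mk 1 := by
    rw [MulAction.Quotient.smul_mk, smul_eq_mul, inv_mul_cancel]
  have e2 : g₂⁻¹ • (QuotientGroup.mk g₂ : G ⧸ H) = QuotientGroup.mk 1 := by
    rw [MulAction.Quotient.smul_mk, smul_eq_mul, inv_mul_cancel]
  have hb : g₁⁻¹ • b ≠ QuotientGroup.mk 1 := by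
    intro h
    apply hab
    rw [← e1] at h
    exact (MulAction.injective g₁⁻¹ h).symm
  have hd : g₂⁻¹ • d ≠ QuotientGroup.mk 1 := by
    intro h
    apply hcd
    rw [← e2] at h
    exact (MulAction.injective g₂⁻¹ h).symm
  obtain ⟨h, hh⟩ := exists_smul_eq H hH60 hHs hidx t ht htH _ _ hb hd
  have hh' : (h : G) • (g₁⁻¹ • b) = g₂⁻¹ • d := hh
  have hfix : (h : G) • (QuotientGroup.mk 1 : G ⧸ H) = QuotientGroup.mk 1 := by
    rw [MulAction.Quotient.smul_mk, smul_eq_mul, mul_one, QuotientGroup.eq, mul_one]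
    exact H.inv_mem h.2
  refine ⟨g₂ * (h : G) * g₁⁻¹, ?_, ?_⟩
  · rw [mul_smul, mul_smul, e1, hfix, ← e2, smul_smul, mul_inv_cancel, one_smul]
  · rw [mul_smul, mul_smul, hh', smul_smul, mul_inv_cancel, one_smul]

end Cfsg.Agent.helper11.TT
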