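import Mathlib
import Cfsg.Agent.Lib_helper18_Derangement

set_option autoImplicit false

namespace Cfsg.Agent.helper11.ZCount

open MulAction

variable {G Ω : Type*} [Group G] [MulAction G Ω]

/-- a 2-transitive action has exactly two orbits on ordered pairs -/
theorem card_orbits_prod (h2 : IsMultiplyPretransitive G Ω 2) {a b : Ω} (hab : a ≠ b) :
    Nat.card (orbitRel.Quotient G (Ω × Ω)) = 2 := by
  classical
  have h2' : ∀ {a b c d : Ω}, a ≠ b → c ≠ d → ∃ g : G, g • a = c ∧ g • b = d :=
    is_two_pretransitive_iff.mp h2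
  haveI : IsPretransitive G Ω := isPretransitive_of_is_two_pretransitive
  have hwd : ∀ p p' : Ω × Ω, (orbitRel G (Ω × Ω)) p p' →
      decide (p.1 = p.2) = decide (p'.1 = p'.2) := by
    intro p p' hpp'
    rw [orbitRel_apply, mem_orbit_iff] at hpp'
    obtain ⟨g, hg⟩ := hpp'
    rw [← hg]
    apply decide_eq_decide.mpr
    constructor
    · intro h
      exact smul_left_cancel g h
    · intro h
      show g • p'.1 = g • p'.2
      rw [h]
  let f : orbitRel.Quotient G (Ω × Ω) → Bool :=
    Quotient.lift (fun p : Ω × Ω => decide (p.1 = p.2)) hwd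
  have hf : Function.Bijective f := by
    constructor
    · intro q q'
      induction q using Quotient.inductionOn' with
      | h p =>
        induction q' using Quotient.inductionOn' with
        | h p' =>
          intro h
          have h' : decide (p.1 = p.2) = decide (p'.1 = p'.2) := h
          apply Quotient.sound'
          show (orbitRel G (Ω × Ω)) p p'
          rw [orbitRel_apply, mem_orbit_iff]
          by_cases hp : p.1 = p.2
          · have hp' : p'.1 = p'.2 := by
              have := decide_eq_decide.mp h'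
              exact this.mp hp
            obtain ⟨g, hg⟩ := MulAction.exists_smul_eq G p'.1 p.1
            refine ⟨g, ?_⟩
            apply Prod.ext
            · exact hg
            · show g • p'.2 = p.2
              rw [← hp', hg, hp]
          · have hp' : p'.1 ≠ p'.2 := by
              intro h''
              exact hp ((decide_eq_decide.mp h').mpr h'')
            obtain ⟨g, hg1, hg2⟩ := h2' hp' hp
            exact ⟨g, Prod.ext hg1 hg2⟩
    · intro bb
      cases bb with
      | false =>
        refine ⟨Quotient.mk'' (a, b), ?_⟩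
        show decide (a = b) = false
        exact decide_eq_false hab
      | true =>
        refine ⟨Quotient.mk'' (a, a), ?_⟩
        show decide (a = a) = true
        exact decide_eq_true rfl
  rw [Nat.card_congr (Equiv.ofBijective f hf), Nat.card_eq_fintype_card, Fintype.card_bool]

/-- transitive action: one orbit -/
theorem card_orbits_one [IsPretransitive G Ω] [Nonempty Ω] :
    Nat.card (orbitRel.Quotient G Ω) = 1 := by
  rw [Nat.card_eq_one_iff_unique]
  refine ⟨(pretransitive_iff_subsingleton_quotient G Ω).mp inferInstance, ?_⟩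
  obtain ⟨x⟩ := ‹Nonempty Ω›
  exact ⟨Quotient.mk'' x⟩

/-- fibre-wise evaluation of a sum of `φ ∘ fx` when `fx ≤ 2` on `S` -/
theorem sum_fiber {ι : Type*} [DecidableEq ι] (S : Finset ι) (fx : ι → ℕ) (hle : ∀ g ∈ S, fx g ≤ 2)
    (φ : ℕ → ℕ) :
    ∑ g ∈ S, φ (fx g) = φ 0 * (S.filter (fun g => fx g = 0)).card +
      φ 1 * (S.filter (fun g => fx g = 1)).card + φ 2 * (S.filter (fun g => fx g = 2)).card := by
  have hmaps : ∀ g ∈ S, fx g ∈ Finset.range 3 := by
    intro g hg
    rw [Finset.mem_range]
    have := hle g hg
    omega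
  rw [← Finset.sum_fiberwise_of_maps_to hmaps (fun g => φ (fx g))]
  have hin : ∀ i : ℕ, ∑ g ∈ S with fx g = i, φ (fx g) = φ i * (S.filter (fun g => fx g = i)).card := by
    intro i
    rw [Finset.sum_congr rfl (g := fun _ => φ i)]
    · rw [Finset.sum_const, smul_eq_mul, mul_comm]
    · intro g hg
      rw [(Finset.mem_filter.mp hg).2]
  rw [Finset.sum_range_succ, Finset.sum_range_succ, Finset.sum_range_one, hin, hin, hin]

/-- order of a 2-transitive group via the two-point stabiliser -/
theorem card_eq [Finite G] [Fintype Ω] (h2 : IsMultiplyPretransitive G Ω 2) {a b : Ω} (hab : a ≠ b) :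
    Nat.card G = Nat.card ↥(stabilizer G a ⊓ stabilizer G b : Subgroup G) *
      (Fintype.card Ω * Fintype.card Ω - Fintype.card Ω) := by
  classical
  have h2' : ∀ {a b c d : Ω}, a ≠ b → c ≠ d → ∃ g : G, g • a = c ∧ g • b = d :=
    is_two_pretransitive_iff.mp h2
  have hst : stabilizer G ((a, b) : Ω × Ω) = stabilizer G a ⊓ stabilizer G b := by
    ext g
    rw [mem_stabilizer_iff, Subgroup.mem_inf, mem_stabilizer_iff, mem_stabilizer_iff]
    constructor
    · intro h
      exact ⟨congrArg Prod.fst h, congrArg Prod.snd h⟩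
    · rintro ⟨h1, h2⟩
      exact Prod.ext h1 h2
  have horb : orbit G ((a, b) : Ω × Ω) = {p : Ω × Ω | p.1 ≠ p.2} := by
    ext p
    rw [mem_orbit_iff, Set.mem_setOf_eq]
    constructor
    · rintro ⟨g, rfl⟩
      intro h
      exact hab (smul_left_cancel g h)
    · intro hp
      obtain ⟨g, hg1, hg2⟩ := h2' hab hp
      exact ⟨g, Prod.ext hg1 hg2⟩
  have hidx := MulAction.index_stabilizer G ((a, b) : Ω × Ω)
  rw [hst, horb] at hidx
  have hcard : ({p : Ω × Ω | p.1 ≠ p.2} : Set (Ω × Ω)).ncard =
      Fintype.card Ω * Fintype.card Ω - Fintype.card Ω := by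
    have h1 : ({p : Ω × Ω | p.1 ≠ p.2} : Set (Ω × Ω)) = ((Finset.univ : Finset Ω).offDiag : Set (Ω × Ω)) := by
      ext p
      simp [Finset.mem_offDiag]
    rw [h1, Set.ncard_coe_finset, Finset.offDiag_card, Finset.card_univ]
  rw [hcard] at hidx
  rw [← hidx]
  exact (Subgroup.card_mul_index _).symm

end Cfsg.Agent.helper11.ZCount
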