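import Mathlib

set_option autoImplicit false

namespace Cfsg.Agent.helper11.ZInv

/-- a subgroup containing a Sylow `r`-subgroup for every prime `r` dividing its index is everything -/
theorem eq_top_of_sylow_le {E : Type*} [Group E] [Finite E] (K : Subgroup E)
    (h : ∀ r : ℕ, ∀ _hr : Fact r.Prime, r ∣ K.index → ∃ P : Sylow r E, (P : Subgroup E) ≤ K) :
    K = ⊤ := by
  by_contra hne
  have h1 : K.index ≠ 1 := fun h1 => hne (Subgroup.index_eq_one.mp h1)
  obtain ⟨r, hr, hrd⟩ := Nat.exists_prime_and_dvd h1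
  have : Fact r.Prime := ⟨hr⟩
  obtain ⟨P, hP⟩ := h r ⟨hr⟩ hrd
  exact P.not_dvd_index (hrd.trans (Subgroup.index_dvd_of_le hP))

/-- an element normalising but not centralising a cyclic group `P` of odd prime power order, whose
square centralises `P`, inverts `P` -/
theorem inverts_of_cyclic {G : Type*} [Group G] (P : Subgroup G) [IsCyclic ↥P] (q m : ℕ)
    (hq : q.Prime) (hq2 : q ≠ 2) (hcard : Nat.card ↥P = q ^ m) (g : G)
    (hgn : ∀ y ∈ P, g * y * g⁻¹ ∈ P)
    (hg2 : ∀ y ∈ P, (g * g) * y * (g * g)⁻¹ = y) (hgc : ∃ y ∈ P, g * y * g⁻¹ ≠ y) :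
    ∀ y ∈ P, g * y * g⁻¹ = y⁻¹ := by
  obtain ⟨y₀, hy₀⟩ := IsCyclic.exists_generator (α := ↥P)
  obtain ⟨z, hz⟩ : ∃ z : G, z = (y₀ : G) := ⟨_, rfl⟩
  have hzP : z ∈ P := by rw [hz]; exact y₀.2
  have hgen : ∀ y ∈ P, ∃ l : ℤ, y = z ^ l := by
    intro y hy
    obtain ⟨l, hl⟩ := Subgroup.mem_zpowers_iff.mp (hy₀ ⟨y, hy⟩)
    refine ⟨l, ?_⟩
    have h := congrArg (Subtype.val) hl
    rw [hz]
    rw [Subgroup.coe_zpow] at h
    exact h.symm
  have hord : orderOf z = q ^ m := by
    rw [hz, Subgroup.orderOf_coe, orderOf_eq_card_of_forall_mem_zpowers hy₀, hcard]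
  obtain ⟨k, hk⟩ := hgen _ (hgn z hzP)
  have hconj : ∀ l : ℤ, g * z ^ l * g⁻¹ = (z ^ k) ^ l := by
    intro l
    rw [← hk, conj_zpow]
  have h2 : z ^ (k * k) = z := by
    have h := hg2 z hzP
    have h' : (g * g) * z * (g * g)⁻¹ = g * (g * z * g⁻¹) * g⁻¹ := by group
    rw [h', hk, hconj k, ← zpow_mul] at h
    exact h
  have h3 : z ^ (k * k - 1) = 1 := by
    rw [zpow_sub, h2, zpow_one, mul_inv_cancel]
  have h4 : ((q ^ m : ℕ) : ℤ) ∣ (k - 1) * (k + 1) := by
    rw [← hord]
    have : (k - 1) * (k + 1) = k * k - 1 := by ring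
    rw [this]
    exact orderOf_dvd_iff_zpow_eq_one.mpr h3
  have hqZ : Prime (q : ℤ) := Nat.prime_iff_prime_int.mp hq
  have hinvz : z ^ k = z⁻¹ := by
    by_cases hd : (q : ℤ) ∣ k - 1
    · exfalso
      have hnd : ¬ (q : ℤ) ∣ k + 1 := by
        intro hd'
        have h2' : (q : ℤ) ∣ ((2 : ℕ) : ℤ) := by
          have := dvd_sub hd' hd
          have e : k + 1 - (k - 1) = ((2 : ℕ) : ℤ) := by push_cast; ring
          rwa [e] at this
        have h2'' : q ∣ 2 := Int.natCast_dvd_natCast.mp h2'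
        have := (Nat.prime_dvd_prime_iff_eq hq Nat.prime_two).mp h2''
        exact hq2 this
      have hcop : IsCoprime ((q ^ m : ℕ) : ℤ) (k + 1) := by
        push_cast
        exact IsCoprime.pow_left (hqZ.irreducible.coprime_iff_not_dvd.mpr hnd)
      have h5 : ((q ^ m : ℕ) : ℤ) ∣ k - 1 := hcop.dvd_of_dvd_mul_right h4
      rw [← hord] at h5
      have h6 : z ^ (k - 1) = 1 := orderOf_dvd_iff_zpow_eq_one.mp h5
      have h7 : z ^ k = z := by
        have : z ^ k = z ^ (k - 1) * z := by rw [← zpow_add_one]; congr 1; ring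
        rw [this, h6, one_mul]
      obtain ⟨y, hy, hne⟩ := hgc
      obtain ⟨l, hl⟩ := hgen y hy
      apply hne
      rw [hl, hconj l, h7]
    · have hcop : IsCoprime ((q ^ m : ℕ) : ℤ) (k - 1) := by
        push_cast
        exact IsCoprime.pow_left (hqZ.irreducible.coprime_iff_not_dvd.mpr hd)
      have h5 : ((q ^ m : ℕ) : ℤ) ∣ k + 1 := hcop.dvd_of_dvd_mul_left h4
      rw [← hord] at h5
      have h6 : z ^ (k + 1) = 1 := orderOf_dvd_iff_zpow_eq_one.mp h5
      rw [zpow_add_one] at h6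
      exact eq_inv_of_mul_eq_one_left h6
  intro y hy
  obtain ⟨l, hl⟩ := hgen y hy
  rw [hl, hconj l, hinvz, inv_zpow]

/-- an element of odd order commutes with everything its square commutes with -/
theorem commute_of_sq {E : Type*} [Group E] [Finite E] (hodd : Odd (Nat.card E)) (y c : E)
    (h : Commute (y ^ 2) c) : Commute y c := by
  have ho : Odd (orderOf y) := Odd.of_dvd_nat hodd (orderOf_dvd_natCard y)
  obtain ⟨t, ht⟩ := ho
  have hy : (y ^ 2) ^ (t + 1) = y := by
    rw [← pow_mul]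
    have : 2 * (t + 1) = orderOf y + 1 := by omega
    rw [this, pow_succ, pow_orderOf_eq_one, one_mul]
  rw [← hy]
  exact h.pow_left _

/-- Phase 1: a Z-group of odd order in which every Sylow subgroup central in its normaliser is
inverted by some automorphism is abelian -/
theorem comm_of_inverting {E : Type*} [Group E] [Finite E] [IsZGroup E] (hodd : Odd (Nat.card E))
    (H : ∀ r : ℕ, ∀ _hr : Fact r.Prime, r ∣ Nat.card E → ∀ P : Sylow r E,
      Subgroup.normalizer ((P : Subgroup E) : Set E) ≤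
        Subgroup.centralizer ((P : Subgroup E) : Set E) →
      ∃ σ : E ≃* E, ∀ y ∈ (P : Subgroup E), σ y = y⁻¹) :
    ∀ x y : E, x * y = y * x := by
  classical
  obtain ⟨C, hC⟩ : ∃ C : Subgroup E, C = commutator E := ⟨_, rfl⟩
  have hCn : C.Normal := by rw [hC]; infer_instance
  have hCc : IsCyclic ↥C := by rw [hC]; exact IsZGroup.isCyclic_commutator E
  have hcop : (Nat.card ↥C).Coprime C.index := by
    rw [hC]; exact IsZGroup.coprime_commutator_index E
  have hCchar : C.Characteristic := by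
    rw [hC, commutator_def]; infer_instance
  have hchar : ∀ σ : E ≃* E, ∀ c ∈ C, σ c ∈ C := by
    intro σ c hc
    have h := (Subgroup.characteristic_iff_map_le.mp hCchar) σ
    exact h (Subgroup.mem_map_of_mem _ hc)
  obtain ⟨c₀, hc₀⟩ := IsCyclic.exists_generator (α := ↥C)
  obtain ⟨z, hz⟩ : ∃ z : E, z = (c₀ : E) := ⟨_, rfl⟩
  have hzC : z ∈ C := by rw [hz]; exact c₀.2
  have hgen : ∀ c ∈ C, ∃ l : ℤ, c = z ^ l := by
    intro c hc
    obtain ⟨l, hl⟩ := Subgroup.mem_zpowers_iff.mp (hc₀ ⟨c, hc⟩)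
    refine ⟨l, ?_⟩
    have h := congrArg (Subtype.val) hl
    rw [hz]
    rw [Subgroup.coe_zpow] at h
    exact h.symm
  have hCcomm : ∀ c ∈ C, ∀ c' ∈ C, c * c' = c' * c := by
    intro c hc c' hc'
    obtain ⟨l, hl⟩ := hgen c hc
    obtain ⟨l', hl'⟩ := hgen c' hc'
    rw [hl, hl', ← zpow_add, ← zpow_add, add_comm]
  have hK : Subgroup.centralizer (C : Set E) = ⊤ := by
    apply eq_top_of_sylow_le
    intro r hr hrd
    have hCle : C ≤ Subgroup.centralizer (C : Set E) := by
      intro c hc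
      rw [Subgroup.mem_centralizer_iff]
      intro c' hc'
      exact hCcomm c' hc' c hc
    have hrC : r ∣ C.index := hrd.trans (Subgroup.index_dvd_of_le hCle)
    have hrnC : ¬ r ∣ Nat.card ↥C := by
      intro h
      have := Nat.eq_one_of_dvd_coprimes hcop h hrC
      exact hr.out.one_lt.ne' this
    obtain ⟨P⟩ : Nonempty (Sylow r E) := inferInstance
    refine ⟨P, ?_⟩
    have hPC : ∀ x ∈ (P : Subgroup E), x ∈ C → x = 1 := by
      intro x hxP hxC
      obtain ⟨k, hk⟩ := (P.2 ⟨x, hxP⟩)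
      have hk' : x ^ r ^ k = 1 := by
        have := congrArg Subtype.val hk
        simpa using this
      have h1 : orderOf x ∣ r ^ k := orderOf_dvd_of_pow_eq_one hk'
      have h2 : orderOf x ∣ Nat.card ↥C := by
        have : orderOf (⟨x, hxC⟩ : ↥C) ∣ Nat.card ↥C := orderOf_dvd_natCard _
        rwa [Subgroup.orderOf_mk] at this
      have h3 : (r ^ k).Coprime (Nat.card ↥C) :=
        Nat.Coprime.pow_left k ((Nat.Prime.coprime_iff_not_dvd hr.out).mpr hrnC)
      have h4 : orderOf x = 1 := Nat.eq_one_of_dvd_coprimes h3 h1 h2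
      exact orderOf_eq_one_iff.mp h4
    have hNC : Subgroup.normalizer ((P : Subgroup E) : Set E) ≤
        Subgroup.centralizer ((P : Subgroup E) : Set E) := by
      intro x hx
      rw [Subgroup.mem_centralizer_iff]
      intro y hy
      have hy' : y ∈ (P : Subgroup E) := hy
      have h1 : x * y * x⁻¹ ∈ (P : Subgroup E) := (Subgroup.mem_normalizer_iff.mp hx y).mp hy'
      have h2 : x * y * x⁻¹ * y⁻¹ ∈ (P : Subgroup E) :=
        (P : Subgroup E).mul_mem h1 ((P : Subgroup E).inv_mem hy')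
      have h3 : x * y * x⁻¹ * y⁻¹ ∈ C := by
        rw [hC, commutator_def]
        exact Subgroup.commutator_mem_commutator (Subgroup.mem_top x) (Subgroup.mem_top y)
      have h4 := hPC _ h2 h3
      calc y * x = (x * y * x⁻¹ * y⁻¹)⁻¹ * (x * y) := by group
        _ = x * y := by rw [h4, inv_one, one_mul]
    obtain ⟨σ, hσ⟩ := H r hr (hrC.trans (Subgroup.index_dvd_card C)) P hNC
    intro y hy
    rw [Subgroup.mem_centralizer_iff]
    intro c hc
    have hcC : c ∈ C := hc
    -- exponents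
    obtain ⟨i, hi⟩ := hgen _ (hCn.conj_mem z hzC y)
    obtain ⟨j, hj⟩ := hgen _ (hchar σ z hzC)
    obtain ⟨l, hl⟩ := hgen _ (hchar σ.symm c hcC)
    have hcl : c = σ (z ^ l) := by rw [← hl]; simp
    have hconj : ∀ n : ℤ, y * z ^ n * y⁻¹ = (z ^ i) ^ n := by
      intro n; rw [← hi, conj_zpow]
    have e1 : y * σ (z ^ l) * y⁻¹ = z ^ (i * (j * l)) := by
      rw [map_zpow, hj, ← zpow_mul, hconj, ← zpow_mul]
    have e2 : σ (y * z ^ l * y⁻¹) = z ^ (j * (i * l)) := by
      rw [hconj, ← zpow_mul, map_zpow, hj, ← zpow_mul]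
    have e3 : σ (y * z ^ l * y⁻¹) = y⁻¹ * σ (z ^ l) * y := by
      rw [map_mul, map_mul, map_inv, hσ y hy, inv_inv]
    have e4 : y * c * y⁻¹ = y⁻¹ * c * y := by
      rw [hcl, e1, ← e3, e2]
      congr 1; ring
    have hcomm2 : Commute (y ^ 2) c := by
      show y ^ 2 * c = c * y ^ 2
      rw [pow_two]
      calc y * y * c = y * (y * c * y⁻¹) * y := by simp only [mul_assoc, inv_mul_cancel, mul_one]
        _ = y * (y⁻¹ * c * y) * y := by rw [e4]
        _ = c * (y * y) := by simp only [mul_assoc, mul_inv_cancel_left]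
    exact (commute_of_sq hodd y c hcomm2).eq.symm
  have hcen : commutator E ≤ Subgroup.center E := by
    rw [← hC]
    intro c hc
    rw [Subgroup.mem_center_iff]
    intro x
    have hx : x ∈ Subgroup.centralizer (C : Set E) := by rw [hK]; exact Subgroup.mem_top x
    exact (Subgroup.mem_centralizer_iff.mp hx c hc).symm
  intro x y
  have hmc : IsMulCommutative E :=
    MonoidHom.isMulCommutative_of_isCyclic_of_ker_le_center (Abelianization.of (G := E))
      (by rw [Abelianization.ker_of]; exact hcen)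
  exact hmc.is_comm.comm x y

/-- Phase 2: an automorphism of a finite abelian group inverting a Sylow subgroup for every prime
inverts everything -/
theorem inverts_all {E : Type*} [Group E] [Finite E] (hcomm : ∀ x y : E, x * y = y * x)
    (σ : E ≃* E)
    (H : ∀ r : ℕ, ∀ _hr : Fact r.Prime, r ∣ Nat.card E →
      ∃ P : Sylow r E, ∀ y ∈ (P : Subgroup E), σ y = y⁻¹) :
    ∀ x : E, σ x = x⁻¹ := by
  obtain ⟨I, hI⟩ : ∃ I : Subgroup E, ∀ x : E, x ∈ I ↔ σ x = x⁻¹ := by
    refine ⟨{ carrier := {x | σ x = x⁻¹}, mul_mem' := ?_, one_mem' := ?_, inv_mem' := ?_ }, ?_⟩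
    · intro x y hx hy
      show σ (x * y) = (x * y)⁻¹
      have hx' : σ x = x⁻¹ := hx
      have hy' : σ y = y⁻¹ := hy
      rw [map_mul, hx', hy', mul_inv_rev, hcomm]
    · show σ 1 = 1⁻¹
      rw [map_one, inv_one]
    · intro x hx
      have hx' : σ x = x⁻¹ := hx
      show σ x⁻¹ = x⁻¹⁻¹
      rw [map_inv, hx']
    · intro x; rfl
  have htop : I = ⊤ := by
    apply eq_top_of_sylow_le
    intro r hr hrd
    obtain ⟨P, hP⟩ := H r hr (hrd.trans (Subgroup.index_dvd_card I))
    exact ⟨P, fun y hy => (hI y).mpr (hP y hy)⟩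
  intro x
  exact (hI x).mp (by rw [htop]; exact Subgroup.mem_top x)

/-- conjugation by an element normalising `Q` (with its inverse) as an automorphism of `Q` -/
def conjAut {G : Type*} [Group G] (Q : Subgroup G) (h : G)
    (h1 : ∀ x ∈ Q, h * x * h⁻¹ ∈ Q) (h2 : ∀ x ∈ Q, h⁻¹ * x * h ∈ Q) : ↥Q ≃* ↥Q where
  toFun q := ⟨h * q * h⁻¹, h1 q q.2⟩
  invFun q := ⟨h⁻¹ * q * h, h2 q q.2⟩
  left_inv q := by
    apply Subtype.ext
    show h⁻¹ * (h * q * h⁻¹) * h = q
    group
  right_inv q := by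
    apply Subtype.ext
    show h * (h⁻¹ * q * h) * h⁻¹ = q
    group
  map_mul' q r := by
    apply Subtype.ext
    show h * (q * r) * h⁻¹ = (h * q * h⁻¹) * (h * r * h⁻¹)
    group

end Cfsg.Agent.helper11.ZInv
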