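import Mathlib
import Cfsg.Agent.S0035
import Cfsg.Agent.S0039
import Cfsg.Agent.S0040
import Cfsg.Agent.Lib_helper11_ZCount
import Cfsg.Agent.Lib_helper11_ZInvA

set_option autoImplicit false

namespace Cfsg.Agent.helper11.ZInv

open MulAction

section
variable {G Ω : Type*} [Group G] [MulAction G Ω]

/-- fixed points of a nonidentity element of `G_a ∩ G_b` -/
theorem fix_cases
    (h3 : ∀ g : G, ∀ a b c : Ω, a ≠ b → b ≠ c → a ≠ c → g • a = a → g • b = b → g • c = c → g = 1)
    {a b : Ω} (hab : a ≠ b) (h : G) (hE : h ∈ stabilizer G a ⊓ stabilizer G b) (h1 : h ≠ 1)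
    (x : Ω) (hx : h • x = x) : x = a ∨ x = b := by
  by_contra hcon
  push Not at hcon
  obtain ⟨hE1, hE2⟩ := Subgroup.mem_inf.mp hE
  exact h1 (h3 h a b x hab (Ne.symm hcon.2) (Ne.symm hcon.1) (mem_stabilizer_iff.mp hE1)
    (mem_stabilizer_iff.mp hE2) hx)

/-- an element conjugating a nonidentity element of `G_a ∩ G_b` into `G_a ∩ G_b` fixes or swaps
`a, b` -/
theorem pair_cases
    (h3 : ∀ g : G, ∀ a b c : Ω, a ≠ b → b ≠ c → a ≠ c → g • a = a → g • b = b → g • c = c → g = 1)
    {a b : Ω} (hab : a ≠ b) (g y : G) (hy : y ∈ stabilizer G a ⊓ stabilizer G b) (hy1 : y ≠ 1)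
    (hgy : g * y * g⁻¹ ∈ stabilizer G a ⊓ stabilizer G b) :
    (g • a = a ∧ g • b = b) ∨ (g • a = b ∧ g • b = a) := by
  have hne : g * y * g⁻¹ ≠ 1 := by
    intro h; apply hy1
    calc y = g⁻¹ * (g * y * g⁻¹) * g := by group
      _ = 1 := by rw [h]; group
  obtain ⟨hy1', hy2'⟩ := Subgroup.mem_inf.mp hy
  have fa : (g * y * g⁻¹) • (g • a) = g • a := by
    rw [mul_smul, mul_smul, inv_smul_smul, mem_stabilizer_iff.mp hy1']
  have fb : (g * y * g⁻¹) • (g • b) = g • b := by
    rw [mul_smul, mul_smul, inv_smul_smul, mem_stabilizer_iff.mp hy2']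
  have ca := fix_cases h3 hab _ hgy hne _ fa
  have cb := fix_cases h3 hab _ hgy hne _ fb
  have hinj : g • a ≠ g • b := fun h => hab (smul_left_cancel g h)
  rcases ca with ca | ca <;> rcases cb with cb | cb
  · exact absurd (ca.trans cb.symm) hinj
  · left; exact ⟨ca, cb⟩
  · right; exact ⟨ca, cb⟩
  · exact absurd (ca.trans cb.symm) hinj

theorem exists_ne_one (h2 : IsMultiplyPretransitive G Ω 2)
    (hne : ∃ g : G, g ≠ 1 ∧ ∃ a b : Ω, a ≠ b ∧ g • a = a ∧ g • b = b)
    {a b : Ω} (hab : a ≠ b) : ∃ h ∈ stabilizer G a ⊓ stabilizer G b, h ≠ 1 := by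
  have h2' : ∀ {a b c d : Ω}, a ≠ b → c ≠ d → ∃ g : G, g • a = c ∧ g • b = d :=
    is_two_pretransitive_iff.mp h2
  obtain ⟨g₀, hg₀, a₀, b₀, hab₀, ha₀, hb₀⟩ := hne
  obtain ⟨x, hxa, hxb⟩ := h2' hab₀ hab
  refine ⟨x * g₀ * x⁻¹, Subgroup.mem_inf.mpr ⟨?_, ?_⟩, ?_⟩
  · rw [mem_stabilizer_iff, mul_smul, mul_smul, ← hxa, inv_smul_smul, ha₀]
  · rw [mem_stabilizer_iff, mul_smul, mul_smul, ← hxb, inv_smul_smul, hb₀]
  · intro h; apply hg₀
    calc g₀ = x⁻¹ * (x * g₀ * x⁻¹) * x := by group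
      _ = 1 := by rw [h]; group

theorem exists_third [FaithfulSMul G Ω] {a b : Ω} (h : G)
    (hE : h ∈ stabilizer G a ⊓ stabilizer G b) (h1 : h ≠ 1) : ∃ c : Ω, c ≠ a ∧ c ≠ b := by
  obtain ⟨hE1, hE2⟩ := Subgroup.mem_inf.mp hE
  by_contra hcon
  push Not at hcon
  apply h1
  apply FaithfulSMul.eq_of_smul_eq_smul (α := Ω)
  intro c
  rw [one_smul]
  by_cases hca : c = a
  · rw [hca]; exact mem_stabilizer_iff.mp hE1
  · rw [hcon c hca]; exact mem_stabilizer_iff.mp hE2

/-- the two-point stabiliser of odd order in a Zassenhaus group is a Z-group -/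
theorem isZGroup_two_point [Finite G] [FaithfulSMul G Ω] (h2 : IsMultiplyPretransitive G Ω 2)
    (h3 : ∀ g : G, ∀ a b c : Ω, a ≠ b → b ≠ c → a ≠ c → g • a = a → g • b = b → g • c = c → g = 1)
    (hne : ∃ g : G, g ≠ 1 ∧ ∃ a b : Ω, a ≠ b ∧ g • a = a ∧ g • b = b)
    {a b : Ω} (hab : a ≠ b)
    (hodd : Odd (Nat.card ↥(stabilizer G a ⊓ stabilizer G b : Subgroup G))) :
    IsZGroup ↥(stabilizer G a ⊓ stabilizer G b : Subgroup G) := by
  classical
  have h2' : ∀ {a b c d : Ω}, a ≠ b → c ≠ d → ∃ g : G, g • a = c ∧ g • b = d :=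
    is_two_pretransitive_iff.mp h2
  obtain ⟨h, hE, h1⟩ := exists_ne_one h2 hne hab
  obtain ⟨c, hca, hcb⟩ := exists_third h hE h1
  have hEle : stabilizer G a ⊓ stabilizer G b ≤ stabilizer G a := inf_le_left
  obtain ⟨H', hH'⟩ : ∃ H' : Subgroup ↥(stabilizer G a),
      H' = (stabilizer G a ⊓ stabilizer G b).subgroupOf (stabilizer G a) := ⟨_, rfl⟩
  have hmem : ∀ x : ↥(stabilizer G a), x ∈ H' ↔ (x : G) • b = b := by
    intro x
    rw [hH', Subgroup.mem_subgroupOf, Subgroup.mem_inf]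
    constructor
    · intro hx; exact mem_stabilizer_iff.mp hx.2
    · intro hx; exact ⟨x.2, mem_stabilizer_iff.mpr hx⟩
  have hFC : Cfsg.IsFrobeniusComplement H' := by
    refine ⟨?_, ?_, ?_⟩
    · intro hbot
      have : (⟨h, (Subgroup.mem_inf.mp hE).1⟩ : ↥(stabilizer G a)) ∈ H' :=
        (hmem _).mpr (mem_stabilizer_iff.mp (Subgroup.mem_inf.mp hE).2)
      rw [hbot, Subgroup.mem_bot] at this
      exact h1 (congrArg Subtype.val this)
    · intro htop
      obtain ⟨g, hga, hgb⟩ := h2' hab (Ne.symm hca)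
      have hm : (⟨g, mem_stabilizer_iff.mpr hga⟩ : ↥(stabilizer G a)) ∈ H' := by
        rw [htop]; exact Subgroup.mem_top _
      have hm' : g • b = b := (hmem _).mp hm
      exact hcb (hgb.symm.trans hm')
    · intro g hg
      rw [eq_bot_iff]
      intro t ht
      rw [Subgroup.mem_bot]
      obtain ⟨ht1, ht2⟩ := Subgroup.mem_inf.mp ht
      rw [Cfsg.Agent.helper21.frobc_mem_conj] at ht2
      have hgb : (g : G) • b ≠ b := fun h => hg ((hmem g).mpr h)
      have hgba : (g : G) • b ≠ a := by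
        intro h
        have hga : (g : G) • a = a := mem_stabilizer_iff.mp g.2
        exact hab (smul_left_cancel (g : G) (hga.trans h.symm))
      have htb : (t : G) • b = b := (hmem t).mp ht1
      have hta : (t : G) • a = a := mem_stabilizer_iff.mp t.2
      have htgb : (t : G) • ((g : G) • b) = (g : G) • b := by
        have h := (hmem _).mp ht2
        have e : ((g⁻¹ * t * g : ↥(stabilizer G a)) : G) = (g : G)⁻¹ * (t : G) * (g : G) := by
          push_cast; rfl
        rw [e, mul_smul, mul_smul, inv_smul_eq_iff] at h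
        exact h
      apply Subtype.ext
      exact h3 (t : G) a b ((g : G) • b) hab (Ne.symm hgb) (Ne.symm hgba) hta htb htgb
  obtain ⟨K, -, hKn, hKc⟩ := Cfsg.Agent.S0035.result H' hFC
  have := hKn
  have hK : K ≠ ⊥ := by
    intro hbot
    rw [hbot] at hKc
    exact hFC.2.1 (Subgroup.isComplement'_bot_left.mp hKc)
  have hfpf := (Cfsg.Agent.S0039.result K H' hKc hK hFC.1).mp hFC
  subst hH'
  have hcardH' : Nat.card ↥((stabilizer G a ⊓ stabilizer G b).subgroupOf (stabilizer G a)) =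
      Nat.card ↥(stabilizer G a ⊓ stabilizer G b : Subgroup G) :=
    Nat.card_congr (Subgroup.subgroupOfEquivOfLe hEle).toEquiv
  have hZ' : IsZGroup ↥((stabilizer G a ⊓ stabilizer G b).subgroupOf (stabilizer G a)) := by
    constructor
    intro p hp P
    have : Fact p.Prime := ⟨hp⟩
    rcases Cfsg.Agent.S0040.result K _ hKc hK hfpf p P with hcyc | ⟨n, ⟨e⟩⟩
    · exact hcyc
    · exfalso
      have hc1 := Nat.card_congr e.toEquiv
      rw [Nat.card_eq_fintype_card (α := QuaternionGroup (2 ^ n)), QuaternionGroup.card] at hc1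
      have hdvd := Subgroup.card_subgroup_dvd_card
        (P : Subgroup ↥((stabilizer G a ⊓ stabilizer G b).subgroupOf (stabilizer G a)))
      rw [hc1, hcardH'] at hdvd
      have hev : Even (Nat.card ↥(stabilizer G a ⊓ stabilizer G b : Subgroup G)) :=
        even_iff_two_dvd.mpr (Dvd.dvd.trans ⟨2 * 2 ^ n, by ring⟩ hdvd)
      exact (Nat.not_even_iff_odd.mpr hodd) hev
  exact IsZGroup.of_injective (f := (Subgroup.subgroupOfEquivOfLe hEle).symm.toMonoidHom)
    (Subgroup.subgroupOfEquivOfLe hEle).symm.injective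

/-- a Sylow subgroup of the odd-order two-point stabiliser is a Sylow subgroup of `G`; without a
normal `q`-complement it is not central in its normaliser (Burnside) -/
theorem not_normalizer_le_centralizer [Finite G] [Fintype Ω]
    (h2 : IsMultiplyPretransitive G Ω 2)
    (h3 : ∀ g : G, ∀ a b c : Ω, a ≠ b → b ≠ c → a ≠ c → g • a = a → g • b = b → g • c = c → g = 1)
    {a b : Ω} (hab : a ≠ b)
    (hodd : Odd (Nat.card ↥(stabilizer G a ⊓ stabilizer G b : Subgroup G)))
    (q : ℕ) [hq : Fact q.Prime]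
    (hqd : q ∣ Nat.card ↥(stabilizer G a ⊓ stabilizer G b : Subgroup G))
    (hnil : ¬ ∃ N : Subgroup G, N.Normal ∧ N.index = q ^ (Nat.card G).factorization q)
    (P : Subgroup G) (hPE : P ≤ stabilizer G a ⊓ stabilizer G b)
    (hPcard : Nat.card ↥P =
      q ^ (Nat.card ↥(stabilizer G a ⊓ stabilizer G b : Subgroup G)).factorization q) :
    ¬ (Subgroup.normalizer (P : Set G) ≤ Subgroup.centralizer (P : Set G)) := by
  classical
  intro hNC
  have hq2 : q ≠ 2 := by
    intro h
    rw [h] at hqd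
    exact (Nat.not_even_iff_odd.mpr hodd) (even_iff_two_dvd.mpr hqd)
  have hq3 : 3 ≤ q := by
    have := hq.out.two_le
    omega
  have hd0 : Nat.card ↥(stabilizer G a ⊓ stabilizer G b : Subgroup G) ≠ 0 := Nat.card_pos.ne'
  have hkpos : 0 < (Nat.card ↥(stabilizer G a ⊓ stabilizer G b : Subgroup G)).factorization q :=
    Nat.Prime.factorization_pos_of_dvd hq.out hd0 hqd
  -- a nonidentity element of P
  have hP1 : 1 < Nat.card ↥P := by
    rw [hPcard]
    exact Nat.one_lt_pow hkpos.ne' hq.out.one_lt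
  obtain ⟨y, hy, hy1⟩ : ∃ y ∈ P, y ≠ 1 := by
    by_contra hcon
    push Not at hcon
    have : Nat.card ↥P = 1 := by
      rw [Nat.card_eq_one_iff_unique]
      refine ⟨⟨fun x z => ?_⟩, ⟨1⟩⟩
      apply Subtype.ext
      rw [hcon x x.2, hcon z z.2]
    omega
  have hPp : IsPGroup q ↥P := IsPGroup.of_card hPcard
  -- fixed points
  have hfix : (fixedPoints ↥P Ω : Set Ω) = {a, b} := by
    ext x
    rw [mem_fixedPoints]
    constructor
    · intro hx
      have hxy : y • x = x := hx ⟨y, hy⟩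
      rcases fix_cases h3 hab y (hPE hy) hy1 x hxy with h | h
      · rw [h]; exact Set.mem_insert _ _
      · rw [h]; exact Set.mem_insert_of_mem _ rfl
    · intro hx p
      have hp := hPE p.2
      obtain ⟨hp1, hp2⟩ := Subgroup.mem_inf.mp hp
      rcases hx with h | h
      · rw [h]; exact mem_stabilizer_iff.mp hp1
      · rw [Set.mem_singleton_iff.mp h]; exact mem_stabilizer_iff.mp hp2
  have hfixcard : Nat.card (fixedPoints ↥P Ω) = 2 := by
    rw [hfix, Nat.card_coe_set_eq, Set.ncard_pair hab]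
  have hmod := hPp.card_modEq_card_fixedPoints Ω
  rw [hfixcard, Nat.card_eq_fintype_card] at hmod
  have hmod' : Fintype.card Ω % q = 2 := by
    have : 2 % q = 2 := Nat.mod_eq_of_lt (by omega)
    rw [← this]; exact hmod
  obtain ⟨n, hn⟩ : ∃ n : ℕ, n = Fintype.card Ω := ⟨_, rfl⟩
  rw [← hn] at hmod'
  have hnq : ¬ q ∣ (n * n - n) := by
    intro hdvd
    have hn' : n = q * (n / q) + 2 := by
      have := Nat.div_add_mod n q
      omega
    obtain ⟨k, hk⟩ : ∃ k : ℕ, k = n / q := ⟨_, rfl⟩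
    rw [← hk] at hn'
    have e : n * n - n = n * (n - 1) := by
      rw [Nat.mul_sub, mul_one]
    rw [e] at hdvd
    rcases (Nat.Prime.dvd_mul hq.out).mp hdvd with h | h
    · rw [hn'] at h
      have h2q : q ∣ 2 := (Nat.dvd_add_right (dvd_mul_right q k)).mp h
      have := Nat.le_of_dvd (by norm_num) h2q
      omega
    · have e2 : n - 1 = q * k + 1 := by omega
      rw [e2] at h
      have h1q : q ∣ 1 := (Nat.dvd_add_right (dvd_mul_right q k)).mp h
      have := Nat.le_of_dvd (by norm_num) h1q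
      omega
  have hcardG := Cfsg.Agent.helper11.ZCount.card_eq h2 hab
  rw [← hn] at hcardG
  have hnn0 : n * n - n ≠ 0 := by
    intro h0
    rw [h0] at hnq
    exact hnq (dvd_zero q)
  have hfact : (Nat.card G).factorization q =
      (Nat.card ↥(stabilizer G a ⊓ stabilizer G b : Subgroup G)).factorization q := by
    rw [hcardG, Nat.factorization_mul hd0 hnn0, Finsupp.add_apply,
      Nat.factorization_eq_zero_of_not_dvd hnq, add_zero]
  have hPcardG : Nat.card ↥P = q ^ (Nat.card G).factorization q := by rw [hfact]; exact hPcard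
  obtain ⟨S, hS⟩ : ∃ S : Sylow q G, (S : Subgroup G) = P := ⟨Sylow.ofCard P hPcardG, rfl⟩
  have hNC' : Subgroup.normalizer ((S : Subgroup G) : Set G) ≤
      Subgroup.centralizer ((S : Subgroup G) : Set G) := by rw [hS]; exact hNC
  have hcomp := MonoidHom.ker_transferSylow_isComplement' S hNC'
  apply hnil
  refine ⟨(MonoidHom.transferSylow S hNC').ker, inferInstance, ?_⟩
  have h1 := hcomp.symm.index_eq_card
  rw [h1]
  show Nat.card ↥(S : Subgroup G) = _
  rw [hS, hPcardG]

/-- for a Sylow subgroup `P₀` of `E = G_a ∩ G_b` central in its `E`-normaliser there is an element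
swapping `a, b` and inverting `P₀` -/
theorem exists_swap_inverting [Finite G] [Fintype Ω]
    (h2 : IsMultiplyPretransitive G Ω 2)
    (h3 : ∀ g : G, ∀ a b c : Ω, a ≠ b → b ≠ c → a ≠ c → g • a = a → g • b = b → g • c = c → g = 1)
    {a b : Ω} (hab : a ≠ b)
    (hodd : Odd (Nat.card ↥(stabilizer G a ⊓ stabilizer G b : Subgroup G)))
    (q : ℕ) [hq : Fact q.Prime]
    (hqd : q ∣ Nat.card ↥(stabilizer G a ⊓ stabilizer G b : Subgroup G))
    (hnil : ¬ ∃ N : Subgroup G, N.Normal ∧ N.index = q ^ (Nat.card G).factorization q)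
    (P₀ : Sylow q ↥(stabilizer G a ⊓ stabilizer G b : Subgroup G))
    (hcyc : IsCyclic ↥(P₀ : Subgroup ↥(stabilizer G a ⊓ stabilizer G b : Subgroup G)))
    (hNC : Subgroup.normalizer
        ((P₀ : Subgroup ↥(stabilizer G a ⊓ stabilizer G b : Subgroup G)) :
          Set ↥(stabilizer G a ⊓ stabilizer G b : Subgroup G)) ≤
      Subgroup.centralizer
        ((P₀ : Subgroup ↥(stabilizer G a ⊓ stabilizer G b : Subgroup G)) :
          Set ↥(stabilizer G a ⊓ stabilizer G b : Subgroup G))) :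
    ∃ g : G, g • a = b ∧ g • b = a ∧
      ∀ y : ↥(stabilizer G a ⊓ stabilizer G b : Subgroup G),
        y ∈ (P₀ : Subgroup ↥(stabilizer G a ⊓ stabilizer G b : Subgroup G)) →
          g * (y : G) * g⁻¹ = (y : G)⁻¹ := by
  classical
  obtain ⟨E, hE⟩ : ∃ E : Subgroup G, E = stabilizer G a ⊓ stabilizer G b := ⟨_, rfl⟩
  subst hE
  have hq2 : q ≠ 2 := by
    intro h
    rw [h] at hqd
    exact (Nat.not_even_iff_odd.mpr hodd) (even_iff_two_dvd.mpr hqd)
  obtain ⟨P, hP⟩ : ∃ P : Subgroup G, P = (P₀ : Subgroup ↥(stabilizer G a ⊓ stabilizer G b :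
      Subgroup G)).map (stabilizer G a ⊓ stabilizer G b : Subgroup G).subtype := ⟨_, rfl⟩
  have hPE : P ≤ stabilizer G a ⊓ stabilizer G b := by
    rw [hP]; exact Subgroup.map_subtype_le _
  have hmemP : ∀ x : ↥(stabilizer G a ⊓ stabilizer G b : Subgroup G),
      (x : G) ∈ P ↔ x ∈ (P₀ : Subgroup ↥(stabilizer G a ⊓ stabilizer G b : Subgroup G)) := by
    intro x
    rw [hP]
    exact Subgroup.mem_map_iff_mem (Subgroup.subtype_injective _)
  have hPcard : Nat.card ↥P =
      q ^ (Nat.card ↥(stabilizer G a ⊓ stabilizer G b : Subgroup G)).factorization q := by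
    rw [hP, Subgroup.card_map_of_injective (Subgroup.subtype_injective _)]
    exact P₀.card_eq_multiplicity
  have hPcyc : IsCyclic ↥P := by
    rw [hP]
    exact isCyclic_of_surjective _
      (Subgroup.equivMapOfInjective _ _ (Subgroup.subtype_injective _)).surjective
  -- elements of E normalising P centralise P
  have hcen : ∀ x : G, x ∈ stabilizer G a ⊓ stabilizer G b →
      x ∈ Subgroup.normalizer (P : Set G) → ∀ y ∈ P, x * y * x⁻¹ = y := by
    intro x hxE hxN y hy
    have hxN0 : (⟨x, hxE⟩ : ↥(stabilizer G a ⊓ stabilizer G b : Subgroup G)) ∈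
        Subgroup.normalizer
          ((P₀ : Subgroup ↥(stabilizer G a ⊓ stabilizer G b : Subgroup G)) :
            Set ↥(stabilizer G a ⊓ stabilizer G b : Subgroup G)) := by
      rw [Subgroup.mem_normalizer_iff]
      intro n
      rw [← hmemP, ← hmemP]
      exact Subgroup.mem_normalizer_iff.mp hxN (n : G)
    have hxC := hNC hxN0
    have hyE := hPE hy
    have hy0 : (⟨y, hyE⟩ : ↥(stabilizer G a ⊓ stabilizer G b : Subgroup G)) ∈
        (P₀ : Subgroup ↥(stabilizer G a ⊓ stabilizer G b : Subgroup G)) := (hmemP _).mp hy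
    have hc := Subgroup.mem_centralizer_iff.mp hxC _ hy0
    have hc' : y * x = x * y := congrArg Subtype.val hc
    calc x * y * x⁻¹ = (y * x) * x⁻¹ := by rw [hc']
      _ = y := by group
  have hnot := not_normalizer_le_centralizer h2 h3 hab hodd q hqd hnil P hPE hPcard
  obtain ⟨g, hgN, hgC⟩ := Set.not_subset.mp hnot
  have hgn : ∀ y ∈ P, g * y * g⁻¹ ∈ P := fun y hy => (Subgroup.mem_normalizer_iff.mp hgN y).mp hy
  have hgc : ∃ y ∈ P, g * y * g⁻¹ ≠ y := by
    by_contra hcon
    push Not at hcon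
    apply hgC
    show g ∈ Subgroup.centralizer (P : Set G)
    rw [Subgroup.mem_centralizer_iff]
    intro y hy
    have := hcon y hy
    calc y * g = (g * y * g⁻¹) * g := by rw [this]
      _ = g * y := by group
  obtain ⟨y₁, hy₁, hy₁ne⟩ := hgc
  have hy₁1 : y₁ ≠ 1 := by
    intro h
    apply hy₁ne
    rw [h]; group
  rcases pair_cases h3 hab g y₁ (hPE hy₁) hy₁1 (hPE (hgn y₁ hy₁)) with ⟨hga, hgb⟩ | ⟨hga, hgb⟩
  · exfalso
    have hgE : g ∈ stabilizer G a ⊓ stabilizer G b :=
      Subgroup.mem_inf.mpr ⟨mem_stabilizer_iff.mpr hga, mem_stabilizer_iff.mpr hgb⟩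
    exact hy₁ne (hcen g hgE hgN y₁ hy₁)
  · have hggE : g * g ∈ stabilizer G a ⊓ stabilizer G b := by
      refine Subgroup.mem_inf.mpr ⟨?_, ?_⟩
      · rw [mem_stabilizer_iff, mul_smul, hga, hgb]
      · rw [mem_stabilizer_iff, mul_smul, hgb, hga]
    have hggN : g * g ∈ Subgroup.normalizer (P : Set G) := Subgroup.mul_mem _ hgN hgN
    have hg2 : ∀ y ∈ P, (g * g) * y * (g * g)⁻¹ = y := hcen (g * g) hggE hggN
    have hinv := inverts_of_cyclic P q _ hq.out hq2 hPcard g hgn hg2 ⟨y₁, hy₁, hy₁ne⟩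
    refine ⟨g, hga, hgb, ?_⟩
    intro y hy
    exact hinv (y : G) ((hmemP y).mpr hy)


end

end Cfsg.Agent.helper11.ZInv
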