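import Cfsg.Statements.S0739
import Cfsg.Agent.Lib_helper11_ZInvB

set_option autoImplicit false
open Cfsg

namespace Cfsg.Agent.S0739

/-- In a finite Zassenhaus group whose two-point stabiliser `H = G_{a,b}` has odd order `d`, and which has no normal `q`-complement for any prime `q ∣ d`, `H` is cyclic, `C_G(H) = H`, and every element swapping `a` and `b` inverts each element of `H`. -/
theorem result {G Ω : Type*} [Group G] [Finite G] [MulAction G Ω] [Fintype Ω] (hZ : Cfsg.IsZassenhausGroup G Ω) {a b : Ω} (hab : a ≠ b) (hodd : Odd (Nat.card ↥(MulAction.stabilizer G a ⊓ MulAction.stabilizer G b))) (hnil : ∀ q : ℕ, q.Prime → q ∣ Nat.card ↥(MulAction.stabilizer G a ⊓ MulAction.stabilizer G b) → ¬ ∃ N : Subgroup G, N.Normal ∧ N.index = q ^ (Nat.card G).factorization q) : IsCyclic ↥(MulAction.stabilizer G a ⊓ MulAction.stabilizer G b) ∧ Subgroup.centralizer ((MulAction.stabilizer G a ⊓ MulAction.stabilizer G b : Subgroup G) : Set G) = MulAction.stabilizer G a ⊓ MulAction.stabilizer G b ∧ ∀ s : G, s •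 a = b → s • b = a → ∀ h ∈ MulAction.stabilizer G a ⊓ MulAction.stabilizer G b, s * h * s⁻¹ = h⁻¹ := by
  classical
  obtain ⟨hfaith, h2, h3, hne, -⟩ := hZ
  have := hfaith
  have hZG : IsZGroup ↥(MulAction.stabilizer G a ⊓ MulAction.stabilizer G b : Subgroup G) :=
    Cfsg.Agent.helper11.ZInv.isZGroup_two_point h2 h3 hne hab hodd
  have hinvsm : ∀ s : G, s • a = b → s • b = a → s⁻¹ • b = a ∧ s⁻¹ • a = b := by
    intro s hsa hsb
    refine ⟨?_, ?_⟩
    · rw [inv_smul_eq_iff]; exact hsa.symm
    · rw [inv_smul_eq_iff]; exact hsb.symm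
  have hswapN : ∀ s : G, s • a = b → s • b = a →
      ∀ x ∈ MulAction.stabilizer G a ⊓ MulAction.stabilizer G b,
        s * x * s⁻¹ ∈ MulAction.stabilizer G a ⊓ MulAction.stabilizer G b := by
    intro s hsa hsb x hx
    obtain ⟨hx1, hx2⟩ := Subgroup.mem_inf.mp hx
    obtain ⟨hsb', hsa'⟩ := hinvsm s hsa hsb
    refine Subgroup.mem_inf.mpr ⟨?_, ?_⟩
    · rw [MulAction.mem_stabilizer_iff, mul_smul, mul_smul, hsa',
        MulAction.mem_stabilizer_iff.mp hx2, hsb]
    · rw [MulAction.mem_stabilizer_iff, mul_smul, mul_smul, hsb',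
        MulAction.mem_stabilizer_iff.mp hx1, hsa]
  have hswapN' : ∀ s : G, s • a = b → s • b = a →
      ∀ x ∈ MulAction.stabilizer G a ⊓ MulAction.stabilizer G b,
        s⁻¹ * x * s ∈ MulAction.stabilizer G a ⊓ MulAction.stabilizer G b := by
    intro s hsa hsb x hx
    obtain ⟨hsb', hsa'⟩ := hinvsm s hsa hsb
    have h := hswapN s⁻¹ hsa' hsb' x hx
    rwa [inv_inv] at h
  -- Phase 1 : E is abelian
  have hcomm : ∀ x y : ↥(MulAction.stabilizer G a ⊓ MulAction.stabilizer G b : Subgroup G),
      x * y = y * x := by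
    apply Cfsg.Agent.helper11.ZInv.comm_of_inverting hodd
    intro r hr hrd P₀ hNC
    obtain ⟨g, hga, hgb, hinv⟩ := Cfsg.Agent.helper11.ZInv.exists_swap_inverting h2 h3 hab hodd r
      hrd (hnil r hr.out hrd) P₀ (IsZGroup.isZGroup r hr.out P₀) hNC
    refine ⟨Cfsg.Agent.helper11.ZInv.conjAut _ g (hswapN g hga hgb) (hswapN' g hga hgb), ?_⟩
    intro y hy
    apply Subtype.ext
    exact hinv y hy
  -- Phase 2 : swaps invert E
  have hinvAll : ∀ s : G, s • a = b → s • b = a →
      ∀ h ∈ MulAction.stabilizer G a ⊓ MulAction.stabilizer G b, s * h * s⁻¹ = h⁻¹ := by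
    intro s hsa hsb h hh
    have key := Cfsg.Agent.helper11.ZInv.inverts_all hcomm
      (Cfsg.Agent.helper11.ZInv.conjAut _ s (hswapN s hsa hsb) (hswapN' s hsa hsb)) ?_ ⟨h, hh⟩
    · exact congrArg Subtype.val key
    · intro r hr hrd
      obtain ⟨P₀⟩ : Nonempty (Sylow r
        ↥(MulAction.stabilizer G a ⊓ MulAction.stabilizer G b : Subgroup G)) := inferInstance
      have hNC : Subgroup.normalizer
          ((P₀ : Subgroup ↥(MulAction.stabilizer G a ⊓ MulAction.stabilizer G b : Subgroup G)) :
            Set ↥(MulAction.stabilizer G a ⊓ MulAction.stabilizer G b : Subgroup G)) ≤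
          Subgroup.centralizer
          ((P₀ : Subgroup ↥(MulAction.stabilizer G a ⊓ MulAction.stabilizer G b : Subgroup G)) :
            Set ↥(MulAction.stabilizer G a ⊓ MulAction.stabilizer G b : Subgroup G)) := by
        intro x _
        rw [Subgroup.mem_centralizer_iff]
        intro y _
        exact hcomm y x
      obtain ⟨g, hga, hgb, hinv⟩ := Cfsg.Agent.helper11.ZInv.exists_swap_inverting h2 h3 hab hodd
        r hrd (hnil r hr.out hrd) P₀ (IsZGroup.isZGroup r hr.out P₀) hNC
      refine ⟨P₀, ?_⟩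
      intro y hy
      apply Subtype.ext
      show s * (y : G) * s⁻¹ = (y : G)⁻¹
      have heE : g⁻¹ * s ∈ MulAction.stabilizer G a ⊓ MulAction.stabilizer G b := by
        refine Subgroup.mem_inf.mpr ⟨?_, ?_⟩
        · rw [MulAction.mem_stabilizer_iff, mul_smul, hsa, inv_smul_eq_iff, hga]
        · rw [MulAction.mem_stabilizer_iff, mul_smul, hsb, inv_smul_eq_iff, hgb]
      have hc := congrArg Subtype.val (hcomm ⟨g⁻¹ * s, heE⟩ y)
      have hc' : g⁻¹ * s * (y : G) = (y : G) * (g⁻¹ * s) := hc
      calc s * (y : G) * s⁻¹ = g * ((g⁻¹ * s) * (y : G)) * s⁻¹ := by group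
        _ = g * ((y : G) * (g⁻¹ * s)) * s⁻¹ := by rw [hc']
        _ = g * (y : G) * g⁻¹ := by group
        _ = (y : G)⁻¹ := hinv y hy
  have hcyc : IsCyclic ↥(MulAction.stabilizer G a ⊓ MulAction.stabilizer G b : Subgroup G) := by
    have hnilp : Group.IsNilpotent
        ↥(MulAction.stabilizer G a ⊓ MulAction.stabilizer G b : Subgroup G) := by
      letI : CommGroup ↥(MulAction.stabilizer G a ⊓ MulAction.stabilizer G b : Subgroup G) :=
        { (inferInstance : Group
            ↥(MulAction.stabilizer G a ⊓ MulAction.stabilizer G b : Subgroup G)) with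
          mul_comm := hcomm }
      exact CommGroup.isNilpotent
    infer_instance
  have hcent : Subgroup.centralizer
      ((MulAction.stabilizer G a ⊓ MulAction.stabilizer G b : Subgroup G) : Set G) =
      MulAction.stabilizer G a ⊓ MulAction.stabilizer G b := by
    apply le_antisymm
    · intro x hx
      obtain ⟨h, hE, h1⟩ := Cfsg.Agent.helper11.ZInv.exists_ne_one h2 hne hab
      have hxh : h * x = x * h := Subgroup.mem_centralizer_iff.mp hx h hE
      have hconj : x * h * x⁻¹ = h := by rw [← hxh]; group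
      rcases Cfsg.Agent.helper11.ZInv.pair_cases h3 hab x h hE h1 (by rw [hconj]; exact hE) with
        ⟨hxa, hxb⟩ | ⟨hxa, hxb⟩
      · exact Subgroup.mem_inf.mpr
          ⟨MulAction.mem_stabilizer_iff.mpr hxa, MulAction.mem_stabilizer_iff.mpr hxb⟩
      · exfalso
        have hi := hinvAll x hxa hxb h hE
        rw [hconj] at hi
        have hsq : h ^ 2 = 1 := by
          rw [pow_two]
          calc h * h = h * h⁻¹ := by rw [← hi]
            _ = 1 := mul_inv_cancel h
        have hoddh : Odd (orderOf h) := by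
          have hd : orderOf (⟨h, hE⟩ :
              ↥(MulAction.stabilizer G a ⊓ MulAction.stabilizer G b : Subgroup G)) ∣
              Nat.card ↥(MulAction.stabilizer G a ⊓ MulAction.stabilizer G b : Subgroup G) :=
            orderOf_dvd_natCard _
          rw [Subgroup.orderOf_mk] at hd
          exact Odd.of_dvd_nat hodd hd
        have hdvd : orderOf h ∣ 2 := orderOf_dvd_of_pow_eq_one hsq
        have ho1 : orderOf h = 1 := by
          rcases (Nat.dvd_prime Nat.prime_two).mp hdvd with h' | h'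
          · exact h'
          · rw [h'] at hoddh; exact absurd hoddh (by decide)
        exact h1 (orderOf_eq_one_iff.mp ho1)
    · intro x hx
      rw [Subgroup.mem_centralizer_iff]
      intro y hy
      exact congrArg Subtype.val (hcomm ⟨y, hy⟩ ⟨x, hx⟩)
  exact ⟨hcyc, hcent, hinvAll⟩

end Cfsg.Agent.S0739
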