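import Mathlib
import Cfsg.Statements.S0740

set_option autoImplicit false
open Cfsg

namespace Cfsg.Agent.S0740

open MulAction

theorem card_fixedBy_eq {G Ω : Type*} [Group G] [MulAction G Ω] [Fintype Ω] [DecidableEq Ω]
    (s : G) :
    Nat.card (fixedBy Ω s) = (Finset.univ.filter (fun x : Ω => s • x = x)).card := by
  have h : (fixedBy Ω s) = ↑(Finset.univ.filter (fun x : Ω => s • x = x)) := by
    ext x; simp [mem_fixedBy]
  rw [Nat.card_coe_set_eq, h, Set.ncard_coe_finset]

theorem card_fix_modEq {G Ω : Type*} [Group G] [MulAction G Ω] [Fintype Ω] [DecidableEq Ω]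
    (s : G) (hs : s * s = 1) :
    (Finset.univ.filter (fun x : Ω => s • x = x)).card ≡ Fintype.card Ω [MOD 2] := by
  have : Fact (Nat.Prime 2) := ⟨Nat.prime_two⟩
  have h := Equiv.Perm.card_compl_support_modEq (p := 2) (n := 1)
    (σ := (MulAction.toPerm s : Equiv.Perm Ω)) (by
    rw [pow_one, sq]
    ext x
    simp [← mul_smul, hs])
  have h2 : (Finset.univ.filter (fun x : Ω => s • x = x)) =
      (MulAction.toPerm s : Equiv.Perm Ω).supportᶜ := by
    ext x
    simp [Equiv.Perm.mem_support]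
  rw [h2]
  exact h

theorem card_fix_le_two {G Ω : Type*} [Group G] [MulAction G Ω] [Fintype Ω] [DecidableEq Ω]
    (h3 : ∀ g : G, ∀ a b c : Ω, a ≠ b → b ≠ c → a ≠ c → g • a = a → g • b = b → g • c = c → g = 1)
    (s : G) (hs : s ≠ 1) :
    (Finset.univ.filter (fun x : Ω => s • x = x)).card ≤ 2 := by
  by_contra hcon
  push Not at hcon
  obtain ⟨x, y, z, hx, hy, hz, hxy, hxz, hyz⟩ := Finset.two_lt_card_iff.mp hcon
  simp only [Finset.mem_filter, Finset.mem_univ, true_and] at hx hy hz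
  exact hs (h3 s x y z hxy hyz hxz hx hy hz)

theorem card_fixedBy_conj {G Ω : Type*} [Group G] [MulAction G Ω] (h u : G) :
    Nat.card (fixedBy Ω (h * u * h⁻¹)) = Nat.card (fixedBy Ω u) := by
  apply Nat.card_congr
  refine ⟨fun x => ⟨h⁻¹ • x.1, ?_⟩, fun x => ⟨h • x.1, ?_⟩, ?_, ?_⟩
  · have hx := x.2
    rw [mem_fixedBy] at hx ⊢
    have := congrArg (fun y => h⁻¹ • y) hx
    simpa [mul_smul] using this
  · have hx := x.2
    rw [mem_fixedBy] at hx ⊢
    simp [mul_smul, hx]
  · intro x; simp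
  · intro x; simp

theorem orderOf_two_iff {G : Type*} [Group G] (s : G) : orderOf s = 2 ↔ s ≠ 1 ∧ s * s = 1 := by
  have : Fact (Nat.Prime 2) := ⟨Nat.prime_two⟩
  constructor
  · intro h
    constructor
    · intro h1
      rw [h1, orderOf_one] at h
      omega
    · have := pow_orderOf_eq_one s
      rw [h, sq] at this
      exact this
  · rintro ⟨h1, h2⟩
    exact orderOf_eq_prime (by rw [sq]; exact h2) h1

/-- conjugating an involution moving `c` to one swapping `a` and `b` -/
theorem exists_conj_swap {G Ω : Type*} [Group G] [MulAction G Ω]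
    (h2 : ∀ {a b c d : Ω}, a ≠ b → c ≠ d → ∃ g : G, g • a = c ∧ g • b = d)
    {a b : Ω} (hab : a ≠ b) (t : G) (ht2 : t * t = 1) (c : Ω) (hc : t • c ≠ c) :
    ∃ h : G, orderOf (h * t * h⁻¹) = 2 ∧ (h * t * h⁻¹) • a = b ∧ (h * t * h⁻¹) • b = a := by
  have htt : t • (t • c) = c := by rw [← mul_smul, ht2, one_smul]
  obtain ⟨h, hh1, hh2⟩ := h2 (Ne.symm hc) hab
  have hi1 : h⁻¹ • a = c := by rw [inv_smul_eq_iff, hh1]
  have hi2 : h⁻¹ • b = t • c := by rw [inv_smul_eq_iff, hh2]
  have ha' : (h * t * h⁻¹) • a = b := by rw [mul_smul, mul_smul, hi1, hh2]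
  have hb' : (h * t * h⁻¹) • b = a := by rw [mul_smul, mul_smul, hi2, htt, hh1]
  refine ⟨h, ?_, ha', hb'⟩
  rw [orderOf_two_iff]
  constructor
  · intro h1
    rw [h1, one_smul] at ha'
    exact hab ha'
  · have : h * t * h⁻¹ * (h * t * h⁻¹) = h * (t * t) * h⁻¹ := by group
    rw [this, ht2]; group

theorem result {G Ω : Type*} [Group G] [Finite G] [MulAction G Ω] [Fintype Ω] (hZ : Cfsg.IsZassenhausGroup G Ω) {a b : Ω} (hab : a ≠ b) : (∃ s : G, orderOf s = 2 ∧ s • a = b ∧ s • b = a) ∧ (∀ s : G, orderOf s = 2 → s • a = b → s • b = a → (Odd (Fintype.card Ω) → Nat.card (MulAction.fixedBy Ω s) = 1) ∧ (Even (Fintype.card Ω) → Nat.card (MulAction.fixedBy Ω s) = 0 ∨ Nat.card (MulAction.fixedBy Ω s) = 2)) ∧ (Even (Fintype.card Ω) → Even (Nat.card ↥(MulAction.stabilizer G a ⊓ MulAction.stabilizer G b)) → ∃ s : G, orderOf s = 2 ∧ s • a = b ∧ s • b = a ∧ Nat.card (MulAction.fixedBy Ω s) = 2) := by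
  classical
  obtain ⟨hfaith, h2t, h3, _, _⟩ := hZ
  have h2 : ∀ {a b c d : Ω}, a ≠ b → c ≠ d → ∃ g : G, g • a = c ∧ g • b = d :=
    fun {a b c d} hab hcd => MulAction.is_two_pretransitive_iff.mp h2t hab hcd
  have hmove : ∀ t : G, t ≠ 1 → ∃ c : Ω, t • c ≠ c := by
    intro t ht
    by_contra hcon
    push Not at hcon
    exact ht (hfaith.eq_of_smul_eq_smul (fun c => by rw [hcon c, one_smul]))
  refine ⟨?_, ?_, ?_⟩
  · -- existence of an involution swapping a and b
    obtain ⟨g, hga, hgb⟩ := h2 hab (Ne.symm hab)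
    have hpow : ∀ k : ℕ, (g ^ (2 * k)) • a = a ∧ (g ^ (2 * k + 1)) • a = b := by
      intro k
      induction k with
      | zero => simp [hga]
      | succ k ih =>
        have e0 : 2 * (k + 1) = (2 * k + 1) + 1 := by ring
        have e1 : g ^ (2 * (k + 1)) = g * g ^ (2 * k + 1) := by
          rw [e0, pow_succ']
        have e2 : g ^ (2 * (k + 1) + 1) = g * (g * g ^ (2 * k + 1)) := by
          rw [e0, pow_succ', pow_succ']
        constructor
        · rw [e1, mul_smul, ih.2, hgb]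
        · rw [e2, mul_smul, mul_smul, ih.2, hgb, hga]
    have hopos : 0 < orderOf g := orderOf_pos g
    have heven : 2 ∣ orderOf g := by
      by_contra hodd
      have : orderOf g = 2 * (orderOf g / 2) + 1 := by omega
      have h1 := (hpow (orderOf g / 2)).2
      rw [← this, pow_orderOf_eq_one, one_smul] at h1
      exact hab h1
    have hto : orderOf (g ^ (orderOf g / 2)) = 2 :=
      orderOf_pow_orderOf_div hopos.ne' heven
    obtain ⟨ht1, ht2⟩ := (orderOf_two_iff _).mp hto
    obtain ⟨c, hc⟩ := hmove _ ht1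
    obtain ⟨h, ho, h1, h2'⟩ := exists_conj_swap h2 hab _ ht2 c hc
    exact ⟨_, ho, h1, h2'⟩
  · intro s hs _ _
    obtain ⟨hs1, hs2⟩ := (orderOf_two_iff s).mp hs
    have hle := card_fix_le_two h3 s hs1
    have hmod := card_fix_modEq (Ω := Ω) s hs2
    rw [card_fixedBy_eq]
    unfold Nat.ModEq at hmod
    constructor
    · intro hodd
      rw [Nat.odd_iff] at hodd
      omega
    · intro hev
      rw [Nat.even_iff] at hev
      omega
  · intro hev hH
    have : Fact (Nat.Prime 2) := ⟨Nat.prime_two⟩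
    obtain ⟨u, hu⟩ := exists_prime_orderOf_dvd_card' 2 hH.two_dvd
    have hu' : orderOf (u : G) = 2 := by rw [Subgroup.orderOf_coe]; exact hu
    obtain ⟨hu1, hu2⟩ := (orderOf_two_iff (u : G)).mp hu'
    have huab : (u : G) • a = a ∧ (u : G) • b = b := by
      have := u.2
      rw [Subgroup.mem_inf, mem_stabilizer_iff, mem_stabilizer_iff] at this
      exact this
    obtain ⟨c, hc⟩ := hmove _ hu1
    obtain ⟨h, ho, h1, h2'⟩ := exists_conj_swap h2 hab _ hu2 c hc
    refine ⟨_, ho, h1, h2', ?_⟩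
    rw [card_fixedBy_conj, card_fixedBy_eq]
    have hle := card_fix_le_two h3 (u : G) hu1
    have hge : 1 < (Finset.univ.filter (fun x : Ω => (u : G) • x = x)).card := by
      rw [Finset.one_lt_card]
      exact ⟨a, by simp [huab.1], b, by simp [huab.2], hab⟩
    omega

end Cfsg.Agent.S0740
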