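import Mathlib
import Cfsg.Agent.S0739
import Cfsg.Agent.S0740
import Cfsg.Agent.Lib_helper11_ZCount
import Cfsg.Agent.Lib_helper12_CharOps
import Cfsg.Agent.Lib_helper23_LinChar

set_option autoImplicit false

namespace Cfsg.Agent.helper11.ZInd

open MulAction
open scoped ComplexConjugate

/-- in a simple Zassenhaus group with two-point stabilisers of odd order, all two-point stabilisers
have the same order and are inverted by every element swapping the two points -/
theorem swap_inverts_of_simple {G Ω : Type*} [Group G] [Finite G] [MulAction G Ω] [Fintype Ω]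
    (hZ : Cfsg.IsZassenhausGroup G Ω) [IsSimpleGroup G] {a b : Ω} (hab : a ≠ b)
    (hodd : Odd (Nat.card ↥(stabilizer G a ⊓ stabilizer G b : Subgroup G))) :
    (∀ x y : Ω, x ≠ y → Nat.card ↥(stabilizer G x ⊓ stabilizer G y : Subgroup G) =
      Nat.card ↥(stabilizer G a ⊓ stabilizer G b : Subgroup G)) ∧
    ∀ x y : Ω, x ≠ y → ∀ s : G, s • x = y → s • y = x →
      ∀ u ∈ stabilizer G x ⊓ stabilizer G y, s * u * s⁻¹ = u⁻¹ := by
  classical
  have hZ' := hZ
  obtain ⟨hfaith, h2, h3, hne, -⟩ := hZ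
  obtain ⟨e, he⟩ : ∃ e, e = Nat.card ↥(stabilizer G a ⊓ stabilizer G b : Subgroup G) := ⟨_, rfl⟩
  rw [← he] at hodd
  obtain ⟨n, hn⟩ : ∃ n, n = Fintype.card Ω := ⟨_, rfl⟩
  have h0 := Cfsg.Agent.helper11.ZCount.card_eq h2 hab
  rw [← he, ← hn] at h0
  have hnn : 0 < n * n - n := by
    rcases Nat.eq_zero_or_pos (n * n - n) with h | h
    · rw [h, mul_zero] at h0
      exact absurd h0 Nat.card_pos.ne'
    · exact h
  have hcard : ∀ x y : Ω, x ≠ y →
      Nat.card ↥(stabilizer G x ⊓ stabilizer G y : Subgroup G) = e := by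
    intro x y hxy
    have h1 := Cfsg.Agent.helper11.ZCount.card_eq h2 hxy
    rw [← hn, h0] at h1
    exact (Nat.eq_of_mul_eq_mul_right hnn h1).symm
  have hedvd : e ∣ Nat.card G := by
    rw [h0]; exact dvd_mul_right _ _
  obtain ⟨τ₀, hτ₀, -, -⟩ := (Cfsg.Agent.S0740.result hZ' hab).1
  have h2G : 2 ∣ Nat.card G := by rw [← hτ₀]; exact orderOf_dvd_natCard τ₀
  have hnil : ∀ x y : Ω, x ≠ y → ∀ q : ℕ, q.Prime →
      q ∣ Nat.card ↥(stabilizer G x ⊓ stabilizer G y : Subgroup G) →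
      ¬ ∃ N : Subgroup G, N.Normal ∧ N.index = q ^ (Nat.card G).factorization q := by
    intro x y hxy q hq hqd
    rw [hcard x y hxy] at hqd
    rintro ⟨N, hNn, hNi⟩
    have hq2 : q ≠ 2 := by
      intro hq2
      rw [hq2] at hqd
      exact (Nat.not_even_iff_odd.mpr hodd) (even_iff_two_dvd.mpr hqd)
    rcases hNn.eq_bot_or_eq_top with hN | hN
    · rw [hN, Subgroup.index_bot] at hNi
      rw [hNi] at h2G
      have := (Nat.prime_dvd_prime_iff_eq Nat.prime_two hq).mp
        (Nat.Prime.dvd_of_dvd_pow Nat.prime_two h2G)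
      exact hq2 this.symm
    · rw [hN, Subgroup.index_top] at hNi
      have hpos : 0 < (Nat.card G).factorization q :=
        Nat.Prime.factorization_pos_of_dvd hq Nat.card_pos.ne' (hqd.trans hedvd)
      have : 1 < q ^ (Nat.card G).factorization q := Nat.one_lt_pow hpos.ne' hq.one_lt
      omega
  refine ⟨fun x y hxy => by rw [hcard x y hxy]; exact he, ?_⟩
  exact fun x y hxy => (Cfsg.Agent.S0739.result hZ' hxy (by rw [hcard x y hxy]; exact hodd)
    (hnil x y hxy)).2.2

/-- the value at `g ∈ G_a` of the function induced from a linear character of `G_a`, when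
representatives `r c` of the cosets invert the two-point stabilisers -/
theorem indFun_formula {G Ω : Type*} [Group G] [Fintype G] [MulAction G Ω] [Fintype Ω]
    [DecidableEq Ω] (a : Ω) (lam : ↥(stabilizer G a) →* ℂˣ) (r : Ω → G) (hra : r a = 1)
    (hr : ∀ c, r c • a = c)
    (hinv : ∀ c, c ≠ a → ∀ g : G, g • a = a → g • c = c → (r c)⁻¹ * g * r c = g⁻¹)
    (g : G) (hg : g ∈ stabilizer G a) :
    Cfsg.indFun (stabilizer G a) (fun x => ((lam x : ℂˣ) : ℂ)) g =
      ((lam ⟨g, hg⟩ : ℂˣ) : ℂ) +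
        (((Finset.univ.erase a).filter (fun c => g • c = c)).card : ℂ) *
          ((lam ⟨g, hg⟩⁻¹ : ℂˣ) : ℂ) := by
  classical
  have hga : g • a = a := mem_stabilizer_iff.mp hg
  have hclass : ∀ h y : ↥(stabilizer G a),
      (fun x : ↥(stabilizer G a) => ((lam x : ℂˣ) : ℂ)) (h⁻¹ * y * h) =
        (fun x : ↥(stabilizer G a) => ((lam x : ℂˣ) : ℂ)) y := by
    intro h y
    show ((lam (h⁻¹ * y * h) : ℂˣ) : ℂ) = ((lam y : ℂˣ) : ℂ)
    rw [map_mul, map_mul, map_inv]
    congr 1
    rw [mul_comm, ← mul_assoc, mul_inv_cancel, one_mul]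
  have hbij : Function.Bijective (fun p : Ω × ↥(stabilizer G a) => r p.1 * (p.2 : G)) := by
    constructor
    · rintro ⟨c, x⟩ ⟨c', x'⟩ hcc
      have hcc' : r c * (x : G) = r c' * (x' : G) := hcc
      have h1 : (r c * (x : G)) • a = c := by
        rw [mul_smul, mem_stabilizer_iff.mp x.2, hr]
      have h2 : (r c' * (x' : G)) • a = c' := by
        rw [mul_smul, mem_stabilizer_iff.mp x'.2, hr]
      have hceq : c = c' := by rw [← h1, ← h2, hcc']
      subst hceq
      have : (x : G) = (x' : G) := mul_left_cancel hcc'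
      rw [Subtype.ext this]
    · intro y
      refine ⟨(y • a, ⟨(r (y • a))⁻¹ * y, ?_⟩), ?_⟩
      · rw [mem_stabilizer_iff, mul_smul, inv_smul_eq_iff, hr]
      · show r (y • a) * ((r (y • a))⁻¹ * y) = y
        group
  rw [Cfsg.Agent.helper12.indFun_eq_sum_reps (stabilizer G a) _ hclass r hbij g]
  rw [← Finset.add_sum_erase Finset.univ _ (Finset.mem_univ a)]
  congr 1
  · rw [hra, inv_one, one_mul, mul_one,
      Cfsg.Agent.helper12.extendByZero_of_mem' (stabilizer G a) _ g hg]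
  · have hterm : ∀ c ∈ Finset.univ.erase a,
        Cfsg.extendByZero (stabilizer G a) (fun x => ((lam x : ℂˣ) : ℂ)) ((r c)⁻¹ * g * r c) =
          if g • c = c then ((lam ⟨g, hg⟩⁻¹ : ℂˣ) : ℂ) else 0 := by
      intro c hc
      have hca : c ≠ a := Finset.ne_of_mem_erase hc
      by_cases hgc : g • c = c
      · rw [if_pos hgc]
        have hginv : g⁻¹ ∈ stabilizer G a := Subgroup.inv_mem _ hg
        have e1 := hinv c hca g hga hgc
        rw [e1, Cfsg.Agent.helper12.extendByZero_of_mem' (stabilizer G a) _ _ hginv]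
        rfl
      · rw [if_neg hgc]
        apply Cfsg.Agent.helper12.extendByZero_of_not_mem'
        intro hmem
        apply hgc
        have h1 : ((r c)⁻¹ * g * r c) • a = a := mem_stabilizer_iff.mp hmem
        rw [mul_smul, mul_smul, hr, inv_smul_eq_iff, hr] at h1
        exact h1
    rw [Finset.sum_congr rfl hterm, ← Finset.sum_filter, Finset.sum_const, nsmul_eq_mul]

/-- a twisted sum over a point stabiliser vanishes -/
theorem sum_sq_eq_zero {X Ω : Type*} [Group X] [Fintype X] [MulAction X Ω] [DecidableEq Ω]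
    (lam : X →* ℂˣ) (c : Ω) (y : X) (hyc : y • c = c) (hy : ((lam y : ℂˣ) : ℂ) ^ 2 ≠ 1) :
    ∑ x : X, (if x • c = c then ((lam x : ℂˣ) : ℂ) ^ 2 else 0) = 0 := by
  obtain ⟨F, hF⟩ : ∃ F : X → ℂ,
      F = fun x => (if x • c = c then ((lam x : ℂˣ) : ℂ) ^ 2 else 0) := ⟨_, rfl⟩
  have hFy : ∀ x, F (y * x) = ((lam y : ℂˣ) : ℂ) ^ 2 * F x := by
    intro x
    have hiff : (y * x) • c = c ↔ x • c = c := by
      rw [mul_smul]
      constructor
      · intro h
        exact smul_left_cancel y (h.trans hyc.symm)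
      · intro h; rw [h, hyc]
    have e1 : F (y * x) = (if (y * x) • c = c then ((lam (y * x) : ℂˣ) : ℂ) ^ 2 else 0) := by
      rw [hF]
    have e2 : F x = (if x • c = c then ((lam x : ℂˣ) : ℂ) ^ 2 else 0) := by rw [hF]
    rw [e1, e2]
    by_cases hx : x • c = c
    · rw [if_pos hx, if_pos (hiff.mpr hx), map_mul, Units.val_mul, mul_pow]
    · rw [if_neg hx, if_neg (fun h => hx (hiff.mp h)), mul_zero]
  obtain ⟨S, hS⟩ : ∃ S : ℂ, S = ∑ x : X, F x := ⟨_, rfl⟩
  have hgoal : ∑ x : X, (if x • c = c then ((lam x : ℂˣ) : ℂ) ^ 2 else 0) = S := by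
    rw [hS, hF]
  rw [hgoal]
  have h1 : S = ((lam y : ℂˣ) : ℂ) ^ 2 * S := by
    conv_lhs => rw [hS]
    rw [hS, Finset.mul_sum]
    rw [← Fintype.sum_equiv (Equiv.mulLeft y) (fun x => F (y * x)) F (fun x => rfl)]
    exact Finset.sum_congr rfl (fun x _ => hFy x)
  have h2 : (((lam y : ℂˣ) : ℂ) ^ 2 - 1) * S = 0 := by rw [sub_mul, one_mul, ← h1, sub_self]
  rcases mul_eq_zero.mp h2 with h | h
  · exact absurd (sub_eq_zero.mp h) hy
  · exact h

/-- values of a homomorphism from a finite group to `ℂˣ` have norm one -/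
theorem norm_hom_eq_one {X : Type*} [Group X] [Fintype X] (lam : X →* ℂˣ) (x : X) :
    ‖((lam x : ℂˣ) : ℂ)‖ = 1 := by
  have h : ((lam x : ℂˣ) : ℂ) ^ Fintype.card X = 1 := by
    rw [← Units.val_pow_eq_pow_val, ← map_pow, pow_card_eq_one, map_one, Units.val_one]
  exact Complex.norm_eq_one_of_pow_eq_one h Fintype.card_ne_zero

/-- the norm of the induced function is one, given the value formula and the vanishing sums -/
theorem classInner_indFun_self {G Ω : Type*} [Group G] [Fintype G] [MulAction G Ω] [Fintype Ω]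
    [DecidableEq Ω] (a : Ω) (lam : ↥(stabilizer G a) →* ℂˣ)
    (hform : ∀ (g : G) (hg : g ∈ stabilizer G a),
      Cfsg.indFun (stabilizer G a) (fun x => ((lam x : ℂˣ) : ℂ)) g =
        ((lam ⟨g, hg⟩ : ℂˣ) : ℂ) +
          (((Finset.univ.erase a).filter (fun c => g • c = c)).card : ℂ) *
            ((lam ⟨g, hg⟩⁻¹ : ℂˣ) : ℂ))
    (hzero : ∀ c, c ≠ a → ∑ x : ↥(stabilizer G a),
      (if (x : G) • c = c then ((lam x : ℂˣ) : ℂ) ^ 2 else 0) = 0) :
    Cfsg.classInner (Cfsg.indFun (stabilizer G a) (fun x => ((lam x : ℂˣ) : ℂ)))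
      (Cfsg.indFun (stabilizer G a) (fun x => ((lam x : ℂˣ) : ℂ))) = 1 := by
  classical
  rw [Cfsg.Agent.helper12.classInner_indFun_eq_restrict (stabilizer G a) _ _
    (Cfsg.Agent.helper12.indFun_isClassFunction _ _)]
  unfold Cfsg.classInner
  have hterm : ∀ x : ↥(stabilizer G a),
      ((lam x : ℂˣ) : ℂ) * conj (Cfsg.indFun (stabilizer G a)
        (fun x => ((lam x : ℂˣ) : ℂ)) (x : G)) =
      1 + ∑ c ∈ Finset.univ.erase a, (if (x : G) • c = c then ((lam x : ℂˣ) : ℂ) ^ 2 else 0) := by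
    intro x
    rw [hform (x : G) x.2]
    have hxx : (⟨(x : G), x.2⟩ : ↥(stabilizer G a)) = x := rfl
    rw [hxx]
    obtain ⟨z, hz⟩ : ∃ z : ℂ, z = ((lam x : ℂˣ) : ℂ) := ⟨_, rfl⟩
    have hnorm : ‖z‖ = 1 := by rw [hz]; exact norm_hom_eq_one lam x
    have hz0 : z ≠ 0 := by
      intro h0; rw [h0, norm_zero] at hnorm; exact zero_ne_one hnorm
    have hinvz : ((lam x⁻¹ : ℂˣ) : ℂ) = z⁻¹ := by
      rw [hz, map_inv, Units.val_inv_eq_inv_val]
    have hconj : conj z = z⁻¹ := (Complex.inv_eq_conj hnorm).symm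
    have hconj' : conj (z⁻¹) = z := by
      rw [map_inv₀, hconj, inv_inv]
    rw [← Finset.sum_filter, Finset.sum_const, nsmul_eq_mul, hinvz, ← hz, map_add, map_mul,
      Complex.conj_natCast, hconj, hconj']
    field_simp
  rw [Finset.sum_congr rfl (fun x _ => hterm x), Finset.sum_add_distrib, Finset.sum_comm]
  have hz' : ∑ c ∈ Finset.univ.erase a, ∑ x : ↥(stabilizer G a),
      (if (x : G) • c = c then ((lam x : ℂˣ) : ℂ) ^ 2 else 0) = 0 := by
    apply Finset.sum_eq_zero
    intro c hc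
    exact hzero c (Finset.ne_of_mem_erase hc)
  rw [hz', add_zero, Finset.sum_const, Finset.card_univ, nsmul_eq_mul, mul_one,
    Nat.card_eq_fintype_card]
  have : (Fintype.card ↥(stabilizer G a) : ℂ) ≠ 0 := by
    exact_mod_cast Fintype.card_ne_zero
  exact inv_mul_cancel₀ this

end Cfsg.Agent.helper11.ZInd
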