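import Mathlib

set_option autoImplicit false

namespace Cfsg.Agent.helper11.ZInvol

open MulAction

/-- if every element swapping `x, y` inverts `G_x ∩ G_y` and some involution swaps `x, y`, then the
involutions mapping `x` to `y` are in bijection with `G_x ∩ G_y` -/
theorem card_invol_swapping {G Ω : Type*} [Group G] [Fintype G] [MulAction G Ω] [DecidableEq Ω]
    (x y : Ω) (hxy : x ≠ y)
    (τ : G) (hτ : orderOf τ = 2) (hτx : τ • x = y) (hτy : τ • y = x)
    (hinv : ∀ s : G, s • x = y → s • y = x → ∀ u ∈ stabilizer G x ⊓ stabilizer G y,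
      s * u * s⁻¹ = u⁻¹) :
    (Finset.univ.filter (fun t : G => orderOf t = 2 ∧ t • x = y)).card =
      Nat.card ↥(stabilizer G x ⊓ stabilizer G y : Subgroup G) := by
  classical
  have hττ : τ * τ = 1 := by rw [← pow_two, ← hτ, pow_orderOf_eq_one]
  rw [Nat.card_eq_fintype_card, ← Finset.card_univ]
  symm
  apply Finset.card_bij (fun (u : ↥(stabilizer G x ⊓ stabilizer G y : Subgroup G)) _ => τ * (u : G))
  · intro u _
    rw [Finset.mem_filter]
    obtain ⟨hu1, hu2⟩ := Subgroup.mem_inf.mp u.2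
    have hux : (u : G) • x = x := mem_stabilizer_iff.mp hu1
    have hmx : (τ * (u : G)) • x = y := by rw [mul_smul, hux, hτx]
    refine ⟨Finset.mem_univ _, ?_, hmx⟩
    have hsq : (τ * (u : G)) ^ 2 = 1 := by
      have h := hinv τ hτx hτy u u.2
      rw [pow_two]
      calc τ * (u : G) * (τ * (u : G)) = (τ * (u : G) * τ⁻¹) * (τ * τ) * (u : G) := by group
        _ = (u : G)⁻¹ * (τ * τ) * (u : G) := by rw [h]
        _ = 1 := by rw [hττ]; group
    have hne : τ * (u : G) ≠ 1 := by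
      intro h1
      rw [h1, one_smul] at hmx
      exact hxy hmx
    exact orderOf_eq_prime hsq hne
  · intro u _ v _ huv
    exact Subtype.ext (mul_left_cancel huv)
  · intro t ht
    rw [Finset.mem_filter] at ht
    obtain ⟨-, hto, htx⟩ := ht
    have htt : t * t = 1 := by rw [← pow_two, ← hto, pow_orderOf_eq_one]
    have hty : t • y = x := by
      rw [← htx, ← mul_smul, htt, one_smul]
    refine ⟨⟨τ⁻¹ * t, Subgroup.mem_inf.mpr ⟨?_, ?_⟩⟩, Finset.mem_univ _, ?_⟩
    · rw [mem_stabilizer_iff, mul_smul, htx, inv_smul_eq_iff, hτx]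
    · rw [mem_stabilizer_iff, mul_smul, hty, inv_smul_eq_iff, hτy]
    · show τ * (τ⁻¹ * t) = t
      group

/-- if every element swapping `x, y` inverts `G_x ∩ G_y`, of odd order, then any two elements
swapping `x, y` are conjugate -/
theorem swapping_conj {G Ω : Type*} [Group G] [Finite G] [MulAction G Ω] (x y : Ω)
    (hodd : Odd (Nat.card ↥(stabilizer G x ⊓ stabilizer G y : Subgroup G)))
    (hinv : ∀ s : G, s • x = y → s • y = x → ∀ u ∈ stabilizer G x ⊓ stabilizer G y,
      s * u * s⁻¹ = u⁻¹)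
    (t t' : G) (htx : t • x = y) (hty : t • y = x) (ht'x : t' • x = y) (ht'y : t' • y = x) :
    IsConj t t' := by
  have huE : t⁻¹ * t' ∈ stabilizer G x ⊓ stabilizer G y := by
    refine Subgroup.mem_inf.mpr ⟨?_, ?_⟩
    · rw [mem_stabilizer_iff, mul_smul, ht'x, inv_smul_eq_iff, htx]
    · rw [mem_stabilizer_iff, mul_smul, ht'y, inv_smul_eq_iff, hty]
  obtain ⟨u, hu⟩ : ∃ u, u = t⁻¹ * t' := ⟨_, rfl⟩
  rw [← hu] at huE
  have hoddu : Odd (orderOf u) := by
    have hd : orderOf (⟨u, huE⟩ : ↥(stabilizer G x ⊓ stabilizer G y : Subgroup G)) ∣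
        Nat.card ↥(stabilizer G x ⊓ stabilizer G y : Subgroup G) := orderOf_dvd_natCard _
    rw [Subgroup.orderOf_mk] at hd
    exact Odd.of_dvd_nat hodd hd
  obtain ⟨k, hk⟩ := hoddu
  have hw : u ^ (k + 1) * u ^ (k + 1) = u := by
    rw [← pow_add]
    have : k + 1 + (k + 1) = orderOf u + 1 := by omega
    rw [this, pow_succ, pow_orderOf_eq_one, one_mul]
  obtain ⟨w, hwdef⟩ : ∃ w, w = u ^ (k + 1) := ⟨_, rfl⟩
  rw [← hwdef] at hw
  have hwE : w ∈ stabilizer G x ⊓ stabilizer G y := by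
    rw [hwdef]; exact Subgroup.pow_mem _ huE _
  have htinv1 : t⁻¹ • x = y := by rw [inv_smul_eq_iff]; exact hty.symm
  have htinv2 : t⁻¹ • y = x := by rw [inv_smul_eq_iff]; exact htx.symm
  have h1 := hinv t⁻¹ htinv1 htinv2 w⁻¹ (Subgroup.inv_mem _ hwE)
  rw [inv_inv, inv_inv] at h1
  rw [isConj_iff]
  refine ⟨w⁻¹, ?_⟩
  calc w⁻¹ * t * w⁻¹⁻¹ = t * (t⁻¹ * w⁻¹ * t) * w := by group
    _ = t * w * w := by rw [h1]
    _ = t * (w * w) := by group
    _ = t * u := by rw [hw]
    _ = t' := by rw [hu]; group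

end Cfsg.Agent.helper11.ZInvol
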