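import Mathlib

set_option autoImplicit false

namespace Cfsg.Agent.helper12

/-- spectrum of a direct product -/
theorem range_orderOf_prod {A B : Type*} [Monoid A] [Monoid B] :
    Set.range (orderOf : A × B → ℕ) =
      Set.image2 Nat.lcm (Set.range (orderOf : A → ℕ)) (Set.range (orderOf : B → ℕ)) := by
  ext n
  constructor
  · rintro ⟨x, rfl⟩
    exact ⟨_, ⟨x.1, rfl⟩, _, ⟨x.2, rfl⟩, (Prod.orderOf x).symm⟩
  · rintro ⟨_, ⟨a, rfl⟩, _, ⟨b, rfl⟩, rfl⟩
    exact ⟨(a, b), Prod.orderOf (a, b)⟩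

/-- spectrum of a finite cyclic group -/
theorem range_orderOf_of_isCyclic {C : Type*} [Group C] [Finite C] [IsCyclic C] :
    Set.range (orderOf : C → ℕ) = {d | d ∣ Nat.card C} := by
  ext d
  constructor
  · rintro ⟨x, rfl⟩
    exact orderOf_dvd_natCard x
  · intro hd
    obtain ⟨g, hg⟩ := IsCyclic.exists_ofOrder_eq_natCard (α := C)
    have hpos : 0 < Nat.card C := Nat.card_pos
    obtain ⟨e, he⟩ := hd
    refine ⟨g ^ e, ?_⟩
    rw [orderOf_pow, hg, he]
    have hdpos : 0 < d := by
      rcases Nat.eq_zero_or_pos d with h | h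
      · rw [h, zero_mul] at he; omega
      · exact h
    have hepos : 0 < e := by
      rcases Nat.eq_zero_or_pos e with h | h
      · rw [h, mul_zero] at he; omega
      · exact h
    rw [Nat.gcd_mul_left_left]
    exact Nat.mul_div_cancel _ hepos

/-- the combinatorial core: lcm-pairs from `D1 ∪ P` and `D2 ∪ P` give all lcm-pairs from
`P ∪ D1 ∪ D2`. -/
theorem image2_lcm_divisors (p m₁ m₂ : ℕ) :
    Set.image2 Nat.lcm {d | d ∣ m₁ ∨ d ∣ p} {d | d ∣ m₂ ∨ d ∣ p} =
      Set.image2 Nat.lcm {d | d ∣ p ∨ d ∣ m₁ ∨ d ∣ m₂} {d | d ∣ p ∨ d ∣ m₁ ∨ d ∣ m₂} := by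
  ext n
  constructor
  · rintro ⟨a, ha, b, hb, rfl⟩
    refine ⟨a, ?_, b, ?_, rfl⟩
    · rcases ha with h | h
      · exact Or.inr (Or.inl h)
      · exact Or.inl h
    · rcases hb with h | h
      · exact Or.inr (Or.inr h)
      · exact Or.inl h
  · rintro ⟨a, ha, b, hb, rfl⟩
    have h1 : (1 : ℕ) ∣ m₁ := one_dvd _
    have h2 : (1 : ℕ) ∣ m₂ := one_dvd _
    rcases ha with ha | ha | ha <;> rcases hb with hb | hb | hb
    · exact ⟨Nat.lcm a b, Or.inr (Nat.lcm_dvd ha hb), 1, Or.inl h2, Nat.lcm_one_right _⟩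
    · exact ⟨b, Or.inl hb, a, Or.inr ha, Nat.lcm_comm _ _⟩
    · exact ⟨a, Or.inr ha, b, Or.inl hb, rfl⟩
    · exact ⟨a, Or.inl ha, b, Or.inr hb, rfl⟩
    · exact ⟨Nat.lcm a b, Or.inl (Nat.lcm_dvd ha hb), 1, Or.inl h2, Nat.lcm_one_right _⟩
    · exact ⟨a, Or.inl ha, b, Or.inl hb, rfl⟩
    · exact ⟨b, Or.inr hb, a, Or.inl ha, Nat.lcm_comm _ _⟩
    · exact ⟨b, Or.inl hb, a, Or.inl ha, Nat.lcm_comm _ _⟩
    · exact ⟨1, Or.inl h1, Nat.lcm a b, Or.inl (Nat.lcm_dvd ha hb), Nat.lcm_one_left _⟩

section Aff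

variable (K : Type) [Field K] (S : Subgroup Kˣ)

/-- multiplication by a unit, as an automorphism of the additive group of `K`. -/
def affAut (a : Kˣ) : MulAut (Multiplicative K) where
  toFun b := Multiplicative.ofAdd ((a : K) * Multiplicative.toAdd b)
  invFun b := Multiplicative.ofAdd (((a⁻¹ : Kˣ) : K) * Multiplicative.toAdd b)
  left_inv b := by simp
  right_inv b := by simp
  map_mul' b c := by simp [mul_add]

/-- the action of a subgroup of `Kˣ` on the additive group of `K`. -/
def affHom : S →* MulAut (Multiplicative K) where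
  toFun a := affAut K a
  map_one' := by
    ext b
    simp [affAut]
  map_mul' a b := by
    ext c
    simp [affAut, mul_assoc]

theorem affHom_apply (a : S) (b : Multiplicative K) :
    affHom K S a b = Multiplicative.ofAdd (((a : Kˣ) : K) * Multiplicative.toAdd b) := rfl

/-- the affine-type group `K ⋊ S`. -/
abbrev Aff : Type := Multiplicative K ⋊[affHom K S] S

instance [Finite K] : Finite (Aff K S) :=
  Finite.of_equiv _ (SemidirectProduct.equivProd (φ := affHom K S)).symm

theorem aff_isSolvable : Group.IsSolvable (Aff K S) :=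
  Group.isSolvable_of_ker_le_range (SemidirectProduct.inl (φ := affHom K S))
    (SemidirectProduct.rightHom (φ := affHom K S))
    (le_of_eq SemidirectProduct.range_inl_eq_ker_rightHom.symm)

theorem aff_conj (n : Multiplicative K) (g : S) (hg : g ≠ 1) :
    ∃ c : Aff K S, (⟨n, g⟩ : Aff K S) = c * SemidirectProduct.inr g * c⁻¹ := by
  have hne : (1 : K) - ((g : Kˣ) : K) ≠ 0 := by
    intro h
    apply hg
    have h1 : ((g : Kˣ) : K) = 1 := (sub_eq_zero.mp h).symm
    ext
    simpa using h1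
  refine ⟨SemidirectProduct.inl (Multiplicative.ofAdd (Multiplicative.toAdd n / (1 - ((g : Kˣ) : K)))), ?_⟩
  ext
  · simp only [SemidirectProduct.mul_left, SemidirectProduct.mul_right, SemidirectProduct.left_inl,
      SemidirectProduct.right_inl,
      SemidirectProduct.left_inr, SemidirectProduct.right_inr, SemidirectProduct.inv_left,
      SemidirectProduct.inv_right, map_one, mul_one, one_mul, inv_one, MulAut.one_apply,
      affHom_apply]
    simp only [toAdd_mul, toAdd_ofAdd, toAdd_inv]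
    field_simp
    ring
  · simp

theorem range_orderOf_aff [Finite K] (p : ℕ) [hp : Fact p.Prime] [CharP K p] :
    Set.range (orderOf : Aff K S → ℕ) = {d | d ∣ Nat.card S ∨ d ∣ p} := by
  ext d
  constructor
  · rintro ⟨⟨n, g⟩, rfl⟩
    by_cases hg : g = 1
    · right
      subst hg
      have h1 : (⟨n, 1⟩ : Aff K S) = SemidirectProduct.inl n := by
        ext <;> simp
      rw [h1, orderOf_injective _ SemidirectProduct.inl_injective, orderOf_dvd_iff_pow_eq_one]
      apply Multiplicative.toAdd.injective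
      rw [toAdd_pow, toAdd_one, nsmul_eq_mul, CharP.cast_eq_zero, zero_mul]
    · left
      obtain ⟨c, hc⟩ := aff_conj K S n g hg
      rw [hc]
      have h1 : c * SemidirectProduct.inr g * c⁻¹ = MulAut.conj c (SemidirectProduct.inr g) := rfl
      rw [h1, MulEquiv.orderOf_eq, orderOf_injective _ SemidirectProduct.inr_injective]
      exact orderOf_dvd_natCard g
  · rintro (hd | hd)
    · have h1 := range_orderOf_of_isCyclic (C := S)
      have hd' : d ∈ Set.range (orderOf : S → ℕ) := by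
        rw [h1]
        exact hd
      obtain ⟨g, hg⟩ := hd'
      exact ⟨SemidirectProduct.inr g, by rw [orderOf_injective _ SemidirectProduct.inr_injective, hg]⟩
    · rcases (Nat.dvd_prime hp.out).mp hd with rfl | rfl
      · exact ⟨1, orderOf_one⟩
      · refine ⟨SemidirectProduct.inl (Multiplicative.ofAdd 1), ?_⟩
        rw [orderOf_injective _ SemidirectProduct.inl_injective, orderOf_ofAdd_eq_addOrderOf]
        exact CharP.eq K (CharP.addOrderOf_one K) inferInstance

end Aff

/-- for `m ∣ p ^ n - 1` there is a finite solvable group whose spectrum is the set of divisors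
of `m` together with `p`. -/
theorem exists_solvable_spectrum (p : ℕ) [hp : Fact p.Prime] (n : ℕ) (hn : n ≠ 0) (m : ℕ)
    (hm : m ∣ p ^ n - 1) :
    ∃ (H : Type) (_ : Group H) (_ : Finite H), Group.IsSolvable H ∧
      Set.range (orderOf : H → ℕ) = {d | d ∣ m ∨ d ∣ p} := by
  have hcard : Nat.card (GaloisField p n)ˣ = p ^ n - 1 := by
    rw [Nat.card_units, GaloisField.card p n hn]
  have hpn : 2 ≤ p ^ n := by
    calc 2 ≤ p := hp.out.two_le
      _ = p ^ 1 := (pow_one p).symm
      _ ≤ p ^ n := Nat.pow_le_pow_right hp.out.pos (Nat.one_le_iff_ne_zero.mpr hn)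
  obtain ⟨g₀, hg₀⟩ := IsCyclic.exists_ofOrder_eq_natCard (α := (GaloisField p n)ˣ)
  rw [hcard] at hg₀
  obtain ⟨e, he⟩ := hm
  have hepos : 0 < e := by
    rcases Nat.eq_zero_or_pos e with h | h
    · rw [h, mul_zero] at he; omega
    · exact h
  have hζ : orderOf (g₀ ^ e) = m := by
    rw [orderOf_pow, hg₀, he, Nat.gcd_mul_left_left]
    exact Nat.mul_div_cancel _ hepos
  refine ⟨Aff (GaloisField p n) (Subgroup.zpowers (g₀ ^ e)), inferInstance, inferInstance,
    aff_isSolvable _ _, ?_⟩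
  rw [range_orderOf_aff (GaloisField p n) (Subgroup.zpowers (g₀ ^ e)) p, Nat.card_zpowers, hζ]

/-- a solvable group isospectral to `L × L` when the spectrum of `L` consists of the divisors
of `p`, `m₁`, `m₂`. -/
theorem exists_solvable_isospectral_square (p : ℕ) [hp : Fact p.Prime] (n : ℕ) (hn : n ≠ 0)
    (m₁ m₂ : ℕ) (h1 : m₁ ∣ p ^ n - 1) (h2 : m₂ ∣ p ^ (2 * n) - 1) {L : Type*} [Monoid L]
    (hL : Set.range (orderOf : L → ℕ) = {d | d ∣ p ∨ d ∣ m₁ ∨ d ∣ m₂}) :
    ∃ (H : Type) (_ : Group H) (_ : Finite H), Group.IsSolvable H ∧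
      Set.range (orderOf : H → ℕ) = Set.range (orderOf : L × L → ℕ) := by
  obtain ⟨H1, i1, f1, s1, e1⟩ := exists_solvable_spectrum p n hn m₁ h1
  obtain ⟨H2, i2, f2, s2, e2⟩ := exists_solvable_spectrum p (2 * n) (by omega) m₂ h2
  refine ⟨H1 × H2, inferInstance, inferInstance, inferInstance, ?_⟩
  rw [range_orderOf_prod, range_orderOf_prod, hL, e1, e2, image2_lcm_divisors]

end Cfsg.Agent.helper12
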