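import Mathlib

set_option autoImplicit false

namespace Cfsg.Agent.helper12

/-- the orders of elements of the alternating group in terms of cycle types -/
theorem mem_range_orderOf_alternating (n m : ℕ) :
    m ∈ Set.range (orderOf : alternatingGroup (Fin n) → ℕ) ↔
      ∃ c : Multiset ℕ, (∀ a ∈ c, 2 ≤ a) ∧ c.sum ≤ n ∧ Even (c.sum + Multiset.card c) ∧ c.lcm = m := by
  have hne : (-1 : ℤˣ) ≠ 1 := by decide
  constructor
  · rintro ⟨σ, rfl⟩
    refine ⟨(σ : Equiv.Perm (Fin n)).cycleType, fun a ha => Equiv.Perm.two_le_of_mem_cycleType ha, ?_, ?_, ?_⟩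
    · have := Equiv.Perm.sum_cycleType_le (σ : Equiv.Perm (Fin n))
      rwa [Fintype.card_fin] at this
    · have h1 : Equiv.Perm.sign (σ : Equiv.Perm (Fin n)) = 1 := Equiv.Perm.mem_alternatingGroup.mp σ.2
      rw [Equiv.Perm.sign_of_cycleType] at h1
      exact (neg_one_pow_eq_one_iff_even hne).mp h1
    · rw [Equiv.Perm.lcm_cycleType, Subgroup.orderOf_coe]
  · rintro ⟨c, h2, hsum, heven, rfl⟩
    obtain ⟨g, hg⟩ := (Equiv.Perm.exists_with_cycleType_iff (α := Fin n)).mpr
      ⟨by rwa [Fintype.card_fin], h2⟩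
    have hsign : Equiv.Perm.sign g = 1 := by
      rw [Equiv.Perm.sign_of_cycleType, hg]
      exact (neg_one_pow_eq_one_iff_even hne).mpr heven
    refine ⟨⟨g, Equiv.Perm.mem_alternatingGroup.mpr hsign⟩, ?_⟩
    rw [← Subgroup.orderOf_coe, ← Equiv.Perm.lcm_cycleType]
    simp only [hg]

theorem prime_dvd_multiset_lcm {p : ℕ} (hp : p.Prime) (c : Multiset ℕ) (h : p ∣ c.lcm) : ∃ a ∈ c, p ∣ a := by
  induction c using Multiset.induction_on with
  | empty =>
    simp at h
    exact absurd h hp.one_lt.ne'
  | cons a s ih =>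
    rw [Multiset.lcm_cons] at h
    have h' : p ∣ a * s.lcm := dvd_trans h (lcm_dvd_mul a s.lcm)
    rcases hp.dvd_mul.mp h' with h1 | h1
    · exact ⟨a, Multiset.mem_cons_self a s, h1⟩
    · obtain ⟨b, hb, hpb⟩ := ih h1
      exact ⟨b, Multiset.mem_cons_of_mem hb, hpb⟩

theorem multiset_add_le_sum {c : Multiset ℕ} {a b : ℕ} (ha : a ∈ c) (hb : b ∈ c) (hab : a ≠ b) : a + b ≤ c.sum := by
  obtain ⟨c', rfl⟩ := Multiset.exists_cons_of_mem ha
  have hb' : b ∈ c' := by
    rcases Multiset.mem_cons.mp hb with h | h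
    · exact absurd h.symm hab
    · exact h
  obtain ⟨c'', rfl⟩ := Multiset.exists_cons_of_mem hb'
  simp only [Multiset.sum_cons]
  omega

theorem multiset_le_sum {c : Multiset ℕ} {a : ℕ} (ha : a ∈ c) : a ≤ c.sum := by
  obtain ⟨c', rfl⟩ := Multiset.exists_cons_of_mem ha
  simp only [Multiset.sum_cons]
  omega

/-- S2466 -/
theorem alternating_orderOf_mul_primes (n r s : ℕ) (hr : r.Prime) (hs : s.Prime) (hr2 : r ≠ 2) (hs2 : s ≠ 2) (hrs : r ≠ s)
    (hrn : r ≤ n) (hsn : s ≤ n) :
    (r * s ∈ Set.range (orderOf : alternatingGroup (Fin n) → ℕ)) ↔ r + s ≤ n := by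
  rw [mem_range_orderOf_alternating]
  have hro : Odd r := hr.odd_of_ne_two hr2
  have hso : Odd s := hs.odd_of_ne_two hs2
  constructor
  · rintro ⟨c, h2, hsum, _, hlcm⟩
    obtain ⟨a, ha, hra⟩ := prime_dvd_multiset_lcm hr c (by rw [hlcm]; exact dvd_mul_right r s)
    obtain ⟨b, hb, hsb⟩ := prime_dvd_multiset_lcm hs c (by rw [hlcm]; exact dvd_mul_left s r)
    by_cases hab : a = b
    · subst hab
      have hcop : Nat.Coprime r s := (Nat.coprime_primes hr hs).mpr hrs
      have hdvd : r * s ∣ a := hcop.mul_dvd_of_dvd_of_dvd hra hsb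
      have hapos : 0 < a := by have := h2 a ha; omega
      have h1 : r * s ≤ a := Nat.le_of_dvd hapos hdvd
      have h2' : r + s ≤ r * s := by
        have hr' := hr.two_le
        have hs' := hs.two_le
        nlinarith
      have := multiset_le_sum ha
      omega
    · have := multiset_add_le_sum ha hb hab
      have h1 : r ≤ a := Nat.le_of_dvd (by have := h2 a ha; omega) hra
      have h2' : s ≤ b := Nat.le_of_dvd (by have := h2 b hb; omega) hsb
      omega
  · intro h
    refine ⟨{r, s}, ?_, ?_, ?_, ?_⟩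
    · intro a ha
      simp only [Multiset.insert_eq_cons, Multiset.mem_cons, Multiset.mem_singleton] at ha
      rcases ha with rfl | rfl
      · exact hr.two_le
      · exact hs.two_le
    · simp only [Multiset.insert_eq_cons, Multiset.sum_cons, Multiset.sum_singleton]
      exact h
    · simp only [Multiset.insert_eq_cons, Multiset.sum_cons, Multiset.sum_singleton, Multiset.card_cons, Multiset.card_singleton]
      obtain ⟨k, hk⟩ := hro
      obtain ⟨l, hl⟩ := hso
      exact ⟨k + l + 2, by omega⟩
    · simp only [Multiset.insert_eq_cons, Multiset.lcm_cons, Multiset.lcm_singleton]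
      rw [normalize_eq]
      exact ((Nat.coprime_primes hr hs).mpr hrs).lcm_eq_mul

theorem multiset_two_le_sum_of_ne_zero {c : Multiset ℕ} (h2 : ∀ a ∈ c, 2 ≤ a) (hc : c ≠ 0) : 2 ≤ c.sum := by
  obtain ⟨a, ha⟩ := Multiset.exists_mem_of_ne_zero hc
  have := multiset_le_sum ha
  have := h2 a ha
  omega

/-- S2467 -/
theorem alternating_orderOf_two_mul_prime (n r : ℕ) (hn : 4 ≤ n) (hr : r.Prime) (hr2 : r ≠ 2) (hrn : r ≤ n) :
    (2 * r ∈ Set.range (orderOf : alternatingGroup (Fin n) → ℕ)) ↔ r + 4 ≤ n := by
  rw [mem_range_orderOf_alternating]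
  have hro : Odd r := hr.odd_of_ne_two hr2
  have hr3 : 3 ≤ r := by have := hr.two_le; omega
  obtain ⟨k, hk⟩ := hro
  constructor
  · rintro ⟨c, h2, hsum, heven, hlcm⟩
    obtain ⟨a, ha, hra⟩ := prime_dvd_multiset_lcm hr c (by rw [hlcm]; exact dvd_mul_left r 2)
    have ha2r : a ∣ 2 * r := by rw [← hlcm]; exact Multiset.dvd_lcm ha
    obtain ⟨c', rfl⟩ := Multiset.exists_cons_of_mem ha
    have hacases : a = r ∨ a = 2 * r := by
      obtain ⟨t, rfl⟩ := hra
      have : t ∣ 2 := by
        have : r * t ∣ r * 2 := by rw [mul_comm r 2]; exact ha2r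
        exact Nat.dvd_of_mul_dvd_mul_left hr.pos this
      have ht : t = 1 ∨ t = 2 := (Nat.dvd_prime Nat.prime_two).mp this
      rcases ht with rfl | rfl
      · left; ring
      · right; ring
    have h2' : ∀ b ∈ c', 2 ≤ b := fun b hb => h2 b (Multiset.mem_cons_of_mem hb)
    simp only [Multiset.sum_cons, Multiset.card_cons] at hsum heven
    rcases hacases with rfl | rfl
    · have h2lcm : 2 ∣ c'.lcm := by
        rw [Multiset.lcm_cons] at hlcm
        have h1 : 2 ∣ lcm a c'.lcm := by rw [hlcm]; exact dvd_mul_right 2 a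
        have h3 : 2 ∣ a * c'.lcm := dvd_trans h1 (lcm_dvd_mul a c'.lcm)
        rcases Nat.prime_two.dvd_mul.mp h3 with h | h
        · omega
        · exact h
      obtain ⟨b, hb, h2b⟩ := prime_dvd_multiset_lcm Nat.prime_two c' h2lcm
      obtain ⟨c'', rfl⟩ := Multiset.exists_cons_of_mem hb
      simp only [Multiset.sum_cons, Multiset.card_cons] at hsum heven
      have hb2 := h2' b hb
      by_cases hb4 : 4 ≤ b
      · omega
      · have hb2' : b = 2 := by omega
        subst hb2'
        by_cases hc'' : c'' = 0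
        · subst hc''
          simp only [Multiset.sum_zero, Multiset.card_zero] at heven
          rw [Nat.even_iff] at heven
          omega
        · have := multiset_two_le_sum_of_ne_zero
            (fun d hd => h2' d (Multiset.mem_cons_of_mem hd)) hc''
          omega
    · by_cases hc' : c' = 0
      · subst hc'
        simp only [Multiset.sum_zero, Multiset.card_zero] at heven
        rw [Nat.even_iff] at heven
        omega
      · have := multiset_two_le_sum_of_ne_zero h2' hc'
        omega
  · intro h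
    refine ⟨{r, 2, 2}, ?_, ?_, ?_, ?_⟩
    · intro a ha
      simp only [Multiset.insert_eq_cons, Multiset.mem_cons, Multiset.mem_singleton] at ha
      rcases ha with rfl | rfl | rfl <;> omega
    · simp only [Multiset.insert_eq_cons, Multiset.sum_cons, Multiset.sum_singleton]
      omega
    · simp only [Multiset.insert_eq_cons, Multiset.sum_cons, Multiset.sum_singleton, Multiset.card_cons, Multiset.card_singleton]
      exact ⟨k + 4, by omega⟩
    · simp only [Multiset.insert_eq_cons, Multiset.lcm_cons, Multiset.lcm_singleton]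
      simp only [lcm_same, normalize_eq]
      have hcop : Nat.Coprime r 2 := by
        rw [Nat.coprime_comm, Nat.coprime_primes Nat.prime_two hr]
        exact fun h => hr2 h.symm
      have := hcop.lcm_eq_mul
      rw [mul_comm] at this
      exact this

/-- all nonincreasing lists with entries in `[2, k]` and sum `≤ s` (with fuel) -/
def cycParts : ℕ → ℕ → ℕ → List (List ℕ)
  | 0, _, _ => [[]]
  | f + 1, k, s =>
    if k < 2 then [[]] else
      cycParts f (k - 1) s ++ (if k ≤ s then (cycParts f k (s - k)).map (k :: ·) else [])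

theorem cycParts_complete (f : ℕ) : ∀ (k s : ℕ), k + s ≤ f → ∀ c : Multiset ℕ, (∀ a ∈ c, 2 ≤ a ∧ a ≤ k) → c.sum ≤ s →
    ∃ l ∈ cycParts f k s, (l : Multiset ℕ) = c := by
  induction f with
  | zero =>
    intro k s hf c h2 _
    have hk : k = 0 := by omega
    have hc : c = 0 := by
      apply Multiset.eq_zero_of_forall_notMem
      intro a ha
      have := h2 a ha
      omega
    exact ⟨[], by simp [cycParts], by simp [hc]⟩
  | succ f ih =>
    intro k s hf c h2 hs
    unfold cycParts
    by_cases hk2 : k < 2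
    · rw [if_pos hk2]
      have hc : c = 0 := by
        apply Multiset.eq_zero_of_forall_notMem
        intro a ha
        have := h2 a ha
        omega
      exact ⟨[], by simp, by simp [hc]⟩
    · rw [if_neg hk2]
      by_cases hk : k ∈ c
      · obtain ⟨c', rfl⟩ := Multiset.exists_cons_of_mem hk
        rw [Multiset.sum_cons] at hs
        have hks : k ≤ s := by omega
        obtain ⟨l', hl', hl'c⟩ := ih k (s - k) (by omega) c'
          (fun a ha => h2 a (Multiset.mem_cons_of_mem ha)) (by omega)
        refine ⟨k :: l', ?_, ?_⟩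
        · rw [if_pos hks]
          exact List.mem_append_right _ (List.mem_map.mpr ⟨l', hl', rfl⟩)
        · rw [← hl'c]; rfl
      · obtain ⟨l, hl, hlc⟩ := ih (k - 1) s (by omega) c
          (fun a ha => by
            have := h2 a ha
            have hne : a ≠ k := fun h => hk (h ▸ ha)
            omega) hs
        exact ⟨l, List.mem_append_left _ hl, hlc⟩

theorem multiset_coe_lcm (l : List ℕ) : (l : Multiset ℕ).lcm = l.foldr Nat.lcm 1 := by
  induction l with
  | nil => rfl
  | cons a l ih =>
    rw [← Multiset.cons_coe, Multiset.lcm_cons, ih]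
    rfl

set_option maxRecDepth 100000 in
theorem cycParts_ten_check : ∀ l ∈ cycParts 20 10 10, (l.sum + l.length) % 2 = 0 →
    l.foldr Nat.lcm 1 ∈ ([1, 2, 3, 4, 5, 6, 7, 8, 9, 10, 12, 15, 21] : List ℕ) := by
  decide

/-- S2477 -/
theorem alternating_ten_orders :
    Set.range (orderOf : alternatingGroup (Fin 10) → ℕ) = {1, 2, 3, 4, 5, 6, 7, 8, 9, 10, 12, 15, 21} := by
  ext m
  rw [mem_range_orderOf_alternating]
  constructor
  · rintro ⟨c, h2, hsum, heven, rfl⟩
    obtain ⟨l, hl, rfl⟩ := cycParts_complete 20 10 10 (by norm_num) c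
      (fun a ha => ⟨h2 a ha, le_trans (multiset_le_sum ha) hsum⟩) hsum
    have hev : (l.sum + l.length) % 2 = 0 := by
      rw [Multiset.sum_coe, Multiset.coe_card] at heven
      exact Nat.even_iff.mp heven
    have := cycParts_ten_check l hl hev
    rw [multiset_coe_lcm]
    simp only [List.mem_cons, List.mem_nil_iff, or_false] at this
    simp only [Set.mem_insert_iff, Set.mem_singleton_iff]
    exact this
  · intro hm
    simp only [Set.mem_insert_iff, Set.mem_singleton_iff] at hm
    rcases hm with rfl | rfl | rfl | rfl | rfl | rfl | rfl | rfl | rfl | rfl | rfl | rfl | rfl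
    · exact ⟨((([] : List ℕ)) : Multiset ℕ), by decide, by decide, by decide, by rw [multiset_coe_lcm]; rfl⟩
    · exact ⟨(([2, 2] : List ℕ) : Multiset ℕ), by decide, by decide, by decide, by rw [multiset_coe_lcm]; rfl⟩
    · exact ⟨(([3] : List ℕ) : Multiset ℕ), by decide, by decide, by decide, by rw [multiset_coe_lcm]; rfl⟩
    · exact ⟨(([4, 2] : List ℕ) : Multiset ℕ), by decide, by decide, by decide, by rw [multiset_coe_lcm]; rfl⟩
    · exact ⟨(([5] : List ℕ) : Multiset ℕ), by decide, by decide, by decide, by rw [multiset_coe_lcm]; rfl⟩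
    · exact ⟨(([3, 2, 2] : List ℕ) : Multiset ℕ), by decide, by decide, by decide, by rw [multiset_coe_lcm]; rfl⟩
    · exact ⟨(([7] : List ℕ) : Multiset ℕ), by decide, by decide, by decide, by rw [multiset_coe_lcm]; rfl⟩
    · exact ⟨(([8, 2] : List ℕ) : Multiset ℕ), by decide, by decide, by decide, by rw [multiset_coe_lcm]; rfl⟩
    · exact ⟨(([9] : List ℕ) : Multiset ℕ), by decide, by decide, by decide, by rw [multiset_coe_lcm]; rfl⟩
    · exact ⟨(([5, 2, 2] : List ℕ) : Multiset ℕ), by decide, by decide, by decide, by rw [multiset_coe_lcm]; rfl⟩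
    · exact ⟨(([4, 3, 2] : List ℕ) : Multiset ℕ), by decide, by decide, by decide, by rw [multiset_coe_lcm]; rfl⟩
    · exact ⟨(([5, 3] : List ℕ) : Multiset ℕ), by decide, by decide, by decide, by rw [multiset_coe_lcm]; rfl⟩
    · exact ⟨(([7, 3] : List ℕ) : Multiset ℕ), by decide, by decide, by decide, by rw [multiset_coe_lcm]; rfl⟩

end Cfsg.Agent.helper12
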