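import Cfsg.Agent.Lib_helper12_IndFun
import Cfsg.Prelude.Def_ParabolicCharacters

set_option autoImplicit false

namespace Cfsg.Agent.helper12

open Matrix
open scoped ComplexConjugate

variable {F : Type*} [Field F]

/-- Borel subgroup of SL2 -/
abbrev sl2Borel (F : Type*) [Field F] : Subgroup (Matrix.SpecialLinearGroup (Fin 2) F) :=
  (Cfsg.upperTriangularGL 2 F).comap Matrix.SpecialLinearGroup.toGL

theorem mem_upperTriangularGL_two (x : GL (Fin 2) F) :
    x ∈ Cfsg.upperTriangularGL 2 F ↔ (x : Matrix (Fin 2) (Fin 2) F) 1 0 = 0 := by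
  change (x : Matrix (Fin 2) (Fin 2) F).BlockTriangular id ↔ _
  constructor
  · intro h
    exact h (by decide : (id (0 : Fin 2)) < id 1)
  · intro h i j hij
    fin_cases i <;> fin_cases j <;> simp_all

theorem mem_sl2Borel (x : Matrix.SpecialLinearGroup (Fin 2) F) :
    x ∈ sl2Borel F ↔ (x : Matrix (Fin 2) (Fin 2) F) 1 0 = 0 := by
  rw [Subgroup.mem_comap, mem_upperTriangularGL_two]
  rfl

/-- coset representatives of SL2 / B -/
def sl2Rep : Option F → Matrix.SpecialLinearGroup (Fin 2) F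
  | none => 1
  | some t => ⟨!![t, -1; 1, 0], by simp [Matrix.det_fin_two]⟩

theorem sl2_inv_apply (x : Matrix.SpecialLinearGroup (Fin 2) F) :
    ((x⁻¹ : Matrix.SpecialLinearGroup (Fin 2) F) : Matrix (Fin 2) (Fin 2) F)
      = !![(x : Matrix (Fin 2) (Fin 2) F) 1 1, -(x : Matrix (Fin 2) (Fin 2) F) 0 1; -(x : Matrix (Fin 2) (Fin 2) F) 1 0, (x : Matrix (Fin 2) (Fin 2) F) 0 0] := by
  rw [Matrix.SpecialLinearGroup.coe_inv, Matrix.adjugate_fin_two]

theorem sl2Rep_conj_10 (g : Matrix.SpecialLinearGroup (Fin 2) F) (t : F) :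
    (((sl2Rep (some t))⁻¹ * g * sl2Rep (some t) : Matrix.SpecialLinearGroup (Fin 2) F) : Matrix (Fin 2) (Fin 2) F) 1 0
      = (g : Matrix (Fin 2) (Fin 2) F) 1 0 * t ^ 2 + ((g : Matrix (Fin 2) (Fin 2) F) 1 1 - (g : Matrix (Fin 2) (Fin 2) F) 0 0) * t - (g : Matrix (Fin 2) (Fin 2) F) 0 1 := by
  simp only [Matrix.SpecialLinearGroup.coe_mul, sl2_inv_apply]
  simp [sl2Rep, Matrix.mul_apply, Fin.sum_univ_two, Matrix.vecMul, dotProduct]
  ring

theorem sl2Rep_conj_00 (g : Matrix.SpecialLinearGroup (Fin 2) F) (t : F) :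
    (((sl2Rep (some t))⁻¹ * g * sl2Rep (some t) : Matrix.SpecialLinearGroup (Fin 2) F) : Matrix (Fin 2) (Fin 2) F) 0 0
      = (g : Matrix (Fin 2) (Fin 2) F) 1 0 * t + (g : Matrix (Fin 2) (Fin 2) F) 1 1 := by
  simp only [Matrix.SpecialLinearGroup.coe_mul, sl2_inv_apply]
  simp [sl2Rep, Matrix.mul_apply, Fin.sum_univ_two, Matrix.vecMul, dotProduct]

theorem sl2Rep_bijective : Function.Bijective (fun p : Option F × sl2Borel F => sl2Rep p.1 * (p.2 : Matrix.SpecialLinearGroup (Fin 2) F)) := by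
  constructor
  · rintro ⟨i, h⟩ ⟨j, h'⟩ e
    simp only at e
    have key : (sl2Rep j)⁻¹ * sl2Rep i ∈ sl2Borel F := by
      have : (sl2Rep j)⁻¹ * sl2Rep i = (h' : Matrix.SpecialLinearGroup (Fin 2) F) * (h : Matrix.SpecialLinearGroup (Fin 2) F)⁻¹ := by
        rw [inv_mul_eq_iff_eq_mul, ← mul_assoc, ← e]; group
      rw [this]
      exact (sl2Borel F).mul_mem h'.2 ((sl2Borel F).inv_mem h.2)
    rw [mem_sl2Borel, Matrix.SpecialLinearGroup.coe_mul, sl2_inv_apply] at key
    have hij : i = j := by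
      cases i <;> cases j
      · rfl
      · simp [sl2Rep, Matrix.mul_apply, Fin.sum_univ_two] at key
      · simp [sl2Rep, Matrix.mul_apply, Fin.sum_univ_two] at key
      · simp [sl2Rep, Matrix.mul_apply, Fin.sum_univ_two] at key
        congr 1
        linear_combination -key
    subst hij
    have := mul_left_cancel e
    exact Prod.ext rfl (Subtype.ext this)
  · intro x
    by_cases hx : (x : Matrix (Fin 2) (Fin 2) F) 1 0 = 0
    · exact ⟨(none, ⟨x, (mem_sl2Borel x).mpr hx⟩), by simp [sl2Rep]⟩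
    · have hmem : (sl2Rep (some ((x : Matrix (Fin 2) (Fin 2) F) 0 0 / (x : Matrix (Fin 2) (Fin 2) F) 1 0)))⁻¹ * x ∈ sl2Borel F := by
        rw [mem_sl2Borel, Matrix.SpecialLinearGroup.coe_mul, sl2_inv_apply]
        simp [sl2Rep, Matrix.mul_apply, Fin.sum_univ_two]
        field_simp
        ring
      refine ⟨(some ((x : Matrix (Fin 2) (Fin 2) F) 0 0 / (x : Matrix (Fin 2) (Fin 2) F) 1 0), ⟨_, hmem⟩), ?_⟩
      simp

/-- the linear character b ↦ α(b₀₀) of the Borel subgroup of SL2 -/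
noncomputable def sl2BorelChar (α : MulChar F ℂ) : sl2Borel F → ℂ :=
  fun b => α (((b : Matrix.SpecialLinearGroup (Fin 2) F) : Matrix (Fin 2) (Fin 2) F) 0 0)

theorem sl2BorelChar_conj (α : MulChar F ℂ) (h y : sl2Borel F) :
    sl2BorelChar α (h⁻¹ * y * h) = sl2BorelChar α y := by
  unfold sl2BorelChar
  congr 1
  have h10 := (mem_sl2Borel _).mp h.2
  have y10 := (mem_sl2Borel _).mp y.2
  have hd := (h : Matrix.SpecialLinearGroup (Fin 2) F).2
  rw [Matrix.det_fin_two, h10, mul_zero, sub_zero] at hd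
  simp only [Subgroup.coe_mul, Subgroup.coe_inv, Matrix.SpecialLinearGroup.coe_mul, sl2_inv_apply]
  simp [Matrix.mul_apply, Fin.sum_univ_two, Matrix.vecMul, dotProduct, h10, y10]
  linear_combination ((y : Matrix.SpecialLinearGroup (Fin 2) F) : Matrix (Fin 2) (Fin 2) F) 0 0 * hd

theorem extendByZero_sl2BorelChar [DecidableEq F] (α : MulChar F ℂ) (y : Matrix.SpecialLinearGroup (Fin 2) F) :
    Cfsg.extendByZero (sl2Borel F) (sl2BorelChar α) y
      = if (y : Matrix (Fin 2) (Fin 2) F) 1 0 = 0 then α ((y : Matrix (Fin 2) (Fin 2) F) 0 0) else 0 := by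
  split_ifs with h
  · rw [extendByZero_of_mem' _ _ _ ((mem_sl2Borel y).mpr h)]
    rfl
  · rw [extendByZero_of_not_mem' _ _ _ (fun hc => h ((mem_sl2Borel y).mp hc))]

/-- explicit formula for the character induced from the Borel subgroup of SL2 -/
theorem sl2_indBorel_apply [Fintype F] [DecidableEq F] (α : MulChar F ℂ) (g : Matrix.SpecialLinearGroup (Fin 2) F) :
    Cfsg.indFun (sl2Borel F) (sl2BorelChar α) g
      = (if (g : Matrix (Fin 2) (Fin 2) F) 1 0 = 0 then α ((g : Matrix (Fin 2) (Fin 2) F) 0 0) else 0)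
        + ∑ t : F, if (g : Matrix (Fin 2) (Fin 2) F) 1 0 * t ^ 2 + ((g : Matrix (Fin 2) (Fin 2) F) 1 1 - (g : Matrix (Fin 2) (Fin 2) F) 0 0) * t - (g : Matrix (Fin 2) (Fin 2) F) 0 1 = 0
            then α ((g : Matrix (Fin 2) (Fin 2) F) 1 0 * t + (g : Matrix (Fin 2) (Fin 2) F) 1 1) else 0 := by
  rw [indFun_eq_sum_reps (sl2Borel F) (sl2BorelChar α) (sl2BorelChar_conj α) sl2Rep sl2Rep_bijective g,
    Fintype.sum_option]
  congr 1
  · rw [extendByZero_sl2BorelChar]
    simp [sl2Rep]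
  · apply Finset.sum_congr rfl
    intro t _
    rw [extendByZero_sl2BorelChar, sl2Rep_conj_10, sl2Rep_conj_00]


theorem sum_ite_eq_sum_of_bij {α β : Type*} [Fintype α] [Fintype β] (p : α → Prop) [DecidablePred p]
    (m : β → α) (hm : Function.Injective m) (hp : ∀ b, p (m b)) (hsurj : ∀ a, p a → ∃ b, m b = a) (f : α → ℂ) :
    ∑ a, (if p a then f a else 0) = ∑ b, f (m b) := by
  classical
  rw [← Finset.sum_filter]
  have : Finset.univ.filter p = Finset.univ.image m := by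
    ext a
    simp only [Finset.mem_filter, Finset.mem_univ, true_and, Finset.mem_image]
    constructor
    · intro ha; exact hsurj a ha
    · rintro ⟨b, rfl⟩; exact hp b
  rw [this, Finset.sum_image (fun x _ y _ h => hm h)]

theorem sum_units_mulChar [Fintype F] [DecidableEq F] (χ : MulChar F ℂ) [Decidable (χ = 1)] :
    ∑ a : Fˣ, χ (a : F) = if χ = 1 then ((Fintype.card F : ℂ) - 1) else 0 := by
  split_ifs with h
  · subst h
    simp only [MulChar.one_apply_coe, Finset.sum_const, Finset.card_univ, nsmul_eq_mul, mul_one]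
    rw [Fintype.card_units, Nat.cast_sub Fintype.card_pos]
    simp
  · obtain ⟨b, hb⟩ := MulChar.ne_one_iff.mp h
    have : χ b * ∑ a : Fˣ, χ (a : F) = ∑ a : Fˣ, χ (a : F) := by
      rw [Finset.mul_sum]
      refine Fintype.sum_equiv (Equiv.mulLeft b) _ _ (fun a => ?_)
      simp
    have h2 : (χ b - 1) * ∑ a : Fˣ, χ (a : F) = 0 := by rw [sub_mul, this, one_mul, sub_self]
    exact (mul_eq_zero.mp h2).resolve_left (sub_ne_zero.mpr hb)

theorem mulChar_units_inv (β : MulChar F ℂ) (a : Fˣ) : β ((a⁻¹ : Fˣ) : F) = (β (a : F))⁻¹ := by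
  apply eq_inv_of_mul_eq_one_left
  rw [← map_mul, ← Units.val_mul, inv_mul_cancel, Units.val_one, map_one]

/-- upper triangular elements of SL2 -/
def sl2UT (a : Fˣ) (b : F) : Matrix.SpecialLinearGroup (Fin 2) F :=
  ⟨!![(a : F), b; 0, ((a⁻¹ : Fˣ) : F)], by simp [Matrix.det_fin_two]⟩

theorem sl2UT_injective : Function.Injective (fun p : Fˣ × F => sl2UT p.1 p.2) := by
  rintro ⟨a, b⟩ ⟨a', b'⟩ h
  have h' := congrArg (fun m : Matrix.SpecialLinearGroup (Fin 2) F => (m : Matrix (Fin 2) (Fin 2) F)) h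
  simp only [sl2UT] at h'
  have e0 := congrFun (congrFun h' 0) 0
  have e1 := congrFun (congrFun h' 0) 1
  simp at e0 e1
  exact Prod.ext (Units.ext e0) e1

theorem sl2UT_surj (g : Matrix.SpecialLinearGroup (Fin 2) F) (h : (g : Matrix (Fin 2) (Fin 2) F) 1 0 = 0) :
    ∃ p : Fˣ × F, sl2UT p.1 p.2 = g := by
  have hd := g.2
  rw [Matrix.det_fin_two, h, mul_zero, sub_zero] at hd
  refine ⟨(Units.mkOfMulEqOne _ _ hd, (g : Matrix (Fin 2) (Fin 2) F) 0 1), ?_⟩
  apply Subtype.ext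
  ext i j
  fin_cases i <;> fin_cases j <;> simp [sl2UT, h]
  exact inv_eq_of_mul_eq_one_right hd

theorem card_sl2Borel [Fintype F] : Nat.card (sl2Borel F) = (Fintype.card F - 1) * Fintype.card F := by
  classical
  let φ : Fˣ × F → sl2Borel F := fun p => ⟨sl2UT p.1 p.2, (mem_sl2Borel _).mpr (by simp [sl2UT])⟩
  have hφ : Function.Bijective φ := by
    constructor
    · intro p p' h
      exact sl2UT_injective (congrArg Subtype.val h)
    · rintro ⟨g, hg⟩
      obtain ⟨p, hp⟩ := sl2UT_surj g ((mem_sl2Borel g).mp hg)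
      exact ⟨p, Subtype.ext hp⟩
  rw [← Nat.card_congr (Equiv.ofBijective φ hφ), Nat.card_eq_fintype_card, Fintype.card_prod, Fintype.card_units]


open scoped ComplexConjugate

theorem sl2_indBorel_sl2UT [Fintype F] [DecidableEq F] (β : MulChar F ℂ) (a : Fˣ) (b : F) :
    Cfsg.indFun (sl2Borel F) (sl2BorelChar β) (sl2UT a b)
      = β (a : F) + ∑ t : F, if b = (((a⁻¹ : Fˣ) : F) - (a : F)) * t then β ((a⁻¹ : Fˣ) : F) else 0 := by
  rw [sl2_indBorel_apply]
  simp only [sl2UT]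
  simp only [Matrix.of_apply, Matrix.cons_val', Matrix.cons_val_zero,
    Matrix.cons_val_one, Matrix.cons_val_fin_one, if_true, zero_mul, zero_add]
  congr 1
  apply Finset.sum_congr rfl
  intro t _
  refine if_congr ?_ rfl rfl
  rw [sub_eq_zero]
  exact eq_comm

theorem sl2UT_00 (a : Fˣ) (b : F) : (sl2UT a b : Matrix (Fin 2) (Fin 2) F) 0 0 = (a : F) := by
  simp [sl2UT]

/-- Mackey formula for the principal series of SL2 -/
theorem sl2_classInner_indBorel [Fintype F] [DecidableEq F] (α β : MulChar F ℂ)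
    [Decidable (α = β)] [Decidable (α = β⁻¹)] :
    Cfsg.classInner (Cfsg.indFun (sl2Borel F) (sl2BorelChar α)) (Cfsg.indFun (sl2Borel F) (sl2BorelChar β))
      = (if α = β then 1 else 0) + (if α = β⁻¹ then 1 else 0) := by
  classical
  rw [classInner_indFun _ _ _ (indFun_isClassFunction _ _)]
  simp only [extendByZero_sl2BorelChar, ite_mul, zero_mul]
  rw [sum_ite_eq_sum_of_bij (fun g : Matrix.SpecialLinearGroup (Fin 2) F => (g : Matrix (Fin 2) (Fin 2) F) 1 0 = 0)
    (fun p : Fˣ × F => sl2UT p.1 p.2) sl2UT_injective (fun p => by simp [sl2UT]) sl2UT_surj]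
  rw [Fintype.sum_prod_type]
  have h1 : ∀ a : Fˣ, ∑ b : F, α ((sl2UT a b : Matrix (Fin 2) (Fin 2) F) 0 0) *
      conj (Cfsg.indFun (sl2Borel F) (sl2BorelChar β) (sl2UT a b)) =
      (Fintype.card F : ℂ) * ((α * β⁻¹) (a : F) + (α * β) (a : F)) := by
    intro a
    have h2 : ∀ b : F, α ((sl2UT a b : Matrix (Fin 2) (Fin 2) F) 0 0) *
        conj (Cfsg.indFun (sl2Borel F) (sl2BorelChar β) (sl2UT a b))
        = α (a : F) * conj (β (a : F)) + ∑ t : F, if b = (((a⁻¹ : Fˣ) : F) - (a : F)) * t then α (a : F) * conj (β ((a⁻¹ : Fˣ) : F)) else 0 := by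
      intro b
      rw [sl2_indBorel_sl2UT, map_add, map_sum, mul_add, Finset.mul_sum, sl2UT_00]
      congr 1
      apply Finset.sum_congr rfl
      intro t _
      rw [apply_ite conj, map_zero, mul_ite, mul_zero]
    rw [Finset.sum_congr rfl (fun b _ => h2 b), Finset.sum_add_distrib, Finset.sum_comm]
    simp only [Finset.sum_ite_eq', Finset.mem_univ, if_true, Finset.sum_const, Finset.card_univ, nsmul_eq_mul]
    rw [← mul_add]
    congr 2
    · rw [MulChar.mul_apply, ← MulChar.star_apply']; rfl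
    · rw [MulChar.mul_apply]
      congr 1
      have : conj (β ((a⁻¹ : Fˣ) : F)) = star (β ((a⁻¹ : Fˣ) : F)) := rfl
      rw [this, MulChar.star_apply', MulChar.inv_apply_eq_inv', mulChar_units_inv, inv_inv]
  simp only []
  rw [Finset.sum_congr rfl (fun a _ => h1 a), ← Finset.mul_sum, Finset.sum_add_distrib,
    sum_units_mulChar, sum_units_mulChar, card_sl2Borel]
  have hq : (1:ℕ) < Fintype.card F := Fintype.one_lt_card
  have hq0 : (Fintype.card F : ℂ) ≠ 0 := by
    have : (0:ℕ) < Fintype.card F := by omega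
    exact_mod_cast this.ne'
  have hq1 : (Fintype.card F : ℂ) - 1 ≠ 0 := by
    have : ((Fintype.card F - 1 : ℕ) : ℂ) ≠ 0 := by
      have : (0:ℕ) < Fintype.card F - 1 := by omega
      exact_mod_cast this.ne'
    rwa [Nat.cast_sub hq.le, Nat.cast_one] at this
  rw [Nat.cast_mul, Nat.cast_sub hq.le, Nat.cast_one]
  have e1 : (α * β⁻¹ = 1) ↔ α = β := mul_inv_eq_one
  have e2 : (α * β = 1) ↔ α = β⁻¹ := mul_eq_one_iff_eq_inv
  simp only [e1, e2]
  split_ifs <;> field_simp <;> ring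


end Cfsg.Agent.helper12
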