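import Cfsg.Agent.Lib_helper12_Psl2Orders
import Cfsg.Agent.Lib_helper12_Sl2Borel

set_option autoImplicit false

namespace Cfsg.Agent.helper12

open Matrix Cfsg

variable {F : Type*} [Field F]

theorem quad_roots_card_le_two [Fintype F] [DecidableEq F] (α β δ : F) (hδ : δ ≠ 0) :
    (Finset.univ.filter (fun y : F => α + β * y + δ * y ^ 2 = 0)).card ≤ 2 := by
  by_contra h
  push Not at h
  obtain ⟨y1, y2, y3, h1, h2, h3, h12, h13, h23⟩ := Finset.two_lt_card_iff.mp h
  simp only [Finset.mem_filter, Finset.mem_univ, true_and] at h1 h2 h3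
  have e1 : (y1 - y2) * (β + δ * (y1 + y2)) = 0 := by linear_combination h1 - h2
  have e2 : (y1 - y3) * (β + δ * (y1 + y3)) = 0 := by linear_combination h1 - h3
  have e1' := (mul_eq_zero.mp e1).resolve_left (sub_ne_zero.mpr h12)
  have e2' := (mul_eq_zero.mp e2).resolve_left (sub_ne_zero.mpr h13)
  have : δ * (y2 - y3) = 0 := by linear_combination e1' - e2'
  rcases mul_eq_zero.mp this with h | h
  · exact hδ h
  · exact h23 (sub_eq_zero.mp h)

/-- a value of a quadratic avoiding `± f 0` -/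
theorem exists_quad_value_ne [Fintype F] (h4 : 4 ≤ Fintype.card F) (γ β δ : F) (hδ : δ ≠ 0) :
    ∃ y : F, γ + β * y + δ * y ^ 2 ≠ γ ∧ γ + β * y + δ * y ^ 2 ≠ -γ := by
  classical
  by_contra hcon
  push Not at hcon
  have hsub : (Finset.univ : Finset F) ⊆ (Finset.univ.filter (fun y : F => 0 + β * y + δ * y ^ 2 = 0))
      ∪ (Finset.univ.filter (fun y : F => 2 * γ + β * y + δ * y ^ 2 = 0)) := by
    intro y _
    rw [Finset.mem_union, Finset.mem_filter, Finset.mem_filter]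
    by_cases h1 : γ + β * y + δ * y ^ 2 = γ
    · left; exact ⟨Finset.mem_univ _, by linear_combination h1⟩
    · right; exact ⟨Finset.mem_univ _, by linear_combination hcon y h1⟩
  have hc1 := quad_roots_card_le_two 0 β δ hδ
  have hc2 := quad_roots_card_le_two (2 * γ) β δ hδ
  by_cases h2 : (2 : F) = 0
  · have hsub' : (Finset.univ : Finset F) ⊆ (Finset.univ.filter (fun y : F => 0 + β * y + δ * y ^ 2 = 0)) := by
      intro y hy
      have := hsub hy
      rw [Finset.mem_union] at this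
      rcases this with h | h
      · exact h
      · rw [Finset.mem_filter] at h ⊢
        refine ⟨h.1, ?_⟩
        have h' := h.2
        rw [h2] at h'
        linear_combination h'
    have := Finset.card_le_card hsub'
    rw [Finset.card_univ] at this
    omega
  · have hodd : Fintype.card F % 2 = 1 := by
      by_contra hne
      have he : Fintype.card F % 2 = 0 := by omega
      have hch := FiniteField.even_card_iff_char_two.mpr he
      apply h2
      have := ringChar.of_eq hch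
      exact_mod_cast CharP.cast_eq_zero F 2
    have := (Finset.card_le_card hsub).trans (Finset.card_union_le _ _)
    rw [Finset.card_univ] at this
    omega

/-- the Weyl element of SL₂ -/
def sl2Wd : Matrix.SpecialLinearGroup (Fin 2) F := ⟨!![0, 1; -1, 0], by simp [Matrix.det_fin_two]⟩

/-- a lower unipotent element of SL₂ -/
def sl2Ld (z : F) : Matrix.SpecialLinearGroup (Fin 2) F := ⟨!![1, 0; z, 1], by simp [Matrix.det_fin_two]⟩

/-- every nonscalar element of SL₂ has a conjugate with nonzero lower-left entry -/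
theorem sl2_exists_conj_10_ne (M : Matrix.SpecialLinearGroup (Fin 2) F)
    (h : ¬ IsScalar2 (M : Matrix (Fin 2) (Fin 2) F)) :
    ∃ P : Matrix.SpecialLinearGroup (Fin 2) F,
      ((P * M * P⁻¹ : Matrix.SpecialLinearGroup (Fin 2) F) : Matrix (Fin 2) (Fin 2) F) 1 0 ≠ 0 := by
  by_cases h10 : (M : Matrix (Fin 2) (Fin 2) F) 1 0 = 0
  · by_cases h01 : (M : Matrix (Fin 2) (Fin 2) F) 0 1 = 0
    · have had : (M : Matrix (Fin 2) (Fin 2) F) 0 0 ≠ (M : Matrix (Fin 2) (Fin 2) F) 1 1 := fun e => h ⟨h01, h10, e⟩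
      refine ⟨sl2Ld 1, ?_⟩
      rw [Matrix.SpecialLinearGroup.coe_mul, Matrix.SpecialLinearGroup.coe_mul, sl2_inv_apply]
      simp only [Matrix.mul_apply, Fin.sum_univ_two]
      simp [sl2Ld, h10, h01]
      intro e
      apply had
      linear_combination e
    · refine ⟨sl2Wd, ?_⟩
      rw [Matrix.SpecialLinearGroup.coe_mul, Matrix.SpecialLinearGroup.coe_mul, sl2_inv_apply]
      simp only [Matrix.mul_apply, Fin.sum_univ_two]
      simp [sl2Wd, h10, h01]
  · exact ⟨1, by simpa using h10⟩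

theorem sl2_trace_mul_conj_UT (A B : Matrix.SpecialLinearGroup (Fin 2) F) (y : F) :
    ((A * (sl2UT 1 y * B * (sl2UT 1 y)⁻¹) : Matrix.SpecialLinearGroup (Fin 2) F) : Matrix (Fin 2) (Fin 2) F).trace
      = ((A * B : Matrix.SpecialLinearGroup (Fin 2) F) : Matrix (Fin 2) (Fin 2) F).trace
        + ((A : Matrix (Fin 2) (Fin 2) F) 0 0 * (B : Matrix (Fin 2) (Fin 2) F) 1 0
            - (A : Matrix (Fin 2) (Fin 2) F) 1 0 * (B : Matrix (Fin 2) (Fin 2) F) 0 0
            + (A : Matrix (Fin 2) (Fin 2) F) 1 0 * (B : Matrix (Fin 2) (Fin 2) F) 1 1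
            - (A : Matrix (Fin 2) (Fin 2) F) 1 1 * (B : Matrix (Fin 2) (Fin 2) F) 1 0) * y
        + (-((A : Matrix (Fin 2) (Fin 2) F) 1 0 * (B : Matrix (Fin 2) (Fin 2) F) 1 0)) * y ^ 2 := by
  rw [Matrix.SpecialLinearGroup.coe_mul, Matrix.SpecialLinearGroup.coe_mul, Matrix.SpecialLinearGroup.coe_mul,
    Matrix.SpecialLinearGroup.coe_mul, sl2_inv_apply]
  simp only [Matrix.trace_fin_two, Matrix.mul_apply, Fin.sum_univ_two]
  simp [sl2UT]
  ring

theorem psl2_isConj_trace {X Y : Matrix.SpecialLinearGroup (Fin 2) F}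
    (h : IsConj (QuotientGroup.mk X : Matrix.ProjectiveSpecialLinearGroup (Fin 2) F) (QuotientGroup.mk Y)) :
    (Y : Matrix (Fin 2) (Fin 2) F).trace = (X : Matrix (Fin 2) (Fin 2) F).trace
      ∨ (Y : Matrix (Fin 2) (Fin 2) F).trace = -(X : Matrix (Fin 2) (Fin 2) F).trace := by
  obtain ⟨k, hk⟩ := isConj_iff.mp h
  obtain ⟨K, rfl⟩ := QuotientGroup.mk_surjective k
  have h1 : (QuotientGroup.mk (K * X * K⁻¹) : Matrix.ProjectiveSpecialLinearGroup (Fin 2) F) = QuotientGroup.mk Y := by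
    rw [← hk]; rfl
  have h2 := QuotientGroup.eq.mp h1
  obtain ⟨r, hr, hrc⟩ := Matrix.SpecialLinearGroup.mem_center_iff.mp h2
  rw [Fintype.card_fin] at hr
  have hY : (Y : Matrix (Fin 2) (Fin 2) F) = ((K * X * K⁻¹ : Matrix.SpecialLinearGroup (Fin 2) F) : Matrix (Fin 2) (Fin 2) F) * Matrix.scalar (Fin 2) r := by
    rw [hrc, ← Matrix.SpecialLinearGroup.coe_mul, mul_inv_cancel_left]
  have ht : (Y : Matrix (Fin 2) (Fin 2) F).trace = r * (X : Matrix (Fin 2) (Fin 2) F).trace := by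
    rw [hY, ← sl2_trace_conj X K]
    simp only [Matrix.trace_fin_two, Matrix.mul_apply, Fin.sum_univ_two]
    simp
    ring
  rcases sq_eq_one_iff.mp hr with h | h
  · left; rw [ht, h, one_mul]
  · right; rw [ht, h]; ring

theorem sl2_not_isScalar2_of_mk_ne_one {A : Matrix.SpecialLinearGroup (Fin 2) F}
    (h : (QuotientGroup.mk A : Matrix.ProjectiveSpecialLinearGroup (Fin 2) F) ≠ 1) :
    ¬ IsScalar2 (A : Matrix (Fin 2) (Fin 2) F) := by
  intro hs
  apply h
  rw [QuotientGroup.eq_one_iff]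
  exact sl2_central_of_scalar A _ ((isScalar2_iff _).mp hs)

/-- S2450: Arad–Herzog for PSL₂ -/
theorem psl2_arad_herzog [Fintype F] (h4 : 4 ≤ Fintype.card F)
    (a b : Matrix.ProjectiveSpecialLinearGroup (Fin 2) F) (ha : a ≠ 1) (hb : b ≠ 1) (c : Matrix.ProjectiveSpecialLinearGroup (Fin 2) F) :
    {g : Matrix.ProjectiveSpecialLinearGroup (Fin 2) F | ∃ u v : Matrix.ProjectiveSpecialLinearGroup (Fin 2) F, g = (u * a * u⁻¹) * (v * b * v⁻¹)} ≠ {g | IsConj c g} := by
  intro heq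
  obtain ⟨A, rfl⟩ := QuotientGroup.mk_surjective a
  obtain ⟨B, rfl⟩ := QuotientGroup.mk_surjective b
  have hA := sl2_not_isScalar2_of_mk_ne_one ha
  have hB := sl2_not_isScalar2_of_mk_ne_one hb
  obtain ⟨P, hP⟩ := sl2_exists_conj_10_ne A hA
  obtain ⟨Q, hQ⟩ := sl2_exists_conj_10_ne B hB
  have hmem : ∀ y : F, IsConj c (QuotientGroup.mk (P * A * P⁻¹ * (sl2UT 1 y * (Q * B * Q⁻¹) * (sl2UT 1 y)⁻¹)) : Matrix.ProjectiveSpecialLinearGroup (Fin 2) F) := by
    intro y
    have : (QuotientGroup.mk (P * A * P⁻¹ * (sl2UT 1 y * (Q * B * Q⁻¹) * (sl2UT 1 y)⁻¹)) : Matrix.ProjectiveSpecialLinearGroup (Fin 2) F)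
        ∈ {g : Matrix.ProjectiveSpecialLinearGroup (Fin 2) F | ∃ u v : Matrix.ProjectiveSpecialLinearGroup (Fin 2) F, g = (u * QuotientGroup.mk A * u⁻¹) * (v * QuotientGroup.mk B * v⁻¹)} := by
      refine ⟨QuotientGroup.mk P, QuotientGroup.mk (sl2UT 1 y * Q), ?_⟩
      simp only [← QuotientGroup.mk_mul, ← QuotientGroup.mk_inv]
      congr 1
      group
    rw [heq] at this
    exact this
  obtain ⟨y, hy1, hy2⟩ := exists_quad_value_ne h4
    ((P * A * P⁻¹ * (Q * B * Q⁻¹) : Matrix.SpecialLinearGroup (Fin 2) F) : Matrix (Fin 2) (Fin 2) F).trace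
    (((P * A * P⁻¹ : Matrix.SpecialLinearGroup (Fin 2) F) : Matrix (Fin 2) (Fin 2) F) 0 0 * ((Q * B * Q⁻¹ : Matrix.SpecialLinearGroup (Fin 2) F) : Matrix (Fin 2) (Fin 2) F) 1 0
            - ((P * A * P⁻¹ : Matrix.SpecialLinearGroup (Fin 2) F) : Matrix (Fin 2) (Fin 2) F) 1 0 * ((Q * B * Q⁻¹ : Matrix.SpecialLinearGroup (Fin 2) F) : Matrix (Fin 2) (Fin 2) F) 0 0
            + ((P * A * P⁻¹ : Matrix.SpecialLinearGroup (Fin 2) F) : Matrix (Fin 2) (Fin 2) F) 1 0 * ((Q * B * Q⁻¹ : Matrix.SpecialLinearGroup (Fin 2) F) : Matrix (Fin 2) (Fin 2) F) 1 1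
            - ((P * A * P⁻¹ : Matrix.SpecialLinearGroup (Fin 2) F) : Matrix (Fin 2) (Fin 2) F) 1 1 * ((Q * B * Q⁻¹ : Matrix.SpecialLinearGroup (Fin 2) F) : Matrix (Fin 2) (Fin 2) F) 1 0)
    (-(((P * A * P⁻¹ : Matrix.SpecialLinearGroup (Fin 2) F) : Matrix (Fin 2) (Fin 2) F) 1 0 * ((Q * B * Q⁻¹ : Matrix.SpecialLinearGroup (Fin 2) F) : Matrix (Fin 2) (Fin 2) F) 1 0))
    (neg_ne_zero.mpr (mul_ne_zero hP hQ))
  rw [← sl2_trace_mul_conj_UT] at hy1 hy2
  have h0 := hmem 0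
  have e0 : sl2UT (1 : Fˣ) (0 : F) = 1 := by
    apply Subtype.ext
    ext i j
    fin_cases i <;> fin_cases j <;> simp [sl2UT]
  rw [e0, one_mul, inv_one, mul_one] at h0
  have hc := (h0.symm.trans (hmem y))
  rcases psl2_isConj_trace hc with h | h
  · exact hy1 h
  · exact hy2 h

end Cfsg.Agent.helper12
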