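import Mathlib

set_option autoImplicit false

/-!
Abstract linear algebra for counting the characters of a block with three sections (helper12):
`V = A ⊕ D A ⊕ ℂ c`, pairwise orthogonal, `D` a diagonal sign matrix.
-/

namespace Cfsg.Agent.helper12

open scoped ComplexConjugate
open Module

section B7

variable {ι : Type*} [Fintype ι]

/-- weighted sesquilinear form -/
noncomputable def b7ip (m : ι → ℂ) (u v : ι → ℂ) : ℂ := ∑ i, m i * u i * conj (v i)

theorem b7ip_add_left (m u u' v : ι → ℂ) : b7ip m (u + u') v = b7ip m u v + b7ip m u' v := by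
  unfold b7ip
  rw [← Finset.sum_add_distrib]
  apply Finset.sum_congr rfl
  intro i _
  simp only [Pi.add_apply]
  ring

theorem b7ip_smul_left (m : ι → ℂ) (c : ℂ) (u v : ι → ℂ) :
    b7ip m (c • u) v = c * b7ip m u v := by
  unfold b7ip
  rw [Finset.mul_sum]
  apply Finset.sum_congr rfl
  intro i _
  simp only [Pi.smul_apply, smul_eq_mul]
  ring

theorem b7ip_add_right (m u v v' : ι → ℂ) : b7ip m u (v + v') = b7ip m u v + b7ip m u v' := by
  unfold b7ip
  rw [← Finset.sum_add_distrib]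
  apply Finset.sum_congr rfl
  intro i _
  simp only [Pi.add_apply, map_add]
  ring

theorem b7ip_smul_right (m : ι → ℂ) (c : ℂ) (u v : ι → ℂ) :
    b7ip m u (c • v) = conj c * b7ip m u v := by
  unfold b7ip
  rw [Finset.mul_sum]
  apply Finset.sum_congr rfl
  intro i _
  simp only [Pi.smul_apply, smul_eq_mul, map_mul]
  ring

theorem b7ip_zero_left (m v : ι → ℂ) : b7ip m 0 v = 0 := by
  simp [b7ip]

theorem b7ip_zero_right (m u : ι → ℂ) : b7ip m u 0 = 0 := by
  simp [b7ip]

theorem b7ip_span_left (m : ι → ℂ) (s : Set (ι → ℂ)) (v : ι → ℂ)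
    (h : ∀ a ∈ s, b7ip m a v = 0) : ∀ u ∈ Submodule.span ℂ s, b7ip m u v = 0 := by
  intro u hu
  induction hu using Submodule.span_induction with
  | mem x hx => exact h x hx
  | zero => exact b7ip_zero_left m v
  | add x y _ _ hx hy => rw [b7ip_add_left, hx, hy, add_zero]
  | smul c x _ hx => rw [b7ip_smul_left, hx, mul_zero]

theorem b7ip_span_right (m : ι → ℂ) (t : Set (ι → ℂ)) (u : ι → ℂ)
    (h : ∀ b ∈ t, b7ip m u b = 0) : ∀ v ∈ Submodule.span ℂ t, b7ip m u v = 0 := by
  intro v hv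
  induction hv using Submodule.span_induction with
  | mem x hx => exact h x hx
  | zero => exact b7ip_zero_right m u
  | add x y _ _ hx hy => rw [b7ip_add_right, hx, hy, add_zero]
  | smul c x _ hx => rw [b7ip_smul_right, hx, mul_zero]

theorem b7ip_span (m : ι → ℂ) (s t : Set (ι → ℂ))
    (h : ∀ a ∈ s, ∀ b ∈ t, b7ip m a b = 0) :
    ∀ u ∈ Submodule.span ℂ s, ∀ v ∈ Submodule.span ℂ t, b7ip m u v = 0 := by
  intro u hu v hv
  apply b7ip_span_left m s v _ u hu
  intro a ha
  exact b7ip_span_right m t a (h a ha) v hv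

/-- definiteness -/
theorem b7ip_self_eq_zero (u : ι → ℂ) (h : b7ip (fun _ => 1) u u = 0) : u = 0 := by
  unfold b7ip at h
  have h1 : ∀ i, (1 : ℂ) * u i * conj (u i) = ((Complex.normSq (u i) : ℝ) : ℂ) := by
    intro i
    rw [one_mul, Complex.mul_conj]
  simp only [h1] at h
  rw [← Complex.ofReal_sum] at h
  have h2 : ∑ i, Complex.normSq (u i) = 0 := by exact_mod_cast h
  have h3 := (Finset.sum_eq_zero_iff_of_nonneg (fun i _ => Complex.normSq_nonneg (u i))).mp h2
  funext i
  exact Complex.normSq_eq_zero.mp (h3 i (Finset.mem_univ i))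

theorem b7_disjoint (S T : Submodule ℂ (ι → ℂ))
    (h : ∀ u ∈ S, ∀ v ∈ T, b7ip (fun _ => 1) u v = 0) : S ⊓ T = ⊥ := by
  rw [Submodule.eq_bot_iff]
  intro x hx
  exact b7ip_self_eq_zero x (h x hx.1 x hx.2)

theorem b7_finrank_sup (S T : Submodule ℂ (ι → ℂ))
    (h : ∀ u ∈ S, ∀ v ∈ T, b7ip (fun _ => 1) u v = 0) :
    finrank ℂ (S ⊔ T : Submodule ℂ (ι → ℂ)) = finrank ℂ S + finrank ℂ T := by
  have h1 := Submodule.finrank_sup_add_finrank_inf_eq S T
  rw [b7_disjoint S T h, finrank_bot, add_zero] at h1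
  exact h1

/-- the diagonal map -/
noncomputable def b7D (ε : ι → ℂ) : (ι → ℂ) →ₗ[ℂ] (ι → ℂ) where
  toFun u i := ε i * u i
  map_add' u v := by
    funext i
    simp only [Pi.add_apply]
    ring
  map_smul' c u := by
    funext i
    simp only [Pi.smul_apply, smul_eq_mul, RingHom.id_apply]
    ring

theorem b7D_apply (ε u : ι → ℂ) (i : ι) : b7D ε u i = ε i * u i := rfl

theorem b7D_injective (ε : ι → ℂ) (hε : ∀ i, ε i = 1 ∨ ε i = -1) :
    Function.Injective (b7D ε) := by
  intro u v huv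
  funext i
  have h1 := congrFun huv i
  rw [b7D_apply, b7D_apply] at h1
  have hne : ε i ≠ 0 := by
    rcases hε i with h | h <;> rw [h] <;> norm_num
  exact mul_left_cancel₀ hne h1

theorem b7ip_D_right (ε : ι → ℂ) (hε : ∀ i, ε i = 1 ∨ ε i = -1) (u v : ι → ℂ) :
    b7ip (fun _ => 1) u (b7D ε v) = b7ip ε u v := by
  unfold b7ip
  apply Finset.sum_congr rfl
  intro i _
  rw [b7D_apply, map_mul]
  rcases hε i with h | h <;> rw [h] <;> simp

theorem b7ip_D_left (ε : ι → ℂ) (u v : ι → ℂ) :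
    b7ip (fun _ => 1) (b7D ε u) v = b7ip ε u v := by
  unfold b7ip
  apply Finset.sum_congr rfl
  intro i _
  rw [b7D_apply]
  ring

/-- restriction to a subtype -/
noncomputable def b7R (p : ι → Prop) : (ι → ℂ) →ₗ[ℂ] ({i // p i} → ℂ) :=
  LinearMap.funLeft ℂ ℂ (Subtype.val : {i // p i} → ι)

theorem b7R_apply (p : ι → Prop) (u : ι → ℂ) (j : {i // p i}) : b7R p u j = u j.1 := rfl

theorem b7_finrank_map_R (p : ι → Prop) (A : Submodule ℂ (ι → ℂ))
    (hinj : ∀ u ∈ A, (∀ i, p i → u i = 0) → u = 0) :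
    finrank ℂ (A.map (b7R p)) = finrank ℂ A := by
  rw [← LinearMap.range_domRestrict]
  apply LinearMap.finrank_range_of_inj
  intro x y hxy
  have h1 : (x : ι → ℂ) - (y : ι → ℂ) ∈ A := A.sub_mem x.2 y.2
  have h2 : (x : ι → ℂ) - (y : ι → ℂ) = 0 := by
    apply hinj _ h1
    intro i hi
    have h3 := congrFun hxy ⟨i, hi⟩
    simp only [LinearMap.domRestrict_apply, b7R_apply] at h3
    rw [Pi.sub_apply, h3, sub_self]
  exact Subtype.ext (sub_eq_zero.mp h2)

theorem b7_sum_subtype (p : ι → Prop) [DecidablePred p] (f : ι → ℂ) :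
    ∑ j : {i // p i}, f j.1 = ∑ i, if p i then f i else 0 := by
  rw [← Finset.sum_filter]
  exact (Finset.sum_subtype (Finset.univ.filter p) (fun x => by simp) f).symm

/-- the count -/
theorem b7_count (ε : ι → ℂ) (hε : ∀ i, ε i = 1 ∨ ε i = -1) (s : Set (ι → ℂ)) (c : ι → ℂ)
    (h1 : ∀ a ∈ s, ∀ b ∈ s, b7ip ε a b = 0)
    (h2 : ∀ a ∈ s, b7ip (fun _ => 1) a c = 0)
    (h3 : ∀ a ∈ s, b7ip ε a c = 0)
    (h4 : Submodule.span ℂ (s ∪ (b7D ε) '' s ∪ {c}) = ⊤)
    (i₀ : ι) (hi₀ : ε i₀ = 1) (hc : c i₀ ≠ 0) [DecidablePred (fun i => ε i = 1)] :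
    Fintype.card ι + 1 = 2 * Fintype.card {i // ε i = 1} := by
  classical
  obtain ⟨A, hA⟩ : ∃ A : Submodule ℂ (ι → ℂ), A = Submodule.span ℂ s := ⟨_, rfl⟩
  have o1 : ∀ u ∈ A, ∀ v ∈ A, b7ip ε u v = 0 := by
    rw [hA]
    exact b7ip_span ε s s h1
  have o2 : ∀ u ∈ A, b7ip (fun _ => 1) u c = 0 := by
    rw [hA]
    exact b7ip_span_left _ s c h2
  have o3 : ∀ u ∈ A, b7ip ε u c = 0 := by
    rw [hA]
    exact b7ip_span_left _ s c h3
  have hcne : c ≠ 0 := by
    intro h
    apply hc
    rw [h]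
    rfl
  -- the total dimension
  have htop : A ⊔ A.map (b7D ε) ⊔ Submodule.span ℂ {c} = ⊤ := by
    rw [← h4, Submodule.span_union, Submodule.span_union, Submodule.span_image, hA]
  have hAD : ∀ u ∈ A, ∀ v ∈ A.map (b7D ε), b7ip (fun _ => 1) u v = 0 := by
    intro u hu v hv
    obtain ⟨v', hv', rfl⟩ := hv
    rw [b7ip_D_right ε hε]
    exact o1 u hu v' hv'
  have hADC : ∀ x ∈ A ⊔ A.map (b7D ε), ∀ y ∈ Submodule.span ℂ {c},
      b7ip (fun _ => 1) x y = 0 := by
    intro x hx y hy
    obtain ⟨u, hu, v, hv, rfl⟩ := Submodule.mem_sup.mp hx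
    obtain ⟨v', hv', rfl⟩ := hv
    obtain ⟨k, rfl⟩ := Submodule.mem_span_singleton.mp hy
    rw [b7ip_smul_right, b7ip_add_left, o2 u hu, b7ip_D_left, o3 v' hv', add_zero, mul_zero]
  have hdimD : finrank ℂ (A.map (b7D ε)) = finrank ℂ A := by
    rw [← LinearMap.range_domRestrict]
    apply LinearMap.finrank_range_of_inj
    intro x y hxy
    apply Subtype.ext
    apply b7D_injective ε hε
    simpa only [LinearMap.domRestrict_apply] using hxy
  have hcard : Fintype.card ι = finrank ℂ A + finrank ℂ A + 1 := by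
    rw [← finrank_fintype_fun_eq_card ℂ, ← finrank_top ℂ (ι → ℂ), ← htop,
      b7_finrank_sup _ _ hADC, b7_finrank_sup _ _ hAD, hdimD, finrank_span_singleton hcne]
  -- the plus part
  have hinjP : ∀ u ∈ A, (∀ i, ε i = 1 → u i = 0) → u = 0 := by
    intro u hu h0
    apply b7ip_self_eq_zero
    have h5 := o1 u hu u hu
    unfold b7ip at h5 ⊢
    rw [← neg_eq_zero, ← Finset.sum_neg_distrib] at h5
    rw [← h5]
    apply Finset.sum_congr rfl
    intro i _
    rcases hε i with h | h
    · rw [h0 i h]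
      simp
    · rw [h]
      ring
  have hinjM : ∀ u ∈ A, (∀ i, ¬ ε i = 1 → u i = 0) → u = 0 := by
    intro u hu h0
    apply b7ip_self_eq_zero
    have h5 := o1 u hu u hu
    unfold b7ip at h5 ⊢
    rw [← h5]
    apply Finset.sum_congr rfl
    intro i _
    rcases hε i with h | h
    · rw [h]
    · have hne : ¬ ε i = 1 := by
        rw [h]
        norm_num
      rw [h0 i hne]
      simp
  have hP : finrank ℂ A + 1 ≤ Fintype.card {i // ε i = 1} := by
    have hcP : b7R (fun i => ε i = 1) c ≠ 0 := by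
      intro h
      apply hc
      have := congrFun h ⟨i₀, hi₀⟩
      rwa [b7R_apply] at this
    have horth : ∀ x ∈ A.map (b7R (fun i => ε i = 1)),
        ∀ y ∈ Submodule.span ℂ {b7R (fun i => ε i = 1) c}, b7ip (fun _ => 1) x y = 0 := by
      intro x hx y hy
      obtain ⟨u, hu, rfl⟩ := hx
      obtain ⟨k, rfl⟩ := Submodule.mem_span_singleton.mp hy
      rw [b7ip_smul_right]
      have h6 : b7ip (fun _ => 1) (b7R (fun i => ε i = 1) u) (b7R (fun i => ε i = 1) c)
          = (b7ip (fun _ => 1) u c + b7ip ε u c) / 2 := by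
        unfold b7ip
        simp only [b7R_apply]
        rw [b7_sum_subtype (fun i => ε i = 1) (fun i => (1 : ℂ) * u i * conj (c i)),
          ← Finset.sum_add_distrib, Finset.sum_div]
        apply Finset.sum_congr rfl
        intro i _
        rcases hε i with h | h
        · rw [if_pos h, h]
          ring
        · have hne : ¬ ε i = 1 := by
            rw [h]
            norm_num
          rw [if_neg hne, h]
          ring
      rw [h6, o2 u hu, o3 u hu]
      simp
    have h7 := b7_finrank_sup _ _ horth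
    rw [b7_finrank_map_R _ A hinjP, finrank_span_singleton hcP] at h7
    rw [← h7, ← finrank_fintype_fun_eq_card ℂ]
    exact Submodule.finrank_le _
  have hMle : finrank ℂ A ≤ Fintype.card {i // ¬ ε i = 1} := by
    rw [← b7_finrank_map_R (fun i => ¬ ε i = 1) A hinjM, ← finrank_fintype_fun_eq_card ℂ]
    exact Submodule.finrank_le _
  have hsplit := Fintype.card_subtype_compl (fun i => ε i = 1)
  have hle : Fintype.card {i // ε i = 1} ≤ Fintype.card ι := Fintype.card_subtype_le _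
  omega

end B7

end Cfsg.Agent.helper12
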