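import Mathlib
import Cfsg.Agent.Lib_helper12_B7a
import Cfsg.Agent.Lib_helper12_Q8f
import Cfsg.Agent.Lib_helper24_CharCentral
import Cfsg.Agent.Lib_helper24_PrincipalLocal2
import Cfsg.Agent.Lib_helper24_CharOrth

set_option autoImplicit false

/-!
The principal 2-block of a group with Sylow 2-subgroup `Q₈`, fused case, central involution
(helper12): `k(B₀) + 1 = 2 · #{χ ∈ B₀ : z ∈ ker χ}`.
-/

namespace Cfsg.Agent.helper12

open Cfsg
open scoped ComplexConjugate

universe u

section B7b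

/-- an element of odd order lies in a normal subgroup of 2-power index -/
theorem b7_odd_mem_of_index {C : Type u} [Group C] [Finite C] (N : Subgroup C) [N.Normal] (k : ℕ)
    (hk : N.index = 2 ^ k) (y : C) (hy : Odd (orderOf y)) : y ∈ N := by
  rw [← QuotientGroup.eq_one_iff]
  have h1 : (QuotientGroup.mk y : C ⧸ N) ^ (2 ^ k) = 1 := by
    rw [← hk, Subgroup.index_eq_card]
    exact pow_card_eq_one'
  have h2 : (QuotientGroup.mk y : C ⧸ N) ^ orderOf y = 1 := by
    rw [← QuotientGroup.mk_pow, pow_orderOf_eq_one]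
    rfl
  have h3 : orderOf (QuotientGroup.mk y : C ⧸ N) ∣ Nat.gcd (2 ^ k) (orderOf y) :=
    Nat.dvd_gcd (orderOf_dvd_of_pow_eq_one h1) (orderOf_dvd_of_pow_eq_one h2)
  have h4 : Nat.gcd (2 ^ k) (orderOf y) = 1 := by
    apply Nat.Coprime.pow_left
    exact (Nat.coprime_two_left).mpr hy
  rw [h4, Nat.dvd_one] at h3
  exact orderOf_eq_one_iff.mp h3

variable {G : Type u} [Group G] [Finite G] {S : Sylow 2 G} {w z : G}

theorem b7_section_w (hq : Q8Data (S : Subgroup G) w z) (M : Ideal AlgInt) (hM : IsPModular 2 M)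
    (y : G) (hyc : w * y = y * w) (hy : Odd (orderOf y)) (χ : IrrCharacter G)
    (hχ : χ ∈ principalBlock M G) :
    (χ : G → ℂ) (w * y) = (χ : G → ℂ) w := by
  haveI : Fact (Nat.Prime 2) := ⟨Nat.prime_two⟩
  obtain ⟨-, k, hk⟩ := q8_cent_w hq
  apply helper24.principal_block_const_on_core 2 M hM w
    ⟨2, by rw [q8_order_w hq]; norm_num⟩ y _ χ hχ
  have hyC : y ∈ Subgroup.centralizer ({w} : Set G) := by
    rw [Subgroup.mem_centralizer_iff]
    intro x hx
    rw [Set.mem_singleton_iff] at hx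
    rw [hx]
    exact hyc
  haveI : (pPrimeCore 2 (Subgroup.centralizer ({w} : Set G))).Normal :=
    helper1.pPrimeCore_normal 2
  refine ⟨⟨y, hyC⟩, ?_, rfl⟩
  apply b7_odd_mem_of_index _ k hk
  rw [Subgroup.orderOf_mk]
  exact hy

theorem b7_isPPart_w (hq : Q8Data (S : Subgroup G) w z) : IsPPart 2 w w :=
  ⟨1, mul_one w, Commute.one_right w, ⟨2, by rw [q8_order_w hq]; norm_num⟩,
    by rw [orderOf_one]; norm_num⟩

theorem b7_isPPart_yz (hq : Q8Data (S : Subgroup G) w z) (hzc : z ∈ Subgroup.center G) {y : G}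
    (hy : Odd (orderOf y)) : IsPPart 2 (y * z) z := by
  have h1 : y * z = z * y := Subgroup.mem_center_iff.mp hzc y
  refine ⟨y, h1.symm, h1.symm, ⟨1, by rw [q8_order_z hq]; norm_num⟩, ?_⟩
  intro h
  have := hy.not_two_dvd_nat
  exact this h

theorem b7_not_conj_of_order {x y : G} (h : orderOf x ≠ orderOf y) : ¬ IsConj x y := by
  intro hc
  obtain ⟨c, hc⟩ := isConj_iff.mp hc
  apply h
  rw [← hc, bs_orderOf_conj]

theorem b7_block_count (hq : Q8Data (S : Subgroup G) w z) (hF : Q8Fused S)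
    (hzc : z ∈ Subgroup.center G) (M : Ideal AlgInt) (hM : IsPModular 2 M) :
    Nat.card (principalBlock M G) + 1 =
      2 * Nat.card {χ : IrrCharacter G // χ ∈ principalBlock M G ∧
        (χ : G → ℂ) z = (χ : G → ℂ) 1} := by
  classical
  haveI : Fact (Nat.Prime 2) := ⟨Nat.prime_two⟩
  letI : Fintype G := Fintype.ofFinite G
  letI : Fintype (IrrCharacter G) := Fintype.ofFinite _
  letI : Fintype (principalBlock M G) := Fintype.ofFinite _
  have hMtop : M ≠ ⊤ := hM.2.1.ne_top
  have hoz := q8_order_z hq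
  have how := q8_order_w hq
  obtain ⟨col, hcol⟩ : ∃ col : G → (principalBlock M G → ℂ),
      col = fun g (χ : principalBlock M G) => (χ.1 : G → ℂ) g := ⟨_, rfl⟩
  obtain ⟨ε, hεdef⟩ : ∃ ε : principalBlock M G → ℂ,
      ε = fun (χ : principalBlock M G) => (χ.1 : G → ℂ) z / (χ.1 : G → ℂ) 1 :=
    ⟨_, rfl⟩
  have hcolapp : ∀ (g : G) (χ : principalBlock M G),
      col g χ = ((χ : IrrCharacter G) : G → ℂ) g := by
    intro g χ
    rw [hcol]
  have hεapp : ∀ χ : principalBlock M G,
      ε χ = ((χ : IrrCharacter G) : G → ℂ) z / ((χ : IrrCharacter G) : G → ℂ) 1 := by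
    intro χ
    rw [hεdef]
  have hne1 : ∀ χ : principalBlock M G, ((χ : IrrCharacter G) : G → ℂ) 1 ≠ 0 := by
    intro χ
    rw [← helper24.char_charDegree_cast (helper24.irr_isCharacter χ.1.2)]
    exact_mod_cast (helper24.irr_charDegree_pos χ.1.2).ne'
  have hcent : ∀ (χ : principalBlock M G) (g : G),
      ((χ : IrrCharacter G) : G → ℂ) (g * z) = ε χ * ((χ : IrrCharacter G) : G → ℂ) g := by
    intro χ g
    rw [hεapp]
    exact helper24.irr_central_apply χ.1.2 z hzc g
  have hε : ∀ χ, ε χ = 1 ∨ ε χ = -1 := by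
    intro χ
    have h1 := hcent χ z
    rw [← pow_two, hq.z_sq] at h1
    have h2 : ((χ : IrrCharacter G) : G → ℂ) z = ε χ * ((χ : IrrCharacter G) : G → ℂ) 1 := by
      rw [hεapp, div_mul_cancel₀ _ (hne1 χ)]
    rw [h2] at h1
    have h3 : ((χ : IrrCharacter G) : G → ℂ) 1 * ((ε χ) ^ 2 - 1) = 0 := by
      linear_combination -h1
    have h4 : (ε χ - 1) * (ε χ + 1) = 0 := by
      rcases mul_eq_zero.mp h3 with h | h
      · exact absurd h (hne1 χ)
      · linear_combination h
    rcases mul_eq_zero.mp h4 with h | h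
    · left; linear_combination h
    · right; linear_combination h
  have horth : ∀ g h x y : G, IsPPart 2 g x → IsPPart 2 h y → ¬ IsConj x y →
      ∑ χ : principalBlock M G, ((χ : IrrCharacter G) : G → ℂ) g *
        conj (((χ : IrrCharacter G) : G → ℂ) h) = 0 := by
    intro g h x y hgx hhy hxy
    have h1 := helper24.block_orthogonality_finset 2 M hM (helper24.oneIrr G) hgx hhy hxy
    refine Eq.trans (Finset.sum_subtype _ (fun χ => ?_)
      (fun χ : IrrCharacter G => (χ : G → ℂ) g * conj ((χ : G → ℂ) h))).symm h1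
    rw [Finset.mem_filter]
    exact ⟨fun h => h.2, fun h => ⟨Finset.mem_univ _, h⟩⟩
  obtain ⟨s, hs⟩ : ∃ s : Set (principalBlock M G → ℂ),
      s = {v | ∃ y : G, Odd (orderOf y) ∧ col y = v} := ⟨_, rfl⟩
  have hz1 : ¬ IsConj z (1 : G) := b7_not_conj_of_order (by rw [hoz, orderOf_one]; norm_num)
  have h1w : ¬ IsConj (1 : G) w := b7_not_conj_of_order (by rw [how, orderOf_one]; norm_num)
  have hzw : ¬ IsConj z w := b7_not_conj_of_order (by rw [how, hoz]; norm_num)
  have h1 : ∀ a ∈ s, ∀ b ∈ s, b7ip ε a b = 0 := by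
    rw [hs]
    rintro _ ⟨y, hy, rfl⟩ _ ⟨y', hy', rfl⟩
    unfold b7ip
    have h5 := horth (y * z) y' z 1 (b7_isPPart_yz hq hzc hy) (q8_isPPart_odd hy') hz1
    rw [← h5]
    apply Finset.sum_congr rfl
    intro χ _
    rw [hcolapp, hcolapp, hcent χ y]
  have h2 : ∀ a ∈ s, b7ip (fun _ => 1) a (col w) = 0 := by
    rw [hs]
    rintro _ ⟨y, hy, rfl⟩
    unfold b7ip
    have h5 := horth y w 1 w (q8_isPPart_odd hy) (b7_isPPart_w hq) h1w
    rw [← h5]
    apply Finset.sum_congr rfl
    intro χ _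
    rw [hcolapp, hcolapp, one_mul]
  have h3 : ∀ a ∈ s, b7ip ε a (col w) = 0 := by
    rw [hs]
    rintro _ ⟨y, hy, rfl⟩
    unfold b7ip
    have h5 := horth (y * z) w z w (b7_isPPart_yz hq hzc hy) (b7_isPPart_w hq) hzw
    rw [← h5]
    apply Finset.sum_congr rfl
    intro χ _
    rw [hcolapp, hcolapp, hcent χ y]
  have hmem : ∀ g : G, col g ∈ s ∪ (b7D ε) '' s ∪ {col w} := by
    intro g
    obtain ⟨x, hx⟩ := helper24.exists_isPPart 2 g
    obtain ⟨y, hxy, hcomm, ⟨k, hk⟩, hyodd⟩ := hx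
    have hyodd' : Odd (orderOf y) := by
      rw [← Nat.not_even_iff_odd, even_iff_two_dvd]
      exact hyodd
    obtain ⟨h, hh⟩ := bs_two_elt_conj_into_sylow S x k hk
    have hxeq : x = h⁻¹ * (h * x * h⁻¹) * h := by group
    by_cases h2 : (h * x * h⁻¹) ^ 2 = 1
    · rcases hq.invol _ hh h2 with h3 | h3
      · have hx1 : x = 1 := by
          rw [hxeq, h3]
          group
        left; left
        rw [hs]
        refine ⟨y, hyodd', ?_⟩
        rw [← hxy, hx1, one_mul]
      · have hxz : x = z := by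
          rw [hxeq, h3, Subgroup.mem_center_iff.mp hzc h⁻¹]
          group
        left; right
        refine ⟨col y, ?_, ?_⟩
        · rw [hs]
          exact ⟨y, hyodd', rfl⟩
        · funext χ
          rw [b7D_apply, hcolapp, hcolapp, ← hcent χ y, ← hxy, hxz,
            Subgroup.mem_center_iff.mp hzc y]
    · obtain ⟨g', hg'⟩ := hF _ hh w hq.w_mem h2 (q8_w_sq_ne hq)
      obtain ⟨t, ht⟩ : ∃ t : G, t * x * t⁻¹ = w := ⟨g' * h, by rw [← hg']; group⟩
      right
      rw [Set.mem_singleton_iff]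
      funext χ
      rw [hcolapp, hcolapp]
      have hcl := helper24.char_isClassFunction (helper24.irr_isCharacter χ.1.2) g t
      have hgconj : t * g * t⁻¹ = w * (t * y * t⁻¹) := by
        rw [← ht, ← hxy]
        group
      rw [← hcl, hgconj]
      apply b7_section_w hq M hM _ _ _ χ.1 χ.2
      · rw [← ht]
        have hc : x * y = y * x := hcomm.eq
        calc t * x * t⁻¹ * (t * y * t⁻¹) = t * (x * y) * t⁻¹ := by group
          _ = t * (y * x) * t⁻¹ := by rw [hc]
          _ = t * y * t⁻¹ * (t * x * t⁻¹) := by group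
      · rw [bs_orderOf_conj]
        exact hyodd'
  have h4 : Submodule.span ℂ (s ∪ (b7D ε) '' s ∪ {col w}) = ⊤ := by
    rw [Submodule.eq_top_iff']
    intro f
    have key : f = ∑ g : G, (∑ χ : principalBlock M G,
        f χ * ((Nat.card G : ℂ)⁻¹ * conj (((χ : IrrCharacter G) : G → ℂ) g))) • col g := by
      funext ψ
      rw [Finset.sum_apply]
      simp only [Pi.smul_apply, smul_eq_mul, hcolapp]
      simp only [Finset.sum_mul]
      rw [Finset.sum_comm]
      have h5 : ∀ χ : principalBlock M G, ∑ g : G,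
          f χ * ((Nat.card G : ℂ)⁻¹ * conj (((χ : IrrCharacter G) : G → ℂ) g)) *
            ((ψ : IrrCharacter G) : G → ℂ) g = f χ * (if ψ = χ then 1 else 0) := by
        intro χ
        have h6 := helper24.irr_classInner ψ.1.2 χ.1.2
        unfold classInner at h6
        have h7 : (((ψ : IrrCharacter G) : G → ℂ) = ((χ : IrrCharacter G) : G → ℂ)) ↔ ψ = χ :=
          ⟨fun h => Subtype.ext (Subtype.ext h), fun h => by rw [h]⟩
        rw [← (if_congr h7 rfl rfl), ← h6, Finset.mul_sum, Finset.mul_sum]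
        apply Finset.sum_congr rfl
        intro g _
        ring
      rw [Finset.sum_congr rfl (fun χ _ => h5 χ)]
      simp
    rw [key]
    apply Submodule.sum_mem
    intro g _
    exact Submodule.smul_mem _ _ (Submodule.subset_span (hmem g))
  obtain ⟨i₀, hi₀def⟩ : ∃ i₀ : principalBlock M G,
      i₀ = ⟨helper24.oneIrr G, helper24.oneIrr_mem_principalBlock hMtop⟩ := ⟨_, rfl⟩
  have hone : ∀ g : G, ((i₀ : IrrCharacter G) : G → ℂ) g = 1 := by
    intro g
    rw [hi₀def]
    rfl
  have hi₀ : ε i₀ = 1 := by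
    rw [hεapp, hone, hone]
    norm_num
  have hc : col w i₀ ≠ 0 := by
    rw [hcolapp, hone]
    norm_num
  have hcount := b7_count ε hε s (col w) h1 h2 h3 h4 i₀ hi₀ hc
  have hiff : ∀ χ : principalBlock M G,
      ε χ = 1 ↔ ((χ : IrrCharacter G) : G → ℂ) z = ((χ : IrrCharacter G) : G → ℂ) 1 := by
    intro χ
    rw [hεapp, div_eq_one_iff_eq (hne1 χ)]
  have e : {i : principalBlock M G // ε i = 1} ≃
      {χ : IrrCharacter G // χ ∈ principalBlock M G ∧ (χ : G → ℂ) z = (χ : G → ℂ) 1} :=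
    { toFun := fun i => ⟨i.1.1, i.1.2, (hiff i.1).mp i.2⟩
      invFun := fun j => ⟨⟨j.1, j.2.1⟩, (hiff _).mpr j.2.2⟩
      left_inv := fun i => rfl
      right_inv := fun j => rfl }
  rw [Nat.card_eq_fintype_card, hcount, ← Nat.card_congr e, Nat.card_eq_fintype_card]

end B7b

end Cfsg.Agent.helper12
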