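import Mathlib
import Cfsg.Prelude
import Cfsg.Agent.Lib_helper24_BlockOrth2

set_option autoImplicit false
set_option linter.unusedVariables false
set_option linter.unusedSectionVars false
set_option linter.style.longLine false
set_option linter.style.haveILetI false

namespace Cfsg.Agent.helper1

open Cfsg
open scoped ComplexConjugate

universe u

section BlockRank

variable {G : Type u} [Group G] [Fintype G]

theorem block_eq_blockOf_of_mem {p : ℕ} {M : Ideal AlgInt} (hM : IsPModular p M)
    {B : Set (IrrCharacter G)} (hB : IsPBlock M B) {ψ : IrrCharacter G} (hψ : ψ ∈ B) :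
    B = blockOf M (ψ : G → ℂ) := by
  haveI : M.IsPrime := hM.2.1.isPrime
  obtain ⟨χ₀, rfl⟩ := hB
  ext φ
  constructor
  · intro hφ
    exact helper24.sameBlock_trans (helper24.sameBlock_symm hψ) hφ
  · intro hφ
    exact helper24.sameBlock_trans hψ hφ

theorem block_nonempty {p : ℕ} {M : Ideal AlgInt} (hM : IsPModular p M)
    {B : Set (IrrCharacter G)} (hB : IsPBlock M B) : B.Nonempty := by
  obtain ⟨χ₀, rfl⟩ := hB
  exact ⟨χ₀, helper24.sameBlock_refl M hM.2.1.ne_top _⟩

theorem pRegularPart_apply_of_regular (p : ℕ) (χ : G → ℂ) (x : G) (hx : ¬ p ∣ orderOf x) :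
    pRegularPart p χ x = χ x := by
  unfold pRegularPart
  exact if_pos hx

theorem pRegularPart_apply_of_singular (p : ℕ) (χ : G → ℂ) (x : G) (hx : p ∣ orderOf x) :
    pRegularPart p χ x = 0 := by
  unfold pRegularPart
  exact if_neg (fun h => h hx)

theorem blockRank_le_card (p : ℕ) (B : Set (IrrCharacter G)) : blockRank p B ≤ Nat.card B := by
  classical
  haveI : Fintype (IrrCharacter G) := Fintype.ofFinite _
  unfold blockRank
  have h1 : ((fun χ : IrrCharacter G => pRegularPart p (χ : G → ℂ)) '' B) =
      ((B.toFinset.image (fun χ : IrrCharacter G => pRegularPart p (χ : G → ℂ)) : Finset (G → ℂ)) : Set (G → ℂ)) := by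
    rw [Finset.coe_image, Set.coe_toFinset]
  rw [h1]
  refine le_trans (finrank_span_finset_le_card _) ?_
  refine le_trans Finset.card_image_le ?_
  rw [Set.toFinset_card, Nat.card_eq_fintype_card]

/-- if the `p`-regular parts of the members of a block are linearly independent then all members
vanish on the `p`-singular elements -/
theorem block_vanish_of_card_eq_rank (p : ℕ) [Fact p.Prime] (M : Ideal AlgInt) (hM : IsPModular p M)
    (B : Set (IrrCharacter G)) (hB : IsPBlock M B) (hcard : Nat.card B = blockRank p B)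
    (χ : IrrCharacter G) (hχ : χ ∈ B) (y : G) (hy : p ∣ orderOf y) : (χ : G → ℂ) y = 0 := by
  classical
  haveI : Fintype (IrrCharacter G) := Fintype.ofFinite _
  have hli : LinearIndependent ℂ (fun χ : B => pRegularPart p ((χ : IrrCharacter G) : G → ℂ)) := by
    rw [linearIndependent_iff_card_eq_finrank_span]
    have hr : Set.range (fun χ : B => pRegularPart p ((χ : IrrCharacter G) : G → ℂ)) =
        (fun χ : IrrCharacter G => pRegularPart p (χ : G → ℂ)) '' B := by
      ext f
      constructor
      · rintro ⟨ψ, rfl⟩; exact ⟨ψ.1, ψ.2, rfl⟩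
      · rintro ⟨ψ, hψ, rfl⟩; exact ⟨⟨ψ, hψ⟩, rfl⟩
    rw [hr, ← Nat.card_eq_fintype_card, hcard]
    rfl
  rw [Fintype.linearIndependent_iff] at hli
  have hsum : ∑ ψ : B, conj (((ψ : IrrCharacter G) : G → ℂ) y) •
      pRegularPart p ((ψ : IrrCharacter G) : G → ℂ) = 0 := by
    funext x
    rw [Finset.sum_apply, Pi.zero_apply]
    by_cases hx : p ∣ orderOf x
    · apply Finset.sum_eq_zero
      intro ψ _
      rw [Pi.smul_apply, pRegularPart_apply_of_singular p _ x hx, smul_zero]
    · have h1 := helper24.weak_block_orthogonality p M hM B hB x y hx hy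
      rw [finsum_mem_eq_finite_toFinset_sum _ (Set.toFinite B),
        Finset.sum_subtype (Set.toFinite B).toFinset (p := fun ψ => ψ ∈ B)
          (fun ψ => by simp)] at h1
      rw [← h1]
      refine Finset.sum_congr rfl fun ψ _ => ?_
      rw [Pi.smul_apply, pRegularPart_apply_of_regular p _ x hx, smul_eq_mul, mul_comm]
  have := hli _ hsum ⟨χ, hχ⟩
  simpa using this

theorem factorization_degree_le (p : ℕ) (χ : IrrCharacter G) :
    (charDegree (χ : G → ℂ)).factorization p ≤ (Nat.card G).factorization p :=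
  (Nat.factorization_le_iff_dvd (helper24.irr_charDegree_pos χ.2).ne' Nat.card_pos.ne').2
    (helper23.irr_degree_dvd_card χ) p

/-- card = rank forces defect zero -/
theorem blockDefect_eq_zero_of_card_eq_rank (p : ℕ) [Fact p.Prime] (M : Ideal AlgInt)
    (hM : IsPModular p M) (B : Set (IrrCharacter G)) (hB : IsPBlock M B)
    (hcard : Nat.card B = blockRank p B) : blockDefect p B = 0 := by
  classical
  have hpp : p.Prime := Fact.out
  unfold blockDefect
  apply Nat.sub_eq_zero_of_le
  apply le_csInf
  · obtain ⟨χ, hχ⟩ := block_nonempty hM hB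
    exact ⟨_, χ, hχ, rfl⟩
  · rintro _ ⟨χ, hχ, rfl⟩
    have hvan := block_vanish_of_card_eq_rank p M hM B hB hcard χ hχ
    have hgen : IsGeneralizedCharacter G (χ : G → ℂ) :=
      ⟨(χ : G → ℂ), 0, helper24.irr_isCharacter χ.2, helper12.isCharacter_zero, by rw [sub_zero]⟩
    obtain ⟨z, hz⟩ := helper24.dvd_degree_of_vanish_psingular p hgen hvan
    have hd : ((charDegree (χ : G → ℂ) : ℕ) : ℂ) = (χ : G → ℂ) 1 :=
      helper24.char_charDegree_cast (helper24.irr_isCharacter χ.2)
    rw [← hd] at hz
    have hz' : ((charDegree (χ : G → ℂ) : ℕ) : ℤ) = ((p ^ (Nat.card G).factorization p : ℕ) : ℤ) * z := by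
      exact_mod_cast hz
    have hdvd : p ^ (Nat.card G).factorization p ∣ charDegree (χ : G → ℂ) :=
      Int.natCast_dvd_natCast.mp ⟨z, hz'⟩
    exact (Nat.Prime.pow_dvd_iff_le_factorization hpp (helper24.irr_charDegree_pos χ.2).ne').1 hdvd

/-- defect zero forces a singleton block of rank one -/
theorem card_rank_of_blockDefect_eq_zero (p : ℕ) [Fact p.Prime] (M : Ideal AlgInt)
    (hM : IsPModular p M) (B : Set (IrrCharacter G)) (hB : IsPBlock M B)
    (hdef : blockDefect p B = 0) : Nat.card B = 1 ∧ blockRank p B = 1 := by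
  classical
  have hpp : p.Prime := Fact.out
  unfold blockDefect at hdef
  set S := (fun χ : IrrCharacter G => (charDegree (χ : G → ℂ)).factorization p) '' B with hS
  have hSne : S.Nonempty := by
    obtain ⟨χ, hχ⟩ := block_nonempty hM hB
    exact ⟨_, χ, hχ, rfl⟩
  obtain ⟨ψ, hψB, hψ⟩ := Nat.sInf_mem hSne
  have hle : (Nat.card G).factorization p ≤ (charDegree (ψ : G → ℂ)).factorization p := by
    simp only at hψ
    rw [hψ]
    exact Nat.sub_eq_zero_iff_le.mp hdef
  have heq : (charDegree (ψ : G → ℂ)).factorization p = (Nat.card G).factorization p :=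
    le_antisymm (factorization_degree_le p ψ) hle
  have hnd : ¬ p ∣ Nat.card G / charDegree (ψ : G → ℂ) := by
    have hd := helper23.irr_degree_dvd_card ψ
    have h1 : (Nat.card G / charDegree (ψ : G → ℂ)).factorization p = 0 := by
      rw [Nat.factorization_div hd, Finsupp.coe_tsub, Pi.sub_apply, heq, Nat.sub_self]
    intro hdvd
    have hne : Nat.card G / charDegree (ψ : G → ℂ) ≠ 0 := by
      have hpos := helper24.irr_charDegree_pos ψ.2
      exact (Nat.div_pos (Nat.le_of_dvd Nat.card_pos hd) hpos).ne'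
    have := (Nat.Prime.factorization_pos_of_dvd hpp hne hdvd)
    omega
  have hsing := (helper24.defect_zero_iff_singleton p M hM ψ).1 hnd
  have hBeq : B = {ψ} := by rw [block_eq_blockOf_of_mem hM hB hψB, hsing]
  constructor
  · rw [hBeq]
    simp
  · rw [hBeq]
    unfold blockRank
    rw [Set.image_singleton]
    apply finrank_span_singleton
    intro h0
    have h1 := congrFun h0 1
    rw [pRegularPart_apply_of_regular p _ 1 (by rw [orderOf_one]; exact hpp.not_dvd_one)] at h1
    exact helper24.irr_apply_one_ne_zero ψ.2 h1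

theorem block_rank_card (p : ℕ) [Fact p.Prime] (M : Ideal AlgInt) (hM : IsPModular p M)
    (B : Set (IrrCharacter G)) (hB : IsPBlock M B) :
    blockRank p B ≤ Nat.card B ∧
    (blockDefect p B = 0 ↔ (Nat.card B = 1 ∧ blockRank p B = 1)) ∧
    (blockDefect p B = 0 ↔ Nat.card B = blockRank p B) := by
  refine ⟨blockRank_le_card p B, ⟨fun h => card_rank_of_blockDefect_eq_zero p M hM B hB h, fun h => ?_⟩,
    ⟨fun h => ?_, fun h => blockDefect_eq_zero_of_card_eq_rank p M hM B hB h⟩⟩
  · exact blockDefect_eq_zero_of_card_eq_rank p M hM B hB (by rw [h.1, h.2])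
  · obtain ⟨h1, h2⟩ := card_rank_of_blockDefect_eq_zero p M hM B hB h
    rw [h1, h2]

end BlockRank

end Cfsg.Agent.helper1
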