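import Mathlib
import Cfsg.Prelude
import Cfsg.Agent.Lib_helper24_BlockBasic
import Cfsg.Agent.Lib_helper23_Central

set_option autoImplicit false
set_option linter.unusedVariables false
set_option linter.unusedSectionVars false
set_option linter.style.longLine false
set_option linter.style.haveILetI false

namespace Cfsg.Agent.helper1

open Cfsg
open scoped ComplexConjugate

universe u

section PAction

/-- a `p`-group acting without fixed points: invariant functions to `ZMod p` sum to zero -/
theorem sum_eq_zero_of_pgroup_action {p : ℕ} [Fact p.Prime] {P : Type*} [Group P]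
    (hP : IsPGroup p P) {α : Type*} [Fintype α] [MulAction P α]
    (hfix : ∀ a : α, ∃ u : P, u • a ≠ a) (F : α → ZMod p) (hF : ∀ (u : P) (a : α), F (u • a) = F a) :
    ∑ a : α, F a = 0 := by
  classical
  rw [← Finset.sum_fiberwise Finset.univ F (fun a => F a)]
  apply Finset.sum_eq_zero
  intro c _
  have h1 : ∀ a ∈ Finset.univ.filter (fun a : α => F a = c), F a = c := by
    intro a ha
    exact (Finset.mem_filter.1 ha).2
  rw [Finset.sum_congr rfl h1, Finset.sum_const, nsmul_eq_mul]
  letI : MulAction P {a : α // F a = c} :=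
    { smul := fun u a => ⟨u • a.1, by rw [hF]; exact a.2⟩
      one_smul := fun a => Subtype.ext (one_smul P a.1)
      mul_smul := fun u v a => Subtype.ext (mul_smul u v a.1) }
  have h2 := hP.card_modEq_card_fixedPoints {a : α // F a = c}
  have h3 : IsEmpty (MulAction.fixedPoints P {a : α // F a = c}) := by
    constructor
    rintro ⟨a, ha⟩
    obtain ⟨u, hu⟩ := hfix a.1
    apply hu
    have := ha u
    exact congrArg Subtype.val this
  have h3' : Nat.card (MulAction.fixedPoints P {a : α // F a = c}) = 0 := Nat.card_of_isEmpty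
  rw [h3', Nat.card_eq_fintype_card, Fintype.card_subtype] at h2
  have h4 : p ∣ (Finset.univ.filter (fun a : α => F a = c)).card := (Nat.modEq_zero_iff_dvd).1 h2
  have h5 : (((Finset.univ.filter (fun a : α => F a = c)).card : ℕ) : ZMod p) = 0 :=
    (ZMod.natCast_eq_zero_iff _ _).2 h4
  rw [h5, zero_mul]

end PAction

section Nilp

variable {G : Type u} [Group G] [Fintype G]

open Classical in
/-- left multiplication by the class sum of `g` on functions `G → ZMod p` -/
noncomputable def classMulZ (p : ℕ) (g : G) : (G → ZMod p) →ₗ[ZMod p] (G → ZMod p) where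
  toFun f := fun h => ∑ x ∈ Finset.univ.filter (fun x : G => IsConj g x), f (x⁻¹ * h)
  map_add' f₁ f₂ := by
    funext h
    simp only [Pi.add_apply, Finset.sum_add_distrib]
  map_smul' c f := by
    funext h
    simp only [Pi.smul_apply, smul_eq_mul, RingHom.id_apply, Finset.mul_sum]

open Classical in
theorem classMulZ_apply (p : ℕ) (g : G) (f : G → ZMod p) (h : G) :
    classMulZ p g f h = ∑ x ∈ Finset.univ.filter (fun x : G => IsConj g x), f (x⁻¹ * h) := rfl

/-- left translation -/
def ltrans {X : Type*} (a : G) (f : G → X) : G → X := fun h => f (a⁻¹ * h)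

open Classical in
theorem classMulZ_ltrans (p : ℕ) (g a : G) (f : G → ZMod p) :
    classMulZ p g (ltrans a f) = ltrans a (classMulZ p g f) := by
  funext h
  unfold ltrans
  rw [classMulZ_apply, classMulZ_apply]
  -- reindex x ↦ a x a⁻¹
  apply Finset.sum_bij (fun x _ => a⁻¹ * x * a)
  · intro x hx
    rw [Finset.mem_filter] at hx ⊢
    refine ⟨Finset.mem_univ _, ?_⟩
    have : IsConj x (a⁻¹ * x * a) := isConj_iff.2 ⟨a⁻¹, by rw [inv_inv]⟩
    exact hx.2.trans this
  · intro x _ y _ hxy
    have := congrArg (fun z => a * z * a⁻¹) hxy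
    simpa [mul_assoc] using this
  · intro y hy
    rw [Finset.mem_filter] at hy
    refine ⟨a * y * a⁻¹, ?_, by group⟩
    rw [Finset.mem_filter]
    refine ⟨Finset.mem_univ _, ?_⟩
    have : IsConj y (a * y * a⁻¹) := isConj_iff.2 ⟨a, rfl⟩
    exact hy.2.trans this
  · intro x _
    congr 1
    group

/-- an invariant nonzero vector in a translation-invariant nonzero subspace -/
theorem exists_invariant_ne_zero {p : ℕ} [Fact p.Prime] (P : Subgroup G) (hP : IsPGroup p P)
    (R : Submodule (ZMod p) (G → ZMod p)) (hR : ∀ a : G, ∀ f ∈ R, ltrans a f ∈ R)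
    (hne : R ≠ ⊥) : ∃ f ∈ R, f ≠ 0 ∧ ∀ u ∈ P, ∀ h, f (u * h) = f h := by
  classical
  have hpp : p.Prime := Fact.out
  letI : MulAction P R :=
    { smul := fun u f => ⟨ltrans (u : G) f.1, hR _ _ f.2⟩
      one_smul := fun f => by
        apply Subtype.ext
        funext h
        show f.1 (((1 : P) : G)⁻¹ * h) = f.1 h
        simp
      mul_smul := fun u v f => by
        apply Subtype.ext
        funext h
        show f.1 (((u * v : P) : G)⁻¹ * h) = f.1 ((v : G)⁻¹ * ((u : G)⁻¹ * h))
        simp [mul_assoc] }
  have hsmul : ∀ (u : P) (f : R) (h : G), (u • f).1 h = f.1 ((u : G)⁻¹ * h) := fun _ _ _ => rfl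
  have h2 := hP.card_modEq_card_fixedPoints R
  -- p divides the cardinality of R
  obtain ⟨f₀, hf₀R, hf₀⟩ := (Submodule.ne_bot_iff R).1 hne
  have hpR : p ∣ Nat.card R := by
    have h3 : addOrderOf (⟨f₀, hf₀R⟩ : R) = p := by
      have h4 : p • (⟨f₀, hf₀R⟩ : R) = 0 := by
        apply Subtype.ext
        funext h
        show p • f₀ h = 0
        rw [nsmul_eq_mul, ZMod.natCast_self, zero_mul]
      have h5 := addOrderOf_dvd_of_nsmul_eq_zero h4
      rcases (Nat.dvd_prime hpp).1 h5 with h6 | h6
      · exfalso
        rw [AddMonoid.addOrderOf_eq_one_iff] at h6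
        apply hf₀
        exact congrArg Subtype.val h6
      · exact h6
    have h10 := addOrderOf_dvd_natCard (⟨f₀, hf₀R⟩ : R)
    rwa [h3] at h10
  have h7 : p ∣ Nat.card (MulAction.fixedPoints P R) :=
    (Nat.modEq_zero_iff_dvd).1 (h2.symm.trans ((Nat.modEq_zero_iff_dvd).2 hpR))
  have h0fix : (0 : R) ∈ MulAction.fixedPoints P R := by
    intro u
    apply Subtype.ext
    funext h
    rw [hsmul]
    rfl
  have hcard : 1 < Nat.card (MulAction.fixedPoints P R) := by
    have hpos : 0 < Nat.card (MulAction.fixedPoints P R) := by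
      haveI : Nonempty (MulAction.fixedPoints P R) := ⟨⟨0, h0fix⟩⟩
      exact Nat.card_pos
    have := Nat.le_of_dvd hpos h7
    exact lt_of_lt_of_le hpp.one_lt this
  rw [Finite.one_lt_card_iff_nontrivial] at hcard
  obtain ⟨⟨f, hf⟩, hfne⟩ := exists_ne (⟨0, h0fix⟩ : MulAction.fixedPoints P R)
  refine ⟨f.1, f.2, ?_, ?_⟩
  · intro h0
    apply hfne
    apply Subtype.ext
    apply Subtype.ext
    exact h0
  · intro u hu h
    have h8 := hf ⟨u, hu⟩⁻¹
    have h9 := congrFun (congrArg Subtype.val h8) h
    rw [hsmul] at h9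
    rw [← h9]
    simp

open Classical in
/-- the class sum of an element outside `C_G(P)` kills left-`P`-invariant functions -/
theorem classMulZ_invariant {p : ℕ} [Fact p.Prime] (P : Subgroup G) [P.Normal]
    (hP : IsPGroup p P) (g : G) (hg : g ∉ Subgroup.centralizer (P : Set G))
    (f : G → ZMod p) (hf : ∀ u ∈ P, ∀ h, f (u * h) = f h) : classMulZ p g f = 0 := by
  funext h
  have hsum : ∑ x ∈ Finset.univ.filter (fun x : G => IsConj g x), f (x⁻¹ * h) =
      ∑ x : {x : G // IsConj g x}, f (x.1⁻¹ * h) :=
    Finset.sum_subtype (Finset.univ.filter (fun x : G => IsConj g x)) (by intro x; simp)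
      (fun x => f (x⁻¹ * h))
  rw [classMulZ_apply, Pi.zero_apply, hsum]
  letI : MulAction P {x : G // IsConj g x} :=
    { smul := fun u x => ⟨(u : G) * x.1 * (u : G)⁻¹, x.2.trans (isConj_iff.2 ⟨(u : G), rfl⟩)⟩
      one_smul := fun x => by
        apply Subtype.ext
        show ((1 : P) : G) * x.1 * ((1 : P) : G)⁻¹ = x.1
        simp
      mul_smul := fun u v x => by
        apply Subtype.ext
        show ((u * v : P) : G) * x.1 * ((u * v : P) : G)⁻¹ =
          (u : G) * ((v : G) * x.1 * (v : G)⁻¹) * (u : G)⁻¹
        simp [mul_assoc] }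
  have hsmul : ∀ (u : P) (x : {x : G // IsConj g x}), (u • x).1 = (u : G) * x.1 * (u : G)⁻¹ :=
    fun _ _ => rfl
  apply sum_eq_zero_of_pgroup_action hP
  · intro x
    by_contra hcon
    push Not at hcon
    -- x centralizes P, hence so does g
    have hx : x.1 ∈ Subgroup.centralizer (P : Set G) := by
      rw [Subgroup.mem_centralizer_iff]
      intro u hu
      have h1 := congrArg Subtype.val (hcon ⟨u, hu⟩)
      rw [hsmul] at h1
      show u * x.1 = x.1 * u
      calc u * x.1 = u * x.1 * u⁻¹ * u := by group
        _ = x.1 * u := by rw [show ((⟨u, hu⟩ : P) : G) = u from rfl] at h1; rw [h1]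
    obtain ⟨c, hc⟩ := isConj_iff.1 x.2.symm
    apply hg
    rw [← hc]
    have hn : (Subgroup.centralizer (P : Set G)).Normal := Subgroup.normal_centralizer
    exact hn.conj_mem _ hx c
  · intro u x
    rw [hsmul]
    have h1 : ((u : G) * x.1 * (u : G)⁻¹)⁻¹ * h = (u : G) * ((x.1⁻¹ * (u : G)⁻¹ * x.1) * (x.1⁻¹ * h)) := by
      group
    rw [h1, hf _ u.2]
    have h2 : x.1⁻¹ * (u : G)⁻¹ * x.1 ∈ P := by
      have := (inferInstance : P.Normal).conj_mem _ (P.inv_mem u.2) x.1⁻¹
      simpa using this
    rw [hf _ h2]

theorem classMulZ_pow_ltrans (p : ℕ) (g a : G) (n : ℕ) (f : G → ZMod p) :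
    ((classMulZ p g) ^ n) (ltrans a f) = ltrans a (((classMulZ p g) ^ n) f) := by
  induction n with
  | zero => rfl
  | succ n ih =>
    rw [pow_succ', Module.End.mul_apply, Module.End.mul_apply, ih, classMulZ_ltrans]

/-- the class sum of an element outside `C_G(P)` is nilpotent modulo `p` -/
theorem classMulZ_pow_eq_zero {p : ℕ} [Fact p.Prime] (P : Subgroup G) [P.Normal]
    (hP : IsPGroup p P) (g : G) (hg : g ∉ Subgroup.centralizer (P : Set G)) :
    (classMulZ p g) ^ (Module.finrank (ZMod p) (G → ZMod p) + 1) = 0 := by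
  classical
  set T := classMulZ p g with hT
  have hinv : ∀ (n : ℕ) (a : G), ∀ f ∈ LinearMap.range (T ^ n), ltrans a f ∈ LinearMap.range (T ^ n) := by
    rintro n a f ⟨f', rfl⟩
    exact ⟨ltrans a f', classMulZ_pow_ltrans p g a n f'⟩
  have key : ∀ n : ℕ, LinearMap.range (T ^ n) = ⊥ ∨
      Module.finrank (ZMod p) (LinearMap.range (T ^ n)) + n ≤ Module.finrank (ZMod p) (G → ZMod p) := by
    intro n
    induction n with
    | zero =>
      right
      rw [add_zero]
      exact Submodule.finrank_le _
    | succ n ih =>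
      have hrange : LinearMap.range (T ^ (n + 1)) = (LinearMap.range (T ^ n)).map T := by
        rw [pow_succ', Module.End.mul_eq_comp, LinearMap.range_comp]
      by_cases hbot : LinearMap.range (T ^ n) = ⊥
      · left
        rw [hrange, hbot, Submodule.map_bot]
      · rcases ih with h | h
        · exact absurd h hbot
        · right
          obtain ⟨f, hfR, hf0, hfinv⟩ := exists_invariant_ne_zero P hP _ (hinv n) hbot
          have hTf : T f = 0 := classMulZ_invariant P hP g hg f hfinv
          set R := LinearMap.range (T ^ n) with hR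
          have h1 := LinearMap.finrank_range_add_finrank_ker (T.domRestrict R)
          rw [LinearMap.range_domRestrict] at h1
          have h2 : LinearMap.ker (T.domRestrict R) ≠ ⊥ := by
            intro hk
            have hmem : (⟨f, hfR⟩ : R) ∈ LinearMap.ker (T.domRestrict R) := by
              rw [LinearMap.mem_ker]
              exact hTf
            rw [hk, Submodule.mem_bot] at hmem
            exact hf0 (congrArg Subtype.val hmem)
          have h3 : Module.finrank (ZMod p) (LinearMap.ker (T.domRestrict R)) ≠ 0 := by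
            intro h0
            exact h2 (Submodule.finrank_eq_zero.1 h0)
          rw [hrange]
          omega
  rcases key (Module.finrank (ZMod p) (G → ZMod p) + 1) with h | h
  · exact LinearMap.range_eq_bot.1 h
  · omega

open Classical in
/-- number of ways to write `h` as a product of `j` conjugates of `g` -/
noncomputable def classPowCount (g : G) : ℕ → G → ℕ
  | 0 => fun h => if h = 1 then 1 else 0
  | (j + 1) => fun h => ∑ x ∈ Finset.univ.filter (fun x : G => IsConj g x),
      classPowCount g j (x⁻¹ * h)

open Classical in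
theorem classMulZ_pow_delta (p : ℕ) (g : G) (j : ℕ) (h : G) :
    ((classMulZ p g) ^ j) (fun h => if h = 1 then 1 else 0) h = (classPowCount g j h : ZMod p) := by
  induction j generalizing h with
  | zero =>
    rw [pow_zero, Module.End.one_apply]
    unfold classPowCount
    split_ifs <;> simp
  | succ j ih =>
    rw [pow_succ', Module.End.mul_apply, classMulZ_apply]
    unfold classPowCount
    rw [Nat.cast_sum]
    exact Finset.sum_congr rfl fun x _ => ih _

theorem dvd_classPowCount {p : ℕ} [Fact p.Prime] (P : Subgroup G) [P.Normal]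
    (hP : IsPGroup p P) (g : G) (hg : g ∉ Subgroup.centralizer (P : Set G)) (h : G) :
    p ∣ classPowCount g (Module.finrank (ZMod p) (G → ZMod p) + 1) h := by
  have h1 := classMulZ_pow_delta p g (Module.finrank (ZMod p) (G → ZMod p) + 1) h
  rw [classMulZ_pow_eq_zero P hP g hg] at h1
  exact (ZMod.natCast_eq_zero_iff _ _).1 h1.symm

open Classical in
theorem classPowCount_cast_succ (g : G) (j : ℕ) :
    (fun h => (classPowCount g (j + 1) h : ℂ)) =
      helper24.cconv (helper24.classInd g) (fun h => (classPowCount g j h : ℂ)) := by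
  funext h
  unfold helper24.cconv helper24.classInd
  simp only [ite_mul, one_mul, zero_mul]
  rw [← Finset.sum_filter]
  show ((∑ x ∈ Finset.univ.filter (fun x : G => IsConj g x), classPowCount g j (x⁻¹ * h) : ℕ) : ℂ) = _
  rw [Nat.cast_sum]

open Classical in
theorem classPowCount_cast_zero (g : G) :
    (fun h => (classPowCount g 0 h : ℂ)) = helper24.deltaOne G := by
  funext h
  unfold helper24.deltaOne classPowCount
  split_ifs <;> simp

theorem classPowCount_isClassFunction (g : G) (j : ℕ) :
    IsClassFunction G (fun h => (classPowCount g j h : ℂ)) := by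
  induction j with
  | zero =>
    rw [classPowCount_cast_zero]
    exact helper24.deltaOne_isClassFunction
  | succ j ih =>
    rw [classPowCount_cast_succ]
    exact helper24.cconv_isClassFunction (helper24.classInd_isClassFunction g) ih

theorem omegaFn_classPowCount (χ : IrrCharacter G) (g : G) (j : ℕ) :
    helper24.omegaFn (χ : G → ℂ) (fun h => (classPowCount g j h : ℂ)) =
      (centralChar (χ : G → ℂ) g) ^ j := by
  induction j with
  | zero =>
    rw [classPowCount_cast_zero, pow_zero]
    exact helper24.omegaFn_deltaOne (helper24.irr_apply_one_ne_zero χ.2)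
  | succ j ih =>
    rw [classPowCount_cast_succ, helper24.omegaFn_cconv χ.2 _ (classPowCount_isClassFunction g j),
      ih, helper24.omegaFn_classInd (helper24.irr_isCharacter χ.2), pow_succ']

/-- **the central characters vanish modulo `M` on classes outside the centralizer of a normal
`p`-subgroup** -/
theorem centralChar_memIdeal_of_not_mem_centralizer {p : ℕ} [Fact p.Prime] (M : Ideal AlgInt)
    (hM : IsPModular p M) (P : Subgroup G) [P.Normal] (hP : IsPGroup p P) (g : G)
    (hg : g ∉ Subgroup.centralizer (P : Set G)) (χ : IrrCharacter G) :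
    helper24.MemIdeal M (centralChar (χ : G → ℂ) g) := by
  classical
  have hMp : M.IsPrime := hM.2.1.isPrime
  set N := Module.finrank (ZMod p) (G → ZMod p) + 1 with hN
  have hχc := helper24.irr_isCharacter χ.2
  have h1 := omegaFn_classPowCount χ g N
  rw [helper24.omegaFn_eq_sum_classes hχc (classPowCount_isClassFunction g N)] at h1
  have h2 : helper24.MemIdeal M ((centralChar (χ : G → ℂ) g) ^ N) := by
    rw [← h1]
    apply helper24.MemIdeal.sum
    intro C _
    obtain ⟨m, hm⟩ := dvd_classPowCount P hP g hg (Quotient.out C)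
    rw [hm]
    have hpmem : helper24.MemIdeal M ((p : ℕ) : ℂ) := ⟨(p : AlgInt), hM.2.2, by push_cast; rfl⟩
    have hint : IsIntegral ℤ ((m : ℂ) * centralChar (χ : G → ℂ) (Quotient.out C)) :=
      (isIntegral_natCast (R := ℤ) (B := ℂ) m).mul (helper23.irr_centralChar_isIntegral χ _)
    have h3 := hpmem.mul_integral hint
    have h4 : ((p * m : ℕ) : ℂ) * centralChar (χ : G → ℂ) (Quotient.out C) =
        (m : ℂ) * centralChar (χ : G → ℂ) (Quotient.out C) * ((p : ℕ) : ℂ) := by
      push_cast; ring
    rw [h4]
    exact h3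
  obtain ⟨a, ha, hav⟩ := h2
  set z : AlgInt := ⟨centralChar (χ : G → ℂ) g, helper23.irr_centralChar_isIntegral χ g⟩ with hz
  have hzN : z ^ N = a := by
    apply Subtype.ext
    rw [hav]
    push_cast
    rfl
  have hzM : z ∈ M := hMp.mem_of_pow_mem N (by rw [hzN]; exact ha)
  exact ⟨z, hzM, rfl⟩

end Nilp

end Cfsg.Agent.helper1
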