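import Mathlib
import Cfsg.Prelude
import Cfsg.Agent.Lib_helper24_BlockOrth2
import Cfsg.Agent.Lib_helper24_PSection
import Cfsg.Agent.Lib_helper1_BlockRank

set_option autoImplicit false
set_option linter.unusedVariables false
set_option linter.unusedSectionVars false
set_option linter.style.longLine false
set_option linter.style.haveILetI false

namespace Cfsg.Agent.helper1

open Cfsg
open scoped ComplexConjugate

universe u

section PrincBlock

variable {G : Type u} [Group G] [Fintype G]

/-- the trivial character as an irreducible character -/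
noncomputable def trivIrr (G : Type u) [Group G] : IrrCharacter G :=
  ⟨fun _ => (1 : ℂ), helper24.isIrrCharacter_one⟩

theorem principalBlock_eq (M : Ideal AlgInt) : principalBlock M G = blockOf M ((trivIrr G : IrrCharacter G) : G → ℂ) := rfl

theorem isPBlock_principalBlock (M : Ideal AlgInt) : IsPBlock M (principalBlock M G) :=
  ⟨trivIrr G, rfl⟩

theorem charDegree_trivIrr : charDegree ((trivIrr G : IrrCharacter G) : G → ℂ) = 1 :=
  helper24.charDegree_natCast _ 1 (by simp [trivIrr])

/-- the degree-square sum of a block is divisible by `p` when `p` divides the group order -/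
theorem dvd_sum_sq_degrees_block (p : ℕ) [Fact p.Prime] (M : Ideal AlgInt) (hM : IsPModular p M)
    (B : Set (IrrCharacter G)) (hB : IsPBlock M B) (hp : p ∣ Nat.card G) :
    p ∣ ∑ χ ∈ (Set.toFinite B).toFinset, (charDegree (χ : G → ℂ)) ^ 2 := by
  classical
  have hpp : p.Prime := Fact.out
  obtain ⟨y, hy⟩ := exists_prime_orderOf_dvd_card' (G := G) p hp
  have hyp : p ∣ orderOf y := by rw [hy]
  have hypow : (y⁻¹) ^ (p ^ 1) = 1 := by
    rw [pow_one, inv_pow, ← hy, pow_orderOf_eq_one, inv_one]
  have h1 := helper24.weak_block_orthogonality p M hM B hB 1 y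
    (by rw [orderOf_one]; exact hpp.not_dvd_one) hyp
  rw [finsum_mem_eq_finite_toFinset_sum _ (Set.toFinite B)] at h1
  have hterm : ∀ χ ∈ (Set.toFinite B).toFinset, helper24.MemIdeal M
      ((χ : G → ℂ) 1 * conj ((χ : G → ℂ) y) - (χ : G → ℂ) 1 * (χ : G → ℂ) 1) := by
    intro χ _
    have hχc := helper24.irr_isCharacter χ.2
    have h2 := helper24.char_congr_pregular_part hM hχc y⁻¹ 1 (Commute.one_right _) hypow
    rw [mul_one] at h2
    have h3 := h2.mul_integral (helper24.char_isIntegral hχc 1)
    have h4 : (χ : G → ℂ) 1 * ((χ : G → ℂ) y⁻¹ - (χ : G → ℂ) 1) =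
        (χ : G → ℂ) 1 * conj ((χ : G → ℂ) y) - (χ : G → ℂ) 1 * (χ : G → ℂ) 1 := by
      rw [helper24.char_inv hχc y]; ring
    rw [h4] at h3
    exact h3
  have hsum := helper24.MemIdeal.sum _ _ hterm
  rw [Finset.sum_sub_distrib, h1, zero_sub] at hsum
  have hsum2 := hsum.neg
  rw [neg_neg] at hsum2
  have hnat : ∑ χ ∈ (Set.toFinite B).toFinset, (χ : G → ℂ) 1 * (χ : G → ℂ) 1 =
      ((∑ χ ∈ (Set.toFinite B).toFinset, (charDegree (χ : G → ℂ)) ^ 2 : ℕ) : ℂ) := by
    rw [Nat.cast_sum]
    refine Finset.sum_congr rfl fun χ _ => ?_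
    rw [← helper24.char_charDegree_cast (helper24.irr_isCharacter χ.2)]
    push_cast
    ring
  rw [hnat] at hsum2
  by_contra hnd
  exact helper24.natCast_not_memLocalIdeal hM hnd (hsum2.memLocalIdeal hM.2.1.ne_top)

theorem principal_block_pprime_trivial_iff (p : ℕ) [Fact p.Prime] (M : Ideal AlgInt)
    (hM : IsPModular p M) :
    (∀ χ : IrrCharacter G, χ ∈ principalBlock M G → ¬ p ∣ charDegree (χ : G → ℂ) →
      (χ : G → ℂ) = fun _ => (1 : ℂ)) ↔ ¬ p ∣ Nat.card G := by
  classical
  have hpp : p.Prime := Fact.out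
  constructor
  · intro H hp
    have hB := isPBlock_principalBlock (G := G) M
    have hdvd := dvd_sum_sq_degrees_block p M hM _ hB hp
    have hτ : trivIrr G ∈ (Set.toFinite (principalBlock M G)).toFinset := by
      rw [Set.Finite.mem_toFinset]
      exact helper24.sameBlock_refl M hM.2.1.ne_top _
    rw [← Finset.add_sum_erase _ _ hτ, charDegree_trivIrr, one_pow] at hdvd
    have h2 : p ∣ ∑ χ ∈ ((Set.toFinite (principalBlock M G)).toFinset).erase (trivIrr G),
        (charDegree (χ : G → ℂ)) ^ 2 := by
      apply Finset.dvd_sum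
      intro χ hχ
      rw [Finset.mem_erase, Set.Finite.mem_toFinset] at hχ
      have : p ∣ charDegree (χ : G → ℂ) := by
        by_contra hnd
        apply hχ.1
        apply Subtype.ext
        exact H χ hχ.2 hnd
      exact dvd_pow this two_ne_zero
    have h3 : p ∣ 1 := (Nat.dvd_add_left h2).1 hdvd
    exact hpp.not_dvd_one h3
  · intro hnp χ hχ _
    have hsing := (helper24.defect_zero_iff_singleton p M hM (trivIrr G)).1 (by
      rw [charDegree_trivIrr, Nat.div_one]; exact hnp)
    rw [principalBlock_eq, hsing, Set.mem_singleton_iff] at hχ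
    rw [hχ]
    rfl

end PrincBlock

end Cfsg.Agent.helper1
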