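import Mathlib
import Cfsg.Prelude
import Cfsg.Agent.Lib_helper1_ClassNilp
import Cfsg.Agent.Lib_helper1_PrincBlock

set_option autoImplicit false
set_option linter.unusedVariables false
set_option linter.unusedSectionVars false
set_option linter.style.longLine false
set_option linter.style.haveILetI false

namespace Cfsg.Agent.helper1

open Cfsg
open scoped ComplexConjugate

universe u

section Support

variable {G : Type u} [Group G] [Fintype G]

/-- vectors of central character values of class functions supported on a normal subgroup -/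
def suppSubalgebra (C : Subgroup G) [hC : C.Normal] : Subalgebra ℂ (IrrCharacter G → ℂ) where
  carrier := {v | ∃ u : G → ℂ, IsClassFunction G u ∧ (∀ g, g ∉ C → u g = 0) ∧
    ∀ χ : IrrCharacter G, helper24.omegaFn (χ : G → ℂ) u = v χ}
  mul_mem' := by
    rintro v w ⟨u₁, hu₁, hs₁, ho₁⟩ ⟨u₂, hu₂, hs₂, ho₂⟩
    refine ⟨helper24.cconv u₁ u₂, helper24.cconv_isClassFunction hu₁ hu₂, ?_, ?_⟩
    · intro g hg
      unfold helper24.cconv
      apply Finset.sum_eq_zero
      intro x _
      by_cases hx : x ∈ C
      · have : x⁻¹ * g ∉ C := by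
          intro h
          apply hg
          have := C.mul_mem hx h
          rwa [mul_inv_cancel_left] at this
        rw [hs₂ _ this, mul_zero]
      · rw [hs₁ _ hx, zero_mul]
    · intro χ
      rw [helper24.omegaFn_cconv χ.2 u₁ hu₂, ho₁, ho₂]
      rfl
  one_mem' := by
    classical
    refine ⟨helper24.deltaOne G, helper24.deltaOne_isClassFunction, ?_, ?_⟩
    · intro g hg
      unfold helper24.deltaOne
      rw [if_neg]
      rintro rfl
      exact hg C.one_mem
    · intro χ
      rw [helper24.omegaFn_deltaOne (helper24.irr_apply_one_ne_zero χ.2)]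
      rfl
  add_mem' := by
    rintro v w ⟨u₁, hu₁, hs₁, ho₁⟩ ⟨u₂, hu₂, hs₂, ho₂⟩
    refine ⟨u₁ + u₂, ?_, ?_, ?_⟩
    · intro g k
      show u₁ (k * g * k⁻¹) + u₂ (k * g * k⁻¹) = u₁ g + u₂ g
      rw [hu₁ g k, hu₂ g k]
    · intro g hg
      show u₁ g + u₂ g = 0
      rw [hs₁ g hg, hs₂ g hg, add_zero]
    · intro χ
      rw [helper24.omegaFn_add, ho₁, ho₂]
      rfl
  zero_mem' := by
    refine ⟨0, fun _ _ => rfl, fun _ _ => rfl, ?_⟩
    intro χ
    rw [helper24.omegaFn_zero]
    rfl
  algebraMap_mem' := by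
    classical
    intro c
    refine ⟨c • helper24.deltaOne G, ?_, ?_, ?_⟩
    · intro g k
      show c * helper24.deltaOne G (k * g * k⁻¹) = c * helper24.deltaOne G g
      rw [helper24.deltaOne_isClassFunction g k]
    · intro g hg
      show c * helper24.deltaOne G g = 0
      unfold helper24.deltaOne
      rw [if_neg, mul_zero]
      rintro rfl
      exact hg C.one_mem
    · intro χ
      rw [helper24.omegaFn_smul, helper24.omegaFn_deltaOne (helper24.irr_apply_one_ne_zero χ.2),
        mul_one]
      rfl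

theorem const_mem_suppSubalgebra (C : Subgroup G) [hC : C.Normal] (c : ℂ) :
    (fun _ : IrrCharacter G => c) ∈ suppSubalgebra C :=
  (suppSubalgebra C).algebraMap_mem c

/-- **block idempotents are supported on the centralizer of a normal `p`-subgroup** -/
theorem blockCoeff_eq_zero_of_not_mem_centralizer (p : ℕ) [Fact p.Prime] (M : Ideal AlgInt)
    (hM : IsPModular p M) (P : Subgroup G) [P.Normal] (hP : IsPGroup p P)
    (B : Set (IrrCharacter G)) (hB : IsPBlock M B) (g : G)
    (hg : g ∉ Subgroup.centralizer (P : Set G)) : blockCoeff B g = 0 := by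
  classical
  have hMp : M.IsPrime := hM.2.1.isPrime
  have hMtop : M ≠ ⊤ := hMp.ne_top
  haveI := Fintype.ofFinite (IrrCharacter G)
  obtain ⟨χ₀, rfl⟩ := hB
  obtain ⟨hcf, hl, ho, -⟩ := helper24.blockCoeff_props (M := M) χ₀
  set B := blockOf M (χ₀ : G → ℂ) with hBdef
  set e := blockCoeff B with he
  haveI hCn : (Subgroup.centralizer (P : Set G)).Normal := Subgroup.normal_centralizer
  set C := Subgroup.centralizer (P : Set G) with hC
  -- the part of e supported on C
  set eC : G → ℂ := fun x => if x ∈ C then e x else 0 with heC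
  have heCcf : IsClassFunction G eC := by
    intro x k
    show (if k * x * k⁻¹ ∈ C then e (k * x * k⁻¹) else 0) = if x ∈ C then e x else 0
    have hiff : k * x * k⁻¹ ∈ C ↔ x ∈ C := by
      constructor
      · intro h
        have := hCn.conj_mem _ h k⁻¹
        simpa [mul_assoc] using this
      · intro h
        exact hCn.conj_mem _ h k
    rw [hcf x k]
    simp only [hiff]
  have heCs : ∀ x, x ∉ C → eC x = 0 := by
    intro x hx
    show (if x ∈ C then e x else 0) = 0
    rw [if_neg hx]
  set v₀ : IrrCharacter G → ℂ := fun χ => helper24.omegaFn (χ : G → ℂ) eC with hv₀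
  have hv₀mem : v₀ ∈ suppSubalgebra C := ⟨eC, heCcf, heCs, fun _ => rfl⟩
  -- congruence
  have hcong : ∀ χ : IrrCharacter G,
      MemLocalIdeal M ((if χ ∈ B then (1 : ℂ) else 0) - v₀ χ) := by
    intro χ
    have hχc := helper24.irr_isCharacter χ.2
    rw [← ho χ, hv₀]
    show MemLocalIdeal M (helper24.omegaFn (χ : G → ℂ) e - helper24.omegaFn (χ : G → ℂ) eC)
    rw [helper24.omegaFn_eq_sum_classes hχc hcf, helper24.omegaFn_eq_sum_classes hχc heCcf,
      ← Finset.sum_sub_distrib]
    apply helper24.memLocalIdeal_sum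
    intro K _
    by_cases hK : Quotient.out K ∈ C
    · have : eC (Quotient.out K) = e (Quotient.out K) := by
        show (if Quotient.out K ∈ C then e (Quotient.out K) else 0) = _
        rw [if_pos hK]
      rw [this, sub_self]
      exact helper24.memLocalIdeal_zero hMtop
    · rw [heCs _ hK, zero_mul, sub_zero]
      exact helper24.memLocalIdeal_mul_left (hl _)
        ((centralChar_memIdeal_of_not_mem_centralizer M hM P hP _ hK χ).memLocalIdeal hMtop)
  have hsep : ∀ χ ψ : IrrCharacter G, χ ∈ B → ψ ∉ B → v₀ χ - v₀ ψ ≠ 0 := by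
    intro χ ψ hχ hψ h0
    have h1 := hcong χ
    have h2 := hcong ψ
    rw [if_pos hχ] at h1
    rw [if_neg hψ] at h2
    have h3 := helper24.memLocalIdeal_sub h1 h2
    have h4 : (1 : ℂ) - v₀ χ - (0 - v₀ ψ) = 1 := by
      have : v₀ χ = v₀ ψ := sub_eq_zero.1 h0
      rw [this]; ring
    rw [h4] at h3
    exact helper24.not_memLocalIdeal_one h3
  -- the indicator of B lies in the subalgebra
  set Bc : Finset (IrrCharacter G) := Finset.univ.filter (fun ψ => ψ ∉ B) with hBc
  set Bf : Finset (IrrCharacter G) := Finset.univ.filter (fun ψ => ψ ∈ B) with hBf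
  set w : IrrCharacter G → ℂ := ∏ ψ ∈ Bc, (1 - ∏ χ ∈ Bf,
    (1 - (fun _ : IrrCharacter G => (v₀ χ - v₀ ψ)⁻¹) * (v₀ - fun _ : IrrCharacter G => v₀ ψ))) with hw
  have hwmem : w ∈ suppSubalgebra C := by
    apply Subalgebra.prod_mem
    intro ψ _
    apply Subalgebra.sub_mem _ (Subalgebra.one_mem _)
    apply Subalgebra.prod_mem
    intro χ _
    apply Subalgebra.sub_mem _ (Subalgebra.one_mem _)
    apply Subalgebra.mul_mem _ (const_mem_suppSubalgebra C _)
    exact Subalgebra.sub_mem _ hv₀mem (const_mem_suppSubalgebra C _)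
  have hwval : ∀ i : IrrCharacter G, w i = if i ∈ B then (1 : ℂ) else 0 := by
    intro i
    rw [hw, Finset.prod_apply]
    by_cases hi : i ∈ B
    · rw [if_pos hi]
      apply Finset.prod_eq_one
      intro ψ hψ
      rw [hBc, Finset.mem_filter] at hψ
      rw [Pi.sub_apply, Finset.prod_apply, Pi.one_apply]
      have : ∏ χ ∈ Bf, (1 - (fun _ : IrrCharacter G => (v₀ χ - v₀ ψ)⁻¹) *
          (v₀ - fun _ : IrrCharacter G => v₀ ψ)) i = 0 := by
        apply Finset.prod_eq_zero (i := i)
        · rw [hBf, Finset.mem_filter]; exact ⟨Finset.mem_univ _, hi⟩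
        · show 1 - (v₀ i - v₀ ψ)⁻¹ * (v₀ i - v₀ ψ) = 0
          rw [inv_mul_cancel₀ (hsep i ψ hi hψ.2), sub_self]
      rw [this, sub_zero]
    · rw [if_neg hi]
      apply Finset.prod_eq_zero (i := i)
      · rw [hBc, Finset.mem_filter]; exact ⟨Finset.mem_univ _, hi⟩
      · rw [Pi.sub_apply, Finset.prod_apply, Pi.one_apply]
        have : ∏ χ ∈ Bf, (1 - (fun _ : IrrCharacter G => (v₀ χ - v₀ i)⁻¹) *
            (v₀ - fun _ : IrrCharacter G => v₀ i)) i = 1 := by
          apply Finset.prod_eq_one
          intro χ _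
          show 1 - (v₀ χ - v₀ i)⁻¹ * (v₀ i - v₀ i) = 1
          rw [sub_self, mul_zero, sub_zero]
        rw [this, sub_self]
  obtain ⟨u, hu, hus, huo⟩ := hwmem
  have hue : u = e := by
    apply helper24.classFunction_ext_omega hu hcf
    intro χ
    rw [huo χ, hwval χ, ho χ]
  rw [← hue]
  exact hus g hg

end Support

end Cfsg.Agent.helper1
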