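import Mathlib
import Cfsg.Prelude
import Cfsg.Agent.Lib_helper1_PrincBlock

set_option autoImplicit false
set_option linter.unusedVariables false
set_option linter.unusedSectionVars false
set_option linter.style.longLine false
set_option linter.style.haveILetI false

namespace Cfsg.Agent.helper1

open Cfsg
open scoped ComplexConjugate

universe u

section SharePQ

variable {G : Type u} [Group G] [Fintype G]

theorem weak_orth_toFinset (p : ℕ) (M : Ideal AlgInt) (hM : IsPModular p M)
    (B : Set (IrrCharacter G)) (hB : IsPBlock M B) (x y : G) (hx : ¬ p ∣ orderOf x)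
    (hy : p ∣ orderOf y) :
    ∑ χ ∈ (Set.toFinite B).toFinset, (χ : G → ℂ) x * conj ((χ : G → ℂ) y) = 0 := by
  classical
  have h := helper24.weak_block_orthogonality p M hM B hB x y hx hy
  rwa [finsum_mem_eq_finite_toFinset_sum _ (Set.toFinite B)] at h

theorem principal_blocks_share (p q : ℕ) [Fact p.Prime] [Fact q.Prime] (hpq : p ≠ q)
    (hp : p ∣ Nat.card G) (hq : q ∣ Nat.card G) (hno : ∀ g : G, orderOf g ≠ p * q)
    (Mp Mq : Ideal AlgInt) (hMp : IsPModular p Mp) (hMq : IsPModular q Mq) :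
    ∃ χ : IrrCharacter G, (χ : G → ℂ) ≠ (fun _ => 1) ∧ χ ∈ principalBlock Mp G ∧
      χ ∈ principalBlock Mq G := by
  classical
  have hpp : p.Prime := Fact.out
  have hqp : q.Prime := Fact.out
  by_contra hcon
  push Not at hcon
  obtain ⟨x, hx⟩ := exists_prime_orderOf_dvd_card' (G := G) p hp
  obtain ⟨y, hy⟩ := exists_prime_orderOf_dvd_card' (G := G) q hq
  set Bp := (Set.toFinite (principalBlock Mp G)).toFinset with hBp
  set Bq := (Set.toFinite (principalBlock Mq G)).toFinset with hBq
  have hBpB := isPBlock_principalBlock (G := G) Mp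
  have hBqB := isPBlock_principalBlock (G := G) Mq
  set θ : G → ℂ := ∑ χ ∈ Bp, conj ((χ : G → ℂ) x) • (χ : G → ℂ) with hθ
  have hθapp : ∀ g, θ g = ∑ χ ∈ Bp, conj ((χ : G → ℂ) x) * (χ : G → ℂ) g := by
    intro g
    rw [hθ, Finset.sum_apply]
    rfl
  -- θ vanishes on q-singular elements
  have hθ0 : ∀ g : G, q ∣ orderOf g → θ g = 0 := by
    intro g hg
    have hpg : ¬ p ∣ orderOf g := by
      intro hpg
      have hdvd : p * q ∣ orderOf g :=
        Nat.Coprime.mul_dvd_of_dvd_of_dvd ((Nat.coprime_primes hpp hqp).2 hpq) hpg hg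
      obtain ⟨m, hm⟩ := hdvd
      have hg0 : orderOf g ≠ 0 := (orderOf_pos g).ne'
      have hm0 : m ≠ 0 := by
        rintro rfl
        rw [mul_zero] at hm
        exact hg0 hm
      apply hno (g ^ m)
      rw [orderOf_pow' g hm0, hm, Nat.gcd_mul_left_left, Nat.mul_div_cancel _ (Nat.pos_of_ne_zero hm0)]
    have h1 := weak_orth_toFinset p Mp hMp _ hBpB g x hpg (by rw [hx])
    rw [hθapp]
    rw [← h1]
    refine Finset.sum_congr rfl fun χ _ => ?_
    ring
  -- inner products
  have hinner : ∀ ψ : IrrCharacter G, classInner θ (ψ : G → ℂ) =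
      if ψ ∈ Bp then conj ((ψ : G → ℂ) x) else 0 := by
    intro ψ
    rw [hθ, helper24.classInner_sum_left]
    have h2 : ∀ χ ∈ Bp, classInner (conj ((χ : G → ℂ) x) • (χ : G → ℂ)) (ψ : G → ℂ) =
        if χ = ψ then conj ((ψ : G → ℂ) x) else 0 := by
      intro χ _
      rw [helper24.classInner_smul_left, helper24.irr_classInner χ.2 ψ.2]
      by_cases hc : χ = ψ
      · subst hc
        rw [if_pos rfl, if_pos rfl, mul_one]
      · have : (χ : G → ℂ) ≠ (ψ : G → ℂ) := fun h => hc (Subtype.ext h)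
        rw [if_neg this, if_neg hc, mul_zero]
    rw [Finset.sum_congr rfl h2, Finset.sum_ite_eq']
  -- the double sum, computed in two ways
  have hS1 : ∑ ψ ∈ Bq, classInner θ (ψ : G → ℂ) * (ψ : G → ℂ) y = 1 := by
    have hτp : trivIrr G ∈ Bp := by
      rw [hBp, Set.Finite.mem_toFinset]
      exact helper24.sameBlock_refl Mp hMp.2.1.ne_top _
    have hτq : trivIrr G ∈ Bq := by
      rw [hBq, Set.Finite.mem_toFinset]
      exact helper24.sameBlock_refl Mq hMq.2.1.ne_top _
    rw [Finset.sum_eq_single_of_mem (trivIrr G) hτq]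
    · rw [hinner, if_pos hτp]
      simp [trivIrr]
    · intro ψ hψ hne
      rw [hinner]
      by_cases hψp : ψ ∈ Bp
      · exfalso
        rw [hBp, Set.Finite.mem_toFinset] at hψp
        rw [hBq, Set.Finite.mem_toFinset] at hψ
        have h3 : (ψ : G → ℂ) ≠ fun _ => 1 := by
          intro h
          apply hne
          exact Subtype.ext h
        exact hcon ψ h3 hψp hψ
      · rw [if_neg hψp, zero_mul]
  have hS0 : ∑ ψ ∈ Bq, classInner θ (ψ : G → ℂ) * (ψ : G → ℂ) y = 0 := by
    have h4 : ∀ ψ ∈ Bq, classInner θ (ψ : G → ℂ) * (ψ : G → ℂ) y =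
        (Nat.card G : ℂ)⁻¹ * ∑ g : G, θ g * (conj ((ψ : G → ℂ) g) * (ψ : G → ℂ) y) := by
      intro ψ _
      unfold classInner
      rw [mul_assoc, Finset.sum_mul]
      congr 1
      refine Finset.sum_congr rfl fun g _ => ?_
      ring
    rw [Finset.sum_congr rfl h4, ← Finset.mul_sum, Finset.sum_comm]
    have h5 : ∀ g : G, ∑ ψ ∈ Bq, θ g * (conj ((ψ : G → ℂ) g) * (ψ : G → ℂ) y) = 0 := by
      intro g
      rw [← Finset.mul_sum]
      by_cases hg : q ∣ orderOf g
      · rw [hθ0 g hg, zero_mul]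
      · have h6 := weak_orth_toFinset q Mq hMq _ hBqB g y hg (by rw [hy])
        have h7 := congrArg conj h6
        rw [map_sum, map_zero] at h7
        have h8 : ∑ ψ ∈ Bq, conj ((ψ : G → ℂ) g) * (ψ : G → ℂ) y = 0 := by
          rw [← h7]
          refine Finset.sum_congr rfl fun ψ _ => ?_
          rw [map_mul, Complex.conj_conj]
        rw [h8, mul_zero]
    rw [Finset.sum_congr rfl (fun g _ => h5 g), Finset.sum_const_zero, mul_zero]
  rw [hS1] at hS0
  exact one_ne_zero hS0

end SharePQ

end Cfsg.Agent.helper1
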