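import Mathlib
import Cfsg.Prelude
import Cfsg.Agent.Lib_helper1_IdemSupport
import Cfsg.Agent.Lib_helper1_SharePQ
import Cfsg.Agent.Lib_helper1_Core

set_option autoImplicit false
set_option linter.unusedVariables false
set_option linter.unusedSectionVars false
set_option linter.style.longLine false
set_option linter.style.haveILetI false

namespace Cfsg.Agent.helper1

open Cfsg
open scoped ComplexConjugate

universe u

section OneBlock

variable {G : Type u} [Group G] [Fintype G]

/-- block idempotents vanish at `p`-singular elements -/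
theorem blockCoeff_eq_zero_of_singular (p : ℕ) [Fact p.Prime] (M : Ideal AlgInt)
    (hM : IsPModular p M) (B : Set (IrrCharacter G)) (hB : IsPBlock M B) (g : G)
    (hg : p ∣ orderOf g) : blockCoeff B g = 0 := by
  classical
  have hpp : p.Prime := Fact.out
  unfold blockCoeff
  have h1 := helper24.weak_block_orthogonality p M hM B hB 1 g
    (by rw [orderOf_one]; exact hpp.not_dvd_one) hg
  rw [h1, mul_zero]

theorem single_block_of_constrained (p : ℕ) [Fact p.Prime] (M : Ideal AlgInt)
    (hM : IsPModular p M)
    (hconstr : Subgroup.centralizer ((pCore p G) : Set G) ≤ pCore p G)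
    (χ ψ : IrrCharacter G) : SameBlock M (χ : G → ℂ) (ψ : G → ℂ) := by
  classical
  have hpp : p.Prime := Fact.out
  have hMp : M.IsPrime := hM.2.1.isPrime
  haveI hPn : (pCore p G).Normal := pCore_normal p
  have hPp : IsPGroup p (pCore p G) := pCore_isPGroup p
  set B := blockOf M (χ : G → ℂ) with hBdef
  have hB : IsPBlock M B := ⟨χ, rfl⟩
  obtain ⟨hcf, hl, ho, -⟩ := helper24.blockCoeff_props (M := M) χ
  rw [← hBdef] at hcf hl ho
  have he : ∀ g : G, g ≠ 1 → blockCoeff B g = 0 := by
    intro g hg1
    by_cases hgC : g ∈ Subgroup.centralizer ((pCore p G) : Set G)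
    · have hgP : g ∈ pCore p G := hconstr hgC
      obtain ⟨k, hk⟩ := hPp ⟨g, hgP⟩
      have hk' : g ^ (p ^ k) = 1 := by
        have := congrArg Subtype.val hk
        simpa using this
      have hdvd : orderOf g ∣ p ^ k := orderOf_dvd_of_pow_eq_one hk'
      obtain ⟨j, -, hj⟩ := (Nat.dvd_prime_pow hpp).1 hdvd
      have hj0 : j ≠ 0 := by
        rintro rfl
        rw [pow_zero, orderOf_eq_one_iff] at hj
        exact hg1 hj
      apply blockCoeff_eq_zero_of_singular p M hM B hB g
      rw [hj]
      exact dvd_pow_self p hj0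
    · exact blockCoeff_eq_zero_of_not_mem_centralizer p M hM (pCore p G) hPp B hB g hgC
  obtain ⟨c, hc⟩ : ∃ c : ℂ, c = blockCoeff B 1 := ⟨_, rfl⟩
  have heq : blockCoeff B = c • helper24.deltaOne G := by
    funext g
    show blockCoeff B g = c * helper24.deltaOne G g
    unfold helper24.deltaOne
    by_cases hg : g = 1
    · rw [if_pos hg, mul_one, hg, hc]
    · rw [if_neg hg, mul_zero, he g hg]
  have hω : ∀ φ : IrrCharacter G, helper24.omegaFn (φ : G → ℂ) (blockCoeff B) = c := by
    intro φ
    rw [heq, helper24.omegaFn_smul, helper24.omegaFn_deltaOne (helper24.irr_apply_one_ne_zero φ.2),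
      mul_one]
  have hχB : χ ∈ B := helper24.sameBlock_refl M hMp.ne_top _
  have h1 : c = 1 := by
    rw [← hω χ, ho χ, if_pos hχB]
  have h2 := ho ψ
  rw [hω ψ, h1] at h2
  by_contra hψ
  have hψ' : ψ ∉ B := hψ
  rw [if_neg hψ'] at h2
  exact one_ne_zero h2

end OneBlock

end Cfsg.Agent.helper1
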