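import Mathlib
import Cfsg.Prelude
import Cfsg.Agent.Lib_helper1_OneBlock
import Cfsg.Agent.Lib_helper24_CharNormal
import Cfsg.Agent.Lib_helper24_CharKer
import Cfsg.Agent.Lib_helper7_HH123
import Cfsg.Agent.Lib_helper1_PGroup

set_option autoImplicit false
set_option linter.unusedVariables false
set_option linter.unusedSectionVars false
set_option linter.style.longLine false
set_option linter.style.haveILetI false

namespace Cfsg.Agent.helper1

open Cfsg
open scoped ComplexConjugate

universe u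

section InflBlock

variable {G : Type u} [Group G] [Fintype G]

/-- the class of `g` has size divisible by the size of the class of its image -/
theorem index_centralizer_quotient_dvd (N : Subgroup G) [N.Normal] (g : G) :
    ∃ n : ℕ, (Subgroup.centralizer ({g} : Set G)).index =
      n * (Subgroup.centralizer ({(g : G ⧸ N)} : Set (G ⧸ N))).index := by
  set H := (Subgroup.centralizer ({(g : G ⧸ N)} : Set (G ⧸ N))).comap (QuotientGroup.mk' N) with hH
  have hle : Subgroup.centralizer ({g} : Set G) ≤ H := by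
    intro x hx
    rw [Subgroup.mem_centralizer_singleton_iff] at hx
    rw [hH, Subgroup.mem_comap, Subgroup.mem_centralizer_singleton_iff]
    show (x : G ⧸ N) * (g : G ⧸ N) = (g : G ⧸ N) * (x : G ⧸ N)
    rw [← QuotientGroup.mk_mul, ← QuotientGroup.mk_mul, hx]
  have h1 := Subgroup.relIndex_mul_index hle
  have h2 : H.index = (Subgroup.centralizer ({(g : G ⧸ N)} : Set (G ⧸ N))).index :=
    Subgroup.index_comap_of_surjective _ (QuotientGroup.mk'_surjective N)
  exact ⟨_, by rw [← h1, h2]⟩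

/-- for a `p`-regular element centralizing the normal `p`-subgroup `N`, the class sizes in `G`
and in `G ⧸ N` agree -/
theorem index_centralizer_quotient_eq {p : ℕ} [Fact p.Prime] (N : Subgroup G) [N.Normal]
    (hN : IsPGroup p N) (x : G) (hx : ¬ p ∣ orderOf x)
    (hxN : x ∈ Subgroup.centralizer (N : Set G)) :
    (Subgroup.centralizer ({(x : G ⧸ N)} : Set (G ⧸ N))).index =
      (Subgroup.centralizer ({x} : Set G)).index := by
  have hpp : p.Prime := Fact.out
  have hcomap : (Subgroup.centralizer ({(x : G ⧸ N)} : Set (G ⧸ N))).comap (QuotientGroup.mk' N) =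
      Subgroup.centralizer ({x} : Set G) := by
    ext g
    rw [Subgroup.mem_comap, Subgroup.mem_centralizer_singleton_iff,
      Subgroup.mem_centralizer_singleton_iff]
    constructor
    · intro h
      have h' : ((g * x : G) : G ⧸ N) = ((x * g : G) : G ⧸ N) := h
      rw [QuotientGroup.eq] at h'
      -- u := (g x)⁻¹ (x g) ∈ N
      set u := (g * x)⁻¹ * (x * g) with hu
      have hxu : x * u = u * x := by
        rw [Subgroup.mem_centralizer_iff] at hxN
        exact (hxN u h').symm
      -- the conjugate g⁻¹ x g equals x * u... compute: x g = g x u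
      have h1 : x * g = g * x * u := by rw [hu]; group
      have h2 : g⁻¹ * x * g = x * u := by
        calc g⁻¹ * x * g = g⁻¹ * (x * g) := by group
          _ = g⁻¹ * (g * x * u) := by rw [h1]
          _ = x * u := by group
      have h3 : (x * u) ^ orderOf x = 1 := by
        rw [← h2]
        have : (g⁻¹ * x * g) ^ orderOf x = g⁻¹ * x ^ orderOf x * g := by
          have := conj_pow (a := g⁻¹) (b := x) (i := orderOf x)
          simpa using this
        rw [this, pow_orderOf_eq_one]
        group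
      have h4 : u ^ orderOf x = 1 := by
        have hc : Commute x u := hxu
        rw [hc.mul_pow, pow_orderOf_eq_one, one_mul] at h3
        exact h3
      obtain ⟨k, hk⟩ := hN ⟨u, h'⟩
      have hk' : u ^ (p ^ k) = 1 := by
        have := congrArg Subtype.val hk
        simpa using this
      have h5 : orderOf u ∣ orderOf x := orderOf_dvd_of_pow_eq_one h4
      have h6 : orderOf u ∣ p ^ k := orderOf_dvd_of_pow_eq_one hk'
      have hcop : Nat.Coprime (orderOf x) (p ^ k) :=
        Nat.Coprime.pow_right _ ((Nat.Prime.coprime_iff_not_dvd hpp).2 hx).symm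
      have h7 : orderOf u = 1 := Nat.eq_one_of_dvd_coprimes hcop h5 h6
      have hu1 : u = 1 := orderOf_eq_one_iff.1 h7
      rw [hu1, mul_one] at h1
      exact h1.symm
    · intro h
      show (g : G ⧸ N) * (x : G ⧸ N) = (x : G ⧸ N) * (g : G ⧸ N)
      rw [← QuotientGroup.mk_mul, ← QuotientGroup.mk_mul, h]
  rw [← hcomap]
  exact (Subgroup.index_comap_of_surjective _ (QuotientGroup.mk'_surjective N)).symm

/-- lifting `p`-regular elements -/
theorem exists_pregular_lift {p : ℕ} [Fact p.Prime] (N : Subgroup G) [N.Normal] (gb : G ⧸ N)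
    (h : ¬ p ∣ orderOf gb) : ∃ x : G, (x : G ⧸ N) = gb ∧ ¬ p ∣ orderOf x := by
  have hpp : p.Prime := Fact.out
  obtain ⟨y, rfl⟩ := QuotientGroup.mk_surjective gb
  set o := orderOf y with ho
  have hopos : 0 < o := orderOf_pos y
  set P := p ^ (o.factorization p) with hP
  set m := o / P with hm
  have hPm : P * m = o := Nat.ordProj_mul_ordCompl_eq_self o p
  have hcop : Nat.Coprime P m := (Nat.coprime_ordCompl hpp hopos.ne').pow_left _
  have hpm : ¬ p ∣ m := Nat.not_dvd_ordCompl hpp hopos.ne'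
  obtain ⟨k, hk0, hk1⟩ := Nat.chineseRemainder hcop 0 1
  refine ⟨y ^ k, ?_, ?_⟩
  · have hdvd : orderOf (y : G ⧸ N) ∣ m := by
      have h1 : orderOf (y : G ⧸ N) ∣ o := orderOf_map_dvd (QuotientGroup.mk' N) y
      rw [← hPm] at h1
      have hc : Nat.Coprime (orderOf (y : G ⧸ N)) P :=
        Nat.Coprime.pow_right _ ((Nat.Prime.coprime_iff_not_dvd hpp).2 h).symm
      exact hc.dvd_of_dvd_mul_left h1
    have h2 : k ≡ 1 [MOD orderOf (y : G ⧸ N)] := hk1.of_dvd hdvd
    have h3 : (y : G ⧸ N) ^ k = (y : G ⧸ N) ^ 1 := (pow_eq_pow_iff_modEq).2 h2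
    rw [pow_one] at h3
    rw [QuotientGroup.mk_pow]
    exact h3
  · have h1 : (y ^ k) ^ m = 1 := by
      rw [← pow_mul]
      have hPk : P ∣ k := (Nat.modEq_zero_iff_dvd).1 hk0
      obtain ⟨c, hc⟩ := hPk
      rw [hc, mul_assoc, mul_comm c m, ← mul_assoc, hPm, pow_mul, pow_orderOf_eq_one, one_pow]
    have h2 : orderOf (y ^ k) ∣ m := orderOf_dvd_of_pow_eq_one h1
    intro h3
    exact hpm (h3.trans h2)

theorem blockCoeff_one_ne_zero (p : ℕ) [Fact p.Prime] (M : Ideal AlgInt) (hM : IsPModular p M)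
    (B : Set (IrrCharacter G)) (hB : IsPBlock M B) : blockCoeff B 1 ≠ 0 := by
  classical
  haveI : Fintype (IrrCharacter G) := Fintype.ofFinite _
  rw [helper24.blockCoeff_eq_sum B]
  obtain ⟨θ₀, hθ₀⟩ := block_nonempty hM hB
  have hnat : ∑ χ ∈ Finset.univ.filter (fun χ : IrrCharacter G => χ ∈ B),
      (χ : G → ℂ) 1 * conj ((χ : G → ℂ) 1) =
      ((∑ χ ∈ Finset.univ.filter (fun χ : IrrCharacter G => χ ∈ B),
        (charDegree (χ : G → ℂ)) ^ 2 : ℕ) : ℂ) := by
    rw [Nat.cast_sum]
    refine Finset.sum_congr rfl fun χ _ => ?_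
    rw [← helper24.char_charDegree_cast (helper24.irr_isCharacter χ.2)]
    push_cast
    rw [Complex.conj_natCast]
    ring
  rw [hnat]
  have hpos : 0 < ∑ χ ∈ Finset.univ.filter (fun χ : IrrCharacter G => χ ∈ B),
      (charDegree (χ : G → ℂ)) ^ 2 := by
    have hmem : θ₀ ∈ Finset.univ.filter (fun χ : IrrCharacter G => χ ∈ B) := by
      rw [Finset.mem_filter]; exact ⟨Finset.mem_univ _, hθ₀⟩
    have h1 := Finset.single_le_sum (f := fun χ : IrrCharacter G => (charDegree (χ : G → ℂ)) ^ 2)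
      (fun _ _ => Nat.zero_le _) hmem
    have h2 : 0 < (charDegree (θ₀ : G → ℂ)) ^ 2 := pow_pos (helper24.irr_charDegree_pos θ₀.2) 2
    exact lt_of_lt_of_le h2 h1
  apply mul_ne_zero
  · apply inv_ne_zero
    exact_mod_cast (Nat.card_pos (α := G)).ne'
  · exact_mod_cast hpos.ne'

/-- **inflation from the quotient by a normal `p`-subgroup is a bijection on blocks**, provided the
block idempotents of the quotient are supported on images of `p`-regular elements centralizing
the subgroup -/
theorem inflation_blocks (p : ℕ) [Fact p.Prime] (M : Ideal AlgInt) (hM : IsPModular p M)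
    (N : Subgroup G) [N.Normal] (hN : IsPGroup p N)
    (hsupp : ∀ Bb : Set (IrrCharacter (G ⧸ N)), IsPBlock M Bb → ∀ gb : G ⧸ N,
      blockCoeff Bb gb ≠ 0 →
      ∃ x : G, (x : G ⧸ N) = gb ∧ ¬ p ∣ orderOf x ∧ x ∈ Subgroup.centralizer (N : Set G)) :
    (∀ χ ψ : IrrCharacter (G ⧸ N), SameBlock M (χ : G ⧸ N → ℂ) (ψ : G ⧸ N → ℂ) ↔
      SameBlock M ((χ : G ⧸ N → ℂ) ∘ QuotientGroup.mk) ((ψ : G ⧸ N → ℂ) ∘ QuotientGroup.mk)) ∧
    ∀ B : Set (IrrCharacter G), IsPBlock M B → ∃ χ : IrrCharacter (G ⧸ N), ∃ θ ∈ B,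
      (θ : G → ℂ) = (χ : G ⧸ N → ℂ) ∘ QuotientGroup.mk := by
  classical
  have hpp : p.Prime := Fact.out
  have hMp : M.IsPrime := hM.2.1.isPrime
  have hMtop : M ≠ ⊤ := hMp.ne_top
  haveI : Fintype (G ⧸ N) := Fintype.ofFinite _
  refine ⟨fun χ ψ => ⟨?_, ?_⟩, ?_⟩
  · intro h g
    obtain ⟨n, hn⟩ := index_centralizer_quotient_dvd N g
    have key : ∀ φ : G ⧸ N → ℂ, centralChar (φ ∘ (QuotientGroup.mk : G → G ⧸ N)) g =
        (n : ℂ) * centralChar φ (g : G ⧸ N) := by
      intro φ
      unfold centralChar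
      simp only [Function.comp]
      rw [hn, QuotientGroup.mk_one]
      push_cast
      ring
    rw [key, key, ← mul_sub]
    exact helper24.memLocalIdeal_mul_left
      (helper24.memLocalRing_of_integral hMtop (isIntegral_natCast (R := ℤ) (B := ℂ) n)) (h _)
  · intro h
    obtain ⟨hcf, hl, ho, -⟩ := helper24.blockCoeff_props (M := M) χ
    set Bb := blockOf M (χ : G ⧸ N → ℂ) with hBb
    set e := blockCoeff Bb with he
    have hdiff : MemLocalIdeal M (helper24.omegaFn (ψ : G ⧸ N → ℂ) e -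
        helper24.omegaFn (χ : G ⧸ N → ℂ) e) := by
      rw [helper24.omegaFn_eq_sum_classes (helper24.irr_isCharacter ψ.2) hcf,
        helper24.omegaFn_eq_sum_classes (helper24.irr_isCharacter χ.2) hcf,
        ← Finset.sum_sub_distrib]
      apply helper24.memLocalIdeal_sum
      intro K _
      by_cases h0 : e (Quotient.out K) = 0
      · rw [h0, zero_mul, zero_mul, sub_zero]
        exact helper24.memLocalIdeal_zero hMtop
      · obtain ⟨x, hxK, hxreg, hxN⟩ := hsupp Bb ⟨χ, rfl⟩ _ h0
        rw [← mul_sub]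
        apply helper24.memLocalIdeal_mul_left (hl _)
        rw [← hxK]
        have hidx := index_centralizer_quotient_eq N hN x hxreg hxN
        have key : ∀ φ : G ⧸ N → ℂ, centralChar φ (x : G ⧸ N) =
            centralChar (φ ∘ (QuotientGroup.mk : G → G ⧸ N)) x := by
          intro φ
          unfold centralChar
          simp only [Function.comp]
          rw [hidx, QuotientGroup.mk_one]
        rw [key, key]
        have h1 := helper24.memLocalIdeal_neg (h x)
        rwa [neg_sub] at h1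
    have hχB : χ ∈ Bb := helper24.sameBlock_refl M hMtop _
    rw [ho ψ, ho χ, if_pos hχB] at hdiff
    by_contra hψ
    have hψ' : ψ ∉ Bb := hψ
    rw [if_neg hψ'] at hdiff
    have h2 := helper24.memLocalIdeal_neg hdiff
    rw [neg_sub, sub_zero] at h2
    exact helper24.not_memLocalIdeal_one h2
  · intro B hB
    haveI : Fintype (IrrCharacter G) := Fintype.ofFinite _
    by_contra hcon
    push Not at hcon
    have hall : ∀ θ ∈ B, ∑ h : G, (if h ∈ N then (θ : G → ℂ) h else 0) = 0 := by
      intro θ hθ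
      rcases helper24.irr_normal_dichotomy θ.2 N with h1 | h1
      · have h2 := h1 1
        simpa using h2
      · exfalso
        obtain ⟨ψ, hψ, hψe⟩ := helper24.irr_deflation N θ.2 h1
        exact hcon ⟨ψ, hψ⟩ θ hθ hψe
    have hsum1 : ∑ h : G, (if h ∈ N then blockCoeff B h else 0) = blockCoeff B 1 := by
      rw [Finset.sum_eq_single 1]
      · rw [if_pos N.one_mem]
      · intro h _ hne
        split_ifs with hN'
        · apply blockCoeff_eq_zero_of_singular p M hM B hB
          obtain ⟨k, hk⟩ := hN ⟨h, hN'⟩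
          have hk' : h ^ (p ^ k) = 1 := by
            have := congrArg Subtype.val hk
            simpa using this
          have hdvd : orderOf h ∣ p ^ k := orderOf_dvd_of_pow_eq_one hk'
          obtain ⟨j, -, hj⟩ := (Nat.dvd_prime_pow hpp).1 hdvd
          have hj0 : j ≠ 0 := by
            rintro rfl
            rw [pow_zero, orderOf_eq_one_iff] at hj
            exact hne hj
          rw [hj]
          exact dvd_pow_self p hj0
        · rfl
      · intro h
        exact absurd (Finset.mem_univ _) h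
    have hsum2 : ∑ h : G, (if h ∈ N then blockCoeff B h else 0) = 0 := by
      have h3 : ∀ h : G, (if h ∈ N then blockCoeff B h else 0) =
          (Nat.card G : ℂ)⁻¹ * ∑ χ ∈ Finset.univ.filter (fun χ : IrrCharacter G => χ ∈ B),
            (χ : G → ℂ) 1 * conj (if h ∈ N then (χ : G → ℂ) h else 0) := by
        intro h
        rw [helper24.blockCoeff_eq_sum B]
        split_ifs <;> simp
      rw [Finset.sum_congr rfl (fun h _ => h3 h), ← Finset.mul_sum, Finset.sum_comm]
      have h4 : ∀ χ ∈ Finset.univ.filter (fun χ : IrrCharacter G => χ ∈ B),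
          ∑ h : G, (χ : G → ℂ) 1 * conj (if h ∈ N then (χ : G → ℂ) h else 0) = 0 := by
        intro χ hχ
        rw [Finset.mem_filter] at hχ
        rw [← Finset.mul_sum, ← map_sum, hall χ hχ.2, map_zero, mul_zero]
      rw [Finset.sum_congr rfl h4, Finset.sum_const_zero, mul_zero]
    exact blockCoeff_one_ne_zero p M hM B hB (hsum1 ▸ hsum2)

/-- S0941: `G / C_G(P)` a `p`-group -/
theorem inflation_blocks_of_centralizer_index (p : ℕ) [Fact p.Prime] (M : Ideal AlgInt)
    (hM : IsPModular p M) (P : Subgroup G) [P.Normal] (hP : IsPGroup p P)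
    (hC : ∃ k : ℕ, (Subgroup.centralizer (P : Set G)).index = p ^ k) :
    (∀ χ ψ : IrrCharacter (G ⧸ P), SameBlock M (χ : G ⧸ P → ℂ) (ψ : G ⧸ P → ℂ) ↔
      SameBlock M ((χ : G ⧸ P → ℂ) ∘ QuotientGroup.mk) ((ψ : G ⧸ P → ℂ) ∘ QuotientGroup.mk)) ∧
    ∀ B : Set (IrrCharacter G), IsPBlock M B → ∃ χ : IrrCharacter (G ⧸ P), ∃ θ ∈ B,
      (θ : G → ℂ) = (χ : G ⧸ P → ℂ) ∘ QuotientGroup.mk := by
  classical
  have hpp : p.Prime := Fact.out
  haveI : Fintype (G ⧸ P) := Fintype.ofFinite _
  apply inflation_blocks p M hM P hP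
  intro Bb hBb gb hgb
  have hreg : ¬ p ∣ orderOf gb := by
    intro h
    exact hgb (blockCoeff_eq_zero_of_singular p M hM Bb hBb gb h)
  obtain ⟨x, hx, hxreg⟩ := exists_pregular_lift P gb hreg
  refine ⟨x, hx, hxreg, ?_⟩
  haveI hCn : (Subgroup.centralizer (P : Set G)).Normal := Subgroup.normal_centralizer
  obtain ⟨k, hk⟩ := hC
  have h1 : ((x : G ⧸ Subgroup.centralizer (P : Set G))) ^ (p ^ k) = 1 := by
    rw [← hk, Subgroup.index_eq_card]
    exact pow_card_eq_one'
  have h2 : orderOf (x : G ⧸ Subgroup.centralizer (P : Set G)) ∣ p ^ k :=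
    orderOf_dvd_of_pow_eq_one h1
  have h3 : orderOf (x : G ⧸ Subgroup.centralizer (P : Set G)) ∣ orderOf x :=
    orderOf_map_dvd (QuotientGroup.mk' (Subgroup.centralizer (P : Set G))) x
  have hcop : Nat.Coprime (orderOf x) (p ^ k) :=
    Nat.Coprime.pow_right _ ((Nat.Prime.coprime_iff_not_dvd hpp).2 hxreg).symm
  have h4 : orderOf (x : G ⧸ Subgroup.centralizer (P : Set G)) = 1 :=
    Nat.eq_one_of_dvd_coprimes hcop h3 h2
  rw [orderOf_eq_one_iff, QuotientGroup.eq_one_iff] at h4
  exact h4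

/-- S4964: quotient by the derived subgroup of a normal `p`-subgroup -/
theorem inflation_blocks_derived (p : ℕ) [Fact p.Prime] (M : Ideal AlgInt)
    (hM : IsPModular p M) (D : Subgroup G) [D.Normal] (hD : IsPGroup p D) :
    (∀ χ ψ : IrrCharacter (G ⧸ ⁅D, D⁆), SameBlock M (χ : G ⧸ ⁅D, D⁆ → ℂ) (ψ : G ⧸ ⁅D, D⁆ → ℂ) ↔
      SameBlock M ((χ : G ⧸ ⁅D, D⁆ → ℂ) ∘ QuotientGroup.mk)
        ((ψ : G ⧸ ⁅D, D⁆ → ℂ) ∘ QuotientGroup.mk)) ∧
    ∀ B : Set (IrrCharacter G), IsPBlock M B → ∃ χ : IrrCharacter (G ⧸ ⁅D, D⁆), ∃ θ ∈ B,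
      (θ : G → ℂ) = (χ : G ⧸ ⁅D, D⁆ → ℂ) ∘ QuotientGroup.mk := by
  classical
  have hpp : p.Prime := Fact.out
  haveI : Fintype (G ⧸ ⁅D, D⁆) := Fintype.ofFinite _
  have hDD : ⁅D, D⁆ ≤ D := Subgroup.commutator_le_right D D
  have hN : IsPGroup p ↥(⁅D, D⁆ : Subgroup G) := hD.to_le hDD
  apply inflation_blocks p M hM ⁅D, D⁆ hN
  intro Bb hBb gb hgb
  have hreg : ¬ p ∣ orderOf gb := by
    intro h
    exact hgb (blockCoeff_eq_zero_of_singular p M hM Bb hBb gb h)
  -- the image of D
  set Db : Subgroup (G ⧸ ⁅D, D⁆) := D.map (QuotientGroup.mk' ⁅D, D⁆) with hDb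
  haveI hDbn : Db.Normal := Subgroup.Normal.map inferInstance _ (QuotientGroup.mk'_surjective _)
  have hDbp : IsPGroup p Db := hD.map _
  have hcent : gb ∈ Subgroup.centralizer (Db : Set (G ⧸ ⁅D, D⁆)) := by
    by_contra h
    exact hgb (blockCoeff_eq_zero_of_not_mem_centralizer p M hM Db hDbp Bb hBb gb h)
  obtain ⟨x, hx, hxreg⟩ := exists_pregular_lift ⁅D, D⁆ gb hreg
  refine ⟨x, hx, hxreg, ?_⟩
  -- x centralizes D
  have hxD : Subgroup.zpowers x ≤ Subgroup.centralizer (D : Set G) := by
    apply helper7.centralizes_of_commutator_le_frattini (p := p) D (Subgroup.zpowers x) hD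
    · rw [Nat.card_zpowers]
      exact (Nat.Prime.coprime_iff_not_dvd hpp).2 hxreg |>.symm
    · rw [Subgroup.normalizer_eq_top]
      exact le_top
    · have h1 : ⁅D, Subgroup.zpowers x⁆ ≤ ⁅D, D⁆ := by
        rw [Subgroup.commutator_le]
        intro d hd a ha
        rw [← QuotientGroup.eq_one_iff (N := ⁅D, D⁆)]
        obtain ⟨j, rfl⟩ := Subgroup.mem_zpowers_iff.1 ha
        have hdb : (d : G ⧸ ⁅D, D⁆) ∈ Db := ⟨d, hd, rfl⟩
        have hxj : ((x ^ j : G) : G ⧸ ⁅D, D⁆) ∈ Subgroup.centralizer (Db : Set (G ⧸ ⁅D, D⁆)) := by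
          rw [QuotientGroup.mk_zpow, hx]
          exact Subgroup.zpow_mem _ hcent j
        rw [Subgroup.mem_centralizer_iff] at hxj
        have h2 := hxj _ hdb
        show ((d * x ^ j * d⁻¹ * (x ^ j)⁻¹ : G) : G ⧸ ⁅D, D⁆) = 1
        rw [QuotientGroup.mk_mul, QuotientGroup.mk_mul, QuotientGroup.mk_mul, QuotientGroup.mk_inv,
          QuotientGroup.mk_inv, h2]
        group
      have h2 : ⁅D, D⁆ ≤ (frattini ↥D).map D.subtype := by
        rw [← Subgroup.map_subtype_commutator]
        exact Subgroup.map_mono (commutator_le_frattini_of_isPGroup hD)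
      exact h1.trans h2
  have hx' : x ∈ Subgroup.centralizer (D : Set G) := hxD (Subgroup.mem_zpowers x)
  exact Subgroup.centralizer_le hDD hx'

end InflBlock

end Cfsg.Agent.helper1
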