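import Mathlib

set_option autoImplicit false
set_option linter.unusedVariables false
set_option linter.unusedSectionVars false
set_option linter.style.longLine false
set_option linter.style.haveILetI false

namespace Cfsg.Agent.helper1

section AutC

variable {K : Type*} [Field K]

/-- a copy of `ℂ` regarded as a `K`-algebra through the ring homomorphism `f` -/
def CopyC (f : K →+* ℂ) : Type := ℂ

noncomputable instance (f : K →+* ℂ) : Field (CopyC f) := inferInstanceAs (Field ℂ)
instance (f : K →+* ℂ) : IsAlgClosed (CopyC f) := inferInstanceAs (IsAlgClosed ℂ)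
instance (f : K →+* ℂ) : CharZero (CopyC f) := inferInstanceAs (CharZero ℂ)
noncomputable instance (f : K →+* ℂ) : Algebra K (CopyC f) := f.toAlgebra

theorem copyC_algebraMap (f : K →+* ℂ) (c : K) : algebraMap K (CopyC f) c = (f c : ℂ) := rfl

/-- the identity map `ℂ → CopyC f` -/
def toCopyC (f : K →+* ℂ) (z : ℂ) : CopyC f := z

/-- Two embeddings of a field algebraic over `ℚ` into `ℂ` differ by an automorphism of `ℂ`. -/
theorem exists_ringEquiv_extends [Algebra ℚ K] [Algebra.IsAlgebraic ℚ K] (f g : K →+* ℂ) :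
    ∃ τ : ℂ ≃+* ℂ, ∀ c : K, τ (f c) = g c := by
  classical
  obtain ⟨s, hs⟩ := exists_isTranscendenceBasis ℚ ℂ
  let xf : s → CopyC f := fun i => toCopyC f (i : ℂ)
  let xg : s → CopyC g := fun i => toCopyC g (i : ℂ)
  have hsf : IsTranscendenceBasis ℚ xf := hs
  have hsg : IsTranscendenceBasis ℚ xg := hs
  have hf : IsTranscendenceBasis K xf :=
    (Algebra.IsAlgebraic.isTranscendenceBasis_iff ℚ K).mp hsf
  have hg : IsTranscendenceBasis K xg :=
    (Algebra.IsAlgebraic.isTranscendenceBasis_iff ℚ K).mp hsg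
  letI := IsAlgClosed.isAlgClosure_of_transcendence_basis xf hf
  letI := IsAlgClosed.isAlgClosure_of_transcendence_basis xg hg
  let e : Algebra.adjoin K (Set.range xf) ≃ₐ[K] Algebra.adjoin K (Set.range xg) :=
    hf.1.aevalEquiv.symm.trans hg.1.aevalEquiv
  let E : CopyC f ≃+* CopyC g := IsAlgClosure.equivOfEquiv (CopyC f) (CopyC g) e.toRingEquiv
  refine ⟨E, fun c => ?_⟩
  have h1 : toCopyC f (f c) = algebraMap (Algebra.adjoin K (Set.range xf))
      (CopyC f) (algebraMap K _ c) := rfl
  show E (toCopyC f (f c)) = toCopyC g (g c)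
  rw [h1, IsAlgClosure.equivOfEquiv_algebraMap]
  have h2 : e.toRingEquiv (algebraMap K _ c) = algebraMap K _ c := e.commutes c
  rw [h2]
  rfl

end AutC

end Cfsg.Agent.helper1
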