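import Mathlib

set_option autoImplicit false
set_option linter.unusedVariables false
set_option linter.unusedSectionVars false
set_option linter.style.longLine false
set_option linter.style.haveILetI false

namespace Cfsg.Agent.helper1

open Module Polynomial

section PowTrace

variable {V : Type*} [AddCommGroup V] [Module ℂ V] [FiniteDimensional ℂ V]

theorem pow_apply_of_mem_eigenspace (f : Module.End ℂ V) (μ : ℂ) (k : ℕ) {v : V}
    (hv : v ∈ f.eigenspace μ) : (f ^ k) v = μ ^ k • v := by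
  induction k with
  | zero => simp
  | succ k ih =>
    rw [pow_succ, Module.End.mul_apply, Module.End.mem_eigenspace_iff.mp hv, map_smul, ih,
      smul_smul, pow_succ, mul_comm]

/-- Power sums: if `f ^ N = 1` then there are finitely many `N`-th roots of unity `μ` with
multiplicities `m μ` such that `trace (f ^ k) = ∑ μ, m μ * μ ^ k` for all `k`. -/
theorem trace_pow_eq_sum (f : Module.End ℂ V) (N : ℕ) (hN : 0 < N) (hf : f ^ N = 1) :
    ∃ (S : Finset ℂ) (m : ℂ → ℕ), (∀ μ ∈ S, μ ^ N = 1) ∧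
      ∀ k : ℕ, LinearMap.trace ℂ V (f ^ k) = ∑ μ ∈ S, (m μ : ℂ) * μ ^ k := by
  classical
  have hsep : (X ^ N - C (1:ℂ)).Separable :=
    separable_X_pow_sub_C (1:ℂ) (by exact_mod_cast hN.ne') one_ne_zero
  have hss : f.IsSemisimple := by
    refine Module.End.isSemisimple_of_squarefree_aeval_eq_zero hsep.squarefree ?_
    simp [hf]
  have htop := hss.iSup_eigenspace_eq_top
  have hind := f.eigenspaces_iSupIndep
  have hds := DirectSum.isInternal_submodule_of_iSupIndep_of_iSup_eq_top hind htop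
  have hfin : {μ | f.eigenspace μ ≠ ⊥}.Finite := WellFoundedGT.finite_ne_bot_of_iSupIndep hind
  have hmaps : ∀ (k : ℕ) (μ : ℂ), Set.MapsTo (f ^ k) (f.eigenspace μ) (f.eigenspace μ) := by
    intro k μ v hv
    have hv' : v ∈ f.eigenspace μ := hv
    show (f ^ k) v ∈ f.eigenspace μ
    rw [pow_apply_of_mem_eigenspace f μ k hv']
    exact Submodule.smul_mem _ _ hv'
  refine ⟨hfin.toFinset, fun μ => finrank ℂ (f.eigenspace μ), ?_, ?_⟩
  · intro μ hμ
    rw [Set.Finite.mem_toFinset] at hμ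
    obtain ⟨v, hv, hv0⟩ := (Submodule.ne_bot_iff _).mp hμ
    have h1 := pow_apply_of_mem_eigenspace f μ N hv
    rw [hf, Module.End.one_apply] at h1
    have h2 : (μ ^ N - 1) • v = 0 := by rw [sub_smul, one_smul, ← h1, sub_self]
    rcases smul_eq_zero.mp h2 with h | h
    · exact sub_eq_zero.mp h
    · exact absurd h hv0
  · intro k
    rw [LinearMap.trace_eq_sum_trace_restrict' hds hfin (hmaps k)]
    refine Finset.sum_congr rfl fun μ _ => ?_
    have : (f ^ k).restrict (hmaps k μ) = (μ ^ k) • (LinearMap.id : f.eigenspace μ →ₗ[ℂ] f.eigenspace μ) := by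
      ext v
      exact pow_apply_of_mem_eigenspace f μ k v.2
    rw [this, map_smul, LinearMap.trace_id, smul_eq_mul, mul_comm]

end PowTrace

section CycField

open IntermediateField

/-- the primitive `N`-th root of unity `exp(2πi/N)` -/
noncomputable def zetaN (N : ℕ) : ℂ := Complex.exp (2 * Real.pi * Complex.I / N)

theorem zetaN_isPrimitiveRoot (N : ℕ) (hN : N ≠ 0) : IsPrimitiveRoot (zetaN N) N :=
  Complex.isPrimitiveRoot_exp N hN

/-- the cyclotomic field `ℚ(ζ_N)` as a subfield of `ℂ` -/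
noncomputable def cycField (N : ℕ) : IntermediateField ℚ ℂ := ℚ⟮zetaN N⟯

theorem zetaN_mem (N : ℕ) : zetaN N ∈ cycField N := mem_adjoin_simple_self ℚ _

theorem zetaN_isIntegral (N : ℕ) (hN : N ≠ 0) : IsIntegral ℚ (zetaN N) := by
  refine ⟨Polynomial.X ^ N - 1, Polynomial.monic_X_pow_sub_C 1 hN, ?_⟩
  simp [(zetaN_isPrimitiveRoot N hN).pow_eq_one]

theorem cycField_finiteDimensional (N : ℕ) (hN : N ≠ 0) : FiniteDimensional ℚ (cycField N) :=
  adjoin.finiteDimensional (zetaN_isIntegral N hN)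

theorem cycField_numberField (N : ℕ) (hN : N ≠ 0) : NumberField (cycField N) :=
  haveI := cycField_finiteDimensional N hN
  { to_charZero := inferInstance, to_finiteDimensional := inferInstance }

theorem root_mem_cycField (N : ℕ) (hN : N ≠ 0) {μ : ℂ} (hμ : μ ^ N = 1) : μ ∈ cycField N := by
  haveI : NeZero N := ⟨hN⟩
  obtain ⟨i, _, hi⟩ := (zetaN_isPrimitiveRoot N hN).eq_pow_of_pow_eq_one hμ
  rw [← hi]
  exact pow_mem (zetaN_mem N) i

/-- a sum of roots of unity with natural multiplicities lies in the cyclotomic field -/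
theorem sum_roots_mem_cycField (N : ℕ) (hN : N ≠ 0) (S : Finset ℂ) (m : ℂ → ℕ)
    (hS : ∀ μ ∈ S, μ ^ N = 1) (k : ℕ) : (∑ μ ∈ S, (m μ : ℂ) * μ ^ k) ∈ cycField N := by
  refine sum_mem fun μ hμ => mul_mem (IntermediateField.natCast_mem _ _) (pow_mem (root_mem_cycField N hN (hS μ hμ)) k)

/-- each embedding of the cyclotomic field raises roots of unity to a fixed power prime to `N` -/
theorem exists_galExp (N : ℕ) (hN : N ≠ 0) (σ : cycField N →ₐ[ℚ] ℂ) :
    ∃ t : ℕ, t.Coprime N ∧ ∀ (μ : ℂ) (hμ : μ ^ N = 1),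
      σ ⟨μ, root_mem_cycField N hN hμ⟩ = μ ^ t := by
  haveI : NeZero N := ⟨hN⟩
  have hζ := zetaN_isPrimitiveRoot N hN
  let ζK : cycField N := ⟨zetaN N, zetaN_mem N⟩
  have hζK : IsPrimitiveRoot ζK N := by
    have : IsPrimitiveRoot ((cycField N).val ζK) N := hζ
    exact IsPrimitiveRoot.of_map_of_injective (f := (cycField N).val) this
      (cycField N).val.injective
  have hσζ : IsPrimitiveRoot (σ ζK) N := hζK.map_of_injective σ.injective
  obtain ⟨t, _, ht⟩ := hζ.eq_pow_of_pow_eq_one hσζ.pow_eq_one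
  have htc : t.Coprime N := by
    rw [← ht] at hσζ
    exact (hζ.pow_iff_coprime (Nat.pos_of_ne_zero hN) t).mp hσζ
  refine ⟨t, htc, fun μ hμ => ?_⟩
  obtain ⟨j, _, hj⟩ := hζ.eq_pow_of_pow_eq_one hμ
  have : (⟨μ, root_mem_cycField N hN hμ⟩ : cycField N) = ζK ^ j := by
    apply Subtype.ext
    simp [ζK, hj]
  rw [this, map_pow, ← ht, ← hj, ← pow_mul, ← pow_mul, mul_comm]

/-- the exponent attached to an embedding of the cyclotomic field -/
noncomputable def galExp (N : ℕ) (hN : N ≠ 0) (σ : cycField N →ₐ[ℚ] ℂ) : ℕ :=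
  (exists_galExp N hN σ).choose

theorem galExp_coprime (N : ℕ) (hN : N ≠ 0) (σ : cycField N →ₐ[ℚ] ℂ) :
    (galExp N hN σ).Coprime N := (exists_galExp N hN σ).choose_spec.1

theorem galExp_root (N : ℕ) (hN : N ≠ 0) (σ : cycField N →ₐ[ℚ] ℂ) (μ : ℂ) (hμ : μ ^ N = 1) :
    σ ⟨μ, root_mem_cycField N hN hμ⟩ = μ ^ galExp N hN σ :=
  (exists_galExp N hN σ).choose_spec.2 μ hμ

/-- action of an embedding on a sum of roots of unity -/
theorem galExp_sum (N : ℕ) (hN : N ≠ 0) (σ : cycField N →ₐ[ℚ] ℂ) (S : Finset ℂ) (m : ℂ → ℕ)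
    (hS : ∀ μ ∈ S, μ ^ N = 1) (k : ℕ) (x : cycField N)
    (hx : (x : ℂ) = ∑ μ ∈ S, (m μ : ℂ) * μ ^ k) :
    σ x = ∑ μ ∈ S, (m μ : ℂ) * μ ^ (k * galExp N hN σ) := by
  classical
  let y : cycField N := ∑ μ ∈ S.attach, (m μ.1 : cycField N) *
    (⟨μ.1, root_mem_cycField N hN (hS μ.1 μ.2)⟩ : cycField N) ^ k
  have hxy : x = y := by
    apply Subtype.ext
    rw [hx]
    simp only [y]
    rw [← Finset.sum_attach]
    push_cast
    rfl
  rw [hxy]
  simp only [y, map_sum, map_mul, map_natCast, map_pow]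
  rw [← Finset.sum_attach S (fun μ => (m μ : ℂ) * μ ^ (k * galExp N hN σ))]
  refine Finset.sum_congr rfl fun μ _ => ?_
  rw [galExp_root N hN σ μ.1 (hS μ.1 μ.2), ← pow_mul, mul_comm k]

theorem isIntegral_sum_roots (N : ℕ) (hN : N ≠ 0) (S : Finset ℂ) (m : ℂ → ℕ)
    (hS : ∀ μ ∈ S, μ ^ N = 1) (k : ℕ) : IsIntegral ℤ (∑ μ ∈ S, (m μ : ℂ) * μ ^ k) := by
  refine IsIntegral.sum _ fun μ hμ => IsIntegral.mul (isIntegral_natCast _) (IsIntegral.pow ?_ k)
  exact ⟨Polynomial.X ^ N - 1, Polynomial.monic_X_pow_sub_C 1 hN, by simp [hS μ hμ]⟩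

/-- A nonzero algebraic integer of the cyclotomic field fixed by all embeddings has absolute
value at least one. -/
theorem one_le_norm_of_fixed (N : ℕ) (hN : N ≠ 0) (x : cycField N) (hint : IsIntegral ℤ (x : ℂ))
    (hx0 : x ≠ 0) (hfix : ∀ σ : cycField N →ₐ[ℚ] ℂ, σ x = (x : ℂ)) : 1 ≤ ‖(x : ℂ)‖ := by
  classical
  haveI := cycField_finiteDimensional N hN
  haveI := cycField_numberField N hN
  have hxint : IsIntegral ℤ x := by
    have h1 : IsIntegral ℤ (algebraMap (cycField N) ℂ x) := hint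
    exact (isIntegral_algebraMap_iff (algebraMap (cycField N) ℂ).injective).mp h1
  have hNint : IsIntegral ℤ (Algebra.norm ℚ x) := Algebra.isIntegral_norm ℚ hxint
  obtain ⟨z, hz⟩ := IsIntegrallyClosed.isIntegral_iff.mp hNint
  have hprod := Algebra.norm_eq_prod_embeddings ℚ ℂ x
  have hN0 : Algebra.norm ℚ x ≠ 0 := fun h => hx0 (Algebra.norm_eq_zero_iff.mp h)
  have hz0 : z ≠ 0 := by
    rintro rfl
    apply hN0
    rw [← hz]; simp
  have hprod' : ((z : ℚ) : ℂ) = (x : ℂ) ^ Fintype.card (cycField N →ₐ[ℚ] ℂ) := by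
    have : (algebraMap ℚ ℂ) (Algebra.norm ℚ x) = ((z : ℚ) : ℂ) := by rw [← hz]; rfl
    rw [← this, hprod, Finset.prod_congr rfl (fun σ _ => hfix σ), Finset.prod_const,
      Finset.card_univ]
  by_contra hlt
  rw [not_le] at hlt
  have h1 : ‖(x : ℂ) ^ Fintype.card (cycField N →ₐ[ℚ] ℂ)‖ < 1 := by
    rw [norm_pow]
    refine pow_lt_one₀ (norm_nonneg _) hlt ?_
    haveI : Nonempty (cycField N →ₐ[ℚ] ℂ) := ⟨(cycField N).val⟩
    exact Fintype.card_ne_zero
  rw [← hprod'] at h1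
  have h2 : ‖((z : ℚ) : ℂ)‖ = |(z : ℝ)| := by
    rw [show ((z : ℚ) : ℂ) = ((z : ℝ) : ℂ) by push_cast; rfl, Complex.norm_real, Real.norm_eq_abs]
  rw [h2] at h1
  have h3 : |z| < 1 := by exact_mod_cast h1
  exact hz0 (Int.abs_lt_one_iff.mp h3)

end CycField

section GroupChar

variable {G : Type*} [Group G] [Finite G]
variable {V : Type*} [AddCommGroup V] [Module ℂ V] [FiniteDimensional ℂ V]

theorem card_ne_zero' : Nat.card G ≠ 0 := Nat.card_pos.ne'

/-- values of a character on the powers of `g` are power sums of `|G|`-th roots of unity -/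
theorem char_pow_eq_sum (ρ : Representation ℂ G V) (g : G) :
    ∃ (S : Finset ℂ) (m : ℂ → ℕ), (∀ μ ∈ S, μ ^ Nat.card G = 1) ∧
      ∀ k : ℕ, ρ.character (g ^ k) = ∑ μ ∈ S, (m μ : ℂ) * μ ^ k := by
  have hf : (ρ g) ^ Nat.card G = 1 := by
    rw [← map_pow, pow_card_eq_one', map_one]
  obtain ⟨S, m, hS, h⟩ := trace_pow_eq_sum (ρ g) (Nat.card G) Nat.card_pos hf
  refine ⟨S, m, hS, fun k => ?_⟩
  rw [← h k, ← map_pow]
  rfl

theorem char_mem_cycField (ρ : Representation ℂ G V) (g : G) :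
    ρ.character g ∈ cycField (Nat.card G) := by
  obtain ⟨S, m, hS, h⟩ := char_pow_eq_sum ρ g
  have := h 1
  rw [pow_one] at this
  rw [this]
  exact sum_roots_mem_cycField _ card_ne_zero' S m hS 1

theorem isIntegral_char (ρ : Representation ℂ G V) (g : G) : IsIntegral ℤ (ρ.character g) := by
  obtain ⟨S, m, hS, h⟩ := char_pow_eq_sum ρ g
  have := h 1
  rw [pow_one] at this
  rw [this]
  exact isIntegral_sum_roots _ card_ne_zero' S m hS 1

/-- **Galois conjugation of character values**: an embedding `σ` of `ℚ(ζ_{|G|})` sends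
`χ(g)` to `χ(g ^ t)`, `t = galExp σ` prime to `|G|`. -/
theorem galois_char (σ : cycField (Nat.card G) →ₐ[ℚ] ℂ) (ρ : Representation ℂ G V) (g : G)
    (x : cycField (Nat.card G)) (hx : (x : ℂ) = ρ.character g) :
    σ x = ρ.character (g ^ galExp (Nat.card G) card_ne_zero' σ) := by
  obtain ⟨S, m, hS, h⟩ := char_pow_eq_sum ρ g
  have h1 := h 1
  rw [pow_one] at h1
  rw [galExp_sum _ card_ne_zero' σ S m hS 1 x (by rw [hx, h1]), h, one_mul]

end GroupChar

end Cfsg.Agent.helper1
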