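import Cfsg.Prelude.Def_Blocks
import Mathlib

set_option autoImplicit false

/-!
Basic facts on `Cfsg.IsCharacter`, `Cfsg.IsIrrCharacter`, `Cfsg.classInner`, `Cfsg.charDegree`
(shared library, helper24).
-/

namespace Cfsg.Agent.helper24

open scoped ComplexConjugate ComplexOrder
open Matrix

universe u

/-- For a finite group of complex matrices: trace of the inverse is the conjugate of the trace. -/
theorem trace_inv_eq_conj {G : Type*} [Group G] [Finite G] {n : ℕ}
    (A : G →* Matrix (Fin n) (Fin n) ℂ) (h : G) :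
    (A h⁻¹).trace = conj ((A h).trace) := by
  classical
  have := Fintype.ofFinite G
  set P : Matrix (Fin n) (Fin n) ℂ := ∑ g : G, (A g)ᴴ * A g with hP
  have hPpd : P.PosDef := by
    have h1 : P = (A 1)ᴴ * A 1 + ∑ g ∈ Finset.univ.erase (1:G), (A g)ᴴ * A g := by
      rw [hP, ← Finset.add_sum_erase _ _ (Finset.mem_univ (1:G))]
    rw [h1]
    apply Matrix.PosDef.add_posSemidef
    · simp only [map_one, conjTranspose_one, mul_one]
      exact Matrix.PosDef.one
    · apply Matrix.posSemidef_sum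
      intro g _
      exact Matrix.posSemidef_conjTranspose_mul_self _
  have hinv : (A h)ᴴ * P * A h = P := by
    rw [hP, Finset.mul_sum, Finset.sum_mul]
    have : ∀ g : G, (A h)ᴴ * ((A g)ᴴ * A g) * A h = (A (g * h))ᴴ * A (g * h) := by
      intro g
      rw [map_mul, conjTranspose_mul]
      simp only [Matrix.mul_assoc]
    simp_rw [this]
    exact Fintype.sum_equiv (Equiv.mulRight h) _ _ (fun g => rfl)
  have hAh : A h * A h⁻¹ = 1 := by rw [← map_mul, mul_inv_cancel, map_one]
  have hPu := hPpd.isUnit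
  obtain ⟨U, hU⟩ := hPu
  have e1 : (A h)ᴴ * P = P * A h⁻¹ := by
    have h3 : (A h)ᴴ * P * A h * A h⁻¹ = P * A h⁻¹ := by rw [hinv]
    rw [Matrix.mul_assoc, hAh, Matrix.mul_one] at h3
    exact h3
  have e2 : A h⁻¹ = (↑U⁻¹ : Matrix (Fin n) (Fin n) ℂ) * (A h)ᴴ * (↑U : Matrix (Fin n) (Fin n) ℂ) := by
    rw [Matrix.mul_assoc, hU, e1, ← hU, ← Matrix.mul_assoc, Units.inv_mul, Matrix.one_mul]
  rw [e2, Matrix.trace_units_conj', Matrix.trace_conjTranspose]
  rfl

/-- The matrix form of a representation on a coordinate space. -/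
noncomputable def repMatrix {G : Type*} [Group G] {n : ℕ} (ρ : Representation ℂ G (Fin n → ℂ)) :
    G →* Matrix (Fin n) (Fin n) ℂ where
  toFun g := LinearMap.toMatrix' (ρ g)
  map_one' := by simp
  map_mul' g h := by simp [LinearMap.toMatrix'_mul]

theorem repMatrix_trace {G : Type*} [Group G] {n : ℕ} (ρ : Representation ℂ G (Fin n → ℂ)) (g : G) :
    (repMatrix ρ g).trace = ρ.character g := by
  simp [repMatrix, Representation.character, LinearMap.trace_eq_matrix_trace ℂ (Pi.basisFun ℂ (Fin n)),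
    LinearMap.toMatrix_eq_toMatrix']

/-- Character of a representation of a finite group: value at the inverse is the conjugate. -/
theorem rep_char_inv {G : Type*} [Group G] [Finite G] {n : ℕ}
    (ρ : Representation ℂ G (Fin n → ℂ)) (g : G) :
    ρ.character g⁻¹ = conj (ρ.character g) := by
  rw [← repMatrix_trace, ← repMatrix_trace, trace_inv_eq_conj]

variable {G : Type u} [Group G]

theorem irr_isCharacter {χ : G → ℂ} (h : IsIrrCharacter G χ) : IsCharacter G χ := by
  obtain ⟨n, ρ, _, hρ⟩ := h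
  exact ⟨n, ρ, hρ⟩

theorem char_inv [Finite G] {χ : G → ℂ} (h : IsCharacter G χ) (g : G) :
    χ g⁻¹ = conj (χ g) := by
  obtain ⟨n, ρ, rfl⟩ := h
  exact rep_char_inv ρ g

theorem char_conj_eq [Finite G] {χ : G → ℂ} (h : IsCharacter G χ) (g : G) :
    conj (χ g) = χ g⁻¹ := (char_inv h g).symm

theorem char_isClassFunction {χ : G → ℂ} (h : IsCharacter G χ) : IsClassFunction G χ := by
  obtain ⟨n, ρ, rfl⟩ := h
  intro g x
  exact Representation.char_conj ρ g x

theorem char_mul_comm {χ : G → ℂ} (h : IsCharacter G χ) (g x : G) :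
    χ (g * x) = χ (x * g) := by
  obtain ⟨n, ρ, rfl⟩ := h
  exact Representation.char_mul_comm ρ x g

theorem char_apply_one {χ : G → ℂ} (h : IsCharacter G χ) : ∃ n : ℕ, χ 1 = n := by
  obtain ⟨n, ρ, rfl⟩ := h
  exact ⟨n, by simp⟩

theorem irr_apply_one {χ : G → ℂ} (h : IsIrrCharacter G χ) :
    ∃ n : ℕ, 0 < n ∧ χ 1 = n := by
  obtain ⟨n, ρ, hirr, rfl⟩ := h
  refine ⟨n, ?_, by simp⟩
  by_contra hn
  have hn0 : n = 0 := by omega
  subst hn0
  have : Nontrivial (Subrepresentation ρ) := hirr.toNontrivial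
  obtain ⟨a, b, hab⟩ := this
  apply hab
  apply Subrepresentation.toSubmodule_injective
  apply Subsingleton.elim

theorem charDegree_natCast (χ : G → ℂ) (n : ℕ) (h : χ 1 = n) : charDegree χ = n := by
  simp [charDegree, h]

theorem char_charDegree_cast {χ : G → ℂ} (h : IsCharacter G χ) :
    (charDegree χ : ℂ) = χ 1 := by
  obtain ⟨n, hn⟩ := char_apply_one h
  rw [charDegree_natCast χ n hn, hn]

theorem irr_charDegree_pos {χ : G → ℂ} (h : IsIrrCharacter G χ) :
    0 < charDegree χ := by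
  obtain ⟨n, hn0, hn⟩ := irr_apply_one h
  rw [charDegree_natCast χ n hn]; exact hn0

theorem irr_apply_one_ne_zero {χ : G → ℂ} (h : IsIrrCharacter G χ) : χ 1 ≠ 0 := by
  obtain ⟨n, hn0, hn⟩ := irr_apply_one h
  rw [hn]; exact_mod_cast hn0.ne'

end Cfsg.Agent.helper24
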