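import Mathlib
import Cfsg.Prelude
import Cfsg.Agent.Lib_helper1_AutC
import Cfsg.Agent.Lib_helper1_Galois
import Cfsg.Agent.Lib_helper24_CharBasic
import Cfsg.Agent.Lib_helper24_CharOrth
import Cfsg.Agent.Lib_helper12_CharOps

set_option autoImplicit false
set_option linter.unusedVariables false
set_option linter.unusedSectionVars false
set_option linter.style.longLine false
set_option linter.style.haveILetI false

namespace Cfsg.Agent.helper1

open Cfsg

section Twist

variable {G : Type*} [Group G]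

/-- twisting a coordinate representation entrywise by a ring endomorphism of `ℂ` -/
noncomputable def galRep (τ : ℂ →+* ℂ) {n : ℕ} (ρ : Representation ℂ G (Fin n → ℂ)) :
    Representation ℂ G (Fin n → ℂ) where
  toFun g := Matrix.toLin' ((helper24.repMatrix ρ g).map τ)
  map_one' := by
    rw [map_one, Matrix.map_one τ (map_zero τ) (map_one τ), Matrix.toLin'_one]
    rfl
  map_mul' a b := by
    rw [map_mul, Matrix.map_mul, Matrix.toLin'_mul]
    rfl

theorem galRep_character (τ : ℂ →+* ℂ) {n : ℕ} (ρ : Representation ℂ G (Fin n → ℂ)) (g : G) :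
    (galRep τ ρ).character g = τ (ρ.character g) := by
  show LinearMap.trace ℂ _ (Matrix.toLin' ((helper24.repMatrix ρ g).map τ)) = _
  rw [Matrix.trace_toLin'_eq, ← helper24.repMatrix_trace, AddMonoidHom.map_trace]

/-- Galois conjugates of characters are characters. -/
theorem isCharacter_galConj (τ : ℂ →+* ℂ) {χ : G → ℂ} (hχ : IsCharacter G χ) :
    IsCharacter G (fun g => τ (χ g)) := by
  obtain ⟨n, ρ, rfl⟩ := hχ
  exact ⟨n, galRep τ ρ, funext fun g => galRep_character τ ρ g⟩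

/-- Galois conjugates of irreducible characters are irreducible. -/
theorem isIrrCharacter_galConj [Finite G] (τ : ℂ →+* ℂ) {χ : G → ℂ} (hχ : IsIrrCharacter G χ) :
    IsIrrCharacter G (fun g => τ (χ g)) := by
  classical
  haveI : Fintype G := Fintype.ofFinite G
  have hc := helper24.irr_isCharacter hχ
  have hc' := isCharacter_galConj τ hc
  apply helper12.isIrrCharacter_of_classInner_self hc'
  have h1 := helper24.irr_classInner_self hχ
  unfold classInner at h1 ⊢
  have e1 : ∀ g, (starRingEnd ℂ) (χ g) = χ g⁻¹ := fun g => (helper24.char_inv hc g).symm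
  have e2 : ∀ g, (starRingEnd ℂ) (τ (χ g)) = τ (χ g⁻¹) := fun g =>
    (helper24.char_inv hc' g).symm
  rw [Finset.sum_congr rfl (fun g _ => by rw [e1 g])] at h1
  rw [Finset.sum_congr rfl (fun g _ => by rw [e2 g])]
  have := congrArg τ h1
  rw [map_mul, map_inv₀, map_natCast, map_sum, map_one] at this
  rw [← this]
  congr 1
  refine Finset.sum_congr rfl fun g _ => ?_
  rw [map_mul]

end Twist

section Surj

open IntermediateField

/-- for `t` prime to `N` there is an automorphism of `ℂ` raising all `N`-th roots of unity to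
the `t`-th power -/
theorem exists_aut_pow (N : ℕ) (hN : N ≠ 0) (t : ℕ) (ht : t.Coprime N) :
    ∃ τ : ℂ ≃+* ℂ, ∀ μ : ℂ, μ ^ N = 1 → τ μ = μ ^ t := by
  haveI : NeZero N := ⟨hN⟩
  have hζ := zetaN_isPrimitiveRoot N hN
  have hint := zetaN_isIntegral N hN
  have hintZ : IsIntegral ℤ (zetaN N) := hζ.isIntegral (Nat.pos_of_ne_zero hN)
  have hintZ' : IsIntegral ℤ (zetaN N ^ t) := hintZ.pow t
  have hmin : minpoly ℚ (zetaN N) = minpoly ℚ (zetaN N ^ t) := by
    rw [minpoly.isIntegrallyClosed_eq_field_fractions' ℚ hintZ,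
      minpoly.isIntegrallyClosed_eq_field_fractions' ℚ hintZ', hζ.minpoly_eq_pow_coprime ht]
  let pb := adjoin.powerBasis hint
  have hgen : minpoly ℚ pb.gen = minpoly ℚ (zetaN N) := by
    show minpoly ℚ (AdjoinSimple.gen ℚ (zetaN N)) = _
    exact minpoly_gen ℚ (zetaN N)
  have hy : Polynomial.aeval (zetaN N ^ t) (minpoly ℚ pb.gen) = 0 := by
    rw [hgen, hmin, minpoly.aeval]
  let σ : ℚ⟮zetaN N⟯ →ₐ[ℚ] ℂ := pb.lift (zetaN N ^ t) hy
  have hσ : σ pb.gen = zetaN N ^ t := pb.lift_gen _ hy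
  haveI : FiniteDimensional ℚ ℚ⟮zetaN N⟯ := adjoin.finiteDimensional hint
  haveI : Algebra.IsAlgebraic ℚ ℚ⟮zetaN N⟯ := Algebra.IsAlgebraic.of_finite ℚ _
  obtain ⟨τ, hτ⟩ := exists_ringEquiv_extends (K := ℚ⟮zetaN N⟯)
    (ℚ⟮zetaN N⟯.val.toRingHom) σ.toRingHom
  have hτζ : τ (zetaN N) = zetaN N ^ t := by
    have := hτ pb.gen
    rw [show (σ.toRingHom pb.gen) = σ pb.gen from rfl, hσ] at this
    rw [← this]
    rfl
  refine ⟨τ, fun μ hμ => ?_⟩
  obtain ⟨j, _, hj⟩ := hζ.eq_pow_of_pow_eq_one hμ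
  rw [← hj, map_pow, hτζ, ← pow_mul, ← pow_mul, mul_comm]

end Surj

section GroupLevel

variable {G : Type*} [Group G] [Finite G]

/-- the values of a character transform under an automorphism raising roots of unity to the
`t`-th power by `g ↦ g ^ t` -/
theorem aut_char_eq (τ : ℂ ≃+* ℂ) (t : ℕ) (hτ : ∀ μ : ℂ, μ ^ Nat.card G = 1 → τ μ = μ ^ t)
    {χ : G → ℂ} (hχ : IsCharacter G χ) (g : G) : τ (χ g) = χ (g ^ t) := by
  obtain ⟨n, ρ, rfl⟩ := hχ
  obtain ⟨S, m, hS, h⟩ := char_pow_eq_sum ρ g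
  have h1 := h 1
  rw [pow_one] at h1
  rw [h1, h t, map_sum]
  refine Finset.sum_congr rfl fun μ hμ => ?_
  rw [map_mul, map_natCast, pow_one, hτ μ (hS μ hμ)]

/-- **Galois conjugation by power maps**: for `t` prime to `|G|` and `χ` a character,
`g ↦ χ (g ^ t)` is a character, irreducible if `χ` is. -/
theorem isCharacter_powMap (t : ℕ) (ht : t.Coprime (Nat.card G)) {χ : G → ℂ}
    (hχ : IsCharacter G χ) : IsCharacter G (fun g => χ (g ^ t)) := by
  obtain ⟨τ, hτ⟩ := exists_aut_pow (Nat.card G) card_ne_zero' t ht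
  have h := isCharacter_galConj (τ : ℂ →+* ℂ) hχ
  have : (fun g => (τ : ℂ →+* ℂ) (χ g)) = fun g => χ (g ^ t) :=
    funext fun g => aut_char_eq τ t hτ hχ g
  rw [this] at h
  exact h

theorem isIrrCharacter_powMap (t : ℕ) (ht : t.Coprime (Nat.card G)) {χ : G → ℂ}
    (hχ : IsIrrCharacter G χ) : IsIrrCharacter G (fun g => χ (g ^ t)) := by
  obtain ⟨τ, hτ⟩ := exists_aut_pow (Nat.card G) card_ne_zero' t ht
  have h := isIrrCharacter_galConj (τ : ℂ →+* ℂ) hχ
  have : (fun g => (τ : ℂ →+* ℂ) (χ g)) = fun g => χ (g ^ t) :=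
    funext fun g => aut_char_eq τ t hτ (helper24.irr_isCharacter hχ) g
  rw [this] at h
  exact h

end GroupLevel

end Cfsg.Agent.helper1
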