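import Mathlib
import Cfsg.Agent.Lib_helper24_CharCount
import Cfsg.Agent.Lib_helper24_CharCentral
import Cfsg.Agent.Lib_helper24_CharOrth
import Cfsg.Agent.S0187
import Cfsg.Agent.Lib_helper23_LinChar

set_option autoImplicit false

namespace Cfsg.Agent.helper24

open Cfsg
open scoped ComplexConjugate

section Special

variable {G : Type*} [Group G]

/-- `g` is special with respect to `N`: commutators with `g` lying in `N` are trivial -/
def IsSpecial (N : Subgroup G) (g : G) : Prop :=
  ∀ x : G, x⁻¹ * g⁻¹ * x * g ∈ N → x * g = g * x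

theorem isSpecial_mul_right {N : Subgroup G} (hN : N ≤ Subgroup.center G) {g : G}
    (h : IsSpecial N g) {z : G} (hz : z ∈ N) : IsSpecial N (g * z) := by
  intro x hx
  have hzc : ∀ a : G, a * z = z * a := Subgroup.mem_center_iff.1 (hN hz)
  have h1 : x⁻¹ * (g * z)⁻¹ * x * (g * z) = x⁻¹ * g⁻¹ * x * g := by
    have : x⁻¹ * (g * z)⁻¹ * x * (g * z) = x⁻¹ * g⁻¹ * x * g * (z⁻¹ * z) := by
      rw [mul_inv_rev]
      have hz' : ∀ a : G, a * z⁻¹ = z⁻¹ * a := fun a => by
        have := hzc (z⁻¹ * a * z⁻¹)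
        have h2 : z⁻¹ * a * z⁻¹ * z = z⁻¹ * a := by group
        have h3 : z * (z⁻¹ * a * z⁻¹) = a * z⁻¹ := by group
        rw [h2, h3] at this
        exact this.symm
      calc x⁻¹ * (z⁻¹ * g⁻¹) * x * (g * z) = x⁻¹ * z⁻¹ * (g⁻¹ * x * g) * z := by group
        _ = z⁻¹ * x⁻¹ * (g⁻¹ * x * g) * z := by rw [hz' x⁻¹]
        _ = z⁻¹ * (x⁻¹ * g⁻¹ * x * g * z) := by group
        _ = x⁻¹ * g⁻¹ * x * g * z * z⁻¹ := (hz' _).symm
        _ = x⁻¹ * g⁻¹ * x * g * (z⁻¹ * z) := by group
    rw [this, inv_mul_cancel, mul_one]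
  rw [h1] at hx
  have h2 := h x hx
  calc x * (g * z) = (x * g) * z := by group
    _ = (g * x) * z := by rw [h2]
    _ = g * (x * z) := by group
    _ = g * (z * x) := by rw [hzc x]
    _ = g * z * x := by group

theorem isSpecial_conj {N : Subgroup G} [hNn : N.Normal] {g : G} (h : IsSpecial N g) (a : G) :
    IsSpecial N (a * g * a⁻¹) := by
  intro x hx
  have h1 : (a⁻¹ * x * a)⁻¹ * g⁻¹ * (a⁻¹ * x * a) * g =
      a⁻¹ * (x⁻¹ * (a * g * a⁻¹)⁻¹ * x * (a * g * a⁻¹)) * a⁻¹⁻¹ := by group
  have h2 : (a⁻¹ * x * a)⁻¹ * g⁻¹ * (a⁻¹ * x * a) * g ∈ N := by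
    rw [h1]; exact hNn.conj_mem _ hx _
  have h3 := h _ h2
  calc x * (a * g * a⁻¹) = a * ((a⁻¹ * x * a) * g) * a⁻¹ := by group
    _ = a * (g * (a⁻¹ * x * a)) * a⁻¹ := by rw [h3]
    _ = a * g * a⁻¹ * x := by group

/-- specialness only depends on the conjugacy class of the image in `G ⧸ N` -/
theorem isSpecial_of_isConj_mk {N : Subgroup G} [hNn : N.Normal] (hN : N ≤ Subgroup.center G)
    {g g' : G} (h : IsSpecial N g')
    (hc : IsConj (QuotientGroup.mk g' : G ⧸ N) (QuotientGroup.mk g : G ⧸ N)) : IsSpecial N g := by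
  obtain ⟨c, hc⟩ := isConj_iff.1 hc
  obtain ⟨a, rfl⟩ := QuotientGroup.mk_surjective c
  have h1 : (QuotientGroup.mk (a * g' * a⁻¹) : G ⧸ N) = QuotientGroup.mk g := by
    rw [← hc]; rfl
  have h2 : (a * g' * a⁻¹)⁻¹ * g ∈ N := QuotientGroup.eq.1 h1
  have h3 : g = (a * g' * a⁻¹) * ((a * g' * a⁻¹)⁻¹ * g) := by group
  rw [h3]
  exact isSpecial_mul_right hN (isSpecial_conj h a) h2

theorem centralizer_eq_comap_of_isSpecial {N : Subgroup G} [hNn : N.Normal] {g : G}
    (h : IsSpecial N g) :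
    Subgroup.centralizer ({g} : Set G) =
      (Subgroup.centralizer ({(QuotientGroup.mk g : G ⧸ N)} : Set (G ⧸ N))).comap
        (QuotientGroup.mk' N) := by
  ext x
  rw [Subgroup.mem_comap, Subgroup.mem_centralizer_iff, Subgroup.mem_centralizer_iff]
  constructor
  · intro hx y hy
    rw [Set.mem_singleton_iff] at hy
    rw [hy]
    have := hx g (Set.mem_singleton g)
    show (QuotientGroup.mk g : G ⧸ N) * QuotientGroup.mk x = QuotientGroup.mk x * QuotientGroup.mk g
    rw [← QuotientGroup.mk_mul, ← QuotientGroup.mk_mul, this]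
  · intro hx y hy
    rw [Set.mem_singleton_iff] at hy
    rw [hy]
    have h1 := hx (QuotientGroup.mk g) (Set.mem_singleton _)
    have h2 : (QuotientGroup.mk (g * x) : G ⧸ N) = QuotientGroup.mk (x * g) := h1
    have h3 : (g * x)⁻¹ * (x * g) ∈ N := QuotientGroup.eq.1 h2
    have h4 : (g * x)⁻¹ * (x * g) = x⁻¹ * g⁻¹ * x * g := by group
    rw [h4] at h3
    exact (h x h3).symm

theorem card_centralizer_of_isSpecial [Finite G] {N : Subgroup G} [hNn : N.Normal] {g : G}
    (h : IsSpecial N g) :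
    Nat.card (Subgroup.centralizer ({g} : Set G)) =
      Nat.card N * Nat.card (Subgroup.centralizer ({(QuotientGroup.mk g : G ⧸ N)} : Set (G ⧸ N))) := by
  set K := Subgroup.centralizer ({(QuotientGroup.mk g : G ⧸ N)} : Set (G ⧸ N)) with hK
  have h1 : (Subgroup.centralizer ({g} : Set G)).index = K.index := by
    rw [centralizer_eq_comap_of_isSpecial h]
    exact Subgroup.index_comap_of_surjective K (QuotientGroup.mk'_surjective N)
  have h2 := (Subgroup.centralizer ({g} : Set G)).card_mul_index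
  have h3 := K.card_mul_index
  have h4 : Nat.card G = Nat.card (G ⧸ N) * Nat.card N :=
    Subgroup.card_eq_card_quotient_mul_card_subgroup N
  have h5 : 0 < K.index := Nat.pos_of_ne_zero Subgroup.index_ne_zero_of_finite
  rw [h1] at h2
  have h6 : Nat.card (Subgroup.centralizer ({g} : Set G)) * K.index =
      (Nat.card N * Nat.card K) * K.index := by
    rw [h2, h4, ← h3]; ring
  exact Nat.eq_of_mul_eq_mul_right h5 h6

end Special

section ClassCount

variable {H : Type*} [Group H]

theorem card_centralizer_eq_of_isConj [Finite H] {a b : H} (hab : IsConj a b) :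
    Nat.card (Subgroup.centralizer ({a} : Set H)) = Nat.card (Subgroup.centralizer ({b} : Set H)) := by
  have h1 := card_conj_mul_card_centralizer a
  have h2 := card_conj_mul_card_centralizer b
  have h3 : Nat.card {x : H // IsConj x a} = Nat.card {x : H // IsConj x b} :=
    Nat.card_congr (Equiv.subtypeEquivRight (fun x =>
      ⟨fun h => h.trans hab, fun h => h.trans hab.symm⟩))
  rw [h3, ← h2] at h1
  have hpos : 0 < Nat.card {x : H // IsConj x b} :=
    Nat.card_pos_iff.2 ⟨⟨⟨b, IsConj.refl b⟩⟩, inferInstance⟩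
  exact Nat.eq_of_mul_eq_mul_left hpos h1

open scoped Classical in
/-- class counting: summing centralizer orders over the elements of a union of classes -/
theorem sum_card_centralizer_of_classes [Fintype H] (Pc : ConjClasses H → Prop) :
    ∑ h : H, (if Pc (ConjClasses.mk h) then Nat.card (Subgroup.centralizer ({h} : Set H)) else 0) =
      Nat.card H * Nat.card {C : ConjClasses H // Pc C} := by
  classical
  have := Fintype.ofFinite (ConjClasses H)
  rw [← Fintype.sum_fiberwise (ConjClasses.mk : H → ConjClasses H)]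
  have hfib : ∀ C : ConjClasses H, ∑ h : {h : H // ConjClasses.mk h = C},
      (if Pc (ConjClasses.mk (h : H)) then Nat.card (Subgroup.centralizer ({(h : H)} : Set H)) else 0) =
      if Pc C then Nat.card H else 0 := by
    intro C
    by_cases hC : Pc C
    · rw [if_pos hC]
      obtain ⟨h₀, rfl⟩ := ConjClasses.exists_rep C
      have h1 : ∀ h : {h : H // ConjClasses.mk h = ConjClasses.mk h₀},
          (if Pc (ConjClasses.mk (h : H)) then
            Nat.card (Subgroup.centralizer ({(h : H)} : Set H)) else 0) =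
          Nat.card (Subgroup.centralizer ({h₀} : Set H)) := by
        intro h
        rw [h.2, if_pos hC]
        exact card_centralizer_eq_of_isConj (ConjClasses.mk_eq_mk_iff_isConj.1 h.2)
      rw [Finset.sum_congr rfl (fun h _ => h1 h), Finset.sum_const, smul_eq_mul, Finset.card_univ,
        ← Nat.card_eq_fintype_card]
      have h2 : Nat.card {h : H // ConjClasses.mk h = ConjClasses.mk h₀} =
          Nat.card {x : H // IsConj x h₀} :=
        Nat.card_congr (Equiv.subtypeEquivRight (fun x => ConjClasses.mk_eq_mk_iff_isConj))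
      rw [h2]
      exact card_conj_mul_card_centralizer h₀
    · rw [if_neg hC]
      apply Finset.sum_eq_zero
      intro h _
      rw [h.2, if_neg hC]
  rw [Finset.sum_congr rfl (fun C _ => hfib C), ← Finset.sum_filter, Finset.sum_const, smul_eq_mul,
    mul_comm]
  congr 1
  rw [Nat.card_eq_fintype_card, Fintype.card_subtype]

end ClassCount

section QuotSum

variable {G : Type*} [Group G]

open scoped Classical in
theorem sum_comp_mk [Fintype G] (N : Subgroup G) [N.Normal] {M : Type*} [AddCommMonoid M]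
    (f : G ⧸ N → M) :
    ∑ g : G, f (QuotientGroup.mk g) = Nat.card N • ∑ q : G ⧸ N, f q := by
  classical
  rw [← Fintype.sum_fiberwise' (QuotientGroup.mk : G → G ⧸ N) f, Finset.smul_sum]
  refine Finset.sum_congr rfl (fun q _ => ?_)
  rw [Finset.sum_const, Finset.card_univ, ← Nat.card_eq_fintype_card]
  congr 1
  have h1 := QuotientGroup.card_preimage_mk N ({q} : Set (G ⧸ N))
  have h2 : Nat.card (({q} : Set (G ⧸ N))) = 1 := by
    rw [Nat.card_eq_fintype_card]; simp
  rw [h2, mul_one] at h1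
  rw [← h1]
  rfl

open scoped Classical in
theorem sum_special_centralizer [Fintype G] (N : Subgroup G) [N.Normal]
    (hN : N ≤ Subgroup.center G) :
    ∑ g : G, (if IsSpecial N g then Nat.card (Subgroup.centralizer ({g} : Set G)) else 0) =
      Nat.card N * (Nat.card N * (Nat.card (G ⧸ N) *
        Nat.card {C : ConjClasses (G ⧸ N) //
          ∃ g : G, ConjClasses.mk (g : G ⧸ N) = C ∧ IsSpecial N g})) := by
  classical
  set Pc : ConjClasses (G ⧸ N) → Prop :=
    fun C => ∃ g : G, ConjClasses.mk (g : G ⧸ N) = C ∧ IsSpecial N g with hPc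
  have hiff : ∀ g : G, Pc (ConjClasses.mk (g : G ⧸ N)) ↔ IsSpecial N g := by
    intro g
    constructor
    · rintro ⟨g', h, hs⟩
      exact isSpecial_of_isConj_mk hN hs (ConjClasses.mk_eq_mk_iff_isConj.1 h)
    · intro h
      exact ⟨g, rfl, h⟩
  have hterm : ∀ g : G,
      (if IsSpecial N g then Nat.card (Subgroup.centralizer ({g} : Set G)) else 0) =
      (fun q : G ⧸ N => if Pc (ConjClasses.mk q) then
        Nat.card N * Nat.card (Subgroup.centralizer ({q} : Set (G ⧸ N))) else 0)
        (QuotientGroup.mk g) := by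
    intro g
    by_cases h : IsSpecial N g
    · simp only [if_pos h, if_pos ((hiff g).2 h)]
      exact card_centralizer_of_isSpecial h
    · simp only [if_neg h, if_neg (fun h' => h ((hiff g).1 h'))]
  rw [Finset.sum_congr rfl (fun g _ => hterm g)]
  have h3 := sum_comp_mk N (fun q : G ⧸ N => if Pc (ConjClasses.mk q) then
        Nat.card N * Nat.card (Subgroup.centralizer ({q} : Set (G ⧸ N))) else 0)
  rw [smul_eq_mul] at h3
  refine h3.trans ?_
  congr 1
  have h2 : ∀ q : G ⧸ N, (if Pc (ConjClasses.mk q) then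
      Nat.card N * Nat.card (Subgroup.centralizer ({q} : Set (G ⧸ N))) else 0) =
      Nat.card N * (if Pc (ConjClasses.mk q) then
        Nat.card (Subgroup.centralizer ({q} : Set (G ⧸ N))) else 0) := by
    intro q
    split_ifs <;> simp
  rw [Finset.sum_congr rfl (fun q _ => h2 q), ← Finset.mul_sum]
  congr 1
  have h4 := sum_card_centralizer_of_classes (H := G ⧸ N) Pc
  convert h4

end QuotSum

section CentralOver

variable {G : Type*} [Group G] [Fintype G]

/-- an irreducible character lying over a linear character `ψ` of a central subgroup restricts to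
a multiple of `ψ` -/
theorem central_over_apply (N : Subgroup G) [Fintype N] (hN : N ≤ Subgroup.center G)
    (φ : N →* ℂˣ) (χ : IrrCharacter G)
    (hov : classInner (fun n : N => (χ : G → ℂ) n) (fun n : N => ((φ n : ℂˣ) : ℂ)) ≠ 0) (z : N) :
    (χ : G → ℂ) z = (χ : G → ℂ) 1 * ((φ z : ℂˣ) : ℂ) := by
  classical
  have hχ1 : (χ : G → ℂ) 1 ≠ 0 := irr_apply_one_ne_zero χ.2
  set μ : N → ℂ := fun z => (χ : G → ℂ) z / (χ : G → ℂ) 1 * conj ((φ z : ℂˣ) : ℂ) with hμ
  have hmul : ∀ a b : N, μ (a * b) = μ a * μ b := by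
    intro a b
    simp only [hμ]
    have h1 := irr_central_apply χ.2 (b : G) (hN b.2) (a : G)
    rw [Subgroup.coe_mul, h1, map_mul, Units.val_mul, map_mul]
    field_simp
  have hS : ∑ z : N, μ z ≠ 0 := by
    intro h0
    apply hov
    unfold classInner
    have : ∑ g : N, (χ : G → ℂ) g * conj ((φ g : ℂˣ) : ℂ) = (χ : G → ℂ) 1 * ∑ z : N, μ z := by
      rw [Finset.mul_sum]
      refine Finset.sum_congr rfl (fun g _ => ?_)
      simp only [hμ]
      field_simp
    rw [this, h0, mul_zero, mul_zero]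
  have hone : μ z = 1 := by
    have h1 : μ z * ∑ w : N, μ w = ∑ w : N, μ w := by
      rw [Finset.mul_sum]
      rw [← Fintype.sum_equiv (Equiv.mulLeft z) (fun w => μ (z * w)) (fun w => μ w) (fun w => rfl)]
      exact Finset.sum_congr rfl (fun w _ => (hmul z w).symm)
    have h2 : (μ z - 1) * ∑ w : N, μ w = 0 := by rw [sub_mul, h1, one_mul, sub_self]
    rcases mul_eq_zero.1 h2 with h | h
    · exact sub_eq_zero.1 h
    · exact absurd h hS
  simp only [hμ] at hone
  have h3 := hom_mul_conj φ z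
  have h4 : (χ : G → ℂ) z / (χ : G → ℂ) 1 * (conj ((φ z : ℂˣ) : ℂ) * ((φ z : ℂˣ) : ℂ)) =
      ((φ z : ℂˣ) : ℂ) := by
    rw [← mul_assoc, hone, one_mul]
  rw [mul_comm (conj _) _, h3, mul_one] at h4
  rw [← h4]
  field_simp

open scoped Classical in
theorem central_over_sum (N : Subgroup G) [Fintype N] (hN : N ≤ Subgroup.center G)
    (φ : N →* ℂˣ) (χ : IrrCharacter G) :
    ∑ z : N, (χ : G → ℂ) z / (χ : G → ℂ) 1 * conj ((φ z : ℂˣ) : ℂ) =
      if classInner (fun n : N => (χ : G → ℂ) n) (fun n : N => ((φ n : ℂˣ) : ℂ)) ≠ 0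
        then (Nat.card N : ℂ) else 0 := by
  classical
  have hχ1 : (χ : G → ℂ) 1 ≠ 0 := irr_apply_one_ne_zero χ.2
  by_cases hov : classInner (fun n : N => (χ : G → ℂ) n) (fun n : N => ((φ n : ℂˣ) : ℂ)) ≠ 0
  · rw [if_pos hov]
    have h1 : ∀ z : N, (χ : G → ℂ) z / (χ : G → ℂ) 1 * conj ((φ z : ℂˣ) : ℂ) = 1 := by
      intro z
      rw [central_over_apply N hN φ χ hov z, mul_div_cancel_left₀ _ hχ1]
      exact hom_mul_conj φ z
    rw [Finset.sum_congr rfl (fun z _ => h1 z), Finset.sum_const, Finset.card_univ,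
      Nat.card_eq_fintype_card]
    simp
  · rw [if_neg hov]
    have h0 : classInner (fun n : N => (χ : G → ℂ) n) (fun n : N => ((φ n : ℂˣ) : ℂ)) = 0 := by
      by_contra h; exact hov h
    unfold classInner at h0
    have hNne : (Nat.card N : ℂ)⁻¹ ≠ 0 := by
      apply inv_ne_zero
      exact_mod_cast (Nat.card_pos (α := N)).ne'
    have h1 := (mul_eq_zero.1 h0).resolve_left hNne
    have h2 : ∑ z : N, (χ : G → ℂ) z / (χ : G → ℂ) 1 * conj ((φ z : ℂˣ) : ℂ) =
        ((χ : G → ℂ) 1)⁻¹ * ∑ z : N, (χ : G → ℂ) z * conj ((φ z : ℂˣ) : ℂ) := by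
      rw [Finset.mul_sum]
      refine Finset.sum_congr rfl (fun z _ => ?_)
      field_simp
    rw [h2, h1, mul_zero]

open scoped Classical in
theorem sum_central_ratio [Fintype (IrrCharacter G)] (z : G) (hz : z ∈ Subgroup.center G) :
    (Nat.card G : ℂ) * ∑ χ : IrrCharacter G, (χ : G → ℂ) z / (χ : G → ℂ) 1 =
      ∑ g : G, (if IsConj (g * z) g then
        (Nat.card (Subgroup.centralizer ({g} : Set G)) : ℂ) else 0) := by
  classical
  have h1 : ∀ g : G, (if IsConj (g * z) g then
      (Nat.card (Subgroup.centralizer ({g} : Set G)) : ℂ) else 0) =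
      ∑ χ : IrrCharacter G, (χ : G → ℂ) z / (χ : G → ℂ) 1 *
        ((χ : G → ℂ) g * conj ((χ : G → ℂ) g)) := by
    intro g
    have h0 := irr_column_orthogonality (g * z) g
    have h0' : ∑ χ : IrrCharacter G, (χ : G → ℂ) (g * z) * conj ((χ : G → ℂ) g) =
        ∑ χ : IrrCharacter G, (χ : G → ℂ) z / (χ : G → ℂ) 1 *
          ((χ : G → ℂ) g * conj ((χ : G → ℂ) g)) := by
      refine Finset.sum_congr rfl (fun χ _ => ?_)
      rw [irr_central_apply χ.2 z hz g]
      ring
    rw [← h0', h0]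
    congr 1
  rw [Finset.sum_congr rfl (fun g _ => h1 g), Finset.sum_comm, Finset.mul_sum]
  refine Finset.sum_congr rfl (fun χ _ => ?_)
  rw [← Finset.mul_sum]
  have h2 := irr_classInner_self χ.2
  unfold classInner at h2
  have hG : (Nat.card G : ℂ) ≠ 0 := by exact_mod_cast (Nat.card_pos (α := G)).ne'
  have h3 : ∑ g : G, (χ : G → ℂ) g * conj ((χ : G → ℂ) g) = (Nat.card G : ℂ) := by
    field_simp at h2
    exact h2
  rw [h3, mul_comm]

open scoped Classical in
theorem sum_conj_twist (N : Subgroup G) [Fintype N] (hN : N ≤ Subgroup.center G)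
    (φ : N →* ℂˣ) (hfaith : ∀ z : N, φ z = 1 → z = 1) (g : G) :
    ∑ z : N, (if IsConj (g * (z : G)) g then conj ((φ z : ℂˣ) : ℂ) else 0) =
      if IsSpecial N g then 1 else 0 := by
  classical
  by_cases hsp : IsSpecial N g
  · rw [if_pos hsp]
    rw [Finset.sum_eq_single (1 : N)]
    · have : IsConj (g * ((1 : N) : G)) g := by
        rw [Subgroup.coe_one, mul_one]
      rw [if_pos this, map_one, Units.val_one, map_one]
    · intro z _ hz1
      rw [if_neg]
      intro hconj
      apply hz1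
      obtain ⟨c, hc⟩ := isConj_iff.1 hconj
      have hzc : ∀ a : G, a * (z : G) = (z : G) * a := Subgroup.mem_center_iff.1 (hN z.2)
      have h1 : (z : G) = g⁻¹ * c⁻¹ * g * c := by
        have : g * (z : G) = c⁻¹ * g * c := by
          calc g * (z : G) = c⁻¹ * (c * (g * (z : G)) * c⁻¹) * c := by group
            _ = c⁻¹ * g * c := by rw [hc]
        calc (z : G) = g⁻¹ * (g * (z : G)) := by group
          _ = g⁻¹ * (c⁻¹ * g * c) := by rw [this]
          _ = g⁻¹ * c⁻¹ * g * c := by group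
      have h2 : (c⁻¹)⁻¹ * g⁻¹ * c⁻¹ * g = (z : G) := by
        have h3 : c * (z : G) * c⁻¹ = (z : G) := by rw [hzc c]; group
        rw [← h3, h1]; group
      have h4 := hsp c⁻¹ (by rw [h2]; exact z.2)
      apply Subtype.ext
      rw [h1, Subgroup.coe_one]
      calc g⁻¹ * c⁻¹ * g * c = g⁻¹ * (c⁻¹ * g) * c := by group
        _ = g⁻¹ * (g * c⁻¹) * c := by rw [h4]
        _ = 1 := by group
    · intro h; exact absurd (Finset.mem_univ _) h
  · rw [if_neg hsp]
    unfold IsSpecial at hsp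
    rw [not_forall] at hsp
    obtain ⟨x₀, hx₀⟩ := hsp
    rw [Classical.not_imp] at hx₀
    obtain ⟨hz₀, hne⟩ := hx₀
    set z₀ : N := ⟨x₀⁻¹ * g⁻¹ * x₀ * g, hz₀⟩ with hz₀def
    have hz₀1 : z₀ ≠ 1 := by
      intro h
      apply hne
      have h1 : x₀⁻¹ * g⁻¹ * x₀ * g = 1 := congrArg Subtype.val h
      calc x₀ * g = g * x₀ * (x₀⁻¹ * g⁻¹ * x₀ * g) := by group
        _ = g * x₀ := by rw [h1, mul_one]
    have hφ₀ : conj ((φ z₀ : ℂˣ) : ℂ) ≠ 1 := by
      intro h
      apply hz₀1
      apply hfaith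
      apply Units.ext
      have := congrArg conj h
      rw [Complex.conj_conj, map_one] at this
      rw [this, Units.val_one]
    have hz₀c : ∀ a : G, a * (z₀ : G) = (z₀ : G) * a := Subgroup.mem_center_iff.1 (hN z₀.2)
    have hgz₀ : g * (z₀ : G) = x₀ * g * x₀⁻¹ := by
      have h1 : (z₀ : G) = x₀⁻¹ * g⁻¹ * x₀ * g := rfl
      have h2 : g * (z₀ : G) * x₀ = x₀ * g := by
        rw [mul_assoc, ← hz₀c x₀, h1]; group
      calc g * (z₀ : G) = g * (z₀ : G) * x₀ * x₀⁻¹ := by group
        _ = x₀ * g * x₀⁻¹ := by rw [h2]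
    have hiff : ∀ z : N, IsConj (g * ((z * z₀ : N) : G)) g ↔ IsConj (g * (z : G)) g := by
      intro z
      have hzc : ∀ a : G, a * (z : G) = (z : G) * a := Subgroup.mem_center_iff.1 (hN z.2)
      have h1 : g * ((z * z₀ : N) : G) = x₀ * (g * (z : G)) * x₀⁻¹ := by
        rw [Subgroup.coe_mul]
        calc g * ((z : G) * (z₀ : G)) = g * ((z₀ : G) * (z : G)) := by rw [hz₀c (z : G)]
          _ = g * (z₀ : G) * (z : G) := by group
          _ = x₀ * g * x₀⁻¹ * (z : G) := by rw [hgz₀]
          _ = x₀ * g * (x₀⁻¹ * (z : G)) := by group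
          _ = x₀ * g * ((z : G) * x₀⁻¹) := by rw [hzc x₀⁻¹]
          _ = x₀ * (g * (z : G)) * x₀⁻¹ := by group
      have h2 : IsConj (g * ((z * z₀ : N) : G)) (g * (z : G)) := by
        rw [h1]
        exact (isConj_iff.2 ⟨x₀, rfl⟩).symm
      exact ⟨fun h => h2.symm.trans h, fun h => h2.trans h⟩
    set S := ∑ z : N, (if IsConj (g * (z : G)) g then conj ((φ z : ℂˣ) : ℂ) else 0) with hS
    have h1 : S = conj ((φ z₀ : ℂˣ) : ℂ) * S := by
      conv_lhs => rw [hS]
      rw [← Fintype.sum_equiv (Equiv.mulRight z₀)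
        (fun z => (if IsConj (g * ((z * z₀ : N) : G)) g then
          conj ((φ (z * z₀) : ℂˣ) : ℂ) else 0))
        (fun z => (if IsConj (g * (z : G)) g then conj ((φ z : ℂˣ) : ℂ) else 0))
        (fun z => rfl)]
      rw [hS, Finset.mul_sum]
      refine Finset.sum_congr rfl (fun z _ => ?_)
      by_cases hc : IsConj (g * (z : G)) g
      · rw [if_pos ((hiff z).2 hc), if_pos hc, map_mul, Units.val_mul, map_mul, mul_comm]
      · rw [if_neg (fun h => hc ((hiff z).1 h)), if_neg hc, mul_zero]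
    have h2 : (1 - conj ((φ z₀ : ℂˣ) : ℂ)) * S = 0 := by
      rw [sub_mul, one_mul, ← h1, sub_self]
    rcases mul_eq_zero.1 h2 with h | h
    · exact absurd (sub_eq_zero.1 h).symm hφ₀
    · exact h

/-- the number of irreducible characters over a faithful linear character of a central subgroup
equals the number of special classes of the quotient -/
theorem card_over_eq_card_special (N : Subgroup G) [N.Normal] [Fintype N]
    (hN : N ≤ Subgroup.center G) (ψ : IrrCharacter N)
    (hfaith : ∀ n : N, (ψ : N → ℂ) n = (ψ : N → ℂ) 1 → n = 1) :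
    Nat.card {χ : IrrCharacter G // classInner (fun n : N => (χ : G → ℂ) n) (ψ : N → ℂ) ≠ 0} =
      Nat.card {C : ConjClasses (G ⧸ N) //
        ∃ g : G, ConjClasses.mk (g : G ⧸ N) = C ∧ IsSpecial N g} := by
  classical
  have := Fintype.ofFinite (IrrCharacter G)
  have hcomm : ∀ a b : N, a * b = b * a := fun a b =>
    Subtype.ext ((Subgroup.mem_center_iff.1 (hN b.2) a))
  have hψ1 : (ψ : N → ℂ) 1 = 1 := (Cfsg.Agent.S0187.result (G := N)).mp hcomm ψ
  obtain ⟨φ, hφ⟩ := Cfsg.Agent.helper23.exists_hom_of_linear (irr_isCharacter ψ.2) hψ1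
  have hψφ : (ψ : N → ℂ) = fun n => ((φ n : ℂˣ) : ℂ) := funext hφ
  have hfaith' : ∀ z : N, φ z = 1 → z = 1 := by
    intro z hz
    apply hfaith
    rw [hφ z, hψ1, hz, Units.val_one]
  rw [hψφ]
  set ov : IrrCharacter G → Prop := fun χ =>
    classInner (fun n : N => (χ : G → ℂ) n) (fun n : N => ((φ n : ℂˣ) : ℂ)) ≠ 0 with hov
  have hNpos : (Nat.card N : ℂ) ≠ 0 := by exact_mod_cast (Nat.card_pos (α := N)).ne'
  have hGpos : (Nat.card G : ℂ) ≠ 0 := by exact_mod_cast (Nat.card_pos (α := G)).ne'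
  -- the left-hand count as a sum
  have hL : (Nat.card N : ℂ) * (Nat.card {χ : IrrCharacter G // ov χ} : ℂ) =
      ∑ z : N, conj ((φ z : ℂˣ) : ℂ) * ∑ χ : IrrCharacter G, (χ : G → ℂ) z / (χ : G → ℂ) 1 := by
    have h1 : (Nat.card {χ : IrrCharacter G // ov χ} : ℂ) =
        ∑ χ : IrrCharacter G, (if ov χ then (1 : ℂ) else 0) := by
      rw [Nat.card_eq_fintype_card, Fintype.card_subtype, Finset.sum_boole]
    rw [h1, Finset.mul_sum]
    have h2 : ∀ χ : IrrCharacter G, (Nat.card N : ℂ) * (if ov χ then (1 : ℂ) else 0) =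
        ∑ z : N, (χ : G → ℂ) z / (χ : G → ℂ) 1 * conj ((φ z : ℂˣ) : ℂ) := by
      intro χ
      rw [central_over_sum N hN φ χ]
      by_cases h : ov χ
      · rw [if_pos h, if_pos h, mul_one]
      · rw [if_neg h, if_neg h, mul_zero]
    rw [Finset.sum_congr rfl (fun χ _ => h2 χ), Finset.sum_comm]
    refine Finset.sum_congr rfl (fun z _ => ?_)
    rw [Finset.mul_sum]
    refine Finset.sum_congr rfl (fun χ _ => ?_)
    ring
  have hR : (Nat.card G : ℂ) * ∑ z : N, conj ((φ z : ℂˣ) : ℂ) *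
      ∑ χ : IrrCharacter G, (χ : G → ℂ) z / (χ : G → ℂ) 1 =
      ((∑ g : G, (if IsSpecial N g then Nat.card (Subgroup.centralizer ({g} : Set G)) else 0) : ℕ) : ℂ) := by
    rw [Finset.mul_sum]
    have h1 : ∀ z : N, (Nat.card G : ℂ) * (conj ((φ z : ℂˣ) : ℂ) *
        ∑ χ : IrrCharacter G, (χ : G → ℂ) z / (χ : G → ℂ) 1) =
        ∑ g : G, (Nat.card (Subgroup.centralizer ({g} : Set G)) : ℂ) *
          (if IsConj (g * (z : G)) g then conj ((φ z : ℂˣ) : ℂ) else 0) := by
      intro z
      rw [mul_left_comm, sum_central_ratio (z : G) (hN z.2), Finset.mul_sum]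
      refine Finset.sum_congr rfl (fun g _ => ?_)
      split_ifs <;> ring
    rw [Finset.sum_congr rfl (fun z _ => h1 z), Finset.sum_comm]
    push_cast
    refine Finset.sum_congr rfl (fun g _ => ?_)
    rw [← Finset.mul_sum, sum_conj_twist N hN φ hfaith' g]
    split_ifs <;> simp
  have hE := sum_special_centralizer N hN
  have hcard : Nat.card G = Nat.card (G ⧸ N) * Nat.card N :=
    Subgroup.card_eq_card_quotient_mul_card_subgroup N
  have hfinal : (Nat.card N : ℂ) * (Nat.card G : ℂ) * (Nat.card {χ : IrrCharacter G // ov χ} : ℂ) =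
      (Nat.card N : ℂ) * (Nat.card G : ℂ) * (Nat.card {C : ConjClasses (G ⧸ N) //
        ∃ g : G, ConjClasses.mk (g : G ⧸ N) = C ∧ IsSpecial N g} : ℂ) := by
    calc (Nat.card N : ℂ) * (Nat.card G : ℂ) * (Nat.card {χ : IrrCharacter G // ov χ} : ℂ)
        = (Nat.card G : ℂ) * ((Nat.card N : ℂ) * (Nat.card {χ : IrrCharacter G // ov χ} : ℂ)) := by
          ring
      _ = ((∑ g : G, (if IsSpecial N g then
            Nat.card (Subgroup.centralizer ({g} : Set G)) else 0) : ℕ) : ℂ) := by rw [hL, hR]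
      _ = _ := by
          rw [hE, hcard]; push_cast; ring
  have h3 := mul_left_cancel₀ (mul_ne_zero hNpos hGpos) hfinal
  exact_mod_cast h3

end CentralOver

end Cfsg.Agent.helper24
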