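import Mathlib
import Cfsg.Agent.Lib_helper24_BlockBasic
import Cfsg.Agent.Lib_helper24_Osima
import Cfsg.Agent.Lib_helper24_BlockIdem
import Cfsg.Agent.Lib_helper24_LocalIdeal
import Cfsg.Agent.Lib_helper24_LocalRing
import Cfsg.Agent.Lib_helper24_Inertia
import Cfsg.Agent.Lib_helper5_Clifford
import Cfsg.Agent.Lib_helper5_Ind
import Cfsg.Agent.Lib_helper8_Ind
import Cfsg.Agent.Lib_helper12_Clifford
import Cfsg.Agent.Lib_helper23_Integral
import Cfsg.Agent.Lib_helper24_BlockOrth
import Cfsg.Agent.Lib_helper24_BlockOrth2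
import Cfsg.Agent.Lib_helper24_SpecialClasses
import Cfsg.Agent.Lib_helper24_CharKer
import Cfsg.Agent.Lib_helper24_CharValues

/-!
Blocks and normal subgroups (helper8): central elements of the group algebra supported on a
normal subgroup `N`, their central character values on characters of `G` lying over a given
character of `N`, and consequences for blocks.
-/

set_option autoImplicit false

namespace Cfsg.Agent.helper8.Cover

open Cfsg Cfsg.Agent.helper24 Cfsg.Agent.helper8 Cfsg.Agent.helper5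
open scoped ComplexConjugate

universe u

variable {G : Type u} [Group G] [Fintype G] (N : Subgroup G) [hN : N.Normal] [Fintype N]

/-- `omegaFn` is unchanged when both arguments are conjugated by an element of `G`. -/
theorem omegaFn_conj (g : G) (θ w : N → ℂ) :
    omegaFn (conjFunN N g θ) (conjFunN N g w) = omegaFn θ w := by
  unfold omegaFn
  have h1 : conjFunN N g θ 1 = θ 1 := by
    rw [conjFunN_apply]
    congr 1
    apply Subtype.ext
    simp
  rw [h1]
  congr 1
  let e : N ≃ N := (MulAut.conjNormal g : N ≃* N).toEquiv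
  rw [← Equiv.sum_comp e (fun m => w m * θ m)]
  apply Finset.sum_congr rfl
  intro n _
  rfl

/-- the restriction to `N` of a class function of `G` is invariant under `G` -/
theorem conj_res_eq {U : G → ℂ} (hU : IsClassFunction G U) (g : G) :
    conjFunN N g (res N U) = res N U := by
  funext n
  rw [conjFunN_apply, res_apply, res_apply]
  exact hU _ _

theorem res_isClassFunction {U : G → ℂ} (hU : IsClassFunction G U) :
    IsClassFunction N (res N U) := by
  intro g k
  show U ((k * g * k⁻¹ : N) : G) = U (g : G)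
  rw [Subgroup.coe_mul, Subgroup.coe_mul, Subgroup.coe_inv]
  exact hU _ _

/-- A central element supported on `N` acts on a character of `G` as it acts on any of the
constituents of its restriction to `N`. -/
theorem omegaFn_of_under {U : G → ℂ} (hU : IsClassFunction G U) (hU0 : ∀ g, g ∉ N → U g = 0)
    {χ : G → ℂ} (hχ : IsIrrCharacter G χ) {θ : N → ℂ} (hθ : IsIrrCharacter N θ)
    (hunder : classInner (res N χ) θ ≠ 0) :
    omegaFn χ U = omegaFn θ (res N U) := by
  classical
  haveI : Fintype (IrrCharacter N) := Fintype.ofFinite _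
  have hχcl : IsClassFunction G χ := char_isClassFunction (irr_isCharacter hχ)
  have hUext : U = extendByZero N (res N U) := by
    funext g
    by_cases hg : g ∈ N
    · rw [extendByZero_of_mem N _ g hg]; rfl
    · rw [extendByZero_of_not_mem N _ g hg, hU0 g hg]
  have hsum : ∑ g : G, U g * χ g = ∑ n : N, res N U n * χ n := by
    conv_lhs => rw [hUext]
    exact sum_extendByZero_mul N (res N U) χ
  have hexp := classFunction_expansion (res_isClassFunction N hχcl)
  have hval : ∀ n : N, χ n = ∑ φ : IrrCharacter N,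
      classInner (res N χ) (φ : N → ℂ) * (φ : N → ℂ) n := by
    intro n
    have := congrFun hexp n
    rw [Finset.sum_apply] at this
    rw [← res_apply N χ n, this]
    apply Finset.sum_congr rfl
    intro φ _
    rfl
  have hterm : ∀ φ : IrrCharacter N, classInner (res N χ) (φ : N → ℂ) *
      ∑ n : N, res N U n * (φ : N → ℂ) n
      = classInner (res N χ) (φ : N → ℂ) * (φ : N → ℂ) 1 * omegaFn θ (res N U) := by
    intro φ
    by_cases h0 : classInner (res N χ) (φ : N → ℂ) = 0
    · rw [h0, zero_mul, zero_mul, zero_mul]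
    · obtain ⟨g, hg⟩ := clifford_conj N hχ hθ φ.2 hunder h0
      have h1 : omegaFn (φ : N → ℂ) (res N U) = omegaFn θ (res N U) := by
        rw [hg]
        conv_lhs => rw [← conj_res_eq N hU g]
        exact omegaFn_conj N g θ (res N U)
      rw [← h1]
      unfold omegaFn
      rw [mul_assoc, mul_div_cancel₀ _ (irr_apply_one_ne_zero φ.2)]
  have h1 : ∑ n : N, res N U n * χ n
      = ∑ φ : IrrCharacter N, classInner (res N χ) (φ : N → ℂ) *
        ∑ n : N, res N U n * (φ : N → ℂ) n := by
    simp_rw [hval, Finset.mul_sum]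
    rw [Finset.sum_comm]
    apply Finset.sum_congr rfl
    intro φ _
    apply Finset.sum_congr rfl
    intro n _
    ring
  have h2 : χ 1 = ∑ φ : IrrCharacter N, classInner (res N χ) (φ : N → ℂ) * (φ : N → ℂ) 1 := by
    have := hval 1
    rw [Subgroup.coe_one] at this
    exact this
  unfold omegaFn at hterm ⊢
  rw [hsum, h1, Finset.sum_congr rfl (fun φ _ => hterm φ), ← Finset.sum_mul, ← h2]
  have hχ1 : χ 1 ≠ 0 := irr_apply_one_ne_zero hχ
  field_simp

variable {M : Ideal AlgInt} [hMp : M.IsPrime]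

/-- A `G`-invariant vector of the good subring of `N` comes from a central element of `G`
supported on `N` with local coefficients. -/
theorem exists_lift {v : IrrCharacter N → ℂ} (hv : v ∈ goodSubring N M)
    (hinv : ∀ (g : G) (φ : IrrCharacter N),
      v ⟨conjFunN N g (φ : N → ℂ), isIrrCharacter_conjFunN N g φ.2⟩ = v φ) :
    ∃ U : G → ℂ, IsClassFunction G U ∧ (∀ g, MemLocalRing M (U g)) ∧ (∀ g, g ∉ N → U g = 0) ∧
      ∀ φ : IrrCharacter N, omegaFn (φ : N → ℂ) (res N U) = v φ := by
  obtain ⟨u, hucl, hul, huo⟩ := hv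
  have hconjcl : ∀ g : G, IsClassFunction N (conjFunN N g u) := by
    intro g n k
    rw [conjFunN_apply, conjFunN_apply]
    have e : (⟨g * ((k * n * k⁻¹ : N) : G) * g⁻¹, hN.conj_mem _ (k * n * k⁻¹ : N).2 g⟩ : N)
        = (⟨g * (k : G) * g⁻¹, hN.conj_mem _ k.2 g⟩ : N)
          * (⟨g * (n : G) * g⁻¹, hN.conj_mem _ n.2 g⟩ : N)
          * (⟨g * (k : G) * g⁻¹, hN.conj_mem _ k.2 g⟩ : N)⁻¹ := by
      apply Subtype.ext
      simp only [Subgroup.coe_mul, Subgroup.coe_inv]
      group
    rw [e]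
    exact hucl _ _
  have huinv : ∀ g : G, conjFunN N g u = u := by
    intro g
    apply classFunction_ext_omega (hconjcl g) hucl
    intro φ
    have e1 : (φ : N → ℂ) = conjFunN N g (conjFunN N g⁻¹ (φ : N → ℂ)) := by
      rw [← conjFunN_mul, inv_mul_cancel, conjFunN_one]
    conv_lhs => rw [e1]
    rw [omegaFn_conj, huo ⟨conjFunN N g⁻¹ (φ : N → ℂ), isIrrCharacter_conjFunN N g⁻¹ φ.2⟩,
      hinv g⁻¹ φ, ← huo φ]
  have hres : res N (extendByZero N u) = u := by
    funext n
    rw [res_apply, extendByZero_coe]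
  refine ⟨extendByZero N u, ?_, ?_, ?_, ?_⟩
  · intro g k
    by_cases hg : g ∈ N
    · rw [extendByZero_of_mem N u g hg, extendByZero_of_mem N u _ (hN.conj_mem g hg k)]
      have := congrFun (huinv k) ⟨g, hg⟩
      rw [conjFunN_apply] at this
      exact this
    · rw [extendByZero_of_not_mem N u g hg, extendByZero_of_not_mem]
      intro h
      apply hg
      have := hN.conj_mem _ h k⁻¹
      have e : k⁻¹ * (k * g * k⁻¹) * k⁻¹⁻¹ = g := by group
      rwa [e] at this
  · intro g
    by_cases hg : g ∈ N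
    · rw [extendByZero_of_mem N u g hg]; exact hul _
    · rw [extendByZero_of_not_mem N u g hg]; exact memLocalRing_zero hMp.ne_top
  · intro g hg
    exact extendByZero_of_not_mem N u g hg
  · intro φ
    rw [hres]
    exact huo φ

/-- For a `G`-invariant `0/1`-valued vector of the good subring of `N`, characters of `G` in the
same block lie over characters of `N` with the same value. -/
theorem value_eq_of_sameBlock {v : IrrCharacter N → ℂ} (hv : v ∈ goodSubring N M)
    (hinv : ∀ (g : G) (φ : IrrCharacter N),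
      v ⟨conjFunN N g (φ : N → ℂ), isIrrCharacter_conjFunN N g φ.2⟩ = v φ)
    (h01 : ∀ φ, v φ = 0 ∨ v φ = 1)
    {χ χ' : IrrCharacter G} (hs : SameBlock M (χ : G → ℂ) (χ' : G → ℂ))
    {θ θ' : IrrCharacter N} (hθ : classInner (res N (χ : G → ℂ)) (θ : N → ℂ) ≠ 0)
    (hθ' : classInner (res N (χ' : G → ℂ)) (θ' : N → ℂ) ≠ 0) : v θ = v θ' := by
  obtain ⟨U, hUcl, hUl, hU0, hUo⟩ := exists_lift N hv hinv
  have h1 := omegaFn_sub_memLocalIdeal hs hUcl hUl
  rw [omegaFn_of_under N hUcl hU0 χ.2 θ.2 hθ, omegaFn_of_under N hUcl hU0 χ'.2 θ'.2 hθ',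
    hUo, hUo] at h1
  rcases h01 θ with h | h <;> rcases h01 θ' with h' | h'
  · rw [h, h']
  · rw [h, h', zero_sub] at h1
    have := memLocalIdeal_neg h1
    rw [neg_neg] at this
    exact absurd this not_memLocalIdeal_one
  · rw [h, h', sub_zero] at h1
    exact absurd h1 not_memLocalIdeal_one
  · rw [h, h']

omit hMp in
/-- the centralizers of conjugate elements of `N` have the same index in `N` -/
theorem index_centralizer_conj (g : G) (n : N) :
    (Subgroup.centralizer ({(⟨g * n * g⁻¹, hN.conj_mem n n.2 g⟩ : N)} : Set N)).index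
      = (Subgroup.centralizer ({n} : Set N)).index := by
  have e : Subgroup.centralizer ({(⟨g * n * g⁻¹, hN.conj_mem n n.2 g⟩ : N)} : Set N)
      = (Subgroup.centralizer ({n} : Set N)).map (MulAut.conjNormal g : N ≃* N).toMonoidHom := by
    ext x
    rw [Subgroup.mem_map_equiv, Subgroup.mem_centralizer_singleton_iff,
      Subgroup.mem_centralizer_singleton_iff]
    have h1 : (⟨g * n * g⁻¹, hN.conj_mem n n.2 g⟩ : N) = (MulAut.conjNormal g : N ≃* N) n := by
      apply Subtype.ext
      rfl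
    rw [h1]
    constructor
    · intro h
      apply (MulAut.conjNormal g : N ≃* N).injective
      rw [map_mul, map_mul, MulEquiv.apply_symm_apply]
      exact h
    · intro h
      have := congrArg (MulAut.conjNormal g : N ≃* N) h
      rw [map_mul, map_mul, MulEquiv.apply_symm_apply] at this
      exact this
  rw [e]
  exact Subgroup.index_map_equiv (Subgroup.centralizer ({n} : Set N)) (MulAut.conjNormal g : N ≃* N)

omit hMp in
theorem centralChar_conj (g : G) (θ : N → ℂ) (n : N) :
    centralChar (conjFunN N g θ) n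
      = centralChar θ (⟨g * n * g⁻¹, hN.conj_mem n n.2 g⟩ : N) := by
  unfold centralChar
  rw [index_centralizer_conj N g n, conjFunN_apply, conjFunN_apply]
  congr 2
  apply Subtype.ext
  simp

omit hMp in
/-- conjugation by `G` respects blocks of `N` -/
theorem sameBlock_conj (g : G) {θ θ' : N → ℂ} (h : SameBlock M θ θ') :
    SameBlock M (conjFunN N g θ) (conjFunN N g θ') := by
  intro n
  rw [centralChar_conj, centralChar_conj]
  exact h _

open Classical in
/-- the indicator of a union of blocks lies in the good subring -/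
theorem indicator_mem_goodSubring {H : Type u} [Group H] [Fintype H]
    (A : Set (IrrCharacter H))
    (hA : ∀ φ ∈ A, ∀ φ' : IrrCharacter H, SameBlock M (φ : H → ℂ) (φ' : H → ℂ) → φ' ∈ A) :
    (fun φ : IrrCharacter H => if φ ∈ A then (1 : ℂ) else 0) ∈ goodSubring H M := by
  haveI : Fintype (IrrCharacter H) := Fintype.ofFinite _
  have key : (fun φ : IrrCharacter H => if φ ∈ A then (1 : ℂ) else 0)
      = 1 - ∏ χ₀ ∈ Finset.univ.filter (fun χ₀ : IrrCharacter H => χ₀ ∈ A),
        (1 - fun φ : IrrCharacter H => if φ ∈ blockOf M (χ₀ : H → ℂ) then (1 : ℂ) else 0) := by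
    funext ψ
    rw [Pi.sub_apply, Finset.prod_apply, Pi.one_apply]
    by_cases hψ : ψ ∈ A
    · rw [if_pos hψ, Finset.prod_eq_zero (i := ψ) (by simp [hψ]), sub_zero]
      show (1 : ℂ) - (if ψ ∈ blockOf M (ψ : H → ℂ) then (1 : ℂ) else 0) = 0
      rw [if_pos (show ψ ∈ blockOf M (ψ : H → ℂ) from sameBlock_refl M hMp.ne_top _), sub_self]
    · rw [if_neg hψ, Finset.prod_eq_one, sub_self]
      intro χ₀ hχ₀
      have hχ₀A : χ₀ ∈ A := (Finset.mem_filter.mp hχ₀).2
      have : ψ ∉ blockOf M (χ₀ : H → ℂ) := fun h => hψ (hA χ₀ hχ₀A ψ h)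
      show (1 : ℂ) - (if ψ ∈ blockOf M (χ₀ : H → ℂ) then (1 : ℂ) else 0) = 1
      rw [if_neg this, sub_zero]
  rw [key]
  exact Subring.sub_mem _ (Subring.one_mem _) (Subring.prod_mem _ (fun χ₀ _ =>
    Subring.sub_mem _ (Subring.one_mem _) (blockIndicator_mem_goodSubring χ₀)))

open Classical in
/-- for a group of order prime to `p` every indicator vector lies in the good subring -/
theorem singleton_mem_goodSubring {H : Type u} [Group H] [Fintype H] {p : ℕ}
    (hM : IsPModular p M) (hH : ¬ p ∣ Nat.card H) (θ : IrrCharacter H) :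
    (fun φ : IrrCharacter H => if φ = θ then (1 : ℂ) else 0) ∈ goodSubring H M := by
  haveI : Fintype (IrrCharacter H) := Fintype.ofFinite _
  refine ⟨blockCoeff {θ}, blockCoeff_isClassFunction _, ?_, ?_⟩
  · intro g
    unfold blockCoeff
    rw [finsum_mem_singleton]
    apply memLocalRing_mul
    · apply memLocalRing_inv _ (natCast_not_memLocalIdeal hM hH)
      exact memLocalRing_of_integral hMp.ne_top (isIntegral_natCast _)
    · apply memLocalRing_of_integral hMp.ne_top
      apply IsIntegral.mul (Cfsg.Agent.helper23.irr_isIntegral θ 1)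
      have h1 := Cfsg.Agent.helper23.irr_isIntegral θ g
      exact h1.map (starRingEnd ℂ : ℂ →+* ℂ).toIntAlgHom
  · intro ψ
    rw [omegaFn_blockCoeff]
    simp only [Set.mem_singleton_iff]

open Classical in
theorem set_mem_goodSubring_of_pprime {H : Type u} [Group H] [Fintype H] {p : ℕ}
    (hM : IsPModular p M) (hH : ¬ p ∣ Nat.card H) (A : Set (IrrCharacter H)) :
    (fun φ : IrrCharacter H => if φ ∈ A then (1 : ℂ) else 0) ∈ goodSubring H M := by
  haveI : Fintype (IrrCharacter H) := Fintype.ofFinite _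
  have key : (fun φ : IrrCharacter H => if φ ∈ A then (1 : ℂ) else 0)
      = ∑ θ ∈ Finset.univ.filter (fun θ : IrrCharacter H => θ ∈ A),
        (fun φ : IrrCharacter H => if φ = θ then (1 : ℂ) else 0) := by
    funext ψ
    rw [Finset.sum_apply, Finset.sum_ite_eq]
    simp
  rw [key]
  exact Subring.sum_mem _ (fun θ _ => singleton_mem_goodSubring hM hH θ)

omit hMp in
/-- every irreducible character of `G` lies over some irreducible character of `N` -/
theorem exists_under {χ : G → ℂ} (hχ : IsIrrCharacter G χ) :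
    ∃ θ : IrrCharacter N, classInner (res N χ) (θ : N → ℂ) ≠ 0 := by
  classical
  haveI : Fintype (IrrCharacter N) := Fintype.ofFinite _
  by_contra hcon
  push Not at hcon
  have hχcl : IsClassFunction G χ := char_isClassFunction (irr_isCharacter hχ)
  have hexp := classFunction_expansion (res_isClassFunction N hχcl)
  have h1 : res N χ = 0 := by
    rw [hexp]
    apply Finset.sum_eq_zero
    intro φ _
    rw [hcon φ, zero_smul]
  have h2 := congrFun h1 1
  rw [res_apply, Subgroup.coe_one] at h2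
  exact irr_apply_one_ne_zero hχ h2

/-- Over a normal subgroup of order prime to `p`, characters in the same block lie over the same
characters. -/
theorem under_of_sameBlock_pprime {p : ℕ} (hM : IsPModular p M) (hNp : ¬ p ∣ Nat.card N)
    {χ ψ : IrrCharacter G} (hs : SameBlock M (χ : G → ℂ) (ψ : G → ℂ)) {θ : IrrCharacter N}
    (hθ : classInner (res N (χ : G → ℂ)) (θ : N → ℂ) ≠ 0) :
    classInner (res N (ψ : G → ℂ)) (θ : N → ℂ) ≠ 0 := by
  classical
  set A : Set (IrrCharacter N) := {φ | ∃ g : G, (φ : N → ℂ) = conjFunN N g (θ : N → ℂ)} with hA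
  obtain ⟨v, hv, hv1, hv0⟩ : ∃ v : IrrCharacter N → ℂ,
      v ∈ goodSubring N M ∧ (∀ φ, φ ∈ A → v φ = 1) ∧ (∀ φ, φ ∉ A → v φ = 0) :=
    ⟨_, set_mem_goodSubring_of_pprime hM hNp A, fun φ h => if_pos h, fun φ h => if_neg h⟩
  have hmem : ∀ (g : G) (φ : IrrCharacter N),
      ((⟨conjFunN N g (φ : N → ℂ), isIrrCharacter_conjFunN N g φ.2⟩ : IrrCharacter N) ∈ A
        ↔ φ ∈ A) := by
    intro g φ
    constructor
    · rintro ⟨k, h⟩
      refine ⟨k * g⁻¹, ?_⟩
      rw [conjFunN_mul, ← h]
      show (φ : N → ℂ) = conjFunN N g⁻¹ (conjFunN N g (φ : N → ℂ))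
      rw [← conjFunN_mul, mul_inv_cancel, conjFunN_one]
    · rintro ⟨k, h⟩
      refine ⟨k * g, ?_⟩
      show conjFunN N g (φ : N → ℂ) = _
      rw [conjFunN_mul, ← h]
  have hinv : ∀ (g : G) (φ : IrrCharacter N),
      v ⟨conjFunN N g (φ : N → ℂ), isIrrCharacter_conjFunN N g φ.2⟩ = v φ := by
    intro g φ
    by_cases h : φ ∈ A
    · rw [hv1 φ h, hv1 _ ((hmem g φ).mpr h)]
    · rw [hv0 φ h, hv0 _ (fun h' => h ((hmem g φ).mp h'))]
  have h01 : ∀ φ : IrrCharacter N, v φ = 0 ∨ v φ = 1 := by
    intro φ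
    by_cases h : φ ∈ A
    · exact Or.inr (hv1 φ h)
    · exact Or.inl (hv0 φ h)
  obtain ⟨θ', hθ'⟩ := exists_under N ψ.2
  have hval := value_eq_of_sameBlock N hv hinv h01 hs hθ hθ'
  have hθA : θ ∈ A := ⟨1, by rw [conjFunN_one]⟩
  rw [hv1 θ hθA] at hval
  have hθ'A : θ' ∈ A := by
    by_contra h
    rw [hv0 θ' h] at hval
    exact one_ne_zero hval
  obtain ⟨g, hg⟩ := hθ'A
  rw [hg, classInner_res_conjFunN N _ (char_isClassFunction (irr_isCharacter ψ.2))] at hθ'
  exact hθ'

omit hMp [Fintype G] [Fintype N] in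
/-- outside a normal subgroup of `p`-power index every element has order divisible by `p` -/
theorem dvd_orderOf_of_not_mem {p : ℕ} (hp : p.Prime) {k : ℕ} (hidx : N.index = p ^ k) {g : G}
    (hg : g ∉ N) : p ∣ orderOf g := by
  by_contra hnd
  apply hg
  have hcop : (N.index).Coprime (orderOf g) := by
    rw [hidx]
    exact Nat.Coprime.pow_left k ((Nat.Prime.coprime_iff_not_dvd hp).mpr hnd)
  obtain ⟨m, hm⟩ := exists_pow_eq_self_of_coprime hcop
  rw [← hm]
  exact N.pow_mem (N.pow_index_mem g) m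

omit hMp hN [Fintype N] in
/-- block idempotents vanish at the elements of order divisible by `p` -/
theorem blockCoeff_eq_zero {p : ℕ} (hM : IsPModular p M) (χ₀ : IrrCharacter G) {g : G}
    (hg : p ∣ orderOf g) : blockCoeff (blockOf M (χ₀ : G → ℂ)) g = 0 := by
  classical
  have h1 := weak_block_orthogonality p M hM (blockOf M (χ₀ : G → ℂ)) ⟨χ₀, rfl⟩ 1 g
    (by rw [orderOf_one]; exact fun h => hM.1.one_lt.ne' (Nat.dvd_one.mp h)) hg
  unfold blockCoeff
  rw [h1, mul_zero]

/-- If `N` has `p`-power index, characters of `G` lying over characters of `N` in the same block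
are in the same block. -/
theorem sameBlock_of_under_of_index {p : ℕ} (hM : IsPModular p M) {k : ℕ}
    (hidx : N.index = p ^ k) {χ χ' : IrrCharacter G} {θ θ' : IrrCharacter N}
    (hθ : classInner (res N (χ : G → ℂ)) (θ : N → ℂ) ≠ 0)
    (hθ' : classInner (res N (χ' : G → ℂ)) (θ' : N → ℂ) ≠ 0)
    (hs : SameBlock M (θ : N → ℂ) (θ' : N → ℂ)) :
    SameBlock M (χ : G → ℂ) (χ' : G → ℂ) := by
  classical
  obtain ⟨hucl, hul, huo, -⟩ := blockCoeff_props (M := M) χ
  have hu0 : ∀ g, g ∉ N → blockCoeff (blockOf M (χ : G → ℂ)) g = 0 := by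
    intro g hg
    exact blockCoeff_eq_zero hM χ (dvd_orderOf_of_not_mem N hM.1 hidx hg)
  have h1 := omegaFn_of_under N hucl hu0 χ.2 θ.2 hθ
  have h2 := omegaFn_of_under N hucl hu0 χ'.2 θ'.2 hθ'
  have h3 := omegaFn_sub_memLocalIdeal hs (res_isClassFunction N hucl) (fun n => hul _)
  rw [← h1, ← h2, huo χ, huo χ',
    if_pos (show χ ∈ blockOf M (χ : G → ℂ) from sameBlock_refl M hMp.ne_top _)] at h3
  by_contra hcon
  have hcon' : χ' ∉ blockOf M (χ : G → ℂ) := hcon
  rw [if_neg hcon', sub_zero] at h3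
  exact not_memLocalIdeal_one h3

/-- The indicator vector of the `G`-conjugates of the block of `θ₀`. -/
theorem exists_cover_vector (θ₀ : IrrCharacter N) :
    ∃ v : IrrCharacter N → ℂ, v ∈ goodSubring N M ∧
      (∀ (g : G) (φ : IrrCharacter N),
        v ⟨conjFunN N g (φ : N → ℂ), isIrrCharacter_conjFunN N g φ.2⟩ = v φ) ∧
      (∀ φ, v φ = 0 ∨ v φ = 1) ∧
      (∀ φ : IrrCharacter N, v φ = 1 ↔ ∃ g : G, ∃ θ' ∈ blockOf M (θ₀ : N → ℂ),
        (φ : N → ℂ) = conjFunN N g (θ' : N → ℂ)) := by
  classical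
  have hc1 : ∀ (g : G) (φ : N → ℂ), conjFunN N g⁻¹ (conjFunN N g φ) = φ := by
    intro g φ
    rw [← conjFunN_mul, mul_inv_cancel, conjFunN_one]
  have hc2 : ∀ (g : G) (φ : N → ℂ), conjFunN N g (conjFunN N g⁻¹ φ) = φ := by
    intro g φ
    rw [← conjFunN_mul, inv_mul_cancel, conjFunN_one]
  set A : Set (IrrCharacter N) := {ψ | ∃ g : G, ∃ θ' ∈ blockOf M (θ₀ : N → ℂ),
    (ψ : N → ℂ) = conjFunN N g (θ' : N → ℂ)} with hA
  have hAcl : ∀ φ ∈ A, ∀ φ' : IrrCharacter N,
      SameBlock M (φ : N → ℂ) (φ' : N → ℂ) → φ' ∈ A := by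
    rintro φ ⟨g, θ', hθ', hφ⟩ φ' hs
    refine ⟨g, ⟨conjFunN N g⁻¹ (φ' : N → ℂ), isIrrCharacter_conjFunN N g⁻¹ φ'.2⟩, ?_, ?_⟩
    · have h1 := sameBlock_conj (M := M) N g⁻¹ hs
      rw [hφ, hc1] at h1
      exact sameBlock_trans hθ' h1
    · exact (hc2 g _).symm
  obtain ⟨v, hv, hv1, hv0⟩ : ∃ v : IrrCharacter N → ℂ,
      v ∈ goodSubring N M ∧ (∀ φ, φ ∈ A → v φ = 1) ∧ (∀ φ, φ ∉ A → v φ = 0) :=
    ⟨_, indicator_mem_goodSubring (M := M) A hAcl, fun φ h => if_pos h, fun φ h => if_neg h⟩
  have hmem : ∀ (g : G) (φ : IrrCharacter N),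
      ((⟨conjFunN N g (φ : N → ℂ), isIrrCharacter_conjFunN N g φ.2⟩ : IrrCharacter N) ∈ A
        ↔ φ ∈ A) := by
    intro g φ
    constructor
    · rintro ⟨k, θ', hθ', h⟩
      refine ⟨k * g⁻¹, θ', hθ', ?_⟩
      rw [conjFunN_mul, ← h]
      exact (hc1 g _).symm
    · rintro ⟨k, θ', hθ', h⟩
      refine ⟨k * g, θ', hθ', ?_⟩
      show conjFunN N g (φ : N → ℂ) = _
      rw [conjFunN_mul, ← h]
  refine ⟨v, hv, ?_, ?_, ?_⟩
  · intro g φ
    by_cases h : φ ∈ A
    · rw [hv1 φ h, hv1 _ ((hmem g φ).mpr h)]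
    · rw [hv0 φ h, hv0 _ (fun h' => h ((hmem g φ).mp h'))]
  · intro φ
    by_cases h : φ ∈ A
    · exact Or.inr (hv1 φ h)
    · exact Or.inl (hv0 φ h)
  · intro φ
    constructor
    · intro h1
      by_contra h
      have : φ ∉ A := h
      rw [hv0 φ this] at h1
      exact zero_ne_one h1
    · intro h
      exact hv1 φ h

omit hMp in
/-- a character lying over the principal character of `N` has `N` in its kernel -/
theorem ker_of_under_one {ψ : G → ℂ} (hψ : IsIrrCharacter G ψ)
    (h : classInner (res N ψ) (fun _ : N => (1 : ℂ)) ≠ 0) : ∀ n ∈ N, ψ n = ψ 1 := by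
  classical
  haveI : Fintype (IrrCharacter N) := Fintype.ofFinite _
  obtain ⟨oneN, honeN⟩ : ∃ oneN : IrrCharacter N, (oneN : N → ℂ) = fun _ => 1 :=
    ⟨⟨fun _ => 1, isIrrCharacter_one⟩, rfl⟩
  have hψcl := char_isClassFunction (irr_isCharacter hψ)
  have hexp := classFunction_expansion (res_isClassFunction N hψcl)
  have key : ∀ m : N, ψ m = classInner (res N ψ) (oneN : N → ℂ) := by
    intro m
    have h3 := congrFun hexp m
    rw [Finset.sum_apply, Finset.sum_eq_single oneN] at h3
    · rw [res_apply, Pi.smul_apply, honeN, smul_eq_mul, mul_one] at h3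
      rw [h3, honeN]
    · intro φ _ hφ
      by_cases h0 : classInner (res N ψ) (φ : N → ℂ) = 0
      · rw [h0, zero_smul]; rfl
      · exfalso
        have h' : classInner (res N ψ) (oneN : N → ℂ) ≠ 0 := by rw [honeN]; exact h
        obtain ⟨g, hg⟩ := clifford_conj N hψ oneN.2 φ.2 h' h0
        apply hφ
        apply Subtype.ext
        rw [hg, honeN]
        rfl
    · intro h'
      exact absurd (Finset.mem_univ _) h'
  intro n hn
  have e1 := key ⟨n, hn⟩
  have e2 := key 1
  rw [Subgroup.coe_one] at e2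
  rw [e2]
  exact e1

omit hMp [Fintype N] in
/-- central character values of inflated characters on inflated central elements -/
theorem omegaFn_infl [Fintype (G ⧸ N)] (χ u : G ⧸ N → ℂ) :
    omegaFn (χ ∘ (QuotientGroup.mk : G → G ⧸ N)) (u ∘ (QuotientGroup.mk : G → G ⧸ N))
      = (Nat.card N : ℂ) * omegaFn χ u := by
  unfold omegaFn
  have h1 := sum_comp_mk N (fun q : G ⧸ N => u q * χ q)
  have h2 : ∑ h : G, (u ∘ (QuotientGroup.mk : G → G ⧸ N)) h
      * (χ ∘ (QuotientGroup.mk : G → G ⧸ N)) h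
      = ∑ g : G, (fun q : G ⧸ N => u q * χ q) (QuotientGroup.mk g) := rfl
  rw [h2, h1, nsmul_eq_mul, mul_div_assoc]
  congr 2
  exact Finset.sum_congr (by ext q; simp only [Finset.mem_univ]) (fun _ _ => rfl)

end Cfsg.Agent.helper8.Cover
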