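import Mathlib
import Cfsg.Agent.Lib_helper24_ThirdMain
import Cfsg.Agent.Lib_helper8_Cover
import Cfsg.Agent.Lib_helper12_CharOps

/-!
The principal block and subgroups (helper1): an `M`-free description of the principal block
(nonvanishing sum over the `p`-regular elements), principal block characters of a subgroup lie
under principal block characters of the group, and for a normal subgroup the constituents of
the restriction of a principal block character lie in the principal block.
-/

set_option autoImplicit false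

namespace Cfsg.Agent.helper1

open Cfsg Cfsg.Agent.helper24 Cfsg.Agent.helper8 Cfsg.Agent.helper5 Cfsg.Agent.helper8.Cover
open scoped ComplexConjugate

universe u

section PC

variable {G : Type u} [Group G] [Fintype G]

open Classical in
/-- the principal block consists of the characters whose sum over the `p`-regular elements does
not vanish -/
theorem mem_principalBlock_iff_sum_ne_zero (p : ℕ) [Fact p.Prime] (M : Ideal AlgInt)
    (hM : IsPModular p M) (χ : IrrCharacter G) :
    χ ∈ principalBlock M G ↔
      ∑ x ∈ Finset.univ.filter (fun x : G => ¬ p ∣ orderOf x), (χ : G → ℂ) x ≠ 0 := by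
  have hMp : M.IsPrime := hM.2.1.isPrime
  constructor
  · intro hχ h0
    apply omegaFn_pregInd_not_mem p M hM χ hχ
    unfold omegaFn
    rw [sum_pregInd_mul, h0, zero_div]
    exact memLocalIdeal_zero hMp.ne_top
  · intro h
    by_contra hχ
    have h1 := omegaFn_pregInd_eq_zero p M hM χ hχ
    unfold omegaFn at h1
    rw [sum_pregInd_mul] at h1
    rcases div_eq_zero_iff.mp h1 with h2 | h2
    · exact h h2
    · exact helper24.irr_apply_one_ne_zero χ.2 h2

open Classical in
/-- sum of an induced class function over the `p`-regular elements -/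
theorem sum_pregular_indFun (p : ℕ) (H : Subgroup G) [Fintype H] (θ : H → ℂ) :
    ∑ x ∈ Finset.univ.filter (fun x : G => ¬ p ∣ orderOf x), indFun H θ x =
      (H.index : ℂ) * ∑ h ∈ Finset.univ.filter (fun h : H => ¬ p ∣ orderOf h), θ h := by
  have h1 := helper8.frobenius H θ (pregInd G p) (pregInd_isClassFunction p)
  unfold classInner at h1
  have hreal : ∀ x : G, conj (pregInd G p x) = pregInd G p x := by
    intro x
    unfold pregInd
    split_ifs <;> simp
  have h2 : ∑ g : G, indFun H θ g * conj (pregInd G p g) =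
      ∑ x ∈ Finset.univ.filter (fun x : G => ¬ p ∣ orderOf x), indFun H θ x := by
    rw [← sum_pregInd_mul]
    refine Finset.sum_congr rfl (fun x _ => ?_)
    rw [hreal, mul_comm]
  have hres : ∀ h : H, pregInd G p (h : G) = pregInd H p h := by
    intro h
    unfold pregInd
    rw [Subgroup.orderOf_coe]
  have h3 : ∑ g : H, θ g * conj (pregInd G p (g : G)) =
      ∑ h ∈ Finset.univ.filter (fun h : H => ¬ p ∣ orderOf h), θ h := by
    rw [← sum_pregInd_mul]
    refine Finset.sum_congr rfl (fun x _ => ?_)
    rw [hreal, hres, mul_comm]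
  rw [h2, h3] at h1
  have hG : (Nat.card G : ℂ) ≠ 0 := by
    have : 0 < Nat.card G := Nat.card_pos
    exact_mod_cast this.ne'
  have hH : (Nat.card H : ℂ) ≠ 0 := by
    have : 0 < Nat.card H := Nat.card_pos
    exact_mod_cast this.ne'
  have hidx : (Nat.card G : ℂ) = (H.index : ℂ) * (Nat.card H : ℂ) := by
    rw [← Nat.cast_mul, mul_comm, Subgroup.card_mul_index]
  have h4 : ∑ x ∈ Finset.univ.filter (fun x : G => ¬ p ∣ orderOf x), indFun H θ x =
      (Nat.card G : ℂ) * ((Nat.card H : ℂ)⁻¹ *
        ∑ h ∈ Finset.univ.filter (fun h : H => ¬ p ∣ orderOf h), θ h) := by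
    rw [← h1, ← mul_assoc, mul_inv_cancel₀ hG, one_mul]
  rw [h4, hidx]
  field_simp

/-- every principal block character of a subgroup lies under a principal block character of the
group -/
theorem exists_principal_over (p : ℕ) [Fact p.Prime] (M : Ideal AlgInt) (hM : IsPModular p M)
    (H : Subgroup G) [Fintype H] (θ : IrrCharacter H) (hθ : θ ∈ principalBlock M H) :
    ∃ χ : IrrCharacter G, χ ∈ principalBlock M G ∧
      classInner (res H (χ : G → ℂ)) (θ : H → ℂ) ≠ 0 := by
  classical
  have : Fintype (IrrCharacter G) := Fintype.ofFinite _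
  by_contra hcon
  push Not at hcon
  have hθ' := (mem_principalBlock_iff_sum_ne_zero p M hM θ).1 hθ
  apply hθ'
  have hcl : IsClassFunction G (indFun H (θ : H → ℂ)) := helper8.indFun_isClassFunction H _
  have hexp := classFunction_expansion hcl
  have h1 : ∑ x ∈ Finset.univ.filter (fun x : G => ¬ p ∣ orderOf x), indFun H (θ : H → ℂ) x = 0 := by
    have h2 : ∀ x : G, indFun H (θ : H → ℂ) x =
        ∑ χ : IrrCharacter G, classInner (indFun H (θ : H → ℂ)) (χ : G → ℂ) * (χ : G → ℂ) x := by
      intro x
      conv_lhs => rw [hexp]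
      rw [Finset.sum_apply]
      rfl
    simp_rw [h2]
    rw [Finset.sum_comm]
    apply Finset.sum_eq_zero
    intro χ _
    rw [← Finset.mul_sum]
    by_cases hχ : χ ∈ principalBlock M G
    · have h3 := hcon χ hχ
      rw [classInner_indFun_irr H _ (helper24.irr_isCharacter χ.2), ← classInner_conj_symm, h3,
        map_zero, zero_mul]
    · have h3 : ∑ x ∈ Finset.univ.filter (fun x : G => ¬ p ∣ orderOf x), (χ : G → ℂ) x = 0 := by
        by_contra h4
        exact hχ ((mem_principalBlock_iff_sum_ne_zero p M hM χ).2 h4)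
      rw [h3, mul_zero]
  rw [sum_pregular_indFun] at h1
  rcases mul_eq_zero.mp h1 with h2 | h2
  · exfalso
    have : (H.index : ℂ) ≠ 0 := by
      have := H.index_ne_zero_of_finite
      exact_mod_cast this
    exact this h2
  · exact h2

/-- for a normal subgroup, the constituents of the restriction of a principal block character
lie in the principal block -/
theorem principal_under (p : ℕ) [Fact p.Prime] (M : Ideal AlgInt) (hM : IsPModular p M)
    (H : Subgroup G) [H.Normal] [Fintype H] (χ : IrrCharacter G) (hχ : χ ∈ principalBlock M G)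
    (θ : IrrCharacter H) (hθ : classInner (res H (χ : G → ℂ)) (θ : H → ℂ) ≠ 0) :
    θ ∈ principalBlock M H := by
  classical
  have hMp : M.IsPrime := hM.2.1.isPrime
  by_contra hθB
  obtain ⟨U, hUdef⟩ : ∃ U : G → ℂ, U = fun g => if g ∈ H then pregInd G p g else 0 := ⟨_, rfl⟩
  have hUcl : IsClassFunction G U := by
    intro g k
    rw [hUdef]
    show (if k * g * k⁻¹ ∈ H then pregInd G p (k * g * k⁻¹) else 0) =
      if g ∈ H then pregInd G p g else 0
    have h1 : k * g * k⁻¹ ∈ H ↔ g ∈ H := by
      constructor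
      · intro h
        have := Subgroup.Normal.conj_mem inferInstance _ h k⁻¹
        simpa [mul_assoc] using this
      · intro h
        exact Subgroup.Normal.conj_mem inferInstance _ h k
    rw [pregInd_isClassFunction p g k]
    simp only [h1]
  have hU0 : ∀ g, g ∉ H → U g = 0 := by
    intro g hg
    rw [hUdef]
    show (if g ∈ H then pregInd G p g else 0) = 0
    rw [if_neg hg]
  have hUl : ∀ g, MemLocalRing M (U g) := by
    intro g
    rw [hUdef]
    show MemLocalRing M (if g ∈ H then pregInd G p g else 0)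
    split_ifs
    · exact pregInd_memLocalRing hMp.ne_top p g
    · exact memLocalRing_zero hMp.ne_top
  have hres : res H U = pregInd H p := by
    funext h
    rw [res_apply, hUdef]
    show (if (h : G) ∈ H then pregInd G p (h : G) else 0) = _
    rw [if_pos h.2]
    unfold pregInd
    rw [Subgroup.orderOf_coe]
  have h1 := omegaFn_of_under H hUcl hU0 χ.2 θ.2 hθ
  rw [hres, omegaFn_pregInd_eq_zero p M hM θ hθB] at h1
  have h2 : SameBlock M ((oneIrr G : IrrCharacter G) : G → ℂ) (χ : G → ℂ) := hχ
  have h3 := omegaFn_sub_memLocalIdeal (M := M) h2 hUcl hUl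
  rw [h1, sub_zero] at h3
  have h4 : omegaFn ((oneIrr G : IrrCharacter G) : G → ℂ) U =
      (Nat.card {x : H | ¬ p ∣ orderOf x} : ℂ) := by
    rw [← omegaFn_one_pregInd (G := H) p]
    unfold omegaFn
    show (∑ g : G, U g * 1) / 1 = (∑ h : H, pregInd H p h * 1) / 1
    rw [div_one, div_one]
    simp only [mul_one]
    rw [← hres]
    have h5 := helper8.sum_extendByZero_mul H (res H U) (fun _ => (1 : ℂ))
    simp only [mul_one] at h5
    rw [← h5]
    refine Finset.sum_congr rfl (fun g _ => ?_)
    by_cases hg : g ∈ H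
    · rw [helper5.extendByZero_of_mem H _ g hg, res_apply]
    · rw [helper5.extendByZero_of_not_mem H _ g hg, hU0 g hg]
  rw [h4] at h3
  exact natCast_not_memLocalIdeal hM (card_pregular_not_dvd (G := H) p) h3

end PC


section Counting

theorem count_lower_abstract {α β : Type*} [Fintype β]
    (A : Finset α) (B : Finset β) (m : α → β → ℕ) (dα : α → ℕ) (dβ : β → ℕ)
    (h1 : ∀ a, dα a = ∑ b, m a b * dβ b)
    (hP2 : ∀ b ∈ B, ∃ a ∈ A, m a b ≠ 0) :
    ∑ b ∈ B, dβ b ^ 2 ≤ ∑ a ∈ A, dα a ^ 2 := by
  classical
  calc ∑ b ∈ B, dβ b ^ 2 ≤ ∑ b ∈ B, ∑ a ∈ A, (if m a b ≠ 0 then dβ b ^ 2 else 0) := by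
        apply Finset.sum_le_sum
        intro b hb
        obtain ⟨a, ha, hm⟩ := hP2 b hb
        have h2 := Finset.single_le_sum (f := fun a => if m a b ≠ 0 then dβ b ^ 2 else 0)
          (fun i _ => Nat.zero_le _) ha
        simp only [if_pos hm] at h2
        exact h2
    _ = ∑ a ∈ A, ∑ b ∈ B, (if m a b ≠ 0 then dβ b ^ 2 else 0) := Finset.sum_comm
    _ ≤ ∑ a ∈ A, dα a ^ 2 := by
        apply Finset.sum_le_sum
        intro a _
        rw [← Finset.sum_filter]
        have h3 : ∑ b ∈ B.filter (fun b => m a b ≠ 0), dβ b ^ 2 ≤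
            (∑ b ∈ B.filter (fun b => m a b ≠ 0), dβ b) ^ 2 := by
          generalize B.filter (fun b => m a b ≠ 0) = s
          induction s using Finset.induction_on with
          | empty => simp
          | insert i s hi ih =>
            rw [Finset.sum_insert hi, Finset.sum_insert hi]
            nlinarith [ih, Nat.zero_le (dβ i * ∑ j ∈ s, dβ j)]
        have h4 : ∑ b ∈ B.filter (fun b => m a b ≠ 0), dβ b ≤ dα a := by
          rw [h1 a]
          calc ∑ b ∈ B.filter (fun b => m a b ≠ 0), dβ b
              ≤ ∑ b ∈ B.filter (fun b => m a b ≠ 0), m a b * dβ b := by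
                apply Finset.sum_le_sum
                intro b hb
                have : 1 ≤ m a b := Nat.one_le_iff_ne_zero.2 (Finset.mem_filter.1 hb).2
                nlinarith
            _ ≤ ∑ b, m a b * dβ b :=
                Finset.sum_le_sum_of_subset (Finset.subset_univ _)
        calc ∑ b ∈ B.filter (fun b => m a b ≠ 0), dβ b ^ 2
            ≤ (∑ b ∈ B.filter (fun b => m a b ≠ 0), dβ b) ^ 2 := h3
          _ ≤ dα a ^ 2 := Nat.pow_le_pow_left h4 2

theorem count_upper_abstract {α β : Type*} [Fintype α] [Fintype β]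
    (A : Finset α) (B : Finset β) (m : α → β → ℕ) (dα : α → ℕ) (dβ : β → ℕ) (k : ℕ)
    (h1 : ∀ a, dα a = ∑ b, m a b * dβ b)
    (h2 : ∀ b, ∑ a, m a b * dα a = k * dβ b)
    (hP1 : ∀ a ∈ A, ∀ b, m a b ≠ 0 → b ∈ B) :
    ∑ a ∈ A, dα a ^ 2 ≤ k * ∑ b ∈ B, dβ b ^ 2 := by
  classical
  calc ∑ a ∈ A, dα a ^ 2 = ∑ a ∈ A, ∑ b ∈ B, dα a * (m a b * dβ b) := by
        apply Finset.sum_congr rfl
        intro a ha
        rw [sq]
        nth_rewrite 2 [h1 a]
        rw [Finset.mul_sum]
        symm
        apply Finset.sum_subset (Finset.subset_univ _)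
        intro b _ hb
        have : m a b = 0 := by
          by_contra h
          exact hb (hP1 a ha b h)
        rw [this, zero_mul, mul_zero]
    _ = ∑ b ∈ B, ∑ a ∈ A, dα a * (m a b * dβ b) := Finset.sum_comm
    _ ≤ ∑ b ∈ B, ∑ a, dα a * (m a b * dβ b) := by
        apply Finset.sum_le_sum
        intro b _
        exact Finset.sum_le_sum_of_subset (Finset.subset_univ _)
    _ = ∑ b ∈ B, k * dβ b ^ 2 := by
        apply Finset.sum_congr rfl
        intro b _
        have : ∑ a, dα a * (m a b * dβ b) = dβ b * ∑ a, m a b * dα a := by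
          rw [Finset.mul_sum]
          apply Finset.sum_congr rfl
          intro a _
          ring
        rw [this, h2 b]
        ring
    _ = k * ∑ b ∈ B, dβ b ^ 2 := by rw [Finset.mul_sum]

end Counting

section Mult

variable {G : Type u} [Group G] [Fintype G]

/-- multiplicities of restriction/induction as natural numbers, with the two degree formulas -/
theorem exists_res_multiplicities (H : Subgroup G) [Fintype H] [Fintype (IrrCharacter G)]
    [Fintype (IrrCharacter H)] :
    ∃ m : IrrCharacter G → IrrCharacter H → ℕ,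
      (∀ (χ : IrrCharacter G) (θ : IrrCharacter H),
        classInner (res H (χ : G → ℂ)) (θ : H → ℂ) = (m χ θ : ℂ)) ∧
      (∀ χ : IrrCharacter G,
        charDegree (χ : G → ℂ) = ∑ θ : IrrCharacter H, m χ θ * charDegree (θ : H → ℂ)) ∧
      (∀ θ : IrrCharacter H, ∑ χ : IrrCharacter G, m χ θ * charDegree (χ : G → ℂ) =
        H.index * charDegree (θ : H → ℂ)) := by
  classical
  have hm : ∀ (χ : IrrCharacter G) (θ : IrrCharacter H),
      ∃ n : ℕ, classInner (res H (χ : G → ℂ)) (θ : H → ℂ) = n := fun χ θ =>
    helper12.classInner_char_nat (isCharacter_res H (helper24.irr_isCharacter χ.2))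
      (helper24.irr_isCharacter θ.2)
  choose m hm using hm
  refine ⟨m, hm, ?_, ?_⟩
  · intro χ
    have hχc := helper24.irr_isCharacter χ.2
    have hrescl : IsClassFunction H (res H (χ : G → ℂ)) := by
      intro g k
      show (χ : G → ℂ) ((k * g * k⁻¹ : H) : G) = (χ : G → ℂ) (g : G)
      rw [Subgroup.coe_mul, Subgroup.coe_mul, Subgroup.coe_inv]
      exact helper24.char_isClassFunction hχc _ _
    have hexp := classFunction_expansion hrescl
    have h1 := congrFun hexp 1
    rw [res_apply, Subgroup.coe_one, Finset.sum_apply] at h1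
    have h2 : (charDegree (χ : G → ℂ) : ℂ) =
        ((∑ θ, m χ θ * charDegree (θ : H → ℂ) : ℕ) : ℂ) := by
      rw [helper24.char_charDegree_cast hχc, h1, Nat.cast_sum]
      apply Finset.sum_congr rfl
      intro θ _
      rw [Pi.smul_apply, smul_eq_mul, hm χ θ, Nat.cast_mul,
        helper24.char_charDegree_cast (helper24.irr_isCharacter θ.2)]
    exact_mod_cast h2
  · intro θ
    have hθc := helper24.irr_isCharacter θ.2
    have hcl : IsClassFunction G (indFun H (θ : H → ℂ)) := helper8.indFun_isClassFunction H _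
    have hexp := classFunction_expansion hcl
    have h1 := congrFun hexp 1
    rw [helper5.indFun_one, Finset.sum_apply] at h1
    have h2 : ((∑ χ, m χ θ * charDegree (χ : G → ℂ) : ℕ) : ℂ) =
        ((H.index * charDegree (θ : H → ℂ) : ℕ) : ℂ) := by
      rw [Nat.cast_mul, helper24.char_charDegree_cast hθc, h1, Nat.cast_sum]
      apply Finset.sum_congr rfl
      intro χ _
      rw [Pi.smul_apply, smul_eq_mul, classInner_indFun_irr H _ (helper24.irr_isCharacter χ.2),
        ← classInner_conj_symm, hm χ θ, Nat.cast_mul,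
        helper24.char_charDegree_cast (helper24.irr_isCharacter χ.2)]
      simp
    exact_mod_cast h2

/-- S4708, `Fintype` version -/
theorem principal_degree_sums (p : ℕ) [Fact p.Prime] (M : Ideal AlgInt) (hM : IsPModular p M)
    (H : Subgroup G) [H.Normal] [Fintype H] [Fintype (IrrCharacter G)] [Fintype (IrrCharacter H)]
    (A : Finset (IrrCharacter G)) (B : Finset (IrrCharacter H))
    (hA : ∀ χ, χ ∈ A ↔ χ ∈ principalBlock M G) (hB : ∀ θ, θ ∈ B ↔ θ ∈ principalBlock M H) :
    ∑ θ ∈ B, charDegree (θ : H → ℂ) ^ 2 ≤ ∑ χ ∈ A, charDegree (χ : G → ℂ) ^ 2 ∧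
    ∑ χ ∈ A, charDegree (χ : G → ℂ) ^ 2 ≤ H.index * ∑ θ ∈ B, charDegree (θ : H → ℂ) ^ 2 := by
  classical
  obtain ⟨m, hm, h1, h2⟩ := exists_res_multiplicities (G := G) H
  have hne : ∀ (χ : IrrCharacter G) (θ : IrrCharacter H),
      m χ θ ≠ 0 ↔ classInner (res H (χ : G → ℂ)) (θ : H → ℂ) ≠ 0 := by
    intro χ θ
    rw [hm χ θ]
    exact_mod_cast Iff.rfl
  constructor
  · apply count_lower_abstract A B m _ _ h1
    intro θ hθ
    obtain ⟨χ, hχ, hχθ⟩ := exists_principal_over p M hM H θ ((hB θ).1 hθ)
    exact ⟨χ, (hA χ).2 hχ, (hne χ θ).2 hχθ⟩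
  · apply count_upper_abstract A B m _ _ H.index h1 h2
    intro χ hχ θ hmθ
    exact (hB θ).2 (principal_under p M hM H χ ((hA χ).1 hχ) θ ((hne χ θ).1 hmθ))

end Mult

end Cfsg.Agent.helper1
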