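import Mathlib
import Cfsg.Agent.Lib_helper1_PrincCover
import Cfsg.Agent.Lib_helper1_Galois
import Cfsg.Agent.Lib_helper1_GalChar
import Cfsg.Agent.Lib_helper24_CharKer
import Cfsg.Agent.Lib_helper24_CharQuot
import Cfsg.Agent.Lib_helper24_CharCount
import Cfsg.Agent.Lib_helper24_SpecialClasses
import Cfsg.Agent.Lib_helper1_BlockRank
import Cfsg.Agent.Lib_helper1_PrincBlock

/-!
The principal block (helper1): Galois stability, integrality of `∑ |χ(x)|²` over the principal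
block, and the principal block of a quotient by a normal `p'`-subgroup.
-/

set_option autoImplicit false
set_option linter.unusedVariables false
set_option linter.unusedSectionVars false
set_option linter.style.longLine false
set_option linter.style.haveILetI false

namespace Cfsg.Agent.helper1

open Cfsg Cfsg.Agent.helper24 Cfsg.Agent.helper8 Cfsg.Agent.helper5 Cfsg.Agent.helper8.Cover
open scoped ComplexConjugate

universe u

section GalRat

/-- an algebraic integer of a cyclotomic field fixed by all embeddings is a rational integer -/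
theorem int_of_galois_fixed (N : ℕ) (hN : N ≠ 0) (x : cycField N) (hint : IsIntegral ℤ (x : ℂ))
    (hfix : ∀ σ : cycField N →ₐ[ℚ] ℂ, σ x = (x : ℂ)) : ∃ z : ℤ, (x : ℂ) = z := by
  classical
  haveI := cycField_finiteDimensional N hN
  haveI := cycField_numberField N hN
  have htr := trace_eq_sum_embeddings (K := ℚ) (L := cycField N) ℂ (x := x)
  rw [Finset.sum_congr rfl (fun σ _ => hfix σ), Finset.sum_const, Finset.card_univ,
    nsmul_eq_mul] at htr
  have hcard : (Fintype.card (cycField N →ₐ[ℚ] ℂ) : ℂ) ≠ 0 := by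
    haveI : Nonempty (cycField N →ₐ[ℚ] ℂ) := ⟨(cycField N).val⟩
    exact_mod_cast Fintype.card_ne_zero
  obtain ⟨q, hq⟩ : ∃ q : ℚ, q = Algebra.trace ℚ (cycField N) x /
      (Fintype.card (cycField N →ₐ[ℚ] ℂ) : ℚ) := ⟨_, rfl⟩
  have hxq : (x : ℂ) = (q : ℂ) := by
    rw [hq]
    push_cast
    rw [eq_div_iff hcard, mul_comm, ← htr]
    rfl
  have hqint : IsIntegral ℤ q := by
    have h1 : IsIntegral ℤ (algebraMap ℚ ℂ q) := by
      rw [show algebraMap ℚ ℂ q = (q : ℂ) from rfl, ← hxq]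
      exact hint
    exact (isIntegral_algebraMap_iff (algebraMap ℚ ℂ).injective).mp h1
  obtain ⟨z, hz⟩ := IsIntegrallyClosed.isIntegral_iff.mp hqint
  refine ⟨z, ?_⟩
  rw [hxq, ← hz]
  simp

end GalRat

section GroupPart

variable {G : Type u} [Group G] [Fintype G]

theorem irr_mem_cycField (χ : IrrCharacter G) (g : G) :
    (χ : G → ℂ) g ∈ cycField (Nat.card G) := by
  obtain ⟨n, ρ, _, hρ⟩ := χ.2
  rw [← hρ]
  exact char_mem_cycField ρ g

theorem irr_isIntegral' (χ : IrrCharacter G) (g : G) : IsIntegral ℤ ((χ : G → ℂ) g) := by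
  obtain ⟨n, ρ, _, hρ⟩ := χ.2
  rw [← hρ]
  exact isIntegral_char ρ g

theorem irr_galois (σ : cycField (Nat.card G) →ₐ[ℚ] ℂ) (χ : IrrCharacter G) (g : G) :
    σ ⟨(χ : G → ℂ) g, irr_mem_cycField χ g⟩ =
      (χ : G → ℂ) (g ^ galExp (Nat.card G) card_ne_zero' σ) := by
  obtain ⟨n, ρ, _, hρ⟩ := χ.2
  have h := galois_char σ ρ g ⟨(χ : G → ℂ) g, irr_mem_cycField χ g⟩
    (by show (χ : G → ℂ) g = ρ.character g; rw [hρ])
  rw [h, hρ]

open Classical in
theorem sum_pregular_pow (p t : ℕ) (ht : t.Coprime (Nat.card G)) (f : G → ℂ) :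
    ∑ x ∈ Finset.univ.filter (fun x : G => ¬ p ∣ orderOf x), f (x ^ t) =
      ∑ x ∈ Finset.univ.filter (fun x : G => ¬ p ∣ orderOf x), f x := by
  apply Finset.sum_equiv (powCoprime ht.symm)
  · intro x
    simp only [Finset.mem_filter, Finset.mem_univ, true_and]
    show ¬ p ∣ orderOf x ↔ ¬ p ∣ orderOf (x ^ t)
    rw [Nat.Coprime.orderOf_pow]
    exact Nat.Coprime.coprime_dvd_left (orderOf_dvd_natCard x) ht.symm
  · intro x _
    rfl

/-- the Galois conjugate `g ↦ χ (g ^ t)` of an irreducible character -/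
noncomputable def powIrr (t : ℕ) (ht : t.Coprime (Nat.card G)) (χ : IrrCharacter G) :
    IrrCharacter G :=
  ⟨fun g => (χ : G → ℂ) (g ^ t), isIrrCharacter_powMap t ht χ.2⟩

theorem powIrr_injective (t : ℕ) (ht : t.Coprime (Nat.card G)) :
    Function.Injective (powIrr (G := G) t ht) := by
  intro χ ψ h
  apply Subtype.ext
  funext g
  obtain ⟨g', rfl⟩ := (powCoprime ht.symm).surjective g
  exact congrFun (congrArg Subtype.val h) g'

theorem powIrr_mem_principalBlock_iff (p : ℕ) [Fact p.Prime] (M : Ideal AlgInt)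
    (hM : IsPModular p M) (t : ℕ) (ht : t.Coprime (Nat.card G)) (χ : IrrCharacter G) :
    powIrr t ht χ ∈ principalBlock M G ↔ χ ∈ principalBlock M G := by
  classical
  rw [mem_principalBlock_iff_sum_ne_zero p M hM, mem_principalBlock_iff_sum_ne_zero p M hM]
  have h := sum_pregular_pow p t ht (χ : G → ℂ)
  show (∑ x ∈ Finset.univ.filter (fun x : G => ¬ p ∣ orderOf x), (χ : G → ℂ) (x ^ t)) ≠ 0 ↔ _
  rw [h]

/-- the sum of `χ(x) χ(x⁻¹)` over the principal block is a rational integer -/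
theorem principal_sum_int (p : ℕ) [Fact p.Prime] (M : Ideal AlgInt) (hM : IsPModular p M)
    (A : Finset (IrrCharacter G)) (hA : ∀ χ, χ ∈ A ↔ χ ∈ principalBlock M G) (x : G) :
    ∃ z : ℤ, ∑ χ ∈ A, (χ : G → ℂ) x * (χ : G → ℂ) x⁻¹ = z := by
  classical
  obtain ⟨n, hndef⟩ : ∃ n : ℕ, n = Nat.card G := ⟨_, rfl⟩
  have hn : Nat.card G ≠ 0 := card_ne_zero'
  obtain ⟨X, hXdef⟩ : ∃ X : cycField (Nat.card G), X = ∑ χ ∈ A,
      (⟨(χ : G → ℂ) x, irr_mem_cycField χ x⟩ : cycField (Nat.card G)) *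
        ⟨(χ : G → ℂ) x⁻¹, irr_mem_cycField χ x⁻¹⟩ := ⟨_, rfl⟩
  have hX : (X : ℂ) = ∑ χ ∈ A, (χ : G → ℂ) x * (χ : G → ℂ) x⁻¹ := by
    rw [hXdef]
    have h1 : ∀ Y : cycField (Nat.card G), (Y : ℂ) = (cycField (Nat.card G)).val Y := fun _ => rfl
    rw [h1, map_sum]
    refine Finset.sum_congr rfl (fun χ _ => ?_)
    rw [map_mul]
    rfl
  rw [← hX]
  apply int_of_galois_fixed (Nat.card G) hn X
  · rw [hX]
    exact IsIntegral.sum _ (fun χ _ => (irr_isIntegral' χ x).mul (irr_isIntegral' χ x⁻¹))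
  · intro σ
    rw [hX, hXdef, map_sum]
    simp_rw [map_mul, irr_galois]
    obtain ⟨t, htdef⟩ : ∃ t : ℕ, t = galExp (Nat.card G) card_ne_zero' σ := ⟨_, rfl⟩
    rw [← htdef]
    have ht : t.Coprime (Nat.card G) := by
      rw [htdef]
      exact galExp_coprime (Nat.card G) hn σ
    have himg : A.image (powIrr t ht) = A := by
      apply Finset.eq_of_subset_of_card_le
      · intro ψ hψ
        obtain ⟨χ, hχ, rfl⟩ := Finset.mem_image.1 hψ
        exact (hA _).2 ((powIrr_mem_principalBlock_iff p M hM t ht χ).2 ((hA χ).1 hχ))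
      · rw [Finset.card_image_of_injective _ (powIrr_injective t ht)]
    conv_rhs => rw [← himg]
    rw [Finset.sum_image (fun a _ b _ h => powIrr_injective t ht h)]
    refine Finset.sum_congr rfl (fun χ _ => ?_)
    show (χ : G → ℂ) (x ^ t) * (χ : G → ℂ) (x⁻¹ ^ t) =
      (χ : G → ℂ) (x ^ t) * (χ : G → ℂ) ((x⁻¹) ^ t)
    rfl

end GroupPart

section Quot

variable {G : Type u} [Group G] [Fintype G] (N : Subgroup G) [N.Normal]

theorem dvd_orderOf_mk_iff {p : ℕ} [Fact p.Prime] (hN : (Nat.card N).Coprime p) (g : G) :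
    p ∣ orderOf (QuotientGroup.mk g : G ⧸ N) ↔ p ∣ orderOf g := by
  have hpp : p.Prime := Fact.out
  constructor
  · intro h
    refine dvd_trans h (orderOf_dvd_of_pow_eq_one ?_)
    rw [← QuotientGroup.mk_pow, pow_orderOf_eq_one]
    rfl
  · intro h
    by_contra hcon
    obtain ⟨m, hm⟩ : ∃ m : ℕ, m = orderOf (QuotientGroup.mk g : G ⧸ N) := ⟨_, rfl⟩
    have h1 : g ^ m ∈ N := by
      rw [← QuotientGroup.eq_one_iff, QuotientGroup.mk_pow, hm, pow_orderOf_eq_one]
    have h2 : (g ^ m) ^ Nat.card N = 1 := by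
      have h3 := pow_card_eq_one' (G := N) (x := ⟨g ^ m, h1⟩)
      have h4 : (((⟨g ^ m, h1⟩ : N) ^ Nat.card N : N) : G) = 1 := by rw [h3]; rfl
      rwa [Subgroup.coe_pow] at h4
    rw [← pow_mul] at h2
    have h5 : orderOf g ∣ m * Nat.card N := orderOf_dvd_of_pow_eq_one h2
    have h6 := dvd_trans h h5
    rcases (Nat.Prime.dvd_mul hpp).1 h6 with h7 | h7
    · rw [hm] at h7
      exact hcon h7
    · have := Nat.Coprime.eq_one_of_dvd hN.symm h7
      exact hpp.one_lt.ne' this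

theorem pregInd_mk {p : ℕ} [Fact p.Prime] (hN : (Nat.card N).Coprime p) (g : G) :
    pregInd (G ⧸ N) p (QuotientGroup.mk g) = pregInd G p g := by
  classical
  unfold pregInd
  by_cases h : p ∣ orderOf g
  · rw [if_pos h, if_pos ((dvd_orderOf_mk_iff N hN g).2 h)]
  · rw [if_neg h, if_neg (fun h' => h ((dvd_orderOf_mk_iff N hN g).1 h'))]

/-- inflation of an irreducible character of the quotient -/
noncomputable def inflIrr (ψ : IrrCharacter (G ⧸ N)) : IrrCharacter G :=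
  ⟨(ψ : G ⧸ N → ℂ) ∘ (QuotientGroup.mk : G → G ⧸ N), irr_inflation N ψ.2⟩

omit [Fintype G] in
theorem inflIrr_apply (ψ : IrrCharacter (G ⧸ N)) (g : G) :
    (inflIrr N ψ : G → ℂ) g = (ψ : G ⧸ N → ℂ) (QuotientGroup.mk g) := rfl

omit [Fintype G] in
theorem inflIrr_injective : Function.Injective (inflIrr N) := by
  intro χ ψ h
  apply Subtype.ext
  funext q
  obtain ⟨g, rfl⟩ := QuotientGroup.mk_surjective q
  exact congrFun (congrArg Subtype.val h) g

theorem inflIrr_mem_principalBlock_iff [Fintype (G ⧸ N)] (p : ℕ) [Fact p.Prime]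
    (M : Ideal AlgInt) (hM : IsPModular p M) (hN : (Nat.card N).Coprime p)
    (ψ : IrrCharacter (G ⧸ N)) :
    inflIrr N ψ ∈ principalBlock M G ↔ ψ ∈ principalBlock M (G ⧸ N) := by
  classical
  rw [mem_principalBlock_iff_sum_ne_zero p M hM, mem_principalBlock_iff_sum_ne_zero p M hM,
    ← sum_pregInd_mul, ← sum_pregInd_mul]
  have h1 : ∑ x : G, pregInd G p x * (inflIrr N ψ : G → ℂ) x =
      ∑ x : G, (fun q : G ⧸ N => pregInd (G ⧸ N) p q * (ψ : G ⧸ N → ℂ) q) (QuotientGroup.mk x) := by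
    refine Finset.sum_congr rfl (fun x _ => ?_)
    show _ = pregInd (G ⧸ N) p (QuotientGroup.mk x) * (ψ : G ⧸ N → ℂ) (QuotientGroup.mk x)
    rw [pregInd_mk N hN, inflIrr_apply]
  have h7 := helper24.sum_comp_mk N (fun q : G ⧸ N => pregInd (G ⧸ N) p q * (ψ : G ⧸ N → ℂ) q)
  have hc : (Nat.card N : ℂ) ≠ 0 := by
    have : 0 < Nat.card N := Nat.card_pos
    exact_mod_cast this.ne'
  rw [h1, h7, nsmul_eq_mul, mul_ne_zero_iff]
  have h8 : ∀ (i1 i2 : Fintype (G ⧸ N)), (@Finset.univ _ i1) = (@Finset.univ _ i2) := by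
    intro i1 i2
    ext q
    simp only [Finset.mem_univ]
  constructor
  · rintro ⟨_, h⟩
    convert h using 2
    exact h8 _ _
  · intro h
    refine ⟨hc, ?_⟩
    convert h using 2
    exact h8 _ _

theorem principal_ker [Fintype N] (p : ℕ) [Fact p.Prime] (M : Ideal AlgInt)
    (hM : IsPModular p M) (hN : (Nat.card N).Coprime p) (χ : IrrCharacter G)
    (hχ : χ ∈ principalBlock M G) : ∀ n ∈ N, (χ : G → ℂ) n = (χ : G → ℂ) 1 := by
  classical
  have hpp : p.Prime := Fact.out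
  haveI hMp : M.IsPrime := hM.2.1.isPrime
  have hNp : ¬ p ∣ Nat.card N := by
    intro h
    have := Nat.Coprime.eq_one_of_dvd hN.symm h
    exact hpp.one_lt.ne' this
  obtain ⟨θ, hθ⟩ := exists_under N χ.2
  have hs : SameBlock M (χ : G → ℂ) ((oneIrr G : IrrCharacter G) : G → ℂ) := sameBlock_symm hχ
  have h1 := under_of_sameBlock_pprime N hM hNp hs hθ
  have hθ1 : (θ : N → ℂ) = fun _ => 1 := by
    by_contra hne
    apply h1
    have h2 : res N ((oneIrr G : IrrCharacter G) : G → ℂ) = fun _ : N => (1 : ℂ) := rfl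
    rw [h2]
    exact irr_classInner_ne isIrrCharacter_one θ.2 (fun h => hne h.symm)
  apply ker_of_under_one N χ.2
  rw [← hθ1]
  exact hθ

theorem exists_inflIrr_of_mem [Fintype N] [Fintype (G ⧸ N)] (p : ℕ) [Fact p.Prime]
    (M : Ideal AlgInt) (hM : IsPModular p M) (hN : (Nat.card N).Coprime p) (χ : IrrCharacter G)
    (hχ : χ ∈ principalBlock M G) :
    ∃ ψ : IrrCharacter (G ⧸ N), ψ ∈ principalBlock M (G ⧸ N) ∧ inflIrr N ψ = χ := by
  obtain ⟨ψ, hψ, hχψ⟩ := irr_deflation N χ.2 (principal_ker N p M hM hN χ hχ)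
  have h1 : inflIrr N ⟨ψ, hψ⟩ = χ := Subtype.ext hχψ.symm
  refine ⟨⟨ψ, hψ⟩, ?_, h1⟩
  rw [← inflIrr_mem_principalBlock_iff N p M hM hN, h1]
  exact hχ

theorem finsum_principal_quot [Fintype N] [Fintype (G ⧸ N)] (p : ℕ) [Fact p.Prime]
    (M : Ideal AlgInt) (hM : IsPModular p M) (hN : (Nat.card N).Coprime p)
    {β : Type*} [AddCommMonoid β] (Φ : IrrCharacter G → β) :
    ∑ᶠ χ ∈ principalBlock M G, Φ χ = ∑ᶠ ψ ∈ principalBlock M (G ⧸ N), Φ (inflIrr N ψ) := by
  symm
  apply finsum_mem_eq_of_bijOn (inflIrr N)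
  · refine ⟨?_, ?_, ?_⟩
    · intro ψ hψ
      exact (inflIrr_mem_principalBlock_iff N p M hM hN ψ).2 hψ
    · intro a _ b _ h
      exact inflIrr_injective N h
    · intro χ hχ
      obtain ⟨ψ, hψ, h⟩ := exists_inflIrr_of_mem N p M hM hN χ hχ
      exact ⟨ψ, hψ, h⟩
  · intro ψ _
    rfl

end Quot


section Main

variable {G : Type u} [Group G] [Finite G]

/-- S4735 for an arbitrary normal `p'`-subgroup -/
theorem principal_quot_main (p : ℕ) [Fact p.Prime] (M : Ideal AlgInt) (hM : IsPModular p M)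
    (N : Subgroup G) [N.Normal] (hN : (Nat.card N).Coprime p) (x : G) :
    (∃ n : ℕ, 0 < n ∧ ∑ᶠ χ ∈ principalBlock M G, Complex.normSq ((χ : G → ℂ) x) = n) ∧
    ∑ᶠ χ ∈ principalBlock M G, Complex.normSq ((χ : G → ℂ) x) =
      ∑ᶠ ψ ∈ principalBlock M (G ⧸ N),
        Complex.normSq ((ψ : G ⧸ N → ℂ) (QuotientGroup.mk x)) ∧
    ∑ᶠ χ ∈ principalBlock M G, Complex.normSq ((χ : G → ℂ) x) ≤
      (Nat.card ↥(Subgroup.centralizer ({(QuotientGroup.mk x : G ⧸ N)} : Set (G ⧸ N))) : ℝ) ∧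
    ((∑ᶠ χ ∈ principalBlock M G, charDegree (χ : G → ℂ) ^ 2) = N.index ↔
      ∀ B : Set (IrrCharacter (G ⧸ N)), IsPBlock M B → B = principalBlock M (G ⧸ N)) := by
  classical
  letI := Fintype.ofFinite G
  letI : Fintype N := Fintype.ofFinite _
  letI : Fintype (G ⧸ N) := Fintype.ofFinite _
  letI : Fintype (IrrCharacter G) := Fintype.ofFinite _
  letI : Fintype (IrrCharacter (G ⧸ N)) := Fintype.ofFinite _
  have hMp : M.IsPrime := hM.2.1.isPrime
  have hMtop : M ≠ ⊤ := hMp.ne_top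
  -- part 2
  have h2 : ∑ᶠ χ ∈ principalBlock M G, Complex.normSq ((χ : G → ℂ) x) =
      ∑ᶠ ψ ∈ principalBlock M (G ⧸ N),
        Complex.normSq ((ψ : G ⧸ N → ℂ) (QuotientGroup.mk x)) :=
    finsum_principal_quot N p M hM hN (fun χ => Complex.normSq ((χ : G → ℂ) x))
  -- part 1
  have h1 : ∃ n : ℕ, 0 < n ∧
      ∑ᶠ χ ∈ principalBlock M G, Complex.normSq ((χ : G → ℂ) x) = n := by
    rw [finsum_mem_eq_finite_toFinset_sum _ (Set.toFinite (principalBlock M G))]
    obtain ⟨A, hAdef⟩ : ∃ A : Finset (IrrCharacter G),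
        A = (Set.toFinite (principalBlock M G)).toFinset := ⟨_, rfl⟩
    rw [← hAdef]
    have hA : ∀ χ, χ ∈ A ↔ χ ∈ principalBlock M G := by
      intro χ
      rw [hAdef]
      exact Set.Finite.mem_toFinset _
    obtain ⟨z, hz⟩ := principal_sum_int p M hM A hA x
    have h3 : ((∑ χ ∈ A, Complex.normSq ((χ : G → ℂ) x) : ℝ) : ℂ) = (z : ℂ) := by
      rw [← hz, Complex.ofReal_sum]
      refine Finset.sum_congr rfl (fun χ _ => ?_)
      rw [helper24.char_inv (helper24.irr_isCharacter χ.2), Complex.mul_conj]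
    have h4 : ∑ χ ∈ A, Complex.normSq ((χ : G → ℂ) x) = (z : ℝ) := by
      apply Complex.ofReal_injective
      rw [h3]
      push_cast
      rfl
    have h5 : (1 : ℝ) ≤ ∑ χ ∈ A, Complex.normSq ((χ : G → ℂ) x) := by
      have hmem : oneIrr G ∈ A := (hA _).2 (oneIrr_mem_principalBlock hMtop)
      have h6 := Finset.single_le_sum (f := fun χ : IrrCharacter G =>
        Complex.normSq ((χ : G → ℂ) x)) (fun i _ => Complex.normSq_nonneg _) hmem
      have h7 : Complex.normSq (((oneIrr G : IrrCharacter G) : G → ℂ) x) = 1 := by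
        show Complex.normSq (1 : ℂ) = 1
        simp
      rw [h7] at h6
      exact h6
    rw [h4] at h5
    have h8 : (1 : ℤ) ≤ z := by exact_mod_cast h5
    refine ⟨z.toNat, by omega, ?_⟩
    rw [h4]
    have h9 : ((z.toNat : ℤ) : ℝ) = (z : ℝ) := by
      rw [Int.toNat_of_nonneg (by omega)]
    rw [← h9]
    push_cast
    rfl
  -- part 3
  have h3 : ∑ᶠ χ ∈ principalBlock M G, Complex.normSq ((χ : G → ℂ) x) ≤
      (Nat.card ↥(Subgroup.centralizer ({(QuotientGroup.mk x : G ⧸ N)} : Set (G ⧸ N))) : ℝ) := by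
    rw [h2, finsum_mem_eq_finite_toFinset_sum _ (Set.toFinite (principalBlock M (G ⧸ N)))]
    have hcol := helper24.irr_column_orthogonality (G := G ⧸ N) (QuotientGroup.mk x : G ⧸ N)
      (QuotientGroup.mk x)
    rw [if_pos (IsConj.refl _)] at hcol
    have h4 : ∑ ψ : IrrCharacter (G ⧸ N),
        Complex.normSq ((ψ : G ⧸ N → ℂ) (QuotientGroup.mk x)) =
        (Nat.card ↥(Subgroup.centralizer ({(QuotientGroup.mk x : G ⧸ N)} : Set (G ⧸ N))) : ℝ) := by
      apply Complex.ofReal_injective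
      rw [Complex.ofReal_sum]
      push_cast
      rw [← hcol]
      refine Finset.sum_congr rfl (fun ψ _ => ?_)
      rw [Complex.mul_conj]
    rw [← h4]
    exact Finset.sum_le_sum_of_subset_of_nonneg (Finset.subset_univ _)
      (fun i _ _ => Complex.normSq_nonneg _)
  refine ⟨h1, h2, h3, ?_⟩
  -- part 4
  have h5 : (∑ᶠ χ ∈ principalBlock M G, charDegree (χ : G → ℂ) ^ 2) =
      ∑ᶠ ψ ∈ principalBlock M (G ⧸ N), charDegree (ψ : G ⧸ N → ℂ) ^ 2 :=
    finsum_principal_quot N p M hM hN (fun χ => charDegree (χ : G → ℂ) ^ 2)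
  rw [h5, finsum_mem_eq_finite_toFinset_sum _ (Set.toFinite (principalBlock M (G ⧸ N)))]
  obtain ⟨A, hAdef⟩ : ∃ A : Finset (IrrCharacter (G ⧸ N)),
      A = (Set.toFinite (principalBlock M (G ⧸ N))).toFinset := ⟨_, rfl⟩
  rw [← hAdef]
  have hA : ∀ χ, χ ∈ A ↔ χ ∈ principalBlock M (G ⧸ N) := by
    intro χ
    rw [hAdef]
    exact Set.Finite.mem_toFinset _
  have hidx : N.index = ∑ ψ : IrrCharacter (G ⧸ N), charDegree (ψ : G ⧸ N → ℂ) ^ 2 := by
    rw [helper24.sum_irr_degree_sq]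
    rfl
  rw [hidx]
  constructor
  · intro hsum B hB
    have hall : ∀ ψ : IrrCharacter (G ⧸ N), ψ ∈ A := by
      intro ψ
      by_contra hψ
      have hlt := Finset.sum_lt_sum_of_subset (f := fun ψ : IrrCharacter (G ⧸ N) =>
        charDegree (ψ : G ⧸ N → ℂ) ^ 2) (Finset.subset_univ A) (Finset.mem_univ ψ) hψ
        (by
          have := helper24.irr_charDegree_pos ψ.2
          positivity) (fun j _ _ => Nat.zero_le _)
      rw [hsum] at hlt
      exact lt_irrefl _ hlt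
    obtain ⟨ψ₀, rfl⟩ := hB
    exact (block_eq_blockOf_of_mem hM (isPBlock_principalBlock M) ((hA ψ₀).1 (hall ψ₀))).symm
  · intro hB
    have hall : A = Finset.univ := by
      ext ψ
      simp only [Finset.mem_univ, iff_true]
      rw [hA]
      have h6 := hB (blockOf M (ψ : G ⧸ N → ℂ)) ⟨ψ, rfl⟩
      rw [← h6]
      exact helper24.sameBlock_refl M hMtop _
    rw [hall]

end Main

end Cfsg.Agent.helper1
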