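import Mathlib
import Cfsg.Agent.Lib_helper1_PrincQuot
import Cfsg.Agent.Lib_helper1_InflBlock
import Cfsg.Agent.Lib_helper1_BlockRank
import Cfsg.Agent.Lib_helper24_BlockOrth2

/-!
The principal block of `G ⧸ Q` for a normal `p`-subgroup `Q` with `G = Q C_G(Q)` (helper1):
the `p`-regular elements of `G` and of `G ⧸ Q` correspond bijectively, the principal blocks
correspond by inflation, and they have the same rank.
-/

set_option autoImplicit false
set_option linter.unusedVariables false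
set_option linter.unusedSectionVars false
set_option linter.style.longLine false
set_option linter.style.haveILetI false

namespace Cfsg.Agent.helper1

open Cfsg Cfsg.Agent.helper24
open scoped ComplexConjugate Pointwise

universe u

section PQ

variable {G : Type u} [Group G] [Fintype G] (Q : Subgroup G) [Q.Normal]

omit [Fintype G] in
/-- `p`-regular elements centralize `Q` when `G = Q C_G(Q)` and `Q` is a `p`-group -/
theorem pregular_mem_centralizer {p : ℕ} [Fact p.Prime] [Finite G] (hQ : IsPGroup p Q)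
    (hsup : Q ⊔ Subgroup.centralizer (Q : Set G) = ⊤) (x : G) (hx : ¬ p ∣ orderOf x) :
    x ∈ Subgroup.centralizer (Q : Set G) := by
  have hpp : p.Prime := Fact.out
  have hx' : x ∈ Q ⊔ Subgroup.centralizer (Q : Set G) := by rw [hsup]; trivial
  have h1 : x ∈ ((Q : Set G) * (Subgroup.centralizer (Q : Set G) : Set G)) := by
    rw [← Subgroup.normal_mul]
    exact hx'
  obtain ⟨q, hq, c, hc, hqc⟩ := Set.mem_mul.1 h1
  rw [← QuotientGroup.eq_one_iff]
  have h2 : (QuotientGroup.mk x : G ⧸ Subgroup.centralizer (Q : Set G)) = QuotientGroup.mk q := by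
    rw [← hqc, QuotientGroup.mk_mul, (QuotientGroup.eq_one_iff c).2 hc, mul_one]
  have h3 : orderOf (QuotientGroup.mk x : G ⧸ Subgroup.centralizer (Q : Set G)) ∣ orderOf x := by
    apply orderOf_dvd_of_pow_eq_one
    rw [← QuotientGroup.mk_pow, pow_orderOf_eq_one]
    rfl
  obtain ⟨j, hj⟩ := hQ ⟨q, hq⟩
  have hj' : q ^ p ^ j = 1 := by
    have := congrArg Subtype.val hj
    simpa using this
  have h4 : orderOf (QuotientGroup.mk x : G ⧸ Subgroup.centralizer (Q : Set G)) ∣ p ^ j := by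
    rw [h2]
    apply orderOf_dvd_of_pow_eq_one
    rw [← QuotientGroup.mk_pow, hj']
    rfl
  obtain ⟨i, _, hi⟩ := (Nat.dvd_prime_pow hpp).1 h4
  have hi0 : i = 0 := by
    by_contra hne
    apply hx
    refine dvd_trans ?_ h3
    rw [hi]
    exact dvd_pow_self p hne
  rw [hi0, pow_zero] at hi
  exact orderOf_eq_one_iff.1 hi

omit [Fintype G] in
/-- a coset of `Q` contains at most one `p`-regular element -/
theorem pregular_eq_of_mk_eq {p : ℕ} [Fact p.Prime] [Finite G] (hQ : IsPGroup p Q)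
    (hsup : Q ⊔ Subgroup.centralizer (Q : Set G) = ⊤) (x y : G) (hx : ¬ p ∣ orderOf x)
    (hy : ¬ p ∣ orderOf y) (hxy : (QuotientGroup.mk x : G ⧸ Q) = QuotientGroup.mk y) : x = y := by
  have hpp : p.Prime := Fact.out
  have hu : x⁻¹ * y ∈ Q := QuotientGroup.eq.1 hxy
  have hxC := pregular_mem_centralizer Q hQ hsup x hx
  have hcomm : Commute x (x⁻¹ * y) := by
    have := (Subgroup.mem_centralizer_iff.1 hxC) _ hu
    exact this.symm
  obtain ⟨m, hm⟩ : ∃ m : ℕ, m = orderOf x := ⟨_, rfl⟩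
  have hy' : y = x * (x⁻¹ * y) := by group
  have h1 : y ^ m = (x⁻¹ * y) ^ m := by
    conv_lhs => rw [hy']
    rw [hcomm.mul_pow, hm, pow_orderOf_eq_one, one_mul]
  obtain ⟨j, hj⟩ := hQ ⟨x⁻¹ * y, hu⟩
  have hj' : (x⁻¹ * y) ^ p ^ j = 1 := by
    have := congrArg Subtype.val hj
    simpa using this
  have h2 : orderOf ((x⁻¹ * y) ^ m) ∣ p ^ j := by
    apply orderOf_dvd_of_pow_eq_one
    rw [← pow_mul, mul_comm, pow_mul, hj', one_pow]
  have h3 : orderOf ((x⁻¹ * y) ^ m) ∣ orderOf y := by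
    rw [← h1]
    exact orderOf_pow_dvd m
  have h4 : (x⁻¹ * y) ^ m = 1 := by
    obtain ⟨i, _, hi⟩ := (Nat.dvd_prime_pow hpp).1 h2
    have hi0 : i = 0 := by
      by_contra hne
      apply hy
      refine dvd_trans ?_ h3
      rw [hi]
      exact dvd_pow_self p hne
    rw [hi0, pow_zero] at hi
    exact orderOf_eq_one_iff.1 hi
  have h5 : orderOf (x⁻¹ * y) ∣ m := orderOf_dvd_of_pow_eq_one h4
  have h6 : orderOf (x⁻¹ * y) ∣ p ^ j := orderOf_dvd_of_pow_eq_one hj'
  obtain ⟨i, _, hi⟩ := (Nat.dvd_prime_pow hpp).1 h6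
  have hi0 : i = 0 := by
    by_contra hne
    apply hx
    rw [← hm]
    refine dvd_trans ?_ h5
    rw [hi]
    exact dvd_pow_self p hne
  rw [hi0, pow_zero] at hi
  have h7 : x⁻¹ * y = 1 := orderOf_eq_one_iff.1 hi
  calc x = x * (x⁻¹ * y) := by rw [h7, mul_one]
    _ = y := by group

omit [Fintype G] [Q.Normal] in
theorem not_dvd_orderOf_mk [Q.Normal] {p : ℕ} (x : G) (hx : ¬ p ∣ orderOf x) :
    ¬ p ∣ orderOf (QuotientGroup.mk x : G ⧸ Q) := by
  intro h
  apply hx
  refine dvd_trans h (orderOf_dvd_of_pow_eq_one ?_)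
  rw [← QuotientGroup.mk_pow, pow_orderOf_eq_one]
  rfl

open Classical in
/-- sums over the `p`-regular elements of `G` and of `G ⧸ Q` correspond -/
theorem sum_pregular_comp_mk [Fintype (G ⧸ Q)] {p : ℕ} [Fact p.Prime] (hQ : IsPGroup p Q)
    (hsup : Q ⊔ Subgroup.centralizer (Q : Set G) = ⊤) (F : G ⧸ Q → ℂ) :
    ∑ g ∈ Finset.univ.filter (fun g : G => ¬ p ∣ orderOf g), F (QuotientGroup.mk g) =
      ∑ q ∈ Finset.univ.filter (fun q : G ⧸ Q => ¬ p ∣ orderOf q), F q := by
  apply Finset.sum_bij (fun (g : G) _ => (QuotientGroup.mk g : G ⧸ Q))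
  · intro g hg
    rw [Finset.mem_filter] at hg ⊢
    exact ⟨Finset.mem_univ _, not_dvd_orderOf_mk Q g hg.2⟩
  · intro a ha b hb hab
    rw [Finset.mem_filter] at ha hb
    exact pregular_eq_of_mk_eq Q hQ hsup a b ha.2 hb.2 hab
  · intro q hq
    rw [Finset.mem_filter] at hq
    obtain ⟨x, hx1, hx2⟩ := exists_pregular_lift Q q hq.2
    exact ⟨x, Finset.mem_filter.2 ⟨Finset.mem_univ _, hx2⟩, hx1⟩
  · intro g _
    rfl

theorem inflIrr_mem_principalBlock_iff_pgroup [Fintype (G ⧸ Q)] (p : ℕ) [Fact p.Prime]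
    (M : Ideal AlgInt) (hM : IsPModular p M) (hQ : IsPGroup p Q)
    (hsup : Q ⊔ Subgroup.centralizer (Q : Set G) = ⊤) (ψ : IrrCharacter (G ⧸ Q)) :
    inflIrr Q ψ ∈ principalBlock M G ↔ ψ ∈ principalBlock M (G ⧸ Q) := by
  classical
  rw [mem_principalBlock_iff_sum_ne_zero p M hM, mem_principalBlock_iff_sum_ne_zero p M hM,
    ← sum_pregular_comp_mk Q hQ hsup (ψ : G ⧸ Q → ℂ)]
  rfl

end PQ


section Rank

variable {G : Type u} [Group G] [Fintype G] (Q : Subgroup G) [Q.Normal]

omit [Fintype G] in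
theorem isPRegular_iff {p : ℕ} (g : G) : IsPRegular p g ↔ ¬ p ∣ orderOf g := Iff.rfl

/-- the `p`-regular part of a principal block character is a combination of the `p`-regular
parts of the inflations of the principal block characters of `G ⧸ Q` -/
theorem pRegularPart_mem_span_infl [Fintype (G ⧸ Q)] (p : ℕ) [Fact p.Prime] (M : Ideal AlgInt)
    (hM : IsPModular p M) (hQ : IsPGroup p Q)
    (hsup : Q ⊔ Subgroup.centralizer (Q : Set G) = ⊤) (χ : IrrCharacter G)
    (hχ : χ ∈ principalBlock M G) :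
    pRegularPart p (χ : G → ℂ) ∈ Submodule.span ℂ ((fun ψ : IrrCharacter (G ⧸ Q) =>
      pRegularPart p ((inflIrr Q ψ : IrrCharacter G) : G → ℂ)) '' principalBlock M (G ⧸ Q)) := by
  classical
  have hMp : M.IsPrime := hM.2.1.isPrime
  letI : Fintype (IrrCharacter (G ⧸ Q)) := Fintype.ofFinite _
  have hχcf := helper24.char_isClassFunction (helper24.irr_isCharacter χ.2)
  have hlift : ∀ q : G ⧸ Q, ¬ p ∣ orderOf q → ∃ x : G, (x : G ⧸ Q) = q ∧ ¬ p ∣ orderOf x :=
    fun q hq => exists_pregular_lift Q q hq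
  obtain ⟨f, hf⟩ : ∃ f : G ⧸ Q → ℂ, f = fun q =>
      if h : ¬ p ∣ orderOf q then (χ : G → ℂ) (Classical.choose (hlift q h)) else 0 := ⟨_, rfl⟩
  have hf_mk : ∀ g : G, ¬ p ∣ orderOf g → f (QuotientGroup.mk g) = (χ : G → ℂ) g := by
    intro g hg
    have hq := not_dvd_orderOf_mk Q g hg
    rw [hf]
    show (if h : ¬ p ∣ orderOf (QuotientGroup.mk g : G ⧸ Q) then
      (χ : G → ℂ) (Classical.choose (hlift _ h)) else 0) = _
    rw [dif_pos hq]
    have hspec := Classical.choose_spec (hlift _ hq)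
    rw [pregular_eq_of_mk_eq Q hQ hsup _ g hspec.2 hg hspec.1]
  have hf_sing : ∀ q : G ⧸ Q, p ∣ orderOf q → f q = 0 := by
    intro q hq
    rw [hf]
    show (if h : ¬ p ∣ orderOf q then (χ : G → ℂ) (Classical.choose (hlift _ h)) else 0) = 0
    rw [dif_neg (not_not.2 hq)]
  have hoconj : ∀ (q k : G ⧸ Q), orderOf (k * q * k⁻¹) = orderOf q := by
    intro q k
    have := MulEquiv.orderOf_eq (MulAut.conj k) q
    rwa [MulAut.conj_apply] at this
  have hfcf : IsClassFunction (G ⧸ Q) f := by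
    intro q k
    by_cases hq : p ∣ orderOf q
    · rw [hf_sing q hq, hf_sing _ (by rw [hoconj]; exact hq)]
    · obtain ⟨x, hx1, hx2⟩ := hlift q hq
      obtain ⟨k', rfl⟩ := QuotientGroup.mk_surjective k
      rw [← hx1]
      have h1 : (QuotientGroup.mk k' : G ⧸ Q) * QuotientGroup.mk x * (QuotientGroup.mk k')⁻¹ =
          QuotientGroup.mk (k' * x * k'⁻¹) := rfl
      have h2 : ¬ p ∣ orderOf (k' * x * k'⁻¹) := by
        have := MulEquiv.orderOf_eq (MulAut.conj k') x
        rw [MulAut.conj_apply] at this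
        rw [this]
        exact hx2
      rw [h1, hf_mk _ h2, hf_mk _ hx2, hχcf x k']
  have hexp := classFunction_expansion hfcf
  obtain ⟨c, hc⟩ : ∃ c : IrrCharacter (G ⧸ Q) → ℂ,
      c = fun ψ : IrrCharacter (G ⧸ Q) => classInner f (ψ : G ⧸ Q → ℂ) := ⟨_, rfl⟩
  -- pointwise expansion of the `p`-regular part
  have hpoint : ∀ g : G, pRegularPart p (χ : G → ℂ) g =
      ∑ ψ : IrrCharacter (G ⧸ Q), c ψ * pRegularPart p ((inflIrr Q ψ : IrrCharacter G) : G → ℂ) g := by
    intro g
    by_cases hg : p ∣ orderOf g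
    · rw [pRegularPart_apply_of_singular p _ g hg]
      symm
      apply Finset.sum_eq_zero
      intro ψ _
      rw [pRegularPart_apply_of_singular p _ g hg, mul_zero]
    · rw [pRegularPart_apply_of_regular p _ g hg, ← hf_mk g hg]
      conv_lhs => rw [hexp]
      rw [Finset.sum_apply]
      refine Finset.sum_congr rfl (fun ψ _ => ?_)
      rw [pRegularPart_apply_of_regular p _ g hg, hc]
      rfl
  obtain ⟨A, hA⟩ : ∃ A : Finset (IrrCharacter (G ⧸ Q)),
      A = Finset.univ.filter (fun ψ => ψ ∈ principalBlock M (G ⧸ Q)) := ⟨_, rfl⟩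
  have hAmem : ∀ ψ, ψ ∈ A ↔ ψ ∈ principalBlock M (G ⧸ Q) := by
    intro ψ
    rw [hA]
    simp
  obtain ⟨R, hR⟩ : ∃ R : G → ℂ, R = fun g => ∑ ψ ∈ Finset.univ.filter (fun ψ => ψ ∉ A),
      c ψ * pRegularPart p ((inflIrr Q ψ : IrrCharacter G) : G → ℂ) g := ⟨_, rfl⟩
  have hR1 : ∀ g, R g = pRegularPart p (χ : G → ℂ) g -
      ∑ ψ ∈ A, c ψ * pRegularPart p ((inflIrr Q ψ : IrrCharacter G) : G → ℂ) g := by
    intro g
    rw [hpoint g, hR]
    have h := Finset.sum_filter_add_sum_filter_not Finset.univ (fun ψ => ψ ∈ A)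
      (fun ψ => c ψ * pRegularPart p ((inflIrr Q ψ : IrrCharacter G) : G → ℂ) g)
    have h' : ∑ ψ ∈ Finset.univ.filter (fun ψ => ψ ∈ A),
        c ψ * pRegularPart p ((inflIrr Q ψ : IrrCharacter G) : G → ℂ) g =
        ∑ ψ ∈ A, c ψ * pRegularPart p ((inflIrr Q ψ : IrrCharacter G) : G → ℂ) g := by
      apply Finset.sum_congr _ (fun _ _ => rfl)
      ext ψ
      simp
    rw [h'] at h
    show ∑ ψ ∈ Finset.univ.filter (fun ψ => ψ ∉ A),
      c ψ * pRegularPart p ((inflIrr Q ψ : IrrCharacter G) : G → ℂ) g = _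
    rw [← h]
    ring
  -- orthogonality
  have horth : ∀ ξ : IrrCharacter G, ξ ∈ principalBlock M G →
      ∑ g : G, pRegularPart p (ξ : G → ℂ) g * conj (R g) = 0 := by
    intro ξ hξ
    rw [hR]
    simp only [map_sum, map_mul, Finset.mul_sum]
    rw [Finset.sum_comm]
    apply Finset.sum_eq_zero
    intro η hη
    have hηA : η ∉ A := (Finset.mem_filter.1 hη).2
    have hηB : inflIrr Q η ∉ principalBlock M G := by
      intro h
      exact hηA ((hAmem η).2 ((inflIrr_mem_principalBlock_iff_pgroup Q p M hM hQ hsup η).1 h))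
    have hnot : ¬ SameBlock M (ξ : G → ℂ) ((inflIrr Q η : IrrCharacter G) : G → ℂ) := by
      intro h
      exact hηB (sameBlock_trans hξ h)
    have h0 := pregular_orthogonality p M hM ξ (inflIrr Q η) hnot
    have h1 : ∑ g : G, pRegularPart p (ξ : G → ℂ) g *
        (conj (c η) * conj (pRegularPart p ((inflIrr Q η : IrrCharacter G) : G → ℂ) g)) =
        conj (c η) * ∑ x ∈ Finset.univ.filter (fun x : G => ¬ p ∣ orderOf x),
          (ξ : G → ℂ) x * conj (((inflIrr Q η : IrrCharacter G) : G → ℂ) x) := by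
      rw [Finset.mul_sum, Finset.sum_filter]
      refine Finset.sum_congr rfl (fun g _ => ?_)
      by_cases hg : p ∣ orderOf g
      · rw [pRegularPart_apply_of_singular p _ g hg, if_neg (not_not.2 hg), zero_mul]
      · rw [pRegularPart_apply_of_regular p _ g hg, pRegularPart_apply_of_regular p _ g hg,
          if_pos hg]
        ring
    rw [h1, h0, mul_zero]
  have hRR : ∑ g : G, R g * conj (R g) = 0 := by
    have h1 : ∀ g, R g * conj (R g) = pRegularPart p (χ : G → ℂ) g * conj (R g) -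
        ∑ ψ ∈ A, c ψ * (pRegularPart p ((inflIrr Q ψ : IrrCharacter G) : G → ℂ) g * conj (R g)) := by
      intro g
      have h0 : R g * conj (R g) = (pRegularPart p (χ : G → ℂ) g -
          ∑ ψ ∈ A, c ψ * pRegularPart p ((inflIrr Q ψ : IrrCharacter G) : G → ℂ) g) * conj (R g) := by
        rw [← hR1 g]
      rw [h0, sub_mul, Finset.sum_mul]
      congr 1
      refine Finset.sum_congr rfl (fun ψ _ => ?_)
      ring
    simp_rw [h1]
    rw [Finset.sum_sub_distrib, horth χ hχ, Finset.sum_comm]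
    rw [Finset.sum_eq_zero, sub_zero]
    intro ψ hψ
    rw [← Finset.mul_sum, horth (inflIrr Q ψ)
      ((inflIrr_mem_principalBlock_iff_pgroup Q p M hM hQ hsup ψ).2 ((hAmem ψ).1 hψ)), mul_zero]
  have hR0 : ∀ g, R g = 0 := by
    have h2 : ∑ g : G, Complex.normSq (R g) = 0 := by
      apply Complex.ofReal_injective
      rw [Complex.ofReal_sum, Complex.ofReal_zero, ← hRR]
      refine Finset.sum_congr rfl (fun g _ => ?_)
      rw [Complex.mul_conj]
    intro g
    have h3 := (Finset.sum_eq_zero_iff_of_nonneg (fun g _ => Complex.normSq_nonneg _)).1 h2 g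
      (Finset.mem_univ g)
    exact Complex.normSq_eq_zero.1 h3
  have hfinal : pRegularPart p (χ : G → ℂ) =
      ∑ ψ ∈ A, c ψ • pRegularPart p ((inflIrr Q ψ : IrrCharacter G) : G → ℂ) := by
    funext g
    have h4 := hR1 g
    rw [hR0 g] at h4
    rw [Finset.sum_apply]
    simp only [Pi.smul_apply, smul_eq_mul]
    linear_combination -h4
  rw [hfinal]
  apply Submodule.sum_mem
  intro ψ hψ
  apply Submodule.smul_mem
  apply Submodule.subset_span
  exact ⟨ψ, (hAmem ψ).1 hψ, rfl⟩

/-- truncated inflation of functions, as a linear map -/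
noncomputable def truncInfl (p : ℕ) : (G ⧸ Q → ℂ) →ₗ[ℂ] (G → ℂ) where
  toFun f := fun g => by classical exact if ¬ p ∣ orderOf g then f (QuotientGroup.mk g) else 0
  map_add' a b := by
    funext g
    by_cases h : p ∣ orderOf g <;> simp [h]
  map_smul' c a := by
    funext g
    by_cases h : p ∣ orderOf g <;> simp [h]

omit [Fintype G] in
theorem truncInfl_apply (p : ℕ) (f : G ⧸ Q → ℂ) (g : G) :
    truncInfl Q p f g = by classical exact if ¬ p ∣ orderOf g then f (QuotientGroup.mk g) else 0 :=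
  rfl

/-- **S4571** -/
theorem blockRank_principal_quot [Fintype (G ⧸ Q)] (p : ℕ) [Fact p.Prime] (M : Ideal AlgInt)
    (hM : IsPModular p M) (hQ : IsPGroup p Q)
    (hsup : Q ⊔ Subgroup.centralizer (Q : Set G) = ⊤) :
    blockRank p (principalBlock M G) = blockRank p (principalBlock M (G ⧸ Q)) := by
  classical
  unfold blockRank
  have htr : ∀ ψ : IrrCharacter (G ⧸ Q), truncInfl Q p (pRegularPart p (ψ : G ⧸ Q → ℂ)) =
      pRegularPart p ((inflIrr Q ψ : IrrCharacter G) : G → ℂ) := by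
    intro ψ
    funext g
    rw [truncInfl_apply]
    by_cases hg : p ∣ orderOf g
    · rw [if_neg (not_not.2 hg), pRegularPart_apply_of_singular p _ g hg]
    · rw [if_pos hg, pRegularPart_apply_of_regular p _ g hg,
        pRegularPart_apply_of_regular p _ _ (not_dvd_orderOf_mk Q g hg)]
      rfl
  have hspan : Submodule.span ℂ ((fun χ : IrrCharacter G => pRegularPart p (χ : G → ℂ)) ''
      principalBlock M G) = Submodule.map (truncInfl Q p) (Submodule.span ℂ
        ((fun ψ : IrrCharacter (G ⧸ Q) => pRegularPart p (ψ : G ⧸ Q → ℂ)) ''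
          principalBlock M (G ⧸ Q))) := by
    rw [← Submodule.span_image, Set.image_image]
    simp_rw [htr]
    apply le_antisymm
    · rw [Submodule.span_le]
      rintro _ ⟨χ, hχ, rfl⟩
      exact pRegularPart_mem_span_infl Q p M hM hQ hsup χ hχ
    · apply Submodule.span_mono
      rintro _ ⟨ψ, hψ, rfl⟩
      exact ⟨inflIrr Q ψ, (inflIrr_mem_principalBlock_iff_pgroup Q p M hM hQ hsup ψ).2 hψ, rfl⟩
  rw [hspan]
  obtain ⟨W, hW⟩ : ∃ W : Submodule ℂ (G ⧸ Q → ℂ), W = Submodule.span ℂ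
      ((fun ψ : IrrCharacter (G ⧸ Q) => pRegularPart p (ψ : G ⧸ Q → ℂ)) ''
        principalBlock M (G ⧸ Q)) := ⟨_, rfl⟩
  rw [← hW]
  have hvan : ∀ f ∈ W, ∀ q : G ⧸ Q, p ∣ orderOf q → f q = 0 := by
    intro f hf
    rw [hW] at hf
    induction hf using Submodule.span_induction with
    | mem x hx =>
      obtain ⟨ψ, _, rfl⟩ := hx
      intro q hq
      exact pRegularPart_apply_of_singular p _ q hq
    | zero => intro q _; rfl
    | add x y _ _ hx hy =>
      intro q hq
      rw [Pi.add_apply, hx q hq, hy q hq, add_zero]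
    | smul a x _ hx =>
      intro q hq
      rw [Pi.smul_apply, hx q hq, smul_zero]
  have hinj : Function.Injective ((truncInfl Q p).domRestrict W) := by
    rw [← LinearMap.ker_eq_bot, LinearMap.ker_eq_bot']
    intro x hx
    apply Subtype.ext
    funext q
    show (x : G ⧸ Q → ℂ) q = 0
    by_cases hq : p ∣ orderOf q
    · exact hvan x x.2 q hq
    · obtain ⟨g, hg1, hg2⟩ := exists_pregular_lift Q q hq
      have h1 : truncInfl Q p (x : G ⧸ Q → ℂ) g = 0 := by
        have : truncInfl Q p (x : G ⧸ Q → ℂ) = 0 := hx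
        rw [this]
        rfl
      rw [truncInfl_apply, if_pos hg2, hg1] at h1
      exact h1
  have h1 := LinearMap.finrank_range_of_inj hinj
  rw [LinearMap.range_domRestrict] at h1
  exact h1

end Rank

end Cfsg.Agent.helper1
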