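import Cfsg.Statements.S0944
import Mathlib
import Cfsg.Agent.Lib_helper24_Char
import Cfsg.Agent.Lib_helper23_Eigen

set_option autoImplicit false
open Cfsg

namespace Cfsg.Agent.S0944

open Cfsg.Agent.helper24 Cfsg.Agent.helper23

theorem multiset_pm_one (s : Multiset ℂ) (h : ∀ μ ∈ s, μ ^ 2 = 1) :
    ∃ m : ℤ, s.sum = (m : ℂ) ∧ (2 : ℤ) ∣ (s.card : ℤ) - m := by
  induction s using Multiset.induction_on with
  | empty => exact ⟨0, by simp, by simp⟩
  | cons μ s ih =>
    obtain ⟨m, hm, hdvd⟩ := ih (fun ν hν => h ν (Multiset.mem_cons_of_mem hν))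
    have hμ : μ = 1 ∨ μ = -1 := by
      have h1 := h μ (Multiset.mem_cons_self μ s)
      have : (μ - 1) * (μ + 1) = 0 := by ring_nf; rw [h1]; ring
      rcases mul_eq_zero.mp this with h2 | h2
      · left; exact sub_eq_zero.mp h2
      · right; exact eq_neg_of_add_eq_zero_left h2
    rcases hμ with rfl | rfl
    · refine ⟨m + 1, ?_, ?_⟩
      · rw [Multiset.sum_cons, hm]; push_cast; ring
      · rw [Multiset.card_cons]; push_cast
        have : ((s.card : ℤ) + 1 - (m + 1)) = (s.card : ℤ) - m := by ring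
        rw [this]; exact hdvd
    · refine ⟨m - 1, ?_, ?_⟩
      · rw [Multiset.sum_cons, hm]; push_cast; ring
      · rw [Multiset.card_cons]; push_cast
        have : ((s.card : ℤ) + 1 - (m - 1)) = ((s.card : ℤ) - m) + 2 := by ring
        rw [this]; exact dvd_add hdvd (dvd_refl 2)

theorem result {G : Type*} [Group G] [Finite G] (χ : Cfsg.IrrCharacter G) (u : G) (hu : orderOf u = 2) : ∃ n : ℤ, (χ : G → ℂ) u = (n : ℂ) ∧ (2 : ℤ) ∣ (Cfsg.charDegree (χ : G → ℂ) : ℤ) - n := by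
  obtain ⟨n, ρ, _, hρ⟩ := χ.2
  obtain ⟨s, hcard, hroots, hsum⟩ := rep_char_eq_sum_roots ρ u
  rw [hu] at hroots
  obtain ⟨m, hm, hdvd⟩ := multiset_pm_one s hroots
  refine ⟨m, ?_, ?_⟩
  · rw [← hρ, hsum, hm]
  · rw [← hρ, charDegree_character, ← hcard]
    exact hdvd

end Cfsg.Agent.S0944
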