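import Mathlib

set_option autoImplicit false

namespace Cfsg.Agent.lead

/-- An automorphism `φ` of prime order `q` of a finite group `T` has a proper fixed-point
subgroup `F` with `|T| ≡ |F| (mod q)`. -/
theorem aut_prime_fixed {T : Type*} [Group T] [Finite T] (φ : MulAut T)
    (q : ℕ) (hq : q.Prime) (hφ : orderOf φ = q) :
    ∃ F : Subgroup T, F ≠ ⊤ ∧ Nat.card T ≡ Nat.card F [MOD q] := by
  haveI := Fact.mk hq
  have hpg : IsPGroup q (Subgroup.zpowers φ) :=
    IsPGroup.of_card (n := 1) (by rw [Nat.card_zpowers, hφ, pow_one])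
  have h1 := hpg.card_modEq_card_fixedPoints T
  let F : Subgroup T :=
    { carrier := {x | φ x = x}
      one_mem' := map_one φ
      mul_mem' := by
        intro a b ha hb
        change φ a = a at ha
        change φ b = b at hb
        change φ (a * b) = a * b
        rw [map_mul, ha, hb]
      inv_mem' := by
        intro a ha
        change φ a = a at ha
        change φ a⁻¹ = a⁻¹
        rw [map_inv, ha] }
  have hF : Nat.card (MulAction.fixedPoints (Subgroup.zpowers φ) T) = Nat.card F := by
    apply Nat.card_congr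
    apply Equiv.subtypeEquivRight
    intro x
    rw [MulAction.mem_fixedPoints]
    constructor
    · intro h
      exact h ⟨φ, Subgroup.mem_zpowers φ⟩
    · intro h ψ
      obtain ⟨ψ, n, rfl⟩ := ψ
      have hx : x ∈ MulAction.fixedBy T φ := h
      exact MulAction.fixedBy_subset_fixedBy_zpow T φ n hx
  rw [hF] at h1
  refine ⟨F, ?_, h1⟩
  intro hFtop
  have hφ1 : φ = 1 := by
    apply MulEquiv.ext
    intro x
    have : x ∈ F := hFtop ▸ Subgroup.mem_top x
    exact this
  rw [hφ1, orderOf_one] at hφ
  exact hq.one_lt.ne hφ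

open Subgroup in
/-- If `P` is an abelian Sylow `p`-subgroup and no automorphism of `P` has prime order `q`
for a prime `q ≠ p` dividing `|G|`, then `N(P) ≤ C(P)`. -/
theorem normalizer_le_centralizer_of_aut {G : Type*} [Group G] [Finite G] {p : ℕ} [Fact p.Prime]
    (P : Sylow p G) (hcomm : ∀ a b : P, a * b = b * a)
    (h : ∀ q : ℕ, q.Prime → q ∣ Nat.card G → q ≠ p → ∀ φ : MulAut P, orderOf φ ≠ q) :
    normalizer (P : Set G) ≤ centralizer (P : Set G) := by
  have hTC : (P : Subgroup G) ≤ centralizer (P : Set G) := by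
    intro x hx
    rw [mem_centralizer_iff]
    intro y hy
    have := hcomm ⟨y, hy⟩ ⟨x, hx⟩
    exact congrArg Subtype.val this
  have key : Nat.card P.normalizerMonoidHom.range =
      (centralizer (P : Set G)).relIndex (normalizer (P : Set G)) := by
    rw [← Subgroup.index_ker, normalizerMonoidHom_ker]
    rfl
  refine relIndex_eq_one.mp ?_
  rw [← key]
  rw [Nat.eq_one_iff_not_exists_prime_dvd]
  intro q hq hqd
  haveI := Fact.mk hq
  obtain ⟨φ, hφ⟩ := exists_prime_orderOf_dvd_card' q hqd
  have hφ' : orderOf (φ : MulAut P) = q := by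
    rw [← hφ]; exact Subgroup.orderOf_coe φ
  have hqG : q ∣ Nat.card G := by
    rw [key] at hqd
    exact hqd.trans ((relIndex_dvd_card _ _).trans (card_subgroup_dvd_card _))
  have hodd : ¬ (p ∣ (centralizer (P : Set G)).relIndex (normalizer (P : Set G))) := by
    intro h2
    have h2' := h2.trans ((relIndex_dvd_of_le_left _ hTC).trans
      (relIndex_dvd_index_of_le P.le_normalizer))
    exact P.not_dvd_index h2'
  have hqp : q ≠ p := by
    rintro rfl
    rw [key] at hqd; exact hodd hqd
  exact h q hq hqG hqp _ hφ'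

/-- Burnside-type corollary: under the hypotheses of `normalizer_le_centralizer_of_aut`,
`P` has a normal complement. -/
theorem exists_normal_complement_of_aut {G : Type*} [Group G] [Finite G] {p : ℕ} [Fact p.Prime]
    (P : Sylow p G) (hcomm : ∀ a b : P, a * b = b * a)
    (h : ∀ q : ℕ, q.Prime → q ∣ Nat.card G → q ≠ p → ∀ φ : MulAut P, orderOf φ ≠ q) :
    ∃ N : Subgroup G, N.Normal ∧ N.IsComplement' (P : Subgroup G) :=
  ⟨_, inferInstance, MonoidHom.ker_transferSylow_isComplement' P
    (normalizer_le_centralizer_of_aut P hcomm h)⟩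

end Cfsg.Agent.lead
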