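import Mathlib
import Cfsg.Agent.Lib_lead_AutFix

set_option autoImplicit false

/-! Coprime automorphisms of finite abelian `p`-groups. -/

namespace Cfsg.Agent.helper20

/-- An automorphism of `q`-power... of order dividing `q ≠ p` of a finite abelian `p`-group fixing all
elements of order dividing `p` is trivial. -/
theorem aut_fix_of_fix_omega {A : Type*} [CommGroup A] (p q : ℕ) (hpq : Nat.Coprime p q)
    (hA : IsPGroup p A) (φ : MulAut A) (hφ : φ ^ q = 1) (hfix : ∀ x : A, x ^ p = 1 → φ x = x) :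
    φ = 1 := by
  have key : ∀ k : ℕ, ∀ x : A, x ^ (p ^ k) = 1 → φ x = x := by
    intro k
    induction k with
    | zero =>
      intro x hx
      rw [pow_zero, pow_one] at hx
      rw [hx, map_one]
    | succ k ih =>
      intro x hx
      have h1 : φ (x ^ p) = x ^ p := by
        apply ih
        rw [← pow_mul, ← pow_succ']
        exact hx
      have hy : (φ x * x⁻¹) ^ p = 1 := by
        rw [mul_pow, ← map_pow, h1, inv_pow, mul_inv_cancel]
      have hφy : φ (φ x * x⁻¹) = φ x * x⁻¹ := hfix _ hy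
      have hiter : ∀ n : ℕ, (φ ^ n) x = (φ x * x⁻¹) ^ n * x := by
        intro n
        induction n with
        | zero => simp
        | succ n ihn =>
          rw [pow_succ', MulAut.mul_apply, ihn, map_mul, map_pow, hφy, pow_succ]
          have : φ x = (φ x * x⁻¹) * x := by simp
          rw [mul_assoc, ← this]
      have h2 := hiter q
      rw [hφ, MulAut.one_apply] at h2
      have hyq : (φ x * x⁻¹) ^ q = 1 := by
        have := congrArg (fun t => t * x⁻¹) h2
        simpa using this.symm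
      have hy1 : (φ x * x⁻¹) ^ Nat.gcd p q = 1 := pow_gcd_eq_one.mpr ⟨hy, hyq⟩
      rw [hpq.gcd_eq_one, pow_one] at hy1
      exact mul_inv_eq_one.mp hy1
  ext x
  obtain ⟨k, hk⟩ := hA x
  rw [MulAut.one_apply]
  exact key k x hk

/-- An automorphism of prime order `q ≠ p` of a finite abelian `p`-group `A` forces
`q ∣ p ^ i - 1` for some `1 ≤ i ≤ rank A`. -/
theorem exists_dvd_pow_sub_one_strong {A : Type*} [CommGroup A] [Finite A] (p q : ℕ) [hp : Fact p.Prime]
    (hq : q.Prime) (hqp : q ≠ p) (hA : IsPGroup p A) (φ : MulAut A) (hφ : orderOf φ = q) :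
    ∃ i, 1 ≤ i ∧ i ≤ Group.rank A ∧ q ∣ p ^ i - 1 ∧ p ^ i ∣ Nat.card A := by
  have hcop : Nat.Coprime p q := (Nat.coprime_primes hp.out hq).mpr hqp.symm
  have : Fact q.Prime := ⟨hq⟩
  set V : Subgroup A := (powMonoidHom p : A →* A).ker with hV
  have hmemV : ∀ x : A, x ∈ V ↔ x ^ p = 1 := by
    intro x; rw [hV, MonoidHom.mem_ker]; rfl
  have hφV : ∀ (ψ : MulAut A) (x : A), x ∈ V → ψ x ∈ V := by
    intro ψ x hx
    rw [hmemV] at hx ⊢
    rw [← map_pow, hx, map_one]
  let φV : MulAut V :=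
    { toFun := fun v => ⟨φ v, hφV φ v v.2⟩
      invFun := fun v => ⟨φ⁻¹ v, hφV φ⁻¹ v v.2⟩
      left_inv := by intro v; apply Subtype.ext; simp
      right_inv := by intro v; apply Subtype.ext; simp
      map_mul' := by intro v w; apply Subtype.ext; simp }
  have hφVpow : ∀ (n : ℕ) (v : V), (((φV ^ n) v : V) : A) = (φ ^ n) (v : A) := by
    intro n
    induction n with
    | zero => intro v; simp
    | succ n ih =>
      intro v
      rw [pow_succ', pow_succ', MulAut.mul_apply, MulAut.mul_apply, ← ih v]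
      rfl
  have hφq : φ ^ q = 1 := by rw [← hφ]; exact pow_orderOf_eq_one φ
  have hφVq : φV ^ q = 1 := by
    ext v
    rw [hφVpow, hφq]; rfl
  have hφV1 : φV ≠ 1 := by
    intro h1
    have hfix : ∀ x : A, x ^ p = 1 → φ x = x := by
      intro x hx
      have hxV : x ∈ V := (hmemV x).mpr hx
      have := congrArg (fun ψ : MulAut V => ((ψ ⟨x, hxV⟩ : V) : A)) h1
      exact this
    have := aut_fix_of_fix_omega p q hcop hA φ hφq hfix
    rw [this, orderOf_one] at hφ
    exact hq.one_lt.ne hφ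
  have hordV : orderOf φV = q := orderOf_eq_prime hφVq hφV1
  obtain ⟨F, hFtop, hmod⟩ := Cfsg.Agent.lead.aut_prime_fixed φV q hq hordV
  -- cardinalities
  have hVp : IsPGroup p V := hA.to_subgroup V
  obtain ⟨d, hd⟩ := IsPGroup.iff_card.mp hVp
  have hFp : IsPGroup p F := hVp.to_subgroup F
  obtain ⟨f, hf⟩ := IsPGroup.iff_card.mp hFp
  have hfd : f < d := by
    have h1 : Nat.card F ∣ Nat.card V := Subgroup.card_subgroup_dvd_card F
    rw [hd, hf] at h1
    have h2 : f ≤ d := (Nat.pow_dvd_pow_iff_le_right hp.out.one_lt).mp h1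
    rcases Nat.lt_or_ge f d with h3 | h3
    · exact h3
    · exfalso
      have hfd' : f = d := le_antisymm h2 h3
      apply hFtop
      apply Subgroup.eq_top_of_card_eq
      rw [hf, hd, hfd']
  rw [hd, hf] at hmod
  have hdvd : q ∣ p ^ (d - f) - 1 := by
    have h1 : q ∣ p ^ d - p ^ f := (Nat.modEq_iff_dvd' (Nat.pow_le_pow_right hp.out.pos hfd.le)).mp hmod.symm
    have h2 : p ^ d - p ^ f = p ^ f * (p ^ (d - f) - 1) := by
      rw [Nat.mul_sub, mul_one, ← pow_add, Nat.add_sub_cancel' hfd.le]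
    rw [h2] at h1
    rcases (Nat.Prime.dvd_mul hq).mp h1 with h3 | h3
    · exfalso
      exact hqp ((Nat.prime_dvd_prime_iff_eq hq hp.out).mp (hq.dvd_of_dvd_pow h3))
    · exact h3
  have hpd : p ^ (d - f) ∣ Nat.card A :=
    dvd_trans (pow_dvd_pow p (Nat.sub_le d f)) (hd ▸ Subgroup.card_subgroup_dvd_card V)
  refine ⟨d - f, by omega, ?_, hdvd, hpd⟩
  -- d ≤ rank A
  have hcard1 : Nat.card A = Nat.card (A ⧸ V) * Nat.card V := Subgroup.card_eq_card_quotient_mul_card_subgroup V
  have hcard2 : Nat.card (A ⧸ V) = Nat.card (powMonoidHom p : A →* A).range :=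
    Nat.card_congr (QuotientGroup.quotientKerEquivRange (powMonoidHom p : A →* A)).toEquiv
  have hcard3 : Nat.card A = Nat.card (A ⧸ (powMonoidHom p : A →* A).range) * Nat.card (powMonoidHom p : A →* A).range :=
    Subgroup.card_eq_card_quotient_mul_card_subgroup _
  have hcard4 : Nat.card V = Nat.card (A ⧸ (powMonoidHom p : A →* A).range) := by
    rw [hcard2, mul_comm] at hcard1
    rw [hcard1] at hcard3
    have h8 : Nat.card (powMonoidHom p : A →* A).range * Nat.card V =
        Nat.card (powMonoidHom p : A →* A).range * Nat.card (A ⧸ (powMonoidHom p : A →* A).range) := by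
      rw [mul_comm, hcard3, mul_comm]
    exact Nat.eq_of_mul_eq_mul_left Nat.card_pos h8
  have hexp : ∀ g : A ⧸ (powMonoidHom p : A →* A).range, g ^ p = 1 := by
    intro g
    obtain ⟨a, rfl⟩ := QuotientGroup.mk_surjective g
    rw [← QuotientGroup.mk_pow, QuotientGroup.eq_one_iff]
    exact ⟨a, rfl⟩
  have h5 := card_dvd_exponent_pow_rank' (A ⧸ (powMonoidHom p : A →* A).range) hexp
  rw [← hcard4, hd] at h5
  have h6 : d ≤ Group.rank (A ⧸ (powMonoidHom p : A →* A).range) :=
    (Nat.pow_dvd_pow_iff_le_right hp.out.one_lt).mp h5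
  have h7 : Group.rank (A ⧸ (powMonoidHom p : A →* A).range) ≤ Group.rank A :=
    Group.rank_le_of_surjective (QuotientGroup.mk' _) (QuotientGroup.mk'_surjective _)
  omega

/-- An automorphism of prime order `q ≠ p` of a finite abelian `p`-group `A` forces
`q ∣ p ^ i - 1` for some `1 ≤ i ≤ rank A`. -/
theorem exists_dvd_pow_sub_one {A : Type*} [CommGroup A] [Finite A] (p q : ℕ) [hp : Fact p.Prime]
    (hq : q.Prime) (hqp : q ≠ p) (hA : IsPGroup p A) (φ : MulAut A) (hφ : orderOf φ = q) :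
    ∃ i, 1 ≤ i ∧ i ≤ Group.rank A ∧ q ∣ p ^ i - 1 := by
  obtain ⟨i, h1, h2, h3, _⟩ := exists_dvd_pow_sub_one_strong p q hq hqp hA φ hφ
  exact ⟨i, h1, h2, h3⟩

end Cfsg.Agent.helper20
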