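import Mathlib

set_option autoImplicit false

namespace Cfsg.Agent.helper9

/-- Sylow: every `p`-subgroup is conjugate into a given Sylow `p`-subgroup. -/
theorem exists_conj_mem_sylow {G : Type*} [Group G] [Finite G] {p : ℕ} [Fact p.Prime]
    (P : Sylow p G) (Q : Subgroup G) (hQ : IsPGroup p Q) :
    ∃ x : G, ∀ q ∈ Q, x⁻¹ * q * x ∈ (P : Subgroup G) := by
  obtain ⟨R, hR⟩ := hQ.exists_le_sylow
  obtain ⟨x, hx⟩ := MulAction.exists_smul_eq G P R
  refine ⟨x, fun q hq => ?_⟩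
  have h1 : q ∈ (R : Subgroup G) := hR hq
  rw [← hx, Sylow.coe_subgroup_smul, Subgroup.mem_pointwise_smul_iff_inv_smul_mem] at h1
  simpa [MulAut.smul_def, MulAut.conj_apply] using h1

/-- Sylow inside a subgroup `M` containing a Sylow `p`-subgroup `P` of `G`. -/
theorem exists_conj_mem_sylow_in {G : Type*} [Group G] [Finite G] {p : ℕ} [Fact p.Prime]
    (P : Sylow p G) (M : Subgroup G) (hPM : (P : Subgroup G) ≤ M)
    (Q : Subgroup G) (hQ : IsPGroup p Q) (hQM : Q ≤ M) :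
    ∃ m ∈ M, ∀ q ∈ Q, m⁻¹ * q * m ∈ (P : Subgroup G) := by
  have hQ' : IsPGroup p (Q.subgroupOf M) :=
    IsPGroup.of_injective hQ ((Subgroup.subgroupOfEquivOfLe hQM).toMonoidHom)
      (Subgroup.subgroupOfEquivOfLe hQM).injective
  obtain ⟨x, hx⟩ := exists_conj_mem_sylow (P.subtype hPM) (Q.subgroupOf M) hQ'
  refine ⟨x, x.2, fun q hq => ?_⟩
  have := hx ⟨q, hQM hq⟩ (by rw [Subgroup.mem_subgroupOf]; exact hq)
  rw [Sylow.coe_subtype, Subgroup.mem_subgroupOf] at this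
  simpa using this

end Cfsg.Agent.helper9
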