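import Mathlib
import Cfsg.Statements.S0946
import Cfsg.Agent.Lib_helper20_AutAbelian
import Cfsg.Agent.Lib_helper9_Sylow

set_option autoImplicit false
open Cfsg

namespace Cfsg.Agent.S0946

open scoped IsMulCommutative
open Cfsg.Agent.helper9 Cfsg.Agent.helper20

theorem add_self_eq_zero_cases (m : ℕ) (hm : 1 ≤ m) (u : ZMod (2 ^ m)) (h : u + u = 0) :
    u = 0 ∨ u = ((2 ^ (m - 1) : ℕ) : ZMod (2 ^ m)) := by
  haveI : NeZero (2 ^ m) := ⟨by positivity⟩
  obtain ⟨k, rfl⟩ : ∃ k, m = k + 1 := ⟨m - 1, by omega⟩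
  have hu : ((u.val + u.val : ℕ) : ZMod (2 ^ (k + 1))) = 0 := by
    push_cast
    rw [ZMod.natCast_zmod_val]
    exact h
  rw [ZMod.natCast_eq_zero_iff] at hu
  have h2 : 2 ^ k ∣ u.val := by
    have h3 : 2 * 2 ^ k ∣ 2 * u.val := by
      rw [← pow_succ', two_mul]; exact hu
    exact (Nat.mul_dvd_mul_iff_left (by norm_num)).mp h3
  obtain ⟨j, hj⟩ := h2
  have hlt : u.val < 2 ^ (k + 1) := ZMod.val_lt u
  have hj2 : j < 2 := by
    by_contra hcon
    push Not at hcon
    have : 2 ^ k * 2 ≤ 2 ^ k * j := Nat.mul_le_mul_left _ hcon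
    have hlt' : u.val < 2 ^ k * 2 := by rw [← pow_succ]; exact hlt
    omega
  simp only [Nat.add_sub_cancel]
  interval_cases j
  · left
    rw [Nat.mul_zero] at hj
    exact (ZMod.val_eq_zero u).mp hj
  · right
    rw [Nat.mul_one] at hj
    rw [← hj, ZMod.natCast_zmod_val]

theorem involution_cases {A : Type*} [Group A] (m : ℕ) (hm : 1 ≤ m)
    (e : A ≃* Multiplicative (ZMod (2 ^ m) × ZMod (2 ^ m))) (a b c x : A)
    (ha : a ^ 2 = 1) (hb : b ^ 2 = 1) (hc : c ^ 2 = 1) (hx : x ^ 2 = 1)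
    (ha1 : a ≠ 1) (hb1 : b ≠ 1) (hc1 : c ≠ 1) (hx1 : x ≠ 1)
    (hab : a ≠ b) (hbc : b ≠ c) (hac : a ≠ c) : x = a ∨ x = b ∨ x = c := by
  classical
  obtain ⟨h, hh⟩ : ∃ h : ZMod (2 ^ m), h = ((2 ^ (m - 1) : ℕ) : ZMod (2 ^ m)) := ⟨_, rfl⟩
  obtain ⟨f, hf⟩ : ∃ f : A → ZMod (2 ^ m) × ZMod (2 ^ m), ∀ y, f y = Multiplicative.toAdd (e y) :=
    ⟨_, fun _ => rfl⟩
  have hfinj : ∀ y z, f y = f z → y = z := by
    intro y z hyz
    rw [hf, hf] at hyz
    exact e.injective (Multiplicative.toAdd.injective hyz)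
  have hf1 : f 1 = 0 := by rw [hf, map_one]; rfl
  obtain ⟨T, hT⟩ : ∃ T : Finset (ZMod (2 ^ m) × ZMod (2 ^ m)), T = {(0, h), (h, 0), (h, h)} :=
    ⟨_, rfl⟩
  have key : ∀ y : A, y ^ 2 = 1 → y ≠ 1 → f y ∈ T := by
    intro y hy hy1
    have h1 : f y + f y = 0 := by
      have h2 : e y * e y = 1 := by rw [← map_mul, ← pow_two, hy, map_one]
      rw [hf]
      have h3 := congrArg Multiplicative.toAdd h2
      simpa using h3
    have h0 : f y ≠ 0 := fun h0 => hy1 (hfinj y 1 (h0.trans hf1.symm))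
    have h11 : (f y).1 + (f y).1 = 0 := by
      have := congrArg Prod.fst h1
      simpa using this
    have h12 : (f y).2 + (f y).2 = 0 := by
      have := congrArg Prod.snd h1
      simpa using this
    have c1 := add_self_eq_zero_cases m hm _ h11
    have c2 := add_self_eq_zero_cases m hm _ h12
    rw [← hh] at c1 c2
    rw [hT]
    obtain ⟨u, v, huv⟩ : ∃ u v, f y = (u, v) := ⟨_, _, rfl⟩
    rw [huv] at c1 c2 h0 ⊢
    simp only at c1 c2
    rcases c1 with rfl | rfl <;> rcases c2 with rfl | rfl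
    · exact absurd rfl h0
    · simp
    · simp
    · simp
  have hS : ({f a, f b, f c} : Finset _) ⊆ T := by
    intro w hw
    simp only [Finset.mem_insert, Finset.mem_singleton] at hw
    rcases hw with rfl | rfl | rfl
    · exact key a ha ha1
    · exact key b hb hb1
    · exact key c hc hc1
  have hScard : ({f a, f b, f c} : Finset _).card = 3 := by
    rw [Finset.card_eq_three]
    exact ⟨f a, f b, f c, fun h => hab (hfinj _ _ h), fun h => hac (hfinj _ _ h),
      fun h => hbc (hfinj _ _ h), rfl⟩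
  have hTcard : T.card ≤ 3 := by
    rw [hT]
    exact Finset.card_le_three
  have hST : ({f a, f b, f c} : Finset _) = T :=
    Finset.eq_of_subset_of_card_le hS (by rw [hScard]; exact hTcard)
  have hxT := key x hx hx1
  rw [← hST] at hxT
  simp only [Finset.mem_insert, Finset.mem_singleton] at hxT
  rcases hxT with h | h | h
  · exact Or.inl (hfinj _ _ h)
  · exact Or.inr (Or.inl (hfinj _ _ h))
  · exact Or.inr (Or.inr (hfinj _ _ h))

/-- conjugation by a normalizing element as an automorphism -/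
def conjAut {G : Type*} [Group G] (P : Subgroup G) (g : G)
    (hg : g ∈ Subgroup.normalizer (P : Set G)) : MulAut ↥P where
  toFun x := ⟨g * x * g⁻¹, (Subgroup.mem_normalizer_iff.mp hg x).mp x.2⟩
  invFun x := ⟨g⁻¹ * x * g, by
    have := (Subgroup.mem_normalizer_iff.mp (inv_mem hg) x).mp x.2
    simpa using this⟩
  left_inv x := by apply Subtype.ext; simp [mul_assoc]
  right_inv x := by apply Subtype.ext; simp [mul_assoc]
  map_mul' x y := by apply Subtype.ext; simp [mul_assoc]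

theorem conjAut_apply {G : Type*} [Group G] (P : Subgroup G) (g : G)
    (hg : g ∈ Subgroup.normalizer (P : Set G)) (x : ↥P) :
    ((conjAut P g hg x : ↥P) : G) = g * x * g⁻¹ := rfl

theorem conjAut_pow {G : Type*} [Group G] (P : Subgroup G) (g : G)
    (hg : g ∈ Subgroup.normalizer (P : Set G)) (k : ℕ) (x : ↥P) :
    (((conjAut P g hg) ^ k) x : G) = g ^ k * x * (g ^ k)⁻¹ := by
  induction k generalizing x with
  | zero => simp
  | succ k ih =>
    rw [pow_succ, MulAut.mul_apply, ih, conjAut_apply, pow_succ]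
    simp [mul_assoc]

/-- Let P be a Sylow 2-subgroup of the finite group G isomorphic to Z/2^m × Z/2^m with m ≥ 1. Then either P has a normal complement in G, or all involutions of G are conjugate. -/
theorem result {G : Type*} [Group G] [Finite G] (P : Sylow 2 G) (m : ℕ) (hm : 1 ≤ m) (e : (P : Subgroup G) ≃* Multiplicative (ZMod (2 ^ m) × ZMod (2 ^ m))) : (∃ N : Subgroup G, N.Normal ∧ Subgroup.IsComplement' N (P : Subgroup G)) ∨ ∀ s t : G, orderOf s = 2 → orderOf t = 2 → IsConj s t := by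
  haveI : Fact (Nat.Prime 2) := ⟨Nat.prime_two⟩
  have hcomm' : ∀ x y : ↥(P : Subgroup G), x * y = y * x := by
    intro x y
    apply e.injective
    rw [map_mul, map_mul, mul_comm]
  haveI : IsMulCommutative ↥(P : Subgroup G) := ⟨⟨hcomm'⟩⟩
  have hcomm : ∀ x ∈ (P : Subgroup G), ∀ y ∈ (P : Subgroup G), x * y = y * x := fun x hx y hy =>
    congrArg Subtype.val (hcomm' ⟨x, hx⟩ ⟨y, hy⟩)
  have hPC : (P : Subgroup G) ≤ Subgroup.centralizer ((P : Subgroup G) : Set G) := by
    intro x hx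
    rw [Subgroup.mem_centralizer_iff]
    intro y hy
    exact hcomm y hy x hx
  by_cases hNC : Subgroup.normalizer ((P : Subgroup G) : Set G) ≤
      Subgroup.centralizer ((P : Subgroup G) : Set G)
  · left
    exact ⟨(MonoidHom.transferSylow P hNC).ker, inferInstance,
      MonoidHom.ker_transferSylow_isComplement' P hNC⟩
  right
  obtain ⟨n, hnN, hnC⟩ := SetLike.not_le_iff_exists.mp hNC
  obtain ⟨a, q, hq, hord⟩ := Nat.exists_eq_two_pow_mul_odd (orderOf_pos n).ne'
  -- the 2-part of n lies in P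
  have hnq : n ^ q ∈ (P : Subgroup G) := by
    have hZ : IsPGroup 2 (Subgroup.zpowers (n ^ q)) := by
      intro z
      refine ⟨a, ?_⟩
      obtain ⟨j, hj⟩ := Subgroup.mem_zpowers_iff.mp z.2
      apply Subtype.ext
      rw [Subgroup.coe_pow, Subgroup.coe_one, ← hj, ← zpow_natCast, ← zpow_mul, mul_comm,
        zpow_mul, zpow_natCast, ← pow_mul, mul_comm, ← hord, pow_orderOf_eq_one, one_zpow]
    have hZN : Subgroup.zpowers (n ^ q) ≤ Subgroup.normalizer ((P : Subgroup G) : Set G) := by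
      rw [Subgroup.zpowers_le]
      exact pow_mem hnN q
    have hsup := IsPGroup.to_sup_of_normal_right' hZ P.2 hZN
    have := P.is_maximal' hsup le_sup_right
    have h1 : Subgroup.zpowers (n ^ q) ≤ (P : Subgroup G) := by
      rw [← this]; exact le_sup_left
    exact h1 (Subgroup.mem_zpowers _)
  obtain ⟨g, hg⟩ : ∃ g : G, g = n ^ (2 ^ a) := ⟨_, rfl⟩
  have hgN : g ∈ Subgroup.normalizer ((P : Subgroup G) : Set G) := hg ▸ pow_mem hnN _
  have hgq : g ^ q = 1 := by
    rw [hg, ← pow_mul, ← hord, pow_orderOf_eq_one]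
  have hgC : g ∉ Subgroup.centralizer ((P : Subgroup G) : Set G) := by
    intro hgC
    apply hnC
    have hcop : Nat.Coprime q (2 ^ a) :=
      Nat.Coprime.pow_right a (Nat.Coprime.symm (Nat.coprime_two_left.mpr hq))
    have hbez := Nat.gcd_eq_gcd_ab q (2 ^ a)
    rw [hcop] at hbez
    have h1 : n = (n ^ q) ^ (Nat.gcdA q (2 ^ a)) * (n ^ (2 ^ a)) ^ (Nat.gcdB q (2 ^ a)) := by
      rw [← zpow_natCast, ← zpow_natCast, ← zpow_mul, ← zpow_mul, ← zpow_add]
      have : ((q : ℕ) : ℤ) * Nat.gcdA q (2 ^ a) + ((2 ^ a : ℕ) : ℤ) * Nat.gcdB q (2 ^ a) = 1 := by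
        rw [← hbez]; simp
      rw [this, zpow_one]
    rw [h1]
    exact Subgroup.mul_mem _ (Subgroup.zpow_mem _ (hPC hnq) _) (Subgroup.zpow_mem _ (hg ▸ hgC) _)
  -- the automorphism
  obtain ⟨φ, hφ⟩ : ∃ φ : MulAut ↥(P : Subgroup G), φ = conjAut (P : Subgroup G) g hgN := ⟨_, rfl⟩
  have hφq : φ ^ q = 1 := by
    ext x
    rw [hφ, conjAut_pow, hgq]
    simp
  have hφne : ¬ ∀ x : ↥(P : Subgroup G), x ^ 2 = 1 → φ x = x := by
    intro hfix
    have h1 := aut_fix_of_fix_omega 2 q (Nat.coprime_two_left.mpr hq) P.2 φ hφq hfix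
    apply hgC
    rw [Subgroup.mem_centralizer_iff]
    intro x hx
    have h2 : φ ⟨x, hx⟩ = ⟨x, hx⟩ := by rw [h1]; rfl
    have h3 := congrArg (fun z : ↥(P : Subgroup G) => (z : G)) h2
    rw [hφ] at h3
    simp only [conjAut_apply] at h3
    calc x * g = (g * x * g⁻¹) * g := by rw [h3]
      _ = g * x := by group
  push Not at hφne
  obtain ⟨x0, hx0, hx0φ⟩ := hφne
  have hx01 : x0 ≠ 1 := by
    rintro rfl
    exact hx0φ (map_one φ)
  -- the three involutions
  have hb2 : (φ x0) ^ 2 = 1 := by rw [← map_pow, hx0, map_one]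
  have hc2 : (φ (φ x0)) ^ 2 = 1 := by rw [← map_pow, hb2, map_one]
  have hb1 : φ x0 ≠ 1 := fun h => hx01 (by rwa [MulEquiv.map_eq_one_iff] at h)
  have hc1 : φ (φ x0) ≠ 1 := fun h => hb1 (by rwa [MulEquiv.map_eq_one_iff] at h)
  have hab : x0 ≠ φ x0 := fun h => hx0φ h.symm
  have hbc : φ x0 ≠ φ (φ x0) := fun h => hab (φ.injective h)
  have hac : x0 ≠ φ (φ x0) := by
    intro h
    obtain ⟨k, hk⟩ := hq
    have h2 : ∀ j : ℕ, (φ ^ (2 * j)) x0 = x0 := by
      intro j
      induction j with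
      | zero => simp
      | succ j ih =>
        rw [Nat.mul_succ, pow_add, MulAut.mul_apply, pow_two, MulAut.mul_apply, ← h, ih]
    have h3 : (φ ^ q) x0 = φ x0 := by
      rw [hk, pow_succ, MulAut.mul_apply]
      have h4 : φ x0 = (φ ^ (2 * k)) (φ x0) := by
        have : (φ ^ (2 * k)) (φ x0) = φ ((φ ^ (2 * k)) x0) := by
          rw [← MulAut.mul_apply, ← MulAut.mul_apply, ← pow_succ, ← pow_succ']
        rw [this, h2]
      exact h4.symm
    rw [hφq] at h3
    exact hx0φ h3.symm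
  -- every involution is conjugate to x0
  have hconj : ∀ s : G, orderOf s = 2 → IsConj s (x0 : G) := by
    intro s hs
    have hsZ : IsPGroup 2 (Subgroup.zpowers s) := by
      apply IsPGroup.of_card (n := 1)
      rw [Nat.card_zpowers, hs, pow_one]
    obtain ⟨y, hy⟩ := exists_conj_mem_sylow P (Subgroup.zpowers s) hsZ
    have hs'P := hy s (Subgroup.mem_zpowers s)
    have hs2 : s ^ 2 = 1 := hs ▸ pow_orderOf_eq_one s
    have hs1 : s ≠ 1 := by
      intro h
      rw [h, orderOf_one] at hs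
      omega
    have hs'2 : (⟨y⁻¹ * s * y, hs'P⟩ : ↥(P : Subgroup G)) ^ 2 = 1 := by
      apply Subtype.ext
      have : (y⁻¹ * s * y) ^ 2 = y⁻¹ * s ^ 2 * y := by
        have := conj_pow (a := y⁻¹) (b := s) (i := 2)
        rwa [inv_inv] at this
      rw [Subgroup.coe_pow, Subgroup.coe_mk, this, hs2]
      simp
    have hs'1 : (⟨y⁻¹ * s * y, hs'P⟩ : ↥(P : Subgroup G)) ≠ 1 := by
      intro h
      apply hs1
      have h1 := congrArg (fun z : ↥(P : Subgroup G) => (z : G)) h
      simp only [Subgroup.coe_one] at h1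
      calc s = y * (y⁻¹ * s * y) * y⁻¹ := by group
        _ = 1 := by rw [h1]; group
    have hs_s' : IsConj s (y⁻¹ * s * y) := isConj_iff.mpr ⟨y⁻¹, by simp⟩
    have hcases := involution_cases m hm e x0 (φ x0) (φ (φ x0)) ⟨y⁻¹ * s * y, hs'P⟩ hx0 hb2 hc2 hs'2
      hx01 hb1 hc1 hs'1 hab hbc hac
    have hφx : ∀ z : ↥(P : Subgroup G), IsConj (z : G) ((φ z : ↥(P : Subgroup G)) : G) := by
      intro z
      rw [hφ]
      exact isConj_iff.mpr ⟨g, rfl⟩
    rcases hcases with h | h | h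
    · have h1 := congrArg (fun z : ↥(P : Subgroup G) => (z : G)) h
      simp only at h1
      rw [← h1]; exact hs_s'
    · have h1 := congrArg (fun z : ↥(P : Subgroup G) => (z : G)) h
      simp only at h1
      exact (hs_s'.trans (h1 ▸ IsConj.refl _)).trans (hφx x0).symm
    · have h1 := congrArg (fun z : ↥(P : Subgroup G) => (z : G)) h
      simp only at h1
      exact ((hs_s'.trans (h1 ▸ IsConj.refl _)).trans (hφx (φ x0)).symm).trans (hφx x0).symm
  intro s t hs ht
  exact (hconj s hs).trans (hconj t ht).symm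

end Cfsg.Agent.S0946
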