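import Cfsg.Statements.S0948
import Cfsg.Agent.S0947
import Cfsg.Agent.S0946
import Cfsg.Agent.S0944
import Cfsg.Agent.S0925
import Cfsg.Agent.S0914
import Cfsg.Agent.Lib_helper12_CharOps
import Cfsg.Agent.Lib_helper24_CharValues
import Cfsg.Agent.Lib_helper24_BlockBasic

set_option autoImplicit false
open Cfsg

namespace Cfsg.Agent.S0948

open Cfsg.Agent.helper24 Cfsg.Agent.helper12
open scoped ComplexConjugate

universe u

set_option linter.style.haveILetI false
set_option linter.unusedVariables false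
set_option linter.unusedSectionVars false

section
variable {G : Type u} [Group G]

theorem klein_elems (P : Subgroup G) (hP : IsKleinFour P) :
    ∀ x ∈ P, x ≠ 1 → orderOf x = 2 := by
  intro x hx hx1
  have h1 : (⟨x, hx⟩ : P) ^ 2 = 1 := by
    rw [← hP.exponent_two]
    exact Monoid.pow_exponent_eq_one _
  have h2 : x ^ 2 = 1 := by
    have := congrArg Subtype.val h1
    simpa using this
  have h3 : orderOf x ∣ 2 := orderOf_dvd_of_pow_eq_one h2
  rcases (Nat.dvd_prime Nat.prime_two).mp h3 with h | h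
  · exact absurd (orderOf_eq_one_iff.mp h) hx1
  · exact h

theorem klein_comm (P : Subgroup G) (hP : IsKleinFour P) :
    ∀ x ∈ P, ∀ y ∈ P, x * y = y * x := by
  intro x hx y hy
  have := mul_comm_of_exponent_two hP.exponent_two (⟨x, hx⟩ : P) ⟨y, hy⟩
  exact congrArg Subtype.val this

theorem sum_klein (P : Subgroup G) [Fintype P] (hcard : Nat.card P = 4) (f : G → ℂ) (c : ℂ)
    (hf : ∀ x ∈ P, x ≠ 1 → f x = c) : ∑ x : P, f x = f 1 + 3 * c := by
  classical
  rw [← Finset.add_sum_erase Finset.univ (fun x : P => f x) (Finset.mem_univ (1 : P))]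
  congr 1
  have h1 : ∀ x ∈ (Finset.univ : Finset P).erase 1, f (x : G) = c := by
    intro x hx
    apply hf x x.2
    intro h
    exact (Finset.ne_of_mem_erase hx) (Subtype.ext h)
  rw [Finset.sum_congr rfl h1, Finset.sum_const, Finset.card_erase_of_mem (Finset.mem_univ _),
    Finset.card_univ, Fintype.card_eq_nat_card, hcard]
  simp

theorem finsum_mem_filter {α : Type*} [Fintype α] [DecidableEq α] {β : Type*} [AddCommMonoid β]
    (B : Set α) [DecidablePred (· ∈ B)] (f : α → β) :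
    ∑ᶠ χ ∈ B, f χ = ∑ χ ∈ Finset.univ.filter (fun χ => χ ∈ B), f χ := by
  rw [finsum_mem_eq_finite_toFinset_sum _ (Set.toFinite _)]
  apply Finset.sum_congr
  · ext χ
    simp
  · intro _ _
    rfl

theorem core_index {H : Type u} [Group H] [Finite H] (Q : Sylow 2 H)
    (hQ : Nat.card (Q : Subgroup H) = 4) (N : Subgroup H) (hN : N.Normal)
    (hc : Subgroup.IsComplement' N (Q : Subgroup H)) :
    ∃ k : ℕ, (pPrimeCore 2 H).index = 2 ^ k := by
  haveI : Fact (Nat.Prime 2) := ⟨Nat.prime_two⟩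
  have h1 : (Q : Subgroup H).index = Nat.card N := hc.index_eq_card
  have h2 : N.index = Nat.card (Q : Subgroup H) := hc.symm.index_eq_card
  have hcop : (Nat.card N).Coprime 2 := by
    have := Q.card_coprime_index
    rw [h1, hQ] at this
    have h4 : (4 : ℕ) = 2 ^ 2 := by norm_num
    rw [h4] at this
    exact ((Nat.coprime_pow_left_iff (by norm_num) _ _).mp this).symm
  have hle : N ≤ pPrimeCore 2 H := le_sSup ⟨hN, hcop⟩
  have hdvd : (pPrimeCore 2 H).index ∣ N.index := Subgroup.index_dvd_of_le hle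
  rw [h2, hQ] at hdvd
  have h4 : (4 : ℕ) = 2 ^ 2 := by norm_num
  rw [h4] at hdvd
  obtain ⟨k, -, hk⟩ := (Nat.dvd_prime_pow Nat.prime_two).mp hdvd
  exact ⟨k, hk⟩

theorem centralizer_core [Finite G] (P : Sylow 2 G) (hP : IsKleinFour (P : Subgroup G)) (z : G)
    (hzP : z ∈ (P : Subgroup G)) (hz2 : orderOf z = 2) :
    (P : Subgroup G) ≤ Subgroup.centralizer ({z} : Set G) ∧
      ∃ k : ℕ, (pPrimeCore 2 (Subgroup.centralizer ({z} : Set G))).index = 2 ^ k := by
  classical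
  haveI : Fact (Nat.Prime 2) := ⟨Nat.prime_two⟩
  have hPH : (P : Subgroup G) ≤ Subgroup.centralizer ({z} : Set G) := by
    intro x hx
    rw [Subgroup.mem_centralizer_iff]
    intro h hh
    rw [Set.mem_singleton_iff.mp hh]
    exact klein_comm _ hP z hzP x hx
  refine ⟨hPH, ?_⟩
  have hPcard : Nat.card (P : Subgroup G) = 4 := hP.card_four
  set Q : Sylow 2 (Subgroup.centralizer ({z} : Set G)) := P.subtype hPH with hQdef
  have hQcoe : (Q : Subgroup (Subgroup.centralizer ({z} : Set G))) =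
      (P : Subgroup G).subgroupOf (Subgroup.centralizer ({z} : Set G)) := Sylow.coe_subtype P hPH
  let eQ : (Q : Subgroup (Subgroup.centralizer ({z} : Set G))) ≃* (P : Subgroup G) :=
    (MulEquiv.subgroupCongr hQcoe).trans (Subgroup.subgroupOfEquivOfLe hPH)
  have hQK : IsKleinFour (Q : Subgroup (Subgroup.centralizer ({z} : Set G))) :=
    ⟨by rw [Nat.card_congr eQ.toEquiv]; exact hPcard,
      by rw [Monoid.exponent_eq_of_mulEquiv eQ]; exact hP.exponent_two⟩
  have hQcard : Nat.card (Q : Subgroup (Subgroup.centralizer ({z} : Set G))) = 4 := hQK.card_four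
  haveI : IsAddKleinFour (ZMod (2 ^ 1) × ZMod (2 ^ 1)) := by
    show IsAddKleinFour (ZMod 2 × ZMod 2)
    infer_instance
  haveI := hQK
  obtain ⟨e⟩ : Nonempty ((Q : Subgroup (Subgroup.centralizer ({z} : Set G))) ≃*
      Multiplicative (ZMod (2 ^ 1) × ZMod (2 ^ 1))) := IsKleinFour.nonempty_mulEquiv
  rcases Cfsg.Agent.S0946.result Q 1 le_rfl e with ⟨N, hN, hc⟩ | hall
  · exact core_index Q hQcard N hN hc
  · exfalso
    -- another involution of P
    have hzH : z ∈ Subgroup.centralizer ({z} : Set G) := hPH hzP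
    obtain ⟨a, haP, ha1, haz⟩ : ∃ a ∈ (P : Subgroup G), a ≠ 1 ∧ a ≠ z := by
      haveI : Fintype (P : Subgroup G) := Fintype.ofFinite _
      have hlt : ({1, ⟨z, hzP⟩} : Finset (P : Subgroup G)).card <
          (Finset.univ : Finset (P : Subgroup G)).card := by
        rw [Finset.card_univ, Fintype.card_eq_nat_card, hPcard]
        exact lt_of_le_of_lt (Finset.card_insert_le _ _) (by simp)
      obtain ⟨a, -, ha⟩ := Finset.exists_mem_notMem_of_card_lt_card hlt
      refine ⟨a, a.2, ?_, ?_⟩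
      · intro h
        apply ha
        have : a = 1 := Subtype.ext h
        rw [this]
        simp
      · intro h
        apply ha
        have : a = ⟨z, hzP⟩ := Subtype.ext h
        rw [this]
        simp
    have ha2 : orderOf a = 2 := klein_elems _ hP a haP ha1
    have h1 : orderOf (⟨z, hzH⟩ : Subgroup.centralizer ({z} : Set G)) = 2 := by
      rw [← Subgroup.orderOf_coe]
      exact hz2
    have h2 : orderOf (⟨a, hPH haP⟩ : Subgroup.centralizer ({z} : Set G)) = 2 := by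
      rw [← Subgroup.orderOf_coe]
      exact ha2
    obtain ⟨c, hc⟩ := isConj_iff.mp (hall _ _ h1 h2)
    have hc' : (c : G) * z * (c : G)⁻¹ = a := by
      have := congrArg Subtype.val hc
      simpa using this
    have hcz : z * (c : G) = (c : G) * z :=
      Subgroup.mem_centralizer_iff.mp c.2 z (Set.mem_singleton _)
    apply haz
    rw [← hc', ← hcz, mul_inv_cancel_right]

end

/-- Let the finite group G have a Sylow 2-subgroup P that is a Klein four-group, suppose all involutions of G are conjugate, and fix a maximal ideal M of the algebraic integers containing 2. Then the principal block consists of exactly four irreducible characters, the principal character and ζ₂, ζ₃, ζ₄, and there is a sign ε such that for every involution z: ζ₂ z = 1, ζ₃ z = ε, ζ₄ z = -1; moreover ζ₂ 1 ≡ 1, ζ₃ 1 ≡ ε, ζ₄ 1 ≡ -1 (mod 4), and 1 + ζ₂ y + ε ζ₃ y - ζ₄ y = 0 for every y of odd order. -/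
theorem result {G : Type*} [Group G] [Finite G] (M : Ideal Cfsg.AlgInt) (hM : Cfsg.IsPModular 2 M) (P : Sylow 2 G) (hP : IsKleinFour (P : Subgroup G)) (hone : ∀ s t : G, orderOf s = 2 → orderOf t = 2 → IsConj s t) : ∃ ζ₂ ζ₃ ζ₄ : Cfsg.IrrCharacter G, ∃ ε : ℤ, (ε = 1 ∨ ε = -1) ∧ (ζ₂ : G → ℂ) ≠ (fun _ => 1) ∧ (ζ₃ : G → ℂ) ≠ (fun _ => 1) ∧ ζ₂ ≠ ζ₃ ∧ ζ₂ ≠ ζ₄ ∧ ζ₃ ≠ ζ₄ ∧ Cfsg.principalBlock M G = {χ : Cfsg.IrrCharacter G | (χ : G → ℂ) = (fun _ => 1) ∨ χ = ζ₂ ∨ χ = ζ₃ ∨ χ = ζ₄} ∧ (∀ z : G, orderOf z = 2 → (ζ₂ : G → ℂ) z = 1 ∧ (ζ₃ : G → ℂ) z = (ε : ℂ) ∧ (ζ₄ : G → ℂ) z = -1) ∧ (4 : ℤ) ∣ (Cfsg.charDegree (ζ₂ : G → ℂ) : ℤ) - 1 ∧ (4 : ℤ) ∣ (Cfsg.charDegree (ζ₃ : G → ℂ) : ℤ) - ε ∧ (4 : ℤ) ∣ (Cfsg.charDegree (ζ₄ : G → ℂ) : ℤ) + 1 ∧ ∀ y : G, Odd (orderOf y) → 1 + (ζ₂ : G → ℂ) y + (ε : ℂ) * (ζ₃ : G → ℂ) y - (ζ₄ : G → ℂ) y = 0 := by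
  classical
  haveI := Fintype.ofFinite G
  haveI hMp : M.IsPrime := hM.2.1.isPrime
  haveI : Fact (Nat.Prime 2) := ⟨Nat.prime_two⟩
  haveI : Fintype (IrrCharacter G) := Fintype.ofFinite _
  haveI : Fintype (P : Subgroup G) := Fintype.ofFinite _
  have hPcard : Nat.card (P : Subgroup G) = 4 := hP.card_four
  have hinv : ∀ x ∈ (P : Subgroup G), x ≠ 1 → orderOf x = 2 := klein_elems _ hP
  -- an involution of P
  obtain ⟨z, hzP, hz2⟩ : ∃ z ∈ (P : Subgroup G), orderOf z = 2 := by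
    have hnt : Nontrivial (P : Subgroup G) := by
      rw [← Finite.one_lt_card_iff_nontrivial, hPcard]
      norm_num
    obtain ⟨x, hx⟩ := exists_ne (1 : (P : Subgroup G))
    exact ⟨x, x.2, hinv x x.2 (fun h => hx (Subtype.ext h))⟩
  have hz1 : z ≠ 1 := by
    rintro rfl
    simp at hz2
  have hzinv : z⁻¹ = z := by
    have h : z * z = 1 := by
      have := pow_orderOf_eq_one z
      rwa [hz2, pow_two] at this
    exact (eq_inv_of_mul_eq_one_left h).symm
  have hval : ∀ (ζ : IrrCharacter G) (t : G), orderOf t = 2 →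
      (ζ : G → ℂ) t = (ζ : G → ℂ) z := fun ζ t ht =>
    (isClassFunction_iff_isConj.mp (char_isClassFunction (irr_isCharacter ζ.2)) z t
      (hone z t hz2 ht)).symm
  choose v hv hv2 using fun ζ : IrrCharacter G => Cfsg.Agent.S0944.result ζ z hz2
  -- degrees modulo 4
  have hdiv4 : ∀ ζ : IrrCharacter G,
      (4 : ℤ) ∣ (charDegree (ζ : G → ℂ) : ℤ) + 3 * v ζ := by
    intro ζ
    have h1 : IsCharacter (P : Subgroup G) (fun h : (P : Subgroup G) => (ζ : G → ℂ) (h : G)) :=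
      isCharacter_restrict _ (irr_isCharacter ζ.2)
    have h2 : IsCharacter (P : Subgroup G) (fun _ : (P : Subgroup G) => (1 : ℂ)) :=
      irr_isCharacter isIrrCharacter_one
    obtain ⟨k, hk⟩ := classInner_char_nat h1 h2
    unfold classInner at hk
    rw [hPcard] at hk
    have hsum : ∑ g : (P : Subgroup G), (fun h : (P : Subgroup G) => (ζ : G → ℂ) (h : G)) g *
        conj ((fun _ : (P : Subgroup G) => (1 : ℂ)) g) =
        (ζ : G → ℂ) 1 + 3 * (ζ : G → ℂ) z := by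
      simp only [map_one, mul_one]
      exact sum_klein (P : Subgroup G) hPcard (ζ : G → ℂ) _
        (fun x hx hx1 => hval ζ x (hinv x hx hx1))
    rw [hsum, hv ζ, ← char_charDegree_cast (irr_isCharacter ζ.2)] at hk
    refine ⟨(k : ℤ), ?_⟩
    have : (((charDegree (ζ : G → ℂ) : ℤ) + 3 * v ζ : ℤ) : ℂ) = ((4 * (k : ℤ) : ℤ) : ℂ) := by
      push_cast
      push_cast at hk
      linear_combination 4 * hk
    exact_mod_cast this
  -- the centralizer of z
  obtain ⟨hPH, k₀, hk₀⟩ := centralizer_core P hP z hzP hz2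
  have hsum4 := (Cfsg.Agent.S0947.result 2 M hM z ⟨1, by rw [hz2, pow_one]⟩ hz1
    (1 : Subgroup.centralizer ({z} : Set G)) (by rw [orderOf_one]; norm_num)).2 ⟨k₀, hk₀⟩
  have hG2 : (Nat.card G).factorization 2 = 2 := by
    have := P.card_eq_multiplicity
    rw [hPcard] at this
    have h4 : (2 : ℕ) ^ 2 = 2 ^ (Nat.card G).factorization 2 := by
      rw [← this]
      norm_num
    exact (Nat.pow_right_injective (le_refl 2) h4).symm
  have hν : (Nat.card (Subgroup.centralizer ({z} : Set G))).factorization 2 = 2 := by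
    apply le_antisymm
    · have h := (Nat.factorization_le_iff_dvd Nat.card_pos.ne' Nat.card_pos.ne').mpr
        (Subgroup.card_subgroup_dvd_card (Subgroup.centralizer ({z} : Set G))) 2
      omega
    · have hdvd : 4 ∣ Nat.card (Subgroup.centralizer ({z} : Set G)) := by
        rw [← hPcard]
        exact Subgroup.card_dvd_of_le hPH
      have h1 : (4 : ℕ).factorization 2 ≤
          (Nat.card (Subgroup.centralizer ({z} : Set G))).factorization 2 :=
        (Nat.factorization_le_iff_dvd (by norm_num) Nat.card_pos.ne').mpr hdvd 2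
      have h42 : (4 : ℕ).factorization 2 = 2 := by
        have : (4 : ℕ) = 2 ^ 2 := by norm_num
        rw [this, Nat.factorization_pow, Nat.prime_two.factorization]
        simp
      omega
  set S : Finset (IrrCharacter G) :=
    Finset.univ.filter (fun χ => χ ∈ principalBlock M G) with hS
  have hsumZ : ∑ ζ ∈ S, (v ζ) ^ 2 = 4 := by
    rw [finsum_mem_filter, hν] at hsum4
    have h1 : ∀ ζ ∈ S, ‖(ζ : G → ℂ) (z * ((1 : Subgroup.centralizer ({z} : Set G)) : G))‖ ^ 2 =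
        (((v ζ) ^ 2 : ℤ) : ℝ) := by
      intro ζ _
      rw [Subgroup.coe_one, mul_one, hv ζ, Complex.norm_intCast]
      push_cast
      exact sq_abs _
    rw [Finset.sum_congr rfl h1] at hsum4
    have : ((∑ ζ ∈ S, (v ζ) ^ 2 : ℤ) : ℝ) = ((4 : ℤ) : ℝ) := by
      push_cast
      push_cast at hsum4
      rw [hsum4]
    exact_mod_cast this
  set one : IrrCharacter G := ⟨fun _ => 1, isIrrCharacter_one⟩ with hone'
  have honeS : one ∈ S := by
    rw [hS, Finset.mem_filter]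
    exact ⟨Finset.mem_univ _, sameBlock_refl M hMp.ne_top _⟩
  have hvone : v one = 1 := by
    have h := hv one
    have h1 : (one : G → ℂ) z = 1 := rfl
    rw [h1] at h
    exact_mod_cast h.symm
  have hvne : ∀ ζ ∈ S, v ζ ≠ 0 := by
    intro ζ hζ h0
    have h4 := hdiv4 ζ
    rw [h0, mul_zero, add_zero] at h4
    have h4' : 4 ∣ charDegree (ζ : G → ℂ) := by exact_mod_cast h4
    have hdz : ¬ 2 ∣ Nat.card G / charDegree (ζ : G → ℂ) := by
      intro h2
      obtain ⟨q, hq⟩ := irr_degree_dvd_card ζ.2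
      have hdpos : 0 < charDegree (ζ : G → ℂ) := irr_charDegree_pos ζ.2
      rw [hq, Nat.mul_div_cancel_left _ hdpos] at h2
      obtain ⟨d', hd'⟩ := h4'
      obtain ⟨q', hq'⟩ := h2
      have h8 : 2 ^ 3 ∣ Nat.card G := ⟨d' * q', by rw [hq, hd', hq']; ring⟩
      have := (Nat.Prime.pow_dvd_iff_le_factorization Nat.prime_two Nat.card_pos.ne').mp h8
      omega
    have hsing := (Cfsg.Agent.S0914.result 2 M hM ζ).mp hdz
    have hmem : one ∈ blockOf M (ζ : G → ℂ) := by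
      rw [hS, Finset.mem_filter] at hζ
      exact sameBlock_symm hζ.2
    rw [hsing, Set.mem_singleton_iff] at hmem
    rw [← hmem, hvone] at h0
    exact one_ne_zero h0
  have hvsq : ∀ ζ ∈ S, (v ζ) ^ 2 = 1 := by
    intro ζ hζ
    by_contra hne
    have hge : 4 ≤ (v ζ) ^ 2 := by
      have h0 := hvne ζ hζ
      have : v ζ ≤ -2 ∨ v ζ = -1 ∨ v ζ = 1 ∨ 2 ≤ v ζ := by omega
      rcases this with h | h | h | h
      · nlinarith
      · exfalso; apply hne; rw [h]; norm_num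
      · exfalso; apply hne; rw [h]; norm_num
      · nlinarith
    have hζ1 : ζ ≠ one := by
      rintro rfl
      apply hne
      rw [hvone]
      norm_num
    have hle : (v one) ^ 2 + (v ζ) ^ 2 ≤ ∑ χ ∈ S, (v χ) ^ 2 := by
      have hsub : ({one, ζ} : Finset (IrrCharacter G)) ⊆ S := by
        intro x hx
        rw [Finset.mem_insert, Finset.mem_singleton] at hx
        rcases hx with rfl | rfl
        · exact honeS
        · exact hζ
      calc (v one) ^ 2 + (v ζ) ^ 2 = ∑ χ ∈ ({one, ζ} : Finset (IrrCharacter G)), (v χ) ^ 2 := by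
            rw [Finset.sum_pair hζ1.symm]
        _ ≤ _ := Finset.sum_le_sum_of_subset_of_nonneg hsub (fun _ _ _ => sq_nonneg _)
    rw [hsumZ, hvone] at hle
    linarith
  have hvpm : ∀ ζ ∈ S, v ζ = 1 ∨ v ζ = -1 := by
    intro ζ hζ
    have h := hvsq ζ hζ
    have h' : (v ζ - 1) * (v ζ + 1) = 0 := by nlinarith
    rcases mul_eq_zero.mp h' with h1 | h1
    · left; omega
    · right; omega
  have hcardS : S.card = 4 := by
    have h : ∑ ζ ∈ S, (v ζ) ^ 2 = ∑ ζ ∈ S, (1 : ℤ) := Finset.sum_congr rfl hvsq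
    rw [hsumZ, Finset.sum_const, nsmul_eq_mul, mul_one] at h
    exact_mod_cast h.symm
  have hcard3 : (S.erase one).card = 3 := by
    rw [Finset.card_erase_of_mem honeS, hcardS]
  obtain ⟨a, b, c, hab, hac, hbc, habc⟩ := Finset.card_eq_three.mp hcard3
  -- orthogonality
  have horth : ∀ y : G, Odd (orderOf y) → ∑ χ ∈ S, (χ : G → ℂ) y * (v χ : ℂ) = 0 := by
    intro y hy
    have h := (Cfsg.Agent.S0925.result 2 M hM).2 y z 1 z
      ⟨y, one_mul y, Commute.one_left y, ⟨0, by rw [orderOf_one, pow_zero]⟩,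
        fun h2 => (Nat.not_even_iff_odd.mpr hy) (even_iff_two_dvd.mpr h2)⟩
      ⟨1, mul_one z, Commute.one_right z, ⟨1, by rw [hz2, pow_one]⟩,
        by rw [orderOf_one]; norm_num⟩
      (fun hc => hz1 (isConj_one_right.mp hc)) (principalBlock M G) ⟨one, rfl⟩
    rw [finsum_mem_filter] at h
    rw [← h]
    apply Finset.sum_congr rfl
    intro χ _
    rw [hzinv, hv χ]
  have hsumS : ∀ (f : IrrCharacter G → ℂ) (ζ₂ ζ₃ ζ₄ : IrrCharacter G),
      S.erase one = {ζ₂, ζ₃, ζ₄} → ζ₂ ≠ ζ₃ → ζ₂ ≠ ζ₄ → ζ₃ ≠ ζ₄ →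
      ∑ χ ∈ S, f χ = f one + (f ζ₂ + (f ζ₃ + f ζ₄)) := by
    intro f ζ₂ ζ₃ ζ₄ he h23 h24 h34
    rw [← Finset.insert_erase honeS, Finset.sum_insert (Finset.notMem_erase one S), he,
      Finset.sum_insert (by simp [h23, h24]), Finset.sum_pair h34]
  have key : ∀ ζ₂ ζ₃ ζ₄ : IrrCharacter G, S.erase one = {ζ₂, ζ₃, ζ₄} → ζ₂ ≠ ζ₃ → ζ₂ ≠ ζ₄ →
      ζ₃ ≠ ζ₄ → v ζ₂ = 1 → v ζ₄ = -1 →
      ∃ ζ₂ ζ₃ ζ₄ : Cfsg.IrrCharacter G, ∃ ε : ℤ, (ε = 1 ∨ ε = -1) ∧ (ζ₂ : G → ℂ) ≠ (fun _ => 1) ∧ (ζ₃ : G → ℂ) ≠ (fun _ => 1) ∧ ζ₂ ≠ ζ₃ ∧ ζ₂ ≠ ζ₄ ∧ ζ₃ ≠ ζ₄ ∧ Cfsg.principalBlock M G = {χ : Cfsg.IrrCharacter G | (χ : G → ℂ) = (fun _ => 1) ∨ χ = ζ₂ ∨ χ = ζ₃ ∨ χ = ζ₄} ∧ (∀ z : G, orderOf z = 2 → (ζ₂ : G → ℂ) z = 1 ∧ (ζ₃ : G → ℂ) z = (ε : ℂ) ∧ (ζ₄ : G → ℂ) z = -1) ∧ (4 : ℤ) ∣ (Cfsg.charDegree (ζ₂ : G → ℂ) : ℤ) - 1 ∧ (4 : ℤ) ∣ (Cfsg.charDegree (ζ₃ : G → ℂ) : ℤ) - ε ∧ (4 : ℤ) ∣ (Cfsg.charDegree (ζ₄ : G → ℂ) : ℤ) + 1 ∧ ∀ y : G, Odd (orderOf y) → 1 + (ζ₂ : G → ℂ)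 y + (ε : ℂ) * (ζ₃ : G → ℂ) y - (ζ₄ : G → ℂ) y = 0 := by
    intro ζ₂ ζ₃ ζ₄ he h23 h24 h34 hv2' hv4'
    have hmem : ∀ χ, χ ∈ S.erase one ↔ χ = ζ₂ ∨ χ = ζ₃ ∨ χ = ζ₄ := by
      intro χ
      rw [he]
      simp
    have h2S : ζ₂ ∈ S.erase one := (hmem ζ₂).mpr (Or.inl rfl)
    have h3S : ζ₃ ∈ S.erase one := (hmem ζ₃).mpr (Or.inr (Or.inl rfl))
    have h4S : ζ₄ ∈ S.erase one := (hmem ζ₄).mpr (Or.inr (Or.inr rfl))
    have hne1 : ∀ χ ∈ S.erase one, (χ : G → ℂ) ≠ (fun _ => 1) := by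
      intro χ hχ h
      exact (Finset.ne_of_mem_erase hχ) (Subtype.ext h)
    refine ⟨ζ₂, ζ₃, ζ₄, v ζ₃, hvpm ζ₃ (Finset.mem_of_mem_erase h3S), hne1 ζ₂ h2S, hne1 ζ₃ h3S,
      h23, h24, h34, ?_, ?_, ?_, ?_, ?_, ?_⟩
    · ext χ
      simp only [Set.mem_setOf_eq]
      have hχS : χ ∈ principalBlock M G ↔ χ ∈ S := by
        rw [hS, Finset.mem_filter]
        simp
      rw [hχS]
      constructor
      · intro h
        by_cases h1 : χ = one
        · left
          rw [h1]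
        · right
          exact (hmem χ).mp (Finset.mem_erase.mpr ⟨h1, h⟩)
      · rintro (h | h)
        · have : χ = one := Subtype.ext h
          rw [this]
          exact honeS
        · exact Finset.mem_of_mem_erase ((hmem χ).mpr h)
    · intro t ht
      refine ⟨?_, ?_, ?_⟩
      · rw [hval ζ₂ t ht, hv ζ₂, hv2']
        norm_num
      · rw [hval ζ₃ t ht, hv ζ₃]
      · rw [hval ζ₄ t ht, hv ζ₄, hv4']
        norm_num
    · have h := hdiv4 ζ₂
      rw [hv2'] at h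
      have e : (charDegree (ζ₂ : G → ℂ) : ℤ) - 1 = (charDegree (ζ₂ : G → ℂ) : ℤ) + 3 * 1 - 4 := by
        ring
      rw [e]
      exact dvd_sub h (dvd_refl 4)
    · have h := hdiv4 ζ₃
      have e : (charDegree (ζ₃ : G → ℂ) : ℤ) - v ζ₃ =
          (charDegree (ζ₃ : G → ℂ) : ℤ) + 3 * v ζ₃ - 4 * v ζ₃ := by ring
      rw [e]
      exact dvd_sub h (dvd_mul_right 4 _)
    · have h := hdiv4 ζ₄
      rw [hv4'] at h
      have e : (charDegree (ζ₄ : G → ℂ) : ℤ) + 1 =
          (charDegree (ζ₄ : G → ℂ) : ℤ) + 3 * (-1) + 4 := by ring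
      rw [e]
      exact dvd_add h (dvd_refl 4)
    · intro y hy
      have h := horth y hy
      rw [hsumS _ ζ₂ ζ₃ ζ₄ he h23 h24 h34, hvone, hv2', hv4'] at h
      have h1 : (one : G → ℂ) y = 1 := rfl
      rw [h1] at h
      push_cast at h
      linear_combination h
  -- sign analysis
  have hmem3 : ∀ χ, χ ∈ S.erase one ↔ χ = a ∨ χ = b ∨ χ = c := by
    intro χ
    rw [habc]
    simp
  have haS : a ∈ S := Finset.mem_of_mem_erase ((hmem3 a).mpr (Or.inl rfl))
  have hbS : b ∈ S := Finset.mem_of_mem_erase ((hmem3 b).mpr (Or.inr (Or.inl rfl)))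
  have hcS : c ∈ S := Finset.mem_of_mem_erase ((hmem3 c).mpr (Or.inr (Or.inr rfl)))
  have h1 := horth 1 (by rw [orderOf_one]; exact odd_one)
  rw [hsumS _ a b c habc hab hac hbc, hvone] at h1
  have h1Z : (1 : ℤ) + ((charDegree (a : G → ℂ) : ℤ) * v a +
      ((charDegree (b : G → ℂ) : ℤ) * v b + (charDegree (c : G → ℂ) : ℤ) * v c)) = 0 := by
    have h11 : (one : G → ℂ) 1 = 1 := rfl
    rw [h11] at h1
    have : (((1 : ℤ) + ((charDegree (a : G → ℂ) : ℤ) * v a +
        ((charDegree (b : G → ℂ) : ℤ) * v b + (charDegree (c : G → ℂ) : ℤ) * v c)) : ℤ) : ℂ)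
        = 0 := by
      push_cast
      rw [char_charDegree_cast (irr_isCharacter a.2), char_charDegree_cast (irr_isCharacter b.2),
        char_charDegree_cast (irr_isCharacter c.2)]
      push_cast at h1
      linear_combination h1
    exact_mod_cast this
  have hda : 0 < (charDegree (a : G → ℂ) : ℤ) := by exact_mod_cast irr_charDegree_pos a.2
  have hdb : 0 < (charDegree (b : G → ℂ) : ℤ) := by exact_mod_cast irr_charDegree_pos b.2
  have hdc : 0 < (charDegree (c : G → ℂ) : ℤ) := by exact_mod_cast irr_charDegree_pos c.2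
  have hperm1 : S.erase one = {a, c, b} := by
    rw [habc]; ext x; simp; tauto
  have hperm2 : S.erase one = {b, c, a} := by
    rw [habc]; ext x; simp; tauto
  have hperm3 : S.erase one = {c, b, a} := by
    rw [habc]; ext x; simp; tauto
  have hperm4 : S.erase one = {b, a, c} := by
    rw [habc]; ext x; simp; tauto
  rcases hvpm a haS with ha1 | ha1 <;> rcases hvpm b hbS with hb1 | hb1 <;>
    rcases hvpm c hcS with hc1 | hc1
  · exfalso
    rw [ha1, hb1, hc1] at h1Z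
    omega
  · exact key a b c habc hab hac hbc ha1 hc1
  · exact key a c b hperm1 hac hab hbc.symm ha1 hb1
  · exact key a b c habc hab hac hbc ha1 hc1
  · exact key b c a hperm2 hbc hab.symm hac.symm hb1 ha1
  · exact key b c a hperm2 hbc hab.symm hac.symm hb1 ha1
  · exact key c b a hperm3 hbc.symm hac.symm hab.symm hc1 ha1
  · exfalso
    rw [ha1, hb1, hc1] at h1Z
    omega

end Cfsg.Agent.S0948
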