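import Mathlib
import Cfsg.Agent.Lib_helper12_B7b
import Cfsg.Agent.Lib_helper1_PrincPQuot
import Cfsg.Agent.Lib_helper24_CharKer
import Cfsg.Agent.S0948

set_option autoImplicit false

/-!
The principal 2-block of a group with Sylow 2-subgroup `Q₈` (helper12): seven characters.
-/

namespace Cfsg.Agent.helper12

open Cfsg

universe u

section B7c

variable {G : Type u} [Group G] [Finite G] {S : Sylow 2 G} {w z : G}

omit [Finite G] in
theorem b7_mem_zpowers (hq : Q8Data (S : Subgroup G) w z) :
    ∀ n ∈ Subgroup.zpowers z, n = 1 ∨ n = z := by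
  intro n hn
  obtain ⟨i, rfl⟩ := Subgroup.mem_zpowers_iff.mp hn
  rcases Int.even_or_odd' i with ⟨j, hj | hj⟩
  · left
    rw [hj, zpow_mul, zpow_ofNat, hq.z_sq, one_zpow]
  · right
    rw [hj, zpow_add, zpow_mul, zpow_ofNat, hq.z_sq, one_zpow, one_mul, zpow_one]

omit [Finite G] in
theorem b7_zpowers_normal (hq : Q8Data (S : Subgroup G) w z) (hzc : z ∈ Subgroup.center G) :
    (Subgroup.zpowers z).Normal := by
  constructor
  intro n hn g
  rcases b7_mem_zpowers hq n hn with rfl | rfl
  · have : g * 1 * g⁻¹ = 1 := by group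
    rw [this]
    exact Subgroup.one_mem _
  · have : g * n * g⁻¹ = n := by
      rw [Subgroup.mem_center_iff.mp hzc g]
      group
    rw [this]
    exact Subgroup.mem_zpowers n

/-- the quotient by the centre has Klein four Sylow 2-subgroups with all involutions conjugate -/
theorem b7_quot_card (hq : Q8Data (S : Subgroup G) w z) (hF : Q8Fused S)
    (hzc : z ∈ Subgroup.center G) (M : Ideal AlgInt) (hM : IsPModular 2 M)
    [hn : (Subgroup.zpowers z).Normal] :
    Nat.card (principalBlock M (G ⧸ Subgroup.zpowers z)) = 4 := by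
  classical
  haveI : Fact (Nat.Prime 2) := ⟨Nat.prime_two⟩
  obtain ⟨Z, hZ⟩ : ∃ Z : Subgroup G, Z = Subgroup.zpowers z := ⟨_, rfl⟩
  subst hZ
  have hoz := q8_order_z hq
  have hZmem := b7_mem_zpowers hq
  have hcardZ : Nat.card (Subgroup.zpowers z) = 2 := by rw [Nat.card_zpowers, hoz]
  -- the Sylow subgroup
  obtain ⟨P, hP⟩ : ∃ P : Sylow 2 (G ⧸ Subgroup.zpowers z), (P : Subgroup (G ⧸ Subgroup.zpowers z)) =
      (S : Subgroup G).map (QuotientGroup.mk' (Subgroup.zpowers z)) :=
    ⟨S.mapSurjective (QuotientGroup.mk'_surjective _), Sylow.coe_mapSurjective _ S⟩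
  have hcardP : Nat.card (P : Subgroup (G ⧸ Subgroup.zpowers z)) = 4 := by
    have h1 := Sylow.card_eq_multiplicity P
    have h2 := Sylow.card_eq_multiplicity S
    rw [hq.card] at h2
    have h3 : (Nat.card G).factorization 2 = 3 := by
      have : (2 : ℕ) ^ 3 = 2 ^ (Nat.card G).factorization 2 := by rw [← h2]; norm_num
      exact (Nat.pow_right_injective (le_refl 2) this).symm
    have h4 : Nat.card G = Nat.card (G ⧸ Subgroup.zpowers z) * 2 := by
      rw [← hcardZ]
      exact Subgroup.card_eq_card_quotient_mul_card_subgroup _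
    have h5 : Nat.card (G ⧸ Subgroup.zpowers z) ≠ 0 := Nat.card_pos.ne'
    rw [h4, Nat.factorization_mul h5 (by norm_num), Finsupp.add_apply,
      Nat.Prime.factorization_self Nat.prime_two] at h3
    have h6 : (Nat.card (G ⧸ Subgroup.zpowers z)).factorization 2 = 2 := by omega
    rw [h1, h6]
    norm_num
  have hexp : ∀ x : (P : Subgroup (G ⧸ Subgroup.zpowers z)), x ^ 2 = 1 := by
    intro x
    have hx : (x : G ⧸ Subgroup.zpowers z) ∈
        (S : Subgroup G).map (QuotientGroup.mk' (Subgroup.zpowers z)) := by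
      rw [← hP]
      exact x.2
    obtain ⟨s, hs, hsx⟩ := hx
    apply Subtype.ext
    rw [Subgroup.coe_pow, Subgroup.coe_one, ← hsx, ← map_pow]
    apply (QuotientGroup.eq_one_iff _).mpr
    rcases hq.sq s hs with h | h
    · rw [h]
      exact Subgroup.one_mem _
    · rw [h]
      exact Subgroup.mem_zpowers z
  have hK : IsKleinFour (P : Subgroup (G ⧸ Subgroup.zpowers z)) := by
    refine ⟨hcardP, ?_⟩
    have h1 : Monoid.exponent (P : Subgroup (G ⧸ Subgroup.zpowers z)) ∣ 2 :=
      Monoid.exponent_dvd_of_forall_pow_eq_one hexp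
    rcases (Nat.dvd_prime Nat.prime_two).mp h1 with h | h
    · exfalso
      rw [Monoid.exp_eq_one_iff] at h
      have := Nat.card_unique (α := (P : Subgroup (G ⧸ Subgroup.zpowers z)))
      omega
    · exact h
  -- involutions
  have hinv : ∀ s : G ⧸ Subgroup.zpowers z, orderOf s = 2 →
      IsConj s (QuotientGroup.mk w : G ⧸ Subgroup.zpowers z) := by
    intro s hs
    obtain ⟨g, rfl⟩ := QuotientGroup.mk_surjective s
    have h1 : (QuotientGroup.mk g : G ⧸ Subgroup.zpowers z) ^ 2 = 1 := by
      rw [← hs]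
      exact pow_orderOf_eq_one _
    have h2 : g ^ 2 ∈ Subgroup.zpowers z := by
      rw [← QuotientGroup.eq_one_iff, QuotientGroup.mk_pow]
      exact h1
    have h3 : g ∉ Subgroup.zpowers z := by
      intro h
      rw [← QuotientGroup.eq_one_iff] at h
      rw [h, orderOf_one] at hs
      omega
    have h4 : orderOf g = 4 := by
      rcases hZmem _ h2 with h | h
      · exfalso
        have hg1 : g ≠ 1 := fun h' => h3 (by rw [h']; exact Subgroup.one_mem _)
        have hog : orderOf g = 2 := orderOf_eq_prime h hg1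
        obtain ⟨c, hc⟩ := q8_invol_conj hq hog
        have : g = z := by
          have h5 : g = c⁻¹ * (c * g * c⁻¹) * c := by group
          rw [h5, hc, Subgroup.mem_center_iff.mp hzc c⁻¹]
          group
        apply h3
        rw [this]
        exact Subgroup.mem_zpowers z
      · have h5 : ¬ g ^ 2 ^ 1 = 1 := by
          rw [pow_one, h]
          exact hq.z_ne
        have h6 : g ^ 2 ^ (1 + 1) = 1 := by
          have : g ^ 2 ^ (1 + 1) = (g ^ 2) ^ 2 := by rw [← pow_mul]; norm_num
          rw [this, h, hq.z_sq]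
        have := orderOf_eq_prime_pow h5 h6
        rw [this]
        norm_num
    obtain ⟨c, hc⟩ := q8_order_four_conj hq hF h4
    rw [isConj_iff]
    refine ⟨QuotientGroup.mk c, ?_⟩
    rw [← hc]
    rfl
  have hone : ∀ s t : G ⧸ Subgroup.zpowers z, orderOf s = 2 → orderOf t = 2 → IsConj s t :=
    fun s t hs ht => (hinv s hs).trans (hinv t ht).symm
  -- an involution of the quotient
  have hwinv : orderOf (QuotientGroup.mk w : G ⧸ Subgroup.zpowers z) = 2 := by
    apply orderOf_eq_prime
    · rw [← QuotientGroup.mk_pow, hq.w_sq]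
      exact (QuotientGroup.eq_one_iff _).mpr (Subgroup.mem_zpowers z)
    · intro h
      rw [QuotientGroup.eq_one_iff] at h
      rcases hZmem _ h with h' | h'
      · have := q8_order_w hq
        rw [h', orderOf_one] at this
        omega
      · have := q8_order_w hq
        rw [h', hoz] at this
        omega
  obtain ⟨ζ₂, ζ₃, ζ₄, ε, -, h2ne, h3ne, h23, h24, h34, hB, hval, -⟩ :=
    Cfsg.Agent.S0948.result M hM P hK hone
  have h4ne : (ζ₄ : G ⧸ Subgroup.zpowers z → ℂ) ≠ (fun _ => 1) := by
    intro h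
    have h1 := (hval _ hwinv).2.2
    rw [h] at h1
    norm_num at h1
  have hoi : ∀ χ : IrrCharacter (G ⧸ Subgroup.zpowers z),
      (χ : G ⧸ Subgroup.zpowers z → ℂ) = (fun _ => 1) ↔ χ = helper24.oneIrr _ :=
    fun χ => ⟨fun h => Subtype.ext h, fun h => by rw [h]; rfl⟩
  have hset : principalBlock M (G ⧸ Subgroup.zpowers z) =
      ↑({helper24.oneIrr _, ζ₂, ζ₃, ζ₄} : Finset (IrrCharacter (G ⧸ Subgroup.zpowers z))) := by
    rw [hB]
    ext χ
    simp only [Set.mem_setOf_eq, Finset.coe_insert, Finset.coe_singleton, Set.mem_insert_iff,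
      Set.mem_singleton_iff, hoi]
  rw [hset, Nat.card_coe_set_eq, Set.ncard_coe_finset]
  have d2 : helper24.oneIrr (G ⧸ Subgroup.zpowers z) ≠ ζ₂ :=
    fun h => h2ne ((hoi ζ₂).mpr h.symm)
  have d3 : helper24.oneIrr (G ⧸ Subgroup.zpowers z) ≠ ζ₃ :=
    fun h => h3ne ((hoi ζ₃).mpr h.symm)
  have d4 : helper24.oneIrr (G ⧸ Subgroup.zpowers z) ≠ ζ₄ :=
    fun h => h4ne ((hoi ζ₄).mpr h.symm)
  rw [Finset.card_insert_of_notMem (by simp [d2, d3, d4]),
    Finset.card_insert_of_notMem (by simp [h23, h24]),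
    Finset.card_insert_of_notMem (by simp [h34]), Finset.card_singleton]

/-- the characters of the principal block with `z` in the kernel -/
theorem b7_plus_card (hq : Q8Data (S : Subgroup G) w z) (hF : Q8Fused S)
    (hzc : z ∈ Subgroup.center G) (M : Ideal AlgInt) (hM : IsPModular 2 M) :
    Nat.card {χ : IrrCharacter G // χ ∈ principalBlock M G ∧
        (χ : G → ℂ) z = (χ : G → ℂ) 1} = 4 := by
  classical
  haveI : Fact (Nat.Prime 2) := ⟨Nat.prime_two⟩
  haveI hn : (Subgroup.zpowers z).Normal := b7_zpowers_normal hq hzc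
  letI : Fintype G := Fintype.ofFinite G
  letI : Fintype (G ⧸ Subgroup.zpowers z) := Fintype.ofFinite _
  have hoz := q8_order_z hq
  have hZmem := b7_mem_zpowers hq
  have hQ : IsPGroup 2 (Subgroup.zpowers z) := by
    apply IsPGroup.of_card (n := 1)
    rw [Nat.card_zpowers, hoz, pow_one]
  have hsup : Subgroup.zpowers z ⊔ Subgroup.centralizer ((Subgroup.zpowers z : Subgroup G) : Set G)
      = ⊤ := by
    have : Subgroup.centralizer ((Subgroup.zpowers z : Subgroup G) : Set G) = ⊤ := by
      rw [Subgroup.centralizer_eq_top_iff_subset]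
      intro n hn'
      rcases hZmem n hn' with rfl | rfl
      · exact Subgroup.one_mem _
      · exact hzc
    rw [this, sup_top_eq]
  rw [← b7_quot_card hq hF hzc M hM]
  symm
  have hmk : (QuotientGroup.mk z : G ⧸ Subgroup.zpowers z) = QuotientGroup.mk (1 : G) := by
    rw [QuotientGroup.mk_one]
    exact (QuotientGroup.eq_one_iff _).mpr (Subgroup.mem_zpowers z)
  let f : principalBlock M (G ⧸ Subgroup.zpowers z) →
      {χ : IrrCharacter G // χ ∈ principalBlock M G ∧ (χ : G → ℂ) z = (χ : G → ℂ) 1} :=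
    fun ψ => ⟨helper1.inflIrr (Subgroup.zpowers z) ψ.1,
      (helper1.inflIrr_mem_principalBlock_iff_pgroup (Subgroup.zpowers z) 2 M hM hQ hsup ψ.1).mpr
        ψ.2,
      by rw [helper1.inflIrr_apply, helper1.inflIrr_apply, hmk]⟩
  apply Nat.card_congr
  apply Equiv.ofBijective f
  constructor
  · intro ψ₁ ψ₂ h
    apply Subtype.ext
    apply helper1.inflIrr_injective (Subgroup.zpowers z)
    exact congrArg Subtype.val h
  · intro χ
    have hN : ∀ n ∈ Subgroup.zpowers z, (χ.1 : G → ℂ) n = (χ.1 : G → ℂ) 1 := by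
      intro n hn'
      rcases hZmem n hn' with rfl | rfl
      · rfl
      · exact χ.2.2
    obtain ⟨ψ, hψ, hχψ⟩ := helper24.irr_deflation (Subgroup.zpowers z) χ.1.2 hN
    have h1 : helper1.inflIrr (Subgroup.zpowers z) ⟨ψ, hψ⟩ = χ.1 := Subtype.ext hχψ.symm
    have h2 : (⟨ψ, hψ⟩ : IrrCharacter (G ⧸ Subgroup.zpowers z)) ∈
        principalBlock M (G ⧸ Subgroup.zpowers z) := by
      rw [← helper1.inflIrr_mem_principalBlock_iff_pgroup (Subgroup.zpowers z) 2 M hM hQ hsup, h1]
      exact χ.2.1
    exact ⟨⟨⟨ψ, hψ⟩, h2⟩, Subtype.ext h1⟩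

/-- S0951 -/
theorem b7_main {G : Type u} [Group G] [Finite G] (M : Ideal AlgInt) (hM : IsPModular 2 M)
    (S : Sylow 2 G) (e : (S : Subgroup G) ≃* QuaternionGroup 2)
    (hO : ∀ N : Subgroup G, N.Normal → Odd (Nat.card N) → N = ⊥)
    (hG : (S : Subgroup G) ≠ ⊤) : Nat.card (principalBlock M G) = 7 := by
  haveI : Fact (Nat.Prime 2) := ⟨Nat.prime_two⟩
  obtain ⟨w, z, hq⟩ := q8Data_of_equiv (S : Subgroup G) e
  have hF : Q8Fused S := by
    rcases q8_dichotomy hq e with ⟨N, hN, hc⟩ | hF
    · exfalso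
      have h1 : (S : Subgroup G).index = Nat.card N := hc.index_eq_card
      have h2 : ¬ 2 ∣ (S : Subgroup G).index := S.not_dvd_index
      have hodd : Odd (Nat.card N) := by
        rw [← h1, ← Nat.not_even_iff_odd, even_iff_two_dvd]
        exact h2
      have hbot := hO N hN hodd
      have hcard := hc.card_mul
      rw [hbot, Subgroup.card_bot, one_mul] at hcard
      exact hG ((Subgroup.card_eq_iff_eq_top _).mp hcard)
    · exact hF
  have hzc : z ∈ Subgroup.center G := by
    obtain ⟨ψ, hψ, hz, hw⟩ := q8_exists_kernel_char hq hF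
    have hch := helper24.irr_isCharacter hψ
    exact q8_z_central_of_kernel hq hF hO (M := helper24.charKer hch) inferInstance
      ((helper24.mem_charKer hch z).mpr hz) (fun h => hw ((helper24.mem_charKer hch w).mp h))
  have h1 := b7_block_count hq hF hzc M hM
  rw [b7_plus_card hq hF hzc M hM] at h1
  omega

end B7c

end Cfsg.Agent.helper12
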