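import Mathlib
import Cfsg.Agent.Lib_helper24_Char
import Cfsg.Agent.Lib_helper8_Ind

set_option autoImplicit false
set_option linter.unusedSectionVars false
set_option linter.unusedVariables false
set_option linter.style.longLine false

/-!
Counting conjugacy classes with a conjugation-invariant property via centralizer orders, and the
Brauer permutation lemma for a single automorphism (helper1).
-/

namespace Cfsg.Agent.helper1

open Cfsg
open scoped ComplexConjugate

variable {G : Type*} [Group G]

theorem card_centralizer_conj [Finite G] (g h : G) :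
    Nat.card (Subgroup.centralizer ({h * g * h⁻¹} : Set G)) =
      Nat.card (Subgroup.centralizer ({g} : Set G)) := by
  have h1 := Cfsg.Agent.helper24.card_conj_mul_card_centralizer (G := G) g
  have h2 := Cfsg.Agent.helper24.card_conj_mul_card_centralizer (G := G) (h * g * h⁻¹)
  have h3 : Nat.card {x : G // IsConj x (h * g * h⁻¹)} = Nat.card {x : G // IsConj x g} := by
    apply Nat.card_congr
    apply Equiv.subtypeEquivRight
    intro x
    have hc : IsConj g (h * g * h⁻¹) := isConj_iff.mpr ⟨h, rfl⟩
    exact ⟨fun hx => hx.trans hc.symm, fun hx => hx.trans hc⟩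
  rw [h3, ← h1] at h2
  have hpos : 0 < Nat.card {x : G // IsConj x g} :=
    Nat.card_pos_iff.mpr ⟨⟨⟨g, IsConj.refl g⟩⟩, inferInstance⟩
  exact Nat.eq_of_mul_eq_mul_left hpos h2

open scoped Classical in
/-- Summing centralizer orders over the elements with a conjugation-invariant property counts
`|G|` times the number of classes with that property. -/
theorem sum_centralizer_eq_card_mul_classes [Fintype G] (P : G → Prop)
    (hP : ∀ g h : G, P (h * g * h⁻¹) ↔ P g) :
    ∑ g : G, (if P g then (Nat.card (Subgroup.centralizer ({g} : Set G)) : ℂ) else 0)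
      = (Nat.card G : ℂ) *
        (Nat.card {C : ConjClasses G // ∀ g : G, ConjClasses.mk g = C → P g} : ℂ) := by
  classical
  set F : G → ℂ := fun g => if P g then (Nat.card (Subgroup.centralizer ({g} : Set G)) : ℂ) else 0
    with hF
  have hFcf : IsClassFunction G F := by
    intro g h
    simp only [hF]
    rw [card_centralizer_conj g h]
    by_cases hg : P g
    · rw [if_pos hg, if_pos ((hP g h).mpr hg)]
    · rw [if_neg hg, if_neg (fun hh => hg ((hP g h).mp hh))]
  have hPconj : ∀ a b : G, IsConj a b → (P a ↔ P b) := by
    intro a b hab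
    obtain ⟨c, hc⟩ := isConj_iff.mp hab
    rw [← hc, hP]
  have hfib : ∀ C : ConjClasses G, ∑ g ∈ Finset.univ.filter (fun g : G => ConjClasses.mk g = C), F g
      = if (∀ g : G, ConjClasses.mk g = C → P g) then (Nat.card G : ℂ) else 0 := by
    intro C
    obtain ⟨g0, rfl⟩ := ConjClasses.mk_surjective C
    have h1 : ∑ g ∈ Finset.univ.filter (fun g : G => ConjClasses.mk g = ConjClasses.mk g0), F g
        = ∑ g : G, (if IsConj g g0 then F g else 0) := by
      rw [Finset.sum_filter]
      apply Finset.sum_congr rfl
      intro g _
      simp only [ConjClasses.mk_eq_mk_iff_isConj]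
    rw [h1, Cfsg.Agent.helper24.sum_indicator_conj hFcf g0]
    have hiff : (∀ g : G, ConjClasses.mk g = ConjClasses.mk g0 → P g) ↔ P g0 := by
      constructor
      · intro h; exact h g0 rfl
      · intro h g hg
        exact (hPconj g g0 (ConjClasses.mk_eq_mk_iff_isConj.mp hg)).mpr h
    by_cases hg0 : P g0
    · rw [if_pos (hiff.mpr hg0)]
      simp only [hF, if_pos hg0]
      rw [← Cfsg.Agent.helper24.card_conj_mul_card_centralizer (G := G) g0]
      push_cast
      ring
    · rw [if_neg (fun h => hg0 (hiff.mp h))]
      simp only [hF, if_neg hg0, mul_zero]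
  rw [← Finset.sum_fiberwise Finset.univ (ConjClasses.mk : G → ConjClasses G) F]
  rw [Finset.sum_congr rfl (fun C _ => hfib C)]
  rw [← Finset.sum_filter, Finset.sum_const, nsmul_eq_mul, Nat.card_eq_fintype_card
    (α := {C : ConjClasses G // ∀ g : G, ConjClasses.mk g = C → P g}), Fintype.card_subtype]
  ring

end Cfsg.Agent.helper1
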