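import Mathlib
import Cfsg.Prelude
import Cfsg.Agent.Lib_helper1_PrincBlock
import Cfsg.Agent.Lib_helper1_ClassCount

set_option autoImplicit false
set_option linter.unusedVariables false
set_option linter.unusedSectionVars false
set_option linter.style.longLine false
set_option linter.style.haveILetI false

namespace Cfsg.Agent.helper1

open Cfsg
open scoped ComplexConjugate

universe u

section DefectPrinc

variable {G : Type u} [Group G] [Fintype G]

theorem index_centralizer_conj (g h : G) :
    (Subgroup.centralizer ({h * g * h⁻¹} : Set G)).index =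
      (Subgroup.centralizer ({g} : Set G)).index := by
  have h1 := Subgroup.card_mul_index (Subgroup.centralizer ({g} : Set G))
  have h2 := Subgroup.card_mul_index (Subgroup.centralizer ({h * g * h⁻¹} : Set G))
  rw [card_centralizer_conj] at h2
  exact Nat.eq_of_mul_eq_mul_left Nat.card_pos (h2.trans h1.symm)

theorem centralChar_conj {χ : G → ℂ} (hχ : IsClassFunction G χ) (g h : G) :
    centralChar χ (h * g * h⁻¹) = centralChar χ g := by
  unfold centralChar
  rw [index_centralizer_conj, hχ g h]

theorem isDefectClass_conj (M : Ideal AlgInt) (B : Set (IrrCharacter G)) (g h : G)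
    (hd : IsDefectClass M B g) : IsDefectClass M B (h * g * h⁻¹) := by
  obtain ⟨h1, h2, h3⟩ := hd
  have hb : blockCoeff B (h * g * h⁻¹) = blockCoeff B g :=
    helper24.blockCoeff_isClassFunction B g h
  refine ⟨by rw [hb]; exact h1, by rw [hb]; exact h2, ?_⟩
  intro χ hχ
  rw [centralChar_conj (helper24.char_isClassFunction (helper24.irr_isCharacter χ.2))]
  exact h3 χ hχ

/-- a defect class of the principal block has centralizer of index prime to `p` -/
theorem not_dvd_index_of_defectClass_principal (p : ℕ) [Fact p.Prime] (M : Ideal AlgInt)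
    (hM : IsPModular p M) (g : G) (hd : IsDefectClass M (principalBlock M G) g) :
    ¬ p ∣ (Subgroup.centralizer ({g} : Set G)).index := by
  intro hdvd
  have hτ : trivIrr G ∈ principalBlock M G := helper24.sameBlock_refl M hM.2.1.ne_top _
  apply hd.2.2 (trivIrr G) hτ
  have h1 : centralChar ((trivIrr G : IrrCharacter G) : G → ℂ) g =
      ((Subgroup.centralizer ({g} : Set G)).index : ℂ) := by
    unfold centralChar
    simp [trivIrr]
  rw [h1]
  apply helper24.MemIdeal.memLocalIdeal hM.2.1.ne_top
  refine ⟨((Subgroup.centralizer ({g} : Set G)).index : AlgInt), ?_, by push_cast; rfl⟩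
  have := helper23.natCast_mul_mem hM _ hdvd (1 : AlgInt)
  rwa [mul_one] at this

theorem factorization_card_centralizer_of_not_dvd_index (p : ℕ) [Fact p.Prime] (g : G)
    (hnd : ¬ p ∣ (Subgroup.centralizer ({g} : Set G)).index) :
    (Nat.card (Subgroup.centralizer ({g} : Set G))).factorization p =
      (Nat.card G).factorization p := by
  have h1 := Subgroup.card_mul_index (Subgroup.centralizer ({g} : Set G))
  rw [← h1, Nat.factorization_mul Nat.card_pos.ne' (Subgroup.index_ne_zero_of_finite)]
  simp [Nat.factorization_eq_zero_of_not_dvd hnd]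

theorem principal_defect_groups_sylow (p : ℕ) [Fact p.Prime] (M : Ideal AlgInt)
    (hM : IsPModular p M) (D : Subgroup G) :
    IsDefectGroup p M (principalBlock M G) D ↔ ∃ S : Sylow p G, (S : Subgroup G) = D := by
  classical
  constructor
  · rintro ⟨g, hd, P, rfl⟩
    have hnd := not_dvd_index_of_defectClass_principal p M hM g hd
    have hfac := factorization_card_centralizer_of_not_dvd_index p g hnd
    have hcard : Nat.card ((P : Subgroup (Subgroup.centralizer ({g} : Set G))).map
        (Subgroup.centralizer ({g} : Set G)).subtype) = p ^ (Nat.card G).factorization p := by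
      rw [Subgroup.card_map_of_injective (Subgroup.subtype_injective _), ← hfac]
      exact P.card_eq_multiplicity
    exact ⟨Sylow.ofCard _ hcard, rfl⟩
  · rintro ⟨S, rfl⟩
    obtain ⟨g₀, hd₀⟩ := helper24.exists_defectClass p M hM (principalBlock M G)
      (isPBlock_principalBlock M)
    have hnd₀ := not_dvd_index_of_defectClass_principal p M hM g₀ hd₀
    have hfac₀ := factorization_card_centralizer_of_not_dvd_index p g₀ hnd₀
    obtain ⟨P₀⟩ : Nonempty (Sylow p (Subgroup.centralizer ({g₀} : Set G))) := inferInstance
    have hcard₀ : Nat.card ((P₀ : Subgroup (Subgroup.centralizer ({g₀} : Set G))).map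
        (Subgroup.centralizer ({g₀} : Set G)).subtype) = p ^ (Nat.card G).factorization p := by
      rw [Subgroup.card_map_of_injective (Subgroup.subtype_injective _), ← hfac₀]
      exact P₀.card_eq_multiplicity
    set S₀ : Sylow p G := Sylow.ofCard _ hcard₀ with hS₀
    obtain ⟨h, hh⟩ := MulAction.exists_smul_eq G S₀ S
    have hd : IsDefectClass M (principalBlock M G) (h * g₀ * h⁻¹) :=
      isDefectClass_conj M _ g₀ h hd₀
    have hle : (S : Subgroup G) ≤ Subgroup.centralizer ({h * g₀ * h⁻¹} : Set G) := by
      intro x hx
      rw [← hh, Sylow.coe_subgroup_smul, Subgroup.mem_pointwise_smul_iff_inv_smul_mem] at hx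
      rw [hS₀, Sylow.coe_ofCard, Subgroup.mem_map] at hx
      obtain ⟨y, hy, hyx⟩ := hx
      have hyc : (y : G) ∈ Subgroup.centralizer ({g₀} : Set G) := y.2
      rw [Subgroup.mem_centralizer_singleton_iff] at hyc
      rw [Subgroup.mem_centralizer_singleton_iff]
      have hx2 : x = h * (y : G) * h⁻¹ := by
        have : (y : G) = h⁻¹ * x * h := by
          rw [Subgroup.coe_subtype] at hyx
          rw [hyx]
          simp [MulAut.smul_def]
        rw [this]; group
      rw [hx2]
      have : h * ↑y * h⁻¹ * (h * g₀ * h⁻¹) = h * (↑y * g₀) * h⁻¹ := by group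
      rw [this, hyc]
      group
    have hnd := not_dvd_index_of_defectClass_principal p M hM _ hd
    have hfac := factorization_card_centralizer_of_not_dvd_index p _ hnd
    have hcardP : Nat.card ((S : Subgroup G).subgroupOf (Subgroup.centralizer ({h * g₀ * h⁻¹} : Set G))) =
        p ^ (Nat.card (Subgroup.centralizer ({h * g₀ * h⁻¹} : Set G))).factorization p := by
      rw [hfac, ← S.card_eq_multiplicity]
      exact Nat.card_congr (Subgroup.subgroupOfEquivOfLe hle).toEquiv
    refine ⟨h * g₀ * h⁻¹, hd, Sylow.ofCard _ hcardP, ?_⟩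
    rw [Sylow.coe_ofCard, Subgroup.map_subgroupOf_eq_of_le hle]

end DefectPrinc

end Cfsg.Agent.helper1
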