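import Cfsg.Agent.Lib_helper24_PSection
import Cfsg.Agent.Lib_helper24_BlockBasic
import Cfsg.Agent.Lib_helper24_CharCentral
import Cfsg.Agent.Lib_helper24_DefectOrder
import Cfsg.Agent.Lib_helper1_DefectPrinc

set_option autoImplicit false

namespace Cfsg.Agent.helper12

open Cfsg
open scoped ComplexConjugate

universe u

section Blk

variable {G : Type u} [Group G] [Fintype G]

theorem isIntegral_natCast_complex (n : ℕ) : IsIntegral ℤ (n : ℂ) := by
  have : (n : ℂ) = algebraMap ℤ ℂ (n : ℤ) := by simp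
  rw [this]
  exact isIntegral_algebraMap

/-- the inverse of the degree of a character of degree prime to `p` is a local integer -/
theorem inv_degree_memLocalRing {p : ℕ} {M : Ideal AlgInt} (hM : IsPModular p M) (χ : IrrCharacter G)
    (hd : ¬ p ∣ charDegree (χ : G → ℂ)) : MemLocalRing M ((χ : G → ℂ) 1)⁻¹ := by
  have hMp : M.IsPrime := hM.2.1.isPrime
  rw [← helper24.char_charDegree_cast (helper24.irr_isCharacter χ.2)]
  apply helper24.memLocalRing_inv
  · exact helper24.memLocalRing_of_integral hMp.ne_top (isIntegral_natCast_complex _)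
  · exact helper24.natCast_not_memLocalIdeal hM hd

/-- central character of a `p'`-degree character at a class of size divisible by `p` -/
theorem centralChar_memLocalIdeal_of_dvd {p : ℕ} {M : Ideal AlgInt} (hM : IsPModular p M) (χ : IrrCharacter G)
    (hd : ¬ p ∣ charDegree (χ : G → ℂ)) (g : G) (hg : p ∣ (Subgroup.centralizer ({g} : Set G)).index) :
    MemLocalIdeal M (centralChar (χ : G → ℂ) g) := by
  have hMp : M.IsPrime := hM.2.1.isPrime
  obtain ⟨k, hk⟩ := hg
  unfold centralChar
  rw [hk, div_eq_mul_inv]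
  have h1 : MemLocalIdeal M (((k : ℂ) * (χ : G → ℂ) g) * (p : ℂ)) := by
    apply helper24.memLocalIdeal_mul_integral (helper24.prime_memLocalIdeal hM)
    apply IsIntegral.mul
    · exact isIntegral_natCast_complex k
    · exact helper24.char_isIntegral (helper24.irr_isCharacter χ.2) g
  have h2 := helper24.memLocalIdeal_mul_left (inv_degree_memLocalRing hM χ hd) h1
  have e : (((p * k : ℕ) : ℂ)) * (χ : G → ℂ) g * ((χ : G → ℂ) 1)⁻¹ =
      ((χ : G → ℂ) 1)⁻¹ * (((k : ℂ) * (χ : G → ℂ) g) * (p : ℂ)) := by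
    push_cast; ring
  rw [e]
  exact h2

/-- central character at `u * ε`, `u` a `p`-element and `ε` central -/
theorem centralChar_sub_memLocalIdeal_of_ppart {p : ℕ} {M : Ideal AlgInt} (hM : IsPModular p M) (χ : IrrCharacter G)
    (hd : ¬ p ∣ charDegree (χ : G → ℂ)) (u ε : G) (hε : ε ∈ Subgroup.center G) {j : ℕ} (hu : u ^ (p ^ j) = 1) :
    MemLocalIdeal M (centralChar (χ : G → ℂ) (u * ε) -
      ((Subgroup.centralizer ({u * ε} : Set G)).index : ℂ) * ((χ : G → ℂ) ε / (χ : G → ℂ) 1)) := by
  have hMp : M.IsPrime := hM.2.1.isPrime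
  have hcomm : Commute u ε := Subgroup.mem_center_iff.mp hε u
  have h1 := helper24.char_congr_pregular_part hM (helper24.irr_isCharacter χ.2) u ε hcomm hu
  have h2 : MemLocalIdeal M ((χ : G → ℂ) (u * ε) - (χ : G → ℂ) ε) := h1.memLocalIdeal hMp.ne_top
  have h3 : MemLocalRing M (((Subgroup.centralizer ({u * ε} : Set G)).index : ℂ) * ((χ : G → ℂ) 1)⁻¹) := by
    apply helper24.memLocalRing_mul
    · exact helper24.memLocalRing_of_integral hMp.ne_top (isIntegral_natCast_complex _)
    · exact inv_degree_memLocalRing hM χ hd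
  have h4 := helper24.memLocalIdeal_mul_left h3 h2
  have e : centralChar (χ : G → ℂ) (u * ε) -
      ((Subgroup.centralizer ({u * ε} : Set G)).index : ℂ) * ((χ : G → ℂ) ε / (χ : G → ℂ) 1) =
      ((Subgroup.centralizer ({u * ε} : Set G)).index : ℂ) * ((χ : G → ℂ) 1)⁻¹ *
        ((χ : G → ℂ) (u * ε) - (χ : G → ℂ) ε) := by
    unfold centralChar
    rw [div_eq_mul_inv, div_eq_mul_inv]
    ring
  rw [e]
  exact h4

/-- a defect class of a block containing a character of `p'`-degree has size prime to `p` -/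
theorem not_dvd_index_of_defectClass {p : ℕ} [Fact p.Prime] {M : Ideal AlgInt} (hM : IsPModular p M)
    (B : Set (IrrCharacter G)) (χ : IrrCharacter G) (hχ : χ ∈ B) (hd : ¬ p ∣ charDegree (χ : G → ℂ))
    (g : G) (hg : IsDefectClass M B g) : ¬ p ∣ (Subgroup.centralizer ({g} : Set G)).index := by
  intro hdvd
  exact hg.2.2 χ hχ (centralChar_memLocalIdeal_of_dvd hM χ hd g hdvd)

/-- every Sylow `p`-subgroup is a defect group of a block containing a character of `p'`-degree -/
theorem isDefectGroup_sylow_of_pprime (p : ℕ) [Fact p.Prime] (M : Ideal AlgInt) (hM : IsPModular p M)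
    (B : Set (IrrCharacter G)) (hB : IsPBlock M B) (χ : IrrCharacter G) (hχ : χ ∈ B)
    (hd : ¬ p ∣ charDegree (χ : G → ℂ)) (S : Sylow p G) :
    IsDefectGroup p M B (S : Subgroup G) := by
  classical
  obtain ⟨g₀, hd₀⟩ := helper24.exists_defectClass p M hM B hB
  have hnd₀ := not_dvd_index_of_defectClass hM B χ hχ hd g₀ hd₀
  have hfac₀ := helper1.factorization_card_centralizer_of_not_dvd_index p g₀ hnd₀
  obtain ⟨P₀⟩ : Nonempty (Sylow p (Subgroup.centralizer ({g₀} : Set G))) := inferInstance
  have hcard₀ : Nat.card ((P₀ : Subgroup (Subgroup.centralizer ({g₀} : Set G))).map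
      (Subgroup.centralizer ({g₀} : Set G)).subtype) = p ^ (Nat.card G).factorization p := by
    rw [Subgroup.card_map_of_injective (Subgroup.subtype_injective _), ← hfac₀]
    exact P₀.card_eq_multiplicity
  obtain ⟨S₀, hS₀⟩ : ∃ S₀ : Sylow p G, (S₀ : Subgroup G) = (P₀ : Subgroup (Subgroup.centralizer ({g₀} : Set G))).map
      (Subgroup.centralizer ({g₀} : Set G)).subtype := ⟨Sylow.ofCard _ hcard₀, Sylow.coe_ofCard _ hcard₀⟩
  obtain ⟨h, hh⟩ := MulAction.exists_smul_eq G S₀ S
  have hdc : IsDefectClass M B (h * g₀ * h⁻¹) := helper1.isDefectClass_conj M _ g₀ h hd₀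
  have hle : (S : Subgroup G) ≤ Subgroup.centralizer ({h * g₀ * h⁻¹} : Set G) := by
    intro x hx
    rw [← hh, Sylow.coe_subgroup_smul, Subgroup.mem_pointwise_smul_iff_inv_smul_mem] at hx
    rw [hS₀, Subgroup.mem_map] at hx
    obtain ⟨y, hy, hyx⟩ := hx
    have hyc : (y : G) ∈ Subgroup.centralizer ({g₀} : Set G) := y.2
    rw [Subgroup.mem_centralizer_singleton_iff] at hyc
    rw [Subgroup.mem_centralizer_singleton_iff]
    have hx2 : x = h * (y : G) * h⁻¹ := by
      have : (y : G) = h⁻¹ * x * h := by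
        rw [Subgroup.coe_subtype] at hyx
        rw [hyx]
        simp [MulAut.smul_def]
      rw [this]; group
    rw [hx2]
    have : h * ↑y * h⁻¹ * (h * g₀ * h⁻¹) = h * (↑y * g₀) * h⁻¹ := by group
    rw [this, hyc]
    group
  have hnd := not_dvd_index_of_defectClass hM B χ hχ hd _ hdc
  have hfac := helper1.factorization_card_centralizer_of_not_dvd_index p _ hnd
  have hcardP : Nat.card ((S : Subgroup G).subgroupOf (Subgroup.centralizer ({h * g₀ * h⁻¹} : Set G))) =
      p ^ (Nat.card (Subgroup.centralizer ({h * g₀ * h⁻¹} : Set G))).factorization p := by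
    rw [hfac, ← S.card_eq_multiplicity]
    exact Nat.card_congr (Subgroup.subgroupOfEquivOfLe hle).toEquiv
  refine ⟨h * g₀ * h⁻¹, hdc, Sylow.ofCard _ hcardP, ?_⟩
  rw [Sylow.coe_ofCard, Subgroup.map_subgroupOf_eq_of_le hle]

end Blk

end Cfsg.Agent.helper12
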