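import Cfsg.Agent.Lib_helper12_Cusp02

set_option autoImplicit false

namespace Cfsg.Agent.helper12

open Matrix Cfsg
open scoped ComplexConjugate

variable {F : Type*} [Field F]

theorem isCharacter_mul' {G : Type*} [Group G] {χ ψ : G → ℂ} (hχ : IsCharacter G χ)
    (hψ : IsCharacter G ψ) : IsCharacter G (χ * ψ) := by
  obtain ⟨n, ρ, rfl⟩ := hχ
  obtain ⟨m, σ, rfl⟩ := hψ
  have h := isCharacter_of_rep (Representation.tprod ρ σ)
  rw [Representation.char_tensor] at h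
  exact h

theorem units_sq_eq_one_iff (a : Fˣ) : (a : F) ^ 2 = 1 ↔ ((a⁻¹ : Fˣ) : F) = (a : F) := by
  constructor
  · intro h
    rw [Units.val_inv_eq_inv_val]
    apply inv_eq_of_mul_eq_one_left
    rw [← h]; ring
  · intro h
    have : (a : F) * ((a⁻¹ : Fˣ) : F) = 1 := by rw [← Units.val_mul, mul_inv_cancel, Units.val_one]
    rw [h] at this
    rw [← this]; ring

theorem sl2R_sl2UT_split [Fintype F] [DecidableEq F] (α : MulChar F ℂ) (a : Fˣ) (ha : (a : F) ^ 2 ≠ 1) (x : F) :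
    sl2R α (sl2UT a x) = α (a : F) + α ((a⁻¹ : Fˣ) : F) := by
  unfold sl2R
  rw [sl2_indBorel_sl2UT]
  congr 1
  have hne := units_inv_sub_ne_zero a ha
  rw [Finset.sum_eq_single (x / (((a⁻¹ : Fˣ) : F) - (a : F)))]
  · rw [if_pos]
    field_simp
  · intro t _ ht
    rw [if_neg]
    intro h
    apply ht
    rw [h]
    field_simp
  · intro h; exact absurd (Finset.mem_univ _) h

theorem sl2R_sl2UT_central [Fintype F] [DecidableEq F] (α : MulChar F ℂ) (a : Fˣ) (ha : (a : F) ^ 2 = 1) :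
    sl2R α (sl2UT a 0) = ((Fintype.card F : ℂ) + 1) * α (a : F) := by
  unfold sl2R
  rw [sl2_indBorel_sl2UT]
  have h := (units_sq_eq_one_iff a).mp ha
  simp only [h, sub_self, zero_mul, if_true, Finset.sum_const, Finset.card_univ, nsmul_eq_mul]
  ring

theorem sl2R_sl2UT_unip [Fintype F] [DecidableEq F] (α : MulChar F ℂ) (a : Fˣ) (ha : (a : F) ^ 2 = 1) (x : F) (hx : x ≠ 0) :
    sl2R α (sl2UT a x) = α (a : F) := by
  unfold sl2R
  rw [sl2_indBorel_sl2UT]
  have h := (units_sq_eq_one_iff a).mp ha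
  simp only [h, sub_self, zero_mul, hx, if_false, Finset.sum_const_zero, add_zero]

theorem sl2St_sl2UT_split [Fintype F] [DecidableEq F] (a : Fˣ) (ha : (a : F) ^ 2 ≠ 1) (x : F) :
    sl2St (sl2UT a x) = 1 := by
  unfold sl2St
  rw [Pi.sub_apply, sl2R_sl2UT_split 1 a ha x, MulChar.one_apply_coe, MulChar.one_apply_coe]
  norm_num

theorem sl2St_sl2UT_central [Fintype F] [DecidableEq F] (a : Fˣ) (ha : (a : F) ^ 2 = 1) :
    sl2St (sl2UT a 0) = (Fintype.card F : ℂ) := by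
  unfold sl2St
  rw [Pi.sub_apply, sl2R_sl2UT_central 1 a ha, MulChar.one_apply_coe]
  ring

theorem sl2St_sl2UT_unip [Fintype F] [DecidableEq F] (a : Fˣ) (ha : (a : F) ^ 2 = 1) (x : F) (hx : x ≠ 0) :
    sl2St (sl2UT a x) = 0 := by
  unfold sl2St
  rw [Pi.sub_apply, sl2R_sl2UT_unip 1 a ha x hx, MulChar.one_apply_coe]
  ring

theorem sl2St_noEigen [Fintype F] [DecidableEq F] (g : Matrix.SpecialLinearGroup (Fin 2) F)
    (hg : NoEigen2 (g : Matrix (Fin 2) (Fin 2) F)) : sl2St g = -1 := by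
  unfold sl2St
  rw [Pi.sub_apply, sl2R_noEigenvector 1 g hg]
  ring

end Cfsg.Agent.helper12
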