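import Mathlib

set_option autoImplicit false

namespace Cfsg.Agent.helper12

open Matrix

variable {F : Type*} [Field F]

/-- scalar 2x2 matrix -/
def IsScalar2 (M : Matrix (Fin 2) (Fin 2) F) : Prop := M 0 1 = 0 ∧ M 1 0 = 0 ∧ M 0 0 = M 1 1

/-- companion matrix of X^2 - t X + d -/
def comp2 (t d : F) : Matrix (Fin 2) (Fin 2) F := !![0, -d; 1, t]

/-- matrix with columns v, M v -/
def cyc (M : Matrix (Fin 2) (Fin 2) F) (v : Fin 2 → F) : Matrix (Fin 2) (Fin 2) F :=
  !![v 0, M 0 0 * v 0 + M 0 1 * v 1; v 1, M 1 0 * v 0 + M 1 1 * v 1]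

theorem mul_cyc (M : Matrix (Fin 2) (Fin 2) F) (v : Fin 2 → F) :
    M * cyc M v = cyc M v * comp2 M.trace M.det := by
  ext i j
  fin_cases i <;> fin_cases j <;>
    simp [cyc, comp2, Matrix.mul_apply, Fin.sum_univ_two, Matrix.trace_fin_two, Matrix.det_fin_two] <;> ring

theorem det_cyc (M : Matrix (Fin 2) (Fin 2) F) (v : Fin 2 → F) :
    (cyc M v).det = M 1 0 * v 0 ^ 2 + (M 1 1 - M 0 0) * v 0 * v 1 - M 0 1 * v 1 ^ 2 := by
  simp [cyc, Matrix.det_fin_two]; ring

theorem exists_cyc_det_ne_zero {M : Matrix (Fin 2) (Fin 2) F} (h : ¬ IsScalar2 M) :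
    ∃ v : Fin 2 → F, (cyc M v).det ≠ 0 := by
  by_contra hcon
  push Not at hcon
  apply h
  have h1 := hcon ![1, 0]
  have h2 := hcon ![0, 1]
  have h3 := hcon ![1, 1]
  rw [det_cyc] at h1 h2 h3
  simp at h1 h2 h3
  refine ⟨h2, h1, ?_⟩
  rw [h1, h2] at h3
  simp at h3
  exact (sub_eq_zero.mp h3).symm

theorem det_comp2 (t d : F) : (comp2 t d).det = d := by
  simp [comp2, Matrix.det_fin_two]

theorem trace_comp2 (t d : F) : (comp2 t d).trace = t := by
  simp [comp2, Matrix.trace_fin_two]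

theorem not_isScalar2_comp2 (t d : F) : ¬ IsScalar2 (comp2 t d) := by
  intro h
  have := h.2.1
  simp [comp2] at this

/-- Conjugation in a monoid through a common "normal form". -/
theorem conj_of_common {M : Type*} [Monoid M] (p p' : Mˣ) (g h c : M)
    (hg : g * p = p * c) (hh : h * p' = p' * c) :
    h * ((p' * p⁻¹ : Mˣ) : M) = ((p' * p⁻¹ : Mˣ) : M) * g := by
  have h1 : ((p⁻¹ : Mˣ) : M) * g = c * ((p⁻¹ : Mˣ) : M) := by
    have : ((p⁻¹ : Mˣ) : M) * (g * p) * ((p⁻¹ : Mˣ) : M) = ((p⁻¹ : Mˣ) : M) * (p * c) * ((p⁻¹ : Mˣ) : M) := by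
      rw [hg]
    simpa [mul_assoc] using this
  calc h * ((p' * p⁻¹ : Mˣ) : M) = (h * p') * ((p⁻¹ : Mˣ) : M) := by simp [mul_assoc]
    _ = p' * (c * ((p⁻¹ : Mˣ) : M)) := by rw [hh, mul_assoc]
    _ = ((p' * p⁻¹ : Mˣ) : M) * g := by rw [← h1]; simp [mul_assoc]

theorem gl2_isConj_of_trace_det {g h : Matrix.GeneralLinearGroup (Fin 2) F}
    (hg : ¬ IsScalar2 (g : Matrix (Fin 2) (Fin 2) F)) (hh : ¬ IsScalar2 (h : Matrix (Fin 2) (Fin 2) F))
    (ht : (g : Matrix (Fin 2) (Fin 2) F).trace = (h : Matrix (Fin 2) (Fin 2) F).trace)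
    (hd : (g : Matrix (Fin 2) (Fin 2) F).det = (h : Matrix (Fin 2) (Fin 2) F).det) : IsConj g h := by
  obtain ⟨v, hv⟩ := exists_cyc_det_ne_zero hg
  obtain ⟨w, hw⟩ := exists_cyc_det_ne_zero hh
  let p := Matrix.GeneralLinearGroup.mkOfDetNeZero _ hv
  let p' := Matrix.GeneralLinearGroup.mkOfDetNeZero _ hw
  have e1 : (g : Matrix (Fin 2) (Fin 2) F) * p = p * comp2 (g : Matrix (Fin 2) (Fin 2) F).trace (g : Matrix (Fin 2) (Fin 2) F).det := mul_cyc _ v
  have e2 : (h : Matrix (Fin 2) (Fin 2) F) * p' = p' * comp2 (g : Matrix (Fin 2) (Fin 2) F).trace (g : Matrix (Fin 2) (Fin 2) F).det := by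
    rw [ht, hd]; exact mul_cyc _ w
  have key := conj_of_common p p' _ _ _ e1 e2
  rw [isConj_iff]
  refine ⟨p' * p⁻¹, ?_⟩
  rw [mul_inv_eq_iff_eq_mul]
  apply Units.ext
  simp only [Units.val_mul]
  exact key.symm

theorem isScalar2_iff (M : Matrix (Fin 2) (Fin 2) F) : IsScalar2 M ↔ M = (M 0 0) • (1 : Matrix (Fin 2) (Fin 2) F) := by
  constructor
  · rintro ⟨h1, h2, h3⟩
    ext i j
    fin_cases i <;> fin_cases j <;> simp [h1, h2, h3]
  · intro h
    refine ⟨?_, ?_, ?_⟩
    · rw [h]; simp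
    · rw [h]; simp
    · have := congrFun (congrFun h 1) 1
      simp at this
      exact this.symm

theorem isScalar2_conj {M : Matrix (Fin 2) (Fin 2) F} (h : IsScalar2 M) (c : Matrix.GeneralLinearGroup (Fin 2) F) :
    (c : Matrix (Fin 2) (Fin 2) F) * M * ((c⁻¹ : Matrix.GeneralLinearGroup (Fin 2) F) : Matrix (Fin 2) (Fin 2) F) = M := by
  rw [(isScalar2_iff M).mp h]
  simp

theorem isScalar2_conj_iff (g c : Matrix.GeneralLinearGroup (Fin 2) F) :
    IsScalar2 ((c * g * c⁻¹ : Matrix.GeneralLinearGroup (Fin 2) F) : Matrix (Fin 2) (Fin 2) F) ↔ IsScalar2 (g : Matrix (Fin 2) (Fin 2) F) := by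
  constructor
  · intro h
    have h2 := isScalar2_conj h c⁻¹
    have : ((c⁻¹ * (c * g * c⁻¹) * c⁻¹⁻¹ : Matrix.GeneralLinearGroup (Fin 2) F) : Matrix (Fin 2) (Fin 2) F) = (g : Matrix (Fin 2) (Fin 2) F) := by
      congr 1; group
    rw [← this]
    simp only [Units.val_mul] at h2 ⊢
    rw [h2]
    simpa using h
  · intro h
    have := isScalar2_conj h c
    simp only [Units.val_mul]
    rw [this]; exact h


theorem scalar_entry_ne_zero (g : Matrix.GeneralLinearGroup (Fin 2) F) (h : IsScalar2 (g : Matrix (Fin 2) (Fin 2) F)) :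
    (g : Matrix (Fin 2) (Fin 2) F) 0 0 ≠ 0 := by
  intro h0
  have hd : (g : Matrix (Fin 2) (Fin 2) F).det ≠ 0 := by
    have := Matrix.GeneralLinearGroup.det g |>.ne_zero
    simpa using this
  apply hd
  rw [Matrix.det_fin_two, h.1, h0]; simp

open Classical in
/-- conjugacy invariant on GL2 -/
noncomputable def gl2Inv (g : Matrix.GeneralLinearGroup (Fin 2) F) : Fˣ ⊕ (F × Fˣ) :=
  if h : IsScalar2 (g : Matrix (Fin 2) (Fin 2) F) then
    Sum.inl (Units.mk0 ((g : Matrix (Fin 2) (Fin 2) F) 0 0) (scalar_entry_ne_zero g h))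
  else Sum.inr ((g : Matrix (Fin 2) (Fin 2) F).trace, Matrix.GeneralLinearGroup.det g)

theorem gl2Inv_conj (g c : Matrix.GeneralLinearGroup (Fin 2) F) : gl2Inv (c * g * c⁻¹) = gl2Inv g := by
  unfold gl2Inv
  by_cases h : IsScalar2 (g : Matrix (Fin 2) (Fin 2) F)
  · have h' := (isScalar2_conj_iff g c).mpr h
    rw [dif_pos h, dif_pos h']
    congr 1
    apply Units.ext
    simp only [Units.val_mk0]
    have := isScalar2_conj h c
    simp only [Units.val_mul]
    rw [this]
  · have h' : ¬ IsScalar2 ((c * g * c⁻¹ : Matrix.GeneralLinearGroup (Fin 2) F) : Matrix (Fin 2) (Fin 2) F) :=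
      fun hh => h ((isScalar2_conj_iff g c).mp hh)
    rw [dif_neg h, dif_neg h']
    congr 2
    · simp only [Units.val_mul]
      rw [Matrix.trace_mul_comm, ← mul_assoc]
      simp
    · simp [mul_comm]

theorem gl2Inv_eq_iff (g h : Matrix.GeneralLinearGroup (Fin 2) F) : gl2Inv g = gl2Inv h ↔ IsConj g h := by
  constructor
  · intro e
    unfold gl2Inv at e
    by_cases hg : IsScalar2 (g : Matrix (Fin 2) (Fin 2) F) <;> by_cases hh : IsScalar2 (h : Matrix (Fin 2) (Fin 2) F)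
    · rw [dif_pos hg, dif_pos hh] at e
      have e' : (g : Matrix (Fin 2) (Fin 2) F) 0 0 = (h : Matrix (Fin 2) (Fin 2) F) 0 0 := by
        have := congrArg Units.val (Sum.inl.inj e)
        simpa using this
      have : g = h := by
        apply Units.ext
        rw [(isScalar2_iff _).mp hg, (isScalar2_iff _).mp hh, e']
      rw [this]
    · rw [dif_pos hg, dif_neg hh] at e
      exact absurd e (by simp)
    · rw [dif_neg hg, dif_pos hh] at e
      exact absurd e (by simp)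
    · rw [dif_neg hg, dif_neg hh] at e
      have e' := Sum.inr.inj e
      have e1 : (g : Matrix (Fin 2) (Fin 2) F).trace = (h : Matrix (Fin 2) (Fin 2) F).trace := congrArg Prod.fst e'
      have e2 : Matrix.GeneralLinearGroup.det g = Matrix.GeneralLinearGroup.det h := congrArg Prod.snd e'
      have e3 : (g : Matrix (Fin 2) (Fin 2) F).det = (h : Matrix (Fin 2) (Fin 2) F).det := by
        have := congrArg Units.val e2
        simpa using this
      exact gl2_isConj_of_trace_det hg hh e1 e3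
  · intro hc
    obtain ⟨c, rfl⟩ := isConj_iff.mp hc
    exact (gl2Inv_conj g c).symm

theorem gl2Inv_surjective : Function.Surjective (gl2Inv : Matrix.GeneralLinearGroup (Fin 2) F → _) := by
  rintro (a | ⟨t, d⟩)
  · refine ⟨Matrix.GeneralLinearGroup.mkOfDetNeZero ((a : F) • (1 : Matrix (Fin 2) (Fin 2) F)) (by simp), ?_⟩
    unfold gl2Inv
    have hs : IsScalar2 ((Matrix.GeneralLinearGroup.mkOfDetNeZero ((a : F) • (1 : Matrix (Fin 2) (Fin 2) F)) (by simp) : Matrix.GeneralLinearGroup (Fin 2) F) : Matrix (Fin 2) (Fin 2) F) := by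
      refine ⟨?_, ?_, ?_⟩ <;> simp [Matrix.GeneralLinearGroup.mkOfDetNeZero]
    rw [dif_pos hs]
    congr 1
    apply Units.ext
    simp [Matrix.GeneralLinearGroup.mkOfDetNeZero]
  · have hd : (comp2 t (d : F)).det ≠ 0 := by rw [det_comp2]; exact d.ne_zero
    refine ⟨Matrix.GeneralLinearGroup.mkOfDetNeZero (comp2 t (d : F)) hd, ?_⟩
    unfold gl2Inv
    have hs : ¬ IsScalar2 ((Matrix.GeneralLinearGroup.mkOfDetNeZero (comp2 t (d : F)) hd : Matrix.GeneralLinearGroup (Fin 2) F) : Matrix (Fin 2) (Fin 2) F) :=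
      not_isScalar2_comp2 t d
    rw [dif_neg hs]
    congr 2
    · exact trace_comp2 t d
    · apply Units.ext
      simp [Matrix.GeneralLinearGroup.mkOfDetNeZero, det_comp2]

/-- the conjugacy classes of GL2 -/
noncomputable def gl2ClassEquiv : ConjClasses (Matrix.GeneralLinearGroup (Fin 2) F) ≃ Fˣ ⊕ (F × Fˣ) := by
  refine Equiv.ofBijective (Quotient.lift gl2Inv (fun a b hab => (gl2Inv_eq_iff a b).mpr hab)) ⟨?_, ?_⟩
  · intro x y
    induction x using Quotient.inductionOn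
    induction y using Quotient.inductionOn
    intro e
    simp only [Quotient.lift_mk] at e
    exact Quotient.sound ((gl2Inv_eq_iff _ _).mp e)
  · intro y
    obtain ⟨g, hg⟩ := gl2Inv_surjective y
    exact ⟨Quotient.mk _ g, hg⟩

theorem card_conjClasses_gl2 [Fintype F] :
    Nat.card (ConjClasses (Matrix.GeneralLinearGroup (Fin 2) F)) = Fintype.card F ^ 2 - 1 := by
  classical
  rw [Nat.card_congr gl2ClassEquiv, Nat.card_eq_fintype_card, Fintype.card_sum, Fintype.card_prod, Fintype.card_units]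
  have : 1 ≤ Fintype.card F := Fintype.card_pos
  obtain ⟨k, hk⟩ : ∃ k, Fintype.card F = k + 1 := ⟨Fintype.card F - 1, by omega⟩
  rw [hk]
  have : (k + 1) ^ 2 = (k + (k + 1) * k) + 1 := by ring
  rw [this]
  simp


theorem sl2_isConj_of_common {g h p p' : Matrix.SpecialLinearGroup (Fin 2) F} (c : Matrix (Fin 2) (Fin 2) F)
    (hg : (g : Matrix (Fin 2) (Fin 2) F) * p = p * c) (hh : (h : Matrix (Fin 2) (Fin 2) F) * p' = p' * c) :
    IsConj g h := by
  have key := conj_of_common (Matrix.SpecialLinearGroup.toGL p) (Matrix.SpecialLinearGroup.toGL p')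
    (g : Matrix (Fin 2) (Fin 2) F) (h : Matrix (Fin 2) (Fin 2) F) c (by simpa using hg) (by simpa using hh)
  rw [isConj_iff]
  refine ⟨p' * p⁻¹, ?_⟩
  rw [mul_inv_eq_iff_eq_mul]
  apply Subtype.ext
  rw [← map_inv, ← map_mul] at key
  have e : ((Matrix.SpecialLinearGroup.toGL (p' * p⁻¹) : Matrix.GeneralLinearGroup (Fin 2) F) : Matrix (Fin 2) (Fin 2) F)
      = ((p' * p⁻¹ : Matrix.SpecialLinearGroup (Fin 2) F) : Matrix (Fin 2) (Fin 2) F) := rfl
  rw [e] at key
  rw [Matrix.SpecialLinearGroup.coe_mul, Matrix.SpecialLinearGroup.coe_mul]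
  exact key.symm

theorem det_cyc_smul (M : Matrix (Fin 2) (Fin 2) F) (z : F) (v : Fin 2 → F) :
    (cyc M (z • v)).det = z ^ 2 * (cyc M v).det := by
  rw [det_cyc, det_cyc]; simp; ring

theorem exists_cyc_det_eq_one_of_char_two [Finite F] (h2 : ringChar F = 2) {M : Matrix (Fin 2) (Fin 2) F} (h : ¬ IsScalar2 M) :
    ∃ v : Fin 2 → F, (cyc M v).det = 1 := by
  obtain ⟨v, hv⟩ := exists_cyc_det_ne_zero h
  obtain ⟨z, hz⟩ := FiniteField.isSquare_of_char_two h2 ((cyc M v).det)⁻¹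
  refine ⟨z • v, ?_⟩
  rw [det_cyc_smul, pow_two, ← hz, inv_mul_cancel₀ hv]

theorem sl2_isConj_of_trace_char_two [Finite F] (h2 : ringChar F = 2) {g h : Matrix.SpecialLinearGroup (Fin 2) F}
    (hg : ¬ IsScalar2 (g : Matrix (Fin 2) (Fin 2) F)) (hh : ¬ IsScalar2 (h : Matrix (Fin 2) (Fin 2) F))
    (ht : (g : Matrix (Fin 2) (Fin 2) F).trace = (h : Matrix (Fin 2) (Fin 2) F).trace) : IsConj g h := by
  obtain ⟨v, hv⟩ := exists_cyc_det_eq_one_of_char_two h2 hg
  obtain ⟨w, hw⟩ := exists_cyc_det_eq_one_of_char_two h2 hh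
  refine sl2_isConj_of_common (p := ⟨_, hv⟩) (p' := ⟨_, hw⟩) (comp2 (g : Matrix (Fin 2) (Fin 2) F).trace 1) ?_ ?_
  · have := mul_cyc (g : Matrix (Fin 2) (Fin 2) F) v
    rw [g.2] at this
    exact this
  · have := mul_cyc (h : Matrix (Fin 2) (Fin 2) F) w
    rw [h.2, ← ht] at this
    exact this

theorem sl2_isScalar2_iff_char_two [CharP F 2] (g : Matrix.SpecialLinearGroup (Fin 2) F) :
    IsScalar2 (g : Matrix (Fin 2) (Fin 2) F) ↔ g = 1 := by
  constructor
  · intro hs
    have hd := g.2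
    rw [Matrix.det_fin_two, hs.1, ← hs.2.2] at hd
    have h1 : ((g : Matrix (Fin 2) (Fin 2) F) 0 0 + 1) ^ 2 = 0 := by
      have h2 : (2 : F) = 0 := CharP.cast_eq_zero F 2
      have : ((g : Matrix (Fin 2) (Fin 2) F) 0 0 + 1) ^ 2 = (g : Matrix (Fin 2) (Fin 2) F) 0 0 * (g : Matrix (Fin 2) (Fin 2) F) 0 0 - 0 * (g : Matrix (Fin 2) (Fin 2) F) 1 0 + 2 * (g : Matrix (Fin 2) (Fin 2) F) 0 0 + 2 - 1 := by ring
      rw [this, hd, h2]; ring
    have h3 : (g : Matrix (Fin 2) (Fin 2) F) 0 0 = 1 := by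
      have := pow_eq_zero_iff (two_ne_zero) |>.mp h1
      have h2 : (2 : F) = 0 := CharP.cast_eq_zero F 2
      have h4 : (g : Matrix (Fin 2) (Fin 2) F) 0 0 = -1 := eq_neg_of_add_eq_zero_left this
      rw [h4]
      have : (-1 : F) = 1 - 2 := by ring
      rw [this, h2]; ring
    apply Subtype.ext
    rw [(isScalar2_iff _).mp hs, h3]
    simp
  · rintro rfl
    refine ⟨?_, ?_, ?_⟩ <;> simp


open Classical in
/-- conjugacy invariant on SL2 in characteristic two -/
noncomputable def sl2InvTwo (g : Matrix.SpecialLinearGroup (Fin 2) F) : Option F :=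
  if g = 1 then none else some (g : Matrix (Fin 2) (Fin 2) F).trace

theorem sl2_trace_conj (g c : Matrix.SpecialLinearGroup (Fin 2) F) :
    ((c * g * c⁻¹ : Matrix.SpecialLinearGroup (Fin 2) F) : Matrix (Fin 2) (Fin 2) F).trace = (g : Matrix (Fin 2) (Fin 2) F).trace := by
  rw [Matrix.SpecialLinearGroup.coe_mul, Matrix.trace_mul_comm, ← Matrix.SpecialLinearGroup.coe_mul,
    inv_mul_cancel_left]

theorem sl2InvTwo_conj (g c : Matrix.SpecialLinearGroup (Fin 2) F) : sl2InvTwo (c * g * c⁻¹) = sl2InvTwo g := by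
  unfold sl2InvTwo
  by_cases h : g = 1
  · subst h; simp
  · have h' : c * g * c⁻¹ ≠ 1 := by
      intro hh
      apply h
      have : g = c⁻¹ * (c * g * c⁻¹) * c := by group
      rw [this, hh]; group
    rw [if_neg h, if_neg h', sl2_trace_conj]

theorem sl2InvTwo_eq_iff [Finite F] [CharP F 2] (g h : Matrix.SpecialLinearGroup (Fin 2) F) :
    sl2InvTwo g = sl2InvTwo h ↔ IsConj g h := by
  constructor
  · intro e
    unfold sl2InvTwo at e
    by_cases hg : g = 1 <;> by_cases hh : h = 1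
    · rw [hg, hh]
    · rw [if_pos hg, if_neg hh] at e; exact absurd e (by simp)
    · rw [if_neg hg, if_pos hh] at e; exact absurd e (by simp)
    · rw [if_neg hg, if_neg hh] at e
      exact sl2_isConj_of_trace_char_two (ringChar.eq F 2) (fun hs => hg ((sl2_isScalar2_iff_char_two g).mp hs))
        (fun hs => hh ((sl2_isScalar2_iff_char_two h).mp hs)) (Option.some.inj e)
  · intro hc
    obtain ⟨c, rfl⟩ := isConj_iff.mp hc
    exact (sl2InvTwo_conj g c).symm

theorem sl2InvTwo_surjective : Function.Surjective (sl2InvTwo : Matrix.SpecialLinearGroup (Fin 2) F → _) := by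
  rintro (_ | t)
  · exact ⟨1, by simp [sl2InvTwo]⟩
  · let x : Matrix.SpecialLinearGroup (Fin 2) F := ⟨comp2 t 1, det_comp2 t 1⟩
    refine ⟨x, ?_⟩
    unfold sl2InvTwo
    have hne : x ≠ 1 := by
      intro h
      have := congrArg (fun m : Matrix.SpecialLinearGroup (Fin 2) F => (m : Matrix (Fin 2) (Fin 2) F) 1 0) h
      simp [x, comp2] at this
    rw [if_neg hne]
    congr 1
    exact trace_comp2 t 1

/-- the conjugacy classes of SL2 in characteristic two -/
noncomputable def sl2ClassEquivTwo [Finite F] [CharP F 2] : ConjClasses (Matrix.SpecialLinearGroup (Fin 2) F) ≃ Option F := by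
  refine Equiv.ofBijective (Quotient.lift sl2InvTwo (fun a b hab => (sl2InvTwo_eq_iff a b).mpr hab)) ⟨?_, ?_⟩
  · intro x y
    induction x using Quotient.inductionOn
    induction y using Quotient.inductionOn
    intro e
    simp only [Quotient.lift_mk] at e
    exact Quotient.sound ((sl2InvTwo_eq_iff _ _).mp e)
  · intro y
    obtain ⟨g, hg⟩ := sl2InvTwo_surjective y
    exact ⟨Quotient.mk _ g, hg⟩

theorem card_conjClasses_sl2_char_two [Fintype F] [CharP F 2] :
    Nat.card (ConjClasses (Matrix.SpecialLinearGroup (Fin 2) F)) = Fintype.card F + 1 := by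
  classical
  rw [Nat.card_congr sl2ClassEquivTwo, Nat.card_eq_fintype_card, Fintype.card_option]


theorem nilpotent2_trace_det {N : Matrix (Fin 2) (Fin 2) F} (h : IsNilpotent N) : N.trace = 0 ∧ N.det = 0 := by
  constructor
  · exact (Matrix.isNilpotent_trace_of_isNilpotent h).eq_zero
  · obtain ⟨k, hk⟩ := h
    have : N.det ^ k = 0 := by rw [← Matrix.det_pow, hk]; simp
    exact pow_eq_zero_iff (fun hk0 => by subst hk0; simp at hk) |>.mp this

theorem unipotent2_trace_det {M : Matrix (Fin 2) (Fin 2) F} (h : IsNilpotent (M - 1)) : M.trace = 2 ∧ M.det = 1 := by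
  obtain ⟨h1, h2⟩ := nilpotent2_trace_det h
  rw [Matrix.trace_fin_two] at h1
  rw [Matrix.det_fin_two] at h2
  simp at h1 h2
  constructor
  · rw [Matrix.trace_fin_two]; linear_combination h1
  · rw [Matrix.det_fin_two]; linear_combination h2 + h1

theorem unipotent2_scalar {M : Matrix (Fin 2) (Fin 2) F} (h : IsNilpotent (M - 1)) (hs : IsScalar2 M) : M = 1 := by
  obtain ⟨h1, h2⟩ := nilpotent2_trace_det h
  rw [Matrix.det_fin_two] at h2
  simp [hs.1, hs.2.1] at h2
  rw [(isScalar2_iff M).mp hs]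
  rcases h2 with h2 | h2
  · rw [sub_eq_zero.mp h2]; simp
  · rw [← hs.2.2] at h2; rw [sub_eq_zero.mp h2]; simp

theorem isNilpotent_sub_one_of_pow_char {R : Type*} [Ring R] (p : ℕ) [Fact p.Prime] [CharP R p] {x : R} {k : ℕ} (h : x ^ (p ^ k) = 1) :
    IsNilpotent (x - 1) := by
  refine ⟨p ^ k, ?_⟩
  rw [sub_pow_char_pow_of_commute _ _ (Commute.one_right x), h]
  simp

theorem gl2_isConj_of_orderOf_eq_char (p : ℕ) [Fact p.Prime] [CharP F p] {g h : Matrix.GeneralLinearGroup (Fin 2) F}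
    (hg : orderOf g = p) (hh : orderOf h = p) : IsConj g h := by
  have key : ∀ x : Matrix.GeneralLinearGroup (Fin 2) F, orderOf x = p →
      ¬ IsScalar2 (x : Matrix (Fin 2) (Fin 2) F) ∧ (x : Matrix (Fin 2) (Fin 2) F).trace = 2 ∧ (x : Matrix (Fin 2) (Fin 2) F).det = 1 := by
    intro x hx
    have hxp : (x : Matrix (Fin 2) (Fin 2) F) ^ (p ^ 1) = 1 := by
      have := pow_orderOf_eq_one x
      rw [hx] at this
      have := congrArg Units.val this
      simpa using this
    have hn := isNilpotent_sub_one_of_pow_char p hxp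
    refine ⟨?_, unipotent2_trace_det hn⟩
    intro hs
    have h1 := unipotent2_scalar hn hs
    have : x = 1 := Units.ext h1
    rw [this, orderOf_one] at hx
    exact (Fact.out : p.Prime).one_lt.ne hx
  obtain ⟨a1, a2, a3⟩ := key g hg
  obtain ⟨b1, b2, b3⟩ := key h hh
  exact gl2_isConj_of_trace_det a1 b1 (a2.trans b2.symm) (a3.trans b3.symm)


theorem sl2_invol_char_two [CharP F 2] {x : Matrix.SpecialLinearGroup (Fin 2) F} (hx : orderOf x = 2) :
    x ≠ 1 ∧ (x : Matrix (Fin 2) (Fin 2) F).trace = 0 := by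
  constructor
  · rintro rfl
    rw [orderOf_one] at hx; omega
  · have hxp : (x : Matrix (Fin 2) (Fin 2) F) ^ (2 ^ 1) = 1 := by
      have := pow_orderOf_eq_one x
      rw [hx] at this
      have := congrArg Subtype.val this
      simpa using this
    have : Fact (Nat.Prime 2) := ⟨Nat.prime_two⟩
    have hn := isNilpotent_sub_one_of_pow_char 2 hxp
    rw [(unipotent2_trace_det hn).1]
    exact CharP.cast_eq_zero F 2

theorem sl2_conj_iff_char_two [Finite F] [CharP F 2] {g : Matrix.SpecialLinearGroup (Fin 2) F} (hg : orderOf g = 2)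
    (x : Matrix.SpecialLinearGroup (Fin 2) F) :
    IsConj g x ↔ (x ≠ 1 ∧ (x : Matrix (Fin 2) (Fin 2) F).trace = 0) := by
  obtain ⟨g1, g2⟩ := sl2_invol_char_two hg
  rw [← sl2InvTwo_eq_iff]
  unfold sl2InvTwo
  rw [if_neg g1, g2]
  by_cases hx : x = 1
  · rw [if_pos hx]; simp [hx]
  · rw [if_neg hx]
    constructor
    · intro e; exact ⟨hx, (Option.some.inj e).symm⟩
    · rintro ⟨_, e⟩; rw [e]

theorem sl2_class_card_char_two [Fintype F] [CharP F 2] {g : Matrix.SpecialLinearGroup (Fin 2) F} (hg : orderOf g = 2) :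
    Nat.card (ConjClasses.mk g).carrier = Fintype.card F ^ 2 - 1 := by
  classical
  have h2 : (2 : F) = 0 := CharP.cast_eq_zero F 2
  have hneg : ∀ a : F, -a = a := by
    intro a
    have : a + a = 0 := by rw [← two_mul, h2, zero_mul]
    exact neg_eq_of_add_eq_zero_left this
  have hmem : ∀ x : Matrix.SpecialLinearGroup (Fin 2) F, x ∈ (ConjClasses.mk g).carrier ↔
      (x ≠ 1 ∧ (x : Matrix (Fin 2) (Fin 2) F).trace = 0) := by
    intro x
    rw [ConjClasses.mem_carrier_iff_mk_eq, ConjClasses.mk_eq_mk_iff_isConj, isConj_comm, sl2_conj_iff_char_two hg]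
  have hdiag : ∀ x : Matrix.SpecialLinearGroup (Fin 2) F, (x : Matrix (Fin 2) (Fin 2) F).trace = 0 →
      (x : Matrix (Fin 2) (Fin 2) F) 1 1 = (x : Matrix (Fin 2) (Fin 2) F) 0 0 := by
    intro x hx
    rw [Matrix.trace_fin_two] at hx
    rw [← hneg ((x : Matrix (Fin 2) (Fin 2) F) 0 0)]
    exact eq_neg_of_add_eq_zero_right hx
  let ψ : (ConjClasses.mk g).carrier → {v : F × F // v ≠ 0} := fun x =>
    ⟨((x.1 : Matrix (Fin 2) (Fin 2) F) 0 1, (x.1 : Matrix (Fin 2) (Fin 2) F) 1 0), by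
      intro h0
      have hx := (hmem x.1).mp x.2
      have e1 : (x.1 : Matrix (Fin 2) (Fin 2) F) 0 1 = 0 := congrArg Prod.fst h0
      have e2 : (x.1 : Matrix (Fin 2) (Fin 2) F) 1 0 = 0 := congrArg Prod.snd h0
      exact hx.1 ((sl2_isScalar2_iff_char_two x.1).mp ⟨e1, e2, (hdiag x.1 hx.2).symm⟩)⟩
  have hψ : Function.Bijective ψ := by
    constructor
    · intro x y hxy
      have hx := (hmem x.1).mp x.2
      have hy := (hmem y.1).mp y.2
      have e := congrArg Subtype.val hxy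
      have e1 : (x.1 : Matrix (Fin 2) (Fin 2) F) 0 1 = (y.1 : Matrix (Fin 2) (Fin 2) F) 0 1 := congrArg Prod.fst e
      have e2 : (x.1 : Matrix (Fin 2) (Fin 2) F) 1 0 = (y.1 : Matrix (Fin 2) (Fin 2) F) 1 0 := congrArg Prod.snd e
      have dx := x.1.2
      have dy := y.1.2
      rw [Matrix.det_fin_two, hdiag x.1 hx.2] at dx
      rw [Matrix.det_fin_two, hdiag y.1 hy.2] at dy
      have e3 : ((x.1 : Matrix (Fin 2) (Fin 2) F) 0 0 - (y.1 : Matrix (Fin 2) (Fin 2) F) 0 0) ^ 2 = 0 := by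
        have : ((x.1 : Matrix (Fin 2) (Fin 2) F) 0 0 - (y.1 : Matrix (Fin 2) (Fin 2) F) 0 0) ^ 2 =
          2 * ((y.1 : Matrix (Fin 2) (Fin 2) F) 0 0 * (y.1 : Matrix (Fin 2) (Fin 2) F) 0 0 - (x.1 : Matrix (Fin 2) (Fin 2) F) 0 0 * (y.1 : Matrix (Fin 2) (Fin 2) F) 0 0) := by
          linear_combination dx - dy + (y.1 : Matrix (Fin 2) (Fin 2) F) 1 0 * e1 + (x.1 : Matrix (Fin 2) (Fin 2) F) 0 1 * e2
        rw [this, h2, zero_mul]
      have e4 : (x.1 : Matrix (Fin 2) (Fin 2) F) 0 0 = (y.1 : Matrix (Fin 2) (Fin 2) F) 0 0 :=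
        sub_eq_zero.mp (pow_eq_zero_iff two_ne_zero |>.mp e3)
      apply Subtype.ext
      apply Subtype.ext
      ext i j
      fin_cases i <;> fin_cases j
      · exact e4
      · exact e1
      · exact e2
      · change (x.1 : Matrix (Fin 2) (Fin 2) F) 1 1 = (y.1 : Matrix (Fin 2) (Fin 2) F) 1 1
        rw [hdiag x.1 hx.2, hdiag y.1 hy.2, e4]
    · rintro ⟨⟨b, c⟩, hv⟩
      obtain ⟨a, ha⟩ := FiniteField.isSquare_of_char_two (ringChar.eq F 2) (1 + b * c)
      let x : Matrix.SpecialLinearGroup (Fin 2) F := ⟨!![a, b; c, a], by rw [Matrix.det_fin_two_of, ← ha]; ring⟩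
      have hx : x ∈ (ConjClasses.mk g).carrier := by
        rw [hmem]
        constructor
        · intro h1
          apply hv
          have e1 := congrArg (fun m : Matrix.SpecialLinearGroup (Fin 2) F => (m : Matrix (Fin 2) (Fin 2) F) 0 1) h1
          have e2 := congrArg (fun m : Matrix.SpecialLinearGroup (Fin 2) F => (m : Matrix (Fin 2) (Fin 2) F) 1 0) h1
          simp [x] at e1 e2
          rw [e1, e2]; rfl
        · simp [x, Matrix.trace_fin_two]
          rw [← two_mul, h2, zero_mul]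
      refine ⟨⟨x, hx⟩, ?_⟩
      apply Subtype.ext
      simp [ψ, x]
  rw [Nat.card_congr (Equiv.ofBijective ψ hψ), Nat.card_eq_fintype_card, Fintype.card_subtype_compl,
    Fintype.card_prod, Fintype.card_subtype_eq]
  rw [pow_two]


end Cfsg.Agent.helper12
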