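import Cfsg.Agent.Lib_helper12_Mat2c

set_option autoImplicit false

namespace Cfsg.Agent.helper12

open Matrix Polynomial

variable {F : Type*} [Field F]

/-- codomain of the SL2 invariant in odd characteristic -/
abbrev Sl2OddCode (F : Type*) [Field F] := Bool ⊕ ({t : F // t ^ 2 ≠ 4} ⊕ (Bool × Bool))

open Classical in
/-- conjugacy invariant on SL2 in odd characteristic -/
noncomputable def sl2InvOdd (g : Matrix.SpecialLinearGroup (Fin 2) F) : Sl2OddCode F :=
  if IsScalar2 (g : Matrix (Fin 2) (Fin 2) F) then Sum.inl (decide ((g : Matrix (Fin 2) (Fin 2) F) 0 0 = 1))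
  else if h : (g : Matrix (Fin 2) (Fin 2) F).trace ^ 2 ≠ 4 then Sum.inr (Sum.inl ⟨(g : Matrix (Fin 2) (Fin 2) F).trace, h⟩)
  else Sum.inr (Sum.inr (decide ((g : Matrix (Fin 2) (Fin 2) F).trace = 2), decide (SqClass (g : Matrix (Fin 2) (Fin 2) F))))

theorem sl2_isScalar2_conj_iff (g c : Matrix.SpecialLinearGroup (Fin 2) F) :
    IsScalar2 ((c * g * c⁻¹ : Matrix.SpecialLinearGroup (Fin 2) F) : Matrix (Fin 2) (Fin 2) F) ↔ IsScalar2 (g : Matrix (Fin 2) (Fin 2) F) := by
  have := isScalar2_conj_iff (Matrix.SpecialLinearGroup.toGL g) (Matrix.SpecialLinearGroup.toGL c)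
  rw [← map_inv, ← map_mul, ← map_mul] at this
  exact this

theorem sl2_conj_eq_of_isScalar2 (g c : Matrix.SpecialLinearGroup (Fin 2) F) (h : IsScalar2 (g : Matrix (Fin 2) (Fin 2) F)) :
    c * g * c⁻¹ = g := by
  have := isScalar2_conj h (Matrix.SpecialLinearGroup.toGL c)
  rw [← map_inv] at this
  apply Subtype.ext
  rw [Matrix.SpecialLinearGroup.coe_mul, Matrix.SpecialLinearGroup.coe_mul]
  exact this

theorem sl2InvOdd_conj (g c : Matrix.SpecialLinearGroup (Fin 2) F) : sl2InvOdd (c * g * c⁻¹) = sl2InvOdd g := by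
  classical
  by_cases h : IsScalar2 (g : Matrix (Fin 2) (Fin 2) F)
  · rw [sl2_conj_eq_of_isScalar2 g c h]
  · have h' : ¬ IsScalar2 ((c * g * c⁻¹ : Matrix.SpecialLinearGroup (Fin 2) F) : Matrix (Fin 2) (Fin 2) F) :=
      fun hh => h ((sl2_isScalar2_conj_iff g c).mp hh)
    unfold sl2InvOdd
    rw [if_neg h, if_neg h']
    have e := sl2_trace_conj g c
    by_cases ht : (g : Matrix (Fin 2) (Fin 2) F).trace ^ 2 ≠ 4
    · have ht' : ((c * g * c⁻¹ : Matrix.SpecialLinearGroup (Fin 2) F) : Matrix (Fin 2) (Fin 2) F).trace ^ 2 ≠ 4 := by rwa [e]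
      rw [dif_pos ht, dif_pos ht']
      congr 2
      exact Subtype.ext e
    · have ht' : ¬ ((c * g * c⁻¹ : Matrix.SpecialLinearGroup (Fin 2) F) : Matrix (Fin 2) (Fin 2) F).trace ^ 2 ≠ 4 := by rwa [e]
      rw [dif_neg ht, dif_neg ht']
      have h1 : decide (((c * g * c⁻¹ : Matrix.SpecialLinearGroup (Fin 2) F) : Matrix (Fin 2) (Fin 2) F).trace = 2)
          = decide ((g : Matrix (Fin 2) (Fin 2) F).trace = 2) := decide_eq_decide.mpr (by rw [e])
      have h2 : decide (SqClass ((c * g * c⁻¹ : Matrix.SpecialLinearGroup (Fin 2) F) : Matrix (Fin 2) (Fin 2) F))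
          = decide (SqClass (g : Matrix (Fin 2) (Fin 2) F)) := decide_eq_decide.mpr (sqClass_conj_sl2 c g)
      rw [h1, h2]

theorem sl2_scalar_entry (g : Matrix.SpecialLinearGroup (Fin 2) F) (h : IsScalar2 (g : Matrix (Fin 2) (Fin 2) F)) :
    (g : Matrix (Fin 2) (Fin 2) F) 0 0 = 1 ∨ (g : Matrix (Fin 2) (Fin 2) F) 0 0 = -1 := by
  have hd := g.2
  rw [Matrix.det_fin_two, h.1, ← h.2.2] at hd
  have : ((g : Matrix (Fin 2) (Fin 2) F) 0 0 - 1) * ((g : Matrix (Fin 2) (Fin 2) F) 0 0 + 1) = 0 := by
    linear_combination hd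
  rcases mul_eq_zero.mp this with h1 | h1
  · left; exact sub_eq_zero.mp h1
  · right; exact eq_neg_of_add_eq_zero_left h1

theorem sl2InvOdd_eq_imp [Fintype F] (hF : Fintype.card F % 2 = 1) (g h : Matrix.SpecialLinearGroup (Fin 2) F)
    (e : sl2InvOdd g = sl2InvOdd h) : IsConj g h := by
  classical
  have h2 := two_ne_zero_of_card_odd hF
  unfold sl2InvOdd at e
  by_cases hg : IsScalar2 (g : Matrix (Fin 2) (Fin 2) F) <;> by_cases hh : IsScalar2 (h : Matrix (Fin 2) (Fin 2) F)
  · rw [if_pos hg, if_pos hh] at e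
    have e' := Sum.inl.inj e
    have : g = h := by
      apply Subtype.ext
      rw [(isScalar2_iff _).mp hg, (isScalar2_iff _).mp hh]
      congr 1
      rcases sl2_scalar_entry g hg with h1 | h1 <;> rcases sl2_scalar_entry h hh with h3 | h3
      · rw [h1, h3]
      · exfalso
        rw [h1, h3] at e'
        have hne : ¬ ((-1 : F) = 1) := by
          intro h4
          apply h2
          linear_combination -h4
        simp [hne] at e'
      · exfalso
        rw [h1, h3] at e'
        have hne : ¬ ((-1 : F) = 1) := by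
          intro h4
          apply h2
          linear_combination -h4
        simp [hne] at e'
      · rw [h1, h3]
    rw [this]
  · rw [if_pos hg, if_neg hh] at e
    split_ifs at e
  · rw [if_neg hg, if_pos hh] at e
    split_ifs at e
  · rw [if_neg hg, if_neg hh] at e
    by_cases tg : (g : Matrix (Fin 2) (Fin 2) F).trace ^ 2 ≠ 4
    · by_cases th : (h : Matrix (Fin 2) (Fin 2) F).trace ^ 2 ≠ 4
      · rw [dif_pos tg, dif_pos th] at e
        have e' := congrArg Subtype.val (Sum.inl.inj (Sum.inr.inj e))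
        exact sl2_isConj_of_disc_ne hF e' tg
      · rw [dif_pos tg, dif_neg th] at e
        exact absurd (Sum.inr.inj e) (by simp)
    · by_cases th : (h : Matrix (Fin 2) (Fin 2) F).trace ^ 2 ≠ 4
      · rw [dif_neg tg, dif_pos th] at e
        exact absurd (Sum.inr.inj e) (by simp)
      · rw [dif_neg tg, dif_neg th] at e
        have e' := Sum.inr.inj (Sum.inr.inj e)
        have e1 : decide ((g : Matrix (Fin 2) (Fin 2) F).trace = 2) = decide ((h : Matrix (Fin 2) (Fin 2) F).trace = 2) := congrArg Prod.fst e'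
        have e2 : decide (SqClass (g : Matrix (Fin 2) (Fin 2) F)) = decide (SqClass (h : Matrix (Fin 2) (Fin 2) F)) := congrArg Prod.snd e'
        rw [decide_eq_decide] at e1 e2
        push Not at tg th
        have key : ∀ t : F, t ^ 2 = 4 → t = 2 ∨ t = -2 := by
          intro t ht
          have : (t - 2) * (t + 2) = 0 := by linear_combination ht
          rcases mul_eq_zero.mp this with h1 | h1
          · left; exact sub_eq_zero.mp h1
          · right; exact eq_neg_of_add_eq_zero_left h1
        have ht : (g : Matrix (Fin 2) (Fin 2) F).trace = (h : Matrix (Fin 2) (Fin 2) F).trace := by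
          rcases key _ tg with h1 | h1
          · rw [h1, e1.mp h1]
          · rcases key _ th with h3 | h3
            · rw [e1.mpr h3, h3]
            · rw [h1, h3]
        exact sl2_isConj_of_disc_eq hF hg hh ht tg e2

/-- upper triangular element of SL2 with diagonal ε = ±1 -/
def sl2Upper (ε : F) (hε : ε * ε = 1) (b : F) : Matrix.SpecialLinearGroup (Fin 2) F :=
  ⟨!![ε, b; 0, ε], by rw [Matrix.det_fin_two_of, hε]; ring⟩

theorem qf_sl2Upper (ε : F) (hε : ε * ε = 1) (b : F) (v : Fin 2 → F) :
    qf (sl2Upper ε hε b : Matrix (Fin 2) (Fin 2) F) v = -b * v 1 ^ 2 := by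
  simp [qf, sl2Upper]

theorem sqClass_sl2Upper (ε : F) (hε : ε * ε = 1) {b : F} (hb : b ≠ 0) :
    SqClass (sl2Upper ε hε b : Matrix (Fin 2) (Fin 2) F) ↔ IsSquare (-b) := by
  constructor
  · rintro ⟨v, h1, h2⟩
    rw [qf_sl2Upper] at h1 h2
    have hv : v 1 ^ 2 ≠ 0 := right_ne_zero_of_mul h1
    have : IsSquare (v 1 ^ 2 * (-b)) := by rwa [mul_comm]
    exact isSquare_of_mul_isSquare hv ⟨v 1, pow_two _⟩ this
  · intro h
    refine ⟨![0, 1], ?_, ?_⟩ <;> rw [qf_sl2Upper] <;> simp [hb, h]

theorem sl2InvOdd_surjective [Fintype F] (hF : Fintype.card F % 2 = 1) :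
    Function.Surjective (sl2InvOdd : Matrix.SpecialLinearGroup (Fin 2) F → _) := by
  classical
  have h2 := two_ne_zero_of_card_odd hF
  have hne : ¬ ((-1 : F) = 1) := by
    intro h4
    apply h2
    linear_combination -h4
  have h4 : (4 : F) ≠ 0 := by
    have : (4 : F) = 2 * 2 := by norm_num
    rw [this]; exact mul_ne_zero h2 h2
  rintro (b | ⟨t, ht⟩ | ⟨b1, b2⟩)
  · -- scalar
    let ε : F := if b then 1 else -1
    have hε : ε * ε = 1 := by cases b <;> simp [ε]
    refine ⟨sl2Upper ε hε 0, ?_⟩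
    have hs : IsScalar2 (sl2Upper ε hε 0 : Matrix (Fin 2) (Fin 2) F) := by
      refine ⟨?_, ?_, ?_⟩ <;> simp [sl2Upper]
    unfold sl2InvOdd
    rw [if_pos hs]
    congr 1
    cases b <;> simp [sl2Upper, ε, hne]
  · let x : Matrix.SpecialLinearGroup (Fin 2) F := ⟨comp2 t 1, det_comp2 t 1⟩
    refine ⟨x, ?_⟩
    have hs : ¬ IsScalar2 (x : Matrix (Fin 2) (Fin 2) F) := not_isScalar2_comp2 t 1
    have htr : (x : Matrix (Fin 2) (Fin 2) F).trace = t := trace_comp2 t 1
    unfold sl2InvOdd
    rw [if_neg hs]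
    have ht' : (x : Matrix (Fin 2) (Fin 2) F).trace ^ 2 ≠ 4 := by rwa [htr]
    rw [dif_pos ht']
    congr 2
    exact Subtype.ext htr
  · let ε : F := if b1 then 1 else -1
    have hε : ε * ε = 1 := by cases b1 <;> simp [ε]
    obtain ⟨ν, hν⟩ := FiniteField.exists_nonsquare (F := F) (by
      intro h
      have := FiniteField.even_card_iff_char_two.mp h
      omega)
    let s : F := if b2 then 1 else ν
    have hs0 : s ≠ 0 := by
      cases b2
      · simp only [s]
        rintro h0
        simp at h0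
        apply hν; rw [h0]; exact ⟨0, by simp⟩
      · simp [s]
    have hsq : IsSquare s ↔ b2 = true := by
      cases b2 <;> simp [s, hν]
    refine ⟨sl2Upper ε hε (-s), ?_⟩
    have hns : ¬ IsScalar2 (sl2Upper ε hε (-s) : Matrix (Fin 2) (Fin 2) F) := by
      intro h
      have := h.1
      simp [sl2Upper] at this
      exact hs0 this
    have htr : (sl2Upper ε hε (-s) : Matrix (Fin 2) (Fin 2) F).trace = 2 * ε := by
      simp [sl2Upper, Matrix.trace_fin_two]; ring
    have ht4 : ¬ ((sl2Upper ε hε (-s) : Matrix (Fin 2) (Fin 2) F).trace ^ 2 ≠ 4) := by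
      rw [htr]; push Not; linear_combination 4 * hε
    unfold sl2InvOdd
    rw [if_neg hns, dif_neg ht4]
    congr 3
    · rw [htr]
      cases b1
      · simp only [ε]
        simp
        intro h
        apply h4
        linear_combination -h
      · simp [ε]
    · have e1 : SqClass (sl2Upper ε hε (-s) : Matrix (Fin 2) (Fin 2) F) ↔ b2 = true := by
        rw [sqClass_sl2Upper ε hε (neg_ne_zero.mpr hs0), neg_neg, hsq]
      cases b2
      · simp at e1 ⊢; exact e1
      · simp at e1 ⊢; exact e1

theorem card_sl2OddCode [Fintype F] (hF : Fintype.card F % 2 = 1) : Nat.card (Sl2OddCode F) = Fintype.card F + 4 := by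
  classical
  have h2 := two_ne_zero_of_card_odd hF
  have h4 : (4 : F) ≠ 0 := by
    have : (4 : F) = 2 * 2 := by norm_num
    rw [this]; exact mul_ne_zero h2 h2
  have hcard : Fintype.card {t : F // t ^ 2 = 4} = 2 := by
    rw [Fintype.card_subtype]
    have : (Finset.univ.filter fun t : F => t ^ 2 = 4) = {2, -2} := by
      ext t
      simp only [Finset.mem_filter, Finset.mem_univ, true_and, Finset.mem_insert, Finset.mem_singleton]
      constructor
      · intro ht
        have : (t - 2) * (t + 2) = 0 := by linear_combination ht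
        rcases mul_eq_zero.mp this with h1 | h1
        · left; exact sub_eq_zero.mp h1
        · right; exact eq_neg_of_add_eq_zero_left h1
      · rintro (rfl | rfl) <;> ring
    rw [this, Finset.card_pair]
    intro h
    apply h4
    linear_combination h
  have hq : 2 ≤ Fintype.card F := by
    have := Fintype.card_subtype_le (fun t : F => t ^ 2 = 4)
    omega
  rw [Nat.card_eq_fintype_card, Fintype.card_sum, Fintype.card_sum, Fintype.card_subtype_compl, hcard]
  simp
  omega


theorem sl2InvOdd_eq_iff [Fintype F] (hF : Fintype.card F % 2 = 1) (g h : Matrix.SpecialLinearGroup (Fin 2) F) :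
    sl2InvOdd g = sl2InvOdd h ↔ IsConj g h := by
  constructor
  · exact sl2InvOdd_eq_imp hF g h
  · intro hc
    obtain ⟨c, rfl⟩ := isConj_iff.mp hc
    exact (sl2InvOdd_conj g c).symm

/-- the conjugacy classes of SL2 in odd characteristic -/
noncomputable def sl2ClassEquivOdd [Fintype F] (hF : Fintype.card F % 2 = 1) :
    ConjClasses (Matrix.SpecialLinearGroup (Fin 2) F) ≃ Sl2OddCode F := by
  refine Equiv.ofBijective (Quotient.lift sl2InvOdd (fun a b hab => (sl2InvOdd_eq_iff hF a b).mpr hab)) ⟨?_, ?_⟩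
  · intro x y
    induction x using Quotient.inductionOn
    induction y using Quotient.inductionOn
    intro e
    simp only [Quotient.lift_mk] at e
    exact Quotient.sound ((sl2InvOdd_eq_iff hF _ _).mp e)
  · intro y
    obtain ⟨g, hg⟩ := sl2InvOdd_surjective hF y
    exact ⟨Quotient.mk _ g, hg⟩

theorem card_conjClasses_sl2_odd [Fintype F] (hodd : Odd (Fintype.card F)) :
    Nat.card (ConjClasses (Matrix.SpecialLinearGroup (Fin 2) F)) = Fintype.card F + 4 := by
  have hF : Fintype.card F % 2 = 1 := Nat.odd_iff.mp hodd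
  rw [Nat.card_congr (sl2ClassEquivOdd hF), card_sl2OddCode hF]

end Cfsg.Agent.helper12
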