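import Cfsg.Agent.Lib_helper12_Sl2Irr
import Cfsg.Agent.Lib_helper12_Mat2
import Cfsg.Agent.Lib_helper12_Sl2Odd
import Cfsg.Agent.Lib_helper12_Card

set_option autoImplicit false

namespace Cfsg.Agent.helper12

open Matrix Cfsg
open scoped ComplexConjugate

variable {F : Type*} [Field F]

theorem natCard_subtype_eq_one {α : Type*} {p : α → Prop} (a : α) (ha : p a) (huniq : ∀ b, p b → b = a) :
    Nat.card {x // p x} = 1 := by
  rw [Nat.card_eq_one_iff_unique]
  exact ⟨⟨fun x y => Subtype.ext ((huniq x.1 x.2).trans (huniq y.1 y.2).symm)⟩, ⟨⟨a, ha⟩⟩⟩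

/-- S2300 -/
theorem sl2_degrees_even [Fintype F] [CharP F 2] :
    (∀ χ : Matrix.SpecialLinearGroup (Fin 2) F → ℂ, Cfsg.IsIrrCharacter (Matrix.SpecialLinearGroup (Fin 2) F) χ →
      χ 1 = 1 ∨ χ 1 = (Fintype.card F : ℂ) - 1 ∨ χ 1 = (Fintype.card F : ℂ) ∨ χ 1 = (Fintype.card F : ℂ) + 1) ∧
    (4 ≤ Fintype.card F →
      Nat.card {χ : Cfsg.IrrCharacter (Matrix.SpecialLinearGroup (Fin 2) F) // (χ : Matrix.SpecialLinearGroup (Fin 2) F → ℂ) 1 = 1} = 1 ∧
      Nat.card {χ : Cfsg.IrrCharacter (Matrix.SpecialLinearGroup (Fin 2) F) // (χ : Matrix.SpecialLinearGroup (Fin 2) F → ℂ) 1 = (Fintype.card F : ℂ)} = 1 ∧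
      Nat.card {χ : Cfsg.IrrCharacter (Matrix.SpecialLinearGroup (Fin 2) F) // (χ : Matrix.SpecialLinearGroup (Fin 2) F → ℂ) 1 = (Fintype.card F : ℂ) + 1} = (Fintype.card F - 2) / 2 ∧
      Nat.card {χ : Cfsg.IrrCharacter (Matrix.SpecialLinearGroup (Fin 2) F) // (χ : Matrix.SpecialLinearGroup (Fin 2) F → ℂ) 1 = (Fintype.card F : ℂ) - 1} = Fintype.card F / 2) := by
  classical
  have heven : Even (Fintype.card F) := even_card_of_charP_two
  have hdeg : ∀ χ : Matrix.SpecialLinearGroup (Fin 2) F → ℂ, Cfsg.IsIrrCharacter (Matrix.SpecialLinearGroup (Fin 2) F) χ →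
      χ 1 = 1 ∨ χ 1 = (Fintype.card F : ℂ) - 1 ∨ χ 1 = (Fintype.card F : ℂ) ∨ χ 1 = (Fintype.card F : ℂ) + 1 := by
    intro χ hχ
    rcases sl2_degree_cases hχ with h | h | h | ⟨hodd, _⟩ | h | h
    · left; exact h
    · right; right; left; exact h
    · right; right; right; exact h
    · exact absurd heven (Nat.not_even_iff_odd.mpr hodd)
    · right; left; exact h
    · exfalso
      obtain ⟨n, _, hn⟩ := helper24.irr_apply_one hχ
      rw [hn] at h
      have h' : ((2 * n + 1 : ℕ) : ℂ) = (Fintype.card F : ℂ) := by push_cast; linear_combination h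
      have h'' : 2 * n + 1 = Fintype.card F := by exact_mod_cast h'
      obtain ⟨k, hk⟩ := heven
      omega
  refine ⟨hdeg, fun hq => ?_⟩
  have : Fintype (IrrCharacter (Matrix.SpecialLinearGroup (Fin 2) F)) := Fintype.ofFinite _
  have : Fintype (MulChar F ℂ) := Fintype.ofFinite _
  have hq' : (4 : ℝ) ≤ (Fintype.card F : ℝ) := by exact_mod_cast hq
  have N1 : Nat.card {χ : Cfsg.IrrCharacter (Matrix.SpecialLinearGroup (Fin 2) F) // (χ : Matrix.SpecialLinearGroup (Fin 2) F → ℂ) 1 = 1} = 1 :=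
    natCard_subtype_eq_one ⟨fun _ => 1, isIrrCharacter_const_one _⟩ rfl
      (fun b hb => Subtype.ext (sl2_deg_one_unique hq b.2 hb))
  have Nq : Nat.card {χ : Cfsg.IrrCharacter (Matrix.SpecialLinearGroup (Fin 2) F) // (χ : Matrix.SpecialLinearGroup (Fin 2) F → ℂ) 1 = (Fintype.card F : ℂ)} = 1 :=
    natCard_subtype_eq_one ⟨sl2St, sl2St_irr⟩ sl2St_one
      (fun b hb => Subtype.ext (sl2_deg_q_unique b.2 hb))
  have hfilter : Finset.univ.filter (fun γ : MulChar F ℂ => γ ^ 2 = 1) = {1} := by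
    ext γ
    simp only [Finset.mem_filter, Finset.mem_univ, true_and, Finset.mem_singleton]
    exact ⟨fun h => mulChar_sq_eq_one_even heven h, fun h => by rw [h, one_pow]⟩
  have Nq1 := sl2_card_deg_q_add_one (F := F)
  rw [hfilter, Finset.card_singleton] at Nq1
  have Nq1' : Nat.card {χ : Cfsg.IrrCharacter (Matrix.SpecialLinearGroup (Fin 2) F) // (χ : Matrix.SpecialLinearGroup (Fin 2) F → ℂ) 1 = (Fintype.card F : ℂ) + 1} = (Fintype.card F - 2) / 2 := by
    omega
  refine ⟨N1, Nq, Nq1', ?_⟩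
  -- the partition of the irreducible characters by degree
  have hcard : Fintype.card (IrrCharacter (Matrix.SpecialLinearGroup (Fin 2) F)) = Fintype.card F + 1 := by
    rw [← Nat.card_eq_fintype_card, helper24.card_irr_eq_card_conjClasses, card_conjClasses_sl2_char_two]
  let f : IrrCharacter (Matrix.SpecialLinearGroup (Fin 2) F) → ℂ := fun ψ => (ψ : Matrix.SpecialLinearGroup (Fin 2) F → ℂ) 1
  let t : Finset ℂ := {1, (Fintype.card F : ℂ) - 1, (Fintype.card F : ℂ), (Fintype.card F : ℂ) + 1}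
  have hmaps : ∀ ψ ∈ (Finset.univ : Finset (IrrCharacter (Matrix.SpecialLinearGroup (Fin 2) F))), f ψ ∈ t := by
    intro ψ _
    simp only [t, Finset.mem_insert, Finset.mem_singleton]
    exact hdeg ψ.1 ψ.2
  have hpart := Finset.card_eq_sum_card_fiberwise hmaps
  have d1 : (1 : ℂ) ≠ (Fintype.card F : ℂ) - 1 := by
    intro h
    have := cx_lin (Fintype.card F) 0 1 1 (-1) (by push_cast; linear_combination h)
    linarith
  have d2 : (1 : ℂ) ≠ (Fintype.card F : ℂ) := by
    intro h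
    have := cx_lin (Fintype.card F) 0 1 1 0 (by push_cast; linear_combination h)
    linarith
  have d3 : (1 : ℂ) ≠ (Fintype.card F : ℂ) + 1 := by
    intro h
    have := cx_lin (Fintype.card F) 0 1 1 1 (by push_cast; linear_combination h)
    linarith
  have d4 : (Fintype.card F : ℂ) - 1 ≠ (Fintype.card F : ℂ) := by
    intro h
    have := cx_lin (Fintype.card F) 1 (-1) 1 0 (by push_cast; linear_combination h)
    linarith
  have d5 : (Fintype.card F : ℂ) - 1 ≠ (Fintype.card F : ℂ) + 1 := by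
    intro h
    have := cx_lin (Fintype.card F) 1 (-1) 1 1 (by push_cast; linear_combination h)
    linarith
  have d6 : (Fintype.card F : ℂ) ≠ (Fintype.card F : ℂ) + 1 := by
    intro h
    have := cx_lin (Fintype.card F) 1 0 1 1 (by push_cast; linear_combination h)
    linarith
  simp only [t] at hpart
  rw [Finset.sum_insert (by simp [d1, d2, d3]), Finset.sum_insert (by simp [d4, d5]),
    Finset.sum_insert (by simp [d6]), Finset.sum_singleton, Finset.card_univ, hcard] at hpart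
  have N1f : (Finset.univ.filter (fun ψ : IrrCharacter (Matrix.SpecialLinearGroup (Fin 2) F) => f ψ = 1)).card = 1 := by
    rw [← Fintype.card_subtype, ← Nat.card_eq_fintype_card]; exact N1
  have Nqf : (Finset.univ.filter (fun ψ : IrrCharacter (Matrix.SpecialLinearGroup (Fin 2) F) => f ψ = (Fintype.card F : ℂ))).card = 1 := by
    rw [← Fintype.card_subtype, ← Nat.card_eq_fintype_card]; exact Nq
  have Nq1f : (Finset.univ.filter (fun ψ : IrrCharacter (Matrix.SpecialLinearGroup (Fin 2) F) => f ψ = (Fintype.card F : ℂ) + 1)).card = (Fintype.card F - 2) / 2 := by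
    rw [← Fintype.card_subtype, ← Nat.card_eq_fintype_card]; exact Nq1'
  rw [N1f, Nqf, Nq1f] at hpart
  rw [Nat.card_eq_fintype_card, Fintype.card_subtype]
  change (Finset.univ.filter (fun ψ : IrrCharacter (Matrix.SpecialLinearGroup (Fin 2) F) => f ψ = (Fintype.card F : ℂ) - 1)).card = _
  obtain ⟨k, hk⟩ := heven
  omega

theorem natCard_deg {G : Type*} [Group G] [Fintype (IrrCharacter G)] (v : ℂ) (n : ℕ) (h : v = n) :
    Nat.card {ψ : IrrCharacter G // (ψ : G → ℂ) 1 = v}
      = (Finset.univ.filter (fun ψ : IrrCharacter G => charDegree (ψ : G → ℂ) = n)).card := by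
  classical
  rw [Nat.card_eq_fintype_card, Fintype.card_subtype]
  congr 1
  apply Finset.filter_congr
  intro ψ _
  rw [h, ← helper24.char_charDegree_cast (helper24.irr_isCharacter ψ.2)]
  exact Nat.cast_inj

theorem sl2_deg_half_add [Fintype F] [DecidableEq F] (hq : 5 ≤ Fintype.card F)
    {ψ : Matrix.SpecialLinearGroup (Fin 2) F → ℂ} (hψ : IsIrrCharacter (Matrix.SpecialLinearGroup (Fin 2) F) ψ)
    (h1 : 2 * ψ 1 = (Fintype.card F : ℂ) + 1) :
    ∃ γ : MulChar F ℂ, γ ^ 2 = 1 ∧ γ ≠ 1 ∧ classInner (sl2R γ) ψ ≠ 0 := by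
  have hq' : (5 : ℝ) ≤ (Fintype.card F : ℝ) := by exact_mod_cast hq
  rcases sl2_irr_classification hψ with rfl | rfl | ⟨γ, hγ, rfl⟩ | ⟨γ, h1', h2, hne⟩ | ⟨_, h | h⟩
  · exfalso
    have := cx_lin (Fintype.card F) 0 2 1 1 (by push_cast; linear_combination h1)
    linarith
  · exfalso
    rw [sl2St_one] at h1
    have := cx_lin (Fintype.card F) 2 0 1 1 (by push_cast; linear_combination h1)
    linarith
  · exfalso
    rw [sl2R_one_apply] at h1
    have := cx_lin (Fintype.card F) 2 2 1 1 (by push_cast; linear_combination h1)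
    linarith
  · exact ⟨γ, h1', h2, hne⟩
  · exfalso
    rw [h] at h1
    have := cx_lin (Fintype.card F) 2 (-2) 1 1 (by push_cast; linear_combination h1)
    linarith
  · exfalso
    have := cx_lin (Fintype.card F) 1 (-1) 1 1 (by push_cast; linear_combination h1 - h)
    linarith

/-- the number of irreducible characters of SL2 of degree (q + 1)/2, q odd -/
theorem sl2_card_deg_half_add [Fintype F] [DecidableEq F] (hodd : Odd (Fintype.card F)) (hq : 5 ≤ Fintype.card F) :
    Nat.card {ψ : IrrCharacter (Matrix.SpecialLinearGroup (Fin 2) F) //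
      2 * (ψ : Matrix.SpecialLinearGroup (Fin 2) F → ℂ) 1 = (Fintype.card F : ℂ) + 1} = 2 := by
  classical
  have : Fintype (MulChar F ℂ) := Fintype.ofFinite _
  obtain ⟨_, γ0, h1, h2⟩ := card_mulChar_sq_eq_one_odd (F := F) hodd
  obtain ⟨χ₁, χ₂, c1, c2, hne, hsum, d1, d2, _⟩ := sl2_order_two_splits hodd γ0 h1 h2
  have hd : ∀ z : ℂ, z = (((Fintype.card F + 1) / 2 : ℕ) : ℂ) → 2 * z = (Fintype.card F : ℂ) + 1 := by
    intro z hz
    obtain ⟨k, hk⟩ := hodd
    have : (Fintype.card F + 1) / 2 = k + 1 := by omega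
    rw [hz, this, hk]
    push_cast
    ring
  rw [Nat.card_eq_two_iff]
  refine ⟨⟨⟨χ₁, c1⟩, hd _ d1⟩, ⟨⟨χ₂, c2⟩, hd _ d2⟩, ?_, ?_⟩
  · intro h
    apply hne
    exact congrArg (fun x : {ψ : IrrCharacter (Matrix.SpecialLinearGroup (Fin 2) F) //
      2 * (ψ : Matrix.SpecialLinearGroup (Fin 2) F → ℂ) 1 = (Fintype.card F : ℂ) + 1} => (x.1 : Matrix.SpecialLinearGroup (Fin 2) F → ℂ)) h
  · ext ⟨ψ, hψ⟩
    simp only [Set.mem_insert_iff, Set.mem_singleton_iff, Set.mem_univ, iff_true]
    obtain ⟨γ, g1, g2, gne⟩ := sl2_deg_half_add hq ψ.2 hψ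
    have hγ : γ = γ0 := mulChar_order_two_unique g1 g2 h1 h2
    subst hγ
    change classInner (indFun (sl2Borel F) (sl2BorelChar γ)) _ ≠ 0 at gne
    rw [hsum, classInner_irr_add c1 c2 ψ.2] at gne
    by_cases e1 : χ₁ = ψ
    · left
      apply Subtype.ext
      apply Subtype.ext
      exact e1.symm
    · by_cases e2 : χ₂ = ψ
      · right
        apply Subtype.ext
        apply Subtype.ext
        exact e2.symm
      · rw [if_neg e1, if_neg e2] at gne
        norm_num at gne

theorem sl2_odd_arith (k a b : ℕ) (hk : 2 ≤ k)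
    (E1 : 2 * k + 5 = 1 + (1 + ((k - 1) + (2 + (a + b)))))
    (E2 : (2 * k + 1) * ((2 * k + 1) ^ 2 - 1) = 1 * 1 ^ 2 + (1 * (2 * k + 1) ^ 2 + ((k - 1) * (2 * k + 2) ^ 2 + (2 * (k + 1) ^ 2 + (a * (2 * k) ^ 2 + b * k ^ 2))))) :
    a = k ∧ b = 2 := by
  obtain ⟨j, rfl⟩ : ∃ j, k = j + 2 := ⟨k - 2, by omega⟩
  have e1 : (2 * (j + 2) + 1) ^ 2 - 1 = 4 * (j + 2) ^ 2 + 4 * (j + 2) := by
    have : (2 * (j + 2) + 1) ^ 2 = 4 * (j + 2) ^ 2 + 4 * (j + 2) + 1 := by ring
    omega
  have e2 : j + 2 - 1 = j + 1 := by omega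
  rw [e1, e2] at E2
  rw [e2] at E1
  have h1 : a + b = j + 4 := by omega
  have h2 : (j + 2) ^ 2 * (4 * a + b) = (j + 2) ^ 2 * (4 * (j + 2) + 2) := by
    zify at E2 ⊢
    linear_combination -E2
  have h3 : 4 * a + b = 4 * (j + 2) + 2 := Nat.eq_of_mul_eq_mul_left (by positivity) h2
  omega

/-- S2299 -/
theorem sl2_degrees_odd [Fintype F] (hodd : Odd (Fintype.card F)) :
    (∀ χ : Matrix.SpecialLinearGroup (Fin 2) F → ℂ, Cfsg.IsIrrCharacter (Matrix.SpecialLinearGroup (Fin 2) F) χ →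
      χ 1 = 1 ∨ χ 1 = (Fintype.card F : ℂ) ∨ χ 1 = (Fintype.card F : ℂ) + 1 ∨ χ 1 = (Fintype.card F : ℂ) - 1 ∨
        χ 1 = (((Fintype.card F + 1) / 2 : ℕ) : ℂ) ∨ χ 1 = (((Fintype.card F - 1) / 2 : ℕ) : ℂ)) ∧
    (5 ≤ Fintype.card F →
      Nat.card {χ : Cfsg.IrrCharacter (Matrix.SpecialLinearGroup (Fin 2) F) // (χ : Matrix.SpecialLinearGroup (Fin 2) F → ℂ) 1 = 1} = 1 ∧
      Nat.card {χ : Cfsg.IrrCharacter (Matrix.SpecialLinearGroup (Fin 2) F) // (χ : Matrix.SpecialLinearGroup (Fin 2) F → ℂ) 1 = (Fintype.card F : ℂ)} = 1 ∧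
      Nat.card {χ : Cfsg.IrrCharacter (Matrix.SpecialLinearGroup (Fin 2) F) // (χ : Matrix.SpecialLinearGroup (Fin 2) F → ℂ) 1 = (Fintype.card F : ℂ) + 1} = (Fintype.card F - 3) / 2 ∧
      Nat.card {χ : Cfsg.IrrCharacter (Matrix.SpecialLinearGroup (Fin 2) F) // (χ : Matrix.SpecialLinearGroup (Fin 2) F → ℂ) 1 = (Fintype.card F : ℂ) - 1} = (Fintype.card F - 1) / 2 ∧
      Nat.card {χ : Cfsg.IrrCharacter (Matrix.SpecialLinearGroup (Fin 2) F) // (χ : Matrix.SpecialLinearGroup (Fin 2) F → ℂ) 1 = (((Fintype.card F + 1) / 2 : ℕ) : ℂ)} = 2 ∧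
      Nat.card {χ : Cfsg.IrrCharacter (Matrix.SpecialLinearGroup (Fin 2) F) // (χ : Matrix.SpecialLinearGroup (Fin 2) F → ℂ) 1 = (((Fintype.card F - 1) / 2 : ℕ) : ℂ)} = 2) := by
  classical
  obtain ⟨k, hk⟩ := hodd
  have hodd : Odd (Fintype.card F) := ⟨k, hk⟩
  have e1 : (Fintype.card F + 1) / 2 = k + 1 := by omega
  have e2 : (Fintype.card F - 1) / 2 = k := by omega
  have e3 : (Fintype.card F - 3) / 2 = k - 1 := by omega
  rw [e1, e2, e3]
  -- degree as a natural number
  have hdegN : ∀ χ : Matrix.SpecialLinearGroup (Fin 2) F → ℂ, Cfsg.IsIrrCharacter (Matrix.SpecialLinearGroup (Fin 2) F) χ →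
      charDegree χ = 1 ∨ charDegree χ = 2 * k + 1 ∨ charDegree χ = 2 * k + 2 ∨ charDegree χ = k + 1 ∨
        charDegree χ = 2 * k ∨ charDegree χ = k := by
    intro χ hχ
    have hc := helper24.char_charDegree_cast (helper24.irr_isCharacter hχ)
    rcases sl2_degree_cases hχ with h | h | h | ⟨_, h⟩ | h | h <;> rw [← hc] at h <;> try rw [hk] at h
    · left; exact_mod_cast h
    · right; left; exact_mod_cast h
    · right; right; left; exact_mod_cast h
    · right; right; right; left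
      have : 2 * charDegree χ = 2 * k + 1 + 1 := by exact_mod_cast h
      omega
    · right; right; right; right; left
      have : (charDegree χ : ℂ) + 1 = ((2 * k + 1 : ℕ) : ℂ) := by rw [h]; ring
      have : charDegree χ + 1 = 2 * k + 1 := by exact_mod_cast this
      omega
    · right; right; right; right; right
      have : 2 * (charDegree χ : ℂ) + 1 = ((2 * k + 1 : ℕ) : ℂ) := by rw [h]; ring
      have : 2 * charDegree χ + 1 = 2 * k + 1 := by exact_mod_cast this
      omega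
  constructor
  · intro χ hχ
    have hc := helper24.char_charDegree_cast (helper24.irr_isCharacter hχ)
    rw [← hc, hk]
    rcases hdegN χ hχ with h | h | h | h | h | h <;> rw [h]
    · left; norm_num
    · right; left; rfl
    · right; right; left; push_cast; ring
    · right; right; right; right; left; rfl
    · right; right; right; left; push_cast; ring
    · right; right; right; right; right; rfl
  · intro hq
    have hk2 : 2 ≤ k := by omega
    have : Fintype (IrrCharacter (Matrix.SpecialLinearGroup (Fin 2) F)) := Fintype.ofFinite _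
    have : Fintype (MulChar F ℂ) := Fintype.ofFinite _
    let cnt : ℕ → ℕ := fun n => (Finset.univ.filter (fun ψ : IrrCharacter (Matrix.SpecialLinearGroup (Fin 2) F) =>
      charDegree (ψ : Matrix.SpecialLinearGroup (Fin 2) F → ℂ) = n)).card
    have c1 : cnt 1 = 1 := by
      have := natCard_subtype_eq_one (p := fun χ : Cfsg.IrrCharacter (Matrix.SpecialLinearGroup (Fin 2) F) => (χ : Matrix.SpecialLinearGroup (Fin 2) F → ℂ) 1 = 1)
        ⟨fun _ => 1, isIrrCharacter_const_one _⟩ rfl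
        (fun b hb => Subtype.ext (sl2_deg_one_unique (by omega) b.2 hb))
      rw [natCard_deg (1 : ℂ) 1 (by norm_num)] at this
      exact this
    have cq : cnt (2 * k + 1) = 1 := by
      have := natCard_subtype_eq_one (p := fun χ : Cfsg.IrrCharacter (Matrix.SpecialLinearGroup (Fin 2) F) => (χ : Matrix.SpecialLinearGroup (Fin 2) F → ℂ) 1 = (Fintype.card F : ℂ))
        ⟨sl2St, sl2St_irr⟩ sl2St_one
        (fun b hb => Subtype.ext (sl2_deg_q_unique b.2 hb))
      rw [natCard_deg (Fintype.card F : ℂ) (2 * k + 1) (by rw [hk])] at this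
      exact this
    have cq1 : cnt (2 * k + 2) = k - 1 := by
      have h1 := sl2_card_deg_q_add_one (F := F)
      rw [(card_mulChar_sq_eq_one_odd hodd).1, natCard_deg ((Fintype.card F : ℂ) + 1) (2 * k + 2) (by rw [hk]; push_cast; ring)] at h1
      change 2 * cnt (2 * k + 2) = _ at h1
      omega
    have ch : cnt (k + 1) = 2 := by
      have h1 := sl2_card_deg_half_add hodd hq
      rw [Nat.card_eq_fintype_card, Fintype.card_subtype] at h1
      rw [← h1]
      change (Finset.univ.filter _).card = (Finset.univ.filter _).card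
      congr 1
      apply Finset.filter_congr
      intro ψ _
      rw [← helper24.char_charDegree_cast (helper24.irr_isCharacter ψ.2), hk]
      constructor
      · intro h; rw [h]; push_cast; ring
      · intro h
        have : 2 * charDegree (ψ : Matrix.SpecialLinearGroup (Fin 2) F → ℂ) = 2 * k + 1 + 1 := by exact_mod_cast h
        omega
    -- partition
    let t : Finset ℕ := {1, 2 * k + 1, 2 * k + 2, k + 1, 2 * k, k}
    have hmaps : ∀ ψ ∈ (Finset.univ : Finset (IrrCharacter (Matrix.SpecialLinearGroup (Fin 2) F))),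
        charDegree (ψ : Matrix.SpecialLinearGroup (Fin 2) F → ℂ) ∈ t := by
      intro ψ _
      simp only [t, Finset.mem_insert, Finset.mem_singleton]
      exact hdegN ψ.1 ψ.2
    have hcard : Fintype.card (IrrCharacter (Matrix.SpecialLinearGroup (Fin 2) F)) = 2 * k + 5 := by
      rw [← Nat.card_eq_fintype_card, helper24.card_irr_eq_card_conjClasses, card_conjClasses_sl2_odd hodd, hk]
    have hpart := Finset.card_eq_sum_card_fiberwise hmaps
    have hsq := Finset.sum_fiberwise_of_maps_to hmaps (fun ψ => charDegree (ψ : Matrix.SpecialLinearGroup (Fin 2) F → ℂ) ^ 2)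
    have hsq' : ∀ n ∈ t, ∑ ψ ∈ Finset.univ.filter (fun ψ : IrrCharacter (Matrix.SpecialLinearGroup (Fin 2) F) =>
        charDegree (ψ : Matrix.SpecialLinearGroup (Fin 2) F → ℂ) = n), charDegree (ψ : Matrix.SpecialLinearGroup (Fin 2) F → ℂ) ^ 2 = cnt n * n ^ 2 := by
      intro n _
      rw [Finset.sum_congr rfl (fun ψ hψ => by rw [(Finset.mem_filter.mp hψ).2]), Finset.sum_const, smul_eq_mul]
    rw [Finset.sum_congr rfl hsq', helper24.sum_irr_degree_sq, card_SL2, hk] at hsq
    simp only [t] at hpart hsq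
    rw [Finset.sum_insert (by simp; omega), Finset.sum_insert (by simp; omega),
      Finset.sum_insert (by simp; omega), Finset.sum_insert (by simp; omega),
      Finset.sum_insert (by simp; omega), Finset.sum_singleton] at hpart hsq
    rw [Finset.card_univ, hcard] at hpart
    change 2 * k + 5 = cnt 1 + (cnt (2 * k + 1) + (cnt (2 * k + 2) + (cnt (k + 1) + (cnt (2 * k) + cnt k)))) at hpart
    rw [c1, cq, cq1, ch] at hpart hsq
    obtain ⟨ha, hb⟩ := sl2_odd_arith k (cnt (2 * k)) (cnt k) hk2 hpart hsq.symm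
    refine ⟨?_, ?_, ?_, ?_, ?_, ?_⟩
    · rw [natCard_deg (1 : ℂ) 1 (by norm_num)]; exact c1
    · rw [natCard_deg (Fintype.card F : ℂ) (2 * k + 1) (by rw [hk])]; exact cq
    · rw [natCard_deg ((Fintype.card F : ℂ) + 1) (2 * k + 2) (by rw [hk]; push_cast; ring)]; exact cq1
    · rw [natCard_deg ((Fintype.card F : ℂ) - 1) (2 * k) (by rw [hk]; push_cast; ring)]; exact ha
    · rw [natCard_deg (((k + 1 : ℕ) : ℂ)) (k + 1) rfl]; exact ch
    · rw [natCard_deg ((k : ℕ) : ℂ) k rfl]; exact hb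

end Cfsg.Agent.helper12
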