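import Cfsg.Agent.Lib_helper12_McKay2
import Cfsg.Agent.Lib_helper12_Sl2Count
import Cfsg.Agent.Lib_helper12_Sl2Odd

set_option autoImplicit false

namespace Cfsg.Agent.helper12

open Cfsg Matrix

variable {F : Type*} [Field F]

theorem natCard_deg_eq {G : Type*} [Group G] (v : ℂ) (n : ℕ) (h : v = n) :
    Nat.card {ψ : IrrCharacter G // charDegree (ψ : G → ℂ) = n} = Nat.card {ψ : IrrCharacter G // (ψ : G → ℂ) 1 = v} := by
  apply Nat.card_congr
  apply Equiv.subtypeEquivRight
  intro ψ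
  rw [h, ← helper24.char_charDegree_cast (helper24.irr_isCharacter ψ.2)]
  exact Nat.cast_inj.symm

theorem sl2_degree_nat_cases [Fintype F] (hodd : Odd (Fintype.card F))
    (χ : IrrCharacter (Matrix.SpecialLinearGroup (Fin 2) F)) :
    charDegree (χ : Matrix.SpecialLinearGroup (Fin 2) F → ℂ) = 1 ∨
    charDegree (χ : Matrix.SpecialLinearGroup (Fin 2) F → ℂ) = Fintype.card F ∨
    charDegree (χ : Matrix.SpecialLinearGroup (Fin 2) F → ℂ) = Fintype.card F + 1 ∨
    charDegree (χ : Matrix.SpecialLinearGroup (Fin 2) F → ℂ) = Fintype.card F - 1 ∨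
    charDegree (χ : Matrix.SpecialLinearGroup (Fin 2) F → ℂ) = (Fintype.card F + 1) / 2 ∨
    charDegree (χ : Matrix.SpecialLinearGroup (Fin 2) F → ℂ) = (Fintype.card F - 1) / 2 := by
  have hq1 : 1 ≤ Fintype.card F := Fintype.card_pos
  rcases (sl2_degrees_odd hodd).1 χ.1 χ.2 with h | h | h | h | h | h
  · left
    exact helper24.charDegree_natCast _ 1 (by rw [h]; simp)
  · right; left
    exact helper24.charDegree_natCast _ _ h
  · right; right; left
    exact helper24.charDegree_natCast _ _ (by rw [h]; push_cast; ring)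
  · right; right; right; left
    exact helper24.charDegree_natCast _ _ (by rw [h, Nat.cast_sub hq1]; simp)
  · right; right; right; right; left
    exact helper24.charDegree_natCast _ _ h
  · right; right; right; right; right
    exact helper24.charDegree_natCast _ _ h

theorem sl2_card_irr_pred [Fintype F] (hodd : Odd (Fintype.card F)) (hq : 5 ≤ Fintype.card F)
    (P : ℕ → Prop) [DecidablePred P] :
    Nat.card {χ : IrrCharacter (Matrix.SpecialLinearGroup (Fin 2) F) //
        P (charDegree (χ : Matrix.SpecialLinearGroup (Fin 2) F → ℂ))} =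
      (if P 1 then 1 else 0) + ((if P (Fintype.card F) then 1 else 0) +
      ((if P (Fintype.card F + 1) then (Fintype.card F - 3) / 2 else 0) +
      ((if P (Fintype.card F - 1) then (Fintype.card F - 1) / 2 else 0) +
      ((if P ((Fintype.card F + 1) / 2) then 2 else 0) +
      (if P ((Fintype.card F - 1) / 2) then 2 else 0))))) := by
  classical
  haveI : Fintype (IrrCharacter (Matrix.SpecialLinearGroup (Fin 2) F)) := Fintype.ofFinite _
  have hq1 : 1 ≤ Fintype.card F := Fintype.card_pos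
  obtain ⟨c1, c2, c3, c4, c5, c6⟩ := (sl2_degrees_odd hodd).2 hq
  rw [← natCard_deg_eq (1 : ℂ) 1 (by simp)] at c1
  rw [← natCard_deg_eq (Fintype.card F : ℂ) (Fintype.card F) rfl] at c2
  rw [← natCard_deg_eq ((Fintype.card F : ℂ) + 1) (Fintype.card F + 1) (by push_cast; ring)] at c3
  rw [← natCard_deg_eq ((Fintype.card F : ℂ) - 1) (Fintype.card F - 1) (by rw [Nat.cast_sub hq1]; simp)] at c4
  rw [← natCard_deg_eq _ ((Fintype.card F + 1) / 2) rfl] at c5
  rw [← natCard_deg_eq _ ((Fintype.card F - 1) / 2) rfl] at c6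
  obtain ⟨k, hk⟩ := hodd
  have hD : ∀ χ : IrrCharacter (Matrix.SpecialLinearGroup (Fin 2) F),
      charDegree (χ : Matrix.SpecialLinearGroup (Fin 2) F → ℂ) ∈
        ({1, Fintype.card F, Fintype.card F + 1, Fintype.card F - 1, (Fintype.card F + 1) / 2,
          (Fintype.card F - 1) / 2} : Finset ℕ) := by
    intro χ
    simp only [Finset.mem_insert, Finset.mem_singleton]
    exact sl2_degree_nat_cases ⟨k, hk⟩ χ
  rw [card_pred_eq_sum (fun χ : IrrCharacter (Matrix.SpecialLinearGroup (Fin 2) F) =>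
    charDegree (χ : Matrix.SpecialLinearGroup (Fin 2) F → ℂ)) _ hD P]
  rw [Finset.sum_insert (by simp only [Finset.mem_insert, Finset.mem_singleton]; omega),
    Finset.sum_insert (by simp only [Finset.mem_insert, Finset.mem_singleton]; omega),
    Finset.sum_insert (by simp only [Finset.mem_insert, Finset.mem_singleton]; omega),
    Finset.sum_insert (by simp only [Finset.mem_insert, Finset.mem_singleton]; omega),
    Finset.sum_insert (by simp only [Finset.mem_singleton]; omega),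
    Finset.sum_singleton, c1, c2, c3, c4, c5, c6]

/-- the number of irreducible characters of degree prime to the defining characteristic -/
theorem sl2_card_irr_char [Fintype F] (hodd : Odd (Fintype.card F)) (ℓ : ℕ) [Fact ℓ.Prime]
    (hℓ : ℓ ∣ Fintype.card F) :
    Nat.card {χ : IrrCharacter (Matrix.SpecialLinearGroup (Fin 2) F) //
        ¬ ℓ ∣ charDegree (χ : Matrix.SpecialLinearGroup (Fin 2) F → ℂ)} = Fintype.card F + 3 := by
  classical
  have hℓp : ℓ.Prime := Fact.out
  have hq1 : 1 ≤ Fintype.card F := Fintype.card_pos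
  rw [card_irr_not_eq_sub (fun d => ℓ ∣ d), card_conjClasses_sl2_odd hodd]
  have h1 : Nat.card {χ : IrrCharacter (Matrix.SpecialLinearGroup (Fin 2) F) //
      ℓ ∣ charDegree (χ : Matrix.SpecialLinearGroup (Fin 2) F → ℂ)} = 1 := by
    have hSt : charDegree (sl2St (F := F)) = Fintype.card F :=
      helper24.charDegree_natCast _ _ sl2St_one
    apply natCard_subtype_eq_one (⟨sl2St, sl2St_irr⟩ : IrrCharacter (Matrix.SpecialLinearGroup (Fin 2) F))
    · show ℓ ∣ charDegree (sl2St (F := F))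
      rw [hSt]; exact hℓ
    · intro χ hχ
      have hn1 : ¬ ℓ ∣ 1 := fun h => hℓp.one_lt.ne' (Nat.dvd_one.mp h)
      obtain ⟨k, hk⟩ := hodd
      have hdq : charDegree (χ : Matrix.SpecialLinearGroup (Fin 2) F → ℂ) = Fintype.card F := by
        rcases sl2_degree_nat_cases ⟨k, hk⟩ χ with h | h | h | h | h | h
        · rw [h] at hχ; exact absurd hχ hn1
        · exact h
        · rw [h] at hχ
          exact absurd ((Nat.dvd_add_right hℓ).mp hχ) hn1
        · rw [h] at hχ
          have h2 : ℓ ∣ Fintype.card F - (Fintype.card F - 1) := Nat.dvd_sub hℓ hχ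
          rw [show Fintype.card F - (Fintype.card F - 1) = 1 by omega] at h2
          exact absurd h2 hn1
        · rw [h] at hχ
          have h2 : ℓ ∣ 2 * ((Fintype.card F + 1) / 2) := Dvd.dvd.mul_left hχ 2
          rw [show 2 * ((Fintype.card F + 1) / 2) = Fintype.card F + 1 by omega] at h2
          exact absurd ((Nat.dvd_add_right hℓ).mp h2) hn1
        · rw [h] at hχ
          have h2 : ℓ ∣ 2 * ((Fintype.card F - 1) / 2) := Dvd.dvd.mul_left hχ 2
          rw [show 2 * ((Fintype.card F - 1) / 2) = Fintype.card F - 1 by omega] at h2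
          have h3 : ℓ ∣ Fintype.card F - (Fintype.card F - 1) := Nat.dvd_sub hℓ h2
          rw [show Fintype.card F - (Fintype.card F - 1) = 1 by omega] at h3
          exact absurd h3 hn1
      apply Subtype.ext
      apply sl2_deg_q_unique χ.2
      rw [← helper24.char_charDegree_cast (helper24.irr_isCharacter χ.2), hdq]
  rw [h1]
  omega

/-- odd prime dividing `q - 1` -/
theorem sl2_card_irr_split [Fintype F] (hodd : Odd (Fintype.card F)) (ℓ : ℕ) [Fact ℓ.Prime]
    (hℓ2 : ℓ ≠ 2) (hℓ : ℓ ∣ Fintype.card F - 1) :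
    2 * Nat.card {χ : IrrCharacter (Matrix.SpecialLinearGroup (Fin 2) F) //
        ¬ ℓ ∣ charDegree (χ : Matrix.SpecialLinearGroup (Fin 2) F → ℂ)} = Fintype.card F + 5 := by
  classical
  have hℓp : ℓ.Prime := Fact.out
  have hn1 : ¬ ℓ ∣ 1 := fun h => hℓp.one_lt.ne' (Nat.dvd_one.mp h)
  have hn2 : ¬ ℓ ∣ 2 := fun h => hℓ2 ((Nat.prime_dvd_prime_iff_eq hℓp Nat.prime_two).mp h)
  have hq2 : 2 ≤ Fintype.card F := Fintype.one_lt_card
  have hℓ3 : 3 ≤ ℓ := by
    have := hℓp.two_le
    omega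
  obtain ⟨k, hk⟩ := hodd
  have hq5 : 5 ≤ Fintype.card F := by
    have h1 := Nat.le_of_dvd (by omega) hℓ
    omega
  rw [sl2_card_irr_pred ⟨k, hk⟩ hq5 (fun d => ¬ ℓ ∣ d)]
  have e1 : Fintype.card F - 1 = 2 * k := by omega
  have e2 : (Fintype.card F + 1) / 2 = k + 1 := by omega
  have e3 : (Fintype.card F - 1) / 2 = k := by omega
  have e4 : (Fintype.card F - 3) / 2 = k - 1 := by omega
  rw [e1] at hℓ
  have hk' : ℓ ∣ k := (Nat.Coprime.dvd_mul_left ((Nat.coprime_primes hℓp Nat.prime_two).mpr hℓ2)).mp hℓ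
  have p2 : ¬ ℓ ∣ Fintype.card F := by
    rw [hk]; intro h
    exact hn1 ((Nat.dvd_add_right hℓ).mp h)
  have p3 : ¬ ℓ ∣ Fintype.card F + 1 := by
    rw [hk]; intro h
    have : ℓ ∣ 2 * k + 2 := h
    exact hn2 ((Nat.dvd_add_right hℓ).mp this)
  have p5 : ¬ ℓ ∣ k + 1 := fun h => hn1 ((Nat.dvd_add_right hk').mp h)
  rw [e2, e3, e4, e1]
  simp only [hn1, p2, p3, hℓ, p5, hk', not_true_eq_false, not_false_eq_true, if_true, if_false]
  omega

/-- odd prime dividing `q + 1` -/
theorem sl2_card_irr_nonsplit [Fintype F] (hodd : Odd (Fintype.card F)) (ℓ : ℕ) [Fact ℓ.Prime]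
    (hℓ2 : ℓ ≠ 2) (hℓ : ℓ ∣ Fintype.card F + 1) :
    2 * Nat.card {χ : IrrCharacter (Matrix.SpecialLinearGroup (Fin 2) F) //
        ¬ ℓ ∣ charDegree (χ : Matrix.SpecialLinearGroup (Fin 2) F → ℂ)} = Fintype.card F + 7 := by
  classical
  have hℓp : ℓ.Prime := Fact.out
  have hn1 : ¬ ℓ ∣ 1 := fun h => hℓp.one_lt.ne' (Nat.dvd_one.mp h)
  have hn2 : ¬ ℓ ∣ 2 := fun h => hℓ2 ((Nat.prime_dvd_prime_iff_eq hℓp Nat.prime_two).mp h)
  have hq2 : 2 ≤ Fintype.card F := Fintype.one_lt_card
  have hℓ3 : 3 ≤ ℓ := by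
    have := hℓp.two_le
    omega
  obtain ⟨k, hk⟩ := hodd
  have e0 : Fintype.card F + 1 = 2 * (k + 1) := by omega
  rw [e0] at hℓ
  have hk' : ℓ ∣ k + 1 := (Nat.Coprime.dvd_mul_left ((Nat.coprime_primes hℓp Nat.prime_two).mpr hℓ2)).mp hℓ
  have hq5 : 5 ≤ Fintype.card F := by
    have h1 := Nat.le_of_dvd (by omega) hk'
    omega
  rw [sl2_card_irr_pred ⟨k, hk⟩ hq5 (fun d => ¬ ℓ ∣ d)]
  have e1 : Fintype.card F - 1 = 2 * k := by omega
  have e2 : (Fintype.card F + 1) / 2 = k + 1 := by omega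
  have e3 : (Fintype.card F - 1) / 2 = k := by omega
  have e4 : (Fintype.card F - 3) / 2 = k - 1 := by omega
  have p6 : ¬ ℓ ∣ k := fun h => hn1 ((Nat.dvd_add_right h).mp hk')
  have p4 : ¬ ℓ ∣ 2 * k := by
    intro h
    exact p6 ((Nat.Coprime.dvd_mul_left ((Nat.coprime_primes hℓp Nat.prime_two).mpr hℓ2)).mp h)
  have p2 : ¬ ℓ ∣ Fintype.card F := by
    intro h
    have h2 : ℓ ∣ Fintype.card F + 1 := by rw [e0]; exact hℓ
    exact hn1 ((Nat.dvd_add_right h).mp h2)
  rw [e2, e3, e4, e0, e1]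
  simp only [hn1, p2, p4, hℓ, p6, hk', not_true_eq_false, not_false_eq_true, if_true, if_false]
  omega

/-- the prime 2 -/
theorem sl2_card_irr_two [Fintype F] (hodd : Odd (Fintype.card F)) (hq5 : 5 ≤ Fintype.card F) :
    Nat.card {χ : IrrCharacter (Matrix.SpecialLinearGroup (Fin 2) F) //
        ¬ 2 ∣ charDegree (χ : Matrix.SpecialLinearGroup (Fin 2) F → ℂ)} = 4 := by
  classical
  obtain ⟨k, hk⟩ := hodd
  rw [sl2_card_irr_pred ⟨k, hk⟩ hq5 (fun d => ¬ 2 ∣ d)]
  have e0 : Fintype.card F + 1 = 2 * (k + 1) := by omega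
  have e1 : Fintype.card F - 1 = 2 * k := by omega
  have e2 : (Fintype.card F + 1) / 2 = k + 1 := by omega
  have e3 : (Fintype.card F - 1) / 2 = k := by omega
  have e4 : (Fintype.card F - 3) / 2 = k - 1 := by omega
  have hn1 : ¬ 2 ∣ 1 := by decide
  have p2 : ¬ 2 ∣ Fintype.card F := by omega
  have p3 : 2 ∣ 2 * (k + 1) := dvd_mul_right 2 _
  have p4 : 2 ∣ 2 * k := dvd_mul_right 2 _
  rw [e2, e3, e4, e0, e1]
  simp only [hn1, p2, p3, p4, not_true_eq_false, not_false_eq_true, if_true, if_false]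
  by_cases h : 2 ∣ k
  · have h' : ¬ 2 ∣ k + 1 := by omega
    simp only [h, h', not_true_eq_false, not_false_eq_true, if_true, if_false]
  · have h' : 2 ∣ k + 1 := by omega
    simp only [h, h', not_true_eq_false, not_false_eq_true, if_true, if_false]

end Cfsg.Agent.helper12
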