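import Cfsg.Agent.Lib_helper12_Sl2Odd
import Cfsg.Agent.Lib_helper12_Card

set_option autoImplicit false

namespace Cfsg.Agent.helper12

open Matrix Polynomial

variable {F : Type*} [Field F]

theorem sq_sub_one_eq_zero_of_trace_two {M : Matrix (Fin 2) (Fin 2) F} (ht : M.trace = 2) (hd : M.det = 1) :
    (M - 1) * (M - 1) = 0 := by
  rw [Matrix.trace_fin_two] at ht
  rw [Matrix.det_fin_two] at hd
  ext i j
  fin_cases i <;> fin_cases j <;> simp [Matrix.mul_apply, Fin.sum_univ_two]
  · linear_combination (M 0 0) * ht - hd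
  · linear_combination (M 0 1) * ht
  · linear_combination (M 1 0) * ht
  · linear_combination (M 1 1) * ht - hd

theorem sl2_orderOf_eq_char_iff (p : ℕ) [Fact p.Prime] [CharP F p] (g : Matrix.SpecialLinearGroup (Fin 2) F) :
    orderOf g = p ↔ (g ≠ 1 ∧ (g : Matrix (Fin 2) (Fin 2) F).trace = 2) := by
  constructor
  · intro hg
    constructor
    · rintro rfl
      rw [orderOf_one] at hg
      exact (Fact.out : p.Prime).one_lt.ne hg
    · have hxp : (g : Matrix (Fin 2) (Fin 2) F) ^ (p ^ 1) = 1 := by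
        have := pow_orderOf_eq_one g
        rw [hg] at this
        have := congrArg Subtype.val this
        simpa using this
      exact (unipotent2_trace_det (isNilpotent_sub_one_of_pow_char p hxp)).1
  · rintro ⟨h1, h2⟩
    have hN := sq_sub_one_eq_zero_of_trace_two h2 g.2
    have hp2 : 2 ≤ p := (Fact.out : p.Prime).two_le
    have hpow : (g : Matrix (Fin 2) (Fin 2) F) ^ p = 1 := by
      have e : (g : Matrix (Fin 2) (Fin 2) F) = ((g : Matrix (Fin 2) (Fin 2) F) - 1) + 1 := by simp
      rw [e, add_pow_char_of_commute _ (Commute.one_right _)]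
      obtain ⟨k, rfl⟩ : ∃ k, p = k + 2 := ⟨p - 2, by omega⟩
      rw [pow_add, pow_two, hN]
      simp
    have hgp : g ^ p = 1 := by
      apply Subtype.ext
      simpa using hpow
    exact orderOf_eq_prime hgp h1

theorem card_centralizer_sl2Upper [Fintype F] (hF : Fintype.card F % 2 = 1) {b : F} (hb : b ≠ 0) :
    Nat.card (Subgroup.centralizer ({sl2Upper 1 (one_mul 1) b} : Set (Matrix.SpecialLinearGroup (Fin 2) F))) = 2 * Fintype.card F := by
  classical
  have h2 := two_ne_zero_of_card_odd hF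
  have hne : ¬ ((-1 : F) = 1) := by
    intro h4
    apply h2
    linear_combination -h4
  have hmem : ∀ x : Matrix.SpecialLinearGroup (Fin 2) F,
      x ∈ Subgroup.centralizer ({sl2Upper 1 (one_mul 1) b} : Set (Matrix.SpecialLinearGroup (Fin 2) F)) ↔
      ((x : Matrix (Fin 2) (Fin 2) F) 1 0 = 0 ∧ (x : Matrix (Fin 2) (Fin 2) F) 0 0 = (x : Matrix (Fin 2) (Fin 2) F) 1 1) := by
    intro x
    rw [Subgroup.mem_centralizer_singleton_iff]
    constructor
    · intro h
      have h' := congrArg Subtype.val h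
      simp only [Matrix.SpecialLinearGroup.coe_mul] at h'
      have e00 := congrFun (congrFun h' 0) 0
      have e01 := congrFun (congrFun h' 0) 1
      simp [sl2Upper, Matrix.mul_apply, Fin.sum_univ_two] at e00 e01
      have h10 : (x : Matrix (Fin 2) (Fin 2) F) 1 0 = 0 := e00.resolve_left hb
      refine ⟨h10, ?_⟩
      have : b * ((x : Matrix (Fin 2) (Fin 2) F) 0 0 - (x : Matrix (Fin 2) (Fin 2) F) 1 1) = 0 := by linear_combination e01
      exact sub_eq_zero.mp ((mul_eq_zero.mp this).resolve_left hb)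
    · rintro ⟨e1, e2⟩
      apply Subtype.ext
      simp only [Matrix.SpecialLinearGroup.coe_mul]
      ext i j
      fin_cases i <;> fin_cases j <;> simp [sl2Upper, Matrix.mul_apply, Fin.sum_univ_two, e1, e2]
      ring
  let ε : Bool → F := fun e => if e then 1 else -1
  have hε : ∀ e, ε e * ε e = 1 := by intro e; cases e <;> simp [ε]
  let φ : Bool × F → Subgroup.centralizer ({sl2Upper 1 (one_mul 1) b} : Set (Matrix.SpecialLinearGroup (Fin 2) F)) := fun ey =>
    ⟨sl2Upper (ε ey.1) (hε ey.1) ey.2, (hmem _).mpr ⟨by simp [sl2Upper], by simp [sl2Upper]⟩⟩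
  have hφ : Function.Bijective φ := by
    constructor
    · rintro ⟨e, y⟩ ⟨e', y'⟩ hab
      have := congrArg (fun z : Subgroup.centralizer ({sl2Upper 1 (one_mul 1) b} : Set (Matrix.SpecialLinearGroup (Fin 2) F)) => ((z : Matrix.SpecialLinearGroup (Fin 2) F) : Matrix (Fin 2) (Fin 2) F)) hab
      simp only [φ, sl2Upper] at this
      have e0 := congrFun (congrFun this 0) 0
      have e1 := congrFun (congrFun this 0) 1
      simp at e0 e1
      have : e = e' := by
        cases e <;> cases e' <;> simp [ε] at e0 ⊢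
        · first | exact hne e0 | exact hne e0.symm
        · first | exact hne e0 | exact hne e0.symm
      rw [this, e1]
    · rintro ⟨x, hx⟩
      obtain ⟨e1, e2⟩ := (hmem x).mp hx
      have hd := x.2
      rw [Matrix.det_fin_two, e1, ← e2] at hd
      have : ((x : Matrix (Fin 2) (Fin 2) F) 0 0 - 1) * ((x : Matrix (Fin 2) (Fin 2) F) 0 0 + 1) = 0 := by
        linear_combination hd
      have hx00 : ∃ e, (x : Matrix (Fin 2) (Fin 2) F) 0 0 = ε e := by
        rcases mul_eq_zero.mp this with h1 | h1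
        · exact ⟨true, by simp [ε]; exact sub_eq_zero.mp h1⟩
        · exact ⟨false, by simp [ε]; exact eq_neg_of_add_eq_zero_left h1⟩
      obtain ⟨e, he⟩ := hx00
      refine ⟨(e, (x : Matrix (Fin 2) (Fin 2) F) 0 1), ?_⟩
      apply Subtype.ext
      apply Subtype.ext
      ext i j
      fin_cases i <;> fin_cases j <;> simp [φ, sl2Upper, he, e1]
      rw [← e2, he]
  rw [← Nat.card_congr (Equiv.ofBijective φ hφ), Nat.card_eq_fintype_card, Fintype.card_prod, Fintype.card_bool]

theorem card_class_sl2Upper [Fintype F] (hF : Fintype.card F % 2 = 1) {b : F} (hb : b ≠ 0) :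
    Nat.card (ConjClasses.mk (sl2Upper 1 (one_mul 1) b : Matrix.SpecialLinearGroup (Fin 2) F)).carrier = (Fintype.card F ^ 2 - 1) / 2 := by
  have h1 := card_class_mul_card_centralizer (sl2Upper 1 (one_mul 1) b : Matrix.SpecialLinearGroup (Fin 2) F)
  rw [card_centralizer_sl2Upper hF hb, card_SL2] at h1
  have hq : 0 < Fintype.card F := Fintype.card_pos
  have h3 : (Nat.card (ConjClasses.mk (sl2Upper 1 (one_mul 1) b : Matrix.SpecialLinearGroup (Fin 2) F)).carrier * 2) * Fintype.card F
      = (Fintype.card F ^ 2 - 1) * Fintype.card F := by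
    rw [mul_comm (Fintype.card F ^ 2 - 1)]; rw [← h1]; ring
  have h4 := Nat.eq_of_mul_eq_mul_right hq h3
  omega

theorem sl2Upper_one_isConj_iff {b b' : F} (hb : b ≠ 0) (hb' : b' ≠ 0) :
    IsConj (sl2Upper 1 (one_mul 1) b : Matrix.SpecialLinearGroup (Fin 2) F) (sl2Upper 1 (one_mul 1) b') ↔ IsSquare (b * b') := by
  constructor
  · intro h
    obtain ⟨c, hc⟩ := isConj_iff.mp h
    have := qf_conj_sl2 c (sl2Upper 1 (one_mul 1) b) ![0, 1]
    rw [hc, qf_sl2Upper, qf_sl2Upper] at this
    simp at this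
    refine ⟨b' * (c : Matrix (Fin 2) (Fin 2) F) 1 1, ?_⟩
    rw [← this]; ring
  · rintro ⟨z, hz⟩
    refine sl2_isConj_of_qf (v := ![0, 1]) (w := (z / b') • ![0, 1]) ?_ ?_ ?_
    · simp [sl2Upper, Matrix.trace_fin_two]
    · rw [qf_sl2Upper]; simpa using hb
    · rw [qf_smul, qf_sl2Upper, qf_sl2Upper]
      simp
      field_simp
      rw [pow_two, ← hz]

theorem sl2Upper_one_orderOf (p : ℕ) [Fact p.Prime] [CharP F p] {b : F} (hb : b ≠ 0) :
    orderOf (sl2Upper 1 (one_mul 1) b : Matrix.SpecialLinearGroup (Fin 2) F) = p := by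
  rw [sl2_orderOf_eq_char_iff]
  constructor
  · intro h
    have := congrArg (fun m : Matrix.SpecialLinearGroup (Fin 2) F => (m : Matrix (Fin 2) (Fin 2) F) 0 1) h
    simp [sl2Upper] at this
    exact hb this
  · simp [sl2Upper, Matrix.trace_fin_two]; norm_num

theorem sl2_unipotent_conj_upper (p : ℕ) [Fact p.Prime] [CharP F p] {g : Matrix.SpecialLinearGroup (Fin 2) F}
    (hg : orderOf g = p) : ∃ b : F, b ≠ 0 ∧ IsConj g (sl2Upper 1 (one_mul 1) b) := by
  obtain ⟨h1, h2⟩ := (sl2_orderOf_eq_char_iff p g).mp hg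
  have hxp : (g : Matrix (Fin 2) (Fin 2) F) ^ (p ^ 1) = 1 := by
    have := pow_orderOf_eq_one g
    rw [hg] at this
    have := congrArg Subtype.val this
    simpa using this
  have hn := isNilpotent_sub_one_of_pow_char p hxp
  have hns : ¬ IsScalar2 (g : Matrix (Fin 2) (Fin 2) F) := by
    intro hs
    exact h1 (Subtype.ext (unipotent2_scalar hn hs))
  obtain ⟨v, hv⟩ := exists_qf_ne_zero hns
  refine ⟨-qf (g : Matrix (Fin 2) (Fin 2) F) v, neg_ne_zero.mpr hv, ?_⟩
  refine sl2_isConj_of_qf (v := v) (w := ![0, 1]) ?_ hv ?_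
  · rw [h2]; simp [sl2Upper, Matrix.trace_fin_two]; norm_num
  · rw [qf_sl2Upper]; simp

theorem sl2_unipotent_facts [Fintype F] (p : ℕ) [Fact p.Prime] [CharP F p] (hp : p ≠ 2) :
    Nat.card {C : ConjClasses (Matrix.SpecialLinearGroup (Fin 2) F) // ∃ g : Matrix.SpecialLinearGroup (Fin 2) F, orderOf g = p ∧ ConjClasses.mk g = C} = 2 ∧
    (∀ g : Matrix.SpecialLinearGroup (Fin 2) F, orderOf g = p → Nat.card (ConjClasses.mk g).carrier = (Fintype.card F ^ 2 - 1) / 2) := by
  classical
  have hchar : ringChar F ≠ 2 := by rw [ringChar.eq F p]; exact hp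
  have hF : Fintype.card F % 2 = 1 := by
    have := (not_congr (FiniteField.even_card_iff_char_two (F := F))).mp hchar
    omega
  constructor
  · obtain ⟨ν, hν⟩ := FiniteField.exists_nonsquare (F := F) hchar
    have hν0 : ν ≠ 0 := by rintro rfl; exact hν ⟨0, by simp⟩
    rw [Nat.card_eq_two_iff]
    refine ⟨⟨ConjClasses.mk (sl2Upper 1 (one_mul 1) 1), _, sl2Upper_one_orderOf p one_ne_zero, rfl⟩,
      ⟨ConjClasses.mk (sl2Upper 1 (one_mul 1) ν), _, sl2Upper_one_orderOf p hν0, rfl⟩, ?_, ?_⟩
    · intro h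
      have := congrArg Subtype.val h
      simp only [ConjClasses.mk_eq_mk_iff_isConj] at this
      rw [sl2Upper_one_isConj_iff one_ne_zero hν0, one_mul] at this
      exact hν this
    · ext ⟨C, g, hg, rfl⟩
      simp only [Set.mem_insert_iff, Set.mem_singleton_iff, Set.mem_univ, iff_true, Subtype.mk.injEq,
        ConjClasses.mk_eq_mk_iff_isConj]
      obtain ⟨b, hb, hgb⟩ := sl2_unipotent_conj_upper p hg
      by_cases hsq : IsSquare b
      · left
        exact hgb.trans ((sl2Upper_one_isConj_iff hb one_ne_zero).mpr (by rwa [mul_one]))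
      · right
        refine hgb.trans ((sl2Upper_one_isConj_iff hb hν0).mpr ?_)
        rw [← quadraticChar_one_iff_isSquare (mul_ne_zero hb hν0), map_mul,
          quadraticChar_neg_one_iff_not_isSquare.mpr hsq, quadraticChar_neg_one_iff_not_isSquare.mpr hν]
        norm_num
  · intro g hg
    obtain ⟨b, hb, hgb⟩ := sl2_unipotent_conj_upper p hg
    rw [ConjClasses.mk_eq_mk_iff_isConj.mpr hgb]
    exact card_class_sl2Upper hF hb

end Cfsg.Agent.helper12
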