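import Cfsg.Agent.Lib_helper12_Klein5
import Cfsg.Agent.Lib_helper12_Sl2Unip

set_option autoImplicit false
set_option linter.unusedSectionVars false

namespace Cfsg.Agent.helper12

open Matrix Cfsg

variable {F : Type*} [Field F] [Fintype F]

/-- the eigenvalue equation -/
theorem sl2_eigenvalue_eq (x : Matrix.SpecialLinearGroup (Fin 2) F) {c : F} {v : Fin 2 → F} (hv : v ≠ 0)
    (hcv : (x : Matrix (Fin 2) (Fin 2) F).mulVec v = c • v) :
    c * c - (x : Matrix (Fin 2) (Fin 2) F).trace * c + 1 = 0 := by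
  have hdet : ((x : Matrix (Fin 2) (Fin 2) F) - c • (1 : Matrix (Fin 2) (Fin 2) F)).det = 0 := by
    apply Matrix.exists_mulVec_eq_zero_iff.mp
    refine ⟨v, hv, ?_⟩
    rw [Matrix.sub_mulVec, hcv, Matrix.smul_mulVec, Matrix.one_mulVec, sub_self]
  have hx := x.2
  rw [Matrix.det_fin_two] at hdet hx
  rw [Matrix.trace_fin_two]
  simp only [Matrix.sub_apply, Matrix.smul_apply, Matrix.one_apply_eq, Matrix.one_apply_ne, ne_eq,
    zero_ne_one, one_ne_zero, not_false_eq_true, smul_eq_mul, mul_one, mul_zero, sub_zero,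
    Fin.isValue] at hdet
  linear_combination hdet - hx

theorem sl2UT_trace (a : Fˣ) (b : F) :
    ((sl2UT a b : Matrix.SpecialLinearGroup (Fin 2) F) : Matrix (Fin 2) (Fin 2) F).trace = (a : F) + ((a⁻¹ : Fˣ) : F) := by
  simp [sl2UT, Matrix.trace_fin_two]

/-- order of the centralizer of a split regular element -/
theorem card_sl2_centralizer_split (hodd : Odd (Fintype.card F)) (x : Matrix.SpecialLinearGroup (Fin 2) F)
    (hD : (x : Matrix (Fin 2) (Fin 2) F).trace ^ 2 ≠ 4) (hE : ¬ NoEigen2 (x : Matrix (Fin 2) (Fin 2) F)) :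
    Nat.card (Subgroup.centralizer ({x} : Set (Matrix.SpecialLinearGroup (Fin 2) F))) = Fintype.card F - 1 := by
  unfold NoEigen2 at hE
  push Not at hE
  obtain ⟨c, v, hv, hcv⟩ := hE
  have heq := sl2_eigenvalue_eq x hv hcv
  have hc0 : c ≠ 0 := by
    rintro rfl
    simp at heq
  obtain ⟨a, ha⟩ : ∃ a : Fˣ, (a : F) = c := ⟨Units.mk0 c hc0, rfl⟩
  have hainv : ((a⁻¹ : Fˣ) : F) = c⁻¹ := by rw [Units.val_inv_eq_inv_val, ha]
  have htr : (x : Matrix (Fin 2) (Fin 2) F).trace = c + c⁻¹ := by
    field_simp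
    linear_combination -heq
  have ha2 : (a : F) ^ 2 ≠ 1 := by
    rw [ha]
    intro h1
    apply hD
    rw [htr]
    have : c⁻¹ = c := inv_eq_of_mul_eq_one_right (by rw [← sq]; exact h1)
    rw [this]
    linear_combination 4 * h1
  have hconj : IsConj x (sl2UT a 0) := by
    apply sl2_isConj_of_disc_ne (Nat.odd_iff.mp hodd)
    · rw [sl2UT_trace, ha, hainv, htr]
    · exact hD
  rw [card_centralizer_of_isConj hconj]
  exact card_sl2_diag_centralizer a ha2

theorem sl2_centralizer_negOne_mul (x : Matrix.SpecialLinearGroup (Fin 2) F) :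
    Subgroup.centralizer ({sl2NegOne * x} : Set (Matrix.SpecialLinearGroup (Fin 2) F)) =
      Subgroup.centralizer ({x} : Set (Matrix.SpecialLinearGroup (Fin 2) F)) := by
  ext g
  rw [sl2_mem_centralizer_singleton, sl2_mem_centralizer_singleton]
  have hc : g * sl2NegOne = sl2NegOne * g := Subgroup.mem_center_iff.mp sl2NegOne_mem_center g
  constructor
  · intro h
    have h' : sl2NegOne * (x * g) = sl2NegOne * (g * x) := by
      calc sl2NegOne * (x * g) = sl2NegOne * x * g := by group
        _ = g * (sl2NegOne * x) := h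
        _ = (g * sl2NegOne) * x := by group
        _ = sl2NegOne * (g * x) := by rw [hc]; group
    exact mul_left_cancel h'
  · intro h
    calc sl2NegOne * x * g = sl2NegOne * (x * g) := by group
      _ = sl2NegOne * (g * x) := by rw [h]
      _ = (sl2NegOne * g) * x := by group
      _ = g * (sl2NegOne * x) := by rw [← hc]; group

theorem sl2NegOne_mul_trace (x : Matrix.SpecialLinearGroup (Fin 2) F) :
    ((sl2NegOne * x : Matrix.SpecialLinearGroup (Fin 2) F) : Matrix (Fin 2) (Fin 2) F).trace =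
      -(x : Matrix (Fin 2) (Fin 2) F).trace := by
  rw [Matrix.SpecialLinearGroup.coe_mul, sl2NegOne_coe]
  simp

/-- order of the centralizer of a noncentral element of trace 2 -/
theorem card_sl2_centralizer_trace_two (hodd : Odd (Fintype.card F)) (x : Matrix.SpecialLinearGroup (Fin 2) F)
    (hns : ¬ IsScalar2 (x : Matrix (Fin 2) (Fin 2) F)) (htr : (x : Matrix (Fin 2) (Fin 2) F).trace = 2) :
    Nat.card (Subgroup.centralizer ({x} : Set (Matrix.SpecialLinearGroup (Fin 2) F))) = 2 * Fintype.card F := by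
  obtain ⟨v, hv⟩ := exists_qf_ne_zero hns
  have hconj : IsConj x (sl2Upper 1 (one_mul 1) (-qf (x : Matrix (Fin 2) (Fin 2) F) v)) := by
    refine sl2_isConj_of_qf (v := v) (w := ![0, 1]) ?_ hv ?_
    · rw [htr]; simp [sl2Upper, Matrix.trace_fin_two]; norm_num
    · rw [qf_sl2Upper]; simp
  rw [card_centralizer_of_isConj hconj]
  exact card_centralizer_sl2Upper (Nat.odd_iff.mp hodd) (neg_ne_zero.mpr hv)

/-- order of the centralizer of a noncentral element with trace² = 4 -/
theorem card_sl2_centralizer_parabolic (hodd : Odd (Fintype.card F)) (x : Matrix.SpecialLinearGroup (Fin 2) F)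
    (hns : ¬ IsScalar2 (x : Matrix (Fin 2) (Fin 2) F)) (htr : (x : Matrix (Fin 2) (Fin 2) F).trace ^ 2 = 4) :
    Nat.card (Subgroup.centralizer ({x} : Set (Matrix.SpecialLinearGroup (Fin 2) F))) = 2 * Fintype.card F := by
  have h4 : ((x : Matrix (Fin 2) (Fin 2) F).trace - 2) * ((x : Matrix (Fin 2) (Fin 2) F).trace + 2) = 0 := by
    linear_combination htr
  rcases mul_eq_zero.mp h4 with h | h
  · exact card_sl2_centralizer_trace_two hodd x hns (by linear_combination h)
  · rw [← sl2_centralizer_negOne_mul x]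
    apply card_sl2_centralizer_trace_two hodd
    · intro hs
      apply hns
      rw [Matrix.SpecialLinearGroup.coe_mul, sl2NegOne_coe] at hs
      obtain ⟨h01, h10, h00⟩ := hs
      simp only [neg_mul, one_mul, Matrix.neg_apply] at h01 h10 h00
      exact ⟨neg_eq_zero.mp h01, neg_eq_zero.mp h10, neg_injective h00⟩
    · rw [sl2NegOne_mul_trace]
      linear_combination -h

end Cfsg.Agent.helper12
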