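import Cfsg.Agent.Lib_helper12_Sl2Torus2
import Cfsg.Agent.Lib_helper12_SylowTransfer

set_option autoImplicit false

namespace Cfsg.Agent.helper12

open Matrix Cfsg

variable {F : Type*} [Field F]

theorem centralizer_zpowers_eq {G : Type*} [Group G] (u : G) :
    Subgroup.centralizer ((Subgroup.zpowers u : Subgroup G) : Set G) = Subgroup.centralizer ({u} : Set G) := by
  ext x
  rw [Subgroup.mem_centralizer_iff, Subgroup.mem_centralizer_iff]
  constructor
  · intro h y hy
    rw [Set.mem_singleton_iff.mp hy]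
    exact h u (Subgroup.mem_zpowers u)
  · intro h y hy
    obtain ⟨j, rfl⟩ := Subgroup.mem_zpowers_iff.mp hy
    have hc : Commute u x := h u (Set.mem_singleton _)
    exact (hc.zpow_left j).eq

theorem sl2_sylow_in_torus [Fintype F] (hodd : Odd (Fintype.card F)) (ℓ : ℕ) [Fact ℓ.Prime] (hℓ2 : ℓ ≠ 2)
    (g₀ : Matrix.SpecialLinearGroup (Fin 2) F) (hD : (g₀ : Matrix (Fin 2) (Fin 2) F).trace ^ 2 ≠ 4)
    (m : ℕ) (hcard : Nat.card (Subgroup.centralizer ({g₀} : Set (Matrix.SpecialLinearGroup (Fin 2) F))) = m)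
    (hord : orderOf g₀ = m) (hℓm : ℓ ∣ m)
    (hsyl : (Nat.card (Matrix.SpecialLinearGroup (Fin 2) F)).factorization ℓ = m.factorization ℓ)
    (P : Sylow ℓ (Matrix.SpecialLinearGroup (Fin 2) F)) :
    Nat.card (Subgroup.centralizer ((P : Subgroup (Matrix.SpecialLinearGroup (Fin 2) F)) : Set (Matrix.SpecialLinearGroup (Fin 2) F))) = m ∧
    IsCyclic (Subgroup.centralizer ((P : Subgroup (Matrix.SpecialLinearGroup (Fin 2) F)) : Set (Matrix.SpecialLinearGroup (Fin 2) F))) ∧
    Nat.card (Subgroup.normalizer ((P : Subgroup (Matrix.SpecialLinearGroup (Fin 2) F)) : Set (Matrix.SpecialLinearGroup (Fin 2) F))) = 2 * m := by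
  classical
  have h2 : (2 : F) ≠ 0 := two_ne_zero_of_odd_card hodd
  have hℓ : ℓ.Prime := Fact.out
  have hg0 := sl2_not_isScalar2_of_disc g₀ hD
  have hm0 : m ≠ 0 := by rw [← hord]; exact (orderOf_pos g₀).ne'
  have hk : 0 < m.factorization ℓ := hℓ.factorization_pos_of_dvd hm0 hℓm
  obtain ⟨m', hm'⟩ : ∃ m', m = ℓ ^ m.factorization ℓ * m' := Nat.ordProj_dvd m ℓ
  have hm'0 : m' ≠ 0 := by rintro rfl; rw [mul_zero] at hm'; exact hm0 hm'
  obtain ⟨u, hu⟩ : ∃ u : Matrix.SpecialLinearGroup (Fin 2) F, u = g₀ ^ m' := ⟨_, rfl⟩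
  have hordu : orderOf u = ℓ ^ m.factorization ℓ := by
    rw [hu, orderOf_pow' g₀ hm'0, hord]
    have hg : Nat.gcd m m' = m' := Nat.gcd_eq_right ⟨ℓ ^ m.factorization ℓ, by rw [mul_comm]; exact hm'⟩
    rw [hg]
    conv_lhs => rw [hm']
    exact Nat.mul_div_cancel _ (Nat.pos_of_ne_zero hm'0)
  have hmem0 : g₀ ∈ Subgroup.centralizer ({g₀} : Set (Matrix.SpecialLinearGroup (Fin 2) F)) :=
    sl2_mem_centralizer_singleton.mpr rfl
  have huC : u ∈ Subgroup.centralizer ({g₀} : Set (Matrix.SpecialLinearGroup (Fin 2) F)) := by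
    rw [hu]; exact Subgroup.pow_mem _ hmem0 _
  have hus : ¬ IsScalar2 (u : Matrix (Fin 2) (Fin 2) F) := by
    intro hs
    have huu : u * u = 1 := by
      apply Subtype.ext
      rw [Matrix.SpecialLinearGroup.coe_mul]
      rcases sl2_isScalar2_cases u hs with h | h <;> rw [h] <;> simp
    have hdvd : orderOf u ∣ 2 := orderOf_dvd_of_pow_eq_one (by rw [sq]; exact huu)
    rw [hordu] at hdvd
    have : ℓ ∣ 2 := dvd_trans (dvd_pow_self ℓ hk.ne') hdvd
    exact hℓ2 ((Nat.prime_dvd_prime_iff_eq hℓ Nat.prime_two).mp this)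
  have hCu := sl2_centralizer_eq_of_mem hg0 huC hus
  -- the Sylow subgroup inside the torus
  have hcardP₀ : Nat.card (Subgroup.zpowers u) = ℓ ^ (Nat.card (Matrix.SpecialLinearGroup (Fin 2) F)).factorization ℓ := by
    rw [Nat.card_zpowers, hordu, hsyl]
  let P₀ : Sylow ℓ (Matrix.SpecialLinearGroup (Fin 2) F) := Sylow.ofCard (Subgroup.zpowers u) hcardP₀
  have hP₀ : (P₀ : Subgroup (Matrix.SpecialLinearGroup (Fin 2) F)) = Subgroup.zpowers u := rfl
  have hCP₀ : Subgroup.centralizer ((P₀ : Subgroup (Matrix.SpecialLinearGroup (Fin 2) F)) : Set (Matrix.SpecialLinearGroup (Fin 2) F))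
      = Subgroup.centralizer ({g₀} : Set (Matrix.SpecialLinearGroup (Fin 2) F)) := by
    rw [hP₀, centralizer_zpowers_eq, hCu]
  -- conjugation of u by elements of the normalizer of the torus
  have hconj : ∀ n : Matrix.SpecialLinearGroup (Fin 2) F,
      n ∈ Subgroup.normalizer ((Subgroup.centralizer ({g₀} : Set (Matrix.SpecialLinearGroup (Fin 2) F))) : Set (Matrix.SpecialLinearGroup (Fin 2) F)) →
      ∀ h ∈ Subgroup.zpowers u, n * h * n⁻¹ ∈ Subgroup.zpowers u := by
    intro n hn h hh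
    obtain ⟨j, rfl⟩ := Subgroup.mem_zpowers_iff.mp hh
    rw [← conj_zpow]
    apply Subgroup.zpow_mem
    rcases sl2_normalizer_cases h2 hD hn with hc | hc
    · have : n * u = u * n := sl2_centralizer_comm hg0 hc huC
      rw [this, mul_inv_cancel_right]
      exact Subgroup.mem_zpowers u
    · rw [sl2_conj_inverts hg0 hc huC]
      exact Subgroup.inv_mem _ (Subgroup.mem_zpowers u)
  have hNP₀ : Subgroup.normalizer ((P₀ : Subgroup (Matrix.SpecialLinearGroup (Fin 2) F)) : Set (Matrix.SpecialLinearGroup (Fin 2) F))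
      = Subgroup.normalizer ((Subgroup.centralizer ({g₀} : Set (Matrix.SpecialLinearGroup (Fin 2) F))) : Set (Matrix.SpecialLinearGroup (Fin 2) F)) := by
    rw [hP₀]
    ext n
    constructor
    · intro hn
      have hu' : n * u * n⁻¹ ∈ Subgroup.zpowers u :=
        (Subgroup.mem_normalizer_iff.mp hn u).mp (Subgroup.mem_zpowers u)
      have hu'C : n * u * n⁻¹ ∈ Subgroup.centralizer ({g₀} : Set (Matrix.SpecialLinearGroup (Fin 2) F)) :=
        (Subgroup.zpowers_le.mpr huC) hu'
      have hu's : ¬ IsScalar2 ((n * u * n⁻¹ : Matrix.SpecialLinearGroup (Fin 2) F) : Matrix (Fin 2) (Fin 2) F) := by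
        rw [sl2_isScalar2_conj_iff]; exact hus
      have hCu' := sl2_centralizer_eq_of_mem hg0 hu'C hu's
      rw [Subgroup.mem_normalizer_iff]
      intro c
      rw [show (c ∈ Subgroup.centralizer ({g₀} : Set (Matrix.SpecialLinearGroup (Fin 2) F)) ↔
          n * c * n⁻¹ ∈ Subgroup.centralizer ({g₀} : Set (Matrix.SpecialLinearGroup (Fin 2) F))) ↔
          (c ∈ Subgroup.centralizer ({u} : Set (Matrix.SpecialLinearGroup (Fin 2) F)) ↔
          n * c * n⁻¹ ∈ Subgroup.centralizer ({n * u * n⁻¹} : Set (Matrix.SpecialLinearGroup (Fin 2) F))) from by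
            rw [hCu, hCu']]
      rw [sl2_mem_centralizer_singleton, sl2_mem_centralizer_singleton]
      constructor
      · intro h
        calc n * u * n⁻¹ * (n * c * n⁻¹) = n * (u * c) * n⁻¹ := by group
          _ = n * (c * u) * n⁻¹ := by rw [h]
          _ = n * c * n⁻¹ * (n * u * n⁻¹) := by group
      · intro h
        have : n * (u * c) * n⁻¹ = n * (c * u) * n⁻¹ := by
          calc n * (u * c) * n⁻¹ = n * u * n⁻¹ * (n * c * n⁻¹) := by group
            _ = n * c * n⁻¹ * (n * u * n⁻¹) := h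
            _ = n * (c * u) * n⁻¹ := by group
        exact mul_left_cancel (mul_right_cancel this)
    · intro hn
      rw [Subgroup.mem_normalizer_iff]
      intro h
      constructor
      · exact hconj n hn h
      · intro hh
        have := hconj n⁻¹ (Subgroup.inv_mem _ hn) _ hh
        have e : n⁻¹ * (n * h * n⁻¹) * n⁻¹⁻¹ = h := by group
        rwa [e] at this
  -- the torus is cyclic
  have hT : Subgroup.zpowers g₀ = Subgroup.centralizer ({g₀} : Set (Matrix.SpecialLinearGroup (Fin 2) F)) := by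
    apply Subgroup.eq_of_le_of_card_ge (Subgroup.zpowers_le.mpr hmem0)
    rw [hcard, Nat.card_zpowers, hord]
  have hcyc : IsCyclic (Subgroup.centralizer ({g₀} : Set (Matrix.SpecialLinearGroup (Fin 2) F))) := by
    rw [← hT]; infer_instance
  obtain ⟨h1, _, _⟩ := sl2_torus_normalizer_facts hodd g₀ hD
  obtain ⟨t1, t2, t3⟩ := sylow_transfer P₀ P
  rw [hCP₀] at t1 t2
  rw [hNP₀] at t3
  exact ⟨by rw [t1, hcard], t2 hcyc, by rw [t3, h1, hcard]⟩


theorem sl2_card_factorization (q ℓ : ℕ) (hq : 2 ≤ q) (hℓ : ℓ.Prime) (hℓ2 : ℓ ≠ 2) :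
    (ℓ ∣ q - 1 → (q * (q ^ 2 - 1)).factorization ℓ = (q - 1).factorization ℓ) ∧
    (ℓ ∣ q + 1 → (q * (q ^ 2 - 1)).factorization ℓ = (q + 1).factorization ℓ) := by
  obtain ⟨r, rfl⟩ : ∃ r, q = r + 1 := ⟨q - 1, by omega⟩
  have e : (r + 1) ^ 2 - 1 = r * (r + 2) := by
    have : (r + 1) ^ 2 = r * (r + 2) + 1 := by ring
    omega
  have hr0 : r ≠ 0 := by omega
  simp only [Nat.add_sub_cancel]
  rw [e]
  have hfac : ((r + 1) * (r * (r + 2))).factorization ℓ =
      (r + 1).factorization ℓ + (r.factorization ℓ + (r + 2).factorization ℓ) := by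
    rw [Nat.factorization_mul (by omega) (by positivity), Nat.factorization_mul hr0 (by omega)]
    rfl
  rw [hfac]
  constructor
  · intro h
    have h1 : ¬ ℓ ∣ r + 1 := by
      intro h'
      have := (Nat.dvd_add_right h).mp h'
      exact hℓ.one_lt.ne' (Nat.dvd_one.mp this)
    have h2 : ¬ ℓ ∣ r + 2 := by
      intro h'
      have := (Nat.dvd_add_right h).mp h'
      exact hℓ2 ((Nat.prime_dvd_prime_iff_eq hℓ Nat.prime_two).mp this)
    rw [Nat.factorization_eq_zero_of_not_dvd h1, Nat.factorization_eq_zero_of_not_dvd h2]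
    ring
  · intro h
    have h' : ℓ ∣ r + 2 := h
    have h1 : ¬ ℓ ∣ r + 1 := by
      intro h''
      have : ℓ ∣ 1 := by
        have e2 : r + 2 = (r + 1) + 1 := by ring
        rw [e2] at h'
        exact (Nat.dvd_add_right h'').mp h'
      exact hℓ.one_lt.ne' (Nat.dvd_one.mp this)
    have h2 : ¬ ℓ ∣ r := by
      intro h''
      have := (Nat.dvd_add_right h'').mp h'
      exact hℓ2 ((Nat.prime_dvd_prime_iff_eq hℓ Nat.prime_two).mp this)
    rw [Nat.factorization_eq_zero_of_not_dvd h1, Nat.factorization_eq_zero_of_not_dvd h2]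
    ring

/-- S2430 -/
theorem sl2_sylow_odd_prime [Fintype F] (hodd : Odd (Fintype.card F)) (ℓ : ℕ) [Fact ℓ.Prime] (hℓ : ℓ ≠ 2)
    (P : Sylow ℓ (Matrix.SpecialLinearGroup (Fin 2) F)) :
    (ℓ ∣ Fintype.card F - 1 →
      Nat.card (Subgroup.centralizer ((P : Subgroup (Matrix.SpecialLinearGroup (Fin 2) F)) : Set (Matrix.SpecialLinearGroup (Fin 2) F))) = Fintype.card F - 1 ∧
      IsCyclic (Subgroup.centralizer ((P : Subgroup (Matrix.SpecialLinearGroup (Fin 2) F)) : Set (Matrix.SpecialLinearGroup (Fin 2) F))) ∧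
      Nat.card (Subgroup.normalizer ((P : Subgroup (Matrix.SpecialLinearGroup (Fin 2) F)) : Set (Matrix.SpecialLinearGroup (Fin 2) F))) = 2 * (Fintype.card F - 1)) ∧
    (ℓ ∣ Fintype.card F + 1 →
      Nat.card (Subgroup.centralizer ((P : Subgroup (Matrix.SpecialLinearGroup (Fin 2) F)) : Set (Matrix.SpecialLinearGroup (Fin 2) F))) = Fintype.card F + 1 ∧
      IsCyclic (Subgroup.centralizer ((P : Subgroup (Matrix.SpecialLinearGroup (Fin 2) F)) : Set (Matrix.SpecialLinearGroup (Fin 2) F))) ∧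
      Nat.card (Subgroup.normalizer ((P : Subgroup (Matrix.SpecialLinearGroup (Fin 2) F)) : Set (Matrix.SpecialLinearGroup (Fin 2) F))) = 2 * (Fintype.card F + 1)) := by
  classical
  have hℓp : ℓ.Prime := Fact.out
  have hq2 : 2 ≤ Fintype.card F := Fintype.one_lt_card
  obtain ⟨f1, f2⟩ := sl2_card_factorization (Fintype.card F) ℓ hq2 hℓp hℓ
  constructor
  · intro hdvd
    have hq3 : 3 ≤ Fintype.card F - 1 := by
      have h1 := Nat.le_of_dvd (by omega) hdvd
      have h2 := hℓp.two_le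
      omega
    obtain ⟨a, ha⟩ := IsCyclic.exists_generator (α := Fˣ)
    have horda : orderOf a = Fintype.card F - 1 := by
      rw [orderOf_eq_card_of_forall_mem_zpowers ha, Nat.card_eq_fintype_card, Fintype.card_units]
    have ha2 : (a : F) ^ 2 ≠ 1 := by
      intro h
      have h' : a ^ 2 = 1 := by
        apply Units.ext
        rw [Units.val_pow_eq_pow_val, h, Units.val_one]
      have := Nat.le_of_dvd (by norm_num) (orderOf_dvd_of_pow_eq_one h')
      omega
    have hg : sl2UT a 0 = Cfsg.Agent.helper11.Torus.diagHom a := by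
      apply Subtype.ext
      rw [Cfsg.Agent.helper11.Torus.coe_diagHom]
      rfl
    have hord : orderOf (sl2UT a 0) = Fintype.card F - 1 := by
      rw [hg, orderOf_injective _ Cfsg.Agent.helper11.Torus.diagHom_injective, horda]
    exact sl2_sylow_in_torus hodd ℓ hℓ (sl2UT a 0) (sl2UT_trace_sq_ne a ha2 0) (Fintype.card F - 1)
      (card_sl2_diag_centralizer a ha2) hord hdvd (by rw [card_SL2]; exact f1 hdvd) P
  · intro hdvd
    obtain ⟨g₀, hord⟩ := Cfsg.Agent.helper11.Torus.exists_orderOf_eq_of_dvd_add_one (F := F) (dvd_refl (Fintype.card F + 1))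
    have hne := sl2_noEigen_of_orderOf g₀ hord
    exact sl2_sylow_in_torus hodd ℓ hℓ g₀ (noEigen2_trace_sq_ne hodd g₀ hne) (Fintype.card F + 1)
      (card_sl2_centralizer_noEigen hodd g₀ hne) hord hdvd (by rw [card_SL2]; exact f2 hdvd) P


end Cfsg.Agent.helper12
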