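import Cfsg.Agent.Lib_helper12_SylTwoE

set_option autoImplicit false

namespace Cfsg.Agent.helper12

open Matrix Cfsg

variable {F : Type*} [Field F]

theorem sl2_exists_sylTwoCtx [Fintype F] (hodd : Odd (Fintype.card F)) (g₀ : Matrix.SpecialLinearGroup (Fin 2) F)
    (hD : (g₀ : Matrix (Fin 2) (Fin 2) F).trace ^ 2 ≠ 4) (m : ℕ)
    (hcard : Nat.card (Subgroup.centralizer ({g₀} : Set (Matrix.SpecialLinearGroup (Fin 2) F))) = m)
    (hord : orderOf g₀ = m) (h4 : 4 ∣ m) :
    ∃ S₀ : Subgroup (Matrix.SpecialLinearGroup (Fin 2) F), SylTwoCtx g₀ m S₀ := by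
  have hm0 : 0 < m := by rw [← hord]; exact orderOf_pos g₀
  obtain ⟨hNcard, -, -⟩ := sl2_torus_normalizer_facts hodd g₀ hD
  rw [hcard] at hNcard
  obtain ⟨N, hN⟩ : ∃ N : Subgroup (Matrix.SpecialLinearGroup (Fin 2) F), N = Subgroup.normalizer ((Subgroup.centralizer ({g₀} : Set (Matrix.SpecialLinearGroup (Fin 2) F))) : Set (Matrix.SpecialLinearGroup (Fin 2) F)) := ⟨_, rfl⟩
  rw [← hN] at hNcard
  obtain ⟨a, ha⟩ : ∃ a, a = g₀ ^ (m / 2 ^ m.factorization 2) := ⟨_, rfl⟩
  have haT : a ∈ Subgroup.centralizer ({g₀} : Set (Matrix.SpecialLinearGroup (Fin 2) F)) := by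
    rw [ha, sl2_mem_centralizer_singleton]
    exact ((Commute.refl g₀).pow_right _).eq
  have haN : a ∈ N := by rw [hN]; exact Subgroup.le_normalizer haT
  have hm'pos : 0 < m / 2 ^ m.factorization 2 := Nat.div_pos (Nat.le_of_dvd hm0 (Nat.ordProj_dvd m 2)) (by positivity)
  have hao : orderOf a = 2 ^ m.factorization 2 := by
    have hdvd : m / 2 ^ m.factorization 2 ∣ orderOf g₀ := by
      rw [hord]; exact Nat.div_dvd_of_dvd (Nat.ordProj_dvd m 2)
    rw [ha, orderOf_pow_of_dvd hm'pos.ne' hdvd, hord]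
    exact Nat.div_div_self (Nat.ordProj_dvd m 2) hm0.ne'
  have hA' : IsPGroup 2 (Subgroup.zpowers (⟨a, haN⟩ : N)) := by
    apply IsPGroup.of_card (n := m.factorization 2)
    rw [Nat.card_zpowers, Subgroup.orderOf_mk, hao]
  obtain ⟨P, hP⟩ := IsPGroup.exists_le_sylow hA'
  refine ⟨(P : Subgroup N).map N.subtype, ⟨hodd, hD, hcard, hord, h4, ?_, ?_, ?_⟩⟩
  · rw [← hN]; exact Subgroup.map_subtype_le _
  · rw [Subgroup.card_map_of_injective (Subgroup.subtype_injective N), Sylow.card_eq_multiplicity, hNcard,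
      Nat.factorization_mul (by norm_num) hm0.ne', Finsupp.add_apply, Nat.Prime.factorization_self Nat.prime_two, add_comm]
  · rw [← ha]
    exact ⟨⟨a, haN⟩, hP (Subgroup.mem_zpowers _), rfl⟩

/-- abstract form of S2431 -/
theorem sl2_sylow_two_of_torus [Fintype F] (hodd : Odd (Fintype.card F)) (g₀ : Matrix.SpecialLinearGroup (Fin 2) F)
    (hD : (g₀ : Matrix (Fin 2) (Fin 2) F).trace ^ 2 ≠ 4) (m : ℕ)
    (hcard : Nat.card (Subgroup.centralizer ({g₀} : Set (Matrix.SpecialLinearGroup (Fin 2) F))) = m)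
    (hord : orderOf g₀ = m) (h4 : 4 ∣ m)
    (hsyl : (Nat.card (Matrix.SpecialLinearGroup (Fin 2) F)).factorization 2 = m.factorization 2 + 1)
    (S : Sylow 2 (Matrix.SpecialLinearGroup (Fin 2) F)) :
    Subgroup.centralizer ((S : Subgroup (Matrix.SpecialLinearGroup (Fin 2) F)) : Set (Matrix.SpecialLinearGroup (Fin 2) F)) = Subgroup.center (Matrix.SpecialLinearGroup (Fin 2) F) ∧
    (8 ∣ m → Subgroup.normalizer ((S : Subgroup (Matrix.SpecialLinearGroup (Fin 2) F)) : Set (Matrix.SpecialLinearGroup (Fin 2) F)) = (S : Subgroup (Matrix.SpecialLinearGroup (Fin 2) F))) ∧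
    (¬ 8 ∣ m → Nat.card (Subgroup.normalizer ((S : Subgroup (Matrix.SpecialLinearGroup (Fin 2) F)) : Set (Matrix.SpecialLinearGroup (Fin 2) F))) = 3 * Nat.card S) := by
  obtain ⟨S₀, c⟩ := sl2_exists_sylTwoCtx hodd g₀ hD m hcard hord h4
  have hScard : Nat.card S₀ = 2 ^ (Nat.card (Matrix.SpecialLinearGroup (Fin 2) F)).factorization 2 := by
    rw [c.hS, hsyl]
  obtain ⟨P₀, hP₀⟩ : ∃ P₀ : Sylow 2 (Matrix.SpecialLinearGroup (Fin 2) F), (P₀ : Subgroup (Matrix.SpecialLinearGroup (Fin 2) F)) = S₀ :=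
    ⟨Sylow.ofCard S₀ hScard, Sylow.coe_ofCard S₀ hScard⟩
  obtain ⟨t1, -, t3⟩ := sylow_transfer P₀ S
  rw [hP₀] at t1 t3
  have hSS : Nat.card S = Nat.card S₀ := by
    rw [Sylow.card_eq_multiplicity, hScard]
  refine ⟨?_, ?_, ?_⟩
  · symm
    apply Subgroup.eq_of_le_of_card_ge (Subgroup.center_le_centralizer _)
    rw [t1, c.centralizer_eq]
  · intro h8
    symm
    apply Subgroup.eq_of_le_of_card_ge Subgroup.le_normalizer
    rw [t3, c.normalizer_eq h8, hSS]
  · intro h8
    rw [t3, c.card_normalizer h8, hSS, c.hS, c.k_eq_two h8]; norm_num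


theorem factorization_two_of_mod_four {n : ℕ} (h : n % 4 = 2) : n.factorization 2 = 1 := by
  obtain ⟨j, rfl⟩ : ∃ j, n = 2 * j := ⟨n / 2, by omega⟩
  have hj : j % 2 = 1 := by omega
  have hj0 : j ≠ 0 := by rintro rfl; omega
  rw [Nat.factorization_mul (by norm_num) hj0, Finsupp.add_apply, Nat.Prime.factorization_self Nat.prime_two,
    Nat.factorization_eq_zero_of_not_dvd (by omega)]

theorem sl2_card_factorization_two (q : ℕ) (hq : q % 2 = 1) (hq3 : 3 ≤ q) :
    (q % 4 = 1 → (q * (q ^ 2 - 1)).factorization 2 = (q - 1).factorization 2 + 1) ∧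
    (q % 4 = 3 → (q * (q ^ 2 - 1)).factorization 2 = (q + 1).factorization 2 + 1) := by
  have e : q ^ 2 - 1 = (q - 1) * (q + 1) := by
    obtain ⟨j, rfl⟩ : ∃ j, q = j + 1 := ⟨q - 1, by omega⟩
    have : (j + 1) ^ 2 = (j + 1 - 1) * (j + 1 + 1) + 1 := by
      simp only [Nat.add_sub_cancel]; ring
    omega
  have hq0 : (q : ℕ) ≠ 0 := by omega
  have hqm : q - 1 ≠ 0 := by omega
  have hqp : q + 1 ≠ 0 := by omega
  have hqf : q.factorization 2 = 0 := Nat.factorization_eq_zero_of_not_dvd (by omega)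
  rw [e, Nat.factorization_mul hq0 (mul_ne_zero hqm hqp), Nat.factorization_mul hqm hqp]
  simp only [Finsupp.add_apply, hqf, zero_add]
  constructor
  · intro h
    rw [factorization_two_of_mod_four (n := q + 1) (by omega)]
  · intro h
    rw [factorization_two_of_mod_four (n := q - 1) (by omega)]
    ring

/-- S2431 -/
theorem sl2_sylow_two [Fintype F] (hodd : Odd (Fintype.card F)) (S : Sylow 2 (Matrix.SpecialLinearGroup (Fin 2) F)) :
    Subgroup.centralizer ((S : Subgroup (Matrix.SpecialLinearGroup (Fin 2) F)) : Set (Matrix.SpecialLinearGroup (Fin 2) F)) = Subgroup.center (Matrix.SpecialLinearGroup (Fin 2) F) ∧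
    ((Fintype.card F % 8 = 1 ∨ Fintype.card F % 8 = 7) →
      Subgroup.normalizer ((S : Subgroup (Matrix.SpecialLinearGroup (Fin 2) F)) : Set (Matrix.SpecialLinearGroup (Fin 2) F)) = (S : Subgroup (Matrix.SpecialLinearGroup (Fin 2) F))) ∧
    ((Fintype.card F % 8 = 3 ∨ Fintype.card F % 8 = 5) →
      Nat.card (Subgroup.normalizer ((S : Subgroup (Matrix.SpecialLinearGroup (Fin 2) F)) : Set (Matrix.SpecialLinearGroup (Fin 2) F))) = 3 * Nat.card S) := by
  classical
  have hq2 : 2 ≤ Fintype.card F := Fintype.one_lt_card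
  have hq1 : Fintype.card F % 2 = 1 := Nat.odd_iff.mp hodd
  have hq3 : 3 ≤ Fintype.card F := by omega
  obtain ⟨f1, f2⟩ := sl2_card_factorization_two (Fintype.card F) hq1 hq3
  by_cases h41 : Fintype.card F % 4 = 1
  · -- split torus
    have hq5 : 5 ≤ Fintype.card F := by omega
    obtain ⟨a, ha⟩ := IsCyclic.exists_generator (α := Fˣ)
    have horda : orderOf a = Fintype.card F - 1 := by
      rw [orderOf_eq_card_of_forall_mem_zpowers ha, Nat.card_eq_fintype_card, Fintype.card_units]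
    have ha2 : (a : F) ^ 2 ≠ 1 := by
      intro h
      have h' : a ^ 2 = 1 := by
        apply Units.ext
        rw [Units.val_pow_eq_pow_val, h, Units.val_one]
      have := Nat.le_of_dvd (by norm_num) (orderOf_dvd_of_pow_eq_one h')
      omega
    have hg : sl2UT a 0 = Cfsg.Agent.helper11.Torus.diagHom a := by
      apply Subtype.ext
      rw [Cfsg.Agent.helper11.Torus.coe_diagHom]
      rfl
    have hord : orderOf (sl2UT a 0) = Fintype.card F - 1 := by
      rw [hg, orderOf_injective _ Cfsg.Agent.helper11.Torus.diagHom_injective, horda]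
    obtain ⟨r1, r2, r3⟩ := sl2_sylow_two_of_torus hodd (sl2UT a 0) (sl2UT_trace_sq_ne a ha2 0) (Fintype.card F - 1)
      (card_sl2_diag_centralizer a ha2) hord (by omega) (by rw [card_SL2]; exact f1 h41) S
    refine ⟨r1, ?_, ?_⟩
    · intro h; exact r2 (by omega)
    · intro h; exact r3 (by omega)
  · have h43 : Fintype.card F % 4 = 3 := by omega
    obtain ⟨g₀, hord⟩ := Cfsg.Agent.helper11.Torus.exists_orderOf_eq_of_dvd_add_one (F := F) (dvd_refl (Fintype.card F + 1))
    have hne := sl2_noEigen_of_orderOf g₀ hord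
    obtain ⟨r1, r2, r3⟩ := sl2_sylow_two_of_torus hodd g₀ (noEigen2_trace_sq_ne hodd g₀ hne) (Fintype.card F + 1)
      (card_sl2_centralizer_noEigen hodd g₀ hne) hord (by omega) (by rw [card_SL2]; exact f2 h43) S
    refine ⟨r1, ?_, ?_⟩
    · intro h; exact r2 (by omega)
    · intro h; exact r3 (by omega)

end Cfsg.Agent.helper12
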