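import Cfsg.Agent.Lib_helper12_Redundant2b
import Cfsg.Agent.Lib_helper12_SylTwoF
import Cfsg.Agent.Lib_helper12_Sl2Sylow
import Cfsg.Agent.Lib_helper12_PslCS1

set_option autoImplicit false

namespace Cfsg.Agent.helper12

open Matrix

variable {F : Type*} [Field F]

/-- the "big" torus containing a Sylow 2-subgroup of index 2 in its normalizer -/
theorem sl2_exists_big_torus [Fintype F] (hodd : Odd (Fintype.card F)) :
    ∃ (g₀ : Matrix.SpecialLinearGroup (Fin 2) F) (m : ℕ),
      (g₀ : Matrix (Fin 2) (Fin 2) F).trace ^ 2 ≠ 4 ∧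
      Nat.card (Subgroup.centralizer ({g₀} : Set (Matrix.SpecialLinearGroup (Fin 2) F))) = m ∧
      orderOf g₀ = m ∧ 4 ∣ m ∧
      (Nat.card (Matrix.SpecialLinearGroup (Fin 2) F)).factorization 2 = m.factorization 2 + 1 ∧
      ((m = Fintype.card F - 1 ∧ Fintype.card F % 4 = 1) ∨ (m = Fintype.card F + 1 ∧ Fintype.card F % 4 = 3)) := by
  classical
  have hq2 : 2 ≤ Fintype.card F := Fintype.one_lt_card
  have hq1 : Fintype.card F % 2 = 1 := Nat.odd_iff.mp hodd
  have hq3 : 3 ≤ Fintype.card F := by omega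
  obtain ⟨f1, f2⟩ := sl2_card_factorization_two (Fintype.card F) hq1 hq3
  by_cases h41 : Fintype.card F % 4 = 1
  · have hq5 : 5 ≤ Fintype.card F := by omega
    obtain ⟨a, ha⟩ := IsCyclic.exists_generator (α := Fˣ)
    have horda : orderOf a = Fintype.card F - 1 := by
      rw [orderOf_eq_card_of_forall_mem_zpowers ha, Nat.card_eq_fintype_card, Fintype.card_units]
    have ha2 : (a : F) ^ 2 ≠ 1 := by
      intro h
      have h' : a ^ 2 = 1 := by
        apply Units.ext
        rw [Units.val_pow_eq_pow_val, h, Units.val_one]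
      have := Nat.le_of_dvd (by norm_num) (orderOf_dvd_of_pow_eq_one h')
      omega
    have hg : sl2UT a 0 = Cfsg.Agent.helper11.Torus.diagHom a := by
      apply Subtype.ext
      rw [Cfsg.Agent.helper11.Torus.coe_diagHom]
      rfl
    have hord : orderOf (sl2UT a 0) = Fintype.card F - 1 := by
      rw [hg, orderOf_injective _ Cfsg.Agent.helper11.Torus.diagHom_injective, horda]
    refine ⟨sl2UT a 0, Fintype.card F - 1, sl2UT_trace_sq_ne a ha2 0, card_sl2_diag_centralizer a ha2, hord,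
      by omega, by rw [card_SL2]; exact f1 h41, Or.inl ⟨rfl, h41⟩⟩
  · have h43 : Fintype.card F % 4 = 3 := by omega
    obtain ⟨g₀, hord⟩ := Cfsg.Agent.helper11.Torus.exists_orderOf_eq_of_dvd_add_one (F := F) (dvd_refl (Fintype.card F + 1))
    have hne := sl2_noEigen_of_orderOf g₀ hord
    refine ⟨g₀, Fintype.card F + 1, noEigen2_trace_sq_ne hodd g₀ hne, card_sl2_centralizer_noEigen hodd g₀ hne, hord,
      by omega, by rw [card_SL2]; exact f2 h43, Or.inr ⟨rfl, h43⟩⟩

/-- order of the centralizer of a semisimple noncentral element -/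
theorem sl2_card_centralizer_cases [Fintype F] (hodd : Odd (Fintype.card F))
    (x : Matrix.SpecialLinearGroup (Fin 2) F) (hD : (x : Matrix (Fin 2) (Fin 2) F).trace ^ 2 ≠ 4) :
    Nat.card (Subgroup.centralizer ({x} : Set (Matrix.SpecialLinearGroup (Fin 2) F))) = Fintype.card F - 1 ∨
    Nat.card (Subgroup.centralizer ({x} : Set (Matrix.SpecialLinearGroup (Fin 2) F))) = Fintype.card F + 1 := by
  by_cases hE : NoEigen2 (x : Matrix (Fin 2) (Fin 2) F)
  · right
    exact card_sl2_centralizer_noEigen hodd x hE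
  · left
    exact card_sl2_centralizer_split hodd x hD hE

theorem sl2_two_element_trace_two [Fintype F] (hodd : Odd (Fintype.card F))
    (x : Matrix.SpecialLinearGroup (Fin 2) F) (k : ℕ) (hx : orderOf x = 2 ^ k)
    (ht : (x : Matrix (Fin 2) (Fin 2) F).trace = 2) : x = 1 := by
  obtain ⟨p, hchar⟩ := CharP.exists F
  haveI := hchar
  haveI hp : Fact p.Prime := ⟨CharP.char_is_prime F p⟩
  have h2 : (2 : F) ≠ 0 := two_ne_zero_of_odd_card hodd
  by_contra hne
  have ho := (sl2_orderOf_eq_char_iff p x).mpr ⟨hne, ht⟩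
  rw [hx] at ho
  have hp2 : p = 2 := by
    have h1 : p ∣ 2 ^ k := by rw [ho]
    exact (Nat.prime_dvd_prime_iff_eq hp.out Nat.prime_two).mp (hp.out.dvd_of_dvd_pow h1)
  apply h2
  have : ((p : ℕ) : F) = 0 := CharP.cast_eq_zero F p
  rw [hp2] at this
  exact_mod_cast this

theorem sl2_two_element_central [Fintype F] (hodd : Odd (Fintype.card F))
    (x : Matrix.SpecialLinearGroup (Fin 2) F) (k : ℕ) (hx : orderOf x = 2 ^ k)
    (hD : (x : Matrix (Fin 2) (Fin 2) F).trace ^ 2 = 4) : x = 1 ∨ x = sl2NegOne := by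
  have hfac : ((x : Matrix (Fin 2) (Fin 2) F).trace - 2) * ((x : Matrix (Fin 2) (Fin 2) F).trace + 2) = 0 := by
    linear_combination hD
  rcases mul_eq_zero.mp hfac with h | h
  · left
    exact sl2_two_element_trace_two hodd x k hx (sub_eq_zero.mp h)
  · right
    have ht : ((sl2NegOne * x : Matrix.SpecialLinearGroup (Fin 2) F) : Matrix (Fin 2) (Fin 2) F).trace = 2 := by
      rw [sl2NegOne_mul_trace]
      linear_combination -h
    have hcomm : Commute (sl2NegOne : Matrix.SpecialLinearGroup (Fin 2) F) x :=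
      (Subgroup.mem_center_iff.mp sl2NegOne_mem_center x).symm
    have hpow : (sl2NegOne * x) ^ (2 ^ (k + 1)) = 1 := by
      rw [hcomm.mul_pow, pow_succ, pow_mul, pow_mul, ← hx, pow_orderOf_eq_one, one_pow, mul_one,
        ← pow_mul, mul_comm, pow_mul, pow_two, sl2NegOne_mul_self, one_pow]
    obtain ⟨j, -, hj⟩ := (Nat.dvd_prime_pow Nat.prime_two).mp (orderOf_dvd_of_pow_eq_one hpow)
    have h1 := sl2_two_element_trace_two hodd _ j hj ht
    calc x = sl2NegOne * (sl2NegOne * x) := by rw [← mul_assoc, sl2NegOne_mul_self, one_mul]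
      _ = sl2NegOne := by rw [h1, mul_one]

/-- a noncentral 2-element has order divisible by 4 -/
theorem sl2_four_dvd_orderOf [Fintype F] (hodd : Odd (Fintype.card F))
    (x : Matrix.SpecialLinearGroup (Fin 2) F) (k : ℕ) (hx : orderOf x = 2 ^ k)
    (hD : (x : Matrix (Fin 2) (Fin 2) F).trace ^ 2 ≠ 4) : 4 ∣ orderOf x := by
  have h2 : (2 : F) ≠ 0 := two_ne_zero_of_odd_card hodd
  have hk : 2 ≤ k := by
    by_contra hk
    have hxx : x * x = 1 := by
      have h1 : orderOf x ∣ 2 := by
        rw [hx]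
        interval_cases k
        · simp
        · simp
      rw [← pow_two]
      exact orderOf_dvd_iff_pow_eq_one.mp h1
    apply hD
    rcases sl2_sq_eq_one h2 hxx with h | h
    · rw [h, Matrix.trace_one, Fintype.card_fin]
      norm_num
    · rw [h, Matrix.trace_neg, Matrix.trace_one, Fintype.card_fin]
      norm_num
  rw [hx]
  obtain ⟨j, rfl⟩ : ∃ j, k = j + 2 := ⟨k - 2, by omega⟩
  rw [pow_add]
  exact Dvd.intro_left _ rfl

theorem sl2_two_sylows_of_semisimple [Fintype F] (hodd : Odd (Fintype.card F))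
    (x : Matrix.SpecialLinearGroup (Fin 2) F) (k : ℕ) (hx : orderOf x = 2 ^ k)
    (hD : (x : Matrix (Fin 2) (Fin 2) F).trace ^ 2 ≠ 4)
    (hnp1 : ¬ ∃ j : ℕ, Fintype.card F + 1 = 2 ^ j) (hnp2 : ¬ ∃ j : ℕ, Fintype.card F = 2 ^ j + 1) :
    ∃ P₁ P₂ : Sylow 2 (Matrix.SpecialLinearGroup (Fin 2) F), P₁ ≠ P₂ ∧ x ∈ P₁ ∧ x ∈ P₂ := by
  have h2 : (2 : F) ≠ 0 := two_ne_zero_of_odd_card hodd
  have hq2 : 2 ≤ Fintype.card F := Fintype.one_lt_card
  have hq1 : Fintype.card F % 2 = 1 := Nat.odd_iff.mp hodd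
  have hq3 : 3 ≤ Fintype.card F := by omega
  obtain ⟨f1, f2⟩ := sl2_card_factorization_two (Fintype.card F) hq1 hq3
  have hg := sl2_not_isScalar2_of_disc x hD
  obtain ⟨hNcard, -, -⟩ := sl2_torus_normalizer_facts hodd x hD
  have hxT : x ∈ Subgroup.centralizer ({x} : Set (Matrix.SpecialLinearGroup (Fin 2) F)) :=
    sl2_mem_centralizer_singleton.mpr rfl
  have h4 := sl2_four_dvd_orderOf hodd x k hx hD
  have h4m : 4 ∣ Nat.card (Subgroup.centralizer ({x} : Set (Matrix.SpecialLinearGroup (Fin 2) F))) := by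
    have h1 : orderOf x ∣ Nat.card (Subgroup.centralizer ({x} : Set (Matrix.SpecialLinearGroup (Fin 2) F))) := by
      have := orderOf_dvd_natCard (⟨x, hxT⟩ : Subgroup.centralizer ({x} : Set (Matrix.SpecialLinearGroup (Fin 2) F)))
      rwa [Subgroup.orderOf_mk] at this
    exact dvd_trans h4 h1
  obtain ⟨m, hm⟩ : ∃ m, m = Nat.card (Subgroup.centralizer ({x} : Set (Matrix.SpecialLinearGroup (Fin 2) F))) := ⟨_, rfl⟩
  rw [← hm] at hNcard h4m
  have hm0 : m ≠ 0 := by
    rw [hm]
    exact Nat.card_pos.ne'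
  have hfac : (Nat.card (Matrix.SpecialLinearGroup (Fin 2) F)).factorization 2 = m.factorization 2 + 1 := by
    rw [card_SL2]
    rcases sl2_card_centralizer_cases hodd x hD with h | h
    · rw [← hm] at h
      rw [h]
      apply f1
      rw [h] at h4m
      omega
    · rw [← hm] at h
      rw [h]
      apply f2
      rw [h] at h4m
      omega
  have hnpow : ¬ ∃ j : ℕ, m = 2 ^ j := by
    rintro ⟨j, hj⟩
    rcases sl2_card_centralizer_cases hodd x hD with h | h
    · rw [← hm] at h
      apply hnp2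
      exact ⟨j, by omega⟩
    · rw [← hm] at h
      apply hnp1
      exact ⟨j, by omega⟩
  apply exists_two_sylow_of_inverting
    (Subgroup.centralizer ({x} : Set (Matrix.SpecialLinearGroup (Fin 2) F)))
    (Subgroup.normalizer ((Subgroup.centralizer ({x} : Set (Matrix.SpecialLinearGroup (Fin 2) F))) : Set (Matrix.SpecialLinearGroup (Fin 2) F)))
    x hxT
  · intro y hy
    exact (sl2_mem_centralizer_singleton.mp hy).symm
  · exact ⟨k, hx⟩
  · exact Subgroup.le_normalizer
  · rw [hNcard, hfac, Nat.factorization_mul two_ne_zero hm0, Finsupp.add_apply,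
      Nat.Prime.factorization_self Nat.prime_two, add_comm]
  · intro s hs hsT y hy
    rcases sl2_normalizer_cases h2 hD hs with h | h
    · exact absurd h hsT
    · exact sl2_conj_inverts hg h hy
  · rw [← hm, hfac]
    omega
  · rw [← hm]
    rcases Nat.eq_two_pow_or_exists_odd_prime_and_dvd m with h | ⟨r, hr, hrm, hro⟩
    · exact absurd h hnpow
    · refine ⟨r, hr, ?_, hrm⟩
      rintro rfl
      exact (Nat.not_odd_iff_even.mpr even_two) hro

end Cfsg.Agent.helper12
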