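import Cfsg.Agent.Lib_helper12_Blk1
import Cfsg.Agent.Lib_helper12_McKay3
import Cfsg.Agent.Lib_helper12_Cusp03
import Cfsg.Agent.Lib_helper12_Redundant2c
import Cfsg.Agent.Lib_helper12_PslChars
import Cfsg.Agent.Lib_helper12_Sl2Sylow

set_option autoImplicit false

namespace Cfsg.Agent.helper12

open Cfsg Matrix
open scoped ComplexConjugate

variable {F : Type*} [Field F] [Fintype F]

theorem odd_card_of_charP_ne_two (p : ℕ) [Fact p.Prime] [CharP F p] (hp : p ≠ 2) : Odd (Fintype.card F) := by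
  obtain ⟨n, hpp, hn⟩ := FiniteField.card F p
  rw [hn]
  exact Odd.pow (hpp.odd_of_ne_two hp)

theorem char_dvd_card (p : ℕ) [Fact p.Prime] [CharP F p] : p ∣ Fintype.card F := by
  obtain ⟨n, _, hn⟩ := FiniteField.card F p
  rw [hn]
  exact dvd_pow_self p n.ne_zero

theorem sl2_neg_one_coe : ((-1 : Matrix.SpecialLinearGroup (Fin 2) F) : Matrix (Fin 2) (Fin 2) F) = -1 := by
  rw [Matrix.SpecialLinearGroup.coe_neg, Matrix.SpecialLinearGroup.coe_one]

theorem sl2_neg_one_mem_center : (-1 : Matrix.SpecialLinearGroup (Fin 2) F) ∈ Subgroup.center (Matrix.SpecialLinearGroup (Fin 2) F) := by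
  apply sl2_central_of_scalar _ (-1)
  rw [sl2_neg_one_coe]
  simp

theorem sl2_neg_one_mul_self : (-1 : Matrix.SpecialLinearGroup (Fin 2) F) * (-1) = 1 := by
  apply Subtype.ext
  rw [Matrix.SpecialLinearGroup.coe_mul, sl2_neg_one_coe, Matrix.SpecialLinearGroup.coe_one]
  simp

theorem sl2_neg_one_ne_one (hodd : Odd (Fintype.card F)) : (-1 : Matrix.SpecialLinearGroup (Fin 2) F) ≠ 1 := by
  intro h
  have h2 : (2 : F) ≠ 0 := two_ne_zero_of_odd_card hodd
  have h1 := congrArg (fun m : Matrix.SpecialLinearGroup (Fin 2) F => (m : Matrix (Fin 2) (Fin 2) F) 0 0) h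
  simp only [sl2_neg_one_coe, Matrix.SpecialLinearGroup.coe_one] at h1
  simp at h1
  apply h2
  linear_combination -h1

/-- classes of regular semisimple elements have size divisible by `p` -/
theorem sl2_dvd_index_of_disc (p : ℕ) [Fact p.Prime] [CharP F p] (hodd : Odd (Fintype.card F))
    (g : Matrix.SpecialLinearGroup (Fin 2) F) (hD : (g : Matrix (Fin 2) (Fin 2) F).trace ^ 2 ≠ 4) :
    p ∣ (Subgroup.centralizer ({g} : Set (Matrix.SpecialLinearGroup (Fin 2) F))).index := by
  have hpp : p.Prime := Fact.out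
  have hpq := char_dvd_card (F := F) p
  have hn1 : ¬ p ∣ 1 := fun h => hpp.one_lt.ne' (Nat.dvd_one.mp h)
  have hq1 : 1 ≤ Fintype.card F := Fintype.card_pos
  have h1 := Subgroup.card_mul_index (Subgroup.centralizer ({g} : Set (Matrix.SpecialLinearGroup (Fin 2) F)))
  rw [card_SL2] at h1
  have h2 : p ∣ Nat.card (Subgroup.centralizer ({g} : Set (Matrix.SpecialLinearGroup (Fin 2) F))) *
      (Subgroup.centralizer ({g} : Set (Matrix.SpecialLinearGroup (Fin 2) F))).index := by
    rw [h1]; exact Dvd.dvd.mul_right hpq _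
  rcases (Nat.Prime.dvd_mul hpp).mp h2 with h | h
  · exfalso
    rcases sl2_card_centralizer_cases hodd g hD with hc | hc
    · rw [hc] at h
      have h3 : p ∣ Fintype.card F - (Fintype.card F - 1) := Nat.dvd_sub hpq h
      rw [show Fintype.card F - (Fintype.card F - 1) = 1 by omega] at h3
      exact hn1 h3
    · rw [hc] at h
      exact hn1 ((Nat.dvd_add_right hpq).mp h)
  · exact h

/-- elements of discriminant zero are `± unipotent` -/
theorem sl2_exists_ppart (p : ℕ) [Fact p.Prime] [CharP F p] (hodd : Odd (Fintype.card F))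
    (g : Matrix.SpecialLinearGroup (Fin 2) F) (hD : (g : Matrix (Fin 2) (Fin 2) F).trace ^ 2 = 4) :
    ∃ u ε : Matrix.SpecialLinearGroup (Fin 2) F, (ε = 1 ∨ ε = -1) ∧ u ^ (p ^ 1) = 1 ∧ g = u * ε := by
  have h2 : (2 : F) ≠ 0 := two_ne_zero_of_odd_card hodd
  have key : ∀ u : Matrix.SpecialLinearGroup (Fin 2) F, (u : Matrix (Fin 2) (Fin 2) F).trace = 2 → u ^ (p ^ 1) = 1 := by
    intro u hu
    rw [pow_one]
    by_cases h1 : u = 1
    · rw [h1, one_pow]
    · have := (sl2_orderOf_eq_char_iff p u).mpr ⟨h1, hu⟩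
      rw [← this]
      exact pow_orderOf_eq_one u
  have hcases : (g : Matrix (Fin 2) (Fin 2) F).trace = 2 ∨ (g : Matrix (Fin 2) (Fin 2) F).trace = -2 := by
    have h3 : ((g : Matrix (Fin 2) (Fin 2) F).trace - 2) * ((g : Matrix (Fin 2) (Fin 2) F).trace + 2) = 0 := by
      linear_combination hD
    rcases mul_eq_zero.mp h3 with h | h
    · left; linear_combination h
    · right; linear_combination h
  rcases hcases with h | h
  · exact ⟨g, 1, Or.inl rfl, key g h, (mul_one g).symm⟩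
  · refine ⟨g * (-1), -1, Or.inr rfl, key _ ?_, ?_⟩
    · rw [Matrix.SpecialLinearGroup.coe_mul, sl2_neg_one_coe, mul_neg, mul_one, Matrix.trace_neg, h, neg_neg]
    · rw [mul_assoc, sl2_neg_one_mul_self, mul_one]

section Irr

variable (p : ℕ) [Fact p.Prime] [CharP F p]

theorem sl2_irr_degree_cases [DecidableEq F] (χ : IrrCharacter (Matrix.SpecialLinearGroup (Fin 2) F)) :
    ¬ p ∣ charDegree (χ : Matrix.SpecialLinearGroup (Fin 2) F → ℂ) ∨
      (χ : Matrix.SpecialLinearGroup (Fin 2) F → ℂ) = sl2St := by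
  by_cases hp : p ∣ charDegree (χ : Matrix.SpecialLinearGroup (Fin 2) F → ℂ)
  · right
    have h1 := sl2_charDegree_of_dvd p χ.2 hp
    apply sl2_deg_q_unique χ.2
    rw [← helper24.char_charDegree_cast (helper24.irr_isCharacter χ.2), h1]
  · left; exact hp

theorem irr_apply_one_ne_zero {G : Type*} [Group G] (χ : IrrCharacter G) : (χ : G → ℂ) 1 ≠ 0 := by
  rw [← helper24.char_charDegree_cast (helper24.irr_isCharacter χ.2)]
  exact_mod_cast (helper24.irr_charDegree_pos χ.2).ne'

theorem sl2_irr_sign (χ : IrrCharacter (Matrix.SpecialLinearGroup (Fin 2) F)) :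
    (χ : Matrix.SpecialLinearGroup (Fin 2) F → ℂ) (-1) = (χ : Matrix.SpecialLinearGroup (Fin 2) F → ℂ) 1 ∨
    (χ : Matrix.SpecialLinearGroup (Fin 2) F → ℂ) (-1) = -(χ : Matrix.SpecialLinearGroup (Fin 2) F → ℂ) 1 := by
  have h1 := helper24.irr_central_apply χ.2 (-1) sl2_neg_one_mem_center (-1)
  rw [sl2_neg_one_mul_self] at h1
  have h0 := irr_apply_one_ne_zero χ
  have h2 : ((χ : Matrix.SpecialLinearGroup (Fin 2) F → ℂ) (-1) - (χ : Matrix.SpecialLinearGroup (Fin 2) F → ℂ) 1) *
      ((χ : Matrix.SpecialLinearGroup (Fin 2) F → ℂ) (-1) + (χ : Matrix.SpecialLinearGroup (Fin 2) F → ℂ) 1) = 0 := by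
    field_simp at h1
    linear_combination -h1
  rcases mul_eq_zero.mp h2 with h | h
  · left; linear_combination h
  · right; linear_combination h

end Irr

end Cfsg.Agent.helper12
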