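import Cfsg.Agent.Lib_helper12_Blk2

set_option autoImplicit false

namespace Cfsg.Agent.helper12

open Cfsg Matrix
open scoped ComplexConjugate

variable {F : Type*} [Field F] [Fintype F]

section Same

variable (p : ℕ) [Fact p.Prime] [CharP F p] (hp : p ≠ 2) (M : Ideal Cfsg.AlgInt) (hM : Cfsg.IsPModular p M)
include hp hM

/-- characters of `p'`-degree with the same central sign lie in the same block -/
theorem sl2_sameBlock_of_sign (χ ψ : IrrCharacter (Matrix.SpecialLinearGroup (Fin 2) F))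
    (hχ : ¬ p ∣ charDegree (χ : Matrix.SpecialLinearGroup (Fin 2) F → ℂ))
    (hψ : ¬ p ∣ charDegree (ψ : Matrix.SpecialLinearGroup (Fin 2) F → ℂ))
    (hs : (χ : Matrix.SpecialLinearGroup (Fin 2) F → ℂ) (-1) / (χ : Matrix.SpecialLinearGroup (Fin 2) F → ℂ) 1 =
      (ψ : Matrix.SpecialLinearGroup (Fin 2) F → ℂ) (-1) / (ψ : Matrix.SpecialLinearGroup (Fin 2) F → ℂ) 1) :
    SameBlock M (χ : Matrix.SpecialLinearGroup (Fin 2) F → ℂ) (ψ : Matrix.SpecialLinearGroup (Fin 2) F → ℂ) := by
  classical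
  haveI : Fintype (Matrix.SpecialLinearGroup (Fin 2) F) := Fintype.ofFinite _
  have hMp : M.IsPrime := hM.2.1.isPrime
  have hodd := odd_card_of_charP_ne_two (F := F) p hp
  intro g
  by_cases hD : (g : Matrix (Fin 2) (Fin 2) F).trace ^ 2 = 4
  · obtain ⟨u, ε, hε, hu, rfl⟩ := sl2_exists_ppart p hodd g hD
    have hεc : ε ∈ Subgroup.center (Matrix.SpecialLinearGroup (Fin 2) F) := by
      rcases hε with rfl | rfl
      · exact one_mem _
      · exact sl2_neg_one_mem_center
    have h1 := centralChar_sub_memLocalIdeal_of_ppart hM χ hχ u ε hεc hu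
    have h2 := centralChar_sub_memLocalIdeal_of_ppart hM ψ hψ u ε hεc hu
    have hratio : (χ : Matrix.SpecialLinearGroup (Fin 2) F → ℂ) ε / (χ : Matrix.SpecialLinearGroup (Fin 2) F → ℂ) 1 =
        (ψ : Matrix.SpecialLinearGroup (Fin 2) F → ℂ) ε / (ψ : Matrix.SpecialLinearGroup (Fin 2) F → ℂ) 1 := by
      rcases hε with rfl | rfl
      · rw [div_self (irr_apply_one_ne_zero χ), div_self (irr_apply_one_ne_zero ψ)]
      · exact hs
    have h3 := helper24.memLocalIdeal_sub h1 h2
    rw [hratio] at h3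
    have e : centralChar (χ : Matrix.SpecialLinearGroup (Fin 2) F → ℂ) (u * ε) -
        ((Subgroup.centralizer ({u * ε} : Set (Matrix.SpecialLinearGroup (Fin 2) F))).index : ℂ) *
          ((ψ : Matrix.SpecialLinearGroup (Fin 2) F → ℂ) ε / (ψ : Matrix.SpecialLinearGroup (Fin 2) F → ℂ) 1) -
        (centralChar (ψ : Matrix.SpecialLinearGroup (Fin 2) F → ℂ) (u * ε) -
        ((Subgroup.centralizer ({u * ε} : Set (Matrix.SpecialLinearGroup (Fin 2) F))).index : ℂ) *
          ((ψ : Matrix.SpecialLinearGroup (Fin 2) F → ℂ) ε / (ψ : Matrix.SpecialLinearGroup (Fin 2) F → ℂ) 1)) =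
        centralChar (χ : Matrix.SpecialLinearGroup (Fin 2) F → ℂ) (u * ε) -
          centralChar (ψ : Matrix.SpecialLinearGroup (Fin 2) F → ℂ) (u * ε) := by ring
    rw [e] at h3
    exact h3
  · have hdvd := sl2_dvd_index_of_disc p hodd g hD
    exact helper24.memLocalIdeal_sub (centralChar_memLocalIdeal_of_dvd hM χ hχ g hdvd)
      (centralChar_memLocalIdeal_of_dvd hM ψ hψ g hdvd)

/-- the Steinberg character is not in the block of a character of `p'`-degree -/
theorem sl2_not_sameBlock_St [DecidableEq F] (ψ : IrrCharacter (Matrix.SpecialLinearGroup (Fin 2) F))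
    (hψ : ¬ p ∣ charDegree (ψ : Matrix.SpecialLinearGroup (Fin 2) F → ℂ)) :
    ¬ SameBlock M (sl2St (F := F)) (ψ : Matrix.SpecialLinearGroup (Fin 2) F → ℂ) := by
  haveI : Fintype (Matrix.SpecialLinearGroup (Fin 2) F) := Fintype.ofFinite _
  have hMp : M.IsPrime := hM.2.1.isPrime
  have hpp : p.Prime := Fact.out
  have hodd := odd_card_of_charP_ne_two (F := F) p hp
  have hpq := char_dvd_card (F := F) p
  have hn1 : ¬ p ∣ 1 := fun h => hpp.one_lt.ne' (Nat.dvd_one.mp h)
  have hq1 : 1 ≤ Fintype.card F := Fintype.card_pos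
  intro hsame
  obtain ⟨g₀, hord⟩ := Cfsg.Agent.helper11.Torus.exists_orderOf_eq_of_dvd_add_one (F := F) (dvd_refl (Fintype.card F + 1))
  have hne := sl2_noEigen_of_orderOf g₀ hord
  have hD := noEigen2_trace_sq_ne hodd g₀ hne
  have hcard := card_sl2_centralizer_noEigen hodd g₀ hne
  have hdvd := sl2_dvd_index_of_disc p hodd g₀ hD
  have h1 := hsame g₀
  have h2 := centralChar_memLocalIdeal_of_dvd hM ψ hψ g₀ hdvd
  have h3 := helper24.memLocalIdeal_add h1 h2
  rw [sub_add_cancel] at h3
  -- compute the central character of St at g₀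
  have hidx : (Subgroup.centralizer ({g₀} : Set (Matrix.SpecialLinearGroup (Fin 2) F))).index =
      Fintype.card F * (Fintype.card F - 1) := by
    have h4 := Subgroup.card_mul_index (Subgroup.centralizer ({g₀} : Set (Matrix.SpecialLinearGroup (Fin 2) F)))
    rw [card_SL2, hcard] at h4
    have e : Fintype.card F ^ 2 - 1 = (Fintype.card F + 1) * (Fintype.card F - 1) := by
      obtain ⟨j, hj⟩ : ∃ j, Fintype.card F = j + 1 := ⟨Fintype.card F - 1, by omega⟩
      rw [hj]
      have : (j + 1) ^ 2 = (j + 1 + 1) * (j + 1 - 1) + 1 := by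
        simp only [Nat.add_sub_cancel]; ring
      omega
    rw [e] at h4
    have h5 : (Fintype.card F + 1) * (Subgroup.centralizer ({g₀} : Set (Matrix.SpecialLinearGroup (Fin 2) F))).index =
        (Fintype.card F + 1) * (Fintype.card F * (Fintype.card F - 1)) := by
      rw [h4]; ring
    exact Nat.eq_of_mul_eq_mul_left (by omega) h5
  have hval : centralChar (sl2St (F := F)) g₀ = -(((Fintype.card F - 1 : ℕ)) : ℂ) := by
    unfold centralChar
    rw [hidx, sl2St_noEigen g₀ hne, sl2St_one]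
    have hq0 : (Fintype.card F : ℂ) ≠ 0 := by
      exact_mod_cast (by omega : Fintype.card F ≠ 0)
    push_cast
    field_simp
  rw [hval] at h3
  have h6 := helper24.memLocalIdeal_neg h3
  rw [neg_neg] at h6
  refine helper24.natCast_not_memLocalIdeal hM ?_ h6
  intro h
  have h7 : p ∣ Fintype.card F - (Fintype.card F - 1) := Nat.dvd_sub hpq h
  rw [show Fintype.card F - (Fintype.card F - 1) = 1 by omega] at h7
  exact hn1 h7

/-- characters of different central sign are in different blocks -/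
theorem sl2_not_sameBlock_sign (χ ψ : IrrCharacter (Matrix.SpecialLinearGroup (Fin 2) F))
    (hχ : (χ : Matrix.SpecialLinearGroup (Fin 2) F → ℂ) (-1) = (χ : Matrix.SpecialLinearGroup (Fin 2) F → ℂ) 1)
    (hψ : (ψ : Matrix.SpecialLinearGroup (Fin 2) F → ℂ) (-1) = -(ψ : Matrix.SpecialLinearGroup (Fin 2) F → ℂ) 1) :
    ¬ SameBlock M (χ : Matrix.SpecialLinearGroup (Fin 2) F → ℂ) (ψ : Matrix.SpecialLinearGroup (Fin 2) F → ℂ) := by
  have hMp : M.IsPrime := hM.2.1.isPrime
  have hpp : p.Prime := Fact.out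
  intro hsame
  have h1 := hsame (-1)
  have hidx : (Subgroup.centralizer ({(-1 : Matrix.SpecialLinearGroup (Fin 2) F)} : Set (Matrix.SpecialLinearGroup (Fin 2) F))).index = 1 := by
    have : Subgroup.centralizer ({(-1 : Matrix.SpecialLinearGroup (Fin 2) F)} : Set (Matrix.SpecialLinearGroup (Fin 2) F)) = ⊤ := by
      rw [eq_top_iff]
      intro x _
      rw [Subgroup.mem_centralizer_singleton_iff]
      exact Subgroup.mem_center_iff.mp sl2_neg_one_mem_center x
    rw [this, Subgroup.index_top]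
  unfold centralChar at h1
  rw [hidx, hχ, hψ, Nat.cast_one, one_mul, one_mul, div_self (irr_apply_one_ne_zero χ), neg_div,
    div_self (irr_apply_one_ne_zero ψ)] at h1
  have h2 : MemLocalIdeal M ((2 : ℕ) : ℂ) := by
    have : ((2 : ℕ) : ℂ) = 1 - -1 := by norm_num
    rw [this]; exact h1
  refine helper24.natCast_not_memLocalIdeal hM ?_ h2
  intro h
  exact hp ((Nat.prime_dvd_prime_iff_eq hpp Nat.prime_two).mp h)

end Same

end Cfsg.Agent.helper12
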