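import Cfsg.Agent.Lib_helper12_Blk3

set_option autoImplicit false

namespace Cfsg.Agent.helper12

open Cfsg Matrix
open scoped ComplexConjugate

variable {F : Type*} [Field F] [Fintype F]

/-- the Steinberg block -/
def blkSt (F : Type*) [Field F] [Fintype F] : Set (Cfsg.IrrCharacter (Matrix.SpecialLinearGroup (Fin 2) F)) :=
  {χ | (χ : Matrix.SpecialLinearGroup (Fin 2) F → ℂ) 1 = (Fintype.card F : ℂ)}

/-- the principal block -/
def blkPlus (F : Type*) [Field F] [Fintype F] : Set (Cfsg.IrrCharacter (Matrix.SpecialLinearGroup (Fin 2) F)) :=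
  {χ | (χ : Matrix.SpecialLinearGroup (Fin 2) F → ℂ) (-1) = (χ : Matrix.SpecialLinearGroup (Fin 2) F → ℂ) 1 ∧
    (χ : Matrix.SpecialLinearGroup (Fin 2) F → ℂ) 1 ≠ (Fintype.card F : ℂ)}

/-- the block of faithful characters -/
def blkMinus (F : Type*) [Field F] [Fintype F] : Set (Cfsg.IrrCharacter (Matrix.SpecialLinearGroup (Fin 2) F)) :=
  {χ | (χ : Matrix.SpecialLinearGroup (Fin 2) F → ℂ) (-1) = -(χ : Matrix.SpecialLinearGroup (Fin 2) F → ℂ) 1}

section Asm

variable (p : ℕ) [Fact p.Prime] [CharP F p] (hp : p ≠ 2) (M : Ideal Cfsg.AlgInt) (hM : Cfsg.IsPModular p M)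

theorem sl2St_neg_one [DecidableEq F] : sl2St (F := F) (-1) = sl2St (F := F) 1 :=
  sl2St_center _ sl2_neg_one_mem_center

theorem card_cast_ne_zero_blk : (Fintype.card F : ℂ) ≠ 0 := by
  exact_mod_cast (Fintype.card_pos (α := F)).ne'

theorem eq_St_of_one_eq [DecidableEq F] (ψ : IrrCharacter (Matrix.SpecialLinearGroup (Fin 2) F))
    (h : (ψ : Matrix.SpecialLinearGroup (Fin 2) F → ℂ) 1 = (Fintype.card F : ℂ)) :
    (ψ : Matrix.SpecialLinearGroup (Fin 2) F → ℂ) = sl2St := sl2_deg_q_unique ψ.2 h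

include hp hM

theorem not_dvd_of_one_ne [DecidableEq F] (ψ : IrrCharacter (Matrix.SpecialLinearGroup (Fin 2) F))
    (h : (ψ : Matrix.SpecialLinearGroup (Fin 2) F → ℂ) 1 ≠ (Fintype.card F : ℂ)) :
    ¬ p ∣ charDegree (ψ : Matrix.SpecialLinearGroup (Fin 2) F → ℂ) := by
  rcases sl2_irr_degree_cases p ψ with h1 | h1
  · exact h1
  · exfalso
    apply h
    rw [h1, sl2St_one]

theorem blockOf_St [DecidableEq F] : blockOf M (sl2St (F := F)) = blkSt F := by
  have hMp : M.IsPrime := hM.2.1.isPrime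
  ext ψ
  constructor
  · intro hsame
    by_contra hne
    exact sl2_not_sameBlock_St p hp M hM ψ (not_dvd_of_one_ne p hp M hM ψ hne) hsame
  · intro h
    have h1 := eq_St_of_one_eq ψ h
    show SameBlock M (sl2St (F := F)) (ψ : Matrix.SpecialLinearGroup (Fin 2) F → ℂ)
    rw [h1]
    exact helper24.sameBlock_refl M hMp.ne_top _

theorem blockOf_plus [DecidableEq F] (χ : IrrCharacter (Matrix.SpecialLinearGroup (Fin 2) F))
    (hχ : χ ∈ blkPlus F) : blockOf M (χ : Matrix.SpecialLinearGroup (Fin 2) F → ℂ) = blkPlus F := by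
  have hMp : M.IsPrime := hM.2.1.isPrime
  obtain ⟨hs, hne⟩ := hχ
  have hd := not_dvd_of_one_ne p hp M hM χ hne
  ext ψ
  constructor
  · intro hsame
    have hsame' : SameBlock M (χ : Matrix.SpecialLinearGroup (Fin 2) F → ℂ) (ψ : Matrix.SpecialLinearGroup (Fin 2) F → ℂ) := hsame
    have hne' : (ψ : Matrix.SpecialLinearGroup (Fin 2) F → ℂ) 1 ≠ (Fintype.card F : ℂ) := by
      intro h
      have h1 := eq_St_of_one_eq ψ h
      rw [h1] at hsame'
      exact sl2_not_sameBlock_St p hp M hM χ hd (helper24.sameBlock_symm hsame')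
    refine ⟨?_, hne'⟩
    rcases sl2_irr_sign ψ with h | h
    · exact h
    · exact absurd hsame' (sl2_not_sameBlock_sign p hp M hM χ ψ hs h)
  · rintro ⟨hs', hne'⟩
    have hd' := not_dvd_of_one_ne p hp M hM ψ hne'
    apply sl2_sameBlock_of_sign p hp M hM χ ψ hd hd'
    rw [hs, hs', div_self (irr_apply_one_ne_zero χ), div_self (irr_apply_one_ne_zero ψ)]

theorem blkMinus_one_ne [DecidableEq F] (χ : IrrCharacter (Matrix.SpecialLinearGroup (Fin 2) F))
    (hχ : χ ∈ blkMinus F) : (χ : Matrix.SpecialLinearGroup (Fin 2) F → ℂ) 1 ≠ (Fintype.card F : ℂ) := by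
  intro h
  have h1 := eq_St_of_one_eq χ h
  have h2 : (χ : Matrix.SpecialLinearGroup (Fin 2) F → ℂ) (-1) = -(χ : Matrix.SpecialLinearGroup (Fin 2) F → ℂ) 1 := hχ
  rw [h1, sl2St_neg_one, sl2St_one] at h2
  have h3 : (2 : ℂ) * (Fintype.card F : ℂ) = 0 := by linear_combination h2
  rcases mul_eq_zero.mp h3 with h4 | h4
  · norm_num at h4
  · exact card_cast_ne_zero_blk h4

theorem blockOf_minus [DecidableEq F] (χ : IrrCharacter (Matrix.SpecialLinearGroup (Fin 2) F))
    (hχ : χ ∈ blkMinus F) : blockOf M (χ : Matrix.SpecialLinearGroup (Fin 2) F → ℂ) = blkMinus F := by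
  have hMp : M.IsPrime := hM.2.1.isPrime
  have hs : (χ : Matrix.SpecialLinearGroup (Fin 2) F → ℂ) (-1) = -(χ : Matrix.SpecialLinearGroup (Fin 2) F → ℂ) 1 := hχ
  have hne := blkMinus_one_ne p hp M hM χ hχ
  have hd := not_dvd_of_one_ne p hp M hM χ hne
  ext ψ
  constructor
  · intro hsame
    have hsame' : SameBlock M (χ : Matrix.SpecialLinearGroup (Fin 2) F → ℂ) (ψ : Matrix.SpecialLinearGroup (Fin 2) F → ℂ) := hsame
    rcases sl2_irr_sign ψ with h | h
    · exact absurd (helper24.sameBlock_symm hsame') (sl2_not_sameBlock_sign p hp M hM ψ χ h hs)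
    · exact h
  · intro hs'
    have hs'' : (ψ : Matrix.SpecialLinearGroup (Fin 2) F → ℂ) (-1) = -(ψ : Matrix.SpecialLinearGroup (Fin 2) F → ℂ) 1 := hs'
    have hne' := blkMinus_one_ne p hp M hM ψ hs'
    have hd' := not_dvd_of_one_ne p hp M hM ψ hne'
    apply sl2_sameBlock_of_sign p hp M hM χ ψ hd hd'
    rw [hs, hs'', neg_div, neg_div, div_self (irr_apply_one_ne_zero χ), div_self (irr_apply_one_ne_zero ψ)]

omit hM in
/-- there is an irreducible character which is not trivial on `-1` -/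
theorem exists_mem_blkMinus : ∃ χ : IrrCharacter (Matrix.SpecialLinearGroup (Fin 2) F), χ ∈ blkMinus F := by
  classical
  haveI : Fintype (IrrCharacter (Matrix.SpecialLinearGroup (Fin 2) F)) := Fintype.ofFinite _
  have hodd := odd_card_of_charP_ne_two (F := F) p hp
  by_contra hno
  push Not at hno
  have hall : ∀ χ : IrrCharacter (Matrix.SpecialLinearGroup (Fin 2) F),
      (χ : Matrix.SpecialLinearGroup (Fin 2) F → ℂ) (-1) = (χ : Matrix.SpecialLinearGroup (Fin 2) F → ℂ) 1 := by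
    intro χ
    rcases sl2_irr_sign χ with h | h
    · exact h
    · exact absurd h (hno χ)
  have h1 := helper24.irr_column_orthogonality (G := Matrix.SpecialLinearGroup (Fin 2) F) (-1) 1
  have h2 := helper24.irr_column_orthogonality (G := Matrix.SpecialLinearGroup (Fin 2) F) 1 1
  rw [if_neg (by
    intro hc
    rw [isConj_one_left] at hc
    exact sl2_neg_one_ne_one hodd hc)] at h1
  rw [if_pos (IsConj.refl _)] at h2
  have h3 : ∑ χ : IrrCharacter (Matrix.SpecialLinearGroup (Fin 2) F), (χ : Matrix.SpecialLinearGroup (Fin 2) F → ℂ) (-1) * conj ((χ : Matrix.SpecialLinearGroup (Fin 2) F → ℂ) 1) =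
      ∑ χ : IrrCharacter (Matrix.SpecialLinearGroup (Fin 2) F), (χ : Matrix.SpecialLinearGroup (Fin 2) F → ℂ) 1 * conj ((χ : Matrix.SpecialLinearGroup (Fin 2) F → ℂ) 1) := by
    apply Finset.sum_congr rfl
    intro χ _
    rw [hall χ]
  rw [h3, h2] at h1
  have h4 : Nat.card (Subgroup.centralizer ({1} : Set (Matrix.SpecialLinearGroup (Fin 2) F))) ≠ 0 := Nat.card_pos.ne'
  exact h4 (by exact_mod_cast h1)

omit hp hM in
theorem triv_mem_blkPlus : (helper1.trivIrr (Matrix.SpecialLinearGroup (Fin 2) F)) ∈ blkPlus F := by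
  refine ⟨rfl, ?_⟩
  show (1 : ℂ) ≠ (Fintype.card F : ℂ)
  have : 1 < Fintype.card F := Fintype.one_lt_card
  exact_mod_cast this.ne

theorem isPBlock_iff [DecidableEq F] (B : Set (Cfsg.IrrCharacter (Matrix.SpecialLinearGroup (Fin 2) F))) :
    Cfsg.IsPBlock M B ↔ (B = blkSt F ∨ B = blkPlus F ∨ B = blkMinus F) := by
  constructor
  · rintro ⟨χ, rfl⟩
    by_cases h1 : (χ : Matrix.SpecialLinearGroup (Fin 2) F → ℂ) 1 = (Fintype.card F : ℂ)
    · left
      rw [eq_St_of_one_eq χ h1]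
      exact blockOf_St p hp M hM
    · rcases sl2_irr_sign χ with h | h
      · right; left
        exact blockOf_plus p hp M hM χ ⟨h, h1⟩
      · right; right
        exact blockOf_minus p hp M hM χ h
  · rintro (rfl | rfl | rfl)
    · exact ⟨⟨sl2St, sl2St_irr⟩, (blockOf_St p hp M hM).symm⟩
    · exact ⟨helper1.trivIrr _, (blockOf_plus p hp M hM _ triv_mem_blkPlus).symm⟩
    · obtain ⟨χ, hχ⟩ := exists_mem_blkMinus (F := F) p hp
      exact ⟨χ, (blockOf_minus p hp M hM χ hχ).symm⟩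

theorem card_blocks [DecidableEq F] :
    Nat.card {B : Set (Cfsg.IrrCharacter (Matrix.SpecialLinearGroup (Fin 2) F)) // Cfsg.IsPBlock M B} = 3 := by
  have hSt : (⟨sl2St, sl2St_irr⟩ : IrrCharacter (Matrix.SpecialLinearGroup (Fin 2) F)) ∈ blkSt F := sl2St_one
  have h12 : blkSt F ≠ blkPlus F := by
    intro h
    rw [h] at hSt
    exact hSt.2 sl2St_one
  have h13 : blkSt F ≠ blkMinus F := by
    intro h
    rw [h] at hSt
    exact blkMinus_one_ne p hp M hM _ hSt sl2St_one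
  have h23 : blkPlus F ≠ blkMinus F := by
    intro h
    have h1 : helper1.trivIrr (Matrix.SpecialLinearGroup (Fin 2) F) ∈ blkMinus F := h ▸ triv_mem_blkPlus
    have h2 : (1 : ℂ) = -1 := h1
    norm_num at h2
  rw [Nat.card_congr (Equiv.subtypeEquivRight (isPBlock_iff p hp M hM))]
  have e : Nat.card {B : Set (Cfsg.IrrCharacter (Matrix.SpecialLinearGroup (Fin 2) F)) // B = blkSt F ∨ B = blkPlus F ∨ B = blkMinus F} =
      ({blkSt F, blkPlus F, blkMinus F} : Set (Set (Cfsg.IrrCharacter (Matrix.SpecialLinearGroup (Fin 2) F)))).ncard := rfl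
  rw [e]
  exact Set.ncard_eq_three.mpr ⟨_, _, _, h12, h13, h23, rfl⟩

theorem defect_plus_minus [DecidableEq F] (P : Sylow p (Matrix.SpecialLinearGroup (Fin 2) F)) :
    Cfsg.IsDefectGroup p M (blkPlus F) (P : Subgroup (Matrix.SpecialLinearGroup (Fin 2) F)) ∧
    Cfsg.IsDefectGroup p M (blkMinus F) (P : Subgroup (Matrix.SpecialLinearGroup (Fin 2) F)) := by
  haveI : Fintype (Matrix.SpecialLinearGroup (Fin 2) F) := Fintype.ofFinite _
  have hpp : p.Prime := Fact.out
  constructor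
  · apply isDefectGroup_sylow_of_pprime p M hM (blkPlus F) ((isPBlock_iff p hp M hM _).mpr (Or.inr (Or.inl rfl)))
      (helper1.trivIrr _) triv_mem_blkPlus
    rw [helper1.charDegree_trivIrr]
    exact fun h => hpp.one_lt.ne' (Nat.dvd_one.mp h)
  · obtain ⟨χ, hχ⟩ := exists_mem_blkMinus (F := F) p hp
    exact isDefectGroup_sylow_of_pprime p M hM (blkMinus F) ((isPBlock_iff p hp M hM _).mpr (Or.inr (Or.inr rfl)))
      χ hχ (not_dvd_of_one_ne p hp M hM χ (blkMinus_one_ne p hp M hM χ hχ)) P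

end Asm

/-- S2439 -/
theorem sl2_blocks_defining {F : Type*} [Field F] [Fintype F] (p : ℕ) [Fact p.Prime] [CharP F p] (hp : p ≠ 2)
    (M : Ideal Cfsg.AlgInt) (hM : Cfsg.IsPModular p M) :
    (∀ B : Set (Cfsg.IrrCharacter (Matrix.SpecialLinearGroup (Fin 2) F)), Cfsg.IsPBlock M B ↔
      (B = {χ : Cfsg.IrrCharacter (Matrix.SpecialLinearGroup (Fin 2) F) | (χ : Matrix.SpecialLinearGroup (Fin 2) F → ℂ) 1 = (Fintype.card F : ℂ)} ∨
       B = {χ : Cfsg.IrrCharacter (Matrix.SpecialLinearGroup (Fin 2) F) | (χ : Matrix.SpecialLinearGroup (Fin 2) F → ℂ) (-1) = (χ : Matrix.SpecialLinearGroup (Fin 2) F → ℂ) 1 ∧ (χ : Matrix.SpecialLinearGroup (Fin 2) F → ℂ) 1 ≠ (Fintype.card F : ℂ)} ∨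
       B = {χ : Cfsg.IrrCharacter (Matrix.SpecialLinearGroup (Fin 2) F) | (χ : Matrix.SpecialLinearGroup (Fin 2) F → ℂ) (-1) = -(χ : Matrix.SpecialLinearGroup (Fin 2) F → ℂ) 1})) ∧
    Nat.card {B : Set (Cfsg.IrrCharacter (Matrix.SpecialLinearGroup (Fin 2) F)) // Cfsg.IsPBlock M B} = 3 ∧
    ∀ P : Sylow p (Matrix.SpecialLinearGroup (Fin 2) F),
      Cfsg.IsDefectGroup p M {χ : Cfsg.IrrCharacter (Matrix.SpecialLinearGroup (Fin 2) F) | (χ : Matrix.SpecialLinearGroup (Fin 2) F → ℂ) (-1) = (χ : Matrix.SpecialLinearGroup (Fin 2) F → ℂ) 1 ∧ (χ : Matrix.SpecialLinearGroup (Fin 2) F → ℂ) 1 ≠ (Fintype.card F : ℂ)} (P : Subgroup (Matrix.SpecialLinearGroup (Fin 2) F)) ∧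
      Cfsg.IsDefectGroup p M {χ : Cfsg.IrrCharacter (Matrix.SpecialLinearGroup (Fin 2) F) | (χ : Matrix.SpecialLinearGroup (Fin 2) F → ℂ) (-1) = -(χ : Matrix.SpecialLinearGroup (Fin 2) F → ℂ) 1} (P : Subgroup (Matrix.SpecialLinearGroup (Fin 2) F)) := by
  classical
  exact ⟨fun B => isPBlock_iff p hp M hM B, card_blocks p hp M hM, fun P => defect_plus_minus p hp M hM P⟩

end Cfsg.Agent.helper12
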