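import Cfsg.Agent.Lib_helper4_PFix

set_option autoImplicit false

namespace Cfsg.Agent.helper12

open Matrix

variable {F : Type*} [Field F] {n : ℕ}


/-- the ascending fixed-point series of a subgroup of SL_n acting on F^n -/
noncomputable def fixSeries (U : Subgroup (Matrix.SpecialLinearGroup (Fin n) F)) : ℕ → Submodule F (Fin n → F)
  | 0 => ⊥
  | i + 1 => ⨅ u : U, (fixSeries U i).comap (Matrix.mulVecLin ((u : Matrix.SpecialLinearGroup (Fin n) F) : Matrix (Fin n) (Fin n) F) - LinearMap.id)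

theorem fixSeries_zero (U : Subgroup (Matrix.SpecialLinearGroup (Fin n) F)) : fixSeries U 0 = ⊥ := rfl

theorem mem_fixSeries_succ (U : Subgroup (Matrix.SpecialLinearGroup (Fin n) F)) (i : ℕ) (v : Fin n → F) :
    v ∈ fixSeries U (i + 1) ↔ ∀ u ∈ U, (u : Matrix (Fin n) (Fin n) F).mulVec v - v ∈ fixSeries U i := by
  simp only [fixSeries, Submodule.mem_iInf, Submodule.mem_comap, LinearMap.sub_apply, Matrix.mulVecLin_apply,
    LinearMap.id_apply, Subtype.forall]

theorem fixSeries_mono (U : Subgroup (Matrix.SpecialLinearGroup (Fin n) F)) (i : ℕ) :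
    fixSeries U i ≤ fixSeries U (i + 1) := by
  induction i with
  | zero => rw [fixSeries_zero]; exact bot_le
  | succ i ih =>
    intro v hv
    rw [mem_fixSeries_succ] at hv ⊢
    intro u hu
    exact ih (hv u hu)

theorem fixSeries_invariant (U : Subgroup (Matrix.SpecialLinearGroup (Fin n) F)) (i : ℕ)
    (u : Matrix.SpecialLinearGroup (Fin n) F) (hu : u ∈ U) (v : Fin n → F) (hv : v ∈ fixSeries U i) :
    (u : Matrix (Fin n) (Fin n) F).mulVec v ∈ fixSeries U i := by
  cases i with
  | zero =>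
    rw [fixSeries_zero, Submodule.mem_bot] at hv ⊢
    rw [hv, Matrix.mulVec_zero]
  | succ i =>
    have h1 := (mem_fixSeries_succ U i v).mp hv u hu
    have h2 := fixSeries_mono U i h1
    have : (u : Matrix (Fin n) (Fin n) F).mulVec v = ((u : Matrix (Fin n) (Fin n) F).mulVec v - v) + v := by abel
    rw [this]
    exact Submodule.add_mem _ h2 hv

theorem fixSeries_normalizer (U : Subgroup (Matrix.SpecialLinearGroup (Fin n) F)) (i : ℕ)
    (g : Matrix.SpecialLinearGroup (Fin n) F) (hg : g ∈ Subgroup.normalizer (U : Set (Matrix.SpecialLinearGroup (Fin n) F)))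
    (v : Fin n → F) (hv : v ∈ fixSeries U i) :
    (g : Matrix (Fin n) (Fin n) F).mulVec v ∈ fixSeries U i := by
  induction i generalizing v with
  | zero =>
    rw [fixSeries_zero, Submodule.mem_bot] at hv ⊢
    rw [hv, Matrix.mulVec_zero]
  | succ i ih =>
    rw [mem_fixSeries_succ] at hv ⊢
    intro u hu
    have hginv : g⁻¹ ∈ Subgroup.normalizer (U : Set (Matrix.SpecialLinearGroup (Fin n) F)) := inv_mem hg
    have hu' : g⁻¹ * u * g ∈ U := by
      have := (Subgroup.mem_normalizer_iff.mp hginv u).mp hu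
      rwa [inv_inv] at this
    have h1 := ih _ (hv _ hu')
    have e : (g : Matrix (Fin n) (Fin n) F).mulVec (((g⁻¹ * u * g : Matrix.SpecialLinearGroup (Fin n) F) : Matrix (Fin n) (Fin n) F).mulVec v - v)
        = (u : Matrix (Fin n) (Fin n) F).mulVec ((g : Matrix (Fin n) (Fin n) F).mulVec v) - (g : Matrix (Fin n) (Fin n) F).mulVec v := by
      have e1 : g * (g⁻¹ * u * g) = u * g := by group
      rw [Matrix.mulVec_sub, Matrix.mulVec_mulVec, Matrix.mulVec_mulVec, ← Matrix.SpecialLinearGroup.coe_mul,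
        ← Matrix.SpecialLinearGroup.coe_mul, e1]
    rw [e] at h1
    exact h1



theorem fixSeries_strict [Fintype F] (p : ℕ) [Fact p.Prime] [CharP F p]
    (U : Subgroup (Matrix.SpecialLinearGroup (Fin n) F)) (hU : IsPGroup p U) (i : ℕ)
    (hi : fixSeries U i ≠ ⊤) : fixSeries U i < fixSeries U (i + 1) := by
  obtain ⟨W, hW⟩ : ∃ W, W = fixSeries U i := ⟨_, rfl⟩
  rw [← hW] at hi
  have hinv : ∀ u : U, W ≤ W.comap (Matrix.mulVecLin ((u : Matrix.SpecialLinearGroup (Fin n) F) : Matrix (Fin n) (Fin n) F)) := by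
    intro u v hv
    rw [Submodule.mem_comap, Matrix.mulVecLin_apply, hW]
    exact fixSeries_invariant U i u u.2 v (hW ▸ hv)
  let ρ : U →* ((Fin n → F) ⧸ W →ₗ[F] (Fin n → F) ⧸ W) :=
    { toFun := fun u => W.mapQ W (Matrix.mulVecLin ((u : Matrix.SpecialLinearGroup (Fin n) F) : Matrix (Fin n) (Fin n) F)) (hinv u)
      map_one' := by
        apply LinearMap.ext
        intro x
        obtain ⟨v, rfl⟩ := Submodule.Quotient.mk_surjective W x
        simp
      map_mul' := fun a b => by
        apply LinearMap.ext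
        intro x
        obtain ⟨v, rfl⟩ := Submodule.Quotient.mk_surjective W x
        simp [Matrix.mulVec_mulVec] }
  have hρ : ∀ (u : U) (v : Fin n → F), ρ u (Submodule.Quotient.mk v) = Submodule.Quotient.mk (((u : Matrix.SpecialLinearGroup (Fin n) F) : Matrix (Fin n) (Fin n) F).mulVec v) := by
    intro u v
    rfl
  haveI : Nontrivial ((Fin n → F) ⧸ W) := Submodule.Quotient.nontrivial_iff.mpr hi
  obtain ⟨w, -, hw0, hwfix⟩ := helper4.exists_fixed_vector_of_isPGroup hU ρ ⊤ (fun _ _ _ => Submodule.mem_top) top_ne_bot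
  obtain ⟨v, rfl⟩ := Submodule.Quotient.mk_surjective W w
  have hvW : v ∉ W := by
    intro h
    exact hw0 ((Submodule.Quotient.mk_eq_zero W).mpr h)
  have hv1 : v ∈ fixSeries U (i + 1) := by
    rw [mem_fixSeries_succ]
    intro u hu
    have := hwfix ⟨u, hu⟩
    rw [hρ, Submodule.Quotient.eq] at this
    rw [← hW]
    exact this
  rw [← hW]
  refine lt_of_le_of_ne (hW ▸ fixSeries_mono U i) ?_
  intro h
  apply hvW
  rw [h]
  exact hv1



theorem fixSeries_top_or_le [Fintype F] (p : ℕ) [Fact p.Prime] [CharP F p]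
    (U : Subgroup (Matrix.SpecialLinearGroup (Fin n) F)) (hU : IsPGroup p U) (i : ℕ) :
    fixSeries U i = ⊤ ∨ i ≤ Module.finrank F (fixSeries U i) := by
  induction i with
  | zero => right; exact Nat.zero_le _
  | succ i ih =>
    by_cases h : fixSeries U i = ⊤
    · left
      exact top_le_iff.mp (h ▸ fixSeries_mono U i)
    · right
      have h1 := ih.resolve_left h
      have h2 := Submodule.finrank_lt_finrank_of_lt (fixSeries_strict p U hU i h)
      omega

/-- S2391 -/
theorem sl_borel_tits_flag [Fintype F] (p : ℕ) [Fact p.Prime] [CharP F p] (n : ℕ)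
    (U : Subgroup (Matrix.SpecialLinearGroup (Fin n) F)) (hU : IsPGroup p ↥U) (hne : U ≠ ⊥) :
    ∃ (k : ℕ) (V : Fin (k + 2) → Submodule F (Fin n → F)), 1 ≤ k ∧ StrictMono V ∧ V 0 = ⊥ ∧ V (Fin.last (k + 1)) = ⊤ ∧
      (∀ g ∈ Subgroup.normalizer (U : Set (Matrix.SpecialLinearGroup (Fin n) F)), ∀ i, (V i).map (Matrix.mulVecLin (g : Matrix (Fin n) (Fin n) F)) = V i) ∧
      (∀ u ∈ U, ∀ i : Fin (k + 1), ∀ v ∈ V i.succ, (u : Matrix (Fin n) (Fin n) F).mulVec v - v ∈ V (Fin.castSucc i)) := by
  classical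
  have hex : ∃ i, fixSeries U i = ⊤ := by
    refine ⟨n + 1, ?_⟩
    rcases fixSeries_top_or_le p U hU (n + 1) with h | h
    · exact h
    · exfalso
      have := Submodule.finrank_le (fixSeries U (n + 1))
      rw [Module.finrank_fin_fun] at this
      omega
  -- a nontrivial element
  obtain ⟨u₀, hu₀, hu₀1⟩ : ∃ u₀ ∈ U, u₀ ≠ 1 := by
    by_contra hcon
    push Not at hcon
    apply hne
    rw [Subgroup.eq_bot_iff_forall]
    exact hcon
  have h1 : fixSeries U 1 ≠ ⊤ := by
    intro h
    apply hu₀1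
    apply Subtype.ext
    have hfix : ∀ v : Fin n → F, (u₀ : Matrix (Fin n) (Fin n) F).mulVec v = v := by
      intro v
      have hv : v ∈ fixSeries U (0 + 1) := by rw [zero_add, h]; exact Submodule.mem_top
      have := (mem_fixSeries_succ U 0 v).mp hv u₀ hu₀
      rw [fixSeries_zero, Submodule.mem_bot] at this
      exact sub_eq_zero.mp this
    ext a b
    have := congrFun (hfix (Pi.single b 1)) a
    rw [Matrix.mulVec_single_one] at this
    rw [Matrix.SpecialLinearGroup.coe_one, Matrix.one_apply]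
    simp only [Matrix.col_apply] at this
    rw [this, Pi.single_apply]
  have h0 : fixSeries U 0 ≠ ⊤ := by
    intro h
    apply h1
    exact top_le_iff.mp (h ▸ fixSeries_mono U 0)
  obtain ⟨N, hN⟩ : ∃ N, N = Nat.find hex := ⟨_, rfl⟩
  have hNtop : fixSeries U N = ⊤ := hN ▸ Nat.find_spec hex
  have hNmin : ∀ i, i < N → fixSeries U i ≠ ⊤ := fun i hi => Nat.find_min hex (hN ▸ hi)
  have hN2 : 2 ≤ N := by
    by_contra hlt
    push Not at hlt
    interval_cases N
    · exact h0 hNtop
    · exact h1 hNtop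
  obtain ⟨k, rfl⟩ : ∃ k, N = k + 2 := ⟨N - 2, by omega⟩
  refine ⟨k + 1, fun i => fixSeries U i.val, by omega, ?_, ?_, ?_, ?_, ?_⟩
  · rw [Fin.strictMono_iff_lt_succ]
    intro i
    have hi : (Fin.castSucc i).val < k + 2 := by
      rw [Fin.val_castSucc]; exact i.2
    have := fixSeries_strict p U hU (Fin.castSucc i).val (hNmin _ hi)
    simpa using this
  · simp [fixSeries_zero]
  · simpa using hNtop
  · intro g hg i
    apply le_antisymm
    · rw [Submodule.map_le_iff_le_comap]
      intro v hv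
      rw [Submodule.mem_comap, Matrix.mulVecLin_apply]
      exact fixSeries_normalizer U _ g hg v hv
    · intro v hv
      rw [Submodule.mem_map]
      refine ⟨((g⁻¹ : Matrix.SpecialLinearGroup (Fin n) F) : Matrix (Fin n) (Fin n) F).mulVec v,
        fixSeries_normalizer U _ g⁻¹ (inv_mem hg) v hv, ?_⟩
      rw [Matrix.mulVecLin_apply, Matrix.mulVec_mulVec, ← Matrix.SpecialLinearGroup.coe_mul, mul_inv_cancel]
      simp
  · intro u hu i v hv
    have : v ∈ fixSeries U ((Fin.castSucc i).val + 1) := by simpa using hv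
    exact (mem_fixSeries_succ U _ v).mp this u hu

end Cfsg.Agent.helper12
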