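import Mathlib
import Cfsg.Agent.Lib_helper12_ZS5

set_option autoImplicit false

/-!
Groups in which two distinct Sylow 2-subgroups intersect in a subgroup of the centre of a Sylow
2-subgroup (helper12): the involution of a cyclic characteristic subgroup of a Sylow 2-subgroup is
isolated, hence central modulo the core by the Z*-theorem.
-/

namespace Cfsg.Agent.helper12

open Cfsg

universe u

theorem ci_unique_invol {H : Type*} [Group H] [Finite H] (C : Subgroup H) (hCc : IsCyclic C)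
    {x y : H} (hx : x ∈ C) (hy : y ∈ C) (ox : orderOf x = 2) (oy : orderOf y = 2) : x = y := by
  classical
  by_contra hne
  haveI : Fintype C := Fintype.ofFinite _
  have hcard := IsCyclic.card_pow_eq_one_le (α := C) (n := 2) (by norm_num)
  have hx2 : (⟨x, hx⟩ : C) ^ 2 = 1 := by
    ext; show x ^ 2 = 1; rw [← ox]; exact pow_orderOf_eq_one x
  have hy2 : (⟨y, hy⟩ : C) ^ 2 = 1 := by
    ext; show y ^ 2 = 1; rw [← oy]; exact pow_orderOf_eq_one y
  have hx1 : (⟨x, hx⟩ : C) ≠ 1 := by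
    intro h
    have : x = 1 := congrArg Subtype.val h
    rw [this, orderOf_one] at ox; omega
  have hy1 : (⟨y, hy⟩ : C) ≠ 1 := by
    intro h
    have : y = 1 := congrArg Subtype.val h
    rw [this, orderOf_one] at oy; omega
  have hxy : (⟨x, hx⟩ : C) ≠ ⟨y, hy⟩ := fun h => hne (congrArg Subtype.val h)
  have hsub : ({1, ⟨x, hx⟩, ⟨y, hy⟩} : Finset C) ⊆
      Finset.univ.filter (fun a : C => a ^ 2 = 1) := by
    intro a ha
    simp only [Finset.mem_insert, Finset.mem_singleton] at ha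
    simp only [Finset.mem_filter, Finset.mem_univ, true_and]
    rcases ha with rfl | rfl | rfl
    · exact one_pow 2
    · exact hx2
    · exact hy2
  have hc3 : ({1, ⟨x, hx⟩, ⟨y, hy⟩} : Finset C).card = 3 := by
    rw [Finset.card_insert_of_notMem, Finset.card_insert_of_notMem, Finset.card_singleton]
    · simp only [Finset.mem_singleton]
      exact hxy
    · simp only [Finset.mem_insert, Finset.mem_singleton, not_or]
      exact ⟨fun h => hx1 h.symm, fun h => hy1 h.symm⟩
  have := Finset.card_le_card hsub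
  rw [hc3] at this
  omega

section CI

variable {G : Type u} [Group G] [Finite G]

omit [Finite G] in
theorem ci_mem_smul {S : Sylow 2 G} {g x : G} :
    x ∈ (g • S : Sylow 2 G) ↔ g⁻¹ * x * g ∈ S := by
  show x ∈ ((g • S : Sylow 2 G) : Subgroup G) ↔ _
  rw [Sylow.coe_subgroup_smul, Subgroup.mem_pointwise_smul_iff_inv_smul_mem]
  simp [MulAut.smul_def]
  exact Iff.rfl

/-- elements of the normalizer of `S` fix the involution of a cyclic characteristic subgroup -/
theorem ci_normalizer_fix (S : Sylow 2 G) (C : Subgroup ↥(S : Subgroup G)) (hCc : IsCyclic ↥C)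
    (hCh : C.Characteristic) (c : ↥(S : Subgroup G)) (hc : c ∈ C) (hc2 : orderOf c = 2) (n : G)
    (hn : n ∈ Subgroup.normalizer ((S : Subgroup G) : Set G)) : n * (c : G) * n⁻¹ = c := by
  have hmem : ∀ x : G, x ∈ (S : Subgroup G) → n * x * n⁻¹ ∈ (S : Subgroup G) :=
    fun x hx => (Subgroup.mem_normalizer_iff.mp hn x).mp hx
  have hmem' : ∀ x : G, x ∈ (S : Subgroup G) → n⁻¹ * x * n ∈ (S : Subgroup G) := by
    intro x hx
    apply (Subgroup.mem_normalizer_iff.mp hn (n⁻¹ * x * n)).mpr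
    have : n * (n⁻¹ * x * n) * n⁻¹ = x := by group
    rw [this]; exact hx
  let φ : ↥(S : Subgroup G) ≃* ↥(S : Subgroup G) :=
    { toFun := fun x => ⟨n * x * n⁻¹, hmem x x.2⟩
      invFun := fun x => ⟨n⁻¹ * x * n, hmem' x x.2⟩
      left_inv := fun x => Subtype.ext (by
        show n⁻¹ * (n * (x : G) * n⁻¹) * n = x
        group)
      right_inv := fun x => Subtype.ext (by
        show n * (n⁻¹ * (x : G) * n) * n⁻¹ = x
        group)
      map_mul' := fun x y => Subtype.ext (by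
        show n * ((x : G) * (y : G)) * n⁻¹ = (n * (x : G) * n⁻¹) * (n * (y : G) * n⁻¹)
        group) }
  have h1 : φ c ∈ C := by
    have h2 : c ∈ C.comap φ.toMonoidHom := by rw [hCh.fixed φ]; exact hc
    exact h2
  have h3 : orderOf (φ c) = 2 := by rw [MulEquiv.orderOf_eq]; exact hc2
  have h4 := ci_unique_invol C hCc h1 hc h3 hc2
  exact congrArg Subtype.val h4

/-- Sylow subgroups contained in a centralizer are conjugate in it -/
theorem ci_sylow_conj_in_centralizer (x : G) (P Q : Sylow 2 G) (hP : ∀ y ∈ P, Commute y x)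
    (hQ : ∀ y ∈ Q, Commute y x) : ∃ k : G, Commute k x ∧ k • P = Q := by
  haveI : Fact (Nat.Prime 2) := ⟨Nat.prime_two⟩
  have hP' : (P : Subgroup G) ≤ Subgroup.centralizer ({x} : Set G) := by
    intro y hy
    rw [Subgroup.mem_centralizer_iff]
    intro z hz
    rw [Set.mem_singleton_iff.mp hz]
    exact (hP y hy).eq.symm
  have hQ' : (Q : Subgroup G) ≤ Subgroup.centralizer ({x} : Set G) := by
    intro y hy
    rw [Subgroup.mem_centralizer_iff]
    intro z hz
    rw [Set.mem_singleton_iff.mp hz]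
    exact (hQ y hy).eq.symm
  obtain ⟨h, hh⟩ := MulAction.exists_smul_eq (Subgroup.centralizer ({x} : Set G))
    (P.subtype hP') (Q.subtype hQ')
  rw [Sylow.smul_subtype] at hh
  have h2 := Sylow.subtype_injective hh
  refine ⟨(h : G), ?_, h2⟩
  have := Subgroup.mem_centralizer_iff.mp h.2 x rfl
  exact this.symm

/-- a Sylow subgroup of `G` inside `C(x)` containing `C_S(x)` -/
theorem ci_sylow_containing (x : G) (T : Sylow 2 G) (hT : ∀ y ∈ T, Commute y x) (S : Sylow 2 G) :
    ∃ k : G, Commute k x ∧ ∀ y ∈ S, Commute y x → y ∈ (k • T : Sylow 2 G) := by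
  haveI : Fact (Nat.Prime 2) := ⟨Nat.prime_two⟩
  have hT' : (T : Subgroup G) ≤ Subgroup.centralizer ({x} : Set G) := by
    intro y hy
    rw [Subgroup.mem_centralizer_iff]
    intro z hz
    rw [Set.mem_singleton_iff.mp hz]
    exact (hT y hy).eq.symm
  have hK : IsPGroup 2 ((S : Subgroup G).subgroupOf (Subgroup.centralizer ({x} : Set G))) :=
    IsPGroup.comap_subtype S.2
  obtain ⟨R, hR⟩ := hK.exists_le_sylow
  obtain ⟨h, hh⟩ := MulAction.exists_smul_eq (Subgroup.centralizer ({x} : Set G))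
    (T.subtype hT') R
  rw [Sylow.smul_subtype] at hh
  refine ⟨(h : G), ?_, ?_⟩
  · have := Subgroup.mem_centralizer_iff.mp h.2 x rfl
    exact this.symm
  · intro y hyS hyx
    have hyH : y ∈ Subgroup.centralizer ({x} : Set G) := by
      rw [Subgroup.mem_centralizer_iff]
      intro z hz
      rw [Set.mem_singleton_iff.mp hz]
      exact hyx.eq.symm
    have h1 : (⟨y, hyH⟩ : Subgroup.centralizer ({x} : Set G)) ∈
        (S : Subgroup G).subgroupOf (Subgroup.centralizer ({x} : Set G)) :=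
      Subgroup.mem_subgroupOf.mpr hyS
    have h2 := hR h1
    rw [← hh] at h2
    exact Subgroup.mem_subgroupOf.mp h2

/-- the involution of a cyclic characteristic subgroup of `S` is isolated -/
theorem ci_isolated
    (hCI : ∀ S T : Sylow 2 G, S ≠ T → ∃ U : Sylow 2 G,
      (S : Subgroup G) ⊓ (T : Subgroup G) ≤
        (Subgroup.center ↥(U : Subgroup G)).map (U : Subgroup G).subtype)
    (S : Sylow 2 G) (C : Subgroup ↥(S : Subgroup G)) (hCc : IsCyclic ↥C)
    (hCh : C.Characteristic) (c : ↥(S : Subgroup G)) (hc : c ∈ C) (hc2 : orderOf c = 2) (g : G)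
    (hg : g * (c : G) * g⁻¹ ∈ S) : g * (c : G) * g⁻¹ = c := by
  have hfix := ci_normalizer_fix S C hCc hCh c hc hc2
  obtain ⟨c₀, hc₀⟩ : ∃ c₀ : G, c₀ = (c : G) := ⟨_, rfl⟩
  rw [← hc₀] at hfix hg ⊢
  have hc₀S : c₀ ∈ S := by rw [hc₀]; exact c.2
  have hcZ : ∀ s ∈ S, Commute s c₀ := by
    intro s hs
    have h1 := hfix s (Subgroup.le_normalizer hs)
    show s * c₀ = c₀ * s
    calc s * c₀ = (s * c₀ * s⁻¹) * s := by group
      _ = c₀ * s := by rw [h1]
  obtain ⟨t, ht⟩ : ∃ t, t = g * c₀ * g⁻¹ := ⟨_, rfl⟩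
  rw [← ht] at hg ⊢
  by_contra hne
  -- `t` is central in `g • S`
  have htT : ∀ y ∈ (g • S : Sylow 2 G), Commute y t := by
    intro y hy
    rw [ci_mem_smul] at hy
    have h1 := hcZ _ hy
    have h2 : y * t = g * ((g⁻¹ * y * g) * c₀) * g⁻¹ := by rw [ht]; group
    have h3 : t * y = g * (c₀ * (g⁻¹ * y * g)) * g⁻¹ := by rw [ht]; group
    show y * t = t * y
    rw [h2, h3, h1.eq]
  obtain ⟨h, hht, hR⟩ := ci_sylow_containing t (g • S) htT S
  -- the Sylow subgroup R = (h * g) • S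
  have hRdef : (h • (g • S) : Sylow 2 G) = (h * g) • S := (mul_smul h g S).symm
  rw [hRdef] at hR
  have hmark : (h * g) * c₀ * (h * g)⁻¹ = t := by
    have : (h * g) * c₀ * (h * g)⁻¹ = h * (g * c₀ * g⁻¹) * h⁻¹ := by group
    rw [this, ← ht, hht.eq, mul_assoc, mul_inv_cancel, mul_one]
  by_cases hRS : ((h * g) • S : Sylow 2 G) = S
  · have h1 := hfix (h * g) (Sylow.smul_eq_iff_mem_normalizer.mp hRS)
    rw [hmark] at h1
    exact hne h1
  · obtain ⟨U, hU⟩ := hCI S ((h * g) • S) (fun h => hRS h.symm)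
    have hcR : c₀ ∈ ((h * g) • S : Sylow 2 G) := hR c₀ hc₀S (hcZ t hg).symm
    have htR : t ∈ ((h * g) • S : Sylow 2 G) := hR t hg (Commute.refl t)
    have hcU := hU ⟨hc₀S, hcR⟩
    have htU := hU ⟨hg, htR⟩
    have hcen : ∀ x : G, x ∈ (Subgroup.center ↥(U : Subgroup G)).map (U : Subgroup G).subtype →
        ∀ y ∈ U, Commute y x := by
      intro x hx y hy
      obtain ⟨x', hx', rfl⟩ := hx
      have h1 := Subgroup.mem_center_iff.mp hx' ⟨y, hy⟩
      exact congrArg Subtype.val h1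
    obtain ⟨k, hkc, hkU⟩ := ci_sylow_conj_in_centralizer c₀ S U hcZ (hcen c₀ hcU)
    obtain ⟨k', hk't, hk'U⟩ := ci_sylow_conj_in_centralizer t (g • S) U htT (hcen t htU)
    have h1 : ((k' * g)⁻¹ * k) • S = S := by
      rw [mul_smul, hkU, ← hk'U, ← mul_smul, ← mul_smul]
      have : (k' * g)⁻¹ * (k' * g) = 1 := inv_mul_cancel _
      rw [mul_assoc, ← mul_assoc _ k' g] 
      simp
    have h2 := hfix _ (Sylow.smul_eq_iff_mem_normalizer.mp h1)
    have h3 : k * c₀ * k⁻¹ = c₀ := by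
      rw [hkc.eq, mul_assoc, mul_inv_cancel, mul_one]
    have h4 : k' * t * k'⁻¹ = t := by
      rw [hk't.eq, mul_assoc, mul_inv_cancel, mul_one]
    have h5 : k * c₀ * k⁻¹ = (k' * g) * c₀ * (k' * g)⁻¹ := by
      have : k * c₀ * k⁻¹ = (k' * g) * (((k' * g)⁻¹ * k) * c₀ * ((k' * g)⁻¹ * k)⁻¹) * (k' * g)⁻¹ := by
        group
      rw [this, h2]
    have h6 : (k' * g) * c₀ * (k' * g)⁻¹ = k' * t * k'⁻¹ := by rw [ht]; group
    rw [h3, h6, h4] at h5
    exact hne h5.symm

/-- S3184 -/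
theorem ci_zstar
    (hCI : ∀ S T : Sylow 2 G, S ≠ T → ∃ U : Sylow 2 G,
      (S : Subgroup G) ⊓ (T : Subgroup G) ≤
        (Subgroup.center ↥(U : Subgroup G)).map (U : Subgroup G).subtype)
    (S : Sylow 2 G) (C : Subgroup ↥(S : Subgroup G)) (hCc : IsCyclic ↥C)
    (hCh : C.Characteristic) (c : ↥(S : Subgroup G)) (hc : c ∈ C) (hc2 : orderOf c = 2) :
    ∀ g : G, (QuotientGroup.mk (s := Cfsg.oddCore G) (g * (c : G) * g⁻¹)) =
      QuotientGroup.mk (s := Cfsg.oddCore G) (c : G) := by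
  have ho : orderOf (c : G) = 2 := by rw [Subgroup.orderOf_coe]; exact hc2
  have hiso : IsIsolatedInvolution (c : G) :=
    zs_isolated_of_sylow S (c : G) ho (fun g hg => ci_isolated hCI S C hCc hCh c hc hc2 g hg)
  have hZ := zs_oddCore_form (c : G) hiso
  have hcinv : (c : G)⁻¹ = c := helper6.isolated_inv hiso
  intro g
  rw [QuotientGroup.eq]
  have h1 := (Cfsg.oddCore G).inv_mem (hZ g)
  have h2 : ((c : G) * g * (c : G)⁻¹ * g⁻¹)⁻¹ = g * (c : G) * g⁻¹ * (c : G)⁻¹ := by group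
  rw [h2] at h1
  have h3 : (g * (c : G) * g⁻¹)⁻¹ * (c : G) = g * (c : G)⁻¹ * g⁻¹ * (c : G) := by group
  rw [h3, hcinv]
  rw [hcinv] at h1
  exact h1

end CI

end Cfsg.Agent.helper12
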