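import Cfsg.Agent.Lib_helper12_Virtual
import Cfsg.Agent.Lib_helper12_SylTwoF

set_option autoImplicit false

namespace Cfsg.Agent.helper12

open Matrix Cfsg
open scoped ComplexConjugate

variable {F : Type*} [Field F]

theorem noEigen2_of_mem_centralizer {b c : Matrix.SpecialLinearGroup (Fin 2) F}
    (hb : NoEigen2 (b : Matrix (Fin 2) (Fin 2) F))
    (hc : c ∈ Subgroup.centralizer ({b} : Set (Matrix.SpecialLinearGroup (Fin 2) F)))
    (hcs : ¬ IsScalar2 (c : Matrix (Fin 2) (Fin 2) F)) : NoEigen2 (c : Matrix (Fin 2) (Fin 2) F) := by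
  obtain ⟨α, β, hform⟩ := sl2_centralizer_form hb.not_isScalar2 hc
  have hβ : β ≠ 0 := by
    rintro rfl
    apply hcs
    rw [hform]
    refine ⟨?_, ?_, ?_⟩ <;> simp
  intro l v hv hlv
  apply hb ((l - α) / β) v hv
  rw [hform, Matrix.add_mulVec, Matrix.smul_mulVec, Matrix.one_mulVec, Matrix.smul_mulVec] at hlv
  have h1 : β • (b : Matrix (Fin 2) (Fin 2) F).mulVec v = (l - α) • v := by
    rw [sub_smul, ← hlv]; abel
  have h2 : (b : Matrix (Fin 2) (Fin 2) F).mulVec v = β⁻¹ • (β • (b : Matrix (Fin 2) (Fin 2) F).mulVec v) := by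
    rw [smul_smul, inv_mul_cancel₀ hβ, one_smul]
  rw [h2, h1, smul_smul]
  congr 1
  field_simp

theorem noEigen2_conj (x g : Matrix.SpecialLinearGroup (Fin 2) F) :
    NoEigen2 ((x⁻¹ * g * x : Matrix.SpecialLinearGroup (Fin 2) F) : Matrix (Fin 2) (Fin 2) F) ↔ NoEigen2 (g : Matrix (Fin 2) (Fin 2) F) := by
  have key : ∀ (y h : Matrix.SpecialLinearGroup (Fin 2) F), NoEigen2 (h : Matrix (Fin 2) (Fin 2) F) →
      NoEigen2 ((y⁻¹ * h * y : Matrix.SpecialLinearGroup (Fin 2) F) : Matrix (Fin 2) (Fin 2) F) := by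
    intro y h hh l v hv hlv
    apply hh l ((y : Matrix (Fin 2) (Fin 2) F).mulVec v)
    · intro h0
      apply hv
      have := congrArg ((y⁻¹ : Matrix.SpecialLinearGroup (Fin 2) F) : Matrix (Fin 2) (Fin 2) F).mulVec h0
      rw [Matrix.mulVec_mulVec, ← Matrix.SpecialLinearGroup.coe_mul, inv_mul_cancel, Matrix.mulVec_zero] at this
      simpa using this
    · have e : (h : Matrix (Fin 2) (Fin 2) F).mulVec ((y : Matrix (Fin 2) (Fin 2) F).mulVec v)
          = (y : Matrix (Fin 2) (Fin 2) F).mulVec (((y⁻¹ * h * y : Matrix.SpecialLinearGroup (Fin 2) F) : Matrix (Fin 2) (Fin 2) F).mulVec v) := by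
        rw [Matrix.mulVec_mulVec, Matrix.mulVec_mulVec, ← Matrix.SpecialLinearGroup.coe_mul, ← Matrix.SpecialLinearGroup.coe_mul]
        have e1 : y * (y⁻¹ * h * y) = h * y := by group
        rw [e1]
      rw [e, hlv, Matrix.mulVec_smul]
  constructor
  · intro h
    have := key x⁻¹ _ h
    have e : x⁻¹⁻¹ * (x⁻¹ * g * x) * x⁻¹ = g := by group
    rwa [e] at this
  · exact key x g

/-- a noncentral element with an eigenvector has no conjugate in a nonsplit torus -/
theorem not_mem_torus_of_eigen {b g : Matrix.SpecialLinearGroup (Fin 2) F}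
    (hb : NoEigen2 (b : Matrix (Fin 2) (Fin 2) F))
    (hg : ¬ NoEigen2 (g : Matrix (Fin 2) (Fin 2) F)) (hgs : ¬ IsScalar2 (g : Matrix (Fin 2) (Fin 2) F))
    (x : Matrix.SpecialLinearGroup (Fin 2) F) :
    x⁻¹ * g * x ∉ Subgroup.centralizer ({b} : Set (Matrix.SpecialLinearGroup (Fin 2) F)) := by
  intro hmem
  have hns : ¬ IsScalar2 ((x⁻¹ * g * x : Matrix.SpecialLinearGroup (Fin 2) F) : Matrix (Fin 2) (Fin 2) F) := by
    have := sl2_isScalar2_conj_iff g x⁻¹
    rw [inv_inv] at this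
    rw [this]; exact hgs
  exact hg ((noEigen2_conj x g).mp (noEigen2_of_mem_centralizer hb hmem hns))

end Cfsg.Agent.helper12
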