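import Cfsg.Agent.Lib_helper12_Cusp01

set_option autoImplicit false

namespace Cfsg.Agent.helper12

open Matrix Cfsg
open scoped ComplexConjugate

variable {F : Type*} [Field F]

/-- value of an induced function at an element with no conjugate in the subgroup -/
theorem indFun_eq_zero_of_no_conj {G : Type*} [Group G] [Fintype G] (H : Subgroup G) (θ : H → ℂ) (g : G)
    (h : ∀ x : G, x⁻¹ * g * x ∉ H) : indFun H θ g = 0 := by
  unfold indFun
  rw [Finset.sum_eq_zero, mul_zero]
  intro x _
  exact extendByZero_of_not_mem' H θ _ (h x)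

/-- value of an induced function at a central element of the subgroup -/
theorem indFun_central {G : Type*} [Group G] [Fintype G] (H : Subgroup G) (θ : H → ℂ) (z : G)
    (hz : z ∈ Subgroup.center G) (hzH : z ∈ H) :
    indFun H θ z = (Nat.card H : ℂ)⁻¹ * (Nat.card G : ℂ) * θ ⟨z, hzH⟩ := by
  unfold indFun
  have : ∀ x : G, extendByZero H θ (x⁻¹ * z * x) = θ ⟨z, hzH⟩ := by
    intro x
    have e : x⁻¹ * z * x = z := by
      have := Subgroup.mem_center_iff.mp hz x
      rw [mul_assoc, ← this, ← mul_assoc, inv_mul_cancel, one_mul]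
    rw [e, extendByZero_of_mem' H θ z hzH]
  simp only [this, Finset.sum_const, Finset.card_univ, nsmul_eq_mul, Nat.card_eq_fintype_card]
  ring

theorem indFun_torus_apply [Fintype F] [DecidableEq F] (hodd : Odd (Fintype.card F)) {b : Matrix.SpecialLinearGroup (Fin 2) F}
    (hb : NoEigen2 (b : Matrix (Fin 2) (Fin 2) F))
    (θ : Subgroup.centralizer ({b} : Set (Matrix.SpecialLinearGroup (Fin 2) F)) → ℂ)
    (c : Matrix.SpecialLinearGroup (Fin 2) F)
    (hc : c ∈ Subgroup.centralizer ({b} : Set (Matrix.SpecialLinearGroup (Fin 2) F)))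
    (hcs : ¬ IsScalar2 (c : Matrix (Fin 2) (Fin 2) F)) :
    indFun (Subgroup.centralizer ({b} : Set (Matrix.SpecialLinearGroup (Fin 2) F))) θ c
      = θ ⟨c, hc⟩ + θ ⟨c⁻¹, inv_mem hc⟩ := by
  classical
  have h2 : (2 : F) ≠ 0 := two_ne_zero_of_odd_card hodd
  have hcne := noEigen2_of_mem_centralizer hb hc hcs
  have hD : (c : Matrix (Fin 2) (Fin 2) F).trace ^ 2 ≠ 4 := noEigen2_trace_sq_ne hodd c hcne
  have hCc : Subgroup.centralizer ({c} : Set (Matrix.SpecialLinearGroup (Fin 2) F)) = Subgroup.centralizer ({b} : Set (Matrix.SpecialLinearGroup (Fin 2) F)) :=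
    sl2_centralizer_eq_of_mem hb.not_isScalar2 hc hcs
  have hcinv : c ≠ c⁻¹ := by
    intro h
    apply hcs
    have hcc : c * c = 1 := by
      calc c * c = c * c⁻¹ := by rw [← h]
        _ = 1 := mul_inv_cancel c
    rcases sl2_sq_eq_one h2 hcc with h' | h' <;> rw [h'] <;> refine ⟨?_, ?_, ?_⟩ <;> simp
  obtain ⟨w, hw⟩ := sl2_exists_inverting hodd c hD
  -- the terms
  have hterm : ∀ x : Matrix.SpecialLinearGroup (Fin 2) F,
      extendByZero (Subgroup.centralizer ({b} : Set (Matrix.SpecialLinearGroup (Fin 2) F))) θ (x⁻¹ * c * x)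
        = (if x ∈ Subgroup.centralizer ({b} : Set (Matrix.SpecialLinearGroup (Fin 2) F)) then θ ⟨c, hc⟩ else 0)
          + (if w * x ∈ Subgroup.centralizer ({b} : Set (Matrix.SpecialLinearGroup (Fin 2) F)) then θ ⟨c⁻¹, inv_mem hc⟩ else 0) := by
    intro x
    by_cases hx : x ∈ Subgroup.centralizer ({b} : Set (Matrix.SpecialLinearGroup (Fin 2) F))
    · have hx' : c * x = x * c := by
        rw [← hCc] at hx
        exact sl2_mem_centralizer_singleton.mp hx
      have e : x⁻¹ * c * x = c := by rw [mul_assoc, hx', ← mul_assoc, inv_mul_cancel, one_mul]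
      have hwx : w * x ∉ Subgroup.centralizer ({b} : Set (Matrix.SpecialLinearGroup (Fin 2) F)) := by
        intro hwx
        have hwC : w ∈ Subgroup.centralizer ({b} : Set (Matrix.SpecialLinearGroup (Fin 2) F)) := by
          have : w = (w * x) * x⁻¹ := by group
          rw [this]; exact mul_mem hwx (inv_mem hx)
        rw [← hCc] at hwC
        have hwc := sl2_mem_centralizer_singleton.mp hwC
        apply hcinv
        calc c = w * c * w⁻¹ := by rw [← hwc]; group
          _ = c⁻¹ := hw
      rw [e, extendByZero_of_mem' _ θ c hc, if_pos hx, if_neg hwx, add_zero]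
    · rw [if_neg hx, zero_add]
      by_cases hmem : x⁻¹ * c * x ∈ Subgroup.centralizer ({b} : Set (Matrix.SpecialLinearGroup (Fin 2) F))
      · have htr : ((x⁻¹ * c * x : Matrix.SpecialLinearGroup (Fin 2) F) : Matrix (Fin 2) (Fin 2) F).trace = (c : Matrix (Fin 2) (Fin 2) F).trace := by
          have := sl2_trace_conj c x⁻¹
          rwa [inv_inv] at this
        rw [← hCc] at hmem
        rcases sl2_trace_eq_in_centralizer h2 hD hmem htr with h | h
        · exfalso
          apply hx
          rw [← hCc, sl2_mem_centralizer_singleton]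
          calc c * x = x * (x⁻¹ * c * x) := by group
            _ = x * c := by rw [h]
        · have hwx : w * x ∈ Subgroup.centralizer ({b} : Set (Matrix.SpecialLinearGroup (Fin 2) F)) := by
            rw [← hCc, sl2_mem_centralizer_singleton]
            have e1 : c * w = w * c⁻¹ := by
              have : w * c = c⁻¹ * w := by rw [← hw]; group
              calc c * w = c * (w * c) * c⁻¹ := by group
                _ = c * (c⁻¹ * w) * c⁻¹ := by rw [this]
                _ = w * c⁻¹ := by group
            have e2 : c⁻¹ * x = x * c := by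
              calc c⁻¹ * x = x * (x⁻¹ * c⁻¹ * x) := by group
                _ = x * (x⁻¹ * c * x)⁻¹ := by group
                _ = x * c := by rw [h, inv_inv]
            calc c * (w * x) = (c * w) * x := by group
              _ = w * c⁻¹ * x := by rw [e1]
              _ = w * (c⁻¹ * x) := by group
              _ = w * (x * c) := by rw [e2]
              _ = w * x * c := by group
          rw [if_pos hwx]
          have e3 : x⁻¹ * c * x = c⁻¹ := h
          rw [hCc] at hmem
          rw [extendByZero_of_mem' _ θ _ hmem]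
          congr 1
          exact Subtype.ext e3
      · have hwx : w * x ∉ Subgroup.centralizer ({b} : Set (Matrix.SpecialLinearGroup (Fin 2) F)) := by
          intro hwx
          apply hmem
          rw [← hCc] at hwx ⊢
          have h1 := sl2_mem_centralizer_singleton.mp hwx
          -- x⁻¹ c x = c⁻¹
          have e1 : w⁻¹ * c * w = c⁻¹ := by
            have := sl2_inverting_inv hw
            rwa [inv_inv] at this
          have h1' : c⁻¹ * (w * x) = (w * x) * c⁻¹ := by
            calc c⁻¹ * (w * x) = c⁻¹ * ((w * x) * c) * c⁻¹ := by group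
              _ = c⁻¹ * (c * (w * x)) * c⁻¹ := by rw [h1]
              _ = (w * x) * c⁻¹ := by group
          have e : x⁻¹ * c * x = c⁻¹ := by
            calc x⁻¹ * c * x = (w * x)⁻¹ * (w * c * w⁻¹) * (w * x) := by group
              _ = (w * x)⁻¹ * c⁻¹ * (w * x) := by rw [hw]
              _ = (w * x)⁻¹ * (c⁻¹ * (w * x)) := by group
              _ = (w * x)⁻¹ * ((w * x) * c⁻¹) := by rw [h1']
              _ = c⁻¹ := by group
          rw [e]
          exact inv_mem (sl2_mem_centralizer_singleton.mpr rfl)
        rw [extendByZero_of_not_mem' _ θ _ hmem, if_neg hwx]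
  unfold indFun
  simp only [hterm]
  rw [Finset.sum_add_distrib]
  have hs1 : ∑ x : Matrix.SpecialLinearGroup (Fin 2) F, (if x ∈ Subgroup.centralizer ({b} : Set (Matrix.SpecialLinearGroup (Fin 2) F)) then θ ⟨c, hc⟩ else 0)
      = (Nat.card (Subgroup.centralizer ({b} : Set (Matrix.SpecialLinearGroup (Fin 2) F))) : ℂ) * θ ⟨c, hc⟩ := by
    rw [← Finset.sum_filter, Finset.sum_const, nsmul_eq_mul, Nat.card_eq_fintype_card, Fintype.card_subtype]
  have hs2 : ∑ x : Matrix.SpecialLinearGroup (Fin 2) F, (if w * x ∈ Subgroup.centralizer ({b} : Set (Matrix.SpecialLinearGroup (Fin 2) F)) then θ ⟨c⁻¹, inv_mem hc⟩ else 0)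
      = (Nat.card (Subgroup.centralizer ({b} : Set (Matrix.SpecialLinearGroup (Fin 2) F))) : ℂ) * θ ⟨c⁻¹, inv_mem hc⟩ := by
    rw [← Equiv.sum_comp (Equiv.mulLeft w⁻¹)]
    simp only [Equiv.coe_mulLeft, mul_inv_cancel_left]
    rw [← Finset.sum_filter, Finset.sum_const, nsmul_eq_mul, Nat.card_eq_fintype_card, Fintype.card_subtype]
  rw [hs1, hs2]
  have hne : (Nat.card (Subgroup.centralizer ({b} : Set (Matrix.SpecialLinearGroup (Fin 2) F))) : ℂ) ≠ 0 := by
    exact_mod_cast (Nat.card_pos).ne'
  field_simp

end Cfsg.Agent.helper12
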