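import Cfsg.Agent.Lib_helper12_Cusp04

set_option autoImplicit false
set_option linter.unusedSectionVars false

namespace Cfsg.Agent.helper12

open Matrix Cfsg
open scoped ComplexConjugate

variable {F : Type*} [Field F] [Fintype F] [DecidableEq F]

/-- the complex-valued function of a linear character -/
def unitFun {H : Type*} [Group H] (θ : H →* ℂˣ) : H → ℂ := fun c => ((θ c : ℂˣ) : ℂ)

/-- (St - 1) R(α) -/
noncomputable def cuspQ (α : MulChar F ℂ) : Matrix.SpecialLinearGroup (Fin 2) F → ℂ :=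
  fun g => (sl2St g - 1) * sl2R α g

/-- the function induced from a character of a nonsplit torus -/
noncomputable def cuspI {b : Matrix.SpecialLinearGroup (Fin 2) F}
    (θ : Subgroup.centralizer ({b} : Set (Matrix.SpecialLinearGroup (Fin 2) F)) →* ℂˣ) :
    Matrix.SpecialLinearGroup (Fin 2) F → ℂ :=
  indFun (Subgroup.centralizer ({b} : Set (Matrix.SpecialLinearGroup (Fin 2) F))) (unitFun θ)

/-- the cuspidal virtual character -/
noncomputable def cuspF (α : MulChar F ℂ) {b : Matrix.SpecialLinearGroup (Fin 2) F}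
    (θ : Subgroup.centralizer ({b} : Set (Matrix.SpecialLinearGroup (Fin 2) F)) →* ℂˣ) :
    Matrix.SpecialLinearGroup (Fin 2) F → ℂ :=
  fun g => cuspQ α g - cuspI θ g

theorem cuspQ_sl2UT_split (α : MulChar F ℂ) (a : Fˣ) (ha : (a : F) ^ 2 ≠ 1) (x : F) :
    cuspQ α (sl2UT a x) = 0 := by
  unfold cuspQ
  rw [sl2St_sl2UT_split a ha x, sub_self, zero_mul]

theorem cuspQ_sl2UT_central (α : MulChar F ℂ) (a : Fˣ) (ha : (a : F) ^ 2 = 1) :
    cuspQ α (sl2UT a 0) = ((Fintype.card F : ℂ) - 1) * (((Fintype.card F : ℂ) + 1) * α (a : F)) := by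
  unfold cuspQ
  rw [sl2St_sl2UT_central a ha, sl2R_sl2UT_central α a ha]

theorem cuspQ_sl2UT_unip (α : MulChar F ℂ) (a : Fˣ) (ha : (a : F) ^ 2 = 1) (x : F) (hx : x ≠ 0) :
    cuspQ α (sl2UT a x) = - α (a : F) := by
  unfold cuspQ
  rw [sl2St_sl2UT_unip a ha x hx, sl2R_sl2UT_unip α a ha x hx]
  ring

theorem cuspQ_noEigen (α : MulChar F ℂ) (g : Matrix.SpecialLinearGroup (Fin 2) F)
    (hg : NoEigen2 (g : Matrix (Fin 2) (Fin 2) F)) : cuspQ α g = 0 := by
  unfold cuspQ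
  rw [sl2R_noEigenvector α g hg, mul_zero]

theorem sl2St_isClassFunction : IsClassFunction (Matrix.SpecialLinearGroup (Fin 2) F) (sl2St (F := F)) :=
  helper24.char_isClassFunction (helper24.irr_isCharacter sl2St_irr)

theorem sl2R_isClassFunction (α : MulChar F ℂ) : IsClassFunction (Matrix.SpecialLinearGroup (Fin 2) F) (sl2R α) :=
  indFun_isClassFunction _ _

theorem cuspQ_isClassFunction (α : MulChar F ℂ) : IsClassFunction (Matrix.SpecialLinearGroup (Fin 2) F) (cuspQ α) := by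
  intro g h
  unfold cuspQ
  rw [sl2St_isClassFunction g h, sl2R_isClassFunction α g h]

theorem cuspI_isClassFunction {b : Matrix.SpecialLinearGroup (Fin 2) F}
    (θ : Subgroup.centralizer ({b} : Set (Matrix.SpecialLinearGroup (Fin 2) F)) →* ℂˣ) :
    IsClassFunction (Matrix.SpecialLinearGroup (Fin 2) F) (cuspI θ) :=
  indFun_isClassFunction _ _

theorem cuspF_isClassFunction (α : MulChar F ℂ) {b : Matrix.SpecialLinearGroup (Fin 2) F}
    (θ : Subgroup.centralizer ({b} : Set (Matrix.SpecialLinearGroup (Fin 2) F)) →* ℂˣ) :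
    IsClassFunction (Matrix.SpecialLinearGroup (Fin 2) F) (cuspF α θ) := by
  intro g h
  unfold cuspF
  rw [cuspQ_isClassFunction α g h, cuspI_isClassFunction θ g h]

theorem sl2_card_div (hodd : Odd (Fintype.card F)) {b : Matrix.SpecialLinearGroup (Fin 2) F}
    (hb : NoEigen2 (b : Matrix (Fin 2) (Fin 2) F)) :
    (Nat.card (Subgroup.centralizer ({b} : Set (Matrix.SpecialLinearGroup (Fin 2) F))) : ℂ)⁻¹ *
      (Nat.card (Matrix.SpecialLinearGroup (Fin 2) F) : ℂ) = (Fintype.card F : ℂ) * ((Fintype.card F : ℂ) - 1) := by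
  rw [card_sl2_centralizer_noEigen hodd b hb, card_SL2]
  have h1 : 1 ≤ Fintype.card F ^ 2 := Nat.one_le_pow _ _ Fintype.card_pos
  have hne : ((Fintype.card F : ℂ) + 1) ≠ 0 := by
    have : ((Fintype.card F + 1 : ℕ) : ℂ) ≠ 0 := Nat.cast_ne_zero.mpr (Nat.succ_ne_zero _)
    exact_mod_cast this
  push_cast [Nat.cast_sub h1]
  field_simp
  ring

theorem cuspI_one (hodd : Odd (Fintype.card F)) {b : Matrix.SpecialLinearGroup (Fin 2) F}
    (hb : NoEigen2 (b : Matrix (Fin 2) (Fin 2) F))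
    (θ : Subgroup.centralizer ({b} : Set (Matrix.SpecialLinearGroup (Fin 2) F)) →* ℂˣ) :
    cuspI θ 1 = (Fintype.card F : ℂ) * ((Fintype.card F : ℂ) - 1) := by
  unfold cuspI
  rw [indFun_central _ _ 1 (Subgroup.one_mem _) (Subgroup.one_mem _), sl2_card_div hodd hb]
  have : unitFun θ ⟨1, Subgroup.one_mem _⟩ = 1 := by
    unfold unitFun
    have : (⟨1, Subgroup.one_mem _⟩ : Subgroup.centralizer ({b} : Set (Matrix.SpecialLinearGroup (Fin 2) F))) = 1 := rfl
    rw [this, map_one, Units.val_one]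
  rw [this, mul_one]

theorem cuspI_negOne (hodd : Odd (Fintype.card F)) {b : Matrix.SpecialLinearGroup (Fin 2) F}
    (hb : NoEigen2 (b : Matrix (Fin 2) (Fin 2) F))
    (θ : Subgroup.centralizer ({b} : Set (Matrix.SpecialLinearGroup (Fin 2) F)) →* ℂˣ) :
    cuspI θ sl2NegOne = (Fintype.card F : ℂ) * ((Fintype.card F : ℂ) - 1) *
      unitFun θ ⟨sl2NegOne, sl2NegOne_mem_centralizer _⟩ := by
  unfold cuspI
  rw [indFun_central _ _ sl2NegOne sl2NegOne_mem_center (sl2NegOne_mem_centralizer _), sl2_card_div hodd hb]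

theorem cuspI_torus (hodd : Odd (Fintype.card F)) {b : Matrix.SpecialLinearGroup (Fin 2) F}
    (hb : NoEigen2 (b : Matrix (Fin 2) (Fin 2) F))
    (θ : Subgroup.centralizer ({b} : Set (Matrix.SpecialLinearGroup (Fin 2) F)) →* ℂˣ)
    (c : Subgroup.centralizer ({b} : Set (Matrix.SpecialLinearGroup (Fin 2) F)))
    (hcs : ¬ IsScalar2 ((c : Matrix.SpecialLinearGroup (Fin 2) F) : Matrix (Fin 2) (Fin 2) F)) :
    cuspI θ c = unitFun θ c + unitFun θ c⁻¹ := by
  unfold cuspI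
  rw [indFun_torus_apply hodd hb _ c c.2 hcs]
  rfl

theorem cuspI_eigen {b : Matrix.SpecialLinearGroup (Fin 2) F}
    (hb : NoEigen2 (b : Matrix (Fin 2) (Fin 2) F))
    (θ : Subgroup.centralizer ({b} : Set (Matrix.SpecialLinearGroup (Fin 2) F)) →* ℂˣ)
    (g : Matrix.SpecialLinearGroup (Fin 2) F)
    (hg : ¬ NoEigen2 (g : Matrix (Fin 2) (Fin 2) F)) (hgs : ¬ IsScalar2 (g : Matrix (Fin 2) (Fin 2) F)) :
    cuspI θ g = 0 :=
  indFun_eq_zero_of_no_conj _ _ g (not_mem_torus_of_eigen hb hg hgs)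

theorem sl2UT_not_noEigen (a : Fˣ) (x : F) : ¬ NoEigen2 ((sl2UT a x : Matrix.SpecialLinearGroup (Fin 2) F) : Matrix (Fin 2) (Fin 2) F) := by
  intro h
  apply h (a : F) ![1, 0]
  · intro h0
    have := congrFun h0 0
    simp at this
  · ext i
    fin_cases i <;> simp [sl2UT, Matrix.mulVec, dotProduct, Fin.sum_univ_two]

theorem sl2UT_not_isScalar2_split (a : Fˣ) (ha : (a : F) ^ 2 ≠ 1) (x : F) :
    ¬ IsScalar2 ((sl2UT a x : Matrix.SpecialLinearGroup (Fin 2) F) : Matrix (Fin 2) (Fin 2) F) := by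
  rintro ⟨_, _, h⟩
  apply ha
  have h' : (a : F) = ((a⁻¹ : Fˣ) : F) := by simpa [sl2UT] using h
  exact (units_sq_eq_one_iff a).mpr h'.symm

theorem sl2UT_not_isScalar2_unip (a : Fˣ) (x : F) (hx : x ≠ 0) :
    ¬ IsScalar2 ((sl2UT a x : Matrix.SpecialLinearGroup (Fin 2) F) : Matrix (Fin 2) (Fin 2) F) := by
  rintro ⟨h, _, _⟩
  apply hx
  simpa [sl2UT] using h

theorem cuspI_sl2UT_split {b : Matrix.SpecialLinearGroup (Fin 2) F}
    (hb : NoEigen2 (b : Matrix (Fin 2) (Fin 2) F))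
    (θ : Subgroup.centralizer ({b} : Set (Matrix.SpecialLinearGroup (Fin 2) F)) →* ℂˣ)
    (a : Fˣ) (ha : (a : F) ^ 2 ≠ 1) (x : F) : cuspI θ (sl2UT a x) = 0 :=
  cuspI_eigen hb θ _ (sl2UT_not_noEigen a x) (sl2UT_not_isScalar2_split a ha x)

theorem cuspI_sl2UT_unip {b : Matrix.SpecialLinearGroup (Fin 2) F}
    (hb : NoEigen2 (b : Matrix (Fin 2) (Fin 2) F))
    (θ : Subgroup.centralizer ({b} : Set (Matrix.SpecialLinearGroup (Fin 2) F)) →* ℂˣ)
    (a : Fˣ) (x : F) (hx : x ≠ 0) : cuspI θ (sl2UT a x) = 0 :=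
  cuspI_eigen hb θ _ (sl2UT_not_noEigen a x) (sl2UT_not_isScalar2_unip a x hx)

end Cfsg.Agent.helper12
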