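import Cfsg.Agent.Lib_helper12_Cusp05

set_option autoImplicit false
set_option linter.unusedSectionVars false

namespace Cfsg.Agent.helper12

open Matrix Cfsg
open scoped ComplexConjugate

variable {F : Type*} [Field F] [Fintype F] [DecidableEq F]

theorem sl2UT_one_zero : sl2UT (1 : Fˣ) (0 : F) = 1 := by
  apply Subtype.ext
  ext i j
  fin_cases i <;> fin_cases j <;> simp [sl2UT]

theorem units_neg_one_sq : (((-1 : Fˣ)) : F) ^ 2 = 1 := by simp

theorem units_one_sq : (((1 : Fˣ)) : F) ^ 2 = 1 := by simp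

/-- a sum over the units supported on the square roots of one -/
theorem sum_units_sq_one (h2 : (2 : F) ≠ 0) (g : Fˣ → ℂ) (hg : ∀ a : Fˣ, (a : F) ^ 2 ≠ 1 → g a = 0) :
    ∑ a : Fˣ, g a = g 1 + g (-1) := by
  have hne : (1 : Fˣ) ≠ -1 := by
    intro h
    have h' := congrArg Units.val h
    rw [Units.val_neg, Units.val_one] at h'
    apply h2
    linear_combination h'
  rw [Fintype.sum_eq_add 1 (-1) hne]
  intro a ha
  apply hg
  intro h
  rcases sq_eq_one_iff.mp h with h1 | h1
  · exact ha.1 (Units.ext h1)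
  · exact ha.2 (Units.ext (by rw [h1, Units.val_neg, Units.val_one]))

theorem sum_ite_ne_zero_const (c : ℂ) : ∑ x : F, (if x = 0 then 0 else c) = ((Fintype.card F : ℂ) - 1) * c := by
  have h1 : ∀ x : F, (if x = 0 then 0 else c) = c - (if x = 0 then c else 0) := by
    intro x
    split_ifs <;> ring
  rw [Finset.sum_congr rfl (fun x _ => h1 x), Finset.sum_sub_distrib, Finset.sum_ite_eq' Finset.univ (0 : F) (fun _ => c),
    if_pos (Finset.mem_univ _), Finset.sum_const, Finset.card_univ, nsmul_eq_mul]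
  ring

theorem sum_split_zero (h : F → ℂ) : ∑ x : F, h x = h 0 + ∑ x : F, (if x = 0 then 0 else h x) := by
  have h1 : ∀ x : F, h x = (if x = 0 then h 0 else 0) + (if x = 0 then 0 else h x) := by
    intro x
    split_ifs with hx
    · rw [hx, add_zero]
    · rw [zero_add]
  conv_lhs => rw [Finset.sum_congr rfl (fun x _ => h1 x)]
  rw [Finset.sum_add_distrib, Finset.sum_ite_eq' Finset.univ (0 : F) (fun _ => h 0), if_pos (Finset.mem_univ _)]

/-- the Borel sum attached to a class function -/
noncomputable def cuspT (ψ : Matrix.SpecialLinearGroup (Fin 2) F → ℂ) (a : Fˣ) : ℂ :=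
  ((Fintype.card F : ℂ) - 1) * conj (ψ (sl2UT a 0)) - ∑ x : F, if x = 0 then 0 else conj (ψ (sl2UT a x))

theorem classInner_cuspQ_eq (α : MulChar F ℂ) (ψ : Matrix.SpecialLinearGroup (Fin 2) F → ℂ) :
    classInner (cuspQ α) ψ = classInner (sl2R α) (fun g => conj (sl2St g - 1) * ψ g) := by
  unfold classInner cuspQ
  congr 1
  apply Finset.sum_congr rfl
  intro g _
  rw [map_mul, Complex.conj_conj]
  ring

theorem classInner_cuspQ (h2 : (2 : F) ≠ 0) (α : MulChar F ℂ) (ψ : Matrix.SpecialLinearGroup (Fin 2) F → ℂ)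
    (hψ : IsClassFunction (Matrix.SpecialLinearGroup (Fin 2) F) ψ) :
    classInner (cuspQ α) ψ = (Nat.card (sl2Borel F) : ℂ)⁻¹ * (cuspT ψ 1 + α (-1) * cuspT ψ (-1)) := by
  have hcl : IsClassFunction (Matrix.SpecialLinearGroup (Fin 2) F) (fun g => conj (sl2St g - 1) * ψ g) := by
    intro g h
    simp only
    rw [sl2St_isClassFunction g h, hψ g h]
  rw [classInner_cuspQ_eq, sl2_classInner_R_eq α _ hcl]
  congr 1
  have hsum : ∀ a : Fˣ, (a : F) ^ 2 = 1 →
      ∑ x : F, conj (conj (sl2St (sl2UT a x) - 1) * ψ (sl2UT a x)) = cuspT ψ a := by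
    intro a ha
    rw [sum_split_zero, sl2St_sl2UT_central a ha]
    unfold cuspT
    have e1 : conj (conj ((Fintype.card F : ℂ) - 1) * ψ (sl2UT a 0)) = ((Fintype.card F : ℂ) - 1) * conj (ψ (sl2UT a 0)) := by
      rw [map_mul, Complex.conj_conj]
    have e2 : (∑ x : F, if x = 0 then 0 else conj (conj (sl2St (sl2UT a x) - 1) * ψ (sl2UT a x)))
        = - ∑ x : F, if x = 0 then 0 else conj (ψ (sl2UT a x)) := by
      rw [← Finset.sum_neg_distrib]
      apply Finset.sum_congr rfl
      intro x _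
      split_ifs with hx
      · simp
      · rw [sl2St_sl2UT_unip a ha x hx, map_mul, Complex.conj_conj]
        ring
    rw [e1, e2]
    ring
  rw [sum_units_sq_one h2]
  · rw [hsum 1 units_one_sq, hsum (-1) units_neg_one_sq, Units.val_one, map_one, one_mul, Units.val_neg, Units.val_one]
  · intro a ha
    have : ∀ x : F, conj (conj (sl2St (sl2UT a x) - 1) * ψ (sl2UT a x)) = 0 := by
      intro x
      rw [sl2St_sl2UT_split a ha x, sub_self, map_zero, zero_mul, map_zero]
    rw [Finset.sum_congr rfl (fun x _ => this x), Finset.sum_const_zero, mul_zero]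

end Cfsg.Agent.helper12
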