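import Cfsg.Agent.Lib_helper12_Cusp06

set_option autoImplicit false
set_option linter.unusedSectionVars false

namespace Cfsg.Agent.helper12

open Matrix Cfsg
open scoped ComplexConjugate

variable {F : Type*} [Field F] [Fintype F] [DecidableEq F]

theorem card_cast_ne_zero : (Fintype.card F : ℂ) ≠ 0 := by
  exact_mod_cast (Fintype.card_pos (α := F)).ne'

theorem card_cast_sub_one_ne_zero : (Fintype.card F : ℂ) - 1 ≠ 0 := by
  have h : 1 < Fintype.card F := Fintype.one_lt_card
  intro h0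
  have : (Fintype.card F : ℂ) = ((1 : ℕ) : ℂ) := by rw [Nat.cast_one]; linear_combination h0
  have := Nat.cast_injective this
  omega

theorem card_cast_add_one_ne_zero : (Fintype.card F : ℂ) + 1 ≠ 0 := by
  have : ((Fintype.card F + 1 : ℕ) : ℂ) ≠ 0 := Nat.cast_ne_zero.mpr (Nat.succ_ne_zero _)
  exact_mod_cast this

theorem card_sl2Borel_cast : (Nat.card (sl2Borel F) : ℂ) = ((Fintype.card F : ℂ) - 1) * (Fintype.card F : ℂ) := by
  rw [card_sl2Borel, Nat.cast_mul, Nat.cast_sub Fintype.card_pos, Nat.cast_one]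

theorem mulChar_mul_conj_of_sq (α : MulChar F ℂ) (a : Fˣ) (ha : (a : F) ^ 2 = 1) :
    α (a : F) * conj (α (a : F)) = 1 := by
  have h : α (a : F) ^ 2 = 1 := by rw [← map_pow, ha, map_one]
  rcases sq_eq_one_iff.mp h with h1 | h1 <;> rw [h1] <;> simp

theorem sl2UT_neg_one_zero : sl2UT (-1 : Fˣ) (0 : F) = sl2NegOne := rfl

theorem cuspT_cuspQ (α : MulChar F ℂ) (a : Fˣ) (ha : (a : F) ^ 2 = 1) :
    cuspT (cuspQ α) a = conj (α (a : F)) * (((Fintype.card F : ℂ) - 1) * (Fintype.card F : ℂ) ^ 2) := by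
  unfold cuspT
  rw [cuspQ_sl2UT_central α a ha]
  have : ∀ x : F, (if x = 0 then (0 : ℂ) else conj (cuspQ α (sl2UT a x))) = if x = 0 then 0 else - conj (α (a : F)) := by
    intro x
    split_ifs with hx
    · rfl
    · rw [cuspQ_sl2UT_unip α a ha x hx, map_neg]
  rw [Finset.sum_congr rfl (fun x _ => this x), sum_ite_ne_zero_const]
  simp only [map_mul, map_sub, map_add, Complex.conj_natCast, map_one]
  ring

theorem classInner_cuspQ_self (h2 : (2 : F) ≠ 0) (α : MulChar F ℂ) :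
    classInner (cuspQ α) (cuspQ α) = 2 * (Fintype.card F : ℂ) := by
  rw [classInner_cuspQ h2 α _ (cuspQ_isClassFunction α), cuspT_cuspQ α 1 units_one_sq,
    cuspT_cuspQ α (-1) units_neg_one_sq, card_sl2Borel_cast]
  have e1 := mulChar_mul_conj_of_sq α (-1) units_neg_one_sq
  simp only [Units.val_one, map_one, Units.val_neg] at e1 ⊢
  have hq0 := card_cast_ne_zero (F := F)
  have hq1 := card_cast_sub_one_ne_zero (F := F)
  field_simp
  linear_combination e1

theorem cuspT_one (a : Fˣ) : cuspT (fun _ : Matrix.SpecialLinearGroup (Fin 2) F => (1 : ℂ)) a = 0 := by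
  unfold cuspT
  simp only [map_one]
  rw [sum_ite_ne_zero_const]
  ring

theorem classInner_cuspQ_one (h2 : (2 : F) ≠ 0) (α : MulChar F ℂ) :
    classInner (cuspQ α) (fun _ => (1 : ℂ)) = 0 := by
  rw [classInner_cuspQ h2 α _ (fun _ _ => rfl), cuspT_one, cuspT_one]
  ring

theorem cuspT_cuspI_one (hodd : Odd (Fintype.card F)) {b : Matrix.SpecialLinearGroup (Fin 2) F}
    (hb : NoEigen2 (b : Matrix (Fin 2) (Fin 2) F))
    (θ : Subgroup.centralizer ({b} : Set (Matrix.SpecialLinearGroup (Fin 2) F)) →* ℂˣ) :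
    cuspT (cuspI θ) 1 = ((Fintype.card F : ℂ) - 1) * ((Fintype.card F : ℂ) * ((Fintype.card F : ℂ) - 1)) := by
  unfold cuspT
  rw [sl2UT_one_zero, cuspI_one hodd hb θ]
  have : ∀ x : F, (if x = 0 then (0 : ℂ) else conj (cuspI θ (sl2UT 1 x))) = 0 := by
    intro x
    split_ifs with hx
    · rfl
    · rw [cuspI_sl2UT_unip hb θ 1 x hx, map_zero]
  rw [Finset.sum_congr rfl (fun x _ => this x), Finset.sum_const_zero, sub_zero]
  simp only [map_mul, map_sub, Complex.conj_natCast, map_one]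

theorem cuspT_cuspI_negOne (hodd : Odd (Fintype.card F)) {b : Matrix.SpecialLinearGroup (Fin 2) F}
    (hb : NoEigen2 (b : Matrix (Fin 2) (Fin 2) F))
    (θ : Subgroup.centralizer ({b} : Set (Matrix.SpecialLinearGroup (Fin 2) F)) →* ℂˣ) :
    cuspT (cuspI θ) (-1) = ((Fintype.card F : ℂ) - 1) * ((Fintype.card F : ℂ) * ((Fintype.card F : ℂ) - 1)) *
      conj (unitFun θ ⟨sl2NegOne, sl2NegOne_mem_centralizer _⟩) := by
  unfold cuspT
  rw [sl2UT_neg_one_zero, cuspI_negOne hodd hb θ]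
  have : ∀ x : F, (if x = 0 then (0 : ℂ) else conj (cuspI θ (sl2UT (-1) x))) = 0 := by
    intro x
    split_ifs with hx
    · rfl
    · rw [cuspI_sl2UT_unip hb θ (-1) x hx, map_zero]
  rw [Finset.sum_congr rfl (fun x _ => this x), Finset.sum_const_zero, sub_zero]
  simp only [map_mul, map_sub, Complex.conj_natCast, map_one]
  ring

theorem unitFun_mul_conj {H : Type*} [Group H] [Finite H] (θ : H →* ℂˣ) (c : H) :
    unitFun θ c * conj (unitFun θ c) = 1 := monoidHom_unit_mul_conj θ c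

theorem unitFun_conj {H : Type*} [Group H] [Finite H] (θ : H →* ℂˣ) (c : H) :
    conj (unitFun θ c) = unitFun θ c⁻¹ := monoidHom_unit_conj θ c

theorem unitFun_one {H : Type*} [Group H] (θ : H →* ℂˣ) : unitFun θ 1 = 1 := by
  unfold unitFun
  rw [map_one, Units.val_one]

theorem unitFun_mul {H : Type*} [Group H] (θ : H →* ℂˣ) (c d : H) : unitFun θ (c * d) = unitFun θ c * unitFun θ d := by
  unfold unitFun
  rw [map_mul, Units.val_mul]

theorem classInner_cuspQ_cuspI (hodd : Odd (Fintype.card F)) (α : MulChar F ℂ) {b : Matrix.SpecialLinearGroup (Fin 2) F}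
    (hb : NoEigen2 (b : Matrix (Fin 2) (Fin 2) F))
    (θ : Subgroup.centralizer ({b} : Set (Matrix.SpecialLinearGroup (Fin 2) F)) →* ℂˣ)
    (hα : α (-1) = unitFun θ ⟨sl2NegOne, sl2NegOne_mem_centralizer _⟩) :
    classInner (cuspQ α) (cuspI θ) = 2 * ((Fintype.card F : ℂ) - 1) := by
  have h2 : (2 : F) ≠ 0 := two_ne_zero_of_odd_card hodd
  rw [classInner_cuspQ h2 α _ (cuspI_isClassFunction θ), cuspT_cuspI_one hodd hb θ, cuspT_cuspI_negOne hodd hb θ,
    card_sl2Borel_cast, hα]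
  have e1 := unitFun_mul_conj θ ⟨sl2NegOne, sl2NegOne_mem_centralizer _⟩
  have hq0 := card_cast_ne_zero (F := F)
  have hq1 := card_cast_sub_one_ne_zero (F := F)
  field_simp
  linear_combination e1

end Cfsg.Agent.helper12
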