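import Cfsg.Agent.Lib_helper12_Cusp07

set_option autoImplicit false
set_option linter.unusedSectionVars false

namespace Cfsg.Agent.helper12

open Matrix Cfsg
open scoped ComplexConjugate

variable {F : Type*} [Field F] [Fintype F] [DecidableEq F]

theorem classInner_cuspI (hodd : Odd (Fintype.card F)) {b : Matrix.SpecialLinearGroup (Fin 2) F}
    (hb : NoEigen2 (b : Matrix (Fin 2) (Fin 2) F))
    (θ : Subgroup.centralizer ({b} : Set (Matrix.SpecialLinearGroup (Fin 2) F)) →* ℂˣ)
    (ψ : Matrix.SpecialLinearGroup (Fin 2) F → ℂ) (hψ : IsClassFunction (Matrix.SpecialLinearGroup (Fin 2) F) ψ)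
    [Fintype (Subgroup.centralizer ({b} : Set (Matrix.SpecialLinearGroup (Fin 2) F)))]
    [DecidablePred fun c : Subgroup.centralizer ({b} : Set (Matrix.SpecialLinearGroup (Fin 2) F)) =>
      IsScalar2 ((c : Matrix.SpecialLinearGroup (Fin 2) F) : Matrix (Fin 2) (Fin 2) F)] :
    classInner (cuspI θ) ψ = ((Fintype.card F : ℂ) + 1)⁻¹ * (conj (ψ 1) +
      unitFun θ ⟨sl2NegOne, sl2NegOne_mem_centralizer _⟩ * conj (ψ sl2NegOne) +
      ∑ c : Subgroup.centralizer ({b} : Set (Matrix.SpecialLinearGroup (Fin 2) F)),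
        if IsScalar2 ((c : Matrix.SpecialLinearGroup (Fin 2) F) : Matrix (Fin 2) (Fin 2) F) then 0
        else unitFun θ c * conj (ψ c)) := by
  have h2 : (2 : F) ≠ 0 := two_ne_zero_of_odd_card hodd
  unfold cuspI
  rw [classInner_indFun_eq_restrict _ _ _ hψ]
  unfold classInner
  rw [card_sl2_centralizer_noEigen hodd b hb,
    sum_subgroup_split_scalar h2 _ (sl2NegOne_mem_centralizer _) (fun c => unitFun θ c * conj (ψ c))]
  simp only [unitFun_one, one_mul, Subgroup.coe_one]
  push_cast
  rfl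

theorem unitFun_negOne_sq {b : Matrix.SpecialLinearGroup (Fin 2) F}
    (θ : Subgroup.centralizer ({b} : Set (Matrix.SpecialLinearGroup (Fin 2) F)) →* ℂˣ) :
    unitFun θ ⟨sl2NegOne, sl2NegOne_mem_centralizer _⟩ ^ 2 = 1 := by
  rw [sq, ← unitFun_mul]
  have : (⟨sl2NegOne, sl2NegOne_mem_centralizer _⟩ : Subgroup.centralizer ({b} : Set (Matrix.SpecialLinearGroup (Fin 2) F))) *
      ⟨sl2NegOne, sl2NegOne_mem_centralizer _⟩ = 1 := Subtype.ext sl2NegOne_mul_self
  rw [this, unitFun_one]

theorem classInner_cuspI_self (hodd : Odd (Fintype.card F)) {b : Matrix.SpecialLinearGroup (Fin 2) F}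
    (hb : NoEigen2 (b : Matrix (Fin 2) (Fin 2) F))
    (θ : Subgroup.centralizer ({b} : Set (Matrix.SpecialLinearGroup (Fin 2) F)) →* ℂˣ)
    [Fintype (Subgroup.centralizer ({b} : Set (Matrix.SpecialLinearGroup (Fin 2) F)))] :
    classInner (cuspI θ) (cuspI θ) = 2 * (Fintype.card F : ℂ) - 3 + ((Fintype.card F : ℂ) + 1)⁻¹ *
      ∑ c : Subgroup.centralizer ({b} : Set (Matrix.SpecialLinearGroup (Fin 2) F)), unitFun θ c ^ 2 := by
  classical
  have h2 : (2 : F) ≠ 0 := two_ne_zero_of_odd_card hodd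
  rw [classInner_cuspI hodd hb θ _ (cuspI_isClassFunction θ), cuspI_one hodd hb θ, cuspI_negOne hodd hb θ]
  have hterm : ∀ c : Subgroup.centralizer ({b} : Set (Matrix.SpecialLinearGroup (Fin 2) F)),
      (if IsScalar2 ((c : Matrix.SpecialLinearGroup (Fin 2) F) : Matrix (Fin 2) (Fin 2) F) then (0 : ℂ)
        else unitFun θ c * conj (cuspI θ c)) =
      (if IsScalar2 ((c : Matrix.SpecialLinearGroup (Fin 2) F) : Matrix (Fin 2) (Fin 2) F) then (0 : ℂ)
        else 1 + unitFun θ c ^ 2) := by
    intro c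
    split_ifs with hc
    · rfl
    · rw [cuspI_torus hodd hb θ c hc, map_add, unitFun_conj, unitFun_conj, inv_inv, mul_add, ← unitFun_mul,
        mul_inv_cancel, unitFun_one, sq]
  rw [Finset.sum_congr rfl (fun c _ => hterm c)]
  have hsplit := sum_subgroup_split_scalar h2 _ (sl2NegOne_mem_centralizer ({b} : Set (Matrix.SpecialLinearGroup (Fin 2) F)))
    (fun c => 1 + unitFun θ c ^ 2)
  simp only [unitFun_one, unitFun_negOne_sq] at hsplit
  rw [Finset.sum_add_distrib, Finset.sum_const, Finset.card_univ, ← Nat.card_eq_fintype_card,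
    card_sl2_centralizer_noEigen hodd b hb, nsmul_eq_mul, mul_one] at hsplit
  have e1 := unitFun_mul_conj θ ⟨sl2NegOne, sl2NegOne_mem_centralizer _⟩
  have hq := card_cast_add_one_ne_zero (F := F)
  simp only [map_mul, map_sub, Complex.conj_natCast, map_one]
  push_cast at hsplit
  field_simp
  linear_combination (-1 : ℂ) * hsplit + (Fintype.card F : ℂ) * ((Fintype.card F : ℂ) - 1) * e1

theorem classInner_sub_self {G : Type*} [Group G] [Fintype G] (a b : G → ℂ) :
    classInner (a - b) (a - b) = classInner a a - classInner a b - conj (classInner a b) + classInner b b := by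
  rw [helper24.classInner_sub_left, ← helper24.classInner_conj_symm (a - b) a, ← helper24.classInner_conj_symm (a - b) b,
    helper24.classInner_sub_left, helper24.classInner_sub_left, map_sub, map_sub, helper24.classInner_conj_symm a a,
    helper24.classInner_conj_symm b b, helper24.classInner_conj_symm b a]
  ring

theorem cuspF_eq_sub (α : MulChar F ℂ) {b : Matrix.SpecialLinearGroup (Fin 2) F}
    (θ : Subgroup.centralizer ({b} : Set (Matrix.SpecialLinearGroup (Fin 2) F)) →* ℂˣ) :
    cuspF α θ = cuspQ α - cuspI θ := rfl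

theorem classInner_cuspF_self (hodd : Odd (Fintype.card F)) (α : MulChar F ℂ) {b : Matrix.SpecialLinearGroup (Fin 2) F}
    (hb : NoEigen2 (b : Matrix (Fin 2) (Fin 2) F))
    (θ : Subgroup.centralizer ({b} : Set (Matrix.SpecialLinearGroup (Fin 2) F)) →* ℂˣ)
    (hα : α (-1) = unitFun θ ⟨sl2NegOne, sl2NegOne_mem_centralizer _⟩)
    [Fintype (Subgroup.centralizer ({b} : Set (Matrix.SpecialLinearGroup (Fin 2) F)))] :
    classInner (cuspF α θ) (cuspF α θ) = 1 + ((Fintype.card F : ℂ) + 1)⁻¹ *
      ∑ c : Subgroup.centralizer ({b} : Set (Matrix.SpecialLinearGroup (Fin 2) F)), unitFun θ c ^ 2 := by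
  have h2 : (2 : F) ≠ 0 := two_ne_zero_of_odd_card hodd
  rw [cuspF_eq_sub, classInner_sub_self, classInner_cuspQ_self h2, classInner_cuspQ_cuspI hodd α hb θ hα,
    classInner_cuspI_self hodd hb θ]
  simp only [map_mul, map_sub, Complex.conj_natCast, map_one, map_ofNat]
  ring

end Cfsg.Agent.helper12
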