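import Cfsg.Agent.Lib_helper12_Cusp08

set_option autoImplicit false
set_option linter.unusedSectionVars false

namespace Cfsg.Agent.helper12

open Matrix Cfsg
open scoped ComplexConjugate

variable {F : Type*} [Field F] [Fintype F] [DecidableEq F]

theorem exists_mulChar_negOne (h2 : (2 : F) ≠ 0) (ε : ℂ) (hε : ε ^ 2 = 1) : ∃ α : MulChar F ℂ, α (-1) = ε := by
  rcases sq_eq_one_iff.mp hε with h | h
  · refine ⟨1, ?_⟩
    rw [h]
    exact MulChar.one_apply (isUnit_one.neg)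
  · have hne : (-1 : F) ≠ 1 := by
      intro h'
      apply h2
      linear_combination -h'
    obtain ⟨χ, hχ⟩ := MulChar.exists_apply_ne_one_of_hasEnoughRootsOfUnity F ℂ hne
    refine ⟨χ, ?_⟩
    have h1 : χ (-1) ^ 2 = 1 := by
      rw [← map_pow]
      simp
    rcases sq_eq_one_iff.mp h1 with h1 | h1
    · exact absurd h1 hχ
    · rw [h1, h]

theorem unitFun_isCharacter {H : Type*} [Group H] (θ : H →* ℂˣ) : IsCharacter H (unitFun θ) :=
  isCharacter_of_monoidHom ((Units.coeHom ℂ).comp θ)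

theorem cuspI_isCharacter {b : Matrix.SpecialLinearGroup (Fin 2) F}
    (θ : Subgroup.centralizer ({b} : Set (Matrix.SpecialLinearGroup (Fin 2) F)) →* ℂˣ) :
    IsCharacter (Matrix.SpecialLinearGroup (Fin 2) F) (cuspI θ) :=
  isCharacter_indFun _ (unitFun_isCharacter θ)

theorem cuspF_eq_three (α : MulChar F ℂ) {b : Matrix.SpecialLinearGroup (Fin 2) F}
    (θ : Subgroup.centralizer ({b} : Set (Matrix.SpecialLinearGroup (Fin 2) F)) →* ℂˣ) :
    cuspF α θ = sl2St * sl2R α - sl2R α - cuspI θ := by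
  funext g
  simp only [cuspF, cuspQ, Pi.sub_apply, Pi.mul_apply]
  ring

theorem cuspF_classInner_int (α : MulChar F ℂ) {b : Matrix.SpecialLinearGroup (Fin 2) F}
    (θ : Subgroup.centralizer ({b} : Set (Matrix.SpecialLinearGroup (Fin 2) F)) →* ℂˣ)
    {ψ : Matrix.SpecialLinearGroup (Fin 2) F → ℂ} (hψ : IsCharacter (Matrix.SpecialLinearGroup (Fin 2) F) ψ) :
    ∃ z : ℤ, classInner (cuspF α θ) ψ = z := by
  obtain ⟨n1, h1⟩ := classInner_char_nat
    (isCharacter_mul' (helper24.irr_isCharacter sl2St_irr) (sl2_indBorel_isCharacter α)) hψ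
  obtain ⟨n2, h2⟩ := classInner_char_nat (sl2_indBorel_isCharacter α) hψ
  obtain ⟨n3, h3⟩ := classInner_char_nat (cuspI_isCharacter θ) hψ
  refine ⟨(n1 : ℤ) - n2 - n3, ?_⟩
  rw [cuspF_eq_three, helper24.classInner_sub_left, helper24.classInner_sub_left]
  change classInner (sl2St * sl2R α) ψ = _ at h1
  change classInner (sl2R α) ψ = _ at h2
  rw [h1, h2, h3]
  push_cast
  ring

theorem cuspQ_one (α : MulChar F ℂ) :
    cuspQ α 1 = ((Fintype.card F : ℂ) - 1) * ((Fintype.card F : ℂ) + 1) := by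
  rw [← sl2UT_one_zero, cuspQ_sl2UT_central α 1 units_one_sq, Units.val_one, map_one, mul_one]

theorem cuspQ_negOne (α : MulChar F ℂ) :
    cuspQ α sl2NegOne = ((Fintype.card F : ℂ) - 1) * (((Fintype.card F : ℂ) + 1) * α (-1)) := by
  rw [← sl2UT_neg_one_zero, cuspQ_sl2UT_central α (-1) units_neg_one_sq, Units.val_neg, Units.val_one]

theorem cuspF_one (hodd : Odd (Fintype.card F)) (α : MulChar F ℂ) {b : Matrix.SpecialLinearGroup (Fin 2) F}
    (hb : NoEigen2 (b : Matrix (Fin 2) (Fin 2) F))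
    (θ : Subgroup.centralizer ({b} : Set (Matrix.SpecialLinearGroup (Fin 2) F)) →* ℂˣ) :
    cuspF α θ 1 = (Fintype.card F : ℂ) - 1 := by
  unfold cuspF
  rw [cuspQ_one, cuspI_one hodd hb θ]
  ring

theorem cuspF_negOne (hodd : Odd (Fintype.card F)) (α : MulChar F ℂ) {b : Matrix.SpecialLinearGroup (Fin 2) F}
    (hb : NoEigen2 (b : Matrix (Fin 2) (Fin 2) F))
    (θ : Subgroup.centralizer ({b} : Set (Matrix.SpecialLinearGroup (Fin 2) F)) →* ℂˣ)
    (hα : α (-1) = unitFun θ ⟨sl2NegOne, sl2NegOne_mem_centralizer _⟩) :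
    cuspF α θ sl2NegOne = unitFun θ ⟨sl2NegOne, sl2NegOne_mem_centralizer _⟩ * ((Fintype.card F : ℂ) - 1) := by
  unfold cuspF
  rw [cuspQ_negOne, cuspI_negOne hodd hb θ, hα]
  ring

theorem cuspF_torus (hodd : Odd (Fintype.card F)) (α : MulChar F ℂ) {b : Matrix.SpecialLinearGroup (Fin 2) F}
    (hb : NoEigen2 (b : Matrix (Fin 2) (Fin 2) F))
    (θ : Subgroup.centralizer ({b} : Set (Matrix.SpecialLinearGroup (Fin 2) F)) →* ℂˣ)
    (c : Subgroup.centralizer ({b} : Set (Matrix.SpecialLinearGroup (Fin 2) F)))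
    (hcs : ¬ IsScalar2 ((c : Matrix.SpecialLinearGroup (Fin 2) F) : Matrix (Fin 2) (Fin 2) F)) :
    cuspF α θ c = -(unitFun θ c + unitFun θ c⁻¹) := by
  unfold cuspF
  rw [cuspQ_noEigen α _ (noEigen2_of_mem_centralizer hb c.2 hcs), cuspI_torus hodd hb θ c hcs]
  ring

theorem cuspF_sl2UT_split (α : MulChar F ℂ) {b : Matrix.SpecialLinearGroup (Fin 2) F}
    (hb : NoEigen2 (b : Matrix (Fin 2) (Fin 2) F))
    (θ : Subgroup.centralizer ({b} : Set (Matrix.SpecialLinearGroup (Fin 2) F)) →* ℂˣ)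
    (a : Fˣ) (ha : (a : F) ^ 2 ≠ 1) (x : F) : cuspF α θ (sl2UT a x) = 0 := by
  unfold cuspF
  rw [cuspQ_sl2UT_split α a ha x, cuspI_sl2UT_split hb θ a ha x, sub_zero]

theorem cuspF_sl2UT_unip (α : MulChar F ℂ) {b : Matrix.SpecialLinearGroup (Fin 2) F}
    (hb : NoEigen2 (b : Matrix (Fin 2) (Fin 2) F))
    (θ : Subgroup.centralizer ({b} : Set (Matrix.SpecialLinearGroup (Fin 2) F)) →* ℂˣ)
    (a : Fˣ) (ha : (a : F) ^ 2 = 1) (x : F) (hx : x ≠ 0) : cuspF α θ (sl2UT a x) = - α (a : F) := by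
  unfold cuspF
  rw [cuspQ_sl2UT_unip α a ha x hx, cuspI_sl2UT_unip hb θ a x hx, sub_zero]

/-- the cuspidal virtual character attached to a character `θ` with `θ² ≠ 1` is irreducible -/
theorem cuspF_irr (hodd : Odd (Fintype.card F)) (α : MulChar F ℂ) {b : Matrix.SpecialLinearGroup (Fin 2) F}
    (hb : NoEigen2 (b : Matrix (Fin 2) (Fin 2) F))
    (θ : Subgroup.centralizer ({b} : Set (Matrix.SpecialLinearGroup (Fin 2) F)) →* ℂˣ)
    (hα : α (-1) = unitFun θ ⟨sl2NegOne, sl2NegOne_mem_centralizer _⟩)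
    (c₀ : Subgroup.centralizer ({b} : Set (Matrix.SpecialLinearGroup (Fin 2) F))) (hc₀ : θ c₀ ^ 2 ≠ 1) :
    IsIrrCharacter (Matrix.SpecialLinearGroup (Fin 2) F) (cuspF α θ) := by
  classical
  have hq : 1 < Fintype.card F := Fintype.one_lt_card
  apply isIrrCharacter_of_virtual (cuspF_isClassFunction α θ)
    (fun ψ => cuspF_classInner_int α θ (helper24.irr_isCharacter ψ.2)) _ (Fintype.card F - 1) (by omega)
  · rw [cuspF_one hodd α hb θ, Nat.cast_sub hq.le, Nat.cast_one]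
  · rw [classInner_cuspF_self hodd α hb θ hα]
    have := sum_monoidHom_sq_eq_zero θ c₀ hc₀
    unfold unitFun
    rw [this, mul_zero, add_zero]

end Cfsg.Agent.helper12
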