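import Cfsg.Agent.Lib_helper12_Cusp10

set_option autoImplicit false
set_option linter.unusedSectionVars false

namespace Cfsg.Agent.helper12

open Matrix Cfsg
open scoped ComplexConjugate

theorem sum_monoidHom_eq_zero {H : Type*} [Group H] [Fintype H] (η : H →* ℂˣ) (c₀ : H) (h : η c₀ ≠ 1) :
    ∑ c : H, ((η c : ℂˣ) : ℂ) = 0 := by
  have h1 : ∑ c : H, ((η c : ℂˣ) : ℂ) = ((η c₀ : ℂˣ) : ℂ) * ∑ c : H, ((η c : ℂˣ) : ℂ) := by
    rw [Finset.mul_sum, ← Equiv.sum_comp (Equiv.mulLeft c₀)]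
    apply Finset.sum_congr rfl
    intro c _
    rw [Equiv.coe_mulLeft, map_mul, Units.val_mul]
  have h2 : ((η c₀ : ℂˣ) : ℂ) ≠ 1 := by
    intro h'
    apply h
    apply Units.ext
    rw [h', Units.val_one]
  have h3 : (((η c₀ : ℂˣ) : ℂ) - 1) * ∑ c : H, ((η c : ℂˣ) : ℂ) = 0 := by
    rw [sub_mul, one_mul, ← h1, sub_self]
  rcases mul_eq_zero.mp h3 with h4 | h4
  · exact absurd (sub_eq_zero.mp h4) h2
  · exact h4

theorem unitFun_inv {H : Type*} [Group H] (θ : H →* ℂˣ) (c : H) : unitFun θ⁻¹ c = unitFun θ c⁻¹ := by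
  unfold unitFun
  rw [MonoidHom.inv_apply, map_inv]

theorem sum_unitFun_mul_conj {H : Type*} [Group H] [Fintype H] (θ θ' : H →* ℂˣ) [Decidable (θ = θ')] :
    ∑ c : H, unitFun θ c * conj (unitFun θ' c) = if θ = θ' then (Fintype.card H : ℂ) else 0 := by
  split_ifs with h
  · subst h
    simp only [unitFun_mul_conj, Finset.sum_const, Finset.card_univ, nsmul_eq_mul, mul_one]
  · obtain ⟨c₀, hc₀⟩ : ∃ c₀, θ c₀ ≠ θ' c₀ := by
      by_contra hcon
      push Not at hcon
      exact h (MonoidHom.ext hcon)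
    have hη : (θ * θ'⁻¹) c₀ ≠ 1 := by
      rw [MonoidHom.mul_apply, MonoidHom.inv_apply]
      intro h'
      exact hc₀ (mul_inv_eq_one.mp h')
    have := sum_monoidHom_eq_zero (θ * θ'⁻¹) c₀ hη
    rw [← this]
    apply Finset.sum_congr rfl
    intro c _
    rw [unitFun_conj]
    unfold unitFun
    rw [MonoidHom.mul_apply, MonoidHom.inv_apply, Units.val_mul, map_inv]

theorem monoidHom_eq_or_eq_inv {H : Type*} [Group H] [Fintype H] (θ θ' : H →* ℂˣ)
    (h : ∀ c, unitFun θ c + unitFun θ c⁻¹ = unitFun θ' c + unitFun θ' c⁻¹) : θ' = θ ∨ θ' = θ⁻¹ := by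
  classical
  by_contra hcon
  push Not at hcon
  have hsum : ∑ c : H, (unitFun θ c + unitFun θ c⁻¹) * conj (unitFun θ' c)
      = ∑ c : H, (unitFun θ' c + unitFun θ' c⁻¹) * conj (unitFun θ' c) :=
    Finset.sum_congr rfl (fun c _ => by rw [h c])
  simp only [add_mul, Finset.sum_add_distrib, ← unitFun_inv] at hsum
  rw [sum_unitFun_mul_conj, sum_unitFun_mul_conj, sum_unitFun_mul_conj, sum_unitFun_mul_conj,
    if_neg (fun h' => hcon.1 h'.symm), if_neg (fun h' => hcon.2 h'.symm), if_pos rfl] at hsum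
  have hH : (Fintype.card H : ℂ) ≠ 0 := by exact_mod_cast (Fintype.card_pos (α := H)).ne'
  split_ifs at hsum with h1
  · apply hH
    linear_combination (-1 / 2 : ℂ) * hsum
  · apply hH
    linear_combination (-1 : ℂ) * hsum

end Cfsg.Agent.helper12
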