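import Cfsg.Agent.Lib_helper12_Cusp11

set_option autoImplicit false
set_option linter.unusedSectionVars false

namespace Cfsg.Agent.helper12

open Matrix Cfsg
open scoped ComplexConjugate

theorem exists_monoidHom_mulEquiv_of_isCyclic {G : Type*} [Group G] [Finite G] (hC : IsCyclic G) :
    Nonempty ((G →* ℂˣ) ≃* G) := by
  letI : CommGroup G := IsCyclic.commGroup
  exact CommGroup.monoidHom_mulEquiv_of_hasEnoughRootsOfUnity G ℂ

variable {F : Type*} [Field F] [Fintype F] [DecidableEq F]

theorem cuspF_eq_imp (hodd : Odd (Fintype.card F)) (α α' : MulChar F ℂ) {b : Matrix.SpecialLinearGroup (Fin 2) F}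
    (hb : NoEigen2 (b : Matrix (Fin 2) (Fin 2) F))
    (θ θ' : Subgroup.centralizer ({b} : Set (Matrix.SpecialLinearGroup (Fin 2) F)) →* ℂˣ)
    (hα : α (-1) = unitFun θ ⟨sl2NegOne, sl2NegOne_mem_centralizer _⟩)
    (hα' : α' (-1) = unitFun θ' ⟨sl2NegOne, sl2NegOne_mem_centralizer _⟩)
    (h : cuspF α θ = cuspF α' θ') : θ' = θ ∨ θ' = θ⁻¹ := by
  classical
  haveI : Fintype (Subgroup.centralizer ({b} : Set (Matrix.SpecialLinearGroup (Fin 2) F))) := Fintype.ofFinite _
  apply monoidHom_eq_or_eq_inv
  intro c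
  by_cases hcs : IsScalar2 ((c : Matrix.SpecialLinearGroup (Fin 2) F) : Matrix (Fin 2) (Fin 2) F)
  · rcases (sl2_isScalar2_iff_eq _).mp hcs with h1 | h1
    · have hc : c = 1 := Subtype.ext h1
      subst hc
      simp [unitFun_one]
    · have hc : c = ⟨sl2NegOne, sl2NegOne_mem_centralizer _⟩ := Subtype.ext h1
      have hz : unitFun θ ⟨sl2NegOne, sl2NegOne_mem_centralizer _⟩ = unitFun θ' ⟨sl2NegOne, sl2NegOne_mem_centralizer _⟩ := by
        have := congrFun h sl2NegOne
        rw [cuspF_negOne hodd α hb θ hα, cuspF_negOne hodd α' hb θ' hα'] at this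
        exact mul_right_cancel₀ card_cast_sub_one_ne_zero this
      have hinv : c⁻¹ = c := by
        apply inv_eq_of_mul_eq_one_left
        rw [hc]
        exact Subtype.ext sl2NegOne_mul_self
      rw [hinv, hc, hz]
  · have := congrFun h c
    rw [cuspF_torus hodd α hb θ c hcs, cuspF_torus hodd α' hb θ' c hcs] at this
    exact neg_injective this

theorem torus_hom_finite {b : Matrix.SpecialLinearGroup (Fin 2) F}
    (hC : IsCyclic (Subgroup.centralizer ({b} : Set (Matrix.SpecialLinearGroup (Fin 2) F)))) :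
    Finite (Subgroup.centralizer ({b} : Set (Matrix.SpecialLinearGroup (Fin 2) F)) →* ℂˣ) := by
  obtain ⟨e⟩ := exists_monoidHom_mulEquiv_of_isCyclic hC
  exact Finite.of_equiv _ e.symm.toEquiv

theorem torus_hom_count (hodd : Odd (Fintype.card F)) {b : Matrix.SpecialLinearGroup (Fin 2) F}
    (hb : NoEigen2 (b : Matrix (Fin 2) (Fin 2) F))
    (hC : IsCyclic (Subgroup.centralizer ({b} : Set (Matrix.SpecialLinearGroup (Fin 2) F))))
    [Fintype (Subgroup.centralizer ({b} : Set (Matrix.SpecialLinearGroup (Fin 2) F)) →* ℂˣ)]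
    [DecidablePred fun θ : Subgroup.centralizer ({b} : Set (Matrix.SpecialLinearGroup (Fin 2) F)) →* ℂˣ => ∃ c, θ c ^ 2 ≠ 1] :
    Fintype.card F - 1 ≤ (Finset.univ.filter
      (fun θ : Subgroup.centralizer ({b} : Set (Matrix.SpecialLinearGroup (Fin 2) F)) →* ℂˣ => ∃ c, θ c ^ 2 ≠ 1)).card := by
  classical
  have h2 : (2 : F) ≠ 0 := two_ne_zero_of_odd_card hodd
  obtain ⟨e⟩ := exists_monoidHom_mulEquiv_of_isCyclic hC
  have hcard : (Finset.univ : Finset (Subgroup.centralizer ({b} : Set (Matrix.SpecialLinearGroup (Fin 2) F)) →* ℂˣ)).card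
      = Fintype.card F + 1 := by
    rw [Finset.card_univ, ← Nat.card_eq_fintype_card, Nat.card_congr e.toEquiv, card_sl2_centralizer_noEigen hodd b hb]
  have hsplit := Finset.card_filter_add_card_filter_not (s := (Finset.univ : Finset (Subgroup.centralizer ({b} : Set (Matrix.SpecialLinearGroup (Fin 2) F)) →* ℂˣ)))
    (fun θ => ∃ c, θ c ^ 2 ≠ 1)
  have hneg : (Finset.univ.filter
      (fun θ : Subgroup.centralizer ({b} : Set (Matrix.SpecialLinearGroup (Fin 2) F)) →* ℂˣ => ¬ ∃ c, θ c ^ 2 ≠ 1)).card ≤ 2 := by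
    calc _ ≤ ({1, ⟨sl2NegOne, sl2NegOne_mem_centralizer _⟩} :
            Finset (Subgroup.centralizer ({b} : Set (Matrix.SpecialLinearGroup (Fin 2) F)))).card := by
          apply Finset.card_le_card_of_injOn e _ e.injective.injOn
          intro θ hθ
          rw [Finset.coe_filter] at hθ
          have hθ' : ∀ c, θ c ^ 2 = 1 := by
            have := hθ.2
            push Not at this
            exact this
          have hsq : θ * θ = 1 := by
            ext c
            rw [MonoidHom.mul_apply, ← sq, hθ' c, MonoidHom.one_apply]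
          have he : e θ * e θ = 1 := by rw [← map_mul, hsq, map_one]
          have he' : ((e θ : Subgroup.centralizer ({b} : Set (Matrix.SpecialLinearGroup (Fin 2) F))) : Matrix.SpecialLinearGroup (Fin 2) F)
              * (e θ : Subgroup.centralizer ({b} : Set (Matrix.SpecialLinearGroup (Fin 2) F))) = 1 := by
            have := congrArg Subtype.val he
            exact this
          rw [Finset.coe_insert, Finset.coe_singleton]
          rcases sl2_sq_eq_one h2 he' with h' | h'
          · left
            exact Subtype.ext (Subtype.ext h')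
          · right
            exact Subtype.ext (Subtype.ext (by rw [h', sl2NegOne_coe]))
      _ ≤ 2 := Finset.card_le_two
  rw [hcard] at hsplit
  omega

end Cfsg.Agent.helper12
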