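import Cfsg.Agent.Lib_helper12_Cusp12

set_option autoImplicit false
set_option linter.unusedSectionVars false

namespace Cfsg.Agent.helper12

open Matrix Cfsg
open scoped ComplexConjugate

variable {F : Type*} [Field F] [Fintype F] [DecidableEq F]

/-- every irreducible character of degree `q - 1` is one of the `cuspF`, for `q ≥ 5` -/
theorem sl2_cuspidal_surj (hodd : Odd (Fintype.card F)) (hq : 5 ≤ Fintype.card F)
    {b : Matrix.SpecialLinearGroup (Fin 2) F} (hb : NoEigen2 (b : Matrix (Fin 2) (Fin 2) F))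
    (hC : IsCyclic (Subgroup.centralizer ({b} : Set (Matrix.SpecialLinearGroup (Fin 2) F))))
    (χ : Matrix.SpecialLinearGroup (Fin 2) F → ℂ) (hχ : IsIrrCharacter (Matrix.SpecialLinearGroup (Fin 2) F) χ)
    (hdeg : χ 1 = (Fintype.card F : ℂ) - 1) :
    ∃ (θ : Subgroup.centralizer ({b} : Set (Matrix.SpecialLinearGroup (Fin 2) F)) →* ℂˣ) (α : MulChar F ℂ),
      (∃ c, θ c ^ 2 ≠ 1) ∧ α (-1) = unitFun θ ⟨sl2NegOne, sl2NegOne_mem_centralizer _⟩ ∧ χ = cuspF α θ := by
  classical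
  have h2 : (2 : F) ≠ 0 := two_ne_zero_of_odd_card hodd
  have hfin := torus_hom_finite hC
  have : Fintype (Subgroup.centralizer ({b} : Set (Matrix.SpecialLinearGroup (Fin 2) F)) →* ℂˣ) := Fintype.ofFinite _
  have : Fintype (IrrCharacter (Matrix.SpecialLinearGroup (Fin 2) F)) := Fintype.ofFinite _
  have hex : ∀ θ : Subgroup.centralizer ({b} : Set (Matrix.SpecialLinearGroup (Fin 2) F)) →* ℂˣ,
      ∃ α : MulChar F ℂ, α (-1) = unitFun θ ⟨sl2NegOne, sl2NegOne_mem_centralizer _⟩ :=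
    fun θ => exists_mulChar_negOne h2 _ (unitFun_negOne_sq θ)
  choose αf hαf using hex
  by_contra hcon
  obtain ⟨f, hf⟩ : ∃ f : (Subgroup.centralizer ({b} : Set (Matrix.SpecialLinearGroup (Fin 2) F)) →* ℂˣ) →
      (Matrix.SpecialLinearGroup (Fin 2) F → ℂ), f = fun θ => cuspF (αf θ) θ := ⟨_, rfl⟩
  obtain ⟨s, hs⟩ : ∃ s : Finset (Subgroup.centralizer ({b} : Set (Matrix.SpecialLinearGroup (Fin 2) F)) →* ℂˣ),
      s = Finset.univ.filter (fun θ => ∃ c, θ c ^ 2 ≠ 1) := ⟨_, rfl⟩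
  have hB : Nat.card {ψ : IrrCharacter (Matrix.SpecialLinearGroup (Fin 2) F) //
      (ψ : Matrix.SpecialLinearGroup (Fin 2) F → ℂ) 1 = (Fintype.card F : ℂ) - 1} = (Fintype.card F - 1) / 2 :=
    ((sl2_degrees_odd hodd).2 hq).2.2.2.1
  obtain ⟨R, hRdef⟩ : ∃ R : Finset (Matrix.SpecialLinearGroup (Fin 2) F → ℂ),
      R = (Finset.univ : Finset {ψ : IrrCharacter (Matrix.SpecialLinearGroup (Fin 2) F) //
      (ψ : Matrix.SpecialLinearGroup (Fin 2) F → ℂ) 1 = (Fintype.card F : ℂ) - 1}).image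
        (fun ψ => (ψ.1 : Matrix.SpecialLinearGroup (Fin 2) F → ℂ)) := ⟨_, rfl⟩
  have hR : R.card ≤ (Fintype.card F - 1) / 2 := by
    rw [hRdef]
    apply Finset.card_image_le.trans
    rw [Finset.card_univ, ← Nat.card_eq_fintype_card, hB]
  have hχR : χ ∈ R := by
    rw [hRdef]
    exact Finset.mem_image.mpr ⟨⟨⟨χ, hχ⟩, hdeg⟩, Finset.mem_univ _, rfl⟩
  have himg : s.image f ⊆ R.erase χ := by
    intro ψ hψ
    obtain ⟨θ, hθ, rfl⟩ := Finset.mem_image.mp hψ
    rw [hs] at hθ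
    obtain ⟨c₀, hc₀⟩ := (Finset.mem_filter.mp hθ).2
    have hirr := cuspF_irr hodd (αf θ) hb θ (hαf θ) c₀ hc₀
    rw [Finset.mem_erase, hf]
    refine ⟨?_, ?_⟩
    · intro h
      exact hcon ⟨θ, αf θ, ⟨c₀, hc₀⟩, hαf θ, h.symm⟩
    · rw [hRdef]
      exact Finset.mem_image.mpr ⟨⟨⟨_, hirr⟩, cuspF_one hodd (αf θ) hb θ⟩, Finset.mem_univ _, rfl⟩
  have hcard1 : (s.image f).card ≤ (Fintype.card F - 1) / 2 - 1 := by
    apply (Finset.card_le_card himg).trans
    rw [Finset.card_erase_of_mem hχR]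
    omega
  have hfib : s.card ≤ 2 * (s.image f).card := by
    apply Finset.card_le_mul_card_image
    intro a ha
    obtain ⟨θ₁, hθ₁, rfl⟩ := Finset.mem_image.mp ha
    calc (s.filter (fun x => f x = f θ₁)).card ≤ ({θ₁, θ₁⁻¹} : Finset _).card := by
          apply Finset.card_le_card
          intro x hx
          have hx2 := (Finset.mem_filter.mp hx).2
          rw [hf] at hx2
          rcases cuspF_eq_imp hodd (αf θ₁) (αf x) hb θ₁ x (hαf θ₁) (hαf x) hx2.symm with h | h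
          · rw [h]; exact Finset.mem_insert_self _ _
          · rw [h]; exact Finset.mem_insert_of_mem (Finset.mem_singleton_self _)
      _ ≤ 2 := Finset.card_le_two
  have hcount := torus_hom_count hodd hb hC
  rw [← hs] at hcount
  omega

end Cfsg.Agent.helper12
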