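import Cfsg.Agent.Lib_helper12_Cusp13

set_option autoImplicit false
set_option linter.unusedSectionVars false

namespace Cfsg.Agent.helper12

open Matrix Cfsg
open scoped ComplexConjugate

variable {F : Type*} [Field F] [Fintype F] [DecidableEq F]

/-- S2434 -/
theorem sl2_cuspidal_characters_odd (hodd : Odd (Fintype.card F))
    (C : Subgroup (Matrix.SpecialLinearGroup (Fin 2) F)) (hC : IsCyclic C) (hcard : Nat.card C = Fintype.card F + 1) :
    (∀ θ : C →* ℂˣ, (∃ c : C, θ c ^ 2 ≠ 1) →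
      ∃ χ : Matrix.SpecialLinearGroup (Fin 2) F → ℂ, Cfsg.IsIrrCharacter (Matrix.SpecialLinearGroup (Fin 2) F) χ ∧ χ 1 = (Fintype.card F : ℂ) - 1 ∧
        (∀ c : C, (c : Matrix.SpecialLinearGroup (Fin 2) F) ∉ Subgroup.center (Matrix.SpecialLinearGroup (Fin 2) F) → χ c = -((θ c).val + (θ c)⁻¹.val)) ∧
        (∀ c : C, (c : Matrix.SpecialLinearGroup (Fin 2) F) ∈ Subgroup.center (Matrix.SpecialLinearGroup (Fin 2) F) → ∀ g : Matrix.SpecialLinearGroup (Fin 2) F, χ ((c : Matrix.SpecialLinearGroup (Fin 2) F) * g) = (θ c).val * χ g) ∧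
        (∀ g : Matrix.SpecialLinearGroup (Fin 2) F, (g : Matrix (Fin 2) (Fin 2) F) 0 1 = 0 → (g : Matrix (Fin 2) (Fin 2) F) 1 0 = 0 → (g : Matrix (Fin 2) (Fin 2) F) 0 0 ^ 2 ≠ 1 → χ g = 0) ∧
        (∀ g : Matrix.SpecialLinearGroup (Fin 2) F, (g : Matrix (Fin 2) (Fin 2) F) 1 0 = 0 → (g : Matrix (Fin 2) (Fin 2) F) 0 0 = 1 → (g : Matrix (Fin 2) (Fin 2) F) 1 1 = 1 → (g : Matrix (Fin 2) (Fin 2) F) 0 1 ≠ 0 → χ g = -1)) ∧
    (∀ χ : Matrix.SpecialLinearGroup (Fin 2) F → ℂ, Cfsg.IsIrrCharacter (Matrix.SpecialLinearGroup (Fin 2) F) χ → χ 1 = (Fintype.card F : ℂ) - 1 →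
      ∃ θ : C →* ℂˣ, (∃ c : C, θ c ^ 2 ≠ 1) ∧
        ∀ c : C, (c : Matrix.SpecialLinearGroup (Fin 2) F) ∉ Subgroup.center (Matrix.SpecialLinearGroup (Fin 2) F) → χ c = -((θ c).val + (θ c)⁻¹.val)) := by
  classical
  obtain ⟨b, hb, hord, rfl⟩ := sl2_cyclic_torus_eq hodd C hC hcard
  have h2 : (2 : F) ≠ 0 := two_ne_zero_of_odd_card hodd
  constructor
  · intro θ hθ
    obtain ⟨α, hα, h1, h2, h3, h4, h5, h6⟩ := sl2_cuspidal_exists hodd hb θ hθ
    exact ⟨cuspF α θ, h1, h2, h3, h4, h5, h6⟩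
  · intro χ hχ hdeg
    by_cases hq : 5 ≤ Fintype.card F
    · obtain ⟨θ, α, hθ, hα, rfl⟩ := sl2_cuspidal_surj hodd hq hb hC χ hχ hdeg
      obtain ⟨c₀, hc₀⟩ := hθ
      refine ⟨θ, ⟨c₀, hc₀⟩, ?_⟩
      intro c hc
      rw [cuspF_torus hodd α hb θ c (sl2_not_isScalar2_of_not_mem_center _ hc)]
      unfold unitFun
      rw [map_inv]
    · -- q = 3
      have hq3 : Fintype.card F = 3 := by
        have h1 : 1 < Fintype.card F := Fintype.one_lt_card
        obtain ⟨k, hk⟩ := hodd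
        omega
      have hfin := torus_hom_finite hC
      have : Fintype (Subgroup.centralizer ({b} : Set (Matrix.SpecialLinearGroup (Fin 2) F)) →* ℂˣ) := Fintype.ofFinite _
      have hcount := torus_hom_count hodd hb hC
      rw [hq3] at hcount
      obtain ⟨θ, hθ⟩ := Finset.card_pos.mp (by omega : 0 < (Finset.univ.filter
        (fun θ : Subgroup.centralizer ({b} : Set (Matrix.SpecialLinearGroup (Fin 2) F)) →* ℂˣ => ∃ c, θ c ^ 2 ≠ 1)).card)
      obtain ⟨c₀, hc₀⟩ := (Finset.mem_filter.mp hθ).2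
      refine ⟨θ, ⟨c₀, hc₀⟩, ?_⟩
      intro c hc
      have hcs := sl2_not_isScalar2_of_not_mem_center _ hc
      have hne := noEigen2_of_mem_centralizer hb c.2 hcs
      have hχc : χ c = 0 := by
        apply sl2_vanish_elliptic hodd hχ _ _ hne
        right
        rw [hdeg, hq3]
        norm_num
      rw [hχc]
      -- θ c + (θ c)⁻¹ = 0
      have hz : θ ⟨sl2NegOne, sl2NegOne_mem_centralizer _⟩ ≠ 1 := by
        intro hz
        apply hc₀
        have hc4 : (c₀ : Matrix.SpecialLinearGroup (Fin 2) F) ^ 2 * (c₀ : Matrix.SpecialLinearGroup (Fin 2) F) ^ 2 = 1 := by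
          have := pow_card_eq_one' (G := Subgroup.centralizer ({b} : Set (Matrix.SpecialLinearGroup (Fin 2) F))) (x := c₀)
          rw [card_sl2_centralizer_noEigen hodd b hb, hq3] at this
          have h4 := congrArg Subtype.val this
          rw [Subgroup.coe_pow, Subgroup.coe_one] at h4
          rw [← pow_add]
          exact h4
        rw [← map_pow]
        rcases sl2_sq_eq_one h2 hc4 with h' | h'
        · have : c₀ ^ 2 = 1 := Subtype.ext (Subtype.ext (by rw [Subgroup.coe_pow]; exact h'))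
          rw [this, map_one]
        · have : c₀ ^ 2 = ⟨sl2NegOne, sl2NegOne_mem_centralizer _⟩ :=
            Subtype.ext (Subtype.ext (by rw [Subgroup.coe_pow, h', sl2NegOne_coe]))
          rw [this, hz]
      have hc4 : (c : Matrix.SpecialLinearGroup (Fin 2) F) ^ 2 * (c : Matrix.SpecialLinearGroup (Fin 2) F) ^ 2 = 1 := by
        have := pow_card_eq_one' (G := Subgroup.centralizer ({b} : Set (Matrix.SpecialLinearGroup (Fin 2) F))) (x := c)
        rw [card_sl2_centralizer_noEigen hodd b hb, hq3] at this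
        have h4 := congrArg Subtype.val this
        rw [Subgroup.coe_pow, Subgroup.coe_one] at h4
        rw [← pow_add]
        exact h4
      have hc2 : c ^ 2 = ⟨sl2NegOne, sl2NegOne_mem_centralizer _⟩ := by
        rcases sl2_sq_eq_one h2 hc4 with h' | h'
        · exfalso
          have hcc : (c : Matrix.SpecialLinearGroup (Fin 2) F) * (c : Matrix.SpecialLinearGroup (Fin 2) F) = 1 := by
            rw [← sq]; exact Subtype.ext h'
          apply hcs
          rcases sl2_sq_eq_one h2 hcc with h'' | h'' <;> rw [h''] <;> refine ⟨?_, ?_, ?_⟩ <;> simp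
        · exact Subtype.ext (Subtype.ext (by rw [Subgroup.coe_pow, h', sl2NegOne_coe]))
      have hzsq : (θ ⟨sl2NegOne, sl2NegOne_mem_centralizer _⟩ : ℂˣ) ^ 2 = 1 := by
        rw [← map_pow]
        have : (⟨sl2NegOne, sl2NegOne_mem_centralizer _⟩ : Subgroup.centralizer ({b} : Set (Matrix.SpecialLinearGroup (Fin 2) F))) ^ 2 = 1 := by
          rw [sq]; exact Subtype.ext sl2NegOne_mul_self
        rw [this, map_one]
      have hzval : ((θ ⟨sl2NegOne, sl2NegOne_mem_centralizer _⟩ : ℂˣ) : ℂ) = -1 := by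
        have h1 : ((θ ⟨sl2NegOne, sl2NegOne_mem_centralizer _⟩ : ℂˣ) : ℂ) ^ 2 = 1 := by
          rw [← Units.val_pow_eq_pow_val, hzsq, Units.val_one]
        rcases sq_eq_one_iff.mp h1 with h | h
        · exact absurd (Units.ext (by rw [h, Units.val_one])) hz
        · exact h
      have hθc : ((θ c : ℂˣ) : ℂ) ^ 2 = -1 := by
        rw [← Units.val_pow_eq_pow_val, ← map_pow, hc2, hzval]
      have hne0 : ((θ c : ℂˣ) : ℂ) ≠ 0 := (θ c).ne_zero
      rw [Units.val_inv_eq_inv_val]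
      have : ((θ c : ℂˣ) : ℂ) + ((θ c : ℂˣ) : ℂ)⁻¹ = 0 := by
        field_simp
        linear_combination hθc
      rw [this, neg_zero]

end Cfsg.Agent.helper12
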