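import Mathlib

set_option autoImplicit false

/-!
Involution centralizer dihedral of order 8: abstract data and elementary consequences (helper12).
-/

namespace Cfsg.Agent.helper12

universe u

section Dih8

variable {G : Type u} [Group G]

/-- abstract data of an involution `t` whose centralizer is dihedral of order 8 -/
structure Dih8Data (t r s : G) : Prop where
  order_r : orderOf r = 4
  r_sq : r ^ 2 = t
  s_sq : s * s = 1
  conj : s * r * s⁻¹ = r⁻¹
  cover : ∀ x : G, x * t = t * x → x ∈ Subgroup.zpowers r ∨ s * x ∈ Subgroup.zpowers r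
  card_D : Nat.card (Subgroup.centralizer ({t} : Set G)) = 8

variable {t r s : G}

theorem d8_r_pow_four (h : Dih8Data t r s) : r ^ 4 = 1 := by
  rw [← h.order_r]; exact pow_orderOf_eq_one r

theorem d8_t_sq (h : Dih8Data t r s) : t ^ 2 = 1 := by
  rw [← h.r_sq, ← pow_mul]; exact d8_r_pow_four h

theorem d8_t_ne_one (h : Dih8Data t r s) : t ≠ 1 := by
  intro ht
  have h1 : r ^ 2 = 1 := by rw [h.r_sq, ht]
  have := orderOf_dvd_of_pow_eq_one h1
  rw [h.order_r] at this
  omega

theorem d8_order_t (h : Dih8Data t r s) : orderOf t = 2 :=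
  orderOf_eq_prime (d8_t_sq h) (d8_t_ne_one h)

theorem d8_t_inv (h : Dih8Data t r s) : t⁻¹ = t := by
  rw [inv_eq_iff_mul_eq_one, ← pow_two]; exact d8_t_sq h

theorem d8_s_inv (h : Dih8Data t r s) : s⁻¹ = s := by
  rw [inv_eq_iff_mul_eq_one]; exact h.s_sq

theorem d8_t_mem (h : Dih8Data t r s) : t ∈ Subgroup.zpowers r := by
  rw [← h.r_sq]; exact Subgroup.pow_mem _ (Subgroup.mem_zpowers r) 2

theorem d8_conj_mem (h : Dih8Data t r s) {y : G} (hy : y ∈ Subgroup.zpowers r) :
    s * y * s⁻¹ = y⁻¹ := by
  obtain ⟨i, rfl⟩ := Subgroup.mem_zpowers_iff.mp hy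
  rw [← conj_zpow, h.conj, inv_zpow]

theorem d8_r_ne_inv (h : Dih8Data t r s) : r ≠ r⁻¹ := by
  intro hr
  apply d8_t_ne_one h
  rw [← h.r_sq, pow_two]
  nth_rewrite 2 [hr]
  exact mul_inv_cancel r

theorem d8_s_not_mem (h : Dih8Data t r s) : s ∉ Subgroup.zpowers r := by
  intro hs
  apply d8_r_ne_inv h
  have hcomm : s * r = r * s := by
    obtain ⟨i, rfl⟩ := Subgroup.mem_zpowers_iff.mp hs
    exact ((Commute.refl r).zpow_left i).eq
  have := h.conj
  rw [hcomm, mul_assoc, mul_inv_cancel, mul_one] at this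
  exact this

theorem d8_comm_of_mem (h : Dih8Data t r s) {y : G} (hy : y ∈ Subgroup.zpowers r) :
    y * t = t * y := by
  obtain ⟨i, rfl⟩ := Subgroup.mem_zpowers_iff.mp hy
  rw [← h.r_sq]
  exact (((Commute.refl r).pow_right 2).zpow_left i).eq

theorem d8_s_comm_t (h : Dih8Data t r s) : s * t = t * s := by
  have h1 := d8_conj_mem h (d8_t_mem h)
  rw [d8_t_inv h] at h1
  calc s * t = (s * t * s⁻¹) * s := by group
    _ = t * s := by rw [h1]

/-- elements of the coset `s⟨r⟩` commute with `t` -/
theorem d8_comm_of_coset (h : Dih8Data t r s) {x : G} (hx : s * x ∈ Subgroup.zpowers r) :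
    x * t = t * x := by
  have h1 := d8_comm_of_mem h hx
  have h2 := d8_s_comm_t h
  have hx' : x = s⁻¹ * (s * x) := by group
  rw [hx', d8_s_inv h]
  calc s * (s * x) * t = s * ((s * x) * t) := by group
    _ = s * (t * (s * x)) := by rw [h1]
    _ = (s * t) * (s * x) := by group
    _ = (t * s) * (s * x) := by rw [h2]
    _ = t * (s * (s * x)) := by group

theorem d8_mem_D_iff (h : Dih8Data t r s) (x : G) :
    x ∈ Subgroup.centralizer ({t} : Set G) ↔
      (x ∈ Subgroup.zpowers r ∨ s * x ∈ Subgroup.zpowers r) := by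
  rw [Subgroup.mem_centralizer_iff]
  constructor
  · intro hx
    apply h.cover
    exact (hx t (Set.mem_singleton t)).symm
  · intro hx y hy
    rw [Set.mem_singleton_iff] at hy
    subst hy
    rcases hx with hx | hx
    · exact (d8_comm_of_mem h hx).symm
    · exact (d8_comm_of_coset h hx).symm

/-- an element of `⟨r⟩` of order two is `t` -/
theorem d8_invol_in_C (h : Dih8Data t r s) {x : G} (hx : x ∈ Subgroup.zpowers r)
    (h2 : orderOf x = 2) : x = t := by
  classical
  have hfin : IsOfFinOrder r := by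
    rw [← orderOf_pos_iff, h.order_r]; norm_num
  rw [hfin.mem_zpowers_iff_mem_range_orderOf] at hx
  obtain ⟨k, hk, rfl⟩ := Finset.mem_image.mp hx
  rw [Finset.mem_range, h.order_r] at hk
  have h1 : (r ^ k) ^ 2 = 1 := by
    rw [← h2]; exact pow_orderOf_eq_one _
  rw [← pow_mul] at h1
  have h3 := orderOf_dvd_of_pow_eq_one h1
  rw [h.order_r] at h3
  interval_cases k
  · rw [pow_zero, orderOf_one] at h2; omega
  · omega
  · exact h.r_sq
  · omega

/-- elements of the coset are involutions -/
theorem d8_coset_sq (h : Dih8Data t r s) {x : G} (hx : s * x ∈ Subgroup.zpowers r) :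
    x * x = 1 := by
  obtain ⟨y, hy⟩ : ∃ y, y = s * x := ⟨_, rfl⟩
  rw [← hy] at hx
  have hx' : x = s * y := by rw [hy, ← mul_assoc, h.s_sq, one_mul]
  have h1 := d8_conj_mem h hx
  rw [d8_s_inv h] at h1
  rw [hx']
  calc s * y * (s * y) = (s * y * s) * y := by group
    _ = y⁻¹ * y := by rw [h1]
    _ = 1 := inv_mul_cancel y

theorem d8_coset_not_mem (h : Dih8Data t r s) {x : G} (hx : s * x ∈ Subgroup.zpowers r) :
    x ∉ Subgroup.zpowers r := by
  intro hx2
  apply d8_s_not_mem h
  have : s = (s * x) * x⁻¹ := by group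
  rw [this]
  exact Subgroup.mul_mem _ hx (Subgroup.inv_mem _ hx2)

theorem d8_coset_conj_r (h : Dih8Data t r s) {x : G} (hx : s * x ∈ Subgroup.zpowers r) :
    x * r * x⁻¹ = r⁻¹ := by
  obtain ⟨y, hy⟩ : ∃ y, y = s * x := ⟨_, rfl⟩
  rw [← hy] at hx
  have hx' : x = s * y := by rw [hy, ← mul_assoc, h.s_sq, one_mul]
  have hyc : Commute y r := by
    obtain ⟨i, hi⟩ := Subgroup.mem_zpowers_iff.mp hx
    rw [← hi]
    exact (Commute.refl r).zpow_left i
  rw [hx', mul_inv_rev]
  have : s * y * r * (y⁻¹ * s⁻¹) = s * (y * r * y⁻¹) * s⁻¹ := by group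
  rw [this, hyc.eq, mul_assoc r, mul_inv_cancel, mul_one, h.conj]

/-- central elements of `D` are `1` or `t` -/
theorem d8_center (h : Dih8Data t r s) {y : G} (hy : y * t = t * y) (hr : y * r = r * y)
    (hs : y * s = s * y) : y = 1 ∨ y = t := by
  rcases h.cover y hy with h1 | h1
  · have h2 := d8_conj_mem h h1
    have h3 : s * y * s⁻¹ = y := by rw [← hs, mul_assoc, mul_inv_cancel, mul_one]
    rw [h3] at h2
    have h4 : y ^ 2 = 1 := by
      rw [pow_two]
      nth_rewrite 2 [h2]
      exact mul_inv_cancel y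
    by_cases hy1 : y = 1
    · left; exact hy1
    · right
      exact d8_invol_in_C h h1 (orderOf_eq_prime h4 hy1)
  · exfalso
    apply d8_r_ne_inv h
    have h2 := d8_coset_conj_r h h1
    rw [hr, mul_assoc, mul_inv_cancel, mul_one] at h2
    exact h2

end Dih8

theorem d8_zmod4_aux1 : ∀ i : ZMod 4, 0 + i = 0 - i → i = 0 ∨ i = 2 := by decide

theorem d8_zmod4_aux2 : ∀ i : ZMod 4, i - 1 = i + 1 → False := by decide

/-- extraction of the data from an isomorphism with `DihedralGroup 4` -/
theorem dih8Data_of_equiv {G : Type u} [Group G] (t : G) (ht : orderOf t = 2)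
    (e : Subgroup.centralizer ({t} : Set G) ≃* DihedralGroup 4) :
    ∃ r s : G, Dih8Data t r s := by
  have htD : t ∈ Subgroup.centralizer ({t} : Set G) := by
    rw [Subgroup.mem_centralizer_iff]
    intro y hy
    rw [Set.mem_singleton_iff] at hy
    rw [hy]
  let tD : Subgroup.centralizer ({t} : Set G) := ⟨t, htD⟩
  have htc : ∀ x : Subgroup.centralizer ({t} : Set G), x * tD = tD * x := by
    intro x
    ext
    have := (Subgroup.mem_centralizer_iff.mp x.2) t (Set.mem_singleton t)
    simpa [tD] using this.symm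
  have htD1 : tD ≠ 1 := by
    intro h1
    have : t = 1 := congrArg Subtype.val h1
    rw [this, orderOf_one] at ht
    omega
  have hetc : ∀ q : DihedralGroup 4, q * e tD = e tD * q := by
    intro q
    have := htc (e.symm q)
    have h2 := congrArg e this
    simpa using h2
  have het : e tD = DihedralGroup.r 2 := by
    rcases hq : e tD with i | i
    · have h1 := hetc (DihedralGroup.sr 0)
      rw [hq] at h1
      have h2 : i = 0 ∨ i = 2 := by
        have h3 : (DihedralGroup.sr 0 * DihedralGroup.r i : DihedralGroup 4) =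
            DihedralGroup.r i * DihedralGroup.sr 0 := h1
        simp only [DihedralGroup.sr_mul_r, DihedralGroup.r_mul_sr, DihedralGroup.sr.injEq] at h3
        exact d8_zmod4_aux1 i h3
      rcases h2 with rfl | rfl
      · exfalso
        apply htD1
        have : e tD = 1 := by rw [hq]; rfl
        exact e.map_eq_one_iff.mp this
      · rfl
    · exfalso
      have h1 := hetc (DihedralGroup.r 1)
      rw [hq] at h1
      have h3 : (DihedralGroup.r 1 * DihedralGroup.sr i : DihedralGroup 4) =
          DihedralGroup.sr i * DihedralGroup.r 1 := h1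
      simp only [DihedralGroup.sr_mul_r, DihedralGroup.r_mul_sr, DihedralGroup.sr.injEq] at h3
      exact d8_zmod4_aux2 i h3
  let rD : Subgroup.centralizer ({t} : Set G) := e.symm (DihedralGroup.r 1)
  let sD : Subgroup.centralizer ({t} : Set G) := e.symm (DihedralGroup.sr 0)
  have hor : orderOf rD = 4 := by
    rw [MulEquiv.orderOf_eq, DihedralGroup.orderOf_r_one]
  have hrsq : rD ^ 2 = tD := by
    show (e.symm (DihedralGroup.r 1)) ^ 2 = tD
    rw [← map_pow, DihedralGroup.r_one_pow, ← e.symm_apply_apply tD, het]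
    rfl
  have hss : sD * sD = 1 := by
    show e.symm (DihedralGroup.sr 0) * e.symm (DihedralGroup.sr 0) = 1
    rw [← map_mul, DihedralGroup.sr_mul_self, map_one]
  have hconj : sD * rD * sD⁻¹ = rD⁻¹ := by
    rw [mul_inv_eq_iff_eq_mul, eq_inv_mul_iff_mul_eq]
    show e.symm (DihedralGroup.r 1) * (e.symm (DihedralGroup.sr 0) * e.symm (DihedralGroup.r 1)) =
      e.symm (DihedralGroup.sr 0)
    rw [← map_mul, ← map_mul]
    congr 1
  have hpow : ∀ k : ℕ, rD ^ k = e.symm (DihedralGroup.r (k : ZMod 4)) := by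
    intro k
    show (e.symm (DihedralGroup.r 1)) ^ k = _
    rw [← map_pow, DihedralGroup.r_one_pow]
  refine ⟨(rD : G), (sD : G), by rw [Subgroup.orderOf_coe, hor], ?_, ?_, ?_, ?_, ?_⟩
  · have := congrArg Subtype.val hrsq
    simpa using this
  · have := congrArg Subtype.val hss
    simpa using this
  · have := congrArg Subtype.val hconj
    simpa using this
  · intro x hx
    have hxD : x ∈ Subgroup.centralizer ({t} : Set G) := by
      rw [Subgroup.mem_centralizer_iff]
      intro y hy
      rw [Set.mem_singleton_iff] at hy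
      rw [hy]
      exact hx.symm
    rcases hq : e ⟨x, hxD⟩ with i | i
    · left
      have h1 : (⟨x, hxD⟩ : Subgroup.centralizer ({t} : Set G)) = rD ^ (i.val) := by
        rw [hpow, ZMod.natCast_zmod_val, ← hq, MulEquiv.symm_apply_apply]
      have h2 : x = (rD : G) ^ (i.val) := by
        have := congrArg Subtype.val h1
        simpa using this
      rw [h2]
      exact Subgroup.pow_mem _ (Subgroup.mem_zpowers _) _
    · right
      have h0 : (DihedralGroup.sr 0 * DihedralGroup.sr i : DihedralGroup 4) = DihedralGroup.r i := by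
        simp
      have h1 : sD * (⟨x, hxD⟩ : Subgroup.centralizer ({t} : Set G)) = rD ^ (i.val) := by
        rw [hpow, ZMod.natCast_zmod_val, ← h0, map_mul, ← hq, MulEquiv.symm_apply_apply]
      have h2 : (sD : G) * x = (rD : G) ^ (i.val) := by
        have := congrArg Subtype.val h1
        simpa using this
      rw [h2]
      exact Subgroup.pow_mem _ (Subgroup.mem_zpowers _) _
  · rw [Nat.card_congr e.toEquiv, Nat.card_eq_fintype_card, DihedralGroup.card]

end Cfsg.Agent.helper12
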