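import Mathlib
import Cfsg.Agent.Lib_helper12_D8a
import Cfsg.Agent.Lib_helper12_BS3
import Cfsg.Agent.Lib_helper12_BS5
import Cfsg.Agent.Lib_helper12_BS6
import Cfsg.Agent.H16Thompson

set_option autoImplicit false

/-!
Involution centralizer dihedral of order 8 (helper12): the centralizer is a Sylow 2-subgroup,
Thompson transfer, and the exceptional characters.
-/

namespace Cfsg.Agent.helper12

open Cfsg

universe u

section Dih8b

variable {G : Type u} [Group G] [Finite G] {t r s : G}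

omit [Finite G] in
theorem d8_t_mem_D : t ∈ Subgroup.centralizer ({t} : Set G) := by
  rw [Subgroup.mem_centralizer_iff]
  intro y hy
  rw [Set.mem_singleton_iff] at hy
  rw [hy]

omit [Finite G] in
theorem d8_C_le_D (h : Dih8Data t r s) :
    Subgroup.zpowers r ≤ Subgroup.centralizer ({t} : Set G) := by
  intro x hx
  exact (d8_mem_D_iff h x).mpr (Or.inl hx)

omit [Finite G] in
theorem d8_s_mem_D (h : Dih8Data t r s) : s ∈ Subgroup.centralizer ({t} : Set G) := by
  rw [d8_mem_D_iff h]
  right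
  rw [h.s_sq]
  exact Subgroup.one_mem _

/-- the centralizer of `t` is a Sylow 2-subgroup -/
theorem d8_exists_sylow (h : Dih8Data t r s) :
    ∃ S : Sylow 2 G, (S : Subgroup G) = Subgroup.centralizer ({t} : Set G) := by
  have hpg : IsPGroup 2 (Subgroup.centralizer ({t} : Set G)) :=
    IsPGroup.of_card (n := 3) (by rw [h.card_D]; norm_num)
  refine ⟨⟨Subgroup.centralizer {t}, hpg, ?_⟩, rfl⟩
  intro Q hQ hDQ
  haveI : Nontrivial Q :=
    ⟨⟨⟨t, hDQ d8_t_mem_D⟩, 1, fun h1 => d8_t_ne_one h (congrArg Subtype.val h1)⟩⟩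
  haveI : Fact (Nat.Prime 2) := ⟨Nat.prime_two⟩
  haveI := hQ.center_nontrivial
  obtain ⟨y, hy1⟩ := exists_ne (1 : Subgroup.center Q)
  have hyc : ∀ q ∈ Q, ((y : Q) : G) * q = q * ((y : Q) : G) := by
    intro q hq
    have h2 := (Subgroup.mem_center_iff.mp y.2) ⟨q, hq⟩
    have h3 := congrArg Subtype.val h2
    simpa using h3.symm
  have hy : ((y : Q) : G) = 1 ∨ ((y : Q) : G) = t :=
    d8_center h (hyc t (hDQ d8_t_mem_D)) (hyc r (hDQ (d8_C_le_D h (Subgroup.mem_zpowers r))))
      (hyc s (hDQ (d8_s_mem_D h)))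
  rcases hy with hy | hy
  · exfalso
    apply hy1
    ext
    exact hy
  · apply le_antisymm _ hDQ
    intro q hq
    rw [Subgroup.mem_centralizer_iff]
    intro z hz
    rw [Set.mem_singleton_iff] at hz
    rw [hz, ← hy]
    exact hyc q hq

theorem d8_no_index_two (hperf : commutator G = ⊤) : ∀ K : Subgroup G, K.index ≠ 2 := by
  intro K hK
  haveI : K.Normal := Subgroup.normal_of_index_eq_two hK
  have hcard : Nat.card (G ⧸ K) = 2 := by rw [← Subgroup.index_eq_card]; exact hK
  haveI : Fact (Nat.Prime 2) := ⟨Nat.prime_two⟩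
  haveI : IsCyclic (G ⧸ K) := isCyclic_of_prime_card hcard
  letI : CommGroup (G ⧸ K) := IsCyclic.commGroup
  have h1 : commutator G ≤ (QuotientGroup.mk' K).ker := Abelianization.commutator_subset_ker _
  rw [QuotientGroup.ker_mk', hperf] at h1
  have h2 : K = ⊤ := top_le_iff.mp h1
  rw [h2, Subgroup.index_top] at hK
  omega

theorem d8_coset_order (h : Dih8Data t r s) {x : G} (hx : s * x ∈ Subgroup.zpowers r) :
    orderOf x = 2 := by
  have h1 := d8_coset_sq h hx
  have h2 : x ≠ 1 := by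
    intro hx1
    apply d8_coset_not_mem h hx
    rw [hx1]
    exact Subgroup.one_mem _
  exact orderOf_eq_prime (by rw [pow_two]; exact h1) h2

/-- reflections are conjugate to `t` -/
theorem d8_reflection_conj (h : Dih8Data t r s) (hperf : commutator G = ⊤) {x : G}
    (hx : s * x ∈ Subgroup.zpowers r) : ∃ g : G, g⁻¹ * x * g = t := by
  obtain ⟨S, hS⟩ := d8_exists_sylow h
  have hM : (Subgroup.zpowers r).relIndex (S : Subgroup G) = 2 := by
    rw [hS, Subgroup.relIndex]
    have h1 := Subgroup.card_mul_index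
      ((Subgroup.zpowers r).subgroupOf (Subgroup.centralizer ({t} : Set G)))
    rw [h.card_D, Nat.card_congr (Subgroup.subgroupOfEquivOfLe (d8_C_le_D h)).toEquiv,
      Nat.card_zpowers, h.order_r] at h1
    omega
  have hxx := d8_coset_sq h hx
  have hox := d8_coset_order h hx
  have hR : IsPGroup 2 (Subgroup.zpowers x) :=
    IsPGroup.of_card (n := 1) (by rw [Nat.card_zpowers, hox, pow_one])
  obtain ⟨g, -, hg⟩ := Cfsg.Agent.H16Thompson.thompson_extremal (d8_no_index_two hperf) S
    (Subgroup.zpowers r) hM x hxx (Subgroup.zpowers x) hR (Subgroup.mem_zpowers x)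
    (fun y hy => by
      obtain ⟨i, rfl⟩ := Subgroup.mem_zpowers_iff.mp hy
      exact ((Commute.refl x).zpow_left i).eq)
  refine ⟨g, d8_invol_in_C h hg ?_⟩
  have := bs_orderOf_conj g⁻¹ x
  rw [inv_inv] at this
  rw [this, hox]

omit [Finite G] in
theorem d8_t_mem_zpowers (h : Dih8Data t r s) {y : G} (hy : y ∈ Subgroup.zpowers r)
    (hy1 : y ≠ 1) : t ∈ Subgroup.zpowers y := by
  classical
  have hfin : IsOfFinOrder r := by
    rw [← orderOf_pos_iff, h.order_r]; norm_num
  rw [hfin.mem_zpowers_iff_mem_range_orderOf] at hy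
  obtain ⟨k, hk, rfl⟩ := Finset.mem_image.mp hy
  rw [Finset.mem_range, h.order_r] at hk
  have h4 := d8_r_pow_four h
  interval_cases k
  · exact absurd (pow_zero r) hy1
  · rw [pow_one, ← h.r_sq]
    exact Subgroup.pow_mem _ (Subgroup.mem_zpowers r) 2
  · rw [h.r_sq]
    exact Subgroup.mem_zpowers t
  · have : t = (r ^ 3) ^ 2 := by
      rw [← pow_mul, ← h.r_sq]
      have : r ^ (3 * 2) = r ^ 4 * r ^ 2 := by rw [← pow_add]
      rw [this, h4, one_mul]
    rw [this]
    exact Subgroup.pow_mem _ (Subgroup.mem_zpowers _) 2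

/-- `r` as an element of `⟨r⟩` -/
def d8R (r : G) : Subgroup.zpowers r := ⟨r, Subgroup.mem_zpowers r⟩

omit [Finite G] in
theorem d8_gen (r : G) : ∀ x : Subgroup.zpowers r, x ∈ Subgroup.zpowers (d8R r) := by
  intro x
  obtain ⟨k, hk⟩ := Subgroup.mem_zpowers_iff.mp x.2
  rw [Subgroup.mem_zpowers_iff]
  refine ⟨k, ?_⟩
  ext
  simpa [d8R] using hk

omit [Finite G] in
theorem d8_order_R (h : Dih8Data t r s) : orderOf (d8R r) = 4 := by
  rw [← h.order_r, ← Subgroup.orderOf_coe]
  rfl

/-- the faithful linear character of `⟨r⟩` -/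
noncomputable def d8Mu (h : Dih8Data t r s) : Subgroup.zpowers r →* ℂˣ :=
  monoidHomOfForallMemZpowers (d8_gen r)
    (show orderOf bsI ∣ orderOf (d8R r) by rw [bsI_order, d8_order_R h])

omit [Finite G] in
theorem d8Mu_gen (h : Dih8Data t r s) : d8Mu h (d8R r) = bsI :=
  monoidHomOfForallMemZpowers_apply_gen (d8_gen r) _

theorem d8_bsHyp (h : Dih8Data t r s) : BsHyp (Subgroup.zpowers r) (d8Mu h) s := by
  refine ⟨d8_s_not_mem h, ?_, ?_, ⟨d8R r, by rw [d8Mu_gen]; exact bsI_sq_ne⟩, ?_⟩
  · intro l hl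
    rw [d8_conj_mem h hl]
    exact Subgroup.inv_mem _ hl
  · intro l hmem
    have : (⟨s * (l : G) * s⁻¹, hmem⟩ : Subgroup.zpowers r) = l⁻¹ := by
      ext
      rw [Subgroup.coe_inv]
      exact d8_conj_mem h l.2
    rw [this, map_inv]
  · intro l x hx hl hl'
    have hl1 : (l : G) ≠ 1 := by
      intro h1
      apply hl
      have : l = 1 := Subtype.ext h1
      rw [this, map_one]
    have ht1 := d8_t_mem_zpowers h l.2 hl1
    -- x⁻¹ t x ∈ zpowers (x⁻¹ l x) ≤ zpowers r
    have ht2 : x⁻¹ * t * x ∈ Subgroup.zpowers r := by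
      obtain ⟨e, he⟩ := Subgroup.mem_zpowers_iff.mp ht1
      rw [← he]
      have h5 : x⁻¹ * (l : G) ^ e * x = (x⁻¹ * (l : G) * x) ^ e := by
        have := conj_zpow (a := x⁻¹) (b := (l : G)) (i := e)
        rw [inv_inv] at this
        exact this.symm
      rw [h5]
      exact Subgroup.zpow_mem _ hx e
    have ho : orderOf (x⁻¹ * t * x) = 2 := by
      have := bs_orderOf_conj x⁻¹ t
      rw [inv_inv] at this
      rw [this, d8_order_t h]
    have h6 := d8_invol_in_C h ht2 ho
    have hxt : x * t = t * x := by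
      calc x * t = x * (x⁻¹ * t * x) := by rw [h6]
        _ = t * x := by group
    exact h.cover x hxt

end Dih8b

end Cfsg.Agent.helper12
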