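import Mathlib
import Cfsg.Agent.Lib_helper12_D8b
import Cfsg.Agent.Lib_helper12_BS9

set_option autoImplicit false

/-!
Involution centralizer dihedral of order 8 (helper12): counting products of two involutions and
the resulting group order formula.
-/

namespace Cfsg.Agent.helper12

open Cfsg
open scoped ComplexConjugate

universe u

section Count

variable {G : Type u} [Group G] [Fintype G] [DecidableEq G]

/-- the number of ways of writing `g` as a product of two conjugates of `t` -/
noncomputable def d8N (t : G) (g : G) : ℂ :=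
  ((((helper23.conjFinset t) ×ˢ (helper23.conjFinset t)).filter
    (fun p : G × G => p.1 * p.2 = g)).card : ℂ)

theorem d8N_isClassFunction (t : G) : IsClassFunction G (d8N t) := by
  intro g h
  unfold d8N
  congr 1
  symm
  apply Finset.card_bij (fun p _ => (h * p.1 * h⁻¹, h * p.2 * h⁻¹))
  · intro p hp
    simp only [Finset.mem_filter, Finset.mem_product] at hp ⊢
    refine ⟨⟨(helper23.conj_mem_conjFinset h).mp hp.1.1, (helper23.conj_mem_conjFinset h).mp hp.1.2⟩,
      ?_⟩
    rw [← hp.2]
    group
  · intro p _ q _ hpq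
    simp only [Prod.mk.injEq] at hpq
    have h1 := mul_left_cancel (mul_right_cancel hpq.1)
    have h2 := mul_left_cancel (mul_right_cancel hpq.2)
    exact Prod.ext h1 h2
  · intro q hq
    simp only [Finset.mem_filter, Finset.mem_product] at hq
    refine ⟨(h⁻¹ * q.1 * h, h⁻¹ * q.2 * h), ?_, ?_⟩
    · simp only [Finset.mem_filter, Finset.mem_product]
      refine ⟨⟨?_, ?_⟩, ?_⟩
      · rw [helper23.conj_mem_conjFinset h]
        have : h * (h⁻¹ * q.1 * h) * h⁻¹ = q.1 := by group
        rw [this]; exact hq.1.1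
      · rw [helper23.conj_mem_conjFinset h]
        have : h * (h⁻¹ * q.2 * h) * h⁻¹ = q.2 := by group
        rw [this]; exact hq.1.2
      · have : h⁻¹ * q.1 * h * (h⁻¹ * q.2 * h) = h⁻¹ * (q.1 * q.2) * h := by group
        rw [this, hq.2]
        group
    · apply Prod.ext
      · show h * (h⁻¹ * q.1 * h) * h⁻¹ = q.1
        group
      · show h * (h⁻¹ * q.2 * h) * h⁻¹ = q.2
        group

theorem d8_sum_mul_N (t : G) (θ : G → ℂ) :
    ∑ g : G, θ g * d8N t g =
      ∑ x ∈ helper23.conjFinset t, ∑ y ∈ helper23.conjFinset t, θ (x * y) := by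
  unfold d8N
  simp_rw [Finset.card_filter, Nat.cast_sum, Finset.mul_sum]
  rw [Finset.sum_comm]
  rw [← Finset.sum_product' (helper23.conjFinset t) (helper23.conjFinset t)
    (fun x y => θ (x * y))]
  apply Finset.sum_congr rfl
  intro p _
  have : ∀ g : G, θ g * ((if p.1 * p.2 = g then 1 else 0 : ℕ) : ℂ) =
      if p.1 * p.2 = g then θ g else 0 := by
    intro g
    split_ifs <;> simp
  simp_rw [this]
  rw [Finset.sum_ite_eq]
  simp

end Count

end Cfsg.Agent.helper12

namespace Cfsg.Agent.helper12

open Cfsg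
open scoped ComplexConjugate

universe u

section Count2

variable {G : Type u} [Group G] [Fintype G] [DecidableEq G] {t r s : G}

theorem d8_mem_K_of_coset (h : Dih8Data t r s) (hperf : commutator G = ⊤) {x : G}
    (hx : s * x ∈ Subgroup.zpowers r) : x ∈ helper23.conjFinset t := by
  obtain ⟨g, hg⟩ := d8_reflection_conj h hperf hx
  rw [helper23.mem_conjFinset, isConj_iff]
  exact ⟨g, by rw [← hg]; group⟩

theorem d8_order_of_mem_K (h : Dih8Data t r s) {x : G} (hx : x ∈ helper23.conjFinset t) :
    orderOf x = 2 := by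
  obtain ⟨g, hg⟩ := isConj_iff.mp (helper23.mem_conjFinset.mp hx)
  rw [← hg, bs_orderOf_conj, d8_order_t h]

/-- the reflections as a finset -/
def d8Refl (r s : G) : Finset G := (Finset.range 4).image (fun i => s * r ^ i)

omit [Fintype G] in
theorem d8Refl_card (h : Dih8Data t r s) : (d8Refl r s).card = 4 := by
  unfold d8Refl
  rw [Finset.card_image_of_injOn, Finset.card_range]
  intro i hi j hj hij
  have h1 : r ^ i = r ^ j := mul_left_cancel hij
  apply pow_injOn_Iio_orderOf (x := r)
  · rw [h.order_r]; simpa using hi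
  · rw [h.order_r]; simpa using hj
  · exact h1

omit [Fintype G] in
theorem d8_mem_Refl (h : Dih8Data t r s) {x : G} :
    x ∈ d8Refl r s ↔ s * x ∈ Subgroup.zpowers r := by
  unfold d8Refl
  rw [Finset.mem_image]
  constructor
  · rintro ⟨i, -, rfl⟩
    rw [← mul_assoc, h.s_sq, one_mul]
    exact Subgroup.pow_mem _ (Subgroup.mem_zpowers r) i
  · intro hx
    have hfin : IsOfFinOrder r := by
      rw [← orderOf_pos_iff, h.order_r]; norm_num
    rw [hfin.mem_zpowers_iff_mem_range_orderOf, h.order_r] at hx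
    obtain ⟨k, hk, hkx⟩ := Finset.mem_image.mp hx
    refine ⟨k, hk, ?_⟩
    have hkx' : r ^ k = s * x := hkx
    rw [hkx', ← mul_assoc, h.s_sq, one_mul]

theorem d8N_eq_four (h : Dih8Data t r s) (hperf : commutator G = ⊤) {g : G}
    (hg : g ∈ Subgroup.zpowers r) (hg1 : g ≠ 1) : d8N t g = 4 := by
  unfold d8N
  have hset : (((helper23.conjFinset t) ×ˢ (helper23.conjFinset t)).filter
      (fun p : G × G => p.1 * p.2 = g)) = (d8Refl r s).image (fun x => (x, x⁻¹ * g)) := by
    ext p
    simp only [Finset.mem_filter, Finset.mem_product, Finset.mem_image]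
    constructor
    · rintro ⟨⟨hp1, hp2⟩, hp3⟩
      have ho1 := d8_order_of_mem_K h hp1
      have ho2 := d8_order_of_mem_K h hp2
      have hx2 : p.1 * p.1 = 1 := by
        have := pow_orderOf_eq_one p.1
        rwa [ho1, pow_two] at this
      have hy2 : p.2 * p.2 = 1 := by
        have := pow_orderOf_eq_one p.2
        rwa [ho2, pow_two] at this
      have hxinv : p.1⁻¹ = p.1 := inv_eq_of_mul_eq_one_right hx2
      have hyinv : p.2⁻¹ = p.2 := inv_eq_of_mul_eq_one_right hy2
      refine ⟨p.1, ?_, ?_⟩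
      · rw [d8_mem_Refl h]
        have hconj : p.1 * g * p.1⁻¹ = g⁻¹ := by
          rw [← hp3, mul_inv_rev, hxinv, hyinv]
          calc p.1 * (p.1 * p.2) * p.1 = (p.1 * p.1) * p.2 * p.1 := by group
            _ = p.2 * p.1 := by rw [hx2, one_mul]
        obtain ⟨e, he⟩ := Subgroup.mem_zpowers_iff.mp (d8_t_mem_zpowers h hg hg1)
        have hct : p.1 * t * p.1⁻¹ = t := by
          rw [← he, ← conj_zpow, hconj, inv_zpow, he, d8_t_inv h]
        have hcomm : p.1 * t = t * p.1 := by
          calc p.1 * t = (p.1 * t * p.1⁻¹) * p.1 := by group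
            _ = t * p.1 := by rw [hct]
        rcases h.cover p.1 hcomm with hc | hc
        · exfalso
          have hx_t := d8_invol_in_C h hc ho1
          have hp2C : p.2 ∈ Subgroup.zpowers r := by
            have : p.2 = p.1⁻¹ * g := by rw [← hp3]; group
            rw [this]
            exact Subgroup.mul_mem _ (Subgroup.inv_mem _ hc) hg
          have hy_t := d8_invol_in_C h hp2C ho2
          apply hg1
          rw [← hp3, hx_t, hy_t, ← pow_two, d8_t_sq h]
        · exact hc
      · apply Prod.ext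
        · rfl
        · show p.1⁻¹ * g = p.2
          rw [← hp3]
          group
    · rintro ⟨x, hx, rfl⟩
      rw [d8_mem_Refl h] at hx
      have hxx := d8_coset_sq h hx
      have hxinv : x⁻¹ = x := inv_eq_of_mul_eq_one_right hxx
      refine ⟨⟨d8_mem_K_of_coset h hperf hx, d8_mem_K_of_coset h hperf ?_⟩, by group⟩
      show s * (x⁻¹ * g) ∈ Subgroup.zpowers r
      rw [hxinv, ← mul_assoc]
      exact Subgroup.mul_mem _ hx hg
  rw [hset, Finset.card_image_of_injective _ (fun a b hab => (Prod.ext_iff.mp hab).1),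
    d8Refl_card h]
  norm_num

theorem d8Mu_ne_one (h : Dih8Data t r s) : d8Mu h ≠ 1 := by
  intro h1
  have h2 := d8Mu_gen h
  rw [h1, MonoidHom.one_apply] at h2
  have h3 := bsI_sq_ne
  rw [← h2] at h3
  exact h3 (one_pow 2)

theorem d8_inner (h : Dih8Data t r s) (hperf : commutator G = ⊤) :
    classInner (bsTheta (Subgroup.zpowers r) (d8Mu h)) (d8N t) = 4 := by
  haveI : Fintype (Subgroup.zpowers r) := Fintype.ofFinite _
  unfold bsTheta
  rw [classInner_indFun_eq_restrict _ _ _ (d8N_isClassFunction t)]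
  unfold classInner
  have hterm : ∀ l : Subgroup.zpowers r,
      bsF _ (d8Mu h) l * conj (d8N t (l : G)) = 4 * (1 - ((d8Mu h l : ℂˣ) : ℂ)) := by
    intro l
    by_cases hl : l = 1
    · rw [hl]
      unfold bsF
      simp
    · have h4 : d8N t (l : G) = 4 := d8N_eq_four h hperf l.2 (fun h1 => hl (Subtype.ext h1))
      rw [h4]
      unfold bsF
      simp only [map_ofNat]
      ring
  simp_rw [hterm]
  rw [← Finset.mul_sum, Finset.sum_sub_distrib, bs_sum_hom_eq_zero (d8Mu h) (d8Mu_ne_one h),
    Finset.sum_const, Finset.card_univ, ← Nat.card_eq_fintype_card, Nat.card_zpowers, h.order_r]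
  norm_num

theorem d8_equation (h : Dih8Data t r s) (hperf : commutator G = ⊤) {χ₁ χ₂ : G → ℂ}
    (h1 : IsIrrCharacter G χ₁) (h2 : IsIrrCharacter G χ₂)
    (hθ : ∀ g : G, bsTheta (Subgroup.zpowers r) (d8Mu h) g = 1 - χ₁ g + χ₂ g) :
    (Nat.card G : ℂ) * (1 - (χ₁ t) ^ 2 / χ₁ 1 + (χ₂ t) ^ 2 / χ₂ 1) = 256 := by
  have hin := d8_inner h hperf
  unfold classInner at hin
  have hconj : ∀ g : G, conj (d8N t g) = d8N t g := by
    intro g
    unfold d8N
    exact Complex.conj_natCast _
  simp_rw [hconj] at hin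
  rw [d8_sum_mul_N] at hin
  simp_rw [hθ] at hin
  simp_rw [Finset.sum_add_distrib, Finset.sum_sub_distrib] at hin
  rw [bs_class_sum_sq h1, bs_class_sum_sq h2] at hin
  simp only [Finset.sum_const, nsmul_eq_mul, mul_one] at hin
  have hk : (helper23.conjFinset t).card * 8 = Nat.card G := by
    rw [helper23.card_conjFinset, ← h.card_D, mul_comm]
    exact Subgroup.card_mul_index _
  have hG0 : (Nat.card G : ℂ) ≠ 0 := by
    have : 0 < Nat.card G := Nat.card_pos
    exact_mod_cast this.ne'
  have hkC : ((helper23.conjFinset t).card : ℂ) * 8 = (Nat.card G : ℂ) := by exact_mod_cast hk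
  have hk0 : ((helper23.conjFinset t).card : ℂ) ≠ 0 := by
    intro h0
    rw [h0, zero_mul] at hkC
    exact hG0 hkC.symm
  rw [← hkC] at hin ⊢
  field_simp at hin
  have hd1 : χ₁ 1 ≠ 0 := by
    rw [← helper24.char_charDegree_cast (helper24.irr_isCharacter h1)]
    exact_mod_cast (helper24.irr_charDegree_pos h1).ne'
  have hd2 : χ₂ 1 ≠ 0 := by
    rw [← helper24.char_charDegree_cast (helper24.irr_isCharacter h2)]
    exact_mod_cast (helper24.irr_charDegree_pos h2).ne'
  linear_combination 8 * hin

end Count2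

end Cfsg.Agent.helper12
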