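import Mathlib
import Cfsg.Agent.Lib_helper12_D8c
import Cfsg.Agent.Lib_helper24_CharCount

set_option autoImplicit false

/-!
Involution centralizer dihedral of order 8 (helper12): a perfect group has order 168 or 360.
-/

namespace Cfsg.Agent.helper12

open Cfsg
open scoped ComplexConjugate

universe u

theorem bs_char_involution_int {G : Type u} [Group G] [Finite G] {χ : G → ℂ}
    (hχ : IsCharacter G χ) {t : G} (ht : t ^ 2 = 1) : ∃ k : ℤ, χ t = k := by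
  obtain ⟨n, ρ, rfl⟩ := hχ
  obtain ⟨ms, -, hms, hsum⟩ := helper24.rep_char_eq_sum_roots ρ t
  rw [hsum]
  have h2 : ∀ μ ∈ ms, μ = 1 ∨ μ = -1 := by
    intro μ hμ
    have h3 : μ ^ 2 = 1 := by
      obtain ⟨d, hd⟩ := orderOf_dvd_of_pow_eq_one ht
      rw [hd, pow_mul, hms μ hμ, one_pow]
    have h4 : (μ - 1) * (μ + 1) = 0 := by
      have : (μ - 1) * (μ + 1) = μ ^ 2 - 1 := by ring
      rw [this, h3, sub_self]
    rcases mul_eq_zero.mp h4 with h | h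
    · left; exact sub_eq_zero.mp h
    · right; exact eq_neg_of_add_eq_zero_left h
  clear hms hsum
  induction ms using Multiset.induction_on with
  | empty => exact ⟨0, by simp⟩
  | cons a m ih =>
    obtain ⟨k, hk⟩ := ih (fun μ hμ => h2 μ (Multiset.mem_cons_of_mem hμ))
    rcases h2 a (Multiset.mem_cons_self a m) with ha | ha
    · exact ⟨k + 1, by rw [Multiset.sum_cons, hk, ha]; push_cast; ring⟩
    · exact ⟨k - 1, by rw [Multiset.sum_cons, hk, ha]; push_cast; ring⟩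

theorem d8_arith (N f : ℕ) (b : ℤ) (hb : b = 1 ∨ b = 2) (hf : 1 ≤ f) (h8 : 8 ∣ N)
    (h16 : ¬ 16 ∣ N)
    (heq : (N : ℤ) * ((f : ℤ) ^ 2 - 8 * f + 6 * f * b + b ^ 2) = 256 * f * (f + 1)) :
    N = 168 ∨ N = 360 := by
  rcases hb with rfl | rfl
  · right
    obtain ⟨k, rfl⟩ : ∃ k, f = k + 1 := ⟨f - 1, by omega⟩
    have hN : (N : ℤ) * (k : ℤ) ^ 2 = 256 * ((k : ℤ) + 1) * ((k : ℤ) + 2) := by
      push_cast at heq
      linear_combination heq
    have hN' : N * k ^ 2 = 256 * (k + 1) * (k + 2) := by exact_mod_cast hN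
    have hk0 : k ≠ 0 := by
      rintro rfl
      simp at hN'
    have hdvd : k ∣ 512 := by
      have h1 : k ∣ N * k ^ 2 := ⟨N * k, by ring⟩
      have h2 : N * k ^ 2 = k * (256 * k + 768) + 512 := by rw [hN']; ring
      rw [h2] at h1
      exact (Nat.dvd_add_right ⟨256 * k + 768, rfl⟩).mp h1
    have hdvd' : k ∣ 2 ^ 9 := by norm_num; exact hdvd
    obtain ⟨a, ha, rfl⟩ := (Nat.dvd_prime_pow Nat.prime_two).mp hdvd'
    interval_cases a <;> norm_num at hN' <;> omega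
  · left
    obtain ⟨k, hk⟩ : ∃ k, k = f + 2 := ⟨_, rfl⟩
    have hN : (N : ℤ) * (k : ℤ) ^ 2 + 768 * k = 256 * (k : ℤ) ^ 2 + 512 := by
      rw [hk]
      push_cast
      linear_combination heq
    have hN' : N * k ^ 2 + 768 * k = 256 * k ^ 2 + 512 := by exact_mod_cast hN
    have hdvd : k ∣ 512 := by
      have h1 : k ∣ N * k ^ 2 + 768 * k := ⟨N * k + 768, by ring⟩
      rw [hN'] at h1
      exact (Nat.dvd_add_right ⟨256 * k, by ring⟩).mp h1
    have hdvd' : k ∣ 2 ^ 9 := by norm_num; exact hdvd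
    obtain ⟨a, ha, hka⟩ := (Nat.dvd_prime_pow Nat.prime_two).mp hdvd'
    rw [hka] at hN' hk
    interval_cases a <;> norm_num at hN' hk <;> omega

section Final

variable {G : Type u} [Group G] [Fintype G] [DecidableEq G] {t r s : G}

theorem d8_package (h : Dih8Data t r s) :
    ∃ χ₁ χ₂ : G → ℂ, IsIrrCharacter G χ₁ ∧ IsIrrCharacter G χ₂ ∧ χ₁ ≠ (fun _ => 1) ∧
      χ₂ ≠ (fun _ => 1) ∧ χ₁ 1 = χ₂ 1 + 1 ∧
      (∀ g : G, bsTheta (Subgroup.zpowers r) (d8Mu h) g = 1 - χ₁ g + χ₂ g) ∧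
      χ₁ t = χ₂ t - 3 := by
  have hH := d8_bsHyp h
  have h3 := bs_norm hH
  have h1 := bs_inner_one hH
  have h0 := bs_at_one (L := Subgroup.zpowers r) (μ := d8Mu h)
  rw [bs_eq_sub] at h3 h1 h0
  obtain ⟨χ₁, χ₂, hχ₁, hχ₂, hne1, hne2, hdeg, hval⟩ :=
    bs_decomp bs_isCharacter_one bs_isCharacter_mu h3 h1 (sub_eq_zero.mp h0)
  have hθ : ∀ g : G, bsTheta (Subgroup.zpowers r) (d8Mu h) g = 1 - χ₁ g + χ₂ g := by
    intro g
    have e := congrFun (bs_eq_sub (L := Subgroup.zpowers r) (μ := d8Mu h)) g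
    rw [Pi.sub_apply] at e
    rw [e, hval g]
  refine ⟨χ₁, χ₂, hχ₁, hχ₂, hne1, hne2, hdeg, hθ, ?_⟩
  have hv := bs_value hH ((d8R r) ^ 2) (by rw [map_pow, d8Mu_gen]; exact bsI_sq_ne)
  have hcoe : (((d8R r) ^ 2 : Subgroup.zpowers r) : G) = t := by
    simp [d8R, h.r_sq]
  rw [hcoe, hθ, map_pow, d8Mu_gen] at hv
  have e1 : ((bsI ^ 2 : ℂˣ) : ℂ) = -1 := by
    simp [bsI, Units.val_pow_eq_pow_val]
  have e2 : (((bsI ^ 2)⁻¹ : ℂˣ) : ℂ) = -1 := by
    rw [Units.val_inv_eq_inv_val, e1]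
    norm_num
  rw [e1, e2] at hv
  linear_combination -hv

theorem d8_b_cases (h : Dih8Data t r s) {χ₁ χ₂ : G → ℂ} (h1 : IsIrrCharacter G χ₁)
    (h2 : IsIrrCharacter G χ₂) (hne1 : χ₁ ≠ (fun _ => 1)) (hne2 : χ₂ ≠ (fun _ => 1))
    (hdeg : χ₁ 1 = χ₂ 1 + 1) (b : ℤ) (hb : χ₂ t = b) (hval : χ₁ t = χ₂ t - 3) :
    b = 1 ∨ b = 2 := by
  haveI : Fintype (IrrCharacter G) := Fintype.ofFinite _
  have hcol := helper24.irr_column_orthogonality (G := G) t t
  rw [if_pos (IsConj.refl t), h.card_D] at hcol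
  have hns : ∀ χ : IrrCharacter G, (χ : G → ℂ) t * conj ((χ : G → ℂ) t) =
      ((Complex.normSq ((χ : G → ℂ) t) : ℝ) : ℂ) := fun χ => Complex.mul_conj _
  simp_rw [hns] at hcol
  have hcolR : ∑ χ : IrrCharacter G, Complex.normSq ((χ : G → ℂ) t) = 8 := by
    have : ((∑ χ : IrrCharacter G, Complex.normSq ((χ : G → ℂ) t) : ℝ) : ℂ) = ((8 : ℝ) : ℂ) := by
      push_cast
      exact hcol
    exact Complex.ofReal_injective this
  let ψ₀ : IrrCharacter G := ⟨fun _ => 1, helper24.isIrrCharacter_one⟩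
  let ψ₁ : IrrCharacter G := ⟨χ₁, h1⟩
  let ψ₂ : IrrCharacter G := ⟨χ₂, h2⟩
  have h01 : ψ₀ ≠ ψ₁ := fun h => hne1 (congrArg Subtype.val h).symm
  have h02 : ψ₀ ≠ ψ₂ := fun h => hne2 (congrArg Subtype.val h).symm
  have h12 : ψ₁ ≠ ψ₂ := by
    intro h
    have h5 : χ₁ = χ₂ := congrArg Subtype.val h
    rw [h5] at hdeg
    have : (0 : ℂ) = 1 := by linear_combination hdeg
    exact zero_ne_one this
  have hsub : ∑ χ ∈ ({ψ₀, ψ₁, ψ₂} : Finset (IrrCharacter G)), Complex.normSq ((χ : G → ℂ) t) ≤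
      ∑ χ : IrrCharacter G, Complex.normSq ((χ : G → ℂ) t) :=
    Finset.sum_le_sum_of_subset_of_nonneg (Finset.subset_univ _)
      (fun χ _ _ => Complex.normSq_nonneg _)
  rw [hcolR, Finset.sum_insert (by simp [h01, h02]), Finset.sum_insert (by simp [h12]),
    Finset.sum_singleton] at hsub
  have e0 : Complex.normSq ((ψ₀ : G → ℂ) t) = 1 := by
    show Complex.normSq (1 : ℂ) = 1
    simp
  have e1 : Complex.normSq ((ψ₁ : G → ℂ) t) = ((b : ℝ) - 3) ^ 2 := by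
    show Complex.normSq (χ₁ t) = _
    rw [hval, hb]
    have : ((b : ℂ) - 3) = (((b : ℝ) - 3 : ℝ) : ℂ) := by push_cast; ring
    rw [this, Complex.normSq_ofReal]
    ring
  have e2 : Complex.normSq ((ψ₂ : G → ℂ) t) = (b : ℝ) ^ 2 := by
    show Complex.normSq (χ₂ t) = _
    rw [hb]
    have : ((b : ℂ)) = (((b : ℝ) : ℝ) : ℂ) := by push_cast; ring
    rw [this, Complex.normSq_ofReal]
    ring
  rw [e0, e1, e2] at hsub
  have hZ : (1 : ℤ) + ((b - 3) ^ 2 + b ^ 2) ≤ 8 := by exact_mod_cast hsub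
  have hb1 : 1 ≤ b := by nlinarith
  have hb2 : b ≤ 2 := by nlinarith
  interval_cases b
  · left; rfl
  · right; rfl

end Final

/-- S0848 -/
theorem d8_main {G : Type u} [Group G] [Finite G] (hperf : commutator G = ⊤) (t : G)
    (ht : orderOf t = 2) (e : Subgroup.centralizer ({t} : Set G) ≃* DihedralGroup 4) :
    Nat.card G = 168 ∨ Nat.card G = 360 := by
  classical
  haveI : Fintype G := Fintype.ofFinite G
  obtain ⟨r, s, h⟩ := dih8Data_of_equiv t ht e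
  obtain ⟨χ₁, χ₂, h1, h2, hne1, hne2, hdeg, hθ, hval⟩ := d8_package h
  have heq := d8_equation h hperf h1 h2 hθ
  obtain ⟨b, hb⟩ := bs_char_involution_int (helper24.irr_isCharacter h2) (d8_t_sq h)
  have hbc := d8_b_cases h h1 h2 hne1 hne2 hdeg b hb hval
  have hf := helper24.char_charDegree_cast (helper24.irr_isCharacter h2)
  have hfpos := helper24.irr_charDegree_pos h2
  obtain ⟨S, hS⟩ := d8_exists_sylow h
  have hidx := S.not_dvd_index
  have hcard := Subgroup.card_mul_index (S : Subgroup G)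
  rw [hS, h.card_D] at hcard
  rw [hS] at hidx
  have h8 : 8 ∣ Nat.card G := ⟨_, hcard.symm⟩
  have h16 : ¬ 16 ∣ Nat.card G := by
    rintro ⟨m, hm⟩
    apply hidx
    rw [hm] at hcard
    exact ⟨m, by omega⟩
  apply d8_arith (Nat.card G) (charDegree χ₂) b hbc hfpos h8 h16
  rw [hval, hb, hdeg, ← hf] at heq
  have hfne : ((charDegree χ₂ : ℕ) : ℂ) ≠ 0 := by exact_mod_cast hfpos.ne'
  have hf1ne : ((charDegree χ₂ : ℕ) : ℂ) + 1 ≠ 0 := by
    have : ((charDegree χ₂ + 1 : ℕ) : ℂ) ≠ 0 :=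
      Nat.cast_ne_zero.mpr (Nat.succ_ne_zero (charDegree χ₂))
    simpa using this
  have key : (Nat.card G : ℂ) * (((charDegree χ₂ : ℕ) : ℂ) ^ 2 - 8 * (charDegree χ₂ : ℕ)
      + 6 * (charDegree χ₂ : ℕ) * b + (b : ℂ) ^ 2) =
      256 * (charDegree χ₂ : ℕ) * ((charDegree χ₂ : ℕ) + 1) := by
    have e1 : (1 - ((b : ℂ) - 3) ^ 2 / (((charDegree χ₂ : ℕ) : ℂ) + 1) +
        (b : ℂ) ^ 2 / ((charDegree χ₂ : ℕ) : ℂ)) =
        (((charDegree χ₂ : ℕ) : ℂ) ^ 2 - 8 * (charDegree χ₂ : ℕ) + 6 * (charDegree χ₂ : ℕ) * b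
          + (b : ℂ) ^ 2) / (((charDegree χ₂ : ℕ) : ℂ) * (((charDegree χ₂ : ℕ) : ℂ) + 1)) := by
      field_simp
      ring
    rw [e1, mul_div_assoc', div_eq_iff (mul_ne_zero hfne hf1ne)] at heq
    linear_combination heq
  exact_mod_cast key

end Cfsg.Agent.helper12
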