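import Mathlib

set_option autoImplicit false

namespace Cfsg.Agent.helper12

/-- class number of a group with an abelian subgroup of index 2 inverted by the outside elements -/
theorem card_conjClasses_dicyclic {N : Type*} [Group N] [Finite N] (T : Subgroup N) (hidx : T.index = 2)
    (hcomm : ∀ s ∈ T, ∀ t ∈ T, s * t = t * s) (hinv : ∀ g, g ∉ T → ∀ t ∈ T, g * t * g⁻¹ = t⁻¹)
    (k : ℕ) (hk : Nat.card {t : N // t ∈ T ∧ t * t = 1} = k) :
    2 * Nat.card (ConjClasses N) = Nat.card T + 3 * k := by
  classical
  have : Fintype N := Fintype.ofFinite N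
  have hN : Nat.card N = 2 * Nat.card T := by rw [← T.index_mul_card, hidx]
  have hTpos : 0 < Nat.card T := Nat.card_pos
  have key := card_comm_eq_card_conjClasses_mul_card N
  have hkT : (∑ t : N, if t ∈ T ∧ t * t = 1 then 1 else 0) = k := by
    rw [← hk, Nat.card_eq_fintype_card, Fintype.card_subtype, Finset.card_filter]
  have hcT : (∑ t : N, if t ∈ T then 1 else 0) = Nat.card T := by
    rw [Nat.card_eq_fintype_card, ← Finset.card_filter]
    exact (Fintype.card_subtype _).symm
  have hcT' : (∑ t : N, if t ∉ T then 1 else 0) = Nat.card T := by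
    have h1 : ∀ t : N, (if t ∉ T then 1 else 0) = 1 - (if t ∈ T then 1 else 0) := by
      intro t; by_cases h : t ∈ T <;> simp [h]
    have h2 : (∑ t : N, if t ∈ T then 1 else 0) + (∑ t : N, if t ∉ T then 1 else 0) = Nat.card N := by
      rw [← Finset.sum_add_distrib, Nat.card_eq_fintype_card, Finset.card_univ.symm, Finset.card_eq_sum_ones]
      apply Finset.sum_congr rfl
      intro t _
      by_cases h : t ∈ T <;> simp [h]
    rw [hcT, hN] at h2
    omega
  -- commuting of an outside element with an inside element
  have hA : ∀ g, g ∉ T → ∀ t ∈ T, (Commute g t ↔ t * t = 1) := by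
    intro g hg t ht
    have := hinv g hg t ht
    constructor
    · intro hc
      have h1 : g * t * g⁻¹ = t := by rw [hc.eq, mul_inv_cancel_right]
      rw [h1] at this
      calc t * t = t * t⁻¹ := by rw [← this]
        _ = 1 := mul_inv_cancel t
    · intro h1
      have h2 : t⁻¹ = t := inv_eq_of_mul_eq_one_left h1
      rw [h2] at this
      exact mul_inv_eq_iff_eq_mul.mp this
  have hcnt : ∀ g : N, (∑ h : N, if Commute g h then 1 else 0) =
      if g ∈ T then Nat.card T + (if g * g = 1 then Nat.card T else 0) else 2 * k := by
    intro g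
    have hsplit : ∀ h : N, (if Commute g h then 1 else 0) =
        (if h ∈ T ∧ Commute g h then 1 else 0) + (if h ∉ T ∧ Commute g h then 1 else 0) := by
      intro h
      by_cases h1 : h ∈ T <;> by_cases h2 : Commute g h <;> simp [h1, h2]
    rw [Finset.sum_congr rfl (fun h _ => hsplit h), Finset.sum_add_distrib]
    by_cases hg : g ∈ T
    · rw [if_pos hg]
      congr 1
      · rw [← hcT]
        apply Finset.sum_congr rfl
        intro h _
        by_cases h1 : h ∈ T
        · rw [if_pos ⟨h1, hcomm g hg h h1⟩, if_pos h1]
        · rw [if_neg (fun hh => h1 hh.1), if_neg h1]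
      · by_cases hgg : g * g = 1
        · rw [if_pos hgg, ← hcT']
          apply Finset.sum_congr rfl
          intro h _
          by_cases h1 : h ∈ T
          · rw [if_neg (fun hh => hh.1 h1), if_neg (not_not.mpr h1)]
          · rw [if_pos ⟨h1, ((hA h h1 g hg).mpr hgg).symm⟩, if_pos h1]
        · rw [if_neg hgg]
          apply Finset.sum_eq_zero
          intro h _
          rw [if_neg]
          rintro ⟨h1, h2⟩
          exact hgg ((hA h h1 g hg).mp h2.symm)
    · rw [if_neg hg, two_mul]
      congr 1
      · rw [← hkT]
        apply Finset.sum_congr rfl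
        intro h _
        by_cases h1 : h ∈ T
        · by_cases h2 : h * h = 1
          · rw [if_pos ⟨h1, (hA g hg h h1).mpr h2⟩, if_pos ⟨h1, h2⟩]
          · rw [if_neg (fun hh => h2 ((hA g hg h h1).mp hh.2)), if_neg (fun hh => h2 hh.2)]
        · rw [if_neg (fun hh => h1 hh.1), if_neg (fun hh => h1 hh.1)]
      · rw [← hkT]
        symm
        apply Fintype.sum_equiv (Equiv.mulLeft g)
        intro t
        show (if t ∈ T ∧ t * t = 1 then 1 else 0) = (if g * t ∉ T ∧ Commute g (g * t) then 1 else 0)
        have hmem : g * t ∉ T ↔ t ∈ T := by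
          rw [Subgroup.mul_mem_iff_of_index_two hidx]
          constructor
          · intro h
            by_contra ht
            exact h ⟨fun h' => absurd h' hg, fun h' => absurd h' ht⟩
          · intro ht h
            exact hg (h.mpr ht)
        have hcm : Commute g (g * t) ↔ Commute g t := by
          constructor
          · intro h
            have h' : g * (g * t) = g * t * g := h.eq
            rw [mul_assoc] at h'
            exact mul_left_cancel h'
          · intro h
            exact (Commute.refl g).mul_right h
        by_cases ht : t ∈ T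
        · by_cases h2 : t * t = 1
          · rw [if_pos ⟨ht, h2⟩, if_pos ⟨hmem.mpr ht, hcm.mpr ((hA g hg t ht).mpr h2)⟩]
          · rw [if_neg (fun hh => h2 hh.2), if_neg (fun hh => h2 ((hA g hg t ht).mp (hcm.mp hh.2)))]
        · rw [if_neg (fun hh => ht hh.1), if_neg (fun hh => ht (hmem.mp hh.1))]
  have hcount : Nat.card {p : N × N // Commute p.1 p.2} = Nat.card T * (Nat.card T + 3 * k) := by
    rw [Nat.card_eq_fintype_card, Fintype.card_subtype, Finset.card_filter, Fintype.sum_prod_type]
    rw [Finset.sum_congr rfl (fun g _ => hcnt g)]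
    have h3 : ∀ g : N, (if g ∈ T then Nat.card T + (if g * g = 1 then Nat.card T else 0) else 2 * k) =
        (if g ∈ T then 1 else 0) * Nat.card T + (if g ∈ T ∧ g * g = 1 then 1 else 0) * Nat.card T
          + (if g ∉ T then 1 else 0) * (2 * k) := by
      intro g
      by_cases h1 : g ∈ T <;> by_cases h2 : g * g = 1 <;> simp [h1, h2]
    rw [Finset.sum_congr rfl (fun g _ => h3 g), Finset.sum_add_distrib, Finset.sum_add_distrib,
      ← Finset.sum_mul, ← Finset.sum_mul, ← Finset.sum_mul, hcT, hkT, hcT']
    ring
  rw [hcount, hN] at key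
  have h4 : Nat.card T * (Nat.card T + 3 * k) = Nat.card T * (2 * Nat.card (ConjClasses N)) := by
    rw [key]; ring
  exact (Nat.eq_of_mul_eq_mul_left hTpos h4).symm

end Cfsg.Agent.helper12
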