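import Mathlib

set_option autoImplicit false

namespace Cfsg.Agent.helper12

/-- free groups are residually finite: a nontrivial word acts nontrivially on a finite set -/
theorem freeGroup_exists_perm_rep (w : FreeGroup ℕ) (hw : w ≠ 1) :
    ∃ (S : Finset (FreeGroup ℕ)) (f : ℕ → Equiv.Perm S), FreeGroup.lift f w ≠ 1 := by
  classical
  obtain ⟨L, rfl⟩ : ∃ L : List (ℕ × Bool), FreeGroup.mk L = w := ⟨w.toWord, FreeGroup.mk_toWord⟩
  let S : Finset (FreeGroup ℕ) := (L.inits.map FreeGroup.mk).toFinset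
  have hS : ∀ L₀ : List (ℕ × Bool), L₀ <+: L → FreeGroup.mk L₀ ∈ S := by
    intro L₀ h
    simp only [S, List.mem_toFinset, List.mem_map]
    exact ⟨L₀, (List.mem_inits _ _).mpr h, rfl⟩
  -- the partial permutations
  have hσ : ∀ i : ℕ, ∃ σ : Equiv.Perm S, ∀ s : S, (s : FreeGroup ℕ) * (FreeGroup.of i)⁻¹ ∈ S →
      ((σ s : S) : FreeGroup ℕ) = (s : FreeGroup ℕ) * (FreeGroup.of i)⁻¹ := by
    intro i
    have hcard : Fintype.card S = S.card := Fintype.card_coe S
    obtain ⟨g, hg⟩ := Set.MapsTo.exists_equiv_extend_of_card_eq (α := S) (t := S) hcard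
      (s := {s : S | (s : FreeGroup ℕ) * (FreeGroup.of i)⁻¹ ∈ S})
      (f := fun s : S => (s : FreeGroup ℕ) * (FreeGroup.of i)⁻¹)
      (fun s hs => hs)
      (fun s _ t _ h => Subtype.ext (mul_right_cancel h))
    exact ⟨g, fun s hs => hg s hs⟩
  choose f hf using hσ
  refine ⟨S, f, ?_⟩
  -- the key claim, by induction along the word
  have key : ∀ L' : List (ℕ × Bool), L' <+: L → ∀ s : S, (s : FreeGroup ℕ) = FreeGroup.mk L' →
      ((FreeGroup.lift f (FreeGroup.mk L') s : S) : FreeGroup ℕ) = 1 := by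
    intro L'
    induction L' using List.reverseRecOn with
    | nil =>
      intro h s hs
      have : (FreeGroup.mk ([] : List (ℕ × Bool))) = 1 := rfl
      rw [this] at hs ⊢
      simpa using hs
    | append_singleton L'' a ih =>
      intro h s hs
      have h'' : L'' <+: L := (List.prefix_append L'' [a]).trans h
      obtain ⟨i, b⟩ := a
      have hmul : FreeGroup.mk (L'' ++ [(i, b)]) = FreeGroup.mk L'' * FreeGroup.mk [(i, b)] := by
        rw [FreeGroup.mul_mk]
      rw [hmul, map_mul, Equiv.Perm.mul_apply]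
      apply ih h''
      cases b
      · have e : FreeGroup.mk [(i, false)] = (FreeGroup.of i)⁻¹ := rfl
        rw [e, map_inv, FreeGroup.lift_apply_of]
        have hmem : FreeGroup.mk L'' * (FreeGroup.of i)⁻¹ ∈ S := by
          rw [← e, ← hmul]; exact hS _ h
        have ht : f i ⟨FreeGroup.mk L'', hS _ h''⟩ = s := by
          apply Subtype.ext
          rw [hf i _ hmem, hs, hmul, e]
        rw [Equiv.Perm.inv_eq_iff_eq.mpr ht.symm]
      · have e : FreeGroup.mk [(i, true)] = FreeGroup.of i := rfl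
        rw [e, FreeGroup.lift_apply_of]
        have hmem : (s : FreeGroup ℕ) * (FreeGroup.of i)⁻¹ ∈ S := by
          rw [hs, hmul, e, mul_inv_cancel_right]; exact hS _ h''
        rw [hf i s hmem, hs, hmul, e, mul_inv_cancel_right]
  intro hcon
  have h1 := key L (List.prefix_refl L) ⟨FreeGroup.mk L, hS L (List.prefix_refl L)⟩ rfl
  rw [hcon] at h1
  simp only [Equiv.Perm.coe_one, id_eq] at h1
  exact hw h1

theorem exists_injective_hom_to_alternating {α : Type*} [Fintype α] [DecidableEq α] (n : ℕ)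
    (hn : 2 * Fintype.card α ≤ n) :
    ∃ ι : Equiv.Perm α →* alternatingGroup (Fin n), Function.Injective ι := by
  have hcard : Fintype.card (α ⊕ α) ≤ Fintype.card (Fin n) := by
    simp only [Fintype.card_sum, Fintype.card_fin]; omega
  obtain ⟨e⟩ := Function.Embedding.nonempty_of_card_le hcard
  let φ : Equiv.Perm α →* Equiv.Perm (Fin n) :=
    (Equiv.Perm.viaEmbeddingHom e).comp
      ((Equiv.Perm.sumCongrHom α α).comp (MonoidHom.prod (MonoidHom.id _) (MonoidHom.id _)))
  have hsign : ∀ σ, Equiv.Perm.sign (φ σ) = 1 := by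
    intro σ
    simp only [φ, MonoidHom.comp_apply, MonoidHom.prod_apply, MonoidHom.id_apply,
      Equiv.Perm.sumCongrHom_apply, Equiv.Perm.viaEmbeddingHom_apply]
    rw [Equiv.Perm.viaEmbedding, Equiv.Perm.sign_extendDomain, Equiv.Perm.sign_sumCongr]
    exact Int.units_mul_self _
  have hinj : Function.Injective φ := by
    apply (Equiv.Perm.viaEmbeddingHom_injective e).comp
    apply (Equiv.Perm.sumCongrHom_injective).comp
    intro a b h
    exact (Prod.ext_iff.mp h).1
  refine ⟨φ.codRestrict (alternatingGroup (Fin n)) (fun σ => Equiv.Perm.mem_alternatingGroup.mpr (hsign σ)), ?_⟩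
  intro a b h
  apply hinj
  exact congrArg Subtype.val h

/-- S2352 -/
theorem alternating_no_law (w : FreeGroup ℕ) (hw : w ≠ 1) :
    ∃ N : ℕ, ∀ n : ℕ, N ≤ n → ∃ f : ℕ → alternatingGroup (Fin n), FreeGroup.lift f w ≠ 1 := by
  classical
  obtain ⟨S, f, hf⟩ := freeGroup_exists_perm_rep w hw
  refine ⟨2 * Fintype.card S, fun n hn => ?_⟩
  obtain ⟨ι, hι⟩ := exists_injective_hom_to_alternating (α := S) n hn
  refine ⟨fun i => ι (f i), ?_⟩
  have : FreeGroup.lift (fun i => ι (f i)) = ι.comp (FreeGroup.lift f) := by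
    ext i
    simp
  rw [this, MonoidHom.comp_apply]
  intro h
  apply hf
  apply hι
  rw [h, map_one]

end Cfsg.Agent.helper12
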