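import Cfsg.Agent.Lib_helper12_Sl2Borel
import Cfsg.Agent.Lib_helper12_CharOps

set_option autoImplicit false

namespace Cfsg.Agent.helper12

open Matrix Cfsg
open scoped ComplexConjugate

variable {F : Type*} [Field F]

/-- Borel subgroup of GL2 -/
abbrev gl2Borel (F : Type*) [Field F] : Subgroup (GL (Fin 2) F) := Cfsg.upperTriangularGL 2 F

theorem mem_gl2Borel (x : GL (Fin 2) F) :
    x ∈ gl2Borel F ↔ (x : Matrix (Fin 2) (Fin 2) F) 1 0 = 0 := mem_upperTriangularGL_two x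

/-- coset representatives of GL2 / B -/
def gl2Rep (i : Option F) : GL (Fin 2) F := Matrix.SpecialLinearGroup.toGL (sl2Rep i)

theorem gl2Rep_coe (i : Option F) :
    ((gl2Rep i : GL (Fin 2) F) : Matrix (Fin 2) (Fin 2) F) = ((sl2Rep i : Matrix.SpecialLinearGroup (Fin 2) F) : Matrix (Fin 2) (Fin 2) F) := rfl

theorem gl2Rep_inv_mul_coe (i : Option F) (g : GL (Fin 2) F) :
    (((gl2Rep i)⁻¹ * g : GL (Fin 2) F) : Matrix (Fin 2) (Fin 2) F)
      = (((sl2Rep i)⁻¹ : Matrix.SpecialLinearGroup (Fin 2) F) : Matrix (Fin 2) (Fin 2) F) * (g : Matrix (Fin 2) (Fin 2) F) := by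
  unfold gl2Rep
  rw [← map_inv]
  rfl

theorem gl2Rep_conj_coe (i : Option F) (g : GL (Fin 2) F) :
    (((gl2Rep i)⁻¹ * g * gl2Rep i : GL (Fin 2) F) : Matrix (Fin 2) (Fin 2) F)
      = (((sl2Rep i)⁻¹ : Matrix.SpecialLinearGroup (Fin 2) F) : Matrix (Fin 2) (Fin 2) F) * (g : Matrix (Fin 2) (Fin 2) F)
        * ((sl2Rep i : Matrix.SpecialLinearGroup (Fin 2) F) : Matrix (Fin 2) (Fin 2) F) := by
  rw [Units.val_mul, gl2Rep_inv_mul_coe]
  rfl

theorem gl2Rep_conj_10 (g : GL (Fin 2) F) (t : F) :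
    (((gl2Rep (some t))⁻¹ * g * gl2Rep (some t) : GL (Fin 2) F) : Matrix (Fin 2) (Fin 2) F) 1 0
      = (g : Matrix (Fin 2) (Fin 2) F) 1 0 * t ^ 2 + ((g : Matrix (Fin 2) (Fin 2) F) 1 1 - (g : Matrix (Fin 2) (Fin 2) F) 0 0) * t - (g : Matrix (Fin 2) (Fin 2) F) 0 1 := by
  rw [gl2Rep_conj_coe, sl2_inv_apply]
  simp [sl2Rep, Matrix.mul_apply, Fin.sum_univ_two, Matrix.vecMul, dotProduct]
  ring

theorem gl2Rep_conj_00 (g : GL (Fin 2) F) (t : F) :
    (((gl2Rep (some t))⁻¹ * g * gl2Rep (some t) : GL (Fin 2) F) : Matrix (Fin 2) (Fin 2) F) 0 0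
      = (g : Matrix (Fin 2) (Fin 2) F) 1 0 * t + (g : Matrix (Fin 2) (Fin 2) F) 1 1 := by
  rw [gl2Rep_conj_coe, sl2_inv_apply]
  simp [sl2Rep, Matrix.mul_apply, Fin.sum_univ_two, Matrix.vecMul, dotProduct]

theorem gl2Rep_conj_11 (g : GL (Fin 2) F) (t : F) :
    (((gl2Rep (some t))⁻¹ * g * gl2Rep (some t) : GL (Fin 2) F) : Matrix (Fin 2) (Fin 2) F) 1 1
      = (g : Matrix (Fin 2) (Fin 2) F) 0 0 - (g : Matrix (Fin 2) (Fin 2) F) 1 0 * t := by
  rw [gl2Rep_conj_coe, sl2_inv_apply]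
  simp [sl2Rep, Matrix.mul_apply, Fin.sum_univ_two, Matrix.vecMul, dotProduct]
  ring

theorem gl2Rep_none : gl2Rep (none : Option F) = 1 := by
  simp [gl2Rep, sl2Rep]

theorem gl2Rep_bijective : Function.Bijective (fun p : Option F × gl2Borel F => gl2Rep p.1 * (p.2 : GL (Fin 2) F)) := by
  constructor
  · rintro ⟨i, h⟩ ⟨j, h'⟩ e
    simp only at e
    have key : (gl2Rep j)⁻¹ * gl2Rep i ∈ gl2Borel F := by
      have : (gl2Rep j)⁻¹ * gl2Rep i = (h' : GL (Fin 2) F) * (h : GL (Fin 2) F)⁻¹ := by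
        rw [inv_mul_eq_iff_eq_mul, ← mul_assoc, ← e]; group
      rw [this]
      exact (gl2Borel F).mul_mem h'.2 ((gl2Borel F).inv_mem h.2)
    rw [mem_gl2Borel, gl2Rep_inv_mul_coe, sl2_inv_apply, gl2Rep_coe] at key
    have hij : i = j := by
      cases i <;> cases j
      · rfl
      · simp [sl2Rep, Matrix.mul_apply, Fin.sum_univ_two] at key
      · simp [sl2Rep, Matrix.mul_apply, Fin.sum_univ_two] at key
      · simp [sl2Rep, Matrix.mul_apply, Fin.sum_univ_two] at key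
        congr 1
        linear_combination -key
    subst hij
    have := mul_left_cancel e
    exact Prod.ext rfl (Subtype.ext this)
  · intro x
    by_cases hx : (x : Matrix (Fin 2) (Fin 2) F) 1 0 = 0
    · exact ⟨(none, ⟨x, (mem_gl2Borel x).mpr hx⟩), by simp [gl2Rep_none]⟩
    · have hmem : (gl2Rep (some ((x : Matrix (Fin 2) (Fin 2) F) 0 0 / (x : Matrix (Fin 2) (Fin 2) F) 1 0)))⁻¹ * x ∈ gl2Borel F := by
        rw [mem_gl2Borel, gl2Rep_inv_mul_coe, sl2_inv_apply]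
        simp [sl2Rep, Matrix.mul_apply, Fin.sum_univ_two]
        field_simp
        ring
      refine ⟨(some ((x : Matrix (Fin 2) (Fin 2) F) 0 0 / (x : Matrix (Fin 2) (Fin 2) F) 1 0), ⟨_, hmem⟩), ?_⟩
      simp

/-- the linear character b ↦ α(b₀₀) β(b₁₁) of the Borel subgroup of GL2 -/
noncomputable def gl2BorelChar (α β : MulChar F ℂ) : gl2Borel F → ℂ :=
  fun b => α (((b : GL (Fin 2) F) : Matrix (Fin 2) (Fin 2) F) 0 0) * β (((b : GL (Fin 2) F) : Matrix (Fin 2) (Fin 2) F) 1 1)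

noncomputable def gl2BorelHom (α β : MulChar F ℂ) : gl2Borel F →* ℂ where
  toFun := gl2BorelChar α β
  map_one' := by simp [gl2BorelChar]
  map_mul' b b' := by
    have h := (mem_gl2Borel (b : GL (Fin 2) F)).mp b.2
    have h' := (mem_gl2Borel (b' : GL (Fin 2) F)).mp b'.2
    simp only [gl2BorelChar, Subgroup.coe_mul, Units.val_mul, Matrix.mul_apply,
      Fin.sum_univ_two, h, h', mul_zero, zero_mul, add_zero, zero_add, map_mul]
    ring

theorem gl2BorelChar_isCharacter (α β : MulChar F ℂ) : IsCharacter (gl2Borel F) (gl2BorelChar α β) :=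
  isCharacter_of_monoidHom (gl2BorelHom α β)

theorem monoidHom_conj_inv {H : Type*} [Group H] (f : H →* ℂ) (h y : H) : f (h⁻¹ * y * h) = f y := by
  rw [map_mul, map_mul, mul_comm (f h⁻¹), mul_assoc, ← map_mul, inv_mul_cancel, map_one, mul_one]

theorem gl2BorelChar_conj (α β : MulChar F ℂ) (h y : gl2Borel F) :
    gl2BorelChar α β (h⁻¹ * y * h) = gl2BorelChar α β y :=
  monoidHom_conj_inv (gl2BorelHom α β) h y

theorem extendByZero_gl2BorelChar [DecidableEq F] (α β : MulChar F ℂ) (y : GL (Fin 2) F) :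
    Cfsg.extendByZero (gl2Borel F) (gl2BorelChar α β) y
      = if (y : Matrix (Fin 2) (Fin 2) F) 1 0 = 0 then α ((y : Matrix (Fin 2) (Fin 2) F) 0 0) * β ((y : Matrix (Fin 2) (Fin 2) F) 1 1) else 0 := by
  split_ifs with h
  · rw [extendByZero_of_mem' _ _ _ ((mem_gl2Borel y).mpr h)]
    rfl
  · rw [extendByZero_of_not_mem' _ _ _ (fun hc => h ((mem_gl2Borel y).mp hc))]

/-- explicit formula for the character induced from the Borel subgroup of GL2 -/
theorem gl2_indBorel_apply [Fintype F] [DecidableEq F] (α β : MulChar F ℂ) (g : GL (Fin 2) F) :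
    Cfsg.indFun (gl2Borel F) (gl2BorelChar α β) g
      = (if (g : Matrix (Fin 2) (Fin 2) F) 1 0 = 0 then α ((g : Matrix (Fin 2) (Fin 2) F) 0 0) * β ((g : Matrix (Fin 2) (Fin 2) F) 1 1) else 0)
        + ∑ t : F, if (g : Matrix (Fin 2) (Fin 2) F) 1 0 * t ^ 2 + ((g : Matrix (Fin 2) (Fin 2) F) 1 1 - (g : Matrix (Fin 2) (Fin 2) F) 0 0) * t - (g : Matrix (Fin 2) (Fin 2) F) 0 1 = 0
            then α ((g : Matrix (Fin 2) (Fin 2) F) 1 0 * t + (g : Matrix (Fin 2) (Fin 2) F) 1 1)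
              * β ((g : Matrix (Fin 2) (Fin 2) F) 0 0 - (g : Matrix (Fin 2) (Fin 2) F) 1 0 * t) else 0 := by
  rw [indFun_eq_sum_reps (gl2Borel F) (gl2BorelChar α β) (gl2BorelChar_conj α β) gl2Rep gl2Rep_bijective g,
    Fintype.sum_option]
  congr 1
  · rw [extendByZero_gl2BorelChar]
    simp [gl2Rep_none]
  · apply Finset.sum_congr rfl
    intro t _
    rw [extendByZero_gl2BorelChar, gl2Rep_conj_10, gl2Rep_conj_00, gl2Rep_conj_11]

/-- upper triangular elements of GL2 -/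
def gl2UT (a d : Fˣ) (b : F) : GL (Fin 2) F :=
  Matrix.GeneralLinearGroup.mkOfDetNeZero !![(a : F), b; 0, (d : F)] (by simp [Matrix.det_fin_two])

theorem gl2UT_coe (a d : Fˣ) (b : F) :
    ((gl2UT a d b : GL (Fin 2) F) : Matrix (Fin 2) (Fin 2) F) = !![(a : F), b; 0, (d : F)] := rfl

theorem gl2UT_injective : Function.Injective (fun p : (Fˣ × Fˣ) × F => gl2UT p.1.1 p.1.2 p.2) := by
  rintro ⟨⟨a, d⟩, b⟩ ⟨⟨a', d'⟩, b'⟩ h
  have h' := congrArg (fun m : GL (Fin 2) F => (m : Matrix (Fin 2) (Fin 2) F)) h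
  simp only [gl2UT_coe] at h'
  have e0 := congrFun (congrFun h' 0) 0
  have e1 := congrFun (congrFun h' 0) 1
  have e2 := congrFun (congrFun h' 1) 1
  simp at e0 e1 e2
  exact Prod.ext (Prod.ext (Units.ext e0) (Units.ext e2)) e1

theorem gl2UT_surj (g : GL (Fin 2) F) (h : (g : Matrix (Fin 2) (Fin 2) F) 1 0 = 0) :
    ∃ p : (Fˣ × Fˣ) × F, gl2UT p.1.1 p.1.2 p.2 = g := by
  have hdet : (g : Matrix (Fin 2) (Fin 2) F).det ≠ 0 := by
    have := (Matrix.GeneralLinearGroup.det g).ne_zero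
    simpa using this
  rw [Matrix.det_fin_two, h, mul_zero, sub_zero] at hdet
  refine ⟨((Units.mk0 _ (left_ne_zero_of_mul hdet), Units.mk0 _ (right_ne_zero_of_mul hdet)),
    (g : Matrix (Fin 2) (Fin 2) F) 0 1), ?_⟩
  apply Units.ext
  rw [gl2UT_coe]
  ext i j
  fin_cases i <;> fin_cases j <;> simp [h]

theorem card_gl2Borel [Fintype F] : Nat.card (gl2Borel F) = (Fintype.card F - 1) * (Fintype.card F - 1) * Fintype.card F := by
  classical
  let φ : (Fˣ × Fˣ) × F → gl2Borel F := fun p => ⟨gl2UT p.1.1 p.1.2 p.2, (mem_gl2Borel _).mpr (by simp [gl2UT_coe])⟩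
  have hφ : Function.Bijective φ := by
    constructor
    · intro p p' h
      exact gl2UT_injective (congrArg Subtype.val h)
    · rintro ⟨g, hg⟩
      obtain ⟨p, hp⟩ := gl2UT_surj g ((mem_gl2Borel g).mp hg)
      exact ⟨p, Subtype.ext hp⟩
  rw [← Nat.card_congr (Equiv.ofBijective φ hφ), Nat.card_eq_fintype_card, Fintype.card_prod, Fintype.card_prod,
    Fintype.card_units]

theorem gl2_indBorel_gl2UT [Fintype F] [DecidableEq F] (α β : MulChar F ℂ) (a d : Fˣ) (b : F) :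
    Cfsg.indFun (gl2Borel F) (gl2BorelChar α β) (gl2UT a d b)
      = α (a : F) * β (d : F) + ∑ t : F, if b = ((d : F) - (a : F)) * t then α (d : F) * β (a : F) else 0 := by
  rw [gl2_indBorel_apply, gl2UT_coe]
  simp only [Matrix.of_apply, Matrix.cons_val', Matrix.cons_val_zero,
    Matrix.cons_val_one, Matrix.cons_val_fin_one, if_true, zero_mul, zero_add, sub_zero]
  congr 1
  apply Finset.sum_congr rfl
  intro t _
  refine if_congr ?_ rfl rfl
  rw [sub_eq_zero]
  exact eq_comm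

theorem mulChar_conj_apply [Finite F] (β : MulChar F ℂ) (x : F) : conj (β x) = β⁻¹ x := by
  have : conj (β x) = star (β x) := rfl
  rw [this, MulChar.star_apply']

theorem gl2UT_00 (a d : Fˣ) (b : F) : (gl2UT a d b : Matrix (Fin 2) (Fin 2) F) 0 0 = (a : F) := rfl
theorem gl2UT_11 (a d : Fˣ) (b : F) : (gl2UT a d b : Matrix (Fin 2) (Fin 2) F) 1 1 = (d : F) := rfl

/-- Mackey formula for the principal series of GL2 -/
theorem gl2_classInner_indBorel [Fintype F] [DecidableEq F] (α β α' β' : MulChar F ℂ)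
    [Decidable (α = α' ∧ β = β')] [Decidable (α = β' ∧ β = α')] :
    Cfsg.classInner (Cfsg.indFun (gl2Borel F) (gl2BorelChar α β)) (Cfsg.indFun (gl2Borel F) (gl2BorelChar α' β'))
      = (if α = α' ∧ β = β' then 1 else 0) + (if α = β' ∧ β = α' then 1 else 0) := by
  classical
  rw [classInner_indFun _ _ _ (indFun_isClassFunction _ _)]
  simp only [extendByZero_gl2BorelChar, ite_mul, zero_mul]
  rw [sum_ite_eq_sum_of_bij (fun g : GL (Fin 2) F => (g : Matrix (Fin 2) (Fin 2) F) 1 0 = 0)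
    (fun p : (Fˣ × Fˣ) × F => gl2UT p.1.1 p.1.2 p.2) gl2UT_injective (fun p => by simp [gl2UT_coe]) gl2UT_surj]
  rw [Fintype.sum_prod_type, Fintype.sum_prod_type]
  have h1 : ∀ a d : Fˣ, ∑ b : F, α ((gl2UT a d b : Matrix (Fin 2) (Fin 2) F) 0 0) * β ((gl2UT a d b : Matrix (Fin 2) (Fin 2) F) 1 1) *
      conj (Cfsg.indFun (gl2Borel F) (gl2BorelChar α' β') (gl2UT a d b)) =
      (Fintype.card F : ℂ) * ((α * α'⁻¹) (a : F) * (β * β'⁻¹) (d : F) + (α * β'⁻¹) (a : F) * (β * α'⁻¹) (d : F)) := by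
    intro a d
    have h2 : ∀ b : F, α ((gl2UT a d b : Matrix (Fin 2) (Fin 2) F) 0 0) * β ((gl2UT a d b : Matrix (Fin 2) (Fin 2) F) 1 1) *
        conj (Cfsg.indFun (gl2Borel F) (gl2BorelChar α' β') (gl2UT a d b))
        = α (a : F) * β (d : F) * conj (α' (a : F) * β' (d : F)) + ∑ t : F, if b = ((d : F) - (a : F)) * t then α (a : F) * β (d : F) * conj (α' (d : F) * β' (a : F)) else 0 := by
      intro b
      rw [gl2_indBorel_gl2UT, map_add, map_sum, mul_add, Finset.mul_sum, gl2UT_00, gl2UT_11]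
      congr 1
      apply Finset.sum_congr rfl
      intro t _
      rw [apply_ite conj, map_zero, mul_ite, mul_zero]
    rw [Finset.sum_congr rfl (fun b _ => h2 b), Finset.sum_add_distrib, Finset.sum_comm]
    simp only [Finset.sum_ite_eq', Finset.mem_univ, if_true, Finset.sum_const, Finset.card_univ, nsmul_eq_mul]
    rw [← mul_add]
    congr 1
    simp only [MulChar.mul_apply, map_mul, mulChar_conj_apply]
    ring
  simp only []
  simp only [h1]
  simp only [← Finset.mul_sum, Finset.sum_add_distrib, ← Finset.sum_mul]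
  rw [sum_units_mulChar, sum_units_mulChar, sum_units_mulChar, sum_units_mulChar, card_gl2Borel]
  have hq : (1:ℕ) < Fintype.card F := Fintype.one_lt_card
  have hq0 : (Fintype.card F : ℂ) ≠ 0 := by
    have : (0:ℕ) < Fintype.card F := by omega
    exact_mod_cast this.ne'
  have hq1 : (Fintype.card F : ℂ) - 1 ≠ 0 := by
    have : ((Fintype.card F - 1 : ℕ) : ℂ) ≠ 0 := by
      have : (0:ℕ) < Fintype.card F - 1 := by omega
      exact_mod_cast this.ne'
    rwa [Nat.cast_sub hq.le, Nat.cast_one] at this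
  rw [Nat.cast_mul, Nat.cast_mul, Nat.cast_sub hq.le, Nat.cast_one]
  have e1 : ∀ x y : MulChar F ℂ, (x * y⁻¹ = 1) ↔ x = y := fun x y => mul_inv_eq_one
  simp only [e1]
  have key : ∀ (P1 P2 P3 P4 : Prop) [Decidable P1] [Decidable P2] [Decidable P3] [Decidable P4]
      [Decidable (P1 ∧ P2)] [Decidable (P3 ∧ P4)],
      (((Fintype.card F : ℂ) - 1) * ((Fintype.card F : ℂ) - 1) * (Fintype.card F : ℂ))⁻¹ *
        ((Fintype.card F : ℂ) * ((if P1 then (Fintype.card F : ℂ) - 1 else 0) * (if P2 then (Fintype.card F : ℂ) - 1 else 0) +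
          (if P3 then (Fintype.card F : ℂ) - 1 else 0) * (if P4 then (Fintype.card F : ℂ) - 1 else 0)))
        = (if P1 ∧ P2 then 1 else 0) + (if P3 ∧ P4 then 1 else 0) := by
    intro P1 P2 P3 P4 _ _ _ _ _ _
    by_cases c1 : P1 <;> by_cases c2 : P2 <;> by_cases c3 : P3 <;> by_cases c4 : P4 <;>
      simp only [c1, c2, c3, c4, if_true, if_false, and_self, and_true, and_false, mul_zero, zero_mul, add_zero, zero_add] <;>
      field_simp
  exact key _ _ _ _

end Cfsg.Agent.helper12
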