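import Cfsg.Agent.Lib_helper12_Gl2Borel

set_option autoImplicit false

namespace Cfsg.Agent.helper12

open Matrix Cfsg
open scoped ComplexConjugate

theorem classInner_self_eq_zero {G : Type*} [Group G] [Fintype G] (f : G → ℂ) (h : classInner f f = 0) : f = 0 := by
  unfold classInner at h
  have hG : (Nat.card G : ℂ) ≠ 0 := by exact_mod_cast Nat.card_pos.ne'
  have h2 : ∑ g : G, f g * conj (f g) = 0 := by
    rcases mul_eq_zero.mp h with h | h
    · exact absurd (inv_eq_zero.mp h) hG
    · exact h
  have h3 : ∑ g : G, Complex.normSq (f g) = 0 := by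
    have : ((∑ g : G, Complex.normSq (f g) : ℝ) : ℂ) = 0 := by
      rw [Complex.ofReal_sum, ← h2]
      apply Finset.sum_congr rfl
      intro g _
      rw [Complex.mul_conj]
    exact_mod_cast this
  funext g
  have := (Finset.sum_eq_zero_iff_of_nonneg (fun g _ => Complex.normSq_nonneg (f g))).mp h3 g (Finset.mem_univ g)
  exact Complex.normSq_eq_zero.mp this

theorem eq_of_classInner_eq {G : Type*} [Group G] [Fintype G] (f f' : G → ℂ) (c : ℂ)
    (h1 : classInner f f = c) (h2 : classInner f f' = c) (h3 : classInner f' f = c) (h4 : classInner f' f' = c) :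
    f = f' := by
  have : classInner (f - f') (f - f') = 0 := by
    rw [helper24.classInner_sub_left, ← helper24.classInner_conj_symm (f - f') f,
      ← helper24.classInner_conj_symm (f - f') f', helper24.classInner_sub_left, helper24.classInner_sub_left,
      h1, h2, h3, h4]
    simp
  exact sub_eq_zero.mp (classInner_self_eq_zero _ this)

variable {F : Type*} [Field F]

theorem gl2_indBorel_eq_iff [Fintype F] [DecidableEq F] (α β α' β' : MulChar F ℂ) :
    Cfsg.indFun (gl2Borel F) (gl2BorelChar α β) = Cfsg.indFun (gl2Borel F) (gl2BorelChar α' β') ↔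
      (α = α' ∧ β = β') ∨ (α = β' ∧ β = α') := by
  classical
  constructor
  · intro h
    by_contra hcon
    push Not at hcon
    have e1 := gl2_classInner_indBorel α β α' β'
    rw [← h, gl2_classInner_indBorel α β α β, if_pos ⟨rfl, rfl⟩] at e1
    have n1 : ¬ (α = α' ∧ β = β') := fun hc => hcon.1 hc.1 hc.2
    have n2 : ¬ (α = β' ∧ β = α') := fun hc => hcon.2 hc.1 hc.2
    rw [if_neg n1, if_neg n2] at e1
    split_ifs at e1 <;> norm_num at e1
  · rintro (⟨rfl, rfl⟩ | ⟨rfl, rfl⟩)
    · rfl
    · apply eq_of_classInner_eq _ _ ((1 : ℂ) + if α = β then 1 else 0)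
      · rw [gl2_classInner_indBorel, if_pos ⟨rfl, rfl⟩]
        congr 1
        by_cases h : α = β
        · rw [if_pos h, if_pos ⟨h, h.symm⟩]
        · rw [if_neg h, if_neg (fun hc => h hc.1)]
      · rw [gl2_classInner_indBorel, add_comm, if_pos ⟨rfl, rfl⟩]
        congr 1
        by_cases h : α = β
        · rw [if_pos h, if_pos ⟨h, h.symm⟩]
        · rw [if_neg h, if_neg (fun hc => h hc.1)]
      · rw [gl2_classInner_indBorel, add_comm, if_pos ⟨rfl, rfl⟩]
        congr 1
        by_cases h : α = β
        · rw [if_pos h, if_pos ⟨h.symm, h⟩]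
        · rw [if_neg h, if_neg (fun hc => h hc.2)]
      · rw [gl2_classInner_indBorel, if_pos ⟨rfl, rfl⟩]
        congr 1
        by_cases h : α = β
        · rw [if_pos h, if_pos ⟨h.symm, h⟩]
        · rw [if_neg h, if_neg (fun hc => h hc.2)]

theorem gl2_indBorel_isCharacter [Fintype F] [DecidableEq F] (α β : MulChar F ℂ) :
    IsCharacter (GL (Fin 2) F) (indFun (gl2Borel F) (gl2BorelChar α β)) :=
  isCharacter_indFun _ (gl2BorelChar_isCharacter α β)

theorem gl2_indBorel_irr [Fintype F] [DecidableEq F] (α β : MulChar F ℂ) (h : α ≠ β) :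
    IsIrrCharacter (GL (Fin 2) F) (indFun (gl2Borel F) (gl2BorelChar α β)) := by
  classical
  apply isIrrCharacter_of_classInner_self (gl2_indBorel_isCharacter α β)
  rw [gl2_classInner_indBorel, if_pos ⟨rfl, rfl⟩, if_neg (fun hc => h hc.1), add_zero]

end Cfsg.Agent.helper12
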