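import Mathlib
import Cfsg.Agent.Lib_helper12_Gl2Series
import Cfsg.Agent.Lib_helper24_CharValues
import Cfsg.Agent.Lib_helper12_Mat2
import Cfsg.Agent.Lib_helper23_Integral

set_option autoImplicit false

namespace Cfsg.Agent.helper12


open Matrix Cfsg
open scoped ComplexConjugate

variable {F : Type*} [Field F]

instance mulChar_enough [Finite F] : HasEnoughRootsOfUnity ℂ (Monoid.exponent Fˣ) := by
  haveI : NeZero (Monoid.exponent Fˣ) := ⟨Monoid.exponent_ne_zero_of_finite⟩
  infer_instance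

theorem mulChar_card [Fintype F] : Nat.card (MulChar F ℂ) = Fintype.card F - 1 := by
  classical
  rw [MulChar.card_eq_card_units_of_hasEnoughRootsOfUnity F ℂ, Nat.card_eq_fintype_card, Fintype.card_units]

theorem sum_mulChar_apply [Fintype F] [DecidableEq F] [Fintype (MulChar F ℂ)] (y : F) :
    ∑ α : MulChar F ℂ, α y = if y = 1 then ((Fintype.card F : ℂ) - 1) else 0 := by
  split_ifs with h
  · subst h
    simp only [map_one, Finset.sum_const, Finset.card_univ, nsmul_eq_mul, mul_one]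
    have := mulChar_card (F := F)
    rw [Nat.card_eq_fintype_card] at this
    rw [this, Nat.cast_sub Fintype.card_pos, Nat.cast_one]
  · obtain ⟨χ, hχ⟩ := MulChar.exists_apply_ne_one_of_hasEnoughRootsOfUnity F ℂ h
    refine eq_zero_of_mul_eq_self_left hχ ?_
    simp only [Finset.mul_sum, ← MulChar.mul_apply]
    exact Fintype.sum_bijective _ (Group.mulLeft_bijective χ) _ _ fun χ' ↦ rfl

theorem sum_mulChar_units [Fintype F] [DecidableEq F] [Fintype (MulChar F ℂ)] (a a0 : Fˣ) :
    ∑ α : MulChar F ℂ, α (a : F) * conj (α (a0 : F)) = if a = a0 then ((Fintype.card F : ℂ) - 1) else 0 := by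
  have h1 : ∀ α : MulChar F ℂ, α (a : F) * conj (α (a0 : F)) = α ((a * a0⁻¹ : Fˣ) : F) := by
    intro α
    rw [mulChar_conj_apply, MulChar.inv_apply_eq_inv', ← mulChar_units_inv, ← map_mul, Units.val_mul]
  rw [Finset.sum_congr rfl (fun α _ => h1 α), sum_mulChar_apply]
  have : ((a * a0⁻¹ : Fˣ) : F) = 1 ↔ a = a0 := by
    rw [Units.val_eq_one, mul_inv_eq_one]
  simp only [this]



open Matrix Cfsg
open scoped ComplexConjugate

/-- a multiplicative map to ℂ is an irreducible character -/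
theorem isIrrCharacter_of_monoidHom {G : Type*} [Group G] (f : G →* ℂ) : IsIrrCharacter G f := by
  let ρ : Representation ℂ G (Fin 1 → ℂ) :=
    { toFun := fun g => f g • LinearMap.id
      map_one' := by
        rw [map_one, one_smul]
        rfl
      map_mul' := fun g h => by
        rw [map_mul]
        ext v
        simp [mul_assoc]
        ring }
  refine ⟨1, ρ, helper24.rep_irreducible_of_dim_one ρ, ?_⟩
  funext g
  simp [Representation.character, ρ]

/-- inner product of a sum of two irreducibles with an irreducible -/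
theorem classInner_irr_add {G : Type*} [Group G] [Fintype G] {χ₁ χ₂ ψ : G → ℂ}
    (h1 : IsIrrCharacter G χ₁) (h2 : IsIrrCharacter G χ₂) (hψ : IsIrrCharacter G ψ) :
    classInner (χ₁ + χ₂) ψ = (if χ₁ = ψ then 1 else 0) + (if χ₂ = ψ then 1 else 0) := by
  classical
  rw [helper24.classInner_add_left, helper24.irr_classInner h1 hψ, helper24.irr_classInner h2 hψ]

variable {F : Type*} [Field F]

/-- the linear character `α ∘ det` of GL2 -/
noncomputable def gl2DetHom (α : MulChar F ℂ) : GL (Fin 2) F →* ℂ where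
  toFun g := α ((g : Matrix (Fin 2) (Fin 2) F).det)
  map_one' := by simp
  map_mul' g h := by simp [Matrix.det_mul]

theorem gl2DetHom_apply (α : MulChar F ℂ) (g : GL (Fin 2) F) :
    gl2DetHom α g = α ((g : Matrix (Fin 2) (Fin 2) F) 0 0 * (g : Matrix (Fin 2) (Fin 2) F) 1 1 - (g : Matrix (Fin 2) (Fin 2) F) 0 1 * (g : Matrix (Fin 2) (Fin 2) F) 1 0) := by
  change α ((g : Matrix (Fin 2) (Fin 2) F).det) = _
  rw [Matrix.det_fin_two]

theorem gl2DetHom_irr (α : MulChar F ℂ) : IsIrrCharacter (GL (Fin 2) F) (gl2DetHom α) :=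
  isIrrCharacter_of_monoidHom _

theorem gl2DetHom_restrict (α : MulChar F ℂ) :
    (fun b : gl2Borel F => gl2DetHom α (b : GL (Fin 2) F)) = gl2BorelChar α α := by
  funext b
  have h := (mem_gl2Borel (b : GL (Fin 2) F)).mp b.2
  rw [gl2DetHom_apply, h, mul_zero, sub_zero, map_mul]
  rfl

theorem gl2BorelChar_irr (α β : MulChar F ℂ) : IsIrrCharacter (gl2Borel F) (gl2BorelChar α β) :=
  isIrrCharacter_of_monoidHom (gl2BorelHom α β)

theorem gl2BorelChar_injective {α β α' β' : MulChar F ℂ} (h : gl2BorelChar α β = gl2BorelChar α' β') :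
    α = α' ∧ β = β' := by
  constructor
  · ext a
    have := congrFun h ⟨gl2UT a 1 0, (mem_gl2Borel _).mpr rfl⟩
    simpa [gl2BorelChar, gl2UT_coe] using this
  · ext a
    have := congrFun h ⟨gl2UT 1 a 0, (mem_gl2Borel _).mpr rfl⟩
    simpa [gl2BorelChar, gl2UT_coe] using this

/-- ⟨Ind(α,β), γ∘det⟩ = [α = γ ∧ β = γ] -/
theorem gl2_classInner_indBorel_det [Fintype F] [DecidableEq F] (α β γ : MulChar F ℂ) [Decidable (α = γ ∧ β = γ)] :
    classInner (indFun (gl2Borel F) (gl2BorelChar α β)) (gl2DetHom γ) = if α = γ ∧ β = γ then 1 else 0 := by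
  classical
  have : Fintype (gl2Borel F) := Fintype.ofFinite _
  rw [classInner_indFun_eq_restrict _ _ _ (helper24.char_isClassFunction (helper24.irr_isCharacter (gl2DetHom_irr γ))),
    gl2DetHom_restrict, helper24.irr_classInner (gl2BorelChar_irr α β) (gl2BorelChar_irr γ γ)]
  refine if_congr ?_ rfl rfl
  constructor
  · intro h; exact gl2BorelChar_injective h
  · rintro ⟨rfl, rfl⟩; rfl

/-- Steinberg-type characters of GL2 -/
noncomputable def gl2St [Fintype F] [DecidableEq F] (α : MulChar F ℂ) : GL (Fin 2) F → ℂ :=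
  indFun (gl2Borel F) (gl2BorelChar α α) - gl2DetHom α

theorem gl2_indBorel_diag [Fintype F] [DecidableEq F] (α : MulChar F ℂ) :
    indFun (gl2Borel F) (gl2BorelChar α α) = (gl2DetHom α : GL (Fin 2) F → ℂ) + gl2St α := by
  unfold gl2St
  abel

theorem gl2St_irr [Fintype F] [DecidableEq F] (α : MulChar F ℂ) :
    IsIrrCharacter (GL (Fin 2) F) (gl2St α) := by
  classical
  have hnorm : classInner (indFun (gl2Borel F) (gl2BorelChar α α)) (indFun (gl2Borel F) (gl2BorelChar α α)) = 2 := by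
    rw [gl2_classInner_indBorel, if_pos ⟨rfl, rfl⟩]
    norm_num
  obtain ⟨χ₁, χ₂, h1, h2, hne, hsum⟩ := exists_irr_add_of_classInner_self_eq_two (gl2_indBorel_isCharacter α α) hnorm
  have hdet := gl2_classInner_indBorel_det α α α
  rw [if_pos ⟨rfl, rfl⟩, hsum, classInner_irr_add h1 h2 (gl2DetHom_irr α)] at hdet
  unfold gl2St
  rw [hsum]
  by_cases c1 : χ₁ = gl2DetHom α
  · have : χ₁ + χ₂ - (gl2DetHom α : GL (Fin 2) F → ℂ) = χ₂ := by rw [c1]; abel
    rw [this]; exact h2
  · by_cases c2 : χ₂ = gl2DetHom α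
    · have : χ₁ + χ₂ - (gl2DetHom α : GL (Fin 2) F → ℂ) = χ₁ := by rw [c2]; abel
      rw [this]; exact h1
    · rw [if_neg c1, if_neg c2] at hdet
      norm_num at hdet

/-- a non-cuspidal irreducible character is one of the known ones -/
theorem gl2_irr_of_classInner_ne_zero [Fintype F] [DecidableEq F] (α β : MulChar F ℂ)
    {χ : GL (Fin 2) F → ℂ} (hχ : IsIrrCharacter (GL (Fin 2) F) χ)
    (h : classInner (indFun (gl2Borel F) (gl2BorelChar α β)) χ ≠ 0) :
    (α ≠ β ∧ χ = indFun (gl2Borel F) (gl2BorelChar α β)) ∨ (α = β ∧ (χ = gl2DetHom α ∨ χ = gl2St α)) := by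
  classical
  by_cases hab : α = β
  · right
    subst hab
    refine ⟨rfl, ?_⟩
    rw [gl2_indBorel_diag, classInner_irr_add (gl2DetHom_irr α) (gl2St_irr α) hχ] at h
    by_cases c1 : (gl2DetHom α : GL (Fin 2) F → ℂ) = χ
    · left; exact c1.symm
    · by_cases c2 : gl2St α = χ
      · right; exact c2.symm
      · rw [if_neg c1, if_neg c2] at h
        norm_num at h
  · left
    refine ⟨hab, ?_⟩
    rw [helper24.irr_classInner (gl2_indBorel_irr α β hab) hχ] at h
    by_contra hc
    rw [if_neg (fun e => hc e.symm)] at h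
    exact h rfl

theorem gl2_indBorel_one [Fintype F] [DecidableEq F] (α β : MulChar F ℂ) :
    indFun (gl2Borel F) (gl2BorelChar α β) 1 = (Fintype.card F : ℂ) + 1 := by
  rw [gl2_indBorel_apply]
  simp
  ring

theorem gl2DetHom_one (α : MulChar F ℂ) : gl2DetHom α (1 : GL (Fin 2) F) = 1 := map_one _

theorem gl2St_one [Fintype F] [DecidableEq F] (α : MulChar F ℂ) :
    gl2St α 1 = (Fintype.card F : ℂ) := by
  unfold gl2St
  rw [Pi.sub_apply, gl2_indBorel_one, gl2DetHom_one]
  ring

/-- Fourier inversion on the unit group of a finite field -/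
theorem mulChar_fourier_inversion [Fintype F] [DecidableEq F] (f : Fˣ → ℂ)
    (h : ∀ α : MulChar F ℂ, ∑ a : Fˣ, α (a : F) * f a = 0) : f = 0 := by
  classical
  have : Fintype (MulChar F ℂ) := Fintype.ofFinite _
  funext a0
  have h1 : ∑ α : MulChar F ℂ, conj (α (a0 : F)) * ∑ a : Fˣ, α (a : F) * f a = 0 := by
    apply Finset.sum_eq_zero
    intro α _
    rw [h α, mul_zero]
  have h2 : ∑ α : MulChar F ℂ, conj (α (a0 : F)) * ∑ a : Fˣ, α (a : F) * f a
      = ∑ a : Fˣ, (∑ α : MulChar F ℂ, α (a : F) * conj (α (a0 : F))) * f a := by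
    simp only [Finset.mul_sum, Finset.sum_mul]
    rw [Finset.sum_comm]
    apply Finset.sum_congr rfl
    intro a _
    apply Finset.sum_congr rfl
    intro α _
    ring
  rw [h2] at h1
  simp only [sum_mulChar_units, ite_mul, zero_mul, Finset.sum_ite_eq', Finset.mem_univ, if_true] at h1
  have hq : (1:ℕ) < Fintype.card F := Fintype.one_lt_card
  have hq1 : (Fintype.card F : ℂ) - 1 ≠ 0 := by
    have : ((Fintype.card F - 1 : ℕ) : ℂ) ≠ 0 := by
      have : (0:ℕ) < Fintype.card F - 1 := by omega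
      exact_mod_cast this.ne'
    rwa [Nat.cast_sub hq.le, Nat.cast_one] at this
  exact (mul_eq_zero.mp h1).resolve_left hq1

/-- expression of ⟨Ind(α,β), ψ⟩ as a sum over the Borel subgroup -/
theorem gl2_classInner_indBorel_eq [Fintype F] [DecidableEq F] (α β : MulChar F ℂ) (ψ : GL (Fin 2) F → ℂ)
    (hψ : IsClassFunction (GL (Fin 2) F) ψ) :
    classInner (indFun (gl2Borel F) (gl2BorelChar α β)) ψ
      = (Nat.card (gl2Borel F) : ℂ)⁻¹ * ∑ a : Fˣ, α (a : F) * ∑ d : Fˣ, β (d : F) * ∑ x : F, conj (ψ (gl2UT a d x)) := by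
  classical
  rw [classInner_indFun _ _ _ hψ]
  simp only [extendByZero_gl2BorelChar, ite_mul, zero_mul]
  rw [sum_ite_eq_sum_of_bij (fun g : GL (Fin 2) F => (g : Matrix (Fin 2) (Fin 2) F) 1 0 = 0)
    (fun p : (Fˣ × Fˣ) × F => gl2UT p.1.1 p.1.2 p.2) gl2UT_injective (fun p => by simp [gl2UT_coe]) gl2UT_surj]
  rw [Fintype.sum_prod_type, Fintype.sum_prod_type]
  congr 1
  apply Finset.sum_congr rfl
  intro a _
  rw [Finset.mul_sum]
  apply Finset.sum_congr rfl
  intro d _
  rw [Finset.mul_sum, Finset.mul_sum]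
  apply Finset.sum_congr rfl
  intro x _
  simp only [gl2UT_00, gl2UT_11]
  ring

/-- cuspidal class functions of GL2 -/
def Gl2Cuspidal [Fintype F] [DecidableEq F] (χ : GL (Fin 2) F → ℂ) : Prop :=
  ∀ α β : MulChar F ℂ, classInner (indFun (gl2Borel F) (gl2BorelChar α β)) χ = 0

theorem gl2_cuspidal_sum [Fintype F] [DecidableEq F] {χ : GL (Fin 2) F → ℂ}
    (hcl : IsClassFunction (GL (Fin 2) F) χ) (hc : Gl2Cuspidal χ) (a0 d0 : Fˣ) :
    ∑ x : F, χ (gl2UT a0 d0 x) = 0 := by
  classical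
  have hB : (Nat.card (gl2Borel F) : ℂ)⁻¹ ≠ 0 := by
    apply inv_ne_zero
    exact_mod_cast Nat.card_pos.ne'
  have h0 : ∀ α β : MulChar F ℂ, ∑ a : Fˣ, α (a : F) * ∑ d : Fˣ, β (d : F) * ∑ x : F, conj (χ (gl2UT a d x)) = 0 := by
    intro α β
    have := hc α β
    rw [gl2_classInner_indBorel_eq α β χ hcl] at this
    exact (mul_eq_zero.mp this).resolve_left hB
  have h1 : ∀ β : MulChar F ℂ, (fun a : Fˣ => ∑ d : Fˣ, β (d : F) * ∑ x : F, conj (χ (gl2UT a d x))) = 0 :=
    fun β => mulChar_fourier_inversion _ (fun α => h0 α β)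
  have h2 : (fun d : Fˣ => ∑ x : F, conj (χ (gl2UT a0 d x))) = 0 :=
    mulChar_fourier_inversion _ (fun β => congrFun (h1 β) a0)
  have h3 := congrFun h2 d0
  simp only [Pi.zero_apply] at h3
  rw [← map_sum] at h3
  exact (map_eq_zero _).mp h3

theorem gl2UT_isConj (a d : Fˣ) (x y : F) (hx : a ≠ d ∨ x ≠ 0) (hy : a ≠ d ∨ y ≠ 0) :
    IsConj (gl2UT a d x) (gl2UT a d y) := by
  apply gl2_isConj_of_trace_det
  · rintro ⟨h1, h2, h3⟩
    simp [gl2UT_coe] at h1 h3
    rcases hx with hx | hx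
    · exact hx (Units.ext h3)
    · exact hx h1
  · rintro ⟨h1, h2, h3⟩
    simp [gl2UT_coe] at h1 h3
    rcases hy with hy | hy
    · exact hy (Units.ext h3)
    · exact hy h1
  · simp [gl2UT_coe, Matrix.trace_fin_two]
  · simp [gl2UT_coe, Matrix.det_fin_two]

theorem classFunction_of_isConj {G : Type*} [Group G] {χ : G → ℂ} (h : IsClassFunction G χ) {a b : G}
    (hab : IsConj a b) : χ a = χ b := by
  obtain ⟨c, hc⟩ := isConj_iff.mp hab
  rw [← hc, h]

/-- a cuspidal class function vanishes on split regular semisimple elements -/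
theorem gl2_cuspidal_split [Fintype F] [DecidableEq F] {χ : GL (Fin 2) F → ℂ}
    (hcl : IsClassFunction (GL (Fin 2) F) χ) (hc : Gl2Cuspidal χ) (a d : Fˣ) (had : a ≠ d) :
    χ (gl2UT a d 0) = 0 := by
  have h := gl2_cuspidal_sum hcl hc a d
  have h1 : ∀ x : F, χ (gl2UT a d x) = χ (gl2UT a d 0) :=
    fun x => classFunction_of_isConj hcl (gl2UT_isConj a d x 0 (Or.inl had) (Or.inl had))
  rw [Finset.sum_congr rfl (fun x _ => h1 x), Finset.sum_const, Finset.card_univ, nsmul_eq_mul] at h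
  have hq0 : (Fintype.card F : ℂ) ≠ 0 := by
    have : (0:ℕ) < Fintype.card F := Fintype.card_pos
    exact_mod_cast this.ne'
  exact (mul_eq_zero.mp h).resolve_left hq0

/-- value of a cuspidal class function at a transvection -/
theorem gl2_cuspidal_unipotent [Fintype F] [DecidableEq F] {χ : GL (Fin 2) F → ℂ}
    (hcl : IsClassFunction (GL (Fin 2) F) χ) (hc : Gl2Cuspidal χ) :
    χ 1 + ((Fintype.card F : ℂ) - 1) * χ (gl2UT 1 1 1) = 0 := by
  have h := gl2_cuspidal_sum hcl hc 1 1
  have h1 : ∀ x : F, x ≠ 0 → χ (gl2UT 1 1 x) = χ (gl2UT 1 1 1) :=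
    fun x hx => classFunction_of_isConj hcl (gl2UT_isConj 1 1 x 1 (Or.inr hx) (Or.inr one_ne_zero))
  have h0 : gl2UT (1 : Fˣ) 1 (0 : F) = 1 := by
    apply Units.ext
    rw [gl2UT_coe]
    ext i j
    fin_cases i <;> fin_cases j <;> simp
  rw [← Finset.add_sum_erase Finset.univ _ (Finset.mem_univ (0 : F)), h0,
    Finset.sum_congr rfl (fun x hx => h1 x (Finset.ne_of_mem_erase hx)), Finset.sum_const,
    Finset.card_erase_of_mem (Finset.mem_univ _), Finset.card_univ, nsmul_eq_mul,
    Nat.cast_sub Fintype.card_pos, Nat.cast_one] at h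
  exact h

/-- the degree of a cuspidal character is divisible by q - 1 -/
theorem gl2_cuspidal_dvd [Fintype F] [DecidableEq F] {χ : GL (Fin 2) F → ℂ}
    (hχ : IsCharacter (GL (Fin 2) F) χ) (hc : Gl2Cuspidal χ) (n : ℕ) (hn : χ 1 = n) :
    (Fintype.card F - 1) ∣ n := by
  have h := gl2_cuspidal_unipotent (helper24.char_isClassFunction hχ) hc
  have hint := helper24.char_isIntegral hχ (gl2UT 1 1 1)
  have hq : 1 ≤ Fintype.card F := Fintype.card_pos
  by_cases hq1 : Fintype.card F - 1 = 0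
  · have : (Fintype.card F : ℂ) - 1 = 0 := by
      have : Fintype.card F = 1 := by omega
      rw [this]; simp
    rw [this, zero_mul, add_zero, hn] at h
    have : n = 0 := by exact_mod_cast h
    rw [this]; exact dvd_zero _
  · have key := helper23.int_dvd_of_eq_mul_isIntegral (-(n : ℤ)) ((Fintype.card F - 1 : ℕ) : ℤ)
      (by exact_mod_cast hq1) (χ (gl2UT 1 1 1)) hint (by
        rw [hn] at h
        push_cast [Nat.cast_sub hq]
        linear_combination -h)
    rw [dvd_neg] at key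
    exact_mod_cast key

theorem classInner_sub_right {G : Type*} [Group G] [Fintype G] (f g h : G → ℂ) :
    classInner f (g - h) = classInner f g - classInner f h := by
  simp [classInner, mul_sub, Finset.sum_sub_distrib]

theorem all_eq_of_sum_sq {ι : Type*} (s : Finset ι) (d : ι → ℕ) (m : ℕ)
    (hdvd : ∀ i ∈ s, m ∣ d i) (hpos : ∀ i ∈ s, 0 < d i) (hsum : ∑ i ∈ s, d i ^ 2 = s.card * m ^ 2) :
    ∀ i ∈ s, d i = m := by
  have hle : ∀ i ∈ s, m ^ 2 ≤ d i ^ 2 := fun i hi =>
    Nat.pow_le_pow_left (Nat.le_of_dvd (hpos i hi) (hdvd i hi)) 2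
  have hsum' : ∑ i ∈ s, m ^ 2 = ∑ i ∈ s, d i ^ 2 := by
    rw [hsum, Finset.sum_const, smul_eq_mul]
  intro i hi
  have := (Finset.sum_eq_sum_iff_of_le hle).mp hsum' i hi
  exact (Nat.pow_left_injective (by norm_num : 2 ≠ 0) this).symm

theorem two_mul_choose_two_add (m : ℕ) : 2 * m.choose 2 + m = m * m := by
  induction m with
  | zero => simp
  | succ k ih =>
    rw [Nat.choose_succ_succ, Nat.choose_one_right]
    nlinarith

theorem gl2_count_arith (q m c2 C S : ℕ) (hq : q = m + 1) (hc2 : 2 * c2 + m = m * m)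
    (h1 : C + (m + (m + c2)) = q ^ 2 - 1)
    (h2 : S + (m * 1 ^ 2 + (m * q ^ 2 + c2 * (q + 1) ^ 2)) = (q ^ 2 - 1) * (q ^ 2 - q)) :
    S = C * m ^ 2 := by
  subst hq
  have e1 : (m + 1) ^ 2 - 1 = m ^ 2 + 2 * m := by
    have : (m + 1) ^ 2 = m ^ 2 + 2 * m + 1 := by ring
    omega
  have e2 : (m + 1) ^ 2 - (m + 1) = m ^ 2 + m := by
    have : (m + 1) ^ 2 = m ^ 2 + m + (m + 1) := by ring
    omega
  rw [e1] at h1
  rw [e1, e2] at h2
  zify at *
  linear_combination h2 - (m:ℤ) ^ 2 * h1 - (2 * (m:ℤ) + 2) * hc2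

theorem gl2_classInner_indBorel_St [Fintype F] [DecidableEq F] (α β γ : MulChar F ℂ) [Decidable (α = γ ∧ β = γ)] :
    classInner (indFun (gl2Borel F) (gl2BorelChar α β)) (gl2St γ) = if α = γ ∧ β = γ then 1 else 0 := by
  classical
  unfold gl2St
  rw [classInner_sub_right, gl2_classInner_indBorel, gl2_classInner_indBorel_det]
  by_cases h : α = γ ∧ β = γ
  · simp [h]
  · simp [h]

theorem gl2DetHom_injective {γ γ' : MulChar F ℂ} (h : (gl2DetHom γ : GL (Fin 2) F → ℂ) = gl2DetHom γ') : γ = γ' := by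
  ext a
  have := congrFun h (gl2UT a 1 0)
  simpa [gl2DetHom_apply, gl2UT_coe] using this

theorem gl2St_injective [Fintype F] [DecidableEq F] {γ γ' : MulChar F ℂ} (h : gl2St γ = gl2St γ') : γ = γ' := by
  classical
  have h1 := gl2_classInner_indBorel_St γ γ γ
  rw [if_pos ⟨rfl, rfl⟩, h, gl2_classInner_indBorel_St] at h1
  by_contra hne
  rw [if_neg (fun hc => hne hc.1)] at h1
  exact zero_ne_one h1

/-- the principal series as a function of an unordered pair -/
noncomputable def gl2IndSym [Fintype F] [DecidableEq F] : Sym2 (MulChar F ℂ) → (GL (Fin 2) F → ℂ) :=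
  Sym2.lift ⟨fun α β => indFun (gl2Borel F) (gl2BorelChar α β), fun α β =>
    (gl2_indBorel_eq_iff α β β α).mpr (Or.inr ⟨rfl, rfl⟩)⟩

theorem gl2IndSym_mk [Fintype F] [DecidableEq F] (α β : MulChar F ℂ) :
    gl2IndSym s(α, β) = indFun (gl2Borel F) (gl2BorelChar α β) := rfl

theorem gl2IndSym_irr [Fintype F] [DecidableEq F] (z : Sym2 (MulChar F ℂ)) (hz : ¬ z.IsDiag) :
    IsIrrCharacter (GL (Fin 2) F) (gl2IndSym z) := by
  induction z using Sym2.ind with
  | _ α β =>
    rw [gl2IndSym_mk]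
    exact gl2_indBorel_irr α β (fun h => hz (Sym2.mk_isDiag_iff.mpr h))

theorem gl2IndSym_injective [Fintype F] [DecidableEq F] : Function.Injective (gl2IndSym (F := F)) := by
  intro z z' h
  induction z using Sym2.ind with
  | _ α β =>
    induction z' using Sym2.ind with
    | _ α' β' =>
      rw [gl2IndSym_mk, gl2IndSym_mk, gl2_indBorel_eq_iff] at h
      rw [Sym2.eq_iff]
      exact h

theorem gl2IndSym_one [Fintype F] [DecidableEq F] (z : Sym2 (MulChar F ℂ)) :
    gl2IndSym z 1 = (Fintype.card F : ℂ) + 1 := by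
  induction z using Sym2.ind with
  | _ α β => rw [gl2IndSym_mk, gl2_indBorel_one]

/-- the known irreducible characters of GL2 -/
noncomputable def gl2Known [Fintype F] [DecidableEq F] :
    MulChar F ℂ ⊕ (MulChar F ℂ ⊕ {z : Sym2 (MulChar F ℂ) // ¬ z.IsDiag}) → IrrCharacter (GL (Fin 2) F) :=
  Sum.elim (fun γ => ⟨gl2DetHom γ, gl2DetHom_irr γ⟩)
    (Sum.elim (fun γ => ⟨gl2St γ, gl2St_irr γ⟩) (fun z => ⟨gl2IndSym z.1, gl2IndSym_irr z.1 z.2⟩))

theorem natCast_card_ne [Fintype F] : (1 : ℂ) ≠ (Fintype.card F : ℂ) ∧ (1 : ℂ) ≠ (Fintype.card F : ℂ) + 1 ∧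
    (Fintype.card F : ℂ) ≠ (Fintype.card F : ℂ) + 1 := by
  have hq : (1:ℕ) < Fintype.card F := Fintype.one_lt_card
  refine ⟨?_, ?_, ?_⟩
  · exact_mod_cast hq.ne
  · have : (1 : ℕ) ≠ Fintype.card F + 1 := by omega
    exact_mod_cast this
  · have : Fintype.card F ≠ Fintype.card F + 1 := by omega
    exact_mod_cast this

theorem gl2Known_injective [Fintype F] [DecidableEq F] : Function.Injective (gl2Known (F := F)) := by
  obtain ⟨n1, n2, n3⟩ := natCast_card_ne (F := F)
  rintro (γ | γ | z) (γ' | γ' | z') h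
  · have := congrArg Subtype.val h
    simp only [gl2Known, Sum.elim_inl] at this
    rw [gl2DetHom_injective this]
  · exfalso
    have := congrFun (congrArg Subtype.val h) 1
    simp only [gl2Known, Sum.elim_inl, Sum.elim_inr] at this
    rw [gl2DetHom_one, gl2St_one] at this
    exact n1 this
  · exfalso
    have := congrFun (congrArg Subtype.val h) 1
    simp only [gl2Known, Sum.elim_inl, Sum.elim_inr] at this
    rw [gl2DetHom_one, gl2IndSym_one] at this
    exact n2 this
  · exfalso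
    have := congrFun (congrArg Subtype.val h) 1
    simp only [gl2Known, Sum.elim_inl, Sum.elim_inr] at this
    rw [gl2DetHom_one, gl2St_one] at this
    exact n1 this.symm
  · have := congrArg Subtype.val h
    simp only [gl2Known, Sum.elim_inl, Sum.elim_inr] at this
    rw [gl2St_injective this]
  · exfalso
    have := congrFun (congrArg Subtype.val h) 1
    simp only [gl2Known, Sum.elim_inl, Sum.elim_inr] at this
    rw [gl2St_one, gl2IndSym_one] at this
    exact n3 this
  · exfalso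
    have := congrFun (congrArg Subtype.val h) 1
    simp only [gl2Known, Sum.elim_inl, Sum.elim_inr] at this
    rw [gl2DetHom_one, gl2IndSym_one] at this
    exact n2 this.symm
  · exfalso
    have := congrFun (congrArg Subtype.val h) 1
    simp only [gl2Known, Sum.elim_inl, Sum.elim_inr] at this
    rw [gl2St_one, gl2IndSym_one] at this
    exact n3 this.symm
  · have := congrArg Subtype.val h
    simp only [gl2Known, Sum.elim_inr] at this
    have := gl2IndSym_injective this
    rw [Subtype.ext this]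

/-- an irreducible character outside the known list is cuspidal -/
theorem gl2_cuspidal_of_not_known [Fintype F] [DecidableEq F] (χ : IrrCharacter (GL (Fin 2) F))
    (h : χ ∉ Set.range (gl2Known (F := F))) : Gl2Cuspidal (χ : GL (Fin 2) F → ℂ) := by
  intro α β
  by_contra hne
  apply h
  rcases gl2_irr_of_classInner_ne_zero α β χ.2 hne with ⟨hab, e⟩ | ⟨hab, e | e⟩
  · exact ⟨Sum.inr (Sum.inr ⟨s(α, β), fun hc => hab (Sym2.mk_isDiag_iff.mp hc)⟩), Subtype.ext e.symm⟩
  · exact ⟨Sum.inl α, Subtype.ext e.symm⟩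
  · exact ⟨Sum.inr (Sum.inl α), Subtype.ext e.symm⟩

theorem gl2_card [Fintype F] : Nat.card (GL (Fin 2) F) = (Fintype.card F ^ 2 - 1) * (Fintype.card F ^ 2 - Fintype.card F) := by
  rw [Matrix.card_GL_field]
  simp [Fin.prod_univ_two]

/-- counting: cuspidal characters have degree q - 1, and there are q(q-1)/2 of them -/
theorem gl2_cuspidal_count [Fintype F] [DecidableEq F] [Fintype (IrrCharacter (GL (Fin 2) F))]
    [DecidableEq (IrrCharacter (GL (Fin 2) F))] [Fintype (MulChar F ℂ)] :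
    (∀ χ : IrrCharacter (GL (Fin 2) F), χ ∉ Finset.univ.image (gl2Known (F := F)) →
      charDegree (χ : GL (Fin 2) F → ℂ) = Fintype.card F - 1) ∧
    2 * (Finset.univ.image (gl2Known (F := F)))ᶜ.card = Fintype.card F * (Fintype.card F - 1) := by
  classical
  set q := Fintype.card F with hq
  set m := q - 1 with hm
  have hqpos : 0 < q := Fintype.card_pos
  have hqm : q = m + 1 := by omega
  set K : Finset (IrrCharacter (GL (Fin 2) F)) := Finset.univ.image (gl2Known (F := F)) with hK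
  let d : IrrCharacter (GL (Fin 2) F) → ℕ := fun χ => charDegree (χ : GL (Fin 2) F → ℂ)
  have hM : Fintype.card (MulChar F ℂ) = m := by
    rw [← Nat.card_eq_fintype_card, mulChar_card]
  have hSym : Fintype.card {z : Sym2 (MulChar F ℂ) // ¬ z.IsDiag} = m.choose 2 := by
    rw [Sym2.card_subtype_not_diag, hM]
  have hKcard : K.card = m + (m + m.choose 2) := by
    rw [hK, Finset.card_image_of_injective _ gl2Known_injective, Finset.card_univ, Fintype.card_sum,
      Fintype.card_sum, hM, hSym]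
  have hIrr : Fintype.card (IrrCharacter (GL (Fin 2) F)) = q ^ 2 - 1 := by
    rw [← Nat.card_eq_fintype_card, helper24.card_irr_eq_card_conjClasses, card_conjClasses_gl2]
  have hC : Kᶜ.card + (m + (m + m.choose 2)) = q ^ 2 - 1 := by
    rw [← hKcard, ← hIrr, Finset.card_compl_add_card]
  have hKsum : ∑ χ ∈ K, d χ ^ 2 = m * 1 ^ 2 + (m * q ^ 2 + m.choose 2 * (q + 1) ^ 2) := by
    rw [hK, Finset.sum_image (fun a _ b _ h => gl2Known_injective h), Fintype.sum_sum_type, Fintype.sum_sum_type]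
    have e1 : ∀ γ : MulChar F ℂ, d (gl2Known (Sum.inl γ)) = 1 := fun γ =>
      helper24.charDegree_natCast _ 1 (by simp [gl2Known, gl2DetHom_one])
    have e2 : ∀ γ : MulChar F ℂ, d (gl2Known (Sum.inr (Sum.inl γ))) = q := fun γ =>
      helper24.charDegree_natCast _ q (gl2St_one γ)
    have e3 : ∀ z : {z : Sym2 (MulChar F ℂ) // ¬ z.IsDiag}, d (gl2Known (Sum.inr (Sum.inr z))) = q + 1 := fun z =>
      helper24.charDegree_natCast _ (q + 1) (by
        have := gl2IndSym_one z.1
        rw [Nat.cast_add, Nat.cast_one]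
        exact this)
    simp only [e1, e2, e3, Finset.sum_const, Finset.card_univ, smul_eq_mul, hM, hSym]
  have hS : ∑ χ ∈ Kᶜ, d χ ^ 2 + (m * 1 ^ 2 + (m * q ^ 2 + m.choose 2 * (q + 1) ^ 2)) = (q ^ 2 - 1) * (q ^ 2 - q) := by
    rw [← hKsum, ← gl2_card, ← helper24.sum_irr_degree_sq, Finset.sum_compl_add_sum]
  have key := gl2_count_arith q m (m.choose 2) Kᶜ.card (∑ χ ∈ Kᶜ, d χ ^ 2) hqm (two_mul_choose_two_add m) hC hS
  constructor
  · intro χ hχ
    have hcusp : ∀ ψ ∈ Kᶜ, Gl2Cuspidal (ψ : GL (Fin 2) F → ℂ) := by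
      intro ψ hψ
      apply gl2_cuspidal_of_not_known
      intro hc
      rw [Finset.mem_compl] at hψ
      apply hψ
      obtain ⟨t, ht⟩ := hc
      exact Finset.mem_image.mpr ⟨t, Finset.mem_univ _, ht⟩
    refine all_eq_of_sum_sq Kᶜ d m ?_ ?_ key χ (Finset.mem_compl.mpr hχ)
    · intro ψ hψ
      exact gl2_cuspidal_dvd (helper24.irr_isCharacter ψ.2) (hcusp ψ hψ) _
        (helper24.char_charDegree_cast (helper24.irr_isCharacter ψ.2)).symm
    · intro ψ _
      exact helper24.irr_charDegree_pos ψ.2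
  · have h2 := two_mul_choose_two_add m
    have e1 : q ^ 2 - 1 = m ^ 2 + 2 * m := by
      rw [hqm]
      have : (m + 1) ^ 2 = m ^ 2 + 2 * m + 1 := by ring
      omega
    rw [e1] at hC
    rw [hqm]
    nlinarith

end Cfsg.Agent.helper12
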