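import Cfsg.Agent.Lib_helper12_Gl2Table
import Cfsg.Agent.Lib_helper5_QE
import Cfsg.Prelude.Def_ParabolicCharacters

set_option autoImplicit false

namespace Cfsg.Agent.helper12

open Matrix Cfsg
open scoped ComplexConjugate

variable {F : Type*} [Field F]

theorem gl2BorelChar_one_one (b : gl2Borel F) : gl2BorelChar (1 : MulChar F ℂ) 1 b = 1 := by
  have h := (mem_gl2Borel (b : GL (Fin 2) F)).mp b.2
  have hdet := (Matrix.GeneralLinearGroup.det (b : GL (Fin 2) F)).ne_zero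
  rw [Matrix.GeneralLinearGroup.val_det_apply, Matrix.det_fin_two, h, mul_zero, sub_zero] at hdet
  have h0 := left_ne_zero_of_mul hdet
  have h1 := right_ne_zero_of_mul hdet
  unfold gl2BorelChar
  rw [MulChar.one_apply (isUnit_iff_ne_zero.mpr h0), MulChar.one_apply (isUnit_iff_ne_zero.mpr h1), one_mul]

theorem fixedPointCharacter_gl2Borel [Fintype F] [DecidableEq F] (g : GL (Fin 2) F) :
    Cfsg.fixedPointCharacter (Cfsg.upperTriangularGL 2 F) g
      = indFun (gl2Borel F) (gl2BorelChar (1 : MulChar F ℂ) 1) g := by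
  have h : gl2BorelChar (1 : MulChar F ℂ) 1 = fun _ => (1 : ℂ) := funext gl2BorelChar_one_one
  rw [h, helper5.indFun_one_eq_piN]
  rfl

/-- S2308 -/
theorem gl2_perm_char_values [Fintype F] (g : Matrix.GeneralLinearGroup (Fin 2) F) :
    ((∃ a : F, (g : Matrix (Fin 2) (Fin 2) F) = a • (1 : Matrix (Fin 2) (Fin 2) F)) → Cfsg.fixedPointCharacter (Cfsg.upperTriangularGL 2 F) g = Fintype.card F + 1) ∧
    ((g : Matrix (Fin 2) (Fin 2) F) 0 1 = 0 → (g : Matrix (Fin 2) (Fin 2) F) 1 0 = 0 → (g : Matrix (Fin 2) (Fin 2) F) 0 0 ≠ (g : Matrix (Fin 2) (Fin 2) F) 1 1 →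
      Cfsg.fixedPointCharacter (Cfsg.upperTriangularGL 2 F) g = 2) ∧
    ((∀ (c : F) (v : Fin 2 → F), v ≠ 0 → (g : Matrix (Fin 2) (Fin 2) F).mulVec v ≠ c • v) → Cfsg.fixedPointCharacter (Cfsg.upperTriangularGL 2 F) g = 0) ∧
    ((g : Matrix (Fin 2) (Fin 2) F) 1 0 = 0 → (g : Matrix (Fin 2) (Fin 2) F) 0 0 = (g : Matrix (Fin 2) (Fin 2) F) 1 1 → (g : Matrix (Fin 2) (Fin 2) F) 0 1 ≠ 0 →
      Cfsg.fixedPointCharacter (Cfsg.upperTriangularGL 2 F) g = 1) := by
  classical
  rw [fixedPointCharacter_gl2Borel]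
  refine ⟨?_, ?_, ?_, ?_⟩
  · rintro ⟨a, ha⟩
    have h10 : (g : Matrix (Fin 2) (Fin 2) F) 1 0 = 0 := by rw [ha]; simp
    obtain ⟨a', d', x, hg, ha', hd', hx⟩ := gl2_eq_gl2UT g h10
    have e1 : (a' : F) = a := by rw [ha', ha]; simp
    have e2 : (d' : F) = a := by rw [hd', ha]; simp
    have e3 : x = 0 := by rw [hx, ha]; simp
    rw [hg, gl2_indBorel_gl2UT, e1, e2, e3, sub_self]
    have hau : IsUnit a := by rw [← e1]; exact a'.isUnit
    simp only [zero_mul, if_true, MulChar.one_apply hau, mul_one, Finset.sum_const, Finset.card_univ, nsmul_eq_mul]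
    ring
  · intro h01 h10 hne
    obtain ⟨a', d', x, hg, ha', hd', hx⟩ := gl2_eq_gl2UT g h10
    have e3 : x = 0 := by rw [hx, h01]
    have had : a' ≠ d' := by
      intro h
      apply hne
      rw [← ha', ← hd', h]
    rw [hg, e3, gl2_indBorel_split _ _ a' d' had]
    simp only [MulChar.one_apply_coe]
    norm_num
  · intro h
    exact gl2_indBorel_noEigenvector 1 1 h
  · intro h10 heq hne
    obtain ⟨a', d', x, hg, ha', hd', hx⟩ := gl2_eq_gl2UT g h10
    have hx0 : x ≠ 0 := by rw [hx]; exact hne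
    have e : (d' : F) - (a' : F) = 0 := by rw [ha', hd', heq, sub_self]
    rw [hg, gl2_indBorel_gl2UT, e]
    simp only [zero_mul, if_neg hx0, Finset.sum_const_zero, add_zero, MulChar.one_apply_coe, mul_one]

end Cfsg.Agent.helper12
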