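import Cfsg.Agent.Lib_helper12_Gl2Irr

set_option autoImplicit false

namespace Cfsg.Agent.helper12

open Matrix Cfsg
open scoped ComplexConjugate

variable {F : Type*} [Field F]

theorem mulChar_norm_unit [Fintype F] (γ : MulChar F ℂ) (a : Fˣ) : ‖γ (a : F)‖ = 1 := by
  classical
  apply Complex.norm_eq_one_of_pow_eq_one (n := Fintype.card Fˣ)
  · rw [← map_pow, ← Units.val_pow_eq_pow_val, pow_card_eq_one, Units.val_one, map_one]
  · exact Fintype.card_ne_zero

/-- classification of the irreducible characters of GL2 -/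
theorem gl2_irr_classification [Fintype F] [DecidableEq F] {χ : GL (Fin 2) F → ℂ}
    (hχ : IsIrrCharacter (GL (Fin 2) F) χ) :
    (∃ γ : MulChar F ℂ, χ = gl2DetHom γ) ∨ (∃ γ : MulChar F ℂ, χ = gl2St γ) ∨
    (∃ α β : MulChar F ℂ, α ≠ β ∧ χ = indFun (gl2Borel F) (gl2BorelChar α β)) ∨
    (Gl2Cuspidal χ ∧ χ 1 = (Fintype.card F : ℂ) - 1) := by
  classical
  have : Fintype (IrrCharacter (GL (Fin 2) F)) := Fintype.ofFinite _
  have : Fintype (MulChar F ℂ) := Fintype.ofFinite _
  by_cases hk : (⟨χ, hχ⟩ : IrrCharacter (GL (Fin 2) F)) ∈ Finset.univ.image (gl2Known (F := F))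
  · obtain ⟨t, _, ht⟩ := Finset.mem_image.mp hk
    have ht' := congrArg Subtype.val ht
    simp only at ht'
    rcases t with γ | γ | z
    · left; exact ⟨γ, ht'.symm⟩
    · right; left; exact ⟨γ, ht'.symm⟩
    · right; right; left
      obtain ⟨z, hz⟩ := z
      induction z using Sym2.ind with
      | _ α β =>
        exact ⟨α, β, fun h => hz (Sym2.mk_isDiag_iff.mpr h), ht'.symm⟩
  · right; right; right
    have h1 := (gl2_cuspidal_count (F := F)).1 ⟨χ, hχ⟩ hk
    refine ⟨gl2_cuspidal_of_not_known ⟨χ, hχ⟩ ?_, ?_⟩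
    · rintro ⟨t, ht⟩
      exact hk (Finset.mem_image.mpr ⟨t, Finset.mem_univ _, ht⟩)
    · have h2 := helper24.char_charDegree_cast (helper24.irr_isCharacter hχ)
      simp only at h1
      rw [← h2, h1, Nat.cast_sub Fintype.card_pos, Nat.cast_one]

theorem gl2_eq_gl2UT (g : GL (Fin 2) F) (h10 : (g : Matrix (Fin 2) (Fin 2) F) 1 0 = 0) :
    ∃ (a d : Fˣ) (x : F), g = gl2UT a d x ∧ (a : F) = (g : Matrix (Fin 2) (Fin 2) F) 0 0 ∧
      (d : F) = (g : Matrix (Fin 2) (Fin 2) F) 1 1 ∧ x = (g : Matrix (Fin 2) (Fin 2) F) 0 1 := by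
  obtain ⟨⟨⟨a, d⟩, x⟩, h⟩ := gl2UT_surj g h10
  refine ⟨a, d, x, h.symm, ?_, ?_, ?_⟩ <;> rw [← h] <;> rfl

/-- an element without eigenvectors -/
def NoEigenvector (g : GL (Fin 2) F) : Prop :=
  ∀ (c : F) (v : Fin 2 → F), v ≠ 0 → (g : Matrix (Fin 2) (Fin 2) F).mulVec v ≠ c • v

theorem noEigenvector_10 {g : GL (Fin 2) F} (h : NoEigenvector g) : (g : Matrix (Fin 2) (Fin 2) F) 1 0 ≠ 0 := by
  intro h10
  apply h ((g : Matrix (Fin 2) (Fin 2) F) 0 0) ![1, 0]
  · intro hc
    have := congrFun hc 0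
    simp at this
  · ext i
    fin_cases i <;> simp [Matrix.mulVec, dotProduct, Fin.sum_univ_two, h10]

theorem noEigenvector_quad {g : GL (Fin 2) F} (h : NoEigenvector g) (t : F) :
    (g : Matrix (Fin 2) (Fin 2) F) 1 0 * t ^ 2 + ((g : Matrix (Fin 2) (Fin 2) F) 1 1 - (g : Matrix (Fin 2) (Fin 2) F) 0 0) * t
      - (g : Matrix (Fin 2) (Fin 2) F) 0 1 ≠ 0 := by
  intro hq
  apply h ((g : Matrix (Fin 2) (Fin 2) F) 1 0 * t + (g : Matrix (Fin 2) (Fin 2) F) 1 1) ![t, 1]
  · intro hc
    have := congrFun hc 1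
    simp at this
  · ext i
    fin_cases i
    · simp [Matrix.mulVec, dotProduct, Fin.sum_univ_two]
      linear_combination -hq
    · simp [Matrix.mulVec, dotProduct, Fin.sum_univ_two]

theorem gl2_indBorel_noEigenvector [Fintype F] [DecidableEq F] (α β : MulChar F ℂ) {g : GL (Fin 2) F}
    (h : NoEigenvector g) : indFun (gl2Borel F) (gl2BorelChar α β) g = 0 := by
  rw [gl2_indBorel_apply, if_neg (noEigenvector_10 h), zero_add]
  apply Finset.sum_eq_zero
  intro t _
  rw [if_neg (noEigenvector_quad h t)]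

theorem gl2_indBorel_split [Fintype F] [DecidableEq F] (α β : MulChar F ℂ) (a d : Fˣ) (had : a ≠ d) :
    indFun (gl2Borel F) (gl2BorelChar α β) (gl2UT a d 0) = α (a : F) * β (d : F) + α (d : F) * β (a : F) := by
  rw [gl2_indBorel_gl2UT]
  congr 1
  rw [Finset.sum_eq_single (0 : F)]
  · simp
  · intro t _ ht
    rw [if_neg]
    intro h0
    have hd : (d : F) - (a : F) ≠ 0 := by
      intro hc
      exact had (Units.ext (sub_eq_zero.mp hc).symm)
    rcases mul_eq_zero.mp h0.symm with h | h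
    · exact hd h
    · exact ht h
  · intro h; exact absurd (Finset.mem_univ _) h

theorem gl2_indBorel_unipotent [Fintype F] [DecidableEq F] (α β : MulChar F ℂ) :
    indFun (gl2Borel F) (gl2BorelChar α β) (gl2UT 1 1 1) = 1 := by
  rw [gl2_indBorel_gl2UT]
  simp

theorem card_cast_facts [Fintype F] :
    (1 : ℂ) ≠ (Fintype.card F : ℂ) ∧ (1 : ℂ) ≠ (Fintype.card F : ℂ) + 1 ∧
    (Fintype.card F : ℂ) ≠ (Fintype.card F : ℂ) + 1 ∧ (Fintype.card F : ℂ) - 1 ≠ (Fintype.card F : ℂ) ∧
    (Fintype.card F : ℂ) - 1 ≠ (Fintype.card F : ℂ) + 1 ∧ (Fintype.card F : ℂ) - 1 ≠ 0 ∧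
    (3 ≤ Fintype.card F → (1 : ℂ) ≠ (Fintype.card F : ℂ) - 1) := by
  obtain ⟨n1, n2, n3⟩ := natCast_card_ne (F := F)
  have hq : (1:ℕ) < Fintype.card F := Fintype.one_lt_card
  refine ⟨n1, n2, n3, ?_, ?_, ?_, ?_⟩
  · intro h
    have : (-1 : ℂ) = 0 := by linear_combination h
    norm_num at this
  · intro h
    have : (2 : ℂ) = 0 := by linear_combination -h
    norm_num at this
  · intro h
    apply n1
    linear_combination -h
  · intro h3 h
    have : (Fintype.card F : ℂ) = 2 := by linear_combination -h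
    have : Fintype.card F = 2 := by exact_mod_cast this
    omega

/-- S2310 -/
theorem gl2_values_at_transvection [Fintype F] (hq : 3 ≤ Fintype.card F) (χ : GL (Fin 2) F → ℂ)
    (hχ : IsIrrCharacter (GL (Fin 2) F) χ) (u : GL (Fin 2) F) (hu : (u : Matrix (Fin 2) (Fin 2) F) = !![1, 1; 0, 1]) :
    (χ 1 = 1 → χ u = 1) ∧ (χ 1 = (Fintype.card F : ℂ) + 1 → χ u = 1) ∧
    (χ 1 = (Fintype.card F : ℂ) - 1 → χ u = -1) ∧ (χ 1 = (Fintype.card F : ℂ) → χ u = 0) := by
  classical
  obtain ⟨n1, n2, n3, n4, n5, n6, n7⟩ := card_cast_facts (F := F)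
  have hu' : u = gl2UT 1 1 1 := by
    apply Units.ext
    rw [hu, gl2UT_coe]
    simp
  subst hu'
  have hdet : ∀ γ : MulChar F ℂ, gl2DetHom γ (gl2UT 1 1 1) = 1 := by
    intro γ
    rw [gl2DetHom_apply, gl2UT_coe]
    simp
  have hSt : ∀ γ : MulChar F ℂ, gl2St γ (gl2UT 1 1 1) = 0 := by
    intro γ
    unfold gl2St
    rw [Pi.sub_apply, gl2_indBorel_unipotent, hdet, sub_self]
  rcases gl2_irr_classification hχ with ⟨γ, rfl⟩ | ⟨γ, rfl⟩ | ⟨α, β, hab, rfl⟩ | ⟨hc, h1⟩
  · refine ⟨fun _ => hdet γ, fun h => ?_, fun h => ?_, fun h => ?_⟩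
    · rw [gl2DetHom_one] at h; exact absurd h n2
    · rw [gl2DetHom_one] at h; exact absurd h (n7 hq)
    · rw [gl2DetHom_one] at h; exact absurd h n1
  · refine ⟨fun h => ?_, fun h => ?_, fun h => ?_, fun _ => hSt γ⟩
    · rw [gl2St_one] at h; exact absurd h.symm n1
    · rw [gl2St_one] at h; exact absurd h n3
    · rw [gl2St_one] at h; exact absurd h.symm n4
  · refine ⟨fun h => ?_, fun _ => gl2_indBorel_unipotent α β, fun h => ?_, fun h => ?_⟩
    · rw [gl2_indBorel_one] at h; exact absurd h.symm n2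
    · rw [gl2_indBorel_one] at h; exact absurd h.symm n5
    · rw [gl2_indBorel_one] at h; exact absurd h.symm n3
  · have hun := gl2_cuspidal_unipotent (helper24.char_isClassFunction (helper24.irr_isCharacter hχ)) hc
    rw [h1] at hun
    have hval : χ (gl2UT 1 1 1) = -1 := by
      have : ((Fintype.card F : ℂ) - 1) * (1 + χ (gl2UT 1 1 1)) = 0 := by linear_combination hun
      rcases mul_eq_zero.mp this with h | h
      · exact absurd h n6
      · linear_combination h
    refine ⟨fun h => ?_, fun h => ?_, fun _ => hval, fun h => ?_⟩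
    · rw [h1] at h; exact absurd h.symm (n7 hq)
    · rw [h1] at h; exact absurd h n5
    · rw [h1] at h; exact absurd h n4

/-- S2309 -/
theorem gl2_character_zeros [Fintype F] (χ : GL (Fin 2) F → ℂ)
    (hχ : IsIrrCharacter (GL (Fin 2) F) χ) (g : GL (Fin 2) F) :
    (χ 1 = (Fintype.card F : ℂ) - 1 → (g : Matrix (Fin 2) (Fin 2) F) 0 1 = 0 → (g : Matrix (Fin 2) (Fin 2) F) 1 0 = 0 →
      (g : Matrix (Fin 2) (Fin 2) F) 0 0 ≠ (g : Matrix (Fin 2) (Fin 2) F) 1 1 → χ g = 0) ∧
    (χ 1 = (Fintype.card F : ℂ) + 1 →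
      (∀ (c : F) (v : Fin 2 → F), v ≠ 0 → (g : Matrix (Fin 2) (Fin 2) F).mulVec v ≠ c • v) → χ g = 0) := by
  classical
  obtain ⟨n1, n2, n3, n4, n5, n6, n7⟩ := card_cast_facts (F := F)
  constructor
  · intro h1 h01 h10 hne
    obtain ⟨a, d, x, rfl, ha, hd, hx⟩ := gl2_eq_gl2UT g h10
    have hx0 : x = 0 := by rw [hx, h01]
    subst hx0
    have had : a ≠ d := by
      intro h
      apply hne
      rw [← ha, ← hd, h]
    rcases gl2_irr_classification hχ with ⟨γ, rfl⟩ | ⟨γ, rfl⟩ | ⟨α, β, hab, rfl⟩ | ⟨hc, _⟩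
    · exfalso
      rw [gl2DetHom_one] at h1
      have h2 : (Fintype.card F : ℂ) = 2 := by linear_combination -h1
      have h3 : Fintype.card F = 2 := by exact_mod_cast h2
      have h4 : Fintype.card Fˣ = 1 := by rw [Fintype.card_units, h3]
      have : Subsingleton Fˣ := Fintype.card_le_one_iff_subsingleton.mp h4.le
      exact had (Subsingleton.elim a d)
    · rw [gl2St_one] at h1; exact absurd h1.symm n4
    · rw [gl2_indBorel_one] at h1; exact absurd h1.symm n5
    · exact gl2_cuspidal_split (helper24.char_isClassFunction (helper24.irr_isCharacter hχ)) hc a d had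
  · intro h1 hne
    rcases gl2_irr_classification hχ with ⟨γ, rfl⟩ | ⟨γ, rfl⟩ | ⟨α, β, hab, rfl⟩ | ⟨hc, h2⟩
    · rw [gl2DetHom_one] at h1; exact absurd h1 n2
    · rw [gl2St_one] at h1; exact absurd h1 n3
    · exact gl2_indBorel_noEigenvector α β hne
    · rw [h2] at h1; exact absurd h1 n5

/-- S2320 -/
theorem gl2_degree_q_values [Fintype F] (χ : GL (Fin 2) F → ℂ)
    (hχ : IsIrrCharacter (GL (Fin 2) F) χ) (hdeg : χ 1 = (Fintype.card F : ℂ)) (g : GL (Fin 2) F) :
    ((g : Matrix (Fin 2) (Fin 2) F) 0 1 = 0 → (g : Matrix (Fin 2) (Fin 2) F) 1 0 = 0 →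
      (g : Matrix (Fin 2) (Fin 2) F) 0 0 ≠ (g : Matrix (Fin 2) (Fin 2) F) 1 1 → ‖χ g‖ = 1) ∧
    ((∀ (c : F) (v : Fin 2 → F), v ≠ 0 → (g : Matrix (Fin 2) (Fin 2) F).mulVec v ≠ c • v) → ‖χ g‖ = 1) := by
  classical
  obtain ⟨n1, n2, n3, n4, n5, n6, n7⟩ := card_cast_facts (F := F)
  have hSt : ∃ γ : MulChar F ℂ, χ = gl2St γ := by
    rcases gl2_irr_classification hχ with ⟨γ, rfl⟩ | ⟨γ, rfl⟩ | ⟨α, β, hab, rfl⟩ | ⟨hc, h2⟩
    · rw [gl2DetHom_one] at hdeg; exact absurd hdeg n1
    · exact ⟨γ, rfl⟩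
    · rw [gl2_indBorel_one] at hdeg; exact absurd hdeg.symm n3
    · rw [h2] at hdeg; exact absurd hdeg n4
  obtain ⟨γ, rfl⟩ := hSt
  constructor
  · intro h01 h10 hne
    obtain ⟨a, d, x, rfl, ha, hd, hx⟩ := gl2_eq_gl2UT g h10
    have hx0 : x = 0 := by rw [hx, h01]
    subst hx0
    have had : a ≠ d := by
      intro h
      apply hne
      rw [← ha, ← hd, h]
    have : gl2St γ (gl2UT a d 0) = γ ((a * d : Fˣ) : F) := by
      unfold gl2St
      rw [Pi.sub_apply, gl2_indBorel_split γ γ a d had, gl2DetHom_apply, gl2UT_coe]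
      simp
      ring
    rw [this]
    exact mulChar_norm_unit γ _
  · intro hne
    have : gl2St γ g = - γ ((g : Matrix (Fin 2) (Fin 2) F).det) := by
      unfold gl2St
      rw [Pi.sub_apply, gl2_indBorel_noEigenvector γ γ hne, zero_sub]
      rfl
    rw [this, norm_neg]
    have hdet : (g : Matrix (Fin 2) (Fin 2) F).det ≠ 0 := by
      have := (Matrix.GeneralLinearGroup.det g).ne_zero
      simpa using this
    have := mulChar_norm_unit γ (Units.mk0 _ hdet)
    simpa using this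

/-- S2298 -/
theorem gl2_degrees [Fintype F] :
    (∀ χ : Matrix.GeneralLinearGroup (Fin 2) F → ℂ, Cfsg.IsIrrCharacter (Matrix.GeneralLinearGroup (Fin 2) F) χ →
      χ 1 = 1 ∨ χ 1 = (Fintype.card F : ℂ) - 1 ∨ χ 1 = (Fintype.card F : ℂ) ∨ χ 1 = (Fintype.card F : ℂ) + 1) ∧
    (3 ≤ Fintype.card F →
      Nat.card {χ : Cfsg.IrrCharacter (Matrix.GeneralLinearGroup (Fin 2) F) // (χ : Matrix.GeneralLinearGroup (Fin 2) F → ℂ) 1 = 1} = Fintype.card F - 1 ∧
      Nat.card {χ : Cfsg.IrrCharacter (Matrix.GeneralLinearGroup (Fin 2) F) // (χ : Matrix.GeneralLinearGroup (Fin 2) F → ℂ) 1 = (Fintype.card F : ℂ)} = Fintype.card F - 1 ∧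
      Nat.card {χ : Cfsg.IrrCharacter (Matrix.GeneralLinearGroup (Fin 2) F) // (χ : Matrix.GeneralLinearGroup (Fin 2) F → ℂ) 1 = (Fintype.card F : ℂ) + 1} = (Fintype.card F - 1) * (Fintype.card F - 2) / 2 ∧
      Nat.card {χ : Cfsg.IrrCharacter (Matrix.GeneralLinearGroup (Fin 2) F) // (χ : Matrix.GeneralLinearGroup (Fin 2) F → ℂ) 1 = (Fintype.card F : ℂ) - 1} = Fintype.card F * (Fintype.card F - 1) / 2) := by
  classical
  obtain ⟨n1, n2, n3, n4, n5, n6, n7⟩ := card_cast_facts (F := F)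
  have : Fintype (IrrCharacter (GL (Fin 2) F)) := Fintype.ofFinite _
  have : Fintype (MulChar F ℂ) := Fintype.ofFinite _
  constructor
  · intro χ hχ
    rcases gl2_irr_classification hχ with ⟨γ, rfl⟩ | ⟨γ, rfl⟩ | ⟨α, β, hab, rfl⟩ | ⟨hc, h2⟩
    · left; exact gl2DetHom_one γ
    · right; right; left; exact gl2St_one γ
    · right; right; right; exact gl2_indBorel_one α β
    · right; left; exact h2
  · intro hq
    -- degree of the known characters
    have hdeg : ∀ t, ((gl2Known (F := F) t : IrrCharacter (GL (Fin 2) F)) : GL (Fin 2) F → ℂ) 1 =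
        Sum.elim (fun _ => (1 : ℂ)) (Sum.elim (fun _ => (Fintype.card F : ℂ)) (fun _ => (Fintype.card F : ℂ) + 1)) t := by
      rintro (γ | γ | z)
      · exact gl2DetHom_one γ
      · exact gl2St_one γ
      · exact gl2IndSym_one z.1
    have hcusp : ∀ χ : IrrCharacter (GL (Fin 2) F), χ ∉ Finset.univ.image (gl2Known (F := F)) →
        (χ : GL (Fin 2) F → ℂ) 1 = (Fintype.card F : ℂ) - 1 := by
      intro χ hχ
      have h1 := (gl2_cuspidal_count (F := F)).1 χ hχ
      have h2 := helper24.char_charDegree_cast (helper24.irr_isCharacter χ.2)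
      rw [← h2, h1, Nat.cast_sub Fintype.card_pos, Nat.cast_one]
    have hM : Fintype.card (MulChar F ℂ) = Fintype.card F - 1 := by
      rw [← Nat.card_eq_fintype_card, mulChar_card]
    refine ⟨?_, ?_, ?_, ?_⟩
    · rw [← mulChar_card (F := F)]
      symm
      apply Nat.card_congr
      refine Equiv.ofBijective (fun γ => ⟨gl2Known (Sum.inl γ), hdeg (Sum.inl γ)⟩) ⟨?_, ?_⟩
      · intro γ γ' h
        have h' : gl2Known (F := F) (Sum.inl γ) = gl2Known (Sum.inl γ') := congrArg Subtype.val h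
        exact Sum.inl_injective (gl2Known_injective h')
      · rintro ⟨χ, hχ⟩
        by_cases hk : χ ∈ Finset.univ.image (gl2Known (F := F))
        · obtain ⟨t, _, rfl⟩ := Finset.mem_image.mp hk
          rw [hdeg] at hχ
          rcases t with γ | γ | z
          · exact ⟨γ, rfl⟩
          · exact absurd hχ.symm n1
          · exact absurd hχ.symm n2
        · rw [hcusp χ hk] at hχ
          exact absurd hχ.symm (n7 hq)
    · rw [← mulChar_card (F := F)]
      symm
      apply Nat.card_congr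
      refine Equiv.ofBijective (fun γ => ⟨gl2Known (Sum.inr (Sum.inl γ)), hdeg (Sum.inr (Sum.inl γ))⟩) ⟨?_, ?_⟩
      · intro γ γ' h
        have h' : gl2Known (F := F) (Sum.inr (Sum.inl γ)) = gl2Known (Sum.inr (Sum.inl γ')) := congrArg Subtype.val h
        exact Sum.inl_injective (Sum.inr_injective (gl2Known_injective h'))
      · rintro ⟨χ, hχ⟩
        by_cases hk : χ ∈ Finset.univ.image (gl2Known (F := F))
        · obtain ⟨t, _, rfl⟩ := Finset.mem_image.mp hk
          rw [hdeg] at hχ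
          rcases t with γ | γ | z
          · exact absurd hχ n1
          · exact ⟨γ, rfl⟩
          · exact absurd hχ.symm n3
        · rw [hcusp χ hk] at hχ
          exact absurd hχ n4
    · have hS : Nat.card {z : Sym2 (MulChar F ℂ) // ¬ z.IsDiag} = (Fintype.card F - 1) * (Fintype.card F - 2) / 2 := by
        rw [Nat.card_eq_fintype_card, Sym2.card_subtype_not_diag, hM, Nat.choose_two_right]
        rfl
      rw [← hS]
      symm
      apply Nat.card_congr
      refine Equiv.ofBijective (fun z => ⟨gl2Known (Sum.inr (Sum.inr z)), hdeg (Sum.inr (Sum.inr z))⟩) ⟨?_, ?_⟩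
      · intro z z' h
        have h' : gl2Known (F := F) (Sum.inr (Sum.inr z)) = gl2Known (Sum.inr (Sum.inr z')) := congrArg Subtype.val h
        exact Sum.inr_injective (Sum.inr_injective (gl2Known_injective h'))
      · rintro ⟨χ, hχ⟩
        by_cases hk : χ ∈ Finset.univ.image (gl2Known (F := F))
        · obtain ⟨t, _, rfl⟩ := Finset.mem_image.mp hk
          rw [hdeg] at hχ
          rcases t with γ | γ | z
          · exact absurd hχ n2
          · exact absurd hχ n3
          · exact ⟨z, rfl⟩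
        · rw [hcusp χ hk] at hχ
          exact absurd hχ n5
    · have h2 := (gl2_cuspidal_count (F := F)).2
      have hfilter : Finset.univ.filter (fun χ : IrrCharacter (GL (Fin 2) F) => (χ : GL (Fin 2) F → ℂ) 1 = (Fintype.card F : ℂ) - 1)
          = (Finset.univ.image (gl2Known (F := F)))ᶜ := by
        ext χ
        simp only [Finset.mem_filter, Finset.mem_univ, true_and, Finset.mem_compl]
        constructor
        · intro hχ hk
          obtain ⟨t, _, rfl⟩ := Finset.mem_image.mp hk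
          rw [hdeg] at hχ
          rcases t with γ | γ | z
          · exact (n7 hq) hχ
          · exact n4 hχ.symm
          · exact n5 hχ.symm
        · intro hk
          exact hcusp χ hk
      rw [Nat.card_eq_fintype_card, Fintype.card_subtype, hfilter]
      omega

end Cfsg.Agent.helper12
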