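import Mathlib

set_option autoImplicit false

namespace Cfsg.Agent.helper13

open Module

section abstractPart
variable {K V : Type*} [Field K] [AddCommGroup V] [Module K V] [FiniteDimensional K V]

theorem finrank_ker_pow_succ_le (f : Module.End K V) (k : ℕ) :
    finrank K (LinearMap.ker (f ^ (k + 1))) ≤
      finrank K (LinearMap.ker (f ^ k)) + finrank K (LinearMap.ker f) := by
  have h1 : LinearMap.ker (f ^ (k + 1)) = Submodule.comap f (LinearMap.ker (f ^ k)) := by
    rw [pow_succ, Module.End.mul_eq_comp, LinearMap.ker_comp]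
  rw [h1]
  have h := LinearMap.lift_rank_comap_le (f := f) (LinearMap.ker (f ^ k))
  simp only [Cardinal.lift_id] at h
  rw [← finrank_eq_rank, ← finrank_eq_rank, ← finrank_eq_rank] at h
  exact_mod_cast h

theorem finrank_ker_pow_le (f : Module.End K V) (hker : finrank K (LinearMap.ker f) ≤ 1) (k : ℕ) :
    finrank K (LinearMap.ker (f ^ k)) ≤ k := by
  induction k with
  | zero =>
    rw [pow_zero, Module.End.one_eq_id, LinearMap.ker_id, finrank_bot]
  | succ k ih =>
    have := finrank_ker_pow_succ_le f k
    omega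

theorem finrank_ker_pow_add_le (f : Module.End K V) (hker : finrank K (LinearMap.ker f) ≤ 1)
    (k j : ℕ) :
    finrank K (LinearMap.ker (f ^ (k + j))) ≤ finrank K (LinearMap.ker (f ^ k)) + j := by
  induction j with
  | zero => simp
  | succ j ih =>
    have := finrank_ker_pow_succ_le f (k + j)
    rw [← add_assoc]
    omega

theorem finrank_ker_pow_eq (f : Module.End K V) {n : ℕ} (hn : finrank K V = n) (hnil : f ^ n = 0)
    (hker : finrank K (LinearMap.ker f) ≤ 1) {k : ℕ} (hk : k ≤ n) :
    finrank K (LinearMap.ker (f ^ k)) = k := by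
  apply le_antisymm (finrank_ker_pow_le f hker k)
  have h1 := finrank_ker_pow_add_le f hker k (n - k)
  rw [Nat.add_sub_cancel' hk, hnil, LinearMap.ker_zero, finrank_top, hn] at h1
  omega

theorem invariant_eq_ker_pow (f : Module.End K V) {n : ℕ} (hn : finrank K V = n)
    (hnil : f ^ n = 0) (hker : finrank K (LinearMap.ker f) ≤ 1) (W : Submodule K V)
    (hW : ∀ v ∈ W, f v ∈ W) :
    W = LinearMap.ker (f ^ finrank K W) := by
  have hd : finrank K W ≤ n := hn ▸ Submodule.finrank_le W
  have hle : W ≤ LinearMap.ker (f ^ finrank K W) := by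
    let g : Module.End K W := f.restrict hW
    have hgpow : ∀ k (w : W), (((g ^ k) w : W) : V) = (f ^ k) (w : V) := by
      intro k
      induction k with
      | zero => intro w; simp
      | succ k ih =>
        intro w
        rw [pow_succ', pow_succ', Module.End.mul_apply, Module.End.mul_apply, ← ih]
        rfl
    have hgn : g ^ n = 0 := by
      ext w
      rw [hgpow, hnil]
      simp
    have hgd : g ^ finrank K W = 0 := by
      have h1 := Module.End.ker_pow_le_ker_pow_finrank g n
      rw [hgn, LinearMap.ker_zero] at h1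
      exact LinearMap.ker_eq_top.mp (top_le_iff.mp h1)
    intro w hw
    rw [LinearMap.mem_ker]
    have := hgpow (finrank K W) ⟨w, hw⟩
    rw [hgd] at this
    simpa using this.symm
  exact Submodule.eq_of_le_of_finrank_eq hle (by rw [finrank_ker_pow_eq f hn hnil hker hd])

end abstractPart

section matrixPart
set_option linter.unusedSectionVars false
variable {K : Type*} [Field K] {ι : Type*} [Fintype ι] [DecidableEq ι] {n : ℕ}

theorem mulVecLin_pow (N : Matrix ι ι K) (k : ℕ) :
    Matrix.mulVecLin (N ^ k) = (Matrix.mulVecLin N : Module.End K (ι → K)) ^ k := by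
  induction k with
  | zero => rw [pow_zero, pow_zero, Matrix.mulVecLin_one]; rfl
  | succ k ih => rw [pow_succ, pow_succ, Matrix.mulVecLin_mul, ih]; rfl

theorem finrank_ker_mulVecLin_le_one (hι : Fintype.card ι = n) (N : Matrix ι ι K)
    (hreg : N.rank = n - 1) :
    finrank K (LinearMap.ker (Matrix.mulVecLin N)) ≤ 1 := by
  have h := LinearMap.finrank_range_add_finrank_ker (Matrix.mulVecLin N)
  rw [Module.finrank_fintype_fun_eq_card, hι] at h
  have h2 : finrank K (LinearMap.range (Matrix.mulVecLin N)) = n - 1 := hreg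
  omega

theorem finrank_fun_eq (hι : Fintype.card ι = n) : finrank K (ι → K) = n := by
  rw [Module.finrank_fintype_fun_eq_card, hι]

/-- kernel dimensions of powers of a regular nilpotent matrix. -/
theorem regnil_finrank_ker (hι : Fintype.card ι = n) (N : Matrix ι ι K) (hnil : N ^ n = 0)
    (hreg : N.rank = n - 1) {k : ℕ} (hk : k ≤ n) :
    finrank K (LinearMap.ker (Matrix.mulVecLin (N ^ k))) = k := by
  rw [mulVecLin_pow]
  apply finrank_ker_pow_eq _ (finrank_fun_eq hι) _ (finrank_ker_mulVecLin_le_one hι N hreg) hk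
  rw [← mulVecLin_pow, hnil]
  exact Matrix.mulVecLin_zero

/-- invariant subspaces of a regular nilpotent matrix. -/
theorem regnil_invariant (hι : Fintype.card ι = n) (N : Matrix ι ι K) (hnil : N ^ n = 0)
    (hreg : N.rank = n - 1) (W : Submodule K (ι → K)) (hW : ∀ v ∈ W, N.mulVec v ∈ W) :
    W = LinearMap.ker (Matrix.mulVecLin (N ^ finrank K W)) := by
  rw [mulVecLin_pow]
  apply invariant_eq_ker_pow _ (finrank_fun_eq hι) _ (finrank_ker_mulVecLin_le_one hι N hreg) W hW
  rw [← mulVecLin_pow, hnil]
  exact Matrix.mulVecLin_zero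

theorem regnil_pow_mulVec_ne_zero (hι : Fintype.card ι = n) (N : Matrix ι ι K) (hnil : N ^ n = 0)
    (hreg : N.rank = n - 1) (hn : 1 ≤ n) : ∃ v : ι → K, (N ^ (n - 1)).mulVec v ≠ 0 := by
  by_contra h
  push Not at h
  have h1 : LinearMap.ker (Matrix.mulVecLin (N ^ (n - 1))) = ⊤ := by
    rw [eq_top_iff]
    intro v _
    rw [LinearMap.mem_ker, Matrix.mulVecLin_apply]
    exact h v
  have h2 := regnil_finrank_ker hι N hnil hreg (k := n - 1) (by omega)
  rw [h1, finrank_top, finrank_fun_eq hι] at h2
  omega

/-- the range of a power of a regular nilpotent matrix is the kernel of the complementary power. -/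
theorem regnil_range_eq_ker (hι : Fintype.card ι = n) (N : Matrix ι ι K) (hnil : N ^ n = 0)
    (hreg : N.rank = n - 1) {k : ℕ} (hk : k ≤ n) :
    LinearMap.range (Matrix.mulVecLin (N ^ (n - k))) = LinearMap.ker (Matrix.mulVecLin (N ^ k)) := by
  have hle : LinearMap.range (Matrix.mulVecLin (N ^ (n - k))) ≤
      LinearMap.ker (Matrix.mulVecLin (N ^ k)) := by
    rintro _ ⟨x, rfl⟩
    rw [LinearMap.mem_ker, Matrix.mulVecLin_apply, Matrix.mulVecLin_apply, Matrix.mulVec_mulVec,
      ← pow_add, Nat.add_sub_cancel' hk, hnil, Matrix.zero_mulVec]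
  apply Submodule.eq_of_le_of_finrank_eq hle
  have h := LinearMap.finrank_range_add_finrank_ker (Matrix.mulVecLin (N ^ (n - k)))
  rw [finrank_fun_eq hι, regnil_finrank_ker hι N hnil hreg (Nat.sub_le n k)] at h
  rw [regnil_finrank_ker hι N hnil hreg hk]
  omega

end matrixPart

end Cfsg.Agent.helper13
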