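import Mathlib
import Cfsg.Agent.Lib_helper13_RegNil

set_option autoImplicit false

namespace Cfsg.Agent.helper13

open Module Matrix

section cyc
set_option linter.unusedSectionVars false
variable {K : Type*} [Field K] {ι : Type*} [Fintype ι] [DecidableEq ι] {n : ℕ}

/-- The cyclic span of a vector under a matrix. -/
def cycSpan (N : Matrix ι ι K) (v : ι → K) : Submodule K (ι → K) :=
  Submodule.span K (Set.range fun i : ℕ => (N ^ i) *ᵥ v)

theorem cycSpan_invariant (N : Matrix ι ι K) (v : ι → K) :
    ∀ w ∈ cycSpan N v, N *ᵥ w ∈ cycSpan N v := by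
  intro w hw
  unfold cycSpan at hw ⊢
  induction hw using Submodule.span_induction with
  | mem x hx =>
    obtain ⟨i, rfl⟩ := hx
    apply Submodule.subset_span
    refine ⟨i + 1, ?_⟩
    simp only
    rw [mulVec_mulVec, ← pow_succ']
  | zero => rw [mulVec_zero]; exact Submodule.zero_mem _
  | add x y _ _ hx hy => rw [mulVec_add]; exact Submodule.add_mem _ hx hy
  | smul c x _ hx => rw [mulVec_smul]; exact Submodule.smul_mem _ c hx

theorem cycSpan_eq_top (hι : Fintype.card ι = n) (N : Matrix ι ι K) (hnil : N ^ n = 0)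
    (hreg : N.rank = n - 1) (hn : 1 ≤ n) (v : ι → K) (hv : (N ^ (n - 1)) *ᵥ v ≠ 0) :
    cycSpan N v = ⊤ := by
  have h1 := regnil_invariant hι N hnil hreg (cycSpan N v) (cycSpan_invariant N v)
  have hvmem : v ∈ cycSpan N v := by
    apply Submodule.subset_span
    exact ⟨0, by simp⟩
  have hdn : finrank K (cycSpan N v) ≤ n := by
    have := Submodule.finrank_le (cycSpan N v)
    rw [finrank_fun_eq hι] at this
    exact this
  generalize finrank K (cycSpan N v) = d at h1 hdn
  by_cases hlt : d ≤ n - 1
  · exfalso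
    rw [h1, LinearMap.mem_ker, mulVecLin_apply] at hvmem
    apply hv
    have : n - 1 = (n - 1 - d) + d := by omega
    rw [this, pow_add, ← mulVec_mulVec, hvmem, mulVec_zero]
  · have hdeq : d = n := by omega
    rw [h1, hdeq, hnil]
    ext w
    simp

theorem eq_of_commute_of_mulVec_eq (N A B : Matrix ι ι K) (v : ι → K) (hs : cycSpan N v = ⊤)
    (hA : A * N = N * A) (hB : B * N = N * B) (h : A *ᵥ v = B *ᵥ v) : A = B := by
  apply Matrix.mulVec_injective
  funext w
  have hw : w ∈ cycSpan N v := hs ▸ Submodule.mem_top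
  unfold cycSpan at hw
  induction hw using Submodule.span_induction with
  | mem x hx =>
    obtain ⟨i, rfl⟩ := hx
    simp only
    have hAi : A * N ^ i = N ^ i * A := (Commute.pow_right (show Commute A N from hA) i).eq
    have hBi : B * N ^ i = N ^ i * B := (Commute.pow_right (show Commute B N from hB) i).eq
    rw [mulVec_mulVec, mulVec_mulVec, hAi, hBi, ← mulVec_mulVec, ← mulVec_mulVec, h]
  | zero => simp
  | add x y _ _ hx hy => rw [mulVec_add, mulVec_add, hx, hy]
  | smul c x _ hx => rw [mulVec_smul, mulVec_smul, hx]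

theorem regnil_pow_pred_ne_zero (hι : Fintype.card ι = n) (N : Matrix ι ι K) (hnil : N ^ n = 0)
    (hreg : N.rank = n - 1) (hn : 1 ≤ n) : N ^ (n - 1) ≠ 0 := by
  obtain ⟨v, hv⟩ := regnil_pow_mulVec_ne_zero hι N hnil hreg hn
  intro h
  apply hv
  rw [h, zero_mulVec]

theorem regnil_minpoly (hι : Fintype.card ι = n) (N : Matrix ι ι K) (hnil : N ^ n = 0)
    (hreg : N.rank = n - 1) (hn : 1 ≤ n) : minpoly K N = Polynomial.X ^ n := by
  have hint : IsIntegral K N := Matrix.isIntegral N
  have hdvd : minpoly K N ∣ Polynomial.X ^ n := minpoly.dvd K N (by simp [hnil])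
  obtain ⟨j, hj, hassoc⟩ := (dvd_prime_pow Polynomial.prime_X n).mp hdvd
  have heq : minpoly K N = Polynomial.X ^ j :=
    Polynomial.eq_of_monic_of_associated (minpoly.monic hint) (Polynomial.monic_X_pow j) hassoc
  have hNj : N ^ j = 0 := by
    have := minpoly.aeval K N
    rw [heq] at this
    simpa using this
  have : j = n := by
    by_contra hne
    have hjlt : j ≤ n - 1 := by omega
    apply regnil_pow_pred_ne_zero hι N hnil hreg hn
    have : n - 1 = (n - 1 - j) + j := by omega
    rw [this, pow_add, hNj, mul_zero]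
  rw [heq, this]

/-- polynomial in `N` with given coefficients. -/
def polyMat (N : Matrix ι ι K) {n : ℕ} (c : Fin n → K) : Matrix ι ι K :=
  ∑ i : Fin n, c i • N ^ (i : ℕ)

theorem polyMat_comm (N : Matrix ι ι K) {n : ℕ} (c : Fin n → K) :
    polyMat N c * N = N * polyMat N c := by
  unfold polyMat
  rw [Finset.sum_mul, Finset.mul_sum]
  apply Finset.sum_congr rfl
  intro i _
  rw [smul_mul_assoc, mul_smul_comm, ← pow_succ, ← pow_succ']

theorem regnil_polyMat_injective (hι : Fintype.card ι = n) (N : Matrix ι ι K) (hnil : N ^ n = 0)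
    (hreg : N.rank = n - 1) (hn : 1 ≤ n) :
    Function.Injective (fun c : Fin n → K => polyMat N c) := by
  have hli := linearIndependent_pow (K := K) N
  have hdeg : (minpoly K N).natDegree = n := by
    rw [regnil_minpoly hι N hnil hreg hn, Polynomial.natDegree_X_pow]
  have key : ∀ d, d = n → LinearIndependent K (fun i : Fin d => N ^ (i : ℕ)) →
      LinearIndependent K (fun i : Fin n => N ^ (i : ℕ)) := by
    rintro d rfl h
    exact h
  have hli' := key _ hdeg hli
  have := hli'.fintypeLinearCombination_injective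
  intro c c' hcc
  apply this
  simp only [Fintype.linearCombination_apply]
  exact hcc

theorem regnil_exists_polyMat [Finite K] (hι : Fintype.card ι = n) (N : Matrix ι ι K)
    (hnil : N ^ n = 0) (hreg : N.rank = n - 1) (hn : 1 ≤ n) (A : Matrix ι ι K)
    (hA : A * N = N * A) : ∃ c : Fin n → K, polyMat N c = A := by
  classical
  obtain ⟨v, hv⟩ := regnil_pow_mulVec_ne_zero hι N hnil hreg hn
  have hs := cycSpan_eq_top hι N hnil hreg hn v hv
  let Ψ : (Fin n → K) → {A : Matrix ι ι K // A * N = N * A} := fun c => ⟨polyMat N c, polyMat_comm N c⟩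
  let E : {A : Matrix ι ι K // A * N = N * A} → (ι → K) := fun A => A.1 *ᵥ v
  have hΨ : Function.Injective Ψ := by
    intro c c' h
    exact regnil_polyMat_injective hι N hnil hreg hn (congrArg Subtype.val h)
  have hE : Function.Injective E := by
    intro A B h
    exact Subtype.ext (eq_of_commute_of_mulVec_eq N A.1 B.1 v hs A.2 B.2 h)
  have hcard : Nat.card {A : Matrix ι ι K // A * N = N * A} ≤ Nat.card (Fin n → K) := by
    have h1 := Nat.card_le_card_of_injective E hE
    have h2 : Nat.card (ι → K) = Nat.card (Fin n → K) := by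
      rw [Nat.card_fun, Nat.card_fun, Nat.card_eq_fintype_card (α := ι), hι, Nat.card_eq_fintype_card (α := Fin n), Fintype.card_fin]
    rw [h2] at h1
    exact h1
  have hbij := hΨ.bijective_of_nat_card_le hcard
  obtain ⟨c, hc⟩ := hbij.2 ⟨A, hA⟩
  exact ⟨c, congrArg Subtype.val hc⟩

theorem isUnit_polyMat_iff (k : ℕ) (hι : Fintype.card ι = k + 1) (N : Matrix ι ι K)
    (hnil : N ^ (k + 1) = 0) (c : Fin (k + 1) → K) : IsUnit (polyMat N c) ↔ c 0 ≠ 0 := by
  have hne : Nonempty ι := by
    rw [← Fintype.card_pos_iff, hι]; omega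
  set B : Matrix ι ι K := ∑ i : Fin k, c i.succ • N ^ (i : ℕ) with hB
  have hsplit : polyMat N c = c 0 • 1 + N * B := by
    unfold polyMat
    rw [Fin.sum_univ_succ, Fin.val_zero, pow_zero, hB, Finset.mul_sum]
    congr 1
    apply Finset.sum_congr rfl
    intro i _
    rw [mul_smul_comm, Fin.val_succ, pow_succ']
  have hcomm : Commute N B := by
    rw [hB]
    apply Commute.sum_right
    intro i _
    exact (Commute.pow_right (Commute.refl N) i).smul_right (c i.succ)
  have hnilNB : IsNilpotent (N * B) := ⟨k + 1, by rw [hcomm.mul_pow, hnil, zero_mul]⟩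
  rw [hsplit]
  constructor
  · intro hu h0
    rw [h0, zero_smul, zero_add] at hu
    obtain ⟨j, hj⟩ := hnilNB
    have := hu.pow j
    rw [hj] at this
    exact not_isUnit_zero this
  · intro h0
    apply hnilNB.isUnit_add_left_of_commute
    · rw [isUnit_iff_exists]
      refine ⟨(c 0)⁻¹ • 1, ?_, ?_⟩
      · rw [smul_mul_smul_comm, mul_inv_cancel₀ h0, one_smul, mul_one]
      · rw [smul_mul_smul_comm, inv_mul_cancel₀ h0, one_smul, mul_one]
    · exact (Commute.smul_right (Commute.one_right (N * B)) (c 0))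

end cyc

end Cfsg.Agent.helper13
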